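import Mathlib
import Cfsg.Agent.Lib_helper13_RegNil2

set_option autoImplicit false

namespace Cfsg.Agent.helper13

open Module Matrix

section dets
variable {K : Type*} [Field K] {ι : Type*} [Fintype ι] [DecidableEq ι]

theorem det_smul_one_add_nilpotent (M : Matrix ι ι K) (hM : IsNilpotent M) (c : K) :
    (c • (1 : Matrix ι ι K) + M).det = c ^ Fintype.card ι := by
  have h1 : IsNilpotent (-M) := hM.neg
  have h2 := Matrix.isNilpotent_charpoly_sub_pow_of_isNilpotent h1
  have h3 : (-M).charpoly = Polynomial.X ^ Fintype.card ι := sub_eq_zero.mp h2.eq_zero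
  have h4 := Matrix.eval_charpoly (-M) c
  rw [h3, Polynomial.eval_pow, Polynomial.eval_X] at h4
  rw [h4, sub_neg_eq_add]
  congr 2
  ext i j
  simp [Matrix.scalar_apply, Matrix.one_apply, Matrix.diagonal_apply]

theorem det_polyMat (k : ℕ) (hι : Fintype.card ι = k + 1) (N : Matrix ι ι K)
    (hnil : N ^ (k + 1) = 0) (c : Fin (k + 1) → K) : (polyMat N c).det = c 0 ^ (k + 1) := by
  set B : Matrix ι ι K := ∑ i : Fin k, c i.succ • N ^ (i : ℕ) with hB
  have hsplit : polyMat N c = c 0 • 1 + N * B := by
    unfold polyMat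
    rw [Fin.sum_univ_succ, Fin.val_zero, pow_zero, hB, Finset.mul_sum]
    congr 1
    apply Finset.sum_congr rfl
    intro i _
    rw [mul_smul_comm, Fin.val_succ, pow_succ']
  have hcomm : Commute N B := by
    rw [hB]
    apply Commute.sum_right
    intro i _
    exact (Commute.pow_right (Commute.refl N) i).smul_right (c i.succ)
  have hnilNB : IsNilpotent (N * B) := ⟨k + 1, by rw [hcomm.mul_pow, hnil, zero_mul]⟩
  rw [hsplit, det_smul_one_add_nilpotent _ hnilNB, hι]

end dets

section shift
variable (K : Type*) [Field K]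

/-- the lower shift matrix. -/
def shiftMat (n : ℕ) : Matrix (Fin n) (Fin n) K :=
  Matrix.of fun i j => if (i : ℕ) = (j : ℕ) + 1 then 1 else 0

theorem shiftMat_pow_apply (n k : ℕ) (i j : Fin n) :
    (shiftMat K n ^ k) i j = if (i : ℕ) = (j : ℕ) + k then 1 else 0 := by
  induction k generalizing i j with
  | zero =>
    rw [pow_zero, Matrix.one_apply, add_zero]
    simp [Fin.ext_iff]
  | succ k ih =>
    rw [pow_succ, Matrix.mul_apply]
    have hS : ∀ l : Fin n, shiftMat K n l j = if (l : ℕ) = (j : ℕ) + 1 then 1 else 0 := fun l => rfl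
    simp only [ih, hS]
    by_cases hj : (j : ℕ) + 1 < n
    · rw [Finset.sum_eq_single (⟨(j : ℕ) + 1, hj⟩ : Fin n)]
      · show (if (i : ℕ) = ((j : ℕ) + 1) + k then (1 : K) else 0) *
          (if ((j : ℕ) + 1) = (j : ℕ) + 1 then (1 : K) else 0) = _
        rw [if_pos rfl, mul_one]
        split_ifs with h1 h2 h2
        · rfl
        · exfalso; omega
        · exfalso; omega
        · rfl
      · intro l _ hl
        have : (l : ℕ) ≠ (j : ℕ) + 1 := fun h => hl (Fin.ext h)
        rw [if_neg this, mul_zero]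
      · intro h
        exact absurd (Finset.mem_univ _) h
    · rw [Finset.sum_eq_zero]
      · rw [if_neg]
        have := i.2
        omega
      · intro l _
        have := l.2
        rw [if_neg (show ¬ ((l : ℕ) = (j : ℕ) + 1) by omega), mul_zero]

theorem shiftMat_pow_self (n : ℕ) : shiftMat K n ^ n = 0 := by
  ext i j
  rw [shiftMat_pow_apply, if_neg]
  · rfl
  · have := i.2
    omega

theorem shiftMat_mulVec (n : ℕ) (x : Fin n → K) (i : Fin n) :
    (shiftMat K n *ᵥ x) i = if h : 1 ≤ (i : ℕ) then x ⟨(i : ℕ) - 1, by omega⟩ else 0 := by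
  simp only [Matrix.mulVec, dotProduct, shiftMat, Matrix.of_apply]
  split_ifs with h
  · rw [Finset.sum_eq_single (⟨(i : ℕ) - 1, by omega⟩ : Fin n)]
    · rw [if_pos]
      · rw [one_mul]
      · simp only []
        omega
    · intro l _ hl
      have : (l : ℕ) ≠ (i : ℕ) - 1 := fun h' => hl (Fin.ext h')
      rw [if_neg (by omega), zero_mul]
    · intro h'
      exact absurd (Finset.mem_univ _) h'
  · apply Finset.sum_eq_zero
    intro l _
    rw [if_neg (by omega), zero_mul]

theorem shiftMat_rank (n : ℕ) (hn : 1 ≤ n) : (shiftMat K n).rank = n - 1 := by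
  have h1 := LinearMap.finrank_range_add_finrank_ker (Matrix.mulVecLin (shiftMat K n))
  rw [Module.finrank_fin_fun] at h1
  have hker : finrank K (LinearMap.ker (Matrix.mulVecLin (shiftMat K n))) = 1 := by
    let e : Fin n → K := Pi.single ⟨n - 1, by omega⟩ 1
    have he : e ∈ LinearMap.ker (Matrix.mulVecLin (shiftMat K n)) := by
      rw [LinearMap.mem_ker, Matrix.mulVecLin_apply]
      funext i
      rw [shiftMat_mulVec]
      split_ifs with h
      · simp only [e, Pi.zero_apply]
        rw [Pi.single_apply, if_neg]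
        intro h'
        have := congrArg Fin.val h'
        simp only at this
        have := i.2
        omega
      · rfl
    have hne : (⟨e, he⟩ : LinearMap.ker (Matrix.mulVecLin (shiftMat K n))) ≠ 0 := by
      intro h
      have h' := congrFun (congrArg Subtype.val h) ⟨n - 1, by omega⟩
      simp [e] at h'
    rw [finrank_eq_one_iff_of_nonzero' _ hne]
    rintro ⟨x, hx⟩
    refine ⟨x ⟨n - 1, by omega⟩, ?_⟩
    apply Subtype.ext
    funext j
    rw [LinearMap.mem_ker, Matrix.mulVecLin_apply] at hx
    simp only [Submodule.coe_smul, Pi.smul_apply, smul_eq_mul, e, Pi.single_apply]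
    by_cases hj : j = ⟨n - 1, by omega⟩
    · rw [if_pos hj, mul_one, hj]
    · rw [if_neg hj, mul_zero]
      have hj' : (j : ℕ) + 1 < n := by
        have := j.2
        have : (j : ℕ) ≠ n - 1 := fun h => hj (Fin.ext h)
        omega
      have h2 := congrFun hx ⟨(j : ℕ) + 1, hj'⟩
      rw [shiftMat_mulVec, dif_pos (by simp)] at h2
      simpa using h2.symm
  rw [hker] at h1
  have : (shiftMat K n).rank = finrank K (LinearMap.range (Matrix.mulVecLin (shiftMat K n))) := rfl
  omega

end shift

section cyclicbasis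
variable {K : Type*} [Field K]

/-- every regular nilpotent matrix is conjugate to the shift matrix. -/
theorem regnil_cyclic_matrix (n : ℕ) (hn : 1 ≤ n) (N : Matrix (Fin n) (Fin n) K)
    (hnil : N ^ n = 0) (hreg : N.rank = n - 1) :
    ∃ P : Matrix (Fin n) (Fin n) K, IsUnit P.det ∧ N * P = P * shiftMat K n := by
  classical
  have hι : Fintype.card (Fin n) = n := Fintype.card_fin n
  obtain ⟨v, hv⟩ := regnil_pow_mulVec_ne_zero hι N hnil hreg hn
  have hs := cycSpan_eq_top hι N hnil hreg hn v hv
  let P : Matrix (Fin n) (Fin n) K := Matrix.of (fun i j => ((N ^ (j : ℕ)) *ᵥ v) i)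
  have hcol : ∀ j : Fin n, P.col j = (N ^ (j : ℕ)) *ᵥ v := by
    intro j
    funext i
    rfl
  have hsurj : Function.Surjective P.mulVecLin := by
    rw [← LinearMap.range_eq_top, Matrix.range_mulVecLin, eq_top_iff, ← hs]
    unfold cycSpan
    rw [Submodule.span_le]
    rintro _ ⟨i, rfl⟩
    by_cases hi : i < n
    · apply Submodule.subset_span
      exact ⟨⟨i, hi⟩, hcol ⟨i, hi⟩⟩
    · have : N ^ i = 0 := by
        have : i = n + (i - n) := by omega
        rw [this, pow_add, hnil, zero_mul]
      simp only [this, zero_mulVec]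
      exact Submodule.zero_mem _
  have hunit : IsUnit P := by
    rw [← Matrix.mulVec_surjective_iff_isUnit]
    exact hsurj
  refine ⟨P, (Matrix.isUnit_iff_isUnit_det P).mp hunit, ?_⟩
  ext i j
  have h1 : (N * P) i j = ((N ^ ((j : ℕ) + 1)) *ᵥ v) i := by
    rw [pow_succ', ← Matrix.mulVec_mulVec]
    simp only [Matrix.mul_apply, Matrix.mulVec, dotProduct, P, Matrix.of_apply]
  rw [h1, Matrix.mul_apply]
  simp only [shiftMat, Matrix.of_apply]
  by_cases hj : (j : ℕ) + 1 < n
  · rw [Finset.sum_eq_single (⟨(j : ℕ) + 1, hj⟩ : Fin n)]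
    · simp [P]
    · intro l _ hl
      have : (l : ℕ) ≠ (j : ℕ) + 1 := fun h => hl (Fin.ext h)
      rw [if_neg this, mul_zero]
    · intro h
      exact absurd (Finset.mem_univ _) h
  · have hjn : (j : ℕ) + 1 = n := by
      have := j.2
      omega
    rw [hjn, hnil, zero_mulVec, Pi.zero_apply]
    symm
    apply Finset.sum_eq_zero
    intro l _
    have := l.2
    rw [if_neg (by omega), mul_zero]

end cyclicbasis

end Cfsg.Agent.helper13
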