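import Mathlib
import Cfsg.Agent.Lib_helper13_RegNil3

set_option autoImplicit false

namespace Cfsg.Agent.helper12

open Matrix Polynomial

variable {F : Type*} [Field F]

theorem nilpotent_pow_card {m : ℕ} (N : Matrix (Fin m) (Fin m) F) (hN : IsNilpotent N) : N ^ m = 0 := by
  have h1 := Matrix.isNilpotent_charpoly_sub_pow_of_isNilpotent hN
  have h2 : N.charpoly = X ^ m := by
    have := h1.eq_zero
    rw [Fintype.card_fin] at this
    exact sub_eq_zero.mp this
  have h3 := Matrix.aeval_self_charpoly N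
  rw [h2] at h3
  simpa using h3

/-- S2368 -/
theorem gl_p_element_orders (p : ℕ) [Fact p.Prime] [CharP F p] (m : ℕ) (hm : 1 ≤ m) :
    (∀ g : Matrix.GeneralLinearGroup (Fin m) F, (∃ j : ℕ, orderOf g = p ^ j) → orderOf g < p * m) ∧
      ∃ g : Matrix.GeneralLinearGroup (Fin m) F, (∃ j : ℕ, orderOf g = p ^ j) ∧ m ≤ orderOf g := by
  have hp : p.Prime := Fact.out
  haveI : Nonempty (Fin m) := ⟨⟨0, hm⟩⟩
  constructor
  · rintro g ⟨j, hj⟩
    rw [hj]
    rcases j with _ | j
    · rw [pow_zero]
      have := hp.two_le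
      nlinarith
    · by_contra hcon
      push Not at hcon
      have hm' : m ≤ p ^ j := by
        rw [pow_succ'] at hcon
        exact Nat.le_of_mul_le_mul_left hcon hp.pos
      have hG : (g : Matrix (Fin m) (Fin m) F) ^ (p ^ (j + 1)) = 1 := by
        rw [← Units.val_pow_eq_pow_val, ← hj, pow_orderOf_eq_one]; rfl
      have hN : ((g : Matrix (Fin m) (Fin m) F) - 1) ^ (p ^ (j + 1)) = 0 := by
        rw [sub_pow_char_pow_of_commute p (j + 1) (Commute.one_right _), hG, one_pow, sub_self]
      have hNm := nilpotent_pow_card _ ⟨_, hN⟩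
      have hNj : ((g : Matrix (Fin m) (Fin m) F) - 1) ^ (p ^ j) = 0 := by
        rw [← Nat.sub_add_cancel hm', pow_add, hNm, mul_zero]
      have hGj : (g : Matrix (Fin m) (Fin m) F) ^ (p ^ j) = 1 := by
        have := sub_pow_char_pow_of_commute p j (Commute.one_right (g : Matrix (Fin m) (Fin m) F))
        rw [hNj, one_pow] at this
        exact (sub_eq_zero.mp this.symm)
      have hgj : g ^ (p ^ j) = 1 := Units.ext (by rw [Units.val_pow_eq_pow_val, hGj]; rfl)
      have hdvd := orderOf_dvd_of_pow_eq_one hgj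
      rw [hj] at hdvd
      have h1 := Nat.le_of_dvd (pow_pos hp.pos j) hdvd
      have h2 : p ^ j < p ^ (j + 1) := Nat.pow_lt_pow_right hp.one_lt (Nat.lt_succ_self j)
      omega
  · have hS : helper13.shiftMat F m ^ m = 0 := helper13.shiftMat_pow_self F m
    have hu : IsUnit (1 + helper13.shiftMat F m) := IsNilpotent.isUnit_one_add ⟨m, hS⟩
    have hpow : ∀ k : ℕ, (1 + helper13.shiftMat F m) ^ (p ^ k) = 1 + helper13.shiftMat F m ^ (p ^ k) := by
      intro k
      rw [add_pow_char_pow_of_commute p k (Commute.one_left _), one_pow]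
    have hK : m ≤ p ^ m := (Nat.lt_pow_self hp.one_lt).le
    have hgK : hu.unit ^ (p ^ m) = 1 := by
      apply Units.ext
      rw [Units.val_pow_eq_pow_val, IsUnit.unit_spec, hpow, ← Nat.sub_add_cancel hK, pow_add, hS, mul_zero, add_zero]
      rfl
    obtain ⟨j, _, hj⟩ := (Nat.dvd_prime_pow hp).mp (orderOf_dvd_of_pow_eq_one hgK)
    refine ⟨hu.unit, ⟨j, hj⟩, ?_⟩
    rw [hj]
    by_contra hcon
    push Not at hcon
    have h1 : hu.unit ^ (p ^ j) = 1 := by rw [← hj]; exact pow_orderOf_eq_one _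
    have h2 := congrArg Units.val h1
    rw [Units.val_pow_eq_pow_val, IsUnit.unit_spec, hpow, Units.val_one] at h2
    have h3 : helper13.shiftMat F m ^ (p ^ j) = 0 := by
      have := add_left_cancel (a := (1 : Matrix (Fin m) (Fin m) F)) (b := helper13.shiftMat F m ^ (p ^ j)) (c := 0)
        (by rw [add_zero]; exact h2)
      exact this
    have h4 := congrFun (congrFun h3 ⟨p ^ j, hcon⟩) ⟨0, hm⟩
    rw [helper13.shiftMat_pow_apply] at h4
    simp at h4

end Cfsg.Agent.helper12
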