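import Mathlib

set_option autoImplicit false

/-!
Lattice lemmas for the exceptional characters of the principal 2-block
of a group with homocyclic Sylow 2-subgroup of rank two (helper12).
-/

namespace Cfsg.Agent.helper12

section H2a

variable {I : Type*} [Fintype I] [DecidableEq I]

theorem h2_norm_two (v : I → ℤ) (h : ∑ i, v i ^ 2 = 2) :
    ∃ a b : I, a ≠ b ∧ (v a = 1 ∨ v a = -1) ∧ (v b = 1 ∨ v b = -1) ∧
      ∀ i, i ≠ a → i ≠ b → v i = 0 := by
  classical
  have hnn : ∀ i, 0 ≤ v i ^ 2 := fun i => sq_nonneg _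
  have hsmall : ∀ i, v i ^ 2 ≤ 2 → v i ≠ 0 → (v i = 1 ∨ v i = -1) := by
    intro i h1 h2
    have hb : -2 < v i ∧ v i < 2 := by constructor <;> nlinarith
    omega
  obtain ⟨a, ha⟩ : ∃ a, v a ≠ 0 := by
    by_contra hcon
    push Not at hcon
    have : ∑ i, v i ^ 2 = 0 := Finset.sum_eq_zero (fun i _ => by rw [hcon i]; ring)
    omega
  have h1 := Finset.add_sum_erase Finset.univ (fun i => v i ^ 2) (Finset.mem_univ a)
  beta_reduce at h1
  have hrest_nn : 0 ≤ ∑ i ∈ Finset.univ.erase a, v i ^ 2 :=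
    Finset.sum_nonneg (fun i _ => hnn i)
  have ha' := hsmall a (by linarith) ha
  have ha2 : v a ^ 2 = 1 := by rcases ha' with h | h <;> rw [h] <;> norm_num
  have hrest : ∑ i ∈ Finset.univ.erase a, v i ^ 2 = 1 := by linarith
  obtain ⟨b, hb, hvb⟩ : ∃ b ∈ Finset.univ.erase a, v b ≠ 0 := by
    by_contra hcon
    push Not at hcon
    have : ∑ i ∈ Finset.univ.erase a, v i ^ 2 = 0 :=
      Finset.sum_eq_zero (fun i hi => by rw [hcon i hi]; ring)
    omega
  have h2 := Finset.add_sum_erase (Finset.univ.erase a) (fun i => v i ^ 2) hb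
  beta_reduce at h2
  have hrest2_nn : 0 ≤ ∑ i ∈ (Finset.univ.erase a).erase b, v i ^ 2 :=
    Finset.sum_nonneg (fun i _ => hnn i)
  have hb' := hsmall b (by linarith) hvb
  have hb2 : v b ^ 2 = 1 := by rcases hb' with h | h <;> rw [h] <;> norm_num
  have hrest2 : ∑ i ∈ (Finset.univ.erase a).erase b, v i ^ 2 = 0 := by linarith
  refine ⟨a, b, (Finset.ne_of_mem_erase hb).symm, ha', hb', ?_⟩
  intro i hia hib
  have hmem : i ∈ (Finset.univ.erase a).erase b := by simp [hia, hib]
  have := (Finset.sum_eq_zero_iff_of_nonneg (fun i _ => hnn i)).mp hrest2 i hmem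
  exact (pow_eq_zero_iff (two_ne_zero)).mp this

theorem h2_norm_two_orth (v d : I → ℤ) (h : ∑ i, v i ^ 2 = 2) (hd : ∀ i, 0 < d i)
    (ho : ∑ i, v i * d i = 0) :
    ∃ a b : I, a ≠ b ∧ d a = d b ∧
      ∀ i, v i = (if i = a then 1 else 0) - (if i = b then 1 else 0) := by
  obtain ⟨a, b, hab, ha, hb, hrest⟩ := h2_norm_two v h
  have hsum : ∑ i, v i * d i = v a * d a + v b * d b := by
    have : ∀ i, v i * d i =
        (if i = a then v a * d a else 0) + (if i = b then v b * d b else 0) := by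
      intro i
      by_cases hia : i = a
      · rw [hia, if_pos rfl, if_neg hab, add_zero]
      · by_cases hib : i = b
        · rw [hib, if_neg hab.symm, if_pos rfl, zero_add]
        · rw [if_neg hia, if_neg hib, hrest i hia hib]
          ring
    rw [Finset.sum_congr rfl (fun i _ => this i), Finset.sum_add_distrib,
      Finset.sum_ite_eq', Finset.sum_ite_eq']
    simp
  rw [hsum] at ho
  have hda := hd a
  have hdb := hd b
  rcases ha with ha | ha <;> rcases hb with hb | hb
  · exfalso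
    rw [ha, hb] at ho
    linarith
  · refine ⟨a, b, hab, ?_, ?_⟩
    · rw [ha, hb] at ho
      linarith
    · intro i
      by_cases hia : i = a
      · rw [hia, if_pos rfl, if_neg hab, ha]
        ring
      · by_cases hib : i = b
        · rw [hib, if_neg hab.symm, if_pos rfl, hb]
          ring
        · rw [if_neg hia, if_neg hib, hrest i hia hib]
          ring
  · refine ⟨b, a, hab.symm, ?_, ?_⟩
    · rw [ha, hb] at ho
      linarith
    · intro i
      by_cases hia : i = a
      · rw [hia, if_pos rfl, if_neg hab, ha]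
        ring
      · by_cases hib : i = b
        · rw [hib, if_neg hab.symm, if_pos rfl, hb]
          ring
        · rw [if_neg hia, if_neg hib, hrest i hia hib]
          ring
  · exfalso
    rw [ha, hb] at ho
    linarith

theorem h2_sunflower {J : Type*} (r : J → J → Prop) (a b : J → I)
    (hr : ∀ j k, r j k → a j = a k ∧ b j = b k)
    (hn : ∀ j k, ¬ r j k → (a j = a k ∧ b j ≠ b k) ∨ (b j = b k ∧ a j ≠ a k)) :
    (∀ j k, a j = a k) ∨ (∀ j k, b j = b k) := by
  by_contra hcon
  push Not at hcon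
  obtain ⟨⟨j, k, hjk⟩, ⟨j', k', hjk'⟩⟩ := hcon
  have h2 : ¬ r j' k' := fun h => hjk' (hr j' k' h).2
  have hA : a j' = a k' := by
    rcases hn j' k' h2 with h | h
    · exact h.1
    · exact absurd h.1 hjk'
  have hall : ∀ x, a x = a j' := by
    intro x
    by_cases hx1 : r x j'
    · exact (hr x j' hx1).1
    · by_cases hx2 : r x k'
      · rw [(hr x k' hx2).1, hA]
      · rcases hn x j' hx1 with h | h
        · exact h.1
        · rcases hn x k' hx2 with h' | h'
          · exact absurd (h'.1.trans hA.symm) h.2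
          · exact absurd (h.1.symm.trans h'.1) hjk'
  exact hjk ((hall j).trans (hall k).symm)

theorem h2_sum_sub_mul (x y x' y' : I → ℤ) :
    ∑ i, (x i - y i) * (x' i - y' i) =
      ∑ i, x i * x' i - ∑ i, x i * y' i - ∑ i, y i * x' i + ∑ i, y i * y' i := by
  rw [← Finset.sum_sub_distrib, ← Finset.sum_sub_distrib, ← Finset.sum_add_distrib]
  exact Finset.sum_congr rfl (fun i _ => by ring)

theorem h2_ind_unique {a b a' b' : I} (hab : a ≠ b) (hab' : a' ≠ b')
    (h : ∀ i : I, ((if i = a then 1 else 0) - (if i = b then 1 else 0) : ℤ) =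
      (if i = a' then 1 else 0) - (if i = b' then 1 else 0)) : a = a' ∧ b = b' := by
  have h1 := h a
  have h2 := h b
  rw [if_pos rfl, if_neg hab] at h1
  rw [if_neg hab.symm, if_pos rfl] at h2
  constructor
  · by_contra hne
    rw [if_neg hne] at h1
    split_ifs at h1 <;> omega
  · by_contra hne
    rw [if_neg hne] at h2
    split_ifs at h2 <;> omega

theorem h2_lattice_aux {J : Type*} (r : J → J → Prop)
    (htrans : ∀ j k l, r j k → r k l → r j l) (hsymm : ∀ j k, r j k → r k j)
    (u : J → I → ℤ) (d : I → ℤ) (j₀ j₁ : J) (h01 : ¬ r j₀ j₁)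
    (s : ℤ) (a b : J → I)
    (hrep : ∀ j, ¬ r j₀ j → a j ≠ b j ∧ d (a j) = d (b j) ∧
      ∀ i, u j₀ i - u j i = s * ((if i = a j then 1 else 0) - (if i = b j then 1 else 0)))
    (ha : ∀ j k, ¬ r j₀ j → ¬ r j₀ k → a j = a k)
    (hb : ∀ j k, ¬ r j₀ j → ¬ r j₀ k → (b j = b k ↔ r j k))
    (heq : ∀ j, r j₀ j → u j = u j₀) :
    ∃ (w : I → ℤ) (c : J → I),
      (∀ j i, u j i = w i + s * (if i = c j then 1 else 0)) ∧
      (∀ j k, c j = c k ↔ r j k) ∧ (∀ j k, d (c j) = d (c k)) := by
  classical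
  refine ⟨fun i => u j₀ i - s * (if i = a j₁ then 1 else 0),
    fun j => if r j₀ j then a j₁ else b j, ?_, ?_, ?_⟩
  · intro j i
    beta_reduce
    by_cases hj : r j₀ j
    · rw [if_pos hj, heq j hj]
      ring
    · rw [if_neg hj]
      have h1 := (hrep j hj).2.2 i
      rw [ha j j₁ hj h01] at h1
      linarith
  · intro j k
    beta_reduce
    by_cases hj : r j₀ j <;> by_cases hk : r j₀ k
    · rw [if_pos hj, if_pos hk]
      exact ⟨fun _ => htrans _ _ _ (hsymm _ _ hj) hk, fun _ => rfl⟩
    · rw [if_pos hj, if_neg hk]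
      constructor
      · intro h
        exact absurd ((ha k j₁ hk h01).trans h) (hrep k hk).1
      · intro h
        exact absurd (htrans _ _ _ hj h) hk
    · rw [if_neg hj, if_pos hk]
      constructor
      · intro h
        exact absurd ((ha j j₁ hj h01).trans h.symm) (hrep j hj).1
      · intro h
        exact absurd (htrans _ _ _ hk (hsymm _ _ h)) hj
    · rw [if_neg hj, if_neg hk]
      exact hb j k hj hk
  · have key : ∀ j, d (if r j₀ j then a j₁ else b j) = d (a j₁) := by
      intro j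
      by_cases hj : r j₀ j
      · rw [if_pos hj]
      · rw [if_neg hj, ← (hrep j hj).2.1, ha j j₁ hj h01]
    intro j k
    beta_reduce
    rw [key j, key k]

theorem h2_lattice {J : Type*} (r : J → J → Prop) (hrefl : ∀ j, r j j)
    (hsymm : ∀ j k, r j k → r k j) (htrans : ∀ j k l, r j k → r k l → r j l)
    (u : J → I → ℤ) (κ : ℤ) (d : I → ℤ) (hd : ∀ i, 0 < d i)
    (hg1 : ∀ j k, r j k → ∑ i, u j i * u k i = κ + 1)
    (hg0 : ∀ j k, ¬ r j k → ∑ i, u j i * u k i = κ)
    (hdeg : ∀ j k, ∑ i, u j i * d i = ∑ i, u k i * d i)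
    (j₀ j₁ : J) (h01 : ¬ r j₀ j₁) :
    ∃ (ε : ℤ) (w : I → ℤ) (c : J → I), (ε = 1 ∨ ε = -1) ∧
      (∀ j i, u j i = w i + ε * (if i = c j then 1 else 0)) ∧
      (∀ j k, c j = c k ↔ r j k) ∧ (∀ j k, d (c j) = d (c k)) := by
  classical
  -- related indices give equal vectors
  have heq : ∀ j k, r j k → u j = u k := by
    intro j k hjk
    have h1 := h2_sum_sub_mul (u j) (u k) (u j) (u k)
    rw [hg1 j j (hrefl j), hg1 j k hjk, hg1 k j (hsymm _ _ hjk), hg1 k k (hrefl k)] at h1
    have h2 : ∑ i, (u j i - u k i) * (u j i - u k i) = 0 := by rw [h1]; ring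
    funext i
    have h3 := (Finset.sum_eq_zero_iff_of_nonneg
      (fun i _ => mul_self_nonneg (u j i - u k i))).mp h2 i (Finset.mem_univ i)
    have h4 := mul_self_eq_zero.mp h3
    linarith
  -- differences with the base vector
  have hdiff : ∀ j, ¬ r j₀ j → ∃ a b : I, a ≠ b ∧ d a = d b ∧
      ∀ i, u j₀ i - u j i = (if i = a then 1 else 0) - (if i = b then 1 else 0) := by
    intro j hj
    have hj' : ¬ r j j₀ := fun h => hj (hsymm _ _ h)
    have h1 := h2_sum_sub_mul (u j₀) (u j) (u j₀) (u j)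
    rw [hg1 j₀ j₀ (hrefl _), hg0 j₀ j hj, hg0 j j₀ hj', hg1 j j (hrefl j)] at h1
    have h2 : ∑ i, (u j₀ i - u j i) ^ 2 = 2 := by
      have : ∀ i, (u j₀ i - u j i) ^ 2 = (u j₀ i - u j i) * (u j₀ i - u j i) :=
        fun i => by ring
      rw [Finset.sum_congr rfl (fun i _ => this i), h1]
      ring
    have h3 : ∑ i, (u j₀ i - u j i) * d i = 0 := by
      have : ∀ i, (u j₀ i - u j i) * d i = u j₀ i * d i - u j i * d i := fun i => by ring
      rw [Finset.sum_congr rfl (fun i _ => this i), Finset.sum_sub_distrib, hdeg j₀ j]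
      ring
    exact h2_norm_two_orth (fun i => u j₀ i - u j i) d h2 hd h3
  obtain ⟨a₁, b₁, -, -, -⟩ := hdiff j₁ h01
  haveI : Nonempty I := ⟨a₁⟩
  choose! a b hab hdab hrep using hdiff
  -- pair analysis
  have hpair_r : ∀ j k, ¬ r j₀ j → ¬ r j₀ k → r j k → a j = a k ∧ b j = b k := by
    intro j k hj hk hjk
    apply h2_ind_unique (hab j hj) (hab k hk)
    intro i
    rw [← hrep j hj i, ← hrep k hk i, heq j k hjk]
  have hpair_n : ∀ j k, ¬ r j₀ j → ¬ r j₀ k → ¬ r j k →
      (a j = a k ∧ b j ≠ b k) ∨ (b j = b k ∧ a j ≠ a k) := by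
    intro j k hj hk hjk
    have hj' : ¬ r j j₀ := fun h => hj (hsymm _ _ h)
    have hk' : ¬ r k j₀ := fun h => hk (hsymm _ _ h)
    have h1 := h2_sum_sub_mul (u j₀) (u j) (u j₀) (u k)
    rw [hg1 j₀ j₀ (hrefl _), hg0 j₀ k hk, hg0 j j₀ hj', hg0 j k hjk] at h1
    have h2 : ∑ i, (u j₀ i - u j i) * (u j₀ i - u k i) = 1 := by rw [h1]; ring
    have h3 : ∑ i, (u j₀ i - u j i) * (u j₀ i - u k i) =
        ((if a k = a j then 1 else 0) - (if a k = b j then 1 else 0)) -
          ((if b k = a j then 1 else 0) - (if b k = b j then 1 else 0)) := by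
      have : ∀ i, (u j₀ i - u j i) * (u j₀ i - u k i) =
          (if i = a k then (u j₀ i - u j i) else 0) -
            (if i = b k then (u j₀ i - u j i) else 0) := by
        intro i
        rw [hrep k hk i]
        split_ifs <;> ring
      rw [Finset.sum_congr rfl (fun i _ => this i), Finset.sum_sub_distrib,
        Finset.sum_ite_eq', Finset.sum_ite_eq', if_pos (Finset.mem_univ _),
        if_pos (Finset.mem_univ _), hrep j hj, hrep j hj]
    rw [h3] at h2
    have hj1 := hab j hj
    have hk1 := hab k hk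
    by_cases hp : a k = a j
    · left
      refine ⟨hp.symm, ?_⟩
      intro hs
      have hq : a k ≠ b j := fun h => hj1 (hp.symm.trans h)
      have hr' : b k ≠ a j := fun h => hk1 (hp.trans h.symm)
      rw [if_pos hp, if_neg hq, if_neg hr', if_pos hs.symm] at h2
      omega
    · right
      rw [if_neg hp] at h2
      have hs : b k = b j := by
        by_contra hs
        rw [if_neg hs] at h2
        split_ifs at h2 <;> omega
      exact ⟨hs.symm, fun h => hp h.symm⟩
  -- sunflower on the complement of the class of j₀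
  have hsun := h2_sunflower (I := I) (J := {j : J // ¬ r j₀ j})
    (fun j k => r j.1 k.1) (fun j => a j.1) (fun j => b j.1)
    (fun j k h => hpair_r j.1 k.1 j.2 k.2 h) (fun j k h => hpair_n j.1 k.1 j.2 k.2 h)
  have heq0 : ∀ j, r j₀ j → u j = u j₀ := fun j h => (heq j₀ j h).symm
  rcases hsun with hA | hB
  · obtain ⟨w, c, h1, h2, h3⟩ := h2_lattice_aux r htrans hsymm u d j₀ j₁ h01 1 a b
      (fun j hj => ⟨hab j hj, hdab j hj, fun i => by rw [hrep j hj i]; ring⟩)
      (fun j k hj hk => hA ⟨j, hj⟩ ⟨k, hk⟩)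
      (fun j k hj hk => by
        constructor
        · intro h
          by_contra hjk
          rcases hpair_n j k hj hk hjk with h' | h'
          · exact h'.2 h
          · exact h'.2 (hA ⟨j, hj⟩ ⟨k, hk⟩)
        · intro h
          exact (hpair_r j k hj hk h).2) heq0
    exact ⟨1, w, c, Or.inl rfl, h1, h2, h3⟩
  · obtain ⟨w, c, h1, h2, h3⟩ := h2_lattice_aux r htrans hsymm u d j₀ j₁ h01 (-1) b a
      (fun j hj => ⟨(hab j hj).symm, (hdab j hj).symm, fun i => by rw [hrep j hj i]; ring⟩)
      (fun j k hj hk => hB ⟨j, hj⟩ ⟨k, hk⟩)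
      (fun j k hj hk => by
        constructor
        · intro h
          by_contra hjk
          rcases hpair_n j k hj hk hjk with h' | h'
          · exact h'.2 (hB ⟨j, hj⟩ ⟨k, hk⟩)
          · exact h'.2 h
        · intro h
          exact (hpair_r j k hj hk h).1) heq0
    exact ⟨-1, w, c, Or.inr rfl, h1, h2, h3⟩

end H2a

end Cfsg.Agent.helper12
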