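import Mathlib
import Cfsg.Agent.Lib_helper12_H2a

set_option autoImplicit false

/-!
Fourier analysis on a homocyclic Sylow 2-subgroup: the Gram matrix of the
multiplicity vectors of the principal block (helper12).
-/

namespace Cfsg.Agent.helper12

open scoped ComplexConjugate
open Classical

section H2b

variable {α : Type*} [AddCommGroup α] [Fintype α] [DecidableEq α]

/-- the twist of an additive character by an automorphism -/
noncomputable def h2tw (σ : α ≃+ α) (ψ : AddChar α ℂ) : AddChar α ℂ :=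
  ψ.compAddMonoidHom σ.toAddMonoidHom

theorem h2tw_apply (σ : α ≃+ α) (ψ : AddChar α ℂ) (x : α) : h2tw σ ψ x = ψ (σ x) := rfl

theorem h2tw_zero (σ : α ≃+ α) : h2tw σ (0 : AddChar α ℂ) = 0 := by
  apply AddChar.ext
  intro x
  rw [h2tw_apply, AddChar.zero_apply, AddChar.zero_apply]

theorem h2_char_orth (ψ φ : AddChar α ℂ) :
    ∑ x, conj (ψ x) * φ x = if φ = ψ then (Fintype.card α : ℂ) else 0 := by
  have h1 := AddChar.sum_eq_ite (φ - ψ)
  have h2 : ∀ x, (φ - ψ) x = conj (ψ x) * φ x := by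
    intro x
    rw [AddChar.sub_apply, AddChar.map_neg_eq_conj, mul_comm]
  rw [Finset.sum_congr rfl (fun x _ => h2 x)] at h1
  rw [h1]
  by_cases h : φ = ψ
  · rw [if_pos h, if_pos (sub_eq_zero.mpr h)]
  · rw [if_neg h, if_neg (fun h' => h (sub_eq_zero.mp h'))]

/-- the numerical data of the principal block restricted to the Sylow subgroup -/
structure H2Data (α : Type*) [AddCommGroup α] [Fintype α] [DecidableEq α]
    (I : Type*) [Fintype I] [DecidableEq I] where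
  σ : α ≃+ α
  q : ℕ
  val : I → α → ℂ
  one : I
  deg : I → ℕ
  mult : I → AddChar α ℂ → ℤ
  hσ3 : ∀ x, σ (σ (σ x)) = x
  hσfree : ∀ x, σ x = x → x = 0
  hq : Fintype.card α = q
  hq16 : 16 ≤ q
  hone : ∀ x, val one x = 1
  hdegpos : ∀ χ, 0 < deg χ
  hdeg : ∀ χ, val χ 0 = deg χ
  hσval : ∀ χ x, val χ (σ x) = val χ x
  hmult : ∀ χ ψ, (mult χ ψ : ℂ) = (q : ℂ)⁻¹ * ∑ x, val χ x * conj (ψ x)
  horth0 : ∀ x y, y ≠ x → y ≠ σ x → y ≠ σ (σ x) → ∑ χ, val χ x * conj (val χ y) = 0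
  hnorm : ∀ x, x ≠ 0 → ∑ χ, val χ x * conj (val χ x) = q

variable {I : Type*} [Fintype I] [DecidableEq I] (D : H2Data α I)

theorem H2Data.q_ne_zero : (D.q : ℂ) ≠ 0 := by
  have := D.hq16
  exact_mod_cast (by omega : D.q ≠ 0)

theorem H2Data.inv_fourier (χ : I) (x : α) :
    D.val χ x = ∑ ψ : AddChar α ℂ, (D.mult χ ψ : ℂ) * ψ x := by
  have hq0 := D.q_ne_zero
  have h1 : ∀ ψ : AddChar α ℂ, (D.mult χ ψ : ℂ) * ψ x =
      ∑ y, (D.q : ℂ)⁻¹ * D.val χ y * ψ (x - y) := by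
    intro ψ
    rw [D.hmult, Finset.mul_sum, Finset.sum_mul]
    apply Finset.sum_congr rfl
    intro y _
    rw [sub_eq_add_neg, AddChar.map_add_eq_mul, AddChar.map_neg_eq_conj]
    ring
  rw [Finset.sum_congr rfl (fun ψ _ => h1 ψ), Finset.sum_comm]
  have h2 : ∀ y, ∑ ψ : AddChar α ℂ, (D.q : ℂ)⁻¹ * D.val χ y * ψ (x - y) =
      if y = x then D.val χ y else 0 := by
    intro y
    rw [← Finset.mul_sum, AddChar.sum_apply_eq_ite, D.hq]
    by_cases h : y = x
    · rw [if_pos h, if_pos (by rw [h, sub_self])]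
      field_simp
    · rw [if_neg h, if_neg (fun h' => h (sub_eq_zero.mp h').symm), mul_zero]
  rw [Finset.sum_congr rfl (fun y _ => h2 y), Finset.sum_ite_eq', if_pos (Finset.mem_univ _)]

theorem H2Data.mult_tw (χ : I) (ψ : AddChar α ℂ) : D.mult χ (h2tw D.σ ψ) = D.mult χ ψ := by
  have h : (D.mult χ (h2tw D.σ ψ) : ℂ) = (D.mult χ ψ : ℂ) := by
    rw [D.hmult, D.hmult]
    congr 1
    rw [← Equiv.sum_comp D.σ.toEquiv (fun x => D.val χ x * conj (ψ x))]
    apply Finset.sum_congr rfl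
    intro x _
    rw [h2tw_apply]
    show _ = D.val χ (D.σ x) * conj (ψ (D.σ x))
    rw [D.hσval]
  exact_mod_cast h

theorem H2Data.sigma_ne (x : α) (hx : x ≠ 0) :
    D.σ x ≠ x ∧ D.σ (D.σ x) ≠ D.σ x ∧ D.σ (D.σ x) ≠ x := by
  refine ⟨fun h => hx (D.hσfree x h), fun h => ?_, fun h => ?_⟩
  · exact hx (D.hσfree x (D.σ.injective h))
  · have h1 := congrArg D.σ h
    rw [D.hσ3] at h1
    exact hx (D.hσfree x h1.symm)

theorem H2Data.blockSum (x y : α) :
    ∑ χ, D.val χ x * conj (D.val χ y) =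
      (if x = 0 ∧ y = 0 then (∑ χ, D.val χ 0 * conj (D.val χ 0)) - 3 * D.q else 0) +
      ((if y = x then (D.q : ℂ) else 0) + (if y = D.σ x then (D.q : ℂ) else 0) +
        (if y = D.σ (D.σ x) then (D.q : ℂ) else 0)) := by
  by_cases hx : x = 0
  · have hσ0 : D.σ 0 = 0 := map_zero _
    rw [hx, hσ0, hσ0]
    by_cases hy : y = 0
    · rw [hy, if_pos ⟨rfl, rfl⟩, if_pos rfl]
      ring
    · rw [D.horth0 0 y hy (by rwa [hσ0]) (by rwa [hσ0, hσ0]),
        if_neg (fun h => hy h.2), if_neg hy]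
      ring
  · obtain ⟨h1, h2, h3⟩ := D.sigma_ne x hx
    rw [if_neg (fun h => hx h.1), zero_add]
    by_cases hy0 : y = x
    · rw [hy0, if_pos rfl, if_neg (Ne.symm h1), if_neg (Ne.symm h3), D.hnorm _ hx]
      ring
    · by_cases hy1 : y = D.σ x
      · rw [hy1, if_neg h1, if_pos rfl, if_neg (Ne.symm h2)]
        simp only [D.hσval]
        rw [D.hnorm x hx]
        ring
      · by_cases hy2 : y = D.σ (D.σ x)
        · rw [hy2, if_neg h3, if_neg h2, if_pos rfl]
          simp only [D.hσval]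
          rw [D.hnorm x hx]
          ring
        · rw [if_neg hy0, if_neg hy1, if_neg hy2, D.horth0 x y hy0 hy1 hy2]
          ring

/-- Gram matrix of the multiplicity vectors -/
noncomputable def H2Data.gram (ψ φ : AddChar α ℂ) : ℤ := ∑ χ, D.mult χ ψ * D.mult χ φ

/-- the constant part of the Gram matrix -/
noncomputable def H2Data.kap : ℂ :=
  ((∑ χ, D.val χ 0 * conj (D.val χ 0)) - 3 * D.q) / (D.q : ℂ) ^ 2

/-- the orbit part of the Gram matrix -/
noncomputable def H2Data.cnt (ψ φ : AddChar α ℂ) : ℤ :=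
  (if φ = ψ then 1 else 0) + (if h2tw D.σ φ = ψ then 1 else 0) +
    (if h2tw D.σ (h2tw D.σ φ) = ψ then 1 else 0)

theorem H2Data.mult_conj (χ : I) (φ : AddChar α ℂ) :
    (D.mult χ φ : ℂ) = (D.q : ℂ)⁻¹ * ∑ y, conj (D.val χ y) * φ y := by
  have h := congrArg conj (D.hmult χ φ)
  rw [map_intCast, map_mul, map_inv₀, map_natCast, map_sum] at h
  rw [h]
  congr 1
  apply Finset.sum_congr rfl
  intro y _
  rw [map_mul, Complex.conj_conj]

theorem H2Data.gram_eq (ψ φ : AddChar α ℂ) : (D.gram ψ φ : ℂ) = D.kap + D.cnt ψ φ := by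
  have hq0 := D.q_ne_zero
  obtain ⟨E, hE⟩ : ∃ E : ℂ, E = (∑ χ, D.val χ 0 * conj (D.val χ 0)) - 3 * D.q := ⟨_, rfl⟩
  have h1 : ∀ χ, (D.mult χ ψ : ℂ) * (D.mult χ φ : ℂ) = ((D.q : ℂ)⁻¹) ^ 2 *
      ∑ x, ∑ y, (conj (ψ x) * φ y) * (D.val χ x * conj (D.val χ y)) := by
    intro χ
    rw [D.hmult χ ψ, D.mult_conj χ φ, mul_mul_mul_comm, Finset.sum_mul_sum, ← pow_two]
    congr 1
    apply Finset.sum_congr rfl
    intro x _
    apply Finset.sum_congr rfl
    intro y _
    ring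
  have h2 : (D.gram ψ φ : ℂ) = ((D.q : ℂ)⁻¹) ^ 2 *
      ∑ x, ∑ y, (conj (ψ x) * φ y) * ∑ χ, D.val χ x * conj (D.val χ y) := by
    unfold H2Data.gram
    push_cast
    rw [Finset.sum_congr rfl (fun χ _ => h1 χ), ← Finset.mul_sum, Finset.sum_comm]
    congr 1
    apply Finset.sum_congr rfl
    intro x _
    rw [Finset.sum_comm]
    apply Finset.sum_congr rfl
    intro y _
    rw [Finset.mul_sum]
  have hEsum : ∑ x, ∑ y, (conj (ψ x) * φ y) * (if x = 0 ∧ y = 0 then E else 0) = E := by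
    rw [Finset.sum_eq_single 0]
    · rw [Finset.sum_eq_single 0]
      · rw [if_pos ⟨rfl, rfl⟩, AddChar.map_zero_eq_one, AddChar.map_zero_eq_one, map_one]
        ring
      · intro y _ hy
        rw [if_neg (fun h => hy h.2), mul_zero]
      · intro h
        exact absurd (Finset.mem_univ _) h
    · intro x _ hx
      apply Finset.sum_eq_zero
      intro y _
      rw [if_neg (fun h => hx h.1), mul_zero]
    · intro h
      exact absurd (Finset.mem_univ _) h
  have hA : ∀ a : α → α, ∑ x, ∑ y, (conj (ψ x) * φ y) * (if y = a x then (D.q : ℂ) else 0) =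
      D.q * ∑ x, conj (ψ x) * φ (a x) := by
    intro a
    rw [Finset.mul_sum]
    apply Finset.sum_congr rfl
    intro x _
    rw [Finset.sum_eq_single (a x)]
    · rw [if_pos rfl]
      ring
    · intro y _ hy
      rw [if_neg hy, mul_zero]
    · intro h
      exact absurd (Finset.mem_univ _) h
  have h3 : ∑ x, ∑ y, (conj (ψ x) * φ y) * ∑ χ, D.val χ x * conj (D.val χ y) =
      E + D.q * ∑ x, conj (ψ x) * φ x + D.q * ∑ x, conj (ψ x) * φ (D.σ x) +
        D.q * ∑ x, conj (ψ x) * φ (D.σ (D.σ x)) := by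
    rw [← hEsum, ← hA (fun x => x), ← hA (fun x => D.σ x), ← hA (fun x => D.σ (D.σ x)),
      ← Finset.sum_add_distrib, ← Finset.sum_add_distrib, ← Finset.sum_add_distrib]
    apply Finset.sum_congr rfl
    intro x _
    rw [← Finset.sum_add_distrib, ← Finset.sum_add_distrib, ← Finset.sum_add_distrib]
    apply Finset.sum_congr rfl
    intro y _
    rw [D.blockSum x y, ← hE]
    ring
  have h4 : ∑ x, conj (ψ x) * φ (D.σ x) = ∑ x, conj (ψ x) * (h2tw D.σ φ) x := rfl
  have h5 : ∑ x, conj (ψ x) * φ (D.σ (D.σ x)) =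
      ∑ x, conj (ψ x) * (h2tw D.σ (h2tw D.σ φ)) x := rfl
  rw [h2, h3, h4, h5, h2_char_orth, h2_char_orth, h2_char_orth, D.hq]
  unfold H2Data.kap H2Data.cnt
  rw [← hE]
  push_cast
  split_ifs <;> field_simp <;> ring

theorem H2Data.tw_free (ψ : AddChar α ℂ) (h : h2tw D.σ ψ = ψ) : ψ = 0 := by
  have hinj : Function.Injective (fun x : α => D.σ x - x) := by
    intro x y hxy
    have h0 : D.σ x - x = D.σ y - y := hxy
    have h1 : D.σ (x - y) = x - y := by
      rw [map_sub]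
      exact sub_eq_sub_iff_sub_eq_sub.mp h0
    exact sub_eq_zero.mp (D.hσfree (x - y) h1)
  have hsurj := Finite.injective_iff_surjective.mp hinj
  apply AddChar.ext
  intro z
  obtain ⟨x, hx⟩ := hsurj z
  have hx' : D.σ x - x = z := hx
  rw [← hx', AddChar.zero_apply, sub_eq_add_neg, AddChar.map_add_eq_mul, ← h2tw_apply, h,
    ← AddChar.map_add_eq_mul, add_neg_cancel, AddChar.map_zero_eq_one]

theorem H2Data.tw3 (ψ : AddChar α ℂ) : h2tw D.σ (h2tw D.σ (h2tw D.σ ψ)) = ψ := by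
  apply AddChar.ext
  intro x
  simp only [h2tw_apply]
  rw [D.hσ3]

theorem H2Data.tw_ne_zero {ψ : AddChar α ℂ} (h : ψ ≠ 0) : h2tw D.σ ψ ≠ 0 := by
  intro h0
  apply h
  rw [← D.tw3 ψ, h0, h2tw_zero, h2tw_zero]

theorem H2Data.tw_inj : Function.Injective (h2tw D.σ) := by
  intro ψ φ h
  rw [← D.tw3 ψ, ← D.tw3 φ, h]

end H2b

end Cfsg.Agent.helper12
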