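import Mathlib
import Cfsg.Agent.Lib_helper12_H2b

set_option autoImplicit false

/-!
The lattice structure of the multiplicity vectors (helper12).
-/

namespace Cfsg.Agent.helper12

open scoped ComplexConjugate
open Classical

section H2c

variable {α : Type*} [AddCommGroup α] [Fintype α] [DecidableEq α]
variable {I : Type*} [Fintype I] [DecidableEq I] (D : H2Data α I)

/-- orbit relation on characters -/
def H2Data.rel (ψ φ : AddChar α ℂ) : Prop :=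
  ψ = φ ∨ ψ = h2tw D.σ φ ∨ ψ = h2tw D.σ (h2tw D.σ φ)

theorem H2Data.rel_refl (ψ : AddChar α ℂ) : D.rel ψ ψ := Or.inl rfl

theorem H2Data.rel_symm {ψ φ : AddChar α ℂ} (h : D.rel ψ φ) : D.rel φ ψ := by
  rcases h with h | h | h
  · exact Or.inl h.symm
  · right; right
    rw [h, D.tw3]
  · right; left
    rw [h, D.tw3]

theorem H2Data.rel_tw {ψ φ : AddChar α ℂ} (h : D.rel ψ φ) : D.rel (h2tw D.σ ψ) φ := by
  rcases h with h | h | h
  · right; left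
    rw [h]
  · right; right
    rw [h]
  · left
    rw [h, D.tw3]

theorem H2Data.rel_trans {ψ φ χ : AddChar α ℂ} (h1 : D.rel ψ φ) (h2 : D.rel φ χ) :
    D.rel ψ χ := by
  rcases h1 with h | h | h
  · rw [h]; exact h2
  · rw [h]; exact D.rel_tw h2
  · rw [h]; exact D.rel_tw (D.rel_tw h2)

theorem H2Data.cnt_eq {ψ : AddChar α ℂ} (hψ : ψ ≠ 0) (φ : AddChar α ℂ) :
    D.cnt ψ φ = if D.rel ψ φ then 1 else 0 := by
  unfold H2Data.cnt H2Data.rel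
  have hfree1 : h2tw D.σ ψ ≠ ψ := fun h => hψ (D.tw_free ψ h)
  have hfree2 : h2tw D.σ (h2tw D.σ ψ) ≠ ψ := by
    intro h
    have h1 := congrArg (h2tw D.σ) h
    rw [D.tw3] at h1
    exact hfree1 h1.symm
  by_cases c0 : φ = ψ
  · have c1 : ¬ h2tw D.σ φ = ψ := by rw [c0]; exact hfree1
    have c2 : ¬ h2tw D.σ (h2tw D.σ φ) = ψ := by rw [c0]; exact hfree2
    rw [if_pos c0, if_neg c1, if_neg c2, if_pos (Or.inl c0.symm)]
    norm_num
  · by_cases c1 : h2tw D.σ φ = ψ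
    · have c2 : ¬ h2tw D.σ (h2tw D.σ φ) = ψ := by rw [c1]; exact hfree1
      rw [if_neg c0, if_pos c1, if_neg c2, if_pos (Or.inr (Or.inl c1.symm))]
      norm_num
    · by_cases c2 : h2tw D.σ (h2tw D.σ φ) = ψ
      · rw [if_neg c0, if_neg c1, if_pos c2, if_pos (Or.inr (Or.inr c2.symm))]
        norm_num
      · rw [if_neg c0, if_neg c1, if_neg c2, if_neg]
        · norm_num
        · rintro (h | h | h)
          · exact c0 h.symm
          · exact c1 h.symm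
          · exact c2 h.symm

theorem H2Data.cnt_zero_left {φ : AddChar α ℂ} (hφ : φ ≠ 0) : D.cnt 0 φ = 0 := by
  unfold H2Data.cnt
  rw [if_neg hφ, if_neg (D.tw_ne_zero hφ), if_neg (D.tw_ne_zero (D.tw_ne_zero hφ))]
  norm_num

theorem H2Data.cnt_zero_zero : D.cnt 0 0 = 3 := by
  unfold H2Data.cnt
  rw [if_pos rfl, if_pos (h2tw_zero _), if_pos (by rw [h2tw_zero, h2tw_zero])]
  norm_num

theorem H2Data.card_char : Fintype.card (AddChar α ℂ) = D.q := by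
  rw [AddChar.card_eq, D.hq]

include D in
theorem H2Data.exists_not_mem (S : Finset (AddChar α ℂ)) (hS : S.card ≤ 4) :
    ∃ ψ : AddChar α ℂ, ψ ∉ S := by
  by_contra hcon
  push Not at hcon
  have h1 : S = Finset.univ := Finset.eq_univ_iff_forall.mpr hcon
  have h2 : S.card = D.q := by rw [h1, Finset.card_univ, D.card_char]
  have := D.hq16
  omega

theorem H2Data.exists_unrelated : ∃ ψ₀ ψ₁ : AddChar α ℂ, ψ₀ ≠ 0 ∧ ψ₁ ≠ 0 ∧ ¬ D.rel ψ₀ ψ₁ := by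
  obtain ⟨ψ₀, h0⟩ := D.exists_not_mem {0} (by simp)
  have hψ₀ : ψ₀ ≠ 0 := fun h => h0 (by rw [h]; exact Finset.mem_singleton_self _)
  obtain ⟨ψ₁, h1⟩ := D.exists_not_mem
    {0, ψ₀, h2tw D.σ ψ₀, h2tw D.σ (h2tw D.σ ψ₀)} Finset.card_le_four
  simp only [Finset.mem_insert, Finset.mem_singleton, not_or] at h1
  refine ⟨ψ₀, ψ₁, hψ₀, h1.1, ?_⟩
  intro h
  rcases D.rel_symm h with h' | h' | h'
  · exact h1.2.1 h'
  · exact h1.2.2.1 h'
  · exact h1.2.2.2 h'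

theorem H2Data.exists_kappa : ∃ κ : ℤ, ∀ ψ φ : AddChar α ℂ, D.gram ψ φ = κ + D.cnt ψ φ := by
  obtain ⟨ψ₀, ψ₁, h0, h1, h01⟩ := D.exists_unrelated
  refine ⟨D.gram ψ₀ ψ₁, ?_⟩
  have hk : (D.gram ψ₀ ψ₁ : ℂ) = D.kap := by
    rw [D.gram_eq, D.cnt_eq h0, if_neg h01]
    simp
  intro ψ φ
  have h2 : (D.gram ψ φ : ℂ) = ((D.gram ψ₀ ψ₁ + D.cnt ψ φ : ℤ) : ℂ) := by
    rw [D.gram_eq, Int.cast_add, hk]
  exact_mod_cast h2

theorem H2Data.deg_sum (ψ : AddChar α ℂ) :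
    ((∑ χ, D.mult χ ψ * (D.deg χ : ℤ) : ℤ) : ℂ) =
      (D.q : ℂ)⁻¹ * ∑ χ, D.val χ 0 * conj (D.val χ 0) := by
  push_cast
  have hσ0 : D.σ 0 = 0 := map_zero _
  have h1 : ∀ χ, (D.mult χ ψ : ℂ) * (D.deg χ : ℂ) =
      ∑ x, (D.q : ℂ)⁻¹ * conj (ψ x) * (D.val χ x * conj (D.val χ 0)) := by
    intro χ
    rw [D.hmult, D.hdeg, Complex.conj_natCast, Finset.mul_sum, Finset.sum_mul]
    apply Finset.sum_congr rfl
    intro x _
    ring
  rw [Finset.sum_congr rfl (fun χ _ => h1 χ), Finset.sum_comm]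
  have h2 : ∀ x, ∑ χ, (D.q : ℂ)⁻¹ * conj (ψ x) * (D.val χ x * conj (D.val χ 0)) =
      if x = 0 then (D.q : ℂ)⁻¹ * ∑ χ, D.val χ 0 * conj (D.val χ 0) else 0 := by
    intro x
    rw [← Finset.mul_sum]
    by_cases hx : x = 0
    · rw [if_pos hx, hx, AddChar.map_zero_eq_one, map_one, mul_one]
    · obtain ⟨-, -, -⟩ := D.sigma_ne x hx
      have hx1 : (0 : α) ≠ D.σ x := by
        intro h
        apply hx
        have := D.σ.injective (h.symm.trans hσ0.symm)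
        exact this
      have hx2 : (0 : α) ≠ D.σ (D.σ x) := by
        intro h
        apply hx1
        have := D.σ.injective (h.symm.trans hσ0.symm)
        exact this.symm
      rw [if_neg hx, D.horth0 x 0 (Ne.symm hx) hx1 hx2, mul_zero]
  rw [Finset.sum_congr rfl (fun x _ => h2 x), Finset.sum_ite_eq', if_pos (Finset.mem_univ _)]

/-- the output of the lattice argument -/
structure H2Lat (D : H2Data α I) where
  ε : ℤ
  w : I → ℤ
  c : {ψ : AddChar α ℂ // ψ ≠ 0} → I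
  κ : ℤ
  hε : ε = 1 ∨ ε = -1
  hu : ∀ (ψ : {ψ : AddChar α ℂ // ψ ≠ 0}) (χ : I),
    D.mult χ ψ.1 = w χ + ε * (if χ = c ψ then 1 else 0)
  hc : ∀ ψ φ, c ψ = c φ ↔ D.rel ψ.1 φ.1
  hd : ∀ ψ φ, D.deg (c ψ) = D.deg (c φ)
  hκ : ∀ ψ φ : AddChar α ℂ, D.gram ψ φ = κ + D.cnt ψ φ

theorem H2Data.exists_lat : Nonempty (H2Lat D) := by
  obtain ⟨κ, hκ⟩ := D.exists_kappa
  obtain ⟨ψ₀, ψ₁, h0, h1, h01⟩ := D.exists_unrelated
  have hdeg : ∀ ψ φ : AddChar α ℂ,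
      ∑ χ, D.mult χ ψ * (D.deg χ : ℤ) = ∑ χ, D.mult χ φ * (D.deg χ : ℤ) := by
    intro ψ φ
    have h := (D.deg_sum ψ).trans (D.deg_sum φ).symm
    exact_mod_cast h
  obtain ⟨ε, w, c, hε, hu, hc, hd⟩ := h2_lattice (I := I)
    (J := {ψ : AddChar α ℂ // ψ ≠ 0}) (fun ψ φ => D.rel ψ.1 φ.1)
    (fun ψ => D.rel_refl ψ.1) (fun ψ φ h => D.rel_symm h) (fun ψ φ χ h1 h2 => D.rel_trans h1 h2)
    (fun ψ χ => D.mult χ ψ.1) κ (fun χ => (D.deg χ : ℤ))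
    (fun χ => by exact_mod_cast D.hdegpos χ)
    (fun ψ φ h => by
      have h2 := hκ ψ.1 φ.1
      rw [D.cnt_eq ψ.2, if_pos h] at h2
      exact h2)
    (fun ψ φ h => by
      have h2 := hκ ψ.1 φ.1
      rw [D.cnt_eq ψ.2, if_neg h, add_zero] at h2
      exact h2)
    (fun ψ φ => hdeg ψ.1 φ.1) ⟨ψ₀, h0⟩ ⟨ψ₁, h1⟩ h01
  exact ⟨⟨ε, w, c, κ, hε, hu, hc, fun ψ φ => by exact_mod_cast hd ψ φ, hκ⟩⟩

end H2c

end Cfsg.Agent.helper12
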