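import Mathlib
import Cfsg.Agent.Lib_helper12_H2c

set_option autoImplicit false

/-!
Values of the characters of the principal block on the Sylow subgroup (helper12).
-/

namespace Cfsg.Agent.helper12

open scoped ComplexConjugate
open Classical

section H2d

variable {α : Type*} [AddCommGroup α] [Fintype α] [DecidableEq α]
variable {I : Type*} [Fintype I] [DecidableEq I] {D : H2Data α I} (L : H2Lat D)

/-- twist on nonzero characters -/
noncomputable def H2Data.twJ (D : H2Data α I) (ψ : {ψ : AddChar α ℂ // ψ ≠ 0}) :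
    {ψ : AddChar α ℂ // ψ ≠ 0} := ⟨h2tw D.σ ψ.1, D.tw_ne_zero ψ.2⟩

/-- the constant part of the values -/
def H2Lat.z (χ : I) : ℤ := D.mult χ 0 - L.w χ

/-- the exceptional part of the values -/
noncomputable def H2Lat.A (χ : I) (y : α) : ℂ :=
  ∑ ψ : {ψ : AddChar α ℂ // ψ ≠ 0}, if χ = L.c ψ then ψ.1 y else 0

/-- the size of a fibre -/
noncomputable def H2Lat.n (χ : I) : ℤ :=
  ∑ ψ : {ψ : AddChar α ℂ // ψ ≠ 0}, if χ = L.c ψ then 1 else 0

theorem h2_sum_mul_ind (g : I → ℤ) (ε : ℤ) (c : I) :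
    ∑ χ, g χ * (ε * (if χ = c then 1 else 0)) = ε * g c := by
  have : ∀ χ, g χ * (ε * (if χ = c then 1 else 0)) = if χ = c then ε * g χ else 0 := by
    intro χ
    split_ifs <;> ring
  rw [Finset.sum_congr rfl (fun χ _ => this χ), Finset.sum_ite_eq', if_pos (Finset.mem_univ _)]

theorem H2Lat.eps_sq : L.ε * L.ε = 1 := by
  rcases L.hε with h | h <;> rw [h] <;> norm_num

theorem H2Lat.norm_z (ψ : {ψ : AddChar α ℂ // ψ ≠ 0}) :
    ∑ χ, L.z χ ^ 2 = 3 + 2 * L.ε * L.z (L.c ψ) := by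
  have hε2 := L.eps_sq
  have g00 : ∑ χ, D.mult χ 0 * D.mult χ 0 = L.κ + 3 := by
    have := L.hκ 0 0
    rw [D.cnt_zero_zero] at this
    exact this
  have g0ψ : ∑ χ, D.mult χ 0 * D.mult χ ψ.1 = L.κ := by
    have := L.hκ 0 ψ.1
    rw [D.cnt_zero_left ψ.2, add_zero] at this
    exact this
  have gψψ : ∑ χ, D.mult χ ψ.1 * D.mult χ ψ.1 = L.κ + 1 := by
    have := L.hκ ψ.1 ψ.1
    rw [D.cnt_eq ψ.2, if_pos (D.rel_refl _)] at this
    exact this
  have e1 : ∑ χ, D.mult χ 0 * D.mult χ ψ.1 =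
      ∑ χ, D.mult χ 0 * L.w χ + L.ε * D.mult (L.c ψ) 0 := by
    rw [← h2_sum_mul_ind (fun χ => D.mult χ 0) L.ε (L.c ψ), ← Finset.sum_add_distrib]
    apply Finset.sum_congr rfl
    intro χ _
    rw [L.hu ψ χ]
    ring
  have e2 : ∑ χ, D.mult χ ψ.1 * L.w χ = ∑ χ, L.w χ * L.w χ + L.ε * L.w (L.c ψ) := by
    rw [← h2_sum_mul_ind (fun χ => L.w χ) L.ε (L.c ψ), ← Finset.sum_add_distrib]
    apply Finset.sum_congr rfl
    intro χ _
    rw [L.hu ψ χ]
    ring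
  have e3 : ∑ χ, D.mult χ ψ.1 * D.mult χ ψ.1 =
      ∑ χ, D.mult χ ψ.1 * L.w χ + L.ε * D.mult (L.c ψ) ψ.1 := by
    rw [← h2_sum_mul_ind (fun χ => D.mult χ ψ.1) L.ε (L.c ψ), ← Finset.sum_add_distrib]
    apply Finset.sum_congr rfl
    intro χ _
    have := L.hu ψ χ
    calc D.mult χ ψ.1 * D.mult χ ψ.1
        = D.mult χ ψ.1 * (L.w χ + L.ε * (if χ = L.c ψ then 1 else 0)) := by rw [← this]
      _ = _ := by ring
  have e4 : D.mult (L.c ψ) ψ.1 = L.w (L.c ψ) + L.ε := by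
    rw [L.hu ψ (L.c ψ), if_pos rfl, mul_one]
  have e5 : ∑ χ, L.z χ ^ 2 = ∑ χ, D.mult χ 0 * D.mult χ 0 - 2 * ∑ χ, D.mult χ 0 * L.w χ +
      ∑ χ, L.w χ * L.w χ := by
    rw [Finset.mul_sum, ← Finset.sum_sub_distrib, ← Finset.sum_add_distrib]
    apply Finset.sum_congr rfl
    intro χ _
    unfold H2Lat.z
    ring
  rw [e5]
  unfold H2Lat.z
  rw [e4] at e3
  linear_combination g00 - 2 * g0ψ + 2 * e1 + gψψ - e3 - e2 - hε2

theorem H2Lat.z_const (ψ φ : {ψ : AddChar α ℂ // ψ ≠ 0}) : L.z (L.c ψ) = L.z (L.c φ) := by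
  have h1 := L.norm_z ψ
  have h2 := L.norm_z φ
  rcases L.hε with h | h
  · rw [h] at h1 h2
    linarith
  · rw [h] at h1 h2
    linarith

theorem H2Lat.sum_J (y : α) (hy : y ≠ 0) :
    ∑ ψ : {ψ : AddChar α ℂ // ψ ≠ 0}, ψ.1 y = -1 := by
  have h := Fintype.sum_eq_add_sum_subtype_ne (fun ψ : AddChar α ℂ => ψ y) 0
  rw [AddChar.sum_apply_eq_ite, if_neg hy, AddChar.zero_apply] at h
  linear_combination -h

include L in
theorem H2Lat.card_J : (Fintype.card {ψ : AddChar α ℂ // ψ ≠ 0} : ℤ) = D.q - 1 := by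
  have h := Fintype.sum_eq_add_sum_subtype_ne (fun _ : AddChar α ℂ => (1 : ℤ)) 0
  rw [Finset.sum_const, Finset.sum_const, Finset.card_univ, Finset.card_univ, D.card_char] at h
  simp only [nsmul_eq_mul, mul_one] at h
  linarith

theorem H2Lat.val_eq (χ : I) (y : α) (hy : y ≠ 0) :
    D.val χ y = L.z χ + L.ε * L.A χ y := by
  rw [D.inv_fourier, Fintype.sum_eq_add_sum_subtype_ne _ 0, AddChar.zero_apply, mul_one]
  have h1 : ∀ ψ : {ψ : AddChar α ℂ // ψ ≠ 0}, (D.mult χ ψ.1 : ℂ) * ψ.1 y =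
      (L.w χ : ℂ) * ψ.1 y + L.ε * (if χ = L.c ψ then ψ.1 y else 0) := by
    intro ψ
    rw [L.hu ψ χ]
    push_cast
    split_ifs <;> ring
  rw [Finset.sum_congr rfl (fun ψ _ => h1 ψ), Finset.sum_add_distrib, ← Finset.mul_sum,
    ← Finset.mul_sum, H2Lat.sum_J y hy]
  unfold H2Lat.z H2Lat.A
  push_cast
  ring

theorem H2Lat.fiber_sum {M : Type*} [AddCommMonoid M] (μ : {ψ : AddChar α ℂ // ψ ≠ 0})
    (g : {ψ : AddChar α ℂ // ψ ≠ 0} → M) :
    ∑ ψ : {ψ : AddChar α ℂ // ψ ≠ 0}, (if L.c μ = L.c ψ then g ψ else 0) =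
      g μ + g (D.twJ μ) + g (D.twJ (D.twJ μ)) := by
  have hfree1 : D.twJ μ ≠ μ := fun h => μ.2 (D.tw_free μ.1 (congrArg Subtype.val h))
  have hfree2 : D.twJ (D.twJ μ) ≠ μ := by
    intro h
    have h1 : h2tw D.σ (h2tw D.σ μ.1) = μ.1 := congrArg Subtype.val h
    have h2 := congrArg (h2tw D.σ) h1
    rw [D.tw3] at h2
    exact μ.2 (D.tw_free μ.1 h2.symm)
  have hfree3 : D.twJ (D.twJ μ) ≠ D.twJ μ := by
    intro h
    have h1 : h2tw D.σ (h2tw D.σ μ.1) = h2tw D.σ μ.1 := congrArg Subtype.val h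
    exact hfree1 (Subtype.ext (D.tw_inj h1))
  have hr1 : D.rel μ.1 (D.twJ μ).1 := D.rel_symm (D.rel_tw (D.rel_refl _))
  have hr2 : D.rel μ.1 (D.twJ (D.twJ μ)).1 :=
    D.rel_symm (D.rel_tw (D.rel_tw (D.rel_refl _)))
  have h1 : ∀ ψ : {ψ : AddChar α ℂ // ψ ≠ 0}, (if L.c μ = L.c ψ then g ψ else 0) =
      (if ψ = μ then g ψ else 0) + (if ψ = D.twJ μ then g ψ else 0) +
        (if ψ = D.twJ (D.twJ μ) then g ψ else 0) := by
    intro ψ
    by_cases c0 : ψ = μ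
    · rw [c0, if_pos rfl, if_pos rfl, if_neg (Ne.symm hfree1), if_neg (Ne.symm hfree2)]
      simp
    · by_cases c1 : ψ = D.twJ μ
      · rw [c1, if_pos ((L.hc _ _).mpr hr1), if_neg hfree1, if_pos rfl,
          if_neg (Ne.symm hfree3)]
        simp
      · by_cases c2 : ψ = D.twJ (D.twJ μ)
        · rw [c2, if_pos ((L.hc _ _).mpr hr2), if_neg hfree2, if_neg hfree3, if_pos rfl]
          simp
        · rw [if_neg c0, if_neg c1, if_neg c2, if_neg]
          · simp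
          · intro hc
            rcases D.rel_symm ((L.hc μ ψ).mp hc) with h | h | h
            · exact c0 (Subtype.ext h)
            · exact c1 (Subtype.ext h)
            · exact c2 (Subtype.ext h)
  rw [Finset.sum_congr rfl (fun ψ _ => h1 ψ), Finset.sum_add_distrib, Finset.sum_add_distrib,
    Finset.sum_ite_eq', Finset.sum_ite_eq', Finset.sum_ite_eq']
  simp

theorem H2Lat.n_eq (χ : I) : (L.n χ = 0 ∧ ∀ ψ, χ ≠ L.c ψ) ∨ (L.n χ = 3 ∧ ∃ ψ, χ = L.c ψ) := by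
  by_cases h : ∃ ψ, χ = L.c ψ
  · right
    refine ⟨?_, h⟩
    obtain ⟨μ, rfl⟩ := h
    unfold H2Lat.n
    rw [L.fiber_sum μ (fun _ => (1 : ℤ))]
    norm_num
  · left
    push Not at h
    refine ⟨?_, h⟩
    unfold H2Lat.n
    apply Finset.sum_eq_zero
    intro ψ _
    rw [if_neg (h ψ)]

theorem H2Lat.sum_val_ne (χ : I) :
    ∑ x : {x : α // x ≠ 0}, D.val χ x.1 = ((D.q : ℂ) - 1) * L.z χ - L.ε * L.n χ := by
  have hcard : (Fintype.card {x : α // x ≠ 0} : ℂ) = (D.q : ℂ) - 1 := by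
    have h := Fintype.sum_eq_add_sum_subtype_ne (fun _ : α => (1 : ℂ)) 0
    rw [Finset.sum_const, Finset.sum_const, Finset.card_univ, Finset.card_univ, D.hq] at h
    simp only [nsmul_eq_mul, mul_one] at h
    linear_combination -h
  have hs : ∀ ψ : {ψ : AddChar α ℂ // ψ ≠ 0}, ∑ x : {x : α // x ≠ 0}, ψ.1 x.1 = -1 := by
    intro ψ
    have h := Fintype.sum_eq_add_sum_subtype_ne (fun x : α => ψ.1 x) 0
    rw [AddChar.sum_eq_ite, if_neg ψ.2, AddChar.map_zero_eq_one] at h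
    linear_combination -h
  have h1 : ∀ x : {x : α // x ≠ 0}, D.val χ x.1 = L.z χ + L.ε * L.A χ x.1 :=
    fun x => L.val_eq χ x.1 x.2
  rw [Finset.sum_congr rfl (fun x _ => h1 x), Finset.sum_add_distrib, Finset.sum_const,
    Finset.card_univ, ← Finset.mul_sum, nsmul_eq_mul, hcard]
  have h2 : ∑ x : {x : α // x ≠ 0}, L.A χ x.1 = -(L.n χ : ℂ) := by
    unfold H2Lat.A H2Lat.n
    rw [Finset.sum_comm]
    push_cast
    rw [← Finset.sum_neg_distrib]
    apply Finset.sum_congr rfl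
    intro ψ _
    by_cases h : χ = L.c ψ
    · simp only [if_pos h]
      rw [hs ψ]
    · simp only [if_neg h]
      simp
  rw [h2]
  ring

theorem H2Lat.mult_zero_eq (χ : I) :
    (D.q : ℤ) * D.mult χ 0 = D.deg χ + ((D.q : ℤ) - 1) * L.z χ - L.ε * L.n χ := by
  have h1 : ((D.q : ℤ) * D.mult χ 0 : ℂ) = ∑ x, D.val χ x := by
    rw [D.hmult]
    have : ∀ x, D.val χ x * conj ((0 : AddChar α ℂ) x) = D.val χ x := by
      intro x
      rw [AddChar.zero_apply, map_one, mul_one]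
    rw [Finset.sum_congr rfl (fun x _ => this x)]
    push_cast
    rw [← mul_assoc, mul_inv_cancel₀ D.q_ne_zero, one_mul]
  rw [Fintype.sum_eq_add_sum_subtype_ne _ 0, L.sum_val_ne, D.hdeg] at h1
  have h2 : (((D.q : ℤ) * D.mult χ 0 : ℤ) : ℂ) =
      ((D.deg χ + ((D.q : ℤ) - 1) * L.z χ - L.ε * L.n χ : ℤ) : ℂ) := by
    push_cast
    push_cast at h1
    linear_combination h1
  exact_mod_cast h2

end H2d

end Cfsg.Agent.helper12
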