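import Mathlib
import Cfsg.Agent.Lib_helper12_H2d

set_option autoImplicit false

/-!
The core theorem on the principal block of a group with homocyclic Sylow 2-subgroup:
existence of a non-trivial linear character trivial on the Sylow subgroup (helper12).
-/

namespace Cfsg.Agent.helper12

open scoped ComplexConjugate
open Classical

theorem h2_arith_aux (q A B : ℤ) (hq : 16 ≤ q)
    (h : q * (A * B * (A + B)) + 2 * (A * A - A * B + B * B) = 0) : A = 0 ∧ B = 0 := by
  by_contra hcon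
  have hN : 0 < A * A - A * B + B * B := by
    have h4 : 0 ≤ A * A - A * B + B * B := by nlinarith [sq_nonneg (2 * A - B), sq_nonneg B]
    rcases h4.lt_or_eq with h5 | h5
    · exact h5
    · exfalso
      apply hcon
      have hB : B = 0 := by nlinarith [sq_nonneg (2 * A - B), sq_nonneg B]
      have hA : A = 0 := by nlinarith [sq_nonneg (2 * A - B), sq_nonneg A]
      exact ⟨hA, hB⟩
  have hP : A * B * (A + B) < 0 := by nlinarith
  -- sign analysis
  rcases lt_trichotomy A 0 with hA | hA | hA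
  · rcases lt_trichotomy B 0 with hB | hB | hB
    · -- both negative
      obtain ⟨a, rfl⟩ : ∃ a : ℤ, A = -(a + 1) := ⟨-A - 1, by ring⟩
      obtain ⟨b, rfl⟩ : ∃ b : ℤ, B = -(b + 1) := ⟨-B - 1, by ring⟩
      have ha : 0 ≤ a := by omega
      have hb : 0 ≤ b := by omega
      obtain ⟨q', rfl⟩ : ∃ q' : ℤ, q = 16 + q' := ⟨q - 16, by ring⟩
      have hq' : 0 ≤ q' := by omega
      nlinarith [mul_nonneg ha hb, mul_nonneg (mul_nonneg ha hb) ha, mul_nonneg (mul_nonneg ha hb) hb,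
        mul_nonneg ha ha, mul_nonneg hb hb, mul_nonneg hq' ha, mul_nonneg hq' hb,
        mul_nonneg hq' (mul_nonneg ha hb), mul_nonneg hq' (mul_nonneg ha ha),
        mul_nonneg hq' (mul_nonneg hb hb), mul_nonneg hq' (mul_nonneg (mul_nonneg ha hb) ha),
        mul_nonneg hq' (mul_nonneg (mul_nonneg ha hb) hb)]
    · rw [hB] at hP; simp at hP
    · -- A < 0 < B : need A + B > 0
      rcases lt_trichotomy (A + B) 0 with hS | hS | hS
      · exfalso
        have : 0 < A * B * (A + B) := by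
          have h1 : A * B < 0 := mul_neg_of_neg_of_pos hA hB
          exact mul_pos_of_neg_of_neg h1 hS
        linarith
      · rw [hS] at hP; simp at hP
      · obtain ⟨k, rfl⟩ : ∃ k : ℤ, A = -(k + 1) := ⟨-A - 1, by ring⟩
        obtain ⟨d, rfl⟩ : ∃ d : ℤ, B = (k + 1) + (d + 1) := ⟨B - (k + 1) - 1, by ring⟩
        have hk : 0 ≤ k := by omega
        have hd : 0 ≤ d := by omega
        obtain ⟨q', rfl⟩ : ∃ q' : ℤ, q = 16 + q' := ⟨q - 16, by ring⟩
        have hq' : 0 ≤ q' := by omega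
        nlinarith [mul_nonneg hk hd, mul_nonneg (mul_nonneg hk hd) hk, mul_nonneg (mul_nonneg hk hd) hd,
          mul_nonneg hk hk, mul_nonneg hd hd, mul_nonneg hq' hk, mul_nonneg hq' hd,
          mul_nonneg hq' (mul_nonneg hk hd), mul_nonneg hq' (mul_nonneg hk hk),
          mul_nonneg hq' (mul_nonneg hd hd), mul_nonneg hq' (mul_nonneg (mul_nonneg hk hd) hk),
          mul_nonneg hq' (mul_nonneg (mul_nonneg hk hd) hd)]
  · rw [hA] at hP; simp at hP
  · rcases lt_trichotomy B 0 with hB | hB | hB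
    · rcases lt_trichotomy (A + B) 0 with hS | hS | hS
      · exfalso
        have : 0 < A * B * (A + B) := by
          have h1 : A * B < 0 := mul_neg_of_pos_of_neg hA hB
          exact mul_pos_of_neg_of_neg h1 hS
        linarith
      · rw [hS] at hP; simp at hP
      · obtain ⟨k, rfl⟩ : ∃ k : ℤ, B = -(k + 1) := ⟨-B - 1, by ring⟩
        obtain ⟨d, rfl⟩ : ∃ d : ℤ, A = (k + 1) + (d + 1) := ⟨A - (k + 1) - 1, by ring⟩
        have hk : 0 ≤ k := by omega
        have hd : 0 ≤ d := by omega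
        obtain ⟨q', rfl⟩ : ∃ q' : ℤ, q = 16 + q' := ⟨q - 16, by ring⟩
        have hq' : 0 ≤ q' := by omega
        nlinarith [mul_nonneg hk hd, mul_nonneg (mul_nonneg hk hd) hk, mul_nonneg (mul_nonneg hk hd) hd,
          mul_nonneg hk hk, mul_nonneg hd hd, mul_nonneg hq' hk, mul_nonneg hq' hd,
          mul_nonneg hq' (mul_nonneg hk hd), mul_nonneg hq' (mul_nonneg hk hk),
          mul_nonneg hq' (mul_nonneg hd hd), mul_nonneg hq' (mul_nonneg (mul_nonneg hk hd) hk),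
          mul_nonneg hq' (mul_nonneg (mul_nonneg hk hd) hd)]
    · rw [hB] at hP; simp at hP
    · exfalso
      have : 0 < A * B * (A + B) := mul_pos (mul_pos hA hB) (by linarith)
      linarith

theorem h2_arith (q a b : ℤ) (hq : 16 ≤ q) (ha : ∃ A, a = q * A + 1) (hb : ∃ B, b = q * B + 1)
    (h : (a * b + a + b) * (a + b + 1) = 9 * a * b) : a = 1 ∧ b = 1 := by
  obtain ⟨A, rfl⟩ := ha
  obtain ⟨B, rfl⟩ := hb
  have h1 : q * q * (q * (A * B * (A + B)) + 2 * (A * A - A * B + B * B)) = 0 := by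
    linear_combination h
  have hq0 : q * q ≠ 0 := by positivity
  have h2 := (mul_eq_zero.mp h1).resolve_left hq0
  obtain ⟨hA, hB⟩ := h2_arith_aux q A B hq h2
  rw [hA, hB]
  simp

section H2e

variable {α : Type*} [AddCommGroup α] [Fintype α] [DecidableEq α]
variable {I : Type*} [Fintype I] [DecidableEq I] {D : H2Data α I} (L : H2Lat D)

theorem H2Lat.one_facts : L.z D.one = 1 ∧ ∀ ψ, D.one ≠ L.c ψ := by
  have h := L.mult_zero_eq D.one
  have hm : D.mult D.one 0 = 1 := by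
    have h1 : (D.mult D.one 0 : ℂ) = 1 := by
      rw [D.hmult]
      have : ∀ x, D.val D.one x * conj ((0 : AddChar α ℂ) x) = 1 := by
        intro x
        rw [D.hone, AddChar.zero_apply, map_one, mul_one]
      rw [Finset.sum_congr rfl (fun x _ => this x), Finset.sum_const, Finset.card_univ, D.hq,
        nsmul_eq_mul, mul_one, inv_mul_cancel₀ D.q_ne_zero]
    exact_mod_cast h1
  have hd : D.deg D.one = 1 := by
    have h1 : (D.deg D.one : ℂ) = 1 := by rw [← D.hdeg, D.hone]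
    exact_mod_cast h1
  rw [hm, hd] at h
  have hq' : (16 : ℤ) ≤ D.q := by exact_mod_cast D.hq16
  rcases L.n_eq D.one with ⟨hn, hne⟩ | ⟨hn, -⟩
  · rw [hn] at h
    refine ⟨?_, hne⟩
    have h1 : ((D.q : ℤ) - 1) * (L.z D.one - 1) = 0 := by push_cast at h; linarith
    rcases mul_eq_zero.mp h1 with h2 | h2
    · omega
    · omega
  · exfalso
    rw [hn] at h
    push_cast at h
    rcases L.hε with he | he <;> rw [he] at h
    · have h1 : ((D.q : ℤ) - 1) * (L.z D.one - 1) = 3 := by linarith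
      rcases lt_trichotomy (L.z D.one - 1) 0 with h2 | h2 | h2
      · nlinarith
      · rw [h2] at h1; omega
      · nlinarith
    · have h1 : ((D.q : ℤ) - 1) * (L.z D.one - 1) = -3 := by linarith
      rcases lt_trichotomy (L.z D.one - 1) 0 with h2 | h2 | h2
      · nlinarith
      · rw [h2] at h1; omega
      · nlinarith

theorem H2Lat.z_c_zero (ψ : {ψ : AddChar α ℂ // ψ ≠ 0}) : L.z (L.c ψ) = 0 := by
  obtain ⟨hz1, hone⟩ := L.one_facts
  have hnorm := L.norm_z ψ
  have h1 : ∑ φ : {ψ : AddChar α ℂ // ψ ≠ 0}, L.z (L.c φ) ^ 2 =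
      ((D.q : ℤ) - 1) * L.z (L.c ψ) ^ 2 := by
    rw [Finset.sum_congr rfl (fun φ _ => by rw [L.z_const φ ψ]), Finset.sum_const,
      Finset.card_univ, nsmul_eq_mul, L.card_J]
  have h2 : ∑ φ : {ψ : AddChar α ℂ // ψ ≠ 0}, L.z (L.c φ) ^ 2 = ∑ χ, L.n χ * L.z χ ^ 2 := by
    have : ∀ φ : {ψ : AddChar α ℂ // ψ ≠ 0},
        L.z (L.c φ) ^ 2 = ∑ χ, if χ = L.c φ then L.z χ ^ 2 else 0 := by
      intro φ
      rw [Finset.sum_ite_eq', if_pos (Finset.mem_univ _)]
    rw [Finset.sum_congr rfl (fun φ _ => this φ), Finset.sum_comm]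
    apply Finset.sum_congr rfl
    intro χ _
    unfold H2Lat.n
    rw [Finset.sum_mul]
    apply Finset.sum_congr rfl
    intro φ _
    split_ifs <;> ring
  have h3 : 3 * L.z D.one ^ 2 + ∑ χ, L.n χ * L.z χ ^ 2 ≤ 3 * ∑ χ, L.z χ ^ 2 := by
    have : 3 * L.z D.one ^ 2 = ∑ χ, if χ = D.one then 3 * L.z χ ^ 2 else 0 := by
      rw [Finset.sum_ite_eq', if_pos (Finset.mem_univ _)]
    rw [this, ← Finset.sum_add_distrib, Finset.mul_sum]
    apply Finset.sum_le_sum
    intro χ _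
    have hz : 0 ≤ L.z χ ^ 2 := sq_nonneg _
    by_cases hχ : χ = D.one
    · rw [if_pos hχ]
      rcases L.n_eq χ with ⟨hn, -⟩ | ⟨-, φ, hφ⟩
      · rw [hn]
        linarith
      · exact absurd (hχ ▸ hφ) (hone φ)
    · rw [if_neg hχ]
      rcases L.n_eq χ with ⟨hn, -⟩ | ⟨hn, -⟩ <;> rw [hn] <;> nlinarith
  rw [← h2, h1, hnorm, hz1] at h3
  have hq' : (16 : ℤ) ≤ D.q := by exact_mod_cast D.hq16
  have hmul := mul_nonneg (sub_nonneg.mpr hq') (sq_nonneg (L.z (L.c ψ)))
  rcases L.hε with he | he <;> rw [he] at h3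
  · rcases lt_trichotomy (L.z (L.c ψ)) 0 with h | h | h
    · nlinarith [sq_nonneg (L.z (L.c ψ) - 1), sq_nonneg (L.z (L.c ψ) + 1)]
    · exact h
    · nlinarith [sq_nonneg (L.z (L.c ψ) - 1), sq_nonneg (L.z (L.c ψ) + 1)]
  · rcases lt_trichotomy (L.z (L.c ψ)) 0 with h | h | h
    · nlinarith [sq_nonneg (L.z (L.c ψ) - 1), sq_nonneg (L.z (L.c ψ) + 1)]
    · exact h
    · nlinarith [sq_nonneg (L.z (L.c ψ) - 1), sq_nonneg (L.z (L.c ψ) + 1)]

theorem H2Lat.z_struct (ψ₀ : {ψ : AddChar α ℂ // ψ ≠ 0}) :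
    ∃ a b : I, a ≠ b ∧ a ≠ D.one ∧ b ≠ D.one ∧ (L.z a = 1 ∨ L.z a = -1) ∧
      (L.z b = 1 ∨ L.z b = -1) ∧ (∀ χ, χ ≠ a → χ ≠ b → χ ≠ D.one → L.z χ = 0) := by
  obtain ⟨hz1, hone⟩ := L.one_facts
  have hnorm := L.norm_z ψ₀
  rw [L.z_c_zero ψ₀, mul_zero, add_zero] at hnorm
  have h2 : ∑ χ, (L.z χ - (if χ = D.one then 1 else 0)) ^ 2 = 2 := by
    have : ∀ χ, (L.z χ - (if χ = D.one then 1 else 0)) ^ 2 =
        L.z χ ^ 2 - (if χ = D.one then 2 * L.z χ - 1 else 0) := by
      intro χ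
      split_ifs <;> ring
    rw [Finset.sum_congr rfl (fun χ _ => this χ), Finset.sum_sub_distrib, Finset.sum_ite_eq',
      if_pos (Finset.mem_univ _), hnorm, hz1]
    norm_num
  obtain ⟨a, b, hab, ha, hb, hrest⟩ := h2_norm_two _ h2
  beta_reduce at ha hb hrest
  have ha1 : a ≠ D.one := by
    intro h
    rw [h, if_pos rfl, hz1] at ha
    omega
  have hb1 : b ≠ D.one := by
    intro h
    rw [h, if_pos rfl, hz1] at hb
    omega
  rw [if_neg ha1, sub_zero] at ha
  rw [if_neg hb1, sub_zero] at hb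
  refine ⟨a, b, hab, ha1, hb1, ha, hb, ?_⟩
  intro χ h1 h2' h3
  have := hrest χ h1 h2'
  rw [if_neg h3, sub_zero] at this
  exact this

theorem H2Lat.sum_mul_A (g : I → ℂ) (y : α) :
    ∑ χ, g χ * L.A χ y = ∑ ψ : {ψ : AddChar α ℂ // ψ ≠ 0}, g (L.c ψ) * ψ.1 y := by
  unfold H2Lat.A
  have : ∀ χ, g χ * ∑ ψ : {ψ : AddChar α ℂ // ψ ≠ 0}, (if χ = L.c ψ then ψ.1 y else 0) =
      ∑ ψ : {ψ : AddChar α ℂ // ψ ≠ 0}, if χ = L.c ψ then g χ * ψ.1 y else 0 := by
    intro χ
    rw [Finset.mul_sum]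
    apply Finset.sum_congr rfl
    intro ψ _
    split_ifs <;> ring
  rw [Finset.sum_congr rfl (fun χ _ => this χ), Finset.sum_comm]
  apply Finset.sum_congr rfl
  intro ψ _
  rw [Finset.sum_ite_eq', if_pos (Finset.mem_univ _)]

theorem H2Data.orth_zero (D : H2Data α I) (x : α) (hx : x ≠ 0) :
    ∑ χ, D.val χ x * (D.deg χ : ℂ) = 0 := by
  have hσ0 : D.σ 0 = 0 := map_zero _
  have hx1 : (0 : α) ≠ D.σ x := by
    intro h
    apply hx
    exact D.σ.injective (h.symm.trans hσ0.symm)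
  have hx2 : (0 : α) ≠ D.σ (D.σ x) := by
    intro h
    apply hx1
    exact (D.σ.injective (h.symm.trans hσ0.symm)).symm
  have h := D.horth0 x 0 (Ne.symm hx) hx1 hx2
  rw [← h]
  apply Finset.sum_congr rfl
  intro χ _
  rw [D.hdeg, Complex.conj_natCast]

end H2e

end Cfsg.Agent.helper12
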