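import Mathlib
import Cfsg.Agent.Lib_helper12_H2e

set_option autoImplicit false

/-!
The core theorem (helper12): a non-trivial linear character in the principal block,
trivial on the Sylow 2-subgroup.
-/

namespace Cfsg.Agent.helper12

open scoped ComplexConjugate
open Classical

section H2f

variable {α : Type*} [AddCommGroup α] [Fintype α] [DecidableEq α]
variable {I : Type*} [Fintype I] [DecidableEq I]

theorem h2_sum_three {M : Type*} [AddCommMonoid M] (g : I → M) (o a b : I) (hab : a ≠ b)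
    (hao : a ≠ o) (hbo : b ≠ o) (h : ∀ χ, χ ≠ a → χ ≠ b → χ ≠ o → g χ = 0) :
    ∑ χ, g χ = g o + g a + g b := by
  have h1 : ∀ χ, g χ = (if χ = o then g χ else 0) + (if χ = a then g χ else 0) +
      (if χ = b then g χ else 0) := by
    intro χ
    by_cases h1 : χ = o
    · rw [h1, if_pos rfl, if_neg (Ne.symm hao), if_neg (Ne.symm hbo)]
      simp
    · by_cases h2 : χ = a
      · rw [h2, if_neg hao, if_pos rfl, if_neg hab]
        simp
      · by_cases h3 : χ = b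
        · rw [h3, if_neg hbo, if_neg (Ne.symm hab), if_pos rfl]
          simp
        · rw [if_neg h1, if_neg h2, if_neg h3, h χ h2 h3 h1]
          simp
  rw [Finset.sum_congr rfl (fun χ _ => h1 χ), Finset.sum_add_distrib, Finset.sum_add_distrib,
    Finset.sum_ite_eq', Finset.sum_ite_eq', Finset.sum_ite_eq']
  simp

theorem h2_triple_sum (u v x : α) (hu : u + u = 0) (hv : v + v = 0) (hx : x + x ≠ 0) :
    ∑ ψ : AddChar α ℂ, ψ u * ψ v * ψ x = 0 := by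
  have h1 : ∀ ψ : AddChar α ℂ, ψ u * ψ v * ψ x = ψ (u + v + x) := by
    intro ψ
    rw [AddChar.map_add_eq_mul, AddChar.map_add_eq_mul]
  rw [Finset.sum_congr rfl (fun ψ _ => h1 ψ), AddChar.sum_apply_eq_ite, if_neg]
  intro h
  apply hx
  have h2 : x = -(u + v) := by
    rw [eq_neg_iff_add_eq_zero, add_comm]
    exact h
  have h3 : (u + v) + (u + v) = 0 := by
    calc (u + v) + (u + v) = (u + u) + (v + v) := by abel
      _ = 0 := by rw [hu, hv, add_zero]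
  rw [h2, ← neg_add, h3, neg_zero]

theorem H2Data.core (D : H2Data α I) (t x : α) (ht0 : t ≠ 0) (ht : t + t = 0)
    (hx : x + x ≠ 0)
    (hstar : ∑ χ, (D.val χ t) ^ 2 * D.val χ x / D.val χ 0 = 0) :
    ∃ ψ : I, ψ ≠ D.one ∧ ∀ y, D.val ψ y = 1 := by
  obtain ⟨L⟩ := D.exists_lat
  obtain ⟨ψ₀', -, hψ₀, -, -⟩ := D.exists_unrelated
  obtain ⟨ψ₀, -⟩ : ∃ ψ₀ : {ψ : AddChar α ℂ // ψ ≠ 0}, ψ₀ = ⟨ψ₀', hψ₀⟩ := ⟨_, rfl⟩
  obtain ⟨hz1, hone⟩ := L.one_facts
  obtain ⟨a, b, hab, ha1, hb1, ha, hb, hrest⟩ := L.z_struct ψ₀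
  have hx0 : x ≠ 0 := by
    intro h
    apply hx
    rw [h, add_zero]
  have hε2 := L.eps_sq
  obtain ⟨f, hfdef⟩ : ∃ f : ℕ, f = D.deg (L.c ψ₀) := ⟨_, rfl⟩
  have hf : ∀ ψ, D.deg (L.c ψ) = f := fun ψ => by rw [hfdef]; exact L.hd ψ ψ₀
  have hfpos : 0 < f := by rw [hfdef]; exact D.hdegpos _
  have hzc := L.z_c_zero
  have ha_c : ∀ ψ, a ≠ L.c ψ := by
    intro ψ h
    have := hzc ψ
    rw [← h] at this
    rcases ha with h' | h' <;> omega
  have hb_c : ∀ ψ, b ≠ L.c ψ := by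
    intro ψ h
    have := hzc ψ
    rw [← h] at this
    rcases hb with h' | h' <;> omega
  have hA0 : ∀ χ, (∀ ψ, χ ≠ L.c ψ) → ∀ y, L.A χ y = 0 := by
    intro χ h y
    unfold H2Lat.A
    apply Finset.sum_eq_zero
    intro ψ _
    rw [if_neg (h ψ)]
  have hna : L.n a = 0 := by
    rcases L.n_eq a with ⟨h, -⟩ | ⟨-, ψ, h⟩
    · exact h
    · exact absurd h (ha_c ψ)
  have hnb : L.n b = 0 := by
    rcases L.n_eq b with ⟨h, -⟩ | ⟨-, ψ, h⟩
    · exact h
    · exact absurd h (hb_c ψ)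
  have hdone : D.deg D.one = 1 := by
    have h1 : (D.deg D.one : ℂ) = 1 := by rw [← D.hdeg, D.hone]
    exact_mod_cast h1
  have hdapos := D.hdegpos a
  have hdbpos := D.hdegpos b
  -- the first relation
  have hstar1 : (1 : ℤ) + L.z a * D.deg a + L.z b * D.deg b = L.ε * f := by
    have h := D.orth_zero x hx0
    have h1 : ∀ χ, D.val χ x * (D.deg χ : ℂ) =
        (L.z χ : ℂ) * D.deg χ + L.ε * ((D.deg χ : ℂ) * L.A χ x) := by
      intro χ
      rw [L.val_eq χ x hx0]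
      ring
    rw [Finset.sum_congr rfl (fun χ _ => h1 χ), Finset.sum_add_distrib, ← Finset.mul_sum,
      L.sum_mul_A (fun χ => (D.deg χ : ℂ)) x] at h
    have h2 : ∑ ψ : {ψ : AddChar α ℂ // ψ ≠ 0}, (D.deg (L.c ψ) : ℂ) * ψ.1 x = -(f : ℂ) := by
      rw [Finset.sum_congr rfl (fun ψ _ => by rw [hf ψ]), ← Finset.mul_sum, H2Lat.sum_J x hx0]
      ring
    have h3 : ∑ χ, (L.z χ : ℂ) * D.deg χ =
        (L.z D.one : ℂ) * D.deg D.one + L.z a * D.deg a + L.z b * D.deg b := by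
      apply h2_sum_three _ _ _ _ hab ha1 hb1
      intro χ h1 h2 h3
      rw [hrest χ h1 h2 h3]
      simp
    rw [h2, h3, hz1, hdone] at h
    have h4 : ((1 + L.z a * D.deg a + L.z b * D.deg b : ℤ) : ℂ) = ((L.ε * f : ℤ) : ℂ) := by
      push_cast
      push_cast at h
      linear_combination h
    exact_mod_cast h4
  -- the second relation
  obtain ⟨t1, ht1def⟩ : ∃ t1 : α, t1 = D.σ t := ⟨_, rfl⟩
  obtain ⟨t2, ht2def⟩ : ∃ t2 : α, t2 = D.σ t1 := ⟨_, rfl⟩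
  have ht1 : t1 + t1 = 0 := by rw [ht1def, ← map_add, ht, map_zero]
  have ht2 : t2 + t2 = 0 := by rw [ht2def, ← map_add, ht1, map_zero]
  have hall : ∑ ψ : AddChar α ℂ, (ψ t + ψ t1 + ψ t2) ^ 2 * ψ x = 0 := by
    have hexp : ∀ ψ : AddChar α ℂ, (ψ t + ψ t1 + ψ t2) ^ 2 * ψ x =
        ψ t * ψ t * ψ x + ψ t1 * ψ t1 * ψ x + ψ t2 * ψ t2 * ψ x + 2 * (ψ t * ψ t1 * ψ x) +
          2 * (ψ t * ψ t2 * ψ x) + 2 * (ψ t1 * ψ t2 * ψ x) := by
      intro ψ
      ring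
    rw [Finset.sum_congr rfl (fun ψ _ => hexp ψ)]
    simp only [Finset.sum_add_distrib, ← Finset.mul_sum]
    rw [h2_triple_sum t t x ht ht hx, h2_triple_sum t1 t1 x ht1 ht1 hx,
      h2_triple_sum t2 t2 x ht2 ht2 hx, h2_triple_sum t t1 x ht ht1 hx,
      h2_triple_sum t t2 x ht ht2 hx, h2_triple_sum t1 t2 x ht1 ht2 hx]
    ring
  have hJ : ∑ ψ : {ψ : AddChar α ℂ // ψ ≠ 0}, (ψ.1 t + ψ.1 t1 + ψ.1 t2) ^ 2 * ψ.1 x = -9 := by
    have h := Fintype.sum_eq_add_sum_subtype_ne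
      (fun ψ : AddChar α ℂ => (ψ t + ψ t1 + ψ t2) ^ 2 * ψ x) 0
    rw [hall] at h
    simp only [AddChar.zero_apply] at h
    linear_combination -h
  have hAc : ∀ ψ : {ψ : AddChar α ℂ // ψ ≠ 0}, L.A (L.c ψ) t = ψ.1 t + ψ.1 t1 + ψ.1 t2 := by
    intro ψ
    have h := L.fiber_sum ψ (fun φ => φ.1 t)
    rw [ht2def, ht1def]
    exact h
  have hstar2 : (1 : ℂ) + (L.z a : ℂ) ^ 3 / D.deg a + (L.z b : ℂ) ^ 3 / D.deg b -
      9 * L.ε / f = 0 := by
    have hterm : ∀ χ, (D.val χ t) ^ 2 * D.val χ x / D.val χ 0 =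
        (L.z χ : ℂ) ^ 3 / D.deg χ + L.ε / f * ((L.A χ t) ^ 2 * L.A χ x) := by
      intro χ
      rw [L.val_eq χ t ht0, L.val_eq χ x hx0, D.hdeg]
      by_cases h : ∃ ψ, χ = L.c ψ
      · obtain ⟨ψ, rfl⟩ := h
        rw [hzc ψ, hf ψ]
        have h5 : (L.ε : ℂ) * L.ε = 1 := by exact_mod_cast hε2
        push_cast
        linear_combination ((L.ε : ℂ) * (L.A (L.c ψ) t) ^ 2 * L.A (L.c ψ) x / f) * h5
      · push Not at h
        rw [hA0 χ h, hA0 χ h]
        ring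
    rw [Finset.sum_congr rfl (fun χ _ => hterm χ), Finset.sum_add_distrib, ← Finset.mul_sum,
      L.sum_mul_A (fun χ => (L.A χ t) ^ 2) x] at hstar
    have h2 : ∑ ψ : {ψ : AddChar α ℂ // ψ ≠ 0}, (L.A (L.c ψ) t) ^ 2 * ψ.1 x = -9 := by
      rw [Finset.sum_congr rfl (fun ψ _ => by rw [hAc ψ])]
      exact hJ
    have h3 : ∑ χ, (L.z χ : ℂ) ^ 3 / D.deg χ =
        (L.z D.one : ℂ) ^ 3 / D.deg D.one + (L.z a : ℂ) ^ 3 / D.deg a +
          (L.z b : ℂ) ^ 3 / D.deg b := by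
      apply h2_sum_three _ _ _ _ hab ha1 hb1
      intro χ h1 h2 h3
      rw [hrest χ h1 h2 h3]
      simp
    rw [h2, h3, hz1, hdone] at hstar
    push_cast at hstar
    linear_combination hstar
  -- clearing denominators
  have hda0 : (D.deg a : ℂ) ≠ 0 := by exact_mod_cast hdapos.ne'
  have hdb0 : (D.deg b : ℂ) ≠ 0 := by exact_mod_cast hdbpos.ne'
  have hf0 : (f : ℂ) ≠ 0 := by exact_mod_cast hfpos.ne'
  have E1 : (D.deg a : ℤ) * D.deg b * f + L.z a ^ 3 * D.deg b * f + L.z b ^ 3 * D.deg a * f -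
      9 * L.ε * D.deg a * D.deg b = 0 := by
    have h1 : (D.deg a : ℂ) * D.deg b * f * ((1 : ℂ) + (L.z a : ℂ) ^ 3 / D.deg a +
        (L.z b : ℂ) ^ 3 / D.deg b - 9 * L.ε / f) =
        (D.deg a : ℂ) * D.deg b * f + (L.z a : ℂ) ^ 3 * D.deg b * f +
          (L.z b : ℂ) ^ 3 * D.deg a * f - 9 * L.ε * D.deg a * D.deg b := by
      field_simp
    rw [hstar2, mul_zero] at h1
    have h2 : (((D.deg a : ℤ) * D.deg b * f + L.z a ^ 3 * D.deg b * f +
        L.z b ^ 3 * D.deg a * f - 9 * L.ε * D.deg a * D.deg b : ℤ) : ℂ) = ((0 : ℤ) : ℂ) := by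
      push_cast
      exact h1.symm
    exact_mod_cast h2
  -- congruences
  have hca := L.mult_zero_eq a
  have hcb := L.mult_zero_eq b
  rw [hna, mul_zero, sub_zero] at hca
  rw [hnb, mul_zero, sub_zero] at hcb
  have hq' : (16 : ℤ) ≤ D.q := by exact_mod_cast D.hq16
  have hza2 : L.z a * L.z a = 1 := by rcases ha with h | h <;> rw [h] <;> norm_num
  have hzb2 : L.z b * L.z b = 1 := by rcases hb with h | h <;> rw [h] <;> norm_num
  have hAex : ∃ A, L.z a * D.deg a = D.q * A + 1 :=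
    ⟨L.z a * D.mult a 0 - 1, by linear_combination (L.z a) * (-1) * hca - ((D.q : ℤ) - 1) * hza2⟩
  have hBex : ∃ B, L.z b * D.deg b = D.q * B + 1 :=
    ⟨L.z b * D.mult b 0 - 1, by linear_combination (L.z b) * (-1) * hcb - ((D.q : ℤ) - 1) * hzb2⟩
  have hT : (L.z a * D.deg a * (L.z b * D.deg b) + L.z a * D.deg a + L.z b * D.deg b) *
      (L.z a * D.deg a + L.z b * D.deg b + 1) = 9 * (L.z a * D.deg a) * (L.z b * D.deg b) := by
    linear_combination (L.z a * L.z b * L.ε) * E1 -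
      (L.z b * L.ε * D.deg b * f * (L.z a * L.z a + 1)) * hza2 -
      (L.z a * L.ε * D.deg a * f * (L.z b * L.z b + 1)) * hzb2 +
      (9 * L.z a * L.z b * D.deg a * D.deg b) * hε2 +
      (L.z a * D.deg a * (L.z b * D.deg b) + L.z a * D.deg a + L.z b * D.deg b) * hstar1
  obtain ⟨h1a, h1b⟩ := h2_arith D.q _ _ hq' hAex hBex hT
  have hza : L.z a = 1 ∧ D.deg a = 1 := by
    rcases ha with h | h
    · rw [h] at h1a
      exact ⟨h, by omega⟩
    · rw [h] at h1a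
      omega
  refine ⟨a, ha1, ?_⟩
  intro y
  by_cases hy : y = 0
  · rw [hy, D.hdeg, hza.2]
    simp
  · rw [L.val_eq a y hy, hA0 a ha_c, mul_zero, add_zero, hza.1]
    simp

end H2f

end Cfsg.Agent.helper12
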