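import Mathlib
import Cfsg.Agent.Lib_helper12_H2f
import Cfsg.Agent.Lib_helper1_Core

set_option autoImplicit false

/-!
Local group theory for a homocyclic Sylow 2-subgroup of rank two whose normalizer acts
non-trivially (helper12).
-/

namespace Cfsg.Agent.helper12

open Cfsg

universe u

/-- conjugation by a normalizing element -/
def h2conj {G : Type u} [Group G] (P : Subgroup G) (n : G)
    (hn : n ∈ Subgroup.normalizer (P : Set G)) : P ≃* P where
  toFun p := ⟨n * p * n⁻¹, (Subgroup.mem_normalizer_iff.mp hn p).mp p.2⟩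
  invFun p := ⟨n⁻¹ * p * n, by
    have := (Subgroup.mem_normalizer_iff.mp (inv_mem hn) p).mp p.2
    simpa using this⟩
  left_inv p := by
    ext
    simp [mul_assoc]
  right_inv p := by
    ext
    simp [mul_assoc]
  map_mul' a b := by
    ext
    simp [mul_assoc]

/-- the local data of a homocyclic Sylow 2-subgroup with non-trivial automizer -/
structure H2Ctx (G : Type u) [Group G] [Finite G] where
  P : Sylow 2 G
  m : ℕ
  hm : 2 ≤ m
  e : (P : Subgroup G) ≃* Multiplicative (ZMod (2 ^ m) × ZMod (2 ^ m))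
  n₀ : G
  hn₀N : n₀ ∈ Subgroup.normalizer ((P : Subgroup G) : Set G)
  hn₀C : n₀ ∉ Subgroup.centralizer ((P : Subgroup G) : Set G)
  hn₀3 : n₀ ^ 3 ∈ Subgroup.centralizer ((P : Subgroup G) : Set G)
  hN : ∀ n ∈ Subgroup.normalizer ((P : Subgroup G) : Set G), ∃ i : ℕ, i < 3 ∧
    ∃ c ∈ Subgroup.centralizer ((P : Subgroup G) : Set G), n = n₀ ^ i * c
  hfree : ∀ z ∈ (P : Subgroup G), z ≠ 1 → Subgroup.centralizer ({z} : Set G) ⊓
    Subgroup.normalizer ((P : Subgroup G) : Set G) =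
      Subgroup.centralizer ((P : Subgroup G) : Set G)

namespace H2Ctx

variable {G : Type u} [Group G] [Finite G] (C : H2Ctx G)

theorem comm (a b : G) (ha : a ∈ (C.P : Subgroup G)) (hb : b ∈ (C.P : Subgroup G)) :
    a * b = b * a := by
  have h := mul_comm (C.e ⟨a, ha⟩) (C.e ⟨b, hb⟩)
  rw [← map_mul, ← map_mul] at h
  exact congrArg Subtype.val (C.e.injective h)

/-- the embedding of the coordinate group -/
noncomputable def ι (x : ZMod (2 ^ C.m) × ZMod (2 ^ C.m)) : G :=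
  ((C.e.symm (Multiplicative.ofAdd x) : (C.P : Subgroup G)) : G)

theorem ι_mem (x : ZMod (2 ^ C.m) × ZMod (2 ^ C.m)) : C.ι x ∈ (C.P : Subgroup G) :=
  Subtype.property _

theorem ι_add (x y : ZMod (2 ^ C.m) × ZMod (2 ^ C.m)) : C.ι (x + y) = C.ι x * C.ι y := by
  unfold ι
  rw [ofAdd_add, map_mul]
  rfl

theorem ι_zero : C.ι 0 = 1 := by
  unfold ι
  rw [ofAdd_zero, map_one]
  rfl

theorem ι_inj : Function.Injective C.ι := by
  intro x y h
  have h1 : C.e.symm (Multiplicative.ofAdd x) = C.e.symm (Multiplicative.ofAdd y) :=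
    Subtype.ext h
  exact Multiplicative.ofAdd.injective (C.e.symm.injective h1)

theorem ι_surj (p : G) (hp : p ∈ (C.P : Subgroup G)) : ∃ x, C.ι x = p :=
  ⟨Multiplicative.toAdd (C.e ⟨p, hp⟩), by unfold ι; simp⟩

theorem ι_eq_one {x : ZMod (2 ^ C.m) × ZMod (2 ^ C.m)} : C.ι x = 1 ↔ x = 0 := by
  rw [← C.ι_zero]
  exact C.ι_inj.eq_iff

/-- the automorphism of the coordinate group induced by `n₀` -/
noncomputable def σ : (ZMod (2 ^ C.m) × ZMod (2 ^ C.m)) ≃+ (ZMod (2 ^ C.m) × ZMod (2 ^ C.m)) :=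
  AddEquiv.toMultiplicative.symm
    (C.e.symm.trans ((h2conj (C.P : Subgroup G) C.n₀ C.hn₀N).trans C.e))

theorem ι_σ (x : ZMod (2 ^ C.m) × ZMod (2 ^ C.m)) : C.ι (C.σ x) = C.n₀ * C.ι x * C.n₀⁻¹ := by
  unfold ι σ
  simp [h2conj]

theorem σ3 (x : ZMod (2 ^ C.m) × ZMod (2 ^ C.m)) : C.σ (C.σ (C.σ x)) = x := by
  apply C.ι_inj
  rw [C.ι_σ, C.ι_σ, C.ι_σ]
  have h := (Subgroup.mem_centralizer_iff.mp C.hn₀3) (C.ι x) (C.ι_mem x)
  have h3 : C.n₀ ^ 3 = C.n₀ * C.n₀ * C.n₀ := by rw [pow_succ, pow_two]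
  calc C.n₀ * (C.n₀ * (C.n₀ * C.ι x * C.n₀⁻¹) * C.n₀⁻¹) * C.n₀⁻¹
      = C.n₀ ^ 3 * C.ι x * (C.n₀ ^ 3)⁻¹ := by rw [h3]; group
    _ = C.ι x * C.n₀ ^ 3 * (C.n₀ ^ 3)⁻¹ := by rw [h]
    _ = C.ι x := by group

theorem σ_free (x : ZMod (2 ^ C.m) × ZMod (2 ^ C.m)) (h : C.σ x = x) : x = 0 := by
  by_contra hx
  have hx1 : C.ι x ≠ 1 := fun h1 => hx (C.ι_eq_one.mp h1)
  have h1 : C.n₀ * C.ι x * C.n₀⁻¹ = C.ι x := by rw [← C.ι_σ, h]
  apply C.hn₀C
  rw [← C.hfree (C.ι x) (C.ι_mem x) hx1, Subgroup.mem_inf]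
  refine ⟨?_, C.hn₀N⟩
  rw [Subgroup.mem_centralizer_iff]
  intro y hy
  rw [Set.mem_singleton_iff] at hy
  rw [hy]
  calc C.ι x * C.n₀ = (C.n₀ * C.ι x * C.n₀⁻¹) * C.n₀ := by rw [h1]
    _ = C.n₀ * C.ι x := by group

theorem fusion (x y : ZMod (2 ^ C.m) × ZMod (2 ^ C.m)) (h : IsConj (C.ι x) (C.ι y)) :
    y = x ∨ y = C.σ x ∨ y = C.σ (C.σ x) := by
  haveI : Fact (Nat.Prime 2) := ⟨Nat.prime_two⟩
  haveI : IsMulCommutative (C.P : Subgroup G) :=
    ⟨⟨fun a b => Subtype.ext (C.comm a b a.2 b.2)⟩⟩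
  obtain ⟨c, hc⟩ := isConj_iff.mp h
  have h1 : c⁻¹⁻¹ * C.ι x * c⁻¹ ∈ (C.P : Subgroup G) := by
    rw [inv_inv, hc]
    exact C.ι_mem y
  obtain ⟨n, hn, hn2⟩ := Sylow.conj_eq_normalizer_conj_of_mem C.P (C.ι x) c⁻¹ (C.ι_mem x) h1
  rw [inv_inv, hc] at hn2
  obtain ⟨i, hi, d, hd, hnd⟩ := C.hN n⁻¹ (inv_mem hn)
  have hdx : d * C.ι x * d⁻¹ = C.ι x := by
    have := (Subgroup.mem_centralizer_iff.mp hd) (C.ι x) (C.ι_mem x)
    rw [← this]
    group
  have hn'' : n = d⁻¹ * (C.n₀ ^ i)⁻¹ := by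
    rw [← mul_inv_rev, ← hnd, inv_inv]
  have h3 : C.ι y = C.n₀ ^ i * C.ι x * (C.n₀ ^ i)⁻¹ := by
    rw [hn2, hnd, hn'']
    calc C.n₀ ^ i * d * C.ι x * (d⁻¹ * (C.n₀ ^ i)⁻¹)
        = C.n₀ ^ i * (d * C.ι x * d⁻¹) * (C.n₀ ^ i)⁻¹ := by group
      _ = _ := by rw [hdx]
  interval_cases i
  · left
    apply C.ι_inj
    rw [h3]
    group
  · right; left
    apply C.ι_inj
    rw [h3, C.ι_σ, pow_one]
  · right; right
    apply C.ι_inj
    rw [h3, C.ι_σ, C.ι_σ, pow_two]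
    group

theorem cent_nilpotent (z : G) (hz : z ∈ (C.P : Subgroup G)) (hz1 : z ≠ 1) :
    (∃ k : ℕ, (pPrimeCore 2 (Subgroup.centralizer ({z} : Set G))).index = 2 ^ k) ∧
      2 ^ (Nat.card (Subgroup.centralizer ({z} : Set G))).factorization 2 =
        Nat.card (C.P : Subgroup G) := by
  classical
  haveI : Fact (Nat.Prime 2) := ⟨Nat.prime_two⟩
  obtain ⟨H, hH⟩ : ∃ H : Subgroup G, H = Subgroup.centralizer ({z} : Set G) := ⟨_, rfl⟩
  rw [← hH]
  have hmemH : ∀ x : G, x ∈ H ↔ z * x = x * z := by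
    intro x
    rw [hH, Subgroup.mem_centralizer_iff]
    constructor
    · intro h; exact h z rfl
    · intro h y hy
      rw [Set.mem_singleton_iff.mp hy]; exact h
  have hPH : (C.P : Subgroup G) ≤ H := fun p hp => (hmemH p).mpr (C.comm z p hz hp)
  obtain ⟨PH, hPHdef⟩ : ∃ PH : Sylow 2 H, PH = C.P.subtype hPH := ⟨_, rfl⟩
  have hPHcoe : (PH : Subgroup H) = (C.P : Subgroup G).subgroupOf H := by
    rw [hPHdef]
    exact Sylow.coe_subtype _ _
  have hle : Subgroup.normalizer ((PH : Subgroup H) : Set H) ≤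
      Subgroup.centralizer ((PH : Subgroup H) : Set H) := by
    intro h hh
    rw [hPHcoe] at hh ⊢
    have hN : (h : G) ∈ Subgroup.normalizer ((C.P : Subgroup G) : Set G) := by
      rw [Subgroup.mem_normalizer_iff]
      intro g
      rw [Subgroup.mem_normalizer_iff] at hh
      constructor
      · intro hg
        have := (hh ⟨g, hPH hg⟩).mp (Subgroup.mem_subgroupOf.mpr hg)
        exact Subgroup.mem_subgroupOf.mp this
      · intro hg
        have hgH : g ∈ H := by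
          have h1 : (h : G) * g * (h : G)⁻¹ ∈ H := hPH hg
          have h2 : g = (h : G)⁻¹ * ((h : G) * g * (h : G)⁻¹) * (h : G) := by group
          rw [h2]
          exact H.mul_mem (H.mul_mem (H.inv_mem h.2) h1) h.2
        have := (hh ⟨g, hgH⟩).mpr (Subgroup.mem_subgroupOf.mpr hg)
        exact Subgroup.mem_subgroupOf.mp this
    have hC : (h : G) ∈ Subgroup.centralizer ((C.P : Subgroup G) : Set G) := by
      rw [← C.hfree z hz hz1]
      exact ⟨by rw [← hH]; exact h.2, hN⟩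
    rw [Subgroup.mem_centralizer_iff]
    intro p hp
    have := (Subgroup.mem_centralizer_iff.mp hC) (p : G) (Subgroup.mem_subgroupOf.mp hp)
    exact Subtype.ext this
  have hcompl := MonoidHom.ker_transferSylow_isComplement' PH hle
  obtain ⟨K, hK⟩ : ∃ K : Subgroup H, K = (MonoidHom.transferSylow PH hle).ker := ⟨_, rfl⟩
  rw [← hK] at hcompl
  haveI : K.Normal := by rw [hK]; infer_instance
  have hcard : Nat.card K * Nat.card (PH : Subgroup H) = Nat.card H := hcompl.card_mul_card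
  have hPHcard : Nat.card (PH : Subgroup H) = 2 ^ (Nat.card H).factorization 2 :=
    PH.card_eq_multiplicity
  have hKcop : (Nat.card K).Coprime 2 := by
    have hH0 : Nat.card H ≠ 0 := Nat.card_pos.ne'
    have h1 := Nat.coprime_ordCompl Nat.prime_two hH0
    have h2 : Nat.card K = Nat.card H / 2 ^ (Nat.card H).factorization 2 := by
      apply Nat.eq_div_of_mul_eq_left (by positivity)
      rw [← hPHcard]
      exact hcard
    rw [h2]
    exact h1.symm
  have hKle : K ≤ pPrimeCore 2 H := helper1.le_pPrimeCore inferInstance hKcop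
  have hKidx : K.index = Nat.card (PH : Subgroup H) := hcompl.symm.index_eq_card
  have hidx : (pPrimeCore 2 H).index ∣ 2 ^ (Nat.card H).factorization 2 := by
    rw [← hPHcard, ← hKidx]
    exact Subgroup.index_dvd_of_le hKle
  refine ⟨?_, ?_⟩
  · obtain ⟨k, -, hk⟩ := (Nat.dvd_prime_pow Nat.prime_two).mp hidx
    exact ⟨k, hk⟩
  · rw [← hPHcard, hPHcoe]
    exact Nat.card_congr (Subgroup.subgroupOfEquivOfLe hPH).toEquiv

end H2Ctx

end Cfsg.Agent.helper12
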