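import Mathlib
import Cfsg.Agent.S0925
import Cfsg.Agent.Lib_helper24_PrincipalSum3
import Cfsg.Agent.Lib_helper24_CharCod
import Cfsg.Agent.Lib_helper24_FirstMain
import Cfsg.Agent.Lib_helper23_ClassSum
import Cfsg.Agent.Lib_helper1_PrincQuot
import Cfsg.Agent.Lib_helper1_PrincBlock
import Cfsg.Agent.Lib_helper1_Core

/-!
Brauer's column formulas for the principal block (helper1): sums over the principal block of
products of "columns" `a_χ(θ) = (χ_P, θ)_P`.
-/

set_option autoImplicit false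
set_option linter.unusedVariables false
set_option linter.unusedSectionVars false
set_option linter.style.longLine false
set_option linter.style.haveILetI false

namespace Cfsg.Agent.helper1

open Cfsg Cfsg.Agent.helper24
open scoped ComplexConjugate

universe u

section PrincColumn

variable {G : Type u} [Group G]

/-- a `p`-element is its own `p`-part -/
theorem isPPart_self {p : ℕ} (hp : p.Prime) (x : G) (hx : ∃ k : ℕ, orderOf x = p ^ k) :
    IsPPart p x x := by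
  refine ⟨1, mul_one x, Commute.one_right x, hx, ?_⟩
  rw [orderOf_one]
  exact hp.one_lt.ne' ∘ Nat.dvd_one.1

/-- block orthogonality for the principal block, with a conjugate -/
theorem princ_orth_finsum [Finite G] (p : ℕ) [Fact p.Prime] (M : Ideal AlgInt)
    (hM : IsPModular p M) (g h x y : G) (hg : IsPPart p g x) (hh : IsPPart p h y)
    (hne : ¬ IsConj x y) :
    ∑ᶠ χ ∈ principalBlock M G, (χ : G → ℂ) g * conj ((χ : G → ℂ) h) = 0 := by
  classical
  letI := Fintype.ofFinite G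
  have h1 := (Cfsg.Agent.S0925.result p M hM).2 g h x y hg hh hne (principalBlock M G)
    (isPBlock_principalBlock M)
  rw [← h1]
  apply finsum_mem_congr rfl
  intro χ _
  rw [char_inv (irr_isCharacter χ.2)]

open Classical in
/-- the number of elements of a subgroup conjugating `y` to `z` -/
theorem card_conj_fiber_sub (N : Subgroup G) (y z : G) :
    Nat.card {x : N // (x : G) * y * (x : G)⁻¹ = z} =
      if ∃ n ∈ N, n * y * n⁻¹ = z then
        Nat.card ↥(N ⊓ Subgroup.centralizer ({y} : Set G)) else 0 := by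
  split_ifs with h
  · obtain ⟨n₀, hn₀, hz⟩ := h
    apply Nat.card_congr
    refine ⟨fun x => ⟨n₀⁻¹ * (x.1 : G), ⟨N.mul_mem (N.inv_mem hn₀) x.1.2, ?_⟩⟩,
      fun c => ⟨⟨n₀ * (c : G), N.mul_mem hn₀ c.2.1⟩, ?_⟩, ?_, ?_⟩
    · show n₀⁻¹ * (x.1 : G) ∈ Subgroup.centralizer ({y} : Set G)
      rw [Subgroup.mem_centralizer_singleton_iff]
      have hx : (x.1 : G) * y * (x.1 : G)⁻¹ = n₀ * y * n₀⁻¹ := x.2.trans hz.symm
      have h1 : (x.1 : G) * y = n₀ * y * n₀⁻¹ * (x.1 : G) := by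
        rw [← hx]; group
      calc n₀⁻¹ * (x.1 : G) * y = n₀⁻¹ * ((x.1 : G) * y) := by group
        _ = n₀⁻¹ * (n₀ * y * n₀⁻¹ * (x.1 : G)) := by rw [h1]
        _ = y * (n₀⁻¹ * (x.1 : G)) := by group
    · have hc := Subgroup.mem_centralizer_singleton_iff.1 c.2.2
      show n₀ * (c : G) * y * (n₀ * (c : G))⁻¹ = z
      rw [← hz]
      calc n₀ * (c : G) * y * (n₀ * (c : G))⁻¹ = n₀ * ((c : G) * y) * (c : G)⁻¹ * n₀⁻¹ := by group
        _ = n₀ * (y * (c : G)) * (c : G)⁻¹ * n₀⁻¹ := by rw [hc]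
        _ = n₀ * y * n₀⁻¹ := by group
    · intro x
      apply Subtype.ext
      apply Subtype.ext
      show n₀ * (n₀⁻¹ * (x.1 : G)) = (x.1 : G)
      group
    · intro c
      apply Subtype.ext
      show n₀⁻¹ * (n₀ * (c : G)) = (c : G)
      group
  · have : IsEmpty {x : N // (x : G) * y * (x : G)⁻¹ = z} :=
      ⟨fun x => h ⟨x.1, x.1.2, x.2⟩⟩
    exact Nat.card_of_isEmpty

/-- finsum over a set as a filtered finset sum -/
theorem finsum_mem_eq_sum_filter' {ι : Type*} [Fintype ι] (S : Set ι) [DecidablePred (· ∈ S)]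
    {A : Type*} [AddCommMonoid A] (f : ι → A) :
    ∑ᶠ i ∈ S, f i = ∑ i ∈ Finset.univ.filter (fun i : ι => i ∈ S), f i := by
  rw [finsum_mem_eq_finite_toFinset_sum _ (Set.toFinite _)]
  apply Finset.sum_congr _ (fun _ _ => rfl)
  ext i
  simp

/-- the norm sum of the principal block at a `p`-element -/
theorem princ_norm_finsum [Finite G] (p : ℕ) [Fact p.Prime] (M : Ideal AlgInt)
    (hM : IsPModular p M) (x : G) (hx : ∃ k : ℕ, orderOf x = p ^ k) :
    ∑ᶠ χ ∈ principalBlock M G, (χ : G → ℂ) x * conj ((χ : G → ℂ) x) =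
      ((∑ᶠ ψ ∈ principalBlock M ↥(Subgroup.centralizer ({x} : Set G)),
        ((charDegree (ψ : ↥(Subgroup.centralizer ({x} : Set G)) → ℂ) : ℚ)) ^ 2 : ℚ) : ℂ) := by
  classical
  have hp : p.Prime := Fact.out
  letI := Fintype.ofFinite G
  letI : Fintype (IrrCharacter G) := Fintype.ofFinite _
  letI : Fintype (IrrCharacter ↥(Subgroup.centralizer ({x} : Set G))) := Fintype.ofFinite _
  have h1 : ¬ p ∣ orderOf (1 : ↥(Subgroup.centralizer ({x} : Set G))) := by
    rw [orderOf_one]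
    exact hp.one_lt.ne' ∘ Nat.dvd_one.1
  have hmain := principal_block_section_sum p M hM x hx (Subgroup.centralizer ({x} : Set G)) rfl
    1 h1
  rw [finsum_mem_eq_sum_filter', finsum_mem_eq_sum_filter']
  have e1 : x * ((1 : ↥(Subgroup.centralizer ({x} : Set G))) : G) = x := by
    rw [Subgroup.coe_one, mul_one]
  rw [e1] at hmain
  convert hmain using 1
  push_cast
  refine Finset.sum_congr rfl (fun ψ _ => ?_)
  rw [char_charDegree_cast (irr_isCharacter ψ.2)]
  obtain ⟨n, hn⟩ := char_apply_one (irr_isCharacter ψ.2)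
  rw [hn, Complex.conj_natCast]
  ring

/-- Brauer's column inner product formula for the principal block -/
theorem princ_column_formula [Finite G] (p : ℕ) [Fact p.Prime] (M : Ideal AlgInt)
    (hM : IsPModular p M) (P : Subgroup G) (hP : IsPGroup p P) (N : Subgroup G)
    (hNN : N ≤ Subgroup.normalizer (P : Set G)) (U : Set G)
    (hfus : ∀ u ∈ U, ∀ g : G, g * u * g⁻¹ ∈ (P : Set G) → ∃ n ∈ N, n * u * n⁻¹ = g * u * g⁻¹)
    (w : ℚ)
    (hw : ∀ y ∈ U, ((∑ᶠ ψ ∈ principalBlock M ↥(Subgroup.centralizer ({y} : Set G)),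
      ((charDegree (ψ : ↥(Subgroup.centralizer ({y} : Set G)) → ℂ) : ℚ)) ^ 2 : ℚ)) =
        w * Nat.card ↥(N ⊓ Subgroup.centralizer ({y} : Set G)))
    (θ η : ↥P → ℂ) (hθU : ∀ y : ↥P, (y : G) ∉ U → θ y = 0) :
    ∑ᶠ χ ∈ principalBlock M G,
      ((Nat.card ↥P : ℂ)⁻¹ * ∑ᶠ y : ↥P, (χ : G → ℂ) (y : G) * θ y⁻¹) *
        conj ((Nat.card ↥P : ℂ)⁻¹ * ∑ᶠ y : ↥P, (χ : G → ℂ) (y : G) * η y⁻¹) =
      ((w : ℂ) / ((Nat.card ↥P : ℂ) ^ 2)) *
        ∑ᶠ y : ↥P, θ y * conj (∑ᶠ x : ↥N,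
          extendByZero P η ((x : G) * (y : G) * (x : G)⁻¹)) := by
  classical
  have hp : p.Prime := Fact.out
  letI := Fintype.ofFinite G
  letI : Fintype (IrrCharacter G) := Fintype.ofFinite _
  obtain ⟨SB, hSB⟩ : ∃ SB : Finset (IrrCharacter G),
    SB = Finset.univ.filter (fun χ : IrrCharacter G => χ ∈ principalBlock M G) := ⟨_, rfl⟩
  have hfs : ∀ F : IrrCharacter G → ℂ, ∑ᶠ χ ∈ principalBlock M G, F χ = ∑ χ ∈ SB, F χ := by
    intro F
    rw [finsum_mem_eq_sum_filter', hSB]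
  rw [hfs]
  simp only [finsum_eq_sum_of_fintype]
  obtain ⟨S, hS⟩ : ∃ S : G → G → ℂ,
    S = fun g h => ∑ χ ∈ SB, (χ : G → ℂ) g * conj ((χ : G → ℂ) h) := ⟨_, rfl⟩
  obtain ⟨c, hc⟩ : ∃ c : ℂ, c = (Nat.card ↥P : ℂ)⁻¹ := ⟨_, rfl⟩
  have hcc : conj c = c := by rw [hc, map_inv₀, Complex.conj_natCast]
  rw [← hc]
  -- reindexing by inversion
  have hre : ∀ (χ : IrrCharacter G) (f : ↥P → ℂ),
      ∑ y : ↥P, (χ : G → ℂ) (y : G) * f y⁻¹ = ∑ y : ↥P, f y * (χ : G → ℂ) ((y : G)⁻¹) := by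
    intro χ f
    apply Fintype.sum_equiv (Equiv.inv ↥P)
    intro y
    simp only [Equiv.inv_apply, Subgroup.coe_inv, inv_inv]
    ring
  -- expansion of the left side
  have hL : ∑ χ ∈ SB, (c * ∑ y : ↥P, (χ : G → ℂ) (y : G) * θ y⁻¹) *
        conj (c * ∑ y : ↥P, (χ : G → ℂ) (y : G) * η y⁻¹) =
      c ^ 2 * ∑ y : ↥P, θ y * ∑ z : ↥P, conj (η z) * S ((y : G)⁻¹) ((z : G)⁻¹) := by
    have h1 : ∀ χ ∈ SB, (c * ∑ y : ↥P, (χ : G → ℂ) (y : G) * θ y⁻¹) *
        conj (c * ∑ y : ↥P, (χ : G → ℂ) (y : G) * η y⁻¹) =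
        c ^ 2 * ∑ y : ↥P, ∑ z : ↥P, (θ y * conj (η z)) *
          ((χ : G → ℂ) ((y : G)⁻¹) * conj ((χ : G → ℂ) ((z : G)⁻¹))) := by
      intro χ _
      rw [hre χ θ, hre χ η, map_mul, hcc, map_sum]
      have h2 : c * (∑ y : ↥P, θ y * (χ : G → ℂ) ((y : G)⁻¹)) *
          (c * ∑ z : ↥P, conj (η z * (χ : G → ℂ) ((z : G)⁻¹))) =
          c ^ 2 * ((∑ y : ↥P, θ y * (χ : G → ℂ) ((y : G)⁻¹)) *
            (∑ z : ↥P, conj (η z * (χ : G → ℂ) ((z : G)⁻¹)))) := by ring
      rw [h2, Finset.sum_mul_sum]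
      congr 1
      refine Finset.sum_congr rfl (fun y _ => ?_)
      refine Finset.sum_congr rfl (fun z _ => ?_)
      rw [map_mul]
      ring
    rw [Finset.sum_congr rfl h1, ← Finset.mul_sum]
    congr 1
    rw [Finset.sum_comm]
    refine Finset.sum_congr rfl (fun y _ => ?_)
    rw [Finset.sum_comm, Finset.mul_sum]
    refine Finset.sum_congr rfl (fun z _ => ?_)
    rw [hS]
    simp only
    rw [Finset.mul_sum, Finset.mul_sum]
    refine Finset.sum_congr rfl (fun χ _ => ?_)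
    ring
  rw [hL]
  -- `p`-elements
  have hpel : ∀ y : ↥P, ∃ k : ℕ, orderOf ((y : G)⁻¹) = p ^ k := by
    intro y
    obtain ⟨k, hk⟩ := IsPGroup.iff_orderOf.1 hP y
    exact ⟨k, by rw [orderOf_inv, Subgroup.orderOf_coe, hk]⟩
  have hpel' : ∀ y : ↥P, ∃ k : ℕ, orderOf (y : G) = p ^ k := by
    intro y
    obtain ⟨k, hk⟩ := IsPGroup.iff_orderOf.1 hP y
    exact ⟨k, by rw [Subgroup.orderOf_coe, hk]⟩
  -- the key evaluation
  have hkey : ∀ y : ↥P, (y : G) ∈ U → ∀ z : ↥P, S ((y : G)⁻¹) ((z : G)⁻¹) =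
      (w : ℂ) * (Nat.card {x : N // (x : G) * (y : G) * (x : G)⁻¹ = (z : G)} : ℂ) := by
    intro y hyU z
    rw [card_conj_fiber_sub]
    split_ifs with h
    · obtain ⟨n, hn, hz⟩ := h
      have e1 : S ((y : G)⁻¹) ((z : G)⁻¹) = ∑ χ ∈ SB, (χ : G → ℂ) (y : G) * conj ((χ : G → ℂ) (y : G)) := by
        rw [hS]
        simp only
        refine Finset.sum_congr rfl (fun χ _ => ?_)
        have hcf := char_isClassFunction (irr_isCharacter χ.2)
        have e2 : (z : G)⁻¹ = n * (y : G)⁻¹ * n⁻¹ := by rw [← hz]; group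
        rw [e2, hcf, char_inv (irr_isCharacter χ.2), Complex.conj_conj]
        ring
      rw [e1, ← hfs, princ_norm_finsum p M hM (y : G) (hpel' y), hw _ hyU]
      push_cast
      ring
    · rw [hS]
      simp only
      rw [← hfs]
      rw [princ_orth_finsum p M hM _ _ _ _ (isPPart_self hp _ (hpel y)) (isPPart_self hp _ (hpel z))]
      · rw [Nat.cast_zero, mul_zero]
      · intro hcj
        apply h
        obtain ⟨g, hg⟩ := isConj_iff.1 hcj
        have hg' : g * (y : G) * g⁻¹ = (z : G) := by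
          have h3 : (g * (y : G)⁻¹ * g⁻¹)⁻¹ = ((z : G)⁻¹)⁻¹ := by rw [hg]
          rw [inv_inv] at h3
          rw [← h3]; group
        obtain ⟨n, hn, hn2⟩ := hfus _ hyU g (by rw [hg']; exact z.2)
        exact ⟨n, hn, by rw [hn2, hg']⟩
  -- the right inner sums
  have hmemP : ∀ (y : ↥P) (x : ↥N), (x : G) * (y : G) * (x : G)⁻¹ ∈ P := by
    intro y x
    exact (Subgroup.mem_normalizer_iff.1 (hNN x.2) (y : G)).1 y.2
  have hR : ∀ y : ↥P, ∑ x : ↥N, extendByZero P η ((x : G) * (y : G) * (x : G)⁻¹) =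
      ∑ z : ↥P, η z * (Nat.card {x : N // (x : G) * (y : G) * (x : G)⁻¹ = (z : G)} : ℂ) := by
    intro y
    have h1 : ∀ x : ↥N, extendByZero P η ((x : G) * (y : G) * (x : G)⁻¹) =
        ∑ z : ↥P, if (x : G) * (y : G) * (x : G)⁻¹ = (z : G) then η z else 0 := by
      intro x
      rw [Finset.sum_eq_single (⟨_, hmemP y x⟩ : ↥P)]
      · rw [if_pos rfl]
        exact Function.Injective.extend_apply Subtype.val_injective η 0 ⟨_, hmemP y x⟩
      · intro z _ hz
        rw [if_neg]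
        intro h
        apply hz
        exact Subtype.ext h.symm
      · intro h
        exact absurd (Finset.mem_univ _) h
    rw [Finset.sum_congr rfl (fun x _ => h1 x), Finset.sum_comm]
    refine Finset.sum_congr rfl (fun z _ => ?_)
    rw [← Finset.sum_filter, Finset.sum_const, nsmul_eq_mul, mul_comm]
    congr 2
    rw [Nat.card_eq_fintype_card, Fintype.card_subtype]
  -- assemble
  have hfin : ∀ y : ↥P, θ y * ∑ z : ↥P, conj (η z) * S ((y : G)⁻¹) ((z : G)⁻¹) =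
      (w : ℂ) * (θ y * conj (∑ x : ↥N, extendByZero P η ((x : G) * (y : G) * (x : G)⁻¹))) := by
    intro y
    by_cases hyU : (y : G) ∈ U
    · rw [hR y, map_sum, Finset.mul_sum, Finset.mul_sum, Finset.mul_sum]
      refine Finset.sum_congr rfl (fun z _ => ?_)
      rw [hkey y hyU z, map_mul, Complex.conj_natCast]
      ring
    · rw [hθU y hyU, zero_mul, zero_mul, mul_zero]
  rw [Finset.sum_congr rfl (fun y _ => hfin y), ← Finset.mul_sum, hc]
  have hP0 : (Nat.card ↥P : ℂ) ≠ 0 := by exact_mod_cast Nat.card_pos.ne'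
  field_simp

end PrincColumn

end Cfsg.Agent.helper1
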