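import Mathlib
import Cfsg.Agent.Lib_helper12_H2g
import Cfsg.Agent.Lib_helper12_BS4
import Cfsg.Agent.Lib_helper12_BS5
import Cfsg.Agent.Lib_helper24_BlockOrth3
import Cfsg.Agent.Lib_helper24_FirstMain
import Cfsg.Agent.Lib_helper24_ThirdMain
import Cfsg.Agent.Lib_helper24_CharBasic
import Cfsg.Agent.Lib_helper23_ClassSum
import Cfsg.Agent.Lib_helper1_PrincColumn

set_option autoImplicit false

/-!
Products of two involutions in a group with abelian Sylow 2-subgroups, and the resulting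
relation in the principal block (helper12).
-/

namespace Cfsg.Agent.helper12

open Cfsg
open scoped ComplexConjugate

universe u

section H2h

variable {G : Type u} [Group G] [Finite G]

/-- in a group with abelian Sylow 2-subgroups an involution cannot invert a 2-element of
order at least 4 -/
theorem h2_no_invert (P : Sylow 2 G)
    (hab : ∀ a b : G, a ∈ (P : Subgroup G) → b ∈ (P : Subgroup G) → a * b = b * a)
    (a z : G) (ha : a ^ 2 = 1) (hz : ∃ k : ℕ, orderOf z = 2 ^ k) (hinv : a * z * a⁻¹ = z⁻¹) :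
    z ^ 2 = 1 := by
  haveI : Fact (Nat.Prime 2) := ⟨Nat.prime_two⟩
  obtain ⟨k, hk⟩ := hz
  have hainv : a⁻¹ = a := by
    rw [inv_eq_iff_mul_eq_one, ← pow_two, ha]
  have hpz : IsPGroup 2 (Subgroup.zpowers z) := by
    apply IsPGroup.of_card (n := k)
    rw [Nat.card_zpowers, hk]
  have hpa : IsPGroup 2 (Subgroup.zpowers a) := by
    intro g
    refine ⟨1, ?_⟩
    obtain ⟨j, hj⟩ := Subgroup.mem_zpowers_iff.mp g.2
    apply Subtype.ext
    rw [Subgroup.coe_pow, ← hj, pow_one, ← zpow_natCast, ← zpow_mul, mul_comm, zpow_mul,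
      zpow_natCast, ha, one_zpow]
    rfl
  have hconj : ∀ j : ℤ, a * z ^ j * a⁻¹ = (z ^ j)⁻¹ := by
    intro j
    have h1 : a * z ^ j * a⁻¹ = (a * z * a⁻¹) ^ j := by
      have := (MulAut.conj a).toMonoidHom.map_zpow z j
      simpa [MulAut.conj_apply] using this
    rw [h1, hinv, inv_zpow]
  have hnorm : Subgroup.zpowers a ≤ Subgroup.normalizer ((Subgroup.zpowers z : Subgroup G) : Set G) := by
    rw [Subgroup.zpowers_le, Subgroup.mem_normalizer_iff]
    intro w
    constructor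
    · intro hw
      obtain ⟨j, hj⟩ := Subgroup.mem_zpowers_iff.mp hw
      rw [← hj, hconj j]
      exact Subgroup.inv_mem _ (Subgroup.zpow_mem_zpowers z j)
    · intro hw
      obtain ⟨j, hj⟩ := Subgroup.mem_zpowers_iff.mp hw
      have h2 : w = a * z ^ j * a⁻¹ := by
        rw [hj, hainv]
        calc w = (a * a) * w * (a * a) := by rw [← pow_two, ha]; group
          _ = a * (a * w * a) * a := by group
      rw [h2, hconj j]
      exact Subgroup.inv_mem _ (Subgroup.zpow_mem_zpowers z j)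
  have hK : IsPGroup 2 (Subgroup.zpowers a ⊔ Subgroup.zpowers z : Subgroup G) :=
    IsPGroup.to_sup_of_normal_right' hpa hpz hnorm
  obtain ⟨g, hg⟩ := bs_pgroup_conj_into_sylow P _ hK
  have h1 := hg a (Subgroup.mem_sup_left (Subgroup.mem_zpowers a))
  have h2 := hg z (Subgroup.mem_sup_right (Subgroup.mem_zpowers z))
  have h3 := hab _ _ h1 h2
  have h4 : a * z = z * a := by
    have e1 : g * a * g⁻¹ * (g * z * g⁻¹) = g * (a * z) * g⁻¹ := by group
    have e2 : g * z * g⁻¹ * (g * a * g⁻¹) = g * (z * a) * g⁻¹ := by group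
    rw [e1, e2] at h3
    exact mul_left_cancel (mul_right_cancel h3)
  have h5 : z = z⁻¹ := by
    rw [← hinv, h4]
    group
  calc z ^ 2 = z * z := pow_two z
    _ = z * z⁻¹ := by rw [← h5]
    _ = 1 := mul_inv_cancel z

/-- the number of ways of writing an element as a product of two conjugates of `t` -/
noncomputable def h2theta [Fintype G] [DecidableEq G] (t : G) (u : G) : ℂ :=
  ∑ g : G, ∑ h : G, if g * t * g⁻¹ * (h * t * h⁻¹) = u then 1 else 0

theorem h2theta_class [Fintype G] [DecidableEq G] (t : G) : IsClassFunction G (h2theta t) := by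
  intro u k
  unfold h2theta
  rw [← Equiv.sum_comp (Equiv.mulLeft k)]
  apply Finset.sum_congr rfl
  intro g _
  rw [← Equiv.sum_comp (Equiv.mulLeft k)]
  apply Finset.sum_congr rfl
  intro h _
  have h1 : k * g * t * (k * g)⁻¹ * (k * h * t * (k * h)⁻¹) =
      k * (g * t * g⁻¹ * (h * t * h⁻¹)) * k⁻¹ := by group
  show (if (k * g) * t * (k * g)⁻¹ * ((k * h) * t * (k * h)⁻¹) = k * u * k⁻¹ then (1 : ℂ) else 0) = _
  by_cases h2 : g * t * g⁻¹ * (h * t * h⁻¹) = u
  · rw [if_pos h2, if_pos (by rw [h1, h2])]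
  · rw [if_neg h2, if_neg]
    intro h3
    rw [h1] at h3
    exact h2 (mul_left_cancel (mul_right_cancel h3))

theorem h2theta_vanish [Fintype G] [DecidableEq G] (P : Sylow 2 G)
    (hab : ∀ a b : G, a ∈ (P : Subgroup G) → b ∈ (P : Subgroup G) → a * b = b * a)
    (t x : G) (ht : t ^ 2 = 1) (hx : x ^ 2 ≠ 1) (u z : G) (huz : IsPPart 2 u z)
    (hxz : IsConj x z) : h2theta t u = 0 := by
  unfold h2theta
  apply Finset.sum_eq_zero
  intro g _
  apply Finset.sum_eq_zero
  intro h _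
  rw [if_neg]
  intro hu
  obtain ⟨a, hadef⟩ : ∃ a : G, a = g * t * g⁻¹ := ⟨_, rfl⟩
  obtain ⟨b, hbdef⟩ : ∃ b : G, b = h * t * h⁻¹ := ⟨_, rfl⟩
  rw [← hadef, ← hbdef] at hu
  have ha2 : a ^ 2 = 1 := by
    rw [hadef, pow_two]
    calc g * t * g⁻¹ * (g * t * g⁻¹) = g * (t * t) * g⁻¹ := by group
      _ = 1 := by rw [← pow_two, ht]; group
  have hb2 : b ^ 2 = 1 := by
    rw [hbdef, pow_two]
    calc h * t * h⁻¹ * (h * t * h⁻¹) = h * (t * t) * h⁻¹ := by group
      _ = 1 := by rw [← pow_two, ht]; group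
  have hainv : a⁻¹ = a := by rw [inv_eq_iff_mul_eq_one, ← pow_two, ha2]
  have hbinv : b⁻¹ = b := by rw [inv_eq_iff_mul_eq_one, ← pow_two, hb2]
  have huinv : a * u * a⁻¹ = u⁻¹ := by
    rw [← hu, mul_inv_rev, hainv, hbinv]
    calc a * (a * b) * a = (a * a) * b * a := by group
      _ = b * a := by rw [← pow_two, ha2, one_mul]
  obtain ⟨n, hn⟩ := helper24.ppart_eq_zpow Nat.prime_two huz
  have hzinv : a * z * a⁻¹ = z⁻¹ := by
    have h1 : a * u ^ n * a⁻¹ = (a * u * a⁻¹) ^ n := by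
      have := (MulAut.conj a).toMonoidHom.map_zpow u n
      simpa [MulAut.conj_apply] using this
    rw [hn, h1, huinv, inv_zpow]
  obtain ⟨y, -, -, hzk, -⟩ := huz
  have hz2 := h2_no_invert P hab a z ha2 hzk hzinv
  obtain ⟨c, hc⟩ := isConj_iff.mp hxz
  apply hx
  have h3 : x = c⁻¹ * z * c := by rw [← hc]; group
  rw [h3, pow_two]
  calc c⁻¹ * z * c * (c⁻¹ * z * c) = c⁻¹ * (z * z) * c := by group
    _ = 1 := by rw [← pow_two, hz2]; group

theorem h2theta_inner [Fintype G] [DecidableEq G] (t : G) (χ : IrrCharacter G) :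
    classInner (h2theta t) (χ : G → ℂ) =
      (Nat.card G : ℂ) * conj ((χ : G → ℂ) t * (χ : G → ℂ) t / (χ : G → ℂ) 1) := by
  have hcard : (Nat.card G : ℂ) ≠ 0 := by
    have : Nat.card G ≠ 0 := Nat.card_pos.ne'
    exact_mod_cast this
  unfold classInner h2theta
  have h1 : ∀ u : G, (∑ g : G, ∑ h : G, if g * t * g⁻¹ * (h * t * h⁻¹) = u then (1 : ℂ) else 0) *
      conj ((χ : G → ℂ) u) = ∑ g : G, ∑ h : G,
        if g * t * g⁻¹ * (h * t * h⁻¹) = u then conj ((χ : G → ℂ) u) else 0 := by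
    intro u
    rw [Finset.sum_mul]
    apply Finset.sum_congr rfl
    intro g _
    rw [Finset.sum_mul]
    apply Finset.sum_congr rfl
    intro h _
    split_ifs <;> simp
  rw [Finset.sum_congr rfl (fun u _ => h1 u), Finset.sum_comm]
  have h2 : ∀ g : G, ∑ u : G, ∑ h : G,
      (if g * t * g⁻¹ * (h * t * h⁻¹) = u then conj ((χ : G → ℂ) u) else 0) =
      ∑ h : G, conj ((χ : G → ℂ) (g * t * g⁻¹ * (h * t * h⁻¹))) := by
    intro g
    rw [Finset.sum_comm]
    apply Finset.sum_congr rfl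
    intro h _
    rw [Finset.sum_ite_eq, if_pos (Finset.mem_univ _)]
  rw [Finset.sum_congr rfl (fun g _ => h2 g), Finset.sum_comm]
  have hcl := helper24.char_isClassFunction (helper24.irr_isCharacter χ.2)
  have h3 : ∀ h : G, ∑ g : G, conj ((χ : G → ℂ) (g * t * g⁻¹ * (h * t * h⁻¹))) =
      (Nat.card G : ℂ) * conj ((χ : G → ℂ) t * (χ : G → ℂ) t / (χ : G → ℂ) 1) := by
    intro h
    rw [← map_sum, helper23.irr_sum_conj_mul χ t (h * t * h⁻¹), hcl t h, map_div₀, map_mul,
      map_mul, map_natCast, map_div₀, map_mul]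
    ring
  rw [Finset.sum_congr rfl (fun h _ => h3 h), Finset.sum_const, Finset.card_univ,
    nsmul_eq_mul, ← Nat.card_eq_fintype_card]
  field_simp

end H2h

end Cfsg.Agent.helper12
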