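import Mathlib
import Cfsg.Agent.Lib_helper12_H2h
import Cfsg.Agent.Lib_helper12_CharOps
import Cfsg.Agent.Lib_helper24_PrincipalSum3
import Cfsg.Agent.Lib_helper23_LinChar

set_option autoImplicit false

/-!
The principal 2-block of a group with homocyclic Sylow 2-subgroup `(2^m, 2^m)`, `m ≥ 2`,
with non-trivial automizer, contains a non-trivial linear character trivial on the Sylow
subgroup (helper12).
-/

namespace Cfsg.Agent.helper12

open Cfsg
open scoped ComplexConjugate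

universe u

namespace H2Ctx

variable {G : Type u} [Group G] [Finite G] (C : H2Ctx G)

theorem exists_two_pow (x : ZMod (2 ^ C.m) × ZMod (2 ^ C.m)) :
    ∃ k : ℕ, orderOf (C.ι x) = 2 ^ k := by
  haveI : Fact (Nat.Prime 2) := ⟨Nat.prime_two⟩
  obtain ⟨k, hk⟩ := (IsPGroup.iff_orderOf.mp C.P.isPGroup') ⟨C.ι x, C.ι_mem x⟩
  exact ⟨k, by rw [← hk, Subgroup.orderOf_mk]⟩

theorem block_orth (M : Ideal AlgInt) (hM : IsPModular 2 M) [Fintype (principalBlock M G)]
    (x y : ZMod (2 ^ C.m) × ZMod (2 ^ C.m)) (h0 : y ≠ x) (h1 : y ≠ C.σ x)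
    (h2 : y ≠ C.σ (C.σ x)) :
    ∑ χ : principalBlock M G, ((χ : IrrCharacter G) : G → ℂ) (C.ι x) *
      conj (((χ : IrrCharacter G) : G → ℂ) (C.ι y)) = 0 := by
  classical
  haveI : Fact (Nat.Prime 2) := ⟨Nat.prime_two⟩
  letI : Fintype G := Fintype.ofFinite G
  letI : Fintype (IrrCharacter G) := Fintype.ofFinite _
  have hgx := helper1.isPPart_self Nat.prime_two (C.ι x) (C.exists_two_pow x)
  have hhy := helper1.isPPart_self Nat.prime_two (C.ι y) (C.exists_two_pow y)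
  have hxy : ¬ IsConj (C.ι x) (C.ι y) := by
    intro h
    rcases C.fusion x y h with h' | h' | h'
    · exact h0 h'
    · exact h1 h'
    · exact h2 h'
  have h3 := helper24.block_orthogonality_finset 2 M hM (helper24.oneIrr G) hgx hhy hxy
  refine Eq.trans (Finset.sum_subtype _ (fun χ => ?_)
    (fun χ : IrrCharacter G => (χ : G → ℂ) (C.ι x) * conj ((χ : G → ℂ) (C.ι y)))).symm h3
  rw [Finset.mem_filter]
  exact ⟨fun h => h.2, fun h => ⟨Finset.mem_univ _, h⟩⟩

theorem norm_sum (M : Ideal AlgInt) (hM : IsPModular 2 M) [Fintype (principalBlock M G)]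
    (x : ZMod (2 ^ C.m) × ZMod (2 ^ C.m)) (hx : x ≠ 0) :
    ∑ χ : principalBlock M G, ((χ : IrrCharacter G) : G → ℂ) (C.ι x) *
      conj (((χ : IrrCharacter G) : G → ℂ) (C.ι x)) = (Nat.card (C.P : Subgroup G) : ℂ) := by
  classical
  haveI : Fact (Nat.Prime 2) := ⟨Nat.prime_two⟩
  have hz1 : C.ι x ≠ 1 := fun h => hx (C.ι_eq_one.mp h)
  obtain ⟨hnil, hcard⟩ := C.cent_nilpotent (C.ι x) (C.ι_mem x) hz1
  have h := (helper24.principal_block_norm_sum 2 M hM (C.ι x) (C.exists_two_pow x)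
    (1 : Subgroup.centralizer ({C.ι x} : Set G)) (by rw [orderOf_one]; norm_num)).2 hnil
  rw [← finsum_set_coe_eq_finsum_mem, finsum_eq_sum_of_fintype] at h
  have h2 : ∀ χ : principalBlock M G, ((χ : IrrCharacter G) : G → ℂ) (C.ι x) *
      conj (((χ : IrrCharacter G) : G → ℂ) (C.ι x)) =
      ((‖((χ : IrrCharacter G) : G → ℂ)
        (C.ι x * ((1 : Subgroup.centralizer ({C.ι x} : Set G)) : G))‖ ^ 2 : ℝ) : ℂ) := by
    intro χ
    rw [Subgroup.coe_one, mul_one, Complex.mul_conj, Complex.normSq_eq_norm_sq]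
  rw [Finset.sum_congr rfl (fun χ _ => h2 χ), ← Complex.ofReal_sum, h, hcard]
  norm_cast

theorem mult_nat [NeZero (2 ^ C.m)] (χ : IrrCharacter G)
    (ψ : AddChar (ZMod (2 ^ C.m) × ZMod (2 ^ C.m)) ℂ) :
    ∃ n : ℕ, (n : ℂ) = ((Fintype.card (ZMod (2 ^ C.m) × ZMod (2 ^ C.m)) : ℕ) : ℂ)⁻¹ *
      ∑ x, (χ : G → ℂ) (C.ι x) * conj (ψ x) := by
  classical
  letI : Fintype (C.P : Subgroup G) := Fintype.ofFinite _
  obtain ⟨φ, hφ⟩ : ∃ φ : (C.P : Subgroup G) →* ℂ, φ = ψ.toMonoidHom.comp C.e.toMonoidHom :=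
    ⟨_, rfl⟩
  obtain ⟨n, hn⟩ := classInner_char_nat
    (isCharacter_restrict (C.P : Subgroup G) (helper24.irr_isCharacter χ.2))
    (isCharacter_of_monoidHom φ)
  refine ⟨n, ?_⟩
  rw [← hn]
  unfold classInner
  have hc : Nat.card (C.P : Subgroup G) = Fintype.card (ZMod (2 ^ C.m) × ZMod (2 ^ C.m)) := by
    rw [Nat.card_congr C.e.toEquiv, Nat.card_eq_fintype_card, Fintype.card_multiplicative]
  rw [hc]
  congr 1
  obtain ⟨eqv, heqv⟩ : ∃ eqv : (ZMod (2 ^ C.m) × ZMod (2 ^ C.m)) ≃ (C.P : Subgroup G),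
      eqv = Multiplicative.ofAdd.trans C.e.symm.toEquiv := ⟨_, rfl⟩
  rw [← Equiv.sum_comp eqv]
  apply Finset.sum_congr rfl
  intro x _
  have h1 : φ (eqv x) = ψ x := by
    rw [hφ, heqv]
    simp
  rw [h1, heqv]
  rfl

theorem star (M : Ideal AlgInt) (hM : IsPModular 2 M) [Fintype (principalBlock M G)]
    (t x : ZMod (2 ^ C.m) × ZMod (2 ^ C.m)) (ht : t + t = 0) (hx : x + x ≠ 0) :
    ∑ χ : principalBlock M G, (((χ : IrrCharacter G) : G → ℂ) (C.ι t)) ^ 2 *
      ((χ : IrrCharacter G) : G → ℂ) (C.ι x) / ((χ : IrrCharacter G) : G → ℂ) 1 = 0 := by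
  classical
  haveI : Fact (Nat.Prime 2) := ⟨Nat.prime_two⟩
  letI : Fintype G := Fintype.ofFinite G
  have hcard : (Nat.card G : ℂ) ≠ 0 := by
    have : Nat.card G ≠ 0 := Nat.card_pos.ne'
    exact_mod_cast this
  have ht2 : C.ι t ^ 2 = 1 := by rw [pow_two, ← C.ι_add, ht, C.ι_zero]
  have hx2 : C.ι x ^ 2 ≠ 1 := by
    rw [pow_two, ← C.ι_add]
    exact fun h => hx (C.ι_eq_one.mp h)
  have hvan := helper24.blockPart_vanish 2 M hM (h2theta (C.ι t)) (C.ι x)
    (fun u z huz hxz => h2theta_vanish C.P C.comm (C.ι t) (C.ι x) ht2 hx2 u z huz hxz)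
    (principalBlock M G) ⟨helper24.oneIrr G, rfl⟩ (C.ι x) (C.ι x)
    (helper1.isPPart_self Nat.prime_two _ (C.exists_two_pow x)) (IsConj.refl _)
  unfold blockPart at hvan
  rw [← finsum_set_coe_eq_finsum_mem, finsum_eq_sum_of_fintype] at hvan
  have hterm : ∀ χ : principalBlock M G,
      classInner (h2theta (C.ι t)) ((χ : IrrCharacter G) : G → ℂ) *
        ((χ : IrrCharacter G) : G → ℂ) (C.ι x) =
      (Nat.card G : ℂ) * ((((χ : IrrCharacter G) : G → ℂ) (C.ι t)) ^ 2 *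
        ((χ : IrrCharacter G) : G → ℂ) (C.ι x) / ((χ : IrrCharacter G) : G → ℂ) 1) := by
    intro χ
    rw [h2theta_inner]
    have hc := helper24.irr_isCharacter χ.1.2
    have h1 : conj (((χ : IrrCharacter G) : G → ℂ) (C.ι t)) =
        ((χ : IrrCharacter G) : G → ℂ) (C.ι t) := by
      have hinv : (C.ι t)⁻¹ = C.ι t := by rw [inv_eq_iff_mul_eq_one, ← pow_two, ht2]
      rw [← helper24.char_inv hc, hinv]
    have h2 : conj (((χ : IrrCharacter G) : G → ℂ) 1) = ((χ : IrrCharacter G) : G → ℂ) 1 := by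
      rw [← helper24.char_charDegree_cast hc, Complex.conj_natCast]
    rw [map_div₀, map_mul, h1, h2]
    ring
  rw [Finset.sum_congr rfl (fun χ _ => hterm χ), ← Finset.mul_sum] at hvan
  exact (mul_eq_zero.mp hvan).resolve_left hcard

theorem exists_linear (M : Ideal AlgInt) (hM : IsPModular 2 M) :
    ∃ χ : IrrCharacter G, χ ∈ principalBlock M G ∧ (χ : G → ℂ) ≠ (fun _ => 1) ∧
      ∀ p ∈ (C.P : Subgroup G), (χ : G → ℂ) p = 1 := by
  classical
  haveI : NeZero (2 ^ C.m) := ⟨by positivity⟩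
  letI : Fintype G := Fintype.ofFinite G
  letI : Fintype (IrrCharacter G) := Fintype.ofFinite _
  letI : Fintype (principalBlock M G) := Fintype.ofFinite _
  have hMtop : M ≠ ⊤ := hM.2.1.ne_top
  have hm := C.hm
  have h4 : 4 ≤ 2 ^ C.m := by
    calc 4 = 2 ^ 2 := by norm_num
      _ ≤ 2 ^ C.m := Nat.pow_le_pow_right (by norm_num) hm
  have hcardα : Fintype.card (ZMod (2 ^ C.m) × ZMod (2 ^ C.m)) = 2 ^ C.m * 2 ^ C.m := by
    rw [Fintype.card_prod, ZMod.card]
  have hcardP : Nat.card (C.P : Subgroup G) = Fintype.card (ZMod (2 ^ C.m) × ZMod (2 ^ C.m)) := by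
    rw [Nat.card_congr C.e.toEquiv, Nat.card_eq_fintype_card, Fintype.card_multiplicative]
  choose mult hmult using
    (fun (χ : principalBlock M G) (ψ : AddChar (ZMod (2 ^ C.m) × ZMod (2 ^ C.m)) ℂ) =>
      C.mult_nat χ.1 ψ)
  obtain ⟨D, hDval, hDone⟩ : ∃ D : H2Data (ZMod (2 ^ C.m) × ZMod (2 ^ C.m)) (principalBlock M G),
      (∀ χ x, D.val χ x = ((χ : IrrCharacter G) : G → ℂ) (C.ι x)) ∧
      D.one = ⟨helper24.oneIrr G, helper24.oneIrr_mem_principalBlock hMtop⟩ := by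
    refine ⟨{
      σ := C.σ
      q := Fintype.card (ZMod (2 ^ C.m) × ZMod (2 ^ C.m))
      val := fun χ x => ((χ : IrrCharacter G) : G → ℂ) (C.ι x)
      one := ⟨helper24.oneIrr G, helper24.oneIrr_mem_principalBlock hMtop⟩
      deg := fun χ => charDegree ((χ : IrrCharacter G) : G → ℂ)
      mult := fun χ ψ => (mult χ ψ : ℤ)
      hσ3 := C.σ3
      hσfree := C.σ_free
      hq := rfl
      hq16 := by rw [hcardα]; nlinarith
      hone := fun x => rfl
      hdegpos := fun χ => helper24.irr_charDegree_pos χ.1.2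
      hdeg := fun χ => by
        rw [C.ι_zero]
        exact (helper24.char_charDegree_cast (helper24.irr_isCharacter χ.1.2)).symm
      hσval := fun χ x => by
        rw [C.ι_σ]
        exact helper24.char_isClassFunction (helper24.irr_isCharacter χ.1.2) _ _
      hmult := fun χ ψ => by
        push_cast
        exact hmult χ ψ
      horth0 := fun x y h0 h1 h2 => C.block_orth M hM x y h0 h1 h2
      hnorm := fun x hx => by
        rw [C.norm_sum M hM x hx, hcardP] }, fun χ x => rfl, rfl⟩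
  -- the special elements
  obtain ⟨t, ht0, ht⟩ : ∃ t : ZMod (2 ^ C.m) × ZMod (2 ^ C.m), t ≠ 0 ∧ t + t = 0 := by
    refine ⟨(((2 ^ (C.m - 1) : ℕ) : ZMod (2 ^ C.m)), 0), ?_, ?_⟩
    · intro h
      have h1 := (Prod.ext_iff.mp h).1
      simp only [Prod.fst_zero] at h1
      rw [ZMod.natCast_eq_zero_iff] at h1
      have h2 : 2 ^ (C.m - 1) < 2 ^ C.m := Nat.pow_lt_pow_right (by norm_num) (by omega)
      exact Nat.not_dvd_of_pos_of_lt (by positivity) h2 h1
    · apply Prod.ext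
      · simp only [Prod.fst_add, Prod.fst_zero]
        rw [← Nat.cast_add, ZMod.natCast_eq_zero_iff]
        have h3 : 2 ^ (C.m - 1) + 2 ^ (C.m - 1) = 2 ^ C.m := by
          have : C.m = (C.m - 1) + 1 := by omega
          conv_rhs => rw [this, pow_succ]
          ring
        rw [h3]
      · simp
  obtain ⟨x, hx⟩ : ∃ x : ZMod (2 ^ C.m) × ZMod (2 ^ C.m), x + x ≠ 0 := by
    refine ⟨(((1 : ℕ) : ZMod (2 ^ C.m)), 0), ?_⟩
    intro h
    have h1 := (Prod.ext_iff.mp h).1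
    simp only [Prod.fst_add, Prod.fst_zero] at h1
    rw [← Nat.cast_add, ZMod.natCast_eq_zero_iff] at h1
    have h2 : (1 + 1 : ℕ) < 2 ^ C.m := by omega
    exact Nat.not_dvd_of_pos_of_lt (by norm_num) h2 h1
  have hstar : ∑ χ, (D.val χ t) ^ 2 * D.val χ x / D.val χ 0 = 0 := by
    simp only [hDval]
    rw [C.ι_zero]
    exact C.star M hM t x ht hx
  obtain ⟨ψ, hψ1, hψ⟩ := D.core t x ht0 ht hx hstar
  refine ⟨ψ.1, ψ.2, ?_, ?_⟩
  · intro h
    apply hψ1
    rw [hDone]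
    exact Subtype.ext (Subtype.ext h)
  · intro p hp
    obtain ⟨y, hy⟩ := C.ι_surj p hp
    rw [← hy, ← hDval]
    exact hψ y

end H2Ctx

end Cfsg.Agent.helper12
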