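import Mathlib
import Cfsg.Agent.Lib_helper6_AutIdx2

set_option autoImplicit false
set_option linter.unusedVariables false
set_option linter.style.haveILetI false

namespace Cfsg.Agent.helper6.AutIdx

/-- `|N : M| = |R : M ∩ R| · odd` for `M` normal in `N` and `R ≤ N` of odd index. -/
theorem relIndex_eq_mul_odd {G : Type*} [Group G] [Finite G] (N M R : Subgroup G) (hMN : M ≤ N)
    (hRN : R ≤ N) (hn : (M.subgroupOf N).Normal) (hodd : Odd (R.relIndex N)) :
    ∃ m, Odd m ∧ M.relIndex N = M.relIndex R * m := by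
  haveI := hn
  have h1 : (M.subgroupOf N).relIndex (M.subgroupOf N ⊔ R.subgroupOf N) *
      (M.subgroupOf N ⊔ R.subgroupOf N).index = (M.subgroupOf N).index :=
    Subgroup.relIndex_mul_index le_sup_left
  rw [Subgroup.relIndex_sup_left] at h1
  have h2 : (M.subgroupOf N).relIndex (R.subgroupOf N) = M.relIndex R :=
    Subgroup.relIndex_subgroupOf hRN
  have h3 : (M.subgroupOf N ⊔ R.subgroupOf N).index ∣ (R.subgroupOf N).index :=
    Subgroup.index_dvd_of_le le_sup_right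
  refine ⟨(M.subgroupOf N ⊔ R.subgroupOf N).index, Odd.of_dvd_nat hodd h3, ?_⟩
  rw [← h2]
  exact h1.symm

/-- the order of the image of `f` when the odd-order elements of the kernel of `ρ` on it are
trivial and the target of `ρ` has order dividing 6. -/
theorem card_range_two_pow_mul {N B P : Type*} [Group N] [Finite N] [Group B] [Group P] [Finite P]
    (f : N →* B) (ρ : B →* P) (hP : Nat.card P ∣ 6)
    (hker : ∀ β ∈ f.range, ρ β = 1 → ∀ r, Odd r → β ^ r = 1 → β = 1) :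
    ∃ a r, r ∣ 6 ∧ Nat.card f.range = 2 ^ a * r := by
  have : Fact (Nat.Prime 2) := ⟨Nat.prime_two⟩
  have hfin : Finite f.range := Set.finite_range f
  obtain ⟨ρ', hρ'⟩ : ∃ ρ' : f.range →* P, ρ' = ρ.comp f.range.subtype := ⟨_, rfl⟩
  have hpg : IsPGroup 2 ρ'.ker := by
    rintro ⟨β, hβ⟩
    rw [MonoidHom.mem_ker, hρ'] at hβ
    have hβ' : ρ (β : B) = 1 := hβ
    obtain ⟨k, m, hm, hkm⟩ := Nat.exists_eq_two_pow_mul_odd (orderOf_pos β).ne'
    refine ⟨k, ?_⟩
    apply Subtype.ext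
    apply Subtype.ext
    simp only [Subgroup.coe_pow, Subgroup.coe_one]
    apply hker _ (Subgroup.pow_mem _ β.2 _) (by rw [map_pow, hβ', one_pow]) m hm
    rw [← pow_mul, ← hkm, ← Subgroup.orderOf_coe]
    exact pow_orderOf_eq_one _
  obtain ⟨a, ha⟩ := IsPGroup.iff_card.mp hpg
  have h1 : Nat.card ρ'.ker * ρ'.ker.index = Nat.card f.range := Subgroup.card_mul_index _
  rw [Subgroup.index_ker, ha] at h1
  refine ⟨a, Nat.card ρ'.range, ?_, h1.symm⟩
  exact (Subgroup.card_subgroup_dvd_card ρ'.range).trans hP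

theorem two_or_six_of_dvd (x m a r : ℕ) (hx : x = 2 * m) (hm : Odd m) (hr : r ∣ 6)
    (hdvd : x ∣ 2 ^ a * r) : x = 2 ∨ x = 6 := by
  have h1 : m ∣ 2 ^ (a + 1) * 3 := by
    have h2 : m ∣ x := ⟨2, by rw [hx]; ring⟩
    have h3 : 2 ^ a * r ∣ 2 ^ a * 6 := Nat.mul_dvd_mul_left _ hr
    have h4 : 2 ^ a * 6 = 2 ^ (a + 1) * 3 := by rw [pow_succ]; ring
    rw [h4] at h3
    exact (h2.trans hdvd).trans h3
  have h5 : Nat.Coprime m (2 ^ (a + 1)) :=
    Nat.Coprime.pow_right _ (Nat.coprime_two_right.mpr hm)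
  have h6 : m ∣ 3 := h5.dvd_of_dvd_mul_left h1
  have h7 : m = 1 ∨ m = 3 := (Nat.dvd_prime Nat.prime_three).mp h6
  rcases h7 with h | h
  · left; rw [hx, h]
  · right; rw [hx, h]

/-- The action of automorphisms on involutions. -/
def toPermInv (T : Type*) [Group T] : MulAut T →* Equiv.Perm {t : T // t ≠ 1 ∧ t * t = 1} where
  toFun f := f.toEquiv.subtypeEquiv (fun t => by
    show (t ≠ 1 ∧ t * t = 1) ↔ (f t ≠ 1 ∧ f t * f t = 1)
    constructor
    · rintro ⟨h1, h2⟩
      refine ⟨fun h => h1 (f.injective (by rw [h, map_one])), ?_⟩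
      rw [← map_mul, h2, map_one]
    · rintro ⟨h1, h2⟩
      refine ⟨fun h => h1 (by rw [h, map_one]), ?_⟩
      apply f.injective
      rw [map_mul, map_one]
      exact h2)
  map_one' := by ext; rfl
  map_mul' f g := by ext; rfl

theorem toPermInv_eq_one {T : Type*} [Group T] (f : MulAut T) (h : toPermInv T f = 1) (t : T)
    (ht : t * t = 1) : f t = t := by
  by_cases h1 : t = 1
  · rw [h1, map_one]
  · have h2 := congrArg (fun σ : Equiv.Perm {t : T // t ≠ 1 ∧ t * t = 1} =>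
      ((σ ⟨t, h1, ht⟩ : {t : T // t ≠ 1 ∧ t * t = 1}) : T)) h
    simpa [toPermInv] using h2

end Cfsg.Agent.helper6.AutIdx
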