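import Mathlib
import Cfsg.Agent.Lib_helper6_Klein

set_option autoImplicit false
set_option linter.unusedSectionVars false
set_option linter.unusedVariables false
set_option linter.style.haveILetI false

namespace Cfsg.Agent.helper6.Klein

variable {G : Type*} [Group G]

/-- A subgroup of order four all of whose elements are involutions is a four-group. -/
theorem isKleinFour_of_card_sq (T : Subgroup G) (hcard : Nat.card T = 4)
    (hsq : ∀ t ∈ T, t * t = 1) : IsKleinFour T := by
  refine ⟨hcard, ?_⟩
  haveI : Finite T := Nat.finite_of_card_ne_zero (by rw [hcard]; norm_num)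
  haveI : Nontrivial T := by
    rw [← Finite.one_lt_card_iff_nontrivial, hcard]; norm_num
  rw [Monoid.exponent_eq_prime_iff Nat.prime_two]
  rintro ⟨g, hg⟩ hg1
  haveI : Fact (Nat.Prime 2) := ⟨Nat.prime_two⟩
  rw [orderOf_eq_prime_iff]
  refine ⟨?_, hg1⟩
  apply Subtype.ext
  rw [pow_two]
  exact hsq g hg

/-- four-subgroups are self-centralizing -/
def SelfCent (G : Type*) [Group G] : Prop :=
  ∀ T : Subgroup G, IsKleinFour T → ∀ g : G, (∀ t ∈ T, t * g = g * t) → g ∈ T

theorem selfCent_of_equiv {H : Type*} [Group H] (e : G ≃* H) (hH : SelfCent H) : SelfCent G := by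
  intro T hT g hg
  have hT' : IsKleinFour (T.map (e : G →* H)) := by
    apply isKleinFour_of_card_sq
    · rw [← Nat.card_congr (e.subgroupMap T).toEquiv]; exact IsKleinFour.card_four
    · rintro _ ⟨t, ht, rfl⟩
      rw [← map_mul, sq_of_klein hT t ht, map_one]
  have := hH _ hT' (e g) (by
    rintro _ ⟨t, ht, rfl⟩
    change e t * e g = e g * e t
    rw [← map_mul, ← map_mul, hg t ht])
  obtain ⟨t, ht, hte⟩ := this
  have : t = g := e.injective hte
  rw [← this]; exact ht

theorem zmod_two_mul_eq_zero (m : ℕ) [NeZero m] (j : ZMod m) (h : 2 * j = 0) :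
    j = 0 ∨ j = ((m / 2 : ℕ) : ZMod m) := by
  have hm : 0 < m := Nat.pos_of_ne_zero (NeZero.ne m)
  have h1 : ((2 * j.val : ℕ) : ZMod m) = 0 := by
    push_cast; rw [ZMod.natCast_zmod_val]; exact h
  rw [ZMod.natCast_eq_zero_iff] at h1
  have h2 : j.val < m := ZMod.val_lt j
  obtain ⟨c, hc⟩ := h1
  have hc2 : c = 0 ∨ c = 1 := by
    have h3 : m * c < m * 2 := by omega
    have h4 : c < 2 := Nat.lt_of_mul_lt_mul_left h3
    omega
  rcases hc2 with rfl | rfl
  · left
    have : j.val = 0 := by omega
    exact (ZMod.val_eq_zero j).mp this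
  · right
    have : j.val = m / 2 := by omega
    rw [← this, ZMod.natCast_zmod_val]

theorem selfCent_dihedral (m : ℕ) [NeZero m] : SelfCent (DihedralGroup m) := by
  classical
  intro T hT g hg
  have hsq := sq_of_klein hT
  have hcomm := comm_of_klein hT
  haveI : Finite T := Nat.finite_of_card_ne_zero (by rw [IsKleinFour.card_four]; norm_num)
  -- a reflection in T
  have hex : ∃ i, DihedralGroup.sr i ∈ T := by
    by_contra hno
    push Not at hno
    have hsub : (T : Set (DihedralGroup m)) ⊆
        (({DihedralGroup.r 0, DihedralGroup.r ((m / 2 : ℕ) : ZMod m)} :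
          Finset (DihedralGroup m)) : Set (DihedralGroup m)) := by
      intro t ht
      rcases t with j | j
      · have h1 := hsq _ ht
        rw [DihedralGroup.r_mul_r, DihedralGroup.one_def] at h1
        have h2 : j + j = 0 := by injection h1
        have h3 : 2 * j = 0 := by rw [two_mul]; exact h2
        simp only [Finset.coe_insert, Finset.coe_singleton, Set.mem_insert_iff,
          Set.mem_singleton_iff]
        rcases zmod_two_mul_eq_zero m j h3 with h | h
        · left; rw [h]
        · right; rw [h]
      · exact absurd ht (hno j)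
    have h2 := Set.ncard_le_ncard hsub (Finset.finite_toSet _)
    rw [Set.ncard_coe_finset] at h2
    have h3 : Nat.card T = (T : Set (DihedralGroup m)).ncard := Nat.card_coe_set_eq _
    rw [IsKleinFour.card_four] at h3
    have h4 := Finset.card_le_two (a := DihedralGroup.r (0 : ZMod m))
      (b := DihedralGroup.r ((m / 2 : ℕ) : ZMod m))
    omega
  obtain ⟨i, hi⟩ := hex
  -- the centralizer of the reflection
  have hcent : ∀ c : DihedralGroup m, DihedralGroup.sr i * c = c * DihedralGroup.sr i →
      c ∈ ({DihedralGroup.r 0, DihedralGroup.r ((m / 2 : ℕ) : ZMod m), DihedralGroup.sr i,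
        DihedralGroup.sr (i + ((m / 2 : ℕ) : ZMod m))} : Finset (DihedralGroup m)) := by
    intro c hc
    simp only [Finset.mem_insert, Finset.mem_singleton]
    rcases c with j | j
    · rw [DihedralGroup.sr_mul_r, DihedralGroup.r_mul_sr] at hc
      have h2 : i + j = i - j := by injection hc
      have h3 : 2 * j = 0 := by linear_combination h2
      rcases zmod_two_mul_eq_zero m j h3 with h | h
      · left; rw [h]
      · right; left; rw [h]
    · rw [DihedralGroup.sr_mul_sr, DihedralGroup.sr_mul_sr] at hc
      have h2 : j - i = i - j := by injection hc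
      have h3 : 2 * (j - i) = 0 := by linear_combination h2
      rcases zmod_two_mul_eq_zero m _ h3 with h | h
      · right; right; left
        have : j = i := by linear_combination h
        rw [this]
      · right; right; right
        have : j = i + ((m / 2 : ℕ) : ZMod m) := by linear_combination h
        rw [this]
  set F : Finset (DihedralGroup m) := {DihedralGroup.r 0, DihedralGroup.r ((m / 2 : ℕ) : ZMod m),
    DihedralGroup.sr i, DihedralGroup.sr (i + ((m / 2 : ℕ) : ZMod m))} with hF
  have hTF : (T : Set (DihedralGroup m)) ⊆ (F : Set (DihedralGroup m)) := by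
    intro t ht
    exact hcent t (hcomm _ hi t ht)
  have hFT : (F : Set (DihedralGroup m)) ⊆ (T : Set (DihedralGroup m)) := by
    have h3 : Nat.card T = (T : Set (DihedralGroup m)).ncard := Nat.card_coe_set_eq _
    rw [IsKleinFour.card_four] at h3
    have h4 : (F : Set (DihedralGroup m)).ncard ≤ 4 := by
      rw [Set.ncard_coe_finset]; exact Finset.card_le_four
    have := Set.eq_of_subset_of_ncard_le hTF (by omega) (Finset.finite_toSet _)
    rw [this]
  exact hFT (hcent g (hg _ hi))

end Cfsg.Agent.helper6.Klein
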