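import Mathlib
import Cfsg.Agent.Lib_helper6_AutIdx3
import Cfsg.Agent.Lib_helper6_TwoPow
import Cfsg.Agent.Lib_helper6_Klein
import Cfsg.Agent.Lib_helper6_Klein2

set_option autoImplicit false
set_option linter.unusedSectionVars false

namespace Cfsg.Agent.helper6.Homocyc

open Cfsg.Agent.helper6.TwoPow

/-- An automorphism of odd order of an abelian 2-group fixing every involution is trivial. -/
theorem aut_eq_one_of_fix_invol {T : Type*} [Group T] (hcomm : ∀ a b : T, a * b = b * a)
    (h2 : ∀ x : T, ∃ k : ℕ, x ^ (2 ^ k) = 1) (f : MulAut T) (n : ℕ) (hn : Odd n)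
    (hfn : f ^ n = 1) (hfix : ∀ t : T, t * t = 1 → f t = t) : f = 1 := by
  ext x
  show f x = x
  obtain ⟨k, hk⟩ := h2 x
  induction k generalizing x with
  | zero =>
    rw [pow_zero, pow_one] at hk
    rw [hk, map_one]
  | succ k ih =>
    have h1 : f (x * x) = x * x := by
      apply ih
      rw [← pow_two, ← pow_mul, ← pow_succ']
      exact hk
    have hc : (f x * x⁻¹) * (f x * x⁻¹) = 1 := by
      have : (f x * x⁻¹) * (f x * x⁻¹) = (f x * f x) * (x⁻¹ * x⁻¹) := by
        rw [mul_assoc, ← mul_assoc x⁻¹, hcomm x⁻¹ (f x), mul_assoc, ← mul_assoc]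
      rw [this, ← map_mul, h1]
      group
    have hfc : f (f x * x⁻¹) = f x * x⁻¹ := hfix _ hc
    have hfx : f x = (f x * x⁻¹) * x := by group
    have hpow : ∀ j : ℕ, (f ^ j) x = (f x * x⁻¹) ^ j * x := by
      intro j
      induction j with
      | zero => simp
      | succ j ihj =>
        rw [pow_succ', MulAut.mul_apply, ihj, map_mul, map_pow, hfc, pow_succ, mul_assoc, ← hfx]
    have h3 := hpow n
    rw [hfn, MulAut.one_apply] at h3
    have h4 : (f x * x⁻¹) ^ n = 1 := by
      have : (f x * x⁻¹) ^ n = ((f x * x⁻¹) ^ n * x) * x⁻¹ := by group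
      rw [this, ← h3, mul_inv_cancel]
    obtain ⟨q, hq⟩ := hn
    rw [hq, pow_succ, pow_mul, pow_two, hc, one_pow, one_mul] at h4
    calc f x = (f x * x⁻¹) * x := hfx
      _ = x := by rw [h4, one_mul]

section structure_facts

variable {T : Type*} [Group T] {m : ℕ}
  (e : T ≃* Multiplicative (ZMod (2 ^ m) × ZMod (2 ^ m)))

/-- first standard involution -/
noncomputable def s₁ : T := e.symm (Multiplicative.ofAdd (half m, 0))
/-- second standard involution -/
noncomputable def s₂ : T := e.symm (Multiplicative.ofAdd (0, half m))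

include e in
theorem comm (a b : T) : a * b = b * a := by
  apply e.injective
  rw [map_mul, map_mul, mul_comm]

theorem half_add_half (hm : 1 ≤ m) : half m + half m = 0 := by
  rw [← two_mul]; exact two_mul_half hm

theorem s₁_sq (hm : 1 ≤ m) : s₁ e * s₁ e = 1 := by
  unfold s₁
  rw [← map_mul, ← ofAdd_add, Prod.mk_add_mk, half_add_half hm, add_zero]
  exact map_one e.symm

theorem s₂_sq (hm : 1 ≤ m) : s₂ e * s₂ e = 1 := by
  unfold s₂
  rw [← map_mul, ← ofAdd_add, Prod.mk_add_mk, half_add_half hm, add_zero]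
  exact map_one e.symm

theorem s₁_ne_one (hm : 1 ≤ m) : s₁ e ≠ 1 := by
  unfold s₁
  intro h
  have h1 := e.symm.injective (h.trans (map_one e.symm).symm)
  have h2 : (half m, (0 : ZMod (2 ^ m))) = 0 := Multiplicative.ofAdd.injective h1
  exact half_ne_zero hm (congrArg Prod.fst h2)

theorem s₂_ne_one (hm : 1 ≤ m) : s₂ e ≠ 1 := by
  unfold s₂
  intro h
  have h1 := e.symm.injective (h.trans (map_one e.symm).symm)
  have h2 : ((0 : ZMod (2 ^ m)), half m) = 0 := Multiplicative.ofAdd.injective h1
  exact half_ne_zero hm (congrArg Prod.snd h2)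

theorem s₁_ne_s₂ (hm : 1 ≤ m) : s₁ e ≠ s₂ e := by
  unfold s₁ s₂
  intro h
  have h1 := e.symm.injective h
  have h2 : (half m, (0 : ZMod (2 ^ m))) = (0, half m) := Multiplicative.ofAdd.injective h1
  exact half_ne_zero hm (congrArg Prod.fst h2)

/-- The elements of order at most 2. -/
theorem invol_cases (hm : 1 ≤ m) (w : T) (hw : w * w = 1) :
    w = 1 ∨ w = s₁ e ∨ w = s₂ e ∨ w = s₁ e * s₂ e := by
  obtain ⟨⟨a, b⟩, hab⟩ : ∃ p : ZMod (2 ^ m) × ZMod (2 ^ m), e w = Multiplicative.ofAdd p :=
    ⟨Multiplicative.toAdd (e w), rfl⟩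
  have h1 : e w * e w = 1 := by rw [← map_mul, hw, map_one]
  rw [hab, ← ofAdd_add, Prod.mk_add_mk] at h1
  have h2 : (a + a, b + b) = (0 : ZMod (2 ^ m) × ZMod (2 ^ m)) := Multiplicative.ofAdd.injective h1
  have ha : 2 * a = 0 := by rw [two_mul]; exact congrArg Prod.fst h2
  have hb : 2 * b = 0 := by rw [two_mul]; exact congrArg Prod.snd h2
  have hw' : w = e.symm (Multiplicative.ofAdd (a, b)) := by rw [← hab, e.symm_apply_apply]
  rcases (two_mul_eq_zero_iff hm a).mp ha with rfl | rfl <;>
    rcases (two_mul_eq_zero_iff hm b).mp hb with rfl | rfl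
  · left; rw [hw']; exact map_one e.symm
  · right; right; left; exact hw'
  · right; left; exact hw'
  · right; right; right
    rw [hw']
    unfold s₁ s₂
    rw [← map_mul, ← ofAdd_add, Prod.mk_add_mk, add_zero, zero_add]

/-- The Klein four-subgroup of elements of order at most 2. -/
noncomputable def omega (hm : 1 ≤ m) : Subgroup T :=
  Klein.four (s₁ e) (s₂ e) (s₁_sq e hm) (s₂_sq e hm) (comm e _ _)

theorem isKleinFour_omega (hm : 1 ≤ m) : IsKleinFour (omega e hm) :=
  Klein.isKleinFour_four _ _ _ (s₁_ne_one e hm) (s₂_ne_one e hm) (s₁_ne_s₂ e hm)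

theorem mem_omega (hm : 1 ≤ m) (w : T) (hw : w * w = 1) : w ∈ omega e hm :=
  invol_cases e hm w hw

include e in
/-- Any three involutions. -/
theorem invol3 (hm : 1 ≤ m) (z t w : T) (hz : z * z = 1) (ht : t * t = 1) (hw : w * w = 1)
    (hz1 : z ≠ 1) (ht1 : t ≠ 1) (hw1 : w ≠ 1) (hzt : z ≠ t) : w = z ∨ w = t ∨ w = z * t := by
  have hK := isKleinFour_omega e hm
  by_cases hwz : w = z
  · exact Or.inl hwz
  by_cases hwt : w = t
  · exact Or.inr (Or.inl hwt)
  right; right
  have := IsKleinFour.eq_mul_of_ne_all (G := omega e hm)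
    (x := ⟨z, mem_omega e hm z hz⟩) (y := ⟨t, mem_omega e hm t ht⟩)
    (z := ⟨w, mem_omega e hm w hw⟩)
    (fun h => hz1 (congrArg Subtype.val h)) (fun h => ht1 (congrArg Subtype.val h))
    (fun h => hzt (congrArg Subtype.val h)) (fun h => hw1 (congrArg Subtype.val h))
    (fun h => hwz (congrArg Subtype.val h)) (fun h => hwt (congrArg Subtype.val h))
  exact congrArg Subtype.val this

include e in
/-- An automorphism of order dividing 3 fixing an involution fixes all involutions. -/
theorem fix_all_of_fix_one (hm : 1 ≤ m) (f : MulAut T) (h3 : ∀ c, f (f (f c)) = c) (z : T)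
    (hz : z * z = 1) (hz1 : z ≠ 1) (hfz : f z = z) (t : T) (ht : t * t = 1) : f t = t := by
  by_cases ht1 : t = 1
  · rw [ht1, map_one]
  by_cases htz : t = z
  · rw [htz, hfz]
  have hft : f t * f t = 1 := by rw [← map_mul, ht, map_one]
  have hft1 : f t ≠ 1 := fun h => ht1 (f.injective (h.trans (map_one f).symm))
  have hftz : f t ≠ z := fun h => htz (f.injective (h.trans hfz.symm))
  rcases invol3 e hm z t (f t) hz ht hft hz1 ht1 hft1 (Ne.symm htz) with h | h | h
  · exact absurd h hftz
  · exact h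
  · exfalso
    have h1 : f (z * t) = t := by
      rw [map_mul, hfz, h, ← mul_assoc, hz, one_mul]
    have h2 := h3 t
    rw [h, h1, h] at h2
    -- z * t = t
    exact hz1 (mul_eq_right.mp h2)

include e in
/-- There are at most three involutions. -/
theorem card_invol_le (hm : 1 ≤ m) : Nat.card {t : T // t ≠ 1 ∧ t * t = 1} ≤ 3 := by
  have hK := isKleinFour_omega e hm
  have hfin : Finite (omega e hm) :=
    Nat.finite_of_card_ne_zero (by rw [hK.card_four]; norm_num)
  have h1 : Nat.card {v : omega e hm // v ≠ 1} = 3 := by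
    rw [AutIdx.card_ne_one, hK.card_four]
  rw [← h1]
  apply Nat.card_le_card_of_injective
    (fun t : {t : T // t ≠ 1 ∧ t * t = 1} =>
      (⟨⟨t.1, mem_omega e hm t.1 t.2.2⟩, fun h => t.2.1 (congrArg Subtype.val h)⟩ :
        {v : omega e hm // v ≠ 1}))
  intro a b hab
  apply Subtype.ext
  have := congrArg (fun v : {v : omega e hm // v ≠ 1} => ((v : omega e hm) : T)) hab
  exact this

end structure_facts

end Cfsg.Agent.helper6.Homocyc
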