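import Cfsg.Statements.S0945
import Mathlib
import Cfsg.Agent.Lib_helper6_Homocyc
-- import your own Cfsg.Agent.* helpers here

set_option autoImplicit false
open Cfsg

namespace Cfsg.Agent.S0945

open Cfsg.Agent.helper6 Cfsg.Agent.helper6.Homocyc

/-- Let P be a Sylow 2-subgroup of the finite group G isomorphic to Z/2^m × Z/2^m with m ≥ 1. Then (i) the index of C_G(P) in N_G(P) is 1 or 3, and (ii) if it is not 1, then for every z ≠ 1 in P, C_G(z) ∩ N_G(P) = C_G(P). -/
theorem result {G : Type*} [Group G] [Finite G] (P : Sylow 2 G) (m : ℕ) (hm : 1 ≤ m) (e : (P : Subgroup G) ≃* Multiplicative (ZMod (2 ^ m) × ZMod (2 ^ m))) : ((Subgroup.centralizer (P : Set G)).relIndex (Subgroup.normalizer (P : Set G)) = 1 ∨ (Subgroup.centralizer (P : Set G)).relIndex (Subgroup.normalizer (P : Set G)) = 3) ∧ ((Subgroup.centralizer (P : Set G)).relIndex (Subgroup.normalizer (P : Set G)) ≠ 1 → ∀ z ∈ (P : Subgroup G), z ≠ 1 → Subgroup.centralizer ({z} : Set G) ⊓ Subgroup.normalizer (P : Set G) = Subgroup.centralizer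 (P : Set G)) := by
  classical
  have : Fact (Nat.Prime 2) := ⟨Nat.prime_two⟩
  have hcomm : ∀ a b : (P : Subgroup G), a * b = b * a := comm e
  have h2 : ∀ x : (P : Subgroup G), ∃ k : ℕ, x ^ (2 ^ k) = 1 := P.isPGroup'
  have hker := Subgroup.normalizerMonoidHom_ker (H := (P : Subgroup G))
  have hR : Nat.card (P : Subgroup G).normalizerMonoidHom.range
      = (Subgroup.centralizer ((P : Subgroup G) : Set G)).relIndex
        (Subgroup.normalizer ((P : Subgroup G) : Set G)) := by
    rw [← Subgroup.index_ker, hker]; rfl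
  have hPC : (P : Subgroup G) ≤ Subgroup.centralizer ((P : Subgroup G) : Set G) := by
    intro x hx
    rw [Subgroup.mem_centralizer_iff]
    intro y hy
    exact congrArg Subtype.val (hcomm ⟨y, hy⟩ ⟨x, hx⟩)
  have hPN : (P : Subgroup G) ≤ Subgroup.normalizer ((P : Subgroup G) : Set G) :=
    Subgroup.le_normalizer
  have hodd : Odd (Nat.card (P : Subgroup G).normalizerMonoidHom.range) := by
    rw [hR, ← Nat.not_even_iff_odd, even_iff_two_dvd]
    intro h
    have h3 : (P : Subgroup G).relIndex (Subgroup.normalizer ((P : Subgroup G) : Set G))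
        ∣ (P : Subgroup G).index := ⟨_, (Subgroup.relIndex_mul_index hPN).symm⟩
    exact P.not_dvd_index ((h.trans (Subgroup.relIndex_dvd_of_le_left _ hPC)).trans h3)
  have hpowR : ∀ φ ∈ (P : Subgroup G).normalizerMonoidHom.range,
      φ ^ Nat.card (P : Subgroup G).normalizerMonoidHom.range = 1 := by
    intro φ hφ
    have := pow_card_eq_one' (G := (P : Subgroup G).normalizerMonoidHom.range) (x := ⟨φ, hφ⟩)
    exact congrArg Subtype.val this
  -- faithful action on the involutions
  have hinj : Function.Injective ((AutIdx.toPermInv (P : Subgroup G)).comp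
      (P : Subgroup G).normalizerMonoidHom.range.subtype) := by
    rw [injective_iff_map_eq_one]
    intro φ hφ
    apply Subtype.ext
    apply aut_eq_one_of_fix_invol hcomm h2 (φ : MulAut (P : Subgroup G)) _ hodd (hpowR _ φ.2)
    intro t ht
    exact AutIdx.toPermInv_eq_one _ hφ t ht
  have hdvd := Subgroup.card_dvd_of_injective _ hinj
  rw [Nat.card_perm] at hdvd
  have hle := card_invol_le e hm
  have h13 : Nat.card (P : Subgroup G).normalizerMonoidHom.range = 1 ∨
      Nat.card (P : Subgroup G).normalizerMonoidHom.range = 3 := by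
    have h6 : Nat.card (P : Subgroup G).normalizerMonoidHom.range ∣ 6 := by
      refine hdvd.trans ?_
      have : Nat.card {t : (P : Subgroup G) // t ≠ 1 ∧ t * t = 1} ≤ 3 := hle
      interval_cases Nat.card {t : (P : Subgroup G) // t ≠ 1 ∧ t * t = 1} <;> decide
    have hle6 := Nat.le_of_dvd (by norm_num) h6
    obtain ⟨c, hc⟩ := hodd
    interval_cases h : Nat.card (P : Subgroup G).normalizerMonoidHom.range <;> omega
  rw [hR] at h13
  refine ⟨h13, ?_⟩
  intro hne z hz hz1
  have h3 : Nat.card (P : Subgroup G).normalizerMonoidHom.range = 3 := by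
    rw [hR]; rcases h13 with h | h
    · exact absurd h hne
    · exact h
  apply le_antisymm
  · rintro g ⟨hgz, hgN⟩
    have hgN' : g ∈ Subgroup.normalizer ((P : Subgroup G) : Set G) := hgN
    have hgz' := Subgroup.mem_centralizer_singleton_iff.mp hgz
    obtain ⟨φ, hφ⟩ : ∃ φ : MulAut (P : Subgroup G),
        φ = (P : Subgroup G).normalizerMonoidHom ⟨g, hgN'⟩ := ⟨_, rfl⟩
    have hφR : φ ∈ (P : Subgroup G).normalizerMonoidHom.range := ⟨_, hφ.symm⟩
    have hφ3 : φ ^ 3 = 1 := by rw [← h3]; exact hpowR φ hφR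
    have hφ3' : ∀ c, φ (φ (φ c)) = c := by
      intro c
      have := congrArg (fun ψ : MulAut (P : Subgroup G) => ψ c) hφ3
      simpa [pow_succ, MulAut.mul_apply] using this
    have hφz : φ ⟨z, hz⟩ = ⟨z, hz⟩ := by
      apply Subtype.ext
      rw [hφ, Subgroup.normalizerMonoidHom_apply_apply_coe]
      show g * z * g⁻¹ = z
      rw [hgz', mul_inv_cancel_right]
    -- an involution in ⟨z⟩
    obtain ⟨k, hk⟩ := h2 ⟨z, hz⟩
    obtain ⟨j, -, hj⟩ := (Nat.dvd_prime_pow Nat.prime_two).mp (orderOf_dvd_of_pow_eq_one hk)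
    have hzP1 : (⟨z, hz⟩ : (P : Subgroup G)) ≠ 1 := fun h => hz1 (congrArg Subtype.val h)
    have hj0 : j ≠ 0 := by
      rintro rfl
      rw [pow_zero, orderOf_eq_one_iff] at hj
      exact hzP1 hj
    have hz0sq : (⟨z, hz⟩ : (P : Subgroup G)) ^ (2 ^ (j - 1)) * (⟨z, hz⟩ : (P : Subgroup G)) ^ (2 ^ (j - 1)) = 1 := by
      rw [← pow_add, ← two_mul, ← pow_succ']
      have : j - 1 + 1 = j := by omega
      rw [this, ← hj]
      exact pow_orderOf_eq_one _
    have hz0ne : (⟨z, hz⟩ : (P : Subgroup G)) ^ (2 ^ (j - 1)) ≠ 1 := by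
      apply pow_ne_one_of_lt_orderOf (by positivity)
      rw [hj]
      exact Nat.pow_lt_pow_right (by norm_num) (by omega)
    have hφz0 : φ ((⟨z, hz⟩ : (P : Subgroup G)) ^ (2 ^ (j - 1))) = (⟨z, hz⟩ : (P : Subgroup G)) ^ (2 ^ (j - 1)) := by
      rw [map_pow, hφz]
    have hfix := fix_all_of_fix_one e hm φ hφ3' _ hz0sq hz0ne hφz0
    have hφ1 : φ = 1 := aut_eq_one_of_fix_invol hcomm h2 φ 3 (by decide) hφ3 hfix
    have h5 : (⟨g, hgN'⟩ : Subgroup.normalizer ((P : Subgroup G) : Set G))
        ∈ (P : Subgroup G).normalizerMonoidHom.ker := by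
      rw [MonoidHom.mem_ker, ← hφ, hφ1]
    rw [hker, Subgroup.mem_subgroupOf] at h5
    exact h5
  · intro g hg
    refine ⟨?_, Subgroup.centralizer_le_normalizer _ hg⟩
    show g ∈ Subgroup.centralizer ({z} : Set G)
    rw [Subgroup.mem_centralizer_singleton_iff]
    rw [Subgroup.mem_centralizer_iff] at hg
    exact (hg z hz).symm

end Cfsg.Agent.S0945
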