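import Mathlib
import Cfsg.Agent.Lib_helper12_H2i
import Cfsg.Agent.Lib_helper15_ZStar
import Cfsg.Agent.Lib_helper24_FrobCongr
import Cfsg.Agent.S0945

set_option autoImplicit false

/-!
Brauer's theorem on groups with Sylow 2-subgroups of type `(2^m, 2^m)`, `m ≥ 2` (helper12).
-/

namespace Cfsg.Agent.helper12

open Cfsg

universe u

section H2j

variable {G : Type u} [Group G] [Finite G]

/-- a normal complement of a Sylow 2-subgroup has odd order -/
theorem h2_compl_odd (P : Sylow 2 G) (K : Subgroup G)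
    (h : Subgroup.IsComplement' K (P : Subgroup G)) : Odd (Nat.card K) := by
  haveI : Fact (Nat.Prime 2) := ⟨Nat.prime_two⟩
  have hcard : Nat.card K * Nat.card (P : Subgroup G) = Nat.card G := h.card_mul_card
  have hPcard : Nat.card (P : Subgroup G) = 2 ^ (Nat.card G).factorization 2 :=
    P.card_eq_multiplicity
  have hH0 : Nat.card G ≠ 0 := Nat.card_pos.ne'
  have h1 := Nat.coprime_ordCompl Nat.prime_two hH0
  have h2 : Nat.card K = Nat.card G / 2 ^ (Nat.card G).factorization 2 := by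
    apply Nat.eq_div_of_mul_eq_left (by positivity)
    rw [← hPcard]
    exact hcard
  rw [h2]
  exact h1.odd_of_left

/-- Burnside's transfer theorem together with a trivial odd core -/
theorem h2_burnside (P : Sylow 2 G)
    (hle : Subgroup.normalizer ((P : Subgroup G) : Set G) ≤
      Subgroup.centralizer ((P : Subgroup G) : Set G))
    (hO : ∀ N : Subgroup G, N.Normal → Odd (Nat.card N) → N = ⊥) : (P : Subgroup G) = ⊤ := by
  haveI : Fact (Nat.Prime 2) := ⟨Nat.prime_two⟩
  have hcompl := MonoidHom.ker_transferSylow_isComplement' P hle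
  obtain ⟨K, hK⟩ : ∃ K : Subgroup G, K = (MonoidHom.transferSylow P hle).ker := ⟨_, rfl⟩
  rw [← hK] at hcompl
  have hKn : K.Normal := by rw [hK]; infer_instance
  have hKbot := hO K hKn (h2_compl_odd P K hcompl)
  have hcard : Nat.card K * Nat.card (P : Subgroup G) = Nat.card G := hcompl.card_mul_card
  rw [hKbot, Subgroup.card_bot, one_mul] at hcard
  exact Subgroup.eq_top_of_card_eq _ hcard

/-- the hypothesis on odd normal subgroups passes to normal subgroups -/
theorem h2_hO_normal (hO : ∀ N : Subgroup G, N.Normal → Odd (Nat.card N) → N = ⊥)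
    (K : Subgroup G) (hK : K.Normal) :
    ∀ N : Subgroup K, N.Normal → Odd (Nat.card N) → N = ⊥ := by
  have hcore : pPrimeCore 2 G = ⊥ :=
    hO _ (helper1.pPrimeCore_normal 2) (Nat.coprime_two_right.mp (helper1.pPrimeCore_coprime 2))
  intro N hN hodd
  have hle : N ≤ pPrimeCore 2 K := helper1.le_pPrimeCore hN (Nat.coprime_two_right.mpr hodd)
  rw [Subgroup.eq_bot_iff_forall]
  intro c hc
  have h1 := helper15.eq_one_of_mem_pPrimeCore_of_normal hcore K hK c (hle hc)
  exact Subtype.ext h1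

/-- construction of the local data -/
theorem h2_exists_ctx (P : Sylow 2 G) (m : ℕ) (hm : 2 ≤ m)
    (e : (P : Subgroup G) ≃* Multiplicative (ZMod (2 ^ m) × ZMod (2 ^ m)))
    (h3 : (Subgroup.centralizer ((P : Subgroup G) : Set G)).relIndex
      (Subgroup.normalizer ((P : Subgroup G) : Set G)) = 3)
    (hfree : ∀ z ∈ (P : Subgroup G), z ≠ 1 → Subgroup.centralizer ({z} : Set G) ⊓
      Subgroup.normalizer ((P : Subgroup G) : Set G) =
        Subgroup.centralizer ((P : Subgroup G) : Set G)) :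
    ∃ C : H2Ctx G, C.P = P := by
  haveI : Fact (Nat.Prime 3) := ⟨by norm_num⟩
  obtain ⟨N, hN⟩ : ∃ N : Subgroup G, N = Subgroup.normalizer ((P : Subgroup G) : Set G) :=
    ⟨_, rfl⟩
  obtain ⟨C₀, hC₀⟩ : ∃ C₀ : Subgroup G, C₀ = Subgroup.centralizer ((P : Subgroup G) : Set G) :=
    ⟨_, rfl⟩
  rw [← hN, ← hC₀] at h3
  haveI hnorm : (C₀.subgroupOf N).Normal := by
    rw [hN, hC₀, ← Subgroup.normalizerMonoidHom_ker]
    infer_instance
  have hcardQ : Nat.card (N ⧸ C₀.subgroupOf N) = 3 := by
    rw [← Subgroup.index_eq_card]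
    exact h3
  have hnle : ¬ N ≤ C₀ := by
    intro h
    have := Subgroup.relIndex_eq_one.mpr h
    omega
  obtain ⟨n₀, hn₀N, hn₀C⟩ := SetLike.not_le_iff_exists.mp hnle
  obtain ⟨q₀, hq₀⟩ : ∃ q₀ : N ⧸ C₀.subgroupOf N, q₀ = QuotientGroup.mk ⟨n₀, hn₀N⟩ := ⟨_, rfl⟩
  have hq₀1 : q₀ ≠ 1 := by
    rw [hq₀]
    intro h
    rw [QuotientGroup.eq_one_iff, Subgroup.mem_subgroupOf] at h
    exact hn₀C h
  have hq₀3 : q₀ ^ 3 = 1 := by
    rw [← hcardQ]
    exact pow_card_eq_one'
  have hord : orderOf q₀ = 3 := orderOf_eq_prime hq₀3 hq₀1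
  refine ⟨{
    P := P
    m := m
    hm := hm
    e := e
    n₀ := n₀
    hn₀N := by rw [← hN]; exact hn₀N
    hn₀C := by rw [← hC₀]; exact hn₀C
    hn₀3 := by
      rw [← hC₀]
      have h1 : (QuotientGroup.mk ((⟨n₀, hn₀N⟩ : N) ^ 3) : N ⧸ C₀.subgroupOf N) = 1 := by
        rw [QuotientGroup.mk_pow, ← hq₀, hq₀3]
      rw [QuotientGroup.eq_one_iff, Subgroup.mem_subgroupOf] at h1
      exact h1
    hN := by
      rw [← hN, ← hC₀]
      intro n hn
      have hmem : (QuotientGroup.mk ⟨n, hn⟩ : N ⧸ C₀.subgroupOf N) ∈ Subgroup.zpowers q₀ :=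
        mem_zpowers_of_prime_card hcardQ hq₀1
      obtain ⟨j, hj⟩ := mem_powers_iff_mem_zpowers.mpr hmem
      have hj' : q₀ ^ j = QuotientGroup.mk ⟨n, hn⟩ := hj
      refine ⟨j % 3, Nat.mod_lt _ (by norm_num), n₀⁻¹ ^ (j % 3) * n, ?_, ?_⟩
      · have h1 : q₀ ^ (j % 3) = QuotientGroup.mk ⟨n, hn⟩ := by
          rw [← hj', ← hord, pow_mod_orderOf]
        rw [hq₀, ← QuotientGroup.mk_pow, QuotientGroup.eq, Subgroup.mem_subgroupOf] at h1
        have h2 : ((((⟨n₀, hn₀N⟩ : N) ^ (j % 3))⁻¹ * ⟨n, hn⟩ : N) : G) =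
            n₀⁻¹ ^ (j % 3) * n := by
          simp
        rw [← h2]
        exact h1
      · rw [inv_pow]
        group
    hfree := hfree }, rfl⟩

theorem h2_main : ∀ (n : ℕ) (G : Type u) [Group G] [Finite G], Nat.card G = n →
    ∀ (P : Sylow 2 G) (m : ℕ), 2 ≤ m →
    (P : Subgroup G) ≃* Multiplicative (ZMod (2 ^ m) × ZMod (2 ^ m)) →
    (∀ N : Subgroup G, N.Normal → Odd (Nat.card N) → N = ⊥) →
    (P : Subgroup G).Normal ∧ Subgroup.centralizer (P : Set G) = (P : Subgroup G) ∧
      ((P : Subgroup G).index = 1 ∨ (P : Subgroup G).index = 3) := by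
  intro n
  induction n using Nat.strong_induction_on with
  | _ n ih =>
  intro G _ _ hn P m hm e hO
  haveI : Fact (Nat.Prime 2) := ⟨Nat.prime_two⟩
  have hcomm : ∀ a b : G, a ∈ (P : Subgroup G) → b ∈ (P : Subgroup G) → a * b = b * a := by
    intro a b ha hb
    have h := mul_comm (e ⟨a, ha⟩) (e ⟨b, hb⟩)
    rw [← map_mul, ← map_mul] at h
    exact congrArg Subtype.val (e.injective h)
  have hPC : (P : Subgroup G) ≤ Subgroup.centralizer ((P : Subgroup G) : Set G) := by
    intro a ha
    rw [Subgroup.mem_centralizer_iff]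
    intro b hb
    exact hcomm b a hb ha
  obtain ⟨h13', hfree'⟩ := Cfsg.Agent.S0945.result P m (by omega) e
  have h13 : (Subgroup.centralizer ((P : Subgroup G) : Set G)).relIndex
      (Subgroup.normalizer ((P : Subgroup G) : Set G)) = 1 ∨
      (Subgroup.centralizer ((P : Subgroup G) : Set G)).relIndex
      (Subgroup.normalizer ((P : Subgroup G) : Set G)) = 3 := h13'
  have hfree : (Subgroup.centralizer ((P : Subgroup G) : Set G)).relIndex
      (Subgroup.normalizer ((P : Subgroup G) : Set G)) ≠ 1 →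
      ∀ z ∈ (P : Subgroup G), z ≠ 1 → Subgroup.centralizer ({z} : Set G) ⊓
      Subgroup.normalizer ((P : Subgroup G) : Set G) =
        Subgroup.centralizer ((P : Subgroup G) : Set G) := hfree'
  have hcoe : (P : Set G) = ((P : Subgroup G) : Set G) := rfl
  -- once `P` is normal the rest follows
  have hfinish : (P : Subgroup G).Normal →
      (P : Subgroup G).Normal ∧ Subgroup.centralizer (P : Set G) = (P : Subgroup G) ∧
      ((P : Subgroup G).index = 1 ∨ (P : Subgroup G).index = 3) := by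
    intro hPn
    haveI := hPn
    obtain ⟨CP, hCP⟩ : ∃ CP : Subgroup G, CP = Subgroup.centralizer ((P : Subgroup G) : Set G) :=
      ⟨_, rfl⟩
    have hCPn : CP.Normal := by rw [hCP]; exact Subgroup.normal_centralizer
    have hPCP : (P : Subgroup G) ≤ CP := by rw [hCP]; exact hPC
    have hOC := h2_hO_normal hO CP hCPn
    obtain ⟨PC, hPCdef⟩ : ∃ PC : Sylow 2 CP, PC = P.subtype hPCP := ⟨_, rfl⟩
    have hPCcoe : (PC : Subgroup CP) = (P : Subgroup G).subgroupOf CP := by
      rw [hPCdef]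
      exact Sylow.coe_subtype _ _
    have hle : Subgroup.normalizer ((PC : Subgroup CP) : Set CP) ≤
        Subgroup.centralizer ((PC : Subgroup CP) : Set CP) := by
      intro h _
      rw [hPCcoe, Subgroup.mem_centralizer_iff]
      intro p hp
      have h1 : (h : G) ∈ Subgroup.centralizer ((P : Subgroup G) : Set G) := by
        rw [← hCP]; exact h.2
      have := (Subgroup.mem_centralizer_iff.mp h1) (p : G) (Subgroup.mem_subgroupOf.mp hp)
      exact Subtype.ext this
    have htop := h2_burnside PC hle hOC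
    rw [hPCcoe, Subgroup.subgroupOf_eq_top] at htop
    have hCPeq : CP = (P : Subgroup G) := le_antisymm htop hPCP
    have hNtop : Subgroup.normalizer ((P : Subgroup G) : Set G) = ⊤ :=
      Subgroup.normalizer_eq_top_iff.mpr hPn
    refine ⟨hPn, ?_, ?_⟩
    · rw [hcoe, ← hCP, hCPeq]
    · rw [← hCP, hCPeq, hNtop, Subgroup.relIndex_top_right] at h13
      exact h13
  rcases h13 with h1 | h3
  · -- the automizer is trivial
    have hle := Subgroup.relIndex_eq_one.mp h1
    have htop := h2_burnside P hle hO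
    apply hfinish
    rw [htop]
    infer_instance
  · -- the automizer has order 3
    obtain ⟨C, hCP⟩ := h2_exists_ctx P m hm e h3 (hfree (by omega))
    obtain ⟨M, hM⟩ := helper24.exists_isPModular Nat.prime_two
    obtain ⟨χ, -, hχ1, hχP⟩ := C.exists_linear M hM
    rw [hCP] at hχP
    have hχone : (χ : G → ℂ) 1 = 1 := hχP 1 (Subgroup.one_mem _)
    obtain ⟨lam, hlam⟩ := helper23.exists_hom_of_linear (helper24.irr_isCharacter χ.2) hχone
    obtain ⟨K, hK⟩ : ∃ K : Subgroup G, K = lam.ker := ⟨_, rfl⟩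
    have hKn : K.Normal := by rw [hK]; infer_instance
    have hPK : (P : Subgroup G) ≤ K := by
      intro p hp
      rw [hK, MonoidHom.mem_ker]
      apply Units.ext
      rw [← hlam p, hχP p hp]
      rfl
    have hKtop : K ≠ ⊤ := by
      intro h
      apply hχ1
      funext g
      have hg : g ∈ lam.ker := by rw [← hK, h]; exact Subgroup.mem_top g
      rw [hlam g, MonoidHom.mem_ker.mp hg]
      rfl
    have hKcard : Nat.card K < n := by
      rw [← hn]
      apply lt_of_le_of_ne (Subgroup.card_le_card_group K)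
      intro h
      exact hKtop (Subgroup.eq_top_of_card_eq K h)
    obtain ⟨PK, hPKdef⟩ : ∃ PK : Sylow 2 K, PK = P.subtype hPK := ⟨_, rfl⟩
    have hPKcoe : (PK : Subgroup K) = (P : Subgroup G).subgroupOf K := by
      rw [hPKdef]
      exact Sylow.coe_subtype _ _
    have eK : (PK : Subgroup K) ≃* Multiplicative (ZMod (2 ^ m) × ZMod (2 ^ m)) :=
      (MulEquiv.subgroupCongr hPKcoe).trans ((Subgroup.subgroupOfEquivOfLe hPK).trans e)
    obtain ⟨hPKn, -, -⟩ := ih (Nat.card K) hKcard K rfl PK m hm eK (h2_hO_normal hO K hKn)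
    rw [hPKcoe] at hPKn
    have hKle : K ≤ Subgroup.normalizer ((P : Subgroup G) : Set G) :=
      (Subgroup.normal_subgroupOf_iff_le_normalizer hPK).mp hPKn
    haveI := hKn
    have hfr := Sylow.normalizer_sup_eq_top PK
    rw [hPKcoe, Subgroup.map_subgroupOf_eq_of_le hPK] at hfr
    have hNtop : Subgroup.normalizer ((P : Subgroup G) : Set G) = ⊤ := by
      rw [← hfr]
      exact (sup_eq_left.mpr hKle).symm
    exact hfinish (Subgroup.normalizer_eq_top_iff.mp hNtop)

end H2j

end Cfsg.Agent.helper12
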