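import Cfsg.Agent.Lib_helper12_Cusp14

set_option autoImplicit false
set_option linter.unusedSectionVars false

namespace Cfsg.Agent.helper12

open Matrix Cfsg
open scoped ComplexConjugate

theorem classInner_add_right {G : Type*} [Group G] [Fintype G] (f a b : G → ℂ) :
    classInner f (a + b) = classInner f a + classInner f b := by
  simp [classInner, mul_add, Finset.sum_add_distrib]

/-- a virtual character of norm two is a signed sum of two distinct irreducible characters -/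
theorem virtual_norm_two {G : Type*} [Group G] [Fintype G] {f : G → ℂ} (hf : IsClassFunction G f)
    (hint : ∀ ψ : IrrCharacter G, ∃ z : ℤ, classInner f (ψ : G → ℂ) = z)
    (hnorm : classInner f f = 2) :
    ∃ ψ₁ ψ₂ : G → ℂ, IsIrrCharacter G ψ₁ ∧ IsIrrCharacter G ψ₂ ∧ ψ₁ ≠ ψ₂ ∧
      ∃ ε₁ ε₂ : ℤ, (ε₁ = 1 ∨ ε₁ = -1) ∧ (ε₂ = 1 ∨ ε₂ = -1) ∧ f = (ε₁ : ℂ) • ψ₁ + (ε₂ : ℂ) • ψ₂ := by
  classical
  have : Fintype (IrrCharacter G) := Fintype.ofFinite _
  obtain ⟨z, hexp, hz, hn⟩ := virtual_decomp hf hint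
  rw [hnorm] at hn
  have hsum : ∑ ψ : IrrCharacter G, z ψ ^ 2 = 2 := by exact_mod_cast hn.symm
  have hex : ∃ ψ0, z ψ0 ≠ 0 := by
    by_contra hcon
    push Not at hcon
    simp [hcon] at hsum
  obtain ⟨ψ0, h0⟩ := hex
  have hsplit := Finset.add_sum_erase Finset.univ (fun ψ => z ψ ^ 2) (Finset.mem_univ ψ0)
  rw [hsum] at hsplit
  have hnn : 0 ≤ ∑ ψ ∈ Finset.univ.erase ψ0, z ψ ^ 2 := Finset.sum_nonneg (fun ψ _ => sq_nonneg _)
  have h0sq : z ψ0 ^ 2 = 1 := by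
    have hpos : 0 < z ψ0 ^ 2 := by positivity
    have hle : z ψ0 ^ 2 ≤ 2 := by omega
    have : z ψ0 ^ 2 ≠ 2 := by
      intro h
      have h1 : -2 < z ψ0 := by nlinarith
      have h2 : z ψ0 < 2 := by nlinarith
      interval_cases (z ψ0) <;> simp at h
    omega
  have hrest : ∑ ψ ∈ Finset.univ.erase ψ0, z ψ ^ 2 = 1 := by omega
  have hex1 : ∃ ψ1 ∈ Finset.univ.erase ψ0, z ψ1 ≠ 0 := by
    by_contra hcon
    push Not at hcon
    rw [Finset.sum_eq_zero (fun ψ hψ => by rw [hcon ψ hψ]; rfl)] at hrest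
    omega
  obtain ⟨ψ1, hψ1, h1⟩ := hex1
  have hsplit1 := Finset.add_sum_erase (Finset.univ.erase ψ0) (fun ψ => z ψ ^ 2) hψ1
  rw [hrest] at hsplit1
  have hnn1 : 0 ≤ ∑ ψ ∈ (Finset.univ.erase ψ0).erase ψ1, z ψ ^ 2 := Finset.sum_nonneg (fun ψ _ => sq_nonneg _)
  have hpos1 : 0 < z ψ1 ^ 2 := by positivity
  have h1sq : z ψ1 ^ 2 = 1 := by omega
  have hrest1 : ∑ ψ ∈ (Finset.univ.erase ψ0).erase ψ1, z ψ ^ 2 = 0 := by omega
  have hne : ψ1 ≠ ψ0 := (Finset.mem_erase.mp hψ1).1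
  have hzero : ∀ ψ, ψ ≠ ψ0 → ψ ≠ ψ1 → z ψ = 0 := by
    intro ψ hψ hψ'
    have := (Finset.sum_eq_zero_iff_of_nonneg (fun ψ _ => sq_nonneg (z ψ))).mp hrest1 ψ
      (Finset.mem_erase.mpr ⟨hψ', Finset.mem_erase.mpr ⟨hψ, Finset.mem_univ ψ⟩⟩)
    exact pow_eq_zero_iff (two_ne_zero) |>.mp this
  refine ⟨ψ0, ψ1, ψ0.2, ψ1.2, fun h => hne (Subtype.ext h.symm), z ψ0, z ψ1,
    sq_eq_one_iff.mp h0sq, sq_eq_one_iff.mp h1sq, ?_⟩
  conv_lhs => rw [hexp]
  rw [← Finset.add_sum_erase Finset.univ _ (Finset.mem_univ ψ0),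
    ← Finset.add_sum_erase (Finset.univ.erase ψ0) _ hψ1, Finset.sum_eq_zero, add_zero]
  intro ψ hψ
  rw [Finset.mem_erase, Finset.mem_erase] at hψ
  rw [hzero ψ hψ.2.1 hψ.1, Int.cast_zero, zero_smul]

variable {F : Type*} [Field F] [Fintype F] [DecidableEq F]

/-- values of the multiplicative character of order two -/
theorem mulChar_order_two_apply {γ : MulChar F ℂ} (h1 : γ ^ 2 = 1) (h2 : γ ≠ 1) (a : Fˣ) :
    (IsSquare (a : F) → γ (a : F) = 1) ∧ (¬ IsSquare (a : F) → γ (a : F) = -1) := by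
  have hsq : ∀ r : Fˣ, γ ((r : F) ^ 2) = 1 := by
    intro r
    rw [map_pow, ← MulChar.pow_apply' γ two_ne_zero, h1, MulChar.one_apply_coe]
  constructor
  · rintro ⟨r, hr⟩
    have hr0 : r ≠ 0 := by
      rintro rfl
      rw [mul_zero] at hr
      exact a.ne_zero hr
    have := hsq (Units.mk0 r hr0)
    rw [Units.val_mk0, sq, ← hr] at this
    exact this
  · intro hns
    have hγa : γ (a : F) ^ 2 = 1 := by
      rw [← MulChar.pow_apply' γ two_ne_zero, h1, MulChar.one_apply_coe]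
    rcases sq_eq_one_iff.mp hγa with h | h
    · exfalso
      apply h2
      apply MulChar.ext
      intro b
      rw [MulChar.one_apply_coe]
      by_cases hb : IsSquare (b : F)
      · obtain ⟨r, hr⟩ := hb
        have hr0 : r ≠ 0 := by
          rintro rfl
          rw [mul_zero] at hr
          exact b.ne_zero hr
        have := hsq (Units.mk0 r hr0)
        rw [Units.val_mk0, sq, ← hr] at this
        exact this
      · obtain ⟨r, hr⟩ := nonsquare_mul_nonsquare hns hb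
        rw [hr, map_mul, h, hsq r, one_mul]
    · exact h

end Cfsg.Agent.helper12
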