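import Cfsg.Agent.Lib_helper12_Half01

set_option autoImplicit false
set_option linter.unusedSectionVars false

namespace Cfsg.Agent.helper12

open Matrix Cfsg
open scoped ComplexConjugate

variable {F : Type*} [Field F] [Fintype F] [DecidableEq F]

/-- S2435, first half -/
theorem sl2_half_add_values_split (hodd : Odd (Fintype.card F)) (hq : 5 ≤ Fintype.card F)
    {χ : Matrix.SpecialLinearGroup (Fin 2) F → ℂ} (hχ : IsIrrCharacter (Matrix.SpecialLinearGroup (Fin 2) F) χ)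
    (hdeg : χ 1 = (((Fintype.card F + 1) / 2 : ℕ) : ℂ)) (g : Matrix.SpecialLinearGroup (Fin 2) F)
    (h01 : (g : Matrix (Fin 2) (Fin 2) F) 0 1 = 0) (h10 : (g : Matrix (Fin 2) (Fin 2) F) 1 0 = 0)
    (h00 : (g : Matrix (Fin 2) (Fin 2) F) 0 0 ^ 2 ≠ 1) :
    (IsSquare ((g : Matrix (Fin 2) (Fin 2) F) 0 0) → χ g = 1) ∧
    (¬ IsSquare ((g : Matrix (Fin 2) (Fin 2) F) 0 0) → χ g = -1) := by
  have h2deg : 2 * χ 1 = (Fintype.card F : ℂ) + 1 := by
    rw [hdeg]
    obtain ⟨k, hk⟩ := hodd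
    have : (Fintype.card F + 1) / 2 = k + 1 := by omega
    rw [this, hk]
    push_cast
    ring
  obtain ⟨γ, h1, h2, hne⟩ := sl2_deg_half_add hq hχ h2deg
  obtain ⟨χ₁, χ₂, i1, i2, hne12, hsum, d1, d2, x, hx⟩ := sl2_order_two_splits hodd γ h1 h2
  have hcase : χ = χ₁ ∨ χ = χ₂ := by
    change classInner (indFun (sl2Borel F) (sl2BorelChar γ)) χ ≠ 0 at hne
    rw [hsum, classInner_irr_add i1 i2 hχ] at hne
    by_cases c1 : χ₁ = χ
    · left; exact c1.symm
    · by_cases c2 : χ₂ = χ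
      · right; exact c2.symm
      · rw [if_neg c1, if_neg c2] at hne
        norm_num at hne
  obtain ⟨a, hg, ha⟩ := sl2_diag_eq_sl2UT g h01 h10
  have ha2 : (a : F) ^ 2 ≠ 1 := by rw [ha]; exact h00
  have hR : sl2R γ g = 2 * γ (a : F) := by
    rw [hg, sl2R_sl2UT_split γ a ha2 0]
    have : γ ((a⁻¹ : Fˣ) : F) = γ (a : F) := by
      have h3 : γ ((a⁻¹ : Fˣ) : F) * γ (a : F) = 1 := by
        rw [← map_mul, ← Units.val_mul, inv_mul_cancel, Units.val_one, map_one]
      have h4 : γ (a : F) * γ (a : F) = 1 := by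
        rw [← sq, ← MulChar.pow_apply' γ two_ne_zero, h1, MulChar.one_apply_coe]
      have h5 : γ (a : F) ≠ 0 := by
        intro h0
        rw [h0, mul_zero] at h4
        exact zero_ne_one h4
      exact mul_right_cancel₀ h5 (h3.trans h4.symm)
    rw [this]
    ring
  have hD : ((g : Matrix (Fin 2) (Fin 2) F) 0 0 + (g : Matrix (Fin 2) (Fin 2) F) 1 1) ^ 2 - 4 ≠ 0 := by
    have h11 : (g : Matrix (Fin 2) (Fin 2) F) 1 1 = ((a⁻¹ : Fˣ) : F) := by
      rw [hg]
      simp [sl2UT]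
    rw [← ha, h11]
    have hne' := units_inv_sub_ne_zero a ha2
    have hmul : (a : F) * ((a⁻¹ : Fˣ) : F) = 1 := by rw [← Units.val_mul, mul_inv_cancel, Units.val_one]
    intro h
    apply hne'
    have : (((a⁻¹ : Fˣ) : F) - (a : F)) ^ 2 = 0 := by linear_combination h - 4 * hmul
    exact pow_eq_zero_iff (two_ne_zero) |>.mp this
  obtain ⟨s, hs⟩ := sl2_disc_gl_conj hodd g hD x
  have h21 : χ₂ g = χ₁ g := by
    rw [hx (s⁻¹ * g * s) g hs]
    have := helper24.char_isClassFunction (helper24.irr_isCharacter i1) g s⁻¹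
    rw [inv_inv] at this
    exact this
  have hsumg : χ₁ g + χ₂ g = 2 * γ (a : F) := by
    rw [← Pi.add_apply, ← hsum]
    exact hR
  have hχ1 : χ₁ g = γ (a : F) := by
    rw [h21] at hsumg
    linear_combination hsumg / 2
  have hχg : χ g = γ (a : F) := by
    rcases hcase with rfl | rfl
    · exact hχ1
    · rw [h21, hχ1]
  rw [hχg, ← ha]
  exact mulChar_order_two_apply h1 h2 a

end Cfsg.Agent.helper12
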