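import Cfsg.Agent.Lib_helper12_Half02

set_option autoImplicit false
set_option linter.unusedSectionVars false

namespace Cfsg.Agent.helper12

open Matrix Cfsg
open scoped ComplexConjugate

variable {F : Type*} [Field F] [Fintype F] [DecidableEq F]

theorem torus_negOne_ne_one (h2 : (2 : F) ≠ 0) (b : Matrix.SpecialLinearGroup (Fin 2) F) :
    (⟨sl2NegOne, sl2NegOne_mem_centralizer _⟩ : Subgroup.centralizer ({b} : Set (Matrix.SpecialLinearGroup (Fin 2) F))) ≠ 1 := by
  intro h
  exact sl2NegOne_ne_one h2 (congrArg Subtype.val h)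

theorem torus_pow_half_cases (hodd : Odd (Fintype.card F)) {b : Matrix.SpecialLinearGroup (Fin 2) F}
    (hb : NoEigen2 (b : Matrix (Fin 2) (Fin 2) F))
    (c : Subgroup.centralizer ({b} : Set (Matrix.SpecialLinearGroup (Fin 2) F))) :
    c ^ ((Fintype.card F + 1) / 2) = 1 ∨ c ^ ((Fintype.card F + 1) / 2) = ⟨sl2NegOne, sl2NegOne_mem_centralizer _⟩ := by
  have h2 : (2 : F) ≠ 0 := two_ne_zero_of_odd_card hodd
  have hm : (Fintype.card F + 1) / 2 + (Fintype.card F + 1) / 2 = Fintype.card F + 1 := by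
    obtain ⟨k, hk⟩ := hodd
    omega
  have h1 : c ^ ((Fintype.card F + 1) / 2) * c ^ ((Fintype.card F + 1) / 2) = 1 := by
    rw [← pow_add, hm, ← card_sl2_centralizer_noEigen hodd b hb]
    exact pow_card_eq_one'
  have h1' : ((c ^ ((Fintype.card F + 1) / 2) : Subgroup.centralizer ({b} : Set (Matrix.SpecialLinearGroup (Fin 2) F))) : Matrix.SpecialLinearGroup (Fin 2) F)
      * ((c ^ ((Fintype.card F + 1) / 2) : Subgroup.centralizer ({b} : Set (Matrix.SpecialLinearGroup (Fin 2) F))) : Matrix.SpecialLinearGroup (Fin 2) F) = 1 :=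
    congrArg Subtype.val h1
  rcases sl2_sq_eq_one h2 h1' with h | h
  · left
    exact Subtype.ext (Subtype.ext h)
  · right
    exact Subtype.ext (Subtype.ext (by rw [h, sl2NegOne_coe]))

/-- the function underlying the quadratic character of the nonsplit torus -/
noncomputable def torusQuadFun (b : Matrix.SpecialLinearGroup (Fin 2) F) :
    Subgroup.centralizer ({b} : Set (Matrix.SpecialLinearGroup (Fin 2) F)) → ℂˣ :=
  fun c => if c ^ ((Fintype.card F + 1) / 2) = 1 then 1 else -1

theorem torusQuadFun_mul (hodd : Odd (Fintype.card F)) {b : Matrix.SpecialLinearGroup (Fin 2) F}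
    (hb : NoEigen2 (b : Matrix (Fin 2) (Fin 2) F))
    (c d : Subgroup.centralizer ({b} : Set (Matrix.SpecialLinearGroup (Fin 2) F))) :
    torusQuadFun b (c * d) = torusQuadFun b c * torusQuadFun b d := by
  have h2 : (2 : F) ≠ 0 := two_ne_zero_of_odd_card hodd
  have hcomm : Commute c d := Subtype.ext (sl2_centralizer_comm hb.not_isScalar2 c.2 d.2)
  have hz := torus_negOne_ne_one h2 b
  have hzz : (⟨sl2NegOne, sl2NegOne_mem_centralizer _⟩ : Subgroup.centralizer ({b} : Set (Matrix.SpecialLinearGroup (Fin 2) F))) *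
      ⟨sl2NegOne, sl2NegOne_mem_centralizer _⟩ = 1 := Subtype.ext sl2NegOne_mul_self
  unfold torusQuadFun
  rw [hcomm.mul_pow]
  rcases torus_pow_half_cases hodd hb c with h | h <;> rcases torus_pow_half_cases hodd hb d with h' | h' <;>
    rw [h, h']
  · simp
  · simp [hz]
  · simp [hz]
  · rw [hzz]
    simp [hz]

/-- the quadratic character of the nonsplit torus -/
noncomputable def torusQuad (hodd : Odd (Fintype.card F)) {b : Matrix.SpecialLinearGroup (Fin 2) F}
    (hb : NoEigen2 (b : Matrix (Fin 2) (Fin 2) F)) :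
    Subgroup.centralizer ({b} : Set (Matrix.SpecialLinearGroup (Fin 2) F)) →* ℂˣ :=
  MonoidHom.mk' (torusQuadFun b) (torusQuadFun_mul hodd hb)

theorem unitFun_torusQuad (hodd : Odd (Fintype.card F)) {b : Matrix.SpecialLinearGroup (Fin 2) F}
    (hb : NoEigen2 (b : Matrix (Fin 2) (Fin 2) F))
    (c : Subgroup.centralizer ({b} : Set (Matrix.SpecialLinearGroup (Fin 2) F))) :
    unitFun (torusQuad hodd hb) c = if c ^ ((Fintype.card F + 1) / 2) = 1 then 1 else -1 := by
  unfold unitFun torusQuad
  rw [MonoidHom.mk'_apply]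
  unfold torusQuadFun
  split_ifs <;> simp

theorem unitFun_torusQuad_sq (hodd : Odd (Fintype.card F)) {b : Matrix.SpecialLinearGroup (Fin 2) F}
    (hb : NoEigen2 (b : Matrix (Fin 2) (Fin 2) F))
    (c : Subgroup.centralizer ({b} : Set (Matrix.SpecialLinearGroup (Fin 2) F))) :
    unitFun (torusQuad hodd hb) c ^ 2 = 1 := by
  rw [unitFun_torusQuad]
  split_ifs <;> simp

theorem unitFun_torusQuad_inv (hodd : Odd (Fintype.card F)) {b : Matrix.SpecialLinearGroup (Fin 2) F}
    (hb : NoEigen2 (b : Matrix (Fin 2) (Fin 2) F))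
    (c : Subgroup.centralizer ({b} : Set (Matrix.SpecialLinearGroup (Fin 2) F))) :
    unitFun (torusQuad hodd hb) c⁻¹ = unitFun (torusQuad hodd hb) c := by
  have h1 : unitFun (torusQuad hodd hb) c⁻¹ * unitFun (torusQuad hodd hb) c = 1 := by
    rw [← unitFun_mul, inv_mul_cancel, unitFun_one]
  have h2 : unitFun (torusQuad hodd hb) c * unitFun (torusQuad hodd hb) c = 1 := by
    rw [← sq]; exact unitFun_torusQuad_sq hodd hb c
  have h3 : unitFun (torusQuad hodd hb) c ≠ 0 := by
    intro h0
    rw [h0, mul_zero] at h2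
    exact zero_ne_one h2
  exact mul_right_cancel₀ h3 (h1.trans h2.symm)

theorem torusQuad_gen (hodd : Odd (Fintype.card F)) {b : Matrix.SpecialLinearGroup (Fin 2) F}
    (hb : NoEigen2 (b : Matrix (Fin 2) (Fin 2) F)) (hord : orderOf b = Fintype.card F + 1) :
    torusQuad hodd hb ⟨b, sl2_mem_centralizer_singleton.mpr rfl⟩ ≠ 1 := by
  unfold torusQuad
  rw [MonoidHom.mk'_apply]
  unfold torusQuadFun
  have hne : (⟨b, sl2_mem_centralizer_singleton.mpr rfl⟩ : Subgroup.centralizer ({b} : Set (Matrix.SpecialLinearGroup (Fin 2) F)))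
      ^ ((Fintype.card F + 1) / 2) ≠ 1 := by
    intro h
    have h' := congrArg Subtype.val h
    rw [Subgroup.coe_pow, Subgroup.coe_one] at h'
    have hdvd := orderOf_dvd_of_pow_eq_one h'
    rw [hord] at hdvd
    have hq : 1 < Fintype.card F := Fintype.one_lt_card
    have := Nat.le_of_dvd (by omega) hdvd
    omega
  rw [if_neg hne]
  intro h
  have := congrArg Units.val h
  simp at this
  norm_num at this

end Cfsg.Agent.helper12
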