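import Cfsg.Agent.Lib_helper12_Half03

set_option autoImplicit false
set_option linter.unusedSectionVars false

namespace Cfsg.Agent.helper12

open Matrix Cfsg
open scoped ComplexConjugate

variable {F : Type*} [Field F] [Fintype F] [DecidableEq F]

/-- `cuspF` is orthogonal to the principal series -/
theorem cuspF_cuspidal (hodd : Odd (Fintype.card F)) (α : MulChar F ℂ) {b : Matrix.SpecialLinearGroup (Fin 2) F}
    (hb : NoEigen2 (b : Matrix (Fin 2) (Fin 2) F))
    (θ : Subgroup.centralizer ({b} : Set (Matrix.SpecialLinearGroup (Fin 2) F)) →* ℂˣ)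
    (hα : α (-1) = unitFun θ ⟨sl2NegOne, sl2NegOne_mem_centralizer _⟩) : Sl2Cuspidal (cuspF α θ) := by
  intro γ
  rw [sl2_classInner_R_eq γ _ (cuspF_isClassFunction α θ)]
  have hzero : ∀ a : Fˣ, ∑ x : F, conj (cuspF α θ (sl2UT a x)) = 0 := by
    intro a
    by_cases ha : (a : F) ^ 2 = 1
    · rw [sum_split_zero]
      have h0 : cuspF α θ (sl2UT a 0) = α (a : F) * ((Fintype.card F : ℂ) - 1) := by
        rcases sq_eq_one_iff.mp ha with h | h
        · have : a = 1 := Units.ext h
          subst this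
          rw [sl2UT_one_zero, cuspF_one hodd α hb θ, Units.val_one, map_one, one_mul]
        · have : a = -1 := Units.ext (by rw [h, Units.val_neg, Units.val_one])
          subst this
          rw [sl2UT_neg_one_zero, cuspF_negOne hodd α hb θ hα, ← hα, Units.val_neg, Units.val_one]
      have hx : ∀ x : F, (if x = 0 then (0 : ℂ) else conj (cuspF α θ (sl2UT a x))) = if x = 0 then 0 else -conj (α (a : F)) := by
        intro x
        split_ifs with hx
        · rfl
        · rw [cuspF_sl2UT_unip α hb θ a ha x hx, map_neg]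
      rw [h0, Finset.sum_congr rfl (fun x _ => hx x), sum_ite_ne_zero_const]
      simp only [map_mul, map_sub, Complex.conj_natCast, map_one]
      ring
    · apply Finset.sum_eq_zero
      intro x _
      rw [cuspF_sl2UT_split α hb θ a ha x, map_zero]
  simp only [hzero, mul_zero, Finset.sum_const_zero]

theorem classInner_cuspF_one (hodd : Odd (Fintype.card F)) (α : MulChar F ℂ) {b : Matrix.SpecialLinearGroup (Fin 2) F}
    (θ : Subgroup.centralizer ({b} : Set (Matrix.SpecialLinearGroup (Fin 2) F)) →* ℂˣ)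
    (c₀ : Subgroup.centralizer ({b} : Set (Matrix.SpecialLinearGroup (Fin 2) F))) (hc₀ : θ c₀ ≠ 1) :
    classInner (cuspF α θ) (fun _ => (1 : ℂ)) = 0 := by
  classical
  have h2 : (2 : F) ≠ 0 := two_ne_zero_of_odd_card hodd
  have : Fintype (Subgroup.centralizer ({b} : Set (Matrix.SpecialLinearGroup (Fin 2) F))) := Fintype.ofFinite _
  rw [cuspF_eq_sub, helper24.classInner_sub_left, classInner_cuspQ_one h2]
  unfold cuspI
  rw [classInner_indFun_eq_restrict _ _ _ (fun _ _ => rfl)]
  unfold classInner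
  simp only [map_one, mul_one]
  unfold unitFun
  rw [sum_monoidHom_eq_zero θ c₀ hc₀]
  simp

theorem sl2R_one_eq : sl2R (1 : MulChar F ℂ) = sl2St + fun _ => (1 : ℂ) := by
  funext g
  unfold sl2St
  simp

/-- the degree of a cuspidal irreducible character -/
theorem sl2_cuspidal_degree {ψ : Matrix.SpecialLinearGroup (Fin 2) F → ℂ}
    (hψ : IsIrrCharacter (Matrix.SpecialLinearGroup (Fin 2) F) ψ) (hc : Sl2Cuspidal ψ) :
    ψ 1 = (Fintype.card F : ℂ) - 1 ∨ 2 * ψ 1 = (Fintype.card F : ℂ) - 1 := by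
  classical
  rcases sl2_irr_classification hψ with rfl | rfl | ⟨γ, hγ, rfl⟩ | ⟨γ, h1, h2, hne⟩ | ⟨_, h⟩
  · exfalso
    have := hc 1
    rw [sl2_classInner_R_one, if_pos rfl] at this
    exact one_ne_zero this
  · exfalso
    have := hc 1
    rw [sl2R_one_eq, helper24.classInner_add_left, helper24.irr_classInner_self sl2St_irr,
      helper24.irr_classInner (isIrrCharacter_const_one _) sl2St_irr] at this
    split_ifs at this
    · norm_num at this
    · norm_num at this
  · exfalso
    have := hc γ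
    rw [helper24.irr_classInner_self ((sl2_indBorel_irr_iff γ).mpr hγ)] at this
    exact one_ne_zero this
  · exact absurd (hc γ) hne
  · exact h

/-- a cuspidal virtual character of norm two orthogonal to the trivial character has cuspidal constituents -/
theorem sl2_virtual_two_cuspidal (hodd : Odd (Fintype.card F)) {f ψ₁ ψ₂ : Matrix.SpecialLinearGroup (Fin 2) F → ℂ}
    (hψ₁ : IsIrrCharacter (Matrix.SpecialLinearGroup (Fin 2) F) ψ₁)
    (hψ₂ : IsIrrCharacter (Matrix.SpecialLinearGroup (Fin 2) F) ψ₂) (hne : ψ₁ ≠ ψ₂)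
    (ε₁ ε₂ : ℤ) (hε₁ : ε₁ = 1 ∨ ε₁ = -1) (hε₂ : ε₂ = 1 ∨ ε₂ = -1)
    (hf : f = (ε₁ : ℂ) • ψ₁ + (ε₂ : ℂ) • ψ₂) (hcusp : Sl2Cuspidal f)
    (h1 : classInner f (fun _ => (1 : ℂ)) = 0) (hf1 : f 1 ≠ 0) : Sl2Cuspidal ψ₁ := by
  classical
  have hin : ∀ ψ : Matrix.SpecialLinearGroup (Fin 2) F → ℂ, IsIrrCharacter (Matrix.SpecialLinearGroup (Fin 2) F) ψ →
      classInner f ψ = (ε₁ : ℂ) * (if ψ₁ = ψ then 1 else 0) + (ε₂ : ℂ) * (if ψ₂ = ψ then 1 else 0) := by
    intro ψ hψ
    rw [hf, helper24.classInner_add_left, helper24.classInner_smul_left, helper24.classInner_smul_left,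
      helper24.irr_classInner hψ₁ hψ, helper24.irr_classInner hψ₂ hψ]
  have hε₁0 : (ε₁ : ℂ) ≠ 0 := by
    rcases hε₁ with h | h <;> rw [h] <;> norm_num
  have hfR : ∀ γ : MulChar F ℂ, classInner f (sl2R γ) = 0 := by
    intro γ
    rw [← helper24.classInner_conj_symm, hcusp γ, map_zero]
  rcases sl2_irr_classification hψ₁ with h | h | ⟨γ, hγ, h⟩ | ⟨γ, hγ1, hγ2, hγne⟩ | ⟨hc, _⟩
  · exfalso
    have := hin _ (isIrrCharacter_const_one _)
    rw [h1, if_pos h, if_neg (fun h' => hne (h.trans h'.symm))] at this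
    apply hε₁0
    linear_combination -this
  · exfalso
    have := hfR 1
    rw [sl2R_one_eq, classInner_add_right, h1, add_zero, hin _ sl2St_irr, if_pos h,
      if_neg (fun h' => hne (h.trans h'.symm))] at this
    apply hε₁0
    linear_combination this
  · exfalso
    have := hfR γ
    rw [hin _ ((sl2_indBorel_irr_iff γ).mpr hγ), if_pos h, if_neg (fun h' => hne (h.trans h'.symm))] at this
    apply hε₁0
    linear_combination this
  · exfalso
    obtain ⟨χ₁, χ₂, i1, i2, hne12, hsum, d1, d2, _⟩ := sl2_order_two_splits hodd γ hγ1 hγ2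
    have hcase : ψ₁ = χ₁ ∨ ψ₁ = χ₂ := by
      change classInner (indFun (sl2Borel F) (sl2BorelChar γ)) ψ₁ ≠ 0 at hγne
      rw [hsum, classInner_irr_add i1 i2 hψ₁] at hγne
      by_cases c1 : χ₁ = ψ₁
      · left; exact c1.symm
      · by_cases c2 : χ₂ = ψ₁
        · right; exact c2.symm
        · rw [if_neg c1, if_neg c2] at hγne
          norm_num at hγne
    have h0 := hfR γ
    change classInner f (indFun (sl2Borel F) (sl2BorelChar γ)) = 0 at h0
    rw [hsum, classInner_add_right, hin _ i1, hin _ i2] at h0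
    have hf1' : f 1 = (ε₁ : ℂ) * ψ₁ 1 + (ε₂ : ℂ) * ψ₂ 1 := by
      rw [hf]; rfl
    rcases hcase with hc | hc
    · have n1 : ¬ (ψ₂ = χ₁) := fun h' => hne (hc.trans h'.symm)
      have n2 : ¬ (ψ₁ = χ₂) := fun h' => hne12 (hc.symm.trans h')
      rw [if_pos hc, if_neg n1, if_neg n2] at h0
      by_cases h22 : ψ₂ = χ₂
      · rw [if_pos h22] at h0
        apply hf1
        rw [hf1', hc, h22, d1, d2]
        linear_combination (((Fintype.card F + 1) / 2 : ℕ) : ℂ) * h0
      · rw [if_neg h22] at h0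
        apply hε₁0
        linear_combination h0
    · have n1 : ¬ (ψ₁ = χ₁) := fun h' => hne12 (h'.symm.trans hc)
      have n2 : ¬ (ψ₂ = χ₂) := fun h' => hne (hc.trans h'.symm)
      rw [if_neg n1, if_pos hc, if_neg n2] at h0
      by_cases h22 : ψ₂ = χ₁
      · rw [if_pos h22] at h0
        apply hf1
        rw [hf1', hc, h22, d1, d2]
        linear_combination (((Fintype.card F + 1) / 2 : ℕ) : ℂ) * h0
      · rw [if_neg h22] at h0
        apply hε₁0
        linear_combination h0
  · exact hc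

end Cfsg.Agent.helper12
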