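import Cfsg.Agent.Lib_helper12_Half04

set_option autoImplicit false
set_option linter.unusedSectionVars false

namespace Cfsg.Agent.helper12

open Matrix Cfsg
open scoped ComplexConjugate

variable {F : Type*} [Field F] [Fintype F] [DecidableEq F]

theorem classInner_cuspF_torusQuad (hodd : Odd (Fintype.card F)) (α : MulChar F ℂ)
    {b : Matrix.SpecialLinearGroup (Fin 2) F} (hb : NoEigen2 (b : Matrix (Fin 2) (Fin 2) F))
    (hα : α (-1) = unitFun (torusQuad hodd hb) ⟨sl2NegOne, sl2NegOne_mem_centralizer _⟩) :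
    classInner (cuspF α (torusQuad hodd hb)) (cuspF α (torusQuad hodd hb)) = 2 := by
  classical
  have : Fintype (Subgroup.centralizer ({b} : Set (Matrix.SpecialLinearGroup (Fin 2) F))) := Fintype.ofFinite _
  rw [classInner_cuspF_self hodd α hb _ hα]
  simp only [unitFun_torusQuad_sq, Finset.sum_const, Finset.card_univ, nsmul_eq_mul, mul_one]
  have hc : Fintype.card (Subgroup.centralizer ({b} : Set (Matrix.SpecialLinearGroup (Fin 2) F))) = Fintype.card F + 1 := by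
    rw [← Nat.card_eq_fintype_card]
    exact card_sl2_centralizer_noEigen hodd b hb
  rw [hc]
  have := card_cast_add_one_ne_zero (F := F)
  push_cast
  field_simp
  norm_num

/-- the virtual character attached to the quadratic character of the torus is the sum of the two
irreducible characters of degree `(q - 1) / 2` -/
theorem cuspF_torusQuad_split (hodd : Odd (Fintype.card F)) (hq : 5 ≤ Fintype.card F) (α : MulChar F ℂ)
    {b : Matrix.SpecialLinearGroup (Fin 2) F} (hb : NoEigen2 (b : Matrix (Fin 2) (Fin 2) F))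
    (hord : orderOf b = Fintype.card F + 1)
    (hα : α (-1) = unitFun (torusQuad hodd hb) ⟨sl2NegOne, sl2NegOne_mem_centralizer _⟩) :
    ∃ ψ₁ ψ₂ : Matrix.SpecialLinearGroup (Fin 2) F → ℂ, IsIrrCharacter (Matrix.SpecialLinearGroup (Fin 2) F) ψ₁ ∧
      IsIrrCharacter (Matrix.SpecialLinearGroup (Fin 2) F) ψ₂ ∧ ψ₁ ≠ ψ₂ ∧
      ψ₁ 1 = (((Fintype.card F - 1) / 2 : ℕ) : ℂ) ∧ ψ₂ 1 = (((Fintype.card F - 1) / 2 : ℕ) : ℂ) ∧
      cuspF α (torusQuad hodd hb) = ψ₁ + ψ₂ := by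
  classical
  have hnorm := classInner_cuspF_torusQuad hodd α hb hα
  obtain ⟨ψ₁, ψ₂, hψ₁, hψ₂, hne, ε₁, ε₂, hε₁, hε₂, hf⟩ := virtual_norm_two (cuspF_isClassFunction α (torusQuad hodd hb))
    (fun ψ => cuspF_classInner_int α (torusQuad hodd hb) (helper24.irr_isCharacter ψ.2)) hnorm
  have hcusp := cuspF_cuspidal hodd α hb (torusQuad hodd hb) hα
  have h1 := classInner_cuspF_one hodd α (torusQuad hodd hb) _ (torusQuad_gen hodd hb hord)
  have hf1v := cuspF_one hodd α hb (torusQuad hodd hb)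
  have hf1 : cuspF α (torusQuad hodd hb) 1 ≠ 0 := by
    rw [hf1v]; exact card_cast_sub_one_ne_zero
  have c1 := sl2_virtual_two_cuspidal hodd hψ₁ hψ₂ hne ε₁ ε₂ hε₁ hε₂ hf hcusp h1 hf1
  have c2 := sl2_virtual_two_cuspidal hodd hψ₂ hψ₁ hne.symm ε₂ ε₁ hε₂ hε₁ (by rw [hf, add_comm]) hcusp h1 hf1
  have d1 := sl2_cuspidal_degree hψ₁ c1
  have d2 := sl2_cuspidal_degree hψ₂ c2
  obtain ⟨n₁, hn₁, e₁⟩ := helper24.irr_apply_one hψ₁
  obtain ⟨n₂, hn₂, e₂⟩ := helper24.irr_apply_one hψ₂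
  have hodd' := hodd
  obtain ⟨k, hk⟩ := hodd'
  have hk2 : 2 ≤ k := by omega
  have ek : (Fintype.card F - 1) / 2 = k := by omega
  have hqc : (Fintype.card F : ℂ) - 1 = ((2 * k : ℕ) : ℂ) := by rw [hk]; push_cast; ring
  rw [e₁, hqc] at d1
  rw [e₂, hqc] at d2
  have d1' : n₁ = 2 * k ∨ n₁ = k := by
    rcases d1 with h | h
    · left; exact_mod_cast h
    · right
      have : 2 * n₁ = 2 * k := by exact_mod_cast h
      omega
  have d2' : n₂ = 2 * k ∨ n₂ = k := by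
    rcases d2 with h | h
    · left; exact_mod_cast h
    · right
      have : 2 * n₂ = 2 * k := by exact_mod_cast h
      omega
  have hval : cuspF α (torusQuad hodd hb) 1 = (ε₁ : ℂ) * ψ₁ 1 + (ε₂ : ℂ) * ψ₂ 1 := by
    conv_lhs => rw [hf]
    rfl
  rw [hf1v, hqc, e₁, e₂] at hval
  have hvalZ : ((2 * k : ℕ) : ℤ) = ε₁ * n₁ + ε₂ * n₂ := by exact_mod_cast hval
  have hall : ε₁ = 1 ∧ ε₂ = 1 ∧ n₁ = k ∧ n₂ = k := by
    rcases hε₁ with h | h <;> rcases hε₂ with h' | h' <;> rcases d1' with g | g <;> rcases d2' with g' | g' <;>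
      subst h h' g g' <;> push_cast at hvalZ <;> refine ⟨?_, ?_, ?_, ?_⟩ <;> omega
  obtain ⟨he1, he2, hn1, hn2⟩ := hall
  refine ⟨ψ₁, ψ₂, hψ₁, hψ₂, hne, ?_, ?_, ?_⟩
  · rw [e₁, ek, hn1]
  · rw [e₂, ek, hn2]
  · rw [hf, he1, he2]
    simp

end Cfsg.Agent.helper12
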