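import Cfsg.Agent.Lib_helper12_Half05

set_option autoImplicit false
set_option linter.unusedSectionVars false

namespace Cfsg.Agent.helper12

open Matrix Cfsg
open scoped ComplexConjugate

variable {F : Type*} [Field F] [Fintype F] [DecidableEq F]

/-- S2435, second half -/
theorem sl2_half_sub_values_elliptic (hodd : Odd (Fintype.card F)) (hq : 5 ≤ Fintype.card F)
    {χ : Matrix.SpecialLinearGroup (Fin 2) F → ℂ} (hχ : IsIrrCharacter (Matrix.SpecialLinearGroup (Fin 2) F) χ)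
    (hdeg : χ 1 = (((Fintype.card F - 1) / 2 : ℕ) : ℂ)) (g : Matrix.SpecialLinearGroup (Fin 2) F)
    (hg : NoEigen2 (g : Matrix (Fin 2) (Fin 2) F)) :
    ((g : Matrix (Fin 2) (Fin 2) F) ^ ((Fintype.card F + 1) / 2) = 1 → χ g = -1) ∧
    ((g : Matrix (Fin 2) (Fin 2) F) ^ ((Fintype.card F + 1) / 2) ≠ 1 → χ g = 1) := by
  classical
  have h2 : (2 : F) ≠ 0 := two_ne_zero_of_odd_card hodd
  obtain ⟨b, hord⟩ := Cfsg.Agent.helper11.Torus.exists_orderOf_eq_of_dvd_add_one (F := F) (dvd_refl (Fintype.card F + 1))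
  have hb := sl2_noEigen_of_orderOf b hord
  obtain ⟨α, hα⟩ := exists_mulChar_negOne h2 _ (unitFun_negOne_sq (torusQuad hodd hb))
  obtain ⟨ψ₁, ψ₂, hψ₁, hψ₂, hne, e₁, e₂, hf⟩ := cuspF_torusQuad_split hodd hq α hb hord hα
  have hcard2 : Nat.card {ψ : IrrCharacter (Matrix.SpecialLinearGroup (Fin 2) F) //
      (ψ : Matrix.SpecialLinearGroup (Fin 2) F → ℂ) 1 = (((Fintype.card F - 1) / 2 : ℕ) : ℂ)} = 2 :=
    ((sl2_degrees_odd hodd).2 hq).2.2.2.2.2
  -- the other character of the same degree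
  obtain ⟨χ'', hχ'', hne'', e'', hf'⟩ : ∃ χ'' : Matrix.SpecialLinearGroup (Fin 2) F → ℂ,
      IsIrrCharacter (Matrix.SpecialLinearGroup (Fin 2) F) χ'' ∧ χ'' ≠ χ ∧
      χ'' 1 = (((Fintype.card F - 1) / 2 : ℕ) : ℂ) ∧ cuspF α (torusQuad hodd hb) = χ + χ'' := by
    by_cases h : χ = ψ₁
    · exact ⟨ψ₂, hψ₂, fun h' => hne (h.symm.trans h'.symm), e₂, by rw [hf, h]⟩
    · have := eq_of_natCard_two hcard2 (a := ⟨⟨ψ₁, hψ₁⟩, e₁⟩) (b := ⟨⟨ψ₂, hψ₂⟩, e₂⟩) (c := ⟨⟨χ, hχ⟩, hdeg⟩)
        (fun h' => hne (congrArg (fun t => (t.1 : Matrix.SpecialLinearGroup (Fin 2) F → ℂ)) h'))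
        (fun h' => h (congrArg (fun t => (t.1 : Matrix.SpecialLinearGroup (Fin 2) F → ℂ)) h').symm)
      have h2' : ψ₂ = χ := congrArg (fun t => (t.1 : Matrix.SpecialLinearGroup (Fin 2) F → ℂ)) this
      exact ⟨ψ₁, hψ₁, fun h' => h h'.symm, e₁, by rw [hf, h2', add_comm]⟩
  -- the GL2-conjugate
  have hodd' := hodd
  obtain ⟨k, hk⟩ := hodd'
  have hk2 : 2 ≤ k := by omega
  have ek : (Fintype.card F - 1) / 2 = k := by omega
  obtain ⟨X, hX, hres⟩ := sl2_exists_over hχ
  rcases hres with h | ⟨χ', hχ', hne', hsum, x, hx⟩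
  · exfalso
    have hX1 : X 1 = (k : ℂ) := by
      have := sl2Res_one X
      rw [h] at this
      rw [← this, hdeg, ek]
    have hqc : (Fintype.card F : ℂ) = ((2 * k + 1 : ℕ) : ℂ) := by rw [hk]
    rcases gl2_degree_cases hX with h' | h' | h' | h'
    · rw [hX1] at h'
      have : k = 1 := by exact_mod_cast h'
      omega
    · rw [hX1, hqc] at h'
      have : (k : ℂ) = ((2 * k : ℕ) : ℂ) := by rw [h']; push_cast; ring
      have : k = 2 * k := by exact_mod_cast this
      omega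
    · rw [hX1, hqc] at h'
      have : k = 2 * k + 1 := by exact_mod_cast h'
      omega
    · rw [hX1, hqc] at h'
      have : (k : ℂ) = ((2 * k + 2 : ℕ) : ℂ) := by rw [h']; push_cast; ring
      have : k = 2 * k + 2 := by exact_mod_cast this
      omega
  have hχ'1 : χ' 1 = χ 1 := hx 1 1 (by simp)
  have hχ'eq : χ' = χ'' := by
    have := eq_of_natCard_two hcard2 (a := ⟨⟨χ, hχ⟩, hdeg⟩) (b := ⟨⟨χ', hχ'⟩, hχ'1.trans hdeg⟩) (c := ⟨⟨χ'', hχ''⟩, e''⟩)
      (fun h' => hne' (congrArg (fun t => (t.1 : Matrix.SpecialLinearGroup (Fin 2) F → ℂ)) h').symm)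
      (fun h' => hne'' (congrArg (fun t => (t.1 : Matrix.SpecialLinearGroup (Fin 2) F → ℂ)) h').symm)
    exact congrArg (fun t => (t.1 : Matrix.SpecialLinearGroup (Fin 2) F → ℂ)) this
  have hcl := helper24.char_isClassFunction (helper24.irr_isCharacter hχ)
  -- values on the torus
  have htorus : ∀ c : Subgroup.centralizer ({b} : Set (Matrix.SpecialLinearGroup (Fin 2) F)),
      ¬ IsScalar2 ((c : Matrix.SpecialLinearGroup (Fin 2) F) : Matrix (Fin 2) (Fin 2) F) →
      χ c = - unitFun (torusQuad hodd hb) c := by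
    intro c hcs
    have hcne := noEigen2_of_mem_centralizer hb c.2 hcs
    obtain ⟨s, hs⟩ := sl2_elliptic_gl_conj hodd (c : Matrix.SpecialLinearGroup (Fin 2) F) hcne x
    have h21 : χ' c = χ c := by
      rw [hx (s⁻¹ * c * s) c hs]
      have := hcl c s⁻¹
      rw [inv_inv] at this
      exact this
    have hfc := congrFun hf' c
    rw [cuspF_torus hodd α hb _ c hcs, unitFun_torusQuad_inv, Pi.add_apply, ← hχ'eq, h21] at hfc
    linear_combination (-1 / 2 : ℂ) * hfc
  -- conjugate g into the torus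
  obtain ⟨h, hh⟩ := sl2_noEigen_conj_into hodd b g hb hg
  have hcne : NoEigen2 ((h * g * h⁻¹ : Matrix.SpecialLinearGroup (Fin 2) F) : Matrix (Fin 2) (Fin 2) F) := by
    have := (noEigen2_conj h⁻¹ g).mpr hg
    rwa [inv_inv] at this
  have hval := htorus ⟨h * g * h⁻¹, hh⟩ hcne.not_isScalar2
  rw [show χ ((⟨h * g * h⁻¹, hh⟩ : Subgroup.centralizer ({b} : Set (Matrix.SpecialLinearGroup (Fin 2) F))) : Matrix.SpecialLinearGroup (Fin 2) F)
    = χ g from hcl g h, unitFun_torusQuad] at hval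
  have hiff : (⟨h * g * h⁻¹, hh⟩ : Subgroup.centralizer ({b} : Set (Matrix.SpecialLinearGroup (Fin 2) F))) ^ ((Fintype.card F + 1) / 2) = 1
      ↔ (g : Matrix (Fin 2) (Fin 2) F) ^ ((Fintype.card F + 1) / 2) = 1 := by
    rw [← Matrix.SpecialLinearGroup.coe_pow]
    constructor
    · intro h'
      have h'' := congrArg Subtype.val h'
      rw [Subgroup.coe_pow, Subgroup.coe_one] at h''
      simp only at h''
      rw [conj_pow] at h''
      have hg1 : g ^ ((Fintype.card F + 1) / 2) = 1 := by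
        have : g ^ ((Fintype.card F + 1) / 2) = h⁻¹ * (h * g ^ ((Fintype.card F + 1) / 2) * h⁻¹) * h := by group
        rw [this, h'']
        group
      rw [hg1]
      rfl
    · intro h'
      have hg1 : g ^ ((Fintype.card F + 1) / 2) = 1 := Subtype.ext (by rw [h']; rfl)
      apply Subtype.ext
      rw [Subgroup.coe_pow, Subgroup.coe_one]
      simp only
      rw [conj_pow, hg1]
      group
  constructor
  · intro h'
    rw [if_pos (hiff.mpr h')] at hval
    exact hval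
  · intro h'
    rw [if_neg (fun h'' => h' (hiff.mp h''))] at hval
    rw [hval]
    ring

end Cfsg.Agent.helper12
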