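import Cfsg.Agent.Lib_helper12_Klein1

set_option autoImplicit false

namespace Cfsg.Agent.helper12

theorem kleinFour_mul_self {P : Type*} [Group P] (V : Subgroup P) (hV : IsKleinFour V) {x : P} (hx : x ∈ V) :
    x * x = 1 := by
  have := hV
  have h := IsKleinFour.mul_self (⟨x, hx⟩ : V)
  exact congrArg Subtype.val h

theorem kleinFour_pair_iff {P : Type*} [Group P] [Finite P] (V : Subgroup P) (hV : IsKleinFour V) (p : P × P) :
    ((orderOf p.1 = 2 ∧ orderOf p.2 = 2 ∧ p.1 ≠ p.2 ∧ p.1 * p.2 = p.2 * p.1) ∧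
      Subgroup.closure {p.1, p.2} = V) ↔
    (p.1 ∈ V ∧ p.2 ∈ V ∧ p.1 ≠ 1 ∧ p.2 ≠ 1 ∧ p.1 ≠ p.2) := by
  obtain ⟨X, Y⟩ := p
  simp only
  constructor
  · rintro ⟨⟨h1, h2, h3, h4⟩, h5⟩
    refine ⟨?_, ?_, ?_, ?_, h3⟩
    · rw [← h5]; exact Subgroup.subset_closure (by simp)
    · rw [← h5]; exact Subgroup.subset_closure (by simp)
    · rintro rfl
      rw [orderOf_one] at h1
      norm_num at h1
    · rintro rfl
      rw [orderOf_one] at h2
      norm_num at h2
  · rintro ⟨hX, hY, hX1, hY1, hXY⟩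
    have hXX := kleinFour_mul_self V hV hX
    have hYY := kleinFour_mul_self V hV hY
    have hXYXY := kleinFour_mul_self V hV (Subgroup.mul_mem _ hX hY)
    have hc : Y * X = X * Y := by
      have hXi : X⁻¹ = X := inv_eq_of_mul_eq_one_right hXX
      have hYi : Y⁻¹ = Y := inv_eq_of_mul_eq_one_right hYY
      have : (X * Y)⁻¹ = X * Y := inv_eq_of_mul_eq_one_right hXYXY
      rw [mul_inv_rev, hXi, hYi] at this
      exact this
    refine ⟨⟨?_, ?_, hXY, hc.symm⟩, ?_⟩
    · apply orderOf_eq_prime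
      · rw [sq]; exact hXX
      · exact hX1
    · apply orderOf_eq_prime
      · rw [sq]; exact hYY
      · exact hY1
    · rw [closure_pair_eq_kleinSub X Y hXX hYY hc]
      apply Subgroup.eq_of_le_of_card_ge
      · intro v hv
        rcases (mem_kleinSub X Y hXX hYY hc v).1 hv with rfl | rfl | rfl | rfl
        · exact Subgroup.one_mem _
        · exact hX
        · exact hY
        · exact Subgroup.mul_mem _ hX hY
      · rw [kleinSub_card X Y hXX hYY hc hX1 hY1 hXY, hV.card_four]

theorem kleinFour_closure_of_pair {P : Type*} [Group P] (X Y : P) (h1 : orderOf X = 2) (h2 : orderOf Y = 2)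
    (h3 : X ≠ Y) (h4 : X * Y = Y * X) : IsKleinFour (Subgroup.closure {X, Y}) := by
  have hXX : X * X = 1 := by
    have := pow_orderOf_eq_one X
    rw [h1, sq] at this
    exact this
  have hYY : Y * Y = 1 := by
    have := pow_orderOf_eq_one Y
    rw [h2, sq] at this
    exact this
  have hX1 : X ≠ 1 := by
    rintro rfl
    rw [orderOf_one] at h1
    norm_num at h1
  have hY1 : Y ≠ 1 := by
    rintro rfl
    rw [orderOf_one] at h2
    norm_num at h2
  rw [closure_pair_eq_kleinSub X Y hXX hYY h4.symm]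
  exact kleinSub_isKleinFour X Y hXX hYY h4.symm hX1 hY1 h3

theorem kleinFour_pairs_card {P : Type*} [Group P] [Fintype P] [DecidableEq P] (V : Subgroup P)
    [DecidablePred (· ∈ V)] (hV : IsKleinFour V) :
    (Finset.univ.filter (fun p : P × P => p.1 ∈ V ∧ p.2 ∈ V ∧ p.1 ≠ 1 ∧ p.2 ≠ 1 ∧ p.1 ≠ p.2)).card = 6 := by
  have hcard : (Finset.univ.filter (fun x : P => x ∈ V)).card = 4 := by
    rw [← hV.card_four, Nat.card_eq_fintype_card, Fintype.card_subtype]
  have h3 : ((Finset.univ.filter (fun x : P => x ∈ V)).erase 1).card = 3 := by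
    rw [Finset.card_erase_of_mem, hcard]
    rw [Finset.mem_filter]
    exact ⟨Finset.mem_univ _, Subgroup.one_mem _⟩
  have heq : Finset.univ.filter (fun p : P × P => p.1 ∈ V ∧ p.2 ∈ V ∧ p.1 ≠ 1 ∧ p.2 ≠ 1 ∧ p.1 ≠ p.2) =
      ((Finset.univ.filter (fun x : P => x ∈ V)).erase 1).offDiag := by
    ext p
    simp only [Finset.mem_filter, Finset.mem_univ, true_and, Finset.mem_offDiag, Finset.mem_erase]
    tauto
  rw [heq, Finset.offDiag_card, h3]

theorem kleinFour_count {P : Type*} [Group P] [Finite P] :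
    6 * Nat.card {V : Subgroup P // IsKleinFour V} =
      Nat.card {p : P × P // orderOf p.1 = 2 ∧ orderOf p.2 = 2 ∧ p.1 ≠ p.2 ∧ p.1 * p.2 = p.2 * p.1} := by
  classical
  haveI := Fintype.ofFinite P
  haveI : Fintype (Subgroup P) := Fintype.ofFinite _
  rw [Nat.card_eq_fintype_card, Nat.card_eq_fintype_card, Fintype.card_subtype, Fintype.card_subtype]
  rw [Finset.card_eq_sum_card_fiberwise (f := fun p : P × P => Subgroup.closure {p.1, p.2})
    (t := Finset.univ.filter (fun V : Subgroup P => IsKleinFour V))]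
  · rw [Finset.sum_const_nat (m := 6)]
    · ring
    · intro V hV
      rw [Finset.mem_filter] at hV
      rw [← kleinFour_pairs_card V hV.2]
      congr 1
      ext p
      simp only [Finset.mem_filter, Finset.mem_univ, true_and]
      exact kleinFour_pair_iff V hV.2 p
  · intro p hp
    rw [Finset.mem_coe, Finset.mem_filter] at hp
    rw [Finset.mem_coe, Finset.mem_filter]
    exact ⟨Finset.mem_univ _, kleinFour_closure_of_pair p.1 p.2 hp.2.1 hp.2.2.1 hp.2.2.2.1 hp.2.2.2.2⟩

end Cfsg.Agent.helper12
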