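import Cfsg.Agent.Lib_helper12_OrdFour

set_option autoImplicit false
set_option linter.unusedSectionVars false

namespace Cfsg.Agent.helper12

open Matrix Cfsg

variable {F : Type*} [Field F] [Fintype F]

/-- lifting an involution of PSL2 to an element of SL2 with square -1 -/
theorem psl2_involution_lift (hodd : Odd (Fintype.card F)) (X : Matrix.ProjectiveSpecialLinearGroup (Fin 2) F)
    (hX : orderOf X = 2) :
    ∃ x : Matrix.SpecialLinearGroup (Fin 2) F,
      (QuotientGroup.mk x : Matrix.ProjectiveSpecialLinearGroup (Fin 2) F) = X ∧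
      (x : Matrix (Fin 2) (Fin 2) F) * (x : Matrix (Fin 2) (Fin 2) F) = -1 := by
  classical
  have h2 : (2 : F) ≠ 0 := two_ne_zero_of_odd_card hodd
  obtain ⟨x, rfl⟩ := QuotientGroup.mk_surjective X
  refine ⟨x, rfl, ?_⟩
  have h1 : (QuotientGroup.mk x : Matrix.ProjectiveSpecialLinearGroup (Fin 2) F) ^ 2 = 1 := by
    have := pow_orderOf_eq_one (QuotientGroup.mk x : Matrix.ProjectiveSpecialLinearGroup (Fin 2) F)
    rw [hX] at this
    exact this
  have hne : (QuotientGroup.mk x : Matrix.ProjectiveSpecialLinearGroup (Fin 2) F) ≠ 1 := by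
    intro h
    rw [h, orderOf_one] at hX
    norm_num at hX
  have hxc : x ∉ Subgroup.center (Matrix.SpecialLinearGroup (Fin 2) F) := by
    intro h
    apply hne
    exact (QuotientGroup.eq_one_iff x).mpr h
  have hsq : x * x ∈ Subgroup.center (Matrix.SpecialLinearGroup (Fin 2) F) := by
    rw [← QuotientGroup.eq_one_iff, ← sq]
    exact h1
  rcases sl2_eq_of_mem_center _ hsq with h | h
  · exfalso
    apply hxc
    rcases sl2_sq_eq_one h2 h with h' | h'
    · have : x = 1 := Subtype.ext h'
      rw [this]; exact Subgroup.one_mem _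
    · have : x = sl2NegOne := Subtype.ext (by rw [h', sl2NegOne_coe])
      rw [this]; exact sl2NegOne_mem_center
  · rw [← Matrix.SpecialLinearGroup.coe_mul, h, sl2NegOne_coe]

theorem psl2_involutions_conj (hodd : Odd (Fintype.card F)) (X Y : Matrix.ProjectiveSpecialLinearGroup (Fin 2) F)
    (hX : orderOf X = 2) (hY : orderOf Y = 2) : IsConj X Y := by
  obtain ⟨x, rfl, hx⟩ := psl2_involution_lift hodd X hX
  obtain ⟨y, rfl, hy⟩ := psl2_involution_lift hodd Y hY
  have := sl2_isConj_of_sq_neg_one hodd hx hy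
  exact MonoidHom.map_isConj (QuotientGroup.mk' (Subgroup.center (Matrix.SpecialLinearGroup (Fin 2) F))) this

theorem sl2_order_four_main (hodd : Odd (Fintype.card F)) (A : Subgroup (Matrix.SpecialLinearGroup (Fin 2) F))
    (hA : Nat.card A = 4) :
    (∀ B : Subgroup (Matrix.SpecialLinearGroup (Fin 2) F), Nat.card B = 4 →
      ∃ g : Matrix.SpecialLinearGroup (Fin 2) F, B = A.map (MulAut.conj g).toMonoidHom) ∧
    (Fintype.card F % 4 = 1 → Nat.card ↥(Subgroup.normalizer (A : Set (Matrix.SpecialLinearGroup (Fin 2) F))) = 2 * (Fintype.card F - 1)) ∧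
    (Fintype.card F % 4 = 3 → Nat.card ↥(Subgroup.normalizer (A : Set (Matrix.SpecialLinearGroup (Fin 2) F))) = 2 * (Fintype.card F + 1)) := by
  obtain ⟨x, hxA, hx, hAx⟩ := sl2_order_four_of_card_four hodd A hA
  have hD := sl2_trace_sq_ne_of_sq_neg_one hodd hx
  have hN : Nat.card (Subgroup.normalizer (A : Set (Matrix.SpecialLinearGroup (Fin 2) F))) =
      2 * Nat.card (Subgroup.centralizer ({x} : Set (Matrix.SpecialLinearGroup (Fin 2) F))) := by
    rw [hAx, sl2_normalizer_zpowers_eq hodd hx]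
    exact (sl2_torus_normalizer_facts hodd x hD).1
  refine ⟨?_, ?_, ?_⟩
  · intro B hB
    obtain ⟨y, hyB, hy, hBy⟩ := sl2_order_four_of_card_four hodd B hB
    obtain ⟨c, hc⟩ := isConj_iff.mp (sl2_isConj_of_sq_neg_one hodd hx hy)
    refine ⟨c, ?_⟩
    rw [hBy, hAx, MonoidHom.map_zpowers]
    congr 1
    rw [← hc]
    rfl
  · intro h4
    rw [hN, card_sl2_centralizer_sq_neg_one_split hodd h4 hx]
  · intro h4
    rw [hN, card_sl2_centralizer_sq_neg_one_nonsplit hodd h4 hx]

end Cfsg.Agent.helper12
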