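import Cfsg.Agent.Lib_helper12_Klein2
import Cfsg.Agent.Lib_helper12_OrdFour2

set_option autoImplicit false
set_option linter.unusedSectionVars false

namespace Cfsg.Agent.helper12

open Matrix Cfsg

theorem natCard_preimage_of_fibers {α β : Type*} [Finite α] [Finite β] (f : α → β) (k : ℕ)
    (h : ∀ b, Nat.card {a // f a = b} = k) (S : β → Prop) :
    Nat.card {a // S (f a)} = k * Nat.card {b // S b} := by
  apply natCard_eq_mul_of_fibers (fun a : {a // S (f a)} => (⟨f a.1, a.2⟩ : {b // S b}))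
  rintro ⟨b, hb⟩
  rw [← h b]
  apply Nat.card_congr
  refine ⟨fun a' => ⟨a'.1.1, congrArg Subtype.val a'.2⟩, fun a => ⟨⟨a.1, by rw [a.2]; exact hb⟩, Subtype.ext a.2⟩, ?_, ?_⟩
  · intro a'
    rfl
  · intro a
    rfl

theorem card_transporter {G : Type*} [Group G] (a b : G) (h : IsConj a b) :
    Nat.card {g : G // g * a * g⁻¹ = b} = Nat.card (Subgroup.centralizer ({a} : Set G)) := by
  obtain ⟨g₀, hg₀⟩ := isConj_iff.mp h
  symm
  apply Nat.card_congr
  refine ⟨fun c => ⟨g₀ * c.1, ?_⟩, fun g => ⟨g₀⁻¹ * g.1, ?_⟩, ?_, ?_⟩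
  · have hc := Subgroup.mem_centralizer_singleton_iff.mp c.2
    rw [← hg₀]
    calc g₀ * ↑c * a * (g₀ * ↑c)⁻¹ = g₀ * (↑c * a) * (↑c)⁻¹ * g₀⁻¹ := by group
      _ = g₀ * (a * ↑c) * (↑c)⁻¹ * g₀⁻¹ := by rw [hc]
      _ = g₀ * a * g₀⁻¹ := by group
  · rw [Subgroup.mem_centralizer_singleton_iff]
    obtain ⟨g, hg⟩ := g
    simp only
    have e1 : g₀⁻¹ * b * g₀ = a := by rw [← hg₀]; group
    have e2 : g⁻¹ * b * g = a := by rw [← hg]; group
    calc g₀⁻¹ * g * a = g₀⁻¹ * g * (g⁻¹ * b * g) := by rw [e2]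
      _ = (g₀⁻¹ * b * g₀) * (g₀⁻¹ * g) := by group
      _ = a * (g₀⁻¹ * g) := by rw [e1]
  · intro c
    apply Subtype.ext
    simp only
    group
  · intro g
    apply Subtype.ext
    simp only
    group

theorem card_fiber_mk {G : Type*} [Group G] (N : Subgroup G) [N.Normal] (X : G ⧸ N) :
    Nat.card {g : G // (g : G ⧸ N) = X} = Nat.card N := by
  obtain ⟨g₀, rfl⟩ := QuotientGroup.mk_surjective X
  symm
  apply Nat.card_congr
  refine ⟨fun n => ⟨g₀ * n.1, ?_⟩, fun g => ⟨g₀⁻¹ * g.1, ?_⟩, ?_, ?_⟩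
  · rw [QuotientGroup.mk_mul, (QuotientGroup.eq_one_iff n.1).mpr n.2, mul_one]
  · have := g.2
    rw [← QuotientGroup.eq_one_iff, QuotientGroup.mk_mul, QuotientGroup.mk_inv, this, inv_mul_cancel]
  · intro n
    apply Subtype.ext
    simp only
    group
  · intro g
    apply Subtype.ext
    simp only
    group

theorem card_pair_fiber_mk {G : Type*} [Group G] (N : Subgroup G) [N.Normal] (Z : (G ⧸ N) × (G ⧸ N)) :
    Nat.card {p : G × G // ((p.1 : G ⧸ N), (p.2 : G ⧸ N)) = Z} = Nat.card N * Nat.card N := by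
  obtain ⟨X, Y⟩ := Z
  have e : {p : G × G // ((p.1 : G ⧸ N), (p.2 : G ⧸ N)) = (X, Y)} ≃
      {g : G // (g : G ⧸ N) = X} × {g : G // (g : G ⧸ N) = Y} :=
    (Equiv.subtypeEquivRight (fun p => by rw [Prod.mk.injEq])).trans
      (Equiv.subtypeProdEquivProd (p := fun g : G => (g : G ⧸ N) = X) (q := fun g : G => (g : G ⧸ N) = Y))
  rw [Nat.card_congr e, Nat.card_prod, card_fiber_mk, card_fiber_mk]

end Cfsg.Agent.helper12
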