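import Cfsg.Agent.Lib_helper12_Klein3

set_option autoImplicit false
set_option linter.unusedSectionVars false

namespace Cfsg.Agent.helper12

open Matrix Cfsg

variable {F : Type*} [Field F] [Fintype F]

theorem sl2_mul_self_eq_negOne_iff (x : Matrix.SpecialLinearGroup (Fin 2) F) :
    x * x = sl2NegOne ↔ (x : Matrix (Fin 2) (Fin 2) F) * (x : Matrix (Fin 2) (Fin 2) F) = -1 := by
  constructor
  · intro h
    rw [← Matrix.SpecialLinearGroup.coe_mul, h, sl2NegOne_coe]
  · intro h
    apply Subtype.ext
    rw [Matrix.SpecialLinearGroup.coe_mul, h, sl2NegOne_coe]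

theorem sl2_inv_of_mul_self {x : Matrix.SpecialLinearGroup (Fin 2) F} (hx : x * x = sl2NegOne) :
    x⁻¹ = sl2NegOne * x := by
  rw [inv_eq_iff_mul_eq_one]
  have hc : x * sl2NegOne = sl2NegOne * x := Subgroup.mem_center_iff.mp sl2NegOne_mem_center x
  calc x * (sl2NegOne * x) = (x * sl2NegOne) * x := by group
    _ = sl2NegOne * (x * x) := by rw [hc]; group
    _ = 1 := by rw [hx, sl2NegOne_mul_self]

theorem sl2_mk_negOne :
    (QuotientGroup.mk (sl2NegOne : Matrix.SpecialLinearGroup (Fin 2) F) : Matrix.ProjectiveSpecialLinearGroup (Fin 2) F) = 1 :=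
  (QuotientGroup.eq_one_iff _).mpr sl2NegOne_mem_center

theorem sl2_mul_self_of_mem_center (h2 : (2 : F) ≠ 0) {x : Matrix.SpecialLinearGroup (Fin 2) F}
    (hx : x ∈ Subgroup.center (Matrix.SpecialLinearGroup (Fin 2) F)) : x * x = 1 := by
  classical
  rcases sl2_eq_of_mem_center x hx with rfl | rfl
  · rw [one_mul]
  · exact sl2NegOne_mul_self

theorem sl2_mem_center_of_mul_self (h2 : (2 : F) ≠ 0) {x : Matrix.SpecialLinearGroup (Fin 2) F}
    (hx : x * x = 1) : x ∈ Subgroup.center (Matrix.SpecialLinearGroup (Fin 2) F) := by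
  rcases sl2_sq_eq_one h2 hx with h' | h'
  · have : x = 1 := Subtype.ext h'
    rw [this]; exact Subgroup.one_mem _
  · have : x = sl2NegOne := Subtype.ext (by rw [h', sl2NegOne_coe])
    rw [this]; exact sl2NegOne_mem_center

theorem psl2_orderOf_two_iff (hodd : Odd (Fintype.card F)) (x : Matrix.SpecialLinearGroup (Fin 2) F) :
    orderOf (QuotientGroup.mk x : Matrix.ProjectiveSpecialLinearGroup (Fin 2) F) = 2 ↔ x * x = sl2NegOne := by
  classical
  have h2 : (2 : F) ≠ 0 := two_ne_zero_of_odd_card hodd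
  constructor
  · intro hX
    have h1 : (QuotientGroup.mk x : Matrix.ProjectiveSpecialLinearGroup (Fin 2) F) ^ 2 = 1 := by
      have := pow_orderOf_eq_one (QuotientGroup.mk x : Matrix.ProjectiveSpecialLinearGroup (Fin 2) F)
      rw [hX] at this
      exact this
    have hne : (QuotientGroup.mk x : Matrix.ProjectiveSpecialLinearGroup (Fin 2) F) ≠ 1 := by
      intro h
      rw [h, orderOf_one] at hX
      norm_num at hX
    have hxc : x ∉ Subgroup.center (Matrix.SpecialLinearGroup (Fin 2) F) := by
      intro h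
      apply hne
      exact (QuotientGroup.eq_one_iff x).mpr h
    have hsq : x * x ∈ Subgroup.center (Matrix.SpecialLinearGroup (Fin 2) F) := by
      rw [← QuotientGroup.eq_one_iff, ← sq]
      exact h1
    rcases sl2_eq_of_mem_center _ hsq with h | h
    · exfalso
      exact hxc (sl2_mem_center_of_mul_self h2 h)
    · exact h
  · intro hx
    apply orderOf_eq_prime
    · rw [sq, ← QuotientGroup.mk_mul, hx]
      exact sl2_mk_negOne
    · intro h
      have hc := (QuotientGroup.eq_one_iff x).mp h
      have := sl2_mul_self_of_mem_center h2 hc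
      rw [hx] at this
      exact sl2NegOne_ne_one h2 this

theorem psl2_pair_iff (hodd : Odd (Fintype.card F)) (x y : Matrix.SpecialLinearGroup (Fin 2) F) :
    (orderOf (QuotientGroup.mk x : Matrix.ProjectiveSpecialLinearGroup (Fin 2) F) = 2 ∧
      orderOf (QuotientGroup.mk y : Matrix.ProjectiveSpecialLinearGroup (Fin 2) F) = 2 ∧
      (QuotientGroup.mk x : Matrix.ProjectiveSpecialLinearGroup (Fin 2) F) ≠ QuotientGroup.mk y ∧
      (QuotientGroup.mk x : Matrix.ProjectiveSpecialLinearGroup (Fin 2) F) * QuotientGroup.mk y =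
        QuotientGroup.mk y * QuotientGroup.mk x) ↔
    (x * x = sl2NegOne ∧ y * x * y⁻¹ = x⁻¹) := by
  classical
  have h2 : (2 : F) ≠ 0 := two_ne_zero_of_odd_card hodd
  rw [psl2_orderOf_two_iff hodd, psl2_orderOf_two_iff hodd]
  constructor
  · rintro ⟨hx, hy, hne, hc⟩
    refine ⟨hx, ?_⟩
    have hz : y * x * y⁻¹ * x⁻¹ ∈ Subgroup.center (Matrix.SpecialLinearGroup (Fin 2) F) := by
      rw [← QuotientGroup.eq_one_iff]
      rw [QuotientGroup.mk_mul, QuotientGroup.mk_mul, QuotientGroup.mk_mul, QuotientGroup.mk_inv, QuotientGroup.mk_inv,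
        ← hc]
      group
    rcases sl2_eq_of_mem_center _ hz with h | h
    · exfalso
      apply hne
      have hcomm : y * x = x * y := by
        calc y * x = (y * x * y⁻¹ * x⁻¹) * (x * y) := by group
          _ = x * y := by rw [h, one_mul]
      have hcomm' : x⁻¹ * y = y * x⁻¹ := by
        calc x⁻¹ * y = x⁻¹ * (y * x) * x⁻¹ := by group
          _ = x⁻¹ * (x * y) * x⁻¹ := by rw [hcomm]
          _ = y * x⁻¹ := by group
      have ht : (y * x⁻¹) * (y * x⁻¹) = 1 := by
        calc (y * x⁻¹) * (y * x⁻¹) = y * (x⁻¹ * y) * x⁻¹ := by group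
          _ = y * (y * x⁻¹) * x⁻¹ := by rw [hcomm']
          _ = (y * y) * (x * x)⁻¹ := by group
          _ = 1 := by rw [hx, hy, mul_inv_cancel]
      have htc := sl2_mem_center_of_mul_self h2 ht
      have h1 : (QuotientGroup.mk (y * x⁻¹) : Matrix.ProjectiveSpecialLinearGroup (Fin 2) F) = 1 :=
        (QuotientGroup.eq_one_iff _).mpr htc
      rw [QuotientGroup.mk_mul, QuotientGroup.mk_inv, mul_inv_eq_one] at h1
      exact h1.symm
    · rw [sl2_inv_of_mul_self hx, ← h]
      group
  · rintro ⟨hx, hw⟩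
    have hxm := (sl2_mul_self_eq_negOne_iff x).mp hx
    have hD := sl2_trace_sq_ne_of_sq_neg_one hodd hxm
    have hns := sl2_not_isScalar2_of_disc x hD
    have hnc : y ∉ Subgroup.centralizer ({x} : Set (Matrix.SpecialLinearGroup (Fin 2) F)) := by
      intro hyc
      have h1 := sl2_mem_centralizer_singleton.mp hyc
      have h3 : x⁻¹ = x := by
        rw [← hw, ← h1]; group
      have h4 : x * x = 1 := by
        calc x * x = x⁻¹ * x := by rw [h3]
          _ = 1 := by group
      rw [hx] at h4
      exact sl2NegOne_ne_one h2 h4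
    have hy : y * y = sl2NegOne := by
      rw [sl2_mul_self_eq_negOne_iff, ← Matrix.SpecialLinearGroup.coe_mul]
      exact (sl2_torus_normalizer_facts hodd x hD).2.2 y (sl2_inverting_mem_normalizer hns hw) hnc
    refine ⟨hx, hy, ?_, ?_⟩
    · intro h
      apply hnc
      have h1 : (QuotientGroup.mk (x⁻¹ * y) : Matrix.ProjectiveSpecialLinearGroup (Fin 2) F) = 1 := by
        rw [QuotientGroup.mk_mul, QuotientGroup.mk_inv, h, inv_mul_cancel]
      have hc := (QuotientGroup.eq_one_iff _).mp h1
      have hc' := Subgroup.mem_center_iff.mp hc x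
      rw [sl2_mem_centralizer_singleton]
      calc x * y = x * (x * (x⁻¹ * y)) * x⁻¹ * x := by group
        _ = x * ((x⁻¹ * y) * x) * x⁻¹ * x := by rw [hc']
        _ = y * x := by group
    · have h1 : (QuotientGroup.mk x : Matrix.ProjectiveSpecialLinearGroup (Fin 2) F)⁻¹ = QuotientGroup.mk x := by
        rw [inv_eq_iff_mul_eq_one, ← QuotientGroup.mk_mul, hx]
        exact sl2_mk_negOne
      have h3 : (QuotientGroup.mk y : Matrix.ProjectiveSpecialLinearGroup (Fin 2) F) * QuotientGroup.mk x *
          (QuotientGroup.mk y)⁻¹ = QuotientGroup.mk x := by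
        rw [← QuotientGroup.mk_inv, ← QuotientGroup.mk_mul, ← QuotientGroup.mk_mul, hw, QuotientGroup.mk_inv, h1]
      calc (QuotientGroup.mk x : Matrix.ProjectiveSpecialLinearGroup (Fin 2) F) * QuotientGroup.mk y
          = ((QuotientGroup.mk y : Matrix.ProjectiveSpecialLinearGroup (Fin 2) F) * QuotientGroup.mk x *
          (QuotientGroup.mk y)⁻¹) * QuotientGroup.mk y := by rw [h3]
        _ = QuotientGroup.mk y * QuotientGroup.mk x := by group

end Cfsg.Agent.helper12
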