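import Cfsg.Agent.Lib_helper12_Klein4

set_option autoImplicit false
set_option linter.unusedSectionVars false

namespace Cfsg.Agent.helper12

open Matrix Cfsg

variable {F : Type*} [Field F] [Fintype F]

/-- an element of order four -/
def sl2Quarter : Matrix.SpecialLinearGroup (Fin 2) F := ⟨!![0, 1; -1, 0], by simp [Matrix.det_fin_two]⟩

theorem sl2Quarter_mul_self : (sl2Quarter : Matrix.SpecialLinearGroup (Fin 2) F) * sl2Quarter = sl2NegOne := by
  apply Subtype.ext
  rw [Matrix.SpecialLinearGroup.coe_mul, sl2NegOne_coe]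
  simp only [sl2Quarter]
  ext i j
  fin_cases i <;> fin_cases j <;> simp [Matrix.mul_apply, Fin.sum_univ_two]

theorem card_sl2_center (h2 : (2 : F) ≠ 0) :
    Nat.card (Subgroup.center (Matrix.SpecialLinearGroup (Fin 2) F)) = 2 := by
  classical
  rw [Nat.card_eq_two_iff]
  refine ⟨⟨1, Subgroup.one_mem _⟩, ⟨sl2NegOne, sl2NegOne_mem_center⟩, ?_, ?_⟩
  · intro h
    exact sl2NegOne_ne_one h2 (congrArg Subtype.val h).symm
  · ext z
    simp only [Set.mem_insert_iff, Set.mem_singleton_iff, Set.mem_univ, iff_true]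
    rcases sl2_eq_of_mem_center z.1 z.2 with h | h
    · left; exact Subtype.ext h
    · right; exact Subtype.ext h

theorem sl2_card_pairs (hodd : Odd (Fintype.card F)) :
    Nat.card {p : Matrix.SpecialLinearGroup (Fin 2) F × Matrix.SpecialLinearGroup (Fin 2) F //
      p.1 * p.1 = sl2NegOne ∧ p.2 * p.1 * p.2⁻¹ = p.1⁻¹} = Nat.card (Matrix.SpecialLinearGroup (Fin 2) F) := by
  classical
  have h2 : (2 : F) ≠ 0 := two_ne_zero_of_odd_card hodd
  have hx₀ : (sl2Quarter : Matrix.SpecialLinearGroup (Fin 2) F) * sl2Quarter = sl2NegOne := sl2Quarter_mul_self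
  have e1 : {p : Matrix.SpecialLinearGroup (Fin 2) F × Matrix.SpecialLinearGroup (Fin 2) F //
      p.1 * p.1 = sl2NegOne ∧ p.2 * p.1 * p.2⁻¹ = p.1⁻¹} ≃
      Σ a : Matrix.SpecialLinearGroup (Fin 2) F, {y : Matrix.SpecialLinearGroup (Fin 2) F // a * a = sl2NegOne ∧ y * a * y⁻¹ = a⁻¹} :=
    Equiv.subtypeProdEquivSigmaSubtype (fun a y : Matrix.SpecialLinearGroup (Fin 2) F => a * a = sl2NegOne ∧ y * a * y⁻¹ = a⁻¹)
  have e2 : Matrix.SpecialLinearGroup (Fin 2) F ≃
      Σ a : Matrix.SpecialLinearGroup (Fin 2) F, {g : Matrix.SpecialLinearGroup (Fin 2) F // g * sl2Quarter * g⁻¹ = a} :=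
    (Equiv.sigmaFiberEquiv (fun g : Matrix.SpecialLinearGroup (Fin 2) F => g * sl2Quarter * g⁻¹)).symm
  rw [Nat.card_congr e1, Nat.card_congr e2, Nat.card_sigma, Nat.card_sigma]
  apply Finset.sum_congr rfl
  intro a _
  by_cases ha : a * a = sl2NegOne
  · have ham := (sl2_mul_self_eq_negOne_iff a).mp ha
    have hx₀m := (sl2_mul_self_eq_negOne_iff (sl2Quarter : Matrix.SpecialLinearGroup (Fin 2) F)).mp hx₀
    have hD := sl2_trace_sq_ne_of_sq_neg_one hodd ham
    have hconj : IsConj (sl2Quarter : Matrix.SpecialLinearGroup (Fin 2) F) a := sl2_isConj_of_sq_neg_one hodd hx₀m ham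
    have hinv : IsConj a a⁻¹ := by
      obtain ⟨w, hw⟩ := sl2_exists_inverting hodd a hD
      exact isConj_iff.mpr ⟨w, hw⟩
    have h3 : Nat.card {y : Matrix.SpecialLinearGroup (Fin 2) F // a * a = sl2NegOne ∧ y * a * y⁻¹ = a⁻¹} =
        Nat.card {y : Matrix.SpecialLinearGroup (Fin 2) F // y * a * y⁻¹ = a⁻¹} :=
      Nat.card_congr (Equiv.subtypeEquivRight (fun y => by simp [ha]))
    rw [h3, card_transporter a a⁻¹ hinv, card_transporter _ a hconj, card_centralizer_of_isConj hconj]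
  · haveI : IsEmpty {y : Matrix.SpecialLinearGroup (Fin 2) F // a * a = sl2NegOne ∧ y * a * y⁻¹ = a⁻¹} :=
      ⟨fun y => ha y.2.1⟩
    haveI : IsEmpty {g : Matrix.SpecialLinearGroup (Fin 2) F // g * sl2Quarter * g⁻¹ = a} := by
      refine ⟨fun g => ha ?_⟩
      have hx₀m := (sl2_mul_self_eq_negOne_iff (sl2Quarter : Matrix.SpecialLinearGroup (Fin 2) F)).mp hx₀
      have := sl2_conj_sq_neg_one g.1 hx₀m
      rw [g.2] at this
      exact (sl2_mul_self_eq_negOne_iff a).mpr this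
    rw [Nat.card_of_isEmpty, Nat.card_of_isEmpty]

theorem psl2_kleinFour_count (hodd : Odd (Fintype.card F)) :
    12 * Nat.card {V : Subgroup (Matrix.ProjectiveSpecialLinearGroup (Fin 2) F) // IsKleinFour V} =
      Nat.card (Matrix.ProjectiveSpecialLinearGroup (Fin 2) F) := by
  classical
  have h2 : (2 : F) ≠ 0 := two_ne_zero_of_odd_card hodd
  haveI : Finite (Matrix.ProjectiveSpecialLinearGroup (Fin 2) F) := by
    unfold Matrix.ProjectiveSpecialLinearGroup; infer_instance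
  have hK := kleinFour_count (P := Matrix.ProjectiveSpecialLinearGroup (Fin 2) F)
  have h1 := natCard_preimage_of_fibers
    (fun p : Matrix.SpecialLinearGroup (Fin 2) F × Matrix.SpecialLinearGroup (Fin 2) F =>
      (((QuotientGroup.mk p.1 : Matrix.ProjectiveSpecialLinearGroup (Fin 2) F),
        (QuotientGroup.mk p.2 : Matrix.ProjectiveSpecialLinearGroup (Fin 2) F))))
    (Nat.card (Subgroup.center (Matrix.SpecialLinearGroup (Fin 2) F)) * Nat.card (Subgroup.center (Matrix.SpecialLinearGroup (Fin 2) F)))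
    (fun b => card_pair_fiber_mk (Subgroup.center (Matrix.SpecialLinearGroup (Fin 2) F)) b)
    (fun p => orderOf p.1 = 2 ∧ orderOf p.2 = 2 ∧ p.1 ≠ p.2 ∧ p.1 * p.2 = p.2 * p.1)
  have h3 : Nat.card {a : Matrix.SpecialLinearGroup (Fin 2) F × Matrix.SpecialLinearGroup (Fin 2) F //
      orderOf (QuotientGroup.mk a.1 : Matrix.ProjectiveSpecialLinearGroup (Fin 2) F) = 2 ∧
      orderOf (QuotientGroup.mk a.2 : Matrix.ProjectiveSpecialLinearGroup (Fin 2) F) = 2 ∧
      (QuotientGroup.mk a.1 : Matrix.ProjectiveSpecialLinearGroup (Fin 2) F) ≠ QuotientGroup.mk a.2 ∧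
      (QuotientGroup.mk a.1 : Matrix.ProjectiveSpecialLinearGroup (Fin 2) F) * QuotientGroup.mk a.2 =
        QuotientGroup.mk a.2 * QuotientGroup.mk a.1} =
      Nat.card {p : Matrix.SpecialLinearGroup (Fin 2) F × Matrix.SpecialLinearGroup (Fin 2) F //
      p.1 * p.1 = sl2NegOne ∧ p.2 * p.1 * p.2⁻¹ = p.1⁻¹} :=
    Nat.card_congr (Equiv.subtypeEquivRight (fun p => psl2_pair_iff hodd p.1 p.2))
  have h4 := sl2_card_pairs hodd
  have h5 : Nat.card (Matrix.SpecialLinearGroup (Fin 2) F) =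
      Nat.card (Matrix.ProjectiveSpecialLinearGroup (Fin 2) F) * Nat.card (Subgroup.center (Matrix.SpecialLinearGroup (Fin 2) F)) :=
    Subgroup.card_eq_card_quotient_mul_card_subgroup _
  rw [card_sl2_center h2] at h1 h5
  simp only at h1
  rw [h3, h4, h5] at h1
  rw [← hK] at h1
  omega

end Cfsg.Agent.helper12
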