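import Cfsg.Agent.Lib_helper12_Klein2

set_option autoImplicit false

namespace Cfsg.Agent.helper12

/-- simultaneous conjugacy of pairs -/
def PairConj {P : Type*} [Group P] (p p' : P × P) : Prop :=
  ∃ g : P, g * p.1 * g⁻¹ = p'.1 ∧ g * p.2 * g⁻¹ = p'.2

theorem PairConj.refl {P : Type*} [Group P] (p : P × P) : PairConj p p :=
  ⟨1, by simp, by simp⟩

theorem PairConj.symm {P : Type*} [Group P] {p p' : P × P} (h : PairConj p p') : PairConj p' p := by
  obtain ⟨g, h1, h2⟩ := h
  refine ⟨g⁻¹, ?_, ?_⟩
  · rw [← h1]; group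
  · rw [← h2]; group

theorem PairConj.trans {P : Type*} [Group P] {p p' p'' : P × P} (h : PairConj p p') (h' : PairConj p' p'') :
    PairConj p p'' := by
  obtain ⟨g, h1, h2⟩ := h
  obtain ⟨g', h1', h2'⟩ := h'
  refine ⟨g' * g, ?_, ?_⟩
  · rw [← h1', ← h1]; group
  · rw [← h2', ← h2]; group

theorem PairConj.swap {P : Type*} [Group P] {A B A' B' : P} (h : PairConj (A, B) (A', B')) :
    PairConj (B, A) (B', A') := by
  obtain ⟨g, h1, h2⟩ := h
  exact ⟨g, h2, h1⟩

/-- a pair of distinct commuting involutions -/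
def InvPair {P : Type*} [Group P] (p : P × P) : Prop :=
  orderOf p.1 = 2 ∧ orderOf p.2 = 2 ∧ p.1 ≠ p.2 ∧ p.1 * p.2 = p.2 * p.1

theorem mul_self_of_orderOf_two {P : Type*} [Group P] {A : P} (h : orderOf A = 2) : A * A = 1 := by
  have := pow_orderOf_eq_one A
  rw [h, sq] at this
  exact this

theorem ne_one_of_orderOf_two {P : Type*} [Group P] {A : P} (h : orderOf A = 2) : A ≠ 1 := by
  rintro rfl
  rw [orderOf_one] at h
  norm_num at h

theorem orderOf_two_of_mul_self {P : Type*} [Group P] {A : P} (h : A * A = 1) (h1 : A ≠ 1) : orderOf A = 2 := by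
  apply orderOf_eq_prime
  · rw [sq]; exact h
  · exact h1

theorem InvPair.swap {P : Type*} [Group P] {A B : P} (h : InvPair (A, B)) : InvPair (B, A) :=
  ⟨h.2.1, h.1, fun e => h.2.2.1 e.symm, h.2.2.2.symm⟩

theorem InvPair.tau {P : Type*} [Group P] {A B : P} (h : InvPair (A, B)) : InvPair (A, A * B) := by
  obtain ⟨h1, h2, h3, h4⟩ := h
  simp only at h1 h2 h3 h4
  have hA := mul_self_of_orderOf_two h1
  have hB := mul_self_of_orderOf_two h2
  refine ⟨h1, ?_, ?_, ?_⟩
  · apply orderOf_two_of_mul_self
    · calc A * B * (A * B) = A * (B * A) * B := by group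
        _ = A * (A * B) * B := by rw [← h4]
        _ = (A * A) * (B * B) := by group
        _ = 1 := by rw [hA, hB, one_mul]
    · intro h
      simp only at h
      apply h3
      calc A = (A * B) * B := by rw [mul_assoc, hB, mul_one]
        _ = B := by rw [h, one_mul]
  · intro h
    simp only at h
    apply ne_one_of_orderOf_two h2
    have : A * 1 = A * B := by rw [mul_one]; exact h
    exact (mul_left_cancel this).symm
  · simp only
    rw [← mul_assoc, hA, one_mul, mul_assoc, ← h4, ← mul_assoc, hA, one_mul]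

theorem pairConj_of_same_closure {P : Type*} [Group P]
    (hτ : ∀ A B : P, InvPair (A, B) → PairConj (A, B) (A, A * B)) {A B A' B' : P}
    (h : InvPair (A, B)) (h' : InvPair (A', B'))
    (hcl : Subgroup.closure {A', B'} = Subgroup.closure {A, B}) : PairConj (A, B) (A', B') := by
  have hA := mul_self_of_orderOf_two h.1
  have hB := mul_self_of_orderOf_two h.2.1
  have hc : A * B = B * A := h.2.2.2
  have hA'1 := ne_one_of_orderOf_two h'.1
  have hB'1 := ne_one_of_orderOf_two h'.2.1
  have hne' : A' ≠ B' := h'.2.2.1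
  simp only at hA hB hc hA'1 hB'1 hne'
  -- the moves
  have τ2 : ∀ X Y : P, InvPair (X, Y) → PairConj (X, Y) (X * Y, Y) := by
    intro X Y hXY
    have := (hτ Y X hXY.swap).swap
    have e : Y * X = X * Y := hXY.2.2.2.symm
    rw [e] at this
    exact this
  have σ : ∀ X Y : P, InvPair (X, Y) → PairConj (X, Y) (Y, X) := by
    intro X Y hXY
    have hX := mul_self_of_orderOf_two hXY.1
    have hY := mul_self_of_orderOf_two hXY.2.1
    have hcXY : X * Y = Y * X := hXY.2.2.2
    simp only at hX hY hcXY
    have s1 := hτ X Y hXY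
    have s2 := τ2 X (X * Y) hXY.tau
    have e2 : X * (X * Y) = Y := by rw [← mul_assoc, hX, one_mul]
    rw [e2] at s2
    have hYXY : InvPair (Y, X * Y) := by
      have := hXY.swap.tau
      have e : Y * X = X * Y := hcXY.symm
      rw [e] at this
      exact this
    have s3 := hτ Y (X * Y) hYXY
    have e3 : Y * (X * Y) = X := by rw [hcXY, ← mul_assoc, hY, one_mul]
    rw [e3] at s3
    exact (s1.trans s2).trans s3
  have hmemA : A' ∈ Subgroup.closure {A, B} := by
    rw [← hcl]; exact Subgroup.subset_closure (by simp)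
  have hmemB : B' ∈ Subgroup.closure {A, B} := by
    rw [← hcl]; exact Subgroup.subset_closure (by simp)
  rw [closure_pair_eq_kleinSub A B hA hB hc.symm] at hmemA hmemB
  rcases (mem_kleinSub A B hA hB hc.symm A').1 hmemA with e1 | e1 | e1 | e1
  · exact absurd e1 hA'1
  · rcases (mem_kleinSub A B hA hB hc.symm B').1 hmemB with e2 | e2 | e2 | e2
    · exact absurd e2 hB'1
    · exact absurd (e1.trans e2.symm) hne'
    · rw [e1, e2]; exact PairConj.refl _
    · rw [e1, e2]; exact hτ A B h
  · rcases (mem_kleinSub A B hA hB hc.symm B').1 hmemB with e2 | e2 | e2 | e2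
    · exact absurd e2 hB'1
    · rw [e1, e2]; exact σ A B h
    · exact absurd (e1.trans e2.symm) hne'
    · rw [e1, e2]
      have := (σ A B h).trans (hτ B A h.swap)
      rw [← hc] at this
      exact this
  · rcases (mem_kleinSub A B hA hB hc.symm B').1 hmemB with e2 | e2 | e2 | e2
    · exact absurd e2 hB'1
    · rw [e1, e2]
      exact (hτ A B h).trans (σ A (A * B) h.tau)
    · rw [e1, e2]
      exact τ2 A B h
    · exact absurd (e1.trans e2.symm) hne'

theorem subConj_of_pairConj {P : Type*} [Group P] {A B A' B' : P} (h : PairConj (A, B) (A', B')) :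
    ∃ g : P, Subgroup.closure {A', B'} = (Subgroup.closure {A, B}).map (MulAut.conj g).toMonoidHom := by
  obtain ⟨g, h1, h2⟩ := h
  refine ⟨g, ?_⟩
  rw [MonoidHom.map_closure, Set.image_pair]
  simp only [MulEquiv.coe_toMonoidHom, MulAut.conj_apply]
  simp only at h1 h2
  rw [h1, h2]

end Cfsg.Agent.helper12
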