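import Cfsg.Agent.Lib_helper12_TorusLike
import Cfsg.Agent.Lib_helper12_KleinConj1
import Cfsg.Agent.Lib_helper12_Klein5

set_option autoImplicit false
set_option linter.unusedSectionVars false

namespace Cfsg.Agent.helper12

open Matrix Cfsg

variable {F : Type*} [Field F] [Fintype F]

theorem sl2_not_isScalar2_of_mul_self (hodd : Odd (Fintype.card F)) {x : Matrix.SpecialLinearGroup (Fin 2) F}
    (hx : x * x = sl2NegOne) : ¬ IsScalar2 (x : Matrix (Fin 2) (Fin 2) F) :=
  sl2_not_isScalar2_of_disc x (sl2_trace_sq_ne_of_sq_neg_one hodd ((sl2_mul_self_eq_negOne_iff x).mp hx))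

theorem torusLike_centralizer (hodd : Odd (Fintype.card F)) {x : Matrix.SpecialLinearGroup (Fin 2) F}
    (hx : x * x = sl2NegOne) :
    TorusLike (↥(Subgroup.centralizer ({x} : Set (Matrix.SpecialLinearGroup (Fin 2) F))))
      ⟨sl2NegOne, sl2NegOne_mem_centralizer _⟩ ⟨x, sl2_mem_centralizer_singleton.mpr rfl⟩ := by
  have h2 : (2 : F) ≠ 0 := two_ne_zero_of_odd_card hodd
  have hns := sl2_not_isScalar2_of_mul_self hodd hx
  refine ⟨?_, ?_, ?_, ?_, ?_⟩
  · intro a b
    exact Subtype.ext (sl2_centralizer_comm hns a.2 b.2)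
  · intro t ht
    have ht' : (t : Matrix.SpecialLinearGroup (Fin 2) F) * (t : Matrix.SpecialLinearGroup (Fin 2) F) = 1 := by
      have := congrArg Subtype.val ht
      simpa using this
    rcases sl2_sq_eq_one h2 ht' with h | h
    · left
      apply Subtype.ext
      exact Subtype.ext h
    · right
      apply Subtype.ext
      apply Subtype.ext
      rw [h, sl2NegOne_coe]
  · intro h
    exact sl2NegOne_ne_one h2 (congrArg Subtype.val h)
  · apply Subtype.ext
    exact sl2NegOne_mul_self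
  · apply Subtype.ext
    exact hx

/-- squares in the torus `C(x)` -/
def IsTorusSq (x c : Matrix.SpecialLinearGroup (Fin 2) F) : Prop :=
  ∃ d ∈ Subgroup.centralizer ({x} : Set (Matrix.SpecialLinearGroup (Fin 2) F)), d * d = c

theorem isTorusSq_iff (x c : Matrix.SpecialLinearGroup (Fin 2) F)
    (hc : c ∈ Subgroup.centralizer ({x} : Set (Matrix.SpecialLinearGroup (Fin 2) F))) :
    IsTorusSq x c ↔ ∃ d : ↥(Subgroup.centralizer ({x} : Set (Matrix.SpecialLinearGroup (Fin 2) F))), d * d = ⟨c, hc⟩ := by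
  constructor
  · rintro ⟨d, hd, hdd⟩
    exact ⟨⟨d, hd⟩, Subtype.ext hdd⟩
  · rintro ⟨d, hdd⟩
    exact ⟨d.1, d.2, congrArg Subtype.val hdd⟩

theorem isTorusSq_mul_of_not (hodd : Odd (Fintype.card F)) {x c e : Matrix.SpecialLinearGroup (Fin 2) F}
    (hx : x * x = sl2NegOne)
    (hc : c ∈ Subgroup.centralizer ({x} : Set (Matrix.SpecialLinearGroup (Fin 2) F)))
    (he : e ∈ Subgroup.centralizer ({x} : Set (Matrix.SpecialLinearGroup (Fin 2) F)))
    (hnc : ¬ IsTorusSq x c) (hne : ¬ IsTorusSq x e) : IsTorusSq x (c * e) := by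
  rw [isTorusSq_iff x c hc] at hnc
  rw [isTorusSq_iff x e he] at hne
  rw [isTorusSq_iff x (c * e) (Subgroup.mul_mem _ hc he)]
  exact (torusLike_centralizer hodd hx).sq_mul_of_not_sq hnc hne

theorem exists_not_isTorusSq (hodd : Odd (Fintype.card F)) {x : Matrix.SpecialLinearGroup (Fin 2) F}
    (hx : x * x = sl2NegOne) :
    ∃ e ∈ Subgroup.centralizer ({x} : Set (Matrix.SpecialLinearGroup (Fin 2) F)), ¬ IsTorusSq x e := by
  obtain ⟨e, he⟩ := (torusLike_centralizer hodd hx).exists_not_sq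
  refine ⟨e.1, e.2, ?_⟩
  rw [isTorusSq_iff x e.1 e.2]
  exact he

theorem card_torus_of_mul_self (hodd : Odd (Fintype.card F)) {x : Matrix.SpecialLinearGroup (Fin 2) F}
    (hx : x * x = sl2NegOne) :
    ((Fintype.card F % 8 = 3 ∨ Fintype.card F % 8 = 5) →
      Nat.card (Subgroup.centralizer ({x} : Set (Matrix.SpecialLinearGroup (Fin 2) F))) % 8 = 4) ∧
    ((Fintype.card F % 8 = 1 ∨ Fintype.card F % 8 = 7) →
      8 ∣ Nat.card (Subgroup.centralizer ({x} : Set (Matrix.SpecialLinearGroup (Fin 2) F)))) := by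
  have hxm := (sl2_mul_self_eq_negOne_iff x).mp hx
  have h1 := card_sl2_centralizer_sq_neg_one_split hodd (x := x)
  have h3 := card_sl2_centralizer_sq_neg_one_nonsplit hodd (x := x)
  constructor
  · rintro (h | h)
    · rw [h3 (by omega) hxm]; omega
    · rw [h1 (by omega) hxm]; omega
  · rintro (h | h)
    · rw [h1 (by omega) hxm]; omega
    · rw [h3 (by omega) hxm]; omega

theorem not_isTorusSq_self (hodd : Odd (Fintype.card F)) {x : Matrix.SpecialLinearGroup (Fin 2) F}
    (hx : x * x = sl2NegOne) (hq : Fintype.card F % 8 = 3 ∨ Fintype.card F % 8 = 5) : ¬ IsTorusSq x x := by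
  rw [isTorusSq_iff x x (sl2_mem_centralizer_singleton.mpr rfl)]
  exact (torusLike_centralizer hodd hx).not_sq_x ((card_torus_of_mul_self hodd hx).1 hq)

theorem isTorusSq_self (hodd : Odd (Fintype.card F)) {x : Matrix.SpecialLinearGroup (Fin 2) F}
    (hx : x * x = sl2NegOne) (hq : Fintype.card F % 8 = 1 ∨ Fintype.card F % 8 = 7) : IsTorusSq x x := by
  rw [isTorusSq_iff x x (sl2_mem_centralizer_singleton.mpr rfl)]
  exact (torusLike_centralizer hodd hx).sq_x ((card_torus_of_mul_self hodd hx).2 hq)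

/-- conjugating an inverting element by a torus element -/
theorem sl2_torus_conj_inverting (hodd : Odd (Fintype.card F)) {x y c : Matrix.SpecialLinearGroup (Fin 2) F}
    (hx : x * x = sl2NegOne) (hw : y * x * y⁻¹ = x⁻¹)
    (hc : c ∈ Subgroup.centralizer ({x} : Set (Matrix.SpecialLinearGroup (Fin 2) F))) :
    c * y * c⁻¹ = c * c * y := by
  have hns := sl2_not_isScalar2_of_mul_self hodd hx
  have hci : c⁻¹ ∈ Subgroup.centralizer ({x} : Set (Matrix.SpecialLinearGroup (Fin 2) F)) := Subgroup.inv_mem _ hc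
  have h1 := sl2_conj_inverts hns hw hci
  rw [inv_inv] at h1
  calc c * y * c⁻¹ = c * (y * c⁻¹ * y⁻¹) * y := by group
    _ = c * c * y := by rw [h1]

end Cfsg.Agent.helper12
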