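import Cfsg.Agent.Lib_helper12_KleinConj2

set_option autoImplicit false
set_option linter.unusedSectionVars false

namespace Cfsg.Agent.helper12

open Matrix Cfsg

/-- conjugacy of subgroups -/
def SubConj {P : Type*} [Group P] (V W : Subgroup P) : Prop :=
  ∃ g : P, W = V.map (MulAut.conj g).toMonoidHom

theorem mem_map_conj {P : Type*} [Group P] (V : Subgroup P) (g y : P) :
    y ∈ V.map (MulAut.conj g).toMonoidHom ↔ g⁻¹ * y * g ∈ V := by
  rw [Subgroup.mem_map_equiv, MulAut.conj_symm_apply]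

theorem SubConj.refl {P : Type*} [Group P] (V : Subgroup P) : SubConj V V := by
  refine ⟨1, ?_⟩
  ext y
  rw [mem_map_conj]
  simp

theorem SubConj.symm {P : Type*} [Group P] {V W : Subgroup P} (h : SubConj V W) : SubConj W V := by
  obtain ⟨g, rfl⟩ := h
  refine ⟨g⁻¹, ?_⟩
  ext y
  rw [mem_map_conj, mem_map_conj]
  have : g⁻¹ * (g⁻¹⁻¹ * y * g⁻¹) * g = y := by group
  rw [this]

theorem SubConj.trans {P : Type*} [Group P] {V W U : Subgroup P} (h : SubConj V W) (h' : SubConj W U) :
    SubConj V U := by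
  obtain ⟨g, rfl⟩ := h
  obtain ⟨g', rfl⟩ := h'
  refine ⟨g' * g, ?_⟩
  ext y
  rw [mem_map_conj, mem_map_conj, mem_map_conj]
  have : (g' * g)⁻¹ * y * (g' * g) = g⁻¹ * (g'⁻¹ * y * g') * g := by group
  rw [this]

theorem subConj_closure_of_pairConj {P : Type*} [Group P] {A B A' B' : P} (h : PairConj (A, B) (A', B')) :
    SubConj (Subgroup.closure {A, B}) (Subgroup.closure {A', B'}) :=
  subConj_of_pairConj h

theorem InvPair.conj {P : Type*} [Group P] {A B : P} (h : InvPair (A, B)) (g : P) :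
    InvPair (g * A * g⁻¹, g * B * g⁻¹) := by
  obtain ⟨h1, h2, h3, h4⟩ := h
  simp only at h1 h2 h3 h4
  have hA := mul_self_of_orderOf_two h1
  have hB := mul_self_of_orderOf_two h2
  refine ⟨?_, ?_, ?_, ?_⟩
  · apply orderOf_two_of_mul_self
    · calc g * A * g⁻¹ * (g * A * g⁻¹) = g * (A * A) * g⁻¹ := by group
        _ = 1 := by rw [hA]; group
    · intro h
      simp only at h
      apply ne_one_of_orderOf_two h1
      calc A = g⁻¹ * (g * A * g⁻¹) * g := by group
        _ = 1 := by rw [h]; group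
  · apply orderOf_two_of_mul_self
    · calc g * B * g⁻¹ * (g * B * g⁻¹) = g * (B * B) * g⁻¹ := by group
        _ = 1 := by rw [hB]; group
    · intro h
      simp only at h
      apply ne_one_of_orderOf_two h2
      calc B = g⁻¹ * (g * B * g⁻¹) * g := by group
        _ = 1 := by rw [h]; group
  · intro h
    simp only at h
    apply h3
    calc A = g⁻¹ * (g * A * g⁻¹) * g := by group
      _ = g⁻¹ * (g * B * g⁻¹) * g := by rw [h]
      _ = B := by group
  · simp only
    calc g * A * g⁻¹ * (g * B * g⁻¹) = g * (A * B) * g⁻¹ := by group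
      _ = g * (B * A) * g⁻¹ := by rw [h4]
      _ = g * B * g⁻¹ * (g * A * g⁻¹) := by group

theorem closure_pair_inv_mul {P : Type*} [Group P] (A B : P) :
    Subgroup.closure {A, A⁻¹ * B} = Subgroup.closure {A, B} := by
  apply le_antisymm
  · rw [Subgroup.closure_le]
    intro v hv
    have h1 : A ∈ Subgroup.closure {A, B} := Subgroup.subset_closure (by simp)
    have h2 : B ∈ Subgroup.closure {A, B} := Subgroup.subset_closure (by simp)
    rcases hv with rfl | rfl
    · exact h1
    · exact Subgroup.mul_mem _ (Subgroup.inv_mem _ h1) h2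
  · rw [Subgroup.closure_le]
    intro v hv
    have h1 : A ∈ Subgroup.closure {A, A⁻¹ * B} := Subgroup.subset_closure (by simp)
    have h2 : A⁻¹ * B ∈ Subgroup.closure {A, A⁻¹ * B} := Subgroup.subset_closure (by simp)
    rcases hv with rfl | rfl
    · exact h1
    · have := Subgroup.mul_mem _ h1 h2
      rwa [mul_inv_cancel_left] at this

theorem exists_invPair_of_kleinFour {P : Type*} [Group P] [Finite P] (V : Subgroup P) (hV : IsKleinFour V) :
    ∃ A B : P, InvPair (A, B) ∧ Subgroup.closure {A, B} = V := by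
  have hcard : (V : Set P).ncard = 4 := by
    rw [← Nat.card_coe_set_eq]; exact hV.card_four
  obtain ⟨A, hAV, hA1⟩ : ∃ A ∈ (V : Set P), A ∉ ({1} : Set P) := by
    apply Set.exists_mem_notMem_of_ncard_lt_ncard
    · rw [Set.ncard_singleton, hcard]; norm_num
    · exact Set.finite_singleton _
  obtain ⟨B, hBV, hB1⟩ : ∃ B ∈ (V : Set P), B ∉ ({1, A} : Set P) := by
    apply Set.exists_mem_notMem_of_ncard_lt_ncard
    · have := Set.ncard_insert_le (1 : P) ({A} : Set P)
      rw [Set.ncard_singleton] at this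
      rw [hcard]
      omega
    · exact Set.toFinite _
  simp only [Set.mem_singleton_iff] at hA1
  simp only [Set.mem_insert_iff, Set.mem_singleton_iff, not_or] at hB1
  have := (kleinFour_pair_iff V hV (A, B)).mpr ⟨hAV, hBV, hA1, hB1.1, fun h => hB1.2 h.symm⟩
  exact ⟨A, B, this.1, this.2⟩

theorem mul_inv_mem_centralizer_of_inverting {G : Type*} [Group G] {x y y' : G} (hw : y * x * y⁻¹ = x⁻¹)
    (hw' : y' * x * y'⁻¹ = x⁻¹) : y' * y⁻¹ ∈ Subgroup.centralizer ({x} : Set G) := by
  rw [Subgroup.mem_centralizer_singleton_iff]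
  have h1 : y⁻¹ * x * y = x⁻¹ := by
    have : x = y⁻¹ * x⁻¹ * y := by rw [← hw]; group
    calc y⁻¹ * x * y = (y⁻¹ * x⁻¹ * y)⁻¹ := by group
      _ = x⁻¹ := by rw [← this]
  have h2 : y' * x⁻¹ * y'⁻¹ = x := by
    calc y' * x⁻¹ * y'⁻¹ = (y' * x * y'⁻¹)⁻¹ := by group
      _ = x := by rw [hw', inv_inv]
  calc y' * y⁻¹ * x = y' * (y⁻¹ * x * y) * y⁻¹ := by group
    _ = y' * x⁻¹ * y'⁻¹ * (y' * y⁻¹) := by rw [h1]; group
    _ = x * (y' * y⁻¹) := by rw [h2]

end Cfsg.Agent.helper12
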