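import Cfsg.Agent.Lib_helper12_KleinConj3

set_option autoImplicit false
set_option linter.unusedSectionVars false

namespace Cfsg.Agent.helper12

open Matrix Cfsg

variable {F : Type*} [Field F] [Fintype F]

local notation "π" => (QuotientGroup.mk : Matrix.SpecialLinearGroup (Fin 2) F → Matrix.ProjectiveSpecialLinearGroup (Fin 2) F)

theorem psl2_mk_conj (g a : Matrix.SpecialLinearGroup (Fin 2) F) :
    (QuotientGroup.mk g : Matrix.ProjectiveSpecialLinearGroup (Fin 2) F) * QuotientGroup.mk a * (QuotientGroup.mk g)⁻¹ =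
      QuotientGroup.mk (g * a * g⁻¹) := by
  rw [QuotientGroup.mk_mul, QuotientGroup.mk_mul, QuotientGroup.mk_inv]

/-- Lemma W -/
theorem pairConj_of_torusSq (hodd : Odd (Fintype.card F)) {x y y'' e' : Matrix.SpecialLinearGroup (Fin 2) F}
    (hx : x * x = sl2NegOne) (hw : y * x * y⁻¹ = x⁻¹)
    (he' : e' ∈ Subgroup.centralizer ({x} : Set (Matrix.SpecialLinearGroup (Fin 2) F)))
    (hsq : IsTorusSq x (y'' * y⁻¹ * e'⁻¹)) :
    PairConj ((QuotientGroup.mk x : Matrix.ProjectiveSpecialLinearGroup (Fin 2) F), QuotientGroup.mk (e' * y))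
      ((QuotientGroup.mk x : Matrix.ProjectiveSpecialLinearGroup (Fin 2) F), QuotientGroup.mk y'') := by
  have hns := sl2_not_isScalar2_of_mul_self hodd hx
  obtain ⟨d, hd, hdd⟩ := hsq
  refine ⟨QuotientGroup.mk d, ?_, ?_⟩
  · simp only
    rw [psl2_mk_conj]
    congr 1
    have := sl2_mem_centralizer_singleton.mp hd
    calc d * x * d⁻¹ = (x * d) * d⁻¹ := by rw [this]
      _ = x := by group
  · simp only
    rw [psl2_mk_conj]
    congr 1
    have h1 := sl2_torus_conj_inverting hodd hx hw hd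
    have h2 : d * e' = e' * d := sl2_centralizer_comm hns hd he'
    have hc' : y'' * y⁻¹ * e'⁻¹ ∈ Subgroup.centralizer ({x} : Set (Matrix.SpecialLinearGroup (Fin 2) F)) := by
      rw [← hdd]; exact Subgroup.mul_mem _ hd hd
    have h3 : e' * (y'' * y⁻¹ * e'⁻¹) = (y'' * y⁻¹ * e'⁻¹) * e' := sl2_centralizer_comm hns he' hc'
    calc d * (e' * y) * d⁻¹ = (d * e') * y * d⁻¹ := by group
      _ = (e' * d) * y * d⁻¹ := by rw [h2]
      _ = e' * (d * y * d⁻¹) := by group
      _ = e' * (d * d * y) := by rw [h1]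
      _ = (e' * (y'' * y⁻¹ * e'⁻¹)) * y := by rw [hdd]; group
      _ = ((y'' * y⁻¹ * e'⁻¹) * e') * y := by rw [h3]
      _ = y'' := by group

/-- Lemma N -/
theorem isTorusSq_of_pairConj (hodd : Odd (Fintype.card F)) {x y e : Matrix.SpecialLinearGroup (Fin 2) F}
    (hx : x * x = sl2NegOne) (hw : y * x * y⁻¹ = x⁻¹)
    (he : e ∈ Subgroup.centralizer ({x} : Set (Matrix.SpecialLinearGroup (Fin 2) F)))
    (h : PairConj ((QuotientGroup.mk x : Matrix.ProjectiveSpecialLinearGroup (Fin 2) F), QuotientGroup.mk y)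
      ((QuotientGroup.mk x : Matrix.ProjectiveSpecialLinearGroup (Fin 2) F), QuotientGroup.mk (e * y))) :
    IsTorusSq x e := by
  classical
  have hns := sl2_not_isScalar2_of_mul_self hodd hx
  have hxT : x ∈ Subgroup.centralizer ({x} : Set (Matrix.SpecialLinearGroup (Fin 2) F)) :=
    sl2_mem_centralizer_singleton.mpr rfl
  obtain ⟨g, h1, h2⟩ := h
  obtain ⟨g', rfl⟩ := QuotientGroup.mk_surjective g
  simp only at h1 h2
  rw [psl2_mk_conj] at h1 h2
  -- reduce to an element of the torus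
  have hex : ∃ g'' ∈ Subgroup.centralizer ({x} : Set (Matrix.SpecialLinearGroup (Fin 2) F)),
      (QuotientGroup.mk (g'' * y * g''⁻¹) : Matrix.ProjectiveSpecialLinearGroup (Fin 2) F) = QuotientGroup.mk (e * y) := by
    have hz : g' * x * g'⁻¹ * x⁻¹ ∈ Subgroup.center (Matrix.SpecialLinearGroup (Fin 2) F) := by
      rw [← QuotientGroup.eq_one_iff, QuotientGroup.mk_mul, h1, QuotientGroup.mk_inv, mul_inv_cancel]
    rcases sl2_eq_of_mem_center _ hz with hz1 | hz1
    · refine ⟨g', ?_, h2⟩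
      rw [sl2_mem_centralizer_singleton]
      calc x * g' = (g' * x * g'⁻¹ * x⁻¹)⁻¹ * (g' * x) := by group
        _ = g' * x := by rw [hz1, inv_one, one_mul]
    · have hgx : g' * x * g'⁻¹ = x⁻¹ := by
        rw [sl2_inv_of_mul_self hx, ← hz1]; group
      refine ⟨g' * y, ?_, ?_⟩
      · rw [sl2_mem_centralizer_singleton]
        have h3 : g' * y * x * (g' * y)⁻¹ = x := by
          calc g' * y * x * (g' * y)⁻¹ = g' * (y * x * y⁻¹) * g'⁻¹ := by group
            _ = g' * x⁻¹ * g'⁻¹ := by rw [hw]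
            _ = (g' * x * g'⁻¹)⁻¹ := by group
            _ = x := by rw [hgx, inv_inv]
        calc x * (g' * y) = (g' * y * x * (g' * y)⁻¹) * (g' * y) := by rw [h3]
          _ = g' * y * x := by group
      · rw [← h2]
        congr 1
        group
  obtain ⟨g'', hg'', h3⟩ := hex
  rw [sl2_torus_conj_inverting hodd hx hw hg''] at h3
  have hz : g'' * g'' * e⁻¹ ∈ Subgroup.center (Matrix.SpecialLinearGroup (Fin 2) F) := by
    rw [← QuotientGroup.eq_one_iff]
    have : (QuotientGroup.mk (g'' * g'') : Matrix.ProjectiveSpecialLinearGroup (Fin 2) F) = QuotientGroup.mk e := by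
      have e1 : (QuotientGroup.mk (g'' * g'' * y) : Matrix.ProjectiveSpecialLinearGroup (Fin 2) F) =
          QuotientGroup.mk (g'' * g'') * QuotientGroup.mk y := rfl
      have e2 : (QuotientGroup.mk (e * y) : Matrix.ProjectiveSpecialLinearGroup (Fin 2) F) =
          QuotientGroup.mk e * QuotientGroup.mk y := rfl
      rw [e1, e2] at h3
      exact mul_right_cancel h3
    rw [QuotientGroup.mk_mul, this, QuotientGroup.mk_inv, mul_inv_cancel]
  rcases sl2_eq_of_mem_center _ hz with hz1 | hz1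
  · refine ⟨g'', hg'', ?_⟩
    calc g'' * g'' = (g'' * g'' * e⁻¹) * e := by group
      _ = e := by rw [hz1, one_mul]
  · refine ⟨x * g'', Subgroup.mul_mem _ hxT hg'', ?_⟩
    have hcomm : g'' * x = x * g'' := sl2_centralizer_comm hns hg'' hxT
    calc x * g'' * (x * g'') = x * (g'' * x) * g'' := by group
      _ = x * (x * g'') * g'' := by rw [hcomm]
      _ = (x * x) * ((g'' * g'' * e⁻¹) * e) := by group
      _ = e := by rw [hx, hz1, ← mul_assoc, sl2NegOne_mul_self, one_mul]

/-- the move tau -/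
theorem psl2_tau (hodd : Odd (Fintype.card F)) (hq : Fintype.card F % 8 = 1 ∨ Fintype.card F % 8 = 7)
    (A B : Matrix.ProjectiveSpecialLinearGroup (Fin 2) F) (h : InvPair (A, B)) : PairConj (A, B) (A, A * B) := by
  obtain ⟨x, rfl⟩ := QuotientGroup.mk_surjective A
  obtain ⟨y, rfl⟩ := QuotientGroup.mk_surjective B
  obtain ⟨hx, hw⟩ := (psl2_pair_iff hodd x y).mp h
  obtain ⟨d, hd, hdd⟩ := isTorusSq_self hodd hx hq
  refine ⟨QuotientGroup.mk d, ?_, ?_⟩
  · simp only
    rw [psl2_mk_conj]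
    congr 1
    have := sl2_mem_centralizer_singleton.mp hd
    calc d * x * d⁻¹ = (x * d) * d⁻¹ := by rw [this]
      _ = x := by group
  · simp only
    rw [psl2_mk_conj, sl2_torus_conj_inverting hodd hx hw hd, hdd, QuotientGroup.mk_mul]

end Cfsg.Agent.helper12
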