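import Cfsg.Agent.Lib_helper12_KleinConj4

set_option autoImplicit false
set_option linter.unusedSectionVars false

namespace Cfsg.Agent.helper12

open Matrix Cfsg

variable {F : Type*} [Field F] [Fintype F]

theorem psl2_finite : Finite (Matrix.ProjectiveSpecialLinearGroup (Fin 2) F) := by
  unfold Matrix.ProjectiveSpecialLinearGroup; infer_instance

/-- normal form of a four-group relative to a fixed element of order four -/
theorem psl2_kleinFour_normal_form (hodd : Odd (Fintype.card F)) {x₀ : Matrix.SpecialLinearGroup (Fin 2) F}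
    (hx₀ : x₀ * x₀ = sl2NegOne) (W : Subgroup (Matrix.ProjectiveSpecialLinearGroup (Fin 2) F)) (hW : IsKleinFour W) :
    ∃ y'' : Matrix.SpecialLinearGroup (Fin 2) F, y'' * x₀ * y''⁻¹ = x₀⁻¹ ∧
      SubConj (Subgroup.closure {(QuotientGroup.mk x₀ : Matrix.ProjectiveSpecialLinearGroup (Fin 2) F), QuotientGroup.mk y''}) W := by
  haveI := psl2_finite (F := F)
  obtain ⟨A, B, hAB, hcl⟩ := exists_invPair_of_kleinFour W hW
  obtain ⟨x', rfl⟩ := QuotientGroup.mk_surjective A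
  obtain ⟨y', rfl⟩ := QuotientGroup.mk_surjective B
  obtain ⟨hx', hw'⟩ := (psl2_pair_iff hodd x' y').mp hAB
  obtain ⟨g₁, hg₁⟩ := isConj_iff.mp (sl2_isConj_of_sq_neg_one hodd ((sl2_mul_self_eq_negOne_iff x').mp hx')
    ((sl2_mul_self_eq_negOne_iff x₀).mp hx₀))
  refine ⟨g₁ * y' * g₁⁻¹, ?_, ?_⟩
  · rw [← hg₁]
    calc g₁ * y' * g₁⁻¹ * (g₁ * x' * g₁⁻¹) * (g₁ * y' * g₁⁻¹)⁻¹ = g₁ * (y' * x' * y'⁻¹) * g₁⁻¹ := by group
      _ = g₁ * x'⁻¹ * g₁⁻¹ := by rw [hw']
      _ = (g₁ * x' * g₁⁻¹)⁻¹ := by group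
  · rw [← hcl]
    apply SubConj.symm
    apply subConj_closure_of_pairConj
    refine ⟨QuotientGroup.mk g₁, ?_, ?_⟩
    · simp only
      rw [psl2_mk_conj, hg₁]
    · simp only
      rw [psl2_mk_conj]

theorem psl2_kleinFour_one_class (hodd : Odd (Fintype.card F)) (hq : Fintype.card F % 8 = 3 ∨ Fintype.card F % 8 = 5)
    (V W : Subgroup (Matrix.ProjectiveSpecialLinearGroup (Fin 2) F)) (hV : IsKleinFour V) (hW : IsKleinFour W) :
    SubConj V W := by
  haveI := psl2_finite (F := F)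
  obtain ⟨A, B, hAB, hcl⟩ := exists_invPair_of_kleinFour V hV
  obtain ⟨x, rfl⟩ := QuotientGroup.mk_surjective A
  obtain ⟨y, rfl⟩ := QuotientGroup.mk_surjective B
  obtain ⟨hx, hw⟩ := (psl2_pair_iff hodd x y).mp hAB
  obtain ⟨y'', hw'', hsub⟩ := psl2_kleinFour_normal_form hodd hx W hW
  rw [← hcl]
  refine SubConj.trans ?_ hsub
  have hxT : x ∈ Subgroup.centralizer ({x} : Set (Matrix.SpecialLinearGroup (Fin 2) F)) :=
    sl2_mem_centralizer_singleton.mpr rfl
  have hc := mul_inv_mem_centralizer_of_inverting hw hw''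
  by_cases hsq : IsTorusSq x (y'' * y⁻¹)
  · have := pairConj_of_torusSq hodd hx hw (Subgroup.one_mem _) (e' := 1) (y'' := y'')
      (by rw [inv_one, mul_one]; exact hsq)
    rw [one_mul] at this
    exact subConj_closure_of_pairConj this
  · have hxs := not_isTorusSq_self hodd hx hq
    have h1 := isTorusSq_mul_of_not hodd hx hc hxT hsq hxs
    have := pairConj_of_torusSq hodd hx hw (Subgroup.inv_mem _ hxT) (e' := x⁻¹) (y'' := y'')
      (by rw [inv_inv]; exact h1)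
    have h2 := subConj_closure_of_pairConj this
    have e : (QuotientGroup.mk (x⁻¹ * y) : Matrix.ProjectiveSpecialLinearGroup (Fin 2) F) =
        (QuotientGroup.mk x)⁻¹ * QuotientGroup.mk y := rfl
    rw [e, closure_pair_inv_mul] at h2
    exact h2

theorem psl2_kleinFour_two_classes (hodd : Odd (Fintype.card F)) (hq : Fintype.card F % 8 = 1 ∨ Fintype.card F % 8 = 7) :
    ∃ V₁ V₂ : Subgroup (Matrix.ProjectiveSpecialLinearGroup (Fin 2) F), IsKleinFour V₁ ∧ IsKleinFour V₂ ∧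
      ¬ SubConj V₁ V₂ ∧ ∀ W : Subgroup (Matrix.ProjectiveSpecialLinearGroup (Fin 2) F), IsKleinFour W →
        SubConj V₁ W ∨ SubConj V₂ W := by
  have hx₀ : (sl2Quarter : Matrix.SpecialLinearGroup (Fin 2) F) * sl2Quarter = sl2NegOne := sl2Quarter_mul_self
  have hD := sl2_trace_sq_ne_of_sq_neg_one hodd ((sl2_mul_self_eq_negOne_iff _).mp hx₀)
  obtain ⟨y₀, hw₀⟩ := sl2_exists_inverting hodd (sl2Quarter : Matrix.SpecialLinearGroup (Fin 2) F) hD
  obtain ⟨e, he, hne⟩ := exists_not_isTorusSq hodd hx₀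
  have hw₂ : (e * y₀) * sl2Quarter * (e * y₀)⁻¹ = (sl2Quarter : Matrix.SpecialLinearGroup (Fin 2) F)⁻¹ := by
    have hcomm := sl2_mem_centralizer_singleton.mp he
    calc e * y₀ * sl2Quarter * (e * y₀)⁻¹ = e * (y₀ * sl2Quarter * y₀⁻¹) * e⁻¹ := by group
      _ = e * (sl2Quarter : Matrix.SpecialLinearGroup (Fin 2) F)⁻¹ * e⁻¹ := by rw [hw₀]
      _ = (e * sl2Quarter * e⁻¹)⁻¹ := by group
      _ = (sl2Quarter : Matrix.SpecialLinearGroup (Fin 2) F)⁻¹ := by rw [← hcomm]; group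
  have hP1 : InvPair ((QuotientGroup.mk (sl2Quarter : Matrix.SpecialLinearGroup (Fin 2) F) : Matrix.ProjectiveSpecialLinearGroup (Fin 2) F),
      (QuotientGroup.mk y₀ : Matrix.ProjectiveSpecialLinearGroup (Fin 2) F)) :=
    (psl2_pair_iff hodd _ _).mpr ⟨hx₀, hw₀⟩
  have hP2 : InvPair ((QuotientGroup.mk (sl2Quarter : Matrix.SpecialLinearGroup (Fin 2) F) : Matrix.ProjectiveSpecialLinearGroup (Fin 2) F),
      (QuotientGroup.mk (e * y₀) : Matrix.ProjectiveSpecialLinearGroup (Fin 2) F)) :=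
    (psl2_pair_iff hodd _ _).mpr ⟨hx₀, hw₂⟩
  refine ⟨Subgroup.closure {QuotientGroup.mk (sl2Quarter : Matrix.SpecialLinearGroup (Fin 2) F), QuotientGroup.mk y₀},
    Subgroup.closure {QuotientGroup.mk (sl2Quarter : Matrix.SpecialLinearGroup (Fin 2) F), QuotientGroup.mk (e * y₀)},
    kleinFour_closure_of_pair _ _ hP1.1 hP1.2.1 hP1.2.2.1 hP1.2.2.2,
    kleinFour_closure_of_pair _ _ hP2.1 hP2.2.1 hP2.2.2.1 hP2.2.2.2, ?_, ?_⟩
  · rintro ⟨g, hg⟩
    rw [MonoidHom.map_closure, Set.image_pair] at hg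
    simp only [MulEquiv.coe_toMonoidHom, MulAut.conj_apply] at hg
    have h1 := pairConj_of_same_closure (psl2_tau hodd hq) hP2 (hP1.conj g) hg.symm
    have h2 : PairConj ((QuotientGroup.mk (sl2Quarter : Matrix.SpecialLinearGroup (Fin 2) F) : Matrix.ProjectiveSpecialLinearGroup (Fin 2) F),
        (QuotientGroup.mk y₀ : Matrix.ProjectiveSpecialLinearGroup (Fin 2) F))
        (g * QuotientGroup.mk (sl2Quarter : Matrix.SpecialLinearGroup (Fin 2) F) * g⁻¹, g * QuotientGroup.mk y₀ * g⁻¹) :=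
      ⟨g, rfl, rfl⟩
    exact hne (isTorusSq_of_pairConj hodd hx₀ hw₀ he (h2.trans h1.symm))
  · intro W hW
    obtain ⟨y'', hw'', hsub⟩ := psl2_kleinFour_normal_form hodd hx₀ W hW
    have hc := mul_inv_mem_centralizer_of_inverting hw₀ hw''
    by_cases hsq : IsTorusSq sl2Quarter (y'' * y₀⁻¹)
    · left
      have := pairConj_of_torusSq hodd hx₀ hw₀ (Subgroup.one_mem _) (e' := 1) (y'' := y'')
        (by rw [inv_one, mul_one]; exact hsq)
      rw [one_mul] at this
      exact (subConj_closure_of_pairConj this).trans hsub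
    · right
      have hne' : ¬ IsTorusSq sl2Quarter e⁻¹ := by
        rintro ⟨d, hd, hdd⟩
        exact hne ⟨d⁻¹, Subgroup.inv_mem _ hd, by rw [← _root_.mul_inv_rev, hdd, inv_inv]⟩
      have h1 := isTorusSq_mul_of_not hodd hx₀ hc (Subgroup.inv_mem _ he) hsq hne'
      have := pairConj_of_torusSq hodd hx₀ hw₀ he (y'' := y'') h1
      exact (subConj_closure_of_pairConj this).trans hsub

end Cfsg.Agent.helper12
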