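import Mathlib
import Cfsg.Agent.Lib_helper19_HH1
import Cfsg.Agent.Lib_helper1_PGroup

set_option autoImplicit false

namespace Cfsg.Agent.helper21

open scoped commutatorElement

/-- If `C` has `p`-power index then `G = P * C` for every Sylow `p`-subgroup `P`. -/
theorem exists_mul_of_index_eq_pow {G : Type*} [Group G] [Finite G] {p : ℕ} [hp : Fact p.Prime]
    (P : Sylow p G) (C : Subgroup G) {a : ℕ} (hC : C.index = p ^ a) (g : G) :
    ∃ u ∈ (P : Subgroup G), ∃ c ∈ C, g = u * c := by
  classical
  set x0 : G ⧸ C := ((1 : G) : G ⧸ C) with hx0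
  have hstab : MulAction.stabilizer (P : Subgroup G) x0 = C.subgroupOf (P : Subgroup G) := by
    ext u
    rw [MulAction.mem_stabilizer_iff, Subgroup.mem_subgroupOf, hx0]
    have hsm : u • ((1 : G) : G ⧸ C) = (((u : G) * 1 : G) : G ⧸ C) := rfl
    rw [hsm, QuotientGroup.eq]
    simp
  have hidx : (C.subgroupOf (P : Subgroup G)).index
      = (MulAction.orbit (P : Subgroup G) x0).ncard := by
    rw [← hstab]; exact MulAction.index_stabilizer _ x0
  have h1 : C.relIndex (P : Subgroup G) * (P : Subgroup G).index
      = (P : Subgroup G).relIndex C * C.index := by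
    rw [← Subgroup.inf_relIndex_right C (P : Subgroup G),
      Subgroup.relIndex_mul_index inf_le_right,
      ← Subgroup.inf_relIndex_left C (P : Subgroup G),
      Subgroup.relIndex_mul_index inf_le_left]
  have hcop : (p ^ a).Coprime (P : Subgroup G).index :=
    ((Nat.Prime.coprime_iff_not_dvd hp.out).mpr P.not_dvd_index).pow_left a
  have hdvd : p ^ a ∣ C.relIndex (P : Subgroup G) := by
    apply hcop.dvd_of_dvd_mul_right
    rw [h1, hC]
    exact dvd_mul_left _ _
  have hpos : 0 < C.relIndex (P : Subgroup G) :=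
    Nat.pos_of_ne_zero (by unfold Subgroup.relIndex; exact Subgroup.index_ne_zero_of_finite)
  have hle : p ^ a ≤ (MulAction.orbit (P : Subgroup G) x0).ncard := by
    rw [← hidx]; exact Nat.le_of_dvd hpos hdvd
  have huniv : MulAction.orbit (P : Subgroup G) x0 = Set.univ := by
    apply Set.eq_of_subset_of_ncard_le (Set.subset_univ _)
    rw [Set.ncard_univ]
    have : Nat.card (G ⧸ C) = p ^ a := by rw [← hC]; rfl
    rw [this]; exact hle
  have hg : ((g : G) : G ⧸ C) ∈ MulAction.orbit (P : Subgroup G) x0 := by
    rw [huniv]; exact Set.mem_univ _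
  obtain ⟨u, hu⟩ := hg
  have hsm : u • ((1 : G) : G ⧸ C) = (((u : G) * 1 : G) : G ⧸ C) := rfl
  change u • ((1 : G) : G ⧸ C) = _ at hu
  rw [hsm, QuotientGroup.eq] at hu
  refine ⟨(u : G), u.2, ((u : G) * 1)⁻¹ * g, hu, ?_⟩
  simp

/-- If `x` has `p`-power class size, every conjugate of `x` is a conjugate under any
Sylow `p`-subgroup. -/
theorem exists_conj_eq_of_index_centralizer {G : Type*} [Group G] [Finite G] {p : ℕ}
    [hp : Fact p.Prime] (P : Sylow p G) (x : G) {a : ℕ}
    (hC : (Subgroup.centralizer ({x} : Set G)).index = p ^ a) (g : G) :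
    ∃ u ∈ (P : Subgroup G), g * x * g⁻¹ = u * x * u⁻¹ := by
  obtain ⟨u, hu, c, hc, rfl⟩ := exists_mul_of_index_eq_pow P _ hC g
  refine ⟨u, hu, ?_⟩
  rw [Subgroup.mem_centralizer_singleton_iff] at hc
  have : c * x * c⁻¹ = x := by
    rw [hc]; group
  calc u * c * x * (u * c)⁻¹ = u * (c * x * c⁻¹) * u⁻¹ := by group
    _ = u * x * u⁻¹ := by rw [this]

/-- In a special `2`-group every element has order dividing `4`. -/
theorem pow_four_eq_one_of_special {T : Type*} [Group T] [Finite T]
    (hT : IsPGroup 2 T) (hfr : frattini T = Subgroup.center T)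
    (hco : commutator T = Subgroup.center T) (x : T) : x ^ 4 = 1 := by
  have : Fact (Nat.Prime 2) := ⟨Nat.prime_two⟩
  have hsq : ∀ y : T, y ^ 2 ∈ Subgroup.center T := by
    intro y
    rw [← hfr]
    exact Cfsg.Agent.helper1.pow_mem_frattini_of_isPGroup hT y
  -- every commutator squares to one
  have hcomm : ∀ a b : T, ⁅a, b⁆ ^ 2 = 1 := by
    intro a b
    have hc : ⁅a, b⁆ ∈ Subgroup.center T := by
      rw [← hco]
      exact Subgroup.commutator_mem_commutator (Subgroup.mem_top a) (Subgroup.mem_top b)
    have hcomm' : Commute ⁅a, b⁆ a := (Subgroup.mem_center_iff.mp hc a).symm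
    rw [← Cfsg.Agent.helper19.commutatorElement_pow_left a b hcomm' 2]
    have h2 := hsq a
    rw [commutatorElement_def]
    have := Subgroup.mem_center_iff.mp h2 b
    rw [← this]; group
  -- every element of the derived subgroup squares to one
  have hder : ∀ z ∈ commutator T, z ^ 2 = 1 := by
    intro z hz
    rw [commutator_def] at hz
    have key : ∀ w ∈ ⁅(⊤ : Subgroup T), (⊤ : Subgroup T)⁆,
        w ∈ Subgroup.center T ∧ w ^ 2 = 1 := by
      intro w hw
      refine ⟨by rw [← hco, commutator_def]; exact hw, ?_⟩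
      rw [Subgroup.commutator_def] at hw
      induction hw using Subgroup.closure_induction with
      | mem w hw =>
        obtain ⟨a, _, b, _, rfl⟩ := hw
        exact hcomm a b
      | one => simp
      | mul u v hu hv ihu ihv =>
        have huc : u ∈ Subgroup.center T := by
          rw [← hco, commutator_def, Subgroup.commutator_def]; exact hu
        have : Commute u v := (Subgroup.mem_center_iff.mp huc v).symm
        rw [this.mul_pow, ihu, ihv, one_mul]
      | inv u hu ihu => rw [inv_pow, ihu, inv_one]
    exact (key z hz).2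
  have h2 : x ^ 2 ∈ commutator T := by rw [hco]; exact hsq x
  have := hder _ h2
  rw [← pow_mul] at this
  exact this

end Cfsg.Agent.helper21
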