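import Mathlib
import Cfsg.Agent.Lib_helper21_PPowerClass
import Cfsg.Agent.Lib_helper7_Signalizer
import Cfsg.Agent.Lib_lead_Coprime2

set_option autoImplicit false
set_option linter.unusedVariables false
set_option linter.unusedSectionVars false
set_option linter.style.haveILetI false

namespace Cfsg.Agent.helper12

universe u
variable {G : Type u} [Group G]

/-- subgroups of solvable subgroups are solvable -/
theorem kz_solvable_of_le {H K : Subgroup G} (h : H ≤ K) (hK : Group.IsSolvable ↥K) :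
    Group.IsSolvable ↥H := by
  haveI := hK
  exact Group.isSolvable_of_isSolvable_injective (Subgroup.inclusion_injective h)

/-- images of solvable subgroups are solvable -/
theorem kz_solvable_map {H : Type*} [Group H] (f : G →* H) (K : Subgroup G)
    (hK : Group.IsSolvable ↥K) : Group.IsSolvable ↥(K.map f) := by
  haveI := hK
  exact Group.isSolvable_of_surjective (f := f.subgroupMap K) (f.subgroupMap_surjective K)

/-- `K` is solvable if its image and the kernel are. -/
theorem kz_solvable_of_map {H : Type*} [Group H] (f : G →* H) (K : Subgroup G)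
    (h1 : Group.IsSolvable ↥(K.map f)) (h2 : Group.IsSolvable ↥f.ker) : Group.IsSolvable ↥K := by
  haveI := h1
  haveI := h2
  haveI : Group.IsSolvable ↥(f.ker.subgroupOf K) := by
    let j : ↥(f.ker.subgroupOf K) →* ↥f.ker :=
      { toFun := fun z => ⟨((z : ↥K) : G), z.2⟩
        map_one' := rfl
        map_mul' := fun _ _ => rfl }
    have hj : Function.Injective j := by
      intro a b hab
      apply Subtype.ext
      apply Subtype.ext
      exact congrArg (fun t : ↥f.ker => (t : G)) hab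
    exact Group.isSolvable_of_isSolvable_injective hj
  refine Group.isSolvable_of_ker_le_range (f.ker.subgroupOf K).subtype (f.subgroupMap K) ?_
  intro z hz
  rw [MonoidHom.mem_ker] at hz
  rw [Subgroup.range_subtype, Subgroup.mem_subgroupOf, MonoidHom.mem_ker]
  exact congrArg Subtype.val hz

/-- the class index can only shrink in a quotient -/
theorem kz_index_map_dvd {H : Type*} [Group H] (f : G →* H) (hf : Function.Surjective f) (x : G) :
    (Subgroup.centralizer ({f x} : Set H)).index ∣ (Subgroup.centralizer ({x} : Set G)).index := by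
  have h1 : (Subgroup.centralizer ({x} : Set G)).map f ≤ Subgroup.centralizer ({f x} : Set H) := by
    rintro _ ⟨c, hc, rfl⟩
    have hc' : c ∈ Subgroup.centralizer ({x} : Set G) := hc
    rw [Subgroup.mem_centralizer_singleton_iff] at hc' ⊢
    rw [← map_mul, ← map_mul, hc']
  exact (Subgroup.index_dvd_of_le h1).trans (Subgroup.index_map_dvd _ hf)

/-- if all conjugates lie in `H` then so does the normal closure -/
theorem kz_normalClosure_le (x : G) (H : Subgroup G) (h : ∀ g : G, g * x * g⁻¹ ∈ H) :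
    Subgroup.normalClosure ({x} : Set G) ≤ H := by
  show Subgroup.closure (Group.conjugatesOfSet ({x} : Set G)) ≤ H
  rw [Subgroup.closure_le]
  intro z hz
  obtain ⟨a, ha, hc⟩ := Group.mem_conjugatesOfSet_iff.1 hz
  rw [Set.mem_singleton_iff] at ha
  subst ha
  obtain ⟨c, rfl⟩ := isConj_iff.1 hc
  exact h c

/-- reduction modulo a solvable normal subgroup -/
theorem kz_R3 (R : Subgroup G) [R.Normal] (hR : Group.IsSolvable ↥R) (x : G)
    {p : ℕ} (hp : p.Prime) (k : ℕ)
    (hx : (Subgroup.centralizer ({x} : Set G)).index = p ^ k)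
    (hIH : ∀ (x' : G ⧸ R) (k' : ℕ),
      (Subgroup.centralizer ({x'} : Set (G ⧸ R))).index = p ^ k' →
      Group.IsSolvable ↥(Subgroup.normalClosure ({x'} : Set (G ⧸ R)))) :
    Group.IsSolvable ↥(Subgroup.normalClosure ({x} : Set G)) := by
  have hdvd := kz_index_map_dvd (QuotientGroup.mk' R) (QuotientGroup.mk'_surjective R) x
  rw [hx] at hdvd
  obtain ⟨j, -, hj⟩ := (Nat.dvd_prime_pow hp).1 hdvd
  have h1 := hIH _ j hj
  apply kz_solvable_of_map (QuotientGroup.mk' R)
  · rw [Subgroup.map_normalClosure _ _ (QuotientGroup.mk'_surjective R), Set.image_singleton]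
    exact h1
  · rw [QuotientGroup.ker_mk']
    exact hR

/-- a `p`-element with `p`-power class size has a solvable normal closure -/
theorem kz_pelement [Finite G] (x : G) {p : ℕ} (hp : p.Prime) (k j : ℕ)
    (hx : (Subgroup.centralizer ({x} : Set G)).index = p ^ k) (hxp : x ^ (p ^ j) = 1) :
    Group.IsSolvable ↥(Subgroup.normalClosure ({x} : Set G)) := by
  haveI : Fact p.Prime := ⟨hp⟩
  have hz : IsPGroup p ↥(Subgroup.zpowers x) := by
    rintro ⟨z, hz⟩
    obtain ⟨i, rfl⟩ := Subgroup.mem_zpowers_iff.1 hz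
    refine ⟨j, ?_⟩
    apply Subtype.ext
    show (x ^ i) ^ (p ^ j) = 1
    rw [← zpow_natCast, ← zpow_mul, mul_comm, zpow_mul, zpow_natCast, hxp, one_zpow]
  obtain ⟨P, hP⟩ := hz.exists_le_sylow
  have hxP : x ∈ (P : Subgroup G) := hP (Subgroup.mem_zpowers x)
  have hle : Subgroup.normalClosure ({x} : Set G) ≤ (P : Subgroup G) := by
    apply kz_normalClosure_le
    intro g
    obtain ⟨u, hu, he⟩ := helper21.exists_conj_eq_of_index_centralizer P x hx g
    rw [he]
    exact (P : Subgroup G).mul_mem ((P : Subgroup G).mul_mem hu hxP) ((P : Subgroup G).inv_mem hu)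
  apply kz_solvable_of_le hle
  haveI : Group.IsNilpotent ↥(P : Subgroup G) := P.2.isNilpotent
  exact IsNilpotent.to_isSolvable

/-- relative index into a normal subgroup divides the index -/
theorem kz_relIndex_dvd [Finite G] (C L : Subgroup G) [L.Normal] : C.relIndex L ∣ C.index := by
  have h1 : C.relIndex L * L.index = (C ⊓ L).index := by
    rw [← Subgroup.inf_relIndex_right C L, Subgroup.relIndex_mul_index inf_le_right]
  have h2 : L.relIndex C * C.index = (C ⊓ L).index := by
    rw [← Subgroup.inf_relIndex_left C L, Subgroup.relIndex_mul_index inf_le_left]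
  have h3 : L.relIndex (C ⊔ L) = L.relIndex C := Subgroup.relIndex_sup_right C L
  have h4 : L.relIndex (C ⊔ L) * (C ⊔ L).index = L.index :=
    Subgroup.relIndex_mul_index le_sup_right
  have h5 : L.relIndex C ≠ 0 := by
    unfold Subgroup.relIndex
    exact Subgroup.index_ne_zero_of_finite
  have h6 : L.relIndex C * (C.relIndex L * (C ⊔ L).index) = L.relIndex C * C.index := by
    rw [h2, ← h1, ← h4, h3]
    ring
  exact Dvd.intro _ (Nat.eq_of_mul_eq_mul_left (Nat.pos_of_ne_zero h5) h6)

/-- centralizer inside a subgroup -/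
theorem kz_centralizer_subgroupOf (L : Subgroup G) (x : G) (hx : x ∈ L) :
    Subgroup.centralizer ({(⟨x, hx⟩ : ↥L)} : Set ↥L)
      = (Subgroup.centralizer ({x} : Set G)).subgroupOf L := by
  ext z
  rw [Subgroup.mem_centralizer_singleton_iff, Subgroup.mem_subgroupOf,
    Subgroup.mem_centralizer_singleton_iff]
  constructor
  · intro h
    exact congrArg Subtype.val h
  · intro h
    exact Subtype.ext h

/-- the class index of an element of a normal subgroup `L`, computed in `L`, is again a `p`-power -/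
theorem kz_index_sub [Finite G] (L : Subgroup G) [L.Normal] (x : G) (hx : x ∈ L)
    {p : ℕ} (hp : p.Prime) (k : ℕ)
    (hidx : (Subgroup.centralizer ({x} : Set G)).index = p ^ k) :
    ∃ j, (Subgroup.centralizer ({(⟨x, hx⟩ : ↥L)} : Set ↥L)).index = p ^ j := by
  rw [kz_centralizer_subgroupOf]
  have h1 := kz_relIndex_dvd (Subgroup.centralizer ({x} : Set G)) L
  rw [hidx] at h1
  obtain ⟨j, -, hj⟩ := (Nat.dvd_prime_pow hp).1 h1
  exact ⟨j, hj⟩

/-- from invariance to the normalizer -/
theorem kz_le_normalizer {L X : Subgroup G} (h : ∀ l ∈ L, ∀ z ∈ X, l * z * l⁻¹ ∈ X) :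
    L ≤ Subgroup.normalizer (X : Set G) := by
  intro l hl
  rw [Subgroup.mem_normalizer_iff]
  intro z
  constructor
  · exact h l hl z
  · intro hz
    have := h l⁻¹ (L.inv_mem hl) _ hz
    simpa [mul_assoc] using this

/-- reduction to a proper normal subgroup containing `x` -/
theorem kz_R1 [Finite G] (L : Subgroup G) [hL : L.Normal] (x : G) (hx : x ∈ L)
    (hS : Group.IsSolvable ↥(Subgroup.normalClosure ({(⟨x, hx⟩ : ↥L)} : Set ↥L))) :
    Group.IsSolvable ↥(Subgroup.normalClosure ({x} : Set G)) := by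
  classical
  haveI := Fintype.ofFinite G
  set N : Subgroup ↥L := Subgroup.normalClosure ({(⟨x, hx⟩ : ↥L)} : Set ↥L) with hN
  haveI hNn : N.Normal := Subgroup.normalClosure_normal
  set S : Subgroup G := N.map L.subtype with hSdef
  have hSL : S ≤ L := by
    rintro _ ⟨z, -, rfl⟩
    exact z.2
  have hSsolv : Group.IsSolvable ↥S := kz_solvable_map _ _ hS
  have hSinv : ∀ l ∈ L, ∀ z ∈ S, l * z * l⁻¹ ∈ S := by
    rintro l hl _ ⟨n, hn, rfl⟩
    exact ⟨(⟨l, hl⟩ : ↥L) * n * (⟨l, hl⟩ : ↥L)⁻¹, hNn.conj_mem n hn _, rfl⟩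
  have hxS : x ∈ S := ⟨⟨x, hx⟩, Subgroup.subset_normalClosure (Set.mem_singleton _), rfl⟩
  let f : G → Subgroup G := fun g => S.map (MulAut.conj g).toMonoidHom
  have hf : ∀ g ∈ (Finset.univ : Finset G),
      (f g ≤ L ∧ (∀ l ∈ L, ∀ z ∈ f g, l * z * l⁻¹ ∈ f g) ∧ Group.IsSolvable ↥(f g)) := by
    intro g _
    refine ⟨?_, ?_, kz_solvable_map _ _ hSsolv⟩
    · rintro _ ⟨s, hs, rfl⟩
      exact hL.conj_mem s (hSL hs) g
    · rintro l hl _ ⟨s, hs, rfl⟩
      refine ⟨(g⁻¹ * l * g) * s * (g⁻¹ * l * g)⁻¹, hSinv _ ?_ s hs, ?_⟩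
      · have := hL.conj_mem l hl g⁻¹
        simpa using this
      · simp only [MulEquiv.coe_toMonoidHom, MulAut.conj_apply]
        group
  have key := Finset.sup_induction
    (p := fun X : Subgroup G => X ≤ L ∧ (∀ l ∈ L, ∀ z ∈ X, l * z * l⁻¹ ∈ X) ∧ Group.IsSolvable ↥X)
    (s := (Finset.univ : Finset G)) (f := f)
    ⟨bot_le, by
      intro l _ z hz
      rw [Subgroup.mem_bot] at hz ⊢
      rw [hz]; group,
      Group.isSolvable_of_comm (fun a b => Subsingleton.elim _ _)⟩
    (by
      rintro X ⟨hXL, hXinv, hXs⟩ Y ⟨hYL, hYinv, hYs⟩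
      refine ⟨sup_le hXL hYL, ?_, ?_⟩
      · intro l hl z hz
        have hle : X ⊔ Y ≤ (X ⊔ Y).comap (MulAut.conj l).toMonoidHom := by
          apply sup_le
          · intro t ht
            rw [Subgroup.mem_comap]
            exact (le_sup_left : X ≤ X ⊔ Y) (hXinv l hl t ht)
          · intro t ht
            rw [Subgroup.mem_comap]
            exact (le_sup_right : Y ≤ X ⊔ Y) (hYinv l hl t ht)
        exact hle hz
      · exact helper7.solvable_sup hXs hYs (hYL.trans (kz_le_normalizer hXinv)))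
    hf
  apply kz_solvable_of_le _ key.2.2
  apply kz_normalClosure_le
  intro g
  have h1 : g * x * g⁻¹ ∈ f g := ⟨x, hxS, rfl⟩
  exact (Finset.le_sup (f := f) (Finset.mem_univ g)) h1

/-- the case where `q` does not divide the order of the commutator subgroup -/
theorem kz_case2 [Finite G] (x : G) {p q : ℕ} (hp : p.Prime) (hq : q.Prime) (k : ℕ)
    (hx : (Subgroup.centralizer ({x} : Set G)).index = p ^ k) (hxq : orderOf x = q)
    (htop : Subgroup.normalClosure ({x} : Set G) = ⊤)
    (hcop : ¬ q ∣ Nat.card ↥(commutator G)) :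
    Group.IsSolvable ↥(Subgroup.normalClosure ({x} : Set G)) := by
  haveI : Fact p.Prime := ⟨hp⟩
  set L : Subgroup G := commutator G with hLdef
  haveI hLn : L.Normal := by rw [hLdef]; infer_instance
  set A : Subgroup G := Subgroup.zpowers x with hA
  have hAcard : Nat.card ↥A = q := by rw [hA, Nat.card_zpowers, hxq]
  have hAL : A ≤ Subgroup.normalizer (L : Set G) := by
    rw [Subgroup.normalizer_eq_top]; exact le_top
  have hcop' : (Nat.card ↥A).Coprime (Nat.card ↥L) := by
    rw [hAcard]; exact (Nat.Prime.coprime_iff_not_dvd hq).2 hcop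
  have hAsolv : Group.IsSolvable ↥A := by
    apply Group.isSolvable_of_comm
    rintro ⟨a, ha⟩ ⟨b, hb⟩
    apply Subtype.ext
    obtain ⟨i, rfl⟩ := Subgroup.mem_zpowers_iff.1 ha
    obtain ⟨j, rfl⟩ := Subgroup.mem_zpowers_iff.1 hb
    show x ^ i * x ^ j = x ^ j * x ^ i
    rw [← zpow_add, ← zpow_add, add_comm]
  obtain ⟨V, hVL, hVc, hVA⟩ := lead.exists_invariant_sylow A L hAL hcop' (Or.inl hAsolv) p
  -- `G = L A`
  have hLA : L ⊔ A = ⊤ := by
    haveI : (L ⊔ A).Normal := Subgroup.Normal.of_commutator_le G le_sup_left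
    rw [eq_top_iff, ← htop]
    apply Subgroup.normalClosure_le_normal
    rw [Set.singleton_subset_iff]
    exact (le_sup_right : A ≤ L ⊔ A) (Subgroup.mem_zpowers x)
  have hVcard' : Nat.card ↥(V.subgroupOf L) = p ^ (Nat.card ↥L).factorization p := by
    rw [← hVc]
    exact Nat.card_congr (Subgroup.subgroupOfEquivOfLe hVL).toEquiv
  set P : Sylow p ↥L := Sylow.ofCard (V.subgroupOf L) hVcard' with hP
  obtain ⟨j, hj⟩ : ∃ j, ((Subgroup.centralizer ({x} : Set G)).subgroupOf L).index = p ^ j := by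
    have h1 := kz_relIndex_dvd (Subgroup.centralizer ({x} : Set G)) L
    rw [hx] at h1
    obtain ⟨j, -, hj⟩ := (Nat.dvd_prime_pow hp).1 h1
    exact ⟨j, hj⟩
  have hVp : IsPGroup p ↥V := IsPGroup.of_card hVc
  have hVsolv : Group.IsSolvable ↥V := by
    haveI : Group.IsNilpotent ↥V := hVp.isNilpotent
    exact IsNilpotent.to_isSolvable
  have hHsolv : Group.IsSolvable ↥(V ⊔ A) := helper7.solvable_sup hVsolv hAsolv hVA
  apply kz_solvable_of_le _ hHsolv
  apply kz_normalClosure_le
  intro g
  have hg : g ∈ L ⊔ A := by rw [hLA]; trivial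
  obtain ⟨l, hl, z, hz, rfl⟩ := Subgroup.mem_sup_of_normal_left.1 hg
  obtain ⟨i, rfl⟩ := Subgroup.mem_zpowers_iff.1 hz
  obtain ⟨u, hu, c, hc, he⟩ := helper21.exists_mul_of_index_eq_pow P _ hj (⟨l, hl⟩ : ↥L)
  rw [hP, Sylow.coe_ofCard, Subgroup.mem_subgroupOf] at hu
  rw [Subgroup.mem_subgroupOf, Subgroup.mem_centralizer_singleton_iff] at hc
  have hl' : l = (u : G) * (c : G) := congrArg Subtype.val he
  have h1 : l * x ^ i * x * (l * x ^ i)⁻¹ = (u : G) * x * (u : G)⁻¹ := by
    have h2 : x ^ i * x * (x ^ i)⁻¹ = x := by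
      rw [← zpow_add_one, ← zpow_neg, ← zpow_add]
      simp
    have h3 : (c : G) * x * (c : G)⁻¹ = x := by
      rw [hc]; group
    calc l * x ^ i * x * (l * x ^ i)⁻¹ = l * (x ^ i * x * (x ^ i)⁻¹) * l⁻¹ := by group
      _ = (u : G) * ((c : G) * x * (c : G)⁻¹) * (u : G)⁻¹ := by rw [h2, hl']; group
      _ = (u : G) * x * (u : G)⁻¹ := by rw [h3]
  rw [h1]
  have huH : (u : G) ∈ V ⊔ A := (le_sup_left : V ≤ V ⊔ A) hu
  have hxH : x ∈ V ⊔ A := (le_sup_right : A ≤ V ⊔ A) (Subgroup.mem_zpowers x)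
  exact (V ⊔ A).mul_mem ((V ⊔ A).mul_mem huH hxH) ((V ⊔ A).inv_mem huH)

end Cfsg.Agent.helper12
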