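import Mathlib
import Cfsg.Agent.Lib_helper1_Burnside
import Cfsg.Agent.Lib_helper24_BlockOrth3
import Cfsg.Agent.Lib_helper24_FrobCongr
import Cfsg.Agent.Lib_helper24_ThirdMain
import Cfsg.Agent.Lib_helper12_McKay1
import Cfsg.Agent.Lib_helper12_Kz1

set_option autoImplicit false
set_option linter.unusedVariables false
set_option linter.unusedSectionVars false
set_option linter.style.haveILetI false

namespace Cfsg.Agent.helper12

open Cfsg
open scoped ComplexConjugate

universe u
variable {G : Type u} [Group G] [Finite G]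

/-- if `G` is the normal closure of an element of order `q` then `|G : G'|` divides `q` -/
theorem kz_index_commutator_dvd (x : G) (q : ℕ) (hxq : orderOf x = q)
    (htop : Subgroup.normalClosure ({x} : Set G) = ⊤) : (commutator G).index ∣ q := by
  set L : Subgroup G := commutator G with hLdef
  haveI hLn : L.Normal := by rw [hLdef]; infer_instance
  set A : Subgroup G := Subgroup.zpowers x with hA
  have hLA : A ⊔ L = ⊤ := by
    haveI : (A ⊔ L).Normal := Subgroup.Normal.of_commutator_le G le_sup_right
    rw [eq_top_iff, ← htop]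
    apply Subgroup.normalClosure_le_normal
    rw [Set.singleton_subset_iff]
    exact (le_sup_left : A ≤ A ⊔ L) (Subgroup.mem_zpowers x)
  have h1 : L.relIndex (A ⊔ L) = L.relIndex A := Subgroup.relIndex_sup_right A L
  rw [hLA, Subgroup.relIndex_top_right] at h1
  rw [h1]
  have h2 := Subgroup.relIndex_dvd_card L A
  rwa [hA, Nat.card_zpowers, hxq] at h2

/-- the character-theoretic contradiction in Kazarin's theorem -/
theorem kz_char_false (x y : G) {p q : ℕ} (hp : p.Prime) (hq : q.Prime) (hpq : p ≠ q) (a : ℕ)
    (hxq : orderOf x = q) (hidx : (Subgroup.centralizer ({x} : Set G)).index = p ^ a)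
    (htop : Subgroup.normalClosure ({x} : Set G) = ⊤) (hy : y ∈ commutator G)
    (hyq : orderOf y = q) : False := by
  classical
  haveI : Finite (IrrCharacter G) := helper24.irr_finite
  haveI := Fintype.ofFinite (IrrCharacter G)
  haveI := Fintype.ofFinite G
  haveI : Fact q.Prime := ⟨hq⟩
  obtain ⟨M, hM⟩ := helper24.exists_isPModular hq
  have hMp : M.IsPrime := hM.2.1.isPrime
  have hMtop : M ≠ ⊤ := hMp.ne_top
  -- claim A
  have hA : ∀ χ : IrrCharacter G,
      χ ∈ blockOf M ((helper24.oneIrr G : IrrCharacter G) : G → ℂ) →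
      ¬ p ∣ charDegree (χ : G → ℂ) → charDegree (χ : G → ℂ) = 1 := by
    intro χ hχB hpd
    obtain ⟨n, ρ, hρ, hρχ⟩ := χ.2
    have hdeg : charDegree (χ : G → ℂ) = n := by
      apply helper24.charDegree_natCast
      rw [← hρχ]; simp
    rw [hdeg] at hpd ⊢
    haveI := hρ
    have hcop : Nat.Coprime (Module.finrank ℂ (Fin n → ℂ))
        (Subgroup.centralizer ({x} : Set G)).index := by
      rw [Module.finrank_fin_fun, hidx]
      exact Nat.Coprime.pow_right a
        (Nat.coprime_comm.mp ((Nat.Prime.coprime_iff_not_dvd hp).mpr hpd))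
    rcases Cfsg.Agent.S0142.result ρ x hcop with h0 | hnorm
    · exfalso
      have h1 : MemLocalIdeal M
          (centralChar ((helper24.oneIrr G : IrrCharacter G) : G → ℂ) x
            - centralChar (χ : G → ℂ) x) := hχB x
      have h2 : centralChar ((helper24.oneIrr G : IrrCharacter G) : G → ℂ) x
          = ((p ^ a : ℕ) : ℂ) := by
        unfold centralChar
        rw [hidx]
        show ((p ^ a : ℕ) : ℂ) * 1 / 1 = _
        simp
      have h3 : centralChar (χ : G → ℂ) x = 0 := by
        unfold centralChar
        rw [← hρχ, h0]; simp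
      rw [h2, h3, sub_zero] at h1
      refine helper24.natCast_not_memLocalIdeal hM ?_ h1
      intro hd
      have := (Nat.prime_dvd_prime_iff_eq hq hp).1 (hq.dvd_of_dvd_pow hd)
      exact hpq this.symm
    · rw [Module.finrank_fin_fun] at hnorm
      obtain ⟨ω, hω⟩ := helper1.rep_scalar_of_norm_char_eq ρ x hnorm
      have hZ : helper1.scalarSubgroup ρ = ⊤ := by
        haveI := helper1.scalarSubgroup_normal ρ
        rw [eq_top_iff, ← htop]
        apply Subgroup.normalClosure_le_normal
        rw [Set.singleton_subset_iff]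
        exact ⟨ω, hω⟩
      exact helper1.dim_one_of_all_scalar ρ hρ (fun z => by
        have : z ∈ helper1.scalarSubgroup ρ := by rw [hZ]; trivial
        exact this)
  -- claim B
  have hB : ∀ χ : IrrCharacter G, charDegree (χ : G → ℂ) = 1 →
      χ ∈ blockOf M ((helper24.oneIrr G : IrrCharacter G) : G → ℂ) ∧
        (χ : G → ℂ) y = 1 ∧ (χ : G → ℂ) 1 = 1 := by
    intro χ hdeg
    have h1 : (χ : G → ℂ) 1 = 1 := by
      have h2 := helper24.char_charDegree_cast (helper24.irr_isCharacter χ.2)
      rw [hdeg] at h2
      rw [← h2]; simp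
    obtain ⟨lam, hlam⟩ := helper23.exists_hom_of_linear (helper24.irr_isCharacter χ.2) h1
    have hpow : ∀ g : G, (lam g) ^ q = 1 := by
      intro g
      let φ : G →* ℂˣ := (powMonoidHom q).comp lam
      have hker : φ.ker = ⊤ := by
        rw [eq_top_iff, ← htop]
        apply Subgroup.normalClosure_le_normal
        rw [Set.singleton_subset_iff]
        show φ x = 1
        show (lam x) ^ q = 1
        rw [← map_pow, ← hxq, pow_orderOf_eq_one, map_one]
      have : g ∈ φ.ker := by rw [hker]; trivial
      exact this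
    refine ⟨?_, ?_, h1⟩
    · intro g
      have h3 : centralChar ((helper24.oneIrr G : IrrCharacter G) : G → ℂ) g
            - centralChar (χ : G → ℂ) g
          = ((-((Subgroup.centralizer ({g} : Set G)).index : ℤ) : ℤ) : ℂ)
              * ((χ : G → ℂ) g - 1) := by
        unfold centralChar
        rw [h1]
        show (_ : ℂ) * 1 / 1 - _ = _
        push_cast; ring
      rw [h3]
      apply helper24.memLocalIdeal_mul_integral
      · apply helper24.MemIdeal.memLocalIdeal hMtop
        apply helper24.memIdeal_sub_one_of_pow hM (j := 1)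
        rw [pow_one, hlam g, ← Units.val_pow_eq_pow_val, hpow g, Units.val_one]
      · have := isIntegral_algebraMap (R := ℤ) (A := ℂ)
          (x := (-((Subgroup.centralizer ({g} : Set G)).index : ℤ) : ℤ))
        simpa using this
    · have := helper23.linear_char_mul_commutator (helper24.irr_isCharacter χ.2) h1 1 y hy
      rw [one_mul, h1] at this
      exact this
  -- block orthogonality
  have hone : ¬ q ∣ orderOf (1 : G) := by
    rw [orderOf_one, Nat.dvd_one]; exact hq.one_lt.ne'
  have hgx : IsPPart q (1 : G) 1 :=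
    ⟨1, one_mul 1, Commute.one_left 1, ⟨0, by simp⟩, hone⟩
  have hhy : IsPPart q y y :=
    ⟨1, mul_one y, Commute.one_right y, ⟨1, by rw [pow_one, hyq]⟩, hone⟩
  have hy1 : y ≠ 1 := by
    intro h
    rw [h, orderOf_one] at hyq
    exact hq.one_lt.ne' hyq.symm
  have hxy : ¬ IsConj (1 : G) y := fun h => hy1 (isConj_one_right.1 h)
  have horth := helper24.block_orthogonality_finset q M hM (helper24.oneIrr G) hgx hhy hxy
  set B0 : Finset (IrrCharacter G) := Finset.univ.filter (fun χ : IrrCharacter G =>
    χ ∈ blockOf M ((helper24.oneIrr G : IrrCharacter G) : G → ℂ)) with hB0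
  rw [← Finset.sum_filter_add_sum_filter_not B0 (fun χ : IrrCharacter G => charDegree (χ : G → ℂ) = 1)] at horth
  have hlin : ∑ χ ∈ B0.filter (fun χ : IrrCharacter G => charDegree (χ : G → ℂ) = 1),
      (χ : G → ℂ) 1 * conj ((χ : G → ℂ) y) = ((commutator G).index : ℂ) := by
    have h1 : B0.filter (fun χ : IrrCharacter G => charDegree (χ : G → ℂ) = 1)
        = Finset.univ.filter (fun χ : IrrCharacter G => charDegree (χ : G → ℂ) = 1) := by
      ext χ
      simp only [Finset.mem_filter, Finset.mem_univ, true_and, hB0]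
      constructor
      · exact fun h => h.2
      · exact fun h => ⟨(hB χ h).1, h⟩
    rw [h1]
    have h2 : ∀ χ ∈ Finset.univ.filter (fun χ : IrrCharacter G => charDegree (χ : G → ℂ) = 1),
        (χ : G → ℂ) 1 * conj ((χ : G → ℂ) y) = 1 := by
      intro χ hχ
      have hd := (Finset.mem_filter.1 hχ).2
      obtain ⟨-, h2, h3⟩ := hB χ hd
      rw [h2, h3, map_one, mul_one]
    rw [Finset.sum_congr rfl h2, Finset.sum_const, nsmul_eq_mul, mul_one, ← card_linear_irr,
      Nat.card_eq_fintype_card, Fintype.card_subtype]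
  set T : ℂ := ∑ χ ∈ B0.filter (fun χ : IrrCharacter G => ¬ charDegree (χ : G → ℂ) = 1),
    ((charDegree (χ : G → ℂ) / p : ℕ) : ℂ) * (χ : G → ℂ) y⁻¹ with hT
  have hnon : ∑ χ ∈ B0.filter (fun χ : IrrCharacter G => ¬ charDegree (χ : G → ℂ) = 1),
      (χ : G → ℂ) 1 * conj ((χ : G → ℂ) y) = (p : ℂ) * T := by
    rw [hT, Finset.mul_sum]
    refine Finset.sum_congr rfl (fun χ hχ => ?_)
    rw [Finset.mem_filter] at hχ
    have hχB : χ ∈ blockOf M ((helper24.oneIrr G : IrrCharacter G) : G → ℂ) := by
      have := hχ.1
      rw [hB0, Finset.mem_filter] at this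
      exact this.2
    have hpd : p ∣ charDegree (χ : G → ℂ) := by
      by_contra hnd
      exact hχ.2 (hA χ hχB hnd)
    have h1 : (χ : G → ℂ) 1 = (charDegree (χ : G → ℂ) : ℂ) :=
      (helper24.char_charDegree_cast (helper24.irr_isCharacter χ.2)).symm
    obtain ⟨c, hc⟩ := hpd
    rw [h1, hc, Nat.mul_div_cancel_left c hp.pos,
      ← helper24.char_inv (helper24.irr_isCharacter χ.2) y]
    push_cast
    ring
  rw [hlin, hnon] at horth
  have hTint : IsIntegral ℤ T := by
    rw [hT]
    apply IsIntegral.sum
    intro χ _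
    apply IsIntegral.mul
    · generalize (charDegree (χ : G → ℂ) / p : ℕ) = m
      have := isIntegral_algebraMap (R := ℤ) (A := ℂ) (x := (m : ℤ))
      simpa using this
    · exact helper24.char_isIntegral (helper24.irr_isCharacter χ.2) y⁻¹
  have hdvd := helper23.int_dvd_of_eq_mul_isIntegral (((commutator G).index : ℕ) : ℤ) (p : ℤ)
    (by exact_mod_cast hp.ne_zero) (-T) hTint.neg (by
      push_cast
      linear_combination horth)
  have hdvd' : p ∣ (commutator G).index := Int.natCast_dvd_natCast.1 hdvd
  have hpq' : p ∣ q := hdvd'.trans (kz_index_commutator_dvd x q hxq htop)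
  exact hpq ((Nat.prime_dvd_prime_iff_eq hp hq).1 hpq')

end Cfsg.Agent.helper12
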