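import Mathlib
import Cfsg.Agent.Lib_helper12_Kz2
import Cfsg.Agent.Lib_helper20_Class

set_option autoImplicit false
set_option linter.unusedVariables false
set_option linter.unusedSectionVars false
set_option linter.style.haveILetI false

namespace Cfsg.Agent.helper12

universe u

/-- Kazarin's theorem for elements of prime order, given the inductive hypothesis -/
theorem kz_prime_order (G : Type u) [Group G] [Finite G]
    (hIH : ∀ (H : Type u) [Group H] [Finite H], Nat.card H < Nat.card G →
      ∀ (x : H) (p : ℕ) (hp : p.Prime) (k : ℕ),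
        (Subgroup.centralizer ({x} : Set H)).index = p ^ k →
        Group.IsSolvable ↥(Subgroup.normalClosure ({x} : Set H)))
    (x : G) (p : ℕ) (hp : p.Prime) (k : ℕ)
    (hx : (Subgroup.centralizer ({x} : Set G)).index = p ^ k) (q : ℕ) (hq : q.Prime)
    (hxq : orderOf x = q) :
    Group.IsSolvable ↥(Subgroup.normalClosure ({x} : Set G)) := by
  by_cases hqp : q = p
  · subst hqp
    exact kz_pelement x hp k 1 hx (by rw [pow_one, ← hxq]; exact pow_orderOf_eq_one x)
  by_cases htop : Subgroup.normalClosure ({x} : Set G) = ⊤
  · by_cases hdvd : q ∣ Nat.card ↥(commutator G)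
    · exfalso
      haveI : Fact q.Prime := ⟨hq⟩
      obtain ⟨y', hy'⟩ := exists_prime_orderOf_dvd_card' q hdvd
      exact kz_char_false x (y' : G) hp hq (Ne.symm hqp) k hxq hx htop y'.2
        (by rw [Subgroup.orderOf_coe]; exact hy')
    · exact kz_case2 x hp hq k hx hxq htop hdvd
  · have hxL : x ∈ Subgroup.normalClosure ({x} : Set G) :=
      Subgroup.subset_normalClosure (Set.mem_singleton x)
    haveI : (Subgroup.normalClosure ({x} : Set G)).Normal := Subgroup.normalClosure_normal
    have hlt : Nat.card ↥(Subgroup.normalClosure ({x} : Set G)) < Nat.card G := by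
      by_contra hcon
      push Not at hcon
      exact htop (Subgroup.eq_top_of_le_card _ hcon)
    obtain ⟨j, hj⟩ := kz_index_sub (Subgroup.normalClosure ({x} : Set G)) x hxL hp k hx
    exact kz_R1 (Subgroup.normalClosure ({x} : Set G)) x hxL
      (hIH ↥(Subgroup.normalClosure ({x} : Set G)) hlt ⟨x, hxL⟩ p hp j hj)

/-- **Kazarin's theorem** (index form), by induction on the group order -/
theorem kazarin_aux : ∀ (n : ℕ) (G : Type u) [Group G] [Finite G], Nat.card G = n →
    ∀ (x : G) (p : ℕ) (hp : p.Prime) (k : ℕ),
      (Subgroup.centralizer ({x} : Set G)).index = p ^ k →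
      Group.IsSolvable ↥(Subgroup.normalClosure ({x} : Set G)) := by
  intro n
  induction n using Nat.strong_induction_on with
  | _ n ih =>
  intro G _ _ hn x p hp k hx
  have hIH : ∀ (H : Type u) [Group H] [Finite H], Nat.card H < Nat.card G →
      ∀ (x : H) (p : ℕ) (hp : p.Prime) (k : ℕ),
        (Subgroup.centralizer ({x} : Set H)).index = p ^ k →
        Group.IsSolvable ↥(Subgroup.normalClosure ({x} : Set H)) := by
    intro H _ _ hlt
    exact ih (Nat.card H) (hn ▸ hlt) H rfl
  by_cases hR : ∃ R : Subgroup G, R.Normal ∧ Group.IsSolvable ↥R ∧ R ≠ ⊥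
  · obtain ⟨R, hRn, hRs, hRb⟩ := hR
    haveI := hRn
    apply kz_R3 R hRs x hp k hx
    intro x' k' hk'
    have hlt : Nat.card (G ⧸ R) < Nat.card G := by
      have h1 := Subgroup.card_eq_card_quotient_mul_card_subgroup R
      have h2 : 1 < Nat.card ↥R := (Subgroup.one_lt_card_iff_ne_bot R).2 hRb
      have h3 : 0 < Nat.card (G ⧸ R) := Nat.card_pos
      rw [h1]
      nlinarith
    exact hIH (G ⧸ R) hlt x' p hp k' hk'
  · push Not at hR
    by_cases hx1 : x = 1
    · subst hx1
      have hle : Subgroup.normalClosure ({(1 : G)} : Set G) ≤ ⊥ := by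
        apply kz_normalClosure_le
        intro g
        rw [Subgroup.mem_bot]
        group
      exact kz_solvable_of_le hle (Group.isSolvable_of_comm (fun a b => Subsingleton.elim _ _))
    · exfalso
      have ho : orderOf x ≠ 1 := by
        intro h
        exact hx1 (orderOf_eq_one_iff.1 h)
      obtain ⟨q, hq, hqd⟩ := Nat.exists_prime_and_dvd ho
      set y : G := x ^ (orderOf x / q) with hy
      have hyq : orderOf y = q := orderOf_pow_orderOf_div (orderOf_pos x).ne' hqd
      have hCy : Subgroup.centralizer ({x} : Set G) ≤ Subgroup.centralizer ({y} : Set G) := by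
        intro c hc
        rw [Subgroup.mem_centralizer_singleton_iff] at hc ⊢
        have hcomm : Commute c x := hc
        exact (hcomm.pow_right _).eq
      have hdvd : (Subgroup.centralizer ({y} : Set G)).index ∣ p ^ k :=
        hx ▸ Subgroup.index_dvd_of_le hCy
      obtain ⟨j, -, hj⟩ := (Nat.dvd_prime_pow hp).1 hdvd
      have hys := kz_prime_order G hIH y p hp j hj q hq hyq
      have hbot := hR (Subgroup.normalClosure ({y} : Set G)) Subgroup.normalClosure_normal hys
      have hymem : y ∈ Subgroup.normalClosure ({y} : Set G) :=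
        Subgroup.subset_normalClosure (Set.mem_singleton y)
      rw [hbot, Subgroup.mem_bot] at hymem
      rw [hymem, orderOf_one] at hyq
      exact hq.one_lt.ne' hyq.symm

/-- **Kazarin's theorem**: an element whose conjugacy class has prime power size generates a
solvable normal subgroup. -/
theorem kazarin {G : Type u} [Group G] [Finite G] (x : G) {p : ℕ} (hp : p.Prime) (k : ℕ)
    (hx : (Subgroup.centralizer ({x} : Set G)).index = p ^ k) :
    Group.IsSolvable ↥(Subgroup.normalClosure ({x} : Set G)) :=
  kazarin_aux (Nat.card G) G rfl x p hp k hx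

theorem kazarin_class {G : Type u} [Group G] [Finite G] (x : G) {p : ℕ} (hp : p.Prime) (k : ℕ)
    (hx : (ConjClasses.mk x).carrier.ncard = p ^ k) :
    Group.IsSolvable ↥(Subgroup.normalClosure ({x} : Set G)) := by
  rw [helper20.ncard_carrier_eq_index] at hx
  exact kazarin x hp k hx

end Cfsg.Agent.helper12
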