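import Mathlib
import Cfsg.Agent.Lib_helper12_Kz3
import Cfsg.Agent.Lib_helper1_Core
import Cfsg.Agent.Lib_helper23_Solv
import Cfsg.Agent.Lib_helper14_CharP
import Cfsg.Agent.Lib_helper14_PIrr3

set_option autoImplicit false
set_option linter.unusedVariables false
set_option linter.unusedSectionVars false
set_option linter.style.haveILetI false

namespace Cfsg.Agent.helper12

open Cfsg

universe u

/-- if `O_p(G) = 1` and `x` has `p`-power class size then the conjugates of `x` commute -/
theorem kz_commute_of_pCore_bot {G : Type u} [Group G] [Finite G] {p : ℕ} (hp : p.Prime)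
    (hbot : pCore p G = ⊥) (x : G) (a : ℕ)
    (hx : (Subgroup.centralizer ({x} : Set G)).index = p ^ a) (g h : G) :
    (g * x * g⁻¹) * (h * x * h⁻¹) = (h * x * h⁻¹) * (g * x * g⁻¹) := by
  haveI : Fact p.Prime := ⟨hp⟩
  set M : Subgroup G := Subgroup.normalClosure ({x} : Set G) with hM
  haveI hMn : M.Normal := Subgroup.normalClosure_normal
  haveI hMs : Group.IsSolvable ↥M := kazarin x hp a hx
  have hxM : x ∈ M := Subgroup.subset_normalClosure (Set.mem_singleton x)
  have hreach := helper23.ppreach_top_of_solvable (Nat.card ↥M) ↥M rfl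
  have hself := helper23.fitting_self_centralizing hreach
  have hfit : fittingSubgroup ↥M = ⨆ r : Nat.Primes, pCore (r : ℕ) ↥M :=
    helper1.fitting_eq_iSup_pCore
  -- each `O_r(M)` is central in `M`
  have hcent : ∀ r : Nat.Primes, pCore (r : ℕ) ↥M ≤ Subgroup.center ↥M := by
    intro r
    haveI : Fact (r : ℕ).Prime := ⟨r.2⟩
    set Or : Subgroup G := pCoreOf (r : ℕ) M with hOr
    have hOrn : Or.Normal := helper14.pCoreOf_normal_of_normal (r : ℕ) M
    have hOrp : IsPGroup (r : ℕ) ↥Or := (helper1.pCore_isPGroup (G := ↥M) (r : ℕ)).map M.subtype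
    by_cases hrp : (r : ℕ) = p
    · have h1 : Or ≤ pCore p G := by
        rw [← hrp]
        exact helper1.le_pCore hOrn hOrp
      rw [hbot] at h1
      have h2 : pCore (r : ℕ) ↥M = ⊥ := by
        rw [eq_bot_iff]
        intro z hz
        have h3 : (z : G) ∈ Or := ⟨z, hz, rfl⟩
        have h4 := h1 h3
        rw [Subgroup.mem_bot] at h4 ⊢
        exact Subtype.ext h4
      rw [h2]
      exact bot_le
    · -- `Or ≤ C(x)`
      have hOrC : Or ≤ Subgroup.centralizer ({x} : Set G) := by
        haveI := hOrn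
        have h1 := kz_relIndex_dvd (Subgroup.centralizer ({x} : Set G)) Or
        rw [hx] at h1
        have h2 := Subgroup.relIndex_dvd_card (Subgroup.centralizer ({x} : Set G)) Or
        obtain ⟨b, hb⟩ := IsPGroup.iff_card.1 hOrp
        rw [hb] at h2
        have hcop : Nat.Coprime (p ^ a) ((r : ℕ) ^ b) :=
          Nat.Coprime.pow a b ((Nat.coprime_primes hp r.2).2 (Ne.symm hrp))
        have h3 : (Subgroup.centralizer ({x} : Set G)).relIndex Or = 1 :=
          Nat.eq_one_of_dvd_coprimes hcop h1 h2
        exact Subgroup.relIndex_eq_one.1 h3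
      have hMc : M ≤ Subgroup.centralizer (Or : Set G) := by
        apply kz_normalClosure_le
        intro c
        rw [Subgroup.mem_centralizer_iff]
        intro o ho
        have h1 : c⁻¹ * o * c ∈ Or := by
          have := hOrn.conj_mem o ho c⁻¹
          simpa using this
        have h2 := hOrC h1
        rw [Subgroup.mem_centralizer_singleton_iff] at h2
        calc o * (c * x * c⁻¹) = c * ((c⁻¹ * o * c) * x) * c⁻¹ := by group
          _ = c * (x * (c⁻¹ * o * c)) * c⁻¹ := by rw [h2]
          _ = c * x * c⁻¹ * o := by group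
      intro z hz
      rw [Subgroup.mem_center_iff]
      intro m
      have h3 : (z : G) ∈ Or := ⟨z, hz, rfl⟩
      have h4 := hMc m.2
      rw [Subgroup.mem_centralizer_iff] at h4
      apply Subtype.ext
      exact (h4 _ h3).symm
  have hFc : fittingSubgroup ↥M ≤ Subgroup.center ↥M := by
    rw [hfit]
    exact iSup_le hcent
  have hall : ∀ m : ↥M, m ∈ Subgroup.center ↥M := by
    intro m
    apply hFc
    apply hself
    rw [Subgroup.mem_centralizer_iff]
    intro f hf
    have := hFc hf
    rw [Subgroup.mem_center_iff] at this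
    exact (this m).symm
  have hy : g * x * g⁻¹ ∈ M := hMn.conj_mem x hxM g
  have hz : h * x * h⁻¹ ∈ M := hMn.conj_mem x hxM h
  have h1 := hall ⟨g * x * g⁻¹, hy⟩
  rw [Subgroup.mem_center_iff] at h1
  have h2 := h1 ⟨h * x * h⁻¹, hz⟩
  exact (congrArg Subtype.val h2).symm

/-- commutators of conjugates of an element of `p`-power class size lie in `O_p(G)` -/
theorem kz_commutator_mem_pCore {G : Type u} [Group G] [Finite G] (p : ℕ) [hp : Fact p.Prime]
    (x : G) (hx : ∃ a : ℕ, (Subgroup.centralizer ({x} : Set G)).index = p ^ a) (g h : G) :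
    (g * x * g⁻¹) * (h * x * h⁻¹) * (g * x * g⁻¹)⁻¹ * (h * x * h⁻¹)⁻¹ ∈ pCore p G := by
  obtain ⟨a, ha⟩ := hx
  set K : Subgroup G := pCore p G with hK
  haveI hKn : K.Normal := helper1.pCore_normal p
  have hKp : IsPGroup p ↥K := helper1.pCore_isPGroup p
  have hsurj := QuotientGroup.mk'_surjective K
  have hbot : pCore p (G ⧸ K) = ⊥ := by
    have h1 := helper14.pCore_comap_quot K hKp
    have h2 : pCore p (G ⧸ K)
        = ((pCore p (G ⧸ K)).comap (QuotientGroup.mk' K)).map (QuotientGroup.mk' K) :=
      (Subgroup.map_comap_eq_self_of_surjective hsurj _).symm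
    rw [h2, h1, ← hK, QuotientGroup.map_mk'_self]
  have hdvd := kz_index_map_dvd (QuotientGroup.mk' K) hsurj x
  rw [ha] at hdvd
  obtain ⟨j, -, hj⟩ := (Nat.dvd_prime_pow hp.out).1 hdvd
  have hc := kz_commute_of_pCore_bot hp.out hbot (QuotientGroup.mk' K x) j hj
    (QuotientGroup.mk' K g) (QuotientGroup.mk' K h)
  rw [← QuotientGroup.ker_mk' K, MonoidHom.mem_ker]
  simp only [map_mul, map_inv]
  rw [hc]
  group

end Cfsg.Agent.helper12
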