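import Cfsg.Agent.Lib_helper12_Mat2

set_option autoImplicit false

namespace Cfsg.Agent.helper12

open Matrix

variable {F : Type*} [Field F]

/-- matrices commuting with a nonscalar 2x2 matrix are polynomials in it -/
theorem comm_nonscalar2 {g x : Matrix (Fin 2) (Fin 2) F} (hg : ¬ IsScalar2 g) (hx : g * x = x * g) :
    ∃ α β : F, x = α • (1 : Matrix (Fin 2) (Fin 2) F) + β • g := by
  have e00 := congrFun (congrFun hx 0) 0
  have e01 := congrFun (congrFun hx 0) 1
  have e10 := congrFun (congrFun hx 1) 0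
  have e11 := congrFun (congrFun hx 1) 1
  simp [Matrix.mul_apply, Fin.sum_univ_two] at e00 e01 e10 e11
  by_cases hc : g 1 0 = 0
  · by_cases hb : g 0 1 = 0
    · have hd : g 1 1 - g 0 0 ≠ 0 := by
        intro h; exact hg ⟨hb, hc, (sub_eq_zero.mp h).symm⟩
      refine ⟨x 0 0 - (x 1 1 - x 0 0) / (g 1 1 - g 0 0) * g 0 0, (x 1 1 - x 0 0) / (g 1 1 - g 0 0), ?_⟩
      rw [hb] at e01
      rw [hc] at e10
      have h01 : x 0 1 = 0 := by
        have : x 0 1 * (g 1 1 - g 0 0) = 0 := by linear_combination -e01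
        exact (mul_eq_zero.mp this).resolve_right hd
      have h10 : x 1 0 = 0 := by
        have : x 1 0 * (g 1 1 - g 0 0) = 0 := by linear_combination e10
        exact (mul_eq_zero.mp this).resolve_right hd
      ext i j
      fin_cases i <;> fin_cases j <;> simp [h01, h10, hb, hc]
      field_simp
      ring
    · refine ⟨x 0 0 - x 0 1 / g 0 1 * g 0 0, x 0 1 / g 0 1, ?_⟩
      ext i j
      fin_cases i <;> fin_cases j <;> simp
      · field_simp
      · rw [hc]; field_simp; rw [hc] at e00; linear_combination e00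
      · field_simp; linear_combination e01
  · refine ⟨x 0 0 - x 1 0 / g 1 0 * g 0 0, x 1 0 / g 1 0, ?_⟩
    ext i j
    fin_cases i <;> fin_cases j <;> simp
    · field_simp; linear_combination -e00
    · field_simp
    · field_simp; linear_combination -e10

theorem card_centralizer_gl2_diag [Fintype F] (g : Matrix.GeneralLinearGroup (Fin 2) F)
    (h01 : (g : Matrix (Fin 2) (Fin 2) F) 0 1 = 0) (h10 : (g : Matrix (Fin 2) (Fin 2) F) 1 0 = 0)
    (hne : (g : Matrix (Fin 2) (Fin 2) F) 0 0 ≠ (g : Matrix (Fin 2) (Fin 2) F) 1 1) :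
    Nat.card (Subgroup.centralizer ({g} : Set (Matrix.GeneralLinearGroup (Fin 2) F))) = (Fintype.card F - 1) ^ 2 := by
  classical
  have hmem : ∀ x : Matrix.GeneralLinearGroup (Fin 2) F, x ∈ Subgroup.centralizer ({g} : Set (Matrix.GeneralLinearGroup (Fin 2) F)) ↔
      ((x : Matrix (Fin 2) (Fin 2) F) 0 1 = 0 ∧ (x : Matrix (Fin 2) (Fin 2) F) 1 0 = 0) := by
    intro x
    rw [Subgroup.mem_centralizer_singleton_iff]
    constructor
    · intro h
      have h' : (x : Matrix (Fin 2) (Fin 2) F) * g = g * x := by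
        have := congrArg Units.val h
        simpa using this
      have e01 := congrFun (congrFun h' 0) 1
      have e10 := congrFun (congrFun h' 1) 0
      simp [Matrix.mul_apply, Fin.sum_univ_two, h01, h10] at e01 e10
      have hd : (g : Matrix (Fin 2) (Fin 2) F) 1 1 - (g : Matrix (Fin 2) (Fin 2) F) 0 0 ≠ 0 := fun h => hne (sub_eq_zero.mp h).symm
      constructor
      · have : (x : Matrix (Fin 2) (Fin 2) F) 0 1 * ((g : Matrix (Fin 2) (Fin 2) F) 1 1 - (g : Matrix (Fin 2) (Fin 2) F) 0 0) = 0 := by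
          linear_combination e01
        exact (mul_eq_zero.mp this).resolve_right hd
      · have : (x : Matrix (Fin 2) (Fin 2) F) 1 0 * ((g : Matrix (Fin 2) (Fin 2) F) 1 1 - (g : Matrix (Fin 2) (Fin 2) F) 0 0) = 0 := by
          linear_combination -e10
        exact (mul_eq_zero.mp this).resolve_right hd
    · rintro ⟨e1, e2⟩
      apply Units.ext
      simp only [Units.val_mul]
      ext i j
      fin_cases i <;> fin_cases j <;> simp [Matrix.mul_apply, Fin.sum_univ_two, h01, h10, e1, e2, mul_comm]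
  let φ : Fˣ × Fˣ → Subgroup.centralizer ({g} : Set (Matrix.GeneralLinearGroup (Fin 2) F)) := fun uw =>
    ⟨Matrix.GeneralLinearGroup.mkOfDetNeZero !![(uw.1 : F), 0; 0, (uw.2 : F)] (by simp [Matrix.det_fin_two]),
      (hmem _).mpr ⟨by simp [Matrix.GeneralLinearGroup.mkOfDetNeZero], by simp [Matrix.GeneralLinearGroup.mkOfDetNeZero]⟩⟩
  have hφ : Function.Bijective φ := by
    constructor
    · intro a b hab
      have := congrArg (fun y : Subgroup.centralizer ({g} : Set (Matrix.GeneralLinearGroup (Fin 2) F)) => ((y : Matrix.GeneralLinearGroup (Fin 2) F) : Matrix (Fin 2) (Fin 2) F)) hab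
      simp only [φ, Matrix.GeneralLinearGroup.mkOfDetNeZero] at this
      have e0 := congrFun (congrFun this 0) 0
      have e1 := congrFun (congrFun this 1) 1
      simp at e0 e1
      exact Prod.ext (Units.ext e0) (Units.ext e1)
    · rintro ⟨x, hx⟩
      obtain ⟨e1, e2⟩ := (hmem x).mp hx
      have hdet : (x : Matrix (Fin 2) (Fin 2) F).det ≠ 0 := by
        have := (Matrix.GeneralLinearGroup.det x).ne_zero
        simpa using this
      rw [Matrix.det_fin_two, e1, zero_mul, sub_zero] at hdet
      refine ⟨(Units.mk0 _ (left_ne_zero_of_mul hdet), Units.mk0 _ (right_ne_zero_of_mul hdet)), ?_⟩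
      apply Subtype.ext
      apply Units.ext
      ext i j
      fin_cases i <;> fin_cases j <;> simp [φ, Matrix.GeneralLinearGroup.mkOfDetNeZero, e1, e2]
  rw [← Nat.card_congr (Equiv.ofBijective φ hφ), Nat.card_eq_fintype_card, Fintype.card_prod, Fintype.card_units, pow_two]

/-- no eigenvector in F^2 -/
def NoEigen2 (M : Matrix (Fin 2) (Fin 2) F) : Prop :=
  ∀ (c : F) (v : Fin 2 → F), v ≠ 0 → M.mulVec v ≠ c • v

theorem NoEigen2.not_isScalar2 {M : Matrix (Fin 2) (Fin 2) F} (h : NoEigen2 M) : ¬ IsScalar2 M := by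
  intro hs
  apply h (M 0 0) ![1, 0]
  · intro h0
    have := congrFun h0 0
    simp at this
  · ext i
    fin_cases i <;> simp [Matrix.mulVec, dotProduct, Fin.sum_univ_two, hs.2.1]

theorem NoEigen2.det_ne_zero {M : Matrix (Fin 2) (Fin 2) F} (h : NoEigen2 M) {α β : F} (hab : (α, β) ≠ 0) :
    (α • (1 : Matrix (Fin 2) (Fin 2) F) + β • M).det ≠ 0 := by
  intro hd
  obtain ⟨v, hv, hv0⟩ := Matrix.exists_mulVec_eq_zero_iff.mpr hd
  rw [Matrix.add_mulVec, Matrix.smul_mulVec, Matrix.smul_mulVec, Matrix.one_mulVec] at hv0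
  by_cases hβ : β = 0
  · subst hβ
    simp at hv0
    rcases hv0 with h1 | h1
    · exact hab (by rw [h1]; rfl)
    · exact hv h1
  · apply h (-α / β) v hv
    have : β • (M.mulVec v) = -(α • v) := eq_neg_of_add_eq_zero_right hv0
    have h2 : M.mulVec v = β⁻¹ • (β • (M.mulVec v)) := by rw [smul_smul, inv_mul_cancel₀ hβ, one_smul]
    rw [h2, this, smul_neg, smul_smul, ← neg_smul]
    congr 1
    field_simp

theorem smul_one_add_smul_injective {M : Matrix (Fin 2) (Fin 2) F} (h : ¬ IsScalar2 M) {α β α' β' : F}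
    (e : α • (1 : Matrix (Fin 2) (Fin 2) F) + β • M = α' • (1 : Matrix (Fin 2) (Fin 2) F) + β' • M) : α = α' ∧ β = β' := by
  have e00 := congrFun (congrFun e 0) 0
  have e01 := congrFun (congrFun e 0) 1
  have e10 := congrFun (congrFun e 1) 0
  have e11 := congrFun (congrFun e 1) 1
  simp at e00 e01 e10 e11
  have hβ : β = β' := by
    by_contra hne
    apply h
    have hne' : β - β' ≠ 0 := sub_ne_zero.mpr hne
    refine ⟨?_, ?_, ?_⟩
    · exact e01.resolve_left hne
    · exact e10.resolve_left hne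
    · have : (β - β') * (M 0 0 - M 1 1) = 0 := by linear_combination e00 - e11
      exact sub_eq_zero.mp ((mul_eq_zero.mp this).resolve_left hne')
  subst hβ
  exact ⟨by linear_combination e00, rfl⟩

theorem card_centralizer_gl2_noEigen [Fintype F] (g : Matrix.GeneralLinearGroup (Fin 2) F)
    (hg : NoEigen2 (g : Matrix (Fin 2) (Fin 2) F)) :
    Nat.card (Subgroup.centralizer ({g} : Set (Matrix.GeneralLinearGroup (Fin 2) F))) = Fintype.card F ^ 2 - 1 := by
  classical
  let φ : {v : F × F // v ≠ 0} → Subgroup.centralizer ({g} : Set (Matrix.GeneralLinearGroup (Fin 2) F)) := fun v =>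
    ⟨Matrix.GeneralLinearGroup.mkOfDetNeZero (v.1.1 • (1 : Matrix (Fin 2) (Fin 2) F) + v.1.2 • (g : Matrix (Fin 2) (Fin 2) F))
      (hg.det_ne_zero (α := v.1.1) (β := v.1.2) v.2), by
      rw [Subgroup.mem_centralizer_singleton_iff]
      apply Units.ext
      simp only [Units.val_mul, Matrix.GeneralLinearGroup.mkOfDetNeZero]
      change (v.1.1 • (1 : Matrix (Fin 2) (Fin 2) F) + v.1.2 • (g : Matrix (Fin 2) (Fin 2) F)) * g = g * (v.1.1 • (1 : Matrix (Fin 2) (Fin 2) F) + v.1.2 • (g : Matrix (Fin 2) (Fin 2) F))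
      simp [add_mul, mul_add]⟩
  have hφ : Function.Bijective φ := by
    constructor
    · intro a b hab
      have := congrArg (fun y : Subgroup.centralizer ({g} : Set (Matrix.GeneralLinearGroup (Fin 2) F)) => ((y : Matrix.GeneralLinearGroup (Fin 2) F) : Matrix (Fin 2) (Fin 2) F)) hab
      simp only [φ, Matrix.GeneralLinearGroup.mkOfDetNeZero] at this
      obtain ⟨e1, e2⟩ := smul_one_add_smul_injective hg.not_isScalar2 this
      exact Subtype.ext (Prod.ext e1 e2)
    · rintro ⟨x, hx⟩
      rw [Subgroup.mem_centralizer_singleton_iff] at hx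
      have hx' : (g : Matrix (Fin 2) (Fin 2) F) * x = x * g := by
        have := congrArg Units.val hx
        simpa using this.symm
      obtain ⟨α, β, hαβ⟩ := comm_nonscalar2 hg.not_isScalar2 hx'
      have hne : (α, β) ≠ (0 : F × F) := by
        intro h0
        have h1 : α = 0 := congrArg Prod.fst h0
        have h2 : β = 0 := congrArg Prod.snd h0
        rw [h1, h2] at hαβ
        simp at hαβ
      refine ⟨⟨(α, β), hne⟩, ?_⟩
      apply Subtype.ext
      apply Units.ext
      simp only [φ, Matrix.GeneralLinearGroup.mkOfDetNeZero]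
      exact hαβ.symm
  rw [← Nat.card_congr (Equiv.ofBijective φ hφ), Nat.card_eq_fintype_card, Fintype.card_subtype_compl,
    Fintype.card_prod, Fintype.card_subtype_eq, pow_two]

end Cfsg.Agent.helper12
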