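import Mathlib

set_option autoImplicit false

universe u

namespace Cfsg.Agent.helper12

open scoped IsMulCommutative

/-- Averaging lemma: a "Frobenius-like" pair `(R, y)` acting on a finite abelian group `V` of order
coprime to `|R|`, such that all norm maps of the conjugates of `y` vanish, has `R` acting
trivially. -/
theorem maz_avg {Γ V : Type*} [Group Γ] [CommGroup V] [Finite V] (φ : Γ →* MulAut V)
    (R : Subgroup Γ) [Finite R] (y : Γ) (m : ℕ) (hm : 0 < m)
    (hy : y ∈ Subgroup.normalizer (R : Set Γ))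
    (hfrob : ∀ f ∈ R, ∀ i, 0 < i → i < m → f * y ^ i = y ^ i * f → f = 1)
    (hB : ∀ f ∈ R, ∀ v : V, ∏ i ∈ Finset.range m, φ ((f * y * f⁻¹) ^ i) v = 1)
    (hcop : (Nat.card R).Coprime (Nat.card V)) :
    ∀ f ∈ R, ∀ v : V, φ f v = v := by
  classical
  haveI : Fintype R := Fintype.ofFinite R
  obtain ⟨m', rfl⟩ : ∃ m', m = m' + 1 := ⟨m - 1, by omega⟩
  have key : ∀ v : V, ∏ f : R, φ (f : Γ) v = v ^ Nat.card R := by
    intro v
    have h1 : ∏ f : R, ∏ i ∈ Finset.range (m' + 1), φ ((f : Γ) * y ^ i) v = 1 := by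
      have hf : ∀ f : R, ∏ i ∈ Finset.range (m' + 1), φ ((f : Γ) * y ^ i) v
          = φ (f : Γ) (∏ i ∈ Finset.range (m' + 1), φ (y ^ i) v) := by
        intro f
        rw [map_prod]
        apply Finset.prod_congr rfl
        intro i _
        rw [map_mul, MulAut.mul_apply]
      have h0 := hB 1 R.one_mem v
      simp only [one_mul, inv_one, mul_one] at h0
      apply Finset.prod_eq_one
      intro f _
      rw [hf f, h0, map_one]
    have h2 : ∀ i, i < m' → ∏ f : R, φ ((f : Γ) * y ^ (i + 1)) v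
        = ∏ f : R, φ (((f : Γ) * y * (f : Γ)⁻¹) ^ (i + 1)) v := by
      intro i hi
      have hzn : y ^ (i + 1) ∈ Subgroup.normalizer (R : Set Γ) := Subgroup.pow_mem _ hy _
      have hfr : ∀ f ∈ R, f * y ^ (i + 1) = y ^ (i + 1) * f → f = 1 :=
        fun f hf h => hfrob f hf (i + 1) (by omega) (by omega) h
      have hcp : ∀ f : Γ, (f * y * f⁻¹) ^ (i + 1) = f * y ^ (i + 1) * f⁻¹ := fun f => conj_pow
      simp_rw [hcp]
      generalize y ^ (i + 1) = z at hzn hfr
      have hyn : ∀ f ∈ R, z * f * z⁻¹ ∈ R := fun f hf => (Subgroup.mem_normalizer_iff.mp hzn f).mp hf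
      let β : R → R := fun f => ⟨(f : Γ) * (z * (f : Γ)⁻¹ * z⁻¹),
        R.mul_mem f.2 (hyn _ (R.inv_mem f.2))⟩
      have hβ : Function.Bijective β := by
        apply Finite.injective_iff_bijective.mp
        intro a b hab
        have e1 : (a : Γ) * (z * (a : Γ)⁻¹ * z⁻¹) = (b : Γ) * (z * (b : Γ)⁻¹ * z⁻¹) :=
          congrArg Subtype.val hab
        have e3 : (a : Γ) * z * (a : Γ)⁻¹ = (b : Γ) * z * (b : Γ)⁻¹ := by
          have := congrArg (· * z) e1
          simpa [mul_assoc] using this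
        have e2 : ((b : Γ)⁻¹ * a) * z = z * ((b : Γ)⁻¹ * a) := by
          calc ((b : Γ)⁻¹ * a) * z = (b : Γ)⁻¹ * ((a : Γ) * z * (a : Γ)⁻¹) * a := by group
            _ = (b : Γ)⁻¹ * ((b : Γ) * z * (b : Γ)⁻¹) * a := by rw [e3]
            _ = z * ((b : Γ)⁻¹ * a) := by group
        have e4 := hfr _ (R.mul_mem (R.inv_mem b.2) a.2) e2
        exact Subtype.ext (inv_mul_eq_one.mp e4).symm
      symm
      apply Fintype.prod_bijective β hβ
      intro f
      have : ((β f : R) : Γ) * z = (f : Γ) * z * (f : Γ)⁻¹ := by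
        change (f : Γ) * (z * (f : Γ)⁻¹ * z⁻¹) * z = _
        group
      rw [this]
    have h4 : ∀ f : R, ∏ i ∈ Finset.range m', φ (((f : Γ) * y * (f : Γ)⁻¹) ^ (i + 1)) v = v⁻¹ := by
      intro f
      have := hB f f.2 v
      rw [Finset.prod_range_succ', pow_zero, map_one, MulAut.one_apply] at this
      exact eq_inv_of_mul_eq_one_left this
    have h3 : ∏ f : R, ∏ i ∈ Finset.range (m' + 1), φ ((f : Γ) * y ^ i) v
        = (∏ f : R, ∏ i ∈ Finset.range m', φ (((f : Γ) * y * (f : Γ)⁻¹) ^ (i + 1)) v)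
          * ∏ f : R, φ (f : Γ) v := by
      have e1 : ∀ f : R, ∏ i ∈ Finset.range (m' + 1), φ ((f : Γ) * y ^ i) v
          = (∏ i ∈ Finset.range m', φ ((f : Γ) * y ^ (i + 1)) v) * φ (f : Γ) v := by
        intro f
        rw [Finset.prod_range_succ', pow_zero, mul_one]
      simp_rw [e1]
      rw [Finset.prod_mul_distrib]
      congr 1
      rw [Finset.prod_comm]
      rw [Finset.prod_comm (s := (Finset.univ : Finset R))]
      apply Finset.prod_congr rfl
      intro i hi
      exact h2 i (Finset.mem_range.mp hi)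
    rw [h1] at h3
    simp_rw [h4] at h3
    rw [Finset.prod_const, Finset.card_univ, ← Nat.card_eq_fintype_card, inv_pow] at h3
    exact (inv_mul_eq_one.mp h3.symm).symm
  intro g hg v
  have hw : φ g (∏ f : R, φ (f : Γ) v) = ∏ f : R, φ (f : Γ) v := by
    rw [map_prod]
    apply Fintype.prod_bijective (fun f : R => (⟨g, hg⟩ : R) * f) (Group.mulLeft_bijective _)
    intro f
    simp [map_mul, MulAut.mul_apply]
  rw [key v, map_pow] at hw
  have hu : (φ g v * v⁻¹) ^ Nat.card R = 1 := by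
    rw [mul_pow, hw, inv_pow, mul_inv_cancel]
  have hu2 : (φ g v * v⁻¹) ^ Nat.card V = 1 := pow_card_eq_one'
  have := (pow_eq_one_iff_of_coprime hcop).mp ⟨hu, hu2⟩
  exact mul_inv_eq_one.mp this

/-- Expansion of `(z γ)^k` for `z` in an abelian normal subgroup. -/
theorem maz_pow_expand {X : Type*} [Group X] (Z : Subgroup X) [Z.Normal] [IsMulCommutative Z]
    (z : Z) (γ : X) (k : ℕ) :
    ((z : X) * γ) ^ k
      = ((∏ i ∈ Finset.range k, MulAut.conjNormal (γ ^ i) z : Z) : X) * γ ^ k := by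
  induction k with
  | zero => simp
  | succ k ih =>
    rw [pow_succ, ih, Finset.prod_range_succ, Subgroup.coe_mul, MulAut.conjNormal_apply, pow_succ]
    group

/-- Internal form of the averaging lemma. -/
theorem maz_avg_internal {X : Type*} [Group X] (Z : Subgroup X) [Z.Normal] [Finite Z]
    (hZc : ∀ a ∈ Z, ∀ b ∈ Z, a * b = b * a) (R : Subgroup X) [Finite R] (y : X) (m : ℕ)
    (hm : 0 < m) (hy : y ∈ Subgroup.normalizer (R : Set X))
    (hfrob : ∀ f ∈ R, ∀ i, 0 < i → i < m → f * y ^ i = y ^ i * f → f = 1)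
    (hB : ∀ f ∈ R, ∀ v ∈ Z, (v * (f * y * f⁻¹)) ^ m = 1)
    (hcop : (Nat.card R).Coprime (Nat.card Z)) :
    ∀ f ∈ R, ∀ v ∈ Z, f * v = v * f := by
  haveI : IsMulCommutative Z := isMulCommutative_iff.mpr
    (fun a b => Subtype.ext (hZc a a.2 b b.2))
  have h := maz_avg (MulAut.conjNormal : X →* MulAut Z) R y m hm hy hfrob ?_ hcop
  · intro f hf v hv
    have h1 := h f hf ⟨v, hv⟩
    have h2 := congrArg Subtype.val h1
    rw [MulAut.conjNormal_apply] at h2
    change f * v * f⁻¹ = v at h2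
    calc f * v = f * v * f⁻¹ * f := by group
      _ = v * f := by rw [h2]
  · intro f hf v
    have hγ : (f * y * f⁻¹) ^ m = 1 := by simpa using hB f hf 1 Z.one_mem
    have h1 := maz_pow_expand Z v (f * y * f⁻¹) m
    rw [hB f hf v v.2, hγ, mul_one] at h1
    apply Subtype.ext
    rw [← h1]
    rfl

theorem maz_eq_one_of_mem {X : Type*} [Group X] (p : ℕ) [Fact p.Prime] (P : Subgroup X)
    (hP : IsPGroup p P) (k : ℕ) (hk : k.Coprime p) (d : X) (hdP : d ∈ P) (hdk : d ^ k = 1) :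
    d = 1 := by
  obtain ⟨j, hj⟩ := hP ⟨d, hdP⟩
  have hj' : d ^ (p ^ j) = 1 := by
    have := congrArg Subtype.val hj
    simpa using this
  exact (pow_eq_one_iff_of_coprime (Nat.Coprime.pow_right j hk)).mp ⟨hdk, hj'⟩

theorem maz_eq_one_of_mem' {X : Type*} [Group X] (p : ℕ) [Fact p.Prime] (P : Subgroup X)
    (hP : IsPGroup p P) (R : Subgroup X) [Finite R] (hR : (Nat.card R).Coprime p) (d : X)
    (hdR : d ∈ R) (hdP : d ∈ P) : d = 1 := by
  apply maz_eq_one_of_mem p P hP (Nat.card R) hR d hdP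
  have : (⟨d, hdR⟩ : R) ^ Nat.card R = 1 := pow_card_eq_one'
  have h2 := congrArg Subtype.val this
  rwa [Subgroup.coe_pow, Subgroup.coe_one] at h2

end Cfsg.Agent.helper12
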