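import Cfsg.Agent.Lib_helper12_Maz1

set_option autoImplicit false

universe u

namespace Cfsg.Agent.helper12

/-- Inductive theorem: under vanishing of all norms, a `p'`-group `R` (Frobenius-like with `y`)
centralizes the normal `p`-subgroup `P`. -/
theorem maz_thmT : ∀ (n : ℕ) (X : Type u) [Group X] [Finite X], Nat.card X = n →
    ∀ (p : ℕ) [Fact p.Prime] (P : Subgroup X) [P.Normal], IsPGroup p P →
    ∀ (R : Subgroup X), (Nat.card R).Coprime p → ∀ (y : X) (m : ℕ), 0 < m →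
    y ∈ Subgroup.normalizer (R : Set X) →
    (∀ f ∈ R, ∀ i, 0 < i → i < m → f * y ^ i = y ^ i * f → f = 1) →
    (∀ f ∈ R, ∀ v ∈ P, (v * (f * y * f⁻¹)) ^ m = 1) →
    ∀ f ∈ R, ∀ v ∈ P, f * v = v * f := by
  intro n
  induction n using Nat.strong_induction_on with
  | _ n ih =>
  intro X _ _ hn p _ P _ hP R hR y m hm hy hfrob hB
  by_cases hPbot : P = ⊥
  · intro f _ v hv
    rw [hPbot, Subgroup.mem_bot] at hv
    rw [hv, mul_one, one_mul]
  let Z : Subgroup X := P ⊓ Subgroup.centralizer (P : Set X)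
  have hZle : Z ≤ P := inf_le_left
  haveI hZn : Z.Normal := inferInstance
  have hZc : ∀ a ∈ Z, ∀ b ∈ Z, a * b = b * a := by
    intro a ha b hb
    exact ((Subgroup.mem_centralizer_iff.mp ha.2) b hb.1).symm
  have hZne : Z ≠ ⊥ := by
    haveI : Nontrivial P := (Subgroup.nontrivial_iff_ne_bot P).mpr hPbot
    haveI : Nontrivial (Subgroup.center P) := hP.center_nontrivial
    obtain ⟨z, hz1⟩ := exists_ne (1 : Subgroup.center P)
    intro hbot
    apply hz1
    have hzZ : ((z : P) : X) ∈ Z := by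
      refine Subgroup.mem_inf.mpr ⟨(z : P).2, ?_⟩
      rw [Subgroup.mem_centralizer_iff]
      intro h hh
      have := Subgroup.mem_center_iff.mp z.2 ⟨h, hh⟩
      exact congrArg Subtype.val this
    rw [hbot, Subgroup.mem_bot] at hzZ
    apply Subtype.ext
    apply Subtype.ext
    exact hzZ
  have hcard : Nat.card (X ⧸ Z) < n := by
    have h1 := Subgroup.card_eq_card_quotient_mul_card_subgroup Z
    have h2 : 1 < Nat.card Z := (Subgroup.one_lt_card_iff_ne_bot (H := Z)).mpr hZne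
    have h3 : 0 < Nat.card (X ⧸ Z) := Nat.card_pos
    rw [hn] at h1
    nlinarith
  have hcopZ : (Nat.card R).Coprime (Nat.card Z) := by
    obtain ⟨k, hk⟩ := (hP.to_le hZle).exists_card_eq
    rw [hk]; exact Nat.Coprime.pow_right k hR
  have hRZ : ∀ f ∈ R, ∀ v ∈ Z, f * v = v * f :=
    maz_avg_internal Z hZc R y m hm hy hfrob (fun f hf v hv => hB f hf v (hZle hv)) hcopZ
  have hπs : Function.Surjective (QuotientGroup.mk' Z) := QuotientGroup.mk'_surjective Z
  haveI : (P.map (QuotientGroup.mk' Z)).Normal :=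
    Subgroup.Normal.map inferInstance (QuotientGroup.mk' Z) hπs
  have hR' : (Nat.card (R.map (QuotientGroup.mk' Z))).Coprime p :=
    Nat.Coprime.coprime_dvd_left (Subgroup.card_map_dvd R (QuotientGroup.mk' Z)) hR
  have hy' : (QuotientGroup.mk' Z) y ∈ Subgroup.normalizer
      ((R.map (QuotientGroup.mk' Z) : Subgroup (X ⧸ Z)) : Set (X ⧸ Z)) :=
    Subgroup.le_normalizer_map (QuotientGroup.mk' Z) (Subgroup.mem_map_of_mem _ hy)
  have hRP : ∀ d, d ∈ R → d ∈ P → d = 1 :=
    fun d h1 h2 => maz_eq_one_of_mem' p P hP R hR d h1 h2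
  have hfrob' : ∀ f ∈ R.map (QuotientGroup.mk' Z), ∀ i, 0 < i → i < m →
      f * ((QuotientGroup.mk' Z) y) ^ i = ((QuotientGroup.mk' Z) y) ^ i * f → f = 1 := by
    rintro _ ⟨f, hf, rfl⟩ i hi0 him h
    have hzn : y ^ i ∈ Subgroup.normalizer (R : Set X) := Subgroup.pow_mem _ hy _
    rw [← map_pow, ← map_mul, ← map_mul] at h
    have h2 : (f * y ^ i)⁻¹ * (y ^ i * f) ∈ Z := QuotientGroup.eq.mp h
    have h3 : (f * y ^ i)⁻¹ * (y ^ i * f) ∈ R := by
      have e : (f * y ^ i)⁻¹ * (y ^ i * f) = ((y ^ i)⁻¹ * f⁻¹ * ((y ^ i)⁻¹)⁻¹) * f := by group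
      rw [e]
      exact R.mul_mem ((Subgroup.mem_normalizer_iff.mp (Subgroup.inv_mem _ hzn) _).mp
        (R.inv_mem hf)) hf
    have h4 := hRP _ h3 (hZle h2)
    have h5 : f * y ^ i = y ^ i * f := inv_mul_eq_one.mp h4
    rw [hfrob f hf i hi0 him h5, map_one]
  have hB' : ∀ f ∈ R.map (QuotientGroup.mk' Z), ∀ v ∈ P.map (QuotientGroup.mk' Z),
      (v * (f * (QuotientGroup.mk' Z) y * f⁻¹)) ^ m = 1 := by
    rintro _ ⟨f, hf, rfl⟩ _ ⟨v, hv, rfl⟩
    rw [← map_inv, ← map_mul, ← map_mul, ← map_mul, ← map_pow, hB f hf v hv, map_one]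
  have hq := ih (Nat.card (X ⧸ Z)) hcard (X ⧸ Z) rfl p (P.map (QuotientGroup.mk' Z))
    (hP.map _) (R.map (QuotientGroup.mk' Z)) hR' ((QuotientGroup.mk' Z) y) m hm hy' hfrob' hB'
  intro f hf v hv
  have h1 := hq _ (Subgroup.mem_map_of_mem (QuotientGroup.mk' Z) hf) _
    (Subgroup.mem_map_of_mem (QuotientGroup.mk' Z) hv)
  rw [← map_mul, ← map_mul] at h1
  have hc : (f * v)⁻¹ * (v * f) ∈ Z := QuotientGroup.eq.mp h1
  obtain ⟨c, hcdef⟩ : ∃ c, c = (f * v)⁻¹ * (v * f) := ⟨_, rfl⟩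
  rw [← hcdef] at hc
  have hvf : v * f = f * v * c := by rw [hcdef]; group
  have hfc : f * c = c * f := hRZ f hf c hc
  have hpow : ∀ k : ℕ, v * f ^ k = f ^ k * v * c ^ k := by
    intro k
    induction k with
    | zero => simp
    | succ k ihk =>
      have hfck : f * c ^ k = c ^ k * f := Commute.pow_right hfc k
      calc v * f ^ (k + 1) = (v * f ^ k) * f := by rw [pow_succ, mul_assoc]
        _ = f ^ k * v * (c ^ k * f) := by rw [ihk]; simp only [mul_assoc]
        _ = f ^ k * v * (f * c ^ k) := by rw [hfck]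
        _ = f ^ k * (v * f) * c ^ k := by simp only [mul_assoc]
        _ = f ^ k * (f * v * c) * c ^ k := by rw [hvf]
        _ = f ^ (k + 1) * v * c ^ (k + 1) := by
            rw [pow_succ, pow_succ']; simp only [mul_assoc]
  have h2 := hpow (orderOf f)
  rw [pow_orderOf_eq_one, mul_one, one_mul] at h2
  have h3 : c ^ orderOf f = 1 := by
    have h4 : v * c ^ orderOf f = v * 1 := by rw [mul_one]; exact h2.symm
    exact mul_left_cancel h4
  have hco : (orderOf f).Coprime p :=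
    Nat.Coprime.coprime_dvd_left (Subgroup.orderOf_dvd_natCard R hf) hR
  have h4 : c = 1 := maz_eq_one_of_mem p P hP (orderOf f) hco c (hZle hc) h3
  rw [hvf, h4, mul_one]

/-- Case A: a lift `g` of an element of order `m` with `g^m ≠ 1` yields an element of order `p m`
with `p ∣ |N|`. -/
theorem maz_lemmaA {G : Type*} [Group G] [Finite G] (N : Subgroup G) [N.Normal] (g : G) (m : ℕ)
    (hm : 0 < m) (hgm : orderOf ((QuotientGroup.mk' N) g) = m) (hne : g ^ m ≠ 1) :
    ∃ p : ℕ, p.Prime ∧ p ∣ Nat.card N ∧ ∃ g' : G, orderOf g' = p * m := by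
  have hn0 : 0 < orderOf g := orderOf_pos g
  have hmn : m ∣ orderOf g := by rw [← hgm]; exact orderOf_map_dvd _ g
  obtain ⟨k, hk⟩ := hmn
  have hgN : g ^ m ∈ N := by
    have h1 : ((QuotientGroup.mk' N) g) ^ m = 1 := by rw [← hgm]; exact pow_orderOf_eq_one _
    rw [← map_pow] at h1
    exact (QuotientGroup.eq_one_iff _).mp h1
  have hk0 : 0 < k := by
    rcases Nat.eq_zero_or_pos k with h | h
    · rw [h, mul_zero] at hk; omega
    · exact h
  have hok : orderOf (g ^ m) = k := by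
    rw [orderOf_pow, hk, Nat.gcd_eq_right (Dvd.intro k rfl), Nat.mul_div_cancel_left k hm]
  have hk1 : k ≠ 1 := by
    intro h
    rw [h, orderOf_eq_one_iff] at hok
    exact hne hok
  obtain ⟨p, hpdef⟩ : ∃ p, p = k.minFac := ⟨_, rfl⟩
  have hp : p.Prime := by rw [hpdef]; exact Nat.minFac_prime hk1
  have hpk : p ∣ k := by rw [hpdef]; exact Nat.minFac_dvd k
  obtain ⟨k', hk'⟩ := hpk
  have hk'0 : 0 < k' := by
    rcases Nat.eq_zero_or_pos k' with h | h
    · rw [h, mul_zero] at hk'; omega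
    · exact h
  refine ⟨p, hp, ?_, g ^ k', ?_⟩
  · have h1 : orderOf (g ^ m) ∣ Nat.card N := Subgroup.orderOf_dvd_natCard N hgN
    rw [hok] at h1
    exact (Dvd.intro k' hk'.symm).trans h1
  · have hdv : k' ∣ orderOf g := by
      rw [hk, hk']; exact Dvd.intro_left (m * p) (by ring)
    rw [orderOf_pow, Nat.gcd_eq_right hdv, hk, hk']
    have : m * (p * k') = (p * m) * k' := by ring
    rw [this, Nat.mul_div_cancel _ hk'0]

end Cfsg.Agent.helper12
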