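import Cfsg.Agent.Lib_helper12_Maz2

set_option autoImplicit false

universe u

namespace Cfsg.Agent.helper12

open scoped Pointwise

/-- Two subgroups of `K` whose order is the full `r`-part of `|K|` are conjugate in `K`. -/
theorem maz_sylow_conj {X : Type*} [Group X] [Finite X] (r : ℕ) [Fact r.Prime]
    (K A B : Subgroup X) (hA : A ≤ K) (hB : B ≤ K)
    (hcA : Nat.card A = r ^ (Nat.card K).factorization r)
    (hcB : Nat.card B = r ^ (Nat.card K).factorization r) :
    ∃ u ∈ K, ∀ x, x ∈ B ↔ u⁻¹ * x * u ∈ A := by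
  have eA : Nat.card (A.subgroupOf K) = r ^ (Nat.card K).factorization r := by
    rw [Nat.card_congr (Subgroup.subgroupOfEquivOfLe hA).toEquiv, hcA]
  have eB : Nat.card (B.subgroupOf K) = r ^ (Nat.card K).factorization r := by
    rw [Nat.card_congr (Subgroup.subgroupOfEquivOfLe hB).toEquiv, hcB]
  obtain ⟨u, hu⟩ := MulAction.exists_smul_eq K (Sylow.ofCard (A.subgroupOf K) eA)
    (Sylow.ofCard (B.subgroupOf K) eB)
  refine ⟨u, u.2, fun x => ?_⟩
  have h1 : (MulAut.conj u • (A.subgroupOf K) : Subgroup K) = B.subgroupOf K := by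
    have := congrArg (fun S : Sylow r K => (S : Subgroup K)) hu
    exact this
  constructor
  · intro hx
    have hxK : x ∈ K := hB hx
    have h2 : (⟨x, hxK⟩ : K) ∈ B.subgroupOf K := Subgroup.mem_subgroupOf.mpr hx
    rw [← h1, Subgroup.mem_pointwise_smul_iff_inv_smul_mem, MulAut.smul_def,
      MulAut.conj_inv_apply, Subgroup.mem_subgroupOf] at h2
    simpa using h2
  · intro hx
    have hxK : x ∈ K := by
      have e : ∀ a b : X, b = a * (a⁻¹ * b * a) * a⁻¹ := fun a b => by group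
      rw [e (u : X) x]; exact K.mul_mem (K.mul_mem u.2 (hA hx)) (K.inv_mem u.2)
    have h2 : (⟨x, hxK⟩ : K) ∈ (MulAut.conj u • (A.subgroupOf K) : Subgroup K) := by
      rw [Subgroup.mem_pointwise_smul_iff_inv_smul_mem, MulAut.smul_def,
        MulAut.conj_inv_apply, Subgroup.mem_subgroupOf]
      simpa using hx
    rw [h1, Subgroup.mem_subgroupOf] at h2
    exact h2

/-- Lifting lemma. -/
theorem maz_lemmaL {X : Type u} {Q : Type*} [Group X] [Finite X] [Group Q] [Finite Q]
    (π : X →* Q) (hπ : Function.Surjective π) (p : ℕ) [Fact p.Prime] (P : Subgroup X)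
    [P.Normal] (hP : IsPGroup p P) (hPk : P ≤ π.ker) (r : ℕ) [hrf : Fact r.Prime]
    (Rb : Subgroup Q) (hRb : IsPGroup r Rb) (hr : ¬ r ∣ Nat.card π.ker) (xb : Q) (m : ℕ)
    (hm : 0 < m) (hxb : orderOf xb = m) (hxn : xb ∈ Subgroup.normalizer (Rb : Set Q))
    (hfpf : ∀ f ∈ Rb, ∀ i, 0 < i → i < m → f * xb ^ i = xb ^ i * f → f = 1)
    (hB : ∀ g : X, orderOf (π g) = m → g ^ m = 1) :
    ∃ R : Subgroup X, R.map π = Rb ∧ Nat.card R = Nat.card Rb ∧
      ∀ f ∈ R, ∀ v ∈ P, f * v = v * f := by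
  classical
  have hrp : r.Prime := hrf.out
  obtain ⟨R₀, hR₀⟩ : ∃ R₀ : Subgroup X, R₀ = Rb.comap π := ⟨_, rfl⟩
  have hmemR₀ : ∀ x, x ∈ R₀ ↔ π x ∈ Rb := by intro x; rw [hR₀, Subgroup.mem_comap]
  have hcardX : Nat.card X = Nat.card Q * Nat.card π.ker := by
    rw [Subgroup.card_eq_card_quotient_mul_card_subgroup π.ker,
      Nat.card_congr (QuotientGroup.quotientKerEquivOfSurjective π hπ).toEquiv]
  have hcardR₀ : Nat.card R₀ = Nat.card π.ker * Nat.card Rb := by
    have h1 : Nat.card R₀ * R₀.index = Nat.card X := Subgroup.card_mul_index R₀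
    have h2 : Nat.card Rb * Rb.index = Nat.card Q := Subgroup.card_mul_index Rb
    have h3 : R₀.index = Rb.index := by rw [hR₀]; exact Subgroup.index_comap_of_surjective Rb hπ
    have h4 : 0 < Rb.index := Nat.pos_of_ne_zero Subgroup.index_ne_zero_of_finite
    rw [h3, hcardX, ← h2] at h1
    have : Nat.card R₀ * Rb.index = (Nat.card π.ker * Nat.card Rb) * Rb.index := by
      rw [h1]; ring
    exact Nat.eq_of_mul_eq_mul_right h4 this
  obtain ⟨a, ha⟩ := hRb.exists_card_eq
  have hfac : (Nat.card R₀).factorization r = a := by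
    rw [hcardR₀, ha, Nat.factorization_mul Nat.card_pos.ne' (pow_ne_zero _ hrp.ne_zero),
      Finsupp.add_apply, Nat.factorization_eq_zero_of_not_dvd hr, zero_add,
      Nat.Prime.factorization_pow hrp, Finsupp.single_eq_same]
  obtain ⟨S⟩ : Nonempty (Sylow r R₀) := inferInstance
  obtain ⟨R, hRdef⟩ : ∃ R : Subgroup X, R = (S : Subgroup R₀).map R₀.subtype := ⟨_, rfl⟩
  have hRle : R ≤ R₀ := by rw [hRdef]; exact Subgroup.map_subtype_le _
  have hRcard : Nat.card R = r ^ a := by
    rw [hRdef, Subgroup.card_map_of_injective R₀.subtype_injective, S.card_eq_multiplicity, hfac]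
  have hRcard' : Nat.card R = r ^ (Nat.card R₀).factorization r := by rw [hRcard, hfac]
  have hRk : ∀ d ∈ R, π d = 1 → d = 1 := by
    intro d hdR hd1
    have h1 : orderOf d ∣ Nat.card R := Subgroup.orderOf_dvd_natCard R hdR
    have h2 : orderOf d ∣ Nat.card π.ker := Subgroup.orderOf_dvd_natCard π.ker hd1
    have h3 : (Nat.card R).Coprime (Nat.card π.ker) := by
      rw [hRcard]
      exact Nat.Coprime.pow_left a ((Nat.Prime.coprime_iff_not_dvd hrp).mpr hr)
    have h4 : orderOf d = 1 := Nat.eq_one_of_dvd_coprimes h3 h1 h2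
    exact orderOf_eq_one_iff.mp h4
  have hRmap : R.map π = Rb := by
    apply Subgroup.eq_of_le_of_card_ge
    · rintro _ ⟨x, hx, rfl⟩
      exact (hmemR₀ x).mp (hRle hx)
    · rw [ha, ← hRcard]
      apply Nat.card_le_card_of_injective
        (fun x : R => (⟨π x, Subgroup.mem_map_of_mem π x.2⟩ : R.map π))
      intro b c hbc
      have h1 : π b = π c := congrArg Subtype.val hbc
      have h2 : π ((b : X)⁻¹ * c) = 1 := by rw [map_mul, map_inv, h1, inv_mul_cancel]
      have h3 := hRk _ (R.mul_mem (R.inv_mem b.2) c.2) h2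
      exact Subtype.ext (inv_mul_eq_one.mp h3)
  -- the lift of xb
  obtain ⟨yt, hyt⟩ := hπ xb
  have hytn : ∀ x, x ∈ R₀ ↔ yt * x * yt⁻¹ ∈ R₀ := by
    intro x
    rw [hmemR₀, hmemR₀, map_mul, map_mul, map_inv, hyt]
    exact Subgroup.mem_normalizer_iff.mp hxn (π x)
  obtain ⟨R2, hR2⟩ : ∃ R2 : Subgroup X, R2 = R.map (MulAut.conj yt).toMonoidHom := ⟨_, rfl⟩
  have hR2mem : ∀ x, x ∈ R2 ↔ yt⁻¹ * x * yt ∈ R := by
    intro x
    rw [hR2, Subgroup.mem_map]
    constructor
    · rintro ⟨b, hb, rfl⟩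
      have : yt⁻¹ * ((MulAut.conj yt).toMonoidHom b) * yt = b := by
        simp [MulAut.conj_apply, mul_assoc]
      rw [this]; exact hb
    · intro hx
      refine ⟨_, hx, ?_⟩
      simp [MulAut.conj_apply, mul_assoc]
  have hR2le : R2 ≤ R₀ := by
    intro x hx
    have h1 := hRle ((hR2mem x).mp hx)
    have h2 := (hytn _).mp h1
    have e : yt * (yt⁻¹ * x * yt) * yt⁻¹ = x := by group
    rwa [e] at h2
  have hR2card : Nat.card R2 = r ^ (Nat.card R₀).factorization r := by
    rw [hR2, Subgroup.card_map_of_injective (MulAut.conj yt).injective, hRcard']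
  obtain ⟨u, huR₀, hu⟩ := maz_sylow_conj r R₀ R2 R hR2le hRle hR2card hRcard'
  have hπu : π u ∈ R.map π := by rw [hRmap]; exact (hmemR₀ u).mp huR₀
  obtain ⟨b, hbR, hbu⟩ := hπu
  obtain ⟨y, hydef⟩ : ∃ y, y = b⁻¹ * (u * yt) := ⟨_, rfl⟩
  have hwn : u * yt ∈ Subgroup.normalizer (R : Set X) := by
    have h1 : (u * yt)⁻¹ ∈ Subgroup.normalizer (R : Set X) := by
      rw [Subgroup.mem_normalizer_iff]
      intro x
      rw [hu x, hR2mem]
      have e : yt⁻¹ * (u⁻¹ * x * u) * yt = (u * yt)⁻¹ * x * ((u * yt)⁻¹)⁻¹ := by group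
      rw [e]
    have := Subgroup.inv_mem _ h1
    rwa [inv_inv] at this
  have hy : y ∈ Subgroup.normalizer (R : Set X) := by
    rw [hydef]
    exact Subgroup.mul_mem _ (Subgroup.inv_mem _ (Subgroup.le_normalizer hbR)) hwn
  have hπy : π y = xb := by
    rw [hydef, map_mul, map_mul, map_inv, hbu, hyt, ← mul_assoc, inv_mul_cancel, one_mul]
  refine ⟨R, hRmap, by rw [hRcard, ha], ?_⟩
  by_cases hPbot : P = ⊥
  · intro f _ v hv
    rw [hPbot, Subgroup.mem_bot] at hv
    rw [hv, mul_one, one_mul]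
  have hpp : (Fact.out : p.Prime) = (Fact.out : p.Prime) := rfl
  have hp : p.Prime := Fact.out
  have hrne : r ≠ p := by
    intro h
    apply hr
    rw [h]
    obtain ⟨j, hj⟩ := hP.exists_card_eq
    have hj0 : j ≠ 0 := by
      rintro rfl
      rw [pow_zero] at hj
      exact hPbot (Subgroup.card_eq_one.mp hj)
    have h1 : p ∣ Nat.card P := by rw [hj]; exact dvd_pow_self p hj0
    exact h1.trans (Subgroup.card_dvd_of_le hPk)
  have hcopR : (Nat.card R).Coprime p := by
    rw [hRcard]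
    exact Nat.Coprime.pow_left a ((Nat.coprime_primes hrp hp).mpr hrne)
  have hfrob : ∀ f ∈ R, ∀ i, 0 < i → i < m → f * y ^ i = y ^ i * f → f = 1 := by
    intro f hf i hi0 him h
    have h1 := congrArg π h
    rw [map_mul, map_mul, map_pow, hπy] at h1
    have h2 : π f ∈ Rb := by rw [← hRmap]; exact Subgroup.mem_map_of_mem π hf
    exact hRk f hf (hfpf _ h2 i hi0 him h1)
  have hBT : ∀ f ∈ R, ∀ v ∈ P, (v * (f * y * f⁻¹)) ^ m = 1 := by
    intro f hf v hv
    apply hB
    have hv1 : π v = 1 := hPk hv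
    rw [map_mul, hv1, one_mul, map_mul, map_mul, map_inv, hπy]
    have := (MulAut.conj (π f)).orderOf_eq xb
    rw [MulAut.conj_apply] at this
    rw [this, hxb]
  exact maz_thmT (Nat.card X) X rfl p P hP R hcopR y m hm hy hfrob hBT

end Cfsg.Agent.helper12
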