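import Cfsg.Agent.Lib_helper12_Maz3
import Cfsg.Agent.S0035
import Cfsg.Agent.S0039
import Cfsg.Prelude.Def_Solvable

set_option autoImplicit false

universe u

namespace Cfsg.Agent.helper12

open scoped Pointwise

theorem maz_conj_eq_one {Q : Type*} [Group Q] (a z : Q) (h : a⁻¹ * z * a = 1) : z = 1 := by
  have e : z = a * (a⁻¹ * z * a) * a⁻¹ := by group
  rw [e, h]; group

theorem maz_frob_facts {Q : Type*} [Group Q] [Finite Q] (Fb Hb : Subgroup Q) [Fb.Normal]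
    (hHb : Cfsg.IsFrobeniusComplement Hb) (hker : Cfsg.frobeniusKernel Hb = (Fb : Set Q)) :
    Subgroup.IsComplement' Fb Hb ∧
      (∀ h ∈ Hb, h ≠ 1 → Fb ⊓ Subgroup.centralizer {h} = ⊥) ∧
      (∀ x, x ∉ Fb → ∃ g : Q, g⁻¹ * x * g ∈ Hb) := by
  obtain ⟨K, hKset, hKn, hc⟩ := Cfsg.Agent.S0035.result Hb hHb
  have hKF : K = Fb := SetLike.coe_injective (hKset.trans hker)
  have hc' : Subgroup.IsComplement' Fb Hb := hKF ▸ hc
  have hFne : Fb ≠ ⊥ := by
    intro h
    have := hc'.sup_eq_top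
    rw [h, bot_sup_eq] at this
    exact hHb.2.1 this
  refine ⟨hc', (Cfsg.Agent.S0039.result Fb Hb hc' hFne hHb.1).mp hHb, ?_⟩
  intro x hx
  have hx' : x ∉ Cfsg.frobeniusKernel Hb := by rw [hker]; exact hx
  simp only [Cfsg.frobeniusKernel, Set.mem_setOf_eq, not_or, not_forall, not_not] at hx'
  obtain ⟨-, g, hg⟩ := hx'
  refine ⟨g, ?_⟩
  rwa [Subgroup.mem_pointwise_smul_iff_inv_smul_mem, MulAut.smul_def, MulAut.conj_inv_apply]
    at hg

theorem maz_xb_facts {Q : Type*} [Group Q] [Finite Q] (Fb Hb : Subgroup Q) [hFn : Fb.Normal]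
    (hc : Subgroup.IsComplement' Fb Hb)
    (hfpf : ∀ h ∈ Hb, h ≠ 1 → Fb ⊓ Subgroup.centralizer {h} = ⊥)
    (hconj : ∀ x, x ∉ Fb → ∃ g : Q, g⁻¹ * x * g ∈ Hb) (hHne : Hb ≠ ⊥)
    (x0 : Q) (hx0 : x0 ∈ Hb) (hx0o : orderOf x0 = Nat.card Hb) (xb f0 : Q) (hf0 : f0 ∈ Fb)
    (hx0eq : xb * f0 = x0) :
    orderOf xb = Nat.card Hb ∧
      ∀ f ∈ Fb, ∀ i, 0 < i → i < Nat.card Hb → f * xb ^ i = xb ^ i * f → f = 1 := by
  obtain ⟨m, hm⟩ : ∃ m, m = Nat.card Hb := ⟨_, rfl⟩
  rw [← hm] at hx0o ⊢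
  have hm1 : 1 < m := by rw [hm]; exact (Subgroup.one_lt_card_iff_ne_bot (H := Hb)).mpr hHne
  have hdisj : ∀ z, z ∈ Fb → z ∈ Hb → z = 1 := by
    intro z h1 h2
    have h3 : z ∈ Fb ⊓ Hb := Subgroup.mem_inf.mpr ⟨h1, h2⟩
    rw [hc.disjoint.eq_bot] at h3
    exact Subgroup.mem_bot.mp h3
  have hf01 : (QuotientGroup.mk' Fb) f0 = 1 := (QuotientGroup.eq_one_iff f0).mpr hf0
  have hρ : (QuotientGroup.mk' Fb) xb = (QuotientGroup.mk' Fb) x0 := by
    rw [← hx0eq, map_mul, hf01, mul_one]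
  have hρo : orderOf ((QuotientGroup.mk' Fb) x0) = m := by
    rw [← hx0o, orderOf_eq_orderOf_iff]
    intro k
    rw [← map_pow]
    constructor
    · intro h
      have h1 : x0 ^ k ∈ Fb := (QuotientGroup.eq_one_iff _).mp h
      exact hdisj _ h1 (Hb.pow_mem hx0 k)
    · intro h; rw [h, map_one]
  have hnotF : ∀ i, 0 < i → i < m → xb ^ i ∉ Fb := by
    intro i hi0 him hmem
    have h1 : ((QuotientGroup.mk' Fb) xb) ^ i = 1 := by
      rw [← map_pow]; exact (QuotientGroup.eq_one_iff _).mpr hmem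
    rw [hρ] at h1
    have h2 := orderOf_dvd_of_pow_eq_one h1
    rw [hρo] at h2
    have := Nat.le_of_dvd hi0 h2
    omega
  constructor
  · have hx1 : xb ∉ Fb := by
      have := hnotF 1 one_pos hm1
      rwa [pow_one] at this
    obtain ⟨g, hg⟩ := hconj xb hx1
    have h1 : (g⁻¹ * xb * g) ^ m = 1 := by
      have h3 : (⟨_, hg⟩ : Hb) ^ Nat.card Hb = 1 := pow_card_eq_one'
      have h2 := congrArg Subtype.val h3
      rw [Subgroup.coe_pow, Subgroup.coe_one] at h2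
      rw [hm]; exact h2
    have h2 : xb ^ m = 1 := by
      have e : (g⁻¹ * xb * g) ^ m = g⁻¹ * xb ^ m * g := by
        have := conj_pow (a := g⁻¹) (b := xb) (i := m)
        simpa using this
      rw [e] at h1
      exact maz_conj_eq_one g _ h1
    apply Nat.dvd_antisymm (orderOf_dvd_of_pow_eq_one h2)
    rw [← hρo, ← hρ]
    exact orderOf_map_dvd _ xb
  · intro f hf i hi0 him hcomm
    have hnF := hnotF i hi0 him
    generalize xb ^ i = z at hnF hcomm
    obtain ⟨g, hg⟩ := hconj z hnF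
    have hne : g⁻¹ * z * g ≠ 1 := by
      intro h
      apply hnF
      rw [maz_conj_eq_one g z h]; exact Fb.one_mem
    have hk : g⁻¹ * f * g ∈ Fb ⊓ Subgroup.centralizer {g⁻¹ * z * g} := by
      refine Subgroup.mem_inf.mpr ⟨?_, ?_⟩
      · have := hFn.conj_mem f hf g⁻¹; simpa using this
      · rw [Subgroup.mem_centralizer_singleton_iff]
        calc g⁻¹ * f * g * (g⁻¹ * z * g) = g⁻¹ * (f * z) * g := by group
          _ = g⁻¹ * (z * f) * g := by rw [hcomm]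
          _ = g⁻¹ * z * g * (g⁻¹ * f * g) := by group
    rw [hfpf _ hg hne, Subgroup.mem_bot] at hk
    exact maz_conj_eq_one g f hk

theorem maz_card_comap {X Q : Type*} [Group X] [Finite X] [Group Q] [Finite Q] (π : X →* Q)
    (hπ : Function.Surjective π) (Rb : Subgroup Q) :
    Nat.card (Rb.comap π) = Nat.card π.ker * Nat.card Rb := by
  have hcardX : Nat.card X = Nat.card Q * Nat.card π.ker := by
    rw [Subgroup.card_eq_card_quotient_mul_card_subgroup π.ker,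
      Nat.card_congr (QuotientGroup.quotientKerEquivOfSurjective π hπ).toEquiv]
  have h1 : Nat.card (Rb.comap π) * (Rb.comap π).index = Nat.card X :=
    Subgroup.card_mul_index _
  have h2 : Nat.card Rb * Rb.index = Nat.card Q := Subgroup.card_mul_index Rb
  have h3 : (Rb.comap π).index = Rb.index := Subgroup.index_comap_of_surjective Rb hπ
  have h4 : 0 < Rb.index := Nat.pos_of_ne_zero Subgroup.index_ne_zero_of_finite
  rw [h3, hcardX, ← h2] at h1
  have : Nat.card (Rb.comap π) * Rb.index = (Nat.card π.ker * Nat.card Rb) * Rb.index := by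
    rw [h1]; ring
  exact Nat.eq_of_mul_eq_mul_right h4 this

/-- For each Sylow `p`-subgroup of `N`, a lift of `Rb` centralizing it. -/
theorem maz_lift {G : Type u} [Group G] [Finite G] (N : Subgroup G) [N.Normal]
    (r : ℕ) [hrf : Fact r.Prime] (Rb : Subgroup (G ⧸ N)) (hRb : IsPGroup r Rb)
    (hr : ¬ r ∣ Nat.card N) (xb : G ⧸ N) (m : ℕ) (hm : 0 < m) (hxb : orderOf xb = m)
    (hxn : xb ∈ Subgroup.normalizer (Rb : Set (G ⧸ N)))
    (hfpf : ∀ f ∈ Rb, ∀ i, 0 < i → i < m → f * xb ^ i = xb ^ i * f → f = 1)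
    (hB : ∀ g : G, orderOf ((QuotientGroup.mk' N) g) = m → g ^ m = 1)
    (p : ℕ) [Fact p.Prime] (P : Sylow p N) :
    ∃ Rp : Subgroup G, Rp.map (QuotientGroup.mk' N) = Rb ∧ Nat.card Rp = Nat.card Rb ∧
      ∀ f ∈ Rp, ∀ v ∈ (P : Subgroup N).map N.subtype, f * v = v * f := by
  obtain ⟨P', hP'⟩ : ∃ P' : Subgroup G, P' = (P : Subgroup N).map N.subtype := ⟨_, rfl⟩
  rw [← hP']
  have hP'N : P' ≤ N := by rw [hP']; exact Subgroup.map_subtype_le _
  have hP'p : IsPGroup p P' := by rw [hP']; exact P.isPGroup'.map _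
  have hfrat : Subgroup.normalizer (P' : Set G) ⊔ N = ⊤ := by
    rw [hP']; exact Sylow.normalizer_sup_eq_top P
  obtain ⟨X₁, hX₁⟩ : ∃ X₁ : Subgroup G, X₁ = Subgroup.normalizer (P' : Set G) := ⟨_, rfl⟩
  rw [← hX₁] at hfrat
  have hP'X : P' ≤ X₁ := by rw [hX₁]; exact Subgroup.le_normalizer
  let π₁ : X₁ →* G ⧸ N := (QuotientGroup.mk' N).comp X₁.subtype
  have hπ₁ : Function.Surjective π₁ := by
    intro q
    obtain ⟨g, rfl⟩ := QuotientGroup.mk'_surjective N q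
    have hg : g ∈ X₁ ⊔ N := by rw [hfrat]; trivial
    obtain ⟨n1, hn1, a, ha, rfl⟩ := Subgroup.mem_sup_of_normal_right.mp hg
    refine ⟨⟨n1, hn1⟩, ?_⟩
    change (QuotientGroup.mk' N) n1 = (QuotientGroup.mk' N) (n1 * a)
    have ha1 : (QuotientGroup.mk' N) a = 1 := (QuotientGroup.eq_one_iff a).mpr ha
    rw [map_mul, ha1, mul_one]
  have hkermem : ∀ x : X₁, x ∈ π₁.ker ↔ (x : G) ∈ N := by
    intro x
    rw [MonoidHom.mem_ker]
    exact QuotientGroup.eq_one_iff (x : G)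
  have hrk : ¬ r ∣ Nat.card π₁.ker := by
    intro h
    apply hr
    have h1 : π₁.ker.map X₁.subtype ≤ N := by
      rintro _ ⟨x, hx, rfl⟩
      exact (hkermem x).mp hx
    have h2 := Subgroup.card_dvd_of_le h1
    rw [Subgroup.card_map_of_injective X₁.subtype_injective] at h2
    exact h.trans h2
  haveI hPn : (P'.subgroupOf X₁).Normal := by
    rw [hX₁]; exact Subgroup.normal_in_normalizer
  have hP₁p : IsPGroup p (P'.subgroupOf X₁) := hP'p.comap_subtype
  have hP₁k : P'.subgroupOf X₁ ≤ π₁.ker := by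
    intro x hx
    rw [hkermem]
    exact hP'N (Subgroup.mem_subgroupOf.mp hx)
  have hB₁ : ∀ g : X₁, orderOf (π₁ g) = m → g ^ m = 1 := by
    intro g hg
    have := hB (g : G) hg
    apply Subtype.ext
    rw [Subgroup.coe_pow, this, Subgroup.coe_one]
  obtain ⟨R₁, hR₁map, hR₁card, hR₁c⟩ := maz_lemmaL π₁ hπ₁ p (P'.subgroupOf X₁) hP₁p hP₁k r Rb
    hRb hrk xb m hm hxb hxn hfpf hB₁
  refine ⟨R₁.map X₁.subtype, ?_, ?_, ?_⟩
  · rw [Subgroup.map_map]; exact hR₁map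
  · rw [Subgroup.card_map_of_injective X₁.subtype_injective, hR₁card]
  · rintro _ ⟨f, hf, rfl⟩ v hv
    have := hR₁c f hf ⟨v, hP'X hv⟩ (Subgroup.mem_subgroupOf.mpr hv)
    exact congrArg Subtype.val this

end Cfsg.Agent.helper12
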