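import Cfsg.Agent.Lib_helper12_Maz4

set_option autoImplicit false

universe u

namespace Cfsg.Agent.helper12

open scoped Pointwise

theorem maz_fac (k a r : ℕ) (hr : r.Prime) (hk : ¬ r ∣ k) (hk0 : k ≠ 0) :
    (k * r ^ a).factorization r = a := by
  rw [Nat.factorization_mul hk0 (pow_ne_zero _ hr.ne_zero), Finsupp.add_apply,
    Nat.factorization_eq_zero_of_not_dvd hk, zero_add, Nat.Prime.factorization_pow hr,
    Finsupp.single_eq_same]

/-- Under hypothesis (B), every Sylow subgroup of `Fb` lies in the image of `C_G(N)`. -/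
theorem maz_core {G : Type u} [Group G] [Finite G] (N : Subgroup G) [hNn : N.Normal]
    (Fb Hb : Subgroup (G ⧸ N)) [Fb.Normal] (hHb : Cfsg.IsFrobeniusComplement Hb)
    (hker : Cfsg.frobeniusKernel Hb = (Fb : Set (G ⧸ N)))
    (hcyc : IsCyclic Hb) (hcop : (Nat.card Fb).Coprime (Nat.card N))
    (hB : ∀ g : G, orderOf ((QuotientGroup.mk' N) g) = Nat.card Hb → g ^ Nat.card Hb = 1)
    (r : ℕ) [hrf : Fact r.Prime] (S : Sylow r Fb) :
    (S : Subgroup Fb).map Fb.subtype
      ≤ (Subgroup.centralizer (N : Set G)).map (QuotientGroup.mk' N) := by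
  classical
  have hrp : r.Prime := hrf.out
  obtain ⟨hc, hfpf, hconj⟩ := maz_frob_facts Fb Hb hHb hker
  obtain ⟨Rb, hRbdef⟩ : ∃ Rb : Subgroup (G ⧸ N), Rb = (S : Subgroup Fb).map Fb.subtype :=
    ⟨_, rfl⟩
  rw [← hRbdef]
  have hRbF : Rb ≤ Fb := by rw [hRbdef]; exact Subgroup.map_subtype_le _
  have hRbp : IsPGroup r Rb := by rw [hRbdef]; exact S.isPGroup'.map _
  by_cases hRbbot : Rb = ⊥
  · rw [hRbbot]; exact bot_le
  obtain ⟨a, ha⟩ := hRbp.exists_card_eq
  have ha0 : a ≠ 0 := by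
    rintro rfl
    rw [pow_zero] at ha
    exact hRbbot (Subgroup.card_eq_one.mp ha)
  have hrN : ¬ r ∣ Nat.card N := by
    intro hdiv
    have h1 : r ∣ Nat.card Rb := by rw [ha]; exact dvd_pow_self r ha0
    have h2 : r ∣ Nat.card Fb := h1.trans (Subgroup.card_dvd_of_le hRbF)
    have h3 := Nat.dvd_gcd h2 hdiv
    rw [hcop.gcd_eq_one] at h3
    exact hrp.one_lt.ne' (Nat.dvd_one.mp h3)
  obtain ⟨⟨x0, hx0H⟩, hgen⟩ := hcyc.exists_generator
  have hx0o : orderOf x0 = Nat.card Hb := by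
    have := orderOf_eq_card_of_forall_mem_zpowers hgen
    rwa [Subgroup.orderOf_mk] at this
  have hfrat : Subgroup.normalizer (Rb : Set (G ⧸ N)) ⊔ Fb = ⊤ := by
    rw [hRbdef]; exact Sylow.normalizer_sup_eq_top S
  have hx0mem : x0 ∈ Subgroup.normalizer (Rb : Set (G ⧸ N)) ⊔ Fb := by rw [hfrat]; trivial
  obtain ⟨xb, hxbn, f0, hf0, hx0eq⟩ := Subgroup.mem_sup_of_normal_right.mp hx0mem
  obtain ⟨hxbo, hxbfpf⟩ := maz_xb_facts Fb Hb hc hfpf hconj hHb.1 x0 hx0H hx0o xb f0 hf0 hx0eq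
  have hm : 0 < Nat.card Hb := Nat.card_pos
  have hfpfRb : ∀ f ∈ Rb, ∀ i, 0 < i → i < Nat.card Hb → f * xb ^ i = xb ^ i * f → f = 1 :=
    fun f hf => hxbfpf f (hRbF hf)
  have lift := fun (p : ℕ) (hp : Fact p.Prime) (P : Sylow p N) =>
    @maz_lift G _ _ N _ r hrf Rb hRbp hrN xb (Nat.card Hb) hm hxbo hxbn hfpfRb hB p hp P
  have hkerπ : (QuotientGroup.mk' N).ker = N := QuotientGroup.ker_mk' N
  have hcardR₀ : Nat.card (Rb.comap (QuotientGroup.mk' N)) = Nat.card N * Nat.card Rb := by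
    rw [maz_card_comap _ (QuotientGroup.mk'_surjective N) Rb, hkerπ]
  have hfac : (Nat.card (Rb.comap (QuotientGroup.mk' N))).factorization r = a := by
    rw [hcardR₀, ha]; exact maz_fac _ a r hrp hrN Nat.card_pos.ne'
  obtain ⟨P2⟩ : Nonempty (Sylow 2 N) := inferInstance
  obtain ⟨R, hRmap, hRcard, -⟩ := lift 2 ⟨Nat.prime_two⟩ P2
  have hRle : R ≤ Rb.comap (QuotientGroup.mk' N) := by
    intro x hx; rw [Subgroup.mem_comap, ← hRmap]; exact Subgroup.mem_map_of_mem _ hx
  have hRcard' : Nat.card R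
      = r ^ (Nat.card (Rb.comap (QuotientGroup.mk' N))).factorization r := by
    rw [hfac, hRcard, ha]
  have hcent : ∀ (p : ℕ), p.Prime → p ^ (Nat.card N).factorization p
      ∣ Nat.card (N ⊓ Subgroup.centralizer (R : Set G) : Subgroup G) := by
    intro p hp
    haveI : Fact p.Prime := ⟨hp⟩
    obtain ⟨P⟩ : Nonempty (Sylow p N) := inferInstance
    obtain ⟨Rp, hRpmap, hRpcard, hRpc⟩ := lift p ⟨hp⟩ P
    have hRple : Rp ≤ Rb.comap (QuotientGroup.mk' N) := by
      intro x hx; rw [Subgroup.mem_comap, ← hRpmap]; exact Subgroup.mem_map_of_mem _ hx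
    have hRpcard' : Nat.card Rp
        = r ^ (Nat.card (Rb.comap (QuotientGroup.mk' N))).factorization r := by
      rw [hfac, hRpcard, ha]
    obtain ⟨u, -, hu⟩ := maz_sylow_conj r _ Rp R hRple hRle hRpcard' hRcard'
    obtain ⟨P', hP'⟩ : ∃ P' : Subgroup G, P' = (P : Subgroup N).map N.subtype := ⟨_, rfl⟩
    rw [← hP'] at hRpc
    have hP'N : P' ≤ N := by rw [hP']; exact Subgroup.map_subtype_le _
    have hP'card : Nat.card P' = p ^ (Nat.card N).factorization p := by
      rw [hP', Subgroup.card_map_of_injective N.subtype_injective, P.card_eq_multiplicity]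
    have hle : P'.map (MulAut.conj u).toMonoidHom
        ≤ N ⊓ Subgroup.centralizer (R : Set G) := by
      rintro _ ⟨v, hv, rfl⟩
      refine Subgroup.mem_inf.mpr ⟨?_, ?_⟩
      · exact hNn.conj_mem v (hP'N hv) u
      · rw [Subgroup.mem_centralizer_iff]
        intro f hf
        have h1 := hRpc _ ((hu f).mp hf) v hv
        change f * (u * v * u⁻¹) = u * v * u⁻¹ * f
        calc f * (u * v * u⁻¹) = u * ((u⁻¹ * f * u) * v) * u⁻¹ := by group
          _ = u * (v * (u⁻¹ * f * u)) * u⁻¹ := by rw [h1]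
          _ = u * v * u⁻¹ * f := by group
    have := Subgroup.card_dvd_of_le hle
    rwa [Subgroup.card_map_of_injective (MulAut.conj u).injective, hP'card] at this
  have hCN : N ⊓ Subgroup.centralizer (R : Set G) = N := by
    apply Subgroup.eq_of_le_of_card_ge inf_le_left
    apply Nat.le_of_dvd Nat.card_pos
    rw [← Nat.factorization_prime_le_iff_dvd Nat.card_pos.ne' Nat.card_pos.ne']
    intro p hp
    exact (hp.pow_dvd_iff_le_factorization Nat.card_pos.ne').mp (hcent p hp)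
  rw [← hRmap]
  apply Subgroup.map_mono
  intro f hf
  rw [Subgroup.mem_centralizer_iff]
  intro n hn
  have h1 : n ∈ N ⊓ Subgroup.centralizer (R : Set G) := by rw [hCN]; exact hn
  have h2 := Subgroup.mem_centralizer_iff.mp (Subgroup.mem_inf.mp h1).2 f hf
  exact h2.symm

theorem maz_main {G : Type u} [Group G] [Finite G] (N : Subgroup G) [N.Normal]
    (Fb Hb : Subgroup (G ⧸ N)) [Fb.Normal] (hHb : Cfsg.IsFrobeniusComplement Hb)
    (hker : Cfsg.frobeniusKernel Hb = (Fb : Set (G ⧸ N)))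
    (hcyc : IsCyclic Hb) (hcop : (Nat.card Fb).Coprime (Nat.card N))
    (hnot : ¬ Fb ≤ (Subgroup.centralizer (N : Set G)).map (QuotientGroup.mk' N)) :
    ∃ p : ℕ, p.Prime ∧ p ∣ Nat.card N ∧ ∃ g : G, orderOf g = p * Nat.card Hb := by
  classical
  by_contra hcon
  have hm : 0 < Nat.card Hb := Nat.card_pos
  have hBG : ∀ g : G, orderOf ((QuotientGroup.mk' N) g) = Nat.card Hb →
      g ^ Nat.card Hb = 1 := by
    intro g hg
    by_contra hne
    exact hcon (maz_lemmaA N g _ hm hg hne)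
  apply hnot
  by_contra hle
  have hD : ((Subgroup.centralizer (N : Set G)).map (QuotientGroup.mk' N)).subgroupOf Fb
      ≠ ⊤ := by
    rw [Ne, Subgroup.subgroupOf_eq_top]; exact hle
  have hD1 : (((Subgroup.centralizer (N : Set G)).map
      (QuotientGroup.mk' N)).subgroupOf Fb).index ≠ 1 := by
    rw [Ne, Subgroup.index_eq_one]; exact hD
  obtain ⟨r, hr, hrd⟩ := Nat.exists_prime_and_dvd hD1
  haveI : Fact r.Prime := ⟨hr⟩
  obtain ⟨S⟩ : Nonempty (Sylow r Fb) := inferInstance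
  have hS := maz_core N Fb Hb hHb hker hcyc hcop hBG r S
  have hSD : (S : Subgroup Fb)
      ≤ ((Subgroup.centralizer (N : Set G)).map (QuotientGroup.mk' N)).subgroupOf Fb := by
    intro s hs
    rw [Subgroup.mem_subgroupOf]
    exact hS (Subgroup.mem_map_of_mem Fb.subtype hs)
  have h1 := Subgroup.index_dvd_of_le hSD
  exact S.not_dvd_index (hrd.trans h1)

end Cfsg.Agent.helper12
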