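import Cfsg.Agent.Lib_helper12_McKay1
import Cfsg.Agent.Lib_helper24_CharWed
import Cfsg.Agent.Lib_helper24_CharIntegral

set_option autoImplicit false

namespace Cfsg.Agent.helper12

open Cfsg
open scoped commutatorElement

theorem commutator_le_of_quotient_comm {X : Type*} [Group X] (K : Subgroup X) [K.Normal]
    (h : ∀ a b : X ⧸ K, a * b = b * a) : commutator X ≤ K := by
  rw [commutator_def, Subgroup.commutator_le]
  intro g₁ _ g₂ _
  rw [← QuotientGroup.eq_one_iff]
  show ((g₁ : X ⧸ K) * (g₂ : X ⧸ K) * (g₁ : X ⧸ K)⁻¹ * (g₂ : X ⧸ K)⁻¹) = 1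
  rw [h (g₁ : X ⧸ K) (g₂ : X ⧸ K)]
  group

/-- index of the derived subgroup, computed inside an ambient group -/
theorem derived_index_eq {G : Type*} [Group G] (H K : Subgroup G) [Finite H] (hKH : K ≤ H)
    (hnorm : ∀ n ∈ H, ∀ k ∈ K, n * k * n⁻¹ ∈ K) (hKd : K ≤ ⁅H, H⁆) (r p : ℕ) (hp : p.Prime)
    (hr : r = p ∨ r = p ^ 2) (hcard : Nat.card H = r * Nat.card K) : (commutator H).index = r := by
  haveI : (K.subgroupOf H).Normal := ⟨fun k hk n => by
    rw [Subgroup.mem_subgroupOf] at hk ⊢
    exact hnorm n n.2 k hk⟩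
  have hidx : (K.subgroupOf H).index = r := by
    have h1 := Subgroup.card_mul_index (K.subgroupOf H)
    have h2 : Nat.card (K.subgroupOf H) = Nat.card K := Nat.card_congr (Subgroup.subgroupOfEquivOfLe hKH).toEquiv
    rw [h2, hcard, mul_comm r] at h1
    have hK0 : 0 < Nat.card K := by
      haveI : Finite K := Finite.of_injective (Subgroup.inclusion hKH) (Subgroup.inclusion_injective hKH)
      exact Nat.card_pos
    exact Nat.eq_of_mul_eq_mul_left hK0 h1
  have hcomm : ∀ a b : H ⧸ K.subgroupOf H, a * b = b * a := by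
    have hc : Nat.card (H ⧸ K.subgroupOf H) = r := hidx
    haveI : Fact p.Prime := ⟨hp⟩
    rcases hr with hr | hr
    · rw [hr] at hc
      haveI := isCyclic_of_prime_card hc
      intro a b
      exact (IsCyclic.isMulCommutative (α := H ⧸ K.subgroupOf H)).is_comm.comm a b
    · rw [hr] at hc
      exact (IsPGroup.isMulCommutative_of_card_eq_prime_sq hc).is_comm.comm
  have hle : commutator H ≤ K.subgroupOf H := commutator_le_of_quotient_comm _ hcomm
  have hge : K.subgroupOf H ≤ commutator H := by
    intro x hx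
    rw [Subgroup.mem_subgroupOf] at hx
    have h3 := hKd hx
    rw [← Subgroup.map_subtype_commutator] at h3
    obtain ⟨y, hy, hyx⟩ := h3
    have : y = x := Subtype.ext hyx
    rw [← this]; exact hy
  rw [le_antisymm hle hge, hidx]

/-- in a 2-group, the characters of odd degree are the linear ones -/
theorem card_irr_odd_two_group {X : Type*} [Group X] [Finite X] (n : ℕ) (hX : Nat.card X = 2 ^ n) :
    Nat.card {χ : IrrCharacter X // ¬ 2 ∣ charDegree (χ : X → ℂ)} = (commutator X).index := by
  rw [← card_linear_irr]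
  apply Nat.card_congr
  apply Equiv.subtypeEquivRight
  intro χ
  constructor
  · intro h
    have h1 := helper24.irr_degree_dvd_card χ.2
    rw [hX] at h1
    obtain ⟨j, _, hj⟩ := (Nat.dvd_prime_pow Nat.prime_two).mp h1
    rcases Nat.eq_zero_or_pos j with rfl | hj0
    · simpa using hj
    · exfalso
      apply h
      rw [hj]
      exact dvd_pow_self 2 hj0.ne'
  · intro h
    rw [h]
    norm_num

/-- sum of squares of degrees arranged by degree -/
theorem sum_sq_by_degree {X : Type*} [Group X] [Finite X] (D : Finset ℕ)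
    (hD : ∀ χ : IrrCharacter X, charDegree (χ : X → ℂ) ∈ D) :
    ∑ d ∈ D, d ^ 2 * Nat.card {χ : IrrCharacter X // charDegree (χ : X → ℂ) = d} = Nat.card X := by
  classical
  haveI : Fintype (IrrCharacter X) := Fintype.ofFinite _
  rw [← helper24.sum_irr_degree_sq (G := X)]
  rw [← Finset.sum_fiberwise_of_maps_to (s := Finset.univ) (t := D) (g := fun χ : IrrCharacter X => charDegree (χ : X → ℂ))
    (fun χ _ => hD χ)]
  apply Finset.sum_congr rfl
  intro d _
  rw [Nat.card_eq_fintype_card, Fintype.card_subtype, mul_comm, ← smul_eq_mul, ← Finset.sum_const]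
  apply Finset.sum_congr rfl
  intro χ hχ
  rw [(Finset.mem_filter.mp hχ).2]

/-- a group of order 24 with abelianization of order 3 has exactly four characters of odd degree -/
theorem card_irr_odd_of_card_24 {X : Type*} [Group X] [Finite X] (hX : Nat.card X = 24)
    (hab : (commutator X).index = 3) :
    Nat.card {χ : IrrCharacter X // ¬ 2 ∣ charDegree (χ : X → ℂ)} = 4 := by
  classical
  haveI : Fintype (IrrCharacter X) := Fintype.ofFinite _
  have hpos : ∀ χ : IrrCharacter X, 0 < charDegree (χ : X → ℂ) := by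
    intro χ
    have h1 := helper24.irr_degree_dvd_card χ.2
    rw [hX] at h1
    exact Nat.pos_of_dvd_of_pos h1 (by norm_num)
  have hsum := helper24.sum_irr_degree_sq (G := X)
  rw [hX] at hsum
  have hle : ∀ χ : IrrCharacter X, charDegree (χ : X → ℂ) ≤ 4 := by
    intro χ
    have h1 : charDegree (χ : X → ℂ) ^ 2 ≤ 24 := by
      rw [← hsum]
      exact Finset.single_le_sum (f := fun χ : IrrCharacter X => charDegree (χ : X → ℂ) ^ 2)
        (fun _ _ => Nat.zero_le _) (Finset.mem_univ χ)
    nlinarith
  have hD : ∀ χ : IrrCharacter X, charDegree (χ : X → ℂ) ∈ ({1, 2, 3, 4} : Finset ℕ) := by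
    intro χ
    have h1 := hpos χ
    have h2 := hle χ
    simp only [Finset.mem_insert, Finset.mem_singleton]
    omega
  have hsq := sum_sq_by_degree ({1, 2, 3, 4} : Finset ℕ) hD
  rw [hX] at hsq
  have hcnt := card_pred_eq_sum (fun χ : IrrCharacter X => charDegree (χ : X → ℂ)) ({1, 2, 3, 4} : Finset ℕ) hD
    (fun d => ¬ 2 ∣ d)
  have h1 := card_linear_irr (X := X)
  rw [hab] at h1
  rw [hcnt]
  rw [Finset.sum_insert (by decide), Finset.sum_insert (by decide), Finset.sum_insert (by decide),
    Finset.sum_singleton] at hsq ⊢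
  rw [h1] at hsq ⊢
  have e1 : ¬ (2 ∣ 1) := by decide
  have e2 : (2 ∣ 2) := by decide
  have e3 : ¬ (2 ∣ 3) := by decide
  have e4 : (2 ∣ 4) := by decide
  simp only [e1, e2, e3, e4, not_true_eq_false, not_false_eq_true, if_true, if_false]
  omega

end Cfsg.Agent.helper12
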