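import Cfsg.Agent.Lib_helper12_NatMod2
import Cfsg.Agent.Lib_helper12_Sl2Unip

set_option autoImplicit false

namespace Cfsg.Agent.helper12

open Matrix
open scoped Pointwise commutatorElement

theorem sl2_det_eq' {F : Type*} [Field F] (M : Matrix.SpecialLinearGroup (Fin 2) F) :
    (M : Matrix (Fin 2) (Fin 2) F) 0 0 * (M : Matrix (Fin 2) (Fin 2) F) 1 1 -
      (M : Matrix (Fin 2) (Fin 2) F) 0 1 * (M : Matrix (Fin 2) (Fin 2) F) 1 0 = 1 := by
  have := M.2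
  rw [Matrix.det_fin_two] at this
  exact this

theorem sl2_conj_sl2E {F : Type*} [Field F] (M : Matrix.SpecialLinearGroup (Fin 2) F)
    (h : (M : Matrix (Fin 2) (Fin 2) F) 1 0 = 0) (b : F) :
    M * sl2E b * M⁻¹ = sl2E ((M : Matrix (Fin 2) (Fin 2) F) 0 0 ^ 2 * b) := by
  rw [mul_inv_eq_iff_eq_mul]
  have hdet := sl2_det_eq' M
  rw [h, mul_zero, sub_zero] at hdet
  apply Subtype.ext
  rw [Matrix.SpecialLinearGroup.coe_mul, Matrix.SpecialLinearGroup.coe_mul, sl2E_coe, sl2E_coe]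
  ext i j
  fin_cases i <;> fin_cases j
  · simp [Matrix.mul_apply, Fin.sum_univ_two, h]
  · simp only [Matrix.mul_apply, Fin.sum_univ_two, Fin.zero_eta, Fin.mk_one, Matrix.of_apply, Matrix.cons_val',
      Matrix.cons_val_zero, Matrix.cons_val_one, Matrix.cons_val_fin_one]
    linear_combination (-((M : Matrix (Fin 2) (Fin 2) F) 0 0 * b)) * hdet
  · simp [Matrix.mul_apply, Fin.sum_univ_two, h]
  · simp [Matrix.mul_apply, Fin.sum_univ_two, h]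

theorem sl2_trace_two_of_fixed {F : Type*} [Field F] (M : Matrix.SpecialLinearGroup (Fin 2) F) (x : Fin 2 → F)
    (hx : x ≠ 0) (h : (M : Matrix (Fin 2) (Fin 2) F).mulVec x = x) :
    (M : Matrix (Fin 2) (Fin 2) F).trace = 2 := by
  have h0 := congrFun h 0
  have h1 := congrFun h 1
  rw [sl2_mulVec_zero] at h0
  rw [sl2_mulVec_one] at h1
  have hdet := sl2_det_eq' M
  rw [Matrix.trace_fin_two]
  have hx0 : ((M : Matrix (Fin 2) (Fin 2) F) 0 0 + (M : Matrix (Fin 2) (Fin 2) F) 1 1 - 2) * x 0 = 0 := by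
    linear_combination (1 - (M : Matrix (Fin 2) (Fin 2) F) 1 1) * h0 + (M : Matrix (Fin 2) (Fin 2) F) 0 1 * h1 +
      x 0 * hdet
  have hx1 : ((M : Matrix (Fin 2) (Fin 2) F) 0 0 + (M : Matrix (Fin 2) (Fin 2) F) 1 1 - 2) * x 1 = 0 := by
    linear_combination (1 - (M : Matrix (Fin 2) (Fin 2) F) 0 0) * h1 + (M : Matrix (Fin 2) (Fin 2) F) 1 0 * h0 +
      x 1 * hdet
  by_contra hne
  have hne' : (M : Matrix (Fin 2) (Fin 2) F) 0 0 + (M : Matrix (Fin 2) (Fin 2) F) 1 1 - 2 ≠ 0 :=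
    fun h => hne (by linear_combination h)
  apply hx
  exact vec2_ext ((mul_eq_zero.mp hx0).resolve_left hne') ((mul_eq_zero.mp hx1).resolve_left hne')

/-- the diagonal torus element. -/
def sl2D {F : Type*} [Field F] (a : F) (ha : a ≠ 0) : Matrix.SpecialLinearGroup (Fin 2) F :=
  ⟨!![a, 0; 0, a⁻¹], by rw [Matrix.det_fin_two_of]; field_simp; ring⟩

theorem sl2D_coe {F : Type*} [Field F] (a : F) (ha : a ≠ 0) :
    ((sl2D a ha : Matrix.SpecialLinearGroup (Fin 2) F) : Matrix (Fin 2) (Fin 2) F) = !![a, 0; 0, a⁻¹] := rfl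

theorem charP_of_card_pow {p : ℕ} [Fact p.Prime] {F : Type*} [Field F] [Fintype F]
    (n : ℕ) (hF : Fintype.card F = p ^ n) : CharP F p := by
  have hpq : p ∣ Fintype.card F := by
    rw [hF]
    rcases Nat.eq_zero_or_pos n with h0 | h0
    · subst h0
      have := Fintype.one_lt_card (α := F)
      rw [hF, pow_zero] at this
      omega
    · exact dvd_pow_self p (by omega)
  exact (sl2_factorization_char (F := F) p hpq).1

namespace NatSetup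

variable {G : Type*} [Group G] {F : Type*} [Field F] {V L T : Subgroup G} (D : NatSetup F V L T)

include D

theorem mem_normalizer_of_lower_zero (g : L)
    (hc : ((D.ρ g : Matrix.SpecialLinearGroup (Fin 2) F) : Matrix (Fin 2) (Fin 2) F) 1 0 = 0) :
    (g : G) ∈ Subgroup.normalizer (T : Set G) := by
  have key : ∀ (g : L), ((D.ρ g : Matrix.SpecialLinearGroup (Fin 2) F) : Matrix (Fin 2) (Fin 2) F) 1 0 = 0 →
      ∀ h : G, h ∈ T → (g : G) * h * (g : G)⁻¹ ∈ T := by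
    intro g hc h hh
    have hhL := D.T_le hh
    obtain ⟨b, hb⟩ := (D.mem_T ⟨h, hhL⟩).mp hh
    have h1 : (g : G) * h * (g : G)⁻¹ = ((g * ⟨h, hhL⟩ * g⁻¹ : L) : G) := rfl
    rw [h1, D.mem_T]
    refine ⟨((D.ρ g : Matrix.SpecialLinearGroup (Fin 2) F) : Matrix (Fin 2) (Fin 2) F) 0 0 ^ 2 * b, ?_⟩
    rw [map_mul, map_mul, map_inv, hb, sl2_conj_sl2E _ hc]
  rw [Subgroup.mem_normalizer_iff]
  intro h
  constructor
  · exact key g hc h
  · intro hh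
    have hc' : ((D.ρ g⁻¹ : Matrix.SpecialLinearGroup (Fin 2) F) : Matrix (Fin 2) (Fin 2) F) 1 0 = 0 := by
      rw [map_inv, sl2_inv_coe']
      simp [hc]
    have h3 := key g⁻¹ hc' _ hh
    have h2 : ((g⁻¹ : L) : G) * ((g : G) * h * (g : G)⁻¹) * ((g⁻¹ : L) : G)⁻¹ = h := by
      rw [Subgroup.coe_inv]
      group
    rw [h2] at h3
    exact h3

theorem mem_cent_conj (g : L) (v : V) :
    (v : G) ∈ Subgroup.centralizer ((T.map (MulAut.conj (g : G)).toMonoidHom : Subgroup G) : Set G) ↔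
      ((D.ρ g : Matrix.SpecialLinearGroup (Fin 2) F) : Matrix (Fin 2) (Fin 2) F) 0 0 * D.φ v 1 =
        ((D.ρ g : Matrix.SpecialLinearGroup (Fin 2) F) : Matrix (Fin 2) (Fin 2) F) 1 0 * D.φ v 0 := by
  obtain ⟨w, hw, hφ⟩ := D.act g⁻¹ v
  have h1 : (v : G) ∈ Subgroup.centralizer ((T.map (MulAut.conj (g : G)).toMonoidHom : Subgroup G) : Set G) ↔
      (w : G) ∈ Subgroup.centralizer (T : Set G) := by
    rw [Subgroup.mem_centralizer_iff, Subgroup.mem_centralizer_iff]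
    constructor
    · intro h t ht
      have h2 := h ((g : G) * t * (g : G)⁻¹) (Subgroup.mem_map.mpr ⟨t, ht, rfl⟩)
      rw [hw, Subgroup.coe_inv, inv_inv]
      calc t * ((g : G)⁻¹ * v * g) = (g : G)⁻¹ * ((g : G) * t * (g : G)⁻¹ * v) * g := by group
        _ = (g : G)⁻¹ * (v * ((g : G) * t * (g : G)⁻¹)) * g := by rw [h2]
        _ = (g : G)⁻¹ * v * g * t := by group
    · intro h x hx
      obtain ⟨t, ht, rfl⟩ := Subgroup.mem_map.mp hx
      have h2 := h t ht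
      rw [hw, Subgroup.coe_inv, inv_inv] at h2
      show (g : G) * t * (g : G)⁻¹ * v = v * ((g : G) * t * (g : G)⁻¹)
      calc (g : G) * t * (g : G)⁻¹ * v = (g : G) * (t * ((g : G)⁻¹ * v * g)) * (g : G)⁻¹ := by group
        _ = (g : G) * ((g : G)⁻¹ * v * g * t) * (g : G)⁻¹ := by rw [h2]
        _ = v * ((g : G) * t * (g : G)⁻¹) := by group
  rw [h1, D.mem_cent_T, hφ, map_inv, sl2_mulVec_one, sl2_inv_coe']
  simp only [Matrix.of_apply, Matrix.cons_val', Matrix.cons_val_zero, Matrix.cons_val_one, Matrix.cons_val_fin_one]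
  constructor
  · intro h
    linear_combination h
  · intro h
    linear_combination h

theorem torus (a : F) (ha : a ≠ 0) : ∃ l : L, (l : G) ∈ Subgroup.normalizer (T : Set G) ∧
    ∀ v : V, ∃ w : V, (w : G) = (l : G) * v * (l : G)⁻¹ ∧ D.φ w = ![a * D.φ v 0, a⁻¹ * D.φ v 1] := by
  obtain ⟨l, hl⟩ := D.ρ_bij.2 (sl2D a ha)
  refine ⟨l, D.mem_normalizer_of_lower_zero l (by rw [hl, sl2D_coe]; simp), ?_⟩
  intro v
  obtain ⟨w, hw, hφ⟩ := D.act l v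
  refine ⟨w, hw, ?_⟩
  rw [hφ, hl]
  apply vec2_ext
  · rw [sl2_mulVec_zero, sl2D_coe]
    simp
  · rw [sl2_mulVec_one, sl2D_coe]
    simp

theorem eq_one_of_φ_zero (x : G) (hx : x ∈ V) (h0 : D.φ ⟨x, hx⟩ 0 = 0) (h1 : D.φ ⟨x, hx⟩ 1 = 0) : x = 1 := by
  have h2 : (⟨x, hx⟩ : V) = 1 := D.φ_bij.1 (by rw [D.φ_one]; exact vec2_ext h0 h1)
  exact congrArg Subtype.val h2

end NatSetup

theorem natmod_decomposition {G : Type*} [Group G] [Finite G] {p : ℕ} [Fact p.Prime] {F : Type*} [Field F] [Fintype F]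
    (n : ℕ) (hF : Fintype.card F = p ^ n) (V L : Subgroup G) (hnat : Cfsg.IsNaturalSL2Module F V L)
    (hf : L ⊓ Subgroup.centralizer (V : Set G) = ⊥) (S : Sylow p ↥L) (T : Subgroup G)
    (hT : T = ((S : Subgroup ↥L).map L.subtype)) :
    (∀ g ∈ L, g ∉ Subgroup.normalizer (T : Set G) →
      Cfsg.IsInternalDirectProduct (V ⊓ Subgroup.centralizer ((T : Subgroup G) : Set G))
        (V ⊓ Subgroup.centralizer ((T.map (MulAut.conj g).toMonoidHom : Subgroup G) : Set G)) V) ∧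
    (∀ x ∈ L, x ≠ 1 → (orderOf x).Coprime p → (V ⊓ Subgroup.centralizer ({x} : Set G)) = ⊥) ∧
    (∀ U : Subgroup G, U ≤ (V ⊓ Subgroup.centralizer ((T : Subgroup G) : Set G)) →
      L ⊓ Subgroup.normalizer (T : Set G) ≤ Subgroup.normalizer (U : Set G) →
      U = ⊥ ∨ U = (V ⊓ Subgroup.centralizer ((T : Subgroup G) : Set G))) ∧
    (∀ U : Subgroup G, (V ⊓ Subgroup.centralizer ((T : Subgroup G) : Set G)) ≤ U → U ≤ V →
      L ⊓ Subgroup.normalizer (T : Set G) ≤ Subgroup.normalizer (U : Set G) →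
      U = (V ⊓ Subgroup.centralizer ((T : Subgroup G) : Set G)) ∨ U = V) := by
  obtain ⟨D⟩ := natSetup_exists n hF V L hnat hf S T hT
  haveI hchar : CharP F p := charP_of_card_pow n hF
  refine ⟨?_, ?_, ?_, ?_⟩
  · intro g hgL hgN
    have hc : ((D.ρ ⟨g, hgL⟩ : Matrix.SpecialLinearGroup (Fin 2) F) : Matrix (Fin 2) (Fin 2) F) 1 0 ≠ 0 :=
      fun h => hgN (D.mem_normalizer_of_lower_zero ⟨g, hgL⟩ h)
    have hmem2 : ∀ x : G,
        x ∈ V ⊓ Subgroup.centralizer ((T.map (MulAut.conj g).toMonoidHom : Subgroup G) : Set G) ↔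
        ∃ hx : x ∈ V,
          ((D.ρ ⟨g, hgL⟩ : Matrix.SpecialLinearGroup (Fin 2) F) : Matrix (Fin 2) (Fin 2) F) 0 0 * D.φ ⟨x, hx⟩ 1 =
          ((D.ρ ⟨g, hgL⟩ : Matrix.SpecialLinearGroup (Fin 2) F) : Matrix (Fin 2) (Fin 2) F) 1 0 * D.φ ⟨x, hx⟩ 0 := by
      intro x
      rw [Subgroup.mem_inf]
      constructor
      · rintro ⟨hx, hcx⟩
        exact ⟨hx, (D.mem_cent_conj ⟨g, hgL⟩ ⟨x, hx⟩).mp hcx⟩
      · rintro ⟨hx, h⟩
        exact ⟨hx, (D.mem_cent_conj ⟨g, hgL⟩ ⟨x, hx⟩).mpr h⟩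
    refine ⟨inf_le_left, inf_le_left, ?_, ?_, ?_⟩
    · intro a ha b hb
      have h1 := D.comm ⟨a, (Subgroup.mem_inf.mp ha).1⟩ ⟨b, (Subgroup.mem_inf.mp hb).1⟩
      exact congrArg Subtype.val h1
    · rw [Subgroup.eq_bot_iff_forall]
      intro x hx
      obtain ⟨hx1, hx2⟩ := Subgroup.mem_inf.mp hx
      obtain ⟨hxV, h1⟩ := (D.mem_VC x).mp hx1
      obtain ⟨hxV', h2⟩ := (hmem2 x).mp hx2
      rw [h1, mul_zero] at h2
      have h0 : D.φ ⟨x, hxV⟩ 0 = 0 := (mul_eq_zero.mp h2.symm).resolve_left hc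
      exact D.eq_one_of_φ_zero x hxV h0 h1
    · apply le_antisymm (sup_le inf_le_left inf_le_left)
      intro v hvV
      obtain ⟨v₁, hv₁⟩ := D.φ_bij.2 ![D.φ ⟨v, hvV⟩ 0 -
        ((D.ρ ⟨g, hgL⟩ : Matrix.SpecialLinearGroup (Fin 2) F) : Matrix (Fin 2) (Fin 2) F) 0 0 * D.φ ⟨v, hvV⟩ 1 /
        ((D.ρ ⟨g, hgL⟩ : Matrix.SpecialLinearGroup (Fin 2) F) : Matrix (Fin 2) (Fin 2) F) 1 0, 0]
      obtain ⟨v₂, hv₂⟩ := D.φ_bij.2 ![
        ((D.ρ ⟨g, hgL⟩ : Matrix.SpecialLinearGroup (Fin 2) F) : Matrix (Fin 2) (Fin 2) F) 0 0 * D.φ ⟨v, hvV⟩ 1 /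
        ((D.ρ ⟨g, hgL⟩ : Matrix.SpecialLinearGroup (Fin 2) F) : Matrix (Fin 2) (Fin 2) F) 1 0, D.φ ⟨v, hvV⟩ 1]
      have hprod : v₁ * v₂ = ⟨v, hvV⟩ := D.φ_bij.1 (by
        rw [D.φ_mul, hv₁, hv₂]
        apply vec2_ext <;> simp)
      have h3 : v = (v₁ : G) * (v₂ : G) := (congrArg Subtype.val hprod).symm
      rw [h3]
      apply Subgroup.mul_mem_sup
      · exact (D.mem_VC _).mpr ⟨v₁.2, by rw [Subtype.coe_eta, hv₁]; simp⟩
      · exact (hmem2 _).mpr ⟨v₂.2, by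
          rw [Subtype.coe_eta, hv₂]
          simp
          field_simp⟩
  · intro x hxL hx1 hcop
    rw [Subgroup.eq_bot_iff_forall]
    intro v hv
    obtain ⟨hvV, hvc⟩ := Subgroup.mem_inf.mp hv
    by_contra hv1
    have hφv : D.φ ⟨v, hvV⟩ ≠ 0 := by
      intro h0
      apply hv1
      exact D.eq_one_of_φ_zero v hvV (by rw [h0]; rfl) (by rw [h0]; rfl)
    have hfix := (D.commutes_iff ⟨x, hxL⟩ ⟨v, hvV⟩).mp (Subgroup.mem_centralizer_iff.mp hvc x rfl)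
    have htr := sl2_trace_two_of_fixed _ _ hφv hfix
    have hne : D.ρ ⟨x, hxL⟩ ≠ 1 := by
      intro h
      apply hx1
      have h2 : (⟨x, hxL⟩ : L) = 1 := D.ρ_bij.1 (by rw [h, map_one])
      exact congrArg Subtype.val h2
    have hord : orderOf (D.ρ ⟨x, hxL⟩) = p := (sl2_orderOf_eq_char_iff p _).mpr ⟨hne, htr⟩
    rw [orderOf_injective D.ρ D.ρ_bij.1, Subgroup.orderOf_mk] at hord
    rw [hord, Nat.coprime_self] at hcop
    exact (Fact.out : p.Prime).one_lt.ne' hcop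
  · intro U hU hNU
    by_cases hbot : ∀ x ∈ U, x = 1
    · exact Or.inl ((Subgroup.eq_bot_iff_forall U).mpr hbot)
    right
    push Not at hbot
    obtain ⟨u₀, hu₀U, hu₀1⟩ := hbot
    apply le_antisymm hU
    obtain ⟨hu₀V, hu₀c⟩ := (D.mem_VC u₀).mp (hU hu₀U)
    have hx₀ : D.φ ⟨u₀, hu₀V⟩ 0 ≠ 0 := fun h0 => hu₀1 (D.eq_one_of_φ_zero u₀ hu₀V h0 hu₀c)
    intro w hw
    obtain ⟨hwV, hwc⟩ := (D.mem_VC w).mp hw
    by_cases hx : D.φ ⟨w, hwV⟩ 0 = 0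
    · rw [D.eq_one_of_φ_zero w hwV hx hwc]
      exact U.one_mem
    · obtain ⟨l, hlN, hl⟩ := D.torus (D.φ ⟨w, hwV⟩ 0 / D.φ ⟨u₀, hu₀V⟩ 0) (div_ne_zero hx hx₀)
      obtain ⟨w', hw', hφ'⟩ := hl ⟨u₀, hu₀V⟩
      have hmem : (l : G) * u₀ * (l : G)⁻¹ ∈ U :=
        (Subgroup.mem_normalizer_iff.mp (hNU (Subgroup.mem_inf.mpr ⟨l.2, hlN⟩)) u₀).mp hu₀U
      have h4 : w' = ⟨w, hwV⟩ := D.φ_bij.1 (by
        rw [hφ']
        apply vec2_ext
        · simp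
          field_simp
        · simp [hu₀c, hwc])
      have h5 : w = (l : G) * u₀ * (l : G)⁻¹ := by
        rw [← hw', h4]
      rw [h5]
      exact hmem
  · intro U hCU hUV hNU
    by_cases hle : U ≤ V ⊓ Subgroup.centralizer (T : Set G)
    · exact Or.inl (le_antisymm hle hCU)
    right
    apply le_antisymm hUV
    obtain ⟨u₀, hu₀U, hu₀n⟩ := SetLike.not_le_iff_exists.mp hle
    have hu₀V := hUV hu₀U
    have hy₀ : D.φ ⟨u₀, hu₀V⟩ 1 ≠ 0 := fun h => hu₀n ((D.mem_VC u₀).mpr ⟨hu₀V, h⟩)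
    intro w hwV
    by_cases hy : D.φ ⟨w, hwV⟩ 1 = 0
    · exact hCU ((D.mem_VC w).mpr ⟨hwV, hy⟩)
    · obtain ⟨l, hlN, hl⟩ := D.torus (D.φ ⟨u₀, hu₀V⟩ 1 / D.φ ⟨w, hwV⟩ 1) (div_ne_zero hy₀ hy)
      obtain ⟨u₁, hu₁, hφ₁⟩ := hl ⟨u₀, hu₀V⟩
      have hmem : (u₁ : G) ∈ U := by
        rw [hu₁]
        exact (Subgroup.mem_normalizer_iff.mp (hNU (Subgroup.mem_inf.mpr ⟨l.2, hlN⟩)) u₀).mp hu₀U
      have h2 : (((⟨w, hwV⟩ : V) * u₁⁻¹ : V) : G) ∈ V ⊓ Subgroup.centralizer (T : Set G) := by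
        rw [D.mem_VC]
        refine ⟨((⟨w, hwV⟩ : V) * u₁⁻¹ : V).2, ?_⟩
        rw [Subtype.coe_eta, D.φ_mul, D.φ_inv, hφ₁]
        simp
        field_simp
        ring
      have h3 := U.mul_mem (hCU h2) hmem
      have h4 : (((⟨w, hwV⟩ : V) * u₁⁻¹ : V) : G) * (u₁ : G) = w := by
        rw [Subgroup.coe_mul, Subgroup.coe_inv]
        simp
      rw [h4] at h3
      exact h3

end Cfsg.Agent.helper12
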