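import Cfsg.Agent.Lib_helper12_Redundant2a
import Cfsg.Agent.Lib_helper12_Card

set_option autoImplicit false

namespace Cfsg.Agent.helper12

open Matrix

variable {F : Type*} [Field F]

theorem sl2_factorization_char [Fintype F] (p : ℕ) [hp : Fact p.Prime] (hpq : p ∣ Fintype.card F) :
    CharP F p ∧ Fintype.card F = p ^ (Nat.card (Matrix.SpecialLinearGroup (Fin 2) F)).factorization p := by
  obtain ⟨p₀, hchar⟩ := CharP.exists F
  haveI := hchar
  obtain ⟨n, hp₀, hq⟩ := FiniteField.card F p₀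
  have hpp : p = p₀ := by
    rw [hq] at hpq
    exact (Nat.prime_dvd_prime_iff_eq hp.out hp₀).mp (hp.out.dvd_of_dvd_pow hpq)
  subst hpp
  refine ⟨hchar, ?_⟩
  have hq2 : 2 ≤ Fintype.card F := Fintype.one_lt_card
  have hq0 : Fintype.card F ≠ 0 := by omega
  have hsq : 4 ≤ Fintype.card F ^ 2 := by nlinarith
  have hq1 : Fintype.card F ^ 2 - 1 ≠ 0 := by omega
  have hnd : ¬ p ∣ Fintype.card F ^ 2 - 1 := by
    intro h
    have h1 : p ∣ Fintype.card F ^ 2 := Dvd.dvd.pow hpq two_ne_zero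
    have h2 : p ∣ Fintype.card F ^ 2 - (Fintype.card F ^ 2 - 1) := Nat.dvd_sub h1 h
    have h3 : Fintype.card F ^ 2 - (Fintype.card F ^ 2 - 1) = 1 := by omega
    rw [h3] at h2
    exact hp.out.one_lt.ne' (Nat.dvd_one.mp h2)
  rw [card_SL2, Nat.factorization_mul hq0 hq1, Finsupp.add_apply,
    Nat.factorization_eq_zero_of_not_dvd hnd, add_zero]
  nth_rewrite 2 [hq]
  rw [Nat.Prime.factorization_pow hp₀, Finsupp.single_eq_same]
  exact hq

theorem sl2_unip_sylow_unique [Fintype F] (p : ℕ) [hp : Fact p.Prime] (hpq : p ∣ Fintype.card F) :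
    (∃ k : ℕ, orderOf (sl2E (1 : F)) = p ^ k) ∧
      ∀ P P' : Sylow p (Matrix.SpecialLinearGroup (Fin 2) F), sl2E (1 : F) ∈ P → sl2E (1 : F) ∈ P' → P = P' := by
  obtain ⟨hchar, hq⟩ := sl2_factorization_char p hpq
  haveI := hchar
  constructor
  · have h1 : (sl2E (1 : F)) ^ p = 1 := by
      have h2 : sl2E (1 : F) = sl2UnipHom F (Multiplicative.ofAdd 1) := rfl
      rw [h2, ← map_pow, ← ofAdd_nsmul, nsmul_eq_mul, mul_one, CharP.cast_eq_zero, ofAdd_zero, map_one]
    rcases (Nat.dvd_prime hp.out).mp (orderOf_dvd_of_pow_eq_one h1) with h | h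
    · exact ⟨0, by rw [h, pow_zero]⟩
    · exact ⟨1, by rw [h, pow_one]⟩
  · have hUcard : Nat.card (sl2Unip F) = p ^ (Nat.card (Matrix.SpecialLinearGroup (Fin 2) F)).factorization p := by
      rw [card_sl2Unip, ← hq]
    have key : ∀ R : Sylow p (Matrix.SpecialLinearGroup (Fin 2) F), sl2E (1 : F) ∈ R →
        R = Sylow.ofCard (sl2Unip F) hUcard := by
      intro R hR
      obtain ⟨g, hg⟩ := MulAction.exists_smul_eq (Matrix.SpecialLinearGroup (Fin 2) F) (Sylow.ofCard (sl2Unip F) hUcard) R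
      have hmemU : ∀ y, y ∈ Sylow.ofCard (sl2Unip F) hUcard ↔ y ∈ sl2Unip F := by
        intro y
        have : y ∈ Sylow.ofCard (sl2Unip F) hUcard ↔ y ∈ ((Sylow.ofCard (sl2Unip F) hUcard : Sylow p _) : Subgroup _) := Iff.rfl
        rw [this, Sylow.coe_ofCard]
      have h1 : g⁻¹ * sl2E (1 : F) * g ∈ sl2Unip F := by
        rw [← hg, sylow_mem_smul_iff, hmemU] at hR
        exact hR
      have hle : (R : Subgroup (Matrix.SpecialLinearGroup (Fin 2) F)) ≤ sl2Unip F := by
        intro x hx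
        have hx' : x ∈ R := hx
        rw [← hg, sylow_mem_smul_iff, hmemU] at hx'
        have h2 := sl2Unip_conj g 1 one_ne_zero h1 _ hx'
        have h3 : g * (g⁻¹ * x * g) * g⁻¹ = x := by group
        rw [h3] at h2
        exact h2
      apply Sylow.ext
      rw [Sylow.coe_ofCard]
      have hpg : IsPGroup p (sl2Unip F) := IsPGroup.of_card hUcard
      exact (R.is_maximal' hpg hle).symm
    intro P P' h h'
    rw [key P h, key P' h']

end Cfsg.Agent.helper12
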