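import Cfsg.Agent.Lib_helper12_Sl2Vanish

set_option autoImplicit false

namespace Cfsg.Agent.helper12

open Matrix Cfsg

variable {F : Type*} [Field F]

theorem sl2UT_commute_iff (a a' : Fˣ) (x x' : F) :
    sl2UT a x * sl2UT a' x' = sl2UT a' x' * sl2UT a x ↔
      x' * ((a : F) - ((a⁻¹ : Fˣ) : F)) = x * ((a' : F) - ((a'⁻¹ : Fˣ) : F)) := by
  simp only [Units.val_inv_eq_inv_val]
  constructor
  · intro h
    have h' := congrArg Subtype.val h
    rw [Matrix.SpecialLinearGroup.coe_mul, Matrix.SpecialLinearGroup.coe_mul] at h'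
    have h'' := congrFun (congrFun h' 0) 1
    simp [sl2UT, Matrix.mul_apply, Fin.sum_univ_two] at h''
    linear_combination h''
  · intro h
    apply Subtype.ext
    rw [Matrix.SpecialLinearGroup.coe_mul, Matrix.SpecialLinearGroup.coe_mul]
    simp only [sl2UT]
    ext i j
    fin_cases i <;> fin_cases j <;> simp [Matrix.mul_apply, Fin.sum_univ_two, mul_comm]
    linear_combination h

theorem count_line [Fintype F] [DecidableEq F] (c c' : F) :
    (∑ x : F, ∑ x' : F, if x' * c = x * c' then 1 else 0)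
      = if c = 0 ∧ c' = 0 then Fintype.card F ^ 2 else Fintype.card F := by
  by_cases hc : c = 0
  · subst hc
    by_cases hc' : c' = 0
    · subst hc'
      simp [sq]
    · rw [if_neg (by tauto)]
      have : ∀ x : F, (∑ x' : F, if x' * 0 = x * c' then 1 else 0) = if x = 0 then Fintype.card F else 0 := by
        intro x
        by_cases hx : x = 0
        · subst hx; simp
        · have : ¬ (0 = x * c') := fun h => (mul_ne_zero hx hc') h.symm
          simp [hx, this]
      rw [Finset.sum_congr rfl (fun x _ => this x)]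
      simp
  · rw [if_neg (by tauto)]
    have : ∀ x : F, (∑ x' : F, if x' * c = x * c' then 1 else 0) = 1 := by
      intro x
      have h1 : ∀ x' : F, (x' * c = x * c') ↔ x' = x * c' / c := by
        intro x'
        rw [eq_div_iff hc]
      simp only [h1]
      simp
    rw [Finset.sum_congr rfl (fun x _ => this x)]
    simp

theorem units_sub_inv_eq_zero_iff (a : Fˣ) : (a : F) - ((a⁻¹ : Fˣ) : F) = 0 ↔ a = 1 ∨ a = -1 := by
  have hinv : (a : F) * ((a⁻¹ : Fˣ) : F) = 1 := by rw [← Units.val_mul, mul_inv_cancel, Units.val_one]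
  constructor
  · intro h
    have h1 : ((a⁻¹ : Fˣ) : F) = (a : F) := (sub_eq_zero.mp h).symm
    rw [h1] at hinv
    have h2 : ((a : F) - 1) * ((a : F) + 1) = 0 := by linear_combination hinv
    rcases mul_eq_zero.mp h2 with h3 | h3
    · left
      apply Units.ext
      rw [Units.val_one]
      exact sub_eq_zero.mp h3
    · right
      apply Units.ext
      rw [Units.val_neg, Units.val_one]
      exact eq_neg_of_add_eq_zero_left h3
  · rintro (rfl | rfl)
    · simp
    · simp

theorem card_units_sub_inv_eq_zero [Fintype F] [DecidableEq F] (hodd : Odd (Fintype.card F)) :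
    (∑ a : Fˣ, if (a : F) - ((a⁻¹ : Fˣ) : F) = 0 then 1 else 0) = 2 := by
  have h2 : (2 : F) ≠ 0 := two_ne_zero_of_odd_card hodd
  have hne : (1 : Fˣ) ≠ -1 := by
    intro h
    have := congrArg Units.val h
    rw [Units.val_neg, Units.val_one] at this
    apply h2
    linear_combination this
  rw [← Finset.card_filter]
  have : Finset.univ.filter (fun a : Fˣ => (a : F) - ((a⁻¹ : Fˣ) : F) = 0) = {1, -1} := by
    ext a
    simp only [Finset.mem_filter, Finset.mem_univ, true_and, Finset.mem_insert, Finset.mem_singleton]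
    exact units_sub_inv_eq_zero_iff a
  rw [this, Finset.card_pair hne]

theorem sum_ite_and_sq {α : Type*} [Fintype α] (P : α → Prop) [DecidablePred P] (A B : ℕ) (hAB : B ≤ A) :
    (∑ a : α, ∑ a' : α, if P a ∧ P a' then A else B)
      = Fintype.card α ^ 2 * B + (∑ a : α, if P a then 1 else 0) ^ 2 * (A - B) := by
  have h : ∀ a a' : α, (if P a ∧ P a' then A else B)
      = B + (if P a then 1 else 0) * ((if P a' then 1 else 0) * (A - B)) := by
    intro a a'
    by_cases h1 : P a <;> by_cases h2 : P a' <;> simp [h1, h2]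
    omega
  simp only [h]
  simp only [Finset.sum_add_distrib, Finset.sum_const, Finset.card_univ, smul_eq_mul, ← Finset.mul_sum,
    ← Finset.sum_mul]
  ring

/-- S2437 -/
theorem card_conjClasses_sl2Borel [Fintype F] (hodd : Odd (Fintype.card F)) :
    Nat.card (ConjClasses ((Cfsg.upperTriangularGL 2 F).comap Matrix.SpecialLinearGroup.toGL)) = Fintype.card F + 3 := by
  classical
  change Nat.card (ConjClasses (sl2Borel F)) = _
  have hcomm := card_comm_eq_card_conjClasses_mul_card (sl2Borel F)
  rw [card_sl2Borel] at hcomm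
  let φ : Fˣ × F → sl2Borel F := fun p => ⟨sl2UT p.1 p.2, (mem_sl2Borel _).mpr (by simp [sl2UT])⟩
  have hφ : Function.Bijective φ := by
    constructor
    · intro p p' h
      exact sl2UT_injective (congrArg Subtype.val h)
    · rintro ⟨g, hg⟩
      obtain ⟨p, hp⟩ := sl2UT_surj g ((mem_sl2Borel g).mp hg)
      exact ⟨p, Subtype.ext hp⟩
  let e := Equiv.ofBijective φ hφ
  have hcount : Nat.card {p : sl2Borel F × sl2Borel F // Commute p.1 p.2}
      = Nat.card {t : (Fˣ × F) × (Fˣ × F) // t.2.2 * ((t.1.1 : F) - ((t.1.1⁻¹ : Fˣ) : F))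
          = t.1.2 * ((t.2.1 : F) - ((t.2.1⁻¹ : Fˣ) : F))} := by
    symm
    apply Nat.card_congr
    refine Equiv.subtypeEquiv (Equiv.prodCongr e e) ?_
    rintro ⟨⟨a, x⟩, ⟨a', x'⟩⟩
    rw [← sl2UT_commute_iff]
    constructor
    · intro h
      exact Subtype.ext h
    · intro h
      exact congrArg Subtype.val h
  rw [hcount, Nat.card_eq_fintype_card, Fintype.card_subtype, Finset.card_filter] at hcomm
  rw [Fintype.sum_prod_type] at hcomm
  simp only [Fintype.sum_prod_type] at hcomm
  have h1 : ∀ a : Fˣ, (∑ x : F, ∑ a' : Fˣ, ∑ x' : F,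
      if x' * ((a : F) - ((a⁻¹ : Fˣ) : F)) = x * ((a' : F) - ((a'⁻¹ : Fˣ) : F)) then 1 else 0)
      = ∑ a' : Fˣ, if (a : F) - ((a⁻¹ : Fˣ) : F) = 0 ∧ (a' : F) - ((a'⁻¹ : Fˣ) : F) = 0
          then Fintype.card F ^ 2 else Fintype.card F := by
    intro a
    rw [Finset.sum_comm]
    apply Finset.sum_congr rfl
    intro a' _
    exact count_line _ _
  rw [Finset.sum_congr rfl (fun a _ => h1 a)] at hcomm
  rw [sum_ite_and_sq (fun a : Fˣ => (a : F) - ((a⁻¹ : Fˣ) : F) = 0) _ _
    (Nat.le_self_pow (by norm_num) _), card_units_sub_inv_eq_zero hodd, Fintype.card_units] at hcomm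
  obtain ⟨m, hm⟩ := hodd
  have hm1 : 1 ≤ m := by
    have : 1 < Fintype.card F := Fintype.one_lt_card
    omega
  rw [hm] at hcomm ⊢
  have e1 : 2 * m + 1 - 1 = 2 * m := by omega
  have e2 : (2 * m + 1) ^ 2 - (2 * m + 1) = (2 * m + 1) * (2 * m) := by
    have : (2 * m + 1) ^ 2 = (2 * m + 1) * (2 * m) + (2 * m + 1) := by ring
    omega
  rw [e1, e2] at hcomm
  have hpos : 0 < 2 * m * (2 * m + 1) := by positivity
  apply Nat.eq_of_mul_eq_mul_right hpos
  rw [← hcomm]
  ring

end Cfsg.Agent.helper12
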