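import Cfsg.Agent.Lib_helper12_McKay3
import Cfsg.Agent.Lib_helper12_Sl2BorelClasses
import Cfsg.Agent.Lib_helper12_Redundant2b
import Cfsg.Agent.Lib_helper12_NatMod3

set_option autoImplicit false

namespace Cfsg.Agent.helper12

open Cfsg Matrix

variable {F : Type*} [Field F]

theorem index_subgroupOf_eq {G : Type*} [Group G] (H K : Subgroup G) [Finite H] (hKH : K ≤ H) (r : ℕ)
    (hcard : Nat.card H = r * Nat.card K) : (K.subgroupOf H).index = r := by
  have h1 := Subgroup.card_mul_index (K.subgroupOf H)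
  have h2 : Nat.card (K.subgroupOf H) = Nat.card K := Nat.card_congr (Subgroup.subgroupOfEquivOfLe hKH).toEquiv
  rw [h2, hcard, mul_comm r] at h1
  have hK0 : 0 < Nat.card K := by
    haveI : Finite K := Finite.of_injective (Subgroup.inclusion hKH) (Subgroup.inclusion_injective hKH)
    exact Nat.card_pos
  exact Nat.eq_of_mul_eq_mul_left hK0 h1

theorem sl2_lower_zero_of_conj (n : Matrix.SpecialLinearGroup (Fin 2) F)
    (h : n * sl2E 1 * n⁻¹ ∈ sl2Unip F) : (n : Matrix (Fin 2) (Fin 2) F) 1 0 = 0 := by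
  obtain ⟨c, hc⟩ := (mem_sl2Unip _).mp h
  have hc' := congrArg (fun m : Matrix.SpecialLinearGroup (Fin 2) F => (m : Matrix (Fin 2) (Fin 2) F) 1 0) hc
  simp only [Matrix.SpecialLinearGroup.coe_mul, sl2_inv_coe', sl2E_coe] at hc'
  simp [Matrix.mul_apply, Fin.sum_univ_two] at hc'
  have : ((n : Matrix (Fin 2) (Fin 2) F) 1 0) ^ 2 = 0 := by linear_combination -hc'
  exact pow_eq_zero_iff (two_ne_zero) |>.mp this

theorem sl2Unip_normalizer :
    Subgroup.normalizer ((sl2Unip F : Subgroup (Matrix.SpecialLinearGroup (Fin 2) F)) : Set (Matrix.SpecialLinearGroup (Fin 2) F))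
      = sl2Borel F := by
  have key : ∀ g : Matrix.SpecialLinearGroup (Fin 2) F, (g : Matrix (Fin 2) (Fin 2) F) 1 0 = 0 →
      ∀ h ∈ sl2Unip F, g * h * g⁻¹ ∈ sl2Unip F := by
    intro g hc h hh
    obtain ⟨b, rfl⟩ := (mem_sl2Unip _).mp hh
    rw [sl2_conj_sl2E g hc]
    exact sl2E_mem _
  ext n
  rw [mem_sl2Borel]
  constructor
  · intro hn
    apply sl2_lower_zero_of_conj
    exact (Subgroup.mem_normalizer_iff.mp hn _).mp (sl2E_mem 1)
  · intro hc
    rw [Subgroup.mem_normalizer_iff]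
    intro h
    constructor
    · exact key n hc h
    · intro hh
      have hc' : ((n⁻¹ : Matrix.SpecialLinearGroup (Fin 2) F) : Matrix (Fin 2) (Fin 2) F) 1 0 = 0 := by
        rw [sl2_inv_coe']
        simp [hc]
      have h3 := key n⁻¹ hc' _ hh
      have h2 : n⁻¹ * (n * h * n⁻¹) * n⁻¹⁻¹ = h := by group
      rw [h2] at h3
      exact h3

theorem sl2Unip_le_borel : sl2Unip F ≤ sl2Borel F := by
  intro g hg
  obtain ⟨b, rfl⟩ := (mem_sl2Unip _).mp hg
  rw [mem_sl2Borel, sl2E_coe]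
  simp

/-- all irreducible characters of the Borel subgroup have degree dividing `q - 1` -/
theorem sl2Borel_degree_dvd [Fintype F] (χ : IrrCharacter (sl2Borel F)) :
    charDegree (χ : sl2Borel F → ℂ) ∣ Fintype.card F - 1 := by
  haveI : ((sl2Unip F).subgroupOf (sl2Borel F)).Normal := ⟨fun u hu n => by
    rw [Subgroup.mem_subgroupOf] at hu ⊢
    obtain ⟨b, hb⟩ := (mem_sl2Unip _).mp hu
    have hn := (mem_sl2Borel _).mp n.2
    show (n : Matrix.SpecialLinearGroup (Fin 2) F) * (u : Matrix.SpecialLinearGroup (Fin 2) F) *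
      (n : Matrix.SpecialLinearGroup (Fin 2) F)⁻¹ ∈ sl2Unip F
    rw [hb, sl2_conj_sl2E _ hn]
    exact sl2E_mem _⟩
  have hidx : ((sl2Unip F).subgroupOf (sl2Borel F)).index = Fintype.card F - 1 :=
    index_subgroupOf_eq _ _ sl2Unip_le_borel _ (by rw [card_sl2Borel, card_sl2Unip])
  rw [← hidx]
  apply irr_degree_dvd_index
  intro a ha b hb
  rw [Subgroup.mem_subgroupOf] at ha hb
  obtain ⟨s, hs⟩ := (mem_sl2Unip _).mp ha
  obtain ⟨t, ht⟩ := (mem_sl2Unip _).mp hb
  apply Subtype.ext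
  show (a : Matrix.SpecialLinearGroup (Fin 2) F) * (b : Matrix.SpecialLinearGroup (Fin 2) F) =
    (b : Matrix.SpecialLinearGroup (Fin 2) F) * (a : Matrix.SpecialLinearGroup (Fin 2) F)
  rw [hs, ht, ← sl2E_add, ← sl2E_add, add_comm]

/-- McKay for the defining characteristic -/
theorem sl2_mckay_char [Fintype F] (hodd : Odd (Fintype.card F)) (ℓ : ℕ) [Fact ℓ.Prime]
    (hℓ : ℓ ∣ Fintype.card F) (S : Sylow ℓ (Matrix.SpecialLinearGroup (Fin 2) F)) :
    Nat.card {χ : Cfsg.IrrCharacter (Matrix.SpecialLinearGroup (Fin 2) F) // ¬ ℓ ∣ Cfsg.charDegree (χ : Matrix.SpecialLinearGroup (Fin 2) F → ℂ)} =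
      Nat.card {ψ : Cfsg.IrrCharacter (Subgroup.normalizer ((S : Subgroup (Matrix.SpecialLinearGroup (Fin 2) F)) : Set (Matrix.SpecialLinearGroup (Fin 2) F))) //
        ¬ ℓ ∣ Cfsg.charDegree (ψ : Subgroup.normalizer ((S : Subgroup (Matrix.SpecialLinearGroup (Fin 2) F)) : Set (Matrix.SpecialLinearGroup (Fin 2) F)) → ℂ)} := by
  classical
  have hℓp : ℓ.Prime := Fact.out
  have hn1 : ¬ ℓ ∣ 1 := fun h => hℓp.one_lt.ne' (Nat.dvd_one.mp h)
  have hq1 : 1 ≤ Fintype.card F := Fintype.card_pos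
  obtain ⟨-, hqpow⟩ := sl2_factorization_char ℓ hℓ
  have hcardU : Nat.card (sl2Unip F) = ℓ ^ (Nat.card (Matrix.SpecialLinearGroup (Fin 2) F)).factorization ℓ := by
    rw [card_sl2Unip]; exact hqpow
  obtain ⟨P₀, hP₀⟩ : ∃ P₀ : Sylow ℓ (Matrix.SpecialLinearGroup (Fin 2) F), (P₀ : Subgroup (Matrix.SpecialLinearGroup (Fin 2) F)) = sl2Unip F :=
    ⟨Sylow.ofCard (sl2Unip F) hcardU, Sylow.coe_ofCard _ hcardU⟩
  have hN : Subgroup.normalizer ((P₀ : Subgroup (Matrix.SpecialLinearGroup (Fin 2) F)) : Set (Matrix.SpecialLinearGroup (Fin 2) F)) = sl2Borel F := by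
    rw [hP₀, sl2Unip_normalizer]
  rw [sl2_card_irr_char hodd ℓ hℓ, card_irr_pred_sylow_normalizer P₀ S (fun d => ¬ ℓ ∣ d),
    card_irr_pred_congr (MulEquiv.subgroupCongr hN) (fun d => ¬ ℓ ∣ d)]
  rw [card_irr_pred_of_forall (fun d => ¬ ℓ ∣ d)]
  · exact (card_conjClasses_sl2Borel hodd).symm
  · intro χ hd
    have h1 := dvd_trans hd (sl2Borel_degree_dvd χ)
    have h2 : ℓ ∣ Fintype.card F - (Fintype.card F - 1) := Nat.dvd_sub hℓ h1
    rw [show Fintype.card F - (Fintype.card F - 1) = 1 by omega] at h2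
    exact hn1 h2

end Cfsg.Agent.helper12
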