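import Cfsg.Agent.Lib_helper12_McKay4
import Cfsg.Agent.Lib_helper12_Sl2Sylow

set_option autoImplicit false

namespace Cfsg.Agent.helper12

open Cfsg Matrix

variable {F : Type*} [Field F]

/-- a Sylow subgroup inside a maximal torus whose normalizer is the torus normalizer -/
theorem sl2_sylow_torus_normalizer [Fintype F] (hodd : Odd (Fintype.card F)) (ℓ : ℕ) [Fact ℓ.Prime] (hℓ2 : ℓ ≠ 2)
    (g₀ : Matrix.SpecialLinearGroup (Fin 2) F) (hD : (g₀ : Matrix (Fin 2) (Fin 2) F).trace ^ 2 ≠ 4)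
    (m : ℕ) (hord : orderOf g₀ = m) (hℓm : ℓ ∣ m)
    (hsyl : (Nat.card (Matrix.SpecialLinearGroup (Fin 2) F)).factorization ℓ = m.factorization ℓ) :
    ∃ P₀ : Sylow ℓ (Matrix.SpecialLinearGroup (Fin 2) F),
      Subgroup.normalizer ((P₀ : Subgroup (Matrix.SpecialLinearGroup (Fin 2) F)) : Set (Matrix.SpecialLinearGroup (Fin 2) F))
      = Subgroup.normalizer ((Subgroup.centralizer ({g₀} : Set (Matrix.SpecialLinearGroup (Fin 2) F))) : Set (Matrix.SpecialLinearGroup (Fin 2) F)) := by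
  classical
  have h2 : (2 : F) ≠ 0 := two_ne_zero_of_odd_card hodd
  have hℓ : ℓ.Prime := Fact.out
  have hg0 := sl2_not_isScalar2_of_disc g₀ hD
  have hm0 : m ≠ 0 := by rw [← hord]; exact (orderOf_pos g₀).ne'
  have hk : 0 < m.factorization ℓ := hℓ.factorization_pos_of_dvd hm0 hℓm
  obtain ⟨m', hm'⟩ : ∃ m', m = ℓ ^ m.factorization ℓ * m' := Nat.ordProj_dvd m ℓ
  have hm'0 : m' ≠ 0 := by rintro rfl; rw [mul_zero] at hm'; exact hm0 hm'
  obtain ⟨u, hu⟩ : ∃ u : Matrix.SpecialLinearGroup (Fin 2) F, u = g₀ ^ m' := ⟨_, rfl⟩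
  have hordu : orderOf u = ℓ ^ m.factorization ℓ := by
    rw [hu, orderOf_pow' g₀ hm'0, hord]
    have hg : Nat.gcd m m' = m' := Nat.gcd_eq_right ⟨ℓ ^ m.factorization ℓ, by rw [mul_comm]; exact hm'⟩
    rw [hg]
    conv_lhs => rw [hm']
    exact Nat.mul_div_cancel _ (Nat.pos_of_ne_zero hm'0)
  have hmem0 : g₀ ∈ Subgroup.centralizer ({g₀} : Set (Matrix.SpecialLinearGroup (Fin 2) F)) :=
    sl2_mem_centralizer_singleton.mpr rfl
  have huC : u ∈ Subgroup.centralizer ({g₀} : Set (Matrix.SpecialLinearGroup (Fin 2) F)) := by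
    rw [hu]; exact Subgroup.pow_mem _ hmem0 _
  have hus : ¬ IsScalar2 (u : Matrix (Fin 2) (Fin 2) F) := by
    intro hs
    have huu : u * u = 1 := by
      apply Subtype.ext
      rw [Matrix.SpecialLinearGroup.coe_mul]
      rcases sl2_isScalar2_cases u hs with h | h <;> rw [h] <;> simp
    have hdvd : orderOf u ∣ 2 := orderOf_dvd_of_pow_eq_one (by rw [sq]; exact huu)
    rw [hordu] at hdvd
    have : ℓ ∣ 2 := dvd_trans (dvd_pow_self ℓ hk.ne') hdvd
    exact hℓ2 ((Nat.prime_dvd_prime_iff_eq hℓ Nat.prime_two).mp this)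
  have hCu := sl2_centralizer_eq_of_mem hg0 huC hus
  have hcardP₀ : Nat.card (Subgroup.zpowers u) = ℓ ^ (Nat.card (Matrix.SpecialLinearGroup (Fin 2) F)).factorization ℓ := by
    rw [Nat.card_zpowers, hordu, hsyl]
  obtain ⟨P₀, hP₀⟩ : ∃ P₀ : Sylow ℓ (Matrix.SpecialLinearGroup (Fin 2) F),
      (P₀ : Subgroup (Matrix.SpecialLinearGroup (Fin 2) F)) = Subgroup.zpowers u :=
    ⟨Sylow.ofCard (Subgroup.zpowers u) hcardP₀, Sylow.coe_ofCard _ hcardP₀⟩
  refine ⟨P₀, ?_⟩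
  have hconj : ∀ n : Matrix.SpecialLinearGroup (Fin 2) F,
      n ∈ Subgroup.normalizer ((Subgroup.centralizer ({g₀} : Set (Matrix.SpecialLinearGroup (Fin 2) F))) : Set (Matrix.SpecialLinearGroup (Fin 2) F)) →
      ∀ h ∈ Subgroup.zpowers u, n * h * n⁻¹ ∈ Subgroup.zpowers u := by
    intro n hn h hh
    obtain ⟨j, rfl⟩ := Subgroup.mem_zpowers_iff.mp hh
    rw [← conj_zpow]
    apply Subgroup.zpow_mem
    rcases sl2_normalizer_cases h2 hD hn with hc | hc
    · have : n * u = u * n := sl2_centralizer_comm hg0 hc huC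
      rw [this, mul_inv_cancel_right]
      exact Subgroup.mem_zpowers u
    · rw [sl2_conj_inverts hg0 hc huC]
      exact Subgroup.inv_mem _ (Subgroup.mem_zpowers u)
  rw [hP₀]
  ext n
  constructor
  · intro hn
    have hu' : n * u * n⁻¹ ∈ Subgroup.zpowers u :=
      (Subgroup.mem_normalizer_iff.mp hn u).mp (Subgroup.mem_zpowers u)
    have hu'C : n * u * n⁻¹ ∈ Subgroup.centralizer ({g₀} : Set (Matrix.SpecialLinearGroup (Fin 2) F)) :=
      (Subgroup.zpowers_le.mpr huC) hu'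
    have hu's : ¬ IsScalar2 ((n * u * n⁻¹ : Matrix.SpecialLinearGroup (Fin 2) F) : Matrix (Fin 2) (Fin 2) F) := by
      rw [sl2_isScalar2_conj_iff]; exact hus
    have hCu' := sl2_centralizer_eq_of_mem hg0 hu'C hu's
    rw [Subgroup.mem_normalizer_iff]
    intro c
    rw [show (c ∈ Subgroup.centralizer ({g₀} : Set (Matrix.SpecialLinearGroup (Fin 2) F)) ↔
        n * c * n⁻¹ ∈ Subgroup.centralizer ({g₀} : Set (Matrix.SpecialLinearGroup (Fin 2) F))) ↔
        (c ∈ Subgroup.centralizer ({u} : Set (Matrix.SpecialLinearGroup (Fin 2) F)) ↔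
        n * c * n⁻¹ ∈ Subgroup.centralizer ({n * u * n⁻¹} : Set (Matrix.SpecialLinearGroup (Fin 2) F))) from by
          rw [hCu, hCu']]
    rw [sl2_mem_centralizer_singleton, sl2_mem_centralizer_singleton]
    constructor
    · intro h
      calc n * u * n⁻¹ * (n * c * n⁻¹) = n * (u * c) * n⁻¹ := by group
        _ = n * (c * u) * n⁻¹ := by rw [h]
        _ = n * c * n⁻¹ * (n * u * n⁻¹) := by group
    · intro h
      have : n * (u * c) * n⁻¹ = n * (c * u) * n⁻¹ := by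
        calc n * (u * c) * n⁻¹ = n * u * n⁻¹ * (n * c * n⁻¹) := by group
          _ = n * c * n⁻¹ * (n * u * n⁻¹) := h
          _ = n * (c * u) * n⁻¹ := by group
      exact mul_left_cancel (mul_right_cancel this)
  · intro hn
    rw [Subgroup.mem_normalizer_iff]
    intro h
    constructor
    · exact hconj n hn h
    · intro hh
      have := hconj n⁻¹ (Subgroup.inv_mem _ hn) _ hh
      have e : n⁻¹ * (n * h * n⁻¹) * n⁻¹⁻¹ = h := by group
      rwa [e] at this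

/-- irreducible characters of a torus normalizer have degree dividing 2 -/
theorem sl2_torus_normalizer_degree_dvd [Fintype F] (hodd : Odd (Fintype.card F))
    (g₀ : Matrix.SpecialLinearGroup (Fin 2) F) (hD : (g₀ : Matrix (Fin 2) (Fin 2) F).trace ^ 2 ≠ 4)
    (χ : IrrCharacter (Subgroup.normalizer ((Subgroup.centralizer ({g₀} : Set (Matrix.SpecialLinearGroup (Fin 2) F))) : Set (Matrix.SpecialLinearGroup (Fin 2) F)))) :
    charDegree (χ : Subgroup.normalizer ((Subgroup.centralizer ({g₀} : Set (Matrix.SpecialLinearGroup (Fin 2) F))) : Set (Matrix.SpecialLinearGroup (Fin 2) F)) → ℂ) ∣ 2 := by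
  have hg0 := sl2_not_isScalar2_of_disc g₀ hD
  obtain ⟨hNcard, -, -⟩ := sl2_torus_normalizer_facts hodd g₀ hD
  obtain ⟨C, hC⟩ : ∃ C : Subgroup (Matrix.SpecialLinearGroup (Fin 2) F),
      C = Subgroup.centralizer ({g₀} : Set (Matrix.SpecialLinearGroup (Fin 2) F)) := ⟨_, rfl⟩
  haveI : (C.subgroupOf (Subgroup.normalizer (C : Set (Matrix.SpecialLinearGroup (Fin 2) F)))).Normal :=
    Subgroup.normal_in_normalizer
  have hidx : (C.subgroupOf (Subgroup.normalizer (C : Set (Matrix.SpecialLinearGroup (Fin 2) F)))).index = 2 :=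
    index_subgroupOf_eq _ _ Subgroup.le_normalizer _ (by rw [hC]; exact hNcard)
  have hcomm : ∀ a ∈ C, ∀ b ∈ C, a * b = b * a := by
    intro a ha b hb
    rw [hC] at ha hb
    exact sl2_centralizer_comm hg0 ha hb
  revert χ
  rw [← hC]
  intro χ
  have key := irr_degree_dvd_index (C.subgroupOf (Subgroup.normalizer (C : Set (Matrix.SpecialLinearGroup (Fin 2) F))))
    (by
      intro a ha b hb
      rw [Subgroup.mem_subgroupOf] at ha hb
      apply Subtype.ext
      exact hcomm _ ha _ hb) χ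
  rwa [hidx] at key

theorem sl2_mckay_torus [Fintype F] (hodd : Odd (Fintype.card F)) (ℓ : ℕ) [Fact ℓ.Prime] (hℓ2 : ℓ ≠ 2)
    (g₀ : Matrix.SpecialLinearGroup (Fin 2) F) (hD : (g₀ : Matrix (Fin 2) (Fin 2) F).trace ^ 2 ≠ 4)
    (m : ℕ) (hcard : Nat.card (Subgroup.centralizer ({g₀} : Set (Matrix.SpecialLinearGroup (Fin 2) F))) = m)
    (hord : orderOf g₀ = m) (hℓm : ℓ ∣ m)
    (hsyl : (Nat.card (Matrix.SpecialLinearGroup (Fin 2) F)).factorization ℓ = m.factorization ℓ)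
    (S : Sylow ℓ (Matrix.SpecialLinearGroup (Fin 2) F)) :
    2 * Nat.card {ψ : Cfsg.IrrCharacter (Subgroup.normalizer ((S : Subgroup (Matrix.SpecialLinearGroup (Fin 2) F)) : Set (Matrix.SpecialLinearGroup (Fin 2) F))) //
        ¬ ℓ ∣ Cfsg.charDegree (ψ : Subgroup.normalizer ((S : Subgroup (Matrix.SpecialLinearGroup (Fin 2) F)) : Set (Matrix.SpecialLinearGroup (Fin 2) F)) → ℂ)} = m + 6 := by
  have hℓp : ℓ.Prime := Fact.out
  obtain ⟨P₀, hN⟩ := sl2_sylow_torus_normalizer hodd ℓ hℓ2 g₀ hD m hord hℓm hsyl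
  obtain ⟨-, hk, -⟩ := sl2_torus_normalizer_facts hodd g₀ hD
  rw [card_irr_pred_sylow_normalizer P₀ S (fun d => ¬ ℓ ∣ d),
    card_irr_pred_congr (MulEquiv.subgroupCongr hN) (fun d => ¬ ℓ ∣ d)]
  rw [card_irr_pred_of_forall (fun d => ¬ ℓ ∣ d), hk, hcard]
  intro χ hd
  have h1 := dvd_trans hd (sl2_torus_normalizer_degree_dvd hodd g₀ hD χ)
  exact hℓ2 ((Nat.prime_dvd_prime_iff_eq hℓp Nat.prime_two).mp h1)

/-- McKay for odd primes dividing `q - 1` -/
theorem sl2_mckay_split [Fintype F] (hodd : Odd (Fintype.card F)) (ℓ : ℕ) [Fact ℓ.Prime] (hℓ : ℓ ≠ 2)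
    (hdvd : ℓ ∣ Fintype.card F - 1) (S : Sylow ℓ (Matrix.SpecialLinearGroup (Fin 2) F)) :
    Nat.card {χ : Cfsg.IrrCharacter (Matrix.SpecialLinearGroup (Fin 2) F) // ¬ ℓ ∣ Cfsg.charDegree (χ : Matrix.SpecialLinearGroup (Fin 2) F → ℂ)} =
      Nat.card {ψ : Cfsg.IrrCharacter (Subgroup.normalizer ((S : Subgroup (Matrix.SpecialLinearGroup (Fin 2) F)) : Set (Matrix.SpecialLinearGroup (Fin 2) F))) //
        ¬ ℓ ∣ Cfsg.charDegree (ψ : Subgroup.normalizer ((S : Subgroup (Matrix.SpecialLinearGroup (Fin 2) F)) : Set (Matrix.SpecialLinearGroup (Fin 2) F)) → ℂ)} := by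
  classical
  have hℓp : ℓ.Prime := Fact.out
  have hq2 : 2 ≤ Fintype.card F := Fintype.one_lt_card
  obtain ⟨f1, f2⟩ := sl2_card_factorization (Fintype.card F) ℓ hq2 hℓp hℓ
  have hq3 : 3 ≤ Fintype.card F - 1 := by
    have h1 := Nat.le_of_dvd (by omega) hdvd
    have h2 := hℓp.two_le
    omega
  obtain ⟨a, ha⟩ := IsCyclic.exists_generator (α := Fˣ)
  have horda : orderOf a = Fintype.card F - 1 := by
    rw [orderOf_eq_card_of_forall_mem_zpowers ha, Nat.card_eq_fintype_card, Fintype.card_units]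
  have ha2 : (a : F) ^ 2 ≠ 1 := by
    intro h
    have h' : a ^ 2 = 1 := by
      apply Units.ext
      rw [Units.val_pow_eq_pow_val, h, Units.val_one]
    have := Nat.le_of_dvd (by norm_num) (orderOf_dvd_of_pow_eq_one h')
    omega
  have hg : sl2UT a 0 = Cfsg.Agent.helper11.Torus.diagHom a := by
    apply Subtype.ext
    rw [Cfsg.Agent.helper11.Torus.coe_diagHom]
    rfl
  have hord : orderOf (sl2UT a 0) = Fintype.card F - 1 := by
    rw [hg, orderOf_injective _ Cfsg.Agent.helper11.Torus.diagHom_injective, horda]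
  have hR := sl2_mckay_torus hodd ℓ hℓ (sl2UT a 0) (sl2UT_trace_sq_ne a ha2 0) (Fintype.card F - 1)
    (card_sl2_diag_centralizer a ha2) hord hdvd (by rw [card_SL2]; exact f1 hdvd) S
  have hL := sl2_card_irr_split hodd ℓ hℓ hdvd
  omega

/-- McKay for odd primes dividing `q + 1` -/
theorem sl2_mckay_nonsplit [Fintype F] (hodd : Odd (Fintype.card F)) (ℓ : ℕ) [Fact ℓ.Prime] (hℓ : ℓ ≠ 2)
    (hdvd : ℓ ∣ Fintype.card F + 1) (S : Sylow ℓ (Matrix.SpecialLinearGroup (Fin 2) F)) :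
    Nat.card {χ : Cfsg.IrrCharacter (Matrix.SpecialLinearGroup (Fin 2) F) // ¬ ℓ ∣ Cfsg.charDegree (χ : Matrix.SpecialLinearGroup (Fin 2) F → ℂ)} =
      Nat.card {ψ : Cfsg.IrrCharacter (Subgroup.normalizer ((S : Subgroup (Matrix.SpecialLinearGroup (Fin 2) F)) : Set (Matrix.SpecialLinearGroup (Fin 2) F))) //
        ¬ ℓ ∣ Cfsg.charDegree (ψ : Subgroup.normalizer ((S : Subgroup (Matrix.SpecialLinearGroup (Fin 2) F)) : Set (Matrix.SpecialLinearGroup (Fin 2) F)) → ℂ)} := by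
  classical
  have hℓp : ℓ.Prime := Fact.out
  have hq2 : 2 ≤ Fintype.card F := Fintype.one_lt_card
  obtain ⟨f1, f2⟩ := sl2_card_factorization (Fintype.card F) ℓ hq2 hℓp hℓ
  obtain ⟨g₀, hord⟩ := Cfsg.Agent.helper11.Torus.exists_orderOf_eq_of_dvd_add_one (F := F) (dvd_refl (Fintype.card F + 1))
  have hne := sl2_noEigen_of_orderOf g₀ hord
  have hR := sl2_mckay_torus hodd ℓ hℓ g₀ (noEigen2_trace_sq_ne hodd g₀ hne) (Fintype.card F + 1)
    (card_sl2_centralizer_noEigen hodd g₀ hne) hord hdvd (by rw [card_SL2]; exact f2 hdvd) S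
  have hL := sl2_card_irr_nonsplit hodd ℓ hℓ hdvd
  omega

end Cfsg.Agent.helper12
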