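import Cfsg.Agent.Lib_helper12_McKay5
import Cfsg.Agent.Lib_helper12_SylTwoF
import Cfsg.Agent.Lib_helper12_Redundant2c

set_option autoImplicit false

namespace Cfsg.Agent.helper12

open Cfsg Matrix
open scoped commutatorElement

variable {F : Type*} [Field F]

namespace SylTwoCtx

variable [Fintype F] {g₀ : Matrix.SpecialLinearGroup (Fin 2) F} {m : ℕ}
  {S₀ : Subgroup (Matrix.SpecialLinearGroup (Fin 2) F)} (c : SylTwoCtx g₀ m S₀)
include c

/-- conjugation by an element of `S₀` fixes or inverts `a` -/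
theorem conj_a {n : Matrix.SpecialLinearGroup (Fin 2) F} (hn : n ∈ S₀) :
    n * (g₀ ^ (m / 2 ^ m.factorization 2)) * n⁻¹ = g₀ ^ (m / 2 ^ m.factorization 2) ∨
    n * (g₀ ^ (m / 2 ^ m.factorization 2)) * n⁻¹ = (g₀ ^ (m / 2 ^ m.factorization 2))⁻¹ := by
  by_cases hnT : n ∈ Subgroup.centralizer ({g₀} : Set (Matrix.SpecialLinearGroup (Fin 2) F))
  · left
    rw [sl2_centralizer_comm c.hns hnT c.a_memT, mul_inv_cancel_right]
  · right
    exact sl2_conj_inverts c.hns (c.w_inv hn hnT) c.a_memT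

theorem derived_index : (commutator S₀).index = 4 := by
  haveI : Finite S₀ := Nat.finite_of_card_ne_zero (by rw [c.hS]; positivity)
  obtain ⟨a, ha⟩ : ∃ a, a = g₀ ^ (m / 2 ^ m.factorization 2) := ⟨_, rfl⟩
  have haS : a ∈ S₀ := ha ▸ c.ha
  have hao : orderOf a = 2 ^ m.factorization 2 := ha ▸ c.a_order
  have hconj : ∀ n ∈ S₀, n * a * n⁻¹ = a ∨ n * a * n⁻¹ = a⁻¹ := fun n hn => ha ▸ c.conj_a hn
  obtain ⟨j, hj⟩ : ∃ j, m.factorization 2 = j + 2 := ⟨m.factorization 2 - 2, by have := c.k_ge; omega⟩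
  have hKS : Subgroup.zpowers (a ^ 2) ≤ S₀ := by
    rw [Subgroup.zpowers_le]; exact pow_mem haS 2
  have hcardK : Nat.card (Subgroup.zpowers (a ^ 2)) = 2 ^ (j + 1) := by
    rw [Nat.card_zpowers, orderOf_pow' a (by norm_num), hao, hj]
    have h1 : Nat.gcd (2 ^ (j + 2)) 2 = 2 := by
      apply Nat.gcd_eq_right
      exact ⟨2 ^ (j + 1), by ring⟩
    rw [h1, show (2 : ℕ) ^ (j + 2) = 2 ^ (j + 1) * 2 by ring, Nat.mul_div_cancel _ (by norm_num)]
  refine derived_index_eq S₀ (Subgroup.zpowers (a ^ 2)) hKS ?_ ?_ 4 2 Nat.prime_two (Or.inr (by norm_num)) ?_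
  · intro n hn x hx
    obtain ⟨i, rfl⟩ := Subgroup.mem_zpowers_iff.mp hx
    rw [← conj_zpow]
    apply Subgroup.zpow_mem
    have e : n * a ^ 2 * n⁻¹ = (n * a * n⁻¹) ^ 2 := by rw [conj_pow]
    rw [e]
    rcases hconj n hn with h | h
    · rw [h]; exact Subgroup.mem_zpowers _
    · rw [h, inv_pow]; exact Subgroup.inv_mem _ (Subgroup.mem_zpowers _)
  · rw [Subgroup.zpowers_le]
    obtain ⟨w, hw, hwT⟩ := c.exists_w
    have hwa : w * a * w⁻¹ = a⁻¹ := ha ▸ sl2_conj_inverts c.hns (c.w_inv hw hwT) c.a_memT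
    have h1 : ⁅w, a⁆ ∈ ⁅S₀, S₀⁆ := Subgroup.commutator_mem_commutator hw haS
    have h2 : ⁅w, a⁆ = (a ^ 2)⁻¹ := by
      rw [commutatorElement_def, hwa, pow_two, _root_.mul_inv_rev]
    rw [h2] at h1
    exact (Subgroup.inv_mem_iff _).mp h1
  · rw [c.hS, hcardK, hj]
    ring

theorem card_irr_odd_of_8 (h8 : 8 ∣ m) :
    Nat.card {ψ : IrrCharacter (Subgroup.normalizer (S₀ : Set (Matrix.SpecialLinearGroup (Fin 2) F))) //
      ¬ 2 ∣ charDegree (ψ : Subgroup.normalizer (S₀ : Set (Matrix.SpecialLinearGroup (Fin 2) F)) → ℂ)} = 4 := by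
  haveI : Finite S₀ := Nat.finite_of_card_ne_zero (by rw [c.hS]; positivity)
  rw [card_irr_pred_congr (MulEquiv.subgroupCongr (c.normalizer_eq h8)) (fun d => ¬ 2 ∣ d),
    card_irr_odd_two_group _ c.hS, c.derived_index]

/-- the element of order three normalizing `S₀` -/
theorem exists_nu (h8 : ¬ 8 ∣ m) :
    ∃ a w ν : Matrix.SpecialLinearGroup (Fin 2) F, a ∈ S₀ ∧ w ∈ S₀ ∧
      ν ∈ Subgroup.normalizer (S₀ : Set (Matrix.SpecialLinearGroup (Fin 2) F)) ∧
      ν * a * ν⁻¹ = a * w ∧ ν * w * ν⁻¹ = a ∧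
      ∀ s ∈ S₀, s ∈ Subgroup.closure ({a, w} : Set (Matrix.SpecialLinearGroup (Fin 2) F)) := by
  classical
  have hk := c.k_eq_two h8
  obtain ⟨a, ha⟩ : ∃ a, a = g₀ ^ (m / 2 ^ m.factorization 2) := ⟨_, rfl⟩
  have haS : a ∈ S₀ := ha ▸ c.ha
  have hao : orderOf a = 4 := by
    have := c.a_order
    rw [← ha, hk] at this
    exact this
  have haT : a ∈ Subgroup.centralizer ({g₀} : Set (Matrix.SpecialLinearGroup (Fin 2) F)) := ha ▸ c.a_memT
  have haa : ((a * a : Matrix.SpecialLinearGroup (Fin 2) F) : Matrix (Fin 2) (Fin 2) F) = -1 := by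
    have h4 : (a * a) * (a * a) = 1 := by
      have : a ^ 4 = 1 := by rw [← hao]; exact pow_orderOf_eq_one a
      rw [← this, show (4 : ℕ) = 2 + 2 from rfl, pow_add, pow_two]
    rcases sl2_sq_eq_one c.h2 h4 with h | h
    · exfalso
      have h1 : a ^ 2 = 1 := by
        rw [pow_two]
        apply Subtype.ext
        rw [h]; rfl
      have := Nat.le_of_dvd (by norm_num) (orderOf_dvd_of_pow_eq_one h1)
      omega
    · exact h
  obtain ⟨w, hw, hwT⟩ := c.exists_w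
  have hww := c.w_sq hw hwT
  have hwa : w * a * w⁻¹ = a⁻¹ := sl2_conj_inverts c.hns (c.w_inv hw hwT) haT
  obtain ⟨ν, hνa, hνw, hν3⟩ := sl2_quat_nu c.h2 a w haa hww hwa
  have hzle : Subgroup.zpowers a ≤ S₀ := ha ▸ c.zpowers_a_le
  have hgen : ∀ s ∈ S₀, s ∈ Subgroup.closure ({a, w} : Set (Matrix.SpecialLinearGroup (Fin 2) F)) := by
    intro s hs
    have haC : a ∈ Subgroup.closure ({a, w} : Set (Matrix.SpecialLinearGroup (Fin 2) F)) :=
      Subgroup.subset_closure (by simp)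
    have hwC : w ∈ Subgroup.closure ({a, w} : Set (Matrix.SpecialLinearGroup (Fin 2) F)) :=
      Subgroup.subset_closure (by simp)
    have hzC : Subgroup.zpowers a ≤ Subgroup.closure ({a, w} : Set (Matrix.SpecialLinearGroup (Fin 2) F)) := by
      rw [Subgroup.zpowers_le]; exact haC
    by_cases hsT : s ∈ Subgroup.centralizer ({g₀} : Set (Matrix.SpecialLinearGroup (Fin 2) F))
    · exact hzC (ha ▸ c.inter_le hs hsT)
    · have h1 := c.mul_inv_memT (c.w_inv hs hsT) (c.w_inv hw hwT)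
      have h2 : s * w⁻¹ ∈ S₀ := mul_mem hs (inv_mem hw)
      have h3 := hzC (ha ▸ c.inter_le h2 h1)
      have : s = (s * w⁻¹) * w := by group
      rw [this]
      exact mul_mem h3 hwC
  have hconj' : ∀ s, s ∈ Subgroup.closure ({a, w} : Set (Matrix.SpecialLinearGroup (Fin 2) F)) → ν * s * ν⁻¹ ∈ S₀ := by
    intro s hs
    induction hs using Subgroup.closure_induction with
    | mem x hx =>
      rcases hx with rfl | hx
      · rw [hνa]; exact mul_mem haS hw
      · rw [Set.mem_singleton_iff.mp hx, hνw]; exact haS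
    | one => simp
    | mul x y _ _ hx hy =>
      have : ν * (x * y) * ν⁻¹ = (ν * x * ν⁻¹) * (ν * y * ν⁻¹) := by group
      rw [this]; exact mul_mem hx hy
    | inv x _ hx =>
      have : ν * x⁻¹ * ν⁻¹ = (ν * x * ν⁻¹)⁻¹ := by group
      rw [this]; exact inv_mem hx
  have hconj : ∀ s ∈ S₀, ν * s * ν⁻¹ ∈ S₀ := fun s hs => hconj' s (hgen s hs)
  have hνN : ν ∈ Subgroup.normalizer (S₀ : Set (Matrix.SpecialLinearGroup (Fin 2) F)) := by
    rw [Subgroup.mem_normalizer_iff]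
    intro s
    constructor
    · exact hconj s
    · intro hs
      have := hconj _ (hconj _ hs)
      have e : ν * (ν * (ν * s * ν⁻¹) * ν⁻¹) * ν⁻¹ = (ν * ν * ν) * s * (ν * ν * ν)⁻¹ := by group
      rw [e, hν3] at this
      simpa using this
  exact ⟨a, w, ν, haS, hw, hνN, hνa, hνw, hgen⟩

theorem card_irr_odd_of_not_8 (h8 : ¬ 8 ∣ m) :
    Nat.card {ψ : IrrCharacter (Subgroup.normalizer (S₀ : Set (Matrix.SpecialLinearGroup (Fin 2) F))) //
      ¬ 2 ∣ charDegree (ψ : Subgroup.normalizer (S₀ : Set (Matrix.SpecialLinearGroup (Fin 2) F)) → ℂ)} = 4 := by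
  have hNcard := c.card_normalizer h8
  haveI : Finite (Subgroup.normalizer (S₀ : Set (Matrix.SpecialLinearGroup (Fin 2) F))) :=
    Nat.finite_of_card_ne_zero (by rw [hNcard]; norm_num)
  apply card_irr_odd_of_card_24 hNcard
  have hS8 : Nat.card S₀ = 8 := by rw [c.hS, c.k_eq_two h8]; norm_num
  obtain ⟨a, w, ν, haS, hwS, hνN, hνa, hνw, hgen⟩ := c.exists_nu h8
  refine derived_index_eq (Subgroup.normalizer (S₀ : Set (Matrix.SpecialLinearGroup (Fin 2) F))) S₀
    Subgroup.le_normalizer ?_ ?_ 3 3 Nat.prime_three (Or.inl rfl) (by rw [hNcard, hS8])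
  · intro n hn k hk
    exact (Subgroup.mem_normalizer_iff.mp hn k).mp hk
  · have hwD : w ∈ ⁅Subgroup.normalizer (S₀ : Set (Matrix.SpecialLinearGroup (Fin 2) F)),
        Subgroup.normalizer (S₀ : Set (Matrix.SpecialLinearGroup (Fin 2) F))⁆ := by
      have h1 : ⁅a⁻¹, ν⁆ ∈ ⁅Subgroup.normalizer (S₀ : Set (Matrix.SpecialLinearGroup (Fin 2) F)),
          Subgroup.normalizer (S₀ : Set (Matrix.SpecialLinearGroup (Fin 2) F))⁆ :=
        Subgroup.commutator_mem_commutator (Subgroup.le_normalizer (inv_mem haS)) hνN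
      have h2 : ⁅a⁻¹, ν⁆ = w := by
        rw [commutatorElement_def, inv_inv]
        calc a⁻¹ * ν * a * ν⁻¹ = a⁻¹ * (ν * a * ν⁻¹) := by group
          _ = a⁻¹ * (a * w) := by rw [hνa]
          _ = w := by group
      rwa [h2] at h1
    have haD : a ∈ ⁅Subgroup.normalizer (S₀ : Set (Matrix.SpecialLinearGroup (Fin 2) F)),
        Subgroup.normalizer (S₀ : Set (Matrix.SpecialLinearGroup (Fin 2) F))⁆ := by
      have h1 : ⁅ν, w⁆ ∈ ⁅Subgroup.normalizer (S₀ : Set (Matrix.SpecialLinearGroup (Fin 2) F)),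
          Subgroup.normalizer (S₀ : Set (Matrix.SpecialLinearGroup (Fin 2) F))⁆ :=
        Subgroup.commutator_mem_commutator hνN (Subgroup.le_normalizer hwS)
      have h2 : a = ⁅ν, w⁆ * w := by
        rw [commutatorElement_def, ← hνw]
        group
      rw [h2]
      exact mul_mem h1 hwD
    intro s hs
    have h3 : Subgroup.closure ({a, w} : Set (Matrix.SpecialLinearGroup (Fin 2) F)) ≤
        ⁅Subgroup.normalizer (S₀ : Set (Matrix.SpecialLinearGroup (Fin 2) F)),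
          Subgroup.normalizer (S₀ : Set (Matrix.SpecialLinearGroup (Fin 2) F))⁆ := by
      rw [Subgroup.closure_le]
      intro x hx
      rcases hx with rfl | hx
      · exact haD
      · rw [Set.mem_singleton_iff.mp hx]; exact hwD
    exact h3 (hgen s hs)

theorem card_irr_odd :
    Nat.card {ψ : IrrCharacter (Subgroup.normalizer (S₀ : Set (Matrix.SpecialLinearGroup (Fin 2) F))) //
      ¬ 2 ∣ charDegree (ψ : Subgroup.normalizer (S₀ : Set (Matrix.SpecialLinearGroup (Fin 2) F)) → ℂ)} = 4 := by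
  by_cases h8 : 8 ∣ m
  · exact c.card_irr_odd_of_8 h8
  · exact c.card_irr_odd_of_not_8 h8

end SylTwoCtx

/-- McKay for the prime 2 -/
theorem sl2_mckay_two [Fintype F] (hodd : Odd (Fintype.card F)) [Fact (Nat.Prime 2)]
    (S : Sylow 2 (Matrix.SpecialLinearGroup (Fin 2) F)) :
    Nat.card {χ : Cfsg.IrrCharacter (Matrix.SpecialLinearGroup (Fin 2) F) // ¬ 2 ∣ Cfsg.charDegree (χ : Matrix.SpecialLinearGroup (Fin 2) F → ℂ)} =
      Nat.card {ψ : Cfsg.IrrCharacter (Subgroup.normalizer ((S : Subgroup (Matrix.SpecialLinearGroup (Fin 2) F)) : Set (Matrix.SpecialLinearGroup (Fin 2) F))) //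
        ¬ 2 ∣ Cfsg.charDegree (ψ : Subgroup.normalizer ((S : Subgroup (Matrix.SpecialLinearGroup (Fin 2) F)) : Set (Matrix.SpecialLinearGroup (Fin 2) F)) → ℂ)} := by
  classical
  obtain ⟨g₀, m, hD, hcard, hord, h4, hsyl, hm⟩ := sl2_exists_big_torus hodd
  obtain ⟨S₀, c⟩ := sl2_exists_sylTwoCtx hodd g₀ hD m hcard hord h4
  have hScard : Nat.card S₀ = 2 ^ (Nat.card (Matrix.SpecialLinearGroup (Fin 2) F)).factorization 2 := by
    rw [c.hS, hsyl]
  obtain ⟨P₀, hP₀⟩ : ∃ P₀ : Sylow 2 (Matrix.SpecialLinearGroup (Fin 2) F), (P₀ : Subgroup (Matrix.SpecialLinearGroup (Fin 2) F)) = S₀ :=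
    ⟨Sylow.ofCard S₀ hScard, Sylow.coe_ofCard S₀ hScard⟩
  have hN : Subgroup.normalizer ((P₀ : Subgroup (Matrix.SpecialLinearGroup (Fin 2) F)) : Set (Matrix.SpecialLinearGroup (Fin 2) F))
      = Subgroup.normalizer (S₀ : Set (Matrix.SpecialLinearGroup (Fin 2) F)) := by rw [hP₀]
  rw [card_irr_pred_sylow_normalizer P₀ S (fun d => ¬ 2 ∣ d),
    card_irr_pred_congr (MulEquiv.subgroupCongr hN) (fun d => ¬ 2 ∣ d)]
  by_cases hq5 : 5 ≤ Fintype.card F
  · rw [sl2_card_irr_two hodd hq5, c.card_irr_odd]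
  · have hq2 : 2 ≤ Fintype.card F := Fintype.one_lt_card
    obtain ⟨k, hk⟩ := hodd
    have hq3 : Fintype.card F = 3 := by omega
    have hm4 : m = 4 := by
      rcases hm with ⟨h1, h2⟩ | ⟨h1, h2⟩ <;> omega
    have h8 : ¬ 8 ∣ m := by rw [hm4]; norm_num
    have htop : Subgroup.normalizer (S₀ : Set (Matrix.SpecialLinearGroup (Fin 2) F)) = ⊤ := by
      apply (Subgroup.card_eq_iff_eq_top _).mp
      rw [c.card_normalizer h8, card_SL2, hq3]
      norm_num
    exact (card_irr_pred_of_normalizer_eq_top S₀ htop (fun d => ¬ 2 ∣ d)).symm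

end Cfsg.Agent.helper12
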