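import Cfsg.Agent.Lib_helper12_McKay6

set_option autoImplicit false

namespace Cfsg.Agent.helper12

open Cfsg Matrix

/-- S2436: the McKay equality for `SL₂(q)`, `q` odd, at every prime -/
theorem sl2_mckay {F : Type*} [Field F] [Fintype F] (hodd : Odd (Fintype.card F)) (ℓ : ℕ) [Fact ℓ.Prime] (S : Sylow ℓ (Matrix.SpecialLinearGroup (Fin 2) F)) :
    Nat.card {χ : Cfsg.IrrCharacter (Matrix.SpecialLinearGroup (Fin 2) F) // ¬ ℓ ∣ Cfsg.charDegree (χ : Matrix.SpecialLinearGroup (Fin 2) F → ℂ)} =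
      Nat.card {ψ : Cfsg.IrrCharacter (Subgroup.normalizer ((S : Subgroup (Matrix.SpecialLinearGroup (Fin 2) F)) : Set (Matrix.SpecialLinearGroup (Fin 2) F))) //
        ¬ ℓ ∣ Cfsg.charDegree (ψ : Subgroup.normalizer ((S : Subgroup (Matrix.SpecialLinearGroup (Fin 2) F)) : Set (Matrix.SpecialLinearGroup (Fin 2) F)) → ℂ)} := by
  classical
  have hℓp : ℓ.Prime := Fact.out
  by_cases h1 : ℓ ∣ Fintype.card F
  · exact sl2_mckay_char hodd ℓ h1 S
  by_cases h2 : ℓ = 2
  · subst h2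
    exact sl2_mckay_two hodd S
  by_cases h3 : ℓ ∣ Fintype.card F - 1
  · exact sl2_mckay_split hodd ℓ h2 h3 S
  by_cases h4 : ℓ ∣ Fintype.card F + 1
  · exact sl2_mckay_nonsplit hodd ℓ h2 h4 S
  have hq1 : 1 ≤ Fintype.card F := Fintype.card_pos
  have hnd : ¬ ℓ ∣ Nat.card (Matrix.SpecialLinearGroup (Fin 2) F) := by
    rw [card_SL2]
    have e : Fintype.card F ^ 2 - 1 = (Fintype.card F - 1) * (Fintype.card F + 1) := by
      obtain ⟨j, hj⟩ : ∃ j, Fintype.card F = j + 1 := ⟨Fintype.card F - 1, by omega⟩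
      rw [hj]
      have : (j + 1) ^ 2 = (j + 1 - 1) * (j + 1 + 1) + 1 := by
        simp only [Nat.add_sub_cancel]; ring
      omega
    rw [e]
    intro h
    rcases (Nat.Prime.dvd_mul hℓp).mp h with h | h
    · exact h1 h
    · rcases (Nat.Prime.dvd_mul hℓp).mp h with h | h
      · exact h3 h
      · exact h4 h
  have hS : (S : Subgroup (Matrix.SpecialLinearGroup (Fin 2) F)) = ⊥ := by
    apply Subgroup.eq_bot_of_card_eq
    rw [Sylow.card_eq_multiplicity, Nat.factorization_eq_zero_of_not_dvd hnd, pow_zero]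
  have htop : Subgroup.normalizer ((S : Subgroup (Matrix.SpecialLinearGroup (Fin 2) F)) : Set (Matrix.SpecialLinearGroup (Fin 2) F)) = ⊤ := by
    rw [hS]
    exact Subgroup.normalizer_eq_top (H := (⊥ : Subgroup (Matrix.SpecialLinearGroup (Fin 2) F)))
  exact (card_irr_pred_of_normalizer_eq_top _ htop (fun d => ¬ ℓ ∣ d)).symm

end Cfsg.Agent.helper12
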