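import Mathlib

set_option autoImplicit false

namespace Cfsg.Agent.helper12

section abstractpart

theorem mt_step {T : Type*} [Group T] (β : MulAut T) (r : ℕ) (hr : Odd r) (hβ : β ^ r = 1)
    (N M : T → Prop)
    (hNfix : ∀ x, N x → β x = x)
    (hN2 : ∀ x, N x → ∃ K : ℕ, x ^ (2 ^ K) = 1)
    (hMβ : ∀ x, M x → M (β x))
    (hco : ∀ x y, M x → M y → ¬ N x → ¬ N y → N (x⁻¹ * y)) :
    ∀ x, M x → β x = x := by
  intro x hx
  by_cases hxN : N x
  · exact hNfix x hxN
  have hβx : ¬ N (β x) := by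
    intro h
    have h1 := hNfix _ h
    have h2 : β x = x := β.injective h1
    rw [h2] at h
    exact hxN h
  obtain ⟨n, hn⟩ : ∃ n, n = x⁻¹ * β x := ⟨_, rfl⟩
  have hnN : N n := hn ▸ hco x (β x) hx (hMβ x hx) hxN hβx
  have hβxn : β x = x * n := by rw [hn]; group
  have hfix : β n = n := hNfix n hnN
  have hiter : ∀ j : ℕ, (β ^ j) x = x * n ^ j := by
    intro j
    induction j with
    | zero => simp
    | succ j ih =>
      rw [pow_succ', MulAut.mul_apply, ih, map_mul, map_pow, hfix, hβxn, mul_assoc, ← pow_succ']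
  have h1 := hiter r
  rw [hβ, MulAut.one_apply] at h1
  have hnr : n ^ r = 1 := by
    have : x * n ^ r = x * 1 := by rw [← h1, mul_one]
    exact mul_left_cancel this
  obtain ⟨K, hK⟩ := hN2 n hnN
  have hcop : Nat.Coprime r (2 ^ K) :=
    Nat.Coprime.pow_right K (Nat.coprime_two_right.mpr hr)
  have hn1 : n = 1 := by
    have h2 : orderOf n ∣ r := orderOf_dvd_of_pow_eq_one hnr
    have h3 : orderOf n ∣ 2 ^ K := orderOf_dvd_of_pow_eq_one hK
    have h4 : orderOf n ∣ 1 := by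
      have := Nat.dvd_gcd h2 h3
      rwa [Nat.Coprime.gcd_eq_one hcop] at this
    exact orderOf_eq_one_iff.mp (Nat.dvd_one.mp h4)
  rw [hβxn, hn1, mul_one]

theorem mt_isPGroup_of_odd_trivial {A : Type*} [Group A] [Finite A]
    (h : ∀ (γ : A) (r : ℕ), Odd r → γ ^ r = 1 → γ = 1) : IsPGroup 2 A := by
  intro β
  have hn : 0 < orderOf β := orderOf_pos β
  obtain ⟨k, r, hr, hkr⟩ := Nat.exists_eq_two_pow_mul_odd hn.ne'
  refine ⟨k, h (β ^ (2 ^ k)) r hr ?_⟩
  rw [← pow_mul, ← hkr, pow_orderOf_eq_one]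

end abstractpart

section mono
variable {K : Type*} [Field K]

/-- the ambient group -/
abbrev MtE (K : Type*) [Field K] := (Fin 2 → K) ≃ₗ[K] (Fin 2 → K)

/-- diagonal type -/
def MtD (f : MtE K) (a b : K) : Prop := ∀ v, f v = ![a * v 0, b * v 1]

/-- antidiagonal type -/
def MtW (f : MtE K) (a b : K) : Prop := ∀ v, f v = ![b * v 1, a * v 0]

theorem mtD_one : MtD (1 : MtE K) 1 1 := by
  intro v
  ext i; fin_cases i <;> simp

theorem mtD_mul_D {f g : MtE K} {a b c d : K} (hf : MtD f a b) (hg : MtD g c d) :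
    MtD (f * g) (a * c) (b * d) := by
  intro v
  rw [LinearEquiv.mul_apply, hf, hg]
  simp [mul_assoc]

theorem mtD_mul_W {f g : MtE K} {a b c d : K} (hf : MtD f a b) (hg : MtW g c d) :
    MtW (f * g) (b * c) (a * d) := by
  intro v
  rw [LinearEquiv.mul_apply, hf, hg]
  simp [mul_assoc]

theorem mtW_mul_D {f g : MtE K} {a b c d : K} (hf : MtW f a b) (hg : MtD g c d) :
    MtW (f * g) (a * c) (b * d) := by
  intro v
  rw [LinearEquiv.mul_apply, hf, hg]
  simp [mul_assoc]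

theorem mtW_mul_W {f g : MtE K} {a b c d : K} (hf : MtW f a b) (hg : MtW g c d) :
    MtD (f * g) (b * c) (a * d) := by
  intro v
  rw [LinearEquiv.mul_apply, hf, hg]
  simp [mul_assoc]

theorem mtD_pow {f : MtE K} {a b : K} (hf : MtD f a b) (n : ℕ) : MtD (f ^ n) (a ^ n) (b ^ n) := by
  induction n with
  | zero => simpa using (mtD_one (K := K))
  | succ n ih => rw [pow_succ, pow_succ, pow_succ]; exact mtD_mul_D ih hf

theorem mtD_params {f : MtE K} {a b c d : K} (h1 : MtD f a b) (h2 : MtD f c d) :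
    a = c ∧ b = d := by
  have h := (h1 ![1, 1]).symm.trans (h2 ![1, 1])
  have h0 := congrFun h 0
  have h1' := congrFun h 1
  simp at h0 h1'
  exact ⟨h0, h1'⟩

theorem mtW_params {f : MtE K} {a b c d : K} (h1 : MtW f a b) (h2 : MtW f c d) :
    a = c ∧ b = d := by
  have h := (h1 ![1, 1]).symm.trans (h2 ![1, 1])
  have h0 := congrFun h 0
  have h1' := congrFun h 1
  simp at h0 h1'
  exact ⟨h1', h0⟩

theorem mtD_ext {f g : MtE K} {a b : K} (h1 : MtD f a b) (h2 : MtD g a b) : f = g :=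
  LinearEquiv.ext fun v => (h1 v).trans (h2 v).symm

theorem mtW_ext {f g : MtE K} {a b : K} (h1 : MtW f a b) (h2 : MtW g a b) : f = g :=
  LinearEquiv.ext fun v => (h1 v).trans (h2 v).symm

theorem mtD_eq_one {f : MtE K} (h : MtD f 1 1) : f = 1 := mtD_ext h mtD_one

theorem mtD_of_eq_one {f : MtE K} {a b : K} (h : MtD f a b) (h1 : f = 1) : a = 1 ∧ b = 1 := by
  subst h1
  exact mtD_params h mtD_one

theorem mtD_comm {f g : MtE K} {a b c d : K} (hf : MtD f a b) (hg : MtD g c d) :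
    f * g = g * f := by
  refine mtD_ext (mtD_mul_D hf hg) ?_
  rw [mul_comm a c, mul_comm b d]
  exact mtD_mul_D hg hf

/-- constructor, diagonal -/
def mtMkD (a b : K) (ha : a ≠ 0) (hb : b ≠ 0) : MtE K where
  toFun v := ![a * v 0, b * v 1]
  map_add' u v := by ext i; fin_cases i <;> simp [mul_add]
  map_smul' c v := by ext i; fin_cases i <;> simp [mul_left_comm]
  invFun v := ![a⁻¹ * v 0, b⁻¹ * v 1]
  left_inv v := by ext i; fin_cases i <;> simp [ha, hb]
  right_inv v := by ext i; fin_cases i <;> simp [ha, hb]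

theorem mtMkD_spec (a b : K) (ha : a ≠ 0) (hb : b ≠ 0) : MtD (mtMkD a b ha hb) a b :=
  fun _ => rfl

/-- constructor, antidiagonal -/
def mtMkW (a b : K) (ha : a ≠ 0) (hb : b ≠ 0) : MtE K where
  toFun v := ![b * v 1, a * v 0]
  map_add' u v := by ext i; fin_cases i <;> simp [mul_add]
  map_smul' c v := by ext i; fin_cases i <;> simp [mul_left_comm]
  invFun v := ![a⁻¹ * v 1, b⁻¹ * v 0]
  left_inv v := by ext i; fin_cases i <;> simp [ha, hb]
  right_inv v := by ext i; fin_cases i <;> simp [ha, hb]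

theorem mtMkW_spec (a b : K) (ha : a ≠ 0) (hb : b ≠ 0) : MtW (mtMkW a b ha hb) a b :=
  fun _ => rfl

theorem mtD_inv {f : MtE K} {a b : K} (hf : MtD f a b) (ha : a ≠ 0) (hb : b ≠ 0) :
    MtD f⁻¹ a⁻¹ b⁻¹ := by
  have h1 : f * mtMkD a⁻¹ b⁻¹ (inv_ne_zero ha) (inv_ne_zero hb) = 1 := by
    apply mtD_eq_one
    have := mtD_mul_D hf (mtMkD_spec a⁻¹ b⁻¹ (inv_ne_zero ha) (inv_ne_zero hb))
    rwa [mul_inv_cancel₀ ha, mul_inv_cancel₀ hb] at this
  rw [inv_eq_of_mul_eq_one_right h1]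
  exact mtMkD_spec _ _ _ _

theorem mtW_inv {f : MtE K} {a b : K} (hf : MtW f a b) (ha : a ≠ 0) (hb : b ≠ 0) :
    MtW f⁻¹ b⁻¹ a⁻¹ := by
  have h1 : f * mtMkW b⁻¹ a⁻¹ (inv_ne_zero hb) (inv_ne_zero ha) = 1 := by
    apply mtD_eq_one
    have := mtW_mul_W hf (mtMkW_spec b⁻¹ a⁻¹ (inv_ne_zero hb) (inv_ne_zero ha))
    rwa [mul_inv_cancel₀ ha, mul_inv_cancel₀ hb] at this
  rw [inv_eq_of_mul_eq_one_right h1]
  exact mtMkW_spec _ _ _ _

theorem mt_ne_zero_of_mul {a b : K} (h : a * b = 1 ∨ a * b = -1) : a ≠ 0 ∧ b ≠ 0 := by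
  constructor
  · rintro rfl
    rcases h with h | h <;> simp at h
  · rintro rfl
    rcases h with h | h <;> simp at h

end mono

end Cfsg.Agent.helper12
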