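import Cfsg.Agent.Lib_helper12_Mono1

set_option autoImplicit false

namespace Cfsg.Agent.helper12

section tlevel
variable {K : Type*} [Field K] {T : Subgroup (MtE K)}

/-- membership hypothesis in (a,b)-form -/
def MtHyp (T : Subgroup (MtE K)) : Prop :=
  ∀ f, f ∈ T ↔ ∃ a b : K, (a * b = 1 ∨ a * b = -1) ∧ (MtD f a b ∨ MtW f a b)

theorem mt_cases (hT : MtHyp T) (x : T) :
    ∃ a b : K, (a * b = 1 ∨ a * b = -1) ∧ (MtD (x : MtE K) a b ∨ MtW (x : MtE K) a b) :=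
  (hT x).mp x.2

theorem mt_sq_isD (hT : MtHyp T) (y : T) : ∃ c d : K, MtD ((y : MtE K) * (y : MtE K)) c d := by
  obtain ⟨a, b, -, h | h⟩ := mt_cases hT y
  · exact ⟨a * a, b * b, mtD_mul_D h h⟩
  · exact ⟨b * a, a * b, mtW_mul_W h h⟩

/-- commutes with all squares -/
def MtDp (T : Subgroup (MtE K)) (x : T) : Prop := ∀ y : T, Commute x (y * y)

theorem mtDp_of_D (hT : MtHyp T) {x : T} {a b : K} (h : MtD (x : MtE K) a b) : MtDp T x := by
  intro y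
  obtain ⟨c, d, hy⟩ := mt_sq_isD hT y
  show x * (y * y) = y * y * x
  apply Subtype.ext
  simp only [Subgroup.coe_mul]
  exact mtD_comm h hy

theorem mtDp_mul {x y : T} (hx : MtDp T x) (hy : MtDp T y) : MtDp T (x * y) :=
  fun z => (hx z).mul_left (hy z)

theorem mtDp_inv {x : T} (hx : MtDp T x) : MtDp T x⁻¹ := fun z => (hx z).inv_left

theorem mtDp_map (β : MulAut T) {x : T} (hx : MtDp T x) : MtDp T (β x) := by
  intro y
  obtain ⟨y', rfl⟩ := β.surjective y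
  rw [← map_mul]
  exact (hx y').map β

theorem mtD_of_Dp (hT : MtHyp T) (h2 : (2 : K) ≠ 0) (h16 : (2 * 2 : K) * (2 * 2) ≠ 1) {x : T}
    (hx : MtDp T x) : ∃ a b : K, (a * b = 1 ∨ a * b = -1) ∧ MtD (x : MtE K) a b := by
  obtain ⟨a, b, hab, h | h⟩ := mt_cases hT x
  · exact ⟨a, b, hab, h⟩
  · exfalso
    obtain ⟨ha, hb⟩ := mt_ne_zero_of_mul hab
    have hg : mtMkD (2 : K) 2⁻¹ h2 (inv_ne_zero h2) ∈ T := by
      rw [hT]
      exact ⟨2, 2⁻¹, Or.inl (mul_inv_cancel₀ h2), Or.inl (mtMkD_spec _ _ _ _)⟩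
    have hc := hx ⟨_, hg⟩
    have hc' : (x : MtE K) * (mtMkD (2 : K) 2⁻¹ h2 (inv_ne_zero h2) *
          mtMkD (2 : K) 2⁻¹ h2 (inv_ne_zero h2))
        = (mtMkD (2 : K) 2⁻¹ h2 (inv_ne_zero h2) * mtMkD (2 : K) 2⁻¹ h2 (inv_ne_zero h2)) * x := by
      have := congrArg Subtype.val hc.eq
      simpa only [Subgroup.coe_mul] using this
    have hgg := mtD_mul_D (mtMkD_spec (2 : K) 2⁻¹ h2 (inv_ne_zero h2))
      (mtMkD_spec (2 : K) 2⁻¹ h2 (inv_ne_zero h2))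
    have h1 := mtW_mul_D h hgg
    have h2' := mtD_mul_W hgg h
    rw [hc'] at h1
    obtain ⟨e1, -⟩ := mtW_params h1 h2'
    apply h16
    have e2 : (2 * 2 : K) = 2⁻¹ * 2⁻¹ := by
      have e3 : (2 * 2 : K) * a = (2⁻¹ * 2⁻¹) * a := by rw [← e1, mul_comm]
      exact mul_right_cancel₀ ha e3
    calc (2 * 2 : K) * (2 * 2) = (2⁻¹ * 2⁻¹) * (2 * 2) := by rw [← e2]
      _ = 1 := by field_simp

/-- Omega-type predicates -/
def MtOm (T : Subgroup (MtE K)) (k : ℕ) (x : T) : Prop := MtDp T x ∧ x ^ (2 ^ k) = 1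

/-- bottom predicate -/
def MtZ1 (T : Subgroup (MtE K)) (x : T) : Prop :=
  MtDp T x ∧ x ^ 2 = 1 ∧ ∀ y : T, Commute x y

theorem mtOm_map (β : MulAut T) {k : ℕ} {x : T} (hx : MtOm T k x) : MtOm T k (β x) :=
  ⟨mtDp_map β hx.1, by rw [← map_pow, hx.2, map_one]⟩

theorem mtZ1_map (β : MulAut T) {x : T} (hx : MtZ1 T x) : MtZ1 T (β x) :=
  ⟨mtDp_map β hx.1, by rw [← map_pow, hx.2.1, map_one], fun y => by
    obtain ⟨y', rfl⟩ := β.surjective y
    exact (hx.2.2 y').map β⟩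

theorem mt_w_mem (hT : MtHyp T) : mtMkW (1 : K) 1 one_ne_zero one_ne_zero ∈ T := by
  rw [hT]
  exact ⟨1, 1, Or.inl (mul_one 1), Or.inr (mtMkW_spec _ _ _ _)⟩

theorem mtD_central_params (hT : MtHyp T) {x : T} {a b : K} (h : MtD (x : MtE K) a b)
    (hc : ∀ y : T, Commute x y) : a = b := by
  have hc1 := hc ⟨_, mt_w_mem hT⟩
  have hc' : (x : MtE K) * mtMkW (1 : K) 1 one_ne_zero one_ne_zero
      = mtMkW (1 : K) 1 one_ne_zero one_ne_zero * x := by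
    have := congrArg Subtype.val hc1.eq
    simpa only [Subgroup.coe_mul] using this
  have h1 := mtD_mul_W h (mtMkW_spec (1 : K) 1 one_ne_zero one_ne_zero)
  have h2 := mtW_mul_D (mtMkW_spec (1 : K) 1 one_ne_zero one_ne_zero) h
  rw [hc'] at h1
  obtain ⟨e1, -⟩ := mtW_params h1 h2
  rw [mul_one, one_mul] at e1
  exact e1.symm

theorem mtD_scalar_central (hT : MtHyp T) {x : T} {e : K} (h : MtD (x : MtE K) e e) :
    ∀ y : T, Commute x y := by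
  intro y
  show x * y = y * x
  apply Subtype.ext
  simp only [Subgroup.coe_mul]
  obtain ⟨c, d, -, hy | hy⟩ := mt_cases hT y
  · exact mtD_comm h hy
  · refine mtW_ext (mtD_mul_W h hy) ?_
    have := mtW_mul_D hy h
    rwa [mul_comm c e, mul_comm d e] at this

theorem mtD_pow_eq_one {x : T} {a b : K} (h : MtD (x : MtE K) a b) (n : ℕ) (hx : x ^ n = 1) :
    a ^ n = 1 ∧ b ^ n = 1 := by
  have h1 := mtD_pow h n
  have h2 : (x : MtE K) ^ n = 1 := by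
    have := congrArg Subtype.val hx
    simpa only [Subgroup.coe_pow, Subgroup.coe_one] using this
  exact mtD_of_eq_one h1 h2

theorem mt_pow_eq_one_of_params {x : T} {a b : K} (h : MtD (x : MtE K) a b) (n : ℕ)
    (ha : a ^ n = 1) (hb : b ^ n = 1) : x ^ n = 1 := by
  apply Subtype.ext
  rw [Subgroup.coe_pow, Subgroup.coe_one]
  apply mtD_eq_one
  have := mtD_pow h n
  rwa [ha, hb] at this

theorem mt_pm_of_sq {a : K} (h : a ^ 2 = 1) : a = 1 ∨ a = -1 := by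
  rw [pow_two] at h
  exact mul_self_eq_one_iff.mp h

end tlevel

section general
variable {K : Type*} [Field K] {T : Subgroup (MtE K)}

theorem mtZ1_struct (hT : MtHyp T) (h2 : (2 : K) ≠ 0) (h16 : (2 * 2 : K) * (2 * 2) ≠ 1) {x : T}
    (hx : MtZ1 T x) (hx1 : x ≠ 1) : MtD (x : MtE K) (-1) (-1) := by
  obtain ⟨a, b, hab, h⟩ := mtD_of_Dp hT h2 h16 hx.1
  have hab' : a = b := mtD_central_params hT h hx.2.2
  subst hab'
  obtain ⟨ha2, -⟩ := mtD_pow_eq_one h 2 hx.2.1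
  rcases mt_pm_of_sq ha2 with rfl | rfl
  · exfalso
    apply hx1
    apply Subtype.ext
    rw [Subgroup.coe_one]
    exact mtD_eq_one h
  · exact h

theorem mtOm1_struct (hT : MtHyp T) (h2 : (2 : K) ≠ 0) (h16 : (2 * 2 : K) * (2 * 2) ≠ 1) {x : T}
    (hx : MtOm T 1 x) (hxZ : ¬ MtZ1 T x) :
    ∃ a : K, (a = 1 ∨ a = -1) ∧ MtD (x : MtE K) a (-a) := by
  obtain ⟨a, b, hab, h⟩ := mtD_of_Dp hT h2 h16 hx.1
  have hx2 : x ^ 2 = 1 := by simpa using hx.2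
  obtain ⟨ha2, hb2⟩ := mtD_pow_eq_one h 2 hx2
  have hne : a ≠ b := by
    rintro rfl
    exact hxZ ⟨hx.1, hx2, mtD_scalar_central hT h⟩
  rcases mt_pm_of_sq ha2 with rfl | rfl <;> rcases mt_pm_of_sq hb2 with rfl | rfl
  · exact absurd rfl hne
  · exact ⟨1, Or.inl rfl, h⟩
  · exact ⟨-1, Or.inr rfl, by simpa using h⟩
  · exact absurd rfl hne

theorem mt_stepB (hT : MtHyp T) (h2 : (2 : K) ≠ 0) (h16 : (2 * 2 : K) * (2 * 2) ≠ 1) (x y : T)
    (hx : MtOm T 1 x) (hy : MtOm T 1 y) (hxZ : ¬ MtZ1 T x) (hyZ : ¬ MtZ1 T y) :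
    MtZ1 T (x⁻¹ * y) := by
  obtain ⟨a, ha, hxa⟩ := mtOm1_struct hT h2 h16 hx hxZ
  obtain ⟨c, hc, hyc⟩ := mtOm1_struct hT h2 h16 hy hyZ
  have ha0 : a ≠ 0 := by rcases ha with rfl | rfl <;> simp
  have hinv := mtD_inv hxa ha0 (neg_ne_zero.mpr ha0)
  have hprod := mtD_mul_D hinv hyc
  have he : (-a)⁻¹ * -c = a⁻¹ * c := by
    rw [inv_neg, neg_mul_neg]
  rw [he] at hprod
  have hprod' : MtD ((x⁻¹ * y : T) : MtE K) (a⁻¹ * c) (a⁻¹ * c) := by
    rw [Subgroup.coe_mul, Subgroup.coe_inv]; exact hprod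
  have hesq : (a⁻¹ * c) ^ 2 = 1 := by
    rcases ha with rfl | rfl <;> rcases hc with rfl | rfl <;> simp
  exact ⟨mtDp_of_D hT hprod', mt_pow_eq_one_of_params hprod' 2 hesq hesq,
    mtD_scalar_central hT hprod'⟩

theorem mtOmStep_struct (hT : MtHyp T) (h2 : (2 : K) ≠ 0) (h16 : (2 * 2 : K) * (2 * 2) ≠ 1)
    (k : ℕ) (hk : 1 ≤ k) {x : T} (hx : MtOm T (k + 1) x) (hxk : ¬ MtOm T k x) :
    MtD ((x : MtE K) ^ (2 ^ k)) (-1) (-1) := by
  obtain ⟨a, b, hab, h⟩ := mtD_of_Dp hT h2 h16 hx.1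
  have hpow := mtD_pow h (2 ^ k)
  obtain ⟨ha2, hb2⟩ := mtD_pow_eq_one h (2 ^ (k + 1)) hx.2
  have hu2 : (a ^ (2 ^ k)) ^ 2 = 1 := by rw [← pow_mul, ← pow_succ]; exact ha2
  have hev : Even (2 ^ k) := by
    obtain ⟨j, rfl⟩ : ∃ j, k = j + 1 := ⟨k - 1, by omega⟩
    rw [pow_succ]; exact even_two.mul_left _
  have huu : a ^ (2 ^ k) * b ^ (2 ^ k) = 1 := by
    rw [← mul_pow]
    rcases hab with hab | hab
    · rw [hab, one_pow]
    · rw [hab, hev.neg_one_pow]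
  rcases mt_pm_of_sq hu2 with hu | hu
  · exfalso
    apply hxk
    refine ⟨hx.1, mt_pow_eq_one_of_params h (2 ^ k) hu ?_⟩
    rw [hu, one_mul] at huu
    exact huu
  · rw [hu] at huu hpow
    have hb : b ^ (2 ^ k) = -1 := by
      have : -(b ^ (2 ^ k)) = 1 := by rw [← huu]; ring
      rw [← this, neg_neg]
    rw [hb] at hpow
    exact hpow

theorem mt_stepC (hT : MtHyp T) (h2 : (2 : K) ≠ 0) (h16 : (2 * 2 : K) * (2 * 2) ≠ 1)
    (k : ℕ) (hk : 1 ≤ k) (x y : T)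
    (hx : MtOm T (k + 1) x) (hy : MtOm T (k + 1) y) (hxk : ¬ MtOm T k x) (hyk : ¬ MtOm T k y) :
    MtOm T k (x⁻¹ * y) := by
  have h1 := mtOmStep_struct hT h2 h16 k hk hx hxk
  have h2' := mtOmStep_struct hT h2 h16 k hk hy hyk
  have heq : x ^ (2 ^ k) = y ^ (2 ^ k) := by
    apply Subtype.ext
    rw [Subgroup.coe_pow, Subgroup.coe_pow]
    exact mtD_ext h1 h2'
  obtain ⟨a, b, -, hxa⟩ := mtD_of_Dp hT h2 h16 hx.1
  obtain ⟨c, d, -, hyc⟩ := mtD_of_Dp hT h2 h16 hy.1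
  have hcomm : Commute x y := by
    show x * y = y * x
    apply Subtype.ext
    simp only [Subgroup.coe_mul]
    exact mtD_comm hxa hyc
  refine ⟨mtDp_mul (mtDp_inv hx.1) hy.1, ?_⟩
  rw [(hcomm.inv_left).mul_pow, inv_pow, heq, inv_mul_cancel]

theorem mt_stepE (hT : MtHyp T) (x y : T) (hx : ¬ MtDp T x) (hy : ¬ MtDp T y) :
    MtDp T (x⁻¹ * y) := by
  obtain ⟨a, b, hab, h | h⟩ := mt_cases hT x
  · exact absurd (mtDp_of_D hT h) hx
  obtain ⟨c, d, hcd, h' | h'⟩ := mt_cases hT y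
  · exact absurd (mtDp_of_D hT h') hy
  obtain ⟨ha, hb⟩ := mt_ne_zero_of_mul hab
  have hinv := mtW_inv h ha hb
  have hprod := mtW_mul_W hinv h'
  have hprod' : MtD ((x⁻¹ * y : T) : MtE K) (a⁻¹ * c) (b⁻¹ * d) := by
    rw [Subgroup.coe_mul, Subgroup.coe_inv]; exact hprod
  exact mtDp_of_D hT hprod'

theorem mt_general (hT : MtHyp T) (h2 : (2 : K) ≠ 0) (h16 : (2 * 2 : K) * (2 * 2) ≠ 1)
    (m : ℕ) (hferm : ∀ a : K, a ≠ 0 → a ^ (2 ^ m) = 1)
    (β : MulAut T) (r : ℕ) (hr : Odd r) (hβ : β ^ r = 1) : β = 1 := by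
  have hA : ∀ x, MtZ1 T x → β x = x :=
    mt_step β r hr hβ (fun x => x = 1) (MtZ1 T) (fun x hx => by rw [hx, map_one])
      (fun x hx => ⟨0, by rw [hx, one_pow]⟩) (fun x hx => mtZ1_map β hx)
      (fun x y hx hy hx1 hy1 => by
        have e1 := mtZ1_struct hT h2 h16 hx hx1
        have e2 := mtZ1_struct hT h2 h16 hy hy1
        have : x = y := Subtype.ext (mtD_ext e1 e2)
        rw [this, inv_mul_cancel])
  have hB : ∀ x, MtOm T 1 x → β x = x :=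
    mt_step β r hr hβ (MtZ1 T) (MtOm T 1) hA (fun x hx => ⟨1, by simpa using hx.2.1⟩)
      (fun x hx => mtOm_map β hx) (mt_stepB hT h2 h16)
  have hC : ∀ k, 1 ≤ k → ∀ x, MtOm T k x → β x = x := by
    intro k hk
    induction k, hk using Nat.le_induction with
    | base => exact hB
    | succ k hk ih =>
      exact mt_step β r hr hβ (MtOm T k) (MtOm T (k + 1)) ih (fun x hx => ⟨k, hx.2⟩)
        (fun x hx => mtOm_map β hx) (mt_stepC hT h2 h16 k hk)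
  have hDpow : ∀ x, MtDp T x → x ^ (2 ^ m) = 1 := by
    intro x hx
    obtain ⟨a, b, hab, h⟩ := mtD_of_Dp hT h2 h16 hx
    obtain ⟨ha, hb⟩ := mt_ne_zero_of_mul hab
    exact mt_pow_eq_one_of_params h (2 ^ m) (hferm a ha) (hferm b hb)
  have hD : ∀ x, MtDp T x → β x = x := by
    intro x hx
    apply hC (m + 1) (by omega) x
    refine ⟨hx, ?_⟩
    rw [pow_succ, pow_mul, hDpow x hx, one_pow]
  have hE : ∀ x, True → β x = x :=
    mt_step β r hr hβ (MtDp T) (fun _ => True) hD (fun x hx => ⟨m, hDpow x hx⟩)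
      (fun _ _ => trivial) (fun x y _ _ hx hy => mt_stepE hT x y hx hy)
  exact MulEquiv.ext fun x => hE x trivial

end general

end Cfsg.Agent.helper12
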