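import Cfsg.Agent.Lib_helper12_Mono2

set_option autoImplicit false

namespace Cfsg.Agent.helper12

section small
variable {K : Type*} [Field K] {T : Subgroup (MtE K)}

theorem mt_two (hT : MtHyp T) (hone : ∀ a : K, a ≠ 0 → a = 1) (β : MulAut T) : β = 1 := by
  have key : ∀ z : T, z ≠ 1 → MtW (z : MtE K) 1 1 := by
    intro z hz
    obtain ⟨a, b, hab, h | h⟩ := mt_cases hT z
    · exfalso
      apply hz
      obtain ⟨ha, hb⟩ := mt_ne_zero_of_mul hab
      rw [hone a ha, hone b hb] at h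
      exact Subtype.ext (by rw [Subgroup.coe_one]; exact mtD_eq_one h)
    · obtain ⟨ha, hb⟩ := mt_ne_zero_of_mul hab
      rw [hone a ha, hone b hb] at h
      exact h
  have huniq : ∀ x y : T, x ≠ 1 → y ≠ 1 → x = y := fun x y hx hy =>
    Subtype.ext (mtW_ext (key x hx) (key y hy))
  apply MulEquiv.ext
  intro x
  rw [MulAut.one_apply]
  by_cases hx : x = 1
  · rw [hx, map_one]
  · have : β x ≠ 1 := fun h => hx (by rw [← map_one β] at h; exact β.injective h)
    exact huniq _ _ this hx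

/-- central -/
def MtZc (T : Subgroup (MtE K)) (x : T) : Prop := ∀ y : T, Commute x y

/-- central or of order four -/
def MtC4 (T : Subgroup (MtE K)) (x : T) : Prop := MtZc T x ∨ x * x ≠ 1

theorem mtZc_map (β : MulAut T) {x : T} (hx : MtZc T x) : MtZc T (β x) := fun y => by
  obtain ⟨y', rfl⟩ := β.surjective y
  exact (hx y').map β

theorem mtC4_map (β : MulAut T) {x : T} (hx : MtC4 T x) : MtC4 T (β x) := by
  rcases hx with hx | hx
  · exact Or.inl (mtZc_map β hx)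
  · right
    intro h
    apply hx
    rw [← map_mul, ← map_one β] at h
    exact β.injective h

theorem mt3_two_ne (hne : (1 : K) ≠ -1) {a : K} (h : a = -a) : a = 0 := by
  have h1 : (1 + 1) * a = 0 := by linear_combination h
  rcases mul_eq_zero.mp h1 with h2 | h2
  · exact absurd (eq_neg_of_add_eq_zero_left h2) hne
  · exact h2

theorem mt3_pow4 (hT : MtHyp T) (h3 : ∀ a : K, a ≠ 0 → a = 1 ∨ a = -1) (x : T) :
    x ^ (2 ^ 2) = 1 := by
  have e4 : (2 : ℕ) ^ 2 = 4 := by norm_num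
  rw [e4]
  obtain ⟨a, b, hab, h | h⟩ := mt_cases hT x
  · obtain ⟨ha, hb⟩ := mt_ne_zero_of_mul hab
    apply mt_pow_eq_one_of_params h 4
    · rcases h3 a ha with rfl | rfl <;> norm_num
    · rcases h3 b hb with rfl | rfl <;> norm_num
  · have hsq : MtD ((x * x : T) : MtE K) (b * a) (a * b) := by
      rw [Subgroup.coe_mul]; exact mtW_mul_W h h
    have h2 : (x * x) ^ 2 = 1 := by
      apply mt_pow_eq_one_of_params hsq 2
      · rw [mul_comm b a]; rcases hab with hab | hab <;> rw [hab] <;> simp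
      · rcases hab with hab | hab <;> rw [hab] <;> simp
    have e : x ^ 4 = (x * x) ^ 2 := by
      rw [← pow_two, ← pow_mul]
    rw [e, h2]

theorem mt3_d0_mem (hT : MtHyp T) :
    mtMkD (1 : K) (-1) one_ne_zero (neg_ne_zero.mpr one_ne_zero) ∈ T := by
  rw [hT]
  exact ⟨1, -1, Or.inr (one_mul _), Or.inl (mtMkD_spec _ _ _ _)⟩

theorem mt3_W_not_central (hT : MtHyp T) (hne : (1 : K) ≠ -1) {x : T} {a b : K}
    (hab : a * b = 1 ∨ a * b = -1) (h : MtW (x : MtE K) a b) : ¬ MtZc T x := by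
  intro hc
  obtain ⟨ha, hb⟩ := mt_ne_zero_of_mul hab
  have hc1 := hc ⟨_, mt3_d0_mem hT⟩
  have hc' : (x : MtE K) * mtMkD (1 : K) (-1) one_ne_zero (neg_ne_zero.mpr one_ne_zero)
      = mtMkD (1 : K) (-1) one_ne_zero (neg_ne_zero.mpr one_ne_zero) * x := by
    have := congrArg Subtype.val hc1.eq
    simpa only [Subgroup.coe_mul] using this
  have h1 := mtW_mul_D h (mtMkD_spec (1 : K) (-1) one_ne_zero (neg_ne_zero.mpr one_ne_zero))
  have h2 := mtD_mul_W (mtMkD_spec (1 : K) (-1) one_ne_zero (neg_ne_zero.mpr one_ne_zero)) h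
  rw [hc'] at h1
  obtain ⟨e1, -⟩ := mtW_params h1 h2
  rw [mul_one, neg_one_mul] at e1
  exact ha (mt3_two_ne hne e1)

theorem mt3_Zc_struct (hT : MtHyp T) (h3 : ∀ a : K, a ≠ 0 → a = 1 ∨ a = -1) (hne : (1 : K) ≠ -1)
    {x : T} (hx : MtZc T x) (hx1 : x ≠ 1) : MtD (x : MtE K) (-1) (-1) := by
  obtain ⟨a, b, hab, h | h⟩ := mt_cases hT x
  · have hab' : a = b := mtD_central_params hT h hx
    subst hab'
    obtain ⟨ha, -⟩ := mt_ne_zero_of_mul hab
    rcases h3 a ha with rfl | rfl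
    · exfalso
      apply hx1
      apply Subtype.ext
      rw [Subgroup.coe_one]
      exact mtD_eq_one h
    · exact h
  · exact absurd hx (mt3_W_not_central hT hne hab h)

theorem mt3_sq_ne_one (hne : (1 : K) ≠ -1) {z : T} {p q' : K} (h : MtW (z : MtE K) p q')
    (hpq : q' * p = -1) : z * z ≠ 1 := by
  intro h1
  have hsq : MtD ((z * z : T) : MtE K) (q' * p) (p * q') := by
    rw [Subgroup.coe_mul]; exact mtW_mul_W h h
  have h2 : ((z * z : T) : MtE K) = 1 := by rw [h1, Subgroup.coe_one]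
  obtain ⟨e1, -⟩ := mtD_of_eq_one hsq h2
  rw [hpq] at e1
  exact hne e1.symm

theorem mt3_C4_struct (hT : MtHyp T) (h3 : ∀ a : K, a ≠ 0 → a = 1 ∨ a = -1)
    {x : T} (hx : MtC4 T x) (hxZ : ¬ MtZc T x) :
    ∃ a : K, (a = 1 ∨ a = -1) ∧ MtW (x : MtE K) a (-a) := by
  have hsq : x * x ≠ 1 := hx.resolve_left hxZ
  obtain ⟨a, b, hab, h | h⟩ := mt_cases hT x
  · exfalso
    apply hsq
    obtain ⟨ha, hb⟩ := mt_ne_zero_of_mul hab
    have := mt_pow_eq_one_of_params h 2
      (by rcases h3 a ha with rfl | rfl <;> simp) (by rcases h3 b hb with rfl | rfl <;> simp)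
    rwa [pow_two] at this
  · obtain ⟨ha, hb⟩ := mt_ne_zero_of_mul hab
    have hne' : a ≠ b := by
      rintro rfl
      apply hsq
      apply Subtype.ext
      rw [Subgroup.coe_mul, Subgroup.coe_one]
      apply mtD_eq_one
      have := mtW_mul_W h h
      have haa : a * a = 1 := by rcases h3 a ha with rfl | rfl <;> simp
      rwa [haa] at this
    rcases h3 a ha with rfl | rfl <;> rcases h3 b hb with rfl | rfl
    · exact absurd rfl hne'
    · exact ⟨1, Or.inl rfl, h⟩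
    · exact ⟨-1, Or.inr rfl, by simpa using h⟩
    · exact absurd rfl hne'

theorem mt3_stepB (hT : MtHyp T) (h3 : ∀ a : K, a ≠ 0 → a = 1 ∨ a = -1) (x y : T)
    (hx : MtC4 T x) (hy : MtC4 T y) (hxZ : ¬ MtZc T x) (hyZ : ¬ MtZc T y) :
    MtZc T (x⁻¹ * y) := by
  obtain ⟨a, ha, hxa⟩ := mt3_C4_struct hT h3 hx hxZ
  obtain ⟨c, hc, hyc⟩ := mt3_C4_struct hT h3 hy hyZ
  have ha0 : a ≠ 0 := by rcases ha with rfl | rfl <;> simp
  have hinv := mtW_inv hxa ha0 (neg_ne_zero.mpr ha0)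
  have hprod := mtW_mul_W hinv hyc
  have he : (-a)⁻¹ * -c = a⁻¹ * c := by rw [inv_neg, neg_mul_neg]
  rw [he] at hprod
  have hprod' : MtD ((x⁻¹ * y : T) : MtE K) (a⁻¹ * c) (a⁻¹ * c) := by
    rw [Subgroup.coe_mul, Subgroup.coe_inv]; exact hprod
  exact mtD_scalar_central hT hprod'

theorem mt3_top_struct (hT : MtHyp T) (h3 : ∀ a : K, a ≠ 0 → a = 1 ∨ a = -1)
    (hne : (1 : K) ≠ -1) {x : T} (hx : ¬ MtC4 T x) :
    (∃ a : K, (a = 1 ∨ a = -1) ∧ MtD (x : MtE K) a (-a)) ∨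
    (∃ a : K, (a = 1 ∨ a = -1) ∧ MtW (x : MtE K) a a) := by
  have hxZ : ¬ MtZc T x := fun h => hx (Or.inl h)
  have hsq : x * x = 1 := by
    by_contra h
    exact hx (Or.inr h)
  obtain ⟨a, b, hab, h | h⟩ := mt_cases hT x
  · left
    obtain ⟨ha, hb⟩ := mt_ne_zero_of_mul hab
    have hne' : a ≠ b := by
      rintro rfl
      exact hxZ (mtD_scalar_central hT h)
    rcases h3 a ha with rfl | rfl <;> rcases h3 b hb with rfl | rfl
    · exact absurd rfl hne'
    · exact ⟨1, Or.inl rfl, h⟩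
    · exact ⟨-1, Or.inr rfl, by simpa using h⟩
    · exact absurd rfl hne'
  · right
    obtain ⟨ha, hb⟩ := mt_ne_zero_of_mul hab
    have hba : b * a = 1 := by
      have hsq' : MtD ((x * x : T) : MtE K) (b * a) (a * b) := by
        rw [Subgroup.coe_mul]; exact mtW_mul_W h h
      have h2 : ((x * x : T) : MtE K) = 1 := by rw [hsq, Subgroup.coe_one]
      exact (mtD_of_eq_one hsq' h2).1
    rcases h3 a ha with rfl | rfl <;> rcases h3 b hb with rfl | rfl
    · exact ⟨1, Or.inl rfl, h⟩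
    · exfalso; rw [mul_one] at hba; exact hne hba.symm
    · exfalso; rw [one_mul] at hba; exact hne hba.symm
    · exact ⟨-1, Or.inr rfl, h⟩

theorem mt3_stepC (hT : MtHyp T) (h3 : ∀ a : K, a ≠ 0 → a = 1 ∨ a = -1) (hne : (1 : K) ≠ -1)
    (x y : T) (hx : ¬ MtC4 T x) (hy : ¬ MtC4 T y) : MtC4 T (x⁻¹ * y) := by
  rcases mt3_top_struct hT h3 hne hx with ⟨a, ha, hxa⟩ | ⟨a, ha, hxa⟩ <;>
  rcases mt3_top_struct hT h3 hne hy with ⟨c, hc, hyc⟩ | ⟨c, hc, hyc⟩
  · -- D D
    left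
    have ha0 : a ≠ 0 := by rcases ha with rfl | rfl <;> simp
    have hinv := mtD_inv hxa ha0 (neg_ne_zero.mpr ha0)
    have hprod := mtD_mul_D hinv hyc
    have he : (-a)⁻¹ * -c = a⁻¹ * c := by rw [inv_neg, neg_mul_neg]
    rw [he] at hprod
    have hprod' : MtD ((x⁻¹ * y : T) : MtE K) (a⁻¹ * c) (a⁻¹ * c) := by
      rw [Subgroup.coe_mul, Subgroup.coe_inv]; exact hprod
    exact mtD_scalar_central hT hprod'
  · -- D W
    right
    have ha0 : a ≠ 0 := by rcases ha with rfl | rfl <;> simp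
    have hinv := mtD_inv hxa ha0 (neg_ne_zero.mpr ha0)
    have hprod := mtD_mul_W hinv hyc
    have hprod' : MtW ((x⁻¹ * y : T) : MtE K) ((-a)⁻¹ * c) (a⁻¹ * c) := by
      rw [Subgroup.coe_mul, Subgroup.coe_inv]; exact hprod
    apply mt3_sq_ne_one hne hprod'
    rcases ha with rfl | rfl <;> rcases hc with rfl | rfl <;> simp
  · -- W D
    right
    have ha0 : a ≠ 0 := by rcases ha with rfl | rfl <;> simp
    have hinv := mtW_inv hxa ha0 ha0
    have hprod := mtW_mul_D hinv hyc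
    have hprod' : MtW ((x⁻¹ * y : T) : MtE K) (a⁻¹ * c) (a⁻¹ * -c) := by
      rw [Subgroup.coe_mul, Subgroup.coe_inv]; exact hprod
    apply mt3_sq_ne_one hne hprod'
    rcases ha with rfl | rfl <;> rcases hc with rfl | rfl <;> simp
  · -- W W
    left
    have ha0 : a ≠ 0 := by rcases ha with rfl | rfl <;> simp
    have hinv := mtW_inv hxa ha0 ha0
    have hprod := mtW_mul_W hinv hyc
    have hprod' : MtD ((x⁻¹ * y : T) : MtE K) (a⁻¹ * c) (a⁻¹ * c) := by
      rw [Subgroup.coe_mul, Subgroup.coe_inv]; exact hprod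
    exact mtD_scalar_central hT hprod'

theorem mt_three (hT : MtHyp T) (h3 : ∀ a : K, a ≠ 0 → a = 1 ∨ a = -1) (hne : (1 : K) ≠ -1)
    (β : MulAut T) (r : ℕ) (hr : Odd r) (hβ : β ^ r = 1) : β = 1 := by
  have hA : ∀ x, MtZc T x → β x = x :=
    mt_step β r hr hβ (fun x => x = 1) (MtZc T) (fun x hx => by rw [hx, map_one])
      (fun x hx => ⟨0, by rw [hx, one_pow]⟩) (fun x hx => mtZc_map β hx)
      (fun x y hx hy hx1 hy1 => by
        have e1 := mt3_Zc_struct hT h3 hne hx hx1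
        have e2 := mt3_Zc_struct hT h3 hne hy hy1
        have : x = y := Subtype.ext (mtD_ext e1 e2)
        rw [this, inv_mul_cancel])
  have hB : ∀ x, MtC4 T x → β x = x :=
    mt_step β r hr hβ (MtZc T) (MtC4 T) hA (fun x _ => ⟨2, mt3_pow4 hT h3 x⟩)
      (fun x hx => mtC4_map β hx) (mt3_stepB hT h3)
  have hE : ∀ x, True → β x = x :=
    mt_step β r hr hβ (MtC4 T) (fun _ => True) hB (fun x _ => ⟨2, mt3_pow4 hT h3 x⟩)
      (fun _ _ => trivial) (fun x y _ _ hx hy => mt3_stepC hT h3 hne x y hx hy)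
  exact MulEquiv.ext fun x => hE x trivial

end small

end Cfsg.Agent.helper12
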