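import Cfsg.Agent.Lib_helper12_Mono3

set_option autoImplicit false

namespace Cfsg.Agent.helper12

theorem mt_hyp_convert {K : Type*} [Field K] (T : Subgroup (MtE K))
    (hT : ∀ f, f ∈ T ↔ ∃ a s : K, a ≠ 0 ∧ (s = 1 ∨ s = -1) ∧
      ((∀ v, f v = ![a * v 0, s * a⁻¹ * v 1]) ∨ (∀ v, f v = ![s * a⁻¹ * v 1, a * v 0]))) :
    MtHyp T := by
  intro f
  rw [hT]
  constructor
  · rintro ⟨a, s, ha, hs, h⟩
    refine ⟨a, s * a⁻¹, ?_, h⟩
    have : a * (s * a⁻¹) = s := by field_simp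
    rw [this]
    exact hs
  · rintro ⟨a, b, hab, h⟩
    obtain ⟨ha, hb⟩ := mt_ne_zero_of_mul hab
    refine ⟨a, a * b, ha, hab, ?_⟩
    have e : a * b * a⁻¹ = b := by field_simp
    rw [e]
    exact h

theorem mt_zmod2 : ∀ a : ZMod 2, a ≠ 0 → a = 1 := by decide

theorem mt_zmod3 : ∀ a : ZMod 3, a ≠ 0 → a = 1 ∨ a = -1 := by decide

theorem mt_zmod3' : (1 : ZMod 3) ≠ -1 := by decide

theorem mt_main (q m : ℕ) [Fact q.Prime] (hq : q = 2 ^ m + 1) (hq5 : q ≠ 5)
    (T : Subgroup ((Fin 2 → ZMod q) ≃ₗ[ZMod q] (Fin 2 → ZMod q)))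
    (hT : ∀ f, f ∈ T ↔ ∃ a s : ZMod q, a ≠ 0 ∧ (s = 1 ∨ s = -1) ∧
      ((∀ v, f v = ![a * v 0, s * a⁻¹ * v 1]) ∨ (∀ v, f v = ![s * a⁻¹ * v 1, a * v 0]))) :
    IsPGroup 2 (MulAut T) := by
  have hT' : MtHyp T := mt_hyp_convert T hT
  haveI : Finite ((Fin 2 → ZMod q) ≃ₗ[ZMod q] (Fin 2 → ZMod q)) :=
    Finite.of_injective (fun e => (e : (Fin 2 → ZMod q) → (Fin 2 → ZMod q))) DFunLike.coe_injective
  haveI : Finite T := inferInstance
  haveI : Finite (MulAut T) :=
    Finite.of_injective (fun e : MulAut T => (e : T → T)) DFunLike.coe_injective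
  have hprime : q.Prime := Fact.out
  rcases Nat.lt_or_ge m 4 with hm | hm
  · interval_cases m
    · -- q = 2
      have hq2 : q = 2 := by rw [hq]; norm_num
      subst hq2
      have hone : ∀ a : ZMod 2, a ≠ 0 → a = 1 := mt_zmod2
      intro β
      exact ⟨0, by rw [mt_two hT' hone β]; simp⟩
    · -- q = 3
      have hq3 : q = 3 := by rw [hq]; norm_num
      subst hq3
      have h3 : ∀ a : ZMod 3, a ≠ 0 → a = 1 ∨ a = -1 := mt_zmod3
      have hne : (1 : ZMod 3) ≠ -1 := mt_zmod3'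
      exact mt_isPGroup_of_odd_trivial (fun γ r hr h => mt_three hT' h3 hne γ r hr h)
    · exact absurd (by rw [hq]; norm_num) hq5
    · exfalso
      have : q = 9 := by rw [hq]; norm_num
      rw [this] at hprime
      norm_num at hprime
  · have h16le : 2 ^ 4 ≤ 2 ^ m := Nat.pow_le_pow_right (by norm_num) hm
    have hq17 : 17 ≤ q := by rw [hq]; omega
    have h2 : (2 : ZMod q) ≠ 0 := by
      intro h
      have h' : ((2 : ℕ) : ZMod q) = 0 := by exact_mod_cast h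
      have := Nat.le_of_dvd (by norm_num) ((ZMod.natCast_eq_zero_iff 2 q).mp h')
      omega
    have h16 : (2 * 2 : ZMod q) * (2 * 2) ≠ 1 := by
      intro h
      have h' : ((15 : ℕ) : ZMod q) = 0 := by
        push_cast
        linear_combination h
      have := Nat.le_of_dvd (by norm_num) ((ZMod.natCast_eq_zero_iff 15 q).mp h')
      omega
    have hq1 : q - 1 = 2 ^ m := by rw [hq, Nat.add_sub_cancel]
    have hferm : ∀ a : ZMod q, a ≠ 0 → a ^ (2 ^ m) = 1 := by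
      intro a ha
      rw [← hq1]
      exact ZMod.pow_card_sub_one_eq_one ha
    exact mt_isPGroup_of_odd_trivial
      (fun γ r hr h => mt_general hT' h2 h16 m hferm γ r hr h)

end Cfsg.Agent.helper12
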