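import Mathlib
import Cfsg.Prelude.Def_LocalEven
import Cfsg.Agent.Lib_helper12_Redundant2b

set_option autoImplicit false

namespace Cfsg.Agent.helper12

open Matrix
open scoped Pointwise

/-- Normal form of the data of a natural `SL₂(F)`-module `V` for `L` with the image `T` of a Sylow
`p`-subgroup of `L` corresponding to the upper unitriangular matrices. -/
structure NatSetup {G : Type*} [Group G] (F : Type*) [Field F] (V L T : Subgroup G) where
  φ : V → (Fin 2 → F)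
  ρ : L →* Matrix.SpecialLinearGroup (Fin 2) F
  φ_bij : Function.Bijective φ
  φ_mul : ∀ v w : V, φ (v * w) = φ v + φ w
  ρ_bij : Function.Bijective ρ
  act : ∀ (l : L) (v : V), ∃ w : V, (w : G) = (l : G) * (v : G) * (l : G)⁻¹ ∧
    φ w = ((ρ l : Matrix.SpecialLinearGroup (Fin 2) F) : Matrix (Fin 2) (Fin 2) F).mulVec (φ v)
  mem_T : ∀ l : L, (l : G) ∈ T ↔ ∃ b : F, ρ l = sl2E b
  T_le : T ≤ L

theorem sl2E_mulVec {F : Type*} [Field F] (b : F) (x : Fin 2 → F) :
    ((sl2E b : Matrix.SpecialLinearGroup (Fin 2) F) : Matrix (Fin 2) (Fin 2) F).mulVec x = ![x 0 + b * x 1, x 1] := by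
  rw [sl2E_coe]
  ext i
  fin_cases i <;> simp [Matrix.mulVec, dotProduct, Fin.sum_univ_two]

theorem sl2_mulVec_zero {F : Type*} [Field F] (M : Matrix (Fin 2) (Fin 2) F) (x : Fin 2 → F) :
    M.mulVec x 0 = M 0 0 * x 0 + M 0 1 * x 1 := by
  simp [Matrix.mulVec, dotProduct, Fin.sum_univ_two]

theorem sl2_mulVec_one {F : Type*} [Field F] (M : Matrix (Fin 2) (Fin 2) F) (x : Fin 2 → F) :
    M.mulVec x 1 = M 1 0 * x 0 + M 1 1 * x 1 := by
  simp [Matrix.mulVec, dotProduct, Fin.sum_univ_two]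

theorem vec2_ext {F : Type*} {x y : Fin 2 → F} (h0 : x 0 = y 0) (h1 : x 1 = y 1) : x = y := by
  ext i
  fin_cases i
  · exact h0
  · exact h1

theorem natSetup_exists {G : Type*} [Group G] [Finite G] {p : ℕ} [Fact p.Prime] {F : Type*} [Field F] [Fintype F]
    (n : ℕ) (hF : Fintype.card F = p ^ n) (V L : Subgroup G) (hnat : Cfsg.IsNaturalSL2Module F V L)
    (hf : L ⊓ Subgroup.centralizer (V : Set G) = ⊥) (S : Sylow p ↥L) (T : Subgroup G)
    (hT : T = ((S : Subgroup ↥L).map L.subtype)) : Nonempty (NatSetup F V L T) := by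
  obtain ⟨hN, ρ₀, ψ, hsurj, hker, hact⟩ := hnat
  have hinj : Function.Injective ρ₀ := by
    rw [← MonoidHom.ker_eq_bot_iff, hker, Subgroup.subgroupOf_eq_bot, disjoint_iff, inf_comm]
    exact hf
  have hpq : p ∣ Fintype.card F := by
    rw [hF]
    rcases Nat.eq_zero_or_pos n with h0 | h0
    · subst h0
      have := Fintype.one_lt_card (α := F)
      rw [hF, pow_zero] at this
      omega
    · exact dvd_pow_self p (by omega)
  obtain ⟨hchar, hq⟩ := sl2_factorization_char (F := F) p hpq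
  have hcardL : Nat.card L = Nat.card (Matrix.SpecialLinearGroup (Fin 2) F) :=
    Nat.card_congr (Equiv.ofBijective ρ₀ ⟨hinj, hsurj⟩)
  have hS'card : Nat.card ((S : Subgroup L).map ρ₀) =
      p ^ (Nat.card (Matrix.SpecialLinearGroup (Fin 2) F)).factorization p := by
    rw [Subgroup.card_map_of_injective hinj, S.card_eq_multiplicity, hcardL]
  have hUcard : Nat.card (sl2Unip F) = p ^ (Nat.card (Matrix.SpecialLinearGroup (Fin 2) F)).factorization p := by
    rw [card_sl2Unip, ← hq]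
  obtain ⟨g, hg⟩ := MulAction.exists_smul_eq (Matrix.SpecialLinearGroup (Fin 2) F)
    (Sylow.ofCard (sl2Unip F) hUcard) (Sylow.ofCard ((S : Subgroup L).map ρ₀) hS'card)
  have hmem : ∀ x : Matrix.SpecialLinearGroup (Fin 2) F,
      x ∈ (S : Subgroup L).map ρ₀ ↔ g⁻¹ * x * g ∈ sl2Unip F := by
    intro x
    have h1 : x ∈ (S : Subgroup L).map ρ₀ ↔ x ∈ (Sylow.ofCard ((S : Subgroup L).map ρ₀) hS'card : Sylow p _) := by
      have : x ∈ (Sylow.ofCard ((S : Subgroup L).map ρ₀) hS'card : Sylow p _) ↔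
          x ∈ ((Sylow.ofCard ((S : Subgroup L).map ρ₀) hS'card : Sylow p _) : Subgroup _) := Iff.rfl
      rw [this, Sylow.coe_ofCard]
    have h2 : ∀ y, y ∈ Sylow.ofCard (sl2Unip F) hUcard ↔ y ∈ sl2Unip F := by
      intro y
      have : y ∈ Sylow.ofCard (sl2Unip F) hUcard ↔
          y ∈ ((Sylow.ofCard (sl2Unip F) hUcard : Sylow p _) : Subgroup _) := Iff.rfl
      rw [this, Sylow.coe_ofCard]
    rw [h1, ← hg, sylow_mem_smul_iff, h2]
  have hgg : ((g : Matrix.SpecialLinearGroup (Fin 2) F) : Matrix (Fin 2) (Fin 2) F) *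
      ((g⁻¹ : Matrix.SpecialLinearGroup (Fin 2) F) : Matrix (Fin 2) (Fin 2) F) = 1 := by
    rw [← Matrix.SpecialLinearGroup.coe_mul, mul_inv_cancel, Matrix.SpecialLinearGroup.coe_one]
  have hgg' : ((g⁻¹ : Matrix.SpecialLinearGroup (Fin 2) F) : Matrix (Fin 2) (Fin 2) F) *
      ((g : Matrix.SpecialLinearGroup (Fin 2) F) : Matrix (Fin 2) (Fin 2) F) = 1 := by
    rw [← Matrix.SpecialLinearGroup.coe_mul, inv_mul_cancel, Matrix.SpecialLinearGroup.coe_one]
  refine ⟨{
    φ := fun v => ((g⁻¹ : Matrix.SpecialLinearGroup (Fin 2) F) : Matrix (Fin 2) (Fin 2) F).mulVec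
      (ψ (Additive.ofMul v))
    ρ := (MulAut.conj g⁻¹).toMonoidHom.comp ρ₀
    φ_bij := ?_
    φ_mul := ?_
    ρ_bij := ?_
    act := ?_
    mem_T := ?_
    T_le := ?_ }⟩
  · constructor
    · intro v w h
      have h1 := congrArg (fun x => ((g : Matrix.SpecialLinearGroup (Fin 2) F) : Matrix (Fin 2) (Fin 2) F).mulVec x) h
      simp only [Matrix.mulVec_mulVec, hgg, Matrix.one_mulVec] at h1
      exact Additive.ofMul.injective (ψ.injective h1)
    · intro x
      obtain ⟨a, ha⟩ := ψ.surjective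
        (((g : Matrix.SpecialLinearGroup (Fin 2) F) : Matrix (Fin 2) (Fin 2) F).mulVec x)
      refine ⟨Additive.toMul a, ?_⟩
      show ((g⁻¹ : Matrix.SpecialLinearGroup (Fin 2) F) : Matrix (Fin 2) (Fin 2) F).mulVec
        (ψ (Additive.ofMul (Additive.toMul a))) = x
      rw [ofMul_toMul, ha, Matrix.mulVec_mulVec, hgg', Matrix.one_mulVec]
  · intro v w
    show ((g⁻¹ : Matrix.SpecialLinearGroup (Fin 2) F) : Matrix (Fin 2) (Fin 2) F).mulVec
        (ψ (Additive.ofMul (v * w))) = _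
    rw [ofMul_mul, map_add, Matrix.mulVec_add]
  · constructor
    · intro a b h
      exact hinj ((MulAut.conj g⁻¹).injective h)
    · intro y
      obtain ⟨l, hl⟩ := hsurj ((MulAut.conj g⁻¹).symm y)
      refine ⟨l, ?_⟩
      show (MulAut.conj g⁻¹) (ρ₀ l) = y
      rw [hl, MulEquiv.apply_symm_apply]
  · intro l v
    obtain ⟨w, hw, hφ⟩ := hact l v
    refine ⟨w, hw, ?_⟩
    show ((g⁻¹ : Matrix.SpecialLinearGroup (Fin 2) F) : Matrix (Fin 2) (Fin 2) F).mulVec
        (ψ (Additive.ofMul w)) =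
      (((MulAut.conj g⁻¹) (ρ₀ l) : Matrix.SpecialLinearGroup (Fin 2) F) : Matrix (Fin 2) (Fin 2) F).mulVec
        (((g⁻¹ : Matrix.SpecialLinearGroup (Fin 2) F) : Matrix (Fin 2) (Fin 2) F).mulVec (ψ (Additive.ofMul v)))
    rw [hφ, MulAut.conj_apply, inv_inv, Matrix.SpecialLinearGroup.coe_mul, Matrix.SpecialLinearGroup.coe_mul,
      Matrix.mulVec_mulVec, Matrix.mulVec_mulVec, Matrix.mul_assoc, Matrix.mul_assoc, hgg, Matrix.mul_one]
  · intro l
    have h1 : (l : G) ∈ T ↔ l ∈ (S : Subgroup L) := by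
      rw [hT, Subgroup.mem_map]
      constructor
      · rintro ⟨x, hx, hxl⟩
        have : x = l := Subtype.ext hxl
        rw [← this]
        exact hx
      · intro h
        exact ⟨l, h, rfl⟩
    have h2 : l ∈ (S : Subgroup L) ↔ ρ₀ l ∈ (S : Subgroup L).map ρ₀ := (Subgroup.mem_map_iff_mem hinj).symm
    rw [h1, h2, hmem, mem_sl2Unip]
    have h3 : ((MulAut.conj g⁻¹).toMonoidHom.comp ρ₀) l = g⁻¹ * ρ₀ l * g := by
      show (MulAut.conj g⁻¹) (ρ₀ l) = _
      rw [MulAut.conj_apply, inv_inv]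
    rw [h3]
  · rw [hT]
    intro x hx
    obtain ⟨y, _, hy⟩ := Subgroup.mem_map.mp hx
    rw [← hy]
    exact y.2

namespace NatSetup

variable {G : Type*} [Group G] {F : Type*} [Field F] {V L T : Subgroup G} (D : NatSetup F V L T)

include D

theorem comm (v w : V) : v * w = w * v := D.φ_bij.1 (by rw [D.φ_mul, D.φ_mul, add_comm])

theorem φ_one : D.φ 1 = 0 := by
  have := D.φ_mul 1 1
  rw [mul_one] at this
  exact left_eq_add.mp this

theorem φ_inv (v : V) : D.φ v⁻¹ = - D.φ v := by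
  have := D.φ_mul v v⁻¹
  rw [mul_inv_cancel, D.φ_one] at this
  exact (neg_eq_of_add_eq_zero_right this.symm).symm

theorem commutes_iff (l : L) (v : V) :
    (l : G) * (v : G) = (v : G) * (l : G) ↔
      ((D.ρ l : Matrix.SpecialLinearGroup (Fin 2) F) : Matrix (Fin 2) (Fin 2) F).mulVec (D.φ v) = D.φ v := by
  obtain ⟨w, hw, hφ⟩ := D.act l v
  constructor
  · intro h
    have : w = v := by
      apply Subtype.ext
      rw [hw, h, mul_inv_cancel_right]
    rw [← hφ, this]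
  · intro h
    have : w = v := D.φ_bij.1 (by rw [hφ, h])
    rw [this] at hw
    calc (l : G) * v = ((l : G) * v * (l : G)⁻¹) * l := by group
      _ = v * l := by rw [← hw]

theorem comm_elt (l : L) (v : V) : ∃ c : V, (c : G) = (v : G) * (l : G) * (v : G)⁻¹ * (l : G)⁻¹ ∧
    D.φ c = D.φ v - ((D.ρ l : Matrix.SpecialLinearGroup (Fin 2) F) : Matrix (Fin 2) (Fin 2) F).mulVec (D.φ v) := by
  obtain ⟨w, hw, hφ⟩ := D.act l v
  refine ⟨v * w⁻¹, ?_, ?_⟩
  · rw [Subgroup.coe_mul, Subgroup.coe_inv, hw]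
    group
  · rw [D.φ_mul, D.φ_inv, hφ, sub_eq_add_neg]

theorem exists_T_elt (b : F) : ∃ l : L, (l : G) ∈ T ∧ D.ρ l = sl2E b := by
  obtain ⟨l, hl⟩ := D.ρ_bij.2 (sl2E b)
  exact ⟨l, (D.mem_T l).mpr ⟨b, hl⟩, hl⟩

omit [Group G] D in
theorem fixed_of_snd_zero (b : F) (x : Fin 2 → F) (h : x 1 = 0) :
    ((sl2E b : Matrix.SpecialLinearGroup (Fin 2) F) : Matrix (Fin 2) (Fin 2) F).mulVec x = x := by
  rw [sl2E_mulVec]
  apply vec2_ext
  · simp [h]
  · simp

theorem mem_cent_T (v : V) : (v : G) ∈ Subgroup.centralizer (T : Set G) ↔ D.φ v 1 = 0 := by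
  rw [Subgroup.mem_centralizer_iff]
  constructor
  · intro h
    obtain ⟨l, hlT, hl⟩ := D.exists_T_elt 1
    have h1 := (D.commutes_iff l v).mp (h _ hlT)
    rw [hl, sl2E_mulVec] at h1
    have h2 : D.φ v 0 + 1 * D.φ v 1 = D.φ v 0 := by
      have := congrFun h1 0
      simpa using this
    linear_combination h2
  · intro h t ht
    have htL : t ∈ L := D.T_le ht
    obtain ⟨b, hb⟩ := (D.mem_T ⟨t, htL⟩).mp ht
    exact (D.commutes_iff ⟨t, htL⟩ v).mpr (by rw [hb]; exact fixed_of_snd_zero b _ h)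

theorem ne_zero_of_ne_one (l : L) (hl : l ≠ 1) (b : F) (hb : D.ρ l = sl2E b) : b ≠ 0 := by
  rintro rfl
  rw [sl2E_zero] at hb
  exact hl (D.ρ_bij.1 (by rw [hb, map_one]))

theorem mem_cent_s (s : G) (hs : s ∈ T) (hs1 : s ≠ 1) (v : V) :
    (v : G) ∈ Subgroup.centralizer ({s} : Set G) ↔ D.φ v 1 = 0 := by
  have hsL : s ∈ L := D.T_le hs
  obtain ⟨b, hb⟩ := (D.mem_T ⟨s, hsL⟩).mp hs
  have hb0 : b ≠ 0 := D.ne_zero_of_ne_one ⟨s, hsL⟩ (by intro h; exact hs1 (congrArg Subtype.val h)) b hb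
  rw [Subgroup.mem_centralizer_iff]
  constructor
  · intro h
    have h1 := (D.commutes_iff ⟨s, hsL⟩ v).mp (h s rfl)
    rw [hb, sl2E_mulVec] at h1
    have h2 : D.φ v 0 + b * D.φ v 1 = D.φ v 0 := by
      have := congrFun h1 0
      simpa using this
    have h3 : b * D.φ v 1 = 0 := by linear_combination h2
    exact (mul_eq_zero.mp h3).resolve_left hb0
  · intro h t ht
    rw [Set.mem_singleton_iff] at ht
    subst ht
    exact (D.commutes_iff ⟨t, hsL⟩ v).mpr (by rw [hb]; exact fixed_of_snd_zero b _ h)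

end NatSetup

end Cfsg.Agent.helper12
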