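import Cfsg.Agent.Lib_helper12_NatMod1

set_option autoImplicit false

namespace Cfsg.Agent.helper12

open Matrix
open scoped Pointwise commutatorElement

theorem NatSetup.mem_VC {G : Type*} [Group G] {F : Type*} [Field F] {V L T : Subgroup G} (D : NatSetup F V L T)
    (x : G) : x ∈ V ⊓ Subgroup.centralizer (T : Set G) ↔ ∃ hx : x ∈ V, D.φ ⟨x, hx⟩ 1 = 0 := by
  rw [Subgroup.mem_inf]
  constructor
  · rintro ⟨hx, hc⟩
    exact ⟨hx, (D.mem_cent_T ⟨x, hx⟩).mp hc⟩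
  · rintro ⟨hx, h⟩
    exact ⟨hx, (D.mem_cent_T ⟨x, hx⟩).mpr h⟩

theorem natmod_sylow_action {G : Type*} [Group G] [Finite G] {p : ℕ} [Fact p.Prime] {F : Type*} [Field F] [Fintype F]
    (n : ℕ) (hF : Fintype.card F = p ^ n) (V L : Subgroup G) (hnat : Cfsg.IsNaturalSL2Module F V L)
    (hf : L ⊓ Subgroup.centralizer (V : Set G) = ⊥) (S : Sylow p ↥L) (T : Subgroup G)
    (hT : T = ((S : Subgroup ↥L).map L.subtype)) :
    ⁅⁅V, T⁆, T⁆ = ⊥ ∧ Nat.card V = p ^ (2 * n) ∧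
    Nat.card ↥(V ⊓ Subgroup.centralizer ((T : Subgroup G) : Set G)) = p ^ n ∧
    ∀ s ∈ T, s ≠ 1 → (V ⊓ Subgroup.centralizer ({s} : Set G)) = (V ⊓ Subgroup.centralizer ((T : Subgroup G) : Set G)) ∧
      ⁅V, T⁆ = (V ⊓ Subgroup.centralizer ((T : Subgroup G) : Set G)) ∧
      ⁅V, Subgroup.zpowers s⁆ = (V ⊓ Subgroup.centralizer ((T : Subgroup G) : Set G)) ∧
      ∀ v ∈ V, v ∉ Subgroup.centralizer (T : Set G) →
        Subgroup.closure {x : G | ∃ t ∈ T, x = v * t * v⁻¹ * t⁻¹} =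
          (V ⊓ Subgroup.centralizer ((T : Subgroup G) : Set G)) := by
  obtain ⟨D⟩ := natSetup_exists n hF V L hnat hf S T hT
  have hcomm : ∀ v ∈ V, ∀ t ∈ T, v * t * v⁻¹ * t⁻¹ ∈ V ⊓ Subgroup.centralizer (T : Set G) := by
    intro v hv t ht
    have htL := D.T_le ht
    obtain ⟨b, hb⟩ := (D.mem_T ⟨t, htL⟩).mp ht
    obtain ⟨c, hc, hφ⟩ := D.comm_elt ⟨t, htL⟩ ⟨v, hv⟩
    rw [D.mem_VC]
    have hcv : (c : G) = v * t * v⁻¹ * t⁻¹ := hc
    rw [← hcv]
    refine ⟨c.2, ?_⟩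
    rw [Subtype.coe_eta, hφ, hb, sl2E_mulVec]
    simp
  have hVT : ⁅V, T⁆ ≤ V ⊓ Subgroup.centralizer (T : Set G) := by
    rw [Subgroup.commutator_le]
    intro v hv t ht
    rw [commutatorElement_def]
    exact hcomm v hv t ht
  refine ⟨?_, ?_, ?_, ?_⟩
  · rw [Subgroup.commutator_eq_bot_iff_le_centralizer]
    exact hVT.trans inf_le_right
  · rw [Nat.card_congr (Equiv.ofBijective D.φ D.φ_bij), Nat.card_eq_fintype_card, Fintype.card_fun,
      Fintype.card_fin, hF, ← pow_mul, mul_comm]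
  · have hbij : Function.Bijective (fun x : ↥(V ⊓ Subgroup.centralizer (T : Set G)) =>
        D.φ ⟨(x : G), (Subgroup.mem_inf.mp x.2).1⟩ 0) := by
      constructor
      · intro x y hxy
        obtain ⟨hx, hx1⟩ := (D.mem_VC x).mp x.2
        obtain ⟨hy, hy1⟩ := (D.mem_VC y).mp y.2
        have h1 : (⟨(x : G), hx⟩ : V) = ⟨(y : G), hy⟩ := D.φ_bij.1 (vec2_ext hxy (by rw [hx1, hy1]))
        have h2 : (x : G) = (y : G) := Subtype.mk.inj h1
        exact Subtype.ext h2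
      · intro a
        obtain ⟨v, hv⟩ := D.φ_bij.2 ![a, 0]
        have hmem : (v : G) ∈ V ⊓ Subgroup.centralizer (T : Set G) :=
          (D.mem_VC v).mpr ⟨v.2, by rw [Subtype.coe_eta, hv]; simp⟩
        refine ⟨⟨v, hmem⟩, ?_⟩
        show D.φ ⟨(v : G), _⟩ 0 = a
        rw [Subtype.coe_eta, hv]
        simp
    rw [Nat.card_congr (Equiv.ofBijective _ hbij), Nat.card_eq_fintype_card, hF]
  · intro s hs hs1
    have hsL := D.T_le hs
    obtain ⟨b, hb⟩ := (D.mem_T ⟨s, hsL⟩).mp hs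
    have hb0 : b ≠ 0 := D.ne_zero_of_ne_one ⟨s, hsL⟩ (by intro h; exact hs1 (congrArg Subtype.val h)) b hb
    have hge : V ⊓ Subgroup.centralizer (T : Set G) ≤ ⁅V, Subgroup.zpowers s⁆ := by
      intro u hu
      obtain ⟨huV, hu1⟩ := (D.mem_VC u).mp hu
      obtain ⟨w, hw⟩ := D.φ_bij.2 ![0, -(D.φ ⟨u, huV⟩ 0) / b]
      obtain ⟨c, hc, hφ⟩ := D.comm_elt ⟨s, hsL⟩ w
      have hcu : c = ⟨u, huV⟩ := by
        apply D.φ_bij.1
        rw [hφ, hb, sl2E_mulVec, hw]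
        apply vec2_ext
        · simp
          field_simp
        · simp [hu1]
      have h2 : u = ⁅(w : G), s⁆ := by
        rw [commutatorElement_def]
        have h3 := congrArg Subtype.val hcu
        rw [hc] at h3
        exact h3.symm
      rw [h2]
      exact Subgroup.commutator_mem_commutator w.2 (Subgroup.mem_zpowers s)
    have hle : ⁅V, Subgroup.zpowers s⁆ ≤ ⁅V, T⁆ :=
      Subgroup.commutator_mono le_rfl (Subgroup.zpowers_le.mpr hs)
    refine ⟨?_, ?_, ?_, ?_⟩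
    · ext x
      rw [D.mem_VC, Subgroup.mem_inf]
      constructor
      · rintro ⟨hx, hc⟩
        exact ⟨hx, (D.mem_cent_s s hs hs1 ⟨x, hx⟩).mp hc⟩
      · rintro ⟨hx, h⟩
        exact ⟨hx, (D.mem_cent_s s hs hs1 ⟨x, hx⟩).mpr h⟩
    · exact le_antisymm hVT (hge.trans hle)
    · exact le_antisymm (hle.trans hVT) hge
    · intro v hv hvc
      apply le_antisymm
      · rw [Subgroup.closure_le]
        rintro x ⟨t, ht, rfl⟩
        exact hcomm v hv t ht
      · intro u hu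
        obtain ⟨huV, hu1⟩ := (D.mem_VC u).mp hu
        have hy0 : D.φ ⟨v, hv⟩ 1 ≠ 0 := fun h => hvc ((D.mem_cent_T ⟨v, hv⟩).mpr h)
        obtain ⟨l, hlT, hl⟩ := D.exists_T_elt (-(D.φ ⟨u, huV⟩ 0) / (D.φ ⟨v, hv⟩ 1))
        obtain ⟨c, hc, hφ⟩ := D.comm_elt l ⟨v, hv⟩
        have hcu : c = ⟨u, huV⟩ := by
          apply D.φ_bij.1
          rw [hφ, hl, sl2E_mulVec]
          apply vec2_ext
          · simp
            field_simp
          · simp [hu1]
        apply Subgroup.subset_closure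
        refine ⟨(l : G), hlT, ?_⟩
        have h3 := congrArg Subtype.val hcu
        rw [hc] at h3
        exact h3.symm

end Cfsg.Agent.helper12
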