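import Mathlib

set_option autoImplicit false

universe u

namespace Cfsg.Agent.helper12

theorem o60_prime5 : Fact (Nat.Prime 5) := ⟨by norm_num⟩

attribute [local instance] o60_prime5

theorem o60_fac (p k a : ℕ) (hp : p.Prime) (hk : ¬ p ∣ k) (hk0 : k ≠ 0) :
    (p ^ a * k).factorization p = a := by
  rw [Nat.factorization_mul (pow_ne_zero _ hp.ne_zero) hk0, Finsupp.add_apply,
    Nat.factorization_eq_zero_of_not_dvd hk, add_zero, Nat.Prime.factorization_pow hp,
    Finsupp.single_eq_same]

/-- If a normal subgroup `M` of `p'`-index has a unique Sylow `p`-subgroup, so does the group. -/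
theorem o60_sylow_unique_of_normal {K : Type*} [Group K] [Finite K] (p : ℕ) [Fact p.Prime]
    (M : Subgroup K) [M.Normal] (hidx : ¬ p ∣ M.index) (hM : Nat.card (Sylow p M) = 1) :
    Nat.card (Sylow p K) = 1 := by
  have hp : p.Prime := Fact.out
  have hle : ∀ Q : Sylow p K, (Q : Subgroup K) ≤ M := by
    intro Q x hx
    obtain ⟨j, hj⟩ := (IsPGroup.iff_orderOf.mp Q.isPGroup') ⟨x, hx⟩
    rw [Subgroup.orderOf_mk] at hj
    have h1 : orderOf (QuotientGroup.mk' M x) ∣ p ^ j := by
      have := orderOf_map_dvd (QuotientGroup.mk' M) x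
      rwa [hj] at this
    have h2 : orderOf (QuotientGroup.mk' M x) ∣ M.index := by
      rw [Subgroup.index_eq_card]; exact orderOf_dvd_natCard _
    have h3 : (p ^ j).Coprime M.index :=
      Nat.Coprime.pow_left j ((Nat.Prime.coprime_iff_not_dvd hp).mpr hidx)
    have h4 := Nat.eq_one_of_dvd_coprimes h3 h1 h2
    rw [orderOf_eq_one_iff] at h4
    exact (QuotientGroup.eq_one_iff x).mp h4
  have hfac : (Nat.card K).factorization p = (Nat.card M).factorization p := by
    have h1 : Nat.card M * M.index = Nat.card K := M.card_mul_index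
    rw [← h1, Nat.factorization_mul Nat.card_pos.ne' Subgroup.index_ne_zero_of_finite,
      Finsupp.add_apply, Nat.factorization_eq_zero_of_not_dvd hidx, add_zero]
  have hc : ∀ Q : Sylow p K, Nat.card ((Q : Subgroup K).subgroupOf M)
      = p ^ (Nat.card M).factorization p := by
    intro Q
    rw [Nat.card_congr (Subgroup.subgroupOfEquivOfLe (hle Q)).toEquiv, Q.card_eq_multiplicity,
      hfac]
  haveI : Subsingleton (Sylow p M) := (Nat.card_eq_one_iff_unique.mp hM).1
  have hsub : ∀ Q1 Q2 : Sylow p K, Q1 = Q2 := by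
    intro Q1 Q2
    have h1 : Sylow.ofCard _ (hc Q1) = Sylow.ofCard _ (hc Q2) := Subsingleton.elim _ _
    have h2 : (Q1 : Subgroup K).subgroupOf M = (Q2 : Subgroup K).subgroupOf M :=
      congrArg (fun S : Sylow p M => (S : Subgroup M)) h1
    apply Sylow.ext
    have h3 := congrArg (Subgroup.map M.subtype) h2
    rwa [Subgroup.subgroupOf_map_subtype, Subgroup.subgroupOf_map_subtype,
      inf_of_le_left (hle Q1), inf_of_le_left (hle Q2)] at h3
  rw [Nat.card_eq_one_iff_unique]
  exact ⟨⟨hsub⟩, inferInstance⟩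

theorem o60_sylow5_index {K : Type*} [Group K] [Finite K] (k : ℕ) (hk : Nat.card K = 5 * k)
    (hk5 : ¬ 5 ∣ k) (P : Sylow 5 K) : Nat.card P = 5 ∧ (P : Subgroup K).index = k := by
  have hk0 : k ≠ 0 := by rintro rfl; simp at hk5
  have h1 : Nat.card P = 5 := by
    rw [P.card_eq_multiplicity, hk]
    have := o60_fac 5 k 1 (by norm_num) hk5 hk0
    rw [pow_one] at this
    rw [this, pow_one]
  refine ⟨h1, ?_⟩
  have h2 := (P : Subgroup K).card_mul_index
  rw [h1, hk] at h2
  omega

theorem o60_sylow5_unique_small {K : Type*} [Group K] [Finite K] (k : ℕ)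
    (hk : Nat.card K = 5 * k) (hk0 : 0 < k) (hk4 : k ≤ 4) : Nat.card (Sylow 5 K) = 1 := by
  obtain ⟨P⟩ : Nonempty (Sylow 5 K) := inferInstance
  have h5 : ¬ 5 ∣ k := by omega
  obtain ⟨_, hidx⟩ := o60_sylow5_index k hk h5 P
  have h1 : Nat.card (Sylow 5 K) % 5 = 1 % 5 := card_sylow_modEq_one 5 K
  have h2 := P.card_dvd_index
  rw [hidx] at h2
  have h3 : Nat.card (Sylow 5 K) ≤ k := Nat.le_of_dvd hk0 h2
  omega

theorem o60_sylow5_unique_30 {K : Type u} [Group K] [Finite K] (hk : Nat.card K = 30) :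
    Nat.card (Sylow 5 K) = 1 := by
  obtain ⟨P2⟩ : Nonempty (Sylow 2 K) := inferInstance
  have hmin : (Nat.card K).minFac = 2 := by rw [hk]; norm_num
  have hP2 : Nat.card P2 = 2 := by
    rw [P2.card_eq_multiplicity, hk]
    have := o60_fac 2 15 1 Nat.prime_two (by norm_num) (by norm_num)
    rw [pow_one] at this
    have e : (30 : ℕ) = 2 * 15 := by norm_num
    rw [e, this, pow_one]
  have hcyc : IsCyclic P2 := isCyclic_of_prime_card (p := 2) hP2
  have hc := IsCyclic.isComplement' hmin hcyc
  obtain ⟨M, hM⟩ : ∃ M : Subgroup K,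
      M = (MonoidHom.transferSylow P2 (hcyc.normalizer_le_centralizer hmin)).ker := ⟨_, rfl⟩
  rw [← hM] at hc
  haveI : M.Normal := by rw [hM]; infer_instance
  have hMcard : Nat.card M = 15 := by
    have := hc.card_mul
    rw [hP2, hk] at this; omega
  have hMidx : M.index = 2 := by
    have := M.card_mul_index; rw [hMcard, hk] at this; omega
  apply o60_sylow_unique_of_normal 5 M (by rw [hMidx]; norm_num)
  exact o60_sylow5_unique_small 3 (by rw [hMcard]) (by norm_num) (by norm_num)

end Cfsg.Agent.helper12
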