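import Cfsg.Agent.Lib_helper12_Cusp10

set_option autoImplicit false
set_option linter.unusedSectionVars false

namespace Cfsg.Agent.helper12

open Matrix Cfsg

theorem card_centralizer_of_isConj {G : Type*} [Group G] {x y : G} (h : IsConj x y) :
    Nat.card (Subgroup.centralizer ({x} : Set G)) = Nat.card (Subgroup.centralizer ({y} : Set G)) := by
  obtain ⟨c, hc⟩ := isConj_iff.mp h
  apply Nat.card_congr
  refine ⟨fun g => ⟨c * g * c⁻¹, ?_⟩, fun g => ⟨c⁻¹ * g * c, ?_⟩, ?_, ?_⟩
  · have hg := Subgroup.mem_centralizer_singleton_iff.mp g.2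
    rw [Subgroup.mem_centralizer_singleton_iff, ← hc]
    calc c * ↑g * c⁻¹ * (c * x * c⁻¹) = c * (↑g * x) * c⁻¹ := by group
      _ = c * (x * ↑g) * c⁻¹ := by rw [hg]
      _ = c * x * c⁻¹ * (c * ↑g * c⁻¹) := by group
  · have hg := Subgroup.mem_centralizer_singleton_iff.mp g.2
    have hg' : ↑g * (c * x * c⁻¹) = (c * x * c⁻¹) * ↑g := by rw [hc]; exact hg
    rw [Subgroup.mem_centralizer_singleton_iff]
    calc c⁻¹ * ↑g * c * x = c⁻¹ * (↑g * (c * x * c⁻¹)) * c := by group
      _ = c⁻¹ * ((c * x * c⁻¹) * ↑g) * c := by rw [hg']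
      _ = x * (c⁻¹ * ↑g * c) := by group
  · intro g
    apply Subtype.ext
    simp only
    group
  · intro g
    apply Subtype.ext
    simp only
    group

theorem mem_normalizer_zpowers {G : Type*} [Group G] (x g : G) (h1 : g * x * g⁻¹ ∈ Subgroup.zpowers x)
    (h2 : g⁻¹ * x * g ∈ Subgroup.zpowers x) : g ∈ Subgroup.normalizer (Subgroup.zpowers x : Set G) := by
  have key : ∀ (c : G), c * x * c⁻¹ ∈ Subgroup.zpowers x → ∀ n ∈ Subgroup.zpowers x, c * n * c⁻¹ ∈ Subgroup.zpowers x := by
    intro c hc n hn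
    obtain ⟨k, rfl⟩ := Subgroup.mem_zpowers_iff.mp hn
    have : c * x ^ k * c⁻¹ = (c * x * c⁻¹) ^ k := by
      rw [conj_zpow]
    rw [this]
    exact Subgroup.zpow_mem _ hc k
  rw [Subgroup.mem_normalizer_iff]
  intro n
  constructor
  · exact key g h1 n
  · intro hn
    have h2' : g⁻¹ * x * g⁻¹⁻¹ ∈ Subgroup.zpowers x := by rwa [inv_inv]
    have := key g⁻¹ h2' _ hn
    have e : g⁻¹ * (g * n * g⁻¹) * g⁻¹⁻¹ = n := by group
    rwa [e] at this

variable {F : Type*} [Field F] [Fintype F]

theorem four_ne_zero_of_odd_card (hodd : Odd (Fintype.card F)) : (4 : F) ≠ 0 := by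
  have h2 := two_ne_zero_of_odd_card hodd
  have : (4 : F) = 2 * 2 := by norm_num
  rw [this]
  exact mul_ne_zero h2 h2

/-- a subgroup of order four of SL2(q), q odd, is generated by an element with square -1 -/
theorem sl2_order_four_of_card_four (hodd : Odd (Fintype.card F)) (A : Subgroup (Matrix.SpecialLinearGroup (Fin 2) F))
    (hA : Nat.card A = 4) :
    ∃ x ∈ A, (x : Matrix (Fin 2) (Fin 2) F) * (x : Matrix (Fin 2) (Fin 2) F) = -1 ∧ A = Subgroup.zpowers x := by
  have h2 : (2 : F) ≠ 0 := two_ne_zero_of_odd_card hodd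
  have hex : ∃ x ∈ A, x * x ≠ 1 := by
    by_contra hcon
    push Not at hcon
    have hle : A ≤ Subgroup.zpowers (sl2NegOne : Matrix.SpecialLinearGroup (Fin 2) F) := by
      intro x hx
      rcases sl2_sq_eq_one h2 (hcon x hx) with h | h
      · have : x = 1 := Subtype.ext h
        rw [this]; exact Subgroup.one_mem _
      · have : x = sl2NegOne := Subtype.ext (by rw [h, sl2NegOne_coe])
        rw [this]; exact Subgroup.mem_zpowers _
    have h1 := Subgroup.card_le_of_le hle
    rw [hA, Nat.card_zpowers] at h1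
    have h3 : orderOf (sl2NegOne : Matrix.SpecialLinearGroup (Fin 2) F) ∣ 2 :=
      orderOf_dvd_of_pow_eq_one (by rw [sq]; exact sl2NegOne_mul_self)
    have := Nat.le_of_dvd (by norm_num) h3
    omega
  obtain ⟨x, hxA, hx⟩ := hex
  have hord4 : orderOf x ∣ 4 := by
    have := Subgroup.orderOf_dvd_natCard A hxA
    rwa [hA] at this
  have hord : orderOf x = 4 := by
    have hle := Nat.le_of_dvd (by norm_num) hord4
    have h0 : 0 < orderOf x := Nat.pos_of_dvd_of_pos hord4 (by norm_num)
    have hne1 : orderOf x ≠ 1 := by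
      intro h
      rw [orderOf_eq_one_iff] at h
      apply hx
      rw [h, one_mul]
    have hne2 : orderOf x ≠ 2 := by
      intro h
      apply hx
      have := pow_orderOf_eq_one x
      rw [h] at this
      rw [← sq]
      exact this
    have hne3 : orderOf x ≠ 3 := by
      intro h
      rw [h] at hord4
      norm_num at hord4
    omega
  have hx4 : (x * x) * (x * x) = 1 := by
    have := pow_orderOf_eq_one x
    rw [hord] at this
    calc (x * x) * (x * x) = x ^ 4 := by
          simp only [pow_succ, pow_zero, one_mul, mul_assoc]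
      _ = 1 := this
  refine ⟨x, hxA, ?_, ?_⟩
  · rcases sl2_sq_eq_one h2 hx4 with h | h
    · exfalso
      exact hx (Subtype.ext h)
    · rw [← Matrix.SpecialLinearGroup.coe_mul]
      exact h
  · symm
    apply Subgroup.eq_of_le_of_card_ge (Subgroup.zpowers_le.mpr hxA)
    rw [hA, Nat.card_zpowers, hord]

theorem sl2_isConj_of_sq_neg_one (hodd : Odd (Fintype.card F)) {x y : Matrix.SpecialLinearGroup (Fin 2) F}
    (hx : (x : Matrix (Fin 2) (Fin 2) F) * (x : Matrix (Fin 2) (Fin 2) F) = -1)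
    (hy : (y : Matrix (Fin 2) (Fin 2) F) * (y : Matrix (Fin 2) (Fin 2) F) = -1) : IsConj x y := by
  apply sl2_isConj_of_disc_ne (Nat.odd_iff.mp hodd)
  · rw [sl2_trace_zero_of_sq x hx, sl2_trace_zero_of_sq y hy]
  · rw [sl2_trace_zero_of_sq x hx]
    intro h
    apply four_ne_zero_of_odd_card hodd
    rw [← h]
    ring

theorem sl2_trace_sq_ne_of_sq_neg_one (hodd : Odd (Fintype.card F)) {x : Matrix.SpecialLinearGroup (Fin 2) F}
    (hx : (x : Matrix (Fin 2) (Fin 2) F) * (x : Matrix (Fin 2) (Fin 2) F) = -1) :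
    (x : Matrix (Fin 2) (Fin 2) F).trace ^ 2 ≠ 4 := by
  rw [sl2_trace_zero_of_sq x hx]
  intro h
  apply four_ne_zero_of_odd_card hodd
  rw [← h]
  ring

theorem sl2_conj_sq_neg_one {x : Matrix.SpecialLinearGroup (Fin 2) F} (g : Matrix.SpecialLinearGroup (Fin 2) F)
    (hx : (x : Matrix (Fin 2) (Fin 2) F) * (x : Matrix (Fin 2) (Fin 2) F) = -1) :
    ((g * x * g⁻¹ : Matrix.SpecialLinearGroup (Fin 2) F) : Matrix (Fin 2) (Fin 2) F) *
      ((g * x * g⁻¹ : Matrix.SpecialLinearGroup (Fin 2) F) : Matrix (Fin 2) (Fin 2) F) = -1 := by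
  have hx' : x * x = sl2NegOne := Subtype.ext (by rw [Matrix.SpecialLinearGroup.coe_mul, hx, sl2NegOne_coe])
  have : (g * x * g⁻¹) * (g * x * g⁻¹) = sl2NegOne := by
    have hc : g * sl2NegOne = sl2NegOne * g := by
      have := sl2NegOne_mem_center (F := F)
      exact (Subgroup.mem_center_iff.mp this g)
    calc (g * x * g⁻¹) * (g * x * g⁻¹) = g * (x * x) * g⁻¹ := by group
      _ = g * sl2NegOne * g⁻¹ := by rw [hx']
      _ = sl2NegOne := by rw [hc]; group
  rw [← Matrix.SpecialLinearGroup.coe_mul, this, sl2NegOne_coe]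

/-- the normalizer of <x> for x^2 = -1 equals the normalizer of the torus C(x) -/
theorem sl2_normalizer_zpowers_eq (hodd : Odd (Fintype.card F)) {x : Matrix.SpecialLinearGroup (Fin 2) F}
    (hx : (x : Matrix (Fin 2) (Fin 2) F) * (x : Matrix (Fin 2) (Fin 2) F) = -1) :
    Subgroup.normalizer (Subgroup.zpowers x : Set (Matrix.SpecialLinearGroup (Fin 2) F)) =
      Subgroup.normalizer ((Subgroup.centralizer ({x} : Set (Matrix.SpecialLinearGroup (Fin 2) F))) : Set (Matrix.SpecialLinearGroup (Fin 2) F)) := by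
  have h2 : (2 : F) ≠ 0 := two_ne_zero_of_odd_card hodd
  have hD := sl2_trace_sq_ne_of_sq_neg_one hodd hx
  have hns := sl2_not_isScalar2_of_disc x hD
  have hzc : Subgroup.zpowers x ≤ Subgroup.centralizer ({x} : Set (Matrix.SpecialLinearGroup (Fin 2) F)) := by
    rw [Subgroup.zpowers_le]
    exact sl2_mem_centralizer_singleton.mpr rfl
  ext g
  constructor
  · intro hg
    have h1 : g * x * g⁻¹ ∈ Subgroup.zpowers x :=
      (Subgroup.mem_normalizer_iff.mp hg x).mp (Subgroup.mem_zpowers x)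
    have hD' := sl2_trace_sq_ne_of_sq_neg_one hodd (sl2_conj_sq_neg_one g hx)
    have hns' := sl2_not_isScalar2_of_disc (g * x * g⁻¹) hD'
    have heq := sl2_centralizer_eq_of_mem hns (hzc h1) hns'
    rw [Subgroup.mem_normalizer_iff]
    intro n
    have key : n ∈ Subgroup.centralizer ({x} : Set (Matrix.SpecialLinearGroup (Fin 2) F)) ↔
        g * n * g⁻¹ ∈ Subgroup.centralizer ({g * x * g⁻¹} : Set (Matrix.SpecialLinearGroup (Fin 2) F)) := by
      rw [sl2_mem_centralizer_singleton, sl2_mem_centralizer_singleton]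
      constructor
      · intro h
        calc g * x * g⁻¹ * (g * n * g⁻¹) = g * (x * n) * g⁻¹ := by group
          _ = g * (n * x) * g⁻¹ := by rw [h]
          _ = g * n * g⁻¹ * (g * x * g⁻¹) := by group
      · intro h
        calc x * n = g⁻¹ * (g * x * g⁻¹ * (g * n * g⁻¹)) * g := by group
          _ = g⁻¹ * (g * n * g⁻¹ * (g * x * g⁻¹)) * g := by rw [h]
          _ = n * x := by group
    rw [key, heq]
  · intro hg
    rcases sl2_normalizer_cases h2 hD hg with h | h
    · have hc := sl2_mem_centralizer_singleton.mp h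
      apply mem_normalizer_zpowers
      · have : g * x * g⁻¹ = x := by
          calc g * x * g⁻¹ = (x * g) * g⁻¹ := by rw [hc]
            _ = x := by group
        rw [this]; exact Subgroup.mem_zpowers x
      · have : g⁻¹ * x * g = x := by
          calc g⁻¹ * x * g = g⁻¹ * (x * g) := by group
            _ = g⁻¹ * (g * x) := by rw [hc]
            _ = x := by group
        rw [this]; exact Subgroup.mem_zpowers x
    · apply mem_normalizer_zpowers
      · rw [h]; exact Subgroup.inv_mem _ (Subgroup.mem_zpowers x)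
      · have := sl2_inverting_inv h
        rw [inv_inv] at this
        rw [this]; exact Subgroup.inv_mem _ (Subgroup.mem_zpowers x)

theorem sl2UT_mul_self_of_sq (a : Fˣ) (ha : (a : F) * (a : F) = -1) :
    ((sl2UT a 0 : Matrix.SpecialLinearGroup (Fin 2) F) : Matrix (Fin 2) (Fin 2) F) *
      ((sl2UT a 0 : Matrix.SpecialLinearGroup (Fin 2) F) : Matrix (Fin 2) (Fin 2) F) = -1 := by
  have hinv : ((a⁻¹ : Fˣ) : F) * ((a⁻¹ : Fˣ) : F) = -1 := by
    have h1 : (a : F) * ((a⁻¹ : Fˣ) : F) = 1 := by simp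
    have : ((a : F) * (a : F)) * (((a⁻¹ : Fˣ) : F) * ((a⁻¹ : Fˣ) : F)) = 1 := by
      calc ((a : F) * (a : F)) * (((a⁻¹ : Fˣ) : F) * ((a⁻¹ : Fˣ) : F))
          = ((a : F) * ((a⁻¹ : Fˣ) : F)) * ((a : F) * ((a⁻¹ : Fˣ) : F)) := by ring
        _ = 1 := by rw [h1, one_mul]
    rw [ha] at this
    linear_combination -this
  have hinv' : ((a : F))⁻¹ * ((a : F))⁻¹ = -1 := by
    rw [← Units.val_inv_eq_inv_val]; exact hinv
  simp only [sl2UT]
  ext i j
  fin_cases i <;> fin_cases j <;> simp [Matrix.mul_apply, Fin.sum_univ_two, ha, hinv']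

/-- order of the centralizer of an element of square -1, q = 1 mod 4 -/
theorem card_sl2_centralizer_sq_neg_one_split (hodd : Odd (Fintype.card F)) (h4 : Fintype.card F % 4 = 1)
    {x : Matrix.SpecialLinearGroup (Fin 2) F}
    (hx : (x : Matrix (Fin 2) (Fin 2) F) * (x : Matrix (Fin 2) (Fin 2) F) = -1) :
    Nat.card (Subgroup.centralizer ({x} : Set (Matrix.SpecialLinearGroup (Fin 2) F))) = Fintype.card F - 1 := by
  have h2 : (2 : F) ≠ 0 := two_ne_zero_of_odd_card hodd
  have hsq : IsSquare (-1 : F) := by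
    rw [FiniteField.isSquare_neg_one_iff]
    omega
  obtain ⟨i, hi⟩ := hsq
  have hi0 : i ≠ 0 := by
    rintro rfl
    simp at hi
  obtain ⟨a, haa⟩ : ∃ a : Fˣ, (a : F) = i := ⟨Units.mk0 i hi0, rfl⟩
  have ha : (a : F) * (a : F) = -1 := by rw [haa, ← hi]
  have ha2 : (a : F) ^ 2 ≠ 1 := by
    rw [sq, ha]
    intro h
    apply h2
    linear_combination -h
  rw [card_centralizer_of_isConj (sl2_isConj_of_sq_neg_one hodd hx (sl2UT_mul_self_of_sq a ha))]
  exact card_sl2_diag_centralizer a ha2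

/-- order of the centralizer of an element of square -1, q = 3 mod 4 -/
theorem card_sl2_centralizer_sq_neg_one_nonsplit (hodd : Odd (Fintype.card F)) (h4 : Fintype.card F % 4 = 3)
    {x : Matrix.SpecialLinearGroup (Fin 2) F}
    (hx : (x : Matrix (Fin 2) (Fin 2) F) * (x : Matrix (Fin 2) (Fin 2) F) = -1) :
    Nat.card (Subgroup.centralizer ({x} : Set (Matrix.SpecialLinearGroup (Fin 2) F))) = Fintype.card F + 1 := by
  have hnsq : ¬ IsSquare (-1 : F) := by
    rw [FiniteField.isSquare_neg_one_iff]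
    omega
  apply card_sl2_centralizer_noEigen hodd
  intro c v hv hcv
  apply hnsq
  refine ⟨c, ?_⟩
  have h1 : ((x : Matrix (Fin 2) (Fin 2) F) * (x : Matrix (Fin 2) (Fin 2) F)).mulVec v = (c * c) • v := by
    rw [← Matrix.mulVec_mulVec, hcv, Matrix.mulVec_smul, hcv, smul_smul]
  rw [hx] at h1
  have h3 : ((-1 : F) - c * c) • v = 0 := by
    rw [sub_smul, ← h1, Matrix.neg_mulVec, Matrix.one_mulVec, neg_smul, one_smul, sub_self]
  rcases smul_eq_zero.mp h3 with h | h
  · linear_combination h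
  · exact absurd h hv

end Cfsg.Agent.helper12
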