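import Mathlib

set_option autoImplicit false

/-!
A counting lemma on multiplicities (helper12), used for characters of degree `p - 1`.
-/

namespace Cfsg.Agent.helper12

theorem p1_comb {X : Type*} [Fintype X] [DecidableEq X] (a : X → ℕ) (A e q : ℕ)
    (hcard : Fintype.card X = q)
    (h1 : A + ∑ k, a k = q)
    (h2 : A ^ 2 + ∑ k, (a k) ^ 2 < e + q)
    (h3 : ∀ k, e ≤ (Finset.univ.filter (fun k' => a k' = a k)).card)
    (he : 2 ≤ e) : A = 0 := by
  by_contra hA
  have hA1 : 1 ≤ A := Nat.one_le_iff_ne_zero.mpr hA
  have hsq : ∀ k, a k ≤ (a k) ^ 2 := fun k => Nat.le_self_pow (by norm_num) _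
  have hsum_le : ∑ k, a k ≤ ∑ k, (a k) ^ 2 := Finset.sum_le_sum (fun k _ => hsq k)
  -- some zero
  have hz : ∃ k₀, a k₀ = 0 := by
    by_contra hno
    push Not at hno
    have : ∑ _k : X, 1 ≤ ∑ k, a k :=
      Finset.sum_le_sum (fun k _ => Nat.one_le_iff_ne_zero.mpr (hno k))
    simp only [Finset.sum_const, Finset.card_univ, smul_eq_mul, mul_one] at this
    omega
  obtain ⟨k₀, hk₀⟩ := hz
  have hZ := h3 k₀
  rw [hk₀] at hZ
  by_cases hAe : e ≤ A
  · have : A + e ≤ A ^ 2 := by nlinarith
    omega
  · push Not at hAe
    -- some value ≥ 2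
    have h2' : ∃ k₁, 2 ≤ a k₁ := by
      by_contra hno
      push Not at hno
      have hle : ∀ k, a k ≤ if a k = 0 then 0 else 1 := by
        intro k
        have := hno k
        split_ifs with h
        · omega
        · omega
      have hs : ∑ k, a k ≤ ∑ k, (if a k = 0 then 0 else 1) :=
        Finset.sum_le_sum (fun k _ => hle k)
      have hcnt : ∑ k : X, (if a k = 0 then 0 else 1)
          = (Finset.univ.filter (fun k => ¬ a k = 0)).card := by
        rw [Finset.card_filter]
        apply Finset.sum_congr rfl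
        intro k _
        by_cases h : a k = 0 <;> simp [h]
      have hsplit : (Finset.univ.filter (fun k => a k = 0)).card
          + (Finset.univ.filter (fun k => ¬ a k = 0)).card = Fintype.card X := by
        rw [Finset.card_filter_add_card_filter_not]  -- placeholder
        rfl
      omega
    obtain ⟨k₁, hk₁⟩ := h2'
    have hW := h3 k₁
    have hterm : ∀ k, a k + (if a k = a k₁ then 2 else 0) ≤ (a k) ^ 2 := by
      intro k
      split_ifs with h
      · rw [h]; nlinarith
      · simpa using hsq k
    have hs : ∑ k, (a k + (if a k = a k₁ then 2 else 0)) ≤ ∑ k, (a k) ^ 2 :=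
      Finset.sum_le_sum (fun k _ => hterm k)
    rw [Finset.sum_add_distrib] at hs
    have hcnt : ∑ k : X, (if a k = a k₁ then 2 else 0)
        = 2 * (Finset.univ.filter (fun k => a k = a k₁)).card := by
      rw [Finset.card_filter, Finset.mul_sum]
      apply Finset.sum_congr rfl
      intro k _
      by_cases h : a k = a k₁ <;> simp [h]
    have hA2 : A ≤ A ^ 2 := Nat.le_self_pow (by norm_num) _
    omega

end Cfsg.Agent.helper12
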