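import Mathlib

set_option autoImplicit false
set_option linter.unusedVariables false
set_option linter.unusedSectionVars false
set_option linter.style.longLine false
set_option linter.style.haveILetI false

namespace Cfsg.Agent.helper1

open Representation Module

section RepEquiv

variable {G : Type*} [Group G] [Finite G]
variable {V : Type*} [AddCommGroup V] [Module ℂ V] [FiniteDimensional ℂ V]
variable {W : Type*} [AddCommGroup W] [Module ℂ W] [FiniteDimensional ℂ W]

instance neZero_card_complex : NeZero (Nat.card G : ℂ) :=
  ⟨by exact_mod_cast (Nat.card_pos (α := G)).ne'⟩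

/-- Maschke: invariant complements -/
theorem exists_subrep_isCompl (ρ : Representation ℂ G V) (U : Subrepresentation ρ) :
    ∃ U' : Subrepresentation ρ, IsCompl U.toSubmodule U'.toSubmodule := by
  obtain ⟨U', hU'⟩ := exists_isCompl U
  refine ⟨U', ?_, ?_⟩
  · rw [disjoint_iff]
    have := congrArg Subrepresentation.toSubmodule (disjoint_iff.mp hU'.1)
    exact this
  · rw [codisjoint_iff]
    have := congrArg Subrepresentation.toSubmodule (codisjoint_iff.mp hU'.2)
    exact this

/-- characters are additive on invariant direct sum decompositions -/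
theorem character_eq_add_of_isCompl (ρ : Representation ℂ G V) (U U' : Subrepresentation ρ)
    (h : IsCompl U.toSubmodule U'.toSubmodule) (g : G) :
    ρ.character g = U.toRepresentation.character g + U'.toRepresentation.character g := by
  let e := Submodule.prodEquivOfIsCompl U.toSubmodule U'.toSubmodule h
  have h1 : ρ g = e.conj (LinearMap.prodMap (U.toRepresentation g) (U'.toRepresentation g)) := by
    apply LinearMap.ext
    intro v
    obtain ⟨⟨u, u'⟩, rfl⟩ := e.surjective v
    rw [LinearEquiv.conj_apply_apply, LinearEquiv.symm_apply_apply]
    simp only [e, Submodule.coe_prodEquivOfIsCompl', LinearMap.prodMap_apply, map_add]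
    rfl
  show LinearMap.trace ℂ V (ρ g) = _
  rw [h1, LinearMap.trace_conj', LinearMap.trace_prodMap']
  rfl

/-- gluing equivalences along invariant decompositions -/
theorem equiv_of_isCompl (ρ : Representation ℂ G V) (σ : Representation ℂ G W)
    (U U' : Subrepresentation ρ) (h : IsCompl U.toSubmodule U'.toSubmodule)
    (X X' : Subrepresentation σ) (h' : IsCompl X.toSubmodule X'.toSubmodule)
    (a : U.toRepresentation.Equiv X.toRepresentation)
    (b : U'.toRepresentation.Equiv X'.toRepresentation) : Nonempty (ρ.Equiv σ) := by
  let e := Submodule.prodEquivOfIsCompl U.toSubmodule U'.toSubmodule h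
  let e' := Submodule.prodEquivOfIsCompl X.toSubmodule X'.toSubmodule h'
  let E : V ≃ₗ[ℂ] W := (e.symm.trans (LinearEquiv.prodCongr a.toLinearEquiv b.toLinearEquiv)).trans e'
  refine ⟨Representation.Equiv.mk E ?_⟩
  intro g
  apply LinearMap.ext
  intro v
  obtain ⟨⟨u, u'⟩, rfl⟩ := e.surjective v
  have hρ : ρ g (e (u, u')) = e (U.toRepresentation g u, U'.toRepresentation g u') := by
    simp only [e, Submodule.coe_prodEquivOfIsCompl', map_add]
    rfl
  have hE : ∀ p : U.toSubmodule × U'.toSubmodule,
      E (e p) = e' (a.toLinearEquiv p.1, b.toLinearEquiv p.2) := by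
    intro p
    simp [E]
  have ha : a.toLinearEquiv (U.toRepresentation g u) = X.toRepresentation g (a.toLinearEquiv u) :=
    IntertwiningMap.isIntertwining _ _ a.toIntertwiningMap g u
  have hb : b.toLinearEquiv (U'.toRepresentation g u') = X'.toRepresentation g (b.toLinearEquiv u') :=
    IntertwiningMap.isIntertwining _ _ b.toIntertwiningMap g u'
  show E (ρ g (e (u, u'))) = σ g (E (e (u, u')))
  rw [hρ, hE, hE]
  simp only [ha, hb]
  simp only [e', Submodule.coe_prodEquivOfIsCompl', map_add]
  rfl

/-- existence of a minimal nonzero subrepresentation -/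
theorem exists_minimal_subrep (ρ : Representation ℂ G V) [Nontrivial V] :
    ∃ U : Subrepresentation ρ, U.toSubmodule ≠ ⊥ ∧
      ∀ U₁ : Subrepresentation ρ, U₁ ≤ U → U₁.toSubmodule = ⊥ ∨ U₁ = U := by
  classical
  have hex : ∃ d : ℕ, ∃ U : Subrepresentation ρ, U.toSubmodule ≠ ⊥ ∧ finrank ℂ U.toSubmodule = d :=
    ⟨_, ⊤, by
      show (⊤ : Submodule ℂ V) ≠ ⊥
      exact top_ne_bot, rfl⟩
  obtain ⟨U, hU, hd⟩ := Nat.find_spec hex
  refine ⟨U, hU, fun U₁ hle => ?_⟩
  by_cases h1 : U₁.toSubmodule = ⊥
  · exact Or.inl h1
  · right
    have hmin : Nat.find hex ≤ finrank ℂ U₁.toSubmodule := Nat.find_min' hex ⟨U₁, h1, rfl⟩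
    have hle' : U₁.toSubmodule ≤ U.toSubmodule := hle
    apply Subrepresentation.toSubmodule_injective
    exact Submodule.eq_of_le_of_finrank_le hle' (by rw [hd]; exact hmin)

/-- a nonzero intertwining map out of a minimal subrepresentation is injective -/
theorem injective_of_minimal (ρ : Representation ℂ G V) (σ : Representation ℂ G W)
    (U : Subrepresentation ρ)
    (hmin : ∀ U₁ : Subrepresentation ρ, U₁ ≤ U → U₁.toSubmodule = ⊥ ∨ U₁ = U)
    (f : IntertwiningMap U.toRepresentation σ) (hf : f ≠ 0) : Function.Injective f := by
  let K : Subrepresentation ρ :=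
    { toSubmodule := (LinearMap.ker f.toLinearMap).map U.toSubmodule.subtype
      apply_mem_toSubmodule := by
        rintro g v ⟨u, hu, rfl⟩
        refine ⟨U.toRepresentation g u, ?_, rfl⟩
        have hu0 : f u = 0 := hu
        show f (U.toRepresentation g u) = 0
        rw [IntertwiningMap.isIntertwining _ _ f g u, hu0, map_zero] }
  have hK : K ≤ U := by
    rintro v ⟨u, _, rfl⟩
    exact u.2
  rcases hmin K hK with h | h
  · have hker : LinearMap.ker f.toLinearMap = ⊥ := by
      have h' : (LinearMap.ker f.toLinearMap).map U.toSubmodule.subtype = ⊥ := h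
      exact Submodule.map_injective_of_injective (Submodule.injective_subtype _)
        (h'.trans (Submodule.map_bot _).symm)
    exact LinearMap.ker_eq_bot.mp hker
  · exfalso
    apply hf
    apply IntertwiningMap.ext
    apply LinearMap.ext
    intro u
    have hu : (u : V) ∈ K.toSubmodule := by rw [h]; exact u.2
    obtain ⟨u', hu', hu''⟩ := hu
    have : u' = u := Subtype.ext hu''
    rw [this] at hu'
    have hu0 : f u = 0 := hu'
    exact hu0

/-- an injective intertwining map is an equivalence onto its range -/
noncomputable def equivRange (ρ : Representation ℂ G V) (σ : Representation ℂ G W)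
    (f : IntertwiningMap ρ σ) (hf : Function.Injective f) :
    ρ.Equiv (IntertwiningMap.range _ _ f).toRepresentation :=
  Representation.Equiv.mk (LinearEquiv.ofInjective f.toLinearMap hf) (by
    intro g
    apply LinearMap.ext
    intro v
    apply Subtype.ext
    exact IntertwiningMap.isIntertwining _ _ f g v)

end RepEquiv

section Main

theorem equiv_of_character_eq_aux.{u, v, w} {G : Type u} [Group G] [Finite G] (n : ℕ) :
    ∀ (V : Type v) (W : Type w) [AddCommGroup V] [Module ℂ V] [FiniteDimensional ℂ V]
      [AddCommGroup W] [Module ℂ W] [FiniteDimensional ℂ W]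
      (ρ : Representation ℂ G V) (σ : Representation ℂ G W),
      finrank ℂ V = n → ρ.character = σ.character → Nonempty (ρ.Equiv σ) := by
  classical
  induction n using Nat.strong_induction_on with
  | _ n ih =>
    intro V W _ _ _ _ _ _ ρ σ hn hχ
    have hdim : finrank ℂ V = finrank ℂ W := by
      have h1 := Representation.char_one ρ
      have h2 := Representation.char_one σ
      rw [hχ, h2] at h1
      exact_mod_cast h1.symm
    by_cases hV : finrank ℂ V = 0
    · haveI : Subsingleton V := Module.finrank_zero_iff.mp hV
      haveI : Subsingleton W := Module.finrank_zero_iff.mp (hdim ▸ hV)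
      refine ⟨Representation.Equiv.mk (LinearEquiv.ofSubsingleton V W) ?_⟩
      intro g
      apply LinearMap.ext
      intro v
      exact Subsingleton.elim _ _
    · haveI : Nontrivial V := Module.nontrivial_of_finrank_pos (R := ℂ) (Nat.pos_of_ne_zero hV)
      haveI : Fintype G := Fintype.ofFinite G
      haveI : Invertible (Nat.card G : ℂ) := invertibleOfNonzero (by
        exact_mod_cast (Nat.card_pos (α := G)).ne')
      obtain ⟨U, hU, hmin⟩ := exists_minimal_subrep ρ
      have h1 := Representation.card_inv_mul_sum_char_mul_char_eq_finrank
        (ρ := U.toRepresentation) (σ := ρ)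
      have h2 := Representation.card_inv_mul_sum_char_mul_char_eq_finrank
        (ρ := U.toRepresentation) (σ := σ)
      rw [hχ, h2] at h1
      have hfr : finrank ℂ (IntertwiningMap U.toRepresentation σ) =
          finrank ℂ (IntertwiningMap U.toRepresentation ρ) := by exact_mod_cast h1
      -- the inclusion is a nonzero intertwining map
      let ι : IntertwiningMap U.toRepresentation ρ :=
        ⟨U.toSubmodule.subtype, fun g => by
          apply LinearMap.ext
          intro u
          rfl⟩
      have hι : ι ≠ 0 := by
        intro h0
        apply hU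
        rw [Submodule.eq_bot_iff]
        intro v hv
        have : ι ⟨v, hv⟩ = (0 : IntertwiningMap U.toRepresentation ρ) ⟨v, hv⟩ := by rw [h0]
        exact this
      have hex : ∃ f : IntertwiningMap U.toRepresentation σ, f ≠ 0 := by
        by_contra hno
        push Not at hno
        haveI : Subsingleton (IntertwiningMap U.toRepresentation σ) :=
          ⟨fun a b => (hno a).trans (hno b).symm⟩
        have h0 : finrank ℂ (IntertwiningMap U.toRepresentation σ) = 0 :=
          Module.finrank_zero_of_subsingleton
        rw [hfr] at h0
        haveI : Module.Finite ℂ (IntertwiningMap U.toRepresentation ρ) :=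
          Module.Finite.equiv (Representation.invariantsEquivIntertwiningMap U.toRepresentation ρ)
        haveI := Module.finrank_zero_iff.mp h0
        exact hι (Subsingleton.elim _ _)
      obtain ⟨f, hf⟩ := hex
      have hinj := injective_of_minimal ρ σ U hmin f hf
      let a := equivRange U.toRepresentation σ f hinj
      obtain ⟨U', hU'⟩ := exists_subrep_isCompl ρ U
      obtain ⟨X', hX'⟩ := exists_subrep_isCompl σ (IntertwiningMap.range _ _ f)
      have hchar : U'.toRepresentation.character = X'.toRepresentation.character := by
        funext g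
        have e1 := character_eq_add_of_isCompl ρ U U' hU' g
        have e2 := character_eq_add_of_isCompl σ _ X' hX' g
        have e3 : U.toRepresentation.character g =
            (IntertwiningMap.range _ _ f).toRepresentation.character g :=
          congrFun (Representation.char_iso a) g
        rw [hχ, e2, e3] at e1
        exact (add_left_cancel e1).symm
      have hlt : finrank ℂ U'.toSubmodule < n := by
        have hsum := Submodule.finrank_add_eq_of_isCompl hU'
        have hpos : 0 < finrank ℂ U.toSubmodule := by
          rw [Module.finrank_pos_iff]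
          exact (Submodule.nontrivial_iff_ne_bot).mpr hU
        omega
      obtain ⟨b⟩ := ih _ hlt U'.toSubmodule X'.toSubmodule U'.toRepresentation X'.toRepresentation
        rfl hchar
      exact equiv_of_isCompl ρ σ U U' hU' _ X' hX' a b

/-- **Complex representations of a finite group with equal characters are equivalent.** -/
theorem equiv_of_character_eq {G : Type*} [Group G] [Finite G]
    {V W : Type*} [AddCommGroup V] [Module ℂ V] [FiniteDimensional ℂ V]
    [AddCommGroup W] [Module ℂ W] [FiniteDimensional ℂ W]
    (ρ : Representation ℂ G V) (σ : Representation ℂ G W) (h : ρ.character = σ.character) :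
    Nonempty (ρ.Equiv σ) :=
  equiv_of_character_eq_aux _ V W ρ σ rfl h

end Main

end Cfsg.Agent.helper1
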