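import Mathlib
import Cfsg.Agent.Lib_helper1_RepEquiv

set_option autoImplicit false

/-!
Determinant of an element of 2-power order whose character is a multiple of the regular one
(helper12), and the resulting subgroup of index 2.
-/

namespace Cfsg.Agent.helper12

open Cfsg

section DiagRep

variable {H : Type*} [Group H] {ι : Type*} [Fintype ι] [DecidableEq ι]

/-- the diagonal representation attached to a family of linear characters -/
noncomputable def p1DiagRep (φ : ι → (H →* ℂˣ)) : Representation ℂ H (ι → ℂ) where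
  toFun g := Matrix.toLin' (Matrix.diagonal fun i => ((φ i g : ℂˣ) : ℂ))
  map_one' := by
    have : (fun i => ((φ i (1 : H) : ℂˣ) : ℂ)) = fun _ => (1 : ℂ) := by
      funext i; simp
    rw [this, Matrix.diagonal_one, Matrix.toLin'_one]; rfl
  map_mul' g h := by
    rw [Module.End.mul_eq_comp, ← Matrix.toLin'_mul, Matrix.diagonal_mul_diagonal]
    congr 2
    funext i
    simp [map_mul]

theorem p1DiagRep_apply (φ : ι → (H →* ℂˣ)) (g : H) :
    p1DiagRep φ g = Matrix.toLin' (Matrix.diagonal fun i => ((φ i g : ℂˣ) : ℂ)) := rfl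

theorem p1DiagRep_character (φ : ι → (H →* ℂˣ)) (g : H) :
    (p1DiagRep φ).character g = ∑ i, ((φ i g : ℂˣ) : ℂ) := by
  unfold Representation.character
  rw [p1DiagRep_apply, Matrix.trace_toLin'_eq, Matrix.trace_diagonal]

theorem p1DiagRep_det (φ : ι → (H →* ℂˣ)) (g : H) :
    LinearMap.det (p1DiagRep φ g) = ∏ i, ((φ i g : ℂˣ) : ℂ) := by
  rw [p1DiagRep_apply, LinearMap.det_toLin', Matrix.det_diagonal]

end DiagRep

theorem p1_geom_sum (z : ℂ) (m : ℕ) (hz : z ^ m = 1) (h1 : z ≠ 1) :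
    ∑ k ∈ Finset.range m, z ^ k = 0 := by
  have h := geom_sum_mul z m
  rw [hz, sub_self] at h
  exact (mul_eq_zero.mp h).resolve_right (sub_ne_zero.mpr h1)

/-- the product of all powers of an element of order `2^a` is `-1` -/
theorem p1_prod_pow (ζ : ℂ) (a : ℕ) (ha : 1 ≤ a) (hζ : orderOf ζ = 2 ^ a) :
    ∏ k ∈ Finset.range (2 ^ a), ζ ^ k = -1 := by
  obtain ⟨b, rfl⟩ : ∃ b, a = b + 1 := ⟨a - 1, by omega⟩
  rw [Finset.prod_pow_eq_pow_sum]
  have hS : (∑ i ∈ Finset.range (2 ^ (b + 1)), i) = 2 ^ b * (2 ^ (b + 1) - 1) := by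
    have h := Finset.sum_range_id_mul_two (2 ^ (b + 1))
    have h2 : 2 ^ (b + 1) * (2 ^ (b + 1) - 1) = (2 ^ b * (2 ^ (b + 1) - 1)) * 2 := by
      rw [pow_succ]; ring
    rw [h2] at h
    exact Nat.eq_of_mul_eq_mul_right (by norm_num) h
  rw [hS, pow_mul]
  have hw2 : (ζ ^ 2 ^ b) ^ 2 = 1 := by
    rw [← pow_mul, ← pow_succ, ← hζ]
    exact pow_orderOf_eq_one ζ
  have hw1 : ζ ^ 2 ^ b ≠ 1 := by
    intro h
    have := orderOf_dvd_of_pow_eq_one h
    rw [hζ] at this
    have hlt : 2 ^ b < 2 ^ (b + 1) := Nat.pow_lt_pow_right (by norm_num) (by omega)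
    exact absurd (Nat.le_of_dvd (by positivity) this) (by omega)
  have hw : ζ ^ 2 ^ b = -1 := by
    have h0 : (ζ ^ 2 ^ b - 1) * (ζ ^ 2 ^ b + 1) = 0 := by
      have : (ζ ^ 2 ^ b - 1) * (ζ ^ 2 ^ b + 1) = (ζ ^ 2 ^ b) ^ 2 - 1 := by ring
      rw [this, hw2, sub_self]
    rcases mul_eq_zero.mp h0 with h | h
    · exact absurd (sub_eq_zero.mp h) hw1
    · exact eq_neg_of_add_eq_zero_left h
  rw [hw]
  apply Odd.neg_one_pow
  have : 1 ≤ 2 ^ (b + 1) := Nat.one_le_two_pow
  have he : Even (2 ^ (b + 1)) := ⟨2 ^ b, by rw [pow_succ]; ring⟩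
  exact Nat.Even.sub_odd this he odd_one


section Main

variable {G : Type*} [Group G] [Finite G]

theorem p1_det {n : ℕ} (ρ : Representation ℂ G (Fin n → ℂ)) (y : G)
    (a s : ℕ) (ha : 1 ≤ a) (hy : orderOf y = 2 ^ a) (hn : n = s * 2 ^ a) (hs : Odd s)
    (hχ : ∀ j : ℕ, 0 < j → j < 2 ^ a → ρ.character (y ^ j) = 0) :
    LinearMap.det (ρ y) = -1 := by
  classical
  obtain ⟨m, hm⟩ : ∃ m, m = 2 ^ a := ⟨_, rfl⟩
  have hm0 : 0 < m := by rw [hm]; positivity
  -- the cyclic group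
  let yH : Subgroup.zpowers y := ⟨y, Subgroup.mem_zpowers y⟩
  have hgen : ∀ h : Subgroup.zpowers y, h ∈ Subgroup.zpowers yH := by
    intro h
    obtain ⟨k, hk⟩ := Subgroup.mem_zpowers_iff.mp h.2
    refine Subgroup.mem_zpowers_iff.mpr ⟨k, Subtype.ext ?_⟩
    rw [Subgroup.coe_zpow]
    exact hk
  have hoH : orderOf yH = m := by
    rw [hm, ← hy, ← Subgroup.orderOf_coe]
  -- root of unity
  have hζ : IsPrimitiveRoot (Complex.exp (2 * Real.pi * Complex.I / m)) m :=
    Complex.isPrimitiveRoot_exp m hm0.ne'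
  obtain ⟨ζ, hζdef⟩ : ∃ ζ : ℂ, ζ = Complex.exp (2 * Real.pi * Complex.I / m) := ⟨_, rfl⟩
  rw [← hζdef] at hζ
  have hζ0 : ζ ≠ 0 := by rw [hζdef]; exact Complex.exp_ne_zero _
  have hoζ' : orderOf ζ = m := hζ.eq_orderOf.symm
  let ζu : ℂˣ := Units.mk0 ζ hζ0
  have hoζ : orderOf ζu = m := by
    rw [← orderOf_units]
    exact hoζ'
  have hdvd : orderOf ζu ∣ orderOf yH := by rw [hoζ, hoH]
  let ψ : Subgroup.zpowers y →* ℂˣ := monoidHomOfForallMemZpowers hgen hdvd
  have hψ : ψ yH = ζu := monoidHomOfForallMemZpowers_apply_gen hgen hdvd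
  have hψinj : ∀ h : Subgroup.zpowers y, ψ h = 1 → h = 1 := by
    intro h hh
    obtain ⟨k, hk⟩ := Subgroup.mem_zpowers_iff.mp (hgen h)
    rw [← hk, map_zpow, hψ] at hh
    have h1 := (orderOf_dvd_iff_zpow_eq_one).mpr hh
    rw [hoζ, ← hoH] at h1
    rw [← hk]
    exact (orderOf_dvd_iff_zpow_eq_one).mp h1
  have hψpow : ∀ h : Subgroup.zpowers y, ((ψ h : ℂˣ) : ℂ) ^ m = 1 := by
    intro h
    obtain ⟨k, hk⟩ := Subgroup.mem_zpowers_iff.mp (hgen h)
    have : (ψ h) ^ m = 1 := by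
      rw [← hk, map_zpow, hψ, ← zpow_natCast, ← zpow_mul, mul_comm, zpow_mul, zpow_natCast,
        ← hoζ, pow_orderOf_eq_one, one_zpow]
    have := congrArg Units.val this
    simpa using this
  -- the model
  let φ : Fin s × Fin m → (Subgroup.zpowers y →* ℂˣ) := fun ik => ψ ^ (ik.2 : ℕ)
  let σ : Representation ℂ (Subgroup.zpowers y) (Fin s × Fin m → ℂ) := p1DiagRep φ
  let ρH : Representation ℂ (Subgroup.zpowers y) (Fin n → ℂ) := ρ.comp (Subgroup.zpowers y).subtype
  have hσchar : ∀ h : Subgroup.zpowers y, σ.character h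
      = (s : ℂ) * ∑ k ∈ Finset.range m, ((ψ h : ℂˣ) : ℂ) ^ k := by
    intro h
    rw [p1DiagRep_character, Fintype.sum_prod_type]
    have : ∀ i : Fin s, ∑ k : Fin m, ((φ (i, k) h : ℂˣ) : ℂ)
        = ∑ k ∈ Finset.range m, ((ψ h : ℂˣ) : ℂ) ^ k := by
      intro i
      rw [← Fin.sum_univ_eq_sum_range (fun k => ((ψ h : ℂˣ) : ℂ) ^ k) m]
      apply Finset.sum_congr rfl
      intro k _
      simp [φ]
    rw [Finset.sum_congr rfl (fun i _ => this i), Finset.sum_const, Finset.card_univ,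
      Fintype.card_fin, nsmul_eq_mul]
  have hchar : ρH.character = σ.character := by
    funext h
    rw [hσchar]
    by_cases h1 : h = 1
    · subst h1
      rw [Representation.char_one, Module.finrank_fin_fun, map_one]
      simp only [Units.val_one, one_pow, Finset.sum_const, Finset.card_range, nsmul_eq_mul,
        mul_one]
      rw [hn, ← hm]
      push_cast
      ring
    · have hz1 : ((ψ h : ℂˣ) : ℂ) ≠ 1 := by
        intro hh
        apply h1
        apply hψinj
        exact Units.ext hh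
      rw [p1_geom_sum _ m (hψpow h) hz1, mul_zero]
      have hmem := h.2
      rw [mem_zpowers_iff_mem_range_orderOf] at hmem
      obtain ⟨j, hj, hjy⟩ := Finset.mem_image.mp hmem
      rw [Finset.mem_range, hy] at hj
      have hj0 : 0 < j := by
        rcases Nat.eq_zero_or_pos j with h0 | h0
        · exfalso
          apply h1
          apply Subtype.ext
          rw [← hjy, h0]
          simp
        · exact h0
      have := hχ j hj0 hj
      show ρ.character ((h : G)) = 0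
      rw [← hjy]
      exact this
  obtain ⟨E⟩ := helper1.equiv_of_character_eq ρH σ hchar
  have hint := E.toIntertwiningMap.isIntertwining' yH
  have hconj : σ yH = (E.toLinearEquiv : (Fin n → ℂ) →ₗ[ℂ] (Fin s × Fin m → ℂ)) ∘ₗ ρH yH ∘ₗ
      (E.toLinearEquiv.symm : (Fin s × Fin m → ℂ) →ₗ[ℂ] (Fin n → ℂ)) := by
    apply LinearMap.ext
    intro w
    have := congrArg (fun f => f (E.toLinearEquiv.symm w)) hint
    simp only [LinearMap.comp_apply] at this ⊢
    rw [show (E.toLinearEquiv : (Fin n → ℂ) →ₗ[ℂ] (Fin s × Fin m → ℂ))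
      ((ρH yH) ((E.toLinearEquiv.symm : (Fin s × Fin m → ℂ) →ₗ[ℂ] (Fin n → ℂ)) w))
      = (σ yH) (E.toLinearEquiv (E.toLinearEquiv.symm w)) from this]
    exact congrArg (σ yH) (E.toLinearEquiv.apply_symm_apply w).symm
  have hdet : LinearMap.det (σ yH) = LinearMap.det (ρH yH) := by
    rw [hconj, LinearMap.det_conj]
  have hρH : ρH yH = ρ y := rfl
  rw [← hρH, ← hdet, p1DiagRep_det, Fintype.prod_prod_type]
  have hin : ∀ i : Fin s, ∏ k : Fin m, ((φ (i, k) yH : ℂˣ) : ℂ) = -1 := by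
    intro i
    have h1 : ∏ k : Fin m, ((φ (i, k) yH : ℂˣ) : ℂ) = ∏ k ∈ Finset.range m, ζ ^ k := by
      rw [← Fin.prod_univ_eq_prod_range (fun k => ζ ^ k) m]
      apply Finset.prod_congr rfl
      intro k _
      simp [φ, hψ, ζu]
    rw [h1, hm]
    exact p1_prod_pow ζ a ha (by rw [hoζ', hm])
  rw [Finset.prod_congr rfl (fun i _ => hin i), Finset.prod_const, Finset.card_univ,
    Fintype.card_fin]
  exact hs.neg_one_pow

omit [Finite G] in
theorem p1_even_index {n : ℕ} (ρ : Representation ℂ G (Fin n → ℂ)) (y : G)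
    (h : LinearMap.det (ρ y) = -1) : Even (commutator G).index := by
  let D : G →* ℂˣ :=
    ((LinearMap.det : ((Fin n → ℂ) →ₗ[ℂ] (Fin n → ℂ)) →* ℂ).comp ρ).toHomUnits
  have hD : ((D y : ℂˣ) : ℂ) = -1 := h
  have hle : commutator G ≤ D.ker := Abelianization.commutator_subset_ker D
  have hne : D y ≠ 1 := by
    intro h1
    rw [h1] at hD
    norm_num at hD
  have hsq : (D y) ^ 2 = 1 := by
    apply Units.ext
    rw [Units.val_pow_eq_pow_val, hD]
    norm_num
  have : Fact (Nat.Prime 2) := ⟨Nat.prime_two⟩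
  have ho : orderOf (D y) = 2 := orderOf_eq_prime hsq hne
  let y' : D.range := ⟨D y, ⟨y, rfl⟩⟩
  have ho' : orderOf y' = 2 := by
    rw [← ho, ← Subgroup.orderOf_coe]
  have h2 : 2 ∣ D.ker.index := by
    rw [Subgroup.index_ker, ← ho']
    exact orderOf_dvd_natCard y'
  exact even_iff_two_dvd.mpr (h2.trans (Subgroup.index_dvd_of_le hle))

end Main

end Cfsg.Agent.helper12
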