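import Mathlib

set_option autoImplicit false

/-!
Vanishing of a character on elements acting fixed-point-freely on a subgroup without
trivial constituent (helper12).
-/

namespace Cfsg.Agent.helper12

section Vanish

variable {G : Type*} [Group G] {n : ℕ}

theorem p1_vanish (ρ : Representation ℂ G (Fin n → ℂ)) (P : Subgroup G) [Fintype P]
    (hsum : ∑ u : P, ρ.character (u : G) = 0) (h : G)
    (hnorm : ∀ u ∈ P, h⁻¹ * u * h ∈ P) (hfree : ∀ u ∈ P, h * u = u * h → u = 1) :
    ρ.character h = 0 := by
  classical
  have hcard : (Fintype.card P : ℂ) ≠ 0 := by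
    exact_mod_cast Fintype.card_ne_zero
  set B : Module.End ℂ (Fin n → ℂ) := ∑ u : P, ρ (u : G) with hB
  -- B * B = |P| • B
  have hBB : B * B = (Fintype.card P : ℂ) • B := by
    rw [hB, Finset.sum_mul]
    have : ∀ u : P, ρ (u : G) * ∑ v : P, ρ (v : G) = ∑ w : P, ρ (w : G) := by
      intro u
      rw [Finset.mul_sum]
      rw [← Equiv.sum_comp (Equiv.mulLeft u) (fun w : P => ρ (w : G))]
      apply Finset.sum_congr rfl
      intro v _
      simp [map_mul]
    rw [Finset.sum_congr rfl (fun u _ => this u), Finset.sum_const, Finset.card_univ,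
      ← Nat.cast_smul_eq_nsmul ℂ]
  set π : Module.End ℂ (Fin n → ℂ) := (Fintype.card P : ℂ)⁻¹ • B with hπ
  have hidem : IsIdempotentElem π := by
    unfold IsIdempotentElem
    rw [hπ, smul_mul_smul_comm, hBB, smul_smul]
    congr 1
    field_simp
  have htr : LinearMap.trace ℂ (Fin n → ℂ) π = 0 := by
    rw [hπ, map_smul, hB, map_sum]
    have : ∑ u : P, LinearMap.trace ℂ (Fin n → ℂ) (ρ (u : G)) = 0 := hsum
    rw [this, smul_zero]
  have hπ0 : π = 0 := (LinearMap.IsIdempotentElem.trace_eq_zero_iff hidem).mp htr
  have hB0 : B = 0 := by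
    have := congrArg (fun f => (Fintype.card P : ℂ) • f) hπ0
    simp only [hπ, smul_smul, smul_zero] at this
    rwa [mul_inv_cancel₀ hcard, one_smul] at this
  -- the sum over the coset
  have hcoset : ∑ u : P, ρ.character (h * (u : G)) = 0 := by
    have : ∑ u : P, ρ.character (h * (u : G)) = LinearMap.trace ℂ (Fin n → ℂ) (ρ h * B) := by
      rw [hB, Finset.mul_sum, map_sum]
      apply Finset.sum_congr rfl
      intro u _
      unfold Representation.character
      rw [map_mul]
    rw [this, hB0, mul_zero, map_zero]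
  -- conjugacy of the coset
  let c : P → P := fun v => ⟨h⁻¹ * (v : G) * h * (v : G)⁻¹,
    P.mul_mem (hnorm v v.2) (P.inv_mem v.2)⟩
  have hcinj : Function.Injective c := by
    intro v w hvw
    have h1 : h⁻¹ * (v : G) * h * (v : G)⁻¹ = h⁻¹ * (w : G) * h * (w : G)⁻¹ :=
      congrArg Subtype.val hvw
    have hmem : (w : G)⁻¹ * (v : G) ∈ P := P.mul_mem (P.inv_mem w.2) v.2
    have hcomm : h * ((w : G)⁻¹ * (v : G)) = ((w : G)⁻¹ * (v : G)) * h := by
      have h2 : (v : G) * h * (v : G)⁻¹ = (w : G) * h * (w : G)⁻¹ := by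
        have := congrArg (fun t => h * t) h1
        simpa [mul_assoc] using this
      have h3 := congrArg (fun t => (w : G)⁻¹ * t * (v : G)) h2
      simp only [mul_assoc, inv_mul_cancel, mul_one, inv_mul_cancel_left] at h3
      rw [mul_assoc]
      exact h3.symm
    have := hfree _ hmem hcomm
    apply Subtype.ext
    have h4 := congrArg (fun t => (w : G) * t) this
    simpa using h4
  have hcbij : Function.Bijective c := Finite.injective_iff_bijective.mp hcinj
  have hconj : ∑ u : P, ρ.character (h * (u : G)) = (Fintype.card P : ℂ) * ρ.character h := by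
    rw [← Equiv.sum_comp (Equiv.ofBijective c hcbij) (fun u : P => ρ.character (h * (u : G)))]
    have : ∀ v : P, ρ.character (h * ((Equiv.ofBijective c hcbij v : P) : G)) = ρ.character h := by
      intro v
      have : h * ((Equiv.ofBijective c hcbij v : P) : G) = (v : G) * h * (v : G)⁻¹ := by
        show h * (h⁻¹ * (v : G) * h * (v : G)⁻¹) = _
        group
      rw [this, Representation.char_conj]
    rw [Finset.sum_congr rfl (fun v _ => this v), Finset.sum_const, Finset.card_univ,
      nsmul_eq_mul]
  rw [hconj] at hcoset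
  exact (mul_eq_zero.mp hcoset).resolve_left hcard

end Vanish

end Cfsg.Agent.helper12
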