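import Mathlib
import Cfsg.Agent.Lib_helper24_CharOrth

set_option autoImplicit false

/-!
The trivial-intersection counting bound for an irreducible character (helper12).
-/

namespace Cfsg.Agent.helper12

open Cfsg

section TI

variable {G : Type*} [Group G] [Fintype G] [DecidableEq G]

theorem p1_ti_bound (P N : Subgroup G) [DecidablePred (· ∈ P)] [DecidablePred (· ∈ N)]
    (hTI : ∀ y ∈ P, y ≠ 1 → ∀ g : G, g * y * g⁻¹ ∈ P → g ∈ N)
    (w : G → ℝ) (hw0 : ∀ g, 0 ≤ w g) (hwc : ∀ g z : G, w (z * g * z⁻¹) = w g) :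
    (Fintype.card G : ℝ) * ∑ u ∈ Finset.univ.filter (fun u : G => u ∈ P ∧ u ≠ 1), w u
      ≤ ((Finset.univ.filter (fun z : G => z ∈ N)).card : ℝ) *
        ∑ g ∈ Finset.univ.filter (fun g : G => g ≠ 1), w g := by
  classical
  set S := Finset.univ.filter (fun u : G => u ∈ P ∧ u ≠ 1) with hS
  set NN := Finset.univ.filter (fun z : G => z ∈ N) with hNN
  have h1 : (Fintype.card G : ℝ) * ∑ u ∈ S, w u
      = ∑ z : G, ∑ g : G, (if z * g * z⁻¹ ∈ S then w g else 0) := by
    rw [← Finset.card_univ, ← nsmul_eq_mul, ← Finset.sum_const]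
    apply Finset.sum_congr rfl
    intro z _
    rw [← Finset.sum_filter]
    symm
    apply Finset.sum_bij (fun g _ => z * g * z⁻¹)
    · intro g hg
      exact (Finset.mem_filter.mp hg).2
    · intro g₁ _ g₂ _ h
      exact mul_left_cancel (mul_right_cancel h)
    · intro u hu
      refine ⟨z⁻¹ * u * z, ?_, ?_⟩
      · rw [Finset.mem_filter]
        refine ⟨Finset.mem_univ _, ?_⟩
        have : z * (z⁻¹ * u * z) * z⁻¹ = u := by group
        rw [this]; exact hu
      · group
    · intro g _
      exact (hwc g z).symm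
  have h2 : ∀ g : G, ∑ z : G, (if z * g * z⁻¹ ∈ S then w g else 0)
      ≤ (if g ≠ 1 then (NN.card : ℝ) * w g else 0) := by
    intro g
    rw [← Finset.sum_filter, Finset.sum_const, nsmul_eq_mul]
    by_cases hg : g = 1
    · subst hg
      have : Finset.univ.filter (fun z : G => z * 1 * z⁻¹ ∈ S) = ∅ := by
        apply Finset.filter_eq_empty_iff.mpr
        intro z _ hz
        rw [hS, Finset.mem_filter] at hz
        exact hz.2.2 (by group)
      rw [this]
      simp
    · rw [if_pos hg]
      apply mul_le_mul_of_nonneg_right _ (hw0 g)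
      have : (Finset.univ.filter (fun z : G => z * g * z⁻¹ ∈ S)).card ≤ NN.card := by
        rcases (Finset.univ.filter (fun z : G => z * g * z⁻¹ ∈ S)).eq_empty_or_nonempty
          with he | ⟨z₀, hz₀⟩
        · rw [he]; simp
        · apply Finset.card_le_card_of_injOn (fun z => z * z₀⁻¹)
          · intro z hz
            have hz' := (Finset.mem_filter.mp (Finset.mem_coe.mp hz)).2
            have hz₀' := (Finset.mem_filter.mp hz₀).2
            rw [hS, Finset.mem_filter] at hz' hz₀'
            rw [Finset.mem_coe, hNN, Finset.mem_filter]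
            refine ⟨Finset.mem_univ _, ?_⟩
            apply hTI (z₀ * g * z₀⁻¹) hz₀'.2.1 hz₀'.2.2 (z * z₀⁻¹)
            have : z * z₀⁻¹ * (z₀ * g * z₀⁻¹) * (z * z₀⁻¹)⁻¹ = z * g * z⁻¹ := by group
            rw [this]
            exact hz'.2.1
          · intro a _ b _ hab
            exact mul_right_cancel hab
      exact_mod_cast this
  rw [h1, Finset.sum_comm]
  calc ∑ g : G, ∑ z : G, (if z * g * z⁻¹ ∈ S then w g else 0)
      ≤ ∑ g : G, (if g ≠ 1 then (NN.card : ℝ) * w g else 0) :=
        Finset.sum_le_sum (fun g _ => h2 g)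
    _ = (NN.card : ℝ) * ∑ g ∈ Finset.univ.filter (fun g : G => g ≠ 1), w g := by
        rw [← Finset.sum_filter, Finset.mul_sum]

/-- for an irreducible character of nonzero degree, the sum of `|χ|²` over `P \ 1` is less
than `|N|` -/
theorem p1_char_bound (P N : Subgroup G) [DecidablePred (· ∈ P)] [DecidablePred (· ∈ N)]
    (hTI : ∀ y ∈ P, y ≠ 1 → ∀ g : G, g * y * g⁻¹ ∈ P → g ∈ N)
    {χ : G → ℂ} (hχ : IsIrrCharacter G χ) (hχ1 : χ 1 ≠ 0) :
    ∑ u ∈ Finset.univ.filter (fun u : G => u ∈ P ∧ u ≠ 1), Complex.normSq (χ u)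
      < ((Finset.univ.filter (fun z : G => z ∈ N)).card : ℝ) := by
  classical
  have hcf : IsClassFunction G χ := helper24.char_isClassFunction (helper24.irr_isCharacter hχ)
  have hb := p1_ti_bound P N hTI (fun g => Complex.normSq (χ g)) (fun g => Complex.normSq_nonneg _)
    (fun g z => by rw [hcf g z])
  have hnorm : ∑ g : G, Complex.normSq (χ g) = (Fintype.card G : ℝ) := by
    have h1 := helper24.irr_classInner_self hχ
    unfold classInner at h1
    have hG : (Nat.card G : ℂ) ≠ 0 := by
      have : 0 < Nat.card G := Nat.card_pos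
      exact_mod_cast this.ne'
    have h2 : ∑ g : G, χ g * (starRingEnd ℂ) (χ g) = (Nat.card G : ℂ) := by
      field_simp at h1
      linear_combination h1
    have h3 : ((∑ g : G, Complex.normSq (χ g) : ℝ) : ℂ) = ((Fintype.card G : ℝ) : ℂ) := by
      rw [Complex.ofReal_sum]
      simp only [← Complex.mul_conj]
      rw [h2, Nat.card_eq_fintype_card]
      simp
    exact_mod_cast h3
  have hsplit : ∑ g ∈ Finset.univ.filter (fun g : G => g ≠ 1), Complex.normSq (χ g)
      = (Fintype.card G : ℝ) - Complex.normSq (χ 1) := by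
    rw [← hnorm, ← Finset.sum_filter_add_sum_filter_not Finset.univ (fun g : G => g ≠ 1)]
    have : Finset.univ.filter (fun g : G => ¬ g ≠ 1) = {1} := by
      ext g; simp
    rw [this, Finset.sum_singleton]
    ring
  rw [hsplit] at hb
  have hpos : 0 < Complex.normSq (χ 1) := Complex.normSq_pos.mpr hχ1
  have hG0 : (0 : ℝ) < Fintype.card G := by exact_mod_cast Fintype.card_pos
  have hN1 : (1 : ℝ) ≤ ((Finset.univ.filter (fun z : G => z ∈ N)).card : ℝ) := by
    have : 0 < (Finset.univ.filter (fun z : G => z ∈ N)).card :=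
      Finset.card_pos.mpr ⟨1, by simp [N.one_mem]⟩
    exact_mod_cast this
  by_contra hcon
  push Not at hcon
  nlinarith

end TI

end Cfsg.Agent.helper12
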