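import Mathlib
import Cfsg.Agent.Lib_helper24_CharCentral

set_option autoImplicit false

/-!
Fourier analysis on a finite group with a faithful linear character (helper12).
-/

namespace Cfsg.Agent.helper12

open Cfsg
open scoped ComplexConjugate

section Fourier

variable {P : Type*} [Group P] [Fintype P] [DecidableEq P] (φ : P →* ℂˣ)

/-- the `k`-th power of a linear character, as a function -/
noncomputable def p1Pow (k : ℕ) : P → ℂ := fun u => ((φ u ^ k : ℂˣ) : ℂ)

theorem p1Pow_conj (k : ℕ) (u : P) : conj (p1Pow φ k u) = ((φ u⁻¹ ^ k : ℂˣ) : ℂ) := by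
  have h1 := helper24.hom_mul_conj (φ ^ k) u
  rw [MonoidHom.pow_apply] at h1
  have h2 : ((φ u ^ k : ℂˣ) : ℂ) ≠ 0 := Units.ne_zero _
  have h3 : ((φ u⁻¹ ^ k : ℂˣ) : ℂ) = (((φ u ^ k : ℂˣ) : ℂ))⁻¹ := by
    rw [map_inv, inv_pow, Units.val_inv_eq_inv_val]
  unfold p1Pow
  rw [h3]
  field_simp
  rw [mul_comm]
  exact h1

theorem p1_sum_pow (hinj : ∀ u : P, φ u = 1 → u = 1) (u : P) :
    ∑ k ∈ Finset.range (Fintype.card P), ((φ u ^ k : ℂˣ) : ℂ)
      = if u = 1 then (Fintype.card P : ℂ) else 0 := by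
  split_ifs with h
  · subst h; simp
  · have hz : ((φ u : ℂˣ) : ℂ) ^ Fintype.card P = 1 := by
      rw [← Units.val_pow_eq_pow_val, ← map_pow, pow_card_eq_one, map_one, Units.val_one]
    have h1 : ((φ u : ℂˣ) : ℂ) ≠ 1 := fun hh => h (hinj u (Units.ext hh))
    have hg := geom_sum_mul ((φ u : ℂˣ) : ℂ) (Fintype.card P)
    rw [hz, sub_self] at hg
    have := (mul_eq_zero.mp hg).resolve_right (sub_ne_zero.mpr h1)
    simpa [Units.val_pow_eq_pow_val] using this

theorem p1_card_ne_zero : (Fintype.card P : ℂ) ≠ 0 := by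
  exact_mod_cast Fintype.card_ne_zero

/-- Fourier inversion at the identity -/
theorem p1_fourier_one (hinj : ∀ u : P, φ u = 1 → u = 1) (f : P → ℂ) :
    ∑ k ∈ Finset.range (Fintype.card P), classInner f (p1Pow φ k) = f 1 := by
  unfold classInner
  rw [← Finset.mul_sum, Finset.sum_comm]
  have h1 : ∀ u : P, ∑ k ∈ Finset.range (Fintype.card P), f u * conj (p1Pow φ k u)
      = f u * (if u = 1 then (Fintype.card P : ℂ) else 0) := by
    intro u
    rw [← Finset.mul_sum]
    congr 1
    have : ∀ k, conj (p1Pow φ k u) = ((φ u⁻¹ ^ k : ℂˣ) : ℂ) := fun k => p1Pow_conj φ k u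
    rw [Finset.sum_congr rfl (fun k _ => this k), p1_sum_pow φ hinj u⁻¹]
    simp
  rw [Finset.sum_congr rfl (fun u _ => h1 u)]
  simp only [mul_ite, mul_zero, Finset.sum_ite_eq', Finset.mem_univ, if_true]
  rw [Nat.card_eq_fintype_card]
  field_simp [p1_card_ne_zero (P := P)]

/-- Parseval -/
theorem p1_parseval (hinj : ∀ u : P, φ u = 1 → u = 1) (f : P → ℂ) :
    ∑ k ∈ Finset.range (Fintype.card P),
      classInner f (p1Pow φ k) * conj (classInner f (p1Pow φ k)) = classInner f f := by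
  have hterm : ∀ k : ℕ, classInner f (p1Pow φ k) * conj (classInner f (p1Pow φ k))
      = ((Nat.card P : ℂ)⁻¹) ^ 2 *
        ∑ u : P, ∑ v : P, f u * conj (f v) * ((φ (u⁻¹ * v) ^ k : ℂˣ) : ℂ) := by
    intro k
    unfold classInner
    rw [map_mul, map_inv₀, map_natCast, map_sum]
    rw [mul_mul_mul_comm, ← sq, Finset.sum_mul_sum]
    congr 1
    apply Finset.sum_congr rfl
    intro u _
    apply Finset.sum_congr rfl
    intro v _
    rw [map_mul, Complex.conj_conj, p1Pow_conj]
    unfold p1Pow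
    rw [map_mul, mul_pow, Units.val_mul]
    ring
  rw [Finset.sum_congr rfl (fun k _ => hterm k), ← Finset.mul_sum]
  have hswap : ∑ k ∈ Finset.range (Fintype.card P),
      ∑ u : P, ∑ v : P, f u * conj (f v) * ((φ (u⁻¹ * v) ^ k : ℂˣ) : ℂ)
      = ∑ u : P, ∑ v : P, f u * conj (f v) *
        (if u⁻¹ * v = 1 then (Fintype.card P : ℂ) else 0) := by
    rw [Finset.sum_comm]
    apply Finset.sum_congr rfl
    intro u _
    rw [Finset.sum_comm]
    apply Finset.sum_congr rfl
    intro v _
    rw [← Finset.mul_sum, p1_sum_pow φ hinj]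
  rw [hswap]
  have hin : ∀ u : P, ∑ v : P, f u * conj (f v) *
      (if u⁻¹ * v = 1 then (Fintype.card P : ℂ) else 0)
      = f u * conj (f u) * (Fintype.card P : ℂ) := by
    intro u
    have : ∀ v : P, (u⁻¹ * v = 1) ↔ v = u := by
      intro v
      constructor
      · intro h; exact (inv_mul_eq_one.mp h).symm
      · intro h; rw [h, inv_mul_cancel]
    simp only [this, mul_ite, mul_zero, Finset.sum_ite_eq', Finset.mem_univ, if_true]
  rw [Finset.sum_congr rfl (fun u _ => hin u), ← Finset.sum_mul]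
  unfold classInner
  rw [Nat.card_eq_fintype_card]
  field_simp [p1_card_ne_zero (P := P)]

end Fourier

end Cfsg.Agent.helper12
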