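import Mathlib

set_option autoImplicit false

/-!
Finset version of the counting lemma, and a faithful linear character of a cyclic group
(helper12).
-/

namespace Cfsg.Agent.helper12

theorem p1_comb_finset (s : Finset ℕ) (a : ℕ → ℕ) (A e q : ℕ)
    (hcard : s.card = q)
    (h1 : A + ∑ k ∈ s, a k = q)
    (h2 : A ^ 2 + ∑ k ∈ s, (a k) ^ 2 < e + q)
    (h3 : ∀ k ∈ s, e ≤ (s.filter (fun k' => a k' = a k)).card)
    (he : 2 ≤ e) : A = 0 := by
  by_contra hA
  have hA1 : 1 ≤ A := Nat.one_le_iff_ne_zero.mpr hA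
  have hsq : ∀ k, a k ≤ (a k) ^ 2 := fun k => Nat.le_self_pow (by norm_num) _
  have hsum_le : ∑ k ∈ s, a k ≤ ∑ k ∈ s, (a k) ^ 2 := Finset.sum_le_sum (fun k _ => hsq k)
  have hz : ∃ k₀ ∈ s, a k₀ = 0 := by
    by_contra hno
    push Not at hno
    have : ∑ _k ∈ s, 1 ≤ ∑ k ∈ s, a k :=
      Finset.sum_le_sum (fun k hk => Nat.one_le_iff_ne_zero.mpr (hno k hk))
    simp only [Finset.sum_const, smul_eq_mul, mul_one] at this
    omega
  obtain ⟨k₀, hk₀s, hk₀⟩ := hz
  have hZ := h3 k₀ hk₀s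
  rw [hk₀] at hZ
  by_cases hAe : e ≤ A
  · have : A + e ≤ A ^ 2 := by nlinarith
    omega
  · push Not at hAe
    have h2' : ∃ k₁ ∈ s, 2 ≤ a k₁ := by
      by_contra hno
      push Not at hno
      have hle : ∀ k ∈ s, a k ≤ if a k = 0 then 0 else 1 := by
        intro k hk
        have := hno k hk
        split_ifs with h
        · omega
        · omega
      have hs : ∑ k ∈ s, a k ≤ ∑ k ∈ s, (if a k = 0 then 0 else 1) :=
        Finset.sum_le_sum hle
      have hcnt : ∑ k ∈ s, (if a k = 0 then 0 else 1)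
          = (s.filter (fun k => ¬ a k = 0)).card := by
        rw [Finset.card_filter]
        apply Finset.sum_congr rfl
        intro k _
        by_cases h : a k = 0 <;> simp [h]
      have hsplit : (s.filter (fun k => a k = 0)).card
          + (s.filter (fun k => ¬ a k = 0)).card = s.card :=
        Finset.card_filter_add_card_filter_not _
      omega
    obtain ⟨k₁, hk₁s, hk₁⟩ := h2'
    have hW := h3 k₁ hk₁s
    have hterm : ∀ k, a k + (if a k = a k₁ then 2 else 0) ≤ (a k) ^ 2 := by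
      intro k
      split_ifs with h
      · rw [h]; nlinarith
      · simpa using hsq k
    have hs : ∑ k ∈ s, (a k + (if a k = a k₁ then 2 else 0)) ≤ ∑ k ∈ s, (a k) ^ 2 :=
      Finset.sum_le_sum (fun k _ => hterm k)
    rw [Finset.sum_add_distrib] at hs
    have hcnt : ∑ k ∈ s, (if a k = a k₁ then 2 else 0)
        = 2 * (s.filter (fun k => a k = a k₁)).card := by
      rw [Finset.card_filter, Finset.mul_sum]
      apply Finset.sum_congr rfl
      intro k _
      by_cases h : a k = a k₁ <;> simp [h]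
    have hA2 : A ≤ A ^ 2 := Nat.le_self_pow (by norm_num) _
    omega

/-- a faithful linear character of a finite cyclic group `⟨y⟩` -/
theorem p1_exists_phi {G : Type*} [Group G] (y : G) (m : ℕ) (hm0 : 0 < m) (hy : orderOf y = m) :
    ∃ ψ : Subgroup.zpowers y →* ℂˣ, ∀ h : Subgroup.zpowers y, ψ h = 1 → h = 1 := by
  let yH : Subgroup.zpowers y := ⟨y, Subgroup.mem_zpowers y⟩
  have hgen : ∀ h : Subgroup.zpowers y, h ∈ Subgroup.zpowers yH := by
    intro h
    obtain ⟨k, hk⟩ := Subgroup.mem_zpowers_iff.mp h.2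
    refine Subgroup.mem_zpowers_iff.mpr ⟨k, Subtype.ext ?_⟩
    rw [Subgroup.coe_zpow]
    exact hk
  have hoH : orderOf yH = m := by
    rw [← hy, ← Subgroup.orderOf_coe]
  have hζ : IsPrimitiveRoot (Complex.exp (2 * Real.pi * Complex.I / m)) m :=
    Complex.isPrimitiveRoot_exp m hm0.ne'
  obtain ⟨ζ, hζdef⟩ : ∃ ζ : ℂ, ζ = Complex.exp (2 * Real.pi * Complex.I / m) := ⟨_, rfl⟩
  rw [← hζdef] at hζ
  have hζ0 : ζ ≠ 0 := by rw [hζdef]; exact Complex.exp_ne_zero _
  have hoζ' : orderOf ζ = m := hζ.eq_orderOf.symm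
  let ζu : ℂˣ := Units.mk0 ζ hζ0
  have hoζ : orderOf ζu = m := by
    rw [← orderOf_units]
    exact hoζ'
  have hdvd : orderOf ζu ∣ orderOf yH := by rw [hoζ, hoH]
  let ψ : Subgroup.zpowers y →* ℂˣ := monoidHomOfForallMemZpowers hgen hdvd
  have hψ : ψ yH = ζu := monoidHomOfForallMemZpowers_apply_gen hgen hdvd
  refine ⟨ψ, ?_⟩
  intro h hh
  obtain ⟨k, hk⟩ := Subgroup.mem_zpowers_iff.mp (hgen h)
  rw [← hk, map_zpow, hψ] at hh
  have h1 := (orderOf_dvd_iff_zpow_eq_one).mpr hh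
  rw [hoζ, ← hoH] at h1
  rw [← hk]
  exact (orderOf_dvd_iff_zpow_eq_one).mp h1

end Cfsg.Agent.helper12
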