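import Mathlib
import Cfsg.Statements.S4496

set_option autoImplicit false
open Cfsg
open scoped Pointwise

namespace Cfsg.Agent.S4496

section
variable {G : Type*} [Group G] [Finite G] (p : ℕ) (hp : p.Prime) (x : G) (hx : orderOf x = p)
  (hC : Subgroup.centralizer ({x} : Set G) = Subgroup.zpowers x)

include hC in
theorem mem_zpowers_of_comm (g : G) (hg : g * x = x * g) : g ∈ Subgroup.zpowers x := by
  rw [← hC, Subgroup.mem_centralizer_iff]
  intro h hh
  rw [Set.mem_singleton_iff] at hh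
  rw [hh, hg]

include hx in
theorem pow_p_of_mem_zpowers (s : G) (hs : s ∈ Subgroup.zpowers x) : s ^ p = 1 := by
  obtain ⟨k, rfl⟩ := Subgroup.mem_zpowers_iff.1 hs
  rw [← zpow_natCast, ← zpow_mul, mul_comm, zpow_mul, zpow_natCast, ← hx, pow_orderOf_eq_one,
    one_zpow]

include hp hx in
theorem inter_trivial (S : Subgroup G) (hS : ¬ p ∣ Nat.card S) (s : G) (hsS : s ∈ S)
    (hs : s ∈ Subgroup.zpowers x) : s = 1 := by
  have h1 : orderOf s ∣ p := orderOf_dvd_of_pow_eq_one (pow_p_of_mem_zpowers p x hx s hs)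
  have h2 : orderOf s ∣ Nat.card S := by
    have := orderOf_dvd_natCard (⟨s, hsS⟩ : S)
    rwa [Subgroup.orderOf_mk] at this
  rcases (Nat.dvd_prime hp).1 h1 with h | h
  · exact orderOf_eq_one_iff.1 h
  · rw [h] at h2; exact absurd h2 hS

include hp hx in
theorem x_mem_zpowers_of_ne_one (z : G) (hz : z ∈ Subgroup.zpowers x) (hz1 : z ≠ 1) :
    x ∈ Subgroup.zpowers z := by
  haveI : Fact p.Prime := ⟨hp⟩
  have hcard : Nat.card (Subgroup.zpowers x) = p := by rw [Nat.card_zpowers, hx]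
  have h1 : (⟨z, hz⟩ : Subgroup.zpowers x) ≠ 1 := fun h => hz1 (congrArg Subtype.val h)
  have := mem_zpowers_of_prime_card (G := Subgroup.zpowers x) hcard h1
    (g' := ⟨x, Subgroup.mem_zpowers x⟩)
  obtain ⟨k, hk⟩ := Subgroup.mem_zpowers_iff.1 this
  rw [Subgroup.mem_zpowers_iff]
  refine ⟨k, ?_⟩
  have := congrArg Subtype.val hk
  simpa using this

include hp hx hC in
theorem sylow_le_zpowers [Fact p.Prime] (Q : Sylow p G) (hxQ : x ∈ Q) :
    (Q : Subgroup G) ≤ Subgroup.zpowers x := by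
  haveI : Nontrivial (Q : Subgroup G) := by
    refine ⟨⟨⟨x, hxQ⟩, 1, fun h => ?_⟩⟩
    have h1 : x = 1 := congrArg Subtype.val h
    rw [h1, orderOf_one] at hx
    exact hp.ne_one hx.symm
  have hnt := IsPGroup.center_nontrivial (G := (Q : Subgroup G)) Q.isPGroup'
  obtain ⟨⟨z, hzc⟩, hz1⟩ := exists_ne (1 : Subgroup.center (Q : Subgroup G))
  have hz1' : (z : G) ≠ 1 := fun h => hz1 (Subtype.ext (Subtype.ext h))
  rw [Subgroup.mem_center_iff] at hzc
  have hzx : (z : G) * x = x * (z : G) := by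
    have := hzc ⟨x, hxQ⟩
    have := congrArg Subtype.val this
    simpa using this.symm
  have hzmem : (z : G) ∈ Subgroup.zpowers x := mem_zpowers_of_comm x hC z hzx
  have hxz := x_mem_zpowers_of_ne_one p hp x hx z hzmem hz1'
  obtain ⟨k, hk⟩ := Subgroup.mem_zpowers_iff.1 hxz
  intro q hq
  apply mem_zpowers_of_comm x hC
  have hqz : q * (z : G) = (z : G) * q := by
    have := hzc ⟨q, hq⟩
    have := congrArg Subtype.val this
    simpa using this
  rw [← hk]
  exact (Commute.zpow_right (show Commute q (z : G) from hqz) k).eq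

include hp hx hC in
theorem exists_sylow_eq [Fact p.Prime] :
    ∃ P : Sylow p G, (P : Subgroup G) = Subgroup.zpowers x := by
  have hpg : IsPGroup p (Subgroup.zpowers x) :=
    IsPGroup.of_card (n := 1) (by rw [Nat.card_zpowers, hx, pow_one])
  obtain ⟨Q, hQ⟩ := hpg.exists_le_sylow
  exact ⟨Q, le_antisymm (sylow_le_zpowers p hp x hx hC Q (hQ (Subgroup.mem_zpowers x))) hQ⟩

include hp hx hC in
theorem factorization_eq_one [Fact p.Prime] : (Nat.card G).factorization p = 1 := by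
  obtain ⟨P, hP⟩ := exists_sylow_eq p hp x hx hC
  have h1 := P.card_eq_multiplicity
  have h2 : Nat.card (P : Subgroup G) = p := by rw [hP, Nat.card_zpowers, hx]
  rw [h2] at h1
  have h3 : p ^ 1 = p ^ (Nat.card G).factorization p := by rw [pow_one]; exact h1
  exact (Nat.pow_right_injective hp.two_le h3).symm

include hp hx hC in
theorem sylow_card [Fact p.Prime] (Q : Sylow p G) : Nat.card (Q : Subgroup G) = p := by
  rw [Q.card_eq_multiplicity, factorization_eq_one p hp x hx hC, pow_one]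

include hp hx hC in
/-- every Sylow `p`-subgroup is `zpowers y` for a conjugate `y` of `x` -/
theorem x_mem_of_dvd [Fact p.Prime] (S : Subgroup G) [hSn : S.Normal] (hpS : p ∣ Nat.card S) :
    x ∈ S := by
  obtain ⟨y, hy⟩ := exists_prime_orderOf_dvd_card' (G := S) p hpS
  have hy' : orderOf (y : G) = p := by rw [← hy]; exact (Subgroup.orderOf_coe y)
  have hpg : IsPGroup p (Subgroup.zpowers (y : G)) :=
    IsPGroup.of_card (n := 1) (by rw [Nat.card_zpowers, hy', pow_one])
  obtain ⟨Q₁, hQ₁⟩ := hpg.exists_le_sylow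
  obtain ⟨P, hP⟩ := exists_sylow_eq p hp x hx hC
  obtain ⟨g, hg⟩ := MulAction.exists_smul_eq G P Q₁
  have hyQ : (y : G) ∈ (Q₁ : Subgroup G) := hQ₁ (Subgroup.mem_zpowers _)
  rw [← hg, Sylow.coe_subgroup_smul, Subgroup.mem_pointwise_smul_iff_inv_smul_mem,
    MulAut.smul_def, MulAut.conj_inv_apply, hP] at hyQ
  have hne : g⁻¹ * (y : G) * g ≠ 1 := by
    intro h
    have : (y : G) = 1 := by
      have := congrArg (fun t => g * t * g⁻¹) h
      simpa [mul_assoc] using this
    rw [this, orderOf_one] at hy'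
    exact hp.ne_one hy'.symm
  have hmem : g⁻¹ * (y : G) * g ∈ S := by
    have := hSn.conj_mem (y : G) y.2 g⁻¹
    simpa using this
  have := x_mem_zpowers_of_ne_one p hp x hx _ hyQ hne
  exact (Subgroup.zpowers_le.2 hmem) this

include hC in
theorem normalizer_comm (n₁ n₂ : G) (h₁ : n₁ ∈ Subgroup.normalizer (Subgroup.zpowers x : Set G))
    (h₂ : n₂ ∈ Subgroup.normalizer (Subgroup.zpowers x : Set G)) :
    (n₂ * n₁)⁻¹ * (n₁ * n₂) ∈ Subgroup.zpowers x := by
  have e₁ : n₁ * x * n₁⁻¹ ∈ Subgroup.zpowers x :=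
    (Subgroup.mem_normalizer_iff.1 h₁ x).1 (Subgroup.mem_zpowers x)
  have e₂ : n₂ * x * n₂⁻¹ ∈ Subgroup.zpowers x :=
    (Subgroup.mem_normalizer_iff.1 h₂ x).1 (Subgroup.mem_zpowers x)
  obtain ⟨a, ha⟩ := Subgroup.mem_zpowers_iff.1 e₁
  obtain ⟨b, hb⟩ := Subgroup.mem_zpowers_iff.1 e₂
  have c₁ : ∀ k : ℤ, n₁ * x ^ k * n₁⁻¹ = (x ^ a) ^ k := by
    intro k
    rw [ha, ← conj_zpow]
  have c₂ : ∀ k : ℤ, n₂ * x ^ k * n₂⁻¹ = (x ^ b) ^ k := by
    intro k
    rw [hb, ← conj_zpow]
  have u : (n₁ * n₂) * x * (n₁ * n₂)⁻¹ = x ^ (a * b) := by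
    have : (n₁ * n₂) * x * (n₁ * n₂)⁻¹ = n₁ * (n₂ * x * n₂⁻¹) * n₁⁻¹ := by group
    rw [this, ← hb, c₁, zpow_mul]
  have v : (n₂ * n₁) * x * (n₂ * n₁)⁻¹ = x ^ (a * b) := by
    have : (n₂ * n₁) * x * (n₂ * n₁)⁻¹ = n₂ * (n₁ * x * n₁⁻¹) * n₂⁻¹ := by group
    rw [this, ← ha, c₂, mul_comm a b, zpow_mul]
  apply mem_zpowers_of_comm x hC
  have huv := u.trans v.symm
  have := congrArg (fun t => (n₂ * n₁)⁻¹ * t * (n₁ * n₂)) huv
  beta_reduce at this
  calc (n₂ * n₁)⁻¹ * (n₁ * n₂) * x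
      = (n₂ * n₁)⁻¹ * (n₁ * n₂ * x * (n₁ * n₂)⁻¹) * (n₁ * n₂) := by group
    _ = (n₂ * n₁)⁻¹ * (n₂ * n₁ * x * (n₂ * n₁)⁻¹) * (n₁ * n₂) := this
    _ = x * ((n₂ * n₁)⁻¹ * (n₁ * n₂)) := by group

include hp hx hC in
theorem part_a (S : Subgroup G) [hSn : S.Normal] (hpS : p ∣ Nat.card S) : commutator G ≤ S := by
  haveI : Fact p.Prime := ⟨hp⟩
  have hxS := x_mem_of_dvd p hp x hx hC S hpS
  obtain ⟨P, hP⟩ := exists_sylow_eq p hp x hx hC
  have hPS : (P : Subgroup G) ≤ S := by rw [hP]; exact Subgroup.zpowers_le.2 hxS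
  have hfr := Sylow.normalizer_sup_eq_top' P hPS
  rw [← Sylow.coe_coe, hP] at hfr
  have hdecomp : ∀ g : G, ∃ n ∈ Subgroup.normalizer (Subgroup.zpowers x : Set G), ∃ s ∈ S, g = n * s := by
    intro g
    have hg : g ∈ Subgroup.normalizer (Subgroup.zpowers x : Set G) ⊔ S := by rw [hfr]; trivial
    have := (Subgroup.mul_normal (Subgroup.normalizer (Subgroup.zpowers x : Set G)) S)
    have hg' : g ∈ ((Subgroup.normalizer (Subgroup.zpowers x : Set G) ⊔ S : Subgroup G) : Set G) := hg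
    rw [this, Set.mem_mul] at hg'
    obtain ⟨n, hn, s, hs, rfl⟩ := hg'
    exact ⟨n, hn, s, hs, rfl⟩
  have hcomm : ∀ g h : G, (QuotientGroup.mk g : G ⧸ S) * QuotientGroup.mk h = QuotientGroup.mk h * QuotientGroup.mk g := by
    intro g h
    obtain ⟨n₁, hn₁, s₁, hs₁, rfl⟩ := hdecomp g
    obtain ⟨n₂, hn₂, s₂, hs₂, rfl⟩ := hdecomp h
    have e₁ : (QuotientGroup.mk (n₁ * s₁) : G ⧸ S) = QuotientGroup.mk n₁ := by
      rw [QuotientGroup.eq]; simpa [mul_assoc] using hs₁
    have e₂ : (QuotientGroup.mk (n₂ * s₂) : G ⧸ S) = QuotientGroup.mk n₂ := by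
      rw [QuotientGroup.eq]; simpa [mul_assoc] using hs₂
    rw [e₁, e₂, ← QuotientGroup.mk_mul, ← QuotientGroup.mk_mul, eq_comm, QuotientGroup.eq]
    exact Subgroup.zpowers_le.2 hxS (normalizer_comm x hC n₁ n₂ hn₁ hn₂)
  rw [commutator_def, Subgroup.commutator_le]
  intro g _ h _
  rw [← QuotientGroup.eq_one_iff, commutatorElement_def]
  simp only [QuotientGroup.mk_mul, QuotientGroup.mk_inv]
  rw [hcomm g h]
  group

include hp hx hC in
/-- a normal `p'`-subgroup meets the normalizer of `⟨x⟩` trivially -/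
theorem inter_normalizer_trivial (S : Subgroup G) [hSn : S.Normal] (hS : ¬ p ∣ Nat.card S)
    (s : G) (hsS : s ∈ S) (hsN : s ∈ Subgroup.normalizer (Subgroup.zpowers x : Set G)) : s = 1 := by
  have e₁ : s * x * s⁻¹ ∈ Subgroup.zpowers x :=
    (Subgroup.mem_normalizer_iff.1 hsN x).1 (Subgroup.mem_zpowers x)
  have e₂ : s * x * s⁻¹ * x⁻¹ ∈ Subgroup.zpowers x :=
    (Subgroup.zpowers x).mul_mem e₁ ((Subgroup.zpowers x).inv_mem (Subgroup.mem_zpowers x))
  have e₃ : s * x * s⁻¹ * x⁻¹ ∈ S := by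
    have h1 : x * s⁻¹ * x⁻¹ ∈ S := hSn.conj_mem s⁻¹ (S.inv_mem hsS) x
    have := S.mul_mem hsS h1
    simpa [mul_assoc] using this
  have e₄ := inter_trivial p hp x hx S hS _ e₃ e₂
  have e₅ : s * x = x * s := by
    have := congrArg (fun t => t * x * s) e₄
    simpa [mul_assoc] using this
  exact inter_trivial p hp x hx S hS s hsS (mem_zpowers_of_comm x hC s e₅)

include hp hx hC in
theorem card_dvd_index_normalizer (S : Subgroup G) [hSn : S.Normal] (hS : ¬ p ∣ Nat.card S) :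
    Nat.card S ∣ (Subgroup.normalizer (Subgroup.zpowers x : Set G)).index := by
  set N := Subgroup.normalizer (Subgroup.zpowers x : Set G) with hN
  let f : N →* G ⧸ S := (QuotientGroup.mk' S).comp N.subtype
  have hf : Function.Injective f := by
    rw [injective_iff_map_eq_one]
    intro n hn
    have h1 : (n : G) ∈ S := by
      have : (QuotientGroup.mk (n : G) : G ⧸ S) = 1 := hn
      rwa [QuotientGroup.eq_one_iff] at this
    exact Subtype.ext (inter_normalizer_trivial p hp x hx hC S hS n h1 n.2)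
  have h1 : Nat.card N ∣ Nat.card (G ⧸ S) := Subgroup.card_dvd_of_injective f hf
  obtain ⟨k, hk⟩ := h1
  have h2 : Nat.card S * S.index = Nat.card G := S.card_mul_index
  have h3 : Nat.card N * N.index = Nat.card G := N.card_mul_index
  have h4 : S.index = Nat.card N * k := hk
  refine ⟨k, ?_⟩
  have hNpos : 0 < Nat.card N := Nat.card_pos
  have : Nat.card N * N.index = Nat.card N * (Nat.card S * k) := by
    rw [h3, ← h2, h4]; ring
  exact Nat.eq_of_mul_eq_mul_left hNpos this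

include hp hx hC in
theorem card_subgroups_eq [Fact p.Prime] :
    Nat.card {H : Subgroup G // Nat.card H = p} = Nat.card (Sylow p G) := by
  have hfac := factorization_eq_one p hp x hx hC
  apply Nat.card_congr
  have hc : ∀ H : {H : Subgroup G // Nat.card H = p},
      Nat.card H.1 = p ^ (Nat.card G).factorization p := fun H => by
    rw [hfac, pow_one]; exact H.2
  have hc' : ∀ Q : Sylow p G,
      Nat.card (Q : Subgroup G) = p ^ (Nat.card G).factorization p := fun Q => by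
    rw [hfac, pow_one]; exact sylow_card p hp x hx hC Q
  refine
    { toFun := fun H => Sylow.ofCard H.1 (hc H)
      invFun := fun Q => ⟨Q, sylow_card p hp x hx hC Q⟩
      left_inv := fun H => Subtype.ext (Sylow.coe_ofCard (p := p) H.1 (hc H))
      right_inv := fun Q => Sylow.ext (Sylow.coe_ofCard (p := p) (Q : Subgroup G) (hc' Q)) }

include hp hx hC in
theorem part_b1 (S : Subgroup G) [hSn : S.Normal] (hS : ¬ p ∣ Nat.card S) :
    Nat.card S ∣ Nat.card {H : Subgroup G // Nat.card H = p} := by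
  haveI : Fact p.Prime := ⟨hp⟩
  obtain ⟨P, hP⟩ := exists_sylow_eq p hp x hx hC
  rw [card_subgroups_eq p hp x hx hC, Sylow.card_eq_index_normalizer P, ← Sylow.coe_coe, hP]
  exact card_dvd_index_normalizer p hp x hx hC S hS

include hp hx hC in
theorem part_b2 (S : Subgroup G) [hSn : S.Normal] (hS : ¬ p ∣ Nat.card S) :
    Nat.card S % p = 1 := by
  haveI : Fact p.Prime := ⟨hp⟩
  letI smulInst : SMul (Subgroup.zpowers x) S :=
    ⟨fun g s => ⟨(g : G) * s * (g : G)⁻¹, hSn.conj_mem s s.2 g⟩⟩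
  have hsmul : ∀ (g : Subgroup.zpowers x) (s : S), ((g • s : S) : G) = (g : G) * s * (g : G)⁻¹ :=
    fun _ _ => rfl
  letI act : MulAction (Subgroup.zpowers x) S :=
    { one_smul := fun s => Subtype.ext (by rw [hsmul]; simp)
      mul_smul := fun g h s => Subtype.ext (by rw [hsmul, hsmul, hsmul]; simp [mul_assoc]) }
  have hpg : IsPGroup p (Subgroup.zpowers x) :=
    IsPGroup.of_card (n := 1) (by rw [Nat.card_zpowers, hx, pow_one])
  have hmod := hpg.card_modEq_card_fixedPoints (α := S)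
  have hfix : Nat.card (MulAction.fixedPoints (Subgroup.zpowers x) S) = 1 := by
    rw [Nat.card_eq_one_iff_exists]
    refine ⟨⟨1, fun g => Subtype.ext (by rw [hsmul]; simp)⟩, ?_⟩
    rintro ⟨s, hs⟩
    apply Subtype.ext
    have h1 := hs ⟨x, Subgroup.mem_zpowers x⟩
    have h2 : x * (s : G) * x⁻¹ = s := by
      have := congrArg Subtype.val h1
      rwa [hsmul] at this
    have h3 : (s : G) * x = x * s := by
      have := congrArg (fun t => t * x) h2
      simpa [mul_assoc] using this.symm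
    have h4 := inter_trivial p hp x hx S hS s s.2 (mem_zpowers_of_comm x hC s h3)
    exact Subtype.ext h4
  rw [hfix] at hmod
  have := hmod
  unfold Nat.ModEq at this
  rw [this, Nat.mod_eq_of_lt hp.one_lt]

include hp hx in
theorem part_b3 (S : Subgroup G) [hSn : S.Normal] (hS : ¬ p ∣ Nat.card S) :
    orderOf (QuotientGroup.mk x : G ⧸ S) = p := by
  haveI : Fact p.Prime := ⟨hp⟩
  apply orderOf_eq_prime
  · rw [← QuotientGroup.mk_pow, ← hx, pow_orderOf_eq_one]; rfl
  · intro h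
    rw [QuotientGroup.eq_one_iff] at h
    have h1 := inter_trivial p hp x hx S hS x h (Subgroup.mem_zpowers x)
    rw [h1, orderOf_one] at hx
    exact hp.ne_one hx.symm

include hp hx hC in
theorem part_b4 (S : Subgroup G) [hSn : S.Normal] (hS : ¬ p ∣ Nat.card S) :
    Subgroup.centralizer ({(QuotientGroup.mk x : G ⧸ S)} : Set (G ⧸ S)) =
      Subgroup.zpowers (QuotientGroup.mk x : G ⧸ S) := by
  apply le_antisymm
  · intro gbar hg
    obtain ⟨g, rfl⟩ := QuotientGroup.mk_surjective gbar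
    rw [Subgroup.mem_centralizer_iff] at hg
    have hg1 := hg _ (Set.mem_singleton _)
    -- x⁻¹ * (g x g⁻¹) ∈ S
    have hs₀ : x⁻¹ * (g * x * g⁻¹) ∈ S := by
      rw [← QuotientGroup.eq_one_iff]
      simp only [QuotientGroup.mk_mul, QuotientGroup.mk_inv]
      rw [← hg1]; group
    -- the map s ↦ x⁻¹ (s x s⁻¹) on S is injective, hence surjective
    let φ : S → S := fun s => ⟨x⁻¹ * ((s : G) * x * (s : G)⁻¹), by
      have h1 : x⁻¹ * (s : G) * x ∈ S := by
        have := hSn.conj_mem s s.2 x⁻¹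
        simpa using this
      have := S.mul_mem h1 (S.inv_mem s.2)
      simpa [mul_assoc] using this⟩
    have hφ : Function.Injective φ := by
      intro s t hst
      have h1 : x⁻¹ * ((s : G) * x * (s : G)⁻¹) = x⁻¹ * ((t : G) * x * (t : G)⁻¹) :=
        congrArg Subtype.val hst
      have h2 : (s : G) * x * (s : G)⁻¹ = (t : G) * x * (t : G)⁻¹ := mul_left_cancel h1
      have h3 : ((t : G)⁻¹ * s) * x = x * ((t : G)⁻¹ * s) := by
        have := congrArg (fun u => (t : G)⁻¹ * u * s) h2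
        simpa [mul_assoc] using this
      have h4 := inter_trivial p hp x hx S hS _ (S.mul_mem (S.inv_mem t.2) s.2)
        (mem_zpowers_of_comm x hC _ h3)
      apply Subtype.ext
      have := congrArg (fun u => (t : G) * u) h4
      simpa using this
    obtain ⟨s, hs⟩ := (Finite.injective_iff_surjective.1 hφ) ⟨_, hs₀⟩
    have h1 : x⁻¹ * ((s : G) * x * (s : G)⁻¹) = x⁻¹ * (g * x * g⁻¹) := congrArg Subtype.val hs
    have h2 : (s : G) * x * (s : G)⁻¹ = g * x * g⁻¹ := mul_left_cancel h1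
    have h3 : ((s : G)⁻¹ * g) * x = x * ((s : G)⁻¹ * g) := by
      have := congrArg (fun u => (s : G)⁻¹ * u * g) h2
      simpa [mul_assoc] using this.symm
    have h4 := mem_zpowers_of_comm x hC _ h3
    obtain ⟨k, hk⟩ := Subgroup.mem_zpowers_iff.1 h4
    rw [Subgroup.mem_zpowers_iff]
    refine ⟨k, ?_⟩
    rw [← QuotientGroup.mk_zpow, hk, QuotientGroup.eq]
    have : ((s : G)⁻¹ * g)⁻¹ * g = ((g⁻¹ * s) * g) := by group
    rw [this]
    have := hSn.conj_mem s s.2 g⁻¹
    simpa using this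
  · rw [Subgroup.zpowers_le, Subgroup.mem_centralizer_iff]
    intro h hh
    rw [Set.mem_singleton_iff] at hh
    rw [hh]

end

theorem result {G : Type*} [Group G] [Finite G] (p : ℕ) (hp : p.Prime) (x : G) (hx : orderOf x = p) (hC : Subgroup.centralizer ({x} : Set G) = Subgroup.zpowers x) (S : Subgroup G) [S.Normal] : (p ∣ Nat.card S → commutator G ≤ S) ∧ (¬ p ∣ Nat.card S → Nat.card S ∣ Nat.card {H : Subgroup G // Nat.card H = p} ∧ Nat.card S % p = 1 ∧ orderOf (QuotientGroup.mk x : G ⧸ S) = p ∧ Subgroup.centralizer ({(QuotientGroup.mk x : G ⧸ S)} : Set (G ⧸ S)) = Subgroup.zpowers (QuotientGroup.mk x : G ⧸ S)) :=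
  ⟨part_a p hp x hx hC S, fun hS => ⟨part_b1 p hp x hx hC S hS, part_b2 p hp x hx hC S hS,
    part_b3 p hp x hx S hS, part_b4 p hp x hx hC S hS⟩⟩

end Cfsg.Agent.S4496
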