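import Mathlib
import Cfsg.Agent.S4496
import Cfsg.Statements.S4495

set_option autoImplicit false
open Cfsg
open scoped Pointwise commutatorElement

namespace Cfsg.Agent.S4495

open Cfsg.Agent.S4496

theorem natCard_subtype_eq_card_filter {α : Type*} [Fintype α] (q : α → Prop) [DecidablePred q] :
    Nat.card {a // q a} = (Finset.univ.filter q).card := by
  rw [Nat.card_eq_fintype_card, Fintype.card_subtype]

section
variable {G : Type*} [Group G] [Finite G] (p : ℕ) (hp : p.Prime) (x : G) (hx : orderOf x = p)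
  (hC : Subgroup.centralizer ({x} : Set G) = Subgroup.zpowers x)

include hp hx in
theorem orderOf_of_mem (y : G) (hy : y ∈ Subgroup.zpowers x) (hy1 : y ≠ 1) : orderOf y = p := by
  have h1 : orderOf y ∣ p := orderOf_dvd_of_pow_eq_one (pow_p_of_mem_zpowers p x hx y hy)
  rcases (Nat.dvd_prime hp).1 h1 with h | h
  · exact absurd (orderOf_eq_one_iff.1 h) hy1
  · exact h

include hp hx in
theorem zpowers_eq (y : G) (hy : y ∈ Subgroup.zpowers x) (hy1 : y ≠ 1) :
    Subgroup.zpowers y = Subgroup.zpowers x :=
  le_antisymm (Subgroup.zpowers_le.2 hy)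
    (Subgroup.zpowers_le.2 (x_mem_zpowers_of_ne_one p hp x hx y hy hy1))

include hp hx hC in
theorem mem_of_comm (y : G) (hy : y ∈ Subgroup.zpowers x) (hy1 : y ≠ 1) (g : G)
    (hg : g * y = y * g) : g ∈ Subgroup.zpowers x := by
  apply mem_zpowers_of_comm x hC
  obtain ⟨k, hk⟩ := Subgroup.mem_zpowers_iff.1 (x_mem_zpowers_of_ne_one p hp x hx y hy hy1)
  rw [← hk]
  exact (Commute.zpow_right (show Commute g y from hg) k).eq

theorem comm_of_mem (u y : G) (hu : u ∈ Subgroup.zpowers x) (hy : y ∈ Subgroup.zpowers x) :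
    u * y = y * u := by
  obtain ⟨a, rfl⟩ := Subgroup.mem_zpowers_iff.1 hu
  obtain ⟨b, rfl⟩ := Subgroup.mem_zpowers_iff.1 hy
  rw [← zpow_add, ← zpow_add, add_comm]

include hp hx in
theorem conj_mem_of_conj (y z : G) (hy : y ∈ Subgroup.zpowers x) (hy1 : y ≠ 1)
    (hz : z ∈ Subgroup.zpowers x) (g : G) (hg : g * y * g⁻¹ = z) (u : G)
    (hu : u ∈ Subgroup.zpowers x) : g * u * g⁻¹ ∈ Subgroup.zpowers x := by
  rw [← zpowers_eq p hp x hx y hy hy1] at hu
  obtain ⟨k, rfl⟩ := Subgroup.mem_zpowers_iff.1 hu
  rw [← conj_zpow, hg]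
  exact Subgroup.zpow_mem _ hz k

include hp hx in
theorem mem_normalizer_of_conj (y z : G) (hy : y ∈ Subgroup.zpowers x) (hy1 : y ≠ 1)
    (hz : z ∈ Subgroup.zpowers x) (hz1 : z ≠ 1) (g : G) (hg : g * y * g⁻¹ = z) :
    g ∈ Subgroup.normalizer (Subgroup.zpowers x : Set G) := by
  rw [Subgroup.mem_normalizer_iff]
  intro u
  constructor
  · exact conj_mem_of_conj p hp x hx y z hy hy1 hz g hg u
  · intro h
    have hg' : g⁻¹ * z * g⁻¹⁻¹ = y := by rw [← hg]; group
    have := conj_mem_of_conj p hp x hx z y hz hz1 hy g⁻¹ hg' _ h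
    have e : g⁻¹ * (g * u * g⁻¹) * g⁻¹⁻¹ = u := by group
    rwa [e] at this

include hp hx hC in
theorem le_commutator_of_ne (n : G)
    (hn : n ∈ Subgroup.normalizer (Subgroup.zpowers x : Set G))
    (hnP : n ∉ Subgroup.zpowers x) : Subgroup.zpowers x ≤ commutator G := by
  have e₁ : n * x * n⁻¹ ∈ Subgroup.zpowers x :=
    (Subgroup.mem_normalizer_iff.1 hn x).1 (Subgroup.mem_zpowers x)
  have e₂ : n * x * n⁻¹ * x⁻¹ ∈ Subgroup.zpowers x :=
    (Subgroup.zpowers x).mul_mem e₁ ((Subgroup.zpowers x).inv_mem (Subgroup.mem_zpowers x))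
  have e₃ : n * x * n⁻¹ * x⁻¹ ≠ 1 := by
    intro h
    apply hnP
    apply mem_zpowers_of_comm x hC
    have := congrArg (fun t => t * x * n) h
    simpa [mul_assoc] using this
  have e₄ : n * x * n⁻¹ * x⁻¹ ∈ commutator G := by
    have : ⁅n, x⁆ ∈ ⁅(⊤ : Subgroup G), ⊤⁆ :=
      Subgroup.commutator_mem_commutator (Subgroup.mem_top n) (Subgroup.mem_top x)
    rwa [commutatorElement_def] at this
  rw [← zpowers_eq p hp x hx _ e₂ e₃]
  exact Subgroup.zpowers_le.2 e₄

include hp hx hC in
theorem index_dvd_of_ne (n : G)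
    (hn : n ∈ Subgroup.normalizer (Subgroup.zpowers x : Set G))
    (hnP : n ∉ Subgroup.zpowers x) :
    (commutator G).index ∣
      (Subgroup.zpowers x).relIndex (Subgroup.normalizer (Subgroup.zpowers x : Set G)) := by
  haveI : Fact p.Prime := ⟨hp⟩
  have hPG := le_commutator_of_ne p hp x hx hC n hn hnP
  obtain ⟨P, hP⟩ := exists_sylow_eq p hp x hx hC
  have hPS : (P : Subgroup G) ≤ commutator G := by rw [hP]; exact hPG
  have hfr := Sylow.normalizer_sup_eq_top' P hPS
  rw [← Sylow.coe_coe, hP] at hfr
  have h1 : (commutator G).index =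
      (commutator G).relIndex (Subgroup.normalizer (Subgroup.zpowers x : Set G)) := by
    rw [← Subgroup.relIndex_top_right, ← hfr, Subgroup.relIndex_sup_right]
  have h2 : (commutator G).relIndex (Subgroup.normalizer (Subgroup.zpowers x : Set G)) =
      (commutator G ⊓ Subgroup.normalizer (Subgroup.zpowers x : Set G)).relIndex
        (Subgroup.normalizer (Subgroup.zpowers x : Set G)) :=
    (Subgroup.inf_relIndex_right _ _).symm
  have h3 : Subgroup.zpowers x ≤
      commutator G ⊓ Subgroup.normalizer (Subgroup.zpowers x : Set G) :=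
    le_inf hPG Subgroup.le_normalizer
  have h4 := Subgroup.relIndex_mul_relIndex (Subgroup.zpowers x)
    (commutator G ⊓ Subgroup.normalizer (Subgroup.zpowers x : Set G))
    (Subgroup.normalizer (Subgroup.zpowers x : Set G)) h3 inf_le_right
  rw [h1, h2]
  exact Dvd.intro_left _ h4

include hp hx hC in
theorem index_eq_of_le
    (hNP : Subgroup.normalizer (Subgroup.zpowers x : Set G) ≤ Subgroup.zpowers x) :
    (commutator G).index = p := by
  haveI : Fact p.Prime := ⟨hp⟩
  obtain ⟨P, hP⟩ := exists_sylow_eq p hp x hx hC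
  have hcomm : ∀ a b : G, a ∈ (P : Subgroup G) → b ∈ (P : Subgroup G) → a * b = b * a := by
    intro a b ha hb
    rw [hP] at ha hb
    exact comm_of_mem x a b ha hb
  have hNle : Subgroup.normalizer (P : Set G) ≤ (P : Subgroup G) := by
    intro n hn
    rw [← Sylow.coe_coe, hP] at hn
    rw [hP]
    exact hNP hn
  have hle : Subgroup.normalizer (P : Set G) ≤ Subgroup.centralizer (P : Set G) := by
    intro n hn
    have hnP : n ∈ (P : Subgroup G) := hNle hn
    rw [Subgroup.mem_centralizer_iff]
    intro h hh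
    exact hcomm h n hh hnP
  have hcompl := MonoidHom.ker_transferSylow_isComplement' P hle
  have hidx : (MonoidHom.transferSylow P hle).ker.index = p := by
    rw [hcompl.symm.index_eq_card, hP, Nat.card_zpowers, hx]
  have hGK : commutator G ≤ (MonoidHom.transferSylow P hle).ker := by
    rw [commutator_def, Subgroup.commutator_le]
    intro a _ b _
    rw [MonoidHom.mem_ker, map_commutatorElement, commutatorElement_eq_one_iff_commute]
    exact Subtype.ext (hcomm _ _ (MonoidHom.transferSylow P hle a).2
      (MonoidHom.transferSylow P hle b).2)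
  have hdvd1 : p ∣ (commutator G).index := by
    rw [← hidx]
    exact Subgroup.index_dvd_of_le hGK
  -- the other divisibility
  let f : G →* Abelianization G := Abelianization.of
  have hMn : (((P : Subgroup G).map f).comap f).Normal := inferInstance
  have hPM : (P : Subgroup G) ≤ ((P : Subgroup G).map f).comap f := Subgroup.le_comap_map f _
  have hfr := Sylow.normalizer_sup_eq_top' P hPM
  have hNM : Subgroup.normalizer (P : Set G) ≤ ((P : Subgroup G).map f).comap f :=
    hNle.trans hPM
  have hMtop : ((P : Subgroup G).map f).comap f = ⊤ := by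
    rw [← hfr]; exact (sup_eq_right.2 hNM).symm
  have hM2 : ((P : Subgroup G).map f).comap f = (P : Subgroup G) ⊔ commutator G := by
    rw [Subgroup.comap_map_eq, Abelianization.ker_of]
  have h5 : (commutator G).index = (commutator G).relIndex (P : Subgroup G) := by
    rw [← Subgroup.relIndex_top_right, ← hMtop, hM2, Subgroup.relIndex_sup_right]
  have h6 : (commutator G).relIndex (P : Subgroup G) ∣ Nat.card (P : Subgroup G) :=
    Subgroup.relIndex_dvd_card _ _
  have hdvd2 : (commutator G).index ∣ p := by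
    rw [h5]
    have : Nat.card (P : Subgroup G) = p := by rw [hP, Nat.card_zpowers, hx]
    rwa [this] at h6
  exact Nat.dvd_antisymm hdvd2 hdvd1

include hp hx hC in
theorem count :
    Nat.card {C : ConjClasses G // ∃ g ∈ C.carrier, orderOf g = p} *
      (Subgroup.zpowers x).relIndex (Subgroup.normalizer (Subgroup.zpowers x : Set G)) =
      p - 1 := by
  classical
  haveI : Fact p.Prime := ⟨hp⟩
  haveI : Fintype G := Fintype.ofFinite G
  have hPcard : Nat.card (Subgroup.zpowers x) = p := by rw [Nat.card_zpowers, hx]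
  have hNcard : Nat.card (Subgroup.normalizer (Subgroup.zpowers x : Set G)) =
      p * (Subgroup.zpowers x).relIndex (Subgroup.normalizer (Subgroup.zpowers x : Set G)) := by
    have := Subgroup.relIndex_mul_relIndex (⊥ : Subgroup G) (Subgroup.zpowers x)
      (Subgroup.normalizer (Subgroup.zpowers x : Set G)) bot_le Subgroup.le_normalizer
    rw [Subgroup.relIndex_bot_left, Subgroup.relIndex_bot_left, hPcard] at this
    exact this.symm
  -- the finsets
  set Pf : Finset G := Finset.univ.filter (fun y => y ∈ Subgroup.zpowers x) with hPf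
  set Nf : Finset G := Finset.univ.filter
    (fun y => y ∈ Subgroup.normalizer (Subgroup.zpowers x : Set G)) with hNf
  set X : Finset G := Finset.univ.filter (fun y => y ∈ Subgroup.zpowers x ∧ y ≠ 1) with hX
  set T : Finset (ConjClasses G) :=
    Finset.univ.filter (fun C : ConjClasses G => ∃ g ∈ C.carrier, orderOf g = p) with hT
  have hPfcard : Pf.card = p := by
    rw [hPf, ← natCard_subtype_eq_card_filter]; exact hPcard
  have hNfcard : Nf.card =
      p * (Subgroup.zpowers x).relIndex (Subgroup.normalizer (Subgroup.zpowers x : Set G)) := by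
    rw [hNf, ← natCard_subtype_eq_card_filter]; exact hNcard
  have hTcard : T.card = Nat.card {C : ConjClasses G // ∃ g ∈ C.carrier, orderOf g = p} := by
    rw [hT, ← natCard_subtype_eq_card_filter]
  have hXcard : X.card = p - 1 := by
    have h : X = Pf.erase 1 := by
      ext y
      simp only [hX, hPf, Finset.mem_filter, Finset.mem_univ, true_and, Finset.mem_erase]
      tauto
    rw [h, Finset.card_erase_of_mem, hPfcard]
    simp only [hPf, Finset.mem_filter, Finset.mem_univ, true_and]
    exact (Subgroup.zpowers x).one_mem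
  have hmaps : (X : Set G).MapsTo (ConjClasses.mk) (T : Set (ConjClasses G)) := by
    intro y hy
    have hy' : y ∈ Subgroup.zpowers x ∧ y ≠ 1 := by
      have := Finset.mem_coe.1 hy
      simpa only [hX, Finset.mem_filter, Finset.mem_univ, true_and] using this
    apply Finset.mem_coe.2
    simp only [hT, Finset.mem_filter, Finset.mem_univ, true_and]
    exact ⟨y, ConjClasses.mem_carrier_mk, orderOf_of_mem p hp x hx y hy'.1 hy'.2⟩
  have hsum := Finset.card_eq_sum_card_fiberwise hmaps
  have hfib : ∀ C ∈ T, (X.filter (fun y => ConjClasses.mk y = C)).card =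
      (Subgroup.zpowers x).relIndex (Subgroup.normalizer (Subgroup.zpowers x : Set G)) := by
    intro C hCT
    simp only [hT, Finset.mem_filter, Finset.mem_univ, true_and] at hCT
    obtain ⟨g, hgC, hg⟩ := hCT
    -- conjugate g into P
    have hpg : IsPGroup p (Subgroup.zpowers g) :=
      IsPGroup.of_card (n := 1) (by rw [Nat.card_zpowers, hg, pow_one])
    obtain ⟨Q₁, hQ₁⟩ := hpg.exists_le_sylow
    obtain ⟨P', hP'⟩ := exists_sylow_eq p hp x hx hC
    obtain ⟨c, hc⟩ := MulAction.exists_smul_eq G P' Q₁
    have hgQ : g ∈ (Q₁ : Subgroup G) := hQ₁ (Subgroup.mem_zpowers _)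
    rw [← hc, Sylow.coe_subgroup_smul, Subgroup.mem_pointwise_smul_iff_inv_smul_mem,
      MulAut.smul_def, MulAut.conj_inv_apply, hP'] at hgQ
    have hg1 : g ≠ 1 := by
      intro h
      rw [h, orderOf_one] at hg
      exact hp.ne_one hg.symm
    obtain ⟨y, hyP, hy1, hyC⟩ : ∃ y, y ∈ Subgroup.zpowers x ∧ y ≠ 1 ∧ ConjClasses.mk y = C := by
      refine ⟨c⁻¹ * g * c, hgQ, ?_, ?_⟩
      · intro h
        apply hg1
        have := congrArg (fun t => c * t * c⁻¹) h
        simpa [mul_assoc] using this
      · rw [← ConjClasses.mem_carrier_iff_mk_eq.1 hgC, ConjClasses.mk_eq_mk_iff_isConj, isConj_iff]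
        exact ⟨c, by group⟩
    -- the fibre is the image of N under n ↦ n y n⁻¹
    have hF : X.filter (fun z => ConjClasses.mk z = C) = Nf.image (fun n => n * y * n⁻¹) := by
      ext z
      simp only [hX, hNf, Finset.mem_filter, Finset.mem_univ, true_and, Finset.mem_image]
      constructor
      · rintro ⟨⟨hzP, hz1⟩, hzC⟩
        rw [← hyC, ConjClasses.mk_eq_mk_iff_isConj] at hzC
        obtain ⟨d, hd⟩ := isConj_iff.1 hzC.symm
        exact ⟨d, mem_normalizer_of_conj p hp x hx y z hyP hy1 hzP hz1 d hd, hd⟩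
      · rintro ⟨n, hn, rfl⟩
        refine ⟨⟨(Subgroup.mem_normalizer_iff.1 hn y).1 hyP, ?_⟩, ?_⟩
        · intro h
          apply hy1
          have := congrArg (fun t => n⁻¹ * t * n) h
          simpa [mul_assoc] using this
        · rw [← hyC, ConjClasses.mk_eq_mk_iff_isConj, isConj_iff]
          exact ⟨n⁻¹, by group⟩
    have hcardN := Finset.card_eq_sum_card_image (fun n => n * y * n⁻¹) Nf
    have hfib2 : ∀ z ∈ Nf.image (fun n => n * y * n⁻¹),
        (Nf.filter (fun n => n * y * n⁻¹ = z)).card = p := by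
      intro z hz
      obtain ⟨n₀, hn₀, rfl⟩ := Finset.mem_image.1 hz
      have hn₀N : n₀ ∈ Subgroup.normalizer (Subgroup.zpowers x : Set G) := by
        simpa only [hNf, Finset.mem_filter, Finset.mem_univ, true_and] using hn₀
      have hE : Nf.filter (fun n => n * y * n⁻¹ = n₀ * y * n₀⁻¹) =
          Pf.image (fun u => n₀ * u) := by
        ext n
        simp only [hNf, hPf, Finset.mem_filter, Finset.mem_univ, true_and, Finset.mem_image]
        constructor
        · rintro ⟨hnN, hn⟩
          refine ⟨n₀⁻¹ * n, ?_, by group⟩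
          apply mem_of_comm p hp x hx hC y hyP hy1
          have := congrArg (fun t => n₀⁻¹ * t * n) hn
          simpa [mul_assoc] using this
        · rintro ⟨u, hu, rfl⟩
          refine ⟨(Subgroup.normalizer (Subgroup.zpowers x : Set G)).mul_mem hn₀N
            (Subgroup.le_normalizer hu), ?_⟩
          have hcu : u * y = y * u := comm_of_mem x u y hu hyP
          calc n₀ * u * y * (n₀ * u)⁻¹ = n₀ * (u * y * u⁻¹) * n₀⁻¹ := by group
            _ = n₀ * (y * u * u⁻¹) * n₀⁻¹ := by rw [hcu]
            _ = n₀ * y * n₀⁻¹ := by group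
      rw [hE, Finset.card_image_of_injective _ (mul_right_injective n₀), hPfcard]
    rw [Finset.sum_congr rfl hfib2, Finset.sum_const, smul_eq_mul, hNfcard, mul_comm] at hcardN
    rw [hF]
    exact (Nat.eq_of_mul_eq_mul_right hp.pos hcardN).symm
  rw [Finset.sum_congr rfl hfib, Finset.sum_const, smul_eq_mul, hXcard, hTcard] at hsum
  exact hsum.symm

end

theorem result {G : Type*} [Group G] [Finite G] (p : ℕ) (hp : p.Prime) (x : G) (hx : orderOf x = p) (hC : Subgroup.centralizer ({x} : Set G) = Subgroup.zpowers x) (t : ℕ) (ht : Nat.card {C : ConjClasses G // ∃ g ∈ C.carrier, orderOf g = p} = t) : (t ≠ p - 1 → (commutator G).index * t ≤ p - 1) ∧ (t = p - 1 → (commutator G).index = p) := by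
  have hcount := count p hp x hx hC
  rw [ht] at hcount
  have hp1 : 0 < p - 1 := Nat.sub_pos_of_lt hp.one_lt
  constructor
  · intro hne
    by_cases hNP : Subgroup.normalizer (Subgroup.zpowers x : Set G) ≤ Subgroup.zpowers x
    · exfalso
      rw [Subgroup.relIndex_eq_one.2 hNP, mul_one] at hcount
      exact hne hcount
    · obtain ⟨n, hn, hnP⟩ := SetLike.not_le_iff_exists.1 hNP
      have hdvd := index_dvd_of_ne p hp x hx hC n hn hnP
      have hepos : 0 < (Subgroup.zpowers x).relIndex
          (Subgroup.normalizer (Subgroup.zpowers x : Set G)) := by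
        rcases Nat.eq_zero_or_pos ((Subgroup.zpowers x).relIndex
          (Subgroup.normalizer (Subgroup.zpowers x : Set G))) with h | h
        · rw [h, mul_zero] at hcount; omega
        · exact h
      have hle := Nat.le_of_dvd hepos hdvd
      calc (commutator G).index * t ≤ (Subgroup.zpowers x).relIndex
            (Subgroup.normalizer (Subgroup.zpowers x : Set G)) * t := Nat.mul_le_mul_right t hle
        _ = p - 1 := by rw [mul_comm]; exact hcount
  · intro heq
    rw [heq] at hcount
    have he1 : (Subgroup.zpowers x).relIndex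
        (Subgroup.normalizer (Subgroup.zpowers x : Set G)) = 1 :=
      Nat.eq_of_mul_eq_mul_left hp1 (hcount.trans (mul_one _).symm)
    exact index_eq_of_le p hp x hx hC (Subgroup.relIndex_eq_one.1 he1)

end Cfsg.Agent.S4495
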