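import Mathlib
import Cfsg.Agent.S4495
import Cfsg.Agent.Lib_helper12_P1d
import Cfsg.Agent.Lib_helper12_P1e
import Cfsg.Agent.Lib_helper12_P1f
import Cfsg.Agent.Lib_helper12_CharOps

set_option autoImplicit false

/-!
An irreducible character of degree `p - 1` has no trivial constituent on a self-centralizing
subgroup of prime order `p` whose normalizer has index-`e ≥ 2` quotient (helper12).
-/

namespace Cfsg.Agent.helper12

open Cfsg
open scoped ComplexConjugate

section

variable {G : Type*} [Group G] [Fintype G] (x : G)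

theorem p1_conj_pow (n : G) (m : ℕ) (hm : x ^ m = n⁻¹ * x * n) (u : G)
    (hu : u ∈ Subgroup.zpowers x) : n⁻¹ * u * n = u ^ m := by
  obtain ⟨j, rfl⟩ := Subgroup.mem_zpowers_iff.mp hu
  have h1 : (n⁻¹ * x * n⁻¹⁻¹) ^ j = n⁻¹ * x ^ j * n⁻¹⁻¹ := conj_zpow
  rw [inv_inv] at h1
  rw [← h1, ← hm, ← zpow_natCast, ← zpow_natCast, ← zpow_mul, ← zpow_mul, mul_comm]

theorem p1_invariance [Fintype (Subgroup.zpowers x)] {χ : G → ℂ} (hcf : IsClassFunction G χ)
    (φ : Subgroup.zpowers x →* ℂˣ) (n : G)
    (hn : n ∈ Subgroup.normalizer (Subgroup.zpowers x : Set G)) (m : ℕ)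
    (hm : x ^ m = n⁻¹ * x * n) (k : ℕ) :
    classInner (fun u : Subgroup.zpowers x => χ (u : G)) (p1Pow φ (k * m))
      = classInner (fun u : Subgroup.zpowers x => χ (u : G)) (p1Pow φ k) := by
  have hconj := p1_conj_pow x n m hm
  let σ : Subgroup.zpowers x ≃ Subgroup.zpowers x :=
    { toFun := fun u => ⟨n⁻¹ * (u : G) * n, by
        rw [hconj u u.2]; exact Subgroup.pow_mem _ u.2 m⟩
      invFun := fun u => ⟨n * (u : G) * n⁻¹, (Subgroup.mem_normalizer_iff.mp hn u).mp u.2⟩
      left_inv := fun u => Subtype.ext (by simp [mul_assoc])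
      right_inv := fun u => Subtype.ext (by simp [mul_assoc]) }
  unfold classInner
  congr 1
  rw [← Equiv.sum_comp σ (fun v : Subgroup.zpowers x => χ (v : G) * conj (p1Pow φ k v))]
  apply Finset.sum_congr rfl
  intro u _
  have hσu : σ u = u ^ m := Subtype.ext (by
    show n⁻¹ * (u : G) * n = ((u ^ m : Subgroup.zpowers x) : G)
    rw [Subgroup.coe_pow]; exact hconj u u.2)
  have h1 : χ ((σ u : Subgroup.zpowers x) : G) = χ (u : G) := by
    show χ (n⁻¹ * (u : G) * n) = χ (u : G)
    have := hcf (u : G) n⁻¹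
    rwa [inv_inv] at this
  have h2 : p1Pow φ k (σ u) = p1Pow φ (k * m) u := by
    unfold p1Pow
    rw [hσu, map_pow, ← pow_mul, mul_comm]
  show χ (u : G) * conj (p1Pow φ (k * m) u) = χ ((σ u : Subgroup.zpowers x) : G) * conj (p1Pow φ k (σ u))
  rw [h1, h2]

end

section Main

variable {G : Type*} [Group G] [Fintype G] [DecidableEq G] (p : ℕ) (hp : p.Prime) (x : G)
  (hx : orderOf x = p) (hC : Subgroup.centralizer ({x} : Set G) = Subgroup.zpowers x)

include hp hx hC in
theorem p1_sum_zero [Fintype (Subgroup.zpowers x)] {χ : G → ℂ} (hχ : IsIrrCharacter G χ)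
    (hdeg : χ 1 = ((p - 1 : ℕ) : ℂ)) (e : ℕ)
    (he : Nat.card (Subgroup.normalizer (Subgroup.zpowers x : Set G)) = p * e) (he2 : 2 ≤ e) :
    ∑ u : Subgroup.zpowers x, χ (u : G) = 0 := by
  classical
  have hp0 : 0 < p := hp.pos
  have hp2 : 2 ≤ p := hp.two_le
  have hpC : (p : ℂ) ≠ 0 := by exact_mod_cast hp0.ne'
  have hcardP : Fintype.card (Subgroup.zpowers x) = p := by
    rw [← Nat.card_eq_fintype_card, Nat.card_zpowers, hx]
  have hcf : IsClassFunction G χ := helper24.char_isClassFunction (helper24.irr_isCharacter hχ)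
  obtain ⟨φ, hinj⟩ := p1_exists_phi x p hp0 hx
  have hf : IsCharacter (Subgroup.zpowers x) (fun u : Subgroup.zpowers x => χ (u : G)) :=
    isCharacter_restrict _ (helper24.irr_isCharacter hχ)
  have hpow : ∀ k : ℕ, IsCharacter (Subgroup.zpowers x) (p1Pow φ k) := by
    intro k
    have hfun : p1Pow φ k = ⇑((Units.coeHom ℂ).comp (φ ^ k)) := by
      funext u; simp [p1Pow, MonoidHom.pow_apply]
    rw [hfun]; exact isCharacter_of_monoidHom _
  choose a ha using fun k => classInner_char_nat hf (hpow k)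
  -- F1
  have hF1 : ∑ k ∈ Finset.range p, a k = p - 1 := by
    have h1 := p1_fourier_one φ hinj (fun u : Subgroup.zpowers x => χ (u : G))
    rw [hcardP] at h1
    simp only [ha] at h1
    have h2 : χ ((1 : Subgroup.zpowers x) : G) = ((p - 1 : ℕ) : ℂ) := hdeg
    rw [h2] at h1
    exact_mod_cast h1
  -- F2
  have hF2 : ((∑ k ∈ Finset.range p, (a k) ^ 2 : ℕ) : ℂ)
      = classInner (fun u : Subgroup.zpowers x => χ (u : G))
          (fun u : Subgroup.zpowers x => χ (u : G)) := by
    have h1 := p1_parseval φ hinj (fun u : Subgroup.zpowers x => χ (u : G))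
    rw [hcardP] at h1
    simp only [ha, Complex.conj_natCast] at h1
    rw [← h1]
    push_cast
    apply Finset.sum_congr rfl
    intro k _
    ring
  -- TI
  have hTI : ∀ y ∈ Subgroup.zpowers x, y ≠ 1 → ∀ g : G, g * y * g⁻¹ ∈ Subgroup.zpowers x →
      g ∈ Subgroup.normalizer (Subgroup.zpowers x : Set G) := by
    intro y hy hy1 g hg
    have hz1 : g * y * g⁻¹ ≠ 1 := by
      intro h
      apply hy1
      have := congrArg (fun t => g⁻¹ * t * g) h
      simpa [mul_assoc] using this
    exact Cfsg.Agent.S4495.mem_normalizer_of_conj p hp x hx y (g * y * g⁻¹) hy hy1 hg hz1 g rfl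
  have hχ1 : χ 1 ≠ 0 := by
    rw [hdeg]
    have : p - 1 ≠ 0 := by omega
    exact_mod_cast this
  have hRlt := p1_char_bound (Subgroup.zpowers x)
    (Subgroup.normalizer (Subgroup.zpowers x : Set G)) hTI hχ hχ1
  have hNN : (Finset.univ.filter
      (fun z : G => z ∈ Subgroup.normalizer (Subgroup.zpowers x : Set G))).card = p * e := by
    rw [← he, Nat.card_eq_fintype_card]
    exact (Fintype.card_of_subtype _ (by intro z; simp)).symm
  rw [hNN] at hRlt
  obtain ⟨R, hRdef⟩ : ∃ R : ℝ, R = ∑ u ∈ Finset.univ.filter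
      (fun u : G => u ∈ Subgroup.zpowers x ∧ u ≠ 1), Complex.normSq (χ u) := ⟨_, rfl⟩
  rw [← hRdef] at hRlt
  have hff : classInner (fun u : Subgroup.zpowers x => χ (u : G))
      (fun u : Subgroup.zpowers x => χ (u : G))
      = ((p : ℂ))⁻¹ * ((((p - 1 : ℕ) : ℝ) ^ 2 + R : ℝ) : ℂ) := by
    unfold classInner
    rw [Nat.card_eq_fintype_card, hcardP]
    congr 1
    have h1 : ∀ u : Subgroup.zpowers x, χ (u : G) * conj (χ (u : G))
        = ((Complex.normSq (χ (u : G)) : ℝ) : ℂ) := fun u => Complex.mul_conj _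
    rw [Finset.sum_congr rfl (fun u _ => h1 u), ← Complex.ofReal_sum]
    congr 1
    rw [← Finset.sum_subtype (Finset.univ.filter (fun u : G => u ∈ Subgroup.zpowers x))
      (by intro u; simp) (fun u => Complex.normSq (χ u))]
    have hsplit : Finset.univ.filter (fun u : G => u ∈ Subgroup.zpowers x)
        = insert 1 (Finset.univ.filter (fun u : G => u ∈ Subgroup.zpowers x ∧ u ≠ 1)) := by
      ext u
      simp only [Finset.mem_filter, Finset.mem_univ, true_and, Finset.mem_insert]
      constructor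
      · intro h
        by_cases h1 : u = 1
        · left; exact h1
        · right; exact ⟨h, h1⟩
      · rintro (h | h)
        · rw [h]; exact Subgroup.one_mem _
        · exact h.1
    rw [hsplit, Finset.sum_insert (by simp), ← hRdef, hdeg, Complex.normSq_natCast]
    ring
  have hkey : (p : ℝ) * ((∑ k ∈ Finset.range p, (a k) ^ 2 : ℕ) : ℝ)
      = ((p - 1 : ℕ) : ℝ) ^ 2 + R := by
    have h3 : (p : ℂ) * ((∑ k ∈ Finset.range p, (a k) ^ 2 : ℕ) : ℂ)
        = ((((p - 1 : ℕ) : ℝ) ^ 2 + R : ℝ) : ℂ) := by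
      rw [hF2, hff, ← mul_assoc, mul_inv_cancel₀ hpC, one_mul]
    exact_mod_cast h3
  have hlt : p * (∑ k ∈ Finset.range p, (a k) ^ 2) < (p - 1) ^ 2 + p * e := by
    have : (p : ℝ) * ((∑ k ∈ Finset.range p, (a k) ^ 2 : ℕ) : ℝ)
        < ((p - 1 : ℕ) : ℝ) ^ 2 + ((p * e : ℕ) : ℝ) := by
      rw [hkey]; linarith
    exact_mod_cast this
  have hlt2 : ∑ k ∈ Finset.range p, (a k) ^ 2 < e + (p - 1) := by
    have h1 : (p - 1) ^ 2 ≤ p * (p - 1) := by
      rw [sq]; exact Nat.mul_le_mul_right _ (Nat.sub_le _ _)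
    have h2 : p * (∑ k ∈ Finset.range p, (a k) ^ 2) < p * (e + (p - 1)) := by
      rw [mul_add]; omega
    exact Nat.lt_of_mul_lt_mul_left h2
  -- F3
  have hF3 : ∀ k ∈ Finset.Ico 1 p,
      e ≤ ((Finset.Ico 1 p).filter (fun k' => a k' = a k)).card := by
    intro k hk
    rw [Finset.mem_Ico] at hk
    have hex : ∀ n : G, n ∈ Subgroup.normalizer (Subgroup.zpowers x : Set G) →
        ∃ m : ℕ, x ^ m = n⁻¹ * x * n := by
      intro n hn
      have hmem : n⁻¹ * x * n ∈ Subgroup.zpowers x := by
        rw [Subgroup.mem_normalizer_iff.mp hn (n⁻¹ * x * n)]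
        have : n * (n⁻¹ * x * n) * n⁻¹ = x := by group
        rw [this]; exact Subgroup.mem_zpowers x
      obtain ⟨m, -, hm⟩ := Finset.mem_image.mp (mem_zpowers_iff_mem_range_orderOf.mp hmem)
      exact ⟨m, hm⟩
    let mf : G → ℕ := fun n =>
      if h : n ∈ Subgroup.normalizer (Subgroup.zpowers x : Set G) then
        Classical.choose (hex n h) else 0
    have hmf : ∀ n (h : n ∈ Subgroup.normalizer (Subgroup.zpowers x : Set G)),
        x ^ (mf n) = n⁻¹ * x * n := by
      intro n h
      simp only [mf, dif_pos h]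
      exact Classical.choose_spec (hex n h)
    have hper : ∀ j : ℕ, a (j % p) = a j := by
      intro j
      have h1 : p1Pow φ (j % p) = p1Pow φ j := by
        funext u
        unfold p1Pow
        have hu : (φ u) ^ p = 1 := by
          rw [← map_pow, ← hcardP, pow_card_eq_one, map_one]
        rw [pow_eq_pow_mod j hu]
      have := ha (j % p)
      rw [h1, ha j] at this
      exact_mod_cast this.symm
    have hinv : ∀ n ∈ Subgroup.normalizer (Subgroup.zpowers x : Set G),
        a (k * mf n) = a k := by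
      intro n hn
      have h1 := p1_invariance x hcf φ n hn (mf n) (hmf n hn) k
      rw [ha, ha] at h1
      exact_mod_cast h1
    have hne : ∀ n ∈ Subgroup.normalizer (Subgroup.zpowers x : Set G), ¬ p ∣ mf n := by
      intro n hn hdiv
      have h1 : x ^ (mf n) = 1 := by
        rw [← hx] at hdiv; exact orderOf_dvd_iff_pow_eq_one.mp hdiv
      rw [hmf n hn] at h1
      have h2 : x = 1 := by
        have := congrArg (fun t => n * t * n⁻¹) h1
        simpa [mul_assoc] using this
      rw [h2, orderOf_one] at hx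
      omega
    set NN := Finset.univ.filter
      (fun z : G => z ∈ Subgroup.normalizer (Subgroup.zpowers x : Set G)) with hNNdef
    let r : G → ℕ := fun n => (k * mf n) % p
    have hr_mem : ∀ n ∈ NN, r n ∈ (Finset.Ico 1 p).filter (fun k' => a k' = a k) := by
      intro n hn
      have hnN := (Finset.mem_filter.mp hn).2
      rw [Finset.mem_filter, Finset.mem_Ico]
      refine ⟨⟨?_, Nat.mod_lt _ hp0⟩, ?_⟩
      · rw [Nat.one_le_iff_ne_zero]
        intro h0
        have hdvd : p ∣ k * mf n := Nat.dvd_of_mod_eq_zero h0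
        rcases (Nat.Prime.dvd_mul hp).mp hdvd with h | h
        · exact absurd (Nat.le_of_dvd (by omega) h) (by omega)
        · exact hne n hnN h
      · show a ((k * mf n) % p) = a k
        rw [hper, hinv n hnN]
    have hPP : (Finset.univ.filter (fun u : G => u ∈ Subgroup.zpowers x)).card = p := by
      rw [← hcardP]
      exact (Fintype.card_of_subtype _ (by intro z; simp)).symm
    have hfib : ∀ t ∈ NN.image r, (NN.filter (fun n => r n = t)).card ≤ p := by
      intro t _
      rcases (NN.filter (fun n => r n = t)).eq_empty_or_nonempty with he0 | ⟨n₀, hn₀⟩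
      · rw [he0]; simp
      · rw [← hPP]
        apply Finset.card_le_card_of_injOn (fun n => n * n₀⁻¹)
        · intro n hn
          rw [Finset.mem_coe, Finset.mem_filter] at hn
          rw [Finset.mem_coe, Finset.mem_filter]
          refine ⟨Finset.mem_univ _, ?_⟩
          rw [Finset.mem_filter] at hn₀
          have hnN := (Finset.mem_filter.mp hn.1).2
          have hn₀N := (Finset.mem_filter.mp hn₀.1).2
          have hmod : (k * mf n) % p = (k * mf n₀) % p := hn.2.trans hn₀.2.symm
          have hmod' : k * mf n ≡ k * mf n₀ [MOD p] := hmod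
          have hcop : Nat.gcd p k = 1 :=
            (Nat.Prime.coprime_iff_not_dvd hp).mpr
              (fun h => absurd (Nat.le_of_dvd (by omega) h) (by omega))
          have hm : mf n ≡ mf n₀ [MOD p] := Nat.ModEq.cancel_left_of_coprime hcop hmod'
          have hpw : x ^ (mf n) = x ^ (mf n₀) := by
            rw [pow_eq_pow_iff_modEq, hx]; exact hm
          rw [hmf n hnN, hmf n₀ hn₀N] at hpw
          apply Cfsg.Agent.S4496.mem_zpowers_of_comm x hC
          have h : n * (n⁻¹ * x * n) * n₀⁻¹ = n * (n₀⁻¹ * x * n₀) * n₀⁻¹ :=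
            congrArg (fun t => n * t * n₀⁻¹) hpw
          have e1 : n * (n⁻¹ * x * n) * n₀⁻¹ = x * (n * n₀⁻¹) := by group
          have e2 : n * (n₀⁻¹ * x * n₀) * n₀⁻¹ = n * n₀⁻¹ * x := by group
          rw [e1, e2] at h
          exact h.symm
        · intro a1 _ b1 _ hab
          exact mul_right_cancel hab
    have h1 : NN.card ≤ p * (NN.image r).card := Finset.card_le_mul_card_image NN p hfib
    rw [hNN] at h1
    have h2 : e ≤ (NN.image r).card := Nat.le_of_mul_le_mul_left h1 hp0
    refine h2.trans (Finset.card_le_card ?_)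
    intro t ht
    obtain ⟨n, hn, rfl⟩ := Finset.mem_image.mp ht
    exact hr_mem n hn
  -- combine
  have hsplit1 : ∑ k ∈ Finset.range p, a k = a 0 + ∑ k ∈ Finset.Ico 1 p, a k :=
    Finset.sum_range_eq_add_Ico _ hp0
  have hsplit2 : ∑ k ∈ Finset.range p, (a k) ^ 2
      = (a 0) ^ 2 + ∑ k ∈ Finset.Ico 1 p, (a k) ^ 2 :=
    Finset.sum_range_eq_add_Ico _ hp0
  have hA : a 0 = 0 := by
    apply p1_comb_finset (Finset.Ico 1 p) a (a 0) e (p - 1) (by simp) (by omega) (by omega) hF3 he2
  -- conclude
  have h0 := ha 0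
  rw [hA] at h0
  unfold classInner at h0
  have hG : ((Nat.card (Subgroup.zpowers x) : ℂ))⁻¹ ≠ 0 := by
    rw [Nat.card_eq_fintype_card, hcardP]; exact inv_ne_zero hpC
  have h5 := (mul_eq_zero.mp (by simpa using h0)).resolve_left hG
  have h6 : ∀ u : Subgroup.zpowers x, χ (u : G) * conj (p1Pow φ 0 u) = χ (u : G) := by
    intro u; simp [p1Pow]
  rw [Finset.sum_congr rfl (fun u _ => h6 u)] at h5
  exact h5

end Main

end Cfsg.Agent.helper12
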