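import Mathlib

set_option autoImplicit false

namespace Cfsg.Agent.helper12

open Matrix

variable {F : Type*} [Field F]

/-- the projection `GL₂ → PGL₂` -/
def pgl2mk (F : Type*) [Field F] : GL (Fin 2) F →* GL (Fin 2) F ⧸ Subgroup.center (GL (Fin 2) F) :=
  QuotientGroup.mk' _

theorem pgl2mk_surjective : Function.Surjective (pgl2mk F) := QuotientGroup.mk'_surjective _

theorem pgl2mk_eq_iff (A B : GL (Fin 2) F) :
    pgl2mk F A = pgl2mk F B ↔
      ∃ c : Fˣ, (B : Matrix (Fin 2) (Fin 2) F) = (c : F) • (A : Matrix (Fin 2) (Fin 2) F) := by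
  have h1 : pgl2mk F A = pgl2mk F B ↔ A⁻¹ * B ∈ Subgroup.center (GL (Fin 2) F) := QuotientGroup.eq
  rw [h1, GeneralLinearGroup.center_eq_range_scalar, MonoidHom.mem_range]
  constructor
  · rintro ⟨c, hc⟩
    refine ⟨c, ?_⟩
    have h2 : B = A * GeneralLinearGroup.scalar (Fin 2) c := by rw [hc]; group
    rw [h2, GeneralLinearGroup.coe_mul, GeneralLinearGroup.coe_scalar]
    ext i j
    simp [Matrix.mul_apply, Matrix.scalar_apply, Matrix.diagonal_apply, Fin.sum_univ_two]
    fin_cases j <;> simp [mul_comm]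
  · rintro ⟨c, hc⟩
    refine ⟨c, ?_⟩
    have h2 : B = A * GeneralLinearGroup.scalar (Fin 2) c := by
      apply Units.ext
      rw [hc, GeneralLinearGroup.coe_mul, GeneralLinearGroup.coe_scalar]
      ext i j
      simp [Matrix.mul_apply, Matrix.scalar_apply, Matrix.diagonal_apply, Fin.sum_univ_two]
      fin_cases j <;> simp [mul_comm]
    rw [h2]; group

theorem pgl2mk_eq_one_iff (A : GL (Fin 2) F) :
    pgl2mk F A = 1 ↔ ∃ c : Fˣ, (A : Matrix (Fin 2) (Fin 2) F) = (c : F) • (1 : Matrix (Fin 2) (Fin 2) F) := by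
  have h1 : pgl2mk F A = 1 ↔ pgl2mk F 1 = pgl2mk F A := by
    rw [map_one]
    exact eq_comm
  rw [h1, pgl2mk_eq_iff]
  simp

/-- the standard element of order four -/
def gl2J (F : Type*) [Field F] : GL (Fin 2) F :=
  GeneralLinearGroup.mkOfDetNeZero !![0, 1; -1, 0] (by simp [Matrix.det_fin_two])

theorem gl2J_coe : ((gl2J F : GL (Fin 2) F) : Matrix (Fin 2) (Fin 2) F) = !![0, 1; -1, 0] := rfl

/-- commuting in `PGL₂` with the class of a matrix means commuting or anticommuting -/
theorem pgl2mk_commute_cases (A B : GL (Fin 2) F)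
    (h : pgl2mk F B * pgl2mk F A = pgl2mk F A * pgl2mk F B) :
    (B : Matrix (Fin 2) (Fin 2) F) * (A : Matrix (Fin 2) (Fin 2) F) = (A : Matrix (Fin 2) (Fin 2) F) * (B : Matrix (Fin 2) (Fin 2) F) ∨
    (B : Matrix (Fin 2) (Fin 2) F) * (A : Matrix (Fin 2) (Fin 2) F) = -((A : Matrix (Fin 2) (Fin 2) F) * (B : Matrix (Fin 2) (Fin 2) F)) := by
  rw [← map_mul, ← map_mul, pgl2mk_eq_iff] at h
  obtain ⟨c, hc⟩ := h
  rw [GeneralLinearGroup.coe_mul, GeneralLinearGroup.coe_mul] at hc
  have hdet := congrArg Matrix.det hc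
  rw [Matrix.det_smul, Matrix.det_mul, Matrix.det_mul, Fintype.card_fin] at hdet
  have hA : (A : Matrix (Fin 2) (Fin 2) F).det ≠ 0 := by
    have := A.det_ne_zero  -- may need adjusting
    exact this
  have hB : (B : Matrix (Fin 2) (Fin 2) F).det ≠ 0 := B.det_ne_zero
  have hc2 : ((c : F) - 1) * ((c : F) + 1) = 0 := by
    have h1 : ((c : F) ^ 2 - 1) * ((B : Matrix (Fin 2) (Fin 2) F).det * (A : Matrix (Fin 2) (Fin 2) F).det) = 0 := by
      linear_combination -hdet
    rcases mul_eq_zero.mp h1 with h2 | h2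
    · linear_combination h2
    · exact absurd h2 (mul_ne_zero hB hA)
  rcases mul_eq_zero.mp hc2 with h1 | h1
  · left
    have : (c : F) = 1 := by linear_combination h1
    rw [this, one_smul] at hc
    exact hc.symm
  · right
    have : (c : F) = -1 := by linear_combination h1
    rw [this, neg_smul, one_smul] at hc
    rw [hc, neg_neg]

theorem pgl2mk_commute_of_comm (A B : GL (Fin 2) F)
    (h : (B : Matrix (Fin 2) (Fin 2) F) * (A : Matrix (Fin 2) (Fin 2) F) = (A : Matrix (Fin 2) (Fin 2) F) * (B : Matrix (Fin 2) (Fin 2) F)) :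
    pgl2mk F B * pgl2mk F A = pgl2mk F A * pgl2mk F B := by
  rw [← map_mul, ← map_mul]
  congr 1
  apply Units.ext
  rw [GeneralLinearGroup.coe_mul, GeneralLinearGroup.coe_mul, h]

theorem pgl2mk_commute_of_anticomm (A B : GL (Fin 2) F)
    (h : (B : Matrix (Fin 2) (Fin 2) F) * (A : Matrix (Fin 2) (Fin 2) F) = -((A : Matrix (Fin 2) (Fin 2) F) * (B : Matrix (Fin 2) (Fin 2) F))) :
    pgl2mk F B * pgl2mk F A = pgl2mk F A * pgl2mk F B := by
  rw [← map_mul, ← map_mul, pgl2mk_eq_iff]
  refine ⟨-1, ?_⟩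
  rw [GeneralLinearGroup.coe_mul, GeneralLinearGroup.coe_mul, h]
  simp

theorem sq_add_sq_eq_zero' (hns : ¬ IsSquare (-1 : F)) {x y : F} (h : x ^ 2 + y ^ 2 = 0) :
    x = 0 ∧ y = 0 := by
  by_cases hy : y = 0
  · subst hy
    have : x ^ 2 = 0 := by linear_combination h
    exact ⟨pow_eq_zero_iff (two_ne_zero) |>.mp this, rfl⟩
  · exfalso
    apply hns
    refine ⟨x / y, ?_⟩
    field_simp
    linear_combination -h

theorem two_ne_zero_of_neg_one_not_sq (hns : ¬ IsSquare (-1 : F)) : (2 : F) ≠ 0 := by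
  intro h
  apply hns
  refine ⟨1, ?_⟩
  linear_combination -h

theorem pgl2mk_gl2J_ne_one (h2 : (2 : F) ≠ 0) : pgl2mk F (gl2J F) ≠ 1 := by
  intro h
  obtain ⟨c, hc⟩ := (pgl2mk_eq_one_iff _).mp h
  have := congrFun (congrFun hc 0) 1
  rw [gl2J_coe] at this
  simp at this

/-- the core computation: two "nonsplit" involutions of `PGL₂` have a common nontrivial
commuting element -/
theorem pgl2_core (hns : ¬ IsSquare (-1 : F)) (A₂ : GL (Fin 2) F)
    (htr : (A₂ : Matrix (Fin 2) (Fin 2) F).trace = 0) (hdet : (A₂ : Matrix (Fin 2) (Fin 2) F).det = 1) :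
    ∃ b : GL (Fin 2) F ⧸ Subgroup.center (GL (Fin 2) F), b ≠ 1 ∧
      b * pgl2mk F (gl2J F) = pgl2mk F (gl2J F) * b ∧ b * pgl2mk F A₂ = pgl2mk F A₂ * b := by
  have h2 : (2 : F) ≠ 0 := two_ne_zero_of_neg_one_not_sq hns
  obtain ⟨a, ha⟩ : ∃ a, a = (A₂ : Matrix (Fin 2) (Fin 2) F) 0 0 := ⟨_, rfl⟩
  obtain ⟨b, hb⟩ : ∃ b, b = (A₂ : Matrix (Fin 2) (Fin 2) F) 0 1 := ⟨_, rfl⟩
  obtain ⟨c, hc⟩ : ∃ c, c = (A₂ : Matrix (Fin 2) (Fin 2) F) 1 0 := ⟨_, rfl⟩
  have hd : (A₂ : Matrix (Fin 2) (Fin 2) F) 1 1 = -a := by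
    rw [Matrix.trace_fin_two] at htr
    rw [ha]
    linear_combination htr
  have hA : (A₂ : Matrix (Fin 2) (Fin 2) F) = !![a, b; c, -a] := by
    rw [Matrix.eta_fin_two (A₂ : Matrix (Fin 2) (Fin 2) F), ← ha, ← hb, ← hc, hd]
  have hrel : a ^ 2 + b * c = -1 := by
    rw [hA, Matrix.det_fin_two_of] at hdet
    linear_combination -hdet
  by_cases hτ : (c - b) ^ 2 = 4
  · have heq : pgl2mk F (gl2J F) = pgl2mk F A₂ := by
      rw [pgl2mk_eq_iff]
      have hfac : (c - b - 2) * (c - b + 2) = 0 := by linear_combination hτ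
      rcases mul_eq_zero.mp hfac with h | h
      · have hc' : c = b + 2 := by linear_combination h
        have hsum : a ^ 2 + (b + 1) ^ 2 = 0 := by
          rw [hc'] at hrel
          linear_combination hrel
        obtain ⟨ha0, hb0⟩ := sq_add_sq_eq_zero' hns hsum
        have hb' : b = -1 := by linear_combination hb0
        refine ⟨-1, ?_⟩
        rw [hA, gl2J_coe, hc', ha0, hb']
        ext i j
        fin_cases i <;> fin_cases j <;> simp
        norm_num
      · have hc' : c = b - 2 := by linear_combination h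
        have hsum : a ^ 2 + (b - 1) ^ 2 = 0 := by
          rw [hc'] at hrel
          linear_combination hrel
        obtain ⟨ha0, hb0⟩ := sq_add_sq_eq_zero' hns hsum
        have hb' : b = 1 := by linear_combination hb0
        refine ⟨1, ?_⟩
        rw [hA, gl2J_coe, hc', ha0, hb']
        ext i j
        fin_cases i <;> fin_cases j <;> simp
        norm_num
    refine ⟨pgl2mk F (gl2J F), pgl2mk_gl2J_ne_one h2, rfl, ?_⟩
    rw [← heq]
  · have hdetB : (!![c + b, -(2 * a); -(2 * a), -(b + c)] : Matrix (Fin 2) (Fin 2) F).det ≠ 0 := by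
      rw [Matrix.det_fin_two_of]
      intro h
      apply hτ
      linear_combination -h - 4 * hrel
    refine ⟨pgl2mk F (GeneralLinearGroup.mkOfDetNeZero _ hdetB), ?_, ?_, ?_⟩
    · intro h
      obtain ⟨e, he⟩ := (pgl2mk_eq_one_iff _).mp h
      have h01 := congrFun (congrFun he 0) 1
      have h00 := congrFun (congrFun he 0) 0
      have h11 := congrFun (congrFun he 1) 1
      simp [GeneralLinearGroup.mkOfDetNeZero] at h01 h00 h11
      have he0 : (e : F) = 0 := by
        have : (2 : F) * (e : F) = 0 := by linear_combination -h00 - h11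
        rcases mul_eq_zero.mp this with h | h
        · exact absurd h h2
        · exact h
      exact e.ne_zero he0
    · apply pgl2mk_commute_of_anticomm
      rw [gl2J_coe]
      simp only [GeneralLinearGroup.mkOfDetNeZero]
      ext i j
      fin_cases i <;> fin_cases j <;> simp [Matrix.mul_apply, Fin.sum_univ_two] <;> ring
    · apply pgl2mk_commute_of_anticomm
      rw [hA]
      simp only [GeneralLinearGroup.mkOfDetNeZero]
      ext i j
      fin_cases i <;> fin_cases j <;> simp [Matrix.mul_apply, Fin.sum_univ_two] <;> ring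

end Cfsg.Agent.helper12
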