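import Mathlib

set_option autoImplicit false

namespace Cfsg.Agent.helper12

variable {G : Type*} [Group G]

theorem sylow_mem_smul_iff {p : ℕ} (g x : G) (P : Sylow p G) :
    x ∈ g • P ↔ g⁻¹ * x * g ∈ P := by
  have h1 : x ∈ g • P ↔ x ∈ ((g • P : Sylow p G) : Subgroup G) := Iff.rfl
  rw [h1, Sylow.coe_subgroup_smul, Subgroup.mem_pointwise_smul_iff_inv_smul_mem, MulAut.smul_def,
    MulAut.conj_inv_apply]
  exact Iff.rfl

theorem sylow_conj_mem_smul {p : ℕ} (g x : G) (P : Sylow p G) (hx : x ∈ P) :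
    g * x * g⁻¹ ∈ g • P := by
  rw [sylow_mem_smul_iff]
  have : g⁻¹ * (g * x * g⁻¹) * g = x := by group
  rw [this]
  exact hx

/-- `Q` is a redundant Sylow `p`-subgroup: every `p`-element lies in another Sylow `p`-subgroup -/
def IsRedundantSylow (p : ℕ) (Q : Sylow p G) : Prop :=
  ∀ x : G, (∃ k : ℕ, orderOf x = p ^ k) → ∃ P : Sylow p G, P ≠ Q ∧ x ∈ P

theorem orderOf_conj' (g x : G) : orderOf (g * x * g⁻¹) = orderOf x := by
  have h1 : g * x * g⁻¹ = MulAut.conj g x := rfl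
  rw [h1, MulEquiv.orderOf_eq]

theorem isPGroup_zpowers_of_orderOf {p : ℕ} [Fact p.Prime] (x : G) (k : ℕ) (hx : orderOf x = p ^ k) :
    IsPGroup p (Subgroup.zpowers x) := by
  apply IsPGroup.of_card (n := k)
  rw [Nat.card_zpowers, hx]

/-- an element lying in a unique Sylow `p`-subgroup obstructs redundancy -/
theorem not_exists_redundant_of_unique [Finite G] {p : ℕ} [Fact p.Prime] (x : G)
    (hx : ∃ k : ℕ, orderOf x = p ^ k)
    (huniq : ∀ P P' : Sylow p G, x ∈ P → x ∈ P' → P = P') :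
    ¬ ∃ Q : Sylow p G, IsRedundantSylow p Q := by
  rintro ⟨Q, hQ⟩
  obtain ⟨k, hk⟩ := hx
  obtain ⟨Q₀, hQ₀⟩ := (isPGroup_zpowers_of_orderOf x k hk).exists_le_sylow
  have hxQ₀ : x ∈ Q₀ := hQ₀ (Subgroup.mem_zpowers x)
  obtain ⟨g, hg⟩ := MulAction.exists_smul_eq G Q₀ Q
  obtain ⟨P, hPQ, hyP⟩ := hQ (g * x * g⁻¹) ⟨k, by rw [orderOf_conj', hk]⟩
  apply hPQ
  have h1 : x ∈ g⁻¹ • P := by
    rw [sylow_mem_smul_iff, inv_inv]
    exact hyP
  have h2 := huniq _ _ h1 hxQ₀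
  rw [← hg, ← h2, smul_inv_smul]

/-- if every `p`-element lies in two distinct Sylow `p`-subgroups, every Sylow `p`-subgroup is
redundant. -/
theorem isRedundantSylow_of_two {p : ℕ} (Q : Sylow p G)
    (h : ∀ x : G, (∃ k : ℕ, orderOf x = p ^ k) →
      ∃ P₁ P₂ : Sylow p G, P₁ ≠ P₂ ∧ x ∈ P₁ ∧ x ∈ P₂) : IsRedundantSylow p Q := by
  intro x hx
  obtain ⟨P₁, P₂, hne, h1, h2⟩ := h x hx
  by_cases hP : P₁ = Q
  · refine ⟨P₂, ?_, h2⟩
    rw [← hP]
    exact hne.symm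
  · exact ⟨P₁, hP, h1⟩

/-- an element generating a subgroup of Sylow order lies in a unique Sylow subgroup -/
theorem sylow_unique_of_orderOf [Finite G] {p : ℕ} [Fact p.Prime] (x : G)
    (hx : orderOf x = p ^ (Nat.card G).factorization p) (P P' : Sylow p G) (h : x ∈ P) (h' : x ∈ P') :
    P = P' := by
  have key : ∀ R : Sylow p G, x ∈ R → (R : Subgroup G) = Subgroup.zpowers x := by
    intro R hR
    symm
    apply Subgroup.eq_of_le_of_card_ge
    · rw [Subgroup.zpowers_le]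
      exact hR
    · rw [Nat.card_zpowers, hx, Sylow.card_eq_multiplicity]
  apply Sylow.ext
  rw [key P h, key P' h']

/-- when `p` does not divide the order there is a unique Sylow `p`-subgroup -/
theorem sylow_unique_of_not_dvd [Finite G] {p : ℕ} [Fact p.Prime] (hp : ¬ p ∣ Nat.card G)
    (P P' : Sylow p G) : P = P' := by
  have key : ∀ R : Sylow p G, (R : Subgroup G) = ⊥ := by
    intro R
    apply Subgroup.eq_bot_of_card_eq
    rw [Sylow.card_eq_multiplicity, Nat.factorization_eq_zero_of_not_dvd hp, pow_zero]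
  apply Sylow.ext
  rw [key P, key P']

/-- if `⟨x⟩` has index two in every Sylow 2-subgroup containing it and its normalizer has Sylow
order, `x` lies in a unique Sylow 2-subgroup. -/
theorem sylow_two_unique_of_index_two [Finite G] (x : G)
    (hx : 2 * orderOf x = 2 ^ (Nat.card G).factorization 2)
    (hN : Nat.card (Subgroup.normalizer ((Subgroup.zpowers x : Subgroup G) : Set G)) =
      2 ^ (Nat.card G).factorization 2)
    (P P' : Sylow 2 G) (h : x ∈ P) (h' : x ∈ P') : P = P' := by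
  haveI : Fact (Nat.Prime 2) := ⟨Nat.prime_two⟩
  have key : ∀ R : Sylow 2 G, x ∈ R →
      (R : Subgroup G) = Subgroup.normalizer ((Subgroup.zpowers x : Subgroup G) : Set G) := by
    intro R hR
    have hle : Subgroup.zpowers x ≤ (R : Subgroup G) := by
      rw [Subgroup.zpowers_le]
      exact hR
    have hidx : ((Subgroup.zpowers x).subgroupOf (R : Subgroup G)).index = 2 := by
      have h1 := Subgroup.relIndex_mul_relIndex ⊥ (Subgroup.zpowers x) (R : Subgroup G) bot_le hle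
      rw [Subgroup.relIndex_bot_left, Subgroup.relIndex_bot_left, Nat.card_zpowers,
        Sylow.card_eq_multiplicity, ← hx, mul_comm] at h1
      have hpos : 0 < orderOf x := orderOf_pos x
      have : (Subgroup.zpowers x).relIndex (R : Subgroup G) = 2 :=
        Nat.eq_of_mul_eq_mul_right hpos h1
      exact this
    have hnorm : ((Subgroup.zpowers x).subgroupOf (R : Subgroup G)).Normal :=
      Subgroup.normal_of_index_eq_two hidx
    have hRN := (Subgroup.normal_subgroupOf_iff_le_normalizer hle).mp hnorm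
    apply Subgroup.eq_of_le_of_card_ge hRN
    rw [hN, Sylow.card_eq_multiplicity]
  apply Sylow.ext
  rw [key P h, key P' h']

/-- two distinct Sylow 2-subgroups through a 2-element of a "torus" `T` with an inverting
normalizer `N`. -/
theorem exists_two_sylow_of_inverting [Finite G] (T N : Subgroup G) (x : G) (hxT : x ∈ T)
    (hxc : ∀ y ∈ T, y * x = x * y) (hx2 : ∃ k : ℕ, orderOf x = 2 ^ k) (hTN : T ≤ N)
    (hNcard : (Nat.card N).factorization 2 = (Nat.card G).factorization 2)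
    (hinv : ∀ s ∈ N, s ∉ T → ∀ y ∈ T, s * y * s⁻¹ = y⁻¹)
    (hT2 : (Nat.card T).factorization 2 < (Nat.card G).factorization 2)
    (hodd : ∃ r : ℕ, r.Prime ∧ r ≠ 2 ∧ r ∣ Nat.card T) :
    ∃ P₁ P₂ : Sylow 2 G, P₁ ≠ P₂ ∧ x ∈ P₁ ∧ x ∈ P₂ := by
  haveI : Fact (Nat.Prime 2) := ⟨Nat.prime_two⟩
  obtain ⟨r, hr, hr2, hrT⟩ := hodd
  haveI : Fact r.Prime := ⟨hr⟩
  obtain ⟨y, hy⟩ := exists_prime_orderOf_dvd_card' r hrT
  have hxN : x ∈ N := hTN hxT
  obtain ⟨k, hk⟩ := hx2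
  have hpg : IsPGroup 2 (Subgroup.zpowers (⟨x, hxN⟩ : N)) :=
    isPGroup_zpowers_of_orderOf _ k (by rw [Subgroup.orderOf_mk]; exact hk)
  obtain ⟨S, hS⟩ := hpg.exists_le_sylow
  obtain ⟨S₁, hS₁⟩ : ∃ S₁ : Subgroup G, S₁ = (S : Subgroup N).map N.subtype := ⟨_, rfl⟩
  have hS₁card : Nat.card S₁ = 2 ^ (Nat.card G).factorization 2 := by
    rw [hS₁, Subgroup.card_map_of_injective N.subtype_injective, Sylow.card_eq_multiplicity, hNcard]
  have hS₁N : S₁ ≤ N := by
    rw [hS₁]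
    exact Subgroup.map_subtype_le _
  have hxS₁ : x ∈ S₁ := by
    rw [hS₁]
    exact ⟨⟨x, hxN⟩, hS (Subgroup.mem_zpowers _), rfl⟩
  obtain ⟨P₁, hP₁⟩ : ∃ P₁ : Sylow 2 G, (P₁ : Subgroup G) = S₁ :=
    ⟨Sylow.ofCard S₁ hS₁card, Sylow.coe_ofCard S₁ hS₁card⟩
  have hmem : ∀ g : G, g ∈ P₁ ↔ g ∈ S₁ := by
    intro g
    rw [← hP₁]
    exact Iff.rfl
  obtain ⟨s, hsS, hsT⟩ : ∃ s ∈ S₁, s ∉ T := by
    by_contra hcon
    push Not at hcon
    have hle : S₁ ≤ T := hcon
    have hdvd := Subgroup.card_dvd_of_le hle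
    rw [hS₁card] at hdvd
    have hTpos : Nat.card T ≠ 0 := Nat.card_pos.ne'
    have := (Nat.Prime.pow_dvd_iff_le_factorization Nat.prime_two hTpos).mp hdvd
    omega
  have hyT : (y : G) ∈ T := y.2
  have hyo : orderOf (y : G) = r := by
    rw [Subgroup.orderOf_coe, hy]
  have hsy : s * (y : G) * s⁻¹ = (y : G)⁻¹ := hinv s (hS₁N hsS) hsT _ hyT
  refine ⟨P₁, (y : G) • P₁, ?_, (hmem x).mpr hxS₁, ?_⟩
  · intro heq
    have h1 : (y : G) * s⁻¹ * (y : G)⁻¹ ∈ (y : G) • P₁ :=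
      sylow_conj_mem_smul _ _ _ ((hmem _).mpr (Subgroup.inv_mem _ hsS))
    rw [← heq] at h1
    have h2 : s * ((y : G) * s⁻¹ * (y : G)⁻¹) ∈ P₁ := mul_mem ((hmem s).mpr hsS) h1
    have h3 : s * ((y : G) * s⁻¹ * (y : G)⁻¹) = ((y : G)⁻¹) ^ 2 := by
      calc s * ((y : G) * s⁻¹ * (y : G)⁻¹) = (s * (y : G) * s⁻¹) * (y : G)⁻¹ := by group
        _ = ((y : G)⁻¹) ^ 2 := by rw [hsy, pow_two]
    rw [h3] at h2
    obtain ⟨j, hj⟩ := P₁.isPGroup' ⟨_, h2⟩
    have hj' : (((y : G)⁻¹) ^ 2) ^ (2 ^ j) = 1 := by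
      have := congrArg Subtype.val hj
      simpa using this
    rw [← pow_mul, inv_pow, inv_eq_one, ← pow_succ'] at hj'
    have hdvd := orderOf_dvd_of_pow_eq_one hj'
    rw [hyo] at hdvd
    have := (Nat.prime_dvd_prime_iff_eq hr Nat.prime_two).mp (hr.dvd_of_dvd_pow hdvd)
    exact hr2 this
  · rw [sylow_mem_smul_iff]
    have : (y : G)⁻¹ * x * (y : G) = x := by
      rw [mul_assoc, ← hxc _ hyT, ← mul_assoc, inv_mul_cancel, one_mul]
    rw [this]
    exact (hmem x).mpr hxS₁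

end Cfsg.Agent.helper12
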