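import Cfsg.Agent.Lib_helper12_Pgl1
import Cfsg.Agent.Lib_helper2_Classical
import Cfsg.Agent.Lib_helper12_SylTwoF
import Cfsg.Agent.Lib_helper12_Redundant1

set_option autoImplicit false

namespace Cfsg.Agent.helper12

open Matrix

/-- cardinality of the preimage of a subgroup of a quotient -/
theorem card_comap_mk' {G : Type*} [Group G] [Finite G] (N : Subgroup G) [N.Normal] (H : Subgroup (G ⧸ N)) :
    Nat.card (H.comap (QuotientGroup.mk' N)) = Nat.card H * Nat.card N := by
  have h1 := Subgroup.index_comap_of_surjective H (QuotientGroup.mk'_surjective N)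
  have h2 := Subgroup.card_mul_index (H.comap (QuotientGroup.mk' N))
  have h3 := Subgroup.card_mul_index H
  have h4 : Nat.card G = Nat.card (G ⧸ N) * Nat.card N := Subgroup.card_eq_card_quotient_mul_card_subgroup N
  rw [h1] at h2
  have hidx : 0 < H.index := Nat.pos_of_ne_zero Subgroup.index_ne_zero_of_finite
  apply Nat.eq_of_mul_eq_mul_right hidx
  rw [h2, h4, ← h3]
  ring

variable {F : Type*} [Field F]

/-- the centralizer in `PGL₂` of the class of `J` -/
def pgl2S0 (F : Type*) [Field F] : Subgroup (GL (Fin 2) F ⧸ Subgroup.center (GL (Fin 2) F)) :=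
  Subgroup.centralizer {pgl2mk F (gl2J F)}

theorem mem_pgl2S0 (g : GL (Fin 2) F ⧸ Subgroup.center (GL (Fin 2) F)) :
    g ∈ pgl2S0 F ↔ g * pgl2mk F (gl2J F) = pgl2mk F (gl2J F) * g := by
  rw [pgl2S0, Subgroup.mem_centralizer_iff]
  constructor
  · intro h
    exact (h _ (Set.mem_singleton _)).symm
  · intro h y hy
    rw [Set.mem_singleton_iff.mp hy]
    exact h.symm

/-- the parametrization of the preimage of `S₀` -/
noncomputable def pgl2Param (hns : ¬ IsSquare (-1 : F)) : Bool × {v : F × F // v ≠ 0} → GL (Fin 2) F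
  | (true, v) => GeneralLinearGroup.mkOfDetNeZero !![v.1.1, v.1.2; -v.1.2, v.1.1] (by
      rw [Matrix.det_fin_two_of]
      intro h
      apply v.2
      have := sq_add_sq_eq_zero' hns (x := v.1.1) (y := v.1.2) (by linear_combination h)
      exact Prod.ext this.1 this.2)
  | (false, v) => GeneralLinearGroup.mkOfDetNeZero !![v.1.1, v.1.2; v.1.2, -v.1.1] (by
      rw [Matrix.det_fin_two_of]
      intro h
      apply v.2
      have := sq_add_sq_eq_zero' hns (x := v.1.1) (y := v.1.2) (by linear_combination -h)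
      exact Prod.ext this.1 this.2)

theorem pgl2Param_true_coe (hns : ¬ IsSquare (-1 : F)) (v : {v : F × F // v ≠ 0}) :
    ((pgl2Param hns (true, v) : GL (Fin 2) F) : Matrix (Fin 2) (Fin 2) F) = !![v.1.1, v.1.2; -v.1.2, v.1.1] := rfl

theorem pgl2Param_false_coe (hns : ¬ IsSquare (-1 : F)) (v : {v : F × F // v ≠ 0}) :
    ((pgl2Param hns (false, v) : GL (Fin 2) F) : Matrix (Fin 2) (Fin 2) F) = !![v.1.1, v.1.2; v.1.2, -v.1.1] := rfl

theorem pgl2Param_injective (hns : ¬ IsSquare (-1 : F)) : Function.Injective (pgl2Param hns) := by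
  have h2 : (2 : F) ≠ 0 := two_ne_zero_of_neg_one_not_sq hns
  rintro ⟨s, v⟩ ⟨s', v'⟩ h
  have hm : ((pgl2Param hns (s, v) : GL (Fin 2) F) : Matrix (Fin 2) (Fin 2) F) =
      ((pgl2Param hns (s', v') : GL (Fin 2) F) : Matrix (Fin 2) (Fin 2) F) := congrArg Units.val h
  have key : ∀ (w w' : {v : F × F // v ≠ 0}),
      (!![w.1.1, w.1.2; -w.1.2, w.1.1] : Matrix (Fin 2) (Fin 2) F) = !![w'.1.1, w'.1.2; w'.1.2, -w'.1.1] → False := by
    intro w w' hw
    have e00 := congrFun (congrFun hw 0) 0
    have e01 := congrFun (congrFun hw 0) 1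
    have e10 := congrFun (congrFun hw 1) 0
    have e11 := congrFun (congrFun hw 1) 1
    simp at e00 e01 e10 e11
    apply w.2
    have ha : (2 : F) * w.1.1 = 0 := by linear_combination e11 + e00
    have hb : (2 : F) * w.1.2 = 0 := by linear_combination e01 - e10
    rcases mul_eq_zero.mp ha with h | h
    · exact absurd h h2
    rcases mul_eq_zero.mp hb with h' | h'
    · exact absurd h' h2
    exact Prod.ext h h'
  cases s <;> cases s'
  · rw [pgl2Param_false_coe, pgl2Param_false_coe] at hm
    have e00 := congrFun (congrFun hm 0) 0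
    have e01 := congrFun (congrFun hm 0) 1
    simp at e00 e01
    have : v = v' := Subtype.ext (Prod.ext e00 e01)
    rw [this]
  · rw [pgl2Param_false_coe, pgl2Param_true_coe] at hm
    exact (key v' v hm.symm).elim
  · rw [pgl2Param_true_coe, pgl2Param_false_coe] at hm
    exact (key v v' hm).elim
  · rw [pgl2Param_true_coe, pgl2Param_true_coe] at hm
    have e00 := congrFun (congrFun hm 0) 0
    have e01 := congrFun (congrFun hm 0) 1
    simp at e00 e01
    have : v = v' := Subtype.ext (Prod.ext e00 e01)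
    rw [this]

theorem pgl2Param_range (hns : ¬ IsSquare (-1 : F)) :
    Set.range (pgl2Param hns) = ((pgl2S0 F).comap (pgl2mk F) : Set (GL (Fin 2) F)) := by
  ext B
  simp only [Set.mem_range, SetLike.mem_coe, Subgroup.mem_comap, mem_pgl2S0]
  constructor
  · rintro ⟨⟨s, v⟩, rfl⟩
    cases s
    · apply pgl2mk_commute_of_anticomm
      rw [pgl2Param_false_coe, gl2J_coe]
      ext i j
      fin_cases i <;> fin_cases j <;> simp [Matrix.mul_apply, Fin.sum_univ_two]
    · apply pgl2mk_commute_of_comm
      rw [pgl2Param_true_coe, gl2J_coe]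
      ext i j
      fin_cases i <;> fin_cases j <;> simp [Matrix.mul_apply, Fin.sum_univ_two]
  · intro h
    have hne : ((B : Matrix (Fin 2) (Fin 2) F) 0 0, (B : Matrix (Fin 2) (Fin 2) F) 0 1) ≠ (0 : F × F) ∨
        ((B : Matrix (Fin 2) (Fin 2) F) 0 0, (B : Matrix (Fin 2) (Fin 2) F) 0 1) = (0 : F × F) := by
      by_cases hh : ((B : Matrix (Fin 2) (Fin 2) F) 0 0, (B : Matrix (Fin 2) (Fin 2) F) 0 1) = (0 : F × F)
      · right; exact hh
      · left; exact hh
    have hdet : (B : Matrix (Fin 2) (Fin 2) F).det ≠ 0 := B.det_ne_zero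
    rw [Matrix.det_fin_two] at hdet
    rcases pgl2mk_commute_cases (gl2J F) B h with hc | hc
    · rw [gl2J_coe] at hc
      have e00 := congrFun (congrFun hc 0) 0
      have e01 := congrFun (congrFun hc 0) 1
      simp [Matrix.mul_apply, Fin.sum_univ_two] at e00 e01
      have hv : ((B : Matrix (Fin 2) (Fin 2) F) 0 0, (B : Matrix (Fin 2) (Fin 2) F) 0 1) ≠ (0 : F × F) := by
        intro h0
        have h1 := congrArg Prod.fst h0
        have h2 := congrArg Prod.snd h0
        simp only [Prod.fst_zero, Prod.snd_zero] at h1 h2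
        apply hdet
        rw [h1, h2]
        ring
      refine ⟨(true, ⟨_, hv⟩), ?_⟩
      apply Units.ext
      rw [pgl2Param_true_coe]
      ext i j
      fin_cases i <;> fin_cases j <;> simp
      · linear_combination e00
      · linear_combination e01
    · rw [gl2J_coe] at hc
      have e00 := congrFun (congrFun hc 0) 0
      have e01 := congrFun (congrFun hc 0) 1
      rw [Matrix.neg_apply, Matrix.mul_apply, Matrix.mul_apply, Fin.sum_univ_two, Fin.sum_univ_two] at e00 e01
      simp at e00 e01
      have hv : ((B : Matrix (Fin 2) (Fin 2) F) 0 0, (B : Matrix (Fin 2) (Fin 2) F) 0 1) ≠ (0 : F × F) := by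
        intro h0
        have h1 := congrArg Prod.fst h0
        have h2 := congrArg Prod.snd h0
        simp only [Prod.fst_zero, Prod.snd_zero] at h1 h2
        apply hdet
        rw [h1, h2]
        ring
      refine ⟨(false, ⟨_, hv⟩), ?_⟩
      apply Units.ext
      rw [pgl2Param_false_coe]
      ext i j
      fin_cases i <;> fin_cases j <;> simp
      · linear_combination e00
      · linear_combination -e01

end Cfsg.Agent.helper12
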