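import Cfsg.Agent.Lib_helper12_Pgl2

set_option autoImplicit false

namespace Cfsg.Agent.helper12

open Matrix
open scoped Pointwise

variable {F : Type*} [Field F]

theorem card_pgl2 [Fintype F] :
    Nat.card (GL (Fin 2) F ⧸ Subgroup.center (GL (Fin 2) F)) = Fintype.card F * (Fintype.card F ^ 2 - 1) := by
  have h1 : Nat.card (GL (Fin 2) F ⧸ Subgroup.center (GL (Fin 2) F)) =
      Nat.card (ProjGenLinGroup (Fin 2) F) := rfl
  rw [h1, Cfsg.Agent.helper2.card_PGL_eq_card_SL, card_SL2]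

theorem card_pgl2S0 [Fintype F] (hns : ¬ IsSquare (-1 : F)) :
    Nat.card (pgl2S0 F) = 2 * (Fintype.card F + 1) := by
  classical
  have hK := card_comap_mk' (Subgroup.center (GL (Fin 2) F)) (pgl2S0 F)
  have hK' : Nat.card ((pgl2S0 F).comap (pgl2mk F)) = Nat.card (pgl2S0 F) * Nat.card (Subgroup.center (GL (Fin 2) F)) := hK
  have h1 : Nat.card ((pgl2S0 F).comap (pgl2mk F)) = Nat.card (((pgl2S0 F).comap (pgl2mk F) : Subgroup (GL (Fin 2) F)) : Set (GL (Fin 2) F)) := rfl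
  rw [h1, ← pgl2Param_range hns, Nat.card_range_of_injective (pgl2Param_injective hns), Nat.card_prod,
    Nat.card_eq_fintype_card, Fintype.card_bool, Nat.card_eq_fintype_card, Fintype.card_subtype_compl,
    Fintype.card_subtype_eq, Fintype.card_prod, Cfsg.Agent.helper2.card_center_GL] at hK'
  have hq2 : 2 ≤ Fintype.card F := Fintype.one_lt_card
  obtain ⟨r, hr⟩ : ∃ r, Fintype.card F = r + 2 := ⟨Fintype.card F - 2, by omega⟩
  rw [hr] at hK' ⊢
  have e1 : (r + 2) * (r + 2) - 1 = (r + 3) * (r + 1) := by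
    have : (r + 2) * (r + 2) = (r + 3) * (r + 1) + 1 := by ring
    omega
  have e2 : r + 2 - 1 = r + 1 := by omega
  rw [e1, e2] at hK'
  have : Nat.card (pgl2S0 F) * (r + 1) = (2 * (r + 2 + 1)) * (r + 1) := by
    rw [← hK']
    ring
  exact Nat.eq_of_mul_eq_mul_right (by omega) this

/-- conjugating the centralizer `S₀` -/
theorem mem_conj_smul_pgl2S0 (y g : GL (Fin 2) F ⧸ Subgroup.center (GL (Fin 2) F)) :
    g ∈ MulAut.conj y • pgl2S0 F ↔ y⁻¹ * g * y ∈ pgl2S0 F := by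
  rw [Subgroup.mem_pointwise_smul_iff_inv_smul_mem, MulAut.smul_def, MulAut.conj_inv_apply]

/-- `S₀` meets each of its conjugates nontrivially -/
theorem pgl2S0_inter_conj (hns : ¬ IsSquare (-1 : F)) (y : GL (Fin 2) F ⧸ Subgroup.center (GL (Fin 2) F)) :
    ∃ b : GL (Fin 2) F ⧸ Subgroup.center (GL (Fin 2) F), b ≠ 1 ∧ b ∈ pgl2S0 F ∧ y⁻¹ * b * y ∈ pgl2S0 F := by
  obtain ⟨Y, rfl⟩ := pgl2mk_surjective y
  have htr : ((Y * gl2J F * Y⁻¹ : GL (Fin 2) F) : Matrix (Fin 2) (Fin 2) F).trace = 0 := by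
    rw [GeneralLinearGroup.coe_mul, GeneralLinearGroup.coe_mul, Matrix.trace_mul_cycle,
      ← GeneralLinearGroup.coe_mul, inv_mul_cancel, GeneralLinearGroup.coe_one, one_mul, gl2J_coe,
      Matrix.trace_fin_two_of, add_zero]
  have hdet : ((Y * gl2J F * Y⁻¹ : GL (Fin 2) F) : Matrix (Fin 2) (Fin 2) F).det = 1 := by
    have h1 : ((Y * gl2J F * Y⁻¹ : GL (Fin 2) F) : Matrix (Fin 2) (Fin 2) F).det =
        GeneralLinearGroup.det (Y * gl2J F * Y⁻¹) := rfl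
    rw [h1, map_mul, map_mul, map_inv, mul_comm, ← mul_assoc, inv_mul_cancel, one_mul]
    show ((gl2J F : GL (Fin 2) F) : Matrix (Fin 2) (Fin 2) F).det = 1
    rw [gl2J_coe, Matrix.det_fin_two_of]
    ring
  obtain ⟨b, hb1, hb2, hb3⟩ := pgl2_core hns (Y * gl2J F * Y⁻¹) htr hdet
  refine ⟨b, hb1, (mem_pgl2S0 b).mpr hb2, ?_⟩
  rw [mem_pgl2S0]
  rw [map_mul, map_mul, map_inv] at hb3
  calc (pgl2mk F Y)⁻¹ * b * pgl2mk F Y * pgl2mk F (gl2J F)
      = (pgl2mk F Y)⁻¹ * (b * (pgl2mk F Y * pgl2mk F (gl2J F) * (pgl2mk F Y)⁻¹)) * pgl2mk F Y := by group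
    _ = (pgl2mk F Y)⁻¹ * ((pgl2mk F Y * pgl2mk F (gl2J F) * (pgl2mk F Y)⁻¹) * b) * pgl2mk F Y := by rw [hb3]
    _ = pgl2mk F (gl2J F) * ((pgl2mk F Y)⁻¹ * b * pgl2mk F Y) := by group

/-- any two conjugates of a Sylow 2-subgroup of `PGL₂(q)`, `q + 1 = 2 ^ k`, meet nontrivially -/
theorem pgl2_sylow_inter [Fintype F] (hns : ¬ IsSquare (-1 : F)) (k : ℕ) (hk : Fintype.card F + 1 = 2 ^ k)
    (h3 : 3 ≤ Fintype.card F)
    (H : Sylow 2 (GL (Fin 2) F ⧸ Subgroup.center (GL (Fin 2) F)))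
    (x : GL (Fin 2) F ⧸ Subgroup.center (GL (Fin 2) F)) :
    (H : Subgroup (GL (Fin 2) F ⧸ Subgroup.center (GL (Fin 2) F))) ⊓ MulAut.conj x • (H : Subgroup _) ≠ ⊥ := by
  haveI : Fact (Nat.Prime 2) := ⟨Nat.prime_two⟩
  have hk2 : 2 ≤ k := by
    by_contra hcon
    have : k = 0 ∨ k = 1 := by omega
    rcases this with rfl | rfl <;> simp at hk <;> omega
  have hq4 : Fintype.card F % 4 = 3 := by
    obtain ⟨i, rfl⟩ : ∃ i, k = i + 2 := ⟨k - 2, by omega⟩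
    rw [pow_add] at hk
    omega
  obtain ⟨-, f2⟩ := sl2_card_factorization_two (Fintype.card F) (by omega) h3
  have hfac : (Nat.card (GL (Fin 2) F ⧸ Subgroup.center (GL (Fin 2) F))).factorization 2 = k + 1 := by
    rw [card_pgl2, f2 hq4, hk, Nat.Prime.factorization_pow Nat.prime_two, Finsupp.single_eq_same]
  have hS0 : Nat.card (pgl2S0 F) = 2 ^ (Nat.card (GL (Fin 2) F ⧸ Subgroup.center (GL (Fin 2) F))).factorization 2 := by
    rw [card_pgl2S0 hns, hfac, hk, pow_succ, mul_comm]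
  obtain ⟨g, hg⟩ := MulAction.exists_smul_eq (GL (Fin 2) F ⧸ Subgroup.center (GL (Fin 2) F))
    (Sylow.ofCard (pgl2S0 F) hS0) H
  have hH : (H : Subgroup (GL (Fin 2) F ⧸ Subgroup.center (GL (Fin 2) F))) = MulAut.conj g • pgl2S0 F := by
    rw [← hg, Sylow.coe_subgroup_smul, Sylow.coe_ofCard]
  obtain ⟨b, hb1, hb2, hb3⟩ := pgl2S0_inter_conj hns (g⁻¹ * x * g)
  intro hbot
  have hmem : g * b * g⁻¹ ∈ (H : Subgroup (GL (Fin 2) F ⧸ Subgroup.center (GL (Fin 2) F))) ⊓ MulAut.conj x • (H : Subgroup _) := by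
    rw [Subgroup.mem_inf]
    constructor
    · rw [hH, mem_conj_smul_pgl2S0]
      have : g⁻¹ * (g * b * g⁻¹) * g = b := by group
      rw [this]
      exact hb2
    · rw [Subgroup.mem_pointwise_smul_iff_inv_smul_mem, MulAut.smul_def, MulAut.conj_inv_apply, hH,
        mem_conj_smul_pgl2S0]
      have : g⁻¹ * (x⁻¹ * (g * b * g⁻¹) * x) * g = (g⁻¹ * x * g)⁻¹ * b * (g⁻¹ * x * g) := by group
      rw [this]
      exact hb3
  rw [hbot, Subgroup.mem_bot] at hmem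
  apply hb1
  calc b = g⁻¹ * (g * b * g⁻¹) * g := by group
    _ = 1 := by rw [hmem]; group

end Cfsg.Agent.helper12
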