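import Mathlib

set_option autoImplicit false

namespace Cfsg.Agent.helper12

open scoped Pointwise

section pitA
variable {G : Type*} [Group G] {H : Subgroup G} [H.Normal] [H.FiniteIndex]
  {A : Type*} [CommGroup A]

/-- total extension of a hom on `H` -/
noncomputable def pitExt (ϕ : H →* A) (x : G) : A :=
  open Classical in if h : x ∈ H then ϕ ⟨x, h⟩ else 1

theorem pitExt_mul (ϕ : H →* A) {x y : G} (hx : x ∈ H) (hy : y ∈ H) :
    pitExt ϕ (x * y) = pitExt ϕ x * pitExt ϕ y := by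
  unfold pitExt
  rw [dif_pos hx, dif_pos hy, dif_pos (H.mul_mem hx hy), ← map_mul]
  rfl

theorem pitExt_mem (ϕ : H →* A) {x : G} (hx : x ∈ H) : pitExt ϕ x = ϕ ⟨x, hx⟩ := by
  unfold pitExt
  rw [dif_pos hx]

/-- representative of a coset -/
noncomputable def pitRep (T : H.LeftTransversal) (q : G ⧸ H) : G :=
  (T.2.leftQuotientEquiv q : G)

theorem pitRep_mk (T : H.LeftTransversal) (q : G ⧸ H) :
    (QuotientGroup.mk (pitRep T q) : G ⧸ H) = q :=
  T.2.quotientGroupMk_leftQuotientEquiv q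

theorem pit_smul_eq (g : G) (q : G ⧸ H) : g • q = (QuotientGroup.mk g : G ⧸ H) * q := by
  induction q using QuotientGroup.induction_on with
  | H x => rfl

/-- the cocycle function -/
noncomputable def pitPhi (ϕ : H →* A) (T : H.LeftTransversal) (g : G) (q : G ⧸ H) : A :=
  pitExt ϕ ((pitRep T q)⁻¹ * g * pitRep T ((QuotientGroup.mk g : G ⧸ H)⁻¹ * q))

theorem pitPhi_arg_mem (T : H.LeftTransversal) (g : G) (q : G ⧸ H) :
    (pitRep T q)⁻¹ * g * pitRep T ((QuotientGroup.mk g : G ⧸ H)⁻¹ * q) ∈ H := by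
  rw [← QuotientGroup.eq_one_iff, QuotientGroup.mk_mul, QuotientGroup.mk_mul,
    QuotientGroup.mk_inv, pitRep_mk, pitRep_mk]
  group

theorem pit_transfer_eq (ϕ : H →* A) (T : H.LeftTransversal) [Fintype (G ⧸ H)] (g : G) :
    MonoidHom.transfer ϕ g = ∏ q : G ⧸ H, pitPhi ϕ T g q := by
  rw [MonoidHom.transfer_def ϕ T g]
  unfold Subgroup.leftTransversals.diff
  simp only
  have hinst : H.fintypeQuotientOfFiniteIndex = ‹Fintype (G ⧸ H)› := Subsingleton.elim _ _
  rw [hinst]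
  apply Finset.prod_congr rfl
  intro q _
  unfold pitPhi
  rw [pitExt_mem ϕ (pitPhi_arg_mem T g q)]
  congr 1
  apply Subtype.ext
  simp only
  rw [Subgroup.smul_apply_eq_smul_apply_inv_smul, smul_eq_mul, pit_smul_eq, QuotientGroup.mk_inv,
    mul_assoc]
  rfl

theorem pitPhi_mul (ϕ : H →* A) (T : H.LeftTransversal) (g h : G) (q : G ⧸ H) :
    pitPhi ϕ T (g * h) q = pitPhi ϕ T g q * pitPhi ϕ T h ((QuotientGroup.mk g : G ⧸ H)⁻¹ * q) := by
  unfold pitPhi
  rw [← pitExt_mul ϕ (pitPhi_arg_mem T g q) (pitPhi_arg_mem T h _)]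
  congr 1
  rw [QuotientGroup.mk_mul, mul_inv_rev, mul_assoc ((QuotientGroup.mk h : G ⧸ H)⁻¹)]
  group

end pitA

end Cfsg.Agent.helper12
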