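import Mathlib

set_option autoImplicit false

namespace Cfsg.Agent.helper12

section pitB
variable {Q : Type*} [Group Q] [Fintype Q] {X : Type*} [AddCommGroup X]

/-- regular action on functions -/
def pitRho (Q : Type*) [Group Q] (X : Type*) [AddCommGroup X] :
    Q →* Module.End ℤ (Q → X) where
  toFun r :=
    { toFun := fun ψ q => ψ (r⁻¹ * q)
      map_add' := fun _ _ => rfl
      map_smul' := fun _ _ => rfl }
  map_one' := by
    apply LinearMap.ext
    intro ψ
    funext q
    simp
  map_mul' r s := by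
    apply LinearMap.ext
    intro ψ
    funext q
    simp [mul_assoc]

theorem pitRho_apply (r : Q) (ψ : Q → X) (q : Q) : pitRho Q X r ψ q = ψ (r⁻¹ * q) := rfl

/-- the group ring action on functions -/
noncomputable def pitTheta (Q : Type*) [Group Q] (X : Type*) [AddCommGroup X] :
    MonoidAlgebra ℤ Q →ₐ[ℤ] Module.End ℤ (Q → X) :=
  MonoidAlgebra.lift ℤ (Module.End ℤ (Q → X)) Q (pitRho Q X)

theorem pitTheta_single (r : Q) (ψ : Q → X) (q : Q) :
    pitTheta Q X (MonoidAlgebra.single r 1) ψ q = ψ (r⁻¹ * q) := by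
  unfold pitTheta
  rw [MonoidAlgebra.lift_single, one_smul]
  rfl

/-- the norm element -/
noncomputable def pitN (Q : Type*) [Group Q] [Fintype Q] : MonoidAlgebra ℤ Q :=
  ∑ r : Q, MonoidAlgebra.single r 1

theorem pitTheta_N (ψ : Q → X) (q : Q) : pitTheta Q X (pitN Q) ψ q = ∑ r : Q, ψ r := by
  unfold pitN
  rw [map_sum, LinearMap.sum_apply, Finset.sum_apply]
  simp only [pitTheta_single]
  exact Fintype.sum_equiv ((Equiv.inv Q).trans (Equiv.mulRight q)) _ _ (fun r => rfl)

/-- augmentation -/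
noncomputable def pitAug (Q : Type*) [Group Q] : MonoidAlgebra ℤ Q →ₐ[ℤ] ℤ :=
  MonoidAlgebra.lift ℤ ℤ Q 1

theorem pitAug_single (r : Q) (n : ℤ) : pitAug Q (MonoidAlgebra.single r n) = n := by
  unfold pitAug
  rw [MonoidAlgebra.lift_single]
  simp

theorem pitAug_N : pitAug Q (pitN Q) = (Fintype.card Q : ℤ) := by
  unfold pitN
  rw [map_sum]
  simp [pitAug_single]

theorem pitN_coeff (r : Q) : (pitN Q).coeff r = 1 := by
  classical
  unfold pitN
  rw [MonoidAlgebra.coeff_sum, Finsupp.finset_sum_apply]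
  simp [MonoidAlgebra.coeff_single, Finsupp.single_apply]

theorem pit_ann (δ : MonoidAlgebra ℤ Q)
    (h : ∀ q : Q, δ * (MonoidAlgebra.single q 1 - 1) = 0) : δ = (δ.coeff 1) • pitN Q := by
  have h1 : ∀ q : Q, δ * MonoidAlgebra.single q 1 = δ := by
    intro q
    have := h q
    rw [mul_sub, mul_one, sub_eq_zero] at this
    exact this
  have h2 : ∀ r : Q, δ.coeff r = δ.coeff 1 := by
    intro r
    have := congrArg (fun x => x.coeff r) (h1 r)
    simp only [MonoidAlgebra.coeff_mul_single_apply, mul_inv_cancel, mul_one] at this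
    exact this.symm
  apply MonoidAlgebra.coeff_injective
  apply Finsupp.ext
  intro r
  rw [MonoidAlgebra.coeff_smul, Finsupp.smul_apply, pitN_coeff, h2 r]
  simp

end pitB

end Cfsg.Agent.helper12
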