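import Cfsg.Agent.Lib_helper12_PitB

set_option autoImplicit false

namespace Cfsg.Agent.helper12

section pitC
variable {G : Type*} [Group G] [Fintype G] [DecidableEq G]
  {Q : Type*} [CommGroup Q] [Fintype Q] (π : G →* Q)
  {X : Type*} [AddCommGroup X]

/-- image of `g` in the group ring -/
noncomputable def pitI (g : G) : MonoidAlgebra ℤ Q := MonoidAlgebra.single (π g) 1

theorem pitI_mul (g h : G) : pitI π (g * h) = pitI π g * pitI π h := by
  unfold pitI
  rw [map_mul, MonoidAlgebra.single_mul_single, one_mul]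

theorem pitAug_I (g : G) : pitAug Q (pitI π g) = 1 := pitAug_single _ _

/-- the relation vector -/
noncomputable def pitRel (g h : G) : G → MonoidAlgebra ℤ Q :=
  Pi.single (g * h) 1 - Pi.single g 1 - Pi.single h (pitI π g)

/-- integral relation vector -/
def pitRelZ (g h : G) : G → ℤ := Pi.single (g * h) 1 - Pi.single g 1 - Pi.single h 1

/-- relation module -/
noncomputable def pitK : Submodule (MonoidAlgebra ℤ Q) (G → MonoidAlgebra ℤ Q) :=
  Submodule.span _ (Set.range fun p : G × G => pitRel π p.1 p.2)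

/-- integral span of the relations -/
noncomputable def pitKZ : Submodule ℤ (G → MonoidAlgebra ℤ Q) :=
  Submodule.span ℤ (Set.range fun p : G × G => pitRel π p.1 p.2)

/-- relation lattice -/
def pitL (G : Type*) [Group G] [DecidableEq G] : Submodule ℤ (G → ℤ) :=
  Submodule.span ℤ (Set.range fun p : G × G => pitRelZ p.1 p.2)

theorem pitKZ_le : ∀ c ∈ pitKZ π, c ∈ pitK π := by
  intro c hc
  unfold pitKZ at hc
  induction hc using Submodule.span_induction with
  | mem x hx => exact Submodule.subset_span hx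
  | zero => exact Submodule.zero_mem _
  | add x y _ _ hx hy => exact Submodule.add_mem _ hx hy
  | smul a x _ hx =>
    rw [← Int.cast_smul_eq_zsmul (MonoidAlgebra ℤ Q)]
    exact Submodule.smul_mem _ _ hx

/-- the functional -/
noncomputable def pitEps :
    (G → MonoidAlgebra ℤ Q) →ₗ[MonoidAlgebra ℤ Q] MonoidAlgebra ℤ Q :=
  ∑ y : G, (pitI π y - 1) • LinearMap.proj y

theorem pitEps_single (y : G) (a : MonoidAlgebra ℤ Q) :
    pitEps π (Pi.single y a) = (pitI π y - 1) * a := by
  unfold pitEps
  rw [LinearMap.sum_apply]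
  simp only [LinearMap.smul_apply, LinearMap.proj_apply, smul_eq_mul]
  rw [Finset.sum_eq_single y]
  · rw [Pi.single_eq_same]
  · intro z _ hz
    rw [Pi.single_eq_of_ne hz, mul_zero]
  · intro h
    exact absurd (Finset.mem_univ y) h

theorem pitEps_rel (g h : G) : pitEps π (pitRel π g h) = 0 := by
  unfold pitRel
  rw [map_sub, map_sub, pitEps_single, pitEps_single, pitEps_single, pitI_mul]
  ring

theorem pitEps_K : ∀ c ∈ pitK π, pitEps π c = 0 := by
  intro c hc
  unfold pitK at hc
  induction hc using Submodule.span_induction with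
  | mem x hx =>
    obtain ⟨⟨g, h⟩, rfl⟩ := hx
    exact pitEps_rel π g h
  | zero => exact map_zero _
  | add x y _ _ hx hy => rw [map_add, hx, hy, add_zero]
  | smul a x _ hx => rw [map_smul, hx, smul_zero]

/-- evaluation on cocycle -/
noncomputable def pitPsi (φ : G → Q → X) : (G → MonoidAlgebra ℤ Q) →+ (Q → X) where
  toFun c := ∑ y : G, pitTheta Q X (c y) (φ y)
  map_zero' := by simp
  map_add' c c' := by simp [Finset.sum_add_distrib]

theorem pitPsi_apply (φ : G → Q → X) (c : G → MonoidAlgebra ℤ Q) :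
    pitPsi φ c = ∑ y : G, pitTheta Q X (c y) (φ y) := rfl

theorem pitPsi_smul (φ : G → Q → X) (a : MonoidAlgebra ℤ Q) (c : G → MonoidAlgebra ℤ Q) :
    pitPsi φ (a • c) = pitTheta Q X a (pitPsi φ c) := by
  rw [pitPsi_apply, pitPsi_apply, map_sum]
  apply Finset.sum_congr rfl
  intro y _
  rw [Pi.smul_apply, smul_eq_mul, map_mul]
  rfl

theorem pitPsi_single (φ : G → Q → X) (y : G) (a : MonoidAlgebra ℤ Q) :
    pitPsi φ (Pi.single y a) = pitTheta Q X a (φ y) := by
  rw [pitPsi_apply, Finset.sum_eq_single y]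
  · rw [Pi.single_eq_same]
  · intro z _ hz
    rw [Pi.single_eq_of_ne hz, map_zero]
    rfl
  · intro h
    exact absurd (Finset.mem_univ y) h

theorem pitPsi_rel (φ : G → Q → X)
    (hφ : ∀ g h q, φ (g * h) q = φ g q + φ h ((π g)⁻¹ * q)) (g h : G) :
    pitPsi φ (pitRel π g h) = 0 := by
  unfold pitRel
  rw [map_sub, map_sub, pitPsi_single, pitPsi_single, pitPsi_single, map_one]
  funext q
  simp only [Pi.sub_apply, Pi.zero_apply, Module.End.one_apply]
  unfold pitI
  rw [pitTheta_single, hφ g h q]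
  abel

theorem pitPsi_K (φ : G → Q → X)
    (hφ : ∀ g h q, φ (g * h) q = φ g q + φ h ((π g)⁻¹ * q)) :
    ∀ c ∈ pitK π, pitPsi φ c = 0 := by
  intro c hc
  unfold pitK at hc
  induction hc using Submodule.span_induction with
  | mem x hx =>
    obtain ⟨⟨g, h⟩, rfl⟩ := hx
    exact pitPsi_rel π φ hφ g h
  | zero => exact map_zero _
  | add x y _ _ hx hy => rw [map_add, hx, hy, add_zero]
  | smul a x _ hx => rw [pitPsi_smul, hx, map_zero]

/-- coordinatewise augmentation -/
noncomputable def pitAugG (G : Type*) (Q : Type*) [Group Q] :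
    (G → MonoidAlgebra ℤ Q) →ₗ[ℤ] (G → ℤ) :=
  (pitAug Q).toLinearMap.compLeft G

theorem pitAugG_apply (c : G → MonoidAlgebra ℤ Q) (y : G) :
    pitAugG G Q c y = pitAug Q (c y) := rfl

theorem pitAugG_rel (g h : G) : pitAugG G Q (pitRel π g h) = pitRelZ g h := by
  funext y
  rw [pitAugG_apply]
  unfold pitRel pitRelZ
  simp only [Pi.sub_apply, map_sub]
  congr 1
  · congr 1
    · by_cases hy : y = g * h
      · subst hy; simp
      · rw [Pi.single_eq_of_ne hy, Pi.single_eq_of_ne hy, map_zero]
    · by_cases hy : y = g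
      · subst hy; simp
      · rw [Pi.single_eq_of_ne hy, Pi.single_eq_of_ne hy, map_zero]
  · by_cases hy : y = h
    · subst hy; simp [pitAug_I]
    · rw [Pi.single_eq_of_ne hy, Pi.single_eq_of_ne hy, map_zero]

theorem pit_map_KZ : Submodule.map (pitAugG G Q) (pitKZ π) = pitL G := by
  unfold pitKZ pitL
  rw [Submodule.map_span, ← Set.range_comp]
  congr 2
  funext p
  exact pitAugG_rel π p.1 p.2

end pitC

end Cfsg.Agent.helper12
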