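import Cfsg.Agent.Lib_helper12_PitC
import Cfsg.Agent.Lib_helper12_PitA

set_option autoImplicit false

namespace Cfsg.Agent.helper12

section pitD
variable {G : Type*} [Group G] [Fintype G] [DecidableEq G]

theorem pitRelZ_mem (g h : G) : pitRelZ g h ∈ pitL G := Submodule.subset_span ⟨(g, h), rfl⟩

/-- class of the basis vector -/
def pitCls (g : G) : (G → ℤ) ⧸ pitL G := Submodule.Quotient.mk (Pi.single g 1)

theorem pitCls_mul (g h : G) : pitCls (g * h) = pitCls g + pitCls h := by
  unfold pitCls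
  rw [← Submodule.Quotient.mk_add, Submodule.Quotient.eq]
  have := pitRelZ_mem g h
  unfold pitRelZ at this
  convert this using 1
  abel

theorem pitCls_one : pitCls (1 : G) = 0 := by
  have := pitCls_mul (1 : G) 1
  rw [mul_one] at this
  exact left_eq_add.mp this

/-- the universal map -/
def pitU : G →* Multiplicative ((G → ℤ) ⧸ pitL G) where
  toFun g := Multiplicative.ofAdd (pitCls g)
  map_one' := by rw [pitCls_one]; rfl
  map_mul' g h := by rw [pitCls_mul]; rfl

theorem pit_mk_eq_sum (c : G → ℤ) :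
    (Submodule.Quotient.mk c : (G → ℤ) ⧸ pitL G) = ∑ g : G, c g • pitCls g := by
  unfold pitCls
  conv_lhs => rw [← Finset.univ_sum_single c]
  rw [← Submodule.mkQ_apply, map_sum]
  apply Finset.sum_congr rfl
  intro g _
  rw [Submodule.mkQ_apply, ← Submodule.Quotient.mk_smul, ← Pi.single_smul, smul_eq_mul, mul_one]

theorem pitU_lift_surjective :
    Function.Surjective (Abelianization.lift (pitU (G := G))) := by
  intro y
  obtain ⟨c, hc⟩ := Submodule.Quotient.mk_surjective (pitL G) (Multiplicative.toAdd y)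
  refine ⟨∏ g : G, (Abelianization.of g) ^ (c g), ?_⟩
  rw [map_prod]
  simp only [map_zpow, Abelianization.lift_apply_of]
  apply Multiplicative.toAdd.injective
  rw [← hc, pit_mk_eq_sum, toAdd_prod]
  apply Finset.sum_congr rfl
  intro g _
  rw [toAdd_zpow]
  rfl

/-- the map to the abelianization -/
noncomputable def pitF : (G → ℤ) →ₗ[ℤ] Additive (Abelianization G) :=
  ∑ g : G, (LinearMap.proj g : (G → ℤ) →ₗ[ℤ] ℤ).smulRight (Additive.ofMul (Abelianization.of g))

theorem pitF_single (g : G) (n : ℤ) :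
    pitF (Pi.single g n) = n • Additive.ofMul (Abelianization.of g) := by
  unfold pitF
  rw [LinearMap.sum_apply]
  simp only [LinearMap.smulRight_apply, LinearMap.proj_apply]
  rw [Finset.sum_eq_single g]
  · rw [Pi.single_eq_same]
  · intro z _ hz
    rw [Pi.single_eq_of_ne hz, zero_smul]
  · intro h
    exact absurd (Finset.mem_univ g) h

theorem pitF_L : pitL G ≤ LinearMap.ker (pitF (G := G)) := by
  unfold pitL
  rw [Submodule.span_le]
  rintro _ ⟨⟨g, h⟩, rfl⟩
  rw [SetLike.mem_coe, LinearMap.mem_ker]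
  unfold pitRelZ
  rw [map_sub, map_sub, pitF_single, pitF_single, pitF_single, map_mul, ofMul_mul]
  simp

theorem pit_card_aux :
    Finite ((G → ℤ) ⧸ pitL G) ∧ Nat.card ((G → ℤ) ⧸ pitL G) = Nat.card (Abelianization G) := by
  have hs1 := pitU_lift_surjective (G := G)
  have hs1' : Function.Surjective
      (fun a : Abelianization G => Multiplicative.toAdd (Abelianization.lift (pitU (G := G)) a)) :=
    fun y => by
      obtain ⟨a, ha⟩ := hs1 (Multiplicative.ofAdd y)
      exact ⟨a, by simp [ha]⟩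
  haveI : Finite (Abelianization G) := by
    unfold Abelianization; infer_instance
  haveI hfin : Finite ((G → ℤ) ⧸ pitL G) := Finite.of_surjective _ hs1'
  refine ⟨hfin, le_antisymm (Nat.card_le_card_of_surjective _ hs1') ?_⟩
  let fbar := (pitL G).liftQ pitF pitF_L
  have hs2 : Function.Surjective fbar := by
    intro a
    obtain ⟨g, hg⟩ := QuotientGroup.mk_surjective (Additive.toMul a)
    refine ⟨pitCls g, ?_⟩
    unfold pitCls
    rw [Submodule.liftQ_apply, pitF_single, one_smul]
    have hg' : Abelianization.of g = Additive.toMul a := hg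
    rw [hg']
    rfl
  exact Nat.card_le_card_of_surjective (fun x => Additive.toMul (fbar x))
    (fun a => by
      obtain ⟨x, hx⟩ := hs2 (Additive.ofMul a)
      exact ⟨x, by simp [hx]⟩)

theorem pit_exists_basis [Finite ((G → ℤ) ⧸ pitL G)] :
    ∃ bL : Module.Basis G ℤ (pitL G),
      ((Pi.basisFun ℤ G).det (fun x => ((bL x : pitL G) : G → ℤ))).natAbs
        = Nat.card ((G → ℤ) ⧸ pitL G) := by
  have hrank : Module.finrank ℤ (pitL G) = Module.finrank ℤ (G → ℤ) :=
    (Submodule.finiteQuotient_iff (pitL G)).mp inferInstance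
  have hcardG : Module.finrank ℤ (G → ℤ) = Fintype.card G := Module.finrank_fintype_fun_eq_card ℤ
  let e : Fin (Module.finrank ℤ (pitL G)) ≃ G :=
    Fintype.equivOfCardEq (by rw [Fintype.card_fin, hrank, hcardG])
  let bL := (Module.finBasis ℤ (pitL G)).reindex e
  exact ⟨bL, Submodule.natAbs_det_basis_change (Pi.basisFun ℤ G) (pitL G) bL⟩

theorem pit_core {Q : Type*} [CommGroup Q] [Fintype Q] (π : G →* Q) (hπ : Function.Surjective π)
    {X : Type*} [AddCommGroup X] (φ : G → Q → X)
    (hφ : ∀ g h q, φ (g * h) q = φ g q + φ h ((π g)⁻¹ * q))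
    [Finite ((G → ℤ) ⧸ pitL G)]
    (hcard : Nat.card ((G → ℤ) ⧸ pitL G) = Fintype.card Q) (j : G) :
    ∑ r : Q, φ j r = 0 := by
  obtain ⟨bL, hdet⟩ := pit_exists_basis (G := G)
  have hmem : ∀ x : G, ∃ β ∈ pitKZ π, pitAugG G Q β = ((bL x : pitL G) : G → ℤ) := by
    intro x
    have h1 : ((bL x : pitL G) : G → ℤ) ∈ Submodule.map (pitAugG G Q) (pitKZ π) := by
      rw [pit_map_KZ]; exact (bL x).2
    obtain ⟨β, hβ, hβ'⟩ := h1
    exact ⟨β, hβ, hβ'⟩
  choose β hβK hβ using hmem
  obtain ⟨R, hR⟩ : ∃ R : Matrix G G (MonoidAlgebra ℤ Q), R = Matrix.of β := ⟨_, rfl⟩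
  obtain ⟨δ, hδ⟩ : ∃ δ, δ = R.det := ⟨_, rfl⟩
  have hRapp : ∀ x y, R x y = β x y := fun x y => by rw [hR]; rfl
  have hsingle : ∀ j : G, (Pi.single j δ : G → MonoidAlgebra ℤ Q) ∈ pitK π := by
    intro j
    have h1 : (Pi.single j δ : G → MonoidAlgebra ℤ Q) = ∑ k : G, R.adjugate j k • β k := by
      funext y
      have h2 := congrFun (congrFun (Matrix.adjugate_mul R) j) y
      rw [Matrix.mul_apply, Matrix.smul_apply, Matrix.one_apply, ← hδ] at h2
      rw [Finset.sum_apply]
      simp only [Pi.smul_apply, smul_eq_mul]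
      have h3 : (∑ k : G, R.adjugate j k * β k y) = ∑ k : G, R.adjugate j k * R k y :=
        Finset.sum_congr rfl (fun k _ => by rw [hRapp])
      rw [h3, h2]
      by_cases hjy : j = y
      · subst hjy; simp
      · rw [if_neg hjy, Pi.single_eq_of_ne (Ne.symm hjy)]; simp
    rw [h1]
    exact Submodule.sum_mem _ (fun k _ => Submodule.smul_mem _ _ (pitKZ_le π _ (hβK k)))
  have hann : ∀ q : Q, δ * (MonoidAlgebra.single q 1 - 1) = 0 := by
    intro q
    obtain ⟨g, rfl⟩ := hπ q
    have := pitEps_K π _ (hsingle g)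
    rw [pitEps_single] at this
    rw [mul_comm]; exact this
  obtain ⟨c, hc⟩ : ∃ c : ℤ, δ = c • pitN Q := ⟨_, pit_ann δ hann⟩
  have haug : (pitAug Q δ).natAbs = Fintype.card Q := by
    rw [hδ, ← hcard, ← hdet]
    have h1 : pitAug Q R.det = ((pitAug Q).toRingHom.mapMatrix R).det := RingHom.map_det _ _
    have hM : (pitAug Q).toRingHom.mapMatrix R
        = Matrix.transpose
            ((Pi.basisFun ℤ G).toMatrix (fun x => ((bL x : pitL G) : G → ℤ))) := by
      ext x y
      rw [Matrix.transpose_apply, Module.Basis.toMatrix_apply, Pi.basisFun_repr,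
        RingHom.mapMatrix_apply, Matrix.map_apply, hRapp, ← hβ x]
      rfl
    rw [h1, hM, Matrix.det_transpose, Module.Basis.det_apply]
  have hcard_pos : 0 < Fintype.card Q := Fintype.card_pos
  have hc1 : c = 1 ∨ c = -1 := by
    rw [hc, map_zsmul, pitAug_N, smul_eq_mul, Int.natAbs_mul, Int.natAbs_natCast] at haug
    have h2 : c.natAbs = 1 := by
      have : c.natAbs * Fintype.card Q = 1 * Fintype.card Q := by rw [haug, one_mul]
      exact Nat.eq_of_mul_eq_mul_right hcard_pos this
    exact Int.natAbs_eq_natAbs_iff.mp (by rw [h2]; rfl)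
  have hΨ := pitPsi_K π φ hφ _ (hsingle j)
  rw [pitPsi_single, hc, map_zsmul] at hΨ
  have hΨ1 := congrFun hΨ 1
  rw [LinearMap.smul_apply, Pi.smul_apply, pitTheta_N, Pi.zero_apply] at hΨ1
  rcases hc1 with rfl | rfl
  · simpa using hΨ1
  · simpa using hΨ1

end pitD

end Cfsg.Agent.helper12
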