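import Cfsg.Agent.Lib_helper12_PitD

set_option autoImplicit false

namespace Cfsg.Agent.helper12

theorem pit_main {G : Type*} [Group G] [Finite G] :
    MonoidHom.transfer (Abelianization.of : ↥(commutator G) →* Abelianization ↥(commutator G)) =
      (1 : G →* Abelianization ↥(commutator G)) := by
  classical
  haveI : Fintype G := Fintype.ofFinite G
  haveI instQ : Fintype (G ⧸ commutator G) := Fintype.ofFinite _
  letI : Fintype (Abelianization G) := instQ
  obtain ⟨hfin, hcard⟩ := pit_card_aux (G := G)
  haveI := hfin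
  obtain ⟨T⟩ : Nonempty (commutator G).LeftTransversal := ⟨default⟩
  obtain ⟨ϕ, hϕ⟩ : ∃ ϕ : ↥(commutator G) →* Abelianization ↥(commutator G),
      ϕ = Abelianization.of := ⟨_, rfl⟩
  rw [← hϕ]
  apply MonoidHom.ext
  intro g
  rw [MonoidHom.one_apply]
  have htr := pit_transfer_eq ϕ T g
  have hφ : ∀ (g h : G) (q : Abelianization G),
      Additive.ofMul (pitPhi ϕ T (g * h) q) = Additive.ofMul (pitPhi ϕ T g q)
        + Additive.ofMul (pitPhi ϕ T h ((Abelianization.of g)⁻¹ * q)) := by
    intro g h q
    rw [← ofMul_mul]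
    exact congrArg Additive.ofMul (pitPhi_mul ϕ T g h q)
  have hcore := pit_core (Q := Abelianization G) (Abelianization.of : G →* Abelianization G)
    (QuotientGroup.mk_surjective) (fun g q => Additive.ofMul (pitPhi ϕ T g q)) hφ
    (by rw [hcard, Nat.card_eq_fintype_card]) g
  have h2 : Additive.ofMul (MonoidHom.transfer ϕ g) = 0 := by
    rw [htr, ofMul_prod]
    exact hcore
  exact h2

end Cfsg.Agent.helper12
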