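import Cfsg.Agent.Lib_helper12_Sl2Gl2

set_option autoImplicit false

namespace Cfsg.Agent.helper12

open Matrix Cfsg

variable {F : Type*} [Field F]

/-- a 2×2 matrix commuting with the standard Jordan block -/
theorem commute_jordan2 (M : Matrix (Fin 2) (Fin 2) F) (h : M * !![1, 1; 0, 1] = !![1, 1; 0, 1] * M) :
    M = M 0 0 • (1 : Matrix (Fin 2) (Fin 2) F) + M 0 1 • !![0, 1; 0, 0] := by
  have h00 := congrFun (congrFun h 0) 0
  have h01 := congrFun (congrFun h 0) 1
  simp [Matrix.mul_apply, Fin.sum_univ_two] at h00 h01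
  ext i j
  fin_cases i <;> fin_cases j <;> simp
  · exact h00
  · linear_combination -h01

theorem pow_char_of_jordan2 (p : ℕ) [Fact p.Prime] [CharP F p] (a b : F) :
    (a • (1 : Matrix (Fin 2) (Fin 2) F) + b • !![0, 1; 0, 0]) ^ p = (a ^ p) • (1 : Matrix (Fin 2) (Fin 2) F) := by
  have hc : Commute (a • (1 : Matrix (Fin 2) (Fin 2) F)) (b • !![0, 1; 0, 0]) := by
    apply Commute.smul_left
    apply Commute.smul_right
    exact Commute.one_left _
  rw [add_pow_char_of_commute p hc, smul_pow, one_pow, smul_pow]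
  have h2 : (2 : ℕ) ≤ p := (Fact.out : p.Prime).two_le
  have hE : (!![0, 1; 0, 0] : Matrix (Fin 2) (Fin 2) F) ^ p = 0 := by
    obtain ⟨k, rfl⟩ : ∃ k, p = 2 + k := ⟨p - 2, by omega⟩
    rw [pow_add]
    have : (!![0, 1; 0, 0] : Matrix (Fin 2) (Fin 2) F) ^ 2 = 0 := by
      rw [sq]
      ext i j
      fin_cases i <;> fin_cases j <;> simp [Matrix.mul_apply, Fin.sum_univ_two]
    rw [this, zero_mul]
  rw [hE, smul_zero, add_zero]

theorem sl2_central_of_scalar (y : Matrix.SpecialLinearGroup (Fin 2) F) (c : F)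
    (h : (y : Matrix (Fin 2) (Fin 2) F) = c • (1 : Matrix (Fin 2) (Fin 2) F)) :
    y ∈ Subgroup.center (Matrix.SpecialLinearGroup (Fin 2) F) := by
  rw [Subgroup.mem_center_iff]
  intro g
  apply Subtype.ext
  rw [Matrix.SpecialLinearGroup.coe_mul, Matrix.SpecialLinearGroup.coe_mul, h]
  simp

theorem sl2_unipotent_centralizer_pow (p : ℕ) [Fact p.Prime] [CharP F p]
    (x u : Matrix.SpecialLinearGroup (Fin 2) F) (hxu : Commute x u) (hu : u ^ p = 1)
    (hnc : u ∉ Subgroup.center (Matrix.SpecialLinearGroup (Fin 2) F)) :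
    x ^ p ∈ Subgroup.center (Matrix.SpecialLinearGroup (Fin 2) F) := by
  have hUp : (u : Matrix (Fin 2) (Fin 2) F) ^ p = 1 := by
    rw [← Matrix.SpecialLinearGroup.coe_pow, hu]; rfl
  have hN : ((u : Matrix (Fin 2) (Fin 2) F) - 1) ^ p = 0 := by
    rw [sub_pow_char_of_commute p (Commute.one_right _), hUp, one_pow, sub_self]
  have htr : ((u : Matrix (Fin 2) (Fin 2) F) - 1).trace = 0 :=
    (Matrix.isNilpotent_trace_of_isNilpotent ⟨p, hN⟩).eq_zero
  have htrU : (u : Matrix (Fin 2) (Fin 2) F).trace = 2 := by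
    rw [Matrix.trace_sub, Matrix.trace_one, Fintype.card_fin] at htr
    have := sub_eq_zero.mp htr
    rw [this]; norm_num
  have hns : ¬ IsScalar2 ((Matrix.SpecialLinearGroup.toGL u : GL (Fin 2) F) : Matrix (Fin 2) (Fin 2) F) := by
    rw [toGL_coe']
    rintro ⟨h1, h2, h3⟩
    apply hnc
    apply sl2_central_of_scalar u ((u : Matrix (Fin 2) (Fin 2) F) 0 0)
    ext i j
    fin_cases i <;> fin_cases j <;> simp [h1, h2, h3]
  have hJns : ¬ IsScalar2 ((gl2UT (1 : Fˣ) 1 1 : GL (Fin 2) F) : Matrix (Fin 2) (Fin 2) F) := by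
    rw [gl2UT_coe]
    rintro ⟨h1, _, _⟩
    simp at h1
  have hconj : IsConj (Matrix.SpecialLinearGroup.toGL u) (gl2UT (1 : Fˣ) 1 1) := by
    apply gl2_isConj_of_trace_det hns hJns
    · rw [toGL_coe', htrU, gl2UT_coe, Matrix.trace_fin_two]
      simp; norm_num
    · rw [toGL_coe', gl2UT_coe, u.2, Matrix.det_fin_two]
      simp
  obtain ⟨P, hP⟩ := isConj_iff.mp hconj
  -- the conjugate of x commutes with the Jordan block
  have hcomm : (P * Matrix.SpecialLinearGroup.toGL x * P⁻¹) * gl2UT (1 : Fˣ) 1 1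
      = gl2UT (1 : Fˣ) 1 1 * (P * Matrix.SpecialLinearGroup.toGL x * P⁻¹) := by
    have hxu' : Matrix.SpecialLinearGroup.toGL x * Matrix.SpecialLinearGroup.toGL u
        = Matrix.SpecialLinearGroup.toGL u * Matrix.SpecialLinearGroup.toGL x := by
      rw [← map_mul, ← map_mul, hxu.eq]
    rw [← hP]
    calc P * Matrix.SpecialLinearGroup.toGL x * P⁻¹ * (P * Matrix.SpecialLinearGroup.toGL u * P⁻¹)
        = P * (Matrix.SpecialLinearGroup.toGL x * Matrix.SpecialLinearGroup.toGL u) * P⁻¹ := by group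
      _ = P * (Matrix.SpecialLinearGroup.toGL u * Matrix.SpecialLinearGroup.toGL x) * P⁻¹ := by rw [hxu']
      _ = _ := by group
  obtain ⟨M, hMdef⟩ : ∃ M : Matrix (Fin 2) (Fin 2) F,
      M = ((P * Matrix.SpecialLinearGroup.toGL x * P⁻¹ : GL (Fin 2) F) : Matrix (Fin 2) (Fin 2) F) := ⟨_, rfl⟩
  have hM : M * !![1, 1; 0, 1] = !![1, 1; 0, 1] * M := by
    have := congrArg (fun g : GL (Fin 2) F => (g : Matrix (Fin 2) (Fin 2) F)) hcomm
    simp only [Units.val_mul, gl2UT_coe, Units.val_one] at this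
    rw [hMdef]
    simpa [Units.val_mul] using this
  have hMp : M ^ p = (M 0 0 ^ p) • (1 : Matrix (Fin 2) (Fin 2) F) := by
    have := pow_char_of_jordan2 p (M 0 0) (M 0 1)
    rw [← commute_jordan2 M hM] at this
    exact this
  -- transfer back
  have hxp : (x : Matrix (Fin 2) (Fin 2) F) ^ p = (M 0 0 ^ p) • (1 : Matrix (Fin 2) (Fin 2) F) := by
    have h1 : (Matrix.SpecialLinearGroup.toGL x) ^ p = P⁻¹ * (P * Matrix.SpecialLinearGroup.toGL x * P⁻¹) ^ p * P := by
      rw [conj_pow]; group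
    have h2 := congrArg (fun g : GL (Fin 2) F => (g : Matrix (Fin 2) (Fin 2) F)) h1
    simp only [Units.val_mul, Units.val_pow_eq_pow_val] at h2
    rw [toGL_coe'] at h2
    rw [h2]
    have h3 : ((P * Matrix.SpecialLinearGroup.toGL x * P⁻¹ : GL (Fin 2) F) : Matrix (Fin 2) (Fin 2) F) = M := hMdef.symm
    simp only [Units.val_mul] at h3
    rw [toGL_coe'] at h3
    rw [h3, hMp]
    rw [Matrix.mul_smul, Matrix.mul_one, Matrix.smul_mul]
    congr 1
    rw [← Units.val_mul, inv_mul_cancel, Units.val_one]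
  apply sl2_central_of_scalar (x ^ p) (M 0 0 ^ p)
  rw [Matrix.SpecialLinearGroup.coe_pow, hxp]

/-- S2471 -/
theorem psl2_orderOf_ne_two_mul_char (p : ℕ) [Fact p.Prime] [CharP F p] (hp : p ≠ 2)
    (g : Matrix.ProjectiveSpecialLinearGroup (Fin 2) F) : orderOf g ≠ 2 * p := by
  intro hord
  obtain ⟨x, rfl⟩ := QuotientGroup.mk_surjective g
  have hprime : p.Prime := Fact.out
  have hp2 : 2 ≤ p := hprime.two_le
  obtain ⟨k, hk⟩ : ∃ k, p + 1 = 2 * k := by
    rcases hprime.eq_two_or_odd with h | h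
    · exact absurd h hp
    · exact ⟨(p + 1) / 2, by omega⟩
  have hc : x ^ (2 * p) ∈ Subgroup.center (Matrix.SpecialLinearGroup (Fin 2) F) := by
    rw [← QuotientGroup.eq_one_iff, QuotientGroup.mk_pow, ← hord, pow_orderOf_eq_one]
  have hc2 : (x ^ (2 * p)) ^ 2 = 1 := by
    obtain ⟨r, hr, hrc⟩ := Matrix.SpecialLinearGroup.mem_center_iff.mp hc
    rw [Fintype.card_fin] at hr
    apply Subtype.ext
    rw [Matrix.SpecialLinearGroup.coe_pow, ← hrc, ← map_pow, hr, map_one]
    rfl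
  have hu : (x ^ (2 * (p + 1))) ^ p = 1 := by
    rw [← pow_mul]
    have : 2 * (p + 1) * p = 2 * p * (2 * k) := by rw [← hk]; ring
    rw [this, pow_mul, pow_mul, hc2, one_pow]
  have hnc : x ^ (2 * (p + 1)) ∉ Subgroup.center (Matrix.SpecialLinearGroup (Fin 2) F) := by
    intro h
    have h1 : (QuotientGroup.mk x : Matrix.ProjectiveSpecialLinearGroup (Fin 2) F) ^ (2 * (p + 1)) = 1 := by
      rw [← QuotientGroup.mk_pow]; exact (QuotientGroup.eq_one_iff _).mpr h
    have hdvd := orderOf_dvd_of_pow_eq_one h1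
    rw [hord] at hdvd
    have h2 : p ∣ p + 1 := Nat.dvd_of_mul_dvd_mul_left (by norm_num) hdvd
    have h3 : p ∣ 1 := (Nat.dvd_add_right (dvd_refl p)).mp h2
    exact hprime.one_lt.ne' (Nat.dvd_one.mp h3)
  have hxu : Commute x (x ^ (2 * (p + 1))) := (Commute.refl x).pow_right _
  have hxp := sl2_unipotent_centralizer_pow p x _ hxu hu hnc
  have h1 : (QuotientGroup.mk x : Matrix.ProjectiveSpecialLinearGroup (Fin 2) F) ^ p = 1 := by
    rw [← QuotientGroup.mk_pow]; exact (QuotientGroup.eq_one_iff _).mpr hxp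
  have hdvd := orderOf_dvd_of_pow_eq_one h1
  rw [hord] at hdvd
  have := Nat.le_of_dvd (by omega) hdvd
  omega

end Cfsg.Agent.helper12
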