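import Cfsg.Agent.Lib_helper12_PslCS1

set_option autoImplicit false
set_option linter.unusedSectionVars false

namespace Cfsg.Agent.helper12

open Matrix Cfsg

variable {F : Type*} [Field F] [Fintype F]

/-- preimage in SL2 of the centralizer of the image of `x` in PSL2 -/
def sl2Cplus (x : Matrix.SpecialLinearGroup (Fin 2) F) : Subgroup (Matrix.SpecialLinearGroup (Fin 2) F) :=
  (Subgroup.centralizer ({(QuotientGroup.mk x : Matrix.ProjectiveSpecialLinearGroup (Fin 2) F)} :
    Set (Matrix.ProjectiveSpecialLinearGroup (Fin 2) F))).comap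
    (QuotientGroup.mk' (Subgroup.center (Matrix.SpecialLinearGroup (Fin 2) F)))

theorem sl2Cplus_index (x : Matrix.SpecialLinearGroup (Fin 2) F) :
    (sl2Cplus x).index = (Subgroup.centralizer ({(QuotientGroup.mk x : Matrix.ProjectiveSpecialLinearGroup (Fin 2) F)} :
    Set (Matrix.ProjectiveSpecialLinearGroup (Fin 2) F))).index :=
  Subgroup.index_comap_of_surjective _ (QuotientGroup.mk'_surjective _)

theorem mem_sl2Cplus_iff (x g : Matrix.SpecialLinearGroup (Fin 2) F) :
    g ∈ sl2Cplus x ↔ g * x * g⁻¹ = x ∨ g * x * g⁻¹ = sl2NegOne * x := by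
  classical
  unfold sl2Cplus
  rw [Subgroup.mem_comap, Subgroup.mem_centralizer_singleton_iff]
  simp only [QuotientGroup.mk'_apply]
  have key : ((QuotientGroup.mk g : Matrix.ProjectiveSpecialLinearGroup (Fin 2) F) * QuotientGroup.mk x =
      QuotientGroup.mk x * QuotientGroup.mk g) ↔
      g * x * g⁻¹ * x⁻¹ ∈ Subgroup.center (Matrix.SpecialLinearGroup (Fin 2) F) := by
    rw [← QuotientGroup.eq_one_iff, QuotientGroup.mk_mul, QuotientGroup.mk_mul, QuotientGroup.mk_mul,
      QuotientGroup.mk_inv, QuotientGroup.mk_inv]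
    constructor
    · intro h
      rw [h]; group
    · intro h
      calc (QuotientGroup.mk g : Matrix.ProjectiveSpecialLinearGroup (Fin 2) F) * QuotientGroup.mk x
          = (QuotientGroup.mk g * QuotientGroup.mk x * (QuotientGroup.mk g)⁻¹ * (QuotientGroup.mk x)⁻¹) *
            (QuotientGroup.mk x * QuotientGroup.mk g) := by group
        _ = QuotientGroup.mk x * QuotientGroup.mk g := by rw [h, one_mul]
  rw [key]
  constructor
  · intro h
    rcases sl2_eq_of_mem_center _ h with h1 | h1
    · left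
      calc g * x * g⁻¹ = (g * x * g⁻¹ * x⁻¹) * x := by group
        _ = x := by rw [h1, one_mul]
    · right
      calc g * x * g⁻¹ = (g * x * g⁻¹ * x⁻¹) * x := by group
        _ = sl2NegOne * x := by rw [h1]
  · rintro (h | h)
    · rw [h, mul_inv_cancel]; exact Subgroup.one_mem _
    · rw [h, mul_assoc, mul_inv_cancel, mul_one]; exact sl2NegOne_mem_center

theorem sl2Cplus_eq_centralizer (h2 : (2 : F) ≠ 0) (x : Matrix.SpecialLinearGroup (Fin 2) F)
    (htr : (x : Matrix (Fin 2) (Fin 2) F).trace ≠ 0) :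
    sl2Cplus x = Subgroup.centralizer ({x} : Set (Matrix.SpecialLinearGroup (Fin 2) F)) := by
  ext g
  rw [mem_sl2Cplus_iff, sl2_mem_centralizer_singleton]
  constructor
  · rintro (h | h)
    · calc x * g = (g * x * g⁻¹) * g := by rw [h]
        _ = g * x := by group
    · exfalso
      apply htr
      have h1 := sl2_trace_conj x g
      rw [h, sl2NegOne_mul_trace] at h1
      have h3 : (2 : F) * (x : Matrix (Fin 2) (Fin 2) F).trace = 0 := by linear_combination -h1
      rcases mul_eq_zero.mp h3 with h4 | h4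
      · exact absurd h4 h2
      · exact h4
  · intro h
    left
    calc g * x * g⁻¹ = (x * g) * g⁻¹ := by rw [h]
      _ = x := by group

theorem sl2Cplus_eq_normalizer (hodd : Odd (Fintype.card F)) (x : Matrix.SpecialLinearGroup (Fin 2) F)
    (hx : x * x = sl2NegOne) :
    sl2Cplus x = Subgroup.normalizer ((Subgroup.centralizer ({x} : Set (Matrix.SpecialLinearGroup (Fin 2) F))) :
      Set (Matrix.SpecialLinearGroup (Fin 2) F)) := by
  have h2 : (2 : F) ≠ 0 := two_ne_zero_of_odd_card hodd
  have hD := sl2_trace_sq_ne_of_sq_neg_one hodd ((sl2_mul_self_eq_negOne_iff x).mp hx)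
  have hns := sl2_not_isScalar2_of_disc x hD
  ext g
  rw [mem_sl2Cplus_iff]
  constructor
  · rintro (h | h)
    · apply Subgroup.le_normalizer
      rw [sl2_mem_centralizer_singleton]
      calc x * g = (g * x * g⁻¹) * g := by rw [h]
        _ = g * x := by group
    · apply sl2_inverting_mem_normalizer hns
      rw [h, sl2_inv_of_mul_self hx]
  · intro h
    rcases sl2_normalizer_cases h2 hD h with h1 | h1
    · left
      have := sl2_mem_centralizer_singleton.mp h1
      calc g * x * g⁻¹ = (x * g) * g⁻¹ := by rw [this]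
        _ = x := by group
    · right
      rw [h1, sl2_inv_of_mul_self hx]

theorem sl2_index_mul_card (H : Subgroup (Matrix.SpecialLinearGroup (Fin 2) F)) :
    H.index * Nat.card H = Fintype.card F * (Fintype.card F ^ 2 - 1) := by
  rw [Subgroup.index_mul_card, card_SL2]

theorem class_size_arith (q : ℕ) (hq : q % 2 = 1) (h3 : 3 ≤ q) (idx : ℕ) :
    (idx * (2 * q) = q * (q ^ 2 - 1) → idx = (q ^ 2 - 1) / 2) ∧
    (idx * (q - 1) = q * (q ^ 2 - 1) → idx = q * (q + 1)) ∧
    (idx * (q + 1) = q * (q ^ 2 - 1) → idx = q * (q - 1)) ∧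
    (idx * (2 * (q - 1)) = q * (q ^ 2 - 1) → idx = q * (q + 1) / 2) ∧
    (idx * (2 * (q + 1)) = q * (q ^ 2 - 1) → idx = q * (q - 1) / 2) := by
  obtain ⟨k, rfl⟩ : ∃ k, q = 2 * k + 1 := ⟨q / 2, by omega⟩
  have hk : 1 ≤ k := by omega
  have e1 : (2 * k + 1) ^ 2 - 1 = 4 * (k * k) + 4 * k := by
    have : (2 * k + 1) ^ 2 = 4 * (k * k) + 4 * k + 1 := by ring
    omega
  have e2 : 2 * k + 1 - 1 = 2 * k := by omega
  rw [e1, e2]
  refine ⟨?_, ?_, ?_, ?_, ?_⟩
  · intro h
    have h' : idx * (2 * (2 * k + 1)) = (2 * (k * k) + 2 * k) * (2 * (2 * k + 1)) := by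
      rw [h]; ring
    have := Nat.eq_of_mul_eq_mul_right (by omega) h'
    rw [this]
    omega
  · intro h
    have h' : idx * (2 * k) = ((2 * k + 1) * (2 * k + 1 + 1)) * (2 * k) := by
      rw [h]; ring
    exact Nat.eq_of_mul_eq_mul_right (by omega) h'
  · intro h
    have h' : idx * (2 * k + 1 + 1) = ((2 * k + 1) * (2 * k)) * (2 * k + 1 + 1) := by
      rw [h]; ring
    exact Nat.eq_of_mul_eq_mul_right (by omega) h'
  · intro h
    have h' : idx * (2 * (2 * k)) = ((2 * k + 1) * (k + 1)) * (2 * (2 * k)) := by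
      rw [h]; ring
    have := Nat.eq_of_mul_eq_mul_right (by omega) h'
    rw [this]
    have e : (2 * k + 1) * (2 * k + 1 + 1) = (2 * k + 1) * (k + 1) * 2 := by ring
    rw [e, Nat.mul_div_cancel _ (by norm_num)]
  · intro h
    have h' : idx * (2 * (2 * k + 1 + 1)) = ((2 * k + 1) * k) * (2 * (2 * k + 1 + 1)) := by
      rw [h]; ring
    have := Nat.eq_of_mul_eq_mul_right (by omega) h'
    rw [this]
    have e : (2 * k + 1) * (2 * k) = (2 * k + 1) * k * 2 := by ring
    rw [e, Nat.mul_div_cancel _ (by norm_num)]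

end Cfsg.Agent.helper12
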