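import Cfsg.Agent.Lib_helper12_PslCS2

set_option autoImplicit false
set_option linter.unusedSectionVars false

namespace Cfsg.Agent.helper12

open Matrix Cfsg

variable {F : Type*} [Field F] [Fintype F]

/-- index of the centralizer of the image of `x` in PSL2 -/
noncomputable def pslIdx (x : Matrix.SpecialLinearGroup (Fin 2) F) : ℕ :=
  (Subgroup.centralizer ({(QuotientGroup.mk x : Matrix.ProjectiveSpecialLinearGroup (Fin 2) F)} :
    Set (Matrix.ProjectiveSpecialLinearGroup (Fin 2) F))).index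

theorem pslIdx_scalar (x : Matrix.SpecialLinearGroup (Fin 2) F) (hs : IsScalar2 (x : Matrix (Fin 2) (Fin 2) F)) :
    pslIdx x = 1 := by
  classical
  unfold pslIdx
  have hc : x ∈ Subgroup.center (Matrix.SpecialLinearGroup (Fin 2) F) := by
    by_contra h
    exact sl2_not_isScalar2_of_not_mem_center x h hs
  have h1 : (QuotientGroup.mk x : Matrix.ProjectiveSpecialLinearGroup (Fin 2) F) = 1 :=
    (QuotientGroup.eq_one_iff x).mpr hc
  rw [h1]
  have : Subgroup.centralizer ({(1 : Matrix.ProjectiveSpecialLinearGroup (Fin 2) F)} :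
      Set (Matrix.ProjectiveSpecialLinearGroup (Fin 2) F)) = ⊤ := by
    ext g
    simp [Subgroup.mem_centralizer_singleton_iff]
  rw [this, Subgroup.index_top]

theorem pslIdx_mul_card (x : Matrix.SpecialLinearGroup (Fin 2) F) :
    pslIdx x * Nat.card (sl2Cplus x) = Fintype.card F * (Fintype.card F ^ 2 - 1) := by
  unfold pslIdx
  rw [← sl2Cplus_index]
  exact sl2_index_mul_card _

theorem card_ge_three_of_odd (hodd : Odd (Fintype.card F)) : 3 ≤ Fintype.card F := by
  have h1 : 1 < Fintype.card F := Fintype.one_lt_card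
  obtain ⟨k, hk⟩ := hodd
  omega

theorem pslIdx_parabolic (hodd : Odd (Fintype.card F)) (x : Matrix.SpecialLinearGroup (Fin 2) F)
    (hns : ¬ IsScalar2 (x : Matrix (Fin 2) (Fin 2) F)) (htr : (x : Matrix (Fin 2) (Fin 2) F).trace ^ 2 = 4) :
    pslIdx x = (Fintype.card F ^ 2 - 1) / 2 := by
  have h2 : (2 : F) ≠ 0 := two_ne_zero_of_odd_card hodd
  have h0 : (x : Matrix (Fin 2) (Fin 2) F).trace ≠ 0 := by
    intro h
    rw [h] at htr
    apply four_ne_zero_of_odd_card hodd
    rw [← htr]; ring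
  have h := pslIdx_mul_card x
  rw [sl2Cplus_eq_centralizer h2 x h0, card_sl2_centralizer_parabolic hodd x hns htr] at h
  exact (class_size_arith _ (Nat.odd_iff.mp hodd) (card_ge_three_of_odd hodd) _).1 h

theorem pslIdx_split (hodd : Odd (Fintype.card F)) (x : Matrix.SpecialLinearGroup (Fin 2) F)
    (hD : (x : Matrix (Fin 2) (Fin 2) F).trace ^ 2 ≠ 4) (h0 : (x : Matrix (Fin 2) (Fin 2) F).trace ≠ 0)
    (hE : ¬ NoEigen2 (x : Matrix (Fin 2) (Fin 2) F)) :
    pslIdx x = Fintype.card F * (Fintype.card F + 1) := by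
  have h2 : (2 : F) ≠ 0 := two_ne_zero_of_odd_card hodd
  have h := pslIdx_mul_card x
  rw [sl2Cplus_eq_centralizer h2 x h0, card_sl2_centralizer_split hodd x hD hE] at h
  exact (class_size_arith _ (Nat.odd_iff.mp hodd) (card_ge_three_of_odd hodd) _).2.1 h

theorem pslIdx_nonsplit (hodd : Odd (Fintype.card F)) (x : Matrix.SpecialLinearGroup (Fin 2) F)
    (h0 : (x : Matrix (Fin 2) (Fin 2) F).trace ≠ 0)
    (hE : NoEigen2 (x : Matrix (Fin 2) (Fin 2) F)) :
    pslIdx x = Fintype.card F * (Fintype.card F - 1) := by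
  have h2 : (2 : F) ≠ 0 := two_ne_zero_of_odd_card hodd
  have h := pslIdx_mul_card x
  rw [sl2Cplus_eq_centralizer h2 x h0, card_sl2_centralizer_noEigen hodd x hE] at h
  exact (class_size_arith _ (Nat.odd_iff.mp hodd) (card_ge_three_of_odd hodd) _).2.2.1 h

theorem pslIdx_involution (hodd : Odd (Fintype.card F)) (x : Matrix.SpecialLinearGroup (Fin 2) F)
    (hx : x * x = sl2NegOne) :
    (Fintype.card F % 4 = 1 → pslIdx x = Fintype.card F * (Fintype.card F + 1) / 2) ∧
    (Fintype.card F % 4 = 3 → pslIdx x = Fintype.card F * (Fintype.card F - 1) / 2) := by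
  have hxm := (sl2_mul_self_eq_negOne_iff x).mp hx
  have hD := sl2_trace_sq_ne_of_sq_neg_one hodd hxm
  have h := pslIdx_mul_card x
  rw [sl2Cplus_eq_normalizer hodd x hx, (sl2_torus_normalizer_facts hodd x hD).1] at h
  constructor
  · intro h4
    rw [card_sl2_centralizer_sq_neg_one_split hodd h4 hxm] at h
    exact (class_size_arith _ (Nat.odd_iff.mp hodd) (card_ge_three_of_odd hodd) _).2.2.2.1 h
  · intro h4
    rw [card_sl2_centralizer_sq_neg_one_nonsplit hodd h4 hxm] at h
    exact (class_size_arith _ (Nat.odd_iff.mp hodd) (card_ge_three_of_odd hodd) _).2.2.2.2 h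

theorem sl2_mul_self_of_trace_zero (x : Matrix.SpecialLinearGroup (Fin 2) F)
    (h0 : (x : Matrix (Fin 2) (Fin 2) F).trace = 0) : x * x = sl2NegOne := by
  rw [sl2_mul_self_eq_negOne_iff, sl2_cayley_hamilton, h0]
  simp

/-- all class sizes of PSL2(q), q odd -/
theorem pslIdx_cases (hodd : Odd (Fintype.card F)) (x : Matrix.SpecialLinearGroup (Fin 2) F) :
    pslIdx x = 1 ∨ pslIdx x = (Fintype.card F ^ 2 - 1) / 2 ∨
    pslIdx x = Fintype.card F * (Fintype.card F + 1) ∨ pslIdx x = Fintype.card F * (Fintype.card F - 1) ∨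
    (Fintype.card F % 4 = 1 ∧ pslIdx x = Fintype.card F * (Fintype.card F + 1) / 2) ∨
    (Fintype.card F % 4 = 3 ∧ pslIdx x = Fintype.card F * (Fintype.card F - 1) / 2) := by
  by_cases hs : IsScalar2 (x : Matrix (Fin 2) (Fin 2) F)
  · left; exact pslIdx_scalar x hs
  by_cases htr : (x : Matrix (Fin 2) (Fin 2) F).trace ^ 2 = 4
  · right; left; exact pslIdx_parabolic hodd x hs htr
  by_cases h0 : (x : Matrix (Fin 2) (Fin 2) F).trace = 0
  · have hx := sl2_mul_self_of_trace_zero x h0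
    have h4 : Fintype.card F % 4 = 1 ∨ Fintype.card F % 4 = 3 := by
      have := Nat.odd_iff.mp hodd
      omega
    rcases h4 with h4 | h4
    · right; right; right; right; left
      exact ⟨h4, (pslIdx_involution hodd x hx).1 h4⟩
    · right; right; right; right; right
      exact ⟨h4, (pslIdx_involution hodd x hx).2 h4⟩
  by_cases hE : NoEigen2 (x : Matrix (Fin 2) (Fin 2) F)
  · right; right; right; left
    exact pslIdx_nonsplit hodd x h0 hE
  · right; right; left
    exact pslIdx_split hodd x htr h0 hE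

/-- witnesses -/
theorem exists_pslIdx_parabolic (hodd : Odd (Fintype.card F)) :
    ∃ x : Matrix.SpecialLinearGroup (Fin 2) F, pslIdx x = (Fintype.card F ^ 2 - 1) / 2 := by
  refine ⟨sl2Upper 1 (one_mul 1) 1, pslIdx_parabolic hodd _ ?_ ?_⟩
  · intro hs
    have := hs.1
    simp [sl2Upper] at this
  · simp [sl2Upper, Matrix.trace_fin_two]; norm_num

theorem exists_unit_pow_four_ne (h7 : 7 ≤ Fintype.card F) : ∃ a : Fˣ, (a : F) ^ 4 ≠ 1 := by
  classical
  obtain ⟨a, ha⟩ := IsCyclic.exists_generator (α := Fˣ)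
  refine ⟨a, ?_⟩
  intro h4
  have hord : orderOf a = Nat.card Fˣ := orderOf_eq_card_of_forall_mem_zpowers ha
  rw [Nat.card_eq_fintype_card, Fintype.card_units] at hord
  have h4' : a ^ 4 = 1 := by
    apply Units.ext
    rw [Units.val_pow_eq_pow_val, h4, Units.val_one]
  have := Nat.le_of_dvd (by norm_num) (orderOf_dvd_of_pow_eq_one h4')
  omega

theorem exists_pslIdx_split (hodd : Odd (Fintype.card F)) (h7 : 7 ≤ Fintype.card F) :
    ∃ x : Matrix.SpecialLinearGroup (Fin 2) F, pslIdx x = Fintype.card F * (Fintype.card F + 1) := by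
  classical
  obtain ⟨a, ha4⟩ := exists_unit_pow_four_ne h7
  have ha2 : (a : F) ^ 2 ≠ 1 := by
    intro h
    apply ha4
    calc (a : F) ^ 4 = ((a : F) ^ 2) ^ 2 := by ring
      _ = 1 := by rw [h]; ring
  refine ⟨sl2UT a 0, pslIdx_split hodd _ (sl2UT_trace_sq_ne a ha2 0) ?_ (sl2UT_not_noEigen a 0)⟩
  rw [sl2UT_trace]
  intro h
  apply ha4
  have haa : (a : F) * ((a⁻¹ : Fˣ) : F) = 1 := by rw [← Units.val_mul, mul_inv_cancel, Units.val_one]
  have h1 : (a : F) ^ 2 = -1 := by
    linear_combination (a : F) * h - haa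
  calc (a : F) ^ 4 = ((a : F) ^ 2) ^ 2 := by ring
    _ = 1 := by rw [h1]; ring

theorem exists_pslIdx_nonsplit (hodd : Odd (Fintype.card F)) (h7 : 7 ≤ Fintype.card F) :
    ∃ x : Matrix.SpecialLinearGroup (Fin 2) F, pslIdx x = Fintype.card F * (Fintype.card F - 1) := by
  classical
  obtain ⟨g₀, hord⟩ := Cfsg.Agent.helper11.Torus.exists_orderOf_eq_of_dvd_add_one (F := F) (dvd_refl (Fintype.card F + 1))
  have hne := sl2_noEigen_of_orderOf g₀ hord
  refine ⟨g₀, pslIdx_nonsplit hodd g₀ ?_ hne⟩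
  intro h0
  have hx := sl2_mul_self_of_trace_zero g₀ h0
  have h4 : g₀ ^ 4 = 1 := by
    calc g₀ ^ 4 = (g₀ * g₀) * (g₀ * g₀) := by simp only [pow_succ, pow_zero, one_mul, mul_assoc]
      _ = 1 := by rw [hx, sl2NegOne_mul_self]
  have := Nat.le_of_dvd (by norm_num) (orderOf_dvd_of_pow_eq_one h4)
  omega

end Cfsg.Agent.helper12
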