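import Cfsg.Agent.Lib_helper12_PslChars
import Cfsg.Agent.Lib_helper12_Cusp14

set_option autoImplicit false

namespace Cfsg.Agent.helper12

open Matrix Cfsg

theorem nat_sq_sub_one (q : ℕ) (hq : 1 ≤ q) : q ^ 2 - 1 = (q - 1) * (q + 1) := by
  obtain ⟨m, rfl⟩ : ∃ m, q = m + 1 := ⟨q - 1, by omega⟩
  have : (m + 1) ^ 2 = (m + 1 - 1) * (m + 1 + 1) + 1 := by
    simp only [Nat.add_sub_cancel]
    ring
  omega

/-- the degree graph read off from the degrees -/
theorem degree_graph_arith (D : Set ℕ) (q t k : ℕ) (ht : t.Prime) (hk : q = t ^ k) (hq : 4 ≤ q)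
    (H1 : ∀ d ∈ D, d = 1 ∨ d = q ∨ d ∣ q + 1 ∨ d ∣ q - 1) (Hq : q ∈ D) (Hp : q + 1 ∈ D) (Hm : q - 1 ∈ D) :
    {p | p.Prime ∧ ∃ d ∈ D, p ∣ d} = {r | r.Prime ∧ r ∣ q * (q ^ 2 - 1)} ∧
    ∀ r s : ℕ, (r ≠ s ∧ r.Prime ∧ s.Prime ∧ ∃ d ∈ D, r * s ∣ d) ↔
      (r ≠ s ∧ r.Prime ∧ s.Prime ∧ ((r ∣ q + 1 ∧ s ∣ q + 1) ∨ (r ∣ q - 1 ∧ s ∣ q - 1))) := by
  have hfac := nat_sq_sub_one q (by omega)
  constructor
  · ext r
    simp only [Set.mem_ofPred_eq]
    constructor
    · rintro ⟨hr, d, hd, hrd⟩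
      refine ⟨hr, ?_⟩
      rw [hfac]
      rcases H1 d hd with h | h | h | h
      · rw [h] at hrd
        exact absurd (Nat.dvd_one.mp hrd) hr.one_lt.ne'
      · rw [h] at hrd
        exact Dvd.dvd.mul_right hrd _
      · exact Dvd.dvd.mul_left (Dvd.dvd.mul_left (hrd.trans h) _) _
      · exact Dvd.dvd.mul_left (Dvd.dvd.mul_right (hrd.trans h) _) _
    · rintro ⟨hr, hdiv⟩
      refine ⟨hr, ?_⟩
      rw [hfac] at hdiv
      rcases (Nat.Prime.dvd_mul hr).mp hdiv with h | h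
      · exact ⟨q, Hq, h⟩
      · rcases (Nat.Prime.dvd_mul hr).mp h with h | h
        · exact ⟨q - 1, Hm, h⟩
        · exact ⟨q + 1, Hp, h⟩
  · intro r s
    constructor
    · rintro ⟨hne, hr, hs, d, hd, hrs⟩
      refine ⟨hne, hr, hs, ?_⟩
      have hrd : r ∣ d := (Dvd.intro _ rfl).trans hrs
      have hsd : s ∣ d := (Dvd.intro_left _ rfl).trans hrs
      rcases H1 d hd with h | h | h | h
      · rw [h] at hrd
        exact absurd (Nat.dvd_one.mp hrd) hr.one_lt.ne'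
      · exfalso
        rw [h, hk] at hrd hsd
        have h1 := (Nat.prime_dvd_prime_iff_eq hr ht).mp (hr.dvd_of_dvd_pow hrd)
        have h2 := (Nat.prime_dvd_prime_iff_eq hs ht).mp (hs.dvd_of_dvd_pow hsd)
        exact hne (h1.trans h2.symm)
      · left; exact ⟨hrd.trans h, hsd.trans h⟩
      · right; exact ⟨hrd.trans h, hsd.trans h⟩
    · rintro ⟨hne, hr, hs, h⟩
      refine ⟨hne, hr, hs, ?_⟩
      have hcop : Nat.Coprime r s := (Nat.coprime_primes hr hs).mpr hne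
      rcases h with ⟨h1, h2⟩ | ⟨h1, h2⟩
      · exact ⟨q + 1, Hp, hcop.mul_dvd_of_dvd_of_dvd h1 h2⟩
      · exact ⟨q - 1, Hm, hcop.mul_dvd_of_dvd_of_dvd h1 h2⟩

variable {F : Type*} [Field F] [Fintype F] [DecidableEq F]

/-- the degrees of SL2 divide `q + 1` or `q - 1`, or are `1` or `q` -/
theorem sl2_charDegree_dvd {ψ : Matrix.SpecialLinearGroup (Fin 2) F → ℂ}
    (hψ : IsIrrCharacter (Matrix.SpecialLinearGroup (Fin 2) F) ψ) :
    charDegree ψ = 1 ∨ charDegree ψ = Fintype.card F ∨ charDegree ψ ∣ Fintype.card F + 1 ∨ charDegree ψ ∣ Fintype.card F - 1 := by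
  rcases sl2_charDegree_cases hψ with h | h | h | h | h | h
  · left; exact h
  · right; left; exact h
  · right; right; left; rw [h]
  · right; right; left; exact Dvd.intro_left 2 h
  · right; right; right
    have : charDegree ψ = Fintype.card F - 1 := by omega
    rw [this]
  · right; right; right
    have : 2 * charDegree ψ = Fintype.card F - 1 := by omega
    exact Dvd.intro_left 2 this

theorem exists_mulChar_sq_ne_one (hq : 5 < Fintype.card F) : ∃ γ : MulChar F ℂ, γ ^ 2 ≠ 1 ∧ γ (-1) = 1 := by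
  obtain ⟨ω, hω⟩ := IsCyclic.exists_generator (α := MulChar F ℂ)
  have hord : orderOf ω = Fintype.card F - 1 := by
    rw [orderOf_eq_card_of_forall_mem_zpowers hω]
    obtain ⟨e⟩ := MulChar.mulEquiv_units F ℂ
    rw [Nat.card_congr e.toEquiv, Nat.card_eq_fintype_card, Fintype.card_units]
  refine ⟨ω ^ 2, ?_, ?_⟩
  · intro h
    rw [← pow_mul] at h
    have h1 := orderOf_dvd_of_pow_eq_one h
    rw [hord] at h1
    have := Nat.le_of_dvd (by norm_num) h1
    omega
  · rw [MulChar.pow_apply' ω two_ne_zero, ← map_pow]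
    simp

theorem exists_torus_hom_sq_ne_one (hodd : Odd (Fintype.card F)) (hq : 3 < Fintype.card F)
    {b : Matrix.SpecialLinearGroup (Fin 2) F} (hb : NoEigen2 (b : Matrix (Fin 2) (Fin 2) F))
    (hC : IsCyclic (Subgroup.centralizer ({b} : Set (Matrix.SpecialLinearGroup (Fin 2) F)))) :
    ∃ θ : Subgroup.centralizer ({b} : Set (Matrix.SpecialLinearGroup (Fin 2) F)) →* ℂˣ,
      (∃ c, θ c ^ 2 ≠ 1) ∧ θ ⟨sl2NegOne, sl2NegOne_mem_centralizer _⟩ = 1 := by
  obtain ⟨e⟩ := exists_monoidHom_mulEquiv_of_isCyclic hC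
  obtain ⟨g, hg⟩ := hC.exists_generator
  have hord : orderOf (e.symm g) = Fintype.card F + 1 := by
    rw [MulEquiv.orderOf_eq, orderOf_eq_card_of_forall_mem_zpowers hg, card_sl2_centralizer_noEigen hodd b hb]
  refine ⟨(e.symm g) ^ 2, ?_, ?_⟩
  · by_contra hcon
    push Not at hcon
    have h1 : ((e.symm g) ^ 2) ^ 2 = 1 := by
      ext c
      rw [MonoidHom.pow_apply, hcon c, MonoidHom.one_apply]
    rw [← pow_mul] at h1
    have h2 := orderOf_dvd_of_pow_eq_one h1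
    rw [hord] at h2
    have := Nat.le_of_dvd (by norm_num) h2
    omega
  · rw [MonoidHom.pow_apply, ← map_pow]
    have : (⟨sl2NegOne, sl2NegOne_mem_centralizer _⟩ : Subgroup.centralizer ({b} : Set (Matrix.SpecialLinearGroup (Fin 2) F))) ^ 2 = 1 := by
      rw [sq]; exact Subtype.ext sl2NegOne_mul_self
    rw [this, map_one]

/-- irreducible characters of SL2 of degrees `q`, `q + 1`, `q - 1` trivial on the centre, `q ≥ 7` odd -/
theorem sl2_exists_irr_center_trivial (hodd : Odd (Fintype.card F)) (hq : 5 < Fintype.card F) :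
    ∀ d : ℕ, d = Fintype.card F ∨ d = Fintype.card F + 1 ∨ d = Fintype.card F - 1 →
    ∃ χ : IrrCharacter (Matrix.SpecialLinearGroup (Fin 2) F),
      (∀ z ∈ Subgroup.center (Matrix.SpecialLinearGroup (Fin 2) F),
        (χ : Matrix.SpecialLinearGroup (Fin 2) F → ℂ) z = (χ : Matrix.SpecialLinearGroup (Fin 2) F → ℂ) 1) ∧
      charDegree (χ : Matrix.SpecialLinearGroup (Fin 2) F → ℂ) = d := by
  have h2 : (2 : F) ≠ 0 := two_ne_zero_of_odd_card hodd
  have hq1 : 1 ≤ Fintype.card F := by omega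
  rintro d (rfl | rfl | rfl)
  · exact ⟨⟨sl2St, sl2St_irr⟩, fun z hz => sl2St_center z hz, helper24.charDegree_natCast _ _ sl2St_one⟩
  · obtain ⟨γ, hγ, hγ1⟩ := exists_mulChar_sq_ne_one hq
    refine ⟨⟨sl2R γ, (sl2_indBorel_irr_iff γ).mpr hγ⟩, ?_, ?_⟩
    · intro z hz
      rcases sl2_eq_of_mem_center z hz with h | h
      · rw [h]
      · show sl2R γ z = sl2R γ 1
        rw [h, ← sl2UT_neg_one_zero, sl2R_sl2UT_central γ (-1 : Fˣ) (units_neg_one_sq (F := F)), sl2R_one_apply,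
          Units.val_neg, Units.val_one, hγ1, mul_one]
    · apply helper24.charDegree_natCast
      show sl2R γ 1 = _
      rw [sl2R_one_apply]
      push_cast
      ring
  · obtain ⟨C, hC, hcard, _⟩ := sl2_nonsplit_torus hodd
    obtain ⟨b, hb, hord, rfl⟩ := sl2_cyclic_torus_eq hodd C hC hcard
    obtain ⟨θ, ⟨c₀, hc₀⟩, hθz⟩ := exists_torus_hom_sq_ne_one hodd (by omega) hb hC
    have hz1 : unitFun θ ⟨sl2NegOne, sl2NegOne_mem_centralizer _⟩ = 1 := by
      unfold unitFun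
      rw [hθz, Units.val_one]
    obtain ⟨α, hα⟩ := exists_mulChar_negOne h2 _ (unitFun_negOne_sq θ)
    refine ⟨⟨cuspF α θ, cuspF_irr hodd α hb θ hα c₀ hc₀⟩, ?_, ?_⟩
    · intro z hz
      rcases sl2_eq_of_mem_center z hz with h | h
      · rw [h]
      · show cuspF α θ z = cuspF α θ 1
        rw [h, cuspF_negOne hodd α hb θ hα, cuspF_one hodd α hb θ, hz1, one_mul]
    · apply helper24.charDegree_natCast
      show cuspF α θ 1 = _
      rw [cuspF_one hodd α hb θ, Nat.cast_sub hq1, Nat.cast_one]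

end Cfsg.Agent.helper12
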