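import Mathlib

set_option autoImplicit false

namespace Cfsg.Agent.helper12

open Polynomial

section deg
variable {F : Type*} [Field F]

theorem lawdeg_lt_mul {c b : F[X]} (hc : 0 < degree c) (hb : b ≠ 0) : degree b < degree (c * b) := by
  have hc0 : c ≠ 0 := by
    rintro rfl
    simp at hc
  rw [degree_mul, degree_eq_natDegree hc0, degree_eq_natDegree hb]
  rw [degree_eq_natDegree hc0] at hc
  have : 0 < natDegree c := by exact_mod_cast hc
  norm_cast
  omega

theorem lawdeg_X_pow (m : ℕ) (hm : 0 < m) : 0 < degree (X ^ m : F[X]) := by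
  rw [degree_X_pow]
  exact_mod_cast hm

theorem lawdeg_X_pow_sub (a b : ℕ) (ha : 0 < a) (hb : 0 < b) (hab : a ≠ b) :
    0 < degree (X ^ a - X ^ b : F[X]) := by
  rcases lt_or_gt_of_ne hab with h | h
  · rw [degree_sub_eq_right_of_degree_lt (by rw [degree_X_pow, degree_X_pow]; exact_mod_cast h)]
    exact lawdeg_X_pow b hb
  · rw [degree_sub_eq_left_of_degree_lt (by rw [degree_X_pow, degree_X_pow]; exact_mod_cast h)]
    exact lawdeg_X_pow a ha

theorem ne_zero_of_degree_lt {a b : F[X]} (h : degree a < degree b) : b ≠ 0 := by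
  rintro rfl
  simp at h

end deg

section inv
variable {F : Type*} [Field F]

/-- invariant of the column `(x, y)` after a reduced word starting with the given letter -/
def LawInv (L : List (ℕ × Bool)) (x y : F[X]) : Prop :=
  match L with
  | [] => x = 0 ∧ y = 1
  | (j, true) :: _ => ∃ x' y' : F[X], degree x' < degree y' ∧ x = x' + X ^ (j + 1) * y' ∧ y = y'
  | (j, false) :: _ => ∃ x' y' : F[X], degree y' < degree x' ∧ x = x' ∧ y = y' - X ^ (j + 1) * x'

theorem lawInv_step_true (L : List (ℕ × Bool)) (i : ℕ) (x y : F[X])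
    (hred : FreeGroup.IsReduced ((i, true) :: L)) (h : LawInv L x y) :
    LawInv ((i, true) :: L) ((1 + X ^ (i + 1) * X ^ (i + 1)) * x + X ^ (i + 1) * y) (X ^ (i + 1) * x + y) := by
  refine ⟨x, X ^ (i + 1) * x + y, ?_, by ring, rfl⟩
  match L, hred, h with
  | [], _, h =>
    obtain ⟨rfl, rfl⟩ := h
    simp
  | (j, true) :: L', _, h =>
    obtain ⟨x₁, y₁, hd, hx, hy⟩ := h
    have hy1 : y₁ ≠ 0 := ne_zero_of_degree_lt hd
    have h1 : degree y₁ < degree (X ^ (j + 1) * y₁) := lawdeg_lt_mul (lawdeg_X_pow _ (Nat.succ_pos j)) hy1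
    have h2 : degree x = degree (X ^ (j + 1) * y₁) := by
      rw [hx]; exact degree_add_eq_right_of_degree_lt (lt_trans hd h1)
    have h3 : degree y < degree x := by rw [hy, h2]; exact h1
    have hx0 : x ≠ 0 := ne_zero_of_degree_lt h3
    have h4 : degree x < degree (X ^ (i + 1) * x) := lawdeg_lt_mul (lawdeg_X_pow _ (Nat.succ_pos i)) hx0
    rw [degree_add_eq_left_of_degree_lt (lt_trans h3 h4)]
    exact h4
  | (j, false) :: L', hred, h =>
    obtain ⟨x₁, y₁, hd, hx, hy⟩ := h
    have hij : i ≠ j := by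
      intro hij
      have := (FreeGroup.isReduced_cons_cons.mp hred).1 hij
      simp at this
    have hx1 : x₁ ≠ 0 := ne_zero_of_degree_lt hd
    have e : X ^ (i + 1) * x + y = (X ^ (i + 1) - X ^ (j + 1)) * x₁ + y₁ := by rw [hx, hy]; ring
    have h1 : degree x₁ < degree ((X ^ (i + 1) - X ^ (j + 1)) * x₁) :=
      lawdeg_lt_mul (lawdeg_X_pow_sub _ _ (Nat.succ_pos i) (Nat.succ_pos j) (by omega)) hx1
    rw [e, hx, degree_add_eq_left_of_degree_lt (lt_trans hd h1)]
    exact h1

theorem lawInv_step_false (L : List (ℕ × Bool)) (i : ℕ) (x y : F[X])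
    (hred : FreeGroup.IsReduced ((i, false) :: L)) (h : LawInv L x y) :
    LawInv ((i, false) :: L) (x - X ^ (i + 1) * y) (-(X ^ (i + 1)) * x + (1 + X ^ (i + 1) * X ^ (i + 1)) * y) := by
  refine ⟨x - X ^ (i + 1) * y, y, ?_, rfl, by ring⟩
  match L, hred, h with
  | [], _, h =>
    obtain ⟨rfl, rfl⟩ := h
    simp only [mul_one, zero_sub, degree_neg, degree_one, degree_X_pow]
    exact_mod_cast Nat.succ_pos i
  | (j, false) :: L', _, h =>
    obtain ⟨x₁, y₁, hd, hx, hy⟩ := h
    have hx1 : x₁ ≠ 0 := ne_zero_of_degree_lt hd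
    have h1 : degree x₁ < degree (X ^ (j + 1) * x₁) := lawdeg_lt_mul (lawdeg_X_pow _ (Nat.succ_pos j)) hx1
    have h2 : degree y = degree (X ^ (j + 1) * x₁) := by
      rw [hy]; exact degree_sub_eq_right_of_degree_lt (lt_trans hd h1)
    have h3 : degree x < degree y := by rw [hx, h2]; exact h1
    have hy0 : y ≠ 0 := ne_zero_of_degree_lt h3
    have h4 : degree y < degree (X ^ (i + 1) * y) := lawdeg_lt_mul (lawdeg_X_pow _ (Nat.succ_pos i)) hy0
    rw [degree_sub_eq_right_of_degree_lt (lt_trans h3 h4)]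
    exact h4
  | (j, true) :: L', hred, h =>
    obtain ⟨x₁, y₁, hd, hx, hy⟩ := h
    have hij : i ≠ j := by
      intro hij
      have := (FreeGroup.isReduced_cons_cons.mp hred).1 hij
      simp at this
    have hy1 : y₁ ≠ 0 := ne_zero_of_degree_lt hd
    have e : x - X ^ (i + 1) * y = x₁ + (X ^ (j + 1) - X ^ (i + 1)) * y₁ := by rw [hx, hy]; ring
    have h1 : degree y₁ < degree ((X ^ (j + 1) - X ^ (i + 1)) * y₁) :=
      lawdeg_lt_mul (lawdeg_X_pow_sub _ _ (Nat.succ_pos j) (Nat.succ_pos i) (by omega)) hy1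
    rw [e, hy, degree_add_eq_right_of_degree_lt (lt_trans hd h1)]
    exact h1

theorem lawInv_fst_ne_zero (L : List (ℕ × Bool)) (hL : L ≠ []) (x y : F[X]) (h : LawInv L x y) : x ≠ 0 := by
  match L, hL, h with
  | (j, true) :: L', _, h =>
    obtain ⟨x₁, y₁, hd, hx, hy⟩ := h
    have hy1 : y₁ ≠ 0 := ne_zero_of_degree_lt hd
    have h1 : degree y₁ < degree (X ^ (j + 1) * y₁) := lawdeg_lt_mul (lawdeg_X_pow _ (Nat.succ_pos j)) hy1
    have h2 : degree x = degree (X ^ (j + 1) * y₁) := by
      rw [hx]; exact degree_add_eq_right_of_degree_lt (lt_trans hd h1)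
    intro hx0
    rw [hx0, degree_zero] at h2
    rw [← h2] at h1
    simp at h1
  | (j, false) :: L', _, h =>
    obtain ⟨x₁, y₁, hd, hx, hy⟩ := h
    rw [hx]
    exact ne_zero_of_degree_lt hd

end inv

/-- generator matrices `[[1 + f², f], [f, 1]]`, `f = X^(i+1)` -/
noncomputable def lawGen (R : Type*) [CommRing R] (i : ℕ) : Matrix.SpecialLinearGroup (Fin 2) R[X] :=
  ⟨!![1 + X ^ (i + 1) * X ^ (i + 1), X ^ (i + 1); X ^ (i + 1), 1], by
    rw [Matrix.det_fin_two]; simp⟩

theorem lawGen_coe (R : Type*) [CommRing R] (i : ℕ) :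
    (lawGen R i : Matrix (Fin 2) (Fin 2) R[X]) = !![1 + X ^ (i + 1) * X ^ (i + 1), X ^ (i + 1); X ^ (i + 1), 1] := rfl

theorem lawGen_inv_coe (R : Type*) [CommRing R] (i : ℕ) :
    ((lawGen R i)⁻¹ : Matrix.SpecialLinearGroup (Fin 2) R[X]).1 = !![1, -X ^ (i + 1); -X ^ (i + 1), 1 + X ^ (i + 1) * X ^ (i + 1)] := by
  rw [Matrix.SpecialLinearGroup.SL2_inv_expl]
  simp only [lawGen]
  ext i j
  fin_cases i <;> fin_cases j <;> simp

section main
variable {F : Type*} [Field F]

theorem lawInv_of_reduced (L : List (ℕ × Bool)) (hL : FreeGroup.IsReduced L) :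
    LawInv L ((FreeGroup.lift (lawGen F) (FreeGroup.mk L)).1 0 1) ((FreeGroup.lift (lawGen F) (FreeGroup.mk L)).1 1 1) := by
  induction L with
  | nil =>
    have : (FreeGroup.mk ([] : List (ℕ × Bool))) = 1 := rfl
    rw [this, map_one]
    exact ⟨by simp, by simp⟩
  | cons a L ih =>
    have hL' : FreeGroup.IsReduced L := hL.infix ⟨[a], [], by simp⟩
    have ih' := ih hL'
    obtain ⟨i, b⟩ := a
    have hmul : FreeGroup.mk ((i, b) :: L) = FreeGroup.mk [(i, b)] * FreeGroup.mk L := by
      rw [FreeGroup.mul_mk]; rfl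
    cases b
    · have e : FreeGroup.mk [(i, false)] = (FreeGroup.of i)⁻¹ := rfl
      have := lawInv_step_false L i _ _ hL ih'
      rw [hmul, e, map_mul, map_inv, FreeGroup.lift_apply_of]
      convert this using 1
      · rw [Matrix.SpecialLinearGroup.coe_mul, Matrix.mul_apply, Fin.sum_univ_two, lawGen_inv_coe]
        simp
        ring
      · rw [Matrix.SpecialLinearGroup.coe_mul, Matrix.mul_apply, Fin.sum_univ_two, lawGen_inv_coe]
        simp
    · have e : FreeGroup.mk [(i, true)] = FreeGroup.of i := rfl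
      have := lawInv_step_true L i _ _ hL ih'
      rw [hmul, e, map_mul, FreeGroup.lift_apply_of]
      convert this using 1
      · rw [Matrix.SpecialLinearGroup.coe_mul, Matrix.mul_apply, Fin.sum_univ_two, lawGen_coe]
        simp
      · rw [Matrix.SpecialLinearGroup.coe_mul, Matrix.mul_apply, Fin.sum_univ_two, lawGen_coe]
        simp

theorem lawGen_word_ne_zero (w : FreeGroup ℕ) (hw : w ≠ 1) :
    (FreeGroup.lift (lawGen F) w).1 0 1 ≠ 0 := by
  have h := lawInv_of_reduced (F := F) w.toWord FreeGroup.isReduced_toWord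
  rw [FreeGroup.mk_toWord] at h
  apply lawInv_fst_ne_zero w.toWord _ _ _ h
  intro h0
  apply hw
  rw [← FreeGroup.mk_toWord (x := w), h0]
  rfl

end main

theorem lawGen_map {R S : Type*} [CommRing R] [CommRing S] (φ : R →+* S) (i : ℕ) :
    Matrix.SpecialLinearGroup.map (Polynomial.mapRingHom φ) (lawGen R i) = lawGen S i := by
  apply Subtype.ext
  rw [Matrix.SpecialLinearGroup.map_apply_coe]
  ext a b
  fin_cases a <;> fin_cases b <;> simp [lawGen, RingHom.mapMatrix_apply]

theorem lawGen_lift_map {R S : Type*} [CommRing R] [CommRing S] (φ : R →+* S) (w : FreeGroup ℕ) :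
    Matrix.SpecialLinearGroup.map (Polynomial.mapRingHom φ) (FreeGroup.lift (lawGen R) w)
      = FreeGroup.lift (lawGen S) w := by
  have : (Matrix.SpecialLinearGroup.map (Polynomial.mapRingHom φ)).comp (FreeGroup.lift (lawGen R))
      = FreeGroup.lift (lawGen S) := by
    ext i : 1
    simp [lawGen_map]
  exact DFunLike.congr_fun this w

/-- S2353 -/
theorem psl2_no_law (w : FreeGroup ℕ) (hw : w ≠ 1) :
    ∃ N : ℕ, ∀ (F : Type*) [Field F] [Fintype F], N ≤ Fintype.card F →
      ∃ f : ℕ → Matrix.ProjectiveSpecialLinearGroup (Fin 2) F, FreeGroup.lift f w ≠ 1 := by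
  refine ⟨((FreeGroup.lift (lawGen ℤ) w).1 0 1).natDegree + 1, ?_⟩
  intro F _ _ hN
  obtain ⟨q, hq⟩ : ∃ q : F[X], q = (FreeGroup.lift (lawGen F) w).1 0 1 := ⟨_, rfl⟩
  have hq0 : q ≠ 0 := by rw [hq]; exact lawGen_word_ne_zero w hw
  have hqdeg : q.natDegree < Fintype.card F := by
    have : q = Polynomial.map (Int.castRingHom F) ((FreeGroup.lift (lawGen ℤ) w).1 0 1) := by
      rw [hq, ← lawGen_lift_map (Int.castRingHom F) w, Matrix.SpecialLinearGroup.map_apply_coe]
      rfl
    rw [this]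
    exact lt_of_le_of_lt Polynomial.natDegree_map_le (by omega)
  obtain ⟨s, hs⟩ : ∃ s : F, q.eval s ≠ 0 := by
    by_contra hcon
    push Not at hcon
    exact hq0 (Polynomial.eq_zero_of_natDegree_lt_card_of_eval_eq_zero q (f := id) Function.injective_id hcon hqdeg)
  let A : ℕ → Matrix.SpecialLinearGroup (Fin 2) F := fun i =>
    Matrix.SpecialLinearGroup.map (Polynomial.evalRingHom s) (lawGen F i)
  refine ⟨fun i => QuotientGroup.mk (A i), ?_⟩
  have h1 : FreeGroup.lift (fun i => (QuotientGroup.mk (A i) : Matrix.ProjectiveSpecialLinearGroup (Fin 2) F))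
      = (QuotientGroup.mk' _).comp (FreeGroup.lift A) := by
    ext i : 1
    simp
  have h2 : FreeGroup.lift A
      = (Matrix.SpecialLinearGroup.map (Polynomial.evalRingHom s)).comp (FreeGroup.lift (lawGen F)) := by
    ext i : 1
    simp [A]
  rw [h1, MonoidHom.comp_apply, h2, MonoidHom.comp_apply]
  intro hcon
  rw [QuotientGroup.mk'_apply, QuotientGroup.eq_one_iff, Matrix.SpecialLinearGroup.mem_center_iff] at hcon
  obtain ⟨r, _, hr⟩ := hcon
  have := congrArg (fun M : Matrix (Fin 2) (Fin 2) F => M 0 1) hr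
  simp only [Matrix.SpecialLinearGroup.map_apply_coe, RingHom.mapMatrix_apply, Matrix.map_apply,
    Polynomial.coe_evalRingHom, ← hq] at this
  apply hs
  rw [← this]
  simp

end Cfsg.Agent.helper12
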