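import Cfsg.Agent.Lib_helper12_Sl2Vanish
import Cfsg.Agent.Lib_helper12_AradHerzog
import Cfsg.Agent.Lib_helper12_Sl2Unip

set_option autoImplicit false

namespace Cfsg.Agent.helper12

open Matrix Cfsg

variable {F : Type*} [Field F]


theorem sl2_cayley_hamilton (X : Matrix.SpecialLinearGroup (Fin 2) F) :
    (X : Matrix (Fin 2) (Fin 2) F) * (X : Matrix (Fin 2) (Fin 2) F)
      = (X : Matrix (Fin 2) (Fin 2) F).trace • (X : Matrix (Fin 2) (Fin 2) F) - 1 := by
  have hd := X.2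
  rw [Matrix.det_fin_two] at hd
  ext i j
  fin_cases i <;> fin_cases j <;> simp [Matrix.mul_apply, Fin.sum_univ_two, Matrix.trace_fin_two] <;>
    first | linear_combination -hd | ring1

/-- an element of SL₂ from its entries -/
def sl2Mk (a b c d : F) (h : a * d - b * c = 1) : Matrix.SpecialLinearGroup (Fin 2) F :=
  ⟨!![a, b; c, d], by rw [Matrix.det_fin_two]; simpa using h⟩

theorem sl2Mk_coe (a b c d : F) (h : a * d - b * c = 1) :
    (sl2Mk a b c d h : Matrix (Fin 2) (Fin 2) F) = !![a, b; c, d] := rfl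

theorem sl2_exists_pair_trace [Fintype F] (hodd : Odd (Fintype.card F)) (τ t : F) (hD : τ ^ 2 - 4 ≠ 0) :
    ∃ A B : Matrix.SpecialLinearGroup (Fin 2) F,
      (A : Matrix (Fin 2) (Fin 2) F).trace = τ ∧ (B : Matrix (Fin 2) (Fin 2) F).trace = τ ∧
      ((A * B : Matrix.SpecialLinearGroup (Fin 2) F) : Matrix (Fin 2) (Fin 2) F).trace = t := by
  have hD' : (4 - τ ^ 2 : F) ≠ 0 := by intro h; apply hD; linear_combination -h
  obtain ⟨s, r, hsr⟩ := exists_quadratic_form_eq hodd τ ((t - 2) * (t + 2 - τ ^ 2) / (4 - τ ^ 2)) hD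
  obtain ⟨u, hu⟩ : ∃ u : F, u = τ * (2 - τ ^ 2 + t) / (4 - τ ^ 2) + s := ⟨_, rfl⟩
  obtain ⟨w, hw⟩ : ∃ w : F, w = (τ ^ 2 - 2 * t) / (4 - τ ^ 2) + r := ⟨_, rfl⟩
  have hdet : u * (τ - u) - (t + w + τ * u - τ ^ 2) * w = 1 := by
    have hsr' : (s ^ 2 + s * r * τ + r ^ 2) * (4 - τ ^ 2) = (t - 2) * (t + 2 - τ ^ 2) := by
      rw [hsr]; field_simp
    rw [hu, hw]
    field_simp
    linear_combination (-(4 - τ ^ 2)) * hsr'
  refine ⟨sl2Mk 0 (-1) 1 τ (by ring), sl2Mk u (t + w + τ * u - τ ^ 2) w (τ - u) hdet, ?_, ?_, ?_⟩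
  · simp [sl2Mk_coe, Matrix.trace_fin_two]
  · simp [sl2Mk_coe, Matrix.trace_fin_two]
  · rw [Matrix.SpecialLinearGroup.coe_mul]
    simp only [Matrix.trace_fin_two, Matrix.mul_apply, Fin.sum_univ_two]
    simp [sl2Mk_coe]
    ring



theorem sl2_gl_conj_exists (A : Matrix.SpecialLinearGroup (Fin 2) F) (c : GL (Fin 2) F) :
    ∃ A' : Matrix.SpecialLinearGroup (Fin 2) F,
      Matrix.SpecialLinearGroup.toGL A' = c * Matrix.SpecialLinearGroup.toGL A * c⁻¹ ∧
      (A' : Matrix (Fin 2) (Fin 2) F).trace = (A : Matrix (Fin 2) (Fin 2) F).trace := by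
  have hd : Matrix.GeneralLinearGroup.det (c * Matrix.SpecialLinearGroup.toGL A * c⁻¹) = 1 := by
    rw [map_mul, map_mul, map_inv, mul_comm, inv_mul_cancel_left]
    exact Matrix.SpecialLinearGroup.coeToGL_det A
  refine ⟨⟨((c * Matrix.SpecialLinearGroup.toGL A * c⁻¹ : GL (Fin 2) F) : Matrix (Fin 2) (Fin 2) F), ?_⟩, Units.ext rfl, ?_⟩
  · have := congrArg Units.val hd
    rwa [Matrix.GeneralLinearGroup.val_det_apply, Units.val_one] at this
  · show ((c * Matrix.SpecialLinearGroup.toGL A * c⁻¹ : GL (Fin 2) F) : Matrix (Fin 2) (Fin 2) F).trace = _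
    rw [Units.val_mul, Matrix.trace_mul_comm, ← Units.val_mul, inv_mul_cancel_left]
    rfl

theorem sl2_mul_not_isScalar2_of_trace {A B : Matrix.SpecialLinearGroup (Fin 2) F}
    (hA0 : (A : Matrix (Fin 2) (Fin 2) F).trace ≠ 0)
    (hAB : (B : Matrix (Fin 2) (Fin 2) F).trace = (A : Matrix (Fin 2) (Fin 2) F).trace)
    (ht : ((A * B : Matrix.SpecialLinearGroup (Fin 2) F) : Matrix (Fin 2) (Fin 2) F).trace ≠ 2) :
    ¬ IsScalar2 ((A * B : Matrix.SpecialLinearGroup (Fin 2) F) : Matrix (Fin 2) (Fin 2) F) := by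
  intro hs
  have hsc := (isScalar2_iff _).mp hs
  obtain ⟨l, hl⟩ : ∃ l : F, l = ((A * B : Matrix.SpecialLinearGroup (Fin 2) F) : Matrix (Fin 2) (Fin 2) F) 0 0 := ⟨_, rfl⟩
  rw [← hl] at hsc
  have hB : (B : Matrix (Fin 2) (Fin 2) F) = l • ((A⁻¹ : Matrix.SpecialLinearGroup (Fin 2) F) : Matrix (Fin 2) (Fin 2) F) := by
    have : B = A⁻¹ * (A * B) := by group
    conv_lhs => rw [this]
    rw [Matrix.SpecialLinearGroup.coe_mul, hsc]
    simp
  have htB : (B : Matrix (Fin 2) (Fin 2) F).trace = l * (A : Matrix (Fin 2) (Fin 2) F).trace := by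
    rw [hB, sl2_inv_apply]
    simp [Matrix.trace_fin_two]
    ring
  have hl1 : l = 1 := by
    have : (l - 1) * (A : Matrix (Fin 2) (Fin 2) F).trace = 0 := by linear_combination hAB - htB
    rcases mul_eq_zero.mp this with h | h
    · exact sub_eq_zero.mp h
    · exact absurd h hA0
  apply ht
  rw [hsc, hl1]
  simp



/-- S2455 -/
theorem psl2_odd_square_covers [Fintype F] (p : ℕ) [Fact p.Prime] [CharP F p] (hp : p ≠ 2)
    (x : Matrix.ProjectiveSpecialLinearGroup (Fin 2) F) (hx2 : 2 < orderOf x) (hxp : ¬ p ∣ orderOf x) :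
    ∀ g : Matrix.ProjectiveSpecialLinearGroup (Fin 2) F, g ≠ 1 →
      ∃ u v : Matrix.ProjectiveSpecialLinearGroup (Fin 2) F, g = (u * x * u⁻¹) * (v * x * v⁻¹) := by
  intro g hg
  have hprime : p.Prime := Fact.out
  have hodd : Odd (Fintype.card F) := by
    rw [← Nat.not_even_iff_odd, Nat.even_iff]
    intro he
    have := FiniteField.even_card_iff_char_two.mpr he
    rw [ringChar.eq F p] at this
    exact hp this
  have h2 : (2 : F) ≠ 0 := two_ne_zero_of_odd_card hodd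
  obtain ⟨X, rfl⟩ := QuotientGroup.mk_surjective x
  obtain ⟨G, rfl⟩ := QuotientGroup.mk_surjective g
  have hG := sl2_not_isScalar2_of_mk_ne_one hg
  have hτ0 : (X : Matrix (Fin 2) (Fin 2) F).trace ≠ 0 := by
    intro h0
    have hsq : ((X ^ 2 : Matrix.SpecialLinearGroup (Fin 2) F) : Matrix (Fin 2) (Fin 2) F) = (-1 : F) • (1 : Matrix (Fin 2) (Fin 2) F) := by
      rw [pow_two, Matrix.SpecialLinearGroup.coe_mul, sl2_cayley_hamilton, h0]; simp
    have hc := sl2_central_of_scalar (X ^ 2) (-1) hsq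
    have h1 : (QuotientGroup.mk X : Matrix.ProjectiveSpecialLinearGroup (Fin 2) F) ^ 2 = 1 := by
      rw [← QuotientGroup.mk_pow]; exact (QuotientGroup.eq_one_iff _).mpr hc
    have := orderOf_le_of_pow_eq_one (by norm_num) h1
    omega
  have hτ4 : (X : Matrix (Fin 2) (Fin 2) F).trace ^ 2 - 4 ≠ 0 := by
    intro h4
    have htr : ((X ^ 2 : Matrix.SpecialLinearGroup (Fin 2) F) : Matrix (Fin 2) (Fin 2) F).trace = 2 := by
      rw [pow_two, Matrix.SpecialLinearGroup.coe_mul, sl2_cayley_hamilton, Matrix.trace_sub, Matrix.trace_smul, Matrix.trace_one]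
      simp
      linear_combination h4
    have hpow : (X ^ 2) ^ p = 1 := by
      by_cases h1 : X ^ 2 = 1
      · rw [h1, one_pow]
      · have := (sl2_orderOf_eq_char_iff p (X ^ 2)).mpr ⟨h1, htr⟩
        rw [← this]; exact pow_orderOf_eq_one _
    have h1 : (QuotientGroup.mk X : Matrix.ProjectiveSpecialLinearGroup (Fin 2) F) ^ (2 * p) = 1 := by
      rw [pow_mul, ← QuotientGroup.mk_pow, ← QuotientGroup.mk_pow, hpow]; rfl
    have hdvd := orderOf_dvd_of_pow_eq_one h1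
    have hcop : Nat.Coprime (orderOf (QuotientGroup.mk X : Matrix.ProjectiveSpecialLinearGroup (Fin 2) F)) p :=
      (Nat.Coprime.symm ((Nat.Prime.coprime_iff_not_dvd hprime).mpr hxp))
    have := Nat.Coprime.dvd_of_dvd_mul_right hcop hdvd
    have := Nat.le_of_dvd (by norm_num) this
    omega
  have hclass : ∀ Y : Matrix.SpecialLinearGroup (Fin 2) F,
      (Y : Matrix (Fin 2) (Fin 2) F).trace = (X : Matrix (Fin 2) (Fin 2) F).trace →
      ∃ P : Matrix.SpecialLinearGroup (Fin 2) F, P * X * P⁻¹ = Y := by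
    intro Y hY
    have := sl2_isConj_of_disc_ne (Nat.odd_iff.mp hodd) hY.symm (by intro h; apply hτ4; linear_combination h)
    obtain ⟨P, hP⟩ := isConj_iff.mp this
    exact ⟨P, hP⟩
  have key : ∀ G' : Matrix.SpecialLinearGroup (Fin 2) F, ¬ IsScalar2 (G' : Matrix (Fin 2) (Fin 2) F) →
      (G' : Matrix (Fin 2) (Fin 2) F).trace ≠ 2 →
      ∃ P Q : Matrix.SpecialLinearGroup (Fin 2) F, G' = (P * X * P⁻¹) * (Q * X * Q⁻¹) := by
    intro G' hG' ht
    obtain ⟨A, B, hA, hB, hAB⟩ := sl2_exists_pair_trace hodd (X : Matrix (Fin 2) (Fin 2) F).trace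
      (G' : Matrix (Fin 2) (Fin 2) F).trace hτ4
    have hABns := sl2_mul_not_isScalar2_of_trace (A := A) (B := B) (by rw [hA]; exact hτ0) (hB.trans hA.symm)
      (by rw [hAB]; exact ht)
    have hconj : IsConj (Matrix.SpecialLinearGroup.toGL (A * B)) (Matrix.SpecialLinearGroup.toGL G') := by
      apply gl2_isConj_of_trace_det
      · exact hABns
      · exact hG'
      · exact hAB
      · show ((A * B : Matrix.SpecialLinearGroup (Fin 2) F) : Matrix (Fin 2) (Fin 2) F).det = (G' : Matrix (Fin 2) (Fin 2) F).det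
        rw [(A * B).2, G'.2]
    obtain ⟨c, hc⟩ := isConj_iff.mp hconj
    obtain ⟨A', hA', hA't⟩ := sl2_gl_conj_exists A c
    obtain ⟨B', hB', hB't⟩ := sl2_gl_conj_exists B c
    have hprod : A' * B' = G' := by
      apply Matrix.SpecialLinearGroup.toGL_injective
      rw [map_mul, hA', hB', ← hc, map_mul]; group
    obtain ⟨P, hP⟩ := hclass A' (hA't.trans hA)
    obtain ⟨Q, hQ⟩ := hclass B' (hB't.trans hB)
    exact ⟨P, Q, by rw [hP, hQ, hprod]⟩
  have fin : ∀ G' : Matrix.SpecialLinearGroup (Fin 2) F,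
      (∃ P Q : Matrix.SpecialLinearGroup (Fin 2) F, G' = (P * X * P⁻¹) * (Q * X * Q⁻¹)) →
      ∃ u v : Matrix.ProjectiveSpecialLinearGroup (Fin 2) F,
        (QuotientGroup.mk G' : Matrix.ProjectiveSpecialLinearGroup (Fin 2) F) = (u * QuotientGroup.mk X * u⁻¹) * (v * QuotientGroup.mk X * v⁻¹) := by
    rintro G' ⟨P, Q, hPQ⟩
    refine ⟨QuotientGroup.mk P, QuotientGroup.mk Q, ?_⟩
    rw [hPQ]
    rfl
  by_cases ht : (G : Matrix (Fin 2) (Fin 2) F).trace = 2
  · -- use -G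
    obtain ⟨Z, hZ⟩ : ∃ Z : Matrix.SpecialLinearGroup (Fin 2) F, Z = sl2Mk (-1) 0 0 (-1) (by ring) := ⟨_, rfl⟩
    have hZc : (Z : Matrix (Fin 2) (Fin 2) F) = (-1 : F) • (1 : Matrix (Fin 2) (Fin 2) F) := by
      rw [hZ, sl2Mk_coe]
      ext i j
      fin_cases i <;> fin_cases j <;> simp
    have hZG : ((Z * G : Matrix.SpecialLinearGroup (Fin 2) F) : Matrix (Fin 2) (Fin 2) F) = - (G : Matrix (Fin 2) (Fin 2) F) := by
      rw [Matrix.SpecialLinearGroup.coe_mul, hZc]; simp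
    have hmk : (QuotientGroup.mk G : Matrix.ProjectiveSpecialLinearGroup (Fin 2) F) = QuotientGroup.mk (Z * G) := by
      rw [QuotientGroup.mk_mul, (QuotientGroup.eq_one_iff Z).mpr (sl2_central_of_scalar Z (-1) hZc), one_mul]
    rw [hmk]
    apply fin
    apply key
    · rw [hZG]
      rintro ⟨h1, h2, h3⟩
      apply hG
      refine ⟨?_, ?_, ?_⟩
      · simpa using h1
      · simpa using h2
      · simpa using h3
    · rw [hZG, Matrix.trace_neg, ht]
      intro h
      apply h2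
      have h4 : (4 : F) = 0 := by linear_combination -h
      have : (2 : F) * 2 = 0 := by linear_combination h4
      simpa using this
  · exact fin G (key G hG ht)

end Cfsg.Agent.helper12
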