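import Cfsg.Agent.Lib_helper12_Sl2Torus2
import Cfsg.Agent.Lib_helper12_PslSquare

set_option autoImplicit false

namespace Cfsg.Agent.helper12

open Matrix Cfsg

variable {F : Type*} [Field F]


/-- the centralizer in SL2 of an element without eigenvectors has order q + 1, given surjectivity of det on the GL2-centralizer -/
theorem card_sl2_centralizer_noEigen_of_surj [Fintype F] (g₀ : Matrix.SpecialLinearGroup (Fin 2) F)
    (hg : NoEigen2 (g₀ : Matrix (Fin 2) (Fin 2) F))
    (hsd : ∀ δ : Fˣ, ∃ c : GL (Fin 2) F, c * Matrix.SpecialLinearGroup.toGL g₀ = Matrix.SpecialLinearGroup.toGL g₀ * c ∧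
      Matrix.GeneralLinearGroup.det c = δ) :
    Nat.card (Subgroup.centralizer ({g₀} : Set (Matrix.SpecialLinearGroup (Fin 2) F))) = Fintype.card F + 1 := by
  classical
  have hgl : NoEigen2 ((Matrix.SpecialLinearGroup.toGL g₀ : GL (Fin 2) F) : Matrix (Fin 2) (Fin 2) F) := by
    rw [toGL_coe']; exact hg
  have hcardGL := card_centralizer_gl2_noEigen (Matrix.SpecialLinearGroup.toGL g₀) hgl
  obtain ⟨CG, hCG⟩ : ∃ CG : Subgroup (GL (Fin 2) F), CG = Subgroup.centralizer ({Matrix.SpecialLinearGroup.toGL g₀} : Set (GL (Fin 2) F)) := ⟨_, rfl⟩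
  rw [← hCG] at hcardGL
  have hmemCG : ∀ c : GL (Fin 2) F, c ∈ CG ↔ Matrix.SpecialLinearGroup.toGL g₀ * c = c * Matrix.SpecialLinearGroup.toGL g₀ := by
    intro c
    rw [hCG, Subgroup.mem_centralizer_iff]
    constructor
    · intro h; exact h _ (Set.mem_singleton _)
    · intro h y hy; rw [Set.mem_singleton_iff.mp hy]; exact h
  let f : CG →* Fˣ := (Matrix.GeneralLinearGroup.det).comp CG.subtype
  have hsurj : Function.Surjective f := by
    intro δ
    obtain ⟨c, hc, hdet⟩ := hsd δ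
    exact ⟨⟨c, (hmemCG c).mpr hc.symm⟩, hdet⟩
  have h1 : Nat.card f.ker * Nat.card Fˣ = Nat.card CG := by
    rw [← Subgroup.card_mul_index f.ker, Subgroup.index_ker, MonoidHom.range_eq_top.mpr hsurj, Subgroup.card_top]
  have h2 : Nat.card f.ker = Nat.card (Subgroup.centralizer ({g₀} : Set (Matrix.SpecialLinearGroup (Fin 2) F))) := by
    symm
    apply Nat.card_congr
    refine Equiv.ofBijective (fun x => ⟨⟨Matrix.SpecialLinearGroup.toGL x.1, ?_⟩, ?_⟩) ⟨?_, ?_⟩
    · rw [hmemCG, ← map_mul, ← map_mul, sl2_mem_centralizer_singleton.mp x.2]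
    · rw [MonoidHom.mem_ker]
      show Matrix.GeneralLinearGroup.det (Matrix.SpecialLinearGroup.toGL x.1) = 1
      apply Units.ext
      rw [Matrix.GeneralLinearGroup.val_det_apply, toGL_coe', Units.val_one]
      exact x.1.2
    · intro x y h
      have h' := congrArg (fun t : f.ker => ((t : CG) : GL (Fin 2) F)) h
      simp only at h'
      exact Subtype.ext (Matrix.SpecialLinearGroup.toGL_injective h')
    · rintro ⟨⟨c, hc⟩, hker⟩
      have hdet : (c : Matrix (Fin 2) (Fin 2) F).det = 1 := by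
        have := MonoidHom.mem_ker.mp hker
        have h' := congrArg Units.val this
        simpa [f, Matrix.GeneralLinearGroup.val_det_apply] using h'
      let s : Matrix.SpecialLinearGroup (Fin 2) F := ⟨(c : Matrix (Fin 2) (Fin 2) F), hdet⟩
      have hs : Matrix.SpecialLinearGroup.toGL s = c := Units.ext rfl
      have hsC : s ∈ Subgroup.centralizer ({g₀} : Set (Matrix.SpecialLinearGroup (Fin 2) F)) := by
        rw [sl2_mem_centralizer_singleton]
        apply Matrix.SpecialLinearGroup.toGL_injective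
        rw [map_mul, map_mul, hs]
        exact (hmemCG c).mp hc
      refine ⟨⟨s, hsC⟩, ?_⟩
      apply Subtype.ext
      apply Subtype.ext
      exact hs
  rw [h2, hcardGL, Nat.card_eq_fintype_card (α := Fˣ), Fintype.card_units] at h1
  have hq1 : 1 < Fintype.card F := Fintype.one_lt_card
  have e : Fintype.card F ^ 2 - 1 = (Fintype.card F + 1) * (Fintype.card F - 1) := by
    obtain ⟨m, hm⟩ : ∃ m, Fintype.card F = m + 1 := ⟨Fintype.card F - 1, by omega⟩
    rw [hm]
    have : (m + 1) ^ 2 - 1 = (m + 1 + 1) * m := by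
      have : (m + 1) ^ 2 = (m + 1 + 1) * m + 1 := by ring
      omega
    rw [this]; simp
  rw [e] at h1
  exact Nat.eq_of_mul_eq_mul_right (by omega) h1

theorem sl2_pow_card_add_one_of_noEigen_char_two [Fintype F] [CharP F 2] (g₀ : Matrix.SpecialLinearGroup (Fin 2) F)
    (hg : NoEigen2 (g₀ : Matrix (Fin 2) (Fin 2) F)) : g₀ ^ (Fintype.card F + 1) = 1 := by
  have hcard := card_sl2_centralizer_noEigen_of_surj g₀ hg (by
    intro δ
    obtain ⟨z, hz⟩ := FiniteField.isSquare_of_char_two (ringChar.eq F 2) (δ : F)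
    have hz0 : z ≠ 0 := by
      rintro rfl
      simp at hz
    have hdet : (z • (1 : Matrix (Fin 2) (Fin 2) F)).det ≠ 0 := by
      rw [Matrix.det_fin_two]; simp [hz0]
    refine ⟨Matrix.GeneralLinearGroup.mkOfDetNeZero _ hdet, ?_, ?_⟩
    · apply Units.ext
      simp only [Units.val_mul, Matrix.GeneralLinearGroup.mkOfDetNeZero]
      simp
    · apply Units.ext
      rw [Matrix.GeneralLinearGroup.val_det_apply]
      simp only [Matrix.GeneralLinearGroup.mkOfDetNeZero]
      rw [Matrix.det_fin_two]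
      simp [hz])
  have hmem : g₀ ∈ Subgroup.centralizer ({g₀} : Set (Matrix.SpecialLinearGroup (Fin 2) F)) :=
    sl2_mem_centralizer_singleton.mpr rfl
  have := pow_card_eq_one' (G := Subgroup.centralizer ({g₀} : Set (Matrix.SpecialLinearGroup (Fin 2) F))) (x := ⟨g₀, hmem⟩)
  rw [hcard] at this
  have h' := congrArg Subtype.val this
  simpa using h'



theorem sl2_split_pair (a τ t : F) (ha : a * (τ - a) = 1) (hne : a - (τ - a) ≠ 0) :
    ∃ A B : Matrix.SpecialLinearGroup (Fin 2) F,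
      (A : Matrix (Fin 2) (Fin 2) F).trace = τ ∧ (B : Matrix (Fin 2) (Fin 2) F).trace = τ ∧
      ¬ IsScalar2 (A : Matrix (Fin 2) (Fin 2) F) ∧ ¬ IsScalar2 (B : Matrix (Fin 2) (Fin 2) F) ∧
      ¬ IsScalar2 ((A * B : Matrix.SpecialLinearGroup (Fin 2) F) : Matrix (Fin 2) (Fin 2) F) ∧
      ((A * B : Matrix.SpecialLinearGroup (Fin 2) F) : Matrix (Fin 2) (Fin 2) F).trace = t := by
  have ha0 : a ≠ 0 := by
    rintro rfl
    simp at ha
  obtain ⟨u, hu⟩ : ∃ u : F, u = (t - (τ - a) * τ) / (a - (τ - a)) := ⟨_, rfl⟩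
  have hu' : (a - (τ - a)) * u = t - (τ - a) * τ := by rw [hu]; field_simp
  refine ⟨sl2Mk a 0 0 (τ - a) (by linear_combination ha), sl2Mk u 1 (u * (τ - u) - 1) (τ - u) (by ring), ?_, ?_, ?_, ?_, ?_, ?_⟩
  · simp [sl2Mk_coe, Matrix.trace_fin_two]
  · simp [sl2Mk_coe, Matrix.trace_fin_two]
  · rintro ⟨_, _, h3⟩
    simp [sl2Mk_coe] at h3
    exact hne (by linear_combination h3)
  · rintro ⟨h1, _, _⟩
    simp [sl2Mk_coe] at h1
  · rintro ⟨h1, _, _⟩
    rw [Matrix.SpecialLinearGroup.coe_mul] at h1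
    simp only [Matrix.mul_apply, Fin.sum_univ_two] at h1
    simp [sl2Mk_coe] at h1
    exact ha0 h1
  · rw [Matrix.SpecialLinearGroup.coe_mul]
    simp only [Matrix.trace_fin_two, Matrix.mul_apply, Fin.sum_univ_two]
    simp [sl2Mk_coe]
    linear_combination hu'

/-- S2456 -/
theorem psl2_even_square_covers [Fintype F] [CharP F 2]
    (x : Matrix.ProjectiveSpecialLinearGroup (Fin 2) F) (hx2 : 2 < orderOf x) (hxq : ¬ orderOf x ∣ Fintype.card F + 1) :
    ∀ g : Matrix.ProjectiveSpecialLinearGroup (Fin 2) F, g ≠ 1 →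
      ∃ u v : Matrix.ProjectiveSpecialLinearGroup (Fin 2) F, g = (u * x * u⁻¹) * (v * x * v⁻¹) := by
  intro g hg
  have h2 : (2 : F) = 0 := by exact_mod_cast CharP.cast_eq_zero F 2
  obtain ⟨X, rfl⟩ := QuotientGroup.mk_surjective x
  obtain ⟨G, rfl⟩ := QuotientGroup.mk_surjective g
  have hG := sl2_not_isScalar2_of_mk_ne_one hg
  have hτ0 : (X : Matrix (Fin 2) (Fin 2) F).trace ≠ 0 := by
    intro h0
    have hsq : ((X ^ 2 : Matrix.SpecialLinearGroup (Fin 2) F) : Matrix (Fin 2) (Fin 2) F) = (-1 : F) • (1 : Matrix (Fin 2) (Fin 2) F) := by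
      rw [pow_two, Matrix.SpecialLinearGroup.coe_mul, sl2_cayley_hamilton, h0]; simp
    have hc := sl2_central_of_scalar (X ^ 2) (-1) hsq
    have h1 : (QuotientGroup.mk X : Matrix.ProjectiveSpecialLinearGroup (Fin 2) F) ^ 2 = 1 := by
      rw [← QuotientGroup.mk_pow]; exact (QuotientGroup.eq_one_iff _).mpr hc
    have := orderOf_le_of_pow_eq_one (by norm_num) h1
    omega
  have hXns : ¬ IsScalar2 (X : Matrix (Fin 2) (Fin 2) F) := by
    intro hs
    have := (sl2_isScalar2_iff_char_two X).mp hs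
    apply hτ0
    rw [this]
    simp [Matrix.trace_fin_two]
    linear_combination h2
  have hE : ¬ NoEigen2 (X : Matrix (Fin 2) (Fin 2) F) := by
    intro hne
    have := sl2_pow_card_add_one_of_noEigen_char_two X hne
    apply hxq
    apply orderOf_dvd_of_pow_eq_one
    rw [← QuotientGroup.mk_pow, this]; rfl
  unfold NoEigen2 at hE
  push Not at hE
  obtain ⟨a, v, hv, hav⟩ := hE
  have hchar : a * ((X : Matrix (Fin 2) (Fin 2) F).trace - a) = 1 := by
    have hdet0 : ((X : Matrix (Fin 2) (Fin 2) F) - a • (1 : Matrix (Fin 2) (Fin 2) F)).det = 0 := by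
      apply Matrix.exists_mulVec_eq_zero_iff.mp ⟨v, hv, ?_⟩
      rw [Matrix.sub_mulVec, hav, Matrix.smul_mulVec, Matrix.one_mulVec, sub_self]
    rw [Matrix.det_fin_two] at hdet0
    simp at hdet0
    have hd := X.2
    rw [Matrix.det_fin_two] at hd
    rw [Matrix.trace_fin_two]
    linear_combination -hdet0 + hd
  have hne : a - ((X : Matrix (Fin 2) (Fin 2) F).trace - a) ≠ 0 := by
    intro h
    apply hτ0
    linear_combination (-1 : F) * h + a * h2
  obtain ⟨A, B, hA, hB, hAns, hBns, hABns, hAB⟩ := sl2_split_pair a (X : Matrix (Fin 2) (Fin 2) F).trace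
    (G : Matrix (Fin 2) (Fin 2) F).trace hchar hne
  have hconj := sl2_isConj_of_trace_char_two (ringChar.eq F 2) hABns hG hAB
  obtain ⟨c, hc⟩ := isConj_iff.mp hconj
  have hXA : IsConj X (c * A * c⁻¹) := sl2_isConj_of_trace_char_two (ringChar.eq F 2) hXns
    ((sl2_isScalar2_conj_iff A c).not.mpr hAns) (by rw [sl2_trace_conj, hA])
  have hXB : IsConj X (c * B * c⁻¹) := sl2_isConj_of_trace_char_two (ringChar.eq F 2) hXns
    ((sl2_isScalar2_conj_iff B c).not.mpr hBns) (by rw [sl2_trace_conj, hB])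
  obtain ⟨P, hP⟩ := isConj_iff.mp hXA
  obtain ⟨Q, hQ⟩ := isConj_iff.mp hXB
  refine ⟨QuotientGroup.mk P, QuotientGroup.mk Q, ?_⟩
  have : G = (P * X * P⁻¹) * (Q * X * Q⁻¹) := by rw [hP, hQ, ← hc]; group
  rw [this]; rfl

end Cfsg.Agent.helper12
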