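import Cfsg.Agent.Lib_helper12_SylTwoA

set_option autoImplicit false

namespace Cfsg.Agent.helper12.Q8old

open Matrix

theorem exists_q8_gens {G : Type*} [Group G] (R : Subgroup G) (e : R ≃* QuaternionGroup 2) :
    ∃ A W : G, A ∈ R ∧ W ∈ R ∧ A ^ 2 = W ^ 2 ∧ A ^ 4 = 1 ∧ A ^ 2 ≠ 1 ∧ W * A = A⁻¹ * W ∧
      ∀ g ∈ R, g = 1 ∨ g = A ∨ g = A ^ 2 ∨ g = A ^ 3 ∨ g = W ∨ g = W * A ∨ g = W * A ^ 2 ∨ g = W * A ^ 3 := by
  have f1 : (QuaternionGroup.a 1 : QuaternionGroup 2) ^ 2 = (QuaternionGroup.xa 0) ^ 2 := by decide
  have f2 : (QuaternionGroup.a 1 : QuaternionGroup 2) ^ 4 = 1 := by decide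
  have f3 : (QuaternionGroup.a 1 : QuaternionGroup 2) ^ 2 ≠ 1 := by decide
  have f4 : (QuaternionGroup.xa 0 : QuaternionGroup 2) * QuaternionGroup.a 1 = (QuaternionGroup.a 1)⁻¹ * QuaternionGroup.xa 0 := by decide
  have f5 : ∀ g : QuaternionGroup 2, g = 1 ∨ g = QuaternionGroup.a 1 ∨ g = (QuaternionGroup.a 1) ^ 2 ∨ g = (QuaternionGroup.a 1) ^ 3 ∨
      g = QuaternionGroup.xa 0 ∨ g = QuaternionGroup.xa 0 * QuaternionGroup.a 1 ∨ g = QuaternionGroup.xa 0 * (QuaternionGroup.a 1) ^ 2 ∨
      g = QuaternionGroup.xa 0 * (QuaternionGroup.a 1) ^ 3 := by decide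
  obtain ⟨α, hα⟩ : ∃ α : R, α = e.symm (QuaternionGroup.a 1) := ⟨_, rfl⟩
  obtain ⟨ω, hω⟩ : ∃ ω : R, ω = e.symm (QuaternionGroup.xa 0) := ⟨_, rfl⟩
  have g1 : α ^ 2 = ω ^ 2 := by rw [hα, hω, ← map_pow, ← map_pow, f1]
  have g2 : α ^ 4 = 1 := by rw [hα, ← map_pow, f2, map_one]
  have g3 : α ^ 2 ≠ 1 := by
    rw [hα, ← map_pow]
    intro h
    apply f3
    have := congrArg e h
    simpa using this
  have g4 : ω * α = α⁻¹ * ω := by rw [hα, hω, ← map_inv, ← map_mul, ← map_mul, f4]
  have g5 : ∀ g : R, g = 1 ∨ g = α ∨ g = α ^ 2 ∨ g = α ^ 3 ∨ g = ω ∨ g = ω * α ∨ g = ω * α ^ 2 ∨ g = ω * α ^ 3 := by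
    intro g
    have key : ∀ y : QuaternionGroup 2, e g = y → g = e.symm y := by
      intro y hy
      rw [← hy, MulEquiv.symm_apply_apply]
    rcases f5 (e g) with h | h | h | h | h | h | h | h
    · left; rw [key _ h, map_one]
    · right; left; rw [key _ h, hα]
    · right; right; left; rw [key _ h, hα, map_pow]
    · right; right; right; left; rw [key _ h, hα, map_pow]
    · right; right; right; right; left; rw [key _ h, hω]
    · right; right; right; right; right; left; rw [key _ h, hα, hω, map_mul]
    · right; right; right; right; right; right; left; rw [key _ h, hα, hω, map_mul, map_pow]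
    · right; right; right; right; right; right; right; rw [key _ h, hα, hω, map_mul, map_pow]
  refine ⟨(α : G), (ω : G), α.2, ω.2, ?_, ?_, ?_, ?_, ?_⟩
  · have := congrArg Subtype.val g1
    simpa using this
  · have := congrArg Subtype.val g2
    simpa using this
  · intro h
    apply g3
    apply Subtype.ext
    simpa using h
  · have := congrArg Subtype.val g4
    simpa using this
  · intro g hg
    rcases g5 ⟨g, hg⟩ with h | h | h | h | h | h | h | h
    · left; have := congrArg Subtype.val h; simpa using this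
    · right; left; have := congrArg Subtype.val h; simpa using this
    · right; right; left; have := congrArg Subtype.val h; simpa using this
    · right; right; right; left; have := congrArg Subtype.val h; simpa using this
    · right; right; right; right; left; have := congrArg Subtype.val h; simpa using this
    · right; right; right; right; right; left; have := congrArg Subtype.val h; simpa using this
    · right; right; right; right; right; right; left; have := congrArg Subtype.val h; simpa using this
    · right; right; right; right; right; right; right; have := congrArg Subtype.val h; simpa using this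

variable {F : Type*} [Field F]

/-- quaternion generators in `GL₂` automatically have determinant one and satisfy the matrix
quaternion relations -/
theorem gl2_q8_matrix (h2 : (2 : F) ≠ 0) (A W : GL (Fin 2) F) (h1 : A ^ 2 = W ^ 2) (h4 : A ^ 4 = 1)
    (hne : A ^ 2 ≠ 1) (hwa : W * A = A⁻¹ * W) :
    QuatRel (A : Matrix (Fin 2) (Fin 2) F) (W : Matrix (Fin 2) (Fin 2) F) ∧
      (A : Matrix (Fin 2) (Fin 2) F).det = 1 ∧ (W : Matrix (Fin 2) (Fin 2) F).det = 1 := by
  obtain ⟨Am, hAm⟩ : ∃ Am : Matrix (Fin 2) (Fin 2) F, Am = (A : Matrix (Fin 2) (Fin 2) F) := ⟨_, rfl⟩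
  obtain ⟨Wm, hWm⟩ : ∃ Wm : Matrix (Fin 2) (Fin 2) F, Wm = (W : Matrix (Fin 2) (Fin 2) F) := ⟨_, rfl⟩
  rw [← hAm, ← hWm]
  have e1 : Am * Am = Wm * Wm := by
    have := congrArg Units.val h1
    rw [hAm, hWm]
    simpa [pow_two] using this
  have e4 : (Am * Am) * (Am * Am) = 1 := by
    have := congrArg Units.val h4
    rw [hAm]
    simpa [pow_succ, mul_assoc] using this
  have ene : Am * Am ≠ 1 := by
    intro h
    apply hne
    apply Units.ext
    rw [hAm] at h
    simpa [pow_two] using h
  have ewa : Am * (Wm * Am) = Wm := by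
    have h3 : A * (W * A) = W := by rw [hwa]; group
    have := congrArg Units.val h3
    rw [hAm, hWm]
    simpa using this
  -- commuting leads to a contradiction
  have hnc : Wm * Am ≠ Am * Wm := by
    intro hc
    apply ene
    have h5 : Am * Am * Wm = Wm := by rw [mul_assoc, ← hc]; exact ewa
    have hWinv : Wm * ((W⁻¹ : GL (Fin 2) F) : Matrix (Fin 2) (Fin 2) F) = 1 := by
      rw [hWm, ← GeneralLinearGroup.coe_mul, mul_inv_cancel]; rfl
    calc Am * Am = Am * Am * (Wm * ((W⁻¹ : GL (Fin 2) F) : Matrix (Fin 2) (Fin 2) F)) := by rw [hWinv, mul_one]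
      _ = (Am * Am * Wm) * ((W⁻¹ : GL (Fin 2) F) : Matrix (Fin 2) (Fin 2) F) := by simp only [mul_assoc]
      _ = 1 := by rw [h5, hWinv]
  have chA := mat2_cayley_hamilton Am
  have chW := mat2_cayley_hamilton Wm
  -- a scalar matrix commutes with everything
  have hAns : ∀ c : F, Am ≠ c • (1 : Matrix (Fin 2) (Fin 2) F) := by
    intro c h
    apply hnc
    rw [h]
    simp
  have hWns : ∀ c : F, Wm ≠ c • (1 : Matrix (Fin 2) (Fin 2) F) := by
    intro c h
    apply hnc
    rw [h]
    simp
  have hz : Am * Am = -1 := by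
    by_cases htA : Am.trace = 0
    · rw [htA, zero_smul, zero_sub] at chA
      have hd : Am.det * Am.det = 1 := by
        have := e4
        rw [chA] at this
        have h00 := congrFun (congrFun this 0) 0
        simpa using h00
      have hd1 : Am.det ≠ -1 := by
        intro h
        apply ene
        rw [chA, h]
        simp
      have : (Am.det - 1) * (Am.det + 1) = 0 := by linear_combination hd
      rcases mul_eq_zero.mp this with h | h
      · rw [chA, sub_eq_zero.mp h]
        simp
      · exact absurd (by linear_combination h) hd1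
    · by_cases htW : Wm.trace = 0
      · rw [htW, zero_smul, zero_sub] at chW
        rw [e1]
        have hd : Wm.det * Wm.det = 1 := by
          have := e4
          rw [e1, chW] at this
          have h00 := congrFun (congrFun this 0) 0
          simpa using h00
        have hd1 : Wm.det ≠ -1 := by
          intro h
          apply ene
          rw [e1, chW, h]
          simp
        have : (Wm.det - 1) * (Wm.det + 1) = 0 := by linear_combination hd
        rcases mul_eq_zero.mp this with h | h
        · rw [chW, sub_eq_zero.mp h]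
          simp
        · exact absurd (by linear_combination h) hd1
      · exfalso
        apply hnc
        have hA' : Am = (Am.trace)⁻¹ • (Am * Am + Am.det • (1 : Matrix (Fin 2) (Fin 2) F)) := by
          rw [chA]
          simp [smul_smul, inv_mul_cancel₀ htA]
        have hW' : Wm = (Wm.trace)⁻¹ • (Am * Am + Wm.det • (1 : Matrix (Fin 2) (Fin 2) F)) := by
          rw [e1, chW]
          simp [smul_smul, inv_mul_cancel₀ htW]
        have c1 : Commute (Am * Am + Wm.det • (1 : Matrix (Fin 2) (Fin 2) F))
            (Am * Am + Am.det • (1 : Matrix (Fin 2) (Fin 2) F)) := by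
          apply Commute.add_left <;> apply Commute.add_right
          · exact Commute.refl _
          · exact (Commute.one_right _).smul_right _
          · exact (Commute.one_left _).smul_left _
          · exact ((Commute.one_left _).smul_left _).smul_right _
        have c2 := (c1.smul_left (Wm.trace)⁻¹).smul_right (Am.trace)⁻¹
        rw [← hA', ← hW'] at c2
        exact c2.eq
  have hzW : Wm * Wm = -1 := by rw [← e1, hz]
  have htA : Am.trace = 0 := by
    by_contra ht
    apply hAns ((Am.trace)⁻¹ * (Am.det - 1))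
    have h5 : Am.trace • Am = (Am.det - 1) • (1 : Matrix (Fin 2) (Fin 2) F) := by
      rw [hz] at chA
      have : Am.trace • Am = (-1 : Matrix (Fin 2) (Fin 2) F) + Am.det • (1 : Matrix (Fin 2) (Fin 2) F) := by
        rw [chA]; abel
      rw [this, sub_smul, one_smul]; abel
    calc Am = (Am.trace)⁻¹ • (Am.trace • Am) := by rw [smul_smul, inv_mul_cancel₀ ht, one_smul]
      _ = ((Am.trace)⁻¹ * (Am.det - 1)) • (1 : Matrix (Fin 2) (Fin 2) F) := by rw [h5, smul_smul]
  have htW : Wm.trace = 0 := by
    by_contra ht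
    apply hWns ((Wm.trace)⁻¹ * (Wm.det - 1))
    have h5 : Wm.trace • Wm = (Wm.det - 1) • (1 : Matrix (Fin 2) (Fin 2) F) := by
      rw [hzW] at chW
      have : Wm.trace • Wm = (-1 : Matrix (Fin 2) (Fin 2) F) + Wm.det • (1 : Matrix (Fin 2) (Fin 2) F) := by
        rw [chW]; abel
      rw [this, sub_smul, one_smul]; abel
    calc Wm = (Wm.trace)⁻¹ • (Wm.trace • Wm) := by rw [smul_smul, inv_mul_cancel₀ ht, one_smul]
      _ = ((Wm.trace)⁻¹ * (Wm.det - 1)) • (1 : Matrix (Fin 2) (Fin 2) F) := by rw [h5, smul_smul]
  have hdA : Am.det = 1 := by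
    rw [hz, htA, zero_smul, zero_sub] at chA
    have h00 := congrFun (congrFun chA 0) 0
    simp at h00
    exact h00.symm
  have hdW : Wm.det = 1 := by
    rw [hzW, htW, zero_smul, zero_sub] at chW
    have h00 := congrFun (congrFun chW 0) 0
    simp at h00
    exact h00.symm
  refine ⟨⟨hz, hzW, ?_⟩, hdA, hdW⟩
  -- W A = - A W : from A (W A) = W, multiply by A on the left
  have : Am * (Am * (Wm * Am)) = Am * Wm := by rw [ewa]
  rw [← mul_assoc, hz] at this
  have h6 : Wm * Am = -(Am * Wm) := by
    rw [← this]
    simp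
  exact h6

end Cfsg.Agent.helper12.Q8old
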