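import Cfsg.Agent.Lib_helper12_Q8old_a

set_option autoImplicit false

namespace Cfsg.Agent.helper12.Q8old

theorem pow_eq_pow_mod_of_pow_eq_one {G : Type*} [Group G] (h : G) (r : ℕ) (hh : h ^ r = 1) (n : ℕ) :
    h ^ n = h ^ (n % r) := by
  conv_lhs => rw [← Nat.div_add_mod n r, pow_add, pow_mul, hh, one_pow, one_mul]

/-- an element of prime order at least five normalizing a quaternion set centralizes it -/
theorem q8_fix {G : Type*} [Group G] (z a w h X₀ : G) (hz : ∀ g : G, g * z = z * g) (hzz : z * z = 1)
    (r : ℕ) (hr : r.Prime) (hr5 : 5 ≤ r) (hh : h ^ r = 1)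
    (hstab : ∀ g : G, (g = a ∨ g = z * a ∨ g = w ∨ g = z * w ∨ g = a * w ∨ g = z * (a * w)) →
      (h * g * h⁻¹ = a ∨ h * g * h⁻¹ = z * a ∨ h * g * h⁻¹ = w ∨ h * g * h⁻¹ = z * w ∨
        h * g * h⁻¹ = a * w ∨ h * g * h⁻¹ = z * (a * w)))
    (hX₀ : X₀ = a ∨ X₀ = z * a ∨ X₀ = w ∨ X₀ = z * w ∨ X₀ = a * w ∨ X₀ = z * (a * w)) :
    h * X₀ = X₀ * h := by
  classical
  obtain ⟨P, hP⟩ : ∃ P : G → Prop, P = fun g => (g = a ∨ g = z * a ∨ g = w ∨ g = z * w ∨ g = a * w ∨ g = z * (a * w)) := ⟨_, rfl⟩
  have hstab' : ∀ g, P g → P (h * g * h⁻¹) := by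
    intro g hg
    rw [hP] at hg ⊢
    exact hstab g hg
  have hX₀' : P X₀ := by rw [hP]; exact hX₀
  obtain ⟨cls, hcls⟩ : ∃ cls : G → Fin 3, cls = fun g => if g = a ∨ g = z * a then 0 else if g = w ∨ g = z * w then 1 else 2 := ⟨_, rfl⟩
  have zz' : ∀ g : G, z * (z * g) = g := by
    intro g
    rw [← mul_assoc, hzz, one_mul]
  have key : ∀ g g' : G, P g → P g' → cls g = cls g' → g' = g ∨ g' = z * g := by
    intro g g' hg hg' hc
    rw [hP] at hg hg'
    rw [hcls] at hc
    simp only at hc
    by_cases h0 : g = a ∨ g = z * a
    · rw [if_pos h0] at hc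
      by_cases h0' : g' = a ∨ g' = z * a
      · rcases h0 with h0 | h0 <;> rcases h0' with h0' | h0'
        · left; rw [h0, h0']
        · right; rw [h0, h0']
        · right; rw [h0, h0', zz']
        · left; rw [h0, h0']
      · rw [if_neg h0'] at hc
        exfalso
        by_cases h1' : g' = w ∨ g' = z * w
        · rw [if_pos h1'] at hc
          exact absurd hc (by decide)
        · rw [if_neg h1'] at hc
          exact absurd hc (by decide)
    · rw [if_neg h0] at hc
      by_cases h1 : g = w ∨ g = z * w
      · rw [if_pos h1] at hc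
        by_cases h0' : g' = a ∨ g' = z * a
        · rw [if_pos h0'] at hc
          exact absurd hc (by decide)
        · rw [if_neg h0'] at hc
          by_cases h1' : g' = w ∨ g' = z * w
          · rcases h1 with h1 | h1 <;> rcases h1' with h1' | h1'
            · left; rw [h1, h1']
            · right; rw [h1, h1']
            · right; rw [h1, h1', zz']
            · left; rw [h1, h1']
          · rw [if_neg h1'] at hc
            exact absurd hc (by decide)
      · rw [if_neg h1] at hc
        by_cases h0' : g' = a ∨ g' = z * a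
        · rw [if_pos h0'] at hc
          exact absurd hc (by decide)
        · rw [if_neg h0'] at hc
          by_cases h1' : g' = w ∨ g' = z * w
          · rw [if_pos h1'] at hc
            exact absurd hc (by decide)
          · have h2 : g = a * w ∨ g = z * (a * w) := by
              rcases hg with h | h | h | h | h | h
              · exact absurd (Or.inl h) h0
              · exact absurd (Or.inr h) h0
              · exact absurd (Or.inl h) h1
              · exact absurd (Or.inr h) h1
              · exact Or.inl h
              · exact Or.inr h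
            have h2' : g' = a * w ∨ g' = z * (a * w) := by
              rcases hg' with h | h | h | h | h | h
              · exact absurd (Or.inl h) h0'
              · exact absurd (Or.inr h) h0'
              · exact absurd (Or.inl h) h1'
              · exact absurd (Or.inr h) h1'
              · exact Or.inl h
              · exact Or.inr h
            rcases h2 with h2 | h2 <;> rcases h2' with h2' | h2'
            · left; rw [h2, h2']
            · right; rw [h2, h2']
            · right; rw [h2, h2', zz']
            · left; rw [h2, h2']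
  obtain ⟨B, hB⟩ : ∃ B : ℕ → G, B = fun k => h ^ k * X₀ * (h ^ k)⁻¹ := ⟨_, rfl⟩
  have hBsucc : ∀ k, B (k + 1) = h * B k * h⁻¹ := by
    intro k
    rw [hB]
    simp only
    rw [pow_succ']
    group
  have hBP : ∀ k, P (B k) := by
    intro k
    induction k with
    | zero =>
      have : B 0 = X₀ := by rw [hB]; simp
      rw [this]; exact hX₀'
    | succ k ih =>
      rw [hBsucc]
      exact hstab' _ ih
  have hBadd : ∀ i m, B (i + m) = h ^ m * B i * (h ^ m)⁻¹ := by
    intro i m
    rw [hB]
    simp only
    rw [add_comm, pow_add]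
    group
  -- the pigeonhole step
  obtain ⟨i, j, hij, hc⟩ := Fintype.exists_ne_map_eq_of_card_lt (fun k : Fin 4 => cls (B k.val)) (by simp)
  have main : ∀ i j : ℕ, i < j → j < 4 → cls (B i) = cls (B j) → h * X₀ = X₀ * h := by
    intro i j hlt hj4 hcc
    obtain ⟨m, hm⟩ : ∃ m, j = i + m := ⟨j - i, by omega⟩
    have hm1 : 1 ≤ m := by omega
    have hm3 : m ≤ 3 := by omega
    have hrel := key (B i) (B j) (hBP i) (hBP j) hcc
    rw [hm, hBadd] at hrel
    have hcomm2 : h ^ (2 * m) * B i = B i * h ^ (2 * m) := by
      have e2 : h ^ (2 * m) = h ^ m * h ^ m := by rw [two_mul, pow_add]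
      rcases hrel with hrel | hrel
      · have h1 : h ^ m * B i = B i * h ^ m := by
          have := mul_inv_eq_iff_eq_mul.mp hrel
          exact this
        rw [e2, mul_assoc, h1, ← mul_assoc, h1, mul_assoc]
      · have h1 : h ^ m * B i = z * B i * h ^ m := mul_inv_eq_iff_eq_mul.mp hrel
        have hzc : h ^ m * z = z * h ^ m := hz _
        calc h ^ (2 * m) * B i = h ^ m * (h ^ m * B i) := by rw [e2, mul_assoc]
          _ = h ^ m * (z * B i * h ^ m) := by rw [h1]
          _ = (h ^ m * z) * B i * h ^ m := by group
          _ = z * (h ^ m * B i) * h ^ m := by rw [hzc]; group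
          _ = z * (z * B i * h ^ m) * h ^ m := by rw [h1]
          _ = (z * (z * B i)) * (h ^ m * h ^ m) := by group
          _ = B i * h ^ (2 * m) := by rw [zz', e2]
    have hcop : Nat.Coprime (2 * m) r := by
      rw [Nat.coprime_comm, Nat.Prime.coprime_iff_not_dvd hr]
      intro hd
      have := Nat.le_of_dvd (by omega) hd
      interval_cases m
      · have : r = 2 := (Nat.prime_dvd_prime_iff_eq hr Nat.prime_two).mp (by simpa using hd)
        omega
      · have h4 : r ∣ 2 ^ 2 := by simpa using hd
        have : r = 2 := (Nat.prime_dvd_prime_iff_eq hr Nat.prime_two).mp (hr.dvd_of_dvd_pow h4)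
        omega
      · have hr6 : r ≤ 6 := by omega
        interval_cases r
        · omega
        · exact absurd hr (by norm_num)
    obtain ⟨e, -, he⟩ := Nat.exists_mul_mod_eq_one_of_coprime hcop (by omega)
    have hpow : (h ^ (2 * m)) ^ e = h := by
      rw [← pow_mul, pow_eq_pow_mod_of_pow_eq_one h r hh, he, pow_one]
    have hcomm1 : Commute h (B i) := by
      have c : Commute (h ^ (2 * m)) (B i) := hcomm2
      have := c.pow_left e
      rwa [hpow] at this
    have hX : X₀ = (h ^ i)⁻¹ * B i * h ^ i := by
      rw [hB]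
      group
    have c1 : Commute h (h ^ i) := (Commute.refl h).pow_right i
    have c2 : Commute h ((h ^ i)⁻¹ * B i * h ^ i) := (c1.inv_right.mul_right hcomm1).mul_right c1
    rw [← hX] at c2
    exact c2.eq
  rcases lt_or_gt_of_ne (fun hv => hij (Fin.ext hv) : i.val ≠ j.val) with hlt | hlt
  · exact main i.val j.val hlt j.2 hc
  · exact main j.val i.val hlt i.2 hc.symm

end Cfsg.Agent.helper12.Q8old
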