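import Cfsg.Agent.Lib_helper12_Q8old_b
import Cfsg.Agent.Lib_helper12_OrdFour

set_option autoImplicit false

namespace Cfsg.Agent.helper12.Q8old

open Matrix

variable {F : Type*} [Field F]

theorem sl2_q8_centralizer_scalar (h2 : (2 : F) ≠ 0) (a w h : Matrix.SpecialLinearGroup (Fin 2) F)
    (hq : QuatRel (a : Matrix (Fin 2) (Fin 2) F) (w : Matrix (Fin 2) (Fin 2) F))
    (ha : h * a = a * h) (hw : h * w = w * h) : h = 1 ∨ h = sl2NegOne := by
  have h4 : (4 : F) ≠ 0 := by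
    have : (4 : F) = 2 * 2 := by norm_num
    rw [this]
    exact mul_ne_zero h2 h2
  have hta := sl2_trace_zero_of_sq a hq.aa
  have hns : ¬ IsScalar2 (a : Matrix (Fin 2) (Fin 2) F) := by
    apply sl2_not_isScalar2_of_disc
    rw [hta]
    intro h0
    apply h4
    rw [← h0]
    ring
  have hcen : h ∈ Subgroup.centralizer ({a} : Set (Matrix.SpecialLinearGroup (Fin 2) F)) :=
    sl2_mem_centralizer_singleton.mpr ha.symm
  obtain ⟨α, β, hαβ⟩ := sl2_centralizer_form hns hcen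
  have hwm := congrArg (fun m : Matrix.SpecialLinearGroup (Fin 2) F => (m : Matrix (Fin 2) (Fin 2) F)) hw
  simp only [Matrix.SpecialLinearGroup.coe_mul] at hwm
  rw [hαβ] at hwm
  simp only [add_mul, mul_add, Matrix.smul_mul, Matrix.mul_smul, Matrix.one_mul, Matrix.mul_one] at hwm
  rw [hq.wa] at hwm
  have h5 : (2 * β) • ((a : Matrix (Fin 2) (Fin 2) F) * (w : Matrix (Fin 2) (Fin 2) F)) = 0 := by
    have : β • ((a : Matrix (Fin 2) (Fin 2) F) * (w : Matrix (Fin 2) (Fin 2) F)) =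
        β • (-((a : Matrix (Fin 2) (Fin 2) F) * (w : Matrix (Fin 2) (Fin 2) F))) := add_left_cancel hwm
    rw [mul_smul, two_smul]
    nth_rewrite 2 [this]
    simp
  have hβ : β = 0 := by
    have h6 := congrArg (fun M => M * ((a : Matrix (Fin 2) (Fin 2) F) * (w : Matrix (Fin 2) (Fin 2) F))) h5
    simp only [Matrix.smul_mul, hq.aw_sq, zero_mul] at h6
    have h00 := congrFun (congrFun h6 0) 0
    simp at h00
    rcases h00 with h | h
    · exact absurd h h2
    · exact h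
  rw [hβ, zero_smul, add_zero] at hαβ
  have hdet := h.2
  rw [hαβ, Matrix.det_smul, Matrix.det_one, Fintype.card_fin, mul_one] at hdet
  have hfac : (α - 1) * (α + 1) = 0 := by linear_combination hdet
  rcases mul_eq_zero.mp hfac with h' | h'
  · left
    apply Subtype.ext
    rw [hαβ, sub_eq_zero.mp h', one_smul, Matrix.SpecialLinearGroup.coe_one]
  · right
    apply Subtype.ext
    rw [hαβ, sl2NegOne_coe, eq_neg_of_add_eq_zero_left h', neg_smul, one_smul]

/-- no element of prime order at least five normalizes a quaternion group in `SL₂` -/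
theorem sl2_q8_no_prime (h2 : (2 : F) ≠ 0) (a w h : Matrix.SpecialLinearGroup (Fin 2) F)
    (hq : QuatRel (a : Matrix (Fin 2) (Fin 2) F) (w : Matrix (Fin 2) (Fin 2) F))
    (r : ℕ) (hr : r.Prime) (hr5 : 5 ≤ r) (hh : h ^ r = 1)
    (hstab : ∀ g : Matrix.SpecialLinearGroup (Fin 2) F,
      (g = a ∨ g = sl2NegOne * a ∨ g = w ∨ g = sl2NegOne * w ∨ g = a * w ∨ g = sl2NegOne * (a * w)) →
      (h * g * h⁻¹ = a ∨ h * g * h⁻¹ = sl2NegOne * a ∨ h * g * h⁻¹ = w ∨ h * g * h⁻¹ = sl2NegOne * w ∨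
        h * g * h⁻¹ = a * w ∨ h * g * h⁻¹ = sl2NegOne * (a * w))) : h = 1 := by
  have hz : ∀ g : Matrix.SpecialLinearGroup (Fin 2) F, g * sl2NegOne = sl2NegOne * g :=
    fun g => Subgroup.mem_center_iff.mp sl2NegOne_mem_center g
  have c1 := q8_fix sl2NegOne a w h a hz sl2NegOne_mul_self r hr hr5 hh hstab (Or.inl rfl)
  have c2 := q8_fix sl2NegOne a w h w hz sl2NegOne_mul_self r hr hr5 hh hstab (Or.inr (Or.inr (Or.inl rfl)))
  rcases sl2_q8_centralizer_scalar h2 a w h hq c1 c2 with h1 | h1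
  · exact h1
  · exfalso
    have hodd : r % 2 = 1 := by
      rcases hr.eq_two_or_odd with h' | h'
      · omega
      · exact h'
    rw [h1, pow_eq_pow_mod_of_pow_eq_one sl2NegOne 2 (by rw [pow_two, sl2NegOne_mul_self]) r, hodd, pow_one] at hh
    exact sl2NegOne_ne_one h2 hh

/-- elements with scalar square are conjugate to `a` -/
theorem sl2_conj_of_sq_scalar [Fintype F] (hodd : Odd (Fintype.card F)) (a x : Matrix.SpecialLinearGroup (Fin 2) F)
    (ha : (a : Matrix (Fin 2) (Fin 2) F) * (a : Matrix (Fin 2) (Fin 2) F) = -1)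
    (hx : ∃ z : F, (x : Matrix (Fin 2) (Fin 2) F) * (x : Matrix (Fin 2) (Fin 2) F) = z • (1 : Matrix (Fin 2) (Fin 2) F))
    (hns : ∀ z : F, (x : Matrix (Fin 2) (Fin 2) F) ≠ z • (1 : Matrix (Fin 2) (Fin 2) F)) :
    ∃ g : Matrix.SpecialLinearGroup (Fin 2) F, g⁻¹ * x * g = a := by
  obtain ⟨z, hz⟩ := hx
  have hch := sl2_cayley_hamilton x
  rw [hz] at hch
  have ht : (x : Matrix (Fin 2) (Fin 2) F).trace = 0 := by
    by_contra ht
    apply hns ((x : Matrix (Fin 2) (Fin 2) F).trace⁻¹ * (z + 1))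
    have h5 : (x : Matrix (Fin 2) (Fin 2) F).trace • (x : Matrix (Fin 2) (Fin 2) F) = (z + 1) • (1 : Matrix (Fin 2) (Fin 2) F) := by
      rw [add_smul, one_smul, hch]
      abel
    calc (x : Matrix (Fin 2) (Fin 2) F) = (x : Matrix (Fin 2) (Fin 2) F).trace⁻¹ • ((x : Matrix (Fin 2) (Fin 2) F).trace • (x : Matrix (Fin 2) (Fin 2) F)) := by
          rw [smul_smul, inv_mul_cancel₀ ht, one_smul]
      _ = _ := by rw [h5, smul_smul]
  have hxx : (x : Matrix (Fin 2) (Fin 2) F) * (x : Matrix (Fin 2) (Fin 2) F) = -1 := by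
    rw [sl2_cayley_hamilton x, ht, zero_smul, zero_sub]
  obtain ⟨c, hc⟩ := isConj_iff.mp (sl2_isConj_of_sq_neg_one hodd hxx ha)
  exact ⟨c⁻¹, by rw [inv_inv]; exact hc⟩

/-- an element of order three has trace `-1` -/
theorem sl2_trace_of_cube (h3 : (3 : F) ≠ 0) (y : Matrix.SpecialLinearGroup (Fin 2) F) (hy : y * y * y = 1) (hne : y ≠ 1) :
    (y : Matrix (Fin 2) (Fin 2) F).trace = -1 := by
  have hch := sl2_cayley_hamilton y
  have hy' : (y : Matrix (Fin 2) (Fin 2) F) * (y : Matrix (Fin 2) (Fin 2) F) * (y : Matrix (Fin 2) (Fin 2) F) = 1 := by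
    have := congrArg (fun m : Matrix.SpecialLinearGroup (Fin 2) F => (m : Matrix (Fin 2) (Fin 2) F)) hy
    simpa using this
  obtain ⟨t, ht⟩ : ∃ t, t = (y : Matrix (Fin 2) (Fin 2) F).trace := ⟨_, rfl⟩
  rw [← ht] at hch ⊢
  -- y^3 = t y^2 - y = (t^2 - 1) y - t
  have h1 : (t ^ 2 - 1) • (y : Matrix (Fin 2) (Fin 2) F) = (t + 1) • (1 : Matrix (Fin 2) (Fin 2) F) := by
    have : (y : Matrix (Fin 2) (Fin 2) F) * (y : Matrix (Fin 2) (Fin 2) F) * (y : Matrix (Fin 2) (Fin 2) F) =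
        (t ^ 2 - 1) • (y : Matrix (Fin 2) (Fin 2) F) - t • (1 : Matrix (Fin 2) (Fin 2) F) := by
      calc (y : Matrix (Fin 2) (Fin 2) F) * (y : Matrix (Fin 2) (Fin 2) F) * (y : Matrix (Fin 2) (Fin 2) F)
          = (t • (y : Matrix (Fin 2) (Fin 2) F) - 1) * (y : Matrix (Fin 2) (Fin 2) F) := by rw [hch]
        _ = t • ((y : Matrix (Fin 2) (Fin 2) F) * (y : Matrix (Fin 2) (Fin 2) F)) - (y : Matrix (Fin 2) (Fin 2) F) := by
            rw [sub_mul, Matrix.smul_mul, one_mul]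
        _ = t • (t • (y : Matrix (Fin 2) (Fin 2) F) - 1) - (y : Matrix (Fin 2) (Fin 2) F) := by rw [hch]
        _ = (t ^ 2 - 1) • (y : Matrix (Fin 2) (Fin 2) F) - t • (1 : Matrix (Fin 2) (Fin 2) F) := by
            rw [smul_sub, smul_smul, sub_smul, one_smul, pow_two]
            abel
    rw [hy'] at this
    rw [add_smul, one_smul, add_comm]
    exact eq_add_of_sub_eq this.symm
  by_contra hne1
  have ht1 : t + 1 ≠ 0 := fun h => hne1 (by linear_combination h)
  -- (t-1)(t+1) y = (t+1) 1  =>  (t - 1) y = 1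
  have h2 : (t - 1) • (y : Matrix (Fin 2) (Fin 2) F) = 1 := by
    have h3' : (t + 1) • ((t - 1) • (y : Matrix (Fin 2) (Fin 2) F)) = (t + 1) • (1 : Matrix (Fin 2) (Fin 2) F) := by
      rw [smul_smul, ← h1]
      congr 1
      ring
    have := congrArg (fun M => (t + 1)⁻¹ • M) h3'
    simp only [smul_smul] at this
    have e : (t + 1)⁻¹ * ((t + 1) * (t - 1)) = t - 1 := by field_simp
    have e' : (t + 1)⁻¹ * (t + 1) = 1 := inv_mul_cancel₀ ht1
    rw [e, e', one_smul] at this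
    exact this
  -- take determinants: (t-1)^2 = 1 and traces: (t-1) t = 2
  have hd := congrArg Matrix.det h2
  rw [Matrix.det_smul, y.2, Fintype.card_fin, mul_one, Matrix.det_one] at hd
  have htr := congrArg Matrix.trace h2
  rw [Matrix.trace_smul, ← ht, Matrix.trace_one, Fintype.card_fin, smul_eq_mul] at htr
  -- from hd: t^2 - 2t = 0; from htr: t^2 - t = 2 => t = 2 => then hd: 1 = 1 ok; (t-1) y = 1 => y = 1
  have ht2 : t = 2 := by
    have e1 : t ^ 2 - 2 * t = 0 := by linear_combination hd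
    have e2 : t ^ 2 - t = 2 := by
      have : ((2 : ℕ) : F) = 2 := by norm_num
      rw [this] at htr
      linear_combination htr
    linear_combination e2 - e1
  apply hne
  apply Subtype.ext
  rw [Matrix.SpecialLinearGroup.coe_one, ← h2, ht2]
  norm_num

end Cfsg.Agent.helper12.Q8old
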