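import Cfsg.Agent.Lib_helper12_Q8old_c
import Cfsg.Prelude.Def_GeometricClasses

set_option autoImplicit false

namespace Cfsg.Agent.helper12.Q8old

open Matrix

variable {F : Type*} [Field F]

theorem mem_specialLinear_iff (x : GL (Fin 2) F) :
    x ∈ Cfsg.Geo.specialLinear (Fin 2) F ↔ (x : Matrix (Fin 2) (Fin 2) F).det = 1 := by
  rw [Cfsg.Geo.specialLinear, MonoidHom.mem_ker]
  constructor
  · intro h
    have := congrArg Units.val h
    simpa using this
  · intro h
    apply Units.ext
    simpa using h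

theorem toGL_mem_specialLinear (s : Matrix.SpecialLinearGroup (Fin 2) F) :
    SpecialLinearGroup.toGL s ∈ Cfsg.Geo.specialLinear (Fin 2) F := by
  rw [mem_specialLinear_iff]
  exact s.2

theorem toGL_mk (x : GL (Fin 2) F) (h : (x : Matrix (Fin 2) (Fin 2) F).det = 1) :
    SpecialLinearGroup.toGL (⟨(x : Matrix (Fin 2) (Fin 2) F), h⟩ : SpecialLinearGroup (Fin 2) F) = x :=
  Units.ext rfl

/-- the data extracted from a quaternion subgroup of `GL₂` -/
theorem q8_data (h2 : (2 : F) ≠ 0) (R : Subgroup (GL (Fin 2) F)) (e : R ≃* QuaternionGroup 2) :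
    ∃ a w : Matrix.SpecialLinearGroup (Fin 2) F,
      QuatRel (a : Matrix (Fin 2) (Fin 2) F) (w : Matrix (Fin 2) (Fin 2) F) ∧
      w * a * w⁻¹ = a⁻¹ ∧
      (∀ s : Matrix.SpecialLinearGroup (Fin 2) F, SpecialLinearGroup.toGL s ∈ R ↔
        (s = 1 ∨ s = sl2NegOne ∨ s = a ∨ s = sl2NegOne * a ∨ s = w ∨ s = sl2NegOne * w ∨ s = a * w ∨
          s = sl2NegOne * (a * w))) ∧
      (∀ g ∈ R, ∃ s : Matrix.SpecialLinearGroup (Fin 2) F, SpecialLinearGroup.toGL s = g) := by
  obtain ⟨A, W, hAR, hWR, h1, h4, hne, hwa, hall⟩ := exists_q8_gens R e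
  obtain ⟨hq, hdA, hdW⟩ := gl2_q8_matrix h2 A W h1 h4 hne hwa
  obtain ⟨a, ha⟩ : ∃ a : SpecialLinearGroup (Fin 2) F, a = ⟨(A : Matrix (Fin 2) (Fin 2) F), hdA⟩ := ⟨_, rfl⟩
  obtain ⟨w, hw⟩ : ∃ w : SpecialLinearGroup (Fin 2) F, w = ⟨(W : Matrix (Fin 2) (Fin 2) F), hdW⟩ := ⟨_, rfl⟩
  have hta : SpecialLinearGroup.toGL a = A := by rw [ha]; exact toGL_mk A hdA
  have htw : SpecialLinearGroup.toGL w = W := by rw [hw]; exact toGL_mk W hdW
  have hac : (a : Matrix (Fin 2) (Fin 2) F) = (A : Matrix (Fin 2) (Fin 2) F) := by rw [ha]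
  have hwc : (w : Matrix (Fin 2) (Fin 2) F) = (W : Matrix (Fin 2) (Fin 2) F) := by rw [hw]
  have hq' : QuatRel (a : Matrix (Fin 2) (Fin 2) F) (w : Matrix (Fin 2) (Fin 2) F) := by
    rw [hac, hwc]; exact hq
  have hinj := SpecialLinearGroup.toGL_injective (n := Fin 2) (R := F)
  have hwa' : w * a * w⁻¹ = a⁻¹ := by
    apply hinj
    rw [map_mul, map_mul, map_inv, map_inv, hta, htw, hwa]
    group
  have haz : a * a = sl2NegOne := by
    have : ((a * a : SpecialLinearGroup (Fin 2) F) : Matrix (Fin 2) (Fin 2) F) =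
        ((sl2NegOne : SpecialLinearGroup (Fin 2) F) : Matrix (Fin 2) (Fin 2) F) := by
      rw [Matrix.SpecialLinearGroup.coe_mul, hq'.aa, sl2NegOne_coe]
    exact Subtype.ext this
  have hwz : w * w = sl2NegOne := by
    have : ((w * w : SpecialLinearGroup (Fin 2) F) : Matrix (Fin 2) (Fin 2) F) =
        ((sl2NegOne : SpecialLinearGroup (Fin 2) F) : Matrix (Fin 2) (Fin 2) F) := by
      rw [Matrix.SpecialLinearGroup.coe_mul, hq'.ww, sl2NegOne_coe]
    exact Subtype.ext this
  have hzc : ∀ g : SpecialLinearGroup (Fin 2) F, g * sl2NegOne = sl2NegOne * g :=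
    fun g => Subgroup.mem_center_iff.mp sl2NegOne_mem_center g
  have hwaz : w * a = sl2NegOne * (a * w) := by
    have : ((w * a : SpecialLinearGroup (Fin 2) F) : Matrix (Fin 2) (Fin 2) F) =
        ((sl2NegOne * (a * w) : SpecialLinearGroup (Fin 2) F) : Matrix (Fin 2) (Fin 2) F) := by
      rw [Matrix.SpecialLinearGroup.coe_mul, Matrix.SpecialLinearGroup.coe_mul, Matrix.SpecialLinearGroup.coe_mul, sl2NegOne_coe, hq'.wa]
      simp
    exact Subtype.ext this
  have hzR : SpecialLinearGroup.toGL (sl2NegOne : SpecialLinearGroup (Fin 2) F) ∈ R := by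
    rw [← haz, map_mul, hta]
    exact mul_mem hAR hAR
  refine ⟨a, w, hq', hwa', ?_, ?_⟩
  · intro s
    constructor
    · intro hs
      rcases hall _ hs with h | h | h | h | h | h | h | h
      · left
        apply hinj
        rw [h, map_one]
      · right; right; left
        apply hinj
        rw [h, hta]
      · right; left
        apply hinj
        rw [h, ← haz, map_mul, hta, pow_two]
      · right; right; right; left
        apply hinj
        rw [h, ← haz, map_mul, map_mul, hta, pow_succ, pow_two]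
      · right; right; right; right; left
        apply hinj
        rw [h, htw]
      · right; right; right; right; right; right; right
        apply hinj
        rw [h, ← hwaz, map_mul, hta, htw]
      · right; right; right; right; right; left
        apply hinj
        rw [h, ← hzc, ← haz, map_mul, map_mul, hta, htw, pow_two]
      · right; right; right; right; right; right; left
        apply hinj
        have e3 : a * w = w * (a * a * a) := by
          calc a * w = sl2NegOne * (sl2NegOne * (a * w)) := by rw [← mul_assoc, sl2NegOne_mul_self, one_mul]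
            _ = sl2NegOne * (w * a) := by rw [hwaz]
            _ = (w * sl2NegOne) * a := by rw [hzc w, mul_assoc]
            _ = w * (a * a * a) := by rw [haz, mul_assoc]
        rw [h, e3, map_mul, map_mul, map_mul, hta, htw, pow_succ, pow_two]
    · intro hs
      rcases hs with h | h | h | h | h | h | h | h
      · rw [h, map_one]; exact one_mem _
      · rw [h]; exact hzR
      · rw [h, hta]; exact hAR
      · rw [h, map_mul, hta]; exact mul_mem hzR hAR
      · rw [h, htw]; exact hWR
      · rw [h, map_mul, htw]; exact mul_mem hzR hWR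
      · rw [h, map_mul, hta, htw]; exact mul_mem hAR hWR
      · rw [h, map_mul, map_mul, hta, htw]; exact mul_mem hzR (mul_mem hAR hWR)
  · intro g hg
    have hdet : (g : Matrix (Fin 2) (Fin 2) F).det = 1 := by
      have key : ∀ k : ℕ, ((A ^ k : GL (Fin 2) F) : Matrix (Fin 2) (Fin 2) F).det = 1 := by
        intro k
        rw [Units.val_pow_eq_pow_val, Matrix.det_pow, hdA, one_pow]
      rcases hall _ hg with h | h | h | h | h | h | h | h
      · rw [h]; simp
      · rw [h]; exact hdA
      · rw [h]; exact key 2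
      · rw [h]; exact key 3
      · rw [h]; exact hdW
      · rw [h, GeneralLinearGroup.coe_mul, Matrix.det_mul, hdW, hdA, one_mul]
      · rw [h, GeneralLinearGroup.coe_mul, Matrix.det_mul, hdW, key 2, one_mul]
      · rw [h, GeneralLinearGroup.coe_mul, Matrix.det_mul, hdW, key 3, one_mul]
    exact ⟨⟨(g : Matrix (Fin 2) (Fin 2) F), hdet⟩, toGL_mk g hdet⟩

end Cfsg.Agent.helper12.Q8old
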