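import Cfsg.Agent.Lib_helper12_Q8old_d

set_option autoImplicit false

namespace Cfsg.Agent.helper12.Q8old

open Matrix

variable {F : Type*} [Field F]

theorem q8_final [Fintype F] {p : ℕ} [hpF : Fact p.Prime] [CharP F p] (hF : Fintype.card F = p) (hp : 5 ≤ p)
    (R : Subgroup (GL (Fin 2) F)) (hR : Nonempty (↥R ≃* QuaternionGroup 2))
    (r : ℕ) [hrF : Fact r.Prime]
    (hΩ : r ∣ (Cfsg.Geo.subgroupNormalizer R).relIndex (Cfsg.Geo.specialLinear (Fin 2) F)) :
    (∀ x ∈ Cfsg.Geo.specialLinear (Fin 2) F, (∃ z : F, ((x ^ r : GL (Fin 2) F) : Matrix (Fin 2) (Fin 2) F) = z • (1 : Matrix (Fin 2) (Fin 2) F)) →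
      (∀ z : F, (x : Matrix (Fin 2) (Fin 2) F) ≠ z • (1 : Matrix (Fin 2) (Fin 2) F)) →
      ∃ g ∈ Cfsg.Geo.specialLinear (Fin 2) F, g⁻¹ * x * g ∈ Cfsg.Geo.subgroupNormalizer R) ↔ (r = 2 ∨ r = 3) := by
  have hodd : Odd (Fintype.card F) := by
    rw [hF]
    rcases hpF.out.eq_two_or_odd' with h | h
    · omega
    · exact h
  have h2 : (2 : F) ≠ 0 := two_ne_zero_of_odd_card hodd
  have h3 : (3 : F) ≠ 0 := by
    intro h
    have h' : ((3 : ℕ) : F) = 0 := by exact_mod_cast h
    rw [CharP.cast_eq_zero_iff F p] at h'
    have := Nat.le_of_dvd (by norm_num) h'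
    omega
  obtain ⟨e⟩ := hR
  obtain ⟨a, w, hq, hwa, hmem, hsl⟩ := q8_data h2 R e
  have hinj := SpecialLinearGroup.toGL_injective (n := Fin 2) (R := F)
  have hzc : ∀ g : SpecialLinearGroup (Fin 2) F, g * sl2NegOne = sl2NegOne * g :=
    fun g => Subgroup.mem_center_iff.mp sl2NegOne_mem_center g
  have hzne : (sl2NegOne : SpecialLinearGroup (Fin 2) F) ≠ 1 := sl2NegOne_ne_one h2
  have haz : a * a = sl2NegOne := by
    have : ((a * a : SpecialLinearGroup (Fin 2) F) : Matrix (Fin 2) (Fin 2) F) =
        ((sl2NegOne : SpecialLinearGroup (Fin 2) F) : Matrix (Fin 2) (Fin 2) F) := by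
      rw [Matrix.SpecialLinearGroup.coe_mul, hq.aa, sl2NegOne_coe]
    exact Subtype.ext this
  have hwz : w * w = sl2NegOne := by
    have : ((w * w : SpecialLinearGroup (Fin 2) F) : Matrix (Fin 2) (Fin 2) F) =
        ((sl2NegOne : SpecialLinearGroup (Fin 2) F) : Matrix (Fin 2) (Fin 2) F) := by
      rw [Matrix.SpecialLinearGroup.coe_mul, hq.ww, sl2NegOne_coe]
    exact Subtype.ext this
  have hawz : (a * w) * (a * w) = sl2NegOne := by
    have : (((a * w) * (a * w) : SpecialLinearGroup (Fin 2) F) : Matrix (Fin 2) (Fin 2) F) =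
        ((sl2NegOne : SpecialLinearGroup (Fin 2) F) : Matrix (Fin 2) (Fin 2) F) := by
      rw [Matrix.SpecialLinearGroup.coe_mul, Matrix.SpecialLinearGroup.coe_mul, hq.aw_sq, sl2NegOne_coe]
    exact Subtype.ext this
  have hzsq : ∀ g : SpecialLinearGroup (Fin 2) F, g * g = sl2NegOne → (sl2NegOne * g) * (sl2NegOne * g) = sl2NegOne := by
    intro g hg
    calc (sl2NegOne * g) * (sl2NegOne * g) = sl2NegOne * (g * sl2NegOne) * g := by group
      _ = sl2NegOne * (sl2NegOne * g) * g := by rw [hzc g]
      _ = (sl2NegOne * sl2NegOne) * (g * g) := by group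
      _ = sl2NegOne := by rw [sl2NegOne_mul_self, one_mul, hg]
  have hRN : R ≤ Cfsg.Geo.subgroupNormalizer R := Subgroup.le_normalizer
  constructor
  · intro H
    by_contra hcon
    push Not at hcon
    have hr5 : 5 ≤ r := by
      have := hrF.out.two_le
      rcases Nat.lt_or_ge r 5 with hlt | hge
      · exfalso
        interval_cases r
        · exact hcon.1 rfl
        · exact hcon.2 rfl
        · exact absurd hrF.out (by norm_num)
      · exact hge
    have hdvd : r ∣ Nat.card (Cfsg.Geo.specialLinear (Fin 2) F) := dvd_trans hΩ (Subgroup.relIndex_dvd_card _ _)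
    obtain ⟨k, hk⟩ := exists_prime_orderOf_dvd_card' r hdvd
    have hkdet : ((k : GL (Fin 2) F) : Matrix (Fin 2) (Fin 2) F).det = 1 := (mem_specialLinear_iff _).mp k.2
    have hko : orderOf (k : GL (Fin 2) F) = r := by rw [Subgroup.orderOf_coe, hk]
    have hkr : (k : GL (Fin 2) F) ^ r = 1 := by rw [← hko]; exact pow_orderOf_eq_one _
    obtain ⟨g, hg, hgN⟩ := H (k : GL (Fin 2) F) k.2 ⟨1, by rw [hkr]; simp⟩ (by
      intro z hz
      have hz2 : z * z = 1 := by
        have := hkdet
        rw [hz, Matrix.det_smul, Matrix.det_one, Fintype.card_fin, mul_one, pow_two] at this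
        exact this
      have hk2 : (k : GL (Fin 2) F) ^ 2 = 1 := by
        apply Units.ext
        rw [Units.val_pow_eq_pow_val, hz, pow_two, Matrix.smul_mul, Matrix.mul_smul, Matrix.one_mul, smul_smul, hz2, one_smul]
        rfl
      have := orderOf_dvd_of_pow_eq_one hk2
      rw [hko] at this
      have := Nat.le_of_dvd (by norm_num) this
      omega)
    -- the conjugate h' lies in SL₂ and normalizes R
    obtain ⟨h', hh'⟩ : ∃ h' : GL (Fin 2) F, h' = g⁻¹ * (k : GL (Fin 2) F) * g := ⟨_, rfl⟩
    rw [← hh'] at hgN
    have hh'det : (h' : Matrix (Fin 2) (Fin 2) F).det = 1 := by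
      rw [← mem_specialLinear_iff, hh']
      exact mul_mem (mul_mem (inv_mem hg) k.2) hg
    have hh'r : h' ^ r = 1 := by
      rw [hh']
      have : (g⁻¹ * (k : GL (Fin 2) F) * g) ^ r = g⁻¹ * (k : GL (Fin 2) F) ^ r * g := by
        have := conj_pow (a := g⁻¹) (b := (k : GL (Fin 2) F)) (i := r)
        simpa using this
      rw [this, hkr]
      group
    obtain ⟨h, hh⟩ : ∃ h : SpecialLinearGroup (Fin 2) F, h = ⟨(h' : Matrix (Fin 2) (Fin 2) F), hh'det⟩ := ⟨_, rfl⟩
    have hth : SpecialLinearGroup.toGL h = h' := by rw [hh]; exact toGL_mk h' hh'det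
    have hhr : h ^ r = 1 := by
      apply hinj
      rw [map_pow, hth, hh'r, map_one]
    have hnorm : ∀ s : SpecialLinearGroup (Fin 2) F, SpecialLinearGroup.toGL s ∈ R →
        SpecialLinearGroup.toGL (h * s * h⁻¹) ∈ R := by
      intro s hs
      rw [map_mul, map_mul, map_inv, hth]
      exact (Subgroup.mem_normalizer_iff.mp hgN _).mp hs
    have hstab : ∀ g : SpecialLinearGroup (Fin 2) F,
        (g = a ∨ g = sl2NegOne * a ∨ g = w ∨ g = sl2NegOne * w ∨ g = a * w ∨ g = sl2NegOne * (a * w)) →
        (h * g * h⁻¹ = a ∨ h * g * h⁻¹ = sl2NegOne * a ∨ h * g * h⁻¹ = w ∨ h * g * h⁻¹ = sl2NegOne * w ∨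
          h * g * h⁻¹ = a * w ∨ h * g * h⁻¹ = sl2NegOne * (a * w)) := by
      intro s hs
      have hsq : s * s = sl2NegOne := by
        rcases hs with h | h | h | h | h | h
        · rw [h]; exact haz
        · rw [h]; exact hzsq a haz
        · rw [h]; exact hwz
        · rw [h]; exact hzsq w hwz
        · rw [h]; exact hawz
        · rw [h]; exact hzsq (a * w) hawz
      have hsR : SpecialLinearGroup.toGL s ∈ R := by
        rw [hmem]
        rcases hs with h | h | h | h | h | h
        · right; right; left; exact h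
        · right; right; right; left; exact h
        · right; right; right; right; left; exact h
        · right; right; right; right; right; left; exact h
        · right; right; right; right; right; right; left; exact h
        · right; right; right; right; right; right; right; exact h
      have hcsq : (h * s * h⁻¹) * (h * s * h⁻¹) = sl2NegOne := by
        calc (h * s * h⁻¹) * (h * s * h⁻¹) = h * (s * s) * h⁻¹ := by group
          _ = sl2NegOne := by rw [hsq, hzc h, mul_inv_cancel_right]
      rcases (hmem _).mp (hnorm s hsR) with h | h | h | h | h | h | h | h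
      · exfalso
        rw [h, one_mul] at hcsq
        exact hzne hcsq.symm
      · exfalso
        rw [h, sl2NegOne_mul_self] at hcsq
        exact hzne hcsq.symm
      · left; exact h
      · right; left; exact h
      · right; right; left; exact h
      · right; right; right; left; exact h
      · right; right; right; right; left; exact h
      · right; right; right; right; right; exact h
    have hone := sl2_q8_no_prime h2 a w h hq r hrF.out hr5 hhr hstab
    have hh'1 : h' = 1 := by rw [← hth, hone, map_one]
    have hk1 : (k : GL (Fin 2) F) = 1 := by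
      have : (k : GL (Fin 2) F) = g * h' * g⁻¹ := by rw [hh']; group
      rw [this, hh'1]
      group
    rw [hk1, orderOf_one] at hko
    omega
  · rintro (rfl | rfl)
    · -- r = 2
      intro x hx hxz hxns
      have hxdet := (mem_specialLinear_iff x).mp hx
      obtain ⟨s, hs⟩ : ∃ s : SpecialLinearGroup (Fin 2) F, s = ⟨(x : Matrix (Fin 2) (Fin 2) F), hxdet⟩ := ⟨_, rfl⟩
      have hts : SpecialLinearGroup.toGL s = x := by rw [hs]; exact toGL_mk x hxdet
      have hsc : (s : Matrix (Fin 2) (Fin 2) F) = (x : Matrix (Fin 2) (Fin 2) F) := by rw [hs]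
      obtain ⟨g, hg⟩ := sl2_conj_of_sq_scalar hodd a s hq.aa (by
        obtain ⟨z, hz⟩ := hxz
        refine ⟨z, ?_⟩
        rw [hsc, ← hz, Units.val_pow_eq_pow_val, pow_two]) (by rw [hsc]; exact hxns)
      refine ⟨SpecialLinearGroup.toGL g, toGL_mem_specialLinear g, ?_⟩
      rw [← hts, ← map_inv, ← map_mul, ← map_mul, hg]
      apply hRN
      rw [hmem]
      right; right; left; rfl
    · -- r = 3
      intro x hx hxz hxns
      have hxdet := (mem_specialLinear_iff x).mp hx
      obtain ⟨s, hs⟩ : ∃ s : SpecialLinearGroup (Fin 2) F, s = ⟨(x : Matrix (Fin 2) (Fin 2) F), hxdet⟩ := ⟨_, rfl⟩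
      have hts : SpecialLinearGroup.toGL s = x := by rw [hs]; exact toGL_mk x hxdet
      have hsc : (s : Matrix (Fin 2) (Fin 2) F) = (x : Matrix (Fin 2) (Fin 2) F) := by rw [hs]
      obtain ⟨z, hz⟩ := hxz
      rw [Units.val_pow_eq_pow_val] at hz
      have hz2 : z * z = 1 := by
        have := congrArg Matrix.det hz
        rw [Matrix.det_pow, hxdet, one_pow, Matrix.det_smul, Matrix.det_one, Fintype.card_fin, mul_one, pow_two] at this
        exact this.symm
      have hs3 : ((s * s * s : SpecialLinearGroup (Fin 2) F) : Matrix (Fin 2) (Fin 2) F) = z • (1 : Matrix (Fin 2) (Fin 2) F) := by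
        rw [Matrix.SpecialLinearGroup.coe_mul, Matrix.SpecialLinearGroup.coe_mul, hsc, ← hz, pow_succ, pow_two]
      have hsns : s ≠ 1 ∧ s ≠ sl2NegOne := by
        constructor
        · intro h
          apply hxns 1
          rw [← hsc, h, one_smul, Matrix.SpecialLinearGroup.coe_one]
        · intro h
          apply hxns (-1)
          rw [← hsc, h, sl2NegOne_coe]
          simp
      -- the element y of order three
      obtain ⟨ν, hν1, hν2, hν3⟩ := sl2_quat_nu h2 a w (by rw [Matrix.SpecialLinearGroup.coe_mul]; exact hq.aa)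
        (by rw [Matrix.SpecialLinearGroup.coe_mul]; exact hq.ww) hwa
      have hνne : ν ≠ 1 := by
        intro h
        rw [h] at hν1
        have : w = 1 := by
          have h5 : a = a * w := by simpa using hν1
          have := mul_left_cancel (a := a) (b := 1) (c := w) (by rw [mul_one]; exact h5)
          exact this.symm
        rw [this, one_mul] at hwz
        exact hzne hwz.symm
      have hνt := sl2_trace_of_cube h3 ν hν3 hνne
      -- ν normalizes R
      have hνfwd : ∀ g ∈ R, SpecialLinearGroup.toGL ν * g * (SpecialLinearGroup.toGL ν)⁻¹ ∈ R := by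
        intro g hg
        obtain ⟨t, rfl⟩ := hsl g hg
        rw [← map_inv, ← map_mul, ← map_mul, hmem]
        have hνa : ν * (sl2NegOne * a) * ν⁻¹ = sl2NegOne * (a * w) := by
          calc ν * (sl2NegOne * a) * ν⁻¹ = (ν * sl2NegOne) * a * ν⁻¹ := by group
            _ = sl2NegOne * (ν * a * ν⁻¹) := by rw [hzc ν]; group
            _ = sl2NegOne * (a * w) := by rw [hν1]
        have hνw : ν * (sl2NegOne * w) * ν⁻¹ = sl2NegOne * a := by
          calc ν * (sl2NegOne * w) * ν⁻¹ = (ν * sl2NegOne) * w * ν⁻¹ := by group
            _ = sl2NegOne * (ν * w * ν⁻¹) := by rw [hzc ν]; group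
            _ = sl2NegOne * a := by rw [hν2]
        have hνaw : ν * (a * w) * ν⁻¹ = (a * w) * a := by
          calc ν * (a * w) * ν⁻¹ = (ν * a * ν⁻¹) * (ν * w * ν⁻¹) := by group
            _ = (a * w) * a := by rw [hν1, hν2]
        have hawa : (a * w) * a = w := by
          -- w a = a⁻¹ w  and a⁻¹ = z a
          have h5 : w * a = a⁻¹ * w := by rw [← hwa]; group
          have h6 : a⁻¹ = sl2NegOne * a := by
            rw [inv_eq_iff_eq_inv, _root_.mul_inv_rev]
            have : sl2NegOne⁻¹ = (sl2NegOne : SpecialLinearGroup (Fin 2) F) := inv_eq_of_mul_eq_one_right sl2NegOne_mul_self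
            rw [this]
            rw [← haz]
            group
          calc (a * w) * a = a * (w * a) := by group
            _ = a * (a⁻¹ * w) := by rw [h5]
            _ = w := by group
        have hνzaw : ν * (sl2NegOne * (a * w)) * ν⁻¹ = sl2NegOne * w := by
          calc ν * (sl2NegOne * (a * w)) * ν⁻¹ = (ν * sl2NegOne) * (a * w) * ν⁻¹ := by group
            _ = sl2NegOne * (ν * (a * w) * ν⁻¹) := by rw [hzc ν]; group
            _ = sl2NegOne * w := by rw [hνaw, hawa]
        rcases (hmem t).mp hg with h | h | h | h | h | h | h | h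
        · left; rw [h]; group
        · right; left; rw [h, hzc ν]; group
        · right; right; right; right; right; right; left; rw [h, hν1]
        · right; right; right; right; right; right; right; rw [h, hνa]
        · right; right; left; rw [h, hν2]
        · right; right; right; left; rw [h, hνw]
        · right; right; right; right; left; rw [h, hνaw, hawa]
        · right; right; right; right; right; left; rw [h, hνzaw]
      have hν3' : SpecialLinearGroup.toGL ν * SpecialLinearGroup.toGL ν * SpecialLinearGroup.toGL ν = 1 := by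
        rw [← map_mul, ← map_mul, hν3, map_one]
      have hνN : SpecialLinearGroup.toGL ν ∈ Cfsg.Geo.subgroupNormalizer R := by
        rw [Cfsg.Geo.subgroupNormalizer, Subgroup.mem_normalizer_iff]
        intro g
        constructor
        · exact hνfwd g
        · intro hg
          have h5 := hνfwd _ (hνfwd _ hg)
          have h6 : SpecialLinearGroup.toGL ν * (SpecialLinearGroup.toGL ν * (SpecialLinearGroup.toGL ν * g * (SpecialLinearGroup.toGL ν)⁻¹) * (SpecialLinearGroup.toGL ν)⁻¹) * (SpecialLinearGroup.toGL ν)⁻¹ = g := by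
            have e1 : (SpecialLinearGroup.toGL ν)⁻¹ = SpecialLinearGroup.toGL ν * SpecialLinearGroup.toGL ν :=
              inv_eq_of_mul_eq_one_left (by rw [hν3'])
            calc _ = (SpecialLinearGroup.toGL ν * SpecialLinearGroup.toGL ν * SpecialLinearGroup.toGL ν) * g *
                  ((SpecialLinearGroup.toGL ν)⁻¹ * (SpecialLinearGroup.toGL ν)⁻¹ * (SpecialLinearGroup.toGL ν)⁻¹) := by group
              _ = g := by
                rw [hν3', one_mul]
                have : (SpecialLinearGroup.toGL ν)⁻¹ * (SpecialLinearGroup.toGL ν)⁻¹ * (SpecialLinearGroup.toGL ν)⁻¹ = 1 := by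
                  rw [← _root_.mul_inv_rev, ← _root_.mul_inv_rev, ← mul_assoc, hν3', inv_one]
                rw [this, mul_one]
          rw [h6] at h5
          exact h5
      have hzN : SpecialLinearGroup.toGL (sl2NegOne : SpecialLinearGroup (Fin 2) F) ∈ Cfsg.Geo.subgroupNormalizer R := by
        apply hRN
        rw [hmem]
        right; left; rfl
      -- choose y = ± s of order three
      have hzcases : z = 1 ∨ z = -1 := by
        have : (z - 1) * (z + 1) = 0 := by linear_combination hz2
        rcases mul_eq_zero.mp this with h | h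
        · left; linear_combination h
        · right; linear_combination h
      have hq1 : Fintype.card F % 2 = 1 := Nat.odd_iff.mp hodd
      have hD : ((-1 : F)) ^ 2 ≠ 4 := by
        intro h
        apply h3
        linear_combination -h
      rcases hzcases with hz1 | hz1
      · have hy3 : s * s * s = 1 := by
          have : ((s * s * s : SpecialLinearGroup (Fin 2) F) : Matrix (Fin 2) (Fin 2) F) =
              ((1 : SpecialLinearGroup (Fin 2) F) : Matrix (Fin 2) (Fin 2) F) := by
            rw [hs3, hz1, one_smul, Matrix.SpecialLinearGroup.coe_one]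
          exact Subtype.ext this
        have hst := sl2_trace_of_cube h3 s hy3 hsns.1
        obtain ⟨c, hc⟩ := isConj_iff.mp (sl2_isConj_of_disc_ne hq1 (hst.trans hνt.symm) (by rw [hst]; exact hD))
        refine ⟨SpecialLinearGroup.toGL c⁻¹, toGL_mem_specialLinear _, ?_⟩
        rw [← hts, ← map_inv, ← map_mul, ← map_mul, inv_inv, hc]
        exact hνN
      · obtain ⟨y, hy⟩ : ∃ y, y = sl2NegOne * s := ⟨_, rfl⟩
        have hsy : s = sl2NegOne * y := by rw [hy, ← mul_assoc, sl2NegOne_mul_self, one_mul]
        have hy3 : y * y * y = 1 := by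
          have h5 : y * y * y = sl2NegOne * (s * s * s) := by
            rw [hy]
            calc sl2NegOne * s * (sl2NegOne * s) * (sl2NegOne * s)
                = sl2NegOne * (s * sl2NegOne) * (s * sl2NegOne) * s := by group
              _ = sl2NegOne * (sl2NegOne * s) * (sl2NegOne * s) * s := by rw [hzc s]
              _ = (sl2NegOne * sl2NegOne) * (s * sl2NegOne) * s * s := by group
              _ = (sl2NegOne * sl2NegOne) * (sl2NegOne * s) * s * s := by rw [hzc s]
              _ = sl2NegOne * (s * s * s) := by rw [sl2NegOne_mul_self]; group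
          have : ((y * y * y : SpecialLinearGroup (Fin 2) F) : Matrix (Fin 2) (Fin 2) F) =
              ((1 : SpecialLinearGroup (Fin 2) F) : Matrix (Fin 2) (Fin 2) F) := by
            rw [h5, Matrix.SpecialLinearGroup.coe_mul, hs3, hz1, sl2NegOne_coe, Matrix.SpecialLinearGroup.coe_one]
            simp
          exact Subtype.ext this
        have hyne : y ≠ 1 := by
          intro h
          apply hsns.2
          rw [hsy, h, mul_one]
        have hyt := sl2_trace_of_cube h3 y hy3 hyne
        obtain ⟨c, hc⟩ := isConj_iff.mp (sl2_isConj_of_disc_ne hq1 (hyt.trans hνt.symm) (by rw [hyt]; exact hD))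
        refine ⟨SpecialLinearGroup.toGL c⁻¹, toGL_mem_specialLinear _, ?_⟩
        rw [← hts, ← map_inv, ← map_mul, ← map_mul, inv_inv, hsy]
        have : c * (sl2NegOne * y) * c⁻¹ = sl2NegOne * ν := by
          calc c * (sl2NegOne * y) * c⁻¹ = (c * sl2NegOne) * y * c⁻¹ := by group
            _ = sl2NegOne * (c * y * c⁻¹) := by rw [hzc c]; group
            _ = sl2NegOne * ν := by rw [hc]
        rw [this, map_mul]
        exact mul_mem hzN hνN

end Cfsg.Agent.helper12.Q8old
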