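import Cfsg.Agent.Lib_helper12_Redundant1

set_option autoImplicit false

namespace Cfsg.Agent.helper12

open Matrix

variable {F : Type*} [Field F]

/-- elementary upper unitriangular matrix -/
def sl2E (b : F) : Matrix.SpecialLinearGroup (Fin 2) F :=
  ⟨!![1, b; 0, 1], by simp [Matrix.det_fin_two]⟩

theorem sl2E_coe (b : F) : ((sl2E b : Matrix.SpecialLinearGroup (Fin 2) F) : Matrix (Fin 2) (Fin 2) F) = !![1, b; 0, 1] := rfl

theorem sl2E_add (b c : F) : sl2E (b + c) = sl2E b * sl2E c := by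
  apply Subtype.ext
  rw [Matrix.SpecialLinearGroup.coe_mul, sl2E_coe, sl2E_coe, sl2E_coe]
  ext i j
  fin_cases i <;> fin_cases j <;> simp [Matrix.mul_apply, Fin.sum_univ_two, add_comm]

theorem sl2E_zero : sl2E (0 : F) = 1 := by
  apply Subtype.ext
  rw [sl2E_coe, Matrix.SpecialLinearGroup.coe_one]
  ext i j
  fin_cases i <;> fin_cases j <;> simp

/-- the unipotent homomorphism -/
def sl2UnipHom (F : Type*) [Field F] : Multiplicative F →* Matrix.SpecialLinearGroup (Fin 2) F where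
  toFun b := sl2E (Multiplicative.toAdd b)
  map_one' := sl2E_zero
  map_mul' _ _ := sl2E_add _ _

theorem sl2UnipHom_injective : Function.Injective (sl2UnipHom F) := by
  intro b c h
  have h' := congrArg (fun m : Matrix.SpecialLinearGroup (Fin 2) F => (m : Matrix (Fin 2) (Fin 2) F) 0 1) h
  simp only [sl2UnipHom, MonoidHom.coe_mk, OneHom.coe_mk, sl2E_coe] at h'
  simpa using h'

/-- the upper unitriangular subgroup -/
def sl2Unip (F : Type*) [Field F] : Subgroup (Matrix.SpecialLinearGroup (Fin 2) F) := (sl2UnipHom F).range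

theorem sl2E_mem (b : F) : sl2E b ∈ sl2Unip F := ⟨Multiplicative.ofAdd b, rfl⟩

theorem mem_sl2Unip (g : Matrix.SpecialLinearGroup (Fin 2) F) : g ∈ sl2Unip F ↔ ∃ b : F, g = sl2E b := by
  constructor
  · rintro ⟨b, rfl⟩
    exact ⟨Multiplicative.toAdd b, rfl⟩
  · rintro ⟨b, rfl⟩
    exact sl2E_mem b

theorem card_sl2Unip [Fintype F] : Nat.card (sl2Unip F) = Fintype.card F := by
  have h1 : Nat.card (sl2Unip F) = Nat.card (Set.range (sl2UnipHom F)) := rfl
  rw [h1, Nat.card_range_of_injective sl2UnipHom_injective, Nat.card_eq_fintype_card]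
  exact Fintype.card_congr Multiplicative.toAdd

theorem sl2_inv_coe' (g : Matrix.SpecialLinearGroup (Fin 2) F) :
    ((g⁻¹ : Matrix.SpecialLinearGroup (Fin 2) F) : Matrix (Fin 2) (Fin 2) F) =
      !![(g : Matrix (Fin 2) (Fin 2) F) 1 1, -(g : Matrix (Fin 2) (Fin 2) F) 0 1;
         -(g : Matrix (Fin 2) (Fin 2) F) 1 0, (g : Matrix (Fin 2) (Fin 2) F) 0 0] := by
  rw [Matrix.SpecialLinearGroup.coe_inv, Matrix.adjugate_fin_two]

/-- the TI computation: if a conjugate of a nontrivial element of `U` by `g⁻¹` is in `U`, then `g`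
conjugates `U` into `U`. -/
theorem sl2Unip_conj (g : Matrix.SpecialLinearGroup (Fin 2) F) (b : F) (hb : b ≠ 0)
    (h : g⁻¹ * sl2E b * g ∈ sl2Unip F) (y : Matrix.SpecialLinearGroup (Fin 2) F) (hy : y ∈ sl2Unip F) :
    g * y * g⁻¹ ∈ sl2Unip F := by
  obtain ⟨c, hc⟩ := (mem_sl2Unip _).mp h
  obtain ⟨t, rfl⟩ := (mem_sl2Unip _).mp hy
  have hc' := congrArg (fun m : Matrix.SpecialLinearGroup (Fin 2) F => (m : Matrix (Fin 2) (Fin 2) F) 1 0) hc
  simp only [Matrix.SpecialLinearGroup.coe_mul, sl2_inv_coe', sl2E_coe] at hc'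
  simp [Matrix.mul_apply, Fin.sum_univ_two] at hc'
  have hdet := g.2
  rw [Matrix.det_fin_two] at hdet
  have h10 : (g : Matrix (Fin 2) (Fin 2) F) 1 0 = 0 := by
    have : b * ((g : Matrix (Fin 2) (Fin 2) F) 1 0) ^ 2 = 0 := by linear_combination -hc'
    rcases mul_eq_zero.mp this with h0 | h0
    · exact absurd h0 hb
    · exact pow_eq_zero_iff (two_ne_zero) |>.mp h0
  rw [h10, mul_zero, sub_zero] at hdet
  rw [mem_sl2Unip]
  refine ⟨(g : Matrix (Fin 2) (Fin 2) F) 0 0 ^ 2 * t, ?_⟩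
  apply Subtype.ext
  simp only [Matrix.SpecialLinearGroup.coe_mul, sl2_inv_coe', sl2E_coe]
  ext i j
  fin_cases i <;> fin_cases j <;> simp [Matrix.mul_apply, Fin.sum_univ_two, h10]
  · exact hdet
  · ring
  · rw [mul_comm]; exact hdet

end Cfsg.Agent.helper12
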