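import Cfsg.Agent.Lib_helper12_Redundant2c

set_option autoImplicit false

namespace Cfsg.Agent.helper12

open Matrix

variable {F : Type*} [Field F]

theorem sl2_big_torus_unique [Fintype F] (hodd : Odd (Fintype.card F))
    (g₀ : Matrix.SpecialLinearGroup (Fin 2) F) (m : ℕ)
    (hD : (g₀ : Matrix (Fin 2) (Fin 2) F).trace ^ 2 ≠ 4)
    (hcard : Nat.card (Subgroup.centralizer ({g₀} : Set (Matrix.SpecialLinearGroup (Fin 2) F))) = m)
    (hord : orderOf g₀ = m)
    (hfac : (Nat.card (Matrix.SpecialLinearGroup (Fin 2) F)).factorization 2 = m.factorization 2 + 1)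
    (j : ℕ) (hpow : m = 2 ^ j)
    (P P' : Sylow 2 (Matrix.SpecialLinearGroup (Fin 2) F)) (h : g₀ ∈ P) (h' : g₀ ∈ P') : P = P' := by
  have hmf : m.factorization 2 = j := by
    rw [hpow, Nat.Prime.factorization_pow Nat.prime_two, Finsupp.single_eq_same]
  have hzc : Subgroup.zpowers g₀ = Subgroup.centralizer ({g₀} : Set (Matrix.SpecialLinearGroup (Fin 2) F)) := by
    apply Subgroup.eq_of_le_of_card_ge
    · rw [Subgroup.zpowers_le]
      exact sl2_mem_centralizer_singleton.mpr rfl
    · rw [hcard, Nat.card_zpowers, hord]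
  obtain ⟨hNcard, -, -⟩ := sl2_torus_normalizer_facts hodd g₀ hD
  apply sylow_two_unique_of_index_two g₀ _ _ P P' h h'
  · rw [hfac, hmf, hord, hpow, pow_succ, mul_comm]
  · rw [hzc, hNcard, hcard, hfac, hmf, hpow, pow_succ, mul_comm]

theorem sl2_exists_cyclic_sylow [Fintype F] (p : ℕ) [hp : Fact p.Prime] (hp2 : p ≠ 2)
    (hpq : ¬ p ∣ Fintype.card F) (hpG : p ∣ Nat.card (Matrix.SpecialLinearGroup (Fin 2) F)) :
    ∃ g : Matrix.SpecialLinearGroup (Fin 2) F,
      orderOf g = p ^ (Nat.card (Matrix.SpecialLinearGroup (Fin 2) F)).factorization p := by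
  have hq2 : 2 ≤ Fintype.card F := Fintype.one_lt_card
  obtain ⟨f1, f2⟩ := sl2_card_factorization (Fintype.card F) p hq2 hp.out hp2
  rw [card_SL2] at hpG ⊢
  have hq1 : 1 ≤ Fintype.card F := by omega
  have hsq : Fintype.card F ^ 2 - 1 = (Fintype.card F - 1) * (Fintype.card F + 1) :=
    Cfsg.Agent.helper11.Torus.sq_sub_one _ hq1
  have h1 : p ∣ (Fintype.card F - 1) * (Fintype.card F + 1) := by
    rw [← hsq]
    exact (Nat.Coprime.dvd_mul_left ((Nat.Prime.coprime_iff_not_dvd hp.out).mpr hpq)).mp hpG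
  rcases (Nat.Prime.dvd_mul hp.out).mp h1 with h | h
  · rw [f1 h]
    exact Cfsg.Agent.helper11.Torus.exists_orderOf_eq_of_dvd_sub_one (Nat.ordProj_dvd _ _)
  · rw [f2 h]
    exact Cfsg.Agent.helper11.Torus.exists_orderOf_eq_of_dvd_add_one (Nat.ordProj_dvd _ _)

theorem odd_card_of_not_two_pow [Fintype F] (h : ¬ ∃ k : ℕ, Fintype.card F = 2 ^ k) :
    Odd (Fintype.card F) := by
  obtain ⟨p₀, -, n, hp₀, hq⟩ := FiniteField.card' F
  rw [hq]
  apply Odd.pow
  rcases hp₀.eq_two_or_odd' with h2 | h2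
  · exfalso
    apply h
    exact ⟨n, by rw [hq, h2]⟩
  · exact h2

theorem sl2_redundant_iff [Fintype F] (p : ℕ) [hp : Fact p.Prime] :
    (∃ Q : Sylow p (Matrix.SpecialLinearGroup (Fin 2) F), IsRedundantSylow p Q) ↔
      (p = 2 ∧ (¬ ∃ k : ℕ, Fintype.card F + 1 = 2 ^ k) ∧ (¬ ∃ k : ℕ, Fintype.card F = 2 ^ k) ∧
        ¬ ∃ k : ℕ, Fintype.card F = 2 ^ k + 1) := by
  have hq2 : 2 ≤ Fintype.card F := Fintype.one_lt_card
  constructor
  · intro hex
    have hpq : ¬ p ∣ Fintype.card F := by
      intro h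
      obtain ⟨hx, hu⟩ := sl2_unip_sylow_unique (F := F) p h
      exact not_exists_redundant_of_unique _ hx hu hex
    have hp2 : p = 2 := by
      by_contra hne
      by_cases hpG : p ∣ Nat.card (Matrix.SpecialLinearGroup (Fin 2) F)
      · obtain ⟨g, hg⟩ := sl2_exists_cyclic_sylow p hne hpq hpG
        exact not_exists_redundant_of_unique g ⟨_, hg⟩ (sylow_unique_of_orderOf g hg) hex
      · exact not_exists_redundant_of_unique 1 ⟨0, by simp⟩
          (fun P P' _ _ => sylow_unique_of_not_dvd hpG P P') hex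
    subst hp2
    have hodd : Odd (Fintype.card F) := by
      rw [Nat.odd_iff]
      have : ¬ 2 ∣ Fintype.card F := hpq
      omega
    have hq1 : Fintype.card F % 2 = 1 := Nat.odd_iff.mp hodd
    obtain ⟨g₀, m, hD, hcard, hord, h4, hfac, hcases⟩ := sl2_exists_big_torus hodd
    have hnot : ¬ ∃ j : ℕ, m = 2 ^ j := by
      rintro ⟨j, hj⟩
      have hmf : m.factorization 2 = j := by
        rw [hj, Nat.Prime.factorization_pow Nat.prime_two, Finsupp.single_eq_same]
      exact not_exists_redundant_of_unique g₀ ⟨j, by rw [hord, hj]⟩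
        (sl2_big_torus_unique hodd g₀ m hD hcard hord hfac j hj) hex
    have hpow4 : ∀ k : ℕ, 2 ≤ k → 2 ^ k % 4 = 0 := by
      intro k hk
      obtain ⟨i, rfl⟩ : ∃ i, k = i + 2 := ⟨k - 2, by omega⟩
      rw [pow_add]
      omega
    refine ⟨rfl, ?_, ?_, ?_⟩
    · rintro ⟨k, hk⟩
      rcases hcases with ⟨hm, h41⟩ | ⟨hm, h43⟩
      · rcases Nat.lt_or_ge k 2 with hk2 | hk2
        · interval_cases k <;> omega
        · have := hpow4 k hk2
          omega
      · exact hnot ⟨k, by rw [hm, hk]⟩
    · rintro ⟨k, hk⟩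
      rcases Nat.eq_zero_or_pos k with rfl | hk0
      · simp at hk
        omega
      · obtain ⟨i, rfl⟩ : ∃ i, k = i + 1 := ⟨k - 1, by omega⟩
        rw [pow_succ] at hk
        omega
    · rintro ⟨k, hk⟩
      rcases hcases with ⟨hm, h41⟩ | ⟨hm, h43⟩
      · exact hnot ⟨k, by rw [hm, hk]; simp⟩
      · rcases Nat.lt_or_ge k 2 with hk2 | hk2
        · interval_cases k
          · simp at hk
            omega
          · exact hnot ⟨2, by rw [hm, hk]; norm_num⟩
        · have := hpow4 k hk2
          omega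
  · rintro ⟨rfl, hn1, hn2, hn3⟩
    have hodd : Odd (Fintype.card F) := odd_card_of_not_two_pow hn2
    have h2 : (2 : F) ≠ 0 := two_ne_zero_of_odd_card hodd
    obtain ⟨g₀, m, hD, hcard, hord, h4, hfac, hcases⟩ := sl2_exists_big_torus hodd
    refine ⟨default, isRedundantSylow_of_two _ ?_⟩
    rintro x ⟨k, hk⟩
    by_cases hDx : (x : Matrix (Fin 2) (Fin 2) F).trace ^ 2 = 4
    · -- central case: use an element of order four
      have hm0 : m ≠ 0 := by
        rintro rfl
        rw [hord.symm] at h4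
        exact (orderOf_pos g₀).ne' (by omega)
      obtain ⟨x₄, hx₄⟩ : ∃ x₄, x₄ = g₀ ^ (m / 4) := ⟨_, rfl⟩
      have ho4 : orderOf x₄ = 4 := by
        have hdvd : m / 4 ∣ orderOf g₀ := by
          rw [hord]
          exact Nat.div_dvd_of_dvd h4
        have hpos : m / 4 ≠ 0 := by
          have := Nat.le_of_dvd (Nat.pos_of_ne_zero hm0) h4
          omega
        rw [hx₄, orderOf_pow_of_dvd hpos hdvd, hord]
        exact Nat.div_div_self h4 hm0
      have hD₄ : (x₄ : Matrix (Fin 2) (Fin 2) F).trace ^ 2 ≠ 4 := by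
        intro h
        rcases sl2_two_element_central hodd x₄ 2 (by rw [ho4]; norm_num) h with h1 | h1
        · rw [h1, orderOf_one] at ho4
          omega
        · have : orderOf x₄ ∣ 2 := by
            rw [h1]
            apply orderOf_dvd_of_pow_eq_one
            rw [pow_two, sl2NegOne_mul_self]
          rw [ho4] at this
          omega
      obtain ⟨P₁, P₂, hne, hm1, hm2⟩ :=
        sl2_two_sylows_of_semisimple hodd x₄ 2 (by rw [ho4]; norm_num) hD₄ hn1 hn3
      have hsq : x₄ * x₄ = sl2NegOne := by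
        have h1 : (x₄ * x₄) * (x₄ * x₄) = 1 := by
          have := pow_orderOf_eq_one x₄
          rw [ho4] at this
          rw [← this, pow_succ, pow_succ, pow_succ, pow_one, mul_assoc, mul_assoc, mul_assoc]
        rcases sl2_sq_eq_one h2 h1 with h | h
        · exfalso
          have h3 : x₄ * x₄ = 1 := by
            apply Subtype.ext
            rw [h, Matrix.SpecialLinearGroup.coe_one]
          have : orderOf x₄ ∣ 2 := by
            apply orderOf_dvd_of_pow_eq_one
            rw [pow_two, h3]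
          rw [ho4] at this
          omega
        · apply Subtype.ext
          rw [h, sl2NegOne_coe]
      refine ⟨P₁, P₂, hne, ?_, ?_⟩
      · rcases sl2_two_element_central hodd x k hk hDx with h | h
        · rw [h]
          exact one_mem _
        · rw [h, ← hsq]
          exact mul_mem hm1 hm1
      · rcases sl2_two_element_central hodd x k hk hDx with h | h
        · rw [h]
          exact one_mem _
        · rw [h, ← hsq]
          exact mul_mem hm2 hm2
    · exact sl2_two_sylows_of_semisimple hodd x k hk hDx hn1 hn3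

end Cfsg.Agent.helper12
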