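import Cfsg.Agent.Lib_helper12_Redundant1

set_option autoImplicit false

namespace Cfsg.Agent.helper12

variable {G : Type*} [Group G]

/-- lifting `p`-elements along a surjection of finite groups -/
theorem exists_pElement_lift [Finite G] {H : Type*} [Group H] (f : G →* H)
    (hf : Function.Surjective f) {p : ℕ} [hp : Fact p.Prime] (y' : H) (k : ℕ)
    (hy' : orderOf y' = p ^ k) :
    ∃ y : G, f y = y' ∧ ∃ k' : ℕ, orderOf y = p ^ k' := by
  obtain ⟨x, rfl⟩ := hf y'
  have hn0 : orderOf x ≠ 0 := (orderOf_pos x).ne'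
  obtain ⟨a, m, hm, hn⟩ := Nat.exists_eq_pow_mul_and_not_dvd hn0 p hp.out.ne_one
  have hcop : Nat.Coprime m (p ^ a) :=
    Nat.Coprime.pow_right a ((Nat.Prime.coprime_iff_not_dvd hp.out).mpr hm).symm
  have hdvd1 : orderOf (f x) ∣ orderOf x := orderOf_map_dvd f x
  have hfa : (f x) ^ (p ^ a) = 1 := by
    rw [← orderOf_dvd_iff_pow_eq_one, hy']
    rw [hy', hn] at hdvd1
    have hpm : Nat.Coprime p m := (Nat.Prime.coprime_iff_not_dvd hp.out).mpr hm
    exact Nat.Coprime.dvd_of_dvd_mul_right (Nat.Coprime.pow_left k hpm) hdvd1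
  have hbez : (m : ℤ) * Nat.gcdA m (p ^ a) + ((p ^ a : ℕ) : ℤ) * Nat.gcdB m (p ^ a) = 1 := by
    have := Nat.gcd_eq_gcd_ab m (p ^ a)
    rw [hcop] at this
    simpa using this.symm
  refine ⟨x ^ ((m : ℤ) * Nat.gcdA m (p ^ a)), ?_, ?_⟩
  · rw [map_zpow]
    have h1 : (m : ℤ) * Nat.gcdA m (p ^ a) = 1 - ((p ^ a : ℕ) : ℤ) * Nat.gcdB m (p ^ a) := by
      linarith
    rw [h1, zpow_sub, zpow_one, zpow_mul, zpow_natCast, hfa, one_zpow, inv_one, mul_one]
  · have h1 : (x ^ ((m : ℤ) * Nat.gcdA m (p ^ a))) ^ (p ^ a) = 1 := by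
      rw [← zpow_natCast, ← zpow_mul]
      have : (m : ℤ) * Nat.gcdA m (p ^ a) * ((p ^ a : ℕ) : ℤ) =
          ((orderOf x : ℕ) : ℤ) * Nat.gcdA m (p ^ a) := by
        rw [hn]
        push_cast
        ring
      rw [this, zpow_mul, zpow_natCast, pow_orderOf_eq_one, one_zpow]
    have h2 := orderOf_dvd_of_pow_eq_one h1
    obtain ⟨k', -, hk'⟩ := (Nat.dvd_prime_pow hp.out).mp h2
    exact ⟨k', hk'⟩

/-- a `p`-element in the coset of a Sylow subgroup modulo the center lies in that Sylow subgroup -/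
theorem mem_sylow_of_mk_mem_map [Finite G] {p : ℕ} [hp : Fact p.Prime] (P : Sylow p G) (y : G)
    (k : ℕ) (hy : orderOf y = p ^ k)
    (h : (QuotientGroup.mk' (Subgroup.center G)) y ∈
      (P : Subgroup G).map (QuotientGroup.mk' (Subgroup.center G))) : y ∈ P := by
  obtain ⟨a, haP, hay⟩ := h
  have hz : a⁻¹ * y ∈ Subgroup.center G := by
    have := QuotientGroup.eq.mp hay
    exact this
  obtain ⟨z, hzdef⟩ : ∃ z, z = a⁻¹ * y := ⟨_, rfl⟩
  rw [← hzdef] at hz
  have hyz : y = a * z := by rw [hzdef]; group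
  have hzc : ∀ g : G, g * z = z * g := fun g => (Subgroup.mem_center_iff.mp hz g)
  have hcomm : Commute a⁻¹ y := by
    have h1 : Commute a y := by
      show a * y = y * a
      rw [hyz, mul_assoc, hzc a]
    exact h1.inv_left
  obtain ⟨ka, hka⟩ := (IsPGroup.iff_orderOf.mp P.isPGroup') ⟨a, haP⟩
  have hoa : orderOf a = p ^ ka := by
    rw [← hka, Subgroup.orderOf_mk]
  have hzp : z ^ (p ^ (ka + k)) = 1 := by
    rw [hzdef, hcomm.mul_pow, inv_pow, pow_add, pow_mul, ← hoa, pow_orderOf_eq_one, one_pow, inv_one,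
      one_mul, mul_comm (orderOf a), pow_mul, ← hy, pow_orderOf_eq_one, one_pow]
  have hzpg : IsPGroup p (Subgroup.zpowers z) := by
    obtain ⟨j, -, hj⟩ := (Nat.dvd_prime_pow hp.out).mp (orderOf_dvd_of_pow_eq_one hzp)
    exact isPGroup_zpowers_of_orderOf z j hj
  haveI hnorm : (Subgroup.zpowers z).Normal := by
    constructor
    intro n hn g
    have hnc : n ∈ Subgroup.center G := (Subgroup.zpowers_le.mpr hz) hn
    have : g * n * g⁻¹ = n := by
      rw [Subgroup.mem_center_iff.mp hnc g, mul_inv_cancel_right]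
    rw [this]
    exact hn
  have hsup : IsPGroup p ((P : Subgroup G) ⊔ Subgroup.zpowers z : Subgroup G) :=
    IsPGroup.to_sup_of_normal_right P.isPGroup' hzpg
  have heq := P.is_maximal' hsup le_sup_left
  have hzP : z ∈ (P : Subgroup G) := by
    rw [← heq]
    exact (le_sup_right : Subgroup.zpowers z ≤ _) (Subgroup.mem_zpowers z)
  rw [hyz]
  exact mul_mem haP hzP

/-- redundancy of Sylow subgroups passes between a finite group and its central quotient -/
theorem exists_redundant_quotient_center_iff [Finite G] {p : ℕ} [hp : Fact p.Prime] :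
    (∃ Q : Sylow p (G ⧸ Subgroup.center G), IsRedundantSylow p Q) ↔
      (∃ Q : Sylow p G, IsRedundantSylow p Q) := by
  have hf : Function.Surjective (QuotientGroup.mk' (Subgroup.center G)) :=
    QuotientGroup.mk'_surjective _
  constructor
  · rintro ⟨Q', hQ'⟩
    obtain ⟨Q, rfl⟩ := Sylow.mapSurjective_surjective hf p Q'
    refine ⟨Q, ?_⟩
    intro y ⟨k, hk⟩
    have hfy : ∃ j : ℕ, orderOf ((QuotientGroup.mk' (Subgroup.center G)) y) = p ^ j := by
      have h1 : orderOf ((QuotientGroup.mk' (Subgroup.center G)) y) ∣ p ^ k := by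
        rw [← hk]
        exact orderOf_map_dvd _ y
      obtain ⟨j, -, hj⟩ := (Nat.dvd_prime_pow hp.out).mp h1
      exact ⟨j, hj⟩
    obtain ⟨P', hne, hmem⟩ := hQ' _ hfy
    obtain ⟨P, rfl⟩ := Sylow.mapSurjective_surjective hf p P'
    refine ⟨P, ?_, ?_⟩
    · rintro rfl
      exact hne rfl
    · exact mem_sylow_of_mk_mem_map P y k hk hmem
  · rintro ⟨Q, hQ⟩
    refine ⟨Q.mapSurjective hf, ?_⟩
    intro y' ⟨k, hk⟩
    obtain ⟨y, rfl, k', hk'⟩ := exists_pElement_lift _ hf y' k hk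
    obtain ⟨P, hne, hmem⟩ := hQ y ⟨k', hk'⟩
    refine ⟨P.mapSurjective hf, ?_, ?_⟩
    · intro heq
      apply hne
      have hle : (P : Subgroup G) ≤ (Q : Subgroup G) := by
        intro a haP
        obtain ⟨ka, hka⟩ := (IsPGroup.iff_orderOf.mp P.isPGroup') ⟨a, haP⟩
        have hoa : orderOf a = p ^ ka := by
          rw [← hka, Subgroup.orderOf_mk]
        apply mem_sylow_of_mk_mem_map Q a ka hoa
        have h1 : (QuotientGroup.mk' (Subgroup.center G)) a ∈ P.mapSurjective hf :=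
          ⟨a, haP, rfl⟩
        rw [heq] at h1
        exact h1
      apply Sylow.ext
      exact (P.is_maximal' Q.isPGroup' hle).symm
    · exact ⟨y, hmem, rfl⟩

end Cfsg.Agent.helper12
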