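import Mathlib

set_option autoImplicit false
set_option linter.unusedSectionVars false

/-!
helper12: piece V1 of the S2531 swarm (note 1016): the hyperplane `w ⬝ᵥ v = 0` of `Fin n → F`
has `q ^ (n - 1)` points, stated as `card * q = q ^ n`.
-/

namespace Cfsg.Agent.helper12.S2531

open Matrix

variable {F : Type*} [Field F] [Finite F] {n : ℕ}

theorem card_dot_zero (w : Fin n → F) (hw : w ≠ 0) :
    Set.ncard {v : Fin n → F | w ⬝ᵥ v = 0} * Nat.card F = Nat.card F ^ n := by
  classical
  let φ : (Fin n → F) →+ F :=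
    { toFun := fun v => w ⬝ᵥ v
      map_zero' := dotProduct_zero w
      map_add' := dotProduct_add w }
  have hsurj : Function.Surjective φ := by
    obtain ⟨i, hi⟩ : ∃ i, w i ≠ 0 := by
      by_contra h
      push Not at h
      exact hw (funext h)
    intro c
    refine ⟨Pi.single i (c / w i), ?_⟩
    show w ⬝ᵥ Pi.single i (c / w i) = c
    rw [dotProduct_single]
    field_simp
  have h1 : Nat.card (Fin n → F) = Nat.card F ^ n := by
    rw [Nat.card_fun]
    simp
  have h2 := AddSubgroup.card_eq_card_quotient_mul_card_addSubgroup φ.ker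
  have h3 : Nat.card ((Fin n → F) ⧸ φ.ker) = Nat.card F :=
    Nat.card_congr (QuotientAddGroup.quotientKerEquivOfSurjective φ hsurj).toEquiv
  have h4 : Set.ncard {v : Fin n → F | w ⬝ᵥ v = 0} = Nat.card φ.ker := by
    rw [← Nat.card_coe_set_eq]
    rfl
  rw [h1, h3] at h2
  rw [h4, h2, mul_comm]

end Cfsg.Agent.helper12.S2531
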