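import Mathlib

set_option autoImplicit false

/-!
helper12: arithmetic core of S4871 (average degree of strongly real characters at least 4/3).
-/

namespace Cfsg.Agent.helper12

open Finset

/-- Arithmetic core: `ν ∈ {0,1,-1}`, `k ≤ d`, degrees are `1` or even, the weighted sum is at least
`2 * pc`, and `a * fc ≤ pc` where `a` counts the degree one members with `ν = 1`. -/
theorem s4871_core {ι : Type*} [Fintype ι] [DecidableEq ι] (d k : ι → ℕ) (ν : ι → ℤ)
    (hν : ∀ i, ν i = 0 ∨ ν i = 1 ∨ ν i = -1) (hk : ∀ i, k i ≤ d i)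
    (hd : ∀ i, d i = 1 ∨ 2 ∣ d i) (hd0 : ∀ i, 0 < d i)
    (fc pc : ℕ) (hfc : 0 < fc) (Z : ℤ) (hZ : (fc : ℤ) * ∑ i, ν i * (k i : ℤ) = Z)
    (hZ2 : 2 * (pc : ℤ) ≤ Z)
    (ha : (univ.filter (fun i => d i = 1 ∧ ν i = 1)).card * fc ≤ pc) :
    4 * (univ.filter (fun i => ν i = 1)).card ≤ 3 * ∑ i ∈ univ.filter (fun i => ν i = 1), d i := by
  classical
  set X := univ.filter (fun i => ν i = 1) with hX
  set X1 := univ.filter (fun i => d i = 1 ∧ ν i = 1) with hX1
  set X2 := univ.filter (fun i => d i ≠ 1 ∧ ν i = 1) with hX2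
  have hXu : X = X1 ∪ X2 := by
    ext i
    simp only [hX, hX1, hX2, mem_filter, mem_univ, true_and, mem_union]
    by_cases h : d i = 1 <;> simp [h]
  have hdisj : Disjoint X1 X2 := by
    rw [Finset.disjoint_left]
    intro i h1 h2
    simp only [hX1, hX2, mem_filter, mem_univ, true_and] at h1 h2
    exact h2.1 h1.1
  have hcard : X.card = X1.card + X2.card := by rw [hXu, card_union_of_disjoint hdisj]
  have hsum : ∑ i ∈ X, d i = X1.card + ∑ i ∈ X2, d i := by
    rw [hXu, sum_union hdisj]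
    congr 1
    rw [card_eq_sum_ones]
    apply sum_congr rfl
    intro i hi
    simp only [hX1, mem_filter, mem_univ, true_and] at hi
    exact hi.1
  -- each member of X2 has degree at least 2
  have h2 : 2 * X2.card ≤ ∑ i ∈ X2, d i := by
    rw [mul_comm, ← smul_eq_mul, ← sum_const]
    apply sum_le_sum
    intro i hi
    simp only [hX2, mem_filter, mem_univ, true_and] at hi
    rcases hd i with h | h
    · exact absurd h hi.1
    · have := hd0 i
      obtain ⟨c, hc⟩ := h
      omega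
  -- the weighted sum is at most the degree sum over X
  have hle : ∑ i, ν i * (k i : ℤ) ≤ ((∑ i ∈ X, d i : ℕ) : ℤ) := by
    have h1 : ∑ i, ν i * (k i : ℤ) ≤ ∑ i, (if ν i = 1 then (d i : ℤ) else 0) := by
      apply sum_le_sum
      intro i _
      have hk' : (k i : ℤ) ≤ d i := by exact_mod_cast hk i
      have hk0 : (0 : ℤ) ≤ k i := by positivity
      rcases hν i with h | h | h
      · rw [h, if_neg (by norm_num)]; simp
      · rw [h, if_pos rfl]; simpa using hk'
      · rw [h, if_neg (by norm_num)]; nlinarith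
    rw [← sum_filter] at h1
    push_cast
    exact h1
  -- conclude
  have hS : X1.card ≤ ∑ i ∈ X2, d i := by
    have h3 : 2 * (pc : ℤ) ≤ (fc : ℤ) * ((∑ i ∈ X, d i : ℕ) : ℤ) := by
      calc 2 * (pc : ℤ) ≤ Z := hZ2
        _ = (fc : ℤ) * ∑ i, ν i * (k i : ℤ) := hZ.symm
        _ ≤ (fc : ℤ) * ((∑ i ∈ X, d i : ℕ) : ℤ) := by
          apply mul_le_mul_of_nonneg_left hle
          positivity
    have h4 : 2 * pc ≤ fc * ∑ i ∈ X, d i := by exact_mod_cast h3
    rw [hsum] at h4
    have h5 : 2 * (X1.card * fc) ≤ fc * (X1.card + ∑ i ∈ X2, d i) := by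
      calc 2 * (X1.card * fc) ≤ 2 * pc := by omega
        _ ≤ _ := h4
    have h6 : fc * (2 * X1.card) ≤ fc * (X1.card + ∑ i ∈ X2, d i) := by
      calc fc * (2 * X1.card) = 2 * (X1.card * fc) := by ring
        _ ≤ _ := h5
    have h7 := Nat.le_of_mul_le_mul_left h6 hfc
    omega
  rw [hcard, hsum]
  omega

end Cfsg.Agent.helper12
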