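import Mathlib

set_option autoImplicit false
set_option maxHeartbeats 1000000

/-!
helper17: PIECES A and B of the S4871 swarm (helper12 note 964).
-/

namespace Cfsg.Agent.helper17.S4871x

open scoped BigOperators

theorem pieceA {G : Type*} [Group G] [Finite G] (N P F : Subgroup G) [N.Normal]
    (hdisj : N ⊓ P = ⊥) (hprod : N ⊔ P = ⊤) (hN1 : N ≠ ⊥) (hFP : F ≤ P)
    (hsq : ∀ p ∈ P, p * p ∈ F) (z : G) (hzP : z ∈ P) (hzc : ∀ p ∈ P, z * p = p * z)
    (hzinv : ∀ n ∈ N, z * n * z⁻¹ = n⁻¹) :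
    2 * Nat.card P ≤ Nat.card {h : G // h * h ∈ F} := by
  classical
  -- action of P on N by conjugation
  let φ : P →* MulAut N := (MulAut.conjNormal (H := N)).comp P.subtype
  letI act : MulAction P N := MulAction.compHom N φ
  have hsmul : ∀ (p : P) (n : N), ((p • n : N) : G) = (p : G) * n * (p : G)⁻¹ := by
    intro p n
    exact MulAut.conjNormal_apply (p : G) n
  haveI : Fintype P := Fintype.ofFinite P
  haveI : Fintype N := Fintype.ofFinite N
  haveI : Fintype {h : G // h * h ∈ F} := Fintype.ofFinite _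
  haveI : Fintype (Quotient (MulAction.orbitRel P N)) := Fintype.ofFinite _
  have hB := MulAction.sum_card_fixedBy_eq_card_orbits_mul_card_group P N
  -- at least two orbits
  obtain ⟨n0, hn0N, hn01⟩ : ∃ n0 ∈ N, n0 ≠ 1 := by
    by_contra hcon
    apply hN1
    rw [Subgroup.eq_bot_iff_forall]
    intro x hx
    by_contra hx1
    exact hcon ⟨x, hx, hx1⟩
  have horb : 2 ≤ Fintype.card (Quotient (MulAction.orbitRel P N)) := by
    have h1 : 1 < Fintype.card (Quotient (MulAction.orbitRel P N)) := by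
      rw [Fintype.one_lt_card_iff]
      refine ⟨Quotient.mk'' (1 : N), Quotient.mk'' (⟨n0, hn0N⟩ : N), ?_⟩
      intro h
      have h2 : (1 : N) ∈ MulAction.orbit P (⟨n0, hn0N⟩ : N) :=
        (MulAction.orbitRel_apply).mp (Quotient.exact' h)
      obtain ⟨p, hp⟩ := h2
      have h3 := congrArg Subtype.val hp
      rw [hsmul] at h3
      apply hn01
      have h4 : (p : G) * n0 * (p : G)⁻¹ = 1 := h3
      have h5 : n0 = (p : G)⁻¹ * ((p : G) * n0 * (p : G)⁻¹) * (p : G) := by group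
      rw [h5, h4]
      group
    omega
  -- z⁻¹ inverts N as well
  have hzinv' : ∀ n ∈ N, z⁻¹ * n * z = n⁻¹ := by
    intro n hn
    have hm : z⁻¹ * n * z ∈ N := by
      have := (inferInstance : N.Normal).conj_mem n hn z⁻¹
      rwa [inv_inv] at this
    have h1 := hzinv _ hm
    have h2 : z * (z⁻¹ * n * z) * z⁻¹ = n := by group
    rw [h2] at h1
    -- h1 : n = (z⁻¹ * n * z)⁻¹
    calc z⁻¹ * n * z = ((z⁻¹ * n * z)⁻¹)⁻¹ := (inv_inv _).symm
      _ = n⁻¹ := by rw [← h1]
  -- the injection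
  let Ψ : (Σ p : P, MulAction.fixedBy N p) → {h : G // h * h ∈ F} := fun x =>
    ⟨(x.2.1 : G) * (z⁻¹ * (x.1 : G)), by
      obtain ⟨p', ⟨n, hn⟩⟩ := x
      have hfix : (p' : G) * n * (p' : G)⁻¹ = n := by
        have := congrArg Subtype.val hn
        rw [hsmul] at this
        exact this
      have hpP : z⁻¹ * (p' : G) ∈ P := P.mul_mem (P.inv_mem hzP) p'.2
      show (n : G) * (z⁻¹ * (p' : G)) * ((n : G) * (z⁻¹ * (p' : G))) ∈ F
      have hconj : (z⁻¹ * (p' : G)) * n * (z⁻¹ * (p' : G))⁻¹ = (n : G)⁻¹ := by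
        calc (z⁻¹ * (p' : G)) * n * (z⁻¹ * (p' : G))⁻¹
            = z⁻¹ * ((p' : G) * n * (p' : G)⁻¹) * z := by group
          _ = z⁻¹ * n * z := by rw [hfix]
          _ = (n : G)⁻¹ := hzinv' n n.2
      have hcalc : (n : G) * (z⁻¹ * (p' : G)) * ((n : G) * (z⁻¹ * (p' : G)))
          = (n : G) * ((z⁻¹ * (p' : G)) * n * (z⁻¹ * (p' : G))⁻¹) *
            ((z⁻¹ * (p' : G)) * (z⁻¹ * (p' : G))) := by group
      rw [hcalc, hconj, mul_inv_cancel, one_mul]
      exact hsq _ hpP⟩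
  have hinj : Function.Injective Ψ := by
    rintro ⟨p1, ⟨n1, hn1⟩⟩ ⟨p2, ⟨n2, hn2⟩⟩ h
    have h1 : (n1 : G) * (z⁻¹ * (p1 : G)) = (n2 : G) * (z⁻¹ * (p2 : G)) :=
      congrArg Subtype.val h
    -- n2⁻¹ n1 = (z⁻¹ p2)(z⁻¹ p1)⁻¹ ∈ N ⊓ P
    have h2 : (n2 : G)⁻¹ * n1 = (z⁻¹ * (p2 : G)) * (z⁻¹ * (p1 : G))⁻¹ := by
      have : (n1 : G) = (n2 : G) * (z⁻¹ * (p2 : G)) * (z⁻¹ * (p1 : G))⁻¹ := by
        rw [← h1]; group
      rw [this]; group
    have h3 : (n2 : G)⁻¹ * n1 ∈ N ⊓ P := by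
      refine ⟨N.mul_mem (N.inv_mem n2.2) n1.2, ?_⟩
      rw [h2]
      exact P.mul_mem (P.mul_mem (P.inv_mem hzP) p2.2)
        (P.inv_mem (P.mul_mem (P.inv_mem hzP) p1.2))
    rw [hdisj, Subgroup.mem_bot] at h3
    have hn : (n1 : G) = n2 := by
      have : (n1 : G) = n2 * ((n2 : G)⁻¹ * n1) := by group
      rw [this, h3, mul_one]
    have hn' : n1 = n2 := Subtype.ext hn
    subst hn'
    have hp : (p1 : G) = p2 := by
      have h4 := mul_left_cancel h1
      exact mul_left_cancel h4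
    have hp' : p1 = p2 := Subtype.ext hp
    subst hp'
    rfl
  have hcard := Fintype.card_le_of_injective Ψ hinj
  rw [Fintype.card_sigma, hB] at hcard
  rw [Nat.card_eq_fintype_card, Nat.card_eq_fintype_card]
  calc 2 * Fintype.card P ≤ Fintype.card (Quotient (MulAction.orbitRel P N)) * Fintype.card P :=
        Nat.mul_le_mul_right _ horb
    _ ≤ Fintype.card {h : G // h * h ∈ F} := hcard


theorem pieceB {G : Type*} [Group G] [Finite G] (N P : Subgroup G) [N.Normal] (q : ℕ)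
    [Fact q.Prime] (hq : q ≠ 2) (hNq : IsPGroup q N)
    (hNab : ∀ a ∈ N, ∀ b ∈ N, a * b = b * a) (hP : IsPGroup 2 P) (hP1 : P ≠ ⊥)
    (hdisj : N ⊓ P = ⊥) (hprod : N ⊔ P = ⊤)
    (hmin : N ≠ ⊥ ∧ ∀ M : Subgroup G, M.Normal → M ≠ ⊥ → N ≤ M) :
    ∃ z ∈ P, z ≠ 1 ∧ (∀ p ∈ P, z * p = p * z) ∧ ∀ n ∈ N, z * n * z⁻¹ = n⁻¹ := by
  classical
  haveI : Fact (Nat.Prime 2) := ⟨Nat.prime_two⟩
  have hNn : N.Normal := inferInstance
  -- every element is n * p
  have hdecomp : ∀ g : G, ∃ n ∈ N, ∃ p ∈ P, g = n * p := by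
    intro g
    have hg : g ∈ ((N ⊔ P : Subgroup G) : Set G) := by rw [hprod]; exact Set.mem_univ g
    rw [Subgroup.normal_mul] at hg
    obtain ⟨n, hn, p, hp, h⟩ := Set.mem_mul.mp hg
    exact ⟨n, hn, p, hp, h.symm⟩
  -- a central involution of P
  haveI : Nontrivial P := by
    rw [Subgroup.nontrivial_iff_ne_bot]
    exact hP1
  haveI hcn : Nontrivial (Subgroup.center P) := hP.center_nontrivial
  have hc2 : IsPGroup 2 (Subgroup.center P) := hP.to_subgroup _
  have hdvd : 2 ∣ Nat.card (Subgroup.center P) := by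
    rcases hc2.card_eq_or_dvd with h | h
    · exfalso
      have : Subsingleton (Subgroup.center P) := (Nat.card_eq_one_iff_unique.mp h).1
      exact not_subsingleton _ this
    · exact h
  obtain ⟨y, hy⟩ := exists_prime_orderOf_dvd_card' 2 hdvd
  -- z = y as an element of G
  set z : G := ((y : P) : G) with hz
  have hzP : z ∈ P := (y : P).2
  have hzo : orderOf z = 2 := by
    rw [hz, Subgroup.orderOf_coe, Subgroup.orderOf_coe]
    exact hy
  have hz1 : z ≠ 1 := by
    intro h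
    rw [h, orderOf_one] at hzo
    omega
  have hzz : z * z = 1 := by
    rw [← sq, ← hzo]
    exact pow_orderOf_eq_one z
  have hzinvs : z⁻¹ = z := inv_eq_of_mul_eq_one_right hzz
  have hzc : ∀ p ∈ P, z * p = p * z := by
    intro p hp
    have h1 : (y : P) ∈ Subgroup.center P := y.2
    rw [Subgroup.mem_center_iff] at h1
    have h2 := h1 ⟨p, hp⟩
    exact (congrArg Subtype.val h2).symm
  refine ⟨z, hzP, hz1, hzc, ?_⟩
  -- C_N(z) is normal
  let CN : Subgroup G := N ⊓ Subgroup.centralizer {z}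
  have hmemCN : ∀ c : G, c ∈ CN ↔ c ∈ N ∧ c * z = z * c := by
    intro c
    show c ∈ N ⊓ Subgroup.centralizer {z} ↔ _
    rw [Subgroup.mem_inf]
    constructor
    · intro h
      refine ⟨h.1, ?_⟩
      have h2 := Subgroup.mem_centralizer_iff.mp h.2
      exact (h2 z rfl).symm
    · intro h
      refine ⟨h.1, ?_⟩
      apply Subgroup.mem_centralizer_iff.mpr
      intro x hx
      rw [Set.mem_singleton_iff] at hx
      rw [hx]
      exact h.2.symm
  have hCNn : CN.Normal := by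
    constructor
    intro c hc g
    obtain ⟨hcN, hcz⟩ := (hmemCN c).mp hc
    obtain ⟨n, hn, p, hp, rfl⟩ := hdecomp g
    rw [hmemCN]
    have hpc : p * c * p⁻¹ ∈ N := hNn.conj_mem c hcN p
    have h1 : n * p * c * (n * p)⁻¹ = p * c * p⁻¹ := by
      have h2 : n * (p * c * p⁻¹) = (p * c * p⁻¹) * n := hNab n hn _ hpc
      calc n * p * c * (n * p)⁻¹ = n * (p * c * p⁻¹) * n⁻¹ := by group
        _ = (p * c * p⁻¹) * n * n⁻¹ := by rw [h2]
        _ = p * c * p⁻¹ := by group
    rw [h1]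
    refine ⟨hpc, ?_⟩
    have hzp := hzc p hp
    have hzp' : z * p⁻¹ = p⁻¹ * z := by
      have := hzc p⁻¹ (P.inv_mem hp)
      exact this
    calc p * c * p⁻¹ * z = p * c * (p⁻¹ * z) := by group
      _ = p * c * (z * p⁻¹) := by rw [hzp']
      _ = p * (c * z) * p⁻¹ := by group
      _ = p * (z * c) * p⁻¹ := by rw [hcz]
      _ = (p * z) * c * p⁻¹ := by group
      _ = (z * p) * c * p⁻¹ := by rw [hzp]
      _ = z * (p * c * p⁻¹) := by group
  by_cases hbot : CN = ⊥
  · -- z inverts N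
    intro n hn
    have hzn : z * n * z⁻¹ ∈ N := hNn.conj_mem n hn z
    have hm : n * (z * n * z⁻¹) ∈ CN := by
      rw [hmemCN]
      refine ⟨N.mul_mem hn hzn, ?_⟩
      have hcomm : n * (z * n * z⁻¹) = (z * n * z⁻¹) * n := hNab n hn _ hzn
      rw [hzinvs] at hcomm ⊢
      calc n * (z * n * z) * z = n * z * n * (z * z) := by group
        _ = n * z * n := by rw [hzz, mul_one]
        _ = z * (z * n * z * n) := by
            rw [← mul_assoc, ← mul_assoc, ← mul_assoc, hzz, one_mul]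
        _ = z * (n * (z * n * z)) := by rw [hcomm]
    rw [hbot, Subgroup.mem_bot] at hm
    exact (eq_inv_of_mul_eq_one_right hm)
  · -- z centralizes N: contradiction
    exfalso
    have hNle : N ≤ CN := hmin.2 CN hCNn hbot
    have hzN : ∀ n ∈ N, n * z = z * n := fun n hn => ((hmemCN n).mp (hNle hn)).2
    -- K = C_P(N)
    let K : Subgroup G := P ⊓ Subgroup.centralizer (N : Set G)
    have hmemK : ∀ k : G, k ∈ K ↔ k ∈ P ∧ ∀ n ∈ N, n * k = k * n := by
      intro k
      show k ∈ P ⊓ Subgroup.centralizer (N : Set G) ↔ _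
      rw [Subgroup.mem_inf]
      constructor
      · intro h
        refine ⟨h.1, ?_⟩
        have h2 := Subgroup.mem_centralizer_iff.mp h.2
        exact fun n hn => h2 n hn
      · intro h
        refine ⟨h.1, ?_⟩
        apply Subgroup.mem_centralizer_iff.mpr
        exact fun n hn => h.2 n hn
    have hzK : z ∈ K := (hmemK z).mpr ⟨hzP, hzN⟩
    have hKne : K ≠ ⊥ := by
      intro h
      rw [h, Subgroup.mem_bot] at hzK
      exact hz1 hzK
    have hKn : K.Normal := by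
      constructor
      intro k hk g
      obtain ⟨hkP, hkN⟩ := (hmemK k).mp hk
      obtain ⟨n, hn, p, hp, rfl⟩ := hdecomp g
      rw [hmemK]
      have hpk : p * k * p⁻¹ ∈ P := P.mul_mem (P.mul_mem hp hkP) (P.inv_mem hp)
      have hpkN : ∀ m ∈ N, m * (p * k * p⁻¹) = (p * k * p⁻¹) * m := by
        intro m hm
        have hm' : p⁻¹ * m * p ∈ N := by
          have := hNn.conj_mem m hm p⁻¹
          rwa [inv_inv] at this
        have h1 := hkN _ hm'
        calc m * (p * k * p⁻¹) = p * ((p⁻¹ * m * p) * k) * p⁻¹ := by group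
          _ = p * (k * (p⁻¹ * m * p)) * p⁻¹ := by rw [h1]
          _ = (p * k * p⁻¹) * m := by group
      have h1 : n * p * k * (n * p)⁻¹ = p * k * p⁻¹ := by
        have h2 := hpkN n hn
        calc n * p * k * (n * p)⁻¹ = n * (p * k * p⁻¹) * n⁻¹ := by group
          _ = (p * k * p⁻¹) * n * n⁻¹ := by rw [h2]
          _ = p * k * p⁻¹ := by group
      rw [h1]
      exact ⟨hpk, hpkN⟩
    have hNK : N ≤ K := hmin.2 K hKn hKne
    apply hmin.1
    rw [eq_bot_iff, ← hdisj]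
    intro n hn
    exact ⟨hn, ((hmemK n).mp (hNK hn)).1⟩

end Cfsg.Agent.helper17.S4871x
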