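import Mathlib
import Cfsg.Agent.Lib_helper22_FS
import Cfsg.Agent.Lib_helper24_Char
import Cfsg.Agent.Lib_helper12_CharOps

/-! helper24: pieces D and E of the S4871 swarm (helper12, note 964). -/

set_option autoImplicit false

namespace Cfsg.Agent.helper24.S4871x

open Cfsg Cfsg.Agent.helper24
open scoped ComplexConjugate

universe u

/-- number of square roots, as a complex-valued function -/
noncomputable def sqCount {G : Type u} [Group G] [Fintype G] (g : G) : ℂ := by
  classical
  exact ((Finset.univ.filter (fun s : G => s * s = g)).card : ℂ)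

theorem sqCount_classFunction {G : Type u} [Group G] [Fintype G] :
    IsClassFunction G (sqCount (G := G)) := by
  classical
  intro g x
  unfold sqCount
  congr 1
  apply Finset.card_bij (fun s _ => x⁻¹ * s * x)
  · intro s hs
    simp only [Finset.mem_filter, Finset.mem_univ, true_and] at hs ⊢
    calc x⁻¹ * s * x * (x⁻¹ * s * x) = x⁻¹ * (s * s) * x := by group
      _ = x⁻¹ * (x * g * x⁻¹) * x := by rw [hs]
      _ = g := by group
  · intro a _ b _ hab
    have : x * (x⁻¹ * a * x) * x⁻¹ = x * (x⁻¹ * b * x) * x⁻¹ := by rw [hab]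
    simpa [mul_assoc] using this
  · intro b hb
    simp only [Finset.mem_filter, Finset.mem_univ, true_and] at hb
    refine ⟨x * b * x⁻¹, ?_, by group⟩
    simp only [Finset.mem_filter, Finset.mem_univ, true_and]
    calc x * b * x⁻¹ * (x * b * x⁻¹) = x * (b * b) * x⁻¹ := by group
      _ = x * g * x⁻¹ := by rw [hb]

theorem sum_sqCount_mul {G : Type u} [Group G] [Fintype G] (φ : G → ℂ) :
    ∑ g : G, sqCount g * φ g = ∑ s : G, φ (s * s) := by
  classical
  rw [← Finset.sum_fiberwise (s := Finset.univ) (g := fun s : G => s * s)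
    (f := fun s : G => φ (s * s))]
  refine Finset.sum_congr rfl (fun g _ => ?_)
  unfold sqCount
  rw [Finset.sum_congr rfl (fun s hs => by
    rw [(Finset.mem_filter.1 hs).2] : ∀ s ∈ Finset.univ.filter (fun s : G => s * s = g),
      φ (s * s) = φ g)]
  rw [Finset.sum_const, nsmul_eq_mul]

theorem classInner_sqCount {G : Type u} [Group G] [Fintype G] {χ : G → ℂ}
    (hχ : IsIrrCharacter G χ) : classInner (sqCount (G := G)) χ = helper22.fsInd χ := by
  have hreal : conj (helper22.fsInd χ) = helper22.fsInd χ := by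
    rcases helper22.fsInd_cases hχ with h | h | h <;> rw [h] <;> simp
  rw [← hreal]
  unfold classInner helper22.fsInd
  rw [sum_sqCount_mul (fun g => conj (χ g))]
  rw [map_mul, map_inv₀, map_natCast, map_sum]

theorem sum_fsInd_mul_apply {G : Type u} [Group G] [Fintype G] [Fintype (IrrCharacter G)]
    (g : G) : ∑ χ : IrrCharacter G, helper22.fsInd (χ : G → ℂ) * (χ : G → ℂ) g = sqCount g := by
  have h := classFunction_expansion (sqCount_classFunction (G := G))
  have hg := congrFun h g
  rw [hg, Finset.sum_apply]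
  refine Finset.sum_congr rfl (fun χ _ => ?_)
  rw [Pi.smul_apply, smul_eq_mul, classInner_sqCount χ.2]

/-- PIECE D of note 964. -/
theorem pieceD {G : Type u} [Group G] [Fintype G] [Fintype (Cfsg.IrrCharacter G)]
    (F : Subgroup G) :
    ∑ χ : Cfsg.IrrCharacter G, Cfsg.Agent.helper22.fsInd (χ : G → ℂ) *
        ∑ᶠ f : F, (χ : G → ℂ) f = (Nat.card {h : G // h * h ∈ F} : ℂ) := by
  classical
  have hfin : ∀ χ : IrrCharacter G, ∑ᶠ f : F, (χ : G → ℂ) f = ∑ f : F, (χ : G → ℂ) f :=
    fun χ => finsum_eq_sum_of_fintype _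
  simp only [hfin]
  calc ∑ χ : IrrCharacter G, helper22.fsInd (χ : G → ℂ) * ∑ f : F, (χ : G → ℂ) f
      = ∑ f : F, ∑ χ : IrrCharacter G, helper22.fsInd (χ : G → ℂ) * (χ : G → ℂ) f := by
        rw [Finset.sum_comm]
        refine Finset.sum_congr rfl (fun χ _ => ?_)
        rw [Finset.mul_sum]
    _ = ∑ f : F, sqCount (f : G) := by
        refine Finset.sum_congr rfl (fun f _ => ?_)
        exact sum_fsInd_mul_apply (f : G)
    _ = ∑ g ∈ Finset.univ.filter (fun g : G => g ∈ F), sqCount g := by
        rw [Finset.sum_subtype (Finset.univ.filter (fun g : G => g ∈ F)) (p := fun g => g ∈ F)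
          (by simp) (fun g => sqCount g)]
    _ = (Nat.card {h : G // h * h ∈ F} : ℂ) := by
        rw [Nat.card_eq_fintype_card, Fintype.card_subtype]
        rw [Finset.card_eq_sum_card_fiberwise (f := fun s : G => s * s)
          (s := Finset.univ.filter (fun h : G => h * h ∈ F))
          (t := Finset.univ.filter (fun g : G => g ∈ F))
          (by intro x hx; simpa using hx)]
        rw [Nat.cast_sum]
        refine Finset.sum_congr rfl (fun g hg => ?_)
        have hgF : g ∈ F := (Finset.mem_filter.1 hg).2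
        unfold sqCount
        congr 2
        ext s
        simp only [Finset.mem_filter, Finset.mem_univ, true_and]
        constructor
        · intro h; exact ⟨by rw [h]; exact hgF, h⟩
        · intro h; exact h.2

/-- PIECE E of note 964. -/
theorem pieceE {G : Type u} [Group G] [Finite G] (F : Subgroup G) (χ : Cfsg.IrrCharacter G) :
    ∃ k : ℕ, k ≤ Cfsg.charDegree (χ : G → ℂ) ∧
      ∑ᶠ f : F, (χ : G → ℂ) f = (Nat.card F : ℂ) * k := by
  classical
  have : Fintype G := Fintype.ofFinite G
  have : Fintype F := Fintype.ofFinite F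
  have hχ : IsCharacter G (χ : G → ℂ) := irr_isCharacter χ.2
  have hres : IsCharacter F (fun f : F => (χ : G → ℂ) (f : G)) :=
    helper12.isCharacter_restrict F hχ
  have hone : IsCharacter F (fun _ : F => (1 : ℂ)) :=
    irr_isCharacter (isIrrCharacter_one (G := F))
  obtain ⟨k, hk⟩ := helper12.classInner_char_nat hres hone
  have hF : (Nat.card F : ℂ) ≠ 0 := by exact_mod_cast Nat.card_pos.ne'
  have hsum : ∑ f : F, (χ : G → ℂ) f = (Nat.card F : ℂ) * k := by
    unfold classInner at hk
    simp only [map_one, mul_one] at hk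
    rw [← hk]
    field_simp
  refine ⟨k, ?_, ?_⟩
  · obtain ⟨n, hn⟩ := char_apply_one hχ
    have hdeg : charDegree (χ : G → ℂ) = n := charDegree_natCast _ n hn
    rw [hdeg]
    have h1 : ‖∑ f : F, (χ : G → ℂ) f‖ ≤ (Nat.card F : ℝ) * n := by
      calc ‖∑ f : F, (χ : G → ℂ) f‖ ≤ ∑ f : F, ‖(χ : G → ℂ) f‖ := norm_sum_le _ _
        _ ≤ ∑ _f : F, (n : ℝ) := Finset.sum_le_sum (fun f _ => by
            have h := char_norm_le hχ (f : G)
            rw [hn] at h
            simpa using h)
        _ = (Nat.card F : ℝ) * n := by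
            rw [Finset.sum_const, nsmul_eq_mul, Finset.card_univ, Nat.card_eq_fintype_card]
    rw [hsum] at h1
    have h2 : ‖((Nat.card F : ℂ) * k)‖ = (Nat.card F : ℝ) * k := by
      rw [norm_mul, Complex.norm_natCast, Complex.norm_natCast]
    rw [h2] at h1
    have hFpos : (0 : ℝ) < Nat.card F := by exact_mod_cast Nat.card_pos
    have h3 : (k : ℝ) ≤ n := le_of_mul_le_mul_left h1 hFpos
    exact_mod_cast h3
  · rw [finsum_eq_sum_of_fintype]
    exact hsum

end Cfsg.Agent.helper24.S4871x
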