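import Mathlib

namespace Cfsg.Agent.lead

theorem pieceC {P : Type*} [Group P] [Finite P] (R : Finset (P → ℂ))
    (hmul : ∀ μ ∈ R, ∀ x y, μ (x * y) = μ x * μ y)
    (hpm : ∀ μ ∈ R, ∀ x, μ x = 1 ∨ μ x = -1) :
    R.card * Nat.card {p : P // ∀ μ ∈ R, μ p = 1} ≤ Nat.card P := by
  classical
  haveI : Fintype P := Fintype.ofFinite P
  let g : (P → ℂ) → P → ℤ := fun μ p => if μ p = 1 then 1 else -1
  have hg_pm : ∀ μ p, g μ p = 1 ∨ g μ p = -1 := by
    intro μ p
    simp only [g]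
    split_ifs <;> simp
  have hg_cast : ∀ μ ∈ R, ∀ p, ((g μ p : ℤ) : ℂ) = μ p := by
    intro μ hμ p
    rcases hpm μ hμ p with h | h
    · simp [g, h]
    · have h1 : μ p ≠ 1 := by rw [h]; norm_num
      simp [g, h]
      norm_num
  have hg_mul : ∀ μ ∈ R, ∀ x y, g μ (x * y) = g μ x * g μ y := by
    intro μ hμ x y
    have h : ((g μ (x*y) : ℤ) : ℂ) = ((g μ x * g μ y : ℤ) : ℂ) := by
      push_cast
      rw [hg_cast μ hμ, hg_cast μ hμ, hg_cast μ hμ, hmul μ hμ]
    exact_mod_cast h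
  have hg_sq : ∀ μ p, g μ p * g μ p = 1 := by
    intro μ p
    rcases hg_pm μ p with h | h <;> rw [h] <;> norm_num
  have horth : ∀ μ ∈ R, ∀ μ' ∈ R, μ ≠ μ' → ∑ p : P, g μ p * g μ' p = 0 := by
    intro μ hμ μ' hμ' hne
    obtain ⟨x, hx⟩ : ∃ x, μ x ≠ μ' x := by
      by_contra hcon
      push_neg at hcon
      exact hne (funext hcon)
    have hx' : g μ x * g μ' x = -1 := by
      have h1 : g μ x ≠ g μ' x := by
        intro h
        apply hx
        rw [← hg_cast μ hμ, ← hg_cast μ' hμ', h]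
      rcases hg_pm μ x with a1 | a1 <;> rcases hg_pm μ' x with a2 | a2
      · exact absurd (a1.trans a2.symm) h1
      · rw [a1, a2]; norm_num
      · rw [a1, a2]; norm_num
      · exact absurd (a1.trans a2.symm) h1
    have hshift : ∑ p : P, g μ (x * p) * g μ' (x * p) = ∑ p : P, g μ p * g μ' p :=
      Fintype.sum_equiv (Equiv.mulLeft x) _ _ (fun p => rfl)
    have hneg : ∑ p : P, g μ (x * p) * g μ' (x * p) = - ∑ p : P, g μ p * g μ' p := by
      rw [← Finset.sum_neg_distrib]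
      apply Finset.sum_congr rfl
      intro p _
      rw [hg_mul μ hμ, hg_mul μ' hμ']
      have h2 : g μ x * g μ p * (g μ' x * g μ' p) = (g μ x * g μ' x) * (g μ p * g μ' p) := by
        ring
      rw [h2, hx']; ring
    linarith
  have hdiag : ∀ μ, ∑ p : P, g μ p * g μ p = (Fintype.card P : ℤ) := by
    intro μ
    simp [hg_sq]
  -- the total sum
  have htotal : ∑ p : P, (∑ μ ∈ R, g μ p) ^ 2 = (R.card : ℤ) * (Fintype.card P : ℤ) := by
    have h1 : ∀ p : P, (∑ μ ∈ R, g μ p) ^ 2 = ∑ μ ∈ R, ∑ μ' ∈ R, g μ p * g μ' p := by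
      intro p
      rw [sq, Finset.sum_mul_sum]
    simp_rw [h1]
    rw [Finset.sum_comm]
    have h2 : ∀ μ ∈ R, ∑ p : P, ∑ μ' ∈ R, g μ p * g μ' p = (Fintype.card P : ℤ) := by
      intro μ hμ
      rw [Finset.sum_comm]
      rw [Finset.sum_eq_single_of_mem μ hμ]
      · exact hdiag μ
      · intro μ' hμ' hne
        exact horth μ hμ μ' hμ' (Ne.symm hne)
    rw [Finset.sum_congr rfl h2]
    simp
  -- the part over F
  set F : Finset P := Finset.univ.filter (fun p => ∀ μ ∈ R, μ p = 1) with hF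
  have hFcard : Nat.card {p : P // ∀ μ ∈ R, μ p = 1} = F.card := by
    rw [Nat.card_eq_fintype_card, Fintype.card_subtype]
  have hpart : ∑ p ∈ F, (∑ μ ∈ R, g μ p) ^ 2 = (F.card : ℤ) * (R.card : ℤ) ^ 2 := by
    have h3 : ∀ p ∈ F, (∑ μ ∈ R, g μ p) ^ 2 = (R.card : ℤ) ^ 2 := by
      intro p hp
      have hp' : ∀ μ ∈ R, μ p = 1 := (Finset.mem_filter.mp hp).2
      have h4 : ∑ μ ∈ R, g μ p = (R.card : ℤ) := by
        have h5 : ∀ μ ∈ R, g μ p = 1 := by
          intro μ hμ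
          simp [g, hp' μ hμ]
        rw [Finset.sum_congr rfl h5]
        simp
      rw [h4]
    rw [Finset.sum_congr rfl h3]
    simp
  have hle : ∑ p ∈ F, (∑ μ ∈ R, g μ p) ^ 2 ≤ ∑ p : P, (∑ μ ∈ R, g μ p) ^ 2 := by
    apply Finset.sum_le_sum_of_subset_of_nonneg (Finset.subset_univ F)
    intro p _ _
    positivity
  rw [hpart, htotal] at hle
  rw [hFcard, Nat.card_eq_fintype_card]
  rcases Nat.eq_zero_or_pos R.card with h0 | hpos
  · rw [h0]; simp
  · have hposZ : (0 : ℤ) < (R.card : ℤ) := by exact_mod_cast hpos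
    have h6 : (R.card : ℤ) * ((R.card : ℤ) * (F.card : ℤ)) ≤ (R.card : ℤ) * (Fintype.card P : ℤ) := by
      nlinarith
    have h7 : (R.card : ℤ) * (F.card : ℤ) ≤ (Fintype.card P : ℤ) :=
      le_of_mul_le_mul_left h6 hposZ
    exact_mod_cast h7

end Cfsg.Agent.lead
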