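import Mathlib
import Cfsg.Prelude.Def_Characters
import Cfsg.Prelude.Def_Blocks
import Cfsg.Prelude.Def_Transfer
import Cfsg.Agent.Lib_helper12_S4871a
import Cfsg.Agent.Lib_helper22_FS
import Cfsg.Agent.Lib_helper24_ItoMichler
import Cfsg.Agent.Lib_helper24_CharBasic
import Cfsg.Agent.Lib_helper24_CharOrth
import Cfsg.Agent.Lib_helper23_Linear
import Cfsg.Agent.Lib_helper17_S4871x
import Cfsg.Agent.Lib_lead_S4871C
import Cfsg.Agent.Lib_helper24_S4871x

set_option autoImplicit false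

/-!
helper12: assembly of S4871 from the arithmetic core and the swarm pieces A-E
(helper17 A,B; lead C; helper24 D,E).
-/

namespace Cfsg.Agent.helper12

open Cfsg Finset

/-- real-valued linear characters take values `1` or `-1`. -/
theorem s4871_real_linear_pm {G : Type*} [Group G] [Finite G] {χ : G → ℂ}
    (hχ : IsCharacter G χ) (h1 : χ 1 = 1)
    (hreal : ∀ g, (χ g).im = 0) (g : G) : χ g = 1 ∨ χ g = -1 := by
  have hmul := helper23.linear_char_mul hχ h1
  have hpow : ∀ n : ℕ, χ (g ^ n) = χ g ^ n := by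
    intro n
    induction n with
    | zero => simp [h1]
    | succ n ih => rw [pow_succ, hmul, ih, pow_succ]
  have h2 : χ g ^ orderOf g = 1 := by rw [← hpow, pow_orderOf_eq_one, h1]
  have hx : χ g = (((χ g).re : ℝ) : ℂ) := by
    apply Complex.ext <;> simp [hreal g]
  set x := (χ g).re with hxdef
  rw [hx] at h2 ⊢
  have h3 : x ^ orderOf g = 1 := by exact_mod_cast h2
  have hpos : orderOf g ≠ 0 := (orderOf_pos g).ne'
  have h4 : |x| = 1 := by
    have : |x| ^ orderOf g = 1 := by rw [← abs_pow, h3, abs_one]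
    exact (pow_eq_one_iff_of_nonneg (abs_nonneg x) hpos).mp this
  rcases (abs_eq (by norm_num : (0:ℝ) ≤ 1)).mp h4 with h | h
  · left; rw [h]; simp
  · right; rw [h]; simp

/-- conversion of the statement's subtype count and finsum into filters. -/
theorem s4871_convert {ι : Type*} [Fintype ι] (p q : ι → Prop) [DecidablePred q]
    (h : ∀ i, p i ↔ q i) (d : ι → ℕ)
    (H : 4 * (univ.filter q).card ≤ 3 * ∑ i ∈ univ.filter q, d i) :
    4 * Nat.card {i // p i} ≤ 3 * ∑ᶠ i : {i // p i}, d i.1 := by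
  classical
  have e1 : Nat.card {i // p i} = (univ.filter q).card := by
    rw [Nat.card_eq_fintype_card, Fintype.card_subtype]
    congr 1
    ext i
    simp [h]
  have e2 : ∑ᶠ i : {i // p i}, d i.1 = ∑ i ∈ univ.filter q, d i := by
    rw [finsum_eq_sum_of_fintype]
    rw [← Finset.sum_subtype (univ.filter q) (p := p) (by intro x; simp [h]) (fun i => d i)]
  rw [e1, e2]
  exact H



theorem s4871_main {G : Type*} [Group G] [Finite G] (N P : Subgroup G) (hN : N.Normal) (q : ℕ)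
    [Fact q.Prime] (hq : q ≠ 2) (hNel : Cfsg.IsElementaryAbelian q N) (hP : IsPGroup 2 ↥P)
    (hP1 : P ≠ ⊥) (hdisj : N ⊓ P = ⊥) (hprod : N ⊔ P = ⊤)
    (hmin : N ≠ ⊥ ∧ ∀ M : Subgroup G, M.Normal → M ≠ ⊥ → N ≤ M) :
    4 * Nat.card {χ : Cfsg.IrrCharacter G // (Cfsg.charDegree (χ : G → ℂ) = 1 ∨ 2 ∣ Cfsg.charDegree (χ : G → ℂ)) ∧ (Nat.card G : ℂ)⁻¹ * ∑ᶠ g : G, (χ : G → ℂ) (g * g) = 1} ≤ 3 * (∑ᶠ χ : {χ : Cfsg.IrrCharacter G // (Cfsg.charDegree (χ : G → ℂ) = 1 ∨ 2 ∣ Cfsg.charDegree (χ : G → ℂ)) ∧ (Nat.card G : ℂ)⁻¹ * ∑ᶠ g : G, (χ : G → ℂ) (g * g) = 1}, Cfsg.charDegree (χ.1 : G → ℂ)) := by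
  classical
  have := hN
  have := Fintype.ofFinite G
  have : Finite (IrrCharacter G) := helper24.irr_finite
  have := Fintype.ofFinite (IrrCharacter G)
  -- basic facts on N
  have hNab : ∀ a ∈ N, ∀ b ∈ N, a * b = b * a := by
    intro a ha b hb
    have h := hNel.1.is_comm.comm (⟨a, ha⟩ : N) ⟨b, hb⟩
    exact congrArg Subtype.val h
  have hNq : IsPGroup q N := by
    intro g
    refine ⟨1, ?_⟩
    apply Subtype.ext
    simpa using hNel.2 g.1 g.2
  -- complement and index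
  have hcompl : N.IsComplement' P := by
    apply Subgroup.isComplement'_of_disjoint_and_mul_eq_univ
    · exact disjoint_iff.mpr hdisj
    · rw [← Subgroup.normal_mul, hprod]; rfl
  have hidx : N.index = Nat.card P := hcompl.symm.index_eq_card
  obtain ⟨n2, hn2⟩ := hP.exists_card_eq
  -- degrees
  set d : IrrCharacter G → ℕ := fun χ => charDegree (χ : G → ℂ) with hd_def
  have hd0 : ∀ χ, 0 < d χ := fun χ => helper24.irr_charDegree_pos χ.2
  have hd : ∀ χ, d χ = 1 ∨ 2 ∣ d χ := by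
    intro χ
    have h1 : d χ ∣ 2 ^ n2 := by
      rw [← hn2, ← hidx]
      exact helper24.ito_degree_dvd_index N hNab χ
    obtain ⟨m, _, hm⟩ := (Nat.dvd_prime_pow Nat.prime_two).mp h1
    rcases Nat.eq_zero_or_pos m with h0 | h0
    · left; rw [hm, h0, pow_zero]
    · right; rw [hm]; exact dvd_pow_self 2 h0.ne'
  -- the indicator as an integer
  set ν : IrrCharacter G → ℤ := fun χ =>
    if helper22.fsInd (χ : G → ℂ) = 1 then 1 else if helper22.fsInd (χ : G → ℂ) = -1 then -1 else 0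
    with hν_def
  have hνc : ∀ χ, ((ν χ : ℤ) : ℂ) = helper22.fsInd (χ : G → ℂ) := by
    intro χ
    simp only [hν_def]
    rcases helper22.fsInd_cases χ.2 with h | h | h
    · rw [h]; norm_num
    · rw [h]; norm_num
    · rw [h]; norm_num
  have hν : ∀ χ, ν χ = 0 ∨ ν χ = 1 ∨ ν χ = -1 := by
    intro χ
    simp only [hν_def]
    split_ifs <;> simp
  have hν1 : ∀ χ, ν χ = 1 ↔ helper22.fsInd (χ : G → ℂ) = 1 := by
    intro χ
    constructor
    · intro h
      rw [← hνc χ, h]; norm_num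
    · intro h
      simp only [hν_def, h, if_true]
  -- conversion
  refine s4871_convert _ (fun χ => ν χ = 1) (fun χ => ?_) d ?_
  · rw [hν1 χ]
    constructor
    · intro h
      have h2 := h.2
      rw [finsum_eq_sum_of_fintype] at h2
      exact h2
    · intro h
      refine ⟨hd χ, ?_⟩
      rw [finsum_eq_sum_of_fintype]
      exact h
  -- the real linear characters
  set R' : Finset (IrrCharacter G) := univ.filter (fun χ => d χ = 1 ∧ ν χ = 1) with hR'
  have hlin : ∀ χ ∈ R', (χ : G → ℂ) 1 = 1 ∧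
      (∀ g h : G, (χ : G → ℂ) (g * h) = (χ : G → ℂ) g * (χ : G → ℂ) h) ∧
      (∀ g : G, (χ : G → ℂ) g = 1 ∨ (χ : G → ℂ) g = -1) := by
    intro χ hχ
    simp only [hR', mem_filter, mem_univ, true_and] at hχ
    have hc := helper24.irr_isCharacter χ.2
    have h1 : (χ : G → ℂ) 1 = 1 := by
      rw [← helper24.char_charDegree_cast hc]
      have : charDegree (χ : G → ℂ) = 1 := hχ.1
      rw [this]; norm_num
    have hreal : ∀ g, ((χ : G → ℂ) g).im = 0 := by
      rw [← helper22.fsInd_ne_zero_iff χ.2, (hν1 χ).mp hχ.2]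
      norm_num
    exact ⟨h1, helper23.linear_char_mul hc h1, s4871_real_linear_pm hc h1 hreal⟩
  -- the subgroup F
  let F : Subgroup G :=
    { carrier := {g | g ∈ P ∧ ∀ χ ∈ R', (χ : G → ℂ) g = 1}
      mul_mem' := by
        intro a b ha hb
        refine ⟨P.mul_mem ha.1 hb.1, fun χ hχ => ?_⟩
        rw [(hlin χ hχ).2.1, ha.2 χ hχ, hb.2 χ hχ, mul_one]
      one_mem' := ⟨P.one_mem, fun χ hχ => (hlin χ hχ).1⟩
      inv_mem' := by
        intro a ha
        refine ⟨P.inv_mem ha.1, fun χ hχ => ?_⟩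
        have h := (hlin χ hχ).2.1 a⁻¹ a
        rw [inv_mul_cancel, (hlin χ hχ).1, ha.2 χ hχ, mul_one] at h
        exact h.symm }
  have hFmem : ∀ g, g ∈ F ↔ g ∈ P ∧ ∀ χ ∈ R', (χ : G → ℂ) g = 1 := fun g => Iff.rfl
  have hFP : F ≤ P := fun g hg => hg.1
  have hsq : ∀ p ∈ P, p * p ∈ F := by
    intro p hp
    refine ⟨P.mul_mem hp hp, fun χ hχ => ?_⟩
    rw [(hlin χ hχ).2.1]
    rcases (hlin χ hχ).2.2 p with h | h <;> rw [h] <;> norm_num
  -- the pieces
  obtain ⟨z, hzP, hz1, hzc, hzinv⟩ :=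
    helper17.S4871x.pieceB N P q hq hNq hNab hP hP1 hdisj hprod hmin
  have hA := helper17.S4871x.pieceA N P F hdisj hprod hmin.1 hFP hsq z hzP hzc hzinv
  have hD := helper24.S4871x.pieceD F
  choose k hk hkE using fun χ : IrrCharacter G => helper24.S4871x.pieceE F χ
  have hFpos : 0 < Nat.card F := Nat.card_pos
  have hZ : (Nat.card F : ℤ) * ∑ χ, ν χ * (k χ : ℤ) = (Nat.card {h : G // h * h ∈ F} : ℤ) := by
    have : (((Nat.card F : ℤ) * ∑ χ, ν χ * (k χ : ℤ) : ℤ) : ℂ) =
        (((Nat.card {h : G // h * h ∈ F} : ℕ) : ℤ) : ℂ) := by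
      push_cast
      rw [← hD, Finset.mul_sum]
      apply Finset.sum_congr rfl
      intro χ _
      rw [hkE χ, hνc χ]
      ring
    exact_mod_cast this
  have hZ2 : 2 * (Nat.card P : ℤ) ≤ (Nat.card {h : G // h * h ∈ F} : ℤ) := by exact_mod_cast hA
  -- piece C
  have hodd : Odd q := by
    rcases (Fact.out : q.Prime).eq_two_or_odd' with h | h
    · exact absurd h hq
    · exact h
  have htrivN : ∀ χ ∈ R', ∀ n ∈ N, (χ : G → ℂ) n = 1 := by
    intro χ hχ n hn
    rcases (hlin χ hχ).2.2 n with h | h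
    · exact h
    · exfalso
      have hpow : ∀ m : ℕ, (χ : G → ℂ) (n ^ m) = (χ : G → ℂ) n ^ m := by
        intro m
        induction m with
        | zero => simp [(hlin χ hχ).1]
        | succ m ih => rw [pow_succ, (hlin χ hχ).2.1, ih, pow_succ]
      have h2 := hpow q
      rw [hNel.2 n hn, (hlin χ hχ).1, h, hodd.neg_one_pow] at h2
      norm_num at h2
  have hdecomp : ∀ g : G, ∃ n ∈ N, ∃ p ∈ P, n * p = g := by
    intro g
    have hg : g ∈ (↑(N ⊔ P) : Set G) := by rw [hprod]; trivial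
    rw [Subgroup.normal_mul] at hg
    exact Set.mem_mul.mp hg
  set R : Finset (P → ℂ) := R'.image (fun χ : IrrCharacter G => fun p : P => (χ : G → ℂ) (p : G)) with hR
  have hRcard : R.card = R'.card := by
    rw [hR]
    apply Finset.card_image_of_injOn
    intro χ₁ h₁ χ₂ h₂ heq
    apply Subtype.ext
    funext g
    obtain ⟨n, hn, p, hp, rfl⟩ := hdecomp g
    have hh := congrFun heq ⟨p, hp⟩
    simp only at hh
    rw [(hlin χ₁ h₁).2.1, (hlin χ₂ h₂).2.1, htrivN χ₁ h₁ n hn, htrivN χ₂ h₂ n hn, hh]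
  have hC := lead.pieceC R
    (by
      intro μ hμ x y
      obtain ⟨χ, hχ, rfl⟩ := Finset.mem_image.mp hμ
      exact (hlin χ hχ).2.1 x y)
    (by
      intro μ hμ x
      obtain ⟨χ, hχ, rfl⟩ := Finset.mem_image.mp hμ
      exact (hlin χ hχ).2.2 x)
  have hFcard : Nat.card {p : P // ∀ μ ∈ R, μ p = 1} = Nat.card F := by
    apply Nat.card_congr
    exact
      { toFun := fun p => ⟨p.1.1, ⟨p.1.2, fun χ hχ => p.2 _ (Finset.mem_image_of_mem _ hχ)⟩⟩
        invFun := fun f => ⟨⟨f.1, f.2.1⟩, fun μ hμ => by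
          obtain ⟨χ, hχ, rfl⟩ := Finset.mem_image.mp hμ
          exact f.2.2 χ hχ⟩
        left_inv := fun p => rfl
        right_inv := fun f => rfl }
  have ha : R'.card * Nat.card F ≤ Nat.card P := by
    rw [← hRcard, ← hFcard]; exact hC
  exact s4871_core d k ν hν hk hd hd0 (Nat.card F) (Nat.card P) hFpos _ hZ hZ2 ha

end Cfsg.Agent.helper12
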