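import Cfsg.Agent.Lib_helper12_Sl2SumU
import Cfsg.Agent.Lib_helper12_Sl2BorelClasses

set_option autoImplicit false

namespace Cfsg.Agent.helper12

open Matrix Cfsg
open scoped ComplexConjugate

variable {F : Type*} [Field F]

theorem sl2_disc_centralizer_det [Fintype F] (hodd : Odd (Fintype.card F)) (g : Matrix.SpecialLinearGroup (Fin 2) F)
    (hD : ((g : Matrix (Fin 2) (Fin 2) F) 0 0 + (g : Matrix (Fin 2) (Fin 2) F) 1 1) ^ 2 - 4 ≠ 0) (δ : Fˣ) :
    ∃ c : GL (Fin 2) F, c * Matrix.SpecialLinearGroup.toGL g = Matrix.SpecialLinearGroup.toGL g * c ∧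
      Matrix.GeneralLinearGroup.det c = δ := by
  obtain ⟨s, t, hst⟩ := exists_quadratic_form_eq hodd ((g : Matrix (Fin 2) (Fin 2) F) 0 0 + (g : Matrix (Fin 2) (Fin 2) F) 1 1) (δ : F) hD
  have hdet := sl2_det_entries g
  have hM : (s • (1 : Matrix (Fin 2) (Fin 2) F) + t • (g : Matrix (Fin 2) (Fin 2) F)).det = (δ : F) := by
    rw [Matrix.det_fin_two]
    simp only [Matrix.add_apply, Matrix.smul_apply, Matrix.one_apply, smul_eq_mul]
    simp
    linear_combination hst + t ^ 2 * hdet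
  refine ⟨Matrix.GeneralLinearGroup.mkOfDetNeZero _ (by rw [hM]; exact δ.ne_zero), ?_, ?_⟩
  · apply Units.ext
    simp only [Units.val_mul, Matrix.GeneralLinearGroup.mkOfDetNeZero]
    rw [toGL_coe']
    simp [Matrix.add_mul, Matrix.mul_add]
  · apply Units.ext
    rw [Matrix.GeneralLinearGroup.val_det_apply]
    exact hM

theorem sl2_disc_gl_conj [Fintype F] (hodd : Odd (Fintype.card F)) (g : Matrix.SpecialLinearGroup (Fin 2) F)
    (hD : ((g : Matrix (Fin 2) (Fin 2) F) 0 0 + (g : Matrix (Fin 2) (Fin 2) F) 1 1) ^ 2 - 4 ≠ 0) (x : GL (Fin 2) F) :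
    ∃ s : Matrix.SpecialLinearGroup (Fin 2) F,
      Matrix.SpecialLinearGroup.toGL g = x * Matrix.SpecialLinearGroup.toGL (s⁻¹ * g * s) * x⁻¹ := by
  obtain ⟨c, hcomm, hdet⟩ := sl2_disc_centralizer_det hodd g hD (Matrix.GeneralLinearGroup.det x)
  have hy : Matrix.GeneralLinearGroup.det (c⁻¹ * x) = 1 := by rw [map_mul, map_inv, hdet, inv_mul_cancel]
  let s : Matrix.SpecialLinearGroup (Fin 2) F := ⟨((c⁻¹ * x : GL (Fin 2) F) : Matrix (Fin 2) (Fin 2) F), by
    have := congrArg Units.val hy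
    rwa [Matrix.GeneralLinearGroup.val_det_apply, Units.val_one] at this⟩
  have hs : Matrix.SpecialLinearGroup.toGL s = c⁻¹ * x := Units.ext rfl
  refine ⟨s, ?_⟩
  rw [map_mul, map_mul, map_inv, hs, _root_.mul_inv_rev, inv_inv]
  have e : x * (x⁻¹ * c * Matrix.SpecialLinearGroup.toGL g * (c⁻¹ * x)) * x⁻¹
      = c * Matrix.SpecialLinearGroup.toGL g * c⁻¹ := by group
  rw [e, hcomm, mul_inv_cancel_right]

theorem irr_central_scalar {G : Type*} [Group G] [Finite G] {χ : G → ℂ} (hχ : IsIrrCharacter G χ)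
    (z : G) (hz : ∀ g, g * z = z * g) : ∃ c : ℂ, ‖c‖ = 1 ∧ ∀ g, χ (g * z) = c * χ g := by
  obtain ⟨n, ρ, hirr, rfl⟩ := hχ
  obtain ⟨c, hc⟩ := helper23.exists_scalar_of_commute ρ hirr z hz
  have h1 := helper23.scalar_pow_eq_one ρ (helper23.pos_of_irreducible ρ hirr) hc (orderOf z) (pow_orderOf_eq_one z)
  have h2 : ‖c‖ = 1 := Complex.norm_eq_one_of_pow_eq_one h1 (orderOf_pos z).ne'
  exact ⟨c, h2, fun g => helper23.char_mul_scalar ρ hc g⟩

/-- the permutation character on the projective line takes the value 1 on noncentral elements of trace ±2 -/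
theorem sl2R_one_parabolic [Fintype F] [DecidableEq F] (hodd : Odd (Fintype.card F))
    (g : Matrix.SpecialLinearGroup (Fin 2) F)
    (htr : ((g : Matrix (Fin 2) (Fin 2) F) 0 0 + (g : Matrix (Fin 2) (Fin 2) F) 1 1) ^ 2 = 4)
    (hnc : (g : Matrix (Fin 2) (Fin 2) F) 0 1 ≠ 0 ∨ (g : Matrix (Fin 2) (Fin 2) F) 1 0 ≠ 0) :
    sl2R (1 : MulChar F ℂ) g = 1 := by
  have h2 : (2 : F) ≠ 0 := two_ne_zero_of_odd_card hodd
  have hdet := sl2_det_entries g
  unfold sl2R
  rw [sl2_indBorel_apply]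
  set a := (g : Matrix (Fin 2) (Fin 2) F) 0 0 with ha
  set b := (g : Matrix (Fin 2) (Fin 2) F) 0 1 with hb
  set c := (g : Matrix (Fin 2) (Fin 2) F) 1 0 with hc
  set d := (g : Matrix (Fin 2) (Fin 2) F) 1 1 with hd
  by_cases hc0 : c = 0
  · have hb0 : b ≠ 0 := hnc.resolve_right (by simpa using hc0)
    rw [if_pos hc0]
    have had : a * d = 1 := by rw [hc0] at hdet; linear_combination hdet
    have hua : IsUnit a := IsUnit.of_mul_eq_one _ had
    rw [MulChar.one_apply hua]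
    have : ∀ t : F, ¬ (c * t ^ 2 + (d - a) * t - b = 0) := by
      intro t h
      have e : (a - d) ^ 2 = 0 := by linear_combination htr - 4 * had
      have e' : a - d = 0 := by simpa using e
      rw [hc0] at h
      apply hb0
      linear_combination -h - t * e'
    simp [this]
  · rw [if_neg hc0, zero_add]
    have hdisc : (d - a) ^ 2 + 4 * b * c = 0 := by linear_combination htr - 4 * hdet
    rw [Finset.sum_eq_single ((a - d) / (2 * c))]
    · have hroot : c * ((a - d) / (2 * c)) ^ 2 + (d - a) * ((a - d) / (2 * c)) - b = 0 := by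
        field_simp
        linear_combination -hdisc
      rw [if_pos hroot]
      have hval : c * ((a - d) / (2 * c)) + d = (a + d) / 2 := by
        field_simp
        ring
      rw [hval]
      have hu : IsUnit ((a + d) / 2) := by
        apply IsUnit.of_mul_eq_one ((a + d) / 2)
        field_simp
        linear_combination htr
      exact MulChar.one_apply hu
    · intro t _ ht
      rw [if_neg]
      intro h
      apply ht
      have e : (2 * c * t + (d - a)) ^ 2 = 0 := by linear_combination 4 * c * h + hdisc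
      have e' : 2 * c * t + (d - a) = 0 := by simpa using e
      field_simp
      linear_combination e'
    · intro h
      exact absurd (Finset.mem_univ _) h


theorem sl2UT_conj_sq (c : Fˣ) (y : F) :
    sl2UT c 0 * sl2UT 1 y * (sl2UT c 0)⁻¹ = sl2UT 1 ((c : F) ^ 2 * y) := by
  rw [mul_inv_eq_iff_eq_mul]
  apply Subtype.ext
  rw [Matrix.SpecialLinearGroup.coe_mul, Matrix.SpecialLinearGroup.coe_mul]
  simp only [sl2UT]
  ext i j
  fin_cases i <;> fin_cases j <;> simp [Matrix.mul_apply, Fin.sum_univ_two]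
  field_simp

theorem classFun_sl2UT_sq {χ : Matrix.SpecialLinearGroup (Fin 2) F → ℂ}
    (hχ : IsClassFunction (Matrix.SpecialLinearGroup (Fin 2) F) χ) (c : Fˣ) (y : F) :
    χ (sl2UT 1 ((c : F) ^ 2 * y)) = χ (sl2UT 1 y) := by
  rw [← sl2UT_conj_sq]; exact hχ _ _

theorem sl2UT_mul_central (a : Fˣ) (y : F) : sl2UT a y = sl2UT 1 (y * a) * sl2UT a 0 := by
  apply Subtype.ext
  rw [Matrix.SpecialLinearGroup.coe_mul]
  simp only [sl2UT]
  ext i j
  fin_cases i <;> fin_cases j <;> simp [Matrix.mul_apply, Fin.sum_univ_two]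

theorem sl2UT_central (a : Fˣ) (ha : (a : F) - ((a⁻¹ : Fˣ) : F) = 0) (g : Matrix.SpecialLinearGroup (Fin 2) F) :
    g * sl2UT a 0 = sl2UT a 0 * g := by
  have ha' : ((a⁻¹ : Fˣ) : F) = (a : F) := (sub_eq_zero.mp ha).symm
  apply Subtype.ext
  rw [Matrix.SpecialLinearGroup.coe_mul, Matrix.SpecialLinearGroup.coe_mul]
  simp only [sl2UT, ha']
  ext i j
  fin_cases i <;> fin_cases j <;> simp [Matrix.mul_apply, Fin.sum_univ_two, mul_comm]

theorem sl2UT_central_toGL (a : Fˣ) (ha : (a : F) - ((a⁻¹ : Fˣ) : F) = 0) (x : GL (Fin 2) F) :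
    Matrix.SpecialLinearGroup.toGL (sl2UT a 0) = x * Matrix.SpecialLinearGroup.toGL (sl2UT a 0) * x⁻¹ := by
  have ha' : ((a⁻¹ : Fˣ) : F) = (a : F) := (sub_eq_zero.mp ha).symm
  have e : Matrix.SpecialLinearGroup.toGL (sl2UT a 0) = gl2UT a a 0 := by
    apply Units.ext
    rw [toGL_coe', gl2UT_coe]
    simp only [sl2UT, ha']
  rw [e, gl2UT_scalar_comm a x, mul_inv_cancel_right]

theorem sl2_pair_swap_U {ψ ψ' : Matrix.SpecialLinearGroup (Fin 2) F → ℂ}
    (hψ : IsClassFunction (Matrix.SpecialLinearGroup (Fin 2) F) ψ)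
    {X : GL (Fin 2) F → ℂ} (hX : IsClassFunction (GL (Fin 2) F) X) (hsum : sl2Res X = ψ + ψ')
    (x : GL (Fin 2) F) (hx : ∀ g h : Matrix.SpecialLinearGroup (Fin 2) F,
      Matrix.SpecialLinearGroup.toGL h = x * Matrix.SpecialLinearGroup.toGL g * x⁻¹ → ψ' h = ψ g) :
    ∃ δ : Fˣ, ∀ y : F, ψ' (sl2UT 1 ((δ : F) * y)) = ψ (sl2UT 1 y) ∧ ψ (sl2UT 1 ((δ : F) * y)) = ψ' (sl2UT 1 y) := by
  obtain ⟨δ, s, hs⟩ := sl2_gl_conj_U x
  refine ⟨δ, fun y => ?_⟩
  have hc : ∀ χ : Matrix.SpecialLinearGroup (Fin 2) F → ℂ, IsClassFunction (Matrix.SpecialLinearGroup (Fin 2) F) χ →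
      χ (s⁻¹ * sl2UT 1 y * s) = χ (sl2UT 1 y) := by
    intro χ hχ
    have := hχ (sl2UT 1 y) s⁻¹
    rwa [inv_inv] at this
  have h1 : ψ' (sl2UT 1 ((δ : F) * y)) = ψ (sl2UT 1 y) := by
    rw [hx _ _ (hs y), hc ψ hψ]
  refine ⟨h1, ?_⟩
  have h2 : (ψ + ψ') (sl2UT 1 ((δ : F) * y)) = (ψ + ψ') (s⁻¹ * sl2UT 1 y * s) := by
    rw [← hsum]
    unfold sl2Res
    rw [hs y]
    exact hX _ _
  have h3 : (ψ + ψ') (s⁻¹ * sl2UT 1 y * s) = (ψ + ψ') (sl2UT 1 y) := by
    have hs2 := hs y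
    have e1 : ψ' (s⁻¹ * sl2UT 1 y * s) = ψ' (sl2UT 1 y) := by
      -- ψ' is a class function as difference of class functions
      have hXs : sl2Res X (s⁻¹ * sl2UT 1 y * s) = sl2Res X (sl2UT 1 y) := by
        unfold sl2Res
        rw [map_mul, map_mul, map_inv]
        have := hX (Matrix.SpecialLinearGroup.toGL (sl2UT 1 y)) (Matrix.SpecialLinearGroup.toGL s)⁻¹
        rwa [inv_inv] at this
      rw [hsum, Pi.add_apply, Pi.add_apply, hc ψ hψ] at hXs
      exact add_left_cancel hXs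
    rw [Pi.add_apply, Pi.add_apply, hc ψ hψ, e1]
  rw [h3, Pi.add_apply, Pi.add_apply, h1] at h2
  linear_combination h2

theorem nonsquare_mul_nonsquare [Fintype F] [DecidableEq F] {a b : F} (ha : ¬ IsSquare a) (hb : ¬ IsSquare b) :
    ∃ r : Fˣ, b = a * (r : F) ^ 2 := by
  have ha0 : a ≠ 0 := fun h => ha (by rw [h]; exact IsSquare.zero)
  have hb0 : b ≠ 0 := fun h => hb (by rw [h]; exact IsSquare.zero)
  have h1 := quadraticChar_neg_one_iff_not_isSquare.mpr ha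
  have h2 := quadraticChar_neg_one_iff_not_isSquare.mpr hb
  have h3 : quadraticChar F (a * b) = 1 := by rw [map_mul, h1, h2]; norm_num
  obtain ⟨s, hs⟩ := (quadraticChar_one_iff_isSquare (mul_ne_zero ha0 hb0)).mp h3
  have hs0 : s ≠ 0 := by
    rintro rfl
    rw [mul_zero] at hs
    exact mul_ne_zero ha0 hb0 hs
  refine ⟨Units.mk0 (s / a) (div_ne_zero hs0 ha0), ?_⟩
  rw [Units.val_mk0]
  field_simp
  linear_combination hs

theorem sl2_pair_values_U [Fintype F] [DecidableEq F] {ψ ψ' : Matrix.SpecialLinearGroup (Fin 2) F → ℂ}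
    (hψ : IsClassFunction (Matrix.SpecialLinearGroup (Fin 2) F) ψ)
    (hψ' : IsClassFunction (Matrix.SpecialLinearGroup (Fin 2) F) ψ') (δ : Fˣ)
    (hδ : ∀ y : F, ψ' (sl2UT 1 ((δ : F) * y)) = ψ (sl2UT 1 y) ∧ ψ (sl2UT 1 ((δ : F) * y)) = ψ' (sl2UT 1 y)) :
    (IsSquare (δ : F) → ∀ y : F, ψ (sl2UT 1 y) = ψ' (sl2UT 1 y)) ∧
    (∀ y : F, y ≠ 0 → IsSquare y → ψ (sl2UT 1 y) = ψ (sl2UT 1 1) ∧ ψ' (sl2UT 1 y) = ψ' (sl2UT 1 1)) ∧
    (¬ IsSquare (δ : F) → ∀ y : F, ¬ IsSquare y → ψ (sl2UT 1 y) = ψ' (sl2UT 1 1) ∧ ψ' (sl2UT 1 y) = ψ (sl2UT 1 1)) := by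
  have hsqv : ∀ y : F, y ≠ 0 → IsSquare y → ψ (sl2UT 1 y) = ψ (sl2UT 1 1) ∧ ψ' (sl2UT 1 y) = ψ' (sl2UT 1 1) := by
    rintro y hy ⟨r, rfl⟩
    have hr : r ≠ 0 := fun h => hy (by rw [h, mul_zero])
    have e : r * r = ((Units.mk0 r hr : Fˣ) : F) ^ 2 * 1 := by rw [Units.val_mk0]; ring
    rw [e]
    exact ⟨classFun_sl2UT_sq hψ _ _, classFun_sl2UT_sq hψ' _ _⟩
  refine ⟨?_, hsqv, ?_⟩
  · rintro ⟨r, hr⟩ y
    have hr0 : r ≠ 0 := fun h => δ.ne_zero (by rw [hr, h, mul_zero])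
    have e : (δ : F) * y = ((Units.mk0 r hr0 : Fˣ) : F) ^ 2 * y := by rw [Units.val_mk0, hr]; ring
    have := (hδ y).2
    rw [e, classFun_sl2UT_sq hψ] at this
    exact this
  · intro hns y hy
    obtain ⟨r, hr⟩ := nonsquare_mul_nonsquare hns hy
    have h1 := hδ ((r : F) ^ 2 * 1)
    rw [classFun_sl2UT_sq hψ, classFun_sl2UT_sq hψ'] at h1
    have e : y = (δ : F) * ((r : F) ^ 2 * 1) := by rw [hr]; ring
    rw [e]
    exact ⟨h1.2, h1.1⟩


theorem sl2_conj_pair_normSq [Fintype F] [DecidableEq F] (hodd : Odd (Fintype.card F))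
    {ψ ψ' : Matrix.SpecialLinearGroup (Fin 2) F → ℂ}
    (hψ : IsIrrCharacter (Matrix.SpecialLinearGroup (Fin 2) F) ψ)
    (hψ' : IsIrrCharacter (Matrix.SpecialLinearGroup (Fin 2) F) ψ') (hne : ψ' ≠ ψ)
    {X : GL (Fin 2) F → ℂ} (hX : IsClassFunction (GL (Fin 2) F) X) (hsum : sl2Res X = ψ + ψ')
    (x : GL (Fin 2) F) (hx : ∀ g h : Matrix.SpecialLinearGroup (Fin 2) F,
      Matrix.SpecialLinearGroup.toGL h = x * Matrix.SpecialLinearGroup.toGL g * x⁻¹ → ψ' h = ψ g) :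
    Complex.normSq (ψ (sl2UT 1 1) - ψ' (sl2UT 1 1)) = (Fintype.card F : ℝ) := by
  classical
  have hcl := helper24.char_isClassFunction (helper24.irr_isCharacter hψ)
  have hcl' := helper24.char_isClassFunction (helper24.irr_isCharacter hψ')
  obtain ⟨δ, hδ⟩ := sl2_pair_swap_U hcl hX hsum x hx
  obtain ⟨hsq, hsqv, hnsq⟩ := sl2_pair_values_U hcl hcl' δ hδ
  obtain ⟨Δ, hΔ⟩ : ∃ Δ : Matrix.SpecialLinearGroup (Fin 2) F → ℂ, Δ = fun g => ψ g - ψ' g := ⟨_, rfl⟩
  have hΔa : ∀ g, Δ g = ψ g - ψ' g := fun g => by rw [hΔ]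
  obtain ⟨N, hN⟩ : ∃ N : ℝ, N = Complex.normSq (Δ (sl2UT 1 1)) := ⟨_, rfl⟩
  rw [← hΔa, ← hN]
  have hΔcl : IsClassFunction (Matrix.SpecialLinearGroup (Fin 2) F) Δ := by
    intro g h
    rw [hΔa, hΔa, hcl g h, hcl' g h]
  have h11 : ψ' 1 = ψ 1 := hx 1 1 (by simp)
  have hΔ1 : Δ 1 = 0 := by rw [hΔa, h11, sub_self]
  -- values on U
  have hN1 : ∀ y : F, y ≠ 0 → Complex.normSq (Δ (sl2UT 1 y)) = N := by
    intro y hy
    by_cases hs : IsSquare (δ : F)
    · rw [hN, hΔa, hΔa, hsq hs y, hsq hs 1, sub_self, sub_self]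
    · by_cases hys : IsSquare y
      · rw [hN, hΔa, hΔa, (hsqv y hy hys).1, (hsqv y hy hys).2]
      · rw [hN, hΔa, hΔa, (hnsq hs y hys).1, (hnsq hs y hys).2, ← Complex.normSq_neg]
        congr 1
        ring
  -- vanishing off trace ±2
  have hΔ0 : ∀ g : Matrix.SpecialLinearGroup (Fin 2) F,
      ((g : Matrix (Fin 2) (Fin 2) F) 0 0 + (g : Matrix (Fin 2) (Fin 2) F) 1 1) ^ 2 - 4 ≠ 0 → Δ g = 0 := by
    intro g hD
    obtain ⟨s, hs⟩ := sl2_disc_gl_conj hodd g hD x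
    have h1 : ψ' g = ψ (s⁻¹ * g * s) := hx _ _ hs
    have h2 := hcl g s⁻¹
    rw [inv_inv] at h2
    rw [hΔa, h1, h2, sub_self]
  -- central elements
  have hcen : ∀ a : Fˣ, (a : F) - ((a⁻¹ : Fˣ) : F) = 0 →
      Δ (sl2UT a 0) = 0 ∧ ∀ g, Complex.normSq (Δ (g * sl2UT a 0)) = Complex.normSq (Δ g) := by
    intro a ha
    have hzz : ψ' (sl2UT a 0) = ψ (sl2UT a 0) := hx _ _ (sl2UT_central_toGL a ha x)
    obtain ⟨c, hc1, hc⟩ := irr_central_scalar hψ (sl2UT a 0) (sl2UT_central a ha)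
    obtain ⟨c', _, hc'⟩ := irr_central_scalar hψ' (sl2UT a 0) (sl2UT_central a ha)
    have e1 := hc 1
    have e2 := hc' 1
    rw [one_mul] at e1 e2
    have hcc : c = c' := by
      have : c * ψ 1 = c' * ψ 1 := by rw [← e1, ← hzz, e2, h11]
      exact mul_right_cancel₀ (helper24.irr_apply_one_ne_zero hψ) this
    refine ⟨by rw [hΔa, hzz, sub_self], fun g => ?_⟩
    rw [hΔa, hΔa, hc g, hc' g, ← hcc, ← mul_sub, Complex.normSq_mul, Complex.normSq_eq_norm_sq, hc1]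
    norm_num
  -- sums over the Borel subgroup
  have hq1 : 1 ≤ Fintype.card F := Fintype.card_pos
  have hinner : ∀ a : Fˣ, ∑ y : F, Complex.normSq (Δ (sl2UT a y))
      = if (a : F) - ((a⁻¹ : Fˣ) : F) = 0 then ((Fintype.card F : ℝ) - 1) * N else 0 := by
    intro a
    have haa : (a : F) * ((a⁻¹ : Fˣ) : F) = 1 := by rw [← Units.val_mul, mul_inv_cancel, Units.val_one]
    by_cases ha : (a : F) - ((a⁻¹ : Fˣ) : F) = 0
    · rw [if_pos ha]
      have hterm : ∀ y : F, Complex.normSq (Δ (sl2UT a y)) = N - if y = 0 then N else 0 := by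
        intro y
        rw [sl2UT_mul_central, (hcen a ha).2]
        by_cases hy : y = 0
        · rw [if_pos hy, hy, zero_mul, sub_self]
          have : sl2UT (1 : Fˣ) (0 : F) = 1 := by
            apply Subtype.ext
            simp only [sl2UT]
            ext i j
            fin_cases i <;> fin_cases j <;> simp
          rw [this, hΔ1, map_zero]
        · rw [if_neg hy, sub_zero]
          exact hN1 _ (mul_ne_zero hy a.ne_zero)
      rw [Finset.sum_congr rfl (fun y _ => hterm y), Finset.sum_sub_distrib, Finset.sum_const,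
        Finset.sum_ite_eq' Finset.univ (0 : F), if_pos (Finset.mem_univ _), Finset.card_univ, nsmul_eq_mul]
      ring
    · rw [if_neg ha]
      apply Finset.sum_eq_zero
      intro y _
      rw [hΔ0, map_zero]
      simp only [sl2UT]
      simp only [Matrix.of_apply, Matrix.cons_val', Matrix.cons_val_zero, Matrix.cons_val_one,
        Matrix.cons_val_fin_one]
      intro h
      apply ha
      have : ((a : F) - ((a⁻¹ : Fˣ) : F)) ^ 2 = 0 := by linear_combination h - 4 * haa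
      simpa using this
  have htotal : ∑ a : Fˣ, ∑ y : F, Complex.normSq (Δ (sl2UT a y)) = 2 * (((Fintype.card F : ℝ) - 1) * N) := by
    rw [Finset.sum_congr rfl (fun a _ => hinner a)]
    have h2 := card_units_sub_inv_eq_zero (F := F) hodd
    have : ∀ a : Fˣ, (if (a : F) - ((a⁻¹ : Fˣ) : F) = 0 then ((Fintype.card F : ℝ) - 1) * N else 0)
        = ((if (a : F) - ((a⁻¹ : Fˣ) : F) = 0 then 1 else 0 : ℕ) : ℝ) * (((Fintype.card F : ℝ) - 1) * N) := by
      intro a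
      split_ifs <;> simp
    rw [Finset.sum_congr rfl (fun a _ => this a), ← Finset.sum_mul, ← Nat.cast_sum, h2]
    norm_num
  -- the class function |Δ|²
  obtain ⟨f, hf⟩ : ∃ f : Matrix.SpecialLinearGroup (Fin 2) F → ℂ, f = fun g => ((Complex.normSq (Δ g) : ℝ) : ℂ) := ⟨_, rfl⟩
  have hfa : ∀ g, f g = ((Complex.normSq (Δ g) : ℝ) : ℂ) := fun g => by rw [hf]
  have hfcl : IsClassFunction (Matrix.SpecialLinearGroup (Fin 2) F) f := by
    intro g h
    rw [hfa, hfa, hΔcl g h]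
  have hB : (Nat.card (sl2Borel F) : ℂ) = ((Fintype.card F : ℂ) - 1) * (Fintype.card F : ℂ) := by
    rw [card_sl2Borel, Nat.cast_mul, Nat.cast_sub hq1, Nat.cast_one]
  have hq0 : (Fintype.card F : ℂ) ≠ 0 := by
    have : Fintype.card F ≠ 0 := by omega
    exact_mod_cast this
  have hq1' : (Fintype.card F : ℂ) - 1 ≠ 0 := by
    have : 1 < Fintype.card F := Fintype.one_lt_card
    intro h
    have h' : (Fintype.card F : ℂ) = ((1 : ℕ) : ℂ) := by rw [Nat.cast_one]; linear_combination h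
    have := Nat.cast_injective h'
    omega
  have e1 : classInner (sl2R (1 : MulChar F ℂ)) f = 2 * (N : ℂ) / (Fintype.card F : ℂ) := by
    rw [sl2_classInner_R_eq 1 f hfcl, hB]
    have : ∀ a : Fˣ, (1 : MulChar F ℂ) (a : F) * ∑ y : F, conj (f (sl2UT a y))
        = ((∑ y : F, Complex.normSq (Δ (sl2UT a y)) : ℝ) : ℂ) := by
      intro a
      rw [MulChar.one_apply_coe, one_mul, Complex.ofReal_sum]
      apply Finset.sum_congr rfl
      intro y _
      rw [hfa, Complex.conj_ofReal]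
    rw [Finset.sum_congr rfl (fun a _ => this a), ← Complex.ofReal_sum, htotal]
    push_cast
    field_simp
  have e2 : classInner (sl2R (1 : MulChar F ℂ)) f = classInner Δ Δ := by
    unfold classInner
    congr 1
    apply Finset.sum_congr rfl
    intro g _
    rw [hfa, Complex.conj_ofReal, ← Complex.mul_conj]
    by_cases hg : Δ g = 0
    · rw [hg]; simp
    · have htr : ((g : Matrix (Fin 2) (Fin 2) F) 0 0 + (g : Matrix (Fin 2) (Fin 2) F) 1 1) ^ 2 = 4 := by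
        by_contra h
        exact hg (hΔ0 g (fun h' => h (sub_eq_zero.mp h')))
      have hnc : (g : Matrix (Fin 2) (Fin 2) F) 0 1 ≠ 0 ∨ (g : Matrix (Fin 2) (Fin 2) F) 1 0 ≠ 0 := by
        by_contra h
        push Not at h
        obtain ⟨a, hga, ha⟩ := sl2_diag_eq_sl2UT g h.1 h.2
        apply hg
        rw [hga]
        refine (hcen a ?_).1
        have haa : (a : F) * ((a⁻¹ : Fˣ) : F) = 1 := by rw [← Units.val_mul, mul_inv_cancel, Units.val_one]
        have h11' : (g : Matrix (Fin 2) (Fin 2) F) 1 1 = ((a⁻¹ : Fˣ) : F) := by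
          rw [hga]; simp [sl2UT]
        rw [← ha, h11'] at htr
        have : ((a : F) - ((a⁻¹ : Fˣ) : F)) ^ 2 = 0 := by linear_combination htr - 4 * haa
        simpa using this
      rw [sl2R_one_parabolic hodd g htr hnc, one_mul]
  have e3 : classInner Δ Δ = 2 := by
    have hΔ' : Δ = ψ - ψ' := by rw [hΔ]; rfl
    rw [hΔ', helper24.classInner_sub_left, classInner_sub_right, classInner_sub_right,
      helper24.irr_classInner_self hψ, helper24.irr_classInner_self hψ',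
      helper24.irr_classInner_ne hψ hψ' (Ne.symm hne), helper24.irr_classInner_ne hψ' hψ hne]
    norm_num
  have e4 : 2 * (N : ℂ) / (Fintype.card F : ℂ) = 2 := by rw [← e1, e2, e3]
  have e5 : (N : ℂ) = (Fintype.card F : ℂ) := by
    have e6 := (div_eq_iff hq0).mp e4
    linear_combination e6 / 2
  exact_mod_cast e5


theorem sl2UT_one_inv (y : F) : (sl2UT (1 : Fˣ) y)⁻¹ = sl2UT 1 (-y) := by
  rw [inv_eq_iff_mul_eq_one]
  apply Subtype.ext
  rw [Matrix.SpecialLinearGroup.coe_mul]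
  simp only [sl2UT]
  ext i j
  fin_cases i <;> fin_cases j <;> simp [Matrix.mul_apply, Fin.sum_univ_two]

theorem neg_one_pow_half_card [Fintype F] (hodd : Odd (Fintype.card F)) :
    (IsSquare (-1 : F) → (-1 : ℂ) ^ ((Fintype.card F - 1) / 2) = 1) ∧
    (¬ IsSquare (-1 : F) → (-1 : ℂ) ^ ((Fintype.card F - 1) / 2) = -1) := by
  have h := FiniteField.isSquare_neg_one_iff (F := F)
  have hodd' := Nat.odd_iff.mp hodd
  constructor
  · intro hs
    have h4 := h.mp hs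
    have : Even ((Fintype.card F - 1) / 2) := by
      rw [Nat.even_iff]; omega
    exact this.neg_one_pow
  · intro hs
    have h4 : Fintype.card F % 4 = 3 := by
      by_contra h'
      exact hs (h.mpr h')
    have : Odd ((Fintype.card F - 1) / 2) := by
      rw [Nat.odd_iff]; omega
    exact this.neg_one_pow

theorem sl2_half_values_aux [Fintype F] [DecidableEq F] (hodd : Odd (Fintype.card F)) (hq : 5 ≤ Fintype.card F)
    {ψ : Matrix.SpecialLinearGroup (Fin 2) F → ℂ}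
    (hψ : IsIrrCharacter (Matrix.SpecialLinearGroup (Fin 2) F) ψ) (σ : ℂ)
    (hdeg : (ψ 1 = (((Fintype.card F + 1) / 2 : ℕ) : ℂ) ∧ σ = 1) ∨
      (ψ 1 = (((Fintype.card F - 1) / 2 : ℕ) : ℂ) ∧ σ = -1)) :
    ∃ ψ' : Matrix.SpecialLinearGroup (Fin 2) F → ℂ, IsIrrCharacter (Matrix.SpecialLinearGroup (Fin 2) F) ψ' ∧
      ψ' ≠ ψ ∧ ψ' 1 = ψ 1 ∧ ψ (sl2UT 1 1) + ψ' (sl2UT 1 1) = σ ∧
      (ψ (sl2UT 1 1) - ψ' (sl2UT 1 1)) ^ 2 = (-1 : ℂ) ^ ((Fintype.card F - 1) / 2) * (Fintype.card F : ℂ) := by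
  classical
  have hodd' := hodd
  obtain ⟨k, hk⟩ := hodd
  have hk2 : 2 ≤ k := by omega
  have e1 : (Fintype.card F + 1) / 2 = k + 1 := by omega
  have e2 : (Fintype.card F - 1) / 2 = k := by omega
  rw [e1, e2] at hdeg
  have hqc : (Fintype.card F : ℂ) = 2 * (k : ℂ) + 1 := by rw [hk]; push_cast; ring
  obtain ⟨X, hX, h | ⟨ψ', hψ', hne, hsum, x, hx⟩⟩ := sl2_exists_over hψ
  · exfalso
    have hX1 : X 1 = ψ 1 := by rw [← h, sl2Res_one]
    have hdegX := gl2_degree_cases hX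
    rw [hX1, hqc] at hdegX
    rcases hdeg with ⟨hd, _⟩ | ⟨hd, _⟩ <;> rw [hd] at hdegX <;> rcases hdegX with h | h | h | h
    · have : ((k + 1 : ℕ) : ℂ) = ((1 : ℕ) : ℂ) := by rw [h]; norm_num
      have := Nat.cast_injective this
      omega
    · have : ((k + 1 : ℕ) : ℂ) = ((2 * k : ℕ) : ℂ) := by rw [h]; push_cast; ring
      have := Nat.cast_injective this
      omega
    · have : ((k + 1 : ℕ) : ℂ) = ((2 * k + 1 : ℕ) : ℂ) := by rw [h]; push_cast; ring
      have := Nat.cast_injective this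
      omega
    · have : ((k + 1 : ℕ) : ℂ) = ((2 * k + 2 : ℕ) : ℂ) := by rw [h]; push_cast; ring
      have := Nat.cast_injective this
      omega
    · have : ((k : ℕ) : ℂ) = ((1 : ℕ) : ℂ) := by rw [h]; norm_num
      have := Nat.cast_injective this
      omega
    · have : ((k : ℕ) : ℂ) = ((2 * k : ℕ) : ℂ) := by rw [h]; push_cast; ring
      have := Nat.cast_injective this
      omega
    · have : ((k : ℕ) : ℂ) = ((2 * k + 1 : ℕ) : ℂ) := by rw [h]; push_cast; ring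
      have := Nat.cast_injective this
      omega
    · have : ((k : ℕ) : ℂ) = ((2 * k + 2 : ℕ) : ℂ) := by rw [h]; push_cast; ring
      have := Nat.cast_injective this
      omega
  · have hcl := helper24.char_isClassFunction (helper24.irr_isCharacter hψ)
    have hcl' := helper24.char_isClassFunction (helper24.irr_isCharacter hψ')
    have hXcl := helper24.char_isClassFunction (helper24.irr_isCharacter hX)
    have h11 : ψ' 1 = ψ 1 := hx 1 1 (by simp)
    have hX1 : X 1 = 2 * ψ 1 := by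
      have := congrFun hsum 1
      rw [sl2Res_one, Pi.add_apply, h11] at this
      rw [this]; ring
    have hval := gl2_values_at_transvection (by omega) X hX (Matrix.SpecialLinearGroup.toGL (sl2UT 1 1))
      (by rw [toGL_coe']; simp [sl2UT])
    have hXu : X (Matrix.SpecialLinearGroup.toGL (sl2UT 1 1)) = ψ (sl2UT 1 1) + ψ' (sl2UT 1 1) := by
      have := congrFun hsum (sl2UT 1 1)
      rw [Pi.add_apply] at this
      rw [← this]; rfl
    have hσ : ψ (sl2UT 1 1) + ψ' (sl2UT 1 1) = σ := by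
      rw [← hXu]
      rcases hdeg with ⟨hd, hs⟩ | ⟨hd, hs⟩
      · rw [hs]
        apply hval.2.1
        rw [hX1, hd, hqc]; push_cast; ring
      · rw [hs]
        apply hval.2.2.1
        rw [hX1, hd, hqc]; ring
    have hnorm := sl2_conj_pair_normSq hodd' hψ hψ' hne hXcl hsum x hx
    obtain ⟨δ, hδ⟩ := sl2_pair_swap_U hcl hXcl hsum x hx
    obtain ⟨hsq, hsqv, hnsq⟩ := sl2_pair_values_U hcl hcl' δ hδ
    have hδns : ¬ IsSquare (δ : F) := by
      intro hs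
      rw [hsq hs 1, sub_self, map_zero] at hnorm
      have : (0 : ℝ) < (Fintype.card F : ℝ) := by exact_mod_cast Fintype.card_pos
      linarith
    refine ⟨ψ', hψ', hne, h11, hσ, ?_⟩
    have hconj : conj (ψ (sl2UT 1 1)) = ψ (sl2UT 1 (-1)) := by
      rw [← helper24.char_inv (helper24.irr_isCharacter hψ), sl2UT_one_inv]
    have hconj' : conj (ψ' (sl2UT 1 1)) = ψ' (sl2UT 1 (-1)) := by
      rw [← helper24.char_inv (helper24.irr_isCharacter hψ'), sl2UT_one_inv]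
    have hnormC : (ψ (sl2UT 1 1) - ψ' (sl2UT 1 1)) * conj (ψ (sl2UT 1 1) - ψ' (sl2UT 1 1)) = (Fintype.card F : ℂ) := by
      rw [Complex.mul_conj, hnorm]; simp
    rw [map_sub, hconj, hconj'] at hnormC
    obtain ⟨hp1, hp2⟩ := neg_one_pow_half_card hodd'
    have hm1 : (-1 : F) ≠ 0 := neg_ne_zero.mpr one_ne_zero
    by_cases hs : IsSquare (-1 : F)
    · rw [hp1 hs, one_mul]
      rw [(hsqv (-1) hm1 hs).1, (hsqv (-1) hm1 hs).2] at hnormC
      rw [← hnormC]; ring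
    · rw [hp2 hs]
      rw [(hnsq hδns (-1) hs).1, (hnsq hδns (-1) hs).2] at hnormC
      rw [← hnormC]; ring


theorem eq_of_natCard_two {α : Type*} (h : Nat.card α = 2) {a b c : α} (hab : a ≠ b) (hac : a ≠ c) : b = c := by
  obtain ⟨d, _, huniq⟩ := (Nat.card_eq_two_iff' a).mp h
  rw [huniq b hab.symm, huniq c hac.symm]

/-- S2324 -/
theorem sl2_half_values [Fintype F] (hodd : Odd (Fintype.card F)) (hq : 5 ≤ Fintype.card F)
    (u : Matrix.SpecialLinearGroup (Fin 2) F) (hu : (u : Matrix (Fin 2) (Fin 2) F) = !![1, 1; 0, 1]) :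
    (∀ χ : Matrix.SpecialLinearGroup (Fin 2) F → ℂ, Cfsg.IsIrrCharacter (Matrix.SpecialLinearGroup (Fin 2) F) χ → χ 1 = (((Fintype.card F + 1) / 2 : ℕ) : ℂ) → (2 * χ u - 1) ^ 2 = (-1 : ℂ) ^ ((Fintype.card F - 1) / 2) * (Fintype.card F : ℂ)) ∧
    (∀ χ : Matrix.SpecialLinearGroup (Fin 2) F → ℂ, Cfsg.IsIrrCharacter (Matrix.SpecialLinearGroup (Fin 2) F) χ → χ 1 = (((Fintype.card F - 1) / 2 : ℕ) : ℂ) → (2 * χ u + 1) ^ 2 = (-1 : ℂ) ^ ((Fintype.card F - 1) / 2) * (Fintype.card F : ℂ)) ∧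
    (∀ χ₁ χ₂ : Matrix.SpecialLinearGroup (Fin 2) F → ℂ, Cfsg.IsIrrCharacter (Matrix.SpecialLinearGroup (Fin 2) F) χ₁ → Cfsg.IsIrrCharacter (Matrix.SpecialLinearGroup (Fin 2) F) χ₂ → χ₁ ≠ χ₂ →
      χ₁ 1 = (((Fintype.card F + 1) / 2 : ℕ) : ℂ) → χ₂ 1 = (((Fintype.card F + 1) / 2 : ℕ) : ℂ) → χ₁ u + χ₂ u = 1) ∧
    (∀ χ₁ χ₂ : Matrix.SpecialLinearGroup (Fin 2) F → ℂ, Cfsg.IsIrrCharacter (Matrix.SpecialLinearGroup (Fin 2) F) χ₁ → Cfsg.IsIrrCharacter (Matrix.SpecialLinearGroup (Fin 2) F) χ₂ → χ₁ ≠ χ₂ →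
      χ₁ 1 = (((Fintype.card F - 1) / 2 : ℕ) : ℂ) → χ₂ 1 = (((Fintype.card F - 1) / 2 : ℕ) : ℂ) → χ₁ u + χ₂ u = -1) := by
  classical
  have hu' : u = sl2UT 1 1 := by
    apply Subtype.ext
    rw [hu]
    simp [sl2UT]
  subst hu'
  obtain ⟨_, _, _, _, hc1, hc2⟩ := (sl2_degrees_odd hodd).2 hq
  refine ⟨?_, ?_, ?_, ?_⟩
  · intro χ hχ hd
    obtain ⟨ψ', _, _, _, hσ, hv⟩ := sl2_half_values_aux hodd hq hχ 1 (Or.inl ⟨hd, rfl⟩)
    rw [← hv, ← hσ]; ring
  · intro χ hχ hd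
    obtain ⟨ψ', _, _, _, hσ, hv⟩ := sl2_half_values_aux hodd hq hχ (-1) (Or.inr ⟨hd, rfl⟩)
    rw [← hv]
    have : (1 : ℂ) = -(χ (sl2UT 1 1) + ψ' (sl2UT 1 1)) := by rw [hσ]; ring
    rw [this]; ring
  · intro χ₁ χ₂ h1 h2 hne d1 d2
    obtain ⟨ψ', hψ', hne', hd', hσ, _⟩ := sl2_half_values_aux hodd hq h1 1 (Or.inl ⟨d1, rfl⟩)
    have := eq_of_natCard_two hc1
      (a := ⟨⟨χ₁, h1⟩, d1⟩) (b := ⟨⟨ψ', hψ'⟩, by rw [← d1]; exact hd'⟩) (c := ⟨⟨χ₂, h2⟩, d2⟩)
      (fun h => hne' (congrArg (fun t => (t.1 : Matrix.SpecialLinearGroup (Fin 2) F → ℂ)) h).symm)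
      (fun h => hne (congrArg (fun t => (t.1 : Matrix.SpecialLinearGroup (Fin 2) F → ℂ)) h))
    have e : ψ' = χ₂ := congrArg (fun t => (t.1 : Matrix.SpecialLinearGroup (Fin 2) F → ℂ)) this
    rw [← e]; exact hσ
  · intro χ₁ χ₂ h1 h2 hne d1 d2
    obtain ⟨ψ', hψ', hne', hd', hσ, _⟩ := sl2_half_values_aux hodd hq h1 (-1) (Or.inr ⟨d1, rfl⟩)
    have := eq_of_natCard_two hc2
      (a := ⟨⟨χ₁, h1⟩, d1⟩) (b := ⟨⟨ψ', hψ'⟩, by rw [← d1]; exact hd'⟩) (c := ⟨⟨χ₂, h2⟩, d2⟩)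
      (fun h => hne' (congrArg (fun t => (t.1 : Matrix.SpecialLinearGroup (Fin 2) F → ℂ)) h).symm)
      (fun h => hne (congrArg (fun t => (t.1 : Matrix.SpecialLinearGroup (Fin 2) F → ℂ)) h))
    have e : ψ' = χ₂ := congrArg (fun t => (t.1 : Matrix.SpecialLinearGroup (Fin 2) F → ℂ)) this
    rw [← e]; exact hσ


end Cfsg.Agent.helper12
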