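import Cfsg.Agent.Lib_helper12_Sl2Borel
import Cfsg.Agent.Lib_helper12_CharOps

set_option autoImplicit false

namespace Cfsg.Agent.helper12

open Matrix Cfsg
open scoped ComplexConjugate

variable {F : Type*} [Field F]

/-- the linear character `b ↦ α (b 0 0)` of the Borel subgroup of SL2, as a monoid hom -/
noncomputable def sl2BorelHom (α : MulChar F ℂ) : sl2Borel F →* ℂ where
  toFun := sl2BorelChar α
  map_one' := by simp [sl2BorelChar]
  map_mul' b b' := by
    have h := (mem_sl2Borel (b' : Matrix.SpecialLinearGroup (Fin 2) F)).mp b'.2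
    simp only [sl2BorelChar, Subgroup.coe_mul, Matrix.SpecialLinearGroup.coe_mul, Matrix.mul_apply,
      Fin.sum_univ_two, h, mul_zero, add_zero, map_mul]

theorem sl2BorelChar_isCharacter (α : MulChar F ℂ) : IsCharacter (sl2Borel F) (sl2BorelChar α) :=
  isCharacter_of_monoidHom (sl2BorelHom α)

theorem sl2_indBorel_isCharacter [Fintype F] [DecidableEq F] (α : MulChar F ℂ) :
    IsCharacter (Matrix.SpecialLinearGroup (Fin 2) F) (indFun (sl2Borel F) (sl2BorelChar α)) :=
  isCharacter_indFun _ (sl2BorelChar_isCharacter α)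

theorem sl2_indBorel_irr_iff [Fintype F] [DecidableEq F] (α : MulChar F ℂ) :
    IsIrrCharacter (Matrix.SpecialLinearGroup (Fin 2) F) (indFun (sl2Borel F) (sl2BorelChar α)) ↔ α ^ 2 ≠ 1 := by
  classical
  have key : α = α⁻¹ ↔ α ^ 2 = 1 := by
    rw [eq_inv_iff_mul_eq_one, sq]
  constructor
  · intro h
    have h1 := helper24.irr_classInner_self h
    rw [sl2_classInner_indBorel, if_pos rfl] at h1
    intro hc
    rw [if_pos (key.mpr hc)] at h1
    norm_num at h1
  · intro h
    apply isIrrCharacter_of_classInner_self (sl2_indBorel_isCharacter α)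
    rw [sl2_classInner_indBorel, if_pos rfl, if_neg (fun hc => h (key.mp hc)), add_zero]

end Cfsg.Agent.helper12
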