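import Cfsg.Agent.Lib_helper12_Gl2Table
import Cfsg.Agent.Lib_helper12_Sl2Series
import Cfsg.Agent.Lib_helper12_Clifford
import Cfsg.Agent.Lib_helper12_Card

set_option autoImplicit false

namespace Cfsg.Agent.helper12

open Matrix Cfsg
open scoped ComplexConjugate

variable {F : Type*} [Field F]

/-- restriction of a function on GL2 to SL2 -/
def sl2Res (X : GL (Fin 2) F → ℂ) : Matrix.SpecialLinearGroup (Fin 2) F → ℂ :=
  fun s => X (Matrix.SpecialLinearGroup.toGL s)

theorem sl2Res_isCharacter {X : GL (Fin 2) F → ℂ} (hX : IsCharacter (GL (Fin 2) F) X) :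
    IsCharacter (Matrix.SpecialLinearGroup (Fin 2) F) (sl2Res X) := by
  obtain ⟨n, ρ, rfl⟩ := hX
  exact ⟨n, ρ.comp Matrix.SpecialLinearGroup.toGL, rfl⟩

theorem sl2Res_add (X Y : GL (Fin 2) F → ℂ) : sl2Res (X + Y) = sl2Res X + sl2Res Y := rfl
theorem sl2Res_sub (X Y : GL (Fin 2) F → ℂ) : sl2Res (X - Y) = sl2Res X - sl2Res Y := rfl

theorem sl2Res_one (X : GL (Fin 2) F → ℂ) : sl2Res X 1 = X 1 := by
  unfold sl2Res
  rw [map_one]

theorem sl2_det_entries (g : Matrix.SpecialLinearGroup (Fin 2) F) :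
    (g : Matrix (Fin 2) (Fin 2) F) 0 0 * (g : Matrix (Fin 2) (Fin 2) F) 1 1 - (g : Matrix (Fin 2) (Fin 2) F) 0 1 * (g : Matrix (Fin 2) (Fin 2) F) 1 0 = 1 := by
  have := g.2
  rwa [Matrix.det_fin_two] at this

theorem mulChar_inv_of_mul_eq_one [Finite F] (β : MulChar F ℂ) {x y : F} (h : x * y = 1) : β y = β⁻¹ x := by
  have hx : IsUnit x := IsUnit.of_mul_eq_one _ h
  rw [MulChar.inv_apply_eq_inv']
  apply eq_inv_of_mul_eq_one_left
  rw [← map_mul, mul_comm, h, map_one]

theorem toGL_coe' (g : Matrix.SpecialLinearGroup (Fin 2) F) :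
    ((Matrix.SpecialLinearGroup.toGL g : GL (Fin 2) F) : Matrix (Fin 2) (Fin 2) F) = (g : Matrix (Fin 2) (Fin 2) F) := rfl

/-- restriction to SL2 of a principal series character of GL2 -/
theorem sl2Res_indBorel [Fintype F] [DecidableEq F] (α β : MulChar F ℂ) :
    sl2Res (indFun (gl2Borel F) (gl2BorelChar α β)) = indFun (sl2Borel F) (sl2BorelChar (α * β⁻¹)) := by
  funext g
  unfold sl2Res
  rw [gl2_indBorel_apply, sl2_indBorel_apply]
  have hdet := sl2_det_entries g
  simp only [toGL_coe']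
  congr 1
  · refine ite_congr rfl (fun h => ?_) (fun _ => rfl)
    rw [h, mul_zero, sub_zero] at hdet
    rw [MulChar.mul_apply, mulChar_inv_of_mul_eq_one β hdet]
  · apply Finset.sum_congr rfl
    intro t _
    refine ite_congr rfl (fun h => ?_) (fun _ => rfl)
    have : ((g : Matrix (Fin 2) (Fin 2) F) 1 0 * t + (g : Matrix (Fin 2) (Fin 2) F) 1 1) *
        ((g : Matrix (Fin 2) (Fin 2) F) 0 0 - (g : Matrix (Fin 2) (Fin 2) F) 1 0 * t) = 1 := by
      linear_combination hdet - (g : Matrix (Fin 2) (Fin 2) F) 1 0 * h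
    rw [MulChar.mul_apply, mulChar_inv_of_mul_eq_one β this]

theorem sl2Res_detHom (γ : MulChar F ℂ) : sl2Res (gl2DetHom γ : GL (Fin 2) F → ℂ) = fun _ => 1 := by
  funext g
  unfold sl2Res
  change γ ((g : Matrix (Fin 2) (Fin 2) F).det) = 1
  rw [g.2, map_one]

theorem irr_central_normSq {G : Type*} [Group G] [Finite G] {χ : G → ℂ} (hχ : IsIrrCharacter G χ)
    (z : G) (hz : ∀ g, g * z = z * g) (g : G) :
    Complex.normSq (χ (g * z)) = Complex.normSq (χ g) := by
  obtain ⟨n, ρ, hirr, rfl⟩ := hχ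
  obtain ⟨c, hc⟩ := helper23.exists_scalar_of_commute ρ hirr z hz
  rw [helper23.char_mul_scalar ρ hc g, Complex.normSq_mul]
  have h1 := helper23.scalar_pow_eq_one ρ (helper23.pos_of_irreducible ρ hirr) hc (orderOf z) (pow_orderOf_eq_one z)
  have h2 : ‖c‖ = 1 := Complex.norm_eq_one_of_pow_eq_one h1 (orderOf_pos z).ne'
  rw [Complex.normSq_eq_norm_sq, h2]
  norm_num

theorem sum_ite_eq_sum_of_bij' {α β M : Type*} [AddCommMonoid M] [Fintype α] [Fintype β] (p : α → Prop) [DecidablePred p]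
    (m : β → α) (hm : Function.Injective m) (hp : ∀ b, p (m b)) (hsurj : ∀ a, p a → ∃ b, m b = a) (f : α → M) :
    ∑ a, (if p a then f a else 0) = ∑ b, f (m b) := by
  classical
  rw [← Finset.sum_filter]
  have : Finset.univ.filter p = Finset.univ.image m := by
    ext a
    simp only [Finset.mem_filter, Finset.mem_univ, true_and, Finset.mem_image]
    constructor
    · intro ha; exact hsurj a ha
    · rintro ⟨b, rfl⟩; exact hp b
  rw [this, Finset.sum_image (fun x _ y _ h => hm h)]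

variable {F : Type*} [Field F]

theorem card_sq_eq_le_two [Fintype F] [DecidableEq F] (d : F) :
    (Finset.univ.filter (fun c : Fˣ => (c : F) ^ 2 = d)).card ≤ 2 := by
  by_cases hne : (Finset.univ.filter (fun c : Fˣ => (c : F) ^ 2 = d)).Nonempty
  · obtain ⟨c0, hc0⟩ := hne
    rw [Finset.mem_filter] at hc0
    have hsub : Finset.univ.filter (fun c : Fˣ => (c : F) ^ 2 = d) ⊆ {c0, -c0} := by
      intro c hc
      rw [Finset.mem_filter] at hc
      have : (c : F) ^ 2 = (c0 : F) ^ 2 := by rw [hc.2, hc0.2]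
      rcases sq_eq_sq_iff_eq_or_eq_neg.mp this with h | h
      · rw [Finset.mem_insert]; left; exact Units.ext h
      · rw [Finset.mem_insert, Finset.mem_singleton]; right
        apply Units.ext
        rw [h]; simp
    exact (Finset.card_le_card hsub).trans Finset.card_le_two
  · rw [Finset.not_nonempty_iff_eq_empty] at hne
    rw [hne]; simp

/-- the scalar matrix commutes with everything -/
theorem gl2UT_scalar_comm (c : Fˣ) (g : GL (Fin 2) F) : g * gl2UT c c 0 = gl2UT c c 0 * g := by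
  apply Units.ext
  rw [Units.val_mul, Units.val_mul, gl2UT_coe]
  ext i j
  fin_cases i <;> fin_cases j <;> simp [Matrix.mul_apply, Fin.sum_univ_two, mul_comm]

theorem gl2_det_coe (g : GL (Fin 2) F) : ((Matrix.GeneralLinearGroup.det g : Fˣ) : F) = (g : Matrix (Fin 2) (Fin 2) F).det := rfl

theorem sum_normSq_irr {G : Type*} [Group G] [Fintype G] {χ : G → ℂ} (hχ : IsIrrCharacter G χ) :
    ∑ g : G, Complex.normSq (χ g) = Nat.card G := by
  have h1 := helper24.irr_classInner_self hχ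
  unfold classInner at h1
  have hG : (Nat.card G : ℂ) ≠ 0 := by exact_mod_cast Nat.card_pos.ne'
  have h2 : ∑ g : G, χ g * conj (χ g) = Nat.card G := by
    field_simp at h1
    exact h1
  have h3 : ((∑ g : G, Complex.normSq (χ g) : ℝ) : ℂ) = ((Nat.card G : ℝ) : ℂ) := by
    rw [Complex.ofReal_sum, Complex.ofReal_natCast, ← h2]
    apply Finset.sum_congr rfl
    intro g _
    rw [Complex.mul_conj]
  exact_mod_cast h3

theorem sl2Res_sum_eq [Fintype F] [DecidableEq F] {X : GL (Fin 2) F → ℂ} (hX : IsIrrCharacter (GL (Fin 2) F) X) (c : Fˣ) :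
    ∑ s : Matrix.SpecialLinearGroup (Fin 2) F, Complex.normSq (X (Matrix.SpecialLinearGroup.toGL s))
      = ∑ g : GL (Fin 2) F, if (g : Matrix (Fin 2) (Fin 2) F).det = (c : F) ^ 2 then Complex.normSq (X g) else 0 := by
  rw [sum_ite_eq_sum_of_bij' (fun g : GL (Fin 2) F => (g : Matrix (Fin 2) (Fin 2) F).det = (c : F) ^ 2)
    (fun s : Matrix.SpecialLinearGroup (Fin 2) F => Matrix.SpecialLinearGroup.toGL s * gl2UT c c 0)]
  · apply Finset.sum_congr rfl
    intro s _
    rw [irr_central_normSq hX (gl2UT c c 0) (fun g => gl2UT_scalar_comm c g)]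
  · intro s s' h
    exact Matrix.SpecialLinearGroup.toGL_injective (mul_right_cancel h)
  · intro s
    simp only [Units.val_mul, Matrix.det_mul, gl2UT_coe, toGL_coe', s.2, Matrix.det_fin_two_of, one_mul]
    ring
  · intro g hg
    have hdet : ((g * (gl2UT c c 0)⁻¹ : GL (Fin 2) F) : Matrix (Fin 2) (Fin 2) F).det = 1 := by
      have h1 : ((g * (gl2UT c c 0)⁻¹ : GL (Fin 2) F) : Matrix (Fin 2) (Fin 2) F).det * ((gl2UT c c 0 : GL (Fin 2) F) : Matrix (Fin 2) (Fin 2) F).det = (c : F) ^ 2 := by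
        rw [← Matrix.det_mul, ← Units.val_mul, inv_mul_cancel_right, hg]
      have h2 : ((gl2UT c c 0 : GL (Fin 2) F) : Matrix (Fin 2) (Fin 2) F).det = (c : F) ^ 2 := by
        rw [gl2UT_coe, Matrix.det_fin_two_of]; ring
      rw [h2] at h1
      have hc : (c : F) ^ 2 ≠ 0 := pow_ne_zero _ c.ne_zero
      exact mul_right_cancel₀ hc (by rw [h1, one_mul])
    let s : Matrix.SpecialLinearGroup (Fin 2) F := ⟨_, hdet⟩
    refine ⟨s, ?_⟩
    apply Units.ext
    rw [Units.val_mul, toGL_coe']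
    change ((g * (gl2UT c c 0)⁻¹ : GL (Fin 2) F) : Matrix (Fin 2) (Fin 2) F) * _ = _
    rw [← Units.val_mul, inv_mul_cancel_right]

theorem sl2Res_norm_le [Fintype F] [DecidableEq F] {X : GL (Fin 2) F → ℂ} (hX : IsIrrCharacter (GL (Fin 2) F) X) :
    ∑ s : Matrix.SpecialLinearGroup (Fin 2) F, Complex.normSq (X (Matrix.SpecialLinearGroup.toGL s))
      ≤ 2 * (Nat.card (Matrix.SpecialLinearGroup (Fin 2) F) : ℝ) := by
  set A := ∑ s : Matrix.SpecialLinearGroup (Fin 2) F, Complex.normSq (X (Matrix.SpecialLinearGroup.toGL s)) with hA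
  have h1 : (Fintype.card Fˣ : ℝ) * A = ∑ g : GL (Fin 2) F,
      ((Finset.univ.filter (fun c : Fˣ => (c : F) ^ 2 = (g : Matrix (Fin 2) (Fin 2) F).det)).card : ℝ) * Complex.normSq (X g) := by
    have : (Fintype.card Fˣ : ℝ) * A = ∑ c : Fˣ, A := by
      rw [Finset.sum_const, Finset.card_univ, nsmul_eq_mul]
    rw [this, Finset.sum_congr rfl (fun c _ => sl2Res_sum_eq hX c), Finset.sum_comm]
    apply Finset.sum_congr rfl
    intro g _
    rw [← Finset.sum_filter, Finset.sum_const, nsmul_eq_mul]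
    have : Finset.univ.filter (fun c : Fˣ => (g : Matrix (Fin 2) (Fin 2) F).det = (c : F) ^ 2)
        = Finset.univ.filter (fun c : Fˣ => (c : F) ^ 2 = (g : Matrix (Fin 2) (Fin 2) F).det) :=
      Finset.filter_congr (fun c _ => eq_comm)
    rw [this]
  have h2 : (Fintype.card Fˣ : ℝ) * A ≤ 2 * (Nat.card (GL (Fin 2) F) : ℝ) := by
    rw [h1, ← sum_normSq_irr hX, Finset.mul_sum]
    apply Finset.sum_le_sum
    intro g _
    apply mul_le_mul_of_nonneg_right _ (Complex.normSq_nonneg _)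
    exact_mod_cast card_sq_eq_le_two _
  rw [card_GL_eq_card_SL_mul 2 (by norm_num), Fintype.card_units] at h2
  have hq : (0 : ℝ) < ((Fintype.card F - 1 : ℕ) : ℝ) := by
    have : 1 < Fintype.card F := Fintype.one_lt_card
    have : 0 < Fintype.card F - 1 := by omega
    exact_mod_cast this
  rw [Nat.cast_mul] at h2
  have : ((Fintype.card F - 1 : ℕ) : ℝ) * A ≤ ((Fintype.card F - 1 : ℕ) : ℝ) * (2 * (Nat.card (Matrix.SpecialLinearGroup (Fin 2) F) : ℝ)) := by
    calc _ ≤ _ := h2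
      _ = _ := by ring
  exact le_of_mul_le_mul_left this hq

/-- a character of norm at most two containing an irreducible `ψ` is `ψ` or `ψ + ψ'` -/
theorem char_norm_le_two_cases {G : Type*} [Group G] [Fintype G] {χ ψ : G → ℂ} (hχ : IsCharacter G χ)
    (hψ : IsIrrCharacter G ψ) (hne : classInner χ ψ ≠ 0)
    (hnorm : ∃ k : ℕ, classInner χ χ = k ∧ k ≤ 2) :
    χ = ψ ∨ ∃ ψ' : G → ℂ, IsIrrCharacter G ψ' ∧ ψ' ≠ ψ ∧ χ = ψ + ψ' := by
  classical
  have : Fintype (IrrCharacter G) := Fintype.ofFinite _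
  obtain ⟨n, hexp, hn, hnorm'⟩ := char_decomp hχ
  obtain ⟨k, hk, hk2⟩ := hnorm
  rw [hk] at hnorm'
  have hsum : ∑ φ : IrrCharacter G, n φ ^ 2 = k := by exact_mod_cast hnorm'.symm
  set ψ0 : IrrCharacter G := ⟨ψ, hψ⟩ with hψ0
  have h0 : n ψ0 ≠ 0 := by
    intro h
    have := hn ψ0
    rw [h, Nat.cast_zero] at this
    exact hne this
  have hsplit := Finset.add_sum_erase Finset.univ (fun φ => n φ ^ 2) (Finset.mem_univ ψ0)
  rw [hsum] at hsplit
  have h01 : n ψ0 = 1 := by
    have hlt : n ψ0 < 2 := by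
      by_contra hge
      push Not at hge
      have : 4 ≤ n ψ0 ^ 2 := by nlinarith
      omega
    omega
  rw [h01] at hsplit
  have hrest : ∑ φ ∈ Finset.univ.erase ψ0, n φ ^ 2 ≤ 1 := by omega
  by_cases hall : ∀ φ ∈ Finset.univ.erase ψ0, n φ = 0
  · left
    rw [hexp, ← Finset.add_sum_erase Finset.univ _ (Finset.mem_univ ψ0), Finset.sum_eq_zero, add_zero, h01,
      Nat.cast_one, one_smul]
    intro φ hφ
    rw [hall φ hφ, Nat.cast_zero, zero_smul]
  · right
    push Not at hall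
    obtain ⟨ψ1, hψ1, h1⟩ := hall
    have hsplit1 := Finset.add_sum_erase (Finset.univ.erase ψ0) (fun φ => n φ ^ 2) hψ1
    have hpos : 1 ≤ n ψ1 ^ 2 := Nat.one_le_pow _ _ (Nat.pos_of_ne_zero h1)
    have hrest1 : ∑ φ ∈ (Finset.univ.erase ψ0).erase ψ1, n φ ^ 2 = 0 := by
      omega
    have h11 : n ψ1 ^ 2 = 1 := by
      omega
    have h11' : n ψ1 = 1 := by
      rcases Nat.pow_eq_one.mp h11 with h | h
      · exact h
      · omega
    have hne' : ψ1 ≠ ψ0 := (Finset.mem_erase.mp hψ1).1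
    have hzero : ∀ φ, φ ≠ ψ0 → φ ≠ ψ1 → n φ = 0 := by
      intro φ hφ hφ'
      have := (Finset.sum_eq_zero_iff.mp hrest1) φ
        (Finset.mem_erase.mpr ⟨hφ', Finset.mem_erase.mpr ⟨hφ, Finset.mem_univ φ⟩⟩)
      exact pow_eq_zero_iff (two_ne_zero) |>.mp this
    refine ⟨ψ1, ψ1.2, fun h => hne' (Subtype.ext h), ?_⟩
    rw [hexp, ← Finset.add_sum_erase Finset.univ _ (Finset.mem_univ ψ0),
      ← Finset.add_sum_erase (Finset.univ.erase ψ0) _ hψ1, Finset.sum_eq_zero, add_zero, h01, h11',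
      Nat.cast_one, one_smul, one_smul]
    intro φ hφ
    rw [Finset.mem_erase, Finset.mem_erase] at hφ
    rw [hzero φ hφ.2.1 hφ.1, Nat.cast_zero, zero_smul]

variable {F : Type*} [Field F]

instance toGL_range_normal : (Matrix.SpecialLinearGroup.toGL : Matrix.SpecialLinearGroup (Fin 2) F →* GL (Fin 2) F).range.Normal := by
  constructor
  rintro _ ⟨s, rfl⟩ g
  have hdet : ((g * Matrix.SpecialLinearGroup.toGL s * g⁻¹ : GL (Fin 2) F) : Matrix (Fin 2) (Fin 2) F).det = 1 := by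
    have h1 : Matrix.GeneralLinearGroup.det (g * Matrix.SpecialLinearGroup.toGL s * g⁻¹) = Matrix.GeneralLinearGroup.det (Matrix.SpecialLinearGroup.toGL s) := by
      rw [map_mul, map_mul, map_inv, mul_comm, ← mul_assoc, inv_mul_cancel, one_mul]
    have h2 := congrArg Units.val h1
    rw [gl2_det_coe, gl2_det_coe, toGL_coe', s.2] at h2
    exact h2
  let t : Matrix.SpecialLinearGroup (Fin 2) F := ⟨_, hdet⟩
  exact ⟨t, Units.ext rfl⟩

/-- structure of the restriction to SL2 of the irreducible characters of GL2 -/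
theorem sl2_exists_over [Fintype F] [DecidableEq F] {ψ : Matrix.SpecialLinearGroup (Fin 2) F → ℂ}
    (hψ : IsIrrCharacter (Matrix.SpecialLinearGroup (Fin 2) F) ψ) :
    ∃ X : GL (Fin 2) F → ℂ, IsIrrCharacter (GL (Fin 2) F) X ∧
      (sl2Res X = ψ ∨ ∃ ψ' : Matrix.SpecialLinearGroup (Fin 2) F → ℂ,
        IsIrrCharacter (Matrix.SpecialLinearGroup (Fin 2) F) ψ' ∧ ψ' ≠ ψ ∧ sl2Res X = ψ + ψ' ∧
        ∃ x : GL (Fin 2) F, ∀ g h : Matrix.SpecialLinearGroup (Fin 2) F,
          Matrix.SpecialLinearGroup.toGL h = x * Matrix.SpecialLinearGroup.toGL g * x⁻¹ → ψ' h = ψ g) := by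
  classical
  have : Fintype (IrrCharacter (Matrix.SpecialLinearGroup (Fin 2) F)) := Fintype.ofFinite _
  obtain ⟨X, hX, hne⟩ := exists_irr_over_hom Matrix.SpecialLinearGroup.toGL Matrix.SpecialLinearGroup.toGL_injective hψ
  refine ⟨X, hX, ?_⟩
  have hchar := sl2Res_isCharacter (helper24.irr_isCharacter hX)
  have hnorm : ∃ k : ℕ, classInner (sl2Res X) (sl2Res X) = k ∧ k ≤ 2 := by
    obtain ⟨k, hk⟩ := classInner_char_nat hchar hchar
    refine ⟨k, hk, ?_⟩
    have hb := sl2Res_norm_le hX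
    have hS : (0 : ℝ) < (Nat.card (Matrix.SpecialLinearGroup (Fin 2) F) : ℝ) := by exact_mod_cast Nat.card_pos
    have h1 : ((k : ℝ) : ℂ) = (((Nat.card (Matrix.SpecialLinearGroup (Fin 2) F) : ℝ)⁻¹ *
        ∑ s : Matrix.SpecialLinearGroup (Fin 2) F, Complex.normSq (X (Matrix.SpecialLinearGroup.toGL s)) : ℝ) : ℂ) := by
      rw [Complex.ofReal_natCast, ← hk]
      unfold classInner sl2Res
      push_cast
      congr 1
      apply Finset.sum_congr rfl
      intro s _
      rw [Complex.mul_conj]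
    have h2 : (k : ℝ) = (Nat.card (Matrix.SpecialLinearGroup (Fin 2) F) : ℝ)⁻¹ *
        ∑ s : Matrix.SpecialLinearGroup (Fin 2) F, Complex.normSq (X (Matrix.SpecialLinearGroup.toGL s)) := by
      exact_mod_cast h1
    have h3 : (k : ℝ) ≤ 2 := by
      rw [h2, inv_mul_le_iff₀ hS]
      linarith
    exact_mod_cast h3
  rcases char_norm_le_two_cases hchar hψ hne hnorm with h | ⟨ψ', hψ', hne', hsum⟩
  · left; exact h
  · right
    refine ⟨ψ', hψ', hne', hsum, ?_⟩
    have c2 : classInner (fun s : Matrix.SpecialLinearGroup (Fin 2) F => X (Matrix.SpecialLinearGroup.toGL s)) ψ' ≠ 0 := by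
      change classInner (sl2Res X) ψ' ≠ 0
      rw [hsum, classInner_irr_add hψ hψ' hψ', if_pos rfl, if_neg (fun h => hne' h.symm)]
      norm_num
    exact clifford_conj_hom Matrix.SpecialLinearGroup.toGL Matrix.SpecialLinearGroup.toGL_injective hX hψ hψ' hne c2

end Cfsg.Agent.helper12
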