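import Cfsg.Agent.Lib_helper12_Sl2Table

set_option autoImplicit false

namespace Cfsg.Agent.helper12

open Matrix Cfsg
open scoped ComplexConjugate

variable {F : Type*} [Field F]

/-- the principal series of SL2 -/
noncomputable abbrev sl2R [Fintype F] [DecidableEq F] (γ : MulChar F ℂ) : Matrix.SpecialLinearGroup (Fin 2) F → ℂ :=
  indFun (sl2Borel F) (sl2BorelChar γ)

theorem sl2R_one_apply [Fintype F] [DecidableEq F] (γ : MulChar F ℂ) : sl2R γ 1 = (Fintype.card F : ℂ) + 1 := by
  have h : sl2Res (indFun (gl2Borel F) (gl2BorelChar γ 1)) = sl2R γ := by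
    rw [sl2Res_indBorel, inv_one, mul_one]
  rw [← h, sl2Res_one, gl2_indBorel_one]

theorem sl2R_eq_iff [Fintype F] [DecidableEq F] (γ γ' : MulChar F ℂ) :
    sl2R γ = sl2R γ' ↔ γ = γ' ∨ γ = γ'⁻¹ := by
  classical
  constructor
  · intro h
    by_contra hcon
    push Not at hcon
    have e1 := sl2_classInner_indBorel γ γ'
    rw [if_neg hcon.1, if_neg hcon.2] at e1
    have e2 := sl2_classInner_indBorel γ γ
    rw [if_pos rfl] at e2
    change classInner (sl2R γ) (sl2R γ') = _ at e1
    change classInner (sl2R γ) (sl2R γ) = _ at e2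
    rw [← h, e2] at e1
    split_ifs at e1 <;> norm_num at e1
  · rintro (rfl | rfl)
    · rfl
    · apply eq_of_classInner_eq _ _ ((1 : ℂ) + if γ' = γ'⁻¹ then 1 else 0)
      · change classInner (indFun (sl2Borel F) (sl2BorelChar γ'⁻¹)) (indFun (sl2Borel F) (sl2BorelChar γ'⁻¹)) = _
        rw [sl2_classInner_indBorel, if_pos rfl, inv_inv]
        congr 1
        by_cases h : γ' = γ'⁻¹
        · rw [if_pos h, if_pos h.symm]
        · rw [if_neg h, if_neg (fun hc => h hc.symm)]
      · change classInner (indFun (sl2Borel F) (sl2BorelChar γ'⁻¹)) (indFun (sl2Borel F) (sl2BorelChar γ')) = _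
        rw [sl2_classInner_indBorel, add_comm, if_pos rfl]
        congr 1
        by_cases h : γ' = γ'⁻¹
        · rw [if_pos h, if_pos h.symm]
        · rw [if_neg h, if_neg (fun hc => h hc.symm)]
      · change classInner (indFun (sl2Borel F) (sl2BorelChar γ')) (indFun (sl2Borel F) (sl2BorelChar γ'⁻¹)) = _
        rw [sl2_classInner_indBorel, inv_inv, add_comm, if_pos rfl]
      · change classInner (indFun (sl2Borel F) (sl2BorelChar γ')) (indFun (sl2Borel F) (sl2BorelChar γ')) = _
        rw [sl2_classInner_indBorel, if_pos rfl]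

theorem isIrrCharacter_const_one (G : Type*) [Group G] : IsIrrCharacter G (fun _ : G => (1 : ℂ)) := by
  have := isIrrCharacter_of_monoidHom (1 : G →* ℂ)
  exact this

/-- ⟨R(γ), 1⟩ = [γ = 1] -/
theorem sl2_classInner_R_one [Fintype F] [DecidableEq F] (γ : MulChar F ℂ) [Decidable (γ = 1)] :
    classInner (sl2R γ) (fun _ => (1 : ℂ)) = if γ = 1 then 1 else 0 := by
  classical
  have : Fintype (sl2Borel F) := Fintype.ofFinite _
  have hirr1 : IsIrrCharacter (sl2Borel F) (fun _ => (1 : ℂ)) := isIrrCharacter_const_one _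
  have hirr2 : IsIrrCharacter (sl2Borel F) (sl2BorelChar γ) := isIrrCharacter_of_monoidHom (sl2BorelHom γ)
  rw [classInner_indFun_eq_restrict _ _ _ (helper24.char_isClassFunction (helper24.irr_isCharacter (isIrrCharacter_const_one _))),
    helper24.irr_classInner hirr2 hirr1]
  refine if_congr ?_ rfl rfl
  constructor
  · intro h
    ext a
    have := congrFun h ⟨sl2UT a 0, (mem_sl2Borel _).mpr (by simp [sl2UT])⟩
    simpa [sl2BorelChar, sl2UT] using this
  · rintro rfl
    funext b
    unfold sl2BorelChar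
    have hb := (mem_sl2Borel (b : Matrix.SpecialLinearGroup (Fin 2) F)).mp b.2
    have hdet := sl2_det_entries (b : Matrix.SpecialLinearGroup (Fin 2) F)
    rw [hb, mul_zero, sub_zero] at hdet
    have hu : IsUnit (((b : Matrix.SpecialLinearGroup (Fin 2) F) : Matrix (Fin 2) (Fin 2) F) 0 0) :=
      IsUnit.of_mul_eq_one _ hdet
    exact MulChar.one_apply hu

/-- the Steinberg character of SL2 -/
noncomputable def sl2St [Fintype F] [DecidableEq F] : Matrix.SpecialLinearGroup (Fin 2) F → ℂ :=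
  sl2R (1 : MulChar F ℂ) - fun _ => (1 : ℂ)

theorem sl2St_irr [Fintype F] [DecidableEq F] : IsIrrCharacter (Matrix.SpecialLinearGroup (Fin 2) F) (sl2St (F := F)) := by
  classical
  have hnorm : classInner (sl2R (1 : MulChar F ℂ)) (sl2R (1 : MulChar F ℂ)) = 2 := by
    change classInner (indFun (sl2Borel F) (sl2BorelChar 1)) (indFun (sl2Borel F) (sl2BorelChar 1)) = 2
    rw [sl2_classInner_indBorel, if_pos rfl, if_pos inv_one.symm]
    norm_num
  obtain ⟨χ₁, χ₂, h1, h2, hne, hsum⟩ := exists_irr_add_of_classInner_self_eq_two (sl2_indBorel_isCharacter (1 : MulChar F ℂ)) hnorm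
  have hdet := sl2_classInner_R_one (1 : MulChar F ℂ)
  rw [if_pos rfl] at hdet
  change classInner (indFun (sl2Borel F) (sl2BorelChar 1)) _ = 1 at hdet
  rw [hsum, classInner_irr_add h1 h2 (isIrrCharacter_const_one _)] at hdet
  unfold sl2St
  change IsIrrCharacter _ (indFun (sl2Borel F) (sl2BorelChar 1) - _)
  rw [hsum]
  by_cases c1 : χ₁ = fun _ => (1 : ℂ)
  · have : χ₁ + χ₂ - (fun _ => (1 : ℂ)) = χ₂ := by rw [c1]; abel
    rw [this]; exact h2
  · by_cases c2 : χ₂ = fun _ => (1 : ℂ)
    · have : χ₁ + χ₂ - (fun _ => (1 : ℂ)) = χ₁ := by rw [c2]; abel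
      rw [this]; exact h1
    · rw [if_neg c1, if_neg c2] at hdet
      norm_num at hdet

theorem sl2Res_gl2St [Fintype F] [DecidableEq F] (γ : MulChar F ℂ) : sl2Res (gl2St γ) = sl2St := by
  unfold gl2St sl2St
  rw [sl2Res_sub, sl2Res_indBorel, sl2Res_detHom, mul_inv_cancel]

theorem sl2St_one [Fintype F] [DecidableEq F] : sl2St (F := F) 1 = (Fintype.card F : ℂ) := by
  rw [← sl2Res_gl2St 1, sl2Res_one, gl2St_one]

/-- expression of ⟨R(γ), ψ⟩ as a sum over the Borel subgroup of SL2 -/
theorem sl2_classInner_R_eq [Fintype F] [DecidableEq F] (γ : MulChar F ℂ) (ψ : Matrix.SpecialLinearGroup (Fin 2) F → ℂ)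
    (hψ : IsClassFunction (Matrix.SpecialLinearGroup (Fin 2) F) ψ) :
    classInner (sl2R γ) ψ
      = (Nat.card (sl2Borel F) : ℂ)⁻¹ * ∑ a : Fˣ, γ (a : F) * ∑ x : F, conj (ψ (sl2UT a x)) := by
  classical
  rw [classInner_indFun _ _ _ hψ]
  simp only [extendByZero_sl2BorelChar, ite_mul, zero_mul]
  rw [sum_ite_eq_sum_of_bij (fun g : Matrix.SpecialLinearGroup (Fin 2) F => (g : Matrix (Fin 2) (Fin 2) F) 1 0 = 0)
    (fun p : Fˣ × F => sl2UT p.1 p.2) sl2UT_injective (fun p => by simp [sl2UT]) sl2UT_surj]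
  rw [Fintype.sum_prod_type]
  congr 1
  apply Finset.sum_congr rfl
  intro a _
  rw [Finset.mul_sum]
  apply Finset.sum_congr rfl
  intro x _
  simp only [sl2UT_00]

/-- cuspidal class functions of SL2 -/
def Sl2Cuspidal [Fintype F] [DecidableEq F] (ψ : Matrix.SpecialLinearGroup (Fin 2) F → ℂ) : Prop :=
  ∀ γ : MulChar F ℂ, classInner (sl2R γ) ψ = 0

theorem sl2_cuspidal_sum [Fintype F] [DecidableEq F] {ψ : Matrix.SpecialLinearGroup (Fin 2) F → ℂ}
    (hcl : IsClassFunction (Matrix.SpecialLinearGroup (Fin 2) F) ψ) (hc : Sl2Cuspidal ψ) (a0 : Fˣ) :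
    ∑ x : F, ψ (sl2UT a0 x) = 0 := by
  classical
  have hB : (Nat.card (sl2Borel F) : ℂ)⁻¹ ≠ 0 := by
    apply inv_ne_zero
    exact_mod_cast Nat.card_pos.ne'
  have h0 : ∀ γ : MulChar F ℂ, ∑ a : Fˣ, γ (a : F) * ∑ x : F, conj (ψ (sl2UT a x)) = 0 := by
    intro γ
    have := hc γ
    rw [sl2_classInner_R_eq γ ψ hcl] at this
    exact (mul_eq_zero.mp this).resolve_left hB
  have h2 : (fun a : Fˣ => ∑ x : F, conj (ψ (sl2UT a x))) = 0 := mulChar_fourier_inversion _ h0
  have h3 := congrFun h2 a0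
  simp only [Pi.zero_apply] at h3
  rw [← map_sum] at h3
  exact (map_eq_zero _).mp h3

/-- the restriction to SL2 of a cuspidal character of GL2 is orthogonal to the principal series -/
theorem sl2Res_cuspidal [Fintype F] [DecidableEq F] {X : GL (Fin 2) F → ℂ} (hX : IsClassFunction (GL (Fin 2) F) X)
    (hc : Gl2Cuspidal X) (γ : MulChar F ℂ) : classInner (sl2R γ) (sl2Res X) = 0 := by
  have hcl : IsClassFunction (Matrix.SpecialLinearGroup (Fin 2) F) (sl2Res X) := by
    intro g h
    unfold sl2Res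
    rw [map_mul, map_mul, map_inv, hX]
  rw [sl2_classInner_R_eq γ _ hcl]
  have : ∀ a : Fˣ, ∑ x : F, conj (sl2Res X (sl2UT a x)) = 0 := by
    intro a
    rw [← map_sum]
    have h1 := gl2_cuspidal_sum hX hc a a⁻¹
    have h2 : ∀ x : F, sl2Res X (sl2UT a x) = X (gl2UT a a⁻¹ x) := by
      intro x
      unfold sl2Res
      congr 1
      apply Units.ext
      rw [toGL_coe', gl2UT_coe]
      rfl
    rw [Finset.sum_congr rfl (fun x _ => h2 x), h1, map_zero]
  simp only [this, mul_zero, Finset.sum_const_zero]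

theorem irr_eq_of_classInner_ne_zero {G : Type*} [Group G] [Fintype G] {χ ψ : G → ℂ} (hχ : IsIrrCharacter G χ)
    (hψ : IsIrrCharacter G ψ) (h : classInner χ ψ ≠ 0) : χ = ψ := by
  classical
  by_contra hne
  rw [helper24.irr_classInner hχ hψ, if_neg hne] at h
  exact h rfl

/-- classification of the irreducible characters of SL2 -/
theorem sl2_irr_classification [Fintype F] [DecidableEq F] {ψ : Matrix.SpecialLinearGroup (Fin 2) F → ℂ}
    (hψ : IsIrrCharacter (Matrix.SpecialLinearGroup (Fin 2) F) ψ) :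
    ψ = (fun _ => (1 : ℂ)) ∨ ψ = sl2St ∨ (∃ γ : MulChar F ℂ, γ ^ 2 ≠ 1 ∧ ψ = sl2R γ) ∨
    (∃ γ : MulChar F ℂ, γ ^ 2 = 1 ∧ γ ≠ 1 ∧ classInner (sl2R γ) ψ ≠ 0) ∨
    (Sl2Cuspidal ψ ∧ (ψ 1 = (Fintype.card F : ℂ) - 1 ∨ 2 * ψ 1 = (Fintype.card F : ℂ) - 1)) := by
  classical
  obtain ⟨X, hX, hres⟩ := sl2_exists_over hψ
  have hne : classInner (sl2Res X) ψ ≠ 0 := by
    rcases hres with h | ⟨ψ', hψ', hne', hsum, _⟩
    · rw [h, helper24.irr_classInner_self hψ]; exact one_ne_zero
    · rw [hsum, classInner_irr_add hψ hψ' hψ, if_pos rfl, if_neg hne']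
      norm_num
  rcases gl2_irr_classification hX with ⟨γ, rfl⟩ | ⟨γ, rfl⟩ | ⟨α, β, hab, rfl⟩ | ⟨hc, h1⟩
  · left
    rw [sl2Res_detHom] at hne
    exact (irr_eq_of_classInner_ne_zero (isIrrCharacter_const_one _) hψ hne).symm
  · right; left
    rw [sl2Res_gl2St] at hne
    exact (irr_eq_of_classInner_ne_zero sl2St_irr hψ hne).symm
  · rw [sl2Res_indBorel] at hne
    by_cases hsq : (α * β⁻¹) ^ 2 = 1
    · right; right; right; left
      refine ⟨α * β⁻¹, hsq, ?_, hne⟩
      intro h
      exact hab (mul_inv_eq_one.mp h)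
    · right; right; left
      refine ⟨α * β⁻¹, hsq, ?_⟩
      exact (irr_eq_of_classInner_ne_zero ((sl2_indBorel_irr_iff _).mpr hsq) hψ hne).symm
  · right; right; right; right
    have hXcl := helper24.char_isClassFunction (helper24.irr_isCharacter hX)
    constructor
    · intro γ
      have h0 := sl2Res_cuspidal hXcl hc γ
      rcases hres with h | ⟨ψ', hψ', hne', hsum, _⟩
      · rw [← h]; exact h0
      · obtain ⟨k1, hk1⟩ := classInner_char_nat (sl2_indBorel_isCharacter γ) (helper24.irr_isCharacter hψ)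
        obtain ⟨k2, hk2⟩ := classInner_char_nat (sl2_indBorel_isCharacter γ) (helper24.irr_isCharacter hψ')
        have e : classInner (sl2R γ) (ψ + ψ') = classInner (sl2R γ) ψ + classInner (sl2R γ) ψ' := by
          simp [classInner, mul_add, Finset.sum_add_distrib]
        rw [hsum, e] at h0
        change classInner (sl2R γ) ψ = (k1 : ℂ) at hk1
        change classInner (sl2R γ) ψ' = (k2 : ℂ) at hk2
        rw [hk1, hk2] at h0
        have : k1 + k2 = 0 := by exact_mod_cast h0
        have hk10 : k1 = 0 := by omega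
        rw [hk1, hk10, Nat.cast_zero]
    · rcases hres with h | ⟨ψ', hψ', hne', hsum, x, hx⟩
      · left
        rw [← h, sl2Res_one, h1]
      · right
        have h2 : ψ' 1 = ψ 1 := hx 1 1 (by simp)
        have := congrFun hsum 1
        rw [sl2Res_one, Pi.add_apply, h2, h1] at this
        rw [this]; ring

instance mulChar_isCyclic [Finite F] : IsCyclic (MulChar F ℂ) := by
  obtain ⟨e⟩ := MulChar.mulEquiv_units F ℂ
  exact (MulEquiv.isCyclic e).mpr inferInstance

/-- in odd characteristic there is a unique multiplicative character of order two -/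
theorem mulChar_order_two_unique [Fintype F] {γ γ' : MulChar F ℂ} (h1 : γ ^ 2 = 1) (h2 : γ ≠ 1)
    (h1' : γ' ^ 2 = 1) (h2' : γ' ≠ 1) : γ = γ' := by
  classical
  have : Fintype (MulChar F ℂ) := Fintype.ofFinite _
  have hle := IsCyclic.card_pow_eq_one_le (α := MulChar F ℂ) (n := 2) (by norm_num)
  by_contra hne
  have hsub : ({1, γ, γ'} : Finset (MulChar F ℂ)) ⊆ Finset.univ.filter (fun a => a ^ 2 = 1) := by
    intro x hx
    simp only [Finset.mem_insert, Finset.mem_singleton] at hx
    rw [Finset.mem_filter]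
    refine ⟨Finset.mem_univ _, ?_⟩
    rcases hx with rfl | rfl | rfl
    · exact one_pow 2
    · exact h1
    · exact h1'
  have hcard : ({1, γ, γ'} : Finset (MulChar F ℂ)).card = 3 := by
    rw [Finset.card_insert_of_notMem, Finset.card_pair hne]
    simp only [Finset.mem_insert, Finset.mem_singleton]
    push Not
    exact ⟨fun h => h2 h.symm, fun h => h2' h.symm⟩
  have := Finset.card_le_card hsub
  omega

/-- the set of multiplicative characters with γ² = 1 in odd characteristic has two elements -/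
theorem card_mulChar_sq_eq_one_odd [Fintype F] [DecidableEq (MulChar F ℂ)] [Fintype (MulChar F ℂ)]
    (hodd : Odd (Fintype.card F)) :
    (Finset.univ.filter (fun γ : MulChar F ℂ => γ ^ 2 = 1)).card = 2 ∧ ∃ γ : MulChar F ℂ, γ ^ 2 = 1 ∧ γ ≠ 1 := by
  classical
  have hM : Fintype.card (MulChar F ℂ) = Fintype.card F - 1 := by
    rw [← Nat.card_eq_fintype_card, mulChar_card]
  have h2 : 2 ∣ Fintype.card (MulChar F ℂ) := by
    rw [hM]
    obtain ⟨k, hk⟩ := hodd
    exact ⟨k, by omega⟩
  obtain ⟨γ, hγ⟩ := exists_prime_orderOf_dvd_card 2 h2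
  have hγ2 : γ ^ 2 = 1 := by rw [← hγ]; exact pow_orderOf_eq_one γ
  have hγ1 : γ ≠ 1 := by
    intro h
    rw [h, orderOf_one] at hγ
    norm_num at hγ
  refine ⟨?_, γ, hγ2, hγ1⟩
  have : Finset.univ.filter (fun γ : MulChar F ℂ => γ ^ 2 = 1) = {1, γ} := by
    ext x
    simp only [Finset.mem_filter, Finset.mem_univ, true_and, Finset.mem_insert, Finset.mem_singleton]
    constructor
    · intro hx
      by_cases hx1 : x = 1
      · left; exact hx1
      · right; exact mulChar_order_two_unique hx hx1 hγ2 hγ1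
    · rintro (rfl | rfl)
      · exact one_pow 2
      · exact hγ2
  rw [this, Finset.card_pair hγ1.symm]

/-- in characteristic two the only multiplicative character with γ² = 1 is trivial -/
theorem mulChar_sq_eq_one_even [Fintype F] (heven : Even (Fintype.card F)) {γ : MulChar F ℂ} (h : γ ^ 2 = 1) : γ = 1 := by
  classical
  have : Fintype (MulChar F ℂ) := Fintype.ofFinite _
  have hM : Fintype.card (MulChar F ℂ) = Fintype.card F - 1 := by
    rw [← Nat.card_eq_fintype_card, mulChar_card]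
  have h1 : orderOf γ ∣ 2 := orderOf_dvd_of_pow_eq_one h
  have h2 : orderOf γ ∣ Fintype.card F - 1 := by rw [← hM]; exact orderOf_dvd_card
  have hq : 0 < Fintype.card F := Fintype.card_pos
  have h3 : orderOf γ = 1 := by
    rcases (Nat.dvd_prime Nat.prime_two).mp h1 with h | h
    · exact h
    · exfalso
      rw [h] at h2
      obtain ⟨k, hk⟩ := heven
      obtain ⟨j, hj⟩ := h2
      omega
  exact orderOf_eq_one_iff.mp h3

theorem even_card_of_charP_two [Fintype F] [CharP F 2] : Even (Fintype.card F) := by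
  obtain ⟨n, hp, hc⟩ := FiniteField.card F 2
  rw [hc]
  exact (Nat.even_pow' n.ne_zero).mpr even_two

/-- counting the image of a two-to-one map -/
theorem card_eq_two_mul_of_fibers {A B : Type*} [Fintype A] [Fintype B] [DecidableEq A] [DecidableEq B] (g : A → B)
    (hsurj : Function.Surjective g) (σ : A → A) (hσ : ∀ a, σ a ≠ a)
    (hfib : ∀ a a', g a = g a' ↔ a' = a ∨ a' = σ a) :
    Fintype.card A = 2 * Fintype.card B := by
  rw [← Fintype.card_congr (Equiv.sigmaFiberEquiv g), Fintype.card_sigma]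
  have : ∀ b : B, Fintype.card {a // g a = b} = 2 := by
    intro b
    obtain ⟨a0, rfl⟩ := hsurj b
    rw [Fintype.card_subtype]
    have : Finset.univ.filter (fun a => g a = g a0) = {a0, σ a0} := by
      ext a
      simp only [Finset.mem_filter, Finset.mem_univ, true_and, Finset.mem_insert, Finset.mem_singleton]
      rw [eq_comm, hfib a0 a]
    rw [this, Finset.card_pair (hσ a0).symm]
  simp only [this, Finset.sum_const, Finset.card_univ, smul_eq_mul, mul_comm]

/-- analysis of the constituents of R(γ) for γ of order two -/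
theorem sl2_half_cases [Fintype F] [DecidableEq F] {γ : MulChar F ℂ} (h1 : γ ^ 2 = 1) (h2 : γ ≠ 1)
    {ψ : Matrix.SpecialLinearGroup (Fin 2) F → ℂ} (hψ : IsIrrCharacter (Matrix.SpecialLinearGroup (Fin 2) F) ψ)
    (hne : classInner (sl2R γ) ψ ≠ 0) :
    Odd (Fintype.card F) ∧ 2 * ψ 1 = (Fintype.card F : ℂ) + 1 ∧
    ∃ χ₁ χ₂ : Matrix.SpecialLinearGroup (Fin 2) F → ℂ, IsIrrCharacter _ χ₁ ∧ IsIrrCharacter _ χ₂ ∧ χ₁ ≠ χ₂ ∧
      sl2R γ = χ₁ + χ₂ ∧ 2 * χ₁ 1 = (Fintype.card F : ℂ) + 1 ∧ 2 * χ₂ 1 = (Fintype.card F : ℂ) + 1 ∧ (ψ = χ₁ ∨ ψ = χ₂) := by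
  classical
  have hodd : Odd (Fintype.card F) := by
    rw [← Nat.not_even_iff_odd]
    intro heven
    exact h2 (mulChar_sq_eq_one_even heven h1)
  obtain ⟨χ₁, χ₂, i1, i2, hne12, hsum, d1, d2, _⟩ := sl2_order_two_splits hodd γ h1 h2
  have hd : ∀ z : ℂ, z = (((Fintype.card F + 1) / 2 : ℕ) : ℂ) → 2 * z = (Fintype.card F : ℂ) + 1 := by
    intro z hz
    obtain ⟨k, hk⟩ := hodd
    have : (Fintype.card F + 1) / 2 = k + 1 := by omega
    rw [hz, this, hk]
    push_cast
    ring
  have hcase : ψ = χ₁ ∨ ψ = χ₂ := by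
    change classInner (indFun (sl2Borel F) (sl2BorelChar γ)) ψ ≠ 0 at hne
    rw [hsum, classInner_irr_add i1 i2 hψ] at hne
    by_cases c1 : χ₁ = ψ
    · left; exact c1.symm
    · by_cases c2 : χ₂ = ψ
      · right; exact c2.symm
      · rw [if_neg c1, if_neg c2] at hne
        norm_num at hne
  refine ⟨hodd, ?_, χ₁, χ₂, i1, i2, hne12, hsum, hd _ d1, hd _ d2, hcase⟩
  rcases hcase with rfl | rfl
  · exact hd _ d1
  · exact hd _ d2

/-- the possible degrees of the irreducible characters of SL2 -/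
theorem sl2_degree_cases [Fintype F] [DecidableEq F] {ψ : Matrix.SpecialLinearGroup (Fin 2) F → ℂ}
    (hψ : IsIrrCharacter (Matrix.SpecialLinearGroup (Fin 2) F) ψ) :
    ψ 1 = 1 ∨ ψ 1 = (Fintype.card F : ℂ) ∨ ψ 1 = (Fintype.card F : ℂ) + 1 ∨
    (Odd (Fintype.card F) ∧ 2 * ψ 1 = (Fintype.card F : ℂ) + 1) ∨
    ψ 1 = (Fintype.card F : ℂ) - 1 ∨ 2 * ψ 1 = (Fintype.card F : ℂ) - 1 := by
  rcases sl2_irr_classification hψ with rfl | rfl | ⟨γ, hγ, rfl⟩ | ⟨γ, h1, h2, hne⟩ | ⟨_, h | h⟩
  · left; rfl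
  · right; left; exact sl2St_one
  · right; right; left; exact sl2R_one_apply γ
  · right; right; right; left
    obtain ⟨hodd, hd, _⟩ := sl2_half_cases h1 h2 hψ hne
    exact ⟨hodd, hd⟩
  · right; right; right; right; left; exact h
  · right; right; right; right; right; exact h

/-- transfer of a linear equation in the cardinality from ℂ to ℝ -/
theorem cx_lin (q : ℕ) (a b c d : ℝ) (h : (a : ℂ) * (q : ℂ) + b = (c : ℂ) * q + d) :
    a * q + b = c * q + d := by exact_mod_cast h

theorem sl2_deg_one_unique [Fintype F] [DecidableEq F] (hq : 4 ≤ Fintype.card F)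
    {ψ : Matrix.SpecialLinearGroup (Fin 2) F → ℂ} (hψ : IsIrrCharacter (Matrix.SpecialLinearGroup (Fin 2) F) ψ)
    (h1 : ψ 1 = 1) : ψ = fun _ => (1 : ℂ) := by
  have hq' : (4 : ℝ) ≤ (Fintype.card F : ℝ) := by exact_mod_cast hq
  rcases sl2_irr_classification hψ with rfl | rfl | ⟨γ, hγ, rfl⟩ | ⟨γ, h1', h2, hne⟩ | ⟨_, h | h⟩
  · rfl
  · exfalso
    rw [sl2St_one] at h1
    have := cx_lin (Fintype.card F) 1 0 0 1 (by push_cast; linear_combination h1)
    linarith
  · exfalso
    rw [sl2R_one_apply] at h1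
    have := cx_lin (Fintype.card F) 1 1 0 1 (by push_cast; linear_combination h1)
    linarith
  · exfalso
    obtain ⟨_, hd, _⟩ := sl2_half_cases h1' h2 hψ hne
    rw [h1] at hd
    have := cx_lin (Fintype.card F) 0 2 1 1 (by push_cast; linear_combination hd)
    linarith
  · exfalso
    rw [h1] at h
    have := cx_lin (Fintype.card F) 0 1 1 (-1) (by push_cast; linear_combination h)
    linarith
  · exfalso
    rw [h1] at h
    have := cx_lin (Fintype.card F) 0 2 1 (-1) (by push_cast; linear_combination h)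
    linarith

theorem sl2_deg_q_unique [Fintype F] [DecidableEq F]
    {ψ : Matrix.SpecialLinearGroup (Fin 2) F → ℂ} (hψ : IsIrrCharacter (Matrix.SpecialLinearGroup (Fin 2) F) ψ)
    (h1 : ψ 1 = (Fintype.card F : ℂ)) : ψ = sl2St := by
  have hq' := card_cast_two_le (F := F)
  rcases sl2_irr_classification hψ with rfl | rfl | ⟨γ, hγ, rfl⟩ | ⟨γ, h1', h2, hne⟩ | ⟨_, h | h⟩
  · exfalso
    have := cx_lin (Fintype.card F) 0 1 1 0 (by push_cast; linear_combination h1)
    linarith
  · rfl
  · exfalso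
    rw [sl2R_one_apply] at h1
    have := cx_lin (Fintype.card F) 1 1 1 0 (by push_cast; linear_combination h1)
    linarith
  · exfalso
    obtain ⟨_, hd, _⟩ := sl2_half_cases h1' h2 hψ hne
    rw [h1] at hd
    have := cx_lin (Fintype.card F) 2 0 1 1 (by push_cast; linear_combination hd)
    linarith
  · exfalso
    rw [h1] at h
    have := cx_lin (Fintype.card F) 1 0 1 (-1) (by push_cast; linear_combination h)
    linarith
  · exfalso
    rw [h1] at h
    have := cx_lin (Fintype.card F) 2 0 1 (-1) (by push_cast; linear_combination h)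
    linarith

theorem sl2_deg_q_add_one [Fintype F] [DecidableEq F]
    {ψ : Matrix.SpecialLinearGroup (Fin 2) F → ℂ} (hψ : IsIrrCharacter (Matrix.SpecialLinearGroup (Fin 2) F) ψ)
    (h1 : ψ 1 = (Fintype.card F : ℂ) + 1) : ∃ γ : MulChar F ℂ, γ ^ 2 ≠ 1 ∧ ψ = sl2R γ := by
  have hq' := card_cast_two_le (F := F)
  rcases sl2_irr_classification hψ with rfl | rfl | ⟨γ, hγ, rfl⟩ | ⟨γ, h1', h2, hne⟩ | ⟨_, h | h⟩
  · exfalso
    have := cx_lin (Fintype.card F) 0 1 1 1 (by push_cast; linear_combination h1)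
    linarith
  · exfalso
    rw [sl2St_one] at h1
    have := cx_lin (Fintype.card F) 1 0 1 1 (by push_cast; linear_combination h1)
    linarith
  · exact ⟨γ, hγ, rfl⟩
  · exfalso
    obtain ⟨_, hd, _⟩ := sl2_half_cases h1' h2 hψ hne
    rw [h1] at hd
    have := cx_lin (Fintype.card F) 2 2 1 1 (by push_cast; linear_combination hd)
    linarith
  · exfalso
    rw [h1] at h
    have := cx_lin (Fintype.card F) 1 1 1 (-1) (by push_cast; linear_combination h)
    linarith
  · exfalso
    rw [h1] at h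
    have := cx_lin (Fintype.card F) 2 2 1 (-1) (by push_cast; linear_combination h)
    linarith

/-- the number of irreducible characters of SL2 of degree q + 1 -/
theorem sl2_card_deg_q_add_one [Fintype F] [DecidableEq F] [Fintype (MulChar F ℂ)] [DecidableEq (MulChar F ℂ)] :
    2 * Nat.card {ψ : IrrCharacter (Matrix.SpecialLinearGroup (Fin 2) F) //
      (ψ : Matrix.SpecialLinearGroup (Fin 2) F → ℂ) 1 = (Fintype.card F : ℂ) + 1}
      = Fintype.card F - 1 - (Finset.univ.filter (fun γ : MulChar F ℂ => γ ^ 2 = 1)).card := by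
  classical
  have : Fintype (IrrCharacter (Matrix.SpecialLinearGroup (Fin 2) F)) := Fintype.ofFinite _
  let A := {γ : MulChar F ℂ // ¬ γ ^ 2 = 1}
  let B := {ψ : IrrCharacter (Matrix.SpecialLinearGroup (Fin 2) F) //
      (ψ : Matrix.SpecialLinearGroup (Fin 2) F → ℂ) 1 = (Fintype.card F : ℂ) + 1}
  let g : A → B := fun γ => ⟨⟨sl2R γ.1, (sl2_indBorel_irr_iff γ.1).mpr γ.2⟩, sl2R_one_apply γ.1⟩
  have hinv : ∀ γ : A, ¬ (γ.1⁻¹) ^ 2 = 1 := by
    intro γ h
    apply γ.2
    rw [inv_pow, inv_eq_one] at h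
    exact h
  let σ : A → A := fun γ => ⟨γ.1⁻¹, hinv γ⟩
  have hσ : ∀ a, σ a ≠ a := by
    intro a h
    apply a.2
    have := congrArg Subtype.val h
    simp only [σ] at this
    rw [sq]
    nth_rewrite 1 [← this]
    exact inv_mul_cancel _
  have hsurj : Function.Surjective g := by
    rintro ⟨ψ, hψ⟩
    obtain ⟨γ, hγ, he⟩ := sl2_deg_q_add_one ψ.2 hψ
    refine ⟨⟨γ, hγ⟩, ?_⟩
    apply Subtype.ext
    apply Subtype.ext
    exact he.symm
  have hfib : ∀ a a', g a = g a' ↔ a' = a ∨ a' = σ a := by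
    intro a a'
    constructor
    · intro h
      have h' : sl2R a.1 = sl2R a'.1 := congrArg (fun b : B => (b.1 : Matrix.SpecialLinearGroup (Fin 2) F → ℂ)) h
      rcases (sl2R_eq_iff _ _).mp h' with e | e
      · left; exact Subtype.ext e.symm
      · right
        apply Subtype.ext
        simp only [σ]
        rw [e, inv_inv]
    · rintro (rfl | rfl)
      · rfl
      · apply Subtype.ext
        apply Subtype.ext
        simp only [g, σ]
        exact (sl2R_eq_iff _ _).mpr (Or.inr (inv_inv _).symm)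
  have key := card_eq_two_mul_of_fibers g hsurj σ hσ hfib
  have hA : Fintype.card A = Fintype.card (MulChar F ℂ) - (Finset.univ.filter (fun γ : MulChar F ℂ => γ ^ 2 = 1)).card := by
    rw [Fintype.card_subtype_compl, Fintype.card_subtype]
  have hM : Fintype.card (MulChar F ℂ) = Fintype.card F - 1 := by
    rw [← Nat.card_eq_fintype_card, mulChar_card]
  rw [Nat.card_eq_fintype_card, ← key, hA, hM]

end Cfsg.Agent.helper12
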