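import Cfsg.Agent.Lib_helper12_Sl2Vanish

set_option autoImplicit false

namespace Cfsg.Agent.helper12

open Matrix Cfsg
open scoped ComplexConjugate

variable {F : Type*} [Field F]

theorem sl2_sum_U_eq [Fintype F] [DecidableEq F] (χ : Matrix.SpecialLinearGroup (Fin 2) F → ℂ) :
    (∑ g : Matrix.SpecialLinearGroup (Fin 2) F, if (g : Matrix (Fin 2) (Fin 2) F) 1 0 = 0 ∧ (g : Matrix (Fin 2) (Fin 2) F) 0 0 = 1 ∧ (g : Matrix (Fin 2) (Fin 2) F) 1 1 = 1 then χ g else 0)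
      = ∑ x : F, χ (sl2UT 1 x) := by
  apply sum_ite_eq_sum_of_bij _ (fun x : F => sl2UT 1 x)
  · intro x y h
    exact (Prod.ext_iff.mp (sl2UT_injective (a₁ := ((1 : Fˣ), x)) (a₂ := ((1 : Fˣ), y)) h)).2
  · intro x
    simp [sl2UT]
  · rintro g ⟨h10, h00, h11⟩
    obtain ⟨⟨a, b⟩, hab⟩ := sl2UT_surj g h10
    simp only at hab
    have : a = 1 := by
      apply Units.ext
      rw [← sl2UT_00 a b, hab, h00]
      rfl
    subst this
    exact ⟨b, hab⟩

theorem sl2R_sum_U [Fintype F] [DecidableEq F] (γ : MulChar F ℂ) :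
    ∑ x : F, sl2R γ (sl2UT 1 x) = 2 * (Fintype.card F : ℂ) := by
  have h : ∀ x : F, sl2R γ (sl2UT 1 x) = 1 + if x = 0 then (Fintype.card F : ℂ) else 0 := by
    intro x
    unfold sl2R
    rw [sl2_indBorel_sl2UT]
    simp only [inv_one, Units.val_one, sub_self, zero_mul, map_one]
    by_cases hx : x = 0
    · simp [hx]
    · simp [hx]
  rw [Finset.sum_congr rfl (fun x _ => h x), Finset.sum_add_distrib, Finset.sum_ite_eq' Finset.univ (0 : F)]
  simp
  ring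

theorem sl2St_sum_U [Fintype F] [DecidableEq F] :
    ∑ x : F, sl2St (sl2UT 1 x) = (Fintype.card F : ℂ) := by
  unfold sl2St
  simp only [Pi.sub_apply]
  rw [Finset.sum_sub_distrib, sl2R_sum_U]
  simp
  ring

theorem sl2_gl_conj_U (x : GL (Fin 2) F) : ∃ (δ : Fˣ) (s : Matrix.SpecialLinearGroup (Fin 2) F), ∀ y : F,
    Matrix.SpecialLinearGroup.toGL (sl2UT 1 ((δ : F) * y))
      = x * Matrix.SpecialLinearGroup.toGL (s⁻¹ * sl2UT 1 y * s) * x⁻¹ := by
  obtain ⟨δ, hδ⟩ : ∃ δ : Fˣ, δ = Matrix.GeneralLinearGroup.det x := ⟨_, rfl⟩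
  obtain ⟨D, hDdef⟩ : ∃ D : GL (Fin 2) F, D = gl2UT δ 1 0 := ⟨_, rfl⟩
  have hD : Matrix.GeneralLinearGroup.det D = δ := by
    apply Units.ext
    rw [Matrix.GeneralLinearGroup.val_det_apply, hDdef, gl2UT_coe, Matrix.det_fin_two]
    simp
  have hy : Matrix.GeneralLinearGroup.det (D⁻¹ * x) = 1 := by rw [map_mul, map_inv, hD, hδ, inv_mul_cancel]
  let s : Matrix.SpecialLinearGroup (Fin 2) F := ⟨((D⁻¹ * x : GL (Fin 2) F) : Matrix (Fin 2) (Fin 2) F), by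
    have := congrArg Units.val hy
    rwa [Matrix.GeneralLinearGroup.val_det_apply, Units.val_one] at this⟩
  have hs : Matrix.SpecialLinearGroup.toGL s = D⁻¹ * x := Units.ext rfl
  refine ⟨δ, s, fun y => ?_⟩
  rw [map_mul, map_mul, map_inv, hs, _root_.mul_inv_rev, inv_inv]
  have e : x * (x⁻¹ * D * Matrix.SpecialLinearGroup.toGL (sl2UT 1 y) * (D⁻¹ * x)) * x⁻¹
      = D * Matrix.SpecialLinearGroup.toGL (sl2UT 1 y) * D⁻¹ := by group
  rw [e, eq_mul_inv_iff_mul_eq]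
  apply Units.ext
  rw [Units.val_mul, Units.val_mul, toGL_coe', toGL_coe', hDdef, gl2UT_coe]
  simp only [sl2UT]
  ext i j
  fin_cases i <;> fin_cases j <;> simp [Matrix.mul_apply, Fin.sum_univ_two, mul_comm]

theorem sl2_half_sum_U [Fintype F] [DecidableEq F] (hodd : Odd (Fintype.card F)) {γ : MulChar F ℂ}
    (h1 : γ ^ 2 = 1) (h2 : γ ≠ 1)
    {ψ : Matrix.SpecialLinearGroup (Fin 2) F → ℂ} (hψ : IsIrrCharacter (Matrix.SpecialLinearGroup (Fin 2) F) ψ)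
    (hne : classInner (sl2R γ) ψ ≠ 0) :
    ∑ x : F, ψ (sl2UT 1 x) = (Fintype.card F : ℂ) := by
  obtain ⟨χ₁, χ₂, i1, i2, hne12, hsum, d1, d2, x, hx⟩ := sl2_order_two_splits hodd γ h1 h2
  obtain ⟨δ, s, hs⟩ := sl2_gl_conj_U x
  have h21 : ∀ y, χ₂ (sl2UT 1 ((δ : F) * y)) = χ₁ (sl2UT 1 y) := by
    intro y
    rw [hx (s⁻¹ * sl2UT 1 y * s) (sl2UT 1 ((δ : F) * y)) (hs y)]
    have := helper24.char_isClassFunction (helper24.irr_isCharacter i1) (sl2UT 1 y) s⁻¹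
    rw [inv_inv] at this
    exact this
  have hS : ∑ y : F, χ₂ (sl2UT 1 y) = ∑ y : F, χ₁ (sl2UT 1 y) := by
    rw [← Finset.sum_congr rfl (fun y _ => h21 y)]
    exact (Equiv.sum_comp (Equiv.mulLeft₀ (δ : F) δ.ne_zero) (fun y => χ₂ (sl2UT 1 y))).symm
  have hR : ∑ y : F, χ₁ (sl2UT 1 y) + ∑ y : F, χ₂ (sl2UT 1 y) = 2 * (Fintype.card F : ℂ) := by
    rw [← Finset.sum_add_distrib, ← sl2R_sum_U γ]
    apply Finset.sum_congr rfl
    intro y _
    rw [← Pi.add_apply, ← hsum]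
  have h1' : ∑ y : F, χ₁ (sl2UT 1 y) = (Fintype.card F : ℂ) := by
    rw [hS] at hR
    linear_combination hR / 2
  have hcase : ψ = χ₁ ∨ ψ = χ₂ := by
    change classInner (indFun (sl2Borel F) (sl2BorelChar γ)) ψ ≠ 0 at hne
    rw [hsum, classInner_irr_add i1 i2 hψ] at hne
    by_cases c1 : χ₁ = ψ
    · left; exact c1.symm
    · by_cases c2 : χ₂ = ψ
      · right; exact c2.symm
      · rw [if_neg c1, if_neg c2] at hne
        norm_num at hne
  rcases hcase with rfl | rfl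
  · exact h1'
  · rw [hS, h1']

theorem sl2_sum_U_cases [Fintype F] [DecidableEq F] (hodd : Odd (Fintype.card F))
    {χ : Matrix.SpecialLinearGroup (Fin 2) F → ℂ} (hχ : IsIrrCharacter (Matrix.SpecialLinearGroup (Fin 2) F) χ)
    (k : ℕ) (hk : Fintype.card F = 2 * k + 1) :
    charDegree χ = 1 ∨ (charDegree χ = 2 * k + 2 ∧ ∑ x : F, χ (sl2UT 1 x) = 2 * (Fintype.card F : ℂ)) ∨
    (charDegree χ = 2 * k + 1 ∧ ∑ x : F, χ (sl2UT 1 x) = (Fintype.card F : ℂ)) ∨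
    (charDegree χ = k + 1 ∧ ∑ x : F, χ (sl2UT 1 x) = (Fintype.card F : ℂ)) ∨
    ((charDegree χ = 2 * k ∨ charDegree χ = k) ∧ ∑ x : F, χ (sl2UT 1 x) = 0) := by
  have hc := helper24.char_charDegree_cast (helper24.irr_isCharacter hχ)
  have hcl := helper24.char_isClassFunction (helper24.irr_isCharacter hχ)
  rcases sl2_irr_classification hχ with h | h | ⟨γ, hγ, h⟩ | ⟨γ, h1, h2, hne⟩ | ⟨hcusp, hd⟩
  · left
    have h1 : χ 1 = 1 := by rw [h]
    rw [← hc] at h1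
    exact_mod_cast h1
  · right; right; left
    have h1 : χ 1 = (Fintype.card F : ℂ) := by rw [h]; exact sl2St_one
    rw [← hc, hk] at h1
    refine ⟨by exact_mod_cast h1, ?_⟩
    rw [h]; exact sl2St_sum_U
  · right; left
    have h1 : χ 1 = (Fintype.card F : ℂ) + 1 := by rw [h]; exact sl2R_one_apply γ
    rw [← hc, hk] at h1
    refine ⟨?_, ?_⟩
    · have : (charDegree χ : ℂ) = ((2 * k + 2 : ℕ) : ℂ) := by rw [h1]; push_cast; ring
      exact_mod_cast this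
    · rw [h]; exact sl2R_sum_U γ
  · right; right; right; left
    obtain ⟨_, hd, _⟩ := sl2_half_cases h1 h2 hχ hne
    rw [← hc, hk] at hd
    refine ⟨?_, sl2_half_sum_U hodd h1 h2 hχ hne⟩
    have : 2 * charDegree χ = 2 * k + 1 + 1 := by exact_mod_cast hd
    omega
  · right; right; right; right
    refine ⟨?_, sl2_cuspidal_sum hcl hcusp 1⟩
    rcases hd with h | h
    · left
      rw [← hc, hk] at h
      have : (charDegree χ : ℂ) + 1 = ((2 * k + 1 : ℕ) : ℂ) := by rw [h]; ring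
      have : charDegree χ + 1 = 2 * k + 1 := by exact_mod_cast this
      omega
    · right
      rw [← hc, hk] at h
      have : 2 * (charDegree χ : ℂ) + 1 = ((2 * k + 1 : ℕ) : ℂ) := by rw [h]; ring
      have : 2 * charDegree χ + 1 = 2 * k + 1 := by exact_mod_cast this
      omega

/-- S2438 -/
theorem sl2_sum_U [Fintype F] [DecidableEq F] (hodd : Odd (Fintype.card F)) (hq : 5 ≤ Fintype.card F)
    (χ : Matrix.SpecialLinearGroup (Fin 2) F → ℂ) (hχ : Cfsg.IsIrrCharacter (Matrix.SpecialLinearGroup (Fin 2) F) χ) :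
    (χ 1 = (Fintype.card F : ℂ) + 1 →
      (∑ g : Matrix.SpecialLinearGroup (Fin 2) F, if (g : Matrix (Fin 2) (Fin 2) F) 1 0 = 0 ∧ (g : Matrix (Fin 2) (Fin 2) F) 0 0 = 1 ∧ (g : Matrix (Fin 2) (Fin 2) F) 1 1 = 1 then χ g else 0) = 2 * (Fintype.card F : ℂ)) ∧
    (χ 1 = (Fintype.card F : ℂ) →
      (∑ g : Matrix.SpecialLinearGroup (Fin 2) F, if (g : Matrix (Fin 2) (Fin 2) F) 1 0 = 0 ∧ (g : Matrix (Fin 2) (Fin 2) F) 0 0 = 1 ∧ (g : Matrix (Fin 2) (Fin 2) F) 1 1 = 1 then χ g else 0) = (Fintype.card F : ℂ)) ∧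
    (χ 1 = (Fintype.card F : ℂ) - 1 →
      (∑ g : Matrix.SpecialLinearGroup (Fin 2) F, if (g : Matrix (Fin 2) (Fin 2) F) 1 0 = 0 ∧ (g : Matrix (Fin 2) (Fin 2) F) 0 0 = 1 ∧ (g : Matrix (Fin 2) (Fin 2) F) 1 1 = 1 then χ g else 0) = 0) ∧
    (χ 1 = (((Fintype.card F + 1) / 2 : ℕ) : ℂ) →
      (∑ g : Matrix.SpecialLinearGroup (Fin 2) F, if (g : Matrix (Fin 2) (Fin 2) F) 1 0 = 0 ∧ (g : Matrix (Fin 2) (Fin 2) F) 0 0 = 1 ∧ (g : Matrix (Fin 2) (Fin 2) F) 1 1 = 1 then χ g else 0) = (Fintype.card F : ℂ)) ∧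
    (χ 1 = (((Fintype.card F - 1) / 2 : ℕ) : ℂ) →
      (∑ g : Matrix.SpecialLinearGroup (Fin 2) F, if (g : Matrix (Fin 2) (Fin 2) F) 1 0 = 0 ∧ (g : Matrix (Fin 2) (Fin 2) F) 0 0 = 1 ∧ (g : Matrix (Fin 2) (Fin 2) F) 1 1 = 1 then χ g else 0) = 0) := by
  have hodd' := hodd
  obtain ⟨k, hk⟩ := hodd
  have hk2 : 2 ≤ k := by omega
  have hc := helper24.char_charDegree_cast (helper24.irr_isCharacter hχ)
  have e1 : (Fintype.card F + 1) / 2 = k + 1 := by omega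
  have e2 : (Fintype.card F - 1) / 2 = k := by omega
  rw [sl2_sum_U_eq, e1, e2]
  have main := sl2_sum_U_cases hodd' hχ k hk
  refine ⟨?_, ?_, ?_, ?_, ?_⟩
  · intro h
    rw [← hc, hk] at h
    have hd : charDegree χ = 2 * k + 2 := by
      have : (charDegree χ : ℂ) = ((2 * k + 2 : ℕ) : ℂ) := by rw [h]; push_cast; ring
      exact_mod_cast this
    rcases main with m | ⟨m, hm⟩ | ⟨m, hm⟩ | ⟨m, hm⟩ | ⟨m, hm⟩
    · omega
    · exact hm
    · omega
    · omega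
    · omega
  · intro h
    rw [← hc, hk] at h
    have hd : charDegree χ = 2 * k + 1 := by exact_mod_cast h
    rcases main with m | ⟨m, hm⟩ | ⟨m, hm⟩ | ⟨m, hm⟩ | ⟨m, hm⟩
    · omega
    · omega
    · exact hm
    · omega
    · omega
  · intro h
    rw [← hc, hk] at h
    have hd : charDegree χ = 2 * k := by
      have : (charDegree χ : ℂ) + 1 = ((2 * k + 1 : ℕ) : ℂ) := by rw [h]; ring
      have : charDegree χ + 1 = 2 * k + 1 := by exact_mod_cast this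
      omega
    rcases main with m | ⟨m, hm⟩ | ⟨m, hm⟩ | ⟨m, hm⟩ | ⟨m, hm⟩
    · omega
    · omega
    · omega
    · omega
    · exact hm
  · intro h
    rw [← hc] at h
    have hd : charDegree χ = k + 1 := by exact_mod_cast h
    rcases main with m | ⟨m, hm⟩ | ⟨m, hm⟩ | ⟨m, hm⟩ | ⟨m, hm⟩
    · omega
    · omega
    · omega
    · exact hm
    · omega
  · intro h
    rw [← hc] at h
    have hd : charDegree χ = k := by exact_mod_cast h
    rcases main with m | ⟨m, hm⟩ | ⟨m, hm⟩ | ⟨m, hm⟩ | ⟨m, hm⟩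
    · omega
    · omega
    · omega
    · omega
    · exact hm

end Cfsg.Agent.helper12
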