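import Cfsg.Agent.Lib_helper12_Sl2Gl2

set_option autoImplicit false

namespace Cfsg.Agent.helper12

open Matrix Cfsg
open scoped ComplexConjugate

variable {F : Type*} [Field F]

/-- S2307 -/
theorem sl2_order_two_splits [Fintype F] [DecidableEq F] (hodd : Odd (Fintype.card F)) (α : MulChar F ℂ)
    (hα : α ^ 2 = 1) (hα1 : α ≠ 1) :
    ∃ χ₁ χ₂ : Matrix.SpecialLinearGroup (Fin 2) F → ℂ, Cfsg.IsIrrCharacter (Matrix.SpecialLinearGroup (Fin 2) F) χ₁ ∧ Cfsg.IsIrrCharacter (Matrix.SpecialLinearGroup (Fin 2) F) χ₂ ∧ χ₁ ≠ χ₂ ∧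
      Cfsg.indFun (sl2Borel F) (sl2BorelChar α) = χ₁ + χ₂ ∧
      χ₁ 1 = (((Fintype.card F + 1) / 2 : ℕ) : ℂ) ∧ χ₂ 1 = (((Fintype.card F + 1) / 2 : ℕ) : ℂ) ∧
      ∃ x : Matrix.GeneralLinearGroup (Fin 2) F, ∀ g h : Matrix.SpecialLinearGroup (Fin 2) F,
        Matrix.SpecialLinearGroup.toGL h = x * Matrix.SpecialLinearGroup.toGL g * x⁻¹ → χ₂ h = χ₁ g := by
  classical
  have hinv : α = α⁻¹ := by rw [eq_inv_iff_mul_eq_one, ← sq]; exact hα
  have hnorm : classInner (indFun (sl2Borel F) (sl2BorelChar α)) (indFun (sl2Borel F) (sl2BorelChar α)) = 2 := by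
    rw [sl2_classInner_indBorel, if_pos rfl, if_pos hinv]
    norm_num
  obtain ⟨χ₁, χ₂, h1, h2, hne, hsum⟩ := exists_irr_add_of_classInner_self_eq_two (sl2_indBorel_isCharacter α) hnorm
  have hX := gl2_indBorel_irr α 1 hα1
  have hres : sl2Res (indFun (gl2Borel F) (gl2BorelChar α 1)) = indFun (sl2Borel F) (sl2BorelChar α) := by
    rw [sl2Res_indBorel, inv_one, mul_one]
  have c1 : classInner (fun s : Matrix.SpecialLinearGroup (Fin 2) F =>
      indFun (gl2Borel F) (gl2BorelChar α 1) (Matrix.SpecialLinearGroup.toGL s)) χ₁ ≠ 0 := by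
    change classInner (sl2Res (indFun (gl2Borel F) (gl2BorelChar α 1))) χ₁ ≠ 0
    rw [hres, hsum, classInner_irr_add h1 h2 h1, if_pos rfl, if_neg (fun h => hne h.symm)]
    norm_num
  have c2 : classInner (fun s : Matrix.SpecialLinearGroup (Fin 2) F =>
      indFun (gl2Borel F) (gl2BorelChar α 1) (Matrix.SpecialLinearGroup.toGL s)) χ₂ ≠ 0 := by
    change classInner (sl2Res (indFun (gl2Borel F) (gl2BorelChar α 1))) χ₂ ≠ 0
    rw [hres, hsum, classInner_irr_add h1 h2 h2, if_neg hne, if_pos rfl]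
    norm_num
  obtain ⟨x, hx⟩ := clifford_conj_hom Matrix.SpecialLinearGroup.toGL Matrix.SpecialLinearGroup.toGL_injective hX h1 h2 c1 c2
  have hdeg : χ₂ 1 = χ₁ 1 := hx 1 1 (by simp)
  have htot : χ₁ 1 + χ₂ 1 = (Fintype.card F : ℂ) + 1 := by
    have := congrFun hsum 1
    rw [← hres, sl2Res_one, gl2_indBorel_one] at this
    exact this.symm
  have hhalf : χ₁ 1 = (((Fintype.card F + 1) / 2 : ℕ) : ℂ) := by
    obtain ⟨k, hk⟩ := hodd
    have : (Fintype.card F + 1) / 2 = k + 1 := by omega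
    rw [this]
    rw [hdeg, hk] at htot
    push_cast at htot ⊢
    linear_combination htot / 2
  exact ⟨χ₁, χ₂, h1, h2, hne, hsum, hhalf, hdeg ▸ hhalf, x, hx⟩

/-- over every irreducible character of SL2 there is an irreducible character of GL2 of the same or
twice the degree -/
theorem sl2_over_degree [Fintype F] [DecidableEq F] {ψ : Matrix.SpecialLinearGroup (Fin 2) F → ℂ}
    (hψ : IsIrrCharacter (Matrix.SpecialLinearGroup (Fin 2) F) ψ) :
    ∃ X : GL (Fin 2) F → ℂ, IsIrrCharacter (GL (Fin 2) F) X ∧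
      ((sl2Res X = ψ ∧ X 1 = ψ 1) ∨ X 1 = 2 * ψ 1) := by
  obtain ⟨X, hX, h | ⟨ψ', hψ', hne, hsum, x, hx⟩⟩ := sl2_exists_over hψ
  · exact ⟨X, hX, Or.inl ⟨h, by rw [← h, sl2Res_one]⟩⟩
  · refine ⟨X, hX, Or.inr ?_⟩
    have h1 : ψ' 1 = ψ 1 := hx 1 1 (by simp)
    have := congrFun hsum 1
    rw [sl2Res_one, Pi.add_apply, h1] at this
    rw [this]; ring

theorem gl2_degree_cases [Fintype F] {X : GL (Fin 2) F → ℂ} (hX : IsIrrCharacter (GL (Fin 2) F) X) :
    X 1 = 1 ∨ X 1 = (Fintype.card F : ℂ) - 1 ∨ X 1 = (Fintype.card F : ℂ) ∨ X 1 = (Fintype.card F : ℂ) + 1 :=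
  (gl2_degrees (F := F)).1 X hX

theorem card_cast_two_le [Fintype F] : (2 : ℝ) ≤ (Fintype.card F : ℝ) := by
  have : 1 < Fintype.card F := Fintype.one_lt_card
  exact_mod_cast this

/-- S2323 -/
theorem sl2_values_at_transvection [Fintype F] (hq : 4 ≤ Fintype.card F) (χ : Matrix.SpecialLinearGroup (Fin 2) F → ℂ)
    (hχ : Cfsg.IsIrrCharacter (Matrix.SpecialLinearGroup (Fin 2) F) χ)
    (u : Matrix.SpecialLinearGroup (Fin 2) F) (hu : (u : Matrix (Fin 2) (Fin 2) F) = !![1, 1; 0, 1]) :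
    (χ 1 = (Fintype.card F : ℂ) + 1 → χ u = 1) ∧ (χ 1 = (Fintype.card F : ℂ) - 1 → χ u = -1) := by
  classical
  have hq' : (4 : ℝ) ≤ (Fintype.card F : ℝ) := by exact_mod_cast hq
  obtain ⟨X, hX, h⟩ := sl2_over_degree hχ
  have hval := gl2_values_at_transvection (by omega) X hX (Matrix.SpecialLinearGroup.toGL u) (by rw [toGL_coe', hu])
  have hdeg := gl2_degree_cases hX
  constructor
  · intro h1
    rcases h with ⟨hres, hX1⟩ | hX1
    · rw [← hres]
      exact hval.2.1 (by rw [hX1, h1])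
    · exfalso
      rw [h1] at hX1
      rcases hdeg with h | h | h | h <;> rw [hX1] at h
      · have := congrArg Complex.re h
        simp at this
        linarith
      · have := congrArg Complex.re h
        simp at this
        linarith
      · have := congrArg Complex.re h
        simp at this
        linarith
      · have := congrArg Complex.re h
        simp at this
        linarith
  · intro h1
    rcases h with ⟨hres, hX1⟩ | hX1
    · rw [← hres]
      exact hval.2.2.1 (by rw [hX1, h1])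
    · exfalso
      rw [h1] at hX1
      rcases hdeg with h | h | h | h <;> rw [hX1] at h
      · have := congrArg Complex.re h
        simp at this
        linarith
      · have := congrArg Complex.re h
        simp at this
        linarith
      · have := congrArg Complex.re h
        simp at this
        linarith
      · have := congrArg Complex.re h
        simp at this
        linarith

theorem two_mul_card_ne [Fintype F] :
    2 * (Fintype.card F : ℂ) ≠ 1 ∧ 2 * (Fintype.card F : ℂ) ≠ (Fintype.card F : ℂ) - 1 ∧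
    2 * (Fintype.card F : ℂ) ≠ (Fintype.card F : ℂ) ∧ 2 * (Fintype.card F : ℂ) ≠ (Fintype.card F : ℂ) + 1 := by
  have hq := card_cast_two_le (F := F)
  refine ⟨?_, ?_, ?_, ?_⟩
  · intro h
    have h' : ((2 * (Fintype.card F : ℝ) : ℝ) : ℂ) = ((1 : ℝ) : ℂ) := by push_cast; exact h
    have := Complex.ofReal_injective h'
    linarith
  · intro h
    have h' : ((2 * (Fintype.card F : ℝ) : ℝ) : ℂ) = (((Fintype.card F : ℝ) - 1 : ℝ) : ℂ) := by push_cast; exact h
    have := Complex.ofReal_injective h'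
    linarith
  · intro h
    have h' : ((2 * (Fintype.card F : ℝ) : ℝ) : ℂ) = (((Fintype.card F : ℝ) : ℝ) : ℂ) := by push_cast; exact h
    have := Complex.ofReal_injective h'
    linarith
  · intro h
    have h' : ((2 * (Fintype.card F : ℝ) : ℝ) : ℂ) = (((Fintype.card F : ℝ) + 1 : ℝ) : ℂ) := by push_cast; exact h
    have := Complex.ofReal_injective h'
    linarith

/-- an irreducible character of SL2 of degree q is the restriction of a Steinberg character of GL2 -/
theorem sl2_degree_q_eq [Fintype F] [DecidableEq F] {χ : Matrix.SpecialLinearGroup (Fin 2) F → ℂ}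
    (hχ : Cfsg.IsIrrCharacter (Matrix.SpecialLinearGroup (Fin 2) F) χ) (hdeg : χ 1 = (Fintype.card F : ℂ)) :
    ∃ γ : MulChar F ℂ, χ = sl2Res (gl2St γ) := by
  have hq' := card_cast_two_le (F := F)
  obtain ⟨n1, n2, n3, n4, n5, n6, n7⟩ := card_cast_facts (F := F)
  obtain ⟨X, hX, h⟩ := sl2_over_degree hχ
  rcases h with ⟨hres, hX1⟩ | hX1
  · rw [hdeg] at hX1
    rcases gl2_irr_classification hX with ⟨γ, rfl⟩ | ⟨γ, rfl⟩ | ⟨α, β, hab, rfl⟩ | ⟨hc, h2⟩
    · rw [gl2DetHom_one] at hX1; exact absurd hX1 n1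
    · exact ⟨γ, hres.symm⟩
    · rw [gl2_indBorel_one] at hX1; exact absurd hX1.symm n3
    · rw [h2] at hX1; exact absurd hX1 n4
  · exfalso
    rw [hdeg] at hX1
    obtain ⟨m1, m2, m3, m4⟩ := two_mul_card_ne (F := F)
    rcases gl2_degree_cases hX with h | h | h | h <;> rw [hX1] at h
    · exact m1 h
    · exact m2 h
    · exact m3 h
    · exact m4 h

theorem sl2_toGL_eq_gl2UT (g : Matrix.SpecialLinearGroup (Fin 2) F) (h10 : (g : Matrix (Fin 2) (Fin 2) F) 1 0 = 0) :
    ∃ (a d : Fˣ) (x : F), Matrix.SpecialLinearGroup.toGL g = gl2UT a d x ∧ (a : F) = (g : Matrix (Fin 2) (Fin 2) F) 0 0 ∧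
      (d : F) = (g : Matrix (Fin 2) (Fin 2) F) 1 1 ∧ x = (g : Matrix (Fin 2) (Fin 2) F) 0 1 ∧ (a : F) * (d : F) = 1 := by
  obtain ⟨a, d, x, h, ha, hd, hx⟩ := gl2_eq_gl2UT (Matrix.SpecialLinearGroup.toGL g) (by rw [toGL_coe']; exact h10)
  refine ⟨a, d, x, h, ?_, ?_, ?_, ?_⟩
  · rw [ha, toGL_coe']
  · rw [hd, toGL_coe']
  · rw [hx, toGL_coe']
  · have := sl2_det_entries g
    rw [h10, mul_zero, sub_zero] at this
    rw [ha, hd, toGL_coe']
    exact this

/-- S2321 -/
theorem sl2_degree_q_values [Fintype F] (χ : Matrix.SpecialLinearGroup (Fin 2) F → ℂ)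
    (hχ : Cfsg.IsIrrCharacter (Matrix.SpecialLinearGroup (Fin 2) F) χ) (hdeg : χ 1 = (Fintype.card F : ℂ))
    (g : Matrix.SpecialLinearGroup (Fin 2) F) :
    ((g : Matrix (Fin 2) (Fin 2) F) 0 1 = 0 → (g : Matrix (Fin 2) (Fin 2) F) 1 0 = 0 → (g : Matrix (Fin 2) (Fin 2) F) 0 0 ^ 2 ≠ 1 → χ g = 1) ∧
    ((∀ (c : F) (v : Fin 2 → F), v ≠ 0 → (g : Matrix (Fin 2) (Fin 2) F).mulVec v ≠ c • v) → χ g = -1) ∧
    ((g : Matrix (Fin 2) (Fin 2) F) 1 0 = 0 → (g : Matrix (Fin 2) (Fin 2) F) 0 0 = (g : Matrix (Fin 2) (Fin 2) F) 1 1 → (g : Matrix (Fin 2) (Fin 2) F) 0 1 ≠ 0 → χ g = 0) := by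
  classical
  obtain ⟨γ, rfl⟩ := sl2_degree_q_eq hχ hdeg
  have hdet1 : gl2DetHom γ (Matrix.SpecialLinearGroup.toGL g) = 1 := by
    change γ ((g : Matrix (Fin 2) (Fin 2) F).det) = 1
    rw [g.2, map_one]
  refine ⟨?_, ?_, ?_⟩
  · intro h01 h10 hne
    obtain ⟨a, d, x, hg, ha, hd, hx, had⟩ := sl2_toGL_eq_gl2UT g h10
    have hx0 : x = 0 := by rw [hx, h01]
    subst hx0
    have hne' : a ≠ d := by
      intro h
      apply hne
      rw [← ha, sq]
      nth_rewrite 2 [h]
      exact had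
    unfold sl2Res gl2St
    rw [Pi.sub_apply, hdet1, hg, gl2_indBorel_split γ γ a d hne', ← map_mul, had, ← map_mul, mul_comm, had, map_one]
    norm_num
  · intro hne
    unfold sl2Res gl2St
    rw [Pi.sub_apply, hdet1, gl2_indBorel_noEigenvector γ γ (g := Matrix.SpecialLinearGroup.toGL g) hne, zero_sub]
  · intro h10 heq hne
    obtain ⟨a, d, x, hg, ha, hd, hx, had⟩ := sl2_toGL_eq_gl2UT g h10
    have hxne : x ≠ 0 := by rw [hx]; exact hne
    have hadeq : a = d := by
      apply Units.ext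
      rw [ha, hd, heq]
    subst hadeq
    unfold sl2Res gl2St
    rw [Pi.sub_apply, hdet1, hg, gl2_indBorel_gl2UT, ← map_mul, had, map_one, sub_self]
    rw [Finset.sum_eq_zero]
    · ring
    · intro t _
      rw [if_neg]
      rw [zero_mul]
      exact hxne

end Cfsg.Agent.helper12
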