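import Cfsg.Agent.Lib_helper12_Sl2Gauss
import Cfsg.Agent.Lib_helper12_Dicyclic

set_option autoImplicit false

namespace Cfsg.Agent.helper12

open Matrix Cfsg

variable {F : Type*} [Field F]

theorem sl2_not_isScalar2_of_disc (g : Matrix.SpecialLinearGroup (Fin 2) F)
    (hD : (g : Matrix (Fin 2) (Fin 2) F).trace ^ 2 ≠ 4) : ¬ IsScalar2 (g : Matrix (Fin 2) (Fin 2) F) := by
  rintro ⟨h01, h10, h00⟩
  apply hD
  have hdet := sl2_det_entries g
  rw [Matrix.trace_fin_two, h00]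
  rw [h01, h00] at hdet
  linear_combination 4 * hdet

theorem sl2_centralizer_form {g₀ x : Matrix.SpecialLinearGroup (Fin 2) F}
    (hg : ¬ IsScalar2 (g₀ : Matrix (Fin 2) (Fin 2) F))
    (hx : x ∈ Subgroup.centralizer ({g₀} : Set (Matrix.SpecialLinearGroup (Fin 2) F))) :
    ∃ α β : F, (x : Matrix (Fin 2) (Fin 2) F) = α • (1 : Matrix (Fin 2) (Fin 2) F) + β • (g₀ : Matrix (Fin 2) (Fin 2) F) := by
  apply comm_nonscalar2 hg
  have := Subgroup.mem_centralizer_iff.mp hx g₀ (Set.mem_singleton _)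
  have h2 := congrArg (fun m : Matrix.SpecialLinearGroup (Fin 2) F => (m : Matrix (Fin 2) (Fin 2) F)) this
  simp only [Matrix.SpecialLinearGroup.coe_mul] at h2
  exact h2

theorem sl2_mem_centralizer_singleton {g₀ x : Matrix.SpecialLinearGroup (Fin 2) F} :
    x ∈ Subgroup.centralizer ({g₀} : Set (Matrix.SpecialLinearGroup (Fin 2) F)) ↔ g₀ * x = x * g₀ := by
  rw [Subgroup.mem_centralizer_iff]
  constructor
  · intro h; exact h g₀ (Set.mem_singleton _)
  · intro h y hy; rw [Set.mem_singleton_iff.mp hy]; exact h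

theorem sl2_centralizer_comm {g₀ x y : Matrix.SpecialLinearGroup (Fin 2) F}
    (hg : ¬ IsScalar2 (g₀ : Matrix (Fin 2) (Fin 2) F))
    (hx : x ∈ Subgroup.centralizer ({g₀} : Set (Matrix.SpecialLinearGroup (Fin 2) F)))
    (hy : y ∈ Subgroup.centralizer ({g₀} : Set (Matrix.SpecialLinearGroup (Fin 2) F))) : x * y = y * x := by
  obtain ⟨α, β, hx'⟩ := sl2_centralizer_form hg hx
  obtain ⟨α', β', hy'⟩ := sl2_centralizer_form hg hy
  apply Subtype.ext
  rw [Matrix.SpecialLinearGroup.coe_mul, Matrix.SpecialLinearGroup.coe_mul, hx', hy']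
  simp only [add_mul, mul_add, Matrix.smul_mul, Matrix.mul_smul, Matrix.one_mul, Matrix.mul_one, smul_smul]
  rw [mul_comm α α', mul_comm β β', mul_comm α β', mul_comm β α']
  abel

theorem sl2_inv_eq_trace_sub (x : Matrix.SpecialLinearGroup (Fin 2) F) :
    ((x⁻¹ : Matrix.SpecialLinearGroup (Fin 2) F) : Matrix (Fin 2) (Fin 2) F)
      = (x : Matrix (Fin 2) (Fin 2) F).trace • (1 : Matrix (Fin 2) (Fin 2) F) - (x : Matrix (Fin 2) (Fin 2) F) := by
  rw [sl2_inv_apply, Matrix.trace_fin_two]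
  ext i j
  fin_cases i <;> fin_cases j <;> simp

theorem sl2_conj_inverts {g₀ w x : Matrix.SpecialLinearGroup (Fin 2) F}
    (hg : ¬ IsScalar2 (g₀ : Matrix (Fin 2) (Fin 2) F)) (hw : w * g₀ * w⁻¹ = g₀⁻¹)
    (hx : x ∈ Subgroup.centralizer ({g₀} : Set (Matrix.SpecialLinearGroup (Fin 2) F))) : w * x * w⁻¹ = x⁻¹ := by
  obtain ⟨α, β, hx'⟩ := sl2_centralizer_form hg hx
  apply Subtype.ext
  have hw' := congrArg (fun m : Matrix.SpecialLinearGroup (Fin 2) F => (m : Matrix (Fin 2) (Fin 2) F)) hw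
  simp only [Matrix.SpecialLinearGroup.coe_mul] at hw'
  have hww : (w : Matrix (Fin 2) (Fin 2) F) * ((w⁻¹ : Matrix.SpecialLinearGroup (Fin 2) F) : Matrix (Fin 2) (Fin 2) F) = 1 := by
    rw [← Matrix.SpecialLinearGroup.coe_mul, mul_inv_cancel]; rfl
  rw [Matrix.SpecialLinearGroup.coe_mul, Matrix.SpecialLinearGroup.coe_mul, hx']
  simp only [add_mul, mul_add, Matrix.smul_mul, Matrix.mul_smul, Matrix.mul_one]
  rw [hww, hw', sl2_inv_eq_trace_sub g₀, sl2_inv_eq_trace_sub x, hx']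
  simp only [Matrix.trace_add, Matrix.trace_smul, Matrix.trace_one, Fintype.card_fin, smul_eq_mul]
  ext i j
  fin_cases i <;> fin_cases j <;> simp <;> ring

theorem sl2_det_form (g₀ : Matrix.SpecialLinearGroup (Fin 2) F) (α β : F) :
    (α • (1 : Matrix (Fin 2) (Fin 2) F) + β • (g₀ : Matrix (Fin 2) (Fin 2) F)).det
      = α ^ 2 + α * β * (g₀ : Matrix (Fin 2) (Fin 2) F).trace + β ^ 2 := by
  have hdet := sl2_det_entries g₀
  rw [Matrix.det_fin_two, Matrix.trace_fin_two]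
  simp only [Matrix.add_apply, Matrix.smul_apply, Matrix.one_apply, smul_eq_mul]
  simp
  linear_combination β ^ 2 * hdet

theorem sl2_trace_eq_in_centralizer (h2 : (2 : F) ≠ 0) {g₀ x : Matrix.SpecialLinearGroup (Fin 2) F}
    (hD : (g₀ : Matrix (Fin 2) (Fin 2) F).trace ^ 2 ≠ 4)
    (hx : x ∈ Subgroup.centralizer ({g₀} : Set (Matrix.SpecialLinearGroup (Fin 2) F)))
    (ht : (x : Matrix (Fin 2) (Fin 2) F).trace = (g₀ : Matrix (Fin 2) (Fin 2) F).trace) : x = g₀ ∨ x = g₀⁻¹ := by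
  have hg := sl2_not_isScalar2_of_disc g₀ hD
  obtain ⟨α, β, hx'⟩ := sl2_centralizer_form hg hx
  have hdet : α ^ 2 + α * β * (g₀ : Matrix (Fin 2) (Fin 2) F).trace + β ^ 2 = 1 := by
    rw [← sl2_det_form, ← hx']; exact x.2
  have htr : 2 * α + β * (g₀ : Matrix (Fin 2) (Fin 2) F).trace = (g₀ : Matrix (Fin 2) (Fin 2) F).trace := by
    have e : (x : Matrix (Fin 2) (Fin 2) F).trace = 2 * α + β * (g₀ : Matrix (Fin 2) (Fin 2) F).trace := by
      rw [hx']
      simp [Matrix.trace_add, Matrix.trace_smul, Matrix.trace_one]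
      ring
    rw [← e, ht]
  set τ := (g₀ : Matrix (Fin 2) (Fin 2) F).trace with hτ
  have key : (τ ^ 2 - 4) * (1 - β ^ 2) = 0 := by
    have e : 2 * α = τ * (1 - β) := by linear_combination htr
    linear_combination (4 : F) * hdet - (2 * α + τ * (1 - β) + 2 * β * τ) * e
  have hβ : (1 - β) * (1 + β) = 0 := by
    have := (mul_eq_zero.mp key).resolve_left (sub_ne_zero.mpr hD)
    linear_combination this
  rcases mul_eq_zero.mp hβ with h | h
  · left
    have hβ1 : β = 1 := by linear_combination -h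
    have hα : α = 0 := by
      have : 2 * α = 0 := by rw [hβ1] at htr; linear_combination htr
      exact (mul_eq_zero.mp this).resolve_left h2
    apply Subtype.ext
    rw [hx', hβ1, hα]; simp
  · right
    have hβ1 : β = -1 := by linear_combination h
    have hα : α = τ := by
      have : 2 * (α - τ) = 0 := by rw [hβ1] at htr; linear_combination htr
      exact sub_eq_zero.mp ((mul_eq_zero.mp this).resolve_left h2)
    apply Subtype.ext
    rw [hx', sl2_inv_eq_trace_sub, hβ1, hα, ← hτ]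
    simp [sub_eq_add_neg]


theorem sl2_normalizer_cases (h2 : (2 : F) ≠ 0) {g₀ n : Matrix.SpecialLinearGroup (Fin 2) F}
    (hD : (g₀ : Matrix (Fin 2) (Fin 2) F).trace ^ 2 ≠ 4)
    (hn : n ∈ Subgroup.normalizer ((Subgroup.centralizer ({g₀} : Set (Matrix.SpecialLinearGroup (Fin 2) F))) : Set (Matrix.SpecialLinearGroup (Fin 2) F))) :
    n ∈ Subgroup.centralizer ({g₀} : Set (Matrix.SpecialLinearGroup (Fin 2) F)) ∨ n * g₀ * n⁻¹ = g₀⁻¹ := by
  have h0 : g₀ ∈ Subgroup.centralizer ({g₀} : Set (Matrix.SpecialLinearGroup (Fin 2) F)) :=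
    sl2_mem_centralizer_singleton.mpr rfl
  have h1 := (Subgroup.mem_normalizer_iff.mp hn g₀).mp h0
  rcases sl2_trace_eq_in_centralizer h2 hD h1 (sl2_trace_conj g₀ n) with h | h
  · left
    rw [sl2_mem_centralizer_singleton]
    have := mul_inv_eq_iff_eq_mul.mp h
    exact this.symm
  · right; exact h

theorem sl2_inverting_inv {g₀ w : Matrix.SpecialLinearGroup (Fin 2) F} (hw : w * g₀ * w⁻¹ = g₀⁻¹) :
    w⁻¹ * g₀ * w⁻¹⁻¹ = g₀⁻¹ := by
  have h1 : g₀ = w⁻¹ * g₀⁻¹ * w := by rw [← hw]; group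
  rw [inv_inv]
  calc w⁻¹ * g₀ * w = (w⁻¹ * g₀⁻¹ * w)⁻¹ := by group
    _ = g₀⁻¹ := by rw [← h1]

theorem sl2_inverting_mem_normalizer {g₀ w : Matrix.SpecialLinearGroup (Fin 2) F}
    (hg : ¬ IsScalar2 (g₀ : Matrix (Fin 2) (Fin 2) F)) (hw : w * g₀ * w⁻¹ = g₀⁻¹) :
    w ∈ Subgroup.normalizer ((Subgroup.centralizer ({g₀} : Set (Matrix.SpecialLinearGroup (Fin 2) F))) : Set (Matrix.SpecialLinearGroup (Fin 2) F)) := by
  rw [Subgroup.mem_normalizer_iff]
  intro x
  constructor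
  · intro hx
    rw [sl2_conj_inverts hg hw hx]
    exact Subgroup.inv_mem _ hx
  · intro hx
    have := sl2_conj_inverts hg (sl2_inverting_inv hw) hx
    have e : x = (w * x * w⁻¹)⁻¹ := by rw [← this]; group
    rw [e]
    exact Subgroup.inv_mem _ hx

theorem sl2_inverting_sq {g₀ n : Matrix.SpecialLinearGroup (Fin 2) F}
    (hg : ¬ IsScalar2 (g₀ : Matrix (Fin 2) (Fin 2) F)) (hn : n * g₀ * n⁻¹ = g₀⁻¹) :
    ((n * n : Matrix.SpecialLinearGroup (Fin 2) F) : Matrix (Fin 2) (Fin 2) F) = -1 := by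
  have h1 : n * g₀ = g₀⁻¹ * n := mul_inv_eq_iff_eq_mul.mp hn
  have h2 := congrArg (fun m : Matrix.SpecialLinearGroup (Fin 2) F => (m : Matrix (Fin 2) (Fin 2) F)) h1
  simp only [Matrix.SpecialLinearGroup.coe_mul] at h2
  rw [sl2_inv_apply] at h2
  have e01 := congrFun (congrFun h2 0) 1
  have e10 := congrFun (congrFun h2 1) 0
  have e00 := congrFun (congrFun h2 0) 0
  have e11 := congrFun (congrFun h2 1) 1
  simp [Matrix.mul_apply, Fin.sum_univ_two] at e00 e01 e10 e11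
  have hdet := sl2_det_entries n
  have k1 : ((n : Matrix (Fin 2) (Fin 2) F) 0 0 + (n : Matrix (Fin 2) (Fin 2) F) 1 1) * (g₀ : Matrix (Fin 2) (Fin 2) F) 0 1 = 0 := by
    linear_combination e01
  have k2 : ((n : Matrix (Fin 2) (Fin 2) F) 0 0 + (n : Matrix (Fin 2) (Fin 2) F) 1 1) * (g₀ : Matrix (Fin 2) (Fin 2) F) 1 0 = 0 := by
    linear_combination e10
  have k3 : ((n : Matrix (Fin 2) (Fin 2) F) 0 0 + (n : Matrix (Fin 2) (Fin 2) F) 1 1) *
      ((g₀ : Matrix (Fin 2) (Fin 2) F) 0 0 - (g₀ : Matrix (Fin 2) (Fin 2) F) 1 1) = 0 := by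
    linear_combination e00 - e11
  have htr : (n : Matrix (Fin 2) (Fin 2) F) 0 0 + (n : Matrix (Fin 2) (Fin 2) F) 1 1 = 0 := by
    by_contra hne
    apply hg
    refine ⟨(mul_eq_zero.mp k1).resolve_left hne, (mul_eq_zero.mp k2).resolve_left hne, ?_⟩
    exact sub_eq_zero.mp ((mul_eq_zero.mp k3).resolve_left hne)
  have h11 : (n : Matrix (Fin 2) (Fin 2) F) 1 1 = -(n : Matrix (Fin 2) (Fin 2) F) 0 0 := by linear_combination htr
  rw [Matrix.SpecialLinearGroup.coe_mul]
  rw [h11] at hdet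
  ext i j
  fin_cases i <;> fin_cases j <;> simp [Matrix.mul_apply, Fin.sum_univ_two, h11]
  · linear_combination -hdet
  · ring
  · ring
  · linear_combination -hdet

theorem sl2_sq_eq_one (h2 : (2 : F) ≠ 0) {t : Matrix.SpecialLinearGroup (Fin 2) F} (ht : t * t = 1) :
    (t : Matrix (Fin 2) (Fin 2) F) = 1 ∨ (t : Matrix (Fin 2) (Fin 2) F) = -1 := by
  have h1 : t = t⁻¹ := eq_inv_of_mul_eq_one_left ht
  have h3 : (t : Matrix (Fin 2) (Fin 2) F) = ((t⁻¹ : Matrix.SpecialLinearGroup (Fin 2) F) : Matrix (Fin 2) (Fin 2) F) := by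
    rw [← h1]
  rw [sl2_inv_apply] at h3
  have e01 := congrFun (congrFun h3 0) 1
  have e10 := congrFun (congrFun h3 1) 0
  have e00 := congrFun (congrFun h3 0) 0
  simp at e00 e01 e10
  have hdet := sl2_det_entries t
  have z01 : (t : Matrix (Fin 2) (Fin 2) F) 0 1 = 0 := by
    have : 2 * (t : Matrix (Fin 2) (Fin 2) F) 0 1 = 0 := by linear_combination e01
    exact (mul_eq_zero.mp this).resolve_left h2
  have z10 : (t : Matrix (Fin 2) (Fin 2) F) 1 0 = 0 := by
    have : 2 * (t : Matrix (Fin 2) (Fin 2) F) 1 0 = 0 := by linear_combination e10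
    exact (mul_eq_zero.mp this).resolve_left h2
  rw [z01, ← e00] at hdet
  have h4 : ((t : Matrix (Fin 2) (Fin 2) F) 0 0 - 1) * ((t : Matrix (Fin 2) (Fin 2) F) 0 0 + 1) = 0 := by
    linear_combination hdet
  rcases mul_eq_zero.mp h4 with h | h
  · left
    have h00 : (t : Matrix (Fin 2) (Fin 2) F) 0 0 = 1 := by linear_combination h
    ext i j
    fin_cases i <;> fin_cases j <;> simp [z01, z10, h00, ← e00]
  · right
    have h00 : (t : Matrix (Fin 2) (Fin 2) F) 0 0 = -1 := by linear_combination h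
    ext i j
    fin_cases i <;> fin_cases j <;> simp [z01, z10, h00, ← e00]


theorem sl2_exists_inverting [Fintype F] (hodd : Odd (Fintype.card F)) (g₀ : Matrix.SpecialLinearGroup (Fin 2) F)
    (hD : (g₀ : Matrix (Fin 2) (Fin 2) F).trace ^ 2 ≠ 4) :
    ∃ w : Matrix.SpecialLinearGroup (Fin 2) F, w * g₀ * w⁻¹ = g₀⁻¹ := by
  have ht : (g₀ : Matrix (Fin 2) (Fin 2) F).trace = ((g₀⁻¹ : Matrix.SpecialLinearGroup (Fin 2) F) : Matrix (Fin 2) (Fin 2) F).trace := by
    rw [sl2_inv_apply, Matrix.trace_fin_two, Matrix.trace_fin_two]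
    simp [add_comm]
  obtain ⟨c, hc⟩ := isConj_iff.mp (sl2_isConj_of_disc_ne (Nat.odd_iff.mp hodd) ht hD)
  exact ⟨c, hc⟩

theorem sl2_torus_normalizer_facts [Fintype F] (hodd : Odd (Fintype.card F)) (g₀ : Matrix.SpecialLinearGroup (Fin 2) F)
    (hD : (g₀ : Matrix (Fin 2) (Fin 2) F).trace ^ 2 ≠ 4) :
    Nat.card (Subgroup.normalizer ((Subgroup.centralizer ({g₀} : Set (Matrix.SpecialLinearGroup (Fin 2) F))) : Set (Matrix.SpecialLinearGroup (Fin 2) F)))
      = 2 * Nat.card (Subgroup.centralizer ({g₀} : Set (Matrix.SpecialLinearGroup (Fin 2) F))) ∧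
    2 * Nat.card (ConjClasses (Subgroup.normalizer ((Subgroup.centralizer ({g₀} : Set (Matrix.SpecialLinearGroup (Fin 2) F))) : Set (Matrix.SpecialLinearGroup (Fin 2) F))))
      = Nat.card (Subgroup.centralizer ({g₀} : Set (Matrix.SpecialLinearGroup (Fin 2) F))) + 6 ∧
    ∀ g : Matrix.SpecialLinearGroup (Fin 2) F,
      g ∈ Subgroup.normalizer ((Subgroup.centralizer ({g₀} : Set (Matrix.SpecialLinearGroup (Fin 2) F))) : Set (Matrix.SpecialLinearGroup (Fin 2) F)) →
      g ∉ Subgroup.centralizer ({g₀} : Set (Matrix.SpecialLinearGroup (Fin 2) F)) →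
      ((g * g : Matrix.SpecialLinearGroup (Fin 2) F) : Matrix (Fin 2) (Fin 2) F) = -1 := by
  classical
  have h2 : (2 : F) ≠ 0 := two_ne_zero_of_odd_card hodd
  have hg := sl2_not_isScalar2_of_disc g₀ hD
  obtain ⟨C, hC⟩ : ∃ C : Subgroup (Matrix.SpecialLinearGroup (Fin 2) F),
      C = Subgroup.centralizer ({g₀} : Set (Matrix.SpecialLinearGroup (Fin 2) F)) := ⟨_, rfl⟩
  rw [← hC]
  obtain ⟨N, hN⟩ : ∃ N : Subgroup (Matrix.SpecialLinearGroup (Fin 2) F),
      N = Subgroup.normalizer (C : Set (Matrix.SpecialLinearGroup (Fin 2) F)) := ⟨_, rfl⟩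
  rw [← hN]
  have hCN : C ≤ N := by rw [hN]; exact Subgroup.le_normalizer
  have hcases : ∀ n ∈ N, n ∈ C ∨ n * g₀ * n⁻¹ = g₀⁻¹ := by
    intro n hn
    rw [hN, hC] at hn
    rw [hC]
    exact sl2_normalizer_cases h2 hD hn
  obtain ⟨w, hw⟩ := sl2_exists_inverting hodd g₀ hD
  have hwN : w ∈ N := by rw [hN, hC]; exact sl2_inverting_mem_normalizer hg hw
  have hinvC : ∀ n : Matrix.SpecialLinearGroup (Fin 2) F, n * g₀ * n⁻¹ = g₀⁻¹ → n ∉ C := by
    intro n hn hnC
    rw [hC, sl2_mem_centralizer_singleton] at hnC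
    have h1 : n * g₀ * n⁻¹ = g₀ := by rw [← hnC, mul_inv_cancel_right]
    rw [h1] at hn
    have h3 : g₀ * g₀ = 1 := by
      calc g₀ * g₀ = g₀ * g₀⁻¹ := by rw [← hn]
        _ = 1 := mul_inv_cancel g₀
    apply hg
    rcases sl2_sq_eq_one h2 h3 with h | h <;> rw [h]
    · exact ⟨by simp, by simp, by simp⟩
    · exact ⟨by simp, by simp, by simp⟩
  have hlast : ∀ g : Matrix.SpecialLinearGroup (Fin 2) F, g ∈ N → g ∉ C →
      ((g * g : Matrix.SpecialLinearGroup (Fin 2) F) : Matrix (Fin 2) (Fin 2) F) = -1 := by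
    intro g hgN hgC
    exact sl2_inverting_sq hg ((hcases g hgN).resolve_left hgC)
  -- index two
  have hidx : (C.subgroupOf N).index = 2 := by
    rw [Subgroup.index_eq_two_iff]
    refine ⟨⟨w, hwN⟩, fun b => ?_⟩
    by_cases hb : (b : Matrix.SpecialLinearGroup (Fin 2) F) ∈ C
    · right
      refine ⟨Subgroup.mem_subgroupOf.mpr hb, ?_⟩
      intro hbw
      have hbw' : (b : Matrix.SpecialLinearGroup (Fin 2) F) * w ∈ C := Subgroup.mem_subgroupOf.mp hbw
      have : w ∈ C := by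
        have := C.mul_mem (C.inv_mem hb) hbw'
        rwa [inv_mul_cancel_left] at this
      exact hinvC w hw this
    · left
      have hb' := (hcases b b.2).resolve_left hb
      refine ⟨?_, fun h => hb (Subgroup.mem_subgroupOf.mp h)⟩
      rw [Subgroup.mem_subgroupOf]
      show (b : Matrix.SpecialLinearGroup (Fin 2) F) * w ∈ C
      rw [hC, sl2_mem_centralizer_singleton]
      have e : (b : Matrix.SpecialLinearGroup (Fin 2) F) * w * g₀ * ((b : Matrix.SpecialLinearGroup (Fin 2) F) * w)⁻¹ = g₀ := by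
        calc (b : Matrix.SpecialLinearGroup (Fin 2) F) * w * g₀ * ((b : Matrix.SpecialLinearGroup (Fin 2) F) * w)⁻¹
            = (b : Matrix.SpecialLinearGroup (Fin 2) F) * (w * g₀ * w⁻¹) * (b : Matrix.SpecialLinearGroup (Fin 2) F)⁻¹ := by group
          _ = ((b : Matrix.SpecialLinearGroup (Fin 2) F) * g₀ * (b : Matrix.SpecialLinearGroup (Fin 2) F)⁻¹)⁻¹ := by rw [hw]; group
          _ = g₀ := by rw [hb', inv_inv]
      have := mul_inv_eq_iff_eq_mul.mp e
      exact this.symm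
  have hcardT : Nat.card (C.subgroupOf N) = Nat.card C :=
    Nat.card_congr (Subgroup.subgroupOfEquivOfLe hCN).toEquiv
  have hcardN : Nat.card N = 2 * Nat.card C := by
    rw [← (C.subgroupOf N).index_mul_card, hidx, hcardT]
  refine ⟨hcardN, ?_, hlast⟩
  -- the class number
  have hk : Nat.card {t : N // t ∈ C.subgroupOf N ∧ t * t = 1} = 2 := by
    have hz : sl2UT (-1 : Fˣ) 0 ∈ C := by
      rw [hC, sl2_mem_centralizer_singleton]
      exact sl2UT_central (-1) (by simp) g₀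
    have hzz : sl2UT (-1 : Fˣ) (0 : F) * sl2UT (-1 : Fˣ) 0 = 1 := by
      apply Subtype.ext
      rw [Matrix.SpecialLinearGroup.coe_mul]
      simp only [sl2UT]
      ext i j
      fin_cases i <;> fin_cases j <;> simp [Matrix.mul_apply, Fin.sum_univ_two]
    rw [Nat.card_eq_two_iff]
    refine ⟨⟨1, (C.subgroupOf N).one_mem, mul_one 1⟩,
      ⟨⟨sl2UT (-1 : Fˣ) 0, hCN hz⟩, Subgroup.mem_subgroupOf.mpr hz, Subtype.ext hzz⟩, ?_, ?_⟩
    · intro h
      have h' := congrArg (fun t : {t : N // t ∈ C.subgroupOf N ∧ t * t = 1} =>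
        (((t : N) : Matrix.SpecialLinearGroup (Fin 2) F) : Matrix (Fin 2) (Fin 2) F) 0 0) h
      simp [sl2UT] at h'
      apply h2
      linear_combination h'
    · ext ⟨t, htT, htt⟩
      simp only [Set.mem_insert_iff, Set.mem_singleton_iff, Set.mem_univ, iff_true]
      have htt' : (t : Matrix.SpecialLinearGroup (Fin 2) F) * (t : Matrix.SpecialLinearGroup (Fin 2) F) = 1 := by
        have := congrArg (fun t : N => (t : Matrix.SpecialLinearGroup (Fin 2) F)) htt
        simpa using this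
      rcases sl2_sq_eq_one h2 htt' with h | h
      · left
        apply Subtype.ext
        apply Subtype.ext
        apply Subtype.ext
        rw [h]; rfl
      · right
        apply Subtype.ext
        apply Subtype.ext
        apply Subtype.ext
        rw [h]
        simp only [sl2UT]
        ext i j
        fin_cases i <;> fin_cases j <;> simp
  have hcomm : ∀ s ∈ C.subgroupOf N, ∀ t ∈ C.subgroupOf N, s * t = t * s := by
    intro s hs t ht
    apply Subtype.ext
    have hs' : (s : Matrix.SpecialLinearGroup (Fin 2) F) ∈ C := Subgroup.mem_subgroupOf.mp hs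
    have ht' : (t : Matrix.SpecialLinearGroup (Fin 2) F) ∈ C := Subgroup.mem_subgroupOf.mp ht
    rw [hC] at hs' ht'
    exact sl2_centralizer_comm hg hs' ht'
  have hinv : ∀ g : N, g ∉ C.subgroupOf N → ∀ t ∈ C.subgroupOf N, g * t * g⁻¹ = t⁻¹ := by
    intro g hgT t ht
    apply Subtype.ext
    have hgC : (g : Matrix.SpecialLinearGroup (Fin 2) F) ∉ C := fun h => hgT (Subgroup.mem_subgroupOf.mpr h)
    have ht' : (t : Matrix.SpecialLinearGroup (Fin 2) F) ∈ C := Subgroup.mem_subgroupOf.mp ht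
    rw [hC] at ht'
    exact sl2_conj_inverts hg ((hcases g g.2).resolve_left hgC) ht'
  have := card_conjClasses_dicyclic (C.subgroupOf N) hidx hcomm hinv 2 hk
  rw [this, hcardT]


theorem sl2_diag_centralizer_iff (a : Fˣ) (ha : (a : F) ^ 2 ≠ 1) (g : Matrix.SpecialLinearGroup (Fin 2) F) :
    g ∈ Subgroup.centralizer ({sl2UT a 0} : Set (Matrix.SpecialLinearGroup (Fin 2) F)) ↔
      ((g : Matrix (Fin 2) (Fin 2) F) 0 1 = 0 ∧ (g : Matrix (Fin 2) (Fin 2) F) 1 0 = 0) := by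
  have hne := units_inv_sub_ne_zero a ha
  rw [sl2_mem_centralizer_singleton]
  constructor
  · intro h
    have h' := congrArg (fun m : Matrix.SpecialLinearGroup (Fin 2) F => (m : Matrix (Fin 2) (Fin 2) F)) h
    simp only [Matrix.SpecialLinearGroup.coe_mul] at h'
    have e01 := congrFun (congrFun h' 0) 1
    have e10 := congrFun (congrFun h' 1) 0
    simp [sl2UT, Matrix.mul_apply, Fin.sum_univ_two] at e01 e10
    constructor
    · have : (((a⁻¹ : Fˣ) : F) - (a : F)) * (g : Matrix (Fin 2) (Fin 2) F) 0 1 = 0 := by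
        rw [Units.val_inv_eq_inv_val]; linear_combination -e01
      exact (mul_eq_zero.mp this).resolve_left hne
    · have : (((a⁻¹ : Fˣ) : F) - (a : F)) * (g : Matrix (Fin 2) (Fin 2) F) 1 0 = 0 := by
        rw [Units.val_inv_eq_inv_val]; linear_combination e10
      exact (mul_eq_zero.mp this).resolve_left hne
  · rintro ⟨h01, h10⟩
    obtain ⟨b, rfl, _⟩ := sl2_diag_eq_sl2UT g h01 h10
    rw [sl2UT_commute_iff]
    ring

theorem sl2UT_trace_sq_ne (a : Fˣ) (ha : (a : F) ^ 2 ≠ 1) (b : F) :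
    ((sl2UT a b : Matrix.SpecialLinearGroup (Fin 2) F) : Matrix (Fin 2) (Fin 2) F).trace ^ 2 ≠ 4 := by
  have hne := units_inv_sub_ne_zero a ha
  have haa : (a : F) * ((a⁻¹ : Fˣ) : F) = 1 := by rw [← Units.val_mul, mul_inv_cancel, Units.val_one]
  rw [Matrix.trace_fin_two]
  simp only [sl2UT]
  simp only [Matrix.of_apply, Matrix.cons_val', Matrix.cons_val_zero, Matrix.cons_val_one,
    Matrix.cons_val_fin_one]
  intro h
  have : (((a⁻¹ : Fˣ) : F) - (a : F)) ^ 2 = 0 := by linear_combination h - 4 * haa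
  exact hne (by simpa using this)

theorem card_sl2_diag_centralizer [Fintype F] (a : Fˣ) (ha : (a : F) ^ 2 ≠ 1) :
    Nat.card (Subgroup.centralizer ({sl2UT a 0} : Set (Matrix.SpecialLinearGroup (Fin 2) F))) = Fintype.card F - 1 := by
  classical
  rw [← Fintype.card_units, ← Nat.card_eq_fintype_card]
  symm
  apply Nat.card_congr
  refine Equiv.ofBijective (fun t : Fˣ => ⟨sl2UT t 0, (sl2_diag_centralizer_iff a ha _).mpr (by simp [sl2UT])⟩) ⟨?_, ?_⟩
  · intro s t h
    have h' := congrArg Subtype.val h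
    exact (Prod.ext_iff.mp (sl2UT_injective (a₁ := (s, (0 : F))) (a₂ := (t, (0 : F))) h')).1
  · rintro ⟨g, hg⟩
    obtain ⟨h01, h10⟩ := (sl2_diag_centralizer_iff a ha g).mp hg
    obtain ⟨b, rfl, _⟩ := sl2_diag_eq_sl2UT g h01 h10
    exact ⟨b, rfl⟩

/-- S2428 -/
theorem sl2_split_torus_normalizer [Fintype F] (hodd : Odd (Fintype.card F))
    (d : Matrix.SpecialLinearGroup (Fin 2) F) (hd01 : (d : Matrix (Fin 2) (Fin 2) F) 0 1 = 0) (hd10 : (d : Matrix (Fin 2) (Fin 2) F) 1 0 = 0) (hda : (d : Matrix (Fin 2) (Fin 2) F) 0 0 ^ 2 ≠ 1) :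
    (∀ g : Matrix.SpecialLinearGroup (Fin 2) F, g ∈ Subgroup.centralizer ({d} : Set (Matrix.SpecialLinearGroup (Fin 2) F)) ↔ ((g : Matrix (Fin 2) (Fin 2) F) 0 1 = 0 ∧ (g : Matrix (Fin 2) (Fin 2) F) 1 0 = 0)) ∧
    Nat.card (Subgroup.normalizer ((Subgroup.centralizer ({d} : Set (Matrix.SpecialLinearGroup (Fin 2) F))) : Set (Matrix.SpecialLinearGroup (Fin 2) F))) = 2 * (Fintype.card F - 1) ∧
    Nat.card (ConjClasses (Subgroup.normalizer ((Subgroup.centralizer ({d} : Set (Matrix.SpecialLinearGroup (Fin 2) F))) : Set (Matrix.SpecialLinearGroup (Fin 2) F)))) = (Fintype.card F + 5) / 2 ∧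
    ∀ g : Matrix.SpecialLinearGroup (Fin 2) F, g ∈ Subgroup.normalizer ((Subgroup.centralizer ({d} : Set (Matrix.SpecialLinearGroup (Fin 2) F))) : Set (Matrix.SpecialLinearGroup (Fin 2) F)) →
      g ∉ Subgroup.centralizer ({d} : Set (Matrix.SpecialLinearGroup (Fin 2) F)) → ((g * g) : Matrix (Fin 2) (Fin 2) F) = -1 := by
  obtain ⟨a, rfl, haa⟩ := sl2_diag_eq_sl2UT d hd01 hd10
  rw [← haa] at hda
  obtain ⟨h1, h2, h3⟩ := sl2_torus_normalizer_facts hodd (sl2UT a 0) (sl2UT_trace_sq_ne a hda 0)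
  rw [card_sl2_diag_centralizer a hda] at h1 h2
  refine ⟨sl2_diag_centralizer_iff a hda, h1, ?_, ?_⟩
  · have hq : 1 ≤ Fintype.card F := Fintype.card_pos
    omega
  · intro g hg hgC
    rw [← Matrix.SpecialLinearGroup.coe_mul]
    exact h3 g hg hgC


end Cfsg.Agent.helper12
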