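import Cfsg.Agent.Lib_helper12_Sl2Torus
import Cfsg.Agent.Lib_helper11_Torus
import Cfsg.Agent.Lib_helper12_Sl2Unip

set_option autoImplicit false

namespace Cfsg.Agent.helper12

open Matrix Cfsg

variable {F : Type*} [Field F]

/-- an element with an eigenvector and order prime to the characteristic... here: order q+1 forces no eigenvector -/
theorem sl2_noEigen_of_orderOf [Fintype F] (g₀ : Matrix.SpecialLinearGroup (Fin 2) F)
    (hord : orderOf g₀ = Fintype.card F + 1) : NoEigen2 (g₀ : Matrix (Fin 2) (Fin 2) F) := by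
  intro c v hv hcv
  obtain ⟨p, hp⟩ := CharP.exists F
  have hpp : Fact p.Prime := ⟨CharP.char_is_prime F p⟩
  have hq1 : 1 < Fintype.card F := Fintype.one_lt_card
  -- powers
  have hpow : ∀ k : ℕ, ((g₀ ^ k : Matrix.SpecialLinearGroup (Fin 2) F) : Matrix (Fin 2) (Fin 2) F).mulVec v = c ^ k • v := by
    intro k
    induction k with
    | zero => simp
    | succ k ih =>
      rw [pow_succ, Matrix.SpecialLinearGroup.coe_mul, ← Matrix.mulVec_mulVec, hcv, Matrix.mulVec_smul, ih, smul_smul,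
        pow_succ, mul_comm]
  have hc0 : c ≠ 0 := by
    rintro rfl
    rw [zero_smul] at hcv
    have hdet : (g₀ : Matrix (Fin 2) (Fin 2) F).det = 0 := Matrix.exists_mulVec_eq_zero_iff.mp ⟨v, hv, hcv⟩
    rw [g₀.2] at hdet
    exact one_ne_zero hdet
  have hsmul : ∀ a : F, a • v = v → a = 1 := by
    intro a ha
    by_contra hne
    apply hv
    have : (a - 1) • v = 0 := by rw [sub_smul, ha, one_smul, sub_self]
    exact (smul_eq_zero.mp this).resolve_left (sub_ne_zero.mpr hne)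
  have h1 : c ^ (Fintype.card F + 1) = 1 := by
    apply hsmul
    rw [← hpow, ← hord, pow_orderOf_eq_one]
    simp
  have h2 : c ^ (Fintype.card F - 1) = 1 := FiniteField.pow_card_sub_one_eq_one c hc0
  have hc2 : c ^ 2 = 1 := by
    have e : Fintype.card F + 1 = (Fintype.card F - 1) + 2 := by omega
    rw [e, pow_add, h2, one_mul] at h1
    exact h1
  -- M = g₀²
  have hMv : ((g₀ ^ 2 : Matrix.SpecialLinearGroup (Fin 2) F) : Matrix (Fin 2) (Fin 2) F).mulVec v = v := by
    rw [hpow, hc2, one_smul]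
  have hMtr : ((g₀ ^ 2 : Matrix.SpecialLinearGroup (Fin 2) F) : Matrix (Fin 2) (Fin 2) F).trace = 2 := by
    have hdet0 : (((g₀ ^ 2 : Matrix.SpecialLinearGroup (Fin 2) F) : Matrix (Fin 2) (Fin 2) F) - 1).det = 0 := by
      apply Matrix.exists_mulVec_eq_zero_iff.mp
      refine ⟨v, hv, ?_⟩
      rw [Matrix.sub_mulVec, hMv, Matrix.one_mulVec, sub_self]
    have hd1 := (g₀ ^ 2).2
    rw [Matrix.det_fin_two] at hdet0 hd1
    rw [Matrix.trace_fin_two]
    simp only [Matrix.sub_apply, Matrix.one_apply] at hdet0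
    simp at hdet0
    linear_combination hd1 - hdet0
  have hnil := sq_sub_one_eq_zero_of_trace_two hMtr (g₀ ^ 2).2
  have hp2 : 2 ≤ p := hpp.out.two_le
  have hMp : ((g₀ ^ 2 : Matrix.SpecialLinearGroup (Fin 2) F) : Matrix (Fin 2) (Fin 2) F) ^ p = 1 := by
    have e1 : (((g₀ ^ 2 : Matrix.SpecialLinearGroup (Fin 2) F) : Matrix (Fin 2) (Fin 2) F) - 1) ^ p = 0 := by
      obtain ⟨j, rfl⟩ : ∃ j, p = 2 + j := ⟨p - 2, by omega⟩
      rw [pow_add, sq, hnil, zero_mul]
    have : CharP (Matrix (Fin 2) (Fin 2) F) p := Matrix.charP p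
    rw [sub_pow_char_of_commute p (Commute.one_right _), one_pow] at e1
    exact sub_eq_zero.mp e1
  have hg2p : g₀ ^ (2 * p) = 1 := by
    apply Subtype.ext
    rw [pow_mul, Matrix.SpecialLinearGroup.coe_pow, hMp]
    rfl
  have hdvd : (Fintype.card F + 1) ∣ 2 * p := by rw [← hord]; exact orderOf_dvd_of_pow_eq_one hg2p
  have hpq : p ∣ Fintype.card F := by
    obtain ⟨n, _, hn⟩ := FiniteField.card F p
    rw [hn]
    exact dvd_pow_self p n.ne_zero
  have hcop : (Fintype.card F + 1).Coprime p := by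
    rw [Nat.coprime_comm, Nat.Prime.coprime_iff_not_dvd hpp.out]
    intro h
    have := (Nat.dvd_add_right hpq).mp h
    exact hpp.out.one_lt.ne' (Nat.dvd_one.mp this)
  have := Nat.le_of_dvd (by norm_num) (hcop.dvd_of_dvd_mul_right hdvd)
  omega


theorem noEigen2_trace_sq_ne [Fintype F] (hodd : Odd (Fintype.card F)) (g : Matrix.SpecialLinearGroup (Fin 2) F)
    (hg : NoEigen2 (g : Matrix (Fin 2) (Fin 2) F)) : (g : Matrix (Fin 2) (Fin 2) F).trace ^ 2 ≠ 4 := by
  have := sl2_noEigenvector_disc hodd g hg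
  rw [Matrix.trace_fin_two]
  intro h
  exact this (sub_eq_zero.mpr h)

/-- the centralizer in SL2 of an element without eigenvectors has order q + 1 -/
theorem card_sl2_centralizer_noEigen [Fintype F] (hodd : Odd (Fintype.card F)) (g₀ : Matrix.SpecialLinearGroup (Fin 2) F)
    (hg : NoEigen2 (g₀ : Matrix (Fin 2) (Fin 2) F)) :
    Nat.card (Subgroup.centralizer ({g₀} : Set (Matrix.SpecialLinearGroup (Fin 2) F))) = Fintype.card F + 1 := by
  classical
  have hD := sl2_noEigenvector_disc hodd g₀ hg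
  have hgl : NoEigen2 ((Matrix.SpecialLinearGroup.toGL g₀ : GL (Fin 2) F) : Matrix (Fin 2) (Fin 2) F) := by
    rw [toGL_coe']; exact hg
  have hcardGL := card_centralizer_gl2_noEigen (Matrix.SpecialLinearGroup.toGL g₀) hgl
  obtain ⟨CG, hCG⟩ : ∃ CG : Subgroup (GL (Fin 2) F), CG = Subgroup.centralizer ({Matrix.SpecialLinearGroup.toGL g₀} : Set (GL (Fin 2) F)) := ⟨_, rfl⟩
  rw [← hCG] at hcardGL
  have hmemCG : ∀ c : GL (Fin 2) F, c ∈ CG ↔ Matrix.SpecialLinearGroup.toGL g₀ * c = c * Matrix.SpecialLinearGroup.toGL g₀ := by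
    intro c
    rw [hCG, Subgroup.mem_centralizer_iff]
    constructor
    · intro h; exact h _ (Set.mem_singleton _)
    · intro h y hy; rw [Set.mem_singleton_iff.mp hy]; exact h
  let f : CG →* Fˣ := (Matrix.GeneralLinearGroup.det).comp CG.subtype
  have hsurj : Function.Surjective f := by
    intro δ
    obtain ⟨c, hc, hdet⟩ := sl2_disc_centralizer_det hodd g₀ hD δ
    exact ⟨⟨c, (hmemCG c).mpr hc.symm⟩, hdet⟩
  have h1 : Nat.card f.ker * Nat.card Fˣ = Nat.card CG := by
    rw [← Subgroup.card_mul_index f.ker, Subgroup.index_ker, MonoidHom.range_eq_top.mpr hsurj, Subgroup.card_top]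
  have h2 : Nat.card f.ker = Nat.card (Subgroup.centralizer ({g₀} : Set (Matrix.SpecialLinearGroup (Fin 2) F))) := by
    symm
    apply Nat.card_congr
    refine Equiv.ofBijective (fun x => ⟨⟨Matrix.SpecialLinearGroup.toGL x.1, ?_⟩, ?_⟩) ⟨?_, ?_⟩
    · rw [hmemCG, ← map_mul, ← map_mul, sl2_mem_centralizer_singleton.mp x.2]
    · rw [MonoidHom.mem_ker]
      show Matrix.GeneralLinearGroup.det (Matrix.SpecialLinearGroup.toGL x.1) = 1
      apply Units.ext
      rw [Matrix.GeneralLinearGroup.val_det_apply, toGL_coe', Units.val_one]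
      exact x.1.2
    · intro x y h
      have h' := congrArg (fun t : f.ker => ((t : CG) : GL (Fin 2) F)) h
      simp only at h'
      exact Subtype.ext (Matrix.SpecialLinearGroup.toGL_injective h')
    · rintro ⟨⟨c, hc⟩, hker⟩
      have hdet : (c : Matrix (Fin 2) (Fin 2) F).det = 1 := by
        have := MonoidHom.mem_ker.mp hker
        have h' := congrArg Units.val this
        simpa [f, Matrix.GeneralLinearGroup.val_det_apply] using h'
      let s : Matrix.SpecialLinearGroup (Fin 2) F := ⟨(c : Matrix (Fin 2) (Fin 2) F), hdet⟩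
      have hs : Matrix.SpecialLinearGroup.toGL s = c := Units.ext rfl
      have hsC : s ∈ Subgroup.centralizer ({g₀} : Set (Matrix.SpecialLinearGroup (Fin 2) F)) := by
        rw [sl2_mem_centralizer_singleton]
        apply Matrix.SpecialLinearGroup.toGL_injective
        rw [map_mul, map_mul, hs]
        exact (hmemCG c).mp hc
      refine ⟨⟨s, hsC⟩, ?_⟩
      apply Subtype.ext
      apply Subtype.ext
      exact hs
  rw [h2, hcardGL, Nat.card_eq_fintype_card (α := Fˣ), Fintype.card_units] at h1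
  have hq1 : 1 < Fintype.card F := Fintype.one_lt_card
  have e : Fintype.card F ^ 2 - 1 = (Fintype.card F + 1) * (Fintype.card F - 1) := by
    obtain ⟨m, hm⟩ : ∃ m, Fintype.card F = m + 1 := ⟨Fintype.card F - 1, by omega⟩
    rw [hm]
    have : (m + 1) ^ 2 - 1 = (m + 1 + 1) * m := by
      have : (m + 1) ^ 2 = (m + 1 + 1) * m + 1 := by ring
      omega
    rw [this]; simp
  rw [e] at h1
  exact Nat.eq_of_mul_eq_mul_right (by omega) h1


theorem noEigen2_disc_not_isSquare (h2 : (2 : F) ≠ 0) (g : Matrix.SpecialLinearGroup (Fin 2) F)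
    (hg : NoEigen2 (g : Matrix (Fin 2) (Fin 2) F)) : ¬ IsSquare ((g : Matrix (Fin 2) (Fin 2) F).trace ^ 2 - 4) := by
  rintro ⟨s, hs⟩
  have hdet := sl2_det_entries g
  rw [Matrix.trace_fin_two] at hs
  obtain ⟨c, hc⟩ : ∃ c : F, 2 * c = (g : Matrix (Fin 2) (Fin 2) F) 0 0 + (g : Matrix (Fin 2) (Fin 2) F) 1 1 + s :=
    ⟨((g : Matrix (Fin 2) (Fin 2) F) 0 0 + (g : Matrix (Fin 2) (Fin 2) F) 1 1 + s) / 2, by field_simp⟩
  have hd0 : ((g : Matrix (Fin 2) (Fin 2) F) - c • (1 : Matrix (Fin 2) (Fin 2) F)).det = 0 := by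
    rw [Matrix.det_fin_two]
    simp only [Matrix.sub_apply, Matrix.smul_apply, Matrix.one_apply, smul_eq_mul]
    simp
    have h4 : (4 : F) ≠ 0 := by
      have : (4 : F) = 2 * 2 := by norm_num
      rw [this]; exact mul_ne_zero h2 h2
    apply mul_left_cancel₀ h4
    linear_combination (2 * c - (g : Matrix (Fin 2) (Fin 2) F) 0 0 - (g : Matrix (Fin 2) (Fin 2) F) 1 1 + s) * hc + 4 * hdet - hs
  obtain ⟨v, hv, hv0⟩ := Matrix.exists_mulVec_eq_zero_iff.mpr hd0
  apply hg c v hv
  rw [Matrix.sub_mulVec, Matrix.smul_mulVec, Matrix.one_mulVec] at hv0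
  exact sub_eq_zero.mp hv0

theorem sl2_isScalar2_cases (g : Matrix.SpecialLinearGroup (Fin 2) F) (hs : IsScalar2 (g : Matrix (Fin 2) (Fin 2) F)) :
    (g : Matrix (Fin 2) (Fin 2) F) = 1 ∨ (g : Matrix (Fin 2) (Fin 2) F) = -1 := by
  obtain ⟨h01, h10, h00⟩ := hs
  have hdet := sl2_det_entries g
  rw [h01, ← h00] at hdet
  have h4 : ((g : Matrix (Fin 2) (Fin 2) F) 0 0 - 1) * ((g : Matrix (Fin 2) (Fin 2) F) 0 0 + 1) = 0 := by
    linear_combination hdet
  rcases mul_eq_zero.mp h4 with h | h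
  · left
    have e : (g : Matrix (Fin 2) (Fin 2) F) 0 0 = 1 := by linear_combination h
    ext i j
    fin_cases i <;> fin_cases j <;> simp [h01, h10, e, ← h00]
  · right
    have e : (g : Matrix (Fin 2) (Fin 2) F) 0 0 = -1 := by linear_combination h
    ext i j
    fin_cases i <;> fin_cases j <;> simp [h01, h10, e, ← h00]

theorem sl2_centralizer_eq_of_mem {g₀ g : Matrix.SpecialLinearGroup (Fin 2) F}
    (hg0 : ¬ IsScalar2 (g₀ : Matrix (Fin 2) (Fin 2) F))
    (hg : g ∈ Subgroup.centralizer ({g₀} : Set (Matrix.SpecialLinearGroup (Fin 2) F)))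
    (hgs : ¬ IsScalar2 (g : Matrix (Fin 2) (Fin 2) F)) :
    Subgroup.centralizer ({g} : Set (Matrix.SpecialLinearGroup (Fin 2) F)) =
      Subgroup.centralizer ({g₀} : Set (Matrix.SpecialLinearGroup (Fin 2) F)) := by
  obtain ⟨α, β, hform⟩ := sl2_centralizer_form hg0 hg
  have hβ : β ≠ 0 := by
    rintro rfl
    apply hgs
    rw [hform]
    refine ⟨by simp, by simp, by simp⟩
  ext x
  rw [sl2_mem_centralizer_singleton, sl2_mem_centralizer_singleton]
  constructor
  · intro h
    have h' := congrArg (fun m : Matrix.SpecialLinearGroup (Fin 2) F => (m : Matrix (Fin 2) (Fin 2) F)) h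
    simp only [Matrix.SpecialLinearGroup.coe_mul] at h'
    rw [hform] at h'
    simp only [add_mul, mul_add, Matrix.smul_mul, Matrix.mul_smul, Matrix.one_mul, Matrix.mul_one] at h'
    have h'' : β • ((g₀ : Matrix (Fin 2) (Fin 2) F) * (x : Matrix (Fin 2) (Fin 2) F)) =
        β • ((x : Matrix (Fin 2) (Fin 2) F) * (g₀ : Matrix (Fin 2) (Fin 2) F)) := add_left_cancel h'
    apply Subtype.ext
    rw [Matrix.SpecialLinearGroup.coe_mul, Matrix.SpecialLinearGroup.coe_mul]
    exact smul_right_injective _ hβ h''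
  · intro h
    have hx : x ∈ Subgroup.centralizer ({g₀} : Set (Matrix.SpecialLinearGroup (Fin 2) F)) :=
      sl2_mem_centralizer_singleton.mpr h
    exact sl2_centralizer_comm hg0 hg hx


/-- conjugating an element without eigenvectors into a given nonsplit torus -/
theorem sl2_noEigen_conj_into [Fintype F] (hodd : Odd (Fintype.card F)) (g₀ g : Matrix.SpecialLinearGroup (Fin 2) F)
    (hg₀ : NoEigen2 (g₀ : Matrix (Fin 2) (Fin 2) F)) (hg : NoEigen2 (g : Matrix (Fin 2) (Fin 2) F)) :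
    ∃ h : Matrix.SpecialLinearGroup (Fin 2) F,
      h * g * h⁻¹ ∈ Subgroup.centralizer ({g₀} : Set (Matrix.SpecialLinearGroup (Fin 2) F)) := by
  classical
  have h2 : (2 : F) ≠ 0 := two_ne_zero_of_odd_card hodd
  have hns₀ := noEigen2_disc_not_isSquare h2 g₀ hg₀
  have hns := noEigen2_disc_not_isSquare h2 g hg
  obtain ⟨r, hr⟩ := nonsquare_mul_nonsquare hns₀ hns
  set τ₀ := (g₀ : Matrix (Fin 2) (Fin 2) F).trace with hτ₀
  set τ := (g : Matrix (Fin 2) (Fin 2) F).trace with hτ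
  obtain ⟨α, hα⟩ : ∃ α : F, 2 * α = τ - r * τ₀ := ⟨(τ - r * τ₀) / 2, by field_simp⟩
  have hdet : (α • (1 : Matrix (Fin 2) (Fin 2) F) + (r : F) • (g₀ : Matrix (Fin 2) (Fin 2) F)).det = 1 := by
    rw [sl2_det_form, ← hτ₀]
    have h4 : (4 : F) ≠ 0 := by
      have : (4 : F) = 2 * 2 := by norm_num
      rw [this]; exact mul_ne_zero h2 h2
    apply mul_left_cancel₀ h4
    linear_combination (2 * α + τ - r * τ₀ + 2 * r * τ₀) * hα + hr
  let t : Matrix.SpecialLinearGroup (Fin 2) F := ⟨_, hdet⟩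
  have htC : t ∈ Subgroup.centralizer ({g₀} : Set (Matrix.SpecialLinearGroup (Fin 2) F)) := by
    rw [sl2_mem_centralizer_singleton]
    apply Subtype.ext
    rw [Matrix.SpecialLinearGroup.coe_mul, Matrix.SpecialLinearGroup.coe_mul]
    show (g₀ : Matrix (Fin 2) (Fin 2) F) * (α • (1 : Matrix (Fin 2) (Fin 2) F) + (r : F) • (g₀ : Matrix (Fin 2) (Fin 2) F)) =
      (α • (1 : Matrix (Fin 2) (Fin 2) F) + (r : F) • (g₀ : Matrix (Fin 2) (Fin 2) F)) * (g₀ : Matrix (Fin 2) (Fin 2) F)
    simp only [add_mul, mul_add, Matrix.smul_mul, Matrix.mul_smul, Matrix.one_mul, Matrix.mul_one]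
  have httr : (g : Matrix (Fin 2) (Fin 2) F).trace = (t : Matrix (Fin 2) (Fin 2) F).trace := by
    show τ = (α • (1 : Matrix (Fin 2) (Fin 2) F) + (r : F) • (g₀ : Matrix (Fin 2) (Fin 2) F)).trace
    simp only [Matrix.trace_add, Matrix.trace_smul, Matrix.trace_one, Fintype.card_fin, smul_eq_mul]
    rw [← hτ₀]
    push_cast
    linear_combination -hα
  have hD := noEigen2_trace_sq_ne hodd g hg
  obtain ⟨c, hc⟩ := isConj_iff.mp (sl2_isConj_of_disc_ne (Nat.odd_iff.mp hodd) httr hD)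
  exact ⟨c, by rw [hc]; exact htC⟩

/-- S2429 -/
theorem sl2_nonsplit_torus [Fintype F] (hodd : Odd (Fintype.card F)) :
    ∃ T' : Subgroup (Matrix.SpecialLinearGroup (Fin 2) F), IsCyclic T' ∧ Nat.card T' = Fintype.card F + 1 ∧
      Subgroup.centralizer ((T' : Set (Matrix.SpecialLinearGroup (Fin 2) F))) = T' ∧
      (∀ g : Matrix.SpecialLinearGroup (Fin 2) F, g ∈ T' → (g : Matrix (Fin 2) (Fin 2) F) ≠ 1 → (g : Matrix (Fin 2) (Fin 2) F) ≠ -1 → Subgroup.centralizer ({g} : Set (Matrix.SpecialLinearGroup (Fin 2) F)) = T') ∧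
      (∀ g : Matrix.SpecialLinearGroup (Fin 2) F, (∀ (c : F) (v : Fin 2 → F), v ≠ 0 → (g : Matrix (Fin 2) (Fin 2) F).mulVec v ≠ c • v) → ∃ h : Matrix.SpecialLinearGroup (Fin 2) F, h * g * h⁻¹ ∈ T') ∧
      Nat.card (Subgroup.normalizer (T' : Set (Matrix.SpecialLinearGroup (Fin 2) F))) = 2 * (Fintype.card F + 1) ∧
      Nat.card (ConjClasses (Subgroup.normalizer (T' : Set (Matrix.SpecialLinearGroup (Fin 2) F)))) = (Fintype.card F + 7) / 2 ∧
      ∀ g : Matrix.SpecialLinearGroup (Fin 2) F, g ∈ Subgroup.normalizer (T' : Set (Matrix.SpecialLinearGroup (Fin 2) F)) → g ∉ T' → ((g * g) : Matrix (Fin 2) (Fin 2) F) = -1 := by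
  classical
  obtain ⟨g₀, hord⟩ := Cfsg.Agent.helper11.Torus.exists_orderOf_eq_of_dvd_add_one (F := F) (dvd_refl (Fintype.card F + 1))
  have hne := sl2_noEigen_of_orderOf g₀ hord
  have hD := noEigen2_trace_sq_ne hodd g₀ hne
  have hg0 := sl2_not_isScalar2_of_disc g₀ hD
  have hcardC := card_sl2_centralizer_noEigen hodd g₀ hne
  have hmem0 : g₀ ∈ Subgroup.centralizer ({g₀} : Set (Matrix.SpecialLinearGroup (Fin 2) F)) :=
    sl2_mem_centralizer_singleton.mpr rfl
  have hT : Subgroup.zpowers g₀ = Subgroup.centralizer ({g₀} : Set (Matrix.SpecialLinearGroup (Fin 2) F)) := by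
    apply Subgroup.eq_of_le_of_card_ge (Subgroup.zpowers_le.mpr hmem0)
    rw [hcardC, Nat.card_zpowers, hord]
  have hcyc : IsCyclic (Subgroup.centralizer ({g₀} : Set (Matrix.SpecialLinearGroup (Fin 2) F))) := by
    rw [← hT]; infer_instance
  obtain ⟨h1, h2, h3⟩ := sl2_torus_normalizer_facts hodd g₀ hD
  rw [hcardC] at h1 h2
  refine ⟨Subgroup.centralizer ({g₀} : Set (Matrix.SpecialLinearGroup (Fin 2) F)), hcyc, hcardC, ?_, ?_, ?_, h1, ?_, ?_⟩
  · ext x
    constructor
    · intro hx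
      rw [sl2_mem_centralizer_singleton]
      exact Subgroup.mem_centralizer_iff.mp hx g₀ hmem0
    · intro hx
      rw [Subgroup.mem_centralizer_iff]
      intro y hy
      exact sl2_centralizer_comm hg0 hy hx
  · intro g hg hg1 hgm1
    apply sl2_centralizer_eq_of_mem hg0 hg
    intro hs
    rcases sl2_isScalar2_cases g hs with h | h
    · exact hg1 h
    · exact hgm1 h
  · intro g hg
    exact sl2_noEigen_conj_into hodd g₀ g hne hg
  · omega
  · intro g hg hgC
    rw [← Matrix.SpecialLinearGroup.coe_mul]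
    exact h3 g hg hgC


end Cfsg.Agent.helper12
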