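import Cfsg.Agent.Lib_helper12_Sl2Count

set_option autoImplicit false

namespace Cfsg.Agent.helper12

open Matrix Cfsg Polynomial
open scoped ComplexConjugate

variable {F : Type*} [Field F]

theorem units_inv_sub_ne_zero (a : Fˣ) (ha : (a : F) ^ 2 ≠ 1) : ((a⁻¹ : Fˣ) : F) - (a : F) ≠ 0 := by
  intro h
  apply ha
  have h1 : ((a⁻¹ : Fˣ) : F) = (a : F) := sub_eq_zero.mp h
  have h2 : (a : F) * ((a⁻¹ : Fˣ) : F) = 1 := by rw [← Units.val_mul, mul_inv_cancel, Units.val_one]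
  rw [h1] at h2
  rw [sq]; exact h2

theorem sl2UT_conj_diag (a : Fˣ) (ha : (a : F) ^ 2 ≠ 1) (x : F) :
    ∃ u : Matrix.SpecialLinearGroup (Fin 2) F, u * sl2UT a 0 * u⁻¹ = sl2UT a x := by
  have hne := units_inv_sub_ne_zero a ha
  obtain ⟨t, ht⟩ : ∃ t : F, t * (((a⁻¹ : Fˣ) : F) - (a : F)) = x := ⟨x / (((a⁻¹ : Fˣ) : F) - (a : F)), div_mul_cancel₀ _ hne⟩
  refine ⟨sl2UT 1 t, ?_⟩
  rw [mul_inv_eq_iff_eq_mul]
  apply Subtype.ext
  rw [Matrix.SpecialLinearGroup.coe_mul, Matrix.SpecialLinearGroup.coe_mul]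
  simp only [sl2UT]
  ext i j
  fin_cases i <;> fin_cases j <;> simp [Matrix.mul_apply, Fin.sum_univ_two]
  rw [Units.val_inv_eq_inv_val] at ht
  linear_combination ht

/-- a cuspidal class function of SL2 vanishes on split regular semisimple elements -/
theorem sl2_cuspidal_split [Fintype F] [DecidableEq F] {ψ : Matrix.SpecialLinearGroup (Fin 2) F → ℂ}
    (hcl : IsClassFunction (Matrix.SpecialLinearGroup (Fin 2) F) ψ) (hc : Sl2Cuspidal ψ) (a : Fˣ)
    (ha : (a : F) ^ 2 ≠ 1) : ψ (sl2UT a 0) = 0 := by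
  have h := sl2_cuspidal_sum hcl hc a
  have h1 : ∀ x : F, ψ (sl2UT a x) = ψ (sl2UT a 0) := by
    intro x
    obtain ⟨u, hu⟩ := sl2UT_conj_diag a ha x
    rw [← hu, hcl]
  rw [Finset.sum_congr rfl (fun x _ => h1 x), Finset.sum_const, Finset.card_univ, nsmul_eq_mul] at h
  have hq0 : (Fintype.card F : ℂ) ≠ 0 := by
    have : (0:ℕ) < Fintype.card F := Fintype.card_pos
    exact_mod_cast this.ne'
  exact (mul_eq_zero.mp h).resolve_left hq0

theorem sl2_diag_eq_sl2UT (g : Matrix.SpecialLinearGroup (Fin 2) F) (h01 : (g : Matrix (Fin 2) (Fin 2) F) 0 1 = 0)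
    (h10 : (g : Matrix (Fin 2) (Fin 2) F) 1 0 = 0) :
    ∃ a : Fˣ, g = sl2UT a 0 ∧ (a : F) = (g : Matrix (Fin 2) (Fin 2) F) 0 0 := by
  obtain ⟨⟨a, x⟩, hp⟩ := sl2UT_surj g h10
  simp only at hp
  have hx : x = 0 := by
    have := congrArg (fun m : Matrix.SpecialLinearGroup (Fin 2) F => (m : Matrix (Fin 2) (Fin 2) F) 0 1) hp
    simp only [sl2UT] at this
    simp at this
    rw [this, h01]
  subst hx
  refine ⟨a, hp.symm, ?_⟩
  rw [← hp, sl2UT_00]

theorem units_sq_eq_one_of_card_three [Fintype F] (h3 : Fintype.card F = 3) (a : Fˣ) : (a : F) ^ 2 = 1 := by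
  classical
  have h : Fintype.card Fˣ = 2 := by rw [Fintype.card_units, h3]
  have := pow_card_eq_one (x := a)
  rw [h] at this
  rw [← Units.val_pow_eq_pow_val, this, Units.val_one]

/-- S2322, first half -/
theorem sl2_vanish_split [Fintype F] (hodd : Odd (Fintype.card F)) {χ : Matrix.SpecialLinearGroup (Fin 2) F → ℂ}
    (hχ : IsIrrCharacter (Matrix.SpecialLinearGroup (Fin 2) F) χ) (g : Matrix.SpecialLinearGroup (Fin 2) F)
    (hdeg : χ 1 = (Fintype.card F : ℂ) - 1 ∨ χ 1 = (((Fintype.card F - 1) / 2 : ℕ) : ℂ))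
    (h01 : (g : Matrix (Fin 2) (Fin 2) F) 0 1 = 0) (h10 : (g : Matrix (Fin 2) (Fin 2) F) 1 0 = 0)
    (ha : (g : Matrix (Fin 2) (Fin 2) F) 0 0 ^ 2 ≠ 1) : χ g = 0 := by
  classical
  obtain ⟨a, rfl, haa⟩ := sl2_diag_eq_sl2UT g h01 h10
  rw [← haa] at ha
  have hcl := helper24.char_isClassFunction (helper24.irr_isCharacter hχ)
  have hq : 5 ≤ Fintype.card F := by
    by_contra hlt
    have h1 : 1 < Fintype.card F := Fintype.one_lt_card
    obtain ⟨k, hk⟩ := hodd
    have : Fintype.card F = 3 := by omega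
    exact ha (units_sq_eq_one_of_card_three this a)
  obtain ⟨k, hk⟩ := hodd
  have hc := helper24.char_charDegree_cast (helper24.irr_isCharacter hχ)
  have hdegN : charDegree χ + 1 = 2 * k + 1 ∨ charDegree χ = k := by
    rcases hdeg with h | h
    · left
      rw [← hc, hk] at h
      have : (charDegree χ : ℂ) + 1 = ((2 * k + 1 : ℕ) : ℂ) := by rw [h]; ring
      exact_mod_cast this
    · right
      rw [← hc] at h
      have e : (Fintype.card F - 1) / 2 = k := by omega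
      rw [e] at h
      exact_mod_cast h
  rcases sl2_irr_classification hχ with h | h | ⟨γ, hγ, h⟩ | ⟨γ, h1, h2, hne⟩ | ⟨hcusp, _⟩
  · exfalso
    have h1 : χ 1 = 1 := by rw [h]
    rw [← hc] at h1
    have : charDegree χ = 1 := by exact_mod_cast h1
    omega
  · exfalso
    have h1 : χ 1 = (Fintype.card F : ℂ) := by rw [h]; exact sl2St_one
    rw [← hc, hk] at h1
    have : charDegree χ = 2 * k + 1 := by exact_mod_cast h1
    omega
  · exfalso
    have h1 : χ 1 = (Fintype.card F : ℂ) + 1 := by rw [h]; exact sl2R_one_apply γ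
    rw [← hc, hk] at h1
    have : charDegree χ = 2 * k + 1 + 1 := by exact_mod_cast h1
    omega
  · exfalso
    obtain ⟨_, hd, _⟩ := sl2_half_cases h1 h2 hχ hne
    rw [← hc, hk] at hd
    have : 2 * charDegree χ = 2 * k + 1 + 1 := by exact_mod_cast hd
    omega
  · exact sl2_cuspidal_split hcl hcusp a ha

theorem sl2R_noEigenvector [Fintype F] [DecidableEq F] (γ : MulChar F ℂ) (g : Matrix.SpecialLinearGroup (Fin 2) F)
    (hg : ∀ (c : F) (v : Fin 2 → F), v ≠ 0 → (g : Matrix (Fin 2) (Fin 2) F).mulVec v ≠ c • v) : sl2R γ g = 0 := by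
  have hg' : NoEigenvector (Matrix.SpecialLinearGroup.toGL g) := hg
  have h10 := noEigenvector_10 hg'
  have hq := noEigenvector_quad hg'
  rw [toGL_coe'] at h10 hq
  unfold sl2R
  rw [sl2_indBorel_apply, if_neg h10, zero_add]
  apply Finset.sum_eq_zero
  intro t _
  rw [if_neg (hq t)]

theorem two_ne_zero_of_odd_card [Fintype F] (hodd : Odd (Fintype.card F)) : (2 : F) ≠ 0 := by
  intro h
  have := CharTwo.of_one_ne_zero_of_two_eq_zero (one_ne_zero (α := F)) h
  have h2 := even_card_of_charP_two (F := F)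
  exact (Nat.not_even_iff_odd.mpr hodd) h2

theorem exists_quadratic_form_eq [Fintype F] (hodd : Odd (Fintype.card F)) (τ δ : F) (hD : τ ^ 2 - 4 ≠ 0) :
    ∃ s t : F, s ^ 2 + s * t * τ + t ^ 2 = δ := by
  classical
  have h2 : (2 : F) ≠ 0 := two_ne_zero_of_odd_card hodd
  have hf : degree (X ^ 2 - C (4 * δ) : F[X]) = 2 := by
    rw [degree_X_pow_sub_C (by norm_num)]; rfl
  have hg : degree (C (-(τ ^ 2 - 4)) * X ^ 2 : F[X]) = 2 := by
    rw [degree_C_mul_X_pow 2 (neg_ne_zero.mpr hD)]; rfl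
  obtain ⟨u, v, huv⟩ := FiniteField.exists_root_sum_quadratic hf hg (Nat.odd_iff.mp hodd)
  simp only [eval_sub, eval_pow, eval_X, eval_C, eval_mul] at huv
  refine ⟨(u - v * τ) / 2, v, ?_⟩
  field_simp
  linear_combination huv

theorem sl2_noEigenvector_disc [Fintype F] (hodd : Odd (Fintype.card F)) (g : Matrix.SpecialLinearGroup (Fin 2) F)
    (hg : NoEigenvector (Matrix.SpecialLinearGroup.toGL g)) :
    ((g : Matrix (Fin 2) (Fin 2) F) 0 0 + (g : Matrix (Fin 2) (Fin 2) F) 1 1) ^ 2 - 4 ≠ 0 := by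
  intro hD
  have h2 : (2 : F) ≠ 0 := two_ne_zero_of_odd_card hodd
  have h10 := noEigenvector_10 hg
  have hq := noEigenvector_quad hg
  rw [toGL_coe'] at h10 hq
  have hdet := sl2_det_entries g
  obtain ⟨t, ht⟩ : ∃ t : F, 2 * (g : Matrix (Fin 2) (Fin 2) F) 1 0 * t = -((g : Matrix (Fin 2) (Fin 2) F) 1 1 - (g : Matrix (Fin 2) (Fin 2) F) 0 0) :=
    ⟨-((g : Matrix (Fin 2) (Fin 2) F) 1 1 - (g : Matrix (Fin 2) (Fin 2) F) 0 0) / (2 * (g : Matrix (Fin 2) (Fin 2) F) 1 0),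
      mul_div_cancel₀ _ (mul_ne_zero h2 h10)⟩
  apply hq t
  have key : 4 * (g : Matrix (Fin 2) (Fin 2) F) 1 0 * ((g : Matrix (Fin 2) (Fin 2) F) 1 0 * t ^ 2 + ((g : Matrix (Fin 2) (Fin 2) F) 1 1 - (g : Matrix (Fin 2) (Fin 2) F) 0 0) * t
      - (g : Matrix (Fin 2) (Fin 2) F) 0 1) = 0 := by
    linear_combination (2 * (g : Matrix (Fin 2) (Fin 2) F) 1 0 * t + ((g : Matrix (Fin 2) (Fin 2) F) 1 1 - (g : Matrix (Fin 2) (Fin 2) F) 0 0)) * ht - hD + 4 * hdet
  have h4 : (4 : F) * (g : Matrix (Fin 2) (Fin 2) F) 1 0 ≠ 0 := by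
    apply mul_ne_zero _ h10
    have : (4 : F) = 2 * 2 := by norm_num
    rw [this]
    exact mul_ne_zero h2 h2
  exact (mul_eq_zero.mp key).resolve_left h4

theorem sl2_elliptic_centralizer_det [Fintype F] (hodd : Odd (Fintype.card F)) (g : Matrix.SpecialLinearGroup (Fin 2) F)
    (hg : NoEigenvector (Matrix.SpecialLinearGroup.toGL g)) (δ : Fˣ) :
    ∃ c : GL (Fin 2) F, c * Matrix.SpecialLinearGroup.toGL g = Matrix.SpecialLinearGroup.toGL g * c ∧
      Matrix.GeneralLinearGroup.det c = δ := by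
  obtain ⟨s, t, hst⟩ := exists_quadratic_form_eq hodd ((g : Matrix (Fin 2) (Fin 2) F) 0 0 + (g : Matrix (Fin 2) (Fin 2) F) 1 1) (δ : F)
    (sl2_noEigenvector_disc hodd g hg)
  have hdet := sl2_det_entries g
  have hM : (s • (1 : Matrix (Fin 2) (Fin 2) F) + t • (g : Matrix (Fin 2) (Fin 2) F)).det = (δ : F) := by
    rw [Matrix.det_fin_two]
    simp only [Matrix.add_apply, Matrix.smul_apply, Matrix.one_apply, smul_eq_mul]
    simp
    linear_combination hst + t ^ 2 * hdet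
  refine ⟨Matrix.GeneralLinearGroup.mkOfDetNeZero _ (by rw [hM]; exact δ.ne_zero), ?_, ?_⟩
  · apply Units.ext
    simp only [Units.val_mul, Matrix.GeneralLinearGroup.mkOfDetNeZero]
    rw [toGL_coe']
    simp [Matrix.add_mul, Matrix.mul_add]
  · apply Units.ext
    rw [Matrix.GeneralLinearGroup.val_det_apply]
    exact hM

theorem sl2_elliptic_gl_conj [Fintype F] (hodd : Odd (Fintype.card F)) (g : Matrix.SpecialLinearGroup (Fin 2) F)
    (hg : NoEigenvector (Matrix.SpecialLinearGroup.toGL g)) (x : GL (Fin 2) F) :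
    ∃ s : Matrix.SpecialLinearGroup (Fin 2) F,
      Matrix.SpecialLinearGroup.toGL g = x * Matrix.SpecialLinearGroup.toGL (s⁻¹ * g * s) * x⁻¹ := by
  obtain ⟨c, hcomm, hdet⟩ := sl2_elliptic_centralizer_det hodd g hg (Matrix.GeneralLinearGroup.det x)
  have hy : Matrix.GeneralLinearGroup.det (c⁻¹ * x) = 1 := by rw [map_mul, map_inv, hdet, inv_mul_cancel]
  let s : Matrix.SpecialLinearGroup (Fin 2) F := ⟨((c⁻¹ * x : GL (Fin 2) F) : Matrix (Fin 2) (Fin 2) F), by
    have := congrArg Units.val hy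
    rwa [Matrix.GeneralLinearGroup.val_det_apply, Units.val_one] at this⟩
  have hs : Matrix.SpecialLinearGroup.toGL s = c⁻¹ * x := Units.ext rfl
  refine ⟨s, ?_⟩
  rw [map_mul, map_mul, map_inv, hs, _root_.mul_inv_rev, inv_inv]
  have e : x * (x⁻¹ * c * Matrix.SpecialLinearGroup.toGL g * (c⁻¹ * x)) * x⁻¹
      = c * Matrix.SpecialLinearGroup.toGL g * c⁻¹ := by group
  rw [e, hcomm, mul_inv_cancel_right]

theorem sl2_half_vanish_elliptic [Fintype F] [DecidableEq F] (hodd : Odd (Fintype.card F)) {γ : MulChar F ℂ}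
    (h1 : γ ^ 2 = 1) (h2 : γ ≠ 1)
    {ψ : Matrix.SpecialLinearGroup (Fin 2) F → ℂ} (hψ : IsIrrCharacter (Matrix.SpecialLinearGroup (Fin 2) F) ψ)
    (hne : classInner (sl2R γ) ψ ≠ 0) (g : Matrix.SpecialLinearGroup (Fin 2) F)
    (hg : ∀ (c : F) (v : Fin 2 → F), v ≠ 0 → (g : Matrix (Fin 2) (Fin 2) F).mulVec v ≠ c • v) : ψ g = 0 := by
  obtain ⟨χ₁, χ₂, i1, i2, hne12, hsum, d1, d2, x, hx⟩ := sl2_order_two_splits hodd γ h1 h2
  have hR : sl2R γ g = 0 := sl2R_noEigenvector γ g hg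
  have hsumg : χ₁ g + χ₂ g = 0 := by
    rw [← Pi.add_apply, ← hsum]; exact hR
  obtain ⟨s, hs⟩ := sl2_elliptic_gl_conj hodd g hg x
  have h21 : χ₂ g = χ₁ g := by
    rw [hx (s⁻¹ * g * s) g hs]
    have := helper24.char_isClassFunction (helper24.irr_isCharacter i1) g s⁻¹
    rw [inv_inv] at this
    exact this
  have hχ1 : χ₁ g = 0 := by
    rw [h21] at hsumg
    have : 2 * χ₁ g = 0 := by linear_combination hsumg
    simpa using this
  have hcase : ψ = χ₁ ∨ ψ = χ₂ := by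
    change classInner (indFun (sl2Borel F) (sl2BorelChar γ)) ψ ≠ 0 at hne
    rw [hsum, classInner_irr_add i1 i2 hψ] at hne
    by_cases c1 : χ₁ = ψ
    · left; exact c1.symm
    · by_cases c2 : χ₂ = ψ
      · right; exact c2.symm
      · rw [if_neg c1, if_neg c2] at hne
        norm_num at hne
  rcases hcase with rfl | rfl
  · exact hχ1
  · rw [h21, hχ1]

theorem indFun_ne_zero_exists {G : Type*} [Group G] [Fintype G] (H : Subgroup G) (θ : H → ℂ) (g : G)
    (h : indFun H θ g ≠ 0) : ∃ y : G, y⁻¹ * g * y ∈ H := by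
  by_contra hcon
  push Not at hcon
  apply h
  unfold indFun
  rw [Finset.sum_eq_zero, mul_zero]
  intro y _
  exact extendByZero_of_not_mem' H θ _ (hcon y)

theorem units_inv_eq_self_of_card_three [Fintype F] (h3 : Fintype.card F = 3) (a : Fˣ) :
    ((a⁻¹ : Fˣ) : F) = (a : F) := by
  have h := units_sq_eq_one_of_card_three h3 a
  have h' : a * a = 1 := by
    apply Units.ext
    rw [Units.val_mul, Units.val_one, ← sq]
    exact h
  rw [inv_eq_of_mul_eq_one_right h']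

theorem sl2UT_central_of_card_three [Fintype F] (h3 : Fintype.card F = 3) (a : Fˣ)
    (g : Matrix.SpecialLinearGroup (Fin 2) F) : g * sl2UT a 0 = sl2UT a 0 * g := by
  have hinv := units_inv_eq_self_of_card_three h3 a
  apply Subtype.ext
  rw [Matrix.SpecialLinearGroup.coe_mul, Matrix.SpecialLinearGroup.coe_mul]
  simp only [sl2UT, hinv]
  ext i j
  fin_cases i <;> fin_cases j <;> simp [Matrix.mul_apply, Fin.sum_univ_two, mul_comm]

theorem sl2R_one_central [Fintype F] [DecidableEq F] (h3 : Fintype.card F = 3) (a : Fˣ) :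
    sl2R (1 : MulChar F ℂ) (sl2UT a 0) = 4 := by
  have hinv := units_inv_eq_self_of_card_three h3 a
  unfold sl2R
  rw [sl2_indBorel_sl2UT, hinv, sub_self, MulChar.one_apply_coe]
  simp only [zero_mul, if_true, Finset.sum_const, Finset.card_univ, h3]
  norm_num

theorem sl2R_one_noncentral [Fintype F] [DecidableEq F] (h3 : Fintype.card F = 3) (a : Fˣ) (b : F) (hb : b ≠ 0) :
    sl2R (1 : MulChar F ℂ) (sl2UT a b) = 1 := by
  have hinv := units_inv_eq_self_of_card_three h3 a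
  unfold sl2R
  rw [sl2_indBorel_sl2UT, hinv, sub_self, MulChar.one_apply_coe]
  simp only [zero_mul, if_neg hb, Finset.sum_const_zero, add_zero]

theorem sl2R_one_re_le [Fintype F] [DecidableEq F] (h3 : Fintype.card F = 3) (g : Matrix.SpecialLinearGroup (Fin 2) F)
    (hg : ¬ ∃ a : Fˣ, g = sl2UT a 0) : (sl2R (1 : MulChar F ℂ) g).re ≤ 1 := by
  by_cases h0 : sl2R (1 : MulChar F ℂ) g = 0
  · rw [h0]; simp
  · obtain ⟨y, hy⟩ := indFun_ne_zero_exists _ _ g h0
    rw [mem_sl2Borel] at hy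
    obtain ⟨⟨a, b⟩, hab⟩ := sl2UT_surj _ hy
    simp only at hab
    have hb : b ≠ 0 := by
      rintro rfl
      apply hg
      refine ⟨a, ?_⟩
      have h1 : g = y * sl2UT a 0 * y⁻¹ := by rw [hab]; group
      rw [h1, sl2UT_central_of_card_three h3 a y, mul_inv_cancel_right]
    have hcl : IsClassFunction (Matrix.SpecialLinearGroup (Fin 2) F) (sl2R (1 : MulChar F ℂ)) :=
      indFun_isClassFunction _ _
    have h2 := hcl g y⁻¹
    rw [inv_inv, ← hab, sl2R_one_noncentral h3 a b hb] at h2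
    rw [← h2]
    simp

theorem sl2_cuspidal_borel_norm [Fintype F] [DecidableEq F] (h3 : Fintype.card F = 3)
    {ψ : Matrix.SpecialLinearGroup (Fin 2) F → ℂ} (hψ : IsIrrCharacter (Matrix.SpecialLinearGroup (Fin 2) F) ψ)
    (hc : Sl2Cuspidal ψ) (h1 : ψ 1 = 2) (a : Fˣ) :
    Complex.normSq (ψ (sl2UT a 0)) = 4 ∧ 6 ≤ ∑ x : F, Complex.normSq (ψ (sl2UT a x)) := by
  have hcl := helper24.char_isClassFunction (helper24.irr_isCharacter hψ)
  have hsum := sl2_cuspidal_sum hcl hc a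
  have h0 : Complex.normSq (ψ (sl2UT a 0)) = 4 := by
    have := irr_central_normSq hψ (sl2UT a 0) (fun g => sl2UT_central_of_card_three h3 a g) 1
    rw [one_mul, h1] at this
    rw [this]
    norm_num [Complex.normSq]
  refine ⟨h0, ?_⟩
  rw [← Finset.add_sum_erase _ _ (Finset.mem_univ (0 : F))] at hsum ⊢
  have h2 : ‖ψ (sl2UT a 0)‖ ≤ ∑ x ∈ Finset.univ.erase (0 : F), ‖ψ (sl2UT a x)‖ := by
    have : ψ (sl2UT a 0) = -∑ x ∈ Finset.univ.erase (0 : F), ψ (sl2UT a x) := eq_neg_of_add_eq_zero_left hsum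
    rw [this, norm_neg]
    exact norm_sum_le _ _
  have h3' : (∑ x ∈ Finset.univ.erase (0 : F), ‖ψ (sl2UT a x)‖) ^ 2
      ≤ ((Finset.univ.erase (0 : F)).card : ℝ) * ∑ x ∈ Finset.univ.erase (0 : F), ‖ψ (sl2UT a x)‖ ^ 2 :=
    sq_sum_le_card_mul_sum_sq
  have hcard : (Finset.univ.erase (0 : F)).card = 2 := by
    rw [Finset.card_erase_of_mem (Finset.mem_univ _), Finset.card_univ, h3]
  have h4 : ‖ψ (sl2UT a 0)‖ ^ 2 = 4 := by rw [← Complex.normSq_eq_norm_sq, h0]
  have h5 : 2 ≤ ∑ x ∈ Finset.univ.erase (0 : F), ‖ψ (sl2UT a x)‖ ^ 2 := by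
    rw [hcard] at h3'
    have : ‖ψ (sl2UT a 0)‖ ^ 2 ≤ (∑ x ∈ Finset.univ.erase (0 : F), ‖ψ (sl2UT a x)‖) ^ 2 :=
      pow_le_pow_left₀ (norm_nonneg _) h2 2
    push_cast at h3'
    linarith
  rw [h0]
  have : ∑ x ∈ Finset.univ.erase (0 : F), Complex.normSq (ψ (sl2UT a x))
      = ∑ x ∈ Finset.univ.erase (0 : F), ‖ψ (sl2UT a x)‖ ^ 2 :=
    Finset.sum_congr rfl (fun x _ => Complex.normSq_eq_norm_sq _)
  rw [this]
  linarith

theorem sl2_cuspidal_three_elliptic [Fintype F] [DecidableEq F] (h3 : Fintype.card F = 3)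
    {ψ : Matrix.SpecialLinearGroup (Fin 2) F → ℂ} (hψ : IsIrrCharacter (Matrix.SpecialLinearGroup (Fin 2) F) ψ)
    (hc : Sl2Cuspidal ψ) (h1 : ψ 1 = 2) (g₀ : Matrix.SpecialLinearGroup (Fin 2) F)
    (hg₀ : ∀ (c : F) (v : Fin 2 → F), v ≠ 0 → (g₀ : Matrix (Fin 2) (Fin 2) F).mulVec v ≠ c • v) : ψ g₀ = 0 := by
  classical
  have hcl := helper24.char_isClassFunction (helper24.irr_isCharacter hψ)
  let N : Matrix.SpecialLinearGroup (Fin 2) F → ℝ := fun g => Complex.normSq (ψ g)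
  let f : Matrix.SpecialLinearGroup (Fin 2) F → ℂ := fun g => (N g : ℂ)
  have hf : ∀ g, f g = ψ g * conj (ψ g) := fun g => (Complex.mul_conj _).symm
  have hfcl : IsClassFunction (Matrix.SpecialLinearGroup (Fin 2) F) f := by
    intro g h
    simp only [f, N]
    rw [hcl]
  have hfconj : ∀ g, conj (f g) = f g := fun g => Complex.conj_ofReal _
  have hG : (Nat.card (Matrix.SpecialLinearGroup (Fin 2) F) : ℂ) = 24 := by
    rw [card_SL2, h3]; norm_num
  have hA : ∑ g, f g = 24 := by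
    have h := helper24.irr_classInner_self hψ
    unfold classInner at h
    rw [hG, inv_mul_eq_iff_eq_mul₀ (by norm_num : (24 : ℂ) ≠ 0)] at h
    rw [Finset.sum_congr rfl (fun g _ => hf g), h, mul_one]
  have hB : (Nat.card (sl2Borel F) : ℂ) = 6 := by
    rw [card_sl2Borel, h3]; norm_num
  have hFrob : ∑ g, sl2R (1 : MulChar F ℂ) g * f g = 4 * ∑ a : Fˣ, ∑ x : F, f (sl2UT a x) := by
    have h := sl2_classInner_R_eq (1 : MulChar F ℂ) f hfcl
    unfold classInner at h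
    rw [hG, hB, inv_mul_eq_iff_eq_mul₀ (by norm_num : (24 : ℂ) ≠ 0)] at h
    simp only [hfconj, MulChar.one_apply_coe, one_mul] at h
    rw [h]
    ring
  have hA' : ∑ g, N g = 24 := by
    have h := hA
    simp only [f] at h
    rw [← Complex.ofReal_sum] at h
    exact_mod_cast h
  have hB' : ∑ g, (sl2R (1 : MulChar F ℂ) g).re * N g = 4 * ∑ a : Fˣ, ∑ x : F, N (sl2UT a x) := by
    have h := congrArg Complex.re hFrob
    simp only [Complex.re_sum, f, Complex.re_mul_ofReal] at h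
    rw [h]
    simp only [← Complex.ofReal_sum]
    simp
  let p : Matrix.SpecialLinearGroup (Fin 2) F → Prop := fun g => ∃ a : Fˣ, g = sl2UT a 0
  let T : Matrix.SpecialLinearGroup (Fin 2) F → ℝ := fun g =>
    (1 - (sl2R (1 : MulChar F ℂ) g).re) * N g + (if p g then 3 * N g else 0)
  have hT0 : ∀ g, 0 ≤ T g := by
    intro g
    by_cases hp : p g
    · obtain ⟨a, rfl⟩ := hp
      simp only [T]
      rw [if_pos ⟨a, rfl⟩, sl2R_one_central h3 a]
      have : ((4 : ℂ)).re = 4 := by norm_num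
      rw [this]
      have : (1 - 4 : ℝ) * N (sl2UT a 0) + 3 * N (sl2UT a 0) = 0 := by ring
      rw [this]
    · simp only [T]
      rw [if_neg hp, add_zero]
      exact mul_nonneg (sub_nonneg.mpr (sl2R_one_re_le h3 g hp)) (Complex.normSq_nonneg _)
  have hTsum : ∑ g, T g ≤ 0 := by
    simp only [T]
    rw [Finset.sum_add_distrib]
    have e1 : ∑ g, (1 - (sl2R (1 : MulChar F ℂ) g).re) * N g = 24 - 4 * ∑ a : Fˣ, ∑ x : F, N (sl2UT a x) := by
      simp only [sub_mul, one_mul]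
      rw [Finset.sum_sub_distrib, hA', hB']
    have e2 : ∑ g, (if p g then 3 * N g else 0) = ∑ a : Fˣ, 3 * N (sl2UT a 0) :=
      sum_ite_eq_sum_of_bij' p (fun a : Fˣ => sl2UT a 0)
        (fun a a' h => (Prod.ext_iff.mp (sl2UT_injective (a₁ := (a, 0)) (a₂ := (a', 0)) h)).1)
        (fun a => ⟨a, rfl⟩) (fun g ⟨a, h⟩ => ⟨a, h.symm⟩) (fun g => 3 * N g)
    rw [e1, e2]
    have hcardU : Fintype.card Fˣ = 2 := by rw [Fintype.card_units, h3]
    have h6 : ∑ a : Fˣ, (6 : ℝ) ≤ ∑ a : Fˣ, ∑ x : F, N (sl2UT a x) :=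
      Finset.sum_le_sum (fun a _ => (sl2_cuspidal_borel_norm h3 hψ hc h1 a).2)
    have h12 : ∑ a : Fˣ, 3 * N (sl2UT a 0) = ∑ a : Fˣ, (12 : ℝ) :=
      Finset.sum_congr rfl (fun a _ => by
        simp only [N]
        rw [(sl2_cuspidal_borel_norm h3 hψ hc h1 a).1]; norm_num)
    rw [h12]
    simp only [Finset.sum_const, Finset.card_univ, hcardU, nsmul_eq_mul] at h6 ⊢
    push_cast at h6 ⊢
    linarith
  have hT : T g₀ = 0 :=
    (Finset.sum_eq_zero_iff_of_nonneg (fun g _ => hT0 g)).mp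
      (le_antisymm hTsum (Finset.sum_nonneg (fun g _ => hT0 g))) g₀ (Finset.mem_univ _)
  have hp0 : ¬ p g₀ := by
    rintro ⟨a, rfl⟩
    have hg' : NoEigenvector (Matrix.SpecialLinearGroup.toGL (sl2UT a 0)) := hg₀
    apply noEigenvector_10 hg'
    rw [toGL_coe']
    simp [sl2UT]
  simp only [T] at hT
  rw [if_neg hp0, add_zero, sl2R_noEigenvector 1 g₀ hg₀] at hT
  simp only [Complex.zero_re, sub_zero, one_mul, N] at hT
  exact Complex.normSq_eq_zero.mp hT

/-- S2322, second half -/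
theorem sl2_vanish_elliptic [Fintype F] (hodd : Odd (Fintype.card F)) {χ : Matrix.SpecialLinearGroup (Fin 2) F → ℂ}
    (hχ : IsIrrCharacter (Matrix.SpecialLinearGroup (Fin 2) F) χ) (g : Matrix.SpecialLinearGroup (Fin 2) F)
    (hdeg : χ 1 = (Fintype.card F : ℂ) + 1 ∨ χ 1 = (((Fintype.card F + 1) / 2 : ℕ) : ℂ))
    (hg : ∀ (c : F) (v : Fin 2 → F), v ≠ 0 → (g : Matrix (Fin 2) (Fin 2) F).mulVec v ≠ c • v) : χ g = 0 := by
  classical
  have hodd' := hodd
  obtain ⟨k, hk⟩ := hodd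
  have hk1 : 1 ≤ k := by
    have h1 : 1 < Fintype.card F := Fintype.one_lt_card
    omega
  have hc := helper24.char_charDegree_cast (helper24.irr_isCharacter hχ)
  have hdegN : charDegree χ = 2 * k + 2 ∨ charDegree χ = k + 1 := by
    rcases hdeg with h | h
    · left
      rw [← hc, hk] at h
      have : (charDegree χ : ℂ) = ((2 * k + 2 : ℕ) : ℂ) := by rw [h]; push_cast; ring
      exact_mod_cast this
    · right
      rw [← hc] at h
      have e : (Fintype.card F + 1) / 2 = k + 1 := by omega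
      rw [e] at h
      exact_mod_cast h
  rcases sl2_irr_classification hχ with h | h | ⟨γ, hγ, h⟩ | ⟨γ, h1, h2, hne⟩ | ⟨hcusp, hd⟩
  · exfalso
    have h1 : χ 1 = 1 := by rw [h]
    rw [← hc] at h1
    have : charDegree χ = 1 := by exact_mod_cast h1
    omega
  · exfalso
    have h1 : χ 1 = (Fintype.card F : ℂ) := by rw [h]; exact sl2St_one
    rw [← hc, hk] at h1
    have : charDegree χ = 2 * k + 1 := by exact_mod_cast h1
    omega
  · rw [h]
    exact sl2R_noEigenvector γ g hg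
  · exact sl2_half_vanish_elliptic hodd' h1 h2 hχ hne g hg
  · have hd' : charDegree χ + 1 = 2 * k + 1 ∨ 2 * charDegree χ + 1 = 2 * k + 1 := by
      rcases hd with h | h
      · left
        rw [← hc, hk] at h
        have : (charDegree χ : ℂ) + 1 = ((2 * k + 1 : ℕ) : ℂ) := by rw [h]; ring
        exact_mod_cast this
      · right
        rw [← hc, hk] at h
        have : 2 * (charDegree χ : ℂ) + 1 = ((2 * k + 1 : ℕ) : ℂ) := by rw [h]; ring
        exact_mod_cast this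
    have h3 : Fintype.card F = 3 := by omega
    have hd2 : charDegree χ = 2 := by omega
    have h1 : χ 1 = 2 := by rw [← hc, hd2]; norm_num
    exact sl2_cuspidal_three_elliptic h3 hχ hcusp h1 g hg

end Cfsg.Agent.helper12
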