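import Mathlib
import Cfsg.Agent.Lib_helper2_SLn

set_option autoImplicit false

namespace Cfsg.Agent.helper12

open Matrix
open scoped commutatorElement

theorem field_card_le_three {K : Type*} [Field K] [Fintype K] (hK : Fintype.card K ≤ 3) (c : K) :
    c = 0 ∨ c = 1 ∨ c = -1 := by
  by_cases hc : c = 0
  · left; exact hc
  · right
    have h1 : c ^ (Fintype.card K - 1) = 1 := FiniteField.pow_card_sub_one_eq_one c hc
    have h2 : 2 ≤ Fintype.card K := Fintype.one_lt_card
    have h3 : Fintype.card K - 1 = 1 ∨ Fintype.card K - 1 = 2 := by omega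
    rcases h3 with h3 | h3
    · rw [h3, pow_one] at h1; left; exact h1
    · rw [h3] at h1
      exact sq_eq_one_iff.mp h1


theorem sl_gen_x_w {K : Type*} [Field K] [Fintype K] (hK : Fintype.card K ≤ 3) (n : ℕ) (hn : 1 ≤ n)
    (x w : Matrix.SpecialLinearGroup (Fin (n + 1)) K)
    (hx : (x : Matrix (Fin (n + 1)) (Fin (n + 1)) K) = Matrix.transvection (0 : Fin (n + 1)) (1 : Fin (n + 1)) 1)
    (hw : (w : Matrix (Fin (n + 1)) (Fin (n + 1)) K) =
      Matrix.of (fun i j => if j.val = i.val + 1 then 1 else if i.val = n ∧ j.val = 0 then (-1) ^ n else 0)) :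
    Subgroup.closure ({x, w} : Set (Matrix.SpecialLinearGroup (Fin (n + 1)) K)) = ⊤ := by
  classical
  set H := Subgroup.closure ({x, w} : Set (Matrix.SpecialLinearGroup (Fin (n + 1)) K)) with hH
  have hxH : x ∈ H := Subgroup.subset_closure (by simp)
  have hwH : w ∈ H := Subgroup.subset_closure (by simp)
  have h10 : (1 : Fin (n + 1)) ≠ 0 := by
    intro h
    rw [Fin.one_eq_zero_iff] at h
    omega
  -- the nonzero entries of w
  set u : Fin (n + 1) → K := fun a => if a.val = n then (-1) ^ n else 1 with hu
  have hu0 : ∀ a, u a ≠ 0 := by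
    intro a
    simp only [hu]
    split_ifs
    · exact pow_ne_zero _ (neg_ne_zero.mpr one_ne_zero)
    · exact one_ne_zero
  have hW : ∀ a b : Fin (n + 1), (w : Matrix (Fin (n + 1)) (Fin (n + 1)) K) a b =
      if b = a + 1 then u a else 0 := by
    intro a b
    rw [hw]
    simp only [Matrix.of_apply, hu]
    have hb : b = a + 1 ↔ b.val = (a + 1).val := Fin.ext_iff
    rw [Fin.val_add_one] at hb
    by_cases ha : a.val = n
    · have ha' : a = Fin.last n := Fin.ext (by simp [ha])
      rw [if_pos ha'] at hb
      have h1 : ¬ b.val = a.val + 1 := by have := b.isLt; omega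
      rw [if_neg h1]
      by_cases hb0 : b.val = 0
      · rw [if_pos ⟨ha, hb0⟩, if_pos (hb.mpr hb0), if_pos ha]
      · rw [if_neg (fun h => hb0 h.2), if_neg (fun h => hb0 (hb.mp h))]
    · have ha' : a ≠ Fin.last n := fun h => ha (by simp [h])
      rw [if_neg ha'] at hb
      by_cases hb1 : b.val = a.val + 1
      · rw [if_pos hb1, if_pos (hb.mpr hb1), if_neg ha]
      · rw [if_neg hb1, if_neg (fun h => ha h.1), if_neg (fun h => hb1 (hb.mp h))]
  let S : Fin (n + 1) → Fin (n + 1) → Prop := fun i j =>
    ∀ (h : i ≠ j) (c : K), SpecialLinearGroup.transvection h c ∈ H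
  -- base
  have hS01 : S 0 1 := by
    intro h c
    have hx1 : SpecialLinearGroup.transvection h (1 : K) = x := by
      apply Subtype.ext
      rw [hx]; rfl
    rcases field_card_le_three hK c with rfl | rfl | rfl
    · rw [SpecialLinearGroup.transvection_coeff_zero]; exact H.one_mem
    · rw [hx1]; exact hxH
    · have : SpecialLinearGroup.transvection h (-1 : K) = x⁻¹ := by
        rw [← hx1, SpecialLinearGroup.transvection_inv]
      rw [this]; exact H.inv_mem hxH
  -- shift
  have hshift : ∀ i j, S i j → S (i + 1) (j + 1) := by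
    intro i j hS h' c'
    have h : i ≠ j := fun e => h' (by rw [e])
    have key0 : (w : Matrix (Fin (n + 1)) (Fin (n + 1)) K) *
        (SpecialLinearGroup.transvection h' c' : Matrix (Fin (n + 1)) (Fin (n + 1)) K) =
        (SpecialLinearGroup.transvection h (c' * u i / u j) : Matrix (Fin (n + 1)) (Fin (n + 1)) K) *
          (w : Matrix (Fin (n + 1)) (Fin (n + 1)) K) := by
      rw [SpecialLinearGroup.transvection_coe, SpecialLinearGroup.transvection_coe, mul_add, add_mul,
        mul_one, one_mul]
      congr 1
      ext a b
      rw [Matrix.mul_apply, Matrix.mul_apply]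
      simp only [Matrix.single_apply, hW]
      rw [Finset.sum_eq_single (i + 1), Finset.sum_eq_single j]
      · by_cases ha : a = i
        · subst ha
          by_cases hb : b = j + 1
          · subst hb
            simp
            field_simp [hu0 j]
          · simp [hb, Ne.symm hb]
        · have : ¬ (i + 1 = a + 1) := fun e => ha (add_right_cancel e).symm
          simp [Ne.symm ha, this]
      · intro k _ hk
        simp [Ne.symm hk]
      · simp
      · intro k _ hk
        simp [Ne.symm hk]
      · simp
    have key : w * SpecialLinearGroup.transvection h' c' =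
        SpecialLinearGroup.transvection h (c' * u i / u j) * w := by
      have e1 : ((w * SpecialLinearGroup.transvection h' c' :
          Matrix.SpecialLinearGroup (Fin (n + 1)) K) : Matrix (Fin (n + 1)) (Fin (n + 1)) K) =
          ((SpecialLinearGroup.transvection h (c' * u i / u j) * w :
          Matrix.SpecialLinearGroup (Fin (n + 1)) K) : Matrix (Fin (n + 1)) (Fin (n + 1)) K) := by
        exact (Matrix.SpecialLinearGroup.coe_mul _ _).trans
          (key0.trans (Matrix.SpecialLinearGroup.coe_mul _ _).symm)
      exact Subtype.ext e1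
    have : SpecialLinearGroup.transvection h' c' =
        w⁻¹ * SpecialLinearGroup.transvection h (c' * u i / u j) * w := by
      rw [mul_assoc, ← key, inv_mul_cancel_left]
    rw [this]
    exact H.mul_mem (H.mul_mem (H.inv_mem hwH) (hS h _)) hwH
  -- composition
  have hcomp : ∀ i j k, i ≠ j → j ≠ k → i ≠ k → S i j → S j k → S i k := by
    intro i j k hij hjk hik h1 h2 _ c
    rw [Cfsg.Agent.helper2.transvection_eq_commutator hik hij hjk c, commutatorElement_def]
    exact H.mul_mem (H.mul_mem (H.mul_mem (h1 hij c) (h2 hjk 1)) (H.inv_mem (h1 hij c)))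
      (H.inv_mem (h2 hjk 1))
  -- all (i, i+1)
  have hstep : ∀ i : Fin (n + 1), S i (i + 1) := by
    intro i
    induction i using Fin.induction with
    | zero => simpa using hS01
    | succ i ih =>
      have := hshift _ _ ih
      rwa [Fin.coeSucc_eq_succ] at this
  have hall : ∀ d : Fin (n + 1), d ≠ 0 → ∀ i : Fin (n + 1), S i (i + d) := by
    intro d
    induction d using Fin.induction with
    | zero => intro h; exact absurd rfl h
    | succ d ih =>
      intro _ i
      rw [← Fin.coeSucc_eq_succ]
      by_cases hd : d.castSucc = 0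
      · rw [hd, zero_add]; exact hstep i
      · rw [← add_assoc]
        refine hcomp i (i + d.castSucc) _ ?_ ?_ ?_ (ih hd i) (hstep _)
        · intro h
          exact hd (by simpa using h.symm)
        · intro h
          exact h10 (by simpa using h.symm)
        · intro h
          rw [add_assoc, Fin.coeSucc_eq_succ] at h
          exact Fin.succ_ne_zero d (by simpa using h.symm)
  have hS : ∀ i j : Fin (n + 1), S i j := by
    intro i j h
    have hji : j - i ≠ 0 := fun e => h (sub_eq_zero.mp e).symm
    have := hall (j - i) hji i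
    rw [add_sub_cancel] at this
    exact this h
  have : Nontrivial (Fin (n + 1)) := ⟨⟨1, 0, h10⟩⟩
  rw [eq_top_iff]
  intro A _
  exact Cfsg.Agent.helper2.transvection_induction (fun A => A ∈ H) (fun i j hij c => hS i j hij c)
    (fun A B hA hB => H.mul_mem hA hB) A

end Cfsg.Agent.helper12
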