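import Mathlib
import Cfsg.Agent.Lib_lead_SZ2

set_option autoImplicit false
set_option linter.unusedSectionVars false
set_option linter.unusedVariables false

/-!
Glauberman's lemma in a form with a normal subgroup acting trivially (helper22).
-/

namespace Cfsg.Agent.helper22

open scoped Pointwise

universe u

/-- **Glauberman's lemma, relative form.** `B` acts on `X`; `G₁ ⊲ B` is transitive on `X`,
`N₁ ≤ G₁` acts trivially, `B = G₁ S₁`, `(|G₁ : N₁|, |S₁|) = 1`, and `S₁` is solvable or every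
quotient of `G₁` killing `N₁` is solvable. Then `S₁` fixes a point of `X`. -/
theorem glauberman_perm {B : Type u} [Group B] [Finite B] {X : Type u} [Nonempty X]
    [MulAction B X] (G₁ S₁ N₁ : Subgroup B) [hG₁ : G₁.Normal] (hGS : G₁ ⊔ S₁ = ⊤)
    (hNG : N₁ ≤ G₁) (htriv : ∀ n ∈ N₁, ∀ x : X, n • x = x)
    (hcop : (N₁.relIndex G₁).Coprime (Nat.card S₁))
    (hsolv : Group.IsSolvable S₁ ∨ ∀ (R : Type u) [Group R] (π : G₁ →* R),
      Function.Surjective π → N₁.subgroupOf G₁ ≤ π.ker → Group.IsSolvable R)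
    (htrans : ∀ x y : X, ∃ g ∈ G₁, g • x = y) :
    ∃ x : X, ∀ s ∈ S₁, s • x = x := by
  classical
  obtain ⟨f, hf⟩ : ∃ f : B →* Equiv.Perm X, f = MulAction.toPermHom B X := ⟨_, rfl⟩
  have hfx : ∀ (b : B) (x : X), f b x = b • x := by
    intro b x
    rw [hf]
    rfl
  obtain ⟨f', hf'⟩ : ∃ f' : B →* f.range, f' = f.rangeRestrict := ⟨_, rfl⟩
  have hsurj : Function.Surjective f' := by
    rw [hf']
    exact f.rangeRestrict_surjective
  have hf'x : ∀ (b : B) (x : X), (f' b) • x = b • x := by
    intro b x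
    rw [hf']
    exact hfx b x
  haveI : Finite f.range := Finite.of_surjective f' hsurj
  obtain ⟨K, hK⟩ : ∃ K : Subgroup f.range, K = G₁.map f' := ⟨_, rfl⟩
  obtain ⟨H, hH⟩ : ∃ H : Subgroup f.range, H = S₁.map f' := ⟨_, rfl⟩
  haveI hKn : K.Normal := by
    rw [hK]
    exact Subgroup.Normal.map hG₁ f' hsurj
  have hKH : K ⊔ H = ⊤ := by
    rw [hK, hH, ← Subgroup.map_sup, hGS, Subgroup.map_top_of_surjective f' hsurj]
  have hNker : N₁ ≤ f'.ker := by
    intro n hn
    rw [MonoidHom.mem_ker]
    apply Subtype.ext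
    apply Equiv.ext
    intro x
    have := hf'x n x
    rw [htriv n hn x] at this
    exact this
  have hKcard : Nat.card K ∣ N₁.relIndex G₁ := by
    rw [hK, ← Subgroup.relIndex_ker]
    exact Subgroup.relIndex_dvd_of_le_left G₁ hNker
  have hHcard : Nat.card H ∣ Nat.card S₁ := by
    rw [hH]
    exact Subgroup.card_map_dvd S₁ f'
  have hcopKH : (Nat.card K).Coprime (Nat.card H) :=
    Nat.Coprime.coprime_dvd_left hKcard (Nat.Coprime.coprime_dvd_right hHcard hcop)
  have hdisj : Disjoint K H := Subgroup.disjoint_of_coprime_natCard hcopKH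
  have hcompl : Subgroup.IsComplement' K H := by
    apply Subgroup.isComplement'_of_disjoint_and_mul_eq_univ hdisj
    rw [← Subgroup.normal_mul, hKH]
    rfl
  have hidx : Nat.card H = K.index := hcompl.symm.index_eq_card.symm
  have hcop' : (Nat.card K).Coprime K.index := by
    rw [← hidx]
    exact hcopKH
  have hsolv' : Group.IsSolvable K ∨ Group.IsSolvable (f.range ⧸ K) := by
    rcases hsolv with hs | hs
    · right
      have := hs
      obtain ⟨π, hπ⟩ : ∃ π : S₁ →* f.range ⧸ K, π = (QuotientGroup.mk' K).comp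
          (f'.comp S₁.subtype) := ⟨_, rfl⟩
      apply Group.isSolvable_of_surjective (f := π)
      intro q
      obtain ⟨t, rfl⟩ := QuotientGroup.mk_surjective q
      have ht : t ∈ K ⊔ H := by
        rw [hKH]
        exact Subgroup.mem_top t
      rw [Subgroup.mem_sup_of_normal_left] at ht
      obtain ⟨k, hk, h, hh, rfl⟩ := ht
      rw [hH, Subgroup.mem_map] at hh
      obtain ⟨s, hs, rfl⟩ := hh
      refine ⟨⟨s, hs⟩, ?_⟩
      rw [hπ]
      show ((f' s : f.range) : f.range ⧸ K) = ((k * f' s : f.range) : f.range ⧸ K)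
      rw [QuotientGroup.mk_mul, (QuotientGroup.eq_one_iff k).mpr hk, one_mul]
    · left
      obtain ⟨π, hπ⟩ : ∃ π : G₁ →* G₁.map f', π = f'.subgroupMap G₁ := ⟨_, rfl⟩
      have h1 : Group.IsSolvable (G₁.map f') := by
        apply hs _ π
        · rw [hπ]
          exact f'.subgroupMap_surjective G₁
        · intro n hn
          rw [MonoidHom.mem_ker]
          apply Subtype.ext
          rw [hπ]
          show f' (n : B) = 1
          exact hNker (Subgroup.mem_subgroupOf.mp hn)
      rw [hK]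
      exact h1
  have htrans' : ∀ x y : X, ∃ k ∈ K, k • x = y := by
    intro x y
    obtain ⟨g, hg, hgx⟩ := htrans x y
    refine ⟨f' g, ?_, ?_⟩
    · rw [hK]
      exact Subgroup.mem_map_of_mem f' hg
    · rw [hf'x, hgx]
  obtain ⟨⟨x, hx⟩, -⟩ := lead.glauberman K H hidx hcop' hsolv' htrans'
  refine ⟨x, fun s hs => ?_⟩
  rw [← hf'x]
  apply hx
  rw [hH]
  exact Subgroup.mem_map_of_mem f' hs

end Cfsg.Agent.helper22
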