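import Mathlib
import Cfsg.Agent.Lib_helper22_GlaubPerm
import Cfsg.Agent.Lib_helper22_MGroup
import Cfsg.Agent.Lib_helper12_Clifford

set_option autoImplicit false
set_option linter.unusedSectionVars false
set_option linter.unusedVariables false

/-!
Invariant constituents under coprime action (Isaacs 13.27), helper22.
-/

namespace Cfsg.Agent.helper22

open Cfsg
open scoped ComplexConjugate

universe u

section NormAction
variable {Γ : Type u} [Group Γ] (N B : Subgroup Γ) (hB : ∀ b ∈ B, ∀ n ∈ N, b * n * b⁻¹ ∈ N)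

/-- conjugation on `N` by an element of a subgroup `B` normalizing `N` -/
def normConj (b : B) : N ≃* N where
  toFun n := ⟨(b : Γ) * n * (b : Γ)⁻¹, hB b b.2 n n.2⟩
  invFun n := ⟨(b : Γ)⁻¹ * n * (b : Γ), by
    have := hB (b⁻¹ : B) (b⁻¹ : B).2 n n.2
    simpa using this⟩
  left_inv n := by
    apply Subtype.ext
    simp [mul_assoc]
  right_inv n := by
    apply Subtype.ext
    simp [mul_assoc]
  map_mul' x y := by
    apply Subtype.ext
    simp [mul_assoc]

theorem normConj_coe (b : B) (n : N) : ((normConj N B hB b n : N) : Γ) = (b : Γ) * n * (b : Γ)⁻¹ :=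
  rfl

/-- the action of `B` on the irreducible characters of `N` -/
@[reducible]
noncomputable def normIrrAction : MulAction B (IrrCharacter N) where
  smul b θ := ⟨fun n => (θ : N → ℂ) (normConj N B hB b⁻¹ n),
    helper8.isIrrCharacter_comp_mulEquiv (normConj N B hB b⁻¹) θ.2⟩
  one_smul θ := by
    apply Subtype.ext
    funext n
    show (θ : N → ℂ) (normConj N B hB 1⁻¹ n) = (θ : N → ℂ) n
    apply congrArg (θ : N → ℂ)
    apply Subtype.ext
    simp [normConj_coe]
  mul_smul b₁ b₂ θ := by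
    apply Subtype.ext
    funext n
    show (θ : N → ℂ) (normConj N B hB (b₁ * b₂)⁻¹ n) =
      (θ : N → ℂ) (normConj N B hB b₂⁻¹ (normConj N B hB b₁⁻¹ n))
    apply congrArg (θ : N → ℂ)
    apply Subtype.ext
    simp [normConj_coe, mul_assoc]

theorem normIrrAction_apply (b : B) (θ : IrrCharacter N) (n : N) :
    (((normIrrAction N B hB).toSMul.smul b θ : IrrCharacter N) : N → ℂ) n =
      (θ : N → ℂ) (normConj N B hB b⁻¹ n) := rfl

/-- the multiplicity of `θ` in the restriction of a `B`-invariant function is `B`-invariant -/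
theorem classInner_normIrrAction [Fintype N] (F : Γ → ℂ)
    (hF : ∀ b ∈ B, ∀ x : Γ, F (b * x * b⁻¹) = F x) (b : B) (θ : IrrCharacter N) :
    classInner (fun n : N => F n)
      (((normIrrAction N B hB).toSMul.smul b θ : IrrCharacter N) : N → ℂ) =
      classInner (fun n : N => F n) (θ : N → ℂ) := by
  unfold classInner
  congr 1
  rw [← Equiv.sum_comp (normConj N B hB b).toEquiv]
  apply Finset.sum_congr rfl
  intro m _
  rw [normIrrAction_apply]
  have h1 : normConj N B hB b⁻¹ ((normConj N B hB b).toEquiv m) = m := by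
    apply Subtype.ext
    show ((b⁻¹ : B) : Γ) * ((b : Γ) * m * (b : Γ)⁻¹) * ((b⁻¹ : B) : Γ)⁻¹ = m
    simp [mul_assoc]
  rw [h1]
  congr 1
  show F ((b : Γ) * m * (b : Γ)⁻¹) = F m
  exact hF b b.2 m

/-- the action of `B` on the irreducible constituents of the restriction of a `B`-invariant
function -/
@[reducible]
noncomputable def constAction [Fintype N] (F : Γ → ℂ)
    (hF : ∀ b ∈ B, ∀ x : Γ, F (b * x * b⁻¹) = F x) :
    MulAction B {θ : IrrCharacter N // classInner (fun n : N => F n) (θ : N → ℂ) ≠ 0} where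
  smul b x := ⟨(normIrrAction N B hB).toSMul.smul b x.1, by
    rw [classInner_normIrrAction N B hB F hF]
    exact x.2⟩
  one_smul x := Subtype.ext ((normIrrAction N B hB).one_smul x.1)
  mul_smul b₁ b₂ x := Subtype.ext ((normIrrAction N B hB).mul_smul b₁ b₂ x.1)

theorem constAction_apply [Fintype N] (F : Γ → ℂ)
    (hF : ∀ b ∈ B, ∀ x : Γ, F (b * x * b⁻¹) = F x) (b : B)
    (x : {θ : IrrCharacter N // classInner (fun n : N => F n) (θ : N → ℂ) ≠ 0}) (n : N) :
    ((((constAction N B hB F hF).toSMul.smul b x).1 : IrrCharacter N) : N → ℂ) n =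
      ((x.1 : IrrCharacter N) : N → ℂ) (normConj N B hB b⁻¹ n) := rfl

end NormAction

/-- the subgroup of elements under which a function is conjugation invariant -/
def conjStab {Γ : Type u} [Group Γ] (F : Γ → ℂ) : Subgroup Γ where
  carrier := {b | ∀ x : Γ, F (b * x * b⁻¹) = F x}
  mul_mem' := by
    intro a b ha hb x
    have h1 := ha (b * x * b⁻¹)
    rw [hb x] at h1
    rw [← h1]
    congr 1
    group
  one_mem' := by
    intro x
    simp
  inv_mem' := by
    intro a ha x
    have h1 := ha (a⁻¹ * x * a⁻¹⁻¹)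
    rw [← h1]
    congr 1
    group

theorem mem_conjStab {Γ : Type u} [Group Γ] (F : Γ → ℂ) (b : Γ) :
    b ∈ conjStab F ↔ ∀ x : Γ, F (b * x * b⁻¹) = F x := Iff.rfl

/-- a character of nonzero degree has an irreducible constituent -/
theorem exists_constituent_of_char {G : Type u} [Group G] [Fintype G] {ψ : G → ℂ}
    (hψ : IsCharacter G ψ) (h1 : ψ 1 ≠ 0) :
    ∃ θ : IrrCharacter G, classInner ψ (θ : G → ℂ) ≠ 0 := by
  classical
  haveI : Fintype (IrrCharacter G) := Fintype.ofFinite _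
  by_contra hcon
  push Not at hcon
  obtain ⟨c, hexp, hc, -⟩ := helper12.char_decomp hψ
  apply h1
  rw [hexp, Finset.sum_apply]
  apply Finset.sum_eq_zero
  intro θ _
  have h2 : (c θ : ℂ) = 0 := by rw [← hc θ, hcon θ]
  rw [Pi.smul_apply, h2, zero_smul]

/-- **Isaacs 13.27**: an `S`-invariant irreducible character of `G` has an `S`-invariant
irreducible constituent on an `S`-invariant normal subgroup `N` of index prime to `|S|`. -/
theorem exists_invariant_constituent {Γ : Type u} [Group Γ] [Fintype Γ] (G S N : Subgroup Γ)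
    [Fintype G] [Fintype N]
    (hnorm : ∀ s ∈ S, ∀ g ∈ G, s * g * s⁻¹ ∈ G) (hNG : N ≤ G) [hNn : (N.subgroupOf G).Normal]
    (hNS : ∀ s ∈ S, ∀ n ∈ N, s * n * s⁻¹ ∈ N)
    (hcop : (N.relIndex G).Coprime (Nat.card S))
    (hsolv : Group.IsSolvable S ∨ Group.IsSolvable (G ⧸ N.subgroupOf G))
    (χ : IrrCharacter G)
    (hinv : ∀ s ∈ S, ∀ g g' : G, (g' : Γ) = s * g * s⁻¹ → (χ : G → ℂ) g' = (χ : G → ℂ) g) :
    ∃ θ : IrrCharacter N, classInner (fun n : N => (χ : G → ℂ) ⟨n, hNG n.2⟩) (θ : N → ℂ) ≠ 0 ∧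
      (∀ s ∈ S, ∀ g g' : N, (g' : Γ) = s * g * s⁻¹ → (θ : N → ℂ) g' = (θ : N → ℂ) g) := by
  classical
  obtain ⟨F, hFdef⟩ : ∃ F : Γ → ℂ, F = extendByZero G (χ : G → ℂ) := ⟨_, rfl⟩
  have hFmem : ∀ (x : Γ) (hx : x ∈ G), F x = (χ : G → ℂ) ⟨x, hx⟩ := by
    intro x hx
    rw [hFdef]
    exact helper5.extendByZero_of_mem G _ x hx
  have hFnot : ∀ x : Γ, x ∉ G → F x = 0 := by
    intro x hx
    rw [hFdef]
    exact helper5.extendByZero_of_not_mem G _ x hx
  obtain ⟨B, hBdef⟩ : ∃ B : Subgroup Γ, B = G ⊔ S := ⟨_, rfl⟩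
  have hGB : G ≤ B := by rw [hBdef]; exact le_sup_left
  have hSB : S ≤ B := by rw [hBdef]; exact le_sup_right
  have hcf := helper24.char_isClassFunction (helper24.irr_isCharacter χ.2)
  have hGF : G ≤ conjStab F := by
    intro g hg x
    by_cases hx : x ∈ G
    · rw [hFmem x hx, hFmem _ (G.mul_mem (G.mul_mem hg hx) (G.inv_mem hg))]
      exact hcf ⟨x, hx⟩ ⟨g, hg⟩
    · rw [hFnot x hx, hFnot]
      intro h
      apply hx
      have := G.mul_mem (G.mul_mem (G.inv_mem hg) h) hg
      simpa [mul_assoc] using this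
  have hSF : S ≤ conjStab F := by
    intro s hs x
    by_cases hx : x ∈ G
    · rw [hFmem x hx, hFmem _ (hnorm s hs x hx)]
      exact hinv s hs ⟨x, hx⟩ ⟨s * x * s⁻¹, hnorm s hs x hx⟩ rfl
    · rw [hFnot x hx, hFnot]
      intro h
      apply hx
      have := hnorm s⁻¹ (S.inv_mem hs) _ h
      simpa [mul_assoc] using this
  have hBF : ∀ b ∈ B, ∀ x : Γ, F (b * x * b⁻¹) = F x := by
    intro b hb
    have : b ∈ conjStab F := by
      rw [hBdef] at hb
      exact (sup_le hGF hSF) hb
    exact this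
  have hBN : ∀ b ∈ B, ∀ n ∈ N, b * n * b⁻¹ ∈ N := by
    have h1 : B ≤ Subgroup.normalizer (N : Set Γ) := by
      rw [hBdef]
      apply sup_le
      · exact (Subgroup.normal_subgroupOf_iff_le_normalizer hNG).mp hNn
      · exact Subgroup.le_normalizer_iff.mpr hNS
    exact Subgroup.le_normalizer_iff.mp h1
  have hBG : B ≤ Subgroup.normalizer (G : Set Γ) := by
    rw [hBdef]
    exact sup_le Subgroup.le_normalizer (Subgroup.le_normalizer_iff.mpr hnorm)
  have hχN : (fun n : N => (χ : G → ℂ) ⟨n, hNG n.2⟩) = fun n : N => F n := by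
    funext n
    rw [hFmem]
  rw [hχN]
  letI act := constAction N B hBN F hBF
  haveI : Nonempty {θ : IrrCharacter N // classInner (fun n : N => F n) (θ : N → ℂ) ≠ 0} := by
    have h1 : IsCharacter N (fun n : N => F n) := by
      rw [← hχN]
      exact helper8.isCharacter_comp_monoidHom (Subgroup.inclusion hNG)
        (helper24.irr_isCharacter χ.2)
    have h2 : (fun n : N => F n) 1 ≠ 0 := by
      rw [← hχN]
      exact helper24.irr_apply_one_ne_zero χ.2
    obtain ⟨θ, hθ⟩ := exists_constituent_of_char h1 h2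
    exact ⟨⟨θ, hθ⟩⟩
  haveI hG₁ : (G.subgroupOf B).Normal :=
    (Subgroup.normal_subgroupOf_iff_le_normalizer hGB).mpr hBG
  have hGS : G.subgroupOf B ⊔ S.subgroupOf B = ⊤ := by
    rw [← Subgroup.subgroupOf_sup hGB hSB, ← hBdef, Subgroup.subgroupOf_self]
  have hNG₁ : N.subgroupOf B ≤ G.subgroupOf B := by
    intro x hx
    exact hNG hx
  have hsmul : ∀ (b : B)
      (x : {θ : IrrCharacter N // classInner (fun n : N => F n) (θ : N → ℂ) ≠ 0}) (n : N),
      (((b • x).1 : IrrCharacter N) : N → ℂ) n =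
        ((x.1 : IrrCharacter N) : N → ℂ) (normConj N B hBN b⁻¹ n) := fun b x n => rfl
  have htriv : ∀ n ∈ N.subgroupOf B,
      ∀ x : {θ : IrrCharacter N // classInner (fun n : N => F n) (θ : N → ℂ) ≠ 0},
      n • x = x := by
    intro n hn x
    apply Subtype.ext
    apply Subtype.ext
    funext m
    rw [hsmul]
    have hcfθ := helper24.char_isClassFunction (helper24.irr_isCharacter (x.1 : IrrCharacter N).2)
    have h1 : normConj N B hBN n⁻¹ m = (⟨(n : Γ)⁻¹, N.inv_mem hn⟩ : N) * m *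
        (⟨(n : Γ)⁻¹, N.inv_mem hn⟩ : N)⁻¹ := by
      apply Subtype.ext
      rfl
    rw [h1]
    exact hcfθ m _
  have hcop₁ : ((N.subgroupOf B).relIndex (G.subgroupOf B)).Coprime
      (Nat.card (S.subgroupOf B)) := by
    rw [Subgroup.relIndex_subgroupOf hGB,
      Nat.card_congr (Subgroup.subgroupOfEquivOfLe hSB).toEquiv]
    exact hcop
  have hsolv₁ : Group.IsSolvable (S.subgroupOf B) ∨ ∀ (R : Type u) [Group R]
      (π : G.subgroupOf B →* R), Function.Surjective π →
      (N.subgroupOf B).subgroupOf (G.subgroupOf B) ≤ π.ker → Group.IsSolvable R := by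
    rcases hsolv with hs | hs
    · left
      exact lead.solvable_subgroupOf_of_solvable S B hs
    · right
      intro R _ π hπ hker
      obtain ⟨j, hj⟩ : ∃ j : G ≃* G.subgroupOf B, ∀ g : G, ((j g : G.subgroupOf B) : Γ) = g := by
        refine ⟨(Subgroup.subgroupOfEquivOfLe hGB).symm, ?_⟩
        intro g
        simp
      have hker' : N.subgroupOf G ≤ (π.comp j.toMonoidHom).ker := by
        intro a ha
        rw [MonoidHom.mem_ker]
        show π (j a) = 1
        rw [← MonoidHom.mem_ker]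
        apply hker
        rw [Subgroup.mem_subgroupOf, Subgroup.mem_subgroupOf, hj]
        exact ha
      have := hs
      apply Group.isSolvable_of_surjective
        (f := QuotientGroup.lift (N.subgroupOf G) (π.comp j.toMonoidHom) hker')
      intro r
      obtain ⟨y, rfl⟩ := hπ r
      refine ⟨((j.symm y : G) : G ⧸ N.subgroupOf G), ?_⟩
      rw [QuotientGroup.lift_mk]
      show π (j (j.symm y)) = π y
      rw [MulEquiv.apply_symm_apply]
  have htrans : ∀ x y : {θ : IrrCharacter N // classInner (fun n : N => F n) (θ : N → ℂ) ≠ 0},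
      ∃ g ∈ G.subgroupOf B, g • x = y := by
    intro x y
    haveI : Fintype (N.subgroupOf G) := Fintype.ofFinite _
    obtain ⟨ε, hε⟩ : ∃ ε : N.subgroupOf G ≃* N, ∀ a : N.subgroupOf G, ((ε a : N) : Γ) = (a : G) :=
      ⟨Subgroup.subgroupOfEquivOfLe hNG, fun a => rfl⟩
    have hres : helper5.res (N.subgroupOf G) (χ : G → ℂ) = fun a => (fun n : N => F n) (ε a) := by
      funext a
      rw [helper5.res_apply]
      show (χ : G → ℂ) (a : G) = F ((ε a : N) : Γ)
      rw [hε, hFmem _ (a : G).2]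
    have hcx : classInner (helper5.res (N.subgroupOf G) (χ : G → ℂ))
        (fun a => ((x.1 : IrrCharacter N) : N → ℂ) (ε a)) ≠ 0 := by
      rw [hres]
      have h1 := helper12.classInner_comp_mulEquiv ε (fun n : N => F n)
        ((x.1 : IrrCharacter N) : N → ℂ)
      rw [h1]
      exact x.2
    have hcy : classInner (helper5.res (N.subgroupOf G) (χ : G → ℂ))
        (fun a => ((y.1 : IrrCharacter N) : N → ℂ) (ε a)) ≠ 0 := by
      rw [hres]
      have h1 := helper12.classInner_comp_mulEquiv ε (fun n : N => F n)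
        ((y.1 : IrrCharacter N) : N → ℂ)
      rw [h1]
      exact y.2
    obtain ⟨g, hg⟩ := helper5.clifford_conj (N.subgroupOf G) χ.2
      (helper8.isIrrCharacter_comp_mulEquiv ε (x.1 : IrrCharacter N).2)
      (helper8.isIrrCharacter_comp_mulEquiv ε (y.1 : IrrCharacter N).2) hcx hcy
    refine ⟨⟨(g : Γ)⁻¹, hGB (G.inv_mem g.2)⟩, ?_, ?_⟩
    · rw [Subgroup.mem_subgroupOf]
      exact G.inv_mem g.2
    · apply Subtype.ext
      apply Subtype.ext
      funext m
      rw [hsmul]
      have h1 := congrFun hg (ε.symm m)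
      rw [helper8.conjFunN_apply] at h1
      simp only [MulEquiv.apply_symm_apply] at h1
      rw [h1]
      apply congrArg ((x.1 : IrrCharacter N) : N → ℂ)
      apply Subtype.ext
      rw [hε]
      show (g : Γ)⁻¹⁻¹ * (m : Γ) * ((g : Γ)⁻¹)⁻¹⁻¹ = (g : Γ) * (((ε.symm m : N.subgroupOf G) : G) : Γ)
        * ((g : G)⁻¹ : G)
      have h2 : (((ε.symm m : N.subgroupOf G) : G) : Γ) = (m : Γ) := by
        rw [← hε, MulEquiv.apply_symm_apply]
      rw [h2]
      simp
  obtain ⟨x, hx⟩ := glauberman_perm (B := B) (G.subgroupOf B) (S.subgroupOf B) (N.subgroupOf B)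
    hGS hNG₁ htriv hcop₁ hsolv₁ htrans
  refine ⟨x.1, x.2, ?_⟩
  intro s hs g g' hgg'
  have h1 := hx ⟨s⁻¹, hSB (S.inv_mem hs)⟩ (by
    rw [Subgroup.mem_subgroupOf]
    exact S.inv_mem hs)
  have h2 : (((((⟨s⁻¹, hSB (S.inv_mem hs)⟩ : B) • x).1 : IrrCharacter N) : N → ℂ) g) =
      ((x.1 : IrrCharacter N) : N → ℂ) g := by rw [h1]
  rw [hsmul] at h2
  rw [← h2]
  apply congrArg ((x.1 : IrrCharacter N) : N → ℂ)
  apply Subtype.ext
  rw [hgg']
  show s * (g : Γ) * s⁻¹ = (s⁻¹)⁻¹ * (g : Γ) * ((s⁻¹)⁻¹)⁻¹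
  simp

end Cfsg.Agent.helper22
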