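import Cfsg.Agent.Lib_helper12_CharOps

set_option autoImplicit false

namespace Cfsg.Agent.helper12

open Cfsg
open scoped ComplexConjugate

variable {G : Type*} [Group G]

/-- expansion of a class function with integer multiplicities, and its norm -/
theorem virtual_decomp [Fintype G] [Fintype (IrrCharacter G)] {f : G → ℂ} (hf : IsClassFunction G f)
    (hint : ∀ ψ : IrrCharacter G, ∃ z : ℤ, classInner f (ψ : G → ℂ) = z) :
    ∃ z : IrrCharacter G → ℤ, (f = ∑ ψ : IrrCharacter G, (z ψ : ℂ) • (ψ : G → ℂ)) ∧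
      (∀ ψ : IrrCharacter G, classInner f (ψ : G → ℂ) = z ψ) ∧
      classInner f f = ((∑ ψ : IrrCharacter G, z ψ ^ 2 : ℤ) : ℂ) := by
  classical
  choose z hz using hint
  have hexp : f = ∑ ψ : IrrCharacter G, (z ψ : ℂ) • (ψ : G → ℂ) := by
    conv_lhs => rw [helper24.classFunction_expansion hf]
    apply Finset.sum_congr rfl
    intro ψ _
    rw [hz ψ]
  refine ⟨z, hexp, hz, ?_⟩
  conv_lhs => arg 1; rw [hexp]
  rw [helper24.classInner_sum_left, Int.cast_sum]
  apply Finset.sum_congr rfl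
  intro ψ _
  rw [helper24.classInner_smul_left, ← helper24.classInner_conj_symm, hz ψ, map_intCast]
  push_cast
  ring

/-- a virtual character of norm one with positive degree is irreducible -/
theorem isIrrCharacter_of_virtual [Fintype G] {f : G → ℂ} (hf : IsClassFunction G f)
    (hint : ∀ ψ : IrrCharacter G, ∃ z : ℤ, classInner f (ψ : G → ℂ) = z)
    (hnorm : classInner f f = 1) (d : ℕ) (hd : 0 < d) (h1 : f 1 = d) : IsIrrCharacter G f := by
  classical
  have : Fintype (IrrCharacter G) := Fintype.ofFinite _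
  obtain ⟨z, hexp, hz, hn⟩ := virtual_decomp hf hint
  rw [hnorm] at hn
  have hsum : ∑ ψ : IrrCharacter G, z ψ ^ 2 = 1 := by exact_mod_cast hn.symm
  have hex : ∃ ψ0, z ψ0 ≠ 0 := by
    by_contra hcon
    push Not at hcon
    simp [hcon] at hsum
  obtain ⟨ψ0, h0⟩ := hex
  have hsplit := Finset.add_sum_erase Finset.univ (fun ψ => z ψ ^ 2) (Finset.mem_univ ψ0)
  rw [hsum] at hsplit
  have hpos : 1 ≤ z ψ0 ^ 2 := by
    have : 0 < z ψ0 ^ 2 := by positivity
    omega
  have hnn : 0 ≤ ∑ ψ ∈ Finset.univ.erase ψ0, z ψ ^ 2 := Finset.sum_nonneg (fun ψ _ => sq_nonneg _)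
  have hrest : ∑ ψ ∈ Finset.univ.erase ψ0, z ψ ^ 2 = 0 := by omega
  have h01 : z ψ0 ^ 2 = 1 := by omega
  have hzero : ∀ ψ, ψ ≠ ψ0 → z ψ = 0 := by
    intro ψ hψ
    have := (Finset.sum_eq_zero_iff_of_nonneg (fun ψ _ => sq_nonneg (z ψ))).mp hrest ψ
      (Finset.mem_erase.mpr ⟨hψ, Finset.mem_univ ψ⟩)
    exact pow_eq_zero_iff (two_ne_zero) |>.mp this
  have hf0 : f = (z ψ0 : ℂ) • (ψ0 : G → ℂ) := by
    conv_lhs => rw [hexp]
    rw [Finset.sum_eq_single ψ0]
    · intro ψ _ hψ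
      rw [hzero ψ hψ, Int.cast_zero, zero_smul]
    · intro h; exact absurd (Finset.mem_univ ψ0) h
  obtain ⟨n, hn0, hn1⟩ := helper24.irr_apply_one ψ0.2
  have hval : (d : ℂ) = (z ψ0 : ℂ) * n := by
    rw [← h1, hf0, Pi.smul_apply, smul_eq_mul, hn1]
  have hval' : (d : ℤ) = z ψ0 * n := by exact_mod_cast hval
  have hz1 : z ψ0 = 1 := by
    rcases sq_eq_one_iff.mp h01 with h | h
    · exact h
    · exfalso
      rw [h] at hval'
      have : (0 : ℤ) < d := by exact_mod_cast hd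
      have : (0 : ℤ) < n := by exact_mod_cast hn0
      omega
  rw [hf0, hz1, Int.cast_one, one_smul]
  exact ψ0.2

end Cfsg.Agent.helper12
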