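import Mathlib
import Cfsg.Agent.Lib_helper23_LinChar
import Cfsg.Agent.Lib_helper12_CharOps

set_option autoImplicit false
set_option linter.unusedSectionVars false
set_option linter.unusedVariables false

/-!
Extension of invariant linear characters (helper22), via the transfer.

* `transfer_of_invariant` : the transfer of `ϕ : H →* A` at an element `n` all of whose conjugates
  lie in `H` and have the same image under `ϕ` is `ϕ n ^ [G : H]`;
* `exists_extend_pow` : if the invariant `lam : N →* A` (`N` normal) extends to `H ≥ N`, then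
  `lam ^ [G : H]` extends to `G`;
* `exists_extend_coprime` : an invariant `lam` with `lam ^ r = 1`, `r` coprime to `[G : N]`, extends;
* `linear_iff_hom` : characters of degree one are the homomorphisms to `ℂˣ`.
-/

namespace Cfsg.Agent.helper22

open Cfsg
open Subgroup Subgroup.leftTransversals MulAction
open scoped Pointwise

universe u

theorem transfer_of_invariant {G : Type*} [Group G] (H : Subgroup G) [H.FiniteIndex] {A : Type*}
    [CommGroup A] (ϕ : H →* A) (n : G) (h2 : n ∈ H) (hn : ∀ x : G, x⁻¹ * n * x ∈ H)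
    (hinv : ∀ x : G, ϕ ⟨x⁻¹ * n * x, hn x⟩ = ϕ ⟨n, h2⟩) :
    MonoidHom.transfer ϕ n = ϕ ⟨n, h2⟩ ^ H.index := by
  classical
  let T : H.LeftTransversal := default
  letI := H.fintypeQuotientOfFiniteIndex
  rw [MonoidHom.transfer_def ϕ T]
  have hfix : ∀ q : G ⧸ H, n⁻¹ • q = q := by
    intro q
    induction q using QuotientGroup.induction_on with
    | H t =>
      show ((n⁻¹ * t : G) : G ⧸ H) = (t : G ⧸ H)
      rw [QuotientGroup.eq]
      have := hn t
      simpa [mul_assoc] using this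
  have hterm : ∀ q : G ⧸ H, ∀ hmem,
      ϕ ⟨((T.2.leftQuotientEquiv q : G))⁻¹ * ((n • T).2.leftQuotientEquiv q : G), hmem⟩ =
        ϕ ⟨n, h2⟩ := by
    intro q hmem
    rw [← hinv (T.2.leftQuotientEquiv q : G)]
    congr 1
    apply Subtype.ext
    show ((T.2.leftQuotientEquiv q : G))⁻¹ * ((n • T).2.leftQuotientEquiv q : G) = _
    rw [smul_apply_eq_smul_apply_inv_smul, hfix q, smul_eq_mul]
    exact (mul_assoc _ _ _).symm
  show (∏ q : G ⧸ H,
    ϕ ⟨((T.2.leftQuotientEquiv q : G))⁻¹ * ((n • T).2.leftQuotientEquiv q : G), _⟩) = _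
  rw [Finset.prod_congr rfl (fun q _ => hterm q _), Finset.prod_const, Finset.card_univ,
    Subgroup.index_eq_card, Nat.card_eq_fintype_card]

section
variable {G : Type u} [Group G] [Finite G]

theorem linear_iff_hom {χ : G → ℂ} :
    (IsCharacter G χ ∧ χ 1 = 1) ↔ ∃ φ : G →* ℂˣ, ∀ g, χ g = ((φ g : ℂˣ) : ℂ) := by
  constructor
  · rintro ⟨h1, h2⟩
    exact helper23.exists_hom_of_linear h1 h2
  · rintro ⟨φ, hφ⟩
    have h1 := helper12.isCharacter_of_monoidHom ((Units.coeHom ℂ).comp φ)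
    have h2 : χ = ((Units.coeHom ℂ).comp φ : G → ℂ) := by
      funext g
      rw [hφ g]
      rfl
    rw [h2]
    refine ⟨h1, ?_⟩
    simp

/-- If the `G`-invariant `lam` on the normal subgroup `N` extends to `H`, then `lam ^ [G : H]`
extends to `G`. -/
theorem exists_extend_pow {A : Type*} [CommGroup A] (N H : Subgroup G) [hN : N.Normal]
    (hNH : N ≤ H) (lam : N →* A)
    (hinv : ∀ (g : G) (n : N), lam ⟨g * n * g⁻¹, hN.conj_mem (n : G) n.2 g⟩ = lam n)
    (ν : H →* A) (hν : ∀ n : N, ν ⟨(n : G), hNH n.2⟩ = lam n) :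
    ∃ μ : G →* A, ∀ n : N, μ (n : G) = lam n ^ H.index := by
  refine ⟨MonoidHom.transfer ν, fun n => ?_⟩
  have hnN : ∀ x : G, x⁻¹ * (n : G) * x ∈ N := fun x => by
    have := hN.conj_mem n n.2 x⁻¹
    simpa using this
  have hn : ∀ x : G, x⁻¹ * (n : G) * x ∈ H := fun x => hNH (hnN x)
  rw [transfer_of_invariant H ν (n : G) (hNH n.2) hn ?_, hν n]
  intro x
  have h1 := hν ⟨x⁻¹ * (n : G) * x, hnN x⟩
  have h2 : lam ⟨x⁻¹ * (n : G) * x, hnN x⟩ = lam n := by
    rw [← hinv x⁻¹ n]
    congr 1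
    apply Subtype.ext
    simp
  rw [hν n, ← h2, ← h1]

/-- An invariant `lam` with `lam ^ r = 1`, `r` coprime to the index, extends to `G`. -/
theorem exists_extend_coprime {A : Type*} [CommGroup A] (N : Subgroup G) [hN : N.Normal]
    (lam : N →* A)
    (hinv : ∀ (g : G) (n : N), lam ⟨g * n * g⁻¹, hN.conj_mem (n : G) n.2 g⟩ = lam n)
    (r : ℕ) (hr : ∀ n : N, lam n ^ r = 1) (hcop : Nat.Coprime N.index r) :
    ∃ μ : G →* A, ∀ n : N, μ (n : G) = lam n := by
  obtain ⟨μ₀, hμ₀⟩ := exists_extend_pow N N le_rfl lam hinv lam (fun n => rfl)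
  refine ⟨μ₀ ^ (Nat.gcdA N.index r), fun n => ?_⟩
  have hb := Nat.gcd_eq_gcd_ab N.index r
  rw [hcop.gcd_eq_one] at hb
  rw [MonoidHom.zpow_apply, hμ₀ n, ← zpow_natCast, ← zpow_mul]
  have h1 : (N.index : ℤ) * Nat.gcdA N.index r = 1 - r * Nat.gcdB N.index r := by
    push_cast at hb
    linarith
  rw [h1, zpow_sub, zpow_one, zpow_mul, zpow_natCast, hr n, one_zpow, inv_one, mul_one]

end

end Cfsg.Agent.helper22
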