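import Mathlib
import Cfsg.Agent.Lib_helper22_Gallagher
import Cfsg.Agent.Lib_helper22_Det
import Cfsg.Agent.Lib_helper22_ExtLin
import Cfsg.Statements.S0862
-- import your own Cfsg.Agent.* helpers here

set_option autoImplicit false
open Cfsg

namespace Cfsg.Agent.S0862

open Cfsg.Agent

/-- an element killed by two coprime powers is trivial -/
theorem eq_one_of_coprime_pow {A : Type*} [Group A] (u : A) (e d : ℕ)
    (hcop : Nat.Coprime e d) (he : u ^ e = 1) (hd : u ^ d = 1) : u = 1 := by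
  have := pow_gcd_eq_one.mpr ⟨he, hd⟩
  rwa [hcop.gcd_eq_one, pow_one] at this

/-- Let N be a normal subgroup of the finite group G and ϑ an irreducible character of N of degree d coprime to the index of N, which is the restriction of some irreducible character of G. Let μ be a character of G of degree 1 whose restriction to N is the determinantal character of ϑ. Then there is exactly one irreducible character χ of G restricting to ϑ whose determinantal character is μ. -/
theorem result {G : Type*} [Group G] [Finite G] (N : Subgroup G) [N.Normal] (ϑ : N → ℂ) (hϑ : Cfsg.IsIrrCharacter N ϑ) (d : ℕ) (hd : ϑ 1 = d) (hcop : Nat.Coprime N.index d) (hext : ∃ η : G → ℂ, Cfsg.IsIrrCharacter G η ∧ (∀ n : N, η n = ϑ n)) (μ : G → ℂ) (hμ : Cfsg.IsCharacter G μ ∧ μ 1 = 1) (hμN : ∀ n : N, μ n = Cfsg.detChar ϑ n) : ∃! χ : G → ℂ, Cfsg.IsIrrCharacter G χ ∧ (∀ n : N, χ n = ϑ n) ∧ Cfsg.detChar χ = μ := by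
  classical
  haveI : Fintype G := Fintype.ofFinite G
  haveI : Fintype N := Fintype.ofFinite N
  haveI : Fintype (IrrCharacter (G ⧸ N)) := Fintype.ofFinite _
  obtain ⟨η, hη, hηN⟩ := hext
  have hres : helper5.res N η = ϑ := funext hηN
  have hηϑ : IsIrrCharacter N (helper5.res N η) := hres ▸ hϑ
  obtain ⟨μ', hμ'⟩ := helper22.linear_iff_hom.mp hμ
  obtain ⟨D, hD⟩ := helper22.exists_detHom hη
  have hη1 : η 1 = d := by
    rw [← hd, ← hηN 1]
    rfl
  have hd0 : (d : ℂ) ≠ 0 := by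
    rw [← hη1]
    exact helper24.irr_apply_one_ne_zero hη
  obtain ⟨ν, hν⟩ : ∃ ν : G →* ℂˣ, ν = μ' / D := ⟨_, rfl⟩
  have hνN : ∀ n : N, ν (n : G) = 1 := by
    intro n
    rw [hν, MonoidHom.div_apply, div_eq_one]
    apply Units.ext
    rw [← hμ', ← hD, hμN, ← hres, helper22.detChar_res N hη hηϑ]
  obtain ⟨e, he⟩ : ∃ e, e = N.index := ⟨_, rfl⟩
  have hpowe : ∀ (φ : G →* ℂˣ), (∀ n : N, φ (n : G) = 1) → ∀ g, φ g ^ e = 1 := by
    intro φ hφ g
    rw [← map_pow]
    have hmem : g ^ e ∈ N := by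
      rw [he]
      exact Subgroup.pow_index_mem N g
    exact hφ ⟨_, hmem⟩
  have hcop' : Nat.Coprime e d := he ▸ hcop
  have hb := Nat.gcd_eq_gcd_ab e d
  rw [hcop'.gcd_eq_one] at hb
  obtain ⟨δ, hδ⟩ : ∃ δ : G →* ℂˣ, ∀ g, δ g = ν g ^ (Nat.gcdB e d) :=
    ⟨(zpowGroupHom (Nat.gcdB e d)).comp ν, fun g => rfl⟩
  have hδN : ∀ n : N, δ (n : G) = 1 := by
    intro n
    rw [hδ, hνN, one_zpow]
  have hδd : ∀ g, δ g ^ d = ν g := by
    intro g
    rw [hδ, ← zpow_natCast, ← zpow_mul]
    have h1 : Nat.gcdB e d * (d : ℤ) = 1 - e * Nat.gcdA e d := by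
      have : ((1 : ℕ) : ℤ) = 1 := Nat.cast_one
      linarith
    rw [h1, zpow_sub, zpow_one, zpow_mul, zpow_natCast, hpowe ν hνN, one_zpow, inv_one, mul_one]
  have hδdg : ∀ g, ((δ g : ℂˣ) : ℂ) ^ d * ((D g : ℂˣ) : ℂ) = ((μ' g : ℂˣ) : ℂ) := by
    intro g
    have h1 := hδd g
    rw [hν, MonoidHom.div_apply] at h1
    have h2 : (δ g) ^ d * D g = μ' g := by
      rw [h1, div_mul_cancel]
    rw [← h2]
    push_cast
    rfl
  refine ⟨fun g => ((δ g : ℂˣ) : ℂ) * η g, ⟨helper22.twist_isIrr δ hη, ?_, ?_⟩, ?_⟩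
  · intro n
    show ((δ (n : G) : ℂˣ) : ℂ) * η n = ϑ n
    rw [hδN, Units.val_one, one_mul, hηN]
  · funext g
    rw [helper22.detChar_twist δ hη d hη1 g, hD, hδdg, hμ']
  · rintro χ' ⟨hχ', hχ'N, hχ'det⟩
    obtain ⟨hG1, hG2, hG3⟩ := helper22.gallagher N hη hηϑ
    have hne : classInner (helper5.res N χ') (helper5.res N η) ≠ 0 := by
      have h1 : helper5.res N χ' = ϑ := funext hχ'N
      rw [h1, hres, helper24.irr_classInner_self hϑ]
      exact one_ne_zero
    obtain ⟨β, hβ⟩ := hG3 χ' hχ' hne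
    have hβ1 : (β : G ⧸ N → ℂ) 1 = 1 := by
      have h1 := congrFun hβ 1
      rw [Pi.mul_apply, helper22.infl_apply, hη1] at h1
      have h2 : χ' 1 = d := by
        rw [← hd, ← hχ'N 1]
        rfl
      rw [h2] at h1
      have h3 : ((1 : G) : G ⧸ N) = 1 := rfl
      rw [h3] at h1
      have h4 : ((β : G ⧸ N → ℂ) 1 - 1) * (d : ℂ) = 0 := by
        rw [sub_mul, one_mul, ← h1, sub_self]
      rcases mul_eq_zero.mp h4 with h5 | h5
      · exact sub_eq_zero.mp h5
      · exact absurd h5 hd0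
    have hlin : IsCharacter G (helper22.infl N (β : G ⧸ N → ℂ)) ∧
        helper22.infl N (β : G ⧸ N → ℂ) 1 = 1 :=
      ⟨helper24.char_inflation N (helper24.irr_isCharacter β.2), hβ1⟩
    obtain ⟨lam, hlam⟩ := helper22.linear_iff_hom.mp hlin
    have hlamN : ∀ n : N, lam (n : G) = 1 := by
      intro n
      apply Units.ext
      rw [← hlam, helper22.infl_apply, (QuotientGroup.eq_one_iff _).mpr n.2, hβ1]
      rfl
    have hχ'eq : χ' = fun g => ((lam g : ℂˣ) : ℂ) * η g := by
      rw [hβ]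
      funext g
      rw [Pi.mul_apply, hlam]
    have hlamd : ∀ g, lam g ^ d = ν g := by
      intro g
      have h1 := congrFun hχ'det g
      rw [hχ'eq, helper22.detChar_twist lam hη d hη1 g, hD, hμ'] at h1
      have h2 : lam g ^ d * D g = μ' g := by
        apply Units.ext
        push_cast
        exact h1
      rw [hν, MonoidHom.div_apply, eq_div_iff_mul_eq']
      exact h2
    have hq : ∀ g, lam g = δ g := by
      intro g
      have h1 : lam g / δ g = 1 := by
        apply eq_one_of_coprime_pow (lam g / δ g) e d hcop'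
        · rw [div_pow, hpowe lam hlamN, hpowe δ hδN, div_one]
        · rw [div_pow, hlamd, hδd, div_self']
      exact div_eq_one.mp h1
    rw [hχ'eq]
    funext g
    rw [hq g]

end Cfsg.Agent.S0862
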