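import Mathlib
import Cfsg.Agent.Lib_helper22_RealRep
import Cfsg.Agent.Lib_helper24_CharKer

set_option autoImplicit false
set_option linter.unusedSectionVars false
set_option linter.unusedVariables false

/-!
Extension of homomorphisms and characters over a cyclic quotient (helper22).

* `hom_cyclic_extension` : `N ⊲ G`, `G = ⋃ N g₀ ^ i`, `f : N →* A`, `u : A` with
  `u * f n * u⁻¹ = f (g₀ n g₀⁻¹)` and `u ^ k = f (g₀ ^ k)` whenever `g₀ ^ k ∈ N`: then `f` extends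
  to `F : G →* A` with `F g₀ = u`;
* `exists_extension_of_cyclic` : an invariant irreducible character of `N` extends to `G` when
  `G ⧸ N` is cyclic.
-/

namespace Cfsg.Agent.helper22

open Cfsg

universe u

section Hom
variable {G : Type*} [Group G] (N : Subgroup G) [hN : N.Normal] {A : Type*} [Group A]

theorem zpow_conj (g₀ : G) (f : N →* A) (u : A)
    (hconj : ∀ n : N, u * f n * u⁻¹ = f ⟨g₀ * n * g₀⁻¹, hN.conj_mem n n.2 g₀⟩) :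
    ∀ (i : ℤ) (n : N) (hm : g₀ ^ i * n * g₀ ^ (-i) ∈ N),
      u ^ i * f n * u ^ (-i) = f ⟨g₀ ^ i * n * g₀ ^ (-i), hm⟩ := by
  have hconj' : ∀ n : N, u⁻¹ * f n * u = f ⟨g₀⁻¹ * n * g₀, by
      have := hN.conj_mem n n.2 g₀⁻¹
      simpa using this⟩ := by
    intro n
    have h1 := hconj ⟨g₀⁻¹ * n * g₀, by
      have := hN.conj_mem n n.2 g₀⁻¹
      simpa using this⟩
    have h2 : (⟨g₀ * ((⟨g₀⁻¹ * n * g₀, by
      have := hN.conj_mem n n.2 g₀⁻¹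
      simpa using this⟩ : N) : G) * g₀⁻¹, hN.conj_mem _ (by
      have := hN.conj_mem n n.2 g₀⁻¹
      simpa using this) g₀⟩ : N) = n := by
      apply Subtype.ext
      show g₀ * (g₀⁻¹ * n * g₀) * g₀⁻¹ = n
      group
    rw [h2] at h1
    rw [← h1]
    group
  intro i
  induction i using Int.induction_on with
  | zero =>
    intro n hm
    have : (⟨g₀ ^ (0 : ℤ) * n * g₀ ^ (-(0 : ℤ)), hm⟩ : N) = n := by
      apply Subtype.ext
      simp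
    rw [this]
    simp
  | succ i ih =>
    intro n hm
    have hm' : g₀ ^ (i : ℤ) * n * g₀ ^ (-(i : ℤ)) ∈ N := by
      have := hN.conj_mem n n.2 (g₀ ^ (i : ℤ))
      rwa [← zpow_neg] at this
    have h1 := ih n hm'
    have h2 := hconj ⟨g₀ ^ (i : ℤ) * n * g₀ ^ (-(i : ℤ)), hm'⟩
    rw [← h1] at h2
    have h3 : (⟨g₀ * ((⟨g₀ ^ (i : ℤ) * n * g₀ ^ (-(i : ℤ)), hm'⟩ : N) : G) * g₀⁻¹,
        hN.conj_mem _ hm' g₀⟩ : N) = ⟨g₀ ^ ((i : ℤ) + 1) * n * g₀ ^ (-((i : ℤ) + 1)), hm⟩ := by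
      apply Subtype.ext
      show g₀ * (g₀ ^ (i : ℤ) * n * g₀ ^ (-(i : ℤ))) * g₀⁻¹ =
        g₀ ^ ((i : ℤ) + 1) * n * g₀ ^ (-((i : ℤ) + 1))
      group
    rw [h3] at h2
    rw [← h2]
    group
  | pred i ih =>
    intro n hm
    have hm' : g₀ ^ (-(i : ℤ)) * n * g₀ ^ (-(-(i : ℤ))) ∈ N := by
      have := hN.conj_mem n n.2 (g₀ ^ (-(i : ℤ)))
      rwa [← zpow_neg] at this
    have h1 := ih n hm'
    have h2 := hconj' ⟨g₀ ^ (-(i : ℤ)) * n * g₀ ^ (-(-(i : ℤ))), hm'⟩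
    rw [← h1] at h2
    have h3 : (⟨g₀⁻¹ * ((⟨g₀ ^ (-(i : ℤ)) * n * g₀ ^ (-(-(i : ℤ))), hm'⟩ : N) : G) * g₀, by
        have := hN.conj_mem _ hm' g₀⁻¹
        simpa using this⟩ : N) =
        ⟨g₀ ^ (-(i : ℤ) - 1) * n * g₀ ^ (-(-(i : ℤ) - 1)), hm⟩ := by
      apply Subtype.ext
      show g₀⁻¹ * (g₀ ^ (-(i : ℤ)) * n * g₀ ^ (-(-(i : ℤ)))) * g₀ =
        g₀ ^ (-(i : ℤ) - 1) * n * g₀ ^ (-(-(i : ℤ) - 1))
      group
    rw [h3] at h2
    rw [← h2]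
    group

theorem hom_cyclic_extension (g₀ : G) (hgen : ∀ x : G, ∃ i : ℤ, x * g₀ ^ (-i) ∈ N)
    (f : N →* A) (u : A)
    (hconj : ∀ n : N, u * f n * u⁻¹ = f ⟨g₀ * n * g₀⁻¹, hN.conj_mem n n.2 g₀⟩)
    (hpow : ∀ (k : ℤ) (hk : g₀ ^ k ∈ N), u ^ k = f ⟨g₀ ^ k, hk⟩) :
    ∃ F : G →* A, (∀ n : N, F (n : G) = f n) ∧ F g₀ = u := by
  classical
  have hzconj := zpow_conj N g₀ f u hconj
  -- independence of the exponent
  have hindep : ∀ (x : G) (i j : ℤ) (hi : x * g₀ ^ (-i) ∈ N) (hj : x * g₀ ^ (-j) ∈ N),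
      f ⟨x * g₀ ^ (-i), hi⟩ * u ^ i = f ⟨x * g₀ ^ (-j), hj⟩ * u ^ j := by
    intro x i j hi hj
    have hk : g₀ ^ (i - j) ∈ N := by
      have h1 : g₀ ^ (i - j) = (x * g₀ ^ (-i))⁻¹ * (x * g₀ ^ (-j)) := by group
      rw [h1]
      exact N.mul_mem (N.inv_mem hi) hj
    have h2 : (⟨x * g₀ ^ (-j), hj⟩ : N) = ⟨x * g₀ ^ (-i), hi⟩ * ⟨g₀ ^ (i - j), hk⟩ := by
      apply Subtype.ext
      show x * g₀ ^ (-j) = x * g₀ ^ (-i) * g₀ ^ (i - j)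
      group
    rw [h2, map_mul, ← hpow (i - j) hk, mul_assoc, ← zpow_add]
    congr 2
    ring
  choose e he using hgen
  have hval : ∀ (x : G) (i : ℤ) (hi : x * g₀ ^ (-i) ∈ N),
      f ⟨x * g₀ ^ (-(e x)), he x⟩ * u ^ (e x) = f ⟨x * g₀ ^ (-i), hi⟩ * u ^ i :=
    fun x i hi => hindep x (e x) i (he x) hi
  refine ⟨{ toFun := fun x => f ⟨x * g₀ ^ (-(e x)), he x⟩ * u ^ (e x)
            map_one' := ?_
            map_mul' := ?_ }, ?_, ?_⟩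
  · have h0 : (1 : G) * g₀ ^ (-(0 : ℤ)) ∈ N := by simp
    rw [hval 1 0 h0]
    have : (⟨(1 : G) * g₀ ^ (-(0 : ℤ)), h0⟩ : N) = 1 := by
      apply Subtype.ext
      simp
    rw [this]
    simp
  · intro x y
    have hxy : x * y * g₀ ^ (-(e x + e y)) ∈ N := by
      have h1 : x * y * g₀ ^ (-(e x + e y)) =
          (x * g₀ ^ (-(e x))) * (g₀ ^ (e x) * (y * g₀ ^ (-(e y))) * g₀ ^ (-(e x))) := by group
      rw [h1]
      apply N.mul_mem (he x)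
      have := hN.conj_mem _ (he y) (g₀ ^ (e x))
      rwa [← zpow_neg] at this
    rw [hval (x * y) (e x + e y) hxy]
    have hm : g₀ ^ (e x) * ((⟨y * g₀ ^ (-(e y)), he y⟩ : N) : G) * g₀ ^ (-(e x)) ∈ N := by
      have := hN.conj_mem _ (he y) (g₀ ^ (e x))
      rwa [← zpow_neg] at this
    have h2 : (⟨x * y * g₀ ^ (-(e x + e y)), hxy⟩ : N) =
        ⟨x * g₀ ^ (-(e x)), he x⟩ *
          ⟨g₀ ^ (e x) * ((⟨y * g₀ ^ (-(e y)), he y⟩ : N) : G) * g₀ ^ (-(e x)), hm⟩ := by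
      apply Subtype.ext
      show x * y * g₀ ^ (-(e x + e y)) =
        (x * g₀ ^ (-(e x))) * (g₀ ^ (e x) * (y * g₀ ^ (-(e y))) * g₀ ^ (-(e x)))
      group
    rw [h2, map_mul, ← hzconj (e x) ⟨y * g₀ ^ (-(e y)), he y⟩ hm, zpow_add]
    simp only [mul_assoc]
    congr 3
    rw [← mul_assoc, ← zpow_add, neg_add_cancel, zpow_zero, one_mul]
  · intro n
    have h0 : (n : G) * g₀ ^ (-(0 : ℤ)) ∈ N := by simpa using n.2
    show f ⟨(n : G) * g₀ ^ (-(e (n : G))), he _⟩ * u ^ (e (n : G)) = f n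
    rw [hval (n : G) 0 h0]
    have : (⟨(n : G) * g₀ ^ (-(0 : ℤ)), h0⟩ : N) = n := by
      apply Subtype.ext
      simp
    rw [this]
    simp
  · have h1 : g₀ * g₀ ^ (-(1 : ℤ)) ∈ N := by simp
    show f ⟨g₀ * g₀ ^ (-(e g₀)), he _⟩ * u ^ (e g₀) = u
    rw [hval g₀ 1 h1]
    have : (⟨g₀ * g₀ ^ (-(1 : ℤ)), h1⟩ : N) = 1 := by
      apply Subtype.ext
      simp
    rw [this]
    simp

end Hom

section Char
variable {G : Type u} [Group G] [Fintype G] (N : Subgroup G) [hN : N.Normal] [Fintype N]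

/-- An irreducible representation of a normal subgroup `N` with cyclic quotient whose character
is invariant extends to `G`. -/
theorem exists_extension_of_cyclic (hcyc : IsCyclic (G ⧸ N)) {d : ℕ}
    (ρ : Representation ℂ N (Fin d → ℂ)) (hρ : ρ.IsIrreducible)
    (hinv : ∀ (g : G) (n : N),
      ρ.character ⟨g * n * g⁻¹, hN.conj_mem (n : G) n.2 g⟩ = ρ.character n) :
    ∃ ρG : Representation ℂ G (Fin d → ℂ), ρG.IsIrreducible ∧ ∀ n : N, ρG (n : G) = ρ n := by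
  classical
  have hd : 0 < d := helper23.pos_of_irreducible ρ hρ
  haveI : Nonempty (Fin d) := ⟨⟨0, hd⟩⟩
  obtain ⟨q, hq⟩ := hcyc.exists_generator
  obtain ⟨g₀, rfl⟩ := QuotientGroup.mk_surjective q
  have hmem_iff : ∀ k : ℤ, g₀ ^ k ∈ N ↔ ((g₀ : G ⧸ N)) ^ k = 1 := by
    intro k
    rw [← QuotientGroup.mk_zpow, QuotientGroup.eq_one_iff]
  have hgen : ∀ x : G, ∃ i : ℤ, x * g₀ ^ (-i) ∈ N := by
    intro x
    obtain ⟨i, hi⟩ := Subgroup.mem_zpowers_iff.mp (hq (x : G ⧸ N))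
    refine ⟨i, ?_⟩
    rw [← QuotientGroup.eq_one_iff, QuotientGroup.mk_mul, QuotientGroup.mk_zpow, ← hi, zpow_neg,
      mul_inv_cancel]
  -- the conjugate representation
  let cj : N →* N := (MulAut.conjNormal g₀ : MulAut N).toMonoidHom
  have hcj : ∀ n : N, cj n = ⟨g₀ * n * g₀⁻¹, hN.conj_mem (n : G) n.2 g₀⟩ := by
    intro n
    apply Subtype.ext
    exact MulAut.conjNormal_apply g₀ n
  let σ : Representation ℂ N (Fin d → ℂ) := ρ.comp cj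
  have hσχ : σ.character = ρ.character := by
    funext n
    show ρ.character (cj n) = ρ.character n
    rw [hcj n, hinv g₀ n]
  obtain ⟨P, hPunit, hP⟩ := exists_equiv_of_char_eq ρ σ hρ hσχ
  have hXσ : ∀ n : N, helper24.repMatrix σ n =
      helper24.repMatrix ρ ⟨g₀ * n * g₀⁻¹, hN.conj_mem (n : G) n.2 g₀⟩ := by
    intro n
    rw [← hcj n]
    rfl
  -- the target group
  let f : N →* (Matrix (Fin d) (Fin d) ℂ)ˣ := (helper24.repMatrix ρ).toHomUnits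
  have hf : ∀ n : N, ((f n : (Matrix (Fin d) (Fin d) ℂ)ˣ) : Matrix (Fin d) (Fin d) ℂ) =
      helper24.repMatrix ρ n := fun n => rfl
  obtain ⟨Pu, hPu⟩ : ∃ Pu : (Matrix (Fin d) (Fin d) ℂ)ˣ,
      (Pu : Matrix (Fin d) (Fin d) ℂ) = P := ⟨hPunit.unit, rfl⟩
  have hconjP : ∀ n : N, Pu * f n * Pu⁻¹ =
      f ⟨g₀ * n * g₀⁻¹, hN.conj_mem n n.2 g₀⟩ := by
    intro n
    rw [mul_inv_eq_iff_eq_mul]
    apply Units.ext
    rw [Units.val_mul, Units.val_mul, hPu, hf, hf, hP n, hXσ n]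
  -- the `m`-th power
  obtain ⟨m, hmdef⟩ : ∃ m : ℕ, m = orderOf (g₀ : G ⧸ N) := ⟨_, rfl⟩
  have hmpos : 0 < m := hmdef ▸ orderOf_pos _
  have hm : g₀ ^ ((m : ℕ) : ℤ) ∈ N := by
    rw [hmem_iff, zpow_natCast, hmdef, pow_orderOf_eq_one]
  have hzP := zpow_conj N g₀ f Pu hconjP
  obtain ⟨Z, hZ⟩ : ∃ Z : (Matrix (Fin d) (Fin d) ℂ)ˣ,
      Z = (f ⟨g₀ ^ ((m : ℕ) : ℤ), hm⟩)⁻¹ * Pu ^ ((m : ℕ) : ℤ) := ⟨_, rfl⟩
  have hZcomm : ∀ n : N, Z * f n = f n * Z := by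
    intro n
    have hmem : g₀ ^ ((m : ℕ) : ℤ) * n * g₀ ^ (-((m : ℕ) : ℤ)) ∈ N := by
      have := hN.conj_mem n n.2 (g₀ ^ ((m : ℕ) : ℤ))
      rwa [← zpow_neg] at this
    have h1 := hzP m n hmem
    have h2 : (⟨g₀ ^ ((m : ℕ) : ℤ) * n * g₀ ^ (-((m : ℕ) : ℤ)), hmem⟩ : N) =
        ⟨g₀ ^ ((m : ℕ) : ℤ), hm⟩ * n * (⟨g₀ ^ ((m : ℕ) : ℤ), hm⟩ : N)⁻¹ := by
      apply Subtype.ext
      show g₀ ^ ((m : ℕ) : ℤ) * (n : G) * g₀ ^ (-((m : ℕ) : ℤ)) =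
        g₀ ^ ((m : ℕ) : ℤ) * n * (g₀ ^ ((m : ℕ) : ℤ))⁻¹
      rw [zpow_neg]
    rw [h2, map_mul, map_mul, map_inv] at h1
    -- Pu^m * f n * Pu^(-m) = F * f n * F⁻¹
    rw [hZ]
    have h3 : Pu ^ ((m : ℕ) : ℤ) * f n =
        f ⟨g₀ ^ ((m : ℕ) : ℤ), hm⟩ * f n * (f ⟨g₀ ^ ((m : ℕ) : ℤ), hm⟩)⁻¹ *
          Pu ^ ((m : ℕ) : ℤ) := by
      rw [← h1, zpow_neg, inv_mul_cancel_right]
    rw [mul_assoc, h3]
    group
  obtain ⟨c, hc⟩ := mat_schur ρ hρ (Z : Matrix (Fin d) (Fin d) ℂ) (fun n => by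
    have := congrArg Units.val (hZcomm n)
    rw [Units.val_mul, Units.val_mul, hf] at this
    exact this)
  have hc0 : c ≠ 0 := by
    intro h0
    rw [h0, zero_smul] at hc
    have h1 : ((Z * Z⁻¹ : (Matrix (Fin d) (Fin d) ℂ)ˣ) : Matrix (Fin d) (Fin d) ℂ) = 1 := by
      rw [mul_inv_cancel]; rfl
    rw [Units.val_mul, hc, zero_mul] at h1
    exact zero_ne_one h1
  obtain ⟨b, hb⟩ := IsAlgClosed.exists_pow_nat_eq c hmpos
  have hb0 : b ≠ 0 := by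
    intro h0
    rw [h0, zero_pow hmpos.ne'] at hb
    exact hc0 hb.symm
  let s : (Matrix (Fin d) (Fin d) ℂ)ˣ :=
    Units.map (algebraMap ℂ (Matrix (Fin d) (Fin d) ℂ)).toMonoidHom (Units.mk0 b⁻¹ (inv_ne_zero hb0))
  have hsval : (s : Matrix (Fin d) (Fin d) ℂ) = algebraMap ℂ _ b⁻¹ := rfl
  have hs : ∀ a : (Matrix (Fin d) (Fin d) ℂ)ˣ, s * a = a * s := by
    intro a
    apply Units.ext
    rw [Units.val_mul, Units.val_mul, hsval]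
    exact Algebra.commutes _ _
  obtain ⟨u, hu⟩ : ∃ u : (Matrix (Fin d) (Fin d) ℂ)ˣ, u = s * Pu := ⟨_, rfl⟩
  have hconj : ∀ n : N, u * f n * u⁻¹ = f ⟨g₀ * n * g₀⁻¹, hN.conj_mem n n.2 g₀⟩ := by
    intro n
    rw [← hconjP n]
    calc u * f n * u⁻¹ = s * Pu * f n * (Pu⁻¹ * s⁻¹) := by rw [hu, mul_inv_rev]
      _ = s * (Pu * f n * Pu⁻¹) * s⁻¹ := by group
      _ = (Pu * f n * Pu⁻¹) * s * s⁻¹ := by rw [hs]
      _ = Pu * f n * Pu⁻¹ := by rw [mul_inv_cancel_right]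
  have hum : u ^ ((m : ℕ) : ℤ) = f ⟨g₀ ^ ((m : ℕ) : ℤ), hm⟩ := by
    have h1 : Pu ^ ((m : ℕ) : ℤ) = f ⟨g₀ ^ ((m : ℕ) : ℤ), hm⟩ * Z := by
      rw [hZ, mul_inv_cancel_left]
    have h2 : s ^ m * Z = 1 := by
      apply Units.ext
      rw [Units.val_mul, Units.val_pow_eq_pow_val, hsval, hc, ← map_pow, Units.val_one,
        Algebra.algebraMap_eq_smul_one, smul_mul_smul_comm, mul_one, inv_pow, hb,
        inv_mul_cancel₀ hc0, one_smul]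
    have hcomm : s ^ m * f ⟨g₀ ^ ((m : ℕ) : ℤ), hm⟩ = f ⟨g₀ ^ ((m : ℕ) : ℤ), hm⟩ * s ^ m :=
      ((show Commute s (f ⟨g₀ ^ ((m : ℕ) : ℤ), hm⟩) from hs _).pow_left m).eq
    rw [hu, zpow_natCast, (show Commute s Pu from hs Pu).mul_pow, ← zpow_natCast Pu, h1,
      ← mul_assoc, hcomm, mul_assoc, h2, mul_one]
  have hpow : ∀ (k : ℤ) (hk : g₀ ^ k ∈ N), u ^ k = f ⟨g₀ ^ k, hk⟩ := by
    intro k hk
    have h1 : ((m : ℕ) : ℤ) ∣ k := by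
      rw [hmdef]
      exact orderOf_dvd_iff_zpow_eq_one.mpr ((hmem_iff k).mp hk)
    obtain ⟨t, ht⟩ := h1
    have h2 : (⟨g₀ ^ k, hk⟩ : N) = (⟨g₀ ^ ((m : ℕ) : ℤ), hm⟩ : N) ^ t := by
      apply Subtype.ext
      rw [Subgroup.coe_zpow]
      show g₀ ^ k = (g₀ ^ ((m : ℕ) : ℤ)) ^ t
      rw [← zpow_mul, ht]
    rw [h2, map_zpow, ← hum, ← zpow_mul, ht]
  obtain ⟨F, hFN, -⟩ := hom_cyclic_extension N g₀ hgen f u hconj hpow
  let ρG : Representation ℂ G (Fin d → ℂ) :=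
    { toFun := fun x => Matrix.toLin' ((F x : (Matrix (Fin d) (Fin d) ℂ)ˣ) :
        Matrix (Fin d) (Fin d) ℂ)
      map_one' := by
        rw [map_one, Units.val_one, Matrix.toLin'_one]
        rfl
      map_mul' := by
        intro x y
        rw [map_mul, Units.val_mul, Matrix.toLin'_mul]
        rfl }
  have hρG : ∀ n : N, ρG (n : G) = ρ n := by
    intro n
    show Matrix.toLin' ((F (n : G) : (Matrix (Fin d) (Fin d) ℂ)ˣ) :
        Matrix (Fin d) (Fin d) ℂ) = ρ n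
    rw [hFN n, hf n]
    show Matrix.toLin' (LinearMap.toMatrix' (ρ n)) = ρ n
    rw [Matrix.toLin'_toMatrix']
  refine ⟨ρG, ?_, hρG⟩
  exact helper24.irreducible_of_range_le ρG ρ (fun k => ⟨(k : G), hρG k⟩) hρ

end Char

end Cfsg.Agent.helper22
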