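import Mathlib
import Cfsg.Agent.Lib_helper22_Det
import Cfsg.Agent.Lib_helper22_ExtLin
import Cfsg.Agent.Lib_helper8_Ind
import Cfsg.Agent.S0862
import Cfsg.Agent.S0886

set_option autoImplicit false
set_option linter.unusedSectionVars false
set_option linter.unusedVariables false

/-!
Extension of invariant characters over a solvable quotient with prescribed determinant (helper22).

* `exists_normal_prime_index` : `G ⧸ N` nontrivial solvable ⇒ there is a normal `M ≥ N` of prime
  index;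
* `detChar_comp_mulEquiv` : transport of `detChar` along an isomorphism;
* `extend_solvable` : `G ⧸ N` solvable, `ϑ ∈ Irr(N)` invariant of degree coprime to `|G : N|`, `μ` a
  linear character of `G` extending `det ϑ` ⇒ `ϑ` has an extension with determinant `μ`.
-/

namespace Cfsg.Agent.helper22

open Cfsg
open scoped commutatorElement

universe u

section PrimeIndex
variable {G : Type u} [Group G] [Finite G]

theorem exists_normal_prime_index (N : Subgroup G) [N.Normal]
    (hsolv : Group.IsSolvable (G ⧸ N)) (hnt : Nontrivial (G ⧸ N)) :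
    ∃ M : Subgroup G, M.Normal ∧ N ≤ M ∧ M.index.Prime := by
  classical
  haveI := hsolv
  have hlt : commutator (G ⧸ N) < ⊤ := Group.IsSolvable.commutator_lt_top_of_nontrivial (G ⧸ N)
  obtain ⟨Mb, hMb, hle⟩ :=
    (eq_top_or_exists_le_coatom (commutator (G ⧸ N))).resolve_left hlt.ne
  have hMbn : Mb.Normal := by
    rw [← Subgroup.commutator_top_left_le_iff]
    exact le_trans (Subgroup.commutator_mono le_rfl le_top) hle
  haveI := hMbn
  letI : CommGroup ((G ⧸ N) ⧸ Mb) :=
    { (inferInstance : Group ((G ⧸ N) ⧸ Mb)) with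
      mul_comm := fun a b => by
        obtain ⟨a, rfl⟩ := QuotientGroup.mk_surjective a
        obtain ⟨b, rfl⟩ := QuotientGroup.mk_surjective b
        rw [← QuotientGroup.mk_mul, ← QuotientGroup.mk_mul, QuotientGroup.eq]
        apply hle
        have h1 : (a * b)⁻¹ * (b * a) = ⁅b⁻¹, a⁻¹⁆ := by
          rw [commutatorElement_def]
          group
        rw [h1]
        exact Subgroup.commutator_mem_commutator (Subgroup.mem_top _) (Subgroup.mem_top _) }
  haveI hnt' : Nontrivial ((G ⧸ N) ⧸ Mb) := QuotientGroup.nontrivial_iff.mpr hMb.1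
  haveI : IsSimpleGroup ((G ⧸ N) ⧸ Mb) :=
    { exists_pair_ne := hnt'.exists_pair_ne
      eq_bot_or_eq_top_of_normal := fun H _ => by
        have hsurj := QuotientGroup.mk'_surjective Mb
        have h1 : Mb ≤ H.comap (QuotientGroup.mk' Mb) := by
          intro x hx
          rw [Subgroup.mem_comap]
          have : QuotientGroup.mk' Mb x = 1 := (QuotientGroup.eq_one_iff x).mpr hx
          rw [this]
          exact H.one_mem
        rcases eq_or_lt_of_le h1 with h2 | h2
        · left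
          rw [← Subgroup.map_comap_eq_self_of_surjective hsurj H, ← h2, QuotientGroup.map_mk'_self]
        · right
          have h3 := hMb.2 _ h2
          rw [← Subgroup.map_comap_eq_self_of_surjective hsurj H, h3,
            Subgroup.map_top_of_surjective _ hsurj] }
  have hprime := IsSimpleGroup.prime_card (α := (G ⧸ N) ⧸ Mb)
  refine ⟨Mb.comap (QuotientGroup.mk' N), hMbn.comap _, ?_, ?_⟩
  · intro n hn
    rw [Subgroup.mem_comap]
    have : QuotientGroup.mk' N n = 1 := (QuotientGroup.eq_one_iff n).mpr hn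
    rw [this]
    exact Mb.one_mem
  · rw [Subgroup.index_comap_of_surjective Mb (QuotientGroup.mk'_surjective N),
      Subgroup.index_eq_card]
    exact hprime

theorem solvable_quot_subgroupOf (N M : Subgroup G) [N.Normal] (hsolv : Group.IsSolvable (G ⧸ N)) :
    Group.IsSolvable (↥M ⧸ N.subgroupOf M) := by
  obtain ⟨f, hf⟩ : ∃ f : (↥M ⧸ N.subgroupOf M) →* (G ⧸ N),
      ∀ m : M, f (m : ↥M ⧸ N.subgroupOf M) = ((m : G) : G ⧸ N) :=
    ⟨QuotientGroup.map (N.subgroupOf M) N M.subtype (fun x hx => hx), fun m => rfl⟩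
  haveI := hsolv
  apply Group.isSolvable_of_isSolvable_injective (f := f)
  rw [injective_iff_map_eq_one]
  intro q hq
  obtain ⟨m, rfl⟩ := QuotientGroup.mk_surjective q
  rw [QuotientGroup.eq_one_iff]
  rw [hf, QuotientGroup.eq_one_iff] at hq
  exact hq

end PrimeIndex

section Transport

/-- transport of `detChar` along a group isomorphism -/
theorem detChar_comp_mulEquiv {K H : Type u} [Group K] [Group H] [Fintype K] [Fintype H]
    (f : K ≃* H) {χ : H → ℂ} (hχ : IsIrrCharacter H χ) (k : K) :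
    detChar (fun k => χ (f k)) k = detChar χ (f k) := by
  obtain ⟨n, ρ, hρ, hρχ⟩ := id hχ
  obtain ⟨σ, hσ⟩ : ∃ σ : Representation ℂ K (Fin n → ℂ), σ = MonoidHom.comp ρ f.toMonoidHom :=
    ⟨_, rfl⟩
  have h1 : σ.character = fun k => χ (f k) := by
    funext x
    rw [← hρχ, hσ]
    rfl
  rw [detChar_eq_of_irr (helper8.isIrrCharacter_comp_mulEquiv f hχ) σ h1,
    detChar_eq_of_irr hχ ρ hρχ, hσ]
  rfl

end Transport

section Main

/-- Extension over a solvable quotient with prescribed determinant. -/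
theorem extend_solvable_aux : ∀ (k : ℕ) (G : Type u) [Group G] [Finite G] (N : Subgroup G)
    [hN : N.Normal], N.index = k → Group.IsSolvable (G ⧸ N) → ∀ (ϑ : N → ℂ), IsIrrCharacter N ϑ →
    (∀ (g : G) (n : N), ϑ ⟨g * n * g⁻¹, hN.conj_mem (n : G) n.2 g⟩ = ϑ n) →
    ∀ (d : ℕ), ϑ 1 = d → Nat.Coprime N.index d →
    ∀ (μ : G → ℂ), IsCharacter G μ → μ 1 = 1 → (∀ n : N, μ n = detChar ϑ n) →
    ∃ χ : G → ℂ, IsIrrCharacter G χ ∧ (∀ n : N, χ n = ϑ n) ∧ detChar χ = μ := by
  intro k
  induction k using Nat.strong_induction_on with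
  | _ k ih =>
  intro G _ _ N hN hk hsolv ϑ hϑ hinv d hd hcop μ hμ hμ1 hμN
  classical
  haveI : Fintype G := Fintype.ofFinite G
  by_cases hcyc : IsCyclic (G ⧸ N)
  · obtain ⟨χ₀, hχ₀, hχ₀N⟩ := S0886.result N hcyc ϑ hϑ hinv
    obtain ⟨χ, hχ, -⟩ := S0862.result N ϑ hϑ d hd hcop ⟨χ₀, hχ₀, hχ₀N⟩ μ ⟨hμ, hμ1⟩ hμN
    exact ⟨χ, hχ⟩
  · have hnt : Nontrivial (G ⧸ N) := by
      by_contra h
      rw [not_nontrivial_iff_subsingleton] at h
      exact hcyc isCyclic_of_subsingleton
    obtain ⟨M, hMn, hNM, hMp⟩ := exists_normal_prime_index N hsolv hnt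
    haveI := hMn
    haveI : Fact M.index.Prime := ⟨hMp⟩
    have hMcyc : IsCyclic (G ⧸ M) :=
      isCyclic_of_prime_card (p := M.index) (Subgroup.index_eq_card M).symm
    have hidx : N.relIndex M * M.index = N.index := Subgroup.relIndex_mul_index hNM
    have hlt : (N.subgroupOf M).index < k := by
      show N.relIndex M < k
      rw [← hk, ← hidx]
      have h2 := hMp.two_le
      have hpos : 0 < N.relIndex M := by
        show 0 < (N.subgroupOf M).index
        exact Nat.pos_of_ne_zero Subgroup.index_ne_zero_of_finite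
      nlinarith
    have hcopM : Nat.Coprime M.index d :=
      Nat.Coprime.coprime_dvd_left (Dvd.intro_left _ hidx) hcop
    have hcopN' : Nat.Coprime (N.subgroupOf M).index d :=
      Nat.Coprime.coprime_dvd_left (Dvd.intro _ hidx) hcop
    -- the data on `M`
    have hmemN : ∀ x : N.subgroupOf M, ((x : M) : G) ∈ N := fun x => Subgroup.mem_subgroupOf.mp x.2
    obtain ⟨ϑ', hϑ'⟩ : ∃ ϑ' : N.subgroupOf M → ℂ,
        ∀ x : N.subgroupOf M, ϑ' x = ϑ ⟨((x : M) : G), hmemN x⟩ := ⟨_, fun x => rfl⟩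
    have hϑ'irr : IsIrrCharacter (N.subgroupOf M) ϑ' := by
      have h1 := helper8.isIrrCharacter_comp_mulEquiv (Subgroup.subgroupOfEquivOfLe hNM) hϑ
      have h2 : ϑ' = fun x => ϑ (Subgroup.subgroupOfEquivOfLe hNM x) := by
        funext x
        rw [hϑ']
        rfl
      rw [h2]
      exact h1
    have hϑ'inv : ∀ (m : M) (x : N.subgroupOf M),
        ϑ' ⟨m * x * m⁻¹, (inferInstance : (N.subgroupOf M).Normal).conj_mem (x : M) x.2 m⟩ =
          ϑ' x := by
      intro m x
      rw [hϑ', hϑ']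
      exact hinv (m : G) ⟨((x : M) : G), hmemN x⟩
    have hϑ'1 : ϑ' 1 = d := by
      rw [hϑ', ← hd]
      rfl
    obtain ⟨μ', hμ'⟩ : ∃ μ' : M → ℂ, ∀ m : M, μ' m = μ m := ⟨_, fun m => rfl⟩
    have hμ'c : IsCharacter M μ' := by
      have h1 := helper5.isCharacter_res M hμ
      have h2 : μ' = helper5.res M μ := funext hμ'
      rw [h2]
      exact h1
    haveI : Fintype N := Fintype.ofFinite N
    haveI : Fintype (N.subgroupOf M) := Fintype.ofFinite _
    have hμ'N : ∀ x : N.subgroupOf M, μ' (x : M) = detChar ϑ' x := by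
      intro x
      have h2 : ϑ' = fun x => ϑ (Subgroup.subgroupOfEquivOfLe hNM x) := by
        funext x
        rw [hϑ']
        rfl
      rw [hμ', h2, detChar_comp_mulEquiv (Subgroup.subgroupOfEquivOfLe hNM) hϑ]
      exact hμN (Subgroup.subgroupOfEquivOfLe hNM x)
    obtain ⟨η, hη, hηN', hηdet⟩ := ih _ hlt (↥M) (N.subgroupOf M) rfl
      (solvable_quot_subgroupOf N M hsolv) ϑ' hϑ'irr hϑ'inv d hϑ'1 hcopN' μ' hμ'c
      (by rw [hμ']; exact hμ1) hμ'N
    -- `η` is invariant in `G`
    have hηinv : ∀ (g : G) (m : M), η ⟨g * m * g⁻¹, hMn.conj_mem (m : G) m.2 g⟩ = η m := by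
      intro g m
      have huniq := S0862.result (N.subgroupOf M) ϑ' hϑ'irr d hϑ'1 hcopN' ⟨η, hη, hηN'⟩ μ'
        ⟨hμ'c, by rw [hμ']; exact hμ1⟩ hμ'N
      have h1 : IsIrrCharacter M (helper8.conjFunN M g η) := helper8.isIrrCharacter_conjFunN M g hη
      have h2 : ∀ x : N.subgroupOf M, helper8.conjFunN M g η (x : M) = ϑ' x := by
        intro x
        rw [helper8.conjFunN_apply]
        have hx : g * ((x : M) : G) * g⁻¹ ∈ N := hN.conj_mem _ (hmemN x) g
        have h3 := hηN' ⟨⟨g * ((x : M) : G) * g⁻¹, hMn.conj_mem _ (x : M).2 g⟩,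
          Subgroup.mem_subgroupOf.mpr hx⟩
        rw [hϑ'] at h3
        rw [hϑ' x, ← hinv g ⟨((x : M) : G), hmemN x⟩]
        exact h3
      haveI : Fintype M := Fintype.ofFinite M
      have h3 : detChar (helper8.conjFunN M g η) = μ' := by
        funext m
        have e : helper8.conjFunN M g η = fun h => η ((MulAut.conjNormal g : M ≃* M) h) := by
          funext h
          rw [helper8.conjFunN_apply]
          congr 1
        rw [e, detChar_comp_mulEquiv (MulAut.conjNormal g : M ≃* M) hη, hηdet, hμ', hμ']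
        have h4 : (((MulAut.conjNormal g : M ≃* M) m : M) : G) = g * m * g⁻¹ := rfl
        rw [h4]
        exact helper24.char_isClassFunction hμ m g
      have h4 := huniq.unique ⟨h1, h2, h3⟩ ⟨hη, hηN', hηdet⟩
      exact congrFun h4 m
    obtain ⟨χ₀, hχ₀, hχ₀M⟩ := S0886.result M hMcyc η hη hηinv
    have hη1 : η 1 = d := by
      have := hηN' 1
      rw [hϑ'1] at this
      exact this
    obtain ⟨χ, ⟨hχ, hχM, hχdet⟩, -⟩ := S0862.result M η hη d hη1 hcopM ⟨χ₀, hχ₀, hχ₀M⟩ μ
      ⟨hμ, hμ1⟩ (fun m => by rw [hηdet, hμ'])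
    refine ⟨χ, hχ, fun n => ?_, hχdet⟩
    have h1 := hχM ⟨(n : G), hNM n.2⟩
    have h2 := hηN' ⟨⟨(n : G), hNM n.2⟩, Subgroup.mem_subgroupOf.mpr n.2⟩
    rw [hϑ'] at h2
    exact h1.trans h2

/-- Extension over a solvable quotient with prescribed determinant. -/
theorem extend_solvable {G : Type u} [Group G] [Finite G] (N : Subgroup G) [hN : N.Normal]
    (hsolv : Group.IsSolvable (G ⧸ N)) (ϑ : N → ℂ) (hϑ : IsIrrCharacter N ϑ)
    (hinv : ∀ (g : G) (n : N), ϑ ⟨g * n * g⁻¹, hN.conj_mem (n : G) n.2 g⟩ = ϑ n)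
    (d : ℕ) (hd : ϑ 1 = d) (hcop : Nat.Coprime N.index d)
    (μ : G → ℂ) (hμ : IsCharacter G μ) (hμ1 : μ 1 = 1) (hμN : ∀ n : N, μ n = detChar ϑ n) :
    ∃ χ : G → ℂ, IsIrrCharacter G χ ∧ (∀ n : N, χ n = ϑ n) ∧ detChar χ = μ :=
  extend_solvable_aux _ G N rfl hsolv ϑ hϑ hinv d hd hcop μ hμ hμ1 hμN

end Main

end Cfsg.Agent.helper22
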