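import Mathlib
import Cfsg.Agent.Lib_helper22_Gallagher
import Cfsg.Agent.Lib_helper24_CharValues
import Cfsg.Statements.S0868
-- import your own Cfsg.Agent.* helpers here

set_option autoImplicit false
open scoped ComplexConjugate
open Cfsg

namespace Cfsg.Agent.S0868

open Cfsg.Agent

theorem inner_coset_avg {G : Type*} [Group G] [Fintype G] (N : Subgroup G) [Fintype N]
    (f γ : G → ℂ) (hγ : ∀ (n : N) (g : G), γ ((n : G) * g) = γ g) :
    classInner (fun g => (Nat.card N : ℂ)⁻¹ * ∑ n : N, f ((n : G) * g)) γ = classInner f γ := by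
  unfold classInner
  congr 1
  have h1 : ∀ g : G, ((Nat.card N : ℂ)⁻¹ * ∑ n : N, f ((n : G) * g)) * conj (γ g) =
      (Nat.card N : ℂ)⁻¹ * ∑ n : N, f ((n : G) * g) * conj (γ ((n : G) * g)) := by
    intro g
    rw [mul_assoc, Finset.sum_mul]
    congr 1
    apply Finset.sum_congr rfl
    intro n _
    rw [hγ]
  rw [Finset.sum_congr rfl (fun g _ => h1 g), ← Finset.mul_sum, Finset.sum_comm]
  have h2 : ∀ n : N, ∑ g : G, f ((n : G) * g) * conj (γ ((n : G) * g)) =
      ∑ g : G, f g * conj (γ g) := by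
    intro n
    exact Fintype.sum_equiv (Equiv.mulLeft (n : G)) _ _ (fun g => rfl)
  rw [Finset.sum_congr rfl (fun n _ => h2 n), Finset.sum_const, Finset.card_univ, nsmul_eq_mul,
    ← mul_assoc, ← Nat.card_eq_fintype_card, inv_mul_cancel₀, one_mul]
  exact_mod_cast Nat.card_pos.ne'

/-- Let N be a normal subgroup of the finite group G, χ an irreducible character of G whose restriction ϑ to N is irreducible, and ψ an irreducible character of G. Define η on G by η g = (1 / order of N) * Σ over n in N of ψ (n * g) * conj (χ (n * g)). Then: if the restriction of ψ to N has nonzero inner product with ϑ, η is an irreducible character of G; if that inner product is zero, η vanishes identically; and if ψ = χ then η is identically 1. -/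
theorem result {G : Type*} [Group G] [Fintype G] (N : Subgroup G) [N.Normal] [Fintype N] (χ : G → ℂ) (hχ : Cfsg.IsIrrCharacter G χ) (hχN : Cfsg.IsIrrCharacter N (fun n : N => χ n)) (ψ : G → ℂ) (hψ : Cfsg.IsIrrCharacter G ψ) (η : G → ℂ) (hη : η = fun g => (Nat.card N : ℂ)⁻¹ * ∑ n : N, ψ ((n : G) * g) * conj (χ ((n : G) * g))) : (Cfsg.classInner (fun n : N => ψ n) (fun n : N => χ n) ≠ 0 → Cfsg.IsIrrCharacter G η) ∧ (Cfsg.classInner (fun n : N => ψ n) (fun n : N => χ n) = 0 → η = 0) ∧ (ψ = χ → η = fun _ => 1) := by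
  classical
  haveI : Fintype (IrrCharacter (G ⧸ N)) := Fintype.ofFinite _
  have hϑ : IsIrrCharacter N (helper5.res N χ) := hχN
  obtain ⟨hG1, hG2, hG3⟩ := helper22.gallagher N hχ hϑ
  have hψc := helper24.irr_isCharacter hψ
  have hχc := helper24.irr_isCharacter hχ
  obtain ⟨f, hf⟩ : ∃ f : G → ℂ, f = fun g => ψ g * conj (χ g) := ⟨_, rfl⟩
  have hfc : IsClassFunction G f := by
    intro g h
    rw [hf]
    show ψ (h * g * h⁻¹) * conj (χ (h * g * h⁻¹)) = _
    rw [helper24.char_isClassFunction hψc g h, helper24.char_isClassFunction hχc g h]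
  have hη' : η = fun g => (Nat.card N : ℂ)⁻¹ * ∑ n : N, f ((n : G) * g) := by
    rw [hη, hf]
  have hηinv : ∀ (m : N) (g : G), η ((m : G) * g) = η g := by
    intro m g
    rw [hη']
    show (Nat.card N : ℂ)⁻¹ * ∑ n : N, f ((n : G) * ((m : G) * g)) =
      (Nat.card N : ℂ)⁻¹ * ∑ n : N, f ((n : G) * g)
    congr 1
    refine Fintype.sum_equiv (Equiv.mulRight m) _ _ (fun n => ?_)
    show f ((n : G) * ((m : G) * g)) = f (((n * m : N) : G) * g)
    rw [Subgroup.coe_mul, mul_assoc]
  have hηc : IsClassFunction G η := by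
    intro g x
    rw [hη']
    show (Nat.card N : ℂ)⁻¹ * ∑ n : N, f ((n : G) * (x * g * x⁻¹)) =
      (Nat.card N : ℂ)⁻¹ * ∑ n : N, f ((n : G) * g)
    congr 1
    refine Fintype.sum_equiv (MulAut.conjNormal x⁻¹ : N ≃* N).toEquiv _ _ (fun n => ?_)
    show f ((n : G) * (x * g * x⁻¹)) = f (((MulAut.conjNormal x⁻¹ n : N) : G) * g)
    rw [MulAut.conjNormal_apply, ← hfc ((n : G) * (x * g * x⁻¹)) x⁻¹]
    congr 1
    group
  have hexp := helper22.expansion_of_coset_invariant N hηc hηinv
  have hcoef : ∀ β : IrrCharacter (G ⧸ N), classInner η (helper22.infl N (β : G ⧸ N → ℂ)) =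
      classInner ψ (helper22.infl N (β : G ⧸ N → ℂ) * χ) := by
    intro β
    rw [hη', inner_coset_avg N f _ (fun n g => ?_)]
    · unfold classInner
      congr 1
      apply Finset.sum_congr rfl
      intro g _
      rw [hf, Pi.mul_apply, map_mul]
      ring
    · rw [helper22.infl_apply, helper22.infl_apply]
      congr 1
      rw [QuotientGroup.mk_mul, (QuotientGroup.eq_one_iff _).mpr n.2, one_mul]
  have key : ∀ β₀ : IrrCharacter (G ⧸ N), ψ = helper22.infl N (β₀ : G ⧸ N → ℂ) * χ →
      η = helper22.infl N (β₀ : G ⧸ N → ℂ) := by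
    intro β₀ h0
    refine hexp.trans ?_
    rw [Finset.sum_eq_single β₀]
    · rw [hcoef, h0, helper24.irr_classInner_self (hG1 β₀), one_smul]
    · intro β _ hne
      rw [hcoef, h0, helper24.irr_classInner_ne (hG1 β₀) (hG1 β)
        (fun h => hne (hG2 _ _ h).symm), zero_smul]
    · intro h
      exact absurd (Finset.mem_univ β₀) h
  refine ⟨?_, ?_, ?_⟩
  · intro hne
    obtain ⟨β₀, h0⟩ := hG3 ψ hψ hne
    rw [key β₀ h0]
    exact helper24.irr_inflation N β₀.2
  · intro h0
    refine hexp.trans ?_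
    apply Finset.sum_eq_zero
    intro β _
    rw [hcoef]
    have h1 : classInner ψ (helper22.infl N (β : G ⧸ N → ℂ) * χ) = 0 := by
      by_contra hne
      have heq : ψ = helper22.infl N (β : G ⧸ N → ℂ) * χ := by
        by_contra hne'
        exact hne (helper24.irr_classInner_ne hψ (hG1 β) hne')
      have h2 : (fun n : N => ψ n) = (β : G ⧸ N → ℂ) 1 • (fun n : N => χ n) := by
        funext n
        rw [heq]
        show (β : G ⧸ N → ℂ) ((n : G) : G ⧸ N) * χ n = (β : G ⧸ N → ℂ) 1 * χ n
        rw [(QuotientGroup.eq_one_iff _).mpr n.2]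
      rw [h2, helper24.classInner_smul_left, helper24.irr_classInner_self hχN, mul_one] at h0
      exact helper24.irr_apply_one_ne_zero β.2 h0
    rw [h1, zero_smul]
  · intro heq
    have h0 : ψ = helper22.infl N ((helper24.irrOne (G ⧸ N)) : G ⧸ N → ℂ) * χ := by
      rw [heq]
      funext g
      show χ g = 1 * χ g
      rw [one_mul]
    rw [key _ h0]
    rfl

end Cfsg.Agent.S0868
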