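import Mathlib
import Cfsg.Agent.Lib_helper22_DetExt
import Cfsg.Agent.Lib_helper22_Gallagher
import Cfsg.Agent.Lib_helper1_RepEquiv
import Cfsg.Agent.Lib_helper1_RepBridge
import Cfsg.Agent.Lib_helper12_Virtual
import Cfsg.Agent.Lib_helper24_BrauerGlobal
import Cfsg.Agent.Lib_helper24_BrauerLinear
import Cfsg.Agent.S0862
import Cfsg.Agent.S0868
import Cfsg.Agent.Lib_helper8_Coh

set_option autoImplicit false
set_option linter.unusedSectionVars false
set_option linter.unusedVariables false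

/-!
Extension of invariant characters of coprime degree with prescribed determinant, without any
solvability assumption: the canonical extensions over solvable quotients are glued by Brauer's
characterization of characters (Isaacs 8.15, 8.16), helper22.
-/

namespace Cfsg.Agent.helper22

open Cfsg
open scoped ComplexConjugate

universe u

section General
variable {G : Type u} [Group G] [Fintype G]

/-- a character whose restriction to a subgroup is irreducible is irreducible -/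
theorem isIrrCharacter_of_res_irr (N : Subgroup G) {ψ : G → ℂ} (hψ : IsCharacter G ψ)
    (h : IsIrrCharacter N (helper5.res N ψ)) : IsIrrCharacter G ψ := by
  obtain ⟨n, ρ, hρ⟩ := hψ
  obtain ⟨m, τ, hτ, hτχ⟩ := h
  obtain ⟨σ, hσ⟩ : ∃ σ : Representation ℂ N (Fin n → ℂ), σ = ρ.comp N.subtype := ⟨_, rfl⟩
  have h1 : τ.character = σ.character := by
    rw [hτχ]
    funext x
    rw [← hρ, hσ]
    rfl
  obtain ⟨φ⟩ := helper1.equiv_of_character_eq τ σ h1
  have hσirr : σ.IsIrreducible := helper1.isIrreducible_of_equiv φ hτ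
  refine ⟨n, ρ, ?_, hρ⟩
  apply helper24.irreducible_of_range_le ρ σ _ hσirr
  intro k
  exact ⟨(k : G), by rw [hσ]; rfl⟩

end General

section Transport2

/-- transport of `detChar` along a group homomorphism keeping the character irreducible -/
theorem detChar_comp_hom {K H : Type u} [Group K] [Group H] [Fintype K] [Fintype H]
    (f : K →* H) {χ : H → ℂ} (hχ : IsIrrCharacter H χ)
    (hχf : IsIrrCharacter K (fun k => χ (f k))) (k : K) :
    detChar (fun k => χ (f k)) k = detChar χ (f k) := by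
  obtain ⟨n, ρ, hρ, hρχ⟩ := id hχ
  obtain ⟨σ, hσ⟩ : ∃ σ : Representation ℂ K (Fin n → ℂ), σ = MonoidHom.comp ρ f := ⟨_, rfl⟩
  have h1 : σ.character = fun k => χ (f k) := by
    funext x
    rw [← hρχ, hσ]
    rfl
  rw [detChar_eq_of_irr hχf σ h1, detChar_eq_of_irr hχ ρ hρχ, hσ]
  rfl

end Transport2

section Glue
variable {G : Type u} [Group G] [Fintype G]

/-- `F` restricts on `H ≥ N` to an irreducible extension of `ϑ` with determinant `μ` -/
def GExt (N : Subgroup G) (ϑ : N → ℂ) (μ : G → ℂ) (H : Subgroup G) (F : G → ℂ) : Prop :=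
  N ≤ H ∧ IsIrrCharacter H (helper5.res H F) ∧ (∀ n : N, F n = ϑ n) ∧
    ∀ h : H, detChar (helper5.res H F) h = μ h

/-- the data `ϑ, μ` restricted to a subgroup `H ≥ N` -/
theorem glue_sub_context (N : Subgroup G) [hN : N.Normal] (ϑ : N → ℂ) (hϑ : IsIrrCharacter N ϑ)
    (hinv : ∀ (g : G) (n : N), ϑ ⟨g * n * g⁻¹, hN.conj_mem (n : G) n.2 g⟩ = ϑ n)
    (d : ℕ) (hd : ϑ 1 = d) (hcop : Nat.Coprime N.index d)
    (μ : G → ℂ) (hμ : IsCharacter G μ) (hμ1 : μ 1 = 1) (hμN : ∀ n : N, μ n = detChar ϑ n)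
    (H : Subgroup G) (hNH : N ≤ H) :
    ∃ ϑ' : N.subgroupOf H → ℂ,
      (∀ a : N.subgroupOf H, ϑ' a = ϑ ⟨((a : H) : G), Subgroup.mem_subgroupOf.mp a.2⟩) ∧
      IsIrrCharacter (N.subgroupOf H) ϑ' ∧
      (∀ (g : H) (n : N.subgroupOf H), ϑ' ⟨g * n * g⁻¹,
        (inferInstance : (N.subgroupOf H).Normal).conj_mem (n : H) n.2 g⟩ = ϑ' n) ∧
      ϑ' 1 = d ∧ Nat.Coprime (N.subgroupOf H).index d ∧
      IsCharacter H (helper5.res H μ) ∧ helper5.res H μ 1 = 1 ∧
      ∀ a : N.subgroupOf H, helper5.res H μ a = detChar ϑ' a := by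
  classical
  haveI : Fintype N := Fintype.ofFinite _
  haveI : Fintype (N.subgroupOf H) := Fintype.ofFinite _
  obtain ⟨e, he⟩ : ∃ e : N.subgroupOf H ≃* N, ∀ a : N.subgroupOf H,
      e a = ⟨((a : H) : G), Subgroup.mem_subgroupOf.mp a.2⟩ :=
    ⟨Subgroup.subgroupOfEquivOfLe hNH, fun a => rfl⟩
  refine ⟨fun a => ϑ (e a), fun a => by show ϑ (e a) = _; rw [he], helper8.isIrrCharacter_comp_mulEquiv e hϑ, ?_, ?_,
    ?_, helper5.isCharacter_res H hμ, hμ1, ?_⟩
  · intro g n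
    show ϑ (e _) = ϑ (e n)
    rw [he, he, ← hinv (g : G) ⟨((n : H) : G), Subgroup.mem_subgroupOf.mp n.2⟩]
    rfl
  · show ϑ (e 1) = d
    rw [map_one, hd]
  · have h1 : (N.subgroupOf H).index ∣ N.index := by
      have := Subgroup.relIndex_mul_index hNH
      exact Dvd.intro _ this
    exact Nat.Coprime.coprime_dvd_left h1 hcop
  · intro a
    rw [detChar_comp_mulEquiv e hϑ a, helper5.res_apply, he, ← hμN]

end Glue

section Glue2
variable {G : Type u} [Group G] [Fintype G]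

/-- existence of the canonical extension over subgroups with solvable quotient -/
theorem gext_exists (N : Subgroup G) [hN : N.Normal] (ϑ : N → ℂ) (hϑ : IsIrrCharacter N ϑ)
    (hinv : ∀ (g : G) (n : N), ϑ ⟨g * n * g⁻¹, hN.conj_mem (n : G) n.2 g⟩ = ϑ n)
    (d : ℕ) (hd : ϑ 1 = d) (hcop : Nat.Coprime N.index d)
    (μ : G → ℂ) (hμ : IsCharacter G μ) (hμ1 : μ 1 = 1) (hμN : ∀ n : N, μ n = detChar ϑ n)
    (H : Subgroup G) (hNH : N ≤ H) (hsolv : Group.IsSolvable (H ⧸ N.subgroupOf H)) :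
    ∃ F : G → ℂ, GExt N ϑ μ H F := by
  classical
  obtain ⟨ϑ', hϑ'def, hϑ', hinv', hd', hcop', hμ', hμ1', hμN'⟩ :=
    glue_sub_context N ϑ hϑ hinv d hd hcop μ hμ hμ1 hμN H hNH
  obtain ⟨ψ, hψ, hψN, hψdet⟩ := extend_solvable (G := H) (N.subgroupOf H) hsolv ϑ' hϑ' hinv' d hd'
    hcop' (helper5.res H μ) hμ' hμ1' hμN'
  obtain ⟨F, hF⟩ : ∃ F : G → ℂ, F = fun g => if h : g ∈ H then ψ ⟨g, h⟩ else 0 := ⟨_, rfl⟩
  have hres : helper5.res H F = ψ := by
    funext h
    rw [helper5.res_apply, hF]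
    simp only [h.2, dif_pos]
  refine ⟨F, hNH, hres ▸ hψ, ?_, ?_⟩
  · intro n
    have h1 := hψN ⟨⟨(n : G), hNH n.2⟩, Subgroup.mem_subgroupOf.mpr n.2⟩
    rw [hϑ'def] at h1
    rw [hF]
    simp only [hNH n.2, dif_pos]
    exact h1
  · intro h
    rw [hres, hψdet]
    rfl

/-- uniqueness of the canonical extension -/
theorem gext_unique (N : Subgroup G) [hN : N.Normal] (ϑ : N → ℂ) (hϑ : IsIrrCharacter N ϑ)
    (hinv : ∀ (g : G) (n : N), ϑ ⟨g * n * g⁻¹, hN.conj_mem (n : G) n.2 g⟩ = ϑ n)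
    (d : ℕ) (hd : ϑ 1 = d) (hcop : Nat.Coprime N.index d)
    (μ : G → ℂ) (hμ : IsCharacter G μ) (hμ1 : μ 1 = 1) (hμN : ∀ n : N, μ n = detChar ϑ n)
    (H : Subgroup G) {F F' : G → ℂ} (hF : GExt N ϑ μ H F) (hF' : GExt N ϑ μ H F') :
    ∀ h ∈ H, F h = F' h := by
  classical
  obtain ⟨ϑ', hϑ'def, hϑ', hinv', hd', hcop', hμ', hμ1', hμN'⟩ :=
    glue_sub_context N ϑ hϑ hinv d hd hcop μ hμ hμ1 hμN H hF.1
  have hext : ∀ F₀ : G → ℂ, GExt N ϑ μ H F₀ →
      IsIrrCharacter H (helper5.res H F₀) ∧ (∀ a : N.subgroupOf H, helper5.res H F₀ a = ϑ' a) ∧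
        detChar (helper5.res H F₀) = helper5.res H μ := by
    intro F₀ hF₀
    refine ⟨hF₀.2.1, fun a => ?_, funext fun h => hF₀.2.2.2 h⟩
    rw [hϑ'def, helper5.res_apply]
    exact hF₀.2.2.1 ⟨((a : H) : G), Subgroup.mem_subgroupOf.mp a.2⟩
  have huniq := S0862.result (G := H) (N.subgroupOf H) ϑ' hϑ' d hd' hcop'
    ⟨helper5.res H F, (hext F hF).1, (hext F hF).2.1⟩ (helper5.res H μ) ⟨hμ', hμ1'⟩ hμN'
  have h1 := huniq.unique (hext F hF) (hext F' hF')
  intro h hh
  exact congrFun h1 ⟨h, hh⟩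

/-- restriction of the canonical extension -/
theorem gext_restrict (N : Subgroup G) [hN : N.Normal] (ϑ : N → ℂ) (hϑ : IsIrrCharacter N ϑ)
    (hinv : ∀ (g : G) (n : N), ϑ ⟨g * n * g⁻¹, hN.conj_mem (n : G) n.2 g⟩ = ϑ n)
    (d : ℕ) (hd : ϑ 1 = d) (hcop : Nat.Coprime N.index d)
    (μ : G → ℂ) (hμ : IsCharacter G μ) (hμ1 : μ 1 = 1) (hμN : ∀ n : N, μ n = detChar ϑ n)
    {H H' : Subgroup G} {F : G → ℂ} (hF : GExt N ϑ μ H F) (hNH' : N ≤ H') (hH'H : H' ≤ H) :
    GExt N ϑ μ H' F := by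
  classical
  haveI : Fintype H := Fintype.ofFinite _
  haveI : Fintype H' := Fintype.ofFinite _
  obtain ⟨ϑ', hϑ'def, hϑ', -⟩ :=
    glue_sub_context N ϑ hϑ hinv d hd hcop μ hμ hμ1 hμN H' hNH'
  have hchar : IsCharacter H' (helper5.res H' F) :=
    helper8.isCharacter_comp_monoidHom (Subgroup.inclusion hH'H) (helper24.irr_isCharacter hF.2.1)
  have hresN : helper5.res (N.subgroupOf H') (helper5.res H' F) = ϑ' := by
    funext a
    rw [hϑ'def]
    exact hF.2.2.1 ⟨((a : H') : G), Subgroup.mem_subgroupOf.mp a.2⟩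
  have hirr : IsIrrCharacter H' (helper5.res H' F) :=
    isIrrCharacter_of_res_irr (N.subgroupOf H') hchar (hresN ▸ hϑ')
  refine ⟨hNH', hirr, hF.2.2.1, fun h' => ?_⟩
  have h1 := detChar_comp_hom (Subgroup.inclusion hH'H) hF.2.1 hirr h'
  have h2 : detChar (helper5.res H' F) h' = detChar (helper5.res H F) (Subgroup.inclusion hH'H h') :=
    h1
  rw [h2, hF.2.2.2]
  rfl

/-- conjugation of the canonical extension -/
theorem gext_conj (N : Subgroup G) [hN : N.Normal] (ϑ : N → ℂ)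
    (hinv : ∀ (g : G) (n : N), ϑ ⟨g * n * g⁻¹, hN.conj_mem (n : G) n.2 g⟩ = ϑ n)
    (μ : G → ℂ) (hμ : IsCharacter G μ)
    {H : Subgroup G} {F : G → ℂ} (hF : GExt N ϑ μ H F) (x : G) :
    GExt N ϑ μ (H.map (MulAut.conj x).toMonoidHom) (fun g => F (x⁻¹ * g * x)) := by
  classical
  haveI : Fintype H := Fintype.ofFinite _
  haveI : Fintype (H.map (MulAut.conj x).toMonoidHom) := Fintype.ofFinite _
  have hmem : ∀ y : G, y ∈ H.map (MulAut.conj x).toMonoidHom → x⁻¹ * y * x ∈ H := by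
    intro y hy
    obtain ⟨h, hh, rfl⟩ := Subgroup.mem_map.mp hy
    have : x⁻¹ * (MulAut.conj x).toMonoidHom h * x = h := by
      simp [MulAut.conj_apply, mul_assoc]
    rw [this]
    exact hh
  have hmem' : ∀ h : G, h ∈ H → x * h * x⁻¹ ∈ H.map (MulAut.conj x).toMonoidHom := by
    intro h hh
    exact Subgroup.mem_map.mpr ⟨h, hh, by simp [MulAut.conj_apply]⟩
  obtain ⟨c, hc⟩ : ∃ c : (H.map (MulAut.conj x).toMonoidHom) ≃* H,
      ∀ y, ((c y : H) : G) = x⁻¹ * y * x :=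
    ⟨{ toFun := fun y => ⟨x⁻¹ * y * x, hmem y y.2⟩
       invFun := fun h => ⟨x * h * x⁻¹, hmem' h h.2⟩
       left_inv := fun y => by
         apply Subtype.ext
         simp [mul_assoc]
       right_inv := fun h => by
         apply Subtype.ext
         simp [mul_assoc]
       map_mul' := fun y z => by
         apply Subtype.ext
         show x⁻¹ * ((y : G) * (z : G)) * x = (x⁻¹ * (y : G) * x) * (x⁻¹ * (z : G) * x)
         group }, fun y => rfl⟩
  have hres : helper5.res (H.map (MulAut.conj x).toMonoidHom) (fun g => F (x⁻¹ * g * x)) =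
      fun y => helper5.res H F (c y) := by
    funext y
    rw [helper5.res_apply, helper5.res_apply, hc]
  refine ⟨?_, ?_, ?_, ?_⟩
  · intro n hn
    have h1 : x⁻¹ * n * x ∈ N := by
      have := hN.conj_mem n hn x⁻¹
      rwa [inv_inv] at this
    have h2 := hmem' _ (hF.1 h1)
    have h3 : x * (x⁻¹ * n * x) * x⁻¹ = n := by simp [mul_assoc]
    rwa [h3] at h2
  · rw [hres]
    exact helper8.isIrrCharacter_comp_mulEquiv c hF.2.1
  · intro n
    have h1 : x⁻¹ * (n : G) * x ∈ N := by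
      have := hN.conj_mem n n.2 x⁻¹
      rwa [inv_inv] at this
    have h2 := hF.2.2.1 ⟨x⁻¹ * (n : G) * x, h1⟩
    have h3 := hinv x⁻¹ n
    show F (x⁻¹ * (n : G) * x) = ϑ n
    rw [← h3]
    rw [show (x⁻¹ * (n : G) * x) = ((⟨x⁻¹ * (n : G) * x, h1⟩ : N) : G) from rfl, h2]
    congr 1
    apply Subtype.ext
    simp
  · intro y
    rw [hres, detChar_comp_mulEquiv c hF.2.1 y, hF.2.2.2, hc]
    have := helper24.char_isClassFunction hμ (y : G) x⁻¹
    rw [inv_inv] at this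
    exact this

/-- the quotient of `N E` by `N` is solvable when `E` is -/
theorem solvable_sup_quot (N E : Subgroup G) [hN : N.Normal] (hE : Group.IsSolvable E) :
    Group.IsSolvable ((N ⊔ E : Subgroup G) ⧸ N.subgroupOf (N ⊔ E)) := by
  obtain ⟨f, hf⟩ : ∃ f : E →* (N ⊔ E : Subgroup G) ⧸ N.subgroupOf (N ⊔ E),
      ∀ e : E, f e = ((Subgroup.inclusion (le_sup_right : E ≤ N ⊔ E) e : (N ⊔ E : Subgroup G)) :
        (N ⊔ E : Subgroup G) ⧸ N.subgroupOf (N ⊔ E)) :=
    ⟨(QuotientGroup.mk' _).comp (Subgroup.inclusion le_sup_right), fun e => rfl⟩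
  have hsurj : Function.Surjective f := by
    intro q
    obtain ⟨h, rfl⟩ := QuotientGroup.mk_surjective q
    obtain ⟨n, hn, e, he, hne⟩ := (Subgroup.mem_sup_of_normal_left).mp h.2
    refine ⟨⟨e, he⟩, ?_⟩
    rw [hf]
    have h1 : h = (⟨n, le_sup_left (b := E) hn⟩ : (N ⊔ E : Subgroup G)) *
        Subgroup.inclusion (le_sup_right : E ≤ N ⊔ E) ⟨e, he⟩ := by
      apply Subtype.ext
      exact hne.symm
    rw [h1, QuotientGroup.mk_mul]
    have h2 : ((⟨n, le_sup_left (b := E) hn⟩ : (N ⊔ E : Subgroup G)) :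
        (N ⊔ E : Subgroup G) ⧸ N.subgroupOf (N ⊔ E)) = 1 :=
      (QuotientGroup.eq_one_iff _).mpr (Subgroup.mem_subgroupOf.mpr hn)
    rw [h2, one_mul]
  exact Group.isSolvable_of_surjective hsurj

end Glue2

section Main
variable {G : Type u} [Group G] [Fintype G]

/-- **Extension with prescribed determinant, general quotient** (Isaacs 8.15). -/
theorem extend_general (N : Subgroup G) [hN : N.Normal] (ϑ : N → ℂ) (hϑ : IsIrrCharacter N ϑ)
    (hinv : ∀ (g : G) (n : N), ϑ ⟨g * n * g⁻¹, hN.conj_mem (n : G) n.2 g⟩ = ϑ n)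
    (d : ℕ) (hd : ϑ 1 = d) (hcop : Nat.Coprime N.index d)
    (μ : G → ℂ) (hμ : IsCharacter G μ) (hμ1 : μ 1 = 1) (hμN : ∀ n : N, μ n = detChar ϑ n) :
    ∃ χ : G → ℂ, IsIrrCharacter G χ ∧ (∀ n : N, χ n = ϑ n) ∧ detChar χ = μ := by
  classical
  haveI : Fintype N := Fintype.ofFinite _
  -- the cyclic pieces
  have hcyc : ∀ g : G, ∃ F : G → ℂ, GExt N ϑ μ (N ⊔ Subgroup.zpowers g) F := by
    intro g
    apply gext_exists N ϑ hϑ hinv d hd hcop μ hμ hμ1 hμN _ le_sup_left
    apply solvable_sup_quot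
    apply Group.isSolvable_of_comm
    intro a b
    obtain ⟨i, hi⟩ := Subgroup.mem_zpowers_iff.mp a.2
    obtain ⟨j, hj⟩ := Subgroup.mem_zpowers_iff.mp b.2
    apply Subtype.ext
    show (a : G) * (b : G) = (b : G) * (a : G)
    rw [← hi, ← hj, ← zpow_add, ← zpow_add, add_comm]
  choose Fc hFc using hcyc
  obtain ⟨χ, hχdef⟩ : ∃ χ : G → ℂ, χ = fun g => Fc g g := ⟨_, rfl⟩
  have hV : ∀ (H : Subgroup G) (F : G → ℂ), GExt N ϑ μ H F → ∀ g ∈ H, χ g = F g := by
    intro H F hF g hg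
    have hle : N ⊔ Subgroup.zpowers g ≤ H := sup_le hF.1 (Subgroup.zpowers_le.mpr hg)
    have h1 := gext_restrict N ϑ hϑ hinv d hd hcop μ hμ hμ1 hμN hF le_sup_left hle
    have h2 := gext_unique N ϑ hϑ hinv d hd hcop μ hμ hμ1 hμN _ (hFc g) h1 g
      (le_sup_right (a := N) (Subgroup.mem_zpowers g))
    rw [hχdef]
    exact h2
  -- class function
  have hcf : IsClassFunction G χ := by
    intro g x
    have h1 := gext_conj N ϑ hinv μ hμ (hFc g) x
    have hmem : x * g * x⁻¹ ∈ (N ⊔ Subgroup.zpowers g).map (MulAut.conj x).toMonoidHom :=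
      Subgroup.mem_map.mpr ⟨g, le_sup_right (a := N) (Subgroup.mem_zpowers g),
        by simp [MulAut.conj_apply]⟩
    rw [hV _ _ h1 _ hmem]
    show Fc g (x⁻¹ * (x * g * x⁻¹) * x) = χ g
    rw [hχdef]
    congr 1
    group
  -- values on `N`
  have hχN : ∀ n : N, χ n = ϑ n := by
    intro n
    rw [hV _ _ (hFc n) _ (le_sup_left (b := Subgroup.zpowers (n : G)) n.2)]
    exact (hFc n).2.2.1 n
  -- Brauer's characterization
  have hgen : IsGeneralizedCharacter G χ := by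
    apply helper24.brauer_characterization χ hcf
    intro E p hp hE
    haveI hEnil : Group.IsNilpotent E := helper24.isNilpotent_of_isElementary hp hE
    have hEsolv : Group.IsSolvable E := inferInstance
    obtain ⟨F, hF⟩ := gext_exists N ϑ hϑ hinv d hd hcop μ hμ hμ1 hμN (N ⊔ E) le_sup_left
      (solvable_sup_quot N E hEsolv)
    have h1 : (fun e : E => χ e) = fun e : E =>
        helper5.res (N ⊔ E : Subgroup G) F (Subgroup.inclusion (le_sup_right : E ≤ N ⊔ E) e) := by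
      funext e
      rw [hV _ _ hF _ (le_sup_right (a := N) e.2)]
      rfl
    rw [h1]
    exact helper8.Coh.gc_of_char (helper8.isCharacter_comp_monoidHom
      (Subgroup.inclusion (le_sup_right : E ≤ N ⊔ E)) (helper24.irr_isCharacter hF.2.1))
  -- the norm on cosets
  have hcoset : ∀ g : G, ∑ n : N, χ ((n : G) * g) * conj (χ ((n : G) * g)) = (Nat.card N : ℂ) := by
    intro g
    obtain ⟨H, hHdef⟩ : ∃ H : Subgroup G, H = N ⊔ Subgroup.zpowers g := ⟨_, rfl⟩
    have hF : GExt N ϑ μ H (Fc g) := hHdef ▸ hFc g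
    have hNH : N ≤ H := hF.1
    have hgH : g ∈ H := hHdef ▸ le_sup_right (a := N) (Subgroup.mem_zpowers g)
    haveI : Fintype H := Fintype.ofFinite _
    haveI : Fintype (N.subgroupOf H) := Fintype.ofFinite _
    obtain ⟨ϑ', hϑ'def, hϑ', -⟩ :=
      glue_sub_context N ϑ hϑ hinv d hd hcop μ hμ hμ1 hμN H hNH
    have hresN : (fun a : N.subgroupOf H => helper5.res H (Fc g) a) = ϑ' := by
      funext a
      rw [hϑ'def]
      exact hF.2.2.1 ⟨((a : H) : G), Subgroup.mem_subgroupOf.mp a.2⟩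
    have h868 := (S0868.result (G := H) (N.subgroupOf H) (helper5.res H (Fc g)) hF.2.1
      (hresN ▸ hϑ') (helper5.res H (Fc g)) hF.2.1 _ rfl).2.2 rfl
    have h2 := congrFun h868 ⟨g, hgH⟩
    have hcard : Nat.card (N.subgroupOf H) = Nat.card N :=
      Nat.card_congr (Subgroup.subgroupOfEquivOfLe hNH).toEquiv
    have hN0 : (Nat.card N : ℂ) ≠ 0 := by exact_mod_cast (Nat.card_pos (α := N)).ne'
    rw [hcard] at h2
    have h3 : ∑ a : N.subgroupOf H, helper5.res H (Fc g) ((a : H) * ⟨g, hgH⟩) *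
        conj (helper5.res H (Fc g) ((a : H) * ⟨g, hgH⟩)) = (Nat.card N : ℂ) := by
      have h5 : (Nat.card N : ℂ) * ((Nat.card N : ℂ)⁻¹ * ∑ a : N.subgroupOf H,
          helper5.res H (Fc g) ((a : H) * ⟨g, hgH⟩) *
          conj (helper5.res H (Fc g) ((a : H) * ⟨g, hgH⟩))) = (Nat.card N : ℂ) * 1 :=
        congrArg (fun z => (Nat.card N : ℂ) * z) h2
      rw [← mul_assoc, mul_inv_cancel₀ hN0, one_mul, mul_one] at h5
      exact h5
    rw [← h3]
    symm
    apply Fintype.sum_equiv (Subgroup.subgroupOfEquivOfLe hNH).toEquiv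
    intro a
    have hmem : ((a : H) : G) * g ∈ H := H.mul_mem (a : H).2 hgH
    have h4 : χ (((a : H) : G) * g) = Fc g (((a : H) : G) * g) := hV H (Fc g) hF _ hmem
    show Fc g (((a : H) : G) * g) * conj (Fc g (((a : H) : G) * g)) =
      χ (((a : H) : G) * g) * conj (χ (((a : H) : G) * g))
    rw [h4]
  have hnorm : classInner χ χ = 1 := by
    unfold classInner
    have h1 : ∑ g : G, ∑ n : N, χ ((n : G) * g) * conj (χ ((n : G) * g)) =
        (Nat.card N : ℂ) * ∑ g : G, χ g * conj (χ g) := by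
      rw [Finset.sum_comm]
      have h2 : ∀ n : N, ∑ g : G, χ ((n : G) * g) * conj (χ ((n : G) * g)) =
          ∑ g : G, χ g * conj (χ g) := by
        intro n
        exact Fintype.sum_equiv (Equiv.mulLeft (n : G)) _ _ (fun g => rfl)
      rw [Finset.sum_congr rfl (fun n _ => h2 n), Finset.sum_const, Finset.card_univ,
        nsmul_eq_mul, ← Nat.card_eq_fintype_card]
    rw [Finset.sum_congr rfl (fun g _ => hcoset g), Finset.sum_const, Finset.card_univ,
      nsmul_eq_mul, ← Nat.card_eq_fintype_card] at h1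
    have hN0 : (Nat.card N : ℂ) ≠ 0 := by exact_mod_cast (Nat.card_pos (α := N)).ne'
    have hG0 : (Nat.card G : ℂ) ≠ 0 := by exact_mod_cast (Nat.card_pos (α := G)).ne'
    have h3 : ∑ g : G, χ g * conj (χ g) = (Nat.card G : ℂ) := by
      have h4 : (Nat.card N : ℂ) * (Nat.card G : ℂ) =
          (Nat.card N : ℂ) * ∑ g : G, χ g * conj (χ g) := by
        rw [← h1]
        ring
      exact (mul_left_cancel₀ hN0 h4).symm
    rw [h3, inv_mul_cancel₀ hG0]
  -- irreducibility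
  have hint : ∀ ψ : IrrCharacter G, ∃ z : ℤ, classInner χ (ψ : G → ℂ) = z := by
    intro ψ
    obtain ⟨a, b, ha, hb, hab⟩ := hgen
    obtain ⟨na, hna⟩ := helper12.classInner_char_nat ha (helper24.irr_isCharacter ψ.2)
    obtain ⟨nb, hnb⟩ := helper12.classInner_char_nat hb (helper24.irr_isCharacter ψ.2)
    refine ⟨(na : ℤ) - nb, ?_⟩
    rw [hab, helper24.classInner_sub_left, hna, hnb]
    push_cast
    rfl
  have hd0 : 0 < d := by
    rcases Nat.eq_zero_or_pos d with h | h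
    · exfalso
      rw [h, Nat.cast_zero] at hd
      exact helper24.irr_apply_one_ne_zero hϑ hd
    · exact h
  have hχ1 : χ 1 = d := by
    have := hχN 1
    rw [hd] at this
    exact this
  have hχirr : IsIrrCharacter G χ := helper12.isIrrCharacter_of_virtual hcf hint hnorm d hd0 hχ1
  refine ⟨χ, hχirr, hχN, ?_⟩
  funext g
  obtain ⟨H, hHdef⟩ : ∃ H : Subgroup G, H = N ⊔ Subgroup.zpowers g := ⟨_, rfl⟩
  have hF : GExt N ϑ μ H (Fc g) := hHdef ▸ hFc g
  have hgH : g ∈ H := hHdef ▸ le_sup_right (a := N) (Subgroup.mem_zpowers g)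
  haveI : Fintype H := Fintype.ofFinite _
  have hres : helper5.res H χ = helper5.res H (Fc g) := by
    funext h
    exact hV H (Fc g) hF h h.2
  have h1 := detChar_res H hχirr (hres ▸ hF.2.1) ⟨g, hgH⟩
  rw [hres, hF.2.2.2] at h1
  exact h1.symm

end Main

end Cfsg.Agent.helper22
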