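import Mathlib
import Cfsg.Agent.Lib_helper22_Glue
import Cfsg.Agent.Lib_helper1_RepEquiv
import Cfsg.Agent.Lib_helper23_Schur
import Cfsg.Agent.Lib_helper12_Clifford
import Cfsg.Agent.S0169

set_option autoImplicit false
set_option linter.unusedSectionVars false
set_option linter.unusedVariables false

/-!
Representation groups (helper22).

For `N ⊲ G` and an irreducible representation `Y` of `N` on `Fin d → ℂ` whose character is
`G`-invariant, the finite group `repGroup N Y M` of pairs `(g, A)` with `A Y(n) A⁻¹ = Y(g n g⁻¹)`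
and `det A ^ M = 1` is a finite central extension of `G` to which `Y` extends.
-/

namespace Cfsg.Agent.helper22

open Cfsg
open scoped ComplexConjugate

universe u

section RepGroup
variable {G : Type u} [Group G] (N : Subgroup G) [hN : N.Normal] {d : ℕ}
  (Y : Representation ℂ N (Fin d → ℂ)) (M : ℕ)

/-- the representation group: pairs `(g, A)` with `A Y(n) = Y(g n g⁻¹) A` and `det A ^ M = 1` -/
def repGroup : Subgroup (G × (Module.End ℂ (Fin d → ℂ))ˣ) where
  carrier := {x | (∀ n : N, ((x.2 : (Module.End ℂ (Fin d → ℂ))ˣ) : Module.End ℂ (Fin d → ℂ)) * Y n =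
        Y (MulAut.conjNormal x.1 n) * ((x.2 : (Module.End ℂ (Fin d → ℂ))ˣ) : Module.End ℂ (Fin d → ℂ))) ∧
      LinearMap.det ((x.2 : (Module.End ℂ (Fin d → ℂ))ˣ) : Module.End ℂ (Fin d → ℂ)) ^ M = 1}
  mul_mem' := by
    rintro ⟨g, A⟩ ⟨h, B⟩ ⟨h1, h2⟩ ⟨h3, h4⟩
    refine ⟨fun n => ?_, ?_⟩
    · show ((A * B : (Module.End ℂ (Fin d → ℂ))ˣ) : Module.End ℂ (Fin d → ℂ)) * Y n =
        Y (MulAut.conjNormal (g * h) n) * ((A * B : (Module.End ℂ (Fin d → ℂ))ˣ) : Module.End ℂ (Fin d → ℂ))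
      have h3n := h3 n
      have h1n := h1 (MulAut.conjNormal h n)
      simp only at h3n h1n
      rw [Units.val_mul, mul_assoc, h3n, ← mul_assoc, h1n, mul_assoc, map_mul, MulAut.mul_apply]
    · show LinearMap.det ((A * B : (Module.End ℂ (Fin d → ℂ))ˣ) : Module.End ℂ (Fin d → ℂ)) ^ M = 1
      simp only at h2 h4
      rw [Units.val_mul, map_mul, mul_pow, h2, h4, one_mul]
  one_mem' := by
    refine ⟨fun n => ?_, ?_⟩
    · show ((1 : (Module.End ℂ (Fin d → ℂ))ˣ) : Module.End ℂ (Fin d → ℂ)) * Y n =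
        Y (MulAut.conjNormal (1 : G) n) * ((1 : (Module.End ℂ (Fin d → ℂ))ˣ) : Module.End ℂ (Fin d → ℂ))
      rw [map_one, MulAut.one_apply, Units.val_one, one_mul, mul_one]
    · show LinearMap.det ((1 : (Module.End ℂ (Fin d → ℂ))ˣ) : Module.End ℂ (Fin d → ℂ)) ^ M = 1
      rw [Units.val_one, map_one, one_pow]
  inv_mem' := by
    rintro ⟨g, A⟩ ⟨h1, h2⟩
    refine ⟨fun n => ?_, ?_⟩
    · show ((A⁻¹ : (Module.End ℂ (Fin d → ℂ))ˣ) : Module.End ℂ (Fin d → ℂ)) * Y n =
        Y (MulAut.conjNormal g⁻¹ n) * ((A⁻¹ : (Module.End ℂ (Fin d → ℂ))ˣ) : Module.End ℂ (Fin d → ℂ))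
      have h1n := h1 (MulAut.conjNormal g⁻¹ n)
      simp only at h1n
      rw [map_inv, MulAut.apply_inv_self] at h1n
      rw [map_inv, Units.inv_mul_eq_iff_eq_mul, ← mul_assoc, h1n, mul_assoc, Units.mul_inv, mul_one]
    · show LinearMap.det ((A⁻¹ : (Module.End ℂ (Fin d → ℂ))ˣ) : Module.End ℂ (Fin d → ℂ)) ^ M = 1
      simp only at h2
      have h3 : LinearMap.det ((A⁻¹ : (Module.End ℂ (Fin d → ℂ))ˣ) : Module.End ℂ (Fin d → ℂ)) *
          LinearMap.det ((A : (Module.End ℂ (Fin d → ℂ))ˣ) : Module.End ℂ (Fin d → ℂ)) = 1 := by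
        rw [← map_mul, Units.inv_mul, map_one]
      have h4 := congrArg (· ^ M) h3
      simp only [mul_pow, h2, mul_one, one_pow] at h4
      exact h4

theorem mem_repGroup {x : G × (Module.End ℂ (Fin d → ℂ))ˣ} :
    x ∈ repGroup N Y M ↔ (∀ n : N, ((x.2 : (Module.End ℂ (Fin d → ℂ))ˣ) : Module.End ℂ (Fin d → ℂ)) * Y n =
        Y (MulAut.conjNormal x.1 n) * ((x.2 : (Module.End ℂ (Fin d → ℂ))ˣ) : Module.End ℂ (Fin d → ℂ))) ∧
      LinearMap.det ((x.2 : (Module.End ℂ (Fin d → ℂ))ˣ) : Module.End ℂ (Fin d → ℂ)) ^ M = 1 := Iff.rfl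

/-- projection to `G` -/
def rgProj : repGroup N Y M →* G := (MonoidHom.fst G _).comp (repGroup N Y M).subtype

theorem rgProj_apply (x : repGroup N Y M) : rgProj N Y M x = x.1.1 := rfl

/-- second projection, as a representation -/
def rgRep : Representation ℂ (repGroup N Y M) (Fin d → ℂ) :=
  ((Units.coeHom (Module.End ℂ (Fin d → ℂ))).comp (MonoidHom.snd G _)).comp (repGroup N Y M).subtype

theorem rgRep_apply (x : repGroup N Y M) :
    rgRep N Y M x = ((x.1.2 : (Module.End ℂ (Fin d → ℂ))ˣ) : Module.End ℂ (Fin d → ℂ)) := rfl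

/-- scalar units -/
def scalarUnit (d : ℕ) : ℂˣ →* (Module.End ℂ (Fin d → ℂ))ˣ :=
  Units.map (algebraMap ℂ (Module.End ℂ (Fin d → ℂ)) : ℂ →* Module.End ℂ (Fin d → ℂ))

theorem scalarUnit_val (c : ℂˣ) :
    ((scalarUnit d c : (Module.End ℂ (Fin d → ℂ))ˣ) : Module.End ℂ (Fin d → ℂ)) =
      (c : ℂ) • (1 : Module.End ℂ (Fin d → ℂ)) := by
  show algebraMap ℂ (Module.End ℂ (Fin d → ℂ)) (c : ℂ) = _
  rw [Algebra.algebraMap_eq_smul_one]

theorem det_smul_one (c : ℂ) :
    LinearMap.det (c • (1 : Module.End ℂ (Fin d → ℂ))) = c ^ d := by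
  rw [LinearMap.det_smul, map_one, mul_one, Module.finrank_fin_fun]

theorem scalar_mem (c : ℂˣ) (hc : (c : ℂ) ^ (d * M) = 1) :
    ((1 : G), scalarUnit d c) ∈ repGroup N Y M := by
  rw [mem_repGroup]
  refine ⟨fun n => ?_, ?_⟩
  · show ((scalarUnit d c : (Module.End ℂ (Fin d → ℂ))ˣ) : Module.End ℂ (Fin d → ℂ)) * Y n =
      Y (MulAut.conjNormal (1 : G) n) * ((scalarUnit d c : (Module.End ℂ (Fin d → ℂ))ˣ) : Module.End ℂ (Fin d → ℂ))
    rw [map_one, MulAut.one_apply, scalarUnit_val, smul_mul_assoc, mul_smul_comm, one_mul, mul_one]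
  · show LinearMap.det ((scalarUnit d c : (Module.End ℂ (Fin d → ℂ))ˣ) : Module.End ℂ (Fin d → ℂ)) ^ M = 1
    rw [scalarUnit_val, det_smul_one, ← pow_mul, hc]

/-- the section on `N` -/
def rgSec (hM : ∀ n : N, n ^ M = 1) : N →* repGroup N Y M where
  toFun n := ⟨((n : G), Y.asGroupHom n), by
    rw [mem_repGroup]
    refine ⟨fun m => ?_, ?_⟩
    · show ((Y.asGroupHom n : (Module.End ℂ (Fin d → ℂ))ˣ) : Module.End ℂ (Fin d → ℂ)) * Y m =
        Y (MulAut.conjNormal (n : G) m) * ((Y.asGroupHom n : (Module.End ℂ (Fin d → ℂ))ˣ) : Module.End ℂ (Fin d → ℂ))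
      rw [Representation.asGroupHom_apply, ← map_mul, ← map_mul]
      congr 1
      apply Subtype.ext
      rw [Subgroup.coe_mul, Subgroup.coe_mul, MulAut.conjNormal_apply]
      group
    · show LinearMap.det ((Y.asGroupHom n : (Module.End ℂ (Fin d → ℂ))ˣ) : Module.End ℂ (Fin d → ℂ)) ^ M = 1
      rw [Representation.asGroupHom_apply, ← map_pow, ← map_pow, hM n, map_one, map_one]⟩
  map_one' := by
    apply Subtype.ext
    apply Prod.ext
    · rfl
    · show Y.asGroupHom 1 = 1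
      rw [map_one]
  map_mul' a b := by
    apply Subtype.ext
    apply Prod.ext
    · rfl
    · show Y.asGroupHom (a * b) = Y.asGroupHom a * Y.asGroupHom b
      rw [map_mul]

theorem rgProj_rgSec (hM : ∀ n : N, n ^ M = 1) (n : N) :
    rgProj N Y M (rgSec N Y M hM n) = n := rfl

theorem rgRep_rgSec (hM : ∀ n : N, n ^ M = 1) (n : N) :
    rgRep N Y M (rgSec N Y M hM n) = Y n := by
  rw [rgRep_apply]
  exact Representation.asGroupHom_apply Y n

theorem rgProj_surjective [Finite N] (hY : Y.IsIrreducible)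
    (hinv : ∀ (g : G) (n : N), Y.character (MulAut.conjNormal g n) = Y.character n) :
    Function.Surjective (rgProj N Y M) := by
  intro g
  obtain ⟨σ, hσ⟩ : ∃ σ : Representation ℂ N (Fin d → ℂ),
      σ = MonoidHom.comp Y (MulAut.conjNormal g : N ≃* N).toMonoidHom := ⟨_, rfl⟩
  have hσn : ∀ n : N, σ n = Y (MulAut.conjNormal g n) := by
    intro n; rw [hσ]; rfl
  have hchar : Y.character = σ.character := by
    funext n
    show _ = LinearMap.trace ℂ _ (σ n)
    rw [hσn]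
    exact (hinv g n).symm
  obtain ⟨e⟩ := helper1.equiv_of_character_eq Y σ hchar
  have he : ∀ n : N, (e.toLinearEquiv : (Fin d → ℂ) →ₗ[ℂ] (Fin d → ℂ)) * Y n =
      Y (MulAut.conjNormal g n) * (e.toLinearEquiv : (Fin d → ℂ) →ₗ[ℂ] (Fin d → ℂ)) := by
    intro n
    rw [← hσn n]
    exact e.toIntertwiningMap.isIntertwining' n
  obtain ⟨A₀, hA₀⟩ : ∃ A₀ : (Module.End ℂ (Fin d → ℂ))ˣ,
      (A₀ : Module.End ℂ (Fin d → ℂ)) = (e.toLinearEquiv : (Fin d → ℂ) →ₗ[ℂ] (Fin d → ℂ)) :=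
    ⟨LinearMap.GeneralLinearGroup.ofLinearEquiv e.toLinearEquiv, rfl⟩
  have hdet0 : LinearMap.det (A₀ : Module.End ℂ (Fin d → ℂ)) ≠ 0 :=
    (A₀.isUnit.map LinearMap.det).ne_zero
  have hd : 0 < d := helper23.pos_of_irreducible Y hY
  obtain ⟨c, hc⟩ := IsAlgClosed.exists_pow_nat_eq (LinearMap.det (A₀ : Module.End ℂ (Fin d → ℂ)))⁻¹ hd
  have hc0 : c ≠ 0 := by
    intro h0
    rw [h0, zero_pow hd.ne'] at hc
    exact inv_ne_zero hdet0 hc.symm
  have hmem : (g, scalarUnit d (Units.mk0 c hc0) * A₀) ∈ repGroup N Y M := by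
    rw [mem_repGroup]
    refine ⟨fun n => ?_, ?_⟩
    · show ((scalarUnit d (Units.mk0 c hc0) * A₀ : (Module.End ℂ (Fin d → ℂ))ˣ) :
          Module.End ℂ (Fin d → ℂ)) * Y n = Y (MulAut.conjNormal g n) *
          ((scalarUnit d (Units.mk0 c hc0) * A₀ : (Module.End ℂ (Fin d → ℂ))ˣ) :
            Module.End ℂ (Fin d → ℂ))
      rw [Units.val_mul, scalarUnit_val, Units.val_mk0, smul_mul_assoc, one_mul, smul_mul_assoc,
        mul_smul_comm, hA₀, he n]
    · show LinearMap.det ((scalarUnit d (Units.mk0 c hc0) * A₀ : (Module.End ℂ (Fin d → ℂ))ˣ) :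
          Module.End ℂ (Fin d → ℂ)) ^ M = 1
      rw [Units.val_mul, map_mul, scalarUnit_val, Units.val_mk0, det_smul_one, hc,
        inv_mul_cancel₀ hdet0, one_pow]
  exact ⟨⟨_, hmem⟩, rfl⟩

theorem rgProj_ker_scalar (hY : Y.IsIrreducible) (x : repGroup N Y M)
    (hx : x ∈ (rgProj N Y M).ker) :
    ∃ c : ℂˣ, (c : ℂ) ^ (d * M) = 1 ∧ x.1 = ((1 : G), scalarUnit d c) := by
  rw [MonoidHom.mem_ker, rgProj_apply] at hx
  obtain ⟨⟨g, A⟩, hmem⟩ := x
  simp only at hx
  subst hx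
  obtain ⟨h1, h2⟩ := (mem_repGroup N Y M).mp hmem
  simp only at h1 h2
  obtain ⟨c, hc⟩ := helper23.schur_scalar Y hY (A : Module.End ℂ (Fin d → ℂ)) (fun n => by
    have := h1 n
    rw [map_one, MulAut.one_apply] at this
    exact this)
  have hc1 : c ^ (d * M) = 1 := by
    have hc' : (A : Module.End ℂ (Fin d → ℂ)) = c • (1 : Module.End ℂ (Fin d → ℂ)) := hc
    rw [hc', det_smul_one, ← pow_mul] at h2
    exact h2
  have hd : 0 < d := helper23.pos_of_irreducible Y hY
  have hc0 : c ≠ 0 := by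
    intro h0
    have hA0 : (A : Module.End ℂ (Fin d → ℂ)) = 0 := by rw [hc, h0, zero_smul]
    have : LinearMap.det (A : Module.End ℂ (Fin d → ℂ)) ≠ 0 := (A.isUnit.map LinearMap.det).ne_zero
    apply this
    rw [hA0]
    have : (0 : Module.End ℂ (Fin d → ℂ)) = (0 : ℂ) • (1 : Module.End ℂ (Fin d → ℂ)) := by
      rw [zero_smul]
    rw [this, det_smul_one, zero_pow hd.ne']
  refine ⟨Units.mk0 c hc0, hc1, ?_⟩
  apply Prod.ext
  · rfl
  · apply Units.ext
    show (A : Module.End ℂ (Fin d → ℂ)) = _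
    rw [scalarUnit_val, Units.val_mk0]
    exact hc

theorem rgProj_ker_le_center (hY : Y.IsIrreducible) :
    (rgProj N Y M).ker ≤ Subgroup.center (repGroup N Y M) := by
  intro x hx
  obtain ⟨c, hc1, hxc⟩ := rgProj_ker_scalar N Y M hY x hx
  rw [Subgroup.mem_center_iff]
  intro y
  apply Subtype.ext
  rw [Subgroup.coe_mul, Subgroup.coe_mul, hxc]
  apply Prod.ext
  · show y.1.1 * 1 = 1 * y.1.1
    rw [mul_one, one_mul]
  · apply Units.ext
    show ((y.1.2 * scalarUnit d c : (Module.End ℂ (Fin d → ℂ))ˣ) : Module.End ℂ (Fin d → ℂ)) =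
      ((scalarUnit d c * y.1.2 : (Module.End ℂ (Fin d → ℂ))ˣ) : Module.End ℂ (Fin d → ℂ))
    rw [Units.val_mul, Units.val_mul, scalarUnit_val, smul_mul_assoc, mul_smul_comm, one_mul, mul_one]

theorem rgSec_range_normal (hM : ∀ n : N, n ^ M = 1) : (rgSec N Y M hM).range.Normal := by
  constructor
  rintro _ ⟨n, rfl⟩ x
  refine ⟨MulAut.conjNormal x.1.1 n, ?_⟩
  apply Subtype.ext
  rw [Subgroup.coe_mul, Subgroup.coe_mul, Subgroup.coe_inv]
  apply Prod.ext
  · show ((MulAut.conjNormal x.1.1 n : N) : G) = x.1.1 * (n : G) * (x.1.1)⁻¹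
    rw [MulAut.conjNormal_apply]
  · show Y.asGroupHom (MulAut.conjNormal x.1.1 n) = x.1.2 * Y.asGroupHom n * (x.1.2)⁻¹
    apply Units.ext
    rw [Units.val_mul, Units.val_mul, Representation.asGroupHom_apply,
      Representation.asGroupHom_apply]
    have h1 := ((mem_repGroup N Y M).mp x.2).1 n
    rw [h1, mul_assoc, Units.mul_inv, mul_one]

theorem repGroup_finite [Finite G] (hY : Y.IsIrreducible) (hM : 0 < M) :
    Finite (repGroup N Y M) := by
  have hd : 0 < d := helper23.pos_of_irreducible Y hY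
  haveI : NeZero (d * M) := ⟨(Nat.mul_pos hd hM).ne'⟩
  have hker : Finite (rgProj N Y M).ker := by
    have hsub : ((rgProj N Y M).ker : Set (repGroup N Y M)) ⊆
        Set.range (fun c : rootsOfUnity (d * M) ℂ =>
          (⟨((1 : G), scalarUnit d (c : ℂˣ)), scalar_mem N Y M (c : ℂˣ) (by
            have h1 := c.2
            rw [mem_rootsOfUnity] at h1
            have h2 := congrArg (fun u : ℂˣ => (u : ℂ)) h1
            simpa using h2)⟩ : repGroup N Y M)) := by
      intro x hx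
      obtain ⟨c, hc1, hxc⟩ := rgProj_ker_scalar N Y M hY x hx
      refine ⟨⟨c, ?_⟩, ?_⟩
      · rw [mem_rootsOfUnity]
        apply Units.ext
        rw [Units.val_pow_eq_pow_val, hc1, Units.val_one]
      · apply Subtype.ext
        exact hxc.symm
    exact Set.finite_coe_iff.mpr ((Set.finite_range _).subset hsub)
  haveI : Finite ((repGroup N Y M) ⧸ (rgProj N Y M).ker) :=
    Finite.of_equiv _ (QuotientGroup.quotientKerEquivRange (rgProj N Y M)).symm.toEquiv
  exact Finite.of_subgroup_quotient (rgProj N Y M).ker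

end RepGroup

section Datum
variable {G : Type u} [Group G] [Fintype G]

/-- existence of a representation group for an invariant irreducible character -/
theorem exists_repGroup (N : Subgroup G) [hN : N.Normal] (ϑ : N → ℂ) (hϑ : IsIrrCharacter N ϑ)
    (hinv : ∀ (g : G) (n : N), ϑ ⟨g * n * g⁻¹, hN.conj_mem (n : G) n.2 g⟩ = ϑ n) :
    ∃ (Γ : Type u) (_ : Group Γ) (_ : Fintype Γ) (p : Γ →* G) (s : N →* Γ) (ϑ' : Γ → ℂ),
      Function.Surjective p ∧ p.ker ≤ Subgroup.center Γ ∧ (∀ n, p (s n) = n) ∧ s.range.Normal ∧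
      IsCharacter Γ ϑ' ∧ (∀ n, ϑ' (s n) = ϑ n) := by
  obtain ⟨d, Y, hY, hYϑ⟩ := hϑ
  have hM : ∀ n : N, n ^ (Nat.card N) = 1 := fun n => pow_card_eq_one'
  have hMpos : 0 < Nat.card N := Nat.card_pos
  have hinv' : ∀ (g : G) (n : N), Y.character (MulAut.conjNormal g n) = Y.character n := by
    intro g n
    rw [hYϑ]
    have := hinv g n
    convert this using 2
    apply Subtype.ext
    rw [MulAut.conjNormal_apply]
  haveI := repGroup_finite N Y (Nat.card N) hY hMpos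
  haveI : Fintype (repGroup N Y (Nat.card N)) := Fintype.ofFinite _
  refine ⟨repGroup N Y (Nat.card N), inferInstance, inferInstance, rgProj N Y (Nat.card N),
    rgSec N Y (Nat.card N) hM, (rgRep N Y (Nat.card N)).character,
    rgProj_surjective N Y (Nat.card N) hY hinv', rgProj_ker_le_center N Y (Nat.card N) hY,
    fun n => rfl, rgSec_range_normal N Y (Nat.card N) hM, ⟨d, rgRep N Y (Nat.card N), rfl⟩, ?_⟩
  intro n
  rw [← hYϑ]
  show LinearMap.trace ℂ _ (rgRep N Y (Nat.card N) (rgSec N Y (Nat.card N) hM n)) = _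
  rw [rgRep_rgSec]
  rfl

end Datum

section Abstract

theorem isIrrCharacter_comp_surjective {K H : Type*} [Group K] [Group H] (f : K →* H)
    (hf : Function.Surjective f) {χ : H → ℂ} (hχ : IsIrrCharacter H χ) :
    IsIrrCharacter K (fun k => χ (f k)) := by
  obtain ⟨n, ρ, hρ, rfl⟩ := hχ
  haveI := hρ
  exact ⟨n, (MonoidHom.comp ρ f : Representation ℂ K (Fin n → ℂ)),
    helper8.isIrreducible_comp_surjective ρ f hf, rfl⟩

variable {G : Type u} [Group G] [Fintype G] (N : Subgroup G) [hN : N.Normal] [Fintype N]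
  {Γ : Type u} [Group Γ] [Fintype Γ] (p : Γ →* G) (s : N →* Γ) (ϑ' : Γ → ℂ) (ϑ : N → ℂ)

theorem datum_sec_injective (hps : ∀ n, p (s n) = n) : Function.Injective s := by
  intro a b hab
  apply Subtype.ext
  rw [← hps a, ← hps b, hab]

/-- the isomorphism `N ≃ s(N)` -/
noncomputable def datumEquiv (hps : ∀ n, p (s n) = n) : N ≃* s.range :=
  MonoidHom.ofInjective (datum_sec_injective N p s hps)

theorem datumEquiv_symm_spec (hps : ∀ n, p (s n) = n) (k : s.range) :
    s ((datumEquiv N p s hps).symm k) = k := by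
  have h1 := (datumEquiv N p s hps).apply_symm_apply k
  have h2 := congrArg Subtype.val h1
  rw [← h2]
  rfl

theorem datum_res_eq (hps : ∀ n, p (s n) = n) (F : G → ℂ) [Fintype s.range] :
    helper5.res s.range (fun γ => F (p γ)) =
      fun k => (helper5.res N F) ((datumEquiv N p s hps).symm k) := by
  funext k
  rw [helper5.res_apply, helper5.res_apply, ← hps, datumEquiv_symm_spec]

theorem datum_res_irr (hps : ∀ n, p (s n) = n) (hϑs : ∀ n, ϑ' (s n) = ϑ n)
    (hϑ : IsIrrCharacter N ϑ) [Fintype s.range] :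
    IsIrrCharacter s.range (helper5.res s.range ϑ') := by
  have h1 := helper8.isIrrCharacter_comp_mulEquiv (datumEquiv N p s hps).symm hϑ
  have h2 : helper5.res s.range ϑ' = fun k => ϑ ((datumEquiv N p s hps).symm k) := by
    funext k
    rw [helper5.res_apply, ← hϑs, datumEquiv_symm_spec]
  rw [h2]
  exact h1

theorem datum_res_eq' (hps : ∀ n, p (s n) = n) (hϑs : ∀ n, ϑ' (s n) = ϑ n) [Fintype s.range] :
    helper5.res s.range ϑ' = fun k => ϑ ((datumEquiv N p s hps).symm k) := by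
  funext k
  rw [helper5.res_apply, ← hϑs, datumEquiv_symm_spec]

theorem datum_irr (hps : ∀ n, p (s n) = n) (hϑ' : IsCharacter Γ ϑ') (hϑs : ∀ n, ϑ' (s n) = ϑ n)
    (hϑ : IsIrrCharacter N ϑ) : IsIrrCharacter Γ ϑ' := by
  classical
  exact isIrrCharacter_of_res_irr s.range hϑ' (datum_res_irr N p s ϑ' ϑ hps hϑs hϑ)

theorem datum_map_range (hps : ∀ n, p (s n) = n) : s.range.map p = N := by
  rw [MonoidHom.map_range]
  have : p.comp s = N.subtype := by
    ext n
    exact hps n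
  rw [this, Subgroup.range_subtype]

theorem datum_sup_ker (hps : ∀ n, p (s n) = n) : s.range ⊔ p.ker = N.comap p := by
  rw [← Subgroup.comap_map_eq, datum_map_range N p s hps]

theorem datum_index [hsn : s.range.Normal] (hp : Function.Surjective p) (hps : ∀ n, p (s n) = n) :
    (p.ker.map (QuotientGroup.mk' s.range)).index = N.index := by
  rw [Subgroup.index_map, QuotientGroup.ker_mk', sup_comm, datum_sup_ker N p s hps,
    Subgroup.index_comap_of_surjective N hp, MonoidHom.range_eq_top.mpr (QuotientGroup.mk'_surjective _),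
    Subgroup.index_top, mul_one]

/-- **Isaacs 11.29, invariant case, given a representation group.** -/
theorem degree_ratio_of_datum [hsn : s.range.Normal] (hp : Function.Surjective p)
    (hker : p.ker ≤ Subgroup.center Γ) (hps : ∀ n, p (s n) = n) (hϑ' : IsCharacter Γ ϑ')
    (hϑs : ∀ n, ϑ' (s n) = ϑ n) (hϑ : IsIrrCharacter N ϑ)
    {χ : G → ℂ} (hχ : IsIrrCharacter G χ)
    (hcon : classInner (helper5.res N χ) ϑ ≠ 0) : ∃ e : ℕ, χ 1 = e * ϑ 1 ∧ e ∣ N.index := by
  classical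
  haveI : Fintype (IrrCharacter (Γ ⧸ s.range)) := Fintype.ofFinite _
  have hϑ'irr := datum_irr N p s ϑ' ϑ hps hϑ' hϑs hϑ
  have hresirr := datum_res_irr N p s ϑ' ϑ hps hϑs hϑ
  have hχ' : IsIrrCharacter Γ (fun γ => χ (p γ)) := isIrrCharacter_comp_surjective p hp hχ
  have hcon' : classInner (helper5.res s.range (fun γ => χ (p γ))) (helper5.res s.range ϑ') ≠ 0 := by
    rw [datum_res_eq N p s hps χ, datum_res_eq' N p s ϑ' ϑ hps hϑs,
      helper12.classInner_comp_mulEquiv (datumEquiv N p s hps).symm (helper5.res N χ) ϑ]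
    exact hcon
  obtain ⟨β, hβ⟩ := (gallagher s.range hϑ'irr hresirr).2.2 _ hχ' hcon'
  obtain ⟨e, ρ, hρ, hρβ⟩ := β.2
  have hβ1 : (β : Γ ⧸ s.range → ℂ) 1 = e := by
    rw [← hρβ, Representation.char_one, Module.finrank_fin_fun]
  refine ⟨e, ?_, ?_⟩
  · have h1 := congrFun hβ 1
    rw [Pi.mul_apply, infl_apply, QuotientGroup.mk_one, hβ1, map_one] at h1
    rw [h1, ← hϑs 1, map_one]
  · haveI := hρ
    have hnorm : (p.ker.map (QuotientGroup.mk' s.range)).Normal :=
      Subgroup.Normal.map inferInstance _ (QuotientGroup.mk'_surjective _)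
    have hab : ∀ a ∈ p.ker.map (QuotientGroup.mk' s.range),
        ∀ b ∈ p.ker.map (QuotientGroup.mk' s.range), a * b = b * a := by
      rintro _ ⟨z, hz, rfl⟩ _ ⟨w, hw, rfl⟩
      rw [← map_mul, ← map_mul, Subgroup.mem_center_iff.mp (hker hz) w]
    have h2 := Cfsg.Agent.S0169.result ρ (p.ker.map (QuotientGroup.mk' s.range)) hab
    rw [Module.finrank_fin_fun, datum_index N p s hp hps] at h2
    exact h2

end Abstract

section Ratio
variable {G : Type u} [Group G] [Fintype G]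

/-- **Isaacs 11.29, invariant case.** -/
theorem degree_ratio_invariant (N : Subgroup G) [hN : N.Normal] [Fintype N]
    {χ : G → ℂ} (hχ : IsIrrCharacter G χ) {ϑ : N → ℂ} (hϑ : IsIrrCharacter N ϑ)
    (hinv : ∀ (g : G) (n : N), ϑ ⟨g * n * g⁻¹, hN.conj_mem (n : G) n.2 g⟩ = ϑ n)
    (hcon : classInner (helper5.res N χ) ϑ ≠ 0) : ∃ e : ℕ, χ 1 = e * ϑ 1 ∧ e ∣ N.index := by
  obtain ⟨Γ, _, _, p, s, ϑ', hp, hker, hps, hsn, hϑ', hϑs⟩ := exists_repGroup N ϑ hϑ hinv
  exact degree_ratio_of_datum N p s ϑ' ϑ hp hker hps hϑ' hϑs hϑ hχ hcon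

/-- **Isaacs 11.29.** -/
theorem degree_ratio_general (N : Subgroup G) [hN : N.Normal] [Fintype N]
    {χ : G → ℂ} (hχ : IsIrrCharacter G χ) {ϑ : N → ℂ} (hϑ : IsIrrCharacter N ϑ)
    (hcon : classInner (helper5.res N χ) ϑ ≠ 0) : ∃ e : ℕ, χ 1 = e * ϑ 1 ∧ e ∣ N.index := by
  classical
  obtain ⟨θ, hθ⟩ : ∃ θ : IrrCharacter N, (θ : N → ℂ) = ϑ := ⟨⟨ϑ, hϑ⟩, rfl⟩
  obtain ⟨T, hT⟩ : ∃ T : Subgroup G, T = inertia N θ := ⟨_, rfl⟩
  haveI : Fintype T := Fintype.ofFinite _
  have hNT : N ≤ T := by rw [hT]; exact le_inertia N θ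
  obtain ⟨ψ, hψ, -, ⟨k, hk0, hk⟩, hdeg⟩ := clifford_degree N hχ θ (by rw [hθ]; exact hcon) T hT
  haveI : (N.subgroupOf T).Normal := Subgroup.normal_subgroupOf
  haveI : Fintype (N.subgroupOf T) := Fintype.ofFinite _
  obtain ⟨ε, hε⟩ : ∃ ε : N.subgroupOf T ≃* N, ε = Subgroup.subgroupOfEquivOfLe hNT := ⟨_, rfl⟩
  have hεv : ∀ a : N.subgroupOf T, ((ε a : N) : G) = ((a : T) : G) := by
    intro a; rw [hε]; rfl
  have hϑ'' : IsIrrCharacter (N.subgroupOf T) (fun a => ϑ (ε a)) :=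
    helper8.isIrrCharacter_comp_mulEquiv ε hϑ
  have hinv'' : ∀ (t : T) (a : N.subgroupOf T),
      (fun a => ϑ (ε a)) ⟨t * a * t⁻¹, Subgroup.Normal.conj_mem inferInstance (a : T) a.2 t⟩ =
        (fun a => ϑ (ε a)) a := by
    intro t a
    have h1 : helper8.conjFunN N (t : G) (θ : N → ℂ) = θ := (mem_inertia N).mp (hT ▸ t.2)
    have h2 := congrFun h1 (ε a)
    rw [helper8.conjFunN_apply, hθ] at h2
    show ϑ (ε _) = ϑ (ε a)
    rw [← h2]
    congr 1
    apply Subtype.ext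
    rw [hεv]
    show ((t : G) * ((a : T) : G) * ((t : T) : G)⁻¹) = (t : G) * ((ε a : N) : G) * (t : G)⁻¹
    rw [hεv]
  have hres : helper5.res (N.subgroupOf T) ψ = (k : ℂ) • (fun a => ϑ (ε a)) := by
    funext a
    rw [helper5.res_apply, hk a, Pi.smul_apply, smul_eq_mul, hθ]
    congr 2
    apply Subtype.ext
    rw [hεv]
  have hcon'' : classInner (helper5.res (N.subgroupOf T) ψ) (fun a => ϑ (ε a)) ≠ 0 := by
    rw [hres, helper24.classInner_smul_left, helper24.irr_classInner_self hϑ'', mul_one]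
    exact_mod_cast hk0
  obtain ⟨e, he1, he2⟩ := degree_ratio_invariant (N.subgroupOf T) hψ hϑ'' hinv'' hcon''
  refine ⟨T.index * e, ?_, ?_⟩
  · rw [← helper24.char_charDegree_cast (helper24.irr_isCharacter hχ), hdeg, Nat.cast_mul,
      helper24.char_charDegree_cast (helper24.irr_isCharacter hψ), he1]
    show _ * (_ * ϑ (ε 1)) = _
    rw [map_one]
    push_cast
    ring
  · have h1 : (N.subgroupOf T).index = N.relIndex T := rfl
    rw [h1] at he2
    rw [← Subgroup.relIndex_mul_index hNT, mul_comm]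
    exact Nat.mul_dvd_mul_right he2 _

end Ratio

end Cfsg.Agent.helper22
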