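import Mathlib
import Cfsg.Agent.Lib_helper22_DetExt
import Cfsg.Agent.Lib_helper24_CharIntegral

set_option autoImplicit false
set_option linter.unusedSectionVars false
set_option linter.unusedVariables false

/-!
Extension of invariant characters, coprime case with solvable quotient (helper22).

* `detHom_invariant` : the determinant of an invariant irreducible character is invariant;
* `extends_of_coprime_solvable` : `G ⧸ N` solvable, `ϑ ∈ Irr(N)` invariant, `(|G : N|, |N|) = 1` ⇒ `ϑ`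
  extends to `G`.
-/

namespace Cfsg.Agent.helper22

open Cfsg

universe u

section CoprimeExt
variable {G : Type u} [Group G] [Finite G]

theorem detChar_invariant (N : Subgroup G) [hN : N.Normal] (ϑ : N → ℂ) (hϑ : IsIrrCharacter N ϑ)
    (hinv : ∀ (g : G) (n : N), ϑ ⟨g * n * g⁻¹, hN.conj_mem (n : G) n.2 g⟩ = ϑ n) (g : G) (n : N) :
    detChar ϑ ⟨g * n * g⁻¹, hN.conj_mem (n : G) n.2 g⟩ = detChar ϑ n := by
  classical
  haveI : Fintype N := Fintype.ofFinite N
  have e : ϑ = fun h => ϑ ((MulAut.conjNormal g : N ≃* N) h) := by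
    funext h
    exact (hinv g h).symm
  have h1 := detChar_comp_mulEquiv (MulAut.conjNormal g : N ≃* N) hϑ n
  rw [← e] at h1
  rw [h1]
  rfl

theorem extends_of_coprime_solvable (N : Subgroup G) [hN : N.Normal]
    (hsolv : Group.IsSolvable (G ⧸ N)) (ϑ : N → ℂ) (hϑ : IsIrrCharacter N ϑ)
    (hinv : ∀ (g : G) (n : N), ϑ ⟨g * n * g⁻¹, hN.conj_mem (n : G) n.2 g⟩ = ϑ n)
    (hcop : Nat.Coprime N.index (Nat.card N)) :
    ∃ χ : G → ℂ, IsIrrCharacter G χ ∧ ∀ n : N, χ n = ϑ n := by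
  classical
  haveI : Fintype G := Fintype.ofFinite G
  haveI : Fintype N := Fintype.ofFinite N
  obtain ⟨d, hd⟩ := helper24.char_apply_one (helper24.irr_isCharacter hϑ)
  have hdvd : d ∣ Nat.card N := by
    have := helper24.irr_degree_dvd_card hϑ
    rwa [helper24.charDegree_natCast ϑ d hd] at this
  obtain ⟨D, hD⟩ := exists_detHom hϑ
  have hDinv : ∀ (g : G) (n : N), D ⟨g * n * g⁻¹, hN.conj_mem (n : G) n.2 g⟩ = D n := by
    intro g n
    apply Units.ext
    rw [← hD, ← hD]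
    exact detChar_invariant N ϑ hϑ hinv g n
  have hr : ∀ n : N, D n ^ Nat.card N = 1 := fun n => by
    rw [← map_pow, pow_card_eq_one', map_one]
  obtain ⟨μ₀, hμ₀⟩ := exists_extend_coprime N D hDinv (Nat.card N) hr hcop
  have hlin := (linear_iff_hom (χ := fun g => ((μ₀ g : ℂˣ) : ℂ))).mpr ⟨μ₀, fun g => rfl⟩
  obtain ⟨χ, hχ, hχN, -⟩ := extend_solvable N hsolv ϑ hϑ hinv d hd
    (Nat.Coprime.coprime_dvd_right hdvd hcop) (fun g => ((μ₀ g : ℂˣ) : ℂ)) hlin.1 hlin.2
    (fun n => by rw [hD, hμ₀])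
  exact ⟨χ, hχ, hχN⟩

end CoprimeExt

end Cfsg.Agent.helper22
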