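import Mathlib
import Cfsg.Agent.Lib_helper22_ExtLin
import Cfsg.Statements.S0865

set_option autoImplicit false
set_option linter.unusedSectionVars false
set_option linter.unusedVariables false
open Cfsg

namespace Cfsg.Agent.S0865

open Cfsg.Agent.helper22

universe u

/-- a linear character of a finite group has finite order -/
theorem hom_pow_card {G : Type u} [Group G] [Finite G] (φ : G →* ℂˣ) (g : G) :
    φ g ^ Nat.card G = 1 := by
  rw [← map_pow, pow_card_eq_one', map_one]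

theorem orderOf_fun_pos {G : Type u} [Group G] [Finite G] {χ : G → ℂ} (φ : G →* ℂˣ)
    (hφ : ∀ g, χ g = ((φ g : ℂˣ) : ℂ)) : 0 < orderOf χ := by
  rw [orderOf_pos_iff, isOfFinOrder_iff_pow_eq_one]
  refine ⟨Nat.card G, Nat.card_pos, ?_⟩
  funext g
  rw [Pi.pow_apply, hφ g, ← Units.val_pow_eq_pow_val, hom_pow_card, Units.val_one]
  rfl

theorem fun_pow_orderOf {G : Type u} [Group G] {χ : G → ℂ} (φ : G →* ℂˣ)
    (hφ : ∀ g, χ g = ((φ g : ℂˣ) : ℂ)) (g : G) : φ g ^ orderOf χ = 1 := by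
  have h1 := congrFun (pow_orderOf_eq_one χ) g
  rw [Pi.pow_apply, hφ g, ← Units.val_pow_eq_pow_val] at h1
  exact Units.ext h1

theorem result {G : Type*} [Group G] [Finite G] (N : Subgroup G) [hN : N.Normal] (lam : N → ℂ) (hlam : Cfsg.IsCharacter N lam ∧ lam 1 = 1) (hinv : ∀ (g : G) (n : N), lam ⟨g * n * g⁻¹, hN.conj_mem (n : G) n.2 g⟩ = lam n) (hcop : Nat.Coprime N.index (orderOf lam)) : ∃ μ : G → ℂ, (Cfsg.IsCharacter G μ ∧ μ 1 = 1 ∧ (∀ n : N, μ n = lam n) ∧ orderOf μ = orderOf lam) ∧ ∀ μ' : G → ℂ, Cfsg.IsCharacter G μ' ∧ μ' 1 = 1 → (∀ n : N, μ' n = lam n) → Nat.Coprime N.index (orderOf μ') → μ' = μ := by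
  classical
  obtain ⟨φ, hφ⟩ := linear_iff_hom.mp hlam
  obtain ⟨r, hrdef⟩ : ∃ r, r = orderOf lam := ⟨_, rfl⟩
  have hr : ∀ n : N, φ n ^ r = 1 := fun n => hrdef ▸ fun_pow_orderOf φ hφ n
  -- restrict the codomain to the `r`-th roots of unity
  let A : Subgroup ℂˣ := (powMonoidHom r : ℂˣ →* ℂˣ).ker
  have hA : ∀ z : ℂˣ, z ∈ A ↔ z ^ r = 1 := fun z => by
    show (powMonoidHom r : ℂˣ →* ℂˣ) z = 1 ↔ _
    rw [powMonoidHom_apply]
  let φ' : N →* A := φ.codRestrict A (fun n => (hA _).mpr (hr n))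
  have hinv' : ∀ (g : G) (n : N),
      φ' ⟨g * n * g⁻¹, hN.conj_mem (n : G) n.2 g⟩ = φ' n := by
    intro g n
    apply Subtype.ext
    show φ ⟨g * n * g⁻¹, _⟩ = φ n
    apply Units.ext
    rw [← hφ, ← hφ, hinv g n]
  have hr' : ∀ n : N, φ' n ^ r = 1 := by
    intro n
    apply Subtype.ext
    show φ n ^ r = 1
    exact hr n
  obtain ⟨μ', hμ'⟩ := exists_extend_coprime N φ' hinv' r hr' (hrdef ▸ hcop)
  obtain ⟨μ, hμdef⟩ : ∃ μ : G →* ℂˣ, μ = A.subtype.comp μ' := ⟨_, rfl⟩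
  have hμN : ∀ n : N, μ (n : G) = φ n := by
    intro n
    rw [hμdef]
    show ((μ' (n : G) : A) : ℂˣ) = φ n
    rw [hμ' n]
    rfl
  have hμr : ∀ g : G, μ g ^ r = 1 := by
    intro g
    rw [hμdef]
    exact (hA _).mp (μ' g).2
  have hμchar : IsCharacter G (fun g => ((μ g : ℂˣ) : ℂ)) ∧ (fun g => ((μ g : ℂˣ) : ℂ)) 1 = 1 :=
    linear_iff_hom.mpr ⟨μ, fun g => rfl⟩
  have hres : ∀ n : N, (fun g => ((μ g : ℂˣ) : ℂ)) n = lam n := by
    intro n
    show ((μ (n : G) : ℂˣ) : ℂ) = lam n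
    rw [hμN n, hφ n]
  have hord : orderOf (fun g => ((μ g : ℂˣ) : ℂ)) = orderOf lam := by
    apply Nat.dvd_antisymm
    · rw [← hrdef]
      apply orderOf_dvd_of_pow_eq_one
      funext g
      rw [Pi.pow_apply]
      show ((μ g : ℂˣ) : ℂ) ^ r = 1
      rw [← Units.val_pow_eq_pow_val, hμr g, Units.val_one]
    · apply orderOf_dvd_of_pow_eq_one
      funext n
      have h1 := congrFun (pow_orderOf_eq_one (fun g => ((μ g : ℂˣ) : ℂ))) (n : G)
      rw [Pi.pow_apply] at h1 ⊢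
      rw [← hres n]
      exact h1
  refine ⟨fun g => ((μ g : ℂˣ) : ℂ), ⟨hμchar.1, hμchar.2, hres, hord⟩, ?_⟩
  intro ν hν hνN hνcop
  obtain ⟨ψ, hψ⟩ := linear_iff_hom.mp hν
  have hk : ∀ g : G, ψ g ^ orderOf ν = 1 := fun_pow_orderOf ψ hψ
  have hkpos : 0 < orderOf ν := orderOf_fun_pos ψ hψ
  -- the quotient `ψ / μ` is trivial on `N`
  have hker : N ≤ (ψ / μ).ker := by
    intro n hn
    rw [MonoidHom.mem_ker, MonoidHom.div_apply, div_eq_one]
    apply Units.ext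
    rw [← hψ n, hνN ⟨n, hn⟩, hμN ⟨n, hn⟩, hφ]
  have hs : ∀ g : G, (ψ / μ) g ^ N.index = 1 := by
    intro g
    have h1 : (ψ / μ) g = QuotientGroup.lift N (ψ / μ) hker (g : G ⧸ N) := rfl
    rw [h1, ← map_pow, Subgroup.index_eq_card, pow_card_eq_one', map_one]
  have hkr : ∀ g : G, (ψ / μ) g ^ (orderOf ν * r) = 1 := by
    intro g
    rw [MonoidHom.div_apply, div_pow, pow_mul, hk g, one_pow, mul_comm, pow_mul, hμr g, one_pow,
      div_one]
  have hone : ∀ g : G, (ψ / μ) g = 1 := by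
    intro g
    have h1 : orderOf ((ψ / μ) g) ∣ N.index := orderOf_dvd_of_pow_eq_one (hs g)
    have h2 : orderOf ((ψ / μ) g) ∣ orderOf ν * r := orderOf_dvd_of_pow_eq_one (hkr g)
    have h3 : Nat.Coprime N.index (orderOf ν * r) :=
      Nat.Coprime.mul_right hνcop (hrdef ▸ hcop)
    have h4 : orderOf ((ψ / μ) g) = 1 := Nat.eq_one_of_dvd_coprimes h3 h1 h2
    exact orderOf_eq_one_iff.mp h4
  funext g
  rw [hψ g]
  have := hone g
  rw [MonoidHom.div_apply, div_eq_one] at this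
  rw [this]

end Cfsg.Agent.S0865
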