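import Mathlib
import Cfsg.Agent.Lib_helper22_Glue
import Cfsg.Agent.Lib_helper22_CoprimeExt
import Cfsg.Agent.S0865
import Cfsg.Statements.S0867
-- import your own Cfsg.Agent.* helpers here

set_option autoImplicit false
open Cfsg

namespace Cfsg.Agent.S0867

open Cfsg.Agent

/-- Let N be a normal subgroup of the finite group G and ϑ an irreducible character of N of degree d, invariant under conjugation by G, such that the index of N is coprime to the product of d and the determinantal order of ϑ. Then there is an irreducible character χ of G restricting to ϑ whose determinantal order equals that of ϑ, and χ is the only irreducible character of G restricting to ϑ whose determinantal order is coprime to the index of N. -/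
theorem result {G : Type*} [Group G] [Finite G] (N : Subgroup G) [hN : N.Normal] (ϑ : N → ℂ) (hϑ : Cfsg.IsIrrCharacter N ϑ) (hinv : ∀ (g : G) (n : N), ϑ ⟨g * n * g⁻¹, hN.conj_mem (n : G) n.2 g⟩ = ϑ n) (d : ℕ) (hd : ϑ 1 = d) (hcop : Nat.Coprime N.index (Cfsg.detOrder ϑ * d)) : ∃ χ : G → ℂ, (Cfsg.IsIrrCharacter G χ ∧ (∀ n : N, χ n = ϑ n) ∧ Cfsg.detOrder χ = Cfsg.detOrder ϑ) ∧ ∀ χ' : G → ℂ, Cfsg.IsIrrCharacter G χ' → (∀ n : N, χ' n = ϑ n) → Nat.Coprime N.index (Cfsg.detOrder χ') → χ' = χ := by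
  classical
  haveI : Fintype G := Fintype.ofFinite G
  haveI : Fintype N := Fintype.ofFinite N
  have hcopd : Nat.Coprime N.index d := Nat.Coprime.coprime_mul_left_right hcop
  have hcopo : Nat.Coprime N.index (orderOf (detChar ϑ)) := Nat.Coprime.coprime_mul_right_right hcop
  obtain ⟨D, hD⟩ := helper22.exists_detHom hϑ
  have hlin := helper22.linear_iff_hom.mpr ⟨D, hD⟩
  have hinvdet : ∀ (g : G) (n : N),
      detChar ϑ ⟨g * n * g⁻¹, hN.conj_mem (n : G) n.2 g⟩ = detChar ϑ n :=
    helper22.detChar_invariant N ϑ hϑ hinv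
  obtain ⟨μ, ⟨hμ, hμ1, hμN, hμord⟩, hμuniq⟩ := S0865.result N (detChar ϑ) hlin hinvdet hcopo
  obtain ⟨χ, hχ, hχN, hχdet⟩ :=
    helper22.extend_general N ϑ hϑ hinv d hd hcopd μ hμ hμ1 hμN
  refine ⟨χ, ⟨hχ, hχN, ?_⟩, ?_⟩
  · unfold detOrder
    rw [hχdet, hμord]
  · intro χ' hχ' hχ'N hcop'
    obtain ⟨D', hD'⟩ := helper22.exists_detHom hχ'
    have hlin' := helper22.linear_iff_hom.mpr ⟨D', hD'⟩
    have hres : helper5.res N χ' = ϑ := funext hχ'N
    have hdet'N : ∀ n : N, detChar χ' n = detChar ϑ n := by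
      intro n
      have h1 := helper22.detChar_res N hχ' (hres ▸ hϑ) n
      rw [hres] at h1
      exact h1.symm
    have hμ' : detChar χ' = μ := hμuniq (detChar χ') hlin' hdet'N hcop'
    have huniq := S0862.result N ϑ hϑ d hd hcopd ⟨χ, hχ, hχN⟩ μ ⟨hμ, hμ1⟩ hμN
    exact huniq.unique ⟨hχ', hχ'N, hμ'⟩ ⟨hχ, hχN, hχdet⟩

end Cfsg.Agent.S0867
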