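import Mathlib
import Cfsg.Agent.Lib_helper22_Gallagher
import Cfsg.Agent.Lib_helper22_RepGroup
import Cfsg.Agent.Lib_helper22_InvConst
import Cfsg.Agent.S0867

set_option autoImplicit false
set_option linter.unusedSectionVars false
set_option linter.unusedVariables false

/-!
Characters of degree prime to `|H|` in `X = K H`, `K ⊲ X`, `(|K|, |H|) = 1` (helper22).
-/

namespace Cfsg.Agent.helper22

open Cfsg
open scoped ComplexConjugate

universe u

section L
variable {X : Type u} [Group X] [Fintype X] (K H : Subgroup X) [hK : K.Normal] [Fintype K]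

theorem index_eq_card_of_compl (hKH : K ⊔ H = ⊤) (hcop : (Nat.card K).Coprime (Nat.card H)) :
    K.index = Nat.card H := by
  have hdisj : Disjoint K H := Subgroup.disjoint_of_coprime_natCard hcop
  have hcompl : Subgroup.IsComplement' K H := by
    apply Subgroup.isComplement'_of_disjoint_and_mul_eq_univ hdisj
    rw [← Subgroup.normal_mul, hKH]
    rfl
  exact hcompl.symm.index_eq_card

/-- a character of degree prime to `|H|` restricts irreducibly to `K` -/
theorem res_irr_of_coprime_degree (hKH : K ⊔ H = ⊤) (hcop : (Nat.card K).Coprime (Nat.card H))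
    {χ : X → ℂ} (hχ : IsIrrCharacter X χ) (hdeg : (charDegree χ).Coprime (Nat.card H)) :
    IsIrrCharacter K (helper5.res K χ) := by
  classical
  haveI : Fintype (IrrCharacter K) := Fintype.ofFinite _
  have hψ : IsCharacter K (helper5.res K χ) :=
    helper5.isCharacter_res K (helper24.irr_isCharacter hχ)
  have hψ1 : helper5.res K χ 1 = χ 1 := rfl
  have hχ1 : χ 1 ≠ 0 := helper24.irr_apply_one_ne_zero hχ
  obtain ⟨ϑ₀, hcon⟩ := exists_constituent_of_char hψ (by rw [hψ1]; exact hχ1)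
  obtain ⟨e, he, hediv⟩ := degree_ratio_general K hχ ϑ₀.2 hcon
  have hd : (charDegree χ : ℂ) = χ 1 := helper24.char_charDegree_cast (helper24.irr_isCharacter hχ)
  have hd₀ : (charDegree (ϑ₀ : K → ℂ) : ℂ) = (ϑ₀ : K → ℂ) 1 :=
    helper24.char_charDegree_cast (helper24.irr_isCharacter ϑ₀.2)
  have hdnat : charDegree χ = e * charDegree (ϑ₀ : K → ℂ) := by
    have : (charDegree χ : ℂ) = ((e * charDegree (ϑ₀ : K → ℂ) : ℕ) : ℂ) := by
      rw [hd, he]; push_cast; rw [hd₀]
    exact_mod_cast this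
  have he1 : e = 1 := by
    rw [index_eq_card_of_compl K H hKH hcop] at hediv
    exact Nat.eq_one_of_dvd_coprimes hdeg (Dvd.intro _ hdnat.symm) hediv
  rw [he1, one_mul] at hdnat
  obtain ⟨n, hexp, hn, -⟩ := helper12.char_decomp hψ
  have hdeg2 : charDegree χ = ∑ μ : IrrCharacter K, n μ * charDegree (μ : K → ℂ) := by
    have h1 : (χ 1 : ℂ) = ∑ μ : IrrCharacter K, (n μ : ℂ) * (μ : K → ℂ) 1 := by
      have := congrFun hexp 1
      rw [hψ1] at this
      rw [this, Finset.sum_apply]
      rfl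
    have h2 : ((charDegree χ : ℕ) : ℂ) =
        ((∑ μ : IrrCharacter K, n μ * charDegree (μ : K → ℂ) : ℕ) : ℂ) := by
      rw [hd, h1]
      push_cast
      refine Finset.sum_congr rfl (fun μ _ => ?_)
      rw [helper24.char_charDegree_cast (helper24.irr_isCharacter μ.2)]
    exact_mod_cast h2
  have hpos : ∀ μ : IrrCharacter K, 0 < charDegree (μ : K → ℂ) := by
    intro μ
    obtain ⟨k, hk0, hk⟩ := helper24.irr_apply_one μ.2
    rw [helper24.charDegree_natCast _ k hk]
    exact hk0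
  have hn0 : n ϑ₀ ≠ 0 := by
    intro h0
    apply hcon
    rw [hn ϑ₀, h0, Nat.cast_zero]
  rw [← Finset.add_sum_erase _ _ (Finset.mem_univ ϑ₀), hdnat] at hdeg2
  have hd₀pos := hpos ϑ₀
  have hnϑ : n ϑ₀ = 1 := by
    have h1 : n ϑ₀ * charDegree (ϑ₀ : K → ℂ) ≤ charDegree (ϑ₀ : K → ℂ) := by
      conv_rhs => rw [hdeg2]
      exact Nat.le_add_right _ _
    have h2 : n ϑ₀ ≤ 1 := by
      by_contra hlt
      push Not at hlt
      have : 2 * charDegree (ϑ₀ : K → ℂ) ≤ n ϑ₀ * charDegree (ϑ₀ : K → ℂ) :=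
        Nat.mul_le_mul_right _ hlt
      omega
    omega
  have hrest : ∑ μ ∈ Finset.univ.erase ϑ₀, n μ * charDegree (μ : K → ℂ) = 0 := by
    rw [hnϑ, one_mul] at hdeg2
    omega
  have hzero : ∀ μ : IrrCharacter K, μ ≠ ϑ₀ → n μ = 0 := by
    intro μ hμ
    have h1 := (Finset.sum_eq_zero_iff.mp hrest) μ (Finset.mem_erase.mpr ⟨hμ, Finset.mem_univ μ⟩)
    rcases Nat.mul_eq_zero.mp h1 with h | h
    · exact h
    · exact absurd h (hpos μ).ne'
  have hfinal : helper5.res K χ = (ϑ₀ : K → ℂ) := by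
    rw [hexp, Finset.sum_eq_single ϑ₀]
    · rw [hnϑ, Nat.cast_one, one_smul]
    · intro μ _ hμ
      rw [hzero μ hμ, Nat.cast_zero, zero_smul]
    · intro h; exact absurd (Finset.mem_univ _) h
  rw [hfinal]
  exact ϑ₀.2

end L

end Cfsg.Agent.helper22
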