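import Mathlib
import Cfsg.Agent.S0001

set_option autoImplicit false
set_option linter.unusedSectionVars false
set_option linter.unusedVariables false

/-!
Glauberman correspondence, part 1 (helper22): the coset `G s` in `Γ = G ⟨s⟩`, `(|G|, o(s)) = 1`.

* `coset_conj` : every element of `G s` is `G`-conjugate to `c s` with `c ∈ C_G(s)`;
* `conj_fix_of_coset_conj` : if `y (c s) y⁻¹ = c' s` then `y` centralizes `s`;
* `coset_sum` : `|C| ∑_{g ∈ G} F(g s) = |G| ∑_{c ∈ C} F(c s)` for `G`-invariant `F`.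
-/

namespace Cfsg.Agent.helper22

open scoped Pointwise

universe u

section Coset
variable {Γ : Type u} [Group Γ] [Finite Γ] (G : Subgroup Γ) [hG : G.Normal] (s : Γ)

/-- the fixed points `C_G(s)` -/
def fixC : Subgroup Γ := G ⊓ Subgroup.centralizer {s}

theorem mem_fixC {c : Γ} : c ∈ fixC G s ↔ c ∈ G ∧ c * s = s * c := by
  unfold fixC
  rw [Subgroup.mem_inf, Subgroup.mem_centralizer_iff]
  constructor
  · rintro ⟨h1, h2⟩
    exact ⟨h1, (h2 s rfl).symm⟩
  · rintro ⟨h1, h2⟩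
    refine ⟨h1, fun x hx => ?_⟩
    rw [Set.mem_singleton_iff] at hx
    rw [hx]; exact h2.symm

theorem fixC_le : fixC G s ≤ G := inf_le_left

/-- CRT exponent: `e ≡ 0 (mod |G|)`, `e ≡ 1 (mod o(s))` -/
theorem exists_crt_exp (hcop : (Nat.card G).Coprime (orderOf s)) :
    ∃ e : ℕ, Nat.card G ∣ e ∧ e ≡ 1 [MOD orderOf s] := by
  obtain ⟨e, he1, he2⟩ := Nat.chineseRemainder hcop 0 1
  exact ⟨e, (Nat.modEq_zero_iff_dvd).mp he1, he2⟩

theorem pow_eq_one_of_mem {c : Γ} (hc : c ∈ G) {e : ℕ} (he : Nat.card G ∣ e) : c ^ e = 1 := by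
  obtain ⟨k, rfl⟩ := he
  have h1 : (⟨c, hc⟩ : G) ^ Nat.card G = 1 := pow_card_eq_one'
  have h2 : c ^ Nat.card G = 1 := by
    have := congrArg Subtype.val h1
    exact this
  rw [pow_mul, h2, one_pow]

theorem pow_eq_self_of_modEq {e : ℕ} (he : e ≡ 1 [MOD orderOf s]) : s ^ e = s := by
  have := (pow_eq_pow_iff_modEq (x := s)).mpr he
  rw [pow_one] at this
  exact this

theorem mul_pow_crt {c : Γ} (hc : c ∈ G) (hcs : c * s = s * c) {e : ℕ} (he1 : Nat.card G ∣ e)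
    (he2 : e ≡ 1 [MOD orderOf s]) : (c * s) ^ e = s := by
  have hcomm : Commute c s := hcs
  rw [hcomm.mul_pow, pow_eq_one_of_mem G hc he1, one_mul, pow_eq_self_of_modEq s he2]

/-- if `y (c s) y⁻¹ = c' s` with `c, c' ∈ C_G(s)` then `y` centralizes `s` -/
theorem conj_fix_of_coset_conj (hcop : (Nat.card G).Coprime (orderOf s)) {c c' y : Γ}
    (hc : c ∈ fixC G s) (hc' : c' ∈ fixC G s) (h : y * (c * s) * y⁻¹ = c' * s) :
    y * s * y⁻¹ = s := by
  obtain ⟨e, he1, he2⟩ := exists_crt_exp G s hcop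
  rw [mem_fixC] at hc hc'
  have h1 := mul_pow_crt G s hc.1 hc.2 he1 he2
  have h2 := mul_pow_crt G s hc'.1 hc'.2 he1 he2
  rw [← h, conj_pow, h1] at h2
  exact h2

theorem inf_zpowers_eq_bot (hcop : (Nat.card G).Coprime (orderOf s)) :
    G ⊓ Subgroup.zpowers s = ⊥ := by
  apply Subgroup.inf_eq_bot_of_coprime
  rw [Nat.card_zpowers]
  exact hcop

theorem eq_one_of_mem_of_mem_zpowers (hcop : (Nat.card G).Coprime (orderOf s)) {z : Γ}
    (hz : z ∈ Subgroup.zpowers s) (hzG : z ∈ G) : z = 1 := by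
  have : z ∈ G ⊓ Subgroup.zpowers s := ⟨hzG, hz⟩
  rw [inf_zpowers_eq_bot G s hcop, Subgroup.mem_bot] at this
  exact this

theorem exists_decomp (htop : G ⊔ Subgroup.zpowers s = ⊤) (γ : Γ) :
    ∃ g ∈ G, ∃ z ∈ Subgroup.zpowers s, γ = g * z := by
  have h : γ ∈ (G ⊔ Subgroup.zpowers s : Subgroup Γ) := htop ▸ Subgroup.mem_top γ
  rw [← SetLike.mem_coe, Subgroup.normal_mul, Set.mem_mul] at h
  obtain ⟨g, hg, z, hz, rfl⟩ := h
  exact ⟨g, hg, z, hz, rfl⟩

theorem isComplement'_zpowers (hcop : (Nat.card G).Coprime (orderOf s))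
    (htop : G ⊔ Subgroup.zpowers s = ⊤) : Subgroup.IsComplement' G (Subgroup.zpowers s) := by
  apply Subgroup.isComplement'_of_disjoint_and_mul_eq_univ
  · rw [disjoint_iff]; exact inf_zpowers_eq_bot G s hcop
  · rw [← Subgroup.normal_mul, htop]; rfl

theorem card_top (hcop : (Nat.card G).Coprime (orderOf s))
    (htop : G ⊔ Subgroup.zpowers s = ⊤) : Nat.card Γ = Nat.card G * orderOf s := by
  have := (isComplement'_zpowers G s hcop htop).card_mul
  rw [Nat.card_zpowers] at this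
  exact this.symm

theorem index_eq (hcop : (Nat.card G).Coprime (orderOf s))
    (htop : G ⊔ Subgroup.zpowers s = ⊤) : G.index = orderOf s := by
  have h1 := card_top G s hcop htop
  have h2 := Subgroup.card_mul_index G
  rw [h1] at h2
  exact Nat.eq_of_mul_eq_mul_left Nat.card_pos h2

theorem quotient_comm (htop : G ⊔ Subgroup.zpowers s = ⊤) (a b : Γ ⧸ G) : a * b = b * a := by
  induction a using QuotientGroup.induction_on with
  | H a =>
    induction b using QuotientGroup.induction_on with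
    | H b =>
      obtain ⟨g, hg, z, hz, rfl⟩ := exists_decomp G s htop a
      obtain ⟨g', hg', z', hz', rfl⟩ := exists_decomp G s htop b
      have e1 : ((g * z : Γ) : Γ ⧸ G) = (z : Γ ⧸ G) := by
        rw [QuotientGroup.mk_mul, (QuotientGroup.eq_one_iff g).mpr hg, one_mul]
      have e2 : ((g' * z' : Γ) : Γ ⧸ G) = (z' : Γ ⧸ G) := by
        rw [QuotientGroup.mk_mul, (QuotientGroup.eq_one_iff g').mpr hg', one_mul]
      rw [e1, e2, ← QuotientGroup.mk_mul, ← QuotientGroup.mk_mul]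
      obtain ⟨i, rfl⟩ := Subgroup.mem_zpowers_iff.mp hz
      obtain ⟨j, rfl⟩ := Subgroup.mem_zpowers_iff.mp hz'
      rw [← zpow_add, ← zpow_add, add_comm]

/-- every element of the coset `G s` is `G`-conjugate to an element `c s` with `c ∈ C_G(s)` -/
theorem coset_conj (hcop : (Nat.card G).Coprime (orderOf s))
    (htop : G ⊔ Subgroup.zpowers s = ⊤) {x : Γ} (hx : x * s⁻¹ ∈ G) :
    ∃ y ∈ G, ∃ c ∈ fixC G s, x = y * (c * s) * y⁻¹ := by
  obtain ⟨e, he1, he2⟩ := exists_crt_exp G s hcop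
  obtain ⟨u, hu⟩ : ∃ u : Γ, u = x ^ e := ⟨_, rfl⟩
  have hmkx : (x : Γ ⧸ G) = (s : Γ ⧸ G) := by
    have h1 := (QuotientGroup.eq_one_iff (x * s⁻¹)).mpr hx
    rw [QuotientGroup.mk_mul, QuotientGroup.mk_inv, mul_inv_eq_one] at h1
    exact h1
  have hmku : (u : Γ ⧸ G) = (s : Γ ⧸ G) := by
    rw [hu, QuotientGroup.mk_pow, hmkx, ← QuotientGroup.mk_pow, pow_eq_self_of_modEq s he2]
  have hus : u * s⁻¹ ∈ G := by
    rw [← QuotientGroup.eq_one_iff, QuotientGroup.mk_mul, QuotientGroup.mk_inv, hmku,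
      mul_inv_cancel]
  have hun : u ^ orderOf s = 1 := by
    rw [hu, ← pow_mul]
    obtain ⟨k, rfl⟩ := he1
    have h1 : x ^ Nat.card Γ = 1 := pow_card_eq_one'
    rw [card_top G s hcop htop] at h1
    rw [mul_comm (Nat.card G) k, mul_assoc, pow_mul', h1, one_pow]
  -- `zpowers u` is a complement
  have hcopU : (Nat.card G).Coprime (orderOf u) :=
    Nat.Coprime.coprime_dvd_right (orderOf_dvd_of_pow_eq_one hun) hcop
  have htopU : G ⊔ Subgroup.zpowers u = ⊤ := by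
    rw [eq_top_iff, ← htop]
    apply sup_le le_sup_left
    rw [Subgroup.zpowers_le]
    have h1 : s = (u * s⁻¹)⁻¹ * u := by group
    rw [h1]
    exact Subgroup.mul_mem _ (Subgroup.mem_sup_left (G.inv_mem hus))
      (Subgroup.mem_sup_right (Subgroup.mem_zpowers u))
  have hc1 := isComplement'_zpowers G s hcop htop
  have hc2 := isComplement'_zpowers G u hcopU htopU
  have hidx : (Nat.card G).Coprime G.index := by
    rw [index_eq G s hcop htop]; exact hcop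
  have hsolv : Group.IsSolvable (Γ ⧸ G) := by
    letI : CommGroup (Γ ⧸ G) := { (inferInstance : Group (Γ ⧸ G)) with
      mul_comm := quotient_comm G s htop }
    infer_instance
  obtain ⟨γ, hγ⟩ := Cfsg.Agent.S0001.result G hidx (Or.inr hsolv) (Subgroup.zpowers s)
    (Subgroup.zpowers u) hc1 hc2
  have humem : u ∈ MulAut.conj γ • Subgroup.zpowers s := hγ ▸ Subgroup.mem_zpowers u
  obtain ⟨z, hz, hzu⟩ := (Subgroup.mem_smul_pointwise_iff_exists _ _ _).mp humem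
  have hzu' : γ * z * γ⁻¹ = u := hzu
  obtain ⟨g₀, hg₀, z₀, hz₀, rfl⟩ := exists_decomp G s htop γ
  have hzz : z₀ * z = z * z₀ := by
    obtain ⟨i, rfl⟩ := Subgroup.mem_zpowers_iff.mp hz
    obtain ⟨j, rfl⟩ := Subgroup.mem_zpowers_iff.mp hz₀
    rw [← zpow_add, ← zpow_add, add_comm]
  have hu2 : u = g₀ * z * g₀⁻¹ := by
    rw [← hzu', mul_inv_rev]
    have : g₀ * z₀ * z * (z₀⁻¹ * g₀⁻¹) = g₀ * (z₀ * z) * z₀⁻¹ * g₀⁻¹ := by group
    rw [this, hzz]
    group
  have hzs : z = s := by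
    have h1 : u * z⁻¹ ∈ G := by
      rw [hu2]
      have : g₀ * z * g₀⁻¹ * z⁻¹ = g₀ * (z * g₀⁻¹ * z⁻¹) := by group
      rw [this]
      exact G.mul_mem hg₀ (hG.conj_mem _ (G.inv_mem hg₀) z)
    have h2 : z * s⁻¹ ∈ G := by
      have : z * s⁻¹ = (u * z⁻¹)⁻¹ * (u * s⁻¹) := by group
      rw [this]
      exact G.mul_mem (G.inv_mem h1) hus
    have h3 : z * s⁻¹ ∈ Subgroup.zpowers s :=
      Subgroup.mul_mem _ hz (Subgroup.inv_mem _ (Subgroup.mem_zpowers s))
    have h4 := eq_one_of_mem_of_mem_zpowers G s hcop h3 h2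
    exact mul_inv_eq_one.mp h4
  rw [hzs] at hu2
  obtain ⟨x', hx'⟩ : ∃ x' : Γ, x' = g₀⁻¹ * x * g₀ := ⟨_, rfl⟩
  have hx'e : x' ^ e = s := by
    have h1 : x' = g₀⁻¹ * x * g₀⁻¹⁻¹ := by rw [hx', inv_inv]
    rw [h1, conj_pow, ← hu, hu2, inv_inv]
    group
  have hx's : x' * s = s * x' := by
    have h1 : x' * x' ^ e = x' ^ e * x' := by rw [← pow_succ', ← pow_succ]
    rw [hx'e] at h1
    exact h1
  refine ⟨g₀, hg₀, x' * s⁻¹, ?_, ?_⟩
  · rw [mem_fixC]
    refine ⟨?_, ?_⟩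
    · have h1 : x' * s⁻¹ = g₀⁻¹ * (x * s⁻¹) * (s * g₀ * s⁻¹) := by rw [hx']; group
      rw [h1]
      exact G.mul_mem (G.mul_mem (G.inv_mem hg₀) hx) (hG.conj_mem _ hg₀ s)
    · rw [inv_mul_cancel_right, ← mul_assoc, ← hx's, mul_inv_cancel_right]
  · rw [inv_mul_cancel_right, hx']
    group

end Coset

section Count
variable {Γ : Type u} [Group Γ] [Finite Γ] (G : Subgroup Γ) [hG : G.Normal] (s : Γ)

/-- the map `(c, y) ↦ y (c s) y⁻¹ s⁻¹` -/
def cosetMap : fixC G s × G → G := fun p =>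
  ⟨(p.2 : Γ) * ((p.1 : Γ) * s) * (p.2 : Γ)⁻¹ * s⁻¹, by
    have h1 : (p.2 : Γ) * ((p.1 : Γ) * s) * (p.2 : Γ)⁻¹ * s⁻¹ =
        (p.2 : Γ) * (p.1 : Γ) * (s * (p.2 : Γ)⁻¹ * s⁻¹) := by group
    rw [h1]
    exact G.mul_mem (G.mul_mem p.2.2 (fixC_le G s p.1.2)) (hG.conj_mem _ (G.inv_mem p.2.2) s)⟩

theorem cosetMap_mul (p : fixC G s × G) :
    ((cosetMap G s p : G) : Γ) * s = (p.2 : Γ) * ((p.1 : Γ) * s) * (p.2 : Γ)⁻¹ := by
  show (p.2 : Γ) * ((p.1 : Γ) * s) * (p.2 : Γ)⁻¹ * s⁻¹ * s = _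
  rw [inv_mul_cancel_right]

theorem cosetMap_eq_iff (p : fixC G s × G) (g : G) :
    cosetMap G s p = g ↔ (p.2 : Γ) * ((p.1 : Γ) * s) * (p.2 : Γ)⁻¹ = (g : Γ) * s := by
  rw [← cosetMap_mul]
  constructor
  · intro h; rw [h]
  · intro h; exact Subtype.ext (mul_right_cancel h)

open scoped Classical in
theorem card_cosetMap_fiber (hcop : (Nat.card G).Coprime (orderOf s))
    (htop : G ⊔ Subgroup.zpowers s = ⊤) [Fintype G] [Fintype (fixC G s)] (g : G) :
    (Finset.univ.filter (fun p : fixC G s × G => cosetMap G s p = g)).card =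
      Nat.card (fixC G s) := by
  obtain ⟨y₀, hy₀, c₀, hc₀, h0⟩ := coset_conj G s hcop htop
    (x := (g : Γ) * s) (by rw [mul_inv_cancel_right]; exact g.2)
  rw [Nat.card_eq_fintype_card, ← Finset.card_univ]
  symm
  have hzs : ∀ z : fixC G s, (z : Γ) * s = s * (z : Γ) := fun z => ((mem_fixC G s).mp z.2).2
  refine Finset.card_bij (fun z _ => ((⟨(z : Γ)⁻¹ * c₀ * (z : Γ),
      (fixC G s).mul_mem ((fixC G s).mul_mem ((fixC G s).inv_mem z.2) hc₀) z.2⟩ : fixC G s),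
      (⟨y₀ * (z : Γ), G.mul_mem hy₀ (fixC_le G s z.2)⟩ : G))) ?_ ?_ ?_
  · intro z _
    rw [Finset.mem_filter]
    refine ⟨Finset.mem_univ _, ?_⟩
    rw [cosetMap_eq_iff, h0]
    show y₀ * (z : Γ) * ((z : Γ)⁻¹ * c₀ * (z : Γ) * s) * (y₀ * (z : Γ))⁻¹ = _
    have h1 : y₀ * (z : Γ) * ((z : Γ)⁻¹ * c₀ * (z : Γ) * s) * (y₀ * (z : Γ))⁻¹ =
        y₀ * (c₀ * ((z : Γ) * s * (z : Γ)⁻¹)) * y₀⁻¹ := by group
    rw [h1, hzs z, mul_inv_cancel_right]
  · intro z _ z' _ h
    have h1 := congrArg (fun p : fixC G s × G => ((p.2 : G) : Γ)) h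
    simp only at h1
    exact Subtype.ext (mul_left_cancel h1)
  · rintro ⟨c, y⟩ hp
    rw [Finset.mem_filter, cosetMap_eq_iff, h0] at hp
    have hp2 := hp.2
    simp only at hp2
    obtain ⟨z, hz⟩ : ∃ z : Γ, z = y₀⁻¹ * (y : Γ) := ⟨_, rfl⟩
    have hzG : z ∈ G := hz ▸ G.mul_mem (G.inv_mem hy₀) y.2
    have h1 : z * ((c : Γ) * s) * z⁻¹ = c₀ * s := by
      have : z * ((c : Γ) * s) * z⁻¹ = y₀⁻¹ * ((y : Γ) * ((c : Γ) * s) * (y : Γ)⁻¹) * y₀ := by
        rw [hz]; group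
      rw [this, hp2]
      group
    have h2 : z * s * z⁻¹ = s := conj_fix_of_coset_conj G s hcop c.2 hc₀ h1
    have hzC : z ∈ fixC G s := by
      rw [mem_fixC]
      refine ⟨hzG, ?_⟩
      have : z * s = z * s * z⁻¹ * z := by group
      rw [this, h2]
    have h3 : z * (c : Γ) * z⁻¹ = c₀ := by
      have : z * ((c : Γ) * s) * z⁻¹ = z * (c : Γ) * z⁻¹ * (z * s * z⁻¹) := by group
      rw [this, h2] at h1
      exact mul_right_cancel h1
    refine ⟨⟨z, hzC⟩, Finset.mem_univ _, ?_⟩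
    apply Prod.ext
    · apply Subtype.ext
      show z⁻¹ * c₀ * z = (c : Γ)
      rw [← h3]; group
    · apply Subtype.ext
      show y₀ * z = (y : Γ)
      rw [hz]; group

open scoped Classical in
/-- the counting formula on the coset `G s` -/
theorem coset_sum (hcop : (Nat.card G).Coprime (orderOf s))
    (htop : G ⊔ Subgroup.zpowers s = ⊤) [Fintype G] [Fintype (fixC G s)] (F : Γ → ℂ)
    (hF : ∀ y ∈ G, ∀ x : Γ, F (y * x * y⁻¹) = F x) :
    (Nat.card (fixC G s) : ℂ) * ∑ g : G, F ((g : Γ) * s) =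
      (Nat.card G : ℂ) * ∑ c : fixC G s, F ((c : Γ) * s) := by
  have h1 : ∑ p : fixC G s × G, F (((cosetMap G s p : G) : Γ) * s) =
      (Nat.card G : ℂ) * ∑ c : fixC G s, F ((c : Γ) * s) := by
    rw [Fintype.sum_prod_type, Finset.mul_sum]
    apply Finset.sum_congr rfl
    intro c _
    have : ∀ y : G, F (((cosetMap G s (c, y) : G) : Γ) * s) = F ((c : Γ) * s) := by
      intro y
      rw [cosetMap_mul]
      exact hF y y.2 _
    rw [Finset.sum_congr rfl (fun y _ => this y), Finset.sum_const, Finset.card_univ,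
      nsmul_eq_mul, Nat.card_eq_fintype_card]
  have h2 : ∑ p : fixC G s × G, F (((cosetMap G s p : G) : Γ) * s) =
      (Nat.card (fixC G s) : ℂ) * ∑ g : G, F ((g : Γ) * s) := by
    rw [← Finset.sum_fiberwise (Finset.univ) (cosetMap G s), Finset.mul_sum]
    apply Finset.sum_congr rfl
    intro g _
    have : ∀ p ∈ Finset.univ.filter (fun p : fixC G s × G => cosetMap G s p = g),
        F (((cosetMap G s p : G) : Γ) * s) = F ((g : Γ) * s) := by
      intro p hp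
      rw [(Finset.mem_filter.mp hp).2]
    rw [Finset.sum_congr rfl this, Finset.sum_const, nsmul_eq_mul,
      card_cosetMap_fiber G s hcop htop g]
  rw [← h1, h2]

end Count

end Cfsg.Agent.helper22
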