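import Mathlib
import Cfsg.Agent.Lib_helper22_Glaub1
import Cfsg.Agent.Lib_helper22_Det
import Cfsg.Agent.Lib_helper1_GalChar
import Cfsg.Agent.Lib_helper24_CharIntegral
import Cfsg.Agent.S0867

set_option autoImplicit false
set_option linter.unusedSectionVars false
set_option linter.unusedVariables false

/-!
Glauberman correspondence, part 2 (helper22): Galois conjugation and the canonical extension.
-/

namespace Cfsg.Agent.helper22

open Cfsg
open scoped ComplexConjugate

universe u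

section GalDet
variable {Γ : Type u} [Group Γ] [Fintype Γ]

/-- the determinantal character of a Galois conjugate -/
theorem detChar_galConj (τ : ℂ →+* ℂ) {ψ : Γ → ℂ} (hψ : IsIrrCharacter Γ ψ) (x : Γ) :
    detChar (fun g => τ (ψ g)) x = τ (detChar ψ x) := by
  obtain ⟨n, ρ, hρ, hρψ⟩ := id hψ
  have hirr' : IsIrrCharacter Γ (fun g => τ (ψ g)) := helper1.isIrrCharacter_galConj τ hψ
  have h1 : (helper1.galRep τ ρ).character = fun g => τ (ψ g) := by
    funext g
    rw [helper1.galRep_character, hρψ]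
  rw [detChar_eq_of_irr hirr' (helper1.galRep τ ρ) h1 x, detChar_eq_of_irr hψ ρ hρψ x]
  show LinearMap.det (Matrix.toLin' ((helper24.repMatrix ρ x).map τ)) = _
  rw [LinearMap.det_toLin']
  have h2 : (helper24.repMatrix ρ x).map τ = τ.mapMatrix (helper24.repMatrix ρ x) := rfl
  rw [h2, ← RingHom.map_det]
  congr 1
  show (LinearMap.toMatrix' (ρ x)).det = _
  rw [LinearMap.det_toMatrix']

theorem detOrder_galConj (τ : ℂ ≃+* ℂ) {ψ : Γ → ℂ} (hψ : IsIrrCharacter Γ ψ) :
    detOrder (fun g => τ (ψ g)) = detOrder ψ := by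
  unfold detOrder
  have h1 : detChar (fun g => τ (ψ g)) =
      (MonoidHom.compLeft ((τ : ℂ →+* ℂ) : ℂ →* ℂ) Γ) (detChar ψ) := by
    funext x
    exact detChar_galConj (τ : ℂ →+* ℂ) hψ x
  rw [h1]
  apply orderOf_injective
  intro f g hfg
  funext x
  have := congrFun hfg x
  exact τ.injective this

theorem detOrder_powMap (t : ℕ) (ht : t.Coprime (Nat.card Γ)) {ψ : Γ → ℂ}
    (hψ : IsIrrCharacter Γ ψ) : detOrder (fun g => ψ (g ^ t)) = detOrder ψ := by
  obtain ⟨τ, hτ⟩ := helper1.exists_aut_pow (Nat.card Γ) Nat.card_pos.ne' t ht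
  have h1 : (fun g => τ (ψ g)) = fun g => ψ (g ^ t) :=
    funext fun g => helper1.aut_char_eq τ t hτ (helper24.irr_isCharacter hψ) g
  rw [← h1]
  exact detOrder_galConj τ hψ

theorem detOrder_dvd_card {ψ : Γ → ℂ} (hψ : IsIrrCharacter Γ ψ) : detOrder ψ ∣ Nat.card Γ := by
  obtain ⟨D, hD⟩ := exists_detHom hψ
  unfold detOrder
  apply orderOf_dvd_of_pow_eq_one
  funext x
  rw [Pi.pow_apply, hD x, ← Units.val_pow_eq_pow_val, ← map_pow, pow_card_eq_one', map_one]
  rfl

end GalDet

section Canonical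
variable {Γ : Type u} [Group Γ] [Fintype Γ] (G : Subgroup Γ) [hG : G.Normal] [Fintype G]

/-- two extensions of `χ` with determinantal order prime to the index coincide -/
theorem canonical_unique (hcop : (Nat.card G).Coprime G.index) {χ : G → ℂ}
    (hχ : IsIrrCharacter G χ) {ψ₁ ψ₂ : Γ → ℂ} (h1 : IsIrrCharacter Γ ψ₁) (h2 : IsIrrCharacter Γ ψ₂)
    (e1 : ∀ g : G, ψ₁ g = χ g) (e2 : ∀ g : G, ψ₂ g = χ g)
    (d1 : (detOrder ψ₁).Coprime G.index) (d2 : (detOrder ψ₂).Coprime G.index) : ψ₁ = ψ₂ := by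
  have hinv : ∀ (γ : Γ) (n : G), χ ⟨γ * n * γ⁻¹, hG.conj_mem (n : Γ) n.2 γ⟩ = χ n := by
    intro γ n
    rw [← e1, ← e1]
    exact helper24.char_isClassFunction (helper24.irr_isCharacter h1) (n : Γ) γ
  obtain ⟨d, hd0, hd⟩ := helper24.irr_apply_one hχ
  have hdd : d ∣ Nat.card G := by
    have := helper24.irr_degree_dvd_card hχ
    rw [helper24.charDegree_natCast χ d hd] at this
    exact this
  have hcop' : Nat.Coprime G.index (detOrder χ * d) := by
    apply Nat.Coprime.mul_right
    · exact (Nat.Coprime.coprime_dvd_left (detOrder_dvd_card hχ) hcop).symm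
    · exact (Nat.Coprime.coprime_dvd_left hdd hcop).symm
  obtain ⟨χ₀, -, huniq⟩ := Cfsg.Agent.S0867.result G χ hχ hinv d hd hcop'
  rw [huniq ψ₁ h1 e1 d1.symm, huniq ψ₂ h2 e2 d2.symm]

end Canonical

section PowInv
variable {Γ : Type u} [Group Γ] [Fintype Γ] (G : Subgroup Γ) [hG : G.Normal] [Fintype G] (s : Γ)

theorem pow_eq_self_of_mem {g : Γ} (hg : g ∈ G) {t : ℕ} (ht : t ≡ 1 [MOD Nat.card G]) :
    g ^ t = g := by
  have h1 : orderOf g ∣ Nat.card G := by
    have : orderOf (⟨g, hg⟩ : G) ∣ Nat.card G := orderOf_dvd_natCard _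
    rwa [Subgroup.orderOf_mk] at this
  have h2 : t ≡ 1 [MOD orderOf g] := ht.of_dvd h1
  have := (pow_eq_pow_iff_modEq (x := g)).mpr h2
  rw [pow_one] at this
  exact this

/-- the canonical extension takes the same value at `c s` and `c s^k`, `k` prime to `o(s)` -/
theorem canonical_pow_invariant (hcop : (Nat.card G).Coprime (orderOf s))
    (htop : G ⊔ Subgroup.zpowers s = ⊤) {χ : G → ℂ} (hχ : IsIrrCharacter G χ) {χh : Γ → ℂ}
    (hχh : IsIrrCharacter Γ χh) (hext : ∀ g : G, χh g = χ g)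
    (hdet : (detOrder χh).Coprime (orderOf s)) {c : Γ} (hc : c ∈ fixC G s) (k : ℕ)
    (hk : k.Coprime (orderOf s)) : χh (c * s ^ k) = χh (c * s) := by
  obtain ⟨t, ht1, ht2⟩ := Nat.chineseRemainder hcop 1 k
  have hcard := card_top G s hcop htop
  have hidx := index_eq G s hcop htop
  have htcop : t.Coprime (Nat.card Γ) := by
    rw [hcard]
    apply Nat.Coprime.mul_right
    · have := ht1.gcd_eq
      unfold Nat.Coprime
      rw [this]
      exact Nat.gcd_one_left _
    · have := ht2.gcd_eq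
      unfold Nat.Coprime
      rw [this]
      exact hk
  have hψ : IsIrrCharacter Γ (fun x => χh (x ^ t)) := helper1.isIrrCharacter_powMap t htcop hχh
  have hψext : ∀ g : G, (fun x => χh (x ^ t)) (g : Γ) = χ g := by
    intro g
    show χh ((g : Γ) ^ t) = χ g
    rw [pow_eq_self_of_mem G g.2 ht1, hext]
  have hψdet : (detOrder (fun x => χh (x ^ t))).Coprime G.index := by
    rw [detOrder_powMap t htcop hχh, hidx]; exact hdet
  have hcop' : (Nat.card G).Coprime G.index := by rw [hidx]; exact hcop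
  have heq := canonical_unique G hcop' hχ hψ hχh hψext hext hψdet (by rw [hidx]; exact hdet)
  have h1 : χh ((c * s) ^ t) = χh (c * s) := congrFun heq (c * s)
  rw [← h1]
  congr 1
  have hc' := (mem_fixC G s).mp hc
  have hcomm : Commute c s := hc'.2
  rw [hcomm.mul_pow, pow_eq_self_of_mem G hc'.1 ht1]
  congr 1
  exact ((pow_eq_pow_iff_modEq (x := s)).mpr ht2).symm

end PowInv

end Cfsg.Agent.helper22
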