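import Mathlib
import Cfsg.Agent.Lib_helper22_DegCop1
import Cfsg.Agent.Lib_helper22_Glaub2

set_option autoImplicit false
set_option linter.unusedSectionVars false
set_option linter.unusedVariables false

/-!
Counting the characters of degree prime to `|H|` in `X = K H` (helper22).
-/

namespace Cfsg.Agent.helper22

open Cfsg
open scoped ComplexConjugate

universe u

section Count
variable {X : Type u} [Group X] [Fintype X] (K H : Subgroup X) [hK : K.Normal] [Fintype K]

theorem card_coprime_degree (hKH : K ⊔ H = ⊤) (hcop : (Nat.card K).Coprime (Nat.card H)) :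
    Nat.card {χ : IrrCharacter X // (charDegree χ.1).Coprime (Nat.card H)} =
      Nat.card {ϑ : IrrCharacter K //
        ∀ (x : X) (k : K), ϑ.1 ⟨x * k * x⁻¹, hK.conj_mem k k.2 x⟩ = ϑ.1 k} *
      Nat.card {β : IrrCharacter (X ⧸ K) // β.1 1 = 1} := by
  classical
  haveI : Fintype (IrrCharacter (X ⧸ K)) := Fintype.ofFinite _
  have hidx := index_eq_card_of_compl K H hKH hcop
  have hext : ∀ ϑ : {ϑ : IrrCharacter K //
      ∀ (x : X) (k : K), ϑ.1 ⟨x * k * x⁻¹, hK.conj_mem k k.2 x⟩ = ϑ.1 k},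
      ∃ ϑh : X → ℂ, IsIrrCharacter X ϑh ∧ ∀ k : K, ϑh k = ϑ.1.1 k := by
    intro ϑ
    obtain ⟨d, hd0, hd⟩ := helper24.irr_apply_one ϑ.1.2
    have hdet : detOrder ϑ.1.1 ∣ Nat.card K := detOrder_dvd_card ϑ.1.2
    have hddvd : d ∣ Nat.card K := by
      have := helper24.irr_degree_dvd_card ϑ.1.2
      rwa [helper24.charDegree_natCast _ d hd] at this
    have hcop1 : Nat.Coprime K.index (detOrder ϑ.1.1 * d) := by
      rw [hidx]
      apply Nat.Coprime.mul_right
      · exact (Nat.Coprime.coprime_dvd_left hdet hcop).symm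
      · exact (Nat.Coprime.coprime_dvd_left hddvd hcop).symm
    obtain ⟨ϑh, ⟨h1, h2, -⟩, -⟩ := Cfsg.Agent.S0867.result K ϑ.1.1 ϑ.1.2 ϑ.2 d hd hcop1
    exact ⟨ϑh, h1, h2⟩
  choose ext hext_irr hext_res using hext
  have hres : ∀ ϑ, helper5.res K (ext ϑ) = ϑ.1.1 := fun ϑ => funext (hext_res ϑ)
  have hres_irr : ∀ ϑ, IsIrrCharacter K (helper5.res K (ext ϑ)) := by
    intro ϑ; rw [hres ϑ]; exact ϑ.1.2
  have hinflK : ∀ (β : X ⧸ K → ℂ) (k : K), infl K β (k : X) = β 1 := by
    intro β k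
    rw [infl_apply, (QuotientGroup.eq_one_iff (k : X)).mpr k.2]
  have hdegcop : ∀ (ϑ : {ϑ : IrrCharacter K //
      ∀ (x : X) (k : K), ϑ.1 ⟨x * k * x⁻¹, hK.conj_mem k k.2 x⟩ = ϑ.1 k})
      (β : {β : IrrCharacter (X ⧸ K) // β.1 1 = 1}),
      (charDegree (infl K β.1.1 * ext ϑ)).Coprime (Nat.card H) := by
    intro ϑ β
    obtain ⟨d, hd0, hd⟩ := helper24.irr_apply_one ϑ.1.2
    have h1 : (infl K β.1.1 * ext ϑ) 1 = d := by
      rw [Pi.mul_apply, infl_apply, QuotientGroup.mk_one, β.2, one_mul]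
      have := hext_res ϑ 1
      rw [show ((1 : K) : X) = 1 from rfl] at this
      rw [this, hd]
    rw [helper24.charDegree_natCast _ d h1]
    have hddvd : d ∣ Nat.card K := by
      have := helper24.irr_degree_dvd_card ϑ.1.2
      rwa [helper24.charDegree_natCast _ d hd] at this
    exact Nat.Coprime.coprime_dvd_left hddvd hcop
  obtain ⟨Ψ, hΨ⟩ : ∃ Ψ : {ϑ : IrrCharacter K //
      ∀ (x : X) (k : K), ϑ.1 ⟨x * k * x⁻¹, hK.conj_mem k k.2 x⟩ = ϑ.1 k} ×
      {β : IrrCharacter (X ⧸ K) // β.1 1 = 1} →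
      {χ : IrrCharacter X // (charDegree χ.1).Coprime (Nat.card H)},
      ∀ a, (Ψ a).1.1 = infl K a.2.1.1 * ext a.1 :=
    ⟨fun a => ⟨⟨infl K a.2.1.1 * ext a.1,
      (gallagher K (hext_irr a.1) (hres_irr a.1)).1 a.2.1⟩, hdegcop a.1 a.2⟩, fun a => rfl⟩
  have hbij : Function.Bijective Ψ := by
    constructor
    · rintro ⟨ϑ, β⟩ ⟨ϑ', β'⟩ h
      have h1 : infl K β.1.1 * ext ϑ = infl K β'.1.1 * ext ϑ' := by
        rw [← hΨ (ϑ, β), ← hΨ (ϑ', β'), h]
      have h2 : ϑ = ϑ' := by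
        apply Subtype.ext
        apply Subtype.ext
        funext k
        have := congrFun h1 (k : X)
        rw [Pi.mul_apply, Pi.mul_apply, hinflK, hinflK, β.2, β'.2, one_mul, one_mul,
          hext_res, hext_res] at this
        exact this
      subst h2
      have h3 := (gallagher K (hext_irr ϑ) (hres_irr ϑ)).2.1 β.1 β'.1 h1
      rw [Prod.mk.injEq]
      exact ⟨rfl, Subtype.ext h3⟩
    · rintro ⟨χ, hχ⟩
      have hirr := res_irr_of_coprime_degree K H hKH hcop χ.2 hχ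
      have hcf := helper24.char_isClassFunction (helper24.irr_isCharacter χ.2)
      obtain ⟨a, ha⟩ : ∃ a : {ϑ : IrrCharacter K //
          ∀ (x : X) (k : K), ϑ.1 ⟨x * k * x⁻¹, hK.conj_mem k k.2 x⟩ = ϑ.1 k},
          a.1.1 = helper5.res K χ.1 :=
        ⟨⟨⟨helper5.res K χ.1, hirr⟩, fun x k => hcf (k : X) x⟩, rfl⟩
      have hne : classInner (helper5.res K χ.1) (helper5.res K (ext a)) ≠ 0 := by
        rw [hres a, ha, helper24.irr_classInner_self hirr]
        exact one_ne_zero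
      obtain ⟨β, hβ⟩ := (gallagher K (hext_irr a) (hres_irr a)).2.2 χ.1 χ.2 hne
      have hβ1 : β.1 1 = 1 := by
        have h1 := congrFun hβ 1
        rw [Pi.mul_apply, infl_apply, QuotientGroup.mk_one] at h1
        have h2 : ext a 1 = χ.1 1 := by
          have := hext_res a 1
          rw [show ((1 : K) : X) = 1 from rfl] at this
          rw [this, ha]
          rfl
        rw [h2] at h1
        have h3 : χ.1 1 ≠ 0 := helper24.irr_apply_one_ne_zero χ.2
        have h4 : (1 : ℂ) * χ.1 1 = β.1 1 * χ.1 1 := by rw [one_mul]; exact h1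
        exact (mul_right_cancel₀ h3 h4).symm
      refine ⟨(a, ⟨β, hβ1⟩), ?_⟩
      apply Subtype.ext
      apply Subtype.ext
      rw [hΨ]
      exact hβ.symm
  rw [← Nat.card_prod]
  exact (Nat.card_eq_of_bijective Ψ hbij).symm

end Count

end Cfsg.Agent.helper22
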