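import Mathlib

set_option autoImplicit false
set_option linter.unusedVariables false
set_option linter.unusedSectionVars false
set_option linter.style.longLine false
set_option linter.style.haveILetI false

namespace Cfsg.Agent.helper1

/-- a rational algebraic integer is an integer -/
theorem int_of_rat_integral (z : ℂ) (hz : IsIntegral ℤ z) (q : ℚ) (hq : z = (q : ℂ)) :
    ∃ n : ℤ, z = n := by
  have h1 : z = algebraMap ℚ ℂ q := by rw [hq]; rfl
  rw [h1] at hz
  have hzQ : IsIntegral ℤ q := (isIntegral_algebraMap_iff (algebraMap ℚ ℂ).injective).mp hz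
  obtain ⟨n, hn⟩ := IsIntegrallyClosed.isIntegral_iff.mp hzQ
  refine ⟨n, ?_⟩
  rw [hq, ← hn]
  simp

/-- two algebraic integers with integral weighted power sums (weights `m - 1`, `m`) have an
integral sum -/
theorem sum_isInt_of_power_sums (m : ℕ) (hm : 2 ≤ m) (x y : ℂ) (hx : IsIntegral ℤ x)
    (hy : IsIntegral ℤ y)
    (h1 : ∃ P1 : ℤ, ((m : ℂ) - 1) * x + m * y = P1)
    (h2 : ∃ P2 : ℤ, ((m : ℂ) - 1) * x ^ 2 + m * y ^ 2 = P2)
    (h3 : ∃ P3 : ℤ, ((m : ℂ) - 1) * x ^ 3 + m * y ^ 3 = P3) : ∃ T : ℤ, x + y = T := by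
  obtain ⟨P1, h1⟩ := h1
  obtain ⟨P2, h2⟩ := h2
  obtain ⟨P3, h3⟩ := h3
  have hm0 : (m : ℂ) ≠ 0 := by
    have : m ≠ 0 := by omega
    exact_mod_cast this
  have hm1 : (m : ℂ) - 1 ≠ 0 := by
    have : (m : ℂ) ≠ 1 := by
      have : m ≠ 1 := by omega
      exact_mod_cast this
    exact sub_ne_zero.mpr this
  by_cases hxy : x = y
  · subst hxy
    have h2m : (2 * (m : ℂ) - 1) ≠ 0 := by
      have : (2 * m - 1 : ℕ) ≠ 0 := by omega
      have h' : ((2 * m - 1 : ℕ) : ℂ) = 2 * (m : ℂ) - 1 := by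
        rw [Nat.cast_sub (by omega)]
        push_cast
        ring
      rw [← h']
      exact_mod_cast this
    have hx' : x = (((P1 : ℚ) / (2 * (m : ℚ) - 1) : ℚ) : ℂ) := by
      push_cast
      field_simp
      linear_combination h1
    obtain ⟨n, hn⟩ := int_of_rat_integral x hx _ hx'
    refine ⟨2 * n, ?_⟩
    rw [hn]
    push_cast
    ring
  · have hD : ((P1 : ℂ) ^ 2 - (2 * (m : ℂ) - 1) * P2) = -(((m : ℂ) - 1) * m * (x - y) ^ 2) := by
      rw [← h1, ← h2]
      ring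
    have hN : (x + y) * ((P1 : ℂ) ^ 2 - (2 * (m : ℂ) - 1) * P2) =
        (P1 : ℂ) * P2 - (2 * (m : ℂ) - 1) * P3 := by
      rw [← h1, ← h2, ← h3]
      ring
    have hD0 : ((P1 : ℂ) ^ 2 - (2 * (m : ℂ) - 1) * P2) ≠ 0 := by
      rw [hD]
      apply neg_ne_zero.mpr
      apply mul_ne_zero (mul_ne_zero hm1 hm0)
      exact pow_ne_zero 2 (sub_ne_zero.mpr hxy)
    have hxy' : x + y = ((((P1 : ℚ) * P2 - (2 * (m : ℚ) - 1) * P3) /
        ((P1 : ℚ) ^ 2 - (2 * (m : ℚ) - 1) * P2) : ℚ) : ℂ) := by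
      push_cast
      rw [eq_div_iff hD0]
      exact hN
    exact int_of_rat_integral (x + y) (hx.add hy) _ hxy'

/-- the arithmetic of Wielandt's rank 3 theorem -/
theorem wielandt_arith (m k : ℕ) (T : ℤ) (hm : 2 ≤ m) (hk1 : 1 ≤ k) (hk2 : k ≤ 2 * m - 2)
    (hE : ((m : ℤ) - 1) * (m * T + k) ^ 2 + m * ((m - 1) * T + k) ^ 2 + (k : ℤ) ^ 2 = 2 * m * k) :
    k = 1 ∨ k = 2 * m - 2 ∨ ∃ a : ℕ, 0 < a ∧ m = 2 * a ^ 2 + 2 * a + 1 ∧
      (k = a * (2 * a + 1) ∨ k = (a + 1) * (2 * a + 1)) := by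
  have hM2 : (2 : ℤ) ≤ m := by exact_mod_cast hm
  have hK1 : (1 : ℤ) ≤ k := by exact_mod_cast hk1
  have hK2 : (k : ℤ) ≤ 2 * m - 2 := by
    have : k + 2 ≤ 2 * m := by omega
    have h' : ((k + 2 : ℕ) : ℤ) ≤ ((2 * m : ℕ) : ℤ) := by exact_mod_cast this
    push_cast at h'
    linarith
  have hE' : ((m : ℤ) - 1) * (2 * m - 1) * T ^ 2 + 4 * ((m : ℤ) - 1) * k * T + 2 * (k : ℤ) ^ 2
      - 2 * k = 0 := by
    have h0 : (m : ℤ) * (((m : ℤ) - 1) * (2 * m - 1) * T ^ 2 + 4 * ((m : ℤ) - 1) * k * T +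
        2 * (k : ℤ) ^ 2 - 2 * k) = 0 := by linear_combination hE
    rcases mul_eq_zero.mp h0 with h | h
    · omega
    · exact h
  have hsq : (4 * (k : ℤ) + 4 * ((m : ℤ) - 1) * T - 2) ^ 2 = 4 - 8 * ((m : ℤ) - 1) * (T * (T + 2)) := by
    linear_combination 8 * hE'
  have hT : T * (T + 2) ≤ 0 := by
    by_contra hcon
    push Not at hcon
    have h1 : 1 ≤ T * (T + 2) := hcon
    have h2 : 8 * ((m : ℤ) - 1) * (T * (T + 2)) ≥ 8 := by nlinarith
    have h3 := sq_nonneg (4 * (k : ℤ) + 4 * ((m : ℤ) - 1) * T - 2)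
    rw [hsq] at h3
    linarith
  have hT1 : -2 ≤ T := by nlinarith
  have hT2 : T ≤ 0 := by nlinarith
  interval_cases T
  · -- T = -2
    right; left
    have h1' : 2 * (((k : ℤ) - (2 * m - 2)) * ((k : ℤ) - (2 * m - 1))) = 0 := by
      linear_combination hE'
    have h1 : ((k : ℤ) - (2 * m - 2)) * ((k : ℤ) - (2 * m - 1)) = 0 := by
      rcases mul_eq_zero.mp h1' with h | h
      · norm_num at h
      · exact h
    rcases mul_eq_zero.mp h1 with h | h
    · have : (k : ℤ) = 2 * m - 2 := by linarith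
      omega
    · exfalso
      linarith
  · -- T = -1
    right; right
    have h1 : (2 * (k : ℤ) - (2 * m - 1)) ^ 2 = 2 * m - 1 := by linear_combination 2 * hE'
    set s : ℕ := (2 * (k : ℤ) - (2 * m - 1)).natAbs with hs
    have hs2 : (s : ℤ) ^ 2 = 2 * m - 1 := by
      rw [hs, Int.natCast_natAbs, sq_abs]
      exact h1
    have hsodd : s % 2 = 1 := by
      have : ((s : ℤ) ^ 2) % 2 = 1 := by rw [hs2]; omega
      rcases Nat.even_or_odd s with he | ho
      · exfalso
        obtain ⟨r, hr⟩ := he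
        rw [hr] at this
        push_cast at this
        have : ((r : ℤ) + r) ^ 2 % 2 = 0 := by
          have : ((r : ℤ) + r) ^ 2 = 2 * (2 * r ^ 2) := by ring
          rw [this]
          exact Int.mul_emod_right 2 _
        omega
      · exact Nat.odd_iff.mp ho
    obtain ⟨a, ha⟩ : ∃ a : ℕ, s = 2 * a + 1 := ⟨s / 2, by omega⟩
    have hs2' : ((2 * a + 1 : ℕ) : ℤ) ^ 2 = 2 * m - 1 := by rw [← ha]; exact hs2
    push_cast at hs2'
    have hma' : 2 * (m : ℤ) = 2 * (2 * a ^ 2 + 2 * a + 1) := by linear_combination (-1) * hs2'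
    have hma : (m : ℤ) = 2 * a ^ 2 + 2 * a + 1 := by linarith
    have ha0 : 0 < a := by
      rcases Nat.eq_zero_or_pos a with h | h
      · subst h
        simp at hma
        omega
      · exact h
    refine ⟨a, ha0, by exact_mod_cast hma, ?_⟩
    have habs : (2 * (k : ℤ) - (2 * m - 1)) = s ∨ (2 * (k : ℤ) - (2 * m - 1)) = -s := by
      rw [hs]
      exact Int.natAbs_eq _
    rcases habs with h | h
    · right
      have : (k : ℤ) = (a + 1) * (2 * a + 1) := by
        rw [ha] at h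
        push_cast at h
        have h2 : 2 * (k : ℤ) = 2 * ((a + 1) * (2 * a + 1)) := by linear_combination h + 2 * hma
        linarith
      exact_mod_cast this
    · left
      have : (k : ℤ) = a * (2 * a + 1) := by
        rw [ha] at h
        push_cast at h
        have h2 : 2 * (k : ℤ) = 2 * (a * (2 * a + 1)) := by linear_combination h + 2 * hma
        linarith
      exact_mod_cast this
  · -- T = 0
    left
    have h1' : 2 * ((k : ℤ) * ((k : ℤ) - 1)) = 0 := by linear_combination hE'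
    have h1 : (k : ℤ) * ((k : ℤ) - 1) = 0 := by
      rcases mul_eq_zero.mp h1' with h | h
      · norm_num at h
      · exact h
    rcases mul_eq_zero.mp h1 with h | h
    · omega
    · have : (k : ℤ) = 1 := by linarith
      exact_mod_cast this

end Cfsg.Agent.helper1
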