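import Mathlib
import Cfsg.Prelude.Def_Characters
import Cfsg.Agent.Lib_helper8_Clifford
import Cfsg.Agent.Lib_helper8_Virtual
import Cfsg.Agent.Lib_helper22_LinChar

set_option autoImplicit false

/-!
Invariant irreducible characters of a normal subgroup with abelian quotient (shared library,
helper8): orthogonality for the dual of a finite commutative group, twisting by linear
characters of the quotient, and the decomposition of the induced character.
-/

namespace Cfsg.Agent.helper8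

open scoped ComplexConjugate
open Cfsg.Agent.helper24 Cfsg.Agent.helper5

universe u

/-- Orthogonality: sum over the dual group of a finite commutative group. -/
theorem sum_hom_apply {A : Type*} [CommGroup A] [Finite A] [Fintype (A →* ℂˣ)] (a : A)
    [Decidable (a = 1)] :
    ∑ φ : A →* ℂˣ, ((φ a : ℂˣ) : ℂ) = if a = 1 then (Nat.card A : ℂ) else 0 := by
  have hne : Monoid.exponent A ≠ 0 := Monoid.exponent_ne_zero_of_finite
  haveI : NeZero ((Monoid.exponent A : ℕ) : ℂ) := ⟨by exact_mod_cast hne⟩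
  by_cases ha : a = 1
  · rw [if_pos ha, ha]
    simp only [map_one, Units.val_one, Finset.sum_const, Finset.card_univ, nsmul_eq_mul, mul_one]
    rw [← Nat.card_eq_fintype_card, CommGroup.card_monoidHom_of_hasEnoughRootsOfUnity]
  · rw [if_neg ha]
    obtain ⟨φ₀, hφ₀⟩ := CommGroup.exists_apply_ne_one_of_hasEnoughRootsOfUnity A ℂ ha
    have h1 : ∑ φ : A →* ℂˣ, ((φ a : ℂˣ) : ℂ)
        = ((φ₀ a : ℂˣ) : ℂ) * ∑ φ : A →* ℂˣ, ((φ a : ℂˣ) : ℂ) := by
      rw [Finset.mul_sum]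
      apply Fintype.sum_equiv (Equiv.mulLeft φ₀⁻¹)
      intro φ
      simp [MonoidHom.mul_apply, MonoidHom.inv_apply]
    have h2 : (1 - ((φ₀ a : ℂˣ) : ℂ)) * ∑ φ : A →* ℂˣ, ((φ a : ℂˣ) : ℂ) = 0 := by
      rw [sub_mul, one_mul, ← h1, sub_self]
    rcases mul_eq_zero.mp h2 with h | h
    · exfalso
      apply hφ₀
      apply Units.ext
      rw [Units.val_one]
      exact (sub_eq_zero.mp h).symm
    · exact h

variable {K : Type u} [Group K]

/-- The quotient by a normal subgroup containing all commutators, as a commutative group. -/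
@[reducible] def commGroupQuot (N : Subgroup K) [N.Normal]
    (hab : ∀ x y : K, x * y * x⁻¹ * y⁻¹ ∈ N) : CommGroup (K ⧸ N) :=
  { (inferInstance : Group (K ⧸ N)) with
    mul_comm := by
      intro a b
      induction a using QuotientGroup.induction_on with
      | _ x =>
        induction b using QuotientGroup.induction_on with
        | _ y =>
          rw [← QuotientGroup.mk_mul, ← QuotientGroup.mk_mul, QuotientGroup.eq]
          have := hab y⁻¹ x⁻¹
          have e : (x * y)⁻¹ * (y * x) = y⁻¹ * x⁻¹ * y⁻¹⁻¹ * x⁻¹⁻¹ := by group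
          rw [e]
          exact this }

open Classical in
/-- A family of linear characters of `K`, trivial on `N`, with the orthogonality relation. -/
theorem exists_linear_family [Finite K] (N : Subgroup K) [N.Normal]
    (hab : ∀ x y : K, x * y * x⁻¹ * y⁻¹ ∈ N) :
    ∃ L : Finset (K →* ℂˣ), (∀ φ ∈ L, ∀ x ∈ N, φ x = 1) ∧
      ∀ t : K, ∑ φ ∈ L, ((φ t : ℂˣ) : ℂ) = if t ∈ N then (N.index : ℂ) else 0 := by
  letI : CommGroup (K ⧸ N) := commGroupQuot N hab
  have hne : Monoid.exponent (K ⧸ N) ≠ 0 := Monoid.exponent_ne_zero_of_finite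
  haveI : NeZero ((Monoid.exponent (K ⧸ N) : ℕ) : ℂ) := ⟨by exact_mod_cast hne⟩
  have hcard : Nat.card ((K ⧸ N) →* ℂˣ) = Nat.card (K ⧸ N) :=
    CommGroup.card_monoidHom_of_hasEnoughRootsOfUnity (K ⧸ N) ℂ
  haveI : Finite ((K ⧸ N) →* ℂˣ) := by
    apply Nat.finite_of_card_ne_zero
    rw [hcard]
    exact Nat.card_pos.ne'
  letI : Fintype ((K ⧸ N) →* ℂˣ) := Fintype.ofFinite _
  let F : ((K ⧸ N) →* ℂˣ) → (K →* ℂˣ) := fun φ => φ.comp (QuotientGroup.mk' N)
  have hF : Function.Injective F := by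
    intro φ φ' h
    apply MonoidHom.ext
    intro a
    induction a using QuotientGroup.induction_on with
    | _ x => exact DFunLike.congr_fun h x
  refine ⟨Finset.univ.image F, ?_, ?_⟩
  · intro φ hφ x hx
    obtain ⟨φ', -, rfl⟩ := Finset.mem_image.mp hφ
    show φ' (QuotientGroup.mk x) = 1
    rw [(QuotientGroup.eq_one_iff x).mpr hx, map_one]
  · intro t
    rw [Finset.sum_image (fun a _ b _ h => hF h)]
    have := sum_hom_apply (A := K ⧸ N) (QuotientGroup.mk t : K ⧸ N)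
    show ∑ φ : (K ⧸ N) →* ℂˣ, ((φ (QuotientGroup.mk t) : ℂˣ) : ℂ) = _
    rw [this]
    by_cases ht : t ∈ N
    · rw [if_pos ht, if_pos ((QuotientGroup.eq_one_iff t).mpr ht), Subgroup.index_eq_card]
    · rw [if_neg ht, if_neg (fun h => ht ((QuotientGroup.eq_one_iff t).mp h))]

theorem sum_ite_mem_eq_sum_subgroup [Fintype K] (N : Subgroup K) [Fintype N]
    [DecidablePred (· ∈ N)] (F : K → ℂ) :
    ∑ t : K, (if t ∈ N then F t else 0) = ∑ x : N, F x := by
  rw [← Finset.sum_filter]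
  rw [Finset.sum_subtype (Finset.univ.filter (fun y : K => y ∈ N)) (p := fun y => y ∈ N)
    (by intro y; simp) F]

/-- If two characters of `K` both contain the irreducible character `θ` of `N` (in the sense
of Frobenius reciprocity), their restrictions to `N` are not orthogonal. -/
theorem restrict_inner_ne_zero [Fintype K] (N : Subgroup K) [Fintype N] {θ : N → ℂ}
    (hθ : IsIrrCharacter N θ) {Ψ Ψ' : K → ℂ} (hΨ : IsCharacter K Ψ) (hΨ' : IsCharacter K Ψ')
    (h : classInner (indFun N θ) Ψ ≠ 0) (h' : classInner (indFun N θ) Ψ' ≠ 0) :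
    classInner (fun x : N => Ψ x) (fun x : N => Ψ' x) ≠ 0 := by
  classical
  haveI : Fintype (IrrCharacter N) := Fintype.ofFinite _
  have hR := helper12.isCharacter_restrict N hΨ
  have hR' := helper12.isCharacter_restrict N hΨ'
  obtain ⟨m, hexp, hm, -⟩ := helper12.char_decomp hR
  obtain ⟨m', hexp', hm', -⟩ := helper12.char_decomp hR'
  have hmθ : m ⟨θ, hθ⟩ ≠ 0 := by
    intro h0
    apply h
    rw [frobenius N θ Ψ (char_isClassFunction hΨ), ← classInner_conj_symm]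
    have := hm ⟨θ, hθ⟩
    rw [h0, Nat.cast_zero] at this
    rw [this, map_zero]
  have hmθ' : m' ⟨θ, hθ⟩ ≠ 0 := by
    intro h0
    apply h'
    rw [frobenius N θ Ψ' (char_isClassFunction hΨ'), ← classInner_conj_symm]
    have := hm' ⟨θ, hθ⟩
    rw [h0, Nat.cast_zero] at this
    rw [this, map_zero]
  have hinner : classInner (fun x : N => Ψ x) (fun x : N => Ψ' x)
      = ((∑ φ : IrrCharacter N, m φ * m' φ : ℕ) : ℂ) := by
    conv_lhs => rw [hexp, hexp']
    rw [classInner_expansion]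
    push_cast
    apply Finset.sum_congr rfl
    intro φ _
    rw [map_natCast]
  rw [hinner]
  have hpos : 0 < ∑ φ : IrrCharacter N, m φ * m' φ := by
    have h1 : m ⟨θ, hθ⟩ * m' ⟨θ, hθ⟩ ≤ ∑ φ : IrrCharacter N, m φ * m' φ :=
      Finset.single_le_sum (f := fun φ => m φ * m' φ) (fun _ _ => Nat.zero_le _)
        (Finset.mem_univ (⟨θ, hθ⟩ : IrrCharacter N))
    have h2 : 0 < m ⟨θ, hθ⟩ * m' ⟨θ, hθ⟩ :=
      Nat.mul_pos (Nat.pos_of_ne_zero hmθ) (Nat.pos_of_ne_zero hmθ')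
    omega
  exact_mod_cast hpos.ne'

/-- Two irreducible characters of `K` whose restrictions to `N` are not orthogonal differ by
a linear character trivial on `N`, when `K/N` is abelian. -/
theorem exists_twist_eq [Fintype K] (N : Subgroup K) [N.Normal] [Fintype N]
    (hab : ∀ x y : K, x * y * x⁻¹ * y⁻¹ ∈ N) {Ψ Ψ' : K → ℂ} (hΨ : IsIrrCharacter K Ψ)
    (hΨ' : IsIrrCharacter K Ψ')
    (hne : classInner (fun x : N => Ψ x) (fun x : N => Ψ' x) ≠ 0) :
    ∃ φ : K →* ℂˣ, (∀ x ∈ N, φ x = 1) ∧ Ψ' = fun t => ((φ t : ℂˣ) : ℂ) * Ψ t := by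
  classical
  obtain ⟨L, hL1, hL2⟩ := exists_linear_family N hab
  by_contra hcon
  push Not at hcon
  have hzero : ∀ φ ∈ L, classInner (fun t => ((φ t : ℂˣ) : ℂ) * Ψ t) Ψ' = 0 := by
    intro φ hφ
    rw [irr_classInner (helper22.twist_isIrr φ hΨ) hΨ', if_neg]
    intro h
    exact hcon φ (hL1 φ hφ) h.symm
  have hsum : ∑ φ ∈ L, classInner (fun t => ((φ t : ℂˣ) : ℂ) * Ψ t) Ψ' = 0 :=
    Finset.sum_eq_zero hzero
  apply hne
  unfold classInner at hsum ⊢
  rw [← Finset.mul_sum, Finset.sum_comm] at hsum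
  have hK0 : (Nat.card K : ℂ) ≠ 0 := by exact_mod_cast (Nat.card_pos (α := K)).ne'
  have hidx : (N.index : ℂ) ≠ 0 := by
    exact_mod_cast (Subgroup.index_ne_zero_of_finite (H := N))
  have hinner : ∀ t : K, ∑ φ ∈ L, ((φ t : ℂˣ) : ℂ) * Ψ t * conj (Ψ' t)
      = if t ∈ N then (N.index : ℂ) * (Ψ t * conj (Ψ' t)) else 0 := by
    intro t
    have : ∑ φ ∈ L, ((φ t : ℂˣ) : ℂ) * Ψ t * conj (Ψ' t)
        = (∑ φ ∈ L, ((φ t : ℂˣ) : ℂ)) * (Ψ t * conj (Ψ' t)) := by
      rw [Finset.sum_mul]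
      apply Finset.sum_congr rfl
      intro φ _
      ring
    rw [this, hL2 t]
    by_cases ht : t ∈ N
    · rw [if_pos ht, if_pos ht]
    · rw [if_neg ht, if_neg ht, zero_mul]
  rw [Finset.sum_congr rfl (fun t _ => hinner t),
    sum_ite_mem_eq_sum_subgroup N (fun t => (N.index : ℂ) * (Ψ t * conj (Ψ' t))),
    ← Finset.mul_sum] at hsum
  have h3 : ∑ x : N, Ψ x * conj (Ψ' x) = 0 := by
    rcases mul_eq_zero.mp hsum with h | h
    · exact absurd h (inv_ne_zero hK0)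
    · rcases mul_eq_zero.mp h with h | h
      · exact absurd h hidx
      · exact h
  rw [h3, mul_zero]

/-- Twisting by a linear character trivial on the normal subgroup `N` does not change the
inner product with a function induced from `N`. -/
theorem classInner_indFun_twist [Fintype K] (N : Subgroup K) [N.Normal] (θ : N → ℂ)
    (φ : K →* ℂˣ) (hφ : ∀ x ∈ N, φ x = 1) (Ψ : K → ℂ) :
    classInner (indFun N θ) (fun t => ((φ t : ℂˣ) : ℂ) * Ψ t) = classInner (indFun N θ) Ψ := by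
  unfold classInner
  congr 1
  apply Finset.sum_congr rfl
  intro t _
  show indFun N θ t * conj (((φ t : ℂˣ) : ℂ) * Ψ t) = indFun N θ t * conj (Ψ t)
  by_cases ht : t ∈ N
  · rw [hφ t ht, Units.val_one, one_mul]
  · rw [indFun_of_not_mem_normal N θ t ht, zero_mul, zero_mul]

/-- Let `N` be normal in `K` with `K/N` abelian and `θ` a `K`-invariant irreducible character
of `N`. Then the induced character is `e` times the sum of a set `S` of irreducible characters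
of `K`, with `e ^ 2 * |S| = |K : N|`, each of degree `e * θ 1`. -/
theorem abelian_quot_invariant [Fintype K] (N : Subgroup K) [hN : N.Normal] [Fintype N]
    [Fintype (IrrCharacter K)] [DecidableEq (IrrCharacter K)]
    (hab : ∀ x y : K, x * y * x⁻¹ * y⁻¹ ∈ N) {θ : N → ℂ} (hθ : IsIrrCharacter N θ)
    (hinv : ∀ t : K, conjFunN N t θ = θ) :
    ∃ (e : ℕ) (S : Finset (IrrCharacter K)), 0 < e ∧
      indFun N θ = (e : ℂ) • ∑ Ψ ∈ S, (Ψ : K → ℂ) ∧
      e ^ 2 * S.card * Nat.card N = Nat.card K ∧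
      (∀ Ψ ∈ S, (Ψ : K → ℂ) 1 = (e : ℂ) * θ 1) ∧
      (∀ Ψ ∈ S, classInner (indFun N θ) (Ψ : K → ℂ) ≠ 0) := by
  classical
  have hK0 : (Nat.card K : ℂ) ≠ 0 := by exact_mod_cast (Nat.card_pos (α := K)).ne'
  have hN0 : (Nat.card N : ℂ) ≠ 0 := by exact_mod_cast (Nat.card_pos (α := N)).ne'
  have hD : IsCharacter K (indFun N θ) := helper12.isCharacter_indFun N (irr_isCharacter hθ)
  obtain ⟨n, hexp, hn, hnorm⟩ := helper12.char_decomp hD
  have hnormK := norm_indFun_inertia N ⊤ hθ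
    (fun t => ⟨fun _ => hinv t, fun _ => Subgroup.mem_top t⟩)
  rw [Subgroup.card_top] at hnormK
  have hD1 : indFun N θ 1 ≠ 0 := by
    rw [indFun_one_eq]
    exact mul_ne_zero (inv_ne_zero hN0) (mul_ne_zero hK0 (irr_apply_one_ne_zero hθ))
  obtain ⟨S, hSdef⟩ : ∃ S : Finset (IrrCharacter K), S = Finset.univ.filter (fun Ψ => n Ψ ≠ 0) :=
    ⟨_, rfl⟩
  have hmemS : ∀ Ψ, Ψ ∈ S ↔ n Ψ ≠ 0 := by
    intro Ψ
    rw [hSdef, Finset.mem_filter]
    exact ⟨fun h => h.2, fun h => ⟨Finset.mem_univ _, h⟩⟩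
  have hnotS : ∀ Ψ, Ψ ∉ S → n Ψ = 0 := by
    intro Ψ hΨ
    by_contra h
    exact hΨ ((hmemS Ψ).mpr h)
  have hSne : S.Nonempty := by
    by_contra hemp
    rw [Finset.not_nonempty_iff_eq_empty] at hemp
    apply hD1
    rw [hexp, Finset.sum_apply]
    apply Finset.sum_eq_zero
    intro Ψ _
    have : n Ψ = 0 := by
      apply hnotS
      rw [hemp]
      exact Finset.notMem_empty _
    rw [this]
    simp
  obtain ⟨Ψ₀, hΨ₀⟩ := hSne
  have hn0 : n Ψ₀ ≠ 0 := (hmemS Ψ₀).mp hΨ₀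
  have hkey : ∀ Ψ ∈ S, n Ψ = n Ψ₀ ∧ (Ψ : K → ℂ) 1 = (Ψ₀ : K → ℂ) 1 := by
    intro Ψ hΨ
    have hnΨ : n Ψ ≠ 0 := (hmemS Ψ).mp hΨ
    have c0 : classInner (indFun N θ) (Ψ₀ : K → ℂ) ≠ 0 := by
      rw [hn Ψ₀]; exact_mod_cast hn0
    have c1 : classInner (indFun N θ) (Ψ : K → ℂ) ≠ 0 := by
      rw [hn Ψ]; exact_mod_cast hnΨ
    have hres := restrict_inner_ne_zero N hθ (irr_isCharacter Ψ₀.2) (irr_isCharacter Ψ.2) c0 c1
    obtain ⟨φ, hφ1, hφ2⟩ := exists_twist_eq N hab Ψ₀.2 Ψ.2 hres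
    constructor
    · have h1 := hn Ψ
      rw [hφ2, classInner_indFun_twist N θ φ hφ1, hn Ψ₀] at h1
      exact_mod_cast h1.symm
    · rw [hφ2]
      simp
  have hcardS : S.card ≠ 0 := Finset.card_ne_zero.mpr ⟨Ψ₀, hΨ₀⟩
  have hexpS : indFun N θ = ((n Ψ₀ : ℕ) : ℂ) • ∑ Ψ ∈ S, (Ψ : K → ℂ) := by
    have h1 : ∑ Ψ : IrrCharacter K, (n Ψ : ℂ) • (Ψ : K → ℂ)
        = ∑ Ψ ∈ S, (n Ψ : ℂ) • (Ψ : K → ℂ) := by
      symm
      apply Finset.sum_subset (Finset.subset_univ _)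
      intro Ψ _ hΨ
      rw [hnotS Ψ hΨ]
      simp
    conv_lhs => rw [hexp]
    rw [h1, Finset.smul_sum]
    apply Finset.sum_congr rfl
    intro Ψ hΨ
    rw [(hkey Ψ hΨ).1]
  have hsq : ∑ Ψ : IrrCharacter K, n Ψ ^ 2 = n Ψ₀ ^ 2 * S.card := by
    have h1 : ∑ Ψ : IrrCharacter K, n Ψ ^ 2 = ∑ Ψ ∈ S, n Ψ ^ 2 := by
      symm
      apply Finset.sum_subset (Finset.subset_univ _)
      intro Ψ _ hΨ
      rw [hnotS Ψ hΨ]
      simp
    rw [h1, Finset.sum_congr rfl (fun Ψ hΨ => by rw [(hkey Ψ hΨ).1]), Finset.sum_const,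
      smul_eq_mul, mul_comm]
  have hcardeq : ((n Ψ₀ ^ 2 * S.card : ℕ) : ℂ) = (Nat.card N : ℂ)⁻¹ * (Nat.card K : ℂ) := by
    rw [← hsq, ← hnorm, hnormK]
  have hdeg : (Ψ₀ : K → ℂ) 1 = (n Ψ₀ : ℂ) * θ 1 := by
    have h1 : indFun N θ 1 = ((n Ψ₀ : ℕ) : ℂ) * ((S.card : ℂ) * (Ψ₀ : K → ℂ) 1) := by
      conv_lhs => rw [hexpS]
      rw [Pi.smul_apply, Finset.sum_apply, smul_eq_mul,
        Finset.sum_congr rfl (fun Ψ hΨ => (hkey Ψ hΨ).2), Finset.sum_const, nsmul_eq_mul]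
    rw [indFun_one_eq, ← mul_assoc, ← hcardeq] at h1
    push_cast at h1
    have hne : ((n Ψ₀ : ℂ) * (S.card : ℂ)) ≠ 0 :=
      mul_ne_zero (by exact_mod_cast hn0) (by exact_mod_cast hcardS)
    apply mul_left_cancel₀ hne
    linear_combination (-1 : ℂ) * h1
  refine ⟨n Ψ₀, S, Nat.pos_of_ne_zero hn0, hexpS, ?_, ?_, ?_⟩
  · have h2 : ((n Ψ₀ ^ 2 * S.card * Nat.card N : ℕ) : ℂ) = ((Nat.card K : ℕ) : ℂ) := by
      rw [Nat.cast_mul, hcardeq]
      field_simp
    exact_mod_cast h2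
  · intro Ψ hΨ
    rw [(hkey Ψ hΨ).2, hdeg]
  · intro Ψ hΨ
    rw [hn Ψ]
    exact_mod_cast (hmemS Ψ).mp hΨ

end Cfsg.Agent.helper8
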