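import Mathlib
import Cfsg.Prelude.Def_Characters
import Cfsg.Prelude.Def_OddOrderLocal
import Cfsg.Agent.Lib_helper8_AbQuot

set_option autoImplicit false

/-!
The self-normalising cyclic subgroup `W = W₁ ⊔ W₂` (shared library, helper8): the trivial
intersection property of `W \ (W₁ ∪ W₂)`, induction of class functions supported there, and
orthogonality of the linear characters of `W`.
-/

namespace Cfsg.Agent.helper8

open scoped ComplexConjugate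
open Cfsg.Agent.helper24 Cfsg.Agent.helper5

universe u
variable {G : Type u} [Group G]

/-- Elements of `W` centralise the elements of `W` outside `W₁ ∪ W₂`. -/
theorem snc_comm {W₁ W₂ : Subgroup G} (hW : IsSelfNormalizingCyclic W₁ W₂) {w v : G}
    (hw : w ∈ W₁ ⊔ W₂) (hw₁ : w ∉ W₁) (hw₂ : w ∉ W₂) (hv : v ∈ W₁ ⊔ W₂) : v * w * v⁻¹ = w := by
  obtain ⟨-, -, -, -, -, hN⟩ := hW
  have h1 := hN {w} (by
    intro y hy
    rw [Set.mem_singleton_iff] at hy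
    subst hy
    exact ⟨hw, fun h => h.elim hw₁ hw₂⟩) ⟨w, rfl⟩
  rw [← h1, Subgroup.mem_set_normalizer_iff] at hv
  have := (hv w).mp rfl
  exact this

/-- An element commuting with an element of `W` outside `W₁ ∪ W₂` lies in `W`. -/
theorem snc_mem_of_comm {W₁ W₂ : Subgroup G} (hW : IsSelfNormalizingCyclic W₁ W₂) {w v : G}
    (hw : w ∈ W₁ ⊔ W₂) (hw₁ : w ∉ W₁) (hw₂ : w ∉ W₂) (hv : v * w * v⁻¹ = w) : v ∈ W₁ ⊔ W₂ := by
  obtain ⟨-, -, -, -, -, hN⟩ := hW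
  have h1 := hN {w} (by
    intro y hy
    rw [Set.mem_singleton_iff] at hy
    subst hy
    exact ⟨hw, fun h => h.elim hw₁ hw₂⟩) ⟨w, rfl⟩
  rw [← h1, Subgroup.mem_set_normalizer_iff]
  intro n
  simp only [Set.mem_singleton_iff]
  constructor
  · rintro rfl
    exact hv
  · intro h
    have e : n = v⁻¹ * (v * n * v⁻¹) * v := by group
    have e2 : v⁻¹ * w * v = w := by
      have h3 : v⁻¹ * (v * w * v⁻¹) * v = w := by group
      rwa [hv] at h3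
    rw [e, h, e2]

/-- The trivial intersection property of `W \ (W₁ ∪ W₂)`. -/
theorem snc_TI {W₁ W₂ : Subgroup G} (hW : IsSelfNormalizingCyclic W₁ W₂) {w x : G}
    (hw : w ∈ W₁ ⊔ W₂) (hw₁ : w ∉ W₁) (hw₂ : w ∉ W₂)
    (hy : x⁻¹ * w * x ∈ W₁ ⊔ W₂) (hy₁ : x⁻¹ * w * x ∉ W₁) (hy₂ : x⁻¹ * w * x ∉ W₂) :
    x ∈ W₁ ⊔ W₂ := by
  have hW' := hW
  obtain ⟨hW₁ne, hW₂ne, hinf, -, hcyc, hN⟩ := hW
  -- conjugation by x and x⁻¹ preserves W
  have hP1 : ∀ v, v ∈ W₁ ⊔ W₂ → x⁻¹ * v * x ∈ W₁ ⊔ W₂ := by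
    intro v hv
    apply snc_mem_of_comm hW' hy hy₁ hy₂
    have := snc_comm hW' hw hw₁ hw₂ hv
    calc x⁻¹ * v * x * (x⁻¹ * w * x) * (x⁻¹ * v * x)⁻¹ = x⁻¹ * (v * w * v⁻¹) * x := by group
      _ = x⁻¹ * w * x := by rw [this]
  have hP2 : ∀ v, v ∈ W₁ ⊔ W₂ → x * v * x⁻¹ ∈ W₁ ⊔ W₂ := by
    intro v hv
    apply snc_mem_of_comm hW' hw hw₁ hw₂
    have := snc_comm hW' hy hy₁ hy₂ hv
    calc x * v * x⁻¹ * w * (x * v * x⁻¹)⁻¹ = x * (v * (x⁻¹ * w * x) * v⁻¹) * x⁻¹ := by group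
      _ = x * (x⁻¹ * w * x) * x⁻¹ := by rw [this]
      _ = w := by group
  have hP : ∀ v, v ∈ W₁ ⊔ W₂ ↔ x * v * x⁻¹ ∈ W₁ ⊔ W₂ := by
    intro v
    refine ⟨hP2 v, fun h => ?_⟩
    have := hP1 _ h
    have e : x⁻¹ * (x * v * x⁻¹) * x = v := by group
    rwa [e] at this
  -- the set of generators of W
  have hXsub : {g : G | Subgroup.zpowers g = W₁ ⊔ W₂} ⊆
      ((W₁ ⊔ W₂ : Subgroup G) : Set G) \ ((W₁ : Set G) ∪ (W₂ : Set G)) := by
    intro g hg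
    rw [Set.mem_ofPred_eq] at hg
    refine ⟨?_, ?_⟩
    · rw [SetLike.mem_coe, ← hg]
      exact Subgroup.mem_zpowers g
    · rintro (h | h)
      · apply hW₂ne
        have h1 : W₁ ⊔ W₂ ≤ W₁ := by
          rw [← hg]
          exact (Subgroup.zpowers_le).mpr h
        have h2 : W₂ ≤ W₁ := le_trans le_sup_right h1
        rw [eq_bot_iff, ← hinf]
        exact le_inf h2 le_rfl
      · apply hW₁ne
        have h1 : W₁ ⊔ W₂ ≤ W₂ := by
          rw [← hg]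
          exact (Subgroup.zpowers_le).mpr h
        have h2 : W₁ ≤ W₂ := le_trans le_sup_left h1
        rw [eq_bot_iff, ← hinf]
        exact le_inf le_rfl h2
  have hXne : {g : G | Subgroup.zpowers g = W₁ ⊔ W₂}.Nonempty := by
    obtain ⟨g₀, hg₀⟩ := hcyc.exists_generator
    refine ⟨(g₀ : G), ?_⟩
    rw [Set.mem_ofPred_eq]
    apply le_antisymm
    · exact (Subgroup.zpowers_le).mpr g₀.2
    · intro v hv
      obtain ⟨k, hk⟩ := Subgroup.mem_zpowers_iff.mp (hg₀ ⟨v, hv⟩)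
      rw [Subgroup.mem_zpowers_iff]
      refine ⟨k, ?_⟩
      have := congrArg Subtype.val hk
      simpa using this
  rw [← hN _ hXsub hXne, Subgroup.mem_set_normalizer_iff]
  intro n
  simp only [Set.mem_ofPred_eq]
  have hz : ∀ v, v ∈ Subgroup.zpowers (x * n * x⁻¹) ↔ x⁻¹ * v * x ∈ Subgroup.zpowers n := by
    intro v
    rw [Subgroup.mem_zpowers_iff, Subgroup.mem_zpowers_iff]
    constructor
    · rintro ⟨k, rfl⟩
      refine ⟨k, ?_⟩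
      rw [conj_zpow]
      group
    · rintro ⟨k, hk⟩
      refine ⟨k, ?_⟩
      rw [conj_zpow, hk]
      group
  constructor
  · intro hn
    ext v
    rw [hz v, hn]
    constructor
    · intro h
      have := hP2 _ h
      have e : x * (x⁻¹ * v * x) * x⁻¹ = v := by group
      rwa [e] at this
    · exact hP1 v
  · intro hn
    ext v
    have h1 := hz (x * v * x⁻¹)
    have e : x⁻¹ * (x * v * x⁻¹) * x = v := by group
    rw [e, hn] at h1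
    rw [← h1]
    exact (hP v).symm

/-- A function on `W` vanishing on `W₁ ∪ W₂` induces to a function agreeing with it on
`W \ (W₁ ∪ W₂)`. -/
theorem snc_indFun_apply [Fintype G] {W₁ W₂ : Subgroup G} (hW : IsSelfNormalizingCyclic W₁ W₂)
    (β : ↥(W₁ ⊔ W₂) → ℂ)
    (hβ : ∀ v : ↥(W₁ ⊔ W₂), ((v : G) ∈ W₁ ∨ (v : G) ∈ W₂) → β v = 0)
    (w : ↥(W₁ ⊔ W₂)) (hw₁ : (w : G) ∉ W₁) (hw₂ : (w : G) ∉ W₂) :
    indFun (W₁ ⊔ W₂) β w = β w := by
  classical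
  show (Nat.card ↥(W₁ ⊔ W₂) : ℂ)⁻¹ * ∑ x : G, extendByZero (W₁ ⊔ W₂) β (x⁻¹ * (w : G) * x) = β w
  have hterm : ∀ x : G, extendByZero (W₁ ⊔ W₂) β (x⁻¹ * (w : G) * x)
      = if x ∈ W₁ ⊔ W₂ then β w else 0 := by
    intro x
    by_cases hx : x ∈ W₁ ⊔ W₂
    · rw [if_pos hx]
      have h1 := snc_comm hW w.2 hw₁ hw₂ (Subgroup.inv_mem _ hx)
      rw [inv_inv] at h1
      rw [h1, extendByZero_coe]
    · rw [if_neg hx]
      by_cases hy : x⁻¹ * (w : G) * x ∈ W₁ ⊔ W₂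
      · rw [extendByZero_of_mem _ _ _ hy]
        apply hβ
        by_contra hcon
        push Not at hcon
        exact hx (snc_TI hW w.2 hw₁ hw₂ hy hcon.1 hcon.2)
      · exact extendByZero_of_not_mem _ _ _ hy
  rw [Finset.sum_congr rfl (fun x _ => hterm x), ← Finset.sum_filter, Finset.sum_const,
    card_filter_mem_subgroup, nsmul_eq_mul, ← mul_assoc, inv_mul_cancel₀, one_mul]
  exact_mod_cast (Nat.card_pos (α := ↥(W₁ ⊔ W₂))).ne'

/-- Induction from `W` is an isometry on functions vanishing on `W₁ ∪ W₂`. -/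
theorem snc_classInner_indFun [Fintype G] {W₁ W₂ : Subgroup G}
    (hW : IsSelfNormalizingCyclic W₁ W₂) [Fintype ↥(W₁ ⊔ W₂)] (α β : ↥(W₁ ⊔ W₂) → ℂ)
    (hα : ∀ v : ↥(W₁ ⊔ W₂), ((v : G) ∈ W₁ ∨ (v : G) ∈ W₂) → α v = 0)
    (hβ : ∀ v : ↥(W₁ ⊔ W₂), ((v : G) ∈ W₁ ∨ (v : G) ∈ W₂) → β v = 0) :
    classInner (indFun (W₁ ⊔ W₂) α) (indFun (W₁ ⊔ W₂) β) = classInner α β := by
  rw [frobenius _ _ _ (Cfsg.Agent.helper8.indFun_isClassFunction _ β)]
  unfold classInner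
  congr 1
  apply Finset.sum_congr rfl
  intro v _
  by_cases hv : (v : G) ∈ W₁ ∨ (v : G) ∈ W₂
  · rw [hα v hv, zero_mul, zero_mul]
  · push Not at hv
    show α v * conj (indFun (W₁ ⊔ W₂) β (v : G)) = α v * conj (β v)
    rw [snc_indFun_apply hW β hβ v hv.1 hv.2]

/-- The linear characters of a finite group, as functions, are orthonormal. -/
theorem classInner_hom {K : Type u} [Group K] [Fintype K] (ω ω' : K →* ℂˣ)
    [Decidable (ω = ω')] :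
    classInner (fun v => ((ω v : ℂˣ) : ℂ)) (fun v => ((ω' v : ℂˣ) : ℂ))
      = if ω = ω' then 1 else 0 := by
  classical
  rw [irr_classInner (helper22.hom_isIrrCharacter ω) (helper22.hom_isIrrCharacter ω')]
  by_cases h : ω = ω'
  · rw [if_pos h, if_pos (by rw [h])]
  · rw [if_neg h, if_neg]
    intro hf
    apply h
    apply MonoidHom.ext
    intro v
    apply Units.ext
    exact congr_fun hf v

/-- A linear character of `W₁ ⊔ W₂` trivial on `W₁` and on `W₂` is trivial. -/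
theorem hom_eq_one_of_sup {W₁ W₂ : Subgroup G} (ω : ↥(W₁ ⊔ W₂) →* ℂˣ)
    (h₁ : ∀ v : ↥(W₁ ⊔ W₂), (v : G) ∈ W₁ → ω v = 1)
    (h₂ : ∀ v : ↥(W₁ ⊔ W₂), (v : G) ∈ W₂ → ω v = 1) : ω = 1 := by
  have hle : W₁ ⊔ W₂ ≤ (ω.ker).map (W₁ ⊔ W₂).subtype := by
    apply sup_le
    · intro a ha
      exact ⟨⟨a, (le_sup_left : W₁ ≤ W₁ ⊔ W₂) ha⟩, h₁ _ ha, rfl⟩
    · intro a ha
      exact ⟨⟨a, (le_sup_right : W₂ ≤ W₁ ⊔ W₂) ha⟩, h₂ _ ha, rfl⟩
  apply MonoidHom.ext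
  intro v
  obtain ⟨v', hv', hvv'⟩ := hle v.2
  have : v' = v := Subtype.ext hvv'
  rw [← this]
  exact hv'

/-- Unique factorisation of linear characters of `W₁ ⊔ W₂`. -/
theorem hom_mul_eq_iff {W₁ W₂ : Subgroup G} (φ₁ φ₂ ψ₁ ψ₂ : ↥(W₁ ⊔ W₂) →* ℂˣ)
    (hφ₁ : ∀ v : ↥(W₁ ⊔ W₂), (v : G) ∈ W₂ → φ₁ v = 1)
    (hφ₂ : ∀ v : ↥(W₁ ⊔ W₂), (v : G) ∈ W₂ → φ₂ v = 1)
    (hψ₁ : ∀ v : ↥(W₁ ⊔ W₂), (v : G) ∈ W₁ → ψ₁ v = 1)
    (hψ₂ : ∀ v : ↥(W₁ ⊔ W₂), (v : G) ∈ W₁ → ψ₂ v = 1) :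
    φ₁ * ψ₁ = φ₂ * ψ₂ ↔ φ₁ = φ₂ ∧ ψ₁ = ψ₂ := by
  constructor
  · intro h
    have hφ : φ₁ = φ₂ := by
      have h1 : φ₁ * φ₂⁻¹ = 1 := by
        apply hom_eq_one_of_sup
        · intro v hv
          have h2 := DFunLike.congr_fun h v
          rw [MonoidHom.mul_apply, MonoidHom.mul_apply, hψ₁ v hv, hψ₂ v hv, mul_one, mul_one] at h2
          rw [MonoidHom.mul_apply, MonoidHom.inv_apply, h2, mul_inv_cancel]
        · intro v hv
          rw [MonoidHom.mul_apply, MonoidHom.inv_apply, hφ₁ v hv, hφ₂ v hv, inv_one, mul_one]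
      exact mul_inv_eq_one.mp h1
    refine ⟨hφ, ?_⟩
    rw [hφ] at h
    exact mul_left_cancel h
  · rintro ⟨rfl, rfl⟩
    rfl

end Cfsg.Agent.helper8
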