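import Cfsg.Statements.S1507
import Cfsg.Agent.S1506
import Cfsg.Agent.Lib_helper8_CyclicTI
import Cfsg.Agent.Lib_helper15_Replace

set_option autoImplicit false
open Cfsg

namespace Cfsg.Agent.S1507

open scoped ComplexConjugate
open Cfsg.Agent.helper24 Cfsg.Agent.helper5 Cfsg.Agent.helper8

theorem grid {Φ Ψ : Type*} [Fintype Φ] [Fintype Ψ] [DecidableEq Φ] [DecidableEq Ψ]
    (r : Φ → ℂ) (y : Ψ → ℂ) (h2 : Fintype.card Φ + 2 ≤ Fintype.card Ψ)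
    (hN : (Finset.univ.filter (fun p : Φ × Ψ => r p.1 + y p.2 ≠ 0)).card < 2 * Fintype.card Φ) :
    (∀ φ ψ, r φ + y ψ = 0) ∨ (∃ ψ₀ c, ∀ φ ψ, r φ + y ψ = if ψ = ψ₀ then c else 0) ∨
      (∃ φ₀ c, ∀ φ ψ, r φ + y ψ = if φ = φ₀ then c else 0) := by
  classical
  by_cases hΦ : IsEmpty Φ
  · left
    intro φ
    exact (hΦ.false φ).elim
  rw [not_isEmpty_iff] at hΦ
  obtain ⟨n, hn⟩ : ∃ n : Φ → ℕ, ∀ φ, n φ = (Finset.univ.filter (fun ψ : Ψ => r φ + y ψ ≠ 0)).card :=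
    ⟨_, fun _ => rfl⟩
  have hsum : (Finset.univ.filter (fun p : Φ × Ψ => r p.1 + y p.2 ≠ 0)).card = ∑ φ, n φ := by
    rw [Finset.card_filter, Fintype.sum_prod_type]
    apply Finset.sum_congr rfl
    intro φ _
    rw [hn, Finset.card_filter]
  rw [hsum] at hN
  have h1 : ∃ φ₁, n φ₁ ≤ 1 := by
    by_contra hcon
    push Not at hcon
    have h3 : 2 * Fintype.card Φ ≤ ∑ φ, n φ := by
      have := Finset.card_nsmul_le_sum Finset.univ n 2 (fun φ _ => hcon φ)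
      rw [Finset.card_univ, smul_eq_mul, mul_comm] at this
      exact this
    omega
  obtain ⟨φ₁, hφ₁⟩ := h1
  obtain ⟨c, hc⟩ : ∃ c : ℂ, c = - r φ₁ := ⟨_, rfl⟩
  have hne_iff : ∀ φ ψ, (r φ + y ψ ≠ 0) ↔ ¬ (y ψ = - r φ) := by
    intro φ ψ
    constructor
    · intro h h'
      apply h
      rw [h']
      ring
    · intro h h'
      apply h
      linear_combination h'
  have hB : (Finset.univ.filter (fun ψ : Ψ => y ψ ≠ c)).card ≤ 1 := by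
    have : Finset.univ.filter (fun ψ : Ψ => y ψ ≠ c)
        = Finset.univ.filter (fun ψ : Ψ => r φ₁ + y ψ ≠ 0) := by
      apply Finset.filter_congr
      intro ψ _
      rw [hc, hne_iff]
    rw [this, ← hn]
    exact hφ₁
  -- general lower bound for a row
  have hrow : ∀ (ψ₁ : Ψ), (∀ ψ, ψ ≠ ψ₁ → y ψ = c) → ∀ φ, r φ + c ≠ 0 →
      Fintype.card Ψ - 1 ≤ n φ := by
    intro ψ₁ hy φ hφ
    rw [hn]
    have hsub : Finset.univ.erase ψ₁ ⊆ Finset.univ.filter (fun ψ => r φ + y ψ ≠ 0) := by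
      intro ψ hψ
      rw [Finset.mem_erase] at hψ
      rw [Finset.mem_filter]
      refine ⟨Finset.mem_univ _, ?_⟩
      rw [hy ψ hψ.1]
      exact hφ
    calc Fintype.card Ψ - 1 = (Finset.univ.erase ψ₁).card := by
          rw [Finset.card_erase_of_mem (Finset.mem_univ _), Finset.card_univ]
      _ ≤ _ := Finset.card_le_card hsub
  rcases Nat.le_one_iff_eq_zero_or_eq_one.mp hB with hB0 | hB1
  · have hy : ∀ ψ, y ψ = c := by
      intro ψ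
      by_contra h
      have hm : ψ ∈ Finset.univ.filter (fun ψ : Ψ => y ψ ≠ c) := by
        rw [Finset.mem_filter]
        exact ⟨Finset.mem_univ _, h⟩
      rw [Finset.card_eq_zero.mp hB0] at hm
      exact absurd hm (Finset.notMem_empty _)
    have hnφ : ∀ φ, r φ + c ≠ 0 → n φ = Fintype.card Ψ := by
      intro φ h
      rw [hn, Finset.filter_true_of_mem, Finset.card_univ]
      intro ψ _
      rw [hy]
      exact h
    have hA : (Finset.univ.filter (fun φ : Φ => r φ + c ≠ 0)).card ≤ 1 := by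
      by_contra hcon
      push Not at hcon
      have h3 : (Finset.univ.filter (fun φ : Φ => r φ + c ≠ 0)).card * Fintype.card Ψ
          ≤ ∑ φ, n φ := by
        calc (Finset.univ.filter (fun φ : Φ => r φ + c ≠ 0)).card * Fintype.card Ψ
            = ∑ φ ∈ Finset.univ.filter (fun φ : Φ => r φ + c ≠ 0), n φ := by
              rw [Finset.sum_const_nat (m := Fintype.card Ψ)]
              intro φ hφ
              exact hnφ φ (Finset.mem_filter.mp hφ).2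
          _ ≤ ∑ φ, n φ := Finset.sum_le_sum_of_subset (Finset.filter_subset _ _)
      have h4 : 2 * Fintype.card Ψ
          ≤ (Finset.univ.filter (fun φ : Φ => r φ + c ≠ 0)).card * Fintype.card Ψ :=
        Nat.mul_le_mul_right _ hcon
      omega
    rcases Nat.le_one_iff_eq_zero_or_eq_one.mp hA with hA0 | hA1
    · left
      intro φ ψ
      rw [hy]
      by_contra h
      have hm : φ ∈ Finset.univ.filter (fun φ : Φ => r φ + c ≠ 0) := by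
        rw [Finset.mem_filter]
        exact ⟨Finset.mem_univ _, h⟩
      rw [Finset.card_eq_zero.mp hA0] at hm
      exact absurd hm (Finset.notMem_empty _)
    · right
      right
      obtain ⟨φ₀, hφ₀⟩ := Finset.card_eq_one.mp hA1
      refine ⟨φ₀, r φ₀ + c, ?_⟩
      intro φ ψ
      rw [hy]
      by_cases h : φ = φ₀
      · rw [if_pos h, h]
      · rw [if_neg h]
        by_contra h'
        have hm : φ ∈ Finset.univ.filter (fun φ : Φ => r φ + c ≠ 0) := by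
          rw [Finset.mem_filter]
          exact ⟨Finset.mem_univ _, h'⟩
        rw [hφ₀] at hm
        exact h (Finset.mem_singleton.mp hm)
  · obtain ⟨ψ₁, hψ₁⟩ := Finset.card_eq_one.mp hB1
    have hyψ₁ : y ψ₁ ≠ c := by
      have hm : ψ₁ ∈ Finset.univ.filter (fun ψ : Ψ => y ψ ≠ c) := by
        rw [hψ₁]
        exact Finset.mem_singleton_self _
      exact (Finset.mem_filter.mp hm).2
    have hy : ∀ ψ, ψ ≠ ψ₁ → y ψ = c := by
      intro ψ hne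
      by_contra h
      have hm : ψ ∈ Finset.univ.filter (fun ψ : Ψ => y ψ ≠ c) := by
        rw [Finset.mem_filter]
        exact ⟨Finset.mem_univ _, h⟩
      rw [hψ₁] at hm
      exact hne (Finset.mem_singleton.mp hm)
    have hcardΨ : 2 ≤ Fintype.card Ψ := by omega
    have hA : ∀ φ, r φ + c = 0 := by
      intro φ₂
      by_contra hφ₂
      have hn2 := hrow ψ₁ hy φ₂ hφ₂
      have hn1 : ∀ φ, 1 ≤ n φ := by
        intro φ
        by_cases h : r φ + c = 0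
        · rw [hn]
          apply Finset.card_pos.mpr
          refine ⟨ψ₁, ?_⟩
          rw [Finset.mem_filter]
          refine ⟨Finset.mem_univ _, ?_⟩
          intro h'
          apply hyψ₁
          linear_combination h' - h
        · have := hrow ψ₁ hy φ h
          omega
      have hcardΦ : 1 ≤ Fintype.card Φ := Fintype.card_pos
      have htot : (Fintype.card Ψ - 1) + (Fintype.card Φ - 1) ≤ ∑ φ, n φ := by
        rw [← Finset.add_sum_erase Finset.univ n (Finset.mem_univ φ₂)]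
        apply Nat.add_le_add hn2
        calc Fintype.card Φ - 1 = (Finset.univ.erase φ₂).card := by
              rw [Finset.card_erase_of_mem (Finset.mem_univ _), Finset.card_univ]
          _ = ∑ φ ∈ Finset.univ.erase φ₂, 1 := by simp
          _ ≤ ∑ φ ∈ Finset.univ.erase φ₂, n φ := Finset.sum_le_sum (fun φ _ => hn1 φ)
      omega
    right
    left
    refine ⟨ψ₁, y ψ₁ - c, ?_⟩
    intro φ ψ
    have := hA φ
    by_cases h : ψ = ψ₁
    · rw [if_pos h, h]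
      linear_combination this
    · rw [if_neg h, hy ψ h]
      exact this

theorem dual_decomp {A : Type*} [CommGroup A] [Finite A] (H₁ H₂ : Subgroup A)
    (hd : H₁ ⊓ H₂ = ⊥) (hs : H₁ ⊔ H₂ = ⊤) :
    Finite (A →* ℂˣ) ∧
    Function.Bijective (fun p : {φ : A →* ℂˣ // ∀ a ∈ H₂, φ a = 1} ×
      {ψ : A →* ℂˣ // ∀ a ∈ H₁, ψ a = 1} => p.1.1 * p.2.1) ∧
    Nat.card {φ : A →* ℂˣ // ∀ a ∈ H₂, φ a = 1} = Nat.card H₁ ∧
    Nat.card {ψ : A →* ℂˣ // ∀ a ∈ H₁, ψ a = 1} = Nat.card H₂ ∧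
    Nat.card H₁ * Nat.card H₂ = Nat.card A := by
  classical
  have : NeZero ((Monoid.exponent A : ℕ) : ℂ) :=
    ⟨by exact_mod_cast Monoid.exponent_ne_zero_of_finite⟩
  have hcardA : Nat.card (A →* ℂˣ) = Nat.card A :=
    CommGroup.card_monoidHom_of_hasEnoughRootsOfUnity A ℂ
  have hfin : Finite (A →* ℂˣ) := by
    apply Nat.finite_of_card_ne_zero
    rw [hcardA]
    exact Nat.card_pos.ne'
  have hcompl : Subgroup.IsComplement' H₁ H₂ := by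
    apply Subgroup.isComplement'_of_disjoint_and_mul_eq_univ (disjoint_iff.mpr hd)
    rw [← Subgroup.mul_normal, hs]
    rfl
  have hmul : Nat.card H₁ * Nat.card H₂ = Nat.card A := hcompl.card_mul_card
  have hk2 : Nat.card {φ : A →* ℂˣ // ∀ a ∈ H₂, φ a = 1} = Nat.card H₁ := by
    have e : Nat.card {φ : A →* ℂˣ // ∀ a ∈ H₂, φ a = 1}
        = Nat.card (MonoidHom.domRestrictHom H₂ ℂˣ).ker := by
      apply Nat.card_congr
      apply Equiv.subtypeEquivRight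
      intro φ
      rw [MonoidHom.mem_ker]
      constructor
      · intro h
        ext a
        simpa using congrArg Units.val (h a.1 a.2)
      · intro h a ha
        have := DFunLike.congr_fun h ⟨a, ha⟩
        simpa using this
    rw [e, CommGroup.card_domRestrictHom_ker]
    have h3 := Subgroup.card_eq_card_quotient_mul_card_subgroup H₂
    have hpos : 0 < Nat.card H₂ := Nat.card_pos
    rw [← hmul] at h3
    exact (Nat.eq_of_mul_eq_mul_right hpos h3).symm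
  have hk1 : Nat.card {ψ : A →* ℂˣ // ∀ a ∈ H₁, ψ a = 1} = Nat.card H₂ := by
    have e : Nat.card {ψ : A →* ℂˣ // ∀ a ∈ H₁, ψ a = 1}
        = Nat.card (MonoidHom.domRestrictHom H₁ ℂˣ).ker := by
      apply Nat.card_congr
      apply Equiv.subtypeEquivRight
      intro φ
      rw [MonoidHom.mem_ker]
      constructor
      · intro h
        ext a
        simpa using congrArg Units.val (h a.1 a.2)
      · intro h a ha
        have := DFunLike.congr_fun h ⟨a, ha⟩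
        simpa using this
    rw [e, CommGroup.card_domRestrictHom_ker]
    have h3 := Subgroup.card_eq_card_quotient_mul_card_subgroup H₁
    have hpos : 0 < Nat.card H₁ := Nat.card_pos
    rw [← hmul, mul_comm (Nat.card H₁)] at h3
    exact (Nat.eq_of_mul_eq_mul_right hpos h3).symm
  refine ⟨hfin, ?_, hk2, hk1, hmul⟩
  apply Function.Injective.bijective_of_nat_card_le
  · rintro ⟨⟨φ, hφ⟩, ⟨ψ, hψ⟩⟩ ⟨⟨φ', hφ'⟩, ⟨ψ', hψ'⟩⟩ h
    simp only at h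
    have hκ : φ * φ'⁻¹ = 1 := by
      have hker : (φ * φ'⁻¹).ker = ⊤ := by
        rw [eq_top_iff, ← hs]
        apply sup_le
        · intro a ha
          rw [MonoidHom.mem_ker, MonoidHom.mul_apply, MonoidHom.inv_apply]
          have h2 := DFunLike.congr_fun h a
          rw [MonoidHom.mul_apply, MonoidHom.mul_apply, hψ a ha, hψ' a ha, mul_one, mul_one] at h2
          rw [h2, mul_inv_cancel]
        · intro a ha
          rw [MonoidHom.mem_ker, MonoidHom.mul_apply, MonoidHom.inv_apply, hφ a ha, hφ' a ha]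
          simp
      ext a
      have : a ∈ (φ * φ'⁻¹).ker := by rw [hker]; trivial
      simpa using congrArg Units.val (MonoidHom.mem_ker.mp this)
    have hφφ' : φ = φ' := mul_inv_eq_one.mp hκ
    subst hφφ'
    have hψψ' : ψ = ψ' := mul_left_cancel h
    subst hψψ'
    rfl
  · rw [Nat.card_prod, hk2, hk1, hcardA, hmul]


theorem dual_W {G : Type*} [Group G] [Finite G] (W₁ W₂ : Subgroup G)
    (hcyc : IsCyclic ↥(W₁ ⊔ W₂)) (hdisj : W₁ ⊓ W₂ = ⊥) :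
    Finite (↥(W₁ ⊔ W₂) →* ℂˣ) ∧
    Function.Bijective (fun p : {φ : ↥(W₁ ⊔ W₂) →* ℂˣ // ∀ w : ↥(W₁ ⊔ W₂), (w : G) ∈ W₂ → φ w = 1} ×
      {ψ : ↥(W₁ ⊔ W₂) →* ℂˣ // ∀ w : ↥(W₁ ⊔ W₂), (w : G) ∈ W₁ → ψ w = 1} => p.1.1 * p.2.1) ∧
    Nat.card {φ : ↥(W₁ ⊔ W₂) →* ℂˣ // ∀ w : ↥(W₁ ⊔ W₂), (w : G) ∈ W₂ → φ w = 1} = Nat.card W₁ ∧
    Nat.card {ψ : ↥(W₁ ⊔ W₂) →* ℂˣ // ∀ w : ↥(W₁ ⊔ W₂), (w : G) ∈ W₁ → ψ w = 1} = Nat.card W₂ ∧
    Nat.card W₁ * Nat.card W₂ = Nat.card ↥(W₁ ⊔ W₂) := by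
  letI : CommGroup ↥(W₁ ⊔ W₂) := IsCyclic.commGroup
  have hd : W₁.subgroupOf (W₁ ⊔ W₂) ⊓ W₂.subgroupOf (W₁ ⊔ W₂) = ⊥ := by
    rw [eq_bot_iff]
    intro x hx
    have hx' := Subgroup.mem_inf.mp hx
    have : (x : G) ∈ W₁ ⊓ W₂ := Subgroup.mem_inf.mpr ⟨hx'.1, hx'.2⟩
    rw [hdisj, Subgroup.mem_bot] at this
    rw [Subgroup.mem_bot]
    exact Subtype.ext this
  have hs : W₁.subgroupOf (W₁ ⊔ W₂) ⊔ W₂.subgroupOf (W₁ ⊔ W₂) = ⊤ := by
    rw [← Subgroup.subgroupOf_sup le_sup_left le_sup_right, Subgroup.subgroupOf_self]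
  obtain ⟨h1, h2, h3, h4, h5⟩ := dual_decomp (A := ↥(W₁ ⊔ W₂)) (W₁.subgroupOf (W₁ ⊔ W₂))
    (W₂.subgroupOf (W₁ ⊔ W₂)) hd hs
  have e1 : Nat.card (W₁.subgroupOf (W₁ ⊔ W₂)) = Nat.card W₁ :=
    Nat.card_congr (Subgroup.subgroupOfEquivOfLe le_sup_left).toEquiv
  have e2 : Nat.card (W₂.subgroupOf (W₁ ⊔ W₂)) = Nat.card W₂ :=
    Nat.card_congr (Subgroup.subgroupOfEquivOfLe le_sup_right).toEquiv
  refine ⟨h1, h2, ?_, ?_, ?_⟩
  · rw [← e1]; exact h3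
  · rw [← e2]; exact h4
  · rw [← e1, ← e2]; exact h5


open Classical in
/-- Let W₁, W₂ ≤ G form a self-normalising cyclic subgroup W = W₁ ⊔ W₂ of odd order with Nat.card W₁ < Nat.card W₂, and χ an orthonormal family of irreducible characters of G up to sign, indexed by the linear characters ω of W, with χ_1 = 1, χ_ω = ω on W outside W₁ ∪ W₂, and the induction identity for (1 − φ)(1 − ψ). Let θ be a class function of G vanishing on W outside W₁ ∪ W₂, and suppose fewer than 2 · Nat.card W₁ linear characters ω of W have ⟨θ, χ ω⟩ ≠ 0. Then one of: all ⟨θ, χ ω⟩ vanish; or there are ψ₀ and a with ⟨θ, χ ω⟩ = a when ω ψ₀⁻¹ is trivial on W₂ and 0 otherwise; or there are φ₀ and a with ⟨θ, χ ω⟩ = a when ω φ₀⁻¹ is trivial on W₁ and 0 otherwise. -/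
theorem result {G : Type*} [Group G] [Fintype G] (W₁ W₂ : Subgroup G) (hW : Cfsg.IsSelfNormalizingCyclic W₁ W₂) (hodd : Odd (Nat.card ↥(W₁ ⊔ W₂))) (χ : (↥(W₁ ⊔ W₂) →* ℂˣ) → (G → ℂ)) (hχ : Cfsg.IsCyclicTIFamily W₁ W₂ χ) (hlt : Nat.card W₁ < Nat.card W₂) (θ : G → ℂ) (hθ : Cfsg.IsClassFunction G θ) (hθV : ∀ w : ↥(W₁ ⊔ W₂), (w : G) ∉ W₁ → (w : G) ∉ W₂ → θ w = 0) (hfew : Nat.card {ω : ↥(W₁ ⊔ W₂) →* ℂˣ // Cfsg.classInner θ (χ ω) ≠ 0} < 2 * Nat.card W₁) : (∀ ω, Cfsg.classInner θ (χ ω) = 0) ∨ (∃ (ψ₀ : ↥(W₁ ⊔ W₂) →* ℂˣ) (a : ℂ), ∀ ω, Cfsg.classInner θ (χ ω) = if (∀ w : ↥(W₁ ⊔ W₂), (w : G) ∈ W₂ → (ω * ψ₀⁻¹) w = 1) then a else 0) ∨ (∃ (φ₀ : ↥(W₁ ⊔ W₂) →* ℂˣ) (a : ℂ), ∀ ω, Cfsg.classInner θ (χ ω) = if (∀ w : ↥(W₁ ⊔ W₂), (w : G) ∈ W₁ → (ω * φ₀⁻¹) w = 1) then a else 0) := by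
  classical
  obtain ⟨hW₁ne, hW₂ne, hdisj, hcomm, hcyc, hnorm⟩ := hW
  obtain ⟨hfin, hbij, hk2, hk1, hmul⟩ := dual_W W₁ W₂ hcyc hdisj
  haveI : Fintype {φ : ↥(W₁ ⊔ W₂) →* ℂˣ // ∀ w : ↥(W₁ ⊔ W₂), (w : G) ∈ W₂ → φ w = 1} :=
    Fintype.ofFinite _
  haveI : Fintype {ψ : ↥(W₁ ⊔ W₂) →* ℂˣ // ∀ w : ↥(W₁ ⊔ W₂), (w : G) ∈ W₁ → ψ w = 1} :=
    Fintype.ofFinite _
  obtain ⟨a, ha⟩ : ∃ a : (↥(W₁ ⊔ W₂) →* ℂˣ) → ℂ, ∀ ω, a ω = Cfsg.classInner θ (χ ω) :=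
    ⟨_, fun _ => rfl⟩
  have hkey : ∀ (φ : {φ : ↥(W₁ ⊔ W₂) →* ℂˣ // ∀ w : ↥(W₁ ⊔ W₂), (w : G) ∈ W₂ → φ w = 1})
      (ψ : {ψ : ↥(W₁ ⊔ W₂) →* ℂˣ // ∀ w : ↥(W₁ ⊔ W₂), (w : G) ∈ W₁ → ψ w = 1}),
      a (φ.1 * ψ.1) = (a φ.1 - a 1) + a ψ.1 := by
    intro φ ψ
    rw [ha, ha, ha, ha, Cfsg.Agent.S1506.key W₁ W₂ χ hχ θ hθ hθV φ.1 ψ.1 φ.2 ψ.2]
    ring
  have hsurj : ∀ ω : ↥(W₁ ⊔ W₂) →* ℂˣ,
      ∃ (φ : {φ : ↥(W₁ ⊔ W₂) →* ℂˣ // ∀ w : ↥(W₁ ⊔ W₂), (w : G) ∈ W₂ → φ w = 1})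
      (ψ : {ψ : ↥(W₁ ⊔ W₂) →* ℂˣ // ∀ w : ↥(W₁ ⊔ W₂), (w : G) ∈ W₁ → ψ w = 1}),
      ω = φ.1 * ψ.1 := by
    intro ω
    obtain ⟨⟨φ, ψ⟩, h⟩ := hbij.2 ω
    exact ⟨φ, ψ, h.symm⟩
  have hcount : Nat.card {ω : ↥(W₁ ⊔ W₂) →* ℂˣ // Cfsg.classInner θ (χ ω) ≠ 0}
      = (Finset.univ.filter (fun p :
        {φ : ↥(W₁ ⊔ W₂) →* ℂˣ // ∀ w : ↥(W₁ ⊔ W₂), (w : G) ∈ W₂ → φ w = 1} ×
        {ψ : ↥(W₁ ⊔ W₂) →* ℂˣ // ∀ w : ↥(W₁ ⊔ W₂), (w : G) ∈ W₁ → ψ w = 1} =>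
        (a p.1.1 - a 1) + a p.2.1 ≠ 0)).card := by
    rw [← Fintype.card_subtype, ← Nat.card_eq_fintype_card]
    apply Nat.card_congr
    refine ((Equiv.ofBijective _ hbij).subtypeEquiv ?_).symm
    intro p
    show (a p.1.1 - a 1) + a p.2.1 ≠ 0 ↔ Cfsg.classInner θ (χ (p.1.1 * p.2.1)) ≠ 0
    rw [← ha, hkey]
  have hodd' := hodd
  rw [← hmul, Nat.odd_mul] at hodd'
  have h2 : Fintype.card {φ : ↥(W₁ ⊔ W₂) →* ℂˣ // ∀ w : ↥(W₁ ⊔ W₂), (w : G) ∈ W₂ → φ w = 1} + 2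
      ≤ Fintype.card {ψ : ↥(W₁ ⊔ W₂) →* ℂˣ // ∀ w : ↥(W₁ ⊔ W₂), (w : G) ∈ W₁ → ψ w = 1} := by
    rw [← Nat.card_eq_fintype_card, ← Nat.card_eq_fintype_card, hk2, hk1]
    obtain ⟨k₁, hk₁⟩ := hodd'.1
    obtain ⟨k₂, hk₂⟩ := hodd'.2
    omega
  have hN : (Finset.univ.filter (fun p :
        {φ : ↥(W₁ ⊔ W₂) →* ℂˣ // ∀ w : ↥(W₁ ⊔ W₂), (w : G) ∈ W₂ → φ w = 1} ×
        {ψ : ↥(W₁ ⊔ W₂) →* ℂˣ // ∀ w : ↥(W₁ ⊔ W₂), (w : G) ∈ W₁ → ψ w = 1} =>
        (a p.1.1 - a 1) + a p.2.1 ≠ 0)).card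
      < 2 * Fintype.card {φ : ↥(W₁ ⊔ W₂) →* ℂˣ // ∀ w : ↥(W₁ ⊔ W₂), (w : G) ∈ W₂ → φ w = 1} := by
    rw [← hcount, ← Nat.card_eq_fintype_card, hk2]
    exact hfew
  rcases grid (fun φ : {φ : ↥(W₁ ⊔ W₂) →* ℂˣ // ∀ w : ↥(W₁ ⊔ W₂), (w : G) ∈ W₂ → φ w = 1} =>
      a φ.1 - a 1)
    (fun ψ : {ψ : ↥(W₁ ⊔ W₂) →* ℂˣ // ∀ w : ↥(W₁ ⊔ W₂), (w : G) ∈ W₁ → ψ w = 1} => a ψ.1)
    h2 hN with h | ⟨ψ₀, c, h⟩ | ⟨φ₀, c, h⟩
  · left
    intro ω
    obtain ⟨φ, ψ, rfl⟩ := hsurj ω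
    rw [← ha, hkey]
    exact h φ ψ
  · right
    left
    refine ⟨ψ₀.1, c, ?_⟩
    intro ω
    obtain ⟨φ, ψ, rfl⟩ := hsurj ω
    rw [← ha, hkey]
    have hh := h φ ψ
    rw [hh]
    by_cases hψ : ψ = ψ₀
    · rw [if_pos hψ, if_pos]
      intro w hw
      rw [hψ, MonoidHom.mul_apply, MonoidHom.mul_apply, MonoidHom.inv_apply, φ.2 w hw]
      simp
    · rw [if_neg hψ, if_neg]
      intro hcond
      apply hψ
      apply Subtype.ext
      have h1 : ψ.1 * ψ₀.1⁻¹ = 1 := by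
        apply Cfsg.Agent.helper8.hom_eq_one_of_sup
        · intro v hv
          rw [MonoidHom.mul_apply, MonoidHom.inv_apply, ψ.2 v hv, ψ₀.2 v hv]
          simp
        · intro v hv
          have := hcond v hv
          rw [MonoidHom.mul_apply, MonoidHom.mul_apply, MonoidHom.inv_apply, φ.2 v hv,
            one_mul] at this
          rw [MonoidHom.mul_apply, MonoidHom.inv_apply]
          exact this
      exact mul_inv_eq_one.mp h1
  · right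
    right
    refine ⟨φ₀.1, c, ?_⟩
    intro ω
    obtain ⟨φ, ψ, rfl⟩ := hsurj ω
    rw [← ha, hkey]
    have hh := h φ ψ
    rw [hh]
    by_cases hφ : φ = φ₀
    · rw [if_pos hφ, if_pos]
      intro w hw
      rw [hφ, MonoidHom.mul_apply, MonoidHom.mul_apply, MonoidHom.inv_apply, ψ.2 w hw]
      simp
    · rw [if_neg hφ, if_neg]
      intro hcond
      apply hφ
      apply Subtype.ext
      have h1 : φ.1 * φ₀.1⁻¹ = 1 := by
        apply Cfsg.Agent.helper8.hom_eq_one_of_sup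
        · intro v hv
          have := hcond v hv
          rw [MonoidHom.mul_apply, MonoidHom.mul_apply, MonoidHom.inv_apply, ψ.2 v hv,
            mul_one] at this
          rw [MonoidHom.mul_apply, MonoidHom.inv_apply]
          exact this
        · intro v hv
          rw [MonoidHom.mul_apply, MonoidHom.inv_apply, φ.2 v hv, φ₀.2 v hv]
          simp
      exact mul_inv_eq_one.mp h1

end Cfsg.Agent.S1507
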