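import Cfsg.Statements.S1509
import Mathlib
import Cfsg.Agent.Lib_helper24_CharOrth
-- import your own Cfsg.Agent.* helpers here

set_option autoImplicit false
open Cfsg

namespace Cfsg.Agent.S1509


open scoped ComplexConjugate
open Cfsg.Agent.helper24

theorem inner_smul_right {X : Type*} [Group X] [Fintype X] (c : ℂ) (f ψ : X → ℂ) :
    classInner f (c • ψ) = conj c * classInner f ψ := by
  rw [← classInner_conj_symm, classInner_smul_left, map_mul, classInner_conj_symm]

theorem inner_sub_right {X : Type*} [Group X] [Fintype X] (f ψ₁ ψ₂ : X → ℂ) :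
    classInner f (ψ₁ - ψ₂) = classInner f ψ₁ - classInner f ψ₂ := by
  rw [← classInner_conj_symm, classInner_sub_left, map_sub, classInner_conj_symm,
    classInner_conj_symm]

theorem inner_smul_smul {X : Type*} [Group X] [Fintype X] (a c : ℂ) (A C : X → ℂ) :
    classInner (a • A) (c • C) = a * conj c * classInner A C := by
  rw [classInner_smul_left, inner_smul_right]; ring

theorem conj_sign (e : ℂ) (h : e = 1 ∨ e = -1) : conj e = e := by
  rcases h with rfl | rfl <;> simp

theorem sign_ne_zero (e : ℂ) (h : e = 1 ∨ e = -1) : e ≠ 0 := by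
  rcases h with rfl | rfl <;> norm_num

theorem signed {X : Type*} [Group X] (f : X → ℂ)
    (h : IsIrrCharacter X f ∨ IsIrrCharacter X (-f)) :
    ∃ (e : ℂ) (F : X → ℂ), (e = 1 ∨ e = -1) ∧ IsIrrCharacter X F ∧ f = e • F := by
  rcases h with h | h
  · exact ⟨1, f, Or.inl rfl, h, by simp⟩
  · exact ⟨-1, -f, Or.inr rfl, h, by simp⟩

theorem sign_eq (a b : ℂ) (ha : a = 1 ∨ a = -1) (hb : b = 1 ∨ b = -1) (n m : ℕ)
    (hn : 0 < n) (hm : 0 < m) (h : a * (n : ℂ) = b * (m : ℂ)) : a = b := by
  rcases ha with rfl | rfl <;> rcases hb with rfl | rfl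
  · rfl
  · exfalso
    have h3 : ((n + m : ℕ) : ℂ) = 0 := by push_cast; linear_combination h
    have := Nat.cast_eq_zero.mp h3
    omega
  · exfalso
    have h3 : ((n + m : ℕ) : ℂ) = 0 := by push_cast; linear_combination -h
    have := Nat.cast_eq_zero.mp h3
    omega
  · rfl

/-- Let α, β, γ, δ be functions on a finite group X each of which is an irreducible character or the negative of one, and u, v nonzero real numbers. Suppose ⟨α, β⟩ = ⟨γ, δ⟩ = 0, ⟨α − β, uγ − vδ⟩ = 0, α 1 = β 1 and u γ 1 = v δ 1. Then also ⟨α, γ⟩ = ⟨α, δ⟩ = ⟨β, γ⟩ = ⟨β, δ⟩ = 0. -/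
theorem result {X : Type*} [Group X] [Fintype X] (α β γ δ : X → ℂ) (hα : Cfsg.IsIrrCharacter X α ∨ Cfsg.IsIrrCharacter X (-α)) (hβ : Cfsg.IsIrrCharacter X β ∨ Cfsg.IsIrrCharacter X (-β)) (hγ : Cfsg.IsIrrCharacter X γ ∨ Cfsg.IsIrrCharacter X (-γ)) (hδ : Cfsg.IsIrrCharacter X δ ∨ Cfsg.IsIrrCharacter X (-δ)) (u v : ℝ) (hu : u ≠ 0) (hv : v ≠ 0) (hab : Cfsg.classInner α β = 0) (hcd : Cfsg.classInner γ δ = 0) (hmix : Cfsg.classInner (α - β) ((u : ℂ) • γ - (v : ℂ) • δ) = 0) (h1 : α 1 = β 1) (h2 : (u : ℂ) * γ 1 = (v : ℂ) * δ 1) : Cfsg.classInner α γ = 0 ∧ Cfsg.classInner α δ = 0 ∧ Cfsg.classInner β γ = 0 ∧ Cfsg.classInner β δ = 0 := by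
  obtain ⟨a, A, ha, hA, rfl⟩ := signed α hα
  obtain ⟨b, B, hb, hB, rfl⟩ := signed β hβ
  obtain ⟨c, C, hc, hC, rfl⟩ := signed γ hγ
  obtain ⟨d, D, hd, hD, rfl⟩ := signed δ hδ
  obtain ⟨nA, hnA0, hnA⟩ := irr_apply_one hA
  obtain ⟨nB, hnB0, hnB⟩ := irr_apply_one hB
  obtain ⟨nC, hnC0, hnC⟩ := irr_apply_one hC
  obtain ⟨nD, hnD0, hnD⟩ := irr_apply_one hD
  have ha0 := sign_ne_zero a ha
  have hc0 := sign_ne_zero c hc
  have hd0 := sign_ne_zero d hd
  have huC : (u : ℂ) ≠ 0 := Complex.ofReal_ne_zero.mpr hu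
  have hvC : (v : ℂ) ≠ 0 := Complex.ofReal_ne_zero.mpr hv
  have h1' : a * (nA : ℂ) = b * (nB : ℂ) := by
    have := h1
    simp only [Pi.smul_apply, smul_eq_mul, hnA, hnB] at this
    exact this
  have hab' : a = b := sign_eq a b ha hb nA nB hnA0 hnB0 h1'
  subst hab'
  have h2' : (u : ℂ) * (c * (nC : ℂ)) = (v : ℂ) * (d * (nD : ℂ)) := by
    have := h2
    simp only [Pi.smul_apply, smul_eq_mul, hnC, hnD] at this
    exact this
  have hAB : A ≠ B := by
    intro h; subst h
    rw [inner_smul_smul, irr_classInner_self hA, conj_sign a ha, mul_one] at hab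
    exact (mul_ne_zero ha0 ha0) hab
  have hCD : C ≠ D := by
    intro h; subst h
    rw [inner_smul_smul, irr_classInner_self hC, conj_sign d hd, mul_one] at hcd
    exact (mul_ne_zero hc0 hd0) hcd
  have eAC : classInner A C = if A = C then 1 else 0 := irr_classInner hA hC
  have eAD : classInner A D = if A = D then 1 else 0 := irr_classInner hA hD
  have eBC : classInner B C = if B = C then 1 else 0 := irr_classInner hB hC
  have eBD : classInner B D = if B = D then 1 else 0 := irr_classInner hB hD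
  have hmix' : a * c * u * classInner A C - a * d * v * classInner A D
      - a * c * u * classInner B C + a * d * v * classInner B D = 0 := by
    have := hmix
    simp only [classInner_sub_left, inner_sub_right, inner_smul_right, classInner_smul_left,
      Complex.conj_ofReal, conj_sign c hc, conj_sign d hd] at this
    linear_combination this
  have twoterm : c * u + d * v = 0 → False := by
    intro k
    have k2 : d * v * ((nC : ℂ) + nD) = 0 := by linear_combination (nC : ℂ) * k - h2'
    rcases mul_eq_zero.mp k2 with k3 | k3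
    · exact (mul_ne_zero hd0 hvC) k3
    · have h3 : ((nC + nD : ℕ) : ℂ) = 0 := by push_cast; exact k3
      have := Nat.cast_eq_zero.mp h3
      omega
  by_cases hAC : A = C
  · have hBC : B ≠ C := fun h => hAB (hAC.trans h.symm)
    have hAD : A ≠ D := fun h => hCD (hAC.symm.trans h)
    exfalso
    by_cases hBD : B = D
    · rw [eAC, eAD, eBC, eBD, if_pos hAC, if_neg hAD, if_neg hBC, if_pos hBD] at hmix'
      apply twoterm
      have : a * (c * u + d * v) = 0 := by linear_combination hmix'
      exact (mul_eq_zero.mp this).resolve_left ha0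
    · rw [eAC, eAD, eBC, eBD, if_pos hAC, if_neg hAD, if_neg hBC, if_neg hBD] at hmix'
      have : a * c * u = 0 := by linear_combination hmix'
      exact (mul_ne_zero (mul_ne_zero ha0 hc0) huC) this
  · by_cases hBC : B = C
    · have hBD : B ≠ D := fun h => hCD (hBC.symm.trans h)
      exfalso
      by_cases hAD : A = D
      · rw [eAC, eAD, eBC, eBD, if_neg hAC, if_pos hAD, if_pos hBC, if_neg hBD] at hmix'
        apply twoterm
        have : a * (c * u + d * v) = 0 := by linear_combination (-1 : ℂ) * hmix'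
        exact (mul_eq_zero.mp this).resolve_left ha0
      · rw [eAC, eAD, eBC, eBD, if_neg hAC, if_neg hAD, if_pos hBC, if_neg hBD] at hmix'
        have : a * c * u = 0 := by linear_combination (-1 : ℂ) * hmix'
        exact (mul_ne_zero (mul_ne_zero ha0 hc0) huC) this
    · by_cases hAD : A = D
      · have hBD : B ≠ D := fun h => hAB (hAD.trans h.symm)
        exfalso
        rw [eAC, eAD, eBC, eBD, if_neg hAC, if_pos hAD, if_neg hBC, if_neg hBD] at hmix'
        have : a * d * v = 0 := by linear_combination (-1 : ℂ) * hmix'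
        exact (mul_ne_zero (mul_ne_zero ha0 hd0) hvC) this
      · by_cases hBD : B = D
        · exfalso
          rw [eAC, eAD, eBC, eBD, if_neg hAC, if_neg hAD, if_neg hBC, if_pos hBD] at hmix'
          have : a * d * v = 0 := by linear_combination hmix'
          exact (mul_ne_zero (mul_ne_zero ha0 hd0) hvC) this
        · refine ⟨?_, ?_, ?_, ?_⟩
          · rw [inner_smul_smul, eAC, if_neg hAC, mul_zero]
          · rw [inner_smul_smul, eAD, if_neg hAD, mul_zero]
          · rw [inner_smul_smul, eBC, if_neg hBC, mul_zero]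
          · rw [inner_smul_smul, eBD, if_neg hBD, mul_zero]

end Cfsg.Agent.S1509
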