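import Mathlib
import Cfsg.Prelude.Def_Characters
import Cfsg.Prelude.Def_OddOrderLocal
import Cfsg.Prelude.Def_OddOrderChar
import Cfsg.Agent.Lib_helper8_CyclicTI
import Cfsg.Agent.Lib_helper1_GalChar
import Cfsg.Agent.Lib_helper1_WielandtArith
import Cfsg.Agent.S1507
import Cfsg.Agent.S1509

set_option autoImplicit false

/-!
Uniqueness and Galois behaviour of the family of signed irreducible characters attached to a
self-normalising cyclic subgroup `W = W₁ ⊔ W₂` (shared library, helper8).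
-/

namespace Cfsg.Agent.helper8.CycGal

open scoped ComplexConjugate
open Cfsg Cfsg.Agent.helper24 Cfsg.Agent.helper5

/-! ### signed irreducible characters -/

theorem sgn_cases {X : Type*} [Group X] [Fintype X] {α β : X → ℂ}
    (hα : IsIrrCharacter X α ∨ IsIrrCharacter X (-α))
    (hβ : IsIrrCharacter X β ∨ IsIrrCharacter X (-β)) :
    classInner α β = 0 ∨ classInner α β = 1 ∨ classInner α β = -1 := by
  obtain ⟨e, A, he, hA, rfl⟩ := Cfsg.Agent.S1509.signed α hα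
  obtain ⟨e', B, he', hB, rfl⟩ := Cfsg.Agent.S1509.signed β hβ
  rw [Cfsg.Agent.S1509.inner_smul_smul, Cfsg.Agent.S1509.conj_sign e' he']
  by_cases h : A = B
  · subst h
    rw [irr_classInner_self hA]
    rcases he with rfl | rfl <;> rcases he' with rfl | rfl <;> norm_num
  · left
    rw [irr_classInner_ne hA hB h]
    ring

theorem sgn_excl {X : Type*} [Group X] [Fintype X] {α₁ α₂ β : X → ℂ}
    (h1 : IsIrrCharacter X α₁ ∨ IsIrrCharacter X (-α₁))
    (h2 : IsIrrCharacter X α₂ ∨ IsIrrCharacter X (-α₂))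
    (hβ : IsIrrCharacter X β ∨ IsIrrCharacter X (-β))
    (h12 : classInner α₁ α₂ = 0) : classInner α₁ β = 0 ∨ classInner α₂ β = 0 := by
  obtain ⟨e₁, A₁, he₁, hA₁, rfl⟩ := Cfsg.Agent.S1509.signed α₁ h1
  obtain ⟨e₂, A₂, he₂, hA₂, rfl⟩ := Cfsg.Agent.S1509.signed α₂ h2
  obtain ⟨e, B, he, hB, rfl⟩ := Cfsg.Agent.S1509.signed β hβ
  by_cases ha : A₁ = B
  · right
    have hne : A₂ ≠ B := by
      intro hb
      rw [Cfsg.Agent.S1509.inner_smul_smul, ha, hb, irr_classInner_self hB,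
        Cfsg.Agent.S1509.conj_sign e₂ he₂] at h12
      have h3 := Cfsg.Agent.S1509.sign_ne_zero e₁ he₁
      have h4 := Cfsg.Agent.S1509.sign_ne_zero e₂ he₂
      exact mul_ne_zero (mul_ne_zero h3 h4) one_ne_zero h12
    rw [Cfsg.Agent.S1509.inner_smul_smul, irr_classInner_ne hA₂ hB hne]
    ring
  · left
    rw [Cfsg.Agent.S1509.inner_smul_smul, irr_classInner_ne hA₁ hB ha]
    ring

theorem sgn_eq {X : Type*} [Group X] [Fintype X] {α β : X → ℂ}
    (hα : IsIrrCharacter X α ∨ IsIrrCharacter X (-α))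
    (hβ : IsIrrCharacter X β ∨ IsIrrCharacter X (-β))
    (h : classInner α β = 1) : α = β := by
  obtain ⟨e, A, he, hA, rfl⟩ := Cfsg.Agent.S1509.signed α hα
  obtain ⟨e', B, he', hB, rfl⟩ := Cfsg.Agent.S1509.signed β hβ
  rw [Cfsg.Agent.S1509.inner_smul_smul, Cfsg.Agent.S1509.conj_sign e' he'] at h
  by_cases hab : A = B
  · subst hab
    rw [irr_classInner_self hA] at h
    rcases he with rfl | rfl <;> rcases he' with rfl | rfl
    · rfl
    · exfalso; norm_num at h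
    · exfalso; norm_num at h
    · rfl
  · rw [irr_classInner_ne hA hB hab] at h
    simp at h

/-- The abstract heart of the uniqueness argument. -/
theorem core_unique {X : Type*} [Group X] [Fintype X] {ι : Type*} (α α' : ι → X → ℂ)
    (hs : ∀ i, IsIrrCharacter X (α i) ∨ IsIrrCharacter X (-α i))
    (hs' : ∀ i, IsIrrCharacter X (α' i) ∨ IsIrrCharacter X (-α' i))
    (h0 : ∀ i j, i ≠ j → classInner (α i) (α j) = 0)
    (h1' : ∀ i, classInner (α' i) (α' i) = 1)
    (h0' : ∀ i j, i ≠ j → classInner (α' i) (α' j) = 0)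
    (o i₀ j₁ j₂ k₁ k₂ : ι)
    (hij₁ : i₀ ≠ j₁) (hij₂ : i₀ ≠ j₂) (hik₁ : i₀ ≠ k₁) (hik₂ : i₀ ≠ k₂)
    (hjj : j₁ ≠ j₂) (hjk12 : j₁ ≠ k₂) (hjk21 : j₂ ≠ k₁) (hkk : k₁ ≠ k₂)
    (ho : α o = α' o)
    (e₁ : α o - α i₀ - α j₁ + α k₁ = α' o - α' i₀ - α' j₁ + α' k₁)
    (e₂ : α o - α i₀ - α j₂ + α k₂ = α' o - α' i₀ - α' j₂ + α' k₂) :
    α i₀ = α' i₀ := by
  have hξs := hs' i₀
  have E₁ := congrArg (fun f => classInner f (α' i₀)) e₁
  have E₂ := congrArg (fun f => classInner f (α' i₀)) e₂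
  simp only [classInner_add_left, classInner_sub_left] at E₁ E₂
  rw [ho, h1' i₀, h0' j₁ i₀ hij₁.symm, h0' k₁ i₀ hik₁.symm] at E₁
  rw [ho, h1' i₀, h0' j₂ i₀ hij₂.symm, h0' k₂ i₀ hik₂.symm] at E₂
  by_cases ha : classInner (α i₀) (α' i₀) = 0
  · exfalso
    have hA1 : classInner (α j₁) (α' i₀) ≠ 0 ∨ classInner (α k₁) (α' i₀) ≠ 0 := by
      by_contra hh
      push Not at hh
      rw [ha, hh.1, hh.2] at E₁
      have : (1 : ℂ) = 0 := by linear_combination E₁
      exact one_ne_zero this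
    have hA2 : classInner (α j₂) (α' i₀) ≠ 0 ∨ classInner (α k₂) (α' i₀) ≠ 0 := by
      by_contra hh
      push Not at hh
      rw [ha, hh.1, hh.2] at E₂
      have : (1 : ℂ) = 0 := by linear_combination E₂
      exact one_ne_zero this
    rcases hA1 with p | p <;> rcases hA2 with q | q
    · rcases sgn_excl (hs j₁) (hs j₂) hξs (h0 _ _ hjj) with r | r
      · exact p r
      · exact q r
    · rcases sgn_excl (hs j₁) (hs k₂) hξs (h0 _ _ hjk12) with r | r
      · exact p r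
      · exact q r
    · rcases sgn_excl (hs k₁) (hs j₂) hξs (h0 _ _ hjk21.symm) with r | r
      · exact p r
      · exact q r
    · rcases sgn_excl (hs k₁) (hs k₂) hξs (h0 _ _ hkk) with r | r
      · exact p r
      · exact q r
  · have hb₁ : classInner (α j₁) (α' i₀) = 0 :=
      (sgn_excl (hs i₀) (hs j₁) hξs (h0 _ _ hij₁)).resolve_left ha
    have hc₁ : classInner (α k₁) (α' i₀) = 0 :=
      (sgn_excl (hs i₀) (hs k₁) hξs (h0 _ _ hik₁)).resolve_left ha
    rw [hb₁, hc₁] at E₁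
    have h1 : classInner (α i₀) (α' i₀) = 1 := by linear_combination -E₁
    exact sgn_eq (hs i₀) hξs h1

theorem exists_two_ne {α : Type*} [Finite α] (a₀ : α) (h : 3 ≤ Nat.card α) :
    ∃ a b : α, a ≠ b ∧ a ≠ a₀ ∧ b ≠ a₀ := by
  haveI := Fintype.ofFinite α
  rw [Nat.card_eq_fintype_card] at h
  obtain ⟨a, b, c, hab, hac, hbc⟩ := (Fintype.two_lt_card_iff (α := α)).mp (by omega)
  by_cases ha : a = a₀
  · exact ⟨b, c, hbc, fun hb => hab (ha.trans hb.symm), fun hc => hac (ha.trans hc.symm)⟩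
  · by_cases hb : b = a₀
    · exact ⟨a, c, hac, ha, fun hc => hbc (hb.trans hc.symm)⟩
    · exact ⟨a, b, hab, ha, hb⟩

theorem card_ge_three {G : Type*} [Group G] [Finite G] {H K : Subgroup G} (hle : H ≤ K)
    (hH : H ≠ ⊥) (hodd : Odd (Nat.card K)) : 3 ≤ Nat.card H := by
  have hdvd : Nat.card H ∣ Nat.card K := Subgroup.card_dvd_of_le hle
  have h1 : Nat.card H ≠ 1 := fun h1 => hH (Subgroup.card_eq_one.mp h1)
  have hpos : 0 < Nat.card H := Nat.card_pos
  obtain ⟨k, hk⟩ := hodd.of_dvd_nat hdvd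
  omega

end Cfsg.Agent.helper8.CycGal
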