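import Mathlib
import Cfsg.Agent.Lib_helper8_CycGal

set_option autoImplicit false

namespace Cfsg.Agent.helper8.CycGal

open scoped ComplexConjugate
open Cfsg Cfsg.Agent.helper24 Cfsg.Agent.helper5

/-- The family attached to a self-normalising cyclic subgroup of odd order is unique. -/
theorem family_unique {G : Type*} [Group G] [Fintype G] (W₁ W₂ : Subgroup G)
    (hW : IsSelfNormalizingCyclic W₁ W₂) (hodd : Odd (Nat.card ↥(W₁ ⊔ W₂)))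
    (χ χ' : (↥(W₁ ⊔ W₂) →* ℂˣ) → (G → ℂ)) (hχ : IsCyclicTIFamily W₁ W₂ χ)
    (hχ' : IsCyclicTIFamily W₁ W₂ χ') : χ = χ' := by
  classical
  obtain ⟨hW₁ne, hW₂ne, hinf, hcomm, hcyc, hN⟩ := hW
  obtain ⟨hfin, hbij, hk2, hk1, hmul⟩ := Cfsg.Agent.S1507.dual_W W₁ W₂ hcyc hinf
  have h0 : ∀ (χ : (↥(W₁ ⊔ W₂) →* ℂˣ) → (G → ℂ)), IsCyclicTIFamily W₁ W₂ χ →
      ∀ ω ω', ω ≠ ω' → classInner (χ ω) (χ ω') = 0 := by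
    intro χ hχ ω ω' h
    have := hχ.orthonormal ω ω'
    rwa [if_neg h] at this
  have h1 : ∀ (χ : (↥(W₁ ⊔ W₂) →* ℂˣ) → (G → ℂ)), IsCyclicTIFamily W₁ W₂ χ →
      ∀ ω, classInner (χ ω) (χ ω) = 1 := by
    intro χ hχ ω
    have := hχ.orthonormal ω ω
    rwa [if_pos rfl] at this
  have heq : ∀ φ ψ : ↥(W₁ ⊔ W₂) →* ℂˣ, φ ≠ 1 → ψ ≠ 1 →
      (∀ w : ↥(W₁ ⊔ W₂), (w : G) ∈ W₂ → φ w = 1) → (∀ w : ↥(W₁ ⊔ W₂), (w : G) ∈ W₁ → ψ w = 1) →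
      χ 1 - χ φ - χ ψ + χ (φ * ψ) = χ' 1 - χ' φ - χ' ψ + χ' (φ * ψ) := by
    intro φ ψ hφ1 hψ1 hφ2 hψ2
    have := (hχ.induced_eq φ ψ hφ1 hψ1 hφ2 hψ2).symm.trans (hχ'.induced_eq φ ψ hφ1 hψ1 hφ2 hψ2)
    funext g
    have hg := congrFun this g
    simp only [Pi.add_apply, Pi.sub_apply, hχ.map_one, hχ'.map_one]
    exact hg
  have ho : χ 1 = χ' 1 := by rw [hχ.map_one, hχ'.map_one]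
  -- Step A
  have stepA : ∀ φ : ↥(W₁ ⊔ W₂) →* ℂˣ, φ ≠ 1 →
      (∀ w : ↥(W₁ ⊔ W₂), (w : G) ∈ W₂ → φ w = 1) → χ φ = χ' φ := by
    intro φ hφ1 hφ2
    obtain ⟨ψ₁, ψ₂, hne, hψ₁1, hψ₂1⟩ := exists_two_ne
      (α := {ψ : ↥(W₁ ⊔ W₂) →* ℂˣ // ∀ w : ↥(W₁ ⊔ W₂), (w : G) ∈ W₁ → ψ w = 1})
      ⟨1, fun _ _ => rfl⟩ (by rw [hk1]; exact card_ge_three le_sup_right hW₂ne hodd)
    obtain ⟨ψ₁, hψ₁⟩ := ψ₁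
    obtain ⟨ψ₂, hψ₂⟩ := ψ₂
    have hne' : ψ₁ ≠ ψ₂ := fun h => hne (Subtype.ext h)
    have hψ₁1' : ψ₁ ≠ 1 := fun h => hψ₁1 (Subtype.ext h)
    have hψ₂1' : ψ₂ ≠ 1 := fun h => hψ₂1 (Subtype.ext h)
    have hφψ : ∀ ψ : ↥(W₁ ⊔ W₂) →* ℂˣ, (∀ w : ↥(W₁ ⊔ W₂), (w : G) ∈ W₁ → ψ w = 1) → φ ≠ ψ := by
      intro ψ hψ h
      apply hφ1
      exact Cfsg.Agent.helper8.hom_eq_one_of_sup φ (by rw [h]; exact hψ) hφ2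
    have hmulne : ∀ ψ : ↥(W₁ ⊔ W₂) →* ℂˣ, ψ ≠ 1 → φ ≠ φ * ψ := by
      intro ψ hψ h
      apply hψ
      have h2 : φ * ψ = φ * 1 := h.symm.trans (mul_one φ).symm
      exact mul_left_cancel h2
    have hcross : ∀ ψ ψ' : ↥(W₁ ⊔ W₂) →* ℂˣ, (∀ w : ↥(W₁ ⊔ W₂), (w : G) ∈ W₁ → ψ w = 1) →
        (∀ w : ↥(W₁ ⊔ W₂), (w : G) ∈ W₁ → ψ' w = 1) → ψ ≠ φ * ψ' := by
      intro ψ ψ' hψ hψ' h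
      apply hφ1
      have h2 : (1 : ↥(W₁ ⊔ W₂) →* ℂˣ) * ψ = φ * ψ' := (one_mul ψ).trans h
      exact ((Cfsg.Agent.helper8.hom_mul_eq_iff 1 φ ψ ψ' (fun _ _ => rfl) hφ2 hψ hψ').mp h2).1.symm
    exact core_unique χ χ' hχ.irr_or_neg hχ'.irr_or_neg (h0 χ hχ) (h1 χ' hχ') (h0 χ' hχ')
      1 φ ψ₁ ψ₂ (φ * ψ₁) (φ * ψ₂)
      (hφψ ψ₁ hψ₁) (hφψ ψ₂ hψ₂) (hmulne ψ₁ hψ₁1') (hmulne ψ₂ hψ₂1')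
      hne' (hcross ψ₁ ψ₂ hψ₁ hψ₂) (hcross ψ₂ ψ₁ hψ₂ hψ₁)
      (fun h => hne' (mul_left_cancel h)) ho
      (heq φ ψ₁ hφ1 hψ₁1' hφ2 hψ₁) (heq φ ψ₂ hφ1 hψ₂1' hφ2 hψ₂)
  -- Step B
  have stepB : ∀ ψ : ↥(W₁ ⊔ W₂) →* ℂˣ, ψ ≠ 1 →
      (∀ w : ↥(W₁ ⊔ W₂), (w : G) ∈ W₁ → ψ w = 1) → χ ψ = χ' ψ := by
    intro ψ hψ1 hψ2
    obtain ⟨φ₁, φ₂, hne, hφ₁1, hφ₂1⟩ := exists_two_ne
      (α := {φ : ↥(W₁ ⊔ W₂) →* ℂˣ // ∀ w : ↥(W₁ ⊔ W₂), (w : G) ∈ W₂ → φ w = 1})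
      ⟨1, fun _ _ => rfl⟩ (by rw [hk2]; exact card_ge_three le_sup_left hW₁ne hodd)
    obtain ⟨φ₁, hφ₁⟩ := φ₁
    obtain ⟨φ₂, hφ₂⟩ := φ₂
    have hne' : φ₁ ≠ φ₂ := fun h => hne (Subtype.ext h)
    have hφ₁1' : φ₁ ≠ 1 := fun h => hφ₁1 (Subtype.ext h)
    have hφ₂1' : φ₂ ≠ 1 := fun h => hφ₂1 (Subtype.ext h)
    have hψφ : ∀ φ : ↥(W₁ ⊔ W₂) →* ℂˣ, (∀ w : ↥(W₁ ⊔ W₂), (w : G) ∈ W₂ → φ w = 1) → ψ ≠ φ := by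
      intro φ hφ h
      apply hψ1
      exact Cfsg.Agent.helper8.hom_eq_one_of_sup ψ hψ2 (by rw [h]; exact hφ)
    have hmulne : ∀ φ : ↥(W₁ ⊔ W₂) →* ℂˣ, φ ≠ 1 → ψ ≠ φ * ψ := by
      intro φ hφ h
      apply hφ
      have h2 : φ * ψ = 1 * ψ := h.symm.trans (one_mul ψ).symm
      exact mul_right_cancel h2
    have hcross : ∀ φ φ' : ↥(W₁ ⊔ W₂) →* ℂˣ, (∀ w : ↥(W₁ ⊔ W₂), (w : G) ∈ W₂ → φ w = 1) →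
        (∀ w : ↥(W₁ ⊔ W₂), (w : G) ∈ W₂ → φ' w = 1) → φ ≠ φ' * ψ := by
      intro φ φ' hφ hφ' h
      apply hψ1
      have h2 : φ * (1 : ↥(W₁ ⊔ W₂) →* ℂˣ) = φ' * ψ := (mul_one φ).trans h
      exact ((Cfsg.Agent.helper8.hom_mul_eq_iff φ φ' 1 ψ hφ hφ' (fun _ _ => rfl) hψ2).mp h2).2.symm
    have e : ∀ φ : ↥(W₁ ⊔ W₂) →* ℂˣ, φ ≠ 1 → (∀ w : ↥(W₁ ⊔ W₂), (w : G) ∈ W₂ → φ w = 1) →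
        χ 1 - χ ψ - χ φ + χ (φ * ψ) = χ' 1 - χ' ψ - χ' φ + χ' (φ * ψ) := by
      intro φ hφ1 hφ2
      have := heq φ ψ hφ1 hψ1 hφ2 hψ2
      rw [sub_right_comm (χ 1), sub_right_comm (χ' 1)]
      exact this
    exact core_unique χ χ' hχ.irr_or_neg hχ'.irr_or_neg (h0 χ hχ) (h1 χ' hχ') (h0 χ' hχ')
      1 ψ φ₁ φ₂ (φ₁ * ψ) (φ₂ * ψ)
      (hψφ φ₁ hφ₁) (hψφ φ₂ hφ₂) (hmulne φ₁ hφ₁1') (hmulne φ₂ hφ₂1')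
      hne' (hcross φ₁ φ₂ hφ₁ hφ₂) (hcross φ₂ φ₁ hφ₂ hφ₁)
      (fun h => hne' (mul_right_cancel h)) ho
      (e φ₁ hφ₁1' hφ₁) (e φ₂ hφ₂1' hφ₂)
  funext ω
  obtain ⟨p, hp⟩ := hbij.2 ω
  obtain ⟨⟨φ, hφ⟩, ⟨ψ, hψ⟩⟩ := p
  have hω : φ * ψ = ω := hp
  rw [← hω]
  by_cases hφ1 : φ = 1
  · by_cases hψ1 : ψ = 1
    · have e : φ * ψ = 1 := by rw [hφ1, hψ1]; exact mul_one (1 : ↥(W₁ ⊔ W₂) →* ℂˣ)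
      rw [e]
      exact ho
    · have e : φ * ψ = ψ := by rw [hφ1]; exact one_mul ψ
      rw [e]
      exact stepB ψ hψ1 hψ
  · by_cases hψ1 : ψ = 1
    · have e : φ * ψ = φ := by rw [hψ1]; exact mul_one φ
      rw [e]
      exact stepA φ hφ1 hφ
    · have := heq φ ψ hφ1 hψ1 hφ hψ
      rw [ho, stepA φ hφ1 hφ, stepB ψ hψ1 hψ] at this
      exact add_left_cancel this

end Cfsg.Agent.helper8.CycGal
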