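import Mathlib
import Cfsg.Agent.Lib_helper8_CycGal2

set_option autoImplicit false

namespace Cfsg.Agent.helper8.CycGal

open scoped ComplexConjugate
open Cfsg Cfsg.Agent.helper24 Cfsg.Agent.helper5 Cfsg.Agent.helper1

theorem pow_pow_self {G : Type*} [Group G] [Finite G] {t t' : ℕ}
    (h : t * t' ≡ 1 [MOD Nat.card G]) (g : G) : (g ^ t') ^ t = g := by
  rw [← pow_mul, mul_comm]
  have h2 : t * t' ≡ 1 [MOD orderOf g] := Nat.ModEq.of_dvd (orderOf_dvd_natCard g) h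
  have := pow_eq_pow_iff_modEq.mpr h2
  rw [this, pow_one]

theorem classInner_comp_bij {G : Type*} [Group G] [Fintype G] (e : G → G)
    (he : Function.Bijective e) (f g : G → ℂ) :
    classInner (fun x => f (e x)) (fun x => g (e x)) = classInner f g := by
  unfold classInner
  congr 1
  exact he.sum_comp (fun x => f x * conj (g x))

theorem inv_conj_pow {G : Type*} [Group G] (x g : G) (n : ℕ) :
    x⁻¹ * g ^ n * x = (x⁻¹ * g * x) ^ n := by
  have := conj_pow (i := n) (a := x⁻¹) (b := g)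
  rw [inv_inv] at this
  exact this.symm

/-- Twisting the family by a Galois exponent gives a family again. -/
theorem twist_family {G : Type*} [Group G] [Fintype G] (W₁ W₂ : Subgroup G)
    (χ : (↥(W₁ ⊔ W₂) →* ℂˣ) → (G → ℂ)) (hχ : IsCyclicTIFamily W₁ W₂ χ) (t t' : ℕ)
    (h : t * t' ≡ 1 [MOD Nat.card G]) :
    IsCyclicTIFamily W₁ W₂ (fun ω g => χ (ω ^ t) (g ^ t')) := by
  classical
  have h' : t' * t ≡ 1 [MOD Nat.card G] := by rw [mul_comm]; exact h
  have ht' : t'.Coprime (Nat.card G) := Nat.coprime_of_mul_modEq_one t h'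
  have hG : ∀ g : G, (g ^ t') ^ t = g := pow_pow_self h
  have hG' : ∀ g : G, (g ^ t) ^ t' = g := pow_pow_self h'
  have hWp : ∀ w : ↥(W₁ ⊔ W₂), (w ^ t') ^ t = w := fun w => Subtype.ext (by
    rw [Subgroup.coe_pow, Subgroup.coe_pow]; exact hG w)
  have hval : ∀ (ω : ↥(W₁ ⊔ W₂) →* ℂˣ) (w : ↥(W₁ ⊔ W₂)), (ω ^ t) (w ^ t') = ω w := by
    intro ω w
    rw [MonoidHom.pow_apply, ← map_pow, hWp]
  have hωp : ∀ ω : ↥(W₁ ⊔ W₂) →* ℂˣ, (ω ^ t) ^ t' = ω := by
    intro ω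
    apply MonoidHom.ext
    intro w
    rw [MonoidHom.pow_apply, MonoidHom.pow_apply, ← map_pow, ← map_pow]
    congr 1
    exact Subtype.ext (by rw [Subgroup.coe_pow, Subgroup.coe_pow]; exact hG' w)
  have h1t : ∀ n : ℕ, (1 : ↥(W₁ ⊔ W₂) →* ℂˣ) ^ n = 1 := fun n => by
    apply MonoidHom.ext
    intro w
    rw [MonoidHom.pow_apply, MonoidHom.one_apply, one_pow]
  have hbij : Function.Bijective (fun g : G => g ^ t') :=
    Finite.injective_iff_bijective.mp (Function.LeftInverse.injective (g := fun g => g ^ t) hG)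
  have hmem : ∀ (H : Subgroup G) (y : G), y ^ t' ∈ H → y ∈ H := by
    intro H y hy
    rw [← hG y]
    exact H.pow_mem hy t
  refine ⟨?_, ?_, ?_, ?_, ?_⟩
  · intro ω
    rcases hχ.irr_or_neg (ω ^ t) with hh | hh
    · left
      exact isIrrCharacter_powMap t' ht' hh
    · right
      exact isIrrCharacter_powMap t' ht' hh
  · intro ω ω'
    show classInner (fun g => χ (ω ^ t) (g ^ t')) (fun g => χ (ω' ^ t) (g ^ t')) = _
    rw [classInner_comp_bij (fun g : G => g ^ t') hbij (χ (ω ^ t)) (χ (ω' ^ t)), hχ.orthonormal]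
    by_cases hω : ω = ω'
    · subst hω
      rw [if_pos rfl, if_pos rfl]
    · rw [if_neg hω, if_neg]
      intro hh
      apply hω
      rw [← hωp ω, ← hωp ω', hh]
  · funext g
    show χ (1 ^ t) (g ^ t') = 1
    rw [h1t, hχ.map_one]
  · intro ω w hw₁ hw₂
    show χ (ω ^ t) ((w : G) ^ t') = (ω w : ℂ)
    have hcoe : (w : G) ^ t' = ((w ^ t' : ↥(W₁ ⊔ W₂)) : G) := (Subgroup.coe_pow _ _ _).symm
    rw [hcoe, hχ.eq_on (ω ^ t) (w ^ t') ?_ ?_, hval]
    · intro hh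
      apply hw₁
      rw [Subgroup.coe_pow] at hh
      exact hmem W₁ _ hh
    · intro hh
      apply hw₂
      rw [Subgroup.coe_pow] at hh
      exact hmem W₂ _ hh
  · intro φ ψ hφ1 hψ1 hφ2 hψ2
    have hφt : φ ^ t ≠ 1 := by
      intro hh
      apply hφ1
      rw [← hωp φ, hh, h1t]
    have hψt : ψ ^ t ≠ 1 := by
      intro hh
      apply hψ1
      rw [← hωp ψ, hh, h1t]
    have key := hχ.induced_eq (φ ^ t) (ψ ^ t) hφt hψt
      (fun w hw => by rw [MonoidHom.pow_apply, hφ2 w hw, one_pow])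
      (fun w hw => by rw [MonoidHom.pow_apply, hψ2 w hw, one_pow])
    funext g
    have hg := congrFun key (g ^ t')
    have e : (φ * ψ) ^ t = φ ^ t * ψ ^ t := mul_pow φ ψ t
    rw [e, ← hg]
    unfold indFun
    congr 1
    apply Finset.sum_congr rfl
    intro x _
    rw [inv_conj_pow]
    by_cases hy : x⁻¹ * g * x ∈ W₁ ⊔ W₂
    · rw [extendByZero_of_mem _ _ _ hy, extendByZero_of_mem _ _ _ ((W₁ ⊔ W₂).pow_mem hy t')]
      have e2 : (⟨(x⁻¹ * g * x) ^ t', (W₁ ⊔ W₂).pow_mem hy t'⟩ : ↥(W₁ ⊔ W₂))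
          = (⟨x⁻¹ * g * x, hy⟩ : ↥(W₁ ⊔ W₂)) ^ t' := Subtype.ext (by rw [Subgroup.coe_pow])
      beta_reduce
      rw [e2, hval φ, hval ψ]
    · rw [extendByZero_of_not_mem _ _ _ hy,
        extendByZero_of_not_mem _ _ _ (fun hh => hy (hmem _ _ hh))]

theorem galois_eq {G : Type*} [Group G] [Fintype G] (W₁ W₂ : Subgroup G)
    (hW : IsSelfNormalizingCyclic W₁ W₂) (hodd : Odd (Nat.card ↥(W₁ ⊔ W₂)))
    (χ : (↥(W₁ ⊔ W₂) →* ℂˣ) → (G → ℂ)) (hχ : IsCyclicTIFamily W₁ W₂ χ) (t t' : ℕ)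
    (h : t * t' ≡ 1 [MOD Nat.card G]) (ω : ↥(W₁ ⊔ W₂) →* ℂˣ) (g : G) :
    χ (ω ^ t) (g ^ t') = χ ω g :=
  congrFun (congrFun (family_unique W₁ W₂ hW hodd _ χ (twist_family W₁ W₂ χ hχ t t' h) hχ) ω) g

/-! ### rationality -/

theorem rat_of_fixed (N : ℕ) (hN : N ≠ 0) (x : cycField N)
    (hfix : ∀ σ : cycField N →ₐ[ℚ] ℂ, σ x = (x : ℂ)) : ∃ q : ℚ, (x : ℂ) = (q : ℂ) := by
  classical
  haveI := cycField_finiteDimensional N hN
  have htr := trace_eq_sum_embeddings (K := ℚ) (L := cycField N) ℂ (x := x)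
  rw [Finset.sum_congr rfl (fun σ _ => hfix σ), Finset.sum_const, Finset.card_univ,
    AlgHom.card, nsmul_eq_mul] at htr
  have hd : (Module.finrank ℚ (cycField N) : ℂ) ≠ 0 := by
    have : 0 < Module.finrank ℚ (cycField N) := Module.finrank_pos
    exact_mod_cast this.ne'
  refine ⟨Algebra.trace ℚ (cycField N) x / (Module.finrank ℚ (cycField N) : ℚ), ?_⟩
  have h2 : (algebraMap ℚ ℂ) (Algebra.trace ℚ (cycField N) x)
      = ((Algebra.trace ℚ (cycField N) x : ℚ) : ℂ) := rfl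
  rw [h2] at htr
  push_cast
  rw [eq_div_iff hd, mul_comm, htr]

theorem int_of_fixed {G : Type*} [Group G] [Finite G] {V : Type*} [AddCommGroup V] [Module ℂ V]
    [FiniteDimensional ℂ V] (ρ : Representation ℂ G V) (g : G)
    (h : ∀ s : ℕ, s.Coprime (Nat.card G) → ρ.character (g ^ s) = ρ.character g) :
    ∃ n : ℤ, ρ.character g = n := by
  obtain ⟨q, hq⟩ := rat_of_fixed (Nat.card G) card_ne_zero'
    ⟨ρ.character g, char_mem_cycField ρ g⟩
    (fun σ => by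
      rw [galois_char σ ρ g ⟨ρ.character g, char_mem_cycField ρ g⟩ rfl]
      exact h _ (galExp_coprime _ _ σ))
  exact int_of_rat_integral _ (isIntegral_char ρ g) q hq

/-! ### arithmetic of exponents -/

theorem exists_lift_coprime {d N : ℕ} (hN : N ≠ 0) (hd : d ∣ N) (k : ℕ) (hk : k.Coprime d) :
    ∃ u : ℕ, u ≡ k [MOD d] ∧ u.Coprime N := by
  haveI : NeZero N := ⟨hN⟩
  obtain ⟨v, hv⟩ := ZMod.unitsMap_surjective hd (ZMod.unitOfCoprime k hk)
  refine ⟨(v : ZMod N).val, ?_, ZMod.val_coe_unit_coprime v⟩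
  have h1 := congrArg Units.val hv
  rw [ZMod.unitsMap_val, ZMod.coe_unitOfCoprime] at h1
  rw [← ZMod.natCast_eq_natCast_iff, ZMod.natCast_val]
  exact h1

theorem exists_exponents {N a b : ℕ} (hN : N ≠ 0) (ha : a ∣ N) (hb : b ∣ N) (hab : a.Coprime b)
    (s : ℕ) (hs : s.Coprime N) :
    ∃ u u' : ℕ, u' * u ≡ 1 [MOD N] ∧ u ≡ s [MOD a] ∧ u' ≡ 1 [MOD b] := by
  obtain ⟨k, hk1, hk2⟩ := Nat.chineseRemainder hab s 1
  have hka : k.Coprime a := by
    have := hk1.gcd_eq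
    unfold Nat.Coprime
    rw [this]
    exact Nat.Coprime.coprime_dvd_right ha hs
  have hkb : k.Coprime b := by
    have := hk2.gcd_eq
    unfold Nat.Coprime
    rw [this]
    exact Nat.gcd_one_left b
  have hkab : k.Coprime (a * b) := Nat.Coprime.mul_right hka hkb
  obtain ⟨u, hu1, hu2⟩ := exists_lift_coprime hN (hab.mul_dvd_of_dvd_of_dvd ha hb) k hkab
  have hua : u ≡ s [MOD a] := (Nat.ModEq.of_mul_right b hu1).trans hk1
  have hub : u ≡ 1 [MOD b] := (Nat.ModEq.of_mul_left a hu1).trans hk2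
  obtain ⟨u', hu'⟩ : ∃ u', u' * u ≡ 1 [MOD N] := by
    rcases Nat.lt_or_ge 1 N with h1 | h1
    · obtain ⟨m, -, hm⟩ := Nat.exists_mul_mod_eq_one_of_coprime hu2 h1
      refine ⟨m, ?_⟩
      unfold Nat.ModEq
      rw [mul_comm, hm, Nat.mod_eq_of_lt h1]
    · have : N = 1 := by omega
      subst this
      exact ⟨1, Nat.modEq_one⟩
  refine ⟨u, u', hu', hua, ?_⟩
  have h3 : u' * u ≡ 1 [MOD b] := Nat.ModEq.of_dvd hb hu'
  have h4 : u' * u ≡ u' * 1 [MOD b] := Nat.ModEq.mul_left u' hub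
  rw [mul_one] at h4
  exact h4.symm.trans h3

end Cfsg.Agent.helper8.CycGal
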