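import Mathlib
import Cfsg.Agent.Lib_helper22_Glaub2
import Cfsg.Agent.Lib_helper1_ProdChar
import Cfsg.Agent.Lib_helper8_CycGal3
import Cfsg.Agent.Lib_helper12_CharOps
import Cfsg.Agent.Lib_helper24_CharCount
import Cfsg.Agent.S0868

set_option autoImplicit false
set_option linter.unusedSectionVars false
set_option linter.unusedVariables false

/-!
Glauberman correspondence, part 3 (helper22): the cyclic case (Isaacs 13.6), existence part.
-/

namespace Cfsg.Agent.helper22

open Cfsg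
open scoped ComplexConjugate

universe u

section Xi
variable {Γ : Type u} [Group Γ] [Fintype Γ] (G : Subgroup Γ) [hG : G.Normal] [Fintype G] (s : Γ)
  [Fintype (fixC G s)] [Fintype (Subgroup.zpowers s)]

theorem fixC_comm_zpowers (c : fixC G s) (z : Subgroup.zpowers s) :
    (c : Γ) * (z : Γ) = (z : Γ) * (c : Γ) := by
  obtain ⟨i, hi⟩ := Subgroup.mem_zpowers_iff.mp z.2
  rw [← hi]
  have h1 : Commute (c : Γ) s := ((mem_fixC G s).mp c.2).2
  exact (h1.zpow_right i)

/-- the multiplication map `C × ⟨s⟩ → Γ` -/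
def mulCZ : fixC G s × Subgroup.zpowers s →* Γ :=
  MonoidHom.noncommCoprod (fixC G s).subtype (Subgroup.zpowers s).subtype
    (fun c z => fixC_comm_zpowers G s c z)

theorem mulCZ_apply (p : fixC G s × Subgroup.zpowers s) :
    mulCZ G s p = (p.1 : Γ) * (p.2 : Γ) := rfl

/-- the multiplicity function `z ↦ [F(· z)|_C, β]` on `⟨s⟩` -/
noncomputable def xi (β : fixC G s → ℂ) (F : Γ → ℂ) : Subgroup.zpowers s → ℂ :=
  fun z => (Nat.card (fixC G s) : ℂ)⁻¹ * ∑ c : fixC G s, F ((c : Γ) * (z : Γ)) * conj (β c)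

theorem xi_isCharacter {β : fixC G s → ℂ} (hβ : IsCharacter (fixC G s) β) {F : Γ → ℂ}
    (hF : IsCharacter Γ F) : IsCharacter (Subgroup.zpowers s) (xi G s β F) := by
  classical
  have hΘ : IsCharacter (fixC G s × Subgroup.zpowers s) (fun p => F (mulCZ G s p)) :=
    helper8.isCharacter_comp_monoidHom (mulCZ G s) hF
  apply helper12.isCharacter_of_classInner_nat
  · intro z z'
    congr 1
    apply Subtype.ext
    obtain ⟨i, hi⟩ := Subgroup.mem_zpowers_iff.mp z.2
    obtain ⟨j, hj⟩ := Subgroup.mem_zpowers_iff.mp z'.2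
    show (z' : Γ) * (z : Γ) * (z' : Γ)⁻¹ = (z : Γ)
    rw [← hi, ← hj, ← zpow_add, ← zpow_neg, ← zpow_add]
    congr 1
    ring
  · intro lam
    obtain ⟨n, hn⟩ := helper12.classInner_char_nat hΘ
      (helper1.isCharacter_extProd hβ (helper24.irr_isCharacter lam.2))
    refine ⟨n, ?_⟩
    rw [← hn]
    unfold classInner xi helper1.extProd
    rw [Fintype.sum_prod_type, Finset.sum_comm, Nat.card_prod]
    simp only [Finset.mul_sum, Finset.sum_mul]
    apply Finset.sum_congr rfl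
    intro z _
    apply Finset.sum_congr rfl
    intro c _
    rw [mulCZ_apply, map_mul]
    push_cast
    rw [mul_inv]
    ring

theorem xi_at_s (β : fixC G s → ℂ) (F : Γ → ℂ) :
    xi G s β F ⟨s, Subgroup.mem_zpowers s⟩ = classInner (fun c : fixC G s => F ((c : Γ) * s)) β :=
  rfl

theorem xi_at_one (β : fixC G s → ℂ) (F : Γ → ℂ) :
    xi G s β F 1 = classInner (fun c : fixC G s => F (c : Γ)) β := by
  unfold xi classInner
  congr 1
  apply Finset.sum_congr rfl
  intro c _
  rw [Subgroup.coe_one, mul_one]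

end Xi

theorem char_eq_zero_of_apply_one {Z : Type*} [Group Z] {ξ : Z → ℂ} (hξ : IsCharacter Z ξ)
    (h1 : ξ 1 = 0) : ξ = 0 := by
  obtain ⟨n, ρ, rfl⟩ := hξ
  rw [Representation.char_one, Module.finrank_fin_fun] at h1
  have hn : n = 0 := by exact_mod_cast h1
  subst hn
  funext z
  show LinearMap.trace ℂ _ (ρ z) = 0
  have : ρ z = 0 := Subsingleton.elim _ _
  rw [this, map_zero]

theorem exists_unique_of_sum_sq_eq_one {ι : Type*} [Fintype ι] (b : ι → ℤ)
    (h : ∑ i, b i ^ 2 = 1) :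
    ∃ i₀, (b i₀ = 1 ∨ b i₀ = -1) ∧ ∀ j, j ≠ i₀ → b j = 0 := by
  classical
  have hex : ∃ i₀, b i₀ ≠ 0 := by
    by_contra hno
    push Not at hno
    rw [Finset.sum_congr rfl (fun i _ => by rw [hno i])] at h
    simp at h
  obtain ⟨i₀, hi₀⟩ := hex
  have hsplit : ∑ i, b i ^ 2 = b i₀ ^ 2 + ∑ i ∈ Finset.univ.erase i₀, b i ^ 2 := by
    rw [← Finset.add_sum_erase _ _ (Finset.mem_univ i₀)]
  have hnn : 0 ≤ ∑ i ∈ Finset.univ.erase i₀, b i ^ 2 :=
    Finset.sum_nonneg (fun i _ => sq_nonneg _)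
  have h1 : 1 ≤ b i₀ ^ 2 := by
    have : 0 < b i₀ ^ 2 := by positivity
    omega
  have h2 : b i₀ ^ 2 = 1 := by omega
  have h3 : ∑ i ∈ Finset.univ.erase i₀, b i ^ 2 = 0 := by omega
  refine ⟨i₀, ?_, ?_⟩
  · have : (b i₀ - 1) * (b i₀ + 1) = 0 := by ring_nf; omega
    rcases mul_eq_zero.mp this with h4 | h4
    · left; omega
    · right; omega
  · intro j hj
    have h4 := (Finset.sum_eq_zero_iff_of_nonneg (fun i _ => sq_nonneg (b i))).mp h3 j
      (Finset.mem_erase.mpr ⟨hj, Finset.mem_univ j⟩)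
    exact pow_eq_zero_iff (two_ne_zero) |>.mp h4

section Main
variable {Γ : Type u} [Group Γ] [Fintype Γ] (G : Subgroup Γ) [hG : G.Normal] [Fintype G] (s : Γ)
  [Fintype (fixC G s)]

theorem tilde_isClassFunction {F : Γ → ℂ} (hF : IsClassFunction Γ F) :
    IsClassFunction (fixC G s) (fun c => F ((c : Γ) * s)) := by
  intro c z
  show F (((z * c * z⁻¹ : fixC G s) : Γ) * s) = F ((c : Γ) * s)
  have hz : (z : Γ) * s = s * (z : Γ) := ((mem_fixC G s).mp z.2).2
  have h1 : ((z * c * z⁻¹ : fixC G s) : Γ) * s = (z : Γ) * ((c : Γ) * s) * (z : Γ)⁻¹ := by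
    rw [Subgroup.coe_mul, Subgroup.coe_mul, Subgroup.coe_inv]
    have : (z : Γ)⁻¹ * s = s * (z : Γ)⁻¹ := by
      rw [eq_mul_inv_iff_mul_eq, mul_assoc, ← hz, ← mul_assoc, inv_mul_cancel, one_mul]
    rw [mul_assoc _ (z : Γ)⁻¹ s, this]
    group
  rw [h1]
  exact hF _ _

/-- coset orthogonality on `C s` (from Isaacs 8.14) -/
theorem coset_orth (hcop : (Nat.card G).Coprime (orderOf s))
    (htop : G ⊔ Subgroup.zpowers s = ⊤) {χh ψh : Γ → ℂ} (hχh : IsIrrCharacter Γ χh)
    (hχG : IsIrrCharacter G (fun g : G => χh g)) (hψh : IsIrrCharacter Γ ψh) :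
    (ψh = χh → ∑ c : fixC G s, ψh ((c : Γ) * s) * conj (χh ((c : Γ) * s)) =
      (Nat.card (fixC G s) : ℂ)) ∧
    (classInner (fun g : G => ψh g) (fun g : G => χh g) = 0 →
      ∑ c : fixC G s, ψh ((c : Γ) * s) * conj (χh ((c : Γ) * s)) = 0) := by
  classical
  have hG0 : (Nat.card G : ℂ) ≠ 0 := by exact_mod_cast (Nat.card_pos (α := G)).ne'
  have hcfχ := helper24.char_isClassFunction (helper24.irr_isCharacter hχh)
  have hcfψ := helper24.char_isClassFunction (helper24.irr_isCharacter hψh)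
  have hcount := coset_sum G s hcop htop (fun x => ψh x * conj (χh x)) (fun y _ x => by
    show ψh (y * x * y⁻¹) * conj (χh (y * x * y⁻¹)) = ψh x * conj (χh x)
    rw [hcfχ x y, hcfψ x y])
  obtain ⟨h1, h2, h3⟩ := Cfsg.Agent.S0868.result G χh hχh hχG ψh hψh _ rfl
  refine ⟨fun heq => ?_, fun h0 => ?_⟩
  · have h4 : (Nat.card G : ℂ)⁻¹ * ∑ n : G, ψh ((n : Γ) * s) * conj (χh ((n : Γ) * s)) = 1 :=
      congrFun (h3 heq) s
    have h5 : ∑ n : G, ψh ((n : Γ) * s) * conj (χh ((n : Γ) * s)) = (Nat.card G : ℂ) := by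
      rw [← mul_one (Nat.card G : ℂ), ← h4, ← mul_assoc, mul_inv_cancel₀ hG0, one_mul]
    rw [h5] at hcount
    have h6 : (Nat.card G : ℂ) * ∑ c : fixC G s, ψh ((c : Γ) * s) * conj (χh ((c : Γ) * s)) =
        (Nat.card G : ℂ) * (Nat.card (fixC G s) : ℂ) := by rw [← hcount, mul_comm]
    exact mul_left_cancel₀ hG0 h6
  · have h4 : (Nat.card G : ℂ)⁻¹ * ∑ n : G, ψh ((n : Γ) * s) * conj (χh ((n : Γ) * s)) = 0 :=
      congrFun (h2 h0) s
    have h5 : ∑ n : G, ψh ((n : Γ) * s) * conj (χh ((n : Γ) * s)) = 0 := by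
      rcases mul_eq_zero.mp h4 with h | h
      · exact absurd (inv_eq_zero.mp h) hG0
      · exact h
    rw [h5, mul_zero] at hcount
    rcases mul_eq_zero.mp hcount.symm with h | h
    · exact absurd h hG0
    · exact h

/-- **Glauberman correspondence, cyclic case: existence.** -/
theorem cyclic_exists (hcop : (Nat.card G).Coprime (orderOf s))
    (htop : G ⊔ Subgroup.zpowers s = ⊤) {χ : G → ℂ} (hχ : IsIrrCharacter G χ) {χh : Γ → ℂ}
    (hχh : IsIrrCharacter Γ χh) (hext : ∀ g : G, χh g = χ g)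
    (hdet : (detOrder χh).Coprime (orderOf s)) :
    ∃ (β : IrrCharacter (fixC G s)) (ε : ℤ), (ε = 1 ∨ ε = -1) ∧
      (∀ c : fixC G s, χh ((c : Γ) * s) = (ε : ℂ) * (β : fixC G s → ℂ) c) ∧
      classInner (fun c : fixC G s => χh (c : Γ)) (β : fixC G s → ℂ) ≠ 0 := by
  classical
  haveI : Fintype (IrrCharacter (fixC G s)) := Fintype.ofFinite _
  haveI : Fintype (Subgroup.zpowers s) := Fintype.ofFinite _
  have hχhc : IsCharacter Γ χh := helper24.irr_isCharacter hχh
  have hcf : IsClassFunction Γ χh := helper24.char_isClassFunction hχhc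
  have hχG : IsIrrCharacter G (fun g : G => χh g) := by
    have : (fun g : G => χh g) = χ := funext hext
    rw [this]; exact hχ
  -- integrality of the coefficients
  have hb : ∀ β : IrrCharacter (fixC G s), ∃ b : ℤ,
      classInner (fun c : fixC G s => χh ((c : Γ) * s)) (β : fixC G s → ℂ) = b := by
    intro β
    have hξ := xi_isCharacter G s (helper24.irr_isCharacter β.2) hχhc
    obtain ⟨n, ρ, hρ⟩ := hξ
    have h1 := helper8.CycGal.int_of_fixed ρ ⟨s, Subgroup.mem_zpowers s⟩ (fun t ht => by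
      rw [hρ]
      unfold xi
      congr 1
      apply Finset.sum_congr rfl
      intro c _
      congr 1
      rw [Nat.card_zpowers] at ht
      show χh ((c : Γ) * s ^ t) = χh ((c : Γ) * s)
      exact canonical_pow_invariant G s hcop htop hχ hχh hext hdet c.2 t ht)
    obtain ⟨b, hb⟩ := h1
    refine ⟨b, ?_⟩
    rw [← hb, hρ, xi_at_s]
  choose b hb using hb
  have hclass := tilde_isClassFunction G s hcf
  have hexp := helper24.classFunction_expansion hclass
  -- norm one
  have hC0 : (Nat.card (fixC G s) : ℂ) ≠ 0 := by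
    exact_mod_cast (Nat.card_pos (α := fixC G s)).ne'
  have hnorm : classInner (fun c : fixC G s => χh ((c : Γ) * s))
      (fun c : fixC G s => χh ((c : Γ) * s)) = 1 := by
    unfold classInner
    rw [(coset_orth G s hcop htop hχh hχG hχh).1 rfl, inv_mul_cancel₀ hC0]
  have hsq : ∑ β : IrrCharacter (fixC G s), b β ^ 2 = 1 := by
    have h1 : classInner (fun c : fixC G s => χh ((c : Γ) * s))
        (fun c : fixC G s => χh ((c : Γ) * s)) =
        ∑ β : IrrCharacter (fixC G s), ((b β : ℤ) : ℂ) * ((b β : ℤ) : ℂ) := by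
      conv_lhs => arg 1; rw [hexp]
      rw [helper24.classInner_sum_left]
      apply Finset.sum_congr rfl
      intro β _
      rw [helper24.classInner_smul_left, hb β, ← helper24.classInner_conj_symm, hb β,
        map_intCast]
    rw [hnorm] at h1
    have h2 : ((1 : ℤ) : ℂ) = ((∑ β : IrrCharacter (fixC G s), b β ^ 2 : ℤ) : ℂ) := by
      push_cast
      rw [h1]
      apply Finset.sum_congr rfl
      intro β _
      ring
    exact_mod_cast h2.symm
  obtain ⟨β₀, hβ₀, hothers⟩ := exists_unique_of_sum_sq_eq_one b hsq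
  have hval : ∀ c : fixC G s, χh ((c : Γ) * s) = ((b β₀ : ℤ) : ℂ) * (β₀ : fixC G s → ℂ) c := by
    intro c
    have h1 := congrFun hexp c
    rw [Finset.sum_apply, Finset.sum_eq_single β₀] at h1
    · rw [h1, Pi.smul_apply, smul_eq_mul, hb β₀]
    · intro β _ hne
      rw [Pi.smul_apply, hb β, hothers β hne, Int.cast_zero, zero_smul]
    · intro h; exact absurd (Finset.mem_univ _) h
  refine ⟨β₀, b β₀, hβ₀, hval, ?_⟩
  -- constituent
  rw [← xi_at_one G s]
  intro h0
  have hξ := xi_isCharacter G s (helper24.irr_isCharacter β₀.2) hχhc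
  have hz := char_eq_zero_of_apply_one hξ h0
  have h1 := congrFun hz ⟨s, Subgroup.mem_zpowers s⟩
  rw [xi_at_s, hb β₀, Pi.zero_apply] at h1
  have h2 : b β₀ = 0 := by exact_mod_cast h1
  rcases hβ₀ with h | h <;> omega

end Main

end Cfsg.Agent.helper22
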