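import Mathlib

set_option autoImplicit false

/-!
Abstract orbit counting (shared library, helper24; imports Mathlib only).

* `card_quot_eq_of_surjective` : a surjection compatible with two relations induces a bijection of
  the quotients;
* `fixed_of_smul_eq` : if `K` of odd index acts trivially, `σ` is an involution commuting with the
  action and `g • x = σ x`, then `σ x = x`;
* `card_mul_card_quot_fixed` : `|G| * #(orbits on the σ-fixed points) = ∑_g #{x | σ (g • x) = x}`.
-/

namespace Cfsg.Agent.helper24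

theorem eqvGen_of_map {α β : Type*} (f : α → β) (hf : Function.Surjective f)
    (r : α → α → Prop) (r' : β → β → Prop) (hrefl : ∀ b, r' b b)
    (h : ∀ a b, r a b ↔ r' (f a) (f b)) :
    ∀ u v, Relation.EqvGen r' u v → ∀ a b, f a = u → f b = v → Relation.EqvGen r a b := by
  intro u v huv
  induction huv with
  | rel x y hxy =>
    intro a b ha hb
    apply Relation.EqvGen.rel
    rw [h, ha, hb]
    exact hxy
  | refl x =>
    intro a b ha hb
    apply Relation.EqvGen.rel
    rw [h, ha, hb]
    exact hrefl x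
  | symm x y _ ih =>
    intro a b ha hb
    exact Relation.EqvGen.symm _ _ (ih b a hb ha)
  | trans x y z _ _ ih1 ih2 =>
    intro a b ha hb
    obtain ⟨c, hc⟩ := hf y
    exact Relation.EqvGen.trans _ _ _ (ih1 a c ha hc) (ih2 c b hc hb)

theorem card_quot_eq_of_surjective {α β : Type*} (f : α → β) (hf : Function.Surjective f)
    (r : α → α → Prop) (r' : β → β → Prop) (hrefl : ∀ b, r' b b)
    (h : ∀ a b, r a b ↔ r' (f a) (f b)) : Nat.card (Quot r) = Nat.card (Quot r') := by
  apply Nat.card_congr
  apply Equiv.ofBijective (Quot.map f (fun a b hab => (h a b).1 hab))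
  constructor
  · intro x y
    induction x using Quot.ind with
    | mk a =>
      induction y using Quot.ind with
      | mk b =>
        intro hxy
        have h1 : Quot.mk r' (f a) = Quot.mk r' (f b) := hxy
        have h2 := Quot.eqvGen_exact h1
        exact Quot.eqvGen_sound (eqvGen_of_map f hf r r' hrefl h _ _ h2 a b rfl rfl)
  · intro y
    induction y using Quot.ind with
    | mk b =>
      obtain ⟨a, rfl⟩ := hf b
      exact ⟨Quot.mk r a, rfl⟩

section Action

variable {G : Type*} [Group G] {X : Type*} [MulAction G X]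

theorem fixed_of_smul_eq (K : Subgroup G) [K.Normal] [Finite G] (hodd : Odd K.index)
    (htriv : ∀ k ∈ K, ∀ x : X, k • x = x) (σ : X → X) (hσ : ∀ x, σ (σ x) = x)
    (hcomm : ∀ (g : G) (x : X), σ (g • x) = g • σ x) (g : G) (x : X) (h : g • x = σ x) :
    σ x = x := by
  obtain ⟨j, hj⟩ := hodd
  have h2 : g • (g • x) = x := by rw [h, ← hcomm, h, hσ]
  have h3 : ∀ i : ℕ, (g ^ (2 * i)) • x = x := by
    intro i
    induction i with
    | zero => simp
    | succ i ih =>
      have : g ^ (2 * (i + 1)) = g ^ (2 * i) * (g * g) := by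
        rw [mul_add, pow_add, mul_one, pow_two]
      rw [this, mul_smul, mul_smul, h2, ih]
  have h4 : g ^ K.index ∈ K := by
    rw [← QuotientGroup.eq_one_iff, QuotientGroup.mk_pow, Subgroup.index_eq_card]
    exact pow_card_eq_one'
  have h5 := htriv _ h4 x
  rw [hj, pow_succ, mul_smul] at h5
  have h6 : g • x = x := by
    apply MulAction.injective (g ^ (2 * j)) (β := X)
    show g ^ (2 * j) • g • x = g ^ (2 * j) • x
    rw [h5, h3 j]
  rw [← h, h6]

theorem card_mul_card_quot_fixed (K : Subgroup G) [K.Normal] [Finite G] [Finite X]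
    (hodd : Odd K.index)
    (htriv : ∀ k ∈ K, ∀ x : X, k • x = x) (σ : X → X) (hσ : ∀ x, σ (σ x) = x)
    (hcomm : ∀ (g : G) (x : X), σ (g • x) = g • σ x) :
    Nat.card G * Nat.card (Quot (fun x y : {x : X // σ x = x} => ∃ g : G, y.1 = g • x.1)) =
      ∑ᶠ g : G, Nat.card {x : X // σ (g • x) = x} := by
  classical
  have := Fintype.ofFinite G
  let inst : MulAction G {x : X // σ x = x} :=
    { smul := fun g x => ⟨g • x.1, by rw [hcomm, x.2]⟩
      one_smul := fun x => Subtype.ext (one_smul G x.1)
      mul_smul := fun g h x => Subtype.ext (mul_smul g h x.1) }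
  have hsmul : ∀ (g : G) (x : {x : X // σ x = x}), (g • x).1 = g • x.1 := fun g x => rfl
  -- the quotient is the orbit space
  have e1 : Quot (fun x y : {x : X // σ x = x} => ∃ g : G, y.1 = g • x.1) ≃
      Quotient (MulAction.orbitRel G {x : X // σ x = x}) := by
    apply Quot.congrRight
    intro a b
    show (∃ g : G, b.1 = g • a.1) ↔ a ∈ MulAction.orbit G b
    rw [MulAction.mem_orbit_iff]
    constructor
    · rintro ⟨g, hg⟩
      refine ⟨g⁻¹, Subtype.ext ?_⟩
      rw [hsmul, hg, inv_smul_smul]
    · rintro ⟨g, hg⟩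
      refine ⟨g⁻¹, ?_⟩
      rw [← hg, hsmul, inv_smul_smul]
  have e2 := MulAction.sigmaFixedByEquivOrbitsProdGroup G {x : X // σ x = x}
  have h1 : Nat.card (Σ g : G, MulAction.fixedBy {x : X // σ x = x} g) =
      Nat.card (Quotient (MulAction.orbitRel G {x : X // σ x = x})) * Nat.card G := by
    rw [Nat.card_congr e2, Nat.card_prod]
  rw [Nat.card_sigma] at h1
  rw [Nat.card_congr e1, mul_comm, ← h1, finsum_eq_sum_of_fintype]
  refine Finset.sum_congr rfl (fun g _ => ?_)
  apply Nat.card_congr
  refine ⟨fun x => ⟨x.1.1, ?_⟩, fun x => ⟨⟨x.1, ?_⟩, ?_⟩, ?_, ?_⟩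
  · have h2 : g • x.1 = x.1 := x.2
    have h3 : g • x.1.1 = x.1.1 := by rw [← hsmul, h2]
    rw [h3]
    exact x.1.2
  · have h2 : g • x.1 = σ x.1 := by
      have := congrArg σ x.2
      rw [hσ] at this
      exact this
    exact fixed_of_smul_eq K hodd htriv σ hσ hcomm g x.1 h2
  · have h2 : g • x.1 = σ x.1 := by
      have := congrArg σ x.2
      rw [hσ] at this
      exact this
    have h3 := fixed_of_smul_eq K hodd htriv σ hσ hcomm g x.1 h2
    show g • (⟨x.1, _⟩ : {x : X // σ x = x}) = ⟨x.1, _⟩
    apply Subtype.ext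
    rw [hsmul]
    show g • x.1 = x.1
    rw [h2, h3]
  · intro x
    rfl
  · intro x
    rfl

end Action

end Cfsg.Agent.helper24
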