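import Mathlib
import Cfsg.Statements.S0860
import Cfsg.Agent.Lib_helper24_Char

set_option autoImplicit false
open Cfsg

namespace Cfsg.Agent.S0860

open Cfsg.Agent.helper24
open scoped ComplexConjugate

theorem sum_fiber_avg {X Y : Type*} [Fintype X] [Fintype Y] [DecidableEq Y] (π : X → Y)
    (hπ : Function.Surjective π) (φ : Y → ℂ) :
    ∑ x : X, φ (π x) / ((Finset.univ.filter (fun x' => π x' = π x)).card : ℂ) = ∑ y : Y, φ y := by
  rw [← Finset.sum_fiberwise (s := Finset.univ) (g := π)]
  apply Finset.sum_congr rfl
  intro y _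
  have : ∀ x ∈ Finset.univ.filter (fun x => π x = y),
      φ (π x) / ((Finset.univ.filter (fun x' => π x' = π x)).card : ℂ) =
        φ y / ((Finset.univ.filter (fun x' => π x' = y)).card : ℂ) := by
    intro x hx
    rw [(Finset.mem_filter.mp hx).2]
  rw [Finset.sum_congr rfl this, Finset.sum_const, nsmul_eq_mul]
  have hne : ((Finset.univ.filter (fun x' => π x' = y)).card : ℂ) ≠ 0 := by
    obtain ⟨x, hx⟩ := hπ y
    have : 0 < (Finset.univ.filter (fun x' => π x' = y)).card :=
      Finset.card_pos.mpr ⟨x, by simp [hx]⟩
    exact_mod_cast this.ne'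
  field_simp

/-- Let a group A act on the set of irreducible characters and on the set of conjugacy classes of a finite group G in such a way that (a • χ) evaluated on the class a • C equals χ evaluated on C, for all a, χ and C. Then every element of A fixes exactly as many irreducible characters as it fixes conjugacy classes. -/
theorem result {G : Type*} [Group G] [Finite G] {A : Type*} [Group A] [MulAction A (Cfsg.IrrCharacter G)] [MulAction A (ConjClasses G)] (hcompat : ∀ (a : A) (χ : Cfsg.IrrCharacter G) (g g' : G), ConjClasses.mk g' = a • ConjClasses.mk g → ((a • χ : Cfsg.IrrCharacter G) : G → ℂ) g' = (χ : G → ℂ) g) (a : A) : Nat.card {χ : Cfsg.IrrCharacter G // a • χ = χ} = Nat.card {C : ConjClasses G // a • C = C} := by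
  classical
  haveI := Fintype.ofFinite G
  haveI : Fintype (IrrCharacter G) := Fintype.ofFinite _
  haveI : Fintype (ConjClasses G) := Fintype.ofFinite _
  have hG0 : (Nat.card G : ℂ) ≠ 0 := by exact_mod_cast (Nat.card_pos (α := G)).ne'
  -- left side as a sum of inner products
  have hL : ((Nat.card {χ : IrrCharacter G // a • χ = χ} : ℕ) : ℂ) =
      ∑ χ : IrrCharacter G, classInner ((a • χ : IrrCharacter G) : G → ℂ) (χ : G → ℂ) := by
    rw [Nat.card_eq_fintype_card, Fintype.card_subtype, Finset.card_filter]
    push_cast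
    apply Finset.sum_congr rfl
    intro χ _
    rw [irr_classInner (a • χ).2 χ.2]
    by_cases h : a • χ = χ
    · rw [if_pos h, if_pos (congrArg Subtype.val h)]
    · rw [if_neg h, if_neg (fun h' => h (Subtype.ext h'))]
  -- swap sums
  have hswap : ∑ χ : IrrCharacter G, classInner ((a • χ : IrrCharacter G) : G → ℂ) (χ : G → ℂ) =
      (Nat.card G : ℂ)⁻¹ * ∑ g : G, ∑ χ : IrrCharacter G,
        ((a • χ : IrrCharacter G) : G → ℂ) g * conj ((χ : G → ℂ) g) := by
    unfold classInner
    rw [← Finset.mul_sum, Finset.sum_comm]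
  -- inner sum via column orthogonality
  have hinner : ∀ g : G, ∑ χ : IrrCharacter G,
      ((a • χ : IrrCharacter G) : G → ℂ) g * conj ((χ : G → ℂ) g) =
      if a • ConjClasses.mk g = ConjClasses.mk g then
        (Nat.card (Subgroup.centralizer ({g} : Set G)) : ℂ) else 0 := by
    intro g
    obtain ⟨g₀, hg₀⟩ := ConjClasses.exists_rep (a⁻¹ • ConjClasses.mk g)
    have hg : ConjClasses.mk g = a • ConjClasses.mk g₀ := by
      rw [hg₀, smul_inv_smul]
    have h1 : ∀ χ : IrrCharacter G, ((a • χ : IrrCharacter G) : G → ℂ) g = (χ : G → ℂ) g₀ :=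
      fun χ => hcompat a χ g₀ g hg
    rw [Finset.sum_congr rfl (fun χ _ => by rw [h1 χ]), irr_column_orthogonality]
    have hiff : IsConj g₀ g ↔ a • ConjClasses.mk g = ConjClasses.mk g := by
      rw [← ConjClasses.mk_eq_mk_iff_isConj, hg₀]
      constructor
      · intro h
        have := congrArg (fun C => a • C) h
        simp only [smul_inv_smul] at this
        exact this.symm
      · intro h
        rw [inv_smul_eq_iff, h]
    by_cases h : IsConj g₀ g
    · rw [if_pos h, if_pos (hiff.mp h)]
    · rw [if_neg h, if_neg (fun h' => h (hiff.mpr h'))]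
  -- right side
  have hR : ((Nat.card {C : ConjClasses G // a • C = C} : ℕ) : ℂ) =
      ∑ C : ConjClasses G, if a • C = C then (1 : ℂ) else 0 := by
    rw [Nat.card_eq_fintype_card, Fintype.card_subtype, Finset.card_filter]
    push_cast
    rfl
  have hfib : ∀ g : G, ((Finset.univ.filter (fun x' : G => ConjClasses.mk x' = ConjClasses.mk g)).card : ℂ)
      * (Nat.card (Subgroup.centralizer ({g} : Set G)) : ℂ) = (Nat.card G : ℂ) := by
    intro g
    have h1 := card_conj_mul_card_centralizer g
    have h2 : (Finset.univ.filter (fun x' : G => ConjClasses.mk x' = ConjClasses.mk g)).card =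
        Nat.card {x : G // IsConj x g} := by
      rw [Nat.card_eq_fintype_card, Fintype.card_subtype]
      congr 1
      ext x
      simp [ConjClasses.mk_eq_mk_iff_isConj]
    rw [h2]
    exact_mod_cast h1
  have hcast : ((Nat.card {χ : IrrCharacter G // a • χ = χ} : ℕ) : ℂ) =
      ((Nat.card {C : ConjClasses G // a • C = C} : ℕ) : ℂ) := by
    rw [hL, hswap, hR, ← sum_fiber_avg (ConjClasses.mk : G → ConjClasses G)
      ConjClasses.mk_surjective (fun C => if a • C = C then (1 : ℂ) else 0), Finset.mul_sum]
    apply Finset.sum_congr rfl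
    intro g _
    rw [hinner g]
    have hf := hfib g
    have hc0 : ((Finset.univ.filter (fun x' : G => ConjClasses.mk x' = ConjClasses.mk g)).card : ℂ) ≠ 0 := by
      intro h
      rw [h, zero_mul] at hf
      exact hG0 hf.symm
    by_cases h : a • ConjClasses.mk g = ConjClasses.mk g
    · rw [if_pos h, if_pos h, ← hf]
      field_simp
    · rw [if_neg h, if_neg h]
      simp
  exact_mod_cast hcast

end Cfsg.Agent.S0860
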