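import Mathlib
import Cfsg.Agent.S0860
import Cfsg.Agent.Lib_helper1_ConjChar
import Cfsg.Agent.Lib_helper24_Inertia
import Cfsg.Agent.Lib_helper24_OrbitCount

set_option autoImplicit false

/-!
Brauer's permutation lemma for compatible pairs of permutations, and the actions of `G` on the
irreducible characters and on the conjugacy classes of a normal subgroup (shared library, helper24).
-/

universe u

namespace Cfsg.Agent.helper24

open Cfsg
open scoped ComplexConjugate
open Cfsg.Agent.helper8 Cfsg.Agent.helper1

section Compat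

variable {K : Type u} [Group K]

/-- the subgroup of compatible pairs of permutations -/
def compatPairs (K : Type u) [Group K] :
    Subgroup (Equiv.Perm (IrrCharacter K) × Equiv.Perm (ConjClasses K)) where
  carrier := {a | ∀ (χ : IrrCharacter K) (g g' : K),
    ConjClasses.mk g' = a.2 (ConjClasses.mk g) → ((a.1 χ : IrrCharacter K) : K → ℂ) g' = (χ : K → ℂ) g}
  one_mem' := by
    intro χ g g' h
    have h1 : ConjClasses.mk g' = ConjClasses.mk g := h
    show (χ : K → ℂ) g' = (χ : K → ℂ) g
    have h2 : IsConj g' g := ConjClasses.mk_eq_mk_iff_isConj.1 h1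
    exact (isClassFunction_iff_isConj.1 (char_isClassFunction (irr_isCharacter χ.2))) g' g h2
  mul_mem' := by
    intro a b ha hb χ g g' h
    obtain ⟨g'', hg''⟩ := ConjClasses.exists_rep (b.2 (ConjClasses.mk g))
    have h1 : ConjClasses.mk g' = a.2 (ConjClasses.mk g'') := by
      rw [hg'']
      exact h
    have h2 := ha (b.1 χ) g'' g' h1
    have h3 := hb χ g g'' hg''
    show ((a.1 (b.1 χ) : IrrCharacter K) : K → ℂ) g' = (χ : K → ℂ) g
    rw [h2, h3]
  inv_mem' := by
    intro a ha χ g g' h
    have h1 : a.2 (ConjClasses.mk g') = ConjClasses.mk g := by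
      have : ConjClasses.mk g' = a.2⁻¹ (ConjClasses.mk g) := h
      rw [this]
      simp
    have h2 := ha (a.1⁻¹ χ) g' g h1.symm
    show ((a.1⁻¹ χ : IrrCharacter K) : K → ℂ) g' = (χ : K → ℂ) g
    rw [← h2]
    simp

/-- Brauer's permutation lemma for a compatible pair of permutations. -/
theorem card_fixed_eq_of_compat [Finite K]
    (π : Equiv.Perm (IrrCharacter K)) (π' : Equiv.Perm (ConjClasses K))
    (h : ∀ (χ : IrrCharacter K) (g g' : K), ConjClasses.mk g' = π' (ConjClasses.mk g) →
      ((π χ : IrrCharacter K) : K → ℂ) g' = (χ : K → ℂ) g) :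
    Nat.card {χ : IrrCharacter K // π χ = χ} = Nat.card {C : ConjClasses K // π' C = C} := by
  let A := compatPairs K
  let f1 : A →* Equiv.Perm (IrrCharacter K) :=
    (MonoidHom.fst _ _).comp A.subtype
  let f2 : A →* Equiv.Perm (ConjClasses K) :=
    (MonoidHom.snd _ _).comp A.subtype
  let i1 : MulAction A (IrrCharacter K) := MulAction.compHom _ f1
  let i2 : MulAction A (ConjClasses K) := MulAction.compHom _ f2
  let a : A := ⟨(π, π'), h⟩
  have hcompat : ∀ (a : A) (χ : IrrCharacter K) (g g' : K),
      ConjClasses.mk g' = a • ConjClasses.mk g →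
      ((a • χ : IrrCharacter K) : K → ℂ) g' = (χ : K → ℂ) g := by
    intro a χ g g' hg
    exact a.2 χ g g' hg
  exact @Cfsg.Agent.S0860.result K _ _ A _ i1 i2 hcompat a

end Compat

section Normal

variable {G : Type u} [Group G]

/-- the action of `G` on the irreducible characters of a normal subgroup -/
@[reducible] noncomputable def irrAction (K : Subgroup G) [hK : K.Normal] : MulAction G (IrrCharacter K) where
  smul g θ := ⟨conjFunN K g⁻¹ θ.1, isIrrCharacter_conjFunN K g⁻¹ θ.2⟩
  one_smul θ := by
    apply Subtype.ext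
    show conjFunN K (1 : G)⁻¹ θ.1 = θ.1
    rw [inv_one, conjFunN_one]
  mul_smul g h θ := by
    apply Subtype.ext
    show conjFunN K (g * h)⁻¹ θ.1 = conjFunN K g⁻¹ (conjFunN K h⁻¹ θ.1)
    rw [mul_inv_rev, conjFunN_mul]

theorem irrAction_apply (K : Subgroup G) [hK : K.Normal] (g : G) (θ : IrrCharacter K) (k : K) :
    ((@HSMul.hSMul G (IrrCharacter K) (IrrCharacter K)
      (@instHSMul G (IrrCharacter K) (irrAction K).toSMul) g θ : IrrCharacter K) : K → ℂ) k =
      (θ : K → ℂ) ⟨g⁻¹ * k * g, by
        have := hK.conj_mem k k.2 g⁻¹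
        rwa [inv_inv] at this⟩ := by
  show conjFunN K g⁻¹ θ.1 k = _
  simp only [conjFunN_apply, inv_inv]

/-- the action of `G` on the conjugacy classes of a normal subgroup -/
@[reducible] def ccAction (K : Subgroup G) [hK : K.Normal] : MulAction G (ConjClasses K) where
  smul g C := ConjClasses.map (MulAut.conjNormal g : K ≃* K).toMonoidHom C
  one_smul C := by
    induction C using Quotient.inductionOn with
    | h x =>
      show ConjClasses.mk ((MulAut.conjNormal (1 : G) : K ≃* K) x) = ConjClasses.mk x
      rw [map_one]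
      rfl
  mul_smul g h C := by
    induction C using Quotient.inductionOn with
    | h x =>
      show ConjClasses.mk ((MulAut.conjNormal (g * h) : K ≃* K) x) =
        ConjClasses.mk ((MulAut.conjNormal g : K ≃* K) ((MulAut.conjNormal h : K ≃* K) x))
      rw [map_mul]
      rfl

theorem ccAction_mk (K : Subgroup G) [hK : K.Normal] (g : G) (x : K) :
    @HSMul.hSMul G (ConjClasses K) (ConjClasses K)
      (@instHSMul G (ConjClasses K) (ccAction K).toSMul) g (ConjClasses.mk x) =
      ConjClasses.mk ((MulAut.conjNormal g : K ≃* K) x) := rfl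

/-- inversion of conjugacy classes -/
def ccInv (K : Type u) [Group K] : ConjClasses K → ConjClasses K :=
  Quotient.map (fun x : K => x⁻¹) (by
    intro a b hab
    obtain ⟨c, hc⟩ := isConj_iff.1 hab
    exact isConj_iff.2 ⟨c, by rw [← hc]; group⟩)

theorem ccInv_mk (K : Type u) [Group K] (x : K) : ccInv K (ConjClasses.mk x) = ConjClasses.mk x⁻¹ :=
  rfl

theorem ccInv_ccInv (K : Type u) [Group K] (C : ConjClasses K) : ccInv K (ccInv K C) = C := by
  induction C using Quotient.inductionOn with
  | h x =>
    show ccInv K (ccInv K (ConjClasses.mk x)) = ConjClasses.mk x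
    rw [ccInv_mk, ccInv_mk, inv_inv]

end Normal

end Cfsg.Agent.helper24
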