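import Mathlib
import Cfsg.Agent.Lib_helper22_Glaub3
import Cfsg.Agent.Lib_helper24_BrauerPerm
import Cfsg.Agent.Lib_lead_SZ2
import Cfsg.Agent.S0867

set_option autoImplicit false
set_option linter.unusedSectionVars false
set_option linter.unusedVariables false

/-!
Glauberman correspondence, part 4 (helper22): uniqueness, injectivity and the class count
for the cyclic case (Isaacs 13.6, 13.10).
-/

namespace Cfsg.Agent.helper22

open Cfsg
open scoped ComplexConjugate

universe u

section Uniq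
variable {C : Type u} [Group C] [Fintype C]

theorem pair_unique {β β' : C → ℂ} (hβ : IsIrrCharacter C β) (hβ' : IsIrrCharacter C β')
    {ε ε' : ℤ} (hε : ε = 1 ∨ ε = -1) (hε' : ε' = 1 ∨ ε' = -1)
    (h : ∀ c : C, (ε : ℂ) * β c = (ε' : ℂ) * β' c) : β = β' ∧ ε = ε' := by
  obtain ⟨n, hn0, hn⟩ := helper24.irr_apply_one hβ
  obtain ⟨n', hn0', hn'⟩ := helper24.irr_apply_one hβ'
  have h1 := h 1
  rw [hn, hn'] at h1
  have h2 : ε * (n : ℤ) = ε' * (n' : ℤ) := by exact_mod_cast h1
  have hεε : ε = ε' := by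
    rcases hε with rfl | rfl <;> rcases hε' with rfl | rfl
    · rfl
    · exfalso; omega
    · exfalso; omega
    · rfl
  refine ⟨?_, hεε⟩
  funext c
  have h3 := h c
  rw [hεε] at h3
  have hne : (ε' : ℂ) ≠ 0 := by
    rcases hε' with rfl | rfl <;> norm_num
  exact mul_left_cancel₀ hne h3

end Uniq

section Main
variable {Γ : Type u} [Group Γ] [Fintype Γ] (G : Subgroup Γ) [hG : G.Normal] [Fintype G] (s : Γ)
  [Fintype (fixC G s)]

/-- **Glauberman correspondence, cyclic case: injectivity.** -/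
theorem cyclic_injective (hcop : (Nat.card G).Coprime (orderOf s))
    (htop : G ⊔ Subgroup.zpowers s = ⊤) {χ χ' : G → ℂ} (hχ : IsIrrCharacter G χ)
    (hχ' : IsIrrCharacter G χ') {χh χh' : Γ → ℂ}
    (hχh : IsIrrCharacter Γ χh) (hχh' : IsIrrCharacter Γ χh')
    (hext : ∀ g : G, χh g = χ g) (hext' : ∀ g : G, χh' g = χ' g)
    {β : fixC G s → ℂ} (hβ : IsIrrCharacter (fixC G s) β) {ε ε' : ℤ}
    (hε : ε = 1 ∨ ε = -1) (hε' : ε' = 1 ∨ ε' = -1)
    (h : ∀ c : fixC G s, χh ((c : Γ) * s) = (ε : ℂ) * β c)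
    (h' : ∀ c : fixC G s, χh' ((c : Γ) * s) = (ε' : ℂ) * β c) : χ = χ' := by
  classical
  by_contra hne
  have hχG : IsIrrCharacter G (fun g : G => χh g) := by
    have : (fun g : G => χh g) = χ := funext hext
    rw [this]; exact hχ
  have h0 : classInner (fun g : G => χh' g) (fun g : G => χh g) = 0 := by
    have e1 : (fun g : G => χh g) = χ := funext hext
    have e2 : (fun g : G => χh' g) = χ' := funext hext'
    rw [e1, e2]
    exact helper24.irr_classInner_ne hχ' hχ (Ne.symm hne)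
  have h1 := (coset_orth G s hcop htop hχh hχG hχh').2 h0
  have hC0 : (Nat.card (fixC G s) : ℂ) ≠ 0 := by
    exact_mod_cast (Nat.card_pos (α := fixC G s)).ne'
  have h2 : ∑ c : fixC G s, β c * conj (β c) = (Nat.card (fixC G s) : ℂ) := by
    have := helper24.irr_classInner_self hβ
    unfold classInner at this
    rw [← mul_one (Nat.card (fixC G s) : ℂ), ← this, ← mul_assoc, mul_inv_cancel₀ hC0, one_mul]
  have h3 : ∑ c : fixC G s, χh' ((c : Γ) * s) * conj (χh ((c : Γ) * s)) =
      ((ε' : ℂ) * (ε : ℂ)) * ∑ c : fixC G s, β c * conj (β c) := by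
    rw [Finset.mul_sum]
    apply Finset.sum_congr rfl
    intro c _
    rw [h c, h' c, map_mul, map_intCast]
    ring
  rw [h3, h2] at h1
  have hε0 : (ε : ℂ) ≠ 0 := by rcases hε with rfl | rfl <;> norm_num
  have hε0' : (ε' : ℂ) ≠ 0 := by rcases hε' with rfl | rfl <;> norm_num
  exact mul_ne_zero (mul_ne_zero hε0' hε0) hC0 h1

end Main

end Cfsg.Agent.helper22
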