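import Mathlib
import Cfsg.Agent.Lib_helper22_Glaub4

set_option autoImplicit false
set_option linter.unusedSectionVars false
set_option linter.unusedVariables false

/-!
Glauberman correspondence, part 5 (helper22): counting `s`-invariant characters and classes
(Isaacs 13.10 and Brauer's permutation lemma).
-/

namespace Cfsg.Agent.helper22

open Cfsg
open scoped ComplexConjugate

universe u

section Count
variable {Γ : Type u} [Group Γ] [Fintype Γ] (G : Subgroup Γ) [hG : G.Normal] [Fintype G] (s : Γ)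

/-- the permutation of `Irr(G)` induced by `s` -/
noncomputable def irrPerm : Equiv.Perm (IrrCharacter G) :=
  @MulAction.toPerm Γ (IrrCharacter G) _ (helper24.irrAction G) s

/-- the permutation of the classes of `G` induced by `s` -/
def ccPerm : Equiv.Perm (ConjClasses G) :=
  @MulAction.toPerm Γ (ConjClasses G) _ (helper24.ccAction G) s

theorem irrPerm_apply (χ : IrrCharacter G) (g : G) :
    ((irrPerm G s χ : IrrCharacter G) : G → ℂ) g = (χ : G → ℂ) ⟨s⁻¹ * g * s, by
        have := hG.conj_mem g g.2 s⁻¹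
        rwa [inv_inv] at this⟩ :=
  helper24.irrAction_apply G s χ g

theorem ccPerm_mk (x : G) :
    ccPerm G s (ConjClasses.mk x) = ConjClasses.mk ((MulAut.conjNormal s : G ≃* G) x) := rfl

theorem card_irr_fixed_eq :
    Nat.card {χ : IrrCharacter G // irrPerm G s χ = χ} =
      Nat.card {K : ConjClasses G // ccPerm G s K = K} := by
  apply helper24.card_fixed_eq_of_compat
  intro χ g g' h
  rw [ccPerm_mk] at h
  have h2 : IsConj g' ((MulAut.conjNormal s : G ≃* G) g) := ConjClasses.mk_eq_mk_iff_isConj.mp h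
  obtain ⟨k, hk⟩ := isConj_iff.mp h2
  rw [irrPerm_apply]
  have hcf := helper24.char_isClassFunction (helper24.irr_isCharacter χ.2)
  have hk' : (k : Γ) * (g' : Γ) * (k : Γ)⁻¹ = s * (g : Γ) * s⁻¹ := by
    have := congrArg (Subtype.val : G → Γ) hk
    rw [MulAut.conjNormal_apply] at this
    exact this
  obtain ⟨k', hk'def⟩ : ∃ k' : G, (k' : Γ) = s⁻¹ * (k : Γ) * s := ⟨⟨s⁻¹ * (k : Γ) * s, by
    have := hG.conj_mem k k.2 s⁻¹
    rwa [inv_inv] at this⟩, rfl⟩
  obtain ⟨x, hxdef⟩ : ∃ x : G, x = (⟨s⁻¹ * g' * s, by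
        have := hG.conj_mem g' g'.2 s⁻¹
        rwa [inv_inv] at this⟩ : G) := ⟨_, rfl⟩
  rw [← hxdef]
  have key : g = k' * x * k'⁻¹ := by
    apply Subtype.ext
    rw [Subgroup.coe_mul, Subgroup.coe_mul, Subgroup.coe_inv, hk'def, hxdef]
    show (g : Γ) = s⁻¹ * (k : Γ) * s * (s⁻¹ * (g' : Γ) * s) * (s⁻¹ * (k : Γ) * s)⁻¹
    have : (g : Γ) = s⁻¹ * (s * (g : Γ) * s⁻¹) * s := by group
    rw [this, ← hk']
    group
  have : (χ : G → ℂ) g = (χ : G → ℂ) x := by
    rw [key]
    exact hcf _ _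
  exact this.symm

/-- a class fixed by `s` is `Γ`-stable -/
theorem class_stable (htop : G ⊔ Subgroup.zpowers s = ⊤) (K : ConjClasses G)
    (hK : ccPerm G s K = K) (γ : Γ) (x : G) (hx : ConjClasses.mk x = K) :
    ConjClasses.mk ((MulAut.conjNormal γ : G ≃* G) x) = K := by
  letI := helper24.ccAction G
  have h1 : G ≤ MulAction.stabilizer Γ K := by
    intro g hg
    rw [MulAction.mem_stabilizer_iff, ← hx]
    show ConjClasses.mk ((MulAut.conjNormal g : G ≃* G) x) = ConjClasses.mk x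
    apply ConjClasses.mk_eq_mk_iff_isConj.mpr
    apply isConj_iff.mpr
    refine ⟨⟨g, hg⟩⁻¹, ?_⟩
    apply Subtype.ext
    simp only [Subgroup.coe_mul, Subgroup.coe_inv, MulAut.conjNormal_apply, inv_inv]
    group
  have h2 : Subgroup.zpowers s ≤ MulAction.stabilizer Γ K := by
    rw [Subgroup.zpowers_le]
    exact hK
  have h3 : MulAction.stabilizer Γ K = ⊤ := by
    rw [eq_top_iff, ← htop]
    exact sup_le h1 h2
  have h4 : γ ∈ MulAction.stabilizer Γ K := by rw [h3]; exact Subgroup.mem_top γ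
  rw [MulAction.mem_stabilizer_iff] at h4
  rw [← hx] at h4 ⊢
  exact h4

/-- the `Γ`-action on a stable class -/
def classAction (K : ConjClasses G)
    (hK : ∀ (γ : Γ) (x : G), ConjClasses.mk x = K →
      ConjClasses.mk ((MulAut.conjNormal γ : G ≃* G) x) = K) :
    MulAction Γ {x : G // ConjClasses.mk x = K} where
  smul γ x := ⟨(MulAut.conjNormal γ : G ≃* G) x.1, hK γ x.1 x.2⟩
  one_smul x := Subtype.ext (by
    show (MulAut.conjNormal (1 : Γ) : G ≃* G) x.1 = x.1
    rw [map_one]; rfl)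
  mul_smul γ δ x := Subtype.ext (by
    show (MulAut.conjNormal (γ * δ) : G ≃* G) x.1 =
      (MulAut.conjNormal γ : G ≃* G) ((MulAut.conjNormal δ : G ≃* G) x.1)
    rw [map_mul]; rfl)

/-- Glauberman's lemma on a stable class (Isaacs 13.10). -/
theorem class_glauberman (hcop : (Nat.card G).Coprime (orderOf s))
    (htop : G ⊔ Subgroup.zpowers s = ⊤) (K : ConjClasses G) (hK : ccPerm G s K = K) :
    (∃ c : G, (c : Γ) ∈ fixC G s ∧ ConjClasses.mk c = K) ∧
    ∀ c c' : G, (c : Γ) ∈ fixC G s → (c' : Γ) ∈ fixC G s → ConjClasses.mk c = K →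
      ConjClasses.mk c' = K → ∃ k : Γ, k ∈ fixC G s ∧ k * (c : Γ) * k⁻¹ = (c' : Γ) := by
  have hstab := class_stable G s htop K hK
  letI := classAction G K hstab
  have hsm : ∀ (γ : Γ) (x : {x : G // ConjClasses.mk x = K}),
      (((γ • x : {x : G // ConjClasses.mk x = K}) : G) : Γ) = γ * ((x : G) : Γ) * γ⁻¹ := by
    intro γ x
    show (((MulAut.conjNormal γ : G ≃* G) x.1 : G) : Γ) = _
    rw [MulAut.conjNormal_apply]
  haveI : Nonempty {x : G // ConjClasses.mk x = K} := by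
    obtain ⟨x, hx⟩ := ConjClasses.exists_rep K
    exact ⟨⟨x, hx⟩⟩
  have hidx := index_eq G s hcop htop
  have hH : Nat.card (Subgroup.zpowers s) = G.index := by rw [Nat.card_zpowers, hidx]
  have hcop' : (Nat.card G).Coprime G.index := by rw [hidx]; exact hcop
  have hsolv : IsSolvable G ∨ IsSolvable (Γ ⧸ G) :=
    Or.inr (isSolvable_of_comm (quotient_comm G s htop))
  have htrans : ∀ x y : {x : G // ConjClasses.mk x = K}, ∃ k ∈ G, k • x = y := by
    intro x y
    have h1 : ConjClasses.mk x.1 = ConjClasses.mk y.1 := by rw [x.2, y.2]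
    obtain ⟨k, hk⟩ := isConj_iff.mp (ConjClasses.mk_eq_mk_iff_isConj.mp h1)
    refine ⟨k, k.2, ?_⟩
    apply Subtype.ext
    apply Subtype.ext
    rw [hsm, ← hk]
    simp only [Subgroup.coe_mul, Subgroup.coe_inv]
  obtain ⟨⟨x, hx⟩, hconj⟩ := lead.glauberman G (Subgroup.zpowers s) hH hcop' hsolv htrans
  have hfix_of : ∀ c : G, (c : Γ) ∈ fixC G s → ∀ (hc : ConjClasses.mk c = K),
      ∀ h ∈ Subgroup.zpowers s, h • (⟨c, hc⟩ : {x : G // ConjClasses.mk x = K}) = ⟨c, hc⟩ := by
    intro c hcfix hc h hh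
    apply Subtype.ext
    apply Subtype.ext
    rw [hsm]
    show h * (c : Γ) * h⁻¹ = (c : Γ)
    obtain ⟨i, rfl⟩ := Subgroup.mem_zpowers_iff.mp hh
    have h1 : Commute (c : Γ) s := ((mem_fixC G s).mp hcfix).2
    have h2 : Commute (c : Γ) (s ^ i) := h1.zpow_right i
    rw [← h2.eq, mul_assoc, mul_inv_cancel, mul_one]
  constructor
  · refine ⟨x.1, ?_, x.2⟩
    rw [mem_fixC]
    refine ⟨x.1.2, ?_⟩
    have h1 := hx s (Subgroup.mem_zpowers s)
    have h2 := hsm s x
    rw [h1] at h2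
    have h3 : ((x : G) : Γ) * s = s * ((x : G) : Γ) * s⁻¹ * s := by rw [← h2]
    rw [h3]
    group
  · intro c c' hc hc' hcK hc'K
    obtain ⟨k, hk, hkxy⟩ := hconj ⟨c, hcK⟩ ⟨c', hc'K⟩ (hfix_of c hc hcK) (hfix_of c' hc' hc'K)
    refine ⟨k, ?_, ?_⟩
    · rw [mem_fixC]
      rw [Subgroup.mem_inf] at hk
      refine ⟨hk.1, ?_⟩
      have := (Subgroup.mem_centralizer_iff.mp hk.2) s (Subgroup.mem_zpowers s)
      exact this.symm
    · have h1 := hsm k ⟨c, hcK⟩
      rw [hkxy] at h1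
      exact h1.symm

end Count

end Cfsg.Agent.helper22
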