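import Mathlib
import Cfsg.Agent.Lib_helper22_Glaub5

set_option autoImplicit false
set_option linter.unusedSectionVars false
set_option linter.unusedVariables false

/-!
Glauberman correspondence, part 6 (helper22): surjectivity in the cyclic case by counting.
-/

namespace Cfsg.Agent.helper22

open Cfsg
open scoped ComplexConjugate

universe u

section Surj
variable {Γ : Type u} [Group Γ] [Fintype Γ] (G : Subgroup Γ) [hG : G.Normal] [Fintype G] (s : Γ)

theorem cc_fixed_of_fixC (c : fixC G s) :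
    ccPerm G s (ConjClasses.mk (⟨c, fixC_le G s c.2⟩ : G)) =
      ConjClasses.mk (⟨c, fixC_le G s c.2⟩ : G) := by
  rw [ccPerm_mk]
  congr 1
  apply Subtype.ext
  rw [MulAut.conjNormal_apply]
  show s * (c : Γ) * s⁻¹ = (c : Γ)
  have := ((mem_fixC G s).mp c.2).2
  rw [← this, mul_assoc, mul_inv_cancel, mul_one]

theorem card_cc_fixed_eq (hcop : (Nat.card G).Coprime (orderOf s))
    (htop : G ⊔ Subgroup.zpowers s = ⊤) :
    Nat.card {K : ConjClasses G // ccPerm G s K = K} = Nat.card (ConjClasses (fixC G s)) := by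
  obtain ⟨f, hf⟩ : ∃ f : ConjClasses (fixC G s) → {K : ConjClasses G // ccPerm G s K = K},
      ∀ c : fixC G s, (f (ConjClasses.mk c) : ConjClasses G) =
        ConjClasses.mk (⟨c, fixC_le G s c.2⟩ : G) := by
    refine ⟨fun κ => ⟨ConjClasses.map (Subgroup.inclusion (fixC_le G s)) κ, ?_⟩, fun c => rfl⟩
    induction κ using Quotient.inductionOn with
    | h c => exact cc_fixed_of_fixC G s c
  symm
  apply Nat.card_eq_of_bijective f
  constructor
  · intro κ κ' h
    induction κ using Quotient.inductionOn with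
    | h c =>
      induction κ' using Quotient.inductionOn with
      | h c' =>
        have h1 : (f (ConjClasses.mk c) : ConjClasses G) = f (ConjClasses.mk c') :=
          congrArg Subtype.val h
        rw [hf, hf] at h1
        obtain ⟨k, hk, hkc⟩ := (class_glauberman G s hcop htop _ (cc_fixed_of_fixC G s c)).2
          ⟨c, fixC_le G s c.2⟩ ⟨c', fixC_le G s c'.2⟩ c.2 c'.2 rfl h1.symm
        show ConjClasses.mk c = ConjClasses.mk c'
        apply ConjClasses.mk_eq_mk_iff_isConj.mpr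
        apply isConj_iff.mpr
        refine ⟨⟨k, hk⟩, ?_⟩
        apply Subtype.ext
        simp only [Subgroup.coe_mul, Subgroup.coe_inv]
        exact hkc
  · rintro ⟨K, hK⟩
    obtain ⟨c, hc, hcK⟩ := (class_glauberman G s hcop htop K hK).1
    refine ⟨ConjClasses.mk ⟨c, hc⟩, ?_⟩
    apply Subtype.ext
    rw [hf]
    exact hcK

theorem card_irr_fixed (hcop : (Nat.card G).Coprime (orderOf s))
    (htop : G ⊔ Subgroup.zpowers s = ⊤) :
    Nat.card {χ : IrrCharacter G // irrPerm G s χ = χ} = Nat.card (IrrCharacter (fixC G s)) := by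
  rw [card_irr_fixed_eq, card_cc_fixed_eq G s hcop htop, helper24.card_irr_eq_card_conjClasses]

theorem irrPerm_fixed_iff (χ : IrrCharacter G) :
    irrPerm G s χ = χ ↔ ∀ g : G, (χ : G → ℂ) ⟨s * g * s⁻¹, hG.conj_mem g g.2 s⟩ = (χ : G → ℂ) g := by
  constructor
  · intro h g
    have h1 := irrPerm_apply G s χ ⟨s * g * s⁻¹, hG.conj_mem g g.2 s⟩
    rw [h] at h1
    rw [h1]
    refine congrArg (χ : G → ℂ) (Subtype.ext ?_)
    show s⁻¹ * (s * (g : Γ) * s⁻¹) * s = (g : Γ)
    group
  · intro h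
    apply Subtype.ext
    funext g
    rw [irrPerm_apply]
    have h1 := h ⟨s⁻¹ * g * s, by
      have := hG.conj_mem g g.2 s⁻¹
      rwa [inv_inv] at this⟩
    rw [← h1]
    refine congrArg (χ : G → ℂ) (Subtype.ext ?_)
    show s * (s⁻¹ * (g : Γ) * s) * s⁻¹ = (g : Γ)
    group

/-- an `s`-fixed irreducible character is `Γ`-invariant -/
theorem irr_stable (htop : G ⊔ Subgroup.zpowers s = ⊤) (χ : IrrCharacter G)
    (hχ : irrPerm G s χ = χ) (γ : Γ) (n : G) :
    (χ : G → ℂ) ⟨γ * n * γ⁻¹, hG.conj_mem n n.2 γ⟩ = (χ : G → ℂ) n := by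
  let _ := helper24.irrAction G
  have hcf := helper24.char_isClassFunction (helper24.irr_isCharacter χ.2)
  have h1 : G ≤ MulAction.stabilizer Γ χ := by
    intro g hg
    rw [MulAction.mem_stabilizer_iff]
    apply Subtype.ext
    funext n
    have h2 := helper24.irrAction_apply G g χ n
    refine h2.trans ?_
    have h3 := hcf n (⟨g, hg⟩⁻¹ : G)
    rw [← h3]
    refine congrArg (χ : G → ℂ) (Subtype.ext ?_)
    simp only [Subgroup.coe_mul, Subgroup.coe_inv, inv_inv]
  have h2 : Subgroup.zpowers s ≤ MulAction.stabilizer Γ χ := by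
    rw [Subgroup.zpowers_le]
    exact hχ
  have h3 : MulAction.stabilizer Γ χ = ⊤ := by
    rw [eq_top_iff, ← htop]
    exact sup_le h1 h2
  have h4 : γ⁻¹ ∈ MulAction.stabilizer Γ χ := by rw [h3]; exact Subgroup.mem_top _
  rw [MulAction.mem_stabilizer_iff] at h4
  have h5 := helper24.irrAction_apply G γ⁻¹ χ n
  have h6 : ((γ⁻¹ • χ : IrrCharacter G) : G → ℂ) n = (χ : G → ℂ) n := by rw [h4]
  rw [← h6]
  refine Eq.trans ?_ h5.symm
  refine congrArg (χ : G → ℂ) (Subtype.ext ?_)
  simp only [inv_inv]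

variable [Fintype (fixC G s)]

/-- the canonical extension and its Glauberman correspondent exist for an `s`-fixed character -/
theorem cyclic_data (hcop : (Nat.card G).Coprime (orderOf s))
    (htop : G ⊔ Subgroup.zpowers s = ⊤) (χ : IrrCharacter G) (hχ : irrPerm G s χ = χ) :
    ∃ (χh : IrrCharacter Γ) (β : IrrCharacter (fixC G s)) (ε : ℤ),
      (∀ g : G, (χh : Γ → ℂ) g = (χ : G → ℂ) g) ∧
      (detOrder (χh : Γ → ℂ)).Coprime (orderOf s) ∧ (ε = 1 ∨ ε = -1) ∧
      (∀ c : fixC G s, (χh : Γ → ℂ) ((c : Γ) * s) = (ε : ℂ) * (β : fixC G s → ℂ) c) := by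
  obtain ⟨d, hd0, hd⟩ := helper24.irr_apply_one χ.2
  have hidx := index_eq G s hcop htop
  have hdet : detOrder (χ : G → ℂ) ∣ Nat.card G := detOrder_dvd_card χ.2
  have hddvd : d ∣ Nat.card G := by
    have := helper24.irr_degree_dvd_card χ.2
    rwa [helper24.charDegree_natCast _ d hd] at this
  have hcop1 : Nat.Coprime G.index (detOrder (χ : G → ℂ) * d) := by
    rw [hidx]
    apply Nat.Coprime.mul_right
    · exact (Nat.Coprime.coprime_dvd_left hdet hcop).symm
    · exact (Nat.Coprime.coprime_dvd_left hddvd hcop).symm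
  obtain ⟨χh, ⟨hχh, hext, hdeteq⟩, -⟩ := Cfsg.Agent.S0867.result G (χ : G → ℂ) χ.2
    (fun γ n => irr_stable G s htop χ hχ γ n) d hd hcop1
  have hdetcop : (detOrder χh).Coprime (orderOf s) := by
    rw [hdeteq]
    exact Nat.Coprime.coprime_dvd_left hdet hcop
  obtain ⟨β, ε, hε, hval, -⟩ := cyclic_exists G s hcop htop χ.2 hχh hext hdetcop
  exact ⟨⟨χh, hχh⟩, β, ε, hext, hdetcop, hε, hval⟩

/-- **Glauberman correspondence, cyclic case: surjectivity.** -/
theorem cyclic_surjective (hcop : (Nat.card G).Coprime (orderOf s))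
    (htop : G ⊔ Subgroup.zpowers s = ⊤) (β : IrrCharacter (fixC G s)) :
    ∃ (χ : IrrCharacter G) (χh : IrrCharacter Γ) (ε : ℤ),
      (∀ g : G, (χ : G → ℂ) ⟨s * g * s⁻¹, hG.conj_mem g g.2 s⟩ = (χ : G → ℂ) g) ∧
      (∀ g : G, (χh : Γ → ℂ) g = (χ : G → ℂ) g) ∧
      (detOrder (χh : Γ → ℂ)).Coprime (orderOf s) ∧ (ε = 1 ∨ ε = -1) ∧
      (∀ c : fixC G s, (χh : Γ → ℂ) ((c : Γ) * s) = (ε : ℂ) * (β : fixC G s → ℂ) c) := by
  classical
  have hdata := fun χ : {χ : IrrCharacter G // irrPerm G s χ = χ} =>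
    cyclic_data G s hcop htop χ.1 χ.2
  choose χh Φ ε hext hdet hε hval using hdata
  have hinj : Function.Injective Φ := by
    intro χ χ' h
    apply Subtype.ext
    apply Subtype.ext
    have hval' := hval χ'
    rw [← h] at hval'
    exact cyclic_injective G s hcop htop χ.1.2 χ'.1.2 (χh χ).2 (χh χ').2 (hext χ) (hext χ')
      (Φ χ).2 (hε χ) (hε χ') (hval χ) hval'
  have hbij : Function.Bijective Φ :=
    hinj.bijective_of_nat_card_le (le_of_eq (card_irr_fixed G s hcop htop).symm)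
  obtain ⟨χ, rfl⟩ := hbij.2 β
  exact ⟨χ.1, χh χ, ε χ, (irrPerm_fixed_iff G s χ.1).mp χ.2, hext χ, hdet χ, hε χ, hval χ⟩

end Surj

end Cfsg.Agent.helper22
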