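import Mathlib
import Cfsg.Agent.Lib_helper22_Glaub6
import Cfsg.Agent.Lib_helper24_FrobCongr

set_option autoImplicit false
set_option linter.unusedSectionVars false
set_option linter.unusedVariables false

/-!
Glauberman correspondence, part 7 (helper22): the congruence `ξ(1) ≡ ξ(z)` for a `p`-element and
the multiplicities `[χ_C, β'']` modulo `p` in the cyclic `p`-group case.
-/

namespace Cfsg.Agent.helper22

open Cfsg
open scoped ComplexConjugate

universe u

theorem int_dvd_of_memIdeal {p : ℕ} {M : Ideal AlgInt} (hM : IsPModular p M) {z : ℤ}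
    (h : helper24.MemIdeal M (z : ℂ)) : (p : ℤ) ∣ z := by
  by_contra hnd
  obtain ⟨n, hn⟩ : ∃ n : ℕ, z = (n : ℤ) ∨ z = -(n : ℤ) := ⟨z.natAbs, Int.natAbs_eq z⟩
  have h1 : ¬ p ∣ n := by
    intro hpn
    apply hnd
    rcases hn with rfl | rfl
    · exact_mod_cast hpn
    · rw [dvd_neg]; exact_mod_cast hpn
  have h2 : helper24.MemIdeal M ((n : ℕ) : ℂ) := by
    rcases hn with rfl | rfl
    · have := h
      push_cast at this
      exact this
    · have := h.neg
      push_cast at this
      rw [neg_neg] at this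
      exact this
  exact helper24.natCast_not_memLocalIdeal hM h1 (h2.memLocalIdeal hM.2.1.ne_top)

/-- `ξ(1) ≡ ξ(z)` modulo `p` for a `p`-element `z`, when both are rational integers -/
theorem char_p_element_congr {Z : Type u} [Group Z] [Fintype Z] {p : ℕ} (hp : p.Prime)
    {ξ : Z → ℂ} (hξ : IsCharacter Z ξ) (z : Z) {j : ℕ} (hz : z ^ (p ^ j) = 1) (d : ℕ) (n : ℤ)
    (h1 : ξ 1 = d) (hn : ξ z = n) : (d : ℤ) ≡ n [ZMOD p] := by
  obtain ⟨M, hM⟩ := helper24.exists_isPModular hp
  have h := helper24.char_congr_pregular_part hM hξ z 1 (Commute.one_right z) hz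
  rw [mul_one, hn, h1] at h
  have h2 : helper24.MemIdeal M (((n - d : ℤ)) : ℂ) := by push_cast; exact h
  have h3 := int_dvd_of_memIdeal hM h2
  exact Int.modEq_iff_dvd.mpr h3

section Main
variable {Γ : Type u} [Group Γ] [Fintype Γ] (G : Subgroup Γ) [hG : G.Normal] [Fintype G] (s : Γ)
  [Fintype (fixC G s)]

/-- multiplicities modulo `p` in the cyclic `p`-group case -/
theorem cyclic_p_mult {p : ℕ} (hp : p.Prime) {a : ℕ} (hord : orderOf s = p ^ a)
    {χ : G → ℂ} (hχ : IsIrrCharacter G χ) {χh : Γ → ℂ} (hχh : IsIrrCharacter Γ χh)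
    (hext : ∀ g : G, χh g = χ g) (β : IrrCharacter (fixC G s)) (ε : ℤ)
    (hval : ∀ c : fixC G s, χh ((c : Γ) * s) = (ε : ℂ) * (β : fixC G s → ℂ) c)
    (β'' : IrrCharacter (fixC G s)) :
    ∃ m : ℕ, classInner (fun c : fixC G s => χ ⟨c, fixC_le G s c.2⟩) (β'' : fixC G s → ℂ) = m ∧
      (m : ℤ) ≡ (if β'' = β then ε else 0) [ZMOD p] := by
  classical
  have : Fintype (Subgroup.zpowers s) := Fintype.ofFinite _
  have hχhc : IsCharacter Γ χh := helper24.irr_isCharacter hχh
  have hξ := xi_isCharacter G s (helper24.irr_isCharacter β''.2) hχhc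
  have hres : IsCharacter (fixC G s) (fun c : fixC G s => χh (c : Γ)) :=
    helper8.isCharacter_comp_monoidHom (fixC G s).subtype hχhc
  obtain ⟨m, hm⟩ := helper12.classInner_char_nat hres (helper24.irr_isCharacter β''.2)
  have e1 : (fun c : fixC G s => χ ⟨c, fixC_le G s c.2⟩) = fun c : fixC G s => χh (c : Γ) :=
    funext (fun c => (hext ⟨c, fixC_le G s c.2⟩).symm)
  refine ⟨m, by rw [e1]; exact hm, ?_⟩
  have h1 : xi G s (β'' : fixC G s → ℂ) χh 1 = m := by rw [xi_at_one, hm]
  have h2 : xi G s (β'' : fixC G s → ℂ) χh ⟨s, Subgroup.mem_zpowers s⟩ =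
      ((if β'' = β then ε else 0 : ℤ) : ℂ) := by
    rw [xi_at_s]
    have e2 : (fun c : fixC G s => χh ((c : Γ) * s)) = (ε : ℂ) • (β : fixC G s → ℂ) := by
      funext c
      rw [hval c, Pi.smul_apply, smul_eq_mul]
    rw [e2, helper24.classInner_smul_left, helper24.irr_classInner β.2 β''.2]
    by_cases hb : β'' = β
    · rw [if_pos hb, if_pos (congrArg Subtype.val hb.symm), mul_one]
    · rw [if_neg hb, if_neg (fun h => hb (Subtype.ext h.symm)), mul_zero, Int.cast_zero]
  have hz : (⟨s, Subgroup.mem_zpowers s⟩ : Subgroup.zpowers s) ^ (p ^ a) = 1 := by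
    apply Subtype.ext
    rw [Subgroup.coe_pow, Subgroup.coe_one, ← hord]
    exact pow_orderOf_eq_one s
  exact char_p_element_congr hp hξ _ hz m _ h1 h2

end Main

end Cfsg.Agent.helper22
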