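import Mathlib
import Cfsg.Agent.Lib_helper22_Glaub7

set_option autoImplicit false
set_option linter.unusedSectionVars false
set_option linter.unusedVariables false

/-!
Glauberman correspondence, part 8 (helper22): an abstract form of the `p`-group correspondence
(`[χ_C, β] ≢ 0 mod p`), with base case, transfer along isomorphisms and composition.
-/

namespace Cfsg.Agent.helper22

open Cfsg
open scoped ComplexConjugate

universe u

/-- abstract `p`-Glauberman correspondence -/
structure GCorrAbs (p : ℕ) {B C : Type u} [Group B] [Group C] [Fintype C] (ι : C →* B)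
    (Inv : IrrCharacter B → Prop) : Prop where
  exist : ∀ χ : IrrCharacter B, Inv χ → ∃ (β : IrrCharacter C) (ε : ℤ), (ε = 1 ∨ ε = -1) ∧
    ∀ β'' : IrrCharacter C, ∃ m : ℕ,
      classInner (fun c : C => (χ : B → ℂ) (ι c)) (β'' : C → ℂ) = m ∧
      (m : ℤ) ≡ (if β'' = β then ε else 0) [ZMOD p]
  inj : ∀ χ χ' : IrrCharacter B, Inv χ → Inv χ' → ∀ (β : IrrCharacter C) (m m' : ℕ),
    classInner (fun c : C => (χ : B → ℂ) (ι c)) (β : C → ℂ) = m → ¬ p ∣ m →
    classInner (fun c : C => (χ' : B → ℂ) (ι c)) (β : C → ℂ) = m' → ¬ p ∣ m' → χ = χ'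
  surj : ∀ β : IrrCharacter C, ∃ χ : IrrCharacter B, Inv χ ∧ ∃ m : ℕ,
    classInner (fun c : C => (χ : B → ℂ) (ι c)) (β : C → ℂ) = m ∧ ¬ p ∣ m

theorem not_dvd_of_modEq_sign {p : ℕ} (hp : p.Prime) {m : ℕ} {ε : ℤ} (hε : ε = 1 ∨ ε = -1)
    (h : (m : ℤ) ≡ ε [ZMOD p]) : ¬ p ∣ m := by
  intro hd
  have h1 : (p : ℤ) ∣ (m : ℤ) := by exact_mod_cast hd
  have h2 : (p : ℤ) ∣ ε := by
    have := (Int.modEq_iff_dvd.mp h)
    have h3 : ε = (ε - m) + m := by ring
    rw [h3]
    exact dvd_add this h1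
  have h4 : (p : ℤ) ∣ 1 := by
    rcases hε with rfl | rfl
    · exact h2
    · rwa [dvd_neg] at h2
  have h5 : p ∣ 1 := by exact_mod_cast h4
  exact hp.one_lt.ne' (Nat.dvd_one.mp h5)

theorem dvd_of_modEq_zero {p : ℕ} {m : ℕ} (h : (m : ℤ) ≡ 0 [ZMOD p]) : p ∣ m := by
  have := Int.modEq_zero_iff_dvd.mp h
  exact_mod_cast this

section Basic
variable {p : ℕ} {B C : Type u} [Group B] [Group C] [Fintype C] {ι : C →* B}
  {Inv : IrrCharacter B → Prop}

/-- the correspondent is the only constituent with multiplicity prime to `p` -/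
theorem corr_unique {χ : IrrCharacter B} {β : IrrCharacter C} {ε : ℤ}
    (h : ∀ β'' : IrrCharacter C, ∃ m : ℕ,
      classInner (fun c : C => (χ : B → ℂ) (ι c)) (β'' : C → ℂ) = m ∧
      (m : ℤ) ≡ (if β'' = β then ε else 0) [ZMOD p])
    (β'' : IrrCharacter C) (m : ℕ)
    (hm : classInner (fun c : C => (χ : B → ℂ) (ι c)) (β'' : C → ℂ) = m) (hpm : ¬ p ∣ m) :
    β'' = β := by
  by_contra hne
  obtain ⟨m', hm', hmod⟩ := h β''
  rw [if_neg hne] at hmod
  have : m = m' := by
    have : (m : ℂ) = (m' : ℂ) := by rw [← hm, ← hm']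
    exact_mod_cast this
  rw [this] at hpm
  exact hpm (dvd_of_modEq_zero hmod)

theorem corr_mult {χ : IrrCharacter B} {β : IrrCharacter C} {ε : ℤ}
    (h : ∀ β'' : IrrCharacter C, ∃ m : ℕ,
      classInner (fun c : C => (χ : B → ℂ) (ι c)) (β'' : C → ℂ) = m ∧
      (m : ℤ) ≡ (if β'' = β then ε else 0) [ZMOD p])
    (β'' : IrrCharacter C) (m : ℕ)
    (hm : classInner (fun c : C => (χ : B → ℂ) (ι c)) (β'' : C → ℂ) = m) :
    (m : ℤ) ≡ (if β'' = β then ε else 0) [ZMOD p] := by
  obtain ⟨m', hm', hmod⟩ := h β''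
  have : m = m' := by
    have : (m : ℂ) = (m' : ℂ) := by rw [← hm, ← hm']
    exact_mod_cast this
  rw [this]
  exact hmod

end Basic

/-- base case: the identity correspondence -/
theorem GCorrAbs.refl (p : ℕ) (hp : p.Prime) (B : Type u) [Group B] [Fintype B]
    (Inv : IrrCharacter B → Prop) (hInv : ∀ χ, Inv χ) :
    GCorrAbs p (MonoidHom.id B) Inv := by
  classical
  refine ⟨?_, ?_, ?_⟩
  · intro χ _
    refine ⟨χ, 1, Or.inl rfl, fun β'' => ?_⟩
    refine ⟨if β'' = χ then 1 else 0, ?_, ?_⟩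
    · show classInner (χ : B → ℂ) (β'' : B → ℂ) = _
      rw [helper24.irr_classInner χ.2 β''.2]
      by_cases hb : β'' = χ
      · rw [if_pos hb, if_pos (congrArg Subtype.val hb.symm), Nat.cast_one]
      · rw [if_neg hb, if_neg (fun h => hb (Subtype.ext h.symm)), Nat.cast_zero]
    · by_cases hb : β'' = χ
      · rw [if_pos hb, if_pos hb, Nat.cast_one]
      · rw [if_neg hb, if_neg hb, Nat.cast_zero]
  · intro χ χ' _ _ β m m' hm hpm hm' hpm'
    have key : ∀ (ψ : IrrCharacter B) (k : ℕ), classInner (ψ : B → ℂ) (β : B → ℂ) = k →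
        ¬ p ∣ k → ψ = β := by
      intro ψ k hk hpk
      by_contra hne
      rw [helper24.irr_classInner ψ.2 β.2, if_neg (fun h => hne (Subtype.ext h))] at hk
      have : k = 0 := by exact_mod_cast hk.symm
      rw [this] at hpk
      exact hpk (dvd_zero p)
    rw [key χ m hm hpm, key χ' m' hm' hpm']
  · intro β
    refine ⟨β, hInv β, 1, ?_, ?_⟩
    · show classInner (β : B → ℂ) (β : B → ℂ) = _
      rw [helper24.irr_classInner_self β.2, Nat.cast_one]
    · intro h
      exact hp.one_lt.ne' (Nat.dvd_one.mp h)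

/-- composing an irreducible character with an isomorphism -/
def irrComp {B' B : Type u} [Group B'] [Group B] (e : B' ≃* B) (χ : IrrCharacter B) :
    IrrCharacter B' :=
  ⟨fun b' => (χ : B → ℂ) (e b'), helper8.isIrrCharacter_comp_mulEquiv e χ.2⟩

theorem irrComp_apply {B' B : Type u} [Group B'] [Group B] (e : B' ≃* B) (χ : IrrCharacter B)
    (b' : B') : (irrComp e χ : B' → ℂ) b' = (χ : B → ℂ) (e b') := rfl

theorem irrComp_symm {B' B : Type u} [Group B'] [Group B] (e : B' ≃* B) (χ : IrrCharacter B) :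
    irrComp e.symm (irrComp e χ) = χ := by
  apply Subtype.ext
  funext b
  rw [irrComp_apply, irrComp_apply, MulEquiv.apply_symm_apply]

theorem irrComp_symm' {B' B : Type u} [Group B'] [Group B] (e : B' ≃* B) (χ : IrrCharacter B') :
    irrComp e (irrComp e.symm χ) = χ := by
  apply Subtype.ext
  funext b
  rw [irrComp_apply, irrComp_apply, MulEquiv.symm_apply_apply]

/-- transfer along isomorphisms -/
theorem GCorrAbs.transfer {p : ℕ} {B' C' B C : Type u} [Group B'] [Group C'] [Group B] [Group C]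
    [Fintype C'] [Fintype C] {ι' : C' →* B'} {ι : C →* B} {Inv' : IrrCharacter B' → Prop}
    {Inv : IrrCharacter B → Prop} (e : B' ≃* B) (eC : C' ≃* C)
    (hcomp : ∀ c' : C', ι (eC c') = e (ι' c'))
    (hInv : ∀ χ : IrrCharacter B, Inv χ ↔ Inv' (irrComp e χ))
    (h : GCorrAbs p ι' Inv') : GCorrAbs p ι Inv := by
  classical
  have hci : ∀ (χ : IrrCharacter B) (β : IrrCharacter C),
      classInner (fun c : C => (χ : B → ℂ) (ι c)) (β : C → ℂ) =
      classInner (fun c' : C' => (irrComp e χ : B' → ℂ) (ι' c')) (irrComp eC β : C' → ℂ) := by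
    intro χ β
    rw [← helper12.classInner_comp_mulEquiv eC]
    congr 1
    funext c'
    rw [hcomp, irrComp_apply]
  refine ⟨?_, ?_, ?_⟩
  · intro χ hχ
    obtain ⟨β', ε, hε, hmult⟩ := h.exist (irrComp e χ) ((hInv χ).mp hχ)
    refine ⟨irrComp eC.symm β', ε, hε, fun β'' => ?_⟩
    obtain ⟨m, hm, hmod⟩ := hmult (irrComp eC β'')
    refine ⟨m, by rw [hci]; exact hm, ?_⟩
    have hiff : (β'' = irrComp eC.symm β') ↔ (irrComp eC β'' = β') := by
      constructor
      · intro h1; rw [h1, irrComp_symm']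
      · intro h1; rw [← h1, irrComp_symm]
    by_cases hb : β'' = irrComp eC.symm β'
    · rw [if_pos hb]; rw [if_pos (hiff.mp hb)] at hmod; exact hmod
    · rw [if_neg hb]; rw [if_neg (fun h1 => hb (hiff.mpr h1))] at hmod; exact hmod
  · intro χ χ' hχ hχ' β m m' hm hpm hm' hpm'
    have h1 := h.inj (irrComp e χ) (irrComp e χ') ((hInv χ).mp hχ) ((hInv χ').mp hχ')
      (irrComp eC β) m m' (by rw [← hci]; exact hm) hpm (by rw [← hci]; exact hm') hpm'
    rw [← irrComp_symm e χ, ← irrComp_symm e χ', h1]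
  · intro β
    obtain ⟨χ', hχ', m, hm, hpm⟩ := h.surj (irrComp eC β)
    refine ⟨irrComp e.symm χ', ?_, m, ?_, hpm⟩
    · rw [hInv, irrComp_symm']; exact hχ'
    · rw [hci, irrComp_symm']; exact hm

end Cfsg.Agent.helper22
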