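import Mathlib
import Cfsg.Agent.Lib_helper22_Glaub8

set_option autoImplicit false
set_option linter.unusedSectionVars false
set_option linter.unusedVariables false

/-!
Glauberman correspondence, part 9 (helper22): composition of abstract `p`-correspondences.
-/

namespace Cfsg.Agent.helper22

open Cfsg
open scoped ComplexConjugate

universe u

section Comp
variable {p : ℕ} {G B C : Type u} [Group G] [Group B] [Group C] [Fintype B] [Fintype C]
  {ι₁ : B →* G} {ι₂ : C →* B}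

theorem comp_key (hp : p.Prime) {χ : IrrCharacter G} {β' : IrrCharacter B} {ε₁ : ℤ}
    (h : ∀ γ : IrrCharacter B, ∃ m : ℕ,
      classInner (fun b : B => (χ : G → ℂ) (ι₁ b)) (γ : B → ℂ) = m ∧
      (m : ℤ) ≡ (if γ = β' then ε₁ else 0) [ZMOD p])
    (β'' : IrrCharacter C) (k : ℕ)
    (hk : classInner (fun c : C => (β' : B → ℂ) (ι₂ c)) (β'' : C → ℂ) = k) :
    ∃ m : ℕ, classInner (fun c : C => (χ : G → ℂ) (ι₁ (ι₂ c))) (β'' : C → ℂ) = m ∧
      (m : ℤ) ≡ ε₁ * k [ZMOD p] := by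
  classical
  haveI : Fintype (IrrCharacter B) := Fintype.ofFinite _
  have hχB : IsCharacter B (fun b : B => (χ : G → ℂ) (ι₁ b)) :=
    helper8.isCharacter_comp_monoidHom ι₁ (helper24.irr_isCharacter χ.2)
  obtain ⟨n, hexp, hn, -⟩ := helper12.char_decomp hχB
  have hkk : ∀ γ : IrrCharacter B, ∃ k : ℕ,
      classInner (fun c : C => (γ : B → ℂ) (ι₂ c)) (β'' : C → ℂ) = k := fun γ =>
    helper12.classInner_char_nat
      (helper8.isCharacter_comp_monoidHom ι₂ (helper24.irr_isCharacter γ.2))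
      (helper24.irr_isCharacter β''.2)
  choose kk hkk using hkk
  have hexp2 : (fun c : C => (χ : G → ℂ) (ι₁ (ι₂ c))) =
      ∑ γ : IrrCharacter B, (n γ : ℂ) • (fun c : C => (γ : B → ℂ) (ι₂ c)) := by
    funext c
    have h1 : (χ : G → ℂ) (ι₁ (ι₂ c)) =
        (∑ γ : IrrCharacter B, (n γ : ℂ) • (γ : B → ℂ)) (ι₂ c) := congrFun hexp (ι₂ c)
    rw [h1, Finset.sum_apply, Finset.sum_apply]
    rfl
  refine ⟨∑ γ, n γ * kk γ, ?_, ?_⟩
  · rw [hexp2, helper24.classInner_sum_left]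
    push_cast
    apply Finset.sum_congr rfl
    intro γ _
    rw [helper24.classInner_smul_left, hkk γ]
  · have hkβ' : kk β' = k := by
      have : (kk β' : ℂ) = (k : ℂ) := (hkk β').symm.trans hk
      exact_mod_cast this
    have hsplit : ((∑ γ, n γ * kk γ : ℕ) : ℤ) = (n β' : ℤ) * (kk β' : ℤ) +
        ∑ γ ∈ Finset.univ.erase β', (n γ : ℤ) * (kk γ : ℤ) := by
      push_cast
      exact (Finset.add_sum_erase Finset.univ (fun γ => (n γ : ℤ) * (kk γ : ℤ))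
        (Finset.mem_univ β')).symm
    rw [hsplit]
    have hrest : (p : ℤ) ∣ ∑ γ ∈ Finset.univ.erase β', (n γ : ℤ) * (kk γ : ℤ) := by
      apply Finset.dvd_sum
      intro γ hγ
      have hne : γ ≠ β' := (Finset.mem_erase.mp hγ).1
      have := corr_mult h γ (n γ) (hn γ)
      rw [if_neg hne] at this
      exact Dvd.dvd.mul_right (Int.modEq_zero_iff_dvd.mp this) _
    have hmain : (n β' : ℤ) ≡ ε₁ [ZMOD p] := by
      have := corr_mult h β' (n β') (hn β')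
      rwa [if_pos rfl] at this
    have h1 : (n β' : ℤ) * (kk β' : ℤ) ≡ ε₁ * (k : ℤ) [ZMOD p] := by
      rw [hkβ']; exact hmain.mul_right _
    have h2 : ∑ γ ∈ Finset.univ.erase β', (n γ : ℤ) * (kk γ : ℤ) ≡ 0 [ZMOD p] :=
      Int.modEq_zero_iff_dvd.mpr hrest
    have := h1.add h2
    rwa [add_zero] at this

theorem not_dvd_of_sign_mul {p : ℕ} (hp : p.Prime) {m k : ℕ} {ε : ℤ} (hε : ε = 1 ∨ ε = -1)
    (h : (m : ℤ) ≡ ε * k [ZMOD p]) : (¬ p ∣ m) ↔ (¬ p ∣ k) := by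
  have h1 : (p : ℤ) ∣ (m : ℤ) ↔ (p : ℤ) ∣ (k : ℤ) := by
    have hd := Int.modEq_iff_dvd.mp h
    constructor
    · intro hm
      have h2 : (p : ℤ) ∣ ε * k := by
        have : ε * k = (ε * k - m) + m := by ring
        rw [this]
        exact dvd_add hd hm
      rcases hε with rfl | rfl
      · simpa using h2
      · simpa using h2
    · intro hk
      have h2 : (p : ℤ) ∣ ε * k := Dvd.dvd.mul_left hk ε
      have : (m : ℤ) = ε * k - (ε * k - m) := by ring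
      rw [this]
      exact dvd_sub h2 hd
  constructor
  · intro hm hk
    exact hm (by exact_mod_cast h1.mpr (by exact_mod_cast hk))
  · intro hk hm
    exact hk (by exact_mod_cast h1.mp (by exact_mod_cast hm))

/-- composition of two abstract correspondences -/
theorem GCorrAbs.comp (hp : p.Prime) {Inv₁ : IrrCharacter G → Prop}
    {Inv₂ : IrrCharacter B → Prop} {Inv : IrrCharacter G → Prop}
    (h₁ : GCorrAbs p ι₁ Inv₁) (h₂ : GCorrAbs p ι₂ Inv₂)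
    (hI1 : ∀ χ, Inv χ → Inv₁ χ)
    (hI2 : ∀ χ, Inv χ → ∀ (β' : IrrCharacter B) (m : ℕ),
      classInner (fun b : B => (χ : G → ℂ) (ι₁ b)) (β' : B → ℂ) = m → ¬ p ∣ m → Inv₂ β')
    (hI3 : ∀ χ, Inv₁ χ → ∀ β' : IrrCharacter B, Inv₂ β' → ∀ m : ℕ,
      classInner (fun b : B => (χ : G → ℂ) (ι₁ b)) (β' : B → ℂ) = m → ¬ p ∣ m → Inv χ) :
    GCorrAbs p (ι₁.comp ι₂) Inv := by
  classical
  -- data attached to an invariant character
  have hdata : ∀ χ : IrrCharacter G, Inv χ → ∃ (β' : IrrCharacter B) (ε₁ : ℤ),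
      (ε₁ = 1 ∨ ε₁ = -1) ∧ Inv₂ β' ∧
      (∀ γ : IrrCharacter B, ∃ m : ℕ,
        classInner (fun b : B => (χ : G → ℂ) (ι₁ b)) (γ : B → ℂ) = m ∧
        (m : ℤ) ≡ (if γ = β' then ε₁ else 0) [ZMOD p]) := by
    intro χ hχ
    obtain ⟨β', ε₁, hε₁, hm₁⟩ := h₁.exist χ (hI1 χ hχ)
    obtain ⟨n, hn, hnmod⟩ := hm₁ β'
    rw [if_pos rfl] at hnmod
    have hpn := not_dvd_of_modEq_sign hp hε₁ hnmod
    exact ⟨β', ε₁, hε₁, hI2 χ hχ β' n hn hpn, hm₁⟩
  refine ⟨?_, ?_, ?_⟩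
  · intro χ hχ
    obtain ⟨β', ε₁, hε₁, hβ'inv, hm₁⟩ := hdata χ hχ
    obtain ⟨β, ε₂, hε₂, hm₂⟩ := h₂.exist β' hβ'inv
    refine ⟨β, ε₁ * ε₂, ?_, fun β'' => ?_⟩
    · rcases hε₁ with rfl | rfl <;> rcases hε₂ with rfl | rfl <;> simp
    · obtain ⟨k, hk, hkmod⟩ := hm₂ β''
      obtain ⟨m, hm, hmmod⟩ := comp_key hp hm₁ β'' k hk
      refine ⟨m, hm, ?_⟩
      have h3 : ε₁ * (k : ℤ) ≡ ε₁ * (if β'' = β then ε₂ else 0) [ZMOD p] := hkmod.mul_left _
      have h4 := hmmod.trans h3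
      by_cases hb : β'' = β
      · rw [if_pos hb] at h4 ⊢; exact h4
      · rw [if_neg hb] at h4 ⊢; rwa [mul_zero] at h4
  · intro χ χ' hχ hχ' β m m' hm hpm hm' hpm'
    obtain ⟨β', ε₁, hε₁, hβ'inv, hm₁⟩ := hdata χ hχ
    obtain ⟨β'₂, ε₁', hε₁', hβ'inv₂, hm₁'⟩ := hdata χ' hχ'
    obtain ⟨k, hk⟩ := helper12.classInner_char_nat
      (helper8.isCharacter_comp_monoidHom ι₂ (helper24.irr_isCharacter β'.2))
      (helper24.irr_isCharacter β.2)
    obtain ⟨k', hk'⟩ := helper12.classInner_char_nat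
      (helper8.isCharacter_comp_monoidHom ι₂ (helper24.irr_isCharacter β'₂.2))
      (helper24.irr_isCharacter β.2)
    obtain ⟨m₀, hm₀, hm₀mod⟩ := comp_key hp hm₁ β k hk
    obtain ⟨m₀', hm₀', hm₀mod'⟩ := comp_key hp hm₁' β k' hk'
    have e1 : m = m₀ := by
      have : (m : ℂ) = (m₀ : ℂ) := hm.symm.trans hm₀
      exact_mod_cast this
    have e2 : m' = m₀' := by
      have : (m' : ℂ) = (m₀' : ℂ) := hm'.symm.trans hm₀'
      exact_mod_cast this
    rw [e1] at hpm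
    rw [e2] at hpm'
    have hpk := (not_dvd_of_sign_mul hp hε₁ hm₀mod).mp hpm
    have hpk' := (not_dvd_of_sign_mul hp hε₁' hm₀mod').mp hpm'
    have hβeq : β' = β'₂ := h₂.inj β' β'₂ hβ'inv hβ'inv₂ β k k' hk hpk hk' hpk'
    obtain ⟨n, hn, hnmod⟩ := hm₁ β'
    rw [if_pos rfl] at hnmod
    obtain ⟨n', hn', hnmod'⟩ := hm₁' β'₂
    rw [if_pos rfl] at hnmod'
    rw [← hβeq] at hn'
    exact h₁.inj χ χ' (hI1 χ hχ) (hI1 χ' hχ') β' n n' hn (not_dvd_of_modEq_sign hp hε₁ hnmod)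
      hn' (not_dvd_of_modEq_sign hp hε₁' hnmod')
  · intro β
    obtain ⟨β', hβ'inv, k, hk, hpk⟩ := h₂.surj β
    obtain ⟨χ, hχ₁, n, hn, hpn⟩ := h₁.surj β'
    have hχ : Inv χ := hI3 χ hχ₁ β' hβ'inv n hn hpn
    refine ⟨χ, hχ, ?_⟩
    obtain ⟨β'₀, ε₁, hε₁, hm₁⟩ := h₁.exist χ hχ₁
    have hβ' : β' = β'₀ := corr_unique hm₁ β' n hn hpn
    rw [← hβ'] at hm₁
    obtain ⟨m, hm, hmmod⟩ := comp_key hp hm₁ β k hk
    exact ⟨m, hm, (not_dvd_of_sign_mul hp hε₁ hmmod).mpr hpk⟩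

end Comp

end Cfsg.Agent.helper22
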