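import Mathlib
import Cfsg.Agent.Lib_helper22_Glaub9

set_option autoImplicit false
set_option linter.unusedSectionVars false
set_option linter.unusedVariables false

/-!
Glauberman correspondence, part 10 (helper22): the cyclic `p`-group case as an abstract
`p`-correspondence (ambient group `Γ = G ⟨s⟩`).
-/

namespace Cfsg.Agent.helper22

open Cfsg
open scoped ComplexConjugate

universe u

section Main
variable {Γ : Type u} [Group Γ] [Fintype Γ] (G : Subgroup Γ) [hG : G.Normal] [Fintype G] (s : Γ)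
  [Fintype (fixC G s)]

theorem cyclic_p_gcorr (hcop : (Nat.card G).Coprime (orderOf s))
    (htop : G ⊔ Subgroup.zpowers s = ⊤) {p : ℕ} (hp : p.Prime) {a : ℕ}
    (hord : orderOf s = p ^ a) :
    GCorrAbs p (Subgroup.inclusion (fixC_le G s))
      (fun χ : IrrCharacter G => irrPerm G s χ = χ) := by
  classical
  have hdata : ∀ χ : IrrCharacter G, irrPerm G s χ = χ →
      ∃ (χh : IrrCharacter Γ) (β : IrrCharacter (fixC G s)) (ε : ℤ),
      (∀ g : G, (χh : Γ → ℂ) g = (χ : G → ℂ) g) ∧ (ε = 1 ∨ ε = -1) ∧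
      (∀ c : fixC G s, (χh : Γ → ℂ) ((c : Γ) * s) = (ε : ℂ) * (β : fixC G s → ℂ) c) ∧
      ∀ β'' : IrrCharacter (fixC G s), ∃ m : ℕ,
        classInner (fun c : fixC G s => (χ : G → ℂ) (Subgroup.inclusion (fixC_le G s) c))
          (β'' : fixC G s → ℂ) = m ∧
        (m : ℤ) ≡ (if β'' = β then ε else 0) [ZMOD p] := by
    intro χ hχ
    obtain ⟨χh, β, ε, hext, hdet, hε, hval⟩ := cyclic_data G s hcop htop χ hχ
    exact ⟨χh, β, ε, hext, hε, hval, fun β'' =>
      cyclic_p_mult G s hp hord χ.2 χh.2 hext β ε hval β''⟩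
  refine ⟨?_, ?_, ?_⟩
  · intro χ hχ
    obtain ⟨χh, β, ε, hext, hε, hval, hmult⟩ := hdata χ hχ
    exact ⟨β, ε, hε, hmult⟩
  · intro χ χ' hχ hχ' β m m' hm hpm hm' hpm'
    obtain ⟨χh, β₁, ε, hext, hε, hval, hmult⟩ := hdata χ hχ
    obtain ⟨χh', β₂, ε', hext', hε', hval', hmult'⟩ := hdata χ' hχ'
    have e1 : β = β₁ := corr_unique hmult β m hm hpm
    have e2 : β = β₂ := corr_unique hmult' β m' hm' hpm'
    rw [← e1] at hval
    rw [← e2] at hval'
    exact Subtype.ext (cyclic_injective G s hcop htop χ.2 χ'.2 χh.2 χh'.2 hext hext' β.2 hε hε'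
      hval hval')
  · intro β
    obtain ⟨χ, χh, ε, hinv, hext, hdet, hε, hval⟩ := cyclic_surjective G s hcop htop β
    refine ⟨χ, (irrPerm_fixed_iff G s χ).mpr hinv, ?_⟩
    obtain ⟨m, hm, hmod⟩ := cyclic_p_mult G s hp hord χ.2 χh.2 hext β ε hval β
    rw [if_pos rfl] at hmod
    exact ⟨m, hm, not_dvd_of_modEq_sign hp hε hmod⟩

end Main

end Cfsg.Agent.helper22
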