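import Mathlib
import Cfsg.Agent.Lib_helper22_Glaub10

set_option autoImplicit false
set_option linter.unusedSectionVars false
set_option linter.unusedVariables false

/-!
Glauberman correspondence, part 11 (helper22): the cyclic `p`-group case in general position
(`B ≤ Γ` normalized by a `p`-element `s`, `p ∤ |B|`), by transport to `B ⟨s⟩`.
-/

namespace Cfsg.Agent.helper22

open Cfsg
open scoped ComplexConjugate

universe u

theorem fixC_le' {Γ : Type u} [Group Γ] (B : Subgroup Γ) (s : Γ) : fixC B s ≤ B := inf_le_left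

section Transport
variable {Γ : Type u} [Group Γ] [Fintype Γ] (B : Subgroup Γ) [Fintype B] (s : Γ)
  [Fintype (fixC B s)]

theorem cyclic_p_general
    (hnorm : ∀ z ∈ Subgroup.zpowers s, ∀ b ∈ B, z * b * z⁻¹ ∈ B) {p : ℕ} (hp : p.Prime) {a : ℕ}
    (hord : orderOf s = p ^ a) (hpB : ¬ p ∣ Nat.card B) :
    GCorrAbs p (Subgroup.inclusion (fixC_le' B s))
      (fun χ : IrrCharacter B => ∀ b : B,
        (χ : B → ℂ) ⟨s * b * s⁻¹, hnorm s (Subgroup.mem_zpowers s) b b.2⟩ = (χ : B → ℂ) b) := by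
  classical
  obtain ⟨H, hH⟩ : ∃ H : Subgroup Γ, H = B ⊔ Subgroup.zpowers s := ⟨_, rfl⟩
  have hBH : B ≤ H := by rw [hH]; exact le_sup_left
  have hsH : s ∈ H := by rw [hH]; exact Subgroup.mem_sup_right (Subgroup.mem_zpowers s)
  have hHnorm : H ≤ Subgroup.normalizer (B : Set Γ) := by
    rw [hH]
    apply sup_le Subgroup.le_normalizer
    exact Subgroup.le_normalizer_iff.mpr hnorm
  obtain ⟨B', hB'⟩ : ∃ B' : Subgroup H, B' = B.subgroupOf H := ⟨_, rfl⟩
  obtain ⟨s', hs'⟩ : ∃ s' : H, s' = ⟨s, hsH⟩ := ⟨_, rfl⟩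
  have hs'coe : (s' : Γ) = s := by rw [hs']
  have hB'n : B'.Normal := by
    rw [hB']
    exact (Subgroup.normal_subgroupOf_iff_le_normalizer hBH).mpr hHnorm
  have htop' : B' ⊔ Subgroup.zpowers s' = ⊤ := by
    apply Subgroup.map_injective (Subgroup.subtype_injective H)
    rw [Subgroup.map_sup, MonoidHom.map_zpowers, hB', Subgroup.map_subgroupOf_eq_of_le hBH,
      ← MonoidHom.range_eq_map, Subgroup.range_subtype]
    show B ⊔ Subgroup.zpowers (s' : Γ) = H
    rw [hs'coe, hH]
  obtain ⟨e, he⟩ : ∃ e : B' ≃* B, ∀ b' : B', ((e b' : B) : Γ) = ((b' : H) : Γ) := by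
    subst hB'
    exact ⟨Subgroup.subgroupOfEquivOfLe hBH, fun b' => Subgroup.subgroupOfEquivOfLe_apply_coe hBH b'⟩
  have hcard : Nat.card B' = Nat.card B := Nat.card_congr e.toEquiv
  have hords : orderOf s' = orderOf s := by rw [hs']; exact Subgroup.orderOf_mk s hsH
  have hcop' : (Nat.card B').Coprime (orderOf s') := by
    rw [hcard, hords, hord]
    exact Nat.Coprime.pow_right a ((Nat.Prime.coprime_iff_not_dvd hp).mpr hpB).symm
  let _ : Fintype H := Fintype.ofFinite _
  let _ : Fintype B' := Fintype.ofFinite _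
  let _ : Fintype (fixC B' s') := Fintype.ofFinite _
  have hmemB' : ∀ x : H, x ∈ B' ↔ (x : Γ) ∈ B := by
    intro x; rw [hB']; exact Subgroup.mem_subgroupOf
  -- the isomorphism of fixed point subgroups
  have hfix_to : ∀ x : fixC B' s', (((x : H) : Γ)) ∈ fixC B s := by
    intro x
    have hx := (mem_fixC B' s').mp x.2
    unfold fixC
    rw [Subgroup.mem_inf, Subgroup.mem_centralizer_iff]
    refine ⟨(hmemB' _).mp hx.1, fun y hy => ?_⟩
    rw [Set.mem_singleton_iff] at hy
    rw [hy]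
    have := congrArg (Subtype.val : H → Γ) hx.2
    rw [Subgroup.coe_mul, Subgroup.coe_mul, hs'coe] at this
    exact this.symm
  obtain ⟨f, hf⟩ : ∃ f : fixC B' s' →* fixC B s, ∀ x, ((f x : fixC B s) : Γ) = ((x : H) : Γ) :=
    ⟨MonoidHom.mk' (fun x => ⟨((x : H) : Γ), hfix_to x⟩) (fun x y => rfl), fun x => rfl⟩
  have hfbij : Function.Bijective f := by
    constructor
    · intro x y hxy
      apply Subtype.ext
      apply Subtype.ext
      rw [← hf x, ← hf y, hxy]
    · intro c
      have hcB : (c : Γ) ∈ B := fixC_le' B s c.2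
      have hcs : (c : Γ) * s = s * (c : Γ) := by
        have h1 := c.2
        unfold fixC at h1
        rw [Subgroup.mem_inf, Subgroup.mem_centralizer_iff] at h1
        exact (h1.2 s rfl).symm
      have hmem : (⟨(c : Γ), hBH hcB⟩ : H) ∈ fixC B' s' := by
        rw [mem_fixC]
        refine ⟨(hmemB' _).mpr hcB, ?_⟩
        apply Subtype.ext
        rw [Subgroup.coe_mul, Subgroup.coe_mul, hs'coe]
        exact hcs
      refine ⟨⟨⟨(c : Γ), hBH hcB⟩, hmem⟩, ?_⟩
      apply Subtype.ext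
      rw [hf]
  obtain ⟨eC, heC⟩ : ∃ eC : fixC B' s' ≃* fixC B s, ∀ x, eC x = f x :=
    ⟨MulEquiv.ofBijective f hfbij, fun x => rfl⟩
  have hmain := cyclic_p_gcorr B' s' hcop' htop' hp (hords.trans hord)
  refine GCorrAbs.transfer e eC ?_ ?_ hmain
  · intro c'
    apply Subtype.ext
    rw [he]
    show ((eC c' : fixC B s) : Γ) = _
    rw [heC, hf]
    rfl
  · intro χ
    rw [irrPerm_fixed_iff]
    constructor
    · intro h g
      rw [irrComp_apply, irrComp_apply, ← h (e g)]
      refine congrArg (χ : B → ℂ) (Subtype.ext ?_)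
      rw [he]
      show (s' : Γ) * ((g : H) : Γ) * (s' : Γ)⁻¹ = s * ((e g : B) : Γ) * s⁻¹
      rw [hs'coe, he]
    · intro h b
      have h1 := h (e.symm b)
      rw [irrComp_apply, irrComp_apply, MulEquiv.apply_symm_apply] at h1
      rw [← h1]
      refine congrArg (χ : B → ℂ) (Subtype.ext ?_)
      rw [he]
      show s * (b : Γ) * s⁻¹ = (s' : Γ) * (((e.symm b : B') : H) : Γ) * (s' : Γ)⁻¹
      rw [hs'coe, ← he, MulEquiv.apply_symm_apply]

end Transport

end Cfsg.Agent.helper22
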