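import Mathlib
import Cfsg.Agent.Lib_helper22_Glaub11

set_option autoImplicit false
set_option linter.unusedSectionVars false
set_option linter.unusedVariables false

/-!
Glauberman correspondence, part 12 (helper22): group-theoretic preparations for the `p`-group case.
-/

namespace Cfsg.Agent.helper22

open Cfsg
open scoped ComplexConjugate

universe u

/-- a nontrivial finite `p`-group has a normal subgroup of index `p`, with cyclic quotient -/
theorem pgroup_exists_max {P : Type u} [Group P] [Finite P] {p : ℕ} (hp : p.Prime)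
    (hP : IsPGroup p P) (hnt : Nontrivial P) :
    ∃ (T : Subgroup P) (x : P), T.Normal ∧ Nat.card T < Nat.card P ∧
      T ⊔ Subgroup.zpowers x = ⊤ := by
  haveI := Fact.mk hp
  obtain ⟨k, hk⟩ := hP.exists_card_eq
  have hk0 : k ≠ 0 := by
    intro h0
    rw [h0, pow_zero] at hk
    have := Finite.one_lt_card (α := P)
    omega
  obtain ⟨j, rfl⟩ := Nat.exists_eq_succ_of_ne_zero hk0
  obtain ⟨T, hT⟩ := Sylow.exists_subgroup_card_pow_prime p (G := P) (n := j)
    (by rw [hk]; exact pow_dvd_pow p (Nat.le_succ j))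
  have hidx : T.index = p := by
    have h1 := Subgroup.card_mul_index T
    rw [hT, hk, pow_succ] at h1
    exact Nat.eq_of_mul_eq_mul_left (pow_pos hp.pos j) h1
  have hTn : T.Normal := by
    apply Subgroup.normal_of_index_eq_minFac_card
    rw [hidx, hk, Nat.Prime.pow_minFac hp (Nat.succ_ne_zero j)]
  have hlt : Nat.card T < Nat.card P := by
    rw [hT, hk]
    exact Nat.pow_lt_pow_right hp.one_lt (Nat.lt_succ_self j)
  obtain ⟨x, hx⟩ : ∃ x : P, x ∉ T := by
    by_contra hall
    push Not at hall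
    have : T = ⊤ := (Subgroup.eq_top_iff' T).mpr hall
    rw [this, Subgroup.card_top] at hlt
    exact lt_irrefl _ hlt
  refine ⟨T, x, hTn, hlt, ?_⟩
  have hle : T ≤ T ⊔ Subgroup.zpowers x := le_sup_left
  have h1 := Subgroup.relIndex_mul_index hle
  rw [hidx] at h1
  have h2 : (T ⊔ Subgroup.zpowers x).index ∣ p := Dvd.intro_left _ h1
  rcases (Nat.dvd_prime hp).mp h2 with h3 | h3
  · exact Subgroup.index_eq_one.mp h3
  · exfalso
    rw [h3] at h1
    have h4 : T.relIndex (T ⊔ Subgroup.zpowers x) = 1 := by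
      have : T.relIndex (T ⊔ Subgroup.zpowers x) * p = 1 * p := by rw [h1, one_mul]
      exact Nat.eq_of_mul_eq_mul_right hp.pos this
    have h5 := Subgroup.relIndex_eq_one.mp h4
    exact hx (h5 (Subgroup.mem_sup_right (Subgroup.mem_zpowers x)))

section Sub
variable {Γ : Type u} [Group Γ] [Finite Γ]

/-- the same inside an ambient group -/
theorem pgroup_exists_max_sub {p : ℕ} (hp : p.Prime) (S : Subgroup Γ) (hS : IsPGroup p S)
    (hne : S ≠ ⊥) :
    ∃ (T : Subgroup Γ) (s₀ : Γ), T ≤ S ∧ s₀ ∈ S ∧ (∀ s ∈ S, ∀ t ∈ T, s * t * s⁻¹ ∈ T) ∧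
      Nat.card T < Nat.card S ∧ S = T ⊔ Subgroup.zpowers s₀ := by
  have hnt : Nontrivial S := (Subgroup.nontrivial_iff_ne_bot S).mpr hne
  obtain ⟨T₀, x, hTn, hlt, hsup⟩ := pgroup_exists_max hp hS hnt
  refine ⟨T₀.map S.subtype, (x : Γ), ?_, x.2, ?_, ?_, ?_⟩
  · intro t ht
    obtain ⟨t₀, _, rfl⟩ := Subgroup.mem_map.mp ht
    exact t₀.2
  · intro s hs t ht
    obtain ⟨t₀, ht₀, rfl⟩ := Subgroup.mem_map.mp ht
    refine Subgroup.mem_map.mpr ⟨⟨s, hs⟩ * t₀ * ⟨s, hs⟩⁻¹, hTn.conj_mem t₀ ht₀ ⟨s, hs⟩, rfl⟩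
  · rw [Nat.card_congr (T₀.equivMapOfInjective S.subtype (Subgroup.subtype_injective S)).symm.toEquiv]
    exact hlt
  · have h1 := congrArg (Subgroup.map S.subtype) hsup
    rw [Subgroup.map_sup, MonoidHom.map_zpowers, ← MonoidHom.range_eq_map,
      Subgroup.range_subtype] at h1
    exact h1.symm

end Sub

end Cfsg.Agent.helper22
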