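import Mathlib
import Cfsg.Agent.Lib_helper22_Glaub12

set_option autoImplicit false
set_option linter.unusedSectionVars false
set_option linter.unusedVariables false

/-!
Glauberman correspondence, part 13 (helper22): invariance under a subgroup, conjugation
automorphisms of subgroups, and the twisting lemmas.
-/

namespace Cfsg.Agent.helper22

open Cfsg
open scoped ComplexConjugate

universe u

section Inv
variable {Γ : Type u} [Group Γ]

/-- invariance of a function on `G` under conjugation by the elements of `S` -/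
def InvUnder (S G : Subgroup Γ) (χ : G → ℂ) : Prop :=
  ∀ s ∈ S, ∀ g g' : G, (g' : Γ) = s * g * s⁻¹ → χ g' = χ g

/-- the subgroup of the elements normalizing `G` and fixing `χ` -/
def invStab (G : Subgroup Γ) (χ : G → ℂ) : Subgroup Γ where
  carrier := {t | (∀ g ∈ G, t * g * t⁻¹ ∈ G) ∧ (∀ g ∈ G, t⁻¹ * g * t ∈ G) ∧
    ∀ g g' : G, (g' : Γ) = t * g * t⁻¹ → χ g' = χ g}
  one_mem' := by
    refine ⟨fun g hg => ?_, fun g hg => ?_, fun g g' h => ?_⟩
    · simpa using hg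
    · simpa using hg
    · have : g' = g := Subtype.ext (by rw [h]; group)
      rw [this]
  mul_mem' := by
    rintro a b ⟨ha1, ha2, ha3⟩ ⟨hb1, hb2, hb3⟩
    refine ⟨fun g hg => ?_, fun g hg => ?_, fun g g' h => ?_⟩
    · have := ha1 _ (hb1 g hg)
      have e : a * b * g * (a * b)⁻¹ = a * (b * g * b⁻¹) * a⁻¹ := by group
      rw [e]; exact this
    · have := hb2 _ (ha2 g hg)
      have e : (a * b)⁻¹ * g * (a * b) = b⁻¹ * (a⁻¹ * g * a) * b := by group
      rw [e]; exact this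
    · have h1 := hb3 g ⟨b * g * b⁻¹, hb1 g g.2⟩ rfl
      have h2 := ha3 ⟨b * g * b⁻¹, hb1 g g.2⟩ g' (by rw [h]; group)
      rw [h2, h1]
  inv_mem' := by
    rintro a ⟨ha1, ha2, ha3⟩
    refine ⟨fun g hg => ?_, fun g hg => ?_, fun g g' h => ?_⟩
    · have := ha2 g hg
      rwa [inv_inv]
    · have := ha1 g hg
      rwa [inv_inv]
    · have := ha3 g' g (by rw [h]; group)
      exact this.symm

theorem invUnder_of_le_invStab {S G : Subgroup Γ} {χ : G → ℂ} (h : S ≤ invStab G χ) :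
    InvUnder S G χ := fun s hs => (h hs).2.2

theorem le_invStab {S G : Subgroup Γ} {χ : G → ℂ} (hnorm : ∀ s ∈ S, ∀ g ∈ G, s * g * s⁻¹ ∈ G)
    (h : InvUnder S G χ) : S ≤ invStab G χ := by
  intro s hs
  refine ⟨hnorm s hs, fun g hg => ?_, h s hs⟩
  have := hnorm s⁻¹ (S.inv_mem hs) g hg
  rwa [inv_inv] at this

/-- conjugation by a normalizing element as an automorphism of a subgroup -/
def conjEquiv (A : Subgroup Γ) (z : Γ) (h1 : ∀ a ∈ A, z * a * z⁻¹ ∈ A)
    (h2 : ∀ a ∈ A, z⁻¹ * a * z ∈ A) : A ≃* A where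
  toFun a := ⟨z * a * z⁻¹, h1 a a.2⟩
  invFun a := ⟨z⁻¹ * a * z, h2 a a.2⟩
  left_inv a := Subtype.ext (by
    show z⁻¹ * (z * (a : Γ) * z⁻¹) * z = a
    group)
  right_inv a := Subtype.ext (by
    show z * (z⁻¹ * (a : Γ) * z) * z⁻¹ = a
    group)
  map_mul' a b := Subtype.ext (by
    show z * ((a : Γ) * (b : Γ)) * z⁻¹ = (z * (a : Γ) * z⁻¹) * (z * (b : Γ) * z⁻¹)
    group)

theorem conjEquiv_coe (A : Subgroup Γ) (z : Γ) (h1 : ∀ a ∈ A, z * a * z⁻¹ ∈ A)
    (h2 : ∀ a ∈ A, z⁻¹ * a * z ∈ A) (a : A) :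
    ((conjEquiv A z h1 h2 a : A) : Γ) = z * (a : Γ) * z⁻¹ := rfl

end Inv

section Twist
variable {G B : Type u} [Group G] [Group B] [Fintype B]

theorem twist_inner_1 (ι₁ : B →* G) (σB : B ≃* B) (χ : IrrCharacter G)
    (h : ∀ b : B, (χ : G → ℂ) (ι₁ (σB b)) = (χ : G → ℂ) (ι₁ b)) (β' : IrrCharacter B) :
    classInner (fun b : B => (χ : G → ℂ) (ι₁ b)) (irrComp σB β' : B → ℂ) =
      classInner (fun b : B => (χ : G → ℂ) (ι₁ b)) (β' : B → ℂ) := by
  rw [← helper12.classInner_comp_mulEquiv σB (fun b : B => (χ : G → ℂ) (ι₁ b)) (β' : B → ℂ)]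
  congr 1
  funext b
  exact (h b).symm

theorem twist_inner_2 (ι₁ : B →* G) (σB : B ≃* B) (σG : G ≃* G)
    (hσ : ∀ b : B, ι₁ (σB b) = σG (ι₁ b)) (χ : IrrCharacter G) (β' : IrrCharacter B) :
    classInner (fun b : B => (irrComp σG χ : G → ℂ) (ι₁ b)) (irrComp σB β' : B → ℂ) =
      classInner (fun b : B => (χ : G → ℂ) (ι₁ b)) (β' : B → ℂ) := by
  rw [← helper12.classInner_comp_mulEquiv σB (fun b : B => (χ : G → ℂ) (ι₁ b)) (β' : B → ℂ)]
  congr 1
  funext b
  rw [irrComp_apply, hσ]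

end Twist

end Cfsg.Agent.helper22
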