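import Mathlib
import Cfsg.Agent.Lib_helper22_Glaub13

set_option autoImplicit false
set_option linter.unusedSectionVars false
set_option linter.unusedVariables false

/-!
Glauberman correspondence, part 14 (helper22): the `p`-group case (Isaacs 13.14) by induction.
-/

namespace Cfsg.Agent.helper22

open Cfsg
open scoped ComplexConjugate

universe u

section Main
variable {Γ : Type u} [Group Γ]

theorem mem_fixC' (G : Subgroup Γ) (s : Γ) {c : Γ} : c ∈ fixC G s ↔ c ∈ G ∧ c * s = s * c := by
  unfold fixC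
  rw [Subgroup.mem_inf, Subgroup.mem_centralizer_iff]
  constructor
  · rintro ⟨h1, h2⟩
    exact ⟨h1, (h2 s rfl).symm⟩
  · rintro ⟨h1, h2⟩
    refine ⟨h1, fun x hx => ?_⟩
    rw [Set.mem_singleton_iff] at hx
    rw [hx]; exact h2.symm

theorem centralizer_sup_zpowers (T : Subgroup Γ) (s₀ : Γ) (x : Γ) :
    x ∈ Subgroup.centralizer ((T ⊔ Subgroup.zpowers s₀ : Subgroup Γ) : Set Γ) ↔
      x ∈ Subgroup.centralizer (T : Set Γ) ∧ x * s₀ = s₀ * x := by
  constructor
  · intro h
    rw [Subgroup.mem_centralizer_iff] at h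
    refine ⟨?_, ?_⟩
    · rw [Subgroup.mem_centralizer_iff]
      intro t ht
      exact h t (Subgroup.mem_sup_left ht)
    · exact (h s₀ (Subgroup.mem_sup_right (Subgroup.mem_zpowers s₀))).symm
  · rintro ⟨h1, h2⟩
    rw [Subgroup.mem_centralizer_iff] at h1 ⊢
    have hT : T ≤ Subgroup.centralizer ({x} : Set Γ) := by
      intro t ht
      rw [Subgroup.mem_centralizer_iff]
      intro y hy
      rw [Set.mem_singleton_iff] at hy
      rw [hy]
      exact (h1 t ht).symm
    have hs : Subgroup.zpowers s₀ ≤ Subgroup.centralizer ({x} : Set Γ) := by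
      rw [Subgroup.zpowers_le, Subgroup.mem_centralizer_iff]
      intro y hy
      rw [Set.mem_singleton_iff] at hy
      rw [hy]
      exact h2
    intro h hh
    have := (sup_le hT hs) hh
    rw [Subgroup.mem_centralizer_iff] at this
    exact (this x rfl).symm

variable [Fintype Γ]

/-- **Glauberman correspondence for `p`-groups** (Isaacs 13.14), abstract form. -/
theorem pgroup_gcorr {p : ℕ} (hp : p.Prime) (n : ℕ) :
    ∀ (G S : Subgroup Γ), Nat.card S ≤ n → (∀ s ∈ S, ∀ g ∈ G, s * g * s⁻¹ ∈ G) →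
    IsPGroup p S → (S ≠ ⊥ → ¬ p ∣ Nat.card G) →
    ∀ (C : Subgroup Γ) [Fintype C] (hC : C = G ⊓ Subgroup.centralizer (S : Set Γ)) (hCG : C ≤ G),
    GCorrAbs p (Subgroup.inclusion hCG)
      (fun χ : IrrCharacter G => InvUnder S G (χ : G → ℂ)) := by
  classical
  induction n with
  | zero =>
    intro G S hS
    exfalso
    have := Nat.card_pos (α := S)
    omega
  | succ n ih =>
    intro G S hS hnorm hpS hpG' C _ hC hCG
    by_cases hS1 : S = ⊥
    · have hCeq : C = G := by
        rw [hC, hS1]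
        ext x
        rw [Subgroup.mem_inf, Subgroup.mem_centralizer_iff]
        constructor
        · exact fun h => h.1
        · intro hx
          refine ⟨hx, fun h hh => ?_⟩
          have : h = 1 := by simpa using hh
          rw [this, one_mul, mul_one]
      subst hCeq
      have hι : Subgroup.inclusion hCG = MonoidHom.id _ := by
        ext x; rfl
      rw [hι]
      apply GCorrAbs.refl p hp
      intro χ s hs g g' h
      rw [hS1, Subgroup.mem_bot] at hs
      have : g' = g := Subtype.ext (by rw [h, hs]; group)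
      rw [this]
    · have hpG : ¬ p ∣ Nat.card G := hpG' hS1
      obtain ⟨T, s₀, hTS, hs₀, hTn, hlt, hSeq⟩ := pgroup_exists_max_sub hp S hpS hS1
      obtain ⟨B, hB⟩ : ∃ B : Subgroup Γ, B = G ⊓ Subgroup.centralizer (T : Set Γ) := ⟨_, rfl⟩
      have hBG : B ≤ G := by rw [hB]; exact inf_le_left
      letI : Fintype B := Fintype.ofFinite _
      have h₁ := ih G T (by omega) (fun s hs => hnorm s (hTS hs)) (hpS.to_le hTS) (fun _ => hpG) B hB hBG
      have hnormB : ∀ z ∈ S, ∀ b ∈ B, z * b * z⁻¹ ∈ B := by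
        intro z hz b hb
        rw [hB, Subgroup.mem_inf, Subgroup.mem_centralizer_iff] at hb ⊢
        refine ⟨hnorm z hz b hb.1, fun t ht => ?_⟩
        have h1 : z⁻¹ * t * z ∈ T := by
          have := hTn z⁻¹ (S.inv_mem hz) t ht
          rwa [inv_inv] at this
        have h2 := hb.2 _ h1
        calc t * (z * b * z⁻¹) = z * ((z⁻¹ * t * z) * b) * z⁻¹ := by group
          _ = z * (b * (z⁻¹ * t * z)) * z⁻¹ := by rw [h2]
          _ = z * b * z⁻¹ * t := by group
      have hnormB' : ∀ z ∈ S, ∀ b ∈ B, z⁻¹ * b * z ∈ B := by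
        intro z hz b hb
        have := hnormB z⁻¹ (S.inv_mem hz) b hb
        rwa [inv_inv] at this
      have hnorm' : ∀ z ∈ S, ∀ g ∈ G, z⁻¹ * g * z ∈ G := by
        intro z hz g hg
        have := hnorm z⁻¹ (S.inv_mem hz) g hg
        rwa [inv_inv] at this
      have hzS : Subgroup.zpowers s₀ ≤ S := by rw [Subgroup.zpowers_le]; exact hs₀
      obtain ⟨a, ha⟩ : ∃ a, orderOf s₀ = p ^ a := by
        obtain ⟨k, hk⟩ := hpS ⟨s₀, hs₀⟩
        have h1 : s₀ ^ (p ^ k) = 1 := by
          have := congrArg (Subtype.val : S → Γ) hk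
          simpa using this
        obtain ⟨a, -, ha⟩ := (Nat.dvd_prime_pow hp).mp (orderOf_dvd_of_pow_eq_one h1)
        exact ⟨a, ha⟩
      have hpB : ¬ p ∣ Nat.card B := fun h => hpG (h.trans (Subgroup.card_dvd_of_le hBG))
      have hCeq : C = fixC B s₀ := by
        rw [hC, hSeq]
        ext x
        rw [mem_fixC', Subgroup.mem_inf, centralizer_sup_zpowers, hB, Subgroup.mem_inf]
        tauto
      subst hCeq
      have h₂ := cyclic_p_general B s₀ (fun z hz => hnormB z (hzS hz)) hp ha hpB
      have hιeq : Subgroup.inclusion hCG =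
          (Subgroup.inclusion hBG).comp (Subgroup.inclusion (fixC_le' B s₀)) := by
        ext x; rfl
      rw [hιeq]
      obtain ⟨σB, hσB⟩ : ∃ σB : B ≃* B, σB = conjEquiv B s₀ (hnormB s₀ hs₀) (hnormB' s₀ hs₀) :=
        ⟨_, rfl⟩
      obtain ⟨σG, hσG⟩ : ∃ σG : G ≃* G, σG = conjEquiv G s₀ (hnorm s₀ hs₀) (hnorm' s₀ hs₀) :=
        ⟨_, rfl⟩
      have hσBcoe : ∀ b : B, ((σB b : B) : Γ) = s₀ * (b : Γ) * s₀⁻¹ := by
        intro b; rw [hσB]; rfl
      have hσGcoe : ∀ g : G, ((σG g : G) : Γ) = s₀ * (g : Γ) * s₀⁻¹ := by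
        intro g; rw [hσG]; rfl
      have hI1 : ∀ χ : IrrCharacter G, InvUnder S G (χ : G → ℂ) → InvUnder T G (χ : G → ℂ) :=
        fun χ hχ s hs => hχ s (hTS hs)
      refine GCorrAbs.comp hp h₁ h₂ hI1 ?_ ?_
      · intro χ hχ β' m hm hpm b
        have hχσ : ∀ b : B, (χ : G → ℂ) (Subgroup.inclusion hBG (σB b)) =
            (χ : G → ℂ) (Subgroup.inclusion hBG b) := fun b =>
          hχ s₀ hs₀ (Subgroup.inclusion hBG b) (Subgroup.inclusion hBG (σB b)) (hσBcoe b)
        have h1 := twist_inner_1 (Subgroup.inclusion hBG) σB χ hχσ β'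
        obtain ⟨β'₀, ε₁, hε₁, hm₁⟩ := h₁.exist χ (hI1 χ hχ)
        have e1 : β' = β'₀ := corr_unique hm₁ β' m hm hpm
        have e2 : irrComp σB β' = β'₀ := corr_unique hm₁ _ m (h1.trans hm) hpm
        have e3 : irrComp σB β' = β' := e2.trans e1.symm
        have h3 : (irrComp σB β' : B → ℂ) b = (β' : B → ℂ) b := by rw [e3]
        rw [irrComp_apply] at h3
        rw [← h3]
        exact congrArg (β' : B → ℂ) (Subtype.ext (hσBcoe b).symm)
      · intro χ hχ₁ β' hβ' m hm hpm
        have hσ : ∀ b : B, Subgroup.inclusion hBG (σB b) = σG (Subgroup.inclusion hBG b) := by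
          intro b
          apply Subtype.ext
          rw [hσGcoe]
          exact hσBcoe b
        have hβσ : irrComp σB β' = β' := by
          apply Subtype.ext
          funext b
          rw [irrComp_apply, ← hβ' b]
          exact congrArg (β' : B → ℂ) (Subtype.ext (hσBcoe b))
        have h2 := twist_inner_2 (Subgroup.inclusion hBG) σB σG hσ χ β'
        rw [hβσ] at h2
        have hχσ₁ : InvUnder T G (irrComp σG χ : G → ℂ) := by
          intro t ht g g' hgg'
          rw [irrComp_apply, irrComp_apply]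
          refine hχ₁ (s₀ * t * s₀⁻¹) (hTn s₀ hs₀ t ht) (σG g) (σG g') ?_
          rw [hσGcoe, hσGcoe, hgg']
          group
        have heq : irrComp σG χ = χ :=
          h₁.inj _ χ hχσ₁ hχ₁ β' m m (h2.trans hm) hpm hm hpm
        apply invUnder_of_le_invStab
        rw [hSeq]
        apply sup_le
        · exact le_invStab (fun s hs => hnorm s (hTS hs)) hχ₁
        · rw [Subgroup.zpowers_le]
          refine ⟨hnorm s₀ hs₀, hnorm' s₀ hs₀, fun g g' h => ?_⟩
          have h4 : (irrComp σG χ : G → ℂ) g = (χ : G → ℂ) g := by rw [heq]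
          rw [irrComp_apply] at h4
          rw [← h4]
          exact congrArg (χ : G → ℂ) (Subtype.ext (h.trans (hσGcoe g).symm))

end Main

end Cfsg.Agent.helper22
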