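import Cfsg.Statements.S0043
import Mathlib

set_option autoImplicit false
set_option linter.style.haveILetI false
set_option linter.unusedVariables false
open Cfsg

namespace Cfsg.Agent.S0043

/-- A minimal normal subgroup of a finite solvable group is abelian, and for some prime p all of its elements have order dividing p. -/
theorem result {G : Type*} [Group G] [Finite G] [Group.IsSolvable G]
    (N : Subgroup G) [N.Normal] (hN : N ≠ ⊥) (hmin : ∀ M : Subgroup G, M.Normal → M ≤ N → M = ⊥ ∨ M = N) :
    IsMulCommutative N ∧ ∃ p : ℕ, p.Prime ∧ ∀ x ∈ N, x ^ p = 1 := by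
  -- Step 1: abelian
  have hD : ⁅N, N⁆ = ⊥ := by
    have hDn : (⁅N, N⁆ : Subgroup G).Normal := Subgroup.commutator_normal N N
    have hDle : ⁅N, N⁆ ≤ N := (Subgroup.commutator_le_inf N N).trans inf_le_left
    rcases hmin _ hDn hDle with h | h
    · exact h
    · exfalso
      haveI : Nontrivial N := (Subgroup.nontrivial_iff_ne_bot N).mpr hN
      have h1 := Group.IsSolvable.commutator_lt_top_of_nontrivial N
      have h2 := Subgroup.map_subtype_commutator N
      rw [h] at h2
      have h3 : commutator N = ⊤ := by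
        apply Subgroup.map_injective N.subtype_injective
        rw [h2, ← MonoidHom.range_eq_map, Subgroup.range_subtype]
      exact h1.ne h3
  have hcomm : IsMulCommutative N :=
    Subgroup.le_centralizer_iff_isMulCommutative.mp (Subgroup.commutator_eq_bot_iff_le_centralizer.mp hD)
  refine ⟨hcomm, ?_⟩
  have hc : ∀ x ∈ N, ∀ y ∈ N, x * y = y * x := by
    intro x hx y hy
    have := mul_comm' (⟨x, hx⟩ : N) ⟨y, hy⟩
    exact congrArg Subtype.val this
  -- Step 2: exponent p
  have hcard : Nat.card N ≠ 1 := fun h => hN (Subgroup.card_eq_one.mp h)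
  obtain ⟨p, hp, hpd⟩ := Nat.exists_prime_and_dvd hcard
  haveI : Fact p.Prime := ⟨hp⟩
  refine ⟨p, hp, ?_⟩
  let Ω : Subgroup G :=
    { carrier := {x | x ∈ N ∧ x ^ p = 1}
      one_mem' := ⟨N.one_mem, one_pow p⟩
      mul_mem' := by
        rintro a b ⟨ha, ha'⟩ ⟨hb, hb'⟩
        refine ⟨N.mul_mem ha hb, ?_⟩
        have : Commute a b := hc a ha b hb
        rw [this.mul_pow, ha', hb', one_mul]
      inv_mem' := by
        rintro a ⟨ha, ha'⟩
        exact ⟨N.inv_mem ha, by rw [inv_pow, ha', inv_one]⟩ }
  have hΩn : Ω.Normal := by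
    constructor
    rintro x ⟨hx, hx'⟩ g
    refine ⟨Subgroup.Normal.conj_mem inferInstance x hx g, ?_⟩
    rw [conj_pow, hx', mul_one, mul_inv_cancel]
  have hΩle : Ω ≤ N := fun x hx => hx.1
  obtain ⟨x, hx⟩ := exists_prime_orderOf_dvd_card' (G := N) p hpd
  have hΩne : Ω ≠ ⊥ := by
    intro h
    have hxΩ : (x : G) ∈ Ω := ⟨x.2, by
      have := pow_orderOf_eq_one x
      rw [hx] at this
      exact_mod_cast congrArg Subtype.val this⟩
    rw [h, Subgroup.mem_bot] at hxΩ
    have : x = 1 := Subtype.ext hxΩ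
    rw [this, orderOf_one] at hx
    exact hp.one_lt.ne hx
  rcases hmin Ω hΩn hΩle with h | h
  · exact absurd h hΩne
  · intro y hy
    have : y ∈ Ω := by rw [h]; exact hy
    exact this.2

end Cfsg.Agent.S0043
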