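import Mathlib
import Cfsg.Agent.S0041
import Cfsg.Agent.S0043
import Cfsg.Agent.Lib_helper23_Hall
import Cfsg.Agent.Lib_helper7_Cores

set_option autoImplicit false
open Cfsg

/-! Higman's lemma: a finite solvable group whose order is divisible by three distinct primes
`p, q, r` has an element of order `pq`, `pr` or `qr`. -/

namespace Cfsg.Agent.helper20

universe u

/-- existence of a minimal normal subgroup -/
theorem exists_minimal_normal (Y : Type*) [Group Y] [Finite Y] [Nontrivial Y] :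
    ∃ N : Subgroup Y, N.Normal ∧ N ≠ ⊥ ∧
      ∀ M : Subgroup Y, M.Normal → M ≤ N → M = ⊥ ∨ M = N := by
  classical
  have hwf : WellFounded ((· < ·) : Subgroup Y → Subgroup Y → Prop) := wellFounded_lt
  let S : Set (Subgroup Y) := {N | N.Normal ∧ N ≠ ⊥}
  have hne : S.Nonempty := ⟨⊤, inferInstance, top_ne_bot⟩
  obtain ⟨N, hN, hmin⟩ := hwf.has_min S hne
  refine ⟨N, hN.1, hN.2, fun M hM hle => ?_⟩
  by_cases hM0 : M = ⊥
  · exact Or.inl hM0
  · right
    by_contra hne'
    exact hmin M ⟨hM, hM0⟩ (lt_of_le_of_ne hle hne')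

/-- a nonidentity element has a power of prime order -/
theorem exists_pow_prime_order {X : Type*} [Group X] [Finite X] (a : X) (ha : a ≠ 1) :
    ∃ t k : ℕ, t.Prime ∧ t ∣ orderOf a ∧ orderOf (a ^ k) = t := by
  have h1 : orderOf a ≠ 1 := fun h => ha (orderOf_eq_one_iff.1 h)
  refine ⟨(orderOf a).minFac, orderOf a / (orderOf a).minFac, Nat.minFac_prime h1,
    Nat.minFac_dvd _, ?_⟩
  exact orderOf_pow_orderOf_div (orderOf_pos a).ne' (Nat.minFac_dvd _)

/-- the fixed-point-free branch -/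
theorem exists_order_mul_of_fpf {X : Type u} [Group X] [Finite X] (N K₀ L' : Subgroup X)
    [hNn : N.Normal] [hNab : IsMulCommutative N] (hN : N ≠ ⊥)
    (hfpf : ∀ a ∈ K₀, a ≠ 1 → N ⊓ Subgroup.centralizer {a} = ⊥)
    (hL'K : L' ≤ K₀) (hL'ne : L' ≠ ⊥) (hL'ab : IsMulCommutative L') (t t' : ℕ) (ht : t.Prime)
    (ht' : t'.Prime) (htt' : t ≠ t')
    (hexp : ∀ x ∈ L', x ^ t = 1) (hnorm : K₀ ≤ Subgroup.normalizer (L' : Set X))
    (y : X) (hyK : y ∈ K₀) (hy : orderOf y = t') : ∃ g : X, orderOf g = t * t' := by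
  classical
  have hNtop : ∀ A : Subgroup X, A ≤ Subgroup.normalizer (N : Set X) := by
    intro A
    rw [Subgroup.normalizer_eq_top_iff.2 hNn]; exact le_top
  have hcyc : IsCyclic L' :=
    S0041.result L' N hN (hNtop L') (fun a ha => hfpf a (hL'K ha)) (Or.inl hL'ab)
  have hcardL : Nat.card L' = t := by
    obtain ⟨ℓ, hℓ⟩ := hcyc.exists_generator
    have ho : orderOf ℓ = Nat.card L' := orderOf_eq_card_of_forall_mem_zpowers hℓ
    have hℓt : ℓ ^ t = 1 := by
      apply Subtype.ext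
      have := hexp (ℓ : X) ℓ.2
      simpa using this
    have hd : Nat.card L' ∣ t := ho ▸ orderOf_dvd_of_pow_eq_one hℓt
    rcases (Nat.dvd_prime ht).1 hd with h1 | h1
    · exfalso
      exact hL'ne ((Subgroup.card_eq_one).1 h1)
    · exact h1
  have hyN : Subgroup.zpowers y ≤ Subgroup.normalizer (L' : Set X) := by
    rw [Subgroup.zpowers_le]; exact hnorm hyK
  obtain ⟨A, hA⟩ : ∃ A : Subgroup X, A = L' ⊔ Subgroup.zpowers y := ⟨_, rfl⟩
  have hAK : A ≤ K₀ := by
    rw [hA]; exact sup_le hL'K (by rw [Subgroup.zpowers_le]; exact hyK)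
  have hcop : Nat.Coprime t t' := (Nat.coprime_primes ht ht').2 htt'
  have hcardA : Nat.card A = t * t' := by
    apply le_antisymm
    · let f : L' × Subgroup.zpowers y → A := fun ab =>
        ⟨(ab.1 : X) * (ab.2 : X), by
          rw [hA]
          exact Subgroup.mul_mem _ (Subgroup.mem_sup_left ab.1.2) (Subgroup.mem_sup_right ab.2.2)⟩
      have hf : Function.Surjective f := by
        rintro ⟨x, hx⟩
        rw [hA] at hx
        obtain ⟨a, ha, b, hb, rfl⟩ := helper7.mem_sup_of_normalizer hyN hx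
        exact ⟨(⟨a, ha⟩, ⟨b, hb⟩), rfl⟩
      have := Nat.card_le_card_of_surjective f hf
      rw [Nat.card_prod, hcardL, Nat.card_zpowers, hy] at this
      exact this
    · apply Nat.le_of_dvd Nat.card_pos
      apply Nat.Coprime.mul_dvd_of_dvd_of_dvd hcop
      · rw [← hcardL]; exact Subgroup.card_dvd_of_le (hA ▸ le_sup_left)
      · rw [← hy, ← Nat.card_zpowers]; exact Subgroup.card_dvd_of_le (hA ▸ le_sup_right)
  have hcycA : IsCyclic A :=
    S0041.result A N hN (hNtop A) (fun a ha => hfpf a (hAK ha))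
      (Or.inr ⟨t, t', ht, ht', hcardA⟩)
  obtain ⟨g, hg⟩ := hcycA.exists_generator
  refine ⟨(g : X), ?_⟩
  rw [Subgroup.orderOf_coe, orderOf_eq_card_of_forall_mem_zpowers hg, hcardA]

/-- the case of a normal abelian `p`-subgroup -/
theorem exists_order_mul_of_normal {X : Type u} [Group X] [Finite X] (hsol : Group.IsSolvable X)
    (p q r : ℕ) (hp : p.Prime) (hq : q.Prime) (hr : r.Prime) (hpq : p ≠ q) (hpr : p ≠ r)
    (hqr : q ≠ r) (a b c : ℕ) (hb : 1 ≤ b) (hc : 1 ≤ c)
    (hcard : Nat.card X = p ^ a * (q ^ b * r ^ c)) (N : Subgroup X) [hNn : N.Normal]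
    (hN : N ≠ ⊥) (hNab : IsMulCommutative N) (hNp : ∀ x ∈ N, x ^ p = 1) :
    ∃ g : X, orderOf g = p * q ∨ orderOf g = p * r ∨ orderOf g = q * r := by
  classical
  have := hsol
  have hpF : Fact p.Prime := ⟨hp⟩
  have hcop : Nat.Coprime (q ^ b * r ^ c) (p ^ a) := by
    apply Nat.Coprime.mul_left
    · exact Nat.Coprime.pow _ _ ((Nat.coprime_primes hq hp).2 hpq.symm)
    · exact Nat.Coprime.pow _ _ ((Nat.coprime_primes hr hp).2 hpr.symm)
  obtain ⟨K₀, hK₀⟩ := helper23.hall_exists (G := X) (q ^ b * r ^ c) (p ^ a)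
    (by rw [hcard, mul_comm]) hcop
  have hordK : ∀ x ∈ K₀, ∀ t : ℕ, t.Prime → t ∣ orderOf x → t = q ∨ t = r := by
    intro x hx t ht htd
    have h1 : orderOf x ∣ q ^ b * r ^ c := by
      rw [← hK₀]
      have := orderOf_dvd_natCard (⟨x, hx⟩ : K₀)
      rwa [← Subgroup.orderOf_coe] at this
    have h2 := htd.trans h1
    rcases (Nat.Prime.dvd_mul ht).1 h2 with h3 | h3
    · left; exact (Nat.prime_dvd_prime_iff_eq ht hq).1 (ht.dvd_of_dvd_pow h3)
    · right; exact (Nat.prime_dvd_prime_iff_eq ht hr).1 (ht.dvd_of_dvd_pow h3)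
  by_cases hfix : ∃ a₀ ∈ K₀, a₀ ≠ 1 ∧ N ⊓ Subgroup.centralizer {a₀} ≠ ⊥
  · obtain ⟨a₀, ha₀K, ha₀1, ha₀⟩ := hfix
    obtain ⟨v, hv, hv1⟩ : ∃ v ∈ N ⊓ Subgroup.centralizer {a₀}, v ≠ 1 := by
      by_contra hcon
      push Not at hcon
      exact ha₀ ((Subgroup.eq_bot_iff_forall _).2 hcon)
    have hvN : v ∈ N := hv.1
    have hva : v * a₀ = a₀ * v := (Subgroup.mem_centralizer_singleton_iff.1 hv.2)
    have hvo : orderOf v = p := orderOf_eq_prime (hNp v hvN) hv1
    obtain ⟨t, k, ht, htd, hk⟩ := exists_pow_prime_order a₀ ha₀1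
    have hcomm : Commute v (a₀ ^ k) := (show Commute v a₀ from hva).pow_right k
    have htqr := hordK a₀ ha₀K t ht htd
    have hord : orderOf (v * a₀ ^ k) = p * t := by
      rw [hcomm.orderOf_mul_eq_mul_orderOf_of_coprime, hvo, hk]
      rw [hvo, hk]
      rcases htqr with h | h
      · rw [h]; exact (Nat.coprime_primes hp hq).2 hpq
      · rw [h]; exact (Nat.coprime_primes hp hr).2 hpr
    refine ⟨v * a₀ ^ k, ?_⟩
    rcases htqr with h | h
    · left; rw [hord, h]
    · right; left; rw [hord, h]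
  · push Not at hfix
    have hfpf : ∀ a ∈ K₀, a ≠ 1 → N ⊓ Subgroup.centralizer {a} = ⊥ := hfix
    have hK₀card : Nat.card K₀ = q ^ b * r ^ c := hK₀
    have : Nontrivial K₀ := by
      rw [← Finite.one_lt_card_iff_nontrivial, hK₀card]
      have h1 : 2 ≤ q ^ b := by
        calc 2 ≤ q := hq.two_le
          _ = q ^ 1 := (pow_one q).symm
          _ ≤ q ^ b := Nat.pow_le_pow_right hq.pos hb
      have h2 : 1 ≤ r ^ c := Nat.one_le_pow _ _ hr.pos
      nlinarith
    obtain ⟨L, hLn, hLne, hLmin⟩ := exists_minimal_normal K₀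
    have := hLn
    obtain ⟨hLab, t, ht, hLt⟩ := S0043.result L hLne hLmin
    have htF : Fact t.Prime := ⟨ht⟩
    obtain ⟨L', hL'⟩ : ∃ L' : Subgroup X, L' = L.map K₀.subtype := ⟨_, rfl⟩
    have hL'K : L' ≤ K₀ := by rw [hL']; exact Subgroup.map_subtype_le _
    have hL'ne : L' ≠ ⊥ := by
      rw [hL', Ne, Subgroup.map_eq_bot_iff_of_injective _ (Subgroup.subtype_injective _)]
      exact hLne
    have hL'ab : IsMulCommutative L' := by
      refine ⟨⟨?_⟩⟩
      rintro ⟨x, hx⟩ ⟨y, hy⟩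
      rw [hL'] at hx hy
      obtain ⟨x', hx', rfl⟩ := hx
      obtain ⟨y', hy', rfl⟩ := hy
      apply Subtype.ext
      have := hLab.is_comm.comm ⟨x', hx'⟩ ⟨y', hy'⟩
      have h2 := congrArg (fun z : L => ((z : K₀) : X)) this
      simpa using h2
    have hexp : ∀ x ∈ L', x ^ t = 1 := by
      intro x hx
      rw [hL'] at hx
      obtain ⟨x', hx', rfl⟩ := hx
      have := hLt x' hx'
      have h2 := congrArg (fun z : K₀ => (z : X)) this
      simpa using h2
    have hnorm : K₀ ≤ Subgroup.normalizer (L' : Set X) := by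
      intro k hk
      rw [Subgroup.mem_normalizer_iff]
      intro x
      rw [hL']
      constructor
      · rintro ⟨x', hx', rfl⟩
        refine ⟨⟨k, hk⟩ * x' * ⟨k, hk⟩⁻¹, hLn.conj_mem x' hx' ⟨k, hk⟩, ?_⟩
        simp
      · rintro ⟨x', hx', hxe⟩
        refine ⟨⟨k, hk⟩⁻¹ * x' * ⟨k, hk⟩, ?_, ?_⟩
        · have := hLn.conj_mem x' hx' ⟨k, hk⟩⁻¹
          simpa using this
        · have h1 : ((x' : K₀) : X) = k * x * k⁻¹ := hxe
          simp only [Subgroup.coe_subtype, Subgroup.coe_mul, Subgroup.coe_inv]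
          rw [h1]; group
    -- t is q or r
    have htqr : t = q ∨ t = r := by
      obtain ⟨z, hzL, hz1⟩ : ∃ z ∈ L', z ≠ 1 := by
        by_contra hcon
        push Not at hcon
        exact hL'ne ((Subgroup.eq_bot_iff_forall _).2 hcon)
      have hzo : orderOf z = t := orderOf_eq_prime (hexp z hzL) hz1
      exact hordK z (hL'K hzL) t ht (hzo ▸ dvd_rfl)
    have hcauchy : ∀ s : ℕ, s.Prime → s ∣ Nat.card K₀ → ∃ y ∈ K₀, orderOf y = s := by
      intro s hs hsd
      have : Fact s.Prime := ⟨hs⟩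
      obtain ⟨y, hy⟩ := exists_prime_orderOf_dvd_card' s hsd
      exact ⟨(y : X), y.2, by rw [Subgroup.orderOf_coe]; exact hy⟩
    rcases htqr with h | h
    · obtain ⟨y, hyK, hy⟩ := hcauchy r hr (by
        rw [hK₀card]; exact Dvd.dvd.mul_left (dvd_pow_self r (by omega)) _)
      obtain ⟨g, hg⟩ := exists_order_mul_of_fpf N K₀ L' hN hfpf hL'K hL'ne hL'ab t r ht hr
        (h ▸ hqr) hexp hnorm y hyK hy
      exact ⟨g, Or.inr (Or.inr (by rw [hg, h]))⟩
    · obtain ⟨y, hyK, hy⟩ := hcauchy q hq (by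
        rw [hK₀card]; exact Dvd.dvd.mul_right (dvd_pow_self q (by omega)) _)
      obtain ⟨g, hg⟩ := exists_order_mul_of_fpf N K₀ L' hN hfpf hL'K hL'ne hL'ab t q ht hq
        (h ▸ hqr.symm) hexp hnorm y hyK hy
      exact ⟨g, Or.inr (Or.inr (by rw [hg, h, mul_comm]))⟩

end Cfsg.Agent.helper20

namespace Cfsg.Agent.helper20

universe u

/-- **Higman's lemma**: a finite solvable group whose order is divisible by three distinct primes
has an element whose order is the product of two of them. -/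
theorem higman_three_primes {G : Type u} [Group G] [Finite G] (hsol : Group.IsSolvable G)
    (p q r : ℕ) (hp : p.Prime) (hq : q.Prime) (hr : r.Prime) (hpq : p ≠ q) (hpr : p ≠ r)
    (hqr : q ≠ r) (hpG : p ∣ Nat.card G) (hqG : q ∣ Nat.card G) (hrG : r ∣ Nat.card G) :
    ∃ g : G, orderOf g = p * q ∨ orderOf g = p * r ∨ orderOf g = q * r := by
  classical
  have := hsol
  have hn0 : Nat.card G ≠ 0 := Nat.card_pos.ne'
  obtain ⟨a, ha⟩ : ∃ a, a = (Nat.card G).factorization p := ⟨_, rfl⟩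
  obtain ⟨b, hb⟩ : ∃ b, b = (Nat.card G).factorization q := ⟨_, rfl⟩
  obtain ⟨c, hc⟩ : ∃ c, c = (Nat.card G).factorization r := ⟨_, rfl⟩
  have ha1 : 1 ≤ a := ha ▸ hp.factorization_pos_of_dvd hn0 hpG
  have hb1 : 1 ≤ b := hb ▸ hq.factorization_pos_of_dvd hn0 hqG
  have hc1 : 1 ≤ c := hc ▸ hr.factorization_pos_of_dvd hn0 hrG
  have hpa : p ^ a ∣ Nat.card G := ha ▸ Nat.ordProj_dvd _ _
  have hqb : q ^ b ∣ Nat.card G := hb ▸ Nat.ordProj_dvd _ _
  have hrc : r ^ c ∣ Nat.card G := hc ▸ Nat.ordProj_dvd _ _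
  have cpq : Nat.Coprime p q := (Nat.coprime_primes hp hq).2 hpq
  have cpr : Nat.Coprime p r := (Nat.coprime_primes hp hr).2 hpr
  have cqr : Nat.Coprime q r := (Nat.coprime_primes hq hr).2 hqr
  obtain ⟨m, hm⟩ : ∃ m, m = p ^ a * (q ^ b * r ^ c) := ⟨_, rfl⟩
  have hmd : m ∣ Nat.card G := by
    rw [hm]
    apply Nat.Coprime.mul_dvd_of_dvd_of_dvd _ hpa
    · exact Nat.Coprime.mul_dvd_of_dvd_of_dvd (Nat.Coprime.pow _ _ cqr) hqb hrc
    · exact Nat.Coprime.mul_right (Nat.Coprime.pow _ _ cpq) (Nat.Coprime.pow _ _ cpr)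
  obtain ⟨m', hm'⟩ := hmd
  have hnd : ∀ s e : ℕ, s.Prime → e = (Nat.card G).factorization s → s ^ e ∣ m → ¬ s ∣ m' := by
    intro s e hs he hsm hsm'
    have h1 : s ^ (e + 1) ∣ Nat.card G := by
      rw [hm', pow_succ]
      exact Nat.mul_dvd_mul hsm hsm'
    rw [he] at h1
    exact Nat.pow_succ_factorization_not_dvd hn0 hs h1
  have hcop : Nat.Coprime m m' := by
    rw [hm]
    apply Nat.Coprime.mul_left
    · apply Nat.Coprime.pow_left
      rw [Nat.Prime.coprime_iff_not_dvd hp]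
      exact hnd p a hp ha (hm ▸ Dvd.intro _ rfl)
    · apply Nat.Coprime.mul_left
      · apply Nat.Coprime.pow_left
        rw [Nat.Prime.coprime_iff_not_dvd hq]
        exact hnd q b hq hb (hm ▸ (Dvd.intro _ rfl : q ^ b ∣ q ^ b * r ^ c).mul_left _)
      · apply Nat.Coprime.pow_left
        rw [Nat.Prime.coprime_iff_not_dvd hr]
        exact hnd r c hr hc (hm ▸ (Dvd.intro_left _ rfl : r ^ c ∣ q ^ b * r ^ c).mul_left _)
  obtain ⟨H, hH⟩ := helper23.hall_exists (G := G) m m' hm' hcop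
  have hHsol : Group.IsSolvable H := inferInstance
  have hH2 : 2 ≤ Nat.card H := by
    rw [hH, hm]
    have h1 : 2 ≤ p ^ a := by
      calc 2 ≤ p := hp.two_le
        _ = p ^ 1 := (pow_one p).symm
        _ ≤ p ^ a := Nat.pow_le_pow_right hp.pos ha1
    have h2 : 1 ≤ q ^ b * r ^ c := Nat.mul_pos (pow_pos hq.pos _) (pow_pos hr.pos _)
    nlinarith
  have : Nontrivial H := by
    rw [← Finite.one_lt_card_iff_nontrivial]; omega
  obtain ⟨N, hNn, hNne, hNmin⟩ := exists_minimal_normal H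
  have := hNn
  obtain ⟨hNab, s, hs, hNs⟩ := S0043.result N hNne hNmin
  have hsF : Fact s.Prime := ⟨hs⟩
  -- s ∈ {p, q, r}
  have hspqr : s = p ∨ s = q ∨ s = r := by
    obtain ⟨z, hzN, hz1⟩ : ∃ z ∈ N, z ≠ 1 := by
      by_contra hcon
      push Not at hcon
      exact hNne ((Subgroup.eq_bot_iff_forall _).2 hcon)
    have hzo : orderOf z = s := orderOf_eq_prime (hNs z hzN) hz1
    have h1 : s ∣ m := by
      rw [← hH, ← hzo]; exact orderOf_dvd_natCard z
    rw [hm] at h1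
    rcases (Nat.Prime.dvd_mul hs).1 h1 with h2 | h2
    · left; exact (Nat.prime_dvd_prime_iff_eq hs hp).1 (hs.dvd_of_dvd_pow h2)
    · rcases (Nat.Prime.dvd_mul hs).1 h2 with h3 | h3
      · right; left; exact (Nat.prime_dvd_prime_iff_eq hs hq).1 (hs.dvd_of_dvd_pow h3)
      · right; right; exact (Nat.prime_dvd_prime_iff_eq hs hr).1 (hs.dvd_of_dvd_pow h3)
  rcases hspqr with h | h | h
  · subst h
    obtain ⟨g, hg⟩ := exists_order_mul_of_normal hHsol s q r hs hq hr hpq hpr hqr a b c hb1 hc1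
      (by rw [hH, hm]) N hNne hNab hNs
    refine ⟨(g : G), ?_⟩
    rw [Subgroup.orderOf_coe]; exact hg
  · subst h
    obtain ⟨g, hg⟩ := exists_order_mul_of_normal hHsol s p r hs hp hr hpq.symm hqr hpr b a c ha1 hc1
      (by rw [hH, hm]; ring) N hNne hNab hNs
    refine ⟨(g : G), ?_⟩
    rw [Subgroup.orderOf_coe]
    rcases hg with h1 | h1 | h1
    · left; rw [h1, mul_comm]
    · right; right; exact h1
    · right; left; exact h1
  · subst h
    obtain ⟨g, hg⟩ := exists_order_mul_of_normal hHsol s p q hs hp hq hpr.symm hqr.symm hpq c a b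
      ha1 hb1 (by rw [hH, hm]; ring) N hNne hNab hNs
    refine ⟨(g : G), ?_⟩
    rw [Subgroup.orderOf_coe]
    rcases hg with h1 | h1 | h1
    · right; left; rw [h1, mul_comm]
    · right; right; rw [h1, mul_comm]
    · left; exact h1

end Cfsg.Agent.helper20
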