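import Mathlib
import Cfsg.Agent.Lib_helper20_Higman
import Cfsg.Agent.Lib_helper18_SolvPrim

set_option autoImplicit false
set_option linter.unusedSectionVars false
set_option linter.unusedVariables false

/-!
Glauberman correspondence, part 15 (helper22): normal series with prime-power factors in a
finite solvable group.
-/

namespace Cfsg.Agent.helper22

universe u

/-- a nontrivial finite solvable group has a nontrivial normal `p`-subgroup -/
theorem exists_normal_pgroup_of_solvable (Y : Type u) [Group Y] [Finite Y] [Nontrivial Y]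
    (hsolv : Group.IsSolvable Y) :
    ∃ (N : Subgroup Y) (p : ℕ), N.Normal ∧ N ≠ ⊥ ∧ p.Prime ∧ IsPGroup p N := by
  obtain ⟨N, hNn, hN1, hmin⟩ := helper20.exists_minimal_normal Y
  haveI := hNn
  have comm := helper18.SolvPrim.comm_of_minimal_normal N hN1 hmin
  have hcard : 1 < Nat.card N := (Subgroup.one_lt_card_iff_ne_bot N).mpr hN1
  obtain ⟨p, hp, hpdvd⟩ : ∃ p : ℕ, p.Prime ∧ p ∣ Nat.card N :=
    ⟨(Nat.card N).minFac, Nat.minFac_prime (by omega), Nat.minFac_dvd _⟩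
  haveI := Fact.mk hp
  obtain ⟨x, hx⟩ := exists_prime_orderOf_dvd_card' (G := N) p hpdvd
  obtain ⟨Ω, hΩ⟩ : ∃ Ω : Subgroup Y, ∀ y, y ∈ Ω ↔ (y ∈ N ∧ y ^ p = 1) := by
    refine ⟨{ carrier := {y | y ∈ N ∧ y ^ p = 1}
              mul_mem' := ?_
              one_mem' := ⟨N.one_mem, one_pow p⟩
              inv_mem' := ?_ }, fun y => Iff.rfl⟩
    · rintro a b ⟨ha, ha'⟩ ⟨hb, hb'⟩
      refine ⟨N.mul_mem ha hb, ?_⟩
      have hc : Commute a b := comm a ha b hb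
      rw [hc.mul_pow, ha', hb', one_mul]
    · rintro a ⟨ha, ha'⟩
      exact ⟨N.inv_mem ha, by rw [inv_pow, ha', inv_one]⟩
  have hΩn : Ω.Normal := by
    constructor
    intro y hy g
    rw [hΩ] at hy ⊢
    refine ⟨hNn.conj_mem y hy.1 g, ?_⟩
    rw [conj_pow, hy.2, mul_one, mul_inv_cancel]
  have hΩle : Ω ≤ N := fun y hy => ((hΩ y).mp hy).1
  have hΩne : Ω ≠ ⊥ := by
    intro h
    have hxΩ : (x : Y) ∈ Ω := by
      rw [hΩ]
      refine ⟨x.2, ?_⟩
      have := pow_orderOf_eq_one x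
      rw [hx] at this
      have h2 := congrArg (Subtype.val : N → Y) this
      simpa using h2
    rw [h, Subgroup.mem_bot] at hxΩ
    have hx1 : x = 1 := Subtype.ext hxΩ
    rw [hx1, orderOf_one] at hx
    exact hp.one_lt.ne' hx.symm
  have hΩN : Ω = N := by
    rcases hmin Ω hΩn hΩle with h | h
    · exact absurd h hΩne
    · exact h
  refine ⟨N, p, hNn, hN1, hp, ?_⟩
  intro y
  refine ⟨1, ?_⟩
  have hy : (y : Y) ∈ Ω := by rw [hΩN]; exact y.2
  apply Subtype.ext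
  rw [pow_one, Subgroup.coe_pow, Subgroup.coe_one]
  exact ((hΩ _).mp hy).2

/-- next term of a normal series with prime-power factors -/
theorem exists_next_normal_type (Sg : Type u) [Group Sg] [Finite Sg] (hsolv : Group.IsSolvable Sg)
    (T₀ : Subgroup Sg) [hT₀ : T₀.Normal] (hne : T₀ ≠ ⊤) :
    ∃ (M₀ : Subgroup Sg) (p : ℕ) (P₀ : Subgroup Sg), M₀.Normal ∧ T₀ ≤ M₀ ∧ T₀ ≠ M₀ ∧ p.Prime ∧
      IsPGroup p P₀ ∧ M₀ = T₀ ⊔ P₀ := by
  classical
  haveI : Nontrivial (Sg ⧸ T₀) := by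
    obtain ⟨x, hx⟩ : ∃ x : Sg, x ∉ T₀ := by
      by_contra hall
      push Not at hall
      exact hne ((Subgroup.eq_top_iff' T₀).mpr hall)
    refine ⟨⟨(x : Sg ⧸ T₀), 1, ?_⟩⟩
    intro h
    exact hx ((QuotientGroup.eq_one_iff x).mp h)
  haveI := hsolv
  have hsolvY : Group.IsSolvable (Sg ⧸ T₀) := inferInstance
  obtain ⟨N, p, hNn, hN1, hp, hNp⟩ := exists_normal_pgroup_of_solvable (Sg ⧸ T₀) hsolvY
  haveI := Fact.mk hp
  obtain ⟨π, hπ⟩ : ∃ π : Sg →* Sg ⧸ T₀, π = QuotientGroup.mk' T₀ := ⟨_, rfl⟩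
  have hπs : Function.Surjective π := by rw [hπ]; exact QuotientGroup.mk'_surjective T₀
  have hker : π.ker = T₀ := by rw [hπ]; exact QuotientGroup.ker_mk' T₀
  obtain ⟨M₀, hM₀⟩ : ∃ M₀ : Subgroup Sg, M₀ = N.comap π := ⟨_, rfl⟩
  have hM₀n : M₀.Normal := by rw [hM₀]; exact hNn.comap π
  have hTM : T₀ ≤ M₀ := by
    intro t ht
    rw [hM₀, Subgroup.mem_comap]
    have : π t = 1 := by rw [← MonoidHom.mem_ker, hker]; exact ht
    rw [this]; exact N.one_mem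
  have hTneM : T₀ ≠ M₀ := by
    intro h
    apply hN1
    rw [eq_bot_iff]
    intro n hn
    obtain ⟨x, rfl⟩ := hπs n
    have hx : x ∈ M₀ := by rw [hM₀]; exact hn
    rw [← h, ← hker, MonoidHom.mem_ker] at hx
    rw [Subgroup.mem_bot]; exact hx
  have hrel : T₀.relIndex M₀ = Nat.card N := by
    have h1 := Subgroup.relIndex_comap (⊥ : Subgroup (Sg ⧸ T₀)) π M₀
    rw [MonoidHom.comap_bot, hker, hM₀, Subgroup.map_comap_eq_self_of_surjective hπs,
      Subgroup.relIndex_bot_left] at h1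
    rw [hM₀]; exact h1
  obtain ⟨a, ha⟩ := hNp.exists_card_eq
  obtain ⟨Q⟩ : Nonempty (Sylow p M₀) := inferInstance
  obtain ⟨P₀, hP₀⟩ : ∃ P₀ : Subgroup Sg, P₀ = (Q : Subgroup M₀).map M₀.subtype := ⟨_, rfl⟩
  have hP₀p : IsPGroup p P₀ := by rw [hP₀]; exact Q.isPGroup'.map M₀.subtype
  have hP₀M : P₀ ≤ M₀ := by
    rw [hP₀]
    intro y hy
    obtain ⟨q, _, rfl⟩ := Subgroup.mem_map.mp hy
    exact q.2
  have hrelP : P₀.relIndex M₀ = (Q : Subgroup M₀).index := by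
    unfold Subgroup.relIndex Subgroup.subgroupOf
    rw [hP₀, Subgroup.comap_map_eq_self_of_injective (Subgroup.subtype_injective M₀)]
  have hnd : ¬ p ∣ (Q : Subgroup M₀).index := Q.not_dvd_index
  refine ⟨M₀, p, P₀, hM₀n, hTM, hTneM, hp, hP₀p, ?_⟩
  apply le_antisymm
  · have h1 : (T₀ ⊔ P₀).relIndex M₀ ∣ T₀.relIndex M₀ :=
      Subgroup.relIndex_dvd_of_le_left M₀ le_sup_left
    have h2 : (T₀ ⊔ P₀).relIndex M₀ ∣ P₀.relIndex M₀ :=
      Subgroup.relIndex_dvd_of_le_left M₀ le_sup_right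
    rw [hrel, ha] at h1
    rw [hrelP] at h2
    have hcop : (p ^ a).Coprime (Q : Subgroup M₀).index :=
      Nat.Coprime.pow_left a ((Nat.Prime.coprime_iff_not_dvd hp).mpr hnd)
    have h3 := Nat.eq_one_of_dvd_coprimes hcop h1 h2
    exact Subgroup.relIndex_eq_one.mp h3
  · exact sup_le hTM hP₀M

section Sub
variable {Γ : Type u} [Group Γ] [Finite Γ]

theorem exists_next_normal (S : Subgroup Γ) (hsolv : Group.IsSolvable S) (T : Subgroup Γ)
    (hTS : T ≤ S) (hTn : ∀ s ∈ S, ∀ t ∈ T, s * t * s⁻¹ ∈ T) (hne : T ≠ S) :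
    ∃ (M : Subgroup Γ) (p : ℕ) (P : Subgroup Γ), p.Prime ∧ T ≤ M ∧ M ≤ S ∧
      (∀ s ∈ S, ∀ m ∈ M, s * m * s⁻¹ ∈ M) ∧ Nat.card T < Nat.card M ∧ IsPGroup p P ∧
      M = T ⊔ P := by
  obtain ⟨T₀, hT₀⟩ : ∃ T₀ : Subgroup S, T₀ = T.subgroupOf S := ⟨_, rfl⟩
  have hT₀n : T₀.Normal := by
    rw [hT₀]
    exact (Subgroup.normal_subgroupOf_iff hTS).mpr (fun t s ht hs => hTn s hs t ht)
  have hT₀ne : T₀ ≠ ⊤ := by
    intro h
    apply hne
    apply le_antisymm hTS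
    intro s hs
    have : (⟨s, hs⟩ : S) ∈ T₀ := by rw [h]; exact Subgroup.mem_top _
    rw [hT₀, Subgroup.mem_subgroupOf] at this
    exact this
  obtain ⟨M₀, p, P₀, hM₀n, hTM, hTneM, hp, hP₀p, hM₀eq⟩ :=
    exists_next_normal_type S hsolv T₀ hT₀ne
  have hmapT : T₀.map S.subtype = T := by
    rw [hT₀]; exact Subgroup.map_subgroupOf_eq_of_le hTS
  refine ⟨M₀.map S.subtype, p, P₀.map S.subtype, hp, ?_, ?_, ?_, ?_, hP₀p.map _, ?_⟩
  · rw [← hmapT]; exact Subgroup.map_mono hTM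
  · intro m hm
    obtain ⟨m₀, _, rfl⟩ := Subgroup.mem_map.mp hm
    exact m₀.2
  · intro s hs m hm
    obtain ⟨m₀, hm₀, rfl⟩ := Subgroup.mem_map.mp hm
    exact Subgroup.mem_map.mpr ⟨⟨s, hs⟩ * m₀ * ⟨s, hs⟩⁻¹, hM₀n.conj_mem m₀ hm₀ ⟨s, hs⟩, rfl⟩
  · have hlt : T₀.map S.subtype < M₀.map S.subtype := by
      apply lt_of_le_of_ne (Subgroup.map_mono hTM)
      intro h
      exact hTneM (Subgroup.map_injective (Subgroup.subtype_injective S) h)
    rw [hmapT] at hlt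
    apply lt_of_le_of_ne (Subgroup.card_le_of_le hlt.le)
    intro h
    exact hlt.ne (Subgroup.eq_of_le_of_card_ge hlt.le (le_of_eq h.symm))
  · rw [hM₀eq, Subgroup.map_sup, hmapT]

end Sub

end Cfsg.Agent.helper22
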