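import Mathlib
import Cfsg.Agent.Lib_helper22_Glaub14
import Cfsg.Agent.Lib_helper22_Glaub15

set_option autoImplicit false
set_option linter.unusedSectionVars false
set_option linter.unusedVariables false

/-!
Glauberman correspondence, part 16 (helper22): equivariance of the `p`-correspondence and the
count `|Irr_S(G)| = |Irr(C_G(S))|` for solvable `S`.
-/

namespace Cfsg.Agent.helper22

open Cfsg
open scoped ComplexConjugate

universe u

section Equivariant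
variable {p : ℕ} {B C : Type u} [Group B] [Group C] [Fintype C] {ι : C →* B}
  {Inv : IrrCharacter B → Prop}

/-- fixed points correspond under an equivariant family of twists -/
theorem GCorrAbs.card_fixed (hp : p.Prime) (h : GCorrAbs p ι Inv) {I : Type*} (σB : I → B ≃* B)
    (σC : I → C ≃* C) (hσ : ∀ i c, ι (σC i c) = σB i (ι c))
    (hInvσ : ∀ i χ, Inv χ → Inv (irrComp (σB i) χ)) :
    Nat.card {χ : IrrCharacter B // Inv χ ∧ ∀ i, irrComp (σB i) χ = χ} =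
      Nat.card {β : IrrCharacter C // ∀ i, irrComp (σC i) β = β} := by
  classical
  -- the relation
  obtain ⟨R, hR⟩ : ∃ R : IrrCharacter B → IrrCharacter C → Prop, ∀ χ β, R χ β ↔
      ∃ m : ℕ, classInner (fun c : C => (χ : B → ℂ) (ι c)) (β : C → ℂ) = m ∧ ¬ p ∣ m :=
    ⟨_, fun _ _ => Iff.rfl⟩
  have R1 : ∀ χ, Inv χ → ∃ β, R χ β ∧ ∀ β', R χ β' → β' = β := by
    intro χ hχ
    obtain ⟨β, ε, hε, hm⟩ := h.exist χ hχ
    refine ⟨β, ?_, ?_⟩
    · rw [hR]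
      obtain ⟨m, hm1, hmod⟩ := hm β
      rw [if_pos rfl] at hmod
      exact ⟨m, hm1, not_dvd_of_modEq_sign hp hε hmod⟩
    · intro β' hβ'
      rw [hR] at hβ'
      obtain ⟨m, hm1, hpm⟩ := hβ'
      exact corr_unique hm β' m hm1 hpm
  have R2 : ∀ χ χ' β, Inv χ → Inv χ' → R χ β → R χ' β → χ = χ' := by
    intro χ χ' β hχ hχ' h1 h2
    rw [hR] at h1 h2
    obtain ⟨m, hm, hpm⟩ := h1
    obtain ⟨m', hm', hpm'⟩ := h2
    exact h.inj χ χ' hχ hχ' β m m' hm hpm hm' hpm'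
  have R3 : ∀ β, ∃ χ, Inv χ ∧ R χ β := by
    intro β
    obtain ⟨χ, hχ, m, hm, hpm⟩ := h.surj β
    exact ⟨χ, hχ, (hR χ β).mpr ⟨m, hm, hpm⟩⟩
  have R4 : ∀ i χ β, R χ β → R (irrComp (σB i) χ) (irrComp (σC i) β) := by
    intro i χ β h1
    rw [hR] at h1 ⊢
    obtain ⟨m, hm, hpm⟩ := h1
    refine ⟨m, ?_, hpm⟩
    rw [twist_inner_2 ι (σC i) (σB i) (hσ i) χ β]
    exact hm
  choose Φ hΦ hΦu using R1
  have hfix : ∀ (χ : IrrCharacter B) (hχ : Inv χ), (∀ i, irrComp (σB i) χ = χ) →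
      ∀ i, irrComp (σC i) (Φ χ hχ) = Φ χ hχ := by
    intro χ hχ hfixχ i
    have h1 := R4 i χ (Φ χ hχ) (hΦ χ hχ)
    rw [hfixχ i] at h1
    exact hΦu χ hχ _ h1
  apply Nat.card_eq_of_bijective
    (fun χ : {χ : IrrCharacter B // Inv χ ∧ ∀ i, irrComp (σB i) χ = χ} =>
      (⟨Φ χ.1 χ.2.1, hfix χ.1 χ.2.1 χ.2.2⟩ : {β : IrrCharacter C // ∀ i, irrComp (σC i) β = β}))
  constructor
  · intro χ χ' hχχ'
    have h1 : Φ χ.1 χ.2.1 = Φ χ'.1 χ'.2.1 := congrArg Subtype.val hχχ'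
    apply Subtype.ext
    have h2 := hΦ χ.1 χ.2.1
    have h3 := hΦ χ'.1 χ'.2.1
    rw [← h1] at h3
    exact R2 χ.1 χ'.1 _ χ.2.1 χ'.2.1 h2 h3
  · rintro ⟨β, hβ⟩
    obtain ⟨χ, hχ, hRχ⟩ := R3 β
    have hχfix : ∀ i, irrComp (σB i) χ = χ := by
      intro i
      have h1 := R4 i χ β hRχ
      rw [hβ i] at h1
      exact R2 _ χ β (hInvσ i χ hχ) hχ h1 hRχ
    refine ⟨⟨χ, hχ, hχfix⟩, ?_⟩
    apply Subtype.ext
    exact (hΦu χ hχ β hRχ).symm

end Equivariant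

end Cfsg.Agent.helper22
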