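import Mathlib
import Cfsg.Agent.Lib_helper22_Glaub16

set_option autoImplicit false
set_option linter.unusedSectionVars false
set_option linter.unusedVariables false

/-!
Glauberman correspondence, part 17 (helper22): `|Irr_S(G)| = |Irr(C_G(S))|` for solvable `S`.
-/

namespace Cfsg.Agent.helper22

open Cfsg
open scoped ComplexConjugate

universe u

section Prep
variable {Γ : Type u} [Group Γ]

theorem mem_centralizer_sup (T P : Subgroup Γ) (x : Γ) :
    x ∈ Subgroup.centralizer ((T ⊔ P : Subgroup Γ) : Set Γ) ↔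
      x ∈ Subgroup.centralizer (T : Set Γ) ∧ x ∈ Subgroup.centralizer (P : Set Γ) := by
  constructor
  · intro h
    rw [Subgroup.mem_centralizer_iff] at h
    refine ⟨?_, ?_⟩
    · rw [Subgroup.mem_centralizer_iff]
      intro t ht
      exact h t (Subgroup.mem_sup_left ht)
    · rw [Subgroup.mem_centralizer_iff]
      intro t ht
      exact h t (Subgroup.mem_sup_right ht)
  · rintro ⟨h1, h2⟩
    rw [Subgroup.mem_centralizer_iff] at h1 h2 ⊢
    have hT : T ≤ Subgroup.centralizer ({x} : Set Γ) := by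
      intro t ht
      rw [Subgroup.mem_centralizer_iff]
      intro y hy
      rw [Set.mem_singleton_iff] at hy
      rw [hy]
      exact (h1 t ht).symm
    have hP : P ≤ Subgroup.centralizer ({x} : Set Γ) := by
      intro t ht
      rw [Subgroup.mem_centralizer_iff]
      intro y hy
      rw [Set.mem_singleton_iff] at hy
      rw [hy]
      exact (h2 t ht).symm
    intro h hh
    have := (sup_le hT hP) hh
    rw [Subgroup.mem_centralizer_iff] at this
    exact (this x rfl).symm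

/-- `S` normalizes `C_G(D)` when it normalizes `G` and `D` -/
theorem centralizer_inf_normalized (G S D : Subgroup Γ)
    (hnorm : ∀ s ∈ S, ∀ g ∈ G, s * g * s⁻¹ ∈ G) (hDn : ∀ s ∈ S, ∀ t ∈ D, s * t * s⁻¹ ∈ D) :
    ∀ z ∈ S, ∀ b ∈ G ⊓ Subgroup.centralizer (D : Set Γ),
      z * b * z⁻¹ ∈ G ⊓ Subgroup.centralizer (D : Set Γ) := by
  intro z hz b hb
  rw [Subgroup.mem_inf, Subgroup.mem_centralizer_iff] at hb ⊢
  refine ⟨hnorm z hz b hb.1, fun t ht => ?_⟩
  have h1 : z⁻¹ * t * z ∈ D := by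
    have := hDn z⁻¹ (S.inv_mem hz) t ht
    rwa [inv_inv] at this
  have h2 := hb.2 _ h1
  calc t * (z * b * z⁻¹) = z * ((z⁻¹ * t * z) * b) * z⁻¹ := by group
    _ = z * (b * (z⁻¹ * t * z)) * z⁻¹ := by rw [h2]
    _ = z * b * z⁻¹ * t := by group

theorem invUnder_iff_twist (S A : Subgroup Γ) (h1 : ∀ s ∈ S, ∀ a ∈ A, s * a * s⁻¹ ∈ A)
    (h2 : ∀ s ∈ S, ∀ a ∈ A, s⁻¹ * a * s ∈ A) (χ : IrrCharacter A) :
    InvUnder S A (χ : A → ℂ) ↔
      ∀ s : S, irrComp (conjEquiv A (s : Γ) (h1 s s.2) (h2 s s.2)) χ = χ := by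
  constructor
  · intro h s
    apply Subtype.ext
    funext a
    rw [irrComp_apply]
    exact h s s.2 a _ rfl
  · intro h s hs g g' hgg'
    have h3 := congrFun (congrArg Subtype.val (h ⟨s, hs⟩)) g
    rw [irrComp_apply] at h3
    rw [← h3]
    exact congrArg (χ : A → ℂ) (Subtype.ext hgg')

end Prep

section Step
variable {Γ : Type u} [Group Γ] [Fintype Γ]

theorem step_count {p : ℕ} (hp : p.Prime) (G S T M P : Subgroup Γ)
    (hnorm : ∀ s ∈ S, ∀ g ∈ G, s * g * s⁻¹ ∈ G)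
    (hTn : ∀ s ∈ S, ∀ t ∈ T, s * t * s⁻¹ ∈ T) (hMn : ∀ s ∈ S, ∀ m ∈ M, s * m * s⁻¹ ∈ M)
    (hTS : T ≤ S) (hMS : M ≤ S) (hM : M = T ⊔ P) (hPp : IsPGroup p P)
    (hpG : P ≠ ⊥ → ¬ p ∣ Nat.card G)
    (B₁ B₂ : Subgroup Γ) (hB₁ : B₁ = G ⊓ Subgroup.centralizer (T : Set Γ))
    (hB₂ : B₂ = G ⊓ Subgroup.centralizer (M : Set Γ)) :
    Nat.card {β : IrrCharacter B₁ // InvUnder S B₁ (β : B₁ → ℂ)} =
      Nat.card {β : IrrCharacter B₂ // InvUnder S B₂ (β : B₂ → ℂ)} := by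
  classical
  have hPM : P ≤ M := by rw [hM]; exact le_sup_right
  have hTM : T ≤ M := by rw [hM]; exact le_sup_left
  have hPS : P ≤ S := hPM.trans hMS
  have hB₁G : B₁ ≤ G := by rw [hB₁]; exact inf_le_left
  have hn₁ : ∀ z ∈ S, ∀ b ∈ B₁, z * b * z⁻¹ ∈ B₁ := by
    rw [hB₁]; exact centralizer_inf_normalized G S T hnorm hTn
  have hn₂ : ∀ z ∈ S, ∀ b ∈ B₂, z * b * z⁻¹ ∈ B₂ := by
    rw [hB₂]; exact centralizer_inf_normalized G S M hnorm hMn
  have hn₁' : ∀ z ∈ S, ∀ b ∈ B₁, z⁻¹ * b * z ∈ B₁ := by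
    intro z hz b hb
    have := hn₁ z⁻¹ (S.inv_mem hz) b hb
    rwa [inv_inv] at this
  have hn₂' : ∀ z ∈ S, ∀ b ∈ B₂, z⁻¹ * b * z ∈ B₂ := by
    intro z hz b hb
    have := hn₂ z⁻¹ (S.inv_mem hz) b hb
    rwa [inv_inv] at this
  have hB₂eq : B₂ = B₁ ⊓ Subgroup.centralizer (P : Set Γ) := by
    rw [hB₂, hB₁, hM]
    ext x
    rw [Subgroup.mem_inf, mem_centralizer_sup, Subgroup.mem_inf, Subgroup.mem_inf]
    tauto
  have hB₂B₁ : B₂ ≤ B₁ := by rw [hB₂eq]; exact inf_le_left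
  letI : Fintype B₁ := Fintype.ofFinite _
  letI : Fintype B₂ := Fintype.ofFinite _
  have hpB₁ : P ≠ ⊥ → ¬ p ∣ Nat.card B₁ := fun hne h =>
    hpG hne (h.trans (Subgroup.card_dvd_of_le hB₁G))
  have h := pgroup_gcorr hp (Nat.card P) B₁ P le_rfl (fun s hs => hn₁ s (hPS hs)) hPp hpB₁ B₂
    hB₂eq hB₂B₁
  have hTcent : ∀ t ∈ T, ∀ b ∈ B₁, t * b * t⁻¹ = b := by
    intro t ht b hb
    rw [hB₁, Subgroup.mem_inf, Subgroup.mem_centralizer_iff] at hb
    rw [hb.2 t ht, mul_assoc, mul_inv_cancel, mul_one]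
  have hInvEq : ∀ χ : IrrCharacter B₁, InvUnder P B₁ (χ : B₁ → ℂ) ↔ InvUnder M B₁ (χ : B₁ → ℂ) := by
    intro χ
    constructor
    · intro hχ
      apply invUnder_of_le_invStab
      rw [hM]
      apply sup_le
      · apply le_invStab (fun s hs => hn₁ s (hTS hs))
        intro t ht g g' hgg'
        have : g' = g := Subtype.ext (by rw [hgg', hTcent t ht g g.2])
        rw [this]
      · exact le_invStab (fun s hs => hn₁ s (hPS hs)) hχ
    · intro hχ s hs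
      exact hχ s (hPM hs)
  have h' : GCorrAbs p (Subgroup.inclusion hB₂B₁)
      (fun χ : IrrCharacter B₁ => InvUnder M B₁ (χ : B₁ → ℂ)) := by
    have e : (fun χ : IrrCharacter B₁ => InvUnder P B₁ (χ : B₁ → ℂ)) =
        (fun χ : IrrCharacter B₁ => InvUnder M B₁ (χ : B₁ → ℂ)) :=
      funext (fun χ => propext (hInvEq χ))
    rw [← e]; exact h
  have hcount := h'.card_fixed hp
    (fun s : S => conjEquiv B₁ (s : Γ) (hn₁ s s.2) (hn₁' s s.2))
    (fun s : S => conjEquiv B₂ (s : Γ) (hn₂ s s.2) (hn₂' s s.2))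
    (fun s c => Subtype.ext rfl)
    (by
      intro s χ hχ m hm g g' hgg'
      rw [irrComp_apply, irrComp_apply]
      refine hχ ((s : Γ) * m * (s : Γ)⁻¹) (hMn s s.2 m hm) _ _ ?_
      rw [conjEquiv_coe, conjEquiv_coe, hgg']
      group)
  have e1 : Nat.card {β : IrrCharacter B₁ // InvUnder S B₁ (β : B₁ → ℂ)} =
      Nat.card {χ : IrrCharacter B₁ // InvUnder M B₁ (χ : B₁ → ℂ) ∧
        ∀ s : S, irrComp (conjEquiv B₁ (s : Γ) (hn₁ s s.2) (hn₁' s s.2)) χ = χ} := by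
    apply Nat.card_congr
    apply Equiv.subtypeEquivRight
    intro χ
    rw [← invUnder_iff_twist S B₁ hn₁ hn₁' χ]
    constructor
    · intro hχ
      exact ⟨fun s hs => hχ s (hMS hs), hχ⟩
    · exact fun hχ => hχ.2
  have e2 : Nat.card {β : IrrCharacter B₂ // InvUnder S B₂ (β : B₂ → ℂ)} =
      Nat.card {β : IrrCharacter B₂ //
        ∀ s : S, irrComp (conjEquiv B₂ (s : Γ) (hn₂ s s.2) (hn₂' s s.2)) β = β} := by
    apply Nat.card_congr
    apply Equiv.subtypeEquivRight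
    intro β
    exact invUnder_iff_twist S B₂ hn₂ hn₂' β
  rw [e1, e2]
  exact hcount

end Step

end Cfsg.Agent.helper22
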