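import Mathlib
import Cfsg.Agent.Lib_helper22_Glaub17

set_option autoImplicit false
set_option linter.unusedSectionVars false
set_option linter.unusedVariables false

/-!
Glauberman correspondence, part 18 (helper22): the chain induction for solvable `S`.
-/

namespace Cfsg.Agent.helper22

open Cfsg
open scoped ComplexConjugate

universe u

section Chain
variable {Γ : Type u} [Group Γ] [Fintype Γ]

theorem count_chain (G S : Subgroup Γ) (hnorm : ∀ s ∈ S, ∀ g ∈ G, s * g * s⁻¹ ∈ G)
    (hcop : (Nat.card G).Coprime (Nat.card S)) (hsolv : Group.IsSolvable S) (n : ℕ) :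
    ∀ (T : Subgroup Γ), Nat.card S - Nat.card T ≤ n → T ≤ S →
    (∀ s ∈ S, ∀ t ∈ T, s * t * s⁻¹ ∈ T) →
    ∀ (B C : Subgroup Γ), B = G ⊓ Subgroup.centralizer (T : Set Γ) →
    C = G ⊓ Subgroup.centralizer (S : Set Γ) →
    Nat.card {β : IrrCharacter B // InvUnder S B (β : B → ℂ)} =
      Nat.card {β : IrrCharacter C // InvUnder S C (β : C → ℂ)} := by
  classical
  induction n with
  | zero =>
    intro T hcard hTS hTn B C hB hC
    have hle : Nat.card S ≤ Nat.card T := by omega
    have hTeq : T = S := Subgroup.eq_of_le_of_card_ge hTS hle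
    rw [hTeq] at hB
    rw [hB, hC]
  | succ n ih =>
    intro T hcard hTS hTn B C hB hC
    by_cases hTeq : T = S
    · rw [hTeq] at hB
      rw [hB, hC]
    · obtain ⟨M, p, P, hp, hTM, hMS, hMn, hlt, hPp, hMeq⟩ :=
        exists_next_normal S hsolv T hTS hTn hTeq
      have hPS : P ≤ S := by
        refine le_trans ?_ hMS
        rw [hMeq]; exact le_sup_right
      have hpG : P ≠ ⊥ → ¬ p ∣ Nat.card G := by
        intro hne hdvd
        haveI := Fact.mk hp
        have hnt : Nontrivial P := (Subgroup.nontrivial_iff_ne_bot P).mpr hne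
        obtain ⟨k, hk⟩ := hPp.exists_card_eq
        have hk0 : k ≠ 0 := by
          intro h0
          rw [h0, pow_zero] at hk
          have := Finite.one_lt_card (α := P)
          omega
        have hpP : p ∣ Nat.card P := by rw [hk]; exact dvd_pow_self p hk0
        have hpS : p ∣ Nat.card S := hpP.trans (Subgroup.card_dvd_of_le hPS)
        have := Nat.Coprime.eq_one_of_dvd (Nat.Coprime.coprime_dvd_left hdvd hcop) hpS
        exact hp.one_lt.ne' this
      have h1 := step_count hp G S T M P hnorm hTn hMn hTS hMS hMeq hPp hpG B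
        (G ⊓ Subgroup.centralizer (M : Set Γ)) hB rfl
      have hMcard : Nat.card M ≤ Nat.card S := Subgroup.card_le_of_le hMS
      have h2 := ih M (by omega) hMS hMn (G ⊓ Subgroup.centralizer (M : Set Γ)) C rfl hC
      exact h1.trans h2

/-- `|Irr_S(G)| = |Irr(C_G(S))|` for a solvable group `S` acting coprimely -/
theorem card_inv_irr_eq (G S : Subgroup Γ) (hnorm : ∀ s ∈ S, ∀ g ∈ G, s * g * s⁻¹ ∈ G)
    (hcop : (Nat.card G).Coprime (Nat.card S)) (hsolv : Group.IsSolvable S) :
    Nat.card {χ : IrrCharacter G // InvUnder S G (χ : G → ℂ)} =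
      Nat.card (IrrCharacter (G ⊓ Subgroup.centralizer (S : Set Γ) : Subgroup Γ)) := by
  have hG : G = G ⊓ Subgroup.centralizer (((⊥ : Subgroup Γ) : Subgroup Γ) : Set Γ) := by
    ext x
    rw [Subgroup.mem_inf, Subgroup.mem_centralizer_iff]
    constructor
    · intro hx
      refine ⟨hx, fun h hh => ?_⟩
      have : h = 1 := by simpa using hh
      rw [this, one_mul, mul_one]
    · exact fun h => h.1
  have h1 := count_chain G S hnorm hcop hsolv (Nat.card S) ⊥ (Nat.sub_le _ _) bot_le
    (by
      intro s _ t ht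
      rw [Subgroup.mem_bot] at ht ⊢
      rw [ht, mul_one, mul_inv_cancel])
    G (G ⊓ Subgroup.centralizer (S : Set Γ)) hG rfl
  rw [h1]
  apply Nat.card_congr
  apply Equiv.subtypeUnivEquiv
  intro β s hs g g' hgg'
  have hg : (g : Γ) ∈ Subgroup.centralizer (S : Set Γ) := (Subgroup.mem_inf.mp g.2).2
  rw [Subgroup.mem_centralizer_iff] at hg
  have : g' = g := by
    apply Subtype.ext
    rw [hgg', hg s hs, mul_assoc, mul_inv_cancel, mul_one]
  rw [this]

end Chain

end Cfsg.Agent.helper22
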