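import Mathlib
import Cfsg.Agent.Lib_helper22_DegCop2
import Cfsg.Agent.Lib_helper22_Glaub18

set_option autoImplicit false
set_option linter.unusedSectionVars false
set_option linter.unusedVariables false
set_option maxHeartbeats 1000000

/-!
The number of characters of degree prime to `|H|` in `G = K H` and in `N_G(H)` (helper22).
-/

namespace Cfsg.Agent.helper22

open Cfsg
open scoped ComplexConjugate

universe u

section Main
variable {G : Type u} [Group G] [Fintype G] (K H : Subgroup G) [hK : K.Normal]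

/-- `N_K(H) = C_K(H)` for coprime orders -/
theorem inf_normalizer_eq_inf_centralizer (hcop : (Nat.card K).Coprime (Nat.card H)) :
    K ⊓ Subgroup.normalizer (H : Set G) = K ⊓ Subgroup.centralizer (H : Set G) := by
  apply le_antisymm
  · intro c hc
    rw [Subgroup.mem_inf] at hc ⊢
    refine ⟨hc.1, ?_⟩
    rw [Subgroup.mem_centralizer_iff]
    intro h hh
    have h1 : c * h * c⁻¹ ∈ H := (Subgroup.mem_normalizer_iff.mp hc.2 h).mp hh
    have h2 : c * h * c⁻¹ * h⁻¹ ∈ H := H.mul_mem h1 (H.inv_mem hh)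
    have h3 : c * h * c⁻¹ * h⁻¹ ∈ K := by
      have : c * h * c⁻¹ * h⁻¹ = c * (h * c⁻¹ * h⁻¹) := by group
      rw [this]
      exact K.mul_mem hc.1 (hK.conj_mem c⁻¹ (K.inv_mem hc.1) h)
    have hdisj : Disjoint K H := Subgroup.disjoint_of_coprime_natCard hcop
    have h4 : c * h * c⁻¹ * h⁻¹ = 1 := by
      have : c * h * c⁻¹ * h⁻¹ ∈ K ⊓ H := Subgroup.mem_inf.mpr ⟨h3, h2⟩
      rw [hdisj.eq_bot, Subgroup.mem_bot] at this
      exact this
    have h5 : c * h = (c * h * c⁻¹ * h⁻¹) * (h * c) := by group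
    rw [h5, h4, one_mul]
  · exact inf_le_inf_left K (Subgroup.centralizer_le_normalizer _)

theorem coprime_degree_count (hKH : K ⊔ H = ⊤) (hcop : (Nat.card K).Coprime (Nat.card H))
    (hsolv : Group.IsSolvable H) :
    Nat.card {χ : IrrCharacter G // (charDegree χ.1).Coprime (Nat.card H)} =
      Nat.card {η : IrrCharacter (Subgroup.normalizer (H : Set G)) //
        (charDegree η.1).Coprime (Nat.card H)} := by
  classical
  haveI : Fintype K := Fintype.ofFinite _
  obtain ⟨Nm, hNm⟩ : ∃ Nm : Subgroup G, Nm = Subgroup.normalizer (H : Set G) := ⟨_, rfl⟩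
  rw [← hNm]
  haveI : Fintype Nm := Fintype.ofFinite _
  have hHNm : H ≤ Nm := by rw [hNm]; exact Subgroup.le_normalizer
  obtain ⟨K', hK'⟩ : ∃ K' : Subgroup Nm, K' = K.subgroupOf Nm := ⟨_, rfl⟩
  obtain ⟨H', hH'⟩ : ∃ H' : Subgroup Nm, H' = H.subgroupOf Nm := ⟨_, rfl⟩
  haveI hK'n : K'.Normal := by rw [hK']; exact Subgroup.normal_subgroupOf
  haveI : Fintype K' := Fintype.ofFinite _
  have hmemK' : ∀ x : Nm, x ∈ K' ↔ (x : G) ∈ K := by
    intro x; rw [hK']; exact Subgroup.mem_subgroupOf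
  have hmemH' : ∀ x : Nm, x ∈ H' ↔ (x : G) ∈ H := by
    intro x; rw [hH']; exact Subgroup.mem_subgroupOf
  -- decomposition of elements
  have hdecomp : ∀ g : G, ∃ k ∈ K, ∃ h ∈ H, k * h = g := by
    intro g
    have : g ∈ K ⊔ H := by rw [hKH]; exact Subgroup.mem_top g
    exact Subgroup.mem_sup_of_normal_left.mp this
  have htop' : K' ⊔ H' = ⊤ := by
    rw [eq_top_iff]
    intro x _
    obtain ⟨k, hk, h, hh, hkh⟩ := hdecomp (x : G)
    have hkN : k ∈ Nm := by
      have : k = (x : G) * h⁻¹ := by rw [← hkh]; group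
      rw [this]
      exact Nm.mul_mem x.2 (Nm.inv_mem (hHNm hh))
    have hx : x = (⟨k, hkN⟩ : Nm) * ⟨h, hHNm hh⟩ := Subtype.ext hkh.symm
    rw [hx]
    exact Subgroup.mul_mem _ (Subgroup.mem_sup_left ((hmemK' _).mpr hk))
      (Subgroup.mem_sup_right ((hmemH' _).mpr hh))
  have hcardH' : Nat.card H' = Nat.card H := by
    rw [hH']; exact Nat.card_congr (Subgroup.subgroupOfEquivOfLe hHNm).toEquiv
  have hcardK' : Nat.card K' ∣ Nat.card K := by
    obtain ⟨f, hf⟩ : ∃ f : K' →* K, ∀ x, ((f x : K) : G) = ((x : Nm) : G) :=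
      ⟨MonoidHom.mk' (fun x => ⟨((x : Nm) : G), (hmemK' _).mp x.2⟩) (fun x y => rfl), fun x => rfl⟩
    apply Subgroup.card_dvd_of_injective f
    intro x y hxy
    apply Subtype.ext
    apply Subtype.ext
    rw [← hf x, ← hf y, hxy]
  have hcop' : (Nat.card K').Coprime (Nat.card H') := by
    rw [hcardH']
    exact Nat.Coprime.coprime_dvd_left hcardK' hcop
  have hL := card_coprime_degree K H hKH hcop
  have hR := card_coprime_degree K' H' htop' hcop'
  rw [hcardH'] at hR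
  rw [hL, hR]
  -- the quotients
  obtain ⟨φ, hφ⟩ : ∃ φ : Nm →* G ⧸ K, ∀ x : Nm, φ x = ((x : G) : G ⧸ K) :=
    ⟨(QuotientGroup.mk' K).comp Nm.subtype, fun x => rfl⟩
  have hφs : Function.Surjective φ := by
    intro q
    obtain ⟨g, rfl⟩ := QuotientGroup.mk_surjective q
    obtain ⟨k, hk, h, hh, hkh⟩ := hdecomp g
    refine ⟨⟨h, hHNm hh⟩, ?_⟩
    rw [hφ, ← hkh, QuotientGroup.mk_mul, (QuotientGroup.eq_one_iff k).mpr hk, one_mul]
  have hker : φ.ker = K' := by
    ext x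
    rw [MonoidHom.mem_ker, hφ, QuotientGroup.eq_one_iff, hmemK']
  obtain ⟨e, -⟩ : ∃ e : (Nm ⧸ K') ≃* (G ⧸ K), True :=
    ⟨(QuotientGroup.quotientMulEquivOfEq hker.symm).trans
      (QuotientGroup.quotientKerEquivOfSurjective φ hφs), trivial⟩
  have h2 : Nat.card {β : IrrCharacter (G ⧸ K) // β.1 1 = 1} =
      Nat.card {β : IrrCharacter (Nm ⧸ K') // β.1 1 = 1} := by
    apply Nat.card_congr
    refine ⟨fun β => ⟨irrComp e β.1, by rw [irrComp_apply, map_one]; exact β.2⟩,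
      fun β => ⟨irrComp e.symm β.1, by rw [irrComp_apply, map_one]; exact β.2⟩, ?_, ?_⟩
    · intro β
      apply Subtype.ext
      exact irrComp_symm e β.1
    · intro β
      apply Subtype.ext
      exact irrComp_symm' e β.1
  -- the invariant characters
  have hnormK : ∀ s ∈ H, ∀ g ∈ K, s * g * s⁻¹ ∈ K := fun s _ g hg => hK.conj_mem g hg s
  have h1a : Nat.card {ϑ : IrrCharacter K //
      ∀ (x : G) (k : K), ϑ.1 ⟨x * k * x⁻¹, hK.conj_mem k k.2 x⟩ = ϑ.1 k} =
      Nat.card {ϑ : IrrCharacter K // InvUnder H K ϑ.1} := by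
    apply Nat.card_congr
    apply Equiv.subtypeEquivRight
    intro ϑ
    constructor
    · intro h s hs g g' hgg'
      rw [← h s g]
      exact congrArg ϑ.1 (Subtype.ext hgg')
    · intro h x k
      obtain ⟨k₀, hk₀, h₀, hh₀, hkh⟩ := hdecomp x
      have hcf := helper24.char_isClassFunction (helper24.irr_isCharacter ϑ.2)
      have e1 := h h₀ hh₀ k ⟨h₀ * k * h₀⁻¹, hK.conj_mem k k.2 h₀⟩ rfl
      rw [← e1, ← hcf ⟨h₀ * k * h₀⁻¹, hK.conj_mem k k.2 h₀⟩ ⟨k₀, hk₀⟩]
      refine congrArg ϑ.1 (Subtype.ext ?_)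
      simp only [Subgroup.coe_mul, Subgroup.coe_inv]
      rw [← hkh]
      group
  have h1b := card_inv_irr_eq K H hnormK hcop hsolv
  -- on the normalizer side every character is invariant
  have hcentK' : ∀ x : K', ((x : Nm) : G) ∈ K ⊓ Subgroup.centralizer (H : Set G) := by
    intro x
    rw [← inf_normalizer_eq_inf_centralizer K H hcop, Subgroup.mem_inf]
    refine ⟨(hmemK' _).mp x.2, ?_⟩
    rw [← hNm]
    exact (x : Nm).2
  have h1c : Nat.card {ϑ : IrrCharacter K' //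
      ∀ (x : Nm) (k : K'), ϑ.1 ⟨x * k * x⁻¹, hK'n.conj_mem k k.2 x⟩ = ϑ.1 k} =
      Nat.card (IrrCharacter K') := by
    apply Nat.card_congr
    apply Equiv.subtypeUnivEquiv
    intro ϑ x k
    obtain ⟨k₀, hk₀, h₀, hh₀, hkh⟩ := hdecomp (x : G)
    have hk₀N : k₀ ∈ Nm := by
      have : k₀ = (x : G) * h₀⁻¹ := by rw [← hkh]; group
      rw [this]
      exact Nm.mul_mem x.2 (Nm.inv_mem (hHNm hh₀))
    have hcf := helper24.char_isClassFunction (helper24.irr_isCharacter ϑ.2)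
    have hkc := (Subgroup.mem_inf.mp (hcentK' k)).2
    rw [Subgroup.mem_centralizer_iff] at hkc
    rw [← hcf k ⟨⟨k₀, hk₀N⟩, (hmemK' _).mpr hk₀⟩]
    refine congrArg ϑ.1 (Subtype.ext (Subtype.ext ?_))
    simp only [Subgroup.coe_mul, Subgroup.coe_inv]
    rw [← hkh]
    have e1 : k₀ * h₀ * ((k : Nm) : G) * (k₀ * h₀)⁻¹ =
        k₀ * (h₀ * ((k : Nm) : G)) * h₀⁻¹ * k₀⁻¹ := by group
    rw [e1, hkc h₀ hh₀]
    group
  obtain ⟨f, hf⟩ : ∃ f : K' →* (K ⊓ Subgroup.centralizer (H : Set G) : Subgroup G),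
      ∀ x, ((f x : (K ⊓ Subgroup.centralizer (H : Set G) : Subgroup G)) : G) = ((x : Nm) : G) :=
    ⟨MonoidHom.mk' (fun x => ⟨((x : Nm) : G), hcentK' x⟩) (fun x y => rfl), fun x => rfl⟩
  have hfbij : Function.Bijective f := by
    constructor
    · intro x y hxy
      apply Subtype.ext
      apply Subtype.ext
      rw [← hf x, ← hf y, hxy]
    · intro c
      have hc : (c : G) ∈ K ⊓ Subgroup.normalizer (H : Set G) := by
        rw [inf_normalizer_eq_inf_centralizer K H hcop]; exact c.2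
      rw [Subgroup.mem_inf, ← hNm] at hc
      refine ⟨⟨⟨(c : G), hc.2⟩, (hmemK' _).mpr hc.1⟩, ?_⟩
      apply Subtype.ext
      rw [hf]
  have h1d : Nat.card (IrrCharacter K') =
      Nat.card (IrrCharacter (K ⊓ Subgroup.centralizer (H : Set G) : Subgroup G)) := by
    obtain ⟨ef, -⟩ : ∃ ef : K' ≃* (K ⊓ Subgroup.centralizer (H : Set G) : Subgroup G), True :=
      ⟨MulEquiv.ofBijective f hfbij, trivial⟩
    apply Nat.card_congr
    exact ⟨fun ϑ => irrComp ef.symm ϑ, fun ϑ => irrComp ef ϑ,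
      fun ϑ => irrComp_symm' ef ϑ, fun ϑ => irrComp_symm ef ϑ⟩
  rw [h1a, h1b, h1c, h1d, h2]

end Main

end Cfsg.Agent.helper22
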