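import Mathlib
import Cfsg.Agent.Lib_helper22_DegCop3
import Cfsg.Agent.Lib_helper12_McKay1
import Cfsg.Agent.Lib_helper12_Clifford
import Cfsg.Agent.Lib_helper24_CharQuot
import Cfsg.Agent.Lib_helper24_CharCount
import Cfsg.Agent.Lib_helper24_ThirdMain
import Cfsg.Agent.Lib_helper22_Glaub18

set_option autoImplicit false
set_option linter.unusedSectionVars false
set_option linter.unusedVariables false
set_option linter.style.longLine false

/-!
helper22: groups with a normal `p`-complement and a unique irreducible character of degree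
divisible by `p`: the quotient is abelian.
-/

namespace Cfsg.Agent.helper22

open Cfsg
open scoped ComplexConjugate commutatorElement

universe u

section PSing

/-- a finite group all of whose irreducible characters are linear is commutative -/
theorem comm_of_all_linear {Q : Type u} [Group Q] [Finite Q]
    (h : ∀ β : IrrCharacter Q, charDegree (β : Q → ℂ) = 1) : ∀ a b : Q, a * b = b * a := by
  classical
  haveI := Fintype.ofFinite (IrrCharacter Q)
  have h1 := helper24.sum_irr_degree_sq (G := Q)
  have h2 : ∑ χ : IrrCharacter Q, charDegree (χ : Q → ℂ) ^ 2 = Nat.card (IrrCharacter Q) := by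
    rw [Finset.sum_congr rfl (fun χ _ => by rw [h χ, one_pow]), Finset.sum_const,
      Finset.card_univ, smul_eq_mul, mul_one, Nat.card_eq_fintype_card]
  have h3 := helper12.card_linear_irr (X := Q)
  have h4 : Nat.card {χ : IrrCharacter Q // charDegree (χ : Q → ℂ) = 1} =
      Nat.card (IrrCharacter Q) := by
    apply Nat.card_congr
    exact Equiv.subtypeUnivEquiv h
  have h5 : (commutator Q).index = Nat.card Q := by rw [← h3, h4, ← h2, h1]
  have h6 : Nat.card (commutator Q) = 1 := by
    have h7 := (commutator Q).card_mul_index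
    rw [h5] at h7
    have hpos : 0 < Nat.card Q := Nat.card_pos
    have h8 : Nat.card (commutator Q) * Nat.card Q = 1 * Nat.card Q := by rw [h7, one_mul]
    exact Nat.eq_of_mul_eq_mul_right hpos h8
  have h7 : commutator Q = ⊥ := Subgroup.eq_bot_of_card_eq _ h6
  intro a b
  have h8 : ⁅a, b⁆ ∈ commutator Q := by
    rw [commutator_def]
    exact Subgroup.commutator_mem_commutator (Subgroup.mem_top a) (Subgroup.mem_top b)
  rw [h7, Subgroup.mem_bot, commutatorElement_eq_one_iff_mul_comm] at h8
  exact h8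

theorem prime_dvd_degree_of_pgroup {Q : Type u} [Group Q] [Finite Q] {p k : ℕ} (hp : p.Prime)
    (hQ : Nat.card Q = p ^ k) (β : IrrCharacter Q) (h1 : charDegree (β : Q → ℂ) ≠ 1) :
    p ∣ charDegree (β : Q → ℂ) := by
  have hdvd := helper24.irr_degree_dvd_card β.2
  rw [hQ] at hdvd
  obtain ⟨j, hj, hdeg⟩ := (Nat.dvd_prime_pow hp).mp hdvd
  rw [hdeg] at h1 ⊢
  cases j with
  | zero => simp at h1
  | succ j => exact dvd_pow_self p (Nat.succ_ne_zero j)

/-- a character trivial on `N` up to its degree is orthogonal to the nontrivial characters -/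
theorem inner_res_eq_zero_of_const {G : Type u} [Group G] [Fintype G] (N : Subgroup G)
    [Fintype N] {χ : G → ℂ} (hconst : ∀ n : N, χ n = χ 1) (θ : IrrCharacter N) (n₀ : N)
    (hn₀ : (θ : N → ℂ) n₀ ≠ 1) : classInner (fun n : N => χ n) (θ : N → ℂ) = 0 := by
  classical
  have e1 : (fun n : N => χ n) = (χ 1) • (fun _ : N => (1 : ℂ)) := by
    funext n
    rw [Pi.smul_apply, smul_eq_mul, mul_one, hconst n]
  rw [e1, helper24.classInner_smul_left,
    helper24.irr_classInner (helper24.isIrrCharacter_one (G := N)) θ.2]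
  have hne : (fun _ : N => (1 : ℂ)) ≠ (θ : N → ℂ) := by
    intro h
    apply hn₀
    rw [← h]
  rw [if_neg hne, mul_zero]

theorem quotient_comm_of_unique_psingular {G : Type u} [Group G] [Fintype G] (p : ℕ)
    [Fact p.Prime] (hnil : ¬ Group.IsNilpotent G) (N : Subgroup G) [N.Normal]
    (hN : (Nat.card N).Coprime p) (hidx : ∃ k : ℕ, N.index = p ^ k)
    (hone : Nat.card {χ : IrrCharacter G // p ∣ charDegree (χ : G → ℂ)} = 1) :
    ∀ a b : G ⧸ N, a * b = b * a := by
  classical
  have hp : p.Prime := Fact.out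
  obtain ⟨k, hk⟩ := hidx
  by_contra hnc
  have hex : ∃ β : IrrCharacter (G ⧸ N), charDegree (β : G ⧸ N → ℂ) ≠ 1 := by
    by_contra hall
    push_neg at hall
    exact hnc (comm_of_all_linear hall)
  obtain ⟨β, hβ⟩ := hex
  have hQcard : Nat.card (G ⧸ N) = p ^ k := by rw [← hk]; rfl
  have hβp := prime_dvd_degree_of_pgroup hp hQcard β hβ
  obtain ⟨χβ, hχβ⟩ : ∃ χβ : IrrCharacter G, χβ = (helper24.inflEquiv N β).1 := ⟨_, rfl⟩
  have hχβdeg : p ∣ charDegree (χβ : G → ℂ) := by
    rw [hχβ, helper24.inflEquiv_degree]; exact hβp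
  have hχβN : ∀ n ∈ N, (χβ : G → ℂ) n = (χβ : G → ℂ) 1 := by
    rw [hχβ]; exact (helper24.inflEquiv N β).2
  have huniq : ∀ χ : IrrCharacter G, p ∣ charDegree (χ : G → ℂ) → χ = χβ := by
    intro χ hχ
    obtain ⟨x, hx⟩ := Nat.card_eq_one_iff_exists.mp hone
    have h1 := hx ⟨χ, hχ⟩
    have h2 := hx ⟨χβ, hχβdeg⟩
    exact congrArg Subtype.val (h1.trans h2.symm)
  have hNbot : N ≠ ⊥ := by
    intro h
    apply hnil
    have hG : Nat.card G = p ^ k := by
      rw [← N.card_mul_index, hk, h]; simp
    exact (IsPGroup.of_card hG).isNilpotent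
  haveI : Fintype N := Fintype.ofFinite N
  have hθ : ∃ θ : IrrCharacter N, ∃ n : N, (θ : N → ℂ) n ≠ 1 := by
    by_contra hcon
    push_neg at hcon
    haveI := Fintype.ofFinite (IrrCharacter N)
    have hsub : ∀ θ θ' : IrrCharacter N, θ = θ' := by
      intro θ θ'
      apply Subtype.ext
      funext n
      rw [hcon θ n, hcon θ' n]
    have h1 := helper24.sum_irr_degree_sq (G := N)
    have hdeg : ∀ θ : IrrCharacter N, charDegree (θ : N → ℂ) = 1 := by
      intro θ
      apply helper24.charDegree_natCast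
      rw [hcon θ 1]; simp
    have h2 : Nat.card N = Fintype.card (IrrCharacter N) := by
      rw [← h1, Finset.sum_congr rfl (fun χ _ => by rw [hdeg χ, one_pow]), Finset.sum_const,
        Finset.card_univ, smul_eq_mul, mul_one]
    have h3 : Fintype.card (IrrCharacter N) ≤ 1 := Fintype.card_le_one_iff.mpr hsub
    have h4 : Nat.card N = 1 := by
      have := Nat.card_pos (α := N)
      omega
    exact hNbot (Subgroup.eq_bot_of_card_eq _ h4)
  obtain ⟨θ, n₀, hn₀⟩ := hθ
  obtain ⟨χ, hχirr, hχθ⟩ := helper12.exists_irr_over N θ.2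
  have hfinal : (∀ n : N, χ n = χ 1) → False := by
    intro hconst
    exact hχθ (inner_res_eq_zero_of_const N hconst θ n₀ hn₀)
  have hcopN : Nat.Coprime (Nat.card N) N.index := by
    rw [hk]; exact Nat.Coprime.pow_right k hN
  obtain ⟨H, hH⟩ := Subgroup.exists_right_complement'_of_coprime hcopN
  have hHcard : Nat.card H = p ^ k := by rw [← hk]; exact hH.symm.index_eq_card.symm
  have hKH : N ⊔ H = ⊤ := hH.sup_eq_top
  have hcop : (Nat.card N).Coprime (Nat.card H) := by
    rw [hHcard]; exact Nat.Coprime.pow_right k hN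
  by_cases hdiv : p ∣ charDegree χ
  · have h1 := huniq ⟨χ, hχirr⟩ hdiv
    apply hfinal
    intro n
    have h2 := hχβN n n.2
    rw [← h1] at h2
    exact h2
  · haveI : Fintype (IrrCharacter (G ⧸ N)) := Fintype.ofFinite _
    have hdegcop : (charDegree χ).Coprime (Nat.card H) := by
      rw [hHcard]
      exact Nat.Coprime.pow_right k ((Nat.Prime.coprime_iff_not_dvd hp).mpr hdiv).symm
    have hres_irr := res_irr_of_coprime_degree N H hKH hcop hχirr hdegcop
    obtain ⟨hg1, -, -⟩ := gallagher N hχirr hres_irr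
    obtain ⟨dβ, hdβ0, hdβ⟩ := helper24.irr_apply_one β.2
    obtain ⟨dχ, hdχ0, hdχ⟩ := helper24.irr_apply_one hχirr
    have hψ1 : (infl N (β : G ⧸ N → ℂ) * χ) 1 = ((dβ * dχ : ℕ) : ℂ) := by
      rw [Pi.mul_apply, infl_apply, hdχ]
      have : ((1 : G) : G ⧸ N) = 1 := rfl
      rw [this, hdβ]
      push_cast; ring
    have hψdeg : p ∣ charDegree (infl N (β : G ⧸ N → ℂ) * χ) := by
      rw [helper24.charDegree_natCast _ _ hψ1]
      have : charDegree (β : G ⧸ N → ℂ) = dβ := helper24.charDegree_natCast _ _ hdβ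
      rw [this] at hβp
      exact Dvd.dvd.mul_right hβp _
    have h1 := huniq ⟨_, hg1 β⟩ hψdeg
    have h2 : ∀ g : G, (infl N (β : G ⧸ N → ℂ) * χ) g = (χβ : G → ℂ) g := by
      intro g
      have := congrArg (fun x : IrrCharacter G => (x : G → ℂ) g) h1
      exact this
    have hdβc : (dβ : ℂ) ≠ 0 := by exact_mod_cast hdβ0.ne'
    have hone' : ∀ n : N, χ n = 1 := by
      intro n
      have h3 := h2 n
      rw [Pi.mul_apply, infl_apply, hχβ, helper24.inflEquiv_apply,
        (QuotientGroup.eq_one_iff (n : G)).mpr n.2, hdβ] at h3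
      have h4 : (dβ : ℂ) * (χ n - 1) = 0 := by linear_combination h3
      have h5 := (mul_eq_zero.mp h4).resolve_left hdβc
      linear_combination h5
    apply hfinal
    intro n
    rw [hone' n]
    have := hone' 1
    exact this.symm

end PSing

end Cfsg.Agent.helper22
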