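import Mathlib
import Cfsg.Agent.Lib_helper12_Clifford
import Cfsg.Agent.Lib_helper22_PSing1
import Cfsg.Agent.Lib_helper8_Clifford

set_option autoImplicit false

/-!
helper12: a finite group all of whose irreducible character degrees are smaller than the prime `p`
has a normal abelian Sylow `p`-subgroup.  The normality comes from the permutation character on the
cosets of the normalizer `N` of a Sylow `p`-subgroup: its norm is at most `1 + ([G:N]-1)/p`, while
every nonprincipal constituent has degree at most `p-1`.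
-/

namespace Cfsg.Agent.helper12

open Cfsg
open scoped ComplexConjugate

universe u

section SmallDeg
variable {G : Type u} [Group G]

/-- value at one of an irreducible character -/
theorem sd_irr_one (χ : IrrCharacter G) : (χ : G → ℂ) 1 = (charDegree (χ : G → ℂ) : ℂ) :=
  (helper24.char_charDegree_cast (helper24.irr_isCharacter χ.2)).symm

/-- a constituent of a restriction has smaller degree -/
theorem sd_degree_le_of_over [Fintype G] (N : Subgroup G) [Fintype N] {θ : N → ℂ}
    (hθ : IsIrrCharacter N θ) {X : G → ℂ} (hX : IsIrrCharacter G X)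
    (h : classInner (fun n : N => X n) θ ≠ 0) : charDegree θ ≤ charDegree X := by
  classical
  have : Fintype (IrrCharacter N) := Fintype.ofFinite _
  have hres : IsCharacter N (fun n : N => X n) :=
    isCharacter_restrict N (helper24.irr_isCharacter hX)
  obtain ⟨n, hexp, hn, _⟩ := char_decomp hres
  have hnθ : n ⟨θ, hθ⟩ ≠ 0 := by
    intro h0
    apply h
    have h1 := hn ⟨θ, hθ⟩
    rw [h0] at h1
    simpa using h1
  have h1 : X 1 = ∑ ψ : IrrCharacter N, (n ψ : ℂ) * (charDegree (ψ : N → ℂ) : ℂ) := by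
    have h2 := congrFun hexp 1
    simp only [Finset.sum_apply, Pi.smul_apply, smul_eq_mul] at h2
    have h3 : X 1 = X ((1 : N) : G) := by simp
    rw [h3, h2]
    apply Finset.sum_congr rfl
    intro ψ _
    rw [sd_irr_one]
  have h2 : (charDegree X : ℂ) =
      ((∑ ψ : IrrCharacter N, n ψ * charDegree (ψ : N → ℂ) : ℕ) : ℂ) := by
    rw [helper24.char_charDegree_cast (helper24.irr_isCharacter hX), h1]
    push_cast
    rfl
  have h3 : charDegree X = ∑ ψ : IrrCharacter N, n ψ * charDegree (ψ : N → ℂ) := by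
    exact_mod_cast h2
  rw [h3]
  calc charDegree θ ≤ n ⟨θ, hθ⟩ * charDegree θ :=
        Nat.le_mul_of_pos_left _ (Nat.pos_of_ne_zero hnθ)
    _ ≤ _ := Finset.single_le_sum
        (f := fun ψ : IrrCharacter N => n ψ * charDegree (ψ : N → ℂ))
        (fun _ _ => Nat.zero_le _) (Finset.mem_univ (⟨θ, hθ⟩ : IrrCharacter N))

/-- `p`-subgroups are abelian when all degrees are below `p` -/
theorem sd_abelian_of_pgroup [Finite G] (p : ℕ) (hp : p.Prime)
    (hb : ∀ χ : IrrCharacter G, charDegree (χ : G → ℂ) < p) (P : Subgroup G)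
    (hP : IsPGroup p P) : ∀ x ∈ P, ∀ y ∈ P, x * y = y * x := by
  classical
  have := Fintype.ofFinite G
  have : Fintype P := Fintype.ofFinite _
  have : Fact p.Prime := ⟨hp⟩
  obtain ⟨k, hk⟩ := IsPGroup.iff_card.mp hP
  have hlin : ∀ β : IrrCharacter P, charDegree (β : P → ℂ) = 1 := by
    intro β
    by_contra h1
    have hdvd := helper22.prime_dvd_degree_of_pgroup hp hk β h1
    obtain ⟨X, hX, hne⟩ := exists_irr_over P β.2
    have hle := sd_degree_le_of_over P β.2 hX hne
    have hlt := hb ⟨X, hX⟩
    have hpos := helper24.irr_charDegree_pos β.2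
    have hge := Nat.le_of_dvd hpos hdvd
    have hlt' : charDegree X < p := hlt
    omega
  have hcomm := helper22.comm_of_all_linear hlin
  intro x hx y hy
  have h1 := hcomm ⟨x, hx⟩ ⟨y, hy⟩
  exact congrArg Subtype.val h1

/-- the normalizer of a Sylow subgroup meets a different conjugate of itself in a subgroup of
index at least `p` -/
theorem sd_inter_card {p : ℕ} [Fact p.Prime] [Finite G] (P : Sylow p G) (x : G)
    (hx : x ∉ Subgroup.normalizer ((P : Subgroup G) : Set G)) :
    p * Nat.card ((Subgroup.normalizer ((P : Subgroup G) : Set G)) ⊓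
      (Subgroup.normalizer ((P : Subgroup G) : Set G)).comap
        (MulAut.conj x⁻¹).toMonoidHom : Subgroup G)
      ≤ Nat.card (Subgroup.normalizer ((P : Subgroup G) : Set G)) := by
  set N := Subgroup.normalizer ((P : Subgroup G) : Set G) with hN
  set M : Subgroup G := N ⊓ N.comap (MulAut.conj x⁻¹).toMonoidHom with hM
  set Q' : Subgroup G := (P : Subgroup G).comap (MulAut.conj x⁻¹).toMonoidHom with hQ'
  have hPN : (P : Subgroup G) ≤ N := Subgroup.le_normalizer
  have hMN : M ≤ N := inf_le_left
  have h1 : M ⊓ (P : Subgroup G) ≤ Q' ⊓ (P : Subgroup G) := by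
    intro g hg
    obtain ⟨⟨hgN, hgc⟩, hgP⟩ := hg
    refine ⟨?_, hgP⟩
    have hK : IsPGroup p ((P : Subgroup G).map (MulAut.conj x⁻¹).toMonoidHom) := P.2.map _
    have h2 := hK.inf_normalizer_sylow P
    have h3 : (MulAut.conj x⁻¹).toMonoidHom g ∈
        (P : Subgroup G).map (MulAut.conj x⁻¹).toMonoidHom ⊓ (P : Subgroup G) := by
      rw [← h2]
      exact ⟨Subgroup.mem_map_of_mem _ hgP, hgc⟩
    exact h3.2
  have h2 : ¬ (P : Subgroup G) ≤ Q' := by
    intro hle
    apply hx
    rw [hN, Subgroup.mem_normalizer_iff'']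
    have hφ : ∀ g : ↥(P : Subgroup G), x⁻¹ * (g : G) * x ∈ (P : Subgroup G) := by
      intro g
      have := hle g.2
      rw [hQ', Subgroup.mem_comap] at this
      simpa using this
    let φ : ↥(P : Subgroup G) → ↥(P : Subgroup G) := fun g => ⟨x⁻¹ * (g : G) * x, hφ g⟩
    have hinj : Function.Injective φ := by
      intro g₁ g₂ h12
      have h3 : x⁻¹ * (g₁ : G) * x = x⁻¹ * (g₂ : G) * x := congrArg Subtype.val h12
      have h4 : (g₁ : G) = g₂ := by
        have := mul_left_cancel (mul_right_cancel h3)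
        exact this
      exact Subtype.ext h4
    have hsurj : Function.Surjective φ := Finite.injective_iff_surjective.mp hinj
    intro h
    constructor
    · intro hh
      exact hφ ⟨h, hh⟩
    · intro hh
      obtain ⟨g, hg⟩ := hsurj ⟨x⁻¹ * h * x, hh⟩
      have h3 : x⁻¹ * (g : G) * x = x⁻¹ * h * x := congrArg Subtype.val hg
      have h4 : (g : G) = h := mul_left_cancel (mul_right_cancel h3)
      rw [← h4]
      exact g.2
  have h3 : p ≤ Q'.relIndex (P : Subgroup G) := by
    have hne1 : Q'.relIndex (P : Subgroup G) ≠ 1 := by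
      intro h1'
      exact h2 (Subgroup.relIndex_eq_one.mp h1')
    have hPg : IsPGroup p (P : Subgroup G) := P.2
    obtain ⟨m, hm⟩ := hPg.index (Q'.subgroupOf (P : Subgroup G))
    have hm' : Q'.relIndex (P : Subgroup G) = p ^ m := hm
    have hm0 : m ≠ 0 := by
      intro h0
      rw [h0, pow_zero] at hm'
      exact hne1 hm'
    rw [hm']
    calc p = p ^ 1 := (pow_one p).symm
      _ ≤ p ^ m := Nat.pow_le_pow_right (Nat.Prime.pos Fact.out) (Nat.one_le_iff_ne_zero.mpr hm0)
  have h4 : Q'.relIndex (P : Subgroup G) ≤ M.relIndex (P : Subgroup G) := by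
    have h5 := Subgroup.relIndex_le_of_le_left (L := (P : Subgroup G)) h1
      (Subgroup.index_ne_zero_of_finite)
    rwa [Subgroup.inf_relIndex_right, Subgroup.inf_relIndex_right] at h5
  have h5 : M.relIndex (P : Subgroup G) ≤ M.relIndex N :=
    Subgroup.relIndex_le_of_le_right hPN (Subgroup.index_ne_zero_of_finite)
  have h6 : Nat.card M * M.relIndex N = Nat.card N := by
    have := Subgroup.relIndex_mul_relIndex (⊥ : Subgroup G) M N bot_le hMN
    rwa [Subgroup.relIndex_bot_left, Subgroup.relIndex_bot_left] at this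
  calc p * Nat.card M ≤ M.relIndex N * Nat.card M :=
        Nat.mul_le_mul_right _ (h3.trans (h4.trans h5))
    _ = Nat.card N := by rw [mul_comm, h6]

/-- the Sylow `p`-subgroup is normal when all degrees are below `p` -/
theorem sd_sylow_normal [Finite G] (p : ℕ) [hp : Fact p.Prime]
    (hb : ∀ χ : IrrCharacter G, charDegree (χ : G → ℂ) < p) (P : Sylow p G) :
    (P : Subgroup G).Normal := by
  classical
  have := Fintype.ofFinite G
  have : Fintype (IrrCharacter G) := Fintype.ofFinite _
  set N := Subgroup.normalizer ((P : Subgroup G) : Set G) with hN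
  have : Fintype N := Fintype.ofFinite _
  set a := Nat.card N with ha
  have ha0 : 0 < a := Nat.card_pos
  have haC : (a : ℂ) ≠ 0 := by exact_mod_cast ha0.ne'
  set j := N.index with hj
  have hcard : a * j = Nat.card G := N.card_mul_index
  let e : G → ℕ := fun g => if g ∈ N then 1 else 0
  have he1 : ∀ g, e g ≤ 1 := by
    intro g
    show (if g ∈ N then 1 else 0) ≤ 1
    split_ifs <;> omega
  let oneN : N → ℂ := fun _ => 1
  have hext : ∀ g : G, extendByZero N oneN g = (e g : ℂ) := by
    intro g
    by_cases hg : g ∈ N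
    · rw [extendByZero_of_mem' N oneN g hg]
      simp [e, hg, oneN]
    · rw [extendByZero_of_not_mem' N oneN g hg]
      simp [e, hg]
  set π := indFun N oneN with hπ
  have hπc : IsCharacter G π := by
    apply isCharacter_indFun N
    have h1 := isCharacter_of_monoidHom (1 : N →* ℂ)
    exact h1
  have hπcf : IsClassFunction G π := indFun_isClassFunction N oneN
  obtain ⟨n, hexp, hn, hnorm⟩ := char_decomp hπc
  have hπval : ∀ g : G, π g = (a : ℂ)⁻¹ * ((∑ x : G, e (x⁻¹ * g * x) : ℕ) : ℂ) := by
    intro g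
    show (Nat.card N : ℂ)⁻¹ * ∑ x : G, extendByZero N oneN (x⁻¹ * g * x) = _
    rw [Nat.cast_sum]
    congr 1
    apply Finset.sum_congr rfl
    intro x _
    exact hext _
  set T : ℕ := ∑ g : G, ∑ x : G, e g * e (x⁻¹ * g * x) with hT
  have hnorm2 : classInner π π = (a : ℂ)⁻¹ * ((a : ℂ)⁻¹ * (T : ℂ)) := by
    rw [classInner_indFun_eq_restrict N oneN π hπcf]
    unfold classInner
    have h1 : ∑ h : N, oneN h * conj (π (h : G)) =
        ∑ g : G, extendByZero N oneN g * conj (π g) :=
      (sum_extendByZero_mul N oneN (fun g => conj (π g))).symm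
    rw [h1]
    congr 1
    rw [hT, Nat.cast_sum, Finset.mul_sum]
    apply Finset.sum_congr rfl
    intro g _
    have h2 : ∑ x : G, e g * e (x⁻¹ * g * x) = e g * ∑ x : G, e (x⁻¹ * g * x) :=
      (Finset.mul_sum _ _ _).symm
    rw [hext, hπval g, h2, map_mul, map_inv₀, Complex.conj_natCast, Complex.conj_natCast]
    push_cast
    ring
  -- counting
  have hsumE : ∑ g : G, e g = a := by
    show ∑ g : G, (if g ∈ N then 1 else 0) = a
    rw [← Finset.card_filter, ha, Nat.card_eq_fintype_card, Fintype.card_subtype]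
  have hq : ∃ q, p = q + 1 := Nat.exists_eq_succ_of_ne_zero hp.out.ne_zero
  obtain ⟨q, hq⟩ := hq
  have hc : ∀ x : G, p * ∑ g : G, e g * e (x⁻¹ * g * x) ≤ a + e x * (q * a) := by
    intro x
    by_cases hx : x ∈ N
    · have h1 : ∑ g : G, e g * e (x⁻¹ * g * x) ≤ a := by
        rw [← hsumE]
        apply Finset.sum_le_sum
        intro g _
        calc e g * e (x⁻¹ * g * x) ≤ e g * 1 := Nat.mul_le_mul_left _ (he1 _)
          _ = e g := mul_one _
      have h2 : e x = 1 := by simp [e, hx]
      rw [h2, hq]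
      calc (q + 1) * ∑ g : G, e g * e (x⁻¹ * g * x) ≤ (q + 1) * a := Nat.mul_le_mul_left _ h1
        _ = a + 1 * (q * a) := by ring
    · have h2 : e x = 0 := by simp [e, hx]
      rw [h2, zero_mul, add_zero]
      have h3 := sd_inter_card P x hx
      have h4 : ∑ g : G, e g * e (x⁻¹ * g * x) =
          Nat.card ((N ⊓ N.comap (MulAut.conj x⁻¹).toMonoidHom : Subgroup G)) := by
        rw [Nat.card_eq_fintype_card, Fintype.card_subtype, Finset.card_filter]
        apply Finset.sum_congr rfl
        intro g _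
        by_cases hg1 : g ∈ N
        · by_cases hg2 : x⁻¹ * g * x ∈ N
          · have : g ∈ (N ⊓ N.comap (MulAut.conj x⁻¹).toMonoidHom : Subgroup G) := by
              refine ⟨hg1, ?_⟩
              show (MulAut.conj x⁻¹) g ∈ N
              simpa using hg2
            simp [e, hg1, hg2]
          · have : g ∉ (N ⊓ N.comap (MulAut.conj x⁻¹).toMonoidHom : Subgroup G) := by
              rintro ⟨_, h5⟩
              apply hg2
              have h6 : (MulAut.conj x⁻¹) g ∈ N := h5
              simpa using h6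
            simp [e, hg1, hg2, this]
        · have : g ∉ (N ⊓ N.comap (MulAut.conj x⁻¹).toMonoidHom : Subgroup G) := by
            rintro ⟨h5, _⟩
            exact hg1 h5
          simp [e, hg1, this]
      rw [h4]
      exact h3
  have hTbound : p * T ≤ Nat.card G * a + a * (q * a) := by
    have h1 : T = ∑ x : G, ∑ g : G, e g * e (x⁻¹ * g * x) := Finset.sum_comm
    rw [h1, Finset.mul_sum]
    calc ∑ x : G, p * ∑ g : G, e g * e (x⁻¹ * g * x) ≤ ∑ x : G, (a + e x * (q * a)) :=
          Finset.sum_le_sum (fun x _ => hc x)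
      _ = Nat.card G * a + a * (q * a) := by
          rw [Finset.sum_add_distrib, Finset.sum_const, Finset.card_univ, ← Finset.sum_mul,
            hsumE, smul_eq_mul, Nat.card_eq_fintype_card]
  -- norm as a natural number
  set S : ℕ := ∑ ψ : IrrCharacter G, n ψ ^ 2 with hS
  have hST : S * (a * a) = T := by
    have h1 : (S : ℂ) = (a : ℂ)⁻¹ * ((a : ℂ)⁻¹ * (T : ℂ)) := by rw [← hnorm, hnorm2]
    have h2 : ((S * (a * a) : ℕ) : ℂ) = (T : ℂ) := by
      push_cast
      rw [h1]
      field_simp
    exact_mod_cast h2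
  have hpS : p * S ≤ j + q := by
    have h1 : p * S * (a * a) ≤ (j + q) * (a * a) := by
      calc p * S * (a * a) = p * T := by rw [mul_assoc, hST]
        _ ≤ Nat.card G * a + a * (q * a) := hTbound
        _ = (j + q) * (a * a) := by rw [← hcard]; ring
    exact Nat.le_of_mul_le_mul_right h1 (Nat.mul_pos ha0 ha0)
  -- the degree
  have hdeg : j = ∑ ψ : IrrCharacter G, n ψ * charDegree (ψ : G → ℂ) := by
    have h1 : π 1 = (j : ℂ) := by
      rw [hπ, helper8.indFun_one_eq]
      show (a : ℂ)⁻¹ * ((Nat.card G : ℂ) * 1) = (j : ℂ)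
      rw [← hcard]
      push_cast
      field_simp
    have h2 : π 1 = ∑ ψ : IrrCharacter G, (n ψ : ℂ) * (charDegree (ψ : G → ℂ) : ℂ) := by
      have h3 := congrFun hexp 1
      simp only [Finset.sum_apply, Pi.smul_apply, smul_eq_mul] at h3
      rw [h3]
      apply Finset.sum_congr rfl
      intro ψ _
      rw [sd_irr_one]
    have h3 : (j : ℂ) = ((∑ ψ : IrrCharacter G, n ψ * charDegree (ψ : G → ℂ) : ℕ) : ℂ) := by
      rw [← h1, h2]
      push_cast
      rfl
    exact_mod_cast h3
  -- the principal character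
  have hn1 : n (helper24.oneIrr G) = 1 := by
    have h1 := hn (helper24.oneIrr G)
    have h2 : classInner π ((helper24.oneIrr G : IrrCharacter G) : G → ℂ) = 1 := by
      rw [classInner_indFun_eq_restrict N oneN _
        (helper24.char_isClassFunction (helper24.irr_isCharacter (helper24.oneIrr G).2))]
      show (Nat.card N : ℂ)⁻¹ * ∑ h : N, (1 : ℂ) * conj (1 : ℂ) = 1
      simp only [map_one, mul_one, Finset.sum_const, Finset.card_univ, nsmul_eq_mul]
      rw [← Nat.card_eq_fintype_card]
      exact inv_mul_cancel₀ haC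
    rw [h2] at h1
    exact_mod_cast h1.symm
  have hd1 : charDegree ((helper24.oneIrr G : IrrCharacter G) : G → ℂ) = 1 := by
    apply helper24.charDegree_natCast
    show (1 : ℂ) = ((1 : ℕ) : ℂ)
    norm_num
  set S' : ℕ := ∑ ψ ∈ (Finset.univ : Finset (IrrCharacter G)).erase (helper24.oneIrr G), n ψ ^ 2
    with hS'
  set J' : ℕ := ∑ ψ ∈ (Finset.univ : Finset (IrrCharacter G)).erase (helper24.oneIrr G),
    n ψ * charDegree (ψ : G → ℂ) with hJ'
  have hS1 : S = 1 + S' := by
    rw [hS, hS', ← Finset.add_sum_erase _ _ (Finset.mem_univ (helper24.oneIrr G)), hn1]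
    norm_num
  have hJ1 : j = 1 + J' := by
    rw [hdeg, hJ', ← Finset.add_sum_erase _ _ (Finset.mem_univ (helper24.oneIrr G)), hn1, hd1]
  have hJS : J' ≤ q * S' := by
    rw [hJ', hS', Finset.mul_sum]
    apply Finset.sum_le_sum
    intro ψ _
    have h1 : charDegree (ψ : G → ℂ) ≤ q := by
      have := hb ψ
      omega
    calc n ψ * charDegree (ψ : G → ℂ) ≤ n ψ * q := Nat.mul_le_mul_left _ h1
      _ ≤ n ψ ^ 2 * q := Nat.mul_le_mul_right _ (by
          rw [pow_two]
          exact Nat.le_mul_self _)
      _ = q * n ψ ^ 2 := mul_comm _ _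
  have hS0 : S' = 0 := by
    rw [hq, hS1, hJ1] at hpS
    have h1 : (q + 1) * (1 + S') = q + 1 + q * S' + S' := by ring
    rw [h1] at hpS
    generalize q * S' = z at hpS hJS
    omega
  have hJ0 : J' = 0 := by
    rw [hS0, mul_zero] at hJS
    omega
  have hj1 : N.index = 1 := by
    rw [← hj, hJ1, hJ0]
  have hNtop : N = ⊤ := Subgroup.index_eq_one.mp hj1
  exact Subgroup.normalizer_eq_top_iff.mp hNtop

/-- all irreducible degrees below `p` force a normal abelian Sylow `p`-subgroup -/
theorem sd_main [Finite G] (p : ℕ) (hp : p.Prime)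
    (hb : ∀ χ : IrrCharacter G, charDegree (χ : G → ℂ) < p) :
    ∃ P : Subgroup G, P.Normal ∧ (∀ x ∈ P, ∀ y ∈ P, x * y = y * x) ∧ IsPGroup p P ∧
      ¬ p ∣ P.index := by
  haveI : Fact p.Prime := ⟨hp⟩
  obtain ⟨P⟩ : Nonempty (Sylow p G) := inferInstance
  exact ⟨(P : Subgroup G), sd_sylow_normal p hb P,
    sd_abelian_of_pgroup p hp hb (P : Subgroup G) P.2, P.2, P.not_dvd_index⟩

end SmallDeg

end Cfsg.Agent.helper12
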