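import Cfsg.Agent.Lib_helper12_Sl2Torus2
import Cfsg.Agent.Lib_helper12_PslSquare

set_option autoImplicit false

namespace Cfsg.Agent.helper12

open Matrix Cfsg

variable {F : Type*} [Field F]

/-- quaternion relations for a pair of 2×2 matrices -/
structure QuatRel (A W : Matrix (Fin 2) (Fin 2) F) : Prop where
  aa : A * A = -1
  ww : W * W = -1
  wa : W * A = -(A * W)

namespace QuatRel

variable {A W : Matrix (Fin 2) (Fin 2) F} (h : QuatRel A W)
include h

theorem aax (X : Matrix (Fin 2) (Fin 2) F) : A * (A * X) = -X := by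
  rw [← mul_assoc, h.aa]; simp

theorem wwx (X : Matrix (Fin 2) (Fin 2) F) : W * (W * X) = -X := by
  rw [← mul_assoc, h.ww]; simp

theorem wax (X : Matrix (Fin 2) (Fin 2) F) : W * (A * X) = -(A * (W * X)) := by
  rw [← mul_assoc, h.wa]; simp [mul_assoc]

theorem m_mul_a : (-1 + A + W + A * W) * A = (A * W) * (-1 + A + W + A * W) := by
  simp only [add_mul, mul_add, neg_mul, mul_neg, one_mul, mul_one, mul_assoc, h.aa, h.ww, h.wa, h.aax, h.wwx, h.wax, neg_neg]
  abel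

theorem m_mul_w : (-1 + A + W + A * W) * W = A * (-1 + A + W + A * W) := by
  simp only [add_mul, mul_add, neg_mul, mul_neg, one_mul, mul_one, mul_assoc, h.aa, h.ww, h.wa, h.aax, h.wwx, h.wax, neg_neg]
  abel

theorem m_sq : (-1 + A + W + A * W) * (-1 + A + W + A * W) = (-2 : F) • (-1 + A + W + A * W) - (4 : F) • (1 : Matrix (Fin 2) (Fin 2) F) := by
  simp only [add_mul, mul_add, neg_mul, mul_neg, one_mul, mul_one, mul_assoc, h.aa, h.ww, h.wa, h.aax, h.wwx, h.wax, neg_neg]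
  module

theorem aw_sq : (A * W) * (A * W) = -1 := by
  simp only [mul_assoc, h.aa, h.ww, h.wa, h.aax, h.wwx, h.wax, neg_neg, mul_neg, neg_mul]

end QuatRel

theorem mat2_cayley_hamilton (M : Matrix (Fin 2) (Fin 2) F) :
    M * M = M.trace • M - M.det • (1 : Matrix (Fin 2) (Fin 2) F) := by
  ext i j
  fin_cases i <;> fin_cases j <;> simp [Matrix.mul_apply, Fin.sum_univ_two, Matrix.trace_fin_two, Matrix.det_fin_two] <;> ring

theorem sl2_trace_zero_of_sq (x : Matrix.SpecialLinearGroup (Fin 2) F)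
    (hx : (x : Matrix (Fin 2) (Fin 2) F) * (x : Matrix (Fin 2) (Fin 2) F) = -1) :
    (x : Matrix (Fin 2) (Fin 2) F).trace = 0 := by
  have h := sl2_cayley_hamilton x
  rw [hx] at h
  have h1 : (x : Matrix (Fin 2) (Fin 2) F).trace • (x : Matrix (Fin 2) (Fin 2) F) = 0 := by
    have : (x : Matrix (Fin 2) (Fin 2) F).trace • (x : Matrix (Fin 2) (Fin 2) F) = (-1 : Matrix (Fin 2) (Fin 2) F) + 1 := by
      rw [h]; abel
    rw [this]; simp
  have h2 := congrArg Matrix.trace h1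
  rw [Matrix.trace_smul, Matrix.trace_zero, smul_eq_mul] at h2
  exact mul_self_eq_zero.mp h2

theorem sl2_isScalar2_mul_self (x : Matrix.SpecialLinearGroup (Fin 2) F)
    (hs : IsScalar2 (x : Matrix (Fin 2) (Fin 2) F)) : x * x = 1 := by
  apply Subtype.ext
  rw [Matrix.SpecialLinearGroup.coe_mul]
  rcases sl2_isScalar2_cases x hs with h | h <;> rw [h] <;> simp

theorem sl2_quat_nu (h2 : (2 : F) ≠ 0) (a w : Matrix.SpecialLinearGroup (Fin 2) F)
    (haa : ((a * a : Matrix.SpecialLinearGroup (Fin 2) F) : Matrix (Fin 2) (Fin 2) F) = -1)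
    (hww : ((w * w : Matrix.SpecialLinearGroup (Fin 2) F) : Matrix (Fin 2) (Fin 2) F) = -1)
    (hwa : w * a * w⁻¹ = a⁻¹) :
    ∃ ν : Matrix.SpecialLinearGroup (Fin 2) F, ν * a * ν⁻¹ = a * w ∧ ν * w * ν⁻¹ = a ∧ ν * ν * ν = 1 := by
  rw [Matrix.SpecialLinearGroup.coe_mul] at haa hww
  have hta := sl2_trace_zero_of_sq a haa
  have htw := sl2_trace_zero_of_sq w hww
  have hainv : ((a⁻¹ : Matrix.SpecialLinearGroup (Fin 2) F) : Matrix (Fin 2) (Fin 2) F) = -(a : Matrix (Fin 2) (Fin 2) F) := by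
    rw [sl2_inv_eq_trace_sub, hta]; simp
  have hq : QuatRel (a : Matrix (Fin 2) (Fin 2) F) (w : Matrix (Fin 2) (Fin 2) F) := by
    refine ⟨haa, hww, ?_⟩
    have h1 : w * a = a⁻¹ * w := by rw [← hwa]; group
    have h3 := congrArg (fun m : Matrix.SpecialLinearGroup (Fin 2) F => (m : Matrix (Fin 2) (Fin 2) F)) h1
    simp only [Matrix.SpecialLinearGroup.coe_mul, hainv] at h3
    rw [h3, neg_mul]
  have htaw : ((a * w : Matrix.SpecialLinearGroup (Fin 2) F) : Matrix (Fin 2) (Fin 2) F).trace = 0 := by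
    apply sl2_trace_zero_of_sq
    rw [Matrix.SpecialLinearGroup.coe_mul]
    exact hq.aw_sq
  rw [Matrix.SpecialLinearGroup.coe_mul] at htaw
  obtain ⟨M, hM⟩ : ∃ M : Matrix (Fin 2) (Fin 2) F, M = -1 + (a : Matrix (Fin 2) (Fin 2) F) + (w : Matrix (Fin 2) (Fin 2) F) + (a : Matrix (Fin 2) (Fin 2) F) * (w : Matrix (Fin 2) (Fin 2) F) := ⟨_, rfl⟩
  have hMa := hq.m_mul_a
  have hMw := hq.m_mul_w
  have hMM := hq.m_sq
  rw [← hM] at hMa hMw hMM
  have hMt : M.trace = -2 := by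
    rw [hM, Matrix.trace_add, Matrix.trace_add, Matrix.trace_add, hta, htw, htaw, Matrix.trace_neg, Matrix.trace_one]
    simp
  obtain ⟨V, hV⟩ : ∃ V : Matrix (Fin 2) (Fin 2) F, V = (2 : F)⁻¹ • M := ⟨_, rfl⟩
  have hVV : V * V = -1 - V := by
    rw [hV, Matrix.smul_mul, Matrix.mul_smul, hMM, smul_smul]
    have e1 : (2 : F)⁻¹ * 2⁻¹ * (-2) = -(2 : F)⁻¹ := by field_simp
    have e2 : (2 : F)⁻¹ * 2⁻¹ * 4 = 1 := by field_simp; norm_num
    rw [smul_sub, smul_smul, smul_smul, e1, e2]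
    simp
    abel
  have hVt : V.trace = -1 := by
    rw [hV, Matrix.trace_smul, hMt, smul_eq_mul]
    field_simp
  have hVdet : V.det = 1 := by
    have hch := mat2_cayley_hamilton V
    rw [hVV, hVt] at hch
    have h00 := congrFun (congrFun hch 0) 0
    simp at h00
    linear_combination h00
  obtain ⟨ν, hν⟩ : ∃ ν : Matrix.SpecialLinearGroup (Fin 2) F, ν = ⟨V, hVdet⟩ := ⟨_, rfl⟩
  have hνc : (ν : Matrix (Fin 2) (Fin 2) F) = V := by rw [hν]
  refine ⟨ν, ?_, ?_, ?_⟩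
  · rw [mul_inv_eq_iff_eq_mul]
    apply Subtype.ext
    simp only [Matrix.SpecialLinearGroup.coe_mul, hνc]
    rw [hV, Matrix.smul_mul, hMa, Matrix.mul_smul]
  · rw [mul_inv_eq_iff_eq_mul]
    apply Subtype.ext
    simp only [Matrix.SpecialLinearGroup.coe_mul, hνc]
    rw [hV, Matrix.smul_mul, hMw, Matrix.mul_smul]
  · apply Subtype.ext
    simp only [Matrix.SpecialLinearGroup.coe_mul, hνc, Matrix.SpecialLinearGroup.coe_one]
    rw [hVV, sub_mul, neg_mul, one_mul, hVV]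
    abel

end Cfsg.Agent.helper12
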