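import Cfsg.Agent.Lib_helper12_SylTwoA
import Cfsg.Agent.Lib_helper12_Sl2Sylow

set_option autoImplicit false

namespace Cfsg.Agent.helper12

open Matrix Cfsg

theorem mem_zpowers_pow_of_pow_eq_one {G : Type*} [Group G] (g : G) (d m' : ℕ) (hd : 0 < d)
    (hord : orderOf g = d * m') {n : G} (hn : n ∈ Subgroup.zpowers g) (hnd : n ^ d = 1) :
    n ∈ Subgroup.zpowers (g ^ m') := by
  obtain ⟨j, rfl⟩ := Subgroup.mem_zpowers_iff.mp hn
  have h1 : g ^ (j * (d : ℤ)) = 1 := by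
    rw [_root_.zpow_mul, zpow_natCast]; exact hnd
  have h2 := (orderOf_dvd_iff_zpow_eq_one).mpr h1
  rw [hord] at h2
  have h3 : ((d : ℤ) * (m' : ℤ)) ∣ (d : ℤ) * j := by
    rw [mul_comm (d : ℤ) j]; exact_mod_cast h2
  have h4 : (m' : ℤ) ∣ j := Int.dvd_of_mul_dvd_mul_left (by exact_mod_cast hd.ne') h3
  obtain ⟨c, rfl⟩ := h4
  rw [_root_.zpow_mul, zpow_natCast]
  exact Subgroup.zpow_mem_zpowers _ _

theorem card_filter_zpowers_pow_eq_one_le {G : Type*} [Group G] [Fintype G] [DecidableEq G] (g : G) (n : ℕ) (hn : 0 < n) :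
    (Finset.univ.filter (fun t : G => t ∈ Subgroup.zpowers g ∧ t ^ n = 1)).card ≤ n := by
  classical
  have hsub : Finset.univ.filter (fun t : G => t ∈ Subgroup.zpowers g ∧ t ^ n = 1)
      ⊆ (Finset.univ.filter (fun t' : Subgroup.zpowers g => t' ^ n = 1)).image Subtype.val := by
    intro t ht
    rw [Finset.mem_filter] at ht
    rw [Finset.mem_image]
    refine ⟨⟨t, ht.2.1⟩, ?_, rfl⟩
    rw [Finset.mem_filter]
    refine ⟨Finset.mem_univ _, ?_⟩
    apply Subtype.ext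
    simpa using ht.2.2
  refine (Finset.card_le_card hsub).trans (Finset.card_image_le.trans ?_)
  exact IsCyclic.card_pow_eq_one_le hn

end Cfsg.Agent.helper12
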