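import Cfsg.Agent.Lib_helper12_SylTwoB

set_option autoImplicit false

namespace Cfsg.Agent.helper12

open Matrix Cfsg

variable {F : Type*} [Field F]

/-- context for the Sylow 2-subgroup computation in SL2 -/
structure SylTwoCtx [Fintype F] (g₀ : Matrix.SpecialLinearGroup (Fin 2) F) (m : ℕ)
    (S₀ : Subgroup (Matrix.SpecialLinearGroup (Fin 2) F)) : Prop where
  hodd : Odd (Fintype.card F)
  hD : (g₀ : Matrix (Fin 2) (Fin 2) F).trace ^ 2 ≠ 4
  hcard : Nat.card (Subgroup.centralizer ({g₀} : Set (Matrix.SpecialLinearGroup (Fin 2) F))) = m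
  hord : orderOf g₀ = m
  h4 : 4 ∣ m
  hle : S₀ ≤ Subgroup.normalizer ((Subgroup.centralizer ({g₀} : Set (Matrix.SpecialLinearGroup (Fin 2) F))) : Set (Matrix.SpecialLinearGroup (Fin 2) F))
  hS : Nat.card S₀ = 2 ^ (m.factorization 2 + 1)
  ha : g₀ ^ (m / 2 ^ m.factorization 2) ∈ S₀

namespace SylTwoCtx

variable [Fintype F] {g₀ : Matrix.SpecialLinearGroup (Fin 2) F} {m : ℕ}
  {S₀ : Subgroup (Matrix.SpecialLinearGroup (Fin 2) F)} (c : SylTwoCtx g₀ m S₀)
include c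

theorem h2 : (2 : F) ≠ 0 := two_ne_zero_of_odd_card c.hodd

theorem hns : ¬ IsScalar2 (g₀ : Matrix (Fin 2) (Fin 2) F) := sl2_not_isScalar2_of_disc g₀ c.hD

theorem m_pos : 0 < m := by
  rw [← c.hord]; exact orderOf_pos g₀

theorem k_ge : 2 ≤ m.factorization 2 := by
  have : 2 ^ 2 ∣ m := c.h4
  exact (Nat.Prime.pow_dvd_iff_le_factorization Nat.prime_two c.m_pos.ne').mp this

theorem m_eq : m = 2 ^ m.factorization 2 * (m / 2 ^ m.factorization 2) :=
  (Nat.ordProj_mul_ordCompl_eq_self m 2).symm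

theorem m'_odd : ¬ 2 ∣ m / 2 ^ m.factorization 2 := Nat.not_dvd_ordCompl Nat.prime_two c.m_pos.ne'

theorem m'_pos : 0 < m / 2 ^ m.factorization 2 := by
  rcases Nat.eq_zero_or_pos (m / 2 ^ m.factorization 2) with h | h
  · exact absurd (h ▸ dvd_zero 2) c.m'_odd
  · exact h

theorem T_eq : Subgroup.centralizer ({g₀} : Set (Matrix.SpecialLinearGroup (Fin 2) F)) = Subgroup.zpowers g₀ := by
  symm
  apply Subgroup.eq_of_le_of_card_ge
  · rw [Subgroup.zpowers_le]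
    exact sl2_mem_centralizer_singleton.mpr rfl
  · rw [c.hcard, Nat.card_zpowers, c.hord]

theorem a_order : orderOf (g₀ ^ (m / 2 ^ m.factorization 2)) = 2 ^ m.factorization 2 := by
  have hdvd : m / 2 ^ m.factorization 2 ∣ orderOf g₀ := by
    rw [c.hord]; exact Nat.div_dvd_of_dvd (Nat.ordProj_dvd m 2)
  rw [orderOf_pow_of_dvd c.m'_pos.ne' hdvd, c.hord]
  exact Nat.div_div_self (Nat.ordProj_dvd m 2) c.m_pos.ne'

theorem a_memT : g₀ ^ (m / 2 ^ m.factorization 2) ∈ Subgroup.centralizer ({g₀} : Set (Matrix.SpecialLinearGroup (Fin 2) F)) := by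
  rw [c.T_eq]; exact Subgroup.npow_mem_zpowers _ _

theorem four_le : 4 ≤ 2 ^ m.factorization 2 := by
  have := c.k_ge
  calc 4 = 2 ^ 2 := by norm_num
    _ ≤ 2 ^ m.factorization 2 := Nat.pow_le_pow_right (by norm_num) this

theorem a_ns : ¬ IsScalar2 ((g₀ ^ (m / 2 ^ m.factorization 2) : Matrix.SpecialLinearGroup (Fin 2) F) : Matrix (Fin 2) (Fin 2) F) := by
  intro hs
  have h1 := sl2_isScalar2_mul_self _ hs
  have h2 : (g₀ ^ (m / 2 ^ m.factorization 2)) ^ 2 = 1 := by rw [pow_two]; exact h1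
  have h3 := Nat.le_of_dvd (by norm_num) (orderOf_dvd_of_pow_eq_one h2)
  rw [c.a_order] at h3
  have := c.four_le
  omega

theorem Ca : Subgroup.centralizer ({g₀ ^ (m / 2 ^ m.factorization 2)} : Set (Matrix.SpecialLinearGroup (Fin 2) F))
    = Subgroup.centralizer ({g₀} : Set (Matrix.SpecialLinearGroup (Fin 2) F)) :=
  sl2_centralizer_eq_of_mem c.hns c.a_memT c.a_ns

theorem exists_w : ∃ w ∈ S₀, w ∉ Subgroup.centralizer ({g₀} : Set (Matrix.SpecialLinearGroup (Fin 2) F)) := by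
  by_contra hcon
  push Not at hcon
  have hle : S₀ ≤ Subgroup.centralizer ({g₀} : Set (Matrix.SpecialLinearGroup (Fin 2) F)) := hcon
  have hdvd := Subgroup.card_dvd_of_le hle
  rw [c.hS, c.hcard] at hdvd
  have := (Nat.Prime.pow_dvd_iff_le_factorization Nat.prime_two c.m_pos.ne').mp hdvd
  omega

theorem w_inv {w : Matrix.SpecialLinearGroup (Fin 2) F} (hw : w ∈ S₀)
    (hwT : w ∉ Subgroup.centralizer ({g₀} : Set (Matrix.SpecialLinearGroup (Fin 2) F))) : w * g₀ * w⁻¹ = g₀⁻¹ :=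
  (sl2_normalizer_cases c.h2 c.hD (c.hle hw)).resolve_left hwT

theorem w_sq {w : Matrix.SpecialLinearGroup (Fin 2) F} (hw : w ∈ S₀)
    (hwT : w ∉ Subgroup.centralizer ({g₀} : Set (Matrix.SpecialLinearGroup (Fin 2) F))) :
    ((w * w : Matrix.SpecialLinearGroup (Fin 2) F) : Matrix (Fin 2) (Fin 2) F) = -1 :=
  sl2_inverting_sq c.hns (c.w_inv hw hwT)

theorem pow_card_S {x : Matrix.SpecialLinearGroup (Fin 2) F} (hx : x ∈ S₀) : x ^ (2 ^ (m.factorization 2 + 1)) = 1 := by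
  have := pow_card_eq_one' (G := S₀) (x := ⟨x, hx⟩)
  rw [c.hS] at this
  have h' := congrArg Subtype.val this
  simpa using h'

/-- elements of T of 2-power order lie in ⟨a⟩ -/
theorem mem_zpowers_a {x : Matrix.SpecialLinearGroup (Fin 2) F}
    (hxT : x ∈ Subgroup.centralizer ({g₀} : Set (Matrix.SpecialLinearGroup (Fin 2) F))) {j : ℕ} (hx : x ^ (2 ^ j) = 1) :
    x ∈ Subgroup.zpowers (g₀ ^ (m / 2 ^ m.factorization 2)) := by
  have hd1 := orderOf_dvd_of_pow_eq_one hx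
  obtain ⟨i, _, hi⟩ := (Nat.dvd_prime_pow Nat.prime_two).mp hd1
  have hd2 : orderOf x ∣ m := by
    rw [← c.hcard]
    have := orderOf_dvd_natCard (⟨x, hxT⟩ : Subgroup.centralizer ({g₀} : Set (Matrix.SpecialLinearGroup (Fin 2) F)))
    rwa [Subgroup.orderOf_mk] at this
  rw [hi] at hd2
  have hik := (Nat.Prime.pow_dvd_iff_le_factorization Nat.prime_two c.m_pos.ne').mp hd2
  have hxk : x ^ (2 ^ m.factorization 2) = 1 := by
    apply orderOf_dvd_iff_pow_eq_one.mp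
    rw [hi]; exact Nat.pow_dvd_pow 2 hik
  rw [c.T_eq] at hxT
  exact mem_zpowers_pow_of_pow_eq_one g₀ (2 ^ m.factorization 2) (m / 2 ^ m.factorization 2) (by positivity)
    (by rw [c.hord]; exact c.m_eq) hxT hxk

theorem inter_le {x : Matrix.SpecialLinearGroup (Fin 2) F} (hx : x ∈ S₀)
    (hxT : x ∈ Subgroup.centralizer ({g₀} : Set (Matrix.SpecialLinearGroup (Fin 2) F))) :
    x ∈ Subgroup.zpowers (g₀ ^ (m / 2 ^ m.factorization 2)) :=
  c.mem_zpowers_a hxT (c.pow_card_S hx)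

end SylTwoCtx

end Cfsg.Agent.helper12
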