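import Cfsg.Agent.Lib_helper12_SylTwoC

set_option autoImplicit false

namespace Cfsg.Agent.helper12

open Matrix Cfsg

variable {F : Type*} [Field F]

namespace SylTwoCtx

variable [Fintype F] {g₀ : Matrix.SpecialLinearGroup (Fin 2) F} {m : ℕ}
  {S₀ : Subgroup (Matrix.SpecialLinearGroup (Fin 2) F)} (c : SylTwoCtx g₀ m S₀)
include c

theorem centralizer_eq : Subgroup.centralizer (S₀ : Set (Matrix.SpecialLinearGroup (Fin 2) F))
    = Subgroup.center (Matrix.SpecialLinearGroup (Fin 2) F) := by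
  apply le_antisymm
  · intro x hx
    obtain ⟨w, hw, hwT⟩ := c.exists_w
    have hxa : x ∈ Subgroup.centralizer ({g₀ ^ (m / 2 ^ m.factorization 2)} : Set (Matrix.SpecialLinearGroup (Fin 2) F)) := by
      rw [sl2_mem_centralizer_singleton]
      exact (Subgroup.mem_centralizer_iff.mp hx _ c.ha)
    rw [c.Ca] at hxa
    have hxw : w * x = x * w := Subgroup.mem_centralizer_iff.mp hx w hw
    have hinv : w * x * w⁻¹ = x⁻¹ := sl2_conj_inverts c.hns (c.w_inv hw hwT) hxa
    have hxx : x * x = 1 := by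
      have e : x = x⁻¹ := by rw [← hinv, hxw]; group
      calc x * x = x * x⁻¹ := by rw [← e]
        _ = 1 := mul_inv_cancel x
    rcases sl2_sq_eq_one c.h2 hxx with h | h
    · exact sl2_central_of_scalar x 1 (by rw [h]; simp)
    · exact sl2_central_of_scalar x (-1) (by rw [h]; simp)
  · exact Subgroup.center_le_centralizer _

/-- elements of `T` normalizing `S₀` lie in `⟨a⟩` -/
theorem normalizer_inter_T {n : Matrix.SpecialLinearGroup (Fin 2) F}
    (hn : n ∈ Subgroup.normalizer (S₀ : Set (Matrix.SpecialLinearGroup (Fin 2) F)))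
    (hnT : n ∈ Subgroup.centralizer ({g₀} : Set (Matrix.SpecialLinearGroup (Fin 2) F))) :
    n ∈ Subgroup.zpowers (g₀ ^ (m / 2 ^ m.factorization 2)) := by
  obtain ⟨w, hw, hwT⟩ := c.exists_w
  have h1 : n * w * n⁻¹ ∈ S₀ := (Subgroup.mem_normalizer_iff.mp hn w).mp hw
  have h2 : w * n⁻¹ * w⁻¹ = n := by
    have := sl2_conj_inverts c.hns (c.w_inv hw hwT) (inv_mem hnT)
    rw [this, inv_inv]
  have h3 : n * n ∈ S₀ := by
    have e : n * n = (n * w * n⁻¹) * w⁻¹ := by
      calc n * n = n * (w * n⁻¹ * w⁻¹) := by rw [h2]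
        _ = (n * w * n⁻¹) * w⁻¹ := by group
    rw [e]
    exact mul_mem h1 (inv_mem hw)
  have h4 := c.pow_card_S h3
  have h5 : n ^ (2 ^ (m.factorization 2 + 1 + 1)) = 1 := by
    rw [pow_succ 2 (m.factorization 2 + 1), mul_comm, pow_mul, pow_two]
    exact h4
  exact c.mem_zpowers_a hnT h5

theorem zpowers_a_le : Subgroup.zpowers (g₀ ^ (m / 2 ^ m.factorization 2)) ≤ S₀ := by
  rw [Subgroup.zpowers_le]; exact c.ha

/-- the product of two inverting elements lies in `T` -/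
theorem mul_inv_memT {n w : Matrix.SpecialLinearGroup (Fin 2) F} (hn : n * g₀ * n⁻¹ = g₀⁻¹) (hw : w * g₀ * w⁻¹ = g₀⁻¹) :
    n * w⁻¹ ∈ Subgroup.centralizer ({g₀} : Set (Matrix.SpecialLinearGroup (Fin 2) F)) := by
  rw [sl2_mem_centralizer_singleton]
  have hw' := sl2_inverting_inv hw
  rw [inv_inv] at hw'
  have e1 : w⁻¹ * g₀ = g₀⁻¹ * w⁻¹ := by rw [← hw']; group
  have e2 : n * g₀⁻¹ = g₀ * n := by
    have : n * g₀⁻¹ * n⁻¹ = g₀ := by
      have := congrArg (fun y => y⁻¹) hn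
      simp only [_root_.mul_inv_rev, inv_inv] at this
      rw [← mul_assoc] at this
      exact this
    calc n * g₀⁻¹ = (n * g₀⁻¹ * n⁻¹) * n := by group
      _ = g₀ * n := by rw [this]
  calc g₀ * (n * w⁻¹) = (g₀ * n) * w⁻¹ := by group
    _ = n * g₀⁻¹ * w⁻¹ := by rw [e2]
    _ = n * (g₀⁻¹ * w⁻¹) := by group
    _ = n * (w⁻¹ * g₀) := by rw [e1]
    _ = n * w⁻¹ * g₀ := by group

/-- elements of `N(T)` normalizing `S₀` lie in `S₀` -/
theorem mem_of_normalizer_NT {n : Matrix.SpecialLinearGroup (Fin 2) F}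
    (hn : n ∈ Subgroup.normalizer (S₀ : Set (Matrix.SpecialLinearGroup (Fin 2) F)))
    (hnN : n ∈ Subgroup.normalizer ((Subgroup.centralizer ({g₀} : Set (Matrix.SpecialLinearGroup (Fin 2) F))) : Set (Matrix.SpecialLinearGroup (Fin 2) F))) :
    n ∈ S₀ := by
  by_cases hnT : n ∈ Subgroup.centralizer ({g₀} : Set (Matrix.SpecialLinearGroup (Fin 2) F))
  · exact c.zpowers_a_le (c.normalizer_inter_T hn hnT)
  · obtain ⟨w, hw, hwT⟩ := c.exists_w
    have hninv := (sl2_normalizer_cases c.h2 c.hD hnN).resolve_left hnT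
    have h1 := c.mul_inv_memT hninv (c.w_inv hw hwT)
    have h2 : n * w⁻¹ ∈ Subgroup.normalizer (S₀ : Set (Matrix.SpecialLinearGroup (Fin 2) F)) :=
      mul_mem hn (inv_mem (Subgroup.le_normalizer hw))
    have h3 := c.zpowers_a_le (c.normalizer_inter_T h2 h1)
    have : n = (n * w⁻¹) * w := by group
    rw [this]
    exact mul_mem h3 hw

theorem conj_mem_T_of_normalizer (h8 : 8 ∣ m) {n : Matrix.SpecialLinearGroup (Fin 2) F}
    (hn : n ∈ Subgroup.normalizer (S₀ : Set (Matrix.SpecialLinearGroup (Fin 2) F)))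
    (x : Matrix.SpecialLinearGroup (Fin 2) F)
    (hx : x ∈ Subgroup.centralizer ({g₀} : Set (Matrix.SpecialLinearGroup (Fin 2) F))) :
    n * x * n⁻¹ ∈ Subgroup.centralizer ({g₀} : Set (Matrix.SpecialLinearGroup (Fin 2) F)) := by
  obtain ⟨a, ha⟩ : ∃ a, a = g₀ ^ (m / 2 ^ m.factorization 2) := ⟨_, rfl⟩
  have haS : a ∈ S₀ := ha ▸ c.ha
  have hao : orderOf a = 2 ^ m.factorization 2 := ha ▸ c.a_order
  have hans : ¬ IsScalar2 (a : Matrix (Fin 2) (Fin 2) F) := ha ▸ c.a_ns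
  have hCa : Subgroup.centralizer ({a} : Set (Matrix.SpecialLinearGroup (Fin 2) F)) = Subgroup.centralizer ({g₀} : Set (Matrix.SpecialLinearGroup (Fin 2) F)) := ha ▸ c.Ca
  have hcS : n * a * n⁻¹ ∈ S₀ := (Subgroup.mem_normalizer_iff.mp hn a).mp haS
  have hcT : n * a * n⁻¹ ∈ Subgroup.centralizer ({g₀} : Set (Matrix.SpecialLinearGroup (Fin 2) F)) := by
    by_contra hnot
    have hsq := c.w_sq hcS hnot
    have h4 : (n * a * n⁻¹) ^ 4 = 1 := by
      have e : (n * a * n⁻¹) ^ 4 = ((n * a * n⁻¹) * (n * a * n⁻¹)) * ((n * a * n⁻¹) * (n * a * n⁻¹)) := by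
        rw [show (4 : ℕ) = 2 + 2 from rfl, pow_add, pow_two]
      rw [e]
      apply Subtype.ext
      rw [Matrix.SpecialLinearGroup.coe_mul, hsq]; simp
    have h4' : a ^ 4 = 1 := by
      have e : (n * a * n⁻¹) ^ 4 = n * a ^ 4 * n⁻¹ := conj_pow
      rw [e] at h4
      have := congrArg (fun y => n⁻¹ * y * n) h4
      simpa [mul_assoc] using this
    have h5 := Nat.le_of_dvd (by norm_num) (orderOf_dvd_of_pow_eq_one h4')
    rw [hao] at h5
    have h8' : 2 ^ 3 ∣ m := h8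
    have hk3 := (Nat.Prime.pow_dvd_iff_le_factorization Nat.prime_two c.m_pos.ne').mp h8'
    have h6 : 2 ^ 3 ≤ 2 ^ m.factorization 2 := Nat.pow_le_pow_right (by norm_num) hk3
    omega
  have hcns : ¬ IsScalar2 ((n * a * n⁻¹ : Matrix.SpecialLinearGroup (Fin 2) F) : Matrix (Fin 2) (Fin 2) F) :=
    (sl2_isScalar2_conj_iff a n).not.mpr hans
  have hCc := sl2_centralizer_eq_of_mem c.hns hcT hcns
  rw [← hCc, sl2_mem_centralizer_singleton]
  have hax : a * x = x * a := by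
    rw [← hCa] at hx
    exact sl2_mem_centralizer_singleton.mp hx
  calc n * a * n⁻¹ * (n * x * n⁻¹) = n * (a * x) * n⁻¹ := by group
    _ = n * (x * a) * n⁻¹ := by rw [hax]
    _ = n * x * n⁻¹ * (n * a * n⁻¹) := by group

theorem normalizer_eq (h8 : 8 ∣ m) : Subgroup.normalizer (S₀ : Set (Matrix.SpecialLinearGroup (Fin 2) F)) = S₀ := by
  apply le_antisymm
  · intro n hn
    apply c.mem_of_normalizer_NT hn
    rw [Subgroup.mem_normalizer_iff]
    intro x
    constructor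
    · exact c.conj_mem_T_of_normalizer h8 hn x
    · intro hx
      have := c.conj_mem_T_of_normalizer h8 (inv_mem hn) _ hx
      have e : n⁻¹ * (n * x * n⁻¹) * n⁻¹⁻¹ = x := by group
      rwa [e] at this
  · exact Subgroup.le_normalizer

end SylTwoCtx

end Cfsg.Agent.helper12
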