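import Cfsg.Agent.Lib_helper12_SylTwoD

set_option autoImplicit false

namespace Cfsg.Agent.helper12

open Matrix Cfsg

variable {F : Type*} [Field F]

namespace SylTwoCtx

variable [Fintype F] {g₀ : Matrix.SpecialLinearGroup (Fin 2) F} {m : ℕ}
  {S₀ : Subgroup (Matrix.SpecialLinearGroup (Fin 2) F)} (c : SylTwoCtx g₀ m S₀)
include c

theorem k_eq_two (h8 : ¬ 8 ∣ m) : m.factorization 2 = 2 := by
  have h1 := c.k_ge
  by_contra hne
  have h3 : 3 ≤ m.factorization 2 := by omega
  apply h8
  have : 2 ^ 3 ∣ m := (Nat.Prime.pow_dvd_iff_le_factorization Nat.prime_two c.m_pos.ne').mpr h3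
  exact this

theorem card_normalizer (h8 : ¬ 8 ∣ m) :
    Nat.card (Subgroup.normalizer (S₀ : Set (Matrix.SpecialLinearGroup (Fin 2) F))) = 24 := by
  classical
  have hk := c.k_eq_two h8
  obtain ⟨a, ha⟩ : ∃ a, a = g₀ ^ (m / 2 ^ m.factorization 2) := ⟨_, rfl⟩
  have haS : a ∈ S₀ := ha ▸ c.ha
  have hao : orderOf a = 4 := by
    have := c.a_order
    rw [← ha, hk] at this
    exact this
  have hans : ¬ IsScalar2 (a : Matrix (Fin 2) (Fin 2) F) := ha ▸ c.a_ns
  have haT : a ∈ Subgroup.centralizer ({g₀} : Set (Matrix.SpecialLinearGroup (Fin 2) F)) := ha ▸ c.a_memT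
  have hCa : Subgroup.centralizer ({a} : Set (Matrix.SpecialLinearGroup (Fin 2) F)) = Subgroup.centralizer ({g₀} : Set (Matrix.SpecialLinearGroup (Fin 2) F)) := ha ▸ c.Ca
  have hzle : Subgroup.zpowers a ≤ S₀ := ha ▸ c.zpowers_a_le
  have hScard : Nat.card S₀ = 8 := by
    rw [c.hS, hk]; norm_num
  -- a * a = -1
  have haa : ((a * a : Matrix.SpecialLinearGroup (Fin 2) F) : Matrix (Fin 2) (Fin 2) F) = -1 := by
    have h4 : (a * a) * (a * a) = 1 := by
      have : a ^ 4 = 1 := by rw [← hao]; exact pow_orderOf_eq_one a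
      rw [← this, show (4 : ℕ) = 2 + 2 from rfl, pow_add, pow_two]
    rcases sl2_sq_eq_one c.h2 h4 with h | h
    · exfalso
      have h1 : a ^ 2 = 1 := by
        rw [pow_two]
        apply Subtype.ext
        rw [h]; rfl
      have := Nat.le_of_dvd (by norm_num) (orderOf_dvd_of_pow_eq_one h1)
      omega
    · exact h
  obtain ⟨w, hw, hwT⟩ := c.exists_w
  have hww := c.w_sq hw hwT
  have hwa : w * a * w⁻¹ = a⁻¹ := sl2_conj_inverts c.hns (c.w_inv hw hwT) haT
  obtain ⟨ν, hνa, hνw, hν3⟩ := sl2_quat_nu c.h2 a w haa hww hwa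
  -- S₀ is generated by a and w
  have hgen : ∀ s ∈ S₀, s ∈ Subgroup.closure ({a, w} : Set (Matrix.SpecialLinearGroup (Fin 2) F)) := by
    intro s hs
    have haC : a ∈ Subgroup.closure ({a, w} : Set (Matrix.SpecialLinearGroup (Fin 2) F)) :=
      Subgroup.subset_closure (by simp)
    have hwC : w ∈ Subgroup.closure ({a, w} : Set (Matrix.SpecialLinearGroup (Fin 2) F)) :=
      Subgroup.subset_closure (by simp)
    have hzC : Subgroup.zpowers a ≤ Subgroup.closure ({a, w} : Set (Matrix.SpecialLinearGroup (Fin 2) F)) := by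
      rw [Subgroup.zpowers_le]; exact haC
    by_cases hsT : s ∈ Subgroup.centralizer ({g₀} : Set (Matrix.SpecialLinearGroup (Fin 2) F))
    · exact hzC (ha ▸ c.inter_le hs hsT)
    · have h1 := c.mul_inv_memT (c.w_inv hs hsT) (c.w_inv hw hwT)
      have h2 : s * w⁻¹ ∈ S₀ := mul_mem hs (inv_mem hw)
      have h3 := hzC (ha ▸ c.inter_le h2 h1)
      have : s = (s * w⁻¹) * w := by group
      rw [this]
      exact mul_mem h3 hwC
  have hconj' : ∀ s, s ∈ Subgroup.closure ({a, w} : Set (Matrix.SpecialLinearGroup (Fin 2) F)) → ν * s * ν⁻¹ ∈ S₀ := by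
    intro s hs
    induction hs using Subgroup.closure_induction with
    | mem x hx =>
      rcases hx with rfl | hx
      · rw [hνa]; exact mul_mem haS hw
      · rw [Set.mem_singleton_iff.mp hx, hνw]; exact haS
    | one => simp
    | mul x y _ _ hx hy =>
      have : ν * (x * y) * ν⁻¹ = (ν * x * ν⁻¹) * (ν * y * ν⁻¹) := by group
      rw [this]; exact mul_mem hx hy
    | inv x _ hx =>
      have : ν * x⁻¹ * ν⁻¹ = (ν * x * ν⁻¹)⁻¹ := by group
      rw [this]; exact inv_mem hx
  have hconj : ∀ s ∈ S₀, ν * s * ν⁻¹ ∈ S₀ := fun s hs => hconj' s (hgen s hs)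
  have hνN : ν ∈ Subgroup.normalizer (S₀ : Set (Matrix.SpecialLinearGroup (Fin 2) F)) := by
    rw [Subgroup.mem_normalizer_iff]
    intro s
    constructor
    · exact hconj s
    · intro hs
      have := hconj _ (hconj _ hs)
      have e : ν * (ν * (ν * s * ν⁻¹) * ν⁻¹) * ν⁻¹ = (ν * ν * ν) * s * (ν * ν * ν)⁻¹ := by group
      rw [e, hν3] at this
      simpa using this
  have hν1 : ν ≠ 1 := by
    rintro rfl
    apply hwT
    have : w = 1 := by
      have h := hνa
      simp only [one_mul, inv_one, mul_one] at h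
      exact (mul_eq_left.mp h.symm)
    rw [this]; exact one_mem _
  have hνo : orderOf ν = 3 := by
    haveI : Fact (Nat.Prime 3) := ⟨Nat.prime_three⟩
    apply orderOf_eq_prime
    · rw [pow_succ, pow_two]; exact hν3
    · exact hν1
  have h3dvd : 3 ∣ Nat.card (Subgroup.normalizer (S₀ : Set (Matrix.SpecialLinearGroup (Fin 2) F))) := by
    have := orderOf_dvd_natCard (⟨ν, hνN⟩ : Subgroup.normalizer (S₀ : Set (Matrix.SpecialLinearGroup (Fin 2) F)))
    rwa [Subgroup.orderOf_mk, hνo] at this
  have h8dvd : 8 ∣ Nat.card (Subgroup.normalizer (S₀ : Set (Matrix.SpecialLinearGroup (Fin 2) F))) := by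
    rw [← hScard]
    exact Subgroup.card_dvd_of_le Subgroup.le_normalizer
  -- upper bound
  have hle : Nat.card (Subgroup.normalizer (S₀ : Set (Matrix.SpecialLinearGroup (Fin 2) F))) ≤ 24 := by
    obtain ⟨z, hz⟩ : ∃ z, z = a * a := ⟨_, rfl⟩
    have hzS : z ∈ S₀ := hz ▸ mul_mem haS haS
    have hz1 : z ≠ 1 := by
      intro h
      have h1 : a ^ 2 = 1 := by rw [pow_two, ← hz, h]
      have := Nat.le_of_dvd (by norm_num) (orderOf_dvd_of_pow_eq_one h1)
      omega
    have ha1 : a ≠ 1 := by
      rintro rfl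
      rw [orderOf_one] at hao
      omega
    rw [Nat.card_eq_fintype_card, Fintype.card_subtype]
    have hfib := Finset.card_le_mul_card_image (f := fun n : Matrix.SpecialLinearGroup (Fin 2) F => n * a * n⁻¹)
      (Finset.univ.filter (fun n : Matrix.SpecialLinearGroup (Fin 2) F => n ∈ Subgroup.normalizer (S₀ : Set (Matrix.SpecialLinearGroup (Fin 2) F)))) 4 (by
        intro b hb
        rw [Finset.mem_image] at hb
        obtain ⟨n₀, hn₀, rfl⟩ := hb
        rw [Finset.mem_filter] at hn₀
        have h4 : (Finset.univ.filter (fun t : Matrix.SpecialLinearGroup (Fin 2) F => t ∈ Subgroup.zpowers a)).card = 4 := by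
          rw [← Fintype.card_subtype, ← Nat.card_eq_fintype_card, Nat.card_zpowers, hao]
        rw [← h4]
        apply Finset.card_le_card_of_injOn (fun x => n₀⁻¹ * x)
        · intro x hx
          have hx' := Finset.mem_filter.mp (Finset.mem_coe.mp hx)
          have hxN : x ∈ Subgroup.normalizer (S₀ : Set (Matrix.SpecialLinearGroup (Fin 2) F)) := (Finset.mem_filter.mp hx'.1).2
          have hxe : x * a * x⁻¹ = n₀ * a * n₀⁻¹ := hx'.2
          apply Finset.mem_coe.mpr
          apply Finset.mem_filter.mpr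
          refine ⟨Finset.mem_univ _, ?_⟩
          have h1 : n₀⁻¹ * x ∈ Subgroup.normalizer (S₀ : Set (Matrix.SpecialLinearGroup (Fin 2) F)) :=
            mul_mem (inv_mem hn₀.2) hxN
          have h2 : n₀⁻¹ * x ∈ Subgroup.centralizer ({g₀} : Set (Matrix.SpecialLinearGroup (Fin 2) F)) := by
            rw [← hCa, sl2_mem_centralizer_singleton]
            have e : x * a = n₀ * a * n₀⁻¹ * x := by rw [← hxe]; group
            calc a * (n₀⁻¹ * x) = n₀⁻¹ * (n₀ * a * n₀⁻¹ * x) := by group
              _ = n₀⁻¹ * (x * a) := by rw [e]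
              _ = n₀⁻¹ * x * a := by group
          exact ha ▸ c.normalizer_inter_T h1 h2
        · intro x _ y _ hxy
          exact mul_left_cancel hxy)
    have himg : ((Finset.univ.filter (fun n : Matrix.SpecialLinearGroup (Fin 2) F => n ∈ Subgroup.normalizer (S₀ : Set (Matrix.SpecialLinearGroup (Fin 2) F)))).image
        (fun n : Matrix.SpecialLinearGroup (Fin 2) F => n * a * n⁻¹)).card ≤ 6 := by
      have hsub : (Finset.univ.filter (fun n : Matrix.SpecialLinearGroup (Fin 2) F => n ∈ Subgroup.normalizer (S₀ : Set (Matrix.SpecialLinearGroup (Fin 2) F)))).image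
          (fun n : Matrix.SpecialLinearGroup (Fin 2) F => n * a * n⁻¹)
          ⊆ ((Finset.univ.filter (fun s : Matrix.SpecialLinearGroup (Fin 2) F => s ∈ S₀)).erase 1).erase z := by
        intro b hb
        rw [Finset.mem_image] at hb
        obtain ⟨n, hn, rfl⟩ := hb
        rw [Finset.mem_filter] at hn
        rw [Finset.mem_erase, Finset.mem_erase, Finset.mem_filter]
        refine ⟨?_, ?_, Finset.mem_univ _, (Subgroup.mem_normalizer_iff.mp hn.2 a).mp haS⟩
        · intro h
          -- n a n⁻¹ = a * a, central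
          have hzc : z ∈ Subgroup.center (Matrix.SpecialLinearGroup (Fin 2) F) :=
            sl2_central_of_scalar z (-1) (by rw [hz, haa]; simp)
          have : a = z := by
            have e : a = n⁻¹ * (n * a * n⁻¹) * n := by group
            rw [e, h]
            have := Subgroup.mem_center_iff.mp hzc n⁻¹
            calc n⁻¹ * z * n = z * n⁻¹ * n := by rw [this]
              _ = z := by group
          apply ha1
          have e2 : a * a = a * 1 := by rw [mul_one, ← hz, ← this]
          exact mul_left_cancel e2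
        · intro h
          apply ha1
          have e : a = n⁻¹ * (n * a * n⁻¹) * n := by group
          rw [e, h]; group
      refine (Finset.card_le_card hsub).trans ?_
      have h8 : (Finset.univ.filter (fun s : Matrix.SpecialLinearGroup (Fin 2) F => s ∈ S₀)).card = 8 := by
        rw [← Fintype.card_subtype, ← Nat.card_eq_fintype_card, hScard]
      have h1m : (1 : Matrix.SpecialLinearGroup (Fin 2) F) ∈ Finset.univ.filter (fun s : Matrix.SpecialLinearGroup (Fin 2) F => s ∈ S₀) := by
        rw [Finset.mem_filter]; exact ⟨Finset.mem_univ _, one_mem _⟩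
      have hzm : z ∈ (Finset.univ.filter (fun s : Matrix.SpecialLinearGroup (Fin 2) F => s ∈ S₀)).erase 1 := by
        rw [Finset.mem_erase, Finset.mem_filter]; exact ⟨hz1, Finset.mem_univ _, hzS⟩
      rw [Finset.card_erase_of_mem hzm, Finset.card_erase_of_mem h1m, h8]
    calc _ ≤ 4 * _ := hfib
      _ ≤ 4 * 6 := Nat.mul_le_mul_left 4 himg
      _ = 24 := by norm_num
  have hpos : 0 < Nat.card (Subgroup.normalizer (S₀ : Set (Matrix.SpecialLinearGroup (Fin 2) F))) := Nat.card_pos
  omega

end SylTwoCtx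

end Cfsg.Agent.helper12
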