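import Mathlib

set_option autoImplicit false

namespace Cfsg.Agent.helper12

/-- an abelian group with a unique involution `z` and a square root `x` of `z` -/
structure TorusLike (T : Type*) [Group T] (z x : T) : Prop where
  comm : ∀ a b : T, a * b = b * a
  invol : ∀ t : T, t * t = 1 → t = 1 ∨ t = z
  z_ne : z ≠ 1
  z_sq : z * z = 1
  x_sq : x * x = z

namespace TorusLike

variable {T : Type*} [Group T] {z x : T}

theorem card_sq_eq_one (h : TorusLike T z x) : Nat.card {t : T // t * t = 1} = 2 := by
  rw [Nat.card_eq_two_iff]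
  refine ⟨⟨1, by rw [one_mul]⟩, ⟨z, h.z_sq⟩, ?_, ?_⟩
  · intro e
    exact h.z_ne (congrArg Subtype.val e).symm
  · ext t
    simp only [Set.mem_insert_iff, Set.mem_singleton_iff, Set.mem_univ, iff_true]
    rcases h.invol t.1 t.2 with e | e
    · left; exact Subtype.ext e
    · right; exact Subtype.ext e

theorem sq_index [Finite T] (h : TorusLike T z x) :
    letI : CommGroup T := { (inferInstance : Group T) with mul_comm := h.comm }
    ((powMonoidHom 2 : T →* T).range).index = 2 := by
  letI : CommGroup T := { (inferInstance : Group T) with mul_comm := h.comm }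
  have h1 := Subgroup.index_ker (powMonoidHom 2 : T →* T)
  have h2 := Subgroup.card_mul_index (powMonoidHom 2 : T →* T).ker
  have h3 := Subgroup.card_mul_index (powMonoidHom 2 : T →* T).range
  have h4 : Nat.card (powMonoidHom 2 : T →* T).ker = 2 := by
    have e : Nat.card (powMonoidHom 2 : T →* T).ker = Nat.card {t : T // t * t = 1} := by
      apply Nat.card_congr
      apply Equiv.subtypeEquivRight
      intro t
      rw [MonoidHom.mem_ker, powMonoidHom_apply, sq]
    rw [e]
    exact h.card_sq_eq_one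
  rw [h1, h4] at h2
  have hpos : 0 < Nat.card (powMonoidHom 2 : T →* T).range := Nat.card_pos
  rw [← h2] at h3
  have h5 : (powMonoidHom 2 : T →* T).range.index * Nat.card (powMonoidHom 2 : T →* T).range =
      2 * Nat.card (powMonoidHom 2 : T →* T).range := by
    rw [mul_comm]; exact h3
  exact Nat.eq_of_mul_eq_mul_right hpos h5

theorem sq_mul_of_not_sq [Finite T] (h : TorusLike T z x) {c e : T} (hc : ¬ ∃ d : T, d * d = c)
    (he : ¬ ∃ d : T, d * d = e) : ∃ d : T, d * d = c * e := by
  letI : CommGroup T := { (inferInstance : Group T) with mul_comm := h.comm }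
  have hidx := h.sq_index
  have hmem : ∀ t : T, t ∈ (powMonoidHom 2 : T →* T).range ↔ ∃ d : T, d * d = t := by
    intro t
    rw [MonoidHom.mem_range]
    constructor
    · rintro ⟨d, hd⟩
      refine ⟨d, ?_⟩
      rw [← hd, powMonoidHom_apply, sq]
    · rintro ⟨d, hd⟩
      refine ⟨d, ?_⟩
      rw [← hd, powMonoidHom_apply, sq]
  rw [← hmem] at hc he ⊢
  rw [Subgroup.mul_mem_iff_of_index_two hidx]
  exact ⟨fun hh => absurd hh hc, fun hh => absurd hh he⟩

theorem exists_not_sq [Finite T] (h : TorusLike T z x) : ∃ e : T, ¬ ∃ d : T, d * d = e := by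
  letI : CommGroup T := { (inferInstance : Group T) with mul_comm := h.comm }
  have hidx := h.sq_index
  by_contra hcon
  push Not at hcon
  have htop : (powMonoidHom 2 : T →* T).range = ⊤ := by
    rw [eq_top_iff]
    intro t _
    obtain ⟨d, hd⟩ := hcon t
    rw [MonoidHom.mem_range]
    refine ⟨d, ?_⟩
    rw [← hd, powMonoidHom_apply, sq]
  rw [htop, Subgroup.index_top] at hidx
  norm_num at hidx

theorem pow_four_x (h : TorusLike T z x) : x ^ 4 = 1 := by
  calc x ^ 4 = (x * x) * (x * x) := by simp only [pow_succ, pow_zero, one_mul, mul_assoc]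
    _ = 1 := by rw [h.x_sq, h.z_sq]

theorem x_inv (h : TorusLike T z x) : x⁻¹ = z * x := by
  rw [inv_eq_iff_mul_eq_one, h.comm z x, ← mul_assoc, h.x_sq, h.z_sq]

theorem eq_of_sq_eq_z (h : TorusLike T z x) {k : T} (hk : k * k = z) : k = x ∨ k = x⁻¹ := by
  have ht : (k * x⁻¹) * (k * x⁻¹) = 1 := by
    calc (k * x⁻¹) * (k * x⁻¹) = k * (x⁻¹ * k) * x⁻¹ := by group
      _ = k * (k * x⁻¹) * x⁻¹ := by rw [h.comm x⁻¹ k]
      _ = (k * k) * (x * x)⁻¹ := by group
      _ = 1 := by rw [hk, h.x_sq, mul_inv_cancel]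
  rcases h.invol _ ht with e | e
  · left
    calc k = (k * x⁻¹) * x := by group
      _ = x := by rw [e, one_mul]
  · right
    calc k = (k * x⁻¹) * x := by group
      _ = z * x := by rw [e]
      _ = x⁻¹ := h.x_inv.symm

theorem not_sq_x [Finite T] (h : TorusLike T z x) (hcard : Nat.card T % 8 = 4) : ¬ ∃ d : T, d * d = x := by
  rintro ⟨d, hd⟩
  have h4 : d ^ 4 = z := by
    calc d ^ 4 = (d * d) * (d * d) := by simp only [pow_succ, pow_zero, one_mul, mul_assoc]
      _ = z := by rw [hd, h.x_sq]
  have h8 : d ^ 8 = 1 := by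
    calc d ^ 8 = (d ^ 4) * (d ^ 4) := by rw [← pow_add]
      _ = 1 := by rw [h4, h.z_sq]
  have hord : orderOf d = 2 ^ (2 + 1) := by
    apply orderOf_eq_prime_pow
    · norm_num
      rw [h4]
      exact h.z_ne
    · norm_num
      exact h8
  have hdvd := orderOf_dvd_natCard d
  rw [hord] at hdvd
  norm_num at hdvd
  omega

theorem sq_x [Finite T] (h : TorusLike T z x) (hcard : 8 ∣ Nat.card T) : ∃ d : T, d * d = x := by
  haveI : Fact (Nat.Prime 2) := ⟨Nat.prime_two⟩
  have h8 : 2 ^ 3 ∣ Nat.card T := by norm_num; exact hcard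
  obtain ⟨K, hK⟩ := Sylow.exists_subgroup_card_pow_prime 2 h8
  have hex : ∃ k ∈ K, k ^ 4 ≠ 1 := by
    by_contra hcon
    push Not at hcon
    have hle : K ≤ Subgroup.zpowers x := by
      intro k hk
      have hk4 := hcon k hk
      have hk4' : (k * k) * (k * k) = 1 := by
        rw [← hk4]
        simp only [pow_succ, pow_zero, one_mul, mul_assoc]
      rcases h.invol _ hk4' with e | e
      · rcases h.invol _ e with e' | e'
        · rw [e']; exact Subgroup.one_mem _
        · rw [e', ← h.x_sq]
          exact Subgroup.mul_mem _ (Subgroup.mem_zpowers x) (Subgroup.mem_zpowers x)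
      · rcases h.eq_of_sq_eq_z e with e' | e'
        · rw [e']; exact Subgroup.mem_zpowers x
        · rw [e']; exact Subgroup.inv_mem _ (Subgroup.mem_zpowers x)
    have h1 := Subgroup.card_le_of_le hle
    rw [hK, Nat.card_zpowers] at h1
    have h2 : orderOf x ∣ 4 := orderOf_dvd_of_pow_eq_one h.pow_four_x
    have := Nat.le_of_dvd (by norm_num) h2
    norm_num at h1
    omega
  obtain ⟨k, hkK, hk4⟩ := hex
  have hk8 : k ^ 8 = 1 := by
    have := pow_card_eq_one' (G := K) (x := (⟨k, hkK⟩ : K))
    rw [hK] at this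
    have h' := congrArg Subtype.val this
    simpa using h'
  have hk44 : (k ^ 4) * (k ^ 4) = 1 := by
    rw [← pow_add]; exact hk8
  rcases h.invol _ hk44 with e | e
  · exact absurd e hk4
  · have hkk : (k * k) * (k * k) = z := by
      rw [← e]
      simp only [pow_succ, pow_zero, one_mul, mul_assoc]
    rcases h.eq_of_sq_eq_z hkk with e' | e'
    · exact ⟨k, e'⟩
    · refine ⟨k⁻¹, ?_⟩
      calc k⁻¹ * k⁻¹ = (k * k)⁻¹ := by group
        _ = x := by rw [e', inv_inv]

end TorusLike

end Cfsg.Agent.helper12
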