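import Mathlib

/-! A fixed involution of the alternating group of degree six. -/

set_option autoImplicit false

namespace Cfsg.Agent.helper13

/-- the involution `(0 1)(2 3)`. -/
def a6z : alternatingGroup (Fin 6) := ⟨Equiv.swap 0 1 * Equiv.swap 2 3, by
  rw [Equiv.Perm.mem_alternatingGroup]; decide⟩

end Cfsg.Agent.helper13
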