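import Mathlib
import Cfsg.Agent.Lib_helper13_A6k0

/-! Counting involutions of the alternating group of degree six. -/

set_option autoImplicit false

namespace Cfsg.Agent.helper13

set_option maxRecDepth 1000000 in
theorem a6_card_invol :
    (Finset.univ.filter (fun u : alternatingGroup (Fin 6) => u ≠ 1 ∧ u * u = 1)).card = 45 := by
  decide +kernel

end Cfsg.Agent.helper13
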