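import Mathlib
import Cfsg.Agent.Lib_helper13_A6k0

/-! The centraliser of an involution of the alternating group of degree six. -/

set_option autoImplicit false

namespace Cfsg.Agent.helper13

set_option maxRecDepth 1000000 in
theorem a6_card_centr :
    (Finset.univ.filter (fun b : alternatingGroup (Fin 6) => b * a6z = a6z * b)).card = 8 := by
  decide +kernel

end Cfsg.Agent.helper13
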