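import Mathlib

/-! Centralisers and conjugation: elementary counting. -/

set_option autoImplicit false

namespace Cfsg.Agent.helper13

section a6m1
variable {G : Type*} [Group G]

theorem mem_cz (z g : G) : g ∈ Subgroup.centralizer ({z} : Set G) ↔ z * g = g * z := by
  rw [Subgroup.mem_centralizer_iff]
  constructor
  · intro h
    exact h z (Set.mem_singleton z)
  · intro h k hk
    rw [Set.mem_singleton_iff.mp hk]
    exact h

theorem conj_eq_of_comm {a b z : G} (h : z * (a⁻¹ * b) = a⁻¹ * b * z) :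
    a * z * a⁻¹ = b * z * b⁻¹ := by
  have h1 : b * z * b⁻¹ = a * (a⁻¹ * b * z) * b⁻¹ := by group
  rw [h1, ← h]
  group

theorem comm_of_conj_eq {a b z : G} (h : a * z * a⁻¹ = b * z * b⁻¹) :
    z * (a⁻¹ * b) = a⁻¹ * b * z := by
  have h1 : z * (a⁻¹ * b) = a⁻¹ * (a * z * a⁻¹) * b := by group
  rw [h1, h]
  group

/-- the size of the group is at most the size of a conjugation-closed set containing `z` times the
order of the centraliser of `z`. -/
theorem card_le_mul_card_centralizer [Finite G] (z : G) (S : Finset G)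
    (hS : ∀ g : G, g * z * g⁻¹ ∈ S) :
    Nat.card G ≤ S.card * Nat.card (Subgroup.centralizer ({z} : Set G)) := by
  classical
  obtain ⟨C, hC⟩ : ∃ C, C = Subgroup.centralizer ({z} : Set G) := ⟨_, rfl⟩
  rw [← hC]
  let f : G ⧸ C → S := fun q => Quotient.liftOn' q (fun g => (⟨g * z * g⁻¹, hS g⟩ : S)) (by
    intro a b hab
    rw [QuotientGroup.leftRel_apply, hC, mem_cz] at hab
    apply Subtype.ext
    exact conj_eq_of_comm hab)
  have hf : Function.Injective f := by
    intro q₁ q₂
    refine Quotient.inductionOn₂' q₁ q₂ ?_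
    intro a b hab
    have h1 : a * z * a⁻¹ = b * z * b⁻¹ := congrArg Subtype.val hab
    apply QuotientGroup.eq.mpr
    rw [hC, mem_cz]
    exact comm_of_conj_eq h1
  have h1 : Nat.card (G ⧸ C) ≤ Nat.card S := Nat.card_le_card_of_injective f hf
  have h2 : Nat.card S = S.card := by
    rw [Nat.card_eq_fintype_card, Fintype.card_coe]
  have h3 := Subgroup.card_eq_card_quotient_mul_card_subgroup C
  rw [h3]
  rw [h2] at h1
  exact Nat.mul_le_mul_right _ h1

/-- pigeonhole for conjugation by a subgroup. -/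
theorem exists_comm_of_card_lt [Finite G] (C : Subgroup G) (u : G) (T : Finset G)
    (hT : ∀ h ∈ C, h * u * h⁻¹ ∈ T) (hcard : T.card < Nat.card C) :
    ∃ g ∈ C, g ≠ 1 ∧ u * g = g * u := by
  classical
  haveI : Fintype C := Fintype.ofFinite C
  let f : C → T := fun h => ⟨(h : G) * u * (h : G)⁻¹, hT h h.2⟩
  have hlt : Fintype.card T < Fintype.card C := by
    rw [Fintype.card_coe, ← Nat.card_eq_fintype_card]
    exact hcard
  obtain ⟨h₁, h₂, hne, heq⟩ := Fintype.exists_ne_map_eq_of_card_lt f hlt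
  have h1 : (h₁ : G) * u * (h₁ : G)⁻¹ = (h₂ : G) * u * (h₂ : G)⁻¹ := congrArg Subtype.val heq
  refine ⟨(h₁ : G)⁻¹ * (h₂ : G), C.mul_mem (C.inv_mem h₁.2) h₂.2, ?_, comm_of_conj_eq h1⟩
  intro h2
  apply hne
  apply Subtype.ext
  have h3 : (h₂ : G) = (h₁ : G) * ((h₁ : G)⁻¹ * (h₂ : G)) := by group
  rw [h3, h2, mul_one]

end a6m1

end Cfsg.Agent.helper13
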