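import Mathlib
import Cfsg.Agent.Lib_helper13_A6m1
import Cfsg.Agent.Lib_helper13_A6k1
import Cfsg.Agent.Lib_helper13_A6k2
import Cfsg.Agent.Lib_helper13_A6k3
import Cfsg.Agent.Lib_helper13_A6k4
import Cfsg.Agent.Lib_helper13_A6k5

/-! A group with a normal subgroup of index four isomorphic to the alternating group of degree six:
the centraliser of an involution of the normal subgroup is a Sylow 2-subgroup, and two such
centralisers always meet. -/

set_option autoImplicit false

namespace Cfsg.Agent.helper13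

open scoped Pointwise

section a6m2
variable {G : Type*} [Group G] (N : Subgroup G) (e : N ≃* alternatingGroup (Fin 6))

/-- the embedding of the alternating group. -/
def a6emb : alternatingGroup (Fin 6) →* G := N.subtype.comp e.symm.toMonoidHom

theorem a6emb_apply (a : alternatingGroup (Fin 6)) : a6emb N e a = ((e.symm a : N) : G) := rfl

theorem a6emb_mem (a : alternatingGroup (Fin 6)) : a6emb N e a ∈ N := (e.symm a).2

theorem a6emb_inj : Function.Injective (a6emb N e) := by
  intro a b hab
  rw [a6emb_apply, a6emb_apply] at hab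
  exact e.symm.injective (Subtype.ext hab)

theorem a6emb_e (n : N) : a6emb N e (e n) = (n : G) := by
  rw [a6emb_apply, MulEquiv.symm_apply_apply]

theorem a6emb_surj (n : G) (hn : n ∈ N) : ∃ a, a6emb N e a = n :=
  ⟨e ⟨n, hn⟩, a6emb_e N e ⟨n, hn⟩⟩

theorem a6emb_eq_one {a : alternatingGroup (Fin 6)} (h : a6emb N e a = 1) : a = 1 := by
  apply a6emb_inj N e
  rw [h, map_one]

theorem a6z_ne_one : a6z ≠ 1 := by decide

theorem a6z_sq : a6z * a6z = 1 := by decide

variable [N.Normal]

/-- conjugates of involutions of `N` are involutions of `N`. -/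
theorem invN_conj (a : alternatingGroup (Fin 6)) (ha1 : a ≠ 1) (ha2 : a * a = 1) (g : G) :
    ∃ a' : alternatingGroup (Fin 6), a' ≠ 1 ∧ a' * a' = 1 ∧
      a6emb N e a' = g * a6emb N e a * g⁻¹ := by
  have hn : g * a6emb N e a * g⁻¹ ∈ N :=
    Subgroup.Normal.conj_mem inferInstance _ (a6emb_mem N e a) g
  obtain ⟨a', ha'⟩ := a6emb_surj N e _ hn
  refine ⟨a', ?_, ?_, ha'⟩
  · intro h1
    rw [h1, map_one] at ha'
    apply ha1
    apply a6emb_eq_one N e
    have h2 : a6emb N e a = g⁻¹ * (g * a6emb N e a * g⁻¹) * g := by group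
    rw [h2, ← ha']
    group
  · apply a6emb_eq_one N e
    rw [map_mul, ha']
    have h2 : g * a6emb N e a * g⁻¹ * (g * a6emb N e a * g⁻¹) =
        g * (a6emb N e a * a6emb N e a) * g⁻¹ := by group
    rw [h2, ← map_mul, ha2, map_one]
    group

variable [Finite G]

include e in
theorem a6_card_G (hidx : N.index = 4) : Nat.card G = 1440 := by
  have h1 := Subgroup.index_mul_card N
  have h2 : Nat.card N = 360 := by
    rw [Nat.card_congr e.toEquiv, nat_card_alternatingGroup, Nat.card_fin]
    rfl
  rw [hidx, h2] at h1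
  omega

/-- the centraliser of the fixed involution has order 32. -/
theorem a6_cz_card (hidx : N.index = 4) :
    Nat.card (Subgroup.centralizer ({a6emb N e a6z} : Set G)) = 32 := by
  classical
  obtain ⟨z, hz⟩ : ∃ z, z = a6emb N e a6z := ⟨_, rfl⟩
  rw [← hz]
  obtain ⟨C, hC⟩ : ∃ C, C = Subgroup.centralizer ({z} : Set G) := ⟨_, rfl⟩
  rw [← hC]
  -- lower bound
  obtain ⟨T1, hT1⟩ : ∃ T1 : Finset G, T1 = (Finset.univ.filter
      (fun u : alternatingGroup (Fin 6) => u ≠ 1 ∧ u * u = 1)).image (a6emb N e) := ⟨_, rfl⟩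
  have hT1card : T1.card ≤ 45 := by
    rw [hT1, ← a6_card_invol]
    exact Finset.card_image_le
  have hS : ∀ g : G, g * z * g⁻¹ ∈ T1 := by
    intro g
    obtain ⟨a', h1, h2, h3⟩ := invN_conj N e a6z a6z_ne_one a6z_sq g
    rw [hT1, Finset.mem_image]
    refine ⟨a', ?_, ?_⟩
    · rw [Finset.mem_filter]
      exact ⟨Finset.mem_univ _, h1, h2⟩
    · rw [h3, hz]
  have hlow := card_le_mul_card_centralizer z T1 hS
  rw [a6_card_G N e hidx, ← hC] at hlow
  have hlow' : 1440 ≤ 45 * Nat.card C := le_trans hlow (Nat.mul_le_mul_right _ hT1card)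
  -- upper bound
  have hrel : N.relIndex C ≤ 4 := by
    have h1 : N.relIndex C ∣ N.index := Subgroup.relIndex_dvd_index_of_normal N C
    rw [hidx] at h1
    exact Nat.le_of_dvd (by norm_num) h1
  have hsub : Nat.card (N.subgroupOf C) ≤ 8 := by
    let f : N.subgroupOf C → {b : alternatingGroup (Fin 6) // b * a6z = a6z * b} := fun c =>
      ⟨e ⟨((c : C) : G), Subgroup.mem_subgroupOf.mp c.2⟩, by
        apply a6emb_inj N e
        rw [map_mul, map_mul, a6emb_e, ← hz]
        have h1 : ((c : C) : G) ∈ Subgroup.centralizer ({z} : Set G) := hC ▸ (c : C).2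
        rw [mem_cz] at h1
        exact h1.symm⟩
    have hf : Function.Injective f := by
      intro c₁ c₂ h12
      have h1 : e ⟨((c₁ : C) : G), Subgroup.mem_subgroupOf.mp c₁.2⟩ =
          e ⟨((c₂ : C) : G), Subgroup.mem_subgroupOf.mp c₂.2⟩ := congrArg Subtype.val h12
      have h2 := e.injective h1
      apply Subtype.ext
      apply Subtype.ext
      exact congrArg (fun t : N => (t : G)) h2
    have h1 := Nat.card_le_card_of_injective f hf
    have h2 : Nat.card {b : alternatingGroup (Fin 6) // b * a6z = a6z * b} = 8 := by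
      rw [Nat.card_eq_fintype_card, Fintype.card_subtype, a6_card_centr]
    omega
  have hmul : N.relIndex C * Nat.card (N.subgroupOf C) = Nat.card C := by
    unfold Subgroup.relIndex
    exact Subgroup.index_mul_card (N.subgroupOf C)
  have hup : Nat.card C ≤ 32 := by
    calc Nat.card C = N.relIndex C * Nat.card (N.subgroupOf C) := hmul.symm
      _ ≤ 4 * 8 := Nat.mul_le_mul hrel hsub
      _ = 32 := by norm_num
  omega

end a6m2

end Cfsg.Agent.helper13
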