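import Mathlib
import Cfsg.Agent.Lib_helper13_A6m2

/-! Two centralisers of involutions of the normal subgroup always meet; Sylow 2-subgroups pairwise
meet. -/

set_option autoImplicit false

namespace Cfsg.Agent.helper13

open scoped Pointwise

section a6m3
variable {G : Type*} [Group G]

theorem sq_comm_of_inv {t w : G} (h : t * w = w⁻¹ * t) (h4 : (w * w) * (w * w) = 1) :
    t * (w * w) = (w * w) * t := by
  have h1 : (w * w)⁻¹ = w * w := inv_eq_of_mul_eq_one_left h4
  calc t * (w * w) = (t * w) * w := by group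
    _ = (w⁻¹ * t) * w := by rw [h]
    _ = w⁻¹ * (t * w) := by group
    _ = w⁻¹ * (w⁻¹ * t) := by rw [h]
    _ = (w * w)⁻¹ * t := by group
    _ = (w * w) * t := by rw [h1]

variable (N : Subgroup G) (e : N ≃* alternatingGroup (Fin 6)) [N.Normal] [Finite G]

/-- the pigeonhole step for products of odd order. -/
theorem a6_pig (hidx : N.index = 4) (k : ℕ)
    (hk : (Finset.univ.filter (fun u : alternatingGroup (Fin 6) =>
      u ≠ 1 ∧ u * u = 1 ∧ (a6z * u) ^ k = 1)).card = 17)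
    (a' : alternatingGroup (Fin 6)) (ha1 : a' ≠ 1) (ha2 : a' * a' = 1)
    (hw : (a6z * a') ^ k = 1) :
    ∃ g : G, g ≠ 1 ∧ g ∈ Subgroup.centralizer ({a6emb N e a6z} : Set G) ∧
      a6emb N e a' * g = g * a6emb N e a' := by
  classical
  obtain ⟨T, hT⟩ : ∃ T : Finset G, T = (Finset.univ.filter
      (fun u : alternatingGroup (Fin 6) => u ≠ 1 ∧ u * u = 1 ∧ (a6z * u) ^ k = 1)).image
      (a6emb N e) := ⟨_, rfl⟩
  have hTcard : T.card ≤ 17 := by
    rw [hT, ← hk]
    exact Finset.card_image_le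
  have hmem : ∀ h ∈ Subgroup.centralizer ({a6emb N e a6z} : Set G),
      h * a6emb N e a' * h⁻¹ ∈ T := by
    intro h hh
    rw [mem_cz] at hh
    obtain ⟨a'', h1, h2, h3⟩ := invN_conj N e a' ha1 ha2 h
    rw [hT, Finset.mem_image]
    refine ⟨a'', ?_, h3⟩
    rw [Finset.mem_filter]
    refine ⟨Finset.mem_univ _, h1, h2, ?_⟩
    apply a6emb_eq_one N e
    rw [map_pow, map_mul, h3]
    have h4 : a6emb N e a6z * (h * a6emb N e a' * h⁻¹) =
        h * (a6emb N e a6z * a6emb N e a') * h⁻¹ := by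
      have h5 : a6emb N e a6z = h * a6emb N e a6z * h⁻¹ := by
        rw [← hh]
        group
      conv_lhs => rw [h5]
      group
    rw [h4, conj_pow, ← map_mul, ← map_pow, hw, map_one]
    group
  have hcard : T.card < Nat.card (Subgroup.centralizer ({a6emb N e a6z} : Set G)) := by
    rw [a6_cz_card N e hidx]
    omega
  obtain ⟨g, hgC, hg1, hgc⟩ := exists_comm_of_card_lt _ (a6emb N e a') T hmem hcard
  exact ⟨g, hg1, hgC, hgc⟩

/-- the centraliser of the fixed involution meets the centraliser of each of its conjugates. -/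
theorem a6_core (hidx : N.index = 4) (x : G) :
    ∃ g : G, g ≠ 1 ∧ g ∈ Subgroup.centralizer ({a6emb N e a6z} : Set G) ∧
      (x * a6emb N e a6z * x⁻¹) * g = g * (x * a6emb N e a6z * x⁻¹) := by
  obtain ⟨a', ha1, ha2, ha'⟩ := invN_conj N e a6z a6z_ne_one a6z_sq x
  rw [← ha']
  obtain ⟨z, hz⟩ : ∃ z, z = a6emb N e a6z := ⟨_, rfl⟩
  obtain ⟨z', hz'⟩ : ∃ z', z' = a6emb N e a' := ⟨_, rfl⟩
  have hzz : z * z = 1 := by rw [hz, ← map_mul, a6z_sq, map_one]
  have hzz' : z' * z' = 1 := by rw [hz', ← map_mul, ha2, map_one]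
  have hz'1 : z' ≠ 1 := by
    intro h
    rw [hz'] at h
    exact ha1 (a6emb_eq_one N e h)
  have hzi : z⁻¹ = z := inv_eq_of_mul_eq_one_left hzz
  have hzi' : z'⁻¹ = z' := inv_eq_of_mul_eq_one_left hzz'
  rcases a6_orders (a6z * a') with h4 | h3 | h5
  · have hw4 : (z * z') ^ 4 = 1 := by rw [hz, hz', ← map_mul, ← map_pow, h4, map_one]
    rw [← hz, ← hz']
    by_cases hw2 : (z * z') * (z * z') = 1
    · have h1 : (z * z')⁻¹ = z * z' := inv_eq_of_mul_eq_one_left hw2
      have hcomm : z * z' = z' * z := by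
        rw [← h1, mul_inv_rev, hzi, hzi']
      exact ⟨z', hz'1, (mem_cz z z').mpr hcomm, rfl⟩
    · have hww : (z * z') * (z * z') * ((z * z') * (z * z')) = 1 := by
        rw [← hw4]
        simp only [pow_succ, pow_zero, one_mul, mul_assoc]
      have hwi : (z * z')⁻¹ = z' * z := by rw [mul_inv_rev, hzi, hzi']
      have e1 : z * (z * z') = (z * z')⁻¹ * z := by
        rw [hwi, ← mul_assoc, hzz, one_mul, mul_assoc, hzz, mul_one]
      have e2 : z' * (z * z') = (z * z')⁻¹ * z' := by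
        rw [hwi, mul_assoc]
      refine ⟨(z * z') * (z * z'), hw2, (mem_cz z _).mpr (sq_comm_of_inv e1 hww),
        sq_comm_of_inv e2 hww⟩
  · exact a6_pig N e hidx 3 a6_card_three a' ha1 ha2 h3
  · exact a6_pig N e hidx 5 a6_card_five a' ha1 ha2 h5

include e in
theorem a6_sylow_meet (hidx : N.index = 4) (H : Sylow 2 G) (x : G) :
    (H : Subgroup G) ⊓ MulAut.conj x • (H : Subgroup G) ≠ ⊥ := by
  obtain ⟨z, hz⟩ : ∃ z, z = a6emb N e a6z := ⟨_, rfl⟩
  have hcard : Nat.card (Subgroup.centralizer ({z} : Set G)) = 2 ^ 5 := by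
    rw [hz, a6_cz_card N e hidx]
    norm_num
  have hCp : IsPGroup 2 (Subgroup.centralizer ({z} : Set G)) := IsPGroup.of_card hcard
  obtain ⟨H₀, hH₀⟩ := hCp.exists_le_sylow
  obtain ⟨y, hy⟩ := MulAction.exists_smul_eq G H₀ H
  have key : ∀ t : G, y⁻¹ * t * y ∈ Subgroup.centralizer ({z} : Set G) → t ∈ (H : Subgroup G) := by
    intro t ht
    have h1 := hH₀ ht
    rw [← hy, Sylow.coe_subgroup_smul, Subgroup.mem_pointwise_smul_iff_inv_smul_mem]
    have h2 : (MulAut.conj y)⁻¹ • t = y⁻¹ * t * y := by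
      rw [MulAut.smul_def, MulAut.conj_inv_apply]
    rw [h2]
    exact h1
  obtain ⟨g', hg1, hgC, hgc⟩ := a6_core N e hidx (y⁻¹ * x * y)
  rw [← hz] at hgC hgc
  intro hbot
  have hmem : y * g' * y⁻¹ ∈ (H : Subgroup G) ⊓ MulAut.conj x • (H : Subgroup G) := by
    rw [Subgroup.mem_inf]
    constructor
    · apply key
      have h1 : y⁻¹ * (y * g' * y⁻¹) * y = g' := by group
      rw [h1]
      exact hgC
    · rw [Subgroup.mem_pointwise_smul_iff_inv_smul_mem]
      have h2 : (MulAut.conj x)⁻¹ • (y * g' * y⁻¹) = x⁻¹ * (y * g' * y⁻¹) * x := by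
        rw [MulAut.smul_def, MulAut.conj_inv_apply]
      rw [h2]
      apply key
      rw [mem_cz]
      have h3 : y⁻¹ * (x⁻¹ * (y * g' * y⁻¹) * x) * y =
          (y⁻¹ * x * y)⁻¹ * g' * (y⁻¹ * x * y) := by group
      rw [h3]
      obtain ⟨x', hx'⟩ : ∃ x', x' = y⁻¹ * x * y := ⟨_, rfl⟩
      rw [← hx'] at hgc ⊢
      have h4 : z * (x'⁻¹ * g' * x') = x'⁻¹ * (x' * z * x'⁻¹ * g') * x' := by group
      rw [h4, hgc]
      group
  rw [hbot, Subgroup.mem_bot] at hmem
  apply hg1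
  have h5 : g' = y⁻¹ * (y * g' * y⁻¹) * y := by group
  rw [h5, hmem]
  group

end a6m3

end Cfsg.Agent.helper13
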