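import Cfsg.Statements.S0794
import Cfsg.Agent.Lib_helper13_ReflA

set_option autoImplicit false
open Cfsg

namespace Cfsg.Agent.S0794

open Matrix QuadraticMap Cfsg.Agent.helper13
variable {F : Type*} [Field F] {ι : Type} [Fintype ι] [DecidableEq ι]

theorem siegel_zero (Q : QuadraticForm F (ι → F)) (u v : ι → F) :
    Cfsg.siegelMatrix (⇑Q) u v 0 = 1 := by
  unfold Cfsg.siegelMatrix
  rw [zero_smul, add_zero]

/-- the Siegel transformation as an element of the isometry group. -/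
def sieG (Q : QuadraticForm F (ι → F)) (u v : ι → F) (hu : Q u = 0) (hv : Q v = 0)
    (huv : polar (⇑Q) u v = 0) (c : F) : ↥(Cfsg.isometryGroup F ⇑Q) :=
  ⟨⟨Cfsg.siegelMatrix (⇑Q) u v c, Cfsg.siegelMatrix (⇑Q) u v (-c),
    by rw [Cfsg.Agent.helper4.siegel_mul Q u v hu hv huv, add_neg_cancel, siegel_zero],
    by rw [Cfsg.Agent.helper4.siegel_mul Q u v hu hv huv, neg_add_cancel, siegel_zero]⟩, by
    intro x _
    exact Cfsg.Agent.helper4.Q_siegel Q u v hu hv huv c x⟩

theorem iact_sieG (Q : QuadraticForm F (ι → F)) (u v : ι → F) (hu : Q u = 0) (hv : Q v = 0)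
    (huv : polar (⇑Q) u v = 0) (c : F) (x : ι → F) :
    iact (sieG Q u v hu hv huv c) x = x + c • (polar (⇑Q) u x • v - polar (⇑Q) v x • u) :=
  Cfsg.Agent.helper4.siegelMatrix_mulVec Q u v c x

theorem sieG_mul (Q : QuadraticForm F (ι → F)) (u v : ι → F) (hu : Q u = 0) (hv : Q v = 0)
    (huv : polar (⇑Q) u v = 0) (c d : F) :
    sieG Q u v hu hv huv c * sieG Q u v hu hv huv d = sieG Q u v hu hv huv (c + d) := by
  apply Subtype.ext
  apply Units.ext
  exact Cfsg.Agent.helper4.siegel_mul Q u v hu hv huv c d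

theorem sieG_inv (Q : QuadraticForm F (ι → F)) (u v : ι → F) (hu : Q u = 0) (hv : Q v = 0)
    (huv : polar (⇑Q) u v = 0) (c : F) :
    (sieG Q u v hu hv huv c)⁻¹ = sieG Q u v hu hv huv (-c) := by
  apply inv_eq_of_mul_eq_one_left
  rw [sieG_mul, neg_add_cancel]
  apply Subtype.ext
  apply Units.ext
  exact siegel_zero Q u v

theorem sieG_conj (Q : QuadraticForm F (ι → F)) (u v : ι → F) (hu : Q u = 0) (hv : Q v = 0)
    (huv : polar (⇑Q) u v = 0) (c : F) (h : ↥(Cfsg.isometryGroup F ⇑Q)) (b : F)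
    (h1 : iact h u = b • u) (h3 : iact h v = v) :
    h * sieG Q u v hu hv huv c * h⁻¹ = sieG Q u v hu hv huv (b * c) := by
  apply iact_ext
  intro x
  rw [iact_mul, iact_mul, iact_sieG, iact_sieG, iact_add, iact_iact_inv, iact_smul, iact_sub,
    iact_smul, iact_smul, h1, h3]
  have e1 : polar (⇑Q) u (iact h⁻¹ x) = b * polar (⇑Q) u x := by
    rw [← polar_iact h u (iact h⁻¹ x), iact_iact_inv, h1, polar_smul_left, smul_eq_mul]
  have e2 : polar (⇑Q) v (iact h⁻¹ x) = polar (⇑Q) v x := by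
    rw [← polar_iact h v (iact h⁻¹ x), iact_iact_inv, h3]
  rw [e1, e2]
  module

theorem exists_scaling (Q : QuadraticForm F (ι → F)) (h2 : (2 : F) ≠ 0) (u v : ι → F)
    (hu : Q u = 0) (huv : polar (⇑Q) u v = 0)
    (y : ι → F) (hvy : polar (⇑Q) v y = 0) (huy : polar (⇑Q) u y ≠ 0) :
    ∃ h : ↥(Cfsg.isometryGroup F ⇑Q), iact h u = (2 : F) • u ∧ iact h v = v := by
  have hvu : polar (⇑Q) v u = 0 := by rw [polar_comm]; exact huv
  obtain ⟨y₁, huy₁, hvy₁⟩ : ∃ y₁ : ι → F, polar (⇑Q) u y₁ = 1 ∧ polar (⇑Q) v y₁ = 0 := by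
    refine ⟨(polar (⇑Q) u y)⁻¹ • y, ?_, ?_⟩
    · rw [polar_smul_right, smul_eq_mul, inv_mul_cancel₀ huy]
    · rw [polar_smul_right, hvy, smul_zero]
  obtain ⟨u', hQu', huu', hvu'⟩ : ∃ u' : ι → F, Q u' = 0 ∧ polar (⇑Q) u u' = 1 ∧
      polar (⇑Q) v u' = 0 := by
    refine ⟨(1 : F) • y₁ + (-Q y₁) • u, ?_, ?_, ?_⟩
    · rw [Q_comb2, hu, polar_comm, huy₁]
      ring
    · rw [polar_add_right, polar_smul_right, polar_smul_right, huy₁, polar_self', hu]
      simp
    · rw [polar_add_right, polar_smul_right, polar_smul_right, hvy₁, hvu]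
      simp
  have hu'u : polar (⇑Q) u' u = 1 := by rw [polar_comm]; exact huu'
  have hu'u' : polar (⇑Q) u' u' = 0 := by rw [polar_self', hQu', mul_zero]
  have huu : polar (⇑Q) u u = 0 := by rw [polar_self', hu, mul_zero]
  obtain ⟨w₁, hw₁⟩ : ∃ w₁ : ι → F, w₁ = (1 : F) • u + (-1 : F) • u' := ⟨_, rfl⟩
  obtain ⟨w₂, hw₂⟩ : ∃ w₂ : ι → F, w₂ = (1 : F) • u + (-2 : F) • u' := ⟨_, rfl⟩
  have hQw₁ : Q w₁ = -1 := by
    rw [hw₁, Q_comb2, hu, hQu', huu']
    ring
  have hQw₂ : Q w₂ = -2 := by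
    rw [hw₂, Q_comb2, hu, hQu', huu']
    ring
  have hw₁0 : Q w₁ ≠ 0 := by rw [hQw₁]; exact neg_ne_zero.mpr one_ne_zero
  have hw₂0 : Q w₂ ≠ 0 := by rw [hQw₂]; exact neg_ne_zero.mpr h2
  refine ⟨reflG Q w₁ hw₁0 * reflG Q w₂ hw₂0, ?_, ?_⟩
  · rw [iact_mul, iact_reflG Q w₂]
    have e1 : polar (⇑Q) w₂ u = -2 := by
      rw [hw₂, polar_add_left, polar_smul_left, polar_smul_left, huu, hu'u]
      simp
    rw [e1, hQw₂, inv_mul_cancel₀ (neg_ne_zero.mpr h2), one_smul]
    have e2 : u - w₂ = (2 : F) • u' := by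
      rw [hw₂]
      module
    rw [e2, iact_smul, iact_reflG]
    have e3 : polar (⇑Q) w₁ u' = 1 := by
      rw [hw₁, polar_add_left, polar_smul_left, polar_smul_left, huu', hu'u']
      simp
    rw [e3, hQw₁]
    congr 1
    rw [hw₁]
    have : ((-1 : F))⁻¹ * 1 = -1 := by
      rw [mul_one, inv_neg, inv_one]
    rw [this]
    module
  · rw [iact_mul, iact_reflG_of_polar Q w₂ hw₂0 v, iact_reflG_of_polar Q w₁ hw₁0 v]
    · rw [hw₁, polar_add_left, polar_smul_left, polar_smul_left, huv, polar_comm, hvu']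
      simp
    · rw [hw₂, polar_add_left, polar_smul_left, polar_smul_left, huv, polar_comm, hvu']
      simp


/-- For q odd, n ≥ 5 and Q with non-degenerate polar form: an isometry whose matrix is a Siegel transformation T_(u,v)(c) (u, v singular and orthogonal) is a commutator in the isometry group, so lies in Ω. -/
theorem result {F : Type*} [Field F] [Fintype F] (h2 : (2 : F) ≠ 0) {n : ℕ} (hn : 5 ≤ n) (Q : QuadraticForm F (Fin n → F)) (hQ : (QuadraticMap.polarBilin Q).Nondegenerate) (u v : Fin n → F) (hu : Q u = 0) (hv : Q v = 0) (huv : QuadraticMap.polar ⇑Q u v = 0) (c : F) (g : ↥(Cfsg.isometryGroup F ⇑Q)) (hg : ((g : Matrix.GeneralLinearGroup (Fin n) F) : Matrix (Fin n) (Fin n) F) = Cfsg.siegelMatrix ⇑Q u v c) : g ∈ commutatorSet ↥(Cfsg.isometryGroup F ⇑Q) ∧ g ∈ Cfsg.Omega F ⇑Q := by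
  have hcomm : g ∈ commutatorSet ↥(Cfsg.isometryGroup F ⇑Q) := by
    have hgs : g = sieG Q u v hu hv huv c := by
      apply Subtype.ext
      apply Units.ext
      exact hg
    by_cases hy : ∃ y : Fin n → F, polar (⇑Q) v y = 0 ∧ polar (⇑Q) u y ≠ 0
    · obtain ⟨y, hvy, huy⟩ := hy
      obtain ⟨h, h1, h3⟩ := exists_scaling Q h2 u v hu huv y hvy huy
      refine ⟨h, sieG Q u v hu hv huv c, ?_⟩
      rw [commutatorElement_def, sieG_conj Q u v hu hv huv c h 2 h1 h3, sieG_inv, sieG_mul, hgs]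
      congr 1
      ring
    · push Not at hy
      have hone : g = 1 := by
        rw [hgs]
        apply iact_ext
        intro x
        rw [iact_sieG, iact_one]
        -- u lies in the span of v
        have hmem : u ∈ LinearMap.BilinForm.orthogonal (polarBilin Q)
            (LinearMap.BilinForm.orthogonal (polarBilin Q) (Submodule.span F {v})) := by
          rw [LinearMap.BilinForm.mem_orthogonal_iff]
          intro z hz
          have hz' : polar (⇑Q) v z = 0 := by
            have := (LinearMap.BilinForm.mem_orthogonal_iff.mp hz) v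
              (Submodule.mem_span_singleton_self v)
            simpa [LinearMap.BilinForm.isOrtho_def, polarBilin_apply_apply] using this
          have := hy z hz'
          show polarBilin Q z u = 0
          rw [polarBilin_apply_apply, polar_comm]
          exact this
        rw [LinearMap.BilinForm.orthogonal_orthogonal hQ
          (polarBilin_isSymm Q).isRefl] at hmem
        obtain ⟨a, rfl⟩ := Submodule.mem_span_singleton.mp hmem
        rw [polar_smul_left, smul_eq_mul]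
        have : (a * polar (⇑Q) v x) • v - polar (⇑Q) v x • a • v = 0 := by
          rw [smul_smul, mul_comm, sub_self]
        rw [this, smul_zero, add_zero]
      rw [hone]
      exact ⟨1, 1, by simp⟩
  refine ⟨hcomm, ?_⟩
  obtain ⟨a, b, hab⟩ := hcomm
  rw [← hab]
  show _ ∈ ⁅(⊤ : Subgroup ↥(Cfsg.isometryGroup F ⇑Q)), ⊤⁆
  exact Subgroup.commutator_mem_commutator (Subgroup.mem_top a) (Subgroup.mem_top b)

end Cfsg.Agent.S0794
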