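import Mathlib
import Cfsg.Agent.Lib_helper13_WittNd
import Cfsg.Agent.Lib_helper13_ReflG
import Cfsg.Agent.Lib_helper13_C2B
import Cfsg.Agent.S0794

set_option autoImplicit false

namespace Cfsg.Agent.helper13

open Matrix QuadraticMap Module Cfsg.Agent.S0794
open scoped commutatorElement

section sgA
variable {F : Type*} [Field F] {ι : Type} [Fintype ι] [DecidableEq ι]
variable (Q : QuadraticForm F (ι → F))

/-- a normal subgroup containing all products of two reflections of equal norm contains the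
commutator subgroup. -/
theorem commutator_le_of_pairs (h2 : (2 : F) ≠ 0) (hQ : (polarBilin Q).Nondegenerate)
    (N : Subgroup ↥(Cfsg.isometryGroup F ⇑Q)) [hN : N.Normal]
    (H : ∀ (a b : ι → F) (ha : Q a ≠ 0) (hb : Q b ≠ 0), Q a = Q b →
      reflG Q a ha * reflG Q b hb ∈ N) :
    commutator ↥(Cfsg.isometryGroup F ⇑Q) ≤ N := by
  have hrr : ∀ (a b : ι → F) (ha : Q a ≠ 0) (hb : Q b ≠ 0),
      (QuotientGroup.mk' N) (reflG Q a ha) * (QuotientGroup.mk' N) (reflG Q b hb) =
        (QuotientGroup.mk' N) (reflG Q b hb) * (QuotientGroup.mk' N) (reflG Q a ha) := by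
    intro a b ha hb
    rw [← map_mul, ← map_mul]
    apply (QuotientGroup.eq).mpr
    have h1 : (reflG Q a ha * reflG Q b hb)⁻¹ * (reflG Q b hb * reflG Q a ha) =
        reflG Q b hb * (reflG Q a ha * reflG Q b hb * (reflG Q a ha)⁻¹) := by
      rw [_root_.mul_inv_rev, reflG_inv, reflG_inv]
      group
    rw [h1, reflG_conj]
    apply H
    rw [Q_iact]
  have hcen : ∀ g : ↥(Cfsg.isometryGroup F ⇑Q),
      (QuotientGroup.mk' N) g ∈ Subgroup.center (↥(Cfsg.isometryGroup F ⇑Q) ⧸ N) := by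
    have hS : RU Q ⊤ ≤ (Subgroup.center (↥(Cfsg.isometryGroup F ⇑Q) ⧸ N)).comap
        (QuotientGroup.mk' N) := by
      unfold RU
      rw [Subgroup.closure_le]
      rintro r ⟨a, -, ha, rfl⟩
      rw [SetLike.mem_coe, Subgroup.mem_comap, Subgroup.mem_center_iff]
      intro y
      obtain ⟨h, rfl⟩ := QuotientGroup.mk'_surjective N y
      have hS2 : RU Q ⊤ ≤ (Subgroup.centralizer
          {(QuotientGroup.mk' N) (reflG Q a ha)}).comap (QuotientGroup.mk' N) := by
        unfold RU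
        rw [Subgroup.closure_le]
        rintro s ⟨b, -, hb, rfl⟩
        rw [SetLike.mem_coe, Subgroup.mem_comap, Subgroup.mem_centralizer_iff]
        intro z hz
        rw [Set.mem_singleton_iff] at hz
        rw [hz]
        exact hrr a b ha hb
      have := hS2 (cartan_dieudonne Q h2 hQ h)
      rw [Subgroup.mem_comap, Subgroup.mem_centralizer_iff] at this
      exact (this _ rfl).symm
    intro g
    exact hS (cartan_dieudonne Q h2 hQ g)
  rw [commutator_def, Subgroup.commutator_le]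
  intro g _ h _
  rw [← QuotientGroup.eq_one_iff]
  show (QuotientGroup.mk' N) ⁅g, h⁆ = 1
  rw [map_commutatorElement, commutatorElement_eq_one_iff_mul_comm]
  have := hcen h
  rw [Subgroup.mem_center_iff] at this
  exact this _

/-- the subgroup generated by the Siegel transformations. -/
def Sg : Subgroup ↥(Cfsg.isometryGroup F ⇑Q) :=
  Subgroup.closure {g : ↥(Cfsg.isometryGroup F ⇑Q) | ∃ (u v : ι → F) (c : F), Q u = 0 ∧ Q v = 0 ∧
    polar (⇑Q) u v = 0 ∧
    ((g : Matrix.GeneralLinearGroup ι F) : Matrix ι ι F) = Cfsg.siegelMatrix (⇑Q) u v c}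

theorem sieG_mem_Sg (u v : ι → F) (hu : Q u = 0) (hv : Q v = 0) (huv : polar (⇑Q) u v = 0)
    (c : F) : sieG Q u v hu hv huv c ∈ Sg Q :=
  Subgroup.subset_closure ⟨u, v, c, hu, hv, huv, rfl⟩

theorem sieG_conj_gen (u v : ι → F) (hu : Q u = 0) (hv : Q v = 0) (huv : polar (⇑Q) u v = 0)
    (c : F) (g : ↥(Cfsg.isometryGroup F ⇑Q)) :
    g * sieG Q u v hu hv huv c * g⁻¹ =
      sieG Q (iact g u) (iact g v) (by rw [Q_iact]; exact hu) (by rw [Q_iact]; exact hv)
        (by rw [polar_iact]; exact huv) c := by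
  apply iact_ext
  intro x
  rw [iact_mul, iact_mul, iact_sieG, iact_sieG, iact_add, iact_iact_inv, iact_smul, iact_sub,
    iact_smul, iact_smul]
  have e1 : polar (⇑Q) u (iact g⁻¹ x) = polar (⇑Q) (iact g u) x := by
    rw [← polar_iact g u (iact g⁻¹ x), iact_iact_inv]
  have e2 : polar (⇑Q) v (iact g⁻¹ x) = polar (⇑Q) (iact g v) x := by
    rw [← polar_iact g v (iact g⁻¹ x), iact_iact_inv]
  rw [e1, e2]

theorem Sg_conj (g x : ↥(Cfsg.isometryGroup F ⇑Q)) (hx : x ∈ Sg Q) : g * x * g⁻¹ ∈ Sg Q := by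
  unfold Sg at hx
  induction hx using Subgroup.closure_induction with
  | mem y hy =>
    obtain ⟨u, v, c, hu, hv, huv, hm⟩ := hy
    have hy' : y = sieG Q u v hu hv huv c := by
      apply Subtype.ext
      apply Units.ext
      exact hm
    rw [hy', sieG_conj_gen]
    exact sieG_mem_Sg Q _ _ _ _ _ c
  | one =>
    rw [mul_one, mul_inv_cancel]
    exact Subgroup.one_mem _
  | mul a b _ _ iha ihb =>
    have : g * (a * b) * g⁻¹ = (g * a * g⁻¹) * (g * b * g⁻¹) := by group
    rw [this]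
    exact Subgroup.mul_mem _ iha ihb
  | inv a _ iha =>
    have : g * a⁻¹ * g⁻¹ = (g * a * g⁻¹)⁻¹ := by group
    rw [this]
    exact Subgroup.inv_mem _ iha

instance Sg_normal : (Sg Q).Normal := ⟨fun x hx g => Sg_conj Q g x hx⟩

/-- if the Siegel group maps `a` to `b` then the product of the two reflections lies in it. -/
theorem refl_pair_mem_Sg (a b : ι → F) (ha : Q a ≠ 0) (hb : Q b ≠ 0)
    (g : ↥(Cfsg.isometryGroup F ⇑Q)) (hg : g ∈ Sg Q) (hgab : iact g a = b) :
    reflG Q a ha * reflG Q b hb ∈ Sg Q := by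
  have hb' : reflG Q b hb = g * reflG Q a ha * g⁻¹ := by
    rw [reflG_conj]
    exact reflG_congr Q _ _ hgab.symm _ _
  have h1 : reflG Q a ha * reflG Q b hb =
      (reflG Q a ha * g * (reflG Q a ha)⁻¹) * g⁻¹ := by
    rw [hb', reflG_inv]
    group
  rw [h1]
  exact Subgroup.mul_mem _ (Sg_conj Q _ g hg) (Subgroup.inv_mem _ hg)

omit [Fintype ι] [DecidableEq ι] in
/-- the orthogonal complement of a nonsingular vector inside a nondegenerate subspace. -/
theorem nonsing_compl_nondeg (h2 : (2 : F) ≠ 0) (U : Submodule F (ι → F)) (hU : NondegOn Q U)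
    (y : ι → F) (hyU : y ∈ U) (hy : Q y ≠ 0) :
    NondegOn Q (U ⊓ orthQ Q (Submodule.span F {y})) := by
  have hyy : polar (⇑Q) y y ≠ 0 := by
    rw [polar_self']
    exact mul_ne_zero h2 hy
  have hperp : ∀ x, x ∈ orthQ Q (Submodule.span F {y}) ↔ polar (⇑Q) y x = 0 :=
    fun x => mem_orth_singleton_iff Q y x
  have hdec : ∀ u ∈ U, u - ((polar (⇑Q) y y)⁻¹ * polar (⇑Q) y u) • y ∈
      U ⊓ orthQ Q (Submodule.span F {y}) := by
    intro u hu
    rw [Submodule.mem_inf, hperp]
    refine ⟨U.sub_mem hu (U.smul_mem _ hyU), ?_⟩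
    rw [polar_sub_right, polar_smul_right, smul_eq_mul, mul_assoc, mul_comm _ (polar (⇑Q) y y),
      ← mul_assoc, inv_mul_cancel₀ hyy, one_mul, sub_self]
  intro x hx hall
  obtain ⟨hxU, hxo⟩ := Submodule.mem_inf.mp hx
  rw [hperp] at hxo
  apply hU x hxU
  intro u hu
  have h1 := hall _ (hdec u hu)
  rw [polar_sub_left, polar_smul_left, hxo, smul_zero, sub_zero] at h1
  exact h1

omit [DecidableEq ι] in
theorem nonsing_compl_finrank (hQ : (polarBilin Q).Nondegenerate) (U : Submodule F (ι → F))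
    (hU : NondegOn Q U) (y : ι → F) (hyU : y ∈ U) (hy : Q y ≠ 0) :
    finrank F ↥(U ⊓ orthQ Q (Submodule.span F {y})) + 1 = finrank F U := by
  have hy0 : y ≠ 0 := by
    rintro rfl
    exact hy (QuadraticMap.map_zero Q)
  have := finrank_inf_orth_of_le Q hQ U hU (Submodule.span F {y})
    ((Submodule.span_singleton_le_iff_mem _ _).mpr hyU)
  rw [finrank_span_singleton hy0] at this
  exact this

theorem hyp_compl_finrank (hQ : (polarBilin Q).Nondegenerate) (X : Submodule F (ι → F))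
    (hX : NondegOn Q X) (w f : ι → F) (hwX : w ∈ X) (hfX : f ∈ X) (hw : Q w = 0) (hf : Q f = 0)
    (hwf : polar (⇑Q) w f = 1) :
    finrank F ↥(planeCompl Q X w f) + 2 = finrank F X := by
  have e : planeCompl Q X w f = X ⊓ orthQ Q (Submodule.span F {w, f}) := by
    ext x
    rw [mem_planeCompl, Submodule.mem_inf, mem_orth_iff]
    constructor
    · rintro ⟨hx, h1, h3⟩
      refine ⟨hx, ?_⟩
      intro u hu
      obtain ⟨s, t, rfl⟩ := Submodule.mem_span_pair.mp hu
      rw [polar_add_left, polar_smul_left, polar_smul_left, h1, h3]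
      simp
    · rintro ⟨hx, h⟩
      exact ⟨hx, h w (Submodule.subset_span (by simp)), h f (Submodule.subset_span (by simp))⟩
  have hle : Submodule.span F {w, f} ≤ X := by
    rw [Submodule.span_le]
    intro z hz
    rcases hz with rfl | rfl
    · exact hwX
    · exact hfX
  have := finrank_inf_orth_of_le Q hQ X hX (Submodule.span F {w, f}) hle
  rw [hyp_pair_finrank Q hw hf hwf] at this
  rw [e]
  exact this

end sgA

section sgB
variable {F : Type*} [Field F] [Fintype F] {ι : Type} [Fintype ι] [DecidableEq ι]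
variable (Q : QuadraticForm F (ι → F))

omit [DecidableEq ι] [Fintype F] in
/-- the perp of a nonsingular vector. -/
theorem perp_nondeg (h2 : (2 : F) ≠ 0) (hQ : (polarBilin Q).Nondegenerate) (a : ι → F)
    (ha : Q a ≠ 0) :
    NondegOn Q (orthQ Q (Submodule.span F {a})) ∧
      finrank F ↥(orthQ Q (Submodule.span F {a})) + 1 = Fintype.card ι := by
  have h1 := nonsing_compl_nondeg Q h2 ⊤ (nondegOn_top Q hQ) a Submodule.mem_top ha
  have h3 := nonsing_compl_finrank Q hQ ⊤ (nondegOn_top Q hQ) a Submodule.mem_top ha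
  rw [top_inf_eq] at h1 h3
  rw [finrank_top, Module.finrank_fintype_fun_eq_card] at h3
  exact ⟨h1, h3⟩

/-- Lemma L: in a nondegenerate subspace of dimension at least three, every nonzero vector
is non-orthogonal to some singular vector. -/
theorem exists_sing_polar_ne (h2 : (2 : F) ≠ 0) (hQ : (polarBilin Q).Nondegenerate)
    (X : Submodule F (ι → F)) (hX : NondegOn Q X) (hX3 : 3 ≤ finrank F X) (p : ι → F)
    (hpX : p ∈ X) (hp0 : p ≠ 0) : ∃ d ∈ X, Q d = 0 ∧ polar (⇑Q) p d ≠ 0 := by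
  by_cases hp : Q p = 0
  · obtain ⟨f, hfX, hf, hpf⟩ := exists_partner_in Q X hX p hpX hp0 hp
    exact ⟨f, hfX, hf, by rw [hpf]; exact one_ne_zero⟩
  · have hYnd := nonsing_compl_nondeg Q h2 X hX p hpX hp
    have hYrk := nonsing_compl_finrank Q hQ X hX p hpX hp
    obtain ⟨y, hyY, hy⟩ := exists_Q_eq_in Q h2 _ hYnd (by omega) (-Q p) (neg_ne_zero.mpr hp)
    obtain ⟨hyX, hyo⟩ := Submodule.mem_inf.mp hyY
    rw [mem_orth_singleton_iff] at hyo
    refine ⟨p + y, X.add_mem hpX hyX, ?_, ?_⟩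
    · rw [Q_add_polar, hy, hyo]
      ring
    · rw [polar_add_right, hyo, polar_self', add_zero]
      exact mul_ne_zero h2 hp

/-- step 1: moving a nonsingular vector by an orthogonal singular vector. -/
theorem Sg_step1 (h2 : (2 : F) ≠ 0) (hQ : (polarBilin Q).Nondegenerate)
    (hn : 5 ≤ Fintype.card ι) (a d : ι → F) (ha : Q a ≠ 0) (hd : Q d = 0)
    (had : polar (⇑Q) a d = 0) : ∃ g ∈ Sg Q, iact g a = a + d := by
  by_cases hd0 : d = 0
  · exact ⟨1, Subgroup.one_mem _, by rw [iact_one, hd0, add_zero]⟩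
  obtain ⟨hXnd, hXrk⟩ := perp_nondeg Q h2 hQ a ha
  set X := orthQ Q (Submodule.span F {a}) with hXdef
  have hdX : d ∈ X := (mem_orth_singleton_iff Q a d).mpr had
  obtain ⟨f, hfX, hf, hdf⟩ := exists_partner_in Q X hXnd d hdX hd0 hd
  have hYnd := hyp_nondeg Q X hXnd d f hdX hfX hd hf hdf
  have hYrk := hyp_compl_finrank Q hQ X hXnd d f hdX hfX hd hf hdf
  obtain ⟨y, hyY, hy⟩ := exists_Q_eq_in Q h2 _ hYnd (by omega) (-Q a) (neg_ne_zero.mpr ha)
  obtain ⟨hyX, hdy, -⟩ := (mem_planeCompl Q X d f y).mp hyY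
  have hay : polar (⇑Q) a y = 0 := (mem_orth_singleton_iff Q a y).mp hyX
  have hu : Q (a + y) = 0 := by
    rw [Q_add_polar, hy, hay]
    ring
  have hud : polar (⇑Q) (a + y) d = 0 := by
    rw [polar_add_left, had, polar_comm (⇑Q) y d, hdy, add_zero]
  have hua : polar (⇑Q) (a + y) a ≠ 0 := by
    rw [polar_add_left, polar_self', polar_comm (⇑Q) y a, hay, add_zero]
    exact mul_ne_zero h2 ha
  refine ⟨sieG Q (a + y) d hu hd hud (polar (⇑Q) (a + y) a)⁻¹, sieG_mem_Sg Q _ _ _ _ _ _, ?_⟩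
  rw [iact_sieG, polar_comm (⇑Q) d a, had, zero_smul, sub_zero, smul_smul, inv_mul_cancel₀ hua,
    one_smul]

/-- step 2: transitivity of the Siegel group on vectors of equal nonzero norm, `b ≠ -a`. -/
theorem Sg_step2 (h2 : (2 : F) ≠ 0) (hQ : (polarBilin Q).Nondegenerate)
    (hn : 5 ≤ Fintype.card ι) (a b : ι → F) (ha : Q a ≠ 0) (hab : Q a = Q b)
    (hne : b ≠ -a) : ∃ g ∈ Sg Q, iact g a = b := by
  by_cases hba : b = a
  · exact ⟨1, Subgroup.one_mem _, by rw [iact_one, hba]⟩
  have hQd : Q (b - a) = 2 * Q a - polar (⇑Q) a b := by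
    have : b - a = b + (-1 : F) • a := by rw [neg_one_smul, sub_eq_add_neg]
    rw [this, Q_add_polar, QuadraticMap.map_smul, polar_smul_right, ← hab, polar_comm (⇑Q) b a]
    simp only [smul_eq_mul]
    ring
  by_cases hκ : Q (b - a) = 0
  · have had : polar (⇑Q) a (b - a) = 0 := by
      rw [polar_sub_right, polar_self']
      rw [hκ] at hQd
      linear_combination hQd
    obtain ⟨g, hg, hga⟩ := Sg_step1 Q h2 hQ hn a (b - a) ha hκ had
    exact ⟨g, hg, by rw [hga]; abel⟩
  obtain ⟨hXnd, hXrk⟩ := perp_nondeg Q h2 hQ a ha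
  set X := orthQ Q (Submodule.span F {a}) with hXdef
  have haa : polar (⇑Q) a a ≠ 0 := by
    rw [polar_self']
    exact mul_ne_zero h2 ha
  set β := (polar (⇑Q) a a)⁻¹ * polar (⇑Q) a b with hβ
  have hb'X : b - β • a ∈ X := by
    rw [hXdef, mem_orth_singleton_iff, polar_sub_right, polar_smul_right, smul_eq_mul, hβ,
      mul_comm _ (polar (⇑Q) a a), ← mul_assoc, mul_inv_cancel₀ haa, one_mul, sub_self]
  have hb'0 : b - β • a ≠ 0 := by
    intro h0
    have hb : b = β • a := sub_eq_zero.mp h0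
    have hQb : Q b = β * β * Q a := by rw [hb, QuadraticMap.map_smul]; simp [smul_eq_mul]
    rw [← hab] at hQb
    have hβ2 : (β - 1) * (β + 1) = 0 := by
      have : (β * β - 1) * Q a = 0 := by linear_combination -hQb
      rcases mul_eq_zero.mp this with h | h
      · linear_combination h
      · exact absurd h ha
    rcases mul_eq_zero.mp hβ2 with h | h
    · apply hba
      rw [hb, sub_eq_zero.mp h, one_smul]
    · apply hne
      rw [hb, eq_neg_of_add_eq_zero_left h, neg_one_smul]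
  obtain ⟨d₀, hd₀X, hd₀, hbd₀⟩ := exists_sing_polar_ne Q h2 hQ X hXnd (by omega) _ hb'X hb'0
  have had₀ : polar (⇑Q) a d₀ = 0 := (mem_orth_singleton_iff Q a d₀).mp hd₀X
  have hbd₀' : polar (⇑Q) b d₀ ≠ 0 := by
    rw [polar_sub_left, polar_smul_left, had₀, smul_zero, sub_zero] at hbd₀
    exact hbd₀
  set d := (Q (b - a) * (polar (⇑Q) b d₀)⁻¹) • d₀ with hddef
  have hd : Q d = 0 := by rw [hddef, QuadraticMap.map_smul, hd₀, smul_zero]
  have had : polar (⇑Q) a d = 0 := by rw [hddef, polar_smul_right, had₀, smul_zero]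
  have hbd : polar (⇑Q) b d = Q (b - a) := by
    rw [hddef, polar_smul_right, smul_eq_mul, mul_assoc, inv_mul_cancel₀ hbd₀', mul_one]
  obtain ⟨g₁, hg₁, hg₁a⟩ := Sg_step1 Q h2 hQ hn a d ha hd had
  have hQa' : Q (a + d) = Q a := by rw [Q_add_polar, hd, had]; ring
  have hd' : Q (b - (a + d)) = 0 := by
    have : b - (a + d) = (b - a) + (-1 : F) • d := by rw [neg_one_smul]; abel
    rw [this, Q_add_polar, QuadraticMap.map_smul, hd, polar_smul_right, polar_sub_left, hbd, had]
    simp only [smul_eq_mul]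
    ring
  have had' : polar (⇑Q) (a + d) (b - (a + d)) = 0 := by
    rw [polar_sub_right, polar_add_left, polar_add_left, polar_add_right, polar_add_right,
      polar_self', polar_self', hd, had, polar_comm (⇑Q) d a, had, polar_comm (⇑Q) d b, hbd, hQd]
    ring
  obtain ⟨g₂, hg₂, hg₂a⟩ := Sg_step1 Q h2 hQ hn (a + d) (b - (a + d)) (by rw [hQa']; exact ha)
    hd' had'
  refine ⟨g₂ * g₁, Subgroup.mul_mem _ hg₂ hg₁, ?_⟩
  rw [iact_mul, hg₁a, hg₂a]
  abel

/-- transitivity of the Siegel group on vectors of equal nonzero norm. -/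
theorem Sg_trans (h2 : (2 : F) ≠ 0) (hQ : (polarBilin Q).Nondegenerate)
    (hn : 5 ≤ Fintype.card ι) (a b : ι → F) (ha : Q a ≠ 0) (hab : Q a = Q b) :
    ∃ g ∈ Sg Q, iact g a = b := by
  by_cases hne : b = -a
  · obtain ⟨hXnd, hXrk⟩ := perp_nondeg Q h2 hQ a ha
    set X := orthQ Q (Submodule.span F {a}) with hXdef
    have hXne : X ≠ ⊥ := by
      intro h
      rw [h, finrank_bot] at hXrk
      omega
    obtain ⟨p, hpX, hp0⟩ := Submodule.exists_mem_ne_zero_of_ne_bot hXne
    obtain ⟨d, hdX, hd, hpd⟩ := exists_sing_polar_ne Q h2 hQ X hXnd (by omega) p hpX hp0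
    have hd0 : d ≠ 0 := by
      rintro rfl
      exact hpd (polar_zero_right _ _)
    have had : polar (⇑Q) a d = 0 := (mem_orth_singleton_iff Q a d).mp hdX
    obtain ⟨g₁, hg₁, hg₁a⟩ := Sg_step1 Q h2 hQ hn a d ha hd had
    have hQa' : Q (a + d) = Q a := by rw [Q_add_polar, hd, had]; ring
    have hne' : b ≠ -(a + d) := by
      rw [hne]
      intro h
      apply hd0
      have h6 : a = a + d := neg_injective h
      simpa using h6
    obtain ⟨g₂, hg₂, hg₂a⟩ := Sg_step2 Q h2 hQ hn (a + d) b (by rw [hQa']; exact ha)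
      (by rw [hQa']; exact hab) hne'
    exact ⟨g₂ * g₁, Subgroup.mul_mem _ hg₂ hg₁, by rw [iact_mul, hg₁a, hg₂a]⟩
  · exact Sg_step2 Q h2 hQ hn a b ha hab hne

/-- the commutator subgroup is contained in the Siegel group. -/
theorem commutator_le_Sg (h2 : (2 : F) ≠ 0) (hQ : (polarBilin Q).Nondegenerate)
    (hn : 5 ≤ Fintype.card ι) : commutator ↥(Cfsg.isometryGroup F ⇑Q) ≤ Sg Q := by
  apply commutator_le_of_pairs Q h2 hQ (Sg Q)
  intro a b ha hb hab
  obtain ⟨g, hg, hga⟩ := Sg_trans Q h2 hQ hn a b ha hab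
  exact refl_pair_mem_Sg Q a b ha hb g hg hga

end sgB

end Cfsg.Agent.helper13
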