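import Mathlib
import Cfsg.Agent.Lib_helper13_SiegelGen
import Cfsg.Agent.Lib_helper13_Uni

set_option autoImplicit false

namespace Cfsg.Agent.helper13

open Matrix QuadraticMap Module Cfsg.Agent.S0794
open scoped commutatorElement

section simpA
variable {F : Type*} [Field F] [Fintype F] [DecidableEq F] {ι : Type} [Fintype ι] [DecidableEq ι]
variable (Q : QuadraticForm F (ι → F))

omit [DecidableEq F] in
/-- generation by reflections in all characteristics. -/
theorem ru_top_all (hQ : (polarBilin Q).Nondegenerate)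
    (hne : Fintype.card F ≠ 2 ∨ Fintype.card ι ≠ 4) (g : ↥(Cfsg.isometryGroup F ⇑Q)) :
    g ∈ RU Q ⊤ := by
  by_cases h2 : (2 : F) = 0
  · exact cd2 Q h2 hQ hne g
  · exact cartan_dieudonne Q h2 hQ g

omit [DecidableEq F] in
/-- a normal subgroup containing all products of two reflections of equal norm contains the
commutator subgroup; all characteristics. -/
theorem commutator_le_of_pairs_all (hQ : (polarBilin Q).Nondegenerate)
    (hne : Fintype.card F ≠ 2 ∨ Fintype.card ι ≠ 4)
    (N : Subgroup ↥(Cfsg.isometryGroup F ⇑Q)) [hN : N.Normal]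
    (H : ∀ (a b : ι → F) (ha : Q a ≠ 0) (hb : Q b ≠ 0), Q a = Q b →
      reflG Q a ha * reflG Q b hb ∈ N) :
    commutator ↥(Cfsg.isometryGroup F ⇑Q) ≤ N := by
  have hrr : ∀ (a b : ι → F) (ha : Q a ≠ 0) (hb : Q b ≠ 0),
      (QuotientGroup.mk' N) (reflG Q a ha) * (QuotientGroup.mk' N) (reflG Q b hb) =
        (QuotientGroup.mk' N) (reflG Q b hb) * (QuotientGroup.mk' N) (reflG Q a ha) := by
    intro a b ha hb
    rw [← map_mul, ← map_mul]
    apply (QuotientGroup.eq).mpr
    have h1 : (reflG Q a ha * reflG Q b hb)⁻¹ * (reflG Q b hb * reflG Q a ha) =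
        reflG Q b hb * (reflG Q a ha * reflG Q b hb * (reflG Q a ha)⁻¹) := by
      rw [_root_.mul_inv_rev, reflG_inv, reflG_inv]
      group
    rw [h1, reflG_conj]
    apply H
    rw [Q_iact]
  have hcen : ∀ g : ↥(Cfsg.isometryGroup F ⇑Q),
      (QuotientGroup.mk' N) g ∈ Subgroup.center (↥(Cfsg.isometryGroup F ⇑Q) ⧸ N) := by
    have hS : RU Q ⊤ ≤ (Subgroup.center (↥(Cfsg.isometryGroup F ⇑Q) ⧸ N)).comap
        (QuotientGroup.mk' N) := by
      unfold RU
      rw [Subgroup.closure_le]
      rintro r ⟨a, -, ha, rfl⟩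
      rw [SetLike.mem_coe, Subgroup.mem_comap, Subgroup.mem_center_iff]
      intro y
      obtain ⟨h, rfl⟩ := QuotientGroup.mk'_surjective N y
      have hS2 : RU Q ⊤ ≤ (Subgroup.centralizer
          {(QuotientGroup.mk' N) (reflG Q a ha)}).comap (QuotientGroup.mk' N) := by
        unfold RU
        rw [Subgroup.closure_le]
        rintro s ⟨b, -, hb, rfl⟩
        rw [SetLike.mem_coe, Subgroup.mem_comap, Subgroup.mem_centralizer_iff]
        intro z hz
        rw [Set.mem_singleton_iff] at hz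
        rw [hz]
        exact hrr a b ha hb
      have := hS2 (ru_top_all Q hQ hne h)
      rw [Subgroup.mem_comap, Subgroup.mem_centralizer_iff] at this
      exact (this _ rfl).symm
    intro g
    exact hS (ru_top_all Q hQ hne g)
  rw [commutator_def, Subgroup.commutator_le]
  intro g _ h _
  rw [← QuotientGroup.eq_one_iff]
  show (QuotientGroup.mk' N) ⁅g, h⁆ = 1
  rw [map_commutatorElement, commutatorElement_eq_one_iff_mul_comm]
  have := hcen h
  rw [Subgroup.mem_center_iff] at this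
  exact this _

omit [DecidableEq F] [DecidableEq ι] in
/-- a nondegenerate subspace of dimension at least two represents every nonzero value; all
characteristics. -/
theorem exists_Q_eq_in_all (Y : Submodule F (ι → F)) (hY : NondegOn Q Y)
    (hY2 : 2 ≤ finrank F Y) (c : F) (hc : c ≠ 0) : ∃ x ∈ Y, Q x = c := by
  by_cases h2 : (2 : F) = 0
  · have hYne : Y ≠ ⊥ := by
      intro h
      rw [h, finrank_bot] at hY2
      omega
    obtain ⟨x₀, hx₀Y, hx₀⟩ := exists_nonsingular Q Y hY hYne
    have hch : ringChar F = 2 := CharP.ringChar_of_prime_eq_zero Nat.prime_two h2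
    obtain ⟨t, ht⟩ := FiniteField.isSquare_of_char_two hch (c * (Q x₀)⁻¹)
    refine ⟨t • x₀, Y.smul_mem _ hx₀Y, ?_⟩
    rw [QuadraticMap.map_smul, smul_eq_mul, ← ht, mul_assoc, inv_mul_cancel₀ hx₀, mul_one]
  · exact exists_Q_eq_in Q h2 Y hY hY2 c hc

/-- Lemma L in all characteristics. -/
theorem exists_sing_polar_ne_all (hQ : (polarBilin Q).Nondegenerate)
    (X : Submodule F (ι → F)) (hX : NondegOn Q X) (hX3 : 3 ≤ finrank F X) (p : ι → F)
    (hpX : p ∈ X) (hp0 : p ≠ 0) : ∃ d ∈ X, Q d = 0 ∧ polar (⇑Q) p d ≠ 0 := by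
  by_cases h2 : (2 : F) = 0
  · by_cases hp : Q p = 0
    · obtain ⟨f, hfX, hf, hpf⟩ := exists_partner_in Q X hX p hpX hp0 hp
      exact ⟨f, hfX, hf, by rw [hpf]; exact one_ne_zero⟩
    · obtain ⟨b₀, hb₀X, hb₀⟩ := exists_polar_ne_in Q X hX p hpX hp0
      have hpb₀ : polar (⇑Q) p b₀ ≠ 0 := by rwa [polar_comm]
      obtain ⟨b, hbX, hpb⟩ : ∃ b ∈ X, polar (⇑Q) p b = 1 := by
        refine ⟨(polar (⇑Q) p b₀)⁻¹ • b₀, X.smul_mem _ hb₀X, ?_⟩
        rw [polar_smul_right, smul_eq_mul, inv_mul_cancel₀ hpb₀]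
      by_cases hb : Q b = 0
      · exact ⟨b, hbX, hb, by rw [hpb]; exact one_ne_zero⟩
      · have hYnd := planeCompl_nondeg Q h2 X hX p b hpX hbX hpb
        have hYrk := planeCompl_finrank Q h2 X p b hpX hbX hpb
        have hYne : planeCompl Q X p b ≠ ⊥ := by
          intro h
          rw [h, finrank_bot] at hYrk
          omega
        obtain ⟨z₀, hz₀Y, hz₀⟩ := exists_nonsingular Q _ hYnd hYne
        have hch : ringChar F = 2 := CharP.ringChar_of_prime_eq_zero Nat.prime_two h2
        obtain ⟨t, ht⟩ := FiniteField.isSquare_of_char_two hch (Q b * (Q z₀)⁻¹)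
        obtain ⟨hz₀X, hpz₀, hbz₀⟩ := (mem_planeCompl Q X p b z₀).mp hz₀Y
        refine ⟨b + t • z₀, X.add_mem hbX (X.smul_mem _ hz₀X), ?_, ?_⟩
        · rw [Q_add_polar, QuadraticMap.map_smul, polar_smul_right, hbz₀, smul_zero, add_zero,
            smul_eq_mul, ← ht, mul_assoc, inv_mul_cancel₀ hz₀, mul_one]
          have : Q b + Q b = 2 * Q b := by ring
          rw [this, h2, zero_mul]
        · rw [polar_add_right, polar_smul_right, hpz₀, smul_zero, add_zero, hpb]
          exact one_ne_zero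
  · exact exists_sing_polar_ne Q h2 hQ X hX hX3 p hpX hp0

/-- step 1 in all characteristics. -/
theorem Sg_step1_all (hQ : (polarBilin Q).Nondegenerate)
    (hn : 5 ≤ Fintype.card ι) (a d : ι → F) (ha : Q a ≠ 0) (hd : Q d = 0)
    (had : polar (⇑Q) a d = 0) : ∃ g ∈ Sg Q, iact g a = a + d := by
  by_cases hd0 : d = 0
  · exact ⟨1, Subgroup.one_mem _, by rw [iact_one, hd0, add_zero]⟩
  obtain ⟨f, hf, hdf⟩ := exists_hyp_pair Q hQ d hd0 hd
  have hZnd := hyp_nondeg Q ⊤ (nondegOn_top Q hQ) d f Submodule.mem_top Submodule.mem_top hd hf hdf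
  have hZrk := hyp_compl_finrank Q hQ ⊤ (nondegOn_top Q hQ) d f Submodule.mem_top
    Submodule.mem_top hd hf hdf
  rw [finrank_top, Module.finrank_fintype_fun_eq_card] at hZrk
  set a' := a - polar (⇑Q) a f • d with ha'def
  have hda : polar (⇑Q) d a = 0 := by rw [polar_comm]; exact had
  have ha'Z : a' ∈ planeCompl Q ⊤ d f := by
    rw [mem_planeCompl]
    refine ⟨Submodule.mem_top, ?_, ?_⟩
    · rw [ha'def, polar_sub_right, polar_smul_right, polar_self', hd, hda]
      simp
    · rw [ha'def, polar_sub_right, polar_smul_right, polar_comm (⇑Q) f d, hdf, polar_comm (⇑Q) f a]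
      simp
  have hQa' : Q a' = Q a := by
    have : a' = a + (-polar (⇑Q) a f) • d := by rw [ha'def, neg_smul, sub_eq_add_neg]
    rw [this, Q_add_polar, QuadraticMap.map_smul, hd, polar_smul_right, had]
    simp
  have ha'0 : a' ≠ 0 := by
    intro h
    rw [h, QuadraticMap.map_zero] at hQa'
    exact ha hQa'.symm
  obtain ⟨u, huZ, hu, ha'u⟩ := exists_sing_polar_ne_all Q hQ _ hZnd (by omega) a' ha'Z ha'0
  obtain ⟨-, hdu, -⟩ := (mem_planeCompl Q ⊤ d f u).mp huZ
  have hud : polar (⇑Q) u d = 0 := by rw [polar_comm]; exact hdu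
  have hua : polar (⇑Q) u a ≠ 0 := by
    have : polar (⇑Q) a' u = polar (⇑Q) u a := by
      rw [ha'def, polar_sub_left, polar_smul_left, hdu, smul_zero, sub_zero, polar_comm]
    rwa [this] at ha'u
  refine ⟨sieG Q u d hu hd hud (polar (⇑Q) u a)⁻¹, sieG_mem_Sg Q _ _ _ _ _ _, ?_⟩
  rw [iact_sieG, hda, zero_smul, sub_zero, smul_smul, inv_mul_cancel₀ hua, one_smul]

/-- transitivity of the Siegel group on vectors of equal nonzero norm; all characteristics. -/
theorem Sg_trans_all (hQ : (polarBilin Q).Nondegenerate)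
    (hn : 5 ≤ Fintype.card ι) (a b : ι → F) (ha : Q a ≠ 0) (hab : Q a = Q b) :
    ∃ g ∈ Sg Q, iact g a = b := by
  by_cases h2 : (2 : F) = 0
  · have two_mul_zero : ∀ x : F, 2 * x = 0 := fun x => by rw [h2, zero_mul]
    have key : ∀ a b : ι → F, Q a ≠ 0 → Q a = Q b → polar (⇑Q) a b = 0 →
        ∃ g ∈ Sg Q, iact g a = b := by
      intro a b ha hab hpab
      have h1 : Q (b - a) = 0 := by
        have : b - a = b + (-1 : F) • a := by rw [neg_one_smul, sub_eq_add_neg]
        rw [this, Q_add_polar, QuadraticMap.map_smul, polar_smul_right, polar_comm (⇑Q) b a, hpab,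
          ← hab]
        simp only [smul_eq_mul]
        linear_combination two_mul_zero (Q a)
      have h3 : polar (⇑Q) a (b - a) = 0 := by
        rw [polar_sub_right, polar_self', hpab]
        linear_combination -(two_mul_zero (Q a))
      obtain ⟨g, hg, hga⟩ := Sg_step1_all Q hQ hn a (b - a) ha h1 h3
      exact ⟨g, hg, by rw [hga]; abel⟩
    by_cases hpab : polar (⇑Q) a b = 0
    · exact key a b ha hab hpab
    · set b' := (polar (⇑Q) a b)⁻¹ • b with hb'def
      have hab' : polar (⇑Q) a b' = 1 := by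
        rw [hb'def, polar_smul_right, smul_eq_mul, inv_mul_cancel₀ hpab]
      have hYnd := planeCompl_nondeg Q h2 ⊤ (nondegOn_top Q hQ) a b' Submodule.mem_top
        Submodule.mem_top hab'
      have hYrk := planeCompl_finrank Q h2 ⊤ a b' Submodule.mem_top Submodule.mem_top hab'
      rw [finrank_top, Module.finrank_fintype_fun_eq_card] at hYrk
      obtain ⟨z, hzY, hz⟩ := exists_Q_eq_in_all Q _ hYnd (by omega) (Q a) ha
      obtain ⟨-, haz, hb'z⟩ := (mem_planeCompl Q ⊤ a b' z).mp hzY
      have hbz : polar (⇑Q) b z = 0 := by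
        have : b = polar (⇑Q) a b • b' := by
          rw [hb'def, smul_smul, mul_inv_cancel₀ hpab, one_smul]
        rw [this, polar_smul_left, hb'z, smul_zero]
      obtain ⟨g₁, hg₁, hg₁a⟩ := key a z ha hz.symm haz
      obtain ⟨g₂, hg₂, hg₂a⟩ := key z b (by rw [hz]; exact ha) (by rw [hz]; exact hab)
        (by rw [polar_comm]; exact hbz)
      exact ⟨g₂ * g₁, Subgroup.mul_mem _ hg₂ hg₁, by rw [iact_mul, hg₁a, hg₂a]⟩
  · exact Sg_trans Q h2 hQ hn a b ha hab

omit [DecidableEq F] in
/-- the commutator subgroup is contained in the Siegel group; all characteristics. -/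
theorem commutator_le_Sg_all (hQ : (polarBilin Q).Nondegenerate)
    (hn : 5 ≤ Fintype.card ι) : commutator ↥(Cfsg.isometryGroup F ⇑Q) ≤ Sg Q := by
  classical
  apply commutator_le_of_pairs_all Q hQ (Or.inr (by omega)) (Sg Q)
  intro a b ha hb hab
  obtain ⟨g, hg, hga⟩ := Sg_trans_all Q hQ hn a b ha hab
  exact refl_pair_mem_Sg Q a b ha hb g hg hga

end simpA

end Cfsg.Agent.helper13
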