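import Mathlib
import Cfsg.Agent.Lib_helper13_SimpA
import Cfsg.Agent.Lib_helper13_WittNd

/-! Products of two reflections in a plane: changing the pair of mirrors. -/

set_option autoImplicit false

namespace Cfsg.Agent.helper13

open Matrix QuadraticMap Module

section rc1
variable {F : Type*} [Field F] [Fintype F] [DecidableEq F] {ι : Type} [Fintype ι] [DecidableEq ι]
variable (Q : QuadraticForm F (ι → F))

/-- the second mirror of the new pair. -/
def mirror2 (a b : ι → F) (x y : F) : ι → F :=
  (-(y * Q b)) • a + (x * Q a + y * polar (⇑Q) a b) • b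

omit [Fintype F] [DecidableEq F] [Fintype ι] [DecidableEq ι] in
theorem Q_mirror2 (a b : ι → F) (x y : F) :
    Q (mirror2 Q a b x y) = Q a * Q b * Q (x • a + y • b) := by
  unfold mirror2
  rw [Q_comb2, Q_comb2]
  ring

omit [Fintype F] [DecidableEq F] [Fintype ι] [DecidableEq ι] in
theorem polar_comb_mirror2 (a b : ι → F) (x y : F) :
    polar (⇑Q) (x • a + y • b) (mirror2 Q a b x y) = polar (⇑Q) a b * Q (x • a + y • b) := by
  unfold mirror2
  rw [Q_comb2]
  simp only [polar_add_left, polar_add_right, polar_smul_left, polar_smul_right, smul_eq_mul,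
    polar_self']
  rw [polar_comm (⇑Q) b a]
  ring

omit [Fintype F] [DecidableEq F] in
theorem mirror_coeffs (A B β p r x y D : F) (hA : A ≠ 0) (hB : B ≠ 0) (hD0 : D ≠ 0)
    (hD : D = x * x * A + y * y * B + x * y * β) :
    A⁻¹ * (p - B⁻¹ * r * β) =
      (A * B * D)⁻¹ * (-(y * B) * p + (x * A + y * β) * r) * (-(y * B)) +
      D⁻¹ * (x * p + y * r - (A * B * D)⁻¹ * (-(y * B) * p + (x * A + y * β) * r) * (β * D)) * x ∧
    B⁻¹ * r =
      (A * B * D)⁻¹ * (-(y * B) * p + (x * A + y * β) * r) * (x * A + y * β) +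
      D⁻¹ * (x * p + y * r - (A * B * D)⁻¹ * (-(y * B) * p + (x * A + y * β) * r) * (β * D)) * y := by
  constructor
  · field_simp
    subst hD
    ring
  · field_simp
    subst hD
    ring

omit [Fintype F] [DecidableEq F] in
/-- the product of two reflections equals the product of the reflections in any nonsingular vector
of their plane and in its companion mirror. -/
theorem reflG_pair_eq (a b : ι → F) (ha : Q a ≠ 0) (hb : Q b ≠ 0) (x y : F)
    (hd : Q (x • a + y • b) ≠ 0) (he : Q (mirror2 Q a b x y) ≠ 0) :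
    reflG Q a ha * reflG Q b hb = reflG Q (x • a + y • b) hd * reflG Q (mirror2 Q a b x y) he := by
  apply iact_ext
  intro z
  rw [iact_mul, iact_mul, iact_reflG, iact_reflG, iact_reflG, iact_reflG]
  rw [polar_sub_right, polar_smul_right, polar_sub_right, polar_smul_right, polar_comb_mirror2,
    Q_mirror2]
  have hpd : polar (⇑Q) (x • a + y • b) z = x * polar (⇑Q) a z + y * polar (⇑Q) b z := by
    rw [polar_add_left, polar_smul_left, polar_smul_left]
    rfl
  have hpe : polar (⇑Q) (mirror2 Q a b x y) z =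
      (-(y * Q b)) * polar (⇑Q) a z + (x * Q a + y * polar (⇑Q) a b) * polar (⇑Q) b z := by
    unfold mirror2
    rw [polar_add_left, polar_smul_left, polar_smul_left]
    rfl
  rw [hpd, hpe]
  have key : ∀ (u v u' v' e₁ e₂ : F), v = u' * e₁ + v' * x → u = u' * e₂ + v' * y →
      z - u • b - v • a = z - u' • (e₁ • a + e₂ • b) - v' • (x • a + y • b) := by
    intro u v u' v' e₁ e₂ h1 h2
    rw [h1, h2]
    module
  obtain ⟨c1, c2⟩ := mirror_coeffs (Q a) (Q b) (polar (⇑Q) a b) (polar (⇑Q) a z) (polar (⇑Q) b z)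
    x y (Q (x • a + y • b)) ha hb hd (Q_comb2 Q x y a b)
  exact key _ _ _ _ _ _ c1 c2

end rc1

end Cfsg.Agent.helper13
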