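import Mathlib
import Cfsg.Agent.Lib_helper13_Rc1

/-! The subgroup generated by the reflections of one square class. -/

set_option autoImplicit false

namespace Cfsg.Agent.helper13

open Matrix QuadraticMap Module

section rc2
variable {F : Type*} [Field F] [Fintype F] [DecidableEq F] {ι : Type} [Fintype ι] [DecidableEq ι]
variable (Q : QuadraticForm F (ι → F))

/-- the subgroup generated by the reflections in vectors whose norm lies in `c` times the squares. -/
def Gc (c : F) : Subgroup ↥(Cfsg.isometryGroup F ⇑Q) :=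
  Subgroup.closure {g : ↥(Cfsg.isometryGroup F ⇑Q) | ∃ (v : ι → F) (t : F), t ≠ 0 ∧
    Q v = c * t ^ 2 ∧ ((g : Matrix.GeneralLinearGroup ι F) : Matrix ι ι F) =
      Cfsg.reflectionMatrix ⇑Q v}

theorem reflG_mem_Gc (c : F) (hc : c ≠ 0) (w : ι → F) (hw : Q w ≠ 0)
    (h : quadraticChar F (c * Q w) = 1) : reflG Q w hw ∈ Gc Q c := by
  apply Subgroup.subset_closure
  obtain ⟨u, hu⟩ := (quadraticChar_one_iff_isSquare (mul_ne_zero hc hw)).mp h
  have hu0 : u ≠ 0 := by
    rintro rfl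
    rw [mul_zero] at hu
    exact mul_ne_zero hc hw hu
  refine ⟨w, u / c, div_ne_zero hu0 hc, ?_, rfl⟩
  field_simp
  linear_combination hu

theorem Gc_conj (c : F) (hc : c ≠ 0) (h g : ↥(Cfsg.isometryGroup F ⇑Q)) (hg : g ∈ Gc Q c) :
    h * g * h⁻¹ ∈ Gc Q c := by
  unfold Gc at hg ⊢
  induction hg using Subgroup.closure_induction with
  | mem x hx =>
    obtain ⟨v, t, ht, hv, hx⟩ := hx
    have hv0 : Q v ≠ 0 := by
      rw [hv]
      exact mul_ne_zero hc (pow_ne_zero 2 ht)
    have hxr : x = reflG Q v hv0 := by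
      apply Subtype.ext
      apply Units.ext
      exact hx
    apply Subgroup.subset_closure
    refine ⟨iact h v, t, ht, ?_, ?_⟩
    · rw [Q_iact, hv]
    · rw [hxr, reflG_conj]
      rfl
  | one =>
    rw [mul_one, mul_inv_cancel]
    exact Subgroup.one_mem _
  | mul x y _ _ hx hy =>
    have : h * (x * y) * h⁻¹ = (h * x * h⁻¹) * (h * y * h⁻¹) := by group
    rw [this]
    exact Subgroup.mul_mem _ hx hy
  | inv x _ hx =>
    have : h * x⁻¹ * h⁻¹ = (h * x * h⁻¹)⁻¹ := by group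
    rw [this]
    exact Subgroup.inv_mem _ hx

/-- the character of the isometry group which is trivial on the reflections of the class of `c`. -/
theorem exists_char_c (h2 : (2 : F) ≠ 0) (hQ : (polarBilin Q).Nondegenerate) (c : F) (hc : c ≠ 0) :
    ∃ χ : ↥(Cfsg.isometryGroup F ⇑Q) →* ℤˣ, ∀ (w : ι → F) (hw : Q w ≠ 0),
      ((χ (reflG Q w hw) : ℤˣ) : ℤ) = quadraticChar F (c * Q w) := by
  obtain ⟨θ, hθ⟩ := exists_spinor Q h2 hQ
  obtain ⟨δ, hδ, -⟩ := exists_detSign Q h2 hQ
  rcases quadraticChar_dichotomy hc with h1 | h1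
  · refine ⟨θ, fun w hw => ?_⟩
    rw [hθ w hw, map_mul, h1, one_mul]
  · refine ⟨θ * δ, fun w hw => ?_⟩
    rw [MonoidHom.mul_apply, Units.val_mul, hθ w hw, hδ w hw, map_mul, h1]
    simp

theorem Gc_le_ker (c : F) (hc : c ≠ 0) (χ : ↥(Cfsg.isometryGroup F ⇑Q) →* ℤˣ)
    (hχ : ∀ (w : ι → F) (hw : Q w ≠ 0),
      ((χ (reflG Q w hw) : ℤˣ) : ℤ) = quadraticChar F (c * Q w)) :
    Gc Q c ≤ χ.ker := by
  unfold Gc
  rw [Subgroup.closure_le]
  rintro x ⟨v, t, ht, hv, hx⟩
  have hv0 : Q v ≠ 0 := by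
    rw [hv]
    exact mul_ne_zero hc (pow_ne_zero 2 ht)
  have hxr : x = reflG Q v hv0 := by
    apply Subtype.ext
    apply Units.ext
    exact hx
  rw [SetLike.mem_coe, MonoidHom.mem_ker]
  apply Units.ext
  rw [hxr, hχ v hv0, hv]
  have : c * (c * t ^ 2) = (c * t) ^ 2 := by ring
  rw [this, quadraticChar_sq_one' (mul_ne_zero hc ht)]
  rfl

omit [DecidableEq F] [Fintype ι] [DecidableEq ι] in
/-- a binary form of nonzero discriminant represents every nonzero value. -/
theorem exists_comb_eq (h2 : (2 : F) ≠ 0) (a b : ι → F) (ha : Q a ≠ 0)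
    (hdisc : polar (⇑Q) a b ^ 2 - 4 * Q a * Q b ≠ 0) (c : F) :
    ∃ x y : F, Q (x • a + y • b) = c := by
  have h4 : (4 : F) ≠ 0 := by
    have : (4 : F) = 2 * 2 := by norm_num
    rw [this]
    exact mul_ne_zero h2 h2
  obtain ⟨D, hD⟩ : ∃ D : F, D = (4 * Q a * Q b - polar (⇑Q) a b ^ 2) / (4 * Q a) := ⟨_, rfl⟩
  have hD0 : D ≠ 0 := by
    rw [hD]
    apply div_ne_zero
    · intro h
      apply hdisc
      linear_combination -h
    · exact mul_ne_zero h4 ha
  have hcard : Fintype.card F % 2 = 1 := by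
    apply FiniteField.odd_card_of_char_ne_two
    intro hch
    haveI : CharP F 2 := ringChar.of_eq hch
    apply h2
    have := CharP.cast_eq_zero F 2
    exact_mod_cast this
  have hf2 : (Polynomial.C (Q a) * Polynomial.X ^ 2 : Polynomial F).degree = 2 := by
    rw [Polynomial.degree_C_mul_X_pow 2 ha]; rfl
  have hg2 : (Polynomial.C D * Polynomial.X ^ 2 + Polynomial.C (-c) : Polynomial F).degree = 2 := by
    rw [Polynomial.degree_add_C, Polynomial.degree_C_mul_X_pow 2 hD0]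
    · rfl
    · rw [Polynomial.degree_C_mul_X_pow 2 hD0]; decide
  obtain ⟨s, t, hst⟩ := FiniteField.exists_root_sum_quadratic hf2 hg2 hcard
  simp only [Polynomial.eval_add, Polynomial.eval_mul, Polynomial.eval_C, Polynomial.eval_pow,
    Polynomial.eval_X] at hst
  refine ⟨s - polar (⇑Q) a b * t / (2 * Q a), t, ?_⟩
  rw [Q_comb2]
  have h2a : (2 * Q a) ≠ 0 := mul_ne_zero h2 ha
  have e : (s - polar (⇑Q) a b * t / (2 * Q a)) * (s - polar (⇑Q) a b * t / (2 * Q a)) * Q a +
      t * t * Q b + (s - polar (⇑Q) a b * t / (2 * Q a)) * t * polar (⇑Q) a b =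
      Q a * s ^ 2 + D * t ^ 2 := by
    rw [hD]
    field_simp
    ring
  rw [e]
  linear_combination hst

/-- two reflections of the other class whose mirrors span a nondegenerate plane: their product lies in
the subgroup. -/
theorem pair_mem_Gc (h2 : (2 : F) ≠ 0) (c : F) (hc : c ≠ 0) (a b : ι → F) (ha : Q a ≠ 0)
    (hb : Q b ≠ 0) (hca : quadraticChar F (c * Q a) = -1) (hcb : quadraticChar F (c * Q b) = -1)
    (hdisc : polar (⇑Q) a b ^ 2 - 4 * Q a * Q b ≠ 0) :
    reflG Q a ha * reflG Q b hb ∈ Gc Q c := by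
  obtain ⟨x, y, hxy⟩ := exists_comb_eq Q h2 a b ha hdisc c
  have hd : Q (x • a + y • b) ≠ 0 := by rw [hxy]; exact hc
  have he : Q (mirror2 Q a b x y) ≠ 0 := by
    rw [Q_mirror2]
    exact mul_ne_zero (mul_ne_zero ha hb) hd
  rw [reflG_pair_eq Q a b ha hb x y hd he]
  apply Subgroup.mul_mem
  · apply reflG_mem_Gc Q c hc
    rw [hxy, ← pow_two, quadraticChar_sq_one' hc]
  · apply reflG_mem_Gc Q c hc
    rw [Q_mirror2, hxy]
    have : c * (Q a * Q b * c) = (c * Q a) * (c * Q b) := by ring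
    rw [this, map_mul, hca, hcb]
    norm_num

end rc2

end Cfsg.Agent.helper13
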