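import Mathlib
import Cfsg.Agent.Lib_helper13_Rc2

/-! Connecting pairs of mirrors spanning a degenerate plane, and the index of the subgroup. -/

set_option autoImplicit false

namespace Cfsg.Agent.helper13

open Matrix QuadraticMap Module

section rc3
variable {F : Type*} [Field F] [Fintype F] [DecidableEq F] {ι : Type} [Fintype ι] [DecidableEq ι]
variable (Q : QuadraticForm F (ι → F))

omit [DecidableEq F] in
/-- over a field with at least five elements there is a nonzero element whose square avoids a given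
value. -/
theorem exists_sq_ne (hF : 5 ≤ Fintype.card F) (k : F) : ∃ μ : F, μ ≠ 0 ∧ μ ^ 2 ≠ k := by
  classical
  by_contra hcon
  push Not at hcon
  have h1 : (1 : F) ^ 2 = k := hcon 1 one_ne_zero
  have hsub : (Finset.univ : Finset F) ⊆ {0, 1, -1} := by
    intro μ _
    by_cases hμ : μ = 0
    · rw [hμ]; simp
    · have := hcon μ hμ
      rw [← h1] at this
      have h3 : (μ - 1) * (μ + 1) = 0 := by linear_combination this
      rcases mul_eq_zero.mp h3 with h | h
      · have : μ = 1 := by linear_combination h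
        rw [this]; simp
      · have : μ = -1 := by linear_combination h
        rw [this]; simp
  have := Finset.card_le_card hsub
  rw [Finset.card_univ] at this
  have h3 : ({0, 1, -1} : Finset F).card ≤ 3 := Finset.card_le_three
  omega

omit [Fintype F] [DecidableEq F] in
theorem nondegOn_span_singleton (h2 : (2 : F) ≠ 0) (a : ι → F) (ha : Q a ≠ 0) :
    NondegOn Q (Submodule.span F {a}) := by
  intro x hx hall
  obtain ⟨k, rfl⟩ := Submodule.mem_span_singleton.mp hx
  have := hall a (Submodule.mem_span_singleton_self a)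
  rw [polar_smul_right, polar_self', smul_eq_mul] at this
  have hk : k = 0 := by
    rcases mul_eq_zero.mp this with h | h
    · exact h
    · exact absurd h (mul_ne_zero h2 ha)
  rw [hk, zero_smul]

/-- an intermediate mirror for two mirrors spanning a degenerate plane. -/
theorem exists_mid (h2 : (2 : F) ≠ 0) (hQ : (polarBilin Q).Nondegenerate)
    (hcase : 5 ≤ Fintype.card F ∨ 5 ≤ Fintype.card ι)
    (a b : ι → F) (ha : Q a ≠ 0) (hb : Q b ≠ 0) (z : ι → F) (hz0 : z ≠ 0) (hQz : Q z = 0)
    (haz : polar (⇑Q) a z = 0) (hzdef : z = polar (⇑Q) a b • a - (2 * Q a) • b) :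
    ∃ y : ι → F, Q y = Q a ∧ polar (⇑Q) a y = 0 ∧ polar (⇑Q) b y ^ 2 ≠ 4 * Q a * Q b := by
  have h2a : (2 * Q a) ≠ 0 := mul_ne_zero h2 ha
  have h4 : (4 : F) ≠ 0 := by
    have : (4 : F) = 2 * 2 := by norm_num
    rw [this]
    exact mul_ne_zero h2 h2
  obtain ⟨X, hXdef⟩ : ∃ X, X = orthQ Q (Submodule.span F {a}) := ⟨_, rfl⟩
  have hX : NondegOn Q X := by
    rw [hXdef]
    exact nondegOn_orth Q hQ _ (nondegOn_span_singleton Q h2 a ha)
  have hzX : z ∈ X := by
    rw [hXdef, mem_orth_singleton_iff]
    exact haz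
  obtain ⟨z', hz'X, hQz', hzz'⟩ := exists_partner_in Q X hX z hzX hz0 hQz
  have haz' : polar (⇑Q) a z' = 0 := by
    rw [hXdef, mem_orth_singleton_iff] at hz'X
    exact hz'X
  -- the polar of `b` with a vector orthogonal to `a`
  have hby : ∀ y : ι → F, polar (⇑Q) a y = 0 → polar (⇑Q) z y = -(2 * Q a) * polar (⇑Q) b y := by
    intro y hy
    rw [hzdef, polar_sub_left, polar_smul_left, polar_smul_left, hy]
    simp only [smul_eq_mul]
    ring
  rcases hcase with hF | hι
  · obtain ⟨μ, hμ0, hμ⟩ := exists_sq_ne hF (16 * Q a ^ 3 * Q b)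
    refine ⟨(Q a / μ) • z + μ • z', ?_, ?_, ?_⟩
    · rw [Q_comb2, hQz, hQz', hzz']
      field_simp
      ring
    · rw [polar_add_right, polar_smul_right, polar_smul_right, haz, haz']
      simp
    · have hay : polar (⇑Q) a ((Q a / μ) • z + μ • z') = 0 := by
        rw [polar_add_right, polar_smul_right, polar_smul_right, haz, haz']
        simp
      have h1 := hby _ hay
      rw [polar_add_right, polar_smul_right, polar_smul_right, polar_self', hQz, hzz'] at h1
      simp only [smul_eq_mul, mul_zero, mul_one, zero_add] at h1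
      obtain ⟨P, hP⟩ : ∃ P : F, P = polar (⇑Q) b ((Q a / μ) • z + μ • z') := ⟨_, rfl⟩
      rw [← hP] at h1 ⊢
      intro hcon
      apply hμ
      have h3 : μ ^ 2 = (2 * Q a) ^ 2 * P ^ 2 := by
        rw [h1]
        ring
      rw [h3, hcon]
      ring
  · obtain ⟨Y, hYdef⟩ : ∃ Y, Y = planeCompl Q X z z' := ⟨_, rfl⟩
    have hY : NondegOn Q Y := by
      rw [hYdef]
      exact hyp_nondeg Q X hX z z' hzX hz'X hQz hQz' hzz'
    have ha0 : a ≠ 0 := by
      rintro rfl
      exact ha (QuadraticMap.map_zero Q)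
    have hXrk : finrank F X = Fintype.card ι - 1 := by
      rw [hXdef, orthQ, LinearMap.BilinForm.finrank_orthogonal hQ, Module.finrank_fintype_fun_eq_card,
        finrank_span_singleton ha0]
    have hYrk : 2 ≤ finrank F Y := by
      have h1 := finrank_inf_orth_singleton Q hQ X z
      have h3 := finrank_inf_orth_singleton Q hQ (X ⊓ orthQ Q (Submodule.span F {z})) z'
      have e : Y = X ⊓ orthQ Q (Submodule.span F {z}) ⊓ orthQ Q (Submodule.span F {z'}) := by
        rw [hYdef]
        rfl
      rw [e]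
      omega
    obtain ⟨y, hyY, hQy⟩ := exists_Q_eq_in_all Q Y hY hYrk (Q a) ha
    rw [hYdef, mem_planeCompl] at hyY
    obtain ⟨hyX, hzy, -⟩ := hyY
    have hay : polar (⇑Q) a y = 0 := by
      rw [hXdef, mem_orth_singleton_iff] at hyX
      exact hyX
    refine ⟨y, hQy, hay, ?_⟩
    have h1 := hby y hay
    rw [hzy] at h1
    have h3 : polar (⇑Q) b y = 0 := by
      rcases mul_eq_zero.mp h1.symm with h | h
      · exact absurd h (neg_ne_zero.mpr h2a)
      · exact h
    rw [h3]
    intro hcon
    have : (4 : F) * Q a * Q b ≠ 0 := mul_ne_zero (mul_ne_zero h4 ha) hb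
    apply this
    rw [← hcon]
    ring

end rc3

end Cfsg.Agent.helper13
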