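import Mathlib
import Cfsg.Agent.Lib_helper13_Rc3

/-! The reflections of one square class generate a subgroup of index two. -/

set_option autoImplicit false

namespace Cfsg.Agent.helper13

open Matrix QuadraticMap Module

section rc4
variable {F : Type*} [Field F] [Fintype F] [DecidableEq F] {ι : Type} [Fintype ι] [DecidableEq ι]
variable (Q : QuadraticForm F (ι → F))

/-- any two reflections of the other class are congruent modulo the subgroup. -/
theorem conn_mem_Gc (h2 : (2 : F) ≠ 0) (hQ : (polarBilin Q).Nondegenerate)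
    (hcase : Fintype.card ι = 2 ∨ 5 ≤ Fintype.card F ∨ 5 ≤ Fintype.card ι)
    (c : F) (hc : c ≠ 0) (a b : ι → F) (ha : Q a ≠ 0) (hb : Q b ≠ 0)
    (hca : quadraticChar F (c * Q a) = -1) (hcb : quadraticChar F (c * Q b) = -1) :
    reflG Q a ha * reflG Q b hb ∈ Gc Q c := by
  have h2a : (2 * Q a) ≠ 0 := mul_ne_zero h2 ha
  have h4 : (4 : F) ≠ 0 := by
    have : (4 : F) = 2 * 2 := by norm_num
    rw [this]
    exact mul_ne_zero h2 h2
  by_cases hdisc : polar (⇑Q) a b ^ 2 - 4 * Q a * Q b ≠ 0
  · exact pair_mem_Gc Q h2 c hc a b ha hb hca hcb hdisc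
  push Not at hdisc
  obtain ⟨z, hzdef⟩ : ∃ z, z = polar (⇑Q) a b • a - (2 * Q a) • b := ⟨_, rfl⟩
  have hQz : Q z = 0 := by
    rw [hzdef, sub_eq_add_neg, ← neg_smul, Q_comb2]
    linear_combination (-(Q a)) * hdisc
  have haz : polar (⇑Q) a z = 0 := by
    rw [hzdef, polar_sub_right, polar_smul_right, polar_smul_right, polar_self']
    simp only [smul_eq_mul]
    ring
  by_cases hz0 : z = 0
  · have hβ : polar (⇑Q) a b ≠ 0 := by
      intro h
      rw [h] at hdisc
      have : (4 : F) * Q a * Q b ≠ 0 := mul_ne_zero (mul_ne_zero h4 ha) hb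
      apply this
      linear_combination -hdisc
    have hb' : b = (polar (⇑Q) a b / (2 * Q a)) • a := by
      have e : (2 * Q a) • b = polar (⇑Q) a b • a := by
        rw [hz0] at hzdef
        exact (sub_eq_zero.mp hzdef.symm).symm
      rw [div_eq_inv_mul, mul_smul, ← e, smul_smul, inv_mul_cancel₀ h2a, one_smul]
    have key : ∀ (t : F) (b' : ι → F) (hb' : Q b' ≠ 0), t ≠ 0 → b' = t • a →
        reflG Q b' hb' = reflG Q a ha := by
      intro t b' hb' ht e
      subst e
      exact reflG_smul Q a ha t ht hb'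
    rw [key _ b hb (div_ne_zero hβ h2a) hb', reflG_mul_self]
    exact Subgroup.one_mem _
  · rcases hcase with h2card | hcase'
    · exfalso
      have hrk : finrank F ↥(orthQ Q (Submodule.span F {z})) = 1 := by
        rw [orthQ, LinearMap.BilinForm.finrank_orthogonal hQ, Module.finrank_fintype_fun_eq_card,
          finrank_span_singleton hz0, h2card]
      have hz_mem : z ∈ orthQ Q (Submodule.span F {z}) := by
        rw [mem_orth_singleton_iff, polar_self', hQz, mul_zero]
      have ha_mem : a ∈ orthQ Q (Submodule.span F {z}) := by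
        rw [mem_orth_singleton_iff, polar_comm]
        exact haz
      have hzne : (⟨z, hz_mem⟩ : ↥(orthQ Q (Submodule.span F {z}))) ≠ 0 := by
        intro h
        exact hz0 (congrArg Subtype.val h)
      obtain ⟨k, hk⟩ := (finrank_eq_one_iff_of_nonzero' _ hzne).mp hrk ⟨a, ha_mem⟩
      have hk' : k • z = a := congrArg Subtype.val hk
      apply ha
      rw [← hk', QuadraticMap.map_smul, hQz, smul_zero]
    · obtain ⟨y, hQy, hay, hby⟩ := exists_mid Q h2 hQ hcase' a b ha hb z hz0 hQz haz hzdef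
      have hy : Q y ≠ 0 := by rw [hQy]; exact ha
      have hcy : quadraticChar F (c * Q y) = -1 := by rw [hQy]; exact hca
      have e : reflG Q a ha * reflG Q b hb =
          (reflG Q a ha * reflG Q y hy) * (reflG Q y hy * reflG Q b hb) := by
        rw [mul_assoc, ← mul_assoc (reflG Q y hy), reflG_mul_self, one_mul]
      rw [e]
      apply Subgroup.mul_mem
      · apply pair_mem_Gc Q h2 c hc a y ha hy hca hcy
        rw [hay, hQy]
        intro h
        have : (4 : F) * Q a * Q a ≠ 0 := mul_ne_zero (mul_ne_zero h4 ha) ha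
        apply this
        linear_combination -h
      · apply pair_mem_Gc Q h2 c hc y b hy hb hcy hcb
        rw [polar_comm, hQy]
        intro h
        apply hby
        linear_combination h

/-- the reflections of one square class generate a subgroup of index two. -/
theorem index_Gc (h2 : (2 : F) ≠ 0) (hQ : (polarBilin Q).Nondegenerate)
    (hn : 2 ≤ Fintype.card ι)
    (hcase : Fintype.card ι = 2 ∨ 5 ≤ Fintype.card F ∨ 5 ≤ Fintype.card ι)
    (c : F) (hc : c ≠ 0) : (Gc Q c).index = 2 := by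
  obtain ⟨χ, hχ⟩ := exists_char_c Q h2 hQ c hc
  obtain ⟨ν, hν⟩ := FiniteField.exists_nonsquare (ringChar_ne_two_of (F := F) h2)
  have hν0 : ν ≠ 0 := by
    rintro rfl
    exact hν ⟨0, by ring⟩
  obtain ⟨w₀, hw₀⟩ := exists_Q_eq Q h2 hQ hn (c * ν) (mul_ne_zero hc hν0)
  have hw₀0 : Q w₀ ≠ 0 := by rw [hw₀]; exact mul_ne_zero hc hν0
  have hcw₀ : quadraticChar F (c * Q w₀) = -1 := by
    rw [hw₀]
    have : c * (c * ν) = c ^ 2 * ν := by ring
    rw [this, map_mul, quadraticChar_sq_one' hc, one_mul]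
    exact quadraticChar_neg_one_iff_not_isSquare.mpr hν
  obtain ⟨r₀, hr₀def⟩ : ∃ r₀, r₀ = reflG Q w₀ hw₀0 := ⟨_, rfl⟩
  have hr : r₀ * r₀ = 1 := by rw [hr₀def]; exact reflG_mul_self Q w₀ hw₀0
  have hri : r₀⁻¹ = r₀ := by rw [hr₀def]; exact reflG_inv Q w₀ hw₀0
  have hχr₀ : χ r₀ = -1 := by
    apply Units.ext
    rw [hr₀def, hχ, hcw₀]
    rfl
  have hle := Gc_le_ker Q c hc χ hχ
  have hall : ∀ g : ↥(Cfsg.isometryGroup F ⇑Q), g ∈ Gc Q c ∨ g * r₀ ∈ Gc Q c := by
    intro g
    have hg := cartan_dieudonne Q h2 hQ g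
    unfold RU at hg
    induction hg using Subgroup.closure_induction with
    | mem x hx =>
      obtain ⟨w, -, hw, rfl⟩ := hx
      rcases quadraticChar_dichotomy (mul_ne_zero hc hw) with h1 | h1
      · exact Or.inl (reflG_mem_Gc Q c hc w hw h1)
      · right
        rw [hr₀def]
        exact conn_mem_Gc Q h2 hQ hcase c hc w w₀ hw hw₀0 h1 hcw₀
    | one => exact Or.inl (Subgroup.one_mem _)
    | mul x y _ _ hx hy =>
      rcases hx with hx | hx <;> rcases hy with hy | hy
      · exact Or.inl (Subgroup.mul_mem _ hx hy)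
      · right
        rw [mul_assoc]
        exact Subgroup.mul_mem _ hx hy
      · right
        have e : x * y * r₀ = (x * r₀) * (r₀⁻¹ * y * r₀⁻¹⁻¹) := by group
        rw [e]
        exact Subgroup.mul_mem _ hx (Gc_conj Q c hc r₀⁻¹ y hy)
      · left
        have e1 : r₀ * y = r₀ * (y * r₀) * r₀⁻¹ := by group
        have e2 : x * y = (x * r₀) * (r₀ * y) := by
          rw [mul_assoc, ← mul_assoc r₀ r₀ y, hr, one_mul]
        rw [e2, e1]
        exact Subgroup.mul_mem _ hx (Gc_conj Q c hc r₀ (y * r₀) hy)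
    | inv x _ hx =>
      rcases hx with hx | hx
      · exact Or.inl (Subgroup.inv_mem _ hx)
      · right
        have e : x⁻¹ * r₀ = r₀ * (x * r₀)⁻¹ * r₀⁻¹ := by
          have : x⁻¹ * r₀ = x⁻¹ * r₀⁻¹ := by rw [hri]
          rw [this]
          group
        rw [e]
        exact Gc_conj Q c hc r₀ _ (Subgroup.inv_mem _ hx)
  have heq : Gc Q c = χ.ker := by
    apply le_antisymm hle
    intro g hg
    rcases hall g with h | h
    · exact h
    · exfalso
      have h1 := hle h
      rw [MonoidHom.mem_ker, map_mul, MonoidHom.mem_ker.mp hg, hχr₀, one_mul] at h1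
      exact absurd h1 (by decide)
  rw [heq]
  exact index_ker_of_neg_one χ r₀ hχr₀

end rc4

end Cfsg.Agent.helper13
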