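import Mathlib
import Cfsg.Agent.Lib_helper13_Rc4

/-! Representing values by a quadratic form inside a nondegenerate subspace, odd characteristic. -/

set_option autoImplicit false

namespace Cfsg.Agent.helper13

open Matrix QuadraticMap Module

section nd1
variable {F : Type*} [Field F] [Fintype F] {ι : Type} [Fintype ι] [DecidableEq ι]
variable (Q : QuadraticForm F (ι → F))

omit [Fintype F] in
/-- a subspace of more than half the dimension of a nondegenerate subspace has a nonsingular vector. -/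
theorem exists_nonsing_of_finrank (hQ : (polarBilin Q).Nondegenerate)
    (X : Submodule F (ι → F)) (hX : NondegOn Q X) (M : Submodule F (ι → F)) (hMX : M ≤ X)
    (h : finrank F X < 2 * finrank F M) : ∃ y ∈ M, Q y ≠ 0 := by
  by_contra hcon
  push Not at hcon
  have hle : M ≤ X ⊓ orthQ Q M := by
    intro u hu
    refine Submodule.mem_inf.mpr ⟨hMX hu, ?_⟩
    rw [mem_orth_iff]
    intro v hv
    unfold polar
    rw [hcon _ (M.add_mem hv hu), hcon v hv, hcon u hu]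
    ring
  have h1 := finrank_inf_orth_of_le Q hQ X hX M hMX
  have h3 := Submodule.finrank_mono hle
  omega

omit [Fintype F] in
theorem exists_orth_pair (hQ : (polarBilin Q).Nondegenerate)
    (X : Submodule F (ι → F)) (hX : NondegOn Q X) (M : Submodule F (ι → F)) (hMX : M ≤ X)
    (h : finrank F X + 2 < 2 * finrank F M) :
    ∃ y₁ ∈ M, ∃ y₂ ∈ M, Q y₁ ≠ 0 ∧ Q y₂ ≠ 0 ∧ polar (⇑Q) y₁ y₂ = 0 := by
  obtain ⟨y₁, hy₁M, hy₁⟩ := exists_nonsing_of_finrank Q hQ X hX M hMX (by omega)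
  have h1 := finrank_inf_orth_singleton Q hQ M y₁
  obtain ⟨y₂, hy₂M, hy₂⟩ := exists_nonsing_of_finrank Q hQ X hX
    (M ⊓ orthQ Q (Submodule.span F {y₁})) (le_trans inf_le_left hMX) (by omega)
  obtain ⟨hy₂M', hy₂o⟩ := Submodule.mem_inf.mp hy₂M
  rw [mem_orth_singleton_iff] at hy₂o
  exact ⟨y₁, hy₁M, y₂, hy₂M', hy₁, hy₂, hy₂o⟩

omit [Fintype F] in
theorem exists_orth_triple (hQ : (polarBilin Q).Nondegenerate)
    (X : Submodule F (ι → F)) (hX : NondegOn Q X) (M : Submodule F (ι → F)) (hMX : M ≤ X)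
    (h : finrank F X + 4 < 2 * finrank F M) :
    ∃ y₁ ∈ M, ∃ y₂ ∈ M, ∃ y₃ ∈ M, Q y₁ ≠ 0 ∧ Q y₂ ≠ 0 ∧ Q y₃ ≠ 0 ∧ polar (⇑Q) y₁ y₂ = 0 ∧
      polar (⇑Q) y₁ y₃ = 0 ∧ polar (⇑Q) y₂ y₃ = 0 := by
  obtain ⟨y₃, hy₃M, hy₃⟩ := exists_nonsing_of_finrank Q hQ X hX M hMX (by omega)
  have h1 := finrank_inf_orth_singleton Q hQ M y₃
  obtain ⟨y₁, hy₁M, y₂, hy₂M, hy₁, hy₂, h12⟩ := exists_orth_pair Q hQ X hX
    (M ⊓ orthQ Q (Submodule.span F {y₃})) (le_trans inf_le_left hMX) (by omega)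
  obtain ⟨hy₁M', hy₁o⟩ := Submodule.mem_inf.mp hy₁M
  obtain ⟨hy₂M', hy₂o⟩ := Submodule.mem_inf.mp hy₂M
  rw [mem_orth_singleton_iff] at hy₁o hy₂o
  refine ⟨y₁, hy₁M', y₂, hy₂M', y₃, hy₃M, hy₁, hy₂, hy₃, h12, ?_, ?_⟩
  · rw [polar_comm]; exact hy₁o
  · rw [polar_comm]; exact hy₂o

/-- every value is represented in a large subspace of a nondegenerate subspace. -/
theorem exists_rep (h2 : (2 : F) ≠ 0) (hQ : (polarBilin Q).Nondegenerate)
    (X : Submodule F (ι → F)) (hX : NondegOn Q X) (M : Submodule F (ι → F)) (hMX : M ≤ X)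
    (h : finrank F X + 2 < 2 * finrank F M) (c : F) : ∃ y ∈ M, Q y = c := by
  obtain ⟨y₁, hy₁M, y₂, hy₂M, hy₁, hy₂, h12⟩ := exists_orth_pair Q hQ X hX M hMX h
  have h4 : (4 : F) ≠ 0 := by
    have : (4 : F) = 2 * 2 := by norm_num
    rw [this]
    exact mul_ne_zero h2 h2
  have hdisc : polar (⇑Q) y₁ y₂ ^ 2 - 4 * Q y₁ * Q y₂ ≠ 0 := by
    rw [h12]
    intro h0
    have : (4 : F) * Q y₁ * Q y₂ ≠ 0 := mul_ne_zero (mul_ne_zero h4 hy₁) hy₂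
    apply this
    linear_combination -h0
  obtain ⟨x, y, hxy⟩ := exists_comb_eq Q h2 y₁ y₂ hy₁ hdisc c
  exact ⟨x • y₁ + y • y₂, M.add_mem (M.smul_mem _ hy₁M) (M.smul_mem _ hy₂M), hxy⟩

/-- every value is represented by a nonzero vector. -/
theorem exists_rep_ne (h2 : (2 : F) ≠ 0) (hQ : (polarBilin Q).Nondegenerate)
    (X : Submodule F (ι → F)) (hX : NondegOn Q X) (M : Submodule F (ι → F)) (hMX : M ≤ X)
    (h : finrank F X + 4 < 2 * finrank F M) (c : F) : ∃ y ∈ M, y ≠ 0 ∧ Q y = c := by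
  obtain ⟨y₁, hy₁M, y₂, hy₂M, y₃, hy₃M, hy₁, hy₂, hy₃, h12, h13, h23⟩ :=
    exists_orth_triple Q hQ X hX M hMX h
  have h4 : (4 : F) ≠ 0 := by
    have : (4 : F) = 2 * 2 := by norm_num
    rw [this]
    exact mul_ne_zero h2 h2
  have hdisc : polar (⇑Q) y₁ y₂ ^ 2 - 4 * Q y₁ * Q y₂ ≠ 0 := by
    rw [h12]
    intro h0
    have : (4 : F) * Q y₁ * Q y₂ ≠ 0 := mul_ne_zero (mul_ne_zero h4 hy₁) hy₂
    apply this
    linear_combination -h0
  obtain ⟨x, y, hxy⟩ := exists_comb_eq Q h2 y₁ y₂ hy₁ hdisc (c - Q y₃)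
  have hp : polar (⇑Q) (x • y₁ + y • y₂) y₃ = 0 := by
    rw [polar_add_left, polar_smul_left, polar_smul_left, h13, h23]
    simp
  refine ⟨(x • y₁ + y • y₂) + y₃,
    M.add_mem (M.add_mem (M.smul_mem _ hy₁M) (M.smul_mem _ hy₂M)) hy₃M, ?_, ?_⟩
  · intro h0
    have h5 : polar (⇑Q) ((x • y₁ + y • y₂) + y₃) y₃ = 0 := by
      rw [h0]
      unfold polar
      simp
    rw [polar_add_left, hp, polar_self', zero_add] at h5
    exact mul_ne_zero h2 hy₃ h5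
  · rw [Q_add_polar, hxy, hp]
    ring

omit [Fintype F] in
/-- a vector of the subspace orthogonal to `z₂` but not to `z₁`. -/
theorem exists_sep_in (hQ : (polarBilin Q).Nondegenerate)
    (X : Submodule F (ι → F)) (hX : NondegOn Q X) (z₁ z₂ : ι → F) (hz₁ : z₁ ∈ X) (hz₂ : z₂ ∈ X)
    (hind : ∀ t : F, z₁ ≠ t • z₂) :
    ∃ p ∈ X, polar (⇑Q) z₂ p = 0 ∧ polar (⇑Q) z₁ p ≠ 0 := by
  by_contra hcon
  push Not at hcon
  have h1 : z₁ ∈ orthQ Q (X ⊓ orthQ Q (Submodule.span F {z₂})) := by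
    rw [mem_orth_iff]
    intro u hu
    obtain ⟨huX, huo⟩ := Submodule.mem_inf.mp hu
    rw [mem_orth_singleton_iff] at huo
    rw [polar_comm]
    exact hcon u huX huo
  have e : X ⊓ orthQ Q (Submodule.span F {z₂}) =
      orthQ Q (orthQ Q X ⊔ Submodule.span F {z₂}) := by
    rw [orth_sup, orth_orth Q hQ]
  rw [e, orth_orth Q hQ] at h1
  obtain ⟨x', hx', y', hy', hsum⟩ := Submodule.mem_sup.mp h1
  obtain ⟨t, rfl⟩ := Submodule.mem_span_singleton.mp hy'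
  have hx'X : x' ∈ X := by
    have : x' = z₁ - t • z₂ := by rw [← hsum]; abel
    rw [this]
    exact X.sub_mem hz₁ (X.smul_mem _ hz₂)
  have h0 : x' ∈ X ⊓ orthQ Q X := Submodule.mem_inf.mpr ⟨hx'X, hx'⟩
  rw [inf_orth_self_eq_bot Q X hX, Submodule.mem_bot] at h0
  apply hind t
  rw [← hsum, h0, zero_add]

/-- two linear conditions and a prescribed norm can be met in a nondegenerate subspace of dimension at
least seven. -/
theorem exists_E2 (h2 : (2 : F) ≠ 0) (hQ : (polarBilin Q).Nondegenerate)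
    (X : Submodule F (ι → F)) (hX : NondegOn Q X) (h7 : 7 ≤ finrank F X)
    (z₁ z₂ : ι → F) (hz₁ : z₁ ∈ X) (hz₂ : z₂ ∈ X)
    (hind₁ : ∀ t : F, z₁ ≠ t • z₂) (hind₂ : ∀ t : F, z₂ ≠ t • z₁) (β₁ β₂ c : F) :
    ∃ u ∈ X, polar (⇑Q) z₁ u = β₁ ∧ polar (⇑Q) z₂ u = β₂ ∧ Q u = c := by
  obtain ⟨p₁, hp₁X, hp₁o, hp₁⟩ := exists_sep_in Q hQ X hX z₁ z₂ hz₁ hz₂ hind₁
  obtain ⟨p₂, hp₂X, hp₂o, hp₂⟩ := exists_sep_in Q hQ X hX z₂ z₁ hz₂ hz₁ hind₂
  obtain ⟨u₀, hu₀def⟩ : ∃ u₀, u₀ = (β₁ / polar (⇑Q) z₁ p₁) • p₁ + (β₂ / polar (⇑Q) z₂ p₂) • p₂ :=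
    ⟨_, rfl⟩
  have hu₀X : u₀ ∈ X := by
    rw [hu₀def]
    exact X.add_mem (X.smul_mem _ hp₁X) (X.smul_mem _ hp₂X)
  have hu₀1 : polar (⇑Q) z₁ u₀ = β₁ := by
    rw [hu₀def, polar_add_right, polar_smul_right, polar_smul_right, hp₂o, smul_zero, add_zero,
      smul_eq_mul, div_mul_cancel₀ _ hp₁]
  have hu₀2 : polar (⇑Q) z₂ u₀ = β₂ := by
    rw [hu₀def, polar_add_right, polar_smul_right, polar_smul_right, hp₁o, smul_zero, zero_add,
      smul_eq_mul, div_mul_cancel₀ _ hp₂]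
  obtain ⟨M, hMdef⟩ : ∃ M, M = planeCompl Q X z₁ z₂ := ⟨_, rfl⟩
  have hMX : M ≤ X := by rw [hMdef]; exact planeCompl_le Q X z₁ z₂
  have hMrk : finrank F X ≤ finrank F M + 2 := by
    have h1 := finrank_inf_orth_singleton Q hQ X z₁
    have h3 := finrank_inf_orth_singleton Q hQ (X ⊓ orthQ Q (Submodule.span F {z₁})) z₂
    have e : M = X ⊓ orthQ Q (Submodule.span F {z₁}) ⊓ orthQ Q (Submodule.span F {z₂}) := by
      rw [hMdef]
      rfl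
    rw [e]
    omega
  obtain ⟨y₁, hy₁M, y₂, hy₂M, hy₁, hy₂, h12⟩ := exists_orth_pair Q hQ X hX M hMX (by omega)
  rw [hMdef, mem_planeCompl] at hy₁M hy₂M
  obtain ⟨hy₁X, h1y₁, h2y₁⟩ := hy₁M
  obtain ⟨hy₂X, h1y₂, h2y₂⟩ := hy₂M
  have h2y₁' : (2 * Q y₁) ≠ 0 := mul_ne_zero h2 hy₁
  have h2y₂' : (2 * Q y₂) ≠ 0 := mul_ne_zero h2 hy₂
  obtain ⟨u₁, hu₁def⟩ : ∃ u₁, u₁ = u₀ - (polar (⇑Q) u₀ y₁ / (2 * Q y₁)) • y₁ -
      (polar (⇑Q) u₀ y₂ / (2 * Q y₂)) • y₂ := ⟨_, rfl⟩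
  have hu₁X : u₁ ∈ X := by
    rw [hu₁def]
    exact X.sub_mem (X.sub_mem hu₀X (X.smul_mem _ hy₁X)) (X.smul_mem _ hy₂X)
  have hu₁1 : polar (⇑Q) z₁ u₁ = β₁ := by
    rw [hu₁def, polar_sub_right, polar_sub_right, polar_smul_right, polar_smul_right, h1y₁, h1y₂,
      hu₀1]
    simp
  have hu₁2 : polar (⇑Q) z₂ u₁ = β₂ := by
    rw [hu₁def, polar_sub_right, polar_sub_right, polar_smul_right, polar_smul_right, h2y₁, h2y₂,
      hu₀2]
    simp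
  have hu₁y₁ : polar (⇑Q) u₁ y₁ = 0 := by
    rw [hu₁def, polar_sub_left, polar_sub_left, polar_smul_left, polar_smul_left, polar_self',
      polar_comm (⇑Q) y₂ y₁, h12, smul_eq_mul, smul_eq_mul, div_mul_cancel₀ _ h2y₁']
    ring
  have hu₁y₂ : polar (⇑Q) u₁ y₂ = 0 := by
    rw [hu₁def, polar_sub_left, polar_sub_left, polar_smul_left, polar_smul_left, polar_self',
      h12, smul_eq_mul, smul_eq_mul, div_mul_cancel₀ _ h2y₂']
    ring
  have h4 : (4 : F) ≠ 0 := by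
    have : (4 : F) = 2 * 2 := by norm_num
    rw [this]
    exact mul_ne_zero h2 h2
  have hdisc : polar (⇑Q) y₁ y₂ ^ 2 - 4 * Q y₁ * Q y₂ ≠ 0 := by
    rw [h12]
    intro h0
    have : (4 : F) * Q y₁ * Q y₂ ≠ 0 := mul_ne_zero (mul_ne_zero h4 hy₁) hy₂
    apply this
    linear_combination -h0
  obtain ⟨x, y, hxy⟩ := exists_comb_eq Q h2 y₁ y₂ hy₁ hdisc (c - Q u₁)
  refine ⟨u₁ + (x • y₁ + y • y₂),
    X.add_mem hu₁X (X.add_mem (X.smul_mem _ hy₁X) (X.smul_mem _ hy₂X)), ?_, ?_, ?_⟩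
  · rw [polar_add_right, polar_add_right, polar_smul_right, polar_smul_right, h1y₁, h1y₂, hu₁1]
    simp
  · rw [polar_add_right, polar_add_right, polar_smul_right, polar_smul_right, h2y₁, h2y₂, hu₁2]
    simp
  · rw [Q_add_polar, hxy, polar_add_right, polar_smul_right, polar_smul_right, hu₁y₁, hu₁y₂]
    simp

end nd1

end Cfsg.Agent.helper13
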