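import Mathlib
import Cfsg.Agent.Lib_helper13_Nd1

/-! Further representation lemmas inside a nondegenerate subspace, odd characteristic. -/

set_option autoImplicit false

namespace Cfsg.Agent.helper13

open Matrix QuadraticMap Module

section nd2
variable {F : Type*} [Field F] [Fintype F] {ι : Type} [Fintype ι] [DecidableEq ι]
variable (Q : QuadraticForm F (ι → F))

omit [Fintype F] [Fintype ι] [DecidableEq ι] in
/-- a vector of a subspace of dimension at least two outside a given line. -/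
theorem exists_not_mem_span (X : Submodule F (ι → F)) (h : 2 ≤ finrank F X) (x : ι → F) :
    ∃ z ∈ X, z ∉ Submodule.span F {x} := by
  by_contra hcon
  push Not at hcon
  have hle : X ≤ Submodule.span F {x} := fun z hz => hcon z hz
  have h1 := Submodule.finrank_mono hle
  have h3 : finrank F (Submodule.span F {x}) ≤ 1 := by
    by_cases hx : x = 0
    · rw [hx, Submodule.span_zero_singleton, finrank_bot]
      omega
    · rw [finrank_span_singleton hx]
  omega

/-- one linear condition and a prescribed norm. -/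
theorem exists_E1 (h2 : (2 : F) ≠ 0) (hQ : (polarBilin Q).Nondegenerate)
    (X : Submodule F (ι → F)) (hX : NondegOn Q X) (h7 : 7 ≤ finrank F X)
    (x : ι → F) (hxX : x ∈ X) (hx : x ≠ 0) (β c : F) :
    ∃ u ∈ X, polar (⇑Q) x u = β ∧ Q u = c := by
  obtain ⟨z, hzX, hz⟩ := exists_not_mem_span X (by omega) x
  have hind₁ : ∀ t : F, x ≠ t • z := by
    intro t ht
    have ht0 : t ≠ 0 := by
      rintro rfl
      rw [zero_smul] at ht
      exact hx ht
    apply hz
    rw [Submodule.mem_span_singleton]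
    refine ⟨t⁻¹, ?_⟩
    rw [ht, smul_smul, inv_mul_cancel₀ ht0, one_smul]
  have hind₂ : ∀ t : F, z ≠ t • x := by
    intro t ht
    apply hz
    rw [ht]
    exact Submodule.smul_mem _ _ (Submodule.mem_span_singleton_self x)
  obtain ⟨u, huX, hu1, -, huc⟩ := exists_E2 Q h2 hQ X hX h7 x z hxX hzX hind₁ hind₂ β 0 c
  exact ⟨u, huX, hu1, huc⟩

/-- every vector is a sum of two vectors of a prescribed norm. -/
theorem exists_sum_two (h2 : (2 : F) ≠ 0) (hQ : (polarBilin Q).Nondegenerate)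
    (X : Submodule F (ι → F)) (hX : NondegOn Q X) (h7 : 7 ≤ finrank F X) (c : F)
    (v : ι → F) (hv : v ∈ X) : ∃ a ∈ X, ∃ b ∈ X, Q a = c ∧ Q b = c ∧ v = a + b := by
  by_cases hv0 : v = 0
  · obtain ⟨a, haX, ha⟩ := exists_rep Q h2 hQ X hX X le_rfl (by omega) c
    refine ⟨a, haX, -a, X.neg_mem haX, ha, ?_, ?_⟩
    · rw [QuadraticMap.map_neg, ha]
    · rw [hv0, add_neg_cancel]
  · obtain ⟨a, haX, hva, ha⟩ := exists_E1 Q h2 hQ X hX h7 v hv hv0 (Q v) c
    refine ⟨a, haX, v - a, X.sub_mem hv haX, ha, ?_, by abel⟩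
    rw [sub_eq_add_neg, Q_add_polar, QuadraticMap.map_neg, polar_neg_right, hva, ha]
    ring

/-- in a nondegenerate subspace of dimension at least seven which lies neither in `W` nor in its
orthogonal complement there are vectors of any prescribed norm outside both. -/
theorem exists_mix (h2 : (2 : F) ≠ 0) (hQ : (polarBilin Q).Nondegenerate)
    (W : Submodule F (ι → F))
    (X : Submodule F (ι → F)) (hX : NondegOn Q X) (h7 : 7 ≤ finrank F X)
    (h1 : ¬ X ≤ W) (h1' : ¬ X ≤ orthQ Q W) (c : F) :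
    ∃ y ∈ X, Q y = c ∧ y ∉ W ∧ y ∉ orthQ Q W := by
  have hcompl := isCompl_orth Q hQ X hX
  -- the component in `X` of a vector
  have hproj : ∀ w : ι → F, ∃ p ∈ X, ∀ y ∈ X, polar (⇑Q) p y = polar (⇑Q) w y := by
    intro w
    have hw : w ∈ X ⊔ orthQ Q X := by
      rw [hcompl.sup_eq_top]
      exact Submodule.mem_top
    obtain ⟨a, ha, b, hb, hab⟩ := Submodule.mem_sup.mp hw
    refine ⟨a, ha, fun y hy => ?_⟩
    rw [← hab, polar_add_left, polar_comm (⇑Q) b y, (mem_orth_iff Q X b).mp hb y hy, add_zero]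
  obtain ⟨y₀, hy₀X, hy₀⟩ : ∃ y₀ ∈ X, y₀ ∉ orthQ Q W := by
    by_contra hcon
    push Not at hcon
    exact h1' hcon
  obtain ⟨w, hwW, hw⟩ : ∃ w ∈ W, polar (⇑Q) w y₀ ≠ 0 := by
    by_contra hcon
    push Not at hcon
    exact hy₀ ((mem_orth_iff Q W y₀).mpr hcon)
  obtain ⟨y₀', hy₀'X, hy₀'⟩ : ∃ y₀' ∈ X, y₀' ∉ W := by
    by_contra hcon
    push Not at hcon
    exact h1 hcon
  obtain ⟨w', hw'W, hw'⟩ : ∃ w' ∈ orthQ Q W, polar (⇑Q) w' y₀' ≠ 0 := by
    by_contra hcon
    push Not at hcon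
    apply hy₀'
    have : y₀' ∈ orthQ Q (orthQ Q W) := (mem_orth_iff Q _ y₀').mpr hcon
    rwa [orth_orth Q hQ] at this
  obtain ⟨p, hpX, hp⟩ := hproj w
  obtain ⟨p', hp'X, hp'⟩ := hproj w'
  have hp0 : p ≠ 0 := by
    rintro rfl
    apply hw
    rw [← hp y₀ hy₀X]
    unfold polar
    simp
  have hp'0 : p' ≠ 0 := by
    rintro rfl
    apply hw'
    rw [← hp' y₀' hy₀'X]
    unfold polar
    simp
  -- a vector of `X` of norm `c` not orthogonal to `p` nor to `p'`
  obtain ⟨y, hyX, hyp, hyp', hyc⟩ : ∃ y ∈ X, polar (⇑Q) p y ≠ 0 ∧ polar (⇑Q) p' y ≠ 0 ∧ Q y = c := by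
    by_cases hdep : ∃ t : F, p' = t • p
    · obtain ⟨t, ht⟩ := hdep
      have ht0 : t ≠ 0 := by
        rintro rfl
        rw [zero_smul] at ht
        exact hp'0 ht
      obtain ⟨u, huX, hu1, huc⟩ := exists_E1 Q h2 hQ X hX h7 p hpX hp0 1 c
      refine ⟨u, huX, by rw [hu1]; exact one_ne_zero, ?_, huc⟩
      rw [ht, polar_smul_left, hu1, smul_eq_mul, mul_one]
      exact ht0
    · push Not at hdep
      have hind₁ : ∀ t : F, p ≠ t • p' := by
        intro t ht
        have ht0 : t ≠ 0 := by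
          rintro rfl
          rw [zero_smul] at ht
          exact hp0 ht
        apply hdep t⁻¹
        rw [ht, smul_smul, inv_mul_cancel₀ ht0, one_smul]
      obtain ⟨u, huX, hu1, hu2, huc⟩ :=
        exists_E2 Q h2 hQ X hX h7 p p' hpX hp'X hind₁ hdep 1 1 c
      exact ⟨u, huX, by rw [hu1]; exact one_ne_zero, by rw [hu2]; exact one_ne_zero, huc⟩
  refine ⟨y, hyX, hyc, ?_, ?_⟩
  · intro hyW
    apply hyp'
    rw [hp' y hyX, polar_comm]
    exact (mem_orth_iff Q W w').mp hw'W y hyW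
  · intro hyo
    apply hyp
    rw [hp y hyX]
    exact (mem_orth_iff Q W y).mp hyo w hwW

end nd2

end Cfsg.Agent.helper13
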