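import Cfsg.Statements.S0749
-- import your own Cfsg.Agent.* helpers here
import Mathlib

set_option autoImplicit false
open Cfsg

namespace Cfsg.Agent.S0749

section
variable {F V : Type*} [Field F] [AddCommGroup V] [Module F V] [FiniteDimensional F V]
variable (B : LinearMap.BilinForm F V)

theorem alt_swap (hA : B.IsAlt) (x y : V) : B y x = -B x y := (hA.neg_eq x y).symm

theorem exists_rep (hB : B.Nondegenerate) (X : Submodule F V) (g : V →ₗ[F] V)
    (hinj : ∀ x ∈ X, g x = 0 → x = 0) (v : V) : ∃ w₀ : V, ∀ x ∈ X, B w₀ (g x) = B v x := by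
  have hker : LinearMap.ker (g.domRestrict X) = ⊥ := by
    rw [LinearMap.ker_eq_bot']
    rintro ⟨x, hx⟩ h
    exact Subtype.ext (hinj x hx h)
  obtain ⟨h₀, hh₀⟩ := LinearMap.exists_leftInverse_of_injective (g.domRestrict X) hker
  let μ : Module.Dual F V := (B v).comp (X.subtype.comp h₀)
  refine ⟨(B.toDual hB).symm μ, ?_⟩
  intro x hx
  rw [LinearMap.BilinForm.apply_toDual_symm_apply]
  have : h₀ (g x) = ⟨x, hx⟩ := LinearMap.congr_fun hh₀ ⟨x, hx⟩
  simp [μ, this]

theorem orth_le_of_orth_le (hB : B.Nondegenerate) (X : Submodule F V) (g : V →ₗ[F] V)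
    (hiso : ∀ x ∈ X, ∀ x' ∈ X, B (g x) (g x') = B x x')
    (hinj : ∀ x ∈ X, g x = 0 → x = 0) (hY : B.orthogonal (X.map g) ≤ X.map g) :
    B.orthogonal X ≤ X := by
  have h1 : B.orthogonal (X.map g) ≤ (X ⊓ B.orthogonal X).map g := by
    intro y hy
    obtain ⟨x, hx, rfl⟩ := hY hy
    refine ⟨x, ⟨hx, ?_⟩, rfl⟩
    show x ∈ B.orthogonal X
    rw [LinearMap.BilinForm.mem_orthogonal_iff]
    intro x' hx'
    show B x' x = 0
    rw [← hiso x' hx' x hx]
    exact (LinearMap.BilinForm.mem_orthogonal_iff.mp hy) (g x') ⟨x', hx', rfl⟩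
  have hdimY : Module.finrank F (X.map g) = Module.finrank F X := by
    have hker : LinearMap.ker (g.domRestrict X) = ⊥ := by
      rw [LinearMap.ker_eq_bot']
      rintro ⟨x, hx⟩ h
      exact Subtype.ext (hinj x hx h)
    rw [← LinearMap.range_domRestrict, LinearMap.finrank_range_of_inj (LinearMap.ker_eq_bot.mp hker)]
  have e1 := LinearMap.BilinForm.finrank_orthogonal hB X
  have e2 := LinearMap.BilinForm.finrank_orthogonal hB (X.map g)
  have e3 := Submodule.finrank_mono h1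
  have e4 := Submodule.finrank_map_le g (X ⊓ B.orthogonal X)
  have e5 : Module.finrank F ↥(X ⊓ B.orthogonal X) ≤ Module.finrank F ↥(B.orthogonal X) :=
    Submodule.finrank_mono inf_le_right
  have : X ⊓ B.orthogonal X = B.orthogonal X :=
    Submodule.eq_of_le_of_finrank_le inf_le_right (by omega)
  rw [← this]; exact inf_le_left

theorem exists_vw (hB : B.Nondegenerate) (hA : B.IsAlt) (X : Submodule F V) (g : V →ₗ[F] V)
    (hiso : ∀ x ∈ X, ∀ x' ∈ X, B (g x) (g x') = B x x')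
    (hinj : ∀ x ∈ X, g x = 0 → x = 0) (hX : X ≠ ⊤) :
    ∃ v w : V, v ∉ X ∧ w ∉ X.map g ∧ ∀ x ∈ X, B w (g x) = B v x := by
  by_cases hc : B.orthogonal X ≤ X
  · obtain ⟨v, hv⟩ : ∃ v, v ∉ X := by
      by_contra h; push Not at h; exact hX (Submodule.eq_top_iff'.mpr h)
    obtain ⟨w₀, hw₀⟩ := exists_rep B hB X g hinj v
    refine ⟨v, w₀, hv, ?_, hw₀⟩
    rintro ⟨x₀, hx₀, hgx₀⟩
    apply hv
    have : v - x₀ ∈ B.orthogonal X := by
      rw [LinearMap.BilinForm.mem_orthogonal_iff]; intro x hx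
      show B x (v - x₀) = 0
      rw [alt_swap B hA, map_sub, LinearMap.sub_apply,
        ← hw₀ x hx, ← hgx₀, hiso x₀ hx₀ x hx]; simp
    have := X.add_mem (hc this) hx₀
    simpa using this
  · have hc' : ¬ B.orthogonal (X.map g) ≤ X.map g :=
      fun h => hc (orth_le_of_orth_le B hB X g hiso hinj h)
    obtain ⟨v, hv1, hv2⟩ := SetLike.not_le_iff_exists.mp hc
    obtain ⟨w, hw1, hw2⟩ := SetLike.not_le_iff_exists.mp hc'
    refine ⟨v, w, hv2, hw2, ?_⟩
    intro x hx
    have a1 := (LinearMap.BilinForm.mem_orthogonal_iff.mp hw1) (g x) ⟨x, hx, rfl⟩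
    have a2 := (LinearMap.BilinForm.mem_orthogonal_iff.mp hv1) x hx
    change B (g x) w = 0 at a1
    change B x v = 0 at a2
    rw [alt_swap B hA (g x) w, alt_swap B hA x v, a1, a2]

theorem one_step (hB : B.Nondegenerate) (hA : B.IsAlt) (X : Submodule F V) (g : V →ₗ[F] V)
    (hiso : ∀ x ∈ X, ∀ x' ∈ X, B (g x) (g x') = B x x')
    (hinj : ∀ x ∈ X, g x = 0 → x = 0) (hX : X ≠ ⊤) :
    ∃ (X' : Submodule F V) (g₁ : V →ₗ[F] V), X < X' ∧
      (∀ x ∈ X', ∀ x' ∈ X', B (g₁ x) (g₁ x') = B x x') ∧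
      (∀ x ∈ X', g₁ x = 0 → x = 0) ∧ ∀ x ∈ X, g₁ x = g x := by
  obtain ⟨v, w, hv, hw, hvw⟩ := exists_vw B hB hA X g hiso hinj hX
  obtain ⟨f, hfv, hfX⟩ := Submodule.exists_dual_map_eq_bot_of_notMem hv inferInstance
  have hfX' : ∀ x ∈ X, f x = 0 := by
    intro x hx
    have : f x ∈ X.map f := ⟨x, hx, rfl⟩
    rw [hfX] at this
    exact (Submodule.mem_bot F).mp this
  let ℓ : V →ₗ[F] F := (f v)⁻¹ • f
  have hℓv : ℓ v = 1 := by simp [ℓ, hfv]
  have hℓX : ∀ x ∈ X, ℓ x = 0 := by intro x hx; simp [ℓ, hfX' x hx]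
  let g₁ : V →ₗ[F] V := g + ℓ.smulRight (w - g v)
  have hg₁ : ∀ x ∈ X, ∀ a : F, g₁ (x + a • v) = g x + a • w := by
    intro x hx a
    simp only [g₁, LinearMap.add_apply, LinearMap.smulRight_apply, map_add, map_smul, hℓX x hx, hℓv]
    simp [smul_sub]
  refine ⟨X ⊔ Submodule.span F {v}, g₁, ?_, ?_, ?_, ?_⟩
  · apply lt_of_le_of_ne le_sup_left
    intro h
    apply hv
    rw [h]
    exact Submodule.mem_sup_right (Submodule.mem_span_singleton_self v)
  · intro y hy y' hy'
    obtain ⟨x, hx, z, hz, rfl⟩ := Submodule.mem_sup.mp hy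
    obtain ⟨a, rfl⟩ := Submodule.mem_span_singleton.mp hz
    obtain ⟨x', hx', z', hz', rfl⟩ := Submodule.mem_sup.mp hy'
    obtain ⟨a', rfl⟩ := Submodule.mem_span_singleton.mp hz'
    rw [hg₁ x hx, hg₁ x' hx']
    simp only [map_add, map_smul, LinearMap.add_apply, LinearMap.smul_apply, smul_eq_mul]
    rw [hiso x hx x' hx', hvw x' hx', alt_swap B hA w (g x), hvw x hx, hA.self_eq_zero w,
      hA.self_eq_zero v, alt_swap B hA v x]
  · intro y hy h0
    obtain ⟨x, hx, z, hz, rfl⟩ := Submodule.mem_sup.mp hy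
    obtain ⟨a, rfl⟩ := Submodule.mem_span_singleton.mp hz
    rw [hg₁ x hx] at h0
    by_cases ha : a = 0
    · subst ha
      simp at h0
      simp [hinj x hx h0]
    · exfalso
      apply hw
      refine ⟨-(a⁻¹ • x), X.neg_mem (X.smul_mem _ hx), ?_⟩
      have hgx : g x = -(a • w) := eq_neg_of_add_eq_zero_left h0
      rw [map_neg, map_smul, hgx, smul_neg, neg_neg, smul_smul, inv_mul_cancel₀ ha, one_smul]
  · intro x hx
    have := hg₁ x hx 0
    simpa using this

theorem extend (hB : B.Nondegenerate) (hA : B.IsAlt) :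
    ∀ (k : ℕ) (X : Submodule F V) (g : V →ₗ[F] V),
    Module.finrank F V - Module.finrank F X = k →
    (∀ x ∈ X, ∀ x' ∈ X, B (g x) (g x') = B x x') → (∀ x ∈ X, g x = 0 → x = 0) →
    ∃ g' : V →ₗ[F] V, (∀ u v, B (g' u) (g' v) = B u v) ∧ ∀ x ∈ X, g' x = g x := by
  intro k
  induction k using Nat.strong_induction_on with
  | _ k ih =>
    intro X g hk hiso hinj
    by_cases hX : X = ⊤
    · subst hX
      exact ⟨g, fun u v => hiso u trivial v trivial, fun x _ => rfl⟩
    · obtain ⟨X', g₁, hlt, hiso₁, hinj₁, hext⟩ := one_step B hB hA X g hiso hinj hX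
      have h1 := Submodule.finrank_lt_finrank_of_lt hlt
      have h2 := Submodule.finrank_le X'
      obtain ⟨g', hg', hg'X⟩ := ih (Module.finrank F V - Module.finrank F X') (by omega) X' g₁ rfl
        hiso₁ hinj₁
      exact ⟨g', hg', fun x hx => (hg'X x (hlt.le hx)).trans (hext x hx)⟩

end


/-- Witt's Lemma for alternating forms. If B is a non-degenerate alternating bilinear form on a finite-dimensional vector space V (over any field) and φ is a linear equivalence between subspaces X and Y of V preserving B, then φ extends to a B-preserving linear automorphism of V. -/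
theorem result {F V : Type*} [Field F] [AddCommGroup V] [Module F V] [FiniteDimensional F V] (B : LinearMap.BilinForm F V) (hB : B.Nondegenerate) (hA : B.IsAlt) (X Y : Submodule F V) (φ : X ≃ₗ[F] Y) (hφ : ∀ x x' : X, B (φ x : V) (φ x' : V) = B (x : V) (x' : V)) : ∃ g : V ≃ₗ[F] V, (∀ u v : V, B (g u) (g v) = B u v) ∧ ∀ x : X, g (x : V) = (φ x : V) := by
  obtain ⟨g₀, hg₀⟩ := LinearMap.exists_extend (Y.subtype.comp φ.toLinearMap)
  have hg₀' : ∀ x : X, g₀ (x : V) = (φ x : V) := fun x => LinearMap.congr_fun hg₀ x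
  obtain ⟨g', hg', hg'X⟩ := extend B hB hA _ X g₀ rfl (by
      intro x hx x' hx'
      have := hφ ⟨x, hx⟩ ⟨x', hx'⟩
      rw [← hg₀' ⟨x, hx⟩, ← hg₀' ⟨x', hx'⟩] at this
      exact this) (by
      intro x hx h0
      have h1 := hg₀' ⟨x, hx⟩
      rw [Subtype.coe_mk, h0] at h1
      have h2 : φ ⟨x, hx⟩ = 0 := Subtype.ext h1.symm
      have h3 := (LinearEquiv.map_eq_zero_iff φ).mp h2
      exact congrArg Subtype.val h3)
  have hinj : Function.Injective g' := by
    rw [← LinearMap.ker_eq_bot, LinearMap.ker_eq_bot']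
    intro v hv
    apply hB.1
    intro u
    rw [← hg' v u, hv]; simp
  refine ⟨LinearEquiv.ofInjectiveEndo g' hinj, ?_, ?_⟩
  · intro u v
    rw [LinearEquiv.coe_ofInjectiveEndo]
    exact hg' u v
  · intro x
    rw [LinearEquiv.coe_ofInjectiveEndo, hg'X x x.2, hg₀' x]

end Cfsg.Agent.S0749
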