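import Cfsg.Statements.S0750
-- import your own Cfsg.Agent.* helpers here
import Mathlib
import Cfsg.Agent.S0749

set_option autoImplicit false
open Cfsg

namespace Cfsg.Agent.S0750

section
variable {F V : Type*} [Field F] [AddCommGroup V] [Module F V] [FiniteDimensional F V]
variable (Q : QuadraticForm F V)

theorem q_add (x y : V) : Q (x + y) = Q x + Q y + QuadraticMap.polarBilin Q x y := by
  show Q (x + y) = Q x + Q y + QuadraticMap.polar Q x y
  unfold QuadraticMap.polar; ring

theorem q_smul (a : F) (x : V) : Q (a • x) = a * a * Q x := by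
  rw [QuadraticMap.map_smul]; rfl

theorem b_comm (x y : V) : QuadraticMap.polarBilin Q x y = QuadraticMap.polarBilin Q y x :=
  QuadraticMap.polar_comm Q x y

theorem b_self (x : V) : QuadraticMap.polarBilin Q x x = 2 * Q x := by
  show QuadraticMap.polar Q x x = _
  rw [QuadraticMap.polar_self]; simp

theorem q_add_smul (x y : V) (a : F) :
    Q (x + a • y) = Q x + a * a * Q y + a * QuadraticMap.polarBilin Q x y := by
  rw [q_add, q_smul, map_smul, smul_eq_mul]

theorem iso_B (g : V →ₗ[F] V) (U : Submodule F V) (hiso : ∀ x ∈ U, Q (g x) = Q x) :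
    ∀ x ∈ U, ∀ y ∈ U, QuadraticMap.polarBilin Q (g x) (g y) = QuadraticMap.polarBilin Q x y := by
  intro x hx y hy
  have h1 := q_add Q (g x) (g y)
  have h2 := q_add Q x y
  rw [← map_add, hiso _ (U.add_mem hx hy), hiso x hx, hiso y hy] at h1
  rw [h2] at h1
  exact (add_left_cancel h1).symm

theorem inj_of_iso (hQ : (QuadraticMap.polarBilin Q).Nondegenerate) (γ : V →ₗ[F] V)
    (hγ : ∀ x, Q (γ x) = Q x) : Function.Injective γ := by
  rw [← LinearMap.ker_eq_bot, LinearMap.ker_eq_bot']
  intro v hv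
  apply hQ.1
  intro u
  rw [← iso_B Q γ ⊤ (fun x _ => hγ x) v trivial u trivial, hv]; simp

theorem hard_case (hQ : (QuadraticMap.polarBilin Q).Nondegenerate) (p : V) (hp : p ≠ 0)
    (hQp : Q p = 0) (U : Submodule F V)
    (hUp : ∀ x ∈ U, QuadraticMap.polarBilin Q p x = 0) (α : V →ₗ[F] V)
    (hinj : ∀ x ∈ U, α x = 0 → x = 0)
    (hα : ∀ x ∈ U, ∃ c : F, α x = x + c • p) :
    ∃ γ : V →ₗ[F] V, (∀ x, Q (γ x) = Q x) ∧ ∀ x ∈ U, γ x = α x := by
  set B := QuadraticMap.polarBilin Q with hBdef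
  have hpp : B p p = 0 := by rw [hBdef, b_self, hQp, mul_zero]
  obtain ⟨z, hz⟩ : ∃ z, B p z ≠ 0 := by
    by_contra h; push Not at h; exact hp (hQ.1 p h)
  let f₀ : V →ₗ[F] F := (B p z)⁻¹ • B.flip z
  have hf₀p : f₀ p = 1 := by simp [f₀, hz]
  let lam : V →ₗ[F] F := f₀.comp (α - LinearMap.id)
  have hlam : ∀ x ∈ U, α x = x + lam x • p := by
    intro x hx
    obtain ⟨c, hc⟩ := hα x hx
    have : lam x = c := by
      simp only [lam, LinearMap.comp_apply, LinearMap.sub_apply, LinearMap.id_apply, hc,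
        add_sub_cancel_left, map_smul, hf₀p, smul_eq_mul, mul_one]
    rw [this]; exact hc
  obtain ⟨μ, hμU, hμp⟩ : ∃ μ : V →ₗ[F] F, (∀ x ∈ U, α x = x + μ x • p) ∧ μ p ≠ -1 := by
    by_cases hpU : p ∈ U
    · refine ⟨lam, hlam, ?_⟩
      intro h
      have := hlam p hpU
      rw [h, neg_one_smul, add_neg_cancel] at this
      exact hp (hinj p hpU this)
    · obtain ⟨f, hfp, hfU⟩ := Submodule.exists_dual_map_eq_bot_of_notMem hpU inferInstance
      have hfU' : ∀ x ∈ U, f x = 0 := by
        intro x hx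
        have : f x ∈ U.map f := ⟨x, hx, rfl⟩
        rw [hfU] at this
        exact (Submodule.mem_bot F).mp this
      refine ⟨lam - (lam p * (f p)⁻¹) • f, ?_, ?_⟩
      · intro x hx
        simp only [LinearMap.sub_apply, LinearMap.smul_apply, hfU' x hx, smul_zero, sub_zero]
        exact hlam x hx
      · simp only [LinearMap.sub_apply, LinearMap.smul_apply, smul_eq_mul]
        rw [mul_assoc, inv_mul_cancel₀ hfp, mul_one, sub_self]
        exact (neg_ne_zero.mpr one_ne_zero).symm
  let β : V →ₗ[F] V := LinearMap.id + μ.smulRight p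
  have hβ : ∀ y, β y = y + μ y • p := fun y => rfl
  let M : Submodule F V := LinearMap.ker (B p)
  have hM : ∀ y, y ∈ M ↔ B p y = 0 := fun y => LinearMap.mem_ker
  have hpM : p ∈ M := (hM p).mpr hpp
  have hβinj : ∀ y ∈ M, β y = 0 → y = 0 := by
    intro y hy h0
    rw [hβ] at h0
    have h1 : μ y * (1 + μ p) = 0 := by
      have := congrArg μ h0
      rw [map_add, map_smul, smul_eq_mul, map_zero] at this
      linear_combination this
    have h2 : μ y = 0 := by
      rcases mul_eq_zero.mp h1 with h | h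
      · exact h
      · exfalso; apply hμp; linear_combination h
    rw [h2, zero_smul, add_zero] at h0
    exact h0
  obtain ⟨z₀, hz₀⟩ := Cfsg.Agent.S0749.exists_rep B hQ M β hβinj z
  have hc0 : B z₀ p ≠ 0 := by
    have := hz₀ p hpM
    rw [hβ, map_add, map_smul, smul_eq_mul] at this
    intro h0
    rw [h0] at this
    apply hz
    rw [hBdef, b_comm, ← hBdef, ← this]; ring
  set t := (Q z - Q z₀) / B z₀ p with ht
  set z' := z₀ + t • p with hz'def
  have hQz' : Q z' = Q z := by
    rw [hz'def, q_add_smul, hQp, ← hBdef, ht]; field_simp; ring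
  have hz' : ∀ y ∈ M, B z' (β y) = B z y := by
    intro y hy
    rw [hz'def, map_add, LinearMap.add_apply, hz₀ y hy, map_smul, LinearMap.smul_apply, hβ,
      map_add, map_smul, (hM y).mp hy, hpp]; simp
  let ν : V →ₗ[F] F := (B p z)⁻¹ • B p
  have hν : ∀ x, ν x = (B p z)⁻¹ * B p x := fun x => rfl
  let γ : V →ₗ[F] V := β + ν.smulRight (z' - β z)
  have hγ : ∀ x, γ x = β x + ν x • (z' - β z) := fun x => rfl
  refine ⟨γ, ?_, ?_⟩
  · intro x
    have hy : x - ν x • z ∈ M := by
      rw [hM, map_sub, map_smul, hν, smul_eq_mul]; field_simp; ring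
    have hγx : γ x = β (x - ν x • z) + ν x • z' := by
      rw [hγ, map_sub, map_smul, smul_sub]; abel
    have hQβ : Q (β (x - ν x • z)) = Q (x - ν x • z) := by
      rw [hβ, q_add_smul, hQp, ← hBdef, hBdef, b_comm, ← hBdef, (hM _).mp hy]; ring
    have hx : x = (x - ν x • z) + ν x • z := by abel
    rw [hγx, q_add_smul, hQz', hQβ, ← hBdef, hBdef, b_comm, ← hBdef, hz' _ hy]
    conv_rhs => rw [hx, q_add_smul, ← hBdef, hBdef, b_comm, ← hBdef]
  · intro x hx
    have hνx : ν x = 0 := by rw [hν, hUp x hx, mul_zero]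
    rw [hγ, hνx, zero_smul, add_zero, hβ, ← hμU x hx]

theorem key (hQ : (QuadraticMap.polarBilin Q).Nondegenerate) (H U : Submodule F V) (u : V)
    (hHU : H ≤ U) (hu : u ∈ U)
    (hU : ∀ x ∈ U, ∃ h ∈ H, ∃ a : F, x = h + a • u)
    (α : V →ₗ[F] V) (hiso : ∀ x ∈ U, Q (α x) = Q x) (hinj : ∀ x ∈ U, α x = 0 → x = 0)
    (hH : ∀ h ∈ H, α h = h) :
    ∃ γ : V →ₗ[F] V, (∀ x, Q (γ x) = Q x) ∧ ∀ x ∈ U, γ x = α x := by
  set B := QuadraticMap.polarBilin Q with hBdef
  set p := α u - u with hp
  have hαu : α u = u + p := by rw [hp]; abel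
  have hαx : ∀ h ∈ H, ∀ a : F, α (h + a • u) = (h + a • u) + a • p := by
    intro h hh a
    rw [map_add, map_smul, hH h hh, hαu, smul_add]; abel
  have hBiso := iso_B Q α U hiso
  have hHp : ∀ h ∈ H, B p h = 0 := by
    intro h hh
    have := hBiso u hu h (hHU hh)
    rw [hH h hh, hαu, map_add, LinearMap.add_apply] at this
    linear_combination this
  have hup : B p u = - Q p := by
    have := hiso u hu
    rw [hαu, q_add] at this
    rw [hBdef, b_comm]; linear_combination this
  by_cases hp0 : p = 0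
  · refine ⟨LinearMap.id, fun x => rfl, ?_⟩
    intro x hx
    obtain ⟨h, hh, a, rfl⟩ := hU x hx
    rw [hαx h hh a, hp0, smul_zero, add_zero]; rfl
  by_cases hQp : Q p = 0
  · apply hard_case Q hQ p hp0 hQp U ?_ α hinj ?_
    · intro x hx
      obtain ⟨h, hh, a, rfl⟩ := hU x hx
      rw [map_add, map_smul, hHp h hh, hup, hQp]; simp
    · intro x hx
      obtain ⟨h, hh, a, rfl⟩ := hU x hx
      exact ⟨a, hαx h hh a⟩
  · let r : V →ₗ[F] V := LinearMap.id - ((Q p)⁻¹ • B p).smulRight p
    have hr : ∀ x, r x = x - ((Q p)⁻¹ * B p x) • p := fun x => rfl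
    refine ⟨r, ?_, ?_⟩
    · intro x
      rw [hr, sub_eq_add_neg, ← neg_smul, q_add_smul, b_comm Q x p, ← hBdef]
      field_simp
      ring
    · intro x hx
      obtain ⟨h, hh, a, rfl⟩ := hU x hx
      rw [hαx h hh a, hr, map_add, map_smul, hHp h hh, hup, smul_eq_mul, zero_add]
      have : (Q p)⁻¹ * (a * -Q p) = -a := by field_simp
      rw [this, neg_smul, sub_neg_eq_add]

theorem witt (hQ : (QuadraticMap.polarBilin Q).Nondegenerate) :
    ∀ (n : ℕ) (U : Submodule F V) (g : V →ₗ[F] V), Module.finrank F U = n →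
    (∀ x ∈ U, Q (g x) = Q x) → (∀ x ∈ U, g x = 0 → x = 0) →
    ∃ γ : V →ₗ[F] V, (∀ x, Q (γ x) = Q x) ∧ ∀ x ∈ U, γ x = g x := by
  intro n
  induction n using Nat.strong_induction_on with
  | _ n ih =>
    intro U g hn hiso hinj
    set B := QuadraticMap.polarBilin Q with hBdef
    by_cases hU0 : U = ⊥
    · subst hU0
      exact ⟨LinearMap.id, fun x => rfl, fun x hx => by rw [(Submodule.mem_bot F).mp hx]; simp⟩
    obtain ⟨u, hu, hu0⟩ := Submodule.exists_mem_ne_zero_of_ne_bot hU0
    obtain ⟨y, hy⟩ : ∃ y, B u y ≠ 0 := by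
      by_contra h; push Not at h; exact hu0 (hQ.1 u h)
    let H : Submodule F V := U ⊓ LinearMap.ker (B.flip y)
    have hHmem : ∀ x, x ∈ H ↔ x ∈ U ∧ B x y = 0 := by
      intro x; simp [H]
    have hHU : H ≤ U := inf_le_left
    have huH : u ∉ H := fun h => hy ((hHmem u).mp h).2
    have hlt : H < U := lt_of_le_of_ne hHU (fun h => huH (h ▸ hu))
    have hfr := Submodule.finrank_lt_finrank_of_lt hlt
    obtain ⟨β₀, hβ₀, hβ₀H⟩ := ih _ (hn ▸ hfr) H g rfl (fun x hx => hiso x (hHU hx))
      (fun x hx => hinj x (hHU hx))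
    let βe := LinearEquiv.ofInjectiveEndo β₀ (inj_of_iso Q hQ β₀ hβ₀)
    have hβe : ∀ x, βe x = β₀ x := fun x => by rw [LinearEquiv.coe_ofInjectiveEndo]
    have hβes : ∀ w, Q (βe.symm w) = Q w := by
      intro w
      have := hβ₀ (βe.symm w)
      rw [← hβe, LinearEquiv.apply_symm_apply] at this
      exact this.symm
    let α : V →ₗ[F] V := βe.symm.toLinearMap.comp g
    have hα : ∀ x, α x = βe.symm (g x) := fun x => rfl
    obtain ⟨γ, hγ, hγU⟩ := key Q hQ H U u hHU hu (by
        intro x hx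
        refine ⟨x - (B x y / B u y) • u, ?_, B x y / B u y, by abel⟩
        rw [hHmem]
        refine ⟨U.sub_mem hx (U.smul_mem _ hu), ?_⟩
        rw [map_sub, LinearMap.sub_apply, map_smul, LinearMap.smul_apply, smul_eq_mul]
        field_simp; ring) α (by
        intro x hx; rw [hα, hβes, hiso x hx]) (by
        intro x hx h0
        rw [hα] at h0
        exact hinj x hx ((LinearEquiv.map_eq_zero_iff βe.symm).mp h0)) (by
        intro h hh
        rw [hα, ← hβ₀H h hh, ← hβe, LinearEquiv.symm_apply_apply])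
    refine ⟨β₀.comp γ, ?_, ?_⟩
    · intro x; rw [LinearMap.comp_apply, hβ₀, hγ]
    · intro x hx
      rw [LinearMap.comp_apply, hγU x hx, hα, ← hβe, LinearEquiv.apply_symm_apply]

end


/-- Witt's Lemma for quadratic forms over a finite field, in any characteristic: if Q is a quadratic form on a finite-dimensional space V whose polar bilinear form is non-degenerate, then every linear equivalence between subspaces X, Y of V that preserves Q extends to a Q-preserving linear automorphism of V. (In odd characteristic this is the symmetric-bilinear case; in characteristic two it is the statement for non-degenerate quadratic forms.) -/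
theorem result {F V : Type*} [Field F] [Finite F] [AddCommGroup V] [Module F V] [FiniteDimensional F V] (Q : QuadraticForm F V) (hQ : (QuadraticMap.polarBilin Q).Nondegenerate) (X Y : Submodule F V) (φ : X ≃ₗ[F] Y) (hφ : ∀ x : X, Q (φ x : V) = Q (x : V)) : ∃ g : V ≃ₗ[F] V, (∀ v : V, Q (g v) = Q v) ∧ ∀ x : X, g (x : V) = (φ x : V) := by
  obtain ⟨g₀, hg₀⟩ := LinearMap.exists_extend (Y.subtype.comp φ.toLinearMap)
  have hg₀' : ∀ x : X, g₀ (x : V) = (φ x : V) := fun x => LinearMap.congr_fun hg₀ x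
  obtain ⟨g', hg', hg'X⟩ := witt Q hQ _ X g₀ rfl (by
      intro x hx
      have := hφ ⟨x, hx⟩
      rw [← hg₀' ⟨x, hx⟩] at this
      exact this) (by
      intro x hx h0
      have h1 := hg₀' ⟨x, hx⟩
      rw [Subtype.coe_mk, h0] at h1
      have h2 : φ ⟨x, hx⟩ = 0 := Subtype.ext h1.symm
      have h3 := (LinearEquiv.map_eq_zero_iff φ).mp h2
      exact congrArg Subtype.val h3)
  refine ⟨LinearEquiv.ofInjectiveEndo g' (inj_of_iso Q hQ g' hg'), ?_, ?_⟩
  · intro v
    rw [LinearEquiv.coe_ofInjectiveEndo]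
    exact hg' v
  · intro x
    rw [LinearEquiv.coe_ofInjectiveEndo, hg'X x x.2, hg₀' x]

end Cfsg.Agent.S0750
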