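import Mathlib
import Cfsg.Prelude.Def_Classical
import Cfsg.Agent.S0750
import Cfsg.Agent.Lib_helper13_Witt
import Cfsg.Agent.Lib_helper13_Count

set_option autoImplicit false

namespace Cfsg.Agent.helper13

open Module QuadraticMap

section emb
variable {F : Type*} [Field F]
variable {V₁ V₁' V V' : Type*} [AddCommGroup V₁] [Module F V₁] [AddCommGroup V₁'] [Module F V₁']
  [AddCommGroup V] [Module F V] [AddCommGroup V'] [Module F V']

/-- Isometric embeddings of `(V₁, R)` into `(V, Q)`. -/
abbrev Emb (R : V₁ → F) (Q : QuadraticForm F V) : Type _ :=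
  {L : V₁ →ₗ[F] V // ∀ c, Q (L c) = R c}

theorem Emb.finite [Finite V₁] [Finite V] (R : V₁ → F) (Q : QuadraticForm F V) :
    Finite (Emb R Q) := by
  haveI : Finite (V₁ →ₗ[F] V) := DFunLike.finite _
  infer_instance

theorem emb_card_le [Finite V₁] [Finite V'] (R : V₁ → F) (Q : QuadraticForm F V)
    (Q' : QuadraticForm F V') (j : V →ₗ[F] V') (hj : Function.Injective j)
    (hQ : ∀ v, Q' (j v) = Q v) : Nat.card (Emb R Q) ≤ Nat.card (Emb R Q') := by
  have hfin : Finite (Emb R Q') := Emb.finite R Q'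
  have hinj : Function.Injective (fun L : Emb R Q =>
      (⟨j.comp L.1, fun c => by rw [LinearMap.comp_apply, hQ, L.2]⟩ : Emb R Q')) := by
    intro L L' h
    apply Subtype.ext
    apply LinearMap.ext
    intro c
    have := congrArg (fun M : Emb R Q' => M.1 c) h
    exact hj this
  exact @Nat.card_le_card_of_injective (Emb R Q) (Emb R Q') hfin _ hinj

theorem emb_card_source (R : V₁ → F) (R' : V₁' → F) (Q : QuadraticForm F V) (ψ : V₁ ≃ₗ[F] V₁')
    (hψ : ∀ c, R' (ψ c) = R c) : Nat.card (Emb R' Q) = Nat.card (Emb R Q) := by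
  apply Nat.card_congr
  exact
    { toFun := fun L => ⟨L.1.comp ψ.toLinearMap, fun c => by
        rw [LinearMap.comp_apply, L.2]; exact hψ c⟩
      invFun := fun L => ⟨L.1.comp ψ.symm.toLinearMap, fun c => by
        rw [LinearMap.comp_apply, L.2, ← hψ]; simp⟩
      left_inv := fun L => by
        apply Subtype.ext
        apply LinearMap.ext
        intro c
        simp
      right_inv := fun L => by
        apply Subtype.ext
        apply LinearMap.ext
        intro c
        simp }

theorem emb_polar (R : V₁ → F) (Q : QuadraticForm F V) (L : Emb R Q) (x y : V₁) :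
    polar (⇑Q) (L.1 x) (L.1 y) = R (x + y) - R x - R y := by
  unfold polar
  rw [← map_add, L.2, L.2, L.2]

theorem emb_zero (R : V₁ → F) (Q : QuadraticForm F V) (L : Emb R Q) : R 0 = 0 := by
  rw [← L.2 0, map_zero, QuadraticMap.map_zero]

/-- Hyperbolic pairs of a quadratic space. -/
abbrev HypPairs (Q : QuadraticForm F V) : Type _ :=
  {p : V × V // Q p.1 = 0 ∧ Q p.2 = 0 ∧ polar (⇑Q) p.1 p.2 = 1}

/-- Adding a hyperbolic plane to a function. -/
def hypR (R : V₁ → F) : F × F × V₁ → F := fun x => x.1 * x.2.1 + R x.2.2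

/-- The hyperbolic pair of an embedding of a hyperbolic extension. -/
def embPair (R : V₁ → F) (Q : QuadraticForm F V) (L : Emb (hypR R) Q) : HypPairs Q :=
  ⟨(L.1 (1, 0, 0), L.1 (0, 1, 0)), by
    have h0 : R 0 = 0 := by
      have := emb_zero (hypR R) Q L
      simpa [hypR] using this
    refine ⟨?_, ?_, ?_⟩
    · rw [L.2]; simp [hypR, h0]
    · rw [L.2]; simp [hypR, h0]
    · rw [emb_polar]; simp [hypR, h0]⟩

theorem embPair_fst (R : V₁ → F) (Q : QuadraticForm F V) (L : Emb (hypR R) Q) :
    (embPair R Q L).1.1 = L.1 (1, 0, 0) := rfl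

theorem embPair_snd (R : V₁ → F) (Q : QuadraticForm F V) (L : Emb (hypR R) Q) :
    (embPair R Q L).1.2 = L.1 (0, 1, 0) := rfl

/-- The linear map built from a hyperbolic pair and a map into the complement. -/
def buildMap (Q : QuadraticForm F V) (p : HypPairs Q)
    (L' : V₁ →ₗ[F] hypCompl Q p.1.1 p.1.2) : F × F × V₁ →ₗ[F] V :=
  (LinearMap.fst F F (F × V₁)).smulRight p.1.1 +
    ((LinearMap.fst F F V₁).comp (LinearMap.snd F F (F × V₁))).smulRight p.1.2 +
    (Submodule.subtype _).comp (L'.comp ((LinearMap.snd F F V₁).comp (LinearMap.snd F F (F × V₁))))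

theorem buildMap_apply (Q : QuadraticForm F V) (p : HypPairs Q)
    (L' : V₁ →ₗ[F] hypCompl Q p.1.1 p.1.2) (x : F × F × V₁) :
    buildMap Q p L' x = x.1 • p.1.1 + x.2.1 • p.1.2 + (L' x.2.2 : V) := by
  simp [buildMap]

theorem buildMap_iso (R : V₁ → F) (Q : QuadraticForm F V) (p : HypPairs Q)
    (L' : Emb R (Q.comp (hypCompl Q p.1.1 p.1.2).subtype)) (x : F × F × V₁) :
    Q (buildMap Q p L'.1 x) = hypR R x := by
  obtain ⟨h1, h2, h3⟩ := p.2
  have hw := (mem_hypCompl_iff Q p.1.1 p.1.2 _).mp (L'.1 x.2.2).2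
  rw [buildMap_apply, QuadraticMap.map_add (⇑Q), Q_comb2, h1, h2, h3, polar_add_left,
    polar_smul_left, polar_smul_left, hw.1, hw.2]
  have := L'.2 x.2.2
  rw [QuadraticMap.comp_apply] at this
  simp only [Submodule.coe_subtype] at this
  rw [this]
  simp [hypR]

/-- The fibre of `embPair` over a hyperbolic pair. -/
def fiberEquiv (R : V₁ → F) (Q : QuadraticForm F V) (p : HypPairs Q) :
    {L : Emb (hypR R) Q // embPair R Q L = p} ≃ Emb R (Q.comp (hypCompl Q p.1.1 p.1.2).subtype) where
  toFun L := ⟨LinearMap.codRestrict (hypCompl Q p.1.1 p.1.2)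
      (L.1.1.comp ((LinearMap.inr F F (F × V₁)).comp (LinearMap.inr F F V₁))) (fun c => by
        have h0 : R 0 = 0 := by
          have := emb_zero (hypR R) Q L.1
          simpa [hypR] using this
        have hp1 : p.1.1 = L.1.1 (1, 0, 0) := (congrArg (fun q : HypPairs Q => q.1.1) L.2).symm
        have hp2 : p.1.2 = L.1.1 (0, 1, 0) := (congrArg (fun q : HypPairs Q => q.1.2) L.2).symm
        rw [mem_hypCompl_iff, hp1, hp2]
        simp only [LinearMap.comp_apply, LinearMap.inr_apply]
        rw [emb_polar, emb_polar]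
        simp [hypR, h0]), fun c => by
      rw [QuadraticMap.comp_apply]
      simp only [Submodule.coe_subtype, LinearMap.codRestrict_apply, LinearMap.comp_apply,
        LinearMap.inr_apply]
      rw [L.1.2]
      simp [hypR]⟩
  invFun L' := ⟨⟨buildMap Q p L'.1, buildMap_iso R Q p L'⟩, by
    apply Subtype.ext
    apply Prod.ext
    · rw [embPair_fst]
      simp [buildMap_apply]
    · rw [embPair_snd]
      simp [buildMap_apply]⟩
  left_inv L := by
    apply Subtype.ext
    apply Subtype.ext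
    apply LinearMap.ext
    intro x
    have hp1 : p.1.1 = L.1.1 (1, 0, 0) := (congrArg (fun q : HypPairs Q => q.1.1) L.2).symm
    have hp2 : p.1.2 = L.1.1 (0, 1, 0) := (congrArg (fun q : HypPairs Q => q.1.2) L.2).symm
    simp only [buildMap_apply, LinearMap.codRestrict_apply, LinearMap.comp_apply,
      LinearMap.inr_apply]
    rw [hp1, hp2, ← map_smul, ← map_smul, ← map_add, ← map_add]
    congr 1
    ext <;> simp
  right_inv L' := by
    apply Subtype.ext
    apply LinearMap.ext
    intro c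
    apply Subtype.ext
    simp [buildMap_apply]

theorem iso_polar (Q : QuadraticForm F V) (γ : V →ₗ[F] V) (hγ : ∀ x, Q (γ x) = Q x) (x y : V) :
    polar (⇑Q) (γ x) (γ y) = polar (⇑Q) x y := by
  unfold polar
  rw [← map_add, hγ, hγ, hγ]

/-- Witt: any two hyperbolic pairs are related by a global isometry. -/
theorem exists_iso_pairs [FiniteDimensional F V] (Q : QuadraticForm F V)
    (hQ : (polarBilin Q).Nondegenerate) (p p' : HypPairs Q) :
    ∃ γ : V →ₗ[F] V, (∀ x, Q (γ x) = Q x) ∧ γ p.1.1 = p'.1.1 ∧ γ p.1.2 = p'.1.2 := by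
  obtain ⟨h1, h2, h3⟩ := p.2
  obtain ⟨h1', h2', h3'⟩ := p'.2
  set g : V →ₗ[F] V := ((polarBilin Q).flip p.1.2).smulRight p'.1.1 +
    ((polarBilin Q).flip p.1.1).smulRight p'.1.2 with hg
  have hgv : ∀ v, g v = polar (⇑Q) v p.1.2 • p'.1.1 + polar (⇑Q) v p.1.1 • p'.1.2 := by
    intro v
    simp [hg, LinearMap.add_apply]
  have hgU : ∀ a b : F, g (a • p.1.1 + b • p.1.2) = a • p'.1.1 + b • p'.1.2 := by
    intro a b
    rw [hgv, polar_add_left, polar_add_left, polar_smul_left, polar_smul_left, polar_smul_left,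
      polar_smul_left, h3, polar_self', polar_self', h1, h2, polar_comm, h3]
    simp
  obtain ⟨γ, hγ, hγU⟩ := Cfsg.Agent.S0750.witt Q hQ _ (Submodule.span F {p.1.1, p.1.2}) g rfl
    (by
      intro x hx
      obtain ⟨a, b, rfl⟩ := Submodule.mem_span_pair.mp hx
      rw [hgU, Q_comb2, Q_comb2, h1, h2, h3, h1', h2', h3'])
    (by
      intro x hx hx0
      obtain ⟨a, b, rfl⟩ := Submodule.mem_span_pair.mp hx
      rw [hgU] at hx0
      obtain ⟨c1, c2⟩ := hyp_pair_coeffs Q h1' h2' h3' a b
      rw [hx0] at c1 c2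
      simp only [polar_zero_right] at c1 c2
      rw [← c1, ← c2]
      simp)
  refine ⟨γ, hγ, ?_, ?_⟩
  · have := hγU p.1.1 (Submodule.subset_span (by simp))
    rw [this]
    have := hgU 1 0
    simpa using this
  · have := hγU p.1.2 (Submodule.subset_span (by simp))
    rw [this]
    have := hgU 0 1
    simpa using this

theorem emb_compl_le [Finite F] [FiniteDimensional F V] [Finite V₁] (R : V₁ → F)
    (Q : QuadraticForm F V) (hQ : (polarBilin Q).Nondegenerate) (p p' : HypPairs Q) :
    Nat.card (Emb R (Q.comp (hypCompl Q p.1.1 p.1.2).subtype)) ≤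
      Nat.card (Emb R (Q.comp (hypCompl Q p'.1.1 p'.1.2).subtype)) := by
  haveI : Finite V := Module.finite_of_finite F
  obtain ⟨γ, hγ, hγ1, hγ2⟩ := exists_iso_pairs Q hQ p p'
  have hinj := Cfsg.Agent.S0750.inj_of_iso Q hQ γ hγ
  have hmem : ∀ w ∈ hypCompl Q p.1.1 p.1.2, γ w ∈ hypCompl Q p'.1.1 p'.1.2 := by
    intro w hw
    rw [mem_hypCompl_iff] at hw ⊢
    rw [← hγ1, ← hγ2, iso_polar Q γ hγ, iso_polar Q γ hγ]
    exact hw
  apply emb_card_le R _ _ (γ.restrict hmem)
  · intro x y hxy
    apply Subtype.ext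
    apply hinj
    have := congrArg Subtype.val hxy
    exact this
  · intro v
    rw [QuadraticMap.comp_apply, QuadraticMap.comp_apply]
    exact hγ v

theorem emb_compl_eq [Finite F] [FiniteDimensional F V] [Finite V₁] (R : V₁ → F)
    (Q : QuadraticForm F V) (hQ : (polarBilin Q).Nondegenerate) (p p' : HypPairs Q) :
    Nat.card (Emb R (Q.comp (hypCompl Q p.1.1 p.1.2).subtype)) =
      Nat.card (Emb R (Q.comp (hypCompl Q p'.1.1 p'.1.2).subtype)) :=
  le_antisymm (emb_compl_le R Q hQ p p') (emb_compl_le R Q hQ p' p)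

/-- The recursion for the number of embeddings of a hyperbolic extension. -/
theorem emb_hyp_card [Finite F] [FiniteDimensional F V] [Finite V₁] (R : V₁ → F)
    (Q : QuadraticForm F V) (hQ : (polarBilin Q).Nondegenerate) (p₀ : HypPairs Q) :
    Nat.card (Emb (hypR R) Q) = Nat.card (HypPairs Q) *
      Nat.card (Emb R (Q.comp (hypCompl Q p₀.1.1 p₀.1.2).subtype)) := by
  classical
  haveI : Finite V := Module.finite_of_finite F
  haveI : Fintype (HypPairs Q) := Fintype.ofFinite _
  haveI := Emb.finite (hypR R) Q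
  rw [← Nat.card_congr (Equiv.sigmaFiberEquiv (embPair R Q)), Nat.card_sigma]
  have hconst : ∀ p : HypPairs Q, Nat.card {L : Emb (hypR R) Q // embPair R Q L = p} =
      Nat.card (Emb R (Q.comp (hypCompl Q p₀.1.1 p₀.1.2).subtype)) := fun p =>
    (Nat.card_congr (fiberEquiv R Q p)).trans (emb_compl_eq R Q hQ p p₀)
  simp only [hconst]
  rw [Finset.sum_const, Finset.card_univ, smul_eq_mul, ← Nat.card_eq_fintype_card]

end emb

end Cfsg.Agent.helper13
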