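import Mathlib
import Cfsg.Agent.Lib_helper13_OrthA

set_option autoImplicit false

namespace Cfsg.Agent.helper13

open Module QuadraticMap Matrix

section grp
variable {F : Type*} [Field F]

/-- The order of the isometry group is the number of isometric endomorphisms. -/
theorem card_isometryGroup_eq {ι : Type} [Fintype ι] [DecidableEq ι]
    (Q : QuadraticForm F (ι → F)) (hQ : (polarBilin Q).Nondegenerate) :
    Nat.card (Cfsg.isometryGroup F ⇑Q) = Nat.card (Emb (⇑Q) Q) := by
  apply Nat.card_congr
  refine Equiv.ofBijective (fun g => ⟨Matrix.mulVecLin (g.1 : Matrix ι ι F), fun c => ?_⟩) ⟨?_, ?_⟩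
  · exact g.2 c c
  · intro g g' h
    have h1 := congrArg (fun L : Emb (⇑Q) Q => L.1) h
    simp only at h1
    apply Subtype.ext
    apply Units.ext
    apply Matrix.toLin'.injective
    rw [Matrix.toLin'_apply', Matrix.toLin'_apply']
    exact h1
  · intro L
    have hinj := Cfsg.Agent.S0750.inj_of_iso Q hQ L.1 L.2
    set M : Matrix ι ι F := LinearMap.toMatrix' L.1 with hM
    have hML : M.mulVecLin = L.1 := by
      rw [hM, ← Matrix.toLin'_apply', Matrix.toLin'_toMatrix']
    have hMinj : Function.Injective M.mulVec := by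
      intro u v huv
      apply hinj
      rw [← hML]
      exact huv
    have hunit : IsUnit M := (Matrix.mulVec_injective_iff_isUnit).mp hMinj
    have hdet : M.det ≠ 0 := ((Matrix.isUnit_iff_isUnit_det M).mp hunit).ne_zero
    refine ⟨⟨Matrix.GeneralLinearGroup.mkOfDetNeZero M hdet, ?_⟩, ?_⟩
    · intro u v
      change Q (M *ᵥ u) = Q u
      rw [← Matrix.mulVecLin_apply, hML]
      exact L.2 u
    · apply Subtype.ext
      exact hML

end grp

section pairs
variable {F : Type*} [Field F] {V : Type*} [AddCommGroup V] [Module F V]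

theorem partner_bij (Q : QuadraticForm F V) {u f : V} (hQu : Q u = 0) (hQf : Q f = 0)
    (huf : polar (⇑Q) u f = 1) :
    Function.Bijective (fun x : hypCompl Q u f =>
      (⟨f + (x : V) + (-Q (x : V)) • u, by
        have hx := (mem_hypCompl_iff Q u f _).mp x.2
        have hfu : polar (⇑Q) f u = 1 := by rw [polar_comm]; exact huf
        constructor
        · have e1 : f + (x : V) + (-Q (x : V)) • u = ((1 : F) • f + (-Q (x : V)) • u) + (x : V) := by
            rw [one_smul]; abel
          rw [e1, QuadraticMap.map_add (⇑Q), Q_comb2, hQu, hQf, hfu, polar_add_left,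
            polar_smul_left, polar_smul_left, hx.1, hx.2]
          simp
        · rw [polar_add_right, polar_add_right, polar_smul_right, huf, hx.1, polar_self', hQu]
          simp⟩ : {w : V // Q w = 0 ∧ polar (⇑Q) u w = 1})) := by
  have hfu : polar (⇑Q) f u = 1 := by rw [polar_comm]; exact huf
  constructor
  · intro x₁ x₂ h
    have h1 : f + (x₁ : V) + (-Q (x₁ : V)) • u = f + (x₂ : V) + (-Q (x₂ : V)) • u :=
      congrArg Subtype.val h
    have hx₁ := (mem_hypCompl_iff Q u f _).mp x₁.2
    have hx₂ := (mem_hypCompl_iff Q u f _).mp x₂.2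
    have h2 := congrArg (fun y => polar (⇑Q) f y) h1
    simp only [polar_add_right, polar_smul_right, hfu, hx₁.2, hx₂.2, polar_self', hQf, smul_eq_mul,
      mul_one, mul_zero, zero_add, add_zero] at h2
    rw [h2] at h1
    apply Subtype.ext
    exact add_left_cancel (add_right_cancel h1)
  · rintro ⟨w, hw1, hw2⟩
    have hmem : w - polar (⇑Q) f w • u - f ∈ hypCompl Q u f := by
      rw [mem_hypCompl_iff]
      constructor
      · rw [polar_sub_right, polar_sub_right, polar_smul_right, hw2, huf, polar_self', hQu]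
        simp
      · rw [polar_sub_right, polar_sub_right, polar_smul_right, hfu, polar_self', hQf]
        simp
    refine ⟨⟨_, hmem⟩, ?_⟩
    apply Subtype.ext
    simp only
    -- Q x = - polar f w
    have hx := (mem_hypCompl_iff Q u f _).mp hmem
    have e1 : w = (polar (⇑Q) f w • u + (1 : F) • f) + (w - polar (⇑Q) f w • u - f) := by
      rw [one_smul]; abel
    have hQw : Q w = polar (⇑Q) f w + Q (w - polar (⇑Q) f w • u - f) := by
      conv_lhs => rw [e1]
      rw [QuadraticMap.map_add (⇑Q), Q_comb2, hQu, hQf, huf, polar_add_left, polar_smul_left,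
        polar_smul_left, hx.1, hx.2]
      simp
    rw [hw1] at hQw
    have hQx : Q (w - polar (⇑Q) f w • u - f) = - polar (⇑Q) f w := by
      linear_combination -hQw
    rw [hQx, neg_neg]
    abel

theorem card_partners [Fintype F] [FiniteDimensional F V] (Q : QuadraticForm F V)
    (hQ : (polarBilin Q).Nondegenerate) (u : V) (hu : u ≠ 0) (hQu : Q u = 0) :
    Nat.card {w : V // Q w = 0 ∧ polar (⇑Q) u w = 1} = Fintype.card F ^ (finrank F V - 2) := by
  obtain ⟨f, hQf, huf⟩ := exists_hyp_pair Q hQ u hu hQu
  rw [← Nat.card_congr (Equiv.ofBijective _ (partner_bij Q hQu hQf huf)),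
    Module.natCard_eq_pow_finrank (K := F) (V := hypCompl Q u f), Nat.card_eq_fintype_card]
  have := hypCompl_finrank Q hQ hQu hQf huf
  congr 1
  omega

theorem card_hypPairs [Fintype F] [FiniteDimensional F V] [Fintype V] (Q : QuadraticForm F V)
    (hQ : (polarBilin Q).Nondegenerate) :
    Nat.card (HypPairs Q) = (zeros (⇑Q) - 1) * Fintype.card F ^ (finrank F V - 2) := by
  classical
  have e : HypPairs Q ≃ Σ u : {u : V // Q u = 0 ∧ u ≠ 0}, {w : V // Q w = 0 ∧ polar (⇑Q) u.1 w = 1} :=
    { toFun := fun p => ⟨⟨p.1.1, p.2.1, fun h0 => by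
        have := p.2.2.2
        rw [h0, polar_zero_left] at this
        exact zero_ne_one this⟩, ⟨p.1.2, p.2.2.1, p.2.2.2⟩⟩
      invFun := fun x => ⟨(x.1.1, x.2.1), x.1.2.1, x.2.2.1, x.2.2.2⟩
      left_inv := fun p => rfl
      right_inv := fun x => rfl }
  rw [Nat.card_congr e, Nat.card_sigma]
  have hconst : ∀ u : {u : V // Q u = 0 ∧ u ≠ 0},
      Nat.card {w : V // Q w = 0 ∧ polar (⇑Q) u.1 w = 1} = Fintype.card F ^ (finrank F V - 2) :=
    fun u => card_partners Q hQ u.1 u.2.2 u.2.1
  simp only [hconst]
  rw [Finset.sum_const, Finset.card_univ, smul_eq_mul]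
  congr 1
  -- number of nonzero singular vectors
  unfold zeros
  rw [Fintype.card_subtype]
  have hsub : (Finset.univ.filter (fun u : V => Q u = 0 ∧ u ≠ 0)) =
      (Finset.univ.filter (fun u : V => Q u = 0)).erase 0 := by
    ext u
    simp only [Finset.mem_filter, Finset.mem_univ, true_and, Finset.mem_erase]
    tauto
  rw [hsub, Finset.card_erase_of_mem]
  simp

end pairs

end Cfsg.Agent.helper13
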