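import Mathlib
import Cfsg.Agent.Lib_helper13_OrthB

set_option autoImplicit false

namespace Cfsg.Agent.helper13

open Module QuadraticMap Matrix

section step
variable {F : Type*} [Field F] [Fintype F]

theorem hypR_polar {V₁ : Type*} [AddCommGroup V₁] [Module F V₁] (R : V₁ → F) (x y : F × F × V₁) :
    hypR R (x + y) - hypR R x - hypR R y =
      x.1 * y.2.1 + y.1 * x.2.1 + (R (x.2.2 + y.2.2) - R x.2.2 - R y.2.2) := by
  simp only [hypR, Prod.fst_add, Prod.snd_add]
  ring

/-- One step of the recursion for the orders of orthogonal groups. -/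
theorem card_iso_step {ι κ : Type} [Fintype ι] [DecidableEq ι] [Fintype κ] [DecidableEq κ]
    (Q' : QuadraticForm F (ι → F)) (Q : QuadraticForm F (κ → F))
    (hQ' : (polarBilin Q').Nondegenerate) (hQ : (polarBilin Q).Nondegenerate)
    (ψ : (F × F × (κ → F)) ≃ₗ[F] (ι → F)) (hψ : ∀ x, Q' (ψ x) = x.1 * x.2.1 + Q x.2.2) :
    Nat.card (Cfsg.isometryGroup F ⇑Q') =
      (zeros (⇑Q') - 1) * Fintype.card F ^ (Fintype.card ι - 2) *
        Nat.card (Cfsg.isometryGroup F ⇑Q) := by
  classical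
  have hψ' : ∀ x, Q' (ψ x) = hypR (⇑Q) x := hψ
  have hpol : ∀ x y, polar (⇑Q') (ψ x) (ψ y) =
      x.1 * y.2.1 + y.1 * x.2.1 + (Q (x.2.2 + y.2.2) - Q x.2.2 - Q y.2.2) := by
    intro x y
    unfold polar
    rw [← map_add, hψ', hψ', hψ', hypR_polar]
  have hp₀ : Q' (ψ (1, 0, 0)) = 0 ∧ Q' (ψ (0, 1, 0)) = 0 ∧
      polar (⇑Q') (ψ (1, 0, 0)) (ψ (0, 1, 0)) = 1 := by
    refine ⟨?_, ?_, ?_⟩
    · rw [hψ]; simp
    · rw [hψ]; simp
    · rw [hpol]; simp
  set p₀ : HypPairs Q' := ⟨(ψ (1, 0, 0), ψ (0, 1, 0)), hp₀⟩ with hp₀def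
  rw [card_isometryGroup_eq Q' hQ', emb_card_source (hypR (⇑Q)) (⇑Q') Q' ψ hψ',
    emb_hyp_card (⇑Q) Q' hQ' p₀, card_hypPairs Q' hQ', Module.finrank_fintype_fun_eq_card,
    card_isometryGroup_eq Q hQ]
  congr 1
  -- the complement of the standard pair is the smaller space
  have hmem : ∀ w : ι → F, w ∈ hypCompl Q' p₀.1.1 p₀.1.2 ↔
      (ψ.symm w).1 = 0 ∧ (ψ.symm w).2.1 = 0 := by
    intro w
    rw [mem_hypCompl_iff]
    have hw : w = ψ (ψ.symm w) := (ψ.apply_symm_apply w).symm
    have h1 : polar (⇑Q') (ψ (1, 0, 0)) w = (ψ.symm w).2.1 := by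
      conv_lhs => rw [hw]
      rw [hpol]; simp
    have h2 : polar (⇑Q') (ψ (0, 1, 0)) w = (ψ.symm w).1 := by
      conv_lhs => rw [hw]
      rw [hpol]; simp
    change polar (⇑Q') (ψ (1, 0, 0)) w = 0 ∧ polar (⇑Q') (ψ (0, 1, 0)) w = 0 ↔ _
    rw [h1, h2]
    tauto
  apply le_antisymm
  · -- complement into the small space
    apply emb_card_le (⇑Q) _ Q
      (((LinearMap.snd F F (κ → F)).comp (LinearMap.snd F F (F × (κ → F)))).comp
        (ψ.symm.toLinearMap.comp (hypCompl Q' p₀.1.1 p₀.1.2).subtype))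
    · intro w w' h
      simp only [LinearMap.comp_apply, LinearMap.snd_apply, LinearEquiv.coe_coe,
        Submodule.coe_subtype] at h
      obtain ⟨a1, a2⟩ := (hmem w.1).mp w.2
      obtain ⟨b1, b2⟩ := (hmem w'.1).mp w'.2
      apply Subtype.ext
      apply ψ.symm.injective
      apply Prod.ext
      · rw [a1, b1]
      · apply Prod.ext
        · rw [a2, b2]
        · exact h
    · intro w
      simp only [LinearMap.comp_apply, LinearMap.snd_apply, LinearEquiv.coe_coe,
        Submodule.coe_subtype, QuadraticMap.comp_apply]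
      obtain ⟨a1, a2⟩ := (hmem w.1).mp w.2
      have hw : (w : ι → F) = ψ (ψ.symm w) := (ψ.apply_symm_apply _).symm
      conv_rhs => rw [hw, hψ, a1, a2]
      simp
  · -- the small space into the complement
    have hmem2 : ∀ c : κ → F, ψ (0, 0, c) ∈ hypCompl Q' p₀.1.1 p₀.1.2 := by
      intro c
      rw [hmem]
      simp
    apply emb_card_le (⇑Q) Q _
      (LinearMap.codRestrict (hypCompl Q' p₀.1.1 p₀.1.2)
        (ψ.toLinearMap.comp ((LinearMap.inr F F (F × (κ → F))).comp (LinearMap.inr F F (κ → F))))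
        (fun c => by
          simp only [LinearMap.comp_apply, LinearMap.inr_apply, LinearEquiv.coe_coe]
          exact hmem2 c))
    · intro c c' h
      have h1 := congrArg Subtype.val h
      simp only [LinearMap.codRestrict_apply, LinearMap.comp_apply, LinearMap.inr_apply,
        LinearEquiv.coe_coe] at h1
      have h2 := ψ.injective h1
      simpa using h2
    · intro c
      simp only [QuadraticMap.comp_apply, Submodule.coe_subtype, LinearMap.codRestrict_apply,
        LinearMap.comp_apply, LinearMap.inr_apply, LinearEquiv.coe_coe]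
      rw [hψ]
      simp

end step

end Cfsg.Agent.helper13
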