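import Mathlib
import Cfsg.Agent.Lib_helper13_OrthC
import Cfsg.Agent.Lib_helper13_QStd
import Cfsg.Agent.S2617

set_option autoImplicit false

namespace Cfsg.Agent.helper13

open Module QuadraticMap Matrix

section plus
variable (F : Type*) [Field F]

/-- Splitting off the first hyperbolic pair, as a linear equivalence. -/
def psiPlus (m : ℕ) : (F × F × (Fin m ⊕ Fin m → F)) ≃ₗ[F] (Fin (m+1) ⊕ Fin (m+1) → F) where
  toFun x := Sum.elim (Fin.cons x.1 (fun i => x.2.2 (Sum.inl i)))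
    (Fin.cons x.2.1 (fun i => x.2.2 (Sum.inr i)))
  map_add' x y := by
    funext s
    rcases s with i | i
    · refine Fin.cases ?_ (fun j => ?_) i <;> simp
    · refine Fin.cases ?_ (fun j => ?_) i <;> simp
  map_smul' c x := by
    funext s
    rcases s with i | i
    · refine Fin.cases ?_ (fun j => ?_) i <;> simp
    · refine Fin.cases ?_ (fun j => ?_) i <;> simp
  invFun v := (v (Sum.inl 0), v (Sum.inr 0),
    Sum.elim (fun i => v (Sum.inl i.succ)) (fun i => v (Sum.inr i.succ)))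
  left_inv x := by
    obtain ⟨a, b, u⟩ := x
    simp only [Sum.elim_inl, Sum.elim_inr, Fin.cons_zero, Fin.cons_succ]
    congr 2
    funext s
    rcases s with i | i <;> rfl
  right_inv v := by
    funext s
    rcases s with i | i
    · refine Fin.cases ?_ (fun j => ?_) i <;> simp
    · refine Fin.cases ?_ (fun j => ?_) i <;> simp

theorem psiPlus_form (m : ℕ) (x : F × F × (Fin m ⊕ Fin m → F)) :
    Cfsg.quadFormPlus (m+1) F (psiPlus F m x) = x.1 * x.2.1 + Cfsg.quadFormPlus m F x.2.2 := by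
  simp only [psiPlus, Cfsg.quadFormPlus, LinearEquiv.coe_mk, LinearMap.coe_mk, AddHom.coe_mk,
    Sum.elim_inl, Sum.elim_inr]
  rw [Fin.sum_univ_succ]
  simp

end plus

section plusCount
variable {F : Type*} [Field F] [Fintype F]

theorem card_plus_succ (m : ℕ) :
    Nat.card (Cfsg.isometryGroup F (Cfsg.quadFormPlus (m+1) F)) =
      (zeros (Cfsg.quadFormPlus (m+1) F) - 1) * Fintype.card F ^ (2 * m) *
        Nat.card (Cfsg.isometryGroup F (Cfsg.quadFormPlus m F)) := by
  have h := card_iso_step (QPlus F (m+1)) (QPlus F m) (QPlus_nondeg (m+1)) (QPlus_nondeg m)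
    (psiPlus F m) (fun x => by rw [QPlus_apply, QPlus_apply]; exact psiPlus_form F m x)
  rw [QPlus_coe, QPlus_coe] at h
  rw [h]
  have e1 : Fintype.card (Fin (m + 1) ⊕ Fin (m + 1)) - 2 = 2 * m := by
    rw [Fintype.card_sum, Fintype.card_fin]; omega
  rw [e1]

theorem card_plus_zero : Nat.card (Cfsg.isometryGroup F (Cfsg.quadFormPlus 0 F)) = 1 := by
  haveI : Subsingleton (GL (Fin 0 ⊕ Fin 0) F) := by
    constructor
    intro a b
    apply Units.ext
    ext i j
    rcases i with i | i <;> exact i.elim0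
  exact Nat.card_unique

/-- arithmetic: number of nonzero singular vectors of the plus form. -/
theorem plus_sing_count (q : ℕ) (hq : 1 ≤ q) (j : ℕ) :
    q ^ (j + 1) + Cfsg.Agent.S2617.cseq q (j + 1) - 1 = (q ^ (j + 1) - 1) * (q ^ j + 1) := by
  have hid := Cfsg.Agent.S2617.cseq_id q hq (j + 1)
  have h1 : 1 ≤ q ^ j := Nat.one_le_pow _ _ hq
  have h2 : 1 ≤ q ^ (j + 1) := Nat.one_le_pow _ _ hq
  have h3 : 1 ≤ q ^ (j + 1) + Cfsg.Agent.S2617.cseq q (j + 1) := by omega
  zify [h2, h3]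
  have hid' : (q : ℤ) * (Cfsg.Agent.S2617.cseq q (j + 1) : ℤ) + (q : ℤ) ^ (j + 1) =
      (q : ℤ) ^ (2 * (j + 1)) := by exact_mod_cast hid
  have hq0 : (q : ℤ) ≠ 0 := by exact_mod_cast (by omega : q ≠ 0)
  have hc : (Cfsg.Agent.S2617.cseq q (j + 1) : ℤ) = (q : ℤ) * ((q : ℤ) ^ j) ^ 2 - (q : ℤ) ^ j := by
    apply mul_left_cancel₀ hq0
    have e1 : (q : ℤ) ^ (2 * (j + 1)) = (q : ℤ) ^ 2 * ((q : ℤ) ^ j) ^ 2 := by ring
    have e2 : (q : ℤ) ^ (j + 1) = (q : ℤ) * (q : ℤ) ^ j := by ring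
    rw [e1, e2] at hid'
    linear_combination hid'
  rw [hc]
  ring

theorem card_plus (k : ℕ) :
    Nat.card (Cfsg.isometryGroup F (Cfsg.quadFormPlus (k + 1) F)) =
      2 * Fintype.card F ^ ((k + 1) * k) * (Fintype.card F ^ (k + 1) - 1) *
        ∏ i ∈ Finset.range k, (Fintype.card F ^ (2 * (i + 1)) - 1) := by
  have hq : 1 ≤ Fintype.card F := Fintype.card_pos
  induction k with
  | zero =>
    rw [card_plus_succ, card_plus_zero, Cfsg.Agent.S2617.zeros_plus, plus_sing_count _ hq]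
    simp
    ring
  | succ k ih =>
    rw [card_plus_succ, ih, Cfsg.Agent.S2617.zeros_plus, plus_sing_count _ hq,
      Finset.prod_range_succ]
    have h1 : 1 ≤ Fintype.card F ^ (k + 1) := Nat.one_le_pow _ _ hq
    have e1 : Fintype.card F ^ (2 * (k + 1)) - 1 =
        (Fintype.card F ^ (k + 1) - 1) * (Fintype.card F ^ (k + 1) + 1) := by
      have h2 : 1 ≤ Fintype.card F ^ (2 * (k + 1)) := Nat.one_le_pow _ _ hq
      zify [h1, h2]
      ring
    rw [e1]
    have e2 : Fintype.card F ^ ((k + 1 + 1) * (k + 1)) =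
        Fintype.card F ^ (2 * (k + 1)) * Fintype.card F ^ ((k + 1) * k) := by
      rw [← pow_add]; congr 1; ring
    rw [e2]
    ring

end plusCount

end Cfsg.Agent.helper13
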