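import Mathlib
import Cfsg.Agent.Lib_helper13_OrthD

set_option autoImplicit false

namespace Cfsg.Agent.helper13

open Module QuadraticMap Matrix

section nondegStep
variable {F : Type*} [Field F]

/-- Nondegeneracy is inherited by hyperbolic extensions. -/
theorem nondeg_step {ι κ : Type} [Fintype ι] [DecidableEq ι] [Fintype κ] [DecidableEq κ]
    (Q' : QuadraticForm F (ι → F)) (Q : QuadraticForm F (κ → F))
    (hQ : (polarBilin Q).Nondegenerate)
    (ψ : (F × F × (κ → F)) ≃ₗ[F] (ι → F)) (hψ : ∀ x, Q' (ψ x) = x.1 * x.2.1 + Q x.2.2) :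
    (polarBilin Q').Nondegenerate := by
  have hψ' : ∀ x, Q' (ψ x) = hypR (⇑Q) x := hψ
  have hpol : ∀ x y, polar (⇑Q') (ψ x) (ψ y) =
      x.1 * y.2.1 + y.1 * x.2.1 + polar (⇑Q) x.2.2 y.2.2 := by
    intro x y
    unfold polar
    rw [← map_add, hψ', hψ', hψ']
    simp only [hypR, Prod.fst_add, Prod.snd_add]
    ring
  have hleft : (polarBilin Q').SeparatingLeft := by
    intro u hu
    have hu' : ∀ y, polar (⇑Q') (ψ (ψ.symm u)) (ψ y) = 0 := by
      intro y
      rw [ψ.apply_symm_apply]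
      exact hu (ψ y)
    have h1 := hu' (0, 1, 0)
    have h2 := hu' (1, 0, 0)
    rw [hpol] at h1 h2
    simp only [polar_zero_right, mul_one, zero_mul, mul_zero, add_zero, zero_add, one_mul] at h1 h2
    have h3 : (ψ.symm u).2.2 = 0 := by
      apply hQ.1
      intro c
      have := hu' (0, 0, c)
      rw [hpol] at this
      simpa using this
    have : ψ.symm u = 0 := by
      apply Prod.ext
      · exact h1
      · apply Prod.ext
        · exact h2
        · exact h3
    rw [← ψ.apply_symm_apply u, this, map_zero]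
  refine ⟨hleft, ?_⟩
  intro v hv
  apply hleft v
  intro u
  have := hv u
  rw [polarBilin_apply_apply] at this ⊢
  rw [polar_comm]
  exact this

end nondegStep

section odd
variable (F : Type*) [Field F]

/-- The odd-dimensional standard form as a bundled quadratic form. -/
noncomputable def QOdd (m : ℕ) : QuadraticForm F (Unit ⊕ (Fin m ⊕ Fin m) → F) :=
  QuadraticMap.linMulLin (LinearMap.proj (Sum.inl ())) (LinearMap.proj (Sum.inl ())) +
    ∑ i : Fin m, QuadraticMap.linMulLin (LinearMap.proj (Sum.inr (Sum.inl i)))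
      (LinearMap.proj (Sum.inr (Sum.inr i)))

theorem QOdd_apply (m : ℕ) (v : Unit ⊕ (Fin m ⊕ Fin m) → F) :
    QOdd F m v = Cfsg.quadFormOdd m F v := by
  simp [QOdd, Cfsg.quadFormOdd, _root_.sq]

theorem QOdd_coe (m : ℕ) : ⇑(QOdd F m) = Cfsg.quadFormOdd m F := funext (QOdd_apply F m)

/-- Splitting off the first hyperbolic pair of the odd form. -/
def psiOdd (m : ℕ) : (F × F × (Unit ⊕ (Fin m ⊕ Fin m) → F)) ≃ₗ[F]
    (Unit ⊕ (Fin (m+1) ⊕ Fin (m+1)) → F) where
  toFun x := Sum.elim (fun u => x.2.2 (Sum.inl u))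
    (Sum.elim (Fin.cons x.1 (fun i => x.2.2 (Sum.inr (Sum.inl i))))
      (Fin.cons x.2.1 (fun i => x.2.2 (Sum.inr (Sum.inr i)))))
  map_add' x y := by
    funext s
    rcases s with u | i | i
    · simp
    · refine Fin.cases ?_ (fun j => ?_) i <;> simp
    · refine Fin.cases ?_ (fun j => ?_) i <;> simp
  map_smul' c x := by
    funext s
    rcases s with u | i | i
    · simp
    · refine Fin.cases ?_ (fun j => ?_) i <;> simp
    · refine Fin.cases ?_ (fun j => ?_) i <;> simp
  invFun v := (v (Sum.inr (Sum.inl 0)), v (Sum.inr (Sum.inr 0)),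
    Sum.elim (fun u => v (Sum.inl u))
      (Sum.elim (fun i => v (Sum.inr (Sum.inl i.succ))) (fun i => v (Sum.inr (Sum.inr i.succ)))))
  left_inv x := by
    obtain ⟨a, b, u⟩ := x
    simp only [Sum.elim_inl, Sum.elim_inr, Fin.cons_zero, Fin.cons_succ]
    congr 2
    funext s
    rcases s with u | i | i <;> rfl
  right_inv v := by
    funext s
    rcases s with u | i | i
    · simp
    · refine Fin.cases ?_ (fun j => ?_) i <;> simp
    · refine Fin.cases ?_ (fun j => ?_) i <;> simp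

theorem psiOdd_form (m : ℕ) (x : F × F × (Unit ⊕ (Fin m ⊕ Fin m) → F)) :
    Cfsg.quadFormOdd (m+1) F (psiOdd F m x) = x.1 * x.2.1 + Cfsg.quadFormOdd m F x.2.2 := by
  simp only [psiOdd, Cfsg.quadFormOdd, LinearEquiv.coe_mk, LinearMap.coe_mk, AddHom.coe_mk,
    Sum.elim_inl, Sum.elim_inr]
  rw [Fin.sum_univ_succ]
  simp
  ring

end odd

section oddCount
variable {F : Type*} [Field F]

theorem QOdd_nondeg (h2 : (2 : F) ≠ 0) (m : ℕ) : (polarBilin (QOdd F m)).Nondegenerate := by
  induction m with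
  | zero =>
    have hpol : ∀ u v : Unit ⊕ (Fin 0 ⊕ Fin 0) → F,
        polar (⇑(QOdd F 0)) u v = 2 * u (Sum.inl ()) * v (Sum.inl ()) := by
      intro u v
      unfold polar
      rw [QOdd_apply, QOdd_apply, QOdd_apply]
      simp [Cfsg.quadFormOdd]
      ring
    have hleft : (polarBilin (QOdd F 0)).SeparatingLeft := by
      intro u hu
      have h1 := hu (fun _ => 1)
      rw [polarBilin_apply_apply, hpol] at h1
      have h3 : u (Sum.inl ()) = 0 := by
        have : 2 * u (Sum.inl ()) = 0 := by simpa using h1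
        exact (mul_eq_zero.mp this).resolve_left h2
      funext s
      rcases s with u' | i | i
      · exact h3
      · exact i.elim0
      · exact i.elim0
    refine ⟨hleft, ?_⟩
    intro v hv
    apply hleft v
    intro u
    have := hv u
    rw [polarBilin_apply_apply] at this ⊢
    rw [polar_comm]
    exact this
  | succ m ih =>
    exact nondeg_step (QOdd F (m+1)) (QOdd F m) ih (psiOdd F m)
      (fun x => by rw [QOdd_apply, QOdd_apply]; exact psiOdd_form F m x)

variable [Fintype F]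

theorem zeros_odd (m : ℕ) : zeros (Cfsg.quadFormOdd m F) = Fintype.card F ^ (2 * m) := by
  classical
  have h := Cfsg.Agent.S2617.T_closed (F := F) m (fun z : F => z ^ 2)
  have hz : zeros (fun z : F => z ^ 2) = 1 := by
    unfold zeros
    rw [Finset.card_eq_one]
    refine ⟨0, ?_⟩
    ext z
    simp
  rw [hz, mul_one] at h
  have hq : 1 ≤ Fintype.card F := Fintype.card_pos
  rw [← Cfsg.Agent.S2617.cseq_id (Fintype.card F) hq m, add_comm, ← h]
  unfold Cfsg.Agent.S2617.T
  let e : (Unit ⊕ (Fin m ⊕ Fin m) → F) ≃ (Fin m ⊕ Fin m → F) × F :=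
    { toFun := fun v => (fun s => v (Sum.inr s), v (Sum.inl ()))
      invFun := fun x => Sum.elim (fun _ => x.2) x.1
      left_inv := fun v => by
        funext s
        rcases s with u | s <;> rfl
      right_inv := fun x => rfl }
  apply zeros_congr e
  intro v
  change (Cfsg.quadFormPlus m F (fun s => v (Sum.inr s)) + v (Sum.inl ()) ^ 2) = Cfsg.quadFormOdd m F v
  unfold Cfsg.quadFormPlus Cfsg.quadFormOdd
  ring

theorem card_odd_succ (h2 : (2 : F) ≠ 0) (m : ℕ) :
    Nat.card (Cfsg.isometryGroup F (Cfsg.quadFormOdd (m+1) F)) =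
      (Fintype.card F ^ (2 * (m + 1)) - 1) * Fintype.card F ^ (2 * m + 1) *
        Nat.card (Cfsg.isometryGroup F (Cfsg.quadFormOdd m F)) := by
  have h := card_iso_step (QOdd F (m+1)) (QOdd F m) (QOdd_nondeg h2 (m+1)) (QOdd_nondeg h2 m)
    (psiOdd F m) (fun x => by rw [QOdd_apply, QOdd_apply]; exact psiOdd_form F m x)
  rw [QOdd_coe, QOdd_coe] at h
  rw [h, zeros_odd]
  have e1 : Fintype.card (Unit ⊕ (Fin (m + 1) ⊕ Fin (m + 1))) - 2 = 2 * m + 1 := by
    simp only [Fintype.card_sum, Fintype.card_fin, Fintype.card_unit]; omega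
  rw [e1]

theorem mulVec_odd_zero (M : Matrix (Unit ⊕ (Fin 0 ⊕ Fin 0)) (Unit ⊕ (Fin 0 ⊕ Fin 0)) F)
    (v : Unit ⊕ (Fin 0 ⊕ Fin 0) → F) :
    (M *ᵥ v) (Sum.inl ()) = M (Sum.inl ()) (Sum.inl ()) * v (Sum.inl ()) := by
  simp [Matrix.mulVec, dotProduct, Fintype.sum_sum_type]

theorem card_odd_zero (h2 : (2 : F) ≠ 0) :
    Nat.card (Cfsg.isometryGroup F (Cfsg.quadFormOdd 0 F)) = 2 := by
  classical
  have hmem : ∀ g : GL (Unit ⊕ (Fin 0 ⊕ Fin 0)) F, g ∈ Cfsg.isometryGroup F (Cfsg.quadFormOdd 0 F) ↔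
      (g : Matrix (Unit ⊕ (Fin 0 ⊕ Fin 0)) (Unit ⊕ (Fin 0 ⊕ Fin 0)) F) (Sum.inl ()) (Sum.inl ()) ^ 2 = 1 := by
    intro g
    constructor
    · intro hg
      have h1 := hg (fun _ => 1) (fun _ => 1)
      change Cfsg.quadFormOdd 0 F ((g : Matrix (Unit ⊕ (Fin 0 ⊕ Fin 0)) (Unit ⊕ (Fin 0 ⊕ Fin 0)) F) *ᵥ fun _ => 1) = Cfsg.quadFormOdd 0 F (fun _ => 1) at h1
      unfold Cfsg.quadFormOdd at h1
      rw [mulVec_odd_zero] at h1
      simpa using h1
    · intro hs u v
      change Cfsg.quadFormOdd 0 F ((g : Matrix (Unit ⊕ (Fin 0 ⊕ Fin 0)) (Unit ⊕ (Fin 0 ⊕ Fin 0)) F) *ᵥ u) = Cfsg.quadFormOdd 0 F u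
      unfold Cfsg.quadFormOdd
      rw [mulVec_odd_zero, mul_pow, hs]
      simp
  have hbij : Function.Bijective (fun g : Cfsg.isometryGroup F (Cfsg.quadFormOdd 0 F) =>
      (⟨(g.1 : Matrix (Unit ⊕ (Fin 0 ⊕ Fin 0)) (Unit ⊕ (Fin 0 ⊕ Fin 0)) F) (Sum.inl ()) (Sum.inl ()),
        (hmem g.1).mp g.2⟩ : {s : F // s ^ 2 = 1})) := by
    constructor
    · intro g g' h
      have h1 : (g.1 : Matrix (Unit ⊕ (Fin 0 ⊕ Fin 0)) (Unit ⊕ (Fin 0 ⊕ Fin 0)) F) (Sum.inl ()) (Sum.inl ()) =
          (g'.1 : Matrix (Unit ⊕ (Fin 0 ⊕ Fin 0)) (Unit ⊕ (Fin 0 ⊕ Fin 0)) F) (Sum.inl ()) (Sum.inl ()) :=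
        congrArg Subtype.val h
      apply Subtype.ext
      apply Units.ext
      ext i j
      rcases i with u | i | i
      · rcases j with u' | j | j
        · exact h1
        · exact j.elim0
        · exact j.elim0
      · exact i.elim0
      · exact i.elim0
    · rintro ⟨s, hs⟩
      have hs0 : s ≠ 0 := by
        intro h0
        rw [h0] at hs
        simp at hs
      have hdet : (Matrix.diagonal (fun _ : Unit ⊕ (Fin 0 ⊕ Fin 0) => s)).det ≠ 0 := by
        rw [Matrix.det_diagonal]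
        simpa using hs0
      refine ⟨⟨Matrix.GeneralLinearGroup.mkOfDetNeZero _ hdet, ?_⟩, ?_⟩
      · rw [hmem]
        change (Matrix.diagonal (fun _ : Unit ⊕ (Fin 0 ⊕ Fin 0) => s)) (Sum.inl ()) (Sum.inl ()) ^ 2 = 1
        rw [Matrix.diagonal_apply_eq]
        exact hs
      · apply Subtype.ext
        change (Matrix.diagonal (fun _ : Unit ⊕ (Fin 0 ⊕ Fin 0) => s)) (Sum.inl ()) (Sum.inl ()) = s
        rw [Matrix.diagonal_apply_eq]
  rw [Nat.card_congr (Equiv.ofBijective _ hbij)]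
  haveI : Fintype F := Fintype.ofFinite F
  rw [Nat.card_eq_fintype_card, Fintype.card_subtype]
  have hset : (Finset.univ.filter (fun s : F => s ^ 2 = 1)) = {1, -1} := by
    ext s
    simp only [Finset.mem_filter, Finset.mem_univ, true_and, Finset.mem_insert,
      Finset.mem_singleton]
    have := sq_eq_sq_iff_eq_or_eq_neg (a := s) (b := 1)
    rw [one_pow] at this
    exact this
  rw [hset, Finset.card_pair]
  intro h
  have : (2 : F) = 0 := by linear_combination h
  exact h2 this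

theorem card_odd (h2 : (2 : F) ≠ 0) (m : ℕ) :
    Nat.card (Cfsg.isometryGroup F (Cfsg.quadFormOdd m F)) =
      2 * Fintype.card F ^ (m ^ 2) * ∏ i ∈ Finset.range m, (Fintype.card F ^ (2 * (i + 1)) - 1) := by
  induction m with
  | zero => rw [card_odd_zero h2]; simp
  | succ m ih =>
    rw [card_odd_succ h2, ih, Finset.prod_range_succ]
    have e : Fintype.card F ^ ((m + 1) ^ 2) =
        Fintype.card F ^ (2 * m + 1) * Fintype.card F ^ (m ^ 2) := by
      rw [← pow_add]; congr 1; ring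
    rw [e]
    ring

end oddCount

end Cfsg.Agent.helper13
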