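import Mathlib
import Cfsg.Prelude.Def_GeometricClasses
import Cfsg.Agent.Lib_helper13_Witt
import Cfsg.Agent.Lib_helper13_TsTrans
import Cfsg.Agent.Lib_helper13_WittNd
import Cfsg.Agent.Lib_helper13_OrthE

set_option autoImplicit false

namespace Cfsg.Agent.helper13

open Module Matrix QuadraticMap

section geoA
variable {F : Type*} [Field F] {ι : Type} [Fintype ι] [DecidableEq ι]

/-- a nondegenerate quadratic form given as a function is a bundled quadratic form. -/
theorem exists_QF (Q : (ι → F) → F) (hQ : Cfsg.Geo.IsNondegenerateQuadraticForm Q) :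
    ∃ Q' : QuadraticForm F (ι → F), ⇑Q' = Q ∧ (polarBilin Q').Nondegenerate := by
  let Q' : QuadraticForm F (ι → F) := QuadraticMap.ofPolar Q
    (fun a x => by rw [hQ.smul, pow_two, smul_eq_mul])
    (fun x x' y => hQ.polar_bilinear.add_left x x' y)
    (fun a x y => by rw [hQ.polar_bilinear.smul_left, smul_eq_mul])
  refine ⟨Q', rfl, ?_, ?_⟩
  · intro x hx
    by_contra hx0
    obtain ⟨-, y, hy⟩ := hQ.nondegenerate x hx0
    exact hy (hx y)
  · intro y hy
    by_contra hy0
    obtain ⟨⟨x, hx⟩, -⟩ := hQ.nondegenerate y hy0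
    exact hx (hy x)

theorem mem_omegaGL (Q : QuadraticForm F (ι → F)) (g : GL ι F) :
    g ∈ Cfsg.Geo.omegaGL (⇑Q) ↔ ∃ h : ↥(Cfsg.isometryGroup F ⇑Q),
      h ∈ commutator ↥(Cfsg.isometryGroup F ⇑Q) ∧ (h : GL ι F) = g := by
  unfold Cfsg.Geo.omegaGL
  rw [Subgroup.mem_map]
  rfl

theorem mem_subspaceStabilizer_iff (Q : QuadraticForm F (ι → F))
    (h : ↥(Cfsg.isometryGroup F ⇑Q)) (W : Submodule F (ι → F)) :
    (h : GL ι F) ∈ Cfsg.Geo.subspaceStabilizer W ↔ gmap h W = W := by
  constructor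
  · intro hh
    apply gmap_eq_of_le
    intro x hx
    obtain ⟨u, hu, rfl⟩ := (mem_gmap h W x).mp hx
    exact (hh u).mp hu
  · intro hh v
    constructor
    · intro hv
      have : iact h v ∈ gmap h W := (mem_gmap h W _).mpr ⟨v, hv, rfl⟩
      rw [hh] at this
      exact this
    · intro hv
      have hv' : iact h v ∈ gmap h W := by rw [hh]; exact hv
      obtain ⟨u, hu, hue⟩ := (mem_gmap h W _).mp hv'
      have := mulVecLin_injective h hue
      rw [← this]
      exact hu

/-- strict inclusion of traces on `Ω` from a witness. -/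
theorem inf_omega_lt_inf_omega (Q : QuadraticForm F (ι → F)) (S₁ S₂ : Subgroup (GL ι F))
    (hle : ∀ h : ↥(Cfsg.isometryGroup F ⇑Q), h ∈ commutator ↥(Cfsg.isometryGroup F ⇑Q) →
      (h : GL ι F) ∈ S₁ → (h : GL ι F) ∈ S₂)
    (hex : ∃ h : ↥(Cfsg.isometryGroup F ⇑Q), h ∈ commutator ↥(Cfsg.isometryGroup F ⇑Q) ∧
      (h : GL ι F) ∈ S₂ ∧ (h : GL ι F) ∉ S₁) :
    S₁ ⊓ Cfsg.Geo.omegaGL ⇑Q < S₂ ⊓ Cfsg.Geo.omegaGL ⇑Q := by
  rw [SetLike.lt_iff_le_and_exists]
  constructor
  · intro g hg
    obtain ⟨hg1, hg2⟩ := Subgroup.mem_inf.mp hg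
    obtain ⟨h, hh, rfl⟩ := (mem_omegaGL Q g).mp hg2
    exact Subgroup.mem_inf.mpr ⟨hle h hh hg1, hg2⟩
  · obtain ⟨h, hh, h2, h1⟩ := hex
    refine ⟨(h : GL ι F), Subgroup.mem_inf.mpr ⟨h2, (mem_omegaGL Q _).mpr ⟨h, hh, rfl⟩⟩, ?_⟩
    intro hmem
    exact h1 (Subgroup.mem_inf.mp hmem).1

theorem inf_omega_lt_omega (Q : QuadraticForm F (ι → F)) (S : Subgroup (GL ι F))
    (hex : ∃ h : ↥(Cfsg.isometryGroup F ⇑Q), h ∈ commutator ↥(Cfsg.isometryGroup F ⇑Q) ∧
      (h : GL ι F) ∉ S) :
    S ⊓ Cfsg.Geo.omegaGL ⇑Q < Cfsg.Geo.omegaGL ⇑Q := by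
  rw [SetLike.lt_iff_le_and_exists]
  refine ⟨inf_le_right, ?_⟩
  obtain ⟨h, hh, h1⟩ := hex
  refine ⟨(h : GL ι F), (mem_omegaGL Q _).mpr ⟨h, hh, rfl⟩, ?_⟩
  intro hmem
  exact h1 (Subgroup.mem_inf.mp hmem).1

theorem nondegOn_of_geo (Q : QuadraticForm F (ι → F)) (W : Submodule F (ι → F))
    (hW : Cfsg.Geo.IsNondegenerateOn (QuadraticMap.polar ⇑Q) W) : NondegOn Q W := by
  intro x hx hall
  by_contra hx0
  obtain ⟨⟨y, hy, hyx⟩, -⟩ := hW x hx hx0
  exact hyx (hall y hy)

/-- shear along `z` by a functional vanishing at `z`. -/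
noncomputable def shear (φ : (ι → F) →ₗ[F] F) (z : ι → F) (hφ : φ z = 0) :
    (ι → F) ≃ₗ[F] (ι → F) :=
  LinearEquiv.ofLinear (LinearMap.id + φ.smulRight z) (LinearMap.id - φ.smulRight z)
    (by
      apply LinearMap.ext
      intro x
      show (x - φ x • z) + φ (x - φ x • z) • z = x
      rw [map_sub, map_smul, hφ, smul_zero, sub_zero, sub_add_cancel])
    (by
      apply LinearMap.ext
      intro x
      show (x + φ x • z) - φ (x + φ x • z) • z = x
      rw [map_add, map_smul, hφ, smul_zero, add_zero, add_sub_cancel_right])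

theorem shear_apply (φ : (ι → F) →ₗ[F] F) (z : ι → F) (hφ : φ z = 0) (x : ι → F) :
    shear φ z hφ x = x + φ x • z := rfl

theorem Q_shear (Q : QuadraticForm F (ι → F)) (φ : (ι → F) →ₗ[F] F) (z : ι → F) (hφ : φ z = 0)
    (hz : Q z = 0) (x : ι → F) (hxz : polar (⇑Q) x z = 0) : Q (shear φ z hφ x) = Q x := by
  rw [shear_apply, Q_add_polar, QuadraticMap.map_smul, hz, polar_smul_right, hxz]
  simp

end geoA

section geoB
variable {F : Type*} [Field F] [Fintype F] {ι : Type} [Fintype ι] [DecidableEq ι]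
variable (Q : QuadraticForm F (ι → F))

theorem span_pair_nondegOn (e f : ι → F) (hQe : Q e = 0) (hQf : Q f = 0)
    (hef : polar (⇑Q) e f = 1) : NondegOn Q (Submodule.span F {e, f}) := by
  intro x hx hall
  obtain ⟨a, b, rfl⟩ := Submodule.mem_span_pair.mp hx
  obtain ⟨c1, c2⟩ := hyp_pair_coeffs Q hQe hQf hef a b
  have h1 := hall e (Submodule.subset_span (by simp))
  have h2 := hall f (Submodule.subset_span (by simp))
  rw [c1] at h1
  rw [c2] at h2
  rw [h1, h2]
  simp

/-- `Ω` carries a hyperbolic plane to its image under a shear along an orthogonal singular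
vector. -/
theorem plane_key (hQ : (polarBilin Q).Nondegenerate) (hn : 5 ≤ Fintype.card ι)
    (e f : ι → F) (hQe : Q e = 0) (hQf : Q f = 0) (hef : polar (⇑Q) e f = 1)
    (φ : (ι → F) →ₗ[F] F) (z : ι → F) (hφ : φ z = 0) (hz : Q z = 0)
    (hze : polar (⇑Q) e z = 0) (hzf : polar (⇑Q) f z = 0) :
    (∀ x ∈ Submodule.span F {e, f}, Q (shear φ z hφ x) = Q x) ∧
    ∃ g ∈ commutator ↥(Cfsg.isometryGroup F ⇑Q),
      gmap g (Submodule.span F {e, f}) =
        (Submodule.span F {e, f}).map (shear φ z hφ).toLinearMap := by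
  classical
  set W := Submodule.span F {e, f} with hWdef
  have hWz : ∀ x ∈ W, polar (⇑Q) x z = 0 := by
    intro x hx
    obtain ⟨a, b, rfl⟩ := Submodule.mem_span_pair.mp hx
    rw [polar_add_left, polar_smul_left, polar_smul_left, hze, hzf]
    simp
  have hpres : ∀ x ∈ W, Q (shear φ z hφ x) = Q x := fun x hx =>
    Q_shear Q φ z hφ hz x (hWz x hx)
  refine ⟨hpres, ?_⟩
  have hW : NondegOn Q W := span_pair_nondegOn Q e f hQe hQf hef
  have hpol : ∀ x ∈ W, ∀ y ∈ W, polar (⇑Q) (shear φ z hφ x) (shear φ z hφ y) = polar (⇑Q) x y := by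
    intro x hx y hy
    unfold polar
    rw [← map_add, hpres _ (W.add_mem hx hy), hpres x hx, hpres y hy]
  have hW' : NondegOn Q (W.map (shear φ z hφ).toLinearMap) := by
    intro y' hy' hall
    obtain ⟨y, hy, rfl⟩ := hy'
    have : y = 0 := by
      apply hW y hy
      intro x hx
      have := hall (shear φ z hφ x) ⟨x, hx, rfl⟩
      rw [← hpol x hx y hy]
      exact this
    rw [this]
    exact map_zero _
  exact exists_omega_nd Q hQ (Or.inr (by omega)) (by omega) W _ hW hW'
    ((shear φ z hφ).submoduleMap W) (fun u => hpres u u.2)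

/-- for fields with at most three elements, the stabiliser of a hyperbolic plane is not maximal
in `Ω`: it fixes the line of vectors of norm one in the plane. -/
theorem plus_plane_not_max (hQ : (polarBilin Q).Nondegenerate) (hq : Fintype.card F ≤ 3)
    (hn : 5 ≤ Fintype.card ι) (e f : ι → F) (hQe : Q e = 0) (hQf : Q f = 0)
    (hef : polar (⇑Q) e f = 1) :
    ∃ K : Subgroup (GL ι F),
      Cfsg.Geo.subspaceStabilizer (Submodule.span F {e, f}) ⊓ Cfsg.Geo.omegaGL ⇑Q < K ∧
        K < Cfsg.Geo.omegaGL ⇑Q := by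
  classical
  set W := Submodule.span F {e, f} with hWdef
  set d := e + f with hd
  have hfe : polar (⇑Q) f e = 1 := by rw [polar_comm]; exact hef
  have heW : e ∈ W := Submodule.subset_span (by simp)
  have hfW : f ∈ W := Submodule.subset_span (by simp)
  have hdW : d ∈ W := W.add_mem heW hfW
  have hQd : Q d = 1 := by rw [hd, Q_add_polar, hQe, hQf, hef]; ring
  -- a singular vector orthogonal to the plane
  obtain ⟨v, hv0, hQv⟩ := exists_singular (Q.comp (hypCompl Q e f).subtype)
    (hypCompl_nondeg Q hQ hQe hQf hef) (by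
      have := hypCompl_finrank Q hQ hQe hQf hef
      rw [Module.finrank_fintype_fun_eq_card] at this
      omega)
  set z : ι → F := (v : ι → F) with hzdef
  have hz0 : z ≠ 0 := fun h => hv0 (Subtype.ext h)
  have hz : Q z = 0 := hQv
  have hze : polar (⇑Q) e z = 0 := hypCompl_left Q e f v
  have hzf : polar (⇑Q) f z = 0 := hypCompl_right Q e f v
  have hzW : z ∉ W := by
    intro hzW
    obtain ⟨a, b, hab⟩ := Submodule.mem_span_pair.mp hzW
    obtain ⟨c1, c2⟩ := hyp_pair_coeffs Q hQe hQf hef a b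
    rw [hab, hze] at c1
    rw [hab, hzf] at c2
    apply hz0
    rw [← hab, ← c1, ← c2]
    simp
  -- units square to one
  have hunit : ∀ a : F, a ≠ 0 → a * a = 1 := by
    intro a ha
    have h1 := FiniteField.pow_card_sub_one_eq_one a ha
    have h2 : 2 ≤ Fintype.card F := Fintype.one_lt_card
    have h3 : Fintype.card F = 2 ∨ Fintype.card F = 3 := by omega
    rcases h3 with h3 | h3
    · rw [h3] at h1
      have : a = 1 := by simpa using h1
      rw [this, mul_one]
    · rw [h3] at h1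
      have : a ^ 2 = 1 := h1
      rw [← pow_two]
      exact this
  -- vectors of norm one in the plane
  have hW1 : ∀ x ∈ W, Q x = 1 → x ∈ Submodule.span F {d} := by
    intro x hx hQx
    obtain ⟨a, b, rfl⟩ := Submodule.mem_span_pair.mp hx
    rw [Q_comb2, hQe, hQf, hef] at hQx
    have hab : a * b = 1 := by linear_combination hQx
    have ha : a ≠ 0 := by
      rintro rfl
      rw [zero_mul] at hab
      exact zero_ne_one hab
    have hb : b = a := by
      have := hunit a ha
      have h3 : a * b = a * a := by rw [hab, this]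
      exact mul_left_cancel₀ ha h3
    rw [hb, ← smul_add]
    exact Submodule.smul_mem _ _ (Submodule.mem_span_singleton_self d)
  refine ⟨Cfsg.Geo.subspaceStabilizer (Submodule.span F {d}) ⊓ Cfsg.Geo.omegaGL ⇑Q, ?_, ?_⟩
  · apply inf_omega_lt_inf_omega
    · intro h _ hhW
      rw [mem_subspaceStabilizer_iff] at hhW ⊢
      apply gmap_eq_of_le
      rw [gmap_span_singleton, Submodule.span_singleton_le_iff_mem]
      apply hW1
      · rw [← hhW]
        exact (mem_gmap h W _).mpr ⟨d, hdW, rfl⟩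
      · rw [Q_iact, hQd]
    · -- a shear fixing `d`
      set φ₁ : (ι → F) →ₗ[F] F := polarBilin Q (f - e) with hφ₁
      have hφ₁a : ∀ x, φ₁ x = polar (⇑Q) f x - polar (⇑Q) e x := by
        intro x
        show polar (⇑Q) (f - e) x = _
        rw [polar_sub_left]
      have hφ₁z : φ₁ z = 0 := by rw [hφ₁a, hzf, hze, sub_zero]
      obtain ⟨hpres, g, hg, hgW⟩ := plane_key Q hQ hn e f hQe hQf hef φ₁ z hφ₁z hz hze hzf
      have hTd : shear φ₁ z hφ₁z d = d := by
        rw [shear_apply, hφ₁a, hd, polar_add_right, polar_add_right, polar_self', polar_self', hQe,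
          hQf, hfe, hef]
        simp
      have hTe : shear φ₁ z hφ₁z e = e + z := by
        rw [shear_apply, hφ₁a, polar_self', hQe, hfe]
        simp
      refine ⟨g, hg, ?_, ?_⟩
      · rw [mem_subspaceStabilizer_iff]
        apply gmap_eq_of_le
        rw [gmap_span_singleton, Submodule.span_singleton_le_iff_mem]
        have h1 : iact g d ∈ gmap g W := (mem_gmap g W _).mpr ⟨d, hdW, rfl⟩
        rw [hgW] at h1
        obtain ⟨x, hx, hxe⟩ := h1
        have hxe' : shear φ₁ z hφ₁z x = iact g d := hxe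
        have hQx : Q x = 1 := by
          rw [← hpres x hx, hxe', Q_iact, hQd]
        obtain ⟨c, rfl⟩ := Submodule.mem_span_singleton.mp (hW1 x hx hQx)
        rw [← hxe', map_smul, hTd]
        exact Submodule.smul_mem _ _ (Submodule.mem_span_singleton_self d)
      · rw [mem_subspaceStabilizer_iff]
        intro hcon
        rw [hgW] at hcon
        have h1 : shear φ₁ z hφ₁z e ∈ W := by
          rw [← hcon]
          exact ⟨e, heW, rfl⟩
        rw [hTe] at h1
        apply hzW
        have := W.sub_mem h1 heW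
        rwa [add_sub_cancel_left] at this
  · apply inf_omega_lt_omega
    set φ₂ : (ι → F) →ₗ[F] F := polarBilin Q f with hφ₂
    have hφ₂a : ∀ x, φ₂ x = polar (⇑Q) f x := fun x => rfl
    have hφ₂z : φ₂ z = 0 := by rw [hφ₂a, hzf]
    obtain ⟨hpres, g, hg, hgW⟩ := plane_key Q hQ hn e f hQe hQf hef φ₂ z hφ₂z hz hze hzf
    refine ⟨g, hg, ?_⟩
    rw [mem_subspaceStabilizer_iff]
    intro hcon
    have h0 : iact g d ∈ Submodule.span F {d} := by
      rw [← hcon]
      exact (mem_gmap g _ _).mpr ⟨d, Submodule.mem_span_singleton_self d, rfl⟩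
    obtain ⟨c, hc⟩ := Submodule.mem_span_singleton.mp h0
    have h1 : iact g d ∈ gmap g W := (mem_gmap g W _).mpr ⟨d, hdW, rfl⟩
    rw [hgW] at h1
    obtain ⟨x, hx, hxe⟩ := h1
    have hxe' : x + polar (⇑Q) f x • z = iact g d := hxe
    have hfx : polar (⇑Q) f x = 0 := by
      by_contra hne
      apply hzW
      have h3 : polar (⇑Q) f x • z = c • d - x := by
        rw [hc, ← hxe']
        abel
      have h4 : polar (⇑Q) f x • z ∈ W := by
        rw [h3]
        exact W.sub_mem (W.smul_mem _ hdW) hx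
      have := W.smul_mem (polar (⇑Q) f x)⁻¹ h4
      rwa [smul_smul, inv_mul_cancel₀ hne, one_smul] at this
    rw [hfx, zero_smul, add_zero] at hxe'
    have hc0 : c = 0 := by
      have : polar (⇑Q) f (c • d) = c := by
        rw [polar_smul_right, hd, polar_add_right, polar_self', hQf, hfe]
        simp
      rw [hc, ← hxe', hfx] at this
      exact this.symm
    have hQ1 : Q (iact g d) = 1 := by rw [Q_iact, hQd]
    rw [← hc, hc0, zero_smul, QuadraticMap.map_zero] at hQ1
    exact zero_ne_one hQ1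

end geoB

end Cfsg.Agent.helper13

namespace Cfsg.Agent.helper13

open Module Matrix QuadraticMap

section geoC
variable {F : Type*} [Field F] [Fintype F] {ι : Type} [Fintype ι] [DecidableEq ι]
variable (Q : QuadraticForm F (ι → F))

/-- the stabiliser of a plus-type plane is not maximal in `Ω` over fields with at most three
elements. -/
theorem plane_result (hQ : (polarBilin Q).Nondegenerate) (hq : Fintype.card F ≤ 3)
    (hn : 5 ≤ Fintype.card ι) (W : Submodule F (ι → F)) (hdim : finrank F W = 2)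
    (hW : Cfsg.Geo.IsNondegenerateOn (QuadraticMap.polar ⇑Q) W)
    (hWp : Cfsg.Geo.IsPlusTypeOn ⇑Q W) :
    ∃ K : Subgroup (GL ι F),
      Cfsg.Geo.subspaceStabilizer W ⊓ Cfsg.Geo.omegaGL ⇑Q < K ∧ K < Cfsg.Geo.omegaGL ⇑Q := by
  obtain ⟨U, hUW, hUts, hUdim⟩ := hWp
  have hU1 : finrank F U = 1 := by omega
  have hUne : U ≠ ⊥ := by
    intro h
    rw [h, finrank_bot] at hU1
    omega
  obtain ⟨e, heU, he0⟩ := Submodule.exists_mem_ne_zero_of_ne_bot hUne
  have hQe : Q e = 0 := hUts e heU
  have hW' := nondegOn_of_geo Q W hW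
  obtain ⟨f, hfW, hQf, hef⟩ := exists_partner_in Q W hW' e (hUW heU) he0 hQe
  have hWeq : Submodule.span F {e, f} = W := by
    apply Submodule.eq_of_le_of_finrank_eq
    · rw [Submodule.span_le]
      intro x hx
      simp only [Set.mem_insert_iff, Set.mem_singleton_iff] at hx
      rcases hx with rfl | rfl
      · exact hUW heU
      · exact hfW
    · rw [hyp_pair_finrank Q hQe hQf hef, hdim]
  rw [← hWeq]
  exact plus_plane_not_max Q hQ hq hn e f hQe hQf hef

end geoC

end Cfsg.Agent.helper13
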