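import Mathlib
import Cfsg.Agent.Lib_helper13_Uni
import Cfsg.Agent.Lib_helper13_MaxTS2

set_option autoImplicit false

namespace Cfsg.Agent.helper13

open Matrix QuadraticMap Module

section mtstrans
variable {F : Type*} [Field F] {ι : Type} [Fintype ι] [DecidableEq ι]
variable (Q : QuadraticForm F (ι → F))

/-- adjacent maximal totally singular subspaces are swapped by a reflection, whose vector can
be chosen with any prescribed nonzero value of `Q`. -/
theorem exists_refl_adjacent (hnd : (polarBilin Q).Nondegenerate) {m : ℕ}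
    (hV : finrank F (ι → F) = 2 * m) {U X : Submodule F (ι → F)} (hU : MTS Q m U)
    (hX : MTS Q m X) (hadj : finrank F ↥(U ⊓ X) + 1 = m) (c : F) (hc : c ≠ 0) :
    ∃ w, ∃ hw : Q w ≠ 0, Q w = c ∧ gmap (reflG Q w hw) U = X := by
  have hne : ¬ U ≤ X := by
    intro hle
    have := hU.eq_of_le hX hle
    rw [this, inf_idem, hX.rk] at hadj
    omega
  obtain ⟨u, huU, huX⟩ := SetLike.not_le_iff_exists.mp hne
  have huX' : u ∉ orthQ Q X := by rw [hX.orth_eq hnd hV]; exact huX
  rw [mem_orth_iff] at huX'
  push_neg at huX'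
  obtain ⟨x', hx'X, hpol⟩ := huX'
  have hpol' : polar (⇑Q) u x' ≠ 0 := by rw [polar_comm]; exact hpol
  have hx'U : x' ∉ U := by
    intro h
    exact hpol' (hU.ts.polar_zero huU h)
  set lam : F := -c * (polar (⇑Q) u x')⁻¹ with hlam
  have hlam0 : lam ≠ 0 := mul_ne_zero (neg_ne_zero.mpr hc) (inv_ne_zero hpol')
  set w : ι → F := u - lam • x' with hw_def
  have hQw : Q w = c := by
    have h1 : w = u + (-lam) • x' := by rw [hw_def, neg_smul, sub_eq_add_neg]
    rw [h1, Q_add_polar, QuadraticMap.map_smul, hU.ts u huU, hX.ts x' hx'X, polar_smul_right,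
      smul_eq_mul, smul_eq_mul, hlam]
    field_simp
    ring
  have hw : Q w ≠ 0 := by rw [hQw]; exact hc
  refine ⟨w, hw, hQw, ?_⟩
  have hwu : polar (⇑Q) w u = -lam * polar (⇑Q) u x' := by
    rw [hw_def, polar_sub_left, polar_smul_left, hU.ts.polar_zero huU huU, polar_comm (⇑Q) x' u,
      smul_eq_mul]
    ring
  have hru : iact (reflG Q w hw) u = lam • x' := by
    rw [iact_reflG, hwu, hQw]
    have : c⁻¹ * (-lam * polar (⇑Q) u x') = 1 := by
      rw [hlam]
      field_simp
    rw [this, one_smul, hw_def]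
    abel
  have hfix : ∀ h ∈ U ⊓ X, iact (reflG Q w hw) h = h := by
    intro h hh
    apply iact_reflG_of_polar
    rw [hw_def, polar_sub_left, polar_smul_left, hU.ts.polar_zero huU hh.1,
      hX.ts.polar_zero hx'X hh.2]
    simp
  have hx'H : x' ∉ U ⊓ X := fun h => hx'U h.1
  have hXeq : (U ⊓ X) ⊔ Submodule.span F {x'} = X := by
    apply Submodule.eq_of_le_of_finrank_eq
    · apply sup_le inf_le_right
      rw [Submodule.span_singleton_le_iff_mem]
      exact hx'X
    · rw [Submodule.finrank_sup_span_singleton hx'H, hadj, hX.rk]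
  symm
  apply Submodule.eq_of_le_of_finrank_eq
  · rw [← hXeq]
    apply sup_le
    · intro h hh
      rw [mem_gmap]
      exact ⟨h, hh.1, hfix h hh⟩
    · rw [Submodule.span_singleton_le_iff_mem, mem_gmap]
      refine ⟨lam⁻¹ • u, U.smul_mem _ huU, ?_⟩
      rw [iact_smul, hru, smul_smul, inv_mul_cancel₀ hlam0, one_smul]
  · rw [finrank_gmap, hU.rk, hX.rk]

/-- any two maximal totally singular subspaces are related by a product of reflections in
vectors of a prescribed nonzero value. -/
theorem exists_list_mts (hnd : (polarBilin Q).Nondegenerate) {m : ℕ}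
    (hV : finrank F (ι → F) = 2 * m) (c : F) (hc : c ≠ 0) :
    ∀ (d : ℕ) (U W : Submodule F (ι → F)), MTS Q m U → MTS Q m W →
      m - finrank F ↥(U ⊓ W) = d →
      ∃ vs : List (ι → F), (∀ v ∈ vs, Q v = c) ∧ gmap (prodR Q vs) U = W := by
  intro d
  induction d using Nat.strong_induction_on with
  | _ d ih =>
    intro U W hU hW hd
    by_cases hle : W ≤ U
    · have := hW.eq_of_le hU hle
      refine ⟨[], fun v hv => absurd hv (List.not_mem_nil), ?_⟩
      rw [prodR_nil, gmap_one, this]
    · obtain ⟨w, hwW, hwU⟩ := SetLike.not_le_iff_exists.mp hle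
      have hQw : Q w = 0 := hW.ts w hwW
      obtain ⟨X', hX', hwX', hleX', hadj⟩ := exists_adjacent hnd hV hU hQw hwU
      have hwUW : w ∉ U ⊓ W := fun h => hwU h.1
      have hsub : (U ⊓ W) ⊔ Submodule.span F {w} ≤ X' ⊓ W := by
        apply sup_le
        · intro x hx
          have hxo : x ∈ orthQ Q (Submodule.span F {w}) := by
            rw [mem_orth_singleton_iff]
            exact hW.ts.polar_zero hwW hx.2
          exact ⟨hleX' ⟨hx.1, hxo⟩, hx.2⟩
        · rw [Submodule.span_singleton_le_iff_mem]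
          exact ⟨hwX', hwW⟩
      have h1 := Submodule.finrank_mono hsub
      rw [Submodule.finrank_sup_span_singleton hwUW] at h1
      have h2 : finrank F ↥(X' ⊓ W) ≤ m := mts_inf_le hX'
      have h3 : finrank F ↥(U ⊓ W) ≤ m := mts_inf_le hU
      obtain ⟨vs, hvs, hg⟩ := ih (m - finrank F ↥(X' ⊓ W)) (by omega) X' W hX' hW rfl
      have hadj' : finrank F ↥(U ⊓ X') + 1 = m := by rw [inf_comm]; exact hadj
      obtain ⟨a, ha, hQa, hr⟩ := exists_refl_adjacent Q hnd hV hU hX' hadj' c hc
      refine ⟨vs ++ [a], ?_, ?_⟩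
      · intro v hv
        rcases List.mem_append.mp hv with h | h
        · exact hvs v h
        · rw [List.mem_singleton] at h
          rw [h]
          exact hQa
      · rw [prodR_append, prodR_cons, prodR_nil, mul_one, reflG'_of Q a ha, gmap_mul, hr, hg]

end mtstrans

section mtstrans2
variable {F : Type*} [Field F] [Fintype F] [DecidableEq F] {ι : Type} [Fintype ι] [DecidableEq ι]
variable (Q : QuadraticForm F (ι → F))

/-- the commutator subgroup is transitive on each class of maximal totally singular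
subspaces. -/
theorem exists_omega_mts (hnd : (polarBilin Q).Nondegenerate) {m : ℕ}
    (hV : finrank F (ι → F) = 2 * m) (hne : Fintype.card F ≠ 2 ∨ Fintype.card ι ≠ 4)
    (U W : Submodule F (ι → F)) (hU : MTS Q m U) (hW : MTS Q m W)
    (he : Even (m - finrank F ↥(U ⊓ W))) :
    ∃ g : ↥(Cfsg.isometryGroup F ⇑Q), g ∈ commutator ↥(Cfsg.isometryGroup F ⇑Q) ∧
      gmap g U = W := by
  obtain ⟨vs, hvs, hg⟩ := exists_list_mts Q hnd hV 1 one_ne_zero _ U W hU hW rfl
  have hvs' : ∀ v ∈ vs, Q v ≠ 0 := by
    intro v hv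
    rw [hvs v hv]
    exact one_ne_zero
  refine ⟨prodR Q vs, ?_, hg⟩
  obtain ⟨θ, δ, hθ, hδ⟩ := exists_theta_delta Q hnd
  rw [mem_commutator_iff_all Q hnd hne θ δ hθ hδ]
  constructor
  · apply Units.ext
    rw [theta_prodR Q θ hθ vs hvs']
    have : (vs.map (fun v => Q v)).prod = 1 := by
      apply List.prod_eq_one
      intro x hx
      obtain ⟨v, hv, rfl⟩ := List.mem_map.mp hx
      exact hvs v hv
    rw [this, map_one]
    rfl
  · have e : δ = clsChar Q hnd hV U hU := by
      apply hom_ext_all Q hnd hne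
      intro w hw
      rw [hδ w hw, clsChar_reflG]
    rw [e, clsChar_apply, hg]
    exact he.neg_one_pow

end mtstrans2

end Cfsg.Agent.helper13
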