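import Mathlib
import Cfsg.Agent.Lib_helper13_GeoBridge
import Cfsg.Agent.Lib_helper13_MtsTrans

set_option autoImplicit false

namespace Cfsg.Agent.helper13

open Module Matrix QuadraticMap

section geoD
variable {F : Type*} [Field F] [Fintype F] {ι : Type} [Fintype ι] [DecidableEq ι]
variable (Q : QuadraticForm F (ι → F))

/-- two reflections in vectors of the same norm multiply to an element of `Ω`. -/
theorem reflG_pair_mem_comm (hQ : (polarBilin Q).Nondegenerate)
    (hne : Fintype.card F ≠ 2 ∨ Fintype.card ι ≠ 4) (w w' : ι → F) (hw : Q w ≠ 0)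
    (hw' : Q w' ≠ 0) (h : Q w' = Q w) :
    reflG Q w' hw' * reflG Q w hw ∈ commutator ↥(Cfsg.isometryGroup F ⇑Q) := by
  classical
  obtain ⟨θ, δ, hθ, hδ⟩ := exists_theta_delta Q hQ
  rw [mem_commutator_iff_all Q hQ hne θ δ hθ hδ]
  constructor
  · have e : θ (reflG Q w' hw') = θ (reflG Q w hw) := by
      apply Units.ext
      rw [hθ w' hw', hθ w hw, h]
    rw [map_mul, e]
    exact Int.units_mul_self _
  · rw [map_mul, hδ w' hw', hδ w hw]
    rfl

omit [Fintype F] in
/-- action of the product of the reflections in `w + u` and `w` on vectors orthogonal to the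
singular vector `u`. -/
theorem iact_pair (w u : ι → F) (hw : Q w ≠ 0) (hw' : Q (w + u) ≠ 0) (hu : Q u = 0)
    (hwu : polar (⇑Q) w u = 0) (x : ι → F) (hux : polar (⇑Q) u x = 0) :
    iact (reflG Q (w + u) hw' * reflG Q w hw) x = x + ((Q w)⁻¹ * polar (⇑Q) w x) • u := by
  have hQ' : Q (w + u) = Q w := by rw [Q_add_polar, hu, hwu]; ring
  have huw : polar (⇑Q) u w = 0 := by rw [polar_comm]; exact hwu
  rw [iact_mul, iact_reflG, iact_reflG, hQ']
  set c := (Q w)⁻¹ * polar (⇑Q) w x with hc
  have hcQ : c * Q w = polar (⇑Q) w x := by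
    rw [hc, mul_comm, ← mul_assoc, mul_inv_cancel₀ hw, one_mul]
  have h1 : polar (⇑Q) (w + u) (x - c • w) = - polar (⇑Q) w x := by
    rw [polar_add_left, polar_sub_right, polar_sub_right, polar_smul_right, polar_smul_right,
      polar_self', hux, huw]
    simp only [smul_eq_mul, mul_zero, sub_zero, zero_sub]
    linear_combination (-2 : F) * hcQ
  rw [h1, mul_neg, ← hc]
  module

omit [Fintype F] in
theorem exists_other_hyperplane (hnd : (polarBilin Q).Nondegenerate) {m : ℕ}
    (hV : finrank F (ι → F) = 2 * m) (M : Submodule F (ι → F)) (hM : MTS Q m M)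
    (W : Submodule F (ι → F)) (hWne : W ≠ ⊥) (hWM : W ≤ M) :
    ∃ W' : Submodule F (ι → F), W' ≤ M ∧ finrank F W' + 1 = m ∧ W' ≠ W := by
  obtain ⟨w₁, hw₁W, hw₁0⟩ := Submodule.exists_mem_ne_zero_of_ne_bot hWne
  obtain ⟨y, hy⟩ : ∃ y, polar (⇑Q) y w₁ ≠ 0 := by
    by_contra hcon
    push Not at hcon
    apply hw₁0
    exact hnd.2 w₁ (fun y => hcon y)
  have hy0 : y ≠ 0 := by
    rintro rfl
    apply hy
    unfold polar
    simp
  set H := orthQ Q (Submodule.span F {y}) with hHdef
  have hH : finrank F H = 2 * m - 1 := by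
    rw [hHdef, orthQ, LinearMap.BilinForm.finrank_orthogonal hnd, hV, finrank_span_singleton hy0]
  refine ⟨M ⊓ H, inf_le_left, ?_, ?_⟩
  · have hlt : M ⊓ H < M := by
      apply lt_of_le_of_ne inf_le_left
      intro heq
      have hle : M ≤ H := inf_eq_left.mp heq
      exact hy ((mem_orth_singleton_iff Q y w₁).mp (hle (hWM hw₁W)))
    have h1 := Submodule.finrank_lt_finrank_of_lt hlt
    rw [hM.rk] at h1
    have h2 := Submodule.finrank_sup_add_finrank_inf_eq M H
    have h3 : finrank F ↥(M ⊔ H) ≤ 2 * m := by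
      rw [← hV]
      exact Submodule.finrank_le _
    rw [hM.rk, hH] at h2
    omega
  · intro heq
    have : w₁ ∈ M ⊓ H := by rw [heq]; exact hw₁W
    exact hy ((mem_orth_singleton_iff Q y w₁).mp this.2)

omit [Fintype F] in
/-- an element of `Ω` cannot move a maximal totally singular subspace to an adjacent one. -/
theorem not_adjacent_of_comm (hnd : (polarBilin Q).Nondegenerate) {m : ℕ}
    (hV : finrank F (ι → F) = 2 * m) (h : ↥(Cfsg.isometryGroup F ⇑Q))
    (hh : h ∈ commutator ↥(Cfsg.isometryGroup F ⇑Q)) (M : Submodule F (ι → F))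
    (hM : MTS Q m M) (H : Submodule F (ι → F)) (hHM : H ≤ M) (hHM' : H ≤ gmap h M)
    (hHm : finrank F H + 1 = m) : gmap h M = M := by
  by_contra hne'
  have hM' : MTS Q m (gmap h M) := gmap_mts h hM
  have h1 : finrank F ↥(M ⊓ gmap h M) = m - 1 := by
    have hle : H ≤ M ⊓ gmap h M := le_inf hHM hHM'
    have h2 := Submodule.finrank_mono hle
    have hlt : M ⊓ gmap h M < M := by
      apply lt_of_le_of_ne inf_le_left
      intro heq
      have : M ≤ gmap h M := inf_eq_left.mp heq
      exact hne' (hM.eq_of_le hM' this).symm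
    have h3 := Submodule.finrank_lt_finrank_of_lt hlt
    rw [hM.rk] at h3
    omega
  have hc : clsChar Q hnd hV M hM h = 1 :=
    MonoidHom.mem_ker.mp (Abelianization.commutator_subset_ker _ hh)
  rw [clsChar_apply, h1] at hc
  have : m - (m - 1) = 1 := by omega
  rw [this, pow_one] at hc
  exact absurd hc (by decide)

/-- the stabiliser of a totally singular subspace of dimension `m - 1` is not maximal in `Ω`
for a form of plus type in dimension `2m`. -/
theorem submax_not_max (hnd : (polarBilin Q).Nondegenerate) {m : ℕ}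
    (hV : finrank F (ι → F) = 2 * m) (hm : 3 ≤ m) (U₀ : Submodule F (ι → F))
    (hU₀ : MTS Q m U₀) (W : Submodule F (ι → F)) (hW : TS Q W) (hWm : finrank F W + 1 = m) :
    ∃ K : Subgroup (GL ι F),
      Cfsg.Geo.subspaceStabilizer W ⊓ Cfsg.Geo.omegaGL ⇑Q < K ∧ K < Cfsg.Geo.omegaGL ⇑Q := by
  classical
  obtain ⟨M₁, M₂, hM₁, hM₂, hWM₁, hWM₂, hne12, -⟩ := exists_two_through hnd hV hU₀ hW hWm
  have hcard : Fintype.card ι = 2 * m := by rw [← hV, Module.finrank_fintype_fun_eq_card]
  have hne : Fintype.card F ≠ 2 ∨ Fintype.card ι ≠ 4 := Or.inr (by omega)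
  have hWne : W ≠ ⊥ := by
    intro h
    rw [h, finrank_bot] at hWm
    omega
  refine ⟨Cfsg.Geo.subspaceStabilizer M₁ ⊓ Cfsg.Geo.omegaGL ⇑Q, ?_, ?_⟩
  · apply inf_omega_lt_inf_omega
    · intro h hh hhW
      rw [mem_subspaceStabilizer_iff] at hhW ⊢
      have hWle : W ≤ gmap h M₁ := by
        have : gmap h W ≤ gmap h M₁ := Submodule.map_mono hWM₁
        rwa [hhW] at this
      exact not_adjacent_of_comm Q hnd hV h hh M₁ hM₁ W hWM₁ hWle hWm
    · obtain ⟨W', hW'M, hW'm, hW'ne⟩ := exists_other_hyperplane Q hnd hV M₁ hM₁ W hWne hWM₁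
      obtain ⟨h, hh, hhW⟩ := exists_omega_ts Q hnd hne W W' (m - 1) (by omega) (by omega)
        (by omega) hW (hM₁.ts.mono hW'M)
      refine ⟨h, hh, ?_, ?_⟩
      · rw [mem_subspaceStabilizer_iff]
        have hWle : W' ≤ gmap h M₁ := by
          have : gmap h W ≤ gmap h M₁ := Submodule.map_mono hWM₁
          rwa [hhW] at this
        exact not_adjacent_of_comm Q hnd hV h hh M₁ hM₁ W' hW'M hWle hW'm
      · rw [mem_subspaceStabilizer_iff, hhW]
        exact hW'ne
  · apply inf_omega_lt_omega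
    obtain ⟨W'', hW''M, hW''m, hW''ne⟩ := exists_other_hyperplane Q hnd hV M₂ hM₂ W hWne hWM₂
    obtain ⟨h, hh, hhW⟩ := exists_omega_ts Q hnd hne W W'' (m - 1) (by omega) (by omega)
      (by omega) hW (hM₂.ts.mono hW''M)
    refine ⟨h, hh, ?_⟩
    rw [mem_subspaceStabilizer_iff]
    intro hcon
    have h1 : W'' ≤ M₁ := by
      have : gmap h W ≤ gmap h M₁ := Submodule.map_mono hWM₁
      rwa [hhW, hcon] at this
    have hinf : W = M₁ ⊓ M₂ := by
      apply Submodule.eq_of_le_of_finrank_eq (le_inf hWM₁ hWM₂)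
      have hlt : M₁ ⊓ M₂ < M₁ := by
        apply lt_of_le_of_ne inf_le_left
        intro heq
        have : M₁ ≤ M₂ := inf_eq_left.mp heq
        exact hne12 (hM₁.eq_of_le hM₂ this)
      have h3 := Submodule.finrank_lt_finrank_of_lt hlt
      have h2 := Submodule.finrank_mono (le_inf hWM₁ hWM₂)
      rw [hM₁.rk] at h3
      omega
    have h2 : W'' ≤ W := by
      rw [hinf]
      exact le_inf h1 hW''M
    exact hW''ne (Submodule.eq_of_le_of_finrank_eq h2 (by omega))

/-- for `m` odd, the stabiliser of a pair of complementary maximal totally singular subspaces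
is not maximal in `Ω`. -/
theorem ts_pair_not_max (hnd : (polarBilin Q).Nondegenerate) {m : ℕ}
    (hV : finrank F (ι → F) = 2 * m) (hm : 3 ≤ m) (hmo : Odd m)
    (D : Fin 2 → Submodule F (ι → F)) (hD : ∀ i, MTS Q m (D i)) (hdisj : D 0 ⊓ D 1 = ⊥) :
    ∃ K : Subgroup (GL ι F),
      Cfsg.Geo.decompositionStabilizer D ⊓ Cfsg.Geo.omegaGL ⇑Q < K ∧
        K < Cfsg.Geo.omegaGL ⇑Q := by
  classical
  have hcard : Fintype.card ι = 2 * m := by rw [← hV, Module.finrank_fintype_fun_eq_card]
  have hne : Fintype.card F ≠ 2 ∨ Fintype.card ι ≠ 4 := Or.inr (by omega)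
  have h01 : ∀ j : Fin 2, j = 0 ∨ j = 1 := by decide
  have hD0ne : D 0 ≠ ⊥ := by
    intro h
    have := (hD 0).rk
    rw [h, finrank_bot] at this
    omega
  have hD01 : D 0 ≠ D 1 := by
    intro h
    rw [← h, inf_idem] at hdisj
    exact hD0ne hdisj
  have hkey : ∀ (h : ↥(Cfsg.isometryGroup F ⇑Q)) (i : Fin 2),
      (D i).map (Matrix.toLin' ((h : GL ι F) : Matrix ι ι F)) = gmap h (D i) := fun h i => rfl
  have hswap : ∀ h : ↥(Cfsg.isometryGroup F ⇑Q), h ∈ commutator ↥(Cfsg.isometryGroup F ⇑Q) →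
      gmap h (D 0) ≠ D 1 := by
    intro h hh heq
    have hc : clsChar Q hnd hV (D 0) (hD 0) h = 1 :=
      MonoidHom.mem_ker.mp (Abelianization.commutator_subset_ker _ hh)
    rw [clsChar_apply, heq, hdisj, finrank_bot, Nat.sub_zero, hmo.neg_one_pow] at hc
    exact absurd hc (by decide)
  refine ⟨Cfsg.Geo.subspaceStabilizer (D 0) ⊓ Cfsg.Geo.omegaGL ⇑Q, ?_, ?_⟩
  · apply inf_omega_lt_inf_omega
    · intro h hh hhD
      obtain ⟨σ, hσ⟩ := hhD
      rw [mem_subspaceStabilizer_iff]
      have h0 := hσ 0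
      rw [hkey] at h0
      rcases h01 (σ 0) with e0 | e0
      · rw [h0, e0]
      · rw [e0] at h0
        exact absurd h0 (hswap h hh)
    · -- a unipotent element
      obtain ⟨u, huD, hu0⟩ := Submodule.exists_mem_ne_zero_of_ne_bot hD0ne
      set H := orthQ Q (Submodule.span F {u}) with hHdef
      have hH : finrank F H = 2 * m - 1 := by
        rw [hHdef, orthQ, LinearMap.BilinForm.finrank_orthogonal hnd, hV,
          finrank_span_singleton hu0]
      have hne' : D 1 ⊓ H ≠ ⊥ := by
        intro hbot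
        have h2 := Submodule.finrank_sup_add_finrank_inf_eq (D 1) H
        have h3 : finrank F ↥(D 1 ⊔ H) ≤ 2 * m := by
          rw [← hV]
          exact Submodule.finrank_le _
        rw [hbot, finrank_bot, (hD 1).rk, hH] at h2
        omega
      obtain ⟨x, hx, hx0⟩ := Submodule.exists_mem_ne_zero_of_ne_bot hne'
      have hxD : x ∈ D 1 := hx.1
      have hux : polar (⇑Q) u x = 0 := (mem_orth_singleton_iff Q u x).mp hx.2
      obtain ⟨a, haD, hax⟩ : ∃ a ∈ D 0, polar (⇑Q) a x ≠ 0 := by
        by_contra hcon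
        push Not at hcon
        have hx' : x ∈ orthQ Q (D 0) := (mem_orth_iff Q (D 0) x).mpr hcon
        rw [(hD 0).orth_eq hnd hV] at hx'
        have : x ∈ D 0 ⊓ D 1 := ⟨hx', hxD⟩
        rw [hdisj] at this
        exact hx0 ((Submodule.mem_bot F).mp this)
      have hQx : Q x = 0 := (hD 1).ts x hxD
      have hQa : Q a = 0 := (hD 0).ts a haD
      have hQu : Q u = 0 := (hD 0).ts u huD
      set w := x + a with hwdef
      have hQw : Q w = polar (⇑Q) a x := by
        rw [hwdef, Q_add_polar, hQx, hQa, polar_comm]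
        ring
      have hw : Q w ≠ 0 := by rw [hQw]; exact hax
      have hwu : polar (⇑Q) w u = 0 := by
        rw [hwdef, polar_add_left, (hD 0).ts.polar_zero haD huD, polar_comm, hux]
        ring
      have hQ' : Q (w + u) = Q w := by rw [Q_add_polar, hQu, hwu]; ring
      have hw' : Q (w + u) ≠ 0 := by rw [hQ']; exact hw
      have hwx : polar (⇑Q) w x = polar (⇑Q) a x := by
        rw [hwdef, polar_add_left, polar_self', hQx]
        ring
      set h := reflG Q (w + u) hw' * reflG Q w hw with hhdef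
      have hh : h ∈ commutator ↥(Cfsg.isometryGroup F ⇑Q) :=
        reflG_pair_mem_comm Q hnd hne w (w + u) hw hw' hQ'
      have hact : ∀ y, polar (⇑Q) u y = 0 →
          iact h y = y + ((Q w)⁻¹ * polar (⇑Q) w y) • u :=
        fun y hy => iact_pair Q w u hw hw' hQu hwu y hy
      have hh0 : gmap h (D 0) = D 0 := by
        apply gmap_eq_of_le
        intro y' hy'
        obtain ⟨y, hy, rfl⟩ := (mem_gmap h (D 0) y').mp hy'
        rw [hact y ((hD 0).ts.polar_zero huD hy)]
        exact (D 0).add_mem hy ((D 0).smul_mem _ huD)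
      have hh1 : gmap h (D 1) ≠ D 1 := by
        intro hcon
        have h1 : iact h x ∈ D 1 := by
          rw [← hcon]
          exact (mem_gmap h (D 1) _).mpr ⟨x, hxD, rfl⟩
        rw [hact x hux, hwx] at h1
        have h2 : ((Q w)⁻¹ * polar (⇑Q) a x) • u ∈ D 1 := by
          have := (D 1).sub_mem h1 hxD
          rwa [add_sub_cancel_left] at this
        have hc : (Q w)⁻¹ * polar (⇑Q) a x ≠ 0 := mul_ne_zero (inv_ne_zero hw) hax
        have h3 : u ∈ D 1 := by
          have := (D 1).smul_mem ((Q w)⁻¹ * polar (⇑Q) a x)⁻¹ h2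
          rwa [smul_smul, inv_mul_cancel₀ hc, one_smul] at this
        have : u ∈ D 0 ⊓ D 1 := ⟨huD, h3⟩
        rw [hdisj] at this
        exact hu0 ((Submodule.mem_bot F).mp this)
      refine ⟨h, hh, (mem_subspaceStabilizer_iff Q h (D 0)).mpr hh0, ?_⟩
      rintro ⟨σ, hσ⟩
      have e0 : σ 0 = 0 := by
        rcases h01 (σ 0) with e0 | e0
        · exact e0
        · have h0 := hσ 0
          rw [hkey, e0, hh0] at h0
          exact absurd h0 hD01
      have e1 : σ 1 = 1 := by
        rcases h01 (σ 1) with e1 | e1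
        · have := σ.injective (e1.trans e0.symm)
          exact absurd this (by decide)
        · exact e1
      have h1 := hσ 1
      rw [hkey, e1] at h1
      exact hh1 h1
  · apply inf_omega_lt_omega
    obtain ⟨x₀, hx₀D, hx₀0⟩ := Submodule.exists_mem_ne_zero_of_ne_bot hD0ne
    have hD1ne : D 1 ≠ ⊥ := by
      intro h
      have := (hD 1).rk
      rw [h, finrank_bot] at this
      omega
    obtain ⟨x, hxD, hx0⟩ := Submodule.exists_mem_ne_zero_of_ne_bot hD1ne
    obtain ⟨h, hh, hhx⟩ := exists_omega_ts Q hnd hne (Submodule.span F {x₀})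
      (Submodule.span F {x}) 1 (by omega) (finrank_span_singleton hx₀0)
      (finrank_span_singleton hx0) (TS.span_singleton ((hD 0).ts x₀ hx₀D))
      (TS.span_singleton ((hD 1).ts x hxD))
    refine ⟨h, hh, ?_⟩
    rw [mem_subspaceStabilizer_iff]
    intro hcon
    have h1 : iact h x₀ ∈ D 0 := by
      rw [← hcon]
      exact (mem_gmap h (D 0) _).mpr ⟨x₀, hx₀D, rfl⟩
    have h2 : iact h x₀ ∈ D 1 := by
      have : iact h x₀ ∈ gmap h (Submodule.span F {x₀}) :=
        (mem_gmap h _ _).mpr ⟨x₀, Submodule.mem_span_singleton_self x₀, rfl⟩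
      rw [hhx] at this
      obtain ⟨c, hc⟩ := Submodule.mem_span_singleton.mp this
      rw [← hc]
      exact (D 1).smul_mem c hxD
    have h3 : iact h x₀ ∈ D 0 ⊓ D 1 := ⟨h1, h2⟩
    rw [hdisj] at h3
    have h4 : iact h x₀ = 0 := (Submodule.mem_bot F).mp h3
    have h5 := congrArg (iact h⁻¹) h4
    rw [iact_inv_iact, iact_zero] at h5
    exact hx₀0 h5

end geoD

end Cfsg.Agent.helper13
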