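import Mathlib
import Cfsg.Agent.Lib_helper13_SimpA

set_option autoImplicit false

namespace Cfsg.Agent.helper13

open Matrix QuadraticMap Module Cfsg.Agent.S0794
open scoped commutatorElement

section simpB
variable {F : Type*} [Field F] [Fintype F] [DecidableEq F] {ι : Type} [Fintype ι] [DecidableEq ι]
variable (Q : QuadraticForm F (ι → F))

omit [Fintype F] [DecidableEq F] in
/-- a nondegenerate subspace of codimension four orthogonal to a totally singular line. -/
theorem exists_compl_tsline (hQ : (polarBilin Q).Nondegenerate) (u v : ι → F) (hu : Q u = 0)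
    (hv : Q v = 0) (huv : polar (⇑Q) u v = 0) (hv0 : v ≠ 0) (hind : ∀ t : F, u ≠ t • v) :
    ∃ Y : Submodule F (ι → F), NondegOn Q Y ∧ finrank F Y + 4 = Fintype.card ι ∧
      ∀ y ∈ Y, polar (⇑Q) u y = 0 ∧ polar (⇑Q) v y = 0 := by
  obtain ⟨vs, hvs, hvvs⟩ := exists_hyp_pair Q hQ v hv0 hv
  have hX₁nd := hyp_nondeg Q ⊤ (nondegOn_top Q hQ) v vs Submodule.mem_top Submodule.mem_top hv hvs
    hvvs
  have hX₁rk := hyp_compl_finrank Q hQ ⊤ (nondegOn_top Q hQ) v vs Submodule.mem_top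
    Submodule.mem_top hv hvs hvvs
  rw [finrank_top, Module.finrank_fintype_fun_eq_card] at hX₁rk
  have hvu : polar (⇑Q) v u = 0 := by rw [polar_comm]; exact huv
  obtain ⟨u₁, hu₁def⟩ : ∃ u₁, u₁ = u - polar (⇑Q) vs u • v := ⟨_, rfl⟩
  have hu₁X : u₁ ∈ planeCompl Q ⊤ v vs := by
    rw [mem_planeCompl]
    refine ⟨Submodule.mem_top, ?_, ?_⟩
    · rw [hu₁def, polar_sub_right, polar_smul_right, polar_self', hv, hvu]
      simp
    · rw [hu₁def, polar_sub_right, polar_smul_right, polar_comm (⇑Q) vs v, hvvs]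
      simp
  have hQu₁ : Q u₁ = 0 := by
    have : u₁ = u + (-polar (⇑Q) vs u) • v := by rw [hu₁def, neg_smul, sub_eq_add_neg]
    rw [this, Q_add_polar, QuadraticMap.map_smul, hv, polar_smul_right, huv, hu]
    simp
  have hu₁0 : u₁ ≠ 0 := by
    intro h
    rw [hu₁def, sub_eq_zero] at h
    exact hind _ h
  obtain ⟨us, husX, hus, hu₁us⟩ := exists_partner_in Q _ hX₁nd u₁ hu₁X hu₁0 hQu₁
  have hYnd := hyp_nondeg Q _ hX₁nd u₁ us hu₁X husX hQu₁ hus hu₁us
  have hYrk := hyp_compl_finrank Q hQ _ hX₁nd u₁ us hu₁X husX hQu₁ hus hu₁us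
  refine ⟨planeCompl Q (planeCompl Q ⊤ v vs) u₁ us, hYnd, by omega, ?_⟩
  intro y hy
  obtain ⟨hyX, hu₁y, -⟩ := (mem_planeCompl Q _ u₁ us y).mp hy
  obtain ⟨-, hvy, -⟩ := (mem_planeCompl Q ⊤ v vs y).mp hyX
  refine ⟨?_, hvy⟩
  have : u = u₁ + polar (⇑Q) vs u • v := by rw [hu₁def]; abel
  rw [this, polar_add_left, polar_smul_left, hu₁y, hvy]
  simp

/-- a hyperbolic pair orthogonal to a totally singular line. -/
theorem exists_hyp_perp (hQ : (polarBilin Q).Nondegenerate) (hn : 7 ≤ Fintype.card ι)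
    (u v : ι → F) (hu : Q u = 0)
    (hv : Q v = 0) (huv : polar (⇑Q) u v = 0) (hv0 : v ≠ 0) (hind : ∀ t : F, u ≠ t • v) :
    ∃ e f : ι → F, Q e = 0 ∧ Q f = 0 ∧ polar (⇑Q) e f = 1 ∧ polar (⇑Q) e u = 0 ∧
      polar (⇑Q) e v = 0 ∧ polar (⇑Q) f u = 0 ∧ polar (⇑Q) f v = 0 := by
  obtain ⟨Y, hYnd, hYrk, hY⟩ := exists_compl_tsline Q hQ u v hu hv huv hv0 hind
  have hYne : Y ≠ ⊥ := by
    intro h
    rw [h, finrank_bot] at hYrk
    omega
  obtain ⟨p, hpY, hp0⟩ := Submodule.exists_mem_ne_zero_of_ne_bot hYne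
  obtain ⟨e, heY, he, hpe⟩ := exists_sing_polar_ne_all Q hQ Y hYnd (by omega) p hpY hp0
  have he0 : e ≠ 0 := by
    rintro rfl
    exact hpe (polar_zero_right _ _)
  obtain ⟨f, hfY, hf, hef⟩ := exists_partner_in Q Y hYnd e heY he0 he
  refine ⟨e, f, he, hf, hef, ?_, ?_, ?_, ?_⟩
  · rw [polar_comm]; exact (hY e heY).1
  · rw [polar_comm]; exact (hY e heY).2
  · rw [polar_comm]; exact (hY f hfY).1
  · rw [polar_comm]; exact (hY f hfY).2

omit [Fintype F] [DecidableEq F] in
/-- a Siegel transformation as a commutator of two Siegel transformations. -/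
theorem sieG_eq_comm (u v e f : ι → F) (hu : Q u = 0) (hv : Q v = 0)
    (huv : polar (⇑Q) u v = 0) (he : Q e = 0) (hf : Q f = 0) (hef : polar (⇑Q) e f = 1)
    (heu : polar (⇑Q) e u = 0) (hev : polar (⇑Q) e v = 0) (hfu : polar (⇑Q) f u = 0)
    (hfv : polar (⇑Q) f v = 0) (c : F) :
    sieG Q u v hu hv huv c = ⁅sieG Q e u he hu heu c, sieG Q f v hf hv hfv 1⁆ := by
  have hue : polar (⇑Q) u e = 0 := by rw [polar_comm]; exact heu
  have hve : polar (⇑Q) v e = 0 := by rw [polar_comm]; exact hev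
  have huf : polar (⇑Q) u f = 0 := by rw [polar_comm]; exact hfu
  have hvf : polar (⇑Q) v f = 0 := by rw [polar_comm]; exact hfv
  have hfe : polar (⇑Q) f e = 1 := by rw [polar_comm]; exact hef
  have hvu : polar (⇑Q) v u = 0 := by rw [polar_comm]; exact huv
  apply iact_ext
  intro x
  rw [commutatorElement_def, iact_mul, iact_mul, iact_mul, sieG_inv, sieG_inv]
  simp only [iact_sieG, polar_add_right, polar_sub_right, polar_smul_right, polar_neg_right,
    smul_eq_mul, heu, hue, hev, hve, hfu, huf, hfv, hvf, hef, hfe, huv, hvu, polar_self', he, hf,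
    hu, hv, mul_zero, zero_mul, add_zero, sub_zero, mul_one, zero_add, zero_sub]
  module

omit [Fintype F] [DecidableEq F] in
theorem sieG_eq_one_of_smul (u v : ι → F) (hu : Q u = 0) (hv : Q v = 0)
    (huv : polar (⇑Q) u v = 0) (c t : F) (h : u = t • v) : sieG Q u v hu hv huv c = 1 := by
  apply iact_ext
  intro x
  rw [iact_sieG, iact_one]
  subst h
  rw [polar_smul_left, smul_eq_mul]
  module

omit [Fintype F] [DecidableEq F] in
theorem sieG_eq_one_of_zero (u : ι → F) (hu : Q u = 0)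
    (c : F) : sieG Q u 0 hu (QuadraticMap.map_zero Q) (polar_zero_right _ _) c = 1 := by
  apply iact_ext
  intro x
  rw [iact_sieG, iact_one, polar_zero_left]
  module

/-- every Siegel transformation lies in the derived subgroup of the Siegel group. -/
theorem sieG_mem_comm_Sg (hQ : (polarBilin Q).Nondegenerate) (hn : 7 ≤ Fintype.card ι)
    (u v : ι → F) (hu : Q u = 0) (hv : Q v = 0) (huv : polar (⇑Q) u v = 0) (c : F) :
    sieG Q u v hu hv huv c ∈ ⁅Sg Q, Sg Q⁆ := by
  by_cases hv0 : v = 0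
  · subst hv0
    rw [sieG_eq_one_of_zero]
    exact Subgroup.one_mem _
  by_cases hind : ∀ t : F, u ≠ t • v
  · obtain ⟨e, f, he, hf, hef, heu, hev, hfu, hfv⟩ :=
      exists_hyp_perp Q hQ hn u v hu hv huv hv0 hind
    rw [sieG_eq_comm Q u v e f hu hv huv he hf hef heu hev hfu hfv c]
    exact Subgroup.commutator_mem_commutator (sieG_mem_Sg Q _ _ _ _ _ _)
      (sieG_mem_Sg Q _ _ _ _ _ _)
  · push Not at hind
    obtain ⟨t, ht⟩ := hind
    rw [sieG_eq_one_of_smul Q u v hu hv huv c t ht]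
    exact Subgroup.one_mem _

/-- the Siegel group is perfect. -/
theorem Sg_le_comm (hQ : (polarBilin Q).Nondegenerate) (hn : 7 ≤ Fintype.card ι) :
    Sg Q ≤ ⁅Sg Q, Sg Q⁆ := by
  unfold Sg
  rw [Subgroup.closure_le]
  rintro g ⟨u, v, c, hu, hv, huv, hm⟩
  have hg : g = sieG Q u v hu hv huv c := by
    apply Subtype.ext
    apply Units.ext
    exact hm
  rw [hg]
  exact sieG_mem_comm_Sg Q hQ hn u v hu hv huv c

/-- the commutator subgroup is the Siegel group; all characteristics. -/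
theorem commutator_eq_Sg (hQ : (polarBilin Q).Nondegenerate) (hn : 7 ≤ Fintype.card ι) :
    commutator ↥(Cfsg.isometryGroup F ⇑Q) = Sg Q := by
  apply le_antisymm
  · exact commutator_le_Sg_all Q hQ (by omega)
  · refine le_trans (Sg_le_comm Q hQ hn) ?_
    rw [commutator_def]
    exact Subgroup.commutator_mono le_top le_top

end simpB

end Cfsg.Agent.helper13
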