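import Mathlib
import Cfsg.Agent.Lib_helper13_SimpB

set_option autoImplicit false

namespace Cfsg.Agent.helper13

open Matrix QuadraticMap Module Cfsg.Agent.S0794
open scoped commutatorElement

section simpC
variable {F : Type*} [Field F] [Fintype F] [DecidableEq F] {ι : Type} [Fintype ι] [DecidableEq ι]
variable (Q : QuadraticForm F (ι → F))

/-- multiplying by reflections in a nondegenerate subspace of dimension at least two one can
reach the commutator subgroup. -/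
theorem exists_adjust (hQ : (polarBilin Q).Nondegenerate)
    (hne : Fintype.card F ≠ 2 ∨ Fintype.card ι ≠ 4) (Y : Submodule F (ι → F))
    (hY : NondegOn Q Y) (hY2 : 2 ≤ finrank F Y) (ρ : ↥(Cfsg.isometryGroup F ⇑Q)) :
    ∃ s ∈ RU Q Y, s * ρ ∈ commutator ↥(Cfsg.isometryGroup F ⇑Q) := by
  obtain ⟨θ, δ, hθ, hδ⟩ := exists_theta_delta Q hQ
  have fin : ∀ s ∈ RU Q Y, θ s = θ ρ → δ s = δ ρ →
      ∃ s ∈ RU Q Y, s * ρ ∈ commutator ↥(Cfsg.isometryGroup F ⇑Q) := by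
    intro s hs h1 h2
    refine ⟨s, hs, ?_⟩
    rw [mem_commutator_iff_all Q hQ hne θ δ hθ hδ, map_mul, map_mul, h1, h2]
    exact ⟨Int.units_mul_self _, Int.units_mul_self _⟩
  have hYne : Y ≠ ⊥ := by
    intro h
    rw [h, finrank_bot] at hY2
    omega
  by_cases h2 : (2 : F) = 0
  · have hθ1 : ∀ g, θ g = 1 := by
      have : θ = 1 := by
        apply hom_ext_all Q hQ hne
        intro w hw
        have := hθ w hw
        rw [quadraticChar_of_two h2 hw] at this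
        rw [MonoidHom.one_apply]
        exact Units.ext this
      intro g
      rw [this]
      rfl
    obtain ⟨x, hxY, hx⟩ := exists_nonsingular Q Y hY hYne
    rcases Int.units_eq_one_or (δ ρ) with hd | hd
    · exact fin 1 (Subgroup.one_mem _) (by rw [hθ1, hθ1]) (by rw [map_one, hd])
    · exact fin _ (reflG_mem_RU Q Y x hxY hx) (by rw [hθ1, hθ1]) (by rw [hδ x hx, hd])
  · obtain ⟨ν, hν⟩ := FiniteField.exists_nonsquare (ringChar_ne_two_of (F := F) h2)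
    have hν0 : ν ≠ 0 := by
      rintro rfl
      exact hν ⟨0, by ring⟩
    obtain ⟨x₁, hx₁Y, hx₁⟩ := exists_Q_eq_in Q h2 Y hY hY2 1 one_ne_zero
    obtain ⟨x₂, hx₂Y, hx₂⟩ := exists_Q_eq_in Q h2 Y hY hY2 ν hν0
    have h10 : Q x₁ ≠ 0 := by rw [hx₁]; exact one_ne_zero
    have h20 : Q x₂ ≠ 0 := by rw [hx₂]; exact hν0
    have t1 : θ (reflG Q x₁ h10) = 1 := by
      apply Units.ext
      rw [hθ x₁ h10, hx₁, map_one]
      rfl
    have t2 : θ (reflG Q x₂ h20) = -1 := by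
      apply Units.ext
      rw [hθ x₂ h20, hx₂, quadraticChar_neg_one_iff_not_isSquare.mpr hν]
      rfl
    obtain ⟨s, hs, e1, e2⟩ := adjust_abs θ δ (RU Q Y) (reflG Q x₁ h10)
      (reflG Q x₁ h10 * reflG Q x₂ h20) (reflG_mem_RU Q Y x₁ hx₁Y h10)
      (Subgroup.mul_mem _ (reflG_mem_RU Q Y x₁ hx₁Y h10) (reflG_mem_RU Q Y x₂ hx₂Y h20))
      (hδ x₁ h10) (by rw [map_mul, t1, t2]; rfl) (by rw [map_mul, hδ x₁ h10, hδ x₂ h20]; rfl) ρ
    exact fin s hs e1 e2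

/-- adjusting an isometry into the commutator subgroup without changing its values on two
vectors orthogonal to a suitable nondegenerate subspace. -/
theorem exists_adjust_fix (hQ : (polarBilin Q).Nondegenerate)
    (hne : Fintype.card F ≠ 2 ∨ Fintype.card ι ≠ 4) (Y : Submodule F (ι → F))
    (hY : NondegOn Q Y) (hY2 : 2 ≤ finrank F Y) (ρ : ↥(Cfsg.isometryGroup F ⇑Q))
    (a b : ι → F) (ha : ∀ y ∈ Y, polar (⇑Q) y (iact ρ a) = 0)
    (hb : ∀ y ∈ Y, polar (⇑Q) y (iact ρ b) = 0) :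
    ∃ h ∈ commutator ↥(Cfsg.isometryGroup F ⇑Q), iact h a = iact ρ a ∧ iact h b = iact ρ b := by
  obtain ⟨s, hs, hsρ⟩ := exists_adjust Q hQ hne Y hY hY2 ρ
  refine ⟨s * ρ, hsρ, ?_, ?_⟩
  · rw [iact_mul, RU_fix Q Y s hs _ ha]
  · rw [iact_mul, RU_fix Q Y s hs _ hb]

/-- transitivity of the point stabiliser on the points not orthogonal to the point. -/
theorem pt_trans_nonperp (hQ : (polarBilin Q).Nondegenerate) (hn : 7 ≤ Fintype.card ι)
    (u w w' : ι → F) (hu : Q u = 0) (hw : Q w = 0) (hw' : Q w' = 0)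
    (huw : polar (⇑Q) u w ≠ 0) (huw' : polar (⇑Q) u w' ≠ 0) :
    ∃ h ∈ commutator ↥(Cfsg.isometryGroup F ⇑Q), iact h u = u ∧
      ∃ t : F, t ≠ 0 ∧ iact h w = t • w' := by
  have hne : Fintype.card F ≠ 2 ∨ Fintype.card ι ≠ 4 := Or.inr (by omega)
  have hu0 : u ≠ 0 := by
    rintro rfl
    exact huw (polar_zero_left _ _)
  obtain ⟨w₁, hw₁def⟩ : ∃ w₁, w₁ = (polar (⇑Q) u w)⁻¹ • w := ⟨_, rfl⟩
  obtain ⟨w₂, hw₂def⟩ : ∃ w₂, w₂ = (polar (⇑Q) u w')⁻¹ • w' := ⟨_, rfl⟩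
  have hQw₁ : Q w₁ = 0 := by rw [hw₁def, QuadraticMap.map_smul, hw, smul_zero]
  have hQw₂ : Q w₂ = 0 := by rw [hw₂def, QuadraticMap.map_smul, hw', smul_zero]
  have huw₁ : polar (⇑Q) u w₁ = 1 := by
    rw [hw₁def, polar_smul_right, smul_eq_mul, inv_mul_cancel₀ huw]
  have huw₂ : polar (⇑Q) u w₂ = 1 := by
    rw [hw₂def, polar_smul_right, smul_eq_mul, inv_mul_cancel₀ huw']
  have hYnd := hyp_nondeg Q ⊤ (nondegOn_top Q hQ) u w₂ Submodule.mem_top Submodule.mem_top hu hQw₂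
    huw₂
  have hYrk := hyp_compl_finrank Q hQ ⊤ (nondegOn_top Q hQ) u w₂ Submodule.mem_top
    Submodule.mem_top hu hQw₂ huw₂
  rw [finrank_top, Module.finrank_fintype_fun_eq_card] at hYrk
  have hYu : ∀ y ∈ planeCompl Q ⊤ u w₂, polar (⇑Q) y u = 0 := by
    intro y hy
    rw [polar_comm]
    exact ((mem_planeCompl Q ⊤ u w₂ y).mp hy).2.1
  have hYw : ∀ y ∈ planeCompl Q ⊤ u w₂, polar (⇑Q) y w₂ = 0 := by
    intro y hy
    rw [polar_comm]
    exact ((mem_planeCompl Q ⊤ u w₂ y).mp hy).2.2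
  have huy : polar (⇑Q) u (w₁ - w₂) = 0 := by rw [polar_sub_right, huw₁, huw₂, sub_self]
  have hQy : Q (w₁ - w₂) = -polar (⇑Q) w₁ w₂ := by
    have : w₁ - w₂ = w₁ + (-1 : F) • w₂ := by rw [neg_one_smul, sub_eq_add_neg]
    rw [this, Q_add_polar, QuadraticMap.map_smul, hQw₁, hQw₂, polar_smul_right]
    simp
  have hyw₁ : polar (⇑Q) (w₁ - w₂) w₁ = Q (w₁ - w₂) := by
    rw [polar_sub_left, polar_self', hQw₁, hQy, polar_comm (⇑Q) w₂ w₁]
    ring
  -- an isometry fixing `u` and mapping `w₁` to `w₂`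
  obtain ⟨ρ, hρu, hρw⟩ : ∃ ρ : ↥(Cfsg.isometryGroup F ⇑Q), iact ρ u = u ∧ iact ρ w₁ = w₂ := by
    by_cases hy : Q (w₁ - w₂) = 0
    · refine ⟨sieG Q u (w₁ - w₂) hu hy huy (-1), ?_, ?_⟩
      · rw [iact_sieG, polar_self', hu, polar_comm (⇑Q) (w₁ - w₂) u, huy]
        simp
      · rw [iact_sieG, huw₁, hyw₁, hy]
        simp
    · refine ⟨reflG Q (w₁ - w₂) hy, ?_, ?_⟩
      · apply iact_reflG_of_polar
        rw [polar_comm]
        exact huy
      · rw [iact_reflG, hyw₁, inv_mul_cancel₀ hy, one_smul]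
        abel
  obtain ⟨h, hh, hhu, hhw⟩ := exists_adjust_fix Q hQ hne _ hYnd (by omega) ρ u w₁
    (by rw [hρu]; exact hYu) (by rw [hρw]; exact hYw)
  rw [hρu] at hhu
  rw [hρw] at hhw
  refine ⟨h, hh, hhu, polar (⇑Q) u w * (polar (⇑Q) u w')⁻¹,
    mul_ne_zero huw (inv_ne_zero huw'), ?_⟩
  have : w = polar (⇑Q) u w • w₁ := by
    rw [hw₁def, smul_smul, mul_inv_cancel₀ huw, one_smul]
  rw [this, iact_smul, hhw, hw₂def, smul_smul, ← this]

/-- transitivity of the point stabiliser on the other points orthogonal to the point. -/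
theorem pt_trans_perp (hQ : (polarBilin Q).Nondegenerate) (hn : 7 ≤ Fintype.card ι)
    (u w w' : ι → F) (hu : Q u = 0) (hu0 : u ≠ 0) (hw : Q w = 0) (hw' : Q w' = 0)
    (huw : polar (⇑Q) u w = 0) (huw' : polar (⇑Q) u w' = 0)
    (hwu : ∀ t : F, w ≠ t • u) (hw'u : ∀ t : F, w' ≠ t • u) :
    ∃ h ∈ commutator ↥(Cfsg.isometryGroup F ⇑Q), iact h u = u ∧ iact h w = w' := by
  have hne : Fintype.card F ≠ 2 ∨ Fintype.card ι ≠ 4 := Or.inr (by omega)
  obtain ⟨us, hus, huus⟩ := exists_hyp_pair Q hQ u hu0 hu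
  have hZnd := hyp_nondeg Q ⊤ (nondegOn_top Q hQ) u us Submodule.mem_top Submodule.mem_top hu hus
    huus
  have hZrk := hyp_compl_finrank Q hQ ⊤ (nondegOn_top Q hQ) u us Submodule.mem_top
    Submodule.mem_top hu hus huus
  rw [finrank_top, Module.finrank_fintype_fun_eq_card] at hZrk
  have proj : ∀ x : ι → F, Q x = 0 → polar (⇑Q) u x = 0 → (∀ t : F, x ≠ t • u) →
      x - polar (⇑Q) us x • u ∈ planeCompl Q ⊤ u us ∧ Q (x - polar (⇑Q) us x • u) = 0 ∧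
        x - polar (⇑Q) us x • u ≠ 0 := by
    intro x hx hux hxu
    refine ⟨?_, ?_, ?_⟩
    · rw [mem_planeCompl]
      refine ⟨Submodule.mem_top, ?_, ?_⟩
      · rw [polar_sub_right, polar_smul_right, polar_self', hu, hux]
        simp
      · rw [polar_sub_right, polar_smul_right, polar_comm (⇑Q) us u, huus]
        simp
    · have : x - polar (⇑Q) us x • u = x + (-polar (⇑Q) us x) • u := by
        rw [neg_smul, sub_eq_add_neg]
      rw [this, Q_add_polar, QuadraticMap.map_smul, hu, polar_smul_right, polar_comm (⇑Q) x u, hux,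
        hx]
      simp
    · intro h
      exact hxu _ (sub_eq_zero.mp h)
  obtain ⟨hw₁Z, hQw₁, hw₁0⟩ := proj w hw huw hwu
  obtain ⟨hw₂Z, hQw₂, hw₂0⟩ := proj w' hw' huw' hw'u
  obtain ⟨w₁, hw₁def⟩ : ∃ w₁, w₁ = w - polar (⇑Q) us w • u := ⟨_, rfl⟩
  obtain ⟨w₂, hw₂def⟩ : ∃ w₂, w₂ = w' - polar (⇑Q) us w' • u := ⟨_, rfl⟩
  rw [← hw₁def] at hw₁Z hQw₁ hw₁0
  rw [← hw₂def] at hw₂Z hQw₂ hw₂0
  have hZu : ∀ z ∈ planeCompl Q ⊤ u us, polar (⇑Q) z u = 0 := by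
    intro z hz
    rw [polar_comm]
    exact ((mem_planeCompl Q ⊤ u us z).mp hz).2.1
  obtain ⟨ρ₁, hρ₁, hρ₁w⟩ := sing_trans Q _ hZnd w₁ w₂ hw₁Z hw₂Z hw₁0 hw₂0 hQw₁ hQw₂
  have hρ₁u : iact ρ₁ u = u := RU_fix Q _ ρ₁ hρ₁ u hZu
  obtain ⟨v, hvZ, hv, hw₂v⟩ := exists_partner_in Q _ hZnd w₂ hw₂Z hw₂0 hQw₂
  have huv : polar (⇑Q) u v = 0 := ((mem_planeCompl Q ⊤ u us v).mp hvZ).2.1
  have hvu : polar (⇑Q) v u = 0 := by rw [polar_comm]; exact huv
  have huw₂ : polar (⇑Q) u w₂ = 0 := ((mem_planeCompl Q ⊤ u us w₂).mp hw₂Z).2.1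
  have hvw₂ : polar (⇑Q) v w₂ = 1 := by rw [polar_comm]; exact hw₂v
  set c := polar (⇑Q) us w - polar (⇑Q) us w' with hcdef
  have hwdec : w = w₁ + polar (⇑Q) us w • u := by rw [hw₁def]; abel
  have hw'dec : w' = w₂ + polar (⇑Q) us w' • u := by rw [hw₂def]; abel
  have hρu : iact (sieG Q u v hu hv huv c * ρ₁) u = u := by
    rw [iact_mul, hρ₁u, iact_sieG, polar_self', hu, hvu]
    simp
  have hρw : iact (sieG Q u v hu hv huv c * ρ₁) w = w' := by
    rw [iact_mul, hwdec, iact_add, iact_smul, hρ₁w, hρ₁u, iact_sieG, polar_add_right,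
      polar_add_right, polar_smul_right, polar_smul_right, polar_self', hu, huw₂, hvw₂, hvu,
      hw'dec, hcdef]
    simp only [smul_eq_mul, mul_zero, add_zero, zero_smul, zero_sub]
    module
  have hYnd := hyp_nondeg Q _ hZnd w₂ v hw₂Z hvZ hQw₂ hv hw₂v
  have hYrk := hyp_compl_finrank Q hQ _ hZnd w₂ v hw₂Z hvZ hQw₂ hv hw₂v
  have hYu : ∀ y ∈ planeCompl Q (planeCompl Q ⊤ u us) w₂ v, polar (⇑Q) y u = 0 := by
    intro y hy
    exact hZu y ((mem_planeCompl Q _ w₂ v y).mp hy).1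
  have hYw : ∀ y ∈ planeCompl Q (planeCompl Q ⊤ u us) w₂ v, polar (⇑Q) y w' = 0 := by
    intro y hy
    have h1 : polar (⇑Q) y w₂ = 0 := by
      rw [polar_comm]
      exact ((mem_planeCompl Q _ w₂ v y).mp hy).2.1
    rw [hw'dec, polar_add_right, polar_smul_right, h1, hYu y hy]
    simp
  obtain ⟨h, hh, hhu, hhw⟩ := exists_adjust_fix Q hQ hne _ hYnd (by omega)
    (sieG Q u v hu hv huv c * ρ₁) u w (by rw [hρu]; exact hYu) (by rw [hρw]; exact hYw)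
  rw [hρu] at hhu
  rw [hρw] at hhw
  exact ⟨h, hh, hhu, hhw⟩

end simpC

end Cfsg.Agent.helper13
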