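import Mathlib
import Cfsg.Agent.Lib_helper13_SimpC

set_option autoImplicit false

namespace Cfsg.Agent.helper13

open Matrix QuadraticMap Module Cfsg.Agent.S0794
open scoped commutatorElement

section simpD
variable {F : Type*} [Field F] [Fintype F] [DecidableEq F] {ι : Type} [Fintype ι] [DecidableEq ι]
variable (Q : QuadraticForm F (ι → F))

omit [Fintype F] [DecidableEq F] in
/-- a singular vector not orthogonal to two given orthogonal singular vectors. -/
theorem exists_sing_nonperp_two (hQ : (polarBilin Q).Nondegenerate) (u x : ι → F)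
    (hu : Q u = 0) (hu0 : u ≠ 0) (hx : Q x = 0) (hx0 : x ≠ 0) (hux : polar (⇑Q) u x = 0) :
    ∃ y, Q y = 0 ∧ polar (⇑Q) u y ≠ 0 ∧ polar (⇑Q) x y ≠ 0 := by
  obtain ⟨us, hus, huus⟩ := exists_hyp_pair Q hQ u hu0 hu
  by_cases hxus : polar (⇑Q) x us = 0
  · have hZnd := hyp_nondeg Q ⊤ (nondegOn_top Q hQ) u us Submodule.mem_top Submodule.mem_top hu hus
      huus
    have hxZ : x ∈ planeCompl Q ⊤ u us := by
      rw [mem_planeCompl]
      exact ⟨Submodule.mem_top, hux, by rw [polar_comm]; exact hxus⟩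
    obtain ⟨xs, hxsZ, hxs, hxxs⟩ := exists_partner_in Q _ hZnd x hxZ hx0 hx
    obtain ⟨-, huxs, husxs⟩ := (mem_planeCompl Q ⊤ u us xs).mp hxsZ
    refine ⟨us + xs, ?_, ?_, ?_⟩
    · rw [Q_add_polar, hus, hxs, husxs]
      ring
    · rw [polar_add_right, huus, huxs, add_zero]
      exact one_ne_zero
    · rw [polar_add_right, hxus, hxxs, zero_add]
      exact one_ne_zero
  · exact ⟨us, hus, by rw [huus]; exact one_ne_zero, hxus⟩

/-- a nonzero singular vector orthogonal to two given non-orthogonal singular vectors. -/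
theorem exists_sing_perp_two (hQ : (polarBilin Q).Nondegenerate) (hn : 5 ≤ Fintype.card ι)
    (u x : ι → F) (hu : Q u = 0) (hx : Q x = 0) (hux : polar (⇑Q) u x ≠ 0) :
    ∃ y, Q y = 0 ∧ y ≠ 0 ∧ polar (⇑Q) u y = 0 ∧ polar (⇑Q) x y = 0 := by
  obtain ⟨x₁, hx₁def⟩ : ∃ x₁, x₁ = (polar (⇑Q) u x)⁻¹ • x := ⟨_, rfl⟩
  have hQx₁ : Q x₁ = 0 := by rw [hx₁def, QuadraticMap.map_smul, hx, smul_zero]
  have hux₁ : polar (⇑Q) u x₁ = 1 := by
    rw [hx₁def, polar_smul_right, smul_eq_mul, inv_mul_cancel₀ hux]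
  have hYnd := hyp_nondeg Q ⊤ (nondegOn_top Q hQ) u x₁ Submodule.mem_top Submodule.mem_top hu hQx₁
    hux₁
  have hYrk := hyp_compl_finrank Q hQ ⊤ (nondegOn_top Q hQ) u x₁ Submodule.mem_top
    Submodule.mem_top hu hQx₁ hux₁
  rw [finrank_top, Module.finrank_fintype_fun_eq_card] at hYrk
  have hYne : planeCompl Q ⊤ u x₁ ≠ ⊥ := by
    intro h
    rw [h, finrank_bot] at hYrk
    omega
  obtain ⟨p, hpY, hp0⟩ := Submodule.exists_mem_ne_zero_of_ne_bot hYne
  obtain ⟨y, hyY, hy, hpy⟩ := exists_sing_polar_ne_all Q hQ _ hYnd (by omega) p hpY hp0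
  obtain ⟨-, huy, hx₁y⟩ := (mem_planeCompl Q ⊤ u x₁ y).mp hyY
  refine ⟨y, hy, ?_, huy, ?_⟩
  · rintro rfl
    exact hpy (polar_zero_right _ _)
  · have : x = polar (⇑Q) u x • x₁ := by
      rw [hx₁def, smul_smul, mul_inv_cancel₀ hux, one_smul]
    rw [this, polar_smul_left, hx₁y, smul_zero]

/-- maximality of the stabiliser of a singular point in the commutator subgroup. -/
theorem point_stab_max (hQ : (polarBilin Q).Nondegenerate) (hn : 7 ≤ Fintype.card ι)
    (u : ι → F) (hu : Q u = 0) (hu0 : u ≠ 0)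
    (K : Subgroup ↥(Cfsg.isometryGroup F ⇑Q))
    (hK : K ≤ commutator ↥(Cfsg.isometryGroup F ⇑Q))
    (hHK : ∀ h ∈ commutator ↥(Cfsg.isometryGroup F ⇑Q), (∃ t : F, iact h u = t • u) → h ∈ K)
    (g : ↥(Cfsg.isometryGroup F ⇑Q)) (hgK : g ∈ K) (hg : ∀ t : F, iact g u ≠ t • u) :
    commutator ↥(Cfsg.isometryGroup F ⇑Q) ≤ K := by
  have hΩn : (commutator ↥(Cfsg.isometryGroup F ⇑Q)).Normal := inferInstance
  have R2 : ∀ (y : ι → F) (k : ↥(Cfsg.isometryGroup F ⇑Q)), k ∈ K → ∀ t : F, t ≠ 0 →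
      iact k u = t • y → ∀ h ∈ commutator ↥(Cfsg.isometryGroup F ⇑Q),
      (∃ t' : F, iact h y = t' • y) → h ∈ K := by
    rintro y k hk t ht hky h hh ⟨t', hhy⟩
    have h1 : k⁻¹ * h * k ∈ commutator ↥(Cfsg.isometryGroup F ⇑Q) := by
      have := hΩn.conj_mem h hh k⁻¹
      rwa [inv_inv] at this
    have h2 : iact (k⁻¹ * h * k) u = t' • u := by
      rw [iact_mul, iact_mul, hky, iact_smul, hhy, smul_comm, iact_smul, ← hky, iact_inv_iact]
    have h3 := hHK _ h1 ⟨t', h2⟩
    have : h = k * (k⁻¹ * h * k) * k⁻¹ := by group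
    rw [this]
    exact K.mul_mem (K.mul_mem hk h3) (K.inv_mem hk)
  obtain ⟨w, hwdef⟩ : ∃ w, w = iact g u := ⟨_, rfl⟩
  have hw : Q w = 0 := by rw [hwdef, Q_iact]; exact hu
  have hgw : ∀ t : F, w ≠ t • u := by rw [hwdef]; exact hg
  have reach : ∀ x : ι → F, Q x = 0 → x ≠ 0 →
      ∃ k ∈ K, ∃ t : F, t ≠ 0 ∧ iact k u = t • x := by
    by_cases huw : polar (⇑Q) u w = 0
    · have stepB : ∀ x : ι → F, Q x = 0 → polar (⇑Q) u x = 0 → (∀ t : F, x ≠ t • u) →
          ∃ k ∈ K, ∃ t : F, t ≠ 0 ∧ iact k u = t • x := by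
        intro x hx hux hxu
        obtain ⟨h, hh, hhu, hhw⟩ := pt_trans_perp Q hQ hn u w x hu hu0 hw hx huw hux hgw hxu
        have hhK := hHK h hh ⟨1, by rw [hhu, one_smul]⟩
        exact ⟨h * g, K.mul_mem hhK hgK, 1, one_ne_zero, by
          rw [iact_mul, ← hwdef, hhw, one_smul]⟩
      intro x hx hx0
      by_cases hux : polar (⇑Q) u x = 0
      · by_cases hxu : ∀ t : F, x ≠ t • u
        · exact stepB x hx hux hxu
        · push Not at hxu
          obtain ⟨t, ht⟩ := hxu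
          have ht0 : t ≠ 0 := by
            rintro rfl
            rw [zero_smul] at ht
            exact hx0 ht
          exact ⟨1, K.one_mem, t⁻¹, inv_ne_zero ht0, by
            rw [iact_one, ht, smul_smul, inv_mul_cancel₀ ht0, one_smul]⟩
      · obtain ⟨y, hy, hy0, huy, hxy⟩ := exists_sing_perp_two Q hQ (by omega) u x hu hx hux
        have hyu : ∀ t : F, y ≠ t • u := by
          intro t h
          have h1 : polar (⇑Q) x y = t * polar (⇑Q) x u := by
            rw [h, polar_smul_right, smul_eq_mul]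
          rw [hxy, polar_comm (⇑Q) x u] at h1
          have ht : t = 0 := by
            rcases mul_eq_zero.mp h1.symm with h | h
            · exact h
            · exact absurd h hux
          rw [ht, zero_smul] at h
          exact hy0 h
        obtain ⟨k, hk, t, ht, hky⟩ := stepB y hy huy hyu
        have huy' : ∀ t : F, u ≠ t • y := by
          intro t h
          apply hux
          rw [h, polar_smul_left, polar_comm (⇑Q) y x, hxy, smul_zero]
        have hxy' : ∀ t : F, x ≠ t • y := by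
          intro t h
          apply hux
          rw [h, polar_smul_right, huy, smul_zero]
        obtain ⟨h, hh, hhy, hhu⟩ := pt_trans_perp Q hQ hn y u x hy hy0 hu hx
          (by rw [polar_comm]; exact huy) (by rw [polar_comm]; exact hxy) huy' hxy'
        have hhK := R2 y k hk t ht hky h hh ⟨1, by rw [hhy, one_smul]⟩
        exact ⟨h, hhK, 1, one_ne_zero, by rw [hhu, one_smul]⟩
    · have stepA : ∀ x : ι → F, Q x = 0 → polar (⇑Q) u x ≠ 0 →
          ∃ k ∈ K, ∃ t : F, t ≠ 0 ∧ iact k u = t • x := by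
        intro x hx hux
        obtain ⟨h, hh, hhu, t, ht, hhw⟩ := pt_trans_nonperp Q hQ hn u w x hu hw hx huw hux
        have hhK := hHK h hh ⟨1, by rw [hhu, one_smul]⟩
        exact ⟨h * g, K.mul_mem hhK hgK, t, ht, by rw [iact_mul, ← hwdef, hhw]⟩
      intro x hx hx0
      by_cases hux : polar (⇑Q) u x = 0
      · obtain ⟨y, hy, huy, hxy⟩ := exists_sing_nonperp_two Q hQ u x hu hu0 hx hx0 hux
        obtain ⟨k, hk, t, ht, hky⟩ := stepA y hy huy
        obtain ⟨h, hh, hhy, t', ht', hhu⟩ := pt_trans_nonperp Q hQ hn y u x hy hu hx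
          (by rw [polar_comm]; exact huy) (by rw [polar_comm]; exact hxy)
        have hhK := R2 y k hk t ht hky h hh ⟨1, by rw [hhy, one_smul]⟩
        exact ⟨h, hhK, t', ht', hhu⟩
      · exact stepA x hx hux
  intro z hz
  have hzu0 : iact z u ≠ 0 := by
    intro h
    apply hu0
    have := iact_inv_iact z u
    rw [h, iact_zero] at this
    exact this.symm
  obtain ⟨k, hk, t, ht, hkz⟩ := reach (iact z u) (by rw [Q_iact]; exact hu) hzu0
  have h1 : k⁻¹ * z ∈ commutator ↥(Cfsg.isometryGroup F ⇑Q) :=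
    Subgroup.mul_mem _ (Subgroup.inv_mem _ (hK hk)) hz
  have h2 : iact (k⁻¹ * z) u = t⁻¹ • u := by
    have : iact z u = t⁻¹ • iact k u := by
      rw [hkz, smul_smul, inv_mul_cancel₀ ht, one_smul]
    rw [iact_mul, this, iact_smul, iact_inv_iact]
  have h3 := hHK _ h1 ⟨_, h2⟩
  have : z = k * (k⁻¹ * z) := by group
  rw [this]
  exact K.mul_mem hk h3

end simpD

end Cfsg.Agent.helper13
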