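import Mathlib
import Cfsg.Agent.Lib_helper13_SimpD

set_option autoImplicit false

namespace Cfsg.Agent.helper13

open Matrix QuadraticMap Module Cfsg.Agent.S0794
open scoped commutatorElement

section abs

/-- the group-theoretic core of Iwasawa's criterion. -/
theorem iwasawa_abs {G : Type*} [Group G] (H A N : Subgroup G) [hN : N.Normal]
    (hHN : H ⊔ N = ⊤)
    (hAH : ∀ h ∈ H, ∀ a ∈ A, h * a * h⁻¹ ∈ A)
    (hA : ∀ a ∈ A, ∀ b ∈ A, a * b = b * a)
    (hgen : ∀ M : Subgroup G, (∀ g : G, ∀ a ∈ A, g * a * g⁻¹ ∈ M) → M = ⊤) :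
    commutator G ≤ N := by
  have hM : N ⊔ A = ⊤ := by
    apply hgen
    intro g a ha
    have hg : g ∈ H ⊔ N := by rw [hHN]; trivial
    obtain ⟨h, hh, n, hn, rfl⟩ := Subgroup.mem_sup_of_normal_right.mp hg
    have h1 : n * a * n⁻¹ * a⁻¹ ∈ N := by
      have : n * a * n⁻¹ * a⁻¹ = n * (a * n⁻¹ * a⁻¹) := by group
      rw [this]
      exact N.mul_mem hn (hN.conj_mem _ (N.inv_mem hn) a)
    have h2 : h * n * a * (h * n)⁻¹ = (h * (n * a * n⁻¹ * a⁻¹) * h⁻¹) * (h * a * h⁻¹) := by group
    rw [h2]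
    exact Subgroup.mul_mem _ (Subgroup.mem_sup_left (hN.conj_mem _ h1 h))
      (Subgroup.mem_sup_right (hAH h hh a ha))
  exact Subgroup.Normal.commutator_le_of_self_sup_commutative_eq_top hM
    ⟨⟨fun a b => Subtype.ext (hA a a.2 b b.2)⟩⟩

end abs

section simpE
variable {F : Type*} [Field F] [Fintype F] [DecidableEq F] {ι : Type} [Fintype ι] [DecidableEq ι]
variable (Q : QuadraticForm F (ι → F))

omit [Fintype F] [DecidableEq F] in
theorem scalar_step (g : ↥(Cfsg.isometryGroup F ⇑Q))
    (hg : ∀ u : ι → F, Q u = 0 → ∃ t : F, iact g u = t • u) (u w : ι → F) (hu : Q u = 0)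
    (hw : Q w = 0) (huw : polar (⇑Q) u w = 0) (hu0 : u ≠ 0) (hwu : ∀ t : F, w ≠ t • u) (c : F)
    (hgu : iact g u = c • u) : iact g w = c • w := by
  obtain ⟨tw, htw⟩ := hg w hw
  have huw' : Q (u + w) = 0 := by rw [Q_add_polar, hu, hw, huw]; ring
  obtain ⟨s, hs⟩ := hg (u + w) huw'
  rw [iact_add, hgu, htw, smul_add] at hs
  have h1 : (c - s) • u = (s - tw) • w := by
    rw [sub_smul, sub_smul]
    have := hs
    have h3 : c • u - s • u = s • w - tw • w := by
      rw [sub_eq_sub_iff_add_eq_add]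
      rw [this]
      abel
    exact h3
  by_cases hst : s - tw = 0
  · rw [hst, zero_smul] at h1
    have hcs : c - s = 0 := by
      rcases smul_eq_zero.mp h1 with h | h
      · exact h
      · exact absurd h hu0
    have : tw = c := by
      have h4 : s = tw := sub_eq_zero.mp hst
      have h5 : c = s := sub_eq_zero.mp hcs
      rw [h5, h4]
    rw [htw, this]
  · exfalso
    apply hwu ((s - tw)⁻¹ * (c - s))
    rw [← smul_smul, h1, smul_smul, inv_mul_cancel₀ hst, one_smul]

/-- an isometry fixing every singular point is central. -/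
theorem central_of_fix_points (hQ : (polarBilin Q).Nondegenerate) (hn : 5 ≤ Fintype.card ι)
    (g : ↥(Cfsg.isometryGroup F ⇑Q))
    (hg : ∀ u : ι → F, Q u = 0 → ∃ t : F, iact g u = t • u) :
    ∀ h : ↥(Cfsg.isometryGroup F ⇑Q), g * h = h * g := by
  have hdim : 3 ≤ finrank F (ι → F) := by
    rw [Module.finrank_fintype_fun_eq_card]
    omega
  obtain ⟨u₀, hu₀0, hu₀⟩ := exists_singular Q hQ hdim
  obtain ⟨c, hc⟩ := hg u₀ hu₀
  have hsing : ∀ w : ι → F, Q w = 0 → iact g w = c • w := by
    intro w hw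
    by_cases hwu : ∀ t : F, w ≠ t • u₀
    · by_cases huw : polar (⇑Q) u₀ w = 0
      · exact scalar_step Q g hg u₀ w hu₀ hw huw hu₀0 hwu c hc
      · obtain ⟨y, hy, hy0, huy, hwy⟩ := exists_sing_perp_two Q hQ hn u₀ w hu₀ hw huw
        have hyu : ∀ t : F, y ≠ t • u₀ := by
          intro t h
          have h1 : polar (⇑Q) w y = t * polar (⇑Q) w u₀ := by
            rw [h, polar_smul_right, smul_eq_mul]
          rw [hwy, polar_comm (⇑Q) w u₀] at h1
          have ht : t = 0 := by
            rcases mul_eq_zero.mp h1.symm with h | h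
            · exact h
            · exact absurd h huw
          rw [ht, zero_smul] at h
          exact hy0 h
        have hgy := scalar_step Q g hg u₀ y hu₀ hy huy hu₀0 hyu c hc
        have hwy' : ∀ t : F, w ≠ t • y := by
          intro t h
          apply huw
          rw [h, polar_smul_right, huy, smul_zero]
        exact scalar_step Q g hg y w hy hw (by rw [polar_comm]; exact hwy) hy0 hwy' c hgy
    · push Not at hwu
      obtain ⟨t, ht⟩ := hwu
      rw [ht, iact_smul, hc, smul_comm]
  have hall : ∀ x : ι → F, iact g x = c • x := by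
    intro x
    by_cases hx : Q x = 0
    · exact hsing x hx
    · have hx0 : x ≠ 0 := by
        rintro rfl
        exact hx (QuadraticMap.map_zero Q)
      have hX3 : 3 ≤ finrank F (⊤ : Submodule F (ι → F)) := by rw [finrank_top]; exact hdim
      obtain ⟨d, -, hd, hxd⟩ := exists_sing_polar_ne_all Q hQ ⊤ (nondegOn_top Q hQ) hX3 x
        Submodule.mem_top hx0
      have hx' : Q (x - (Q x * (polar (⇑Q) x d)⁻¹) • d) = 0 := by
        have : x - (Q x * (polar (⇑Q) x d)⁻¹) • d = x + (-(Q x * (polar (⇑Q) x d)⁻¹)) • d := by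
          rw [neg_smul, sub_eq_add_neg]
        rw [this, Q_add_polar, QuadraticMap.map_smul, hd, polar_smul_right]
        simp only [smul_eq_mul, mul_zero, add_zero, neg_mul, mul_assoc, inv_mul_cancel₀ hxd, mul_one,
          add_neg_cancel]
      have hdec : x = (x - (Q x * (polar (⇑Q) x d)⁻¹) • d) + (Q x * (polar (⇑Q) x d)⁻¹) • d := by
        abel
      rw [hdec, iact_add, iact_smul, hsing _ hx', hsing d hd]
      module
  intro h
  apply iact_ext
  intro x
  rw [iact_mul, iact_mul, hall, hall, iact_smul]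

omit [Fintype F] [DecidableEq F] in
/-- the stabiliser of the point spanned by a vector. -/
def ptStab (u : ι → F) : Subgroup ↥(Cfsg.isometryGroup F ⇑Q) where
  carrier := {g | ∃ t : F, t ≠ 0 ∧ iact g u = t • u}
  one_mem' := ⟨1, one_ne_zero, by rw [iact_one, one_smul]⟩
  mul_mem' := by
    rintro a b ⟨s, hs, ha⟩ ⟨t, ht, hb⟩
    exact ⟨t * s, mul_ne_zero ht hs, by rw [iact_mul, hb, iact_smul, ha, smul_smul]⟩
  inv_mem' := by
    rintro a ⟨s, hs, ha⟩
    refine ⟨s⁻¹, inv_ne_zero hs, ?_⟩
    have := iact_inv_iact a u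
    rw [ha, iact_smul] at this
    calc iact a⁻¹ u = s⁻¹ • (s • iact a⁻¹ u) := by rw [smul_smul, inv_mul_cancel₀ hs, one_smul]
      _ = s⁻¹ • u := by rw [this]

omit [Fintype F] [DecidableEq F] in
theorem mem_ptStab (u : ι → F) (g : ↥(Cfsg.isometryGroup F ⇑Q)) :
    g ∈ ptStab Q u ↔ ∃ t : F, t ≠ 0 ∧ iact g u = t • u := Iff.rfl

omit [Fintype F] [DecidableEq F] in
theorem mem_ptStab_of (u : ι → F) (hu0 : u ≠ 0) (g : ↥(Cfsg.isometryGroup F ⇑Q)) (t : F)
    (h : iact g u = t • u) : g ∈ ptStab Q u := by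
  refine ⟨t, ?_, h⟩
  rintro rfl
  rw [zero_smul] at h
  apply hu0
  have := iact_inv_iact g u
  rw [h, iact_zero] at this
  exact this.symm

/-- the abelian group of Siegel transformations attached to a singular vector. -/
def Au (u : ι → F) (hu : Q u = 0) : Subgroup ↥(Cfsg.isometryGroup F ⇑Q) :=
  Subgroup.closure {g | ∃ (v : ι → F) (hv : Q v = 0) (huv : polar (⇑Q) u v = 0) (c : F),
    g = sieG Q u v hu hv huv c}

omit [Fintype F] [DecidableEq F] in
theorem Au_le_Sg (u : ι → F) (hu : Q u = 0) : Au Q u hu ≤ Sg Q := by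
  unfold Au
  rw [Subgroup.closure_le]
  rintro g ⟨v, hv, huv, c, rfl⟩
  exact sieG_mem_Sg Q u v hu hv huv c

omit [Fintype F] [DecidableEq F] in
theorem sieG_comm_same (u v v' : ι → F) (hu : Q u = 0) (hv : Q v = 0) (hv' : Q v' = 0)
    (huv : polar (⇑Q) u v = 0) (huv' : polar (⇑Q) u v' = 0) (c c' : F) :
    sieG Q u v hu hv huv c * sieG Q u v' hu hv' huv' c' =
      sieG Q u v' hu hv' huv' c' * sieG Q u v hu hv huv c := by
  have hvu : polar (⇑Q) v u = 0 := by rw [polar_comm]; exact huv
  have hv'u : polar (⇑Q) v' u = 0 := by rw [polar_comm]; exact huv'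
  apply iact_ext
  intro x
  rw [iact_mul, iact_mul]
  simp only [iact_sieG, polar_add_right, polar_sub_right, polar_smul_right, smul_eq_mul, huv, hvu,
    huv', hv'u, polar_self', hu, hv, hv', mul_zero, zero_mul, add_zero, sub_zero]
  rw [polar_comm (⇑Q) v' v]
  module

omit [Fintype F] [DecidableEq F] in
theorem Au_comm (u : ι → F) (hu : Q u = 0) :
    ∀ a ∈ Au Q u hu, ∀ b ∈ Au Q u hu, a * b = b * a := by
  have h1 : Au Q u hu ≤ Subgroup.centralizer (Au Q u hu : Set ↥(Cfsg.isometryGroup F ⇑Q)) := by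
    have h2 : Au Q u hu ≤ Subgroup.centralizer {g : ↥(Cfsg.isometryGroup F ⇑Q) |
        ∃ (v : ι → F) (hv : Q v = 0) (huv : polar (⇑Q) u v = 0) (c : F),
        g = sieG Q u v hu hv huv c} := by
      unfold Au
      rw [Subgroup.closure_le]
      rintro g ⟨v, hv, huv, c, rfl⟩
      rw [SetLike.mem_coe, Subgroup.mem_centralizer_iff]
      rintro h ⟨v', hv', huv', c', rfl⟩
      exact sieG_comm_same Q u v' v hu hv' hv huv' huv c' c
    intro a ha
    rw [Subgroup.mem_centralizer_iff]
    intro b hb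
    have hb' : b ∈ Subgroup.centralizer {a} := by
      unfold Au at hb
      revert hb
      apply (Subgroup.closure_le _).mpr
      rintro g ⟨v, hv, huv, c, rfl⟩
      rw [SetLike.mem_coe, Subgroup.mem_centralizer_iff]
      intro z hz
      rw [Set.mem_singleton_iff] at hz
      rw [hz]
      have := h2 ha
      rw [Subgroup.mem_centralizer_iff] at this
      exact (this _ ⟨v, hv, huv, c, rfl⟩).symm
    rw [Subgroup.mem_centralizer_iff] at hb'
    exact (hb' a rfl).symm
  intro a ha b hb
  have := h1 ha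
  rw [Subgroup.mem_centralizer_iff] at this
  exact (this b hb).symm

omit [Fintype F] [DecidableEq F] in
theorem sieG_smul_left (u v : ι → F) (t : F) (hu : Q u = 0) (hu' : Q (t • u) = 0) (hv : Q v = 0)
    (huv : polar (⇑Q) u v = 0) (huv' : polar (⇑Q) (t • u) v = 0) (c : F) :
    sieG Q (t • u) v hu' hv huv' c = sieG Q u v hu hv huv (t * c) := by
  apply iact_ext
  intro x
  rw [iact_sieG, iact_sieG, polar_smul_left, smul_eq_mul]
  module

omit [Fintype F] [DecidableEq F] in
/-- the point stabiliser normalises the Siegel group of the point. -/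
theorem Au_conj (u : ι → F) (hu : Q u = 0) (h : ↥(Cfsg.isometryGroup F ⇑Q))
    (hh : h ∈ ptStab Q u) (a : ↥(Cfsg.isometryGroup F ⇑Q)) (ha : a ∈ Au Q u hu) :
    h * a * h⁻¹ ∈ Au Q u hu := by
  obtain ⟨t, ht, hhu⟩ := hh
  unfold Au at ha
  induction ha using Subgroup.closure_induction with
  | mem y hy =>
    obtain ⟨v, hv, huv, c, rfl⟩ := hy
    rw [sieG_conj_gen]
    have e : sieG Q (iact h u) (iact h v) (by rw [Q_iact]; exact hu) (by rw [Q_iact]; exact hv)
        (by rw [polar_iact]; exact huv) c =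
        sieG Q u (iact h v) hu (by rw [Q_iact]; exact hv)
          (by
            have := polar_iact h u v
            rw [hhu, polar_smul_left, huv, smul_eq_mul] at this
            exact (mul_eq_zero.mp this).resolve_left ht) (t * c) := by
      apply iact_ext
      intro x
      rw [iact_sieG, iact_sieG, hhu, polar_smul_left, smul_eq_mul]
      module
    rw [e]
    exact Subgroup.subset_closure ⟨_, _, _, _, rfl⟩
  | one =>
    rw [mul_one, mul_inv_cancel]
    exact Subgroup.one_mem _
  | mul a b _ _ iha ihb =>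
    have : h * (a * b) * h⁻¹ = (h * a * h⁻¹) * (h * b * h⁻¹) := by group
    rw [this]
    exact Subgroup.mul_mem _ iha ihb
  | inv a _ iha =>
    have : h * a⁻¹ * h⁻¹ = (h * a * h⁻¹)⁻¹ := by group
    rw [this]
    exact Subgroup.inv_mem _ iha

end simpE

end Cfsg.Agent.helper13
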