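import Mathlib
import Cfsg.Agent.Lib_helper13_SimpE

set_option autoImplicit false

namespace Cfsg.Agent.helper13

open Matrix QuadraticMap Module Cfsg.Agent.S0794
open scoped commutatorElement

section simpF
variable {F : Type*} [Field F] [Fintype F] [DecidableEq F] {ι : Type} [Fintype ι] [DecidableEq ι]
variable (Q : QuadraticForm F (ι → F))

/-- transitivity of the commutator subgroup on singular points. -/
theorem omega_trans_pts (hQ : (polarBilin Q).Nondegenerate) (hn : 7 ≤ Fintype.card ι)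
    (u u' : ι → F) (hu : Q u = 0) (hu0 : u ≠ 0) (hu' : Q u' = 0) (hu'0 : u' ≠ 0) :
    ∃ x ∈ commutator ↥(Cfsg.isometryGroup F ⇑Q), ∃ t : F, t ≠ 0 ∧ iact x u = t • u' := by
  obtain ⟨g, hg, hgu⟩ := exists_omega_ts Q hQ (Or.inr (by omega)) (Submodule.span F {u})
    (Submodule.span F {u'}) 1 (by omega) (finrank_span_singleton hu0) (finrank_span_singleton hu'0)
    (TS.span_singleton hu) (TS.span_singleton hu')
  rw [gmap_span_singleton] at hgu
  have h1 : iact g u ∈ Submodule.span F {u'} := by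
    rw [← hgu]
    exact Submodule.mem_span_singleton_self _
  obtain ⟨t, ht⟩ := Submodule.mem_span_singleton.mp h1
  refine ⟨g, hg, t, ?_, ht.symm⟩
  rintro rfl
  rw [zero_smul] at ht
  apply hu0
  have := iact_inv_iact g u
  rw [← ht, iact_zero] at this
  exact this.symm

/-- the conjugates of the Siegel group of a point generate the commutator subgroup. -/
theorem gen_by_conj (hQ : (polarBilin Q).Nondegenerate) (hn : 7 ≤ Fintype.card ι)
    (u : ι → F) (hu : Q u = 0) (hu0 : u ≠ 0)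
    (M : Subgroup ↥(commutator ↥(Cfsg.isometryGroup F ⇑Q)))
    (hM : ∀ g a : ↥(commutator ↥(Cfsg.isometryGroup F ⇑Q)),
      (a : ↥(Cfsg.isometryGroup F ⇑Q)) ∈ Au Q u hu → g * a * g⁻¹ ∈ M) : M = ⊤ := by
  have hle : commutator ↥(Cfsg.isometryGroup F ⇑Q) ≤
      M.map (commutator ↥(Cfsg.isometryGroup F ⇑Q)).subtype := by
    have hSg := commutator_eq_Sg Q hQ hn
    refine le_trans (le_of_eq hSg) ?_
    unfold Sg
    rw [Subgroup.closure_le]
    rintro y ⟨u', v', c, hu', hv', hu'v', hm⟩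
    have hy : y = sieG Q u' v' hu' hv' hu'v' c := by
      apply Subtype.ext
      apply Units.ext
      exact hm
    by_cases hu'0 : u' = 0
    · have : y = 1 := by
        rw [hy]
        apply iact_ext
        intro z
        rw [iact_sieG, iact_one, hu'0, polar_zero_left]
        module
      rw [this]
      exact Subgroup.one_mem _
    obtain ⟨x, hx, t, ht, hxu⟩ := omega_trans_pts Q hQ hn u u' hu hu0 hu' hu'0
    have hv : Q (iact x⁻¹ v') = 0 := by rw [Q_iact]; exact hv'
    have huv : polar (⇑Q) u (iact x⁻¹ v') = 0 := by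
      rw [← polar_iact x u (iact x⁻¹ v'), iact_iact_inv, hxu, polar_smul_left, hu'v', smul_zero]
    have ha : sieG Q u (iact x⁻¹ v') hu hv huv (t⁻¹ * c) ∈ Au Q u hu :=
      Subgroup.subset_closure ⟨_, hv, huv, _, rfl⟩
    have haΩ : sieG Q u (iact x⁻¹ v') hu hv huv (t⁻¹ * c) ∈
        commutator ↥(Cfsg.isometryGroup F ⇑Q) := by
      rw [hSg]
      exact sieG_mem_Sg Q _ _ _ _ _ _
    have hconj : x * sieG Q u (iact x⁻¹ v') hu hv huv (t⁻¹ * c) * x⁻¹ = y := by
      rw [hy, sieG_conj_gen]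
      apply iact_ext
      intro z
      rw [iact_sieG, iact_sieG, iact_iact_inv, hxu, polar_smul_left, smul_eq_mul]
      match_scalars <;> field_simp
    have := hM ⟨x, hx⟩ ⟨_, haΩ⟩ ha
    refine ⟨_, this, ?_⟩
    rw [← hconj]
    rfl
  rw [eq_top_iff]
  intro z _
  obtain ⟨m, hm, hmz⟩ := hle z.2
  have : m = z := Subtype.ext hmz
  rwa [← this]

/-- the commutator subgroup is perfect. -/
theorem omega_perfect (hQ : (polarBilin Q).Nondegenerate) (hn : 7 ≤ Fintype.card ι) :
    commutator ↥(commutator ↥(Cfsg.isometryGroup F ⇑Q)) = ⊤ := by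
  have h1 := Sg_le_comm Q hQ hn
  rw [← commutator_eq_Sg Q hQ hn, ← Subgroup.map_subtype_commutator] at h1
  rw [eq_top_iff]
  intro z _
  obtain ⟨m, hm, hmz⟩ := h1 z.2
  have : m = z := Subtype.ext hmz
  rwa [← this]

/-- a normal subgroup of the commutator subgroup is central or everything. -/
theorem normal_omega (hQ : (polarBilin Q).Nondegenerate) (hn : 7 ≤ Fintype.card ι)
    (N : Subgroup ↥(commutator ↥(Cfsg.isometryGroup F ⇑Q))) [hN : N.Normal] :
    N ≤ Subgroup.center ↥(commutator ↥(Cfsg.isometryGroup F ⇑Q)) ∨ N = ⊤ := by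
  by_cases h : ∀ n ∈ N, ∀ u : ι → F, Q u = 0 →
      ∃ t : F, iact (n : ↥(Cfsg.isometryGroup F ⇑Q)) u = t • u
  · left
    intro n hn'
    rw [Subgroup.mem_center_iff]
    intro g
    apply Subtype.ext
    exact (central_of_fix_points Q hQ (by omega) n.val (h n hn') g.val).symm
  · right
    push Not at h
    obtain ⟨n, hn', u, hu, hnu⟩ := h
    have hu0 : u ≠ 0 := by
      rintro rfl
      exact hnu 0 (by rw [iact_zero, smul_zero])
    have hHN : (ptStab Q u).subgroupOf (commutator ↥(Cfsg.isometryGroup F ⇑Q)) ⊔ N = ⊤ := by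
      have hmax := point_stab_max Q hQ hn u hu hu0
        (((ptStab Q u).subgroupOf (commutator ↥(Cfsg.isometryGroup F ⇑Q)) ⊔ N).map
          (commutator ↥(Cfsg.isometryGroup F ⇑Q)).subtype) (Subgroup.map_subtype_le _)
        (by
          rintro h hh ⟨t, ht⟩
          exact ⟨⟨h, hh⟩, Subgroup.mem_sup_left
            (Subgroup.mem_subgroupOf.mpr (mem_ptStab_of Q u hu0 h t ht)), rfl⟩)
        n.val ⟨n, Subgroup.mem_sup_right hn', rfl⟩ hnu
      rw [eq_top_iff]
      intro z _
      obtain ⟨m, hm, hmz⟩ := hmax z.2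
      have : m = z := Subtype.ext hmz
      rwa [← this]
    have key := iwasawa_abs
      ((ptStab Q u).subgroupOf (commutator ↥(Cfsg.isometryGroup F ⇑Q)))
      ((Au Q u hu).subgroupOf (commutator ↥(Cfsg.isometryGroup F ⇑Q))) N hHN
      (by
        intro h hh a ha
        rw [Subgroup.mem_subgroupOf] at hh ha ⊢
        exact Au_conj Q u hu h.val hh a.val ha)
      (by
        intro a ha b hb
        apply Subtype.ext
        exact Au_comm Q u hu a.val ha b.val hb)
      (by
        intro M hM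
        exact gen_by_conj Q hQ hn u hu hu0 M
          (fun g a ha => hM g a (Subgroup.mem_subgroupOf.mpr ha)))
    rw [omega_perfect Q hQ hn] at key
    exact top_le_iff.mp key

/-- the commutator subgroup is nontrivial. -/
theorem omega_nontrivial (hQ : (polarBilin Q).Nondegenerate) (hn : 7 ≤ Fintype.card ι) :
    ∃ z : ↥(commutator ↥(Cfsg.isometryGroup F ⇑Q)), z ≠ 1 := by
  have hdim : 3 ≤ finrank F (ι → F) := by
    rw [Module.finrank_fintype_fun_eq_card]
    omega
  obtain ⟨u, hu0, hu⟩ := exists_singular Q hQ hdim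
  obtain ⟨us, hus, huus⟩ := exists_hyp_pair Q hQ u hu0 hu
  have hZnd := hyp_nondeg Q ⊤ (nondegOn_top Q hQ) u us Submodule.mem_top Submodule.mem_top hu hus
    huus
  have hZrk := hyp_compl_finrank Q hQ ⊤ (nondegOn_top Q hQ) u us Submodule.mem_top
    Submodule.mem_top hu hus huus
  rw [finrank_top, Module.finrank_fintype_fun_eq_card] at hZrk
  have hZne : planeCompl Q ⊤ u us ≠ ⊥ := by
    intro h
    rw [h, finrank_bot] at hZrk
    omega
  obtain ⟨p, hpZ, hp0⟩ := Submodule.exists_mem_ne_zero_of_ne_bot hZne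
  obtain ⟨v, hvZ, hv, hpv⟩ := exists_sing_polar_ne_all Q hQ _ hZnd (by omega) p hpZ hp0
  have hv0 : v ≠ 0 := by
    rintro rfl
    exact hpv (polar_zero_right _ _)
  obtain ⟨vs, hvsZ, hvs, hvvs⟩ := exists_partner_in Q _ hZnd v hvZ hv0 hv
  have huv : polar (⇑Q) u v = 0 := ((mem_planeCompl Q ⊤ u us v).mp hvZ).2.1
  have huvs : polar (⇑Q) u vs = 0 := ((mem_planeCompl Q ⊤ u us vs).mp hvsZ).2.1
  have hmem : sieG Q u v hu hv huv 1 ∈ commutator ↥(Cfsg.isometryGroup F ⇑Q) := by
    rw [commutator_eq_Sg Q hQ hn]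
    exact sieG_mem_Sg Q _ _ _ _ _ _
  refine ⟨⟨_, hmem⟩, ?_⟩
  intro h
  have h1 : sieG Q u v hu hv huv 1 = 1 := congrArg Subtype.val h
  have h3 : iact (sieG Q u v hu hv huv 1) vs = vs := by rw [h1, iact_one]
  rw [iact_sieG, huvs, hvvs] at h3
  apply hu0
  have h4 : vs + (1 : F) • ((0 : F) • v - (1 : F) • u) = vs - u := by module
  rw [h4] at h3
  have : vs - u = vs - 0 := by rw [h3, sub_zero]
  exact sub_right_injective this

/-- simplicity of `PΩ`. -/
theorem pomega_simple (hQ : (polarBilin Q).Nondegenerate) (hn : 7 ≤ Fintype.card ι) :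
    IsSimpleGroup (Cfsg.POmega F ⇑Q) := by
  obtain ⟨z, hz⟩ := omega_nontrivial Q hQ hn
  have hcen : Subgroup.center ↥(commutator ↥(Cfsg.isometryGroup F ⇑Q)) ≠ ⊤ := by
    intro h
    have h1 := (commutator_eq_bot_iff_center_eq_top _).mpr h
    rw [omega_perfect Q hQ hn] at h1
    have : z ∈ (⊤ : Subgroup ↥(commutator ↥(Cfsg.isometryGroup F ⇑Q))) := Subgroup.mem_top z
    rw [h1, Subgroup.mem_bot] at this
    exact hz this
  obtain ⟨x, hx⟩ : ∃ x : ↥(commutator ↥(Cfsg.isometryGroup F ⇑Q)),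
      x ∉ Subgroup.center ↥(commutator ↥(Cfsg.isometryGroup F ⇑Q)) := by
    by_contra hcon
    push Not at hcon
    exact hcen (eq_top_iff.mpr fun y _ => hcon y)
  haveI : Nontrivial (Cfsg.POmega F ⇑Q) :=
    ⟨⟨(QuotientGroup.mk x : Cfsg.POmega F ⇑Q), 1, fun h => hx ((QuotientGroup.eq_one_iff x).mp h)⟩⟩
  apply IsSimpleGroup.mk
  intro Nb hNb
  haveI : (Nb.comap (QuotientGroup.mk' (Subgroup.center
      ↥(commutator ↥(Cfsg.isometryGroup F ⇑Q))))).Normal := hNb.comap _
  rcases normal_omega Q hQ hn (Nb.comap (QuotientGroup.mk' (Subgroup.center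
      ↥(commutator ↥(Cfsg.isometryGroup F ⇑Q))))) with h | h
  · left
    rw [eq_bot_iff]
    intro y hy
    obtain ⟨y', rfl⟩ := QuotientGroup.mk_surjective y
    rw [Subgroup.mem_bot]
    exact (QuotientGroup.eq_one_iff y').mpr (h (Subgroup.mem_comap.mpr hy))
  · right
    rw [eq_top_iff]
    intro y _
    obtain ⟨y', rfl⟩ := QuotientGroup.mk_surjective y
    have : y' ∈ Nb.comap (QuotientGroup.mk' (Subgroup.center
      ↥(commutator ↥(Cfsg.isometryGroup F ⇑Q)))) := by rw [h]; exact Subgroup.mem_top _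
    exact Subgroup.mem_comap.mp this

end simpF

end Cfsg.Agent.helper13
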