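import Mathlib
import Cfsg.Agent.Lib_helper13_SimpF
import Cfsg.Agent.Lib_helper13_GeoTS

/-! Full points: singular points all of whose Siegel transformations lie in a given subgroup. -/

set_option autoImplicit false

namespace Cfsg.Agent.helper13

open Matrix QuadraticMap Module Cfsg.Agent.S0794

section para1
variable {F : Type*} [Field F] [Fintype F] [DecidableEq F] {ι : Type} [Fintype ι] [DecidableEq ι]
variable (Q : QuadraticForm F (ι → F))

/-- a singular point all of whose Siegel transformations lie in `K`. -/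
def FullPt (K : Subgroup ↥(Cfsg.isometryGroup F ⇑Q)) (u : ι → F) : Prop :=
  u ≠ 0 ∧ ∃ hu : Q u = 0, ∀ (v : ι → F) (hv : Q v = 0) (huv : polar (⇑Q) u v = 0) (c : F),
    sieG Q u v hu hv huv c ∈ K

omit [Fintype F] [DecidableEq F] in
theorem iact_ne_zero (k : ↥(Cfsg.isometryGroup F ⇑Q)) (u : ι → F) (hu : u ≠ 0) :
    iact k u ≠ 0 := by
  intro h
  apply hu
  have := iact_inv_iact k u
  rw [h, iact_zero] at this
  exact this.symm

omit [Fintype F] [DecidableEq F] in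
theorem fullPt_iact (K : Subgroup ↥(Cfsg.isometryGroup F ⇑Q)) (k : ↥(Cfsg.isometryGroup F ⇑Q))
    (hk : k ∈ K) (u : ι → F) (h : FullPt Q K u) : FullPt Q K (iact k u) := by
  obtain ⟨hu0, hu, hall⟩ := h
  refine ⟨iact_ne_zero Q k u hu0, by rw [Q_iact]; exact hu, ?_⟩
  intro v' hv' huv' c
  have hv : Q (iact k⁻¹ v') = 0 := by rw [Q_iact]; exact hv'
  have huv : polar (⇑Q) u (iact k⁻¹ v') = 0 := by
    rw [← polar_iact k u (iact k⁻¹ v'), iact_iact_inv]
    exact huv'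
  have e : sieG Q (iact k u) v' (by rw [Q_iact]; exact hu) hv' huv' c =
      k * sieG Q u (iact k⁻¹ v') hu hv huv c * k⁻¹ := by
    rw [sieG_conj_gen]
    apply iact_ext
    intro x
    rw [iact_sieG, iact_sieG, iact_iact_inv]
  rw [e]
  exact K.mul_mem (K.mul_mem hk (hall _ hv huv c)) (K.inv_mem hk)

omit [Fintype F] [DecidableEq F] in
theorem fullPt_smul (K : Subgroup ↥(Cfsg.isometryGroup F ⇑Q)) (t : F) (ht : t ≠ 0)
    (u : ι → F) (h : FullPt Q K u) : FullPt Q K (t • u) := by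
  obtain ⟨hu0, hu, hall⟩ := h
  have hu' : Q (t • u) = 0 := by rw [QuadraticMap.map_smul, hu, smul_zero]
  refine ⟨smul_ne_zero ht hu0, hu', ?_⟩
  intro v hv huv' c
  have huv : polar (⇑Q) u v = 0 := by
    rw [polar_smul_left, smul_eq_mul] at huv'
    exact (mul_eq_zero.mp huv').resolve_left ht
  rw [sieG_smul_left Q u v t hu hu' hv huv huv' c]
  exact hall v hv huv _

omit [Fintype F] [DecidableEq F] in
/-- a Siegel transformation moving `w₁` to `w₂`. -/
theorem sieG_move (u w₁ w₂ : ι → F) (hu : Q u = 0) (h1 : Q w₁ = 0) (h2 : Q w₂ = 0)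
    (hu1 : polar (⇑Q) u w₁ = 1) (hu2 : polar (⇑Q) u w₂ = 1) (h12 : polar (⇑Q) w₁ w₂ = 0) :
    ∃ (hv : Q (w₂ - w₁) = 0) (huv : polar (⇑Q) u (w₂ - w₁) = 0),
      iact (sieG Q u (w₂ - w₁) hu hv huv 1) w₁ = w₂ := by
  have h21 : polar (⇑Q) w₂ w₁ = 0 := by rw [polar_comm]; exact h12
  have hv : Q (w₂ - w₁) = 0 := by
    rw [sub_eq_add_neg, Q_add_polar, QuadraticMap.map_neg, polar_neg_right, h1, h2, h21]
    ring
  have huv : polar (⇑Q) u (w₂ - w₁) = 0 := by
    rw [polar_sub_right, hu1, hu2, sub_self]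
  refine ⟨hv, huv, ?_⟩
  rw [iact_sieG, hu1, polar_sub_left, h21, polar_self', h1]
  module

/-- the Siegel transformations of a full point act transitively on the singular points not
orthogonal to it. -/
theorem fullPt_trans (hQ : (polarBilin Q).Nondegenerate) (hn : 5 ≤ Fintype.card ι)
    (K : Subgroup ↥(Cfsg.isometryGroup F ⇑Q)) (u : ι → F) (hfu : FullPt Q K u)
    (w w' : ι → F) (hw : Q w = 0) (hw' : Q w' = 0) (huw : polar (⇑Q) u w ≠ 0)
    (huw' : polar (⇑Q) u w' ≠ 0) :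
    ∃ a ∈ K, ∃ t : F, t ≠ 0 ∧ iact a w = t • w' := by
  obtain ⟨hu0, hu, hall⟩ := hfu
  obtain ⟨w₁, hw₁def⟩ : ∃ w₁, w₁ = (polar (⇑Q) u w)⁻¹ • w := ⟨_, rfl⟩
  obtain ⟨w₂, hw₂def⟩ : ∃ w₂, w₂ = (polar (⇑Q) u w')⁻¹ • w' := ⟨_, rfl⟩
  have hQw₁ : Q w₁ = 0 := by rw [hw₁def, QuadraticMap.map_smul, hw, smul_zero]
  have hQw₂ : Q w₂ = 0 := by rw [hw₂def, QuadraticMap.map_smul, hw', smul_zero]
  have huw₁ : polar (⇑Q) u w₁ = 1 := by
    rw [hw₁def, polar_smul_right, smul_eq_mul, inv_mul_cancel₀ huw]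
  have huw₂ : polar (⇑Q) u w₂ = 1 := by
    rw [hw₂def, polar_smul_right, smul_eq_mul, inv_mul_cancel₀ huw']
  have hwe : w = polar (⇑Q) u w • w₁ := by
    rw [hw₁def, smul_smul, mul_inv_cancel₀ huw, one_smul]
  -- it suffices to move `w₁` to `w₂`
  suffices hsuff : ∃ a ∈ K, iact a w₁ = w₂ by
    obtain ⟨a, ha, haw⟩ := hsuff
    refine ⟨a, ha, polar (⇑Q) u w * (polar (⇑Q) u w')⁻¹, mul_ne_zero huw (inv_ne_zero huw'), ?_⟩
    rw [hwe, iact_smul, haw, hw₂def, smul_smul, ← hwe]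
  by_cases h12 : polar (⇑Q) w₁ w₂ = 0
  · obtain ⟨hv, huv, hmove⟩ := sieG_move Q u w₁ w₂ hu hQw₁ hQw₂ huw₁ huw₂ h12
    exact ⟨_, hall _ hv huv 1, hmove⟩
  · -- an intermediate point orthogonal to both
    obtain ⟨f, hfdef⟩ : ∃ f, f = (polar (⇑Q) w₁ w₂)⁻¹ • w₂ := ⟨_, rfl⟩
    have hQf : Q f = 0 := by rw [hfdef, QuadraticMap.map_smul, hQw₂, smul_zero]
    have hw₁f : polar (⇑Q) w₁ f = 1 := by
      rw [hfdef, polar_smul_right, smul_eq_mul, inv_mul_cancel₀ h12]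
    have hYnd := hyp_nondeg Q ⊤ (nondegOn_top Q hQ) w₁ f Submodule.mem_top Submodule.mem_top
      hQw₁ hQf hw₁f
    have hYrk := hyp_compl_finrank Q hQ ⊤ (nondegOn_top Q hQ) w₁ f Submodule.mem_top
      Submodule.mem_top hQw₁ hQf hw₁f
    rw [finrank_top, Module.finrank_fintype_fun_eq_card] at hYrk
    have hpY := hyp_dec Q ⊤ w₁ f Submodule.mem_top Submodule.mem_top hQw₁ hQf hw₁f u
      Submodule.mem_top
    have hfu : polar (⇑Q) f u ≠ 0 := by
      rw [hfdef, polar_smul_left, polar_comm (⇑Q) w₂ u, huw₂, smul_eq_mul, mul_one]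
      exact inv_ne_zero h12
    have hw₁u : polar (⇑Q) w₁ u = 1 := by rw [polar_comm]; exact huw₁
    have hp0 : u - polar (⇑Q) f u • w₁ - polar (⇑Q) w₁ u • f ≠ 0 := by
      intro h
      have hue : u = polar (⇑Q) f u • w₁ + polar (⇑Q) w₁ u • f := by
        rw [sub_sub, sub_eq_zero] at h
        exact h
      have hQu : Q u = polar (⇑Q) f u * polar (⇑Q) w₁ u := by
        conv_lhs => rw [hue]
        rw [Q_add_polar, QuadraticMap.map_smul, QuadraticMap.map_smul, hQw₁, hQf,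
          polar_smul_left, polar_smul_right, hw₁f]
        simp only [smul_eq_mul, mul_zero, zero_add, mul_one]
      rw [hu, hw₁u, mul_one] at hQu
      exact hfu hQu.symm
    obtain ⟨d, hdY, hQd, hpd⟩ := exists_sing_polar_ne_all Q hQ _ hYnd (by omega) _ hpY hp0
    obtain ⟨-, hw₁d, hfd⟩ := (mem_planeCompl Q ⊤ w₁ f d).mp hdY
    have hud : polar (⇑Q) u d ≠ 0 := by
      rw [polar_sub_left, polar_sub_left, polar_smul_left, polar_smul_left, hw₁d, hfd,
        smul_zero, smul_zero, sub_zero, sub_zero] at hpd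
      exact hpd
    obtain ⟨w₃, hw₃def⟩ : ∃ w₃, w₃ = (polar (⇑Q) u d)⁻¹ • d := ⟨_, rfl⟩
    have hQw₃ : Q w₃ = 0 := by rw [hw₃def, QuadraticMap.map_smul, hQd, smul_zero]
    have huw₃ : polar (⇑Q) u w₃ = 1 := by
      rw [hw₃def, polar_smul_right, smul_eq_mul, inv_mul_cancel₀ hud]
    have h13 : polar (⇑Q) w₁ w₃ = 0 := by
      rw [hw₃def, polar_smul_right, hw₁d, smul_zero]
    have hw₂d : polar (⇑Q) w₂ d = 0 := by
      have hw₂e : w₂ = polar (⇑Q) w₁ w₂ • f := by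
        rw [hfdef, smul_smul, mul_inv_cancel₀ h12, one_smul]
      rw [hw₂e, polar_smul_left, hfd, smul_zero]
    have h32 : polar (⇑Q) w₃ w₂ = 0 := by
      rw [hw₃def, polar_smul_left, polar_comm (⇑Q) d w₂, hw₂d, smul_zero]
    obtain ⟨hv1, huv1, hmove1⟩ := sieG_move Q u w₁ w₃ hu hQw₁ hQw₃ huw₁ huw₃ h13
    obtain ⟨hv2, huv2, hmove2⟩ := sieG_move Q u w₃ w₂ hu hQw₃ hQw₂ huw₃ huw₂ h32
    refine ⟨_, K.mul_mem (hall _ hv2 huv2 1) (hall _ hv1 huv1 1), ?_⟩
    rw [iact_mul, hmove1, hmove2]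

/-- two non-orthogonal full points force every singular point to be full. -/
theorem fullPt_all (hQ : (polarBilin Q).Nondegenerate) (hn : 5 ≤ Fintype.card ι)
    (K : Subgroup ↥(Cfsg.isometryGroup F ⇑Q)) (u u' : ι → F) (hfu : FullPt Q K u)
    (hfu' : FullPt Q K u') (huu' : polar (⇑Q) u u' ≠ 0) (y : ι → F) (hy : Q y = 0)
    (hy0 : y ≠ 0) : FullPt Q K y := by
  have step : ∀ (b b' : ι → F), FullPt Q K b → FullPt Q K b' → polar (⇑Q) b b' ≠ 0 →
      ∀ z : ι → F, Q z = 0 → polar (⇑Q) b z ≠ 0 → FullPt Q K z := by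
    intro b b' hb hb' hbb' z hz hbz
    obtain ⟨a, ha, t, ht, haz⟩ := fullPt_trans Q hQ hn K b hb b' z hb'.2.1 hz hbb' hbz
    have h1 := fullPt_iact Q K a ha b' hb'
    rw [haz] at h1
    have h2 := fullPt_smul Q K t⁻¹ (inv_ne_zero ht) _ h1
    rwa [smul_smul, inv_mul_cancel₀ ht, one_smul] at h2
  by_cases huy : polar (⇑Q) u y = 0
  · obtain ⟨z, hz, huz, hyz⟩ := exists_sing_nonperp_two Q hQ u y hfu.2.1 hfu.1 hy hy0 huy
    have hfz := step u u' hfu hfu' huu' z hz huz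
    have hzu : polar (⇑Q) z u ≠ 0 := by rw [polar_comm]; exact huz
    have hzy : polar (⇑Q) z y ≠ 0 := by rw [polar_comm]; exact hyz
    exact step z u hfz hfu hzu y hy hzy
  · exact step u u' hfu hfu' huu' y hy huy

/-- if every singular point is full then the subgroup contains the commutator subgroup. -/
theorem comm_le_of_fullPt (hQ : (polarBilin Q).Nondegenerate) (hn : 7 ≤ Fintype.card ι)
    (K : Subgroup ↥(Cfsg.isometryGroup F ⇑Q))
    (hall : ∀ y : ι → F, Q y = 0 → y ≠ 0 → FullPt Q K y) :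
    commutator ↥(Cfsg.isometryGroup F ⇑Q) ≤ K := by
  rw [commutator_eq_Sg Q hQ hn]
  unfold Sg
  rw [Subgroup.closure_le]
  rintro y ⟨u', v', c, hu', hv', hu'v', hm⟩
  have hy : y = sieG Q u' v' hu' hv' hu'v' c := by
    apply Subtype.ext
    apply Units.ext
    exact hm
  by_cases hu'0 : u' = 0
  · have : y = 1 := by
      rw [hy]
      apply iact_ext
      intro z
      rw [iact_sieG, iact_one, hu'0, polar_zero_left]
      module
    rw [this]
    exact K.one_mem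
  · obtain ⟨-, hu'', hmem⟩ := hall u' hu' hu'0
    rw [hy]
    exact hmem v' hv' hu'v' c

end para1

end Cfsg.Agent.helper13
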