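import Mathlib
import Cfsg.Agent.Lib_helper13_Para1

/-! Maximality of the stabiliser of a totally singular subspace in the commutator subgroup of an
orthogonal group. -/

set_option autoImplicit false

namespace Cfsg.Agent.helper13

open Matrix QuadraticMap Module Cfsg.Agent.S0794

section para2
variable {F : Type*} [Field F] [Fintype F] [DecidableEq F] {ι : Type} [Fintype ι] [DecidableEq ι]
variable (Q : QuadraticForm F (ι → F))

omit [Fintype F] [DecidableEq F] [DecidableEq ι] in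
/-- auxiliary vectors for a singular vector in `W^⊥` outside `W`. -/
theorem exists_aux (hQ : (polarBilin Q).Nondegenerate) (W : Submodule F (ι → F)) (hW : TS Q W)
    (hex : 2 * (finrank F W + 1) = Fintype.card ι →
      ∀ x : ι → F, Q x = 0 → x ∈ orthQ Q W → x ∈ W)
    (x : ι → F) (hx : Q x = 0) (hxo : x ∈ orthQ Q W) (hxW : x ∉ W) :
    ∃ u₁ z : ι → F, Q u₁ = 0 ∧ u₁ ∈ orthQ Q W ∧ polar (⇑Q) u₁ x ≠ 0 ∧ Q z ≠ 0 ∧
      z ∈ orthQ Q W ∧ polar (⇑Q) z x = 0 ∧ polar (⇑Q) z u₁ = 0 := by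
  have hrefl : (polarBilin Q).IsRefl := by
    intro a b h
    rw [polarBilin_apply_apply] at h ⊢
    rw [polar_comm]
    exact h
  obtain ⟨y, hyo, hyx⟩ : ∃ y ∈ orthQ Q W, polar (⇑Q) y x ≠ 0 := by
    by_contra hcon
    push Not at hcon
    apply hxW
    rw [← LinearMap.BilinForm.orthogonal_orthogonal hQ hrefl W]
    exact (mem_orth_iff Q (orthQ Q W) x).mpr hcon
  obtain ⟨u₁, hu₁def⟩ : ∃ u₁, u₁ = y - (Q y * (polar (⇑Q) y x)⁻¹) • x := ⟨_, rfl⟩
  have hQu₁ : Q u₁ = 0 := by
    rw [hu₁def, sub_eq_add_neg, Q_add_polar, QuadraticMap.map_neg, QuadraticMap.map_smul, hx,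
      polar_neg_right, polar_smul_right]
    simp only [smul_eq_mul, mul_zero, add_zero]
    rw [mul_assoc, inv_mul_cancel₀ hyx, mul_one, add_neg_cancel]
  have hu₁o : u₁ ∈ orthQ Q W := by
    rw [hu₁def]
    exact (orthQ Q W).sub_mem hyo ((orthQ Q W).smul_mem _ hxo)
  have hu₁x : polar (⇑Q) u₁ x ≠ 0 := by
    rw [hu₁def, polar_sub_left, polar_smul_left, polar_self', hx, mul_zero, smul_zero, sub_zero]
    exact hyx
  have hx0 : x ≠ 0 := by
    rintro rfl
    exact hxW W.zero_mem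
  have hu₁0 : u₁ ≠ 0 := by
    rintro rfl
    exact hu₁x (polar_zero_left _ _)
  obtain ⟨U₂, hU₂def⟩ : ∃ U₂, U₂ = W ⊔ Submodule.span F {x} ⊔ Submodule.span F {u₁} := ⟨_, rfl⟩
  have hWU : W ≤ U₂ := by rw [hU₂def]; exact le_sup_of_le_left le_sup_left
  have hxU : x ∈ U₂ := by
    rw [hU₂def]
    exact Submodule.mem_sup_left (Submodule.mem_sup_right (Submodule.mem_span_singleton_self x))
  have huU : u₁ ∈ U₂ := by
    rw [hU₂def]
    exact Submodule.mem_sup_right (Submodule.mem_span_singleton_self u₁)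
  obtain ⟨z, hzo, hQz⟩ : ∃ z ∈ orthQ Q U₂, Q z ≠ 0 := by
    by_contra hcon
    push Not at hcon
    have hZ : TS Q (orthQ Q U₂) := fun a ha => hcon a ha
    have hxZ : x ∉ orthQ Q U₂ := by
      intro h
      exact hu₁x ((mem_orth_iff Q U₂ x).mp h u₁ huU)
    have hT : TS Q (orthQ Q U₂ ⊔ Submodule.span F {x}) := by
      apply TS.sup hZ (TS.span_singleton hx)
      intro a ha b hb
      obtain ⟨t, rfl⟩ := Submodule.mem_span_singleton.mp hb
      rw [polar_smul_right, polar_comm, (mem_orth_iff Q U₂ a).mp ha x hxU, smul_zero]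
    have hW₁ : TS Q (W ⊔ Submodule.span F {x}) := by
      apply TS.sup hW (TS.span_singleton hx)
      intro a ha b hb
      obtain ⟨t, rfl⟩ := Submodule.mem_span_singleton.mp hb
      rw [polar_smul_right, (mem_orth_iff Q W x).mp hxo a ha, smul_zero]
    have h1 := TS.two_finrank_le Q hQ hT
    have h2 := TS.two_finrank_le Q hQ hW₁
    have h3 : finrank F (orthQ Q U₂) < finrank F ↥(orthQ Q U₂ ⊔ Submodule.span F {x}) := by
      apply Submodule.finrank_lt_finrank_of_lt
      apply lt_of_le_of_ne le_sup_left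
      intro h
      apply hxZ
      rw [h]
      exact Submodule.mem_sup_right (Submodule.mem_span_singleton_self x)
    have h4 : finrank F W < finrank F ↥(W ⊔ Submodule.span F {x}) := by
      apply Submodule.finrank_lt_finrank_of_lt
      apply lt_of_le_of_ne le_sup_left
      intro h
      apply hxW
      rw [h]
      exact Submodule.mem_sup_right (Submodule.mem_span_singleton_self x)
    have h5 : finrank F (orthQ Q U₂) = Fintype.card ι - finrank F U₂ := by
      have := LinearMap.BilinForm.finrank_orthogonal hQ U₂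
      rwa [Module.finrank_fintype_fun_eq_card] at this
    have h6 : finrank F U₂ ≤ finrank F W + 1 + 1 := by
      rw [hU₂def]
      have a1 := Submodule.finrank_add_le_finrank_add_finrank (W ⊔ Submodule.span F {x})
        (Submodule.span F {u₁})
      have a2 := Submodule.finrank_add_le_finrank_add_finrank W (Submodule.span F {x})
      rw [finrank_span_singleton hu₁0] at a1
      rw [finrank_span_singleton hx0] at a2
      omega
    have h7 : finrank F U₂ ≤ Fintype.card ι := by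
      rw [← Module.finrank_fintype_fun_eq_card (R := F) (η := ι)]
      exact Submodule.finrank_le _
    have h8 : 2 * (finrank F W + 1) = Fintype.card ι := by omega
    exact hxW (hex h8 x hx hxo)
  refine ⟨u₁, z, hQu₁, hu₁o, hu₁x, hQz, ?_, ?_, ?_⟩
  · rw [mem_orth_iff]
    intro a ha
    exact (mem_orth_iff Q U₂ z).mp hzo a (hWU ha)
  · rw [polar_comm]
    exact (mem_orth_iff Q U₂ z).mp hzo x hxU
  · rw [polar_comm]
    exact (mem_orth_iff Q U₂ z).mp hzo u₁ huU

/-- maximality of the stabiliser of a totally singular subspace. -/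
theorem para_max (hQ : (polarBilin Q).Nondegenerate) (hn : 7 ≤ Fintype.card ι)
    (W : Submodule F (ι → F)) (hW : TS Q W)
    (hex : 2 * (finrank F W + 1) = Fintype.card ι →
      ∀ x : ι → F, Q x = 0 → x ∈ orthQ Q W → x ∈ W)
    (K : Subgroup ↥(Cfsg.isometryGroup F ⇑Q))
    (hPK : ∀ h ∈ commutator ↥(Cfsg.isometryGroup F ⇑Q), gmap h W = W → h ∈ K)
    (g : ↥(Cfsg.isometryGroup F ⇑Q)) (hgK : g ∈ K) (hg : gmap g W ≠ W) :
    commutator ↥(Cfsg.isometryGroup F ⇑Q) ≤ K := by
  have hne : Fintype.card F ≠ 2 ∨ Fintype.card ι ≠ 4 := Or.inr (by omega)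
  -- points of `W` are full
  have hfullW : ∀ u ∈ W, u ≠ 0 → FullPt Q K u := by
    intro u huW hu0
    refine ⟨hu0, hW u huW, ?_⟩
    intro v hv huv c
    apply hPK
    · rw [commutator_eq_Sg Q hQ hn]
      exact sieG_mem_Sg Q _ _ _ _ _ _
    · apply gmap_eq_of_le
      intro x hx
      obtain ⟨a, ha, rfl⟩ := (mem_gmap _ W x).mp hx
      rw [iact_sieG, hW.polar_zero huW ha, zero_smul, zero_sub]
      exact W.add_mem ha (W.smul_mem _ (W.neg_mem (W.smul_mem _ huW)))
  by_cases hA : ∃ k ∈ K, ∃ w ∈ W, ∃ w' ∈ W, polar (⇑Q) w (iact k w') ≠ 0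
  · obtain ⟨k, hk, w, hw, w', hw', hne'⟩ := hA
    have hw0 : w ≠ 0 := by
      rintro rfl
      exact hne' (polar_zero_left _ _)
    have hw'0 : w' ≠ 0 := by
      rintro rfl
      rw [iact_zero] at hne'
      exact hne' (polar_zero_right _ _)
    have f1 := hfullW w hw hw0
    have f2 := fullPt_iact Q K k hk w' (hfullW w' hw' hw'0)
    exact comm_le_of_fullPt Q hQ hn K
      (fun y hy hy0 => fullPt_all Q hQ (by omega) K w (iact k w') f1 f2 hne' y hy hy0)
  · exfalso
    push Not at hA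
    obtain ⟨w₀, hw₀, hgw₀⟩ : ∃ w₀ ∈ W, iact g w₀ ∉ W := by
      by_contra hcon
      push Not at hcon
      apply hg
      apply gmap_eq_of_le
      intro x hx
      obtain ⟨a, ha, rfl⟩ := (mem_gmap g W x).mp hx
      exact hcon a ha
    obtain ⟨x, hxdef⟩ : ∃ x, x = iact g w₀ := ⟨_, rfl⟩
    have hx : Q x = 0 := by rw [hxdef, Q_iact]; exact hW w₀ hw₀
    have hxo : x ∈ orthQ Q W := by
      rw [mem_orth_iff]
      intro a ha
      rw [hxdef]
      exact hA g hgK a ha w₀ hw₀
    have hxW : x ∉ W := by rw [hxdef]; exact hgw₀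
    obtain ⟨u₁, z, hQu₁, hu₁o, hu₁x, hQz, hzo, hzx, hzu₁⟩ :=
      exists_aux Q hQ W hW hex x hx hxo hxW
    have hQzu : Q (z + u₁) = Q z := by rw [Q_add_polar, hQu₁, hzu₁]; ring
    have hQzu0 : Q (z + u₁) ≠ 0 := by rw [hQzu]; exact hQz
    obtain ⟨h, hhdef⟩ : ∃ h, h = reflG Q (z + u₁) hQzu0 * reflG Q z hQz := ⟨_, rfl⟩
    have hhΩ : h ∈ commutator ↥(Cfsg.isometryGroup F ⇑Q) := by
      rw [hhdef]
      exact reflG_pair_mem_comm Q hQ hne z (z + u₁) hQz hQzu0 hQzu
    have hhW : gmap h W = W := by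
      apply gmap_eq_of_fix
      intro a ha
      rw [hhdef, iact_mul, iact_reflG_of_polar Q z hQz a ((mem_orth_iff Q W z).mp hzo a ha ▸ polar_comm (⇑Q) z a),
        iact_reflG_of_polar Q (z + u₁) hQzu0 a (by
          rw [polar_add_left, polar_comm (⇑Q) z a, (mem_orth_iff Q W z).mp hzo a ha,
            polar_comm (⇑Q) u₁ a, (mem_orth_iff Q W u₁).mp hu₁o a ha, add_zero])]
    have hhK : h ∈ K := hPK h hhΩ hhW
    have hkK : g⁻¹ * h * g ∈ K := K.mul_mem (K.mul_mem (K.inv_mem hgK) hhK) hgK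
    have hzero := hA _ hkK w₀ hw₀ w₀ hw₀
    rw [← polar_iact g, iact_mul, iact_mul, iact_iact_inv, ← hxdef] at hzero
    have hhx : iact h x = x - ((Q z)⁻¹ * polar (⇑Q) u₁ x) • (z + u₁) := by
      rw [hhdef, iact_mul, iact_reflG_of_polar Q z hQz x hzx, iact_reflG, hQzu, polar_add_left,
        hzx, zero_add]
    rw [hhx, polar_sub_right, polar_self', hx, polar_smul_right, polar_add_right,
      polar_comm (⇑Q) x z, hzx, polar_comm (⇑Q) x u₁] at hzero
    simp only [mul_zero, zero_add, zero_sub, smul_eq_mul, neg_eq_zero] at hzero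
    have : (Q z)⁻¹ * polar (⇑Q) u₁ x * polar (⇑Q) u₁ x ≠ 0 :=
      mul_ne_zero (mul_ne_zero (inv_ne_zero hQz) hu₁x) hu₁x
    exact this hzero

end para2

end Cfsg.Agent.helper13
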