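import Mathlib
import Cfsg.Agent.Lib_helper13_Para2

/-! Maximality of parabolic subgroups of `Ω`, in the form of the geometric classes. -/

set_option autoImplicit false

namespace Cfsg.Agent.helper13

open Matrix QuadraticMap Module Cfsg.Agent.S0794

section para3
variable {F : Type*} [Field F] [Fintype F] {ι : Type} [Fintype ι] [DecidableEq ι]
variable (Q : QuadraticForm F (ι → F))

theorem para_isMaximalIn (hQ : (polarBilin Q).Nondegenerate) (hn : 7 ≤ Fintype.card ι)
    (W : Submodule F (ι → F)) (hW : TS Q W) (hW0 : W ≠ ⊥)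
    (hex : 2 * (finrank F W + 1) = Fintype.card ι →
      ∀ x : ι → F, Q x = 0 → x ∈ orthQ Q W → x ∈ W) :
    Cfsg.Geo.IsMaximalIn (Cfsg.Geo.omegaGL ⇑Q)
      (Cfsg.Geo.subspaceStabilizer W ⊓ Cfsg.Geo.omegaGL ⇑Q) := by
  classical
  constructor
  · apply inf_omega_lt_omega Q
    obtain ⟨u, huW, hu0⟩ := Submodule.exists_mem_ne_zero_of_ne_bot hW0
    have hu : Q u = 0 := hW u huW
    obtain ⟨y, hy, huy⟩ := exists_hyp_pair Q hQ u hu0 hu
    have hy0 : y ≠ 0 := by
      rintro rfl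
      rw [polar_zero_right] at huy
      exact zero_ne_one huy
    obtain ⟨h, hh, t, ht, hhu⟩ := omega_trans_pts Q hQ hn u y hu hu0 hy hy0
    refine ⟨h, hh, ?_⟩
    rw [mem_subspaceStabilizer_iff]
    intro hgm
    have h1 : iact h u ∈ gmap h W := (mem_gmap h W _).mpr ⟨u, huW, rfl⟩
    rw [hgm, hhu] at h1
    have h2 : y ∈ W := by
      have := W.smul_mem t⁻¹ h1
      rwa [smul_smul, inv_mul_cancel₀ ht, one_smul] at this
    have := hW.polar_zero huW h2
    rw [huy] at this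
    exact one_ne_zero this
  · intro M hPM hMΩ
    obtain ⟨K, hKdef⟩ : ∃ K : Subgroup ↥(Cfsg.isometryGroup F ⇑Q),
        K = M.comap (Cfsg.isometryGroup F ⇑Q).subtype := ⟨_, rfl⟩
    have hmemK : ∀ k : ↥(Cfsg.isometryGroup F ⇑Q), k ∈ K ↔ (k : GL ι F) ∈ M := by
      intro k
      rw [hKdef, Subgroup.mem_comap]
      rfl
    have hKΩ : ∀ k ∈ K, k ∈ commutator ↥(Cfsg.isometryGroup F ⇑Q) := by
      intro k hk
      obtain ⟨h, hh, hhk⟩ := (mem_omegaGL Q _).mp (hMΩ ((hmemK k).mp hk))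
      have : h = k := Subtype.ext hhk
      rwa [← this]
    have hPK : ∀ h ∈ commutator ↥(Cfsg.isometryGroup F ⇑Q), gmap h W = W → h ∈ K := by
      intro h hh hhW
      rw [hmemK]
      apply hPM
      exact Subgroup.mem_inf.mpr ⟨(mem_subspaceStabilizer_iff Q h W).mpr hhW,
        (mem_omegaGL Q _).mpr ⟨h, hh, rfl⟩⟩
    by_cases hall : ∀ g ∈ K, gmap g W = W
    · left
      apply le_antisymm _ hPM
      intro x hx
      obtain ⟨h, hh, rfl⟩ := (mem_omegaGL Q x).mp (hMΩ hx)
      exact Subgroup.mem_inf.mpr ⟨(mem_subspaceStabilizer_iff Q h W).mpr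
        (hall h ((hmemK h).mpr hx)), hMΩ hx⟩
    · right
      push Not at hall
      obtain ⟨g, hgK, hg⟩ := hall
      have hle := para_max Q hQ hn W hW hex K hPK g hgK hg
      apply le_antisymm hMΩ
      intro x hx
      obtain ⟨h, hh, rfl⟩ := (mem_omegaGL Q x).mp hx
      exact (hmemK h).mp (hle hh)

end para3

end Cfsg.Agent.helper13
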