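import Mathlib
import Cfsg.Agent.Lib_helper13_Para3

/-! Characteristic two: the stabiliser of a nonsingular vector is maximal in `Ω`. -/

set_option autoImplicit false

namespace Cfsg.Agent.helper13

open Matrix QuadraticMap Module

section nsp1
variable {F : Type*} [Field F] [Fintype F] {ι : Type} [Fintype ι] [DecidableEq ι]
variable (Q : QuadraticForm F (ι → F))

omit [Fintype F] [DecidableEq ι] [Fintype ι] in
theorem finrank_span_singleton_le_one (x : ι → F) : finrank F (Submodule.span F {x}) ≤ 1 := by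
  by_cases hx : x = 0
  · rw [hx, Submodule.span_zero_singleton, finrank_bot]
    omega
  · rw [finrank_span_singleton hx]

omit [Fintype F] [DecidableEq ι] in
/-- a nonsingular vector orthogonal to four given vectors. -/
theorem exists_nonsing_perp4 (hQ : (polarBilin Q).Nondegenerate) (hn : 9 ≤ Fintype.card ι)
    (s₁ s₂ s₃ s₄ : ι → F) :
    ∃ w : ι → F, Q w ≠ 0 ∧ polar (⇑Q) s₁ w = 0 ∧ polar (⇑Q) s₂ w = 0 ∧ polar (⇑Q) s₃ w = 0 ∧
      polar (⇑Q) s₄ w = 0 := by
  obtain ⟨S, hSdef⟩ : ∃ S, S = Submodule.span F {s₁} ⊔ Submodule.span F {s₂} ⊔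
      Submodule.span F {s₃} ⊔ Submodule.span F {s₄} := ⟨_, rfl⟩
  have m1 : s₁ ∈ S := by
    rw [hSdef]
    exact Submodule.mem_sup_left (Submodule.mem_sup_left (Submodule.mem_sup_left
      (Submodule.mem_span_singleton_self _)))
  have m2 : s₂ ∈ S := by
    rw [hSdef]
    exact Submodule.mem_sup_left (Submodule.mem_sup_left (Submodule.mem_sup_right
      (Submodule.mem_span_singleton_self _)))
  have m3 : s₃ ∈ S := by
    rw [hSdef]
    exact Submodule.mem_sup_left (Submodule.mem_sup_right (Submodule.mem_span_singleton_self _))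
  have m4 : s₄ ∈ S := by
    rw [hSdef]
    exact Submodule.mem_sup_right (Submodule.mem_span_singleton_self _)
  have hrk : finrank F S ≤ 4 := by
    rw [hSdef]
    have a1 := Submodule.finrank_add_le_finrank_add_finrank
      (Submodule.span F {s₁} ⊔ Submodule.span F {s₂} ⊔ Submodule.span F {s₃})
      (Submodule.span F {s₄})
    have a2 := Submodule.finrank_add_le_finrank_add_finrank
      (Submodule.span F {s₁} ⊔ Submodule.span F {s₂}) (Submodule.span F {s₃})
    have a3 := Submodule.finrank_add_le_finrank_add_finrank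
      (Submodule.span F {s₁}) (Submodule.span F {s₂})
    have b1 := finrank_span_singleton_le_one s₁
    have b2 := finrank_span_singleton_le_one s₂
    have b3 := finrank_span_singleton_le_one s₃
    have b4 := finrank_span_singleton_le_one s₄
    omega
  obtain ⟨w, hwo, hQw⟩ : ∃ w ∈ orthQ Q S, Q w ≠ 0 := by
    by_contra hcon
    push Not at hcon
    have hts : TS Q (orthQ Q S) := fun y hy => hcon y hy
    have h1 := TS.two_finrank_le Q hQ hts
    have h2 : finrank F (orthQ Q S) = Fintype.card ι - finrank F S := by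
      have := LinearMap.BilinForm.finrank_orthogonal hQ S
      rwa [Module.finrank_fintype_fun_eq_card] at this
    omega
  have hw := (mem_orth_iff Q S w).mp hwo
  exact ⟨w, hQw, hw s₁ m1, hw s₂ m2, hw s₃ m3, hw s₄ m4⟩

/-- the relation "the product of the two reflections lies in `K`". -/
def RR (K : Subgroup ↥(Cfsg.isometryGroup F ⇑Q)) (a b : ι → F) : Prop :=
  ∃ (ha : Q a ≠ 0) (hb : Q b ≠ 0), reflG Q a ha * reflG Q b hb ∈ K

omit [Fintype F] in
theorem RR.symm {K : Subgroup ↥(Cfsg.isometryGroup F ⇑Q)} {a b : ι → F} (h : RR Q K a b) :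
    RR Q K b a := by
  obtain ⟨ha, hb, hm⟩ := h
  refine ⟨hb, ha, ?_⟩
  have := K.inv_mem hm
  rwa [_root_.mul_inv_rev, reflG_inv, reflG_inv] at this

omit [Fintype F] in
theorem RR.trans {K : Subgroup ↥(Cfsg.isometryGroup F ⇑Q)} {a b c : ι → F} (h : RR Q K a b)
    (h' : RR Q K b c) : RR Q K a c := by
  obtain ⟨ha, hb, hm⟩ := h
  obtain ⟨hb', hc, hm'⟩ := h'
  refine ⟨ha, hc, ?_⟩
  have := K.mul_mem hm hm'
  rwa [mul_assoc, ← mul_assoc (reflG Q b hb), reflG_mul_self, one_mul] at this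

omit [Fintype F] in
/-- the class of a vector is closed under the reflections in its members. -/
theorem RR.refl_closed {K : Subgroup ↥(Cfsg.isometryGroup F ⇑Q)} {b d c₀ : ι → F}
    (hb : RR Q K b c₀) (hd : RR Q K d c₀) (hQb : Q b ≠ 0) :
    RR Q K (iact (reflG Q b hQb) d) c₀ := by
  have hbd : RR Q K b d := RR.trans Q hb (RR.symm Q hd)
  obtain ⟨hb1, hd1, hm1⟩ := hbd
  obtain ⟨hb2, hc2, hm2⟩ := hb
  refine ⟨by rw [Q_iact]; exact hd1, hc2, ?_⟩
  have e : reflG Q (iact (reflG Q b hQb) d) (by rw [Q_iact]; exact hd1) =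
      reflG Q b hQb * reflG Q d hd1 * (reflG Q b hQb)⁻¹ := (reflG_conj Q _ d hd1).symm
  rw [e, reflG_inv]
  have := K.mul_mem hm1 hm2
  rwa [← mul_assoc] at this

/-- a subgroup containing all products of two reflections contains the commutator subgroup. -/
theorem comm_le_of_all_pairs (hQ : (polarBilin Q).Nondegenerate)
    (hne : Fintype.card F ≠ 2 ∨ Fintype.card ι ≠ 4)
    (K : Subgroup ↥(Cfsg.isometryGroup F ⇑Q))
    (H : ∀ (a b : ι → F) (ha : Q a ≠ 0) (hb : Q b ≠ 0), reflG Q a ha * reflG Q b hb ∈ K) :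
    commutator ↥(Cfsg.isometryGroup F ⇑Q) ≤ K := by
  classical
  obtain ⟨S, hSdef⟩ : ∃ S : Set ↥(Cfsg.isometryGroup F ⇑Q), S = {x | ∃ (a b : ι → F)
      (ha : Q a ≠ 0) (hb : Q b ≠ 0), x = reflG Q a ha * reflG Q b hb} := ⟨_, rfl⟩
  have h1 : commutator ↥(Cfsg.isometryGroup F ⇑Q) ≤ Subgroup.normalClosure S :=
    commutator_le_of_pairs_all Q hQ hne _ (fun a b ha hb _ =>
      Subgroup.subset_normalClosure (by rw [hSdef]; exact ⟨a, b, ha, hb, rfl⟩))
  refine le_trans h1 ?_
  unfold Subgroup.normalClosure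
  rw [Subgroup.closure_le]
  intro x hx
  obtain ⟨s, hs, hconj⟩ := Group.mem_conjugatesOfSet_iff.mp hx
  rw [hSdef] at hs
  obtain ⟨a, b, ha, hb, rfl⟩ := hs
  obtain ⟨c, hc⟩ := isConj_iff.mp hconj
  rw [SetLike.mem_coe, ← hc]
  have : c * (reflG Q a ha * reflG Q b hb) * c⁻¹ =
      (c * reflG Q a ha * c⁻¹) * (c * reflG Q b hb * c⁻¹) := by group
  rw [this, reflG_conj, reflG_conj]
  exact H _ _ _ _

end nsp1

end Cfsg.Agent.helper13
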