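import Mathlib
import Cfsg.Agent.Lib_helper13_Nsp1

/-! Characteristic two: the stabiliser of a nonsingular vector is maximal in `Ω`, main argument. -/

set_option autoImplicit false

namespace Cfsg.Agent.helper13

open Matrix QuadraticMap Module

section nsp2
variable {F : Type*} [Field F] [Fintype F] {ι : Type} [Fintype ι] [DecidableEq ι]
variable (Q : QuadraticForm F (ι → F))

theorem nsp_max (h2 : (2 : F) = 0) (hQ : (polarBilin Q).Nondegenerate)
    (hn : 13 ≤ Fintype.card ι) (v : ι → F) (hv : Q v ≠ 0)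
    (K : Subgroup ↥(Cfsg.isometryGroup F ⇑Q))
    (hPK : ∀ h ∈ commutator ↥(Cfsg.isometryGroup F ⇑Q), iact h v = v → h ∈ K)
    (g : ↥(Cfsg.isometryGroup F ⇑Q)) (hgK : g ∈ K) (hg : ∀ t : F, iact g v ≠ t • v) :
    commutator ↥(Cfsg.isometryGroup F ⇑Q) ≤ K := by
  have hne : Fintype.card F ≠ 2 ∨ Fintype.card ι ≠ 4 := Or.inr (by omega)
  have hch : ringChar F = 2 := CharP.ringChar_of_prime_eq_zero Nat.prime_two h2
  have sqrt : ∀ a : F, ∃ t : F, a = t * t := fun a => FiniteField.isSquare_of_char_two hch a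
  have pself : ∀ x : ι → F, polar (⇑Q) x x = 0 := by
    intro x
    rw [polar_self', h2, zero_mul]
  obtain ⟨v', hv'def⟩ : ∃ v', v' = iact g v := ⟨_, rfl⟩
  have hv' : Q v' ≠ 0 := by rw [hv'def, Q_iact]; exact hv
  have hv0 : v ≠ 0 := by
    rintro rfl
    exact hv (map_zero _)
  -- pairs orthogonal to `v`
  have L1 : ∀ a b : ι → F, Q a ≠ 0 → Q b ≠ 0 → polar (⇑Q) v a = 0 → polar (⇑Q) v b = 0 →
      RR Q K a b := by
    intro a b ha hb hva hvb
    obtain ⟨t, ht⟩ := sqrt (Q a * (Q b)⁻¹)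
    have ht0 : t ≠ 0 := by
      rintro rfl
      rw [mul_zero] at ht
      exact (mul_ne_zero ha (inv_ne_zero hb)) ht
    have hQb' : Q (t • b) = Q a := by
      rw [QuadraticMap.map_smul, smul_eq_mul, ← ht, mul_assoc, inv_mul_cancel₀ hb, mul_one]
    have hb' : Q (t • b) ≠ 0 := by rw [hQb']; exact ha
    have hmem := reflG_pair_mem_comm Q hQ hne (t • b) a hb' ha hQb'.symm
    have hfix : iact (reflG Q a ha * reflG Q (t • b) hb') v = v := by
      rw [iact_mul, iact_reflG_of_polar Q (t • b) hb' v (by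
        rw [polar_smul_left, polar_comm, hvb, smul_zero]),
        iact_reflG_of_polar Q a ha v (by rw [polar_comm]; exact hva)]
    have := hPK _ hmem hfix
    rw [reflG_smul Q b hb t ht0 hb'] at this
    exact ⟨ha, hb, this⟩
  -- pairs orthogonal to `v'`
  have L2 : ∀ a b : ι → F, Q a ≠ 0 → Q b ≠ 0 → polar (⇑Q) v' a = 0 → polar (⇑Q) v' b = 0 →
      RR Q K a b := by
    intro a b ha hb hva hvb
    have e1 : polar (⇑Q) v (iact g⁻¹ a) = 0 := by
      rw [← polar_iact g v (iact g⁻¹ a), iact_iact_inv, ← hv'def]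
      exact hva
    have e2 : polar (⇑Q) v (iact g⁻¹ b) = 0 := by
      rw [← polar_iact g v (iact g⁻¹ b), iact_iact_inv, ← hv'def]
      exact hvb
    obtain ⟨ha', hb', hm⟩ := L1 (iact g⁻¹ a) (iact g⁻¹ b) (by rw [Q_iact]; exact ha)
      (by rw [Q_iact]; exact hb) e1 e2
    refine ⟨ha, hb, ?_⟩
    have hc := K.mul_mem (K.mul_mem hgK hm) (K.inv_mem hgK)
    have e3 : g * (reflG Q (iact g⁻¹ a) ha' * reflG Q (iact g⁻¹ b) hb') * g⁻¹ =
        (g * reflG Q (iact g⁻¹ a) ha' * g⁻¹) * (g * reflG Q (iact g⁻¹ b) hb' * g⁻¹) := by group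
    rw [e3, reflG_conj, reflG_conj] at hc
    rw [reflG_congr Q a _ (iact_iact_inv g a).symm ha (by rw [iact_iact_inv]; exact ha),
      reflG_congr Q b _ (iact_iact_inv g b).symm hb (by rw [iact_iact_inv]; exact hb)]
    exact hc
  obtain ⟨c₀, hc₀, hvc₀, hv'c₀, -, -⟩ := exists_nonsing_perp4 Q hQ (by omega) v v' v v'
  -- every nonsingular vector is related to `c₀`
  have L6 : ∀ y : ι → F, Q y ≠ 0 → RR Q K y c₀ := by
    intro y hy
    by_cases h1 : polar (⇑Q) v y = 0
    · exact L1 y c₀ hy hc₀ h1 hvc₀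
    by_cases h1' : polar (⇑Q) v' y = 0
    · exact L2 y c₀ hy hc₀ h1' hv'c₀
    obtain ⟨b₁, hv'b₁, hvb₁, hyb₁⟩ : ∃ b₁ : ι → F, polar (⇑Q) v' b₁ = 0 ∧
        polar (⇑Q) v b₁ ≠ 0 ∧ polar (⇑Q) y b₁ ≠ 0 := by
      by_contra hcon
      push Not at hcon
      have hall : ∀ b ∈ orthQ Q (Submodule.span F {v'}),
          b ∈ orthQ Q (Submodule.span F {v}) ∨ b ∈ orthQ Q (Submodule.span F {y}) := by
        intro b hb
        rw [mem_orth_singleton_iff] at hb
        by_cases hvb : polar (⇑Q) v b = 0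
        · left
          rw [mem_orth_singleton_iff]
          exact hvb
        · right
          rw [mem_orth_singleton_iff]
          exact hcon b hb hvb
      rcases le_or_le_of_forall_mem hall with hle | hle
      · have h3 : orthQ Q (orthQ Q (Submodule.span F {v})) ≤
            orthQ Q (orthQ Q (Submodule.span F {v'})) :=
          LinearMap.BilinForm.orthogonal_le (B := polarBilin Q) hle
        rw [orth_orth Q hQ, orth_orth Q hQ] at h3
        obtain ⟨t, ht⟩ := Submodule.mem_span_singleton.mp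
          (h3 (Submodule.mem_span_singleton_self v))
        have ht0 : t ≠ 0 := by
          rintro rfl
          rw [zero_smul] at ht
          exact hv0 ht.symm
        apply hg t⁻¹
        rw [← hv'def, ← ht, smul_smul, inv_mul_cancel₀ ht0, one_smul]
      · have h3 : orthQ Q (orthQ Q (Submodule.span F {y})) ≤
            orthQ Q (orthQ Q (Submodule.span F {v'})) :=
          LinearMap.BilinForm.orthogonal_le (B := polarBilin Q) hle
        rw [orth_orth Q hQ, orth_orth Q hQ] at h3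
        obtain ⟨t, ht⟩ := Submodule.mem_span_singleton.mp
          (h3 (Submodule.mem_span_singleton_self y))
        apply h1'
        rw [← ht, polar_smul_right, pself, smul_zero]
    obtain ⟨tg, htgdef⟩ : ∃ tg : F, tg = polar (⇑Q) y b₁ * polar (⇑Q) v b₁ *
        (polar (⇑Q) v y)⁻¹ := ⟨_, rfl⟩
    have htg0 : tg ≠ 0 := by
      rw [htgdef]
      exact mul_ne_zero (mul_ne_zero hyb₁ hvb₁) (inv_ne_zero h1)
    obtain ⟨w₁, hw₁, hv'w₁, hvw₁, hyw₁, hb₁w₁⟩ := exists_nonsing_perp4 Q hQ (by omega) v' v y b₁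
    obtain ⟨α, hα⟩ := sqrt ((tg + Q b₁) * (Q w₁)⁻¹)
    obtain ⟨b, hbdef⟩ : ∃ b, b = b₁ + α • w₁ := ⟨_, rfl⟩
    have hQb : Q b = tg := by
      rw [hbdef, Q_add_polar, QuadraticMap.map_smul, polar_smul_right, hb₁w₁, smul_zero,
        add_zero, smul_eq_mul, ← hα, mul_assoc, inv_mul_cancel₀ hw₁, mul_one]
      linear_combination (Q b₁) * h2
    have hQb0 : Q b ≠ 0 := by rw [hQb]; exact htg0
    have hv'b : polar (⇑Q) v' b = 0 := by
      rw [hbdef, polar_add_right, polar_smul_right, hv'b₁, hv'w₁, smul_zero, add_zero]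
    have hvb : polar (⇑Q) v b = polar (⇑Q) v b₁ := by
      rw [hbdef, polar_add_right, polar_smul_right, hvw₁, smul_zero, add_zero]
    have hyb : polar (⇑Q) y b = polar (⇑Q) y b₁ := by
      rw [hbdef, polar_add_right, polar_smul_right, hyw₁, smul_zero, add_zero]
    obtain ⟨d, hddef⟩ : ∃ d, d = iact (reflG Q b hQb0) y := ⟨_, rfl⟩
    have hQd : Q d ≠ 0 := by rw [hddef, Q_iact]; exact hy
    have hvd : polar (⇑Q) v d = 0 := by
      rw [hddef, iact_reflG, polar_sub_right, polar_smul_right, hvb, polar_comm (⇑Q) b y, hyb,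
        hQb, smul_eq_mul, htgdef]
      field_simp
      ring
    have hrb : RR Q K b c₀ := L2 b c₀ hQb0 hc₀ hv'b hv'c₀
    have hrd : RR Q K d c₀ := L1 d c₀ hQd hc₀ hvd hvc₀
    have hfin := RR.refl_closed Q hrb hrd hQb0
    have hyd : iact (reflG Q b hQb0) d = y := by
      rw [hddef, ← iact_mul, reflG_mul_self, iact_one]
    rwa [hyd] at hfin
  apply comm_le_of_all_pairs Q hQ hne K
  intro a b ha hb
  obtain ⟨_, _, hm⟩ := RR.trans Q (L6 a ha) (RR.symm Q (L6 b hb))
  exact hm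

end nsp2

end Cfsg.Agent.helper13
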