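import Mathlib
import Cfsg.Agent.Lib_helper13_Nsp2

/-! Characteristic two: the stabiliser of a nonsingular point is maximal in `Ω`, geometric form. -/

set_option autoImplicit false

namespace Cfsg.Agent.helper13

open Matrix QuadraticMap Module

section nsp3
variable {F : Type*} [Field F] [Fintype F] {ι : Type} [Fintype ι] [DecidableEq ι]
variable (Q : QuadraticForm F (ι → F))

theorem nsp_isMaximalIn (h2 : (2 : F) = 0) (hQ : (polarBilin Q).Nondegenerate)
    (hn : 13 ≤ Fintype.card ι) (v : ι → F) (hv : Q v ≠ 0) :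
    Cfsg.Geo.IsMaximalIn (Cfsg.Geo.omegaGL ⇑Q)
      (Cfsg.Geo.subspaceStabilizer (Submodule.span F {v}) ⊓ Cfsg.Geo.omegaGL ⇑Q) := by
  classical
  have hne : Fintype.card F ≠ 2 ∨ Fintype.card ι ≠ 4 := Or.inr (by omega)
  have hch : ringChar F = 2 := CharP.ringChar_of_prime_eq_zero Nat.prime_two h2
  have sqrt : ∀ a : F, ∃ t : F, a = t * t := fun a => FiniteField.isSquare_of_char_two hch a
  have pself : ∀ x : ι → F, polar (⇑Q) x x = 0 := by
    intro x
    rw [polar_self', h2, zero_mul]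
  have hv0 : v ≠ 0 := by
    rintro rfl
    exact hv (map_zero _)
  constructor
  · apply inf_omega_lt_omega Q
    obtain ⟨a₀, ha₀⟩ : ∃ a₀ : ι → F, polar (⇑Q) v a₀ ≠ 0 := by
      by_contra hcon
      push Not at hcon
      apply hv0
      apply hQ.2 v
      intro u
      rw [polarBilin_apply_apply, polar_comm]
      exact hcon u
    obtain ⟨a, ha, hva⟩ : ∃ a : ι → F, Q a ≠ 0 ∧ polar (⇑Q) v a ≠ 0 := by
      by_cases h : Q a₀ = 0
      · obtain ⟨w, hw, hvw, ha₀w, -, -⟩ := exists_nonsing_perp4 Q hQ (by omega) v a₀ v a₀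
        refine ⟨a₀ + w, ?_, ?_⟩
        · rw [Q_add_polar, h, ha₀w, zero_add, add_zero]
          exact hw
        · rw [polar_add_right, hvw, add_zero]
          exact ha₀
      · exact ⟨a₀, h, ha₀⟩
    obtain ⟨b, hb, hvb, hab, -, -⟩ := exists_nonsing_perp4 Q hQ (by omega) v a v a
    obtain ⟨t, ht⟩ := sqrt (Q a * (Q b)⁻¹)
    have ht0 : t ≠ 0 := by
      rintro rfl
      rw [mul_zero] at ht
      exact (mul_ne_zero ha (inv_ne_zero hb)) ht
    have hQb' : Q (t • b) = Q a := by
      rw [QuadraticMap.map_smul, smul_eq_mul, ← ht, mul_assoc, inv_mul_cancel₀ hb, mul_one]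
    have hb' : Q (t • b) ≠ 0 := by rw [hQb']; exact ha
    refine ⟨reflG Q a ha * reflG Q (t • b) hb',
      reflG_pair_mem_comm Q hQ hne (t • b) a hb' ha hQb'.symm, ?_⟩
    rw [mem_subspaceStabilizer_iff, gmap_span_singleton]
    intro hspan
    have h1 : iact (reflG Q a ha * reflG Q (t • b) hb') v ∈ Submodule.span F {v} := by
      rw [← hspan]
      exact Submodule.mem_span_singleton_self _
    rw [iact_mul, iact_reflG_of_polar Q (t • b) hb' v (by
      rw [polar_smul_left, polar_comm, hvb, smul_zero]), iact_reflG] at h1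
    obtain ⟨s, hs⟩ := Submodule.mem_span_singleton.mp h1
    have hav : polar (⇑Q) a v ≠ 0 := by rw [polar_comm]; exact hva
    have hc0 : (Q a)⁻¹ * polar (⇑Q) a v ≠ 0 := mul_ne_zero (inv_ne_zero ha) hav
    have h3 : a = ((Q a)⁻¹ * polar (⇑Q) a v)⁻¹ • ((1 - s) • v) := by
      have h4 : ((Q a)⁻¹ * polar (⇑Q) a v) • a = (1 - s) • v := by
        rw [sub_smul, one_smul, hs]
        abel
      rw [← h4, smul_smul, inv_mul_cancel₀ hc0, one_smul]
    apply hva
    rw [h3, polar_smul_right, polar_smul_right, pself, smul_zero, smul_zero]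
  · intro M hPM hMΩ
    obtain ⟨K, hKdef⟩ : ∃ K : Subgroup ↥(Cfsg.isometryGroup F ⇑Q),
        K = M.comap (Cfsg.isometryGroup F ⇑Q).subtype := ⟨_, rfl⟩
    have hmemK : ∀ k : ↥(Cfsg.isometryGroup F ⇑Q), k ∈ K ↔ (k : GL ι F) ∈ M := by
      intro k
      rw [hKdef, Subgroup.mem_comap]
      rfl
    have hPK : ∀ h ∈ commutator ↥(Cfsg.isometryGroup F ⇑Q), iact h v = v → h ∈ K := by
      intro h hh hhv
      rw [hmemK]
      apply hPM
      refine Subgroup.mem_inf.mpr ⟨(mem_subspaceStabilizer_iff Q h _).mpr ?_,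
        (mem_omegaGL Q _).mpr ⟨h, hh, rfl⟩⟩
      rw [gmap_span_singleton, hhv]
    by_cases hall : ∀ g ∈ K, gmap g (Submodule.span F {v}) = Submodule.span F {v}
    · left
      apply le_antisymm _ hPM
      intro x hx
      obtain ⟨h, hh, rfl⟩ := (mem_omegaGL Q x).mp (hMΩ hx)
      exact Subgroup.mem_inf.mpr ⟨(mem_subspaceStabilizer_iff Q h _).mpr
        (hall h ((hmemK h).mpr hx)), hMΩ hx⟩
    · right
      push Not at hall
      obtain ⟨g, hgK, hg⟩ := hall
      have hg' : ∀ t : F, iact g v ≠ t • v := by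
        intro t ht
        apply hg
        have ht0 : t ≠ 0 := by
          rintro rfl
          rw [zero_smul] at ht
          exact iact_ne_zero Q g v hv0 ht
        rw [gmap_span_singleton, ht]
        exact Submodule.span_singleton_smul_eq (IsUnit.mk0 t ht0) v
      have hle := nsp_max Q h2 hQ hn v hv K hPK g hgK hg'
      apply le_antisymm hMΩ
      intro x hx
      obtain ⟨h, hh, rfl⟩ := (mem_omegaGL Q x).mp hx
      exact (hmemK h).mp (hle hh)

end nsp3

end Cfsg.Agent.helper13
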