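import Mathlib
import Cfsg.Agent.Lib_helper13_Nd3

/-! Overgroups of the stabiliser of a nondegenerate subspace, odd characteristic: the subspace of
"full" vectors. -/

set_option autoImplicit false

namespace Cfsg.Agent.helper13

open Matrix QuadraticMap Module

section nd4
variable {F : Type*} [Field F] [Fintype F] [DecidableEq F] {ι : Type} [Fintype ι] [DecidableEq ι]
variable (Q : QuadraticForm F (ι → F))

/-- `w` is full: every vector `w + ζ` with `ζ ∈ W^⊥` in the class of `c₀` is related to `c₀`. -/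
def Full (W : Submodule F (ι → F)) (K : Subgroup ↥(Cfsg.isometryGroup F ⇑Q)) (c₀ w : ι → F) : Prop :=
  ∀ ζ ∈ orthQ Q W, quadraticChar F (Q (w + ζ)) = quadraticChar F (Q c₀) → RR Q K (w + ζ) c₀

variable {W : Submodule F (ι → F)} {K : Subgroup ↥(Cfsg.isometryGroup F ⇑Q)}

theorem NdSetup.full_of_rr (S : NdSetup Q W K) (c₀ : ι → F) (hc₀ : c₀ ∈ orthQ Q W) (hQc : Q c₀ ≠ 0)
    (w z : ι → F) (hw : w ∈ W) (hz : z ∈ orthQ Q W) (hz0 : z ≠ 0) (hr : RR Q K (w + z) c₀) :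
    Full Q W K c₀ w :=
  fun ζ hζ hcls => S.b1 Q c₀ hc₀ hQc w z ζ hw hz hz0 hζ hr hcls

theorem NdSetup.full_zero (S : NdSetup Q W K) (c₀ : ι → F) (hc₀ : c₀ ∈ orthQ Q W) (hQc : Q c₀ ≠ 0) :
    Full Q W K c₀ 0 := by
  intro ζ hζ hcls
  rw [zero_add] at hcls ⊢
  exact S.c0 Q c₀ hc₀ hQc ζ (Or.inr hζ) hcls

theorem NdSetup.full_add (S : NdSetup Q W K) (c₀ : ι → F) (hc₀ : c₀ ∈ orthQ Q W) (hQc : Q c₀ ≠ 0)
    (w₁ w₂ : ι → F) (hw₁ : w₁ ∈ W) (hw₂ : w₂ ∈ W) (hF₁ : Full Q W K c₀ w₁)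
    (hF₂ : Full Q W K c₀ w₂) : Full Q W K c₀ (w₁ + w₂) := by
  have hW' : NondegOn Q (orthQ Q W) := nondegOn_orth Q S.hQ W S.hW
  have h7 := S.h7
  obtain ⟨z₁, hz₁W', hz₁0, hQz₁⟩ := exists_rep_ne Q S.h2 S.hQ (orthQ Q W) hW' (orthQ Q W) le_rfl
    (by omega) (Q c₀ - Q w₁)
  have hQb : Q (w₁ + z₁) = Q c₀ := by
    rw [Q_add_of_orth Q w₁ z₁ hw₁ hz₁W', hQz₁]
    ring
  have hr₁ : RR Q K (w₁ + z₁) c₀ := hF₁ z₁ hz₁W' (by rw [hQb])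
  obtain ⟨z₃, hz₃W', hz₃⟩ := exists_not_mem_span (orthQ Q W) (by omega) z₁
  have hi : ∀ t : F, z₃ ≠ t • z₁ := by
    intro t ht
    apply hz₃
    rw [ht]
    exact Submodule.smul_mem _ _ (Submodule.mem_span_singleton_self z₁)
  have hi' : ∀ t : F, z₁ ≠ t • z₃ := ne_smul_symm hz₁0 hi
  obtain ⟨z₂, hz₂W', h12, h32, hQz₂⟩ := exists_E2 Q S.h2 S.hQ (orthQ Q W) hW' h7 z₁ z₃ hz₁W' hz₃W'
    hi' hi (-Q c₀ - polar (⇑Q) w₁ w₂) (1 - polar (⇑Q) z₃ z₁) (Q c₀ - Q w₂)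
  have hQd : Q (w₂ + z₂) = Q c₀ := by
    rw [Q_add_of_orth Q w₂ z₂ hw₂ hz₂W', hQz₂]
    ring
  have hr₂ : RR Q K (w₂ + z₂) c₀ := hF₂ z₂ hz₂W' (by rw [hQd])
  have hQb0 : Q (w₁ + z₁) ≠ 0 := by rw [hQb]; exact hQc
  have hfin := RR.refl_closed Q hr₁ hr₂ hQb0
  have h1 : polar (⇑Q) w₁ z₂ = 0 := (mem_orth_iff Q W z₂).mp hz₂W' w₁ hw₁
  have h3 : polar (⇑Q) w₂ z₁ = 0 := (mem_orth_iff Q W z₁).mp hz₁W' w₂ hw₂
  have hp : polar (⇑Q) (w₁ + z₁) (w₂ + z₂) = -Q c₀ := by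
    rw [polar_add_left, polar_add_right, polar_add_right, h1, polar_comm (⇑Q) z₁ w₂, h3, h12]
    ring
  have e : iact (reflG Q (w₁ + z₁) hQb0) (w₂ + z₂) = (w₁ + w₂) + (z₁ + z₂) := by
    rw [iact_reflG, hp, hQb, mul_neg, inv_mul_cancel₀ hQc, neg_smul, one_smul]
    abel
  rw [e] at hfin
  have hz12 : z₁ + z₂ ≠ 0 := by
    intro h0
    have hz₂ : z₂ = -z₁ := eq_neg_of_add_eq_zero_right h0
    rw [hz₂, polar_neg_right] at h32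
    have : (0 : F) = 1 := by linear_combination h32
    exact zero_ne_one this
  exact S.full_of_rr Q c₀ hc₀ hQc (w₁ + w₂) (z₁ + z₂) (W.add_mem hw₁ hw₂)
    ((orthQ Q W).add_mem hz₁W' hz₂W') hz12 hfin

omit [Fintype ι] [DecidableEq ι] in
theorem quadraticChar_sq_mul (t a : F) (ht : t ≠ 0) :
    quadraticChar F (t * t * a) = quadraticChar F a := by
  rw [map_mul, map_mul, ← pow_two, quadraticChar_sq_one ht, one_mul]

theorem NdSetup.full_smul (S : NdSetup Q W K) (c₀ : ι → F) (hc₀ : c₀ ∈ orthQ Q W) (hQc : Q c₀ ≠ 0)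
    (w : ι → F) (hF : Full Q W K c₀ w) (t : F) : Full Q W K c₀ (t • w) := by
  by_cases ht : t = 0
  · rw [ht, zero_smul]
    exact S.full_zero Q c₀ hc₀ hQc
  intro ζ hζ hcls
  have e : t • w + ζ = t • (w + t⁻¹ • ζ) := by
    rw [smul_add, smul_smul, mul_inv_cancel₀ ht, one_smul]
  rw [e] at hcls ⊢
  rw [QuadraticMap.map_smul, smul_eq_mul, quadraticChar_sq_mul _ _ ht] at hcls
  exact rr_smul_left Q (hF (t⁻¹ • ζ) ((orthQ Q W).smul_mem _ hζ) hcls) t ht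

theorem NdSetup.full_refl (S : NdSetup Q W K) (c₀ : ι → F) (hc₀ : c₀ ∈ orthQ Q W) (hQc : Q c₀ ≠ 0)
    (a : ι → F) (ha : a ∈ W) (hQa : Q a ≠ 0) (w : ι → F) (hw : w ∈ W) (hF : Full Q W K c₀ w) :
    Full Q W K c₀ (iact (reflG Q a hQa) w) := by
  have hW' : NondegOn Q (orthQ Q W) := nondegOn_orth Q S.hQ W S.hW
  have h7 := S.h7
  obtain ⟨d, hdW', hQd⟩ := exists_rep Q S.h2 S.hQ (orthQ Q W) hW' (orthQ Q W) le_rfl
    (by omega) (Q a)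
  have hQd0 : Q d ≠ 0 := by rw [hQd]; exact hQa
  obtain ⟨_, _, hm⟩ := S.rr_mem Q a d (Or.inl ha) (Or.inr hdW') hQa hQd0 (by rw [hQd])
  intro ζ hζ hcls
  obtain ⟨ζ', hζ'def⟩ : ∃ ζ', ζ' = iact (reflG Q d hQd0) ζ := ⟨_, rfl⟩
  have hζ' : ζ' ∈ orthQ Q W := by
    rw [hζ'def]
    exact refl_mem Q (orthQ Q W) d hdW' hQd0 ζ hζ
  have haζ : iact (reflG Q a hQa) ζ = ζ :=
    iact_reflG_of_polar Q a hQa ζ ((mem_orth_iff Q W ζ).mp hζ a ha)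
  have e1 : iact (reflG Q a hQa * reflG Q d hQd0) (w + ζ') = iact (reflG Q a hQa) w + ζ := by
    rw [iact_mul, iact_add, refl_fix_of_orth Q W d hdW' hQd0 w hw, hζ'def, ← iact_mul,
      reflG_mul_self, iact_one, iact_add, haζ]
  have hcls' : quadraticChar F (Q (w + ζ')) = quadraticChar F (Q c₀) := by
    rw [← Q_iact (reflG Q a hQa * reflG Q d hQd0) (w + ζ'), e1]
    exact hcls
  have hr := rr_conj Q _ hm (hF ζ' hζ' hcls')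
  rw [e1] at hr
  have hc' : iact (reflG Q d hQd0) c₀ ∈ orthQ Q W := refl_mem Q (orthQ Q W) d hdW' hQd0 c₀ hc₀
  have e2 : iact (reflG Q a hQa * reflG Q d hQd0) c₀ = iact (reflG Q d hQd0) c₀ := by
    rw [iact_mul]
    exact iact_reflG_of_polar Q a hQa _ ((mem_orth_iff Q W _).mp hc' a ha)
  rw [e2] at hr
  have hr2 : RR Q K (iact (reflG Q d hQd0) c₀) c₀ :=
    S.c0 Q c₀ hc₀ hQc _ (Or.inr hc') (by rw [Q_iact])
  exact RR.trans Q hr hr2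

/-- the subspace of full vectors of `W`. -/
def fullSub (S : NdSetup Q W K) (c₀ : ι → F) (hc₀ : c₀ ∈ orthQ Q W) (hQc : Q c₀ ≠ 0) :
    Submodule F (ι → F) where
  carrier := {w | w ∈ W ∧ Full Q W K c₀ w}
  add_mem' := by
    rintro a b ⟨ha, hFa⟩ ⟨hb, hFb⟩
    exact ⟨W.add_mem ha hb, S.full_add Q c₀ hc₀ hQc a b ha hb hFa hFb⟩
  zero_mem' := ⟨W.zero_mem, S.full_zero Q c₀ hc₀ hQc⟩
  smul_mem' := by
    rintro t a ⟨ha, hFa⟩
    exact ⟨W.smul_mem t ha, S.full_smul Q c₀ hc₀ hQc a hFa t⟩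

theorem mem_fullSub (S : NdSetup Q W K) (c₀ : ι → F) (hc₀ : c₀ ∈ orthQ Q W) (hQc : Q c₀ ≠ 0)
    (w : ι → F) : w ∈ fullSub Q S c₀ hc₀ hQc ↔ w ∈ W ∧ Full Q W K c₀ w := Iff.rfl

end nd4

end Cfsg.Agent.helper13
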