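import Mathlib
import Cfsg.Agent.Lib_helper13_Nd4

/-! Overgroups of the stabiliser of a nondegenerate subspace, odd characteristic: the subspace of
full vectors is everything, apart from one small exception. -/

set_option autoImplicit false

namespace Cfsg.Agent.helper13

open Matrix QuadraticMap Module

section nd5
variable {F : Type*} [Field F] [Fintype F] [DecidableEq F] {ι : Type} [Fintype ι] [DecidableEq ι]
variable (Q : QuadraticForm F (ι → F))

omit [Fintype F] [DecidableEq F] [Fintype ι] [DecidableEq ι] in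
theorem exists_not_mem_two (W A B : Submodule F (ι → F)) (hA : A ≤ W) (hB : B ≤ W)
    (hAne : A ≠ W) (hBne : B ≠ W) : ∃ v ∈ W, v ∉ A ∧ v ∉ B := by
  obtain ⟨a₁, ha₁W, ha₁⟩ : ∃ a₁ ∈ W, a₁ ∉ A := by
    by_contra hcon
    push Not at hcon
    exact hAne (le_antisymm hA hcon)
  obtain ⟨b₁, hb₁W, hb₁⟩ : ∃ b₁ ∈ W, b₁ ∉ B := by
    by_contra hcon
    push Not at hcon
    exact hBne (le_antisymm hB hcon)
  by_cases h1 : a₁ ∈ B
  · by_cases h3 : b₁ ∈ A
    · refine ⟨a₁ + b₁, W.add_mem ha₁W hb₁W, ?_, ?_⟩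
      · intro h
        apply ha₁
        have := A.sub_mem h h3
        rwa [add_sub_cancel_right] at this
      · intro h
        apply hb₁
        have := B.sub_mem h h1
        rwa [add_sub_cancel_left] at this
    · exact ⟨b₁, hb₁W, h3, hb₁⟩
  · exact ⟨a₁, ha₁W, ha₁, h1⟩

omit [Fintype F] [DecidableEq F] [Fintype ι] [DecidableEq ι] in
theorem sym_core (W A B : Submodule F (ι → F))
    (hcov : ∀ x ∈ W, Q x ≠ 0 → x ∈ A ∨ x ∈ B) (v : ι → F) (hvW : v ∈ W) (hvA : v ∉ A)
    (hvB : v ∉ B) (a : ι → F) (haW : a ∈ W) (ha : a ∈ A) (s t : F) (hs : Q (v + s • a) ≠ 0)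
    (ht : Q (v + t • a) ≠ 0) : s = t := by
  by_contra hst
  have h1 : v + s • a ∈ B := by
    rcases hcov _ (W.add_mem hvW (W.smul_mem _ haW)) hs with h | h
    · exfalso
      apply hvA
      have := A.sub_mem h (A.smul_mem s ha)
      rwa [add_sub_cancel_right] at this
    · exact h
  have h3 : v + t • a ∈ B := by
    rcases hcov _ (W.add_mem hvW (W.smul_mem _ haW)) ht with h | h
    · exfalso
      apply hvA
      have := A.sub_mem h (A.smul_mem t ha)
      rwa [add_sub_cancel_right] at this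
    · exact h
  have h5 : (s - t) • a ∈ B := by
    have := B.sub_mem h1 h3
    have e : v + s • a - (v + t • a) = (s - t) • a := by
      rw [sub_smul]
      abel
    rwa [e] at this
  have hst' : s - t ≠ 0 := sub_ne_zero.mpr hst
  have h6 : a ∈ B := by
    have := B.smul_mem (s - t)⁻¹ h5
    rwa [smul_smul, inv_mul_cancel₀ hst', one_smul] at this
  apply hvB
  have := B.sub_mem h1 (B.smul_mem s h6)
  rwa [add_sub_cancel_right] at this

/-- a nondegenerate space whose nonsingular vectors are covered by two proper subspaces is a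
hyperbolic plane over the field with three elements. -/
theorem sym_exception (h2 : (2 : F) ≠ 0) (hQ : (polarBilin Q).Nondegenerate)
    (W : Submodule F (ι → F)) (hW : NondegOn Q W) (hW0 : W ≠ ⊥) (A B : Submodule F (ι → F))
    (hA : A ≤ W) (hB : B ≤ W) (hcov : ∀ x ∈ W, Q x ≠ 0 → x ∈ A ∨ x ∈ B)
    (hAne : A ≠ W) (hBne : B ≠ W) :
    Fintype.card F = 3 ∧ finrank F W = 2 ∧ ∃ v ∈ W, v ≠ 0 ∧ Q v = 0 := by
  obtain ⟨v, hvW, hvA, hvB⟩ := exists_not_mem_two W A B hA hB hAne hBne
  have hQv : Q v = 0 := by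
    by_contra h
    rcases hcov v hvW h with h' | h'
    · exact hvA h'
    · exact hvB h'
  have hv0 : v ≠ 0 := by
    rintro rfl
    exact hvA A.zero_mem
  -- all good scalars are equal
  have hgood : ∀ a ∈ W, Q a ≠ 0 → ∀ s t : F, Q (v + s • a) ≠ 0 → Q (v + t • a) ≠ 0 → s = t := by
    intro a haW hQa s t hs ht
    rcases hcov a haW hQa with ha | ha
    · exact sym_core Q W A B hcov v hvW hvA hvB a haW ha s t hs ht
    · exact sym_core Q W B A (fun x hx hx' => (hcov x hx hx').symm) v hvW hvB hvA a haW ha s t hs ht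
  have hform : ∀ (a : ι → F) (s : F), Q (v + s • a) = s * (s * Q a + polar (⇑Q) v a) := by
    intro a s
    rw [Q_add_polar, hQv, QuadraticMap.map_smul, polar_smul_right, smul_eq_mul, smul_eq_mul]
    ring
  have h11 : (1 : F) ≠ -1 := by
    intro h
    apply h2
    linear_combination h
  have hpol : ∀ a ∈ W, Q a ≠ 0 → polar (⇑Q) v a ≠ 0 := by
    intro a haW hQa hp
    apply h11
    apply hgood a haW hQa 1 (-1)
    · rw [hform, hp, add_zero, one_mul, one_mul]
      exact hQa
    · rw [hform, hp, add_zero]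
      intro h
      apply hQa
      linear_combination h
  obtain ⟨a, haW, hQa⟩ := exists_nonsingular Q W hW hW0
  have hp := hpol a haW hQa
  refine ⟨?_, ?_, v, hvW, hv0, hQv⟩
  · obtain ⟨l, hl⟩ : ∃ l : F, l = -polar (⇑Q) v a / Q a := ⟨_, rfl⟩
    have hl0 : l ≠ 0 := by
      rw [hl]
      exact div_ne_zero (neg_ne_zero.mpr hp) hQa
    have hlQ : l * Q a = -polar (⇑Q) v a := by
      rw [hl, div_mul_cancel₀ _ hQa]
    have hnl : Q (v + (-l) • a) ≠ 0 := by
      rw [hform]
      apply mul_ne_zero (neg_ne_zero.mpr hl0)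
      intro h
      have h5 : (2 : F) * polar (⇑Q) v a = 0 := by linear_combination h + hlQ
      exact (mul_ne_zero h2 hp) h5
    have hall : ∀ x : F, x = 0 ∨ x = l ∨ x = -l := by
      intro x
      by_cases hx0 : x = 0
      · exact Or.inl hx0
      by_cases hxl : x = l
      · exact Or.inr (Or.inl hxl)
      right; right
      apply hgood a haW hQa x (-l) _ hnl
      rw [hform]
      apply mul_ne_zero hx0
      intro h
      apply hxl
      have h5 : (x - l) * Q a = 0 := by linear_combination h - hlQ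
      rcases mul_eq_zero.mp h5 with h6 | h6
      · exact sub_eq_zero.mp h6
      · exact absurd h6 hQa
    rw [← Finset.card_univ, Finset.card_eq_three]
    refine ⟨0, l, -l, fun h => hl0 h.symm, fun h => hl0 (neg_eq_zero.mp h.symm), ?_, ?_⟩
    · intro h
      apply hl0
      have h5 : (2 : F) * l = 0 := by linear_combination h
      rcases mul_eq_zero.mp h5 with h6 | h6
      · exact absurd h6 h2
      · exact h6
    · ext x
      simp only [Finset.mem_univ, Finset.mem_insert, Finset.mem_singleton, true_iff]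
      exact hall x
  · obtain ⟨M, hMdef⟩ : ∃ M, M = W ⊓ orthQ Q (Submodule.span F {v}) := ⟨_, rfl⟩
    have hMW : M ≤ W := by rw [hMdef]; exact inf_le_left
    have hMs : ∀ y ∈ M, Q y = 0 := by
      intro y hy
      by_contra hQy
      rw [hMdef] at hy
      obtain ⟨hyW, hyo⟩ := Submodule.mem_inf.mp hy
      rw [mem_orth_singleton_iff] at hyo
      exact hpol y hyW hQy hyo
    have h1 : ¬ finrank F W < 2 * finrank F M := by
      intro h
      obtain ⟨y, hyM, hy⟩ := exists_nonsing_of_finrank Q hQ W hW M hMW h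
      exact hy (hMs y hyM)
    have h3 : finrank F W ≤ finrank F M + 1 := by
      rw [hMdef]
      exact finrank_inf_orth_singleton Q hQ W v
    have h4 : 2 ≤ finrank F W := by
      by_contra hlt
      push Not at hlt
      have hsp : Submodule.span F {v} ≤ W := by
        rw [Submodule.span_singleton_le_iff_mem]
        exact hvW
      have hfr : finrank F (Submodule.span F {v}) = 1 := finrank_span_singleton hv0
      have heq : Submodule.span F {v} = W :=
        Submodule.eq_of_le_of_finrank_le hsp (by rw [hfr]; omega)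
      apply hv0
      apply hW v hvW
      intro u hu
      rw [← heq] at hu
      obtain ⟨t, rfl⟩ := Submodule.mem_span_singleton.mp hu
      rw [polar_smul_left, polar_self', hQv, mul_zero, smul_zero]
    omega

variable {W : Submodule F (ι → F)} {K : Subgroup ↥(Cfsg.isometryGroup F ⇑Q)}

/-- unless `W` is a hyperbolic plane over the field with three elements, one nonzero full vector
makes every vector of `W` full. -/
theorem NdSetup.full_all (S : NdSetup Q W K) (c₀ : ι → F) (hc₀ : c₀ ∈ orthQ Q W) (hQc : Q c₀ ≠ 0)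
    (hex : ¬ (Fintype.card F = 3 ∧ finrank F W = 2 ∧ ∃ v ∈ W, v ≠ 0 ∧ Q v = 0))
    (w₀ : ι → F) (hw₀ : w₀ ∈ W) (hw₀0 : w₀ ≠ 0) (hF : Full Q W K c₀ w₀) :
    ∀ w ∈ W, Full Q W K c₀ w := by
  obtain ⟨T, hTdef⟩ : ∃ T, T = fullSub Q S c₀ hc₀ hQc := ⟨_, rfl⟩
  have hmemT : ∀ w, w ∈ T ↔ w ∈ W ∧ Full Q W K c₀ w := by
    intro w
    rw [hTdef]
    exact mem_fullSub Q S c₀ hc₀ hQc w
  have hTW : T ≤ W := fun w hw => ((hmemT w).mp hw).1
  have hw₀T : w₀ ∈ T := (hmemT w₀).mpr ⟨hw₀, hF⟩
  have hW0 : W ≠ ⊥ := by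
    intro h
    rw [h, Submodule.mem_bot] at hw₀
    exact hw₀0 hw₀
  have hcov : ∀ x ∈ W, Q x ≠ 0 → x ∈ T ∨ x ∈ W ⊓ orthQ Q T := by
    intro x hxW hQx
    by_cases hxo : x ∈ orthQ Q T
    · exact Or.inr (Submodule.mem_inf.mpr ⟨hxW, hxo⟩)
    left
    rw [mem_orth_iff] at hxo
    push Not at hxo
    obtain ⟨t, htT, htx⟩ := hxo
    obtain ⟨htW, htF⟩ := (hmemT t).mp htT
    have h1 : iact (reflG Q x hQx) t ∈ T :=
      (hmemT _).mpr ⟨refl_mem Q W x hxW hQx t htW, S.full_refl Q c₀ hc₀ hQc x hxW hQx t htW htF⟩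
    rw [iact_reflG] at h1
    have h3 : ((Q x)⁻¹ * polar (⇑Q) x t) • x ∈ T := by
      have := T.sub_mem htT h1
      rwa [sub_sub_cancel] at this
    have hc : (Q x)⁻¹ * polar (⇑Q) x t ≠ 0 :=
      mul_ne_zero (inv_ne_zero hQx) (by rw [polar_comm]; exact htx)
    have := T.smul_mem ((Q x)⁻¹ * polar (⇑Q) x t)⁻¹ h3
    rwa [smul_smul, inv_mul_cancel₀ hc, one_smul] at this
  by_cases hTeq : T = W
  · intro w hw
    rw [← hTeq] at hw
    exact ((hmemT w).mp hw).2
  · exfalso
    by_cases hBeq : W ⊓ orthQ Q T = W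
    · apply hw₀0
      apply S.hW w₀ hw₀
      intro u hu
      rw [← hBeq] at hu
      exact (mem_orth_iff Q T u).mp (Submodule.mem_inf.mp hu).2 w₀ hw₀T |> fun h => by
        rw [polar_comm]; exact h
    · exact hex (sym_exception Q S.h2 S.hQ W S.hW hW0 T (W ⊓ orthQ Q T) hTW inf_le_left hcov
        hTeq hBeq)

/-- every vector in the class of `c₀` is related to `c₀`, once some vector outside `W ∪ W^⊥` is. -/
theorem NdSetup.all_rr (S : NdSetup Q W K) (c₀ : ι → F) (hc₀ : c₀ ∈ orthQ Q W) (hQc : Q c₀ ≠ 0)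
    (hex : ¬ (Fintype.card F = 3 ∧ finrank F W = 2 ∧ ∃ v ∈ W, v ≠ 0 ∧ Q v = 0))
    (y : ι → F) (hyW : y ∉ W) (hyW' : y ∉ orthQ Q W) (hr : RR Q K y c₀) (x : ι → F)
    (hcls : quadraticChar F (Q x) = quadraticChar F (Q c₀)) : RR Q K x c₀ := by
  have hcompl := isCompl_orth Q S.hQ W S.hW
  have hdec : ∀ u : ι → F, ∃ w ∈ W, ∃ z ∈ orthQ Q W, w + z = u := by
    intro u
    have hu : u ∈ W ⊔ orthQ Q W := by
      rw [hcompl.sup_eq_top]
      exact Submodule.mem_top
    exact Submodule.mem_sup.mp hu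
  obtain ⟨w₀, hw₀, z₀, hz₀, hy⟩ := hdec y
  have hw₀0 : w₀ ≠ 0 := by
    rintro rfl
    rw [zero_add] at hy
    rw [← hy] at hyW'
    exact hyW' hz₀
  have hz₀0 : z₀ ≠ 0 := by
    rintro rfl
    rw [add_zero] at hy
    rw [← hy] at hyW
    exact hyW hw₀
  rw [← hy] at hr
  have hF₀ := S.full_of_rr Q c₀ hc₀ hQc w₀ z₀ hw₀ hz₀ hz₀0 hr
  have hall := S.full_all Q c₀ hc₀ hQc hex w₀ hw₀ hw₀0 hF₀
  obtain ⟨w, hw, z, hz, hx⟩ := hdec x
  rw [← hx] at hcls ⊢
  exact hall w hw z hz hcls

end nd5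

end Cfsg.Agent.helper13
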