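import Mathlib
import Cfsg.Agent.Lib_helper13_Nd5

/-! Overgroups of the stabiliser of a nondegenerate subspace, odd characteristic: an element moving
the subspace produces a product of two reflections moving it. -/

set_option autoImplicit false

namespace Cfsg.Agent.helper13

open Matrix QuadraticMap Module

section nd6
variable {F : Type*} [Field F] [Fintype F] [DecidableEq F] {ι : Type} [Fintype ι] [DecidableEq ι]
variable (Q : QuadraticForm F (ι → F))

omit [Fintype F] [DecidableEq F] in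
theorem nondegOn_gmap (g : ↥(Cfsg.isometryGroup F ⇑Q)) (U : Submodule F (ι → F))
    (hU : NondegOn Q U) : NondegOn Q (gmap g U) := by
  intro x hx hall
  obtain ⟨u, hu, rfl⟩ := (mem_gmap g U x).mp hx
  have : u = 0 := by
    apply hU u hu
    intro u' hu'
    rw [← polar_iact g u' u]
    exact hall _ ((mem_gmap g U _).mpr ⟨u', hu', rfl⟩)
  rw [this, iact_zero]

omit [Fintype F] [DecidableEq F] in
/-- a nonsingular vector whose reflection maps `W` into itself lies in `W` or in `W^⊥`. -/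
theorem refl_stab_conv (W : Submodule F (ι → F)) (x : ι → F) (hQx : Q x ≠ 0)
    (h : ∀ w ∈ W, iact (reflG Q x hQx) w ∈ W) : x ∈ W ∨ x ∈ orthQ Q W := by
  by_cases hx : x ∈ orthQ Q W
  · exact Or.inr hx
  left
  rw [mem_orth_iff] at hx
  push Not at hx
  obtain ⟨w, hw, hwx⟩ := hx
  have h1 := h w hw
  rw [iact_reflG] at h1
  have h3 : ((Q x)⁻¹ * polar (⇑Q) x w) • x ∈ W := by
    have := W.sub_mem hw h1
    rwa [sub_sub_cancel] at this
  have hc : (Q x)⁻¹ * polar (⇑Q) x w ≠ 0 :=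
    mul_ne_zero (inv_ne_zero hQx) (by rw [polar_comm]; exact hwx)
  have := W.smul_mem ((Q x)⁻¹ * polar (⇑Q) x w)⁻¹ h3
  rwa [smul_smul, inv_mul_cancel₀ hc, one_smul] at this

omit [Fintype F] [DecidableEq F] in
theorem stab_orth_inv (W : Submodule F (ι → F)) (h : ↥(Cfsg.isometryGroup F ⇑Q))
    (hst : ∀ w ∈ W, iact h w ∈ W) : ∀ z ∈ orthQ Q W, iact h⁻¹ z ∈ orthQ Q W := by
  intro z hz
  rw [mem_orth_iff]
  intro u hu
  rw [← polar_iact h u (iact h⁻¹ z), iact_iact_inv]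
  exact (mem_orth_iff Q W z).mp hz _ (hst u hu)

omit [Fintype F] [DecidableEq F] in
/-- if `r_x r_a` maps `W` into itself and `r_x` does not, then `a` is orthogonal to `W^⊥ ∩ x^⊥`. -/
theorem polar_eq_zero_of_stab (W : Submodule F (ι → F)) (x a : ι → F) (hQx : Q x ≠ 0)
    (hQa : Q a ≠ 0) (hxW : x ∉ W) (hxW' : x ∉ orthQ Q W)
    (hst : ∀ w ∈ W, iact (reflG Q x hQx * reflG Q a hQa) w ∈ W)
    (u : ι → F) (hu : u ∈ orthQ Q W) (hxu : polar (⇑Q) x u = 0) : polar (⇑Q) a u = 0 := by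
  by_contra hau
  have h1 := stab_orth_inv Q W _ hst u hu
  rw [_root_.mul_inv_rev, reflG_inv, reflG_inv, iact_mul, iact_reflG_of_polar Q x hQx u hxu,
    iact_reflG] at h1
  have h3 : ((Q a)⁻¹ * polar (⇑Q) a u) • a ∈ orthQ Q W := by
    have := (orthQ Q W).sub_mem hu h1
    rwa [sub_sub_cancel] at this
  have hc : (Q a)⁻¹ * polar (⇑Q) a u ≠ 0 := mul_ne_zero (inv_ne_zero hQa) hau
  have haW' : a ∈ orthQ Q W := by
    have := (orthQ Q W).smul_mem ((Q a)⁻¹ * polar (⇑Q) a u)⁻¹ h3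
    rwa [smul_smul, inv_mul_cancel₀ hc, one_smul] at this
  have hx : x ∈ W ∨ x ∈ orthQ Q W := by
    apply refl_stab_conv Q W x hQx
    intro w hw
    have h5 := hst _ (refl_stab Q W a (Or.inr haW') hQa w hw)
    rwa [iact_mul, ← iact_mul (reflG Q a hQa), reflG_mul_self, iact_one] at h5
  rcases hx with hx | hx
  · exact hxW hx
  · exact hxW' hx

variable {W : Submodule F (ι → F)} {K : Subgroup ↥(Cfsg.isometryGroup F ⇑Q)}

/-- vectors of `gW ∪ gW^⊥` in the same square class are related, for `g ∈ K`. -/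
theorem NdSetup.rr_gmap (S : NdSetup Q W K) (g : ↥(Cfsg.isometryGroup F ⇑Q)) (hg : g ∈ K)
    (x a : ι → F) (hx : x ∈ gmap g W ∨ x ∈ gmap g (orthQ Q W))
    (ha : a ∈ gmap g W ∨ a ∈ gmap g (orthQ Q W)) (hQx : Q x ≠ 0) (hQa : Q a ≠ 0)
    (hχ : quadraticChar F (Q x) = quadraticChar F (Q a)) : RR Q K x a := by
  have hx' : ∃ u, (u ∈ W ∨ u ∈ orthQ Q W) ∧ iact g u = x := by
    rcases hx with hx | hx
    · obtain ⟨u, hu, hux⟩ := (mem_gmap g W x).mp hx
      exact ⟨u, Or.inl hu, hux⟩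
    · obtain ⟨u, hu, hux⟩ := (mem_gmap g _ x).mp hx
      exact ⟨u, Or.inr hu, hux⟩
  have ha' : ∃ u, (u ∈ W ∨ u ∈ orthQ Q W) ∧ iact g u = a := by
    rcases ha with ha | ha
    · obtain ⟨u, hu, hua⟩ := (mem_gmap g W a).mp ha
      exact ⟨u, Or.inl hu, hua⟩
    · obtain ⟨u, hu, hua⟩ := (mem_gmap g _ a).mp ha
      exact ⟨u, Or.inr hu, hua⟩
  obtain ⟨u, hu, rfl⟩ := hx'
  obtain ⟨u', hu', rfl⟩ := ha'
  rw [Q_iact] at hQx hQa hχ
  rw [Q_iact] at hχ
  exact rr_conj Q g hg (S.rr_mem Q u u' hu hu' hQx hQa hχ)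

/-- first case: a nonsingular vector of `gW ∪ gW^⊥` outside `W ∪ W^⊥`. -/
theorem NdSetup.stepA1 (S : NdSetup Q W K) (g : ↥(Cfsg.isometryGroup F ⇑Q)) (hg : g ∈ K)
    (x : ι → F) (hx : x ∈ gmap g W ∨ x ∈ gmap g (orthQ Q W)) (hQx : Q x ≠ 0) (hxW : x ∉ W)
    (hxW' : x ∉ orthQ Q W) :
    ∃ (a : ι → F) (hQa : Q a ≠ 0), RR Q K x a ∧
      ¬ (∀ w ∈ W, iact (reflG Q x hQx * reflG Q a hQa) w ∈ W) := by
  have hW' : NondegOn Q (orthQ Q W) := nondegOn_orth Q S.hQ W S.hW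
  have h7 := S.h7
  obtain ⟨X', hX'def⟩ : ∃ X', X' = gmap g (orthQ Q W) := ⟨_, rfl⟩
  have hX'nd : NondegOn Q X' := by rw [hX'def]; exact nondegOn_gmap Q g _ hW'
  have hX'7 : 7 ≤ finrank F X' := by rw [hX'def, finrank_gmap]; exact h7
  have hXo : orthQ Q X' = gmap g W := by
    rw [hX'def, ← gmap_orth, orth_orth Q S.hQ]
  by_cases hall : ∀ a ∈ X', ∀ (hQa : Q a ≠ 0), Q a = Q x →
      ∀ w ∈ W, iact (reflG Q x hQx * reflG Q a hQa) w ∈ W
  · -- then `W^⊥ ∩ x^⊥` lies in `gW`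
    have hle : ∀ u ∈ orthQ Q W, polar (⇑Q) x u = 0 → u ∈ gmap g W := by
      intro u hu hxu
      rw [← hXo, mem_orth_iff]
      intro v hv
      obtain ⟨a, haX', b, hbX', hQa, hQb, hvab⟩ :=
        exists_sum_two Q S.h2 S.hQ X' hX'nd hX'7 (Q x) v hv
      have hQa0 : Q a ≠ 0 := by rw [hQa]; exact hQx
      have hQb0 : Q b ≠ 0 := by rw [hQb]; exact hQx
      rw [hvab, polar_add_left,
        polar_eq_zero_of_stab Q W x a hQx hQa0 hxW hxW' (hall a haX' hQa0 hQa) u hu hxu,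
        polar_eq_zero_of_stab Q W x b hQx hQb0 hxW hxW' (hall b hbX' hQb0 hQb) u hu hxu, add_zero]
    have hfr := finrank_inf_orth_singleton Q S.hQ (orthQ Q W) x
    obtain ⟨x₂, hx₂M, hQx₂⟩ := exists_rep Q S.h2 S.hQ (orthQ Q W) hW'
      (orthQ Q W ⊓ orthQ Q (Submodule.span F {x})) inf_le_left (by omega) (Q x)
    obtain ⟨hx₂W', hx₂o⟩ := Submodule.mem_inf.mp hx₂M
    rw [mem_orth_singleton_iff] at hx₂o
    have hQx₂0 : Q x₂ ≠ 0 := by rw [hQx₂]; exact hQx
    refine ⟨x₂, hQx₂0, S.rr_gmap Q g hg x x₂ hx (Or.inl (hle x₂ hx₂W' hx₂o)) hQx hQx₂0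
      (by rw [hQx₂]), ?_⟩
    intro hst
    have hx' : x ∈ W ∨ x ∈ orthQ Q W := by
      apply refl_stab_conv Q W x hQx
      intro w hw
      have h5 := hst _ (refl_stab Q W x₂ (Or.inr hx₂W') hQx₂0 w hw)
      rwa [iact_mul, ← iact_mul (reflG Q x₂ hQx₂0), reflG_mul_self, iact_one] at h5
    rcases hx' with h | h
    · exact hxW h
    · exact hxW' h
  · push Not at hall
    obtain ⟨a, haX', hQa, hQax, hnot⟩ := hall
    refine ⟨a, hQa, S.rr_gmap Q g hg x a hx (Or.inr (by rw [← hX'def]; exact haX')) hQx hQa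
      (by rw [hQax]), ?_⟩
    push Not
    exact hnot

/-- second case: all nonsingular vectors of `gW ∪ gW^⊥` lie in `W ∪ W^⊥`; impossible. -/
theorem NdSetup.stepA2 (S : NdSetup Q W K) (g : ↥(Cfsg.isometryGroup F ⇑Q))
    (hgW : ¬ (∀ w ∈ W, iact g w ∈ W))
    (hns : gmap g W ≠ orthQ Q W)
    (hall : ∀ x : ι → F, (x ∈ gmap g W ∨ x ∈ gmap g (orthQ Q W)) → Q x ≠ 0 →
      x ∈ W ∨ x ∈ orthQ Q W) : False := by
  have hW' : NondegOn Q (orthQ Q W) := nondegOn_orth Q S.hQ W S.hW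
  have h7 := S.h7
  obtain ⟨X', hX'def⟩ : ∃ X', X' = gmap g (orthQ Q W) := ⟨_, rfl⟩
  have hX'nd : NondegOn Q X' := by rw [hX'def]; exact nondegOn_gmap Q g _ hW'
  have hX'fr : finrank F X' = finrank F (orthQ Q W) := by rw [hX'def, finrank_gmap]
  have hX'7 : 7 ≤ finrank F X' := by rw [hX'fr]; exact h7
  have hXo : orthQ Q X' = gmap g W := by
    rw [hX'def, ← gmap_orth, orth_orth Q S.hQ]
  have hbot : ∀ u, u ∈ W → u ∈ orthQ Q W → u = 0 := by
    intro u hu hu'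
    have : u ∈ W ⊓ orthQ Q W := Submodule.mem_inf.mpr ⟨hu, hu'⟩
    rwa [inf_orth_self_eq_bot Q W S.hW, Submodule.mem_bot] at this
  by_cases h1' : X' ≤ orthQ Q W
  · have heq : X' = orthQ Q W := Submodule.eq_of_le_of_finrank_eq h1' hX'fr
    apply hgW
    intro w hw
    have : iact g w ∈ gmap g W := (mem_gmap g W _).mpr ⟨w, hw, rfl⟩
    rwa [← hXo, heq, orth_orth Q S.hQ] at this
  by_cases h1 : X' ≤ W
  · by_cases heq : X' = W
    · apply hns
      rw [← hXo, heq]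
    · obtain ⟨w₁, hw₁W, hw₁⟩ : ∃ w₁ ∈ W, w₁ ∉ X' := by
        by_contra hcon
        push Not at hcon
        exact heq (le_antisymm h1 hcon)
      have hcompl := isCompl_orth Q S.hQ X' hX'nd
      have hw₁' : w₁ ∈ X' ⊔ orthQ Q X' := by
        rw [hcompl.sup_eq_top]
        exact Submodule.mem_top
      obtain ⟨p, hp, b, hb, hpb⟩ := Submodule.mem_sup.mp hw₁'
      have hbW : b ∈ W := by
        have : b = w₁ - p := by rw [← hpb]; abel
        rw [this]
        exact W.sub_mem hw₁W (h1 hp)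
      have hb0 : b ≠ 0 := by
        rintro rfl
        rw [add_zero] at hpb
        rw [← hpb] at hw₁
        exact hw₁ hp
      have hW'X : orthQ Q W ≤ orthQ Q X' :=
        LinearMap.BilinForm.orthogonal_le (B := polarBilin Q) h1
      obtain ⟨x₁, hx₁W', hx₁0, hQx₁⟩ := exists_rep_ne Q S.h2 S.hQ (orthQ Q W) hW' (orthQ Q W)
        le_rfl (by omega) (1 - Q b)
      have hmem : x₁ + b ∈ gmap g W := by
        rw [← hXo]
        exact (orthQ Q X').add_mem (hW'X hx₁W') hb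
      have hQ1 : Q (x₁ + b) ≠ 0 := by
        rw [add_comm, Q_add_of_orth Q b x₁ hbW hx₁W', hQx₁]
        intro h
        have : (1 : F) = 0 := by linear_combination h
        exact one_ne_zero this
      rcases hall (x₁ + b) (Or.inl hmem) hQ1 with h | h
      · apply hx₁0
        apply hbot x₁ _ hx₁W'
        have := W.sub_mem h hbW
        rwa [add_sub_cancel_right] at this
      · apply hb0
        apply hbot b hbW
        have := (orthQ Q W).sub_mem h hx₁W'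
        rwa [add_sub_cancel_left] at this
  · obtain ⟨y, hyX', hQy, hyW, hyW'⟩ := exists_mix Q S.h2 S.hQ W X' hX'nd hX'7 h1 h1' 1
    have hQy0 : Q y ≠ 0 := by rw [hQy]; exact one_ne_zero
    rcases hall y (Or.inr (by rw [← hX'def]; exact hyX')) hQy0 with h | h
    · exact hyW h
    · exact hyW' h

/-- an element of `K` moving `W` yields a product of two reflections in `K` moving `W`. -/
theorem NdSetup.stepA (S : NdSetup Q W K) (g : ↥(Cfsg.isometryGroup F ⇑Q)) (hg : g ∈ K)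
    (hgW : ¬ (∀ w ∈ W, iact g w ∈ W)) (hns : gmap g W ≠ orthQ Q W) :
    ∃ (x a : ι → F) (hQx : Q x ≠ 0) (hQa : Q a ≠ 0), RR Q K x a ∧
      ¬ (∀ w ∈ W, iact (reflG Q x hQx * reflG Q a hQa) w ∈ W) := by
  by_cases h : ∃ x : ι → F, (x ∈ gmap g W ∨ x ∈ gmap g (orthQ Q W)) ∧ Q x ≠ 0 ∧ x ∉ W ∧
      x ∉ orthQ Q W
  · obtain ⟨x, hx, hQx, hxW, hxW'⟩ := h
    obtain ⟨a, hQa, hr, hnot⟩ := S.stepA1 Q g hg x hx hQx hxW hxW'
    exact ⟨x, a, hQx, hQa, hr, hnot⟩
  · exfalso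
    push Not at h
    apply S.stepA2 Q g hgW hns
    intro x hx hQx
    by_cases hxW : x ∈ W
    · exact Or.inl hxW
    · exact Or.inr (h x hx hQx hxW)

end nd6

end Cfsg.Agent.helper13
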