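import Mathlib
import Cfsg.Agent.Lib_helper13_Nd6

/-! The stabiliser of a nondegenerate subspace is maximal in `Ω`, odd characteristic. -/

set_option autoImplicit false

namespace Cfsg.Agent.helper13

open Matrix QuadraticMap Module

section nd7
variable {F : Type*} [Field F] [Fintype F] [DecidableEq F] {ι : Type} [Fintype ι] [DecidableEq ι]
variable (Q : QuadraticForm F (ι → F))

omit [DecidableEq F] in
/-- a subgroup containing all products of two reflections of equal norm contains the commutator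
subgroup. -/
theorem comm_le_of_eq_pairs (hQ : (polarBilin Q).Nondegenerate)
    (hne : Fintype.card F ≠ 2 ∨ Fintype.card ι ≠ 4)
    (K : Subgroup ↥(Cfsg.isometryGroup F ⇑Q))
    (H : ∀ (a b : ι → F) (ha : Q a ≠ 0) (hb : Q b ≠ 0), Q a = Q b →
      reflG Q a ha * reflG Q b hb ∈ K) :
    commutator ↥(Cfsg.isometryGroup F ⇑Q) ≤ K := by
  classical
  obtain ⟨S, hSdef⟩ : ∃ S : Set ↥(Cfsg.isometryGroup F ⇑Q), S = {x | ∃ (a b : ι → F)
      (ha : Q a ≠ 0) (hb : Q b ≠ 0), Q a = Q b ∧ x = reflG Q a ha * reflG Q b hb} := ⟨_, rfl⟩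
  have h1 : commutator ↥(Cfsg.isometryGroup F ⇑Q) ≤ Subgroup.normalClosure S :=
    commutator_le_of_pairs_all Q hQ hne _ (fun a b ha hb hab =>
      Subgroup.subset_normalClosure (by rw [hSdef]; exact ⟨a, b, ha, hb, hab, rfl⟩))
  refine le_trans h1 ?_
  unfold Subgroup.normalClosure
  rw [Subgroup.closure_le]
  intro x hx
  obtain ⟨s, hs, hconj⟩ := Group.mem_conjugatesOfSet_iff.mp hx
  rw [hSdef] at hs
  obtain ⟨a, b, ha, hb, hab, rfl⟩ := hs
  obtain ⟨c, hc⟩ := isConj_iff.mp hconj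
  rw [SetLike.mem_coe, ← hc]
  have : c * (reflG Q a ha * reflG Q b hb) * c⁻¹ =
      (c * reflG Q a ha * c⁻¹) * (c * reflG Q b hb * c⁻¹) := by group
  rw [this, reflG_conj, reflG_conj]
  exact H _ _ _ _ (by rw [Q_iact, Q_iact]; exact hab)

variable {W : Submodule F (ι → F)} {K : Subgroup ↥(Cfsg.isometryGroup F ⇑Q)}

/-- a product of two reflections in `K` moving `W` links, for every nonzero norm, a vector of `W^⊥` to
a vector outside `W ∪ W^⊥`. -/
theorem NdSetup.stepA3 (S : NdSetup Q W K) (x a : ι → F) (hQx : Q x ≠ 0) (hQa : Q a ≠ 0)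
    (hr : RR Q K x a) (hnot : ¬ (∀ w ∈ W, iact (reflG Q x hQx * reflG Q a hQa) w ∈ W))
    (c : F) (hc : c ≠ 0) :
    ∃ c₀ ∈ orthQ Q W, Q c₀ = c ∧ ∃ y, y ∉ W ∧ y ∉ orthQ Q W ∧ RR Q K y c₀ := by
  have hW' : NondegOn Q (orthQ Q W) := nondegOn_orth Q S.hQ W S.hW
  have h7 := S.h7
  obtain ⟨g', hg'def⟩ : ∃ g', g' = reflG Q x hQx * reflG Q a hQa := ⟨_, rfl⟩
  have hg' : g' ∈ K := by
    obtain ⟨_, _, hm⟩ := hr
    rw [hg'def]
    exact hm
  rw [← hg'def] at hnot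
  have hf1 := finrank_inf_orth_singleton Q S.hQ (orthQ Q W) x
  have hf3 := finrank_inf_orth_singleton Q S.hQ (orthQ Q W ⊓ orthQ Q (Submodule.span F {x})) a
  obtain ⟨c₀, hc₀T, hQc₀⟩ := exists_rep Q S.h2 S.hQ (orthQ Q W) hW'
    (orthQ Q W ⊓ orthQ Q (Submodule.span F {x}) ⊓ orthQ Q (Submodule.span F {a}))
    (le_trans inf_le_left inf_le_left) (by omega) c
  obtain ⟨hc₀T', hc₀a⟩ := Submodule.mem_inf.mp hc₀T
  obtain ⟨hc₀W', hc₀x⟩ := Submodule.mem_inf.mp hc₀T'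
  rw [mem_orth_singleton_iff] at hc₀a hc₀x
  have hfix : iact g' c₀ = c₀ := by
    rw [hg'def, iact_mul, iact_reflG_of_polar Q a hQa c₀ hc₀a, iact_reflG_of_polar Q x hQx c₀ hc₀x]
  have hQc₀0 : Q c₀ ≠ 0 := by rw [hQc₀]; exact hc
  have hc₀0 : c₀ ≠ 0 := by
    rintro rfl
    exact hQc₀0 (map_zero _)
  obtain ⟨X₂, hX₂def⟩ : ∃ X₂, X₂ = gmap g' (orthQ Q W) := ⟨_, rfl⟩
  have hX₂nd : NondegOn Q X₂ := by rw [hX₂def]; exact nondegOn_gmap Q g' _ hW'
  have hX₂fr : finrank F X₂ = finrank F (orthQ Q W) := by rw [hX₂def, finrank_gmap]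
  have h1' : ¬ X₂ ≤ orthQ Q W := by
    intro hle
    have heq : X₂ = orthQ Q W := Submodule.eq_of_le_of_finrank_eq hle hX₂fr
    apply hnot
    intro w hw
    rw [← orth_orth Q S.hQ W, mem_orth_iff]
    intro z hz
    rw [← heq, hX₂def] at hz
    obtain ⟨z', hz', rfl⟩ := (mem_gmap g' _ z).mp hz
    rw [polar_iact, polar_comm]
    exact (mem_orth_iff Q W z').mp hz' w hw
  have h1 : ¬ X₂ ≤ W := by
    intro hle
    have hmem : c₀ ∈ X₂ := by
      rw [hX₂def]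
      exact (mem_gmap g' _ c₀).mpr ⟨c₀, hc₀W', hfix⟩
    have : c₀ ∈ W ⊓ orthQ Q W := Submodule.mem_inf.mpr ⟨hle hmem, hc₀W'⟩
    rw [inf_orth_self_eq_bot Q W S.hW, Submodule.mem_bot] at this
    exact hc₀0 this
  obtain ⟨y, hyX₂, hQy, hyW, hyW'⟩ := exists_mix Q S.h2 S.hQ W X₂ hX₂nd (by rw [hX₂fr]; exact h7)
    h1 h1' c
  rw [hX₂def] at hyX₂
  obtain ⟨y₀, hy₀W', rfl⟩ := (mem_gmap g' _ y).mp hyX₂
  rw [Q_iact] at hQy
  have hr₀ : RR Q K y₀ c₀ := S.rr_mem Q y₀ c₀ (Or.inr hy₀W') (Or.inr hc₀W') (by rw [hQy]; exact hc)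
    hQc₀0 (by rw [hQy, hQc₀])
  have hr₁ := rr_conj Q g' hg' hr₀
  rw [hfix] at hr₁
  exact ⟨c₀, hc₀W', hQc₀, iact g' y₀, hyW, hyW', hr₁⟩

/-- a subgroup containing the stabiliser of `W` in the commutator subgroup and an element moving `W`
(and not interchanging `W` and `W^⊥`) contains the commutator subgroup. -/
theorem nd_max (S : NdSetup Q W K)
    (hex : ¬ (Fintype.card F = 3 ∧ finrank F W = 2 ∧ ∃ v ∈ W, v ≠ 0 ∧ Q v = 0))
    (g : ↥(Cfsg.isometryGroup F ⇑Q)) (hg : g ∈ K) (hgW : ¬ (∀ w ∈ W, iact g w ∈ W))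
    (hns : gmap g W ≠ orthQ Q W) : commutator ↥(Cfsg.isometryGroup F ⇑Q) ≤ K := by
  have hne : Fintype.card F ≠ 2 ∨ Fintype.card ι ≠ 4 := Or.inr (by have := S.hn; omega)
  obtain ⟨x, a, hQx, hQa, hr, hnot⟩ := S.stepA Q g hg hgW hns
  apply comm_le_of_eq_pairs Q S.hQ hne K
  intro u v hu hv huv
  obtain ⟨c₀, hc₀W', hQc₀, y, hyW, hyW', hry⟩ := S.stepA3 Q x a hQx hQa hr hnot (Q u) hu
  have hQc₀0 : Q c₀ ≠ 0 := by rw [hQc₀]; exact hu
  have hru := S.all_rr Q c₀ hc₀W' hQc₀0 hex y hyW hyW' hry u (by rw [hQc₀])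
  have hrv := S.all_rr Q c₀ hc₀W' hQc₀0 hex y hyW hyW' hry v (by rw [hQc₀, huv])
  obtain ⟨_, _, hm⟩ := RR.trans Q hru (RR.symm Q hrv)
  exact hm

omit [DecidableEq F] in
theorem stab_iff_orth (hQ : (polarBilin Q).Nondegenerate) (h : ↥(Cfsg.isometryGroup F ⇑Q))
    (W : Submodule F (ι → F)) : gmap h W = W ↔ gmap h (orthQ Q W) = orthQ Q W := by
  constructor
  · intro e
    rw [gmap_orth, e]
  · intro e
    have := congrArg (orthQ Q) e
    rw [← gmap_orth, orth_orth Q hQ] at this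
    exact this

omit [DecidableEq F] in
theorem stabilizer_orth_inf (hQ : (polarBilin Q).Nondegenerate) (W : Submodule F (ι → F)) :
    Cfsg.Geo.subspaceStabilizer (orthQ Q W) ⊓ Cfsg.Geo.omegaGL ⇑Q =
      Cfsg.Geo.subspaceStabilizer W ⊓ Cfsg.Geo.omegaGL ⇑Q := by
  ext x
  simp only [Subgroup.mem_inf]
  constructor
  · rintro ⟨h1, h3⟩
    obtain ⟨h, hh, rfl⟩ := (mem_omegaGL Q x).mp h3
    exact ⟨(mem_subspaceStabilizer_iff Q h W).mpr ((stab_iff_orth Q hQ h W).mpr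
      ((mem_subspaceStabilizer_iff Q h _).mp h1)), h3⟩
  · rintro ⟨h1, h3⟩
    obtain ⟨h, hh, rfl⟩ := (mem_omegaGL Q x).mp h3
    exact ⟨(mem_subspaceStabilizer_iff Q h _).mpr ((stab_iff_orth Q hQ h W).mp
      ((mem_subspaceStabilizer_iff Q h W).mp h1)), h3⟩

/-- the stabiliser of a nondegenerate subspace with large orthogonal complement is maximal in `Ω`. -/
theorem nd_isMaximalIn (h2 : (2 : F) ≠ 0) (hQ : (polarBilin Q).Nondegenerate)
    (hn : 13 ≤ Fintype.card ι) (W : Submodule F (ι → F)) (hW : NondegOn Q W) (hW0 : W ≠ ⊥)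
    (h7 : 7 ≤ finrank F (orthQ Q W))
    (hex : ¬ (Fintype.card F = 3 ∧ finrank F W = 2 ∧ ∃ v ∈ W, v ≠ 0 ∧ Q v = 0))
    (hns : ∀ g : ↥(Cfsg.isometryGroup F ⇑Q), gmap g W ≠ orthQ Q W) :
    Cfsg.Geo.IsMaximalIn (Cfsg.Geo.omegaGL ⇑Q)
      (Cfsg.Geo.subspaceStabilizer W ⊓ Cfsg.Geo.omegaGL ⇑Q) := by
  classical
  have hne : Fintype.card F ≠ 2 ∨ Fintype.card ι ≠ 4 := Or.inr (by omega)
  have hW' : NondegOn Q (orthQ Q W) := nondegOn_orth Q hQ W hW
  have hbot : ∀ u, u ∈ W → u ∈ orthQ Q W → u = 0 := by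
    intro u hu hu'
    have : u ∈ W ⊓ orthQ Q W := Submodule.mem_inf.mpr ⟨hu, hu'⟩
    rwa [inf_orth_self_eq_bot Q W hW, Submodule.mem_bot] at this
  constructor
  · apply inf_omega_lt_omega Q
    obtain ⟨w, hwW, hw0⟩ := Submodule.exists_mem_ne_zero_of_ne_bot hW0
    obtain ⟨z, hzW', hz0, hQz⟩ := exists_rep_ne Q h2 hQ (orthQ Q W) hW' (orthQ Q W) le_rfl
      (by omega) (1 - Q w)
    obtain ⟨x, hxdef⟩ : ∃ x, x = w + z := ⟨_, rfl⟩
    have hQx : Q x = 1 := by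
      rw [hxdef, Q_add_of_orth Q w z hwW hzW', hQz]
      ring
    have hQx0 : Q x ≠ 0 := by rw [hQx]; exact one_ne_zero
    have hxW : x ∉ W := by
      intro h
      apply hz0
      apply hbot z _ hzW'
      have := W.sub_mem h hwW
      rwa [hxdef, add_sub_cancel_left] at this
    have hxW' : x ∉ orthQ Q W := by
      intro h
      apply hw0
      apply hbot w hwW
      have := (orthQ Q W).sub_mem h hzW'
      rwa [hxdef, add_sub_cancel_right] at this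
    have hfr := finrank_inf_orth_singleton Q hQ (orthQ Q W) x
    obtain ⟨x₂, hx₂M, hQx₂⟩ := exists_rep Q h2 hQ (orthQ Q W) hW'
      (orthQ Q W ⊓ orthQ Q (Submodule.span F {x})) inf_le_left (by omega) (Q x)
    obtain ⟨hx₂W', -⟩ := Submodule.mem_inf.mp hx₂M
    have hQx₂0 : Q x₂ ≠ 0 := by rw [hQx₂]; exact hQx0
    refine ⟨reflG Q x hQx0 * reflG Q x₂ hQx₂0,
      reflG_pair_mem_comm Q hQ hne x₂ x hQx₂0 hQx0 hQx₂.symm, ?_⟩
    rw [mem_subspaceStabilizer_iff]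
    intro hst
    have hst' : ∀ w ∈ W, iact (reflG Q x hQx0 * reflG Q x₂ hQx₂0) w ∈ W := by
      intro u hu
      rw [← hst]
      exact (mem_gmap _ W _).mpr ⟨u, hu, rfl⟩
    have hx' : x ∈ W ∨ x ∈ orthQ Q W := by
      apply refl_stab_conv Q W x hQx0
      intro u hu
      have h5 := hst' _ (refl_stab Q W x₂ (Or.inr hx₂W') hQx₂0 u hu)
      rwa [iact_mul, ← iact_mul (reflG Q x₂ hQx₂0), reflG_mul_self, iact_one] at h5
    rcases hx' with h | h
    · exact hxW h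
    · exact hxW' h
  · intro M hPM hMΩ
    obtain ⟨K, hKdef⟩ : ∃ K : Subgroup ↥(Cfsg.isometryGroup F ⇑Q),
        K = M.comap (Cfsg.isometryGroup F ⇑Q).subtype := ⟨_, rfl⟩
    have hmemK : ∀ k : ↥(Cfsg.isometryGroup F ⇑Q), k ∈ K ↔ (k : GL ι F) ∈ M := by
      intro k
      rw [hKdef, Subgroup.mem_comap]
      rfl
    have hS : NdSetup Q W K := by
      refine ⟨h2, hQ, hn, hW, h7, ?_⟩
      intro h hh hst
      rw [hmemK]
      apply hPM
      refine Subgroup.mem_inf.mpr ⟨(mem_subspaceStabilizer_iff Q h _).mpr ?_,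
        (mem_omegaGL Q _).mpr ⟨h, hh, rfl⟩⟩
      apply gmap_eq_of_le
      intro u hu
      obtain ⟨u', hu', rfl⟩ := (mem_gmap h W u).mp hu
      exact hst u' hu'
    by_cases hall : ∀ g ∈ K, gmap g W = W
    · left
      apply le_antisymm _ hPM
      intro x hx
      obtain ⟨h, hh, rfl⟩ := (mem_omegaGL Q x).mp (hMΩ hx)
      exact Subgroup.mem_inf.mpr ⟨(mem_subspaceStabilizer_iff Q h _).mpr
        (hall h ((hmemK h).mpr hx)), hMΩ hx⟩
    · right
      push Not at hall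
      obtain ⟨g, hgK, hg⟩ := hall
      have hgW : ¬ (∀ w ∈ W, iact g w ∈ W) := by
        intro hst
        apply hg
        apply gmap_eq_of_le
        intro u hu
        obtain ⟨u', hu', rfl⟩ := (mem_gmap g W u).mp hu
        exact hst u' hu'
      have hle := nd_max Q hS hex g hgK hgW (hns g)
      apply le_antisymm hMΩ
      intro x hx
      obtain ⟨h, hh, rfl⟩ := (mem_omegaGL Q x).mp hx
      exact (hmemK h).mp (hle hh)

end nd7

end Cfsg.Agent.helper13
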