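import Mathlib
import Cfsg.Agent.Lib_helper13_Nd7

/-! The stabiliser of a nondegenerate subspace is maximal in `Ω`, odd characteristic: symmetric form
and the decomposition into two nonisometric halves. -/

set_option autoImplicit false

namespace Cfsg.Agent.helper13

open Matrix QuadraticMap Module

section nd8
variable {F : Type*} [Field F] [Fintype F] {ι : Type} [Fintype ι] [DecidableEq ι]
variable (Q : QuadraticForm F (ι → F))

omit [Fintype F] in
theorem finrank_add_finrank_orth (hQ : (polarBilin Q).Nondegenerate) (W : Submodule F (ι → F)) :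
    finrank F W + finrank F (orthQ Q W) = Fintype.card ι := by
  have h1 : finrank F ↥(orthQ Q W) = finrank F (ι → F) - finrank F W :=
    LinearMap.BilinForm.finrank_orthogonal hQ W
  have h3 : finrank F W ≤ finrank F (ι → F) := Submodule.finrank_le _
  rw [Module.finrank_fintype_fun_eq_card] at h1 h3
  omega

/-- the stabiliser of a nondegenerate proper nonzero subspace is maximal in `Ω`, in dimension at least
thirteen, apart from hyperbolic planes over the field with three elements and the case of a subspace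
isometric to its orthogonal complement. -/
theorem nd_isMaximalIn' (h2 : (2 : F) ≠ 0) (hQ : (polarBilin Q).Nondegenerate)
    (hn : 13 ≤ Fintype.card ι) (W : Submodule F (ι → F)) (hW : NondegOn Q W) (hW0 : W ≠ ⊥)
    (hW'0 : orthQ Q W ≠ ⊥)
    (hex : ¬ (Fintype.card F = 3 ∧ finrank F W = 2 ∧ ∃ v ∈ W, v ≠ 0 ∧ Q v = 0))
    (hex' : ¬ (Fintype.card F = 3 ∧ finrank F (orthQ Q W) = 2 ∧
      ∃ v ∈ orthQ Q W, v ≠ 0 ∧ Q v = 0))
    (hns : ∀ g : ↥(Cfsg.isometryGroup F ⇑Q), gmap g W ≠ orthQ Q W) :
    Cfsg.Geo.IsMaximalIn (Cfsg.Geo.omegaGL ⇑Q)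
      (Cfsg.Geo.subspaceStabilizer W ⊓ Cfsg.Geo.omegaGL ⇑Q) := by
  classical
  have hsum := finrank_add_finrank_orth Q hQ W
  by_cases h7 : 7 ≤ finrank F (orthQ Q W)
  · exact nd_isMaximalIn Q h2 hQ hn W hW hW0 h7 hex hns
  · rw [← stabilizer_orth_inf Q hQ W]
    apply nd_isMaximalIn Q h2 hQ hn (orthQ Q W) (nondegOn_orth Q hQ W hW) hW'0
      (by rw [orth_orth Q hQ]; omega) hex'
    intro g hg
    rw [orth_orth Q hQ] at hg
    apply hns g
    have := congrArg (orthQ Q) hg
    rw [← gmap_orth, orth_orth Q hQ] at this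
    exact this

omit [Fintype F] [DecidableEq ι] in
/-- in characteristic two a subspace on which the polar form is nondegenerate has even dimension. -/
theorem even_finrank_of_nondegOn (h2 : (2 : F) = 0) :
    ∀ (n : ℕ) (U : Submodule F (ι → F)), finrank F U = n → NondegOn Q U → Even n := by
  intro n
  induction n using Nat.strong_induction_on with
  | _ n ih =>
    intro U hn hU
    by_cases hU0 : U = ⊥
    · rw [hU0, finrank_bot] at hn
      rw [← hn]
      exact Even.zero
    · obtain ⟨y, hyU, hy0⟩ := Submodule.exists_mem_ne_zero_of_ne_bot hU0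
      obtain ⟨z₀, hz₀U, hz₀⟩ : ∃ z₀ ∈ U, polar (⇑Q) z₀ y ≠ 0 := by
        by_contra hcon
        push Not at hcon
        exact hy0 (hU y hyU hcon)
      obtain ⟨z, hzdef⟩ : ∃ z, z = (polar (⇑Q) z₀ y)⁻¹ • z₀ := ⟨_, rfl⟩
      have hzU : z ∈ U := by rw [hzdef]; exact U.smul_mem _ hz₀U
      have hyz : polar (⇑Q) y z = 1 := by
        rw [hzdef, polar_smul_right, smul_eq_mul, polar_comm (⇑Q) y z₀]
        exact inv_mul_cancel₀ hz₀
      have hfr := planeCompl_finrank Q h2 U y z hyU hzU hyz
      have hnd := planeCompl_nondeg Q h2 U hU y z hyU hzU hyz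
      have h1 : finrank F ↥(planeCompl Q U y z) < n := by omega
      have := ih _ h1 (planeCompl Q U y z) rfl hnd
      rw [← hn, ← hfr]
      exact Even.add this even_two

omit [Fintype F] in
/-- an isometry mapping `U` onto `U'` makes them isometric. -/
theorem areIsometricFor_of_gmap (g : ↥(Cfsg.isometryGroup F ⇑Q)) (U U' : Submodule F (ι → F))
    (h : gmap g U = U') : Cfsg.Geo.AreIsometricFor (⇑Q) U U' := by
  refine ⟨(Submodule.equivMapOfInjective _ (mulVecLin_injective g) U).trans
    (LinearEquiv.ofEq _ _ h), ?_⟩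
  intro w
  have : (((Submodule.equivMapOfInjective _ (mulVecLin_injective g) U).trans
      (LinearEquiv.ofEq _ _ h)) w : ι → F) = iact g (w : ι → F) := rfl
  rw [this, Q_iact]

omit [Fintype F] in
theorem map_toLin'_eq_gmap (h : ↥(Cfsg.isometryGroup F ⇑Q)) (U : Submodule F (ι → F)) :
    U.map (Matrix.toLin' ((h : GL ι F) : Matrix ι ι F)) = gmap h U := rfl

/-- the stabiliser of a decomposition into two nonisometric nondegenerate halves is maximal in `Ω`. -/
theorem halves_isMaximalIn (hQ : (polarBilin Q).Nondegenerate) (hn : 13 ≤ Fintype.card ι)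
    (k : ℕ) (hk : 2 * k = Fintype.card ι) (hko : Odd k) (D : Fin 2 → Submodule F (ι → F))
    (hD : Cfsg.Geo.IsNondegenerateMDecomposition (QuadraticMap.polar ⇑Q) k D)
    (hni : ¬ Cfsg.Geo.AreIsometricFor (⇑Q) (D 0) (D 1)) :
    Cfsg.Geo.IsMaximalIn (Cfsg.Geo.omegaGL ⇑Q)
      (Cfsg.Geo.decompositionStabilizer D ⊓ Cfsg.Geo.omegaGL ⇑Q) := by
  classical
  have hf0 : finrank F (D 0) = k := hD.decomp.finrank_eq 0
  have hf1 : finrank F (D 1) = k := hD.decomp.finrank_eq 1
  have hnd0 : NondegOn Q (D 0) := nondegOn_of_geo Q (D 0) (hD.nondegenerate 0)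
  have h2 : (2 : F) ≠ 0 := by
    intro h2
    have := even_finrank_of_nondegOn Q h2 k (D 0) hf0 hnd0
    exact (Nat.not_even_iff_odd.mpr hko) this
  have hsum := finrank_add_finrank_orth Q hQ (D 0)
  have hD1 : D 1 = orthQ Q (D 0) := by
    apply Submodule.eq_of_le_of_finrank_eq
    · intro v hv
      rw [mem_orth_iff]
      intro u hu
      exact hD.orthogonal 0 1 (by decide) u hu v hv
    · omega
  have hk7 : 7 ≤ k := by omega
  have hns : ∀ g : ↥(Cfsg.isometryGroup F ⇑Q), gmap g (D 0) ≠ orthQ Q (D 0) := by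
    intro g hg
    apply hni
    rw [hD1]
    exact areIsometricFor_of_gmap Q g _ _ hg
  have hkne2 : k ≠ 2 := by
    rintro rfl
    omega
  have hmax := nd_isMaximalIn' Q h2 hQ hn (D 0) hnd0
    (by
      intro h
      rw [h, finrank_bot] at hf0
      omega)
    (by
      intro h
      rw [← hD1] at h
      rw [h, finrank_bot] at hf1
      omega)
    (by
      rintro ⟨-, h, -⟩
      rw [hf0] at h
      exact hkne2 h)
    (by
      rintro ⟨-, h, -⟩
      rw [← hD1, hf1] at h
      exact hkne2 h) hns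
  have heq : Cfsg.Geo.decompositionStabilizer D ⊓ Cfsg.Geo.omegaGL ⇑Q =
      Cfsg.Geo.subspaceStabilizer (D 0) ⊓ Cfsg.Geo.omegaGL ⇑Q := by
    ext x
    simp only [Subgroup.mem_inf]
    constructor
    · rintro ⟨⟨σ, hσ⟩, h3⟩
      obtain ⟨h, hh, rfl⟩ := (mem_omegaGL Q x).mp h3
      refine ⟨(mem_subspaceStabilizer_iff Q h _).mpr ?_, h3⟩
      have h0 := hσ 0
      rw [map_toLin'_eq_gmap] at h0
      rcases Fin.exists_fin_two.mp ⟨σ 0, rfl⟩ with h5 | h5
      · rw [h5] at h0
        exact h0
      · exfalso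
        apply hns h
        rw [h5] at h0
        rw [h0, hD1]
    · rintro ⟨h1, h3⟩
      obtain ⟨h, hh, rfl⟩ := (mem_omegaGL Q x).mp h3
      have e0 := (mem_subspaceStabilizer_iff Q h _).mp h1
      have e1 : gmap h (D 1) = D 1 := by
        rw [hD1]
        exact (stab_iff_orth Q hQ h (D 0)).mp e0
      refine ⟨⟨1, ?_⟩, h3⟩
      intro i
      rw [map_toLin'_eq_gmap, Equiv.Perm.one_apply]
      rcases Fin.exists_fin_two.mp ⟨i, rfl⟩ with h5 | h5
      · rw [h5]
        exact e0
      · rw [h5]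
        exact e1
  rw [heq]
  exact hmax

end nd8

end Cfsg.Agent.helper13
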