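import Mathlib
import Cfsg.Agent.Lib_helper13_Nd8

/-! Representing values inside a nondegenerate subspace: characteristic two, and versions valid in
all characteristics. -/

set_option autoImplicit false

namespace Cfsg.Agent.helper13

open Matrix QuadraticMap Module

section ac1
variable {F : Type*} [Field F] [Fintype F] {ι : Type} [Fintype ι] [DecidableEq ι]
variable (Q : QuadraticForm F (ι → F))

omit [Fintype F] in
/-- a subspace of more than half the dimension of a nondegenerate subspace contains a hyperbolic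
pair for the polar form. -/
theorem exists_polar_pair (hQ : (polarBilin Q).Nondegenerate)
    (X : Submodule F (ι → F)) (hX : NondegOn Q X) (M : Submodule F (ι → F)) (hMX : M ≤ X)
    (h : finrank F X < 2 * finrank F M) : ∃ h₁ ∈ M, ∃ h₂ ∈ M, polar (⇑Q) h₁ h₂ = 1 := by
  by_contra hcon
  push Not at hcon
  have hzero : ∀ u ∈ M, ∀ v ∈ M, polar (⇑Q) u v = 0 := by
    intro u hu v hv
    by_contra hne
    apply hcon ((polar (⇑Q) u v)⁻¹ • u) (M.smul_mem _ hu) v hv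
    rw [polar_smul_left, smul_eq_mul, inv_mul_cancel₀ hne]
  have hle : M ≤ X ⊓ orthQ Q M := by
    intro u hu
    refine Submodule.mem_inf.mpr ⟨hMX hu, ?_⟩
    rw [mem_orth_iff]
    intro v hv
    exact hzero v hv u hu
  have h1 := finrank_inf_orth_of_le Q hQ X hX M hMX
  have h3 := Submodule.finrank_mono hle
  omega

omit [Fintype ι] [DecidableEq ι] in
/-- in characteristic two a hyperbolic pair for the polar form spans a universal plane. -/
theorem c2_exists_comb (h2 : (2 : F) = 0) (h₁ h₂ : ι → F) (h12 : polar (⇑Q) h₁ h₂ = 1) (c : F) :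
    ∃ x y : F, Q (x • h₁ + y • h₂) = c := by
  by_cases ha : Q h₁ = 0
  · refine ⟨c - Q h₂, 1, ?_⟩
    rw [Q_comb2, ha, h12]
    ring
  · have hch : ringChar F = 2 := CharP.ringChar_of_prime_eq_zero Nat.prime_two h2
    obtain ⟨r, hr⟩ := FiniteField.isSquare_of_char_two hch (c / Q h₁)
    refine ⟨r, 0, ?_⟩
    rw [Q_comb2, ← hr, div_mul_cancel₀ _ ha]
    ring

theorem c2_exists_rep (h2 : (2 : F) = 0) (hQ : (polarBilin Q).Nondegenerate)
    (X : Submodule F (ι → F)) (hX : NondegOn Q X) (M : Submodule F (ι → F)) (hMX : M ≤ X)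
    (h : finrank F X < 2 * finrank F M) (c : F) : ∃ y ∈ M, Q y = c := by
  obtain ⟨h₁, hh₁, h₂, hh₂, h12⟩ := exists_polar_pair Q hQ X hX M hMX h
  obtain ⟨x, y, hxy⟩ := c2_exists_comb Q h2 h₁ h₂ h12 c
  exact ⟨x • h₁ + y • h₂, M.add_mem (M.smul_mem _ hh₁) (M.smul_mem _ hh₂), hxy⟩

theorem c2_exists_rep_ne (h2 : (2 : F) = 0) (hQ : (polarBilin Q).Nondegenerate)
    (X : Submodule F (ι → F)) (hX : NondegOn Q X) (M : Submodule F (ι → F)) (hMX : M ≤ X)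
    (h : finrank F X + 4 < 2 * finrank F M) (c : F) : ∃ y ∈ M, y ≠ 0 ∧ Q y = c := by
  obtain ⟨h₁, hh₁, h₂, hh₂, h12⟩ := exists_polar_pair Q hQ X hX M hMX (by omega)
  have hMfr : finrank F M ≤ finrank F X := Submodule.finrank_mono hMX
  have hf1 := finrank_inf_orth_singleton Q hQ M h₁
  have hf3 := finrank_inf_orth_singleton Q hQ (M ⊓ orthQ Q (Submodule.span F {h₁})) h₂
  have hne : M ⊓ orthQ Q (Submodule.span F {h₁}) ⊓ orthQ Q (Submodule.span F {h₂}) ≠ ⊥ := by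
    intro hbot
    rw [hbot, finrank_bot] at hf3
    omega
  obtain ⟨y₃, hy₃M, hy₃0⟩ := Submodule.exists_mem_ne_zero_of_ne_bot hne
  obtain ⟨hy₃M', hy₃2⟩ := Submodule.mem_inf.mp hy₃M
  obtain ⟨hy₃M'', hy₃1⟩ := Submodule.mem_inf.mp hy₃M'
  rw [mem_orth_singleton_iff] at hy₃1 hy₃2
  obtain ⟨x, y, hxy⟩ := c2_exists_comb Q h2 h₁ h₂ h12 (c - Q y₃)
  have hp : polar (⇑Q) (x • h₁ + y • h₂) y₃ = 0 := by
    rw [polar_add_left, polar_smul_left, polar_smul_left, hy₃1, hy₃2]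
    simp
  refine ⟨(x • h₁ + y • h₂) + y₃,
    M.add_mem (M.add_mem (M.smul_mem _ hh₁) (M.smul_mem _ hh₂)) hy₃M'', ?_, ?_⟩
  · intro h0
    have hy₃eq : y₃ = -(x • h₁ + y • h₂) := eq_neg_of_add_eq_zero_right h0
    have e1 : polar (⇑Q) h₁ (x • h₁ + y • h₂) = y := by
      rw [polar_add_right, polar_smul_right, polar_smul_right, polar_self', h2, h12]
      simp
    have e2 : polar (⇑Q) h₂ (x • h₁ + y • h₂) = x := by
      rw [polar_add_right, polar_smul_right, polar_smul_right, polar_self', h2,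
        polar_comm (⇑Q) h₂ h₁, h12]
      simp
    rw [hy₃eq, polar_neg_right, e1] at hy₃1
    rw [hy₃eq, polar_neg_right, e2] at hy₃2
    have hx0 : x = 0 := neg_eq_zero.mp hy₃2
    have hy0 : y = 0 := neg_eq_zero.mp hy₃1
    apply hy₃0
    rw [hy₃eq, hx0, hy0]
    simp
  · rw [Q_add_polar, hxy, hp]
    ring

theorem c2_exists_E2 (h2 : (2 : F) = 0) (hQ : (polarBilin Q).Nondegenerate)
    (X : Submodule F (ι → F)) (hX : NondegOn Q X) (h7 : 7 ≤ finrank F X)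
    (z₁ z₂ : ι → F) (hz₁ : z₁ ∈ X) (hz₂ : z₂ ∈ X)
    (hind₁ : ∀ t : F, z₁ ≠ t • z₂) (hind₂ : ∀ t : F, z₂ ≠ t • z₁) (β₁ β₂ c : F) :
    ∃ u ∈ X, polar (⇑Q) z₁ u = β₁ ∧ polar (⇑Q) z₂ u = β₂ ∧ Q u = c := by
  obtain ⟨p₁, hp₁X, hp₁o, hp₁⟩ := exists_sep_in Q hQ X hX z₁ z₂ hz₁ hz₂ hind₁
  obtain ⟨p₂, hp₂X, hp₂o, hp₂⟩ := exists_sep_in Q hQ X hX z₂ z₁ hz₂ hz₁ hind₂
  obtain ⟨u₀, hu₀def⟩ : ∃ u₀, u₀ = (β₁ / polar (⇑Q) z₁ p₁) • p₁ + (β₂ / polar (⇑Q) z₂ p₂) • p₂ :=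
    ⟨_, rfl⟩
  have hu₀X : u₀ ∈ X := by
    rw [hu₀def]
    exact X.add_mem (X.smul_mem _ hp₁X) (X.smul_mem _ hp₂X)
  have hu₀1 : polar (⇑Q) z₁ u₀ = β₁ := by
    rw [hu₀def, polar_add_right, polar_smul_right, polar_smul_right, hp₂o, smul_zero, add_zero,
      smul_eq_mul, div_mul_cancel₀ _ hp₁]
  have hu₀2 : polar (⇑Q) z₂ u₀ = β₂ := by
    rw [hu₀def, polar_add_right, polar_smul_right, polar_smul_right, hp₁o, smul_zero, zero_add,
      smul_eq_mul, div_mul_cancel₀ _ hp₂]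
  obtain ⟨M, hMdef⟩ : ∃ M, M = planeCompl Q X z₁ z₂ := ⟨_, rfl⟩
  have hMX : M ≤ X := by rw [hMdef]; exact planeCompl_le Q X z₁ z₂
  have hMrk : finrank F X ≤ finrank F M + 2 := by
    have h1 := finrank_inf_orth_singleton Q hQ X z₁
    have h3 := finrank_inf_orth_singleton Q hQ (X ⊓ orthQ Q (Submodule.span F {z₁})) z₂
    have e : M = X ⊓ orthQ Q (Submodule.span F {z₁}) ⊓ orthQ Q (Submodule.span F {z₂}) := by
      rw [hMdef]
      rfl
    rw [e]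
    omega
  obtain ⟨h₁, hh₁M, h₂, hh₂M, h12⟩ := exists_polar_pair Q hQ X hX M hMX (by omega)
  rw [hMdef, mem_planeCompl] at hh₁M hh₂M
  obtain ⟨hh₁X, h1h₁, h2h₁⟩ := hh₁M
  obtain ⟨hh₂X, h1h₂, h2h₂⟩ := hh₂M
  obtain ⟨u₁, hu₁def⟩ : ∃ u₁, u₁ = u₀ + polar (⇑Q) h₂ u₀ • h₁ + polar (⇑Q) h₁ u₀ • h₂ := ⟨_, rfl⟩
  have hu₁X : u₁ ∈ X := by
    rw [hu₁def]
    exact X.add_mem (X.add_mem hu₀X (X.smul_mem _ hh₁X)) (X.smul_mem _ hh₂X)
  have hu₁1 : polar (⇑Q) z₁ u₁ = β₁ := by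
    rw [hu₁def, polar_add_right, polar_add_right, polar_smul_right, polar_smul_right, h1h₁, h1h₂,
      hu₀1]
    simp
  have hu₁2 : polar (⇑Q) z₂ u₁ = β₂ := by
    rw [hu₁def, polar_add_right, polar_add_right, polar_smul_right, polar_smul_right, h2h₁, h2h₂,
      hu₀2]
    simp
  have hu₁h₁ : polar (⇑Q) u₁ h₁ = 0 := by
    rw [hu₁def, polar_add_left, polar_add_left, polar_smul_left, polar_smul_left, polar_self', h2,
      polar_comm (⇑Q) h₂ h₁, h12, polar_comm (⇑Q) u₀ h₁]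
    simp only [smul_eq_mul, zero_mul, mul_zero, add_zero, mul_one]
    linear_combination (polar (⇑Q) h₁ u₀) * h2
  have hu₁h₂ : polar (⇑Q) u₁ h₂ = 0 := by
    rw [hu₁def, polar_add_left, polar_add_left, polar_smul_left, polar_smul_left, polar_self', h2,
      h12, polar_comm (⇑Q) u₀ h₂]
    simp only [smul_eq_mul, zero_mul, mul_zero, add_zero, mul_one]
    linear_combination (polar (⇑Q) h₂ u₀) * h2
  obtain ⟨x, y, hxy⟩ := c2_exists_comb Q h2 h₁ h₂ h12 (c - Q u₁)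
  refine ⟨u₁ + (x • h₁ + y • h₂),
    X.add_mem hu₁X (X.add_mem (X.smul_mem _ hh₁X) (X.smul_mem _ hh₂X)), ?_, ?_, ?_⟩
  · rw [polar_add_right, polar_add_right, polar_smul_right, polar_smul_right, h1h₁, h1h₂, hu₁1]
    simp
  · rw [polar_add_right, polar_add_right, polar_smul_right, polar_smul_right, h2h₁, h2h₂, hu₁2]
    simp
  · rw [Q_add_polar, hxy, polar_add_right, polar_smul_right, polar_smul_right, hu₁h₁, hu₁h₂]
    simp

/-- every value is represented in a large subspace of a nondegenerate subspace; all characteristics. -/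
theorem ac_exists_rep (hQ : (polarBilin Q).Nondegenerate)
    (X : Submodule F (ι → F)) (hX : NondegOn Q X) (M : Submodule F (ι → F)) (hMX : M ≤ X)
    (h : finrank F X + 2 < 2 * finrank F M) (c : F) : ∃ y ∈ M, Q y = c := by
  by_cases h2 : (2 : F) = 0
  · exact c2_exists_rep Q h2 hQ X hX M hMX (by omega) c
  · exact exists_rep Q h2 hQ X hX M hMX h c

theorem ac_exists_rep_ne (hQ : (polarBilin Q).Nondegenerate)
    (X : Submodule F (ι → F)) (hX : NondegOn Q X) (M : Submodule F (ι → F)) (hMX : M ≤ X)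
    (h : finrank F X + 4 < 2 * finrank F M) (c : F) : ∃ y ∈ M, y ≠ 0 ∧ Q y = c := by
  by_cases h2 : (2 : F) = 0
  · exact c2_exists_rep_ne Q h2 hQ X hX M hMX h c
  · exact exists_rep_ne Q h2 hQ X hX M hMX h c

theorem ac_exists_E2 (hQ : (polarBilin Q).Nondegenerate)
    (X : Submodule F (ι → F)) (hX : NondegOn Q X) (h7 : 7 ≤ finrank F X)
    (z₁ z₂ : ι → F) (hz₁ : z₁ ∈ X) (hz₂ : z₂ ∈ X)
    (hind₁ : ∀ t : F, z₁ ≠ t • z₂) (hind₂ : ∀ t : F, z₂ ≠ t • z₁) (β₁ β₂ c : F) :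
    ∃ u ∈ X, polar (⇑Q) z₁ u = β₁ ∧ polar (⇑Q) z₂ u = β₂ ∧ Q u = c := by
  by_cases h2 : (2 : F) = 0
  · exact c2_exists_E2 Q h2 hQ X hX h7 z₁ z₂ hz₁ hz₂ hind₁ hind₂ β₁ β₂ c
  · exact exists_E2 Q h2 hQ X hX h7 z₁ z₂ hz₁ hz₂ hind₁ hind₂ β₁ β₂ c

end ac1

end Cfsg.Agent.helper13
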