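import Mathlib
import Cfsg.Agent.Lib_helper13_Ac2

/-! Overgroups of the stabiliser of a nondegenerate subspace, all characteristics: basic moves. -/

set_option autoImplicit false

namespace Cfsg.Agent.helper13

open Matrix QuadraticMap Module

section ac3
variable {F : Type*} [Field F] [Fintype F] [DecidableEq F] {ι : Type} [Fintype ι] [DecidableEq ι]
variable (Q : QuadraticForm F (ι → F))

/-- the standing hypotheses: `K` contains the stabiliser of the nondegenerate subspace `W` in the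
commutator subgroup, and the orthogonal complement of `W` has dimension at least seven. -/
structure AcSetup (W : Submodule F (ι → F)) (K : Subgroup ↥(Cfsg.isometryGroup F ⇑Q)) : Prop where
  hQ : (polarBilin Q).Nondegenerate
  hn : 13 ≤ Fintype.card ι
  hW : NondegOn Q W
  h7 : 7 ≤ finrank F (orthQ Q W)
  hK : ∀ h ∈ commutator ↥(Cfsg.isometryGroup F ⇑Q), (∀ w ∈ W, iact h w ∈ W) → h ∈ K

variable {W : Submodule F (ι → F)} {K : Subgroup ↥(Cfsg.isometryGroup F ⇑Q)}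

/-- two vectors of `W ∪ W^⊥` in the same square class are related. -/
theorem AcSetup.rr_mem (S : AcSetup Q W K) (a b : ι → F) (ha : a ∈ W ∨ a ∈ orthQ Q W)
    (hb : b ∈ W ∨ b ∈ orthQ Q W) (hQa : Q a ≠ 0) (hQb : Q b ≠ 0)
    (hχ : quadraticChar F (Q a) = quadraticChar F (Q b)) : RR Q K a b := by
  have hne : Fintype.card F ≠ 2 ∨ Fintype.card ι ≠ 4 := Or.inr (by have := S.hn; omega)
  obtain ⟨t, ht0, ht⟩ := exists_sq_ratio hQa hQb hχ
  have hQb' : Q (t • b) = Q a := by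
    rw [QuadraticMap.map_smul, smul_eq_mul, ht]
  have hb' : Q (t • b) ≠ 0 := by rw [hQb']; exact hQa
  have hmem := reflG_pair_mem_comm Q S.hQ hne (t • b) a hb' hQa hQb'.symm
  have hstab : ∀ w ∈ W, iact (reflG Q a hQa * reflG Q (t • b) hb') w ∈ W := by
    intro w hw
    rw [iact_mul]
    apply refl_stab Q W a ha hQa
    apply refl_stab Q W (t • b) _ hb' w hw
    rcases hb with hb | hb
    · exact Or.inl (W.smul_mem _ hb)
    · exact Or.inr ((orthQ Q W).smul_mem _ hb)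
  have := S.hK _ hmem hstab
  rw [reflG_smul Q b hQb t ht0 hb'] at this
  exact ⟨hQa, hQb, this⟩

/-- a vector of `W ∪ W^⊥` in the class of `c₀` is related to `c₀`. -/
theorem AcSetup.c0 (S : AcSetup Q W K) (c₀ : ι → F) (hc₀ : c₀ ∈ orthQ Q W) (hQc : Q c₀ ≠ 0)
    (x : ι → F) (hx : x ∈ W ∨ x ∈ orthQ Q W)
    (hcls : quadraticChar F (Q x) = quadraticChar F (Q c₀)) : RR Q K x c₀ :=
  S.rr_mem Q x c₀ hx (Or.inr hc₀) (Q_ne_zero_of_char Q hQc hcls) hQc hcls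

/-- moving the `W^⊥`-component, independent case. -/
theorem AcSetup.b1a (S : AcSetup Q W K) (c₀ : ι → F) (hc₀ : c₀ ∈ orthQ Q W) (hQc : Q c₀ ≠ 0)
    (w z ζ : ι → F) (hw : w ∈ W) (hz : z ∈ orthQ Q W) (hζ : ζ ∈ orthQ Q W)
    (hind₁ : ∀ t : F, z ≠ t • ζ) (hind₂ : ∀ t : F, ζ ≠ t • z) (hr : RR Q K (w + z) c₀)
    (hcls : quadraticChar F (Q (w + ζ)) = quadraticChar F (Q c₀)) : RR Q K (w + ζ) c₀ := by
  have hW' : NondegOn Q (orthQ Q W) := nondegOn_orth Q S.hQ W S.hW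
  obtain ⟨κ, hκ⟩ : ∃ κ : F, κ = Q w - Q z + polar (⇑Q) z ζ := ⟨_, rfl⟩
  obtain ⟨d, hdW', hd1, hd2, hQd⟩ := ac_exists_E2 Q S.hQ (orthQ Q W) hW' S.h7 z ζ hz hζ
    hind₁ hind₂ 1 (κ * Q c₀) (Q c₀)
  have hQd0 : Q d ≠ 0 := by rw [hQd]; exact hQc
  have hrd : RR Q K d c₀ := S.rr_mem Q d c₀ (Or.inr hdW') (Or.inr hc₀) hQd0 hQc (by rw [hQd])
  have hQb : Q (w + z) ≠ 0 := by
    obtain ⟨h, -, -⟩ := hr
    exact h
  have hwd : polar (⇑Q) w d = 0 := (mem_orth_iff Q W d).mp hdW' w hw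
  have hwz : polar (⇑Q) w z = 0 := (mem_orth_iff Q W z).mp hz w hw
  have hwζ : polar (⇑Q) w ζ = 0 := (mem_orth_iff Q W ζ).mp hζ w hw
  obtain ⟨b', hb'def⟩ : ∃ b', b' = iact (reflG Q d hQd0) (w + z) := ⟨_, rfl⟩
  have hrb' : RR Q K b' c₀ := by
    rw [hb'def]
    exact RR.refl_closed Q hrd hr hQd0
  have hb'eq : b' = w + z - (Q c₀)⁻¹ • d := by
    rw [hb'def, iact_reflG, polar_add_right, polar_comm (⇑Q) d w, hwd, polar_comm (⇑Q) d z, hd1,
      hQd, zero_add, mul_one]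
  have hQb' : Q b' = Q w + Q z := by
    rw [hb'def, Q_iact, Q_add_of_orth Q w z hw hz]
  have hQb'0 : Q b' ≠ 0 := by
    rw [hb'def, Q_iact]
    exact hQb
  have key : polar (⇑Q) b' (w + ζ) = Q b' := by
    rw [hQb', hb'eq, polar_sub_left, polar_add_left, polar_add_right, polar_add_right,
      polar_smul_left, polar_add_right, polar_self', hwζ, polar_comm (⇑Q) z w, hwz,
      polar_comm (⇑Q) d w, hwd, polar_comm (⇑Q) d ζ, hd2, hκ, smul_eq_mul]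
    field_simp
    ring
  obtain ⟨m, hmdef⟩ : ∃ m, m = iact (reflG Q b' hQb'0) (w + ζ) := ⟨_, rfl⟩
  have hmeq : m = ζ - z + (Q c₀)⁻¹ • d := by
    rw [hmdef, iact_reflG, key, inv_mul_cancel₀ hQb'0, one_smul, hb'eq]
    abel
  have hmW' : m ∈ orthQ Q W := by
    rw [hmeq]
    exact (orthQ Q W).add_mem ((orthQ Q W).sub_mem hζ hz) ((orthQ Q W).smul_mem _ hdW')
  have hrm : RR Q K m c₀ := by
    apply S.c0 Q c₀ hc₀ hQc m (Or.inr hmW')
    rw [hmdef, Q_iact]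
    exact hcls
  have hfin := RR.refl_closed Q hrb' hrm hQb'0
  have e : iact (reflG Q b' hQb'0) m = w + ζ := by
    rw [hmdef, ← iact_mul, reflG_mul_self, iact_one]
  rwa [e] at hfin

/-- a vector of prescribed norm independent of a given nonzero vector. -/
theorem ac_exists_indep_rep (hQ : (polarBilin Q).Nondegenerate)
    (X : Submodule F (ι → F)) (hX : NondegOn Q X) (h7 : 7 ≤ finrank F X)
    (z : ι → F) (hzX : z ∈ X) (hz : z ≠ 0) (c : F) :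
    ∃ z₃ ∈ X, Q z₃ = c ∧ (∀ t : F, z₃ ≠ t • z) ∧ (∀ t : F, z ≠ t • z₃) := by
  obtain ⟨β, hβ⟩ : ∃ β : F, β * β ≠ 4 * c * Q z := by
    by_cases h : 4 * c * Q z = 0
    · exact ⟨1, by rw [h, one_mul]; exact one_ne_zero⟩
    · exact ⟨0, by rw [zero_mul]; exact fun h' => h h'.symm⟩
  obtain ⟨z₃, hz₃X, hz₃1, hz₃c⟩ := ac_exists_E1 Q hQ X hX h7 z hzX hz β c
  have h1 : ∀ t : F, z₃ ≠ t • z := by
    intro t ht
    apply hβ
    rw [← hz₃1, ← hz₃c, ht, polar_smul_right, polar_self', QuadraticMap.map_smul, smul_eq_mul,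
      smul_eq_mul]
    ring
  exact ⟨z₃, hz₃X, hz₃c, h1, ne_smul_symm hz h1⟩

/-- moving the `W^⊥`-component. -/
theorem AcSetup.b1 (S : AcSetup Q W K) (c₀ : ι → F) (hc₀ : c₀ ∈ orthQ Q W) (hQc : Q c₀ ≠ 0)
    (w z ζ : ι → F) (hw : w ∈ W) (hz : z ∈ orthQ Q W) (hz0 : z ≠ 0) (hζ : ζ ∈ orthQ Q W)
    (hr : RR Q K (w + z) c₀)
    (hcls : quadraticChar F (Q (w + ζ)) = quadraticChar F (Q c₀)) : RR Q K (w + ζ) c₀ := by
  have hW' : NondegOn Q (orthQ Q W) := nondegOn_orth Q S.hQ W S.hW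
  by_cases hζ0 : ζ = 0
  · rw [hζ0, add_zero] at hcls ⊢
    exact S.c0 Q c₀ hc₀ hQc w (Or.inl hw) hcls
  by_cases hdep : ∃ t : F, ζ = t • z
  · obtain ⟨z₃, hz₃W', hz₃c, hi1, hi2⟩ := ac_exists_indep_rep Q S.hQ (orthQ Q W) hW' S.h7 z hz
      hz0 (Q ζ)
    have hcls3 : quadraticChar F (Q (w + z₃)) = quadraticChar F (Q c₀) := by
      rw [Q_add_of_orth Q w z₃ hw hz₃W', hz₃c, ← Q_add_of_orth Q w ζ hw hζ]
      exact hcls
    have hr3 := S.b1a Q c₀ hc₀ hQc w z z₃ hw hz hz₃W' hi2 hi1 hr hcls3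
    obtain ⟨t, ht⟩ := hdep
    have ht0 : t ≠ 0 := by
      rintro rfl
      rw [zero_smul] at ht
      exact hζ0 ht
    have hj1 : ∀ s : F, z₃ ≠ s • ζ := by
      intro s hs
      apply hi1 (s * t)
      rw [hs, ht, smul_smul]
    have hj2 : ∀ s : F, ζ ≠ s • z₃ := ne_smul_symm hζ0 hj1
    exact S.b1a Q c₀ hc₀ hQc w z₃ ζ hw hz₃W' hζ hj1 hj2 hr3 hcls
  · push Not at hdep
    exact S.b1a Q c₀ hc₀ hQc w z ζ hw hz hζ (ne_smul_symm hz0 hdep) hdep hr hcls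

end ac3

end Cfsg.Agent.helper13
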