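import Mathlib
import Cfsg.Agent.Lib_helper13_Ac4

/-! Overgroups of the stabiliser of a nondegenerate subspace, all characteristics: a nonzero subspace
of `W` invariant under the reflections and Siegel transformations of `W` is all of `W`, apart from
the hyperbolic planes over the fields with two and three elements. -/

set_option autoImplicit false

namespace Cfsg.Agent.helper13

open Matrix QuadraticMap Module Cfsg.Agent.S0794

section ac5
variable {F : Type*} [Field F] [Fintype F] [DecidableEq F] {ι : Type} [Fintype ι] [DecidableEq ι]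
variable (Q : QuadraticForm F (ι → F))

omit [Fintype F] [DecidableEq F] in
theorem mem_of_refl_mem (T : Submodule F (ι → F)) (a t : ι → F) (hQa : Q a ≠ 0) (ht : t ∈ T)
    (h : iact (reflG Q a hQa) t ∈ T) (hp : polar (⇑Q) a t ≠ 0) : a ∈ T := by
  rw [iact_reflG] at h
  have h3 : ((Q a)⁻¹ * polar (⇑Q) a t) • a ∈ T := by
    have := T.sub_mem ht h
    rwa [sub_sub_cancel] at this
  have hc : (Q a)⁻¹ * polar (⇑Q) a t ≠ 0 := mul_ne_zero (inv_ne_zero hQa) hp
  have := T.smul_mem ((Q a)⁻¹ * polar (⇑Q) a t)⁻¹ h3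
  rwa [smul_smul, inv_mul_cancel₀ hc, one_smul] at this

omit [Fintype F] [DecidableEq F] in
/-- an invariant nonzero subspace contains a nonsingular vector. -/
theorem exists_nonsing_mem (W : Submodule F (ι → F)) (hW : NondegOn Q W)
    (T : Submodule F (ι → F)) (hTW : T ≤ W) (hT0 : T ≠ ⊥)
    (hrefl : ∀ a ∈ W, ∀ hQa : Q a ≠ 0, ∀ t ∈ T, iact (reflG Q a hQa) t ∈ T) :
    ∃ a ∈ T, Q a ≠ 0 := by
  obtain ⟨t, htT, ht0⟩ := Submodule.exists_mem_ne_zero_of_ne_bot hT0
  by_cases hQt : Q t ≠ 0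
  · exact ⟨t, htT, hQt⟩
  push Not at hQt
  obtain ⟨u, huW, hut⟩ : ∃ u ∈ W, polar (⇑Q) u t ≠ 0 := by
    by_contra hcon
    push Not at hcon
    exact ht0 (hW t (hTW htT) hcon)
  obtain ⟨a, haW, hQa, hat⟩ : ∃ a ∈ W, Q a ≠ 0 ∧ polar (⇑Q) a t ≠ 0 := by
    by_cases hQu : Q u = 0
    · refine ⟨u + t, W.add_mem huW (hTW htT), ?_, ?_⟩
      · rw [Q_add_polar, hQu, hQt, zero_add, zero_add]
        exact hut
      · rw [polar_add_left, polar_self', hQt, mul_zero, add_zero]
        exact hut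
    · exact ⟨u, huW, hQu, hut⟩
  exact ⟨a, mem_of_refl_mem Q T a t hQa htT (hrefl a haW hQa t htT) hat, hQa⟩

omit [Fintype F] [DecidableEq F] in
theorem mem_of_polar_ne (W : Submodule F (ι → F)) (T : Submodule F (ι → F))
    (hrefl : ∀ a ∈ W, ∀ hQa : Q a ≠ 0, ∀ t ∈ T, iact (reflG Q a hQa) t ∈ T)
    (a : ι → F) (ha : a ∈ T) (b : ι → F) (hb : b ∈ W) (hQb : Q b ≠ 0)
    (hab : polar (⇑Q) a b ≠ 0) : b ∈ T :=
  mem_of_refl_mem Q T b a hQb ha (hrefl b hb hQb a ha) (by rw [polar_comm]; exact hab)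

omit [DecidableEq F] in
theorem exists_avoid3 (h4 : 4 ≤ Fintype.card F) (a b c : F) : ∃ μ : F, μ ≠ a ∧ μ ≠ b ∧ μ ≠ c := by
  classical
  by_contra hcon
  push Not at hcon
  have hsub : (Finset.univ : Finset F) ⊆ {a, b, c} := by
    intro x _
    simp only [Finset.mem_insert, Finset.mem_singleton]
    by_cases h1 : x = a
    · exact Or.inl h1
    by_cases h3 : x = b
    · exact Or.inr (Or.inl h3)
    exact Or.inr (Or.inr (hcon x h1 h3))
  have h1 := Finset.card_le_card hsub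
  have h3 : ({a, b, c} : Finset F).card ≤ 3 := Finset.card_le_three
  rw [Finset.card_univ] at h1
  omega

omit [DecidableEq F] in
/-- a polynomial of degree at most two with nonzero constant term does not vanish at all nonzero
points of a field with at least four elements. -/
theorem exists_quad_ne (h4 : 4 ≤ Fintype.card F) (A B C : F) (hA : A ≠ 0) :
    ∃ μ : F, μ ≠ 0 ∧ A + B * μ + C * μ * μ ≠ 0 := by
  obtain ⟨m₁, h1, -, -⟩ := exists_avoid3 h4 (0 : F) 0 0
  obtain ⟨m₂, h2, h21, -⟩ := exists_avoid3 h4 (0 : F) m₁ m₁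
  obtain ⟨m₃, h3, h31, h32⟩ := exists_avoid3 h4 (0 : F) m₁ m₂
  by_contra hcon
  push Not at hcon
  have e1 := hcon m₁ h1
  have e2 := hcon m₂ h2
  have e3 := hcon m₃ h3
  have hD : (m₁ - m₂) * (m₁ - m₃) * (m₂ - m₃) ≠ 0 :=
    mul_ne_zero (mul_ne_zero (sub_ne_zero.mpr (Ne.symm h21)) (sub_ne_zero.mpr (Ne.symm h31)))
      (sub_ne_zero.mpr (Ne.symm h32))
  have : A * ((m₁ - m₂) * (m₁ - m₃) * (m₂ - m₃)) = 0 := by
    linear_combination (m₂ * m₃ * (m₂ - m₃)) * e1 - (m₁ * m₃ * (m₁ - m₃)) * e2 +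
      (m₁ * m₂ * (m₁ - m₂)) * e3
  rcases mul_eq_zero.mp this with h | h
  · exact hA h
  · exact hD h

omit [DecidableEq F] in
/-- fields with at least four elements. -/
theorem sub_eq_of_invariant_ge4 (h4 : 4 ≤ Fintype.card F)
    (W : Submodule F (ι → F)) (hW : NondegOn Q W)
    (T : Submodule F (ι → F)) (hTW : T ≤ W) (hT0 : T ≠ ⊥)
    (hrefl : ∀ a ∈ W, ∀ hQa : Q a ≠ 0, ∀ t ∈ T, iact (reflG Q a hQa) t ∈ T) : T = W := by
  obtain ⟨a, haT, hQa⟩ := exists_nonsing_mem Q W hW T hTW hT0 hrefl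
  have haW := hTW haT
  have ha0 : a ≠ 0 := by
    rintro rfl
    exact hQa (map_zero _)
  obtain ⟨u, huW, hua⟩ : ∃ u ∈ W, polar (⇑Q) u a ≠ 0 := by
    by_contra hcon
    push Not at hcon
    exact ha0 (hW a haW hcon)
  obtain ⟨b₀, hb₀W, hQb₀, hab₀⟩ : ∃ b₀ ∈ W, Q b₀ ≠ 0 ∧ polar (⇑Q) a b₀ ≠ 0 := by
    by_cases hQu : Q u ≠ 0
    · exact ⟨u, huW, hQu, by rw [polar_comm]; exact hua⟩
    push Not at hQu
    obtain ⟨μ, hμ0, hμ1, hμ2⟩ := exists_avoid3 h4 (0 : F) (-polar (⇑Q) u a / Q a)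
      (-polar (⇑Q) a u / (2 * Q a))
    refine ⟨u + μ • a, W.add_mem huW (W.smul_mem _ haW), ?_, ?_⟩
    · rw [Q_add_polar, hQu, QuadraticMap.map_smul, polar_smul_right, smul_eq_mul, smul_eq_mul]
      have e : 0 + μ * μ * Q a + μ * polar (⇑Q) u a = μ * (μ * Q a + polar (⇑Q) u a) := by ring
      rw [e]
      apply mul_ne_zero hμ0
      intro h
      apply hμ1
      rw [eq_div_iff hQa]
      linear_combination h
    · rw [polar_add_right, polar_smul_right, polar_self', smul_eq_mul]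
      by_cases h2 : (2 : F) = 0
      · rw [h2, zero_mul, mul_zero, add_zero, polar_comm]
        exact hua
      · intro h
        apply hμ2
        rw [eq_div_iff (mul_ne_zero h2 hQa)]
        linear_combination h
  have hb₀T : b₀ ∈ T := mem_of_polar_ne Q W T hrefl a haT b₀ hb₀W hQb₀ hab₀
  have hperp : ∀ w ∈ W, polar (⇑Q) a w = 0 → w ∈ T := by
    intro w hwW haw
    obtain ⟨μ, hμ0, hμ⟩ := exists_quad_ne h4 (Q b₀) (polar (⇑Q) b₀ w) (Q w) hQb₀
    have hQ' : Q (b₀ + μ • w) ≠ 0 := by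
      rw [Q_add_polar, QuadraticMap.map_smul, polar_smul_right, smul_eq_mul, smul_eq_mul]
      intro h
      apply hμ
      linear_combination h
    have hp' : polar (⇑Q) a (b₀ + μ • w) ≠ 0 := by
      rw [polar_add_right, polar_smul_right, haw, smul_zero, add_zero]
      exact hab₀
    have h1 := mem_of_polar_ne Q W T hrefl a haT (b₀ + μ • w)
      (W.add_mem hb₀W (W.smul_mem _ hwW)) hQ' hp'
    have h3 : μ • w ∈ T := by
      have := T.sub_mem h1 hb₀T
      rwa [add_sub_cancel_left] at this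
    have := T.smul_mem μ⁻¹ h3
    rwa [smul_smul, inv_mul_cancel₀ hμ0, one_smul] at this
  apply le_antisymm hTW
  intro w hwW
  have h1 : w - (polar (⇑Q) a w / polar (⇑Q) a b₀) • b₀ ∈ T := by
    apply hperp _ (W.sub_mem hwW (W.smul_mem _ hb₀W))
    rw [polar_sub_right, polar_smul_right, smul_eq_mul, div_mul_cancel₀ _ hab₀, sub_self]
  have := T.add_mem h1 (T.smul_mem (polar (⇑Q) a w / polar (⇑Q) a b₀) hb₀T)
  rwa [sub_add_cancel] at this

omit [DecidableEq F] in
theorem eq_zero_or_one_of_card (h : Fintype.card F = 2) (z : F) : z = 0 ∨ z = 1 := by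
  classical
  rw [← Finset.card_univ, Finset.card_eq_two] at h
  obtain ⟨x, y, -, huniv⟩ := h
  have mem : ∀ z : F, z = x ∨ z = y := by
    intro z
    have := Finset.mem_univ z
    rw [huniv] at this
    simpa using this
  rcases mem 0 with h0 | h0 <;> rcases mem 1 with h1 | h1 <;> rcases mem z with hz | hz
  · left; rw [hz, ← h0]
  · exact absurd (h0.trans h1.symm) zero_ne_one
  · left; rw [hz, ← h0]
  · right; rw [hz, ← h1]
  · right; rw [hz, ← h1]
  · left; rw [hz, ← h0]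
  · exact absurd (h0.trans h1.symm) zero_ne_one
  · left; rw [hz, ← h0]

omit [Fintype F] [DecidableEq F] in
theorem two_le_finrank_of_singular (W : Submodule F (ι → F)) (hW : NondegOn Q W) (v : ι → F)
    (hvW : v ∈ W) (hv0 : v ≠ 0) (hQv : Q v = 0) : 2 ≤ finrank F W := by
  by_contra hlt
  push Not at hlt
  have hsp : Submodule.span F {v} ≤ W := by
    rw [Submodule.span_singleton_le_iff_mem]
    exact hvW
  have hfr : finrank F (Submodule.span F {v}) = 1 := finrank_span_singleton hv0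
  have heq : Submodule.span F {v} = W :=
    Submodule.eq_of_le_of_finrank_le hsp (by rw [hfr]; omega)
  apply hv0
  apply hW v hvW
  intro u hu
  rw [← heq] at hu
  obtain ⟨t, rfl⟩ := Submodule.mem_span_singleton.mp hu
  rw [polar_smul_left, polar_self', hQv, mul_zero, smul_zero]

omit [Fintype F] [DecidableEq F] in
theorem finrank_le_two_of_perp_singular (hQ : (polarBilin Q).Nondegenerate)
    (W : Submodule F (ι → F)) (hW : NondegOn Q W) (v : ι → F)
    (h : ∀ y ∈ W, polar (⇑Q) v y = 0 → Q y = 0) : finrank F W ≤ 2 := by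
  obtain ⟨M, hMdef⟩ : ∃ M, M = W ⊓ orthQ Q (Submodule.span F {v}) := ⟨_, rfl⟩
  have hMW : M ≤ W := by rw [hMdef]; exact inf_le_left
  have hMs : ∀ y ∈ M, Q y = 0 := by
    intro y hy
    rw [hMdef] at hy
    obtain ⟨hyW, hyo⟩ := Submodule.mem_inf.mp hy
    rw [mem_orth_singleton_iff] at hyo
    exact h y hyW hyo
  have h1 : ¬ finrank F W < 2 * finrank F M := by
    intro h
    obtain ⟨y, hyM, hy⟩ := exists_nonsing_of_finrank Q hQ W hW M hMW h
    exact hy (hMs y hyM)
  have h3 : finrank F W ≤ finrank F M + 1 := by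
    rw [hMdef]
    exact finrank_inf_orth_singleton Q hQ W v
  omega

omit [DecidableEq F] in
/-- the field with two elements. -/
theorem sub_eq_of_invariant_two (h : Fintype.card F = 2) (hQ : (polarBilin Q).Nondegenerate)
    (W : Submodule F (ι → F)) (hW : NondegOn Q W)
    (T : Submodule F (ι → F)) (hTW : T ≤ W) (hT0 : T ≠ ⊥)
    (hrefl : ∀ a ∈ W, ∀ hQa : Q a ≠ 0, ∀ t ∈ T, iact (reflG Q a hQa) t ∈ T)
    (hsie : ∀ (e f : ι → F) (he : Q e = 0) (hf : Q f = 0) (hef : polar (⇑Q) e f = 0), e ∈ W →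
      f ∈ W → ∀ t ∈ T, iact (sieG Q e f he hf hef 1) t ∈ T)
    (hex : ¬ (finrank F W = 2 ∧ ∃ v ∈ W, v ≠ 0 ∧ Q v = 0)) : T = W := by
  have h01 := eq_zero_or_one_of_card h
  have h2 : (2 : F) = 0 := by
    have := FiniteField.cast_card_eq_zero F
    rw [h] at this
    exact_mod_cast this
  have one_of_ne : ∀ z : F, z ≠ 0 → z = 1 := fun z hz => (h01 z).resolve_left hz
  obtain ⟨a, haT, hQa⟩ := exists_nonsing_mem Q W hW T hTW hT0 hrefl
  have haW := hTW haT
  have ha0 : a ≠ 0 := by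
    rintro rfl
    exact hQa (map_zero _)
  -- every nonsingular vector of `W` lies in `T`
  have hN : ∀ b ∈ W, Q b ≠ 0 → b ∈ T := by
    intro b hbW hQb
    by_cases hab : polar (⇑Q) a b ≠ 0
    · exact mem_of_polar_ne Q W T hrefl a haT b hbW hQb hab
    push Not at hab
    by_cases hba : b = a
    · rw [hba]; exact haT
    have hb0 : b ≠ 0 := by
      rintro rfl
      exact hQb (map_zero _)
    have hind₁ : ∀ t : F, a ≠ t • b := by
      intro t ht
      rcases h01 t with rfl | rfl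
      · rw [zero_smul] at ht
        exact ha0 ht
      · rw [one_smul] at ht
        exact hba ht.symm
    have hind₂ : ∀ t : F, b ≠ t • a := by
      intro t ht
      rcases h01 t with rfl | rfl
      · rw [zero_smul] at ht
        exact hb0 ht
      · rw [one_smul] at ht
        exact hba ht
    obtain ⟨p, hpW, hbp, hap⟩ := exists_sep_in Q hQ W hW a b haW hbW hind₁
    obtain ⟨p', hp'W, hap', hbp'⟩ := exists_sep_in Q hQ W hW b a hbW haW hind₂
    have hap1 := one_of_ne _ hap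
    have hbp'1 := one_of_ne _ hbp'
    obtain ⟨c₀, hc₀def⟩ : ∃ c₀, c₀ = p + p' := ⟨_, rfl⟩
    have hc₀W : c₀ ∈ W := by rw [hc₀def]; exact W.add_mem hpW hp'W
    have hac₀ : polar (⇑Q) a c₀ = 1 := by
      rw [hc₀def, polar_add_right, hap1, hap', add_zero]
    have hbc₀ : polar (⇑Q) b c₀ = 1 := by
      rw [hc₀def, polar_add_right, hbp, hbp'1, zero_add]
    by_cases hQc₀ : Q c₀ ≠ 0
    · have hc₀T : c₀ ∈ T := mem_of_polar_ne Q W T hrefl a haT c₀ hc₀W hQc₀
        (by rw [hac₀]; exact one_ne_zero)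
      exact mem_of_polar_ne Q W T hrefl c₀ hc₀T b hbW hQb
        (by rw [polar_comm, hbc₀]; exact one_ne_zero)
    push Not at hQc₀
    have hQa1 := one_of_ne _ hQa
    have hQb1 := one_of_ne _ hQb
    obtain ⟨f, hfdef⟩ : ∃ f, f = c₀ + a + b := ⟨_, rfl⟩
    have hfW : f ∈ W := by rw [hfdef]; exact W.add_mem (W.add_mem hc₀W haW) hbW
    have hQf : Q f = 0 := by
      rw [hfdef, Q_add_polar, Q_add_polar, hQc₀, hQa1, hQb1, polar_add_left,
        polar_comm (⇑Q) c₀ a, hac₀, polar_comm (⇑Q) c₀ b, hbc₀, hab]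
      linear_combination (2 : F) * h2
    have hc₀f : polar (⇑Q) c₀ f = 0 := by
      rw [hfdef, polar_add_right, polar_add_right, polar_self', hQc₀, polar_comm (⇑Q) c₀ a, hac₀,
        polar_comm (⇑Q) c₀ b, hbc₀]
      linear_combination h2
    have hmap := hsie c₀ f hQc₀ hQf hc₀f hc₀W hfW a haT
    have e : iact (sieG Q c₀ f hQc₀ hQf hc₀f 1) a = b := by
      rw [iact_sieG, polar_comm (⇑Q) c₀ a, hac₀, hfdef, polar_add_left, polar_add_left,
        polar_comm (⇑Q) c₀ a, hac₀, polar_self', hQa1, polar_comm (⇑Q) b a, hab]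
      have e2 : ((1 : F) + 2 * 1 + 0) = 1 := by linear_combination h2
      rw [e2, one_smul, one_smul, one_smul]
      have e3 : a + (c₀ + a + b - c₀) = (2 : F) • a + b := by
        rw [two_smul]
        abel
      rw [e3, h2, zero_smul, zero_add]
    rwa [e] at hmap
  apply le_antisymm hTW
  intro w hwW
  by_cases hQw : Q w ≠ 0
  · exact hN w hwW hQw
  push Not at hQw
  by_cases hw0 : w = 0
  · rw [hw0]; exact T.zero_mem
  by_cases hex' : ∃ a' ∈ W, Q a' ≠ 0 ∧ polar (⇑Q) w a' = 0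
  · obtain ⟨a', ha'W, hQa', hwa'⟩ := hex'
    have h1 : w + a' ∈ T := by
      apply hN _ (W.add_mem hwW ha'W)
      rw [Q_add_polar, hQw, hwa', zero_add, add_zero]
      exact hQa'
    have := T.sub_mem h1 (hN a' ha'W hQa')
    rwa [add_sub_cancel_right] at this
  · exfalso
    push Not at hex'
    apply hex
    refine ⟨le_antisymm ?_ (two_le_finrank_of_singular Q W hW w hwW hw0 hQw), w, hwW, hw0, hQw⟩
    apply finrank_le_two_of_perp_singular Q hQ W hW w
    intro y hyW hwy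
    by_contra hQy
    exact hex' y hyW hQy hwy

end ac5

end Cfsg.Agent.helper13
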