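import Mathlib
import Cfsg.Agent.Lib_helper13_Ac5

/-! Overgroups of the stabiliser of a nondegenerate subspace, all characteristics: conclusion. -/

set_option autoImplicit false

namespace Cfsg.Agent.helper13

open Matrix QuadraticMap Module Cfsg.Agent.S0794

section ac6
variable {F : Type*} [Field F] [Fintype F] [DecidableEq F] {ι : Type} [Fintype ι] [DecidableEq ι]
variable (Q : QuadraticForm F (ι → F))

variable {W : Submodule F (ι → F)} {K : Subgroup ↥(Cfsg.isometryGroup F ⇑Q)}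

/-- unless `W` is a hyperbolic plane over a field with at most three elements, one nonzero full vector
makes every vector of `W` full. -/
theorem AcSetup.full_all (S : AcSetup Q W K) (c₀ : ι → F) (hc₀ : c₀ ∈ orthQ Q W) (hQc : Q c₀ ≠ 0)
    (hex : ¬ (Fintype.card F ≤ 3 ∧ finrank F W = 2 ∧ ∃ v ∈ W, v ≠ 0 ∧ Q v = 0))
    (w₀ : ι → F) (hw₀ : w₀ ∈ W) (hw₀0 : w₀ ≠ 0) (hF : Full Q W K c₀ w₀) :
    ∀ w ∈ W, Full Q W K c₀ w := by
  obtain ⟨T, hTdef⟩ : ∃ T, T = acFullSub Q S c₀ hc₀ hQc := ⟨_, rfl⟩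
  have hmemT : ∀ w, w ∈ T ↔ w ∈ W ∧ Full Q W K c₀ w := by
    intro w
    rw [hTdef]
    exact mem_acFullSub Q S c₀ hc₀ hQc w
  have hTW : T ≤ W := fun w hw => ((hmemT w).mp hw).1
  have hw₀T : w₀ ∈ T := (hmemT w₀).mpr ⟨hw₀, hF⟩
  have hT0 : T ≠ ⊥ := by
    intro h
    rw [h, Submodule.mem_bot] at hw₀T
    exact hw₀0 hw₀T
  have hW0 : W ≠ ⊥ := by
    intro h
    rw [h, Submodule.mem_bot] at hw₀
    exact hw₀0 hw₀
  have hrefl : ∀ a ∈ W, ∀ hQa : Q a ≠ 0, ∀ t ∈ T, iact (reflG Q a hQa) t ∈ T := by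
    intro a haW hQa t htT
    obtain ⟨htW, htF⟩ := (hmemT t).mp htT
    exact (hmemT _).mpr ⟨refl_mem Q W a haW hQa t htW,
      S.full_refl Q c₀ hc₀ hQc a haW hQa t htW htF⟩
  have hTeq : T = W := by
    by_cases h2c : Fintype.card F = 2
    · apply sub_eq_of_invariant_two Q h2c S.hQ W S.hW T hTW hT0 hrefl
      · intro e f he hf hef heW hfW t htT
        obtain ⟨htW, htF⟩ := (hmemT t).mp htT
        have hst : ∀ w ∈ W, iact (sieG Q e f he hf hef 1) w ∈ W := by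
          intro w hw
          rw [iact_sieG]
          exact W.add_mem hw (W.smul_mem _ (W.sub_mem (W.smul_mem _ hfW) (W.smul_mem _ heW)))
        have hcomm : sieG Q e f he hf hef 1 ∈ commutator ↥(Cfsg.isometryGroup F ⇑Q) := by
          have h1 := sieG_mem_comm_Sg Q S.hQ (by have := S.hn; omega) e f he hf hef 1
          rw [commutator_def]
          exact Subgroup.commutator_mono le_top le_top h1
        have hK := S.hK _ hcomm hst
        exact (hmemT _).mpr ⟨hst t htW, S.full_stab Q c₀ hc₀ hQc _ hK hst t htF⟩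
      · rintro ⟨h22, hv⟩
        exact hex ⟨by omega, h22, hv⟩
    by_cases h3c : Fintype.card F = 3
    · have h2 : (2 : F) ≠ 0 := by
        intro h2
        haveI : CharP F 2 := CharTwo.of_one_ne_zero_of_two_eq_zero one_ne_zero h2
        have := FiniteField.even_card_of_char_two (F := F) (ringChar.eq F 2)
        omega
      have hcov : ∀ x ∈ W, Q x ≠ 0 → x ∈ T ∨ x ∈ W ⊓ orthQ Q T := by
        intro x hxW hQx
        by_cases hxo : x ∈ orthQ Q T
        · exact Or.inr (Submodule.mem_inf.mpr ⟨hxW, hxo⟩)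
        left
        rw [mem_orth_iff] at hxo
        push Not at hxo
        obtain ⟨t, htT, htx⟩ := hxo
        exact mem_of_refl_mem Q T x t hQx htT (hrefl x hxW hQx t htT)
          (by rw [polar_comm]; exact htx)
      by_contra hTne
      by_cases hBeq : W ⊓ orthQ Q T = W
      · apply hw₀0
        apply S.hW w₀ hw₀
        intro u hu
        rw [← hBeq] at hu
        rw [polar_comm]
        exact (mem_orth_iff Q T u).mp (Submodule.mem_inf.mp hu).2 w₀ hw₀T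
      · obtain ⟨h3, h22, hv⟩ := sym_exception Q h2 S.hQ W S.hW hW0 T (W ⊓ orthQ Q T) hTW
          inf_le_left hcov hTne hBeq
        exact hex ⟨by omega, h22, hv⟩
    · have h1 : 1 < Fintype.card F := Fintype.one_lt_card
      exact sub_eq_of_invariant_ge4 Q (by omega) W S.hW T hTW hT0 hrefl
  intro w hw
  rw [← hTeq] at hw
  exact ((hmemT w).mp hw).2

/-- every vector in the class of `c₀` is related to `c₀`, once some vector outside `W ∪ W^⊥` is. -/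
theorem AcSetup.all_rr (S : AcSetup Q W K) (c₀ : ι → F) (hc₀ : c₀ ∈ orthQ Q W) (hQc : Q c₀ ≠ 0)
    (hex : ¬ (Fintype.card F ≤ 3 ∧ finrank F W = 2 ∧ ∃ v ∈ W, v ≠ 0 ∧ Q v = 0))
    (y : ι → F) (hyW : y ∉ W) (hyW' : y ∉ orthQ Q W) (hr : RR Q K y c₀) (x : ι → F)
    (hcls : quadraticChar F (Q x) = quadraticChar F (Q c₀)) : RR Q K x c₀ := by
  have hcompl := isCompl_orth Q S.hQ W S.hW
  have hdec : ∀ u : ι → F, ∃ w ∈ W, ∃ z ∈ orthQ Q W, w + z = u := by
    intro u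
    have hu : u ∈ W ⊔ orthQ Q W := by
      rw [hcompl.sup_eq_top]
      exact Submodule.mem_top
    exact Submodule.mem_sup.mp hu
  obtain ⟨w₀, hw₀, z₀, hz₀, hy⟩ := hdec y
  have hw₀0 : w₀ ≠ 0 := by
    rintro rfl
    rw [zero_add] at hy
    rw [← hy] at hyW'
    exact hyW' hz₀
  have hz₀0 : z₀ ≠ 0 := by
    rintro rfl
    rw [add_zero] at hy
    rw [← hy] at hyW
    exact hyW hw₀
  rw [← hy] at hr
  have hF₀ := S.full_of_rr Q c₀ hc₀ hQc w₀ z₀ hw₀ hz₀ hz₀0 hr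
  have hall := S.full_all Q c₀ hc₀ hQc hex w₀ hw₀ hw₀0 hF₀
  obtain ⟨w, hw, z, hz, hx⟩ := hdec x
  rw [← hx] at hcls ⊢
  exact hall w hw z hz hcls

/-- vectors of `gW ∪ gW^⊥` in the same square class are related, for `g ∈ K`. -/
theorem AcSetup.rr_gmap (S : AcSetup Q W K) (g : ↥(Cfsg.isometryGroup F ⇑Q)) (hg : g ∈ K)
    (x a : ι → F) (hx : x ∈ gmap g W ∨ x ∈ gmap g (orthQ Q W))
    (ha : a ∈ gmap g W ∨ a ∈ gmap g (orthQ Q W)) (hQx : Q x ≠ 0) (hQa : Q a ≠ 0)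
    (hχ : quadraticChar F (Q x) = quadraticChar F (Q a)) : RR Q K x a := by
  have hx' : ∃ u, (u ∈ W ∨ u ∈ orthQ Q W) ∧ iact g u = x := by
    rcases hx with hx | hx
    · obtain ⟨u, hu, hux⟩ := (mem_gmap g W x).mp hx
      exact ⟨u, Or.inl hu, hux⟩
    · obtain ⟨u, hu, hux⟩ := (mem_gmap g _ x).mp hx
      exact ⟨u, Or.inr hu, hux⟩
  have ha' : ∃ u, (u ∈ W ∨ u ∈ orthQ Q W) ∧ iact g u = a := by
    rcases ha with ha | ha
    · obtain ⟨u, hu, hua⟩ := (mem_gmap g W a).mp ha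
      exact ⟨u, Or.inl hu, hua⟩
    · obtain ⟨u, hu, hua⟩ := (mem_gmap g _ a).mp ha
      exact ⟨u, Or.inr hu, hua⟩
  obtain ⟨u, hu, rfl⟩ := hx'
  obtain ⟨u', hu', rfl⟩ := ha'
  rw [Q_iact] at hQx hQa hχ
  rw [Q_iact] at hχ
  exact rr_conj Q g hg (S.rr_mem Q u u' hu hu' hQx hQa hχ)

/-- first case: a nonsingular vector of `gW ∪ gW^⊥` outside `W ∪ W^⊥`. -/
theorem AcSetup.stepA1 (S : AcSetup Q W K) (g : ↥(Cfsg.isometryGroup F ⇑Q)) (hg : g ∈ K)
    (x : ι → F) (hx : x ∈ gmap g W ∨ x ∈ gmap g (orthQ Q W)) (hQx : Q x ≠ 0) (hxW : x ∉ W)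
    (hxW' : x ∉ orthQ Q W) :
    ∃ (a : ι → F) (hQa : Q a ≠ 0), RR Q K x a ∧
      ¬ (∀ w ∈ W, iact (reflG Q x hQx * reflG Q a hQa) w ∈ W) := by
  have hW' : NondegOn Q (orthQ Q W) := nondegOn_orth Q S.hQ W S.hW
  have h7 := S.h7
  obtain ⟨X', hX'def⟩ : ∃ X', X' = gmap g (orthQ Q W) := ⟨_, rfl⟩
  have hX'nd : NondegOn Q X' := by rw [hX'def]; exact nondegOn_gmap Q g _ hW'
  have hX'7 : 7 ≤ finrank F X' := by rw [hX'def, finrank_gmap]; exact h7
  have hXo : orthQ Q X' = gmap g W := by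
    rw [hX'def, ← gmap_orth, orth_orth Q S.hQ]
  by_cases hall : ∀ a ∈ X', ∀ (hQa : Q a ≠ 0), Q a = Q x →
      ∀ w ∈ W, iact (reflG Q x hQx * reflG Q a hQa) w ∈ W
  · -- then `W^⊥ ∩ x^⊥` lies in `gW`
    have hle : ∀ u ∈ orthQ Q W, polar (⇑Q) x u = 0 → u ∈ gmap g W := by
      intro u hu hxu
      rw [← hXo, mem_orth_iff]
      intro v hv
      obtain ⟨a, haX', b, hbX', hQa, hQb, hvab⟩ :=
        ac_exists_sum_two Q S.hQ X' hX'nd hX'7 (Q x) v hv
      have hQa0 : Q a ≠ 0 := by rw [hQa]; exact hQx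
      have hQb0 : Q b ≠ 0 := by rw [hQb]; exact hQx
      rw [hvab, polar_add_left,
        polar_eq_zero_of_stab Q W x a hQx hQa0 hxW hxW' (hall a haX' hQa0 hQa) u hu hxu,
        polar_eq_zero_of_stab Q W x b hQx hQb0 hxW hxW' (hall b hbX' hQb0 hQb) u hu hxu, add_zero]
    have hfr := finrank_inf_orth_singleton Q S.hQ (orthQ Q W) x
    obtain ⟨x₂, hx₂M, hQx₂⟩ := ac_exists_rep Q S.hQ (orthQ Q W) hW'
      (orthQ Q W ⊓ orthQ Q (Submodule.span F {x})) inf_le_left (by omega) (Q x)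
    obtain ⟨hx₂W', hx₂o⟩ := Submodule.mem_inf.mp hx₂M
    rw [mem_orth_singleton_iff] at hx₂o
    have hQx₂0 : Q x₂ ≠ 0 := by rw [hQx₂]; exact hQx
    refine ⟨x₂, hQx₂0, S.rr_gmap Q g hg x x₂ hx (Or.inl (hle x₂ hx₂W' hx₂o)) hQx hQx₂0
      (by rw [hQx₂]), ?_⟩
    intro hst
    have hx' : x ∈ W ∨ x ∈ orthQ Q W := by
      apply refl_stab_conv Q W x hQx
      intro w hw
      have h5 := hst _ (refl_stab Q W x₂ (Or.inr hx₂W') hQx₂0 w hw)
      rwa [iact_mul, ← iact_mul (reflG Q x₂ hQx₂0), reflG_mul_self, iact_one] at h5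
    rcases hx' with h | h
    · exact hxW h
    · exact hxW' h
  · push Not at hall
    obtain ⟨a, haX', hQa, hQax, hnot⟩ := hall
    refine ⟨a, hQa, S.rr_gmap Q g hg x a hx (Or.inr (by rw [← hX'def]; exact haX')) hQx hQa
      (by rw [hQax]), ?_⟩
    push Not
    exact hnot

/-- second case: all nonsingular vectors of `gW ∪ gW^⊥` lie in `W ∪ W^⊥`; impossible. -/
theorem AcSetup.stepA2 (S : AcSetup Q W K) (g : ↥(Cfsg.isometryGroup F ⇑Q))
    (hgW : ¬ (∀ w ∈ W, iact g w ∈ W))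
    (hns : gmap g W ≠ orthQ Q W)
    (hall : ∀ x : ι → F, (x ∈ gmap g W ∨ x ∈ gmap g (orthQ Q W)) → Q x ≠ 0 →
      x ∈ W ∨ x ∈ orthQ Q W) : False := by
  have hW' : NondegOn Q (orthQ Q W) := nondegOn_orth Q S.hQ W S.hW
  have h7 := S.h7
  obtain ⟨X', hX'def⟩ : ∃ X', X' = gmap g (orthQ Q W) := ⟨_, rfl⟩
  have hX'nd : NondegOn Q X' := by rw [hX'def]; exact nondegOn_gmap Q g _ hW'
  have hX'fr : finrank F X' = finrank F (orthQ Q W) := by rw [hX'def, finrank_gmap]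
  have hX'7 : 7 ≤ finrank F X' := by rw [hX'fr]; exact h7
  have hXo : orthQ Q X' = gmap g W := by
    rw [hX'def, ← gmap_orth, orth_orth Q S.hQ]
  have hbot : ∀ u, u ∈ W → u ∈ orthQ Q W → u = 0 := by
    intro u hu hu'
    have : u ∈ W ⊓ orthQ Q W := Submodule.mem_inf.mpr ⟨hu, hu'⟩
    rwa [inf_orth_self_eq_bot Q W S.hW, Submodule.mem_bot] at this
  by_cases h1' : X' ≤ orthQ Q W
  · have heq : X' = orthQ Q W := Submodule.eq_of_le_of_finrank_eq h1' hX'fr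
    apply hgW
    intro w hw
    have : iact g w ∈ gmap g W := (mem_gmap g W _).mpr ⟨w, hw, rfl⟩
    rwa [← hXo, heq, orth_orth Q S.hQ] at this
  by_cases h1 : X' ≤ W
  · by_cases heq : X' = W
    · apply hns
      rw [← hXo, heq]
    · obtain ⟨w₁, hw₁W, hw₁⟩ : ∃ w₁ ∈ W, w₁ ∉ X' := by
        by_contra hcon
        push Not at hcon
        exact heq (le_antisymm h1 hcon)
      have hcompl := isCompl_orth Q S.hQ X' hX'nd
      have hw₁' : w₁ ∈ X' ⊔ orthQ Q X' := by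
        rw [hcompl.sup_eq_top]
        exact Submodule.mem_top
      obtain ⟨p, hp, b, hb, hpb⟩ := Submodule.mem_sup.mp hw₁'
      have hbW : b ∈ W := by
        have : b = w₁ - p := by rw [← hpb]; abel
        rw [this]
        exact W.sub_mem hw₁W (h1 hp)
      have hb0 : b ≠ 0 := by
        rintro rfl
        rw [add_zero] at hpb
        rw [← hpb] at hw₁
        exact hw₁ hp
      have hW'X : orthQ Q W ≤ orthQ Q X' :=
        LinearMap.BilinForm.orthogonal_le (B := polarBilin Q) h1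
      obtain ⟨x₁, hx₁W', hx₁0, hQx₁⟩ := ac_exists_rep_ne Q S.hQ (orthQ Q W) hW' (orthQ Q W)
        le_rfl (by omega) (1 - Q b)
      have hmem : x₁ + b ∈ gmap g W := by
        rw [← hXo]
        exact (orthQ Q X').add_mem (hW'X hx₁W') hb
      have hQ1 : Q (x₁ + b) ≠ 0 := by
        rw [add_comm, Q_add_of_orth Q b x₁ hbW hx₁W', hQx₁]
        intro h
        have : (1 : F) = 0 := by linear_combination h
        exact one_ne_zero this
      rcases hall (x₁ + b) (Or.inl hmem) hQ1 with h | h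
      · apply hx₁0
        apply hbot x₁ _ hx₁W'
        have := W.sub_mem h hbW
        rwa [add_sub_cancel_right] at this
      · apply hb0
        apply hbot b hbW
        have := (orthQ Q W).sub_mem h hx₁W'
        rwa [add_sub_cancel_left] at this
  · obtain ⟨y, hyX', hQy, hyW, hyW'⟩ := ac_exists_mix Q S.hQ W X' hX'nd hX'7 h1 h1' 1
    have hQy0 : Q y ≠ 0 := by rw [hQy]; exact one_ne_zero
    rcases hall y (Or.inr (by rw [← hX'def]; exact hyX')) hQy0 with h | h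
    · exact hyW h
    · exact hyW' h

/-- an element of `K` moving `W` yields a product of two reflections in `K` moving `W`. -/
theorem AcSetup.stepA (S : AcSetup Q W K) (g : ↥(Cfsg.isometryGroup F ⇑Q)) (hg : g ∈ K)
    (hgW : ¬ (∀ w ∈ W, iact g w ∈ W)) (hns : gmap g W ≠ orthQ Q W) :
    ∃ (x a : ι → F) (hQx : Q x ≠ 0) (hQa : Q a ≠ 0), RR Q K x a ∧
      ¬ (∀ w ∈ W, iact (reflG Q x hQx * reflG Q a hQa) w ∈ W) := by
  by_cases h : ∃ x : ι → F, (x ∈ gmap g W ∨ x ∈ gmap g (orthQ Q W)) ∧ Q x ≠ 0 ∧ x ∉ W ∧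
      x ∉ orthQ Q W
  · obtain ⟨x, hx, hQx, hxW, hxW'⟩ := h
    obtain ⟨a, hQa, hr, hnot⟩ := S.stepA1 Q g hg x hx hQx hxW hxW'
    exact ⟨x, a, hQx, hQa, hr, hnot⟩
  · exfalso
    push Not at h
    apply S.stepA2 Q g hgW hns
    intro x hx hQx
    by_cases hxW : x ∈ W
    · exact Or.inl hxW
    · exact Or.inr (h x hx hQx hxW)

/-- a product of two reflections in `K` moving `W` links, for every nonzero norm, a vector of `W^⊥` to
a vector outside `W ∪ W^⊥`. -/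
theorem AcSetup.stepA3 (S : AcSetup Q W K) (x a : ι → F) (hQx : Q x ≠ 0) (hQa : Q a ≠ 0)
    (hr : RR Q K x a) (hnot : ¬ (∀ w ∈ W, iact (reflG Q x hQx * reflG Q a hQa) w ∈ W))
    (c : F) (hc : c ≠ 0) :
    ∃ c₀ ∈ orthQ Q W, Q c₀ = c ∧ ∃ y, y ∉ W ∧ y ∉ orthQ Q W ∧ RR Q K y c₀ := by
  have hW' : NondegOn Q (orthQ Q W) := nondegOn_orth Q S.hQ W S.hW
  have h7 := S.h7
  obtain ⟨g', hg'def⟩ : ∃ g', g' = reflG Q x hQx * reflG Q a hQa := ⟨_, rfl⟩
  have hg' : g' ∈ K := by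
    obtain ⟨_, _, hm⟩ := hr
    rw [hg'def]
    exact hm
  rw [← hg'def] at hnot
  have hf1 := finrank_inf_orth_singleton Q S.hQ (orthQ Q W) x
  have hf3 := finrank_inf_orth_singleton Q S.hQ (orthQ Q W ⊓ orthQ Q (Submodule.span F {x})) a
  obtain ⟨c₀, hc₀T, hQc₀⟩ := ac_exists_rep Q S.hQ (orthQ Q W) hW'
    (orthQ Q W ⊓ orthQ Q (Submodule.span F {x}) ⊓ orthQ Q (Submodule.span F {a}))
    (le_trans inf_le_left inf_le_left) (by omega) c
  obtain ⟨hc₀T', hc₀a⟩ := Submodule.mem_inf.mp hc₀T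
  obtain ⟨hc₀W', hc₀x⟩ := Submodule.mem_inf.mp hc₀T'
  rw [mem_orth_singleton_iff] at hc₀a hc₀x
  have hfix : iact g' c₀ = c₀ := by
    rw [hg'def, iact_mul, iact_reflG_of_polar Q a hQa c₀ hc₀a, iact_reflG_of_polar Q x hQx c₀ hc₀x]
  have hQc₀0 : Q c₀ ≠ 0 := by rw [hQc₀]; exact hc
  have hc₀0 : c₀ ≠ 0 := by
    rintro rfl
    exact hQc₀0 (map_zero _)
  obtain ⟨X₂, hX₂def⟩ : ∃ X₂, X₂ = gmap g' (orthQ Q W) := ⟨_, rfl⟩
  have hX₂nd : NondegOn Q X₂ := by rw [hX₂def]; exact nondegOn_gmap Q g' _ hW'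
  have hX₂fr : finrank F X₂ = finrank F (orthQ Q W) := by rw [hX₂def, finrank_gmap]
  have h1' : ¬ X₂ ≤ orthQ Q W := by
    intro hle
    have heq : X₂ = orthQ Q W := Submodule.eq_of_le_of_finrank_eq hle hX₂fr
    apply hnot
    intro w hw
    rw [← orth_orth Q S.hQ W, mem_orth_iff]
    intro z hz
    rw [← heq, hX₂def] at hz
    obtain ⟨z', hz', rfl⟩ := (mem_gmap g' _ z).mp hz
    rw [polar_iact, polar_comm]
    exact (mem_orth_iff Q W z').mp hz' w hw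
  have h1 : ¬ X₂ ≤ W := by
    intro hle
    have hmem : c₀ ∈ X₂ := by
      rw [hX₂def]
      exact (mem_gmap g' _ c₀).mpr ⟨c₀, hc₀W', hfix⟩
    have : c₀ ∈ W ⊓ orthQ Q W := Submodule.mem_inf.mpr ⟨hle hmem, hc₀W'⟩
    rw [inf_orth_self_eq_bot Q W S.hW, Submodule.mem_bot] at this
    exact hc₀0 this
  obtain ⟨y, hyX₂, hQy, hyW, hyW'⟩ := ac_exists_mix Q S.hQ W X₂ hX₂nd (by rw [hX₂fr]; exact h7)
    h1 h1' c
  rw [hX₂def] at hyX₂
  obtain ⟨y₀, hy₀W', rfl⟩ := (mem_gmap g' _ y).mp hyX₂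
  rw [Q_iact] at hQy
  have hr₀ : RR Q K y₀ c₀ := S.rr_mem Q y₀ c₀ (Or.inr hy₀W') (Or.inr hc₀W') (by rw [hQy]; exact hc)
    hQc₀0 (by rw [hQy, hQc₀])
  have hr₁ := rr_conj Q g' hg' hr₀
  rw [hfix] at hr₁
  exact ⟨c₀, hc₀W', hQc₀, iact g' y₀, hyW, hyW', hr₁⟩

/-- a subgroup containing the stabiliser of `W` in the commutator subgroup and an element moving `W`
(and not interchanging `W` and `W^⊥`) contains the commutator subgroup. -/
theorem ac_max (S : AcSetup Q W K)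
    (hex : ¬ (Fintype.card F ≤ 3 ∧ finrank F W = 2 ∧ ∃ v ∈ W, v ≠ 0 ∧ Q v = 0))
    (g : ↥(Cfsg.isometryGroup F ⇑Q)) (hg : g ∈ K) (hgW : ¬ (∀ w ∈ W, iact g w ∈ W))
    (hns : gmap g W ≠ orthQ Q W) : commutator ↥(Cfsg.isometryGroup F ⇑Q) ≤ K := by
  have hne : Fintype.card F ≠ 2 ∨ Fintype.card ι ≠ 4 := Or.inr (by have := S.hn; omega)
  obtain ⟨x, a, hQx, hQa, hr, hnot⟩ := S.stepA Q g hg hgW hns
  apply comm_le_of_eq_pairs Q S.hQ hne K
  intro u v hu hv huv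
  obtain ⟨c₀, hc₀W', hQc₀, y, hyW, hyW', hry⟩ := S.stepA3 Q x a hQx hQa hr hnot (Q u) hu
  have hQc₀0 : Q c₀ ≠ 0 := by rw [hQc₀]; exact hu
  have hru := S.all_rr Q c₀ hc₀W' hQc₀0 hex y hyW hyW' hry u (by rw [hQc₀])
  have hrv := S.all_rr Q c₀ hc₀W' hQc₀0 hex y hyW hyW' hry v (by rw [hQc₀, huv])
  obtain ⟨_, _, hm⟩ := RR.trans Q hru (RR.symm Q hrv)
  exact hm

/-- the stabiliser of a nondegenerate subspace with large orthogonal complement is maximal in `Ω`. -/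
theorem ac_isMaximalIn (hQ : (polarBilin Q).Nondegenerate)
    (hn : 13 ≤ Fintype.card ι) (W : Submodule F (ι → F)) (hW : NondegOn Q W) (hW0 : W ≠ ⊥)
    (h7 : 7 ≤ finrank F (orthQ Q W))
    (hex : ¬ (Fintype.card F ≤ 3 ∧ finrank F W = 2 ∧ ∃ v ∈ W, v ≠ 0 ∧ Q v = 0))
    (hns : ∀ g : ↥(Cfsg.isometryGroup F ⇑Q), gmap g W ≠ orthQ Q W) :
    Cfsg.Geo.IsMaximalIn (Cfsg.Geo.omegaGL ⇑Q)
      (Cfsg.Geo.subspaceStabilizer W ⊓ Cfsg.Geo.omegaGL ⇑Q) := by
  classical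
  have hne : Fintype.card F ≠ 2 ∨ Fintype.card ι ≠ 4 := Or.inr (by omega)
  have hW' : NondegOn Q (orthQ Q W) := nondegOn_orth Q hQ W hW
  have hbot : ∀ u, u ∈ W → u ∈ orthQ Q W → u = 0 := by
    intro u hu hu'
    have : u ∈ W ⊓ orthQ Q W := Submodule.mem_inf.mpr ⟨hu, hu'⟩
    rwa [inf_orth_self_eq_bot Q W hW, Submodule.mem_bot] at this
  constructor
  · apply inf_omega_lt_omega Q
    obtain ⟨w, hwW, hw0⟩ := Submodule.exists_mem_ne_zero_of_ne_bot hW0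
    obtain ⟨z, hzW', hz0, hQz⟩ := ac_exists_rep_ne Q hQ (orthQ Q W) hW' (orthQ Q W) le_rfl
      (by omega) (1 - Q w)
    obtain ⟨x, hxdef⟩ : ∃ x, x = w + z := ⟨_, rfl⟩
    have hQx : Q x = 1 := by
      rw [hxdef, Q_add_of_orth Q w z hwW hzW', hQz]
      ring
    have hQx0 : Q x ≠ 0 := by rw [hQx]; exact one_ne_zero
    have hxW : x ∉ W := by
      intro h
      apply hz0
      apply hbot z _ hzW'
      have := W.sub_mem h hwW
      rwa [hxdef, add_sub_cancel_left] at this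
    have hxW' : x ∉ orthQ Q W := by
      intro h
      apply hw0
      apply hbot w hwW
      have := (orthQ Q W).sub_mem h hzW'
      rwa [hxdef, add_sub_cancel_right] at this
    have hfr := finrank_inf_orth_singleton Q hQ (orthQ Q W) x
    obtain ⟨x₂, hx₂M, hQx₂⟩ := ac_exists_rep Q hQ (orthQ Q W) hW'
      (orthQ Q W ⊓ orthQ Q (Submodule.span F {x})) inf_le_left (by omega) (Q x)
    obtain ⟨hx₂W', -⟩ := Submodule.mem_inf.mp hx₂M
    have hQx₂0 : Q x₂ ≠ 0 := by rw [hQx₂]; exact hQx0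
    refine ⟨reflG Q x hQx0 * reflG Q x₂ hQx₂0,
      reflG_pair_mem_comm Q hQ hne x₂ x hQx₂0 hQx0 hQx₂.symm, ?_⟩
    rw [mem_subspaceStabilizer_iff]
    intro hst
    have hst' : ∀ w ∈ W, iact (reflG Q x hQx0 * reflG Q x₂ hQx₂0) w ∈ W := by
      intro u hu
      rw [← hst]
      exact (mem_gmap _ W _).mpr ⟨u, hu, rfl⟩
    have hx' : x ∈ W ∨ x ∈ orthQ Q W := by
      apply refl_stab_conv Q W x hQx0
      intro u hu
      have h5 := hst' _ (refl_stab Q W x₂ (Or.inr hx₂W') hQx₂0 u hu)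
      rwa [iact_mul, ← iact_mul (reflG Q x₂ hQx₂0), reflG_mul_self, iact_one] at h5
    rcases hx' with h | h
    · exact hxW h
    · exact hxW' h
  · intro M hPM hMΩ
    obtain ⟨K, hKdef⟩ : ∃ K : Subgroup ↥(Cfsg.isometryGroup F ⇑Q),
        K = M.comap (Cfsg.isometryGroup F ⇑Q).subtype := ⟨_, rfl⟩
    have hmemK : ∀ k : ↥(Cfsg.isometryGroup F ⇑Q), k ∈ K ↔ (k : GL ι F) ∈ M := by
      intro k
      rw [hKdef, Subgroup.mem_comap]
      rfl
    have hS : AcSetup Q W K := by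
      refine ⟨hQ, hn, hW, h7, ?_⟩
      intro h hh hst
      rw [hmemK]
      apply hPM
      refine Subgroup.mem_inf.mpr ⟨(mem_subspaceStabilizer_iff Q h _).mpr ?_,
        (mem_omegaGL Q _).mpr ⟨h, hh, rfl⟩⟩
      apply gmap_eq_of_le
      intro u hu
      obtain ⟨u', hu', rfl⟩ := (mem_gmap h W u).mp hu
      exact hst u' hu'
    by_cases hall : ∀ g ∈ K, gmap g W = W
    · left
      apply le_antisymm _ hPM
      intro x hx
      obtain ⟨h, hh, rfl⟩ := (mem_omegaGL Q x).mp (hMΩ hx)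
      exact Subgroup.mem_inf.mpr ⟨(mem_subspaceStabilizer_iff Q h _).mpr
        (hall h ((hmemK h).mpr hx)), hMΩ hx⟩
    · right
      push Not at hall
      obtain ⟨g, hgK, hg⟩ := hall
      have hgW : ¬ (∀ w ∈ W, iact g w ∈ W) := by
        intro hst
        apply hg
        apply gmap_eq_of_le
        intro u hu
        obtain ⟨u', hu', rfl⟩ := (mem_gmap g W u).mp hu
        exact hst u' hu'
      have hle := ac_max Q hS hex g hgK hgW (hns g)
      apply le_antisymm hMΩ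
      intro x hx
      obtain ⟨h, hh, rfl⟩ := (mem_omegaGL Q x).mp hx
      exact (hmemK h).mp (hle hh)

/-- the stabiliser of a nondegenerate proper nonzero subspace is maximal in `Ω`, in dimension at least
thirteen, apart from hyperbolic planes over the field with three elements and the case of a subspace
isometric to its orthogonal complement. -/
theorem ac_isMaximalIn' (hQ : (polarBilin Q).Nondegenerate)
    (hn : 13 ≤ Fintype.card ι) (W : Submodule F (ι → F)) (hW : NondegOn Q W) (hW0 : W ≠ ⊥)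
    (hW'0 : orthQ Q W ≠ ⊥)
    (hex : ¬ (Fintype.card F ≤ 3 ∧ finrank F W = 2 ∧ ∃ v ∈ W, v ≠ 0 ∧ Q v = 0))
    (hex' : ¬ (Fintype.card F ≤ 3 ∧ finrank F (orthQ Q W) = 2 ∧
      ∃ v ∈ orthQ Q W, v ≠ 0 ∧ Q v = 0))
    (hns : ∀ g : ↥(Cfsg.isometryGroup F ⇑Q), gmap g W ≠ orthQ Q W) :
    Cfsg.Geo.IsMaximalIn (Cfsg.Geo.omegaGL ⇑Q)
      (Cfsg.Geo.subspaceStabilizer W ⊓ Cfsg.Geo.omegaGL ⇑Q) := by
  classical
  have hsum := finrank_add_finrank_orth Q hQ W
  by_cases h7 : 7 ≤ finrank F (orthQ Q W)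
  · exact ac_isMaximalIn Q hQ hn W hW hW0 h7 hex hns
  · rw [← stabilizer_orth_inf Q hQ W]
    apply ac_isMaximalIn Q hQ hn (orthQ Q W) (nondegOn_orth Q hQ W hW) hW'0
      (by rw [orth_orth Q hQ]; omega) hex'
    intro g hg
    rw [orth_orth Q hQ] at hg
    apply hns g
    have := congrArg (orthQ Q) hg
    rw [← gmap_orth, orth_orth Q hQ] at this
    exact this

end ac6

end Cfsg.Agent.helper13
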