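import Mathlib
import Cfsg.Agent.Lib_helper13_Ac6

/-! A nondegenerate subspace of even dimension mapped onto its orthogonal complement by an isometry:
the whole space then carries a totally singular subspace of half its dimension. -/

set_option autoImplicit false

namespace Cfsg.Agent.helper13

open Matrix QuadraticMap Module

section ac7
variable {F : Type*} [Field F] [Fintype F] {ι : Type} [Fintype ι] [DecidableEq ι]
variable (Q : QuadraticForm F (ι → F))

omit [Fintype F] in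
/-- the inductive step: two further singular vectors. -/
theorem swap_step (g : ↥(Cfsg.isometryGroup F ⇑Q)) (A A₂ P : Submodule F (ι → F))
    (hA₂A : A₂ ≤ A) (hPA : P ≤ A)
    (hAg : ∀ a ∈ A, ∀ a' ∈ A, polar (⇑Q) a (iact g a') = 0)
    (hPA₂ : ∀ p ∈ P, ∀ a₂ ∈ A₂, polar (⇑Q) p a₂ = 0)
    (e₁ e₂ j₁ j₂ f₁ f₂ : ι → F) (he₁ : e₁ ∈ P) (he₂ : e₂ ∈ P) (hj₁ : j₁ ∈ P) (hj₂ : j₂ ∈ P)
    (hf₁ : f₁ ∈ P) (hf₂ : f₂ ∈ P)
    (hq1 : Q e₁ + Q j₁ = 0) (hq2 : Q e₂ + Q j₂ = 0)
    (hp : polar (⇑Q) e₁ e₂ + polar (⇑Q) j₁ j₂ = 0)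
    (hf1 : polar (⇑Q) f₁ e₁ ≠ 0) (hf21 : polar (⇑Q) f₂ e₁ = 0) (hf2 : polar (⇑Q) f₂ e₂ ≠ 0)
    (k : ℕ) (U₂ : Submodule F (ι → F)) (hU₂ : TS Q U₂) (hfr : finrank F U₂ = 2 * k)
    (hle : U₂ ≤ A₂ ⊔ gmap g A₂) :
    ∃ U : Submodule F (ι → F), TS Q U ∧ finrank F U = 2 * (k + 1) ∧ U ≤ A ⊔ gmap g A := by
  have hgA : ∀ a ∈ A, ∀ a' ∈ A, polar (⇑Q) (iact g a') a = 0 := by
    intro a ha a' ha'
    rw [polar_comm]
    exact hAg a ha a' ha'
  -- vectors of the smaller sum are orthogonal to `p + g p'`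
  have hx : ∀ x ∈ A₂ ⊔ gmap g A₂, ∀ p ∈ P, ∀ p' ∈ P,
      polar (⇑Q) (p + iact g p') x = 0 := by
    intro x hx p hp p' hp'
    obtain ⟨a₂, ha₂, y, hy, rfl⟩ := Submodule.mem_sup.mp hx
    obtain ⟨a₂', ha₂', rfl⟩ := (mem_gmap g A₂ y).mp hy
    rw [polar_add_left, polar_add_right, polar_add_right, hPA₂ p hp a₂ ha₂,
      hAg p (hPA hp) a₂' (hA₂A ha₂'), hgA a₂ (hA₂A ha₂) p' (hPA hp'), polar_iact,
      hPA₂ p' hp' a₂' ha₂']
    simp
  have hx0 : ∀ x ∈ A₂ ⊔ gmap g A₂, ∀ p ∈ P, polar (⇑Q) p x = 0 := by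
    intro x hx' p hp
    have := hx x hx' p hp 0 P.zero_mem
    rwa [iact_zero, add_zero] at this
  obtain ⟨u₁, hu₁def⟩ : ∃ u₁, u₁ = e₁ + iact g j₁ := ⟨_, rfl⟩
  obtain ⟨u₂, hu₂def⟩ : ∃ u₂, u₂ = e₂ + iact g j₂ := ⟨_, rfl⟩
  have hQu₁ : Q u₁ = 0 := by
    rw [hu₁def, Q_add_polar, Q_iact, hAg e₁ (hPA he₁) j₁ (hPA hj₁), add_zero]
    exact hq1
  have hQu₂ : Q u₂ = 0 := by
    rw [hu₂def, Q_add_polar, Q_iact, hAg e₂ (hPA he₂) j₂ (hPA hj₂), add_zero]
    exact hq2
  have hu₁u₂ : polar (⇑Q) u₁ u₂ = 0 := by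
    rw [hu₁def, hu₂def, polar_add_left, polar_add_right, polar_add_right,
      hAg e₁ (hPA he₁) j₂ (hPA hj₂), hgA e₂ (hPA he₂) j₁ (hPA hj₁), polar_iact]
    linear_combination hp
  have hmem : ∀ p ∈ P, ∀ p' ∈ P, p + iact g p' ∈ A ⊔ gmap g A := by
    intro p hp p' hp'
    exact Submodule.add_mem_sup (hPA hp) ((mem_gmap g A _).mpr ⟨p', hPA hp', rfl⟩)
  have hle' : A₂ ⊔ gmap g A₂ ≤ A ⊔ gmap g A := by
    apply sup_le_sup hA₂A
    intro y hy
    obtain ⟨a, ha, rfl⟩ := (mem_gmap g A₂ y).mp hy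
    exact (mem_gmap g A _).mpr ⟨a, hA₂A ha, rfl⟩
  have hu₁not : u₁ ∉ U₂ := by
    intro h
    have h1 := hx0 u₁ (hle h) f₁ hf₁
    rw [hu₁def, polar_add_right, hAg f₁ (hPA hf₁) j₁ (hPA hj₁), add_zero] at h1
    exact hf1 h1
  have hu₂not : u₂ ∉ U₂ ⊔ Submodule.span F {u₁} := by
    intro h
    obtain ⟨x, hxU, y, hy, hsum⟩ := Submodule.mem_sup.mp h
    obtain ⟨t, rfl⟩ := Submodule.mem_span_singleton.mp hy
    have h1 : polar (⇑Q) f₂ u₂ = 0 := by
      rw [← hsum, polar_add_right, hx0 x (hle hxU) f₂ hf₂, polar_smul_right, hu₁def,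
        polar_add_right, hf21, hAg f₂ (hPA hf₂) j₁ (hPA hj₁)]
      simp
    rw [hu₂def, polar_add_right, hAg f₂ (hPA hf₂) j₂ (hPA hj₂), add_zero] at h1
    exact hf2 h1
  refine ⟨U₂ ⊔ Submodule.span F {u₁} ⊔ Submodule.span F {u₂}, ?_, ?_, ?_⟩
  · apply TS.sup (TS.sup hU₂ (TS.span_singleton hQu₁) _) (TS.span_singleton hQu₂)
    · intro u hu v hv
      obtain ⟨x, hxU, y, hy, rfl⟩ := Submodule.mem_sup.mp hu
      obtain ⟨t, rfl⟩ := Submodule.mem_span_singleton.mp hy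
      obtain ⟨s, rfl⟩ := Submodule.mem_span_singleton.mp hv
      have h1 : polar (⇑Q) x u₂ = 0 := by
        rw [polar_comm, hu₂def]
        exact hx x (hle hxU) e₂ he₂ j₂ hj₂
      rw [polar_add_left, polar_smul_right, polar_smul_left, polar_smul_right, h1, hu₁u₂]
      simp
    · intro u hu v hv
      obtain ⟨t, rfl⟩ := Submodule.mem_span_singleton.mp hv
      rw [polar_smul_right, polar_comm, hu₁def, hx u (hle hu) e₁ he₁ j₁ hj₁, smul_zero]
  · rw [Submodule.finrank_sup_span_singleton hu₂not, Submodule.finrank_sup_span_singleton hu₁not,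
      hfr]
    ring
  · apply sup_le (sup_le (le_trans hle hle') _) _
    · rw [Submodule.span_singleton_le_iff_mem, hu₁def]
      exact hmem e₁ he₁ j₁ hj₁
    · rw [Submodule.span_singleton_le_iff_mem, hu₂def]
      exact hmem e₂ he₂ j₂ hj₂

/-- if an isometry maps a nondegenerate subspace of even dimension into its orthogonal complement,
their sum contains a totally singular subspace of the same dimension. -/
theorem exists_ts_of_swap (hQ : (polarBilin Q).Nondegenerate) (g : ↥(Cfsg.isometryGroup F ⇑Q)) :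
    ∀ (k : ℕ) (A : Submodule F (ι → F)), NondegOn Q A → finrank F A = 2 * k →
      (∀ a ∈ A, ∀ a' ∈ A, polar (⇑Q) a (iact g a') = 0) →
      ∃ U : Submodule F (ι → F), TS Q U ∧ finrank F U = 2 * k ∧ U ≤ A ⊔ gmap g A := by
  intro k
  induction k with
  | zero =>
    intro A _ _ _
    refine ⟨⊥, ?_, by rw [finrank_bot], bot_le⟩
    intro x hx
    rw [Submodule.mem_bot] at hx
    rw [hx, map_zero]
  | succ k ih =>
    intro A hA hfr hAg
    have hA0 : A ≠ ⊥ := by
      intro h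
      rw [h, finrank_bot] at hfr
      omega
    by_cases h2 : (2 : F) = 0
    · -- characteristic two
      obtain ⟨y, hyA, hy0⟩ := Submodule.exists_mem_ne_zero_of_ne_bot hA0
      obtain ⟨z₀, hz₀A, hz₀⟩ : ∃ z₀ ∈ A, polar (⇑Q) z₀ y ≠ 0 := by
        by_contra hcon
        push Not at hcon
        exact hy0 (hA y hyA hcon)
      obtain ⟨z, hzdef⟩ : ∃ z, z = (polar (⇑Q) z₀ y)⁻¹ • z₀ := ⟨_, rfl⟩
      have hzA : z ∈ A := by rw [hzdef]; exact A.smul_mem _ hz₀A
      have hyz : polar (⇑Q) y z = 1 := by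
        rw [hzdef, polar_smul_right, smul_eq_mul, polar_comm (⇑Q) y z₀]
        exact inv_mul_cancel₀ hz₀
      have hfr₂ := planeCompl_finrank Q h2 A y z hyA hzA hyz
      have hnd₂ := planeCompl_nondeg Q h2 A hA y z hyA hzA hyz
      have hle₂ := planeCompl_le Q A y z
      obtain ⟨U₂, hU₂, hU₂fr, hU₂le⟩ := ih (planeCompl Q A y z) hnd₂ (by omega)
        (fun a ha a' ha' => hAg a (hle₂ ha) a' (hle₂ ha'))
      obtain ⟨P, hPdef⟩ : ∃ P, P = Submodule.span F {y} ⊔ Submodule.span F {z} := ⟨_, rfl⟩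
      have hyP : y ∈ P := by
        rw [hPdef]
        exact Submodule.mem_sup_left (Submodule.mem_span_singleton_self y)
      have hzP : z ∈ P := by
        rw [hPdef]
        exact Submodule.mem_sup_right (Submodule.mem_span_singleton_self z)
      have hPA : P ≤ A := by
        rw [hPdef]
        exact sup_le ((Submodule.span_singleton_le_iff_mem _ _).mpr hyA)
          ((Submodule.span_singleton_le_iff_mem _ _).mpr hzA)
      have hPA₂ : ∀ p ∈ P, ∀ a₂ ∈ planeCompl Q A y z, polar (⇑Q) p a₂ = 0 := by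
        intro p hp a₂ ha₂
        rw [hPdef] at hp
        obtain ⟨p₁, hp₁, p₂, hp₂, rfl⟩ := Submodule.mem_sup.mp hp
        obtain ⟨s, rfl⟩ := Submodule.mem_span_singleton.mp hp₁
        obtain ⟨t, rfl⟩ := Submodule.mem_span_singleton.mp hp₂
        obtain ⟨-, h1, h3⟩ := (mem_planeCompl Q A y z a₂).mp ha₂
        rw [polar_add_left, polar_smul_left, polar_smul_left, h1, h3]
        simp
      exact swap_step Q g A (planeCompl Q A y z) P hle₂ hPA hAg hPA₂ y z y z z y hyP hzP hyP hzP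
        hzP hyP (by linear_combination (Q y) * h2) (by linear_combination (Q z) * h2)
        (by rw [hyz]; linear_combination h2)
        (by rw [polar_comm, hyz]; exact one_ne_zero)
        (by rw [polar_self', h2, zero_mul])
        (by rw [hyz]; exact one_ne_zero) k U₂ hU₂ hU₂fr hU₂le
    · -- odd characteristic
      obtain ⟨e₁, he₁A, hQe₁⟩ := exists_nonsingular Q A hA hA0
      have hnd₁ := nonsing_compl_nondeg Q h2 A hA e₁ he₁A hQe₁
      have hfr₁ := nonsing_compl_finrank Q hQ A hA e₁ he₁A hQe₁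
      obtain ⟨A₁, hA₁def⟩ : ∃ A₁, A₁ = A ⊓ orthQ Q (Submodule.span F {e₁}) := ⟨_, rfl⟩
      rw [← hA₁def] at hnd₁ hfr₁
      have hA₁0 : A₁ ≠ ⊥ := by
        intro h
        rw [h, finrank_bot] at hfr₁
        omega
      obtain ⟨e₂, he₂A₁, hQe₂⟩ := exists_nonsingular Q A₁ hnd₁ hA₁0
      have hnd₂ := nonsing_compl_nondeg Q h2 A₁ hnd₁ e₂ he₂A₁ hQe₂
      have hfr₂ := nonsing_compl_finrank Q hQ A₁ hnd₁ e₂ he₂A₁ hQe₂
      obtain ⟨A₂, hA₂def⟩ : ∃ A₂, A₂ = A₁ ⊓ orthQ Q (Submodule.span F {e₂}) := ⟨_, rfl⟩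
      rw [← hA₂def] at hnd₂ hfr₂
      have hA₁A : A₁ ≤ A := by rw [hA₁def]; exact inf_le_left
      have hA₂A₁ : A₂ ≤ A₁ := by rw [hA₂def]; exact inf_le_left
      have hA₂A : A₂ ≤ A := le_trans hA₂A₁ hA₁A
      have he₂A : e₂ ∈ A := hA₁A he₂A₁
      have he₁e₂ : polar (⇑Q) e₁ e₂ = 0 := by
        rw [hA₁def] at he₂A₁
        have := (Submodule.mem_inf.mp he₂A₁).2
        rwa [mem_orth_singleton_iff] at this
      obtain ⟨U₂, hU₂, hU₂fr, hU₂le⟩ := ih A₂ hnd₂ (by omega)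
        (fun a ha a' ha' => hAg a (hA₂A ha) a' (hA₂A ha'))
      have h4 : (4 : F) ≠ 0 := by
        have : (4 : F) = 2 * 2 := by norm_num
        rw [this]
        exact mul_ne_zero h2 h2
      have hdisc : polar (⇑Q) e₁ e₂ ^ 2 - 4 * Q e₁ * Q e₂ ≠ 0 := by
        rw [he₁e₂]
        intro h0
        have : (4 : F) * Q e₁ * Q e₂ ≠ 0 := mul_ne_zero (mul_ne_zero h4 hQe₁) hQe₂
        apply this
        linear_combination -h0
      obtain ⟨α, β, hαβ⟩ := exists_comb_eq Q h2 e₁ e₂ hQe₁ hdisc (-Q e₁)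
      have hαβ' : α * α * Q e₁ + β * β * Q e₂ = -Q e₁ := by
        rw [Q_comb2, he₁e₂] at hαβ
        linear_combination hαβ
      obtain ⟨P, hPdef⟩ : ∃ P, P = Submodule.span F {e₁} ⊔ Submodule.span F {e₂} := ⟨_, rfl⟩
      have he₁P : e₁ ∈ P := by
        rw [hPdef]
        exact Submodule.mem_sup_left (Submodule.mem_span_singleton_self e₁)
      have he₂P : e₂ ∈ P := by
        rw [hPdef]
        exact Submodule.mem_sup_right (Submodule.mem_span_singleton_self e₂)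
      have hPA : P ≤ A := by
        rw [hPdef]
        exact sup_le ((Submodule.span_singleton_le_iff_mem _ _).mpr he₁A)
          ((Submodule.span_singleton_le_iff_mem _ _).mpr he₂A)
      have hPA₂ : ∀ p ∈ P, ∀ a₂ ∈ A₂, polar (⇑Q) p a₂ = 0 := by
        intro p hp a₂ ha₂
        rw [hPdef] at hp
        obtain ⟨p₁, hp₁, p₂, hp₂, rfl⟩ := Submodule.mem_sup.mp hp
        obtain ⟨s, rfl⟩ := Submodule.mem_span_singleton.mp hp₁
        obtain ⟨t, rfl⟩ := Submodule.mem_span_singleton.mp hp₂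
        have h3 : polar (⇑Q) e₂ a₂ = 0 := by
          rw [hA₂def] at ha₂
          have := (Submodule.mem_inf.mp ha₂).2
          rwa [mem_orth_singleton_iff] at this
        have h1 : polar (⇑Q) e₁ a₂ = 0 := by
          have := hA₂A₁ ha₂
          rw [hA₁def] at this
          have := (Submodule.mem_inf.mp this).2
          rwa [mem_orth_singleton_iff] at this
        rw [polar_add_left, polar_smul_left, polar_smul_left, h1, h3]
        simp
      have hj₁P : α • e₁ + β • e₂ ∈ P := P.add_mem (P.smul_mem _ he₁P) (P.smul_mem _ he₂P)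
      have hj₂P : (-(Q e₂ * β) / Q e₁) • e₁ + α • e₂ ∈ P :=
        P.add_mem (P.smul_mem _ he₁P) (P.smul_mem _ he₂P)
      have he₂e₁ : polar (⇑Q) e₂ e₁ = 0 := by rw [polar_comm]; exact he₁e₂
      refine swap_step Q g A A₂ P hA₂A hPA hAg hPA₂ e₁ e₂ (α • e₁ + β • e₂)
        ((-(Q e₂ * β) / Q e₁) • e₁ + α • e₂) e₁ e₂ he₁P he₂P hj₁P hj₂P he₁P he₂P ?_ ?_ ?_ ?_ ?_ ?_
        k U₂ hU₂ hU₂fr hU₂le
      · rw [hαβ, add_neg_cancel]
      · rw [Q_comb2, he₁e₂]
        field_simp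
        linear_combination (Q e₂) * hαβ'
      · simp only [polar_add_left, polar_add_right, polar_smul_left, polar_smul_right, polar_self',
          he₁e₂, he₂e₁, smul_eq_mul]
        field_simp
        ring
      · rw [polar_self']
        exact mul_ne_zero h2 hQe₁
      · exact he₂e₁
      · rw [polar_self']
        exact mul_ne_zero h2 hQe₂

/-- an isometry interchanging a nondegenerate subspace of even dimension with its orthogonal
complement forces a totally singular subspace of half the dimension. -/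
theorem exists_ts_half_of_swap (hQ : (polarBilin Q).Nondegenerate)
    (g : ↥(Cfsg.isometryGroup F ⇑Q)) (W : Submodule F (ι → F)) (hW : NondegOn Q W)
    (hev : Even (finrank F W)) (hg : gmap g W = orthQ Q W) :
    ∃ U : Submodule F (ι → F), TS Q U ∧ finrank F U = finrank F W := by
  obtain ⟨k, hk⟩ := hev
  obtain ⟨U, hU, hUfr, -⟩ := exists_ts_of_swap Q hQ g k W hW (by omega) (by
    intro a ha a' ha'
    have : iact g a' ∈ orthQ Q W := by
      rw [← hg]
      exact (mem_gmap g W _).mpr ⟨a', ha', rfl⟩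
    exact (mem_orth_iff Q W _).mp this a ha)
  exact ⟨U, hU, by omega⟩

end ac7

end Cfsg.Agent.helper13
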