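import Mathlib
import Cfsg.Prelude.Def_LieTypeDatum
import Cfsg.Agent.Lib_helper13_AutO1

/-! The homomorphism from the similarity group of a form to the automorphism group of `PΩ`,
and the images of the conformal, special and commutator groups. -/

set_option autoImplicit false

namespace Cfsg.Agent.helper13

open Matrix

section autO2
variable {F : Type*} [Field F] {ι : Type} [Fintype ι] [DecidableEq ι]
variable (Q : (ι → F) → F)

theorem mem_iso_iff (g : GL ι F) :
    g ∈ Cfsg.isometryGroup F Q ↔ ∀ v, Q ((g : Matrix ι ι F) *ᵥ v) = Q v := by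
  constructor
  · intro h v
    exact h v 0
  · intro h u v
    exact h u

theorem iso_le_sim : Cfsg.isometryGroup F Q ≤ Cfsg.Geo.quadSimilarityGroup Q := by
  intro g hg
  exact ⟨1, fun v => by rw [Units.val_one, one_mul]; exact (mem_iso_iff Q g).mp hg v⟩

theorem sim_conj_mem (g : GL ι F) (hg : g ∈ Cfsg.Geo.quadSimilarityGroup Q) (h : GL ι F)
    (hh : h ∈ Cfsg.isometryGroup F Q) : g * h * g⁻¹ ∈ Cfsg.isometryGroup F Q := by
  obtain ⟨c, hc⟩ := hg
  rw [mem_iso_iff] at hh ⊢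
  intro v
  have h1 := hc (((g⁻¹ : GL ι F) : Matrix ι ι F) *ᵥ v)
  rw [Matrix.mulVec_mulVec, ← Units.val_mul, mul_inv_cancel, Units.val_one, Matrix.one_mulVec] at h1
  rw [Units.val_mul, Units.val_mul, ← Matrix.mulVec_mulVec, ← Matrix.mulVec_mulVec, hc, hh, h1]

theorem sim_le_normalizer : Cfsg.Geo.quadSimilarityGroup Q ≤
    Subgroup.normalizer ((Cfsg.isometryGroup F Q : Subgroup (GL ι F)) : Set (GL ι F)) := by
  intro g hg
  rw [Subgroup.mem_normalizer_iff]
  intro h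
  constructor
  · intro hh
    exact sim_conj_mem Q g hg h hh
  · intro hh
    have := sim_conj_mem Q g⁻¹ ((Cfsg.Geo.quadSimilarityGroup Q).inv_mem hg) _ hh
    have e : g⁻¹ * (g * h * g⁻¹) * g⁻¹⁻¹ = h := by group
    rwa [e] at this

/-- conjugation by similarities on the isometry group -/
def conjO : ↥(Cfsg.Geo.quadSimilarityGroup Q) →* MulAut ↥(Cfsg.isometryGroup F Q) :=
  (Subgroup.normalizerMonoidHom (Cfsg.isometryGroup F Q)).comp
    (Subgroup.inclusion (sim_le_normalizer Q))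

theorem conjO_apply (g : ↥(Cfsg.Geo.quadSimilarityGroup Q)) (s : ↥(Cfsg.isometryGroup F Q)) :
    ((conjO Q g s : ↥(Cfsg.isometryGroup F Q)) : GL ι F) = (g : GL ι F) * s * (g : GL ι F)⁻¹ := rfl

/-- the action of similarities on `PΩ` -/
noncomputable def PhiO : ↥(Cfsg.Geo.quadSimilarityGroup Q) →* MulAut (Cfsg.POmega F Q) :=
  (pcAut ↥(Cfsg.isometryGroup F Q)).comp (conjO Q)

theorem PhiO_mk (g : ↥(Cfsg.Geo.quadSimilarityGroup Q)) (s s' : ↥(Cfsg.Omega F Q))
    (h : ((s' : ↥(Cfsg.isometryGroup F Q)) : GL ι F) =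
      (g : GL ι F) * ((s : ↥(Cfsg.isometryGroup F Q)) : GL ι F) * (g : GL ι F)⁻¹) :
    PhiO Q g (QuotientGroup.mk s) = QuotientGroup.mk s' := by
  apply pcAut_mk
  apply Subtype.ext
  rw [h]
  rfl

theorem induced_iff (g : ↥(Cfsg.Geo.quadSimilarityGroup Q)) (β : MulAut (Cfsg.POmega F Q)) :
    Cfsg.IsInducedBySemilinearPOmega Q (g : GL ι F) (RingEquiv.refl F) β ↔ β = PhiO Q g := by
  haveI := commutator_char ↥(Cfsg.isometryGroup F Q)
  have hmap : ∀ M : Matrix ι ι F, M.map (RingEquiv.refl F) = M := by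
    intro M
    ext i j
    rfl
  constructor
  · intro h
    ext x
    induction x using QuotientGroup.induction_on with
    | H s =>
      obtain ⟨s', hs'⟩ : ∃ s' : ↥(Cfsg.Omega F Q), s' =
        MulAut.characteristic (commutator ↥(Cfsg.isometryGroup F Q)) (conjO Q g) s := ⟨_, rfl⟩
      have hs'm : ((s' : ↥(Cfsg.isometryGroup F Q)) : GL ι F) =
          (g : GL ι F) * ((s : ↥(Cfsg.isometryGroup F Q)) : GL ι F) * (g : GL ι F)⁻¹ := by
        rw [hs']
        rfl
      rw [PhiO_mk Q g s s' hs'm]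
      apply h s s'
      rw [hmap, hs'm, Units.val_mul, Units.val_mul]
  · rintro rfl s s' h
    apply PhiO_mk
    apply Units.ext
    rw [h, hmap, Units.val_mul, Units.val_mul]

theorem pgoAut_eq : Cfsg.pgoAut F Q = (PhiO Q).range := by
  unfold Cfsg.pgoAut Cfsg.autSubgroupOf
  have : {β : MulAut (Cfsg.POmega F Q) | Cfsg.IsSimilarityInducedAutPOmega Q β} =
      ((PhiO Q).range : Set (MulAut (Cfsg.POmega F Q))) := by
    ext β
    constructor
    · rintro ⟨g, hg, hβ⟩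
      exact ⟨⟨g, hg⟩, ((induced_iff Q ⟨g, hg⟩ β).mp hβ).symm⟩
    · rintro ⟨g, rfl⟩
      exact ⟨g.1, g.2, (induced_iff Q g _).mpr rfl⟩
  rw [this, Subgroup.closure_eq]

theorem spec_le_sim : Cfsg.specialIsometryGL F Q ≤ Cfsg.Geo.quadSimilarityGroup Q :=
  le_trans inf_le_left (iso_le_sim Q)

theorem psoAut_eq : Cfsg.psoAut F Q =
    ((Cfsg.specialIsometryGL F Q).subgroupOf (Cfsg.Geo.quadSimilarityGroup Q)).map (PhiO Q) := by
  unfold Cfsg.psoAut Cfsg.autSubgroupOf
  have : {β : MulAut (Cfsg.POmega F Q) | Cfsg.IsSpecialIsometryInducedAutPOmega Q β} =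
      ((((Cfsg.specialIsometryGL F Q).subgroupOf (Cfsg.Geo.quadSimilarityGroup Q)).map (PhiO Q) :
        Subgroup (MulAut (Cfsg.POmega F Q))) : Set (MulAut (Cfsg.POmega F Q))) := by
    ext β
    constructor
    · rintro ⟨g, hg, hβ⟩
      exact ⟨⟨g, spec_le_sim Q hg⟩, Subgroup.mem_subgroupOf.mpr hg,
        ((induced_iff Q ⟨g, spec_le_sim Q hg⟩ β).mp hβ).symm⟩
    · rintro ⟨g, hg, rfl⟩
      exact ⟨g.1, Subgroup.mem_subgroupOf.mp hg, (induced_iff Q g _).mpr rfl⟩
  rw [this, Subgroup.closure_eq]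

/-- the commutator subgroup inside the similarity group -/
def omegaSim : Subgroup ↥(Cfsg.Geo.quadSimilarityGroup Q) :=
  (((Cfsg.Omega F Q).map (Cfsg.isometryGroup F Q).subtype)).subgroupOf
    (Cfsg.Geo.quadSimilarityGroup Q)

theorem mem_omegaSim (g : ↥(Cfsg.Geo.quadSimilarityGroup Q)) :
    g ∈ omegaSim Q ↔ ∃ s : ↥(Cfsg.Omega F Q), ((s : ↥(Cfsg.isometryGroup F Q)) : GL ι F) = g := by
  unfold omegaSim
  rw [Subgroup.mem_subgroupOf, Subgroup.mem_map]
  constructor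
  · rintro ⟨s, hs, hsg⟩
    exact ⟨⟨s, hs⟩, hsg⟩
  · rintro ⟨s, hsg⟩
    exact ⟨s.1, s.2, hsg⟩

theorem inn_eq : Cfsg.Inn (Cfsg.POmega F Q) = (omegaSim Q).map (PhiO Q) := by
  ext β
  rw [Subgroup.mem_map]
  constructor
  · rintro ⟨x, rfl⟩
    induction x using QuotientGroup.induction_on with
    | H s =>
      refine ⟨⟨((s : ↥(Cfsg.isometryGroup F Q)) : GL ι F), iso_le_sim Q s.1.2⟩,
        (mem_omegaSim Q _).mpr ⟨s, rfl⟩, ?_⟩
      ext y
      induction y using QuotientGroup.induction_on with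
      | H t =>
        rw [PhiO_mk Q _ t (s * t * s⁻¹) rfl]
        rfl
  · rintro ⟨g, hg, rfl⟩
    obtain ⟨s, hs⟩ := (mem_omegaSim Q g).mp hg
    refine ⟨QuotientGroup.mk s, ?_⟩
    ext y
    induction y using QuotientGroup.induction_on with
    | H t =>
      rw [PhiO_mk Q g t (s * t * s⁻¹) (by rw [← hs]; rfl)]
      rfl

end autO2

end Cfsg.Agent.helper13
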