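import Mathlib
import Cfsg.Agent.Lib_helper13_ReflG
import Cfsg.Agent.Lib_helper13_Disc

set_option autoImplicit false

namespace Cfsg.Agent.helper13

open Matrix QuadraticMap Module

section negone
variable {F : Type*} [Field F] {ι : Type} [Fintype ι] [DecidableEq ι]
variable (Q : QuadraticForm F (ι → F))

theorem polar_eq_gram' (u v : ι → F) :
    polar (⇑Q) u v = u ⬝ᵥ ((Matrix.of (fun i j : ι => polar (⇑Q) (Pi.single i 1) (Pi.single j 1))) *ᵥ v) := by
  have h1 : (Matrix.of (fun i j : ι => polar (⇑Q) (Pi.single i 1) (Pi.single j 1))) =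
      LinearMap.BilinForm.toMatrix' (polarBilin Q) := by
    ext i j
    rw [LinearMap.BilinForm.toMatrix'_apply, polarBilin_apply_apply]
    rfl
  rw [h1, ← Matrix.toBilin'_apply', Matrix.toBilin'_toMatrix', polarBilin_apply_apply]

theorem iact_prodR_basis {n : ℕ} (b : Fin n → (ι → F)) (hb : ∀ i, Q (b i) ≠ 0)
    (ho : ∀ i j, i ≠ j → polar (⇑Q) (b i) (b j) = 0) (L : List (Fin n)) (hL : L.Nodup)
    (j : Fin n) :
    iact (prodR Q (L.map b)) (b j) = if j ∈ L then - b j else b j := by
  induction L with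
  | nil => simp [prodR_nil, iact_one]
  | cons i L ih =>
    rw [List.map_cons, prodR_cons, reflG'_of Q _ (hb i), iact_mul, ih (List.nodup_cons.mp hL).2]
    by_cases hji : j = i
    · subst hji
      rw [if_neg (List.nodup_cons.mp hL).1, iact_reflG_self, if_pos List.mem_cons_self]
    · have hfix : iact (reflG Q (b i) (hb i)) (b j) = b j :=
        iact_reflG_of_polar Q _ _ _ (ho i j (Ne.symm hji))
      by_cases hjL : j ∈ L
      · rw [if_pos hjL, if_pos (List.mem_cons_of_mem _ hjL), iact_neg, hfix]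
      · have : j ∉ i :: L := by
          intro h
          rcases List.mem_cons.mp h with h | h
          · exact hji h
          · exact hjL h
        rw [if_neg hjL, if_neg this, hfix]

omit [Fintype ι] [DecidableEq ι] in
theorem matrix_eq_of_mulVec {M N : Matrix ι ι F} [Fintype ι] [DecidableEq ι]
    (h : ∀ x, M *ᵥ x = N *ᵥ x) : M = N := by
  ext i j
  have := congr_fun (h (Pi.single j 1)) i
  rw [Matrix.mulVec_single_one, Matrix.mulVec_single_one] at this
  exact this

theorem matrix_eq_neg_one_of_iact (g : ↥(Cfsg.isometryGroup F ⇑Q)) (h : ∀ x, iact g x = -x) :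
    ((g : Matrix.GeneralLinearGroup ι F) : Matrix ι ι F) = -1 := by
  apply matrix_eq_of_mulVec
  intro x
  rw [Matrix.neg_mulVec, Matrix.one_mulVec]
  exact h x

theorem neg_one_mem_iff [Fintype F] [DecidableEq F] (h2 : (2 : F) ≠ 0)
    (hQ : (polarBilin Q).Nondegenerate) (hn : 2 ≤ Fintype.card ι) (he : Even (Fintype.card ι)) :
    (∃ g : ↥(Cfsg.isometryGroup F ⇑Q), g ∈ commutator ↥(Cfsg.isometryGroup F ⇑Q) ∧
      ((g : Matrix.GeneralLinearGroup ι F) : Matrix ι ι F) = -1) ↔
    IsSquare (Matrix.of (fun i j : ι => polar (⇑Q) (Pi.single i 1) (Pi.single j 1))).det := by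
  haveI : Invertible (2 : F) := invertibleOfNonzero h2
  obtain ⟨θ, hθ⟩ := exists_spinor Q h2 hQ
  obtain ⟨δ, hδ, -⟩ := exists_detSign Q h2 hQ
  obtain ⟨b, hb⟩ := LinearMap.BilinForm.exists_orthogonal_basis
    (LinearMap.BilinForm.isSymm_iff.mp (Cfsg.Agent.S2623.polarBilin_isSymm' Q))
  have hfr : finrank F (ι → F) = Fintype.card ι := Module.finrank_fintype_fun_eq_card F
  have ho : ∀ i j, i ≠ j → polar (⇑Q) (b i) (b j) = 0 := by
    intro i j hij
    have : polarBilin Q (b i) (b j) = 0 := hb hij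
    rwa [polarBilin_apply_apply] at this
  have hbQ : ∀ i, Q (b i) ≠ 0 := by
    intro i h0
    have h1 := hb.not_isOrtho_basis_self_of_separatingLeft hQ.1 i
    apply h1
    show polarBilin Q (b i) (b i) = 0
    rw [polarBilin_apply_apply, QuadraticMap.polar_self, h0, smul_zero]
  set vs : List (ι → F) := (List.finRange (finrank F (ι → F))).map b with hvs
  have hvsQ : ∀ v ∈ vs, Q v ≠ 0 := by
    intro v hv
    obtain ⟨i, -, rfl⟩ := List.mem_map.mp hv
    exact hbQ i
  have hbj : ∀ j, iact (prodR Q vs) (b j) = - b j := by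
    intro j
    rw [hvs, iact_prodR_basis Q b hbQ ho _ (List.nodup_finRange _) j, if_pos (List.mem_finRange j)]
  have hact : ∀ x, iact (prodR Q vs) x = -x := by
    intro x
    have hlin : Matrix.mulVecLin
        ((prodR Q vs : Matrix.GeneralLinearGroup ι F) : Matrix ι ι F) = -LinearMap.id := by
      apply b.ext
      intro j
      rw [Matrix.mulVecLin_apply, LinearMap.neg_apply, LinearMap.id_apply]
      exact hbj j
    have := LinearMap.congr_fun hlin x
    rw [Matrix.mulVecLin_apply, LinearMap.neg_apply, LinearMap.id_apply] at this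
    exact this
  have hmat := matrix_eq_neg_one_of_iact Q (prodR Q vs) hact
  -- the product of the values
  have hprodQ : (vs.map (fun v => Q v)).prod = ∏ i, Q (b i) := by
    rw [hvs, List.map_map, Fin.prod_univ_def]
    rfl
  have hlen : vs.length = Fintype.card ι := by
    rw [hvs, List.length_map, List.length_finRange, hfr]
  have hprod0 : (∏ i, Q (b i)) ≠ 0 := Finset.prod_ne_zero_iff.mpr (fun i _ => hbQ i)
  have hcrit : prodR Q vs ∈ commutator ↥(Cfsg.isometryGroup F ⇑Q) ↔ IsSquare (∏ i, Q (b i)) := by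
    rw [mem_commutator_iff Q θ δ h2 hQ hn hθ hδ, delta_prodR Q δ hδ vs hvsQ, hlen,
      he.neg_one_pow, ← quadraticChar_one_iff_isSquare hprod0, ← hprodQ,
      ← theta_prodR Q θ hθ vs hvsQ]
    constructor
    · rintro ⟨h, -⟩
      rw [h]
      rfl
    · intro h
      exact ⟨Units.ext h, rfl⟩
  -- discriminant
  obtain ⟨d, hd, hdet⟩ := gram_det_basis
    (Matrix.of (fun i j : ι => polar (⇑Q) (Pi.single i 1) (Pi.single j 1))) (polar (⇑Q))
    (polar_eq_gram' Q) b
  have hdiag : (Matrix.of fun i j => polar (⇑Q) (b i) (b j)) =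
      Matrix.diagonal (fun i => 2 * Q (b i)) := by
    ext i j
    rw [Matrix.of_apply, Matrix.diagonal_apply]
    by_cases hij : i = j
    · subst hij
      rw [if_pos rfl, QuadraticMap.polar_self, nsmul_eq_mul, Nat.cast_ofNat]
    · rw [if_neg hij, ho i j hij]
  rw [hdiag, Matrix.det_diagonal, Finset.prod_mul_distrib, Finset.prod_const, Finset.card_univ,
    Fintype.card_fin] at hdet
  obtain ⟨k, hk⟩ := he
  have h2k : (2 : F) ^ (finrank F (ι → F)) = ((2 : F) ^ k) ^ 2 := by
    rw [hfr, hk, ← pow_mul]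
    congr 1
    ring
  rw [h2k] at hdet
  have hiff : IsSquare (∏ i, Q (b i)) ↔
      IsSquare (Matrix.of (fun i j : ι => polar (⇑Q) (Pi.single i 1) (Pi.single j 1))).det := by
    rw [← isSquare_sq_mul ((2 : F) ^ k) _ (pow_ne_zero _ h2), hdet, isSquare_sq_mul d _ hd]
  rw [← hiff, ← hcrit]
  constructor
  · rintro ⟨g, hg, hgm⟩
    have : g = prodR Q vs := by
      apply Subtype.ext
      apply Units.ext
      rw [hgm, hmat]
    rw [← this]
    exact hg
  · intro h
    exact ⟨prodR Q vs, h, hmat⟩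

end negone

section pairs
variable {F : Type*} [Field F] {ι : Type} [Fintype ι] [DecidableEq ι]
variable (Q : QuadraticForm F (ι → F))

/-- a hyperbolic pair of coordinates, orthogonal to all other coordinates. -/
def HP (a b : ι) : Prop :=
  a ≠ b ∧ ∀ (x : ι → F) (s t : F),
    Q (x + s • Pi.single a 1 + t • Pi.single b 1) = Q x + s * x b + t * x a + s * t

variable {Q}

theorem HP.Q_add {a b : ι} (h : HP Q a b) :
    Q (Pi.single a 1 + Pi.single b 1) = 1 := by
  have := h.2 0 1 1
  simpa using this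

theorem HP.Q_sub {a b : ι} (h : HP Q a b) :
    Q (Pi.single a 1 - Pi.single b 1) = -1 := by
  have := h.2 0 1 (-1)
  simpa [sub_eq_add_neg] using this

theorem HP.polar_add {a b : ι} (h : HP Q a b) (x : ι → F) :
    polar (⇑Q) (Pi.single a 1 + Pi.single b 1) x = x a + x b := by
  unfold polar
  have e : (Pi.single a 1 + Pi.single b 1 + x : ι → F) =
      x + (1 : F) • Pi.single a 1 + (1 : F) • Pi.single b 1 := by
    rw [one_smul, one_smul]
    abel
  rw [e, h.2 x 1 1, h.Q_add]
  ring

theorem HP.polar_sub {a b : ι} (h : HP Q a b) (x : ι → F) :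
    polar (⇑Q) (Pi.single a 1 - Pi.single b 1) x = x b - x a := by
  unfold polar
  have e : (Pi.single a 1 - Pi.single b 1 + x : ι → F) =
      x + (1 : F) • Pi.single a 1 + (-1 : F) • Pi.single b 1 := by
    rw [one_smul, neg_one_smul]
    abel
  rw [e, h.2 x 1 (-1), h.Q_sub]
  ring

theorem HP.ne_add {a b : ι} (h : HP Q a b) : Q (Pi.single a 1 + Pi.single b 1) ≠ 0 := by
  rw [h.Q_add]
  exact one_ne_zero

theorem HP.ne_sub {a b : ι} (h : HP Q a b) : Q (Pi.single a 1 - Pi.single b 1) ≠ 0 := by
  rw [h.Q_sub]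
  exact neg_ne_zero.mpr one_ne_zero

theorem HP.iact_neg {a b : ι} (h : HP Q a b) (x : ι → F) (k : ι) :
    iact (reflG Q (Pi.single a 1 + Pi.single b 1) h.ne_add *
      reflG Q (Pi.single a 1 - Pi.single b 1) h.ne_sub) x k =
      (if k = a ∨ k = b then (-1 : F) else 1) * x k := by
  have hab := h.1
  rw [iact_mul, iact_reflG, iact_reflG, h.polar_add, h.polar_sub, h.Q_add, h.Q_sub]
  simp only [Pi.sub_apply, Pi.add_apply, Pi.smul_apply, smul_eq_mul, Pi.single_apply]
  by_cases hka : k = a
  · subst hka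
    simp [hab, Ne.symm hab] <;> ring
  · by_cases hkb : k = b
    · subst hkb
      simp [hab, Ne.symm hab] <;> ring
    · simp [hka, hkb, hab, Ne.symm hab]

theorem exists_negPairs {m : ℕ} (a b : Fin m → ι) (hP : ∀ j, HP Q (a j) (b j))
    (S : Finset (Fin m)) :
    ∃ vs : List (ι → F), (∀ v ∈ vs, Q v ≠ 0) ∧ vs.length = 2 * S.card ∧
      (vs.map (fun v => Q v)).prod = (-1) ^ S.card ∧
      ∀ (x : ι → F) (k : ι), iact (prodR Q vs) x k =
        (∏ j ∈ S, if k = a j ∨ k = b j then (-1 : F) else 1) * x k := by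
  induction S using Finset.induction_on with
  | empty =>
    refine ⟨[], fun v hv => absurd hv List.not_mem_nil, rfl, by simp, ?_⟩
    intro x k
    rw [prodR_nil, iact_one]
    simp
  | insert j S hj ih =>
    obtain ⟨vs, hvs, hlen, hprod, hact⟩ := ih
    refine ⟨(Pi.single (a j) 1 + Pi.single (b j) 1) ::
      (Pi.single (a j) 1 - Pi.single (b j) 1) :: vs, ?_, ?_, ?_, ?_⟩
    · intro v hv
      rcases List.mem_cons.mp hv with rfl | hv
      · exact (hP j).ne_add
      · rcases List.mem_cons.mp hv with rfl | hv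
        · exact (hP j).ne_sub
        · exact hvs v hv
    · rw [List.length_cons, List.length_cons, hlen, Finset.card_insert_of_notMem hj]
      ring
    · rw [List.map_cons, List.map_cons, List.prod_cons, List.prod_cons, hprod, (hP j).Q_add,
        (hP j).Q_sub, Finset.card_insert_of_notMem hj]
      ring
    · intro x k
      rw [prodR_cons, prodR_cons, reflG'_of Q _ (hP j).ne_add, reflG'_of Q _ (hP j).ne_sub,
        ← mul_assoc, iact_mul, (hP j).iact_neg, hact, Finset.prod_insert hj]
      ring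

end pairs

end Cfsg.Agent.helper13
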