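import Mathlib
import Cfsg.Agent.Lib_helper13_AutO2
import Cfsg.Agent.Lib_helper13_SimpF
import Cfsg.Agent.Lib_helper13_ReflH

/-! A similarity acting trivially on `PΩ` is a scalar (dimension at least seven). -/

set_option autoImplicit false

namespace Cfsg.Agent.helper13

open Matrix QuadraticMap Module Cfsg.Agent.S0794

section autO3
variable {F : Type*} [Field F] [Fintype F] [DecidableEq F] {ι : Type} [Fintype ι] [DecidableEq ι]
variable (Q : QuadraticForm F (ι → F))

omit [Fintype F] [DecidableEq F] in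
theorem scalar_step_lin (L : (ι → F) →ₗ[F] (ι → F))
    (hg : ∀ u : ι → F, Q u = 0 → ∃ t : F, L u = t • u) (u w : ι → F) (hu : Q u = 0)
    (hw : Q w = 0) (huw : polar (⇑Q) u w = 0) (hu0 : u ≠ 0) (hwu : ∀ t : F, w ≠ t • u) (c : F)
    (hgu : L u = c • u) : L w = c • w := by
  obtain ⟨tw, htw⟩ := hg w hw
  have huw' : Q (u + w) = 0 := by rw [Q_add_polar, hu, hw, huw]; ring
  obtain ⟨s, hs⟩ := hg (u + w) huw'
  rw [map_add, hgu, htw, smul_add] at hs
  have h1 : (c - s) • u = (s - tw) • w := by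
    rw [sub_smul, sub_smul]
    have := hs
    have h3 : c • u - s • u = s • w - tw • w := by
      rw [sub_eq_sub_iff_add_eq_add]
      rw [this]
      abel
    exact h3
  by_cases hst : s - tw = 0
  · rw [hst, zero_smul] at h1
    have hcs : c - s = 0 := by
      rcases smul_eq_zero.mp h1 with h | h
      · exact h
      · exact absurd h hu0
    have : tw = c := by
      have h4 : s = tw := sub_eq_zero.mp hst
      have h5 : c = s := sub_eq_zero.mp hcs
      rw [h5, h4]
    rw [htw, this]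
  · exfalso
    apply hwu ((s - tw)⁻¹ * (c - s))
    rw [← smul_smul, h1, smul_smul, inv_mul_cancel₀ hst, one_smul]

/-- a linear map fixing every singular point is a scalar. -/
theorem scalar_of_fix_points_lin (hQ : (polarBilin Q).Nondegenerate) (hn : 5 ≤ Fintype.card ι)
    (L : (ι → F) →ₗ[F] (ι → F))
    (hg : ∀ u : ι → F, Q u = 0 → ∃ t : F, L u = t • u) :
    ∃ c : F, ∀ x : ι → F, L x = c • x := by
  have hdim : 3 ≤ finrank F (ι → F) := by
    rw [Module.finrank_fintype_fun_eq_card]
    omega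
  obtain ⟨u₀, hu₀0, hu₀⟩ := exists_singular Q hQ hdim
  obtain ⟨c, hc⟩ := hg u₀ hu₀
  have hsing : ∀ w : ι → F, Q w = 0 → L w = c • w := by
    intro w hw
    by_cases hwu : ∀ t : F, w ≠ t • u₀
    · by_cases huw : polar (⇑Q) u₀ w = 0
      · exact scalar_step_lin Q L hg u₀ w hu₀ hw huw hu₀0 hwu c hc
      · obtain ⟨y, hy, hy0, huy, hwy⟩ := exists_sing_perp_two Q hQ hn u₀ w hu₀ hw huw
        have hyu : ∀ t : F, y ≠ t • u₀ := by
          intro t h
          have h1 : polar (⇑Q) w y = t * polar (⇑Q) w u₀ := by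
            rw [h, polar_smul_right, smul_eq_mul]
          rw [hwy, polar_comm (⇑Q) w u₀] at h1
          have ht : t = 0 := by
            rcases mul_eq_zero.mp h1.symm with h | h
            · exact h
            · exact absurd h huw
          rw [ht, zero_smul] at h
          exact hy0 h
        have hgy := scalar_step_lin Q L hg u₀ y hu₀ hy huy hu₀0 hyu c hc
        have hwy' : ∀ t : F, w ≠ t • y := by
          intro t h
          apply huw
          rw [h, polar_smul_right, huy, smul_zero]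
        exact scalar_step_lin Q L hg y w hy hw (by rw [polar_comm]; exact hwy) hy0 hwy' c hgy
    · push Not at hwu
      obtain ⟨t, ht⟩ := hwu
      rw [ht, map_smul, hc, smul_comm]
  refine ⟨c, ?_⟩
  intro x
  by_cases hx : Q x = 0
  · exact hsing x hx
  · have hx0 : x ≠ 0 := by
      rintro rfl
      exact hx (QuadraticMap.map_zero Q)
    have hX3 : 3 ≤ finrank F (⊤ : Submodule F (ι → F)) := by rw [finrank_top]; exact hdim
    obtain ⟨d, -, hd, hxd⟩ := exists_sing_polar_ne_all Q hQ ⊤ (nondegOn_top Q hQ) hX3 x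
      Submodule.mem_top hx0
    have hx' : Q (x - (Q x * (polar (⇑Q) x d)⁻¹) • d) = 0 := by
      have : x - (Q x * (polar (⇑Q) x d)⁻¹) • d = x + (-(Q x * (polar (⇑Q) x d)⁻¹)) • d := by
        rw [neg_smul, sub_eq_add_neg]
      rw [this, Q_add_polar, QuadraticMap.map_smul, hd, polar_smul_right]
      simp only [smul_eq_mul, mul_zero, add_zero, neg_mul, mul_assoc, inv_mul_cancel₀ hxd, mul_one,
        add_neg_cancel]
    have hdec : x = (x - (Q x * (polar (⇑Q) x d)⁻¹) • d) + (Q x * (polar (⇑Q) x d)⁻¹) • d := by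
      abel
    rw [hdec, map_add, map_smul, hsing _ hx', hsing d hd]
    module

/-- a similarity acting trivially on `PΩ` is a scalar matrix. -/
theorem scalar_of_PhiO_eq_one (hQ : (polarBilin Q).Nondegenerate) (hn : 7 ≤ Fintype.card ι)
    (g : ↥(Cfsg.Geo.quadSimilarityGroup (⇑Q))) (hg : PhiO (⇑Q) g = 1) :
    ∃ c : F, ((g : GL ι F) : Matrix ι ι F) = c • (1 : Matrix ι ι F) := by
  haveI := commutator_char ↥(Cfsg.isometryGroup F ⇑Q)
  obtain ⟨α, hα⟩ : ∃ α : MulAut ↥(commutator ↥(Cfsg.isometryGroup F ⇑Q)), α =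
      MulAut.characteristic (commutator ↥(Cfsg.isometryGroup F ⇑Q)) (conjO (⇑Q) g) := ⟨_, rfl⟩
  have hαm : ∀ s : ↥(commutator ↥(Cfsg.isometryGroup F ⇑Q)),
      (((α s : ↥(commutator ↥(Cfsg.isometryGroup F ⇑Q))) : ↥(Cfsg.isometryGroup F ⇑Q)) : GL ι F) =
      (g : GL ι F) * ((s : ↥(Cfsg.isometryGroup F ⇑Q)) : GL ι F) * (g : GL ι F)⁻¹ := by
    intro s
    rw [hα]
    rfl
  have hcen : ∀ s : ↥(commutator ↥(Cfsg.isometryGroup F ⇑Q)),
      s⁻¹ * α s ∈ Subgroup.center ↥(commutator ↥(Cfsg.isometryGroup F ⇑Q)) := by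
    intro s
    have h1 : PhiO (⇑Q) g (QuotientGroup.mk s) = QuotientGroup.mk (α s) :=
      PhiO_mk (⇑Q) g s (α s) (hαm s)
    rw [hg, MulAut.one_apply] at h1
    exact QuotientGroup.eq.mp h1
  have hα1 : α = 1 := aut_eq_one_of_perfect (omega_perfect Q hQ hn) α hcen
  -- g commutes with every element of the commutator subgroup
  have hcomm : ∀ s : ↥(Cfsg.isometryGroup F ⇑Q), s ∈ commutator ↥(Cfsg.isometryGroup F ⇑Q) →
      ∀ x : ι → F, ((g : GL ι F) : Matrix ι ι F) *ᵥ (iact s x) =
        iact s (((g : GL ι F) : Matrix ι ι F) *ᵥ x) := by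
    intro s hs x
    have h1 := hαm ⟨s, hs⟩
    rw [hα1, MulAut.one_apply] at h1
    have h3 : (s : GL ι F) * (g : GL ι F) = (g : GL ι F) * (s : GL ι F) := by
      have h4 : ((⟨s, hs⟩ : ↥(commutator ↥(Cfsg.isometryGroup F ⇑Q))) :
        ↥(Cfsg.isometryGroup F ⇑Q)) = s := rfl
      rw [h4] at h1
      exact (mul_inv_eq_iff_eq_mul.mp h1.symm).symm
    have h5 := congrArg (fun M : GL ι F => (M : Matrix ι ι F) *ᵥ x) h3
    simp only [Units.val_mul, ← Matrix.mulVec_mulVec] at h5
    exact h5.symm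
  obtain ⟨L, hL⟩ : ∃ L : (ι → F) →ₗ[F] (ι → F), L = Matrix.mulVecLin ((g : GL ι F) : Matrix ι ι F) :=
    ⟨_, rfl⟩
  have hLa : ∀ x, L x = ((g : GL ι F) : Matrix ι ι F) *ᵥ x := by
    intro x
    rw [hL]
    rfl
  have hcommL : ∀ s : ↥(Cfsg.isometryGroup F ⇑Q), s ∈ commutator ↥(Cfsg.isometryGroup F ⇑Q) →
      ∀ x : ι → F, L (iact s x) = iact s (L x) := by
    intro s hs x
    rw [hLa, hLa]
    exact hcomm s hs x
  have hfix : ∀ u : ι → F, Q u = 0 → ∃ t : F, L u = t • u := by
    intro u hu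
    by_cases hu0 : u = 0
    · exact ⟨0, by rw [hu0, map_zero, smul_zero]⟩
    obtain ⟨f, hf, huf⟩ := exists_hyp_pair Q hQ u hu0 hu
    obtain ⟨v, hv, hv0, huv, hfv⟩ := exists_sing_perp_two Q hQ (by omega) u f hu hf
      (by rw [huf]; exact one_ne_zero)
    have hind : ∀ t : F, u ≠ t • v := by
      intro t h
      have h1 : polar (⇑Q) u f = t * polar (⇑Q) v f := by
        nth_rewrite 1 [h]
        rw [polar_smul_left, smul_eq_mul]
      rw [huf, polar_comm (⇑Q) v f, hfv, mul_zero] at h1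
      exact one_ne_zero h1
    obtain ⟨e, e', he, he', hee', heu, -, he'u, -⟩ := exists_hyp_perp Q hQ hn u v hu hv huv hv0 hind
    have hue : polar (⇑Q) u e = 0 := by rw [polar_comm]; exact heu
    have hue' : polar (⇑Q) u e' = 0 := by rw [polar_comm]; exact he'u
    have hmem : ∀ (w : ι → F) (hw : Q w = 0) (huw : polar (⇑Q) u w = 0),
        sieG Q u w hu hw huw 1 ∈ commutator ↥(Cfsg.isometryGroup F ⇑Q) := by
      intro w hw huw
      rw [commutator_eq_Sg Q hQ hn]
      exact sieG_mem_Sg Q u w hu hw huw 1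
    -- first relation, from the Siegel element of (u, e) at x = e'
    have r1 := hcommL _ (hmem e he hue) e'
    rw [iact_sieG, iact_sieG, hue', hee', zero_smul, zero_sub, one_smul, one_smul, one_smul,
      map_add, map_neg] at r1
    -- second relation, from the Siegel element of (u, e') at x = e
    have r2 := hcommL _ (hmem e' he' hue') e
    rw [iact_sieG, iact_sieG, hue, polar_comm (⇑Q) e' e, hee', zero_smul, zero_sub, one_smul,
      one_smul, one_smul, map_add, map_neg] at r2
    -- L u = a u - b e  and  L u = a' u - b' e'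
    have r1' : L u = polar (⇑Q) e (L e') • u - polar (⇑Q) u (L e') • e := by
      have : L e' + -L u = L e' + (polar (⇑Q) u (L e') • e - polar (⇑Q) e (L e') • u) := r1
      have h3 := add_left_cancel this
      rw [← neg_eq_iff_eq_neg.mpr h3.symm]
      abel
    have r2' : L u = polar (⇑Q) e' (L e) • u - polar (⇑Q) u (L e) • e' := by
      have : L e + -L u = L e + (polar (⇑Q) u (L e) • e' - polar (⇑Q) e' (L e) • u) := r2
      have h3 := add_left_cancel this
      rw [← neg_eq_iff_eq_neg.mpr h3.symm]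
      abel
    -- pair with e'
    have p1 : polar (⇑Q) e' (L u) = - polar (⇑Q) u (L e') := by
      rw [r1', polar_sub_right, polar_smul_right, polar_smul_right, he'u, polar_comm (⇑Q) e' e, hee']
      simp
    have p2 : polar (⇑Q) e' (L u) = 0 := by
      rw [r2', polar_sub_right, polar_smul_right, polar_smul_right, he'u, polar_self', he']
      simp
    have hb : polar (⇑Q) u (L e') = 0 := by
      rw [p2] at p1
      exact neg_eq_zero.mp p1.symm
    refine ⟨polar (⇑Q) e (L e'), ?_⟩
    rw [r1', hb, zero_smul, sub_zero]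
  obtain ⟨c, hc⟩ := scalar_of_fix_points_lin Q hQ (by omega) L hfix
  refine ⟨c, ?_⟩
  apply matrix_eq_of_mulVec
  intro x
  rw [← hLa, hc, Matrix.smul_mulVec, Matrix.one_mulVec]

end autO3

end Cfsg.Agent.helper13
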