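import Mathlib
import Cfsg.Agent.Lib_helper13_AutO3

/-! The multiplier and the determinant sign on the similarity group of a quadratic form in even
dimension and odd characteristic; the quotient of the conformal image in `Aut(PΩ)` by the special
orthogonal image is a four-group. -/

set_option autoImplicit false

namespace Cfsg.Agent.helper13

open Matrix QuadraticMap Module

section kappa

def aZ (u : ℤˣ) : ZMod 2 := if u = 1 then 0 else 1

def kappaFun (x : ℤˣ × ℤˣ) : Multiplicative (ZMod 2 × ZMod 2) :=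
  Multiplicative.ofAdd (aZ x.1, aZ x.2)

theorem kappa_mul : ∀ x y : ℤˣ × ℤˣ, kappaFun (x * y) = kappaFun x * kappaFun y := by decide

theorem kappa_surj : ∀ z : Multiplicative (ZMod 2 × ZMod 2), ∃ x : ℤˣ × ℤˣ, kappaFun x = z := by
  decide

theorem kappa_one : ∀ x : ℤˣ × ℤˣ, kappaFun x = 1 → x = 1 := by decide

def kappaHom : ℤˣ × ℤˣ →* Multiplicative (ZMod 2 × ZMod 2) := MonoidHom.mk' kappaFun kappa_mul

end kappa

section autO4
variable {F : Type*} [Field F] {ι : Type} [Fintype ι] [DecidableEq ι]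
variable (Q : QuadraticForm F (ι → F))

/-- the multiplier of a similarity -/
noncomputable def muFun (g : ↥(Cfsg.Geo.quadSimilarityGroup (⇑Q))) : Fˣ := Classical.choose g.2

theorem muFun_spec (g : ↥(Cfsg.Geo.quadSimilarityGroup (⇑Q))) (v : ι → F) :
    Q (((g : GL ι F) : Matrix ι ι F) *ᵥ v) = (muFun Q g : F) * Q v :=
  Classical.choose_spec g.2 v

theorem muFun_unique (hv : ∃ v, Q v ≠ 0) (g : ↥(Cfsg.Geo.quadSimilarityGroup (⇑Q))) (c : F)
    (hc : ∀ v, Q (((g : GL ι F) : Matrix ι ι F) *ᵥ v) = c * Q v) : (muFun Q g : F) = c := by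
  obtain ⟨v, hv⟩ := hv
  have := muFun_spec Q g v
  rw [hc v] at this
  exact (mul_right_cancel₀ hv this).symm

noncomputable def muHom (hv : ∃ v, Q v ≠ 0) : ↥(Cfsg.Geo.quadSimilarityGroup (⇑Q)) →* Fˣ where
  toFun := muFun Q
  map_one' := Units.ext (muFun_unique Q hv 1 1 (fun v => by
    rw [one_mul]
    show Q (((1 : GL ι F) : Matrix ι ι F) *ᵥ v) = Q v
    rw [Units.val_one, Matrix.one_mulVec]))
  map_mul' g h := Units.ext (muFun_unique Q hv (g * h) _ (fun v => by
    show Q ((((g : GL ι F) * (h : GL ι F) : GL ι F) : Matrix ι ι F) *ᵥ v) = _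
    rw [Units.val_mul, ← Matrix.mulVec_mulVec, muFun_spec, muFun_spec, Units.val_mul, mul_assoc]))

theorem muHom_apply (hv : ∃ v, Q v ≠ 0) (g : ↥(Cfsg.Geo.quadSimilarityGroup (⇑Q))) :
    muHom Q hv g = muFun Q g := rfl

theorem polar_sim (g : ↥(Cfsg.Geo.quadSimilarityGroup (⇑Q))) (u v : ι → F) :
    polar (⇑Q) (((g : GL ι F) : Matrix ι ι F) *ᵥ u) (((g : GL ι F) : Matrix ι ι F) *ᵥ v) =
      (muFun Q g : F) * polar (⇑Q) u v := by
  unfold polar
  rw [← Matrix.mulVec_add, muFun_spec, muFun_spec, muFun_spec]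
  ring

theorem det_sq_sim (hQ : (polarBilin Q).Nondegenerate) (g : ↥(Cfsg.Geo.quadSimilarityGroup (⇑Q))) :
    (((g : GL ι F) : Matrix ι ι F).det) ^ 2 = (muFun Q g : F) ^ Fintype.card ι := by
  obtain ⟨M, hM⟩ : ∃ M : Matrix ι ι F, M = ((g : GL ι F) : Matrix ι ι F) := ⟨_, rfl⟩
  rw [← hM]
  have hcomp : LinearMap.BilinForm.comp (polarBilin Q) (Matrix.toLin' M) (Matrix.toLin' M) =
      (muFun Q g : F) • polarBilin Q := by
    refine LinearMap.ext fun u => LinearMap.ext fun v => ?_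
    rw [LinearMap.BilinForm.comp_apply, Matrix.toLin'_apply, Matrix.toLin'_apply,
      polarBilin_apply_apply, LinearMap.smul_apply, LinearMap.smul_apply,
      polarBilin_apply_apply, smul_eq_mul, hM]
    exact polar_sim Q g u v
  have hmat := congrArg LinearMap.BilinForm.toMatrix' hcomp
  rw [LinearMap.BilinForm.toMatrix'_comp, LinearMap.toMatrix'_toLin', map_smul] at hmat
  have hdet := congrArg Matrix.det hmat
  rw [Matrix.det_mul, Matrix.det_mul, Matrix.det_transpose, Matrix.det_smul] at hdet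
  have hG : (LinearMap.BilinForm.toMatrix' (polarBilin Q)).det ≠ 0 :=
    Matrix.nondegenerate_iff_det_ne_zero.mp
      (LinearMap.BilinForm.nondegenerate_toMatrix'_iff.mpr hQ)
  apply mul_right_cancel₀ hG
  rw [← hdet]
  ring

end autO4

section autO5
variable {F : Type*} [Field F] [Fintype F] [DecidableEq F] {ι : Type} [Fintype ι] [DecidableEq ι]
variable (Q : QuadraticForm F (ι → F))

/-- determinant on the similarity group -/
noncomputable def detSim : ↥(Cfsg.Geo.quadSimilarityGroup (⇑Q)) →* Fˣ :=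
  (Matrix.GeneralLinearGroup.det).comp (Subgroup.subtype _)

theorem detSim_val (g : ↥(Cfsg.Geo.quadSimilarityGroup (⇑Q))) :
    ((detSim Q g : Fˣ) : F) = ((g : GL ι F) : Matrix ι ι F).det := rfl

/-- the sign `det / multiplier ^ (dim / 2)` -/
noncomputable def epsHom (hv : ∃ v, Q v ≠ 0) (m' : ℕ) :
    ↥(Cfsg.Geo.quadSimilarityGroup (⇑Q)) →* Fˣ :=
  detSim Q * ((muHom Q hv) ^ m')⁻¹

theorem epsHom_apply (hv : ∃ v, Q v ≠ 0) (m' : ℕ) (g : ↥(Cfsg.Geo.quadSimilarityGroup (⇑Q))) :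
    epsHom Q hv m' g = detSim Q g * ((muFun Q g) ^ m')⁻¹ := rfl

theorem epsHom_sq (hQ : (polarBilin Q).Nondegenerate) (hv : ∃ v, Q v ≠ 0) (m' : ℕ)
    (hcard : Fintype.card ι = 2 * m') (g : ↥(Cfsg.Geo.quadSimilarityGroup (⇑Q))) :
    epsHom Q hv m' g = 1 ∨ epsHom Q hv m' g = -1 := by
  have h1 : (detSim Q g) ^ 2 = (muFun Q g) ^ (2 * m') := by
    apply Units.ext
    rw [Units.val_pow_eq_pow_val, Units.val_pow_eq_pow_val, detSim_val, det_sq_sim Q hQ g, hcard]
  have h3 : (epsHom Q hv m' g) ^ 2 = 1 := by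
    rw [epsHom_apply, mul_pow, h1, inv_pow, ← pow_mul, mul_comm m' 2, mul_inv_cancel]
  have h4 : ((epsHom Q hv m' g : Fˣ) : F) ^ 2 = 1 := by
    rw [← Units.val_pow_eq_pow_val, h3, Units.val_one]
  rw [pow_two] at h4
  rcases mul_self_eq_one_iff.mp h4 with h | h
  · left
    exact Units.ext h
  · right
    apply Units.ext
    rw [h]
    rfl

end autO5

end Cfsg.Agent.helper13
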