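import Mathlib
import Cfsg.Agent.Lib_helper13_AutO4
import Cfsg.Agent.Lib_helper13_ReflG

/-! The quotient of the conformal image in `Aut(PΩ)` by the special orthogonal image is a
four-group: the general statement for a nondegenerate form of even dimension at least `8`. -/

set_option autoImplicit false

namespace Cfsg.Agent.helper13

open Matrix QuadraticMap Module

section abstract5

theorem surj_of_two {N : Type*} [Group N] (ψ : N →* ℤˣ × ℤˣ) (r h : N) (hr : ψ r = (1, -1))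
    (hh : (ψ h).1 = -1) : Function.Surjective ψ := by
  have hrh : ψ (h * r) = (-1, -(ψ h).2) := by
    rw [map_mul, hr]
    apply Prod.ext
    · simp [hh]
    · simp
  rintro ⟨s, t⟩
  rcases Int.units_eq_one_or s with rfl | rfl
  · rcases Int.units_eq_one_or t with rfl | rfl
    · exact ⟨1, map_one ψ⟩
    · exact ⟨r, hr⟩
  · rcases Int.units_eq_one_or (ψ h).2 with h2 | h2 <;> rcases Int.units_eq_one_or t with rfl | rfl
    · exact ⟨h, Prod.ext hh h2⟩
    · refine ⟨h * r, ?_⟩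
      rw [hrh, h2]
    · refine ⟨h * r, ?_⟩
      rw [hrh, h2]
      rfl
    · exact ⟨h, Prod.ext hh h2⟩

theorem klein_of {N A : Type*} [Group N] [Group A] (Φ : N →* A) (S : Subgroup N)
    (ψ : N →* ℤˣ × ℤˣ) (hsurj : Function.Surjective ψ) (hker : Φ.ker ≤ ψ.ker) (hS : S ≤ ψ.ker)
    (hlift : ∀ g, ψ g = 1 → ∃ s ∈ S, Φ s = Φ g) :
    ∃ φ : ↥Φ.range →* Multiplicative (ZMod 2 × ZMod 2),
      Function.Surjective φ ∧ φ.ker = (S.map Φ).subgroupOf Φ.range := by
  obtain ⟨φ₀, hφ₀⟩ := exists_range_lift Φ ψ hker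
  refine ⟨kappaHom.comp φ₀, ?_, ?_⟩
  · intro z
    obtain ⟨x, hx⟩ := kappa_surj z
    obtain ⟨g, hg⟩ := hsurj x
    refine ⟨⟨Φ g, g, rfl⟩, ?_⟩
    rw [MonoidHom.comp_apply, hφ₀ g _ rfl, hg]
    exact hx
  · ext b
    obtain ⟨a, ha⟩ := b.2
    have hb : φ₀ b = ψ a := hφ₀ a b ha.symm
    rw [MonoidHom.mem_ker, MonoidHom.comp_apply, hb, Subgroup.mem_subgroupOf, Subgroup.mem_map]
    constructor
    · intro h1
      have h3 : ψ a = 1 := kappa_one _ h1
      obtain ⟨s, hs, hsa⟩ := hlift a h3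
      exact ⟨s, hs, hsa.trans ha⟩
    · rintro ⟨s, hs, hsb⟩
      have h1 : s⁻¹ * a ∈ Φ.ker := by
        rw [MonoidHom.mem_ker, map_mul, map_inv, hsb, ha, inv_mul_cancel]
      have h3 := hker h1
      rw [MonoidHom.mem_ker, map_mul, map_inv, MonoidHom.mem_ker.mp (hS hs), inv_one, one_mul] at h3
      rw [h3]
      exact map_one kappaHom

end abstract5

section scal
variable {F : Type*} [Field F] {ι : Type} [Fintype ι] [DecidableEq ι]

/-- scalar matrices in the general linear group -/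
noncomputable def scalGL (c : Fˣ) : GL ι F := Units.map (Matrix.scalar ι).toMonoidHom c

theorem scalGL_val (c : Fˣ) :
    ((scalGL c : GL ι F) : Matrix ι ι F) = (c : F) • (1 : Matrix ι ι F) := by
  show Matrix.scalar ι (c : F) = _
  rw [Matrix.scalar_apply, Matrix.smul_one_eq_diagonal]

theorem scalGL_comm (c : Fˣ) (s : GL ι F) : scalGL c * s = s * scalGL c := by
  apply Units.ext
  rw [Units.val_mul, Units.val_mul, scalGL_val, Matrix.smul_mul, Matrix.one_mul, Matrix.mul_smul,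
    Matrix.mul_one]

variable (Q : QuadraticForm F (ι → F))

theorem scalGL_mem (c : Fˣ) : (scalGL c : GL ι F) ∈ Cfsg.Geo.quadSimilarityGroup (⇑Q) := by
  refine ⟨c * c, fun v => ?_⟩
  rw [scalGL_val, Matrix.smul_mulVec, Matrix.one_mulVec, QuadraticMap.map_smul, smul_eq_mul,
    Units.val_mul]

/-- scalar similarities -/
noncomputable def scalSim (c : Fˣ) : ↥(Cfsg.Geo.quadSimilarityGroup (⇑Q)) :=
  ⟨scalGL c, scalGL_mem Q c⟩

theorem PhiO_scalSim (c : Fˣ) : PhiO (⇑Q) (scalSim Q c) = 1 := by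
  ext x
  induction x using QuotientGroup.induction_on with
  | H s =>
    rw [PhiO_mk (⇑Q) (scalSim Q c) s s ?_]
    · rfl
    · show _ = scalGL c * _ * (scalGL c)⁻¹
      rw [scalGL_comm, mul_inv_cancel_right]

theorem muFun_scalSim (hv : ∃ v, Q v ≠ 0) (c : Fˣ) : muFun Q (scalSim Q c) = c * c := by
  apply Units.ext
  apply muFun_unique Q hv
  intro v
  show Q (((scalGL c : GL ι F) : Matrix ι ι F) *ᵥ v) = _
  rw [scalGL_val, Matrix.smul_mulVec, Matrix.one_mulVec, QuadraticMap.map_smul, smul_eq_mul,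
    Units.val_mul]

theorem det_scalGL (c : Fˣ) :
    ((scalGL c : GL ι F) : Matrix ι ι F).det = (c : F) ^ Fintype.card ι := by
  rw [scalGL_val, Matrix.det_smul, Matrix.det_one, mul_one]

end scal

section autO5b
variable {F : Type*} [Field F] [Fintype F] [DecidableEq F] {ι : Type} [Fintype ι] [DecidableEq ι]
variable (Q : QuadraticForm F (ι → F))

theorem epsHom_eq_one_iff (hv : ∃ v, Q v ≠ 0) (m' : ℕ)
    (g : ↥(Cfsg.Geo.quadSimilarityGroup (⇑Q))) :
    epsHom Q hv m' g = 1 ↔ ((g : GL ι F) : Matrix ι ι F).det = ((muFun Q g : Fˣ) : F) ^ m' := by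
  rw [epsHom_apply, mul_inv_eq_one, Units.ext_iff, Units.val_pow_eq_pow_val, detSim_val]

theorem epsHom_scalSim (hv : ∃ v, Q v ≠ 0) (m' : ℕ) (hcard : Fintype.card ι = 2 * m') (c : Fˣ) :
    epsHom Q hv m' (scalSim Q c) = 1 := by
  rw [epsHom_eq_one_iff, muFun_scalSim Q hv]
  show ((scalGL c : GL ι F) : Matrix ι ι F).det = _
  rw [det_scalGL, hcard, Units.val_mul, pow_mul, pow_two]

theorem units_neg_one_ne_one (h2 : (2 : F) ≠ 0) : (-1 : Fˣ) ≠ 1 := by
  intro h
  have h1 := congrArg Units.val h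
  rw [Units.val_neg, Units.val_one] at h1
  apply h2
  linear_combination -h1

/-- the sign of `epsHom` -/
noncomputable def TFun (hv : ∃ v, Q v ≠ 0) (m' : ℕ) (g : ↥(Cfsg.Geo.quadSimilarityGroup (⇑Q))) :
    ℤˣ := if epsHom Q hv m' g = 1 then 1 else -1

noncomputable def THom (h2 : (2 : F) ≠ 0) (hQ : (polarBilin Q).Nondegenerate)
    (hv : ∃ v, Q v ≠ 0) (m' : ℕ) (hcard : Fintype.card ι = 2 * m') :
    ↥(Cfsg.Geo.quadSimilarityGroup (⇑Q)) →* ℤˣ :=
  MonoidHom.mk' (TFun Q hv m') (by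
    intro g h
    unfold TFun
    rw [map_mul]
    rcases epsHom_sq Q hQ hv m' hcard g with hg | hg <;>
      rcases epsHom_sq Q hQ hv m' hcard h with hh | hh <;> rw [hg, hh] <;>
      simp [units_neg_one_ne_one h2])

theorem THom_eq_one_iff (h2 : (2 : F) ≠ 0) (hQ : (polarBilin Q).Nondegenerate)
    (hv : ∃ v, Q v ≠ 0) (m' : ℕ) (hcard : Fintype.card ι = 2 * m')
    (g : ↥(Cfsg.Geo.quadSimilarityGroup (⇑Q))) :
    THom Q h2 hQ hv m' hcard g = 1 ↔ epsHom Q hv m' g = 1 := by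
  show (if epsHom Q hv m' g = 1 then (1 : ℤˣ) else -1) = 1 ↔ _
  by_cases h : epsHom Q hv m' g = 1
  · rw [if_pos h]
    simp [h]
  · rw [if_neg h]
    simp [h]

/-- the pair (square class of the multiplier, determinant sign) -/
noncomputable def psi0 (h2 : (2 : F) ≠ 0) (hQ : (polarBilin Q).Nondegenerate)
    (hv : ∃ v, Q v ≠ 0) (m' : ℕ) (hcard : Fintype.card ι = 2 * m') :
    ↥(Cfsg.Geo.quadSimilarityGroup (⇑Q)) →* ℤˣ × ℤˣ :=
  ((quadraticChar F).toUnitHom.comp (muHom Q hv)).prod (THom Q h2 hQ hv m' hcard)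

theorem chiMu_eq_one_iff (hv : ∃ v, Q v ≠ 0) (g : ↥(Cfsg.Geo.quadSimilarityGroup (⇑Q))) :
    (quadraticChar F).toUnitHom (muHom Q hv g) = 1 ↔ IsSquare ((muFun Q g : Fˣ) : F) := by
  rw [Units.ext_iff, MulChar.coe_toUnitHom, muHom_apply, Units.val_one,
    quadraticChar_one_iff_isSquare (Units.ne_zero _)]

theorem psi0_eq_one_iff (h2 : (2 : F) ≠ 0) (hQ : (polarBilin Q).Nondegenerate)
    (hv : ∃ v, Q v ≠ 0) (m' : ℕ) (hcard : Fintype.card ι = 2 * m')
    (g : ↥(Cfsg.Geo.quadSimilarityGroup (⇑Q))) :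
    psi0 Q h2 hQ hv m' hcard g = 1 ↔
      IsSquare ((muFun Q g : Fˣ) : F) ∧ epsHom Q hv m' g = 1 := by
  unfold psi0
  rw [MonoidHom.prod_apply, Prod.mk_eq_one, MonoidHom.comp_apply, chiMu_eq_one_iff,
    THom_eq_one_iff]

/-- similarities with multiplier one and sign one are special isometries -/
theorem mem_spec_iff (hv : ∃ v, Q v ≠ 0) (m' : ℕ)
    (g : ↥(Cfsg.Geo.quadSimilarityGroup (⇑Q))) :
    g ∈ (Cfsg.specialIsometryGL F (⇑Q)).subgroupOf (Cfsg.Geo.quadSimilarityGroup (⇑Q)) ↔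
      muFun Q g = 1 ∧ epsHom Q hv m' g = 1 := by
  rw [Subgroup.mem_subgroupOf]
  unfold Cfsg.specialIsometryGL
  rw [Subgroup.mem_inf, mem_iso_iff]
  have hdet : (g : GL ι F) ∈ Cfsg.Geo.specialLinear ι F ↔
      ((g : GL ι F) : Matrix ι ι F).det = 1 := by
    unfold Cfsg.Geo.specialLinear
    rw [MonoidHom.mem_ker, Units.ext_iff]
    rfl
  rw [hdet, epsHom_eq_one_iff]
  constructor
  · rintro ⟨h1, h3⟩
    have hm : muFun Q g = 1 := by
      apply Units.ext
      apply muFun_unique Q hv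
      intro v
      rw [h1 v, Units.val_one, one_mul]
    refine ⟨hm, ?_⟩
    rw [h3, hm, Units.val_one, one_pow]
  · rintro ⟨h1, h3⟩
    constructor
    · intro v
      rw [muFun_spec, h1, Units.val_one, one_mul]
    · rw [h3, h1, Units.val_one, one_pow]

theorem klein_main (h2 : (2 : F) ≠ 0) (hQ : (polarBilin Q).Nondegenerate)
    (hn : 7 ≤ Fintype.card ι) (m' : ℕ) (hcard : Fintype.card ι = 2 * m')
    (hsim : ∃ g : ↥(Cfsg.Geo.quadSimilarityGroup (⇑Q)), ¬ IsSquare ((muFun Q g : Fˣ) : F)) :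
    ∃ φ : ↥(Cfsg.pgoAut F (⇑Q)) →* Multiplicative (ZMod 2 × ZMod 2),
      Function.Surjective φ ∧
        φ.ker = (Cfsg.psoAut F (⇑Q)).subgroupOf (Cfsg.pgoAut F (⇑Q)) := by
  obtain ⟨w, hw1⟩ := exists_Q_eq Q h2 hQ (by omega) 1 one_ne_zero
  have hw : Q w ≠ 0 := by rw [hw1]; exact one_ne_zero
  have hv : ∃ v, Q v ≠ 0 := ⟨w, hw⟩
  rw [pgoAut_eq, psoAut_eq]
  apply klein_of (PhiO (⇑Q)) _ (psi0 Q h2 hQ hv m' hcard)
  · -- surjectivity
    obtain ⟨h, hh⟩ := hsim
    obtain ⟨r, hr⟩ : ∃ r : ↥(Cfsg.Geo.quadSimilarityGroup (⇑Q)),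
        (r : GL ι F) = (reflG Q w hw : GL ι F) := ⟨⟨_, iso_le_sim (⇑Q) (reflG Q w hw).2⟩, rfl⟩
    have hrμ : muFun Q r = 1 := by
      apply Units.ext
      apply muFun_unique Q hv
      intro v
      rw [hr, Units.val_one, one_mul]
      exact (mem_iso_iff (⇑Q) _).mp (reflG Q w hw).2 v
    have hrε : epsHom Q hv m' r = -1 := by
      rw [epsHom_apply, hrμ, one_pow, inv_one, mul_one]
      apply Units.ext
      rw [detSim_val, hr, det_reflG]
      rfl
    apply surj_of_two _ r h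
    · unfold psi0
      rw [MonoidHom.prod_apply, MonoidHom.comp_apply, muHom_apply, hrμ, map_one]
      apply Prod.ext
      · rfl
      · show (if epsHom Q hv m' r = 1 then (1 : ℤˣ) else -1) = -1
        rw [hrε, if_neg (units_neg_one_ne_one h2)]
    · unfold psi0
      rw [MonoidHom.prod_apply, MonoidHom.comp_apply, muHom_apply]
      apply Units.ext
      rw [MulChar.coe_toUnitHom]
      exact quadraticChar_neg_one_iff_not_isSquare.mpr hh
  · -- kernel of the action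
    intro g hg
    rw [MonoidHom.mem_ker] at hg ⊢
    obtain ⟨c, hc⟩ := scalar_of_PhiO_eq_one Q hQ hn g hg
    have hmu : ((muFun Q g : Fˣ) : F) = c * c := by
      apply muFun_unique Q hv
      intro v
      rw [hc, Matrix.smul_mulVec, Matrix.one_mulVec, QuadraticMap.map_smul, smul_eq_mul]
    rw [psi0_eq_one_iff]
    refine ⟨⟨c, hmu⟩, ?_⟩
    rw [epsHom_eq_one_iff, hmu, hc, Matrix.det_smul, Matrix.det_one, mul_one, hcard, pow_mul,
      pow_two]
  · -- special isometries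
    intro s hs
    rw [MonoidHom.mem_ker, psi0_eq_one_iff]
    obtain ⟨h1, h3⟩ := (mem_spec_iff Q hv m' s).mp hs
    refine ⟨?_, h3⟩
    rw [h1, Units.val_one]
    exact ⟨1, (one_mul 1).symm⟩
  · -- lifting
    intro g hg
    obtain ⟨⟨c, hc⟩, hε⟩ := (psi0_eq_one_iff Q h2 hQ hv m' hcard g).mp hg
    have hc0 : c ≠ 0 := by
      rintro rfl
      rw [mul_zero] at hc
      exact Units.ne_zero _ hc
    obtain ⟨cu, hcu⟩ : ∃ cu : Fˣ, (cu : F) = c := ⟨Units.mk0 c hc0, rfl⟩
    have hmu : muFun Q g = cu * cu := by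
      apply Units.ext
      rw [hc, Units.val_mul, hcu]
    refine ⟨scalSim Q cu⁻¹ * g, ?_, ?_⟩
    · rw [mem_spec_iff Q hv m']
      constructor
      · have := map_mul (muHom Q hv) (scalSim Q cu⁻¹) g
        rw [muHom_apply, muHom_apply, muHom_apply] at this
        rw [this, muFun_scalSim Q hv, hmu]
        group
      · rw [map_mul, epsHom_scalSim Q hv m' hcard, hε, one_mul]
    · rw [map_mul, PhiO_scalSim, one_mul]

end autO5b

end Cfsg.Agent.helper13
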