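import Mathlib
import Cfsg.Agent.Lib_helper13_OrthE

set_option autoImplicit false

namespace Cfsg.Agent.helper13

open Module QuadraticMap Matrix

section plane
variable {F : Type*} [Field F] [Fintype F] {V : Type*} [AddCommGroup V] [Module F V]
  [FiniteDimensional F V]

theorem finrank_ker_polar (Q : QuadraticForm F V) (hQ : (polarBilin Q).Nondegenerate)
    (hdim : finrank F V = 2) (x : V) (hx : x ≠ 0) :
    finrank F (LinearMap.ker (polarBilin Q x)) = 1 := by
  obtain ⟨w, hw⟩ : ∃ w : V, polar (⇑Q) x w ≠ 0 := by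
    by_contra hcon
    push Not at hcon
    exact hx (hQ.1 x (fun y => by rw [polarBilin_apply_apply]; exact hcon y))
  have hsurj : Function.Surjective (polarBilin Q x) := by
    intro c
    refine ⟨(c / polar (⇑Q) x w) • w, ?_⟩
    rw [map_smul, polarBilin_apply_apply, smul_eq_mul, div_mul_cancel₀ _ hw]
  have h1 := LinearMap.finrank_range_add_finrank_ker (polarBilin Q x)
  rw [LinearMap.range_eq_top.mpr hsurj, finrank_top, Module.finrank_self, hdim] at h1
  omega

theorem card_perp (Q : QuadraticForm F V) (hQ : (polarBilin Q).Nondegenerate)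
    (hdim : finrank F V = 2) (x : V) (hx : x ≠ 0) :
    Nat.card {d : V // polar (⇑Q) x d = 0} = Fintype.card F := by
  have e : {d : V // polar (⇑Q) x d = 0} ≃ LinearMap.ker (polarBilin Q x) :=
    Equiv.subtypeEquivRight (fun d => by rw [LinearMap.mem_ker, polarBilin_apply_apply])
  rw [Nat.card_congr e, Module.natCard_eq_pow_finrank (K := F) (V := LinearMap.ker (polarBilin Q x)),
    finrank_ker_polar Q hQ hdim x hx, pow_one, Nat.card_eq_fintype_card]

theorem Q_add' (Q : QuadraticForm F V) (x y : V) : Q (x + y) = Q x + Q y + polar (⇑Q) x y := by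
  unfold polar; ring

theorem conic_scale_bij (Q : QuadraticForm F V) (haniso : ∀ v, Q v = 0 → v = 0) (e : V) :
    Function.Bijective (fun p : {d : V // d ≠ 0 ∧ Q d + polar (⇑Q) e d = 0} × Fˣ =>
      (⟨(p.2 : F) • p.1.1, by
        rw [polar_smul_right, smul_eq_mul]
        have h1 := p.1.2.2
        have h2 : Q p.1.1 ≠ 0 := fun h => p.1.2.1 (haniso _ h)
        have h3 : polar (⇑Q) e p.1.1 = - Q p.1.1 := by linear_combination h1
        rw [h3]
        exact mul_ne_zero (Units.ne_zero p.2) (neg_ne_zero.mpr h2)⟩ :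
        {d' : V // polar (⇑Q) e d' ≠ 0})) := by
  constructor
  · rintro ⟨⟨d, hd0, hd⟩, s⟩ ⟨⟨d', hd0', hd'⟩, s'⟩ h
    have h1 : (s : F) • d = (s' : F) • d' := congrArg Subtype.val h
    have hQd : Q d ≠ 0 := fun h => hd0 (haniso _ h)
    have hQd' : Q d' ≠ 0 := fun h => hd0' (haniso _ h)
    have hs : (s : F) ≠ 0 := Units.ne_zero s
    have hs' : (s' : F) ≠ 0 := Units.ne_zero s'
    -- s is determined by w = s d
    have e1 : Q ((s : F) • d) = (s : F) * (s : F) * Q d := by
      rw [QuadraticMap.map_smul]; rfl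
    have e2 : polar (⇑Q) e ((s : F) • d) = - ((s : F) * Q d) := by
      rw [polar_smul_right, smul_eq_mul]; linear_combination (s : F) * hd
    have e1' : Q ((s' : F) • d') = (s' : F) * (s' : F) * Q d' := by
      rw [QuadraticMap.map_smul]; rfl
    have e2' : polar (⇑Q) e ((s' : F) • d') = - ((s' : F) * Q d') := by
      rw [polar_smul_right, smul_eq_mul]; linear_combination (s' : F) * hd'
    rw [h1] at e1 e2
    have hss : (s : F) = s' := by
      have h3 : (s : F) * ((s' : F) * Q d') = (s' : F) * ((s' : F) * Q d') := by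
        have h4 : (s : F) * ((s : F) * Q d) = (s' : F) * ((s' : F) * Q d') := by
          linear_combination e1' - e1
        have h5 : (s : F) * Q d = (s' : F) * Q d' := by
          linear_combination e2 - e2'
        rw [h5] at h4
        exact h4
      exact mul_right_cancel₀ (mul_ne_zero hs' hQd') h3
    have hdd : d = d' := by
      rw [hss] at h1
      exact smul_right_injective V hs' h1
    subst hdd
    rw [Units.ext hss]
  · rintro ⟨d', hd'⟩
    have hd0 : d' ≠ 0 := by
      intro h0
      rw [h0, polar_zero_right] at hd'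
      exact hd' rfl
    have hQd : Q d' ≠ 0 := fun h => hd0 (haniso _ h)
    set t : F := - polar (⇑Q) e d' / Q d' with ht
    have ht0 : t ≠ 0 := div_ne_zero (neg_ne_zero.mpr hd') hQd
    refine ⟨(⟨t • d', smul_ne_zero ht0 hd0, ?_⟩, Units.mk0 t⁻¹ (inv_ne_zero ht0)), ?_⟩
    · rw [QuadraticMap.map_smul, polar_smul_right, smul_eq_mul, smul_eq_mul, ht]
      field_simp
      ring
    · apply Subtype.ext
      simp only [Units.val_mk0]
      rw [smul_smul, inv_mul_cancel₀ ht0, one_smul]

theorem card_conic (Q : QuadraticForm F V) (hQ : (polarBilin Q).Nondegenerate)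
    (hdim : finrank F V = 2) (haniso : ∀ v, Q v = 0 → v = 0) (e : V) (he : Q e = 1) :
    Nat.card {x : V // Q x = 1} = Fintype.card F + 1 := by
  classical
  haveI : Finite V := Module.finite_of_finite F
  haveI : Fintype V := Fintype.ofFinite V
  have he0 : e ≠ 0 := by
    intro h0
    rw [h0, QuadraticMap.map_zero] at he
    exact zero_ne_one he
  have hq : 2 ≤ Fintype.card F := Fintype.one_lt_card
  -- step 2
  have e1 : {x : V // Q x = 1} ≃ {d : V // Q d + polar (⇑Q) e d = 0} :=
    Equiv.subtypeEquiv (Equiv.subRight e) (fun x => by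
      have hx : x = e + (x - e) := by abel
      conv_lhs => rw [hx, Q_add', he]
      simp only [Equiv.subRight_apply]
      constructor
      · intro h; linear_combination h
      · intro h; linear_combination h)
  rw [Nat.card_congr e1]
  -- step 3
  have h3 : Nat.card {d : V // Q d + polar (⇑Q) e d = 0} =
      Nat.card {d : V // d ≠ 0 ∧ Q d + polar (⇑Q) e d = 0} + 1 := by
    rw [Nat.card_eq_fintype_card, Nat.card_eq_fintype_card, Fintype.card_subtype,
      Fintype.card_subtype]
    have hsub : (Finset.univ.filter (fun d : V => d ≠ 0 ∧ Q d + polar (⇑Q) e d = 0)) =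
        (Finset.univ.filter (fun d : V => Q d + polar (⇑Q) e d = 0)).erase 0 := by
      ext d
      simp only [Finset.mem_filter, Finset.mem_univ, true_and, Finset.mem_erase]
    have h0 : (0 : V) ∈ Finset.univ.filter (fun d : V => Q d + polar (⇑Q) e d = 0) := by
      simp
    rw [hsub, Finset.card_erase_of_mem h0]
    have := Finset.card_pos.mpr ⟨0, h0⟩
    omega
  rw [h3]
  -- step 4
  have h4 := Nat.card_congr (Equiv.ofBijective _ (conic_scale_bij Q haniso e))
  rw [Nat.card_prod, Nat.card_units] at h4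
  have h5 : Nat.card {d' : V // polar (⇑Q) e d' ≠ 0} =
      Fintype.card F ^ 2 - Fintype.card F := by
    rw [Nat.card_eq_fintype_card, Fintype.card_subtype_compl, ← Nat.card_eq_fintype_card (α := {d : V // polar (⇑Q) e d = 0}),
      card_perp Q hQ hdim e he0, Module.card_eq_pow_finrank (K := F) (V := V), hdim]
  rw [h5, Nat.card_eq_fintype_card (α := F)] at h4
  have h6 : Fintype.card F ^ 2 - Fintype.card F = Fintype.card F * (Fintype.card F - 1) := by
    rw [Nat.mul_sub, mul_one, _root_.sq]
  rw [h6] at h4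
  have h7 := Nat.eq_of_mul_eq_mul_right (by omega : 0 < Fintype.card F - 1) h4
  rw [h7]

theorem card_fiber_two (Q : QuadraticForm F V) (hQ : (polarBilin Q).Nondegenerate)
    (hdim : finrank F V = 2) (a b : F) (hD : 4 * b - a ^ 2 ≠ 0) (x y₁ : V) (hx : Q x = 1)
    (hy₁ : Q y₁ = b) (hxy : polar (⇑Q) x y₁ = a) :
    Nat.card {y : V // Q y = b ∧ polar (⇑Q) x y = a} = 2 := by
  classical
  haveI : Finite V := Module.finite_of_finite F
  haveI : Fintype V := Fintype.ofFinite V
  have hx0 : x ≠ 0 := by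
    intro h0
    rw [h0, QuadraticMap.map_zero] at hx
    exact zero_ne_one hx
  set x' : V := a • x - (2 : F) • y₁ with hx'
  have hpxx : polar (⇑Q) x x = 2 := by rw [polar_self', hx, mul_one]
  have hpyy : polar (⇑Q) y₁ y₁ = 2 * b := by rw [polar_self', hy₁]
  have hpyx : polar (⇑Q) y₁ x = a := by rw [polar_comm]; exact hxy
  have hx'perp : polar (⇑Q) x x' = 0 := by
    rw [hx', polar_sub_right, polar_smul_right, polar_smul_right, hpxx, hxy]
    simp only [smul_eq_mul]; ring
  have hQx' : Q x' = 4 * b - a ^ 2 := by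
    have e1 : x' = a • x + (-2 : F) • y₁ := by rw [hx', neg_smul, sub_eq_add_neg]
    rw [e1, Q_comb2, hx, hy₁, hxy]; ring
  have hpy₁x' : polar (⇑Q) y₁ x' = -(4 * b - a ^ 2) := by
    rw [hx', polar_sub_right, polar_smul_right, polar_smul_right, hpyx, hpyy]
    simp only [smul_eq_mul]; ring
  have hx'0 : x' ≠ 0 := by
    intro h0
    rw [h0, QuadraticMap.map_zero] at hQx'
    exact hD hQx'.symm
  -- every element of the orthogonal of x is a multiple of x'
  have hmult : ∀ d : V, polar (⇑Q) x d = 0 → ∃ r : F, d = r • x' := by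
    intro d hd
    have hfr := finrank_ker_polar Q hQ hdim x hx0
    have hmemx' : x' ∈ LinearMap.ker (polarBilin Q x) := by
      rw [LinearMap.mem_ker, polarBilin_apply_apply]; exact hx'perp
    have hmemd : d ∈ LinearMap.ker (polarBilin Q x) := by
      rw [LinearMap.mem_ker, polarBilin_apply_apply]; exact hd
    have hne : (⟨x', hmemx'⟩ : LinearMap.ker (polarBilin Q x)) ≠ 0 := by
      intro h
      exact hx'0 (congrArg Subtype.val h)
    obtain ⟨c, hc⟩ := (finrank_eq_one_iff_of_nonzero' _ hne).mp hfr ⟨d, hmemd⟩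
    refine ⟨c, ?_⟩
    have := congrArg Subtype.val hc
    exact this.symm
  have hset : (Finset.univ.filter (fun y : V => Q y = b ∧ polar (⇑Q) x y = a)) =
      {y₁, a • x - y₁} := by
    ext y
    simp only [Finset.mem_filter, Finset.mem_univ, true_and, Finset.mem_insert,
      Finset.mem_singleton]
    constructor
    · rintro ⟨hy, hxy'⟩
      have hd : polar (⇑Q) x (y - y₁) = 0 := by
        rw [polar_sub_right, hxy', hxy, sub_self]
      obtain ⟨r, hr⟩ := hmult _ hd
      have hy' : y = y₁ + r • x' := by rw [← hr]; abel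
      have hQ' : Q y = b + r * r * (4 * b - a ^ 2) + r * (-(4 * b - a ^ 2)) := by
        rw [hy', Q_add', hy₁, QuadraticMap.map_smul, polar_smul_right, hQx', hpy₁x']
        simp only [smul_eq_mul]
      rw [hy] at hQ'
      have hr' : r * (r - 1) * (4 * b - a ^ 2) = 0 := by linear_combination -hQ'
      rcases mul_eq_zero.mp hr' with h1 | h1
      · rcases mul_eq_zero.mp h1 with h2 | h2
        · left; rw [hy', h2, zero_smul, add_zero]
        · right
          have : r = 1 := by linear_combination h2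
          rw [hy', this, one_smul, hx']
          rw [two_smul]; abel
      · exact absurd h1 hD
    · rintro (rfl | rfl)
      · exact ⟨hy₁, hxy⟩
      · constructor
        · have e1 : a • x - y₁ = a • x + (-1 : F) • y₁ := by rw [neg_smul, one_smul, sub_eq_add_neg]
          rw [e1, Q_comb2, hx, hy₁, hxy]; ring
        · rw [polar_sub_right, polar_smul_right, hpxx, hxy]
          simp only [smul_eq_mul]; ring
  rw [Nat.card_eq_fintype_card, Fintype.card_subtype, hset, Finset.card_pair]
  intro h
  apply hx'0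
  rw [hx', two_smul]
  have : a • x - y₁ - y₁ = 0 := by rw [← h]; abel
  rw [← this]; abel

theorem exists_partner_plane (Q : QuadraticForm F V) (hQ : (polarBilin Q).Nondegenerate)
    (a b : F) (e₁ e₂ : V) (he₁ : Q e₁ = 1) (he₂ : Q e₂ = b) (he : polar (⇑Q) e₁ e₂ = a)
    (x : V) (hx : Q x = 1) : ∃ y₁ : V, Q y₁ = b ∧ polar (⇑Q) x y₁ = a := by
  have he0 : e₁ ≠ 0 := by
    intro h0
    rw [h0, QuadraticMap.map_zero] at he₁
    exact zero_ne_one he₁
  have hx0 : x ≠ 0 := by
    intro h0
    rw [h0, QuadraticMap.map_zero] at hx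
    exact zero_ne_one hx
  obtain ⟨w, hw⟩ : ∃ w : V, polar (⇑Q) e₁ w = 1 := by
    obtain ⟨w, hw⟩ : ∃ w : V, polar (⇑Q) e₁ w ≠ 0 := by
      by_contra hcon
      push Not at hcon
      exact he0 (hQ.1 e₁ (fun y => by rw [polarBilin_apply_apply]; exact hcon y))
    exact ⟨(polar (⇑Q) e₁ w)⁻¹ • w, by rw [polar_smul_right, smul_eq_mul, inv_mul_cancel₀ hw]⟩
  set g : V →ₗ[F] V := ((polarBilin Q).flip w).smulRight x with hg
  have hgU : ∀ c : F, g (c • e₁) = c • x := by
    intro c
    simp [hg, polar_smul_left, hw]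
  obtain ⟨γ, hγ, hγU⟩ := Cfsg.Agent.S0750.witt Q hQ _ (Submodule.span F {e₁}) g rfl
    (by
      intro v hv
      obtain ⟨c, rfl⟩ := Submodule.mem_span_singleton.mp hv
      rw [hgU, QuadraticMap.map_smul, QuadraticMap.map_smul, hx, he₁])
    (by
      intro v hv hv0
      obtain ⟨c, rfl⟩ := Submodule.mem_span_singleton.mp hv
      rw [hgU] at hv0
      rcases smul_eq_zero.mp hv0 with h | h
      · rw [h, zero_smul]
      · exact absurd h hx0)
  have hγe : γ e₁ = x := by
    have := hγU e₁ (Submodule.mem_span_singleton_self e₁)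
    rw [this]
    have := hgU 1
    simpa using this
  refine ⟨γ e₂, ?_, ?_⟩
  · rw [hγ, he₂]
  · rw [← hγe, iso_polar Q γ hγ, he]

theorem card_pairs_plane (Q : QuadraticForm F V) (hQ : (polarBilin Q).Nondegenerate)
    (hdim : finrank F V = 2) (haniso : ∀ v, Q v = 0 → v = 0)
    (a b : F) (hD : 4 * b - a ^ 2 ≠ 0) (e₁ e₂ : V) (he₁ : Q e₁ = 1) (he₂ : Q e₂ = b)
    (he : polar (⇑Q) e₁ e₂ = a) :
    Nat.card {p : V × V // Q p.1 = 1 ∧ Q p.2 = b ∧ polar (⇑Q) p.1 p.2 = a} =
      2 * (Fintype.card F + 1) := by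
  classical
  haveI : Finite V := Module.finite_of_finite F
  haveI : Fintype V := Fintype.ofFinite V
  have e : {p : V × V // Q p.1 = 1 ∧ Q p.2 = b ∧ polar (⇑Q) p.1 p.2 = a} ≃
      Σ x : {x : V // Q x = 1}, {y : V // Q y = b ∧ polar (⇑Q) x.1 y = a} :=
    { toFun := fun p => ⟨⟨p.1.1, p.2.1⟩, ⟨p.1.2, p.2.2.1, p.2.2.2⟩⟩
      invFun := fun x => ⟨(x.1.1, x.2.1), x.1.2, x.2.2.1, x.2.2.2⟩
      left_inv := fun p => rfl
      right_inv := fun x => rfl }
  rw [Nat.card_congr e, Nat.card_sigma]
  have hconst : ∀ x : {x : V // Q x = 1},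
      Nat.card {y : V // Q y = b ∧ polar (⇑Q) x.1 y = a} = 2 := by
    intro x
    obtain ⟨y₁, hy₁, hxy⟩ := exists_partner_plane Q hQ a b e₁ e₂ he₁ he₂ he x.1 x.2
    exact card_fiber_two Q hQ hdim a b hD x.1 y₁ x.2 hy₁ hxy
  simp only [hconst]
  rw [Finset.sum_const, Finset.card_univ, smul_eq_mul, ← Nat.card_eq_fintype_card,
    card_conic Q hQ hdim haniso e₁ he₁, mul_comm]

end plane

end Cfsg.Agent.helper13
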