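import Mathlib
import Cfsg.Agent.Lib_helper13_OrthF

set_option autoImplicit false

namespace Cfsg.Agent.helper13

open Module QuadraticMap Matrix

section minusdefs
variable (F : Type*) [Field F]

/-- Splitting off the first hyperbolic pair of the minus-shaped form. -/
def psiMinus (k : ℕ) : (F × F × ((Fin k ⊕ Fin k) ⊕ Fin 2 → F)) ≃ₗ[F]
    ((Fin (k+1) ⊕ Fin (k+1)) ⊕ Fin 2 → F) where
  toFun x := Sum.elim
    (Sum.elim (Fin.cons x.1 (fun i => x.2.2 (Sum.inl (Sum.inl i))))
      (Fin.cons x.2.1 (fun i => x.2.2 (Sum.inl (Sum.inr i)))))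
    (fun t => x.2.2 (Sum.inr t))
  map_add' x y := by
    funext s
    rcases s with (i | i) | t
    · refine Fin.cases ?_ (fun j => ?_) i <;> simp
    · refine Fin.cases ?_ (fun j => ?_) i <;> simp
    · simp
  map_smul' c x := by
    funext s
    rcases s with (i | i) | t
    · refine Fin.cases ?_ (fun j => ?_) i <;> simp
    · refine Fin.cases ?_ (fun j => ?_) i <;> simp
    · simp
  invFun v := (v (Sum.inl (Sum.inl 0)), v (Sum.inl (Sum.inr 0)),
    Sum.elim
      (Sum.elim (fun i => v (Sum.inl (Sum.inl i.succ))) (fun i => v (Sum.inl (Sum.inr i.succ))))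
      (fun t => v (Sum.inr t)))
  left_inv x := by
    obtain ⟨a, b, u⟩ := x
    simp only [Sum.elim_inl, Sum.elim_inr, Fin.cons_zero, Fin.cons_succ]
    congr 2
    funext s
    rcases s with (i | i) | t <;> rfl
  right_inv v := by
    funext s
    rcases s with (i | i) | t
    · refine Fin.cases ?_ (fun j => ?_) i <;> simp
    · refine Fin.cases ?_ (fun j => ?_) i <;> simp
    · simp

theorem psiMinus_form (k : ℕ) (a b : F) (x : F × F × ((Fin k ⊕ Fin k) ⊕ Fin 2 → F)) :
    Cfsg.quadFormMinus (k+1) F a b (psiMinus F k x) =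
      x.1 * x.2.1 + Cfsg.quadFormMinus k F a b x.2.2 := by
  simp only [psiMinus, Cfsg.quadFormMinus, LinearEquiv.coe_mk, LinearMap.coe_mk, AddHom.coe_mk,
    Sum.elim_inl, Sum.elim_inr]
  rw [Fin.sum_univ_succ]
  simp
  ring

end minusdefs

section minusCount
variable {F : Type*} [Field F] [Fintype F]

/-- An anisotropic binary form over a finite field has nonzero discriminant. -/
theorem disc_ne_zero_of_aniso (a b : F)
    (hab : ∀ z₁ z₂ : F, z₁ ^ 2 + a * z₁ * z₂ + b * z₂ ^ 2 = 0 → z₁ = 0 ∧ z₂ = 0) :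
    4 * b - a ^ 2 ≠ 0 := by
  intro hD
  by_cases h2 : (2 : F) = 0
  · -- characteristic two
    have ha : a = 0 := by
      have h4 : (4 : F) = 0 := by
        have : (4 : F) = 2 * 2 := by norm_num
        rw [this, h2, mul_zero]
      rw [h4, zero_mul, zero_sub, neg_eq_zero] at hD
      exact pow_eq_zero_iff (by norm_num) |>.mp hD
    haveI : CharP F 2 := CharTwo.of_one_ne_zero_of_two_eq_zero one_ne_zero h2
    obtain ⟨c, hc⟩ := FiniteField.isSquare_of_char_two (F := F) (ringChar.eq F 2) b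
    have := (hab c 1 (by
      rw [ha, hc]
      have : c ^ 2 + 0 * c * 1 + c * c * 1 ^ 2 = 2 * (c * c) := by ring
      rw [this, h2, zero_mul])).2
    exact one_ne_zero this
  · have := (hab (-a) 2 (by linear_combination hD)).2
    exact h2 this

theorem zeros_minus' (k : ℕ) (a b : F)
    (hab : ∀ z₁ z₂ : F, z₁ ^ 2 + a * z₁ * z₂ + b * z₂ ^ 2 = 0 → z₁ = 0 ∧ z₂ = 0) :
    zeros (Cfsg.quadFormMinus k F a b) =
      Fintype.card F ^ k + Fintype.card F ^ 2 * Cfsg.Agent.S2617.cseq (Fintype.card F) k := by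
  classical
  have h := Cfsg.Agent.S2617.T_closed (F := F) k
    (fun z : Fin 2 → F => z 0 ^ 2 + a * z 0 * z 1 + b * z 1 ^ 2)
  have hz : zeros (fun z : Fin 2 → F => z 0 ^ 2 + a * z 0 * z 1 + b * z 1 ^ 2) = 1 := by
    unfold zeros
    rw [Finset.card_eq_one]
    refine ⟨0, ?_⟩
    ext z
    simp only [Finset.mem_filter, Finset.mem_univ, true_and, Finset.mem_singleton]
    constructor
    · intro hz
      obtain ⟨h0, h1⟩ := hab _ _ hz
      funext i
      fin_cases i
      · exact h0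
      · exact h1
    · rintro rfl
      simp
  rw [hz] at h
  simp only [mul_one, Fintype.card_pi, Finset.prod_const, Finset.card_univ, Fintype.card_fin] at h
  rw [← h]
  unfold Cfsg.Agent.S2617.T
  apply zeros_congr (Equiv.sumArrowEquivProdArrow (Fin k ⊕ Fin k) (Fin 2) F)
  intro v
  simp [Equiv.sumArrowEquivProdArrow, Cfsg.quadFormMinus, Cfsg.quadFormPlus]

theorem card_minus_succ (k : ℕ) (a b : F)
    (hab : ∀ z₁ z₂ : F, z₁ ^ 2 + a * z₁ * z₂ + b * z₂ ^ 2 = 0 → z₁ = 0 ∧ z₂ = 0) :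
    Nat.card (Cfsg.isometryGroup F (Cfsg.quadFormMinus (k+1) F a b)) =
      (zeros (Cfsg.quadFormMinus (k+1) F a b) - 1) * Fintype.card F ^ (2 * k + 2) *
        Nat.card (Cfsg.isometryGroup F (Cfsg.quadFormMinus k F a b)) := by
  have hD := disc_ne_zero_of_aniso a b hab
  have h := card_iso_step (QMinus F (k+1) a b) (QMinus F k a b) (QMinus_nondeg (k+1) a b hD)
    (QMinus_nondeg k a b hD) (psiMinus F k)
    (fun x => by rw [QMinus_apply, QMinus_apply]; exact psiMinus_form F k a b x)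
  rw [QMinus_coe, QMinus_coe] at h
  rw [h]
  have e1 : Fintype.card ((Fin (k + 1) ⊕ Fin (k + 1)) ⊕ Fin 2) - 2 = 2 * k + 2 := by
    simp only [Fintype.card_sum, Fintype.card_fin]; omega
  rw [e1]

theorem vec_minus_zero (v : (Fin 0 ⊕ Fin 0) ⊕ Fin 2 → F) :
    v = v (Sum.inr 0) • Pi.single (Sum.inr 0) (1 : F) + v (Sum.inr 1) • Pi.single (Sum.inr 1) (1 : F) := by
  funext s
  rcases s with (i | i) | t
  · exact i.elim0
  · exact i.elim0
  · fin_cases t <;> simp

theorem card_minus_zero (a b : F)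
    (hab : ∀ z₁ z₂ : F, z₁ ^ 2 + a * z₁ * z₂ + b * z₂ ^ 2 = 0 → z₁ = 0 ∧ z₂ = 0) :
    Nat.card (Cfsg.isometryGroup F (Cfsg.quadFormMinus 0 F a b)) = 2 * (Fintype.card F + 1) := by
  classical
  have hD := disc_ne_zero_of_aniso a b hab
  have hnd := QMinus_nondeg (F := F) 0 a b hD
  have hcoe := QMinus_coe F 0 a b
  rw [← hcoe, card_isometryGroup_eq (QMinus F 0 a b) hnd]
  set Q := QMinus F 0 a b with hQdef
  set e₁ : (Fin 0 ⊕ Fin 0) ⊕ Fin 2 → F := Pi.single (Sum.inr 0) 1 with he₁def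
  set e₂ : (Fin 0 ⊕ Fin 0) ⊕ Fin 2 → F := Pi.single (Sum.inr 1) 1 with he₂def
  have he₁ : Q e₁ = 1 := by rw [hQdef, QMinus_apply, quadFormMinus_single_zero]
  have he₂ : Q e₂ = b := by rw [hQdef, QMinus_apply, quadFormMinus_single_one]
  have he : polar (⇑Q) e₁ e₂ = a := by
    rw [hQdef, polar_QMinus_single]
    simp [Cfsg.Agent.S2621.gramMinus]
  have hdim : finrank F ((Fin 0 ⊕ Fin 0) ⊕ Fin 2 → F) = 2 := by
    rw [Module.finrank_fintype_fun_eq_card]
    simp
  have haniso : ∀ v, Q v = 0 → v = 0 := by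
    intro v hv
    rw [hQdef, QMinus_apply] at hv
    unfold Cfsg.quadFormMinus at hv
    simp only [Finset.univ_eq_empty, Finset.sum_empty, zero_add] at hv
    obtain ⟨h0, h1⟩ := hab _ _ hv
    rw [vec_minus_zero v, h0, h1]
    simp
  rw [← card_pairs_plane Q hnd hdim haniso a b hD e₁ e₂ he₁ he₂ he]
  apply Nat.card_congr
  exact
    { toFun := fun L => ⟨(L.1 e₁, L.1 e₂), by
        refine ⟨?_, ?_, ?_⟩
        · rw [L.2]; exact he₁
        · rw [L.2]; exact he₂
        · rw [iso_polar Q L.1 L.2]; exact he⟩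
      invFun := fun p => ⟨(LinearMap.proj (Sum.inr 0)).smulRight p.1.1 +
          (LinearMap.proj (Sum.inr 1)).smulRight p.1.2, fun v => by
        obtain ⟨h1, h2, h3⟩ := p.2
        simp only [LinearMap.add_apply, LinearMap.smulRight_apply, LinearMap.proj_apply]
        rw [Q_comb2, h1, h2, h3]
        conv_rhs => rw [hQdef, QMinus_apply]
        unfold Cfsg.quadFormMinus
        simp only [Finset.univ_eq_empty, Finset.sum_empty, zero_add]
        ring⟩
      left_inv := fun L => by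
        apply Subtype.ext
        apply LinearMap.ext
        intro v
        simp only [LinearMap.add_apply, LinearMap.smulRight_apply, LinearMap.proj_apply]
        conv_rhs => rw [vec_minus_zero v]
        rw [map_add, map_smul, map_smul]
      right_inv := fun p => by
        apply Subtype.ext
        apply Prod.ext
        · simp [he₁def]
        · simp [he₂def] }

/-- arithmetic: number of nonzero singular vectors of the minus form. -/
theorem minus_sing_count (q : ℕ) (hq : 1 ≤ q) (j : ℕ) :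
    q ^ (j + 1) + q ^ 2 * Cfsg.Agent.S2617.cseq q (j + 1) - 1 =
      (q ^ (j + 2) + 1) * (q ^ (j + 1) - 1) := by
  have hid := Cfsg.Agent.S2617.cseq_id q hq (j + 1)
  have h2 : 1 ≤ q ^ (j + 1) := Nat.one_le_pow _ _ hq
  have h3 : 1 ≤ q ^ (j + 1) + q ^ 2 * Cfsg.Agent.S2617.cseq q (j + 1) := by omega
  zify [h2, h3]
  have hid' : (q : ℤ) * (Cfsg.Agent.S2617.cseq q (j + 1) : ℤ) + (q : ℤ) ^ (j + 1) =
      (q : ℤ) ^ (2 * (j + 1)) := by exact_mod_cast hid
  have hq0 : (q : ℤ) ≠ 0 := by exact_mod_cast (by omega : q ≠ 0)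
  have hc : (Cfsg.Agent.S2617.cseq q (j + 1) : ℤ) = (q : ℤ) * ((q : ℤ) ^ j) ^ 2 - (q : ℤ) ^ j := by
    apply mul_left_cancel₀ hq0
    have e1 : (q : ℤ) ^ (2 * (j + 1)) = (q : ℤ) ^ 2 * ((q : ℤ) ^ j) ^ 2 := by ring
    have e2 : (q : ℤ) ^ (j + 1) = (q : ℤ) * (q : ℤ) ^ j := by ring
    rw [e1, e2] at hid'
    linear_combination hid'
  rw [hc]
  ring

theorem card_minus (k : ℕ) (a b : F)
    (hab : ∀ z₁ z₂ : F, z₁ ^ 2 + a * z₁ * z₂ + b * z₂ ^ 2 = 0 → z₁ = 0 ∧ z₂ = 0) :
    Nat.card (Cfsg.isometryGroup F (Cfsg.quadFormMinus k F a b)) =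
      2 * Fintype.card F ^ ((k + 1) * k) * (Fintype.card F ^ (k + 1) + 1) *
        ∏ i ∈ Finset.range k, (Fintype.card F ^ (2 * (i + 1)) - 1) := by
  have hq : 1 ≤ Fintype.card F := Fintype.card_pos
  induction k with
  | zero =>
    rw [card_minus_zero a b hab]
    simp
  | succ k ih =>
    rw [card_minus_succ k a b hab, ih, zeros_minus' (k+1) a b hab, minus_sing_count _ hq,
      Finset.prod_range_succ]
    have h1 : 1 ≤ Fintype.card F ^ (k + 1) := Nat.one_le_pow _ _ hq
    have e1 : Fintype.card F ^ (2 * (k + 1)) - 1 =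
        (Fintype.card F ^ (k + 1) - 1) * (Fintype.card F ^ (k + 1) + 1) := by
      have h2 : 1 ≤ Fintype.card F ^ (2 * (k + 1)) := Nat.one_le_pow _ _ hq
      zify [h1, h2]
      ring
    rw [e1]
    have e2 : Fintype.card F ^ ((k + 1 + 1) * (k + 1)) =
        Fintype.card F ^ (2 * k + 2) * Fintype.card F ^ ((k + 1) * k) := by
      rw [← pow_add]; congr 1; ring
    rw [e2]
    ring

end minusCount

end Cfsg.Agent.helper13
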