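import Mathlib
import Cfsg.Agent.Lib_helper13_AutO5
import Cfsg.Agent.Lib_helper13_QStd
import Cfsg.Agent.Lib_helper13_OrthG

/-! Similarities of the standard even-dimensional forms with a prescribed multiplier. -/

set_option autoImplicit false

namespace Cfsg.Agent.helper13

open Matrix QuadraticMap Module

section autO6
variable {F : Type*} [Field F]

/-- the diagonal scaling of the first halves of the hyperbolic pairs -/
def dPlus (m : ℕ) (l : F) : Fin m ⊕ Fin m → F := Sum.elim (fun _ => l) (fun _ => 1)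

theorem exists_sim_plus (m : ℕ) (hm : 1 ≤ m) (l : F) (hl : l ≠ 0) :
    ∃ g : ↥(Cfsg.Geo.quadSimilarityGroup (⇑(QPlus F m))),
      ((muFun (QPlus F m) g : Fˣ) : F) = l := by
  have hdet : (Matrix.diagonal (dPlus m l)).det ≠ 0 := by
    rw [Matrix.det_diagonal, Fintype.prod_sum_type]
    simp [dPlus, hl]
  have hval : ∀ v, QPlus F m ((Matrix.diagonal (dPlus m l)) *ᵥ v) = l * QPlus F m v := by
    intro v
    rw [QPlus_apply, QPlus_apply]
    unfold Cfsg.quadFormPlus
    rw [Finset.mul_sum]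
    apply Finset.sum_congr rfl
    intro i _
    rw [Matrix.mulVec_diagonal, Matrix.mulVec_diagonal]
    simp only [dPlus, Sum.elim_inl, Sum.elim_inr]
    ring
  have hv : ∃ v, QPlus F m v ≠ 0 := by
    refine ⟨Pi.single (Sum.inl ⟨0, hm⟩) 1 + Pi.single (Sum.inr ⟨0, hm⟩) 1, ?_⟩
    rw [QPlus_apply]
    unfold Cfsg.quadFormPlus
    rw [Finset.sum_eq_single ⟨0, hm⟩]
    · simp
    · intro j _ hj
      simp [hj]
    · intro h
      exact absurd (Finset.mem_univ _) h
  refine ⟨⟨Matrix.GeneralLinearGroup.mkOfDetNeZero _ hdet, ⟨Units.mk0 l hl, hval⟩⟩, ?_⟩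
  apply muFun_unique _ hv
  exact hval

/-- multiplication by `x + y ω` on the binary norm form -/
def bMinus (a b x y : F) : Matrix (Fin 2) (Fin 2) F := !![x, -(b * y); y, x + a * y]

theorem exists_binary_rep [Fintype F] (h2 : (2 : F) ≠ 0) (a b : F) (hD : 4 * b - a ^ 2 ≠ 0)
    (l : F) : ∃ x y : F, x ^ 2 + a * x * y + b * y ^ 2 = l := by
  have hcard : Fintype.card F % 2 = 1 := by
    apply FiniteField.odd_card_of_char_ne_two
    intro hch
    haveI : CharP F 2 := ringChar.of_eq hch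
    apply h2
    have := CharP.cast_eq_zero F 2
    exact_mod_cast this
  have h4 : (4 : F) ≠ 0 := by
    have : (4 : F) = 2 * 2 := by norm_num
    rw [this]
    exact mul_ne_zero h2 h2
  have hd : (4 * b - a ^ 2) / 4 ≠ 0 := div_ne_zero hD h4
  have hf2 : (Polynomial.X ^ 2 : Polynomial F).degree = 2 := by
    rw [Polynomial.degree_X_pow]
    rfl
  have hg2 : (Polynomial.C ((4 * b - a ^ 2) / 4) * Polynomial.X ^ 2 + Polynomial.C (-l) :
      Polynomial F).degree = 2 := by
    rw [Polynomial.degree_add_C, Polynomial.degree_C_mul_X_pow 2 hd]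
    · rfl
    · rw [Polynomial.degree_C_mul_X_pow 2 hd]; decide
  obtain ⟨s, t, hst⟩ := FiniteField.exists_root_sum_quadratic hf2 hg2 hcard
  simp only [Polynomial.eval_add, Polynomial.eval_mul, Polynomial.eval_C, Polynomial.eval_pow,
    Polynomial.eval_X] at hst
  refine ⟨s - a * t / 2, t, ?_⟩
  field_simp
  field_simp at hst
  linear_combination hst

theorem exists_sim_minus [Fintype F] (h2 : (2 : F) ≠ 0) (m : ℕ) (a b : F)
    (hD : 4 * b - a ^ 2 ≠ 0) (l : F) (hl : l ≠ 0) :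
    ∃ g : ↥(Cfsg.Geo.quadSimilarityGroup (⇑(QMinus F m a b))),
      ((muFun (QMinus F m a b) g : Fˣ) : F) = l := by
  obtain ⟨x, y, hxy⟩ := exists_binary_rep h2 a b hD l
  obtain ⟨M, hM⟩ : ∃ M : Matrix ((Fin m ⊕ Fin m) ⊕ Fin 2) ((Fin m ⊕ Fin m) ⊕ Fin 2) F,
      M = Matrix.fromBlocks (Matrix.diagonal (dPlus m l)) 0 0 (bMinus a b x y) := ⟨_, rfl⟩
  have hdet : M.det ≠ 0 := by
    rw [hM, Matrix.det_fromBlocks_zero₂₁, Matrix.det_diagonal, Fintype.prod_sum_type]
    unfold bMinus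
    rw [Matrix.det_fin_two_of]
    have : x * (x + a * y) - -(b * y) * y = l := by rw [← hxy]; ring
    rw [this]
    simp [dPlus, hl]
  have hinl : ∀ (v : (Fin m ⊕ Fin m) ⊕ Fin 2 → F) (j : Fin m ⊕ Fin m),
      (M *ᵥ v) (Sum.inl j) = dPlus m l j * v (Sum.inl j) := by
    intro v j
    rw [hM, Matrix.fromBlocks_mulVec, Sum.elim_inl, Matrix.zero_mulVec, add_zero,
      Matrix.mulVec_diagonal]
    rfl
  have hinr0 : ∀ (v : (Fin m ⊕ Fin m) ⊕ Fin 2 → F),
      (M *ᵥ v) (Sum.inr 0) = x * v (Sum.inr 0) + -(b * y) * v (Sum.inr 1) := by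
    intro v
    rw [hM, Matrix.fromBlocks_mulVec, Sum.elim_inr, Matrix.zero_mulVec, zero_add]
    simp [bMinus, Matrix.mulVec, dotProduct, Fin.sum_univ_two]
  have hinr1 : ∀ (v : (Fin m ⊕ Fin m) ⊕ Fin 2 → F),
      (M *ᵥ v) (Sum.inr 1) = y * v (Sum.inr 0) + (x + a * y) * v (Sum.inr 1) := by
    intro v
    rw [hM, Matrix.fromBlocks_mulVec, Sum.elim_inr, Matrix.zero_mulVec, zero_add]
    simp [bMinus, Matrix.mulVec, dotProduct, Fin.sum_univ_two]
  have hval : ∀ v, QMinus F m a b (M *ᵥ v) = l * QMinus F m a b v := by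
    intro v
    rw [QMinus_apply, QMinus_apply]
    unfold Cfsg.quadFormMinus
    rw [hinr0, hinr1, mul_add l, Finset.mul_sum]
    congr 1
    · apply Finset.sum_congr rfl
      intro i _
      rw [hinl, hinl]
      simp only [dPlus, Sum.elim_inl, Sum.elim_inr]
      ring
    · rw [← hxy]
      ring
  have hv : ∃ v, QMinus F m a b v ≠ 0 := by
    refine ⟨Pi.single (Sum.inr 0) 1, ?_⟩
    rw [QMinus_apply, quadFormMinus_single_zero]
    exact one_ne_zero
  refine ⟨⟨Matrix.GeneralLinearGroup.mkOfDetNeZero M hdet, ⟨Units.mk0 l hl, hval⟩⟩, ?_⟩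
  apply muFun_unique _ hv
  exact hval

end autO6

end Cfsg.Agent.helper13
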