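import Mathlib
import Cfsg.Agent.Lib_helper13_AutO5
import Cfsg.Agent.Lib_helper13_ReflF

/-! The index of the inner automorphisms of `PΩ` in the image of the special orthogonal group. -/

set_option autoImplicit false

namespace Cfsg.Agent.helper13

open Matrix QuadraticMap Module

section autO7
variable {F : Type*} [Field F] [Fintype F] [DecidableEq F] {ι : Type} [Fintype ι] [DecidableEq ι]
variable (Q : QuadraticForm F (ι → F))

/-- inclusion of the isometries into the similarities -/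
def inclO : ↥(Cfsg.isometryGroup F ⇑Q) →* ↥(Cfsg.Geo.quadSimilarityGroup (⇑Q)) :=
  Subgroup.inclusion (iso_le_sim (⇑Q))

omit [Fintype F] [DecidableEq F] in
theorem inclO_coe (s : ↥(Cfsg.isometryGroup F ⇑Q)) :
    ((inclO Q s : ↥(Cfsg.Geo.quadSimilarityGroup (⇑Q))) : GL ι F) = (s : GL ι F) := rfl

/-- minus the identity as an isometry -/
noncomputable def negIso : ↥(Cfsg.isometryGroup F ⇑Q) :=
  ⟨scalGL (-1), by
    rw [mem_iso_iff]
    intro v
    rw [scalGL_val, Units.val_neg, Units.val_one, Matrix.smul_mulVec, Matrix.one_mulVec,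
      neg_smul, one_smul, QuadraticMap.map_neg]⟩

omit [Fintype F] [DecidableEq F] in
theorem negIso_val :
    (((negIso Q : ↥(Cfsg.isometryGroup F ⇑Q)) : GL ι F) : Matrix ι ι F) = -1 := by
  show ((scalGL (-1) : GL ι F) : Matrix ι ι F) = -1
  rw [scalGL_val, Units.val_neg, Units.val_one, neg_smul, one_smul]

omit [Fintype F] [DecidableEq F] in
theorem inclO_negIso : inclO Q (negIso Q) = scalSim Q (-1) := Subtype.ext rfl

omit [Fintype F] [DecidableEq F] in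
theorem mem_SO_iff (s : ↥(Cfsg.isometryGroup F ⇑Q)) :
    inclO Q s ∈ (Cfsg.specialIsometryGL F (⇑Q)).subgroupOf (Cfsg.Geo.quadSimilarityGroup (⇑Q)) ↔
      ((s : GL ι F) : Matrix ι ι F).det = 1 := by
  rw [Subgroup.mem_subgroupOf]
  unfold Cfsg.specialIsometryGL
  rw [Subgroup.mem_inf]
  have hdet : (s : GL ι F) ∈ Cfsg.Geo.specialLinear ι F ↔
      ((s : GL ι F) : Matrix ι ι F).det = 1 := by
    unfold Cfsg.Geo.specialLinear
    rw [MonoidHom.mem_ker, Units.ext_iff]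
    rfl
  rw [inclO_coe, hdet]
  exact ⟨fun h => h.2, fun h => ⟨s.2, h⟩⟩

omit [Fintype F] [DecidableEq F] in
theorem exists_iso_of_mem_SO (g : ↥(Cfsg.Geo.quadSimilarityGroup (⇑Q)))
    (hg : g ∈ (Cfsg.specialIsometryGL F (⇑Q)).subgroupOf (Cfsg.Geo.quadSimilarityGroup (⇑Q))) :
    ∃ s : ↥(Cfsg.isometryGroup F ⇑Q), inclO Q s = g ∧ ((s : GL ι F) : Matrix ι ι F).det = 1 := by
  have h1 := Subgroup.mem_subgroupOf.mp hg
  unfold Cfsg.specialIsometryGL at h1
  rw [Subgroup.mem_inf] at h1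
  refine ⟨⟨g.1, h1.1⟩, Subtype.ext rfl, ?_⟩
  have h3 : inclO Q ⟨g.1, h1.1⟩ = g := Subtype.ext rfl
  have := (mem_SO_iff Q ⟨g.1, h1.1⟩).mp (by rw [h3]; exact hg)
  exact this

theorem PhiO_mem_inn_iff (hQ : (polarBilin Q).Nondegenerate) (hn : 7 ≤ Fintype.card ι)
    (hv : ∃ v, Q v ≠ 0) (s : ↥(Cfsg.isometryGroup F ⇑Q)) :
    PhiO (⇑Q) (inclO Q s) ∈ Cfsg.Inn (Cfsg.POmega F (⇑Q)) ↔
      s ∈ commutator ↥(Cfsg.isometryGroup F ⇑Q) ∨
        negIso Q * s ∈ commutator ↥(Cfsg.isometryGroup F ⇑Q) := by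
  rw [inn_eq, Subgroup.mem_map]
  constructor
  · rintro ⟨g, hg, hgs⟩
    obtain ⟨ω, hω⟩ := (mem_omegaSim (⇑Q) g).mp hg
    have hker : PhiO (⇑Q) ((inclO Q s)⁻¹ * g) = 1 := by
      rw [map_mul, map_inv, hgs, inv_mul_cancel]
    obtain ⟨c, hc⟩ := scalar_of_PhiO_eq_one Q hQ hn _ hker
    have hgm : ((g : GL ι F) : Matrix ι ι F) = c • ((s : GL ι F) : Matrix ι ι F) := by
      have h1 : ((g : GL ι F) : Matrix ι ι F) = ((s : GL ι F) : Matrix ι ι F) *
          (((((inclO Q s)⁻¹ * g : ↥(Cfsg.Geo.quadSimilarityGroup (⇑Q))) : GL ι F)) :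
            Matrix ι ι F) := by
        show _ = ((s : GL ι F) : Matrix ι ι F) *
          (((s : GL ι F)⁻¹ * (g : GL ι F) : GL ι F) : Matrix ι ι F)
        rw [← Units.val_mul, mul_inv_cancel_left]
      rw [h1, hc, Matrix.mul_smul, Matrix.mul_one]
    obtain ⟨v, hv⟩ := hv
    have hcc : c * c = 1 := by
      have h1 : Q (((g : GL ι F) : Matrix ι ι F) *ᵥ v) = Q v := by
        rw [← hω]
        exact (mem_iso_iff (⇑Q) _).mp ω.1.2 v
      rw [hgm, Matrix.smul_mulVec, QuadraticMap.map_smul, smul_eq_mul,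
        (mem_iso_iff (⇑Q) _).mp s.2 v] at h1
      exact mul_right_cancel₀ hv (h1.trans (one_mul _).symm)
    rcases mul_self_eq_one_iff.mp hcc with rfl | rfl
    · left
      have : s = ω.1 := by
        apply Subtype.ext
        apply Units.ext
        rw [hω, hgm, one_smul]
      rw [this]
      exact ω.2
    · right
      have : negIso Q * s = ω.1 := by
        apply Subtype.ext
        apply Units.ext
        rw [hω, hgm]
        show ((scalGL (-1) * (s : GL ι F) : GL ι F) : Matrix ι ι F) = _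
        rw [Units.val_mul, scalGL_val, Units.val_neg, Units.val_one, Matrix.smul_mul,
          Matrix.one_mul]
      rw [this]
      exact ω.2
  · rintro (h | h)
    · exact ⟨inclO Q s, (mem_omegaSim (⇑Q) _).mpr ⟨⟨s, h⟩, rfl⟩, rfl⟩
    · refine ⟨inclO Q (negIso Q * s), (mem_omegaSim (⇑Q) _).mpr ⟨⟨_, h⟩, rfl⟩, ?_⟩
      rw [map_mul, map_mul, inclO_negIso, PhiO_scalSim, one_mul]

theorem det_negIso (heven : Even (Fintype.card ι)) :
    (((negIso Q : ↥(Cfsg.isometryGroup F ⇑Q)) : GL ι F) : Matrix ι ι F).det = 1 := by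
  rw [negIso_val, Matrix.det_neg, Matrix.det_one, mul_one]
  exact heven.neg_one_pow

theorem relIndex_eq_one_of (h2 : (2 : F) ≠ 0) (hQ : (polarBilin Q).Nondegenerate)
    (hn : 7 ≤ Fintype.card ι) (heven : Even (Fintype.card ι))
    (hneg : negIso Q ∉ commutator ↥(Cfsg.isometryGroup F ⇑Q)) :
    (Cfsg.Inn (Cfsg.POmega F (⇑Q))).relIndex (Cfsg.psoAut F (⇑Q)) = 1 := by
  obtain ⟨w, hw1⟩ := exists_Q_eq Q h2 hQ (by omega) 1 one_ne_zero
  have hv : ∃ v, Q v ≠ 0 := ⟨w, by rw [hw1]; exact one_ne_zero⟩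
  rw [Subgroup.relIndex_eq_one, psoAut_eq]
  obtain ⟨θ, hθ⟩ := exists_spinor Q h2 hQ
  obtain ⟨δ, hδ, hδ'⟩ := exists_detSign Q h2 hQ
  have hmem := mem_commutator_iff Q θ δ h2 hQ (by omega) hθ hδ
  have hδn : δ (negIso Q) = 1 := (hδ' _).mpr (det_negIso Q heven)
  have hθn : θ (negIso Q) = -1 := by
    rcases Int.units_eq_one_or (θ (negIso Q)) with h | h
    · exact absurd ((hmem _).mpr ⟨h, hδn⟩) hneg
    · exact h
  rintro b ⟨g, hg, rfl⟩
  obtain ⟨s, rfl, hsdet⟩ := exists_iso_of_mem_SO Q g hg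
  have hdet : δ s = 1 := (hδ' s).mpr hsdet
  rw [PhiO_mem_inn_iff Q hQ hn hv]
  rcases Int.units_eq_one_or (θ s) with h | h
  · left
    exact (hmem s).mpr ⟨h, hdet⟩
  · right
    refine (hmem _).mpr ⟨?_, ?_⟩
    · rw [map_mul, hθn, h]
      rfl
    · rw [map_mul, hδn, hdet, one_mul]

theorem relIndex_eq_two_of (h2 : (2 : F) ≠ 0) (hQ : (polarBilin Q).Nondegenerate)
    (hn : 7 ≤ Fintype.card ι)
    (hneg : negIso Q ∈ commutator ↥(Cfsg.isometryGroup F ⇑Q)) :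
    (Cfsg.Inn (Cfsg.POmega F (⇑Q))).relIndex (Cfsg.psoAut F (⇑Q)) = 2 := by
  obtain ⟨w, hw1⟩ := exists_Q_eq Q h2 hQ (by omega) 1 one_ne_zero
  have hv : ∃ v, Q v ≠ 0 := ⟨w, by rw [hw1]; exact one_ne_zero⟩
  obtain ⟨θ, hθ⟩ := exists_spinor Q h2 hQ
  obtain ⟨δ, hδ, hδ'⟩ := exists_detSign Q h2 hQ
  have hmem := mem_commutator_iff Q θ δ h2 hQ (by omega) hθ hδ
  have hθn : θ (negIso Q) = 1 := ((hmem _).mp hneg).1
  have key : ∀ s : ↥(Cfsg.isometryGroup F ⇑Q), δ s = 1 →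
      (PhiO (⇑Q) (inclO Q s) ∈ Cfsg.Inn (Cfsg.POmega F (⇑Q)) ↔ θ s = 1) := by
    intro s hs
    rw [PhiO_mem_inn_iff Q hQ hn hv]
    constructor
    · rintro (h | h)
      · exact ((hmem s).mp h).1
      · have := ((hmem _).mp h).1
        rwa [map_mul, hθn, one_mul] at this
    · intro h
      left
      exact (hmem s).mpr ⟨h, hs⟩
  obtain ⟨v1, vn, hv1, hvn, hs1, hsn⟩ := exists_class_reps Q h2 hQ (by omega)
  obtain ⟨t, ht⟩ : ∃ t : ↥(Cfsg.isometryGroup F ⇑Q), t = reflG Q v1 hv1 * reflG Q vn hvn :=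
    ⟨_, rfl⟩
  have htθ : θ t = -1 := by
    rw [ht, map_mul, theta_eq_one Q θ hθ v1 hv1 hs1, theta_eq_neg_one Q θ hθ vn hvn hsn]
    rfl
  have htδ : δ t = 1 := by
    rw [ht, map_mul, hδ, hδ]
    rfl
  rw [Subgroup.relIndex_eq_two_iff]
  refine ⟨PhiO (⇑Q) (inclO Q t), ?_, ?_⟩
  · rw [psoAut_eq]
    exact ⟨inclO Q t, (mem_SO_iff Q t).mpr ((hδ' t).mp htδ), rfl⟩
  · intro b hb
    rw [psoAut_eq] at hb
    obtain ⟨g, hg, rfl⟩ := hb
    obtain ⟨s, rfl, hsdet⟩ := exists_iso_of_mem_SO Q g hg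
    have hsδ : δ s = 1 := (hδ' s).mpr hsdet
    rw [← map_mul, ← map_mul, key (s * t) (by rw [map_mul, hsδ, htδ, one_mul]), key s hsδ,
      map_mul, htθ]
    rcases Int.units_eq_one_or (θ s) with h | h <;> rw [h] <;> decide

end autO7

section arith

theorem pow_mod_four_ite (q m : ℕ) (hq : Odd q) :
    q ^ m % 4 = if (Odd m ∧ q % 4 = 3) then 3 else 1 := by
  have hq' : q % 4 = 1 ∨ q % 4 = 3 := by
    have := Nat.odd_iff.mp hq
    omega
  rcases hq' with h | h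
  · rw [if_neg (by omega), Nat.pow_mod, h, one_pow]
    rfl
  · rcases Nat.even_or_odd' m with ⟨k, rfl | rfl⟩
    · have hne : ¬ Odd (2 * k) := by
        rw [Nat.not_odd_iff_even]
        exact ⟨k, by ring⟩
      rw [if_neg (fun hh => hne hh.1), Nat.pow_mod, h, pow_mul, Nat.pow_mod]
      norm_num
    · have ho : Odd (2 * k + 1) := ⟨k, rfl⟩
      rw [if_pos ⟨ho, h⟩, Nat.pow_mod, h, pow_succ, pow_mul, Nat.mul_mod, Nat.pow_mod]
      norm_num

end arith

end Cfsg.Agent.helper13
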