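import Mathlib
import Cfsg.Agent.Lib_helper13_AutO7
import Cfsg.Agent.Lib_helper13_ReflH
import Cfsg.Agent.S0206

/-! The image of the conformal orthogonal group in `Aut(PΩ)` modulo the inner automorphisms:
a four-group or a dihedral group of order eight. -/

set_option autoImplicit false

namespace Cfsg.Agent.helper13

open Matrix QuadraticMap Module

section abstract8

theorem dih8_of_invol {G : Type*} [Group G] [Finite G] (x₁ x₂ : G) (h1 : x₁ * x₁ = 1)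
    (h2 : x₂ * x₂ = 1) (h3 : (x₁ * x₂) ^ 2 ≠ 1) (h4 : (x₁ * x₂) ^ 4 = 1) :
    Nat.card (Subgroup.closure ({x₁, x₂} : Set G)) = 8 ∧
      Nonempty (↥(Subgroup.closure ({x₁, x₂} : Set G)) ≃* DihedralGroup 4) := by
  have hx₁ : x₁ ≠ 1 := by rintro rfl; apply h3; rw [one_mul, pow_two, h2]
  have hx₂ : x₂ ≠ 1 := by rintro rfl; apply h3; rw [mul_one, pow_two, h1]
  have hne : x₁ ≠ x₂ := by rintro rfl; apply h3; rw [h1, one_pow]
  have o1 : orderOf x₁ = 2 := orderOf_eq_prime (by rw [pow_two]; exact h1) hx₁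
  have o2 : orderOf x₂ = 2 := orderOf_eq_prime (by rw [pow_two]; exact h2) hx₂
  have o3 : orderOf (x₁ * x₂) = 4 := by
    have := orderOf_eq_prime_pow (p := 2) (n := 1) (x := x₁ * x₂) (by simpa using h3)
      (by norm_num; exact h4)
    simpa using this
  obtain ⟨e⟩ := Cfsg.Agent.S0206.result x₁ x₂ o1 o2 hne
  rw [o3] at e
  exact ⟨by rw [Nat.card_congr e.toEquiv, DihedralGroup.nat_card], ⟨e⟩⟩

theorem d8_of_card {E : Type*} [Group E] (hE : Nat.card E = 8) (x y c : E) (hx : x * x = 1)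
    (hc : c = x * (y * x * y⁻¹)) (hc1 : c ≠ 1) (hcc : c * c = 1) (hy : y * y = 1 ∨ y * y = c) :
    Nonempty (E ≃* DihedralGroup 4) := by
  haveI : Finite E := Nat.finite_of_card_ne_zero (by rw [hE]; norm_num)
  have hxyxy : x * y * (x * y) = c * (y * y) := by rw [hc]; group
  have key : ∃ u w : E, u * u = 1 ∧ w * w = 1 ∧ (u * w) ^ 2 ≠ 1 ∧ (u * w) ^ 4 = 1 := by
    rcases hy with hy | hy
    · refine ⟨x, y, hx, hy, ?_, ?_⟩
      · rw [pow_two, hxyxy, hy, mul_one]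
        exact hc1
      · have h4 : (x * y) ^ 4 = ((x * y) * (x * y)) * ((x * y) * (x * y)) := by
          rw [show (4 : ℕ) = 2 + 2 from rfl, pow_add, pow_two]
        rw [h4, hxyxy, hy, mul_one, hcc]
    · have hxx : x * (x * y) = y := by rw [← mul_assoc, hx, one_mul]
      refine ⟨x, x * y, hx, ?_, ?_, ?_⟩
      · rw [hxyxy, hy, hcc]
      · rw [hxx, pow_two, hy]
        exact hc1
      · have h4 : y ^ 4 = (y * y) * (y * y) := by
          rw [show (4 : ℕ) = 2 + 2 from rfl, pow_add, pow_two]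
        rw [hxx, h4, hy, hcc]
  obtain ⟨u, w, hu, hw, h3, h4⟩ := key
  obtain ⟨hcard, ⟨e⟩⟩ := dih8_of_invol u w hu hw h3 h4
  have htop : Subgroup.closure ({u, w} : Set E) = ⊤ := by
    apply Subgroup.eq_top_of_card_eq
    rw [hcard, hE]
  exact ⟨(Subgroup.topEquiv.symm.trans (MulEquiv.subgroupCongr htop.symm)).trans e⟩

theorem d8_quot {N A : Type*} [Group N] [Group A] (Φ : N →* A) (I : Subgroup A) [I.Normal]
    (hidx : I.relIndex Φ.range = 8) (r h : N)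
    (hr : Φ (r * r) ∈ I) (hc : Φ (r * (h * r * h⁻¹)) ∉ I)
    (hcc : Φ ((r * (h * r * h⁻¹)) * (r * (h * r * h⁻¹))) ∈ I)
    (hh : Φ (h * h) ∈ I ∨ Φ ((r * (h * r * h⁻¹))⁻¹ * (h * h)) ∈ I) :
    ∃ φ : ↥Φ.range →* DihedralGroup 4,
      Function.Surjective φ ∧ φ.ker = I.subgroupOf Φ.range := by
  obtain ⟨J, hJ⟩ : ∃ J : Subgroup ↥Φ.range, J = I.subgroupOf Φ.range := ⟨_, rfl⟩
  haveI : J.Normal := by rw [hJ]; infer_instance
  obtain ⟨π, hπd⟩ : ∃ π : N →* ↥Φ.range ⧸ J, π = (QuotientGroup.mk' J).comp Φ.rangeRestrict :=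
    ⟨_, rfl⟩
  have hπ : ∀ g, π g = 1 ↔ Φ g ∈ I := by
    intro g
    rw [hπd]
    show (QuotientGroup.mk (Φ.rangeRestrict g) : ↥Φ.range ⧸ J) = 1 ↔ _
    rw [QuotientGroup.eq_one_iff, hJ, Subgroup.mem_subgroupOf]
    rfl
  have hE : Nat.card (↥Φ.range ⧸ J) = 8 := by
    rw [← Subgroup.index_eq_card, hJ]
    exact hidx
  obtain ⟨e⟩ := d8_of_card hE (π r) (π h) (π (r * (h * r * h⁻¹)))
    (by rw [← map_mul]; exact (hπ _).mpr hr) (by simp only [map_mul, map_inv])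
    (fun h0 => hc ((hπ _).mp h0)) (by rw [← map_mul]; exact (hπ _).mpr hcc) (by
      rcases hh with hh | hh
      · left
        rw [← map_mul]
        exact (hπ _).mpr hh
      · right
        have := (hπ _).mpr hh
        rw [map_mul, map_inv, inv_mul_eq_one] at this
        rw [← map_mul]
        exact this.symm)
  rw [← hJ]
  refine ⟨e.toMonoidHom.comp (QuotientGroup.mk' J), ?_, ?_⟩
  · exact e.surjective.comp (QuotientGroup.mk'_surjective J)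
  · ext b
    rw [MonoidHom.mem_ker, MonoidHom.comp_apply]
    show e (QuotientGroup.mk b) = 1 ↔ _
    rw [MulEquiv.map_eq_one_iff, QuotientGroup.eq_one_iff]

end abstract8

section autO8
variable {F : Type*} [Field F] [Fintype F] [DecidableEq F] {ι : Type} [Fintype ι] [DecidableEq ι]
variable (Q : QuadraticForm F (ι → F))

omit [Fintype F] [DecidableEq F] in
theorem sim_mul_refl (g : ↥(Cfsg.Geo.quadSimilarityGroup (⇑Q))) (w : ι → F) (hw : Q w ≠ 0)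
    (hgw : Q (((g : GL ι F) : Matrix ι ι F) *ᵥ w) ≠ 0) :
    g * inclO Q (reflG Q w hw) * g⁻¹ =
      inclO Q (reflG Q (((g : GL ι F) : Matrix ι ι F) *ᵥ w) hgw) := by
  rw [mul_inv_eq_iff_eq_mul]
  apply Subtype.ext
  apply Units.ext
  show ((g : GL ι F) : Matrix ι ι F) * Cfsg.reflectionMatrix (⇑Q) w =
    Cfsg.reflectionMatrix (⇑Q) (((g : GL ι F) : Matrix ι ι F) *ᵥ w) * ((g : GL ι F) : Matrix ι ι F)
  apply matrix_eq_of_mulVec
  intro y
  rw [← Matrix.mulVec_mulVec, ← Matrix.mulVec_mulVec,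
    Cfsg.Agent.helper4.reflectionMatrix_mulVec, Cfsg.Agent.helper4.reflectionMatrix_mulVec,
    Matrix.mulVec_sub, Matrix.mulVec_smul, muFun_spec, polar_sim]
  congr 2
  have hμ : ((muFun Q g : Fˣ) : F) ≠ 0 := Units.ne_zero _
  field_simp

theorem PhiO_mem_inn_iff_theta (h2 : (2 : F) ≠ 0) (hQ : (polarBilin Q).Nondegenerate)
    (hn : 7 ≤ Fintype.card ι) (θ δ : ↥(Cfsg.isometryGroup F ⇑Q) →* ℤˣ)
    (hθ : ∀ (w : ι → F) (hw : Q w ≠ 0), ((θ (reflG Q w hw) : ℤˣ) : ℤ) = quadraticChar F (Q w))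
    (hδ : ∀ (w : ι → F) (hw : Q w ≠ 0), δ (reflG Q w hw) = -1)
    (hneg : negIso Q ∈ commutator ↥(Cfsg.isometryGroup F ⇑Q))
    (s : ↥(Cfsg.isometryGroup F ⇑Q)) (hs : δ s = 1) :
    PhiO (⇑Q) (inclO Q s) ∈ Cfsg.Inn (Cfsg.POmega F (⇑Q)) ↔ θ s = 1 := by
  obtain ⟨w, hw1⟩ := exists_Q_eq Q h2 hQ (by omega) 1 one_ne_zero
  have hv : ∃ v, Q v ≠ 0 := ⟨w, by rw [hw1]; exact one_ne_zero⟩
  have hmem := mem_commutator_iff Q θ δ h2 hQ (by omega) hθ hδ
  have hθn : θ (negIso Q) = 1 := ((hmem _).mp hneg).1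
  rw [PhiO_mem_inn_iff Q hQ hn hv]
  constructor
  · rintro (h | h)
    · exact ((hmem s).mp h).1
    · have := ((hmem _).mp h).1
      rwa [map_mul, hθn, one_mul] at this
  · intro h
    left
    exact (hmem s).mpr ⟨h, hs⟩

theorem inn_le_pso (h2 : (2 : F) ≠ 0) (hQ : (polarBilin Q).Nondegenerate) :
    Cfsg.Inn (Cfsg.POmega F (⇑Q)) ≤ Cfsg.psoAut F (⇑Q) := by
  obtain ⟨δ, hδ, hδ'⟩ := exists_detSign Q h2 hQ
  rw [inn_eq, psoAut_eq]
  apply Subgroup.map_mono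
  intro g hg
  obtain ⟨ω, hω⟩ := (mem_omegaSim (⇑Q) g).mp hg
  have h1 : δ ω.1 = 1 := MonoidHom.mem_ker.mp (Abelianization.commutator_subset_ker δ ω.2)
  have h3 : inclO Q ω.1 = g := Subtype.ext hω
  rw [← h3, mem_SO_iff]
  exact (hδ' _).mp h1

theorem relIndex_pso_pgo (h2 : (2 : F) ≠ 0) (hQ : (polarBilin Q).Nondegenerate)
    (hn : 7 ≤ Fintype.card ι) (m' : ℕ) (hcard : Fintype.card ι = 2 * m')
    (hsim : ∃ g : ↥(Cfsg.Geo.quadSimilarityGroup (⇑Q)), ¬ IsSquare ((muFun Q g : Fˣ) : F)) :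
    (Cfsg.psoAut F (⇑Q)).relIndex (Cfsg.pgoAut F (⇑Q)) = 4 := by
  obtain ⟨φ, hsurj, hker⟩ := klein_main Q h2 hQ hn m' hcard hsim
  unfold Subgroup.relIndex
  rw [← hker, Subgroup.index_ker, MonoidHom.range_eq_top.mpr hsurj, Subgroup.card_top,
    Nat.card_eq_fintype_card]
  rfl

theorem klein_inn (h2 : (2 : F) ≠ 0) (hQ : (polarBilin Q).Nondegenerate)
    (hn : 7 ≤ Fintype.card ι) (m' : ℕ) (hcard : Fintype.card ι = 2 * m')
    (hsim : ∃ g : ↥(Cfsg.Geo.quadSimilarityGroup (⇑Q)), ¬ IsSquare ((muFun Q g : Fˣ) : F))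
    (hneg : negIso Q ∉ commutator ↥(Cfsg.isometryGroup F ⇑Q)) :
    ∃ φ : ↥(Cfsg.pgoAut F (⇑Q)) →* Multiplicative (ZMod 2 × ZMod 2),
      Function.Surjective φ ∧
        φ.ker = (Cfsg.Inn (Cfsg.POmega F (⇑Q))).subgroupOf (Cfsg.pgoAut F (⇑Q)) := by
  have heven : Even (Fintype.card ι) := ⟨m', by rw [hcard]; ring⟩
  have h1 := relIndex_eq_one_of Q h2 hQ hn heven hneg
  rw [Subgroup.relIndex_eq_one] at h1
  have heq : Cfsg.Inn (Cfsg.POmega F (⇑Q)) = Cfsg.psoAut F (⇑Q) :=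
    le_antisymm (inn_le_pso Q h2 hQ) h1
  rw [heq]
  exact klein_main Q h2 hQ hn m' hcard hsim

theorem d8_main (h2 : (2 : F) ≠ 0) (hQ : (polarBilin Q).Nondegenerate)
    (hn : 7 ≤ Fintype.card ι) (m' : ℕ) (hcard : Fintype.card ι = 2 * m')
    (hsim : ∃ g : ↥(Cfsg.Geo.quadSimilarityGroup (⇑Q)), ¬ IsSquare ((muFun Q g : Fˣ) : F))
    (hneg : negIso Q ∈ commutator ↥(Cfsg.isometryGroup F ⇑Q)) :
    ∃ φ : ↥(Cfsg.pgoAut F (⇑Q)) →* DihedralGroup 4,
      Function.Surjective φ ∧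
        φ.ker = (Cfsg.Inn (Cfsg.POmega F (⇑Q))).subgroupOf (Cfsg.pgoAut F (⇑Q)) := by
  obtain ⟨w, hw1⟩ := exists_Q_eq Q h2 hQ (by omega) 1 one_ne_zero
  have hw : Q w ≠ 0 := by rw [hw1]; exact one_ne_zero
  have hv : ∃ v, Q v ≠ 0 := ⟨w, hw⟩
  obtain ⟨θ, hθ⟩ := exists_spinor Q h2 hQ
  obtain ⟨δ, hδ, hδ'⟩ := exists_detSign Q h2 hQ
  have key := PhiO_mem_inn_iff_theta Q h2 hQ hn θ δ hθ hδ hneg
  have hidx : (Cfsg.Inn (Cfsg.POmega F (⇑Q))).relIndex (Cfsg.pgoAut F (⇑Q)) = 8 := by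
    have hle : Cfsg.psoAut F (⇑Q) ≤ Cfsg.pgoAut F (⇑Q) := by
      rw [psoAut_eq, pgoAut_eq]
      exact Subgroup.map_le_range _ _
    rw [← Subgroup.relIndex_mul_relIndex _ _ _ (inn_le_pso Q h2 hQ) hle,
      relIndex_eq_two_of Q h2 hQ hn hneg, relIndex_pso_pgo Q h2 hQ hn m' hcard hsim]
  rw [pgoAut_eq] at hidx ⊢
  obtain ⟨h, hh⟩ := hsim
  have hhw : Q (((h : GL ι F) : Matrix ι ι F) *ᵥ w) ≠ 0 := by
    rw [muFun_spec, hw1, mul_one]
    exact Units.ne_zero _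
  -- the product of the two reflections
  obtain ⟨sc, hsc⟩ : ∃ sc : ↥(Cfsg.isometryGroup F ⇑Q),
      sc = reflG Q w hw * reflG Q (((h : GL ι F) : Matrix ι ι F) *ᵥ w) hhw := ⟨_, rfl⟩
  have hscθ : θ sc = -1 := by
    rw [hsc, map_mul, theta_eq_one Q θ hθ w hw (by rw [hw1]; exact ⟨1, (one_mul 1).symm⟩),
      theta_eq_neg_one Q θ hθ _ hhw (by rw [muFun_spec, hw1, mul_one]; exact hh)]
    rfl
  have hscδ : δ sc = 1 := by
    rw [hsc, map_mul, hδ, hδ]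
    rfl
  have hconj : inclO Q (reflG Q w hw) * (h * inclO Q (reflG Q w hw) * h⁻¹) = inclO Q sc := by
    rw [sim_mul_refl Q h w hw hhw, ← map_mul, hsc]
  apply d8_quot (PhiO (⇑Q)) _ hidx (inclO Q (reflG Q w hw)) h
  · rw [← map_mul, reflG_mul_self, map_one, map_one]
    exact one_mem _
  · rw [hconj, key sc hscδ, hscθ]
    decide
  · rw [hconj, ← map_mul, key (sc * sc) (by rw [map_mul, hscδ, one_mul]), map_mul, hscθ]
    rfl
  · rw [hconj]
    -- the square of `h` modulo scalars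
    obtain ⟨s₀, hs₀⟩ : ∃ s₀ : ↥(Cfsg.Geo.quadSimilarityGroup (⇑Q)),
        s₀ = scalSim Q (muFun Q h)⁻¹ * (h * h) := ⟨_, rfl⟩
    have hs₀mem : s₀ ∈ (Cfsg.specialIsometryGL F (⇑Q)).subgroupOf
        (Cfsg.Geo.quadSimilarityGroup (⇑Q)) := by
      rw [mem_spec_iff Q hv m']
      constructor
      · have := map_mul (muHom Q hv) (scalSim Q (muFun Q h)⁻¹) (h * h)
        rw [muHom_apply, muHom_apply, muHom_apply] at this
        have h3 := map_mul (muHom Q hv) h h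
        rw [muHom_apply, muHom_apply] at h3
        rw [hs₀, this, h3, muFun_scalSim Q hv]
        group
      · rw [hs₀, map_mul, map_mul, epsHom_scalSim Q hv m' hcard, one_mul]
        rcases epsHom_sq Q hQ hv m' hcard h with h1 | h1 <;> rw [h1]
        · exact one_mul 1
        · exact neg_mul_neg 1 1 |>.trans (one_mul 1)
    obtain ⟨s, hs, hsdet⟩ := exists_iso_of_mem_SO Q s₀ hs₀mem
    have hsδ : δ s = 1 := (hδ' s).mpr hsdet
    have hΦ : PhiO (⇑Q) (h * h) = PhiO (⇑Q) (inclO Q s) := by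
      rw [hs, hs₀, map_mul (PhiO (⇑Q)) (scalSim Q (muFun Q h)⁻¹) (h * h), PhiO_scalSim, one_mul]
    rcases Int.units_eq_one_or (θ s) with h1 | h1
    · left
      rw [hΦ, key s hsδ, h1]
    · right
      rw [map_mul, hΦ, ← map_mul, ← map_inv, ← map_mul,
        key (sc⁻¹ * s) (by rw [map_mul, map_inv, hscδ, hsδ, inv_one, one_mul]),
        map_mul, map_inv, hscθ, h1]
      rfl

end autO8

end Cfsg.Agent.helper13
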