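import Mathlib
import Cfsg.Agent.Lib_helper13_Center
import Cfsg.Agent.Lib_helper13_ReflH

set_option autoImplicit false

namespace Cfsg.Agent.helper13

open Matrix QuadraticMap Module

section centerD
variable {F : Type*} [Field F] [Fintype F] [DecidableEq F] {ι : Type} [Fintype ι] [DecidableEq ι]
variable (Q : QuadraticForm F (ι → F))

theorem two_refl_mem (hQ : (polarBilin Q).Nondegenerate)
    (hne : Fintype.card F ≠ 2 ∨ Fintype.card ι ≠ 4) (u v : ι → F) (hu : Q u ≠ 0) (hv : Q v ≠ 0)
    (huv : Q u = Q v) :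
    reflG Q u hu * reflG Q v hv ∈ commutator ↥(Cfsg.isometryGroup F ⇑Q) := by
  obtain ⟨θ, δ, hθ, hδ⟩ := exists_theta_delta Q hQ
  rw [mem_commutator_iff_all Q hQ hne θ δ hθ hδ]
  constructor
  · apply Units.ext
    rw [map_mul, Units.val_mul, hθ u hu, hθ v hv, huv, ← pow_two, quadraticChar_sq_one hv]
    rfl
  · rw [map_mul, hδ u hu, hδ v hv]
    rfl

theorem commPairs_of_center (hQ : (polarBilin Q).Nondegenerate)
    (hne : Fintype.card F ≠ 2 ∨ Fintype.card ι ≠ 4)
    (z : ↥(commutator ↥(Cfsg.isometryGroup F ⇑Q)))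
    (hz : z ∈ Subgroup.center ↥(commutator ↥(Cfsg.isometryGroup F ⇑Q))) :
    CommPairs Q z.1 := by
  intro u v hu hv huv
  have hρ := two_refl_mem Q hQ hne u v hu hv huv
  have h1 := Subgroup.mem_center_iff.mp hz ⟨_, hρ⟩
  have h2 := congrArg Subtype.val h1
  exact h2.symm

theorem center_cases (hQ : (polarBilin Q).Nondegenerate)
    (hne : Fintype.card F ≠ 2 ∨ Fintype.card ι ≠ 4) (hn : 5 ≤ Fintype.card ι)
    (T : Submodule F (ι → F)) (hT : TS Q T) (hT3 : 3 ≤ finrank F T)
    (z : ↥(commutator ↥(Cfsg.isometryGroup F ⇑Q)))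
    (hz : z ∈ Subgroup.center ↥(commutator ↥(Cfsg.isometryGroup F ⇑Q))) :
    z = 1 ∨ ((z.1 : Matrix.GeneralLinearGroup ι F) : Matrix ι ι F) = -1 := by
  obtain ⟨lam, hlam2, hlam⟩ := scalar_of_commPairs Q z.1 hQ hn
    (commPairs_of_center Q hQ hne z hz) T hT hT3
  rcases mul_self_eq_one_iff.mp hlam2 with h | h
  · left
    apply Subtype.ext
    apply iact_ext
    intro x
    rw [hlam, h, one_smul]
    exact (iact_one x).symm
  · right
    apply matrix_eq_neg_one_of_iact
    intro x
    rw [hlam, h, neg_one_smul]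

open Classical in
theorem card_center (hQ : (polarBilin Q).Nondegenerate)
    (hne : Fintype.card F ≠ 2 ∨ Fintype.card ι ≠ 4) (hn : 5 ≤ Fintype.card ι)
    (T : Submodule F (ι → F)) (hT : TS Q T) (hT3 : 3 ≤ finrank F T) :
    Nat.card ↥(Subgroup.center ↥(commutator ↥(Cfsg.isometryGroup F ⇑Q))) =
      if (2 : F) ≠ 0 ∧ (∃ g : ↥(Cfsg.isometryGroup F ⇑Q),
        g ∈ commutator ↥(Cfsg.isometryGroup F ⇑Q) ∧
        ((g : Matrix.GeneralLinearGroup ι F) : Matrix ι ι F) = -1) then 2 else 1 := by
  have hι : Nonempty ι := Fintype.card_pos_iff.mp (by omega)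
  obtain ⟨i₀⟩ := hι
  by_cases hc : (2 : F) ≠ 0 ∧ (∃ g : ↥(Cfsg.isometryGroup F ⇑Q),
        g ∈ commutator ↥(Cfsg.isometryGroup F ⇑Q) ∧
        ((g : Matrix.GeneralLinearGroup ι F) : Matrix ι ι F) = -1)
  · rw [if_pos hc]
    obtain ⟨h2, g, hg, hgm⟩ := hc
    have hcentral : (⟨g, hg⟩ : ↥(commutator ↥(Cfsg.isometryGroup F ⇑Q))) ∈
        Subgroup.center ↥(commutator ↥(Cfsg.isometryGroup F ⇑Q)) := by
      rw [Subgroup.mem_center_iff]
      intro k
      apply Subtype.ext
      apply Subtype.ext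
      apply Units.ext
      show ((k.1 : Matrix.GeneralLinearGroup ι F) : Matrix ι ι F) *
        ((g : Matrix.GeneralLinearGroup ι F) : Matrix ι ι F) =
        ((g : Matrix.GeneralLinearGroup ι F) : Matrix ι ι F) *
        ((k.1 : Matrix.GeneralLinearGroup ι F) : Matrix ι ι F)
      rw [hgm]
      simp
    rw [Nat.card_eq_two_iff]
    refine ⟨1, ⟨⟨g, hg⟩, hcentral⟩, ?_, ?_⟩
    · intro h
      have h1 : (1 : ↥(commutator ↥(Cfsg.isometryGroup F ⇑Q))) = ⟨g, hg⟩ :=
        congrArg Subtype.val h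
      have h3 : (1 : ↥(Cfsg.isometryGroup F ⇑Q)) = g := congrArg Subtype.val h1
      have h4 : (1 : Matrix ι ι F) = -1 := by
        rw [← hgm, ← h3]
        rfl
      have h5 := congrFun (congrFun h4 i₀) i₀
      rw [Matrix.neg_apply, Matrix.one_apply_eq] at h5
      apply h2
      have : (1 : F) + 1 = 0 := by
        nth_rewrite 2 [h5]
        ring
      rw [← one_add_one_eq_two]
      exact this
    · ext z
      simp only [Set.mem_insert_iff, Set.mem_singleton_iff, Set.mem_univ, iff_true]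
      rcases center_cases Q hQ hne hn T hT hT3 z.1 z.2 with h | h
      · left
        exact Subtype.ext h
      · right
        apply Subtype.ext
        apply Subtype.ext
        apply Subtype.ext
        apply Units.ext
        show ((z.1.1 : Matrix.GeneralLinearGroup ι F) : Matrix ι ι F) =
          ((g : Matrix.GeneralLinearGroup ι F) : Matrix ι ι F)
        rw [h, hgm]
  · rw [if_neg hc]
    have hbot : Subgroup.center ↥(commutator ↥(Cfsg.isometryGroup F ⇑Q)) = ⊥ := by
      rw [eq_bot_iff]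
      intro z hz
      rw [Subgroup.mem_bot]
      rcases center_cases Q hQ hne hn T hT hT3 z hz with h | h
      · exact h
      · by_cases h2 : (2 : F) = 0
        · apply Subtype.ext
          apply Subtype.ext
          apply Units.ext
          show ((z.1 : Matrix.GeneralLinearGroup ι F) : Matrix ι ι F) = 1
          rw [h]
          have : (-1 : F) = 1 := neg_one_eq_one_of_two h2
          ext i j
          rw [Matrix.neg_apply]
          by_cases hij : i = j
          · subst hij
            rw [Matrix.one_apply_eq, this]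
          · rw [Matrix.one_apply_ne hij, neg_zero]
        · exact absurd ⟨h2, z.1, z.2, h⟩ hc
    rw [hbot]
    exact Subgroup.card_bot

theorem card_chain :
    Nat.card (Cfsg.POmega F ⇑Q) *
      Nat.card ↥(Subgroup.center ↥(commutator ↥(Cfsg.isometryGroup F ⇑Q))) *
      (commutator ↥(Cfsg.isometryGroup F ⇑Q)).index =
    Nat.card ↥(Cfsg.isometryGroup F ⇑Q) := by
  rw [← Subgroup.card_mul_index (commutator ↥(Cfsg.isometryGroup F ⇑Q))]
  congr 1
  exact (Subgroup.card_eq_card_quotient_mul_card_subgroup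
    (Subgroup.center ↥(commutator ↥(Cfsg.isometryGroup F ⇑Q)))).symm

end centerD

end Cfsg.Agent.helper13
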