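import Mathlib
import Cfsg.Agent.Lib_helper13_Center2
import Cfsg.Agent.Lib_helper13_MaxTS2
import Cfsg.Agent.Lib_helper13_OrthE
import Cfsg.Agent.Lib_helper13_OrthG

set_option autoImplicit false

namespace Cfsg.Agent.helper13

open Matrix QuadraticMap Module

section assembly
variable {F : Type*} [Field F] [Fintype F] [DecidableEq F] {ι : Type} [Fintype ι] [DecidableEq ι]
variable (Q : QuadraticForm F (ι → F))

open Classical in
/-- the order of `PΩ` from the order of the isometry group. -/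
theorem gcd_card_POmega (hQ : (polarBilin Q).Nondegenerate) (hn : 5 ≤ Fintype.card ι)
    (T : Submodule F (ι → F)) (hT : TS Q T) (hT3 : 3 ≤ finrank F T)
    (N : ℕ) (hN : Nat.card ↥(Cfsg.isometryGroup F ⇑Q) = 2 * N) (g : ℕ)
    (hg2 : (2 : F) = 0 → g = 1)
    (hg4 : (2 : F) ≠ 0 → (∃ x : ↥(Cfsg.isometryGroup F ⇑Q),
        x ∈ commutator ↥(Cfsg.isometryGroup F ⇑Q) ∧
        ((x : Matrix.GeneralLinearGroup ι F) : Matrix ι ι F) = -1) → g = 4)
    (hg2' : (2 : F) ≠ 0 → ¬ (∃ x : ↥(Cfsg.isometryGroup F ⇑Q),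
        x ∈ commutator ↥(Cfsg.isometryGroup F ⇑Q) ∧
        ((x : Matrix.GeneralLinearGroup ι F) : Matrix ι ι F) = -1) → g = 2) :
    g * Nat.card (Cfsg.POmega F ⇑Q) = N := by
  have hne : Fintype.card F ≠ 2 ∨ Fintype.card ι ≠ 4 := Or.inr (by omega)
  have hchain := card_chain Q
  have hZ := card_center Q hQ hne hn T hT hT3
  rw [hN] at hchain
  by_cases h2 : (2 : F) = 0
  · have hidx := index_commutator_two Q h2 hQ hne (by omega)
    rw [if_neg (fun h => h.1 h2)] at hZ
    rw [hZ, hidx] at hchain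
    rw [hg2 h2]
    omega
  · have hn2 : 2 ≤ Fintype.card ι := by omega
    obtain ⟨θ, hθ⟩ := exists_spinor Q h2 hQ
    obtain ⟨δ, hδ, -⟩ := exists_detSign Q h2 hQ
    have hidx := index_commutator Q θ δ h2 hQ hn2 hθ hδ
    by_cases hneg : ∃ x : ↥(Cfsg.isometryGroup F ⇑Q),
        x ∈ commutator ↥(Cfsg.isometryGroup F ⇑Q) ∧
        ((x : Matrix.GeneralLinearGroup ι F) : Matrix ι ι F) = -1
    · rw [if_pos ⟨h2, hneg⟩] at hZ
      rw [hZ, hidx] at hchain
      rw [hg4 h2 hneg]
      omega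
    · rw [if_neg (fun h => hneg h.2)] at hZ
      rw [hZ, hidx] at hchain
      rw [hg2' h2 hneg]
      omega

end assembly

section tsubs
variable (F : Type*) [Field F]

/-- embedding of the first half of the hyperbolic coordinates of the odd form. -/
def oddMap (m : ℕ) : (Fin m → F) →ₗ[F] (Unit ⊕ (Fin m ⊕ Fin m) → F) where
  toFun a := Sum.elim 0 (Sum.elim a 0)
  map_add' a b := by
    ext (i | i | i) <;> simp
  map_smul' c a := by
    ext (i | i | i) <;> simp

theorem oddMap_injective (m : ℕ) : Function.Injective (oddMap F m) := by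
  intro a b hab
  funext i
  have := congr_fun hab (Sum.inr (Sum.inl i))
  simpa [oddMap] using this

theorem oddT_ts (m : ℕ) : TS (QOdd F m) (LinearMap.range (oddMap F m)) := by
  rintro w ⟨a, rfl⟩
  rw [QOdd_apply]
  unfold Cfsg.quadFormOdd
  simp [oddMap]

theorem oddT_finrank (m : ℕ) : finrank F ↥(LinearMap.range (oddMap F m)) = m := by
  rw [LinearMap.finrank_range_of_inj (oddMap_injective F m), Module.finrank_fin_fun]

/-- embedding of the first half of the hyperbolic coordinates of the minus form. -/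
def minusMap (k : ℕ) : (Fin k → F) →ₗ[F] ((Fin k ⊕ Fin k) ⊕ Fin 2 → F) where
  toFun a := Sum.elim (Sum.elim a 0) 0
  map_add' a b := by
    ext ((i | i) | i) <;> simp
  map_smul' c a := by
    ext ((i | i) | i) <;> simp

theorem minusMap_injective (k : ℕ) : Function.Injective (minusMap F k) := by
  intro a b hab
  funext i
  have := congr_fun hab (Sum.inl (Sum.inl i))
  simpa [minusMap] using this

theorem minusT_ts (k : ℕ) (a c : F) :
    TS (QMinus F k a c) (LinearMap.range (minusMap F k)) := by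
  rintro w ⟨x, rfl⟩
  rw [QMinus_apply]
  unfold Cfsg.quadFormMinus
  simp [minusMap]

theorem minusT_finrank (k : ℕ) : finrank F ↥(LinearMap.range (minusMap F k)) = k := by
  rw [LinearMap.finrank_range_of_inj (minusMap_injective F k), Module.finrank_fin_fun]

end tsubs

end Cfsg.Agent.helper13

namespace Cfsg.Agent.helper13

theorem gcd_four (x : ℕ) :
    Nat.gcd 4 x = if x % 4 = 0 then 4 else if x % 4 = 2 then 2 else 1 := by
  rw [Nat.gcd_rec]
  have hr : x % 4 < 4 := Nat.mod_lt _ (by norm_num)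
  generalize x % 4 = r at *
  interval_cases r <;> simp

theorem pow_mod_four_of_odd {q : ℕ} (hq : q % 2 = 1) (m : ℕ) :
    q ^ m % 4 = 1 ∨ q ^ m % 4 = 3 := by
  have h1 : q ^ m % 2 = 1 := by
    have : Odd (q ^ m) := (Nat.odd_iff.mpr hq).pow
    exact Nat.odd_iff.mp this
  omega

theorem pow_mod_two_of_even {q : ℕ} (hq : q % 2 = 0) (m : ℕ) (hm : 1 ≤ m) :
    q ^ m % 2 = 0 := by
  have : Even (q ^ m) := (Nat.even_pow.mpr ⟨Nat.even_iff.mpr hq, by omega⟩)
  exact Nat.even_iff.mp this

end Cfsg.Agent.helper13
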