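import Mathlib
import Cfsg.Prelude.Def_GeometricClasses

/-! Field subalgebras of a matrix algebra: an intermediate field and elements separating
the normalisers. -/

set_option autoImplicit false

namespace Cfsg.Agent.helper13

open Matrix Module

section extf1
variable {F : Type*} [Field F] {n : ℕ}

/-- the invertibility argument: a conjugate of `k` inside a division subalgebra which agrees with
`k` on a nonzero vector equals `k`. -/
theorem comm_of_ker {K' : Subalgebra F (Matrix (Fin n) (Fin n) F)}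
    (hinv : ∀ x ∈ K', x ≠ 0 → ∃ y : Matrix (Fin n) (Fin n) F, x * y = 1)
    (g : GL (Fin n) F) (k : Matrix (Fin n) (Fin n) F) (hk : k ∈ K')
    (hgk : (g : Matrix (Fin n) (Fin n) F) * k * ((g⁻¹ : GL (Fin n) F) : Matrix (Fin n) (Fin n) F) ∈ K')
    (u : Fin n → F) (hu : u ≠ 0)
    (hker : ((g : Matrix (Fin n) (Fin n) F) * k) *ᵥ u = (k * (g : Matrix (Fin n) (Fin n) F)) *ᵥ u) :
    (g : Matrix (Fin n) (Fin n) F) * k = k * (g : Matrix (Fin n) (Fin n) F) := by
  obtain ⟨D, hDdef⟩ : ∃ D, D = (g : Matrix (Fin n) (Fin n) F) * k *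
      ((g⁻¹ : GL (Fin n) F) : Matrix (Fin n) (Fin n) F) - k := ⟨_, rfl⟩
  have hDK : D ∈ K' := by rw [hDdef]; exact K'.sub_mem hgk hk
  have hginv : ((g⁻¹ : GL (Fin n) F) : Matrix (Fin n) (Fin n) F) * (g : Matrix (Fin n) (Fin n) F) = 1 := by
    rw [← Units.val_mul, inv_mul_cancel, Units.val_one]
  have hDu : D *ᵥ ((g : Matrix (Fin n) (Fin n) F) *ᵥ u) = 0 := by
    rw [hDdef, Matrix.sub_mulVec, Matrix.mulVec_mulVec, Matrix.mulVec_mulVec, Matrix.mul_assoc,
      hginv, Matrix.mul_one, hker, sub_self]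
  have hD0 : D = 0 := by
    by_contra hne
    obtain ⟨y, hy⟩ := hinv D hDK hne
    have hy' : y * D = 1 := mul_eq_one_comm.mp hy
    have h1 : (g : Matrix (Fin n) (Fin n) F) *ᵥ u = 0 := by
      have h0 := congrArg (fun w => y *ᵥ w) hDu
      simp only [Matrix.mulVec_zero] at h0
      rw [Matrix.mulVec_mulVec _ y D, hy', Matrix.one_mulVec] at h0
      exact h0
    apply hu
    have h0 := congrArg (fun w => ((g⁻¹ : GL (Fin n) F) : Matrix (Fin n) (Fin n) F) *ᵥ w) h1
    simp only [Matrix.mulVec_zero] at h0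
    rw [Matrix.mulVec_mulVec, hginv, Matrix.one_mulVec] at h0
    exact h0
  have h2 : (g : Matrix (Fin n) (Fin n) F) * k *
      ((g⁻¹ : GL (Fin n) F) : Matrix (Fin n) (Fin n) F) = k := by
    rw [hDdef, sub_eq_zero] at hD0
    exact hD0
  calc (g : Matrix (Fin n) (Fin n) F) * k
      = (g : Matrix (Fin n) (Fin n) F) * k * (((g⁻¹ : GL (Fin n) F) : Matrix (Fin n) (Fin n) F) *
          (g : Matrix (Fin n) (Fin n) F)) := by rw [hginv, Matrix.mul_one]
    _ = k * (g : Matrix (Fin n) (Fin n) F) := by rw [← Matrix.mul_assoc, h2]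

end extf1

section units
variable {F : Type*} [Field F] [Fintype F] {L : Type*} [Field L] [Fintype L] [Algebra F L]

theorem card_pow_lt {q s r : ℕ} (hq : 2 ≤ q) (hsr : s < r) : q ^ s - 1 < q ^ r - 1 := by
  have h1 : q ^ s < q ^ r := Nat.pow_lt_pow_right (by omega) hsr
  have h2 : 1 ≤ q ^ s := Nat.one_le_pow _ _ (by omega)
  omega

/-- an element of `L` not fixed by the `s`-th power of the Frobenius over `F`. -/
theorem exists_not_fixed {r s : ℕ} (hr : finrank F L = r) (hs0 : 0 < s) (hs : s < r) :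
    ∃ x : L, x ^ (Fintype.card F ^ s) ≠ x := by
  classical
  have hq : 2 ≤ Fintype.card F := Fintype.one_lt_card
  have hcard : Fintype.card L = Fintype.card F ^ r := by
    rw [← hr]
    exact Module.card_eq_pow_finrank
  obtain ⟨ζ, hζ⟩ := IsCyclic.exists_generator (α := Lˣ)
  have hord : orderOf ζ = Fintype.card F ^ r - 1 := by
    rw [orderOf_eq_card_of_forall_mem_zpowers hζ, Nat.card_eq_fintype_card, Fintype.card_units,
      hcard]
  refine ⟨(ζ : L), fun h => ?_⟩
  have h1 : ζ ^ (Fintype.card F ^ s - 1) = 1 := by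
    have h2 : 1 ≤ Fintype.card F ^ s := Nat.one_le_pow _ _ (by omega)
    apply Units.ext
    rw [Units.val_pow_eq_pow_val, Units.val_one]
    have h3 : (ζ : L) ^ (Fintype.card F ^ s - 1) * (ζ : L) = 1 * (ζ : L) := by
      rw [← pow_succ, Nat.sub_add_cancel h2, h, one_mul]
    exact mul_right_cancel₀ (Units.ne_zero ζ) h3
  have h4 := orderOf_dvd_of_pow_eq_one h1
  rw [hord] at h4
  have h5 := card_pow_lt hq hs
  have h6 : 0 < Fintype.card F ^ s - 1 := by
    have : 1 < Fintype.card F ^ s := Nat.one_lt_pow (by omega) (by omega)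
    omega
  have := Nat.le_of_dvd h6 h4
  omega

/-- a non-scalar element of `L` fixed by the `s`-th power of the Frobenius over `F`. -/
theorem exists_fixed_nonscalar {r s : ℕ} (hr : finrank F L = r) (hs : s ∣ r) (hs1 : 1 < s) :
    ∃ x : L, x ^ (Fintype.card F ^ s) = x ∧ ∀ c : F, x ≠ algebraMap F L c := by
  classical
  have hq : 2 ≤ Fintype.card F := Fintype.one_lt_card
  have hcard : Fintype.card L = Fintype.card F ^ r := by
    rw [← hr]
    exact Module.card_eq_pow_finrank
  obtain ⟨ζ, hζ⟩ := IsCyclic.exists_generator (α := Lˣ)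
  have hord : orderOf ζ = Fintype.card F ^ r - 1 := by
    rw [orderOf_eq_card_of_forall_mem_zpowers hζ, Nat.card_eq_fintype_card, Fintype.card_units,
      hcard]
  obtain ⟨t, rfl⟩ := hs
  have hdvd : Fintype.card F ^ s - 1 ∣ Fintype.card F ^ (s * t) - 1 :=
    Nat.pow_sub_one_dvd_pow_sub_one _ (Dvd.intro t rfl)
  obtain ⟨m, hm⟩ := hdvd
  have hs1' : 1 < Fintype.card F ^ s := Nat.one_lt_pow (by omega) (by omega)
  have hA0 : 0 < Fintype.card F ^ s - 1 := by omega
  have hm0 : 0 < m := by
    rcases Nat.eq_zero_or_pos m with rfl | h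
    · exfalso
      rw [mul_zero] at hm
      have ht0 : 0 < t := by
        rcases Nat.eq_zero_or_pos t with rfl | h
        · rw [mul_zero] at hr
          have := Module.finrank_pos (R := F) (M := L)
          omega
        · exact h
      have : 1 < Fintype.card F ^ (s * t) := Nat.one_lt_pow (by positivity) (by omega)
      omega
    · exact h
  have hx1 : (ζ ^ m) ^ (Fintype.card F ^ s - 1) = 1 := by
    rw [← pow_mul, mul_comm, ← hm, ← hord, pow_orderOf_eq_one]
  refine ⟨((ζ ^ m : Lˣ) : L), ?_, ?_⟩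
  · have h2 : Fintype.card F ^ s = (Fintype.card F ^ s - 1) + 1 := by omega
    rw [h2, pow_succ, ← Units.val_pow_eq_pow_val, hx1, Units.val_one, one_mul]
  · intro c hc
    have hc0 : c ≠ 0 := by
      rintro rfl
      rw [map_zero] at hc
      exact Units.ne_zero _ hc
    have h3 : ((ζ ^ m : Lˣ) : L) ^ (Fintype.card F - 1) = 1 := by
      rw [hc, ← map_pow, FiniteField.pow_card_sub_one_eq_one c hc0, map_one]
    have h4 : (ζ ^ m) ^ (Fintype.card F - 1) = 1 := by
      apply Units.ext
      rw [Units.val_pow_eq_pow_val, h3, Units.val_one]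
    rw [← pow_mul] at h4
    have h5 := orderOf_dvd_of_pow_eq_one h4
    rw [hord, hm, mul_comm m] at h5
    have h6 : Fintype.card F ^ s - 1 ∣ Fintype.card F - 1 :=
      Nat.dvd_of_mul_dvd_mul_right hm0 h5
    have h7 := Nat.le_of_dvd (by omega) h6
    have h8 : Fintype.card F ^ 1 < Fintype.card F ^ s := Nat.pow_lt_pow_right (by omega) hs1
    rw [pow_one] at h8
    omega

end units

end Cfsg.Agent.helper13
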