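import Mathlib
import Cfsg.Agent.Lib_helper13_ExtF1

/-! The intermediate field of a field subalgebra and its normaliser. -/

set_option autoImplicit false

namespace Cfsg.Agent.helper13

open Matrix Module

section extf2
variable {F : Type*} [Field F] [Fintype F] {L : Type*} [Field L] [Fintype L] [Algebra F L]
variable {n : ℕ} (ι : L →ₐ[F] Matrix (Fin n) (Fin n) F)

/-- the image of the fixed field of the `s`-th power of the Frobenius. -/
noncomputable def K0 (s : ℕ) : Subalgebra F (Matrix (Fin n) (Fin n) F) :=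
  (AlgHom.equalizer ((FiniteField.frobeniusAlgHom F L) ^ s) (AlgHom.id F L)).map ι

theorem mem_K0 (s : ℕ) (k : Matrix (Fin n) (Fin n) F) :
    k ∈ K0 ι s ↔ ∃ x : L, x ^ (Fintype.card F ^ s) = x ∧ ι x = k := by
  unfold K0
  rw [Subalgebra.mem_map]
  constructor
  · rintro ⟨x, hx, rfl⟩
    rw [AlgHom.mem_equalizer, AlgHom.coe_pow, FiniteField.coe_frobeniusAlgHom, pow_iterate,
      AlgHom.id_apply] at hx
    exact ⟨x, hx, rfl⟩
  · rintro ⟨x, hx, rfl⟩
    refine ⟨x, ?_, rfl⟩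
    rw [AlgHom.mem_equalizer, AlgHom.coe_pow, FiniteField.coe_frobeniusAlgHom, pow_iterate,
      AlgHom.id_apply]
    exact hx

theorem iota_inj (hn : 0 < n) : Function.Injective ι := by
  haveI : Nonempty (Fin n) := ⟨⟨0, hn⟩⟩
  exact (ι : L →+* Matrix (Fin n) (Fin n) F).injective

theorem K0_inv (s : ℕ) (x : Matrix (Fin n) (Fin n) F) (hx : x ∈ K0 ι s) (h0 : x ≠ 0) :
    ∃ y : Matrix (Fin n) (Fin n) F, x * y = 1 := by
  obtain ⟨a, -, rfl⟩ := (mem_K0 ι s x).mp hx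
  have ha : a ≠ 0 := by
    rintro rfl
    exact h0 (map_zero _)
  exact ⟨ι a⁻¹, by rw [← map_mul, mul_inv_cancel₀ ha, map_one]⟩

theorem range_inv (x : Matrix (Fin n) (Fin n) F) (hx : x ∈ ι.range) (h0 : x ≠ 0) :
    ∃ y : Matrix (Fin n) (Fin n) F, x * y = 1 := by
  obtain ⟨a, rfl⟩ := (AlgHom.mem_range ι).mp hx
  have ha : a ≠ 0 := by
    rintro rfl
    exact h0 (map_zero _)
  exact ⟨ι a⁻¹, by rw [← map_mul, mul_inv_cancel₀ ha, map_one]⟩

theorem conj_fixed_iff (hn : 0 < n) (g : GL (Fin n) F) (x y : L) (s : ℕ)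
    (h : (g : Matrix (Fin n) (Fin n) F) * ι x * ((g⁻¹ : GL (Fin n) F) : Matrix (Fin n) (Fin n) F) = ι y) :
    x ^ (Fintype.card F ^ s) = x ↔ y ^ (Fintype.card F ^ s) = y := by
  have hpow : ι (y ^ (Fintype.card F ^ s)) = (g : Matrix (Fin n) (Fin n) F) *
      ι (x ^ (Fintype.card F ^ s)) * ((g⁻¹ : GL (Fin n) F) : Matrix (Fin n) (Fin n) F) := by
    rw [map_pow, map_pow, ← h, Units.conj_pow]
  constructor
  · intro hx
    apply iota_inj ι hn
    rw [hpow, hx, h]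
  · intro hy
    apply iota_inj ι hn
    rw [hy, ← h] at hpow
    have h1 := congrArg (fun M => ((g⁻¹ : GL (Fin n) F) : Matrix (Fin n) (Fin n) F) * M *
      (g : Matrix (Fin n) (Fin n) F)) hpow
    have hginv : ((g⁻¹ : GL (Fin n) F) : Matrix (Fin n) (Fin n) F) *
        (g : Matrix (Fin n) (Fin n) F) = 1 := by
      rw [← Units.val_mul, inv_mul_cancel, Units.val_one]
    have e : ∀ M : Matrix (Fin n) (Fin n) F,
        ((g⁻¹ : GL (Fin n) F) : Matrix (Fin n) (Fin n) F) * ((g : Matrix (Fin n) (Fin n) F) * M *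
          ((g⁻¹ : GL (Fin n) F) : Matrix (Fin n) (Fin n) F)) * (g : Matrix (Fin n) (Fin n) F) = M := by
      intro M
      rw [Matrix.mul_assoc, Matrix.mul_assoc, hginv, Matrix.mul_one, ← Matrix.mul_assoc, hginv,
        Matrix.one_mul]
    simp only [e] at h1
    exact h1.symm

theorem normalizer_le_K0 (hn : 0 < n) (s : ℕ) :
    Cfsg.Geo.subalgebraNormalizer ι.range ≤ Cfsg.Geo.subalgebraNormalizer (K0 ι s) := by
  intro g hg k
  have hg' : ∀ k : Matrix (Fin n) (Fin n) F, k ∈ ι.range ↔ (g : Matrix (Fin n) (Fin n) F) * k *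
      ((g⁻¹ : GL (Fin n) F) : Matrix (Fin n) (Fin n) F) ∈ ι.range := hg
  rw [mem_K0, mem_K0]
  constructor
  · rintro ⟨x, hx, rfl⟩
    obtain ⟨y, hy⟩ := (AlgHom.mem_range ι).mp ((hg' (ι x)).mp ((AlgHom.mem_range ι).mpr ⟨x, rfl⟩))
    exact ⟨y, (conj_fixed_iff ι hn g x y s hy.symm).mp hx, hy⟩
  · rintro ⟨y, hy, hyk⟩
    obtain ⟨x, rfl⟩ := (AlgHom.mem_range ι).mp ((hg' k).mpr ((AlgHom.mem_range ι).mpr ⟨y, hyk⟩))
    exact ⟨x, (conj_fixed_iff ι hn g x y s hyk.symm).mpr hy, rfl⟩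

end extf2

end Cfsg.Agent.helper13
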