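import Mathlib
import Cfsg.Agent.Lib_helper13_ExtF2

/-! Transvections do not normalise a non-scalar field subalgebra. -/

set_option autoImplicit false

namespace Cfsg.Agent.helper13

open Matrix Module

section extf3
variable {F : Type*} [Field F] [Fintype F] {L : Type*} [Field L] [Fintype L] [Algebra F L]
variable {n : ℕ} (ι : L →ₐ[F] Matrix (Fin n) (Fin n) F)

omit [Fintype F] in
theorem mat_ext_mulVec {A B : Matrix (Fin n) (Fin n) F} (h : ∀ x : Fin n → F, A *ᵥ x = B *ᵥ x) :
    A = B := by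
  apply Matrix.toLin'.injective
  apply LinearMap.ext
  intro x
  rw [Matrix.toLin'_apply, Matrix.toLin'_apply]
  exact h x

omit [Fintype F] in
theorem mem_specialLinear_iff (g : GL (Fin n) F) :
    g ∈ Cfsg.Geo.specialLinear (Fin n) F ↔ (g : Matrix (Fin n) (Fin n) F).det = 1 := by
  unfold Cfsg.Geo.specialLinear
  rw [MonoidHom.mem_ker, Units.ext_iff]
  rfl

theorem exists_transvection_not_mem (hn : 3 ≤ n) (s : ℕ) (x₀ : L)
    (hx₀ : x₀ ^ (Fintype.card F ^ s) = x₀) (hns : ∀ c : F, x₀ ≠ algebraMap F L c) :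
    ∃ T : GL (Fin n) F, T ∈ Cfsg.Geo.specialLinear (Fin n) F ∧
      T ∉ Cfsg.Geo.subalgebraNormalizer (K0 ι s) := by
  classical
  by_contra hcon
  push Not at hcon
  have hk₀ : ι x₀ ∈ K0 ι s := (mem_K0 ι s _).mpr ⟨x₀, hx₀, rfl⟩
  have hall : ∀ t : TransvectionStruct (Fin n) F, Commute t.toMatrix (ι x₀) := by
    intro t
    obtain ⟨T, hTdef⟩ : ∃ T : GL (Fin n) F, T = ⟨t.toMatrix, t.inv.toMatrix, t.mul_inv, t.inv_mul⟩ :=
      ⟨_, rfl⟩
    have hTval : (T : Matrix (Fin n) (Fin n) F) = t.toMatrix := by rw [hTdef]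
    have hTsl : T ∈ Cfsg.Geo.specialLinear (Fin n) F := by
      rw [mem_specialLinear_iff, hTval]
      exact t.det
    have hTN : ∀ k : Matrix (Fin n) (Fin n) F, k ∈ K0 ι s ↔ (T : Matrix (Fin n) (Fin n) F) * k *
        ((T⁻¹ : GL (Fin n) F) : Matrix (Fin n) (Fin n) F) ∈ K0 ι s := hcon T hTsl
    have hgk := (hTN (ι x₀)).mp hk₀
    obtain ⟨u, hu0, huj, hkuj⟩ : ∃ u : Fin n → F, u ≠ 0 ∧ u t.j = 0 ∧ (ι x₀ *ᵥ u) t.j = 0 := by
      obtain ⟨f, hfdef⟩ : ∃ f : (Fin n → F) →ₗ[F] (F × F), f = (LinearMap.proj t.j).prod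
          ((LinearMap.proj t.j).comp (Matrix.toLin' (ι x₀))) := ⟨_, rfl⟩
      have hker : LinearMap.ker f ≠ ⊥ := LinearMap.ker_ne_bot_of_finrank_lt (by
        rw [Module.finrank_prod, Module.finrank_self, Module.finrank_fintype_fun_eq_card,
          Fintype.card_fin]
        omega)
      obtain ⟨u, hu, hu0⟩ := (Submodule.ne_bot_iff _).mp hker
      rw [LinearMap.mem_ker, hfdef] at hu
      have h1 := congrArg Prod.fst hu
      have h2 := congrArg Prod.snd hu
      simp only [LinearMap.prod_apply, Pi.prod, LinearMap.proj_apply, LinearMap.comp_apply,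
        Matrix.toLin'_apply, Prod.fst_zero, Prod.snd_zero] at h1 h2
      exact ⟨u, hu0, h1, h2⟩
    have hker : ((T : Matrix (Fin n) (Fin n) F) * ι x₀) *ᵥ u =
        (ι x₀ * (T : Matrix (Fin n) (Fin n) F)) *ᵥ u := by
      rw [hTval, ← Matrix.mulVec_mulVec, ← Matrix.mulVec_mulVec]
      unfold TransvectionStruct.toMatrix Matrix.transvection
      rw [Matrix.add_mulVec, Matrix.add_mulVec, Matrix.one_mulVec, Matrix.one_mulVec,
        Matrix.single_mulVec, Matrix.single_mulVec, huj, hkuj, mul_zero]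
      have : Function.update (0 : Fin n → F) t.i 0 = 0 := by
        ext a
        by_cases h : a = t.i
        · rw [h, Function.update_self]; rfl
        · rw [Function.update_of_ne h]
      rw [this, add_zero, add_zero]
    have := comm_of_ker (K0_inv ι s) T (ι x₀) hk₀ hgk u hu0 hker
    rw [hTval] at this
    exact this
  obtain ⟨c, hc⟩ := Matrix.mem_range_scalar_of_commute_transvectionStruct hall
  apply hns c
  apply iota_inj ι (by omega)
  rw [← hc, AlgHom.commutes, Matrix.algebraMap_eq_diagonal, Matrix.scalar_apply]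
  rfl

end extf3

end Cfsg.Agent.helper13
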