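import Mathlib
import Cfsg.Agent.Lib_helper13_ExtF3

/-! A unipotent element centralising the intermediate field but not normalising the field. -/

set_option autoImplicit false

namespace Cfsg.Agent.helper13

open Matrix Module

section extf4
variable {F : Type*} [Field F] [Fintype F] {L : Type*} [Field L] [Fintype L] [Algebra F L]
variable {n : ℕ} (ι : L →ₐ[F] Matrix (Fin n) (Fin n) F)

/-- the `L`-module structure on the column space given by an embedding of `L`. -/
@[reducible] def modL : Module L (Fin n → F) where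
  smul x v := ι x *ᵥ v
  one_smul v := by
    show ι 1 *ᵥ v = v
    rw [map_one, Matrix.one_mulVec]
  mul_smul x y v := by
    show ι (x * y) *ᵥ v = ι x *ᵥ (ι y *ᵥ v)
    rw [map_mul, Matrix.mulVec_mulVec]
  smul_zero x := Matrix.mulVec_zero _
  smul_add x v w := Matrix.mulVec_add _ _ _
  add_smul x y v := by
    show ι (x + y) *ᵥ v = ι x *ᵥ v + ι y *ᵥ v
    rw [map_add, Matrix.add_mulVec]
  zero_smul v := by
    show ι 0 *ᵥ v = 0
    rw [map_zero, Matrix.zero_mulVec]

/-- the orbit map of a vector. -/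
def actL (v : Fin n → F) : L →ₗ[F] (Fin n → F) :=
  IsLinearMap.mk' (fun x => ι x *ᵥ v) ⟨fun x y => by rw [map_add, Matrix.add_mulVec],
    fun c x => by rw [map_smul, Matrix.smul_mulVec]⟩

omit [Fintype F] [Fintype L] in
theorem actL_apply (v : Fin n → F) (x : L) : actL ι v x = ι x *ᵥ v := rfl

/-- a square-zero matrix gives a unipotent element of determinant one. -/
theorem det_one_add_sq_zero (hn : 0 < n) (N : Matrix (Fin n) (Fin n) F) (hN : N * N = 0) :
    (1 + N).det = 1 := by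
  haveI : Nonempty (Fin n) := ⟨⟨0, hn⟩⟩
  obtain ⟨p, hp⟩ := CharP.exists F
  haveI := hp
  haveI : Fact p.Prime := ⟨CharP.char_is_prime F p⟩
  have hp2 : 2 ≤ p := (Fact.out : p.Prime).two_le
  haveI : CharP (Matrix (Fin n) (Fin n) F) p := Matrix.charP p
  have h1 : (1 + N) ^ p = 1 := by
    rw [add_pow_char_of_commute p (Commute.one_left N), one_pow]
    have : N ^ p = 0 := by
      obtain ⟨k, rfl⟩ : ∃ k, p = 2 + k := ⟨p - 2, by omega⟩
      rw [pow_add, pow_two, hN, zero_mul]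
    rw [this, add_zero]
  have h2 : (1 + N).det ^ p = 1 ^ p := by
    rw [← Matrix.det_pow, h1, Matrix.det_one, one_pow]
  exact frobenius_inj F p h2

theorem exists_unipotent {r s : ℕ} (hr : finrank F L = r) (hs0 : 0 < s) (hslt : s < r)
    (hrn : r < n) :
    ∃ g : GL (Fin n) F, g ∈ Cfsg.Geo.specialLinear (Fin n) F ∧
      g ∈ Cfsg.Geo.subalgebraNormalizer (K0 ι s) ∧ g ∉ Cfsg.Geo.subalgebraNormalizer ι.range := by
  classical
  have hn : 0 < n := by omega
  letI : Module L (Fin n → F) := modL ι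
  have hsmul : ∀ (x : L) (v : Fin n → F), x • v = ι x *ᵥ v := fun _ _ => rfl
  haveI : IsScalarTower F L (Fin n → F) :=
    ⟨fun c x v => by rw [hsmul, hsmul, map_smul, Matrix.smul_mulVec]⟩
  obtain ⟨v₂, hv₂⟩ : ∃ v₂ : Fin n → F, v₂ ≠ 0 := by
    refine ⟨Pi.single ⟨0, hn⟩ 1, fun h => ?_⟩
    have := congrFun h ⟨0, hn⟩
    rw [Pi.single_eq_same, Pi.zero_apply] at this
    exact one_ne_zero this
  have hS : finrank F (LinearMap.range (actL ι v₂)) ≤ r := by
    rw [← hr]
    exact LinearMap.finrank_range_le _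
  obtain ⟨v₁, hv₁⟩ : ∃ v₁, v₁ ∉ LinearMap.range (actL ι v₂) := by
    by_contra hcon
    push Not at hcon
    have : LinearMap.range (actL ι v₂) = ⊤ := eq_top_iff.mpr (fun x _ => hcon x)
    rw [this, finrank_top, Module.finrank_fintype_fun_eq_card, Fintype.card_fin] at hS
    omega
  have hv₁' : v₁ ∉ Submodule.span L {v₂} := by
    intro h
    obtain ⟨a, ha⟩ := Submodule.mem_span_singleton.mp h
    exact hv₁ ⟨a, by rw [← ha]; rfl⟩
  obtain ⟨f, hf1, hf2⟩ := Submodule.exists_dual_map_eq_bot_of_notMem hv₁' inferInstance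
  have hfv₂ : f v₂ = 0 := by
    have : f v₂ ∈ (Submodule.span L {v₂}).map f :=
      Submodule.mem_map_of_mem (Submodule.mem_span_singleton_self v₂)
    rw [hf2] at this
    exact (Submodule.mem_bot L).mp this
  have hfsm : ∀ (y : L) (x : Fin n → F), f (ι y *ᵥ x) = y * f x := by
    intro y x
    rw [← hsmul, map_smul, smul_eq_mul]
  obtain ⟨φ, hφdef⟩ : ∃ φ : L →ₐ[F] L, φ = (FiniteField.frobeniusAlgHom F L) ^ s := ⟨_, rfl⟩
  have hφ : ∀ y, φ y = y ^ (Fintype.card F ^ s) := by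
    intro y
    rw [hφdef, AlgHom.coe_pow, FiniteField.coe_frobeniusAlgHom, pow_iterate]
  obtain ⟨Nl, hNldef⟩ : ∃ Nl : (Fin n → F) →ₗ[F] (Fin n → F), Nl = (actL ι v₂) ∘ₗ φ.toLinearMap ∘ₗ
      (LinearMap.mulLeft F (f v₁)⁻¹) ∘ₗ (f.restrictScalars F) := ⟨_, rfl⟩
  have hNl : ∀ x, Nl x = ι (φ ((f v₁)⁻¹ * f x)) *ᵥ v₂ := by
    intro x
    rw [hNldef]
    rfl
  -- the three properties
  have N1 : ∀ y : L, φ y = y → ∀ x, Nl (ι y *ᵥ x) = ι y *ᵥ Nl x := by
    intro y hy x
    rw [hNl, hNl, hfsm, Matrix.mulVec_mulVec, ← map_mul, ← hy, ← map_mul, hy]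
    congr 3
    ring
  have N2 : ∀ x, Nl (Nl x) = 0 := by
    intro x
    rw [hNl (Nl x), hNl x, hfsm, hfv₂, mul_zero, mul_zero, map_zero, map_zero, Matrix.zero_mulVec]
  have N3 : ∀ y : L, Nl (ι y *ᵥ v₁) = ι (φ y) *ᵥ v₂ := by
    intro y
    rw [hNl, hfsm]
    congr 3
    field_simp
  obtain ⟨N, hNdef⟩ : ∃ N : Matrix (Fin n) (Fin n) F, N = LinearMap.toMatrix' Nl := ⟨_, rfl⟩
  have hN : ∀ x, N *ᵥ x = Nl x := by
    intro x
    rw [hNdef, LinearMap.toMatrix'_mulVec]
  have hNN : N * N = 0 := by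
    apply mat_ext_mulVec
    intro x
    rw [← Matrix.mulVec_mulVec, hN, hN, N2, Matrix.zero_mulVec]
  have hcomm : ∀ y : L, φ y = y → N * ι y = ι y * N := by
    intro y hy
    apply mat_ext_mulVec
    intro x
    rw [← Matrix.mulVec_mulVec, ← Matrix.mulVec_mulVec, hN, hN, N1 y hy]
  have hinv1 : (1 + N) * (1 - N) = 1 := by
    have : (1 + N) * (1 - N) = 1 - N * N := by noncomm_ring
    rw [this, hNN, sub_zero]
  have hinv2 : (1 - N) * (1 + N) = 1 := by
    have : (1 - N) * (1 + N) = 1 - N * N := by noncomm_ring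
    rw [this, hNN, sub_zero]
  obtain ⟨g, hgdef⟩ : ∃ g : GL (Fin n) F, g = ⟨1 + N, 1 - N, hinv1, hinv2⟩ := ⟨_, rfl⟩
  have hgval : (g : Matrix (Fin n) (Fin n) F) = 1 + N := by rw [hgdef]
  have hginvval : ((g⁻¹ : GL (Fin n) F) : Matrix (Fin n) (Fin n) F) = 1 - N := by rw [hgdef]; rfl
  have hgcomm : ∀ k ∈ K0 ι s, (g : Matrix (Fin n) (Fin n) F) * k *
      ((g⁻¹ : GL (Fin n) F) : Matrix (Fin n) (Fin n) F) = k := by
    intro k hk
    obtain ⟨y, hy, rfl⟩ := (mem_K0 ι s k).mp hk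
    have hy' : φ y = y := by rw [hφ, hy]
    have h1 : (1 + N) * ι y = ι y * (1 + N) := by
      rw [Matrix.add_mul, Matrix.mul_add, Matrix.one_mul, Matrix.mul_one, hcomm y hy']
    rw [hgval, hginvval, h1, Matrix.mul_assoc, hinv1, Matrix.mul_one]
  refine ⟨g, ?_, ?_, ?_⟩
  · rw [mem_specialLinear_iff, hgval]
    exact det_one_add_sq_zero hn N hNN
  · intro k
    constructor
    · intro hk
      rw [hgcomm k hk]
      exact hk
    · intro hk
      have h1 := hgcomm _ hk
      have hginv : ((g⁻¹ : GL (Fin n) F) : Matrix (Fin n) (Fin n) F) *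
          (g : Matrix (Fin n) (Fin n) F) = 1 := by
        rw [← Units.val_mul, inv_mul_cancel, Units.val_one]
      have hginv' : (g : Matrix (Fin n) (Fin n) F) *
          ((g⁻¹ : GL (Fin n) F) : Matrix (Fin n) (Fin n) F) = 1 := by
        rw [← Units.val_mul, mul_inv_cancel, Units.val_one]
      have h2 : k = (g : Matrix (Fin n) (Fin n) F) * k *
          ((g⁻¹ : GL (Fin n) F) : Matrix (Fin n) (Fin n) F) := by
        have h3 := congrArg (fun M => ((g⁻¹ : GL (Fin n) F) : Matrix (Fin n) (Fin n) F) * M *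
          (g : Matrix (Fin n) (Fin n) F)) h1
        have e : ∀ M : Matrix (Fin n) (Fin n) F,
            ((g⁻¹ : GL (Fin n) F) : Matrix (Fin n) (Fin n) F) * ((g : Matrix (Fin n) (Fin n) F) * M *
              ((g⁻¹ : GL (Fin n) F) : Matrix (Fin n) (Fin n) F)) * (g : Matrix (Fin n) (Fin n) F) = M := by
          intro M
          rw [Matrix.mul_assoc, Matrix.mul_assoc, hginv, Matrix.mul_one, ← Matrix.mul_assoc, hginv,
            Matrix.one_mul]
        rw [e, e] at h3
        exact h3.symm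
      rw [h2]
      exact hk
  · intro hg
    have hg' : ∀ k : Matrix (Fin n) (Fin n) F, k ∈ ι.range ↔ (g : Matrix (Fin n) (Fin n) F) * k *
        ((g⁻¹ : GL (Fin n) F) : Matrix (Fin n) (Fin n) F) ∈ ι.range := hg
    obtain ⟨y, hy⟩ := exists_not_fixed (F := F) (L := L) hr hs0 hslt
    apply hy
    rw [← hφ]
    -- a kernel vector
    obtain ⟨E, hEdef⟩ : ∃ E : (Fin n → F) →ₗ[F] (Fin n → F),
        E = Nl ∘ₗ Matrix.toLin' (ι y) - Matrix.toLin' (ι y) ∘ₗ Nl := ⟨_, rfl⟩
    have hE : ∀ x, E x = Nl (ι y *ᵥ x) - ι y *ᵥ Nl x := by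
      intro x
      rw [hEdef]
      rfl
    have hrange : LinearMap.range E ≤ LinearMap.range (actL ι v₂) := by
      rintro _ ⟨x, rfl⟩
      rw [hE]
      apply Submodule.sub_mem
      · rw [hNl]
        exact ⟨_, rfl⟩
      · rw [hNl, Matrix.mulVec_mulVec, ← map_mul]
        exact ⟨_, rfl⟩
    have hkerE : LinearMap.ker E ≠ ⊥ := by
      intro hbot
      have h1 := LinearMap.finrank_range_add_finrank_ker E
      rw [hbot, finrank_bot, add_zero, Module.finrank_fintype_fun_eq_card, Fintype.card_fin] at h1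
      have h2 := Submodule.finrank_mono hrange
      omega
    obtain ⟨u, hu, hu0⟩ := (Submodule.ne_bot_iff _).mp hkerE
    rw [LinearMap.mem_ker, hE, sub_eq_zero] at hu
    have hker : ((g : Matrix (Fin n) (Fin n) F) * ι y) *ᵥ u =
        (ι y * (g : Matrix (Fin n) (Fin n) F)) *ᵥ u := by
      rw [hgval, Matrix.add_mul, Matrix.mul_add, Matrix.one_mul, Matrix.mul_one, Matrix.add_mulVec,
        Matrix.add_mulVec, ← Matrix.mulVec_mulVec, ← Matrix.mulVec_mulVec, hN, hN, hu]
    have hgy := comm_of_ker (range_inv ι) g (ι y) ((AlgHom.mem_range ι).mpr ⟨y, rfl⟩)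
      ((hg' (ι y)).mp ((AlgHom.mem_range ι).mpr ⟨y, rfl⟩)) u hu0 hker
    rw [hgval, Matrix.add_mul, Matrix.mul_add, Matrix.one_mul, Matrix.mul_one, add_right_inj] at hgy
    have h1 := congrArg (fun M => M *ᵥ v₁) hgy
    rw [← Matrix.mulVec_mulVec, ← Matrix.mulVec_mulVec, hN, hN, N3] at h1
    have h2 : Nl v₁ = v₂ := by
      have := N3 1
      rw [map_one, Matrix.one_mulVec, map_one, map_one, Matrix.one_mulVec] at this
      exact this
    rw [h2] at h1
    by_contra hne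
    have hd : φ y - y ≠ 0 := sub_ne_zero.mpr hne
    apply hv₂
    have h3 : ι (φ y - y) *ᵥ v₂ = 0 := by
      rw [map_sub, Matrix.sub_mulVec, h1, sub_self]
    have h4 := congrArg (fun w => ι (φ y - y)⁻¹ *ᵥ w) h3
    rw [Matrix.mulVec_mulVec, ← map_mul, inv_mul_cancel₀ hd, map_one, Matrix.one_mulVec,
      Matrix.mulVec_zero] at h4
    exact h4

end extf4

end Cfsg.Agent.helper13
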