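import Mathlib
import Cfsg.Agent.Lib_helper13_ExtF4

/-! Coordinates adapted to a direct-sum decomposition and the block-support function. -/

set_option autoImplicit false

namespace Cfsg.Agent.helper13

open Matrix Module

section dec1
variable {F : Type*} [Field F] {n : ℕ}

/-- an invertible matrix from a linear equivalence. -/
noncomputable def glOfEquiv (e : (Fin n → F) ≃ₗ[F] (Fin n → F)) : GL (Fin n) F :=
  ⟨LinearMap.toMatrix' e.toLinearMap, LinearMap.toMatrix' e.symm.toLinearMap,
    by rw [← LinearMap.toMatrix'_comp, LinearEquiv.comp_symm, LinearMap.toMatrix'_id],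
    by rw [← LinearMap.toMatrix'_comp, LinearEquiv.symm_comp, LinearMap.toMatrix'_id]⟩

theorem glOfEquiv_mulVec (e : (Fin n → F) ≃ₗ[F] (Fin n → F)) (x : Fin n → F) :
    ((glOfEquiv e : GL (Fin n) F) : Matrix (Fin n) (Fin n) F) *ᵥ x = e x :=
  LinearMap.toMatrix'_mulVec _ _

theorem det_glOfEquiv (e : (Fin n → F) ≃ₗ[F] (Fin n → F)) :
    ((glOfEquiv e : GL (Fin n) F) : Matrix (Fin n) (Fin n) F).det = LinearMap.det e.toLinearMap :=
  LinearMap.det_toMatrix' _

/-- the stabiliser of a function on the column space. -/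
def funStab (N : (Fin n → F) → F) : Subgroup (GL (Fin n) F) where
  carrier := {g | ∀ x, N ((g : Matrix (Fin n) (Fin n) F) *ᵥ x) = N x}
  mul_mem' := by
    intro a b ha hb x
    rw [Units.val_mul, ← Matrix.mulVec_mulVec, ha, hb]
  one_mem' := by
    intro x
    simp
  inv_mem' := by
    intro a ha x
    have := ha (((a⁻¹ : GL (Fin n) F) : Matrix (Fin n) (Fin n) F) *ᵥ x)
    rw [Matrix.mulVec_mulVec, ← Units.val_mul, mul_inv_cancel, Units.val_one,
      Matrix.one_mulVec] at this
    exact this.symm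

theorem mem_funStab (N : (Fin n → F) → F) (g : GL (Fin n) F) :
    g ∈ funStab N ↔ ∀ x, N ((g : Matrix (Fin n) (Fin n) F) *ᵥ x) = N x := Iff.rfl

/-- the general shape of the non-maximality argument. -/
theorem not_max_of_funStab (H : Subgroup (GL (Fin n) F)) (N : (Fin n → F) → F)
    (hH : H ≤ funStab N)
    (g₁ : GL (Fin n) F) (h1 : g₁ ∈ funStab N) (h1s : g₁ ∈ Cfsg.Geo.specialLinear (Fin n) F)
    (h1H : g₁ ∉ H)
    (g₂ : GL (Fin n) F) (h2s : g₂ ∈ Cfsg.Geo.specialLinear (Fin n) F) (h2 : g₂ ∉ funStab N) :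
    ∃ K : Subgroup (GL (Fin n) F), H ⊓ Cfsg.Geo.specialLinear (Fin n) F < K ∧
      K < Cfsg.Geo.specialLinear (Fin n) F := by
  refine ⟨funStab N ⊓ Cfsg.Geo.specialLinear (Fin n) F, ?_, ?_⟩
  · refine lt_of_le_of_ne (inf_le_inf_right _ hH) (fun h => ?_)
    have : g₁ ∈ funStab N ⊓ Cfsg.Geo.specialLinear (Fin n) F := ⟨h1, h1s⟩
    rw [← h] at this
    exact h1H this.1
  · refine lt_of_le_of_ne inf_le_right (fun h => ?_)
    rw [← h] at h2s
    exact h2 h2s.1

end dec1

section coords
variable {F : Type*} [Field F] {n t m : ℕ}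

/-- coordinates adapted to a decomposition: a linear equivalence onto block coordinates such that
membership in a block is the vanishing of the other blocks. -/
theorem exists_coords (D : Fin t → Submodule F (Fin n → F)) (hD : Cfsg.Geo.IsMDecomposition m D) :
    ∃ E : (Fin n → F) ≃ₗ[F] (Fin t → Fin m → F),
      ∀ (x : Fin n → F) (i : Fin t), x ∈ D i ↔ ∀ i', i' ≠ i → E x i' = 0 := by
  classical
  have hint := DirectSum.isInternal_submodule_of_iSupIndep_of_iSup_eq_top hD.indep hD.iSup_eq_top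
  obtain ⟨v, hvdef⟩ : ∃ v : (l : Fin t) → Basis (Fin m) F (D l),
      v = fun l => Module.finBasisOfFinrankEq F (D l) (hD.finrank_eq l) := ⟨_, rfl⟩
  obtain ⟨b, hbdef⟩ : ∃ b : Basis ((_ : Fin t) × Fin m) F (Fin n → F), b = hint.collectedBasis v :=
    ⟨_, rfl⟩
  have hb : ∀ a : (_ : Fin t) × Fin m, b a = ((v a.1 a.2 : D a.1) : Fin n → F) := by
    intro a
    rw [hbdef, DirectSum.IsInternal.collectedBasis_coe]
  refine ⟨b.equivFun ≪≫ₗ LinearEquiv.piCurry F (fun (_ : Fin t) (_ : Fin m) => F), ?_⟩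
  intro x i
  have hE : ∀ (y : Fin n → F) (i' : Fin t) (j : Fin m),
      (b.equivFun ≪≫ₗ LinearEquiv.piCurry F (fun (_ : Fin t) (_ : Fin m) => F)) y i' j =
        b.repr y ⟨i', j⟩ := by
    intro y i' j
    rfl
  constructor
  · intro hx i' hi'
    funext j
    rw [hE]
    -- x is a combination of the basis of D i
    have h1 : (⟨x, hx⟩ : D i) = ∑ j', (v i).repr ⟨x, hx⟩ j' • v i j' :=
      ((v i).sum_repr ⟨x, hx⟩).symm
    obtain ⟨c, h2⟩ : ∃ c : Fin m → F, x = ∑ j', c j' • b ⟨i, j'⟩ := by
      refine ⟨fun j' => (v i).repr ⟨x, hx⟩ j', ?_⟩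
      have := congrArg (fun z : D i => (z : Fin n → F)) h1
      simp only [Submodule.coe_sum, Submodule.coe_smul] at this
      refine this.trans (Finset.sum_congr rfl ?_)
      intro j' _
      rw [hb]
    rw [h2, map_sum, Finsupp.coe_finsetSum, Finset.sum_apply]
    apply Finset.sum_eq_zero
    intro j' _
    rw [map_smul, Basis.repr_self, Finsupp.smul_apply, Finsupp.single_apply, if_neg, smul_zero]
    intro h
    exact hi' (congrArg Sigma.fst h).symm
  · intro hx
    have h1 : x = ∑ a, b.repr x a • b a := (b.sum_repr x).symm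
    rw [h1]
    apply Submodule.sum_mem
    intro a _
    by_cases ha : a.1 = i
    · apply Submodule.smul_mem
      rw [hb, ← ha]
      exact (v a.1 a.2).2
    · have : b.repr x a = 0 := by
        have := congrFun (hx a.1 ha) a.2
        rw [hE] at this
        exact this
      rw [this, zero_smul]
      exact Submodule.zero_mem _

end coords

end Cfsg.Agent.helper13
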