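import Mathlib
import Cfsg.Agent.Lib_helper13_Dec1

/-! The block-support function is invariant under the stabiliser of the decomposition. -/

set_option autoImplicit false

namespace Cfsg.Agent.helper13

open Matrix Module

section dec2
variable {F : Type*} [Field F] {n t m : ℕ}

open scoped Classical in
/-- the number of nonzero blocks, as an element of the field. -/
noncomputable def blockCount (y : Fin t → Fin m → F) : F := ∑ i, (if y i = 0 then (0 : F) else 1)

theorem decompStab_le_funStab (D : Fin t → Submodule F (Fin n → F))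
    (E : (Fin n → F) ≃ₗ[F] (Fin t → Fin m → F))
    (hE : ∀ (x : Fin n → F) (i : Fin t), x ∈ D i ↔ ∀ i', i' ≠ i → E x i' = 0) :
    Cfsg.Geo.decompositionStabilizer D ≤ funStab (fun x => blockCount (E x)) := by
  classical
  rintro g ⟨σ, hσ⟩
  rw [mem_funStab]
  intro x
  obtain ⟨c, hcdef⟩ : ∃ c : Fin t → (Fin n → F), c = fun i => E.symm (Pi.single i (E x i)) :=
    ⟨_, rfl⟩
  have hEc : ∀ i, E (c i) = Pi.single i (E x i) := by
    intro i
    rw [hcdef]
    exact E.apply_symm_apply _
  have hcD : ∀ i, c i ∈ D i := by
    intro i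
    rw [hE]
    intro i' hi'
    rw [hEc, Pi.single_eq_of_ne hi']
  have hsum : x = ∑ i, c i := by
    apply E.injective
    rw [map_sum]
    simp_rw [hEc]
    exact (Finset.univ_sum_single (E x)).symm
  have hgD : ∀ i, (g : Matrix (Fin n) (Fin n) F) *ᵥ c i ∈ D (σ i) := by
    intro i
    rw [← hσ i]
    exact ⟨c i, hcD i, Matrix.toLin'_apply _ _⟩
  have hblock : ∀ i, E ((g : Matrix (Fin n) (Fin n) F) *ᵥ x) (σ i) =
      E ((g : Matrix (Fin n) (Fin n) F) *ᵥ c i) (σ i) := by
    intro i
    rw [hsum, Matrix.mulVec_sum, map_sum, Finset.sum_apply]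
    apply Finset.sum_eq_single i
    · intro k _ hk
      exact (hE _ (σ k)).mp (hgD k) (σ i) (fun h => hk (σ.injective h).symm)
    · intro h
      exact absurd (Finset.mem_univ i) h
  have hzero : ∀ i, E ((g : Matrix (Fin n) (Fin n) F) *ᵥ c i) (σ i) = 0 ↔ E x i = 0 := by
    intro i
    constructor
    · intro h
      have h1 : E ((g : Matrix (Fin n) (Fin n) F) *ᵥ c i) = 0 := by
        funext i'
        by_cases hi' : i' = σ i
        · rw [hi', h]; rfl
        · exact (hE _ (σ i)).mp (hgD i) i' hi'
      have h2 : (g : Matrix (Fin n) (Fin n) F) *ᵥ c i = 0 := by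
        apply E.injective
        rw [h1, map_zero]
      have h3 : c i = 0 := by
        have := congrArg (fun w => ((g⁻¹ : GL (Fin n) F) : Matrix (Fin n) (Fin n) F) *ᵥ w) h2
        simp only [Matrix.mulVec_zero] at this
        rw [Matrix.mulVec_mulVec, ← Units.val_mul, inv_mul_cancel, Units.val_one,
          Matrix.one_mulVec] at this
        exact this
      have h4 := hEc i
      rw [h3, map_zero] at h4
      have := congrFun h4 i
      rw [Pi.single_eq_same] at this
      exact this.symm
    · intro h
      have h1 : c i = 0 := by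
        apply E.injective
        rw [hEc, h, Pi.single_zero, map_zero]
      rw [h1, Matrix.mulVec_zero, map_zero]
      rfl
  show blockCount (E ((g : Matrix (Fin n) (Fin n) F) *ᵥ x)) = blockCount (E x)
  unfold blockCount
  rw [← Equiv.sum_comp σ]
  apply Finset.sum_congr rfl
  intro i _
  by_cases h : E x i = 0
  · rw [if_pos h, if_pos]
    rw [hblock]
    exact (hzero i).mpr h
  · rw [if_neg h, if_neg]
    rw [hblock]
    exact fun h' => h ((hzero i).mp h')

end dec2

end Cfsg.Agent.helper13
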