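import Mathlib
import Cfsg.Agent.Lib_helper13_Dec2

/-! Transporting coordinate maps back along adapted coordinates. -/

set_option autoImplicit false

namespace Cfsg.Agent.helper13

open Matrix Module

section dec3
variable {F : Type*} [Field F] {n t m : ℕ}

/-- the matrix of a coordinate map transported along the coordinates `E`. -/
noncomputable def transp (E : (Fin n → F) ≃ₗ[F] (Fin t → Fin m → F))
    (h₀ : (Fin t → Fin m → F) ≃ₗ[F] (Fin t → Fin m → F)) : GL (Fin n) F :=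
  glOfEquiv (E ≪≫ₗ h₀ ≪≫ₗ E.symm)

theorem transp_mulVec (E : (Fin n → F) ≃ₗ[F] (Fin t → Fin m → F))
    (h₀ : (Fin t → Fin m → F) ≃ₗ[F] (Fin t → Fin m → F)) (x : Fin n → F) :
    ((transp E h₀ : GL (Fin n) F) : Matrix (Fin n) (Fin n) F) *ᵥ x = E.symm (h₀ (E x)) := by
  unfold transp
  rw [glOfEquiv_mulVec]
  rfl

theorem E_transp_mulVec (E : (Fin n → F) ≃ₗ[F] (Fin t → Fin m → F))
    (h₀ : (Fin t → Fin m → F) ≃ₗ[F] (Fin t → Fin m → F)) (x : Fin n → F) :
    E (((transp E h₀ : GL (Fin n) F) : Matrix (Fin n) (Fin n) F) *ᵥ x) = h₀ (E x) := by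
  rw [transp_mulVec, LinearEquiv.apply_symm_apply]

theorem det_transp (E : (Fin n → F) ≃ₗ[F] (Fin t → Fin m → F))
    (h₀ : (Fin t → Fin m → F) ≃ₗ[F] (Fin t → Fin m → F)) :
    ((transp E h₀ : GL (Fin n) F) : Matrix (Fin n) (Fin n) F).det =
      LinearMap.det h₀.toLinearMap := by
  unfold transp
  rw [det_glOfEquiv]
  have := LinearMap.det_conj h₀.toLinearMap E.symm
  rw [← this]
  rfl

theorem transp_mem_special (E : (Fin n → F) ≃ₗ[F] (Fin t → Fin m → F))
    (h₀ : (Fin t → Fin m → F) ≃ₗ[F] (Fin t → Fin m → F))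
    (hdet : LinearMap.det h₀.toLinearMap = 1) :
    transp E h₀ ∈ Cfsg.Geo.specialLinear (Fin n) F := by
  rw [mem_specialLinear_iff, det_transp, hdet]

theorem transp_mem_funStab (E : (Fin n → F) ≃ₗ[F] (Fin t → Fin m → F))
    (h₀ : (Fin t → Fin m → F) ≃ₗ[F] (Fin t → Fin m → F))
    (h : ∀ y, blockCount (h₀ y) = blockCount y) :
    transp E h₀ ∈ funStab (fun x => blockCount (E x)) := by
  rw [mem_funStab]
  intro x
  show blockCount (E _) = blockCount (E x)
  rw [E_transp_mulVec, h]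

theorem transp_not_mem_funStab (E : (Fin n → F) ≃ₗ[F] (Fin t → Fin m → F))
    (h₀ : (Fin t → Fin m → F) ≃ₗ[F] (Fin t → Fin m → F))
    (y : Fin t → Fin m → F) (h : blockCount (h₀ y) ≠ blockCount y) :
    transp E h₀ ∉ funStab (fun x => blockCount (E x)) := by
  rw [mem_funStab]
  intro hcon
  apply h
  have := hcon (E.symm y)
  simp only [E_transp_mulVec, LinearEquiv.apply_symm_apply] at this
  exact this

theorem transp_not_mem_decompStab (D : Fin t → Submodule F (Fin n → F))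
    (E : (Fin n → F) ≃ₗ[F] (Fin t → Fin m → F))
    (hE : ∀ (x : Fin n → F) (i : Fin t), x ∈ D i ↔ ∀ i', i' ≠ i → E x i' = 0)
    (h₀ : (Fin t → Fin m → F) ≃ₗ[F] (Fin t → Fin m → F))
    (y : Fin t → Fin m → F) (i₀ : Fin t) (hy : ∀ i', i' ≠ i₀ → y i' = 0)
    (ia ib : Fin t) (hab : ia ≠ ib) (ha : h₀ y ia ≠ 0) (hb : h₀ y ib ≠ 0) :
    transp E h₀ ∉ Cfsg.Geo.decompositionStabilizer D := by
  rintro ⟨σ, hσ⟩
  have hx₀ : E.symm y ∈ D i₀ := by
    rw [hE]
    intro i' hi'
    rw [LinearEquiv.apply_symm_apply]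
    exact hy i' hi'
  have h1 : ((transp E h₀ : GL (Fin n) F) : Matrix (Fin n) (Fin n) F) *ᵥ (E.symm y) ∈ D (σ i₀) := by
    rw [← hσ i₀]
    exact ⟨E.symm y, hx₀, Matrix.toLin'_apply _ _⟩
  rw [hE] at h1
  simp only [E_transp_mulVec, LinearEquiv.apply_symm_apply] at h1
  by_cases h : ia = σ i₀
  · exact hb (h1 ib (fun h' => hab (h.trans h'.symm)))
  · exact ha (h1 ia h)

open scoped Classical in
theorem blockCount_eq_sum (y : Fin t → Fin m → F) :
    blockCount y = ∑ i, (if y i = 0 then (0 : F) else 1) := by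
  unfold blockCount
  apply Finset.sum_congr rfl
  intro i _
  congr

theorem blockCount_single (i : Fin t) (u : Fin m → F) (hu : u ≠ 0) :
    blockCount (Pi.single i u : Fin t → Fin m → F) = 1 := by
  classical
  rw [blockCount_eq_sum, Finset.sum_eq_single i]
  · rw [Pi.single_eq_same, if_neg hu]
  · intro k _ hk
    rw [Pi.single_eq_of_ne hk, if_pos rfl]
  · intro h
    exact absurd (Finset.mem_univ i) h

theorem blockCount_two (i₀ i₁ : Fin t) (hne : i₀ ≠ i₁) (u₀ u₁ : Fin m → F) (hu₀ : u₀ ≠ 0)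
    (hu₁ : u₁ ≠ 0) :
    blockCount (Pi.single i₀ u₀ + Pi.single i₁ u₁ : Fin t → Fin m → F) = 2 := by
  classical
  rw [blockCount_eq_sum, Finset.sum_eq_add i₀ i₁ hne]
  · rw [Pi.add_apply, Pi.add_apply, Pi.single_eq_same, Pi.single_eq_same,
      Pi.single_eq_of_ne hne, Pi.single_eq_of_ne hne.symm, add_zero, zero_add, if_neg hu₀,
      if_neg hu₁]
    norm_num
  · intro k _ hk
    rw [Pi.add_apply, Pi.single_eq_of_ne hk.1, Pi.single_eq_of_ne hk.2, add_zero, if_pos rfl]
  · intro h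
    exact absurd (Finset.mem_univ i₀) h
  · intro h
    exact absurd (Finset.mem_univ i₁) h

/-- a transvection in block coordinates which changes the block count. -/
theorem exists_shear_not_funStab (E : (Fin n → F) ≃ₗ[F] (Fin t → Fin m → F)) (ht : 2 ≤ t)
    (hm : 0 < m) :
    ∃ g : GL (Fin n) F, g ∈ Cfsg.Geo.specialLinear (Fin n) F ∧
      g ∉ funStab (fun x => blockCount (E x)) := by
  classical
  obtain ⟨i₀, i₁, j₀, hne⟩ : ∃ (i₀ i₁ : Fin t) (_ : Fin m), i₀ ≠ i₁ :=
    ⟨⟨0, by omega⟩, ⟨1, by omega⟩, ⟨0, hm⟩, by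
      intro h
      have := congrArg Fin.val h
      simp at this⟩
  obtain ⟨z, hzdef⟩ : ∃ z : Fin t → Fin m → F,
      z = (Pi.single i₀ (Pi.single j₀ (1 : F) : Fin m → F) : Fin t → Fin m → F) := ⟨_, rfl⟩
  obtain ⟨φ, hφdef⟩ : ∃ φ : Module.Dual F (Fin t → Fin m → F),
      φ = { toFun := fun y => y i₁ j₀, map_add' := fun _ _ => rfl, map_smul' := fun _ _ => rfl } :=
    ⟨_, rfl⟩
  have hφ : ∀ y : Fin t → Fin m → F, φ y = y i₁ j₀ := by
    intro y
    rw [hφdef]
    rfl
  have hφz : φ z = 0 := by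
    rw [hφ, hzdef, Pi.single_eq_of_ne hne.symm]
    rfl
  have hu : (Pi.single j₀ 1 : Fin m → F) ≠ 0 := by
    intro h
    have := congrFun h j₀
    rw [Pi.single_eq_same, Pi.zero_apply] at this
    exact one_ne_zero this
  refine ⟨transp E (LinearEquiv.transvection hφz), transp_mem_special E _ ?_,
    transp_not_mem_funStab E _
      (Pi.single i₁ (Pi.single j₀ (1 : F) : Fin m → F) : Fin t → Fin m → F) ?_⟩
  · rw [← LinearEquiv.coe_det, LinearEquiv.transvection.det_eq_one, Units.val_one]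
  · rw [LinearEquiv.transvection.apply, hφ, Pi.single_eq_same, Pi.single_eq_same, one_smul, hzdef,
      add_comm, blockCount_two i₀ i₁ hne _ _ hu hu, blockCount_single i₁ _ hu]
    intro h
    have : (1 : F) = 0 := by linear_combination h
    exact one_ne_zero this

end dec3

end Cfsg.Agent.helper13
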