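import Mathlib
import Cfsg.Agent.Lib_helper13_Dec3

/-! Frames over the fields of order two, three and four. -/

set_option autoImplicit false

namespace Cfsg.Agent.helper13

open Matrix Module

section smallfields
variable {F : Type*} [Field F] [Fintype F]

theorem dec_f2_cases (hF : Fintype.card F = 2) (c : F) : c = 0 ∨ c = 1 := by
  by_contra h
  push Not at h
  have : 2 < Fintype.card F :=
    Fintype.two_lt_card_iff.mpr ⟨0, 1, c, zero_ne_one, h.1.symm, h.2.symm⟩
  omega

theorem dec_f2_two (hF : Fintype.card F = 2) : (2 : F) = 0 := by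
  have h := Nat.cast_card_eq_zero F
  rw [hF] at h
  exact_mod_cast h

theorem dec_f3_three (hF : Fintype.card F = 3) : (3 : F) = 0 := by
  have h := Nat.cast_card_eq_zero F
  rw [hF] at h
  exact_mod_cast h

theorem dec_f3_sq (hF : Fintype.card F = 3) (c : F) (hc : c ≠ 0) : c ^ 2 = 1 := by
  have h := FiniteField.pow_card_sub_one_eq_one c hc
  rw [hF] at h
  exact h

theorem dec_f4_two (hF : Fintype.card F = 4) : (2 : F) = 0 := by
  have h := Nat.cast_card_eq_zero F
  rw [hF] at h
  have h4 : (2 : F) * 2 = 0 := by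
    have : ((4 : ℕ) : F) = 2 * 2 := by norm_num
    rw [← this]
    exact h
  exact mul_self_eq_zero.mp h4

theorem dec_f4_cube (hF : Fintype.card F = 4) (c : F) (hc : c ≠ 0) : c ^ 3 = 1 := by
  have h := FiniteField.pow_card_sub_one_eq_one c hc
  rw [hF] at h
  exact h

end smallfields

section frames
variable {F : Type*} [Field F] {t : ℕ}

/-- the indicator vector of a set of blocks. -/
def aI (I : Finset (Fin t)) : Fin t → Fin 1 → F := fun i _ => if i ∈ I then 1 else 0

/-- the sum of the coordinates in a set of blocks. -/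
def phiI (I : Finset (Fin t)) : Module.Dual F (Fin t → Fin 1 → F) where
  toFun y := ∑ i ∈ I, y i 0
  map_add' y z := by
    simp only [Pi.add_apply]
    exact Finset.sum_add_distrib
  map_smul' c y := by
    simp only [Pi.smul_apply, smul_eq_mul, RingHom.id_apply]
    exact (Finset.mul_sum _ _ _).symm

theorem phiI_apply (I : Finset (Fin t)) (y : Fin t → Fin 1 → F) : phiI I y = ∑ i ∈ I, y i 0 := rfl

theorem phiI_aI (I : Finset (Fin t)) : phiI I (aI I : Fin t → Fin 1 → F) = (I.card : F) := by
  rw [phiI_apply]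
  have : ∀ i ∈ I, (aI I : Fin t → Fin 1 → F) i 0 = 1 := by
    intro i hi
    unfold aI
    rw [if_pos hi]
  rw [Finset.sum_congr rfl this, Finset.sum_const, nsmul_eq_mul, mul_one]

theorem phiI_aI_disjoint (I J : Finset (Fin t)) (h : Disjoint I J) :
    phiI I (aI J : Fin t → Fin 1 → F) = 0 := by
  rw [phiI_apply]
  apply Finset.sum_eq_zero
  intro i hi
  unfold aI
  rw [if_neg (Finset.disjoint_left.mp h hi)]

open scoped Classical in
theorem blockCount_one (y : Fin t → Fin 1 → F) :
    blockCount y = ∑ i, (if y i 0 = 0 then (0 : F) else 1) := by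
  rw [blockCount_eq_sum]
  apply Finset.sum_congr rfl
  intro i _
  have : y i = 0 ↔ y i 0 = 0 := by
    constructor
    · intro h
      rw [h]
      rfl
    · intro h
      funext j
      rw [Subsingleton.elim j 0, h]
      rfl
  by_cases h : y i 0 = 0
  · rw [if_pos h, if_pos (this.mpr h)]
  · rw [if_neg h, if_neg (fun h' => h (this.mp h'))]

/-- the block count as a power sum. -/
theorem blockCount_pow (e : ℕ) (he : 0 < e) (hpow : ∀ c : F, c ≠ 0 → c ^ e = 1)
    (y : Fin t → Fin 1 → F) : blockCount y = ∑ i, (y i 0) ^ e := by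
  classical
  rw [blockCount_one]
  apply Finset.sum_congr rfl
  intro i _
  by_cases h : y i 0 = 0
  · rw [if_pos h, h, zero_pow (by omega)]
  · rw [if_neg h, hpow _ h]

/-- the change of a power sum under a transvection along a set of blocks. -/
theorem sum_transv (I : Finset (Fin t)) (Q : F → F) (y : Fin t → Fin 1 → F) :
    ∑ i, Q ((LinearMap.transvection (phiI I) (aI I) y) i 0) =
      ∑ i, Q (y i 0) + ∑ i ∈ I, (Q (y i 0 + phiI I y) - Q (y i 0)) := by
  have h1 : ∀ i, (LinearMap.transvection (phiI I) (aI I) y) i 0 =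
      y i 0 + phiI I y * (if i ∈ I then 1 else 0) := by
    intro i
    rw [LinearMap.transvection.apply]
    rfl
  have h2 : ∑ i, Q ((LinearMap.transvection (phiI I) (aI I) y) i 0) - ∑ i, Q (y i 0) =
      ∑ i ∈ I, (Q (y i 0 + phiI I y) - Q (y i 0)) := by
    rw [← Finset.sum_sub_distrib]
    have h3 : ∑ i ∈ I, (Q ((LinearMap.transvection (phiI I) (aI I) y) i 0) - Q (y i 0)) =
        ∑ i, (Q ((LinearMap.transvection (phiI I) (aI I) y) i 0) - Q (y i 0)) := by
      apply Finset.sum_subset (Finset.subset_univ I)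
      intro i _ hi
      rw [h1, if_neg hi, mul_zero, add_zero, sub_self]
    rw [← h3]
    apply Finset.sum_congr rfl
    intro i hi
    rw [h1, if_pos hi, mul_one]
  rw [← h2]
  ring

end frames

end Cfsg.Agent.helper13
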