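import Mathlib
import Cfsg.Agent.Lib_helper13_Dec4

/-! Witnesses for frames over the fields of order two, three and four. -/

set_option autoImplicit false

namespace Cfsg.Agent.helper13

open Matrix Module

section wit
variable {F : Type*} [Field F] [Fintype F] {t : ℕ}

/-- the four-element set of the first four indices. -/
def I4 (ht : 5 ≤ t) : Finset (Fin t) :=
  {⟨0, by omega⟩, ⟨1, by omega⟩, ⟨2, by omega⟩, ⟨3, by omega⟩}

theorem I4_card (ht : 5 ≤ t) : (I4 ht).card = 4 := by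
  unfold I4
  rw [Finset.card_insert_of_notMem, Finset.card_insert_of_notMem, Finset.card_insert_of_notMem,
    Finset.card_singleton]
  · simp
  · simp
  · simp

theorem mem_I4 (ht : 5 ≤ t) (i : Fin t) : i ∈ I4 ht ↔ i.val < 4 := by
  unfold I4
  simp only [Finset.mem_insert, Finset.mem_singleton, Fin.ext_iff]
  omega

/-- the test vector: the first basis vector. -/
def y0 (ht : 5 ≤ t) : Fin t → Fin 1 → F := Pi.single ⟨0, by omega⟩ (fun _ => 1)

omit [Fintype F] in
theorem y0_off (ht : 5 ≤ t) (i' : Fin t) (hi' : i' ≠ ⟨0, by omega⟩) : (y0 ht : Fin t → Fin 1 → F) i' = 0 :=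
  Pi.single_eq_of_ne hi' _

omit [Fintype F] in
theorem phiI_y0 (ht : 5 ≤ t) : phiI (I4 ht) (y0 ht : Fin t → Fin 1 → F) = 1 := by
  rw [phiI_apply, Finset.sum_eq_single ⟨0, by omega⟩]
  · unfold y0
    rw [Pi.single_eq_same]
  · intro k _ hk
    rw [y0_off ht k hk]
    rfl
  · intro h
    exact absurd ((mem_I4 ht _).mpr (by simp)) h

omit [Fintype F] in
theorem transv_y0 (ht : 5 ≤ t) (k : Fin t) (hk : k.val < 4) (hk0 : k ≠ ⟨0, by omega⟩) :
    LinearMap.transvection (phiI (I4 ht)) (aI (I4 ht)) (y0 ht : Fin t → Fin 1 → F) k ≠ 0 := by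
  rw [LinearMap.transvection.apply, phiI_y0, one_smul]
  intro h
  have h1 := congrFun h 0
  rw [Pi.add_apply, Pi.add_apply, y0_off ht k hk0] at h1
  unfold aI at h1
  rw [if_pos ((mem_I4 ht k).mpr hk)] at h1
  simp at h1

/-- the witness over the field of order two. -/
theorem frame_wit2 (hF : Fintype.card F = 2) (ht : 5 ≤ t) :
    ∃ h₀ : (Fin t → Fin 1 → F) ≃ₗ[F] (Fin t → Fin 1 → F),
      (∀ y, blockCount (h₀ y) = blockCount y) ∧ LinearMap.det h₀.toLinearMap = 1 ∧
      ∃ (y : Fin t → Fin 1 → F) (i₀ ia ib : Fin t), (∀ i', i' ≠ i₀ → y i' = 0) ∧ ia ≠ ib ∧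
        h₀ y ia ≠ 0 ∧ h₀ y ib ≠ 0 := by
  have h2 := dec_f2_two hF
  have hpow : ∀ c : F, c ≠ 0 → c ^ 1 = 1 := by
    intro c hc
    rcases dec_f2_cases hF c with h | h
    · exact absurd h hc
    · rw [h, one_pow]
  have hφa : phiI (I4 ht) (aI (I4 ht) : Fin t → Fin 1 → F) = 0 := by
    rw [phiI_aI, I4_card]
    have : ((4 : ℕ) : F) = 2 * 2 := by norm_num
    rw [this, h2, mul_zero]
  refine ⟨LinearEquiv.transvection hφa, ?_, ?_, y0 ht, ⟨0, by omega⟩, ⟨1, by omega⟩, ⟨2, by omega⟩,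
    y0_off ht, ?_, ?_, ?_⟩
  · intro y
    rw [blockCount_pow 1 (by omega) hpow, blockCount_pow 1 (by omega) hpow]
    have := sum_transv (I4 ht) (fun c : F => c ^ 1) y
    rw [LinearEquiv.transvection.apply]
    rw [LinearMap.transvection.apply] at this
    rw [this]
    have h3 : ∀ i ∈ I4 ht, ((y i 0 + phiI (I4 ht) y) ^ 1 - (y i 0) ^ 1) = phiI (I4 ht) y := by
      intro i _
      ring
    rw [Finset.sum_congr rfl h3, Finset.sum_const, I4_card, nsmul_eq_mul]
    have : ((4 : ℕ) : F) = 2 * 2 := by norm_num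
    rw [this, h2, mul_zero, zero_mul, add_zero]
  · rw [← LinearEquiv.coe_det, LinearEquiv.transvection.det_eq_one, Units.val_one]
  · intro h
    have := congrArg Fin.val h
    simp at this
  · exact transv_y0 ht ⟨1, by omega⟩ (by simp) (by intro h; have := congrArg Fin.val h; simp at this)
  · exact transv_y0 ht ⟨2, by omega⟩ (by simp) (by intro h; have := congrArg Fin.val h; simp at this)

/-- the witness over the field of order four. -/
theorem frame_wit4 (hF : Fintype.card F = 4) (ht : 5 ≤ t) :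
    ∃ h₀ : (Fin t → Fin 1 → F) ≃ₗ[F] (Fin t → Fin 1 → F),
      (∀ y, blockCount (h₀ y) = blockCount y) ∧ LinearMap.det h₀.toLinearMap = 1 ∧
      ∃ (y : Fin t → Fin 1 → F) (i₀ ia ib : Fin t), (∀ i', i' ≠ i₀ → y i' = 0) ∧ ia ≠ ib ∧
        h₀ y ia ≠ 0 ∧ h₀ y ib ≠ 0 := by
  have h2 := dec_f4_two hF
  haveI : CharP F 2 := CharTwo.of_one_ne_zero_of_two_eq_zero one_ne_zero h2
  have hpow : ∀ c : F, c ≠ 0 → c ^ 3 = 1 := dec_f4_cube hF
  have h4 : ((4 : ℕ) : F) = 0 := by
    have : ((4 : ℕ) : F) = 2 * 2 := by norm_num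
    rw [this, h2, mul_zero]
  have hφa : phiI (I4 ht) (aI (I4 ht) : Fin t → Fin 1 → F) = 0 := by
    rw [phiI_aI, I4_card, h4]
  refine ⟨LinearEquiv.transvection hφa, ?_, ?_, y0 ht, ⟨0, by omega⟩, ⟨1, by omega⟩, ⟨2, by omega⟩,
    y0_off ht, ?_, ?_, ?_⟩
  · intro y
    rw [blockCount_pow 3 (by omega) hpow, blockCount_pow 3 (by omega) hpow]
    have := sum_transv (I4 ht) (fun c : F => c ^ 3) y
    rw [LinearEquiv.transvection.apply]
    rw [LinearMap.transvection.apply] at this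
    rw [this]
    obtain ⟨φ, hφdef⟩ : ∃ φ : F, φ = phiI (I4 ht) y := ⟨_, rfl⟩
    rw [← hφdef]
    have h3 : ∀ i ∈ I4 ht, ((y i 0 + φ) ^ 3 - (y i 0) ^ 3) =
        φ * (y i 0) ^ 2 + φ ^ 2 * y i 0 + φ ^ 3 := by
      intro i _
      linear_combination (y i 0 ^ 2 * φ + y i 0 * φ ^ 2) * h2
    rw [Finset.sum_congr rfl h3, Finset.sum_add_distrib, Finset.sum_add_distrib, ← Finset.mul_sum,
      ← Finset.mul_sum, Finset.sum_const, I4_card, nsmul_eq_mul, h4, zero_mul, add_zero,
      ← sum_pow_char 2, ← phiI_apply, ← hφdef]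
    linear_combination φ ^ 3 * h2
  · rw [← LinearEquiv.coe_det, LinearEquiv.transvection.det_eq_one, Units.val_one]
  · intro h
    have := congrArg Fin.val h
    simp at this
  · exact transv_y0 ht ⟨1, by omega⟩ (by simp) (by intro h; have := congrArg Fin.val h; simp at this)
  · exact transv_y0 ht ⟨2, by omega⟩ (by simp) (by intro h; have := congrArg Fin.val h; simp at this)

end wit

end Cfsg.Agent.helper13
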