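import Mathlib
import Cfsg.Agent.Lib_helper13_Dec5

/-! Witnesses: frames over the field of order three and planes over the field of order two. -/

set_option autoImplicit false

namespace Cfsg.Agent.helper13

open Matrix Module

section refl
variable {F : Type*} [Field F] {V : Type*} [AddCommGroup V] [Module F V]

theorem transv_invol (f : Module.Dual F V) (v : V) (h : 2 + f v = 0) :
    (LinearMap.transvection f v) ∘ₗ (LinearMap.transvection f v) = LinearMap.id := by
  apply LinearMap.ext
  intro x
  rw [LinearMap.comp_apply, LinearMap.transvection.apply, LinearMap.transvection.apply, map_add,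
    map_smul, smul_eq_mul, LinearMap.id_apply, add_assoc, ← add_smul]
  have : f x + (f x + f x * f v) = f x * (2 + f v) := by ring
  rw [this, h, mul_zero, zero_smul, add_zero]

/-- a transvection-like involution as a linear equivalence. -/
def reflEquiv (f : Module.Dual F V) (v : V) (h : 2 + f v = 0) : V ≃ₗ[F] V :=
  LinearEquiv.ofLinear (LinearMap.transvection f v) (LinearMap.transvection f v)
    (transv_invol f v h) (transv_invol f v h)

theorem reflEquiv_apply (f : Module.Dual F V) (v : V) (h : 2 + f v = 0) (x : V) :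
    reflEquiv f v h x = LinearMap.transvection f v x := rfl

end refl

section wit3
variable {F : Type*} [Field F] [Fintype F] {t : ℕ}

/-- reflections along a set of blocks preserve the block count over the field of order three. -/
theorem refl_blockCount (hF : Fintype.card F = 3) (I : Finset (Fin t)) (hI : (2 : F) + (I.card : F) = 0)
    (y : Fin t → Fin 1 → F) :
    blockCount (LinearMap.transvection (phiI I) (aI I) y) = blockCount y := by
  have hpow : ∀ c : F, c ≠ 0 → c ^ 2 = 1 := dec_f3_sq hF
  rw [blockCount_pow 2 (by omega) hpow, blockCount_pow 2 (by omega) hpow]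
  have := sum_transv I (fun c : F => c ^ 2) y
  rw [this]
  obtain ⟨φ, hφdef⟩ : ∃ φ : F, φ = phiI I y := ⟨_, rfl⟩
  rw [← hφdef]
  have h3 : ∀ i ∈ I, ((y i 0 + φ) ^ 2 - (y i 0) ^ 2) = (2 * φ) * y i 0 + φ ^ 2 := by
    intro i _
    ring
  rw [Finset.sum_congr rfl h3, Finset.sum_add_distrib, ← Finset.mul_sum, Finset.sum_const,
    nsmul_eq_mul, ← phiI_apply, ← hφdef]
  linear_combination φ ^ 2 * hI

/-- the witness over the field of order three. -/
theorem frame_wit3 (hF : Fintype.card F = 3) (ht : 5 ≤ t) :
    ∃ h₀ : (Fin t → Fin 1 → F) ≃ₗ[F] (Fin t → Fin 1 → F),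
      (∀ y, blockCount (h₀ y) = blockCount y) ∧ LinearMap.det h₀.toLinearMap = 1 ∧
      ∃ (y : Fin t → Fin 1 → F) (i₀ ia ib : Fin t), (∀ i', i' ≠ i₀ → y i' = 0) ∧ ia ≠ ib ∧
        h₀ y ia ≠ 0 ∧ h₀ y ib ≠ 0 := by
  have h3 := dec_f3_three hF
  obtain ⟨J, hJdef⟩ : ∃ J : Finset (Fin t), J = {⟨4, by omega⟩} := ⟨_, rfl⟩
  have hJcard : J.card = 1 := by rw [hJdef, Finset.card_singleton]
  have hI : (2 : F) + ((I4 ht).card : F) = 0 := by
    rw [I4_card]
    push_cast
    linear_combination 2 * h3
  have hJ : (2 : F) + (J.card : F) = 0 := by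
    rw [hJcard]
    push_cast
    linear_combination h3
  have hI' : 2 + phiI (I4 ht) (aI (I4 ht) : Fin t → Fin 1 → F) = 0 := by rw [phiI_aI]; exact hI
  have hJ' : 2 + phiI J (aI J : Fin t → Fin 1 → F) = 0 := by rw [phiI_aI]; exact hJ
  refine ⟨(reflEquiv _ _ hJ').trans (reflEquiv _ _ hI'), ?_, ?_, y0 ht, ⟨0, by omega⟩,
    ⟨1, by omega⟩, ⟨2, by omega⟩, y0_off ht, ?_, ?_, ?_⟩
  · intro y
    rw [LinearEquiv.trans_apply, reflEquiv_apply, reflEquiv_apply, refl_blockCount hF _ hI,
      refl_blockCount hF _ hJ]
  · have e : ((reflEquiv _ _ hJ').trans (reflEquiv _ _ hI')).toLinearMap =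
        (LinearMap.transvection (phiI (I4 ht)) (aI (I4 ht) : Fin t → Fin 1 → F)) ∘ₗ
          (LinearMap.transvection (phiI J) (aI J : Fin t → Fin 1 → F)) := rfl
    rw [e, LinearMap.det_comp, LinearMap.transvection.det, LinearMap.transvection.det, phiI_aI,
      phiI_aI, I4_card, hJcard]
    push_cast
    linear_combination 3 * h3
  · intro h
    have := congrArg Fin.val h
    simp at this
  · have hfix : reflEquiv _ _ hJ' (y0 ht : Fin t → Fin 1 → F) = y0 ht := by
      rw [reflEquiv_apply, LinearMap.transvection.apply, phiI_apply, hJdef, Finset.sum_singleton,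
        y0_off ht _ (by intro h; have := congrArg Fin.val h; simp at this)]
      simp
    rw [LinearEquiv.trans_apply, hfix, reflEquiv_apply]
    exact transv_y0 ht ⟨1, by omega⟩ (by simp) (by intro h; have := congrArg Fin.val h; simp at this)
  · have hfix : reflEquiv _ _ hJ' (y0 ht : Fin t → Fin 1 → F) = y0 ht := by
      rw [reflEquiv_apply, LinearMap.transvection.apply, phiI_apply, hJdef, Finset.sum_singleton,
        y0_off ht _ (by intro h; have := congrArg Fin.val h; simp at this)]
      simp
    rw [LinearEquiv.trans_apply, hfix, reflEquiv_apply]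
    exact transv_y0 ht ⟨2, by omega⟩ (by simp) (by intro h; have := congrArg Fin.val h; simp at this)

end wit3

end Cfsg.Agent.helper13
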