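import Mathlib
import Cfsg.Agent.Lib_helper13_Dec6

/-! Witness for decompositions into planes over the field of order two. -/

set_option autoImplicit false

namespace Cfsg.Agent.helper13

open Matrix Module

section planes
variable {F : Type*} [Field F] {t : ℕ}

/-- the indicator vector of the first coordinates of a set of blocks. -/
def aP (I : Finset (Fin t)) : Fin t → Fin 2 → F := fun i j => if i ∈ I ∧ j = 0 then 1 else 0

/-- the sum of the second coordinates in a set of blocks. -/
def phiP (I : Finset (Fin t)) : Module.Dual F (Fin t → Fin 2 → F) where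
  toFun y := ∑ i ∈ I, y i 1
  map_add' y z := by
    simp only [Pi.add_apply]
    exact Finset.sum_add_distrib
  map_smul' c y := by
    simp only [Pi.smul_apply, smul_eq_mul, RingHom.id_apply]
    exact (Finset.mul_sum _ _ _).symm

theorem phiP_apply (I : Finset (Fin t)) (y : Fin t → Fin 2 → F) : phiP I y = ∑ i ∈ I, y i 1 := rfl

theorem phiP_aP (I : Finset (Fin t)) : phiP I (aP I : Fin t → Fin 2 → F) = 0 := by
  rw [phiP_apply]
  apply Finset.sum_eq_zero
  intro i _
  unfold aP
  rw [if_neg]
  rintro ⟨_, h⟩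
  exact absurd h (by decide)

theorem transvP_zero (I : Finset (Fin t)) (y : Fin t → Fin 2 → F) (i : Fin t) :
    (LinearMap.transvection (phiP I) (aP I) y) i 0 = y i 0 + phiP I y * (if i ∈ I then 1 else 0) := by
  rw [LinearMap.transvection.apply]
  simp only [Pi.add_apply, Pi.smul_apply, smul_eq_mul]
  unfold aP
  by_cases hi : i ∈ I
  · rw [if_pos ⟨hi, rfl⟩, if_pos hi]
  · rw [if_neg (fun h => hi h.1), if_neg hi]

theorem transvP_one (I : Finset (Fin t)) (y : Fin t → Fin 2 → F) (i : Fin t) :
    (LinearMap.transvection (phiP I) (aP I) y) i 1 = y i 1 := by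
  rw [LinearMap.transvection.apply]
  simp only [Pi.add_apply, Pi.smul_apply, smul_eq_mul]
  unfold aP
  rw [if_neg, mul_zero, add_zero]
  rintro ⟨_, h⟩
  exact absurd h (by decide)

end planes

section planes2
variable {F : Type*} [Field F] [Fintype F] {t : ℕ}

/-- the block count over the field of order two, for planes. -/
theorem blockCount_plane (hF : Fintype.card F = 2) (y : Fin t → Fin 2 → F) :
    blockCount y = ∑ i, (y i 0 + y i 0 * y i 1 + y i 1) := by
  classical
  have h2 := dec_f2_two hF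
  rw [blockCount_eq_sum]
  apply Finset.sum_congr rfl
  intro i _
  have hz : y i = 0 ↔ (y i 0 = 0 ∧ y i 1 = 0) := by
    constructor
    · intro h
      rw [h]
      exact ⟨rfl, rfl⟩
    · rintro ⟨h0, h1⟩
      funext j
      fin_cases j
      · exact h0
      · exact h1
  rcases dec_f2_cases hF (y i 0) with h0 | h0 <;> rcases dec_f2_cases hF (y i 1) with h1 | h1
  · rw [if_pos (hz.mpr ⟨h0, h1⟩), h0, h1]
    ring
  · rw [if_neg (fun h => by rw [(hz.mp h).2] at h1; exact zero_ne_one h1), h0, h1]
    ring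
  · rw [if_neg (fun h => by rw [(hz.mp h).1] at h0; exact zero_ne_one h0), h0, h1]
    ring
  · rw [if_neg (fun h => by rw [(hz.mp h).1] at h0; exact zero_ne_one h0), h0, h1]
    linear_combination (-1 : F) * h2

/-- the three-element set of the first three indices. -/
def decI3 (ht : 3 ≤ t) : Finset (Fin t) :=
  {⟨0, by omega⟩, ⟨1, by omega⟩, ⟨2, by omega⟩}

theorem decI3_card (ht : 3 ≤ t) : (decI3 ht).card = 3 := by
  unfold decI3
  rw [Finset.card_insert_of_notMem, Finset.card_insert_of_notMem, Finset.card_singleton]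
  · simp
  · simp

theorem mem_decI3 (ht : 3 ≤ t) (i : Fin t) : i ∈ decI3 ht ↔ i.val < 3 := by
  unfold decI3
  simp only [Finset.mem_insert, Finset.mem_singleton, Fin.ext_iff]
  omega

/-- the test vector: the second basis vector of the first block. -/
def yP (ht : 3 ≤ t) : Fin t → Fin 2 → F := Pi.single ⟨0, by omega⟩ (Pi.single 1 1)

omit [Fintype F] in
theorem yP_off (ht : 3 ≤ t) (i' : Fin t) (hi' : i' ≠ ⟨0, by omega⟩) :
    (yP ht : Fin t → Fin 2 → F) i' = 0 :=
  Pi.single_eq_of_ne hi' _

omit [Fintype F] in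
theorem phiP_yP (ht : 3 ≤ t) : phiP (decI3 ht) (yP ht : Fin t → Fin 2 → F) = 1 := by
  rw [phiP_apply, Finset.sum_eq_single ⟨0, by omega⟩]
  · unfold yP
    rw [Pi.single_eq_same, Pi.single_eq_same]
  · intro k _ hk
    rw [yP_off ht k hk]
    rfl
  · intro h
    exact absurd ((mem_decI3 ht _).mpr (by simp)) h

omit [Fintype F] in
theorem transvP_yP (ht : 3 ≤ t) (k : Fin t) (hk : k.val < 3) (hk0 : k ≠ ⟨0, by omega⟩) :
    LinearMap.transvection (phiP (decI3 ht)) (aP (decI3 ht)) (yP ht : Fin t → Fin 2 → F) k ≠ 0 := by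
  intro h
  have h1 := congrFun h 0
  rw [transvP_zero, phiP_yP, yP_off ht k hk0, if_pos ((mem_decI3 ht k).mpr hk)] at h1
  simp at h1

/-- the witness for planes over the field of order two. -/
theorem plane_wit2 (hF : Fintype.card F = 2) (ht : 3 ≤ t) :
    ∃ h₀ : (Fin t → Fin 2 → F) ≃ₗ[F] (Fin t → Fin 2 → F),
      (∀ y, blockCount (h₀ y) = blockCount y) ∧ LinearMap.det h₀.toLinearMap = 1 ∧
      ∃ (y : Fin t → Fin 2 → F) (i₀ ia ib : Fin t), (∀ i', i' ≠ i₀ → y i' = 0) ∧ ia ≠ ib ∧
        h₀ y ia ≠ 0 ∧ h₀ y ib ≠ 0 := by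
  have h2 := dec_f2_two hF
  refine ⟨LinearEquiv.transvection (phiP_aP (decI3 ht)), ?_, ?_, yP ht, ⟨0, by omega⟩, ⟨1, by omega⟩,
    ⟨2, by omega⟩, yP_off ht, ?_, ?_, ?_⟩
  · intro y
    have hcoe : (LinearEquiv.transvection (phiP_aP (decI3 ht))) y =
        LinearMap.transvection (phiP (decI3 ht)) (aP (decI3 ht)) y := rfl
    rw [blockCount_plane hF, blockCount_plane hF, hcoe]
    obtain ⟨φ, hφdef⟩ : ∃ φ : F, φ = phiP (decI3 ht) y := ⟨_, rfl⟩
    have h1 : ∀ i, (LinearMap.transvection (phiP (decI3 ht)) (aP (decI3 ht)) y) i 0 +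
        (LinearMap.transvection (phiP (decI3 ht)) (aP (decI3 ht)) y) i 0 *
          (LinearMap.transvection (phiP (decI3 ht)) (aP (decI3 ht)) y) i 1 +
        (LinearMap.transvection (phiP (decI3 ht)) (aP (decI3 ht)) y) i 1 =
        (y i 0 + y i 0 * y i 1 + y i 1) + (if i ∈ decI3 ht then φ + φ * y i 1 else 0) := by
      intro i
      rw [transvP_zero, transvP_one, ← hφdef]
      by_cases hi : i ∈ decI3 ht
      · rw [if_pos hi, if_pos hi]
        ring
      · rw [if_neg hi, if_neg hi]
        ring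
    have hφ : φ * φ = φ := by
      rcases dec_f2_cases hF φ with h | h <;> rw [h] <;> ring
    have h3 : ∑ i ∈ decI3 ht, (φ + φ * y i 1) = 0 := by
      rw [Finset.sum_add_distrib, ← Finset.mul_sum, Finset.sum_const, decI3_card,
        ← phiP_apply, ← hφdef, hφ, nsmul_eq_mul]
      push_cast
      linear_combination 2 * φ * h2
    rw [Finset.sum_congr rfl (fun i _ => h1 i), Finset.sum_add_distrib, Finset.sum_ite_mem,
      Finset.univ_inter, h3, add_zero]
  · rw [← LinearEquiv.coe_det, LinearEquiv.transvection.det_eq_one, Units.val_one]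
  · intro h
    have := congrArg Fin.val h
    simp at this
  · exact transvP_yP ht ⟨1, by omega⟩ (by simp) (by intro h; have := congrArg Fin.val h; simp at this)
  · exact transvP_yP ht ⟨2, by omega⟩ (by simp) (by intro h; have := congrArg Fin.val h; simp at this)

end planes2

end Cfsg.Agent.helper13
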