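import Cfsg.Agent.S2617
import Cfsg.Agent.Lib_helper13_QStd

set_option autoImplicit false

namespace Cfsg.Agent.helper13

open Module QuadraticMap

section f2
variable {V : Type*} [AddCommGroup V] [Module (ZMod 2) V]

theorem zmod2_cases (c : ZMod 2) : c = 0 ∨ c = 1 := by
  fin_cases c
  · left; rfl
  · right; rfl

theorem zmod2_add_self (c : ZMod 2) : c + c = 0 := by
  rcases zmod2_cases c with rfl | rfl <;> decide

theorem zmod2_ne_zero_iff (c : ZMod 2) : c ≠ 0 ↔ c = 1 := by
  rcases zmod2_cases c with rfl | rfl <;> decide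

/-- a function with prescribed (bilinear) polar is a quadratic form, over the field of two
elements. -/
noncomputable def f2Quad (Q₀ : QuadraticForm (ZMod 2) V) (q : V → ZMod 2)
    (hq : ∀ u v, q (u + v) = q u + q v + polar (⇑Q₀) u v) : QuadraticForm (ZMod 2) V :=
  have hpol : ∀ u v, polar q u v = polar (⇑Q₀) u v := by
    intro u v
    unfold polar
    rw [hq u v]
    unfold polar
    ring
  have h0 : q 0 = 0 := by
    have := hq 0 0
    rw [add_zero, polar_zero_left, add_zero] at this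
    have h2 : q 0 + q 0 = 0 := zmod2_add_self _
    rw [h2] at this
    exact this
  QuadraticMap.ofPolar q
    (by
      intro a x
      rcases zmod2_cases a with rfl | rfl
      · simp [h0]
      · simp)
    (by
      intro x x' y
      rw [hpol, hpol, hpol, polar_add_left])
    (by
      intro a x y
      rw [hpol, hpol, polar_smul_left])

theorem f2Quad_apply (Q₀ : QuadraticForm (ZMod 2) V) (q : V → ZMod 2)
    (hq : ∀ u v, q (u + v) = q u + q v + polar (⇑Q₀) u v) (v : V) : f2Quad Q₀ q hq v = q v := rfl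

theorem f2Quad_polar (Q₀ : QuadraticForm (ZMod 2) V) (q : V → ZMod 2)
    (hq : ∀ u v, q (u + v) = q u + q v + polar (⇑Q₀) u v) (u v : V) :
    polar (⇑(f2Quad Q₀ q hq)) u v = polar (⇑Q₀) u v := by
  show polar q u v = _
  unfold polar
  rw [hq u v]
  unfold polar
  ring

theorem f2Quad_nondeg (Q₀ : QuadraticForm (ZMod 2) V) (q : V → ZMod 2)
    (hq : ∀ u v, q (u + v) = q u + q v + polar (⇑Q₀) u v)
    (h₀ : (polarBilin Q₀).Nondegenerate) : (polarBilin (f2Quad Q₀ q hq)).Nondegenerate := by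
  have : polarBilin (f2Quad Q₀ q hq) = polarBilin Q₀ := by
    ext u v
    simp only [polarBilin_apply_apply]
    exact f2Quad_polar Q₀ q hq u v
  rw [this]
  exact h₀

end f2

section count
variable {V : Type*} [AddCommGroup V] [Module (ZMod 2) V] [Fintype V]

theorem zeros_eq_card (R : V → ZMod 2) : zeros R = Nat.card {v : V // R v = 0} := by
  classical
  unfold zeros
  rw [Nat.card_eq_fintype_card, Fintype.card_subtype]
  congr

/-- zero count under translation by a vector of value one. -/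
theorem zeros_shift (Q : QuadraticForm (ZMod 2) V) (w : V) (hw : Q w = 1) :
    zeros (fun v => Q v + polar (⇑Q) v w) + zeros (⇑Q) = Fintype.card V := by
  classical
  have h1 : ∀ v, Q v + polar (⇑Q) v w = Q (v + w) + 1 := by
    intro v
    rw [QuadraticMap.map_add (⇑Q) v w, hw]
    have := zmod2_add_self (1 : ZMod 2)
    linear_combination -this
  have h2 : zeros (fun v => Q v + polar (⇑Q) v w) = (Finset.univ.filter (fun v => Q v ≠ 0)).card := by
    unfold zeros
    rw [← Finset.card_map (Equiv.addRight w).toEmbedding]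
    congr 1
    ext v
    simp only [Finset.mem_map, Finset.mem_filter, Finset.mem_univ, true_and,
      Equiv.coe_toEmbedding, Equiv.coe_addRight]
    constructor
    · rintro ⟨u, hu, rfl⟩
      rw [h1] at hu
      intro h0
      rw [h0] at hu
      exact absurd hu (by decide)
    · intro hv
      refine ⟨v - w, ?_, by simp⟩
      rw [h1, sub_add_cancel, (zmod2_ne_zero_iff _).mp hv]
      decide
  rw [h2]
  unfold zeros
  rw [add_comm, Finset.card_filter_add_card_filter_not, Finset.card_univ]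

end count

section stdcount

theorem irr_zmod2 : ∀ t : ZMod 2, t ^ 2 + t + 1 ≠ 0 := by decide

theorem two_zeros_plus (m : ℕ) :
    2 * zeros (Cfsg.quadFormPlus m (ZMod 2)) = 2 ^ (2 * m) + 2 ^ m := by
  rw [Cfsg.Agent.S2617.zeros_plus, ZMod.card]
  have := Cfsg.Agent.S2617.cseq_id 2 (by norm_num) m
  omega

theorem two_zeros_minus (k : ℕ) :
    2 * zeros (Cfsg.quadFormMinus k (ZMod 2) 1 1) + 2 ^ (k + 1) = 2 ^ (2 * (k + 1)) := by
  rw [Cfsg.Agent.S2617.zeros_minus k 1 irr_zmod2, ZMod.card]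
  have h := Cfsg.Agent.S2617.cseq_id 2 (by norm_num) k
  have e1 : (2 : ℕ) ^ (2 * (k + 1)) = 4 * 2 ^ (2 * k) := by
    rw [show 2 * (k + 1) = 2 * k + 2 by ring, pow_add]; ring
  have e2 : (2 : ℕ) ^ (k + 1) = 2 * 2 ^ k := by rw [pow_succ]; ring
  rw [e1, e2, ← h]
  ring

variable {V : Type*} [AddCommGroup V] [Module (ZMod 2) V] [Fintype V]

/-- the two possible zero counts of a nondegenerate even-dimensional form over two elements. -/
theorem two_zeros_cases {m : ℕ} (hm : 1 ≤ m) (hV : finrank (ZMod 2) V = 2 * m)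
    (Q : QuadraticForm (ZMod 2) V) (hQ : (polarBilin Q).Nondegenerate) :
    ((∃ g : V ≃ₗ[ZMod 2] (Fin m ⊕ Fin m → ZMod 2), ∀ v, Q v = Cfsg.quadFormPlus m (ZMod 2) (g v)) ∧
        2 * zeros (⇑Q) = 2 ^ (2 * m) + 2 ^ m) ∨
    ((∃ g : V ≃ₗ[ZMod 2] ((Fin (m - 1) ⊕ Fin (m - 1)) ⊕ Fin 2 → ZMod 2),
        ∀ v, Q v = Cfsg.quadFormMinus (m - 1) (ZMod 2) 1 1 (g v)) ∧
        2 * zeros (⇑Q) + 2 ^ m = 2 ^ (2 * m)) := by
  haveI : FiniteDimensional (ZMod 2) V := Module.finite_of_finrank_pos (by omega)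
  rcases classify_even hm hV Q hQ with ⟨g, hg⟩ | ⟨ζ, hirr, g, hg⟩
  · left
    refine ⟨⟨g, hg⟩, ?_⟩
    rw [← two_zeros_plus m]
    congr 1
    exact zeros_congr g.toEquiv _ _ (fun v => (hg v).symm)
  · right
    have hζ : ζ = 1 := by
      rcases zmod2_cases ζ with rfl | rfl
      · exact absurd (by decide) (hirr 0)
      · rfl
    subst hζ
    refine ⟨⟨g, hg⟩, ?_⟩
    obtain ⟨k, rfl⟩ : ∃ k, m = k + 1 := ⟨m - 1, by omega⟩
    rw [← two_zeros_minus k]
    congr 2
    exact zeros_congr g.toEquiv _ _ (fun v => (hg v).symm)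

end stdcount

section transv
variable {V : Type*} [AddCommGroup V] [Module (ZMod 2) V]

/-- the transvection along `w`. -/
noncomputable def f2Transv (Q : QuadraticForm (ZMod 2) V) (w : V) : V →ₗ[ZMod 2] V :=
  LinearMap.id + LinearMap.smulRight ((polarBilin Q).flip w) w

theorem f2Transv_apply (Q : QuadraticForm (ZMod 2) V) (w v : V) :
    f2Transv Q w v = v + polar (⇑Q) v w • w := by
  simp [f2Transv]

theorem f2Transv_invol (Q : QuadraticForm (ZMod 2) V) (w : V) :
    Function.Involutive (f2Transv Q w) := by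
  intro v
  rw [f2Transv_apply, f2Transv_apply, polar_add_left, polar_smul_left, polar_self']
  have h2 : (2 : ZMod 2) = 0 := by decide
  rw [h2, zero_mul, smul_zero, add_zero, add_assoc, ← add_smul, zmod2_add_self, zero_smul, add_zero]

theorem f2Transv_Q (Q : QuadraticForm (ZMod 2) V) (w : V) (hw : Q w = 0) (v : V) :
    Q (f2Transv Q w v) = Q v + polar (⇑Q) v w := by
  rw [f2Transv_apply]
  rcases zmod2_cases (polar (⇑Q) v w) with h | h
  · rw [h, zero_smul, add_zero, add_zero]
  · rw [h, one_smul, QuadraticMap.map_add (⇑Q) v w, hw, h, add_zero]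

end transv

section sameType
variable {V : Type*} [AddCommGroup V] [Module (ZMod 2) V] [Fintype V]

/-- `Q + B(·, w)` is equivalent to `Q` exactly when `Q w = 0`. -/
theorem shift_equiv_iff {m : ℕ} (hm : 1 ≤ m) (hV : finrank (ZMod 2) V = 2 * m)
    (Q : QuadraticForm (ZMod 2) V) (hQ : (polarBilin Q).Nondegenerate) (w : V) :
    (∃ g : V ≃ₗ[ZMod 2] V, ∀ v, Q v + polar (⇑Q) v w = Q (g v)) ↔ Q w = 0 := by
  constructor
  · rintro ⟨g, hg⟩
    by_contra hw
    have hw1 : Q w = 1 := (zmod2_ne_zero_iff _).mp hw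
    have h1 := zeros_shift Q w hw1
    have h2 : zeros (fun v => Q v + polar (⇑Q) v w) = zeros (⇑Q) :=
      zeros_congr g.toEquiv _ _ (fun v => (hg v).symm)
    rw [h2] at h1
    have hc : Fintype.card V = 2 ^ (2 * m) := by
      rw [Module.card_eq_pow_finrank (K := ZMod 2) (V := V), hV, ZMod.card]
    rw [hc] at h1
    have hpos : 0 < 2 ^ m := by positivity
    rcases two_zeros_cases hm hV Q hQ with ⟨_, h3⟩ | ⟨_, h3⟩ <;> omega
  · intro hw
    exact ⟨LinearEquiv.ofInvolutive (f2Transv Q w) (f2Transv_invol Q w), fun v => by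
      rw [LinearEquiv.coe_ofInvolutive, f2Transv_Q Q w hw]⟩

end sameType

end Cfsg.Agent.helper13
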