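import Mathlib
import Cfsg.Agent.Lib_helper13_C2E
import Cfsg.Agent.Lib_helper13_ReflD
import Cfsg.Prelude.Def_SporadicB

set_option autoImplicit false

namespace Cfsg.Agent.helper13

open Matrix QuadraticMap Module

section rankone
variable {F : Type*} [Field F] {ι : Type} [Fintype ι] [DecidableEq ι]
variable (Q : QuadraticForm F (ι → F))

theorem sub_one_mulVec (g : ↥(Cfsg.isometryGroup F ⇑Q)) (x : ι → F) :
    Matrix.mulVecLin (((g : Matrix.GeneralLinearGroup ι F) : Matrix ι ι F) - 1) x =
      iact g x - x := by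
  rw [Matrix.mulVecLin_apply, Matrix.sub_mulVec, Matrix.one_mulVec]
  rfl

theorem exists_polar_ne (hQ : (polarBilin Q).Nondegenerate) (v : ι → F) (hv : v ≠ 0) :
    ∃ x, polar (⇑Q) v x ≠ 0 := by
  by_contra hcon
  push_neg at hcon
  apply hv
  apply hQ.1
  intro y
  rw [polarBilin_apply_apply]
  exact hcon y

/-- `r_v - 1` has rank one. -/
theorem rank_reflG_sub_one (hQ : (polarBilin Q).Nondegenerate) (v : ι → F) (hv : Q v ≠ 0) :
    (((reflG Q v hv : Matrix.GeneralLinearGroup ι F) : Matrix ι ι F) - 1).rank = 1 := by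
  have hv0 : v ≠ 0 := by
    rintro rfl
    exact hv (QuadraticMap.map_zero Q)
  have hrange : LinearMap.range (Matrix.mulVecLin
      (((reflG Q v hv : Matrix.GeneralLinearGroup ι F) : Matrix ι ι F) - 1)) =
      Submodule.span F {v} := by
    apply le_antisymm
    · rintro y ⟨x, rfl⟩
      rw [sub_one_mulVec, iact_reflG, sub_sub_cancel_left]
      exact Submodule.neg_mem _ (Submodule.smul_mem _ _ (Submodule.mem_span_singleton_self v))
    · rw [Submodule.span_singleton_le_iff_mem]
      obtain ⟨x, hx⟩ := exists_polar_ne Q hQ v hv0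
      refine ⟨(-(Q v) * (polar (⇑Q) v x)⁻¹) • x, ?_⟩
      rw [sub_one_mulVec, iact_reflG, sub_sub_cancel_left, polar_smul_right, smul_eq_mul,
        ← neg_smul]
      have : -((Q v)⁻¹ * (-(Q v) * (polar (⇑Q) v x)⁻¹ * polar (⇑Q) v x)) = 1 := by
        field_simp
      rw [this, one_smul]
  show finrank F ↥(LinearMap.range (Matrix.mulVecLin
      (((reflG Q v hv : Matrix.GeneralLinearGroup ι F) : Matrix ι ι F) - 1))) = 1
  rw [hrange, finrank_span_singleton hv0]

end rankone

section f2t
variable {F : Type*} [Field F] [Fintype F] {ι : Type} [Fintype ι] [DecidableEq ι]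
variable (Q : QuadraticForm F (ι → F))

omit [Fintype ι] [DecidableEq ι] in
theorem two_eq_zero_of_card (hF : Fintype.card F = 2) : (2 : F) = 0 := by
  rcases F2_cases hF (2 : F) with h | h
  · exact h
  · exfalso
    have : (1 : F) + 1 = 1 := by rw [one_add_one_eq_two]; exact h
    exact one_ne_zero (add_eq_right.mp this)

/-- over the field of two elements an isometry `g` with `g - 1` of rank one is a reflection. -/
theorem eq_reflG_of_rank_one (hF : Fintype.card F = 2) (hQ : (polarBilin Q).Nondegenerate)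
    (g : ↥(Cfsg.isometryGroup F ⇑Q))
    (hg : (((g : Matrix.GeneralLinearGroup ι F) : Matrix ι ι F) - 1).rank = 1) :
    ∃ v, ∃ hv : Q v ≠ 0, g = reflG Q v hv := by
  have h2 := two_eq_zero_of_card hF
  have hg' : finrank F ↥(LinearMap.range (Matrix.mulVecLin
      (((g : Matrix.GeneralLinearGroup ι F) : Matrix ι ι F) - 1))) = 1 := hg
  obtain ⟨a', ha'0, ha'⟩ := finrank_eq_one_iff'.mp hg'
  obtain ⟨a, haR⟩ := a'
  have ha0 : a ≠ 0 := by
    intro h
    apply ha'0
    exact Subtype.ext h
  -- dichotomy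
  have hdich : ∀ x, iact g x = x ∨ iact g x = x + a := by
    intro x
    obtain ⟨c, hc⟩ := ha' ⟨_, LinearMap.mem_range_self _ x⟩
    have hc' : c • a = iact g x - x := by
      have := congrArg Subtype.val hc
      rw [← sub_one_mulVec]
      exact this
    rcases F2_cases hF c with rfl | rfl
    · left
      rw [zero_smul] at hc'
      exact (sub_eq_zero.mp hc'.symm)
    · right
      rw [one_smul] at hc'
      rw [hc']
      abel
  obtain ⟨x₀, hx₀⟩ := haR
  rw [sub_one_mulVec] at hx₀
  have hx₀' : iact g x₀ = x₀ + a := by rw [← hx₀]; abel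
  -- g fixes a
  have hga : iact g a = a := by
    rcases hdich a with h | h
    · exact h
    · exfalso
      have h0 : iact g a = 0 := by
        rw [h, ← two_smul F a, h2, zero_smul]
      apply ha0
      have := congrArg (iact g⁻¹) h0
      rwa [iact_inv_iact, iact_zero] at this
  -- polar values
  have hB : ∀ x, iact g x = x + a → polar (⇑Q) x a = Q a := by
    intro x hx
    have h1 := Q_iact g x
    rw [hx, Q_addC] at h1
    have h3 : Q a + polar (⇑Q) x a = 0 := by
      have : Q x + Q a + polar (⇑Q) x a = Q x + (Q a + polar (⇑Q) x a) := by ring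
      rw [this] at h1
      exact add_eq_left.mp h1
    have h4 : polar (⇑Q) x a = -Q a := by
      rw [add_comm] at h3
      exact eq_neg_of_add_eq_zero_left h3
    rw [h4]
    have : Q a + Q a = 0 := add_self_of_two h2 (Q a)
    exact neg_eq_of_add_eq_zero_left this
  have hB0 : ∀ x, iact g x = x → polar (⇑Q) x a = 0 := by
    intro x hx
    have h1 : iact g (x + x₀) = (x + x₀) + a := by
      rw [iact_add, hx, hx₀']
      abel
    have h3 := hB _ h1
    rw [polar_add_left, hB x₀ hx₀'] at h3
    exact add_eq_right.mp h3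
  have hQa : Q a ≠ 0 := by
    intro hQa
    apply ha0
    apply hQ.2
    intro y
    rw [polarBilin_apply_apply]
    rcases hdich y with h | h
    · exact hB0 y h
    · rw [hB y h, hQa]
  have hQa1 : Q a = 1 := by
    rcases F2_cases hF (Q a) with h | h
    · exact absurd h hQa
    · exact h
  refine ⟨a, hQa, ?_⟩
  apply iact_ext
  intro x
  rw [iact_reflG, hQa1, inv_one, one_mul, polar_comm]
  rcases hdich x with h | h
  · rw [h, hB0 x h, zero_smul, sub_zero]
  · rw [h, hB x h, hQa1, one_smul, sub_eq_add_of_two h2]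

theorem rank_sub_one_eq_one_iff (hF : Fintype.card F = 2) (hQ : (polarBilin Q).Nondegenerate)
    (g : ↥(Cfsg.isometryGroup F ⇑Q)) :
    (((g : Matrix.GeneralLinearGroup ι F) : Matrix ι ι F) - 1).rank = 1 ↔
      ∃ v, ∃ hv : Q v ≠ 0, g = reflG Q v hv := by
  constructor
  · exact eq_reflG_of_rank_one Q hF hQ g
  · rintro ⟨v, hv, rfl⟩
    exact rank_reflG_sub_one Q hQ v hv

omit [Fintype F] in
theorem reflG_ne_one (hQ : (polarBilin Q).Nondegenerate) (v : ι → F) (hv : Q v ≠ 0) :
    reflG Q v hv ≠ 1 := by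
  have hv0 : v ≠ 0 := by
    rintro rfl
    exact hv (QuadraticMap.map_zero Q)
  obtain ⟨x, hx⟩ := exists_polar_ne Q hQ v hv0
  intro h
  apply hx
  rw [← iact_reflG_eq_iff Q v hv x, h, iact_one]

omit [Fintype F] in
theorem orderOf_reflG (hQ : (polarBilin Q).Nondegenerate) (v : ι → F) (hv : Q v ≠ 0) :
    orderOf (reflG Q v hv) = 2 := by
  apply orderOf_eq_prime
  · rw [pow_two, reflG_mul_self]
  · exact reflG_ne_one Q hQ v hv

theorem refl_three_transp (hF : Fintype.card F = 2) (u v : ι → F) (hu : Q u ≠ 0) (hv : Q v ≠ 0) :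
    (reflG Q u hu * reflG Q v hv) ^ 2 = 1 ∨ (reflG Q u hu * reflG Q v hv) ^ 3 = 1 := by
  have h2 := two_eq_zero_of_card hF
  have hu1 : Q u = 1 := by
    rcases F2_cases hF (Q u) with h | h
    · exact absurd h hu
    · exact h
  have hv1 : Q v = 1 := by
    rcases F2_cases hF (Q v) with h | h
    · exact absurd h hv
    · exact h
  have hinvu : (reflG Q u hu)⁻¹ = reflG Q u hu := reflG_inv Q u hu
  have hinvv : (reflG Q v hv)⁻¹ = reflG Q v hv := reflG_inv Q v hv
  rcases F2_cases hF (polar (⇑Q) u v) with hB | hB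
  · left
    have h1 := reflG_conj Q (reflG Q u hu) v hv
    have h3 : reflG Q (iact (reflG Q u hu) v) (by rw [Q_iact]; exact hv) = reflG Q v hv :=
      reflG_congr Q _ _ (iact_reflG_of_polar Q u hu v hB) _ _
    rw [h3, hinvu] at h1
    rw [pow_two]
    calc reflG Q u hu * reflG Q v hv * (reflG Q u hu * reflG Q v hv)
        = (reflG Q u hu * reflG Q v hv * reflG Q u hu) * reflG Q v hv := by group
      _ = 1 := by rw [h1, reflG_mul_self]
  · right
    have h1 := reflG_conj Q (reflG Q u hu) v hv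
    have h1' := reflG_conj Q (reflG Q v hv) u hu
    have huv : Q (u + v) ≠ 0 := by
      rw [Q_addC, hu1, hv1, hB, one_add_one_eq_two, h2, zero_add]
      exact one_ne_zero
    have e1 : iact (reflG Q u hu) v = u + v := by
      rw [iact_reflG, hu1, inv_one, one_mul, hB, one_smul, sub_eq_add_of_two h2, add_comm]
    have e2 : iact (reflG Q v hv) u = u + v := by
      rw [iact_reflG, hv1, inv_one, one_mul, polar_comm, hB, one_smul, sub_eq_add_of_two h2]
    have h3 : reflG Q (iact (reflG Q u hu) v) (by rw [Q_iact]; exact hv) = reflG Q (u + v) huv :=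
      reflG_congr Q _ _ e1 _ _
    have h3' : reflG Q (iact (reflG Q v hv) u) (by rw [Q_iact]; exact hu) = reflG Q (u + v) huv :=
      reflG_congr Q _ _ e2 _ _
    rw [h3, hinvu] at h1
    rw [h3', hinvv] at h1'
    calc (reflG Q u hu * reflG Q v hv) ^ 3
        = (reflG Q u hu * reflG Q v hv * reflG Q u hu) *
          (reflG Q v hv * reflG Q u hu * reflG Q v hv) := by
          rw [pow_succ, pow_two]
          group
      _ = 1 := by rw [h1, h1', reflG_mul_self]

/-- over the field of two elements the reflections form a class of 3-transpositions. -/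
theorem three_transp_class (hF : Fintype.card F = 2) (hQ : (polarBilin Q).Nondegenerate)
    (hn : Fintype.card ι ≠ 4) (hn1 : 1 ≤ Fintype.card ι) :
    Cfsg.IsThreeTranspositionClass {g : ↥(Cfsg.isometryGroup F ⇑Q) |
      (((g : Matrix.GeneralLinearGroup ι F) : Matrix ι ι F) - 1).rank = 1} := by
  have h2 := two_eq_zero_of_card hF
  have hne : Fintype.card F ≠ 2 ∨ Fintype.card ι ≠ 4 := Or.inr hn
  have hD : {g : ↥(Cfsg.isometryGroup F ⇑Q) |
      (((g : Matrix.GeneralLinearGroup ι F) : Matrix ι ι F) - 1).rank = 1} =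
      {g | ∃ v, ∃ hv : Q v ≠ 0, g = reflG Q v hv} := by
    ext g
    exact rank_sub_one_eq_one_iff Q hF hQ g
  rw [hD]
  refine ⟨⟨?_, ?_⟩, ?_, ?_⟩
  · rintro d ⟨v, hv, rfl⟩
    exact orderOf_reflG Q hQ v hv
  · rintro d ⟨u, hu, rfl⟩ e ⟨v, hv, rfl⟩
    exact refl_three_transp Q hF u v hu hv
  · obtain ⟨v₀, hv₀⟩ := exists_nonsing_top Q hQ hn1
    refine ⟨reflG Q v₀ hv₀, ⟨v₀, hv₀, rfl⟩, ?_⟩
    ext g
    show _ ↔ IsConj _ _
    rw [isConj_iff]
    constructor
    · rintro ⟨v, hv, rfl⟩
      have hQ1 : Q v = Q v₀ := by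
        rcases F2_cases hF (Q v) with h | h
        · exact absurd h hv
        · rcases F2_cases hF (Q v₀) with h' | h'
          · exact absurd h' hv₀
          · rw [h, h']
      obtain ⟨ρ, -, hρ⟩ := lemA Q h2 hQ ⊤ (nondegOn_top Q hQ) (not_exc_top Q hne) v v₀
        Submodule.mem_top Submodule.mem_top hv hQ1
      refine ⟨ρ, ?_⟩
      rw [reflG_conj]
      exact reflG_congr Q _ _ hρ _ _
    · rintro ⟨c, rfl⟩
      rw [reflG_conj]
      exact ⟨_, _, rfl⟩
  · rw [eq_top_iff]
    intro g _
    have hg := cd2 Q h2 hQ hne g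
    unfold RU at hg
    refine Subgroup.closure_mono ?_ hg
    rintro r ⟨w, -, hw, rfl⟩
    exact ⟨w, hw, rfl⟩

end f2t

end Cfsg.Agent.helper13
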