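import Cfsg.Agent.Lib_helper13_F2

set_option autoImplicit false

namespace Cfsg.Agent.helper13

open Module QuadraticMap

section wittcount
variable {V : Type*} [AddCommGroup V] [Module (ZMod 2) V] [Fintype V]

/-- counting bound for a totally singular subspace over the field of two elements. -/
theorem witt_count (Q : QuadraticForm (ZMod 2) V) (U : Submodule (ZMod 2) V)
    (hU : ∀ u ∈ U, Q u = 0) :
    2 * Nat.card U + Fintype.card V ≤
      2 * zeros (⇑Q) + Nat.card (LinearMap.BilinForm.orthogonal (polarBilin Q) U) := by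
  classical
  set O := LinearMap.BilinForm.orthogonal (polarBilin Q) U with hO
  haveI : Fintype U := Fintype.ofFinite U
  haveI : Fintype O := Fintype.ofFinite O
  rw [Nat.card_eq_fintype_card, Nat.card_eq_fintype_card]
  let ind : V → ℕ := fun v => if Q v = 0 then 1 else 0
  let N : V → ℕ := fun v => ∑ u : U, ind (v + (u : V))
  have hi : ∑ v, N v = Fintype.card U * zeros (⇑Q) := by
    simp only [N]
    rw [Finset.sum_comm]
    have h1 : ∀ u : U, ∑ v : V, ind (v + (u : V)) = zeros (⇑Q) := by
      intro u
      rw [zeros_eq_sum]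
      exact Equiv.sum_comp (Equiv.addRight (u : V)) ind
    rw [Finset.sum_congr rfl (fun u _ => h1 u)]
    simp
  have hUU : ∀ u ∈ U, ∀ u' ∈ U, polar (⇑Q) u u' = 0 := by
    intro u hu u' hu'
    unfold polar
    rw [hU _ (U.add_mem hu hu'), hU u hu, hU u' hu']
    simp
  have hUO : ∀ v ∈ U, v ∈ O := by
    intro v hv
    rw [hO, LinearMap.BilinForm.mem_orthogonal_iff]
    intro n hn
    show polarBilin Q n v = 0
    rw [polarBilin_apply_apply]
    exact hUU n hn v hv
  have hpt : ∀ v, Fintype.card U * ((if v ∈ U then 2 else 0) + 1) ≤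
      2 * N v + Fintype.card U * (if v ∈ O then 1 else 0) := by
    intro v
    by_cases hvU : v ∈ U
    · have hvO : v ∈ O := hUO v hvU
      have hN : N v = Fintype.card U := by
        simp only [N, ind]
        rw [Finset.sum_congr rfl (fun u _ => if_pos (hU _ (U.add_mem hvU u.2)))]
        simp
      rw [if_pos hvU, if_pos hvO, hN]
      ring_nf
      exact le_refl _
    · by_cases hvO : v ∈ O
      · rw [if_neg hvU, if_pos hvO]
        omega
      · rw [if_neg hvU, if_neg hvO]
        obtain ⟨u₀, hu₀, hne⟩ : ∃ u₀ ∈ U, polar (⇑Q) u₀ v ≠ 0 := by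
          by_contra hcon
          push Not at hcon
          apply hvO
          rw [hO, LinearMap.BilinForm.mem_orthogonal_iff]
          intro n hn
          show polarBilin Q n v = 0
          rw [polarBilin_apply_apply]
          exact hcon n hn
        have h1 : polar (⇑Q) u₀ v = 1 := (zmod2_ne_zero_iff _).mp hne
        have htog : ∀ u : U, ind (v + ((u + ⟨u₀, hu₀⟩ : U) : V)) + ind (v + (u : V)) = 1 := by
          intro u
          have h2 : Q (v + ((u : V) + u₀)) = Q (v + u) + 1 := by
            rw [← add_assoc, QuadraticMap.map_add (⇑Q) (v + u) u₀, hU u₀ hu₀, polar_add_left,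
              polar_comm (⇑Q) v u₀, h1, hUU u u.2 u₀ hu₀]
            ring
          simp only [ind, Submodule.coe_add]
          rw [h2]
          rcases zmod2_cases (Q (v + u)) with h | h <;> rw [h] <;> decide
        have e1 : ∑ u : U, ind (v + ((u + ⟨u₀, hu₀⟩ : U) : V)) = N v :=
          Equiv.sum_comp (Equiv.addRight (⟨u₀, hu₀⟩ : U)) (fun u : U => ind (v + (u : V)))
        have e2 : ∑ u : U, (ind (v + ((u + ⟨u₀, hu₀⟩ : U) : V)) + ind (v + (u : V))) =
            Fintype.card U := by
          rw [Finset.sum_congr rfl (fun u _ => htog u)]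
          simp
        rw [Finset.sum_add_distrib, e1] at e2
        have e3 : ∑ u : U, ind (v + (u : V)) = N v := rfl
        rw [e3] at e2
        omega
  have hsum := Finset.sum_le_sum (fun v (_ : v ∈ Finset.univ) => hpt v)
  have hcU : ∑ v : V, (if v ∈ U then 2 else 0) = 2 * Fintype.card U := by
    rw [Fintype.card_subtype, Finset.card_filter, Finset.mul_sum]
    apply Finset.sum_congr rfl
    intro v _
    split_ifs <;> simp
  have hcO : ∑ v : V, (if v ∈ O then 1 else 0) = Fintype.card O := by
    rw [Fintype.card_subtype, Finset.card_filter]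
  have hc1 : ∑ _v : V, (1 : ℕ) = Fintype.card V := by simp
  have hL : ∑ v : V, Fintype.card U * ((if v ∈ U then 2 else 0) + 1) =
      Fintype.card U * (2 * Fintype.card U + Fintype.card V) := by
    rw [← Finset.mul_sum, Finset.sum_add_distrib, hcU, hc1]
  have hR : ∑ v : V, (2 * N v + Fintype.card U * (if v ∈ O then 1 else 0)) =
      2 * (Fintype.card U * zeros (⇑Q)) + Fintype.card U * Fintype.card O := by
    rw [Finset.sum_add_distrib, ← Finset.mul_sum, ← Finset.mul_sum, hi, hcO]
  rw [hL, hR] at hsum
  have hpos : 0 < Fintype.card U := Fintype.card_pos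
  have h3 : Fintype.card U * (2 * Fintype.card U + Fintype.card V) ≤
      Fintype.card U * (2 * zeros (⇑Q) + Fintype.card O) := by
    calc Fintype.card U * (2 * Fintype.card U + Fintype.card V)
        ≤ 2 * (Fintype.card U * zeros (⇑Q)) + Fintype.card U * Fintype.card O := hsum
      _ = Fintype.card U * (2 * zeros (⇑Q) + Fintype.card O) := by ring
  exact Nat.le_of_mul_le_mul_left h3 hpos

end wittcount

end Cfsg.Agent.helper13
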