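import Mathlib
import Cfsg.Agent.Lib_helper13_Uni
import Cfsg.Agent.Lib_helper13_F2T
import Cfsg.Prelude.Def_FischerSpaces
import Cfsg.Prelude.Def_SporadicB

set_option autoImplicit false

namespace Cfsg.Agent.helper13

open Matrix QuadraticMap Module

section f3A
variable {F : Type*} [Field F] {ι : Type} [Fintype ι] [DecidableEq ι]
variable (Q : QuadraticForm F (ι → F))

omit [Fintype ι] [DecidableEq ι] in
theorem Q_add_of_perp {a w : ι → F} (h : polar (⇑Q) a w = 0) : Q (a + w) = Q a + Q w := by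
  rw [Q_add_polar, h, add_zero]

omit [Fintype ι] [DecidableEq ι] in
theorem Q_sub_of_perp {a w : ι → F} (h : polar (⇑Q) a w = 0) : Q (a - w) = Q a + Q w := by
  rw [sub_eq_add_neg, Q_add_polar, QuadraticMap.map_neg, polar_neg_right, h, neg_zero, add_zero]

/-- the product of two orthogonal reflections of the same norm, rewritten with the diagonal
vectors. -/
theorem reflG_mul_perp (h2 : (2 : F) ≠ 0) (a w : ι → F) (ha : Q a ≠ 0) (hw : Q w ≠ 0)
    (hQ : Q a = Q w) (hperp : polar (⇑Q) a w = 0) (hp : Q (a + w) ≠ 0) (hm : Q (a - w) ≠ 0) :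
    reflG Q a ha * reflG Q w hw = reflG Q (a + w) hp * reflG Q (a - w) hm := by
  apply iact_ext
  intro x
  have e1 : Q (a + w) = 2 * Q a := by rw [Q_add_of_perp Q hperp, ← hQ]; ring
  have e2 : Q (a - w) = 2 * Q a := by rw [Q_sub_of_perp Q hperp, ← hQ]; ring
  have hpm : polar (⇑Q) (a + w) (a - w) = 0 := by
    rw [polar_add_left, polar_sub_right, polar_sub_right, polar_self', polar_self',
      polar_comm (⇑Q) w a, hperp, ← hQ]
    ring
  have h1 : iact (reflG Q a ha * reflG Q w hw) x =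
      x - ((Q a)⁻¹ * polar (⇑Q) w x) • w - ((Q a)⁻¹ * polar (⇑Q) a x) • a := by
    rw [iact_mul, iact_reflG Q w, iact_reflG Q a, polar_sub_right, polar_smul_right, hperp, ← hQ,
      smul_eq_mul, mul_zero, sub_zero]
  have h3 : iact (reflG Q (a + w) hp * reflG Q (a - w) hm) x =
      x - ((2 * Q a)⁻¹ * (polar (⇑Q) a x - polar (⇑Q) w x)) • (a - w) -
        ((2 * Q a)⁻¹ * (polar (⇑Q) a x + polar (⇑Q) w x)) • (a + w) := by
    rw [iact_mul, iact_reflG Q (a - w), iact_reflG Q (a + w), polar_sub_right, polar_smul_right,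
      hpm, e1, e2, polar_sub_left, polar_add_left, smul_eq_mul, mul_zero, sub_zero]
  rw [h1, h3]
  have ht : (Q a)⁻¹ = 2 * (2 * Q a)⁻¹ := by
    field_simp
  rw [ht]
  module

/-- conjugation formula with the reflection as its own inverse. -/
theorem reflG_conj' (u v : ι → F) (hu : Q u ≠ 0) (hv : Q v ≠ 0) :
    reflG Q u hu * reflG Q v hv * reflG Q u hu =
      reflG Q (iact (reflG Q u hu) v) (by rw [Q_iact]; exact hv) := by
  have := reflG_conj Q (reflG Q u hu) v hv
  rw [reflG_inv] at this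
  exact this

end f3A

section f3B
variable {ι : Type} [Fintype ι] [DecidableEq ι]
variable (Q : QuadraticForm (ZMod 3) (ι → ZMod 3))

theorem z3_cases : ∀ s e : ZMod 3, s ≠ 0 → e ≠ 0 → s = e ∨ s = -e := by decide

theorem z3_two_ne : (2 : ZMod 3) ≠ 0 := by decide

omit [DecidableEq ι] in
/-- a vector of prescribed norm orthogonal to a nonsingular vector and another vector. -/
theorem exists_perp_norm (hQ : (polarBilin Q).Nondegenerate) (hn : 5 ≤ Fintype.card ι)
    (a b : ι → ZMod 3) (ha : Q a ≠ 0) (e : ZMod 3) (he : e ≠ 0) :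
    ∃ w, Q w = e ∧ polar (⇑Q) a w = 0 ∧ polar (⇑Q) b w = 0 := by
  classical
  set S := Submodule.span (ZMod 3) ({a, b} : Set (ι → ZMod 3)) with hS
  set W := orthQ Q S with hW
  have haS : a ∈ S := Submodule.subset_span (by simp)
  have hbS : b ∈ S := Submodule.subset_span (by simp)
  have hSrk : finrank (ZMod 3) S ≤ 2 := by
    have h1 := finrank_span_finset_le_card (R := ZMod 3) ({a, b} : Finset (ι → ZMod 3))
    have h2 : ({a, b} : Finset (ι → ZMod 3)).card ≤ 2 := Finset.card_le_two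
    simp only [Finset.coe_insert, Finset.coe_singleton] at h1
    exact le_trans h1 h2
  have hWrk : 3 ≤ finrank (ZMod 3) W := by
    have h1 : finrank (ZMod 3) W = _ := LinearMap.BilinForm.finrank_orthogonal hQ S
    rw [Module.finrank_fintype_fun_eq_card] at h1
    omega
  have hWperp : ∀ x ∈ W, polar (⇑Q) a x = 0 ∧ polar (⇑Q) b x = 0 := fun x hx =>
    ⟨(mem_orth_iff Q S x).mp hx a haS, (mem_orth_iff Q S x).mp hx b hbS⟩
  haveI : Invertible (2 : ZMod 3) := invertibleOfNonzero z3_two_ne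
  have hBW : (LinearMap.BilinForm.restrict (polarBilin Q) W).IsSymm := ⟨fun x y => by
    simp only [LinearMap.BilinForm.restrict_apply, LinearMap.domRestrict_apply,
      polarBilin_apply_apply, RingHom.id_apply]
    rw [polar_comm]⟩
  obtain ⟨v, hv⟩ := LinearMap.BilinForm.exists_orthogonal_basis (LinearMap.BilinForm.isSymm_iff.mp hBW)
  have horth : ∀ i j, i ≠ j → polar (⇑Q) (v i : ι → ZMod 3) (v j : ι → ZMod 3) = 0 := by
    intro i j hij
    exact hv hij
  have hindep : ∀ i j, i ≠ j → ∀ s t : ZMod 3,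
      s • (v i : ι → ZMod 3) + t • (v j : ι → ZMod 3) = 0 → s = 0 ∧ t = 0 := by
    intro i j hij s t hst
    have h0 : s • v i + t • v j = 0 := by
      apply Subtype.ext
      simpa using hst
    have hi := congrArg (fun z => v.repr z i) h0
    have hj := congrArg (fun z => v.repr z j) h0
    simp only [map_add, map_smul, Basis.repr_self, Finsupp.coe_add, Finsupp.coe_smul, Pi.add_apply,
      Pi.smul_apply, Finsupp.single_eq_same, smul_eq_mul, mul_one, map_zero,
      Finsupp.coe_zero, Pi.zero_apply] at hi hj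
    have e1 : (Finsupp.single j (1 : ZMod 3)) i = 0 := by
      rw [Finsupp.single_apply, if_neg hij.symm]
    have e2 : (Finsupp.single i (1 : ZMod 3)) j = 0 := by
      rw [Finsupp.single_apply, if_neg hij]
    rw [e1] at hi
    rw [e2] at hj
    constructor
    · simpa using hi
    · simpa using hj
  have hsing2 : ∀ i j, i ≠ j → Q (v i : ι → ZMod 3) = 0 → Q (v j : ι → ZMod 3) = 0 → False := by
    intro i j hij hi hj
    have hrad : ∀ l, Q (v l : ι → ZMod 3) = 0 → (v l : ι → ZMod 3) ∈ S := by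
      intro l hl
      have h1 : (v l : ι → ZMod 3) ∈ orthQ Q W := by
        rw [mem_orth_iff]
        intro u hu
        have hf : ((polarBilin Q).flip (v l : ι → ZMod 3)).comp W.subtype = 0 := by
          apply v.ext
          intro k
          simp only [LinearMap.comp_apply, Submodule.subtype_apply, LinearMap.flip_apply,
            polarBilin_apply_apply, LinearMap.zero_apply]
          by_cases hkl : k = l
          · rw [hkl, polar_self', hl, mul_zero]
          · exact horth k l hkl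
        have := LinearMap.congr_fun hf ⟨u, hu⟩
        simpa using this
      have h3 : orthQ Q W = S :=
        LinearMap.BilinForm.orthogonal_orthogonal hQ (polarBilin_isSymm Q).isRefl S
      rw [h3] at h1
      exact h1
    set T := Submodule.span (ZMod 3) (Set.range ![(v i : ι → ZMod 3), (v j : ι → ZMod 3)]) with hT
    have hTrk : finrank (ZMod 3) T = 2 := by
      have := finrank_span_eq_card (R := ZMod 3)
        (LinearIndependent.pair_iff.mpr (hindep i j hij))
      rw [this, Fintype.card_fin]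
    have hTS : T ≤ S := by
      rw [hT, Submodule.span_le, Set.range_subset_iff]
      intro k
      fin_cases k
      · exact hrad i hi
      · exact hrad j hj
    have hTW : T ≤ W := by
      rw [hT, Submodule.span_le, Set.range_subset_iff]
      intro k
      fin_cases k
      · exact (v i).2
      · exact (v j).2
    have hTeq : T = S := Submodule.eq_of_le_of_finrank_le hTS (by omega)
    have haW : a ∈ W := hTW (hTeq ▸ haS)
    have h1 := (hWperp a haW).1
    rw [polar_self'] at h1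
    rcases mul_eq_zero.mp h1 with h | h
    · exact z3_two_ne h
    · exact ha h
  -- find two nonsingular basis vectors
  have hk : 3 ≤ finrank (ZMod 3) W := hWrk
  obtain ⟨i, j, hij, hi, hj⟩ : ∃ i j, i ≠ j ∧ Q (v i : ι → ZMod 3) ≠ 0 ∧ Q (v j : ι → ZMod 3) ≠ 0 := by
    set i0 : Fin (finrank (ZMod 3) W) := ⟨0, by omega⟩ with hi0
    set i1 : Fin (finrank (ZMod 3) W) := ⟨1, by omega⟩ with hi1
    set i2 : Fin (finrank (ZMod 3) W) := ⟨2, by omega⟩ with hi2
    have h01 : i0 ≠ i1 := by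
      intro h; have := congrArg Fin.val h; simp [hi0, hi1] at this
    have h02 : i0 ≠ i2 := by
      intro h; have := congrArg Fin.val h; simp [hi0, hi2] at this
    have h12 : i1 ≠ i2 := by
      intro h; have := congrArg Fin.val h; simp [hi1, hi2] at this
    by_cases q0 : Q (v i0 : ι → ZMod 3) = 0
    · by_cases q1 : Q (v i1 : ι → ZMod 3) = 0
      · exact absurd (hsing2 i0 i1 h01 q0 q1) id
      · by_cases q2 : Q (v i2 : ι → ZMod 3) = 0
        · exact absurd (hsing2 i0 i2 h02 q0 q2) id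
        · exact ⟨i1, i2, h12, q1, q2⟩
    · by_cases q1 : Q (v i1 : ι → ZMod 3) = 0
      · by_cases q2 : Q (v i2 : ι → ZMod 3) = 0
        · exact absurd (hsing2 i1 i2 h12 q1 q2) id
        · exact ⟨i0, i2, h02, q0, q2⟩
      · exact ⟨i0, i1, h01, q0, q1⟩
  rcases z3_cases _ e hi he with h | h
  · exact ⟨v i, h, (hWperp _ (v i).2).1, (hWperp _ (v i).2).2⟩
  rcases z3_cases _ e hj he with h' | h'
  · exact ⟨v j, h', (hWperp _ (v j).2).1, (hWperp _ (v j).2).2⟩
  refine ⟨(v i : ι → ZMod 3) + (v j : ι → ZMod 3), ?_, (hWperp _ (W.add_mem (v i).2 (v j).2)).1,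
    (hWperp _ (W.add_mem (v i).2 (v j).2)).2⟩
  rw [Q_add_of_perp Q (horth i j hij), h, h']
  clear h h' he
  revert e
  decide

end f3B

section f3C
variable {ι : Type} [Fintype ι] [DecidableEq ι]
variable (Q : QuadraticForm (ZMod 3) (ι → ZMod 3)) (c : ZMod 3)

theorem z3_neg_add_neg : ∀ c : ZMod 3, -c + -c = c := by decide

theorem z3_add_self : ∀ c : ZMod 3, c + c = -c := by decide

theorem z3_two_mul : ∀ c : ZMod 3, 2 * c = -c := by decide

theorem z3_add_add : ∀ c : ZMod 3, c + c + -c = c := by decide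

theorem reflG_mem_norm (v : ι → ZMod 3) (hv0 : Q v ≠ 0) (hv : Q v = c) :
    reflG Q v hv0 ∈ Cfsg.reflectionsOfNorm (⇑Q) c := ⟨v, hv, rfl⟩

theorem exists_of_mem_norm (hc : c ≠ 0) (g : ↥(Cfsg.isometryGroup (ZMod 3) ⇑Q))
    (hg : g ∈ Cfsg.reflectionsOfNorm (⇑Q) c) :
    ∃ (v : ι → ZMod 3) (hv0 : Q v ≠ 0), Q v = c ∧ g = reflG Q v hv0 := by
  obtain ⟨v, hv, hgv⟩ := hg
  refine ⟨v, by rw [hv]; exact hc, hv, ?_⟩
  apply Subtype.ext
  apply Units.ext
  exact hgv

theorem reflG_mem_N (v : ι → ZMod 3) (hv0 : Q v ≠ 0) (hv : Q v = c) :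
    reflG Q v hv0 ∈ Cfsg.reflectionSubgroup (⇑Q) c :=
  Subgroup.subset_closure (reflG_mem_norm Q c v hv0 hv)

theorem conj_mem_N (hc : c ≠ 0) (g x : ↥(Cfsg.isometryGroup (ZMod 3) ⇑Q))
    (hx : x ∈ Cfsg.reflectionSubgroup (⇑Q) c) :
    g * x * g⁻¹ ∈ Cfsg.reflectionSubgroup (⇑Q) c := by
  unfold Cfsg.reflectionSubgroup at hx ⊢
  induction hx using Subgroup.closure_induction with
  | mem r hr =>
    obtain ⟨v, hv0, hv, rfl⟩ := exists_of_mem_norm Q c hc r hr
    rw [reflG_conj]
    exact Subgroup.subset_closure (reflG_mem_norm Q c _ _ (by rw [Q_iact]; exact hv))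
  | one =>
    rw [mul_one, mul_inv_cancel]
    exact Subgroup.one_mem _
  | mul a b _ _ ha hb =>
    have : g * (a * b) * g⁻¹ = (g * a * g⁻¹) * (g * b * g⁻¹) := by group
    rw [this]
    exact Subgroup.mul_mem _ ha hb
  | inv a _ ha =>
    have : g * a⁻¹ * g⁻¹ = (g * a * g⁻¹)⁻¹ := by group
    rw [this]
    exact Subgroup.inv_mem _ ha

/-- the product of two reflections of the other norm lies in the reflection subgroup. -/
theorem pair_mem_N (hQ : (polarBilin Q).Nondegenerate) (hn : 5 ≤ Fintype.card ι) (hc : c ≠ 0)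
    (v w : ι → ZMod 3) (hv0 : Q v ≠ 0) (hw0 : Q w ≠ 0) (hv : Q v = -c) (hw : Q w = -c) :
    reflG Q v hv0 * reflG Q w hw0 ∈ Cfsg.reflectionSubgroup (⇑Q) c := by
  have hnc : -c ≠ 0 := neg_ne_zero.mpr hc
  obtain ⟨a, haQ, hav, haw⟩ := exists_perp_norm Q hQ hn v w hv0 (-c) hnc
  have ha0 : Q a ≠ 0 := by rw [haQ]; exact hnc
  have key : ∀ (x y : ι → ZMod 3) (hx0 : Q x ≠ 0) (hy0 : Q y ≠ 0), Q x = -c → Q y = -c →
      polar (⇑Q) x y = 0 → reflG Q x hx0 * reflG Q y hy0 ∈ Cfsg.reflectionSubgroup (⇑Q) c := by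
    intro x y hx0 hy0 hx hy hxy
    have e1 : Q (x + y) = c := by rw [Q_add_of_perp Q hxy, hx, hy, z3_neg_add_neg]
    have e2 : Q (x - y) = c := by rw [Q_sub_of_perp Q hxy, hx, hy, z3_neg_add_neg]
    have hp : Q (x + y) ≠ 0 := by rw [e1]; exact hc
    have hm : Q (x - y) ≠ 0 := by rw [e2]; exact hc
    rw [reflG_mul_perp Q z3_two_ne x y hx0 hy0 (by rw [hx, hy]) hxy hp hm]
    exact Subgroup.mul_mem _ (reflG_mem_N Q c _ hp e1) (reflG_mem_N Q c _ hm e2)
  have h1 := key v a hv0 ha0 hv haQ hav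
  have h2 := key a w ha0 hw0 haQ hw (by rw [polar_comm]; exact haw)
  have : reflG Q v hv0 * reflG Q w hw0 =
      (reflG Q v hv0 * reflG Q a ha0) * (reflG Q a ha0 * reflG Q w hw0) := by
    rw [mul_assoc, ← mul_assoc (reflG Q a ha0), reflG_mul_self, one_mul]
  rw [this]
  exact Subgroup.mul_mem _ h1 h2

/-- the character that is trivial exactly on the reflections of norm `c`. -/
theorem exists_psi (hQ : (polarBilin Q).Nondegenerate) (hc : c ≠ 0) :
    ∃ ψ : ↥(Cfsg.isometryGroup (ZMod 3) ⇑Q) →* ℤˣ,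
      (∀ (v : ι → ZMod 3) (hv0 : Q v ≠ 0), Q v = c → ψ (reflG Q v hv0) = 1) ∧
      (∀ (v : ι → ZMod 3) (hv0 : Q v ≠ 0), Q v = -c → ψ (reflG Q v hv0) = -1) := by
  obtain ⟨θ, δ, hθ, hδ⟩ := exists_theta_delta Q hQ
  have hθ1 : ∀ (v : ι → ZMod 3) (hv0 : Q v ≠ 0), Q v = 1 → θ (reflG Q v hv0) = 1 := by
    intro v hv0 hv
    have := hθ v hv0
    rw [hv, map_one] at this
    exact Units.ext this
  have hθm : ∀ (v : ι → ZMod 3) (hv0 : Q v ≠ 0), Q v = -1 → θ (reflG Q v hv0) = -1 := by
    intro v hv0 hv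
    have := hθ v hv0
    rw [hv] at this
    have h1 : quadraticChar (ZMod 3) (-1) = -1 :=
      quadraticChar_neg_one_iff_not_isSquare.mpr (by decide)
    rw [h1] at this
    exact Units.ext this
  rcases z3_cases c 1 hc one_ne_zero with rfl | rfl
  · exact ⟨θ, hθ1, hθm⟩
  · refine ⟨θ * δ, ?_, ?_⟩
    · intro v hv0 hv
      rw [MonoidHom.mul_apply, hθm v hv0 hv, hδ v hv0]
      rfl
    · intro v hv0 hv
      rw [neg_neg] at hv
      rw [MonoidHom.mul_apply, hθ1 v hv0 hv, hδ v hv0]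
      rfl

theorem index_reflectionSubgroup (hQ : (polarBilin Q).Nondegenerate) (hn : 5 ≤ Fintype.card ι)
    (hc : c ≠ 0) : (Cfsg.reflectionSubgroup (⇑Q) c).index = 2 := by
  classical
  obtain ⟨ψ, hψ1, hψm⟩ := exists_psi Q c hQ hc
  have hnc : -c ≠ 0 := neg_ne_zero.mpr hc
  obtain ⟨w₀, hw₀⟩ := exists_Q_eq Q z3_two_ne hQ (by omega) (-c) hnc
  have hw₀0 : Q w₀ ≠ 0 := by rw [hw₀]; exact hnc
  set r₀ := reflG Q w₀ hw₀0 with hr₀
  have hNle : Cfsg.reflectionSubgroup (⇑Q) c ≤ ψ.ker := by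
    unfold Cfsg.reflectionSubgroup
    rw [Subgroup.closure_le]
    intro g hg
    obtain ⟨v, hv0, hv, rfl⟩ := exists_of_mem_norm Q c hc g hg
    exact MonoidHom.mem_ker.mpr (hψ1 v hv0 hv)
  have hne : (1 : ℤˣ) ≠ -1 := by decide
  have hlist : ∀ vs : List (ι → ZMod 3), (∀ v ∈ vs, Q v ≠ 0) →
      (ψ (prodR Q vs) = 1 → prodR Q vs ∈ Cfsg.reflectionSubgroup (⇑Q) c) ∧
      (ψ (prodR Q vs) = -1 → prodR Q vs * r₀ ∈ Cfsg.reflectionSubgroup (⇑Q) c) := by
    intro vs
    induction vs with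
    | nil =>
      intro _
      refine ⟨fun _ => by rw [prodR_nil]; exact Subgroup.one_mem _, fun h => ?_⟩
      rw [prodR_nil, map_one] at h
      exact absurd h hne
    | cons v vs ih =>
      intro hvs
      have hv0 : Q v ≠ 0 := hvs v List.mem_cons_self
      obtain ⟨ih1, ih2⟩ := ih (fun u hu => hvs u (List.mem_cons_of_mem _ hu))
      rw [prodR_cons, reflG'_of Q v hv0]
      rcases z3_cases (Q v) c hv0 hc with hv | hv
      · have hr := reflG_mem_N Q c v hv0 hv
        have hψr := hψ1 v hv0 hv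
        rw [map_mul, hψr, one_mul]
        exact ⟨fun h => Subgroup.mul_mem _ hr (ih1 h), fun h => by
          rw [mul_assoc]; exact Subgroup.mul_mem _ hr (ih2 h)⟩
      · have hψr := hψm v hv0 hv
        have h4 := pair_mem_N Q c hQ hn hc v w₀ hv0 hw₀0 hv hw₀
        rw [map_mul, hψr]
        constructor
        · intro h
          have h' : ψ (prodR Q vs) = -1 := by
            rcases Int.units_eq_one_or (ψ (prodR Q vs)) with h1 | h1
            · rw [h1] at h; exact absurd h (by decide)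
            · exact h1
          have hP := ih2 h'
          have h3 : r₀ * prodR Q vs ∈ Cfsg.reflectionSubgroup (⇑Q) c := by
            have := conj_mem_N Q c hc r₀ _ hP
            have e : r₀ * (prodR Q vs * r₀) * r₀⁻¹ = r₀ * prodR Q vs := by group
            rw [e] at this
            exact this
          have : reflG Q v hv0 * prodR Q vs = (reflG Q v hv0 * r₀) * (r₀ * prodR Q vs) := by
            rw [mul_assoc, ← mul_assoc r₀, hr₀, reflG_mul_self, one_mul]
          rw [this]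
          exact Subgroup.mul_mem _ h4 h3
        · intro h
          have h' : ψ (prodR Q vs) = 1 := by
            rcases Int.units_eq_one_or (ψ (prodR Q vs)) with h1 | h1
            · exact h1
            · rw [h1] at h; exact absurd h (by decide)
          have hP := ih1 h'
          have h3 := conj_mem_N Q c hc (reflG Q v hv0) _ hP
          have : reflG Q v hv0 * prodR Q vs * r₀ =
              (reflG Q v hv0 * prodR Q vs * (reflG Q v hv0)⁻¹) * (reflG Q v hv0 * r₀) := by group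
          rw [this]
          exact Subgroup.mul_mem _ h3 h4
  rw [Subgroup.index_eq_two_iff]
  refine ⟨r₀, fun b => ?_⟩
  obtain ⟨vs, hvs, rfl⟩ := exists_list Q z3_two_ne hQ b
  obtain ⟨l1, l2⟩ := hlist vs hvs
  have hr₀ψ : ψ r₀ = -1 := hψm w₀ hw₀0 hw₀
  rcases Int.units_eq_one_or (ψ (prodR Q vs)) with h1 | h1
  · refine Or.inr ⟨l1 h1, fun hcon => ?_⟩
    have := hNle hcon
    rw [MonoidHom.mem_ker, map_mul, h1, hr₀ψ] at this
    exact absurd this (by decide)
  · refine Or.inl ⟨l2 h1, fun hcon => ?_⟩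
    have := hNle hcon
    rw [MonoidHom.mem_ker, h1] at this
    exact absurd this (by decide)

end f3C

section f3D
variable {ι : Type} [Fintype ι] [DecidableEq ι]
variable (Q : QuadraticForm (ZMod 3) (ι → ZMod 3)) (c : ZMod 3)

theorem refl_comm_of_perp (u v : ι → ZMod 3) (hu0 : Q u ≠ 0) (hv0 : Q v ≠ 0)
    (h : polar (⇑Q) u v = 0) :
    reflG Q u hu0 * reflG Q v hv0 * reflG Q u hu0 = reflG Q v hv0 := by
  rw [reflG_conj' Q u v hu0 hv0]
  exact reflG_congr Q _ _ (iact_reflG_of_polar Q u hu0 v h) _ hv0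

theorem refl_braid (u v : ι → ZMod 3) (hu0 : Q u ≠ 0) (hv0 : Q v ≠ 0) (hQuv : Q u = Q v)
    (hβ : polar (⇑Q) u v ≠ 0) :
    reflG Q u hu0 * reflG Q v hv0 * reflG Q u hu0 =
      reflG Q v hv0 * reflG Q u hu0 * reflG Q v hv0 := by
  rw [reflG_conj' Q u v hu0 hv0, reflG_conj' Q v u hv0 hu0]
  set γ := (Q u)⁻¹ * polar (⇑Q) u v with hγdef
  have hγ : γ ≠ 0 := mul_ne_zero (inv_ne_zero hu0) hβ
  have h1 : iact (reflG Q u hu0) v = v - γ • u := iact_reflG Q u hu0 v
  have h2 : iact (reflG Q v hv0) u = u - γ • v := by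
    rw [iact_reflG, ← hQuv, polar_comm]
  have hγ2 : (-γ) * γ = -1 := by
    rcases z3_cases γ 1 hγ one_ne_zero with h | h <;> rw [h] <;> decide
  have h3 : iact (reflG Q v hv0) u = (-γ) • iact (reflG Q u hu0) v := by
    rw [h1, h2, smul_sub, smul_smul, hγ2]
    module
  have hw : Q (iact (reflG Q u hu0) v) ≠ 0 := by rw [Q_iact]; exact hv0
  have hw' : Q ((-γ) • iact (reflG Q u hu0) v) ≠ 0 := by rw [← h3, Q_iact]; exact hu0
  exact ((reflG_congr Q _ _ h3 _ hw').trans
    (reflG_smul Q _ hw (-γ) (neg_ne_zero.mpr hγ) hw')).symm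

theorem three_transp_pair (u v : ι → ZMod 3) (hu0 : Q u ≠ 0) (hv0 : Q v ≠ 0) (hQuv : Q u = Q v) :
    (reflG Q u hu0 * reflG Q v hv0) ^ 2 = 1 ∨ (reflG Q u hu0 * reflG Q v hv0) ^ 3 = 1 := by
  set a := reflG Q u hu0 with ha
  set b := reflG Q v hv0 with hb
  have haa : a * a = 1 := reflG_mul_self Q u hu0
  have hbb : b * b = 1 := reflG_mul_self Q v hv0
  by_cases h : polar (⇑Q) u v = 0
  · left
    have h1 : a * b * a = b := refl_comm_of_perp Q u v hu0 hv0 h
    calc (a * b) ^ 2 = (a * b * a) * b := by rw [pow_two]; group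
      _ = 1 := by rw [h1, hbb]
  · right
    have h1 : a * b * a = b * a * b := refl_braid Q u v hu0 hv0 hQuv h
    calc (a * b) ^ 3 = (a * b * a) * (b * a * b) := by rw [pow_succ, pow_two]; group
      _ = (b * a * b) * (b * a * b) := by rw [h1]
      _ = b * a * (b * b) * a * b := by group
      _ = b * (a * a) * b := by rw [hbb]; group
      _ = 1 := by rw [haa, mul_one, hbb]

/-- two reflections of norm `c` are conjugate under the reflection subgroup. -/
theorem refl_conj_N (hQ : (polarBilin Q).Nondegenerate) (hn : 5 ≤ Fintype.card ι) (hc : c ≠ 0)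
    (u v : ι → ZMod 3) (hu0 : Q u ≠ 0) (hv0 : Q v ≠ 0) (hu : Q u = c) (hv : Q v = c) :
    ∃ g ∈ Cfsg.reflectionSubgroup (⇑Q) c, g * reflG Q u hu0 * g⁻¹ = reflG Q v hv0 := by
  have step : ∀ (x y : ι → ZMod 3) (hx0 : Q x ≠ 0) (hy0 : Q y ≠ 0), Q x = c → Q y = c →
      polar (⇑Q) x y ≠ 0 →
      ∃ g ∈ Cfsg.reflectionSubgroup (⇑Q) c, g * reflG Q x hx0 * g⁻¹ = reflG Q y hy0 := by
    intro x y hx0 hy0 hx hy hxy
    refine ⟨reflG Q x hx0 * reflG Q y hy0, Subgroup.mul_mem _ (reflG_mem_N Q c x hx0 hx)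
      (reflG_mem_N Q c y hy0 hy), ?_⟩
    have h1 := refl_braid Q x y hx0 hy0 (by rw [hx, hy]) hxy
    have haa := reflG_mul_self Q x hx0
    have hbb := reflG_mul_self Q y hy0
    set a := reflG Q x hx0
    set b := reflG Q y hy0
    have hinv : (a * b)⁻¹ = b * a := by
      apply inv_eq_of_mul_eq_one_right
      calc a * b * (b * a) = a * (b * b) * a := by group
        _ = 1 := by rw [hbb, mul_one, haa]
    rw [hinv]
    calc a * b * a * (b * a) = (a * b * a) * b * a := by group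
      _ = (b * a * b) * b * a := by rw [h1]
      _ = b * a * (b * b) * a := by group
      _ = b := by rw [hbb, mul_one, mul_assoc, haa, mul_one]
  by_cases h : polar (⇑Q) u v = 0
  · have hnc : -c ≠ 0 := neg_ne_zero.mpr hc
    obtain ⟨t, htQ, hut, hvt⟩ := exists_perp_norm Q hQ hn u v hu0 (-c) hnc
    have huu : polar (⇑Q) u u = -c := by rw [polar_self', hu, z3_two_mul]
    have hvv : polar (⇑Q) v v = -c := by rw [polar_self', hv, z3_two_mul]
    set w := u + v + t with hw
    have hwQ : Q w = c := by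
      have e1 : polar (⇑Q) (u + v) t = 0 := by rw [polar_add_left, hut, hvt, add_zero]
      rw [hw, Q_add_of_perp Q e1, Q_add_of_perp Q h, hu, hv, htQ, z3_add_add]
    have hw0 : Q w ≠ 0 := by rw [hwQ]; exact hc
    have huw : polar (⇑Q) u w ≠ 0 := by
      rw [hw, polar_add_right, polar_add_right, huu, h, hut, add_zero, add_zero]
      exact hnc
    have hwv : polar (⇑Q) w v ≠ 0 := by
      rw [hw, polar_add_left, polar_add_left, h, hvv, polar_comm (⇑Q) t v, hvt, zero_add, add_zero]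
      exact hnc
    obtain ⟨g₁, hg₁, e₁⟩ := step u w hu0 hw0 hu hwQ huw
    obtain ⟨g₂, hg₂, e₂⟩ := step w v hw0 hv0 hwQ hv hwv
    refine ⟨g₂ * g₁, Subgroup.mul_mem _ hg₂ hg₁, ?_⟩
    rw [← e₂, ← e₁]
    group
  · exact step u v hu0 hv0 hu hv h

end f3D

end Cfsg.Agent.helper13
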