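import Mathlib

set_option autoImplicit false

namespace Cfsg.Agent.helper13

open Module Polynomial

section fieldext

/-- a finite field embeds in any finite field whose order is a power of its order. -/
theorem exists_ringHom_of_card_pow {F K : Type*} [Field F] [Fintype F] [Field K] [Fintype K]
    (n : ℕ) (hn : n ≠ 0) (hK : Fintype.card K = Fintype.card F ^ n) : Nonempty (F →+* K) := by
  obtain ⟨p, hp⟩ := CharP.exists F
  haveI : Fact p.Prime := ⟨CharP.char_is_prime F p⟩
  haveI : NeZero n := ⟨hn⟩
  haveI : Fintype (FiniteField.Extension F p n) := Fintype.ofFinite _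
  have hcard : Fintype.card K = Fintype.card (FiniteField.Extension F p n) := by
    rw [hK, Fintype.card_eq_nat_card, Fintype.card_eq_nat_card, FiniteField.natCard_extension]
  let e : K ≃+* FiniteField.Extension F p n := FiniteField.ringEquivOfCardEq hcard
  exact ⟨(e.symm : FiniteField.Extension F p n →+* K).comp (algebraMap F (FiniteField.Extension F p n))⟩

theorem finrank_of_card_pow {F K : Type*} [Field F] [Fintype F] [Field K] [Fintype K] [Algebra F K]
    (n : ℕ) (hK : Fintype.card K = Fintype.card F ^ n) : finrank F K = n := by
  have h1 := Module.card_eq_pow_finrank (K := F) (V := K)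
  rw [hK] at h1
  exact (Nat.pow_right_injective (Fintype.one_lt_card : 1 < Fintype.card F) h1).symm

/-- an irreducible polynomial whose degree divides the degree of a finite extension of finite
fields has a root there. -/
theorem exists_root_of_irreducible {F K : Type*} [Field F] [Finite F] [Field K] [Finite K]
    [Algebra F K] (f : F[X]) (hf : Irreducible f) (hdeg : f.natDegree ∣ finrank F K) :
    ∃ x : K, aeval x f = 0 := by
  haveI : Fact (Irreducible f) := ⟨hf⟩
  have hf0 : f ≠ 0 := hf.ne_zero
  have hfin : finrank F (AdjoinRoot f) = f.natDegree := by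
    rw [(AdjoinRoot.powerBasis hf0).finrank, AdjoinRoot.powerBasis_dim]
  have hdvd : finrank F (AdjoinRoot f) ∣ finrank F K := by rw [hfin]; exact hdeg
  obtain ⟨φ⟩ := FiniteField.nonempty_algHom_of_finrank_dvd (F := F) (K := AdjoinRoot f) (L := K) hdvd
  refine ⟨φ (AdjoinRoot.root f), ?_⟩
  rw [Polynomial.aeval_algHom_apply, AdjoinRoot.aeval_eq, AdjoinRoot.mk_self, map_zero]

end fieldext

end Cfsg.Agent.helper13
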