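import Mathlib
import Cfsg.Agent.Lib_helper13_GeoTS
import Cfsg.Agent.Lib_helper13_F3Refl

/-! Orthogonal decompositions over the field with three elements whose members carry a canonical
frame of vectors of one norm: the stabiliser in `Ω` is not maximal. -/

set_option autoImplicit false

namespace Cfsg.Agent.helper13

open Module Matrix QuadraticMap

section frame1
variable {F : Type*} [Field F] {ι : Type} [Fintype ι] [DecidableEq ι]

/-- the stabiliser of a set of vectors -/
def setStab (S : Set (ι → F)) : Subgroup (GL ι F) where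
  carrier := {g | ∀ v, (g : Matrix ι ι F) *ᵥ v ∈ S ↔ v ∈ S}
  mul_mem' := by
    intro a b ha hb v
    rw [Units.val_mul, ← Matrix.mulVec_mulVec, ha, hb]
  one_mem' := by
    intro v
    simp
  inv_mem' := by
    intro a ha v
    have := ha (((a⁻¹ : GL ι F) : Matrix ι ι F) *ᵥ v)
    rw [Matrix.mulVec_mulVec, ← Units.val_mul, mul_inv_cancel, Units.val_one,
      Matrix.one_mulVec] at this
    exact this.symm

theorem mem_setStab (S : Set (ι → F)) (g : GL ι F) :
    g ∈ setStab S ↔ ∀ v, (g : Matrix ι ι F) *ᵥ v ∈ S ↔ v ∈ S := Iff.rfl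

variable (Q : QuadraticForm F (ι → F))

/-- the vectors of norm `c` lying in a member of the decomposition -/
def frameSet {t : ℕ} (D : Fin t → Submodule F (ι → F)) (c : F) : Set (ι → F) :=
  {v | Q v = c ∧ ∃ i, v ∈ D i}

/-- an isometry permuting the members preserves the frame set -/
theorem decompStab_le_setStab {t : ℕ} (D : Fin t → Submodule F (ι → F)) (c : F)
    (h : ↥(Cfsg.isometryGroup F ⇑Q)) (hh : (h : GL ι F) ∈ Cfsg.Geo.decompositionStabilizer D) :
    (h : GL ι F) ∈ setStab (frameSet Q D c) := by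
  obtain ⟨σ, hσ⟩ := hh
  intro v
  have hQv : Q (((h : GL ι F) : Matrix ι ι F) *ᵥ v) = Q v := Q_iact h v
  constructor
  · rintro ⟨h1, i, hi⟩
    refine ⟨by rw [← hQv]; exact h1, σ.symm i, ?_⟩
    have h3 := hσ (σ.symm i)
    rw [Equiv.apply_symm_apply] at h3
    rw [← h3] at hi
    obtain ⟨u, hu, hue⟩ := hi
    have hinj : Function.Injective (Matrix.toLin' ((h : GL ι F) : Matrix ι ι F)) := by
      rw [← LinearMap.ker_eq_bot, LinearMap.ker_eq_bot']
      intro x hx
      have h5 : ((h⁻¹ : ↥(Cfsg.isometryGroup F ⇑Q)) : GL ι F).1 *ᵥ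
          (((h : GL ι F) : Matrix ι ι F) *ᵥ x) = x := iact_inv_iact h x
      rw [Matrix.toLin'_apply] at hx
      rw [hx, Matrix.mulVec_zero] at h5
      exact h5.symm
    have : u = v := hinj (by rw [hue, Matrix.toLin'_apply])
    rw [← this]
    exact hu
  · rintro ⟨h1, i, hi⟩
    refine ⟨by rw [hQv]; exact h1, σ i, ?_⟩
    rw [← hσ i]
    exact ⟨v, hi, Matrix.toLin'_apply _ _⟩

/-- the reflection in `v₁ - v₂` interchanges `v₁` and `v₂` -/
theorem refl_swap_perp (h2 : (2 : F) ≠ 0) (c : F) (hc : c ≠ 0) (v₁ v₂ : ι → F) (h1 : Q v₁ = c)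
    (h3 : Q v₂ = c) (hp : polar (⇑Q) v₁ v₂ = 0) (hw : Q (v₁ - v₂) ≠ 0) :
    iact (reflG Q (v₁ - v₂) hw) v₁ = v₂ ∧ iact (reflG Q (v₁ - v₂) hw) v₂ = v₁ := by
  have hQw : Q (v₁ - v₂) = 2 * c := by
    rw [Q_sub_of_perp Q hp, h1, h3]
    ring
  have hp' : polar (⇑Q) v₂ v₁ = 0 := by rw [polar_comm]; exact hp
  have h2c : (2 * c : F) ≠ 0 := mul_ne_zero h2 hc
  constructor
  · rw [iact_reflG, polar_sub_left, polar_self', h1, hp', hQw, sub_zero,
      inv_mul_cancel₀ h2c, one_smul]
    abel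
  · rw [iact_reflG, polar_sub_left, polar_self', h3, hp, hQw, zero_sub, mul_neg,
      inv_mul_cancel₀ h2c, neg_smul, one_smul]
    abel

end frame1

end Cfsg.Agent.helper13
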