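import Mathlib
import Cfsg.Agent.Lib_helper13_Frame1

/-! The general non-maximality lemma for decompositions with canonical frames. -/

set_option autoImplicit false

namespace Cfsg.Agent.helper13

open Module Matrix QuadraticMap

section frame2
variable {F : Type*} [Field F] [Fintype F] {ι : Type} [Fintype ι] [DecidableEq ι]
variable (Q : QuadraticForm F (ι → F))

omit [Fintype F] in
theorem refl_preserves_frame (h2 : (2 : F) ≠ 0) {t : ℕ} (D : Fin t → Submodule F (ι → F))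
    (c : F) (hc : c ≠ 0)
    (horth : ∀ i j, i ≠ j → ∀ u ∈ D i, ∀ v ∈ D j, polar (⇑Q) u v = 0)
    (hFP : ∀ i, ∀ s ∈ D i, ∀ s' ∈ D i, Q s = c → Q s' = c →
      s = s' ∨ s = -s' ∨ polar (⇑Q) s s' = 0)
    (i₁ i₂ : Fin t) (hi : i₁ ≠ i₂) (v₁ v₂ : ι → F) (hv₁ : v₁ ∈ D i₁) (hv₂ : v₂ ∈ D i₂)
    (hQ₁ : Q v₁ = c) (hQ₂ : Q v₂ = c) (hw : Q (v₁ - v₂) ≠ 0) :
    ((reflG Q (v₁ - v₂) hw : ↥(Cfsg.isometryGroup F ⇑Q)) : GL ι F) ∈
      setStab (frameSet Q D c) := by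
  have hp : polar (⇑Q) v₁ v₂ = 0 := horth i₁ i₂ hi v₁ hv₁ v₂ hv₂
  obtain ⟨hs1, hs2⟩ := refl_swap_perp Q h2 c hc v₁ v₂ hQ₁ hQ₂ hp hw
  have key : ∀ s ∈ frameSet Q D c, iact (reflG Q (v₁ - v₂) hw) s ∈ frameSet Q D c := by
    rintro s ⟨hQs, i, hsi⟩
    have fix : polar (⇑Q) v₁ s = 0 → polar (⇑Q) v₂ s = 0 →
        iact (reflG Q (v₁ - v₂) hw) s = s := fun a b =>
      iact_reflG_of_polar Q _ hw s (by rw [polar_sub_left, a, b, sub_zero])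
    by_cases h1 : i = i₁
    · subst h1
      have hs2' : polar (⇑Q) v₂ s = 0 := horth i₂ i hi.symm v₂ hv₂ s hsi
      rcases hFP i s hsi v₁ hv₁ hQs hQ₁ with h | h | h
      · rw [h, hs1]
        exact ⟨hQ₂, i₂, hv₂⟩
      · rw [h, iact_neg, hs1]
        exact ⟨by rw [QuadraticMap.map_neg]; exact hQ₂, i₂, (D i₂).neg_mem hv₂⟩
      · rw [fix (by rw [polar_comm]; exact h) hs2']
        exact ⟨hQs, i, hsi⟩
    · by_cases h3 : i = i₂
      · subst h3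
        have hs1' : polar (⇑Q) v₁ s = 0 := horth i₁ i hi v₁ hv₁ s hsi
        rcases hFP i s hsi v₂ hv₂ hQs hQ₂ with h | h | h
        · rw [h, hs2]
          exact ⟨hQ₁, i₁, hv₁⟩
        · rw [h, iact_neg, hs2]
          exact ⟨by rw [QuadraticMap.map_neg]; exact hQ₁, i₁, (D i₁).neg_mem hv₁⟩
        · rw [fix hs1' (by rw [polar_comm]; exact h)]
          exact ⟨hQs, i, hsi⟩
      · rw [fix (horth i₁ i (Ne.symm h1) v₁ hv₁ s hsi) (horth i₂ i (Ne.symm h3) v₂ hv₂ s hsi)]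
        exact ⟨hQs, i, hsi⟩
  intro v
  constructor
  · intro h
    have h5 := key _ h
    have h6 : iact (reflG Q (v₁ - v₂) hw) (iact (reflG Q (v₁ - v₂) hw) v) = v := by
      rw [← iact_mul, reflG_mul_self, iact_one]
    have h7 : iact (reflG Q (v₁ - v₂) hw) (((reflG Q (v₁ - v₂) hw :
        ↥(Cfsg.isometryGroup F ⇑Q)) : GL ι F).1 *ᵥ v) = v := h6
    rw [h7] at h5
    exact h5
  · exact key v

theorem frame_not_max (h2 : (2 : F) ≠ 0) (h3 : (3 : F) = 0)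
    (hQ : (polarBilin Q).Nondegenerate)
    (hne : Fintype.card F ≠ 2 ∨ Fintype.card ι ≠ 4) {t : ℕ} (D : Fin t → Submodule F (ι → F))
    (c : F) (hc : c ≠ 0)
    (horth : ∀ i j, i ≠ j → ∀ u ∈ D i, ∀ v ∈ D j, polar (⇑Q) u v = 0)
    (hFP : ∀ i, ∀ s ∈ D i, ∀ s' ∈ D i, Q s = c → Q s' = c →
      s = s' ∨ s = -s' ∨ polar (⇑Q) s s' = 0)
    (i₁ i₂ i₃ i₄ : Fin t) (h12 : i₁ ≠ i₂) (h13 : i₁ ≠ i₃) (h14 : i₁ ≠ i₄) (h23 : i₂ ≠ i₃)
    (h24 : i₂ ≠ i₄) (h34 : i₃ ≠ i₄)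
    (v₁ v₂ v₃ v₄ v₁' : ι → F) (hv₁ : v₁ ∈ D i₁) (hv₂ : v₂ ∈ D i₂) (hv₃ : v₃ ∈ D i₃)
    (hv₄ : v₄ ∈ D i₄) (hv₁' : v₁' ∈ D i₁)
    (hQ₁ : Q v₁ = c) (hQ₂ : Q v₂ = c) (hQ₃ : Q v₃ = c) (hQ₄ : Q v₄ = c) (hQ₁' : Q v₁' = c)
    (hp : polar (⇑Q) v₁ v₁' = 0) :
    ∃ K : Subgroup (GL ι F), Cfsg.Geo.decompositionStabilizer D ⊓ Cfsg.Geo.omegaGL ⇑Q < K ∧
      K < Cfsg.Geo.omegaGL ⇑Q := by
  have h2c : (2 * c : F) ≠ 0 := mul_ne_zero h2 hc
  have p12 : polar (⇑Q) v₁ v₂ = 0 := horth i₁ i₂ h12 v₁ hv₁ v₂ hv₂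
  have p13 : polar (⇑Q) v₁ v₃ = 0 := horth i₁ i₃ h13 v₁ hv₁ v₃ hv₃
  have p14 : polar (⇑Q) v₁ v₄ = 0 := horth i₁ i₄ h14 v₁ hv₁ v₄ hv₄
  have p23 : polar (⇑Q) v₂ v₃ = 0 := horth i₂ i₃ h23 v₂ hv₂ v₃ hv₃
  have p24 : polar (⇑Q) v₂ v₄ = 0 := horth i₂ i₄ h24 v₂ hv₂ v₄ hv₄
  have p34 : polar (⇑Q) v₃ v₄ = 0 := horth i₃ i₄ h34 v₃ hv₃ v₄ hv₄
  have p21 : polar (⇑Q) v₂ v₁ = 0 := by rw [polar_comm]; exact p12
  have p31 : polar (⇑Q) v₃ v₁ = 0 := by rw [polar_comm]; exact p13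
  have p41 : polar (⇑Q) v₄ v₁ = 0 := by rw [polar_comm]; exact p14
  have p32 : polar (⇑Q) v₃ v₂ = 0 := by rw [polar_comm]; exact p23
  have p42 : polar (⇑Q) v₄ v₂ = 0 := by rw [polar_comm]; exact p24
  have p2' : polar (⇑Q) v₂ v₁' = 0 := horth i₂ i₁ h12.symm v₂ hv₂ v₁' hv₁'
  have p3' : polar (⇑Q) v₃ v₁' = 0 := horth i₃ i₁ h13.symm v₃ hv₃ v₁' hv₁'
  have p4' : polar (⇑Q) v₄ v₁' = 0 := horth i₄ i₁ h14.symm v₄ hv₄ v₁' hv₁'
  have hw12 : Q (v₁ - v₂) ≠ 0 := by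
    rw [Q_sub_of_perp Q p12, hQ₁, hQ₂, ← two_mul]
    exact h2c
  have hw34 : Q (v₃ - v₄) ≠ 0 := by
    rw [Q_sub_of_perp Q p34, hQ₃, hQ₄, ← two_mul]
    exact h2c
  have pself : ∀ v : ι → F, Q v = c → polar (⇑Q) v v ≠ 0 := by
    intro v hv
    rw [polar_self', hv]
    exact h2c
  refine ⟨setStab (frameSet Q D c) ⊓ Cfsg.Geo.omegaGL ⇑Q, ?_, ?_⟩
  · apply inf_omega_lt_inf_omega Q
    · intro h _ hh
      exact decompStab_le_setStab Q D c h hh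
    · refine ⟨reflG Q (v₁ - v₂) hw12 * reflG Q (v₃ - v₄) hw34, ?_, ?_, ?_⟩
      · apply reflG_pair_mem_comm Q hQ hne
        rw [Q_sub_of_perp Q p12, Q_sub_of_perp Q p34, hQ₁, hQ₂, hQ₃, hQ₄]
      · exact (setStab (frameSet Q D c)).mul_mem
          (refl_preserves_frame Q h2 D c hc horth hFP i₁ i₂ h12 v₁ v₂ hv₁ hv₂ hQ₁ hQ₂ hw12)
          (refl_preserves_frame Q h2 D c hc horth hFP i₃ i₄ h34 v₃ v₄ hv₃ hv₄ hQ₃ hQ₄ hw34)
      · rintro ⟨σ, hσ⟩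
        have e1 : iact (reflG Q (v₁ - v₂) hw12 * reflG Q (v₃ - v₄) hw34) v₁ = v₂ := by
          rw [iact_mul, iact_reflG_of_polar Q _ hw34 v₁ (by rw [polar_sub_left, p31, p41, sub_zero])]
          exact (refl_swap_perp Q h2 c hc v₁ v₂ hQ₁ hQ₂ p12 hw12).1
        have e2 : iact (reflG Q (v₁ - v₂) hw12 * reflG Q (v₃ - v₄) hw34) v₁' = v₁' := by
          rw [iact_mul, iact_reflG_of_polar Q _ hw34 v₁' (by rw [polar_sub_left, p3', p4', sub_zero]),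
            iact_reflG_of_polar Q _ hw12 v₁' (by rw [polar_sub_left, hp, p2', sub_zero])]
        have hm := hσ i₁
        have m1 : v₂ ∈ D (σ i₁) := by
          rw [← hm]
          refine ⟨v₁, hv₁, ?_⟩
          rw [Matrix.toLin'_apply]
          exact e1
        have m2 : v₁' ∈ D (σ i₁) := by
          rw [← hm]
          refine ⟨v₁', hv₁', ?_⟩
          rw [Matrix.toLin'_apply]
          exact e2
        have s1 : σ i₁ = i₂ := by
          by_contra hcon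
          exact pself v₂ hQ₂ (horth (σ i₁) i₂ hcon v₂ m1 v₂ hv₂)
        have s2 : σ i₁ = i₁ := by
          by_contra hcon
          exact pself v₁' hQ₁' (horth (σ i₁) i₁ hcon v₁' m2 v₁' hv₁')
        exact h12 (s2.symm.trans s1)
  · apply inf_omega_lt_omega Q
    obtain ⟨a, ha⟩ : ∃ a : ι → F, a = v₁ + v₂ + v₃ + v₄ := ⟨_, rfl⟩
    have hQa : Q a = c := by
      have q1 : Q (v₁ + v₂) = c + c := by rw [Q_add_of_perp Q p12, hQ₁, hQ₂]
      have q2 : Q (v₁ + v₂ + v₃) = c + c + c := by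
        rw [Q_add_of_perp Q (by rw [polar_add_left, p13, p23, add_zero]), q1, hQ₃]
      rw [ha, Q_add_of_perp Q (by rw [polar_add_left, polar_add_left, p14, p24, p34, add_zero,
        add_zero]), q2, hQ₄]
      linear_combination c * h3
    have hQa0 : Q a ≠ 0 := by rw [hQa]; exact hc
    have hQ20 : Q v₂ ≠ 0 := by rw [hQ₂]; exact hc
    have pa1 : polar (⇑Q) a v₁ = 2 * c := by
      rw [ha, polar_add_left, polar_add_left, polar_add_left, polar_self', hQ₁, p21, p31, p41]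
      ring
    have pa2 : polar (⇑Q) a v₂ = 2 * c := by
      rw [ha, polar_add_left, polar_add_left, polar_add_left, polar_self', hQ₂, p12, p32, p42]
      ring
    refine ⟨reflG Q a hQa0 * reflG Q v₂ hQ20, ?_, ?_⟩
    · apply reflG_pair_mem_comm Q hQ hne
      rw [hQa, hQ₂]
    · intro hmem
      have h5 := (hmem v₁).mpr ⟨hQ₁, i₁, hv₁⟩
      have hx : ((reflG Q a hQa0 * reflG Q v₂ hQ20 : ↥(Cfsg.isometryGroup F ⇑Q)) : GL ι F).1 *ᵥ v₁ =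
          v₁ - (2 : F) • a := by
        show iact (reflG Q a hQa0 * reflG Q v₂ hQ20) v₁ = _
        rw [iact_mul, iact_reflG_of_polar Q _ hQ20 v₁ p21, iact_reflG, pa1, hQa]
        congr 2
        field_simp
      rw [hx] at h5
      obtain ⟨-, i, hi⟩ := h5
      have q1 : polar (⇑Q) (v₁ - (2 : F) • a) v₁ ≠ 0 := by
        rw [polar_sub_left, polar_smul_left, polar_self', hQ₁, pa1, smul_eq_mul]
        have : 2 * c - 2 * (2 * c) = -(2 * c) := by ring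
        rw [this]
        exact neg_ne_zero.mpr h2c
      have q2 : polar (⇑Q) (v₁ - (2 : F) • a) v₂ ≠ 0 := by
        rw [polar_sub_left, polar_smul_left, p12, pa2, smul_eq_mul]
        have : 0 - 2 * (2 * c) = -c := by linear_combination (-c) * h3
        rw [this]
        exact neg_ne_zero.mpr hc
      have s1 : i = i₁ := by
        by_contra hcon
        exact q1 (horth i i₁ hcon _ hi v₁ hv₁)
      have s2 : i = i₂ := by
        by_contra hcon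
        exact q2 (horth i i₂ hcon _ hi v₂ hv₂)
      exact h12 (s1.symm.trans s2)

end frame2

end Cfsg.Agent.helper13
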