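import Mathlib
import Cfsg.Agent.Lib_helper13_Frame2

/-! Canonical frames in nondegenerate spaces of dimension two and three over the field with three
elements. -/

set_option autoImplicit false

namespace Cfsg.Agent.helper13

open Module Matrix QuadraticMap

section frame3a
variable {F : Type*} [Field F] [Fintype F]

theorem f3_cases (hq : Fintype.card F = 3) (a : F) : a = 0 ∨ a = 1 ∨ a = -1 := by
  have h := FiniteField.pow_card a
  rw [hq] at h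
  have h1 : a * ((a - 1) * (a + 1)) = 0 := by linear_combination h
  rcases mul_eq_zero.mp h1 with h | h
  · exact Or.inl h
  · rcases mul_eq_zero.mp h with h | h
    · exact Or.inr (Or.inl (sub_eq_zero.mp h))
    · exact Or.inr (Or.inr (eq_neg_of_add_eq_zero_left h))

theorem f3_three (hq : Fintype.card F = 3) : (3 : F) = 0 := by
  have h := Nat.cast_card_eq_zero F
  rw [hq] at h
  exact_mod_cast h

theorem f3_two (hq : Fintype.card F = 3) : (2 : F) ≠ 0 := by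
  intro h
  have h3 := f3_three hq
  have : (1 : F) = 0 := by linear_combination h3 - h
  exact one_ne_zero this

end frame3a

section frame3
variable {F : Type*} [Field F] {ι : Type} [Fintype ι] [DecidableEq ι]
variable (Q : QuadraticForm F (ι → F))

theorem Q_frame2 (e₁ e₂ : ι → F) (p12 : polar (⇑Q) e₁ e₂ = 0) (x y : F) :
    Q (x • e₁ + y • e₂) = x * x * Q e₁ + y * y * Q e₂ := by
  rw [Q_add_of_perp Q (by simp only [polar_smul_left, polar_smul_right, p12, smul_zero]),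
    QuadraticMap.map_smul, QuadraticMap.map_smul, smul_eq_mul, smul_eq_mul]

theorem Q_frame3 (e₁ e₂ e₃ : ι → F) (p12 : polar (⇑Q) e₁ e₂ = 0) (p13 : polar (⇑Q) e₁ e₃ = 0)
    (p23 : polar (⇑Q) e₂ e₃ = 0) (x y z : F) :
    Q (x • e₁ + y • e₂ + z • e₃) = x * x * Q e₁ + y * y * Q e₂ + z * z * Q e₃ := by
  rw [Q_add_of_perp Q (by simp only [polar_add_left, polar_smul_left, polar_smul_right, p13, p23,
    smul_zero, add_zero]), Q_frame2 Q e₁ e₂ p12, QuadraticMap.map_smul, smul_eq_mul]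

theorem six_of_norm (hF : ∀ a : F, a = 0 ∨ a = 1 ∨ a = -1) (h3 : (3 : F) = 0) (c : F) (hc : c ≠ 0)
    (e₁ e₂ e₃ : ι → F) (q1 : Q e₁ = c) (q2 : Q e₂ = c) (q3 : Q e₃ = c)
    (p12 : polar (⇑Q) e₁ e₂ = 0) (p13 : polar (⇑Q) e₁ e₃ = 0) (p23 : polar (⇑Q) e₂ e₃ = 0)
    (x y z : F) (h : Q (x • e₁ + y • e₂ + z • e₃) = c) :
    x • e₁ + y • e₂ + z • e₃ = e₁ ∨ x • e₁ + y • e₂ + z • e₃ = -e₁ ∨
    x • e₁ + y • e₂ + z • e₃ = e₂ ∨ x • e₁ + y • e₂ + z • e₃ = -e₂ ∨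
    x • e₁ + y • e₂ + z • e₃ = e₃ ∨ x • e₁ + y • e₂ + z • e₃ = -e₃ := by
  rw [Q_frame3 Q e₁ e₂ e₃ p12 p13 p23, q1, q2, q3] at h
  have hsum : x * x + y * y + z * z = 1 := by
    apply mul_right_cancel₀ hc
    linear_combination h
  clear h
  rcases hF x with rfl | rfl | rfl <;> rcases hF y with rfl | rfl | rfl <;>
    rcases hF z with rfl | rfl | rfl <;>
  first
  | (exfalso; exact one_ne_zero (α := F) (by
      first
      | linear_combination hsum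
      | linear_combination -hsum
      | linear_combination h3 - hsum))
  | simp

theorem four_of_norm (hF : ∀ a : F, a = 0 ∨ a = 1 ∨ a = -1) (c : F) (hc : c ≠ 0)
    (e₁ e₂ : ι → F) (q1 : Q e₁ = c) (q2 : Q e₂ = c)
    (p12 : polar (⇑Q) e₁ e₂ = 0)
    (x y : F) (h : Q (x • e₁ + y • e₂) = c) :
    x • e₁ + y • e₂ = e₁ ∨ x • e₁ + y • e₂ = -e₁ ∨
    x • e₁ + y • e₂ = e₂ ∨ x • e₁ + y • e₂ = -e₂ := by
  rw [Q_frame2 Q e₁ e₂ p12, q1, q2] at h
  have hsum : x * x + y * y = 1 := by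
    apply mul_right_cancel₀ hc
    linear_combination h
  clear h
  rcases hF x with rfl | rfl | rfl <;> rcases hF y with rfl | rfl | rfl <;>
  first
  | (exfalso; exact one_ne_zero (α := F) (by
      first
      | linear_combination hsum
      | linear_combination -hsum))
  | simp

theorem fp_of_six (e₁ e₂ e₃ : ι → F)
    (p12 : polar (⇑Q) e₁ e₂ = 0) (p13 : polar (⇑Q) e₁ e₃ = 0) (p23 : polar (⇑Q) e₂ e₃ = 0)
    (s s' : ι → F)
    (hs : s = e₁ ∨ s = -e₁ ∨ s = e₂ ∨ s = -e₂ ∨ s = e₃ ∨ s = -e₃)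
    (hs' : s' = e₁ ∨ s' = -e₁ ∨ s' = e₂ ∨ s' = -e₂ ∨ s' = e₃ ∨ s' = -e₃) :
    s = s' ∨ s = -s' ∨ polar (⇑Q) s s' = 0 := by
  have p21 : polar (⇑Q) e₂ e₁ = 0 := by rw [polar_comm]; exact p12
  have p31 : polar (⇑Q) e₃ e₁ = 0 := by rw [polar_comm]; exact p13
  have p32 : polar (⇑Q) e₃ e₂ = 0 := by rw [polar_comm]; exact p23
  rcases hs with rfl | rfl | rfl | rfl | rfl | rfl <;>
    rcases hs' with rfl | rfl | rfl | rfl | rfl | rfl <;>
  simp [polar_neg_left, polar_neg_right, p12, p13, p23, p21, p31, p32]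

theorem fp_of_four (e₁ e₂ : ι → F)
    (p12 : polar (⇑Q) e₁ e₂ = 0)
    (s s' : ι → F)
    (hs : s = e₁ ∨ s = -e₁ ∨ s = e₂ ∨ s = -e₂)
    (hs' : s' = e₁ ∨ s' = -e₁ ∨ s' = e₂ ∨ s' = -e₂) :
    s = s' ∨ s = -s' ∨ polar (⇑Q) s s' = 0 := by
  have p21 : polar (⇑Q) e₂ e₁ = 0 := by rw [polar_comm]; exact p12
  rcases hs with rfl | rfl | rfl | rfl <;>
    rcases hs' with rfl | rfl | rfl | rfl <;>
  simp [polar_neg_left, polar_neg_right, p12, p21]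

/-- a block with a canonical frame of norm `c` -/
def GoodBlock (W : Submodule F (ι → F)) (c : F) : Prop :=
  (∀ s ∈ W, ∀ s' ∈ W, Q s = c → Q s' = c → s = s' ∨ s = -s' ∨ polar (⇑Q) s s' = 0) ∧
  ∃ v ∈ W, ∃ v' ∈ W, Q v = c ∧ Q v' = c ∧ polar (⇑Q) v v' = 0

theorem goodBlock_of_frame3 (hF : ∀ a : F, a = 0 ∨ a = 1 ∨ a = -1) (h3 : (3 : F) = 0)
    (W : Submodule F (ι → F)) (c : F) (hc : c ≠ 0)
    (e₁ e₂ e₃ : ι → F) (m1 : e₁ ∈ W) (m2 : e₂ ∈ W)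
    (q1 : Q e₁ = c) (q2 : Q e₂ = c) (q3 : Q e₃ = c)
    (p12 : polar (⇑Q) e₁ e₂ = 0) (p13 : polar (⇑Q) e₁ e₃ = 0) (p23 : polar (⇑Q) e₂ e₃ = 0)
    (hspan : ∀ s ∈ W, ∃ x y z : F, s = x • e₁ + y • e₂ + z • e₃) : GoodBlock Q W c := by
  refine ⟨?_, e₁, m1, e₂, m2, q1, q2, p12⟩
  intro s hs s' hs' hQs hQs'
  obtain ⟨x, y, z, rfl⟩ := hspan s hs
  obtain ⟨x', y', z', rfl⟩ := hspan s' hs'
  exact fp_of_six Q e₁ e₂ e₃ p12 p13 p23 _ _
    (six_of_norm Q hF h3 c hc e₁ e₂ e₃ q1 q2 q3 p12 p13 p23 x y z hQs)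
    (six_of_norm Q hF h3 c hc e₁ e₂ e₃ q1 q2 q3 p12 p13 p23 x' y' z' hQs')

theorem goodBlock_of_frame2 (hF : ∀ a : F, a = 0 ∨ a = 1 ∨ a = -1)
    (W : Submodule F (ι → F)) (c : F) (hc : c ≠ 0)
    (e₁ e₂ : ι → F) (m1 : e₁ ∈ W) (m2 : e₂ ∈ W)
    (q1 : Q e₁ = c) (q2 : Q e₂ = c)
    (p12 : polar (⇑Q) e₁ e₂ = 0)
    (hspan : ∀ s ∈ W, ∃ x y : F, s = x • e₁ + y • e₂) : GoodBlock Q W c := by
  refine ⟨?_, e₁, m1, e₂, m2, q1, q2, p12⟩
  intro s hs s' hs' hQs hQs'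
  obtain ⟨x, y, rfl⟩ := hspan s hs
  obtain ⟨x', y', rfl⟩ := hspan s' hs'
  exact fp_of_four Q e₁ e₂ p12 _ _
    (four_of_norm Q hF c hc e₁ e₂ q1 q2 p12 x y hQs)
    (four_of_norm Q hF c hc e₁ e₂ q1 q2 p12 x' y' hQs')

theorem goodBlock_transport (W W' : Submodule F (ι → F)) (c : F)
    (hiso : Cfsg.Geo.AreIsometricFor (⇑Q) W W') (hg : GoodBlock Q W c) : GoodBlock Q W' c := by
  obtain ⟨e, he⟩ := hiso
  have hpol : ∀ a b : W, polar (⇑Q) ((e a : W') : ι → F) ((e b : W') : ι → F) =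
      polar (⇑Q) (a : ι → F) (b : ι → F) := by
    intro a b
    have h1 : ((e (a + b) : W') : ι → F) = ((e a : W') : ι → F) + ((e b : W') : ι → F) := by
      rw [LinearEquiv.map_add, Submodule.coe_add]
    unfold polar
    rw [← h1, he, he, he, Submodule.coe_add]
  obtain ⟨hfp, v, hv, v', hv', q1, q2, p⟩ := hg
  refine ⟨?_, (e ⟨v, hv⟩ : W'), (e ⟨v, hv⟩).2, (e ⟨v', hv'⟩ : W'), (e ⟨v', hv'⟩).2, ?_, ?_, ?_⟩
  · intro s hs s' hs' hQs hQs'
    obtain ⟨a, ha⟩ : ∃ a : W, e a = ⟨s, hs⟩ := ⟨e.symm ⟨s, hs⟩, e.apply_symm_apply _⟩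
    obtain ⟨a', ha'⟩ : ∃ a' : W, e a' = ⟨s', hs'⟩ := ⟨e.symm ⟨s', hs'⟩, e.apply_symm_apply _⟩
    have hs1 : ((e a : W') : ι → F) = s := by rw [ha]
    have hs2 : ((e a' : W') : ι → F) = s' := by rw [ha']
    have hQa : Q (a : ι → F) = c := by rw [← he a, hs1]; exact hQs
    have hQa' : Q (a' : ι → F) = c := by rw [← he a', hs2]; exact hQs'
    rcases hfp a a.2 a' a'.2 hQa hQa' with h | h | h
    · left
      have : a = a' := Subtype.ext h
      rw [← hs1, ← hs2, this]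
    · right; left
      have : a = -a' := Subtype.ext (by rw [Submodule.coe_neg]; exact h)
      rw [← hs1, ← hs2, this, map_neg, Submodule.coe_neg]
    · right; right
      rw [← hs1, ← hs2, hpol]
      exact h
  · rw [he]; exact q1
  · rw [he]; exact q2
  · rw [hpol]; exact p

end frame3

end Cfsg.Agent.helper13
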