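import Mathlib
import Cfsg.Agent.Lib_helper13_Frame3

/-! Existence of canonical frames in nondegenerate blocks over the field with three elements, and
the non-maximality of the stabiliser of an orthogonal decomposition into such blocks. -/

set_option autoImplicit false

namespace Cfsg.Agent.helper13

open Module Matrix QuadraticMap

section frame4
variable {F : Type*} [Field F] {ι : Type} [Fintype ι] [DecidableEq ι]
variable (Q : QuadraticForm F (ι → F))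

theorem exists_obasis (h2 : (2 : F) ≠ 0) (W : Submodule F (ι → F)) (k : ℕ)
    (hfr : finrank F W = k) (hnd : Cfsg.Geo.IsNondegenerateOn (polar ⇑Q) W) :
    ∃ u : Fin k → (ι → F), (∀ i, u i ∈ W) ∧ (∀ i j, i ≠ j → polar (⇑Q) (u i) (u j) = 0) ∧
      (∀ i, Q (u i) ≠ 0) ∧ ∀ s ∈ W, ∃ x : Fin k → F, s = ∑ i, x i • u i := by
  subst hfr
  haveI : Invertible (2 : F) := invertibleOfNonzero h2
  have hsymm : LinearMap.IsSymm (LinearMap.BilinForm.restrict (polarBilin Q) W) := by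
    rw [LinearMap.isSymm_def]
    intro x y
    show polar (⇑Q) x y = polar (⇑Q) y x
    exact polar_comm _ _ _
  obtain ⟨v, hv⟩ := LinearMap.BilinForm.exists_orthogonal_basis hsymm
  have hsep : (LinearMap.BilinForm.restrict (polarBilin Q) W).SeparatingLeft := by
    intro x hx
    by_contra hx0
    obtain ⟨-, y, hy, hxy⟩ := hnd x x.2 (fun h => hx0 (Subtype.ext h))
    exact hxy (hx ⟨y, hy⟩)
  refine ⟨fun i => (v i : ι → F), fun i => (v i).2, ?_, ?_, ?_⟩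
  · intro i j hij
    exact hv hij
  · intro i hQi
    have := hv.not_isOrtho_basis_self_of_separatingLeft hsep i
    apply this
    show polar (⇑Q) (v i : ι → F) (v i : ι → F) = 0
    rw [polar_self', hQi, mul_zero]
  · intro s hs
    refine ⟨fun i => v.repr ⟨s, hs⟩ i, ?_⟩
    have h := congrArg (Submodule.subtype W) (v.sum_repr ⟨s, hs⟩)
    rw [map_sum] at h
    simp only [map_smul, Submodule.subtype_apply] at h
    exact h.symm

theorem exists_obasis3 (h2 : (2 : F) ≠ 0) (W : Submodule F (ι → F))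
    (hfr : finrank F W = 3) (hnd : Cfsg.Geo.IsNondegenerateOn (polar ⇑Q) W) :
    ∃ u₁ ∈ W, ∃ u₂ ∈ W, ∃ u₃ ∈ W, polar (⇑Q) u₁ u₂ = 0 ∧ polar (⇑Q) u₁ u₃ = 0 ∧
      polar (⇑Q) u₂ u₃ = 0 ∧ Q u₁ ≠ 0 ∧ Q u₂ ≠ 0 ∧ Q u₃ ≠ 0 ∧
      ∀ s ∈ W, ∃ x y z : F, s = x • u₁ + y • u₂ + z • u₃ := by
  obtain ⟨u, hm, ho, hn, hs⟩ := exists_obasis Q h2 W 3 hfr hnd
  refine ⟨u 0, hm 0, u 1, hm 1, u 2, hm 2, ho 0 1 (by decide), ho 0 2 (by decide),
    ho 1 2 (by decide), hn 0, hn 1, hn 2, ?_⟩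
  intro s hsW
  obtain ⟨x, hx⟩ := hs s hsW
  exact ⟨x 0, x 1, x 2, by rw [hx, Fin.sum_univ_three]⟩

omit [Fintype ι] [DecidableEq ι] in
theorem pm_of_f3 (hF : ∀ a : F, a = 0 ∨ a = 1 ∨ a = -1) (a b : F) (ha : a ≠ 0) (hb : b ≠ 0) :
    a = b ∨ a = -b := by
  rcases hF a with h | h | h
  · exact absurd h ha
  · rcases hF b with h' | h' | h'
    · exact absurd h' hb
    · left; rw [h, h']
    · right; rw [h, h', neg_neg]
  · rcases hF b with h' | h' | h'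
    · exact absurd h' hb
    · right; rw [h, h']
    · left; rw [h, h']

theorem goodBlock3_of_eq (hF : ∀ a : F, a = 0 ∨ a = 1 ∨ a = -1) (h3 : (3 : F) = 0)
    (W : Submodule F (ι → F)) (u₁ u₂ u₃ : ι → F) (m1 : u₁ ∈ W) (m2 : u₂ ∈ W)
    (p12 : polar (⇑Q) u₁ u₂ = 0) (p13 : polar (⇑Q) u₁ u₃ = 0) (p23 : polar (⇑Q) u₂ u₃ = 0)
    (n1 : Q u₁ ≠ 0) (n3 : Q u₃ ≠ 0) (heq : Q u₁ = Q u₂)
    (hspan : ∀ s ∈ W, ∃ x y z : F, s = x • u₁ + y • u₂ + z • u₃) :
    ∃ c : F, c ≠ 0 ∧ GoodBlock Q W c := by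
  have p21 : polar (⇑Q) u₂ u₁ = 0 := by rw [polar_comm]; exact p12
  rcases pm_of_f3 hF (Q u₃) (Q u₁) n3 n1 with h | h
  · exact ⟨Q u₁, n1, goodBlock_of_frame3 Q hF h3 W (Q u₁) n1 u₁ u₂ u₃ m1 m2 rfl heq.symm h
      p12 p13 p23 hspan⟩
  · refine ⟨Q u₃, n3, goodBlock_of_frame3 Q hF h3 W (Q u₃) n3 (u₁ + u₂) (u₁ - u₂) u₃
      (W.add_mem m1 m2) (W.sub_mem m1 m2) ?_ ?_ rfl ?_ ?_ ?_ ?_⟩
    · rw [Q_add_of_perp Q p12, ← heq, h]
      linear_combination (Q u₁) * h3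
    · rw [Q_sub_of_perp Q p12, ← heq, h]
      linear_combination (Q u₁) * h3
    · rw [polar_add_left, polar_sub_right, polar_sub_right, polar_self', polar_self', p12, p21,
        ← heq]
      ring
    · rw [polar_add_left, p13, p23, add_zero]
    · rw [polar_sub_left, p13, p23, sub_zero]
    · intro s hs
      obtain ⟨x, y, z, rfl⟩ := hspan s hs
      refine ⟨-(x + y), -(x - y), z, ?_⟩
      ext i
      simp only [Pi.add_apply, Pi.smul_apply, Pi.sub_apply, smul_eq_mul]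
      linear_combination (x * u₁ i + y * u₂ i) * h3

theorem exists_goodBlock3 (hF : ∀ a : F, a = 0 ∨ a = 1 ∨ a = -1) (h2 : (2 : F) ≠ 0)
    (h3 : (3 : F) = 0) (W : Submodule F (ι → F)) (hfr : finrank F W = 3)
    (hnd : Cfsg.Geo.IsNondegenerateOn (polar ⇑Q) W) :
    ∃ c : F, c ≠ 0 ∧ GoodBlock Q W c := by
  obtain ⟨u₁, m1, u₂, m2, u₃, m3, p12, p13, p23, n1, n2, n3, hspan⟩ :=
    exists_obasis3 Q h2 W hfr hnd
  have p21 : polar (⇑Q) u₂ u₁ = 0 := by rw [polar_comm]; exact p12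
  have p31 : polar (⇑Q) u₃ u₁ = 0 := by rw [polar_comm]; exact p13
  have p32 : polar (⇑Q) u₃ u₂ = 0 := by rw [polar_comm]; exact p23
  by_cases h12 : Q u₁ = Q u₂
  · exact goodBlock3_of_eq Q hF h3 W u₁ u₂ u₃ m1 m2 p12 p13 p23 n1 n3 h12 hspan
  · by_cases h13 : Q u₁ = Q u₃
    · refine goodBlock3_of_eq Q hF h3 W u₁ u₃ u₂ m1 m3 p13 p12 p32 n1 n2 h13 ?_
      intro s hs
      obtain ⟨x, y, z, rfl⟩ := hspan s hs
      exact ⟨x, z, y, by abel⟩
    · have e2 : Q u₁ = -Q u₂ := (pm_of_f3 hF _ _ n1 n2).resolve_left h12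
      have e3 : Q u₁ = -Q u₃ := (pm_of_f3 hF _ _ n1 n3).resolve_left h13
      have h23 : Q u₂ = Q u₃ := neg_injective (e2.symm.trans e3)
      refine goodBlock3_of_eq Q hF h3 W u₂ u₃ u₁ m2 m3 p23 p21 p31 n2 n1 h23 ?_
      intro s hs
      obtain ⟨x, y, z, rfl⟩ := hspan s hs
      exact ⟨y, z, x, by abel⟩

theorem exists_goodBlock2 (hF : ∀ a : F, a = 0 ∨ a = 1 ∨ a = -1) (h2 : (2 : F) ≠ 0)
    (W : Submodule F (ι → F)) (hfr : finrank F W = 2)
    (hnd : Cfsg.Geo.IsNondegenerateOn (polar ⇑Q) W)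
    (hplus : ¬ Cfsg.Geo.IsPlusTypeOn (⇑Q) W) :
    ∃ c : F, c ≠ 0 ∧ GoodBlock Q W c := by
  obtain ⟨u, hm, ho, hn, hs⟩ := exists_obasis Q h2 W 2 hfr hnd
  have p12 := ho 0 1 (by decide)
  have p21 := ho 1 0 (by decide)
  have hspan : ∀ s ∈ W, ∃ x y : F, s = x • u 0 + y • u 1 := by
    intro s hsW
    obtain ⟨x, hx⟩ := hs s hsW
    exact ⟨x 0, x 1, by rw [hx, Fin.sum_univ_two]⟩
  have heq : Q (u 0) = Q (u 1) := by
    by_contra hne
    have e2 : Q (u 0) = -Q (u 1) := (pm_of_f3 hF _ _ (hn 0) (hn 1)).resolve_left hne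
    apply hplus
    have hw0 : Q (u 0 + u 1) = 0 := by
      rw [Q_add_of_perp Q p12, e2]
      ring
    have hwne : u 0 + u 1 ≠ 0 := by
      intro h
      have h5 : polar (⇑Q) (u 0 + u 1) (u 0) = 2 * Q (u 0) := by
        rw [polar_add_left, polar_self', p21, add_zero]
      rw [h, polar_zero_left] at h5
      exact (mul_ne_zero h2 (hn 0)) h5.symm
    refine ⟨F ∙ (u 0 + u 1), ?_, ?_, ?_⟩
    · rw [Submodule.span_singleton_le_iff_mem]
      exact W.add_mem (hm 0) (hm 1)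
    · intro w hw
      obtain ⟨a, rfl⟩ := Submodule.mem_span_singleton.mp hw
      rw [QuadraticMap.map_smul, hw0, smul_zero]
    · rw [finrank_span_singleton hwne, hfr]
  exact ⟨Q (u 0), hn 0, goodBlock_of_frame2 Q hF W _ (hn 0) (u 0) (u 1) (hm 0) (hm 1) rfl
    heq.symm p12 hspan⟩

theorem decomp_card {t k : ℕ} (D : Fin t → Submodule F (ι → F))
    (hD : Cfsg.Geo.IsMDecomposition k D) : t * k = Fintype.card ι := by
  classical
  have hint := DirectSum.isInternal_submodule_of_iSupIndep_of_iSup_eq_top hD.indep hD.iSup_eq_top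
  have b := hint.collectedBasis
    (fun l => Module.finBasisOfFinrankEq F (D l) (hD.finrank_eq l))
  have h1 := Module.finrank_eq_card_basis b
  rw [Module.finrank_fintype_fun_eq_card] at h1
  simp at h1
  omega

theorem decomp_frame_not_max [Fintype F] (hq : Fintype.card F = 3)
    (hQ : (polarBilin Q).Nondegenerate) {t : ℕ}
    (D : Fin t → Submodule F (ι → F)) (k : ℕ) (hk : k = 2 ∨ k = 3)
    (hD : Cfsg.Geo.IsOrthogonalMDecomposition (⇑Q) k D) (ht : 4 ≤ t)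
    (hplus : k = 2 → ∀ i, ¬ Cfsg.Geo.IsPlusTypeOn (⇑Q) (D i)) :
    ∃ K : Subgroup (GL ι F), Cfsg.Geo.decompositionStabilizer D ⊓ Cfsg.Geo.omegaGL ⇑Q < K ∧
      K < Cfsg.Geo.omegaGL ⇑Q := by
  have hF := f3_cases hq
  have h3 := f3_three hq
  have h2 := f3_two hq
  obtain ⟨c, hc, hg1⟩ : ∃ c : F, c ≠ 0 ∧ GoodBlock Q (D ⟨0, by omega⟩) c := by
    rcases hk with rfl | rfl
    · exact exists_goodBlock2 Q hF h2 _ (hD.decomp.decomp.finrank_eq _)
        (hD.decomp.nondegenerate _) (hplus rfl _)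
    · exact exists_goodBlock3 Q hF h2 h3 _ (hD.decomp.decomp.finrank_eq _)
        (hD.decomp.nondegenerate _)
  have hg : ∀ i, GoodBlock Q (D i) c := fun i =>
    goodBlock_transport Q _ _ c (hD.isometric _ i) hg1
  obtain ⟨v₁, hv₁, v₁', hv₁', q1, q1', hp⟩ := (hg ⟨0, by omega⟩).2
  obtain ⟨v₂, hv₂, -, -, q2, -, -⟩ := (hg ⟨1, by omega⟩).2
  obtain ⟨v₃, hv₃, -, -, q3, -, -⟩ := (hg ⟨2, by omega⟩).2
  obtain ⟨v₄, hv₄, -, -, q4, -, -⟩ := (hg ⟨3, by omega⟩).2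
  exact frame_not_max Q h2 h3 hQ (Or.inl (by rw [hq]; norm_num)) D c hc
    (fun i j hij u hu v hv => hD.decomp.orthogonal i j hij u hu v hv) (fun i => (hg i).1)
    ⟨0, by omega⟩ ⟨1, by omega⟩ ⟨2, by omega⟩ ⟨3, by omega⟩
    (by simp) (by simp) (by simp) (by simp) (by simp) (by simp)
    v₁ v₂ v₃ v₄ v₁' hv₁ hv₂ hv₃ hv₄ hv₁' q1 q2 q3 q4 q1' hp

end frame4

end Cfsg.Agent.helper13
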