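-- Statement S2636: cosets modulo scalars fixed by a field automorphism in GL_n.
import Cfsg.Statements.S2636

set_option autoImplicit false
open Cfsg

namespace Cfsg.Agent.S2636

open Module Matrix

section aux
variable {F : Type*} [Field F] [Fintype F]

/-- The fixed field of a field automorphism. -/
noncomputable def fixF (σ : F ≃+* F) : Subfield F :=
  FixedPoints.subfield (Subgroup.zpowers (σ : RingAut F)) F

theorem mem_fixF (σ : F ≃+* F) (a : F) : a ∈ fixF σ ↔ σ a = a := by
  change a ∈ MulAction.fixedPoints (Subgroup.zpowers (σ : RingAut F)) F ↔ _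
  rw [MulAction.mem_fixedPoints]
  constructor
  · intro h
    exact h ⟨σ, Subgroup.mem_zpowers σ⟩
  · intro h m
    have hle : Subgroup.zpowers (σ : RingAut F) ≤ MulAction.stabilizer (RingAut F) a := by
      rw [Subgroup.zpowers_le, MulAction.mem_stabilizer_iff]
      exact h
    have := hle m.2
    rw [MulAction.mem_stabilizer_iff] at this
    exact this

theorem card_fixF (σ : F ≃+* F) {q₀ r : ℕ} (hr : r.Prime) (hF : Fintype.card F = q₀ ^ r)
    (hσ : orderOf σ = r) : Nat.card (fixF σ) = q₀ := by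
  haveI : Finite (RingAut F) :=
    Finite.of_injective (fun e : F ≃+* F => (e : F → F)) DFunLike.coe_injective
  haveI : Fintype (Subgroup.zpowers (σ : RingAut F)) := Fintype.ofFinite _
  have h1 := FixedPoints.finrank_eq_card (Subgroup.zpowers (σ : RingAut F)) F
  rw [← Nat.card_eq_fintype_card, Nat.card_zpowers] at h1
  have h2 := Module.natCard_eq_pow_finrank (K := fixF σ) (V := F)
  unfold fixF at h2 ⊢
  rw [h1, Nat.card_eq_fintype_card, hF] at h2
  have hσ' : orderOf (σ : RingAut F) = r := hσ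
  rw [hσ'] at h2
  exact (Nat.pow_left_injective hr.pos.ne' h2).symm

variable {n : ℕ}

/-- Scalars times matrices over the fixed field. -/
noncomputable def psi (σ : F ≃+* F) (n : ℕ) : Fˣ × GL (Fin n) (fixF σ) →* GL (Fin n) F where
  toFun p := Matrix.GeneralLinearGroup.scalar (Fin n) p.1 *
    Matrix.GeneralLinearGroup.map (fixF σ).subtype p.2
  map_one' := by simp
  map_mul' a b := by
    simp only [Prod.fst_mul, Prod.snd_mul, map_mul]
    rw [mul_assoc, mul_assoc]
    congr 1
    rw [← mul_assoc, Matrix.GeneralLinearGroup.scalar_commute, mul_assoc]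

theorem psi_coe (σ : F ≃+* F) (p : Fˣ × GL (Fin n) (fixF σ)) (k l : Fin n) :
    ((psi σ n p : GL (Fin n) F) : Matrix (Fin n) (Fin n) F) k l = (p.1 : F) * ((p.2 k l : fixF σ) : F) := by
  change ((Matrix.GeneralLinearGroup.scalar (Fin n) p.1 *
    Matrix.GeneralLinearGroup.map (fixF σ).subtype p.2 : GL (Fin n) F) :
      Matrix (Fin n) (Fin n) F) k l = _
  rw [Units.val_mul, Matrix.GeneralLinearGroup.coe_scalar, Matrix.scalar_apply,
    ← Matrix.smul_eq_diagonal_mul, Matrix.smul_apply, smul_eq_mul]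
  rfl

theorem mem_range_iff (σ : F ≃+* F) (hn : 1 ≤ n) (g : GL (Fin n) F) :
    g ∈ (psi σ n).range ↔ ∃ c : F, c ≠ 0 ∧
      (g : Matrix (Fin n) (Fin n) F).map σ = c • (g : Matrix (Fin n) (Fin n) F) := by
  haveI : NeZero n := ⟨by omega⟩
  constructor
  · rintro ⟨p, rfl⟩
    refine ⟨σ (p.1 : F) / (p.1 : F), div_ne_zero ?_ (Units.ne_zero p.1), ?_⟩
    · exact (map_ne_zero_iff σ σ.injective).mpr (Units.ne_zero p.1)
    · ext k l
      rw [Matrix.map_apply, Matrix.smul_apply, psi_coe, map_mul, smul_eq_mul,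
        (mem_fixF σ _).mp (p.2 k l).2]
      have := Units.ne_zero p.1
      field_simp
  · rintro ⟨c, hc0, hc⟩
    have hex : ∃ i j, (g : Matrix (Fin n) (Fin n) F) i j ≠ 0 := by
      by_contra hcon
      push Not at hcon
      have h0 : (g : Matrix (Fin n) (Fin n) F) = 0 := by
        ext i j; exact hcon i j
      have h1 := congrFun (congrFun (Matrix.GeneralLinearGroup.coe_mul g g⁻¹) 0) 0
      rw [mul_inv_cancel, h0, zero_mul] at h1
      simp at h1
    obtain ⟨i, j, hij⟩ := hex
    have hent : ∀ k l, σ ((g : Matrix (Fin n) (Fin n) F) k l) =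
        c * (g : Matrix (Fin n) (Fin n) F) k l := by
      intro k l
      have := congrFun (congrFun hc k) l
      rw [Matrix.map_apply, Matrix.smul_apply, smul_eq_mul] at this
      exact this
    have hfix : ∀ k l, ((g : Matrix (Fin n) (Fin n) F) i j)⁻¹ *
        (g : Matrix (Fin n) (Fin n) F) k l ∈ fixF σ := by
      intro k l
      rw [mem_fixF, map_mul, map_inv₀, hent, hent]
      field_simp
    let h₀ : Matrix (Fin n) (Fin n) (fixF σ) := fun k l =>
      ⟨((g : Matrix (Fin n) (Fin n) F) i j)⁻¹ * (g : Matrix (Fin n) (Fin n) F) k l, hfix k l⟩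
    have hmap : h₀.map (fixF σ).subtype =
        ((g : Matrix (Fin n) (Fin n) F) i j)⁻¹ • (g : Matrix (Fin n) (Fin n) F) := by
      ext k l
      rfl
    have hdet : h₀.det ≠ 0 := by
      intro h0
      have h1 := RingHom.map_det (fixF σ).subtype h₀
      rw [h0, map_zero, RingHom.mapMatrix_apply, hmap, Matrix.det_smul] at h1
      have h2 : (g : Matrix (Fin n) (Fin n) F).det ≠ 0 :=
        Matrix.GeneralLinearGroup.det_ne_zero g
      have h3 : (((g : Matrix (Fin n) (Fin n) F) i j)⁻¹) ^ Fintype.card (Fin n) ≠ 0 :=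
        pow_ne_zero _ (inv_ne_zero hij)
      exact mul_ne_zero h3 h2 h1.symm
    refine ⟨(Units.mk0 _ hij, Matrix.GeneralLinearGroup.mkOfDetNeZero h₀ hdet), ?_⟩
    apply Units.ext
    ext k l
    rw [psi_coe]
    change (g : Matrix (Fin n) (Fin n) F) i j *
      (((g : Matrix (Fin n) (Fin n) F) i j)⁻¹ * (g : Matrix (Fin n) (Fin n) F) k l) = _
    field_simp

theorem card_ker (σ : F ≃+* F) (hn : 1 ≤ n) :
    Nat.card (psi σ n).ker = Nat.card (fixF σ) - 1 := by
  haveI : NeZero n := ⟨by omega⟩
  rw [← Nat.card_units (fixF σ)]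
  symm
  have hmem : ∀ μ : (fixF σ)ˣ, ((Units.map ((fixF σ).subtype : fixF σ →* F) μ)⁻¹,
      Matrix.GeneralLinearGroup.scalar (Fin n) μ) ∈ (psi σ n).ker := by
    intro μ
    rw [MonoidHom.mem_ker]
    change Matrix.GeneralLinearGroup.scalar (Fin n) (Units.map ((fixF σ).subtype : fixF σ →* F) μ)⁻¹ *
      Matrix.GeneralLinearGroup.map (fixF σ).subtype (Matrix.GeneralLinearGroup.scalar (Fin n) μ) = 1
    rw [Matrix.GeneralLinearGroup.map_scalar, ← map_mul]
    have : (Units.map ((fixF σ).subtype : fixF σ →* F) μ)⁻¹ * Units.map (fixF σ).subtype μ = 1 :=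
      inv_mul_cancel _
    rw [this, map_one]
  apply Nat.card_eq_of_bijective (fun μ : (fixF σ)ˣ => (⟨_, hmem μ⟩ : (psi σ n).ker))
  constructor
  · intro μ μ' h
    have h1 := congrArg (fun x : (psi σ n).ker => ((x.1.2 : GL (Fin n) (fixF σ)) :
      Matrix (Fin n) (Fin n) (fixF σ)) 0 0) h
    simp only [Matrix.GeneralLinearGroup.coe_scalar, Matrix.scalar_apply,
      Matrix.diagonal_apply_eq] at h1
    exact Units.ext h1
  · rintro ⟨⟨l, h⟩, hk⟩
    rw [MonoidHom.mem_ker] at hk
    have hent : ∀ k m : Fin n, (l : F) * ((h k m : fixF σ) : F) = if k = m then 1 else 0 := by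
      intro k m
      rw [← psi_coe σ (l, h) k m, hk]
      rfl
    have h00 : (l : F) * ((h 0 0 : fixF σ) : F) = 1 := by rw [hent]; simp
    have hne : (h 0 0 : fixF σ) ≠ 0 := by
      intro h0
      rw [h0] at h00
      simp at h00
    refine ⟨Units.mk0 _ hne, ?_⟩
    apply Subtype.ext
    apply Prod.ext
    · apply Units.ext
      change (((h 0 0 : fixF σ) : F))⁻¹ = (l : F)
      exact (eq_inv_of_mul_eq_one_left h00).symm
    · apply Units.ext
      ext k m
      change ((Matrix.scalar (Fin n) (h 0 0 : fixF σ)) k m : F) = ((h k m : fixF σ) : F)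
      have hl : (l : F) ≠ 0 := Units.ne_zero l
      apply mul_left_cancel₀ hl
      rw [hent, Matrix.scalar_apply, Matrix.diagonal_apply]
      split_ifs
      · exact h00
      · simp

end aux

/-- Centraliser of a field automorphism in PGL_n: let F be the field with q = q₀^r elements, σ a field automorphism of F of prime order r (so its fixed field has q₀ elements) and n ≥ 1. The invertible matrices g whose entrywise image under σ is a scalar multiple of g — those whose coset modulo scalars is fixed by σ — number (q − 1)/(q₀ − 1) · |GL_n(q₀)|; equivalently the centraliser in PGL_n(q) of the induced automorphism has the order of PGL_n(q₀). -/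
theorem result {F : Type*} [Field F] [Fintype F] {q₀ r n : ℕ} (hr : r.Prime) (hn : 1 ≤ n) (hF : Fintype.card F = q₀ ^ r) (σ : F ≃+* F) (hσ : orderOf σ = r) : Nat.card {g : GL (Fin n) F // ∃ c : F, c ≠ 0 ∧ (g : Matrix (Fin n) (Fin n) F).map σ = c • (g : Matrix (Fin n) (Fin n) F)} = (q₀ ^ r - 1) / (q₀ - 1) * ∏ i : Fin n, (q₀ ^ n - q₀ ^ (i : ℕ)) := by
  have hq0 : Nat.card (fixF σ) = q₀ := card_fixF σ hr hF hσ
  have h2 : 2 ≤ q₀ := by
    rw [← hq0]; exact Finite.one_lt_card (α := fixF σ)
  haveI : Fintype (fixF σ) := Fintype.ofFinite _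
  have hcardS : Nat.card {g : GL (Fin n) F // ∃ c : F, c ≠ 0 ∧
      (g : Matrix (Fin n) (Fin n) F).map σ = c • (g : Matrix (Fin n) (Fin n) F)} =
      Nat.card (psi σ n).range :=
    Nat.card_congr (Equiv.subtypeEquivRight (fun g => (mem_range_iff σ hn g).symm))
  have h3 := Subgroup.card_mul_index (psi σ n).ker
  rw [Subgroup.index_ker, card_ker σ hn, hq0, Nat.card_prod, Nat.card_units, Matrix.card_GL_field,
    Nat.card_eq_fintype_card (α := F), hF, ← Nat.card_eq_fintype_card (α := fixF σ), hq0] at h3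
  rw [hcardS]
  obtain ⟨k, hk⟩ : q₀ - 1 ∣ q₀ ^ r - 1 := by simpa only [one_pow] using Nat.sub_dvd_pow_sub_pow q₀ 1 r
  rw [hk, Nat.mul_div_cancel_left k (by omega)]
  rw [hk, mul_assoc] at h3
  exact Nat.eq_of_mul_eq_mul_left (by omega) h3

end Cfsg.Agent.S2636
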