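import Mathlib
import Cfsg.Agent.S2636
import Cfsg.Agent.S0277

/-! Unitary matrices whose class modulo scalars is fixed by a field automorphism of odd order. -/

set_option autoImplicit false

namespace Cfsg.Agent.helper13

open Matrix Cfsg.Agent.S2636 Cfsg.Agent.helper11.HermCount

section gram
variable {F : Type*} [Field F] {n : ℕ}

/-- Gram matrix of the standard Hermitian form on the columns of `A`. -/
def gramH (q : ℕ) (A : Matrix (Fin n) (Fin n) F) (i j : Fin n) : F := ∑ k, A k i * (A k j) ^ q

theorem preserves_iff_gram [Fintype F] {q : ℕ} (hF : Fintype.card F = q ^ 2)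
    (A : Matrix (Fin n) (Fin n) F) :
    (∀ u v, Cfsg.hermForm n F q (A *ᵥ u) (A *ᵥ v) = Cfsg.hermForm n F q u v) ↔
      ∀ i j, gramH q A i j = if i = j then 1 else 0 := by
  have hq : q ≠ 0 := by have := two_le_q hF; omega
  constructor
  · intro h i j
    have := h (Pi.single i 1) (Pi.single j 1)
    unfold Cfsg.hermForm at this
    rw [Matrix.mulVec_single_one, Matrix.mulVec_single_one] at this
    unfold gramH
    rw [show (∑ k, A k i * A k j ^ q) = ∑ k, A.col i k * A.col j k ^ q from rfl, this]
    by_cases hij : i = j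
    · subst hij
      rw [if_pos rfl, Finset.sum_eq_single i]
      · simp
      · intro k _ hk
        simp [Pi.single_apply, hk]
      · intro hi
        exact absurd (Finset.mem_univ _) hi
    · rw [if_neg hij]
      apply Finset.sum_eq_zero
      intro k _
      by_cases hk : k = i
      · subst hk
        simp [Pi.single_apply, hij, hq]
      · simp [Pi.single_apply, hk]
  · intro h u v
    unfold Cfsg.hermForm
    have e1 : ∀ k, (A *ᵥ v) k ^ q = ∑ j, A k j ^ q * v j ^ q := by
      intro k
      show (∑ j, A k j * v j) ^ q = _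
      rw [sum_pow_q hF]
      exact Finset.sum_congr rfl (fun j _ => mul_pow _ _ _)
    calc ∑ k, (A *ᵥ u) k * (A *ᵥ v) k ^ q
        = ∑ k, ∑ i, ∑ j, (A k i * u i) * (A k j ^ q * v j ^ q) := by
          apply Finset.sum_congr rfl
          intro k _
          rw [e1 k]
          show (∑ i, A k i * u i) * _ = _
          rw [Finset.sum_mul_sum]
      _ = ∑ i, ∑ j, (u i * v j ^ q) * gramH q A i j := by
          rw [Finset.sum_comm]
          apply Finset.sum_congr rfl
          intro i _
          rw [Finset.sum_comm]
          apply Finset.sum_congr rfl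
          intro j _
          unfold gramH
          rw [Finset.mul_sum]
          apply Finset.sum_congr rfl
          intro k _
          ring
      _ = ∑ i, u i * v i ^ q := by
          apply Finset.sum_congr rfl
          intro i _
          simp only [h, mul_ite, mul_one, mul_zero]
          rw [Finset.sum_ite_eq]
          simp

theorem gramH_map {F₀ : Type*} [Field F₀] (f : F₀ →+* F) {q₀ q : ℕ}
    (hfr : ∀ x : F₀, (f x) ^ q = f (x ^ q₀)) (H : Matrix (Fin n) (Fin n) F₀) (i j : Fin n) :
    gramH q (H.map f) i j = f (gramH q₀ H i j) := by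
  unfold gramH
  rw [map_sum]
  apply Finset.sum_congr rfl
  intro k _
  rw [Matrix.map_apply, Matrix.map_apply, hfr, map_mul]

theorem gramH_smul (q : ℕ) (c : F) (A : Matrix (Fin n) (Fin n) F) (i j : Fin n) :
    gramH q (c • A) i j = c ^ (q + 1) * gramH q A i j := by
  unfold gramH
  rw [Finset.mul_sum]
  apply Finset.sum_congr rfl
  intro k _
  rw [Matrix.smul_apply, Matrix.smul_apply, smul_eq_mul, smul_eq_mul]
  ring

theorem gramH_one (q : ℕ) (hq : q ≠ 0) (i j : Fin n) :
    gramH q (1 : Matrix (Fin n) (Fin n) F) i j = if i = j then 1 else 0 := by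
  unfold gramH
  by_cases hij : i = j
  · subst hij
    rw [if_pos rfl, Finset.sum_eq_single i]
    · simp
    · intro k _ hk
      simp [Matrix.one_apply, hk]
    · intro hi
      exact absurd (Finset.mem_univ _) hi
  · rw [if_neg hij]
    apply Finset.sum_eq_zero
    intro k _
    by_cases hk : k = i
    · subst hk
      simp [Matrix.one_apply, hij, hq]
    · simp [Matrix.one_apply, hk]

theorem gramH_diag_frob [Fintype F] {q : ℕ} (hF : Fintype.card F = q ^ 2)
    (A : Matrix (Fin n) (Fin n) F) (i : Fin n) : (gramH q A i i) ^ q = gramH q A i i := by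
  unfold gramH
  rw [sum_pow_q hF]
  apply Finset.sum_congr rfl
  intro k _
  rw [mul_pow, pow_q_q hF, mul_comm]

theorem frob_sub [Fintype F] {q₀ r : ℕ} (hF : Fintype.card F = q₀ ^ 2) (hr : Odd r) (x : F) :
    x ^ (q₀ ^ r) = x ^ q₀ := by
  obtain ⟨s, rfl⟩ := hr
  rw [pow_succ, pow_mul q₀ 2 s, ← hF, pow_mul x, FiniteField.pow_card_pow]

end gram

end Cfsg.Agent.helper13
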