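import Mathlib
import Cfsg.Agent.Lib_helper13_GUField

/-! Unitary matrices whose class modulo scalars is fixed by a field automorphism of odd order:
the count. -/

set_option autoImplicit false
set_option linter.unusedSectionVars false

namespace Cfsg.Agent.helper13

open Matrix Cfsg.Agent.S2636 Cfsg.Agent.helper11.HermCount

section guField
variable {K : Type*} [Field K] [Fintype K] (σ : K ≃+* K) {n : ℕ} {q₀ q : ℕ}
variable [Fintype ↥(fixF σ)]

/-- the scalars of norm one times the unitary group over the fixed field -/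
noncomputable def guP (n q₀ q : ℕ) : Subgroup (Kˣ × GL (Fin n) ↥(fixF σ)) :=
  ((powMonoidHom (q + 1) : Kˣ →* Kˣ).ker).prod (Cfsg.GU n ↥(fixF σ) q₀)

omit [Fintype ↥(fixF σ)] in
theorem mem_guP (p : Kˣ × GL (Fin n) ↥(fixF σ)) :
    p ∈ guP σ n q₀ q ↔ p.1 ^ (q + 1) = 1 ∧ p.2 ∈ Cfsg.GU n ↥(fixF σ) q₀ := by
  unfold guP
  rw [Subgroup.mem_prod, MonoidHom.mem_ker, powMonoidHom_apply]

omit [Fintype ↥(fixF σ)] in
theorem psi_mat (p : Kˣ × GL (Fin n) ↥(fixF σ)) :
    ((psi σ n p : GL (Fin n) K) : Matrix (Fin n) (Fin n) K) =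
      (p.1 : K) • ((p.2 : Matrix (Fin n) (Fin n) ↥(fixF σ)).map (fixF σ).subtype) := by
  ext k l
  rw [psi_coe, Matrix.smul_apply, Matrix.map_apply, smul_eq_mul]
  rfl

omit [Fintype ↥(fixF σ)] in
theorem psi_scal_eq_one (ν : (↥(fixF σ))ˣ) :
    psi σ n ((Units.map ((fixF σ).subtype : ↥(fixF σ) →* K) ν)⁻¹,
      Matrix.GeneralLinearGroup.scalar (Fin n) ν) = 1 := by
  change Matrix.GeneralLinearGroup.scalar (Fin n)
      (Units.map ((fixF σ).subtype : ↥(fixF σ) →* K) ν)⁻¹ *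
    Matrix.GeneralLinearGroup.map (fixF σ).subtype (Matrix.GeneralLinearGroup.scalar (Fin n) ν) = 1
  rw [Matrix.GeneralLinearGroup.map_scalar, ← map_mul]
  have : (Units.map ((fixF σ).subtype : ↥(fixF σ) →* K) ν)⁻¹ * Units.map (fixF σ).subtype ν = 1 :=
    inv_mul_cancel _
  rw [this, map_one]

theorem mem_GU_iff_gram {F : Type*} [Field F] [Fintype F] {q : ℕ} (hF : Fintype.card F = q ^ 2)
    (g : GL (Fin n) F) :
    g ∈ Cfsg.GU n F q ↔ ∀ i j, gramH q (g : Matrix (Fin n) (Fin n) F) i j = if i = j then 1 else 0 :=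
  preserves_iff_gram hF _

theorem scalar_mem_GU (hK₀ : Fintype.card ↥(fixF σ) = q₀ ^ 2) (ν : (↥(fixF σ))ˣ)
    (hν : ν ^ (q₀ + 1) = 1) :
    Matrix.GeneralLinearGroup.scalar (Fin n) ν ∈ Cfsg.GU n ↥(fixF σ) q₀ := by
  rw [mem_GU_iff_gram hK₀]
  intro i j
  have hq : q₀ ≠ 0 := by have := two_le_q hK₀; omega
  rw [Matrix.GeneralLinearGroup.coe_scalar, Matrix.scalar_apply, ← Matrix.smul_one_eq_diagonal,
    gramH_smul, gramH_one q₀ hq, ← Units.val_pow_eq_pow_val, hν, Units.val_one, one_mul]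

/-- the image of `guP` lies in the unitary group -/
theorem psi_mem_GU (hK : Fintype.card K = q ^ 2) (hK₀ : Fintype.card ↥(fixF σ) = q₀ ^ 2)
    (hfr : ∀ x : ↥(fixF σ), ((fixF σ).subtype x) ^ q = (fixF σ).subtype (x ^ q₀))
    (p : Kˣ × GL (Fin n) ↥(fixF σ)) (hp : p ∈ guP σ n q₀ q) : psi σ n p ∈ Cfsg.GU n K q := by
  rw [mem_guP] at hp
  rw [mem_GU_iff_gram hK, psi_mat]
  intro i j
  rw [gramH_smul, gramH_map (fixF σ).subtype hfr, (mem_GU_iff_gram hK₀ p.2).mp hp.2,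
    ← Units.val_pow_eq_pow_val, hp.1, Units.val_one, one_mul]
  split_ifs
  · exact map_one _
  · exact map_zero _

/-- every unitary matrix in the range of `psi` comes from `guP` -/
theorem exists_preimage (hn : 1 ≤ n) (hK : Fintype.card K = q ^ 2)
    (hK₀ : Fintype.card ↥(fixF σ) = q₀ ^ 2)
    (hfr : ∀ x : ↥(fixF σ), ((fixF σ).subtype x) ^ q = (fixF σ).subtype (x ^ q₀))
    (p : Kˣ × GL (Fin n) ↥(fixF σ)) (hp : psi σ n p ∈ Cfsg.GU n K q) :
    ∃ p' ∈ guP σ n q₀ q, psi σ n p' = psi σ n p := by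
  haveI : NeZero n := ⟨by omega⟩
  have h2 := two_le_q hK₀
  rw [mem_GU_iff_gram hK, psi_mat] at hp
  have hg : ∀ i j, (p.1 : K) ^ (q + 1) * (fixF σ).subtype (gramH q₀
      (p.2 : Matrix (Fin n) (Fin n) ↥(fixF σ)) i j) = if i = j then 1 else 0 := by
    intro i j
    rw [← gramH_map (fixF σ).subtype hfr, ← gramH_smul]
    exact hp i j
  obtain ⟨μ₀, hμ₀⟩ : ∃ μ₀ : ↥(fixF σ), μ₀ = gramH q₀
      (p.2 : Matrix (Fin n) (Fin n) ↥(fixF σ)) 0 0 := ⟨_, rfl⟩
  have h00 : (p.1 : K) ^ (q + 1) * (fixF σ).subtype μ₀ = 1 := by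
    rw [hμ₀]
    have := hg 0 0
    rwa [if_pos rfl] at this
  have hμne : μ₀ ≠ 0 := by
    rintro rfl
    rw [map_zero, mul_zero] at h00
    exact zero_ne_one h00
  have hμfr : μ₀ ^ q₀ = μ₀ := by
    rw [hμ₀]
    exact gramH_diag_frob hK₀ _ 0
  have hμu : (Units.mk0 μ₀ hμne) ^ (q₀ - 1) = 1 := by
    apply Units.ext
    rw [Units.val_pow_eq_pow_val, Units.val_mk0, Units.val_one]
    have : μ₀ ^ (q₀ - 1) * μ₀ = 1 * μ₀ := by
      rw [← pow_succ, Nat.sub_add_cancel (by omega), hμfr, one_mul]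
    exact mul_right_cancel₀ hμne this
  obtain ⟨ν, hν⟩ := exists_norm_eq hK₀ (Units.mk0 μ₀ hμne) hμu
  have hνval : (ν : ↥(fixF σ)) ^ (q₀ + 1) = μ₀ := by
    have := congrArg Units.val hν
    rwa [Units.val_pow_eq_pow_val, Units.val_mk0] at this
  -- the Gram matrix of the second component
  have hgram : ∀ i j, gramH q₀ (p.2 : Matrix (Fin n) (Fin n) ↥(fixF σ)) i j =
      if i = j then μ₀ else 0 := by
    intro i j
    apply (fixF σ).subtype.injective
    have h1 := hg i j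
    have h3 : (fixF σ).subtype (gramH q₀ (p.2 : Matrix (Fin n) (Fin n) ↥(fixF σ)) i j) =
        (fixF σ).subtype μ₀ * ((p.1 : K) ^ (q + 1) * (fixF σ).subtype (gramH q₀
          (p.2 : Matrix (Fin n) (Fin n) ↥(fixF σ)) i j)) := by
      rw [← mul_assoc, mul_comm ((fixF σ).subtype μ₀), h00, one_mul]
    rw [h3, h1]
    split_ifs
    · rw [mul_one]
    · rw [mul_zero, map_zero]
  refine ⟨p * (Units.map ((fixF σ).subtype : ↥(fixF σ) →* K) ν,
    Matrix.GeneralLinearGroup.scalar (Fin n) ν⁻¹), ?_, ?_⟩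
  · rw [mem_guP]
    constructor
    · show (p.1 * Units.map ((fixF σ).subtype : ↥(fixF σ) →* K) ν) ^ (q + 1) = 1
      apply Units.ext
      rw [Units.val_pow_eq_pow_val, Units.val_mul, mul_pow, Units.val_one]
      have : ((Units.map ((fixF σ).subtype : ↥(fixF σ) →* K) ν : Kˣ) : K) ^ (q + 1) =
          (fixF σ).subtype μ₀ := by
        show ((fixF σ).subtype (ν : ↥(fixF σ))) ^ (q + 1) = _
        rw [pow_succ, hfr, ← map_mul, ← pow_succ, hνval]
      rw [this, h00]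
    · show p.2 * Matrix.GeneralLinearGroup.scalar (Fin n) ν⁻¹ ∈ Cfsg.GU n ↥(fixF σ) q₀
      rw [mem_GU_iff_gram hK₀]
      intro i j
      have hm : ((p.2 * Matrix.GeneralLinearGroup.scalar (Fin n) ν⁻¹ : GL (Fin n) ↥(fixF σ)) :
          Matrix (Fin n) (Fin n) ↥(fixF σ)) =
          ((ν⁻¹ : (↥(fixF σ))ˣ) : ↥(fixF σ)) • (p.2 : Matrix (Fin n) (Fin n) ↥(fixF σ)) := by
        rw [Matrix.GeneralLinearGroup.coe_mul, Matrix.GeneralLinearGroup.coe_scalar,
          Matrix.scalar_apply, ← Matrix.smul_eq_mul_diagonal]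
      rw [hm, gramH_smul, hgram]
      split_ifs
      · rw [← hνval, ← mul_pow, Units.inv_mul, one_pow]
      · rw [mul_zero]
  · rw [map_mul]
    have := psi_scal_eq_one (n := n) σ ν⁻¹
    rw [map_inv, inv_inv] at this
    rw [this, mul_one]

/-- the kernel of the restriction of `psi` to `guP` -/
theorem card_ker_guP (hn : 1 ≤ n) (hK₀ : Fintype.card ↥(fixF σ) = q₀ ^ 2)
    (hfr : ∀ x : ↥(fixF σ), ((fixF σ).subtype x) ^ q = (fixF σ).subtype (x ^ q₀)) :
    Nat.card ((psi σ n).comp (guP σ n q₀ q).subtype).ker = q₀ + 1 := by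
  haveI : NeZero n := ⟨by omega⟩
  have hkc : Nat.card (powMonoidHom (q₀ + 1) : (↥(fixF σ))ˣ →* (↥(fixF σ))ˣ).ker = q₀ + 1 := by
    rw [IsCyclic.card_powMonoidHom_ker, card_units_F hK₀]
    exact Nat.gcd_eq_right (dvd_mul_left _ _)
  rw [← hkc]
  symm
  have hpow : ∀ ν : (↥(fixF σ))ˣ,
      ((Units.map ((fixF σ).subtype : ↥(fixF σ) →* K) ν : Kˣ)) ^ (q + 1) =
        Units.map ((fixF σ).subtype : ↥(fixF σ) →* K) (ν ^ (q₀ + 1)) := by
    intro ν
    apply Units.ext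
    show ((fixF σ).subtype (ν : ↥(fixF σ))) ^ (q + 1) = (fixF σ).subtype ((ν ^ (q₀ + 1) : (↥(fixF σ))ˣ) :
      ↥(fixF σ))
    rw [pow_succ, hfr, ← map_mul, ← pow_succ, Units.val_pow_eq_pow_val]
  have hmemP : ∀ ν : (powMonoidHom (q₀ + 1) : (↥(fixF σ))ˣ →* (↥(fixF σ))ˣ).ker,
      ((Units.map ((fixF σ).subtype : ↥(fixF σ) →* K) ν.1)⁻¹,
        Matrix.GeneralLinearGroup.scalar (Fin n) ν.1) ∈ guP σ n q₀ q := by
    intro ν
    have hν : ν.1 ^ (q₀ + 1) = 1 := by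
      have := ν.2
      rwa [MonoidHom.mem_ker, powMonoidHom_apply] at this
    rw [mem_guP]
    constructor
    · show ((Units.map ((fixF σ).subtype : ↥(fixF σ) →* K) ν.1)⁻¹) ^ (q + 1) = 1
      rw [inv_pow, hpow, hν, map_one, inv_one]
    · exact scalar_mem_GU σ hK₀ ν.1 hν
  have hmemK : ∀ ν : (powMonoidHom (q₀ + 1) : (↥(fixF σ))ˣ →* (↥(fixF σ))ˣ).ker,
      (⟨_, hmemP ν⟩ : guP σ n q₀ q) ∈ ((psi σ n).comp (guP σ n q₀ q).subtype).ker := by
    intro ν
    rw [MonoidHom.mem_ker]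
    exact psi_scal_eq_one σ ν.1
  apply Nat.card_eq_of_bijective
    (fun ν : (powMonoidHom (q₀ + 1) : (↥(fixF σ))ˣ →* (↥(fixF σ))ˣ).ker =>
      (⟨⟨_, hmemP ν⟩, hmemK ν⟩ : ((psi σ n).comp (guP σ n q₀ q).subtype).ker))
  constructor
  · intro μ μ' h
    have h1 := congrArg (fun x : ((psi σ n).comp (guP σ n q₀ q).subtype).ker =>
      ((x.1.1.2 : GL (Fin n) ↥(fixF σ)) : Matrix (Fin n) (Fin n) ↥(fixF σ)) 0 0) h
    simp only [Matrix.GeneralLinearGroup.coe_scalar, Matrix.scalar_apply,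
      Matrix.diagonal_apply_eq] at h1
    exact Subtype.ext (Units.ext h1)
  · rintro ⟨⟨⟨l, h⟩, hP⟩, hk⟩
    rw [MonoidHom.mem_ker] at hk
    have hk' : psi σ n (l, h) = 1 := hk
    have hent : ∀ k m : Fin n, (l : K) * ((h k m : ↥(fixF σ)) : K) = if k = m then 1 else 0 := by
      intro k m
      rw [← psi_coe σ (l, h) k m, hk']
      rfl
    have h00 : (l : K) * ((h 0 0 : ↥(fixF σ)) : K) = 1 := by rw [hent]; simp
    have hne : (h 0 0 : ↥(fixF σ)) ≠ 0 := by
      intro h0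
      rw [h0] at h00
      simp at h00
    have hl : (l : K) = (((h 0 0 : ↥(fixF σ)) : K))⁻¹ := eq_inv_of_mul_eq_one_left h00
    have hνpow : (Units.mk0 _ hne : (↥(fixF σ))ˣ) ^ (q₀ + 1) = 1 := by
      have h1 := ((mem_guP σ (l, h)).mp hP).1
      have h3 : (Units.map ((fixF σ).subtype : ↥(fixF σ) →* K) (Units.mk0 _ hne))⁻¹ = l := by
        apply Units.ext
        rw [Units.val_inv_eq_inv_val, hl]
        rfl
      have h4 := hpow (Units.mk0 _ hne)
      have h5 : (Units.map ((fixF σ).subtype : ↥(fixF σ) →* K) (Units.mk0 _ hne)) ^ (q + 1) = 1 := by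
        have : (Units.map ((fixF σ).subtype : ↥(fixF σ) →* K) (Units.mk0 _ hne)) = l⁻¹ := by
          rw [← h3, inv_inv]
        rw [this, inv_pow, h1, inv_one]
      rw [h5] at h4
      have h6 : Function.Injective (Units.map ((fixF σ).subtype : ↥(fixF σ) →* K)) :=
        Units.map_injective (fixF σ).subtype.injective
      apply h6
      rw [← h4, map_one]
    refine ⟨⟨Units.mk0 _ hne, by rw [MonoidHom.mem_ker, powMonoidHom_apply]; exact hνpow⟩, ?_⟩
    apply Subtype.ext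
    apply Subtype.ext
    apply Prod.ext
    · apply Units.ext
      change (((h 0 0 : ↥(fixF σ)) : K))⁻¹ = (l : K)
      exact hl.symm
    · apply Units.ext
      ext k m
      change ((Matrix.scalar (Fin n) (h 0 0 : ↥(fixF σ))) k m : K) = ((h k m : ↥(fixF σ)) : K)
      have hl0 : (l : K) ≠ 0 := Units.ne_zero l
      apply mul_left_cancel₀ hl0
      rw [hent, Matrix.scalar_apply, Matrix.diagonal_apply]
      split_ifs
      · exact h00
      · simp

end guField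

end Cfsg.Agent.helper13
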