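import Mathlib

set_option autoImplicit false

namespace Cfsg.Agent.helper13

open Module Matrix

section restrict
variable {F K : Type*} [Field F] [Field K] [Algebra F K] {X Y : Type} [Fintype X] [DecidableEq X]
  [Fintype Y] [DecidableEq Y]

/-- matrix over the small field of a matrix over the big field, in a basis of the restricted
space. -/
noncomputable def restrMat (b : Basis Y F (X → K)) (g : Matrix X X K) : Matrix Y Y F :=
  LinearMap.toMatrix b b ((Matrix.toLin' g).restrictScalars F)

theorem restrMat_mul (b : Basis Y F (X → K)) (g h : Matrix X X K) :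
    restrMat b (g * h) = restrMat b g * restrMat b h := by
  unfold restrMat
  rw [Matrix.toLin'_mul, ← LinearMap.toMatrix_comp b b b]
  rfl

theorem restrMat_one (b : Basis Y F (X → K)) : restrMat b (1 : Matrix X X K) = 1 := by
  unfold restrMat
  rw [Matrix.toLin'_one]
  exact LinearMap.toMatrix_id b

theorem restrMat_injective (b : Basis Y F (X → K)) :
    Function.Injective (restrMat (F := F) b : Matrix X X K → Matrix Y Y F) := by
  intro g h hgh
  unfold restrMat at hgh
  have h1 := (LinearMap.toMatrix b b).injective hgh
  have h2 : Matrix.toLin' g = Matrix.toLin' h := by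
    apply LinearMap.ext
    intro v
    exact LinearMap.congr_fun h1 v
  exact Matrix.toLin'.injective h2

theorem restrMat_form (b : Basis Y F (X → K)) (β : LinearMap.BilinForm F (X → K)) (g : Matrix X X K)
    (hg : ∀ u v, β (g *ᵥ u) (g *ᵥ v) = β u v) :
    (restrMat b g)ᵀ * LinearMap.BilinForm.toMatrix b β * restrMat b g =
      LinearMap.BilinForm.toMatrix b β := by
  unfold restrMat
  rw [← LinearMap.BilinForm.toMatrix_comp b b]
  congr 1
  refine LinearMap.ext fun u => LinearMap.ext fun v => ?_
  exact hg u v

/-- the homomorphism into the symplectic group. -/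
theorem restrMat_symplectic {Z : Type} [Fintype Z] [DecidableEq Z] (b : Basis (Z ⊕ Z) F (X → K))
    (β : LinearMap.BilinForm F (X → K))
    (hβ : ∀ i j, β (b i) (b j) = Matrix.J Z F i j) (g : Matrix X X K)
    (hg : ∀ u v, β (g *ᵥ u) (g *ᵥ v) = β u v) : restrMat b g ∈ Matrix.symplecticGroup Z F := by
  rw [SymplecticGroup.mem_iff']
  have h1 : LinearMap.BilinForm.toMatrix b β = Matrix.J Z F := by
    ext i j
    rw [LinearMap.BilinForm.toMatrix_apply]
    exact hβ i j
  have := restrMat_form b β g hg
  rw [h1] at this
  exact this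

/-- a subgroup of `GL` preserving a suitable form embeds in the symplectic group. -/
theorem exists_embedding_symplectic {Z : Type} [Fintype Z] [DecidableEq Z]
    (b : Basis (Z ⊕ Z) F (X → K)) (β : LinearMap.BilinForm F (X → K))
    (hβ : ∀ i j, β (b i) (b j) = Matrix.J Z F i j) {G : Type*} [Group G] (ρ : G →* Matrix X X K)
    (hρ : Function.Injective ρ)
    (hG : ∀ g : G, ∀ u v, β (ρ g *ᵥ u) (ρ g *ᵥ v) = β u v) :
    ∃ φ : G →* ↥(Matrix.symplecticGroup Z F), Function.Injective φ := by
  refine ⟨{ toFun := fun g => ⟨restrMat b (ρ g), restrMat_symplectic b β hβ (ρ g) (hG g)⟩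
            map_one' := ?_
            map_mul' := ?_ }, ?_⟩
  · apply Subtype.ext
    show restrMat b (ρ 1) = 1
    rw [map_one, restrMat_one]
  · intro g h
    apply Subtype.ext
    show restrMat b (ρ (g * h)) = restrMat b (ρ g) * restrMat b (ρ h)
    rw [map_mul, restrMat_mul]
  · intro g h hgh
    have h1 : restrMat b (ρ g) = restrMat b (ρ h) := congrArg Subtype.val hgh
    exact hρ (restrMat_injective b h1)

end restrict

end Cfsg.Agent.helper13
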