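import Mathlib
import Cfsg.Prelude.Def_LieClassical
import Cfsg.Agent.Lib_helper13_FieldExt
import Cfsg.Agent.Lib_helper13_Restrict
import Cfsg.Agent.Lib_helper13_QStd
import Cfsg.Agent.Lib_helper13_OrthG
import Cfsg.Agent.Lib_helper13_InvCls

set_option autoImplicit false

namespace Cfsg.Agent.helper13

open Module Matrix QuadraticMap Polynomial

section guA
variable {F K : Type*} [Field F] [Field K] [Algebra F K] {X Y : Type} [Fintype X] [DecidableEq X]
  [Fintype Y] [DecidableEq Y]

theorem restrMat_mulVec (b : Basis Y F (X → K)) (g : Matrix X X K) (x : Y → F) :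
    restrMat b g *ᵥ x = b.equivFun (g *ᵥ (b.equivFun.symm x)) := by
  have h := LinearMap.toMatrix_mulVec_repr b b ((Matrix.toLin' g).restrictScalars F)
    (b.equivFun.symm x)
  have h1 : (⇑(b.repr (b.equivFun.symm x)) : Y → F) = x := by
    have := b.equivFun.apply_symm_apply x
    rw [Basis.equivFun_apply] at this
    exact this
  rw [h1] at h
  unfold restrMat
  rw [h, Basis.equivFun_apply]
  rfl

/-- a group of matrices over the big field preserving a function that is a quadratic form over
the small field embeds in the isometry group of that form. -/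
theorem exists_embedding_iso (e : (X → K) ≃ₗ[F] (Y → F)) (Q' : (Y → F) → F) (N : (X → K) → F)
    (hN : ∀ v, N v = Q' (e v)) {G : Type*} [Group G] (ρ : G →* Matrix X X K)
    (hρ : Function.Injective ρ) (hG : ∀ g : G, ∀ v, N (ρ g *ᵥ v) = N v) :
    ∃ φ : G →* ↥(Cfsg.isometryGroup F Q'), Function.Injective φ := by
  set b : Basis Y F (X → K) := Basis.ofEquivFun e with hb
  have hbe : b.equivFun = e := Basis.equivFun_ofEquivFun e
  let ψ : G →* Matrix Y Y F :=
    { toFun := fun g => restrMat b (ρ g)
      map_one' := by rw [map_one, restrMat_one]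
      map_mul' := fun g h => by rw [map_mul, restrMat_mul] }
  let ψu : G →* GL Y F := ψ.toHomUnits
  have hψu : ∀ g, ((ψu g : GL Y F) : Matrix Y Y F) = restrMat b (ρ g) := fun g => rfl
  have hmem : ∀ g, ψu g ∈ Cfsg.isometryGroup F Q' := by
    intro g u _
    show Q' (((ψu g : GL Y F) : Matrix Y Y F) *ᵥ u) = Q' u
    rw [hψu, restrMat_mulVec, hbe, ← hN, hG, hN, LinearEquiv.apply_symm_apply]
  refine ⟨ψu.codRestrict _ hmem, ?_⟩
  intro g h hgh
  have h1 : restrMat b (ρ g) = restrMat b (ρ h) := by
    have := congrArg (fun x : ↥(Cfsg.isometryGroup F Q') => ((x : GL Y F) : Matrix Y Y F)) hgh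
    exact this
  exact hρ (restrMat_injective b h1)

end guA

section guB
variable {F K : Type*} [Field F] [Fintype F] [Field K] [Fintype K] [Algebra F K]

theorem frob_fix (c : F) : (algebraMap F K c) ^ Fintype.card F = algebraMap F K c := by
  rw [← map_pow, FiniteField.pow_card]

theorem frob_add (x y : K) :
    (x + y) ^ Fintype.card F = x ^ Fintype.card F + y ^ Fintype.card F :=
  map_add (FiniteField.frobeniusAlgHom F K) x y

theorem frob_frob (hfr : finrank F K = 2) (x : K) :
    (x ^ Fintype.card F) ^ Fintype.card F = x := by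
  have hK : Fintype.card K = Fintype.card F ^ 2 := by
    rw [← hfr]
    exact Module.card_eq_pow_finrank
  rw [← pow_mul, ← pow_two, ← hK, FiniteField.pow_card]

theorem norm_eq' (hfr : finrank F K = 2) (x : K) :
    algebraMap F K (Algebra.norm F x) = x * x ^ Fintype.card F := by
  rw [FiniteField.algebraMap_norm_eq_pow_sum, hfr, Finset.sum_range_succ, Finset.sum_range_one,
    pow_zero, pow_one, Nat.card_eq_fintype_card, pow_add, pow_one]

theorem trace_eq' (hfr : finrank F K = 2) (z : K) :
    algebraMap F K (Algebra.trace F K z) = z + z ^ Fintype.card F := by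
  rw [FiniteField.algebraMap_trace_eq_sum_pow, hfr, Finset.sum_range_succ, Finset.sum_range_one,
    pow_zero, pow_one, pow_one, Nat.card_eq_fintype_card]

theorem norm_add' (hfr : finrank F K = 2) (x y : K) :
    Algebra.norm F (x + y) =
      Algebra.norm F x + Algebra.norm F y + Algebra.trace F K (x * y ^ Fintype.card F) := by
  apply (algebraMap F K).injective
  rw [norm_eq' hfr, map_add (algebraMap F K), map_add (algebraMap F K), norm_eq' hfr, norm_eq' hfr,
    trace_eq' hfr, frob_add, mul_pow, frob_frob hfr]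
  ring

/-- the norm as a quadratic form over the small field. -/
noncomputable def normQ1 (hfr : finrank F K = 2) : QuadraticForm F K where
  toFun x := Algebra.norm F x
  toFun_smul a x := by
    rw [Algebra.smul_def, map_mul, Algebra.norm_algebraMap, hfr, smul_eq_mul, pow_two]
  exists_companion' :=
    ⟨(Algebra.traceForm F K).compRight (FiniteField.frobeniusAlgHom F K).toLinearMap,
      fun x y => by rw [norm_add' hfr]; rfl⟩

/-- the sum of norms. -/
noncomputable def normQ (hfr : finrank F K = 2) (m : ℕ) : QuadraticForm F (Fin m → K) :=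
  QuadraticMap.pi (fun _ => normQ1 hfr)

theorem normQ_apply (hfr : finrank F K = 2) (m : ℕ) (v : Fin m → K) :
    normQ hfr m v = ∑ i, Algebra.norm F (v i) := by
  unfold normQ
  rw [QuadraticMap.pi_apply]
  rfl

theorem normQ_map (hfr : finrank F K = 2) (m : ℕ) (v : Fin m → K) :
    algebraMap F K (normQ hfr m v) = Cfsg.hermForm m K (Fintype.card F) v v := by
  rw [normQ_apply, map_sum]
  unfold Cfsg.hermForm
  exact Finset.sum_congr rfl (fun i _ => norm_eq' hfr (v i))

theorem polar_normQ (hfr : finrank F K = 2) (m : ℕ) (u v : Fin m → K) :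
    polar (⇑(normQ hfr m)) u v = ∑ i, Algebra.trace F K (u i * v i ^ Fintype.card F) := by
  unfold polar
  rw [normQ_apply, normQ_apply, normQ_apply, ← Finset.sum_sub_distrib, ← Finset.sum_sub_distrib]
  apply Finset.sum_congr rfl
  intro i _
  rw [Pi.add_apply, norm_add' hfr]
  ring

theorem normQ_nondeg (hfr : finrank F K = 2) (m : ℕ) :
    (polarBilin (normQ hfr m)).Nondegenerate := by
  classical
  haveI : Module.Finite F K := Module.finite_of_finrank_pos (by omega)
  have key : ∀ u : Fin m → K, (∀ v, polar (⇑(normQ hfr m)) u v = 0) → u = 0 := by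
    intro u hu
    funext i
    have hnd : (Algebra.traceForm F K).Nondegenerate := traceForm_nondegenerate F K
    apply hnd.1 (u i)
    intro z
    rw [Algebra.traceForm_apply]
    have := hu (Pi.single i (z ^ Fintype.card F))
    rw [polar_normQ, Finset.sum_eq_single i] at this
    · rw [Pi.single_eq_same, frob_frob hfr] at this
      exact this
    · intro j _ hj
      rw [Pi.single_eq_of_ne hj, zero_pow Fintype.card_ne_zero, mul_zero, map_zero]
    · intro h
      exact absurd (Finset.mem_univ _) h
  constructor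
  · intro u hu
    exact key u hu
  · intro v hv
    apply key v
    intro u
    rw [polar_comm]
    exact hv u

theorem finrank_pi_K (hfr : finrank F K = 2) (m : ℕ) : finrank F (Fin m → K) = 2 * m := by
  haveI : Module.Finite F K := Module.finite_of_finrank_pos (by omega)
  rw [Module.finrank_pi_fintype]
  simp only [hfr, Finset.sum_const, Finset.card_univ, Fintype.card_fin, smul_eq_mul]
  ring

theorem aniso_of_irr (ζ : F) (hζ : ∀ t : F, t ^ 2 + t + ζ ≠ 0) :
    ∀ z₁ z₂ : F, z₁ ^ 2 + 1 * z₁ * z₂ + ζ * z₂ ^ 2 = 0 → z₁ = 0 ∧ z₂ = 0 := by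
  intro z₁ z₂ h
  by_cases hz : z₂ = 0
  · subst hz
    have h' : z₁ ^ 2 = 0 := by
      have : z₁ ^ 2 + 1 * z₁ * 0 + ζ * 0 ^ 2 = z₁ ^ 2 := by ring
      rw [this] at h
      exact h
    exact ⟨pow_eq_zero_iff (by norm_num) |>.mp h', rfl⟩
  · exfalso
    apply hζ (z₁ / z₂)
    field_simp
    linear_combination h

/-- for even `m` the sum of `m` norms is a form of plus type. -/
theorem exists_plus_equiv (hfr : finrank F K = 2) (m : ℕ) (hm : Even m) :
    ∃ e : (Fin m → K) ≃ₗ[F] (Fin m ⊕ Fin m → F),
      ∀ v, normQ hfr m v = Cfsg.quadFormPlus m F (e v) := by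
  classical
  haveI : Module.Finite F K := Module.finite_of_finrank_pos (by omega)
  rcases Nat.eq_zero_or_pos m with rfl | hpos
  · refine ⟨LinearEquiv.ofSubsingleton _ _, ?_⟩
    intro v
    rw [normQ_apply]
    simp [Cfsg.quadFormPlus]
  obtain ⟨k, rfl⟩ := hm
  rcases classify_even (F := F) (V := Fin (k + k) → K) (m := k + k) hpos (finrank_pi_K hfr _)
    (normQ hfr (k + k)) (normQ_nondeg hfr _) with ⟨g, hg⟩ | ⟨ζ, hζ, g, hg⟩
  · exact ⟨g, hg⟩
  · exfalso
    obtain ⟨ε, hε⟩ := FiniteField.norm_surjective F K (-1)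
    let j : (Fin k → K) →ₗ[F] (Fin (k + k) → K) :=
      { toFun := fun x i => Sum.elim x (fun l => ε * x l) (finSumFinEquiv.symm i)
        map_add' := by
          intro x y
          funext i
          rcases h : finSumFinEquiv.symm i with l | l <;> simp [h, mul_add]
        map_smul' := by
          intro c x
          funext i
          rcases h : finSumFinEquiv.symm i with l | l <;> simp [h] }
    have hjl : ∀ x l, j x (finSumFinEquiv (Sum.inl l)) = x l := by
      intro x l
      show Sum.elim x (fun l => ε * x l) (finSumFinEquiv.symm (finSumFinEquiv (Sum.inl l))) = x l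
      rw [Equiv.symm_apply_apply]
      rfl
    have hjr : ∀ x l, j x (finSumFinEquiv (Sum.inr l)) = ε * x l := by
      intro x l
      show Sum.elim x (fun l => ε * x l) (finSumFinEquiv.symm (finSumFinEquiv (Sum.inr l))) = ε * x l
      rw [Equiv.symm_apply_apply]
      rfl
    have hjinj : Function.Injective j := by
      intro x y hxy
      funext l
      have := congrFun hxy (finSumFinEquiv (Sum.inl l))
      rw [hjl, hjl] at this
      exact this
    have hjQ : ∀ x, normQ hfr (k + k) (j x) = 0 := by
      intro x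
      rw [normQ_apply, ← Equiv.sum_comp finSumFinEquiv, Fintype.sum_sum_type]
      simp only [hjl, hjr, map_mul, hε]
      rw [← Finset.sum_add_distrib]
      apply Finset.sum_eq_zero
      intro l _
      ring
    have hE : finrank F (LinearMap.range j) = k + k := by
      rw [LinearMap.finrank_range_of_inj hjinj, finrank_pi_K hfr]
      ring
    have hcd := aniso_of_irr ζ hζ
    have hU : MTS (QMinus F (k + k - 1) 1 ζ) (k + k - 1 + 1)
        ((LinearMap.range j).map g.toLinearMap) := by
      constructor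
      · intro w hw
        obtain ⟨x, hx, rfl⟩ := hw
        obtain ⟨y, rfl⟩ := hx
        show QMinus F (k + k - 1) 1 ζ (g (j y)) = 0
        rw [QMinus_apply, ← hg, hjQ]
      · rw [LinearEquiv.finrank_map_eq, hE]
        omega
    exact not_mts_minus (k + k - 1) 1 ζ hcd
      (QMinus_nondeg (k + k - 1) 1 ζ (disc_ne_zero_of_aniso 1 ζ hcd)) _ hU

/-- the norm form is any prescribed anisotropic binary form in suitable coordinates. -/
theorem exists_binary_equiv (hfr : finrank F K = 2) (a b : F)
    (hab : ∀ z₁ z₂ : F, z₁ ^ 2 + a * z₁ * z₂ + b * z₂ ^ 2 = 0 → z₁ = 0 ∧ z₂ = 0) :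
    ∃ e : K ≃ₗ[F] (Fin 2 → F),
      ∀ x : K, Algebra.norm F x = (e x 0) ^ 2 + a * e x 0 * e x 1 + b * (e x 1) ^ 2 := by
  classical
  haveI : Module.Finite F K := Module.finite_of_finrank_pos (by omega)
  set f : F[X] := X ^ 2 + C a * X + C b with hf
  have hfdeg : f.natDegree = 2 := by
    rw [hf]
    compute_degree!
  have hfmonic : f.Monic := by
    rw [hf]
    monicity!
  have hnoroot : ∀ t : F, t ^ 2 + a * t + b ≠ 0 := by
    intro t ht
    have := hab t 1 (by rw [← ht]; ring)
    exact one_ne_zero this.2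
  have hfirr : Irreducible f := by
    rw [Polynomial.Monic.irreducible_iff_roots_eq_zero_of_degree_le_three hfmonic (by omega)
      (by omega)]
    rw [Multiset.eq_zero_iff_forall_notMem]
    intro t ht
    rw [Polynomial.mem_roots hfmonic.ne_zero, Polynomial.IsRoot.def, hf] at ht
    simp only [eval_add, eval_pow, eval_X, eval_mul, eval_C] at ht
    exact hnoroot t ht
  obtain ⟨θ, hθ⟩ := exists_root_of_irreducible (F := F) (K := K) f hfirr (by rw [hfdeg, hfr])
  have hθ' : θ ^ 2 + algebraMap F K a * θ + algebraMap F K b = 0 := by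
    rw [hf] at hθ
    simp only [map_add, map_pow, aeval_X, map_mul, aeval_C] at hθ
    exact hθ
  have hinj : Function.Injective (algebraMap F K) := (algebraMap F K).injective
  have hθF : ∀ t : F, θ ≠ algebraMap F K t := by
    intro t ht
    apply hnoroot t
    apply hinj
    rw [map_zero, map_add, map_add, map_pow, map_mul, ← ht]
    exact hθ'
  let φ : (Fin 2 → F) →ₗ[F] K :=
    { toFun := fun z => algebraMap F K (z 0) - algebraMap F K (z 1) * θ
      map_add' := by
        intro x y
        simp only [Pi.add_apply, map_add]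
        ring
      map_smul' := by
        intro c x
        simp only [Pi.smul_apply, smul_eq_mul, map_mul, RingHom.id_apply, Algebra.smul_def]
        ring }
  have hφ : ∀ z, φ z = algebraMap F K (z 0) - algebraMap F K (z 1) * θ := fun z => rfl
  have hφinj : Function.Injective φ := by
    rw [← LinearMap.ker_eq_bot, LinearMap.ker_eq_bot']
    intro z hz
    rw [hφ] at hz
    by_cases h1 : z 1 = 0
    · rw [h1, map_zero, zero_mul, sub_zero] at hz
      have h0 : z 0 = 0 := hinj (by rw [hz, map_zero])
      funext i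
      fin_cases i
      · exact h0
      · exact h1
    · exfalso
      apply hθF (z 0 / z 1)
      rw [map_div₀]
      have h1' : algebraMap F K (z 1) ≠ 0 := fun h => h1 (hinj (by rw [h, map_zero]))
      rw [eq_div_iff h1']
      linear_combination -hz
  have hdim : finrank F (Fin 2 → F) = finrank F K := by
    rw [hfr, Module.finrank_fin_fun]
  let e' : (Fin 2 → F) ≃ₗ[F] K := LinearMap.linearEquivOfInjective φ hφinj hdim
  have he' : ∀ z, e' z = φ z := fun z => LinearMap.linearEquivOfInjective_apply hφinj hdim z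
  have hfrob : ∀ y : K, y ^ Fintype.card F = FiniteField.frobeniusAlgHom F K y := fun y => rfl
  have hθq : (θ ^ Fintype.card F) ^ 2 + algebraMap F K a * θ ^ Fintype.card F
      + algebraMap F K b = 0 := by
    have := congrArg (FiniteField.frobeniusAlgHom F K) hθ'
    rw [map_add, map_add, map_mul, map_pow, map_zero, AlgHom.commutes, AlgHom.commutes] at this
    rw [hfrob]
    exact this
  have hxq : ∀ z : Fin 2 → F, (φ z) ^ Fintype.card F =
      algebraMap F K (z 0) - algebraMap F K (z 1) * θ ^ Fintype.card F := by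
    intro z
    rw [hφ, hfrob, hfrob, map_sub, map_mul, AlgHom.commutes, AlgHom.commutes]
  have hne : θ ^ Fintype.card F ≠ θ := by
    intro heq
    have h1 : FiniteField.frobeniusAlgHom F K = 1 := by
      apply AlgHom.ext
      intro x
      obtain ⟨z, rfl⟩ := e'.surjective x
      rw [he']
      show (φ z) ^ Fintype.card F = φ z
      rw [hxq, heq, hφ]
    have h2 := FiniteField.orderOf_frobeniusAlgHom F K
    rw [h1, orderOf_one, hfr] at h2
    omega
  have hsum : θ + θ ^ Fintype.card F + algebraMap F K a = 0 := by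
    have hprod : (θ - θ ^ Fintype.card F) * (θ + θ ^ Fintype.card F + algebraMap F K a) = 0 := by
      linear_combination hθ' - hθq
    rcases mul_eq_zero.mp hprod with h | h
    · exact absurd (sub_eq_zero.mp h).symm hne
    · exact h
  have hprod : θ * θ ^ Fintype.card F = algebraMap F K b := by
    linear_combination θ * hsum - hθ'
  refine ⟨e'.symm, fun x => ?_⟩
  obtain ⟨z, rfl⟩ := e'.surjective x
  rw [LinearEquiv.symm_apply_apply]
  apply hinj
  rw [norm_eq' hfr, he', hxq, hφ]
  simp only [map_add, map_mul, map_pow]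
  linear_combination (-(algebraMap F K (z 0) * algebraMap F K (z 1))) * hsum
    + (algebraMap F K (z 1)) ^ 2 * hprod

/-- for even `n` the sum of `n + 1` norms is a form of minus type. -/
theorem exists_minus_equiv (hfr : finrank F K = 2) (n : ℕ) (hn : Even n) (a b : F)
    (hab : ∀ z₁ z₂ : F, z₁ ^ 2 + a * z₁ * z₂ + b * z₂ ^ 2 = 0 → z₁ = 0 ∧ z₂ = 0) :
    ∃ e : (Fin (n + 1) → K) ≃ₗ[F] ((Fin n ⊕ Fin n) ⊕ Fin 2 → F),
      ∀ v, normQ hfr (n + 1) v = Cfsg.quadFormMinus n F a b (e v) := by
  obtain ⟨e₁, h₁⟩ := exists_plus_equiv hfr n hn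
  obtain ⟨e₂, h₂⟩ := exists_binary_equiv hfr a b hab
  let σ : Fin n ⊕ Fin 1 ≃ Fin (n + 1) := finSumFinEquiv
  let e : (Fin (n + 1) → K) ≃ₗ[F] ((Fin n ⊕ Fin n) ⊕ Fin 2 → F) :=
    (LinearEquiv.funCongrLeft F K σ) ≪≫ₗ
      (LinearEquiv.sumArrowLequivProdArrow (Fin n) (Fin 1) F K) ≪≫ₗ
      (LinearEquiv.prodCongr e₁ ((LinearEquiv.funUnique (Fin 1) F K) ≪≫ₗ e₂)) ≪≫ₗ
      (LinearEquiv.sumArrowLequivProdArrow (Fin n ⊕ Fin n) (Fin 2) F F).symm
  have hel : ∀ v s, e v (Sum.inl s) = e₁ (fun i => v (σ (Sum.inl i))) s := fun v s => rfl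
  have her : ∀ v t, e v (Sum.inr t) = e₂ (v (σ (Sum.inr 0))) t := fun v t => rfl
  refine ⟨e, fun v => ?_⟩
  rw [normQ_apply, ← Equiv.sum_comp σ, Fintype.sum_sum_type]
  unfold Cfsg.quadFormMinus
  simp only [hel, her]
  congr 1
  · have := h₁ (fun i => v (σ (Sum.inl i)))
    rw [normQ_apply] at this
    rw [this]
    rfl
  · rw [Fintype.sum_unique]
    exact h₂ _

theorem gu_embed (hfr : finrank F K = 2) (m : ℕ) {Y : Type} [Fintype Y] [DecidableEq Y]
    (e : (Fin m → K) ≃ₗ[F] (Y → F)) (Q' : (Y → F) → F)
    (he : ∀ v, normQ hfr m v = Q' (e v)) :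
    ∃ φ : ↥(Cfsg.GU m K (Fintype.card F)) →* ↥(Cfsg.isometryGroup F Q'),
      Function.Injective φ := by
  apply exists_embedding_iso e Q' (fun v => normQ hfr m v) he
    ((Units.coeHom (Matrix (Fin m) (Fin m) K)).comp (Cfsg.GU m K (Fintype.card F)).subtype)
  · intro g h hgh
    apply Subtype.ext
    apply Units.ext
    exact hgh
  · intro g v
    apply (algebraMap F K).injective
    show algebraMap F K (normQ hfr m _) = algebraMap F K (normQ hfr m v)
    rw [normQ_map, normQ_map]
    exact g.2 v v

end guB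

section guC
variable {F K : Type*} [Field F] [Fintype F] [Field K] [Fintype K]

theorem gu_plus (hK : Fintype.card K = Fintype.card F ^ 2) (m : ℕ) (hm : Even m) :
    ∃ φ : ↥(Cfsg.GU m K (Fintype.card F)) →* ↥(Cfsg.isometryGroup F (Cfsg.quadFormPlus m F)),
      Function.Injective φ := by
  classical
  obtain ⟨ι⟩ := exists_ringHom_of_card_pow (F := F) (K := K) 2 (by norm_num) hK
  letI : Algebra F K := ι.toAlgebra
  have hfr : finrank F K = 2 := finrank_of_card_pow 2 hK
  obtain ⟨e, he⟩ := exists_plus_equiv hfr m hm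
  exact gu_embed hfr m e _ he

theorem gu_minus (hK : Fintype.card K = Fintype.card F ^ 2) (n : ℕ) (hn : Even n) (a b : F)
    (hab : ∀ z₁ z₂ : F, z₁ ^ 2 + a * z₁ * z₂ + b * z₂ ^ 2 = 0 → z₁ = 0 ∧ z₂ = 0) :
    ∃ φ : ↥(Cfsg.GU (n + 1) K (Fintype.card F)) →*
      ↥(Cfsg.isometryGroup F (Cfsg.quadFormMinus n F a b)), Function.Injective φ := by
  classical
  obtain ⟨ι⟩ := exists_ringHom_of_card_pow (F := F) (K := K) 2 (by norm_num) hK
  letI : Algebra F K := ι.toAlgebra
  have hfr : finrank F K = 2 := finrank_of_card_pow 2 hK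
  obtain ⟨e, he⟩ := exists_minus_equiv hfr n hn a b hab
  exact gu_embed hfr (n + 1) e _ he

end guC

end Cfsg.Agent.helper13
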