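import Mathlib
import Cfsg.Agent.Lib_helper13_Uni

set_option autoImplicit false

namespace Cfsg.Agent.helper13

open Matrix QuadraticMap Module
open scoped commutatorElement

section abstract
variable {G : Type*} [Group G]

/-- if a group is generated by a set whose pairwise commutators lie in a normal subgroup, then
the commutator subgroup lies in it. -/
theorem commutator_le_of_gen (R : Set G) (hR : Subgroup.closure R = ⊤)
    (K : Subgroup G) [hK : K.Normal] (hRK : ∀ r ∈ R, ∀ s ∈ R, ⁅r, s⁆ ∈ K) :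
    commutator G ≤ K := by
  rw [commutator_def, Subgroup.commutator_le]
  intro a ha0 b hb0
  clear ha0 hb0
  have ha : a ∈ Subgroup.closure R := by rw [hR]; exact Subgroup.mem_top a
  revert b
  induction ha using Subgroup.closure_induction with
  | mem r hr =>
    intro c
    have hc : c ∈ Subgroup.closure R := by rw [hR]; exact Subgroup.mem_top c
    induction hc using Subgroup.closure_induction with
    | mem s hs => exact hRK r hr s hs
    | one => rw [commutatorElement_one_right]; exact Subgroup.one_mem _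
    | mul c₁ c₂ _ _ h1 h2 =>
      have e : ⁅r, c₁ * c₂⁆ = ⁅r, c₁⁆ * (c₁ * ⁅r, c₂⁆ * c₁⁻¹) := by
        simp only [commutatorElement_def]
        group
      rw [e]
      exact Subgroup.mul_mem _ h1 (hK.conj_mem _ h2 c₁)
    | inv c _ h1 =>
      have e : ⁅r, c⁻¹⁆ = c⁻¹ * ⁅r, c⁆⁻¹ * (c⁻¹)⁻¹ := by
        simp only [commutatorElement_def]
        group
      rw [e]
      exact hK.conj_mem _ (Subgroup.inv_mem _ h1) c⁻¹
  | one =>
    intro c
    rw [commutatorElement_one_left]
    exact Subgroup.one_mem _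
  | mul a₁ a₂ _ _ h1 h2 =>
    intro c
    have e : ⁅a₁ * a₂, c⁆ = (a₁ * ⁅a₂, c⁆ * a₁⁻¹) * ⁅a₁, c⁆ := by
      simp only [commutatorElement_def]
      group
    rw [e]
    exact Subgroup.mul_mem _ (hK.conj_mem _ (h2 c) a₁) (h1 c)
  | inv a _ h1 =>
    intro c
    have e : ⁅a⁻¹, c⁆ = a⁻¹ * ⁅a, c⁆⁻¹ * (a⁻¹)⁻¹ := by
      simp only [commutatorElement_def]
      group
    rw [e]
    exact hK.conj_mem _ (Subgroup.inv_mem _ (h1 c)) a⁻¹

/-- the subgroup generated by the squares of the elements of a subgroup. -/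
def sqSub (S : Subgroup G) : Subgroup G := Subgroup.closure {y : G | ∃ x ∈ S, y = x ^ 2}

theorem sqSub_normal (S : Subgroup G) [hS : S.Normal] : (sqSub S).Normal := by
  constructor
  intro n hn g
  unfold sqSub at hn ⊢
  induction hn using Subgroup.closure_induction with
  | mem y hy =>
    obtain ⟨x, hx, rfl⟩ := hy
    apply Subgroup.subset_closure
    refine ⟨g * x * g⁻¹, hS.conj_mem x hx g, ?_⟩
    rw [pow_two, pow_two]
    group
  | one => rw [mul_one, mul_inv_cancel]; exact Subgroup.one_mem _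
  | mul a b _ _ ha hb =>
    have e : g * (a * b) * g⁻¹ = (g * a * g⁻¹) * (g * b * g⁻¹) := by group
    rw [e]
    exact Subgroup.mul_mem _ ha hb
  | inv a _ ha =>
    have e : g * a⁻¹ * g⁻¹ = (g * a * g⁻¹)⁻¹ := by group
    rw [e]
    exact Subgroup.inv_mem _ ha

/-- a subgroup of index two of `S` contains the squares subgroup. -/
theorem sqSub_le_of_index_two (S : Subgroup G) (H : Subgroup ↥S) (hH : H.index = 2)
    (g : G) (hg : g ∈ sqSub S) : ∃ hgS : g ∈ S, (⟨g, hgS⟩ : ↥S) ∈ H := by
  unfold sqSub at hg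
  induction hg using Subgroup.closure_induction with
  | mem y hy =>
    obtain ⟨x, hx, rfl⟩ := hy
    refine ⟨S.pow_mem hx 2, ?_⟩
    have h1 : (⟨x, hx⟩ : ↥S) ^ 2 ∈ H := Subgroup.sq_mem_of_index_two hH (⟨x, hx⟩ : ↥S)
    exact h1
  | one => exact ⟨S.one_mem, H.one_mem⟩
  | mul a b _ _ ha hb =>
    obtain ⟨haS, haH⟩ := ha
    obtain ⟨hbS, hbH⟩ := hb
    exact ⟨S.mul_mem haS hbS, H.mul_mem haH hbH⟩
  | inv a _ ha =>
    obtain ⟨haS, haH⟩ := ha
    exact ⟨S.inv_mem haS, H.inv_mem haH⟩

/-- abstract uniqueness of the subgroup of index two. -/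
theorem existsUnique_index_two (S : Subgroup G) [hS : S.Normal] (R : Set G)
    (hR : Subgroup.closure R = ⊤) (hinv : ∀ r ∈ R, r * r = 1)
    (hRS : ∀ r ∈ R, ∀ s ∈ R, r * s ∈ S)
    (hidx : (commutator G).relIndex S = 2) :
    ∃! H : Subgroup ↥S, H.index = 2 := by
  haveI := sqSub_normal S
  have hle : commutator G ≤ sqSub S := by
    apply commutator_le_of_gen R hR
    intro r hr s hs
    apply Subgroup.subset_closure
    refine ⟨r * s, hRS r hr s hs, ?_⟩
    have hr' : r⁻¹ = r := inv_eq_of_mul_eq_one_left (hinv r hr)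
    have hs' : s⁻¹ = s := inv_eq_of_mul_eq_one_left (hinv s hs)
    rw [commutatorElement_def, hr', hs', pow_two]
    group
  refine ⟨(commutator G).subgroupOf S, hidx, ?_⟩
  intro H hH
  have hsub : (commutator G).subgroupOf S ≤ H := by
    intro x hx
    obtain ⟨_, h2⟩ := sqSub_le_of_index_two S H hH x.1 (hle hx)
    exact h2
  have h1 := Subgroup.relIndex_mul_index hsub
  have hidx' : ((commutator G).subgroupOf S).index = 2 := hidx
  rw [hH, hidx'] at h1
  have h3 : ((commutator G).subgroupOf S).relIndex H = 1 := by omega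
  exact le_antisymm (Subgroup.relIndex_eq_one.mp h3) hsub

end abstract

end Cfsg.Agent.helper13
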