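import Mathlib
import Cfsg.Prelude.Def_Classical

set_option autoImplicit false

namespace Cfsg.Agent.helper13

open Matrix

section transfer
variable {F F' : Type*} [Field F] [Field F'] {κ : Type} [Fintype κ] [DecidableEq κ]

theorem map_mem_iso (θ : F ≃+* F') (Q : (κ → F) → F) (Q' : (κ → F') → F')
    (hQ : ∀ v, Q' (θ ∘ v) = θ (Q v)) (g : Matrix.GeneralLinearGroup κ F)
    (hg : g ∈ Cfsg.isometryGroup F Q) :
    Units.map (θ.mapMatrix (m := κ)).toMonoidHom g ∈ Cfsg.isometryGroup F' Q' := by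
  intro u' _
  show Q' (((Units.map (θ.mapMatrix (m := κ)).toMonoidHom g : Matrix.GeneralLinearGroup κ F') :
    Matrix κ κ F') *ᵥ u') = Q' u'
  have hu : u' = θ ∘ (θ.symm ∘ u') := by
    funext i
    simp
  have hM : ((Units.map (θ.mapMatrix (m := κ)).toMonoidHom g : Matrix.GeneralLinearGroup κ F') :
      Matrix κ κ F') = (g : Matrix κ κ F).map θ := rfl
  rw [hM]
  have h1 : (g : Matrix κ κ F).map θ *ᵥ (θ ∘ (θ.symm ∘ u')) =
      θ ∘ ((g : Matrix κ κ F) *ᵥ (θ.symm ∘ u')) := by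
    funext i
    exact (RingHom.map_mulVec (θ : F →+* F') (g : Matrix κ κ F) (θ.symm ∘ u') i).symm
  have h2 : Q ((g : Matrix κ κ F) *ᵥ (θ.symm ∘ u')) = Q (θ.symm ∘ u') :=
    hg (θ.symm ∘ u') (θ.symm ∘ u')
  conv_lhs => rw [hu]
  rw [h1, hQ, h2, ← hQ, ← hu]

/-- a ring isomorphism compatible with the forms induces an isomorphism of isometry groups. -/
noncomputable def isoGroupCongr (θ : F ≃+* F') (Q : (κ → F) → F) (Q' : (κ → F') → F')
    (hQ : ∀ v, Q' (θ ∘ v) = θ (Q v)) :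
    ↥(Cfsg.isometryGroup F Q) ≃* ↥(Cfsg.isometryGroup F' Q') where
  toFun g := ⟨Units.map (θ.mapMatrix (m := κ)).toMonoidHom g.1, map_mem_iso θ Q Q' hQ g.1 g.2⟩
  invFun g := ⟨Units.map (θ.symm.mapMatrix (m := κ)).toMonoidHom g.1,
    map_mem_iso θ.symm Q' Q (by
      intro v
      have h := hQ (θ.symm ∘ v)
      have hv : θ ∘ (θ.symm ∘ v) = v := by
        funext i
        simp
      rw [hv] at h
      rw [h]
      simp) g.1 g.2⟩
  left_inv g := by
    apply Subtype.ext
    apply Units.ext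
    show ((g.1 : Matrix κ κ F).map θ).map θ.symm = (g.1 : Matrix κ κ F)
    ext i j
    simp
  right_inv g := by
    apply Subtype.ext
    apply Units.ext
    show ((g.1 : Matrix κ κ F').map θ.symm).map θ = (g.1 : Matrix κ κ F')
    ext i j
    simp
  map_mul' g h := by
    apply Subtype.ext
    exact map_mul _ _ _

theorem quadFormPlus_map (θ : F ≃+* F') (m : ℕ) (v : Fin m ⊕ Fin m → F) :
    Cfsg.quadFormPlus m F' (θ ∘ v) = θ (Cfsg.quadFormPlus m F v) := by
  unfold Cfsg.quadFormPlus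
  simp [map_sum]

theorem quadFormMinus_map (θ : F ≃+* F') (m : ℕ) (a b : F) (v : (Fin m ⊕ Fin m) ⊕ Fin 2 → F) :
    Cfsg.quadFormMinus m F' (θ a) (θ b) (θ ∘ v) = θ (Cfsg.quadFormMinus m F a b v) := by
  unfold Cfsg.quadFormMinus
  simp [map_sum]

theorem quadFormOdd_map (θ : F ≃+* F') (m : ℕ) (v : Unit ⊕ (Fin m ⊕ Fin m) → F) :
    Cfsg.quadFormOdd m F' (θ ∘ v) = θ (Cfsg.quadFormOdd m F v) := by
  unfold Cfsg.quadFormOdd
  simp [map_sum]

end transfer

theorem map_commutator_equiv {G G' : Type*} [Group G] [Group G'] (e : G ≃* G') :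
    (commutator G).map (e : G →* G') = commutator G' := by
  rw [commutator_def, commutator_def, Subgroup.map_commutator,
    Subgroup.map_top_of_surjective _ e.surjective]

end Cfsg.Agent.helper13
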