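import Mathlib
import Cfsg.Agent.Lib_helper13_Frame4
import Cfsg.Agent.Lib_helper13_Ac7

/-! Decompositions into hyperbolic planes over fields of odd order in which every nonzero element
has fourth power one: the stabiliser in `Ω` is not maximal. -/

set_option autoImplicit false

namespace Cfsg.Agent.helper13

open Module Matrix QuadraticMap

section nm1
variable {F : Type*} [Field F] {ι : Type} [Fintype ι] [DecidableEq ι]
variable (Q : QuadraticForm F (ι → F))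

/-- a hyperbolic pair spans a plane containing it -/
theorem hyp_span2 (W : Submodule F (ι → F)) (hfr : finrank F W = 2) (e f : ι → F)
    (he : e ∈ W) (hf : f ∈ W) (hQe : Q e = 0) (hQf : Q f = 0) (hef : polar (⇑Q) e f = 1) :
    ∀ w ∈ W, ∃ x y : F, w = x • e + y • f := by
  have hfe : polar (⇑Q) f e = 1 := by rw [polar_comm]; exact hef
  have hee : polar (⇑Q) e e = 0 := by rw [polar_self', hQe, mul_zero]
  have hff : polar (⇑Q) f f = 0 := by rw [polar_self', hQf, mul_zero]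
  have hli : LinearIndependent F ![e, f] := by
    rw [LinearIndependent.pair_iff]
    intro s t hst
    have h1 : polar (⇑Q) f (s • e + t • f) = s := by
      rw [polar_add_right, polar_smul_right, polar_smul_right, hfe, hff]; simp
    have h2 : polar (⇑Q) e (s • e + t • f) = t := by
      rw [polar_add_right, polar_smul_right, polar_smul_right, hee, hef]; simp
    rw [hst, polar_zero_right] at h1 h2
    exact ⟨h1.symm, h2.symm⟩
  have hle : Submodule.span F (Set.range ![e, f]) ≤ W := by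
    rw [Submodule.span_le]
    rintro _ ⟨i, rfl⟩
    fin_cases i
    · exact he
    · exact hf
  have hfr2 : finrank F (Submodule.span F (Set.range ![e, f])) = 2 := by
    rw [finrank_span_eq_card hli]; simp
  have heq := Submodule.eq_of_le_of_finrank_eq hle (by rw [hfr2, hfr])
  intro w hw
  rw [← heq] at hw
  obtain ⟨c, hc⟩ := (Submodule.mem_span_range_iff_exists_fun F).mp hw
  refine ⟨c 0, c 1, ?_⟩
  rw [← hc, Fin.sum_univ_two]
  rfl

/-- a nondegenerate plane of plus type has a hyperbolic basis -/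
theorem exists_hyp2 (W : Submodule F (ι → F)) (hfr : finrank F W = 2) (hW : NondegOn Q W)
    (hplus : Cfsg.Geo.IsPlusTypeOn (⇑Q) W) :
    ∃ e ∈ W, ∃ f ∈ W, Q e = 0 ∧ Q f = 0 ∧ polar (⇑Q) e f = 1 ∧
      ∀ w ∈ W, ∃ x y : F, w = x • e + y • f := by
  obtain ⟨U, hUW, hUts, hUfr⟩ := hplus
  have hU1 : finrank F U = 1 := by omega
  have hUne : U ≠ ⊥ := by
    intro h
    rw [h, finrank_bot] at hU1
    omega
  obtain ⟨e, heU, he0⟩ := Submodule.exists_mem_ne_zero_of_ne_bot hUne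
  obtain ⟨f, hfW, hQf, hef⟩ := exists_partner_in Q W hW e (hUW heU) he0 (hUts e heU)
  exact ⟨e, hUW heU, f, hfW, hUts e heU, hQf, hef,
    hyp_span2 Q W hfr e f (hUW heU) hfW (hUts e heU) hQf hef⟩

/-- a block with a frame of norm `c`, the second frame vector of arbitrary nonzero norm -/
def GoodBlock' (W : Submodule F (ι → F)) (c : F) : Prop :=
  (∀ s ∈ W, ∀ s' ∈ W, Q s = c → Q s' = c → s = s' ∨ s = -s' ∨ polar (⇑Q) s s' = 0) ∧
  ∃ v ∈ W, ∃ v' ∈ W, Q v = c ∧ Q v' ≠ 0 ∧ polar (⇑Q) v v' = 0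

theorem goodBlock'_of_goodBlock (W : Submodule F (ι → F)) (c : F) (hc : c ≠ 0)
    (h : GoodBlock Q W c) : GoodBlock' Q W c := by
  obtain ⟨h1, v, hv, v', hv', q1, q2, p⟩ := h
  exact ⟨h1, v, hv, v', hv', q1, by rw [q2]; exact hc, p⟩

/-- hyperbolic planes over fields with `r ^ 4 = 1` for all nonzero `r` are good blocks -/
theorem goodBlock'_of_hyp (h2 : (2 : F) ≠ 0) (hr : ∀ r : F, r ≠ 0 → r ^ 4 = 1)
    (W : Submodule F (ι → F)) (e f : ι → F)
    (he : e ∈ W) (hf : f ∈ W) (hQe : Q e = 0) (hQf : Q f = 0) (hef : polar (⇑Q) e f = 1)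
    (hspan : ∀ w ∈ W, ∃ x y : F, w = x • e + y • f) : GoodBlock' Q W 1 := by
  have hfe : polar (⇑Q) f e = 1 := by rw [polar_comm]; exact hef
  have hee : polar (⇑Q) e e = 0 := by rw [polar_self', hQe, mul_zero]
  have hff : polar (⇑Q) f f = 0 := by rw [polar_self', hQf, mul_zero]
  have hQ : ∀ x y : F, Q (x • e + y • f) = x * y := by
    intro x y
    rw [Q_comb2, hQe, hQf, hef]
    ring
  have hpol : ∀ x y x' y' : F,
      polar (⇑Q) (x • e + y • f) (x' • e + y' • f) = x * y' + y * x' := by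
    intro x y x' y'
    simp only [polar_add_left, polar_add_right, polar_smul_left, polar_smul_right, hee, hef, hfe,
      hff, smul_eq_mul]
    ring
  refine ⟨?_, e + f, W.add_mem he hf, e - f, W.sub_mem he hf, ?_, ?_, ?_⟩
  · intro s hs s' hs' hQs hQs'
    obtain ⟨x, y, rfl⟩ := hspan s hs
    obtain ⟨x', y', rfl⟩ := hspan s' hs'
    rw [hQ] at hQs hQs'
    rw [hpol]
    have hx : x ≠ 0 := by
      rintro rfl
      simp at hQs
    have hy : y ≠ 0 := by
      rintro rfl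
      simp at hQs
    have hx' : x' ≠ 0 := by
      rintro rfl
      simp at hQs'
    have hr4 := hr (x' * y) (mul_ne_zero hx' hy)
    have hfac : (x' * y - 1) * (x' * y + 1) * ((x' * y) ^ 2 + 1) = 0 := by
      linear_combination hr4
    rcases mul_eq_zero.mp hfac with h | h
    · rcases mul_eq_zero.mp h with h | h
      · left
        have e1 : x' = x := by
          apply mul_right_cancel₀ hy
          linear_combination h - hQs
        subst e1
        have e2 : y' = y := mul_left_cancel₀ hx' (hQs'.trans hQs.symm)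
        rw [e2]
      · right; left
        have e1 : x' = -x := by
          apply mul_right_cancel₀ hy
          linear_combination h + hQs
        have e2 : y' = -y := by
          apply mul_left_cancel₀ hx'
          rw [hQs', e1]
          linear_combination -hQs
        rw [e1, e2]
        module
    · right; right
      have h5 : (x' * y) * (x * y' + y * x') = 0 := by
        linear_combination h + (x' * y') * hQs + hQs'
      exact (mul_eq_zero.mp h5).resolve_left (mul_ne_zero hx' hy)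
  · have : e + f = (1 : F) • e + (1 : F) • f := by simp
    rw [this, hQ]
    ring
  · have : e - f = (1 : F) • e + (-1 : F) • f := by module
    rw [this, hQ]
    simp
  · simp only [polar_add_left, polar_sub_right, hee, hef, hfe, hff]
    ring

end nm1

section nm1b
variable {F : Type*} [Field F] [Fintype F] {ι : Type} [Fintype ι] [DecidableEq ι]
variable (Q : QuadraticForm F (ι → F))

theorem frame_not_max_odd (h2 : (2 : F) ≠ 0)
    (hQ : (polarBilin Q).Nondegenerate)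
    (hne : Fintype.card F ≠ 2 ∨ Fintype.card ι ≠ 4) {t : ℕ} (D : Fin t → Submodule F (ι → F))
    (c : F) (hc : c ≠ 0)
    (horth : ∀ i j, i ≠ j → ∀ u ∈ D i, ∀ v ∈ D j, polar (⇑Q) u v = 0)
    (hFP : ∀ i, ∀ s ∈ D i, ∀ s' ∈ D i, Q s = c → Q s' = c →
      s = s' ∨ s = -s' ∨ polar (⇑Q) s s' = 0)
    (i₁ i₂ i₃ i₄ : Fin t) (h12 : i₁ ≠ i₂) (h13 : i₁ ≠ i₃) (h14 : i₁ ≠ i₄) (h23 : i₂ ≠ i₃)
    (h24 : i₂ ≠ i₄) (h34 : i₃ ≠ i₄)
    (v₁ v₂ v₃ v₄ v₁' : ι → F) (hv₁ : v₁ ∈ D i₁) (hv₂ : v₂ ∈ D i₂) (hv₃ : v₃ ∈ D i₃)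
    (hv₄ : v₄ ∈ D i₄) (hv₁' : v₁' ∈ D i₁)
    (hQ₁ : Q v₁ = c) (hQ₂ : Q v₂ = c) (hQ₃ : Q v₃ = c) (hQ₄ : Q v₄ = c) (hQ₁' : Q v₁' ≠ 0)
    (hp : polar (⇑Q) v₁ v₁' = 0) :
    ∃ K : Subgroup (GL ι F), Cfsg.Geo.decompositionStabilizer D ⊓ Cfsg.Geo.omegaGL ⇑Q < K ∧
      K < Cfsg.Geo.omegaGL ⇑Q := by
  have h2c : (2 * c : F) ≠ 0 := mul_ne_zero h2 hc
  have p12 : polar (⇑Q) v₁ v₂ = 0 := horth i₁ i₂ h12 v₁ hv₁ v₂ hv₂
  have p13 : polar (⇑Q) v₁ v₃ = 0 := horth i₁ i₃ h13 v₁ hv₁ v₃ hv₃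
  have p14 : polar (⇑Q) v₁ v₄ = 0 := horth i₁ i₄ h14 v₁ hv₁ v₄ hv₄
  have p23 : polar (⇑Q) v₂ v₃ = 0 := horth i₂ i₃ h23 v₂ hv₂ v₃ hv₃
  have p24 : polar (⇑Q) v₂ v₄ = 0 := horth i₂ i₄ h24 v₂ hv₂ v₄ hv₄
  have p34 : polar (⇑Q) v₃ v₄ = 0 := horth i₃ i₄ h34 v₃ hv₃ v₄ hv₄
  have p21 : polar (⇑Q) v₂ v₁ = 0 := by rw [polar_comm]; exact p12
  have p31 : polar (⇑Q) v₃ v₁ = 0 := by rw [polar_comm]; exact p13
  have p41 : polar (⇑Q) v₄ v₁ = 0 := by rw [polar_comm]; exact p14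
  have p32 : polar (⇑Q) v₃ v₂ = 0 := by rw [polar_comm]; exact p23
  have p42 : polar (⇑Q) v₄ v₂ = 0 := by rw [polar_comm]; exact p24
  have p2' : polar (⇑Q) v₂ v₁' = 0 := horth i₂ i₁ h12.symm v₂ hv₂ v₁' hv₁'
  have p3' : polar (⇑Q) v₃ v₁' = 0 := horth i₃ i₁ h13.symm v₃ hv₃ v₁' hv₁'
  have p4' : polar (⇑Q) v₄ v₁' = 0 := horth i₄ i₁ h14.symm v₄ hv₄ v₁' hv₁'
  have hw12 : Q (v₁ - v₂) ≠ 0 := by
    rw [Q_sub_of_perp Q p12, hQ₁, hQ₂, ← two_mul]
    exact h2c
  have hw34 : Q (v₃ - v₄) ≠ 0 := by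
    rw [Q_sub_of_perp Q p34, hQ₃, hQ₄, ← two_mul]
    exact h2c
  have pself : ∀ v : ι → F, Q v ≠ 0 → polar (⇑Q) v v ≠ 0 := by
    intro v hv
    rw [polar_self']
    exact mul_ne_zero h2 hv
  have hQ20 : Q v₂ ≠ 0 := by rw [hQ₂]; exact hc
  refine ⟨setStab (frameSet Q D c) ⊓ Cfsg.Geo.omegaGL ⇑Q, ?_, ?_⟩
  · apply inf_omega_lt_inf_omega Q
    · intro h _ hh
      exact decompStab_le_setStab Q D c h hh
    · refine ⟨reflG Q (v₁ - v₂) hw12 * reflG Q (v₃ - v₄) hw34, ?_, ?_, ?_⟩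
      · apply reflG_pair_mem_comm Q hQ hne
        rw [Q_sub_of_perp Q p12, Q_sub_of_perp Q p34, hQ₁, hQ₂, hQ₃, hQ₄]
      · exact (setStab (frameSet Q D c)).mul_mem
          (refl_preserves_frame Q h2 D c hc horth hFP i₁ i₂ h12 v₁ v₂ hv₁ hv₂ hQ₁ hQ₂ hw12)
          (refl_preserves_frame Q h2 D c hc horth hFP i₃ i₄ h34 v₃ v₄ hv₃ hv₄ hQ₃ hQ₄ hw34)
      · rintro ⟨σ, hσ⟩
        have e1 : iact (reflG Q (v₁ - v₂) hw12 * reflG Q (v₃ - v₄) hw34) v₁ = v₂ := by
          rw [iact_mul, iact_reflG_of_polar Q _ hw34 v₁ (by rw [polar_sub_left, p31, p41, sub_zero])]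
          exact (refl_swap_perp Q h2 c hc v₁ v₂ hQ₁ hQ₂ p12 hw12).1
        have e2 : iact (reflG Q (v₁ - v₂) hw12 * reflG Q (v₃ - v₄) hw34) v₁' = v₁' := by
          rw [iact_mul, iact_reflG_of_polar Q _ hw34 v₁' (by rw [polar_sub_left, p3', p4', sub_zero]),
            iact_reflG_of_polar Q _ hw12 v₁' (by rw [polar_sub_left, hp, p2', sub_zero])]
        have hm := hσ i₁
        have m1 : v₂ ∈ D (σ i₁) := by
          rw [← hm]
          refine ⟨v₁, hv₁, ?_⟩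
          rw [Matrix.toLin'_apply]
          exact e1
        have m2 : v₁' ∈ D (σ i₁) := by
          rw [← hm]
          refine ⟨v₁', hv₁', ?_⟩
          rw [Matrix.toLin'_apply]
          exact e2
        have s1 : σ i₁ = i₂ := by
          by_contra hcon
          exact pself v₂ hQ20 (horth (σ i₁) i₂ hcon v₂ m1 v₂ hv₂)
        have s2 : σ i₁ = i₁ := by
          by_contra hcon
          exact pself v₁' hQ₁' (horth (σ i₁) i₁ hcon v₁' m2 v₁' hv₁')
        exact h12 (s2.symm.trans s1)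
  · apply inf_omega_lt_omega Q
    obtain ⟨a, ha⟩ : ∃ a : ι → F, a = (2 : F)⁻¹ • (v₁ + v₂ + v₃ + v₄) := ⟨_, rfl⟩
    have hQa : Q a = c := by
      have q1 : Q (v₁ + v₂) = c + c := by rw [Q_add_of_perp Q p12, hQ₁, hQ₂]
      have q2 : Q (v₁ + v₂ + v₃) = c + c + c := by
        rw [Q_add_of_perp Q (by rw [polar_add_left, p13, p23, add_zero]), q1, hQ₃]
      have q3 : Q (v₁ + v₂ + v₃ + v₄) = c + c + c + c := by
        rw [Q_add_of_perp Q (by rw [polar_add_left, polar_add_left, p14, p24, p34, add_zero,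
          add_zero]), q2, hQ₄]
      rw [ha, QuadraticMap.map_smul, q3, smul_eq_mul]
      field_simp
      ring
    have hQa0 : Q a ≠ 0 := by rw [hQa]; exact hc
    have pa1 : polar (⇑Q) a v₁ = c := by
      rw [ha, polar_smul_left, polar_add_left, polar_add_left, polar_add_left, polar_self', hQ₁,
        p21, p31, p41, smul_eq_mul]
      field_simp
      ring
    have pa2 : polar (⇑Q) a v₂ = c := by
      rw [ha, polar_smul_left, polar_add_left, polar_add_left, polar_add_left, polar_self', hQ₂,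
        p12, p32, p42, smul_eq_mul]
      field_simp
      ring
    refine ⟨reflG Q a hQa0 * reflG Q v₂ hQ20, ?_, ?_⟩
    · apply reflG_pair_mem_comm Q hQ hne
      rw [hQa, hQ₂]
    · intro hmem
      have h5 := (hmem v₁).mpr ⟨hQ₁, i₁, hv₁⟩
      have hx : ((reflG Q a hQa0 * reflG Q v₂ hQ20 : ↥(Cfsg.isometryGroup F ⇑Q)) : GL ι F).1 *ᵥ v₁ =
          v₁ - a := by
        show iact (reflG Q a hQa0 * reflG Q v₂ hQ20) v₁ = _
        rw [iact_mul, iact_reflG_of_polar Q _ hQ20 v₁ p21, iact_reflG, pa1, hQa,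
          inv_mul_cancel₀ hc, one_smul]
      rw [hx] at h5
      obtain ⟨-, i, hi⟩ := h5
      have q1 : polar (⇑Q) (v₁ - a) v₁ ≠ 0 := by
        rw [polar_sub_left, polar_self', hQ₁, pa1]
        have : 2 * c - c = c := by ring
        rw [this]
        exact hc
      have q2 : polar (⇑Q) (v₁ - a) v₂ ≠ 0 := by
        rw [polar_sub_left, p12, pa2, zero_sub]
        exact neg_ne_zero.mpr hc
      have s1 : i = i₁ := by
        by_contra hcon
        exact q1 (horth i i₁ hcon _ hi v₁ hv₁)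
      have s2 : i = i₂ := by
        by_contra hcon
        exact q2 (horth i i₂ hcon _ hi v₂ hv₂)
      exact h12 (s1.symm.trans s2)

theorem decomp_not_max_odd (h2 : (2 : F) ≠ 0)
    (hQ : (polarBilin Q).Nondegenerate)
    (hne : Fintype.card F ≠ 2 ∨ Fintype.card ι ≠ 4) {t : ℕ} (D : Fin t → Submodule F (ι → F))
    (c : F) (hc : c ≠ 0)
    (horth : ∀ i j, i ≠ j → ∀ u ∈ D i, ∀ v ∈ D j, polar (⇑Q) u v = 0)
    (hg : ∀ i, GoodBlock' Q (D i) c) (ht : 4 ≤ t) :
    ∃ K : Subgroup (GL ι F), Cfsg.Geo.decompositionStabilizer D ⊓ Cfsg.Geo.omegaGL ⇑Q < K ∧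
      K < Cfsg.Geo.omegaGL ⇑Q := by
  obtain ⟨v₁, hv₁, v₁', hv₁', q1, q1', hp⟩ := (hg ⟨0, by omega⟩).2
  obtain ⟨v₂, hv₂, -, -, q2, -, -⟩ := (hg ⟨1, by omega⟩).2
  obtain ⟨v₃, hv₃, -, -, q3, -, -⟩ := (hg ⟨2, by omega⟩).2
  obtain ⟨v₄, hv₄, -, -, q4, -, -⟩ := (hg ⟨3, by omega⟩).2
  exact frame_not_max_odd Q h2 hQ hne D c hc horth (fun i => (hg i).1)
    ⟨0, by omega⟩ ⟨1, by omega⟩ ⟨2, by omega⟩ ⟨3, by omega⟩
    (by simp) (by simp) (by simp) (by simp) (by simp) (by simp)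
    v₁ v₂ v₃ v₄ v₁' hv₁ hv₂ hv₃ hv₄ hv₁' q1 q2 q3 q4 q1' hp

end nm1b

end Cfsg.Agent.helper13
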