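import Mathlib
import Cfsg.Agent.Lib_helper13_Nm1

/-! Decompositions into hyperbolic planes in characteristic two: the additive subgroup generated by
the vectors of norm one of the members gives an intermediate subgroup. -/

set_option autoImplicit false

namespace Cfsg.Agent.helper13

open Module Matrix QuadraticMap

section nm2
variable {F : Type*} [Field F] {ι : Type} [Fintype ι] [DecidableEq ι]

/-- a matrix stabilising a set of vectors stabilises the additive subgroup it generates -/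
theorem setStab_closure (S : Set (ι → F)) (g : GL ι F) (hg : g ∈ setStab S) :
    g ∈ setStab ((AddSubgroup.closure S : AddSubgroup (ι → F)) : Set (ι → F)) := by
  have key : ∀ g : GL ι F, g ∈ setStab S → ∀ x ∈ AddSubgroup.closure S,
      (g : Matrix ι ι F) *ᵥ x ∈ AddSubgroup.closure S := by
    intro g hg x hx
    induction hx using AddSubgroup.closure_induction with
    | mem x hx => exact AddSubgroup.subset_closure ((hg x).mpr hx)
    | zero => rw [Matrix.mulVec_zero]; exact zero_mem _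
    | add x y _ _ hx hy => rw [Matrix.mulVec_add]; exact add_mem hx hy
    | neg x _ hx => rw [Matrix.mulVec_neg]; exact neg_mem hx
  intro v
  constructor
  · intro h
    have := key g⁻¹ ((setStab S).inv_mem hg) _ h
    rwa [Matrix.mulVec_mulVec, ← Units.val_mul, inv_mul_cancel, Units.val_one,
      Matrix.one_mulVec] at this
  · exact key g hg v

variable (Q : QuadraticForm F (ι → F))

/-- membership in the stabiliser of a set from the two inclusions -/
theorem mem_setStab_of_maps (S : Set (ι → F)) (g : ↥(Cfsg.isometryGroup F ⇑Q))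
    (h1 : ∀ v ∈ S, iact g v ∈ S) (h2 : ∀ v ∈ S, iact g⁻¹ v ∈ S) :
    (g : GL ι F) ∈ setStab S := by
  intro v
  constructor
  · intro h
    have h3 := h2 _ h
    have e : iact g⁻¹ (((g : GL ι F) : Matrix ι ι F) *ᵥ v) = v := iact_inv_iact g v
    rwa [e] at h3
  · exact h1 v

/-- in characteristic two, values `0`, `1` of the polar form on generators propagate to the
generated additive subgroup -/
theorem closure_polar_bool (h2 : (2 : F) = 0) (S : Set (ι → F))
    (hS : ∀ s ∈ S, ∀ s' ∈ S, polar (⇑Q) s s' = 0 ∨ polar (⇑Q) s s' = 1) :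
    ∀ a ∈ AddSubgroup.closure S, ∀ b ∈ AddSubgroup.closure S,
      polar (⇑Q) a b = 0 ∨ polar (⇑Q) a b = 1 := by
  have conv : ∀ p : F, p * p = p → p = 0 ∨ p = 1 := by
    intro p hp
    have : p * (p - 1) = 0 := by linear_combination hp
    rcases mul_eq_zero.mp this with h | h
    · exact Or.inl h
    · exact Or.inr (sub_eq_zero.mp h)
  have conv' : ∀ p : F, p = 0 ∨ p = 1 → p * p = p := by
    rintro p (rfl | rfl) <;> simp
  have step1 : ∀ s ∈ S, ∀ b ∈ AddSubgroup.closure S,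
      polar (⇑Q) s b * polar (⇑Q) s b = polar (⇑Q) s b := by
    intro s hs b hb
    induction hb using AddSubgroup.closure_induction with
    | mem x hx => exact conv' _ (hS s hs x hx)
    | zero => rw [polar_zero_right]; simp
    | add x y _ _ hx hy =>
      rw [polar_add_right]
      linear_combination hx + hy + (polar (⇑Q) s x * polar (⇑Q) s y) * h2
    | neg x _ hx =>
      rw [polar_neg_right]
      linear_combination hx + (polar (⇑Q) s x) * h2
  intro a ha b hb
  apply conv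
  induction ha using AddSubgroup.closure_induction with
  | mem x hx => exact step1 x hx b hb
  | zero => rw [polar_zero_left]; simp
  | add x y _ _ hx hy =>
    rw [polar_add_left]
    linear_combination hx + hy + (polar (⇑Q) x b * polar (⇑Q) y b) * h2
  | neg x _ hx =>
    rw [polar_neg_left]
    linear_combination hx + (polar (⇑Q) x b) * h2

/-- a reflection in a vector of norm one of the generated subgroup stabilises it -/
theorem refl_mem_setStab_closure (S : Set (ι → F))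
    (hB : ∀ a ∈ AddSubgroup.closure S, ∀ b ∈ AddSubgroup.closure S,
      polar (⇑Q) a b = 0 ∨ polar (⇑Q) a b = 1)
    (a : ι → F) (ha : a ∈ AddSubgroup.closure S) (hQa : Q a = 1) (hw : Q a ≠ 0) :
    ((reflG Q a hw : ↥(Cfsg.isometryGroup F ⇑Q)) : GL ι F) ∈
      setStab ((AddSubgroup.closure S : AddSubgroup (ι → F)) : Set (ι → F)) := by
  have key : ∀ x ∈ AddSubgroup.closure S, iact (reflG Q a hw) x ∈ AddSubgroup.closure S := by
    intro x hx
    rw [iact_reflG, hQa, inv_one, one_mul]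
    rcases hB a ha x hx with h | h
    · rw [h, zero_smul, sub_zero]
      exact hx
    · rw [h, one_smul]
      exact sub_mem hx ha
  apply mem_setStab_of_maps Q _ _ key
  rw [reflG_inv]
  exact key

/-- hyperbolic bases of the members of a decomposition into planes -/
structure HypBlocks {t : ℕ} (D : Fin t → Submodule F (ι → F)) (e f : Fin t → ι → F) : Prop where
  horth : ∀ i j, i ≠ j → ∀ u ∈ D i, ∀ v ∈ D j, polar (⇑Q) u v = 0
  he : ∀ i, e i ∈ D i
  hf : ∀ i, f i ∈ D i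
  hQe : ∀ i, Q (e i) = 0
  hQf : ∀ i, Q (f i) = 0
  hef : ∀ i, polar (⇑Q) (e i) (f i) = 1
  hspan : ∀ i, ∀ w ∈ D i, ∃ x y : F, w = x • e i + y • f i

variable {Q}
variable {t : ℕ} {D : Fin t → Submodule F (ι → F)} {e f : Fin t → ι → F}

theorem HypBlocks.hfe (H : HypBlocks Q D e f) (i : Fin t) : polar (⇑Q) (f i) (e i) = 1 := by
  rw [polar_comm]; exact H.hef i

theorem HypBlocks.hee (H : HypBlocks Q D e f) (i : Fin t) : polar (⇑Q) (e i) (e i) = 0 := by
  rw [polar_self', H.hQe, mul_zero]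

theorem HypBlocks.hff (H : HypBlocks Q D e f) (i : Fin t) : polar (⇑Q) (f i) (f i) = 0 := by
  rw [polar_self', H.hQf, mul_zero]

theorem HypBlocks.hQ (H : HypBlocks Q D e f) (i : Fin t) (x y : F) :
    Q (x • e i + y • f i) = x * y := by
  rw [Q_comb2, H.hQe, H.hQf, H.hef]
  ring

theorem HypBlocks.hpol (H : HypBlocks Q D e f) (i : Fin t) (x y x' y' : F) :
    polar (⇑Q) (x • e i + y • f i) (x' • e i + y' • f i) = x * y' + y * x' := by
  simp only [polar_add_left, polar_add_right, polar_smul_left, polar_smul_right, H.hee, H.hef,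
    H.hfe, H.hff, smul_eq_mul]
  ring

/-- the vector `e i + f i` of norm one -/
theorem HypBlocks.hv_mem (H : HypBlocks Q D e f) (i : Fin t) : e i + f i ∈ D i :=
  (D i).add_mem (H.he i) (H.hf i)

theorem HypBlocks.hQv (H : HypBlocks Q D e f) (i : Fin t) : Q (e i + f i) = 1 := by
  rw [Q_add_polar, H.hQe, H.hQf, H.hef]
  ring

theorem HypBlocks.hv_frame (H : HypBlocks Q D e f) (i : Fin t) :
    e i + f i ∈ frameSet Q D 1 := ⟨H.hQv i, i, H.hv_mem i⟩

theorem HypBlocks.pol_v_e (H : HypBlocks Q D e f) (i : Fin t) :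
    polar (⇑Q) (e i + f i) (e i) = 1 := by
  rw [polar_add_left, H.hee, H.hfe, zero_add]

theorem HypBlocks.pol_v_f (H : HypBlocks Q D e f) (i : Fin t) :
    polar (⇑Q) (e i + f i) (f i) = 1 := by
  rw [polar_add_left, H.hff, H.hef, add_zero]

theorem HypBlocks.pol_v_v (H : HypBlocks Q D e f) (i j : Fin t) (hij : i ≠ j) :
    polar (⇑Q) (e i + f i) (e j + f j) = 0 :=
  H.horth i j hij _ (H.hv_mem i) _ (H.hv_mem j)

end nm2

section nm2b
variable {F : Type*} [Field F] [Fintype F] {ι : Type} [Fintype ι] [DecidableEq ι]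
variable {Q : QuadraticForm F (ι → F)}
variable {t : ℕ} {D : Fin t → Submodule F (ι → F)} {e f : Fin t → ι → F}

/-- the first half: the stabiliser of the generated additive subgroup is strictly larger -/
theorem HypBlocks.first_half (H : HypBlocks Q D e f) (h2 : (2 : F) = 0)
    (hQ : (polarBilin Q).Nondegenerate)
    (hne : Fintype.card F ≠ 2 ∨ Fintype.card ι ≠ 4)
    (hS : ∀ s ∈ frameSet Q D 1, ∀ s' ∈ frameSet Q D 1,
      polar (⇑Q) s s' = 0 ∨ polar (⇑Q) s s' = 1) (ht : 4 ≤ t) :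
    Cfsg.Geo.decompositionStabilizer D ⊓ Cfsg.Geo.omegaGL ⇑Q <
      setStab ((AddSubgroup.closure (frameSet Q D 1) : AddSubgroup (ι → F)) : Set (ι → F)) ⊓
        Cfsg.Geo.omegaGL ⇑Q := by
  have hB := closure_polar_bool Q h2 _ hS
  obtain ⟨i₀, hi₀⟩ : ∃ i : Fin t, i = ⟨0, by omega⟩ := ⟨_, rfl⟩
  obtain ⟨i₁, hi₁⟩ : ∃ i : Fin t, i = ⟨1, by omega⟩ := ⟨_, rfl⟩
  obtain ⟨i₂, hi₂⟩ : ∃ i : Fin t, i = ⟨2, by omega⟩ := ⟨_, rfl⟩
  obtain ⟨i₃, hi₃⟩ : ∃ i : Fin t, i = ⟨3, by omega⟩ := ⟨_, rfl⟩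
  have h01 : i₀ ≠ i₁ := by rw [hi₀, hi₁]; simp
  have h02 : i₀ ≠ i₂ := by rw [hi₀, hi₂]; simp
  have h03 : i₀ ≠ i₃ := by rw [hi₀, hi₃]; simp
  have h12 : i₁ ≠ i₂ := by rw [hi₁, hi₂]; simp
  have h13 : i₁ ≠ i₃ := by rw [hi₁, hi₃]; simp
  have h23 : i₂ ≠ i₃ := by rw [hi₂, hi₃]; simp
  obtain ⟨a, ha⟩ : ∃ a : ι → F, a = (e i₀ + f i₀) + (e i₁ + f i₁) + (e i₂ + f i₂) := ⟨_, rfl⟩
  have haT : a ∈ AddSubgroup.closure (frameSet Q D 1) := by
    rw [ha]
    exact add_mem (add_mem (AddSubgroup.subset_closure (H.hv_frame i₀))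
      (AddSubgroup.subset_closure (H.hv_frame i₁))) (AddSubgroup.subset_closure (H.hv_frame i₂))
  have hQa : Q a = 1 := by
    have q1 : Q ((e i₀ + f i₀) + (e i₁ + f i₁)) = 1 + 1 := by
      rw [Q_add_of_perp Q (H.pol_v_v i₀ i₁ h01), H.hQv, H.hQv]
    rw [ha, Q_add_of_perp Q (by rw [polar_add_left, H.pol_v_v i₀ i₂ h02, H.pol_v_v i₁ i₂ h12,
      add_zero]), q1, H.hQv]
    linear_combination h2
  have hQa0 : Q a ≠ 0 := by rw [hQa]; exact one_ne_zero
  have hQ30 : Q (e i₃ + f i₃) ≠ 0 := by rw [H.hQv]; exact one_ne_zero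
  apply inf_omega_lt_inf_omega Q
  · intro h _ hh
    exact setStab_closure _ _ (decompStab_le_setStab Q D 1 h hh)
  · refine ⟨reflG Q a hQa0 * reflG Q (e i₃ + f i₃) hQ30, ?_, ?_, ?_⟩
    · apply reflG_pair_mem_comm Q hQ hne
      rw [hQa, H.hQv]
    · exact Subgroup.mul_mem _ (refl_mem_setStab_closure Q _ hB a haT hQa hQa0)
        (refl_mem_setStab_closure Q _ hB _ (AddSubgroup.subset_closure (H.hv_frame i₃))
          (H.hQv i₃) hQ30)
    · rintro ⟨σ, hσ⟩
      have pa0 : polar (⇑Q) a (e i₀) = 1 := by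
        rw [ha, polar_add_left, polar_add_left, H.pol_v_e,
          H.horth i₁ i₀ h01.symm _ (H.hv_mem i₁) _ (H.he i₀),
          H.horth i₂ i₀ h02.symm _ (H.hv_mem i₂) _ (H.he i₀)]
        ring
      have e1 : iact (reflG Q a hQa0 * reflG Q (e i₃ + f i₃) hQ30) (e i₀) = e i₀ - a := by
        rw [iact_mul, iact_reflG_of_polar Q _ hQ30 (e i₀)
          (H.horth i₃ i₀ h03.symm _ (H.hv_mem i₃) _ (H.he i₀)), iact_reflG, pa0, hQa, inv_one,
          one_mul, one_smul]
      have m1 : e i₀ - a ∈ D (σ i₀) := by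
        rw [← hσ i₀]
        refine ⟨e i₀, H.he i₀, ?_⟩
        rw [Matrix.toLin'_apply]
        exact e1
      have q1 : polar (⇑Q) (e i₀ - a) (f i₁) ≠ 0 := by
        rw [polar_sub_left, H.horth i₀ i₁ h01 _ (H.he i₀) _ (H.hf i₁), ha, polar_add_left,
          polar_add_left, H.pol_v_f, H.horth i₀ i₁ h01 _ (H.hv_mem i₀) _ (H.hf i₁),
          H.horth i₂ i₁ h12.symm _ (H.hv_mem i₂) _ (H.hf i₁)]
        simp
      have q2 : polar (⇑Q) (e i₀ - a) (f i₂) ≠ 0 := by
        rw [polar_sub_left, H.horth i₀ i₂ h02 _ (H.he i₀) _ (H.hf i₂), ha, polar_add_left,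
          polar_add_left, H.pol_v_f, H.horth i₀ i₂ h02 _ (H.hv_mem i₀) _ (H.hf i₂),
          H.horth i₁ i₂ h12 _ (H.hv_mem i₁) _ (H.hf i₂)]
        simp
      have s1 : σ i₀ = i₁ := by
        by_contra hcon
        exact q1 (H.horth (σ i₀) i₁ hcon _ m1 _ (H.hf i₁))
      have s2 : σ i₀ = i₂ := by
        by_contra hcon
        exact q2 (H.horth (σ i₀) i₂ hcon _ m1 _ (H.hf i₂))
      exact h12 (s1.symm.trans s2)

/-- the second half over the field with two elements -/
theorem HypBlocks.second_half_two (H : HypBlocks Q D e f) (h2 : (2 : F) = 0)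
    (hF2 : ∀ r : F, r = 0 ∨ r = 1)
    (hQ : (polarBilin Q).Nondegenerate)
    (hne : Fintype.card F ≠ 2 ∨ Fintype.card ι ≠ 4) (ht : 4 ≤ t) :
    setStab ((AddSubgroup.closure (frameSet Q D 1) : AddSubgroup (ι → F)) : Set (ι → F)) ⊓
        Cfsg.Geo.omegaGL ⇑Q < Cfsg.Geo.omegaGL ⇑Q := by
  obtain ⟨i₀, hi₀⟩ : ∃ i : Fin t, i = ⟨0, by omega⟩ := ⟨_, rfl⟩
  obtain ⟨i₁, hi₁⟩ : ∃ i : Fin t, i = ⟨1, by omega⟩ := ⟨_, rfl⟩
  obtain ⟨i₂, hi₂⟩ : ∃ i : Fin t, i = ⟨2, by omega⟩ := ⟨_, rfl⟩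
  have h01 : i₀ ≠ i₁ := by rw [hi₀, hi₁]; simp
  have h02 : i₀ ≠ i₂ := by rw [hi₀, hi₂]; simp
  have h12 : i₁ ≠ i₂ := by rw [hi₁, hi₂]; simp
  -- the frame set consists of the vectors `e i + f i`
  have huniq : ∀ s ∈ frameSet Q D 1, ∃ i, s = e i + f i := by
    rintro s ⟨hQs, i, hsi⟩
    obtain ⟨x, y, rfl⟩ := H.hspan i s hsi
    rw [H.hQ] at hQs
    refine ⟨i, ?_⟩
    rcases hF2 x with rfl | rfl
    · simp at hQs
    rcases hF2 y with rfl | rfl
    · simp at hQs
    simp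
  have hS0 : ∀ s ∈ frameSet Q D 1, ∀ s' ∈ frameSet Q D 1, polar (⇑Q) s s' = 0 := by
    intro s hs s' hs'
    obtain ⟨i, rfl⟩ := huniq s hs
    obtain ⟨j, rfl⟩ := huniq s' hs'
    by_cases hij : i = j
    · subst hij
      rw [polar_self', h2, zero_mul]
    · exact H.pol_v_v i j hij
  have hT0 : ∀ a ∈ AddSubgroup.closure (frameSet Q D 1), ∀ s ∈ frameSet Q D 1,
      polar (⇑Q) s a = 0 := by
    intro a ha s hs
    induction ha using AddSubgroup.closure_induction with
    | mem x hx => exact hS0 s hs x hx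
    | zero => exact polar_zero_right _ _
    | add x y _ _ hx hy => rw [polar_add_right, hx, hy, add_zero]
    | neg x _ hx => rw [polar_neg_right, hx, neg_zero]
  apply inf_omega_lt_omega Q
  obtain ⟨x, hx⟩ : ∃ x : ι → F, x = e i₀ + (e i₁ + f i₁) := ⟨_, rfl⟩
  have hQx : Q x = 1 := by
    rw [hx, Q_add_of_perp Q (H.horth i₀ i₁ h01 _ (H.he i₀) _ (H.hv_mem i₁)), H.hQe, H.hQv,
      zero_add]
  have hQx0 : Q x ≠ 0 := by rw [hQx]; exact one_ne_zero
  have hQ20 : Q (e i₂ + f i₂) ≠ 0 := by rw [H.hQv]; exact one_ne_zero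
  refine ⟨reflG Q x hQx0 * reflG Q (e i₂ + f i₂) hQ20, ?_, ?_⟩
  · apply reflG_pair_mem_comm Q hQ hne
    rw [hQx, H.hQv]
  · intro hmem
    have h5 := (hmem (e i₀ + f i₀)).mpr (AddSubgroup.subset_closure (H.hv_frame i₀))
    have px : polar (⇑Q) x (e i₀ + f i₀) = 1 := by
      rw [hx, polar_add_left, H.pol_v_v i₁ i₀ h01.symm, add_zero, polar_add_right, H.hee, H.hef,
        zero_add]
    have e1 : ((reflG Q x hQx0 * reflG Q (e i₂ + f i₂) hQ20 : ↥(Cfsg.isometryGroup F ⇑Q)) :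
        GL ι F).1 *ᵥ (e i₀ + f i₀) = (e i₀ + f i₀) - x := by
      show iact (reflG Q x hQx0 * reflG Q (e i₂ + f i₂) hQ20) (e i₀ + f i₀) = _
      rw [iact_mul, iact_reflG_of_polar Q _ hQ20 _ (H.pol_v_v i₂ i₀ h02.symm), iact_reflG, px,
        hQx, inv_one, one_mul, one_smul]
    rw [e1] at h5
    have h6 := hT0 _ h5 _ (H.hv_frame i₀)
    rw [polar_sub_right, polar_self', h2, zero_mul, zero_sub, polar_comm, px] at h6
    exact one_ne_zero (neg_eq_zero.mp h6)

end nm2b

end Cfsg.Agent.helper13
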