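import Mathlib
import Cfsg.Agent.Lib_helper13_Nm2

/-! Decompositions into hyperbolic planes over the field with four elements. -/

set_option autoImplicit false

namespace Cfsg.Agent.helper13

open Module Matrix QuadraticMap

section nm3
variable {F : Type*} [Field F] [Fintype F] {ι : Type} [Fintype ι] [DecidableEq ι]
variable {Q : QuadraticForm F (ι → F)}
variable {t : ℕ} {D : Fin t → Submodule F (ι → F)} {e f : Fin t → ι → F}

omit [Fintype F] in
/-- values of the polar form on the frame set when all cubes are one -/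
theorem HypBlocks.frame_bool_four (H : HypBlocks Q D e f) (h2 : (2 : F) = 0)
    (hF4 : ∀ r : F, r ≠ 0 → r ^ 3 = 1) :
    ∀ s ∈ frameSet Q D 1, ∀ s' ∈ frameSet Q D 1,
      polar (⇑Q) s s' = 0 ∨ polar (⇑Q) s s' = 1 := by
  rintro s ⟨hQs, i, hsi⟩ s' ⟨hQs', j, hsj⟩
  by_cases hij : i = j
  · subst hij
    obtain ⟨x, y, rfl⟩ := H.hspan i s hsi
    obtain ⟨x', y', rfl⟩ := H.hspan i s' hsj
    rw [H.hQ] at hQs hQs'
    rw [H.hpol]
    have hx : x ≠ 0 := by
      rintro rfl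
      simp at hQs
    have hy : y ≠ 0 := by
      rintro rfl
      simp at hQs
    have hx' : x' ≠ 0 := by
      rintro rfl
      simp at hQs'
    have hr3 := hF4 (x' * y) (mul_ne_zero hx' hy)
    have hfac : (x' * y - 1) * ((x' * y) ^ 2 + x' * y + 1) = 0 := by
      linear_combination hr3
    rcases mul_eq_zero.mp hfac with h | h
    · left
      have e1 : x' = x := by
        apply mul_right_cancel₀ hy
        linear_combination h - hQs
      subst e1
      have e2 : y' = y := mul_left_cancel₀ hx' (hQs'.trans hQs.symm)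
      rw [e2]
      linear_combination (x' * y) * h2
    · right
      have h5 : (x' * y) * (x * y' + y * x' - 1) = 0 := by
        linear_combination h + (x' * y') * hQs + hQs' - (x' * y) * h2
      have := (mul_eq_zero.mp h5).resolve_left (mul_ne_zero hx' hy)
      exact sub_eq_zero.mp this
  · left
    exact H.horth i j hij s hsi s' hsj

/-- the second half over the field with four elements -/
theorem HypBlocks.second_half_four (H : HypBlocks Q D e f) (h2 : (2 : F) = 0)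
    (hF4 : ∀ r : F, r ≠ 0 → r ^ 3 = 1) (ω : F) (hω0 : ω ≠ 0) (hω1 : ω ≠ 1)
    (hQ : (polarBilin Q).Nondegenerate)
    (hne : Fintype.card F ≠ 2 ∨ Fintype.card ι ≠ 4) (ht : 4 ≤ t) :
    setStab ((AddSubgroup.closure (frameSet Q D 1) : AddSubgroup (ι → F)) : Set (ι → F)) ⊓
        Cfsg.Geo.omegaGL ⇑Q < Cfsg.Geo.omegaGL ⇑Q := by
  have hB := closure_polar_bool Q h2 _ (H.frame_bool_four h2 hF4)
  obtain ⟨i₀, hi₀⟩ : ∃ i : Fin t, i = ⟨0, by omega⟩ := ⟨_, rfl⟩
  obtain ⟨i₁, hi₁⟩ : ∃ i : Fin t, i = ⟨1, by omega⟩ := ⟨_, rfl⟩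
  obtain ⟨i₂, hi₂⟩ : ∃ i : Fin t, i = ⟨2, by omega⟩ := ⟨_, rfl⟩
  obtain ⟨i₃, hi₃⟩ : ∃ i : Fin t, i = ⟨3, by omega⟩ := ⟨_, rfl⟩
  have h01 : i₀ ≠ i₁ := by rw [hi₀, hi₁]; simp
  have h02 : i₀ ≠ i₂ := by rw [hi₀, hi₂]; simp
  have h03 : i₀ ≠ i₃ := by rw [hi₀, hi₃]; simp
  have h12 : i₁ ≠ i₂ := by rw [hi₁, hi₂]; simp
  have h13 : i₁ ≠ i₃ := by rw [hi₁, hi₃]; simp
  have h23 : i₂ ≠ i₃ := by rw [hi₂, hi₃]; simp
  have hω3 := hF4 ω hω0
  have hω : ω ^ 2 + ω + 1 = 0 := by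
    have hfac : (ω - 1) * (ω ^ 2 + ω + 1) = 0 := by linear_combination hω3
    exact (mul_eq_zero.mp hfac).resolve_left (sub_ne_zero.mpr hω1)
  apply inf_omega_lt_omega Q
  obtain ⟨x, hx⟩ : ∃ x : ι → F, x = (e i₀ + f i₀) + ω • (e i₁ + f i₁) + ω • (e i₂ + f i₂) :=
    ⟨_, rfl⟩
  have hQx : Q x = 1 := by
    have p1 : polar (⇑Q) (e i₀ + f i₀) (ω • (e i₁ + f i₁)) = 0 := by
      rw [polar_smul_right, H.pol_v_v i₀ i₁ h01, smul_zero]
    have q1 : Q ((e i₀ + f i₀) + ω • (e i₁ + f i₁)) = 1 + ω * ω := by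
      rw [Q_add_of_perp Q p1, H.hQv, QuadraticMap.map_smul, H.hQv, smul_eq_mul, mul_one]
    have p2 : polar (⇑Q) ((e i₀ + f i₀) + ω • (e i₁ + f i₁)) (ω • (e i₂ + f i₂)) = 0 := by
      rw [polar_smul_right, polar_add_left, polar_smul_left, H.pol_v_v i₀ i₂ h02,
        H.pol_v_v i₁ i₂ h12]
      simp
    rw [hx, Q_add_of_perp Q p2, q1, QuadraticMap.map_smul, H.hQv, smul_eq_mul, mul_one]
    linear_combination (ω * ω) * h2
  have hQx0 : Q x ≠ 0 := by rw [hQx]; exact one_ne_zero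
  have hQ30 : Q (e i₃ + f i₃) ≠ 0 := by rw [H.hQv]; exact one_ne_zero
  refine ⟨reflG Q x hQx0 * reflG Q (e i₃ + f i₃) hQ30, ?_, ?_⟩
  · apply reflG_pair_mem_comm Q hQ hne
    rw [hQx, H.hQv]
  · intro hmem
    obtain ⟨w, hw⟩ : ∃ w : ι → F, w = ω • e i₁ + ω ^ 2 • f i₁ := ⟨_, rfl⟩
    obtain ⟨w', hw'⟩ : ∃ w' : ι → F, w' = ω • e i₀ + ω ^ 2 • f i₀ := ⟨_, rfl⟩
    have hwD : w ∈ D i₁ := by
      rw [hw]
      exact (D i₁).add_mem ((D i₁).smul_mem _ (H.he i₁)) ((D i₁).smul_mem _ (H.hf i₁))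
    have hw'D : w' ∈ D i₀ := by
      rw [hw']
      exact (D i₀).add_mem ((D i₀).smul_mem _ (H.he i₀)) ((D i₀).smul_mem _ (H.hf i₀))
    have hwS : w ∈ frameSet Q D 1 := by
      refine ⟨?_, i₁, hwD⟩
      rw [hw, H.hQ]
      linear_combination hω3
    have hw'S : w' ∈ frameSet Q D 1 := by
      refine ⟨?_, i₀, hw'D⟩
      rw [hw', H.hQ]
      linear_combination hω3
    have h5 := (hmem w).mpr (AddSubgroup.subset_closure hwS)
    have pvw : polar (⇑Q) (e i₁ + f i₁) w = ω ^ 2 + ω := by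
      have : e i₁ + f i₁ = (1 : F) • e i₁ + (1 : F) • f i₁ := by simp
      rw [this, hw, H.hpol]
      ring
    have pvw' : polar (⇑Q) w' (e i₀ + f i₀) = ω ^ 2 + ω := by
      have : e i₀ + f i₀ = (1 : F) • e i₀ + (1 : F) • f i₀ := by simp
      rw [this, hw', H.hpol]
      ring
    have px : polar (⇑Q) x w = ω * (ω ^ 2 + ω) := by
      rw [hx, polar_add_left, polar_add_left, polar_smul_left, polar_smul_left, pvw,
        H.horth i₀ i₁ h01 _ (H.hv_mem i₀) _ hwD, H.horth i₂ i₁ h12.symm _ (H.hv_mem i₂) _ hwD]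
      simp
    have e1 : ((reflG Q x hQx0 * reflG Q (e i₃ + f i₃) hQ30 : ↥(Cfsg.isometryGroup F ⇑Q)) :
        GL ι F).1 *ᵥ w = w - (ω * (ω ^ 2 + ω)) • x := by
      show iact (reflG Q x hQx0 * reflG Q (e i₃ + f i₃) hQ30) w = _
      rw [iact_mul, iact_reflG_of_polar Q _ hQ30 _
        (H.horth i₃ i₁ h13.symm _ (H.hv_mem i₃) _ hwD), iact_reflG, px, hQx, inv_one, one_mul]
    rw [e1] at h5
    have h6 := hB w' (AddSubgroup.subset_closure hw'S) _ h5
    have pw'x : polar (⇑Q) w' x = ω ^ 2 + ω := by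
      rw [hx, polar_add_right, polar_add_right, polar_smul_right, polar_smul_right, pvw',
        H.horth i₀ i₁ h01 _ hw'D _ (H.hv_mem i₁), H.horth i₀ i₂ h02 _ hw'D _ (H.hv_mem i₂)]
      simp
    have h7 : polar (⇑Q) w' (w - (ω * (ω ^ 2 + ω)) • x) = -ω := by
      rw [polar_sub_right, polar_smul_right, pw'x, H.horth i₀ i₁ h01 _ hw'D _ hwD, smul_eq_mul]
      linear_combination (-ω * (ω ^ 2 + ω - 1)) * hω
    rw [h7] at h6
    rcases h6 with h | h
    · exact hω0 (neg_eq_zero.mp h)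
    · apply hω1
      linear_combination -h - h2

end nm3

end Cfsg.Agent.helper13
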