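import Mathlib
import Cfsg.Agent.Lib_helper13_Nm3

/-! Decompositions into four-dimensional spaces of plus type over the field with two elements. -/

set_option autoImplicit false

namespace Cfsg.Agent.helper13

open Module Matrix QuadraticMap Cfsg.Agent.S0794

section nm4
variable {F : Type*} [Field F] {ι : Type} [Fintype ι] [DecidableEq ι]
variable (Q : QuadraticForm F (ι → F))

/-- a nondegenerate four-dimensional space of plus type has a hyperbolic basis (characteristic two) -/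
theorem exists_hyp4 (h2 : (2 : F) = 0) (W : Submodule F (ι → F)) (hfr : finrank F W = 4)
    (hW : NondegOn Q W) (hplus : Cfsg.Geo.IsPlusTypeOn (⇑Q) W) :
    ∃ e ∈ W, ∃ f ∈ W, ∃ e' ∈ W, ∃ f' ∈ W, Q e = 0 ∧ Q f = 0 ∧ Q e' = 0 ∧ Q f' = 0 ∧
      polar (⇑Q) e f = 1 ∧ polar (⇑Q) e' f' = 1 ∧ polar (⇑Q) e e' = 0 ∧ polar (⇑Q) e f' = 0 ∧
      polar (⇑Q) f e' = 0 ∧ polar (⇑Q) f f' = 0 ∧
      ∀ w ∈ W, ∃ x y x' y' : F, w = x • e + y • f + x' • e' + y' • f' := by
  obtain ⟨U, hUW, hUts, hUfr⟩ := hplus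
  have hU2 : finrank F U = 2 := by omega
  have hUne : U ≠ ⊥ := by
    intro h
    rw [h, finrank_bot] at hU2
    omega
  obtain ⟨e, heU, he0⟩ := Submodule.exists_mem_ne_zero_of_ne_bot hUne
  have heW := hUW heU
  have hQe := hUts e heU
  obtain ⟨f, hfW, hQf, hef⟩ := exists_partner_in Q W hW e heW he0 hQe
  have hfe : polar (⇑Q) f e = 1 := by rw [polar_comm]; exact hef
  have hlt : Submodule.span F {e} < U := by
    apply Submodule.lt_of_le_of_finrank_lt_finrank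
    · rw [Submodule.span_singleton_le_iff_mem]; exact heU
    · rw [finrank_span_singleton he0, hU2]; norm_num
  obtain ⟨e₂, he₂U, he₂⟩ := SetLike.exists_of_lt hlt
  have hUpol : ∀ a ∈ U, ∀ b ∈ U, polar (⇑Q) a b = 0 := by
    intro a ha b hb
    unfold polar
    rw [hUts _ (U.add_mem ha hb), hUts a ha, hUts b hb]
    ring
  obtain ⟨e', he'⟩ : ∃ e' : ι → F, e' = e₂ - polar (⇑Q) f e₂ • e := ⟨_, rfl⟩
  have he'U : e' ∈ U := by rw [he']; exact U.sub_mem he₂U (U.smul_mem _ heU)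
  have he'0 : e' ≠ 0 := by
    intro h
    apply he₂
    rw [he', sub_eq_zero] at h
    rw [h]
    exact Submodule.smul_mem _ _ (Submodule.mem_span_singleton_self e)
  have hfe' : polar (⇑Q) f e' = 0 := by
    rw [he', polar_sub_right, polar_smul_right, hfe]
    simp
  have hee' : polar (⇑Q) e e' = 0 := hUpol e heU e' he'U
  have hXnd := planeCompl_nondeg Q h2 W hW e f heW hfW hef
  have hXfr := planeCompl_finrank Q h2 W e f heW hfW hef
  have he'X : e' ∈ planeCompl Q W e f := (mem_planeCompl Q W e f e').mpr ⟨hUW he'U, hee', hfe'⟩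
  obtain ⟨f', hf'X, hQf', he'f'⟩ := exists_partner_in Q _ hXnd e' he'X he'0 (hUts e' he'U)
  obtain ⟨hf'W, hef', hff'⟩ := (mem_planeCompl Q W e f f').mp hf'X
  have hspanX := hyp_span2 Q (planeCompl Q W e f) (by omega) e' f' he'X hf'X (hUts e' he'U) hQf'
    he'f'
  refine ⟨e, heW, f, hfW, e', hUW he'U, f', hf'W, hQe, hQf, hUts e' he'U, hQf', hef, he'f', hee',
    hef', hfe', hff', ?_⟩
  intro w hw
  have hdec := planeCompl_dec Q h2 W e f heW hfW hef w hw
  obtain ⟨x', y', hxy⟩ := hspanX _ hdec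
  refine ⟨polar (⇑Q) f w, polar (⇑Q) e w, x', y', ?_⟩
  rw [add_assoc, ← hxy]
  abel

/-- hyperbolic bases of the members of a decomposition into four-dimensional spaces -/
structure Hyp4Blocks {t : ℕ} (D : Fin t → Submodule F (ι → F)) (e f e' f' : Fin t → ι → F) :
    Prop where
  horth : ∀ i j, i ≠ j → ∀ u ∈ D i, ∀ v ∈ D j, polar (⇑Q) u v = 0
  he : ∀ i, e i ∈ D i
  hf : ∀ i, f i ∈ D i
  he' : ∀ i, e' i ∈ D i
  hf' : ∀ i, f' i ∈ D i
  hQe : ∀ i, Q (e i) = 0
  hQf : ∀ i, Q (f i) = 0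
  hQe' : ∀ i, Q (e' i) = 0
  hQf' : ∀ i, Q (f' i) = 0
  p_ef : ∀ i, polar (⇑Q) (e i) (f i) = 1
  p_e'f' : ∀ i, polar (⇑Q) (e' i) (f' i) = 1
  p_ee' : ∀ i, polar (⇑Q) (e i) (e' i) = 0
  p_ef' : ∀ i, polar (⇑Q) (e i) (f' i) = 0
  p_fe' : ∀ i, polar (⇑Q) (f i) (e' i) = 0
  p_ff' : ∀ i, polar (⇑Q) (f i) (f' i) = 0
  hspan : ∀ i, ∀ w ∈ D i, ∃ x y x' y' : F, w = x • e i + y • f i + x' • e' i + y' • f' i

variable {Q}
variable {t : ℕ} {D : Fin t → Submodule F (ι → F)} {e f e' f' : Fin t → ι → F}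

theorem Hyp4Blocks.hpol4 (H : Hyp4Blocks Q D e f e' f') (i : Fin t) (x y x' y' x₂ y₂ x₂' y₂' : F) :
    polar (⇑Q) (x • e i + y • f i + x' • e' i + y' • f' i)
      (x₂ • e i + y₂ • f i + x₂' • e' i + y₂' • f' i) =
      x * y₂ + y * x₂ + x' * y₂' + y' * x₂' := by
  have p_fe : polar (⇑Q) (f i) (e i) = 1 := by rw [polar_comm]; exact H.p_ef i
  have p_f'e' : polar (⇑Q) (f' i) (e' i) = 1 := by rw [polar_comm]; exact H.p_e'f' i
  have p_e'e : polar (⇑Q) (e' i) (e i) = 0 := by rw [polar_comm]; exact H.p_ee' i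
  have p_f'e : polar (⇑Q) (f' i) (e i) = 0 := by rw [polar_comm]; exact H.p_ef' i
  have p_e'f : polar (⇑Q) (e' i) (f i) = 0 := by rw [polar_comm]; exact H.p_fe' i
  have p_f'f : polar (⇑Q) (f' i) (f i) = 0 := by rw [polar_comm]; exact H.p_ff' i
  have p_ee : polar (⇑Q) (e i) (e i) = 0 := by rw [polar_self', H.hQe, mul_zero]
  have p_ff : polar (⇑Q) (f i) (f i) = 0 := by rw [polar_self', H.hQf, mul_zero]
  have p_e'e' : polar (⇑Q) (e' i) (e' i) = 0 := by rw [polar_self', H.hQe', mul_zero]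
  have p_f'f' : polar (⇑Q) (f' i) (f' i) = 0 := by rw [polar_self', H.hQf', mul_zero]
  simp only [polar_add_left, polar_add_right, polar_smul_left, polar_smul_right, H.p_ef, H.p_e'f',
    H.p_ee', H.p_ef', H.p_fe', H.p_ff', p_fe, p_f'e', p_e'e, p_f'e, p_e'f, p_f'f, p_ee, p_ff,
    p_e'e', p_f'f', smul_eq_mul]
  ring

theorem Hyp4Blocks.hQ4 (H : Hyp4Blocks Q D e f e' f') (h2 : (2 : F) = 0) (i : Fin t)
    (x y x' y' : F) :
    Q (x • e i + y • f i + x' • e' i + y' • f' i) = x * y + x' * y' := by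
  have h1 := H.hpol4 i x y x' y' x y x' y'
  rw [polar_self'] at h1
  have e1 : Q (x • e i + y • f i) = x * y := by
    rw [Q_comb2, H.hQe, H.hQf, H.p_ef]
    ring
  have e2 : Q (x' • e' i + y' • f' i) = x' * y' := by
    rw [Q_comb2, H.hQe', H.hQf', H.p_e'f']
    ring
  have e3 : polar (⇑Q) (x • e i + y • f i) (x' • e' i + y' • f' i) = 0 := by
    have := H.hpol4 i x y 0 0 0 0 x' y'
    simp only [zero_smul, add_zero, zero_add] at this
    rw [this]
    ring
  rw [add_assoc, Q_add_polar, e1, e2, e3, add_zero]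

theorem Hyp4Blocks.a1_mem (H : Hyp4Blocks Q D e f e' f') (i : Fin t) : e i + f i ∈ D i :=
  (D i).add_mem (H.he i) (H.hf i)

theorem Hyp4Blocks.a2_mem (H : Hyp4Blocks Q D e f e' f') (i : Fin t) :
    e i + e' i + f' i ∈ D i :=
  (D i).add_mem ((D i).add_mem (H.he i) (H.he' i)) (H.hf' i)

theorem Hyp4Blocks.a1_eq (i : Fin t) :
    e i + f i = (1 : F) • e i + (1 : F) • f i + (0 : F) • e' i + (0 : F) • f' i := by simp

theorem Hyp4Blocks.a2_eq (i : Fin t) :
    e i + e' i + f' i = (1 : F) • e i + (0 : F) • f i + (1 : F) • e' i + (1 : F) • f' i := by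
  simp

theorem Hyp4Blocks.Qa1 (H : Hyp4Blocks Q D e f e' f') (h2 : (2 : F) = 0) (i : Fin t) :
    Q (e i + f i) = 1 := by
  rw [Hyp4Blocks.a1_eq (e := e) (f := f) (e' := e') (f' := f') i, H.hQ4 h2]
  ring

theorem Hyp4Blocks.Qa2 (H : Hyp4Blocks Q D e f e' f') (h2 : (2 : F) = 0) (i : Fin t) :
    Q (e i + e' i + f' i) = 1 := by
  rw [Hyp4Blocks.a2_eq (e := e) (f := f) (e' := e') (f' := f') i, H.hQ4 h2]
  ring

theorem Hyp4Blocks.pa12 (H : Hyp4Blocks Q D e f e' f') (i : Fin t) :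
    polar (⇑Q) (e i + f i) (e i + e' i + f' i) = 1 := by
  rw [Hyp4Blocks.a1_eq (e := e) (f := f) (e' := e') (f' := f') i,
    Hyp4Blocks.a2_eq (e := e) (f := f) (e' := e') (f' := f') i, H.hpol4]
  ring

theorem Hyp4Blocks.pa1e (H : Hyp4Blocks Q D e f e' f') (i : Fin t) :
    polar (⇑Q) (e i + f i) (e i) = 1 := by
  rw [polar_add_left, polar_self', H.hQe, mul_zero, zero_add, polar_comm]
  exact H.p_ef i

/-- the norm-one vectors of a member either lie in the first triangle or are orthogonal to it -/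
theorem Hyp4Blocks.tri (H : Hyp4Blocks Q D e f e' f') (h2 : (2 : F) = 0)
    (hF2 : ∀ r : F, r = 0 ∨ r = 1) (i : Fin t) (s : ι → F) (hsi : s ∈ D i) (hQs : Q s = 1) :
    (polar (⇑Q) (e i + f i) s = 0 ∧ polar (⇑Q) (e i + e' i + f' i) s = 0) ∨
      s + polar (⇑Q) (e i + f i) s • (e i + e' i + f' i) -
        polar (⇑Q) (e i + e' i + f' i) s • (e i + f i) = 0 := by
  obtain ⟨x, y, x', y', rfl⟩ := H.hspan i s hsi
  rw [H.hQ4 h2] at hQs
  have p1 : polar (⇑Q) (e i + f i) (x • e i + y • f i + x' • e' i + y' • f' i) = x + y := by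
    rw [Hyp4Blocks.a1_eq (e := e) (f := f) (e' := e') (f' := f') i, H.hpol4]
    ring
  have p2 : polar (⇑Q) (e i + e' i + f' i) (x • e i + y • f i + x' • e' i + y' • f' i) =
      y + x' + y' := by
    rw [Hyp4Blocks.a2_eq (e := e) (f := f) (e' := e') (f' := f') i, H.hpol4]
    ring
  rw [p1, p2]
  have h11 : (1 : F) + 1 = 0 := by linear_combination h2
  have claim : (x + y = 0 ∧ y + x' + y' = 0) ∨
      (x + (x + y) - (y + x' + y') = 0 ∧ y - (y + x' + y') = 0 ∧ x' + (x + y) = 0 ∧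
        y' + (x + y) = 0) := by
    rcases hF2 x with rfl | rfl <;> rcases hF2 y with rfl | rfl <;>
      rcases hF2 x' with rfl | rfl <;> rcases hF2 y' with rfl | rfl <;>
      simp [h2, h11] at hQs ⊢
  rcases claim with h | ⟨c1, c2, c3, c4⟩
  · exact Or.inl h
  · right
    have : (x • e i + y • f i + x' • e' i + y' • f' i) + (x + y) • (e i + e' i + f' i) -
        (y + x' + y') • (e i + f i) = (x + (x + y) - (y + x' + y')) • e i +
        (y - (y + x' + y')) • f i + (x' + (x + y)) • e' i + (y' + (x + y)) • f' i := by module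
    rw [this, c1, c2, c3, c4]
    simp

end nm4

end Cfsg.Agent.helper13
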