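import Mathlib
import Cfsg.Agent.Lib_helper13_Nm4

/-! Decompositions into four-dimensional spaces of plus type over the field with two elements:
the stabiliser of the set of vectors of norm one of the members is an intermediate subgroup. -/

set_option autoImplicit false

namespace Cfsg.Agent.helper13

open Module Matrix QuadraticMap Cfsg.Agent.S0794

section nm5
variable {F : Type*} [Field F] [Fintype F] [DecidableEq F] {ι : Type} [Fintype ι] [DecidableEq ι]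
variable {Q : QuadraticForm F (ι → F)}
variable {t : ℕ} {D : Fin t → Submodule F (ι → F)} {e f e' f' : Fin t → ι → F}

/-- the first half -/
theorem Hyp4Blocks.first_half (H : Hyp4Blocks Q D e f e' f') (h2 : (2 : F) = 0)
    (hF2 : ∀ r : F, r = 0 ∨ r = 1)
    (hQ : (polarBilin Q).Nondegenerate) (hn : 7 ≤ Fintype.card ι) (ht : 2 ≤ t) :
    Cfsg.Geo.decompositionStabilizer D ⊓ Cfsg.Geo.omegaGL ⇑Q <
      setStab (frameSet Q D 1) ⊓ Cfsg.Geo.omegaGL ⇑Q := by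
  obtain ⟨i₀, hi₀⟩ : ∃ i : Fin t, i = ⟨0, by omega⟩ := ⟨_, rfl⟩
  obtain ⟨i₁, hi₁⟩ : ∃ i : Fin t, i = ⟨1, by omega⟩ := ⟨_, rfl⟩
  have h01 : i₀ ≠ i₁ := by rw [hi₀, hi₁]; simp
  obtain ⟨a₁, ha₁⟩ : ∃ a : ι → F, a = e i₀ + f i₀ := ⟨_, rfl⟩
  obtain ⟨a₂, ha₂⟩ : ∃ a : ι → F, a = e i₀ + e' i₀ + f' i₀ := ⟨_, rfl⟩
  obtain ⟨b₁, hb₁⟩ : ∃ a : ι → F, a = e i₁ + f i₁ := ⟨_, rfl⟩
  obtain ⟨b₂, hb₂⟩ : ∃ a : ι → F, a = e i₁ + e' i₁ + f' i₁ := ⟨_, rfl⟩
  have ma₁ : a₁ ∈ D i₀ := by rw [ha₁]; exact H.a1_mem i₀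
  have ma₂ : a₂ ∈ D i₀ := by rw [ha₂]; exact H.a2_mem i₀
  have mb₁ : b₁ ∈ D i₁ := by rw [hb₁]; exact H.a1_mem i₁
  have mb₂ : b₂ ∈ D i₁ := by rw [hb₂]; exact H.a2_mem i₁
  have qa₁ : Q a₁ = 1 := by rw [ha₁]; exact H.Qa1 h2 i₀
  have qa₂ : Q a₂ = 1 := by rw [ha₂]; exact H.Qa2 h2 i₀
  have qb₁ : Q b₁ = 1 := by rw [hb₁]; exact H.Qa1 h2 i₁
  have qb₂ : Q b₂ = 1 := by rw [hb₂]; exact H.Qa2 h2 i₁
  have pa : polar (⇑Q) a₁ a₂ = 1 := by rw [ha₁, ha₂]; exact H.pa12 i₀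
  have pb : polar (⇑Q) b₁ b₂ = 1 := by rw [hb₁, hb₂]; exact H.pa12 i₁
  have hQu : Q (a₁ + b₁) = 0 := by
    rw [Q_add_of_perp Q (H.horth i₀ i₁ h01 _ ma₁ _ mb₁), qa₁, qb₁]
    linear_combination h2
  have hQv : Q (a₂ + b₂) = 0 := by
    rw [Q_add_of_perp Q (H.horth i₀ i₁ h01 _ ma₂ _ mb₂), qa₂, qb₂]
    linear_combination h2
  have huv : polar (⇑Q) (a₁ + b₁) (a₂ + b₂) = 0 := by
    rw [polar_add_left, polar_add_right, polar_add_right, pa, pb,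
      H.horth i₀ i₁ h01 _ ma₁ _ mb₂, H.horth i₁ i₀ h01.symm _ mb₁ _ ma₂]
    linear_combination h2
  obtain ⟨g, hg⟩ : ∃ g : ↥(Cfsg.isometryGroup F ⇑Q), g = sieG Q (a₁ + b₁) (a₂ + b₂) hQu hQv huv 1 :=
    ⟨_, rfl⟩
  have hact : ∀ x, iact g x = x + (polar (⇑Q) (a₁ + b₁) x • (a₂ + b₂) -
      polar (⇑Q) (a₂ + b₂) x • (a₁ + b₁)) := by
    intro x
    rw [hg, iact_sieG, one_smul]
  have hginv : g⁻¹ = g := by
    rw [hg, sieG_inv]
    have : (-1 : F) = 1 := by linear_combination -h2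
    rw [this]
  have hmaps : ∀ s ∈ frameSet Q D 1, iact g s ∈ frameSet Q D 1 := by
    rintro s ⟨hQs, i, hsi⟩
    have hQ' : Q (iact g s) = 1 := by rw [Q_iact]; exact hQs
    by_cases hi0 : i = i₀
    · rw [hi0] at hsi
      have pu : polar (⇑Q) (a₁ + b₁) s = polar (⇑Q) a₁ s := by
        rw [polar_add_left, H.horth i₁ i₀ h01.symm _ mb₁ _ hsi, add_zero]
      have pv : polar (⇑Q) (a₂ + b₂) s = polar (⇑Q) a₂ s := by
        rw [polar_add_left, H.horth i₁ i₀ h01.symm _ mb₂ _ hsi, add_zero]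
      have htri := H.tri h2 hF2 i₀ s hsi hQs
      rw [← ha₁, ← ha₂] at htri
      rcases htri with ⟨h1, h3⟩ | h3
      · refine ⟨hQ', i₀, ?_⟩
        rw [hact, pu, pv, h1, h3]
        simpa using hsi
      · refine ⟨hQ', i₁, ?_⟩
        have e1 : iact g s = polar (⇑Q) a₁ s • b₂ - polar (⇑Q) a₂ s • b₁ := by
          rw [hact, pu, pv]
          have : s + (polar (⇑Q) a₁ s • (a₂ + b₂) - polar (⇑Q) a₂ s • (a₁ + b₁)) =
              (s + polar (⇑Q) a₁ s • a₂ - polar (⇑Q) a₂ s • a₁) +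
                (polar (⇑Q) a₁ s • b₂ - polar (⇑Q) a₂ s • b₁) := by module
          rw [this, h3, zero_add]
        rw [e1]
        exact (D i₁).sub_mem ((D i₁).smul_mem _ mb₂) ((D i₁).smul_mem _ mb₁)
    · by_cases hi1 : i = i₁
      · rw [hi1] at hsi
        have pu : polar (⇑Q) (a₁ + b₁) s = polar (⇑Q) b₁ s := by
          rw [polar_add_left, H.horth i₀ i₁ h01 _ ma₁ _ hsi, zero_add]
        have pv : polar (⇑Q) (a₂ + b₂) s = polar (⇑Q) b₂ s := by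
          rw [polar_add_left, H.horth i₀ i₁ h01 _ ma₂ _ hsi, zero_add]
        have htri := H.tri h2 hF2 i₁ s hsi hQs
        rw [← hb₁, ← hb₂] at htri
        rcases htri with ⟨h1, h3⟩ | h3
        · refine ⟨hQ', i₁, ?_⟩
          rw [hact, pu, pv, h1, h3]
          simpa using hsi
        · refine ⟨hQ', i₀, ?_⟩
          have e1 : iact g s = polar (⇑Q) b₁ s • a₂ - polar (⇑Q) b₂ s • a₁ := by
            rw [hact, pu, pv]
            have : s + (polar (⇑Q) b₁ s • (a₂ + b₂) - polar (⇑Q) b₂ s • (a₁ + b₁)) =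
                (s + polar (⇑Q) b₁ s • b₂ - polar (⇑Q) b₂ s • b₁) +
                  (polar (⇑Q) b₁ s • a₂ - polar (⇑Q) b₂ s • a₁) := by module
            rw [this, h3, zero_add]
          rw [e1]
          exact (D i₀).sub_mem ((D i₀).smul_mem _ ma₂) ((D i₀).smul_mem _ ma₁)
      · refine ⟨hQ', i, ?_⟩
        have pu : polar (⇑Q) (a₁ + b₁) s = 0 := by
          rw [polar_add_left, H.horth i₀ i (Ne.symm hi0) _ ma₁ _ hsi,
            H.horth i₁ i (Ne.symm hi1) _ mb₁ _ hsi, add_zero]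
        have pv : polar (⇑Q) (a₂ + b₂) s = 0 := by
          rw [polar_add_left, H.horth i₀ i (Ne.symm hi0) _ ma₂ _ hsi,
            H.horth i₁ i (Ne.symm hi1) _ mb₂ _ hsi, add_zero]
        rw [hact, pu, pv]
        simpa using hsi
  apply inf_omega_lt_inf_omega Q
  · intro h _ hh
    exact decompStab_le_setStab Q D 1 h hh
  · refine ⟨g, ?_, ?_, ?_⟩
    · have h1 := sieG_mem_comm_Sg Q hQ hn (a₁ + b₁) (a₂ + b₂) hQu hQv huv 1
      rw [hg, commutator_def]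
      exact Subgroup.commutator_mono le_top le_top h1
    · apply mem_setStab_of_maps Q _ _ hmaps
      rw [hginv]
      exact hmaps
    · rintro ⟨σ, hσ⟩
      -- `a₁` goes to `b₁` while `e' i₀ + f' i₀` is fixed
      have pa₁₁ : polar (⇑Q) a₁ a₁ = 0 := by rw [polar_self', h2, zero_mul]
      have pa₂₁ : polar (⇑Q) a₂ a₁ = 1 := by rw [polar_comm]; exact pa
      have e1 : iact g a₁ = b₁ := by
        rw [hact, polar_add_left, polar_add_left, pa₁₁, pa₂₁,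
          H.horth i₁ i₀ h01.symm _ mb₁ _ ma₁, H.horth i₁ i₀ h01.symm _ mb₂ _ ma₁]
        have : a₁ + (((0 : F) + 0) • (a₂ + b₂) - ((1 : F) + 0) • (a₁ + b₁)) = -b₁ := by module
        rw [this, neg_eq_self_of_two h2]
      obtain ⟨c, hc⟩ : ∃ c : ι → F, c = e' i₀ + f' i₀ := ⟨_, rfl⟩
      have mc : c ∈ D i₀ := by rw [hc]; exact (D i₀).add_mem (H.he' i₀) (H.hf' i₀)
      have hceq : c = (0 : F) • e i₀ + (0 : F) • f i₀ + (1 : F) • e' i₀ + (1 : F) • f' i₀ := by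
        rw [hc]; simp
      have pa₁c : polar (⇑Q) a₁ c = 0 := by
        rw [ha₁, Hyp4Blocks.a1_eq (e := e) (f := f) (e' := e') (f' := f') i₀, hceq, H.hpol4]
        ring
      have pa₂c : polar (⇑Q) a₂ c = 0 := by
        rw [ha₂, Hyp4Blocks.a2_eq (e := e) (f := f) (e' := e') (f' := f') i₀, hceq, H.hpol4]
        linear_combination h2
      have e2 : iact g c = c := by
        rw [hact, polar_add_left, polar_add_left, pa₁c, pa₂c,
          H.horth i₁ i₀ h01.symm _ mb₁ _ mc, H.horth i₁ i₀ h01.symm _ mb₂ _ mc]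
        module
      have m1 : b₁ ∈ D (σ i₀) := by
        rw [← hσ i₀]
        refine ⟨a₁, ma₁, ?_⟩
        rw [Matrix.toLin'_apply]
        exact e1
      have m2 : c ∈ D (σ i₀) := by
        rw [← hσ i₀]
        refine ⟨c, mc, ?_⟩
        rw [Matrix.toLin'_apply]
        exact e2
      have q1 : polar (⇑Q) b₁ (e i₁) ≠ 0 := by
        rw [hb₁, H.pa1e]
        exact one_ne_zero
      have q2 : polar (⇑Q) c (e' i₀) ≠ 0 := by
        have : e' i₀ = (0 : F) • e i₀ + (0 : F) • f i₀ + (1 : F) • e' i₀ + (0 : F) • f' i₀ := by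
          simp
        rw [this, hceq, H.hpol4]
        simp
      have s1 : σ i₀ = i₁ := by
        by_contra hcon
        exact q1 (H.horth (σ i₀) i₁ hcon _ m1 _ (H.he i₁))
      have s2 : σ i₀ = i₀ := by
        by_contra hcon
        exact q2 (H.horth (σ i₀) i₀ hcon _ m2 _ (H.he' i₀))
      exact h01 (s2.symm.trans s1)

omit [DecidableEq F] in
/-- the second half -/
theorem Hyp4Blocks.second_half (H : Hyp4Blocks Q D e f e' f') (h2 : (2 : F) = 0)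
    (hQ : (polarBilin Q).Nondegenerate)
    (hne : Fintype.card F ≠ 2 ∨ Fintype.card ι ≠ 4) (ht : 4 ≤ t) :
    setStab (frameSet Q D 1) ⊓ Cfsg.Geo.omegaGL ⇑Q < Cfsg.Geo.omegaGL ⇑Q := by
  obtain ⟨i₀, hi₀⟩ : ∃ i : Fin t, i = ⟨0, by omega⟩ := ⟨_, rfl⟩
  obtain ⟨i₁, hi₁⟩ : ∃ i : Fin t, i = ⟨1, by omega⟩ := ⟨_, rfl⟩
  obtain ⟨i₂, hi₂⟩ : ∃ i : Fin t, i = ⟨2, by omega⟩ := ⟨_, rfl⟩
  obtain ⟨i₃, hi₃⟩ : ∃ i : Fin t, i = ⟨3, by omega⟩ := ⟨_, rfl⟩
  have h01 : i₀ ≠ i₁ := by rw [hi₀, hi₁]; simp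
  have h02 : i₀ ≠ i₂ := by rw [hi₀, hi₂]; simp
  have h03 : i₀ ≠ i₃ := by rw [hi₀, hi₃]; simp
  have h12 : i₁ ≠ i₂ := by rw [hi₁, hi₂]; simp
  have h13 : i₁ ≠ i₃ := by rw [hi₁, hi₃]; simp
  have h23 : i₂ ≠ i₃ := by rw [hi₂, hi₃]; simp
  apply inf_omega_lt_omega Q
  obtain ⟨x, hx⟩ : ∃ x : ι → F, x = (e i₀ + f i₀) + (e i₁ + f i₁) + (e i₂ + f i₂) := ⟨_, rfl⟩
  have pvv : ∀ i j, i ≠ j → polar (⇑Q) (e i + f i) (e j + f j) = 0 := fun i j hij =>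
    H.horth i j hij _ (H.a1_mem i) _ (H.a1_mem j)
  have hQx : Q x = 1 := by
    have q1 : Q ((e i₀ + f i₀) + (e i₁ + f i₁)) = 1 + 1 := by
      rw [Q_add_of_perp Q (pvv i₀ i₁ h01), H.Qa1 h2, H.Qa1 h2]
    rw [hx, Q_add_of_perp Q (by rw [polar_add_left, pvv i₀ i₂ h02, pvv i₁ i₂ h12,
      add_zero]), q1, H.Qa1 h2]
    linear_combination h2
  have hQx0 : Q x ≠ 0 := by rw [hQx]; exact one_ne_zero
  have hQ30 : Q (e i₃ + f i₃) ≠ 0 := by rw [H.Qa1 h2]; exact one_ne_zero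
  refine ⟨reflG Q x hQx0 * reflG Q (e i₃ + f i₃) hQ30, ?_, ?_⟩
  · apply reflG_pair_mem_comm Q hQ hne
    rw [hQx, H.Qa1 h2]
  · intro hmem
    have h5 := (hmem (e i₀ + e' i₀ + f' i₀)).mpr ⟨H.Qa2 h2 i₀, i₀, H.a2_mem i₀⟩
    have px : polar (⇑Q) x (e i₀ + e' i₀ + f' i₀) = 1 := by
      rw [hx, polar_add_left, polar_add_left, H.pa12,
        H.horth i₁ i₀ h01.symm _ (H.a1_mem i₁) _ (H.a2_mem i₀),
        H.horth i₂ i₀ h02.symm _ (H.a1_mem i₂) _ (H.a2_mem i₀)]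
      ring
    have e1 : ((reflG Q x hQx0 * reflG Q (e i₃ + f i₃) hQ30 : ↥(Cfsg.isometryGroup F ⇑Q)) :
        GL ι F).1 *ᵥ (e i₀ + e' i₀ + f' i₀) = (e i₀ + e' i₀ + f' i₀) - x := by
      show iact (reflG Q x hQx0 * reflG Q (e i₃ + f i₃) hQ30) (e i₀ + e' i₀ + f' i₀) = _
      rw [iact_mul, iact_reflG_of_polar Q _ hQ30 _
        (H.horth i₃ i₀ h03.symm _ (H.a1_mem i₃) _ (H.a2_mem i₀)), iact_reflG, px,
        hQx, inv_one, one_mul, one_smul]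
    rw [e1] at h5
    obtain ⟨-, i, hi⟩ := h5
    have q1 : polar (⇑Q) ((e i₀ + e' i₀ + f' i₀) - x) (e i₁) ≠ 0 := by
      rw [polar_sub_left, H.horth i₀ i₁ h01 _ (H.a2_mem i₀) _ (H.he i₁), hx, polar_add_left,
        polar_add_left, H.pa1e, H.horth i₀ i₁ h01 _ (H.a1_mem i₀) _ (H.he i₁),
        H.horth i₂ i₁ h12.symm _ (H.a1_mem i₂) _ (H.he i₁)]
      simp
    have q2 : polar (⇑Q) ((e i₀ + e' i₀ + f' i₀) - x) (e i₂) ≠ 0 := by
      rw [polar_sub_left, H.horth i₀ i₂ h02 _ (H.a2_mem i₀) _ (H.he i₂), hx, polar_add_left,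
        polar_add_left, H.pa1e, H.horth i₀ i₂ h02 _ (H.a1_mem i₀) _ (H.he i₂),
        H.horth i₁ i₂ h12 _ (H.a1_mem i₁) _ (H.he i₂)]
      simp
    have s1 : i = i₁ := by
      by_contra hcon
      exact q1 (H.horth i i₁ hcon _ hi _ (H.he i₁))
    have s2 : i = i₂ := by
      by_contra hcon
      exact q2 (H.horth i i₂ hcon _ hi _ (H.he i₂))
    exact h12 (s1.symm.trans s2)

end nm5

end Cfsg.Agent.helper13
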