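import Mathlib
import Cfsg.Agent.Lib_helper13_Nm5

/-! The six families of orthogonal decompositions whose stabiliser in `Ω` is not maximal. -/

set_option autoImplicit false

namespace Cfsg.Agent.helper13

open Module Matrix QuadraticMap

section nm6
variable {F : Type*} [Field F] [Fintype F] {ι : Type} [Fintype ι] [DecidableEq ι]
variable (Q : QuadraticForm F (ι → F))

omit [Fintype F] in
theorem exists_hypBlocks {t : ℕ} (D : Fin t → Submodule F (ι → F))
    (hD : Cfsg.Geo.IsOrthogonalMDecomposition (⇑Q) 2 D)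
    (hplus : ∀ i, Cfsg.Geo.IsPlusTypeOn (⇑Q) (D i)) :
    ∃ e f : Fin t → ι → F, HypBlocks Q D e f := by
  have h := fun i => exists_hyp2 Q (D i) (hD.decomp.decomp.finrank_eq i)
    (nondegOn_of_geo Q (D i) (hD.decomp.nondegenerate i)) (hplus i)
  choose e he f hf hQe hQf hef hspan using h
  exact ⟨e, f, ⟨fun i j hij u hu v hv => hD.decomp.orthogonal i j hij u hu v hv, he, hf, hQe, hQf,
    hef, hspan⟩⟩

omit [Fintype F] in
theorem exists_hyp4Blocks (h2 : (2 : F) = 0) {t : ℕ} (D : Fin t → Submodule F (ι → F))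
    (hD : Cfsg.Geo.IsOrthogonalMDecomposition (⇑Q) 4 D)
    (hplus : ∀ i, Cfsg.Geo.IsPlusTypeOn (⇑Q) (D i)) :
    ∃ e f e' f' : Fin t → ι → F, Hyp4Blocks Q D e f e' f' := by
  have h := fun i => exists_hyp4 Q h2 (D i) (hD.decomp.decomp.finrank_eq i)
    (nondegOn_of_geo Q (D i) (hD.decomp.nondegenerate i)) (hplus i)
  choose e he f hf e' he' f' hf' hQe hQf hQe' hQf' p1 p2 p3 p4 p5 p6 hspan using h
  exact ⟨e, f, e', f', ⟨fun i j hij u hu v hv => hD.decomp.orthogonal i j hij u hu v hv, he, hf,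
    he', hf', hQe, hQf, hQe', hQf', p1, p2, p3, p4, p5, p6, hspan⟩⟩

theorem two_eq_zero_of_card24 (hq : Fintype.card F = 2 ∨ Fintype.card F = 4) : (2 : F) = 0 := by
  have h := FiniteField.cast_card_eq_zero F
  rcases hq with hq | hq
  · rw [hq] at h
    exact_mod_cast h
  · rw [hq] at h
    have h4 : (2 : F) * 2 = 0 := by
      have : ((4 : ℕ) : F) = 2 * 2 := by norm_num
      rw [← this]
      exact h
    exact mul_self_eq_zero.mp h4

theorem pow_card_sub_one' (m : ℕ) (hq : Fintype.card F = m + 1) (r : F) (hr : r ≠ 0) :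
    r ^ m = 1 := by
  have := FiniteField.pow_card_sub_one_eq_one r hr
  rw [hq] at this
  simpa using this

/-- plus-type planes over fields with three or five elements -/
theorem decomp_not_max_hyp_odd (h2 : (2 : F) ≠ 0) (hr : ∀ r : F, r ≠ 0 → r ^ 4 = 1)
    (hQ : (polarBilin Q).Nondegenerate) (hne : Fintype.card F ≠ 2 ∨ Fintype.card ι ≠ 4)
    {t : ℕ} (D : Fin t → Submodule F (ι → F))
    (hD : Cfsg.Geo.IsOrthogonalMDecomposition (⇑Q) 2 D)
    (hplus : ∀ i, Cfsg.Geo.IsPlusTypeOn (⇑Q) (D i)) (ht : 4 ≤ t) :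
    ∃ K : Subgroup (GL ι F), Cfsg.Geo.decompositionStabilizer D ⊓ Cfsg.Geo.omegaGL ⇑Q < K ∧
      K < Cfsg.Geo.omegaGL ⇑Q := by
  obtain ⟨e, f, H⟩ := exists_hypBlocks Q D hD hplus
  exact decomp_not_max_odd Q h2 hQ hne D 1 one_ne_zero H.horth
    (fun i => goodBlock'_of_hyp Q h2 hr (D i) (e i) (f i) (H.he i) (H.hf i) (H.hQe i) (H.hQf i)
      (H.hef i) (H.hspan i)) ht

/-- the six families -/
theorem decomp_six_not_max (hQ : (polarBilin Q).Nondegenerate) (hn : 13 ≤ Fintype.card ι)
    {t : ℕ} (k : ℕ) (D : Fin t → Submodule F (ι → F))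
    (hD : Cfsg.Geo.IsOrthogonalMDecomposition (⇑Q) k D)
    (hcase : ((k = 2 ∧ (Fintype.card F = 3 ∨ ((∀ i, Cfsg.Geo.IsPlusTypeOn (⇑Q) (D i)) ∧
      (Fintype.card F = 2 ∨ Fintype.card F = 4 ∨ Fintype.card F = 5)))) ∨
      (k = 3 ∧ Fintype.card F = 3) ∨
      (k = 4 ∧ Fintype.card F = 2 ∧ ∀ i, Cfsg.Geo.IsPlusTypeOn (⇑Q) (D i)))) :
    ∃ K : Subgroup (GL ι F), Cfsg.Geo.decompositionStabilizer D ⊓ Cfsg.Geo.omegaGL ⇑Q < K ∧
      K < Cfsg.Geo.omegaGL ⇑Q := by
  classical
  have hcard := decomp_card D hD.decomp.decomp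
  have hne : Fintype.card F ≠ 2 ∨ Fintype.card ι ≠ 4 := Or.inr (by omega)
  rcases hcase with ⟨rfl, hc⟩ | ⟨rfl, hq⟩ | ⟨rfl, hq, hplus⟩
  · have ht : 4 ≤ t := by omega
    rcases hc with hq | ⟨hplus, hq | hq | hq⟩
    · -- three elements
      have h2 := f3_two hq
      have hF := f3_cases hq
      by_cases hall : ∀ i, Cfsg.Geo.IsPlusTypeOn (⇑Q) (D i)
      · apply decomp_not_max_hyp_odd Q h2 _ hQ hne D hD hall ht
        intro r hr
        have h1 := pow_card_sub_one' 2 hq r hr
        have : r ^ 4 = (r ^ 2) ^ 2 := by ring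
        rw [this, h1, one_pow]
      · push Not at hall
        obtain ⟨i₀, hi₀⟩ := hall
        obtain ⟨c, hc, hg1⟩ := exists_goodBlock2 Q hF h2 (D i₀) (hD.decomp.decomp.finrank_eq _)
          (hD.decomp.nondegenerate _) hi₀
        exact decomp_not_max_odd Q h2 hQ hne D c hc
          (fun i j hij u hu v hv => hD.decomp.orthogonal i j hij u hu v hv)
          (fun i => goodBlock'_of_goodBlock Q _ c hc
            (goodBlock_transport Q _ _ c (hD.isometric i₀ i) hg1)) ht
    · -- two elements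
      have h2 := two_eq_zero_of_card24 (F := F) (Or.inl hq)
      have hF2 : ∀ r : F, r = 0 ∨ r = 1 := by
        intro r
        by_cases hr : r = 0
        · exact Or.inl hr
        · right
          have := pow_card_sub_one' 1 hq r hr
          simpa using this
      obtain ⟨e, f, H⟩ := exists_hypBlocks Q D hD hplus
      exact ⟨_, H.first_half h2 hQ hne (fun s _ s' _ => hF2 _) ht,
        H.second_half_two h2 hF2 hQ hne ht⟩
    · -- four elements
      have h2 := two_eq_zero_of_card24 (F := F) (Or.inr hq)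
      have hF4 : ∀ r : F, r ≠ 0 → r ^ 3 = 1 := fun r hr => pow_card_sub_one' 3 hq r hr
      obtain ⟨ω, hω0, hω1⟩ : ∃ ω : F, ω ≠ 0 ∧ ω ≠ 1 := by
        by_contra hcon
        push Not at hcon
        have hsub : (Finset.univ : Finset F) ⊆ {0, 1} := by
          intro r _
          by_cases hr : r = 0
          · rw [hr]; simp
          · rw [hcon r hr]; simp
        have h1 := Finset.card_le_card hsub
        have h3 : ({0, 1} : Finset F).card ≤ 2 := Finset.card_le_two
        rw [Finset.card_univ, hq] at h1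
        omega
      obtain ⟨e, f, H⟩ := exists_hypBlocks Q D hD hplus
      exact ⟨_, H.first_half h2 hQ hne (H.frame_bool_four h2 hF4) ht,
        H.second_half_four h2 hF4 ω hω0 hω1 hQ hne ht⟩
    · -- five elements
      have h2 : (2 : F) ≠ 0 := by
        intro h2
        have h := FiniteField.cast_card_eq_zero F
        rw [hq] at h
        have h5 : ((5 : ℕ) : F) = 2 * 2 + 1 := by norm_num
        rw [h5, h2] at h
        simp at h
      exact decomp_not_max_hyp_odd Q h2 (fun r hr => pow_card_sub_one' 4 hq r hr) hQ hne D hD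
        hplus ht
  · have ht : 4 ≤ t := by omega
    exact decomp_frame_not_max Q hq hQ D 3 (Or.inr rfl) hD ht (fun h => absurd h (by norm_num))
  · have ht : 4 ≤ t := by omega
    have h2 := two_eq_zero_of_card24 (F := F) (Or.inl hq)
    have hF2 : ∀ r : F, r = 0 ∨ r = 1 := by
      intro r
      by_cases hr : r = 0
      · exact Or.inl hr
      · right
        have := pow_card_sub_one' 1 hq r hr
        simpa using this
    obtain ⟨e, f, e', f', H⟩ := exists_hyp4Blocks Q h2 D hD hplus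
    exact ⟨_, H.first_half h2 hF2 hQ (by omega) (by omega), H.second_half h2 hQ hne ht⟩

end nm6

end Cfsg.Agent.helper13
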