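import Mathlib
import Cfsg.Agent.Lib_helper13_Nm6
import Cfsg.Prelude.Def_RootSubgroups

/-! Siegel transvection groups of totally singular lines: definition, conjugation, parametrisation by
Siegel transformations. All fields, all nondegenerate quadratic forms. -/

set_option autoImplicit false

namespace Cfsg.Agent.helper13

open Module Matrix QuadraticMap Cfsg.Agent.S0794

section sr1
variable {F : Type*} [Field F] {ι : Type} [Fintype ι] [DecidableEq ι]
variable (Q : QuadraticForm F (ι → F))

/-- a totally singular line given by a basis -/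
def IsSLine (p r : ι → F) : Prop :=
  LinearIndependent F ![p, r] ∧ Q p = 0 ∧ Q r = 0 ∧ polar (⇑Q) p r = 0

/-- the isometries fixing every vector orthogonal to `p` and `r` -/
def TgL (p r : ι → F) : Subgroup ↥(Cfsg.isometryGroup F ⇑Q) where
  carrier := {σ | ∀ v, polar (⇑Q) v p = 0 → polar (⇑Q) v r = 0 → iact σ v = v}
  mul_mem' := by
    intro a b ha hb v h1 h2
    rw [iact_mul, hb v h1 h2, ha v h1 h2]
  one_mem' := by
    intro v _ _
    exact iact_one v
  inv_mem' := by
    intro a ha v h1 h2
    have h := ha v h1 h2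
    have h3 := iact_inv_iact a v
    rw [h] at h3
    exact h3

theorem mem_TgL (p r : ι → F) (σ : ↥(Cfsg.isometryGroup F ⇑Q)) :
    σ ∈ TgL Q p r ↔ ∀ v, polar (⇑Q) v p = 0 → polar (⇑Q) v r = 0 → iact σ v = v := Iff.rfl

/-- monotonicity in the line -/
theorem TgL_le (p r p₂ r₂ : ι → F)
    (h : ∀ v, polar (⇑Q) v p = 0 → polar (⇑Q) v r = 0 →
      polar (⇑Q) v p₂ = 0 ∧ polar (⇑Q) v r₂ = 0) : TgL Q p₂ r₂ ≤ TgL Q p r := by
  intro σ hσ v h1 h2
  exact hσ v (h v h1 h2).1 (h v h1 h2).2

theorem TgL_swap (p r : ι → F) : TgL Q r p = TgL Q p r :=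
  le_antisymm (TgL_le Q p r r p (fun _ h1 h2 => ⟨h2, h1⟩))
    (TgL_le Q r p p r (fun _ h1 h2 => ⟨h2, h1⟩))

theorem IsSLine.swap {p r : ι → F} (h : IsSLine Q p r) : IsSLine Q r p := by
  obtain ⟨h1, h2, h3, h4⟩ := h
  refine ⟨?_, h3, h2, by rw [polar_comm]; exact h4⟩
  rw [LinearIndependent.pair_iff] at h1 ⊢
  intro s t hst
  have := h1 t s (by rw [add_comm]; exact hst)
  exact ⟨this.2, this.1⟩

/-- change of basis of the line -/
theorem IsSLine.comb {p r : ι → F} (h : IsSLine Q p r) (α β γ δ : F)
    (hdet : α * δ - β * γ ≠ 0) :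
    IsSLine Q (α • p + β • r) (γ • p + δ • r) ∧
      TgL Q (α • p + β • r) (γ • p + δ • r) = TgL Q p r := by
  obtain ⟨h1, h2, h3, h4⟩ := h
  have h4' : polar (⇑Q) r p = 0 := by rw [polar_comm]; exact h4
  have hpp : polar (⇑Q) p p = 0 := by rw [polar_self', h2, mul_zero]
  have hrr : polar (⇑Q) r r = 0 := by rw [polar_self', h3, mul_zero]
  refine ⟨⟨?_, ?_, ?_, ?_⟩, ?_⟩
  · rw [LinearIndependent.pair_iff] at h1 ⊢
    intro s t hst
    have e : (s * α + t * γ) • p + (s * β + t * δ) • r = 0 := by
      rw [← hst]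
      module
    obtain ⟨e1, e2⟩ := h1 _ _ e
    have e3 : s * (α * δ - β * γ) = 0 := by linear_combination δ * e1 - γ * e2
    have e4 : t * (α * δ - β * γ) = 0 := by linear_combination α * e2 - β * e1
    exact ⟨(mul_eq_zero.mp e3).resolve_right hdet, (mul_eq_zero.mp e4).resolve_right hdet⟩
  · rw [Q_comb2, h2, h3, h4]
    ring
  · rw [Q_comb2, h2, h3, h4]
    ring
  · simp only [polar_add_left, polar_add_right, polar_smul_left, polar_smul_right, hpp, hrr, h4, h4',
      smul_eq_mul]
    ring
  · apply le_antisymm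
    · apply TgL_le
      intro v e1 e2
      rw [polar_add_right, polar_smul_right, polar_smul_right, e1, e2, polar_add_right,
        polar_smul_right, polar_smul_right, e1, e2]
      simp
    · apply TgL_le
      intro v e1 e2
      rw [polar_add_right, polar_smul_right, polar_smul_right, smul_eq_mul, smul_eq_mul] at e1 e2
      have e3 : polar (⇑Q) v p * (α * δ - β * γ) = 0 := by linear_combination δ * e1 - β * e2
      have e4 : polar (⇑Q) v r * (α * δ - β * γ) = 0 := by linear_combination α * e2 - γ * e1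
      exact ⟨(mul_eq_zero.mp e3).resolve_right hdet, (mul_eq_zero.mp e4).resolve_right hdet⟩

theorem IsSLine.ne_zero_left {p r : ι → F} (h : IsSLine Q p r) : p ≠ 0 := by
  have := h.1.ne_zero 0
  simpa using this

theorem IsSLine.ne_zero_right {p r : ι → F} (h : IsSLine Q p r) : r ≠ 0 := by
  have := h.1.ne_zero 1
  simpa using this

/-- Siegel transformations of the line lie in its group -/
theorem sieG_mem_TgL (p r : ι → F) (hp : Q p = 0) (hr : Q r = 0) (hpr : polar (⇑Q) p r = 0)
    (c : F) : sieG Q p r hp hr hpr c ∈ TgL Q p r := by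
  intro v h1 h2
  rw [iact_sieG, polar_comm (⇑Q) p v, polar_comm (⇑Q) r v, h1, h2]
  simp

/-- conjugation of the group of a line -/
theorem conj_TgL (g : ↥(Cfsg.isometryGroup F ⇑Q)) (p r : ι → F) :
    Cfsg.conjBy (TgL Q p r) g = TgL Q (iact g p) (iact g r) := by
  ext σ
  constructor
  · rintro ⟨τ, hτ, rfl⟩
    intro v h1 h2
    show iact (g * τ * g⁻¹) v = v
    rw [iact_mul, iact_mul]
    have e1 : polar (⇑Q) (iact g⁻¹ v) p = 0 := by
      rw [← polar_iact g, iact_iact_inv]
      exact h1
    have e2 : polar (⇑Q) (iact g⁻¹ v) r = 0 := by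
      rw [← polar_iact g, iact_iact_inv]
      exact h2
    rw [hτ _ e1 e2, iact_iact_inv]
  · intro hσ
    refine ⟨g⁻¹ * σ * g, ?_, ?_⟩
    · intro v h1 h2
      rw [iact_mul, iact_mul]
      have := hσ (iact g v) (by rw [polar_iact]; exact h1) (by rw [polar_iact]; exact h2)
      rw [this, iact_inv_iact]
    · show g * (g⁻¹ * σ * g) * g⁻¹ = σ
      group

/-- vectors with prescribed polar values against an independent family -/
theorem exists_dual_vec (hQ : (polarBilin Q).Nondegenerate) {k : ℕ} (u : Fin k → ι → F)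
    (hu : LinearIndependent F u) (t : Fin k → F) :
    ∃ y : ι → F, ∀ i, polar (⇑Q) (u i) y = t i := by
  obtain ⟨Φ, hΦ⟩ : ∃ Φ : (ι → F) →ₗ[F] (Fin k → F), ∀ y i, Φ y i = polar (⇑Q) (u i) y :=
    ⟨LinearMap.pi (fun i => polarBilin Q (u i)), fun y i => by simp⟩
  have hker : LinearMap.ker Φ = orthQ Q (Submodule.span F (Set.range u)) := by
    ext y
    rw [LinearMap.mem_ker, mem_orth_iff]
    constructor
    · intro h w hw
      induction hw using Submodule.span_induction with
      | mem x hx =>
        obtain ⟨i, rfl⟩ := hx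
        rw [← hΦ, h]
        rfl
      | zero => exact polar_zero_left _ _
      | add x z _ _ hx hz => rw [polar_add_left, hx, hz, add_zero]
      | smul a x _ hx => rw [polar_smul_left, hx, smul_zero]
    · intro h
      ext i
      rw [hΦ]
      exact h _ (Submodule.subset_span ⟨i, rfl⟩)
  have h1 := finrank_add_finrank_orth Q hQ (Submodule.span F (Set.range u))
  rw [finrank_span_eq_card hu, Fintype.card_fin, ← hker] at h1
  have h2 := LinearMap.finrank_range_add_finrank_ker Φ
  rw [Module.finrank_fintype_fun_eq_card] at h2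
  have h3 : finrank F ↥(LinearMap.range Φ) = finrank F (Fin k → F) := by
    rw [Module.finrank_fintype_fun_eq_card, Fintype.card_fin]
    omega
  have h4 : LinearMap.range Φ = ⊤ := Submodule.eq_top_of_finrank_eq h3
  have h5 : t ∈ LinearMap.range Φ := by rw [h4]; exact Submodule.mem_top
  obtain ⟨y, hy⟩ := h5
  refine ⟨y, fun i => ?_⟩
  rw [← hΦ, hy]

/-- the dual pair of a basis of a line -/
theorem exists_dual_pair (hQ : (polarBilin Q).Nondegenerate) (p r : ι → F)
    (h : LinearIndependent F ![p, r]) :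
    ∃ ps rs : ι → F, polar (⇑Q) p ps = 1 ∧ polar (⇑Q) r ps = 0 ∧ polar (⇑Q) p rs = 0 ∧
      polar (⇑Q) r rs = 1 := by
  obtain ⟨ps, hps⟩ := exists_dual_vec Q hQ ![p, r] h ![1, 0]
  obtain ⟨rs, hrs⟩ := exists_dual_vec Q hQ ![p, r] h ![0, 1]
  exact ⟨ps, rs, hps 0, hps 1, hrs 0, hrs 1⟩

/-- the elements of the group of a line are its Siegel transformations -/
theorem mem_TgL_iff (hQ : (polarBilin Q).Nondegenerate) (p r : ι → F) (h : IsSLine Q p r)
    (σ : ↥(Cfsg.isometryGroup F ⇑Q)) :
    σ ∈ TgL Q p r ↔ ∃ c : F, σ = sieG Q p r h.2.1 h.2.2.1 h.2.2.2 c := by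
  constructor
  · intro hσ
    obtain ⟨hli, hp, hr, hpr⟩ := h
    have hrp : polar (⇑Q) r p = 0 := by rw [polar_comm]; exact hpr
    have hpp : polar (⇑Q) p p = 0 := by rw [polar_self', hp, mul_zero]
    have hrr : polar (⇑Q) r r = 0 := by rw [polar_self', hr, mul_zero]
    -- displacements lie in the line
    have hdisp : ∀ x, ∃ α β : F, iact σ x - x = α • p + β • r := by
      intro x
      have h1 : iact σ x - x ∈ orthQ Q (orthQ Q (Submodule.span F {p, r})) := by
        rw [mem_orth_iff]
        intro y hy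
        rw [mem_orth_iff] at hy
        have e1 : polar (⇑Q) y p = 0 := by
          rw [polar_comm]
          exact hy p (Submodule.subset_span (by simp))
        have e2 : polar (⇑Q) y r = 0 := by
          rw [polar_comm]
          exact hy r (Submodule.subset_span (by simp))
        have e3 := hσ y e1 e2
        rw [polar_sub_right]
        have e4 : polar (⇑Q) y (iact σ x) = polar (⇑Q) y x := by
          rw [← polar_iact σ y x, e3]
        rw [e4, sub_self]
      rw [orth_orth Q hQ] at h1
      obtain ⟨α, β, hαβ⟩ := Submodule.mem_span_pair.mp h1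
      exact ⟨α, β, hαβ.symm⟩
    obtain ⟨ps, rs, d1, d2, d3, d4⟩ := exists_dual_pair Q hQ p r hli
    obtain ⟨α₁, β₁, ha₁⟩ := hdisp ps
    obtain ⟨α₂, β₂, ha₂⟩ := hdisp rs
    -- the displacement of `x` in terms of the displacements of the dual pair
    have key : ∀ x y, polar (⇑Q) x (iact σ y - y) + polar (⇑Q) (iact σ x - x) y = 0 := by
      intro x y
      obtain ⟨α, β, hx⟩ := hdisp x
      obtain ⟨α', β', hy⟩ := hdisp y
      have e1 := polar_iact σ x y
      have e2 : iact σ x = x + (iact σ x - x) := by abel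
      have e3 : iact σ y = y + (iact σ y - y) := by abel
      rw [e2, e3, polar_add_left, polar_add_right, polar_add_right] at e1
      have e4 : polar (⇑Q) (iact σ x - x) (iact σ y - y) = 0 := by
        rw [hx, hy]
        simp only [polar_add_left, polar_add_right, polar_smul_left, polar_smul_right, hpp, hrr, hpr,
          hrp, smul_eq_mul]
        ring
      rw [e4] at e1
      linear_combination e1
    have hform : ∀ x, iact σ x = x - (α₁ * polar (⇑Q) x p + β₁ * polar (⇑Q) x r) • p -
        (α₂ * polar (⇑Q) x p + β₂ * polar (⇑Q) x r) • r := by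
      intro x
      obtain ⟨α, β, hx⟩ := hdisp x
      have k1 := key x ps
      have k2 := key x rs
      rw [ha₁, hx] at k1
      rw [ha₂, hx] at k2
      simp only [polar_add_left, polar_add_right, polar_smul_left, polar_smul_right, d1, d2, d3, d4,
        smul_eq_mul] at k1 k2
      have eα : α = -(α₁ * polar (⇑Q) x p + β₁ * polar (⇑Q) x r) := by linear_combination k1
      have eβ : β = -(α₂ * polar (⇑Q) x p + β₂ * polar (⇑Q) x r) := by linear_combination k2
      have : iact σ x = x + (α • p + β • r) := by rw [← hx]; abel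
      rw [this, eα, eβ]
      module
    -- the quadratic form is preserved
    have hq : ∀ x, (α₁ * polar (⇑Q) x p + β₁ * polar (⇑Q) x r) * polar (⇑Q) x p +
        (α₂ * polar (⇑Q) x p + β₂ * polar (⇑Q) x r) * polar (⇑Q) x r = 0 := by
      intro x
      have e1 := Q_iact σ x
      rw [hform x] at e1
      have e2 : x - (α₁ * polar (⇑Q) x p + β₁ * polar (⇑Q) x r) • p -
          (α₂ * polar (⇑Q) x p + β₂ * polar (⇑Q) x r) • r =
          x + ((-(α₁ * polar (⇑Q) x p + β₁ * polar (⇑Q) x r)) • p +
            (-(α₂ * polar (⇑Q) x p + β₂ * polar (⇑Q) x r)) • r) := by module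
      rw [e2, Q_add_polar, Q_comb2, hp, hr, hpr, polar_add_right, polar_smul_right,
        polar_smul_right, smul_eq_mul, smul_eq_mul] at e1
      linear_combination -e1
    have c1 : α₁ = 0 := by
      have := hq ps
      rw [polar_comm (⇑Q) ps p, polar_comm (⇑Q) ps r, d1, d2] at this
      linear_combination this
    have c2 : β₂ = 0 := by
      have := hq rs
      rw [polar_comm (⇑Q) rs p, polar_comm (⇑Q) rs r, d3, d4] at this
      linear_combination this
    have c3 : α₂ = -β₁ := by
      have := hq (ps + rs)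
      rw [polar_add_left, polar_add_left, polar_comm (⇑Q) ps p, polar_comm (⇑Q) ps r,
        polar_comm (⇑Q) rs p, polar_comm (⇑Q) rs r, d1, d2, d3, d4, c1, c2] at this
      linear_combination this
    refine ⟨β₁, ?_⟩
    apply iact_ext
    intro x
    rw [hform x, iact_sieG, c1, c2, c3, polar_comm (⇑Q) x p, polar_comm (⇑Q) x r]
    module
  · rintro ⟨c, rfl⟩
    exact sieG_mem_TgL Q p r _ _ _ c

end sr1

end Cfsg.Agent.helper13
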