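import Mathlib
import Cfsg.Agent.Lib_helper13_Sr1

/-! Siegel transvection groups: commutation, commutator formula, and the three relative positions of
two totally singular lines. -/

set_option autoImplicit false

namespace Cfsg.Agent.helper13

open Module Matrix QuadraticMap Cfsg.Agent.S0794
open scoped commutatorElement

section sr2
variable {F : Type*} [Field F] {ι : Type} [Fintype ι] [DecidableEq ι]
variable (Q : QuadraticForm F (ι → F))

theorem sieG_zero (u v : ι → F) (hu : Q u = 0) (hv : Q v = 0) (huv : polar (⇑Q) u v = 0) :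
    sieG Q u v hu hv huv 0 = 1 := by
  apply iact_ext
  intro x
  rw [iact_sieG, iact_one, zero_smul, add_zero]

theorem sieG_eq_one_iff (hQ : (polarBilin Q).Nondegenerate) (p r : ι → F) (h : IsSLine Q p r)
    (c : F) : sieG Q p r h.2.1 h.2.2.1 h.2.2.2 c = 1 ↔ c = 0 := by
  constructor
  · intro h1
    obtain ⟨ps, rs, d1, d2, d3, d4⟩ := exists_dual_pair Q hQ p r h.1
    have h3 := congrArg (fun g => iact g ps) h1
    simp only [iact_sieG, iact_one, d1, d2] at h3
    have h4 : c • r = 0 := by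
      have : ps + c • ((1 : F) • r - (0 : F) • p) = ps + c • r := by module
      rw [this] at h3
      exact add_eq_left.mp h3
    rcases smul_eq_zero.mp h4 with h5 | h5
    · exact h5
    · exact absurd h5 (h.ne_zero_right Q)
  · rintro rfl
    exact sieG_zero Q p r _ _ _

theorem TgL_comm (hQ : (polarBilin Q).Nondegenerate) (p r : ι → F) (h : IsSLine Q p r) :
    ∀ a ∈ TgL Q p r, ∀ b ∈ TgL Q p r, a * b = b * a := by
  intro a ha b hb
  obtain ⟨c, rfl⟩ := (mem_TgL_iff Q hQ p r h a).mp ha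
  obtain ⟨d, rfl⟩ := (mem_TgL_iff Q hQ p r h b).mp hb
  rw [sieG_mul, sieG_mul, add_comm]

theorem TgL_ne_bot (hQ : (polarBilin Q).Nondegenerate) (p r : ι → F) (h : IsSLine Q p r) :
    TgL Q p r ≠ ⊥ := by
  intro hbot
  have h1 : sieG Q p r h.2.1 h.2.2.1 h.2.2.2 1 ∈ TgL Q p r := sieG_mem_TgL Q p r _ _ _ 1
  rw [hbot, Subgroup.mem_bot, sieG_eq_one_iff Q hQ p r h] at h1
  exact one_ne_zero h1

/-- Siegel transformations of mutually orthogonal lines commute -/
theorem sieG_comm_of_perp (p r p' r' : ι → F) (hp : Q p = 0) (hr : Q r = 0)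
    (hpr : polar (⇑Q) p r = 0) (hp' : Q p' = 0) (hr' : Q r' = 0) (hpr' : polar (⇑Q) p' r' = 0)
    (h1 : polar (⇑Q) p p' = 0) (h2 : polar (⇑Q) p r' = 0) (h3 : polar (⇑Q) r p' = 0)
    (h4 : polar (⇑Q) r r' = 0) (c d : F) :
    sieG Q p r hp hr hpr c * sieG Q p' r' hp' hr' hpr' d =
      sieG Q p' r' hp' hr' hpr' d * sieG Q p r hp hr hpr c := by
  have g1 : polar (⇑Q) p' p = 0 := by rw [polar_comm]; exact h1
  have g2 : polar (⇑Q) r' p = 0 := by rw [polar_comm]; exact h2
  have g3 : polar (⇑Q) p' r = 0 := by rw [polar_comm]; exact h3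
  have g4 : polar (⇑Q) r' r = 0 := by rw [polar_comm]; exact h4
  have hrp : polar (⇑Q) r p = 0 := by rw [polar_comm]; exact hpr
  have hrp' : polar (⇑Q) r' p' = 0 := by rw [polar_comm]; exact hpr'
  apply iact_ext
  intro x
  rw [iact_mul, iact_mul]
  simp only [iact_sieG, polar_add_right, polar_sub_right, polar_smul_right, smul_eq_mul, h1, h2, h3,
    h4, g1, g2, g3, g4, hpr, hrp, hpr', hrp', polar_self', hp, hr, hp', hr', mul_zero, zero_mul,
    add_zero, sub_zero]
  module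

/-- Siegel transformations of two lines through a common point commute -/
theorem sieG_comm_of_common (u e f : ι → F) (t : F) (hu : Q u = 0) (he : Q e = 0) (hf : Q f = 0)
    (heu : polar (⇑Q) e u = 0) (hfu : polar (⇑Q) f u = 0) (c d : F) :
    sieG Q e u he hu heu c * sieG Q f (t • u) hf
        (by rw [QuadraticMap.map_smul, hu, smul_zero])
        (by rw [polar_smul_right, hfu, smul_zero]) d =
      sieG Q f (t • u) hf (by rw [QuadraticMap.map_smul, hu, smul_zero])
        (by rw [polar_smul_right, hfu, smul_zero]) d * sieG Q e u he hu heu c := by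
  have hue : polar (⇑Q) u e = 0 := by rw [polar_comm]; exact heu
  have huf : polar (⇑Q) u f = 0 := by rw [polar_comm]; exact hfu
  apply iact_ext
  intro x
  rw [iact_mul, iact_mul]
  simp only [iact_sieG, polar_add_right, polar_sub_right, polar_smul_right, polar_smul_left,
    smul_eq_mul, heu, hue, hfu, huf, polar_self', hu, he, hf, mul_zero, zero_mul, add_zero,
    sub_zero]
  rw [polar_comm (⇑Q) f e]
  module

/-- the commutator formula -/
theorem sieG_commutator (u v e f : ι → F) (hu : Q u = 0) (hv : Q v = 0)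
    (huv : polar (⇑Q) u v = 0) (he : Q e = 0) (hf : Q f = 0) (hef : polar (⇑Q) e f = 1)
    (heu : polar (⇑Q) e u = 0) (hev : polar (⇑Q) e v = 0) (hfu : polar (⇑Q) f u = 0)
    (hfv : polar (⇑Q) f v = 0) (c d : F) :
    ⁅sieG Q e u he hu heu c, sieG Q f v hf hv hfv d⁆ = sieG Q u v hu hv huv (c * d) := by
  have hue : polar (⇑Q) u e = 0 := by rw [polar_comm]; exact heu
  have hve : polar (⇑Q) v e = 0 := by rw [polar_comm]; exact hev
  have huf : polar (⇑Q) u f = 0 := by rw [polar_comm]; exact hfu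
  have hvf : polar (⇑Q) v f = 0 := by rw [polar_comm]; exact hfv
  have hfe : polar (⇑Q) f e = 1 := by rw [polar_comm]; exact hef
  have hvu : polar (⇑Q) v u = 0 := by rw [polar_comm]; exact huv
  apply iact_ext
  intro x
  rw [commutatorElement_def, iact_mul, iact_mul, iact_mul, sieG_inv, sieG_inv]
  simp only [iact_sieG, polar_add_right, polar_sub_right, polar_smul_right, polar_neg_right,
    smul_eq_mul, heu, hue, hev, hve, hfu, huf, hfv, hvf, hef, hfe, huv, hvu, polar_self', he, hf,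
    hu, hv, mul_zero, zero_mul, add_zero, sub_zero, mul_one, zero_add, zero_sub]
  module

/-- groups of mutually orthogonal lines commute elementwise -/
theorem TgL_commute_of_perp (hQ : (polarBilin Q).Nondegenerate) (p r p' r' : ι → F)
    (h : IsSLine Q p r) (h' : IsSLine Q p' r')
    (h1 : polar (⇑Q) p p' = 0) (h2 : polar (⇑Q) p r' = 0) (h3 : polar (⇑Q) r p' = 0)
    (h4 : polar (⇑Q) r r' = 0) : ∀ a ∈ TgL Q p r, ∀ b ∈ TgL Q p' r', a * b = b * a := by
  intro a ha b hb
  obtain ⟨c, rfl⟩ := (mem_TgL_iff Q hQ p r h a).mp ha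
  obtain ⟨d, rfl⟩ := (mem_TgL_iff Q hQ p' r' h' b).mp hb
  exact sieG_comm_of_perp Q p r p' r' _ _ _ _ _ _ h1 h2 h3 h4 c d

theorem commutator_eq_bot_of_commute {G : Type*} [Group G] (A B : Subgroup G)
    (h : ∀ a ∈ A, ∀ b ∈ B, a * b = b * a) : ⁅A, B⁆ = ⊥ := by
  rw [Subgroup.commutator_eq_bot_iff_le_centralizer]
  intro a ha b hb
  exact (h a ha b hb).symm

/-- the normalised position of rank one -/
theorem rank1_norm (hQ : (polarBilin Q).Nondegenerate) (p r p' r' : ι → F)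
    (h : IsSLine Q p r) (h' : IsSLine Q p' r') (hd : polar (⇑Q) r r' ≠ 0)
    (hdet : polar (⇑Q) p p' * polar (⇑Q) r r' - polar (⇑Q) p r' * polar (⇑Q) r p' = 0) :
    (∀ a ∈ TgL Q p r, ∀ b ∈ TgL Q p' r', a * b = b * a) ∨
    (∃ e u f v : ι → F, IsSLine Q e u ∧ TgL Q e u = TgL Q p r ∧ IsSLine Q f v ∧
      TgL Q f v = TgL Q p' r' ∧ IsSLine Q u v ∧ polar (⇑Q) e f = 1 ∧ polar (⇑Q) e v = 0 ∧
      polar (⇑Q) f u = 0) := by
  obtain ⟨a, ha⟩ : ∃ a : F, a = polar (⇑Q) p p' := ⟨_, rfl⟩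
  obtain ⟨b, hb⟩ : ∃ b : F, b = polar (⇑Q) p r' := ⟨_, rfl⟩
  obtain ⟨c, hc⟩ : ∃ c : F, c = polar (⇑Q) r p' := ⟨_, rfl⟩
  obtain ⟨d, hdd⟩ : ∃ d : F, d = polar (⇑Q) r r' := ⟨_, rfl⟩
  rw [← ha, ← hb, ← hc, ← hdd] at hdet
  rw [← hdd] at hd
  obtain ⟨hl1, e1⟩ := h.comb Q 0 1 1 (-b / d) (by simp)
  obtain ⟨hl2, e2⟩ := h'.comb Q 0 (1 / d) 1 (-c / d) (by
    have : (0 : F) * (-c / d) - 1 / d * 1 = -(1 / d) := by ring
    rw [this]
    exact neg_ne_zero.mpr (one_div_ne_zero hd))
  obtain ⟨e, he⟩ : ∃ e : ι → F, e = (0 : F) • p + (1 : F) • r := ⟨_, rfl⟩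
  obtain ⟨u, hu⟩ : ∃ u : ι → F, u = (1 : F) • p + (-b / d) • r := ⟨_, rfl⟩
  obtain ⟨f, hf⟩ : ∃ f : ι → F, f = (0 : F) • p' + (1 / d) • r' := ⟨_, rfl⟩
  obtain ⟨v, hv⟩ : ∃ v : ι → F, v = (1 : F) • p' + (-c / d) • r' := ⟨_, rfl⟩
  rw [← he, ← hu] at hl1 e1
  rw [← hf, ← hv] at hl2 e2
  have q1 : polar (⇑Q) p' p = a := by rw [polar_comm, ha]
  have q2 : polar (⇑Q) r' p = b := by rw [polar_comm, hb]
  have q3 : polar (⇑Q) p' r = c := by rw [polar_comm, hc]
  have q4 : polar (⇑Q) r' r = d := by rw [polar_comm, hdd]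
  have hef : polar (⇑Q) e f = 1 := by
    rw [he, hf]
    simp only [polar_add_left, polar_add_right, polar_smul_left, polar_smul_right, smul_eq_mul,
      ← ha, ← hb, ← hc, ← hdd]
    field_simp
    ring
  have hev : polar (⇑Q) e v = 0 := by
    rw [he, hv]
    simp only [polar_add_left, polar_add_right, polar_smul_left, polar_smul_right, smul_eq_mul,
      ← ha, ← hb, ← hc, ← hdd]
    field_simp
    ring
  have hfu : polar (⇑Q) f u = 0 := by
    rw [hf, hu]
    simp only [polar_add_left, polar_add_right, polar_smul_left, polar_smul_right, smul_eq_mul,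
      q1, q2, q3, q4]
    field_simp
    ring
  have huv : polar (⇑Q) u v = 0 := by
    rw [hu, hv]
    simp only [polar_add_left, polar_add_right, polar_smul_left, polar_smul_right, smul_eq_mul,
      ← ha, ← hb, ← hc, ← hdd]
    field_simp
    linear_combination hdet
  by_cases hind : LinearIndependent F ![u, v]
  · right
    exact ⟨e, u, f, v, hl1, e1, hl2, e2, ⟨hind, hl1.2.2.1, hl2.2.2.1, huv⟩, hef, hev, hfu⟩
  · left
    rw [LinearIndependent.pair_iff] at hind
    push Not at hind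
    obtain ⟨s, t, hst, hne⟩ := hind
    have hu0 : u ≠ 0 := hl1.ne_zero_right Q
    have hv0 : v ≠ 0 := hl2.ne_zero_right Q
    have ht0 : t ≠ 0 := by
      rintro rfl
      rw [zero_smul, add_zero] at hst
      rcases smul_eq_zero.mp hst with h5 | h5
      · exact hne h5 rfl
      · exact hu0 h5
    have hvu : v = (-s / t) • u := by
      have : t • v = (-s) • u := by
        rw [neg_smul]
        exact eq_neg_of_add_eq_zero_right hst
      rw [div_eq_mul_inv, mul_comm, mul_smul, ← this, smul_smul, inv_mul_cancel₀ ht0, one_smul]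
    rw [← e1, ← e2]
    intro x hx y hy
    obtain ⟨c', rfl⟩ := (mem_TgL_iff Q hQ e u hl1 x).mp hx
    obtain ⟨d', rfl⟩ := (mem_TgL_iff Q hQ f v hl2 y).mp hy
    subst hvu
    exact sieG_comm_of_common Q u e f (-s / t) hl1.2.2.1 hl1.2.1 hl2.2.1 hl1.2.2.2
      (by rw [hfu]) c' d'

/-- opposite lines: the normalised position -/
theorem sline_opp_norm (p r p' r' : ι → F) (h' : IsSLine Q p' r')
    (hdet : polar (⇑Q) p p' * polar (⇑Q) r r' - polar (⇑Q) p r' * polar (⇑Q) r p' ≠ 0) :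
    ∃ p₂ r₂ : ι → F, IsSLine Q p₂ r₂ ∧ TgL Q p₂ r₂ = TgL Q p' r' ∧ polar (⇑Q) p r₂ = 1 ∧
      polar (⇑Q) r p₂ = -1 ∧ polar (⇑Q) p p₂ = 0 ∧ polar (⇑Q) r r₂ = 0 := by
  obtain ⟨a, ha⟩ : ∃ a : F, a = polar (⇑Q) p p' := ⟨_, rfl⟩
  obtain ⟨b, hb⟩ : ∃ b : F, b = polar (⇑Q) p r' := ⟨_, rfl⟩
  obtain ⟨c, hc⟩ : ∃ c : F, c = polar (⇑Q) r p' := ⟨_, rfl⟩
  obtain ⟨d, hdd⟩ : ∃ d : F, d = polar (⇑Q) r r' := ⟨_, rfl⟩
  rw [← ha, ← hb, ← hc, ← hdd] at hdet
  obtain ⟨D, hD⟩ : ∃ D : F, D = a * d - b * c := ⟨_, rfl⟩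
  rw [← hD] at hdet
  obtain ⟨hl, e1⟩ := h'.comb Q (b / D) (-a / D) (d / D) (-c / D) (by
    have : b / D * (-c / D) - -a / D * (d / D) = 1 / D := by
      field_simp
      rw [hD]
      ring
    rw [this]
    exact one_div_ne_zero hdet)
  refine ⟨_, _, hl, e1, ?_, ?_, ?_, ?_⟩
  · simp only [polar_add_right, polar_smul_right, smul_eq_mul, ← ha, ← hb, ← hc, ← hdd]
    field_simp
    rw [hD]
    ring
  · simp only [polar_add_right, polar_smul_right, smul_eq_mul, ← ha, ← hb, ← hc, ← hdd]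
    field_simp
    rw [hD]
    ring
  · simp only [polar_add_right, polar_smul_right, smul_eq_mul, ← ha, ← hb, ← hc, ← hdd]
    field_simp
    ring
  · simp only [polar_add_right, polar_smul_right, smul_eq_mul, ← ha, ← hb, ← hc, ← hdd]
    field_simp
    ring

/-- the three relative positions of two totally singular lines -/
theorem sline_trichotomy (hQ : (polarBilin Q).Nondegenerate) (p r p' r' : ι → F)
    (h : IsSLine Q p r) (h' : IsSLine Q p' r') :
    (∀ a ∈ TgL Q p r, ∀ b ∈ TgL Q p' r', a * b = b * a) ∨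
    (∃ p₂ r₂ : ι → F, IsSLine Q p₂ r₂ ∧ TgL Q p₂ r₂ = TgL Q p' r' ∧ polar (⇑Q) p r₂ = 1 ∧
      polar (⇑Q) r p₂ = -1 ∧ polar (⇑Q) p p₂ = 0 ∧ polar (⇑Q) r r₂ = 0) ∨
    (∃ e u f v : ι → F, IsSLine Q e u ∧ TgL Q e u = TgL Q p r ∧ IsSLine Q f v ∧
      TgL Q f v = TgL Q p' r' ∧ IsSLine Q u v ∧ polar (⇑Q) e f = 1 ∧ polar (⇑Q) e v = 0 ∧
      polar (⇑Q) f u = 0) := by
  by_cases hdet : polar (⇑Q) p p' * polar (⇑Q) r r' - polar (⇑Q) p r' * polar (⇑Q) r p' = 0
  · by_cases hd : polar (⇑Q) r r' ≠ 0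
    · rcases rank1_norm Q hQ p r p' r' h h' hd hdet with h5 | h5
      · exact Or.inl h5
      · exact Or.inr (Or.inr h5)
    push Not at hd
    by_cases hc : polar (⇑Q) r p' ≠ 0
    · rcases rank1_norm Q hQ p r r' p' h (h'.swap Q) hc (by linear_combination -hdet) with h5 | h5
      · left
        rw [TgL_swap Q p' r'] at h5
        exact h5
      · right; right
        rw [TgL_swap Q p' r'] at h5
        exact h5
    push Not at hc
    by_cases hb : polar (⇑Q) p r' ≠ 0
    · rcases rank1_norm Q hQ r p p' r' (h.swap Q) h' hb (by linear_combination -hdet) with h5 | h5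
      · left
        rw [TgL_swap Q p r] at h5
        exact h5
      · right; right
        rw [TgL_swap Q p r] at h5
        exact h5
    push Not at hb
    by_cases ha : polar (⇑Q) p p' ≠ 0
    · rcases rank1_norm Q hQ r p r' p' (h.swap Q) (h'.swap Q) ha (by linear_combination hdet)
        with h5 | h5
      · left
        rw [TgL_swap Q p r, TgL_swap Q p' r'] at h5
        exact h5
      · right; right
        rw [TgL_swap Q p r, TgL_swap Q p' r'] at h5
        exact h5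
    push Not at ha
    left
    exact TgL_commute_of_perp Q hQ p r p' r' h h' ha hb hc hd
  · right; left
    exact sline_opp_norm Q p r p' r' h' hdet

end sr2

end Cfsg.Agent.helper13
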