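import Mathlib
import Cfsg.Agent.Lib_helper13_Sr2
import Cfsg.Agent.Lib_helper13_SimpB

/-! Subgroups of the isometry group and the singular pairs whose Siegel transformations they contain. -/

set_option autoImplicit false

namespace Cfsg.Agent.helper13

open Module Matrix QuadraticMap Cfsg.Agent.S0794
open scoped commutatorElement

section mx1
variable {F : Type*} [Field F] {ι : Type} [Fintype ι] [DecidableEq ι]
variable (Q : QuadraticForm F (ι → F))

/-- the subgroup `M` contains all Siegel transformations of the pair `u`, `v` -/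
def SPair (M : Subgroup ↥(Cfsg.isometryGroup F ⇑Q)) (u v : ι → F) : Prop :=
  ∀ (hu : Q u = 0) (hv : Q v = 0) (huv : polar (⇑Q) u v = 0) (c : F),
    sieG Q u v hu hv huv c ∈ M

variable {Q}

theorem SPair.conj {M : Subgroup ↥(Cfsg.isometryGroup F ⇑Q)} {u v : ι → F}
    (h : SPair Q M u v) (g : ↥(Cfsg.isometryGroup F ⇑Q)) (hg : g ∈ M) :
    SPair Q M (iact g u) (iact g v) := by
  intro hu hv huv c
  have hu' : Q u = 0 := by rw [← Q_iact g]; exact hu
  have hv' : Q v = 0 := by rw [← Q_iact g]; exact hv
  have huv' : polar (⇑Q) u v = 0 := by rw [← polar_iact g]; exact huv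
  have h1 := sieG_conj_gen Q u v hu' hv' huv' c g
  have h2 : g * sieG Q u v hu' hv' huv' c * g⁻¹ ∈ M :=
    M.mul_mem (M.mul_mem hg (h hu' hv' huv' c)) (M.inv_mem hg)
  rw [h1] at h2
  exact h2

/-- transfer along a proportionality of the displacement maps -/
theorem SPair.of_formula {M : Subgroup ↥(Cfsg.isometryGroup F ⇑Q)} {u v u' v' : ι → F}
    (h : SPair Q M u v) (hu : Q u = 0) (hv : Q v = 0) (huv : polar (⇑Q) u v = 0) (s : F)
    (hs : ∀ x, polar (⇑Q) u' x • v' - polar (⇑Q) v' x • u' =
      s • (polar (⇑Q) u x • v - polar (⇑Q) v x • u)) : SPair Q M u' v' := by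
  intro hu' hv' huv' c
  have : sieG Q u' v' hu' hv' huv' c = sieG Q u v hu hv huv (c * s) := by
    apply iact_ext
    intro x
    rw [iact_sieG, iact_sieG, hs, smul_smul]
  rw [this]
  exact h hu hv huv _

theorem SPair.swap {M : Subgroup ↥(Cfsg.isometryGroup F ⇑Q)} {u v : ι → F}
    (h : SPair Q M u v) : SPair Q M v u := by
  intro hv hu hvu c
  have huv : polar (⇑Q) u v = 0 := by rw [polar_comm]; exact hvu
  refine SPair.of_formula h hu hv huv (-1) ?_ hv hu hvu c
  intro x
  module

theorem SPair.smul_left {M : Subgroup ↥(Cfsg.isometryGroup F ⇑Q)} {u v : ι → F}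
    (h : SPair Q M u v) (hu : Q u = 0) (hv : Q v = 0) (huv : polar (⇑Q) u v = 0) (t : F) :
    SPair Q M (t • u) v := by
  refine SPair.of_formula h hu hv huv t ?_
  intro x
  rw [polar_smul_left]
  module

/-- replacing the second vector by a combination of both -/
theorem SPair.comb_right {M : Subgroup ↥(Cfsg.isometryGroup F ⇑Q)} {u v : ι → F}
    (h : SPair Q M u v) (hu : Q u = 0) (hv : Q v = 0) (huv : polar (⇑Q) u v = 0) (α β : F) :
    SPair Q M u (α • u + β • v) := by
  refine SPair.of_formula h hu hv huv β ?_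
  intro x
  rw [polar_add_left, polar_smul_left, polar_smul_left]
  module

/-- a pair with a zero vector -/
theorem SPair.zero_left (M : Subgroup ↥(Cfsg.isometryGroup F ⇑Q)) (v : ι → F) :
    SPair Q M 0 v := by
  intro hu hv huv c
  have : sieG Q 0 v hu hv huv c = 1 := by
    apply iact_ext
    intro x
    rw [iact_sieG, iact_one, polar_zero_left]
    simp
  rw [this]
  exact M.one_mem

/-- additivity in the second vector for mutually orthogonal singular vectors -/
theorem SPair.add {M : Subgroup ↥(Cfsg.isometryGroup F ⇑Q)} {u v v' : ι → F}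
    (h : SPair Q M u v) (h' : SPair Q M u v') (hu : Q u = 0) (hv : Q v = 0) (hv' : Q v' = 0)
    (huv : polar (⇑Q) u v = 0) (huv' : polar (⇑Q) u v' = 0) (hvv : polar (⇑Q) v v' = 0) :
    SPair Q M u (v + v') := by
  intro hu2 hvv2 huvv2 c
  have hvu : polar (⇑Q) v u = 0 := by rw [polar_comm]; exact huv
  have hvu' : polar (⇑Q) v' u = 0 := by rw [polar_comm]; exact huv'
  have hvv' : polar (⇑Q) v' v = 0 := by rw [polar_comm]; exact hvv
  have : sieG Q u (v + v') hu2 hvv2 huvv2 c = sieG Q u v hu hv huv c * sieG Q u v' hu hv' huv' c := by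
    apply iact_ext
    intro x
    rw [iact_mul]
    simp only [iact_sieG, polar_add_right, polar_add_left, polar_sub_right, polar_smul_right,
      smul_eq_mul, huv, huv', hvv, hvu, hvu', hvv', polar_self', hu, hv, hv', mul_zero, zero_mul,
      add_zero, sub_zero, zero_add]
    module
  rw [this]
  exact M.mul_mem (h hu hv huv c) (h' hu hv' huv' c)

/-- the commutator relation -/
theorem SPair.comm {M : Subgroup ↥(Cfsg.isometryGroup F ⇑Q)} {u v e f : ι → F}
    (h : SPair Q M e u) (h' : SPair Q M f v) (he : Q e = 0) (hf : Q f = 0)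
    (hef : polar (⇑Q) e f = 1)
    (heu : polar (⇑Q) e u = 0) (hev : polar (⇑Q) e v = 0) (hfu : polar (⇑Q) f u = 0)
    (hfv : polar (⇑Q) f v = 0) : SPair Q M u v := by
  intro hu hv huv c
  have h1 := sieG_commutator Q u v e f hu hv huv he hf hef heu hev hfu hfv c 1
  rw [mul_one] at h1
  rw [← h1]
  rw [commutatorElement_def]
  exact M.mul_mem (M.mul_mem (M.mul_mem (h he hu heu c) (h' hf hv hfv 1))
    (M.inv_mem (h he hu heu c))) (M.inv_mem (h' hf hv hfv 1))

/-- a subgroup containing all Siegel transformations contains the Siegel group -/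
theorem Sg_le_of_SPair (M : Subgroup ↥(Cfsg.isometryGroup F ⇑Q))
    (h : ∀ u v : ι → F, SPair Q M u v) : Sg Q ≤ M := by
  unfold Sg
  rw [Subgroup.closure_le]
  rintro g ⟨u, v, c, hu, hv, huv, hm⟩
  have hg : g = sieG Q u v hu hv huv c := by
    apply Subtype.ext
    apply Units.ext
    exact hm
  rw [hg]
  exact h u v hu hv huv c

end mx1

end Cfsg.Agent.helper13
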