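import Mathlib
import Cfsg.Agent.Lib_helper13_Mx1
import Cfsg.Agent.Lib_helper13_ClassChar

/-! Two complementary totally singular subspaces: projections, separating vectors, the Siegel
transformations preserving both subspaces. -/

set_option autoImplicit false

namespace Cfsg.Agent.helper13

open Module Matrix QuadraticMap Cfsg.Agent.S0794
open scoped commutatorElement

section mx2
variable {F : Type*} [Field F] {ι : Type} [Fintype ι] [DecidableEq ι]
variable (Q : QuadraticForm F (ι → F))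

/-- two complementary totally singular subspaces -/
structure TsPair (U W : Submodule F (ι → F)) : Prop where
  tsU : ∀ x ∈ U, Q x = 0
  tsW : ∀ x ∈ W, Q x = 0
  compl : IsCompl U W

variable {Q}
variable {U W : Submodule F (ι → F)}

theorem TsPair.symm (h : TsPair Q U W) : TsPair Q W U := ⟨h.tsW, h.tsU, h.compl.symm⟩

theorem TsPair.polarU (h : TsPair Q U W) {x y : ι → F} (hx : x ∈ U) (hy : y ∈ U) :
    polar (⇑Q) x y = 0 := by
  unfold polar
  rw [h.tsU _ (U.add_mem hx hy), h.tsU x hx, h.tsU y hy]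
  ring

theorem TsPair.polarW (h : TsPair Q U W) {x y : ι → F} (hx : x ∈ W) (hy : y ∈ W) :
    polar (⇑Q) x y = 0 := h.symm.polarU hx hy

/-- the component in `U` -/
noncomputable def TsPair.pr (h : TsPair Q U W) : (ι → F) →ₗ[F] (ι → F) :=
  U.projection W h.compl

theorem TsPair.pr_mem (h : TsPair Q U W) (x : ι → F) : h.pr x ∈ U :=
  Submodule.projection_apply_mem h.compl x

theorem TsPair.pr_add (h : TsPair Q U W) (x : ι → F) : h.pr x + h.symm.pr x = x :=
  Submodule.projection_add_projection_eq_self h.compl x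

theorem TsPair.pr_of_mem (h : TsPair Q U W) {x : ι → F} (hx : x ∈ U) : h.pr x = x :=
  Submodule.projection_apply_of_mem_left h.compl hx

theorem TsPair.pr_of_mem' (h : TsPair Q U W) {x : ι → F} (hx : x ∈ W) : h.pr x = 0 :=
  Submodule.projection_apply_of_mem_right h.compl hx

/-- polar values against `U` only see the component in `W` -/
theorem TsPair.polar_pr (h : TsPair Q U W) {u : ι → F} (hu : u ∈ U) (x : ι → F) :
    polar (⇑Q) u x = polar (⇑Q) u (h.symm.pr x) := by
  conv_lhs => rw [← h.pr_add x]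
  rw [polar_add_right, h.polarU hu (h.pr_mem x), zero_add]

theorem TsPair.polar_pr' (h : TsPair Q U W) {u : ι → F} (hu : u ∈ U) (x : ι → F) :
    polar (⇑Q) x u = polar (⇑Q) (h.symm.pr x) u := by
  rw [polar_comm, h.polar_pr hu, polar_comm]

/-- the components of a singular vector are orthogonal -/
theorem TsPair.polar_pr_pr (h : TsPair Q U W) {x : ι → F} (hx : Q x = 0) :
    polar (⇑Q) (h.pr x) (h.symm.pr x) = 0 := by
  have h1 : Q (h.pr x + h.symm.pr x) = 0 := by rw [h.pr_add]; exact hx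
  have h2 : polar (⇑Q) (h.pr x) (h.symm.pr x) =
      Q (h.pr x + h.symm.pr x) - Q (h.pr x) - Q (h.symm.pr x) := rfl
  rw [h2, h1, h.tsU _ (h.pr_mem x), h.tsW _ (h.symm.pr_mem x)]
  ring

/-- a vector orthogonal to both subspaces vanishes -/
theorem TsPair.eq_zero_of_perp (h : TsPair Q U W) (hQ : (polarBilin Q).Nondegenerate)
    (y : ι → F) (h1 : ∀ u ∈ U, polar (⇑Q) u y = 0) (h2 : ∀ w ∈ W, polar (⇑Q) w y = 0) : y = 0 := by
  apply hQ.2 y
  intro x
  show polar (⇑Q) x y = 0
  rw [← h.pr_add x, polar_add_left, h1 _ (h.pr_mem x), h2 _ (h.symm.pr_mem x), add_zero]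

/-- vectors of a subspace of large dimension orthogonal to two vectors and outside a small subspace -/
theorem exists_perp2_notMem (S Y : Submodule F (ι → F)) (p r : ι → F)
    (hd : finrank F Y + 2 < finrank F S) :
    ∃ v ∈ S, polar (⇑Q) v p = 0 ∧ polar (⇑Q) v r = 0 ∧ v ∉ Y := by
  by_contra hcon
  push Not at hcon
  let φ : ↥S →ₗ[F] F × F :=
    LinearMap.prod (((polarBilin Q).flip p).comp S.subtype) (((polarBilin Q).flip r).comp S.subtype)
  have hφ : ∀ x : ↥S, φ x = (polar (⇑Q) (x : ι → F) p, polar (⇑Q) (x : ι → F) r) := fun x => rfl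
  have hle : (LinearMap.ker φ).map S.subtype ≤ Y := by
    rintro x ⟨y, hy, rfl⟩
    rw [SetLike.mem_coe, LinearMap.mem_ker, hφ, Prod.mk_eq_zero] at hy
    exact hcon _ y.2 hy.1 hy.2
  have h1 : finrank F ↥(LinearMap.ker φ) ≤ finrank F ↥Y := by
    rw [← Submodule.finrank_map_subtype_eq S (LinearMap.ker φ)]
    exact Submodule.finrank_mono hle
  have h2 : finrank F ↥(LinearMap.range φ) ≤ 2 := by
    have := Submodule.finrank_le (LinearMap.range φ)
    rw [Module.finrank_prod, Module.finrank_self] at this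
    exact this
  have h3 := LinearMap.finrank_range_add_finrank_ker φ
  omega

/-- a vector of `W` pairing to one with a given vector of `U` and vanishing on a subspace of `U`
not containing it -/
theorem TsPair.exists_sep (h : TsPair Q U W) (hQ : (polarBilin Q).Nondegenerate)
    {x : ι → F} (hx : x ∈ U) (Y : Submodule F (ι → F)) (hY : Y ≤ U) (hxY : x ∉ Y) :
    ∃ f ∈ W, polar (⇑Q) f x = 1 ∧ ∀ y ∈ Y, polar (⇑Q) f y = 0 := by
  obtain ⟨φ, hφx, hφY⟩ := Submodule.exists_dual_map_eq_bot_of_notMem hxY inferInstance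
  have hQ' : LinearMap.BilinForm.Nondegenerate (polarBilin Q) := hQ
  obtain ⟨z, hz⟩ : ∃ z : ι → F, ∀ v, polar (⇑Q) z v = (φ x)⁻¹ * φ v := by
    refine ⟨(LinearMap.BilinForm.toDual (polarBilin Q) hQ').symm ((φ x)⁻¹ • φ), fun v => ?_⟩
    have := LinearMap.BilinForm.apply_toDual_symm_apply (B := polarBilin Q) (hB := hQ')
      ((φ x)⁻¹ • φ) v
    rw [LinearMap.smul_apply, smul_eq_mul] at this
    rw [← this]
    rfl
  refine ⟨h.symm.pr z, h.symm.pr_mem z, ?_, ?_⟩
  · rw [← h.polar_pr' hx, hz, inv_mul_cancel₀ hφx]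
  · intro y hy
    rw [← h.polar_pr' (hY hy), hz]
    have : φ y = 0 := by
      have h1 : φ y ∈ Y.map φ := ⟨y, hy, rfl⟩
      rw [hφY] at h1
      exact h1
    rw [this, mul_zero]

/-- nonzero vectors of `U` pair nontrivially with `W` -/
theorem TsPair.exists_pair_one (h : TsPair Q U W) (hQ : (polarBilin Q).Nondegenerate)
    {x : ι → F} (hx : x ∈ U) (hx0 : x ≠ 0) : ∃ f ∈ W, polar (⇑Q) f x = 1 := by
  obtain ⟨f, hf, h1, -⟩ := h.exists_sep hQ hx ⊥ bot_le (by simpa using hx0)
  exact ⟨f, hf, h1⟩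

/-- the stabiliser of the pair of subspaces, with inclusions -/
def StabLe (U W : Submodule F (ι → F)) (g : ↥(Cfsg.isometryGroup F ⇑Q)) : Prop :=
  (gmap g U ≤ U ∧ gmap g W ≤ W) ∨ (gmap g U ≤ W ∧ gmap g W ≤ U)

/-- Siegel transformations of a vector of `U` and a vector of `W` preserve both subspaces -/
theorem TsPair.stabLe_sieG (h : TsPair Q U W) {u w : ι → F} (hu : u ∈ U) (hw : w ∈ W)
    (huw : polar (⇑Q) u w = 0) (c : F) :
    StabLe U W (sieG Q u w (h.tsU u hu) (h.tsW w hw) huw c) := by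
  left
  constructor
  · intro y hy
    obtain ⟨x, hx, rfl⟩ := (mem_gmap _ U y).mp hy
    rw [iact_sieG, h.polarU hu hx, zero_smul, zero_sub]
    exact U.add_mem hx (U.smul_mem _ (U.neg_mem (U.smul_mem _ hu)))
  · intro y hy
    obtain ⟨x, hx, rfl⟩ := (mem_gmap _ W y).mp hy
    rw [iact_sieG, h.polarW hw hx, zero_smul, sub_zero]
    exact W.add_mem hx (W.smul_mem _ (W.smul_mem _ hw))

end mx2

end Cfsg.Agent.helper13
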