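import Mathlib
import Cfsg.Agent.Lib_helper13_Mx2

/-! An element of the Siegel group interchanging two complementary totally singular subspaces of even
dimension. -/

set_option autoImplicit false

namespace Cfsg.Agent.helper13

open Module Matrix QuadraticMap Cfsg.Agent.S0794
open scoped commutatorElement

section mx3
variable {F : Type*} [Field F] {ι : Type} [Fintype ι] [DecidableEq ι]
variable {Q : QuadraticForm F (ι → F)}

/-- the Weyl element of a hyperbolic four-space -/
theorem exists_wswap (e1 e2 f1 f2 : ι → F) (he1 : Q e1 = 0) (he2 : Q e2 = 0) (hf1 : Q f1 = 0)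
    (hf2 : Q f2 = 0) (hee : polar (⇑Q) e1 e2 = 0) (hff : polar (⇑Q) f1 f2 = 0)
    (h11 : polar (⇑Q) e1 f1 = 1) (h22 : polar (⇑Q) e2 f2 = 1) (h12 : polar (⇑Q) e1 f2 = 0)
    (h21 : polar (⇑Q) e2 f1 = 0) :
    ∃ w ∈ Sg Q, iact w e1 = f2 ∧ iact w e2 = -f1 ∧ iact w f1 = e2 ∧ iact w f2 = -e1 ∧
      ∀ x, polar (⇑Q) e1 x = 0 → polar (⇑Q) e2 x = 0 → polar (⇑Q) f1 x = 0 →
        polar (⇑Q) f2 x = 0 → iact w x = x := by
  have hee' : polar (⇑Q) e2 e1 = 0 := by rw [polar_comm]; exact hee
  have hff' : polar (⇑Q) f2 f1 = 0 := by rw [polar_comm]; exact hff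
  have h11' : polar (⇑Q) f1 e1 = 1 := by rw [polar_comm]; exact h11
  have h22' : polar (⇑Q) f2 e2 = 1 := by rw [polar_comm]; exact h22
  have h12' : polar (⇑Q) f2 e1 = 0 := by rw [polar_comm]; exact h12
  have h21' : polar (⇑Q) f1 e2 = 0 := by rw [polar_comm]; exact h21
  refine ⟨sieG Q e1 e2 he1 he2 hee 1 * sieG Q f1 f2 hf1 hf2 hff 1 * sieG Q e1 e2 he1 he2 hee 1,
    (Sg Q).mul_mem ((Sg Q).mul_mem (sieG_mem_Sg Q _ _ _ _ _ _) (sieG_mem_Sg Q _ _ _ _ _ _))
      (sieG_mem_Sg Q _ _ _ _ _ _), ?_, ?_, ?_, ?_, ?_⟩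
  · rw [iact_mul, iact_mul]
    simp only [iact_sieG, polar_add_right, polar_sub_right, polar_smul_right, smul_eq_mul,
      polar_neg_right, hee, hee', hff, hff', h11, h11', h22, h22', h12, h12', h21, h21',
      polar_self', he1, he2, hf1, hf2, mul_zero, zero_mul, add_zero, sub_zero, zero_add, mul_one]
    module
  · rw [iact_mul, iact_mul]
    simp only [iact_sieG, polar_add_right, polar_sub_right, polar_smul_right, smul_eq_mul,
      polar_neg_right, hee, hee', hff, hff', h11, h11', h22, h22', h12, h12', h21, h21',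
      polar_self', he1, he2, hf1, hf2, mul_zero, zero_mul, add_zero, sub_zero, zero_add, mul_one]
    module
  · rw [iact_mul, iact_mul]
    simp only [iact_sieG, polar_add_right, polar_sub_right, polar_smul_right, smul_eq_mul,
      polar_neg_right, hee, hee', hff, hff', h11, h11', h22, h22', h12, h12', h21, h21',
      polar_self', he1, he2, hf1, hf2, mul_zero, zero_mul, add_zero, sub_zero, zero_add, mul_one]
    module
  · rw [iact_mul, iact_mul]
    simp only [iact_sieG, polar_add_right, polar_sub_right, polar_smul_right, smul_eq_mul,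
      polar_neg_right, hee, hee', hff, hff', h11, h11', h22, h22', h12, h12', h21, h21',
      polar_self', he1, he2, hf1, hf2, mul_zero, zero_mul, add_zero, sub_zero, zero_add, mul_one]
    module
  · intro x x1 x2 x3 x4
    rw [iact_mul, iact_mul]
    simp only [iact_sieG, x1, x2, x3, x4, zero_smul, sub_zero, smul_zero, add_zero]

/-- images of spanned subspaces -/
theorem gmap_le_of_span {κ : Type*} (s : ↥(Cfsg.isometryGroup F ⇑Q)) (S T : Submodule F (ι → F))
    (v : κ → ι → F) (hS : S ≤ Submodule.span F (Set.range v)) (hv : ∀ i, iact s (v i) ∈ T) :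
    gmap s S ≤ T := by
  have key : ∀ x ∈ Submodule.span F (Set.range v), iact s x ∈ T := by
    intro x hx
    induction hx using Submodule.span_induction with
    | mem z hz =>
      obtain ⟨i, rfl⟩ := hz
      exact hv i
    | zero => rw [iact_zero]; exact T.zero_mem
    | add a b _ _ ha hb =>
      rw [iact_add]
      exact T.add_mem ha hb
    | smul c a _ ha =>
      rw [iact_smul]
      exact T.smul_mem c ha
  intro y hy
  obtain ⟨x, hx, rfl⟩ := (mem_gmap s S y).mp hy
  exact key x (hS hx)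

/-- successive Weyl elements along a hyperbolic family -/
theorem exists_swap_aux {U W : Submodule F (ι → F)} (hP : TsPair Q U W) {k : ℕ}
    (e f : Fin k → ι → F) (heU : ∀ i, e i ∈ U) (hfW : ∀ i, f i ∈ W)
    (hef : ∀ i j, polar (⇑Q) (e i) (f j) = if i = j then 1 else 0) :
    ∀ m : ℕ, 2 * m ≤ k → ∃ s ∈ Sg Q,
      (∀ i : Fin k, i.val < 2 * m → iact s (e i) ∈ W ∧ iact s (f i) ∈ U) ∧
      (∀ i : Fin k, 2 * m ≤ i.val → iact s (e i) = e i ∧ iact s (f i) = f i) := by
  intro m
  induction m with
  | zero =>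
    intro _
    refine ⟨1, (Sg Q).one_mem, ?_, ?_⟩
    · intro i hi
      omega
    · intro i _
      exact ⟨iact_one _, iact_one _⟩
  | succ m ih =>
    intro hm
    obtain ⟨s, hs, hs1, hs2⟩ := ih (by omega)
    obtain ⟨i0, hi0⟩ : ∃ i0 : Fin k, i0.val = 2 * m := ⟨⟨2 * m, by omega⟩, rfl⟩
    obtain ⟨i1, hi1⟩ : ∃ i1 : Fin k, i1.val = 2 * m + 1 := ⟨⟨2 * m + 1, by omega⟩, rfl⟩
    have hne : i0 ≠ i1 := by
      intro h
      rw [h] at hi0
      omega
    have hfe : ∀ i j, polar (⇑Q) (f j) (e i) = if i = j then 1 else 0 := by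
      intro i j
      rw [polar_comm]
      exact hef i j
    obtain ⟨w, hw, w1, w2, w3, w4, w5⟩ := exists_wswap (e i0) (e i1) (f i0) (f i1)
      (hP.tsU _ (heU i0)) (hP.tsU _ (heU i1)) (hP.tsW _ (hfW i0)) (hP.tsW _ (hfW i1))
      (hP.polarU (heU i0) (heU i1)) (hP.polarW (hfW i0) (hfW i1))
      (by rw [hef, if_pos rfl]) (by rw [hef, if_pos rfl]) (by rw [hef, if_neg hne])
      (by rw [hef, if_neg hne.symm])
    have hfix : ∀ i : Fin k, i ≠ i0 → i ≠ i1 → iact w (e i) = e i ∧ iact w (f i) = f i := by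
      intro i n0 n1
      constructor
      · apply w5
        · exact hP.polarU (heU i0) (heU i)
        · exact hP.polarU (heU i1) (heU i)
        · rw [hfe, if_neg n0]
        · rw [hfe, if_neg n1]
      · apply w5
        · rw [hef, if_neg (Ne.symm n0)]
        · rw [hef, if_neg (Ne.symm n1)]
        · exact hP.polarW (hfW i0) (hfW i)
        · exact hP.polarW (hfW i1) (hfW i)
    refine ⟨s * w, (Sg Q).mul_mem hs hw, ?_, ?_⟩
    · intro i hi
      rw [iact_mul, iact_mul]
      by_cases c0 : i = i0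
      · rw [c0, w1, w3, (hs2 i1 (by omega)).2, (hs2 i1 (by omega)).1]
        exact ⟨hfW i1, heU i1⟩
      by_cases c1 : i = i1
      · rw [c1, w2, w4, iact_neg, iact_neg, (hs2 i0 (by omega)).2, (hs2 i0 (by omega)).1]
        exact ⟨W.neg_mem (hfW i0), U.neg_mem (heU i0)⟩
      rw [(hfix i c0 c1).1, (hfix i c0 c1).2]
      apply hs1
      have : i.val ≠ 2 * m := fun h => c0 (Fin.ext (by rw [h, hi0]))
      have : i.val ≠ 2 * m + 1 := fun h => c1 (Fin.ext (by rw [h, hi1]))
      omega
    · intro i hi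
      rw [iact_mul, iact_mul]
      have c0 : i ≠ i0 := by
        intro h
        rw [h] at hi
        omega
      have c1 : i ≠ i1 := by
        intro h
        rw [h] at hi
        omega
      rw [(hfix i c0 c1).1, (hfix i c0 c1).2]
      exact hs2 i (by omega)

/-- an element of the Siegel group interchanging the two subspaces -/
theorem TsPair.exists_swap {U W : Submodule F (ι → F)} (hP : TsPair Q U W)
    (hQ : (polarBilin Q).Nondegenerate) (k : ℕ) (hkU : finrank F ↥U = k) (hke : Even k) :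
    ∃ s ∈ Sg Q, gmap s U ≤ W ∧ gmap s W ≤ U := by
  let b : Basis (Fin k) F ↥U := finBasisOfFinrankEq F ↥U hkU
  obtain ⟨e, he⟩ : ∃ e : Fin k → ι → F, e = fun i => ((b i : ↥U) : ι → F) := ⟨_, rfl⟩
  have heU : ∀ i, e i ∈ U := by
    intro i
    rw [he]
    exact (b i).2
  have hli : LinearIndependent F e := by
    have := b.linearIndependent.map' U.subtype (Submodule.ker_subtype U)
    rw [he]
    exact this
  have hspanU : Submodule.span F (Set.range e) = U := by
    have h1 : e = U.subtype ∘ b := by rw [he]; rfl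
    rw [h1, Set.range_comp, ← Submodule.map_span, b.span_eq, Submodule.map_subtype_top]
  have hz : ∀ j : Fin k, ∃ z : ι → F, ∀ i, polar (⇑Q) (e i) z = (Pi.single j (1 : F) : Fin k → F) i :=
    fun j => exists_dual_vec Q hQ e hli (Pi.single j 1)
  choose z hz using hz
  obtain ⟨f, hf⟩ : ∃ f : Fin k → ι → F, f = fun j => hP.symm.pr (z j) := ⟨_, rfl⟩
  have hfW : ∀ j, f j ∈ W := by
    intro j
    rw [hf]
    exact hP.symm.pr_mem _
  have hef : ∀ i j, polar (⇑Q) (e i) (f j) = if i = j then 1 else 0 := by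
    intro i j
    rw [hf]
    show polar (⇑Q) (e i) (hP.symm.pr (z j)) = _
    rw [← hP.polar_pr (heU i), hz, Pi.single_apply]
  have hspanW : W ≤ Submodule.span F (Set.range f) := by
    intro x hx
    obtain ⟨y, hy⟩ : ∃ y, y = x - ∑ i, polar (⇑Q) (e i) x • f i := ⟨_, rfl⟩
    have hyW : y ∈ W := by
      rw [hy]
      exact W.sub_mem hx (W.sum_mem (fun i _ => W.smul_mem _ (hfW i)))
    have h1 : ∀ j, polar (⇑Q) (e j) y = 0 := by
      intro j
      rw [hy, polar_sub_right]
      have : polar (⇑Q) (e j) (∑ i, polar (⇑Q) (e i) x • f i) =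
          ∑ i, polar (⇑Q) (e i) x * polar (⇑Q) (e j) (f i) := by
        have := map_sum ((polarBilin Q) (e j)) (fun i => polar (⇑Q) (e i) x • f i) Finset.univ
        simp only [polarBilin_apply_apply] at this
        rw [this]
        apply Finset.sum_congr rfl
        intro i _
        rw [polar_smul_right, smul_eq_mul]
      rw [this]
      simp only [hef, mul_ite, mul_one, mul_zero, Finset.sum_ite_eq, Finset.mem_univ, if_true,
        sub_self]
    have h2 : ∀ u ∈ U, polar (⇑Q) u y = 0 := by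
      intro u hu
      rw [← hspanU] at hu
      induction hu using Submodule.span_induction with
      | mem a ha =>
        obtain ⟨i, rfl⟩ := ha
        exact h1 i
      | zero => exact polar_zero_left _ _
      | add a b _ _ ha hb => rw [polar_add_left, ha, hb, add_zero]
      | smul c a _ ha => rw [polar_smul_left, ha, smul_zero]
    have h3 : y = 0 := hP.eq_zero_of_perp hQ y h2 (fun w hw => hP.polarW hw hyW)
    rw [h3] at hy
    have h4 : x = ∑ i, polar (⇑Q) (e i) x • f i := sub_eq_zero.mp hy.symm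
    rw [h4]
    exact Submodule.sum_mem _ (fun i _ => Submodule.smul_mem _ _ (Submodule.subset_span ⟨i, rfl⟩))
  obtain ⟨m, hm⟩ := hke
  obtain ⟨s, hs, hs1, -⟩ := exists_swap_aux hP e f heU hfW hef m (by omega)
  refine ⟨s, hs, ?_, ?_⟩
  · exact gmap_le_of_span s U W e (by rw [hspanU]) (fun i => (hs1 i (by omega)).1)
  · exact gmap_le_of_span s W U f hspanW (fun i => (hs1 i (by omega)).2)

end mx3

end Cfsg.Agent.helper13
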