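import Mathlib
import Cfsg.Agent.Lib_helper13_Mx3

/-! Overgroups of the stabiliser of a pair of complementary totally singular subspaces:
spreading singular pairs. -/

set_option autoImplicit false

namespace Cfsg.Agent.helper13

open Module Matrix QuadraticMap Cfsg.Agent.S0794
open scoped commutatorElement

section mx4
variable {F : Type*} [Field F] {ι : Type} [Fintype ι] [DecidableEq ι]
variable {Q : QuadraticForm F (ι → F)}
variable {U W : Submodule F (ι → F)}

theorem finrank_span_pair_le2 (a b : ι → F) : finrank F ↥(Submodule.span F {a, b}) ≤ 2 := by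
  classical
  have h := finrank_span_finset_le_card (R := F) ({a, b} : Finset (ι → F))
  rw [Set.finrank] at h
  have e : ((({a, b} : Finset (ι → F)) : Set (ι → F))) = {a, b} := by
    push_cast
    rfl
  rw [e] at h
  exact h.trans Finset.card_le_two

theorem finrank_span_triple_le3 (a b c : ι → F) :
    finrank F ↥(Submodule.span F {a, b, c}) ≤ 3 := by
  classical
  have h := finrank_span_finset_le_card (R := F) ({a, b, c} : Finset (ι → F))
  rw [Set.finrank] at h
  have e : ((({a, b, c} : Finset (ι → F)) : Set (ι → F))) = {a, b, c} := by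
    push_cast
    rfl
  rw [e] at h
  exact h.trans Finset.card_le_three

/-- first spreading step inside `U`: the second vector is arbitrary -/
theorem TsPair.spread1 (hP : TsPair Q U W) (hQ : (polarBilin Q).Nondegenerate)
    (M : Subgroup ↥(Cfsg.isometryGroup F ⇑Q)) (hmix : ∀ u ∈ U, ∀ w ∈ W, SPair Q M u w)
    {a b : ι → F} (hab : SPair Q M a b) (ha : a ∈ U) (hb : b ∈ U)
    (hba : b ∉ Submodule.span F {a}) : ∀ b' ∈ U, SPair Q M a b' := by
  intro b' hb'
  by_cases hc : b' ∈ Submodule.span F {a, b}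
  · obtain ⟨α, β, rfl⟩ := Submodule.mem_span_pair.mp hc
    exact hab.comb_right (hP.tsU a ha) (hP.tsU b hb) (hP.polarU ha hb) α β
  · have hnot : b ∉ Submodule.span F {a, b' - b} := by
      intro hmem
      obtain ⟨α, β, h⟩ := Submodule.mem_span_pair.mp hmem
      by_cases hβ : β = 0
      · rw [hβ, zero_smul, add_zero] at h
        exact hba (Submodule.mem_span_singleton.mpr ⟨α, h⟩)
      · apply hc
        rw [Submodule.mem_span_pair]
        refine ⟨-(β⁻¹ * α), β⁻¹ * (1 + β), ?_⟩
        have h' : β • b' = b + β • b - α • a := by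
          have e : β • b' = (α • a + β • (b' - b)) + β • b - α • a := by module
          rw [e, h]
        have h'' : b' = β⁻¹ • (β • b') := by rw [smul_smul, inv_mul_cancel₀ hβ, one_smul]
        rw [h'', h']
        module
    have hsub : b' - b ∈ U := U.sub_mem hb' hb
    have hYU : Submodule.span F {a, b' - b} ≤ U := by
      rw [Submodule.span_le]
      intro x hx
      rcases hx with rfl | rfl
      · exact ha
      · exact hsub
    obtain ⟨f, hfW, hf1, hf2⟩ := hP.exists_sep hQ hb _ hYU hnot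
    have hfa : polar (⇑Q) f a = 0 := hf2 a (Submodule.subset_span (by simp))
    have hfs : polar (⇑Q) f (b' - b) = 0 := hf2 _ (Submodule.subset_span (by simp))
    have hsf : polar (⇑Q) (b' - b) f = 0 := by rw [polar_comm]; exact hfs
    have hmem := hmix (b' - b) hsub f hfW (hP.tsU _ hsub) (hP.tsW f hfW) hsf (-1)
    have h1 := hab.conj _ hmem
    have e1 : iact (sieG Q (b' - b) f (hP.tsU _ hsub) (hP.tsW f hfW) hsf (-1)) a = a := by
      rw [iact_sieG, hP.polarU hsub ha, hfa]
      simp
    have e2 : iact (sieG Q (b' - b) f (hP.tsU _ hsub) (hP.tsW f hfW) hsf (-1)) b = b' := by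
      rw [iact_sieG, hP.polarU hsub hb, hf1]
      module
    rw [e1, e2] at h1
    exact h1

/-- all pairs inside `U` from one independent pair -/
theorem TsPair.spread (hP : TsPair Q U W) (hQ : (polarBilin Q).Nondegenerate)
    (M : Subgroup ↥(Cfsg.isometryGroup F ⇑Q)) (hmix : ∀ u ∈ U, ∀ w ∈ W, SPair Q M u w)
    {a b : ι → F} (hab : SPair Q M a b) (ha : a ∈ U) (hb : b ∈ U) (ha0 : a ≠ 0)
    (hba : b ∉ Submodule.span F {a}) : ∀ y ∈ U, ∀ z ∈ U, SPair Q M y z := by
  intro y hy z hz
  have h1 := hP.spread1 hQ M hmix hab ha hb hba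
  by_cases hc : y ∈ Submodule.span F {a}
  · obtain ⟨t, rfl⟩ := Submodule.mem_span_singleton.mp hc
    exact (h1 z hz).smul_left (hP.tsU a ha) (hP.tsU z hz) (hP.polarU ha hz) t
  · have h2 : SPair Q M y a := (h1 y hy).swap
    have hay : a ∉ Submodule.span F {y} := by
      intro hmem
      obtain ⟨t, ht⟩ := Submodule.mem_span_singleton.mp hmem
      have ht0 : t ≠ 0 := by
        rintro rfl
        rw [zero_smul] at ht
        exact ha0 ht.symm
      apply hc
      rw [Submodule.mem_span_singleton]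
      exact ⟨t⁻¹, by rw [← ht, smul_smul, inv_mul_cancel₀ ht0, one_smul]⟩
    exact hP.spread1 hQ M hmix h2 hy ha hay z hz

/-- from a pair whose components in `U` are independent to an independent pair inside `U` -/
theorem TsPair.lineU (hP : TsPair Q U W) (hQ : (polarBilin Q).Nondegenerate)
    (M : Subgroup ↥(Cfsg.isometryGroup F ⇑Q)) (hmix : ∀ u ∈ U, ∀ w ∈ W, SPair Q M u w)
    (hk : 5 < finrank F ↥U)
    {p r : ι → F} (hpr : SPair Q M p r) (hp : Q p = 0) (hr : Q r = 0)
    (hprp : polar (⇑Q) p r = 0) (hrU : hP.pr r ≠ 0)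
    (hpU : hP.pr p ∉ Submodule.span F {hP.pr r}) :
    ∃ v ∈ U, ∃ v' ∈ U, v ≠ 0 ∧ v' ∉ Submodule.span F {v} ∧ SPair Q M v v' := by
  obtain ⟨pu, hpu⟩ : ∃ pu, pu = hP.pr p := ⟨_, rfl⟩
  obtain ⟨ru, hru⟩ : ∃ ru, ru = hP.pr r := ⟨_, rfl⟩
  rw [← hpu, ← hru] at hpU
  rw [← hru] at hrU
  have hpuU : pu ∈ U := by rw [hpu]; exact hP.pr_mem p
  have hruU : ru ∈ U := by rw [hru]; exact hP.pr_mem r
  obtain ⟨v, hvU, hvp, hvr, hvY⟩ := exists_perp2_notMem (Q := Q) U (Submodule.span F {pu, ru}) p r
    (by have := finrank_span_pair_le2 pu ru; omega)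
  obtain ⟨v', hv'U, hv'p, hv'r, hv'Y⟩ := exists_perp2_notMem (Q := Q) U
    (Submodule.span F {pu, ru, v}) p r (by have := finrank_span_triple_le3 pu ru v; omega)
  have hfp : ∀ f ∈ W, ∀ x, polar (⇑Q) f x = polar (⇑Q) f (hP.pr x) := by
    intro f hf x
    exact hP.symm.polar_pr hf x
  -- first separating vector
  have hn1 : pu ∉ Submodule.span F {ru, v} := by
    intro hmem
    obtain ⟨α, β, h⟩ := Submodule.mem_span_pair.mp hmem
    by_cases hβ : β = 0
    · rw [hβ, zero_smul, add_zero] at h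
      exact hpU (Submodule.mem_span_singleton.mpr ⟨α, h⟩)
    · apply hvY
      rw [Submodule.mem_span_pair]
      refine ⟨β⁻¹, -(β⁻¹ * α), ?_⟩
      have h' : β • v = pu - α • ru := by rw [← h]; module
      have h'' : v = β⁻¹ • (β • v) := by rw [smul_smul, inv_mul_cancel₀ hβ, one_smul]
      rw [h'', h']
      module
  have hY1 : Submodule.span F {ru, v} ≤ U := by
    rw [Submodule.span_le]
    intro x hx
    rcases hx with rfl | rfl
    · exact hruU
    · exact hvU
  obtain ⟨f, hfW, hf1, hf2⟩ := hP.exists_sep hQ hpuU _ hY1 hn1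
  have hfru : polar (⇑Q) f ru = 0 := hf2 ru (Submodule.subset_span (by simp))
  have hfv : polar (⇑Q) f v = 0 := hf2 v (Submodule.subset_span (by simp))
  have hrv : SPair Q M r v := by
    refine SPair.comm (e := p) (f := f) hpr (hmix v hvU f hfW).swap hp (hP.tsW f hfW) ?_ hprp ?_ ?_
      hfv
    · rw [polar_comm, hfp f hfW, ← hpu]
      exact hf1
    · rw [polar_comm]
      exact hvp
    · rw [hfp f hfW, ← hru]
      exact hfru
  -- second separating vector
  have hn2 : ru ∉ Submodule.span F {v, v'} := by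
    intro hmem
    obtain ⟨α, β, h⟩ := Submodule.mem_span_pair.mp hmem
    by_cases hβ : β = 0
    · rw [hβ, zero_smul, add_zero] at h
      by_cases hα : α = 0
      · rw [hα, zero_smul] at h
        exact hrU h.symm
      · apply hvY
        rw [Submodule.mem_span_pair]
        refine ⟨0, α⁻¹, ?_⟩
        rw [← h, smul_smul, inv_mul_cancel₀ hα, one_smul, zero_smul, zero_add]
    · apply hv'Y
      rw [Submodule.mem_span_triple]
      refine ⟨0, β⁻¹, -(β⁻¹ * α), ?_⟩
      have h' : β • v' = ru - α • v := by rw [← h]; module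
      have h'' : v' = β⁻¹ • (β • v') := by rw [smul_smul, inv_mul_cancel₀ hβ, one_smul]
      rw [h'', h']
      module
  have hY2 : Submodule.span F {v, v'} ≤ U := by
    rw [Submodule.span_le]
    intro x hx
    rcases hx with rfl | rfl
    · exact hvU
    · exact hv'U
  obtain ⟨f', hf'W, hf'1, hf'2⟩ := hP.exists_sep hQ hruU _ hY2 hn2
  have hf'v : polar (⇑Q) f' v = 0 := hf'2 v (Submodule.subset_span (by simp))
  have hf'v' : polar (⇑Q) f' v' = 0 := hf'2 v' (Submodule.subset_span (by simp))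
  have hvv' : SPair Q M v v' := by
    refine SPair.comm (e := r) (f := f') hrv (hmix v' hv'U f' hf'W).swap hr (hP.tsW f' hf'W) ?_ ?_ ?_
      hf'v hf'v'
    · rw [polar_comm, hfp f' hf'W, ← hru]
      exact hf'1
    · rw [polar_comm]
      exact hvr
    · rw [polar_comm]
      exact hv'r
  refine ⟨v, hvU, v', hv'U, ?_, ?_, hvv'⟩
  · rintro rfl
    exact hvY (Submodule.zero_mem _)
  · intro hmem
    obtain ⟨t, ht⟩ := Submodule.mem_span_singleton.mp hmem
    apply hv'Y
    rw [Submodule.mem_span_triple]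
    exact ⟨0, 0, t, by rw [zero_smul, zero_smul, zero_add, zero_add, ht]⟩

/-- all singular pairs from the pairs inside `U`, inside `W` and the mixed ones -/
theorem TsPair.finish (hP : TsPair Q U W) (hQ : (polarBilin Q).Nondegenerate)
    (M : Subgroup ↥(Cfsg.isometryGroup F ⇑Q)) (hmix : ∀ u ∈ U, ∀ w ∈ W, SPair Q M u w)
    (hUU : ∀ y ∈ U, ∀ z ∈ U, SPair Q M y z) (hWW : ∀ y ∈ W, ∀ z ∈ W, SPair Q M y z)
    (hk : 4 < finrank F ↥U) : ∀ p r : ι → F, SPair Q M p r := by
  intro p r hp hr hpr
  have hfp : ∀ f ∈ W, ∀ x, polar (⇑Q) f x = polar (⇑Q) f (hP.pr x) := by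
    intro f hf x
    exact hP.symm.polar_pr hf x
  obtain ⟨e, heU, hep, her, heY⟩ := exists_perp2_notMem (Q := Q) U
    (Submodule.span F {hP.pr p, hP.pr r}) p r
    (by have := finrank_span_pair_le2 (hP.pr p) (hP.pr r); omega)
  have hY : Submodule.span F {hP.pr p, hP.pr r} ≤ U := by
    rw [Submodule.span_le]
    intro x hx
    rcases hx with rfl | rfl
    · exact hP.pr_mem p
    · exact hP.pr_mem r
  obtain ⟨f, hfW, hf1, hf2⟩ := hP.exists_sep hQ heU _ hY heY
  have hfpu : polar (⇑Q) f (hP.pr p) = 0 := hf2 _ (Submodule.subset_span (by simp))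
  have hfru : polar (⇑Q) f (hP.pr r) = 0 := hf2 _ (Submodule.subset_span (by simp))
  have hEp : SPair Q M e p := by
    have h1 := (hUU e heU _ (hP.pr_mem p)).add (hmix e heU _ (hP.symm.pr_mem p)) (hP.tsU e heU)
      (hP.tsU _ (hP.pr_mem p)) (hP.tsW _ (hP.symm.pr_mem p)) (hP.polarU heU (hP.pr_mem p))
      (by rw [← hP.polar_pr heU]; exact hep) (hP.polar_pr_pr hp)
    rw [hP.pr_add] at h1
    exact h1
  have hFr : SPair Q M f r := by
    have h1 := ((hmix _ (hP.pr_mem r) f hfW).swap).add (hWW f hfW _ (hP.symm.pr_mem r))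
      (hP.tsW f hfW) (hP.tsU _ (hP.pr_mem r)) (hP.tsW _ (hP.symm.pr_mem r)) hfru
      (hP.polarW hfW (hP.symm.pr_mem r)) (hP.polar_pr_pr hr)
    rw [hP.pr_add] at h1
    exact h1
  refine SPair.comm (e := e) (f := f) hEp hFr (hP.tsU e heU) (hP.tsW f hfW) ?_ hep her ?_ ?_ hp hr hpr
  · rw [polar_comm]
    exact hf1
  · rw [hfp f hfW]
    exact hfpu
  · rw [hfp f hfW]
    exact hfru

end mx4

end Cfsg.Agent.helper13
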