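import Mathlib
import Cfsg.Agent.Lib_helper13_Mx4

/-! Overgroups of the stabiliser of a pair of complementary totally singular subspaces:
an element outside the stabiliser, and the main statement in the isometry group. -/

set_option autoImplicit false

namespace Cfsg.Agent.helper13

open Module Matrix QuadraticMap Cfsg.Agent.S0794
open scoped commutatorElement

section mx5
variable {F : Type*} [Field F] {ι : Type} [Fintype ι] [DecidableEq ι]
variable {Q : QuadraticForm F (ι → F)}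
variable {U W : Submodule F (ι → F)}

/-- linear dependence of two vectors -/
def Dep2 (x y : ι → F) : Prop := ∃ s t : F, (s ≠ 0 ∨ t ≠ 0) ∧ s • x + t • y = 0

theorem Dep2.symm {x y : ι → F} (h : Dep2 x y) : Dep2 y x := by
  obtain ⟨s, t, h1, h2⟩ := h
  exact ⟨t, s, h1.symm, by rw [add_comm]; exact h2⟩

theorem Dep2.mem_right {x y : ι → F} (h : Dep2 x y) (hx : x ≠ 0) :
    y ∈ Submodule.span F {x} := by
  obtain ⟨s, t, h1, h2⟩ := h
  have ht : t ≠ 0 := by
    rintro rfl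
    rw [zero_smul, add_zero] at h2
    rcases smul_eq_zero.mp h2 with h3 | h3
    · rcases h1 with h1 | h1
      · exact h1 h3
      · exact h1 rfl
    · exact hx h3
  rw [Submodule.mem_span_singleton]
  refine ⟨-(t⁻¹ * s), ?_⟩
  have h3 : t • y = -(s • x) := eq_neg_of_add_eq_zero_right h2
  have h4 : y = t⁻¹ • (t • y) := by rw [smul_smul, inv_mul_cancel₀ ht, one_smul]
  rw [h4, h3]
  module

theorem not_dep2 {x y : ι → F} (h : ¬ Dep2 x y) : y ≠ 0 ∧ x ∉ Submodule.span F {y} := by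
  constructor
  · rintro rfl
    exact h ⟨0, 1, Or.inr one_ne_zero, by simp⟩
  · intro hmem
    obtain ⟨c, hc⟩ := Submodule.mem_span_singleton.mp hmem
    exact h ⟨1, -c, Or.inl one_ne_zero, by rw [← hc]; module⟩

/-- if all images of mixed pairs have dependent components in `U`, then one of the two subspaces is
mapped into `W` -/
theorem TsPair.proj_vanish (hP : TsPair Q U W) (hQ : (polarBilin Q).Nondegenerate)
    (g : ↥(Cfsg.isometryGroup F ⇑Q)) (hk : 4 < finrank F ↥U)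
    (hdep : ∀ u ∈ U, ∀ w ∈ W, polar (⇑Q) u w = 0 →
      Dep2 (hP.pr (iact g u)) (hP.pr (iact g w))) :
    (∀ u ∈ U, hP.pr (iact g u) = 0) ∨ (∀ w ∈ W, hP.pr (iact g w) = 0) := by
  by_contra hcon
  push Not at hcon
  obtain ⟨⟨u₀, hu₀, hu₀n⟩, ⟨w₀, hw₀, hw₀n⟩⟩ := hcon
  obtain ⟨α, hα⟩ : ∃ α : (ι → F) →ₗ[F] (ι → F), ∀ x, α x = hP.pr (iact g x) :=
    ⟨hP.pr ∘ₗ Matrix.mulVecLin ((g : Matrix.GeneralLinearGroup ι F) : Matrix ι ι F), fun x => rfl⟩
  simp only [← hα] at hdep hu₀n hw₀n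
  have hu₀0 : u₀ ≠ 0 := by
    rintro rfl
    exact hu₀n (map_zero α)
  have hw₀0 : w₀ ≠ 0 := by
    rintro rfl
    exact hw₀n (map_zero α)
  obtain ⟨u₁, hu₁, hu₁w⟩ := hP.symm.exists_pair_one hQ hw₀ hw₀0
  obtain ⟨w₁, hw₁, hw₁u⟩ := hP.exists_pair_one hQ hu₀ hu₀0
  have hu₀w₁ : polar (⇑Q) u₀ w₁ = 1 := by rw [polar_comm]; exact hw₁u
  obtain ⟨Z, hZ⟩ : ∃ Z, Z = Submodule.span F (Set.range ![α u₀, α w₀, α u₁, α w₁]) := ⟨_, rfl⟩
  have hZ0 : α u₀ ∈ Z := by rw [hZ]; exact Submodule.subset_span ⟨0, rfl⟩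
  have hZ1 : α w₀ ∈ Z := by rw [hZ]; exact Submodule.subset_span ⟨1, rfl⟩
  have hZ2 : α u₁ ∈ Z := by rw [hZ]; exact Submodule.subset_span ⟨2, rfl⟩
  have hZ3 : α w₁ ∈ Z := by rw [hZ]; exact Submodule.subset_span ⟨3, rfl⟩
  have hZrk : finrank F ↥Z ≤ 4 := by
    rw [hZ]
    have := finrank_range_le_card (R := F) ![α u₀, α w₀, α u₁, α w₁]
    rw [Set.finrank, Fintype.card_fin] at this
    exact this
  have hspan : ∀ {x y : ι → F}, y ∈ Submodule.span F {x} → x ∈ Z → y ∈ Z := by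
    intro x y hy hx
    obtain ⟨t, rfl⟩ := Submodule.mem_span_singleton.mp hy
    exact Z.smul_mem t hx
  have hU : ∀ u ∈ U, α u ∈ Z := by
    intro u hu
    have h1 : u - polar (⇑Q) u w₀ • u₁ ∈ U := U.sub_mem hu (U.smul_mem _ hu₁)
    have h2 : polar (⇑Q) (u - polar (⇑Q) u w₀ • u₁) w₀ = 0 := by
      rw [polar_sub_left, polar_smul_left, hu₁w, smul_eq_mul, mul_one, sub_self]
    have h3 := (hdep _ h1 w₀ hw₀ h2).symm.mem_right hw₀n
    have h4 := hspan h3 hZ1
    have h5 : α u = α (u - polar (⇑Q) u w₀ • u₁) + polar (⇑Q) u w₀ • α u₁ := by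
      rw [map_sub, map_smul]
      abel
    rw [h5]
    exact Z.add_mem h4 (Z.smul_mem _ hZ2)
  have hW : ∀ w ∈ W, α w ∈ Z := by
    intro w hw
    have h1 : w - polar (⇑Q) u₀ w • w₁ ∈ W := W.sub_mem hw (W.smul_mem _ hw₁)
    have h2 : polar (⇑Q) u₀ (w - polar (⇑Q) u₀ w • w₁) = 0 := by
      rw [polar_sub_right, polar_smul_right, hu₀w₁, smul_eq_mul, mul_one, sub_self]
    have h3 := (hdep u₀ hu₀ _ h1 h2).mem_right hu₀n
    have h4 := hspan h3 hZ0
    have h5 : α w = α (w - polar (⇑Q) u₀ w • w₁) + polar (⇑Q) u₀ w • α w₁ := by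
      rw [map_sub, map_smul]
      abel
    rw [h5]
    exact Z.add_mem h4 (Z.smul_mem _ hZ3)
  have hall : ∀ x, α x ∈ Z := by
    intro x
    rw [← hP.pr_add x, map_add]
    exact Z.add_mem (hU _ (hP.pr_mem x)) (hW _ (hP.symm.pr_mem x))
  have hle : U ≤ Z := by
    intro y hy
    have h1 := hall (iact g⁻¹ y)
    rw [hα, iact_iact_inv, hP.pr_of_mem hy] at h1
    exact h1
  have := Submodule.finrank_mono hle
  omega

/-- an isometry outside the stabiliser maps some mixed pair to a pair with independent components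
in `U` or in `W` -/
theorem TsPair.exists_indep (hP : TsPair Q U W) (hQ : (polarBilin Q).Nondegenerate)
    (g : ↥(Cfsg.isometryGroup F ⇑Q)) (hkU : 4 < finrank F ↥U) (hkW : 4 < finrank F ↥W)
    (hg : ¬ StabLe U W g) :
    ∃ u ∈ U, ∃ w ∈ W, polar (⇑Q) u w = 0 ∧
      (¬ Dep2 (hP.pr (iact g u)) (hP.pr (iact g w)) ∨
        ¬ Dep2 (hP.symm.pr (iact g u)) (hP.symm.pr (iact g w))) := by
  by_contra hcon
  push Not at hcon
  have h1 := hP.proj_vanish hQ g hkU (fun u hu w hw h => (hcon u hu w hw h).1)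
  have h2 := hP.symm.proj_vanish hQ g hkW (fun w hw u hu h =>
    (hcon u hu w hw (by rw [polar_comm]; exact h)).2.symm)
  have hUne : ∃ u ∈ U, u ≠ 0 := by
    apply Submodule.exists_mem_ne_zero_of_ne_bot
    rintro rfl
    rw [finrank_bot] at hkU
    omega
  have hWne : ∃ w ∈ W, w ≠ 0 := by
    apply Submodule.exists_mem_ne_zero_of_ne_bot
    rintro rfl
    rw [finrank_bot] at hkW
    omega
  have hinj : ∀ x, iact g x = 0 → x = 0 := by
    intro x hx
    have := iact_inv_iact g x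
    rw [hx, iact_zero] at this
    exact this.symm
  apply hg
  rcases h1 with h1 | h1
  · rcases h2 with h2 | h2
    · -- `U` to `W`, `W` to `U`
      right
      constructor
      · intro y hy
        obtain ⟨x, hx, rfl⟩ := (mem_gmap g U y).mp hy
        rw [← hP.pr_add (iact g x), h1 x hx, zero_add]
        exact hP.symm.pr_mem _
      · intro y hy
        obtain ⟨x, hx, rfl⟩ := (mem_gmap g W y).mp hy
        rw [← hP.pr_add (iact g x), h2 x hx, add_zero]
        exact hP.pr_mem _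
    · exfalso
      obtain ⟨u, hu, hu0⟩ := hUne
      apply hu0
      apply hinj
      rw [← hP.pr_add (iact g u), h1 u hu, h2 u hu, add_zero]
  · rcases h2 with h2 | h2
    · exfalso
      obtain ⟨w, hw, hw0⟩ := hWne
      apply hw0
      apply hinj
      rw [← hP.pr_add (iact g w), h1 w hw, h2 w hw, add_zero]
    · left
      constructor
      · intro y hy
        obtain ⟨x, hx, rfl⟩ := (mem_gmap g U y).mp hy
        rw [← hP.pr_add (iact g x), h2 x hx, add_zero]
        exact hP.pr_mem _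
      · intro y hy
        obtain ⟨x, hx, rfl⟩ := (mem_gmap g W y).mp hy
        rw [← hP.pr_add (iact g x), h1 x hx, zero_add]
        exact hP.symm.pr_mem _

/-- a subgroup containing the stabiliser of the pair in the Siegel group and an element outside the
stabiliser contains the Siegel group -/
theorem TsPair.siegel_le (hP : TsPair Q U W) (hQ : (polarBilin Q).Nondegenerate) (k : ℕ)
    (hkU : finrank F ↥U = k) (hkW : finrank F ↥W = k) (hk : 6 ≤ k) (hke : Even k)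
    (M : Subgroup ↥(Cfsg.isometryGroup F ⇑Q))
    (hH : ∀ h ∈ Sg Q, StabLe U W h → h ∈ M)
    (g : ↥(Cfsg.isometryGroup F ⇑Q)) (hgM : g ∈ M) (hg : ¬ StabLe U W g) : Sg Q ≤ M := by
  have hmix : ∀ u ∈ U, ∀ w ∈ W, SPair Q M u w := by
    intro u hu w hw hu0 hw0 huw c
    exact hH _ (sieG_mem_Sg Q u w hu0 hw0 huw c) (hP.stabLe_sieG hu hw huw c)
  have hmix' : ∀ w ∈ W, ∀ u ∈ U, SPair Q M w u := fun w hw u hu => (hmix u hu w hw).swap
  obtain ⟨s, hsS, hsU, hsW⟩ := hP.exists_swap hQ k hkU hke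
  have hsM : s ∈ M := hH s hsS (Or.inr ⟨hsU, hsW⟩)
  have hUW : (∀ y ∈ U, ∀ z ∈ U, SPair Q M y z) → ∀ y ∈ W, ∀ z ∈ W, SPair Q M y z := by
    intro h y hy z hz
    have h1 := (h (iact s y) (hsW ((mem_gmap s W _).mpr ⟨y, hy, rfl⟩)) (iact s z)
      (hsW ((mem_gmap s W _).mpr ⟨z, hz, rfl⟩))).conj s⁻¹ (M.inv_mem hsM)
    rw [iact_inv_iact, iact_inv_iact] at h1
    exact h1
  have hWU : (∀ y ∈ W, ∀ z ∈ W, SPair Q M y z) → ∀ y ∈ U, ∀ z ∈ U, SPair Q M y z := by
    intro h y hy z hz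
    have h1 := (h (iact s y) (hsU ((mem_gmap s U _).mpr ⟨y, hy, rfl⟩)) (iact s z)
      (hsU ((mem_gmap s U _).mpr ⟨z, hz, rfl⟩))).conj s⁻¹ (M.inv_mem hsM)
    rw [iact_inv_iact, iact_inv_iact] at h1
    exact h1
  obtain ⟨u, hu, w, hw, huw, hcase⟩ := hP.exists_indep hQ g (by omega) (by omega) hg
  have hpr : SPair Q M (iact g u) (iact g w) := (hmix u hu w hw).conj g hgM
  have hp : Q (iact g u) = 0 := by rw [Q_iact]; exact hP.tsU u hu
  have hr : Q (iact g w) = 0 := by rw [Q_iact]; exact hP.tsW w hw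
  have hprp : polar (⇑Q) (iact g u) (iact g w) = 0 := by rw [polar_iact]; exact huw
  apply Sg_le_of_SPair
  rcases hcase with hc | hc
  · obtain ⟨c1, c2⟩ := not_dep2 hc
    obtain ⟨v, hvU, v', hv'U, hv0, hv', hvv'⟩ := hP.lineU hQ M hmix (by omega) hpr hp hr hprp c1 c2
    have hUU := hP.spread hQ M hmix hvv' hvU hv'U hv0 hv'
    exact hP.finish hQ M hmix hUU (hUW hUU) (by omega)
  · obtain ⟨c1, c2⟩ := not_dep2 hc
    obtain ⟨v, hvW, v', hv'W, hv0, hv', hvv'⟩ :=
      hP.symm.lineU hQ M hmix' (by omega) hpr hp hr hprp c1 c2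
    have hWW := hP.symm.spread hQ M hmix' hvv' hvW hv'W hv0 hv'
    exact hP.finish hQ M hmix (hWU hWW) hWW (by omega)

end mx5

end Cfsg.Agent.helper13
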