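import Mathlib
import Cfsg.Agent.Lib_helper13_Mx5
import Cfsg.Agent.Lib_helper13_GeoBridge

/-! The stabiliser of a pair of complementary totally singular subspaces of even dimension is a maximal
subgroup of the commutator subgroup of the orthogonal group. -/

set_option autoImplicit false

namespace Cfsg.Agent.helper13

open Module Matrix QuadraticMap Cfsg.Agent.S0794
open scoped commutatorElement

section mx6
variable {F : Type*} [Field F] {ι : Type} [Fintype ι] [DecidableEq ι]
variable (Q : QuadraticForm F (ι → F))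

/-- membership in the stabiliser of a decomposition into two subspaces -/
theorem mem_decompStab_two (D : Fin 2 → Submodule F (ι → F))
    (hrk : finrank F ↥(D 0) = finrank F ↥(D 1)) (h : ↥(Cfsg.isometryGroup F ⇑Q)) :
    (h : GL ι F) ∈ Cfsg.Geo.decompositionStabilizer D ↔ StabLe (D 0) (D 1) h := by
  constructor
  · rintro ⟨σ, hσ⟩
    have e : ∀ i, gmap h (D i) = D (σ i) := fun i => hσ i
    obtain ⟨a, ha⟩ : ∃ a, σ 0 = a := ⟨_, rfl⟩
    obtain ⟨b, hb⟩ : ∃ b, σ 1 = b := ⟨_, rfl⟩
    have hne : a ≠ b := by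
      rw [← ha, ← hb]
      intro h01
      exact absurd (σ.injective h01) (by decide)
    fin_cases a <;> fin_cases b
    · exact absurd rfl hne
    · left
      rw [e 0, e 1, ha, hb]
      exact ⟨le_rfl, le_rfl⟩
    · right
      rw [e 0, e 1, ha, hb]
      exact ⟨le_rfl, le_rfl⟩
    · exact absurd rfl hne
  · rintro (⟨h1, h2⟩ | ⟨h1, h2⟩)
    · refine ⟨1, fun i => ?_⟩
      show gmap h (D i) = D i
      fin_cases i
      · exact Submodule.eq_of_le_of_finrank_eq h1 (finrank_gmap h _)
      · exact Submodule.eq_of_le_of_finrank_eq h2 (finrank_gmap h _)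
    · refine ⟨Equiv.swap 0 1, fun i => ?_⟩
      show gmap h (D i) = D (Equiv.swap 0 1 i)
      fin_cases i
      · show gmap h (D 0) = D (Equiv.swap 0 1 0)
        rw [Equiv.swap_apply_left]
        exact Submodule.eq_of_le_of_finrank_eq h1 (by rw [finrank_gmap, hrk])
      · show gmap h (D 1) = D (Equiv.swap 0 1 1)
        rw [Equiv.swap_apply_right]
        exact Submodule.eq_of_le_of_finrank_eq h2 (by rw [finrank_gmap, hrk])

/-- the maximality statement -/
theorem tsPair_stab_maximal [Fintype F] (hQ : (polarBilin Q).Nondegenerate)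
    (hn : 7 ≤ Fintype.card ι) (k : ℕ) (hk : 6 ≤ k) (hke : Even k)
    (D : Fin 2 → Submodule F (ι → F)) (hD : Cfsg.Geo.IsMDecomposition k D)
    (hts : ∀ i, Cfsg.Geo.IsTotallySingularQuad (⇑Q) (D i)) :
    Cfsg.Geo.IsMaximalIn (Cfsg.Geo.omegaGL ⇑Q)
      (Cfsg.Geo.decompositionStabilizer D ⊓ Cfsg.Geo.omegaGL ⇑Q) := by
  classical
  have hdisj : Disjoint (D 0) (D 1) := hD.indep.pairwiseDisjoint (by decide)
  have hcod : Codisjoint (D 0) (D 1) := by
    rw [codisjoint_iff, eq_top_iff, ← hD.iSup_eq_top]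
    apply iSup_le
    intro i
    fin_cases i
    · exact le_sup_left
    · exact le_sup_right
  have hP : TsPair Q (D 0) (D 1) := ⟨hts 0, hts 1, ⟨hdisj, hcod⟩⟩
  have hΩ := commutator_eq_Sg Q hQ hn
  have hkU : finrank F ↥(D 0) = k := hD.finrank_eq 0
  have hkW : finrank F ↥(D 1) = k := hD.finrank_eq 1
  have hstab := mem_decompStab_two Q D (by rw [hkU, hkW])
  have hinter : ∀ x ∈ D 0, x ∈ D 1 → x = 0 := by
    intro x h0 h1
    exact (Submodule.disjoint_def.mp hdisj) x h0 h1
  constructor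
  · -- proper
    apply lt_of_le_of_ne inf_le_right
    intro heq
    obtain ⟨b, hbU, hb0⟩ : ∃ b ∈ D 0, b ≠ 0 := by
      apply Submodule.exists_mem_ne_zero_of_ne_bot
      intro hbot
      rw [hbot, finrank_bot] at hkU
      omega
    obtain ⟨a, haU, -, -, haY⟩ := exists_perp2_notMem (Q := Q) (D 0) (Submodule.span F {b, 0}) 0 0
      (by have := finrank_span_pair_le2 b (0 : ι → F); omega)
    have hab : a ∉ Submodule.span F {b} := fun hm =>
      haY (Submodule.span_mono (by simp) hm)
    have ha0 : a ≠ 0 := by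
      rintro rfl
      exact hab (Submodule.zero_mem _)
    obtain ⟨w, hwW, hw1, hw2⟩ := hP.exists_sep hQ haU (Submodule.span F {b})
      (by rw [Submodule.span_le]; intro x hx; rw [Set.mem_singleton_iff.mp hx]; exact hbU) hab
    have hwb : polar (⇑Q) w b = 0 := hw2 b (Submodule.subset_span rfl)
    obtain ⟨x, hx⟩ : ∃ x, x = sieG Q a b (hP.tsU a haU) (hP.tsU b hbU) (hP.polarU haU hbU) 1 :=
      ⟨_, rfl⟩
    have hxΩ : (x : GL ι F) ∈ Cfsg.Geo.omegaGL ⇑Q := by
      rw [mem_omegaGL]
      refine ⟨x, ?_, rfl⟩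
      rw [hΩ, hx]
      exact sieG_mem_Sg Q _ _ _ _ _ _
    rw [← heq] at hxΩ
    have hxS := (hstab x).mp (Subgroup.mem_inf.mp hxΩ).1
    have hxa : iact x a = a := by
      rw [hx, iact_sieG, hP.polarU haU haU, hP.polarU hbU haU]
      simp
    have hxw : iact x w = w + b := by
      rw [hx, iact_sieG, polar_comm (⇑Q) a w, hw1, polar_comm (⇑Q) b w, hwb]
      simp
    rcases hxS with ⟨-, h2⟩ | ⟨h1, -⟩
    · have h3 : w + b ∈ D 1 := by
        rw [← hxw]
        exact h2 ((mem_gmap x _ _).mpr ⟨w, hwW, rfl⟩)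
      have h4 : b ∈ D 1 := by
        have := (D 1).sub_mem h3 hwW
        rwa [add_sub_cancel_left] at this
      exact hb0 (hinter b hbU h4)
    · have h3 : a ∈ D 1 := by
        rw [← hxa]
        exact h1 ((mem_gmap x _ _).mpr ⟨a, haU, rfl⟩)
      exact ha0 (hinter a haU h3)
  · intro M hHM hMΩ
    by_cases hM : M ≤ Cfsg.Geo.decompositionStabilizer D
    · left
      exact le_antisymm (le_inf hM hMΩ) hHM
    · right
      apply le_antisymm hMΩ
      obtain ⟨y, hyM, hyS⟩ := SetLike.not_le_iff_exists.mp hM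
      obtain ⟨g, hgc, rfl⟩ := (mem_omegaGL Q y).mp (hMΩ hyM)
      have hgS : ¬ StabLe (D 0) (D 1) g := fun h => hyS ((hstab g).mpr h)
      have key := hP.siegel_le hQ k hkU hkW hk hke
        (M.comap (Cfsg.isometryGroup F ⇑Q).subtype) (by
          intro h hh hs
          rw [Subgroup.mem_comap]
          apply hHM
          refine Subgroup.mem_inf.mpr ⟨(hstab h).mpr hs, (mem_omegaGL Q _).mpr ⟨h, ?_, rfl⟩⟩
          rw [hΩ]
          exact hh) g (by rw [Subgroup.mem_comap]; exact hyM) hgS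
      intro z hz
      obtain ⟨h, hhc, rfl⟩ := (mem_omegaGL Q z).mp hz
      rw [hΩ] at hhc
      exact key hhc

end mx6

end Cfsg.Agent.helper13
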