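import Mathlib
import Cfsg.Agent.Lib_helper13_ReflG
import Cfsg.Agent.Lib_helper13_OrthE

set_option autoImplicit false

namespace Cfsg.Agent.helper13

open Matrix QuadraticMap

section o3a
variable {F : Type*} [Field F]

/-- the index type of the three-dimensional orthogonal space. -/
abbrev I3 : Type := Unit ⊕ (Fin 1 ⊕ Fin 1)

/-- the traceless matrix attached to a vector. -/
def tlT : (I3 → F) →ₗ[F] Matrix (Fin 2) (Fin 2) F where
  toFun v := !![v (Sum.inl ()), v (Sum.inr (Sum.inl 0)); v (Sum.inr (Sum.inr 0)), - v (Sum.inl ())]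
  map_add' := by
    intro u v
    ext i j
    fin_cases i <;> fin_cases j <;> simp [add_comm]
  map_smul' := by
    intro c v
    ext i j
    fin_cases i <;> fin_cases j <;> simp

/-- the vector of a matrix. -/
def tlS : Matrix (Fin 2) (Fin 2) F →ₗ[F] (I3 → F) where
  toFun x := Sum.elim (fun _ => x 0 0) (Sum.elim (fun _ => x 0 1) (fun _ => x 1 0))
  map_add' := by
    intro x y
    ext i
    rcases i with _ | _ | _ <;> simp
  map_smul' := by
    intro c x
    ext i
    rcases i with _ | _ | _ <;> simp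

theorem tlT_apply (v : I3 → F) :
    tlT v = !![v (Sum.inl ()), v (Sum.inr (Sum.inl 0)); v (Sum.inr (Sum.inr 0)), - v (Sum.inl ())] :=
  rfl

theorem tlS_apply (x : Matrix (Fin 2) (Fin 2) F) :
    tlS x = Sum.elim (fun _ => x 0 0) (Sum.elim (fun _ => x 0 1) (fun _ => x 1 0)) := rfl

theorem tlS_tlT (v : I3 → F) : tlS (tlT v) = v := by
  ext i
  rcases i with u | j | j
  · simp [tlS_apply, tlT_apply]
  · have : j = 0 := Subsingleton.elim _ _
    subst this
    simp [tlS_apply, tlT_apply]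
  · have : j = 0 := Subsingleton.elim _ _
    subst this
    simp [tlS_apply, tlT_apply]

theorem tlT_tlS (x : Matrix (Fin 2) (Fin 2) F) (h : trace x = 0) : tlT (tlS x) = x := by
  rw [Matrix.trace_fin_two] at h
  have h' : x 1 1 = - x 0 0 := by linear_combination h
  ext i j
  fin_cases i <;> fin_cases j <;> simp [tlS_apply, tlT_apply, h']

theorem trace_tlT (v : I3 → F) : trace (tlT v) = 0 := by
  rw [Matrix.trace_fin_two, tlT_apply]
  simp

theorem det_tlT (v : I3 → F) : det (tlT v) = - QOdd F 1 v := by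
  rw [QOdd_apply, Cfsg.quadFormOdd, tlT_apply, Matrix.det_fin_two_of]
  simp
  ring

theorem tlT_injective : Function.Injective (tlT : (I3 → F) → Matrix (Fin 2) (Fin 2) F) := by
  intro u v h
  rw [← tlS_tlT u, ← tlS_tlT v, h]

/-- the linear map induced by conjugation. -/
def Lg (g : GL (Fin 2) F) : (I3 → F) →ₗ[F] (I3 → F) :=
  tlS ∘ₗ (LinearMap.mulLeft F (g : Matrix (Fin 2) (Fin 2) F)) ∘ₗ
    (LinearMap.mulRight F ((g⁻¹ : GL (Fin 2) F) : Matrix (Fin 2) (Fin 2) F)) ∘ₗ tlT

theorem Lg_apply (g : GL (Fin 2) F) (v : I3 → F) :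
    Lg g v = tlS ((g : Matrix (Fin 2) (Fin 2) F) * tlT v *
      ((g⁻¹ : GL (Fin 2) F) : Matrix (Fin 2) (Fin 2) F)) := by
  simp [Lg, mul_assoc]

theorem tlT_Lg (g : GL (Fin 2) F) (v : I3 → F) :
    tlT (Lg g v) = (g : Matrix (Fin 2) (Fin 2) F) * tlT v *
      ((g⁻¹ : GL (Fin 2) F) : Matrix (Fin 2) (Fin 2) F) := by
  rw [Lg_apply, tlT_tlS]
  rw [Matrix.trace_units_conj, trace_tlT]

theorem Lg_one : Lg (1 : GL (Fin 2) F) = LinearMap.id := by
  apply LinearMap.ext
  intro v
  apply tlT_injective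
  rw [tlT_Lg]
  simp

theorem Lg_mul (g h : GL (Fin 2) F) : Lg (g * h) = (Lg g) ∘ₗ (Lg h) := by
  apply LinearMap.ext
  intro v
  apply tlT_injective
  rw [LinearMap.comp_apply, tlT_Lg, tlT_Lg, tlT_Lg, _root_.mul_inv_rev, Units.val_mul, Units.val_mul]
  simp only [mul_assoc]

theorem Q_Lg (g : GL (Fin 2) F) (v : I3 → F) : QOdd F 1 (Lg g v) = QOdd F 1 v := by
  have h1 := det_tlT (Lg g v)
  rw [tlT_Lg, Matrix.det_units_conj, det_tlT] at h1
  exact neg_injective h1.symm

/-- the conjugation action as an isometry. -/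
noncomputable def phiO (g : GL (Fin 2) F) : ↥(Cfsg.isometryGroup F ⇑(QOdd F 1)) :=
  ⟨⟨LinearMap.toMatrix' (Lg g), LinearMap.toMatrix' (Lg g⁻¹), by
      rw [← LinearMap.toMatrix'_comp, ← Lg_mul, mul_inv_cancel, Lg_one, LinearMap.toMatrix'_id], by
      rw [← LinearMap.toMatrix'_comp, ← Lg_mul, inv_mul_cancel, Lg_one, LinearMap.toMatrix'_id]⟩, by
    intro u _
    show QOdd F 1 (LinearMap.toMatrix' (Lg g) *ᵥ u) = QOdd F 1 u
    rw [LinearMap.toMatrix'_mulVec, Q_Lg]⟩

theorem iact_phiO (g : GL (Fin 2) F) (v : I3 → F) : iact (phiO g) v = Lg g v := by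
  show LinearMap.toMatrix' (Lg g) *ᵥ v = Lg g v
  rw [LinearMap.toMatrix'_mulVec]

/-- the conjugation action as a group homomorphism. -/
noncomputable def phiHom : GL (Fin 2) F →* ↥(Cfsg.isometryGroup F ⇑(QOdd F 1)) where
  toFun := phiO
  map_one' := by
    apply iact_ext
    intro x
    rw [iact_phiO, Lg_one, iact_one]
    rfl
  map_mul' := by
    intro g h
    apply iact_ext
    intro x
    rw [iact_phiO, iact_mul, iact_phiO, iact_phiO, Lg_mul]
    rfl

theorem phiHom_apply (g : GL (Fin 2) F) : phiHom g = phiO g := rfl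

end o3a

end Cfsg.Agent.helper13
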