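import Mathlib
import Cfsg.Agent.Lib_helper13_O3A
import Cfsg.Agent.Lib_helper2_SLn

set_option autoImplicit false

namespace Cfsg.Agent.helper13

open Matrix QuadraticMap
open scoped commutatorElement

section o3b
variable {F : Type*} [Field F]

theorem tlT_sq (v : I3 → F) : tlT v * tlT v = (QOdd F 1 v) • (1 : Matrix (Fin 2) (Fin 2) F) := by
  rw [QOdd_apply, Cfsg.quadFormOdd, tlT_apply]
  ext i j
  fin_cases i <;> fin_cases j <;> simp [Matrix.mul_apply, Fin.sum_univ_two] <;> ring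

theorem tlT_anticomm (a x : I3 → F) :
    tlT a * tlT x + tlT x * tlT a =
      polar (⇑(QOdd F 1)) a x • (1 : Matrix (Fin 2) (Fin 2) F) := by
  have h1 := tlT_sq (a + x)
  rw [map_add, Matrix.add_mul, Matrix.mul_add, Matrix.mul_add, tlT_sq, tlT_sq] at h1
  unfold polar
  rw [sub_smul, sub_smul, ← h1]
  abel

/-- the invertible traceless matrix of a nonsingular vector. -/
noncomputable def unitA (a : I3 → F) (ha : QOdd F 1 a ≠ 0) : GL (Fin 2) F :=
  ⟨tlT a, (QOdd F 1 a)⁻¹ • tlT a, by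
    rw [Matrix.mul_smul, tlT_sq, smul_smul, inv_mul_cancel₀ ha, one_smul], by
    rw [Matrix.smul_mul, tlT_sq, smul_smul, inv_mul_cancel₀ ha, one_smul]⟩

/-- minus the identity. -/
noncomputable def negO : ↥(Cfsg.isometryGroup F ⇑(QOdd F 1)) :=
  ⟨⟨-1, -1, by simp, by simp⟩, by
    intro u _
    show QOdd F 1 ((-1 : Matrix I3 I3 F) *ᵥ u) = QOdd F 1 u
    rw [Matrix.neg_mulVec, Matrix.one_mulVec, QuadraticMap.map_neg]⟩

theorem iact_negO (x : I3 → F) : iact (negO : ↥(Cfsg.isometryGroup F ⇑(QOdd F 1))) x = -x := by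
  show (-1 : Matrix I3 I3 F) *ᵥ x = -x
  rw [Matrix.neg_mulVec, Matrix.one_mulVec]

theorem negO_comm (g : ↥(Cfsg.isometryGroup F ⇑(QOdd F 1))) : negO * g = g * negO := by
  apply iact_ext
  intro x
  rw [iact_mul, iact_mul, iact_negO, iact_negO, iact_neg]

theorem negO_sq : (negO : ↥(Cfsg.isometryGroup F ⇑(QOdd F 1))) * negO = 1 := by
  apply iact_ext
  intro x
  rw [iact_mul, iact_negO, iact_negO, iact_one, neg_neg]

theorem phi_unitA (a : I3 → F) (ha : QOdd F 1 a ≠ 0) :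
    phiHom (unitA a ha) = negO * reflG (QOdd F 1) a ha := by
  apply iact_ext
  intro x
  apply tlT_injective
  rw [phiHom_apply, iact_phiO, tlT_Lg, iact_mul, iact_negO, iact_reflG, map_neg, map_sub, map_smul]
  show tlT a * tlT x * ((QOdd F 1 a)⁻¹ • tlT a) = _
  have h1 : tlT a * tlT x = polar (⇑(QOdd F 1)) a x • (1 : Matrix (Fin 2) (Fin 2) F) -
      tlT x * tlT a := by
    rw [← tlT_anticomm]
    abel
  rw [h1, Matrix.mul_smul, Matrix.sub_mul, Matrix.smul_mul, Matrix.one_mul, Matrix.mul_assoc, tlT_sq,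
    Matrix.mul_smul, Matrix.mul_one, smul_sub, smul_smul, smul_smul, inv_mul_cancel₀ ha, one_smul]
  abel

theorem reflG_eq_phi (a : I3 → F) (ha : QOdd F 1 a ≠ 0) :
    reflG (QOdd F 1) a ha = negO * phiHom (unitA a ha) := by
  rw [phi_unitA, ← mul_assoc, negO_sq, one_mul]

/-- every isometry is plus or minus a conjugation. -/
theorem exists_phi (h2 : (2 : F) ≠ 0) (g : ↥(Cfsg.isometryGroup F ⇑(QOdd F 1))) :
    ∃ h : GL (Fin 2) F, g = phiHom h ∨ g = negO * phiHom h := by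
  obtain ⟨vs, hvs, rfl⟩ := exists_list (QOdd F 1) h2 (QOdd_nondeg h2 1) g
  induction vs with
  | nil => exact ⟨1, Or.inl (by rw [prodR_nil, map_one])⟩
  | cons v vs ih =>
    obtain ⟨h, hh⟩ := ih (fun w hw => hvs w (List.mem_cons_of_mem _ hw))
    have hv := hvs v List.mem_cons_self
    rw [prodR_cons, reflG'_of (QOdd F 1) v hv, reflG_eq_phi]
    refine ⟨unitA v hv * h, ?_⟩
    rcases hh with hh | hh
    · right
      rw [hh, map_mul, mul_assoc]
    · left
      rw [hh, map_mul, mul_assoc, ← mul_assoc (phiHom (unitA v hv)), ← negO_comm, mul_assoc,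
        ← mul_assoc, negO_sq, one_mul]

theorem comm_mul_central {G : Type*} [Group G] (z a b : G) (hz : ∀ g, z * g = g * z) :
    ⁅z * a, b⁆ = ⁅a, b⁆ ∧ ⁅a, z * b⁆ = ⁅a, b⁆ := by
  constructor
  · rw [commutatorElement_def, commutatorElement_def]
    have : z * a * b * (z * a)⁻¹ * b⁻¹ = z * (a * b * a⁻¹) * z⁻¹ * b⁻¹ := by group
    rw [this, hz]
    group
  · rw [commutatorElement_def, commutatorElement_def]
    have : a * (z * b) * a⁻¹ * (z * b)⁻¹ = a * (z * (b * a⁻¹ * b⁻¹)) * z⁻¹ := by group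
    rw [this, hz]
    group

/-- the commutator of two isometries is the image of a commutator. -/
theorem comm_eq_phi (h2 : (2 : F) ≠ 0) (g₁ g₂ : ↥(Cfsg.isometryGroup F ⇑(QOdd F 1))) :
    ∃ h₁ h₂ : GL (Fin 2) F, ⁅g₁, g₂⁆ = phiHom ⁅h₁, h₂⁆ := by
  obtain ⟨h₁, hh₁⟩ := exists_phi h2 g₁
  obtain ⟨h₂, hh₂⟩ := exists_phi h2 g₂
  refine ⟨h₁, h₂, ?_⟩
  rw [map_commutatorElement]
  rcases hh₁ with rfl | rfl <;> rcases hh₂ with rfl | rfl
  · rfl
  · rw [(comm_mul_central negO _ _ negO_comm).2]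
  · rw [(comm_mul_central negO _ _ negO_comm).1]
  · rw [(comm_mul_central negO _ _ negO_comm).1, (comm_mul_central negO _ _ negO_comm).2]

theorem det_comm (h₁ h₂ : GL (Fin 2) F) :
    det ((⁅h₁, h₂⁆ : GL (Fin 2) F) : Matrix (Fin 2) (Fin 2) F) = 1 := by
  have h := map_commutatorElement (Matrix.GeneralLinearGroup.det (n := Fin 2) (R := F)) h₁ h₂
  rw [commutatorElement_eq_one_iff_commute.mpr (Commute.all (Matrix.GeneralLinearGroup.det h₁)
    (Matrix.GeneralLinearGroup.det h₂))] at h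
  have := congrArg Units.val h
  rw [Units.val_one] at this
  exact this

end o3b

end Cfsg.Agent.helper13
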