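import Mathlib
import Cfsg.Agent.Lib_helper13_O3B

set_option autoImplicit false

namespace Cfsg.Agent.helper13

open Matrix QuadraticMap
open scoped commutatorElement

section o3c
variable {F : Type*} [Field F]

theorem phi_toGL_mem (hF : ∃ a : F, a ≠ 0 ∧ a ≠ 1) (x : Matrix.SpecialLinearGroup (Fin 2) F) :
    phiHom (Matrix.SpecialLinearGroup.toGL x) ∈
      commutator ↥(Cfsg.isometryGroup F ⇑(QOdd F 1)) := by
  obtain ⟨a, ha, ha1⟩ := hF
  have h1 := Cfsg.Agent.helper2.toGL_mem_commutator_of_field a ha ha1 x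
  have h3 : Subgroup.map phiHom (commutator (GL (Fin 2) F)) ≤
      commutator ↥(Cfsg.isometryGroup F ⇑(QOdd F 1)) := by
    rw [commutator_def, Subgroup.map_commutator, commutator_def]
    exact Subgroup.commutator_mono le_top le_top
  exact h3 (Subgroup.mem_map_of_mem _ h1)

/-- the homomorphism from `SL₂` onto `Ω₃`. -/
noncomputable def psiHom (hF : ∃ a : F, a ≠ 0 ∧ a ≠ 1) :
    Matrix.SpecialLinearGroup (Fin 2) F →* ↥(commutator ↥(Cfsg.isometryGroup F ⇑(QOdd F 1))) :=
  (phiHom.comp Matrix.SpecialLinearGroup.toGL).codRestrict _ (phi_toGL_mem hF)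

theorem psiHom_coe (hF : ∃ a : F, a ≠ 0 ∧ a ≠ 1) (x : Matrix.SpecialLinearGroup (Fin 2) F) :
    ((psiHom hF x : ↥(commutator ↥(Cfsg.isometryGroup F ⇑(QOdd F 1)))) :
      ↥(Cfsg.isometryGroup F ⇑(QOdd F 1))) = phiHom (Matrix.SpecialLinearGroup.toGL x) := rfl

theorem psi_surj (h2 : (2 : F) ≠ 0) (hF : ∃ a : F, a ≠ 0 ∧ a ≠ 1) :
    Function.Surjective (psiHom hF) := by
  rintro ⟨y, hy⟩
  have hK : commutator ↥(Cfsg.isometryGroup F ⇑(QOdd F 1)) ≤
      (phiHom.comp Matrix.SpecialLinearGroup.toGL).range := by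
    rw [commutator_eq_closure, Subgroup.closure_le]
    rintro c ⟨g₁, g₂, rfl⟩
    obtain ⟨h₁, h₂, hc⟩ := comm_eq_phi h2 g₁ g₂
    refine ⟨(⟨((⁅h₁, h₂⁆ : GL (Fin 2) F) : Matrix (Fin 2) (Fin 2) F), det_comm h₁ h₂⟩ :
      Matrix.SpecialLinearGroup (Fin 2) F), ?_⟩
    show phiHom (Matrix.SpecialLinearGroup.toGL _) = _
    rw [hc]
    congr 1
    apply Units.ext
    rfl
  obtain ⟨x, hx⟩ := hK hy
  exact ⟨x, Subtype.ext hx⟩

theorem comm_tl (g : GL (Fin 2) F) (hg : phiHom g = 1) (v : I3 → F) :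
    (g : Matrix (Fin 2) (Fin 2) F) * tlT v = tlT v * (g : Matrix (Fin 2) (Fin 2) F) := by
  have h := iact_phiO g v
  rw [← phiHom_apply, hg, iact_one] at h
  have h1 := tlT_Lg g v
  rw [← h] at h1
  calc (g : Matrix (Fin 2) (Fin 2) F) * tlT v
      = ((g : Matrix (Fin 2) (Fin 2) F) * tlT v *
          ((g⁻¹ : GL (Fin 2) F) : Matrix (Fin 2) (Fin 2) F)) * (g : Matrix (Fin 2) (Fin 2) F) := by
        rw [Matrix.mul_assoc, Units.inv_mul, Matrix.mul_one]
    _ = tlT v * (g : Matrix (Fin 2) (Fin 2) F) := by rw [← h1]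

theorem scalar_of_phi_eq_one (g : GL (Fin 2) F) (hg : phiHom g = 1) :
    ∃ r : F, (g : Matrix (Fin 2) (Fin 2) F) = r • (1 : Matrix (Fin 2) (Fin 2) F) := by
  have h1 := comm_tl g hg (Pi.single (Sum.inr (Sum.inl 0)) 1)
  have h3 := comm_tl g hg (Pi.single (Sum.inr (Sum.inr 0)) 1)
  have e00 := congrFun (congrFun h1 0) 0
  have e01 := congrFun (congrFun h1 0) 1
  have f00 := congrFun (congrFun h3 0) 0
  simp [Matrix.mul_apply, Fin.sum_univ_two, tlT_apply] at e00 e01 f00
  refine ⟨(g : Matrix (Fin 2) (Fin 2) F) 0 0, ?_⟩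
  ext i j
  fin_cases i <;> fin_cases j <;> simp [← e00, f00, e01]

theorem exists_scalar_of_comm (x y : Matrix.SpecialLinearGroup (Fin 2) F)
    (h : phiHom (Matrix.SpecialLinearGroup.toGL (x * y)) = phiHom (Matrix.SpecialLinearGroup.toGL (y * x))) :
    ∃ r : F, r * r = 1 ∧ (x : Matrix (Fin 2) (Fin 2) F) * (y : Matrix (Fin 2) (Fin 2) F) =
      r • ((y : Matrix (Fin 2) (Fin 2) F) * (x : Matrix (Fin 2) (Fin 2) F)) := by
  have h1 : phiHom (Matrix.SpecialLinearGroup.toGL (x * y) * (Matrix.SpecialLinearGroup.toGL (y * x))⁻¹) = 1 := by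
    rw [map_mul, map_inv, h, mul_inv_cancel]
  obtain ⟨r, hr⟩ := scalar_of_phi_eq_one _ h1
  have h3 : ((Matrix.SpecialLinearGroup.toGL (x * y) : GL (Fin 2) F) : Matrix (Fin 2) (Fin 2) F) =
      r • ((Matrix.SpecialLinearGroup.toGL (y * x) : GL (Fin 2) F) : Matrix (Fin 2) (Fin 2) F) := by
    calc ((Matrix.SpecialLinearGroup.toGL (x * y) : GL (Fin 2) F) : Matrix (Fin 2) (Fin 2) F)
        = ((Matrix.SpecialLinearGroup.toGL (x * y) * (Matrix.SpecialLinearGroup.toGL (y * x))⁻¹ : GL (Fin 2) F) :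
            Matrix (Fin 2) (Fin 2) F) *
            ((Matrix.SpecialLinearGroup.toGL (y * x) : GL (Fin 2) F) : Matrix (Fin 2) (Fin 2) F) := by
          rw [Units.val_mul, Matrix.mul_assoc, Units.inv_mul, Matrix.mul_one]
      _ = _ := by rw [hr, Matrix.smul_mul, Matrix.one_mul]
  have h4 : (x : Matrix (Fin 2) (Fin 2) F) * (y : Matrix (Fin 2) (Fin 2) F) =
      r • ((y : Matrix (Fin 2) (Fin 2) F) * (x : Matrix (Fin 2) (Fin 2) F)) := h3
  refine ⟨r, ?_, h4⟩
  have hd := congrArg det h4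
  rw [Matrix.det_smul, Matrix.det_mul, Matrix.det_mul, x.prop, y.prop, Fintype.card_fin] at hd
  rw [← pow_two]
  simpa using hd.symm

/-- the upper unitriangular matrix. -/
def t12 : Matrix.SpecialLinearGroup (Fin 2) F := ⟨!![1, 1; 0, 1], by rw [Matrix.det_fin_two_of]; ring⟩

/-- the lower unitriangular matrix. -/
def t21 : Matrix.SpecialLinearGroup (Fin 2) F := ⟨!![1, 0; 1, 1], by rw [Matrix.det_fin_two_of]; ring⟩

theorem pm_one_of_sq {r : F} (h : r * r = 1) : r = 1 ∨ r = -1 := by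
  have : (r - 1) * (r + 1) = 0 := by linear_combination h
  rcases mul_eq_zero.mp this with h | h
  · left; linear_combination h
  · right; linear_combination h

theorem central_of_comm (h2 : (2 : F) ≠ 0) (x : Matrix.SpecialLinearGroup (Fin 2) F)
    (hx : ∀ y : Matrix.SpecialLinearGroup (Fin 2) F, ∃ r : F, r * r = 1 ∧
      (x : Matrix (Fin 2) (Fin 2) F) * (y : Matrix (Fin 2) (Fin 2) F) =
        r • ((y : Matrix (Fin 2) (Fin 2) F) * (x : Matrix (Fin 2) (Fin 2) F))) :
    x ∈ Subgroup.center (Matrix.SpecialLinearGroup (Fin 2) F) := by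
  obtain ⟨a, b, c, d, hxe⟩ : ∃ a b c d : F, (x : Matrix (Fin 2) (Fin 2) F) = !![a, b; c, d] :=
    ⟨_, _, _, _, Matrix.eta_fin_two _⟩
  have hdet : a * d - b * c = 1 := by
    have := x.prop
    rw [hxe, Matrix.det_fin_two_of] at this
    exact this
  have key1 : c = 0 ∧ a = d := by
    obtain ⟨r, hr, h⟩ := hx t12
    have h' : !![a, b; c, d] * !![(1 : F), 1; 0, 1] =
        r • (!![(1 : F), 1; 0, 1] * !![a, b; c, d]) := by
      rw [← hxe]
      exact h
    rw [Matrix.mul_fin_two, Matrix.mul_fin_two] at h'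
    have e00 := congrFun (congrFun h' 0) 0
    have e01 := congrFun (congrFun h' 0) 1
    have e10 := congrFun (congrFun h' 1) 0
    simp at e00 e01 e10
    rcases pm_one_of_sq hr with rfl | rfl
    · constructor
      · linear_combination -e00
      · linear_combination e01
    · exfalso
      have hc0 : c = 0 := by
        have : 2 * c = 0 := by linear_combination e10
        exact (mul_eq_zero.mp this).resolve_left h2
      have ha0 : a = 0 := by
        have : 2 * a = 0 := by linear_combination e00 - hc0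
        exact (mul_eq_zero.mp this).resolve_left h2
      rw [ha0, hc0] at hdet
      simp at hdet
  have key2 : b = 0 := by
    obtain ⟨r, hr, h⟩ := hx t21
    have h' : !![a, b; c, d] * !![(1 : F), 0; 1, 1] =
        r • (!![(1 : F), 0; 1, 1] * !![a, b; c, d]) := by
      rw [← hxe]
      exact h
    rw [Matrix.mul_fin_two, Matrix.mul_fin_two] at h'
    have e00 := congrFun (congrFun h' 0) 0
    have e01 := congrFun (congrFun h' 0) 1
    simp at e00 e01
    rcases pm_one_of_sq hr with rfl | rfl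
    · linear_combination e00
    · exfalso
      have hb0 : b = 0 := by
        have : 2 * b = 0 := by linear_combination e01
        exact (mul_eq_zero.mp this).resolve_left h2
      have ha0 : a = 0 := by
        have : 2 * a = 0 := by linear_combination e00 - hb0
        exact (mul_eq_zero.mp this).resolve_left h2
      rw [ha0, hb0] at hdet
      simp at hdet
  rw [Matrix.SpecialLinearGroup.mem_center_iff]
  refine ⟨a, ?_, ?_⟩
  · rw [Fintype.card_fin, pow_two]
    rw [key2, ← key1.2] at hdet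
    linear_combination hdet
  · rw [hxe, key2, key1.1, ← key1.2]
    ext i j
    fin_cases i <;> fin_cases j <;> simp

end o3c

section o3d
variable {F : Type*} [Field F]

/-- the homomorphism from `SL₂` onto `PΩ₃`. -/
noncomputable def psiHom' (hF : ∃ a : F, a ≠ 0 ∧ a ≠ 1) :
    Matrix.SpecialLinearGroup (Fin 2) F →* Cfsg.POmega F ⇑(QOdd F 1) :=
  (QuotientGroup.mk' (Subgroup.center (Cfsg.Omega F ⇑(QOdd F 1)))).comp (psiHom hF)

theorem psi'_surj (h2 : (2 : F) ≠ 0) (hF : ∃ a : F, a ≠ 0 ∧ a ≠ 1) :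
    Function.Surjective (psiHom' hF) :=
  (QuotientGroup.mk'_surjective _).comp (psi_surj h2 hF)

theorem ker_psi' (h2 : (2 : F) ≠ 0) (hF : ∃ a : F, a ≠ 0 ∧ a ≠ 1) :
    (psiHom' hF).ker = Subgroup.center (Matrix.SpecialLinearGroup (Fin 2) F) := by
  ext x
  rw [MonoidHom.mem_ker]
  unfold psiHom'
  rw [MonoidHom.comp_apply, QuotientGroup.mk'_apply, QuotientGroup.eq_one_iff,
    Subgroup.mem_center_iff]
  constructor
  · intro h
    apply central_of_comm h2
    intro y
    apply exists_scalar_of_comm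
    have := h (psiHom hF y)
    rw [← map_mul, ← map_mul] at this
    have h5 := congrArg Subtype.val this
    rw [psiHom_coe, psiHom_coe] at h5
    exact h5.symm
  · intro h z
    obtain ⟨y, rfl⟩ := psi_surj h2 hF z
    rw [← map_mul, ← map_mul, (Subgroup.mem_center_iff.mp h) y]

/-- `PΩ₃(q) ≅ PSL₂(q)`. -/
theorem pomega3_iso (h2 : (2 : F) ≠ 0) (hF : ∃ a : F, a ≠ 0 ∧ a ≠ 1) :
    Nonempty (Cfsg.POmega F ⇑(QOdd F 1) ≃* Matrix.ProjectiveSpecialLinearGroup (Fin 2) F) :=
  ⟨(QuotientGroup.quotientKerEquivOfSurjective (psiHom' hF) (psi'_surj h2 hF)).symm.trans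
    (QuotientGroup.quotientMulEquivOfEq (ker_psi' h2 hF))⟩

end o3d

end Cfsg.Agent.helper13
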