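import Mathlib
import Cfsg.Agent.Lib_helper13_WittNd

/-! Glue for conjugacy of semisimple isometries of a quadratic form: from an intertwining matrix
that is isometric on the part where `A - 1` is invertible, build a conjugating isometry, using
Witt's theorem for the complementary fixed spaces. -/

set_option autoImplicit false

namespace Cfsg.Agent.helper13

open Matrix QuadraticMap Module

section oglue
variable {F : Type*} [Field F] [Fintype F] {ι : Type} [Fintype ι] [DecidableEq ι]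
variable (Q : QuadraticForm F (ι → F))

omit [Fintype F] in
theorem oconj_defect (A B : ↥(Cfsg.isometryGroup F ⇑Q)) (a b y0 E Wm : Matrix ι ι F)
    (ha : a = ((A : Matrix.GeneralLinearGroup ι F) : Matrix ι ι F))
    (hb : b = ((B : Matrix.GeneralLinearGroup ι F) : Matrix ι ι F))
    (hEE : E * E = E) (hEA : E * a = a * E) (hW : (a - 1) * Wm = E) (hy0A : y0 * a = b * y0)
    (hbE : ∀ u v, polar (⇑Q) (y0 *ᵥ (E *ᵥ u)) (y0 *ᵥ (E *ᵥ v)) = polar (⇑Q) (E *ᵥ u) (E *ᵥ v))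
    (v : ι → F) : Q (y0 *ᵥ (E *ᵥ v)) = Q (E *ᵥ v) := by
  have hQa : ∀ w, Q (a *ᵥ w) = Q w := by
    intro w
    rw [ha]
    exact Q_iact A w
  have hQb : ∀ w, Q (b *ᵥ w) = Q w := by
    intro w
    rw [hb]
    exact Q_iact B w
  obtain ⟨D, hD⟩ : ∃ D : (ι → F) → F, ∀ w, D w = Q (y0 *ᵥ (E *ᵥ w)) - Q (E *ᵥ w) :=
    ⟨_, fun _ => rfl⟩
  have hadd : ∀ u w, D (u + w) = D u + D w := by
    intro u w
    rw [hD, hD, hD, Matrix.mulVec_add, Matrix.mulVec_add, Q_add_polar, Q_add_polar, hbE]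
    ring
  have hsub : ∀ u w, D (u - w) = D u - D w := by
    intro u w
    have h1 := hadd (u - w) w
    rw [sub_add_cancel] at h1
    rw [h1]
    ring
  have hDa : ∀ w, D (a *ᵥ w) = D w := by
    intro w
    have h1 : E *ᵥ (a *ᵥ w) = a *ᵥ (E *ᵥ w) := by
      rw [Matrix.mulVec_mulVec, Matrix.mulVec_mulVec, hEA]
    have h2 : y0 *ᵥ (a *ᵥ (E *ᵥ w)) = b *ᵥ (y0 *ᵥ (E *ᵥ w)) := by
      rw [Matrix.mulVec_mulVec _ y0 a, hy0A, ← Matrix.mulVec_mulVec]
    rw [hD, hD, h1, h2, hQa, hQb]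
  have hDE : ∀ w, D (E *ᵥ w) = D w := by
    intro w
    rw [hD, hD, Matrix.mulVec_mulVec _ E E, hEE]
  have hEw : E *ᵥ v = a *ᵥ (Wm *ᵥ v) - Wm *ᵥ v := by
    rw [← hW, ← Matrix.mulVec_mulVec, Matrix.sub_mulVec, Matrix.one_mulVec]
  have h0 : D v = 0 := by
    rw [← hDE, hEw, hsub, hDa, sub_self]
  rw [hD] at h0
  exact sub_eq_zero.mp h0

omit [Fintype F] in
theorem oconj_Ga (a E G : Matrix ι ι F) (hEG : E + G = 1) (hEA : E * a = a * E)
    (hAG : a * G = G) : G * a = G := by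
  have hG : G = 1 - E := by
    rw [← hEG]
    abel
  calc G * a = (1 - E) * a := by rw [hG]
    _ = a * (1 - E) := by rw [sub_mul, mul_sub, one_mul, mul_one, hEA]
    _ = G := by rw [← hG, hAG]

omit [Fintype F] in
theorem oconj_fix (hQ : (polarBilin Q).Nondegenerate) (B : ↥(Cfsg.isometryGroup F ⇑Q))
    (a b y0 E G : Matrix ι ι F)
    (hb : b = ((B : Matrix.GeneralLinearGroup ι F) : Matrix ι ι F))
    (hEG : E + G = 1) (hEA : E * a = a * E) (hAG : a * G = G) (hy0 : IsUnit y0)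
    (hy0A : y0 * a = b * y0) (w' : ι → F)
    (hw' : ∀ u, polar (⇑Q) (y0 *ᵥ (E *ᵥ u)) w' = 0) : b *ᵥ w' = w' := by
  obtain ⟨y0i, hy0i⟩ := hy0.exists_right_inv
  have hGa : G * a = G := oconj_Ga a E G hEG hEA hAG
  have hE1 : a - 1 = E * (a - 1) := by
    have h0 : G * (a - 1) = 0 := by rw [mul_sub, mul_one, hGa, sub_self]
    calc a - 1 = (E + G) * (a - 1) := by rw [hEG, one_mul]
      _ = E * (a - 1) := by rw [add_mul, h0, add_zero]
  have hb1 : b - 1 = y0 * (E * ((a - 1) * y0i)) := by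
    calc b - 1 = (b - 1) * (y0 * y0i) := by rw [hy0i, mul_one]
      _ = (b * y0 - y0) * y0i := by rw [← mul_assoc, sub_mul, one_mul]
      _ = (y0 * a - y0) * y0i := by rw [hy0A]
      _ = y0 * (a - 1) * y0i := by rw [mul_sub, mul_one]
      _ = y0 * (E * (a - 1)) * y0i := by rw [← hE1]
      _ = y0 * (E * ((a - 1) * y0i)) := by simp only [mul_assoc]
  have h1 : ∀ v, polar (⇑Q) (b *ᵥ v - v) w' = 0 := by
    intro v
    have h0 : b *ᵥ v - v = y0 *ᵥ (E *ᵥ (((a - 1) * y0i) *ᵥ v)) := by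
      have h00 : b *ᵥ v - v = (b - 1) *ᵥ v := by rw [Matrix.sub_mulVec, Matrix.one_mulVec]
      rw [h00, hb1, ← Matrix.mulVec_mulVec, ← Matrix.mulVec_mulVec]
    rw [h0]
    exact hw' _
  have h2 : ∀ v, polar (⇑Q) (b *ᵥ v) w' = polar (⇑Q) v w' := by
    intro v
    have h0 := h1 v
    rw [polar_sub_left] at h0
    exact sub_eq_zero.mp h0
  have h3 : ∀ v, polar (⇑Q) v (iact B⁻¹ w' - w') = 0 := by
    intro v
    rw [polar_sub_right, sub_eq_zero, ← h2 v]
    have hbv : b *ᵥ v = iact B v := by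
      rw [hb]
      rfl
    rw [hbv]
    conv_rhs => rw [← iact_iact_inv B w']
    rw [polar_iact]
  have h4 : iact B⁻¹ w' - w' = 0 := by
    apply hQ.2
    intro u
    rw [polarBilin_apply_apply]
    exact h3 u
  have h5 : iact B⁻¹ w' = w' := sub_eq_zero.mp h4
  have h6 := congrArg (iact B) h5
  rw [iact_iact_inv] at h6
  rw [hb]
  exact h6.symm

omit [Fintype F] in
theorem oconj_core (hQ : (polarBilin Q).Nondegenerate) (A B : ↥(Cfsg.isometryGroup F ⇑Q))
    (a b y0 E G : Matrix ι ι F) (φ : (ι → F) →ₗ[F] (ι → F))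
    (ha : a = ((A : Matrix.GeneralLinearGroup ι F) : Matrix ι ι F))
    (hb : b = ((B : Matrix.GeneralLinearGroup ι F) : Matrix ι ι F))
    (hEG : E + G = 1) (hEA : E * a = a * E) (hAG : a * G = G)
    (hy0A : y0 * a = b * y0)
    (hperp : ∀ u v, polar (⇑Q) (E *ᵥ u) (G *ᵥ v) = 0)
    (hQE : ∀ v, Q (y0 *ᵥ (E *ᵥ v)) = Q (E *ᵥ v))
    (hφQ : ∀ v, Q (φ (G *ᵥ v)) = Q (G *ᵥ v))
    (hφperp : ∀ u v, polar (⇑Q) (y0 *ᵥ (E *ᵥ u)) (φ (G *ᵥ v)) = 0)
    (hφB : ∀ v, b *ᵥ (φ (G *ᵥ v)) = φ (G *ᵥ v)) : IsConj A B := by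
  obtain ⟨yL, hyL⟩ : ∃ yL : (ι → F) →ₗ[F] (ι → F),
      ∀ v, yL v = y0 *ᵥ (E *ᵥ v) + φ (G *ᵥ v) :=
    ⟨(Matrix.mulVecLin y0).comp (Matrix.mulVecLin E) + φ.comp (Matrix.mulVecLin G), fun v => rfl⟩
  obtain ⟨y, hy⟩ : ∃ y : Matrix ι ι F, ∀ v, y *ᵥ v = yL v :=
    ⟨LinearMap.toMatrix' yL, fun v => LinearMap.toMatrix'_mulVec yL v⟩
  have hsplit : ∀ v : ι → F, v = E *ᵥ v + G *ᵥ v := by
    intro v
    rw [← Matrix.add_mulVec, hEG, Matrix.one_mulVec]
  have hyQ : ∀ v, Q (y *ᵥ v) = Q v := by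
    intro v
    rw [hy, hyL, Q_add_polar, hφperp, add_zero, hQE, hφQ]
    conv_rhs => rw [hsplit v, Q_add_polar, hperp, add_zero]
  have hypol : ∀ u v, polar (⇑Q) (y *ᵥ u) (y *ᵥ v) = polar (⇑Q) u v := by
    intro u v
    unfold polar
    rw [← Matrix.mulVec_add, hyQ, hyQ, hyQ]
  have hinj : Function.Injective y.mulVec := by
    intro u v huv
    have h0 : y *ᵥ (u - v) = 0 := by
      rw [Matrix.mulVec_sub]
      exact sub_eq_zero.mpr huv
    have h1 : u - v = 0 := by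
      apply hQ.2
      intro w
      rw [polarBilin_apply_apply, ← hypol, h0]
      exact polar_zero_right _ _
    exact sub_eq_zero.mp h1
  have hyu : IsUnit y := Matrix.mulVec_injective_iff_isUnit.mp hinj
  obtain ⟨Yu, hYu⟩ := hyu
  have hYmem : Yu ∈ Cfsg.isometryGroup F ⇑Q := by
    intro u v
    show Q ((Yu : Matrix ι ι F) *ᵥ u) = Q u
    rw [hYu]
    exact hyQ u
  have hiY : ∀ v, iact (⟨Yu, hYmem⟩ : ↥(Cfsg.isometryGroup F ⇑Q)) v = y *ᵥ v := by
    intro v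
    show (Yu : Matrix ι ι F) *ᵥ v = y *ᵥ v
    rw [hYu]
  have hia : ∀ v, iact A v = a *ᵥ v := by
    intro v
    rw [ha]
    rfl
  have hib : ∀ v, iact B v = b *ᵥ v := by
    intro v
    rw [hb]
    rfl
  have hGa : G * a = G := oconj_Ga a E G hEG hEA hAG
  have hcomm : (⟨Yu, hYmem⟩ : ↥(Cfsg.isometryGroup F ⇑Q)) * A = B * ⟨Yu, hYmem⟩ := by
    apply iact_ext
    intro v
    rw [iact_mul, iact_mul, hiY, hiY, hia, hib, hy, hy, hyL, hyL]
    rw [Matrix.mulVec_add, hφB]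
    have h1 : E *ᵥ (a *ᵥ v) = a *ᵥ (E *ᵥ v) := by
      rw [Matrix.mulVec_mulVec, Matrix.mulVec_mulVec, hEA]
    have h2 : y0 *ᵥ (a *ᵥ (E *ᵥ v)) = b *ᵥ (y0 *ᵥ (E *ᵥ v)) := by
      rw [Matrix.mulVec_mulVec _ y0 a, hy0A, ← Matrix.mulVec_mulVec]
    have h3 : G *ᵥ (a *ᵥ v) = G *ᵥ v := by rw [Matrix.mulVec_mulVec, hGa]
    rw [h1, h2, h3]
  rw [isConj_iff]
  exact ⟨⟨Yu, hYmem⟩, by rw [hcomm, mul_inv_cancel_right]⟩

theorem oconj_glue2 (hQ : (polarBilin Q).Nondegenerate) (A B : ↥(Cfsg.isometryGroup F ⇑Q))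
    (a b y0 E G : Matrix ι ι F)
    (ha : a = ((A : Matrix.GeneralLinearGroup ι F) : Matrix ι ι F))
    (hb : b = ((B : Matrix.GeneralLinearGroup ι F) : Matrix ι ι F))
    (hEG : E + G = 1) (hEE : E * E = E) (hEA : E * a = a * E) (hAG : a * G = G)
    (hy0 : IsUnit y0) (hy0A : y0 * a = b * y0)
    (hperp : ∀ u v, polar (⇑Q) (E *ᵥ u) (G *ᵥ v) = 0)
    (hQE : ∀ v, Q (y0 *ᵥ (E *ᵥ v)) = Q (E *ᵥ v)) : IsConj A B := by
  classical
  obtain ⟨U, hU⟩ : ∃ U : Submodule F (ι → F), U = LinearMap.range (Matrix.mulVecLin E) :=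
    ⟨_, rfl⟩
  have hmemU : ∀ x, x ∈ U ↔ ∃ v, E *ᵥ v = x := by
    intro x
    rw [hU, LinearMap.mem_range]
    rfl
  have hinj0 : Function.Injective (Matrix.mulVecLin y0) := by
    intro u v huv
    exact (Matrix.mulVec_injective_iff_isUnit.mpr hy0) huv
  obtain ⟨W, hW⟩ : ∃ W : Submodule F (ι → F), W = U.map (Matrix.mulVecLin y0) := ⟨_, rfl⟩
  have hmemW : ∀ x, x ∈ W ↔ ∃ v, y0 *ᵥ (E *ᵥ v) = x := by
    intro x
    rw [hW, Submodule.mem_map]
    constructor
    · rintro ⟨u, hu, rfl⟩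
      obtain ⟨v, rfl⟩ := (hmemU u).mp hu
      exact ⟨v, rfl⟩
    · rintro ⟨v, rfl⟩
      exact ⟨E *ᵥ v, (hmemU _).mpr ⟨v, rfl⟩, rfl⟩
  have hEfix : ∀ x ∈ U, E *ᵥ x = x := by
    intro x hx
    obtain ⟨v, rfl⟩ := (hmemU x).mp hx
    rw [Matrix.mulVec_mulVec, hEE]
  have hUnd : NondegOn Q U := by
    intro x hx hall
    apply hQ.2
    intro w
    rw [polarBilin_apply_apply]
    have hx' := hEfix x hx
    have h1 : polar (⇑Q) (E *ᵥ w) x = 0 := hall _ ((hmemU _).mpr ⟨w, rfl⟩)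
    have h2 : polar (⇑Q) (G *ᵥ w) x = 0 := by
      rw [← hx', polar_comm]
      exact hperp x w
    have hw : w = E *ᵥ w + G *ᵥ w := by rw [← Matrix.add_mulVec, hEG, Matrix.one_mulVec]
    rw [hw, polar_add_left, h1, h2, add_zero]
  have hbE : ∀ u v, polar (⇑Q) (y0 *ᵥ (E *ᵥ u)) (y0 *ᵥ (E *ᵥ v)) =
      polar (⇑Q) (E *ᵥ u) (E *ᵥ v) := by
    intro u v
    unfold polar
    rw [← Matrix.mulVec_add, ← Matrix.mulVec_add, hQE, hQE, hQE]
  have hWnd : NondegOn Q W := by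
    intro x hx hall
    obtain ⟨v, rfl⟩ := (hmemW x).mp hx
    have h0 : E *ᵥ v = 0 := by
      apply hUnd _ ((hmemU _).mpr ⟨v, rfl⟩)
      intro u hu
      obtain ⟨u', rfl⟩ := (hmemU u).mp hu
      rw [← hbE]
      exact hall _ ((hmemW _).mpr ⟨u', rfl⟩)
    rw [h0, Matrix.mulVec_zero]
  have key : ∀ W' : Submodule F (ι → F), W' = U.map (Matrix.mulVecLin y0) →
      ∃ e : U ≃ₗ[F] W', ∀ u : U, ((e u : W') : ι → F) = y0 *ᵥ (u : ι → F) := by
    rintro W' rfl
    exact ⟨Submodule.equivMapOfInjective _ hinj0 U, fun u => rfl⟩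
  obtain ⟨e, he⟩ := key W hW
  have heQ : ∀ u : U, Q ((e u : W) : ι → F) = Q (u : ι → F) := by
    intro u
    rw [he]
    obtain ⟨v, hv⟩ := (hmemU _).mp u.2
    rw [← hv]
    exact hQE v
  have hGL : ∀ v, G *ᵥ v ∈ orthQ Q U := by
    intro v
    rw [mem_orth_iff]
    intro u hu
    obtain ⟨u', rfl⟩ := (hmemU u).mp hu
    exact hperp u' v
  have hfix : ∀ w' : ι → F, (∀ u, polar (⇑Q) (y0 *ᵥ (E *ᵥ u)) w' = 0) → b *ᵥ w' = w' :=
    fun w' hw' => oconj_fix Q hQ B a b y0 E G hb hEG hEA hAG hy0 hy0A w' hw'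
  by_cases hne : Fintype.card F ≠ 2 ∨ Fintype.card ι ≠ 4
  · obtain ⟨g, hg⟩ := exists_iso_map Q hQ hne U W hUnd hWnd e heQ
    have hgperp : ∀ u v, polar (⇑Q) (y0 *ᵥ (E *ᵥ u)) (ilin Q g (G *ᵥ v)) = 0 := by
      intro u v
      have h1 : y0 *ᵥ (E *ᵥ u) ∈ gmap g U := by
        rw [hg]
        exact (hmemW _).mpr ⟨u, rfl⟩
      obtain ⟨u', hu', hu'eq⟩ := (mem_gmap g U _).mp h1
      obtain ⟨u'', rfl⟩ := (hmemU u').mp hu'
      rw [← hu'eq, ilin_apply, polar_iact]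
      exact hperp u'' v
    refine oconj_core Q hQ A B a b y0 E G (ilin Q g) ha hb hEG hEA hAG hy0A hperp hQE ?_ hgperp ?_
    · intro v
      rw [ilin_apply]
      exact Q_iact g _
    · intro v
      exact hfix _ (fun u => hgperp u v)
  · push Not at hne
    obtain ⟨hF, hn⟩ := hne
    have h2 : (2 : F) = 0 := by
      rcases F2_cases hF (2 : F) with h | h
      · exact h
      · exfalso
        have h3 : (1 : F) + 1 = 1 := by rw [one_add_one_eq_two, h]
        exact one_ne_zero (add_eq_right.mp h3)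
    by_cases hU0 : U = ⊥
    · have hE0 : ∀ v, E *ᵥ v = 0 := by
        intro v
        have h1 : E *ᵥ v ∈ U := (hmemU _).mpr ⟨v, rfl⟩
        rw [hU0, Submodule.mem_bot] at h1
        exact h1
      have hp : ∀ u v, polar (⇑Q) (y0 *ᵥ (E *ᵥ u)) ((LinearMap.id : (ι → F) →ₗ[F] (ι → F))
          (G *ᵥ v)) = 0 := by
        intro u v
        rw [hE0, Matrix.mulVec_zero]
        exact polar_zero_left _ _
      refine oconj_core Q hQ A B a b y0 E G LinearMap.id ha hb hEG hEA hAG hy0A hperp hQE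
        (fun v => rfl) hp ?_
      intro v
      exact hfix _ (fun u => hp u v)
    by_cases hLb : orthQ Q U = ⊥
    · have hG0 : ∀ v, G *ᵥ v = 0 := by
        intro v
        have h1 := hGL v
        rw [hLb, Submodule.mem_bot] at h1
        exact h1
      have hp : ∀ u v, polar (⇑Q) (y0 *ᵥ (E *ᵥ u)) ((LinearMap.id : (ι → F) →ₗ[F] (ι → F))
          (G *ᵥ v)) = 0 := by
        intro u v
        rw [hG0, LinearMap.id_apply]
        exact polar_zero_right _ _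
      refine oconj_core Q hQ A B a b y0 E G LinearMap.id ha hb hEG hEA hAG hy0A hperp hQE
        (fun v => rfl) hp ?_
      intro v
      exact hfix _ (fun u => hp u v)
    -- the plane case
    have hrk : finrank F U = finrank F W := LinearEquiv.finrank_eq e
    have hLnd := nondegOn_orth Q hQ U hUnd
    have hL'nd := nondegOn_orth Q hQ W hWnd
    have hLrk : finrank F ↥(orthQ Q U) = Fintype.card ι - finrank F U := by
      have := LinearMap.BilinForm.finrank_orthogonal hQ U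
      rwa [Module.finrank_fintype_fun_eq_card] at this
    have hL'rk : finrank F ↥(orthQ Q W) = Fintype.card ι - finrank F W := by
      have := LinearMap.BilinForm.finrank_orthogonal hQ W
      rwa [Module.finrank_fintype_fun_eq_card] at this
    have hUle : finrank F U ≤ Fintype.card ι := by
      rw [← Module.finrank_fintype_fun_eq_card (R := F) (η := ι)]
      exact Submodule.finrank_le _
    have hUpos : 0 < finrank F U :=
      Nat.pos_of_ne_zero (fun h => hU0 (Submodule.finrank_eq_zero.mp h))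
    have hL'b : orthQ Q W ≠ ⊥ := by
      intro h
      apply hLb
      apply Submodule.finrank_eq_zero.mp
      have := Submodule.finrank_eq_zero.mpr h
      omega
    obtain ⟨y, z, hyL, hzL, hQy, hyz, hLdec⟩ := plane_of_small Q hF h2 _ hLnd hLb (by omega)
    obtain ⟨y', z', hy'L, hz'L, hQy', hyz', hL'dec⟩ :=
      plane_of_small Q hF h2 _ hL'nd hL'b (by omega)
    have g1 := gauss_top_eq Q hF h2 hQ U hUnd
    have g2 := gauss_top_eq Q hF h2 hQ W hWnd
    have g3 := gauss_congr Q U W e heQ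
    have g4 := gauss_ne_zero Q hF h2 U hUnd
    have hgL : gauss Q (orthQ Q U) = gauss Q (orthQ Q W) := by
      have : gauss Q U * gauss Q (orthQ Q U) = gauss Q U * gauss Q (orthQ Q W) := by
        rw [← g1, g2, g3]
      exact mul_left_cancel₀ g4 this
    rw [gauss_eq_zeros, gauss_eq_zeros] at hgL
    have hcardL : Fintype.card ↥(orthQ Q U) = Fintype.card ↥(orthQ Q W) := by
      rw [Module.card_eq_pow_finrank (K := F) (V := ↥(orthQ Q U)),
        Module.card_eq_pow_finrank (K := F) (V := ↥(orthQ Q W)), hLrk, hL'rk, hrk]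
    have hz : (Finset.univ.filter (fun a : ↥(orthQ Q U) => Q (a : ι → F) = 0)).card =
        (Finset.univ.filter (fun a : ↥(orthQ Q W) => Q (a : ι → F) = 0)).card := by
      have : ((Finset.univ.filter (fun a : ↥(orthQ Q U) => Q (a : ι → F) = 0)).card : ℤ) =
          (Finset.univ.filter (fun a : ↥(orthQ Q W) => Q (a : ι → F) = 0)).card := by
        have hc : (Fintype.card ↥(orthQ Q U) : ℤ) = Fintype.card ↥(orthQ Q W) := by
          exact_mod_cast hcardL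
        linarith
      exact_mod_cast this
    have k1 := plane_zeros Q hF h2 (orthQ Q U) y z hzL hQy hyz hLdec
    have k2 := plane_zeros Q hF h2 (orthQ Q W) y' z' hz'L hQy' hyz' hL'dec
    have hQzz : Q z = Q z' := by
      rcases F2_cases hF (Q z) with h0 | h1 <;> rcases F2_cases hF (Q z') with h0' | h1'
      · rw [h0, h0']
      · exfalso
        have a := k1.1 h0
        have b := k2.2 h1'
        omega
      · exfalso
        have a := k1.2 h1
        have b := k2.1 h0'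
        omega
      · rw [h1, h1']
    obtain ⟨φ, hφ⟩ : ∃ φ : (ι → F) →ₗ[F] (ι → F),
        ∀ w, φ w = polar (⇑Q) z w • y' + polar (⇑Q) y w • z' :=
      ⟨(polarBilin Q z).smulRight y' + (polarBilin Q y).smulRight z', fun w => by
        rw [LinearMap.add_apply, LinearMap.smulRight_apply, LinearMap.smulRight_apply,
          polarBilin_apply_apply, polarBilin_apply_apply]⟩
    have hφL' : ∀ w, φ w ∈ orthQ Q W := by
      intro w
      rw [hφ]
      exact Submodule.add_mem _ (Submodule.smul_mem _ _ hy'L) (Submodule.smul_mem _ _ hz'L)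
    have hp : ∀ u v, polar (⇑Q) (y0 *ᵥ (E *ᵥ u)) (φ (G *ᵥ v)) = 0 := by
      intro u v
      exact (mem_orth_iff Q W _).mp (hφL' _) _ ((hmemW _).mpr ⟨u, rfl⟩)
    refine oconj_core Q hQ A B a b y0 E G φ ha hb hEG hEA hAG hy0A hperp hQE ?_ hp ?_
    · intro v
      obtain ⟨w, hw⟩ : ∃ w, w = G *ᵥ v := ⟨_, rfl⟩
      rw [← hw]
      have hwL : w ∈ orthQ Q U := by
        rw [hw]
        exact hGL v
      have hdec := hLdec w hwL
      obtain ⟨α, hα⟩ : ∃ α, α = polar (⇑Q) z w := ⟨_, rfl⟩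
      obtain ⟨β, hβ⟩ : ∃ β, β = polar (⇑Q) y w := ⟨_, rfl⟩
      rw [← hα, ← hβ] at hdec
      rw [hφ, ← hα, ← hβ, Q_comb2, hQy', hyz', ← hQzz]
      conv_rhs => rw [hdec, Q_comb2, hQy, hyz]
    · intro v
      exact hfix _ (fun u => hp u v)

theorem oconj_glue (hQ : (polarBilin Q).Nondegenerate) (A B : ↥(Cfsg.isometryGroup F ⇑Q))
    (a b y0 E G Wm : Matrix ι ι F)
    (ha : a = ((A : Matrix.GeneralLinearGroup ι F) : Matrix ι ι F))
    (hb : b = ((B : Matrix.GeneralLinearGroup ι F) : Matrix ι ι F))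
    (hEG : E + G = 1) (hEE : E * E = E) (hEA : E * a = a * E) (hAG : a * G = G)
    (hW : (a - 1) * Wm = E)
    (hy0 : IsUnit y0) (hy0A : y0 * a = b * y0)
    (hperp : ∀ u v, polar (⇑Q) (E *ᵥ u) (G *ᵥ v) = 0)
    (hbE : ∀ u v, polar (⇑Q) (y0 *ᵥ (E *ᵥ u)) (y0 *ᵥ (E *ᵥ v)) =
      polar (⇑Q) (E *ᵥ u) (E *ᵥ v)) : IsConj A B :=
  oconj_glue2 Q hQ A B a b y0 E G ha hb hEG hEE hEA hAG hy0 hy0A hperp
    (oconj_defect Q A B a b y0 E Wm ha hb hEE hEA hW hy0A hbE)

end oglue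

end Cfsg.Agent.helper13
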