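import Mathlib
import Cfsg.Agent.Lib_helper13_F2b

set_option autoImplicit false

namespace Cfsg.Agent.helper13

open Module QuadraticMap

section pm1
variable {ι : Type*} [Fintype ι]

/-- weight of a vector over the field of two elements. -/
def wt (v : ι → ZMod 2) : ℕ := ∑ i, (v i).val

theorem zmod2_val_add : ∀ a b : ZMod 2, (a + b).val + 2 * (a * b).val = a.val + b.val := by
  decide

theorem wt_add (u v : ι → ZMod 2) : wt (u + v) + 2 * wt (u * v) = wt u + wt v := by
  unfold wt
  rw [Finset.mul_sum, ← Finset.sum_add_distrib, ← Finset.sum_add_distrib]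
  apply Finset.sum_congr rfl
  intro i _
  simp only [Pi.add_apply, Pi.mul_apply]
  exact zmod2_val_add (u i) (v i)

theorem sum_eq_wt (v : ι → ZMod 2) : ∑ i, v i = ((wt v : ℕ) : ZMod 2) := by
  unfold wt
  rw [Nat.cast_sum]
  apply Finset.sum_congr rfl
  intro i _
  rw [ZMod.natCast_zmod_val]

theorem dot_eq_wt (u v : ι → ZMod 2) : u ⬝ᵥ v = ((wt (u * v) : ℕ) : ZMod 2) := by
  rw [← sum_eq_wt]
  rfl

theorem wt_comp_equiv (σ : ι ≃ ι) (v : ι → ZMod 2) : wt (fun i => v (σ i)) = wt v := by
  unfold wt
  exact Equiv.sum_comp σ (fun i => (v i).val)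

/-- half of the weight, modulo two. -/
def halfWt (v : ι → ZMod 2) : ZMod 2 := ((wt v / 2 : ℕ) : ZMod 2)

theorem half_identity (a b c w : ℕ) (h : w + 2 * c = a + b) :
    ((w / 2 : ℕ) : ZMod 2) =
      ((a / 2 : ℕ) : ZMod 2) + ((b / 2 : ℕ) : ZMod 2) + (a : ZMod 2) * (b : ZMod 2) +
        (c : ZMod 2) := by
  have key : (w / 2) % 2 = (a / 2 + b / 2 + a * b + c) % 2 := by
    rcases Nat.mod_two_eq_zero_or_one a with ha | ha <;>
      rcases Nat.mod_two_eq_zero_or_one b with hb | hb
    · have hab : a * b % 2 = 0 := by rw [Nat.mul_mod, ha, hb]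
      omega
    · have hab : a * b % 2 = 0 := by rw [Nat.mul_mod, ha, hb]
      omega
    · have hab : a * b % 2 = 0 := by rw [Nat.mul_mod, ha, hb]
      omega
    · have hab : a * b % 2 = 1 := by rw [Nat.mul_mod, ha, hb]
      omega
  have h2 : ((w / 2 : ℕ) : ZMod 2) = ((a / 2 + b / 2 + a * b + c : ℕ) : ZMod 2) := by
    rw [ZMod.natCast_eq_natCast_iff']
    exact key
  rw [h2]
  push_cast
  ring

/-- the sum functional. -/
noncomputable def sumLin (ι : Type*) [Fintype ι] : (ι → ZMod 2) →ₗ[ZMod 2] ZMod 2 :=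
  ∑ i, LinearMap.proj i

theorem sumLin_apply (v : ι → ZMod 2) : sumLin ι v = ∑ i, v i := by
  simp [sumLin]

theorem sumLin_eq_wt (v : ι → ZMod 2) : sumLin ι v = ((wt v : ℕ) : ZMod 2) := by
  rw [sumLin_apply, sum_eq_wt]

/-- the polar form of the permutation module. -/
noncomputable def pmB (ι : Type*) [Fintype ι] : LinearMap.BilinForm (ZMod 2) (ι → ZMod 2) :=
  LinearMap.mk₂ (ZMod 2) (fun u v => sumLin ι u * sumLin ι v + u ⬝ᵥ v)
    (by
      intro u u' v
      simp only [map_add, add_dotProduct]
      ring)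
    (by
      intro c u v
      simp only [map_smul, smul_dotProduct, smul_eq_mul]
      ring)
    (by
      intro u v v'
      simp only [map_add, dotProduct_add]
      ring)
    (by
      intro c u v
      simp only [map_smul, dotProduct_smul, smul_eq_mul]
      ring)

theorem pmB_apply (u v : ι → ZMod 2) : pmB ι u v = sumLin ι u * sumLin ι v + u ⬝ᵥ v := rfl

theorem halfWt_add (u v : ι → ZMod 2) : halfWt (u + v) = halfWt u + halfWt v + pmB ι u v := by
  rw [pmB_apply, sumLin_eq_wt, sumLin_eq_wt, dot_eq_wt]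
  unfold halfWt
  rw [half_identity (wt u) (wt v) (wt (u * v)) (wt (u + v)) (wt_add u v)]
  ring

end pm1

section f2b
variable {V : Type*} [AddCommGroup V] [Module (ZMod 2) V]

/-- a function with prescribed bilinear polar is a quadratic form, over the field of two
elements. -/
noncomputable def f2QuadB (B : LinearMap.BilinForm (ZMod 2) V) (q : V → ZMod 2)
    (hq : ∀ u v, q (u + v) = q u + q v + B u v) : QuadraticForm (ZMod 2) V :=
  have hpol : ∀ u v, polar q u v = B u v := by
    intro u v
    unfold polar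
    rw [hq u v]
    ring
  have h0 : q 0 = 0 := by
    have := hq 0 0
    simp only [add_zero, map_zero, LinearMap.zero_apply] at this
    rw [zmod2_add_self] at this
    exact this
  QuadraticMap.ofPolar q
    (by
      intro a x
      rcases zmod2_cases a with rfl | rfl
      · simp [h0]
      · simp)
    (by
      intro x x' y
      rw [hpol, hpol, hpol, map_add, LinearMap.add_apply])
    (by
      intro a x y
      rw [hpol, hpol, map_smul, LinearMap.smul_apply])

theorem f2QuadB_apply (B : LinearMap.BilinForm (ZMod 2) V) (q : V → ZMod 2)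
    (hq : ∀ u v, q (u + v) = q u + q v + B u v) (v : V) : f2QuadB B q hq v = q v := rfl

theorem f2QuadB_polar (B : LinearMap.BilinForm (ZMod 2) V) (q : V → ZMod 2)
    (hq : ∀ u v, q (u + v) = q u + q v + B u v) (u v : V) :
    polar (⇑(f2QuadB B q hq)) u v = B u v := by
  show polar q u v = _
  unfold polar
  rw [hq u v]
  ring

end f2b

section pm2
variable (ι : Type*) [Fintype ι]

/-- the quadratic form `half the weight` on the permutation module. -/
noncomputable def QP : QuadraticForm (ZMod 2) (ι → ZMod 2) :=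
  f2QuadB (pmB ι) halfWt halfWt_add

variable {ι}

theorem QP_apply (v : ι → ZMod 2) : QP ι v = ((wt v / 2 : ℕ) : ZMod 2) := rfl

theorem QP_polar (u v : ι → ZMod 2) :
    polar (⇑(QP ι)) u v = sumLin ι u * sumLin ι v + u ⬝ᵥ v :=
  f2QuadB_polar (pmB ι) halfWt halfWt_add u v

theorem sumLin_single [DecidableEq ι] (i : ι) : sumLin ι (Pi.single i 1) = 1 := by
  rw [sumLin_apply, Finset.sum_pi_single']
  simp

theorem QP_nondeg [DecidableEq ι] (hι : Even (Fintype.card ι)) :
    (polarBilin (QP ι)).Nondegenerate := by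
  have hleft : (polarBilin (QP ι)).SeparatingLeft := by
    intro u hu
    have h1 : ∀ i, u i = sumLin ι u := by
      intro i
      have h := hu (Pi.single i 1)
      rw [polarBilin_apply_apply, QP_polar, sumLin_single, dotProduct_single, mul_one,
        mul_one] at h
      have hss := zmod2_add_self (sumLin ι u)
      linear_combination h - hss
    have h2 : sumLin ι u = 0 := by
      have h3 : sumLin ι u = ∑ _i : ι, sumLin ι u := by
        conv_lhs => rw [sumLin_apply]
        exact Finset.sum_congr rfl (fun i _ => h1 i)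
      rw [Finset.sum_const, Finset.card_univ, nsmul_eq_mul,
        ZMod.natCast_eq_zero_iff_even.mpr hι, zero_mul] at h3
      exact h3
    funext i
    rw [h1 i, h2]
    rfl
  refine ⟨hleft, ?_⟩
  intro v hv
  apply hleft v
  intro u
  have := hv u
  rw [polarBilin_apply_apply] at this ⊢
  rw [polar_comm]
  exact this

/-- permuting the coordinates. -/
def permL (σ : Equiv.Perm ι) : (ι → ZMod 2) →ₗ[ZMod 2] (ι → ZMod 2) where
  toFun v := fun i => v (σ⁻¹ i)
  map_add' _ _ := rfl
  map_smul' _ _ := rfl

theorem permL_apply (σ : Equiv.Perm ι) (v : ι → ZMod 2) (i : ι) : permL σ v i = v (σ⁻¹ i) := rfl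

theorem wt_permL (σ : Equiv.Perm ι) (v : ι → ZMod 2) : wt (permL σ v) = wt v :=
  wt_comp_equiv σ⁻¹ v

theorem QP_permL (σ : Equiv.Perm ι) (v : ι → ZMod 2) : QP ι (permL σ v) = QP ι v := by
  rw [QP_apply, QP_apply, wt_permL]

theorem sumLin_permL (σ : Equiv.Perm ι) (v : ι → ZMod 2) : sumLin ι (permL σ v) = sumLin ι v := by
  rw [sumLin_eq_wt, sumLin_eq_wt, wt_permL]

end pm2

end Cfsg.Agent.helper13
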