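import Mathlib
import Cfsg.Agent.Lib_helper13_PermMod1

set_option autoImplicit false

namespace Cfsg.Agent.helper13

open Module QuadraticMap

section pm3
variable {ι : Type*} [Fintype ι] [DecidableEq ι]

/-- the all-ones vector. -/
def onesV (ι : Type*) : ι → ZMod 2 := fun _ => 1

omit [DecidableEq ι] in
theorem wt_ones : wt (onesV ι) = Fintype.card ι := by
  unfold wt onesV
  have h1 : (1 : ZMod 2).val = 1 := by decide
  rw [h1]
  simp

theorem wt_single (o : ι) : wt (Pi.single o (1 : ZMod 2)) = 1 := by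
  unfold wt
  rw [Finset.sum_eq_single o]
  · rw [Pi.single_eq_same]
    decide
  · intro i _ hi
    rw [Pi.single_eq_of_ne hi]
    rfl
  · intro h
    exact absurd (Finset.mem_univ o) h

omit [DecidableEq ι] in
theorem sumLin_ones (hι : Even (Fintype.card ι)) : sumLin ι (onesV ι) = 0 := by
  rw [sumLin_eq_wt, wt_ones]
  exact ZMod.natCast_eq_zero_iff_even.mpr hι

omit [DecidableEq ι] in
theorem QP_ones (h4 : 4 ∣ Fintype.card ι) : QP ι (onesV ι) = 0 := by
  rw [QP_apply, wt_ones, ZMod.natCast_eq_zero_iff_even]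
  obtain ⟨t, ht⟩ := h4
  rw [ht]
  exact ⟨t, by omega⟩

theorem QP_single (o : ι) : QP ι (Pi.single o 1) = 0 := by
  rw [QP_apply, wt_single]
  rfl

omit [DecidableEq ι] in
theorem ones_dot (v : ι → ZMod 2) : onesV ι ⬝ᵥ v = sumLin ι v := by
  rw [sumLin_apply]
  unfold onesV dotProduct
  simp

omit [DecidableEq ι] in
theorem polar_ones (hι : Even (Fintype.card ι)) (v : ι → ZMod 2) :
    polar (⇑(QP ι)) (onesV ι) v = sumLin ι v := by
  rw [QP_polar, sumLin_ones hι, zero_mul, zero_add, ones_dot]

theorem polar_single (o : ι) (v : ι → ZMod 2) :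
    polar (⇑(QP ι)) (Pi.single o 1) v = sumLin ι v + v o := by
  rw [QP_polar, sumLin_single, one_mul, single_dotProduct, one_mul]

theorem polar_ones_single (hι : Even (Fintype.card ι)) (o : ι) :
    polar (⇑(QP ι)) (onesV ι) (Pi.single o 1) = 1 := by
  rw [polar_ones hι, sumLin_single]

/-- the heart of the permutation module, realised as a complement of a hyperbolic pair. -/
noncomputable def heartW (ι : Type*) [Fintype ι] [DecidableEq ι] (o : ι) :
    Submodule (ZMod 2) (ι → ZMod 2) :=
  hypCompl (QP ι) (onesV ι) (Pi.single o 1)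

theorem mem_heartW (hι : Even (Fintype.card ι)) (o : ι) (w : ι → ZMod 2) :
    w ∈ heartW ι o ↔ sumLin ι w = 0 ∧ w o = 0 := by
  unfold heartW
  rw [mem_hypCompl_iff, polar_ones hι, polar_single]
  constructor
  · rintro ⟨h1, h2⟩
    rw [h1, zero_add] at h2
    exact ⟨h1, h2⟩
  · rintro ⟨h1, h2⟩
    rw [h1, h2, zero_add]
    exact ⟨rfl, rfl⟩

/-- the twisted permutation action. -/
def twL (o : ι) (σ : Equiv.Perm ι) : (ι → ZMod 2) →ₗ[ZMod 2] (ι → ZMod 2) where
  toFun v := fun i => v (σ⁻¹ i) + v (σ⁻¹ o)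
  map_add' u v := by
    funext i
    simp only [Pi.add_apply]
    ring
  map_smul' c v := by
    funext i
    simp only [Pi.smul_apply, smul_eq_mul, RingHom.id_apply]
    ring

omit [Fintype ι] [DecidableEq ι] in
theorem twL_apply (o : ι) (σ : Equiv.Perm ι) (v : ι → ZMod 2) (i : ι) :
    twL o σ v i = v (σ⁻¹ i) + v (σ⁻¹ o) := rfl

omit [DecidableEq ι] in
theorem twL_eq (o : ι) (σ : Equiv.Perm ι) (v : ι → ZMod 2) :
    twL o σ v = permL σ v + (permL σ v o) • onesV ι := by
  funext i
  simp [twL_apply, permL_apply, onesV]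

omit [Fintype ι] [DecidableEq ι] in
theorem twL_mul (o : ι) (σ τ : Equiv.Perm ι) (v : ι → ZMod 2) :
    twL o (σ * τ) v = twL o σ (twL o τ v) := by
  funext i
  simp only [twL_apply, mul_inv_rev, Equiv.Perm.mul_apply]
  have := zmod2_add_self (v (τ⁻¹ o))
  linear_combination -this

theorem twL_mem (hι : Even (Fintype.card ι)) (o : ι) (σ : Equiv.Perm ι) (w : ι → ZMod 2)
    (hw : w ∈ heartW ι o) : twL o σ w ∈ heartW ι o := by
  rw [mem_heartW hι] at hw ⊢
  constructor
  · rw [twL_eq, map_add, map_smul, sumLin_permL, sumLin_ones hι, hw.1]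
    simp
  · rw [twL_apply]
    exact zmod2_add_self _

omit [Fintype ι] [DecidableEq ι] in
theorem twL_one (o : ι) (w : ι → ZMod 2) (hw : w o = 0) : twL o 1 w = w := by
  funext i
  simp [twL_apply, hw]

theorem QP_twL (hι : Even (Fintype.card ι)) (h4 : 4 ∣ Fintype.card ι) (o : ι)
    (σ : Equiv.Perm ι) (w : ι → ZMod 2) (hw : w ∈ heartW ι o) :
    QP ι (twL o σ w) = QP ι w := by
  rw [twL_eq]
  rcases zmod2_cases (permL σ w o) with h | h
  · rw [h, zero_smul, add_zero, QP_permL]
  · have hadd : ∀ u v : ι → ZMod 2, QP ι (u + v) = QP ι u + QP ι v + polar (⇑(QP ι)) u v := by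
      intro u v
      unfold polar
      ring
    rw [h, one_smul, hadd, QP_permL, QP_ones h4, polar_comm, polar_ones hι, sumLin_permL,
      ((mem_heartW hι o w).mp hw).1]
    simp

/-- the representation on the heart. -/
noncomputable def heartRep (hι : Even (Fintype.card ι)) (o : ι) :
    Equiv.Perm ι →* Module.End (ZMod 2) (heartW ι o) where
  toFun σ := LinearMap.codRestrict (heartW ι o) ((twL o σ).comp (heartW ι o).subtype)
    (fun w => twL_mem hι o σ w.1 w.2)
  map_one' := by
    apply LinearMap.ext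
    intro w
    apply Subtype.ext
    show twL o 1 w.1 = w.1
    exact twL_one o w.1 ((mem_heartW hι o w.1).mp w.2).2
  map_mul' σ τ := by
    apply LinearMap.ext
    intro w
    apply Subtype.ext
    show twL o (σ * τ) w.1 = twL o σ (twL o τ w.1)
    exact twL_mul o σ τ w.1

theorem heartRep_apply (hι : Even (Fintype.card ι)) (o : ι) (σ : Equiv.Perm ι)
    (w : heartW ι o) : ((heartRep hι o σ w : heartW ι o) : ι → ZMod 2) = twL o σ w.1 := rfl

omit [DecidableEq ι] in
theorem exists_notMem_of_card_lt (T : Finset ι) (h : T.card < Fintype.card ι) :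
    ∃ x, x ∉ T := by
  by_contra hc
  push Not at hc
  have : T = Finset.univ := Finset.eq_univ_iff_forall.mpr hc
  rw [this, Finset.card_univ] at h
  omega

theorem pair_mem_heartW (hι : Even (Fintype.card ι)) (o a b : ι) (ha : a ≠ o)
    (hb : b ≠ o) : (Pi.single a 1 + Pi.single b 1 : ι → ZMod 2) ∈ heartW ι o := by
  rw [mem_heartW hι]
  constructor
  · rw [map_add, sumLin_single, sumLin_single]
    exact zmod2_add_self 1
  · rw [Pi.add_apply, Pi.single_eq_of_ne (Ne.symm ha), Pi.single_eq_of_ne (Ne.symm hb), add_zero]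

omit [Fintype ι] in
theorem pair_apply (a b i : ι) :
    (Pi.single a 1 + Pi.single b 1 : ι → ZMod 2) i =
      (if i = a then 1 else 0) + (if i = b then 1 else 0) := by
  simp [Pi.single_apply]

omit [Fintype ι] [DecidableEq ι] in
theorem perm_inv_apply_self (σ : Equiv.Perm ι) (j : ι) : σ⁻¹ (σ j) = j := σ.symm_apply_apply j

omit [Fintype ι] [DecidableEq ι] in
theorem perm_apply_inv_self (σ : Equiv.Perm ι) (j : ι) : σ (σ⁻¹ j) = j := σ.apply_symm_apply j

theorem heartRep_injective (hι : Even (Fintype.card ι)) (h5 : 5 ≤ Fintype.card ι) (o : ι) :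
    Function.Injective (heartRep hι o) := by
  rw [injective_iff_map_eq_one]
  intro σ hσ
  have hfix : ∀ w ∈ heartW ι o, twL o σ w = w := by
    intro w hw
    have := congrArg (fun f : Module.End (ZMod 2) (heartW ι o) =>
      ((f ⟨w, hw⟩ : heartW ι o) : ι → ZMod 2)) hσ
    exact this
  have star : ∀ w ∈ heartW ι o, ∀ j, w j + w (σ⁻¹ o) = w (σ j) := by
    intro w hw j
    have := congr_fun (hfix w hw) (σ j)
    rw [twL_apply, perm_inv_apply_self] at this
    exact this
  by_cases hpo : σ⁻¹ o = o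
  · have hσo : σ o = o := by
      have := congrArg σ hpo
      rw [perm_apply_inv_self] at this
      exact this.symm
    ext j
    rw [Equiv.Perm.one_apply]
    by_contra hj
    have hjo : j ≠ o := by
      rintro rfl
      exact hj hσo
    have hσjo : σ j ≠ o := by
      intro h
      apply hjo
      apply σ.injective
      rw [h, hσo]
    obtain ⟨b, hb⟩ := exists_notMem_of_card_lt ({o, j, σ j} : Finset ι)
      (lt_of_le_of_lt Finset.card_le_three (by omega))
    simp only [Finset.mem_insert, Finset.mem_singleton, not_or] at hb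
    obtain ⟨hbo, hbj, hbσj⟩ := hb
    have hw := pair_mem_heartW hι o j b hjo hbo
    have h1 := star _ hw j
    rw [hpo, pair_apply, pair_apply, pair_apply, if_pos rfl, if_neg (Ne.symm hbj),
      if_neg (Ne.symm hjo), if_neg (Ne.symm hbo), if_neg hj, if_neg (Ne.symm hbσj)] at h1
    revert h1
    decide
  · exfalso
    obtain ⟨b, hb⟩ := exists_notMem_of_card_lt ({o, σ⁻¹ o} : Finset ι)
      (lt_of_le_of_lt Finset.card_le_two (by omega))
    simp only [Finset.mem_insert, Finset.mem_singleton, not_or] at hb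
    obtain ⟨hbo, hbp⟩ := hb
    obtain ⟨j, hj⟩ := exists_notMem_of_card_lt ({σ⁻¹ o, b, σ⁻¹ (σ⁻¹ o), σ⁻¹ b} : Finset ι)
      (lt_of_le_of_lt Finset.card_le_four (by omega))
    simp only [Finset.mem_insert, Finset.mem_singleton, not_or] at hj
    obtain ⟨hjp, hjb, hjσp, hjσb⟩ := hj
    have hσjp : σ j ≠ σ⁻¹ o := by
      intro h
      apply hjσp
      rw [← h, perm_inv_apply_self]
    have hσjb : σ j ≠ b := by
      intro h
      apply hjσb
      rw [← h, perm_inv_apply_self]
    have hw := pair_mem_heartW hι o (σ⁻¹ o) b hpo hbo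
    have h1 := star _ hw j
    rw [pair_apply, pair_apply, pair_apply, if_neg hjp, if_neg hjb, if_pos rfl,
      if_neg (Ne.symm hbp), if_neg hσjp, if_neg hσjb] at h1
    revert h1
    decide

end pm3

section transport

/-- an injective isometric representation on a space isometric to a standard one gives an
injective homomorphism to the matrix isometry group. -/
theorem exists_hom_of_rep {F : Type*} [Field F] {G : Type*} [Group G] {κ : Type} [Fintype κ]
    [DecidableEq κ] {W : Type*} [AddCommGroup W] [Module F W]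
    (Qstd : (κ → F) → F) (QW : W → F) (g : W ≃ₗ[F] (κ → F)) (hg : ∀ w, QW w = Qstd (g w))
    (ρ : G →* Module.End F W) (hρ : ∀ σ w, QW (ρ σ w) = QW w) (hinj : Function.Injective ρ) :
    ∃ φ : G →* ↥(Cfsg.isometryGroup F Qstd), Function.Injective φ := by
  classical
  set b := Module.Basis.ofEquivFun g with hb
  have hrepr : ∀ x : W, (⇑(b.repr x) : κ → F) = g x := by
    intro x
    funext i
    exact Module.Basis.ofEquivFun_repr_apply g x i
  let M : G →* Matrix κ κ F :=
    (MonoidHomClass.toMonoidHom (LinearMap.toMatrixAlgEquiv b)).comp ρ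
  have hM : ∀ σ, M σ = LinearMap.toMatrix b b (ρ σ) := fun σ => rfl
  have key : ∀ σ (u : κ → F), (M σ).mulVec u = g (ρ σ (g.symm u)) := by
    intro σ u
    have := LinearMap.toMatrix_mulVec_repr b b (ρ σ) (g.symm u)
    rw [hrepr, hrepr, LinearEquiv.apply_symm_apply] at this
    rw [hM]
    exact this
  have hmem : ∀ σ, M.toHomUnits σ ∈ Cfsg.isometryGroup F Qstd := by
    intro σ u _
    show Qstd (((M.toHomUnits σ : (Matrix κ κ F)ˣ) : Matrix κ κ F).mulVec u) = Qstd u
    rw [MonoidHom.coe_toHomUnits, key, ← hg, hρ, hg, LinearEquiv.apply_symm_apply]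
  refine ⟨M.toHomUnits.codRestrict (Cfsg.isometryGroup F Qstd) hmem, ?_⟩
  intro σ τ hστ
  apply hinj
  have h1 : M σ = M τ := by
    have := congrArg (fun x : ↥(Cfsg.isometryGroup F Qstd) =>
      ((x : Matrix.GeneralLinearGroup κ F) : Matrix κ κ F)) hστ
    simpa [MonoidHom.coe_toHomUnits] using this
  exact (LinearMap.toMatrixAlgEquiv b).injective h1

end transport

end Cfsg.Agent.helper13
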