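import Mathlib
import Cfsg.Agent.Lib_helper13_PermMod2

set_option autoImplicit false

namespace Cfsg.Agent.helper13

open Module QuadraticMap

section count

/-- sums over all vectors of a function of the weight. -/
def SW (N : ℕ) (f : ℕ → ℤ) : ℤ := ∑ v : Fin N → ZMod 2, f (wt v)

theorem sum_zmod2 {M : Type*} [AddCommMonoid M] (g : ZMod 2 → M) :
    ∑ a : ZMod 2, g a = g 0 + g 1 := by
  have : (Finset.univ : Finset (ZMod 2)) = {0, 1} := by decide
  rw [this, Finset.sum_pair (by decide)]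

theorem wt_cons (N : ℕ) (a : ZMod 2) (v : Fin N → ZMod 2) :
    wt (Fin.cons a v : Fin (N + 1) → ZMod 2) = a.val + wt v := by
  unfold wt
  rw [Fin.sum_univ_succ]
  simp

theorem SW_succ (N : ℕ) (f : ℕ → ℤ) :
    SW (N + 1) f = SW N f + SW N (fun w => f (w + 1)) := by
  unfold SW
  rw [← Equiv.sum_comp (Fin.consEquiv (fun _ : Fin (N + 1) => ZMod 2)) (fun v => f (wt v))]
  rw [Fintype.sum_prod_type, sum_zmod2]
  congr 1
  · apply Finset.sum_congr rfl
    intro v _
    show f (wt (Fin.cons 0 v : Fin (N + 1) → ZMod 2)) = _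
    rw [wt_cons]
    simp
  · apply Finset.sum_congr rfl
    intro v _
    show f (wt (Fin.cons 1 v : Fin (N + 1) → ZMod 2)) = _
    rw [wt_cons]
    have : (1 : ZMod 2).val = 1 := by decide
    rw [this, add_comm]

/-- real part of `i ^ w`. -/
def chiR (w : ℕ) : ℤ := if w % 4 = 0 then 1 else if w % 4 = 2 then -1 else 0

/-- imaginary part of `i ^ w`. -/
def chiI (w : ℕ) : ℤ := if w % 4 = 1 then 1 else if w % 4 = 3 then -1 else 0

theorem chiR_succ (w : ℕ) : chiR (w + 1) = - chiI w := by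
  unfold chiR chiI
  have h1 : (w + 1) % 4 = (w % 4 + 1) % 4 := by omega
  rw [h1]
  have h2 : w % 4 < 4 := Nat.mod_lt _ (by norm_num)
  generalize w % 4 = r at h2
  interval_cases r <;> decide

theorem chiI_succ (w : ℕ) : chiI (w + 1) = chiR w := by
  unfold chiR chiI
  have h1 : (w + 1) % 4 = (w % 4 + 1) % 4 := by omega
  rw [h1]
  have h2 : w % 4 < 4 := Nat.mod_lt _ (by norm_num)
  generalize w % 4 = r at h2
  interval_cases r <;> decide

theorem DE_succ (N : ℕ) :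
    SW (N + 1) chiR = SW N chiR - SW N chiI ∧ SW (N + 1) chiI = SW N chiI + SW N chiR := by
  constructor
  · rw [SW_succ]
    have : (fun w => chiR (w + 1)) = fun w => - chiI w := funext chiR_succ
    rw [this]
    unfold SW
    rw [Finset.sum_neg_distrib]
    ring
  · rw [SW_succ]
    have : (fun w => chiI (w + 1)) = chiR := funext chiI_succ
    rw [this]

theorem DE_zero : SW 0 chiR = 1 ∧ SW 0 chiI = 0 := by
  unfold SW
  constructor
  · simp [wt, chiR]
  · simp [wt, chiI]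

theorem DE_formula (k : ℕ) :
    SW (4 * k + 3) chiR = -2 * (-4) ^ k ∧ SW (4 * k + 3) chiI = 2 * (-4) ^ k := by
  induction k with
  | zero =>
    obtain ⟨d0, e0⟩ := DE_zero
    obtain ⟨d1, e1⟩ := DE_succ 0
    obtain ⟨d2, e2⟩ := DE_succ 1
    obtain ⟨d3, e3⟩ := DE_succ 2
    simp only [Nat.reduceAdd] at d1 e1 d2 e2 d3 e3
    simp only [Nat.mul_zero, Nat.zero_add, pow_zero, mul_one]
    rw [d0, e0] at d1 e1
    rw [d1, e1] at d2 e2
    rw [d2, e2] at d3 e3
    constructor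
    · rw [d3]; norm_num
    · rw [e3]; norm_num
  | succ k ih =>
    obtain ⟨d0, e0⟩ := ih
    have e : 4 * (k + 1) + 3 = 4 * k + 3 + 1 + 1 + 1 + 1 := by ring
    rw [e]
    obtain ⟨d1, e1⟩ := DE_succ (4 * k + 3)
    obtain ⟨d2, e2⟩ := DE_succ (4 * k + 3 + 1)
    obtain ⟨d3, e3⟩ := DE_succ (4 * k + 3 + 1 + 1)
    obtain ⟨d4, e4⟩ := DE_succ (4 * k + 3 + 1 + 1 + 1)
    constructor
    · rw [d4, d3, e3, d2, e2, d1, e1, d0, e0, pow_succ]
      ring
    · rw [e4, d3, e3, d2, e2, d1, e1, d0, e0, pow_succ]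
      ring

theorem SW_one (N : ℕ) : SW N (fun _ => 1) = 2 ^ N := by
  unfold SW
  simp

theorem SW_sgn (N : ℕ) : SW (N + 1) (fun w => (-1) ^ w) = 0 := by
  rw [SW_succ]
  unfold SW
  rw [← Finset.sum_add_distrib]
  apply Finset.sum_eq_zero
  intro v _
  ring

theorem ind_identity (w : ℕ) :
    (4 : ℤ) * (if w % 4 = 0 then 1 else 0) = 1 + (-1) ^ w + 2 * chiR w := by
  have h0 : (-1 : ℤ) ^ w = (-1) ^ (w % 4) := by
    conv_lhs => rw [← Nat.div_add_mod w 4]
    rw [pow_add, pow_mul]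
    norm_num
  rw [h0]
  unfold chiR
  have h2 : w % 4 < 4 := Nat.mod_lt _ (by norm_num)
  generalize w % 4 = r at h2
  interval_cases r <;> norm_num

/-- number of vectors of weight divisible by four. -/
noncomputable def c0 (N : ℕ) : ℕ := Nat.card {v : Fin N → ZMod 2 // wt v % 4 = 0}

theorem c0_cast (N : ℕ) : ((c0 N : ℕ) : ℤ) = SW N (fun w => if w % 4 = 0 then 1 else 0) := by
  classical
  unfold c0 SW
  rw [Nat.card_eq_fintype_card, Fintype.card_subtype, Finset.card_filter]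
  push_cast
  rfl

theorem four_c0 (k : ℕ) : 4 * ((c0 (4 * k + 3) : ℕ) : ℤ) = 2 ^ (4 * k + 3) - 4 * (-4) ^ k := by
  rw [c0_cast]
  have h1 : 4 * SW (4 * k + 3) (fun w => if w % 4 = 0 then 1 else 0) =
      SW (4 * k + 3) (fun _ => 1) + SW (4 * k + 2 + 1) (fun w => (-1) ^ w) +
        2 * SW (4 * k + 3) chiR := by
    unfold SW
    rw [Finset.mul_sum, Finset.mul_sum, ← Finset.sum_add_distrib, ← Finset.sum_add_distrib]
    apply Finset.sum_congr rfl
    intro v _
    exact ind_identity (wt v)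
  rw [h1, SW_one, SW_sgn, (DE_formula k).1]
  ring

end count

section heartcount

theorem heart_char (N : ℕ) (hN : Even (Fintype.card (Fin (N + 1)))) (w : Fin (N + 1) → ZMod 2) :
    (w ∈ heartW (Fin (N + 1)) 0 ∧ QP (Fin (N + 1)) w = 0) ↔ (w 0 = 0 ∧ wt w % 4 = 0) := by
  rw [mem_heartW hN, sumLin_eq_wt, QP_apply, ZMod.natCast_eq_zero_iff_even,
    ZMod.natCast_eq_zero_iff_even, Nat.even_iff, Nat.even_iff]
  constructor
  · rintro ⟨⟨h1, h2⟩, h3⟩
    exact ⟨h2, by omega⟩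
  · rintro ⟨h1, h2⟩
    exact ⟨⟨by omega, h1⟩, by omega⟩

theorem wt_tail (N : ℕ) (w : Fin (N + 1) → ZMod 2) (hw : w 0 = 0) : wt (Fin.tail w) = wt w := by
  conv_rhs => rw [← Fin.cons_self_tail w]
  rw [wt_cons, hw]
  simp

theorem card_heart_zeros (N : ℕ) (hN : Even (Fintype.card (Fin (N + 1)))) :
    Nat.card {w : heartW (Fin (N + 1)) 0 //
      ((QP (Fin (N + 1))).comp (heartW (Fin (N + 1)) 0).subtype) w = 0} = c0 N := by
  unfold c0
  apply Nat.card_congr
  refine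
    { toFun := fun w => ⟨Fin.tail (w.1 : Fin (N + 1) → ZMod 2), ?_⟩
      invFun := fun v => ⟨⟨Fin.cons 0 v.1, ?_⟩, ?_⟩
      left_inv := ?_
      right_inv := ?_ }
  · have h := (heart_char N hN w.1.1).mp ⟨w.1.2, w.2⟩
    rw [wt_tail N _ h.1]
    exact h.2
  · have h : ((Fin.cons 0 v.1 : Fin (N + 1) → ZMod 2) 0 = 0 ∧
        wt (Fin.cons 0 v.1 : Fin (N + 1) → ZMod 2) % 4 = 0) := by
      refine ⟨rfl, ?_⟩
      rw [wt_cons]
      simpa using v.2
    exact ((heart_char N hN _).mpr h).1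
  · have h : ((Fin.cons 0 v.1 : Fin (N + 1) → ZMod 2) 0 = 0 ∧
        wt (Fin.cons 0 v.1 : Fin (N + 1) → ZMod 2) % 4 = 0) := by
      refine ⟨rfl, ?_⟩
      rw [wt_cons]
      simpa using v.2
    exact ((heart_char N hN _).mpr h).2
  · intro w
    apply Subtype.ext
    apply Subtype.ext
    have h := (heart_char N hN w.1.1).mp ⟨w.1.2, w.2⟩
    show (Fin.cons 0 (Fin.tail (w.1 : Fin (N + 1) → ZMod 2)) : Fin (N + 1) → ZMod 2) = w.1.1
    have h2 := Fin.cons_self_tail (w.1.1 : Fin (N + 1) → ZMod 2)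
    rw [h.1] at h2
    exact h2
  · intro v
    apply Subtype.ext
    show Fin.tail (Fin.cons 0 v.1 : Fin (N + 1) → ZMod 2) = v.1
    exact Fin.tail_cons _ _

end heartcount

end Cfsg.Agent.helper13
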