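import Mathlib
import Cfsg.Agent.Lib_helper13_PermMod3

set_option autoImplicit false

namespace Cfsg.Agent.helper13

open Module QuadraticMap

theorem perm_embeds (k : ℕ) (hk : 1 ≤ k) :
    (Odd k → ∃ φ : Equiv.Perm (Fin (4 * k + 3 + 1)) →*
        ↥(Cfsg.isometryGroup (ZMod 2) (Cfsg.quadFormPlus (2 * k + 1) (ZMod 2))),
        Function.Injective φ) ∧
    (Even k → ∃ φ : Equiv.Perm (Fin (4 * k + 3 + 1)) →*
        ↥(Cfsg.isometryGroup (ZMod 2) (Cfsg.quadFormMinus (2 * k) (ZMod 2) 1 1)),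
        Function.Injective φ) := by
  classical
  have hcard : Fintype.card (Fin (4 * k + 3 + 1)) = 4 * k + 4 := by simp
  have hι : Even (Fintype.card (Fin (4 * k + 3 + 1))) := by
    rw [hcard]
    exact ⟨2 * k + 2, by ring⟩
  have h4 : 4 ∣ Fintype.card (Fin (4 * k + 3 + 1)) := by
    rw [hcard]
    exact ⟨k + 1, by ring⟩
  have h5 : 5 ≤ Fintype.card (Fin (4 * k + 3 + 1)) := by
    rw [hcard]
    omega
  have hnd : (polarBilin ((QP (Fin (4 * k + 3 + 1))).comp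
      (heartW (Fin (4 * k + 3 + 1)) 0).subtype)).Nondegenerate :=
    hypCompl_nondeg (QP _) (QP_nondeg hι) (QP_ones h4) (QP_single 0) (polar_ones_single hι 0)
  have hrk : finrank (ZMod 2) (heartW (Fin (4 * k + 3 + 1)) 0) = 2 * (2 * k + 1) := by
    have := hypCompl_finrank (QP (Fin (4 * k + 3 + 1))) (QP_nondeg hι) (QP_ones h4)
      (QP_single 0) (polar_ones_single hι 0)
    rw [Module.finrank_fintype_fun_eq_card, hcard] at this
    unfold heartW
    omega
  haveI : Fintype (heartW (Fin (4 * k + 3 + 1)) 0) := Fintype.ofFinite _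
  have hz : zeros (⇑((QP (Fin (4 * k + 3 + 1))).comp
      (heartW (Fin (4 * k + 3 + 1)) 0).subtype)) = c0 (4 * k + 3) := by
    rw [zeros_eq_card]
    exact card_heart_zeros (4 * k + 3) hι
  have h4c := four_c0 k
  rw [← hz] at h4c
  have hρ : ∀ σ (w : heartW (Fin (4 * k + 3 + 1)) 0),
      ((QP (Fin (4 * k + 3 + 1))).comp (heartW (Fin (4 * k + 3 + 1)) 0).subtype)
        (heartRep hι 0 σ w) =
      ((QP (Fin (4 * k + 3 + 1))).comp (heartW (Fin (4 * k + 3 + 1)) 0).subtype) w := by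
    intro σ w
    show QP (Fin (4 * k + 3 + 1)) (heartRep hι 0 σ w).1 = QP (Fin (4 * k + 3 + 1)) w.1
    rw [heartRep_apply]
    exact QP_twL hι h4 0 σ w.1 w.2
  have hinj := heartRep_injective hι h5 (0 : Fin (4 * k + 3 + 1))
  -- numerics
  set a : ℤ := 2 ^ (2 * k) with ha
  have hapos : 0 < a := by positivity
  have p1 : (2 : ℤ) ^ (4 * k + 3) = 8 * (a * a) := by rw [ha]; ring
  have p2 : (2 : ℤ) ^ (2 * (2 * k + 1)) = 4 * (a * a) := by rw [ha]; ring
  have p3 : (2 : ℤ) ^ (2 * k + 1) = 2 * a := by rw [ha]; ring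
  have p4 : (-4 : ℤ) ^ k = (-1) ^ k * a := by
    rw [ha, show (-4 : ℤ) = (-1) * 2 ^ 2 by norm_num, mul_pow, ← pow_mul]
  rw [p1, p4] at h4c
  have hcases := two_zeros_cases (by omega : 1 ≤ 2 * k + 1) hrk
    ((QP (Fin (4 * k + 3 + 1))).comp (heartW (Fin (4 * k + 3 + 1)) 0).subtype) hnd
  constructor
  · intro hodd
    rw [hodd.neg_one_pow] at h4c
    rcases hcases with ⟨⟨g, hg⟩, h⟩ | ⟨⟨g, hg⟩, h⟩
    · exact exists_hom_of_rep (Cfsg.quadFormPlus (2 * k + 1) (ZMod 2)) _ g hg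
        (heartRep hι 0) hρ hinj
    · exfalso
      have h' : (2 : ℤ) * ((zeros (⇑((QP (Fin (4 * k + 3 + 1))).comp
          (heartW (Fin (4 * k + 3 + 1)) 0).subtype)) : ℕ) : ℤ) + 2 ^ (2 * k + 1) =
          2 ^ (2 * (2 * k + 1)) := by exact_mod_cast h
      rw [p2, p3] at h'
      linarith
  · intro heven
    rw [heven.neg_one_pow] at h4c
    rcases hcases with ⟨⟨g, hg⟩, h⟩ | ⟨⟨g, hg⟩, h⟩
    · exfalso
      have h' : (2 : ℤ) * ((zeros (⇑((QP (Fin (4 * k + 3 + 1))).comp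
          (heartW (Fin (4 * k + 3 + 1)) 0).subtype)) : ℕ) : ℤ) =
          2 ^ (2 * (2 * k + 1)) + 2 ^ (2 * k + 1) := by exact_mod_cast h
      rw [p2, p3] at h'
      linarith
    · have res := exists_hom_of_rep (Cfsg.quadFormMinus (2 * k + 1 - 1) (ZMod 2) 1 1) _ g hg
        (heartRep hι 0) hρ hinj
      have e : 2 * k + 1 - 1 = 2 * k := by omega
      rw [e] at res
      exact res

end Cfsg.Agent.helper13
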