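import Mathlib
import Cfsg.Agent.Lib_helper13_PermMod4
import Cfsg.Agent.Lib_helper13_OrthD
import Cfsg.Agent.Lib_helper13_IsoTransfer

set_option autoImplicit false

namespace Cfsg.Agent.helper13

theorem card_Oplus6_two :
    Nat.card (Cfsg.isometryGroup (ZMod 2) (Cfsg.quadFormPlus 3 (ZMod 2))) = 40320 := by
  have h := card_plus (F := ZMod 2) 2
  rw [ZMod.card] at h
  rw [h]
  norm_num [Finset.prod_range_succ]

theorem exists_iso_S8 :
    Nonempty (↥(Cfsg.isometryGroup (ZMod 2) (Cfsg.quadFormPlus 3 (ZMod 2))) ≃*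
      Equiv.Perm (Fin 8)) := by
  obtain ⟨φ, hφ⟩ : ∃ φ : Equiv.Perm (Fin 8) →*
      ↥(Cfsg.isometryGroup (ZMod 2) (Cfsg.quadFormPlus 3 (ZMod 2))), Function.Injective φ :=
    (perm_embeds 1 le_rfl).1 (by decide)
  have hbij : Function.Bijective φ := by
    apply hφ.bijective_of_nat_card_le
    rw [card_Oplus6_two, Nat.card_perm, Nat.card_eq_fintype_card, Fintype.card_fin]
    decide
  exact ⟨(MulEquiv.ofBijective φ hbij).symm⟩

end Cfsg.Agent.helper13
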