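import Mathlib
import Cfsg.Agent.Lib_helper13_Uni

set_option autoImplicit false

namespace Cfsg.Agent.helper13

open Matrix QuadraticMap Module

section swap
variable {F : Type*} [Field F] {ι : Type} [Fintype ι] [DecidableEq ι]
variable (Q : QuadraticForm F (ι → F))

/-- the isometry of `Q ⊥ Q` swapping the two summands. -/
def swapS : ↥(Cfsg.isometryGroup F ⇑(QS Q Q)) :=
  ⟨⟨fromBlocks 0 1 1 0, fromBlocks 0 1 1 0,
    by simp [fromBlocks_multiply, fromBlocks_one],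
    by simp [fromBlocks_multiply, fromBlocks_one]⟩, by
    intro x _
    show QS Q Q ((fromBlocks 0 1 1 0 : Matrix (ι ⊕ ι) (ι ⊕ ι) F) *ᵥ x) = QS Q Q x
    rw [fromBlocks_mulVec]
    simp only [Matrix.zero_mulVec, add_zero, zero_add, Matrix.one_mulVec]
    rw [QS_elim, QS_apply, add_comm]⟩

theorem iact_swapS (x : ι ⊕ ι → F) :
    iact (swapS Q) x = Sum.elim (x ∘ Sum.inr) (x ∘ Sum.inl) := by
  show (fromBlocks 0 1 1 0 : Matrix (ι ⊕ ι) (ι ⊕ ι) F) *ᵥ x = _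
  rw [fromBlocks_mulVec]
  simp only [Matrix.zero_mulVec, add_zero, zero_add, Matrix.one_mulVec]

theorem embR_eq_conj (g : ↥(Cfsg.isometryGroup F ⇑Q)) :
    embR Q Q g = swapS Q * embL Q Q g * (swapS Q)⁻¹ := by
  rw [eq_mul_inv_iff_mul_eq]
  apply iact_ext
  intro x
  rw [iact_mul, iact_mul, iact_embR, iact_embL, iact_swapS, iact_swapS]
  simp only [Sum.elim_comp_inl, Sum.elim_comp_inr]

theorem coe_diag (g : ↥(Cfsg.isometryGroup F ⇑Q)) :
    (((embL Q Q g * embR Q Q g : ↥(Cfsg.isometryGroup F ⇑(QS Q Q))) :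
      Matrix.GeneralLinearGroup (ι ⊕ ι) F) : Matrix (ι ⊕ ι) (ι ⊕ ι) F) =
      fromBlocks ((g : Matrix.GeneralLinearGroup ι F) : Matrix ι ι F) 0 0
        ((g : Matrix.GeneralLinearGroup ι F) : Matrix ι ι F) := by
  rw [Subgroup.coe_mul, Units.val_mul, coe_embL, coe_embR, fromBlocks_multiply]
  simp

end swap

section swapchar
variable {F : Type*} [Field F] [Fintype F] [DecidableEq F] {ι : Type} [Fintype ι] [DecidableEq ι]
variable (Q : QuadraticForm F (ι → F))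

theorem diag_mem_commutator (hQ : (polarBilin Q).Nondegenerate)
    (hne : Fintype.card F ≠ 2 ∨ Fintype.card (ι ⊕ ι) ≠ 4) (g : ↥(Cfsg.isometryGroup F ⇑Q)) :
    embL Q Q g * embR Q Q g ∈ commutator ↥(Cfsg.isometryGroup F ⇑(QS Q Q)) := by
  obtain ⟨θ, δ, hθ, hδ⟩ := exists_theta_delta (QS Q Q) (QS_nondeg Q Q hQ hQ)
  rw [mem_commutator_iff_all (QS Q Q) (QS_nondeg Q Q hQ hQ) hne θ δ hθ hδ]
  have sq : ∀ ψ : ↥(Cfsg.isometryGroup F ⇑(QS Q Q)) →* ℤˣ,
      ψ (embL Q Q g * embR Q Q g) = 1 := by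
    intro ψ
    rw [embR_eq_conj, map_mul, map_mul, map_mul, map_inv]
    have : ψ (swapS Q) * ψ (embL Q Q g) * (ψ (swapS Q))⁻¹ = ψ (embL Q Q g) := by
      rw [mul_comm (ψ (swapS Q)), mul_assoc, mul_inv_cancel, mul_one]
    rw [this]
    exact Int.units_mul_self _
  exact ⟨sq θ, sq δ⟩

end swapchar

end Cfsg.Agent.helper13
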