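import Cfsg.Statements.S2629
import Cfsg.Agent.Lib_helper13_ClassChar
import Cfsg.Agent.Lib_helper13_ReflG
import Cfsg.Agent.Lib_helper13_MaxTS2

set_option autoImplicit false
open Cfsg

namespace Cfsg.Agent.S2629

open Matrix QuadraticMap Module Cfsg.Agent.helper13
theorem ker_eq (F : Type*) [Field F] (m : ℕ) :
    LinearMap.ker (LinearMap.funLeft F F (Sum.inr : Fin m → Fin m ⊕ Fin m)) =
      LinearMap.range (inlMap F m) := by
  ext x
  rw [LinearMap.mem_ker, LinearMap.mem_range]
  constructor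
  · intro h
    refine ⟨x ∘ Sum.inl, ?_⟩
    ext (i | i)
    · simp [inlMap]
    · have := congr_fun h i
      simp only [LinearMap.funLeft_apply, Pi.zero_apply] at this
      simp [inlMap, this]
  · rintro ⟨a, rfl⟩
    ext i
    simp [inlMap, LinearMap.funLeft_apply]


/-- For the hyperbolic form Σ x_i y_i on F^(2m) over a finite field of odd order (m ≥ 1), an isometry g preserves the class of the maximal totally singular subspace U₀ = {y = 0} (that is, m − dim(U₀ ∩ gU₀) is even) if and only if det g = 1: the stabiliser of each of the two classes of maximal totally singular subspaces is SO. -/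
theorem result {F : Type*} [Field F] [Fintype F] (h2 : (2 : F) ≠ 0) {m : ℕ} (hm : 1 ≤ m) (g : ↥(Cfsg.isometryGroup F (Cfsg.quadFormPlus m F))) : Even (m - Module.finrank F ↥(LinearMap.ker (LinearMap.funLeft F F (Sum.inr : Fin m → Fin m ⊕ Fin m)) ⊓ (LinearMap.ker (LinearMap.funLeft F F (Sum.inr : Fin m → Fin m ⊕ Fin m))).map (Matrix.mulVecLin ((g : Matrix.GeneralLinearGroup (Fin m ⊕ Fin m) F) : Matrix (Fin m ⊕ Fin m) (Fin m ⊕ Fin m) F)))) ↔ ((g : Matrix.GeneralLinearGroup (Fin m ⊕ Fin m) F) : Matrix (Fin m ⊕ Fin m) (Fin m ⊕ Fin m) F).det = 1 := by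
  classical
  revert g
  rw [← QPlus_coe F m]
  intro g
  have hnd := QPlus_nondeg (F := F) m
  have hV := finrank_plus_space F m
  have hU₀ : MTS (QPlus F m) m
      (LinearMap.ker (LinearMap.funLeft F F (Sum.inr : Fin m → Fin m ⊕ Fin m))) := by
    rw [ker_eq]
    exact stdU_mts F m
  obtain ⟨δ, hδ, hδdet⟩ := exists_detSign (QPlus F m) h2 hnd
  have hκ : clsChar (QPlus F m) hnd hV _ hU₀ = δ := by
    apply hom_ext_reflG (QPlus F m) h2 hnd
    intro w hw
    rw [clsChar_reflG, hδ]
  rw [← hδdet g, ← hκ, clsChar_apply, neg_one_pow_eq_one_iff_even int_units_neg_one_ne_one]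
  rfl

end Cfsg.Agent.S2629
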