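import Mathlib
import Cfsg.Agent.Lib_helper13_Uni2
import Cfsg.Agent.S2629

set_option autoImplicit false

namespace Cfsg.Agent.helper13

open Matrix QuadraticMap Module

section plus
variable {F : Type*} [Field F] {m : ℕ}

/-- a vector in the `i`-th hyperbolic plane. -/
def hv (i : Fin m) (α β : F) : Fin m ⊕ Fin m → F :=
  Pi.single (Sum.inl i) α + Pi.single (Sum.inr i) β

theorem hv_inl (i j : Fin m) (α β : F) : hv i α β (Sum.inl j) = if j = i then α else 0 := by
  unfold hv
  by_cases h : j = i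
  · subst h
    simp
  · simp [h, Pi.single_apply]

theorem hv_inr (i j : Fin m) (α β : F) : hv i α β (Sum.inr j) = if j = i then β else 0 := by
  unfold hv
  by_cases h : j = i
  · subst h
    simp
  · simp [h, Pi.single_apply]

theorem QPlus_eq_dot (x : Fin m ⊕ Fin m → F) :
    QPlus F m x = (x ∘ Sum.inl) ⬝ᵥ (x ∘ Sum.inr) := by
  rw [QPlus_apply]
  rfl

theorem QPlus_hv (i : Fin m) (α β : F) : QPlus F m (hv i α β) = α * β := by
  rw [QPlus_apply]
  unfold Cfsg.quadFormPlus
  rw [Finset.sum_eq_single i]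
  · rw [hv_inl, hv_inr, if_pos rfl, if_pos rfl]
  · intro j _ hj
    rw [hv_inl, if_neg hj, zero_mul]
  · intro h
    exact absurd (Finset.mem_univ i) h

theorem polar_hv (i : Fin m) (α β : F) (x : Fin m ⊕ Fin m → F) :
    polar (⇑(QPlus F m)) (hv i α β) x = α * x (Sum.inr i) + β * x (Sum.inl i) := by
  rw [polar_QPlus]
  unfold gramPlus
  rw [fromBlocks_mulVec]
  simp only [Matrix.zero_mulVec, add_zero, zero_add, Matrix.one_mulVec, dotProduct,
    Fintype.sum_sum_type, Sum.elim_inl, Sum.elim_inr, hv_inl, hv_inr, Function.comp_apply,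
    ite_mul, zero_mul, Finset.sum_ite_eq', Finset.mem_univ, if_true]

theorem iact_refl_hv (i : Fin m) (α β : F) (h : QPlus F m (hv i α β) ≠ 0)
    (x : Fin m ⊕ Fin m → F) :
    iact (reflG (QPlus F m) (hv i α β) h) x =
      x - ((α * β)⁻¹ * (α * x (Sum.inr i) + β * x (Sum.inl i))) • hv i α β := by
  rw [iact_reflG, polar_hv, QPlus_hv]

/-- swap the two coordinates of each hyperbolic plane with index in `S`. -/
def swapOn (S : Finset (Fin m)) (x : Fin m ⊕ Fin m → F) : Fin m ⊕ Fin m → F :=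
  fun k => match k with
    | Sum.inl i => if i ∈ S then x (Sum.inr i) else x (Sum.inl i)
    | Sum.inr i => if i ∈ S then x (Sum.inl i) else x (Sum.inr i)

theorem neg_one_hv_ne (i : Fin m) : QPlus F m (hv i 1 (-1)) ≠ 0 := by
  rw [QPlus_hv]
  simp

theorem iact_refl_swap (a : Fin m) (S : Finset (Fin m)) (ha : a ∉ S)
    (x : Fin m ⊕ Fin m → F) :
    iact (reflG (QPlus F m) (hv a 1 (-1)) (neg_one_hv_ne a)) (swapOn S x) =
      swapOn (insert a S) x := by
  rw [iact_refl_hv]
  funext k
  rcases k with j | j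
  · by_cases hj : j = a
    · subst hj
      simp [swapOn, hv_inl, ha]
    · simp [swapOn, hv_inl, hj, Finset.mem_insert]
  · by_cases hj : j = a
    · subst hj
      simp [swapOn, hv_inr, ha]
    · simp [swapOn, hv_inr, hj, Finset.mem_insert]

end plus

section pluschar
variable {F : Type*} [Field F] [Fintype F] [DecidableEq F] {m : ℕ}

theorem exists_swapOn (θ δ : ↥(Cfsg.isometryGroup F ⇑(QPlus F m)) →* ℤˣ)
    (hθ : IsTheta (QPlus F m) θ) (hδ : IsDelta (QPlus F m) δ) (S : Finset (Fin m)) :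
    ∃ g : ↥(Cfsg.isometryGroup F ⇑(QPlus F m)), (∀ x, iact g x = swapOn S x) ∧
      ((θ g : ℤˣ) : ℤ) = (quadraticChar F (-1)) ^ S.card ∧ δ g = (-1) ^ S.card := by
  induction S using Finset.induction_on with
  | empty =>
    refine ⟨1, ?_, ?_, ?_⟩
    · intro x
      rw [iact_one]
      funext k
      rcases k with j | j <;> simp [swapOn]
    · simp
    · simp
  | insert a S ha ih =>
    obtain ⟨g, hg, hgθ, hgδ⟩ := ih
    refine ⟨reflG (QPlus F m) (hv a 1 (-1)) (neg_one_hv_ne a) * g, ?_, ?_, ?_⟩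
    · intro x
      rw [iact_mul, hg, iact_refl_swap a S ha]
    · rw [map_mul, Units.val_mul, hgθ, hθ _ (neg_one_hv_ne a), QPlus_hv,
        Finset.card_insert_of_notMem ha, pow_succ, one_mul, mul_comm]
    · rw [map_mul, hgδ, hδ _ (neg_one_hv_ne a), Finset.card_insert_of_notMem ha, pow_succ,
        mul_comm]

end pluschar

end Cfsg.Agent.helper13
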