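import Mathlib
import Cfsg.Agent.Lib_helper13_PlusGL

set_option autoImplicit false

namespace Cfsg.Agent.helper13

open Matrix QuadraticMap Module

section dgl
variable {F : Type*} [Field F] {m : ℕ}

/-- the isometry `diag(A, A⁻ᵀ)` of the hyperbolic form. -/
def dGL0 (A : GL (Fin m) F) : ↥(Cfsg.isometryGroup F ⇑(QPlus F m)) :=
  ⟨⟨fromBlocks (A : Matrix (Fin m) (Fin m) F) 0 0
      ((A⁻¹ : GL (Fin m) F) : Matrix (Fin m) (Fin m) F)ᵀ,
    fromBlocks ((A⁻¹ : GL (Fin m) F) : Matrix (Fin m) (Fin m) F) 0 0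
      (A : Matrix (Fin m) (Fin m) F)ᵀ,
    by
      rw [fromBlocks_multiply]
      simp only [Matrix.mul_zero, Matrix.zero_mul, add_zero, zero_add]
      rw [← Matrix.transpose_mul, Units.mul_inv, Matrix.transpose_one, fromBlocks_one],
    by
      rw [fromBlocks_multiply]
      simp only [Matrix.mul_zero, Matrix.zero_mul, add_zero, zero_add]
      rw [← Matrix.transpose_mul, Units.inv_mul, Matrix.transpose_one, fromBlocks_one]⟩, by
    intro x _
    show QPlus F m (fromBlocks (A : Matrix (Fin m) (Fin m) F) 0 0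
      ((A⁻¹ : GL (Fin m) F) : Matrix (Fin m) (Fin m) F)ᵀ *ᵥ x) = QPlus F m x
    rw [fromBlocks_mulVec]
    simp only [Matrix.zero_mulVec, add_zero, zero_add]
    rw [QPlus_eq_dot, QPlus_eq_dot, Sum.elim_comp_inl, Sum.elim_comp_inr,
      Matrix.dotProduct_mulVec, Matrix.vecMul_transpose, Matrix.mulVec_mulVec, Units.inv_mul,
      Matrix.one_mulVec]⟩

theorem coe_dGL0 (A : GL (Fin m) F) :
    ((dGL0 A : Matrix.GeneralLinearGroup (Fin m ⊕ Fin m) F) :
      Matrix (Fin m ⊕ Fin m) (Fin m ⊕ Fin m) F) =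
      fromBlocks (A : Matrix (Fin m) (Fin m) F) 0 0
        ((A⁻¹ : GL (Fin m) F) : Matrix (Fin m) (Fin m) F)ᵀ := rfl

/-- `A ↦ diag(A, A⁻ᵀ)` as a homomorphism. -/
def dGL : GL (Fin m) F →* ↥(Cfsg.isometryGroup F ⇑(QPlus F m)) where
  toFun := dGL0
  map_one' := by
    apply Subtype.ext
    apply Units.ext
    rw [coe_dGL0]
    simp [fromBlocks_one]
  map_mul' A B := by
    apply Subtype.ext
    apply Units.ext
    rw [Subgroup.coe_mul, Units.val_mul, coe_dGL0, coe_dGL0, coe_dGL0, fromBlocks_multiply]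
    simp only [Matrix.mul_zero, Matrix.zero_mul, add_zero, zero_add]
    rw [← Matrix.transpose_mul, _root_.mul_inv_rev, Units.val_mul, Units.val_mul]

theorem coe_dGL (A : GL (Fin m) F) :
    ((dGL A : Matrix.GeneralLinearGroup (Fin m ⊕ Fin m) F) :
      Matrix (Fin m ⊕ Fin m) (Fin m ⊕ Fin m) F) =
      fromBlocks (A : Matrix (Fin m) (Fin m) F) 0 0
        ((A⁻¹ : GL (Fin m) F) : Matrix (Fin m) (Fin m) F)ᵀ := rfl

theorem iact_dGL (A : GL (Fin m) F) (x : Fin m ⊕ Fin m → F) :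
    iact (dGL A) x = Sum.elim ((A : Matrix (Fin m) (Fin m) F) *ᵥ (x ∘ Sum.inl))
      (((A⁻¹ : GL (Fin m) F) : Matrix (Fin m) (Fin m) F)ᵀ *ᵥ (x ∘ Sum.inr)) := by
  show fromBlocks (A : Matrix (Fin m) (Fin m) F) 0 0
      ((A⁻¹ : GL (Fin m) F) : Matrix (Fin m) (Fin m) F)ᵀ *ᵥ x = _
  rw [fromBlocks_mulVec]
  simp only [Matrix.zero_mulVec, add_zero, zero_add]

theorem mem_stdker' (x : Fin m ⊕ Fin m → F) :
    x ∈ LinearMap.ker (LinearMap.funLeft F F (Sum.inr : Fin m → Fin m ⊕ Fin m)) ↔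
      ∀ i, x (Sum.inr i) = 0 := by
  rw [LinearMap.mem_ker]
  constructor
  · intro h i
    exact congrFun h i
  · intro h
    funext i
    exact h i

theorem gmap_dGL (A : GL (Fin m) F) :
    gmap (dGL A) (LinearMap.ker (LinearMap.funLeft F F (Sum.inr : Fin m → Fin m ⊕ Fin m))) =
      LinearMap.ker (LinearMap.funLeft F F (Sum.inr : Fin m → Fin m ⊕ Fin m)) := by
  have hle : ∀ B : GL (Fin m) F,
      gmap (dGL B) (LinearMap.ker (LinearMap.funLeft F F (Sum.inr : Fin m → Fin m ⊕ Fin m))) ≤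
      LinearMap.ker (LinearMap.funLeft F F (Sum.inr : Fin m → Fin m ⊕ Fin m)) := by
    intro B x hx
    obtain ⟨u, hu, rfl⟩ := (mem_gmap _ _ _).mp hx
    rw [mem_stdker'] at hu ⊢
    intro i
    rw [iact_dGL, Sum.elim_inr]
    have : u ∘ Sum.inr = 0 := by
      funext j
      exact hu j
    rw [this, Matrix.mulVec_zero]
    rfl
  apply le_antisymm (hle A)
  intro x hx
  rw [mem_gmap]
  refine ⟨iact (dGL A⁻¹) x, ?_, ?_⟩
  · apply hle A⁻¹
    rw [mem_gmap]
    exact ⟨x, hx, rfl⟩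
  · rw [← iact_mul, ← map_mul, mul_inv_cancel, map_one, iact_one]

end dgl

section dglchar
variable {F : Type*} [Field F] [Fintype F] [DecidableEq F] {m : ℕ}

theorem delta_dGL (hne : Fintype.card F ≠ 2 ∨ Fintype.card (Fin m ⊕ Fin m) ≠ 4)
    (δ : ↥(Cfsg.isometryGroup F ⇑(QPlus F m)) →* ℤˣ) (hδ : IsDelta (QPlus F m) δ)
    (A : GL (Fin m) F) : δ (dGL A) = 1 := by
  have hnd := QPlus_nondeg (F := F) m
  have hV := finrank_plus_space F m
  have hU₀ : MTS (QPlus F m) m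
      (LinearMap.ker (LinearMap.funLeft F F (Sum.inr : Fin m → Fin m ⊕ Fin m))) := by
    rw [Cfsg.Agent.S2629.ker_eq]
    exact stdU_mts F m
  have e : δ = clsChar (QPlus F m) hnd hV _ hU₀ := by
    apply hom_ext_all (QPlus F m) hnd hne
    intro w hw
    rw [hδ w hw, clsChar_reflG]
  rw [e, clsChar_apply, gmap_dGL, inf_idem, hU₀.rk, Nat.sub_self, pow_zero]

end dglchar

end Cfsg.Agent.helper13
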