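import Mathlib
import Cfsg.Agent.Lib_helper13_PlusGL2

set_option autoImplicit false

namespace Cfsg.Agent.helper13

open Matrix QuadraticMap Module

section thetagl
variable {F : Type*} [Field F] {m : ℕ}

/-- the diagonal embedding of units. -/
def diagU : (Fin m → Fˣ) →* GL (Fin m) F :=
  (Units.map (Matrix.diagonalRingHom (Fin m) F).toMonoidHom).comp
    (MulEquiv.piUnits (M := fun _ : Fin m => F)).symm.toMonoidHom

theorem coe_diagU (D : Fin m → Fˣ) :
    ((diagU D : GL (Fin m) F) : Matrix (Fin m) (Fin m) F) = diagonal (fun i => (D i : F)) := rfl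

theorem coe_diagU_inv (D : Fin m → Fˣ) :
    (((diagU D)⁻¹ : GL (Fin m) F) : Matrix (Fin m) (Fin m) F) =
      diagonal (fun i => (((D i)⁻¹ : Fˣ) : F)) := by
  rw [← map_inv, coe_diagU]
  rfl

theorem neg_t_hv_ne (i : Fin m) (t : Fˣ) : QPlus F m (hv i 1 (-(t : F))) ≠ 0 := by
  rw [QPlus_hv]
  simp

theorem dGL_mulSingle (i : Fin m) (t : Fˣ) :
    dGL (diagU (Pi.mulSingle i t)) =
      reflG (QPlus F m) (hv i 1 (-1)) (neg_one_hv_ne i) *
        reflG (QPlus F m) (hv i 1 (-(t : F))) (neg_t_hv_ne i t) := by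
  apply iact_ext
  intro x
  rw [iact_dGL, iact_mul, iact_refl_hv, iact_refl_hv, coe_diagU, coe_diagU_inv,
    Matrix.diagonal_transpose]
  have ht : (t : F) ≠ 0 := t.ne_zero
  funext k
  rcases k with j | j
  · by_cases hj : j = i
    · subst hj
      simp [Matrix.mulVec_diagonal, hv_inl, hv_inr]
      field_simp
      ring
    · simp [Matrix.mulVec_diagonal, hv_inl, hv_inr, hj, Pi.mulSingle_apply]
  · by_cases hj : j = i
    · subst hj
      simp [Matrix.mulVec_diagonal, hv_inl, hv_inr]
      field_simp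
      ring
    · simp [Matrix.mulVec_diagonal, hv_inl, hv_inr, hj, Pi.mulSingle_apply]

end thetagl

section thetagl2
variable {F : Type*} [Field F] [Fintype F] [DecidableEq F] {m : ℕ}

/-- the quadratic character of the determinant. -/
noncomputable def chiDet : GL (Fin m) F →* ℤˣ :=
  (quadraticChar F).toUnitHom.comp Matrix.GeneralLinearGroup.det

theorem chiDet_apply (A : GL (Fin m) F) :
    ((chiDet A : ℤˣ) : ℤ) = quadraticChar F (A : Matrix (Fin m) (Fin m) F).det := by
  unfold chiDet
  rw [MonoidHom.comp_apply, MulChar.coe_toUnitHom]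
  rfl

theorem theta_dGL_diag (θ : ↥(Cfsg.isometryGroup F ⇑(QPlus F m)) →* ℤˣ)
    (hθ : IsTheta (QPlus F m) θ) :
    (θ.comp dGL).comp diagU = (chiDet (F := F) (m := m)).comp diagU := by
  apply MonoidHom.pi_ext
  intro i t
  apply Units.ext
  rw [MonoidHom.comp_apply, MonoidHom.comp_apply, MonoidHom.comp_apply, dGL_mulSingle, map_mul,
    Units.val_mul, hθ _ _, hθ _ _, QPlus_hv, QPlus_hv, chiDet_apply, coe_diagU, det_diagonal,
    ← map_mul]
  congr 1
  rw [Finset.prod_eq_single i]
  · rw [Pi.mulSingle_eq_same]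
    ring
  · intro j _ hj
    rw [Pi.mulSingle_eq_of_ne hj]
    rfl
  · intro h
    exact absurd (Finset.mem_univ i) h

omit [Fintype F] [DecidableEq F] in
theorem hom_transvection_eq_one (h2 : (2 : F) ≠ 0) (ψ : GL (Fin m) F →* ℤˣ) (A : GL (Fin m) F)
    (i j : Fin m) (hij : i ≠ j) (c : F)
    (hA : (A : Matrix (Fin m) (Fin m) F) = transvection i j c) : ψ A = 1 := by
  have hdet : (transvection i j (c / 2)).det ≠ 0 := by
    rw [det_transvection_of_ne _ _ hij]
    exact one_ne_zero
  have hAB : A = Matrix.GeneralLinearGroup.mkOfDetNeZero (transvection i j (c / 2)) hdet *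
      Matrix.GeneralLinearGroup.mkOfDetNeZero (transvection i j (c / 2)) hdet := by
    apply Units.ext
    rw [Units.val_mul, hA]
    show _ = transvection i j (c / 2) * transvection i j (c / 2)
    rw [transvection_mul_transvection_same i j hij]
    congr 1
    field_simp
    ring
  rw [hAB, map_mul]
  exact Int.units_mul_self _

theorem theta_dGL (h2 : (2 : F) ≠ 0) (θ : ↥(Cfsg.isometryGroup F ⇑(QPlus F m)) →* ℤˣ)
    (hθ : IsTheta (QPlus F m) θ) (A : GL (Fin m) F) : θ (dGL A) = chiDet A := by
  have key : ∀ M : Matrix (Fin m) (Fin m) F, M.det ≠ 0 → ∀ A : GL (Fin m) F,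
      (A : Matrix (Fin m) (Fin m) F) = M → θ (dGL A) = chiDet A := by
    intro M hM
    refine Matrix.diagonal_transvection_induction_of_det_ne_zero
      (fun M => ∀ A : GL (Fin m) F, (A : Matrix (Fin m) (Fin m) F) = M →
        θ (dGL A) = chiDet A) M hM ?_ ?_ ?_
    · intro D hD A hA
      rw [det_diagonal] at hD
      have hDi : ∀ i, D i ≠ 0 := fun i => (Finset.prod_ne_zero_iff.mp hD) i (Finset.mem_univ i)
      have hAD : A = diagU (fun i => Units.mk0 (D i) (hDi i)) := by
        apply Units.ext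
        rw [hA, coe_diagU]
        rfl
      rw [hAD]
      exact DFunLike.congr_fun (theta_dGL_diag θ hθ) _
    · intro t A hA
      have e1 : (θ.comp dGL) A = 1 :=
        hom_transvection_eq_one h2 (θ.comp dGL) A t.i t.j t.hij t.c hA
      have e2 : chiDet A = 1 := hom_transvection_eq_one h2 chiDet A t.i t.j t.hij t.c hA
      rw [e2]
      exact e1
    · intro A B hA hB PA PB C hC
      have hCAB : C = Matrix.GeneralLinearGroup.mkOfDetNeZero A hA *
          Matrix.GeneralLinearGroup.mkOfDetNeZero B hB := by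
        apply Units.ext
        rw [hC]
        rfl
      rw [hCAB, map_mul, map_mul, map_mul, PA _ rfl, PB _ rfl]
  exact key _ (by
    have := (Matrix.GeneralLinearGroup.det A).ne_zero
    simpa using this) A rfl

end thetagl2

end Cfsg.Agent.helper13
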