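import Mathlib
import Cfsg.Agent.Lib_helper13_ReflH
import Cfsg.Agent.Lib_helper13_QStd
import Cfsg.Agent.Lib_helper13_OrthE

set_option autoImplicit false

namespace Cfsg.Agent.helper13

open Matrix QuadraticMap Module

section arith

theorem two_ne_zero_of_odd_card {F : Type*} [Field F] [Fintype F] {q : ℕ}
    (hF : Fintype.card F = q) (hq : Odd q) : (2 : F) ≠ 0 := by
  intro h
  have hc : ringChar F = 2 := CharP.ringChar_of_prime_eq_zero Nat.prime_two h
  have := FiniteField.even_card_of_char_two hc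
  rw [hF] at this
  rw [Nat.odd_iff] at hq
  omega

theorem three_pow_mod_four (i : ℕ) : 3 ^ i % 4 = if Even i then 1 else 3 := by
  induction i with
  | zero => simp
  | succ i ih =>
    rw [pow_succ, Nat.mul_mod, ih]
    by_cases hi : Even i
    · have : ¬ Even (i + 1) := by
        rw [Nat.even_add_one]
        exact not_not.mpr hi
      rw [if_pos hi, if_neg this]
    · have : Even (i + 1) := by
        rw [Nat.even_add_one]
        exact hi
      rw [if_neg hi, if_pos this]

theorem pow_mod_four {q : ℕ} (hq : Odd q) (i : ℕ) :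
    q ^ i % 4 = if (Even i ∨ q % 4 = 1) then 1 else 3 := by
  rw [Nat.odd_iff] at hq
  have h4 : q % 4 = 1 ∨ q % 4 = 3 := by omega
  rw [Nat.pow_mod]
  rcases h4 with h | h
  · rw [h, one_pow, if_pos (Or.inr rfl)]
    rfl
  · rw [h, three_pow_mod_four]
    by_cases hi : Even i
    · rw [if_pos hi, if_pos (Or.inl hi)]
    · rw [if_neg hi, if_neg]
      rintro (h' | h')
      · exact hi h'
      · omega

theorem isSquare_neg_one_pow_iff {F : Type*} [Field F] [Fintype F] {q : ℕ}
    (hF : Fintype.card F = q) (hq : Odd q) (i : ℕ) :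
    IsSquare ((-1 : F) ^ i) ↔ q ^ i % 4 = 1 := by
  rw [pow_mod_four hq i]
  have hq' := Nat.odd_iff.mp hq
  by_cases hi : Even i
  · rw [hi.neg_one_pow, if_pos (Or.inl hi)]
    exact ⟨fun _ => rfl, fun _ => ⟨1, by ring⟩⟩
  · have hodd : Odd i := Nat.not_even_iff_odd.mp hi
    rw [hodd.neg_one_pow, FiniteField.isSquare_neg_one_iff, hF]
    constructor
    · intro h
      have : q % 4 = 1 := by omega
      rw [if_pos (Or.inr this)]
    · intro h h3
      rw [if_neg] at h
      · omega
      · rintro (h' | h')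
        · exact hi h'
        · omega

theorem pow_mod_four_eq_three {q : ℕ} (hq : Odd q) (i : ℕ) :
    q ^ i % 4 = 3 ↔ ¬ (q ^ i % 4 = 1) := by
  rw [pow_mod_four hq i]
  split_ifs <;> simp

end arith

section crit
variable {F : Type*} [Field F] [Fintype F] [DecidableEq F] {ι : Type} [Fintype ι] [DecidableEq ι]
variable (Q : QuadraticForm F (ι → F))

theorem negPairs_mem_iff (h2 : (2 : F) ≠ 0) (hQ : (polarBilin Q).Nondegenerate)
    (hn : 2 ≤ Fintype.card ι) {m : ℕ} (a b : Fin m → ι) (hP : ∀ j, HP Q (a j) (b j))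
    (S : Finset (Fin m)) (d : ι → F)
    (hd : ∀ k, d k = ∏ j ∈ S, if k = a j ∨ k = b j then (-1 : F) else 1) :
    (∃ g : ↥(Cfsg.isometryGroup F ⇑Q), g ∈ commutator ↥(Cfsg.isometryGroup F ⇑Q) ∧
      ((g : Matrix.GeneralLinearGroup ι F) : Matrix ι ι F) = Matrix.diagonal d) ↔
    IsSquare ((-1 : F) ^ S.card) := by
  obtain ⟨θ, hθ⟩ := exists_spinor Q h2 hQ
  obtain ⟨δ, hδ, -⟩ := exists_detSign Q h2 hQ
  obtain ⟨vs, hvs, hlen, hprod, hact⟩ := exists_negPairs (Q := Q) a b hP S
  have hmat : ((prodR Q vs : Matrix.GeneralLinearGroup ι F) : Matrix ι ι F) = Matrix.diagonal d := by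
    apply matrix_eq_of_mulVec
    intro x
    funext k
    rw [Matrix.mulVec_diagonal, hd k]
    exact hact x k
  have hprod0 : (vs.map (fun v => Q v)).prod ≠ 0 := by
    rw [hprod]
    exact pow_ne_zero _ (neg_ne_zero.mpr one_ne_zero)
  have hcrit : prodR Q vs ∈ commutator ↥(Cfsg.isometryGroup F ⇑Q) ↔
      IsSquare ((-1 : F) ^ S.card) := by
    rw [mem_commutator_iff Q θ δ h2 hQ hn hθ hδ, delta_prodR Q δ hδ vs hvs, hlen,
      (even_two_mul _).neg_one_pow, ← hprod, ← quadraticChar_one_iff_isSquare hprod0,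
      ← theta_prodR Q θ hθ vs hvs]
    constructor
    · rintro ⟨h, -⟩
      rw [h]
      rfl
    · intro h
      exact ⟨Units.ext h, rfl⟩
  rw [← hcrit]
  constructor
  · rintro ⟨g, hg, hgm⟩
    have : g = prodR Q vs := by
      apply Subtype.ext
      apply Units.ext
      rw [hgm, hmat]
    rw [← this]
    exact hg
  · intro h
    exact ⟨prodR Q vs, h, hmat⟩

end crit

section forms
variable {F : Type*} [Field F]

theorem HP_QPlus (m : ℕ) (j : Fin m) : HP (QPlus F m) (Sum.inl j) (Sum.inr j) := by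
  refine ⟨Sum.inl_ne_inr, ?_⟩
  intro x s t
  rw [QPlus_apply, QPlus_apply]
  unfold Cfsg.quadFormPlus
  simp only [Pi.add_apply, Pi.smul_apply, Pi.single_apply, smul_eq_mul, Sum.inl.injEq,
    Sum.inr.injEq, reduceCtorEq, if_false, mul_zero, add_zero]
  have h : ∀ i : Fin m, (x (Sum.inl i) + s * (if i = j then 1 else 0)) *
      (x (Sum.inr i) + t * (if i = j then 1 else 0)) =
      x (Sum.inl i) * x (Sum.inr i) +
        (if i = j then s * x (Sum.inr i) + t * x (Sum.inl i) + s * t else 0) := by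
    intro i
    split_ifs <;> ring
  rw [Finset.sum_congr rfl (fun i _ => h i), Finset.sum_add_distrib, Finset.sum_ite_eq']
  simp
  ring

theorem HP_QOdd (m : ℕ) (j : Fin m) :
    HP (QOdd F m) (Sum.inr (Sum.inl j)) (Sum.inr (Sum.inr j)) := by
  refine ⟨by simp, ?_⟩
  intro x s t
  rw [QOdd_apply, QOdd_apply]
  unfold Cfsg.quadFormOdd
  simp only [Pi.add_apply, Pi.smul_apply, Pi.single_apply, smul_eq_mul, Sum.inl.injEq,
    Sum.inr.injEq, reduceCtorEq, if_false, mul_zero, add_zero]
  have h : ∀ i : Fin m, (x (Sum.inr (Sum.inl i)) + s * (if i = j then 1 else 0)) *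
      (x (Sum.inr (Sum.inr i)) + t * (if i = j then 1 else 0)) =
      x (Sum.inr (Sum.inl i)) * x (Sum.inr (Sum.inr i)) +
        (if i = j then s * x (Sum.inr (Sum.inr i)) + t * x (Sum.inr (Sum.inl i)) + s * t
          else 0) := by
    intro i
    split_ifs <;> ring
  rw [Finset.sum_congr rfl (fun i _ => h i), Finset.sum_add_distrib, Finset.sum_ite_eq']
  simp
  ring

theorem HP_QMinus (k : ℕ) (a c : F) (j : Fin k) :
    HP (QMinus F k a c) (Sum.inl (Sum.inl j)) (Sum.inl (Sum.inr j)) := by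
  refine ⟨by simp, ?_⟩
  intro x s t
  rw [QMinus_apply, QMinus_apply]
  unfold Cfsg.quadFormMinus
  simp only [Pi.add_apply, Pi.smul_apply, Pi.single_apply, smul_eq_mul, Sum.inl.injEq,
    Sum.inr.injEq, reduceCtorEq, if_false, mul_zero, add_zero]
  have h : ∀ i : Fin k, (x (Sum.inl (Sum.inl i)) + s * (if i = j then 1 else 0)) *
      (x (Sum.inl (Sum.inr i)) + t * (if i = j then 1 else 0)) =
      x (Sum.inl (Sum.inl i)) * x (Sum.inl (Sum.inr i)) +
        (if i = j then s * x (Sum.inl (Sum.inr i)) + t * x (Sum.inl (Sum.inl i)) + s * t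
          else 0) := by
    intro i
    split_ifs <;> ring
  rw [Finset.sum_congr rfl (fun i _ => h i), Finset.sum_add_distrib, Finset.sum_ite_eq']
  simp
  ring

theorem card_filter_lt' {m i : ℕ} (him : i ≤ m) :
    (Finset.univ.filter (fun j : Fin m => (j : ℕ) < i)).card = i := by
  rw [Fin.card_filter_val_lt]
  exact min_eq_right him

end forms

end Cfsg.Agent.helper13
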