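import Mathlib
import Cfsg.Prelude.Def_RootSubgroups

/-! Transfer of the abstract root subgroup notions from a group to the subgroup generated by the
family. -/

set_option autoImplicit false

namespace Cfsg.Agent.helper13

open scoped commutatorElement

section roott
variable {G : Type*} [Group G]

theorem conjBy_mem_iff (A : Subgroup G) (g x : G) :
    x ∈ Cfsg.conjBy A g ↔ ∃ y ∈ A, g * y * g⁻¹ = x := Iff.rfl

theorem conjBy_le_of_le {H A : Subgroup G} (hA : A ≤ H) {g : G} (hg : g ∈ H) :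
    Cfsg.conjBy A g ≤ H := by
  intro x hx
  obtain ⟨y, hy, rfl⟩ := (conjBy_mem_iff A g x).mp hx
  exact H.mul_mem (H.mul_mem hg (hA hy)) (H.inv_mem hg)

theorem conjBy_subgroupOf' (H A : Subgroup G) (h : ↥H) :
    Cfsg.conjBy (A.subgroupOf H) h = (Cfsg.conjBy A (h : G)).subgroupOf H := by
  ext x
  rw [conjBy_mem_iff, Subgroup.mem_subgroupOf, conjBy_mem_iff]
  constructor
  · rintro ⟨y, hy, rfl⟩
    exact ⟨(y : G), Subgroup.mem_subgroupOf.mp hy, rfl⟩
  · rintro ⟨y, hy, hxy⟩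
    have hyH : y ∈ H := by
      have e : y = (h : G)⁻¹ * x * h := by rw [← hxy]; group
      rw [e]
      exact H.mul_mem (H.mul_mem (H.inv_mem h.2) x.2) h.2
    exact ⟨⟨y, hyH⟩, Subgroup.mem_subgroupOf.mpr hy, Subtype.ext hxy⟩

theorem subgroupOf_eq_iff' {H A B : Subgroup G} (hA : A ≤ H) (hB : B ≤ H) :
    A.subgroupOf H = B.subgroupOf H ↔ A = B := by
  rw [Subgroup.subgroupOf_inj, inf_eq_left.mpr hA, inf_eq_left.mpr hB]

theorem conjBy_eq_of_commute (A : Subgroup G) (g : G) (h : ∀ a ∈ A, g * a = a * g) :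
    Cfsg.conjBy A g = A := by
  ext x
  rw [conjBy_mem_iff]
  constructor
  · rintro ⟨y, hy, rfl⟩
    rw [h y hy, mul_inv_cancel_right]
    exact hy
  · intro hx
    exact ⟨x, hx, by rw [h x hx, mul_inv_cancel_right]⟩

theorem isNilpotent_of_comm' (A : Subgroup G) (c : ∀ a ∈ A, ∀ b ∈ A, a * b = b * a) :
    Group.IsNilpotent A := by
  let _ : CommGroup A :=
    { (inferInstance : Group A) with
      mul_comm := fun a b => Subtype.ext (c a a.2 b b.2) }
  exact CommGroup.isNilpotent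

theorem rankOneCondition_subgroupOf_iff {H A B : Subgroup G} (hA : A ≤ H) (hB : B ≤ H) :
    Cfsg.RankOneCondition (A.subgroupOf H) (B.subgroupOf H) ↔ Cfsg.RankOneCondition A B := by
  constructor
  · intro h a ha ha1
    obtain ⟨b, hb, hb1, hab⟩ := h ⟨a, hA ha⟩ (Subgroup.mem_subgroupOf.mpr ha)
      (by intro h0; exact ha1 (congrArg Subtype.val h0))
    have hbB : (b : G) ∈ B := Subgroup.mem_subgroupOf.mp hb
    refine ⟨(b : G), hbB, (by intro h0; exact hb1 (Subtype.ext h0)), ?_⟩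
    rw [conjBy_subgroupOf', conjBy_subgroupOf'] at hab
    have hab' : (Cfsg.conjBy A (b : G)⁻¹).subgroupOf H = (Cfsg.conjBy B a⁻¹).subgroupOf H := hab
    rw [subgroupOf_eq_iff' (conjBy_le_of_le hA (H.inv_mem b.2))
      (conjBy_le_of_le hB (H.inv_mem (hA ha)))] at hab'
    exact hab'
  · intro h a ha ha1
    have haA : (a : G) ∈ A := Subgroup.mem_subgroupOf.mp ha
    obtain ⟨b, hb, hb1, hab⟩ := h (a : G) haA (by intro h0; exact ha1 (Subtype.ext h0))
    refine ⟨⟨b, hB hb⟩, Subgroup.mem_subgroupOf.mpr hb,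
      (by intro h0; exact hb1 (congrArg Subtype.val h0)), ?_⟩
    rw [conjBy_subgroupOf', conjBy_subgroupOf']
    show (Cfsg.conjBy A b⁻¹).subgroupOf H = (Cfsg.conjBy B (a : G)⁻¹).subgroupOf H
    rw [subgroupOf_eq_iff' (conjBy_le_of_le hA (H.inv_mem (hB hb)))
      (conjBy_le_of_le hB (H.inv_mem a.2))]
    exact hab

theorem isRankOnePair_subgroupOf_iff {H A B : Subgroup G} (hA : A ≤ H) (hB : B ≤ H)
    (cA : ∀ a ∈ A, ∀ b ∈ A, a * b = b * a) (cB : ∀ a ∈ B, ∀ b ∈ B, a * b = b * a) :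
    Cfsg.IsRankOnePair (A.subgroupOf H) (B.subgroupOf H) ↔ Cfsg.IsRankOnePair A B := by
  constructor
  · intro h
    refine ⟨fun e => h.ne (by rw [e]), isNilpotent_of_comm' A cA, isNilpotent_of_comm' B cB,
      (rankOneCondition_subgroupOf_iff hA hB).mp h.cond_left,
      (rankOneCondition_subgroupOf_iff hB hA).mp h.cond_right⟩
  · intro h
    refine ⟨fun e => h.ne ((subgroupOf_eq_iff' hA hB).mp e), ?_, ?_,
      (rankOneCondition_subgroupOf_iff hA hB).mpr h.cond_left,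
      (rankOneCondition_subgroupOf_iff hB hA).mpr h.cond_right⟩
    · exact isNilpotent_of_comm' _ (fun a ha b hb => Subtype.ext (cA a ha b hb))
    · exact isNilpotent_of_comm' _ (fun a ha b hb => Subtype.ext (cB a ha b hb))

theorem commutator_le_of_le {H A B : Subgroup G} (hA : A ≤ H) (hB : B ≤ H) : ⁅A, B⁆ ≤ H := by
  rw [Subgroup.commutator_le]
  intro a ha b hb
  rw [commutatorElement_def]
  exact H.mul_mem (H.mul_mem (H.mul_mem (hA ha) (hB hb)) (H.inv_mem (hA ha))) (H.inv_mem (hB hb))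

theorem map_commutator_subgroupOf {H A B : Subgroup G} (hA : A ≤ H) (hB : B ≤ H) :
    Subgroup.map H.subtype ⁅A.subgroupOf H, B.subgroupOf H⁆ = ⁅A, B⁆ := by
  rw [Subgroup.map_commutator, Subgroup.map_subgroupOf_eq_of_le hA,
    Subgroup.map_subgroupOf_eq_of_le hB]

theorem commutator_subgroupOf' {H A B : Subgroup G} (hA : A ≤ H) (hB : B ≤ H) :
    ⁅A.subgroupOf H, B.subgroupOf H⁆ = ⁅A, B⁆.subgroupOf H := by
  apply Subgroup.map_injective H.subtype_injective
  rw [map_commutator_subgroupOf hA hB,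
    Subgroup.map_subgroupOf_eq_of_le (commutator_le_of_le hA hB)]

theorem rootCommutatorCase_subgroupOf {H : Subgroup G} {S : Set (Subgroup G)} {A B : Subgroup G}
    (hA : A ≤ H) (hB : B ≤ H) (h : Cfsg.RootCommutatorCase S A B) :
    Cfsg.RootCommutatorCase ((fun X : Subgroup G => X.subgroupOf H) '' S) (A.subgroupOf H)
      (B.subgroupOf H) := by
  obtain ⟨h1, h2, h3, h4⟩ := h
  refine ⟨⟨⁅A, B⁆, h1, (commutator_subgroupOf' hA hB).symm⟩, ?_, ?_, ?_⟩
  · intro c hc x hx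
    rw [commutator_subgroupOf' hA hB] at hc
    rw [← Subgroup.subgroupOf_sup hA hB] at hx
    exact Subtype.ext (h2 (c : G) (Subgroup.mem_subgroupOf.mp hc) (x : G)
      (Subgroup.mem_subgroupOf.mp hx))
  · intro a ha ha1
    apply Subgroup.map_injective H.subtype_injective
    rw [map_commutator_subgroupOf hA hB, MonoidHom.map_closure,
      ← h3 (a : G) (Subgroup.mem_subgroupOf.mp ha) (by intro h0; exact ha1 (Subtype.ext h0))]
    congr 1
    ext x
    constructor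
    · rintro ⟨_, ⟨b, hb, rfl⟩, rfl⟩
      exact ⟨(b : G), Subgroup.mem_subgroupOf.mp hb, rfl⟩
    · rintro ⟨b, hb, rfl⟩
      exact ⟨_, ⟨⟨b, hB hb⟩, Subgroup.mem_subgroupOf.mpr hb, rfl⟩, rfl⟩
  · intro b hb hb1
    apply Subgroup.map_injective H.subtype_injective
    rw [map_commutator_subgroupOf hA hB, MonoidHom.map_closure,
      ← h4 (b : G) (Subgroup.mem_subgroupOf.mp hb) (by intro h0; exact hb1 (Subtype.ext h0))]
    congr 1
    ext x
    constructor
    · rintro ⟨_, ⟨a, ha, rfl⟩, rfl⟩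
      exact ⟨(a : G), Subgroup.mem_subgroupOf.mp ha, rfl⟩
    · rintro ⟨a, ha, rfl⟩
      exact ⟨_, ⟨⟨a, hA ha⟩, Subgroup.mem_subgroupOf.mpr ha, rfl⟩, rfl⟩

theorem isPSL2PairOver_subgroupOf {k : Type*} [Field k] {H A B : Subgroup G} (hA : A ≤ H)
    (hB : B ≤ H) (h : Cfsg.IsPSL2PairOver k A B) :
    Cfsg.IsPSL2PairOver k (A.subgroupOf H) (B.subgroupOf H) := by
  obtain ⟨φ, h1, h2, h3, h4⟩ := h
  have hr : ∀ x, φ x ∈ H := fun x => (sup_le hA hB) (h1 ▸ (⟨x, rfl⟩ : φ x ∈ φ.range))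
  have hcomp : H.subtype.comp (φ.codRestrict H hr) = φ := MonoidHom.ext fun x => rfl
  refine ⟨φ.codRestrict H hr, ?_, ?_, ?_, ?_⟩
  · apply Subgroup.map_injective H.subtype_injective
    rw [MonoidHom.range_eq_map, Subgroup.map_map, hcomp, ← MonoidHom.range_eq_map, h1,
      Subgroup.map_sup, Subgroup.map_subgroupOf_eq_of_le hA, Subgroup.map_subgroupOf_eq_of_le hB]
  · rw [MonoidHom.ker_codRestrict]
    exact h2
  · apply Subgroup.map_injective H.subtype_injective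
    rw [Subgroup.map_map, hcomp, h3, Subgroup.map_subgroupOf_eq_of_le hA]
  · apply Subgroup.map_injective H.subtype_injective
    rw [Subgroup.map_map, hcomp, h4, Subgroup.map_subgroupOf_eq_of_le hB]

theorem iSup_subgroupOf_eq_top (S : Set (Subgroup G)) :
    (⨆ A' ∈ (fun X : Subgroup G => X.subgroupOf (⨆ B ∈ S, B)) '' S, A') = ⊤ := by
  obtain ⟨H, hH⟩ : ∃ H : Subgroup G, H = ⨆ B ∈ S, B := ⟨_, rfl⟩
  rw [← hH]
  apply Subgroup.map_injective H.subtype_injective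
  rw [iSup_image, Subgroup.map_iSup, ← MonoidHom.range_eq_map, Subgroup.range_subtype]
  have : ∀ A : Subgroup G, Subgroup.map H.subtype (⨆ (_ : A ∈ S), A.subgroupOf H) =
      ⨆ (_ : A ∈ S), A := by
    intro A
    rw [Subgroup.map_iSup]
    congr 1
    ext hA
    rw [Subgroup.map_subgroupOf_eq_of_le]
    rw [hH]
    exact le_iSup₂ (f := fun A (_ : A ∈ S) => A) A hA
  simp_rw [this]
  exact hH.symm

theorem not_rankOnePair_of_commute {A B : Subgroup G} (hA : A ≠ ⊥)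
    (hc : ∀ a ∈ A, ∀ b ∈ B, a * b = b * a) : ¬ Cfsg.IsRankOnePair A B := by
  intro h
  obtain ⟨a, ha1⟩ := Subgroup.ne_bot_iff_exists_ne_one.mp hA
  obtain ⟨b, hb, -, hab⟩ := h.cond_left (a : G) a.2 (by intro h0; exact ha1 (Subtype.ext h0))
  rw [conjBy_eq_of_commute A b⁻¹ (fun x hx => by
      have := hc x hx b hb
      rw [inv_mul_eq_iff_eq_mul, ← mul_assoc, ← this, mul_assoc, mul_inv_cancel, mul_one]),
    conjBy_eq_of_commute B (a : G)⁻¹ (fun x hx => by
      have := hc (a : G) a.2 x hx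
      rw [inv_mul_eq_iff_eq_mul, ← mul_assoc, this, mul_assoc, mul_inv_cancel, mul_one])] at hab
  exact h.ne hab

/-- the transfer of the root subgroup axioms to the generated subgroup -/
theorem isKRootSubgroupSet_subgroupOf {k : Type*} [Field k] (S : Set (Subgroup G))
    (hcomm : ∀ A ∈ S, ∀ a ∈ A, ∀ b ∈ A, a * b = b * a) (hne : ∀ A ∈ S, A ≠ ⊥)
    (hconj : ∀ A ∈ S, ∀ g : G, Cfsg.conjBy A g ∈ S)
    (hpair : ∀ A ∈ S, ∀ B ∈ S, ⁅A, B⁆ = ⊥ ∨ Cfsg.IsRankOnePair A B ∨ Cfsg.RootCommutatorCase S A B)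
    (hpsl : ∀ A ∈ S, ∀ B ∈ S, Cfsg.IsRankOnePair A B → Cfsg.IsPSL2PairOver k A B) :
    Cfsg.IsKRootSubgroupSet k ((fun X : Subgroup G => X.subgroupOf (⨆ B ∈ S, B)) '' S) := by
  have hle : ∀ A ∈ S, A ≤ ⨆ B ∈ S, B := fun A hA => le_iSup₂ (f := fun A (_ : A ∈ S) => A) A hA
  refine ⟨⟨?_, ?_, iSup_subgroupOf_eq_top S, ?_, ?_⟩, ?_⟩
  · rintro _ ⟨A, hA, rfl⟩
    exact ⟨⟨fun a b => Subtype.ext (Subtype.ext (hcomm A hA _ a.2 _ b.2))⟩⟩
  · rintro _ ⟨A, hA, rfl⟩ hbot
    apply hne A hA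
    have hbot' : A.subgroupOf (⨆ B ∈ S, B) = ⊥ := hbot
    rw [← Subgroup.map_subgroupOf_eq_of_le (hle A hA), hbot', Subgroup.map_bot]
  · rintro _ ⟨A, hA, rfl⟩ g
    exact ⟨Cfsg.conjBy A (g : G), hconj A hA g, (conjBy_subgroupOf' _ A g).symm⟩
  · rintro _ ⟨A, hA, rfl⟩ _ ⟨B, hB, rfl⟩
    rcases hpair A hA B hB with h | h | h
    · left
      rw [commutator_subgroupOf' (hle A hA) (hle B hB), h]
      exact Subgroup.bot_subgroupOf _
    · right; left
      exact (isRankOnePair_subgroupOf_iff (hle A hA) (hle B hB) (hcomm A hA) (hcomm B hB)).mpr h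
    · right; right
      exact rootCommutatorCase_subgroupOf (hle A hA) (hle B hB) h
  · rintro _ ⟨A, hA, rfl⟩ _ ⟨B, hB, rfl⟩ h
    exact isPSL2PairOver_subgroupOf (hle A hA) (hle B hB) (hpsl A hA B hB
      ((isRankOnePair_subgroupOf_iff (hle A hA) (hle B hB) (hcomm A hA) (hcomm B hB)).mp h))

end roott

end Cfsg.Agent.helper13
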