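import Mathlib

set_option autoImplicit false
open Polynomial

namespace Cfsg.Agent.helper13.S2670y

variable {F : Type*} [Field F]

/-- the scaling sends `(X - C a)^k ∣ f` to `(X - C (ω a))^k ∣ scaled f` -/
theorem dvd_scale (n : ℕ) (ω : F) (hω0 : ω ≠ 0) (f : F[X]) (a : F) (k : ℕ)
    (h : (X - C a) ^ k ∣ f) :
    (X - C (ω * a)) ^ k ∣ C (ω ^ n) * f.comp (C ω⁻¹ * X) := by
  obtain ⟨q, rfl⟩ := h
  have h1 : (X - C a : F[X]).comp (C ω⁻¹ * X) = C ω⁻¹ * (X - C (ω * a)) := by
    rw [mul_sub, ← C_mul, ← mul_assoc, inv_mul_cancel₀ hω0, one_mul]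
    simp
  rw [mul_comp, pow_comp, h1, mul_pow]
  exact dvd_mul_of_dvd_right (dvd_mul_of_dvd_left (dvd_mul_left _ _) _) _

/-- PIECE S6 of the S2670 swarm: fixed points of the rotation for `c = 1` -/
theorem pieceS6 (n r : ℕ) (hr : r.Prime) (ω : F) (hω : ω ^ r = 1)
    (hω1 : ω ≠ 1) (f : F[X]) (hf : f.Monic) (hd : f.natDegree = n)
    (h : f ∣ (X ^ r - C 1) ^ n) (hfix : C (ω ^ n) * f.comp (C ω⁻¹ * X) = f) :
    r ∣ n ∧ f = (X ^ r - C 1) ^ (n / r) := by
  classical
  have : Fact r.Prime := ⟨hr⟩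
  have : NeZero r := ⟨hr.ne_zero⟩
  have hord : orderOf ω = r := orderOf_eq_prime hω hω1
  have hprim : IsPrimitiveRoot ω r := hord ▸ IsPrimitiveRoot.orderOf ω
  have hω0 : ω ≠ 0 := by
    rintro rfl
    rw [zero_pow hr.ne_zero] at hω
    exact zero_ne_one hω
  have hf0 : f ≠ 0 := hf.ne_zero
  have hgs : (X ^ r - C (1 : F)).Splits := X_pow_sub_one_splits hprim
  have hgm : (X ^ r - C (1 : F)).Monic := monic_X_pow_sub_C 1 hr.ne_zero
  have hg0 : (X ^ r - C (1 : F)) ≠ 0 := hgm.ne_zero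
  have hfs : f.Splits := (hgs.pow n).of_dvd (pow_ne_zero n hg0) h
  have hstep : ∀ a : F, rootMultiplicity a f ≤ rootMultiplicity (ω * a) f := by
    intro a
    rw [le_rootMultiplicity_iff hf0]
    have := dvd_scale n ω hω0 f a _ (pow_rootMultiplicity_dvd f a)
    rwa [hfix] at this
  have hiter : ∀ (j : ℕ) (a : F), rootMultiplicity a f ≤ rootMultiplicity (ω ^ j * a) f := by
    intro j
    induction j with
    | zero => intro a; simp
    | succ j ih =>
      intro a
      calc rootMultiplicity a f ≤ rootMultiplicity (ω ^ j * a) f := ih a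
        _ ≤ rootMultiplicity (ω * (ω ^ j * a)) f := hstep _
        _ = rootMultiplicity (ω ^ (j + 1) * a) f := by rw [pow_succ', mul_assoc]
  have hmult : ∀ a : F, a ^ r = 1 → rootMultiplicity a f = rootMultiplicity (1 : F) f := by
    intro a ha
    obtain ⟨i, hi, rfl⟩ := hprim.eq_pow_of_pow_eq_one ha
    apply le_antisymm
    · have := hiter (r - i) (ω ^ i)
      rwa [← pow_add, Nat.sub_add_cancel hi.le, hω] at this
    · have := hiter i 1
      rwa [mul_one] at this
  have hroots : f.roots = rootMultiplicity (1 : F) f • nthRoots r (1 : F) := by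
    ext a
    rw [count_roots, Multiset.count_nsmul]
    by_cases ha : a ^ r = 1
    · rw [hmult a ha, Multiset.count_eq_one_of_mem hprim.nthRoots_one_nodup
        ((mem_nthRoots hr.pos).2 ha), mul_one]
    · have h1 : Multiset.count a (nthRoots r (1 : F)) = 0 :=
        Multiset.count_eq_zero.2 (by rwa [mem_nthRoots hr.pos])
      rw [h1, mul_zero, rootMultiplicity_eq_zero]
      intro hroot
      have h2 : IsRoot ((X ^ r - C (1 : F)) ^ n) a := hroot.dvd h
      apply ha
      have h3 : (a ^ r - 1) ^ n = 0 := by simpa [IsRoot] using h2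
      exact sub_eq_zero.1 (eq_zero_of_pow_eq_zero h3)
  have hgr : (X ^ r - C (1 : F)) = ((nthRoots r (1 : F)).map (X - C ·)).prod :=
    hgs.eq_prod_roots_of_monic hgm
  have hfk : f = (X ^ r - C (1 : F)) ^ rootMultiplicity (1 : F) f := by
    calc f = (f.roots.map (X - C ·)).prod := hfs.eq_prod_roots_of_monic hf
      _ = _ := by rw [hroots, Multiset.map_nsmul, Multiset.prod_nsmul, ← hgr]
  have hnk : n = r * rootMultiplicity (1 : F) f := by
    rw [← hd]
    conv_lhs => rw [hfk]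
    rw [natDegree_pow, natDegree_X_pow_sub_C, mul_comm]
  refine ⟨⟨_, hnk⟩, ?_⟩
  have : n / r = rootMultiplicity (1 : F) f := by
    conv_lhs => rw [hnk]
    exact Nat.mul_div_cancel_left _ hr.pos
  rw [this]
  exact hfk

end Cfsg.Agent.helper13.S2670y
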