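import Mathlib

set_option autoImplicit false

namespace Cfsg.Agent.helper13.S2672x

section
variable {G : Type*} [Group G]

/-- order `r` (prime) in `G ⧸ Z(G)` -/
theorem orderOf_mk_eq_iff (r : ℕ) (hr : r.Prime) (g : G) :
    orderOf (QuotientGroup.mk g : G ⧸ Subgroup.center G) = r ↔
      g ^ r ∈ Subgroup.center G ∧ g ∉ Subgroup.center G := by
  have : Fact r.Prime := ⟨hr⟩
  rw [orderOf_eq_prime_iff, ← QuotientGroup.mk_pow, QuotientGroup.eq_one_iff, Ne,
    QuotientGroup.eq_one_iff]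

/-- conjugacy in `G ⧸ Z(G)` -/
theorem isConj_mk_iff (g h : G) :
    IsConj (QuotientGroup.mk g : G ⧸ Subgroup.center G) (QuotientGroup.mk h) ↔
      ∃ z : ↥(Subgroup.center G), IsConj g ((z : G) * h) := by
  constructor
  · intro hc
    rw [isConj_iff] at hc
    obtain ⟨c, hc⟩ := hc
    obtain ⟨k, rfl⟩ := QuotientGroup.mk_surjective c
    rw [← QuotientGroup.mk_inv, ← QuotientGroup.mk_mul, ← QuotientGroup.mk_mul,
      QuotientGroup.eq_iff_div_mem] at hc
    refine ⟨⟨_, hc⟩, ?_⟩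
    rw [isConj_iff]
    exact ⟨k, by simp⟩
  · rintro ⟨z, hz⟩
    have h1 := (QuotientGroup.mk' (Subgroup.center G)).map_isConj hz
    have h2 : (QuotientGroup.mk' (Subgroup.center G)) ((z : G) * h) =
        (QuotientGroup.mk h : G ⧸ Subgroup.center G) := by
      rw [map_mul]
      have : (QuotientGroup.mk' (Subgroup.center G)) (z : G) = 1 :=
        (QuotientGroup.eq_one_iff _).2 z.2
      rw [this, one_mul]
      rfl
    rw [h2] at h1
    exact h1

theorem mul_mem_R (r : ℕ) (z : ↥(Subgroup.center G)) (g : G)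
    (h1 : g ^ r ∈ Subgroup.center G) (h2 : g ∉ Subgroup.center G) :
    ((z : G) * g) ^ r ∈ Subgroup.center G ∧ (z : G) * g ∉ Subgroup.center G := by
  constructor
  · have hc : Commute (z : G) g := (Subgroup.mem_center_iff.1 z.2 g).symm
    rw [hc.mul_pow]
    exact Subgroup.mul_mem _ (Subgroup.pow_mem _ z.2 r) h1
  · intro h
    exact h2 ((Subgroup.mul_mem_cancel_left _ z.2).1 h)

end

/-- PIECE L1 of the S2672 swarm (pure group theory + Burnside, Mathlib only). -/
theorem pieceL1 {G : Type*} [Group G] [Finite G] {X : Type*} (r : ℕ) (hr : r.Prime)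
    (act : ↥(Subgroup.center G) → X → X)
    (hact1 : ∀ x, act 1 x = x) (hactmul : ∀ z w x, act (z * w) x = act z (act w x))
    (χ : G → X)
    (hχ : ∀ (z : ↥(Subgroup.center G)) (g : G), χ ((z : G) * g) = act z (χ g))
    (hconj : ∀ g h : G, g ^ r ∈ Subgroup.center G → h ^ r ∈ Subgroup.center G →
      (χ g = χ h ↔ IsConj g h)) :
    Nat.card {C : ConjClasses (G ⧸ Subgroup.center G) //
        ∃ g : G ⧸ Subgroup.center G, ConjClasses.mk g = C ∧ orderOf g = r} *
      Nat.card ↥(Subgroup.center G) =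
    ∑ᶠ z : ↥(Subgroup.center G), Nat.card {x : X //
      (∃ g : G, g ^ r ∈ Subgroup.center G ∧ g ∉ Subgroup.center G ∧ χ g = x) ∧ act z x = x} := by
  classical
  let P : Set X := {x | ∃ g : G, g ^ r ∈ Subgroup.center G ∧ g ∉ Subgroup.center G ∧ χ g = x}
  have hactP : ∀ (z : ↥(Subgroup.center G)) (x : X), x ∈ P → act z x ∈ P := by
    rintro z x ⟨g, h1, h2, rfl⟩
    obtain ⟨h3, h4⟩ := mul_mem_R r z g h1 h2
    exact ⟨(z : G) * g, h3, h4, hχ z g⟩
  let _ : MulAction ↥(Subgroup.center G) ↥P :=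
    { smul := fun z p => ⟨act z p.1, hactP z p.1 p.2⟩
      one_smul := fun p => Subtype.ext (hact1 p.1)
      mul_smul := fun z w p => Subtype.ext (hactmul z w p.1) }
  have hsmul : ∀ (z : ↥(Subgroup.center G)) (p : ↥P), ((z • p : ↥P) : X) = act z p.1 :=
    fun _ _ => rfl
  have hfinP : Finite ↥P :=
    Finite.of_surjective
      (fun g : {g : G // g ^ r ∈ Subgroup.center G ∧ g ∉ Subgroup.center G} =>
        (⟨χ g.1, g.1, g.2.1, g.2.2, rfl⟩ : ↥P))
      (by rintro ⟨x, g, h1, h2, rfl⟩; exact ⟨⟨g, h1, h2⟩, rfl⟩)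
  -- chosen representatives
  have hγ : ∀ p : ↥P, ∃ g : G, g ^ r ∈ Subgroup.center G ∧ g ∉ Subgroup.center G ∧ χ g = p.1 :=
    fun p => p.2
  choose γ hγ1 hγ2 hγ3 using hγ
  let T := {C : ConjClasses (G ⧸ Subgroup.center G) //
        ∃ g : G ⧸ Subgroup.center G, ConjClasses.mk g = C ∧ orderOf g = r}
  let Φ : ↥P → T := fun p =>
    ⟨ConjClasses.mk (QuotientGroup.mk (γ p)), QuotientGroup.mk (γ p), rfl,
      (orderOf_mk_eq_iff r hr (γ p)).2 ⟨hγ1 p, hγ2 p⟩⟩
  have claimA : ∀ p p' : ↥P, Φ p = Φ p' ↔ p ∈ MulAction.orbit ↥(Subgroup.center G) p' := by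
    intro p p'
    rw [MulAction.mem_orbit_iff]
    constructor
    · intro h
      have h1 : IsConj (QuotientGroup.mk (γ p) : G ⧸ Subgroup.center G)
          (QuotientGroup.mk (γ p')) :=
        ConjClasses.mk_eq_mk_iff_isConj.1 (congrArg Subtype.val h)
      obtain ⟨z, hz⟩ := (isConj_mk_iff _ _).1 h1
      refine ⟨z, Subtype.ext ?_⟩
      rw [hsmul, ← hγ3 p', ← hχ, ← hγ3 p]
      exact ((hconj _ _ (hγ1 p) (mul_mem_R r z _ (hγ1 p') (hγ2 p')).1).2 hz).symm
    · rintro ⟨z, hz⟩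
      apply Subtype.ext
      apply ConjClasses.mk_eq_mk_iff_isConj.2
      apply (isConj_mk_iff _ _).2
      refine ⟨z, (hconj _ _ (hγ1 p) (mul_mem_R r z _ (hγ1 p') (hγ2 p')).1).1 ?_⟩
      rw [hχ, hγ3 p, hγ3 p', ← hsmul, hz]
  have claimB : Function.Surjective Φ := by
    rintro ⟨C, gbar, rfl, hord⟩
    obtain ⟨g, rfl⟩ := QuotientGroup.mk_surjective gbar
    obtain ⟨h1, h2⟩ := (orderOf_mk_eq_iff r hr g).1 hord
    refine ⟨⟨χ g, g, h1, h2, rfl⟩, Subtype.ext ?_⟩
    apply ConjClasses.mk_eq_mk_iff_isConj.2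
    apply (QuotientGroup.mk' (Subgroup.center G)).map_isConj
    exact (hconj _ _ (hγ1 _) h1).1 (hγ3 _)
  let Ψ : MulAction.orbitRel.Quotient ↥(Subgroup.center G) ↥P → T :=
    Quotient.lift Φ (fun a b hab => (claimA a b).2 (MulAction.orbitRel_apply.1 hab))
  have hbij : Function.Bijective Ψ := by
    constructor
    · rintro ⟨a⟩ ⟨b⟩ h
      exact Quotient.sound (MulAction.orbitRel_apply.2 ((claimA a b).1 h))
    · intro t
      obtain ⟨p, hp⟩ := claimB t
      exact ⟨Quotient.mk _ p, hp⟩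
  let _ : Fintype ↥(Subgroup.center G) := Fintype.ofFinite _
  let _ : ∀ z : ↥(Subgroup.center G), Fintype (MulAction.fixedBy ↥P z) :=
    fun z => Fintype.ofFinite _
  let _ : Fintype (MulAction.orbitRel.Quotient ↥(Subgroup.center G) ↥P) := Fintype.ofFinite _
  have hB := MulAction.sum_card_fixedBy_eq_card_orbits_mul_card_group ↥(Subgroup.center G) ↥P
  have hT : Nat.card T =
      Fintype.card (MulAction.orbitRel.Quotient ↥(Subgroup.center G) ↥P) := by
    rw [← Nat.card_eq_fintype_card]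
    exact (Nat.card_congr (Equiv.ofBijective Ψ hbij)).symm
  have hfix : ∀ z : ↥(Subgroup.center G), Nat.card {x : X //
      (∃ g : G, g ^ r ∈ Subgroup.center G ∧ g ∉ Subgroup.center G ∧ χ g = x) ∧ act z x = x} =
      Fintype.card (MulAction.fixedBy ↥P z) := by
    intro z
    rw [← Nat.card_eq_fintype_card]
    refine Nat.card_congr
      { toFun := fun a => ⟨⟨a.1, a.2.1⟩, Subtype.ext a.2.2⟩
        invFun := fun b => ⟨b.1.1, b.1.2, congrArg Subtype.val b.2⟩
        left_inv := fun a => rfl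
        right_inv := fun b => rfl }
  change Nat.card T * _ = _
  rw [hT, finsum_eq_sum_of_fintype, Nat.card_eq_fintype_card, ← hB]
  exact Finset.sum_congr rfl (fun z _ => (hfix z).symm)

end Cfsg.Agent.helper13.S2672x
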