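import Mathlib

/-! A counting lemma on sharply 2-transitive sets of permutations preserving a family of blocks
(indexed with multiplicity) with constant block size and constant intersection size. -/

set_option autoImplicit false

namespace Cfsg.Agent.helper13

open Finset

theorem s2tr_ncard_filter {α : Type*} [Fintype α] (p : α → Prop) [DecidablePred p] :
    Set.ncard {x | p x} = (Finset.univ.filter p).card := by
  rw [← Set.ncard_coe_finset]
  congr 1
  ext x
  simp

/-- `s` carries the block of `w₀` onto the block of `w'`. -/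
def S2Maps {P W : Type*} (inc : P → W → Prop) (w₀ : W) (s : Equiv.Perm P) (w' : W) : Prop :=
  ∀ x, inc (s x) w' ↔ inc x w₀

/-- `w'` and `w` index the same block. -/
def S2Sim {P W : Type*} (inc : P → W → Prop) (w' w : W) : Prop := ∀ x, inc x w' ↔ inc x w

theorem s2tr_core {P W : Type*} [Finite P] [Finite W] (inc : P → W → Prop)
    (S : Set (Equiv.Perm P)) (h h₂ c k₁ : ℕ)
    (hS : ∀ a b c' d : P, a ≠ b → c' ≠ d → ∃! s, s ∈ S ∧ s a = c' ∧ s b = d)
    (hblk : ∀ w, Set.ncard {x | inc x w} = h)
    (hint : ∀ w w', ¬ S2Sim inc w' w → Set.ncard {x | inc x w ∧ inc x w'} = h₂)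
    (hcls : ∀ w, Set.ncard {w' | S2Sim inc w' w} = c)
    (hk : ∀ a b : P, a ≠ b → Set.ncard {w | inc b w ∧ ¬ inc a w} = k₁)
    (hact : ∀ s ∈ S, ∀ w, ∃ w', ∀ x, inc (s x) w' ↔ inc x w)
    (hlt : h₂ < h) (hc : 0 < c) (a : P) (w₀ : W) (haw : ¬ inc a w₀) (b₀ : P) (hb₀ : b₀ ≠ a) :
    ∃ μ : ℕ, k₁ * μ = c * h := by
  classical
  haveI := Fintype.ofFinite P
  haveI := Fintype.ofFinite W
  have hblk' : ∀ w, (univ.filter (fun x => inc x w)).card = h := by
    intro w
    rw [← s2tr_ncard_filter]
    exact hblk w
  have hint' : ∀ w w', ¬ S2Sim inc w' w →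
      (univ.filter (fun x => inc x w ∧ inc x w')).card = h₂ := by
    intro w w' hns
    rw [← s2tr_ncard_filter]
    exact hint w w' hns
  have hcls' : ∀ w, (univ.filter (fun w' => S2Sim inc w' w)).card = c := by
    intro w
    rw [← s2tr_ncard_filter]
    exact hcls w
  have hk' : ∀ a b : P, a ≠ b → (univ.filter (fun w => inc b w ∧ ¬ inc a w)).card = k₁ := by
    intro a b hab
    rw [← s2tr_ncard_filter]
    exact hk a b hab
  obtain ⟨T, hT⟩ : ∃ T : Finset (Equiv.Perm P), ∀ s, s ∈ T ↔ s ∈ S ∧ s a = a :=
    ⟨univ.filter (fun s => s ∈ S ∧ s a = a), fun s => by simp⟩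
  obtain ⟨m, hm⟩ : ∃ m : W → ℕ, ∀ w', m w' = (T.filter (fun s => S2Maps inc w₀ s w')).card :=
    ⟨_, fun _ => rfl⟩
  -- F1
  have F1 : ∀ s ∈ T, ∀ w', S2Maps inc w₀ s w' → ¬ inc a w' := by
    intro s hs w' hmp hi
    have h1 := hmp a
    rw [((hT s).mp hs).2] at h1
    exact haw (h1.mp hi)
  -- F2
  have F2 : ∀ s ∈ T, (univ.filter (fun w' => S2Maps inc w₀ s w')).card = c := by
    intro s hs
    obtain ⟨w₁, hw₁⟩ := hact s ((hT s).mp hs).1 w₀
    have h1 : univ.filter (fun w' => S2Maps inc w₀ s w') =
        univ.filter (fun w' => S2Sim inc w' w₁) := by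
      ext w'
      simp only [mem_filter, mem_univ, true_and]
      constructor
      · intro hmp y
        have h2 := hmp (s.symm y)
        rw [Equiv.apply_symm_apply] at h2
        have h3 := hw₁ (s.symm y)
        rw [Equiv.apply_symm_apply] at h3
        exact h2.trans h3.symm
      · intro hs' x
        exact (hs' (s x)).trans (hw₁ x)
    rw [h1]
    exact hcls' w₁
  -- F3
  have F3 : ∀ w' w'', S2Sim inc w' w'' → m w' = m w'' := by
    intro w' w'' hs
    rw [hm, hm]
    congr 1
    apply Finset.filter_congr
    intro s _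
    constructor
    · intro hmp x
      exact (hs (s x)).symm.trans (hmp x)
    · intro hmp x
      exact (hs (s x)).trans (hmp x)
  -- F4
  have F4 : ∀ b' : P, b' ≠ a → (T.filter (fun s => inc (s.symm b') w₀)).card = h := by
    intro b' hb'
    rw [← hblk' w₀]
    apply Finset.card_bij (fun s _ => s.symm b')
    · intro s hs
      simp only [mem_filter, mem_univ, true_and] at hs ⊢
      exact hs.2
    · intro s hs s' hs' heq
      simp only [mem_filter] at hs hs'
      have hsT := (hT s).mp hs.1
      have hsT' := (hT s').mp hs'.1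
      have hne : a ≠ s.symm b' := by
        intro e
        apply haw
        rw [e]
        exact hs.2
      obtain ⟨u, _, huniq⟩ := hS a (s.symm b') a b' hne (Ne.symm hb')
      have e1 : s = u := huniq s ⟨hsT.1, hsT.2, Equiv.apply_symm_apply s b'⟩
      have e2 : s' = u := huniq s' ⟨hsT'.1, hsT'.2, by
        change s' (s.symm b') = b'
        rw [heq]
        exact Equiv.apply_symm_apply s' b'⟩
      exact e1.trans e2.symm
    · intro b hb
      simp only [mem_filter, mem_univ, true_and] at hb
      have hba : a ≠ b := by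
        intro e
        apply haw
        rw [e]
        exact hb
      obtain ⟨u, ⟨huS, hua, hub⟩, _⟩ := hS a b a b' hba (Ne.symm hb')
      have hub' : u.symm b' = b := by rw [← hub, Equiv.symm_apply_apply]
      refine ⟨u, ?_, hub'⟩
      simp only [mem_filter]
      refine ⟨(hT u).mpr ⟨huS, hua⟩, ?_⟩
      rw [hub']
      exact hb
  -- (*)
  have star : ∀ b' : P, b' ≠ a →
      ∑ w' ∈ univ.filter (fun w' => inc b' w' ∧ ¬ inc a w'), m w' = c * h := by
    intro b' hb'
    calc ∑ w' ∈ univ.filter (fun w' => inc b' w' ∧ ¬ inc a w'), m w'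
        = ∑ w' ∈ univ.filter (fun w' => inc b' w' ∧ ¬ inc a w'),
            ∑ s ∈ T, (if S2Maps inc w₀ s w' then 1 else 0) := by
          apply Finset.sum_congr rfl
          intro w' _
          rw [hm, Finset.card_filter]
      _ = ∑ s ∈ T, ∑ w' ∈ univ.filter (fun w' => inc b' w' ∧ ¬ inc a w'),
            (if S2Maps inc w₀ s w' then 1 else 0) := Finset.sum_comm
      _ = ∑ s ∈ T, (if inc (s.symm b') w₀ then c else 0) := by
          apply Finset.sum_congr rfl
          intro s hs
          rw [← Finset.card_filter]
          by_cases hi : inc (s.symm b') w₀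
          · rw [if_pos hi]
            have h1 : (univ.filter (fun w' => inc b' w' ∧ ¬ inc a w')).filter
                (fun w' => S2Maps inc w₀ s w') = univ.filter (fun w' => S2Maps inc w₀ s w') := by
              ext w'
              simp only [mem_filter, mem_univ, true_and]
              constructor
              · exact fun hh => hh.2
              · intro hmp
                refine ⟨⟨?_, F1 s hs w' hmp⟩, hmp⟩
                have h2 := hmp (s.symm b')
                rw [Equiv.apply_symm_apply] at h2
                exact h2.mpr hi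
            rw [h1]
            exact F2 s hs
          · rw [if_neg hi, Finset.card_eq_zero, Finset.filter_eq_empty_iff]
            intro w' hw' hmp
            have h2 := hmp (s.symm b')
            rw [Equiv.apply_symm_apply] at h2
            exact hi (h2.mp (mem_filter.mp hw').2.1)
      _ = c * (T.filter (fun s => inc (s.symm b') w₀)).card := by
          rw [← Finset.sum_filter, Finset.sum_const, smul_eq_mul, mul_comm]
      _ = c * h := by rw [F4 b' hb']
  -- (**)
  obtain ⟨M, hM⟩ : ∃ M : ℕ, M = ∑ w' ∈ univ.filter (fun w' => ¬ inc a w'), m w' := ⟨_, rfl⟩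
  have star2 : ∀ w₁ : W, ¬ inc a w₁ → h₂ * M + (h - h₂) * (c * m w₁) = h * (c * h) := by
    intro w₁ haw₁
    have hB : ∀ b' ∈ univ.filter (fun x => inc x w₁), b' ≠ a := by
      intro b' hb' e
      rw [e] at hb'
      exact haw₁ (mem_filter.mp hb').2
    have e1 : ∑ b' ∈ univ.filter (fun x => inc x w₁),
        ∑ w' ∈ univ.filter (fun w' => inc b' w' ∧ ¬ inc a w'), m w' = h * (c * h) := by
      rw [Finset.sum_congr rfl (fun b' hb' => star b' (hB b' hb')), Finset.sum_const, smul_eq_mul,
        hblk' w₁]
    have e2 : ∑ b' ∈ univ.filter (fun x => inc x w₁),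
        ∑ w' ∈ univ.filter (fun w' => inc b' w' ∧ ¬ inc a w'), m w' =
        ∑ w' ∈ univ.filter (fun w' => ¬ inc a w'),
          (if S2Sim inc w' w₁ then h else h₂) * m w' := by
      calc ∑ b' ∈ univ.filter (fun x => inc x w₁),
          ∑ w' ∈ univ.filter (fun w' => inc b' w' ∧ ¬ inc a w'), m w'
          = ∑ b' ∈ univ.filter (fun x => inc x w₁),
              ∑ w' ∈ univ.filter (fun w' => ¬ inc a w'), (if inc b' w' then m w' else 0) := by
            apply Finset.sum_congr rfl
            intro b' _
            rw [← Finset.sum_filter, Finset.filter_filter]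
            apply Finset.sum_congr
            · ext w'
              simp only [mem_filter, mem_univ, true_and]
              exact and_comm
            · intro _ _
              rfl
        _ = ∑ w' ∈ univ.filter (fun w' => ¬ inc a w'),
              ∑ b' ∈ univ.filter (fun x => inc x w₁), (if inc b' w' then m w' else 0) :=
            Finset.sum_comm
        _ = ∑ w' ∈ univ.filter (fun w' => ¬ inc a w'),
              (if S2Sim inc w' w₁ then h else h₂) * m w' := by
            apply Finset.sum_congr rfl
            intro w' _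
            rw [← Finset.sum_filter, Finset.sum_const, smul_eq_mul, Finset.filter_filter]
            congr 1
            by_cases hs : S2Sim inc w' w₁
            · rw [if_pos hs, ← hblk' w₁]
              congr 1
              ext x
              simp only [mem_filter, mem_univ, true_and]
              constructor
              · exact fun hh => hh.1
              · exact fun hh => ⟨hh, (hs x).mpr hh⟩
            · rw [if_neg hs]
              exact hint' w₁ w' hs
    have e3 : ∑ w' ∈ univ.filter (fun w' => ¬ inc a w'),
        (if S2Sim inc w' w₁ then h else h₂) * m w' = h₂ * M + (h - h₂) * (c * m w₁) := by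
      have h4 : ∀ w' : W, (if S2Sim inc w' w₁ then h else h₂) * m w' =
          h₂ * m w' + (if S2Sim inc w' w₁ then (h - h₂) * m w₁ else 0) := by
        intro w'
        by_cases hs : S2Sim inc w' w₁
        · rw [if_pos hs, if_pos hs, F3 w' w₁ hs, ← add_mul]
          congr 1
          omega
        · rw [if_neg hs, if_neg hs, add_zero]
      rw [Finset.sum_congr rfl (fun w' _ => h4 w'), Finset.sum_add_distrib, ← Finset.mul_sum, ← hM,
        ← Finset.sum_filter, Finset.sum_const, smul_eq_mul, Finset.filter_filter]
      congr 1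
      have h5 : (univ.filter (fun w' => ¬ inc a w' ∧ S2Sim inc w' w₁)) =
          univ.filter (fun w' => S2Sim inc w' w₁) := by
        ext w'
        simp only [mem_filter, mem_univ, true_and]
        constructor
        · exact fun hh => hh.2
        · intro hs
          exact ⟨fun hi => haw₁ ((hs a).mp hi), hs⟩
      rw [h5, hcls' w₁]
      ring
    rw [← e3, ← e2, e1]
  -- constancy
  have hconst : ∀ w₁ : W, ¬ inc a w₁ → m w₁ = m w₀ := by
    intro w₁ haw₁
    have h1 := star2 w₁ haw₁
    have h2 := star2 w₀ haw
    have h3 : (h - h₂) * (c * m w₁) = (h - h₂) * (c * m w₀) := by omega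
    have h4 : c * m w₁ = c * m w₀ := Nat.eq_of_mul_eq_mul_left (by omega) h3
    exact Nat.eq_of_mul_eq_mul_left hc h4
  refine ⟨m w₀, ?_⟩
  have h1 := star b₀ hb₀
  rw [Finset.sum_congr rfl (fun w' hw' => hconst w' (mem_filter.mp hw').2.2), Finset.sum_const,
    smul_eq_mul, hk' a b₀ (Ne.symm hb₀)] at h1
  exact h1

end Cfsg.Agent.helper13
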