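import Mathlib

/-! Vector counts for the hyperplane double count. -/

set_option autoImplicit false

namespace Cfsg.Agent.helper13

open Matrix

section
variable {F : Type*} [Field F] [Finite F] {n : ℕ}

/-- the dot product with `w` as a linear functional -/
def s2trDot (w : Fin n → F) : (Fin n → F) →ₗ[F] F where
  toFun := fun v => w ⬝ᵥ v
  map_add' := dotProduct_add w
  map_smul' := fun c v => by
    simp only [dotProduct_smul, RingHom.id_apply]

omit [Finite F] in
theorem s2trDot_apply (w v : Fin n → F) : s2trDot w v = w ⬝ᵥ v := rfl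

omit [Finite F] in
theorem s2trDot_surj (w : Fin n → F) (hw : w ≠ 0) : Function.Surjective (s2trDot w) := by
  obtain ⟨j, hj⟩ := Function.ne_iff.mp hw
  intro c
  refine ⟨Pi.single j (c / w j), ?_⟩
  rw [s2trDot_apply, dotProduct_single]
  exact mul_div_cancel₀ c hj

theorem s2tr_card_dot_zero (w : Fin n → F) (hw : w ≠ 0) :
    Set.ncard {v : Fin n → F | w ⬝ᵥ v = 0} * Nat.card F = Nat.card F ^ n := by
  have h1 := Submodule.card_eq_card_quotient_mul_card (LinearMap.ker (s2trDot w))
  have h2 : Nat.card ((Fin n → F) ⧸ LinearMap.ker (s2trDot w)) = Nat.card F :=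
    Nat.card_congr ((s2trDot w).quotKerEquivOfSurjective (s2trDot_surj w hw)).toEquiv
  have h3 : Nat.card (Fin n → F) = Nat.card F ^ n := by
    rw [Nat.card_fun, Nat.card_eq_fintype_card (α := Fin n), Fintype.card_fin]
  have h4 : Nat.card (LinearMap.ker (s2trDot w)) = Set.ncard {v : Fin n → F | w ⬝ᵥ v = 0} := by
    rw [← Nat.card_coe_set_eq]
    rfl
  rw [h2, h3, h4] at h1
  rw [h1]

end

end Cfsg.Agent.helper13
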