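import Mathlib
import Cfsg.Agent.Lib_helper13_S2TrCore
import Cfsg.Agent.Lib_helper13_S2TrGeo

/-! No sharply 2-transitive set of collineations of a projective space of dimension at least 2:
assembly of the hyperplane double count (the purely linear-algebraic pieces are hypotheses). -/

set_option autoImplicit false

namespace Cfsg.Agent.helper13

open Matrix

section
variable {F : Type*} [Field F] {n : ℕ}

/-- incidence of a point with the hyperplane `w ⬝ᵥ · = 0` -/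
def s2trInc (x : Projectivization F (Fin n → F)) (w : {w : Fin n → F // w ≠ 0}) : Prop :=
  (w : Fin n → F) ⬝ᵥ x.rep = 0

theorem s2trInc_mk (v : Fin n → F) (hv : v ≠ 0) (w : {w : Fin n → F // w ≠ 0}) :
    s2trInc (Projectivization.mk F v hv) w ↔ (w : Fin n → F) ⬝ᵥ v = 0 := by
  obtain ⟨a, ha⟩ := Projectivization.exists_smul_eq_mk_rep F v hv
  unfold s2trInc
  rw [← ha, Units.smul_def, dotProduct_smul, smul_eq_mul, mul_eq_zero]
  constructor
  · rintro (h | h)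
    · exact absurd h a.ne_zero
    · exact h
  · exact Or.inr

theorem s2trInc_smul (x : Projectivization F (Fin n → F)) (w w' : {w : Fin n → F // w ≠ 0})
    (c : F) (hc : c ≠ 0) (hw : (w' : Fin n → F) = c • (w : Fin n → F)) :
    s2trInc x w' ↔ s2trInc x w := by
  unfold s2trInc
  rw [hw, smul_dotProduct, smul_eq_mul, mul_eq_zero]
  constructor
  · rintro (h | h)
    · exact absurd h hc
    · exact h
  · exact Or.inr

theorem s2tr_pow_cancel (q X k j : ℕ) (hq : 0 < q) (h : X * q ^ j = q ^ (k + j)) : X = q ^ k := by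
  rw [pow_add] at h
  exact Nat.eq_of_mul_eq_mul_right (pow_pos hq j) h

theorem s2tr_main [Finite F] (hn : 3 ≤ n)
    (L0 : ∀ pred : Projectivization F (Fin n → F) → Prop,
      (Nat.card F - 1) * Set.ncard {x : Projectivization F (Fin n → F) | pred x} =
        Set.ncard {v : Fin n → F | ∃ hv : v ≠ 0, pred (Projectivization.mk F v hv)})
    (V2 : ∀ w w' : Fin n → F, w ≠ 0 → (∀ c : F, w' ≠ c • w) →
      Set.ncard {v : Fin n → F | w ⬝ᵥ v = 0 ∧ w' ⬝ᵥ v = 0} * Nat.card F ^ 2 = Nat.card F ^ n)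
    (V4a : ∀ w w' : Fin n → F, w ≠ 0 → (∀ v : Fin n → F, w ⬝ᵥ v = 0 → w' ⬝ᵥ v = 0) →
      ∃ c : F, w' = c • w)
    (V4b : ∀ w : Fin n → F, w ≠ 0 →
      Set.ncard {w' : Fin n → F | ∃ c : F, c ≠ 0 ∧ w' = c • w} = Nat.card F - 1)
    (G5 : ∀ (σ : F ≃+* F) (f : (Fin n → F) →ₛₗ[(σ : F →+* F)] (Fin n → F)),
      Function.Injective f → ∀ w : Fin n → F, w ≠ 0 →
      ∃ w' : Fin n → F, w' ≠ 0 ∧ ∀ v : Fin n → F, w' ⬝ᵥ f v = 0 ↔ w ⬝ᵥ v = 0)
    (S : Set (Equiv.Perm (Projectivization F (Fin n → F))))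
    (hS : ∀ s ∈ S, ∃ (σ : F ≃+* F) (f : (Fin n → F) →ₛₗ[(σ : F →+* F)] (Fin n → F))
      (hf : Function.Injective f), ∀ x, s x = Projectivization.map f hf x) :
    ¬ (∀ a b c d : Projectivization F (Fin n → F), a ≠ b → c ≠ d →
        ∃! s, s ∈ S ∧ s a = c ∧ s b = d) := by
  intro h2t
  obtain ⟨q, hq⟩ : ∃ q : ℕ, q = Nat.card F := ⟨_, rfl⟩
  rw [← hq] at L0 V2 V4b
  have hq2 : 2 ≤ q := by
    rw [hq]
    exact Finite.one_lt_card
  have hq0 : 0 < q := by omega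
  obtain ⟨j, rfl⟩ : ∃ j, n = j + 3 := ⟨n - 3, by omega⟩
  -- vector counts
  have hV1 : ∀ w : Fin (j + 3) → F, w ≠ 0 →
      Set.ncard {v : Fin (j + 3) → F | w ⬝ᵥ v = 0} = q ^ (j + 2) := by
    intro w hw
    have h1 := s2tr_card_dot_zero w hw
    rw [← hq] at h1
    apply s2tr_pow_cancel q _ (j + 2) 1 hq0
    rw [pow_one]
    exact h1
  have hV2 : ∀ w w' : Fin (j + 3) → F, w ≠ 0 → (∀ c : F, w' ≠ c • w) →
      Set.ncard {v : Fin (j + 3) → F | w ⬝ᵥ v = 0 ∧ w' ⬝ᵥ v = 0} = q ^ (j + 1) := by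
    intro w w' hw hind
    exact s2tr_pow_cancel q _ (j + 1) 2 hq0 (V2 w w' hw hind)
  -- removing zero
  have hrem : ∀ (A : Set (Fin (j + 3) → F)), (0 : Fin (j + 3) → F) ∈ A →
      Set.ncard {v : Fin (j + 3) → F | ∃ _ : v ≠ 0, v ∈ A} = A.ncard - 1 := by
    intro A hA
    rw [← Set.ncard_sdiff_singleton_of_mem hA]
    congr 1
    ext v
    simp only [Set.mem_setOf_eq, Set.mem_diff, Set.mem_singleton_iff]
    constructor
    · rintro ⟨hv, hvA⟩
      exact ⟨hvA, hv⟩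
    · rintro ⟨hvA, hv⟩
      exact ⟨hv, hvA⟩
  -- block sizes
  have hblk0 : ∀ w : {w : Fin (j + 3) → F // w ≠ 0},
      (q - 1) * Set.ncard {x | s2trInc x w} = q ^ (j + 2) - 1 := by
    intro w
    rw [L0 (fun x => s2trInc x w), ← hV1 w.1 w.2,
      ← hrem {v : Fin (j + 3) → F | (w : Fin (j + 3) → F) ⬝ᵥ v = 0} (dotProduct_zero _)]
    congr 1
    ext v
    simp only [Set.mem_setOf_eq]
    constructor
    · rintro ⟨hv, h1⟩
      exact ⟨hv, (s2trInc_mk v hv w).mp h1⟩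
    · rintro ⟨hv, h1⟩
      exact ⟨hv, (s2trInc_mk v hv w).mpr h1⟩
  have hblk : ∀ w : {w : Fin (j + 3) → F // w ≠ 0},
      Set.ncard {x | s2trInc x w} = (q ^ (j + 2) - 1) / (q - 1) := by
    intro w
    exact (Nat.div_eq_of_eq_mul_right (by omega) (hblk0 w).symm).symm
  have hsimc : ∀ w w' : {w : Fin (j + 3) → F // w ≠ 0}, ¬ S2Sim s2trInc w' w →
      ∀ c : F, (w' : Fin (j + 3) → F) ≠ c • (w : Fin (j + 3) → F) := by
    intro w w' hns c hc
    apply hns
    intro x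
    have hc0 : c ≠ 0 := by
      rintro rfl
      rw [zero_smul] at hc
      exact w'.2 hc
    exact s2trInc_smul x w w' c hc0 hc
  have hint0 : ∀ w w' : {w : Fin (j + 3) → F // w ≠ 0}, ¬ S2Sim s2trInc w' w →
      (q - 1) * Set.ncard {x | s2trInc x w ∧ s2trInc x w'} = q ^ (j + 1) - 1 := by
    intro w w' hns
    rw [L0 (fun x => s2trInc x w ∧ s2trInc x w'), ← hV2 w.1 w'.1 w.2 (hsimc w w' hns),
      ← hrem {v : Fin (j + 3) → F | (w : Fin (j + 3) → F) ⬝ᵥ v = 0 ∧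
        (w' : Fin (j + 3) → F) ⬝ᵥ v = 0} ⟨dotProduct_zero _, dotProduct_zero _⟩]
    congr 1
    ext v
    simp only [Set.mem_setOf_eq]
    constructor
    · rintro ⟨hv, h1, h2⟩
      exact ⟨hv, (s2trInc_mk v hv w).mp h1, (s2trInc_mk v hv w').mp h2⟩
    · rintro ⟨hv, h1, h2⟩
      exact ⟨hv, (s2trInc_mk v hv w).mpr h1, (s2trInc_mk v hv w').mpr h2⟩
  have hint : ∀ w w' : {w : Fin (j + 3) → F // w ≠ 0}, ¬ S2Sim s2trInc w' w →
      Set.ncard {x | s2trInc x w ∧ s2trInc x w'} = (q ^ (j + 1) - 1) / (q - 1) := by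
    intro w w' hns
    exact (Nat.div_eq_of_eq_mul_right (by omega) (hint0 w w' hns).symm).symm
  -- classes
  have hcls : ∀ w : {w : Fin (j + 3) → F // w ≠ 0},
      Set.ncard {w' : {w : Fin (j + 3) → F // w ≠ 0} | S2Sim s2trInc w' w} = q - 1 := by
    intro w
    rw [← V4b w.1 w.2, ← Set.ncard_image_of_injective _ Subtype.val_injective]
    congr 1
    ext u
    simp only [Set.mem_image, Set.mem_setOf_eq]
    constructor
    · rintro ⟨w', hs, rfl⟩
      have h1 : ∀ v : Fin (j + 3) → F, (w : Fin (j + 3) → F) ⬝ᵥ v = 0 →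
          (w' : Fin (j + 3) → F) ⬝ᵥ v = 0 := by
        intro v hv0
        by_cases hv : v = 0
        · rw [hv, dotProduct_zero]
        · exact (s2trInc_mk v hv w').mp ((hs _).mpr ((s2trInc_mk v hv w).mpr hv0))
      obtain ⟨c, hc⟩ := V4a w.1 w'.1 w.2 h1
      refine ⟨c, ?_, hc⟩
      rintro rfl
      rw [zero_smul] at hc
      exact w'.2 hc
    · rintro ⟨c, hc0, rfl⟩
      refine ⟨⟨c • (w : Fin (j + 3) → F), smul_ne_zero hc0 w.2⟩, ?_, rfl⟩
      intro x
      exact s2trInc_smul x w _ c hc0 rfl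
  -- hyperplanes through b missing a
  have hk : ∀ a b : Projectivization F (Fin (j + 3) → F), a ≠ b →
      Set.ncard {w : {w : Fin (j + 3) → F // w ≠ 0} | s2trInc b w ∧ ¬ s2trInc a w} =
        q ^ (j + 2) - q ^ (j + 1) := by
    intro a b hab
    have hind : ∀ c : F, a.rep ≠ c • b.rep := by
      intro c hc
      apply hab
      rw [← Projectivization.mk_rep a, ← Projectivization.mk_rep b,
        Projectivization.mk_eq_mk_iff']
      exact ⟨c, hc.symm⟩
    have e1 := hV1 b.rep b.rep_nonzero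
    have e2 := hV2 b.rep a.rep b.rep_nonzero hind
    rw [← e1, ← e2, ← Set.ncard_sdiff (by
      intro v hv
      exact hv.1) (Set.toFinite _), ← Set.ncard_image_of_injective _ Subtype.val_injective]
    congr 1
    ext u
    simp only [Set.mem_image, Set.mem_setOf_eq, Set.mem_diff]
    constructor
    · rintro ⟨w, ⟨h1, h2⟩, rfl⟩
      unfold s2trInc at h1 h2
      rw [dotProduct_comm] at h1 h2
      exact ⟨h1, fun h3 => h2 h3.2⟩
    · rintro ⟨h1, h2⟩
      have hu : u ≠ 0 := by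
        rintro rfl
        apply h2
        exact ⟨h1, dotProduct_zero _⟩
      refine ⟨⟨u, hu⟩, ⟨?_, ?_⟩, rfl⟩
      · unfold s2trInc
        rw [dotProduct_comm]
        exact h1
      · unfold s2trInc
        rw [dotProduct_comm]
        exact fun h3 => h2 ⟨h1, h3⟩
  -- action on blocks
  have hact : ∀ s ∈ S, ∀ w : {w : Fin (j + 3) → F // w ≠ 0},
      ∃ w' : {w : Fin (j + 3) → F // w ≠ 0}, ∀ x, s2trInc (s x) w' ↔ s2trInc x w := by
    intro s hs w
    obtain ⟨σ, f, hf, hsx⟩ := hS s hs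
    obtain ⟨w', hw'0, hw'⟩ := G5 σ f hf w.1 w.2
    refine ⟨⟨w', hw'0⟩, ?_⟩
    intro x
    induction x using Projectivization.ind with
    | h v hv =>
      rw [hsx, Projectivization.map_mk, s2trInc_mk, s2trInc_mk]
      exact hw' v
  -- the antiflag
  have h0n : 0 < j + 3 := by omega
  have h1n : 1 < j + 3 := by omega
  obtain ⟨e0, he0⟩ : ∃ e0 : Fin (j + 3) → F, e0 = Pi.single ⟨0, h0n⟩ 1 := ⟨_, rfl⟩
  obtain ⟨e1, he1⟩ : ∃ e1 : Fin (j + 3) → F, e1 = Pi.single ⟨1, h1n⟩ 1 := ⟨_, rfl⟩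
  have he0n : e0 ≠ 0 := by
    intro h
    have h3 := congrFun h ⟨0, h0n⟩
    rw [he0, Pi.single_eq_same] at h3
    exact one_ne_zero h3
  have he1n : e1 ≠ 0 := by
    intro h
    have h3 := congrFun h ⟨1, h1n⟩
    rw [he1, Pi.single_eq_same] at h3
    exact one_ne_zero h3
  have haw : ¬ s2trInc (Projectivization.mk F e0 he0n) ⟨e0, he0n⟩ := by
    rw [s2trInc_mk]
    show ¬ e0 ⬝ᵥ e0 = 0
    rw [he0, dotProduct_single, Pi.single_eq_same, mul_one]
    exact one_ne_zero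
  have hb0 : Projectivization.mk F e1 he1n ≠ Projectivization.mk F e0 he0n := by
    intro h
    rw [Projectivization.mk_eq_mk_iff'] at h
    obtain ⟨c, hc⟩ := h
    have h3 := congrFun hc ⟨1, h1n⟩
    rw [he0, he1, Pi.smul_apply, Pi.single_eq_same, Pi.single_eq_of_ne (by
      intro h4
      exact absurd (congrArg Fin.val h4) (by simp)), smul_zero] at h3
    exact zero_ne_one h3
  have hlt : (q ^ (j + 1) - 1) / (q - 1) < (q ^ (j + 2) - 1) / (q - 1) := by
    have h3 := hblk0 ⟨e0, he0n⟩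
    have h4 : (q - 1) * ((q ^ (j + 2) - 1) / (q - 1)) = q ^ (j + 2) - 1 := by
      rw [← hblk ⟨e0, he0n⟩]
      exact h3
    have h5 : (q - 1) * ((q ^ (j + 1) - 1) / (q - 1)) ≤ q ^ (j + 1) - 1 := Nat.mul_div_le _ _
    have h6 : q ^ (j + 1) < q ^ (j + 2) := Nat.pow_lt_pow_right (by omega) (by omega)
    have h7 : 0 < q ^ (j + 1) := pow_pos hq0 _
    by_contra hcon
    push Not at hcon
    have h8 := Nat.mul_le_mul_left (q - 1) hcon
    omega
  obtain ⟨μ, hμ⟩ := s2tr_core s2trInc S ((q ^ (j + 2) - 1) / (q - 1))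
    ((q ^ (j + 1) - 1) / (q - 1)) (q - 1) (q ^ (j + 2) - q ^ (j + 1)) h2t hblk hint hcls hk hact hlt
    (by omega) (Projectivization.mk F e0 he0n) ⟨e0, he0n⟩ haw (Projectivization.mk F e1 he1n) hb0
  have h9 : (q - 1) * ((q ^ (j + 2) - 1) / (q - 1)) = q ^ (j + 2) - 1 := by
    rw [← hblk ⟨e0, he0n⟩]
    exact hblk0 ⟨e0, he0n⟩
  rw [h9] at hμ
  -- arithmetic
  have d1 : q ∣ q ^ (j + 2) - q ^ (j + 1) :=
    Nat.dvd_sub (dvd_pow_self q (by omega)) (dvd_pow_self q (by omega))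
  have d2 : q ∣ q ^ (j + 2) - 1 := by
    rw [← hμ]
    exact Dvd.dvd.mul_right d1 μ
  have d3 : q ∣ q ^ (j + 2) := dvd_pow_self q (by omega)
  have d4 : q ∣ q ^ (j + 2) - (q ^ (j + 2) - 1) := Nat.dvd_sub d3 d2
  have h10 : 0 < q ^ (j + 2) := pow_pos hq0 _
  have h11 : q ^ (j + 2) - (q ^ (j + 2) - 1) = 1 := by omega
  rw [h11] at d4
  have := Nat.le_of_dvd one_pos d4
  omega

end

end Cfsg.Agent.helper13
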