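import Mathlib

namespace Cfsg.Agent.lead.S2531

open Matrix

variable {F : Type*} [Field F] [Finite F] {n : ℕ}

omit [Finite F] in
theorem prop_of_ker_le (w w' : Fin n → F) (hw : w ≠ 0)
    (h : ∀ v : Fin n → F, w ⬝ᵥ v = 0 → w' ⬝ᵥ v = 0) : ∃ c : F, w' = c • w := by
  classical
  obtain ⟨i, hi⟩ : ∃ i, w i ≠ 0 := by
    by_contra hcon
    push Not at hcon
    exact hw (funext hcon)
  refine ⟨w' i / w i, ?_⟩
  funext j
  have hv := h (Pi.single j (w i) - Pi.single i (w j)) (by
    rw [dotProduct_sub, dotProduct_single, dotProduct_single]; ring)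
  rw [dotProduct_sub, dotProduct_single, dotProduct_single] at hv
  simp only [Pi.smul_apply, smul_eq_mul]
  field_simp
  linear_combination hv

theorem card_smul_class (w : Fin n → F) (hw : w ≠ 0) :
    Set.ncard {w' : Fin n → F | ∃ c : F, c ≠ 0 ∧ w' = c • w} = Nat.card F - 1 := by
  classical
  have himg : {w' : Fin n → F | ∃ c : F, c ≠ 0 ∧ w' = c • w} =
      (fun c : F => c • w) '' {c : F | c ≠ 0} := by
    ext w'
    simp only [Set.mem_image]
    constructor
    · rintro ⟨c, hc, rfl⟩; exact ⟨c, hc, rfl⟩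
    · rintro ⟨c, hc, rfl⟩; exact ⟨c, hc, rfl⟩
  have hinj : Function.Injective (fun c : F => c • w) := smul_left_injective F hw
  rw [himg, Set.ncard_image_of_injective _ hinj]
  have h0 : {c : F | c ≠ 0} = ({0} : Set F)ᶜ := by
    ext c; simp
  rw [h0, Set.ncard_compl, Set.ncard_singleton]

theorem semilinear_block (σ : F ≃+* F)
    (f : (Fin n → F) →ₛₗ[(σ : F →+* F)] (Fin n → F)) (hf : Function.Injective f)
    (w : Fin n → F) (hw : w ≠ 0) :
    ∃ w' : Fin n → F, w' ≠ 0 ∧ ∀ v : Fin n → F, w' ⬝ᵥ f v = 0 ↔ w ⬝ᵥ v = 0 := by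
  classical
  have hsurj : Function.Surjective f := Finite.injective_iff_surjective.mp hf
  let g : (Fin n → F) → (Fin n → F) := Function.surjInv hsurj
  have hfg : ∀ u, f (g u) = u := Function.surjInv_eq hsurj
  have hgf : ∀ v, g (f v) = v := fun v => hf (hfg (f v))
  have hgadd : ∀ u u', g (u + u') = g u + g u' := by
    intro u u'
    apply hf
    rw [map_add, hfg, hfg, hfg]
  have hgsmul : ∀ (c : F) (u : Fin n → F), g (c • u) = σ.symm c • g u := by
    intro c u
    apply hf
    rw [map_smulₛₗ, hfg, hfg]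
    simp
  let gA : (Fin n → F) →+ (Fin n → F) := AddMonoidHom.mk' g hgadd
  have hgA : ∀ u, gA u = g u := fun u => rfl
  let w' : Fin n → F := fun j => σ (w ⬝ᵥ g (Pi.single j 1))
  have key : ∀ u : Fin n → F, w' ⬝ᵥ u = σ (w ⬝ᵥ g u) := by
    intro u
    have hu : u = ∑ j, u j • (Pi.single j (1 : F) : Fin n → F) := by
      funext k
      simp [Finset.sum_apply, Pi.single_apply]
    have h1 : g u = ∑ j, σ.symm (u j) • g (Pi.single j (1 : F)) := by
      conv_lhs => rw [hu]
      rw [← hgA, map_sum]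
      apply Finset.sum_congr rfl
      intro j _
      rw [hgA, hgsmul]
    rw [h1, dotProduct_sum, map_sum]
    show ∑ j, w' j * u j = _
    apply Finset.sum_congr rfl
    intro j _
    rw [dotProduct_smul, smul_eq_mul, map_mul, RingEquiv.apply_symm_apply]
    simp only [w']
    ring
  have hkey2 : ∀ v : Fin n → F, w' ⬝ᵥ f v = σ (w ⬝ᵥ v) := by
    intro v
    rw [key, hgf]
  refine ⟨w', ?_, ?_⟩
  · intro h0
    obtain ⟨i, hi⟩ : ∃ i, w i ≠ 0 := by
      by_contra hcon
      push Not at hcon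
      exact hw (funext hcon)
    have h2 := hkey2 (Pi.single i 1)
    rw [h0, zero_dotProduct, dotProduct_single, mul_one] at h2
    have h3 : σ (w i) = σ 0 := by rw [← h2, map_zero]
    exact hi (σ.injective h3)
  · intro v
    rw [hkey2]
    constructor
    · intro h
      have h3 : σ (w ⬝ᵥ v) = σ 0 := by rw [h, map_zero]
      exact σ.injective h3
    · intro h
      rw [h, map_zero]

end Cfsg.Agent.lead.S2531
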