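import Mathlib
import Cfsg.Agent.Lib_helper13_S2TrGeo
import Cfsg.Agent.Lib_lead_S2531x

/-! The common kernel of two independent dot-product functionals has `q ^ (n - 2)` elements. -/

set_option autoImplicit false

namespace Cfsg.Agent.helper13

open Matrix

section
variable {F : Type*} [Field F] [Finite F] {n : ℕ}

theorem s2tr_card_dot_zero_two (w w' : Fin n → F) (hw : w ≠ 0) (hind : ∀ c : F, w' ≠ c • w) :
    Set.ncard {v : Fin n → F | w ⬝ᵥ v = 0 ∧ w' ⬝ᵥ v = 0} * Nat.card F ^ 2 = Nat.card F ^ n := by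
  have h1 := s2tr_card_dot_zero w hw
  obtain ⟨v₀, hv₀, hv₀'⟩ : ∃ v₀ : Fin n → F, w ⬝ᵥ v₀ = 0 ∧ w' ⬝ᵥ v₀ ≠ 0 := by
    by_contra hcon
    push Not at hcon
    obtain ⟨c, hc⟩ := Cfsg.Agent.lead.S2531.prop_of_ker_le w w' hw hcon
    exact hind c hc
  obtain ⟨ψ, hψ⟩ : ∃ ψ : ↥(LinearMap.ker (s2trDot w)) →ₗ[F] F,
      ∀ v : ↥(LinearMap.ker (s2trDot w)), ψ v = w' ⬝ᵥ (v : Fin n → F) :=
    ⟨(s2trDot w').domRestrict (LinearMap.ker (s2trDot w)), fun v => rfl⟩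
  have hsurj : Function.Surjective ψ := by
    intro c
    refine ⟨(c / (w' ⬝ᵥ v₀)) • ⟨v₀, hv₀⟩, ?_⟩
    rw [map_smul, hψ, smul_eq_mul]
    exact div_mul_cancel₀ c hv₀'
  have h2 := Submodule.card_eq_card_quotient_mul_card (LinearMap.ker ψ)
  have h3 : Nat.card (↥(LinearMap.ker (s2trDot w)) ⧸ LinearMap.ker ψ) = Nat.card F :=
    Nat.card_congr (ψ.quotKerEquivOfSurjective hsurj).toEquiv
  have h4 : Nat.card ↥(LinearMap.ker (s2trDot w)) =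
      Set.ncard {v : Fin n → F | w ⬝ᵥ v = 0} := by
    rw [← Nat.card_coe_set_eq]
    rfl
  have h5 : Nat.card ↥(LinearMap.ker ψ) =
      Set.ncard {v : Fin n → F | w ⬝ᵥ v = 0 ∧ w' ⬝ᵥ v = 0} := by
    rw [← Nat.card_coe_set_eq]
    apply Nat.card_congr
    refine ⟨fun v => ⟨(v : ↥(LinearMap.ker (s2trDot w))), ?_⟩, fun v => ⟨⟨v.1, ?_⟩, ?_⟩, ?_, ?_⟩
    · have h6 : ψ v.1 = 0 := v.2
      rw [hψ] at h6
      exact ⟨v.1.2, h6⟩
    · exact v.2.1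
    · show ψ ⟨v.1, _⟩ = 0
      rw [hψ]
      exact v.2.2
    · intro v
      rfl
    · intro v
      rfl
  rw [h3, h4, h5] at h2
  rw [pow_two, ← mul_assoc, ← h2, h1]

end

end Cfsg.Agent.helper13
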