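import Mathlib

/-! A Sylow `p`-subgroup contained in its own commutator subgroup is trivial. -/

set_option autoImplicit false

namespace Cfsg.Agent.helper13.S4885x

open scoped commutatorElement

universe u

theorem perfect_nilpotent_subsingleton {H : Type u} [Group H] [Group.IsNilpotent H]
    (h : commutator H = ⊤) : Subsingleton H := by
  have hsolv : Group.IsSolvable H := inferInstance
  obtain ⟨k, hk⟩ := hsolv.solvable
  have hall : ∀ j : ℕ, derivedSeries H j = ⊤ := by
    intro j
    induction j with
    | zero => rfl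
    | succ j ih =>
      rw [derivedSeries_succ, ih, ← commutator_def, h]
  rw [hall k] at hk
  have h2 : Subsingleton (Subgroup H) := subsingleton_of_bot_eq_top hk.symm
  exact Subgroup.subsingleton_iff.mp h2

theorem sylow_bot {G : Type u} [Group G] [Finite G] (p : ℕ) [Fact p.Prime] (P : Sylow p G)
    (h : (P : Subgroup G) ≤ ⁅(P : Subgroup G), (P : Subgroup G)⁆) : ¬ p ∣ Nat.card G := by
  intro hdvd
  apply P.ne_bot_of_dvd_card hdvd
  have : Group.IsNilpotent ↥(P : Subgroup G) := P.isPGroup'.isNilpotent
  have h1 : commutator ↥(P : Subgroup G) = ⊤ := by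
    rw [eq_top_iff]
    intro x _
    have h2 : (x : G) ∈ ⁅(P : Subgroup G), (P : Subgroup G)⁆ := h x.2
    rw [← Subgroup.map_subtype_commutator] at h2
    obtain ⟨y, hy, hyx⟩ := Subgroup.mem_map.mp h2
    have h3 : y = x := Subtype.ext hyx
    rw [← h3]
    exact hy
  have := perfect_nilpotent_subsingleton h1
  rw [Subgroup.eq_bot_iff_forall]
  intro x hx
  have h4 : (⟨x, hx⟩ : ↥(P : Subgroup G)) = 1 := Subsingleton.elim _ _
  exact congrArg Subtype.val h4

end Cfsg.Agent.helper13.S4885x
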