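import Mathlib

set_option autoImplicit false

namespace Cfsg.Agent.helper18.Zsig

open Polynomial

/-- value of the `n`-th cyclotomic polynomial at the natural number `a`, as an integer -/
noncomputable def cyc (n a : ℕ) : ℤ := (cyclotomic n ℤ).eval (a : ℤ)

lemma cyc_cast (n a : ℕ) : ((cyc n a : ℤ) : ℝ) = (cyclotomic n ℝ).eval (a : ℝ) := by
  unfold cyc
  have := cyclotomic.eval_apply (a : ℤ) n (Int.castRingHom ℝ)
  simpa using this.symm

lemma cyc_pos (n a : ℕ) (ha : 1 < a) : 0 < cyc n a :=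
  cyclotomic_pos' n (by exact_mod_cast ha)

lemma cyc_mul_dvd (n a d : ℕ) (hd : d ∈ n.properDivisors) :
    ((a : ℤ) ^ d - 1) * cyc n a ∣ (a : ℤ) ^ n - 1 := by
  have h1 := X_pow_sub_one_mul_cyclotomic_dvd_X_pow_sub_one_of_dvd ℤ hd
  have h2 := Polynomial.eval_dvd (x := (a : ℤ)) h1
  simpa [cyc] using h2

lemma cyc_dvd (n a : ℕ) : cyc n a ∣ (a : ℤ) ^ n - 1 := by
  have h1 := cyclotomic.dvd_X_pow_sub_one n ℤ
  have h2 := Polynomial.eval_dvd (x := (a : ℤ)) h1
  simpa [cyc] using h2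

/-- Lemma B -/
lemma prime_eq_of_dvd (n a r q : ℕ) (ha : 1 < a) (hr : r.Prime) (hq : q.Prime) (hqn : q ∣ n)
    (hn : 0 < n) (hrc : (r : ℤ) ∣ cyc n a) (hrq : (r : ℤ) ∣ (a : ℤ) ^ (n / q) - 1) : r = q := by
  haveI : Fact r.Prime := ⟨hr⟩
  set b : ℤ := (a : ℤ) ^ (n / q) with hb
  have hnq : n / q * q = n := Nat.div_mul_cancel hqn
  have hnq0 : 0 < n / q := Nat.div_pos (Nat.le_of_dvd hn hqn) hq.pos
  have hbq : b ^ q = (a : ℤ) ^ n := by rw [hb, ← pow_mul, hnq]
  have hpd : n / q ∈ n.properDivisors := by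
    rw [Nat.mem_properDivisors]
    refine ⟨Nat.div_dvd_of_dvd hqn, ?_⟩
    exact Nat.div_lt_self hn hq.one_lt
  have h1 := cyc_mul_dvd n a (n / q) hpd
  rw [← hb, ← hbq, ← mul_geom_sum b q] at h1
  have hb1 : b - 1 ≠ 0 := by
    have : (1 : ℤ) < b := by
      rw [hb]
      exact one_lt_pow₀ (by exact_mod_cast ha) hnq0.ne'
    omega
  have h2 : cyc n a ∣ ∑ i ∈ Finset.range q, b ^ i := (mul_dvd_mul_iff_left hb1).1 h1
  have h3 : (r : ℤ) ∣ ∑ i ∈ Finset.range q, b ^ i := hrc.trans h2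
  have h4 : ((b : ℤ) : ZMod r) = 1 := by
    have := (ZMod.intCast_zmod_eq_zero_iff_dvd (b - 1) r).2 hrq
    push_cast at this
    exact sub_eq_zero.1 this
  have h5 := (ZMod.intCast_zmod_eq_zero_iff_dvd _ r).2 h3
  push_cast at h5
  rw [h4] at h5
  simp at h5
  have h6 : r ∣ q := (ZMod.natCast_eq_zero_iff q r).1 h5
  exact (Nat.prime_dvd_prime_iff_eq hr hq).1 h6

/-- Structure lemma: a non-primitive prime divisor `r` of `Φ_n(a)`. -/
lemma structure_of_nonprimitive (n a r k : ℕ) (ha : 1 < a) (hr : r.Prime)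
    (hrc : (r : ℤ) ∣ cyc n a) (hk0 : 0 < k) (hkn : k < n) (hrk : (r : ℤ) ∣ (a : ℤ) ^ k - 1) :
    ∃ d j : ℕ, 0 < d ∧ d ∣ r - 1 ∧ 1 ≤ j ∧ n = d * r ^ j ∧ (r : ℤ) ∣ (a : ℤ) ^ d - 1 ∧
      d = orderOf ((a : ZMod r)) := by
  haveI : Fact r.Prime := ⟨hr⟩
  have hn : 0 < n := by omega
  have han : ((a : ZMod r)) ^ n = 1 := by
    have := (ZMod.intCast_zmod_eq_zero_iff_dvd _ r).2 (hrc.trans (cyc_dvd n a))
    push_cast at this
    exact sub_eq_zero.1 this
  have hak : ((a : ZMod r)) ^ k = 1 := by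
    have := (ZMod.intCast_zmod_eq_zero_iff_dvd _ r).2 hrk
    push_cast at this
    exact sub_eq_zero.1 this
  have ha0 : (a : ZMod r) ≠ 0 := by
    intro h
    rw [h, zero_pow hn.ne'] at han
    exact zero_ne_one han
  set d := orderOf ((a : ZMod r)) with hd
  have hdn : d ∣ n := orderOf_dvd_of_pow_eq_one han
  have hdk : d ∣ k := orderOf_dvd_of_pow_eq_one hak
  have hd0 : 0 < d := Nat.pos_of_dvd_of_pos hdn hn
  have hdlt : d < n := lt_of_le_of_lt (Nat.le_of_dvd hk0 hdk) hkn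
  have hdr : d ∣ r - 1 := ZMod.orderOf_dvd_card_sub_one ha0
  obtain ⟨e, he⟩ := hdn
  have he1 : 1 < e := by
    by_contra hcon
    have : e = 0 ∨ e = 1 := by omega
    rcases this with h | h
    · subst h; omega
    · subst h; omega
  have hprime : ∀ {q : ℕ}, q.Prime → q ∣ e → q = r := by
    intro q hq hqe
    obtain ⟨f, hf⟩ := hqe
    have hqn : q ∣ n := ⟨d * f, by rw [he, hf]; ring⟩
    have hnq : n / q = d * f := by
      apply Nat.div_eq_of_eq_mul_right hq.pos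
      rw [he, hf]; ring
    have : (r : ℤ) ∣ (a : ℤ) ^ (n / q) - 1 := by
      apply (ZMod.intCast_zmod_eq_zero_iff_dvd _ r).1
      push_cast
      rw [hnq, pow_mul, hd, pow_orderOf_eq_one, one_pow, sub_self]
    exact (prime_eq_of_dvd n a r q ha hr hq hqn hn hrc this).symm
  have hepow := Nat.eq_prime_pow_of_unique_prime_dvd (by omega : e ≠ 0) hprime
  refine ⟨d, e.primeFactorsList.length, hd0, hdr, ?_, ?_, ?_, rfl⟩
  · by_contra hcon
    have h0 : e.primeFactorsList.length = 0 := by omega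
    rw [h0, pow_zero] at hepow
    omega
  · rw [he, ← hepow]
  · apply (ZMod.intCast_zmod_eq_zero_iff_dvd _ r).1
    push_cast
    rw [hd, pow_orderOf_eq_one, sub_self]


/-- in the structure `n = d * r ^ j` with `d ∣ r - 1`, every prime divisor of `n` is `≤ r`. -/
lemma prime_le_of_structure (n r d j q : ℕ) (hr : r.Prime) (hd0 : 0 < d) (hdr : d ∣ r - 1)
    (hn : n = d * r ^ j) (hq : q.Prime) (hqn : q ∣ n) : q ≤ r := by
  rw [hn] at hqn
  rcases (Nat.Prime.dvd_mul hq).1 hqn with h | h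
  · have h1 : q ≤ d := Nat.le_of_dvd hd0 h
    have h2 : d ≤ r - 1 := Nat.le_of_dvd (by have := hr.two_le; omega) hdr
    omega
  · have := hq.dvd_of_dvd_pow h
    exact Nat.le_of_dvd hr.pos this

/-- `r ^ 2 ∤ Φ_n(a)` for an odd non-primitive prime divisor. -/
lemma sq_not_dvd_odd (n a r : ℕ) (ha : 1 < a) (hr : r.Prime) (hodd : Odd r) (hrn : r ∣ n)
    (hn : 0 < n) (hrb : (r : ℤ) ∣ (a : ℤ) ^ (n / r) - 1) : ¬ ((r : ℤ) ^ 2 ∣ cyc n a) := by
  haveI : Fact r.Prime := ⟨hr⟩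
  intro hsq
  set b : ℕ := a ^ (n / r) with hb
  have hnr : n / r * r = n := Nat.div_mul_cancel hrn
  have hnr0 : 0 < n / r := Nat.div_pos (Nat.le_of_dvd hn hrn) hr.pos
  have hb1 : 1 < b := Nat.one_lt_pow hnr0.ne' ha
  have hpd : n / r ∈ n.properDivisors := by
    rw [Nat.mem_properDivisors]
    exact ⟨Nat.div_dvd_of_dvd hrn, Nat.div_lt_self hn hr.one_lt⟩
  have h1 := cyc_mul_dvd n a (n / r) hpd
  have hbr : ((a : ℤ) ^ n - 1) = ((b ^ r - 1 : ℕ) : ℤ) := by
    rw [Nat.cast_sub (Nat.one_le_pow _ _ (by omega)), hb]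
    push_cast
    rw [← pow_mul, hnr]
  have hb' : ((a : ℤ) ^ (n / r) - 1) = ((b - 1 : ℕ) : ℤ) := by
    rw [Nat.cast_sub hb1.le, hb]
    push_cast
    rfl
  have hrb' : r ∣ b - 1 := by
    rw [hb'] at hrb
    exact Int.natCast_dvd_natCast.1 hrb
  have hnb : ¬ r ∣ b := by
    intro h
    have : r ∣ b - (b - 1) := Nat.dvd_sub h hrb'
    have h2 : b - (b - 1) = 1 := by omega
    rw [h2] at this
    exact hr.one_lt.ne' (Nat.dvd_one.1 this)
  have hlte := padicValNat.pow_sub_pow (p := r) hodd hb1 hrb' hnb (n := r) hr.ne_zero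
  rw [one_pow, padicValNat_self] at hlte
  set v := padicValNat r (b - 1) with hv
  have h2 : (r : ℤ) ^ v ∣ ((b - 1 : ℕ) : ℤ) := by
    have : r ^ v ∣ b - 1 := pow_padicValNat_dvd
    exact_mod_cast Int.natCast_dvd_natCast.2 this
  have h3 : (r : ℤ) ^ (v + 2) ∣ ((b ^ r - 1 : ℕ) : ℤ) := by
    rw [← hbr]
    refine dvd_trans ?_ h1
    rw [pow_add, hb']
    exact mul_dvd_mul h2 hsq
  have h4 : r ^ (v + 2) ∣ b ^ r - 1 := by
    have : ((r ^ (v + 2) : ℕ) : ℤ) ∣ ((b ^ r - 1 : ℕ) : ℤ) := by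
      push_cast
      exact h3
    exact Int.natCast_dvd_natCast.1 this
  have hne : b ^ r - 1 ≠ 0 := by
    have : 1 < b ^ r := Nat.one_lt_pow hr.ne_zero hb1
    omega
  have h5 := (padicValNat_dvd_iff_le (p := r) hne).1 h4
  omega

/-- `4 ∤ Φ_n(a)` when `4 ∣ n`. -/
lemma four_not_dvd (n a : ℕ) (ha : 1 < a) (h4n : 4 ∣ n) (hn : 0 < n) :
    ¬ ((2 : ℤ) ^ 2 ∣ cyc n a) := by
  intro hsq
  obtain ⟨m, hm⟩ := h4n
  have hm0 : 0 < m := by omega
  set c : ℕ := a ^ m with hc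
  have hpd : 2 * m ∈ n.properDivisors := by
    rw [Nat.mem_properDivisors]
    exact ⟨⟨2, by omega⟩, by omega⟩
  have h1 := cyc_mul_dvd n a (2 * m) hpd
  have e1 : (a : ℤ) ^ (2 * m) = ((c : ℤ)) ^ 2 := by
    rw [hc]; push_cast; rw [← pow_mul, mul_comm]
  have e2 : (a : ℤ) ^ n = ((c : ℤ)) ^ 4 := by
    rw [hc, hm]; push_cast; rw [← pow_mul, mul_comm]
  rw [e1, e2] at h1
  have e3 : ((c : ℤ)) ^ 4 - 1 = ((c : ℤ) ^ 2 - 1) * ((c : ℤ) ^ 2 + 1) := by ring
  rw [e3] at h1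
  have hc1 : 1 < c := Nat.one_lt_pow hm0.ne' ha
  have hne : ((c : ℤ) ^ 2 - 1) ≠ 0 := by
    have : (1 : ℤ) < (c : ℤ) ^ 2 := one_lt_pow₀ (by exact_mod_cast hc1) (by norm_num)
    omega
  have h2 : cyc n a ∣ (c : ℤ) ^ 2 + 1 := (mul_dvd_mul_iff_left hne).1 h1
  have h3 : ((4 : ℕ) : ℤ) ∣ ((c ^ 2 + 1 : ℕ) : ℤ) := by
    push_cast
    have : (2 : ℤ) ^ 2 = 4 := by norm_num
    rw [← this]
    exact hsq.trans h2
  have h4 : 4 ∣ c ^ 2 + 1 := Int.natCast_dvd_natCast.1 h3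
  have h5 : c ^ 2 % 4 = 0 ∨ c ^ 2 % 4 = 1 := by
    rw [Nat.pow_mod]
    have : c % 4 < 4 := Nat.mod_lt _ (by norm_num)
    interval_cases (c % 4) <;> simp
  omega


lemma cyc_expand_dvd (m a r : ℕ) (hr : r.Prime) (hrm : r ∣ m) :
    cyc (m * r) a = cyc m (a ^ r) := by
  unfold cyc
  rw [← cyclotomic_expand_eq_cyclotomic hr hrm ℤ, expand_eval]
  push_cast
  rfl

lemma cyc_expand_not_dvd (m a r : ℕ) (hr : r.Prime) (hrm : ¬ r ∣ m) :
    cyc m (a ^ r) = cyc (m * r) a * cyc m a := by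
  unfold cyc
  rw [← eval_mul, ← cyclotomic_expand_eq_cyclotomic_mul hr hrm ℤ, expand_eval]
  push_cast
  rfl

lemma cyc_lower (m a : ℕ) (ha : 1 < a) :
    (((a - 1 : ℕ) : ℝ)) ^ m.totient ≤ ((cyc m a : ℤ) : ℝ) := by
  rw [cyc_cast, Nat.cast_sub ha.le]
  have := sub_one_pow_totient_le_cyclotomic_eval (q := (a : ℝ)) (by exact_mod_cast ha) m
  simpa using this

lemma cyc_upper (m a : ℕ) (ha : 1 < a) :
    ((cyc m a : ℤ) : ℝ) ≤ (((a + 1 : ℕ) : ℝ)) ^ m.totient := by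
  rw [cyc_cast]
  have := cyclotomic_eval_le_add_one_pow_totient (q := (a : ℝ)) (by exact_mod_cast ha) m
  simpa using this

lemma cyc_lower_strict (m a : ℕ) (ha : 1 < a) (hm : 2 ≤ m) :
    (((a - 1 : ℕ) : ℝ)) ^ m.totient < ((cyc m a : ℤ) : ℝ) := by
  rw [cyc_cast, Nat.cast_sub ha.le]
  have := sub_one_pow_totient_lt_cyclotomic_eval (q := (a : ℝ)) hm (by exact_mod_cast ha)
  simpa using this

/-- bound when `r ^ 2 ∣ n` -/
lemma lt_cyc_of_dvd (m a r : ℕ) (ha : 1 < a) (hr : r.Prime) (hrm : r ∣ m) (hm : 0 < m) :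
    (r : ℤ) < cyc (m * r) a := by
  rw [cyc_expand_dvd m a r hr hrm]
  have har : 1 < a ^ r := Nat.one_lt_pow hr.ne_zero ha
  have hm2 : 2 ≤ m := le_trans hr.two_le (Nat.le_of_dvd hm hrm)
  have h1 := cyc_lower_strict m (a ^ r) har hm2
  have hphi : 0 < m.totient := Nat.totient_pos.2 hm
  have h3 : r + 1 ≤ a ^ r - 1 + 1 := by
    have h31 : r < 2 ^ r := Nat.lt_two_pow_self
    have h32 : 2 ^ r ≤ a ^ r := Nat.pow_le_pow_left ha r
    omega
  have h4 : a ^ r - 1 ≤ (a ^ r - 1) ^ m.totient :=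
    Nat.le_self_pow hphi.ne' _
  have h5 : ((r : ℕ) : ℝ) ≤ (((a ^ r - 1 : ℕ) : ℝ)) ^ m.totient := by
    have : r ≤ (a ^ r - 1) ^ m.totient := by omega
    exact_mod_cast this
  have h6 : ((r : ℤ) : ℝ) < ((cyc m (a ^ r) : ℤ) : ℝ) := by
    have : ((r : ℤ) : ℝ) = ((r : ℕ) : ℝ) := by push_cast; rfl
    rw [this]
    exact lt_of_le_of_lt h5 h1
  exact_mod_cast h6

/-- bound when `r ∤ m`, `n = m * r`, outside the exceptional cases. -/
lemma lt_cyc_of_not_dvd (m a r : ℕ) (ha : 1 < a) (hr : r.Prime) (hrm : ¬ r ∣ m) (hm : 0 < m)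
    (hex : r * (a + 1) < a ^ r - 1) :
    (r : ℤ) < cyc (m * r) a := by
  by_contra hcon
  have hle : cyc (m * r) a ≤ (r : ℤ) := not_lt.1 hcon
  have har : 1 < a ^ r := Nat.one_lt_pow hr.ne_zero ha
  have h1 := cyc_lower m (a ^ r) har
  have h2 := cyc_upper m a ha
  have h3 := cyc_expand_not_dvd m a r hr hrm
  have hphi : 0 < m.totient := Nat.totient_pos.2 hm
  have hpos1 : 0 < cyc m a := cyc_pos m a ha
  have hpos2 : 0 < cyc (m * r) a := cyc_pos _ a ha
  -- nat inequality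
  have hnat : r * (a + 1) ^ m.totient < (a ^ r - 1) ^ m.totient := by
    obtain ⟨t, ht⟩ : ∃ t, m.totient = t + 1 := ⟨m.totient - 1, by omega⟩
    rw [ht, pow_succ, pow_succ]
    have hB : a + 1 ≤ a ^ r - 1 := by
      have : a + 1 ≤ r * (a + 1) := Nat.le_mul_of_pos_left _ hr.pos
      omega
    have h5 : (a + 1) ^ t ≤ (a ^ r - 1) ^ t := Nat.pow_le_pow_left hB t
    calc r * ((a + 1) ^ t * (a + 1)) = (a + 1) ^ t * (r * (a + 1)) := by ring
      _ < (a ^ r - 1) ^ t * (a ^ r - 1) := by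
        apply Nat.mul_lt_mul_of_le_of_lt h5 hex
        exact Nat.pow_pos (by omega)
  have hreal : ((r : ℕ) : ℝ) * (((a + 1 : ℕ) : ℝ)) ^ m.totient
      < (((a ^ r - 1 : ℕ) : ℝ)) ^ m.totient := by exact_mod_cast hnat
  have h6 : ((cyc m (a ^ r) : ℤ) : ℝ) = ((cyc (m * r) a : ℤ) : ℝ) * ((cyc m a : ℤ) : ℝ) := by
    rw [h3]; push_cast; rfl
  have h7 : ((cyc (m * r) a : ℤ) : ℝ) ≤ ((r : ℕ) : ℝ) := by
    have : ((cyc (m * r) a : ℤ) : ℝ) ≤ ((r : ℤ) : ℝ) := by exact_mod_cast hle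
    simpa using this
  have h8 : (0 : ℝ) < ((cyc m a : ℤ) : ℝ) := by exact_mod_cast hpos1
  have h9 : (0 : ℝ) < ((cyc (m * r) a : ℤ) : ℝ) := by exact_mod_cast hpos2
  have h10 : ((cyc (m * r) a : ℤ) : ℝ) * ((cyc m a : ℤ) : ℝ)
      ≤ ((r : ℕ) : ℝ) * (((a + 1 : ℕ) : ℝ)) ^ m.totient :=
    mul_le_mul h7 h2 h8.le (by positivity)
  linarith


lemma exc_ineq (a r : ℕ) (ha : 2 ≤ a) (hr : 2 ≤ r) (h2 : ¬ (r = 2 ∧ a ≤ 3))
    (h3 : ¬ (r = 3 ∧ a = 2)) : r * (a + 1) < a ^ r - 1 := by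
  have key : ∀ s : ℕ, (s + 4) * (a + 1) + 2 ≤ a ^ (s + 4) := by
    intro s
    induction s with
    | zero =>
      have h8 : 8 ≤ a ^ 3 := by
        calc 8 = 2 ^ 3 := by norm_num
          _ ≤ a ^ 3 := Nat.pow_le_pow_left ha 3
      have : a ^ (0 + 4) = a ^ 3 * a := by ring
      rw [this]
      nlinarith
    | succ s ih =>
      have : a ^ (s + 1 + 4) = a ^ (s + 4) * a := by ring
      rw [this]
      have h1 : a ^ (s + 4) * 2 ≤ a ^ (s + 4) * a := Nat.mul_le_mul_left _ ha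
      have hX : a + 1 ≤ (s + 4) * (a + 1) := Nat.le_mul_of_pos_left _ (by omega)
      have h3 : (s + 1 + 4) * (a + 1) = (s + 4) * (a + 1) + (a + 1) := by ring
      rw [h3]
      omega
  rcases Nat.lt_or_ge r 4 with hlt | hge
  · have : r = 2 ∨ r = 3 := by omega
    rcases this with rfl | rfl
    · have ha4 : 4 ≤ a := by
        by_contra hcon
        exact h2 ⟨rfl, by omega⟩
      have : 2 * (a + 1) + 2 ≤ a ^ 2 := by nlinarith
      omega
    · have ha3 : 3 ≤ a := by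
        by_contra hcon
        exact h3 ⟨rfl, by omega⟩
      have h9 : 9 ≤ a ^ 2 := by nlinarith
      have : 3 * (a + 1) + 2 ≤ a ^ 3 := by
        have : a ^ 3 = a ^ 2 * a := by ring
        rw [this]
        nlinarith
      omega
  · obtain ⟨s, rfl⟩ : ∃ s, r = s + 4 := ⟨r - 4, by omega⟩
    have := key s
    omega

theorem zsigmondy (a n : ℕ) (ha : 1 < a) (hn : 1 < n) (h6 : ¬ (a = 2 ∧ n = 6))
    (h2 : ¬ (n = 2 ∧ ∃ m : ℕ, a + 1 = 2 ^ m)) :
    ∃ r : ℕ, r.Prime ∧ r ∣ a ^ n - 1 ∧ ∀ k : ℕ, 0 < k → k < n → ¬ r ∣ a ^ k - 1 := by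
  rcases Nat.lt_or_ge 2 n with hn2 | hn2
  swap
  · -- n = 2
    have hn' : n = 2 := by omega
    subst hn'
    have hnot : ¬ ∃ m, a + 1 = 2 ^ m := fun h => h2 ⟨rfl, h⟩
    have hex : ∃ r : ℕ, r.Prime ∧ r ∣ a + 1 ∧ r ≠ 2 := by
      by_contra hcon
      push Not at hcon
      apply hnot
      exact ⟨_, Nat.eq_prime_pow_of_unique_prime_dvd (by omega) (fun {d} hd hda => hcon d hd hda)⟩
    obtain ⟨r, hr, hra, hr2⟩ := hex
    refine ⟨r, hr, ?_, ?_⟩
    · have : a ^ 2 - 1 = (a + 1) * (a - 1) := by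
        obtain ⟨b, rfl⟩ : ∃ b, a = b + 1 := ⟨a - 1, by omega⟩
        apply Nat.sub_eq_of_eq_add
        simp only [Nat.add_sub_cancel]
        ring
      rw [this]
      exact Dvd.dvd.mul_right hra _
    · intro k hk0 hk2 hrk
      have hk1 : k = 1 := by omega
      subst hk1
      rw [pow_one] at hrk
      have : r ∣ (a + 1) - (a - 1) := Nat.dvd_sub hra hrk
      have h22 : (a + 1) - (a - 1) = 2 := by omega
      rw [h22] at this
      exact hr2 ((Nat.prime_dvd_prime_iff_eq hr Nat.prime_two).1 this)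
  · -- n > 2
    by_contra hcon
    push Not at hcon
    have hn0 : 0 < n := by omega
    have hpos : 0 < cyc n a := cyc_pos n a ha
    set P : ℕ := (cyc n a).natAbs with hP
    have hPc : (P : ℤ) = cyc n a := by
      rw [hP]; exact Int.natAbs_of_nonneg hpos.le
    have hP1 : 1 < P := by
      have h1 := sub_one_pow_totient_lt_natAbs_cyclotomic_eval (n := n) (q := a) hn ha.ne'
      have h2 : 1 ≤ (a - 1) ^ n.totient := Nat.one_le_pow _ _ (by omega)
      exact lt_of_le_of_lt h2 h1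
    have hcast : ∀ k : ℕ, ((a ^ k - 1 : ℕ) : ℤ) = (a : ℤ) ^ k - 1 := by
      intro k
      rw [Nat.cast_sub (Nat.one_le_pow _ _ (by omega))]
      push_cast
      rfl
    have key : ∀ r : ℕ, r.Prime → r ∣ P →
        (r : ℤ) ∣ cyc n a ∧ ∃ d j : ℕ, 0 < d ∧ d ∣ r - 1 ∧ 1 ≤ j ∧ n = d * r ^ j ∧
          (r : ℤ) ∣ (a : ℤ) ^ d - 1 := by
      intro r hr hrP
      have hrc : (r : ℤ) ∣ cyc n a := Int.natCast_dvd.2 hrP
      have hran : r ∣ a ^ n - 1 := by
        have : (r : ℤ) ∣ ((a ^ n - 1 : ℕ) : ℤ) := by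
          rw [hcast]; exact hrc.trans (cyc_dvd n a)
        exact Int.natCast_dvd_natCast.1 this
      obtain ⟨k, hk0, hkn, hrk⟩ := hcon r hr hran
      have hrk' : (r : ℤ) ∣ (a : ℤ) ^ k - 1 := by
        rw [← hcast]; exact Int.natCast_dvd_natCast.2 hrk
      obtain ⟨d, j, hd0, hdr, hj, hndj, hrd, -⟩ :=
        structure_of_nonprimitive n a r k ha hr hrc hk0 hkn hrk'
      exact ⟨hrc, d, j, hd0, hdr, hj, hndj, hrd⟩
    obtain ⟨r, hr, hrP⟩ := Nat.exists_prime_and_dvd hP1.ne'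
    obtain ⟨hrc, d, j, hd0, hdr, hj, hndj, hrd⟩ := key r hr hrP
    have hrn : r ∣ n := by
      rw [hndj]
      exact Dvd.dvd.mul_left (dvd_pow_self r (by omega)) d
    -- uniqueness
    have huniq : ∀ {q : ℕ}, q.Prime → q ∣ P → q = r := by
      intro q hq hqP
      obtain ⟨-, d', j', hd0', hdr', hj', hndj', -⟩ := key q hq hqP
      have hqn : q ∣ n := by
        rw [hndj']
        exact Dvd.dvd.mul_left (dvd_pow_self q (by omega)) d'
      have h1 := prime_le_of_structure n r d j q hr hd0 hdr hndj hq hqn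
      have h2 := prime_le_of_structure n q d' j' r hq hd0' hdr' hndj' hr hrn
      omega
    have hPpow := Nat.eq_prime_pow_of_unique_prime_dvd (by omega : P ≠ 0) huniq
    set e := P.primeFactorsList.length with he
    -- n / r
    have hnr : n / r = d * r ^ (j - 1) := by
      apply Nat.div_eq_of_eq_mul_right hr.pos
      rw [hndj]
      obtain ⟨t, rfl⟩ : ∃ t, j = t + 1 := ⟨j - 1, by omega⟩
      simp only [Nat.add_sub_cancel]
      ring
    have hrb : (r : ℤ) ∣ (a : ℤ) ^ (n / r) - 1 := by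
      rw [hnr, pow_mul]
      have := sub_dvd_pow_sub_pow ((a : ℤ) ^ d) 1 (r ^ (j - 1))
      rw [one_pow] at this
      exact hrd.trans this
    -- r^2 does not divide
    have hsq : ¬ ((r : ℤ) ^ 2 ∣ cyc n a) := by
      rcases hr.eq_two_or_odd' with h | h
      · subst h
        have hd1 : d = 1 := by
          have : d ∣ 1 := by simpa using hdr
          exact Nat.dvd_one.1 this
        have hj2 : 2 ≤ j := by
          by_contra hcon2
          have : j = 1 := by omega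
          rw [this, hd1] at hndj
          omega
        have h4n : 4 ∣ n := by
          rw [hndj, hd1, one_mul]
          have : (4 : ℕ) = 2 ^ 2 := by norm_num
          rw [this]
          exact pow_dvd_pow 2 hj2
        exact_mod_cast four_not_dvd n a ha h4n hn0
      · exact sq_not_dvd_odd n a r ha hr h hrn hn0 hrb
    have he1 : e ≤ 1 := by
      by_contra hcon2
      have h2e : 2 ≤ e := by omega
      apply hsq
      rw [← hPc, hPpow]
      push_cast
      exact pow_dvd_pow _ h2e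
    have hPle : P ≤ r := by
      rw [hPpow]
      calc r ^ e ≤ r ^ 1 := Nat.pow_le_pow_right hr.pos he1
        _ = r := pow_one r
    have hlt_contra : ¬ ((r : ℤ) < cyc n a) := by
      intro h
      rw [← hPc] at h
      have : r < P := by exact_mod_cast h
      omega
    have hnm : n = n / r * r := (Nat.div_mul_cancel hrn).symm
    have hm0 : 0 < n / r := Nat.div_pos (Nat.le_of_dvd hn0 hrn) hr.pos
    by_cases hrm : r ∣ n / r
    · apply hlt_contra
      rw [hnm]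
      exact lt_cyc_of_dvd (n / r) a r ha hr hrm hm0
    · have hj1 : j = 1 := by
        by_contra hcon2
        apply hrm
        rw [hnr]
        exact Dvd.dvd.mul_left (dvd_pow_self r (by omega)) d
      rw [hj1, pow_one] at hndj
      by_cases hex2 : r = 2 ∧ a ≤ 3
      · obtain ⟨rfl, -⟩ := hex2
        have hd1 : d = 1 := by
          have : d ∣ 1 := by simpa using hdr
          exact Nat.dvd_one.1 this
        rw [hd1] at hndj
        omega
      · by_cases hex3 : r = 3 ∧ a = 2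
        · obtain ⟨rfl, rfl⟩ := hex3
          have hd2 : d ∣ 2 := by simpa using hdr
          have hd12 : d = 1 ∨ d = 2 := by
            have := Nat.le_of_dvd (by norm_num) hd2
            omega
          rcases hd12 with h | h
          · subst h
            norm_num at hrd
          · subst h
            exact h6 ⟨rfl, by omega⟩
        · apply hlt_contra
          rw [hnm]
          exact lt_cyc_of_not_dvd (n / r) a r ha hr hrm hm0
            (exc_ineq a r ha hr.two_le hex2 hex3)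

end Cfsg.Agent.helper18.Zsig
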