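import Mathlib
import Cfsg.Agent.S2904

/-! Elements of primitive prime order in `GL_n(q)` have irreducible minimal polynomial. -/

set_option autoImplicit false

namespace Cfsg.Agent.helper13

open Module Polynomial

section singer1

/-- a prime power which is one less than a power of two is a prime. -/
theorem prime_pow_add_one_two_pow (p k m : ℕ) (hp : p.Prime) (hk : 0 < k) (h : p ^ k + 1 = 2 ^ m) :
    k = 1 := by
  have hp2 : 2 ≤ p := hp.two_le
  have hpk : 2 ≤ p ^ k := le_trans hp2 (Nat.le_self_pow (by omega) p)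
  have hm2 : 2 ≤ m := by
    by_contra hm
    have : m = 0 ∨ m = 1 := by omega
    rcases this with rfl | rfl
    · rw [pow_zero] at h; omega
    · rw [pow_one] at h; omega
  have hpodd : Odd p := by
    rcases hp.eq_two_or_odd' with rfl | h1
    · exfalso
      have h1 : Even (2 ^ k) := (Nat.even_pow' (by omega)).mpr even_two
      have h2 : Even (2 ^ m) := (Nat.even_pow' (by omega)).mpr even_two
      rw [← h] at h2
      have := (Nat.even_add_one).mp h2
      exact this h1
    · exact h1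
  rcases Nat.even_or_odd k with hke | hko
  · exfalso
    obtain ⟨j, rfl⟩ := hke
    have h4 : 4 ∣ 2 ^ m := by
      obtain ⟨t, rfl⟩ : ∃ t, m = 2 + t := ⟨m - 2, by omega⟩
      rw [pow_add]
      exact Dvd.intro _ rfl
    have hodd : Odd (p ^ j) := hpodd.pow
    obtain ⟨t, ht⟩ := hodd
    have : p ^ (j + j) = 4 * (t * t + t) + 1 := by
      rw [pow_add, ht]; ring
    rw [← h, this] at h4
    omega
  · have hdvd : p + 1 ∣ 2 ^ m := by
      have := Odd.nat_add_dvd_pow_add_pow p 1 hko
      rwa [one_pow, h] at this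
    obtain ⟨j, hjm, hj⟩ := (Nat.dvd_prime_pow Nat.prime_two).mp hdvd
    -- p ^ 2 ≡ 1 mod 2^(j+1)
    have hj1 : 1 ≤ j := by
      by_contra hj0
      have : j = 0 := by omega
      rw [this, pow_zero] at hj
      omega
    have hsq : p ^ 2 ≡ 1 [MOD 2 ^ (j + 1)] := by
      have h1 : p ^ 2 = (p - 1) * (p + 1) + 1 := by
        obtain ⟨t, rfl⟩ : ∃ t, p = t + 1 := ⟨p - 1, by omega⟩
        simp only [Nat.add_sub_cancel]
        ring
      have h2 : 2 ^ (j + 1) ∣ (p - 1) * (p + 1) := by
        rw [hj, pow_succ, mul_comm (2 ^ j) 2]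
        apply mul_dvd_mul _ (dvd_refl _)
        obtain ⟨t, ht⟩ := hpodd
        exact ⟨t, by omega⟩
      rw [h1]
      have : (p - 1) * (p + 1) ≡ 0 [MOD 2 ^ (j + 1)] := (Nat.modEq_zero_iff_dvd).mpr h2
      simpa using this.add_right 1
    obtain ⟨t, rfl⟩ := hko
    have hpk' : p ^ (2 * t + 1) ≡ p [MOD 2 ^ (j + 1)] := by
      have e : p ^ (2 * t + 1) = (p ^ 2) ^ t * p := by rw [pow_succ, pow_mul]
      rw [e]
      have := (hsq.pow t).mul_right p
      simpa using this
    have h3 : p ^ (2 * t + 1) + 1 ≡ p + 1 [MOD 2 ^ (j + 1)] := hpk'.add_right 1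
    rw [h, hj] at h3
    by_contra hne
    have hlt : j < m := by
      rcases Nat.lt_or_ge j m with h4 | h4
      · exact h4
      · exfalso
        have hjm' : j = m := by omega
        rw [hjm'] at hj
        rw [← hj] at h
        have h5 : p ^ (2 * t + 1) = p ^ 1 := by rw [pow_one]; omega
        have := Nat.pow_right_injective hp2 h5
        omega
    have h5 : 2 ^ (j + 1) ∣ 2 ^ m := pow_dvd_pow 2 (by omega)
    have h6 : 2 ^ m ≡ 0 [MOD 2 ^ (j + 1)] := (Nat.modEq_zero_iff_dvd).mpr h5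
    have h7 : 2 ^ j ≡ 0 [MOD 2 ^ (j + 1)] := h3.symm.trans h6
    have h8 := (Nat.modEq_zero_iff_dvd).mp h7
    have h9 := Nat.le_of_dvd (by positivity) h8
    have : 2 ^ j < 2 ^ (j + 1) := Nat.pow_lt_pow_right (by omega) (by omega)
    omega

/-- the multiplicative order modulo a primitive prime divisor. -/
theorem orderOf_unit_of_ppd (a n l : ℕ) (hn : 0 < n) (hl : l.Prime) (hcop : a.Coprime l)
    (hdvd : l ∣ a ^ n - 1) (hnd : ∀ k : ℕ, 0 < k → k < n → ¬ l ∣ a ^ k - 1) :
    orderOf (ZMod.unitOfCoprime a hcop) = n := by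
  haveI : Fact l.Prime := ⟨hl⟩
  have ha0 : 0 < a := by
    rcases Nat.eq_zero_or_pos a with rfl | h
    · exfalso
      rw [Nat.coprime_zero_left] at hcop
      exact hl.one_lt.ne' hcop
    · exact h
  have key : ∀ k : ℕ, (ZMod.unitOfCoprime a hcop) ^ k = 1 ↔ l ∣ a ^ k - 1 := by
    intro k
    rw [Units.ext_iff, Units.val_pow_eq_pow_val, ZMod.coe_unitOfCoprime, Units.val_one,
      ← ZMod.natCast_eq_zero_iff (a ^ k - 1) l, Nat.cast_sub (Nat.one_le_pow _ _ ha0), Nat.cast_pow,
      Nat.cast_one, sub_eq_zero]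
  rw [orderOf_eq_iff hn]
  refine ⟨(key n).mpr hdvd, fun k hk hk0 h => hnd k hk0 hk ((key k).mp h)⟩

end singer1

end Cfsg.Agent.helper13
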