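import Mathlib
import Cfsg.Agent.Lib_helper13_Singer1

/-! Elements of primitive prime order in `GL_n(q)` have irreducible minimal polynomial. -/

set_option autoImplicit false

namespace Cfsg.Agent.helper13

open Module Polynomial

section singer2
variable {F V : Type*} [Field F] [Fintype F] [AddCommGroup V] [Module F V] [FiniteDimensional F V]

theorem minpoly_irreducible_of_ppd (n l : ℕ) (hn : 0 < n) (hdim : finrank F V = n) (hl : l.Prime)
    (hdvd : l ∣ Fintype.card F ^ n - 1)
    (hnd : ∀ k : ℕ, 0 < k → k < n → ¬ l ∣ Fintype.card F ^ k - 1)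
    (u : Module.End F V) (hul : u ^ l = 1) (hu1 : u ≠ 1) :
    Irreducible (minpoly F u) ∧ (minpoly F u).natDegree = n := by
  classical
  haveI : Nontrivial V := Module.nontrivial_of_finrank_pos (R := F) (by omega)
  obtain ⟨p, hp⟩ := CharP.exists F
  haveI := hp
  haveI : Fact p.Prime := ⟨CharP.char_is_prime F p⟩
  haveI : Fact l.Prime := ⟨hl⟩
  obtain ⟨f, hpp, hcard⟩ := FiniteField.card F p
  have hq1 : 1 < Fintype.card F := Fintype.one_lt_card
  have hne : p ≠ l := by
    rintro rfl
    have h1 : p ∣ Fintype.card F ^ n := by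
      rw [hcard]
      exact dvd_pow (dvd_pow_self p f.ne_zero) (by omega)
    have h2 : 1 ≤ Fintype.card F ^ n := Nat.one_le_pow _ _ (by omega)
    have h3 : p ∣ Fintype.card F ^ n - (Fintype.card F ^ n - 1) := Nat.dvd_sub h1 hdvd
    have h4 : Fintype.card F ^ n - (Fintype.card F ^ n - 1) = 1 := by omega
    rw [h4] at h3
    exact hpp.one_lt.ne' (Nat.dvd_one.mp h3)
  have hcop : p.Coprime l := (Nat.coprime_primes hpp hl).mpr hne
  have hcyc : cyclotomic l F * (X - 1) = X ^ l - 1 := cyclotomic_prime_mul_X_sub_one F l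
  have hint : IsIntegral F u := Algebra.IsIntegral.isIntegral u
  have hm0 : minpoly F u ≠ 0 := minpoly.ne_zero hint
  have hfdvd : minpoly F u ∣ cyclotomic l F * (X - 1) := by
    rw [hcyc]
    apply minpoly.dvd
    rw [map_sub, map_pow, aeval_X, map_one, hul, sub_self]
  have hdeg : (minpoly F u).natDegree ≤ n := by
    have h1 := LinearMap.minpoly_dvd_charpoly u
    have h2 := natDegree_le_of_dvd h1 (LinearMap.charpoly_monic u).ne_zero
    rwa [LinearMap.charpoly_natDegree, hdim] at h2
  have key : ∀ P : F[X], Irreducible P → P ∣ cyclotomic l F → P.natDegree = n := by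
    intro P hP hPd
    rw [natDegree_of_dvd_cyclotomic_of_irreducible hcard hcop hPd hP]
    apply orderOf_unit_of_ppd _ n l hn hl
    · rw [← hcard]; exact hdvd
    · rw [← hcard]; exact hnd
  have hirr1 : Irreducible (X - 1 : F[X]) := by
    have := irreducible_X_sub_C (1 : F)
    rwa [map_one] at this
  have hX1 : (X - 1 : F[X]) ≠ 0 := hirr1.ne_zero
  by_cases hX : (X - 1 : F[X]) ∣ minpoly F u
  · exfalso
    obtain ⟨g, hg⟩ := hX
    have hg0 : g ≠ 0 := by
      rintro rfl
      rw [mul_zero] at hg
      exact hm0 hg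
    have hgd : g ∣ cyclotomic l F := by
      rw [hg, mul_comm (cyclotomic l F)] at hfdvd
      exact (mul_dvd_mul_iff_left hX1).mp hfdvd
    by_cases hgu : IsUnit g
    · obtain ⟨c, hc, rfl⟩ := Polynomial.isUnit_iff.mp hgu
      have h1 : aeval u (minpoly F u) = 0 := minpoly.aeval F u
      rw [hg, map_mul, map_sub, aeval_X, map_one, aeval_C] at h1
      have hc0 : c ≠ 0 := hc.ne_zero
      have h2 : (u - 1) * algebraMap F (Module.End F V) c * algebraMap F (Module.End F V) c⁻¹ = 0 := by
        rw [h1, zero_mul]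
      rw [mul_assoc, ← map_mul, mul_inv_cancel₀ hc0, map_one, mul_one, sub_eq_zero] at h2
      exact hu1 h2
    · obtain ⟨P, hP, hPg⟩ := WfDvdMonoid.exists_irreducible_factor hgu hg0
      have h1 := key P hP (hPg.trans hgd)
      have h2 := natDegree_le_of_dvd hPg hg0
      have h3 : (minpoly F u).natDegree = (X - 1 : F[X]).natDegree + g.natDegree := by
        rw [hg, natDegree_mul hX1 hg0]
      have h4 : (X - 1 : F[X]).natDegree = 1 := by
        have := natDegree_X_sub_C (1 : F)
        rwa [map_one] at this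
      omega
  · have hcopr : IsCoprime (minpoly F u) (X - 1 : F[X]) :=
      ((hirr1.coprime_iff_not_dvd).mpr hX).symm
    have hmd : minpoly F u ∣ cyclotomic l F := hcopr.dvd_of_dvd_mul_right hfdvd
    obtain ⟨P, hP, hPm⟩ := WfDvdMonoid.exists_irreducible_factor (minpoly.not_isUnit F u) hm0
    have h1 := key P hP (hPm.trans hmd)
    have h2 := natDegree_le_of_dvd hPm hm0
    have hass := associated_of_dvd_of_natDegree_le hPm hm0 (by omega)
    exact ⟨hass.irreducible hP, by omega⟩

end singer2

end Cfsg.Agent.helper13
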