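import Mathlib
import Cfsg.Agent.Lib_helper13_Singer2

/-! The centraliser of an element with irreducible minimal polynomial of full degree. -/

set_option autoImplicit false

namespace Cfsg.Agent.helper13

open Module Polynomial

section singer3
variable {F K : Type*} [Field F] [Fintype F] [Field K] [Fintype K] [Algebra F K]

/-- an embedding of the field `K` whose image consists of polynomials in `u`. -/
theorem exists_embedding (n : ℕ) (hn : 0 < n) (hdim : finrank F K = n) (u : Module.End F K)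
    (hirr : Irreducible (minpoly F u)) (hdeg : (minpoly F u).natDegree = n) :
    ∃ ι : K →ₐ[F] Module.End F K, ∀ c : K, ∃ p : F[X], ι c = aeval u p := by
  classical
  obtain ⟨p, hp⟩ := CharP.exists F
  haveI := hp
  haveI : Fact p.Prime := ⟨CharP.char_is_prime F p⟩
  haveI : NeZero n := ⟨by omega⟩
  haveI : Fact (Irreducible (minpoly F u)) := ⟨hirr⟩
  have hf0 : minpoly F u ≠ 0 := hirr.ne_zero
  have hfin : finrank F (AdjoinRoot (minpoly F u)) = n := by
    rw [(AdjoinRoot.powerBasis hf0).finrank, AdjoinRoot.powerBasis_dim, hdeg]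
  obtain ⟨ι₀, hι₀⟩ : ∃ ι₀ : AdjoinRoot (minpoly F u) →ₐ[F] Module.End F K,
      ∀ q : F[X], ι₀ (AdjoinRoot.mk (minpoly F u) q) = aeval u q := by
    refine ⟨Ideal.Quotient.liftₐ (Ideal.span {minpoly F u}) (aeval u) (fun a ha => ?_), ?_⟩
    · obtain ⟨b, rfl⟩ := Ideal.mem_span_singleton.mp ha
      rw [map_mul, minpoly.aeval, zero_mul]
    · intro q
      rfl
  obtain ⟨e₁⟩ : Nonempty (K ≃ₐ[F] FiniteField.Extension F p n) :=
    ⟨FiniteField.algEquivExtension F p n K hdim⟩
  obtain ⟨e₂⟩ : Nonempty (AdjoinRoot (minpoly F u) ≃ₐ[F] FiniteField.Extension F p n) :=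
    ⟨FiniteField.algEquivExtension F p n (AdjoinRoot (minpoly F u)) hfin⟩
  refine ⟨ι₀.comp ((e₁.trans e₂.symm : K ≃ₐ[F] AdjoinRoot (minpoly F u)) :
    K →ₐ[F] AdjoinRoot (minpoly F u)), fun c => ?_⟩
  obtain ⟨q, hq⟩ := AdjoinRoot.mk_surjective ((e₁.trans e₂.symm) c)
  refine ⟨q, ?_⟩
  rw [AlgHom.comp_apply, AlgEquiv.coe_algHom, ← hq, hι₀]

/-- the orbit map of a nonzero vector under an embedded field is onto. -/
theorem orbit_surjective (ι : K →ₐ[F] Module.End F K) (v₀ : K) (hv₀ : v₀ ≠ 0) (w : K) :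
    ∃ c : K, ι c v₀ = w := by
  obtain ⟨A, hA⟩ : ∃ A : K →ₗ[F] K, ∀ c, A c = ι c v₀ :=
    ⟨IsLinearMap.mk' (fun c => ι c v₀) ⟨fun x y => by rw [map_add, LinearMap.add_apply],
      fun c x => by rw [map_smul, LinearMap.smul_apply]⟩, fun c => rfl⟩
  have hinj : Function.Injective A := by
    rw [← LinearMap.ker_eq_bot, LinearMap.ker_eq_bot']
    intro c hc
    rw [hA] at hc
    by_contra hc0
    apply hv₀
    have h1 : ι c⁻¹ (ι c v₀) = v₀ := by
      rw [← Module.End.mul_apply, ← map_mul, inv_mul_cancel₀ hc0, map_one, Module.End.one_apply]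
    rw [← h1, hc, map_zero]
  have hsurj : Function.Surjective A := LinearMap.surjective_of_injective hinj
  obtain ⟨c, hc⟩ := hsurj w
  exact ⟨c, by rw [← hA, hc]⟩

/-- an endomorphism commuting with `u` lies in the embedded field. -/
theorem mem_range_of_commute (u : Module.End F K) (ι : K →ₐ[F] Module.End F K)
    (hι : ∀ c : K, ∃ p : F[X], ι c = aeval u p) (T : Module.End F K) (hT : Commute T u) :
    ∃ c : K, T = ι c := by
  have hcomm : ∀ c : K, Commute T (ι c) := by
    intro c
    obtain ⟨p, hp⟩ := hι c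
    rw [hp]
    exact Algebra.commute_of_mem_adjoin_singleton_of_commute (aeval_mem_adjoin_singleton F u) hT
  obtain ⟨c, hc⟩ := orbit_surjective ι (1 : K) one_ne_zero (T 1)
  refine ⟨c, ?_⟩
  apply LinearMap.ext
  intro w
  obtain ⟨d, hd⟩ := orbit_surjective ι (1 : K) one_ne_zero w
  have h1 : T (ι d 1) = ι d (T 1) := by
    have := congrArg (fun S : Module.End F K => S 1) (hcomm d).eq
    simpa only [Module.End.mul_apply] using this
  rw [← hd, h1, ← hc, ← Module.End.mul_apply, ← Module.End.mul_apply, ← map_mul, ← map_mul, mul_comm]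

end singer3

end Cfsg.Agent.helper13
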