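import Mathlib

/-! Alternating bilinear forms have even rank. -/

set_option autoImplicit false

namespace Cfsg.Agent.helper13

open Module

section alteven
variable {F V : Type*} [Field F] [AddCommGroup V] [Module F V]
variable (A : LinearMap.BilinForm F V)

theorem spadj_skew (hA : ∀ x, A x x = 0) (x y : V) : A x y = - A y x := by
  have h := hA (x + y)
  have e : A (x + y) (x + y) = A x x + A x y + (A y x + A y y) := by
    rw [map_add A x y, LinearMap.add_apply, map_add (A x) x y, map_add (A y) x y]
  rw [e, hA x, hA y, zero_add, add_zero] at h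
  exact eq_neg_of_add_eq_zero_left h

/-- the part of `U` orthogonal to `y` and `z`. -/
def spadjCompl (U : Submodule F V) (y z : V) : Submodule F V :=
  U ⊓ LinearMap.ker (A y) ⊓ LinearMap.ker (A z)

theorem mem_spadjCompl (U : Submodule F V) (y z x : V) :
    x ∈ spadjCompl A U y z ↔ x ∈ U ∧ A y x = 0 ∧ A z x = 0 := by
  unfold spadjCompl
  rw [Submodule.mem_inf, Submodule.mem_inf, LinearMap.mem_ker, LinearMap.mem_ker, and_assoc]

theorem spadjCompl_le (U : Submodule F V) (y z : V) : spadjCompl A U y z ≤ U :=
  fun _ hx => ((mem_spadjCompl A U y z _).mp hx).1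

theorem spadjCompl_dec (hA : ∀ x, A x x = 0) (U : Submodule F V) (y z : V)
    (hy : y ∈ U) (hz : z ∈ U) (hyz : A y z = 1) (u : V) (hu : u ∈ U) :
    u + A z u • y - A y u • z ∈ spadjCompl A U y z := by
  have hzy : A z y = -1 := by rw [spadj_skew A hA z y, hyz]
  rw [mem_spadjCompl]
  refine ⟨U.sub_mem (U.add_mem hu (U.smul_mem _ hy)) (U.smul_mem _ hz), ?_, ?_⟩
  · rw [map_sub, map_add, map_smul, map_smul, hA y, hyz, smul_eq_mul, smul_eq_mul]
    ring
  · rw [map_sub, map_add, map_smul, map_smul, hA z, hzy, smul_eq_mul, smul_eq_mul]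
    ring

theorem spadjCompl_nondeg (hA : ∀ x, A x x = 0) (U : Submodule F V)
    (hU : ∀ x ∈ U, (∀ u ∈ U, A u x = 0) → x = 0)
    (y z : V) (hy : y ∈ U) (hz : z ∈ U) (hyz : A y z = 1) :
    ∀ x ∈ spadjCompl A U y z, (∀ u ∈ spadjCompl A U y z, A u x = 0) → x = 0 := by
  intro x hx hx'
  obtain ⟨hxU, hyx, hzx⟩ := (mem_spadjCompl A U y z x).mp hx
  apply hU x hxU
  intro u hu
  have hdec := spadjCompl_dec A hA U y z hy hz hyz u hu
  have h1 := hx' _ hdec
  rw [map_sub, map_add, map_smul, map_smul, LinearMap.sub_apply, LinearMap.add_apply,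
    LinearMap.smul_apply, LinearMap.smul_apply, hyx, hzx, smul_zero, smul_zero, add_zero,
    sub_zero] at h1
  exact h1

theorem spadjCompl_finrank [FiniteDimensional F V] (hA : ∀ x, A x x = 0) (U : Submodule F V)
    (y z : V) (hy : y ∈ U) (hz : z ∈ U) (hyz : A y z = 1) :
    finrank F ↥(spadjCompl A U y z) + 2 = finrank F U := by
  have hzy : A z y = -1 := by rw [spadj_skew A hA z y, hyz]
  have hy1 : y ∉ spadjCompl A U y z := by
    intro h
    have := ((mem_spadjCompl A U y z y).mp h).2.2
    rw [hzy] at this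
    exact one_ne_zero (neg_eq_zero.mp this)
  have hz1 : z ∉ spadjCompl A U y z ⊔ Submodule.span F {y} := by
    intro h
    obtain ⟨a, ha, b, hb, hab⟩ := Submodule.mem_sup.mp h
    obtain ⟨c, rfl⟩ := Submodule.mem_span_singleton.mp hb
    have h1 : A y z = 0 := by
      rw [← hab, map_add, ((mem_spadjCompl A U y z a).mp ha).2.1, map_smul, hA y]
      simp
    rw [hyz] at h1
    exact one_ne_zero h1
  have heq : spadjCompl A U y z ⊔ Submodule.span F {y} ⊔ Submodule.span F {z} = U := by
    apply le_antisymm
    · apply sup_le (sup_le (spadjCompl_le A U y z) _) _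
      · rw [Submodule.span_singleton_le_iff_mem]; exact hy
      · rw [Submodule.span_singleton_le_iff_mem]; exact hz
    · intro u hu
      have hdec := spadjCompl_dec A hA U y z hy hz hyz u hu
      have hu' : u = (u + A z u • y - A y u • z) + (-(A z u)) • y + A y u • z := by
        rw [neg_smul]; abel
      rw [hu']
      apply Submodule.add_mem
      · apply Submodule.mem_sup_left
        apply Submodule.add_mem
        · exact Submodule.mem_sup_left hdec
        · exact Submodule.mem_sup_right
            (Submodule.smul_mem _ _ (Submodule.mem_span_singleton_self y))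
      · exact Submodule.mem_sup_right
          (Submodule.smul_mem _ _ (Submodule.mem_span_singleton_self z))
  have h3 : finrank F ↥(spadjCompl A U y z ⊔ Submodule.span F {y} ⊔ Submodule.span F {z}) =
      finrank F U := by rw [heq]
  rw [← h3, Submodule.finrank_sup_span_singleton hz1, Submodule.finrank_sup_span_singleton hy1]

/-- a subspace on which an alternating form is nondegenerate has even dimension. -/
theorem even_finrank_of_alt_nondeg [FiniteDimensional F V] (hA : ∀ x, A x x = 0) :
    ∀ (n : ℕ) (U : Submodule F V), finrank F U = n →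
      (∀ x ∈ U, (∀ u ∈ U, A u x = 0) → x = 0) → Even n := by
  intro n
  induction n using Nat.strong_induction_on with
  | _ n ih =>
    intro U hn hU
    by_cases hU0 : U = ⊥
    · rw [hU0, finrank_bot] at hn
      rw [← hn]
      exact Even.zero
    · obtain ⟨y, hyU, hy0⟩ := Submodule.exists_mem_ne_zero_of_ne_bot hU0
      obtain ⟨z₀, hz₀U, hz₀⟩ : ∃ z₀ ∈ U, A z₀ y ≠ 0 := by
        by_contra hcon
        push Not at hcon
        exact hy0 (hU y hyU hcon)
      have hyz₀ : A y z₀ ≠ 0 := by
        rw [spadj_skew A hA y z₀]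
        exact neg_ne_zero.mpr hz₀
      obtain ⟨z, hzdef⟩ : ∃ z, z = (A y z₀)⁻¹ • z₀ := ⟨_, rfl⟩
      have hzU : z ∈ U := by rw [hzdef]; exact U.smul_mem _ hz₀U
      have hyz : A y z = 1 := by
        rw [hzdef, map_smul, smul_eq_mul]
        exact inv_mul_cancel₀ hyz₀
      have hfr := spadjCompl_finrank A hA U y z hyU hzU hyz
      have hnd := spadjCompl_nondeg A hA U hU y z hyU hzU hyz
      have h1 : finrank F ↥(spadjCompl A U y z) < n := by omega
      have := ih _ h1 (spadjCompl A U y z) rfl hnd
      rw [← hn, ← hfr]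
      exact Even.add this even_two

/-- the rank of an alternating form is even. -/
theorem alt_finrank_ker [FiniteDimensional F V] (hA : ∀ x, A x x = 0) :
    ∃ t, finrank F V = finrank F (LinearMap.ker A) + 2 * t := by
  obtain ⟨C, hC⟩ := Submodule.exists_isCompl (LinearMap.ker A)
  have hsum := Submodule.finrank_add_eq_of_isCompl hC
  have hnd : ∀ x ∈ C, (∀ u ∈ C, A u x = 0) → x = 0 := by
    intro x hx hx'
    have hall : ∀ v, A v x = 0 := by
      intro v
      have hv : v ∈ LinearMap.ker A ⊔ C := by rw [hC.sup_eq_top]; exact Submodule.mem_top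
      obtain ⟨a, ha, c, hc, rfl⟩ := Submodule.mem_sup.mp hv
      rw [map_add, LinearMap.add_apply, hx' c hc, add_zero]
      rw [LinearMap.mem_ker] at ha
      rw [ha, LinearMap.zero_apply]
    have hxk : x ∈ LinearMap.ker A := by
      rw [LinearMap.mem_ker]
      apply LinearMap.ext
      intro v
      rw [spadj_skew A hA x v, hall v, neg_zero, LinearMap.zero_apply]
    have : x ∈ LinearMap.ker A ⊓ C := Submodule.mem_inf.mpr ⟨hxk, hx⟩
    rw [hC.inf_eq_bot, Submodule.mem_bot] at this
    exact this
  obtain ⟨t, ht⟩ := even_finrank_of_alt_nondeg A hA (finrank F C) C rfl hnd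
  exact ⟨t, by omega⟩

end alteven

end Cfsg.Agent.helper13
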