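import Mathlib
import Cfsg.Agent.Lib_helper13_SpAdjA
import Cfsg.Agent.Lib_helper13_SpAdjB

/-! A semisimple isometry of prime order of a symplectic space commuting with a nonzero nilpotent map:
the bound on the multiplicative order. -/

set_option autoImplicit false

namespace Cfsg.Agent.helper13

open Module

section main
variable {F V : Type*} [Field F] [Fintype F] [AddCommGroup V] [Module F V]
  [FiniteDimensional F V]
variable (B : LinearMap.BilinForm F V)

omit [Fintype F] [FiniteDimensional F V] in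
theorem spadj_inv_pow (s : V →ₗ[F] V) (hsB : ∀ x y, B (s x) (s y) = B x y) (j : ℕ) :
    ∀ x y, B ((s ^ j) x) ((s ^ j) y) = B x y := by
  induction j with
  | zero => intro x y; rw [pow_zero, Module.End.one_apply, Module.End.one_apply]
  | succ j ih =>
    intro x y
    rw [pow_succ, Module.End.mul_apply, Module.End.mul_apply, ih, hsB]

omit [Fintype F] in
theorem spadj_even_fix (hBalt : ∀ x, B x x = 0) (hBnd : ∀ x, (∀ y, B y x = 0) → x = 0)
    (r : ℕ) (hrF : (r : F) ≠ 0) (s : V →ₗ[F] V) (hsB : ∀ x y, B (s x) (s y) = B x y)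
    (hsr : s ^ r = 1) : Even (finrank F (LinearMap.ker (s - 1))) := by
  apply even_finrank_of_alt_nondeg B hBalt _ (LinearMap.ker (s - 1)) rfl
  intro x hx hx'
  apply hBnd x
  intro y
  have hsx : s x = x := by
    rw [LinearMap.mem_ker, LinearMap.sub_apply, Module.End.one_apply, sub_eq_zero] at hx
    exact hx
  have hfix : ∀ j : ℕ, (s ^ j) x = x := by
    intro j
    induction j with
    | zero => rw [pow_zero, Module.End.one_apply]
    | succ j ih => rw [pow_succ, Module.End.mul_apply, hsx, ih]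
  have he : (s - 1) * (∑ i ∈ Finset.range r, s ^ i) = 0 := by rw [mul_geom_sum, hsr, sub_self]
  have hmem : (∑ i ∈ Finset.range r, s ^ i) y ∈ LinearMap.ker (s - 1) := by
    rw [LinearMap.mem_ker, ← Module.End.mul_apply, he, LinearMap.zero_apply]
  have h1 := hx' _ hmem
  rw [LinearMap.sum_apply, map_sum, LinearMap.sum_apply] at h1
  have h2 : ∀ i ∈ Finset.range r, B ((s ^ i) y) x = B y x := by
    intro i _
    have := spadj_inv_pow B s hsB i y x
    rw [hfix i] at this
    exact this
  rw [Finset.sum_congr rfl h2, Finset.sum_const, Finset.card_range, nsmul_eq_mul] at h1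
  exact (mul_eq_zero.mp h1).resolve_left hrF

theorem sp_adj_bound
    (hBalt : ∀ x, B x x = 0) (hBnd : ∀ x, (∀ y, B y x = 0) → x = 0)
    (n : ℕ) (hdim : finrank F V = 2 * n)
    (r : ℕ) (hr : r.Prime) (hr2 : r ≠ 2) (hrF : (r : F) ≠ 0) (hrq : ¬ r ∣ Fintype.card F)
    (s : V →ₗ[F] V) (hsB : ∀ x y, B (s x) (s y) = B x y) (hsr : s ^ r = 1) (hs1 : s ≠ 1)
    (N : V →ₗ[F] V) (hNs : ∀ x, N (s x) = s (N x)) (hNsym : ∀ x y, B (N x) y = B (N y) x)
    (hN0 : N ≠ 0) (m : ℕ) (hNnil : N ^ m = 0)
    (k ηk : ℕ) (hk : k = orderOf ((Fintype.card F : ℕ) : ZMod r))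
    (hηk : (Odd k ∧ ηk = k) ∨ (Even k ∧ 2 * ηk = k)) :
    ηk + 1 ≤ n := by
  classical
  obtain ⟨V₁, hV₁⟩ : ∃ V₁ : Submodule F V, V₁ = LinearMap.ker (s - 1) := ⟨_, rfl⟩
  have hmemV₁ : ∀ x, x ∈ V₁ ↔ s x = x := by
    intro x
    rw [hV₁, LinearMap.mem_ker, LinearMap.sub_apply, Module.End.one_apply, sub_eq_zero]
  obtain ⟨a, ha⟩ : ∃ a, a = finrank F V₁ := ⟨_, rfl⟩
  have hV₁top : V₁ ≠ ⊤ := by
    intro h
    apply hs1
    apply LinearMap.ext
    intro x
    rw [Module.End.one_apply]
    exact (hmemV₁ x).mp (h ▸ Submodule.mem_top)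
  have ha_lt : a < 2 * n := by
    rw [ha, ← hdim]
    exact Submodule.finrank_lt hV₁top
  have hc1 := spadj_prime_dvd s r hr hsr ⊤ V₁ le_top (fun x _ => Submodule.mem_top)
    (fun x hx => by rw [hmemV₁] at hx ⊢; rw [hx, hx]) (fun x _ hx => (hmemV₁ x).mpr hx)
  rw [finrank_top, hdim, ← ha] at hc1
  have hkd : k ∣ 2 * n - a := by
    rw [hk]
    exact spadj_order_dvd (Fintype.card F) r a (2 * n) hr hrq ha_lt.le hc1
  have hk1 : 1 ≤ k := by
    rcases Nat.eq_zero_or_pos k with h0 | h0
    · rw [h0, zero_dvd_iff] at hkd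
      omega
    · exact h0
  have haeven : Even a := by
    rw [ha, hV₁]
    exact spadj_even_fix B hBalt hBnd r hrF s hsB hsr
  by_contra hcon
  have hle : n ≤ ηk := by omega
  have hkey : n = ηk ∧ a = 0 := by
    rcases hηk with ⟨hodd, hηeq⟩ | ⟨heven, hηeq⟩
    · have h2 : 2 ∣ 2 * n - a := by
        obtain ⟨b, hb⟩ := haeven
        exact ⟨n - b, by omega⟩
      have hcop : Nat.Coprime 2 k := Nat.coprime_two_left.mpr hodd
      have h2k : 2 * k ∣ 2 * n - a := hcop.mul_dvd_of_dvd_of_dvd h2 hkd
      have := Nat.le_of_dvd (by omega) h2k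
      omega
    · have := Nat.le_of_dvd (by omega) hkd
      omega
  obtain ⟨hnη, ha0⟩ := hkey
  have hV₁bot : V₁ = ⊥ := by
    apply Submodule.finrank_eq_zero.mp
    rw [← ha, ha0]
  have hfree : ∀ x, s x = x → x = 0 := by
    intro x hx
    have := (hmemV₁ x).mpr hx
    rw [hV₁bot, Submodule.mem_bot] at this
    exact this
  obtain ⟨K, hK⟩ : ∃ K : Submodule F V, K = LinearMap.ker N := ⟨_, rfl⟩
  obtain ⟨c, hc⟩ : ∃ c, c = finrank F K := ⟨_, rfl⟩
  have hKs : ∀ x ∈ K, s x ∈ K := by
    intro x hx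
    rw [hK, LinearMap.mem_ker] at hx ⊢
    rw [hNs, hx, map_zero]
  have hKtop : K ≠ ⊤ := by
    intro h
    apply hN0
    apply LinearMap.ext
    intro x
    have : x ∈ K := h ▸ Submodule.mem_top
    rw [hK, LinearMap.mem_ker] at this
    rw [this, LinearMap.zero_apply]
  have hc_lt : c < 2 * n := by
    rw [hc, ← hdim]
    exact Submodule.finrank_lt hKtop
  have hKbot : K ≠ ⊥ := by
    intro h
    have hinj : Function.Injective N := by
      rw [← LinearMap.ker_eq_bot, ← hK]
      exact h
    have hpinj : Function.Injective (N ^ m) := by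
      rw [Module.End.coe_pow]
      exact hinj.iterate m
    have hpos : 0 < finrank F V := by omega
    obtain ⟨v, hv⟩ := Module.finrank_pos_iff_exists_ne_zero.mp hpos
    apply hv
    apply hpinj
    rw [hNnil, LinearMap.zero_apply, LinearMap.zero_apply]
  have hc_pos : 0 < c := by
    rcases Nat.eq_zero_or_pos c with h0 | h0
    · exfalso
      apply hKbot
      apply Submodule.finrank_eq_zero.mp
      rw [← hc, h0]
    · exact h0
  have hc2 := spadj_prime_dvd s r hr hsr K ⊥ bot_le hKs
    (fun x hx => by rw [Submodule.mem_bot] at hx ⊢; rw [hx, map_zero])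
    (fun x _ hx => by rw [Submodule.mem_bot]; exact hfree x hx)
  rw [finrank_bot, ← hc] at hc2
  have hkc : k ∣ c := by
    have := spadj_order_dvd (Fintype.card F) r 0 c hr hrq (Nat.zero_le _) hc2
    rwa [Nat.sub_zero, ← hk] at this
  rcases hηk with ⟨hodd, hηeq⟩ | ⟨heven, hηeq⟩
  swap
  · have := Nat.le_of_dvd hc_pos hkc
    omega
  · have hkn : k = n := by omega
    have hcn : c = n := by
      obtain ⟨d, hd⟩ := hkc
      rw [hkn] at hd
      rcases Nat.lt_or_ge d 2 with hd2 | hd2
      · interval_cases d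
        · omega
        · omega
      · have := Nat.mul_le_mul_left n hd2
        omega
    obtain ⟨si, hsi⟩ : ∃ si : V →ₗ[F] V, si = s ^ (r - 1) := ⟨_, rfl⟩
    have hr1 : 1 ≤ r := hr.one_lt.le
    have hssi : ∀ x, s (si x) = x := by
      intro x
      have : s * s ^ (r - 1) = 1 := by rw [← pow_succ', Nat.sub_add_cancel hr1, hsr]
      rw [hsi, ← Module.End.mul_apply, this, Module.End.one_apply]
    have hBsi : ∀ x y, B (s x) y = B x (si y) := by
      intro x y
      have := hsB x (si y)
      rw [hssi] at this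
      exact this
    have hBsi' : ∀ x y, B (si x) y = B x (s y) := by
      intro x y
      have := hsB (si x) y
      rw [hssi] at this
      exact this.symm
    obtain ⟨T, hT⟩ : ∃ T : V →ₗ[F] V, T = s - si := ⟨_, rfl⟩
    have hTker : LinearMap.ker T = ⊥ := by
      rw [LinearMap.ker_eq_bot']
      intro x hx
      rw [hT, LinearMap.sub_apply, sub_eq_zero] at hx
      have h2 : s (s x) = x := by rw [hx, hssi]
      apply hfree
      obtain ⟨j, hj⟩ := hr.odd_of_ne_two hr2
      have hpow : ∀ i : ℕ, (s ^ (2 * i)) x = x := by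
        intro i
        induction i with
        | zero => rw [Nat.mul_zero, pow_zero, Module.End.one_apply]
        | succ i ih =>
          rw [Nat.mul_succ, pow_add, Module.End.mul_apply, pow_two, Module.End.mul_apply, h2, ih]
      have h3 : (s ^ r) (s x) = s x := by rw [hsr, Module.End.one_apply]
      have h4 : (s ^ r) (s x) = (s ^ (2 * (j + 1))) x := by
        rw [← Module.End.mul_apply, ← pow_succ]
        have : r + 1 = 2 * (j + 1) := by omega
        rw [this]
      rw [← h3, h4, hpow]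
    obtain ⟨A₂, hA₂⟩ : ∃ A₂ : LinearMap.BilinForm F V, A₂ = B ∘ₗ (T ∘ₗ N) := ⟨_, rfl⟩
    have hA₂app : ∀ x y, A₂ x y = B (T (N x)) y := by
      intro x y
      rw [hA₂]
      rfl
    have hA₂alt : ∀ x, A₂ x x = 0 := by
      intro x
      rw [hA₂app, hT, LinearMap.sub_apply, map_sub, LinearMap.sub_apply, hBsi, hBsi']
      have h5 : B (N x) (s x) = B (N x) (si x) := by
        rw [hNsym x (s x), hNs, hBsi]
      rw [h5, sub_self]
    have hkerA₂ : LinearMap.ker A₂ = K := by
      rw [hK]
      ext x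
      rw [LinearMap.mem_ker, LinearMap.mem_ker]
      constructor
      · intro h
        have h6 : T (N x) = 0 := by
          apply hBnd
          intro y
          rw [spadj_skew B hBalt y (T (N x)), ← hA₂app, h, LinearMap.zero_apply, neg_zero]
        have : N x ∈ LinearMap.ker T := LinearMap.mem_ker.mpr h6
        rw [hTker, Submodule.mem_bot] at this
        exact this
      · intro h
        apply LinearMap.ext
        intro y
        rw [hA₂app, h, map_zero, map_zero, LinearMap.zero_apply]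
    obtain ⟨t, ht⟩ := alt_finrank_ker A₂ hA₂alt
    rw [hkerA₂, ← hc, hcn, hdim] at ht
    have : Even n := ⟨t, by omega⟩
    rw [← hkn] at this
    exact (Nat.not_even_iff_odd.mpr hodd) this

end main

end Cfsg.Agent.helper13
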