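import Cfsg.Statements.S0246
import Cfsg.Agent.Lib_helper4_Symp

set_option autoImplicit false
open Cfsg

namespace Cfsg.Agent.S0246

open Cfsg.Agent.helper4 Matrix

variable {F : Type*} [Field F] {m : ℕ}

theorem exists_form_ne_zero (v : Fin m ⊕ Fin m → F) (hv : v ≠ 0) :
    ∃ z, Cfsg.sympForm m F z v ≠ 0 := by
  by_contra h
  push Not at h
  apply hv
  apply dotProduct_eq_zero
  intro w
  have := h (-(Matrix.J (Fin m) F *ᵥ w))
  rw [sympForm_swap] at this
  unfold Cfsg.sympForm at this
  rw [Matrix.mulVec_neg, J_mulVec_J_mulVec, neg_neg, neg_eq_zero] at this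
  exact this

/-- a matrix commuting with all symplectic transvections has every vector as an eigenvector -/
theorem eigen_of_commute (G : Matrix (Fin m ⊕ Fin m) (Fin m ⊕ Fin m) F)
    (hG : ∀ u : Fin m ⊕ Fin m → F, G * Cfsg.sympTransvection m u 1 = Cfsg.sympTransvection m u 1 * G)
    (u : Fin m ⊕ Fin m → F) : ∃ c : F, G *ᵥ u = c • u := by
  by_cases hu : u = 0
  · exact ⟨0, by rw [hu, Matrix.mulVec_zero, smul_zero]⟩
  · obtain ⟨x, hx⟩ := exists_form_ne_zero u hu
    have h1 := congrArg (fun M => M *ᵥ x) (hG u)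
    simp only [← Matrix.mulVec_mulVec, sympTransvection_mulVec, one_mul, Matrix.mulVec_add,
      Matrix.mulVec_smul] at h1
    have h2 : Cfsg.sympForm m F x u • G *ᵥ u = Cfsg.sympForm m F (G *ᵥ x) u • u :=
      add_left_cancel h1
    refine ⟨(Cfsg.sympForm m F x u)⁻¹ * Cfsg.sympForm m F (G *ᵥ x) u, ?_⟩
    rw [← smul_smul, ← h2, smul_smul, inv_mul_cancel₀ hx, one_smul]

/-- a matrix having every vector as eigenvector is scalar -/
theorem scalar_of_eigen {n : Type*} [Fintype n] [DecidableEq n] (G : Matrix n n F)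
    (h : ∀ u : n → F, ∃ c : F, G *ᵥ u = c • u) (i₀ : n) : G = (G i₀ i₀) • (1 : Matrix n n F) := by
  choose lam hlam using fun i : n => h (Pi.single i 1)
  have hent : ∀ i j, G j i = lam i * (if j = i then 1 else 0) := by
    intro i j
    have := congrFun (hlam i) j
    rw [Matrix.mulVec_single_one] at this
    simpa [Pi.single_apply] using this
  have heq : ∀ i j, lam i = lam j := by
    intro i j
    by_cases hij : i = j
    · rw [hij]
    · obtain ⟨c, hc⟩ := h (Pi.single i 1 + Pi.single j 1)
      rw [Matrix.mulVec_add, hlam i, hlam j] at hc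
      have hi := congrFun hc i
      have hj := congrFun hc j
      simp [Pi.single_apply, hij, Ne.symm hij] at hi hj
      rw [hi, hj]
  ext j i
  rw [hent i j, Matrix.smul_apply, Matrix.one_apply, hent i₀ i₀, if_pos rfl, mul_one, heq i i₀,
    smul_eq_mul]

theorem center_scalar (hm : 1 ≤ m) (g : Matrix.symplecticGroup (Fin m) F)
    (hg : g ∈ Subgroup.center (Matrix.symplecticGroup (Fin m) F)) :
    ∃ c : F, c * c = 1 ∧
      (g : Matrix (Fin m ⊕ Fin m) (Fin m ⊕ Fin m) F) = c • (1 : Matrix _ _ F) := by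
  set G : Matrix (Fin m ⊕ Fin m) (Fin m ⊕ Fin m) F := g.1 with hGdef
  have hcomm : ∀ u : Fin m ⊕ Fin m → F,
      G * Cfsg.sympTransvection m u 1 = Cfsg.sympTransvection m u 1 * G := by
    intro u
    have := Subgroup.mem_center_iff.mp hg ⟨Cfsg.sympTransvection m u 1, sympTransvection_mem u 1⟩
    have := congrArg (fun x : Matrix.symplecticGroup (Fin m) F =>
      (x : Matrix (Fin m ⊕ Fin m) (Fin m ⊕ Fin m) F)) this
    simp only [Submonoid.coe_mul] at this
    exact this.symm
  let i₀ : Fin m ⊕ Fin m := Sum.inl ⟨0, hm⟩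
  let j₀ : Fin m ⊕ Fin m := Sum.inr ⟨0, hm⟩
  have hsc := scalar_of_eigen G (eigen_of_commute G hcomm) i₀
  set c := G i₀ i₀ with hc
  refine ⟨c, ?_, hsc⟩
  have hmem := SymplecticGroup.mem_iff.mp g.2
  rw [← hGdef, hsc] at hmem
  have h1 := congrFun (congrFun hmem i₀) j₀
  simp only [Matrix.smul_mul, Matrix.one_mul, Matrix.transpose_smul, Matrix.transpose_one,
    Matrix.mul_smul, Matrix.mul_one, Matrix.smul_apply, smul_eq_mul] at h1
  have hJ : Matrix.J (Fin m) F i₀ j₀ = -1 := by
    simp [Matrix.J, i₀, j₀]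
  rw [hJ] at h1
  have : c * (c * -1) = -1 := h1
  linear_combination -this

theorem result {F : Type*} [Field F] [Fintype F] {q : ℕ} (hF : Fintype.card F = q) (m : ℕ) (hm : 1 ≤ m) : Nat.card (Subgroup.center (Matrix.symplecticGroup (Fin m) F)) = Nat.gcd 2 (q - 1) := by
  classical
  by_cases h2 : (2 : F) = 0
  · -- characteristic two: the centre is trivial
    have hchar : ringChar F = 2 := by
      by_contra hne
      exact Ring.two_ne_zero hne h2
    have hq : q % 2 = 0 := by
      rw [← hF]
      exact (FiniteField.even_card_iff_char_two (F := F)).mp hchar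
    have hq1 : 1 ≤ q := by rw [← hF]; exact Fintype.card_pos
    have hgcd : Nat.gcd 2 (q - 1) = 1 := by
      have : (q - 1) % 2 = 1 := by omega
      exact Nat.coprime_two_left.mpr (Nat.odd_iff.mpr this)
    rw [hgcd]
    have hbot : Subgroup.center (Matrix.symplecticGroup (Fin m) F) = ⊥ := by
      rw [eq_bot_iff]
      intro g hg
      obtain ⟨c, hc, hgc⟩ := center_scalar hm g hg
      have hc1 : c = 1 := by
        have h3 : (c - 1) * (c - 1) = 0 := by
          have : (c - 1) * (c - 1) = c * c - 2 * c + 1 := by ring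
          rw [this, hc, h2, zero_mul, sub_zero]
          have : (1 : F) + 1 = 2 := by norm_num
          rw [this, h2]
        exact sub_eq_zero.mp (mul_self_eq_zero.mp h3)
      rw [Subgroup.mem_bot]
      apply Subtype.ext
      rw [hgc, hc1, one_smul]
      rfl
    rw [hbot]
    exact Subgroup.card_bot
  · -- odd characteristic: the centre is {1, -1}
    have hchar : ringChar F ≠ 2 := by
      intro h
      haveI : CharP F 2 := ringChar.of_eq h
      exact h2 (CharTwo.two_eq_zero)
    have hq : q % 2 = 1 := by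
      rw [← hF]
      have := (not_congr (FiniteField.even_card_iff_char_two (F := F))).mp hchar
      omega
    have hgcd : Nat.gcd 2 (q - 1) = 2 := by
      have : (q - 1) % 2 = 0 := by omega
      exact Nat.gcd_eq_left (Nat.dvd_of_mod_eq_zero this)
    rw [hgcd]
    have hneg1 : (1 : F) ≠ -1 := by
      intro h
      apply h2
      have : (2 : F) = 1 + 1 := by norm_num
      rw [this]
      nth_rewrite 2 [h]
      simp
    let negOne : Matrix.symplecticGroup (Fin m) F :=
      ⟨-1, SymplecticGroup.neg_mem (Submonoid.one_mem _)⟩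
    have hnegc : negOne ∈ Subgroup.center (Matrix.symplecticGroup (Fin m) F) := by
      rw [Subgroup.mem_center_iff]
      intro h
      apply Subtype.ext
      show h.1 * (-1 : Matrix (Fin m ⊕ Fin m) (Fin m ⊕ Fin m) F)
        = (-1 : Matrix (Fin m ⊕ Fin m) (Fin m ⊕ Fin m) F) * h.1
      rw [mul_neg, neg_mul, mul_one, one_mul]
    rw [Nat.card_eq_two_iff]
    refine ⟨⟨1, Subgroup.one_mem _⟩, ⟨negOne, hnegc⟩, ?_, ?_⟩
    · intro h
      have h3 := congrArg (fun x : Subgroup.center (Matrix.symplecticGroup (Fin m) F) =>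
        ((x : Matrix.symplecticGroup (Fin m) F) :
          Matrix (Fin m ⊕ Fin m) (Fin m ⊕ Fin m) F) (Sum.inl ⟨0, hm⟩) (Sum.inl ⟨0, hm⟩)) h
      simp [negOne] at h3
      exact hneg1 h3
    · ext ⟨g, hg⟩
      simp only [Set.mem_insert_iff, Set.mem_singleton_iff, Set.mem_univ, iff_true,
        Subtype.mk.injEq]
      obtain ⟨c, hc, hgc⟩ := center_scalar hm g hg
      rcases mul_self_eq_one_iff.mp hc with h1 | h1
      · left
        apply Subtype.ext
        rw [hgc, h1, one_smul]
        rfl
      · right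
        apply Subtype.ext
        rw [hgc, h1]
        simp [negOne]

end Cfsg.Agent.S0246
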