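import Mathlib
import Cfsg.Prelude.Def_Classical
import Cfsg.Agent.Lib_helper13_SpAdjC
import Cfsg.Agent.Lib_helper4_Symp
import Cfsg.Agent.S0766
import Cfsg.Agent.S0246

/-! No element of order `r p` in `PSp(2n, q)` when `η(k) > n - 1`. -/

set_option autoImplicit false

namespace Cfsg.Agent.helper13

open Matrix Module

section spadjD
variable {F : Type*} [Field F] {n : ℕ}

/-- the standard symplectic form as a bilinear form. -/
noncomputable def spadjForm (n : ℕ) (F : Type*) [Field F] :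
    LinearMap.BilinForm F (Fin n ⊕ Fin n → F) :=
  LinearMap.mk₂ F (Cfsg.sympForm n F) Cfsg.Agent.helper4.sympForm_add_left
    (fun c u v => by rw [Cfsg.Agent.helper4.sympForm_smul_left, smul_eq_mul])
    Cfsg.Agent.helper4.sympForm_add_right
    (fun c u v => by rw [Cfsg.Agent.helper4.sympForm_smul_right, smul_eq_mul])

theorem spadjForm_apply (x y : Fin n ⊕ Fin n → F) :
    spadjForm n F x y = Cfsg.sympForm n F x y := rfl

theorem spadjForm_nondeg (x : Fin n ⊕ Fin n → F) (hx : ∀ y, spadjForm n F y x = 0) : x = 0 := by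
  have h1 : Matrix.J (Fin n) F *ᵥ x = 0 := by
    funext i
    have := hx (Pi.single i 1)
    rw [spadjForm_apply] at this
    unfold Cfsg.sympForm at this
    rw [single_one_dotProduct] at this
    exact this
  have h2 := Cfsg.Agent.helper4.J_mulVec_J_mulVec x
  rw [h1, Matrix.mulVec_zero] at h2
  exact neg_eq_zero.mp h2.symm

end spadjD

section noelt
variable {F : Type*} [Field F] [Fintype F] {n : ℕ}

theorem spadj_no_elt (p : ℕ) [Fact p.Prime] [CharP F p] (hn : 1 ≤ n) (r : ℕ) (hr : r.Prime)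
    (hr2 : r ≠ 2) (hrp : r ≠ p) (k ηk : ℕ) (hk : k = orderOf ((Fintype.card F : ℕ) : ZMod r))
    (hηk : (Odd k ∧ ηk = k) ∨ (Even k ∧ 2 * ηk = k)) (hcond : n - 1 < ηk)
    (g : Cfsg.PSp n F) (hg : orderOf g = r * p) : False := by
  classical
  have hp : p.Prime := Fact.out
  haveI : Nonempty (Fin n ⊕ Fin n) := ⟨Sum.inl ⟨0, hn⟩⟩
  obtain ⟨Y, rfl⟩ := QuotientGroup.mk_surjective g
  have hpow : ∀ j : ℕ, Y ^ j ∈ Subgroup.center (Matrix.symplecticGroup (Fin n) F) ↔
      r * p ∣ j := by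
    intro j
    rw [← hg, orderOf_dvd_iff_pow_eq_one, ← QuotientGroup.mk_pow, QuotientGroup.eq_one_iff]
  obtain ⟨Z, hZ⟩ : ∃ Z, Z = Y ^ (r * p) := ⟨_, rfl⟩
  have hZc : Z ∈ Subgroup.center (Matrix.symplecticGroup (Fin n) F) := by
    rw [hZ]
    exact (hpow _).mpr dvd_rfl
  obtain ⟨c, hcc, hZc'⟩ := Cfsg.Agent.S0246.center_scalar hn Z hZc
  have hZ2 : Z ^ 2 = 1 := by
    apply Subtype.ext
    rw [pow_two]
    show (Z : Matrix (Fin n ⊕ Fin n) (Fin n ⊕ Fin n) F) *
      (Z : Matrix (Fin n ⊕ Fin n) (Fin n ⊕ Fin n) F) = 1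
    rw [hZc', Matrix.smul_mul, Matrix.one_mul, smul_smul, hcc, one_smul]
  obtain ⟨jr, hjr⟩ := hr.odd_of_ne_two hr2
  obtain ⟨S, hS⟩ : ∃ S, S = Y ^ (p * (r + 1)) := ⟨_, rfl⟩
  obtain ⟨U, hU⟩ : ∃ U, U = Y ^ (r * (p + 1)) := ⟨_, rfl⟩
  have hSr : S ^ r = 1 := by
    rw [hS, ← pow_mul]
    have e : p * (r + 1) * r = r * p * (2 * (jr + 1)) := by rw [hjr]; ring
    rw [e, pow_mul, ← hZ, pow_mul, hZ2, one_pow]
  have hUp : U ^ p = 1 := by
    rw [hU, ← pow_mul]
    have e : r * (p + 1) * p = r * p * (p + 1) := by ring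
    rw [e, pow_mul, ← hZ]
    by_cases hp2 : p = 2
    · have h2 : (2 : F) = 0 := by
        have := CharP.cast_eq_zero F p
        rw [hp2] at this
        exact_mod_cast this
      have hc1 : c = 1 := by
        have h3 : (c - 1) * (c - 1) = 0 := by
          have : (c - 1) * (c - 1) = c * c - 2 * c + 1 := by ring
          rw [this, hcc, h2, zero_mul, sub_zero]
          have : (1 : F) + 1 = 2 := by norm_num
          rw [this, h2]
        exact sub_eq_zero.mp (mul_self_eq_zero.mp h3)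
      have hZ1 : Z = 1 := by
        apply Subtype.ext
        rw [hZc', hc1, one_smul]
        rfl
      rw [hZ1, one_pow]
    · obtain ⟨jp, hjp⟩ := hp.odd_of_ne_two hp2
      have e2 : p + 1 = 2 * (jp + 1) := by omega
      rw [e2, pow_mul, hZ2, one_pow]
  have hS1 : S ≠ 1 := by
    intro h
    have h1 : Y ^ (p * (r + 1)) ∈ Subgroup.center (Matrix.symplecticGroup (Fin n) F) := by
      rw [← hS, h]
      exact Subgroup.one_mem _
    have h2 := (hpow _).mp h1
    rw [mul_comm r p] at h2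
    have h3 : r ∣ r + 1 := Nat.dvd_of_mul_dvd_mul_left hp.pos h2
    have h4 : r ∣ 1 := (Nat.dvd_add_right (dvd_refl r)).mp h3
    exact hr.one_lt.ne' (Nat.dvd_one.mp h4)
  have hU1 : U ≠ 1 := by
    intro h
    have h1 : Y ^ (r * (p + 1)) ∈ Subgroup.center (Matrix.symplecticGroup (Fin n) F) := by
      rw [← hU, h]
      exact Subgroup.one_mem _
    have h2 := (hpow _).mp h1
    have h3 : p ∣ p + 1 := Nat.dvd_of_mul_dvd_mul_left hr.pos h2
    have h4 : p ∣ 1 := (Nat.dvd_add_right (dvd_refl p)).mp h3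
    exact hp.one_lt.ne' (Nat.dvd_one.mp h4)
  have hSU : Commute S U := by
    rw [hS, hU]
    exact Commute.pow_pow_self Y _ _
  -- the auxiliary element `W`
  obtain ⟨W, hW⟩ : ∃ W : Matrix.symplecticGroup (Fin n) F, W = if p = 2 then 1 else U⁻¹ :=
    ⟨_, rfl⟩
  have hWp : W ^ p = 1 := by
    rw [hW]
    split_ifs
    · exact one_pow _
    · rw [inv_pow, hUp, inv_one]
  have hUW : Commute U W := by
    rw [hW]
    split_ifs
    · exact Commute.one_right _
    · exact (Commute.refl U).inv_right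
  have hSW : Commute S W := by
    rw [hW]
    split_ifs
    · exact Commute.one_right _
    · exact hSU.inv_right
  have hUneW : U ≠ W := by
    rw [hW]
    split_ifs with hp2
    · exact hU1
    · intro h
      have h2 : U ^ 2 = 1 := by
        rw [pow_two]
        nth_rw 2 [h]
        exact mul_inv_cancel U
      have h3 : orderOf U ∣ Nat.gcd p 2 := Nat.dvd_gcd (orderOf_dvd_of_pow_eq_one hUp)
        (orderOf_dvd_of_pow_eq_one h2)
      have h4 : Nat.gcd p 2 = 1 := by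
        rw [Nat.Coprime.gcd_eq_one]
        exact (Nat.coprime_primes hp Nat.prime_two).mpr hp2
      rw [h4, Nat.dvd_one, orderOf_eq_one_iff] at h3
      exact hU1 h3
  -- matrices
  obtain ⟨Sm, hSm⟩ : ∃ Sm : Matrix (Fin n ⊕ Fin n) (Fin n ⊕ Fin n) F, Sm = S.1 := ⟨_, rfl⟩
  obtain ⟨Um, hUm⟩ : ∃ Um : Matrix (Fin n ⊕ Fin n) (Fin n ⊕ Fin n) F, Um = U.1 := ⟨_, rfl⟩
  obtain ⟨Wm, hWm⟩ : ∃ Wm : Matrix (Fin n ⊕ Fin n) (Fin n ⊕ Fin n) F, Wm = W.1 := ⟨_, rfl⟩
  have hcoe_mul : ∀ A B : Matrix.symplecticGroup (Fin n) F, (A * B).1 = A.1 * B.1 :=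
    fun _ _ => rfl
  have hcoe_pow : ∀ (A : Matrix.symplecticGroup (Fin n) F) (j : ℕ), (A ^ j).1 = A.1 ^ j :=
    fun A j => SubmonoidClass.coe_pow A j
  have hSmr : Sm ^ r = 1 := by
    rw [hSm, ← hcoe_pow, hSr]
    rfl
  have hUmp : Um ^ p = 1 := by
    rw [hUm, ← hcoe_pow, hUp]
    rfl
  have hWmp : Wm ^ p = 1 := by
    rw [hWm, ← hcoe_pow, hWp]
    rfl
  have hSUm : Sm * Um = Um * Sm := by
    rw [hSm, hUm, ← hcoe_mul, ← hcoe_mul, hSU.eq]
  have hSWm : Sm * Wm = Wm * Sm := by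
    rw [hSm, hWm, ← hcoe_mul, ← hcoe_mul, hSW.eq]
  have hUWm : Commute Um Wm := by
    show Um * Wm = Wm * Um
    rw [hUm, hWm, ← hcoe_mul, ← hcoe_mul, hUW.eq]
  have hfS : ∀ x y, Cfsg.sympForm n F (Sm *ᵥ x) (Sm *ᵥ y) = Cfsg.sympForm n F x y := by
    intro x y
    rw [hSm]
    exact Cfsg.Agent.S0766.sympForm_mulVec S x y
  have hfU : ∀ x y, Cfsg.sympForm n F (Um *ᵥ x) (Um *ᵥ y) = Cfsg.sympForm n F x y := by
    intro x y
    rw [hUm]
    exact Cfsg.Agent.S0766.sympForm_mulVec U x y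
  -- symmetry of the form attached to `Um - Wm`
  have hsym : ∀ x y, Cfsg.sympForm n F ((Um - Wm) *ᵥ x) y =
      Cfsg.sympForm n F ((Um - Wm) *ᵥ y) x := by
    intro x y
    by_cases hp2 : p = 2
    · have hW1 : Wm = 1 := by
        rw [hWm, hW, if_pos hp2]
        rfl
      have h2 : (2 : F) = 0 := by
        have := CharP.cast_eq_zero F p
        rw [hp2] at this
        exact_mod_cast this
      have hUU : ∀ z, Um *ᵥ (Um *ᵥ z) = z := by
        intro z
        rw [Matrix.mulVec_mulVec, ← pow_two, ← hp2, hUmp, Matrix.one_mulVec]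
      have hneg : ∀ a : F, -a = a := by
        intro a
        have : a + a = 0 := by rw [← two_mul, h2, zero_mul]
        exact neg_eq_of_add_eq_zero_left this
      rw [hW1, Matrix.sub_mulVec, Matrix.sub_mulVec, Matrix.one_mulVec, Matrix.one_mulVec,
        Cfsg.Agent.helper4.sympForm_sub_left, Cfsg.Agent.helper4.sympForm_sub_left]
      have h3 : Cfsg.sympForm n F (Um *ᵥ x) y = Cfsg.sympForm n F x (Um *ᵥ y) := by
        have := hfU x (Um *ᵥ y)
        rw [hUU] at this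
        exact this
      rw [h3, Cfsg.Agent.helper4.sympForm_swap x (Um *ᵥ y), Cfsg.Agent.helper4.sympForm_swap x y,
        hneg, hneg]
    · have hW1 : W = U⁻¹ := by rw [hW, if_neg hp2]
      have hWU : ∀ z, Wm *ᵥ (Um *ᵥ z) = z := by
        intro z
        rw [Matrix.mulVec_mulVec, hWm, hUm, ← hcoe_mul, hW1, inv_mul_cancel]
        exact Matrix.one_mulVec z
      have hUWz : ∀ z, Um *ᵥ (Wm *ᵥ z) = z := by
        intro z
        rw [Matrix.mulVec_mulVec, hWm, hUm, ← hcoe_mul, hW1, mul_inv_cancel]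
        exact Matrix.one_mulVec z
      have h3 : ∀ a b, Cfsg.sympForm n F (Um *ᵥ a) b = Cfsg.sympForm n F a (Wm *ᵥ b) := by
        intro a b
        have := hfU a (Wm *ᵥ b)
        rw [hUWz] at this
        exact this
      have h4 : ∀ a b, Cfsg.sympForm n F (Wm *ᵥ a) b = Cfsg.sympForm n F a (Um *ᵥ b) := by
        intro a b
        have := hfU (Wm *ᵥ a) b
        rw [hUWz] at this
        exact this.symm
      rw [Matrix.sub_mulVec, Matrix.sub_mulVec, Cfsg.Agent.helper4.sympForm_sub_left,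
        Cfsg.Agent.helper4.sympForm_sub_left, h3, h4, h3, h4,
        Cfsg.Agent.helper4.sympForm_swap x (Wm *ᵥ y), Cfsg.Agent.helper4.sympForm_swap x (Um *ᵥ y),
        h3, h4]
      ring
  -- linear maps
  obtain ⟨s, hs⟩ : ∃ s : (Fin n ⊕ Fin n → F) →ₗ[F] (Fin n ⊕ Fin n → F),
      s = Matrix.toLinAlgEquiv' Sm := ⟨_, rfl⟩
  obtain ⟨N, hN⟩ : ∃ N : (Fin n ⊕ Fin n → F) →ₗ[F] (Fin n ⊕ Fin n → F),
      N = Matrix.toLinAlgEquiv' (Um - Wm) := ⟨_, rfl⟩
  have hsapp : ∀ x, s x = Sm *ᵥ x := by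
    intro x
    rw [hs, Matrix.toLinAlgEquiv'_apply]
  have hNapp : ∀ x, N x = (Um - Wm) *ᵥ x := by
    intro x
    rw [hN, Matrix.toLinAlgEquiv'_apply]
  have hdim : finrank F (Fin n ⊕ Fin n → F) = 2 * n := by
    rw [Module.finrank_fintype_fun_eq_card, Fintype.card_sum, Fintype.card_fin, two_mul]
  have hrF : (r : F) ≠ 0 := by
    intro h
    rw [CharP.cast_eq_zero_iff F p] at h
    exact hrp ((Nat.prime_dvd_prime_iff_eq hp hr).mp h).symm
  have hrq : ¬ r ∣ Fintype.card F := by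
    intro h
    obtain ⟨a, -, ha⟩ := FiniteField.card F p
    rw [ha] at h
    exact hrp ((Nat.prime_dvd_prime_iff_eq hr hp).mp (hr.dvd_of_dvd_pow h))
  have hsr : s ^ r = 1 := by
    rw [hs, ← map_pow, hSmr, map_one]
  have hs1 : s ≠ 1 := by
    intro h
    apply hS1
    apply Subtype.ext
    have h1 : Matrix.toLinAlgEquiv' Sm = Matrix.toLinAlgEquiv' (1 : Matrix (Fin n ⊕ Fin n) (Fin n ⊕ Fin n) F) := by
      rw [← hs, h, map_one]
    have h2 := Matrix.toLinAlgEquiv'.injective h1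
    rw [hSm] at h2
    exact h2
  have hNs : ∀ x, N (s x) = s (N x) := by
    intro x
    rw [hsapp, hNapp, hsapp, hNapp, Matrix.mulVec_mulVec, Matrix.mulVec_mulVec, Matrix.sub_mul,
      Matrix.mul_sub, hSUm, hSWm]
  have hN0 : N ≠ 0 := by
    intro h
    apply hUneW
    apply Subtype.ext
    have h1 : Matrix.toLinAlgEquiv' (Um - Wm) = Matrix.toLinAlgEquiv' (0 : Matrix (Fin n ⊕ Fin n) (Fin n ⊕ Fin n) F) := by
      rw [← hN, h, map_zero]
    have h2 := Matrix.toLinAlgEquiv'.injective h1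
    rw [hUm, hWm] at h2
    exact sub_eq_zero.mp h2
  have hNnil : N ^ p = 0 := by
    rw [hN, ← map_pow, sub_pow_char_of_commute p hUWm, hUmp, hWmp, sub_self, map_zero]
  have hbound := sp_adj_bound (spadjForm n F)
    (fun x => by rw [spadjForm_apply]; exact Cfsg.Agent.helper4.sympForm_self x)
    spadjForm_nondeg n hdim r hr hr2 hrF hrq s
    (fun x y => by rw [spadjForm_apply, spadjForm_apply, hsapp, hsapp]; exact hfS x y)
    hsr hs1 N hNs
    (fun x y => by rw [spadjForm_apply, spadjForm_apply, hNapp, hNapp]; exact hsym x y)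
    hN0 p hNnil k ηk hk hηk
  omega

end noelt

end Cfsg.Agent.helper13
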