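import Cfsg.Statements.S0245
import Mathlib
import Cfsg.Agent.Lib_helper4_Symp
import Cfsg.Agent.S0766
-- import your own Cfsg.Agent.* helpers here

set_option autoImplicit false
open Cfsg

namespace Cfsg.Agent.S0245

open Matrix Cfsg.Agent.helper4

variable {F : Type*} [Field F] {m : ℕ}

local notation "Sp" => Matrix.symplecticGroup (Fin m) F
local notation "ff" => Cfsg.sympForm m F

/-- a transvection moving `x` to `y`, fixing all `z` with `f z x = f z y` -/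
theorem move_fix' (x y : Fin m ⊕ Fin m → F) (hxy : ff x y ≠ 0) :
    ∃ A : Sp, (A : Matrix (Fin m ⊕ Fin m) (Fin m ⊕ Fin m) F) *ᵥ x = y ∧
      ∀ z, ff z x = ff z y → (A : Matrix (Fin m ⊕ Fin m) (Fin m ⊕ Fin m) F) *ᵥ z = z := by
  refine ⟨⟨Cfsg.sympTransvection m (x - y) (ff x y)⁻¹, sympTransvection_mem _ _⟩, ?_, ?_⟩
  · change Cfsg.sympTransvection m (x - y) (ff x y)⁻¹ *ᵥ x = y
    rw [sympTransvection_mulVec, sympForm_sub_right, sympForm_self, zero_sub, mul_neg,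
      inv_mul_cancel₀ hxy, neg_smul, one_smul]
    abel
  · intro z hz
    change Cfsg.sympTransvection m (x - y) (ff x y)⁻¹ *ᵥ z = z
    rw [sympTransvection_mulVec, sympForm_sub_right, hz, sub_self, mul_zero, zero_smul, add_zero]

/-- orthogonality to the four vectors -/
def Zperp (u v u' v' : Fin m ⊕ Fin m → F) (z : Fin m ⊕ Fin m → F) : Prop :=
  ff z u = 0 ∧ ff z v = 0 ∧ ff z u' = 0 ∧ ff z v' = 0

theorem trans_pairs (u v u' v' : Fin m ⊕ Fin m → F) (h : ff u v = 1) (h' : ff u' v' = 1) :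
    ∃ A : Sp, (A : Matrix (Fin m ⊕ Fin m) (Fin m ⊕ Fin m) F) *ᵥ u = u' ∧
      (A : Matrix (Fin m ⊕ Fin m) (Fin m ⊕ Fin m) F) *ᵥ v = v' ∧
      ∀ z, Zperp u v u' v' z → (A : Matrix (Fin m ⊕ Fin m) (Fin m ⊕ Fin m) F) *ᵥ z = z := by
  have hv'u' : ff v' u' = -1 := by rw [sympForm_swap, h']
  -- phase 1
  have ph1 : ∃ A : Sp, (A : Matrix (Fin m ⊕ Fin m) (Fin m ⊕ Fin m) F) *ᵥ u = u' ∧
      ∀ z, Zperp u v u' v' z → (A : Matrix (Fin m ⊕ Fin m) (Fin m ⊕ Fin m) F) *ᵥ z = z := by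
    by_cases h0 : ff u u' = 0
    · have hw : ∃ w, ff u w ≠ 0 ∧ ff w u' ≠ 0 ∧ ∀ z, Zperp u v u' v' z → ff z w = 0 := by
        by_cases h1 : ff v u' = 0
        · by_cases h2 : ff u v' = 0
          · refine ⟨v + v', ?_, ?_, ?_⟩
            · rw [sympForm_add_right, h, h2, add_zero]; exact one_ne_zero
            · rw [sympForm_add_left, h1, hv'u', zero_add]; exact neg_ne_zero.mpr one_ne_zero
            · rintro z ⟨-, z2, -, z4⟩
              rw [sympForm_add_right, z2, z4, add_zero]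
          · exact ⟨v', h2, by rw [hv'u']; exact neg_ne_zero.mpr one_ne_zero, fun z hz => hz.2.2.2⟩
        · exact ⟨v, by rw [h]; exact one_ne_zero, h1, fun z hz => hz.2.1⟩
      obtain ⟨w, hw1, hw2, hw3⟩ := hw
      obtain ⟨A, hAx, hAz⟩ := move_fix' u w hw1
      obtain ⟨B, hBx, hBz⟩ := move_fix' w u' hw2
      refine ⟨B * A, ?_, ?_⟩
      · rw [Submonoid.coe_mul, ← Matrix.mulVec_mulVec, hAx, hBx]
      · intro z hz
        rw [Submonoid.coe_mul, ← Matrix.mulVec_mulVec, hAz z (by rw [hz.1, hw3 z hz]),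
          hBz z (by rw [hw3 z hz, hz.2.2.1])]
    · obtain ⟨A, hAx, hAz⟩ := move_fix' u u' h0
      exact ⟨A, hAx, fun z hz => hAz z (by rw [hz.1, hz.2.2.1])⟩
  obtain ⟨A, hAu, hAz⟩ := ph1
  set v₁ := (A : Matrix (Fin m ⊕ Fin m) (Fin m ⊕ Fin m) F) *ᵥ v with hv₁
  have h1 : ff u' v₁ = 1 := by
    rw [← hAu, hv₁, Cfsg.Agent.S0766.sympForm_mulVec, h]
  have hzv₁ : ∀ z, Zperp u v u' v' z → ff z v₁ = 0 := by
    intro z hz
    have := Cfsg.Agent.S0766.sympForm_mulVec A z v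
    rw [hAz z hz] at this
    rw [hv₁, this, hz.2.1]
  have ph2 : ∃ B : Sp, (B : Matrix (Fin m ⊕ Fin m) (Fin m ⊕ Fin m) F) *ᵥ v₁ = v' ∧
      (B : Matrix (Fin m ⊕ Fin m) (Fin m ⊕ Fin m) F) *ᵥ u' = u' ∧
      ∀ z, Zperp u v u' v' z → (B : Matrix (Fin m ⊕ Fin m) (Fin m ⊕ Fin m) F) *ᵥ z = z := by
    by_cases h0 : ff v₁ v' = 0
    · set v₂ := v₁ + u' with hv₂
      have e1 : ff u' v₂ = 1 := by
        rw [hv₂, sympForm_add_right, h1, sympForm_self, add_zero]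
      have e2 : ff v₁ v₂ ≠ 0 := by
        rw [hv₂, sympForm_add_right, sympForm_self, zero_add, sympForm_swap, h1]
        exact neg_ne_zero.mpr one_ne_zero
      have e3 : ff v₂ v' ≠ 0 := by
        rw [hv₂, sympForm_add_left, h0, h', zero_add]; exact one_ne_zero
      have hzv₂ : ∀ z, Zperp u v u' v' z → ff z v₂ = 0 := by
        intro z hz
        rw [hv₂, sympForm_add_right, hzv₁ z hz, hz.2.2.1, add_zero]
      obtain ⟨B₁, hB₁x, hB₁z⟩ := move_fix' v₁ v₂ e2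
      obtain ⟨B₂, hB₂x, hB₂z⟩ := move_fix' v₂ v' e3
      refine ⟨B₂ * B₁, ?_, ?_, ?_⟩
      · rw [Submonoid.coe_mul, ← Matrix.mulVec_mulVec, hB₁x, hB₂x]
      · rw [Submonoid.coe_mul, ← Matrix.mulVec_mulVec, hB₁z u' (by rw [h1, e1]),
          hB₂z u' (by rw [e1, h'])]
      · intro z hz
        rw [Submonoid.coe_mul, ← Matrix.mulVec_mulVec, hB₁z z (by rw [hzv₁ z hz, hzv₂ z hz]),
          hB₂z z (by rw [hzv₂ z hz, hz.2.2.2])]
    · obtain ⟨B, hBx, hBz⟩ := move_fix' v₁ v' h0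
      exact ⟨B, hBx, hBz u' (by rw [h1, h']), fun z hz => hBz z (by rw [hzv₁ z hz, hz.2.2.2])⟩
  obtain ⟨B, hBv, hBu, hBz⟩ := ph2
  refine ⟨B * A, ?_, ?_, ?_⟩
  · rw [Submonoid.coe_mul, ← Matrix.mulVec_mulVec, hAu, hBu]
  · rw [Submonoid.coe_mul, ← Matrix.mulVec_mulVec, ← hv₁, hBv]
  · intro z hz
    rw [Submonoid.coe_mul, ← Matrix.mulVec_mulVec, hAz z hz, hBz z hz]

/-- vectors, as a type synonym carrying the action of the symplectic group -/
def Vec (m : ℕ) (F : Type*) := Fin m ⊕ Fin m → F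

instance instActVec : MulAction (Matrix.symplecticGroup (Fin m) F) (Vec m F) where
  smul A v := (A : Matrix (Fin m ⊕ Fin m) (Fin m ⊕ Fin m) F) *ᵥ (v : Fin m ⊕ Fin m → F)
  one_smul v := Matrix.one_mulVec (v : Fin m ⊕ Fin m → F)
  mul_smul A B v := (Matrix.mulVec_mulVec (v : Fin m ⊕ Fin m → F)
    (A : Matrix (Fin m ⊕ Fin m) (Fin m ⊕ Fin m) F)
    (B : Matrix (Fin m ⊕ Fin m) (Fin m ⊕ Fin m) F)).symm

theorem smul_def (A : Sp) (v : Vec m F) :
    A • v = ((A : Matrix (Fin m ⊕ Fin m) (Fin m ⊕ Fin m) F) *ᵥ (v : Fin m ⊕ Fin m → F) : Fin m ⊕ Fin m → F) :=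
  rfl

/-- basis vectors as functions -/
def eF (x : Fin m ⊕ Fin m) : Fin m ⊕ Fin m → F := Pi.single x 1

/-- basis vectors in `Vec` -/
def eV (x : Fin m ⊕ Fin m) : Vec m F := eF (F := F) x

theorem form_eV_inl (w : Fin m ⊕ Fin m → F) (i : Fin m) :
    ff w (eF (F := F) (Sum.inl i)) = w (Sum.inr i) := by
  unfold Cfsg.sympForm eF
  simp only [dotProduct, Fintype.sum_sum_type, J_mulVec_apply_inl, J_mulVec_apply_inr]
  simp [Pi.single_apply]

theorem form_eV_inr (w : Fin m ⊕ Fin m → F) (i : Fin m) :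
    ff w (eF (F := F) (Sum.inr i)) = - w (Sum.inl i) := by
  unfold Cfsg.sympForm eF
  simp only [dotProduct, Fintype.sum_sum_type, J_mulVec_apply_inl, J_mulVec_apply_inr]
  simp [Pi.single_apply]

/-- the chain of subgroups -/
def Gj (m : ℕ) (F : Type*) [Field F] (j : ℕ) : Subgroup (Matrix.symplecticGroup (Fin m) F) :=
  ⨅ i : Fin m, ⨅ (_ : j ≤ i.val),
    (MulAction.stabilizer (Matrix.symplecticGroup (Fin m) F) (eV (F := F) (Sum.inl i)) ⊓
      MulAction.stabilizer (Matrix.symplecticGroup (Fin m) F) (eV (F := F) (Sum.inr i)))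

theorem mem_Gj (j : ℕ) (A : Sp) : A ∈ Gj m F j ↔
    ∀ i : Fin m, j ≤ i.val → A • eV (F := F) (Sum.inl i) = eV (Sum.inl i) ∧
      A • eV (F := F) (Sum.inr i) = eV (Sum.inr i) := by
  simp [Gj, Subgroup.mem_iInf, MulAction.mem_stabilizer_iff]

theorem Gj_top : Gj m F m = ⊤ := by
  rw [eq_top_iff]
  intro A _
  rw [mem_Gj]
  intro i hi
  exact absurd i.2 (not_lt.mpr hi)

theorem Gj_zero : Nat.card (Gj m F 0) = 1 := by
  have : Gj m F 0 = ⊥ := by
    rw [eq_bot_iff]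
    intro A hA
    rw [mem_Gj] at hA
    rw [Subgroup.mem_bot]
    apply Subtype.ext
    ext x y
    have hy : (A : Matrix (Fin m ⊕ Fin m) (Fin m ⊕ Fin m) F) *ᵥ (Pi.single y 1) = Pi.single y 1 := by
      rcases y with i | i
      · exact (hA i (Nat.zero_le _)).1
      · exact (hA i (Nat.zero_le _)).2
    have := congrFun hy x
    rw [Matrix.mulVec_single_one] at this
    simpa [Matrix.one_apply, Pi.single_apply, eq_comm] using this
  rw [this]
  exact Subgroup.card_bot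

/-- the coordinate subspace spanned by `e_i, f_i` for `i < k` -/
def Hk (m : ℕ) (F : Type*) [Field F] (k : ℕ) : Submodule F (Fin m ⊕ Fin m → F) where
  carrier := {w | ∀ i : Fin m, k ≤ i.val → w (Sum.inl i) = 0 ∧ w (Sum.inr i) = 0}
  add_mem' := by
    intro a b ha hb i hi
    simp [(ha i hi).1, (ha i hi).2, (hb i hi).1, (hb i hi).2]
  zero_mem' := by
    intro i _; exact ⟨rfl, rfl⟩
  smul_mem' := by
    intro c a ha i hi
    simp [(ha i hi).1, (ha i hi).2]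

theorem mem_Hk (k : ℕ) (w : Fin m ⊕ Fin m → F) :
    w ∈ Hk m F k ↔ ∀ i : Fin m, k ≤ i.val → w (Sum.inl i) = 0 ∧ w (Sum.inr i) = 0 := Iff.rfl

theorem eV_inl_mem_Hk (k : ℕ) (i : Fin m) (hi : i.val < k) :
    eF (F := F) (Sum.inl i) ∈ Hk m F k := by
  intro i' hi'
  have : i' ≠ i := by intro e; rw [e] at hi'; omega
  simp [eF, this]

theorem eV_inr_mem_Hk (k : ℕ) (i : Fin m) (hi : i.val < k) :
    eF (F := F) (Sum.inr i) ∈ Hk m F k := by
  intro i' hi'
  have : i' ≠ i := by intro e; rw [e] at hi'; omega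
  simp [eF, this]

theorem card_Hk [Fintype F] (k : ℕ) (hk : k ≤ m) :
    Nat.card (Hk m F k) = Fintype.card F ^ (2 * k) := by
  classical
  have e : (Fin k ⊕ Fin k → F) ≃ Hk m F k :=
    { toFun := fun g => ⟨fun x => Sum.elim
          (fun i : Fin m => if h : i.val < k then g (Sum.inl ⟨i, h⟩) else 0)
          (fun i : Fin m => if h : i.val < k then g (Sum.inr ⟨i, h⟩) else 0) x, by
        intro i hi
        simp [not_lt.mpr hi]⟩
      invFun := fun w y => Sum.elim (fun a : Fin k => w.1 (Sum.inl (Fin.castLE hk a)))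
          (fun a : Fin k => w.1 (Sum.inr (Fin.castLE hk a))) y
      left_inv := by
        intro g
        funext y
        rcases y with a | a <;> simp
      right_inv := by
        rintro ⟨w, hw⟩
        apply Subtype.ext
        funext x
        rcases x with i | i
        · by_cases h : i.val < k
          · simp [h]
          · simp [h, (hw i (not_lt.mp h)).1]
        · by_cases h : i.val < k
          · simp [h]
          · simp [h, (hw i (not_lt.mp h)).2] }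
  rw [← Nat.card_congr e, Nat.card_fun, Nat.card_eq_fintype_card, Nat.card_eq_fintype_card,
    Fintype.card_sum, Fintype.card_fin, two_mul]

/-- partner vector -/
theorem exists_partner (k : ℕ) (u : Fin m ⊕ Fin m → F) (hu : u ∈ Hk m F k) (hu0 : u ≠ 0) :
    ∃ v₀ ∈ Hk m F k, ff u v₀ = 1 := by
  classical
  obtain ⟨x, hx⟩ : ∃ x, u x ≠ 0 := by
    by_contra h
    push Not at h
    exact hu0 (funext h)
  rcases x with i | i
  · have hi : i.val < k := by
      by_contra h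
      exact hx (hu i (not_lt.mp h)).1
    refine ⟨(-(u (Sum.inl i))⁻¹) • eF (F := F) (Sum.inr i),
      (Hk m F k).smul_mem _ (eV_inr_mem_Hk k i hi), ?_⟩
    rw [sympForm_smul_right, form_eV_inr]
    field_simp
  · have hi : i.val < k := by
      by_contra h
      exact hx (hu i (not_lt.mp h)).2
    refine ⟨((u (Sum.inr i))⁻¹) • eF (F := F) (Sum.inl i),
      (Hk m F k).smul_mem _ (eV_inl_mem_Hk k i hi), ?_⟩
    rw [sympForm_smul_right, form_eV_inl]
    field_simp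

/-- hyperbolic pairs inside `Hk` -/
def Pk (m : ℕ) (F : Type*) [Field F] (k : ℕ) :
    Set ((Fin m ⊕ Fin m → F) × (Fin m ⊕ Fin m → F)) :=
  {p | p.1 ∈ Hk m F k ∧ p.2 ∈ Hk m F k ∧ Cfsg.sympForm m F p.1 p.2 = 1}

theorem card_Pk [Fintype F] (k : ℕ) (hk : k ≤ m) :
    Nat.card (Pk m F k) * Fintype.card F =
      (Fintype.card F ^ (2 * k) - 1) * Fintype.card F ^ (2 * k) := by
  classical
  have hpart : ∀ u : Fin m ⊕ Fin m → F, ∃ v₀ : Fin m ⊕ Fin m → F,
      u ∈ Hk m F k → u ≠ 0 → v₀ ∈ Hk m F k ∧ ff u v₀ = 1 := by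
    intro u
    by_cases h : u ∈ Hk m F k ∧ u ≠ 0
    · obtain ⟨v₀, h1, h2⟩ := exists_partner k u h.1 h.2
      exact ⟨v₀, fun _ _ => ⟨h1, h2⟩⟩
    · exact ⟨0, fun h1 h2 => absurd ⟨h1, h2⟩ h⟩
  choose v₀ hv₀ using hpart
  let S₂ : Set ((Fin m ⊕ Fin m → F) × (Fin m ⊕ Fin m → F)) :=
    ((Hk m F k : Set (Fin m ⊕ Fin m → F)) \ {0}) ×ˢ (Hk m F k : Set (Fin m ⊕ Fin m → F))
  have e : (Pk m F k × F) ≃ S₂ :=
    { toFun := fun x => ⟨(x.1.1.1, x.1.1.2 + (x.2 - 1) • v₀ x.1.1.1), by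
        obtain ⟨⟨⟨u, v⟩, hu, hv, huv⟩, c⟩ := x
        have hu0 : u ≠ 0 := by
          rintro rfl
          have h1 : ff (0 : Fin m ⊕ Fin m → F) v = 1 := huv
          rw [Cfsg.Agent.S0766.sympForm_zero_left] at h1
          exact zero_ne_one h1
        exact ⟨⟨hu, hu0⟩, (Hk m F k).add_mem hv ((Hk m F k).smul_mem _ (hv₀ u hu hu0).1)⟩⟩
      invFun := fun y => (⟨(y.1.1, y.1.2 - (ff y.1.1 y.1.2 - 1) • v₀ y.1.1), by
        obtain ⟨⟨u, w⟩, ⟨hu, hu0⟩, hw⟩ := y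
        have hu0' : u ≠ 0 := hu0
        refine ⟨hu, (Hk m F k).sub_mem hw ((Hk m F k).smul_mem _ (hv₀ u hu hu0').1), ?_⟩
        show ff u (w - (ff u w - 1) • v₀ u) = 1
        rw [sympForm_sub_right, sympForm_smul_right, (hv₀ u hu hu0').2]
        ring⟩, ff y.1.1 y.1.2)
      left_inv := by
        rintro ⟨⟨⟨u, v⟩, hu, hv, huv⟩, c⟩
        have hu0 : u ≠ 0 := by
          rintro rfl
          have h1 : ff (0 : Fin m ⊕ Fin m → F) v = 1 := huv
          rw [Cfsg.Agent.S0766.sympForm_zero_left] at h1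
          exact zero_ne_one h1
        have huv' : ff u v = 1 := huv
        have key : ff u (v + (c - 1) • v₀ u) = c := by
          rw [sympForm_add_right, sympForm_smul_right, huv', (hv₀ u hu hu0).2]
          ring
        apply Prod.ext
        · apply Subtype.ext
          apply Prod.ext
          · rfl
          · show v + (c - 1) • v₀ u - (ff u (v + (c - 1) • v₀ u) - 1) • v₀ u = v
            rw [key]
            abel
        · exact key
      right_inv := by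
        rintro ⟨⟨u, w⟩, ⟨hu, hu0⟩, hw⟩
        apply Subtype.ext
        apply Prod.ext
        · rfl
        · show w - (ff u w - 1) • v₀ u + (ff u w - 1) • v₀ u = w
          abel }
  have h1 := Nat.card_congr e
  rw [Nat.card_prod, Nat.card_eq_fintype_card (α := F)] at h1
  rw [h1, Nat.card_coe_set_eq, Set.ncard_prod,
    Set.ncard_diff_singleton_of_mem (Hk m F k).zero_mem, ← Nat.card_coe_set_eq]
  have : Nat.card ((Hk m F k : Set (Fin m ⊕ Fin m → F))) = Fintype.card F ^ (2 * k) :=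
    card_Hk k hk
  rw [this]

theorem fix_of_mem_Gj (k : ℕ) (A : Sp) (hA : A ∈ Gj m F k) (i : Fin m) (hi : k ≤ i.val) :
    (A : Matrix (Fin m ⊕ Fin m) (Fin m ⊕ Fin m) F) *ᵥ eF (F := F) (Sum.inl i) = eF (Sum.inl i) ∧
    (A : Matrix (Fin m ⊕ Fin m) (Fin m ⊕ Fin m) F) *ᵥ eF (F := F) (Sum.inr i) = eF (Sum.inr i) :=
  (mem_Gj k A).mp hA i hi

theorem Gj_preserves_Hk (k : ℕ) (A : Sp) (hA : A ∈ Gj m F k) (w : Fin m ⊕ Fin m → F)
    (hw : w ∈ Hk m F k) :
    (A : Matrix (Fin m ⊕ Fin m) (Fin m ⊕ Fin m) F) *ᵥ w ∈ Hk m F k := by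
  intro i hi
  obtain ⟨h1, h2⟩ := fix_of_mem_Gj k A hA i hi
  constructor
  · have := form_eV_inr (F := F) ((A : Matrix (Fin m ⊕ Fin m) (Fin m ⊕ Fin m) F) *ᵥ w) i
    rw [← h2, Cfsg.Agent.S0766.sympForm_mulVec, form_eV_inr, (hw i hi).1] at this
    simpa using this.symm
  · have := form_eV_inl (F := F) ((A : Matrix (Fin m ⊕ Fin m) (Fin m ⊕ Fin m) F) *ᵥ w) i
    rw [← h1, Cfsg.Agent.S0766.sympForm_mulVec, form_eV_inl, (hw i hi).2] at this
    exact this.symm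

theorem Gj_mono (j : ℕ) : Gj m F j ≤ Gj m F (j + 1) := by
  intro A hA
  rw [mem_Gj] at hA ⊢
  intro i hi
  exact hA i (by omega)

theorem orbit_sup (j : ℕ) (hj : j < m) (u v : Fin m ⊕ Fin m → F)
    (hu' : u ∈ Hk m F (j + 1)) (hv' : v ∈ Hk m F (j + 1)) (huv' : ff u v = 1) :
    ∃ A : Sp, A ∈ Gj m F (j + 1) ∧
      (A : Matrix (Fin m ⊕ Fin m) (Fin m ⊕ Fin m) F) *ᵥ eF (F := F) (Sum.inr ⟨j, hj⟩) = u ∧
      (A : Matrix (Fin m ⊕ Fin m) (Fin m ⊕ Fin m) F) *ᵥ eF (F := F) (Sum.inl ⟨j, hj⟩) = v := by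
  have hx1 : ff (eF (F := F) (Sum.inr ⟨j, hj⟩)) (eF (F := F) (Sum.inl ⟨j, hj⟩)) = 1 := by
    rw [form_eV_inl]; simp [eF]
  obtain ⟨A, hAu, hAv, hAz⟩ := trans_pairs (eF (F := F) (Sum.inr ⟨j, hj⟩))
    (eF (F := F) (Sum.inl ⟨j, hj⟩)) u v hx1 huv'
  refine ⟨A, ?_, hAu, hAv⟩
  rw [mem_Gj]
  intro i hi
  have hij : i ≠ ⟨j, hj⟩ := by
    intro e
    rw [e] at hi
    simp at hi
  constructor
  · show (A : Matrix (Fin m ⊕ Fin m) (Fin m ⊕ Fin m) F) *ᵥ eF (F := F) (Sum.inl i) = eF (Sum.inl i)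
    apply hAz
    refine ⟨?_, ?_, ?_, ?_⟩
    · rw [form_eV_inr]; simp [eF, hij]
    · rw [form_eV_inl]; simp [eF]
    · rw [sympForm_swap, form_eV_inl, (hu' i hi).2, neg_zero]
    · rw [sympForm_swap, form_eV_inl, (hv' i hi).2, neg_zero]
  · show (A : Matrix (Fin m ⊕ Fin m) (Fin m ⊕ Fin m) F) *ᵥ eF (F := F) (Sum.inr i) = eF (Sum.inr i)
    apply hAz
    refine ⟨?_, ?_, ?_, ?_⟩
    · rw [form_eV_inr]; simp [eF]
    · rw [form_eV_inl]; simp [eF, hij]
    · rw [sympForm_swap, form_eV_inr, (hu' i hi).1, neg_zero, neg_zero]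
    · rw [sympForm_swap, form_eV_inr, (hv' i hi).1, neg_zero, neg_zero]

theorem step_card [Fintype F] (j : ℕ) (hj : j < m) :
    Nat.card (Gj m F (j + 1)) = Nat.card (Gj m F j) * Nat.card (Pk m F (j + 1)) := by
  classical
  set K := Gj m F (j + 1) with hK
  let x₀ : Vec m F × Vec m F := (eV (F := F) (Sum.inr ⟨j, hj⟩), eV (F := F) (Sum.inl ⟨j, hj⟩))
  have h1 := Subgroup.card_mul_index (MulAction.stabilizer K x₀)
  have h2 := MulAction.index_stabilizer K x₀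
  have h3 : MulAction.stabilizer K x₀ = (Gj m F j).subgroupOf K := by
    ext ⟨A, hA⟩
    rw [MulAction.mem_stabilizer_iff, Subgroup.mem_subgroupOf]
    show A • x₀ = x₀ ↔ A ∈ Gj m F j
    constructor
    · intro h
      have ha : A • eV (F := F) (Sum.inr ⟨j, hj⟩) = eV (Sum.inr ⟨j, hj⟩) := congrArg Prod.fst h
      have hb : A • eV (F := F) (Sum.inl ⟨j, hj⟩) = eV (Sum.inl ⟨j, hj⟩) := congrArg Prod.snd h
      rw [mem_Gj]
      intro i hi
      by_cases hij : i.val = j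
      · have : i = ⟨j, hj⟩ := Fin.ext hij
        rw [this]
        exact ⟨hb, ha⟩
      · exact (mem_Gj (j + 1) A).mp hA i (by omega)
    · intro h
      obtain ⟨hb, ha⟩ := (mem_Gj j A).mp h ⟨j, hj⟩ le_rfl
      exact Prod.ext ha hb
  have h4 : Nat.card ((Gj m F j).subgroupOf K) = Nat.card (Gj m F j) :=
    Nat.card_congr (Subgroup.subgroupOfEquivOfLe (Gj_mono j)).toEquiv
  have hx1 : ff (eF (F := F) (Sum.inr ⟨j, hj⟩)) (eF (F := F) (Sum.inl ⟨j, hj⟩)) = 1 := by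
    rw [form_eV_inl]; simp [eF]
  have h5 : MulAction.orbit K x₀ = (Pk m F (j + 1) : Set (Vec m F × Vec m F)) := by
    ext p
    constructor
    · rintro ⟨⟨A, hA⟩, rfl⟩
      refine ⟨?_, ?_, ?_⟩
      · exact Gj_preserves_Hk (j + 1) A hA _ (eV_inr_mem_Hk (j + 1) ⟨j, hj⟩ (by simp))
      · exact Gj_preserves_Hk (j + 1) A hA _ (eV_inl_mem_Hk (j + 1) ⟨j, hj⟩ (by simp))
      · show ff ((A : Matrix (Fin m ⊕ Fin m) (Fin m ⊕ Fin m) F) *ᵥ eF (F := F) (Sum.inr ⟨j, hj⟩))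
          ((A : Matrix (Fin m ⊕ Fin m) (Fin m ⊕ Fin m) F) *ᵥ eF (F := F) (Sum.inl ⟨j, hj⟩)) = 1
        rw [Cfsg.Agent.S0766.sympForm_mulVec, hx1]
    · rintro ⟨hu, hv, huv⟩
      obtain ⟨u, v⟩ := p
      obtain ⟨A, hAK, hAu, hAv⟩ := orbit_sup j hj u v hu hv huv
      exact ⟨⟨A, hAK⟩, Prod.ext hAu hAv⟩
  rw [← h1, h2, h3, h4, h5, Nat.card_coe_set_eq]
  rfl

theorem card_Gj [Fintype F] (j : ℕ) (hj : j ≤ m) :
    Nat.card (Gj m F j) = ∏ i ∈ Finset.range j,
      ((Fintype.card F ^ (2 * (i + 1)) - 1) * Fintype.card F ^ (2 * i + 1)) := by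
  induction j with
  | zero => simp [Gj_zero]
  | succ j ih =>
    rw [Finset.prod_range_succ, step_card j (by omega), ih (by omega)]
    congr 1
    have h := card_Pk (F := F) (m := m) (j + 1) hj
    have hq : 0 < Fintype.card F := Fintype.card_pos
    have e : (Fintype.card F ^ (2 * (j + 1)) - 1) * Fintype.card F ^ (2 * (j + 1)) =
        ((Fintype.card F ^ (2 * (j + 1)) - 1) * Fintype.card F ^ (2 * j + 1)) * Fintype.card F := by
      rw [mul_assoc, ← pow_succ]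
      rfl
    rw [e] at h
    exact Nat.eq_of_mul_eq_mul_right hq h

theorem sum_odd (m : ℕ) : ∑ i ∈ Finset.range m, (2 * i + 1) = m ^ 2 := by
  induction m with
  | zero => simp
  | succ m ih =>
    rw [Finset.sum_range_succ, ih]
    ring

/-- Order of the finite symplectic group: |Sp_{2m}(q)| = q^(m^2) * prod_{i=1}^{m} (q^(2i) - 1). -/
theorem result {F : Type*} [Field F] [Fintype F] {q : ℕ} (hF : Fintype.card F = q) (m : ℕ) : Nat.card (Matrix.symplecticGroup (Fin m) F) = q ^ (m ^ 2) * ∏ i ∈ Finset.range m, (q ^ (2 * (i + 1)) - 1) := by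
  classical
  have h1 : Nat.card (Matrix.symplecticGroup (Fin m) F) = Nat.card (Gj m F m) := by
    rw [Gj_top]; exact (Subgroup.card_top).symm
  rw [h1, card_Gj m le_rfl, hF, Finset.prod_mul_distrib, Finset.prod_pow_eq_pow_sum, sum_odd,
    mul_comm]

end Cfsg.Agent.S0245
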