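import Mathlib
import Cfsg.Prelude.Def_Classical
import Cfsg.Agent.Lib_helper13_SpAdjD
import Cfsg.Agent.S0245

/-! An element of order `r p` in `PSp(2n, q)` when `η(k) ≤ n - 1`. -/

set_option autoImplicit false

namespace Cfsg.Agent.helper13

open Matrix Module

section exelt
variable {F : Type*} [Field F] [Fintype F] {n : ℕ}

theorem spadj_transv_pow (e : Fin n ⊕ Fin n → F) (j : ℕ) :
    (Cfsg.sympTransvection n e 1) ^ j = Cfsg.sympTransvection n e (j : F) := by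
  induction j with
  | zero => rw [pow_zero, Nat.cast_zero, Cfsg.Agent.helper4.sympTransvection_zero]
  | succ j ih =>
    rw [pow_succ, ih, Cfsg.Agent.helper4.sympTransvection_mul, Nat.cast_succ]

theorem spadj_exists_elt (p : ℕ) [Fact p.Prime] [CharP F p] (hn : 2 ≤ n) (r : ℕ) (hr : r.Prime)
    (hr2 : r ≠ 2) (hrp : r ≠ p) (k ηk : ℕ) (hk : k = orderOf ((Fintype.card F : ℕ) : ZMod r))
    (hηk : (Odd k ∧ ηk = k) ∨ (Even k ∧ 2 * ηk = k)) (hcond : ηk ≤ n - 1) :
    ∃ g : Cfsg.PSp n F, orderOf g = r * p := by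
  classical
  have hp : p.Prime := Fact.out
  haveI : Fact r.Prime := ⟨hr⟩
  have hne : ((Fintype.card F : ℕ) : ZMod r) ≠ 0 := by
    intro h
    rw [ZMod.natCast_eq_zero_iff] at h
    obtain ⟨a, -, ha⟩ := FiniteField.card F p
    rw [ha] at h
    exact hrp ((Nat.prime_dvd_prime_iff_eq hr hp).mp (hr.dvd_of_dvd_pow h))
  have hk1 : 1 ≤ k := by
    have h1 := ZMod.pow_card_sub_one_eq_one hne
    rw [hk]
    exact orderOf_pos_iff.mpr (isOfFinOrder_iff_pow_eq_one.mpr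
      ⟨r - 1, by have := hr.two_le; omega, h1⟩)
  have hη1 : 1 ≤ ηk := by
    rcases hηk with ⟨_, h⟩ | ⟨_, h⟩ <;> omega
  have hkdvd : k ∣ 2 * ηk := by
    rcases hηk with ⟨_, h⟩ | ⟨_, h⟩
    · rw [h]
      exact dvd_mul_left _ _
    · rw [h]
  have hpow1 : ((Fintype.card F : ℕ) : ZMod r) ^ (2 * ηk) = 1 := by
    rw [← orderOf_dvd_iff_pow_eq_one, ← hk]
    exact hkdvd
  have hrdvd : r ∣ Fintype.card F ^ (2 * ηk) - 1 := by
    have hq1 : 1 ≤ Fintype.card F ^ (2 * ηk) := Nat.one_le_pow _ _ Fintype.card_pos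
    rw [← ZMod.natCast_eq_zero_iff, Nat.cast_sub hq1, Nat.cast_pow, hpow1, Nat.cast_one, sub_self]
  have hcard := Cfsg.Agent.S0245.card_Gj (F := F) (m := n) (n - 1) (by omega)
  have hrH : r ∣ Nat.card (Cfsg.Agent.S0245.Gj n F (n - 1)) := by
    rw [hcard]
    have hmem : ηk - 1 ∈ Finset.range (n - 1) := by
      rw [Finset.mem_range]
      omega
    refine dvd_trans ?_ (Finset.dvd_prod_of_mem _ hmem)
    have e : 2 * (ηk - 1 + 1) = 2 * ηk := by omega
    rw [e]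
    exact dvd_mul_of_dvd_left hrdvd _
  obtain ⟨s₀, hs₀⟩ := exists_prime_orderOf_dvd_card' r hrH
  obtain ⟨s, hs⟩ : ∃ s : Matrix.symplecticGroup (Fin n) F, s = s₀.1 := ⟨_, rfl⟩
  have hsord : orderOf s = r := by
    rw [hs, Subgroup.orderOf_coe, hs₀]
  have hsmem : s ∈ Cfsg.Agent.S0245.Gj n F (n - 1) := by
    rw [hs]
    exact s₀.2
  obtain ⟨i₁, hi₁⟩ : ∃ i₁ : Fin n, i₁ = ⟨n - 1, by omega⟩ := ⟨_, rfl⟩
  have hi₁v : n - 1 ≤ i₁.val := by rw [hi₁]
  obtain ⟨e, he⟩ : ∃ e : Fin n ⊕ Fin n → F, e = Cfsg.Agent.S0245.eF (Sum.inl i₁) := ⟨_, rfl⟩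
  obtain ⟨f, hf⟩ : ∃ f : Fin n ⊕ Fin n → F, f = Cfsg.Agent.S0245.eF (Sum.inr i₁) := ⟨_, rfl⟩
  have hse : s.1 *ᵥ e = e := by
    rw [he]
    exact (Cfsg.Agent.S0245.fix_of_mem_Gj (n - 1) s hsmem i₁ hi₁v).1
  have hee : e (Sum.inl i₁) = 1 := by
    rw [he]
    unfold Cfsg.Agent.S0245.eF
    rw [Pi.single_eq_same]
  have hfe : Cfsg.sympForm n F f e = 1 := by
    rw [he, Cfsg.Agent.S0245.form_eV_inl, hf]
    unfold Cfsg.Agent.S0245.eF
    rw [Pi.single_eq_same]
  obtain ⟨T, hT⟩ : ∃ T : Matrix (Fin n ⊕ Fin n) (Fin n ⊕ Fin n) F,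
      T = Cfsg.sympTransvection n e 1 := ⟨_, rfl⟩
  have hTmem : T ∈ Matrix.symplecticGroup (Fin n) F := by
    rw [hT]
    exact Cfsg.Agent.helper4.sympTransvection_mem e 1
  have hTapp : ∀ x, T *ᵥ x = x + (Cfsg.sympForm n F x e) • e := by
    intro x
    rw [hT, Cfsg.Agent.helper4.sympTransvection_mulVec, one_mul]
  obtain ⟨u, hu⟩ : ∃ u : Matrix.symplecticGroup (Fin n) F, u = ⟨T, hTmem⟩ := ⟨_, rfl⟩
  have hu1v : u.1 = T := by rw [hu]
  have hcoe_mul : ∀ A B : Matrix.symplecticGroup (Fin n) F, (A * B).1 = A.1 * B.1 :=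
    fun _ _ => rfl
  have hcoe_pow : ∀ (A : Matrix.symplecticGroup (Fin n) F) (j : ℕ), (A ^ j).1 = A.1 ^ j :=
    fun A j => SubmonoidClass.coe_pow A j
  have hup : u ^ p = 1 := by
    apply Subtype.ext
    rw [hcoe_pow, hu1v, hT, spadj_transv_pow, CharP.cast_eq_zero F p,
      Cfsg.Agent.helper4.sympTransvection_zero]
    rfl
  have hune1 : u ≠ 1 := by
    intro h
    have h1 : T = 1 := by
      rw [← hu1v, h]
      rfl
    have h2 := hTapp f
    rw [h1, Matrix.one_mulVec, hfe, one_smul] at h2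
    have h3 : e = 0 := by
      have := congrArg (fun w => w - f) h2
      simp only [sub_self, add_sub_cancel_left] at this
      exact this.symm
    rw [h3] at hee
    exact zero_ne_one hee
  have huord : orderOf u = p := orderOf_eq_prime hup hune1
  have hcomm : Commute s u := by
    show s * u = u * s
    apply Subtype.ext
    rw [hcoe_mul, hcoe_mul, hu1v]
    apply Matrix.toLin'.injective
    apply LinearMap.ext
    intro x
    rw [Matrix.toLin'_apply, Matrix.toLin'_apply, ← Matrix.mulVec_mulVec, ← Matrix.mulVec_mulVec,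
      hTapp, hTapp, Matrix.mulVec_add, Matrix.mulVec_smul, hse]
    congr 2
    nth_rw 2 [← hse]
    rw [Cfsg.Agent.S0766.sympForm_mulVec]
  have hxord : orderOf (s * u) = r * p := by
    rw [hcomm.orderOf_mul_eq_mul_orderOf_of_coprime, hsord, huord]
    rw [hsord, huord]
    exact (Nat.coprime_primes hr hp).mpr hrp
  have hxe : (s * u).1 *ᵥ e = e := by
    rw [hcoe_mul, hu1v, ← Matrix.mulVec_mulVec, hTapp, Cfsg.Agent.helper4.sympForm_self, zero_smul,
      add_zero, hse]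
  have hxpe : ∀ j : ℕ, ((s * u) ^ j).1 *ᵥ e = e := by
    intro j
    induction j with
    | zero =>
      rw [pow_zero]
      exact Matrix.one_mulVec e
    | succ j ih =>
      rw [pow_succ, hcoe_mul, ← Matrix.mulVec_mulVec, hxe, ih]
  refine ⟨QuotientGroup.mk (s * u), ?_⟩
  rw [← hxord]
  rw [orderOf_eq_orderOf_iff]
  intro j
  rw [← QuotientGroup.mk_pow, QuotientGroup.eq_one_iff]
  constructor
  · intro hc
    obtain ⟨c, -, hcs⟩ := Cfsg.Agent.S0246.center_scalar (by omega) _ hc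
    have h1 := hxpe j
    rw [hcs, Matrix.smul_mulVec, Matrix.one_mulVec] at h1
    have h2 := congrFun h1 (Sum.inl i₁)
    rw [Pi.smul_apply, hee, smul_eq_mul, mul_one] at h2
    apply Subtype.ext
    rw [hcs, h2, one_smul]
    rfl
  · intro h
    rw [h]
    exact Subgroup.one_mem _

end exelt

end Cfsg.Agent.helper13
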