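import Mathlib

set_option autoImplicit false

namespace Cfsg.Agent.helper13

section split
variable {G₀ G A : Type*} [Group G₀] [Group G] [CommGroup A]

/-- Splitting of a conjugacy class of `G` into classes of the kernel of a homomorphism onto a
commutative group: the classes correspond to the cosets of the image of the centralizer. -/
theorem card_classes_split (ι : G₀ →* G) (hι : Function.Injective ι) (δ : G →* A)
    (hδ : Function.Surjective δ) (hker : ∀ g, δ g = 1 ↔ g ∈ ι.range) (u₀ : G) (hu₀ : δ u₀ = 1)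
    (H : Subgroup A) (hH : ∀ a, a ∈ H ↔ ∃ z : G, z * u₀ = u₀ * z ∧ δ z = a) :
    Nat.card {C : ConjClasses G₀ // ∃ u : G₀, ConjClasses.mk u = C ∧
      ∃ g : G, g * u₀ * g⁻¹ = ι u} = H.index := by
  classical
  choose σ hσ using hδ
  have hex : ∀ g : G, ∃ u : G₀, ι u = g * u₀ * g⁻¹ := by
    intro g
    have h1 : δ (g * u₀ * g⁻¹) = 1 := by
      rw [map_mul, map_mul, map_inv, hu₀, mul_one, mul_inv_cancel]
    exact (hker _).mp h1
  choose τ hτ using hex
  have key : ∀ g g' : G, IsConj (τ g) (τ g') ↔ (δ g)⁻¹ * δ g' ∈ H := by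
    intro g g'
    rw [isConj_iff]
    constructor
    · rintro ⟨s, hs⟩
      have h1 : ι s * (g * u₀ * g⁻¹) * (ι s)⁻¹ = g' * u₀ * g'⁻¹ := by
        rw [← hτ g, ← hτ g', ← map_inv, ← map_mul, ← map_mul, hs]
      have hs1 : δ (ι s) = 1 := (hker _).mpr ⟨s, rfl⟩
      have h2 : g'⁻¹ * (ι s * (g * u₀ * g⁻¹) * (ι s)⁻¹) * g' = u₀ := by
        rw [h1]; group
      have hz : (g'⁻¹ * ι s * g) * u₀ = u₀ * (g'⁻¹ * ι s * g) := by
        calc (g'⁻¹ * ι s * g) * u₀
            = (g'⁻¹ * (ι s * (g * u₀ * g⁻¹) * (ι s)⁻¹) * g') * (g'⁻¹ * ι s * g) := by group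
          _ = u₀ * (g'⁻¹ * ι s * g) := by rw [h2]
      have hmem : (δ g')⁻¹ * δ g ∈ H := (hH _).mpr ⟨_, hz, by
        rw [map_mul, map_mul, map_inv, hs1, mul_one]⟩
      have h3 := H.inv_mem hmem
      rwa [mul_inv_rev, inv_inv] at h3
    · intro hmem
      obtain ⟨z, hz, hδz⟩ := (hH _).mp hmem
      have h1 : δ (g' * z⁻¹ * g⁻¹) = 1 := by
        rw [map_mul, map_mul, map_inv, map_inv, hδz]
        group
      obtain ⟨s, hs⟩ := (hker _).mp h1
      refine ⟨s, hι ?_⟩
      rw [map_mul, map_mul, map_inv, hτ, hτ, hs]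
      have hz' : z⁻¹ * u₀ * z = u₀ := by
        rw [mul_assoc, ← hz, ← mul_assoc, inv_mul_cancel, one_mul]
      calc g' * z⁻¹ * g⁻¹ * (g * u₀ * g⁻¹) * (g' * z⁻¹ * g⁻¹)⁻¹
          = g' * (z⁻¹ * u₀ * z) * g'⁻¹ := by group
        _ = g' * u₀ * g'⁻¹ := by rw [hz']
  let X := {C : ConjClasses G₀ // ∃ u : G₀, ConjClasses.mk u = C ∧ ∃ g : G, g * u₀ * g⁻¹ = ι u}
  let F : A ⧸ H → X := Quotient.lift
    (fun a => (⟨ConjClasses.mk (τ (σ a)), τ (σ a), rfl, σ a, (hτ _).symm⟩ : X))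
    (by
      intro a b hab
      apply Subtype.ext
      show ConjClasses.mk (τ (σ a)) = ConjClasses.mk (τ (σ b))
      rw [ConjClasses.mk_eq_mk_iff_isConj, key, hσ, hσ]
      exact QuotientGroup.leftRel_apply.mp hab)
  have hF : Function.Bijective F := by
    constructor
    · intro x y
      refine Quotient.inductionOn₂ x y ?_
      intro a b hab
      have h1 : ConjClasses.mk (τ (σ a)) = ConjClasses.mk (τ (σ b)) := congrArg Subtype.val hab
      rw [ConjClasses.mk_eq_mk_iff_isConj, key, hσ, hσ] at h1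
      exact Quotient.sound (QuotientGroup.leftRel_apply.mpr h1)
    · rintro ⟨C, u, rfl, g, hg⟩
      refine ⟨Quotient.mk _ (δ g), ?_⟩
      apply Subtype.ext
      show ConjClasses.mk (τ (σ (δ g))) = ConjClasses.mk u
      have hu : u = τ g := hι (by rw [hτ, hg])
      rw [hu, ConjClasses.mk_eq_mk_iff_isConj, key, hσ, inv_mul_cancel]
      exact H.one_mem
  rw [Subgroup.index, ← Nat.card_congr (Equiv.ofBijective F hF)]

end split

end Cfsg.Agent.helper13
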