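import Mathlib
import Cfsg.Agent.Lib_helper13_Sr2
import Cfsg.Agent.Lib_helper13_RootT

/-! Siegel transvection groups: opposite lines give rank one pairs; the other two positions do
not. -/

set_option autoImplicit false

namespace Cfsg.Agent.helper13

open Module Matrix QuadraticMap Cfsg.Agent.S0794
open scoped commutatorElement

section sr3
variable {F : Type*} [Field F] {ι : Type} [Fintype ι] [DecidableEq ι]
variable (Q : QuadraticForm F (ι → F))

theorem TgL_smul_smul (x y : ι → F) (s t : F) (hs : s ≠ 0) (ht : t ≠ 0) :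
    TgL Q (s • x) (t • y) = TgL Q x y := by
  apply le_antisymm
  · apply TgL_le
    intro v h1 h2
    rw [polar_smul_right, polar_smul_right, h1, h2, smul_zero, smul_zero]
    exact ⟨rfl, rfl⟩
  · apply TgL_le
    intro v h1 h2
    rw [polar_smul_right, smul_eq_mul] at h1 h2
    exact ⟨(mul_eq_zero.mp h1).resolve_left hs, (mul_eq_zero.mp h2).resolve_left ht⟩

/-- equal groups have the same fixed hyperplanes -/
theorem TgL_eq_imp (p r p' r' : ι → F) (h : IsSLine Q p r) (heq : TgL Q p r = TgL Q p' r')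
    (x : ι → F) (hx1 : polar (⇑Q) x p' = 0) (hx2 : polar (⇑Q) x r' = 0) :
    polar (⇑Q) p x = 0 ∧ polar (⇑Q) r x = 0 := by
  have h1 : sieG Q p r h.2.1 h.2.2.1 h.2.2.2 1 ∈ TgL Q p' r' :=
    heq ▸ sieG_mem_TgL Q p r _ _ _ 1
  have h2 := h1 x hx1 hx2
  rw [iact_sieG, one_smul, add_eq_left] at h2
  have h3 := LinearIndependent.pair_iff.mp h.1 (-polar (⇑Q) r x) (polar (⇑Q) p x) (by
    rw [← h2]
    module)
  exact ⟨h3.2, neg_eq_zero.mp h3.1⟩

theorem IsSLine.iact {p r : ι → F} (h : IsSLine Q p r) (g : ↥(Cfsg.isometryGroup F ⇑Q)) :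
    IsSLine Q (iact g p) (iact g r) := by
  obtain ⟨h1, h2, h3, h4⟩ := h
  refine ⟨?_, by rw [Q_iact]; exact h2, by rw [Q_iact]; exact h3, by rw [polar_iact]; exact h4⟩
  rw [LinearIndependent.pair_iff] at h1 ⊢
  intro s t hst
  apply h1
  have e : Cfsg.Agent.helper13.iact g (s • p + t • r) = 0 := by
    rw [iact_add, iact_smul, iact_smul]
    exact hst
  have e2 := iact_inv_iact g (s • p + t • r)
  rw [e, iact_zero] at e2
  exact e2.symm

theorem rankOneCond_opp (hQ : (polarBilin Q).Nondegenerate) (p r p' r' : ι → F)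
    (h : IsSLine Q p r) (h' : IsSLine Q p' r') (h1 : polar (⇑Q) p r' = 1)
    (h2 : polar (⇑Q) r p' = -1) (h3 : polar (⇑Q) p p' = 0) (h4 : polar (⇑Q) r r' = 0) :
    Cfsg.RankOneCondition (TgL Q p r) (TgL Q p' r') := by
  intro a ha ha1
  obtain ⟨c, rfl⟩ := (mem_TgL_iff Q hQ p r h a).mp ha
  have hc : c ≠ 0 := fun hc => ha1 ((sieG_eq_one_iff Q hQ p r h c).mpr hc)
  refine ⟨sieG Q p' r' h'.2.1 h'.2.2.1 h'.2.2.2 (-c⁻¹), sieG_mem_TgL Q p' r' _ _ _ _, ?_, ?_⟩
  · rw [Ne, sieG_eq_one_iff Q hQ p' r' h']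
    exact neg_ne_zero.mpr (inv_ne_zero hc)
  · rw [conj_TgL, conj_TgL, sieG_inv, sieG_inv, iact_sieG, iact_sieG, iact_sieG, iact_sieG]
    rw [polar_comm (⇑Q) p' p, polar_comm (⇑Q) r' p, polar_comm (⇑Q) p' r, polar_comm (⇑Q) r' r,
      h1, h2, h3, h4]
    have e1 : p + - -c⁻¹ • ((0 : F) • r' - (1 : F) • p') = (-c⁻¹) • (p' + -c • ((0 : F) • r - (-1 : F) • p)) := by
      rw [smul_add, smul_smul]
      have : -c⁻¹ * -c = 1 := by field_simp
      rw [this]
      module
    have e2 : r + - -c⁻¹ • ((-1 : F) • r' - (0 : F) • p') = (-c⁻¹) • (r' + -c • ((1 : F) • r - (0 : F) • p)) := by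
      rw [smul_add, smul_smul]
      have : -c⁻¹ * -c = 1 := by field_simp
      rw [this]
      module
    rw [e1, e2, TgL_smul_smul Q _ _ _ _ (neg_ne_zero.mpr (inv_ne_zero hc))
      (neg_ne_zero.mpr (inv_ne_zero hc))]

theorem rankOnePair_opp (hQ : (polarBilin Q).Nondegenerate) (p r p' r' : ι → F)
    (h : IsSLine Q p r) (h' : IsSLine Q p' r') (h1 : polar (⇑Q) p r' = 1)
    (h2 : polar (⇑Q) r p' = -1) (h3 : polar (⇑Q) p p' = 0) (h4 : polar (⇑Q) r r' = 0) :
    Cfsg.IsRankOnePair (TgL Q p r) (TgL Q p' r') := by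
  refine ⟨?_, isNilpotent_of_comm' _ (TgL_comm Q hQ p r h),
    isNilpotent_of_comm' _ (TgL_comm Q hQ p' r' h'), rankOneCond_opp Q hQ p r p' r' h h' h1 h2 h3 h4,
    ?_⟩
  · intro heq
    have hp'p' : polar (⇑Q) p' p' = 0 := by rw [polar_self', h'.2.1, mul_zero]
    have := (TgL_eq_imp Q p r p' r' h heq p' hp'p' h'.2.2.2).2
    rw [h2] at this
    exact one_ne_zero (neg_eq_zero.mp this)
  · have := rankOneCond_opp Q hQ r' p' r p (h'.swap Q) (h.swap Q)
      (by rw [polar_comm]; exact h1) (by rw [polar_comm]; exact h2)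
      (by rw [polar_comm]; exact h4) (by rw [polar_comm]; exact h3)
    rw [TgL_swap Q p' r', TgL_swap Q p r] at this
    exact this

/-- the commutator position is not a rank one pair -/
theorem not_rankOnePair_comm (hQ : (polarBilin Q).Nondegenerate) (e u f v : ι → F)
    (h : IsSLine Q e u) (h' : IsSLine Q f v) (huv : polar (⇑Q) u v = 0)
    (hef : polar (⇑Q) e f = 1) (hev : polar (⇑Q) e v = 0) (hfu : polar (⇑Q) f u = 0) :
    ¬ Cfsg.IsRankOnePair (TgL Q e u) (TgL Q f v) := by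
  intro hr
  have ha1 : sieG Q e u h.2.1 h.2.2.1 h.2.2.2 1 ≠ 1 := by
    rw [Ne, sieG_eq_one_iff Q hQ e u h]
    exact one_ne_zero
  obtain ⟨b, hb, -, hab⟩ := hr.cond_left _ (sieG_mem_TgL Q e u _ _ _ 1) ha1
  obtain ⟨d, rfl⟩ := (mem_TgL_iff Q hQ f v h' b).mp hb
  rw [conj_TgL, conj_TgL, sieG_inv, sieG_inv, iact_sieG, iact_sieG, iact_sieG, iact_sieG] at hab
  have hfe : polar (⇑Q) f e = 1 := by rw [polar_comm]; exact hef
  have hve : polar (⇑Q) v e = 0 := by rw [polar_comm]; exact hev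
  have huf : polar (⇑Q) u f = 0 := by rw [polar_comm]; exact hfu
  have hvu : polar (⇑Q) v u = 0 := by rw [polar_comm]; exact huv
  have hue : polar (⇑Q) u e = 0 := by rw [polar_comm]; exact h.2.2.2
  have hvf : polar (⇑Q) v f = 0 := by rw [polar_comm]; exact h'.2.2.2
  have hee : polar (⇑Q) e e = 0 := by rw [polar_self', h.2.1, mul_zero]
  have hff : polar (⇑Q) f f = 0 := by rw [polar_self', h'.2.1, mul_zero]
  have huu : polar (⇑Q) u u = 0 := by rw [polar_self', h.2.2.1, mul_zero]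
  have hvv : polar (⇑Q) v v = 0 := by rw [polar_self', h'.2.2.1, mul_zero]
  rw [hfe, hve, huf, hvu, hef, huv, hev, hfu] at hab
  -- the left group moves a vector fixed by the right group
  have hl : IsSLine Q (e + -d • ((1 : F) • v - (0 : F) • f)) (u + -d • ((0 : F) • v - (0 : F) • f)) := by
    have := (h.iact Q (sieG Q f v h'.2.1 h'.2.2.1 h'.2.2.2 (-d)))
    rw [iact_sieG, iact_sieG, hfe, hve, hfu, hvu] at this
    exact this
  obtain ⟨x, hx⟩ : ∃ x : ι → F, x = f + -(1 : F) • ((1 : F) • u - (0 : F) • e) := ⟨_, rfl⟩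
  have k := TgL_eq_imp Q _ _ _ _ hl hab x (by
      rw [hx]
      simp only [polar_add_left, polar_add_right, polar_smul_left, polar_smul_right,
        polar_sub_left, polar_sub_right, smul_eq_mul, hfe, hve, huf, hvu, hef, huv, hev, hfu, hue,
        hvf, hee, hff, huu, hvv, h.2.2.2, h'.2.2.2]
      ring) (by
      rw [hx]
      simp only [polar_add_left, polar_add_right, polar_smul_left, polar_smul_right,
        polar_sub_left, polar_sub_right, smul_eq_mul, hfe, hve, huf, hvu, hef, huv, hev, hfu, hue,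
        hvf, hee, hff, huu, hvv, h.2.2.2, h'.2.2.2]
      ring)
  have k1 := k.1
  rw [hx] at k1
  simp only [polar_add_left, polar_add_right, polar_smul_left, polar_smul_right,
    polar_sub_left, polar_sub_right, smul_eq_mul, hfe, hve, huf, hvu, hef, huv, hev, hfu, hue,
    hvf, hee, hff, huu, hvv, h.2.2.2, h'.2.2.2] at k1
  have : (1 : F) = 0 := by linear_combination k1
  exact one_ne_zero this

end sr3

end Cfsg.Agent.helper13
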