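import Mathlib
import Cfsg.Agent.Lib_helper13_Sr3
import Cfsg.Agent.Lib_helper29_SL2gen
import Cfsg.Agent.Lib_helper4_Orth

/-! The copy of `SL₂` generated by the Siegel transvection groups of two opposite lines. -/

set_option autoImplicit false

namespace Cfsg.Agent.helper13

open Module Matrix QuadraticMap Cfsg.Agent.S0794 Cfsg.Agent.helper29.SL2gen
open scoped commutatorElement

section sr4
variable {F : Type*} [Field F] {ι : Type} [Fintype ι] [DecidableEq ι]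
variable (Q : QuadraticForm F (ι → F))

/-- two opposite lines in normalised position -/
structure OppFrame (p r p' r' : ι → F) : Prop where
  hl : IsSLine Q p r
  hl' : IsSLine Q p' r'
  h1 : polar (⇑Q) p r' = 1
  h2 : polar (⇑Q) r p' = -1
  h3 : polar (⇑Q) p p' = 0
  h4 : polar (⇑Q) r r' = 0

/-- the matrix of the action of a `2 × 2` matrix on the two hyperbolic planes -/
def PhiSg (p r p' r' : ι → F) (M : Matrix (Fin 2) (Fin 2) F) : Matrix ι ι F :=
  1 + Matrix.vecMulVec p ((M 0 0 - 1) • Cfsg.polarVec (⇑Q) r' - M 0 1 • Cfsg.polarVec (⇑Q) r)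
    + Matrix.vecMulVec r (M 0 1 • Cfsg.polarVec (⇑Q) p - (M 0 0 - 1) • Cfsg.polarVec (⇑Q) p')
    + Matrix.vecMulVec p' (M 1 0 • Cfsg.polarVec (⇑Q) r' - (M 1 1 - 1) • Cfsg.polarVec (⇑Q) r)
    + Matrix.vecMulVec r' ((M 1 1 - 1) • Cfsg.polarVec (⇑Q) p - M 1 0 • Cfsg.polarVec (⇑Q) p')

theorem PhiSg_mulVec (p r p' r' : ι → F) (M : Matrix (Fin 2) (Fin 2) F) (x : ι → F) :
    PhiSg Q p r p' r' M *ᵥ x = x +
      ((M 0 0 - 1) * polar (⇑Q) r' x - M 0 1 * polar (⇑Q) r x) • p +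
      (M 0 1 * polar (⇑Q) p x - (M 0 0 - 1) * polar (⇑Q) p' x) • r +
      (M 1 0 * polar (⇑Q) r' x - (M 1 1 - 1) * polar (⇑Q) r x) • p' +
      ((M 1 1 - 1) * polar (⇑Q) p x - M 1 0 * polar (⇑Q) p' x) • r' := by
  unfold PhiSg
  simp only [Matrix.add_mulVec, Matrix.one_mulVec, Matrix.vecMulVec_mulVec, op_smul_eq_smul,
    sub_dotProduct, smul_dotProduct, Cfsg.Agent.helper4.polarVec_dotProduct, smul_eq_mul]

theorem mat_ext_mulVec' {A B : Matrix ι ι F} (H : ∀ v, A *ᵥ v = B *ᵥ v) : A = B := by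
  apply Matrix.toLin'.injective
  apply LinearMap.ext
  intro v
  rw [Matrix.toLin'_apply, Matrix.toLin'_apply]
  exact H v

theorem PhiSg_one (p r p' r' : ι → F) : PhiSg Q p r p' r' 1 = 1 := by
  apply mat_ext_mulVec'
  intro v
  rw [PhiSg_mulVec, Matrix.one_mulVec]
  simp

theorem PhiSg_mul (p r p' r' : ι → F) (h : OppFrame Q p r p' r')
    (M N : Matrix (Fin 2) (Fin 2) F) :
    PhiSg Q p r p' r' (M * N) = PhiSg Q p r p' r' M * PhiSg Q p r p' r' N := by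
  obtain ⟨⟨-, hp, hr, hpr⟩, ⟨-, hp', hr', hpr'⟩, h1, h2, h3, h4⟩ := h
  have g1 : polar (⇑Q) r' p = 1 := by rw [polar_comm]; exact h1
  have g2 : polar (⇑Q) p' r = -1 := by rw [polar_comm]; exact h2
  have g3 : polar (⇑Q) p' p = 0 := by rw [polar_comm]; exact h3
  have g4 : polar (⇑Q) r' r = 0 := by rw [polar_comm]; exact h4
  have hrp : polar (⇑Q) r p = 0 := by rw [polar_comm]; exact hpr
  have hrp' : polar (⇑Q) r' p' = 0 := by rw [polar_comm]; exact hpr'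
  have hpp : polar (⇑Q) p p = 0 := by rw [polar_self', hp, mul_zero]
  have hrr : polar (⇑Q) r r = 0 := by rw [polar_self', hr, mul_zero]
  have hpp' : polar (⇑Q) p' p' = 0 := by rw [polar_self', hp', mul_zero]
  have hrr' : polar (⇑Q) r' r' = 0 := by rw [polar_self', hr', mul_zero]
  apply mat_ext_mulVec'
  intro x
  rw [← Matrix.mulVec_mulVec, PhiSg_mulVec Q p r p' r' N x, PhiSg_mulVec, PhiSg_mulVec]
  simp only [polar_add_right, polar_smul_right, smul_eq_mul, h1, h2, h3, h4, g1, g2, g3, g4, hpr,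
    hrp, hpr', hrp', hpp, hrr, hpp', hrr', Matrix.mul_apply, Fin.sum_univ_two]
  module

theorem PhiSg_Q (p r p' r' : ι → F) (h : OppFrame Q p r p' r')
    (M : Matrix (Fin 2) (Fin 2) F) (hdet : M.det = 1) (x : ι → F) :
    Q (PhiSg Q p r p' r' M *ᵥ x) = Q x := by
  obtain ⟨⟨-, hp, hr, hpr⟩, ⟨-, hp', hr', hpr'⟩, h1, h2, h3, h4⟩ := h
  have g1 : polar (⇑Q) r' p = 1 := by rw [polar_comm]; exact h1
  have g2 : polar (⇑Q) p' r = -1 := by rw [polar_comm]; exact h2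
  have g3 : polar (⇑Q) p' p = 0 := by rw [polar_comm]; exact h3
  have g4 : polar (⇑Q) r' r = 0 := by rw [polar_comm]; exact h4
  have hrp : polar (⇑Q) r p = 0 := by rw [polar_comm]; exact hpr
  have hrp' : polar (⇑Q) r' p' = 0 := by rw [polar_comm]; exact hpr'
  rw [Matrix.det_fin_two] at hdet
  rw [PhiSg_mulVec]
  obtain ⟨a₁, ha₁⟩ : ∃ a₁ : F, a₁ = (M 0 0 - 1) * polar (⇑Q) r' x - M 0 1 * polar (⇑Q) r x :=
    ⟨_, rfl⟩
  obtain ⟨a₂, ha₂⟩ : ∃ a₂ : F, a₂ = M 0 1 * polar (⇑Q) p x - (M 0 0 - 1) * polar (⇑Q) p' x :=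
    ⟨_, rfl⟩
  obtain ⟨a₃, ha₃⟩ : ∃ a₃ : F, a₃ = M 1 0 * polar (⇑Q) r' x - (M 1 1 - 1) * polar (⇑Q) r x :=
    ⟨_, rfl⟩
  obtain ⟨a₄, ha₄⟩ : ∃ a₄ : F, a₄ = (M 1 1 - 1) * polar (⇑Q) p x - M 1 0 * polar (⇑Q) p' x :=
    ⟨_, rfl⟩
  rw [← ha₁, ← ha₂, ← ha₃, ← ha₄]
  have e : x + a₁ • p + a₂ • r + a₃ • p' + a₄ • r' = x + ((a₁ • p + a₂ • r) + (a₃ • p' + a₄ • r')) := by
    abel
  rw [e, Q_add_polar, Q_add_polar, Q_comb2, Q_comb2, hp, hr, hp', hr', hpr, hpr']
  simp only [polar_add_right, polar_add_left, polar_smul_right, polar_smul_left, smul_eq_mul, h1, h2,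
    h3, h4]
  rw [polar_comm (⇑Q) x p, polar_comm (⇑Q) x r, polar_comm (⇑Q) x p', polar_comm (⇑Q) x r']
  rw [ha₁, ha₂, ha₃, ha₄]
  linear_combination (polar (⇑Q) p x * polar (⇑Q) r' x - polar (⇑Q) r x * polar (⇑Q) p' x) * hdet

/-- the homomorphism from `SL₂` -/
def phiSg (p r p' r' : ι → F) (h : OppFrame Q p r p' r') :
    Matrix.SpecialLinearGroup (Fin 2) F →* ↥(Cfsg.isometryGroup F ⇑Q) where
  toFun M := ⟨⟨PhiSg Q p r p' r' (M : Matrix (Fin 2) (Fin 2) F),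
      PhiSg Q p r p' r' ((M⁻¹ : Matrix.SpecialLinearGroup (Fin 2) F) : Matrix (Fin 2) (Fin 2) F),
      by rw [← PhiSg_mul Q p r p' r' h, ← Matrix.SpecialLinearGroup.coe_mul, mul_inv_cancel,
        Matrix.SpecialLinearGroup.coe_one, PhiSg_one],
      by rw [← PhiSg_mul Q p r p' r' h, ← Matrix.SpecialLinearGroup.coe_mul, inv_mul_cancel,
        Matrix.SpecialLinearGroup.coe_one, PhiSg_one]⟩, by
      intro x _
      exact PhiSg_Q Q p r p' r' h _ M.2 x⟩
  map_one' := by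
    apply Subtype.ext
    apply Units.ext
    exact PhiSg_one Q p r p' r'
  map_mul' M N := by
    apply Subtype.ext
    apply Units.ext
    exact PhiSg_mul Q p r p' r' h _ _

theorem iact_phiSg (p r p' r' : ι → F) (h : OppFrame Q p r p' r')
    (M : Matrix.SpecialLinearGroup (Fin 2) F) (x : ι → F) :
    iact (phiSg Q p r p' r' h M) x = x +
      (((M : Matrix (Fin 2) (Fin 2) F) 0 0 - 1) * polar (⇑Q) r' x -
        (M : Matrix (Fin 2) (Fin 2) F) 0 1 * polar (⇑Q) r x) • p +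
      ((M : Matrix (Fin 2) (Fin 2) F) 0 1 * polar (⇑Q) p x -
        ((M : Matrix (Fin 2) (Fin 2) F) 0 0 - 1) * polar (⇑Q) p' x) • r +
      ((M : Matrix (Fin 2) (Fin 2) F) 1 0 * polar (⇑Q) r' x -
        ((M : Matrix (Fin 2) (Fin 2) F) 1 1 - 1) * polar (⇑Q) r x) • p' +
      (((M : Matrix (Fin 2) (Fin 2) F) 1 1 - 1) * polar (⇑Q) p x -
        (M : Matrix (Fin 2) (Fin 2) F) 1 0 * polar (⇑Q) p' x) • r' :=
  PhiSg_mulVec Q p r p' r' _ x

theorem phiSg_UU (p r p' r' : ι → F) (h : OppFrame Q p r p' r') (t : F) :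
    phiSg Q p r p' r' h (UU t) = sieG Q p r h.hl.2.1 h.hl.2.2.1 h.hl.2.2.2 t := by
  apply iact_ext
  intro x
  rw [iact_phiSg, iact_sieG]
  show x + (((1 : F) - 1) * _ - t * _) • p + (t * _ - ((1 : F) - 1) * _) • r +
    ((0 : F) * _ - ((1 : F) - 1) * _) • p' + (((1 : F) - 1) * _ - (0 : F) * _) • r' = _
  module

theorem phiSg_LL (p r p' r' : ι → F) (h : OppFrame Q p r p' r') (t : F) :
    phiSg Q p r p' r' h (LL t) = sieG Q p' r' h.hl'.2.1 h.hl'.2.2.1 h.hl'.2.2.2 (-t) := by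
  apply iact_ext
  intro x
  rw [iact_phiSg, iact_sieG]
  show x + (((1 : F) - 1) * _ - (0 : F) * _) • p + ((0 : F) * _ - ((1 : F) - 1) * _) • r +
    (t * _ - ((1 : F) - 1) * _) • p' + (((1 : F) - 1) * _ - t * _) • r' = _
  module

theorem phiSg_injective (p r p' r' : ι → F) (h : OppFrame Q p r p' r') :
    Function.Injective (phiSg Q p r p' r' h) := by
  rw [injective_iff_map_eq_one]
  intro M hM
  have e1 := iact_phiSg Q p r p' r' h M p
  have e2 := iact_phiSg Q p r p' r' h M p'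
  rw [hM, iact_one] at e1 e2
  obtain ⟨⟨-, hp, hr, hpr⟩, ⟨-, hp', hr', hpr'⟩, h1, h2, h3, h4⟩ := h
  have g1 : polar (⇑Q) r' p = 1 := by rw [polar_comm]; exact h1
  have g2 : polar (⇑Q) p' r = -1 := by rw [polar_comm]; exact h2
  have g3 : polar (⇑Q) p' p = 0 := by rw [polar_comm]; exact h3
  have g4 : polar (⇑Q) r' r = 0 := by rw [polar_comm]; exact h4
  have hrp : polar (⇑Q) r p = 0 := by rw [polar_comm]; exact hpr
  have hrp' : polar (⇑Q) r' p' = 0 := by rw [polar_comm]; exact hpr'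
  have hpp : polar (⇑Q) p p = 0 := by rw [polar_self', hp, mul_zero]
  have hrr : polar (⇑Q) r r = 0 := by rw [polar_self', hr, mul_zero]
  have hpp' : polar (⇑Q) p' p' = 0 := by rw [polar_self', hp', mul_zero]
  have hrr' : polar (⇑Q) r' r' = 0 := by rw [polar_self', hr', mul_zero]
  rw [g1, hrp, hpp, g3] at e1
  rw [hrp', h2, h3, hpp'] at e2
  have f1 := congrArg (fun y => polar (⇑Q) r' y) e1
  have f2 := congrArg (fun y => polar (⇑Q) r y) e1
  have f3 := congrArg (fun y => polar (⇑Q) r' y) e2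
  have f4 := congrArg (fun y => polar (⇑Q) r y) e2
  simp only [polar_add_right, polar_smul_right, smul_eq_mul, h1, h2, h3, h4, g1, g2, g3, g4, hpr,
    hrp, hpr', hrp', hpp, hrr, hpp', hrr'] at f1 f2 f3 f4
  apply Subtype.ext
  ext i j
  fin_cases i <;> fin_cases j
  · show (M : Matrix (Fin 2) (Fin 2) F) 0 0 = 1
    linear_combination -f1
  · show (M : Matrix (Fin 2) (Fin 2) F) 0 1 = 0
    linear_combination -f3
  · show (M : Matrix (Fin 2) (Fin 2) F) 1 0 = 0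
    linear_combination f2
  · show (M : Matrix (Fin 2) (Fin 2) F) 1 1 = 1
    linear_combination f4

theorem phiSg_map_upper (hQ : (polarBilin Q).Nondegenerate) (p r p' r' : ι → F)
    (h : OppFrame Q p r p' r') :
    (Cfsg.upperUnipotentSL2 F).map (phiSg Q p r p' r' h) = TgL Q p r := by
  rw [upper_eq, MonoidHom.map_closure]
  have : (phiSg Q p r p' r' h) '' (Set.range (UU (k := F))) = (TgL Q p r : Set _) := by
    ext g
    constructor
    · rintro ⟨_, ⟨t, rfl⟩, rfl⟩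
      rw [phiSg_UU]
      exact sieG_mem_TgL Q p r _ _ _ t
    · intro hg
      obtain ⟨c, rfl⟩ := (mem_TgL_iff Q hQ p r h.hl g).mp hg
      exact ⟨UU c, ⟨c, rfl⟩, phiSg_UU Q p r p' r' h c⟩
  rw [this, Subgroup.closure_eq]

theorem phiSg_map_lower (hQ : (polarBilin Q).Nondegenerate) (p r p' r' : ι → F)
    (h : OppFrame Q p r p' r') :
    (Cfsg.lowerUnipotentSL2 F).map (phiSg Q p r p' r' h) = TgL Q p' r' := by
  rw [lower_eq, MonoidHom.map_closure]
  have : (phiSg Q p r p' r' h) '' (Set.range (LL (k := F))) = (TgL Q p' r' : Set _) := by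
    ext g
    constructor
    · rintro ⟨_, ⟨t, rfl⟩, rfl⟩
      rw [phiSg_LL]
      exact sieG_mem_TgL Q p' r' _ _ _ _
    · intro hg
      obtain ⟨c, rfl⟩ := (mem_TgL_iff Q hQ p' r' h.hl' g).mp hg
      exact ⟨LL (-c), ⟨-c, rfl⟩, by rw [phiSg_LL]; congr 1; exact neg_neg c⟩
  rw [this, Subgroup.closure_eq]

theorem isPSL2Pair_opp (hQ : (polarBilin Q).Nondegenerate) (p r p' r' : ι → F)
    (h : OppFrame Q p r p' r') : Cfsg.IsPSL2PairOver F (TgL Q p r) (TgL Q p' r') := by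
  refine ⟨phiSg Q p r p' r' h, ?_, ?_, phiSg_map_upper Q hQ p r p' r' h,
    phiSg_map_lower Q hQ p r p' r' h⟩
  · rw [MonoidHom.range_eq_map, ← sl2_gen, Subgroup.map_sup, phiSg_map_upper Q hQ,
      phiSg_map_lower Q hQ]
  · rw [(MonoidHom.ker_eq_bot_iff _).mpr (phiSg_injective Q p r p' r' h)]
    exact bot_le

end sr4

end Cfsg.Agent.helper13
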