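import Mathlib
import Cfsg.Agent.Lib_helper13_Sr4

/-! The commutator position of two totally singular lines, and the root subgroup axioms for the
family of Siegel transvection groups inside the full isometry group. -/

set_option autoImplicit false

namespace Cfsg.Agent.helper13

open Module Matrix QuadraticMap Cfsg.Agent.S0794
open scoped commutatorElement

section sr5
variable {F : Type*} [Field F] {ι : Type} [Fintype ι] [DecidableEq ι]
variable (Q : QuadraticForm F (ι → F))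

/-- the family of Siegel transvection groups of totally singular lines -/
def SLset : Set (Subgroup ↥(Cfsg.isometryGroup F ⇑Q)) :=
  {A | ∃ p r : ι → F, IsSLine Q p r ∧ A = TgL Q p r}

theorem TgL_mem_SLset {p r : ι → F} (h : IsSLine Q p r) : TgL Q p r ∈ SLset Q :=
  ⟨p, r, h, rfl⟩

theorem commutator_TgL (hQ : (polarBilin Q).Nondegenerate) (e u f v : ι → F)
    (h : IsSLine Q e u) (h' : IsSLine Q f v) (h'' : IsSLine Q u v)
    (hef : polar (⇑Q) e f = 1) (hev : polar (⇑Q) e v = 0) (hfu : polar (⇑Q) f u = 0) :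
    ⁅TgL Q e u, TgL Q f v⁆ = TgL Q u v := by
  apply le_antisymm
  · rw [Subgroup.commutator_le]
    intro a ha b hb
    obtain ⟨c, rfl⟩ := (mem_TgL_iff Q hQ e u h a).mp ha
    obtain ⟨d, rfl⟩ := (mem_TgL_iff Q hQ f v h' b).mp hb
    rw [sieG_commutator Q u v e f h''.2.1 h''.2.2.1 h''.2.2.2 h.2.1 h'.2.1 hef h.2.2.2 hev hfu
      h'.2.2.2 c d]
    exact sieG_mem_TgL Q u v _ _ _ _
  · intro x hx
    obtain ⟨c, rfl⟩ := (mem_TgL_iff Q hQ u v h'' x).mp hx
    have := sieG_commutator Q u v e f h''.2.1 h''.2.2.1 h''.2.2.2 h.2.1 h'.2.1 hef h.2.2.2 hev hfu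
      h'.2.2.2 c 1
    rw [mul_one] at this
    rw [← this]
    exact Subgroup.commutator_mem_commutator (sieG_mem_TgL Q e u _ _ _ c)
      (sieG_mem_TgL Q f v _ _ _ 1)

theorem rootCase_comm (hQ : (polarBilin Q).Nondegenerate) (e u f v : ι → F)
    (h : IsSLine Q e u) (h' : IsSLine Q f v) (h'' : IsSLine Q u v)
    (hef : polar (⇑Q) e f = 1) (hev : polar (⇑Q) e v = 0) (hfu : polar (⇑Q) f u = 0) :
    Cfsg.RootCommutatorCase (SLset Q) (TgL Q e u) (TgL Q f v) := by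
  have hcomm := commutator_TgL Q hQ e u f v h h' h'' hef hev hfu
  have huu : polar (⇑Q) u u = 0 := by rw [polar_self', h''.2.1, mul_zero]
  have hvv : polar (⇑Q) v v = 0 := by rw [polar_self', h''.2.2.1, mul_zero]
  have hue : polar (⇑Q) u e = 0 := by rw [polar_comm]; exact h.2.2.2
  have hve : polar (⇑Q) v e = 0 := by rw [polar_comm]; exact hev
  have huf : polar (⇑Q) u f = 0 := by rw [polar_comm]; exact hfu
  have hvf : polar (⇑Q) v f = 0 := by rw [polar_comm]; exact h'.2.2.2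
  have hvu : polar (⇑Q) v u = 0 := by rw [polar_comm]; exact h''.2.2.2
  refine ⟨?_, ?_, ?_, ?_⟩
  · rw [hcomm]
    exact TgL_mem_SLset Q h''
  · intro c hc x hx
    rw [hcomm] at hc
    have hA : TgL Q e u ≤ Subgroup.centralizer {c} := by
      intro a ha
      rw [Subgroup.mem_centralizer_iff]
      intro y hy
      rw [Set.mem_singleton_iff] at hy
      subst hy
      exact TgL_commute_of_perp Q hQ u v e u h'' h hue huu hve hvu y hc a ha
    have hB : TgL Q f v ≤ Subgroup.centralizer {c} := by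
      intro a ha
      rw [Subgroup.mem_centralizer_iff]
      intro y hy
      rw [Set.mem_singleton_iff] at hy
      subst hy
      exact TgL_commute_of_perp Q hQ u v f v h'' h' huf h''.2.2.2 hvf hvv y hc a ha
    have := (sup_le hA hB) hx
    rw [Subgroup.mem_centralizer_iff] at this
    exact this c rfl
  · intro a ha ha1
    obtain ⟨c, rfl⟩ := (mem_TgL_iff Q hQ e u h a).mp ha
    have hc : c ≠ 0 := fun hc => ha1 ((sieG_eq_one_iff Q hQ e u h c).mpr hc)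
    rw [hcomm]
    have : (fun b => sieG Q e u h.2.1 h.2.2.1 h.2.2.2 c * b * (sieG Q e u h.2.1 h.2.2.1 h.2.2.2 c)⁻¹ *
        b⁻¹) '' (TgL Q f v : Set _) = (TgL Q u v : Set _) := by
      ext x
      constructor
      · rintro ⟨b, hb, rfl⟩
        obtain ⟨d, rfl⟩ := (mem_TgL_iff Q hQ f v h' b).mp hb
        show sieG Q e u h.2.1 h.2.2.1 h.2.2.2 c * sieG Q f v h'.2.1 h'.2.2.1 h'.2.2.2 d *
          (sieG Q e u h.2.1 h.2.2.1 h.2.2.2 c)⁻¹ * (sieG Q f v h'.2.1 h'.2.2.1 h'.2.2.2 d)⁻¹ ∈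
          TgL Q u v
        rw [← commutatorElement_def, sieG_commutator Q u v e f h''.2.1 h''.2.2.1 h''.2.2.2 h.2.1
          h'.2.1 hef h.2.2.2 hev hfu h'.2.2.2 c d]
        exact sieG_mem_TgL Q u v _ _ _ _
      · intro hx
        obtain ⟨t, rfl⟩ := (mem_TgL_iff Q hQ u v h'' x).mp hx
        refine ⟨sieG Q f v h'.2.1 h'.2.2.1 h'.2.2.2 (c⁻¹ * t), sieG_mem_TgL Q f v _ _ _ _, ?_⟩
        show sieG Q e u h.2.1 h.2.2.1 h.2.2.2 c * sieG Q f v h'.2.1 h'.2.2.1 h'.2.2.2 (c⁻¹ * t) *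
          (sieG Q e u h.2.1 h.2.2.1 h.2.2.2 c)⁻¹ *
          (sieG Q f v h'.2.1 h'.2.2.1 h'.2.2.2 (c⁻¹ * t))⁻¹ = _
        rw [← commutatorElement_def, sieG_commutator Q u v e f h''.2.1 h''.2.2.1 h''.2.2.2 h.2.1
          h'.2.1 hef h.2.2.2 hev hfu h'.2.2.2 c (c⁻¹ * t), mul_inv_cancel_left₀ hc]
    rw [this, Subgroup.closure_eq]
  · intro b hb hb1
    obtain ⟨d, rfl⟩ := (mem_TgL_iff Q hQ f v h' b).mp hb
    have hd : d ≠ 0 := fun hd => hb1 ((sieG_eq_one_iff Q hQ f v h' d).mpr hd)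
    rw [hcomm]
    have : (fun a => a * sieG Q f v h'.2.1 h'.2.2.1 h'.2.2.2 d * a⁻¹ *
        (sieG Q f v h'.2.1 h'.2.2.1 h'.2.2.2 d)⁻¹) '' (TgL Q e u : Set _) = (TgL Q u v : Set _) := by
      ext x
      constructor
      · rintro ⟨a, ha, rfl⟩
        obtain ⟨c, rfl⟩ := (mem_TgL_iff Q hQ e u h a).mp ha
        show sieG Q e u h.2.1 h.2.2.1 h.2.2.2 c * sieG Q f v h'.2.1 h'.2.2.1 h'.2.2.2 d *
          (sieG Q e u h.2.1 h.2.2.1 h.2.2.2 c)⁻¹ * (sieG Q f v h'.2.1 h'.2.2.1 h'.2.2.2 d)⁻¹ ∈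
          TgL Q u v
        rw [← commutatorElement_def, sieG_commutator Q u v e f h''.2.1 h''.2.2.1 h''.2.2.2 h.2.1
          h'.2.1 hef h.2.2.2 hev hfu h'.2.2.2 c d]
        exact sieG_mem_TgL Q u v _ _ _ _
      · intro hx
        obtain ⟨t, rfl⟩ := (mem_TgL_iff Q hQ u v h'' x).mp hx
        refine ⟨sieG Q e u h.2.1 h.2.2.1 h.2.2.2 (t * d⁻¹), sieG_mem_TgL Q e u _ _ _ _, ?_⟩
        show sieG Q e u h.2.1 h.2.2.1 h.2.2.2 (t * d⁻¹) * sieG Q f v h'.2.1 h'.2.2.1 h'.2.2.2 d *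
          (sieG Q e u h.2.1 h.2.2.1 h.2.2.2 (t * d⁻¹))⁻¹ *
          (sieG Q f v h'.2.1 h'.2.2.1 h'.2.2.2 d)⁻¹ = _
        rw [← commutatorElement_def, sieG_commutator Q u v e f h''.2.1 h''.2.2.1 h''.2.2.2 h.2.1
          h'.2.1 hef h.2.2.2 hev hfu h'.2.2.2 (t * d⁻¹) d, inv_mul_cancel_right₀ hd]
    rw [this, Subgroup.closure_eq]

/-- the root subgroup axioms in the generated subgroup -/
theorem slset_kroot (hQ : (polarBilin Q).Nondegenerate) :
    Cfsg.IsKRootSubgroupSet F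
      ((fun X : Subgroup ↥(Cfsg.isometryGroup F ⇑Q) => X.subgroupOf (⨆ B ∈ SLset Q, B)) ''
        SLset Q) := by
  apply isKRootSubgroupSet_subgroupOf
  · rintro A ⟨p, r, h, rfl⟩
    exact TgL_comm Q hQ p r h
  · rintro A ⟨p, r, h, rfl⟩
    exact TgL_ne_bot Q hQ p r h
  · rintro A ⟨p, r, h, rfl⟩ g
    rw [conj_TgL]
    exact TgL_mem_SLset Q (h.iact Q g)
  · rintro A ⟨p, r, h, rfl⟩ B ⟨p', r', h', rfl⟩
    rcases sline_trichotomy Q hQ p r p' r' h h' with h5 | ⟨p₂, r₂, hl, he, k1, k2, k3, k4⟩ |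
      ⟨e, u, f, v, hl1, e1, hl2, e2, hl3, k1, k2, k3⟩
    · left
      exact commutator_eq_bot_of_commute _ _ h5
    · right; left
      rw [← he]
      exact rankOnePair_opp Q hQ p r p₂ r₂ h hl k1 k2 k3 k4
    · right; right
      rw [← e1, ← e2]
      exact rootCase_comm Q hQ e u f v hl1 hl2 hl3 k1 k2 k3
  · rintro A ⟨p, r, h, rfl⟩ B ⟨p', r', h', rfl⟩ hr
    rcases sline_trichotomy Q hQ p r p' r' h h' with h5 | ⟨p₂, r₂, hl, he, k1, k2, k3, k4⟩ |
      ⟨e, u, f, v, hl1, e1, hl2, e2, hl3, k1, k2, k3⟩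
    · exact absurd hr (not_rankOnePair_of_commute (TgL_ne_bot Q hQ p r h) h5)
    · rw [← he]
      exact isPSL2Pair_opp Q hQ p r p₂ r₂ ⟨h, hl, k1, k2, k3, k4⟩
    · rw [← e1, ← e2] at hr
      exact absurd hr (not_rankOnePair_comm Q hQ e u f v hl1 hl2 hl3.2.2.2 k1 k2 k3)

end sr5

end Cfsg.Agent.helper13
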