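import Mathlib
import Cfsg.Agent.Lib_helper13_Sr5

/-! Two totally singular lines through a common point have a common opposite line. -/

set_option autoImplicit false

namespace Cfsg.Agent.helper13

open Module Matrix QuadraticMap Cfsg.Agent.S0794
open scoped commutatorElement

section sr6
variable {F : Type*} [Field F] {ι : Type} [Fintype ι] [DecidableEq ι]
variable (Q : QuadraticForm F (ι → F))

theorem rankOnePair_of_det (hQ : (polarBilin Q).Nondegenerate) (p r p' r' : ι → F)
    (h : IsSLine Q p r) (h' : IsSLine Q p' r')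
    (hdet : polar (⇑Q) p p' * polar (⇑Q) r r' - polar (⇑Q) p r' * polar (⇑Q) r p' ≠ 0) :
    Cfsg.IsRankOnePair (TgL Q p r) (TgL Q p' r') := by
  obtain ⟨p₂, r₂, hl, he, k1, k2, k3, k4⟩ := sline_opp_norm Q p r p' r' h' hdet
  rw [← he]
  exact rankOnePair_opp Q hQ p r p₂ r₂ h hl k1 k2 k3 k4

/-- a singular partner of `b` orthogonal to `a` and `d` -/
theorem exists_partner_perp (hQ : (polarBilin Q).Nondegenerate) (a b d : ι → F)
    (hb : Q b = 0) (hab : polar (⇑Q) a b = 0) (hdb : polar (⇑Q) d b = 0)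
    (hind : LinearIndependent F ![d, a, b]) :
    ∃ b' : ι → F, Q b' = 0 ∧ polar (⇑Q) b b' = 1 ∧ polar (⇑Q) a b' = 0 ∧ polar (⇑Q) d b' = 0 := by
  obtain ⟨y, hy⟩ := exists_dual_vec Q hQ ![d, a, b] hind ![0, 0, 1]
  have y0 : polar (⇑Q) d y = 0 := hy 0
  have y1 : polar (⇑Q) a y = 0 := hy 1
  have y2 : polar (⇑Q) b y = 1 := hy 2
  have hbb : polar (⇑Q) b b = 0 := by rw [polar_self', hb, mul_zero]
  refine ⟨y - Q y • b, ?_, ?_, ?_, ?_⟩
  · have e : y - Q y • b = (1 : F) • y + (-Q y) • b := by module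
    rw [e, Q_comb2, hb, polar_comm (⇑Q) y b, y2]
    ring
  · rw [polar_sub_right, polar_smul_right, y2, hbb, smul_zero, sub_zero]
  · rw [polar_sub_right, polar_smul_right, y1, hab, smul_zero, sub_zero]
  · rw [polar_sub_right, polar_smul_right, y0, hdb, smul_zero, sub_zero]

theorem common_opp (hQ : (polarBilin Q).Nondegenerate) (hcard : 5 ≤ Fintype.card ι)
    (a b d : ι → F) (h1 : IsSLine Q a b) (h2 : IsSLine Q d b)
    (hind : LinearIndependent F ![d, a, b]) :
    ∃ x b' : ι → F, IsSLine Q x b' ∧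
      polar (⇑Q) a x * polar (⇑Q) b b' - polar (⇑Q) a b' * polar (⇑Q) b x ≠ 0 ∧
      polar (⇑Q) d x * polar (⇑Q) b b' - polar (⇑Q) d b' * polar (⇑Q) b x ≠ 0 := by
  obtain ⟨-, ha, hb, hab⟩ := h1
  obtain ⟨-, hd, -, hdb⟩ := h2
  obtain ⟨b', hb', hbb', hab', hdb'⟩ := exists_partner_perp Q hQ a b d hb hab hdb hind
  have hba : polar (⇑Q) b a = 0 := by rw [polar_comm]; exact hab
  have hbd : polar (⇑Q) b d = 0 := by rw [polar_comm]; exact hdb
  have hb'a : polar (⇑Q) b' a = 0 := by rw [polar_comm]; exact hab'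
  have hb'd : polar (⇑Q) b' d = 0 := by rw [polar_comm]; exact hdb'
  have haa : polar (⇑Q) a a = 0 := by rw [polar_self', ha, mul_zero]
  have hdd : polar (⇑Q) d d = 0 := by rw [polar_self', hd, mul_zero]
  have hbb : polar (⇑Q) b b = 0 := by rw [polar_self', hb, mul_zero]
  -- it suffices to find a suitable singular vector `x`
  suffices hx : ∃ x : ι → F, Q x = 0 ∧ polar (⇑Q) b x = 0 ∧ polar (⇑Q) b' x = 0 ∧
      polar (⇑Q) a x ≠ 0 ∧ polar (⇑Q) d x ≠ 0 by
    obtain ⟨x, qx, bx, b'x, ax, dx⟩ := hx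
    refine ⟨x, b', ⟨?_, qx, hb', by rw [polar_comm]; exact b'x⟩, ?_, ?_⟩
    · rw [LinearIndependent.pair_iff]
      intro s t hst
      have e1 := congrArg (fun w => polar (⇑Q) b w) hst
      simp only [polar_add_right, polar_smul_right, bx, hbb', smul_eq_mul, mul_zero, zero_add,
        mul_one, polar_zero_right] at e1
      have e2 := congrArg (fun w => polar (⇑Q) a w) hst
      simp only [polar_add_right, polar_smul_right, hab', smul_eq_mul, mul_zero, add_zero,
        polar_zero_right] at e2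
      exact ⟨(mul_eq_zero.mp e2).resolve_right ax, e1⟩
    · rw [hbb', hab', bx]
      simpa using ax
    · rw [hbb', hdb', bx]
      simpa using dx
  by_cases hβ : polar (⇑Q) a d = 0
  · -- `a ⊥ d`: use a dual vector
    have hind4 : LinearIndependent F ![b', d, a, b] := by
      show LinearIndependent F (Fin.cons b' ![d, a, b])
      rw [linearIndependent_finCons]
      refine ⟨hind, ?_⟩
      intro hmem
      have hz : ∀ w ∈ Submodule.span F (Set.range ![d, a, b]), polar (⇑Q) b w = 0 := by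
        intro w hw
        induction hw using Submodule.span_induction with
        | mem x hx =>
          obtain ⟨i, rfl⟩ := hx
          fin_cases i
          · exact hbd
          · exact hba
          · exact hbb
        | zero => exact polar_zero_right _ _
        | add x z _ _ hx hz => rw [polar_add_right, hx, hz, add_zero]
        | smul c x _ hx => rw [polar_smul_right, hx, smul_zero]
      have := hz b' hmem
      rw [hbb'] at this
      exact one_ne_zero this
    obtain ⟨y, hy⟩ := exists_dual_vec Q hQ ![b', d, a, b] hind4 ![0, 1, 1, 0]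
    have y0 : polar (⇑Q) b' y = 0 := hy 0
    have y1 : polar (⇑Q) d y = 1 := hy 1
    have y2 : polar (⇑Q) a y = 1 := hy 2
    have y3 : polar (⇑Q) b y = 0 := hy 3
    refine ⟨y - Q y • a, ?_, ?_, ?_, ?_, ?_⟩
    · have e : y - Q y • a = (1 : F) • y + (-Q y) • a := by module
      rw [e, Q_comb2, ha, polar_comm (⇑Q) y a, y2]
      ring
    · rw [polar_sub_right, polar_smul_right, y3, hba, smul_zero, sub_zero]
    · rw [polar_sub_right, polar_smul_right, y0, hb'a, smul_zero, sub_zero]
    · rw [polar_sub_right, polar_smul_right, y2, haa, smul_zero, sub_zero]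
      exact one_ne_zero
    · rw [polar_sub_right, polar_smul_right, y1, polar_comm (⇑Q) d a, hβ, smul_zero, sub_zero]
      exact one_ne_zero
  · -- `a` and `d` span a hyperbolic plane inside the complement of `⟨b, b'⟩`
    obtain ⟨β, hβ'⟩ : ∃ β : F, β = polar (⇑Q) a d := ⟨_, rfl⟩
    rw [← hβ'] at hβ
    obtain ⟨d₁, hd₁⟩ : ∃ d₁ : ι → F, d₁ = β⁻¹ • d := ⟨_, rfl⟩
    have qd₁ : Q d₁ = 0 := by rw [hd₁, QuadraticMap.map_smul, hd, smul_zero]
    have had₁ : polar (⇑Q) a d₁ = 1 := by
      rw [hd₁, polar_smul_right, ← hβ', smul_eq_mul, inv_mul_cancel₀ hβ]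
    have hX := hyp_nondeg Q ⊤ (nondegOn_top Q hQ) b b' Submodule.mem_top Submodule.mem_top hb hb'
      hbb'
    have haX : a ∈ planeCompl Q ⊤ b b' := by
      rw [mem_planeCompl]
      exact ⟨Submodule.mem_top, hba, hb'a⟩
    have hd₁X : d₁ ∈ planeCompl Q ⊤ b b' := by
      rw [mem_planeCompl, hd₁, polar_smul_right, polar_smul_right, hbd, hb'd, smul_zero]
      exact ⟨Submodule.mem_top, rfl, rfl⟩
    have hY := hyp_nondeg Q _ hX a d₁ haX hd₁X ha qd₁ had₁
    have f1 := hyp_compl_finrank Q hQ ⊤ (nondegOn_top Q hQ) b b' Submodule.mem_top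
      Submodule.mem_top hb hb' hbb'
    have f2 := hyp_compl_finrank Q hQ _ hX a d₁ haX hd₁X ha qd₁ had₁
    rw [finrank_top, Module.finrank_fintype_fun_eq_card] at f1
    have hne : planeCompl Q (planeCompl Q ⊤ b b') a d₁ ≠ ⊥ := by
      intro hbot
      rw [hbot, finrank_bot] at f2
      omega
    obtain ⟨z, hz, qz⟩ := exists_nonsingular Q _ hY hne
    obtain ⟨hzX, haz, hd₁z⟩ := (mem_planeCompl Q _ a d₁ z).mp hz
    obtain ⟨-, hbz, hb'z⟩ := (mem_planeCompl Q ⊤ b b' z).mp hzX
    have hd₁a : polar (⇑Q) d₁ a = 1 := by rw [polar_comm]; exact had₁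
    have hbd₁ : polar (⇑Q) b d₁ = 0 := by rw [hd₁, polar_smul_right, hbd, smul_zero]
    have hb'd₁ : polar (⇑Q) b' d₁ = 0 := by rw [hd₁, polar_smul_right, hb'd, smul_zero]
    have hd₁d₁ : polar (⇑Q) d₁ d₁ = 0 := by rw [polar_self', qd₁, mul_zero]
    have hdd₁ : polar (⇑Q) d d₁ = 0 := by rw [hd₁, polar_smul_right, hdd, smul_zero]
    have hdz : polar (⇑Q) d z = 0 := by
      have : d = β • d₁ := by rw [hd₁, smul_smul, mul_inv_cancel₀ hβ, one_smul]
      rw [this, polar_smul_left, hd₁z, smul_zero]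
    have hda : polar (⇑Q) d a = β := by rw [polar_comm, hβ']
    refine ⟨d₁ + z - Q z • a, ?_, ?_, ?_, ?_, ?_⟩
    · have e : d₁ + z - Q z • a = (d₁ + z) + (-Q z) • a := by module
      rw [e, Q_add_polar, Q_add_polar, qd₁, QuadraticMap.map_smul, ha, hd₁z, polar_smul_right,
        polar_add_left, hd₁a, polar_comm (⇑Q) z a, haz]
      simp
    · rw [polar_sub_right, polar_add_right, polar_smul_right, hbd₁, hbz, hba, smul_zero, add_zero,
        sub_zero]
    · rw [polar_sub_right, polar_add_right, polar_smul_right, hb'd₁, hb'z, hb'a, smul_zero,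
        add_zero, sub_zero]
    · rw [polar_sub_right, polar_add_right, polar_smul_right, had₁, haz, haa, smul_zero, add_zero,
        sub_zero]
      exact one_ne_zero
    · rw [polar_sub_right, polar_add_right, polar_smul_right, hdd₁, hdz, hda, zero_add, zero_sub,
        smul_eq_mul]
      exact neg_ne_zero.mpr (mul_ne_zero qz hβ)

end sr6

end Cfsg.Agent.helper13
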