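import Mathlib
import Cfsg.Agent.Lib_helper13_Sr6

/-! Connectedness of the graph of rank one pairs of Siegel transvection groups, and the final form
of the root subgroup theorem. -/

set_option autoImplicit false

namespace Cfsg.Agent.helper13

open Module Matrix QuadraticMap Cfsg.Agent.S0794
open scoped commutatorElement

section sr7
variable {F : Type*} [Field F] {ι : Type} [Fintype ι] [DecidableEq ι]
variable (Q : QuadraticForm F (ι → F))

theorem fadj_of_det (hQ : (polarBilin Q).Nondegenerate) (p r p' r' : ι → F)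
    (h : IsSLine Q p r) (h' : IsSLine Q p' r')
    (hdet : polar (⇑Q) p p' * polar (⇑Q) r r' - polar (⇑Q) p r' * polar (⇑Q) r p' ≠ 0) :
    Cfsg.FAdj (SLset Q) (TgL Q p r) (TgL Q p' r') :=
  ⟨TgL_mem_SLset Q h, TgL_mem_SLset Q h', rankOnePair_of_det Q hQ p r p' r' h h' hdet⟩

/-- lines through a common point are connected -/
theorem conn_share (hQ : (polarBilin Q).Nondegenerate) (hcard : 5 ≤ Fintype.card ι)
    (a b d : ι → F) (h1 : IsSLine Q a b) (h2 : IsSLine Q d b) :
    Relation.ReflTransGen (Cfsg.FAdj (SLset Q)) (TgL Q a b) (TgL Q d b) := by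
  by_cases hind : LinearIndependent F ![d, a, b]
  · obtain ⟨x, b', hl, k1, k2⟩ := common_opp Q hQ hcard a b d h1 h2 hind
    have e1 := fadj_of_det Q hQ a b x b' h1 hl k1
    have e2 := fadj_of_det Q hQ d b x b' h2 hl k2
    refine Relation.ReflTransGen.tail (Relation.ReflTransGen.single e1) ?_
    exact ⟨e2.2.1, e2.1, Cfsg.RankOnePair_symm e2.2.2⟩
  · have hmem : d ∈ Submodule.span F (Set.range ![a, b]) := by
      by_contra hcon
      apply hind
      show LinearIndependent F (Fin.cons d ![a, b])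
      rw [linearIndependent_finCons]
      exact ⟨h1.1, hcon⟩
    have hr : Set.range ![a, b] = {a, b} := by
      ext w
      simp only [Set.mem_range, Set.mem_insert_iff, Set.mem_singleton_iff]
      constructor
      · rintro ⟨i, rfl⟩
        fin_cases i
        · left; rfl
        · right; rfl
      · rintro (rfl | rfl)
        · exact ⟨0, rfl⟩
        · exact ⟨1, rfl⟩
    rw [hr] at hmem
    obtain ⟨α, β, hαβ⟩ := Submodule.mem_span_pair.mp hmem
    have hα : α ≠ 0 := by
      rintro rfl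
      rw [zero_smul, zero_add] at hαβ
      have := LinearIndependent.pair_iff.mp h2.1 1 (-β) (by rw [← hαβ]; module)
      exact one_ne_zero this.1
    obtain ⟨-, e⟩ := h1.comb Q α β 0 1 (by simpa using hα)
    rw [hαβ, zero_smul, one_smul, zero_add] at e
    rw [e]

theorem slset_connected (hQ : (polarBilin Q).Nondegenerate) (hcard : 5 ≤ Fintype.card ι) :
    Cfsg.IsConnectedFamily (Cfsg.FAdj (SLset Q)) (SLset Q) := by
  rintro A ⟨p, r, h, rfl⟩ B ⟨p', r', h', rfl⟩
  -- a point `u` of the first line orthogonal to `p'`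
  obtain ⟨w, u, hl, he, hu⟩ : ∃ w u : ι → F, IsSLine Q w u ∧ TgL Q w u = TgL Q p r ∧
      polar (⇑Q) u p' = 0 := by
    by_cases h0 : polar (⇑Q) p p' = 0
    · exact ⟨r, p, h.swap Q, TgL_swap Q p r, h0⟩
    · obtain ⟨hl, he⟩ := h.comb Q 1 0 (-(polar (⇑Q) r p' / polar (⇑Q) p p')) 1 (by simp)
      refine ⟨_, _, hl, he, ?_⟩
      rw [polar_add_left, polar_smul_left, polar_smul_left, smul_eq_mul, smul_eq_mul]
      field_simp
      ring
  rw [← he]
  have hp'0 : p' ≠ 0 := h'.ne_zero_left Q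
  by_cases hi : LinearIndependent F ![u, p']
  · have hl2 : IsSLine Q u p' := ⟨hi, hl.2.2.1, h'.2.1, hu⟩
    have c1 := conn_share Q hQ hcard w u p' hl (hl2.swap Q)
    have c2 := conn_share Q hQ hcard u p' r' hl2 (h'.swap Q)
    rw [TgL_swap Q u p'] at c1
    rw [TgL_swap Q p' r'] at c2
    exact c1.trans c2
  · rw [LinearIndependent.pair_iff] at hi
    push Not at hi
    obtain ⟨s, t, hst, hne⟩ := hi
    have hs : s ≠ 0 := by
      rintro rfl
      rw [zero_smul, zero_add] at hst
      rcases smul_eq_zero.mp hst with h5 | h5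
      · exact hne rfl h5
      · exact hp'0 h5
    have hu0 : u ≠ 0 := hl.ne_zero_right Q
    have ht : t ≠ 0 := by
      rintro rfl
      rw [zero_smul, add_zero] at hst
      rcases smul_eq_zero.mp hst with h5 | h5
      · exact hs h5
      · exact hu0 h5
    have hp' : p' = (-s / t) • u := by
      have : t • p' = (-s) • u := by
        rw [neg_smul]
        exact eq_neg_of_add_eq_zero_right hst
      rw [div_eq_mul_inv, mul_comm, mul_smul, ← this, smul_smul, inv_mul_cancel₀ ht, one_smul]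
    obtain ⟨hl2, e2⟩ := hl.comb Q 1 0 0 (-s / t) (by
      simp only [one_mul, zero_mul, sub_zero]
      exact div_ne_zero (neg_ne_zero.mpr hs) ht)
    rw [one_smul, zero_smul, zero_smul, add_zero, zero_add, ← hp'] at hl2 e2
    rw [← e2]
    have c2 := conn_share Q hQ hcard w p' r' hl2 (h'.swap Q)
    rw [TgL_swap Q p' r'] at c2
    exact c2

/-- the family in the form used by the statement -/
def SLstmt : Set (Subgroup ↥(Cfsg.isometryGroup F ⇑Q)) :=
  {A | ∃ p r : ι → F, LinearIndependent F ![p, r] ∧ Q p = 0 ∧ Q r = 0 ∧ Q (p + r) = 0 ∧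
      A = Subgroup.closure {σ : ↥(Cfsg.isometryGroup F ⇑Q) | ∀ v : ι → F,
        Q (v + p) - Q v - Q p = 0 → Q (v + r) - Q v - Q r = 0 →
          ((σ : Matrix.GeneralLinearGroup ι F) : Matrix ι ι F) *ᵥ v = v}}

theorem SLstmt_eq : SLstmt Q = SLset Q := by
  have hcl : ∀ p r : ι → F, Subgroup.closure {σ : ↥(Cfsg.isometryGroup F ⇑Q) | ∀ v : ι → F,
        Q (v + p) - Q v - Q p = 0 → Q (v + r) - Q v - Q r = 0 →
          ((σ : Matrix.GeneralLinearGroup ι F) : Matrix ι ι F) *ᵥ v = v} = TgL Q p r := by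
    intro p r
    have : {σ : ↥(Cfsg.isometryGroup F ⇑Q) | ∀ v : ι → F,
        Q (v + p) - Q v - Q p = 0 → Q (v + r) - Q v - Q r = 0 →
          ((σ : Matrix.GeneralLinearGroup ι F) : Matrix ι ι F) *ᵥ v = v} = (TgL Q p r : Set _) := rfl
    rw [this, Subgroup.closure_eq]
  ext A
  constructor
  · rintro ⟨p, r, h1, h2, h3, h4, rfl⟩
    refine ⟨p, r, ⟨h1, h2, h3, ?_⟩, hcl p r⟩
    unfold polar
    rw [h4, h2, h3]
    simp
  · rintro ⟨p, r, ⟨h1, h2, h3, h4⟩, rfl⟩
    refine ⟨p, r, h1, h2, h3, ?_, (hcl p r).symm⟩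
    unfold polar at h4
    rw [h2, h3] at h4
    simpa using h4

theorem sl_main (hQ : (polarBilin Q).Nondegenerate) (hcard : 5 ≤ Fintype.card ι) :
    Cfsg.IsKRootSubgroupSet F
      ((fun X : Subgroup ↥(Cfsg.isometryGroup F ⇑Q) => X.subgroupOf (⨆ B ∈ SLstmt Q, B)) ''
        SLstmt Q) ∧
    Cfsg.IsConnectedFamily (Cfsg.FAdj (SLstmt Q)) (SLstmt Q) := by
  rw [SLstmt_eq]
  exact ⟨slset_kroot Q hQ, slset_connected Q hQ hcard⟩

end sr7

end Cfsg.Agent.helper13
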