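import Mathlib
import Cfsg.Agent.Lib_helper13_SimpF

/-! Singular vectors in subspaces of a quadratic space over a finite field of odd characteristic:
existence, spanning, and a quadratic form vanishing on the singular vectors of another. -/

set_option autoImplicit false

namespace Cfsg.Agent.helper13

open Module Matrix QuadraticMap Cfsg.Agent.S0794

section sv1
variable {F : Type*} [Field F] [Fintype F] {ι : Type} [Fintype ι] [DecidableEq ι]
variable (Q : QuadraticForm F (ι → F))

/-- a subspace of dimension at least three contains a nonzero singular vector -/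
theorem exists_singular_in (h2 : (2 : F) ≠ 0) (hQ : (polarBilin Q).Nondegenerate)
    (W : Submodule F (ι → F)) (hW : 3 ≤ finrank F ↥W) : ∃ u ∈ W, u ≠ 0 ∧ Q u = 0 := by
  by_cases hnd : NondegOn Q W
  · obtain ⟨p, hpW, hp0⟩ : ∃ p ∈ W, p ≠ 0 := by
      apply Submodule.exists_mem_ne_zero_of_ne_bot
      rintro rfl
      rw [finrank_bot] at hW
      omega
    obtain ⟨d, hdW, hd, hpd⟩ := exists_sing_polar_ne Q h2 hQ W hnd hW p hpW hp0
    refine ⟨d, hdW, ?_, hd⟩
    rintro rfl
    exact hpd (polar_zero_right _ _)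
  · unfold NondegOn at hnd
    push Not at hnd
    obtain ⟨x, hxW, hall, hx0⟩ := hnd
    refine ⟨x, hxW, hx0, ?_⟩
    have h1 := hall x hxW
    rw [polar_self'] at h1
    exact (mul_eq_zero.mp h1).resolve_left h2

/-- a nonzero singular vector annihilated by a few linear functionals -/
theorem exists_singular_perp (h2 : (2 : F) ≠ 0) (hQ : (polarBilin Q).Nondegenerate) {k : ℕ}
    (φ : Fin k → (ι → F) →ₗ[F] F) (hk : k + 3 ≤ Fintype.card ι) :
    ∃ u : ι → F, u ≠ 0 ∧ Q u = 0 ∧ ∀ i, φ i u = 0 := by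
  have h1 := LinearMap.finrank_range_add_finrank_ker (LinearMap.pi φ)
  rw [Module.finrank_fintype_fun_eq_card] at h1
  have h3 : finrank F ↥(LinearMap.range (LinearMap.pi φ)) ≤ k := by
    have := Submodule.finrank_le (LinearMap.range (LinearMap.pi φ))
    rw [Module.finrank_fintype_fun_eq_card, Fintype.card_fin] at this
    exact this
  obtain ⟨u, huW, hu0, hu⟩ := exists_singular_in Q h2 hQ (LinearMap.ker (LinearMap.pi φ)) (by omega)
  refine ⟨u, hu0, hu, fun i => ?_⟩
  rw [LinearMap.mem_ker] at huW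
  have := congrFun huW i
  rw [LinearMap.pi_apply] at this
  exact this

omit [Fintype F] [Fintype ι] [DecidableEq ι] in
/-- a subspace containing a hyperbolic pair is spanned by its singular vectors -/
theorem le_of_singular_mem (Y D : Submodule F (ι → F)) (e f : ι → F) (he : e ∈ Y) (hf : f ∈ Y)
    (hQe : Q e = 0) (hQf : Q f = 0) (hef : polar (⇑Q) e f = 1)
    (h : ∀ s ∈ Y, Q s = 0 → s ∈ D) : Y ≤ D := by
  intro y hy
  have hfe : polar (⇑Q) f e = 1 := by rw [polar_comm]; exact hef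
  obtain ⟨w, hw⟩ : ∃ w, w = y - polar (⇑Q) y f • e - polar (⇑Q) y e • f := ⟨_, rfl⟩
  have hwY : w ∈ Y := by
    rw [hw]
    exact Y.sub_mem (Y.sub_mem hy (Y.smul_mem _ he)) (Y.smul_mem _ hf)
  have hwe : polar (⇑Q) w e = 0 := by
    rw [hw, polar_sub_left, polar_sub_left, polar_smul_left, polar_smul_left, polar_self', hQe, hfe]
    simp
  have hwf : polar (⇑Q) w f = 0 := by
    rw [hw, polar_sub_left, polar_sub_left, polar_smul_left, polar_smul_left, polar_self', hQf, hef]
    simp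
  obtain ⟨s₁, hs₁⟩ : ∃ s₁, s₁ = w + ((1 : F) • e + (-Q w) • f) := ⟨_, rfl⟩
  have hs₁Y : s₁ ∈ Y := by
    rw [hs₁]
    exact Y.add_mem hwY (Y.add_mem (Y.smul_mem _ he) (Y.smul_mem _ hf))
  have hQs₁ : Q s₁ = 0 := by
    rw [hs₁, Q_add_polar, Q_comb2, hQe, hQf, hef, polar_add_right, polar_smul_right,
      polar_smul_right, hwe, hwf]
    simp
  have e1 := h s₁ hs₁Y hQs₁
  have e2 : ∀ c : F, c • e ∈ D := fun c => h _ (Y.smul_mem c he) (by
    rw [QuadraticMap.map_smul, hQe, smul_zero])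
  have e3 : ∀ c : F, c • f ∈ D := fun c => h _ (Y.smul_mem c hf) (by
    rw [QuadraticMap.map_smul, hQf, smul_zero])
  have : y = s₁ + (polar (⇑Q) y f - 1) • e + (polar (⇑Q) y e + Q w) • f := by
    rw [hs₁, hw]
    module
  rw [this]
  exact D.add_mem (D.add_mem e1 (e2 _)) (e3 _)

omit [Fintype F] [Fintype ι] [DecidableEq ι] in
/-- a singular partner inside a subspace -/
theorem exists_partner_of_polar_ne (W : Submodule F (ι → F)) (e w : ι → F) (he : e ∈ W)
    (hw : w ∈ W) (hQe : Q e = 0) (hew : polar (⇑Q) e w ≠ 0) :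
    ∃ f ∈ W, Q f = 0 ∧ polar (⇑Q) e f = 1 := by
  obtain ⟨t, ht⟩ : ∃ t, t = (polar (⇑Q) e w)⁻¹ := ⟨_, rfl⟩
  have ht1 : t * polar (⇑Q) e w = 1 := by rw [ht, inv_mul_cancel₀ hew]
  refine ⟨t • w + (-(t * t * Q w)) • e, W.add_mem (W.smul_mem _ hw) (W.smul_mem _ he), ?_, ?_⟩
  · rw [Q_comb2, hQe, polar_comm (⇑Q) w e]
    linear_combination (-(t * t * Q w)) * ht1
  · rw [polar_add_right, polar_smul_right, polar_smul_right, polar_self', hQe, smul_eq_mul, ht1]
    simp

end sv1

end Cfsg.Agent.helper13
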