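import Mathlib
import Cfsg.Agent.Lib_helper13_Sv1

/-! A quadratic form vanishing on the singular vectors of a nondegenerate quadratic form is a multiple
of it (finite fields of odd characteristic, dimension at least five). -/

set_option autoImplicit false

namespace Cfsg.Agent.helper13

open Module Matrix QuadraticMap Cfsg.Agent.S0794

section sv2
variable {F : Type*} [Field F] [Fintype F] {ι : Type} [Fintype ι] [DecidableEq ι]
variable (Q : QuadraticForm F (ι → F))

theorem cone_quadratic (h2 : (2 : F) ≠ 0) (hQ : (polarBilin Q).Nondegenerate)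
    (hn : 5 ≤ Fintype.card ι) (Q₂ : QuadraticForm F (ι → F))
    (h : ∀ x, Q x = 0 → Q₂ x = 0) : ∃ κ : F, ∀ z, Q₂ z = κ * Q z := by
  obtain ⟨e, -, he0, hQe⟩ := exists_singular_in Q h2 hQ ⊤ (by
    rw [finrank_top, Module.finrank_fintype_fun_eq_card]; omega)
  obtain ⟨f, hQf, hef⟩ := exists_hyp_pair Q hQ e he0 hQe
  have hfe : polar (⇑Q) f e = 1 := by rw [polar_comm]; exact hef
  have hZnd := hyp_nondeg Q ⊤ (nondegOn_top Q hQ) e f Submodule.mem_top Submodule.mem_top hQe hQf hef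
  have hZrk := hyp_compl_finrank Q hQ ⊤ (nondegOn_top Q hQ) e f Submodule.mem_top
    Submodule.mem_top hQe hQf hef
  rw [finrank_top, Module.finrank_fintype_fun_eq_card] at hZrk
  obtain ⟨Z, hZ⟩ : ∃ Z, Z = planeCompl Q ⊤ e f := ⟨_, rfl⟩
  rw [← hZ] at hZnd hZrk
  have hZmem : ∀ w, w ∈ Z ↔ polar (⇑Q) e w = 0 ∧ polar (⇑Q) f w = 0 := by
    intro w
    rw [hZ, mem_planeCompl]
    simp
  -- a hyperbolic pair inside `Z`
  obtain ⟨e', he'Z, he'0, hQe'⟩ := exists_singular_in Q h2 hQ Z (by omega)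
  obtain ⟨f', hf'Z, hQf', he'f'⟩ := exists_partner_in Q Z hZnd e' he'Z he'0 hQe'
  have h2e : Q₂ e = 0 := h e hQe
  have h2f : Q₂ f = 0 := h f hQf
  obtain ⟨κ, hκ⟩ : ∃ κ, κ = polar (⇑Q₂) e f := ⟨_, rfl⟩
  -- values on `Z`
  have hval : ∀ w ∈ Z, Q₂ w = κ * Q w := by
    intro w hw
    obtain ⟨hew, hfw⟩ := (hZmem w).mp hw
    have hwe : polar (⇑Q) w e = 0 := by rw [polar_comm]; exact hew
    have hwf : polar (⇑Q) w f = 0 := by rw [polar_comm]; exact hfw
    obtain ⟨u, hu⟩ : ∃ u, u = (1 : F) • e + (-Q w) • f := ⟨_, rfl⟩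
    have hQu : Q u = -Q w := by
      rw [hu, Q_comb2, hQe, hQf, hef]
      ring
    have hwu : polar (⇑Q) w u = 0 := by
      rw [hu, polar_add_right, polar_smul_right, polar_smul_right, hwe, hwf]
      simp
    have hQ2u : Q₂ u = -(Q w) * κ := by
      rw [hu, Q_comb2, h2e, h2f, ← hκ]
      ring
    have s1 : Q₂ (w + u) = 0 := by
      apply h
      rw [Q_add_polar, hQu, hwu]
      ring
    have s2 : Q₂ (w + -u) = 0 := by
      apply h
      rw [Q_add_polar, QuadraticMap.map_neg, hQu, polar_neg_right, hwu]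
      ring
    rw [Q_add_polar, hQ2u] at s1
    rw [Q_add_polar, QuadraticMap.map_neg, hQ2u, polar_neg_right] at s2
    have h3 : 2 * (Q₂ w - κ * Q w) = 0 := by linear_combination s1 + s2
    have h4 := (mul_eq_zero.mp h3).resolve_left h2
    exact sub_eq_zero.mp h4
  -- orthogonality for the second form
  have hperp : ∀ w ∈ Z, polar (⇑Q₂) e w = 0 ∧ polar (⇑Q₂) f w = 0 := by
    have hle : Z ≤ LinearMap.ker (polarBilin Q₂ e) ⊓ LinearMap.ker (polarBilin Q₂ f) := by
      apply le_of_singular_mem Q Z _ e' f' he'Z hf'Z hQe' hQf' he'f'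
      intro s hsZ hQs
      obtain ⟨hes, hfs⟩ := (hZmem s).mp hsZ
      rw [Submodule.mem_inf, LinearMap.mem_ker, LinearMap.mem_ker, polarBilin_apply_apply,
        polarBilin_apply_apply]
      constructor
      · have s1 : Q₂ (e + s) = 0 := by
          apply h
          rw [Q_add_polar, hQe, hQs, hes]
          ring
        rw [Q_add_polar, h2e, h s hQs] at s1
        simpa using s1
      · have s1 : Q₂ (f + s) = 0 := by
          apply h
          rw [Q_add_polar, hQf, hQs, hfs]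
          ring
        rw [Q_add_polar, h2f, h s hQs] at s1
        simpa using s1
    intro w hw
    have := hle hw
    rw [Submodule.mem_inf, LinearMap.mem_ker, LinearMap.mem_ker, polarBilin_apply_apply,
      polarBilin_apply_apply] at this
    exact this
  refine ⟨κ, fun z => ?_⟩
  have hdec := hyp_dec Q ⊤ e f Submodule.mem_top Submodule.mem_top hQe hQf hef z Submodule.mem_top
  rw [← hZ] at hdec
  obtain ⟨w, hw⟩ : ∃ w, w = z - polar (⇑Q) f z • e - polar (⇑Q) e z • f := ⟨_, rfl⟩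
  rw [← hw] at hdec
  obtain ⟨hew, hfw⟩ := (hZmem w).mp hdec
  obtain ⟨p2e, p2f⟩ := hperp w hdec
  obtain ⟨α, hα⟩ : ∃ α, α = polar (⇑Q) f z := ⟨_, rfl⟩
  obtain ⟨β, hβ⟩ : ∃ β, β = polar (⇑Q) e z := ⟨_, rfl⟩
  rw [← hα, ← hβ] at hw
  have hz : z = (α • e + β • f) + w := by rw [hw]; abel
  rw [hz, Q_add_polar, Q_add_polar Q, Q_comb2, Q_comb2, h2e, h2f, hQe, hQf, hef, ← hκ, hval w hdec,
    polar_add_left, polar_add_left, polar_smul_left, polar_smul_left, polar_smul_left,
    polar_smul_left, p2e, p2f, hew, hfw]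
  simp only [smul_eq_mul]
  ring

end sv2

end Cfsg.Agent.helper13
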