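import Mathlib
import Cfsg.Agent.Lib_helper13_Sv2

/-! Subgroups of the general linear group containing transvections whose axis is the orthogonal
complement of a vector for a quadratic form: algebra of these transvections, and a commutator
of two nilpotent elements of rank two. -/

set_option autoImplicit false

namespace Cfsg.Agent.helper13

open Module Matrix QuadraticMap Cfsg.Agent.S0794

section sv3
variable {F : Type*} [Field F] {ι : Type} [Fintype ι] [DecidableEq ι]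

theorem gl_ext_of_mulVec {a b : GL ι F}
    (h : ∀ z : ι → F, (a : Matrix ι ι F) *ᵥ z = (b : Matrix ι ι F) *ᵥ z) : a = b := by
  apply Units.ext
  apply Matrix.ext_of_mulVec_single
  intro i
  exact h _

theorem gl_inv_mulVec_self (t : GL ι F) (y : ι → F) :
    ((t⁻¹ : GL ι F) : Matrix ι ι F) *ᵥ ((t : Matrix ι ι F) *ᵥ y) = y := by
  rw [Matrix.mulVec_mulVec, ← Units.val_mul, inv_mul_cancel, Units.val_one, Matrix.one_mulVec]

theorem gl_self_mulVec_inv (t : GL ι F) (y : ι → F) :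
    (t : Matrix ι ι F) *ᵥ (((t⁻¹ : GL ι F) : Matrix ι ι F) *ᵥ y) = y := by
  rw [Matrix.mulVec_mulVec, ← Units.val_mul, mul_inv_cancel, Units.val_one, Matrix.one_mulVec]

theorem gl_mul_mulVec (a b : GL ι F) (y : ι → F) :
    ((a * b : GL ι F) : Matrix ι ι F) *ᵥ y = (a : Matrix ι ι F) *ᵥ ((b : Matrix ι ι F) *ᵥ y) := by
  rw [Units.val_mul, Matrix.mulVec_mulVec]

/-- the action of the inverse, from the action -/
theorem gl_inv_action (t : GL ι F) (f f' : (ι → F) → (ι → F))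
    (ht : ∀ z, (t : Matrix ι ι F) *ᵥ z = f z) (hff : ∀ z, f (f' z) = z) :
    ∀ z, ((t⁻¹ : GL ι F) : Matrix ι ι F) *ᵥ z = f' z := by
  intro z
  have h1 := gl_inv_mulVec_self t (f' z)
  rw [ht, hff] at h1
  exact h1

variable (Q : QuadraticForm F (ι → F))

/-- `M` contains the transvection `z ↦ z + B(x,z) d` -/
def TQ (M : Subgroup (GL ι F)) (x d : ι → F) : Prop :=
  ∃ t ∈ M, ∀ z, (t : Matrix ι ι F) *ᵥ z = z + polar (⇑Q) x z • d

variable {Q}

theorem TQ.zero (M : Subgroup (GL ι F)) (x : ι → F) : TQ Q M x 0 :=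
  ⟨1, M.one_mem, fun z => by rw [Units.val_one, Matrix.one_mulVec, smul_zero, add_zero]⟩

theorem TQ.add {M : Subgroup (GL ι F)} {x d d' : ι → F} (h : TQ Q M x d) (h' : TQ Q M x d')
    (hd' : polar (⇑Q) x d' = 0) : TQ Q M x (d + d') := by
  obtain ⟨t, ht, hta⟩ := h
  obtain ⟨t', ht', hta'⟩ := h'
  refine ⟨t * t', M.mul_mem ht ht', fun z => ?_⟩
  rw [gl_mul_mulVec, hta', hta, polar_add_right, polar_smul_right, hd']
  module

theorem TQ.neg {M : Subgroup (GL ι F)} {x d : ι → F} (h : TQ Q M x d)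
    (hd : polar (⇑Q) x d = 0) : TQ Q M x (-d) := by
  obtain ⟨t, ht, hta⟩ := h
  refine ⟨t⁻¹, M.inv_mem ht, ?_⟩
  apply gl_inv_action t _ _ hta
  intro z
  rw [polar_add_right, polar_smul_right, polar_neg_right, hd]
  module

theorem TQ.sub {M : Subgroup (GL ι F)} {x d d' : ι → F} (h : TQ Q M x d) (h' : TQ Q M x d')
    (hd' : polar (⇑Q) x d' = 0) : TQ Q M x (d - d') := by
  rw [sub_eq_add_neg]
  exact h.add (h'.neg hd') (by rw [polar_neg_right, hd', neg_zero])

theorem TQ.conj_isom {M : Subgroup (GL ι F)} {x d : ι → F} (h : TQ Q M x d)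
    (s : ↥(Cfsg.isometryGroup F ⇑Q)) (hs : (s : GL ι F) ∈ M) :
    TQ Q M (iact s x) (iact s d) := by
  obtain ⟨t, ht, hta⟩ := h
  refine ⟨(s : GL ι F) * t * ((s⁻¹ : ↥(Cfsg.isometryGroup F ⇑Q)) : GL ι F),
    M.mul_mem (M.mul_mem hs ht) (by
      rw [Subgroup.coe_inv]
      exact M.inv_mem hs), fun z => ?_⟩
  rw [gl_mul_mulVec, gl_mul_mulVec]
  show iact s ((t : Matrix ι ι F) *ᵥ (iact s⁻¹ z)) = _
  rw [hta, iact_add, iact_smul, iact_iact_inv]
  have : polar (⇑Q) (iact s x) z = polar (⇑Q) x (iact s⁻¹ z) := by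
    conv_lhs => rw [← iact_iact_inv s z]
    rw [polar_iact]
  rw [this]

theorem TQ.smul_iff {M : Subgroup (GL ι F)} {x d : ι → F} (c : F) :
    TQ Q M (c • x) d ↔ TQ Q M x (c • d) := by
  constructor
  · rintro ⟨t, ht, hta⟩
    exact ⟨t, ht, fun z => by rw [hta, polar_smul_left, smul_smul, smul_eq_mul, mul_comm]⟩
  · rintro ⟨t, ht, hta⟩
    exact ⟨t, ht, fun z => by rw [hta, polar_smul_left, smul_smul, smul_eq_mul, mul_comm]⟩

/-- the commutator of two unipotent elements `1 + N`, `1 + K` with `N² = K² = KN = 0` -/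
theorem comm_action (A B : GL ι F) (N K : (ι → F) →ₗ[F] (ι → F))
    (hA : ∀ z, (A : Matrix ι ι F) *ᵥ z = z + N z)
    (hB : ∀ z, (B : Matrix ι ι F) *ᵥ z = z + K z)
    (hNN : ∀ z, N (N z) = 0) (hKK : ∀ z, K (K z) = 0) (hKN : ∀ z, K (N z) = 0) :
    ∀ z, ((B * A * B⁻¹ * A⁻¹ : GL ι F) : Matrix ι ι F) *ᵥ z = z - N (K z) := by
  have hA' : ∀ z, ((A⁻¹ : GL ι F) : Matrix ι ι F) *ᵥ z = z - N z := by
    apply gl_inv_action A _ _ hA
    intro z
    rw [map_sub, hNN]
    abel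
  have hB' : ∀ z, ((B⁻¹ : GL ι F) : Matrix ι ι F) *ᵥ z = z - K z := by
    apply gl_inv_action B _ _ hB
    intro z
    rw [map_sub, hKK]
    abel
  intro z
  rw [gl_mul_mulVec, gl_mul_mulVec, gl_mul_mulVec, hA', hB', hA, hB]
  simp only [map_sub, map_add, hNN, hKK, hKN, map_zero]
  abel

end sv3

end Cfsg.Agent.helper13
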