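import Mathlib
import Cfsg.Agent.Lib_helper13_Sv3

/-! From a Siegel transformation and a conjugate of one, a transvection in a subgroup of the
general linear group. -/

set_option autoImplicit false

namespace Cfsg.Agent.helper13

open Module Matrix QuadraticMap Cfsg.Agent.S0794

section sv4
variable {F : Type*} [Field F] {ι : Type} [Fintype ι] [DecidableEq ι]
variable (Q : QuadraticForm F (ι → F))

theorem sieG_mulVec (u v : ι → F) (hu : Q u = 0) (hv : Q v = 0)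
    (huv : polar (⇑Q) u v = 0) (c : F) (x : ι → F) :
    (((sieG Q u v hu hv huv c : ↥(Cfsg.isometryGroup F ⇑Q)) : GL ι F) : Matrix ι ι F) *ᵥ x
      = x + c • (polar (⇑Q) u x • v - polar (⇑Q) v x • u) :=
  iact_sieG Q u v hu hv huv c x

/-- the commutator computation -/
theorem step1_algebra (M : Subgroup (GL ι F))
    (hM1 : ∀ (x v : ι → F) (hx : Q x = 0) (hv : Q v = 0) (hxv : polar (⇑Q) x v = 0) (c : F),
       ((sieG Q x v hx hv hxv c : ↥(Cfsg.isometryGroup F ⇑Q)) : GL ι F) ∈ M)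
    (g : GL ι F) (hg : g ∈ M) (x v a b : ι → F) (hx : Q x = 0) (hv : Q v = 0)
    (hxv : polar (⇑Q) x v = 0)
    (hga : Q ((g : Matrix ι ι F) *ᵥ a) = 0) (hgb : Q ((g : Matrix ι ι F) *ᵥ b) = 0)
    (hgab : polar (⇑Q) ((g : Matrix ι ι F) *ᵥ a) ((g : Matrix ι ι F) *ᵥ b) = 0)
    (hax : polar (⇑Q) ((g : Matrix ι ι F) *ᵥ a) ((g : Matrix ι ι F) *ᵥ x) = 0)
    (hav : polar (⇑Q) ((g : Matrix ι ι F) *ᵥ a) ((g : Matrix ι ι F) *ᵥ v) = 0)
    (hbx : polar (⇑Q) ((g : Matrix ι ι F) *ᵥ b) ((g : Matrix ι ι F) *ᵥ x) = 0)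
    (hbv : polar (⇑Q) ((g : Matrix ι ι F) *ᵥ b) ((g : Matrix ι ι F) *ᵥ v) = 0)
    (hxa : polar (⇑Q) x a = 0) (hva : polar (⇑Q) v a = 0) (c : F) :
    TQ Q M ((g : Matrix ι ι F) *ᵥ a)
      (c • ((g : Matrix ι ι F) *ᵥ (polar (⇑Q) x b • v - polar (⇑Q) v b • x))) := by
  obtain ⟨N, hN⟩ : ∃ N : (ι → F) →ₗ[F] (ι → F),
      ∀ z, N z = (-c) • (polar (⇑Q) x z • v - polar (⇑Q) v z • x) :=
    ⟨(-c) • ((polarBilin Q x).smulRight v - (polarBilin Q v).smulRight x), fun z => by simp⟩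
  obtain ⟨K, hK⟩ : ∃ K : (ι → F) →ₗ[F] (ι → F),
      ∀ z, K z = polar (⇑Q) ((g : Matrix ι ι F) *ᵥ a) ((g : Matrix ι ι F) *ᵥ z) • b
        - polar (⇑Q) ((g : Matrix ι ι F) *ᵥ b) ((g : Matrix ι ι F) *ᵥ z) • a :=
    ⟨((polarBilin Q ((g : Matrix ι ι F) *ᵥ a)).comp (Matrix.mulVecLin g)).smulRight b
      - ((polarBilin Q ((g : Matrix ι ι F) *ᵥ b)).comp (Matrix.mulVecLin g)).smulRight a,
      fun z => by simp⟩
  obtain ⟨A, hAdef⟩ : ∃ A : GL ι F,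
      A = ((sieG Q x v hx hv hxv (-c) : ↥(Cfsg.isometryGroup F ⇑Q)) : GL ι F) := ⟨_, rfl⟩
  obtain ⟨S, hSdef⟩ : ∃ S : GL ι F,
      S = ((sieG Q _ _ hga hgb hgab 1 : ↥(Cfsg.isometryGroup F ⇑Q)) : GL ι F) := ⟨_, rfl⟩
  have hAM : A ∈ M := hAdef ▸ hM1 _ _ _ _ _ _
  have hSM : S ∈ M := hSdef ▸ hM1 _ _ _ _ _ _
  have hA : ∀ z, (A : Matrix ι ι F) *ᵥ z = z + N z := by
    intro z
    rw [hAdef, sieG_mulVec, hN]
  have hB : ∀ z, ((g⁻¹ * S * g : GL ι F) : Matrix ι ι F) *ᵥ z = z + K z := by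
    intro z
    rw [gl_mul_mulVec, gl_mul_mulVec, hSdef, sieG_mulVec, hK, Matrix.mulVec_add,
      gl_inv_mulVec_self, one_smul, Matrix.mulVec_sub, Matrix.mulVec_smul, Matrix.mulVec_smul,
      gl_inv_mulVec_self, gl_inv_mulVec_self]
  have hxx : polar (⇑Q) x x = 0 := by rw [polar_self', hx, mul_zero]
  have hvv : polar (⇑Q) v v = 0 := by rw [polar_self', hv, mul_zero]
  have hvx : polar (⇑Q) v x = 0 := by rw [polar_comm]; exact hxv
  have haa : polar (⇑Q) ((g : Matrix ι ι F) *ᵥ a) ((g : Matrix ι ι F) *ᵥ a) = 0 := by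
    rw [polar_self', hga, mul_zero]
  have hbb : polar (⇑Q) ((g : Matrix ι ι F) *ᵥ b) ((g : Matrix ι ι F) *ᵥ b) = 0 := by
    rw [polar_self', hgb, mul_zero]
  have hgba : polar (⇑Q) ((g : Matrix ι ι F) *ᵥ b) ((g : Matrix ι ι F) *ᵥ a) = 0 := by
    rw [polar_comm]; exact hgab
  have hNN : ∀ z, N (N z) = 0 := by
    intro z
    rw [hN (N z), hN z]
    simp only [polar_smul_right, polar_sub_right, hxx, hvv, hxv, hvx]
    simp
  have hKK : ∀ z, K (K z) = 0 := by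
    intro z
    rw [hK (K z), hK z]
    simp only [Matrix.mulVec_sub, Matrix.mulVec_smul, polar_smul_right, polar_sub_right, haa, hbb,
      hgab, hgba]
    simp
  have hKN : ∀ z, K (N z) = 0 := by
    intro z
    rw [hK (N z), hN z]
    simp only [Matrix.mulVec_sub, Matrix.mulVec_smul, polar_smul_right, polar_sub_right, hax, hav,
      hbx, hbv]
    simp
  have hτ := comm_action A (g⁻¹ * S * g) N K hA hB hNN hKK hKN
  have hBM : g⁻¹ * S * g ∈ M := M.mul_mem (M.mul_mem (M.inv_mem hg) hSM) hg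
  have hτM : (g⁻¹ * S * g) * A * (g⁻¹ * S * g)⁻¹ * A⁻¹ ∈ M :=
    M.mul_mem (M.mul_mem (M.mul_mem hBM hAM) (M.inv_mem hBM)) (M.inv_mem hAM)
  refine ⟨g * ((g⁻¹ * S * g) * A * (g⁻¹ * S * g)⁻¹ * A⁻¹) * g⁻¹,
    M.mul_mem (M.mul_mem hg hτM) (M.inv_mem hg), fun z => ?_⟩
  rw [gl_mul_mulVec, gl_mul_mulVec, hτ, hN, hK]
  simp only [polar_smul_right, polar_sub_right, hxa, hva, gl_self_mulVec_inv, Matrix.mulVec_sub,
    Matrix.mulVec_smul, smul_eq_mul, mul_zero, sub_zero, Matrix.mulVec_neg, Matrix.neg_mulVec]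
  module

end sv4

end Cfsg.Agent.helper13
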