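import Mathlib
import Cfsg.Agent.Lib_helper13_Sv4
import Cfsg.Agent.Lib_helper13_Sr1

/-! A group containing the Siegel transformations of a quadratic form and an element that is not
a similarity contains a transvection whose axis is the orthogonal complement of a singular vector. -/

set_option autoImplicit false

namespace Cfsg.Agent.helper13

open Module Matrix QuadraticMap Cfsg.Agent.S0794

section sv5
variable {F : Type*} [Field F] {ι : Type} [Fintype ι] [DecidableEq ι]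
variable (Q : QuadraticForm F (ι → F))

/-- the form transported by an invertible matrix -/
noncomputable def compG (g : GL ι F) : QuadraticForm F (ι → F) :=
  Q.comp (Matrix.mulVecLin (g : Matrix ι ι F))

theorem compG_apply (g : GL ι F) (z : ι → F) :
    compG Q g z = Q ((g : Matrix ι ι F) *ᵥ z) := rfl

theorem polar_compG (g : GL ι F) (u z : ι → F) :
    polar (⇑(compG Q g)) u z
      = polar (⇑Q) ((g : Matrix ι ι F) *ᵥ u) ((g : Matrix ι ι F) *ᵥ z) := by
  unfold polar
  simp only [compG_apply, Matrix.mulVec_add]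

theorem compG_nondeg (hQ : (polarBilin Q).Nondegenerate) (g : GL ι F) :
    (polarBilin (compG Q g)).Nondegenerate := by
  constructor
  · intro x hx
    have h0 : (g : Matrix ι ι F) *ᵥ x = 0 := hQ.1 _ (fun y => by
      have := hx (((g⁻¹ : GL ι F) : Matrix ι ι F) *ᵥ y)
      rw [polarBilin_apply_apply, polar_compG, gl_self_mulVec_inv] at this
      rw [polarBilin_apply_apply]
      exact this)
    rw [← gl_inv_mulVec_self g x, h0, Matrix.mulVec_zero]
  · intro y hy
    have h0 : (g : Matrix ι ι F) *ᵥ y = 0 := hQ.2 _ (fun x => by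
      have := hy (((g⁻¹ : GL ι F) : Matrix ι ι F) *ᵥ x)
      rw [polarBilin_apply_apply, polar_compG, gl_self_mulVec_inv] at this
      rw [polarBilin_apply_apply]
      exact this)
    rw [← gl_inv_mulVec_self g y, h0, Matrix.mulVec_zero]

variable [Fintype F]

theorem step1_config (h2 : (2 : F) ≠ 0) (hQ : (polarBilin Q).Nondegenerate)
    (hn : 13 ≤ Fintype.card ι) (M : Subgroup (GL ι F))
    (hM1 : ∀ (x v : ι → F) (hx : Q x = 0) (hv : Q v = 0) (hxv : polar (⇑Q) x v = 0) (c : F),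
       ((sieG Q x v hx hv hxv c : ↥(Cfsg.isometryGroup F ⇑Q)) : GL ι F) ∈ M)
    (g : GL ι F) (hg : g ∈ M)
    (hgns : ¬ ∃ κ : F, ∀ z, Q ((g : Matrix ι ι F) *ᵥ z) = κ * Q z) :
    ∃ x₁ d₀ : ι → F, Q x₁ = 0 ∧ x₁ ≠ 0 ∧ polar (⇑Q) x₁ d₀ = 0 ∧ (∀ t : F, d₀ ≠ t • x₁) ∧
      ∀ c : F, TQ Q M x₁ (c • d₀) := by
  obtain ⟨Qg, hQgdef⟩ : ∃ Qg, Qg = compG Q g := ⟨_, rfl⟩
  have hQg : ∀ z, Qg z = Q ((g : Matrix ι ι F) *ᵥ z) := by
    intro z; rw [hQgdef]; rfl
  have hBg : ∀ u z, polar (⇑Qg) u z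
      = polar (⇑Q) ((g : Matrix ι ι F) *ᵥ u) ((g : Matrix ι ι F) *ᵥ z) := by
    intro u z; rw [hQgdef, polar_compG]
  have hQgnd : (polarBilin Qg).Nondegenerate := by
    rw [hQgdef]; exact compG_nondeg Q hQ g
  -- a singular vector whose image is not singular
  obtain ⟨x, hQx, hQgx⟩ : ∃ x, Q x = 0 ∧ Qg x ≠ 0 := by
    by_contra hcon
    push Not at hcon
    obtain ⟨κ, hκ⟩ := cone_quadratic Q h2 hQ (by omega) Qg hcon
    exact hgns ⟨κ, fun z => by rw [← hQg, hκ]⟩
  have hx0 : x ≠ 0 := by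
    rintro rfl
    exact hQgx (QuadraticMap.map_zero _)
  obtain ⟨y, hQy, hxy⟩ := exists_hyp_pair Q hQ x hx0 hQx
  obtain ⟨t, ht⟩ : ∃ t, t = polar (⇑Qg) x y * (2 * Qg x)⁻¹ := ⟨_, rfl⟩
  obtain ⟨z, hz⟩ : ∃ z, z = y - t • x := ⟨_, rfl⟩
  have hgxz : polar (⇑Qg) x z = 0 := by
    rw [hz, polar_sub_right, polar_smul_right, polar_self', smul_eq_mul, ht]
    have : (2 * Qg x) ≠ 0 := mul_ne_zero h2 hQgx
    field_simp
    ring
  have hxz : polar (⇑Q) x z = 1 := by
    rw [hz, polar_sub_right, polar_smul_right, polar_self', hQx, hxy]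
    simp
  obtain ⟨v, hv0, hQv, hvφ⟩ := exists_singular_perp Q h2 hQ
    ![polarBilin Q x, polarBilin Q y, polarBilin Qg z] (by omega)
  have hxv : polar (⇑Q) x v = 0 := by simpa using hvφ 0
  have hyv : polar (⇑Q) y v = 0 := by simpa using hvφ 1
  have hgzv : polar (⇑Qg) z v = 0 := by simpa using hvφ 2
  have hli : LinearIndependent F ![x, v] := by
    rw [LinearIndependent.pair_iff]
    intro s r hsr
    have h1 : polar (⇑Q) y (s • x + r • v) = 0 := by rw [hsr, polar_zero_right]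
    rw [polar_add_right, polar_smul_right, polar_smul_right, hyv, polar_comm (⇑Q) y x, hxy] at h1
    have hs : s = 0 := by simpa using h1
    subst hs
    rw [zero_smul, zero_add] at hsr
    exact ⟨rfl, (smul_eq_zero.mp hsr).resolve_right hv0⟩
  obtain ⟨y₁, y₂, hxy₁, hvy₁, hxy₂, hvy₂⟩ := exists_dual_pair Q hQ x v hli
  obtain ⟨W, hW⟩ : ∃ W, W = orthQ Qg (Submodule.span F {x, v}) := ⟨_, rfl⟩
  have hWmem : ∀ w, w ∈ W ↔ polar (⇑Qg) x w = 0 ∧ polar (⇑Qg) v w = 0 := by
    intro w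
    rw [hW, mem_orth_iff]
    constructor
    · intro h
      exact ⟨h x (Submodule.subset_span (by simp)), h v (Submodule.subset_span (by simp))⟩
    · rintro ⟨h1, h2'⟩ u hu
      obtain ⟨α, β, rfl⟩ := Submodule.mem_span_pair.mp hu
      rw [polar_add_left, polar_smul_left, polar_smul_left, h1, h2']
      simp
  obtain ⟨e, he0, hQge, heφ⟩ := exists_singular_perp Qg h2 hQgnd
    ![polarBilin Qg x, polarBilin Qg v, polarBilin Q y₁, polarBilin Q y₂] (by omega)
  have hgxe : polar (⇑Qg) x e = 0 := by simpa using heφ 0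
  have hgve : polar (⇑Qg) v e = 0 := by simpa using heφ 1
  have hy₁e : polar (⇑Q) y₁ e = 0 := by simpa using heφ 2
  have hy₂e : polar (⇑Q) y₂ e = 0 := by simpa using heφ 3
  have heW : e ∈ W := (hWmem e).mpr ⟨hgxe, hgve⟩
  have henot : e ∉ Submodule.span F {x, v} := by
    intro hmem
    obtain ⟨α, β, rfl⟩ := Submodule.mem_span_pair.mp hmem
    rw [polar_add_right, polar_smul_right, polar_smul_right, polar_comm (⇑Q) y₁ x,
      polar_comm (⇑Q) y₁ v, hxy₁, hvy₁] at hy₁e
    rw [polar_add_right, polar_smul_right, polar_smul_right, polar_comm (⇑Q) y₂ x,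
      polar_comm (⇑Q) y₂ v, hxy₂, hvy₂] at hy₂e
    have hα : α = 0 := by simpa using hy₁e
    have hβ : β = 0 := by simpa using hy₂e
    apply he0
    rw [hα, hβ]
    simp
  obtain ⟨w, hwW, hew⟩ : ∃ w ∈ W, polar (⇑Qg) e w ≠ 0 := by
    by_contra hcon
    push Not at hcon
    apply henot
    rw [← orth_orth Qg hQgnd (Submodule.span F {x, v}), ← hW, mem_orth_iff]
    intro u hu
    rw [polar_comm]
    exact hcon u hu
  obtain ⟨f, hfW, hQgf, hef⟩ := exists_partner_of_polar_ne Qg W e w heW hwW hQge hew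
  have hzW : z ∈ W := (hWmem z).mpr ⟨hgxz, by rw [polar_comm]; exact hgzv⟩
  obtain ⟨b, hbW, hQgb, hbD⟩ : ∃ b ∈ W, Qg b = 0 ∧
      ¬ (polar (⇑Q) x b = 0 ∧ polar (⇑Q) v b = 0) := by
    by_contra hcon
    push Not at hcon
    obtain ⟨D, hD⟩ : ∃ D : Submodule F (ι → F),
        D = LinearMap.ker (polarBilin Q x) ⊓ LinearMap.ker (polarBilin Q v) := ⟨_, rfl⟩
    have hDmem : ∀ s, s ∈ D ↔ polar (⇑Q) x s = 0 ∧ polar (⇑Q) v s = 0 := by
      intro s
      rw [hD, Submodule.mem_inf, LinearMap.mem_ker, LinearMap.mem_ker, polarBilin_apply_apply,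
        polarBilin_apply_apply]
    have hWD := le_of_singular_mem Qg W D e f heW hfW hQge hQgf hef
      (fun s hs hQs => (hDmem s).mpr (hcon s hs hQs))
    have hzD := (hDmem z).mp (hWD hzW)
    rw [hxz] at hzD
    exact one_ne_zero hzD.1
  obtain ⟨hgxb, hgvb⟩ := (hWmem b).mp hbW
  obtain ⟨a, ha0, hQga, haφ⟩ := exists_singular_perp Qg h2 hQgnd
    ![polarBilin Qg x, polarBilin Qg v, polarBilin Qg b, polarBilin Q x, polarBilin Q v,
      polarBilin Q y₁, polarBilin Q y₂] (by omega)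
  have hgxa : polar (⇑Qg) x a = 0 := by simpa using haφ 0
  have hgva : polar (⇑Qg) v a = 0 := by simpa using haφ 1
  have hgba : polar (⇑Qg) b a = 0 := by simpa using haφ 2
  have hxa : polar (⇑Q) x a = 0 := by simpa using haφ 3
  have hva : polar (⇑Q) v a = 0 := by simpa using haφ 4
  have hy₁a : polar (⇑Q) y₁ a = 0 := by simpa using haφ 5
  have hy₂a : polar (⇑Q) y₂ a = 0 := by simpa using haφ 6
  obtain ⟨d, hd⟩ : ∃ d, d = polar (⇑Q) x b • v - polar (⇑Q) v b • x := ⟨_, rfl⟩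
  refine ⟨(g : Matrix ι ι F) *ᵥ a, (g : Matrix ι ι F) *ᵥ d, ?_, ?_, ?_, ?_, ?_⟩
  · rw [← hQg]
    exact hQga
  · intro h
    apply ha0
    rw [← gl_inv_mulVec_self g a, h, Matrix.mulVec_zero]
  · rw [← hBg, hd, polar_sub_right, polar_smul_right, polar_smul_right, polar_comm (⇑Qg) a v,
      polar_comm (⇑Qg) a x, hgva, hgxa]
    simp
  · intro t ht
    have hda : d = t • a := by
      have := congrArg (fun u => ((g⁻¹ : GL ι F) : Matrix ι ι F) *ᵥ u) ht
      beta_reduce at this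
      rw [gl_inv_mulVec_self, Matrix.mulVec_smul, gl_inv_mulVec_self] at this
      exact this
    have h1 : polar (⇑Q) y₁ d = 0 := by rw [hda, polar_smul_right, hy₁a, smul_zero]
    have h2' : polar (⇑Q) y₂ d = 0 := by rw [hda, polar_smul_right, hy₂a, smul_zero]
    rw [hd, polar_sub_right, polar_smul_right, polar_smul_right, polar_comm (⇑Q) y₁ v,
      polar_comm (⇑Q) y₁ x, hvy₁, hxy₁] at h1
    rw [hd, polar_sub_right, polar_smul_right, polar_smul_right, polar_comm (⇑Q) y₂ v,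
      polar_comm (⇑Q) y₂ x, hvy₂, hxy₂] at h2'
    apply hbD
    constructor
    · simpa using h2'
    · simpa using h1
  · intro c
    rw [hd]
    exact step1_algebra Q M hM1 g hg x v a b hQx hQv hxv (by rw [← hQg]; exact hQga)
      (by rw [← hQg]; exact hQgb) (by rw [← hBg, polar_comm]; exact hgba)
      (by rw [← hBg, polar_comm]; exact hgxa) (by rw [← hBg, polar_comm]; exact hgva)
      (by rw [← hBg, polar_comm]; exact hgxb) (by rw [← hBg, polar_comm]; exact hgvb) hxa hva c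

end sv5

end Cfsg.Agent.helper13
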