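import Mathlib
import Cfsg.Agent.Lib_helper13_Sv5
import Cfsg.Agent.Lib_helper29_SLgen2

/-! From one transvection with singular axis vector to all transvections, for a group containing
the commutator subgroup of the isometry group of a quadratic form. -/

set_option autoImplicit false

namespace Cfsg.Agent.helper13

open Module Matrix QuadraticMap Cfsg.Agent.S0794

section sv6
variable {F : Type*} [Field F] {ι : Type} [Fintype ι] [DecidableEq ι]
variable (Q : QuadraticForm F (ι → F))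

/-- the directions `d` for which the transvections `z ↦ z + B(x,z) c d` lie in `M` -/
def TQdir (M : Subgroup (GL ι F)) (x : ι → F) : Submodule F (ι → F) where
  carrier := {d | polar (⇑Q) x d = 0 ∧ ∀ c : F, TQ Q M x (c • d)}
  zero_mem' := ⟨polar_zero_right _ _, fun c => by rw [smul_zero]; exact TQ.zero M x⟩
  add_mem' := by
    rintro d d' ⟨h1, h2⟩ ⟨h1', h2'⟩
    refine ⟨by rw [polar_add_right, h1, h1', add_zero], fun c => ?_⟩
    rw [smul_add]
    exact (h2 c).add (h2' c) (by rw [polar_smul_right, h1', smul_zero])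
  smul_mem' := by
    rintro r d ⟨h1, h2⟩
    refine ⟨by rw [polar_smul_right, h1, smul_zero], fun c => ?_⟩
    rw [smul_smul]
    exact h2 _

theorem mem_TQdir {M : Subgroup (GL ι F)} {x d : ι → F} :
    d ∈ TQdir Q M x ↔ polar (⇑Q) x d = 0 ∧ ∀ c : F, TQ Q M x (c • d) := Iff.rfl

variable {Q} in
theorem TQ.add_left {M : Subgroup (GL ι F)} {x x' d : ι → F} (h : TQ Q M x d) (h' : TQ Q M x' d)
    (hd : polar (⇑Q) x d = 0) : TQ Q M (x + x') d := by
  obtain ⟨t, ht, hta⟩ := h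
  obtain ⟨t', ht', hta'⟩ := h'
  refine ⟨t * t', M.mul_mem ht ht', fun z => ?_⟩
  rw [gl_mul_mulVec, hta', hta, polar_add_right, polar_smul_right, hd, polar_add_left]
  module

variable {Q} in
theorem TQ.zero_left (M : Subgroup (GL ι F)) (d : ι → F) : TQ Q M 0 d :=
  ⟨1, M.one_mem, fun z => by rw [Units.val_one, Matrix.one_mulVec, polar_zero_left, zero_smul,
    add_zero]⟩

/-- the axis vectors `x` for which the transvections `z ↦ z + B(x,z) c d` lie in `M` -/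
def TQax (M : Subgroup (GL ι F)) (d : ι → F) : Submodule F (ι → F) where
  carrier := {x | polar (⇑Q) x d = 0 ∧ ∀ c : F, TQ Q M x (c • d)}
  zero_mem' := ⟨polar_zero_left _ _, fun c => TQ.zero_left M _⟩
  add_mem' := by
    rintro x x' ⟨h1, h2⟩ ⟨h1', h2'⟩
    refine ⟨by rw [polar_add_left, h1, h1', add_zero], fun c => ?_⟩
    exact (h2 c).add_left (h2' c) (by rw [polar_smul_right, h1, smul_zero])
  smul_mem' := by
    rintro r x ⟨h1, h2⟩
    refine ⟨by rw [polar_smul_left, h1, smul_zero], fun c => ?_⟩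
    rw [TQ.smul_iff, smul_smul]
    exact h2 _

theorem mem_TQax {M : Subgroup (GL ι F)} {x d : ι → F} :
    x ∈ TQax Q M d ↔ polar (⇑Q) x d = 0 ∧ ∀ c : F, TQ Q M x (c • d) := Iff.rfl

variable [Fintype F] [DecidableEq F]

theorem sieG_mem_commutator (hQ : (polarBilin Q).Nondegenerate) (hn : 7 ≤ Fintype.card ι)
    (u v : ι → F) (hu : Q u = 0) (hv : Q v = 0) (huv : polar (⇑Q) u v = 0) (c : F) :
    sieG Q u v hu hv huv c ∈ commutator ↥(Cfsg.isometryGroup F ⇑Q) := by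
  have h1 := sieG_mem_comm_Sg Q hQ hn u v hu hv huv c
  rw [commutator_def]
  exact Subgroup.commutator_mono le_top le_top h1

theorem TQdir_siegel (hQ : (polarBilin Q).Nondegenerate) (hn : 7 ≤ Fintype.card ι)
    (M : Subgroup (GL ι F))
    (hMΩ : ∀ h ∈ commutator ↥(Cfsg.isometryGroup F ⇑Q), (h : GL ι F) ∈ M)
    (x d u v : ι → F) (hd : d ∈ TQdir Q M x) (hu : Q u = 0) (hv : Q v = 0)
    (huv : polar (⇑Q) u v = 0) (hux : polar (⇑Q) u x = 0) (hvx : polar (⇑Q) v x = 0) :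
    polar (⇑Q) u d • v - polar (⇑Q) v d • u ∈ TQdir Q M x := by
  obtain ⟨s, hsdef⟩ : ∃ s, s = sieG Q u v hu hv huv 1 := ⟨_, rfl⟩
  have hs : (s : GL ι F) ∈ M := hMΩ s (hsdef ▸ sieG_mem_commutator Q hQ hn u v hu hv huv 1)
  have hsx : iact s x = x := by
    rw [hsdef, iact_sieG, hux, hvx]
    simp
  have hsd : ∀ c : F, iact s (c • d)
      = c • d + c • (polar (⇑Q) u d • v - polar (⇑Q) v d • u) := by
    intro c
    rw [hsdef, iact_sieG, polar_smul_right, polar_smul_right]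
    module
  obtain ⟨hd1, hd2⟩ := (mem_TQdir Q).mp hd
  refine (mem_TQdir Q).mpr ⟨?_, fun c => ?_⟩
  · rw [polar_sub_right, polar_smul_right, polar_smul_right, polar_comm (⇑Q) x v,
      polar_comm (⇑Q) x u, hux, hvx]
    simp
  · have h1 := (hd2 c).conj_isom s hs
    rw [hsx, hsd] at h1
    have h2 := h1.sub (hd2 c) (by rw [polar_smul_right, hd1, smul_zero])
    rwa [add_sub_cancel_left] at h2

/-- Step 2: one transvection with singular axis vector `x₁` gives all of them for `x₁` -/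
theorem TQ_axis_all (h2 : (2 : F) ≠ 0) (hQ : (polarBilin Q).Nondegenerate)
    (hn : 7 ≤ Fintype.card ι) (M : Subgroup (GL ι F))
    (hMΩ : ∀ h ∈ commutator ↥(Cfsg.isometryGroup F ⇑Q), (h : GL ι F) ∈ M)
    (x₁ d₀ : ι → F) (hQx : Q x₁ = 0) (hx0 : x₁ ≠ 0) (hxd : polar (⇑Q) x₁ d₀ = 0)
    (hd₀ : ∀ t : F, d₀ ≠ t • x₁) (hT : ∀ c : F, TQ Q M x₁ (c • d₀)) :
    ∀ d, polar (⇑Q) x₁ d = 0 → TQ Q M x₁ d := by
  obtain ⟨D, hD⟩ : ∃ D, D = TQdir Q M x₁ := ⟨_, rfl⟩
  have hDmem : ∀ d, d ∈ D ↔ polar (⇑Q) x₁ d = 0 ∧ ∀ c : F, TQ Q M x₁ (c • d) := by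
    intro d; rw [hD]; exact mem_TQdir Q
  have hd₀D : d₀ ∈ D := (hDmem d₀).mpr ⟨hxd, hT⟩
  obtain ⟨y₁, hQy₁, hxy₁⟩ := exists_hyp_pair Q hQ x₁ hx0 hQx
  have hZnd := hyp_nondeg Q ⊤ (nondegOn_top Q hQ) x₁ y₁ Submodule.mem_top Submodule.mem_top hQx
    hQy₁ hxy₁
  have hZrk := hyp_compl_finrank Q hQ ⊤ (nondegOn_top Q hQ) x₁ y₁ Submodule.mem_top
    Submodule.mem_top hQx hQy₁ hxy₁
  rw [finrank_top, Module.finrank_fintype_fun_eq_card] at hZrk
  obtain ⟨z₀, hz₀⟩ : ∃ z₀, z₀ = d₀ - polar (⇑Q) y₁ d₀ • x₁ := ⟨_, rfl⟩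
  have hz₀Z : z₀ ∈ planeCompl Q ⊤ x₁ y₁ := by
    rw [mem_planeCompl]
    refine ⟨Submodule.mem_top, ?_, ?_⟩
    · rw [hz₀, polar_sub_right, polar_smul_right, hxd, polar_self', hQx]
      simp
    · rw [hz₀, polar_sub_right, polar_smul_right, polar_comm (⇑Q) y₁ x₁, hxy₁]
      simp
  have hz₀0 : z₀ ≠ 0 := by
    intro h
    rw [hz₀, sub_eq_zero] at h
    exact hd₀ _ h
  obtain ⟨v, hvZ, hQv, hz₀v⟩ := exists_sing_polar_ne Q h2 hQ _ hZnd (by omega) z₀ hz₀Z hz₀0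
  obtain ⟨-, hxv, hyv⟩ := (mem_planeCompl Q ⊤ x₁ y₁ v).mp hvZ
  have hd₀v : polar (⇑Q) d₀ v ≠ 0 := by
    have : polar (⇑Q) d₀ v = polar (⇑Q) z₀ v := by
      rw [hz₀, polar_sub_left, polar_smul_left, hxv]
      simp
    rw [this]
    exact hz₀v
  obtain ⟨u, hu0, hQu, huφ⟩ := exists_singular_perp Q h2 hQ
    ![polarBilin Q x₁, polarBilin Q y₁, polarBilin Q v, polarBilin Q d₀] (by omega)
  have hxu : polar (⇑Q) x₁ u = 0 := by simpa using huφ 0
  have hyu : polar (⇑Q) y₁ u = 0 := by simpa using huφ 1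
  have hvu : polar (⇑Q) v u = 0 := by simpa using huφ 2
  have hdu : polar (⇑Q) d₀ u = 0 := by simpa using huφ 3
  have huD : u ∈ D := by
    have h1 := TQdir_siegel Q hQ hn M hMΩ x₁ d₀ u v (hD ▸ hd₀D) hQu hQv
      (by rw [polar_comm]; exact hvu) (by rw [polar_comm]; exact hxu)
      (by rw [polar_comm]; exact hxv)
    rw [polar_comm (⇑Q) u d₀, hdu, zero_smul, zero_sub, ← hD] at h1
    have h3 := D.smul_mem (-(polar (⇑Q) v d₀)⁻¹) h1
    have : (-(polar (⇑Q) v d₀)⁻¹) • (-(polar (⇑Q) v d₀ • u)) = u := by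
      rw [smul_neg, neg_smul, neg_neg, smul_smul,
        inv_mul_cancel₀ (by rw [polar_comm]; exact hd₀v), one_smul]
    rwa [this] at h3
  have hux : ∀ t : F, u ≠ t • x₁ := by
    intro t h
    rw [h, polar_smul_right, polar_comm (⇑Q) y₁ x₁, hxy₁, smul_eq_mul, mul_one] at hyu
    rw [hyu, zero_smul] at h
    exact hu0 h
  have hsing1 : ∀ w, Q w = 0 → polar (⇑Q) x₁ w = 0 → (∀ t : F, w ≠ t • x₁) → w ∈ D := by
    intro w hQw hxw hwx
    obtain ⟨h, hh, hhx, hhu⟩ := pt_trans_perp Q hQ hn x₁ u w hQx hx0 hQu hQw hxu hxw hux hwx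
    refine (hDmem w).mpr ⟨hxw, fun c => ?_⟩
    have h1 := (((hDmem u).mp huD).2 c).conj_isom h (hMΩ h hh)
    rw [hhx, iact_smul, hhu] at h1
    exact h1
  have hxD : x₁ ∈ D := by
    have h1 : x₁ + u ∈ D := hsing1 (x₁ + u) (by rw [Q_add_polar, hQx, hQu, hxu]; simp)
      (by rw [polar_add_right, polar_self', hQx, hxu]; simp) (by
        intro t h
        apply hux (t - 1)
        rw [sub_smul, one_smul, ← h]
        abel)
    have := D.sub_mem h1 huD
    rwa [add_sub_cancel_right] at this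
  have hsing : ∀ w, Q w = 0 → polar (⇑Q) x₁ w = 0 → w ∈ D := by
    intro w hQw hxw
    by_cases hw : ∃ t : F, w = t • x₁
    · obtain ⟨t, rfl⟩ := hw
      exact D.smul_mem t hxD
    · push Not at hw
      exact hsing1 w hQw hxw hw
  obtain ⟨e, f, hQe, hQf, hef, heu, hex, hfu, hfx⟩ := exists_hyp_perp Q hQ hn u x₁ hQu hQx
    (by rw [polar_comm]; exact hxu) hx0 hux
  have hle := le_of_singular_mem Q (LinearMap.ker (polarBilin Q x₁)) D e f
    (by rw [LinearMap.mem_ker, polarBilin_apply_apply, polar_comm]; exact hex)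
    (by rw [LinearMap.mem_ker, polarBilin_apply_apply, polar_comm]; exact hfx) hQe hQf hef
    (fun s hs hQs => hsing s hQs (by rwa [LinearMap.mem_ker, polarBilin_apply_apply] at hs))
  intro d hd
  have hdD : d ∈ D := hle (by rw [LinearMap.mem_ker, polarBilin_apply_apply]; exact hd)
  have := ((hDmem d).mp hdD).2 1
  rwa [one_smul] at this

/-- Step 2': all transvections with singular axis vector -/
theorem TQ_all_singular (hQ : (polarBilin Q).Nondegenerate)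
    (hn : 7 ≤ Fintype.card ι) (M : Subgroup (GL ι F))
    (hMΩ : ∀ h ∈ commutator ↥(Cfsg.isometryGroup F ⇑Q), (h : GL ι F) ∈ M)
    (x₁ : ι → F) (hQx : Q x₁ = 0) (hx0 : x₁ ≠ 0)
    (h1 : ∀ d, polar (⇑Q) x₁ d = 0 → TQ Q M x₁ d) :
    ∀ x d, Q x = 0 → polar (⇑Q) x d = 0 → TQ Q M x d := by
  intro x d hQx' hxd'
  by_cases hx'0 : x = 0
  · rw [hx'0]
    exact TQ.zero_left M d
  obtain ⟨h, hh, t, ht0, hht⟩ := omega_trans_pts Q hQ hn x₁ x hQx hx0 hQx' hx'0
  have h3 : polar (⇑Q) x₁ (iact h⁻¹ (t⁻¹ • d)) = 0 := by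
    rw [← polar_iact h, iact_iact_inv, hht, polar_smul_left, polar_smul_right, hxd']
    simp
  have h2 := (h1 (iact h⁻¹ (t⁻¹ • d)) h3).conj_isom h (hMΩ h hh)
  rw [hht, iact_iact_inv, TQ.smul_iff, smul_smul, mul_inv_cancel₀ ht0, one_smul] at h2
  exact h2

end sv6

end Cfsg.Agent.helper13
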