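import Mathlib
import Cfsg.Agent.Lib_helper13_Sv6
import Cfsg.Agent.Lib_helper13_GeoBridge

/-! The group of similarities of determinant one of a nondegenerate quadratic form over a finite
field of odd order is maximal in the special linear group (dimension at least thirteen). -/

set_option autoImplicit false

namespace Cfsg.Agent.helper13

open Module Matrix QuadraticMap Cfsg.Agent.S0794

section sv7
variable {F : Type*} [Field F] [Fintype F] {ι : Type} [Fintype ι] [DecidableEq ι]
variable (Q : QuadraticForm F (ι → F))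

/-- a hyperbolic pair orthogonal to a given vector -/
theorem exists_hyp_orth_vec (h2 : (2 : F) ≠ 0) (hQ : (polarBilin Q).Nondegenerate)
    (hn : 5 ≤ Fintype.card ι) (d : ι → F) :
    ∃ e f : ι → F, Q e = 0 ∧ Q f = 0 ∧ polar (⇑Q) e f = 1 ∧ polar (⇑Q) d e = 0 ∧
      polar (⇑Q) d f = 0 := by
  obtain ⟨ds, hds⟩ : ∃ ds, d = 0 ∨ polar (⇑Q) d ds = 1 := by
    by_cases hd : d = 0
    · exact ⟨0, Or.inl hd⟩
    · obtain ⟨g, hg⟩ : ∃ g, polar (⇑Q) d g ≠ 0 := by
        by_contra hcon
        push Not at hcon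
        exact hd (hQ.1 d (fun y => by rw [polarBilin_apply_apply]; exact hcon y))
      exact ⟨(polar (⇑Q) d g)⁻¹ • g, Or.inr (by
        rw [polar_smul_right, smul_eq_mul, inv_mul_cancel₀ hg])⟩
  obtain ⟨e, he0, hQe, heφ⟩ := exists_singular_perp Q h2 hQ
    ![polarBilin Q d, polarBilin Q ds] (by omega)
  have hde : polar (⇑Q) d e = 0 := by simpa using heφ 0
  have hdse : polar (⇑Q) ds e = 0 := by simpa using heφ 1
  have henot : e ∉ Submodule.span F {d} := by
    intro hmem
    obtain ⟨α, rfl⟩ := Submodule.mem_span_singleton.mp hmem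
    rcases hds with hd | hds
    · apply he0
      rw [hd, smul_zero]
    · rw [polar_smul_right, polar_comm (⇑Q) ds d, hds, smul_eq_mul, mul_one] at hdse
      apply he0
      rw [hdse, zero_smul]
  obtain ⟨W, hW⟩ : ∃ W, W = orthQ Q (Submodule.span F {d}) := ⟨_, rfl⟩
  obtain ⟨w, hwW, hew⟩ : ∃ w ∈ W, polar (⇑Q) e w ≠ 0 := by
    by_contra hcon
    push Not at hcon
    apply henot
    rw [← orth_orth Q hQ (Submodule.span F {d}), ← hW, mem_orth_iff]
    intro u hu
    rw [polar_comm]
    exact hcon u hu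
  have heW : e ∈ W := by
    rw [hW, mem_orth_singleton_iff]
    exact hde
  obtain ⟨f, hfW, hQf, hef⟩ := exists_partner_of_polar_ne Q W e w heW hwW hQe hew
  rw [hW, mem_orth_singleton_iff] at hfW
  exact ⟨e, f, hQe, hQf, hef, hde, hfW⟩

/-- Step 3: from singular axis vectors to all axis vectors -/
theorem TQ_all (h2 : (2 : F) ≠ 0) (hQ : (polarBilin Q).Nondegenerate)
    (hn : 5 ≤ Fintype.card ι) (M : Subgroup (GL ι F))
    (hS : ∀ x d, Q x = 0 → polar (⇑Q) x d = 0 → TQ Q M x d) :
    ∀ x d, polar (⇑Q) x d = 0 → TQ Q M x d := by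
  intro x d hxd
  obtain ⟨e, f, hQe, hQf, hef, hde, hdf⟩ := exists_hyp_orth_vec Q h2 hQ hn d
  have hle := le_of_singular_mem Q (LinearMap.ker (polarBilin Q d)) (TQax Q M d) e f
    (by rw [LinearMap.mem_ker, polarBilin_apply_apply]; exact hde)
    (by rw [LinearMap.mem_ker, polarBilin_apply_apply]; exact hdf) hQe hQf hef
    (fun s hs hQs => by
      rw [LinearMap.mem_ker, polarBilin_apply_apply] at hs
      have hsd : polar (⇑Q) s d = 0 := by rw [polar_comm]; exact hs
      exact (mem_TQax Q).mpr ⟨hsd, fun c => hS s (c • d) hQs (by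
        rw [polar_smul_right, hsd, smul_zero])⟩)
  have hx : x ∈ TQax Q M d := hle (by
    rw [LinearMap.mem_ker, polarBilin_apply_apply, polar_comm]; exact hxd)
  have := ((mem_TQax Q).mp hx).2 1
  rwa [one_smul] at this

omit [Fintype F] in
theorem exists_dot_rep (f : (ι → F) →ₗ[F] F) : ∃ φ : ι → F, ∀ z, φ ⬝ᵥ z = f z := by
  refine ⟨fun i => f (Pi.single i 1), fun z => ?_⟩
  rw [LinearMap.pi_apply_eq_sum_univ f z]
  unfold dotProduct
  apply Finset.sum_congr rfl
  intro i _
  rw [smul_eq_mul, mul_comm]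
  congr 1
  show f (Pi.single i 1) = _
  congr 1
  funext j
  rw [Pi.single_apply]
  simp only [eq_comm]

end sv7

section sv7b
variable {F : Type*} [Field F] [Fintype F] {n : ℕ}
variable (Q : QuadraticForm F (Fin n → F))

omit [Fintype F] in
theorem SL_le_of_TQ (hQ : (polarBilin Q).Nondegenerate) (hn : 2 ≤ n)
    (M : Subgroup (GL (Fin n) F)) (hT : ∀ x d, polar (⇑Q) x d = 0 → TQ Q M x d) :
    Cfsg.Geo.specialLinear (Fin n) F ≤ M := by
  apply Cfsg.Agent.helper29.SL_le_of_G1 hn M
  intro y φ h0 h1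
  obtain ⟨ψ, hψ⟩ : ∃ ψ : Module.Dual F (Fin n → F), ∀ z, ψ z = φ ⬝ᵥ z :=
    ⟨{ toFun := fun z => φ ⬝ᵥ z
       map_add' := fun a b => dotProduct_add _ _ _
       map_smul' := fun c a => by simp [dotProduct_smul] }, fun z => rfl⟩
  obtain ⟨x, hx⟩ : ∃ x, ∀ z, polar (⇑Q) x z = φ ⬝ᵥ z := by
    refine ⟨(LinearMap.BilinForm.toDual (polarBilin Q) hQ).symm ψ, fun z => ?_⟩
    have := LinearMap.BilinForm.apply_toDual_symm_apply (B := polarBilin Q) (hB := hQ) ψ z
    rw [polarBilin_apply_apply] at this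
    rw [this, hψ]
  obtain ⟨t, htM, ht⟩ := hT x y (by rw [hx, h0])
  have : Cfsg.Agent.S0772.G1 y φ h1 = t := gl_ext_of_mulVec (fun z => by
    rw [Cfsg.Agent.helper29.G1_mulVec', ht, hx])
  rw [this]
  exact htM

theorem quadSim_inf_SL_maximal (hodd : Odd (Fintype.card F)) (hn : 13 ≤ n)
    (hQ : (polarBilin Q).Nondegenerate) :
    Cfsg.Geo.IsMaximalIn (Cfsg.Geo.specialLinear (Fin n) F)
      (Cfsg.Geo.quadSimilarityGroup (⇑Q) ⊓ Cfsg.Geo.specialLinear (Fin n) F) := by
  classical
  have h2 : (2 : F) ≠ 0 := by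
    intro h
    have hc : ringChar F = 2 := CharP.ringChar_of_prime_eq_zero Nat.prime_two h
    have := FiniteField.even_card_of_char_two hc
    rw [Nat.odd_iff] at hodd
    omega
  have hcard : Fintype.card (Fin n) = n := Fintype.card_fin n
  -- the commutator subgroup of the isometry group lies in the group of the statement
  have hΩH : ∀ h ∈ commutator ↥(Cfsg.isometryGroup F ⇑Q), (h : GL (Fin n) F) ∈
      Cfsg.Geo.quadSimilarityGroup (⇑Q) ⊓ Cfsg.Geo.specialLinear (Fin n) F := by
    intro h hh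
    refine ⟨⟨1, fun v => ?_⟩, ?_⟩
    · rw [Units.val_one, one_mul]
      exact Q_iact h v
    · have := Abelianization.commutator_subset_ker
        ((Matrix.GeneralLinearGroup.det : GL (Fin n) F →* Fˣ).comp
          (Cfsg.isometryGroup F ⇑Q).subtype) hh
      rw [MonoidHom.mem_ker] at this
      show (h : GL (Fin n) F) ∈ (Matrix.GeneralLinearGroup.det : GL (Fin n) F →* Fˣ).ker
      rw [MonoidHom.mem_ker]
      exact this
  refine ⟨?_, ?_⟩
  · -- proper
    refine lt_of_le_of_ne inf_le_right ?_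
    intro heq
    obtain ⟨x, -, hx0, hQx⟩ := exists_singular_in Q h2 hQ ⊤ (by
      rw [finrank_top, Module.finrank_fintype_fun_eq_card, hcard]; omega)
    obtain ⟨y, hQy, hxy⟩ := exists_hyp_pair Q hQ x hx0 hQx
    obtain ⟨φ, hφ⟩ := exists_dot_rep (polarBilin Q x)
    have h0 : φ ⬝ᵥ x = 0 := by
      rw [hφ, polarBilin_apply_apply, polar_self', hQx, mul_zero]
    have h1 : 1 + φ ⬝ᵥ x ≠ 0 := by
      rw [h0, add_zero]
      exact one_ne_zero
    have hmem : Cfsg.Agent.S0772.G1 x φ h1 ∈ Cfsg.Geo.specialLinear (Fin n) F :=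
      Cfsg.Agent.helper29.G1_mem_SL x φ h0 h1
    rw [← heq] at hmem
    obtain ⟨⟨c, hc⟩, -⟩ := hmem
    have := hc y
    rw [Cfsg.Agent.helper29.G1_mulVec', hφ, polarBilin_apply_apply, hxy, one_smul, hQy, mul_zero,
      Q_add_polar, hQy, hQx, polar_comm, hxy] at this
    simp at this
  · intro M hHM hMS
    by_cases hMq : M ≤ Cfsg.Geo.quadSimilarityGroup (⇑Q)
    · left
      exact le_antisymm (le_inf hMq hMS) hHM
    · right
      apply le_antisymm hMS
      obtain ⟨g, hgM, hgq⟩ := Set.not_subset.mp hMq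
      have hMΩ : ∀ h ∈ commutator ↥(Cfsg.isometryGroup F ⇑Q), (h : GL (Fin n) F) ∈ M :=
        fun h hh => hHM (hΩH h hh)
      have hM1 : ∀ (x v : Fin n → F) (hx : Q x = 0) (hv : Q v = 0)
          (hxv : polar (⇑Q) x v = 0) (c : F),
          ((sieG Q x v hx hv hxv c : ↥(Cfsg.isometryGroup F ⇑Q)) : GL (Fin n) F) ∈ M :=
        fun x v hx hv hxv c => hMΩ _ (sieG_mem_commutator Q hQ (by rw [hcard]; omega) x v hx hv
          hxv c)
      have hgns : ¬ ∃ κ : F, ∀ z, Q ((g : Matrix (Fin n) (Fin n) F) *ᵥ z) = κ * Q z := by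
        rintro ⟨κ, hκ⟩
        apply hgq
        have hκ0 : κ ≠ 0 := by
          rintro rfl
          have hall : ∀ w, Q w = 0 := by
            intro w
            have := hκ (((g⁻¹ : GL (Fin n) F) : Matrix (Fin n) (Fin n) F) *ᵥ w)
            rw [gl_self_mulVec_inv, zero_mul] at this
            exact this
          obtain ⟨x, -, hx0, -⟩ := exists_singular_in Q h2 hQ ⊤ (by
            rw [finrank_top, Module.finrank_fintype_fun_eq_card, hcard]; omega)
          apply hx0
          apply hQ.1 x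
          intro y
          rw [polarBilin_apply_apply]
          unfold polar
          rw [hall, hall, hall]
          simp
        exact ⟨Units.mk0 κ hκ0, fun v => by rw [Units.val_mk0]; exact hκ v⟩
      obtain ⟨x₁, d₀, hQx₁, hx₁0, hxd, hd₀, hT⟩ := step1_config Q h2 hQ (by rw [hcard]; exact hn)
        M hM1 g hgM hgns
      have hA := TQ_axis_all Q h2 hQ (by rw [hcard]; omega) M hMΩ x₁ d₀ hQx₁ hx₁0 hxd hd₀ hT
      have hS := TQ_all_singular Q hQ (by rw [hcard]; omega) M hMΩ x₁ hQx₁ hx₁0 hA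
      have hall := TQ_all Q h2 hQ (by rw [hcard]; omega) M hS
      exact SL_le_of_TQ Q hQ (by omega) M hall

end sv7b

end Cfsg.Agent.helper13
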