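import Mathlib
import Cfsg.Agent.Lib_helper13_Sr1
import Cfsg.Agent.Lib_helper13_Nd8
import Cfsg.Agent.Lib_helper13_ClassChar

/-! Pointwise fixers of subspaces in an orthogonal group; two small subspaces have a common
nontrivial fixer. -/

set_option autoImplicit false

namespace Cfsg.Agent.helper13

open Matrix QuadraticMap Module Cfsg.Agent.S0794

section syl2a
variable {F : Type*} [Field F] {ι : Type} [Fintype ι] [DecidableEq ι]
variable (Q : QuadraticForm F (ι → F))

/-- pointwise fixer of a subspace. -/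
def fixSub (A : Submodule F (ι → F)) : Subgroup ↥(Cfsg.isometryGroup F ⇑Q) where
  carrier := {g | ∀ a ∈ A, iact g a = a}
  mul_mem' := by
    intro g h hg hh a ha
    rw [iact_mul, hh a ha, hg a ha]
  one_mem' := fun a _ => iact_one a
  inv_mem' := by
    intro g hg a ha
    have := iact_inv_iact g a
    rwa [hg a ha] at this

theorem mem_fixSub (A : Submodule F (ι → F)) (g : ↥(Cfsg.isometryGroup F ⇑Q)) :
    g ∈ fixSub Q A ↔ ∀ a ∈ A, iact g a = a := Iff.rfl

theorem fixSub_conj (A : Submodule F (ι → F)) (y g : ↥(Cfsg.isometryGroup F ⇑Q))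
    (hg : g ∈ fixSub Q (gmap y A)) : y⁻¹ * g * y ∈ fixSub Q A := by
  intro a ha
  rw [iact_mul, iact_mul, hg (iact y a) ((mem_gmap y A _).mpr ⟨a, ha, rfl⟩), iact_inv_iact]

/-- two subspaces whose dimensions add up to at most `n - 2` are fixed pointwise by a common
nontrivial isometry. -/
theorem exists_fix_two (hQ : (polarBilin Q).Nondegenerate) (A A' : Submodule F (ι → F))
    (h : finrank F A + finrank F A' + 2 ≤ Fintype.card ι) :
    ∃ g : ↥(Cfsg.isometryGroup F ⇑Q), g ≠ 1 ∧ g ∈ fixSub Q A ∧ g ∈ fixSub Q A' := by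
  obtain ⟨T, hT⟩ : ∃ T, T = A ⊔ A' := ⟨_, rfl⟩
  have hT1 : finrank F T ≤ finrank F A + finrank F A' := by
    rw [hT]
    exact Submodule.finrank_add_le_finrank_add_finrank A A'
  have hZ := finrank_add_finrank_orth Q hQ T
  have hZ2 : 2 ≤ finrank F (orthQ Q T) := by omega
  have hAT : A ≤ T := by rw [hT]; exact le_sup_left
  have hAT' : A' ≤ T := by rw [hT]; exact le_sup_right
  have hexp : ∀ v : ι → F, v ≠ 0 → ∃ x, polar (⇑Q) v x ≠ 0 := by
    intro v hv
    by_contra hcon
    push Not at hcon
    apply hv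
    apply hQ.1
    intro y
    rw [polarBilin_apply_apply]
    exact hcon y
  by_cases hns : ∃ v ∈ orthQ Q T, Q v ≠ 0
  · obtain ⟨v, hv, hQv⟩ := hns
    have hv0 : v ≠ 0 := by
      rintro rfl
      exact hQv (QuadraticMap.map_zero Q)
    obtain ⟨x, hx⟩ := hexp v hv0
    have hfix : ∀ a ∈ T, iact (reflG Q v hQv) a = a := by
      intro a ha
      apply iact_reflG_of_polar
      rw [polar_comm]
      exact (mem_orth_iff Q T v).mp hv a ha
    refine ⟨reflG Q v hQv, ?_, fun a ha => hfix a (hAT ha), fun a ha => hfix a (hAT' ha)⟩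
    intro h1
    have h2 := iact_reflG Q v hQv x
    rw [h1, iact_one] at h2
    have h3 : ((Q v)⁻¹ * polar (⇑Q) v x) • v = 0 := by
      have h4 : x - ((Q v)⁻¹ * polar (⇑Q) v x) • v = x - 0 := by rw [sub_zero]; exact h2.symm
      exact sub_right_injective h4
    rcases smul_eq_zero.mp h3 with h5 | h5
    · rcases mul_eq_zero.mp h5 with h6 | h6
      · exact hQv (inv_eq_zero.mp h6)
      · exact hx h6
    · exact hv0 h5
  · push Not at hns
    obtain ⟨u, hu, hu0⟩ : ∃ u ∈ orthQ Q T, u ≠ 0 := by
      by_contra hcon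
      push Not at hcon
      have : orthQ Q T = ⊥ := by
        rw [Submodule.eq_bot_iff]
        exact hcon
      rw [this, finrank_bot] at hZ2
      omega
    obtain ⟨w, hw, hwu⟩ := exists_not_mem_span (orthQ Q T) hZ2 u
    have hli : LinearIndependent F ![u, w] := by
      rw [LinearIndependent.pair_iff]
      intro s t hst
      by_cases ht : t = 0
      · rw [ht, zero_smul, add_zero] at hst
        rcases smul_eq_zero.mp hst with h1 | h1
        · exact ⟨h1, ht⟩
        · exact absurd h1 hu0
      · exfalso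
        apply hwu
        rw [Submodule.mem_span_singleton]
        refine ⟨-(t⁻¹ * s), ?_⟩
        have h1 : t • w = -(s • u) := eq_neg_of_add_eq_zero_right hst
        have h2 : w = t⁻¹ • (t • w) := by rw [smul_smul, inv_mul_cancel₀ ht, one_smul]
        rw [h2, h1, smul_neg, smul_smul, neg_smul]
    have hQu : Q u = 0 := hns u hu
    have hQw : Q w = 0 := hns w hw
    have huw : polar (⇑Q) u w = 0 := by
      have h1 := Q_add_polar Q u w
      rw [hns (u + w) ((orthQ Q T).add_mem hu hw), hQu, hQw, zero_add, zero_add] at h1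
      exact h1.symm
    obtain ⟨ps, rs, d1, d2, d3, d4⟩ := exists_dual_pair Q hQ u w hli
    have hfix : ∀ a ∈ T, iact (sieG Q u w hQu hQw huw 1) a = a := by
      intro a ha
      rw [iact_sieG]
      have e1 : polar (⇑Q) u a = 0 := by
        rw [polar_comm]
        exact (mem_orth_iff Q T u).mp hu a ha
      have e2 : polar (⇑Q) w a = 0 := by
        rw [polar_comm]
        exact (mem_orth_iff Q T w).mp hw a ha
      rw [e1, e2, zero_smul, zero_smul, sub_zero, smul_zero, add_zero]
    refine ⟨sieG Q u w hQu hQw huw 1, ?_, fun a ha => hfix a (hAT ha), fun a ha => hfix a (hAT' ha)⟩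
    intro h1
    have h2 := iact_sieG Q u w hQu hQw huw 1 ps
    rw [h1, iact_one, d1, d2, one_smul, one_smul, zero_smul, sub_zero] at h2
    have h3 : w = 0 := by
      have h4 : ps + 0 = ps + w := by rw [add_zero]; exact h2
      exact (add_left_cancel h4).symm
    apply hwu
    rw [h3]
    exact Submodule.zero_mem _

end syl2a

end Cfsg.Agent.helper13
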