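import Mathlib
import Cfsg.Agent.Lib_helper13_Syl2a
import Cfsg.Agent.Lib_helper13_QStd
import Cfsg.Agent.Lib_helper13_Dec4

/-! The hyperbolic form over the field with two elements: the pointwise fixer of a totally singular
subspace of dimension `m - 1` is a 2-group. -/

set_option autoImplicit false

namespace Cfsg.Agent.helper13

open Matrix QuadraticMap Module

section syl2b
variable {F : Type*} [Field F] {m : ℕ}

theorem polar_QPlus_sum (u v : Fin m ⊕ Fin m → F) :
    polar (⇑(QPlus F m)) u v =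
      ∑ i : Fin m, (u (Sum.inl i) * v (Sum.inr i) + u (Sum.inr i) * v (Sum.inl i)) := by
  rw [polar_QPlus, dotProduct, Fintype.sum_sum_type, Finset.sum_add_distrib]
  congr 1
  · apply Finset.sum_congr rfl
    intro i _
    congr 1
    simp [gramPlus, Matrix.mulVec, dotProduct, Fintype.sum_sum_type, Matrix.one_apply]
  · apply Finset.sum_congr rfl
    intro i _
    congr 1
    simp [gramPlus, Matrix.mulVec, dotProduct, Fintype.sum_sum_type, Matrix.one_apply]

theorem polar_QPlus_inl (v : Fin m ⊕ Fin m → F) (i : Fin m) :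
    polar (⇑(QPlus F m)) v (Pi.single (Sum.inl i) 1) = v (Sum.inr i) := by
  rw [polar_QPlus_sum]
  simp [Pi.single_apply]

/-- the span of the first-half basis vectors other than the `i₀`-th one. -/
def subA0 (F : Type*) [Field F] {m : ℕ} (i₀ : Fin m) : Submodule F (Fin m ⊕ Fin m → F) where
  carrier := {v | v (Sum.inl i₀) = 0 ∧ ∀ i, v (Sum.inr i) = 0}
  add_mem' := by
    intro u v hu hv
    refine ⟨?_, fun i => ?_⟩
    · rw [Pi.add_apply, hu.1, hv.1, add_zero]
    · rw [Pi.add_apply, hu.2 i, hv.2 i, add_zero]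
  zero_mem' := ⟨rfl, fun _ => rfl⟩
  smul_mem' := by
    intro c v hv
    refine ⟨?_, fun i => ?_⟩
    · rw [Pi.smul_apply, hv.1, smul_zero]
    · rw [Pi.smul_apply, hv.2 i, smul_zero]

theorem mem_subA0 (i₀ : Fin m) (v : Fin m ⊕ Fin m → F) :
    v ∈ subA0 F i₀ ↔ v (Sum.inl i₀) = 0 ∧ ∀ i, v (Sum.inr i) = 0 := Iff.rfl

theorem finrank_subA0_le (i₀ : Fin m) : finrank F (subA0 F i₀) ≤ m - 1 := by
  have hinj : Function.Injective
      ((LinearMap.funLeft F F (fun i : {i : Fin m // i ≠ i₀} => (Sum.inl i.1 : Fin m ⊕ Fin m))).comp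
        (subA0 F i₀).subtype) := by
    rw [← LinearMap.ker_eq_bot, LinearMap.ker_eq_bot']
    intro a ha
    apply Subtype.ext
    funext j
    rcases j with i | i
    · by_cases hi : i = i₀
      · rw [hi]
        exact a.2.1
      · have := congr_fun ha ⟨i, hi⟩
        exact this
    · exact a.2.2 i
  have h1 := LinearMap.finrank_le_finrank_of_injective hinj
  rw [Module.finrank_fintype_fun_eq_card] at h1
  have h2 : Fintype.card {i : Fin m // i ≠ i₀} = m - 1 := by
    rw [Fintype.card_subtype_compl, Fintype.card_fin]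
    simp
  omega

end syl2b

section syl2c
variable {F : Type*} [Field F] [Fintype F] {m : ℕ}

theorem f2_square_id (hF : Fintype.card F = 2) (a b c d α β : F) (hab : a * b = 0) (hcd : c * d = 0)
    (had : a * d + b * c = 1) :
    (α * a + β * c) * a + (α * b + β * d) * c = α ∧
      (α * a + β * c) * b + (α * b + β * d) * d = β := by
  rcases dec_f2_cases hF a with rfl | rfl <;> rcases dec_f2_cases hF b with rfl | rfl <;>
    rcases dec_f2_cases hF c with rfl | rfl <;> rcases dec_f2_cases hF d with rfl | rfl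
  all_goals first
    | (exfalso; norm_num at hab; done)
    | (exfalso; norm_num at hcd; done)
    | (exfalso; norm_num at had; done)
    | (constructor <;> ring)

/-- an isometry fixing `subA0` pointwise has order dividing eight. -/
theorem fix_subA0_pow (hF : Fintype.card F = 2) (i₀ : Fin m)
    (g : ↥(Cfsg.isometryGroup F ⇑(QPlus F m))) (hg : g ∈ fixSub (QPlus F m) (subA0 F i₀)) :
    g ^ 8 = 1 := by
  have h2 : (2 : F) = 0 := dec_f2_two hF
  have hvv : ∀ v : Fin m ⊕ Fin m → F, v + v = 0 := by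
    intro v
    rw [← two_smul F v, h2, zero_smul]
  -- coordinates outside `i₀` in the second half are preserved
  have claim1 : ∀ (v : Fin m ⊕ Fin m → F) (i : Fin m), i ≠ i₀ →
      (iact g v) (Sum.inr i) = v (Sum.inr i) := by
    intro v i hi
    have hei : (Pi.single (Sum.inl i) 1 : Fin m ⊕ Fin m → F) ∈ subA0 F i₀ := by
      refine ⟨?_, fun j => ?_⟩
      · rw [Pi.single_apply, if_neg]
        intro h
        exact hi (Sum.inl.inj h).symm
      · rw [Pi.single_apply, if_neg]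
        exact Sum.inr_ne_inl
    rw [← polar_QPlus_inl (iact g v) i, ← polar_QPlus_inl v i]
    conv_lhs => rw [← hg _ hei]
    exact polar_iact g _ _
  have hP_g : ∀ w : Fin m ⊕ Fin m → F, (∀ i, i ≠ i₀ → w (Sum.inr i) = 0) →
      ∀ i, i ≠ i₀ → (iact g w) (Sum.inr i) = 0 := by
    intro w hw i hi
    rw [claim1 w i hi]
    exact hw i hi
  have hQP : ∀ w : Fin m ⊕ Fin m → F, (∀ i, i ≠ i₀ → w (Sum.inr i) = 0) →
      QPlus F m w = w (Sum.inl i₀) * w (Sum.inr i₀) := by
    intro w hw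
    rw [QPlus_apply]
    unfold Cfsg.quadFormPlus
    apply Finset.sum_eq_single i₀
    · intro i _ hi
      rw [hw i hi, mul_zero]
    · intro h
      exact absurd (Finset.mem_univ i₀) h
  have hBP : ∀ w w' : Fin m ⊕ Fin m → F, (∀ i, i ≠ i₀ → w (Sum.inr i) = 0) →
      (∀ i, i ≠ i₀ → w' (Sum.inr i) = 0) →
      polar (⇑(QPlus F m)) w w' =
        w (Sum.inl i₀) * w' (Sum.inr i₀) + w (Sum.inr i₀) * w' (Sum.inl i₀) := by
    intro w w' hw hw'
    rw [polar_QPlus_sum]
    apply Finset.sum_eq_single i₀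
    · intro i _ hi
      rw [hw i hi, hw' i hi, mul_zero, zero_mul, add_zero]
    · intro h
      exact absurd (Finset.mem_univ i₀) h
  obtain ⟨e, he⟩ : ∃ e : Fin m ⊕ Fin m → F, e = Pi.single (Sum.inl i₀) 1 := ⟨_, rfl⟩
  obtain ⟨f, hf⟩ : ∃ f : Fin m ⊕ Fin m → F, f = Pi.single (Sum.inr i₀) 1 := ⟨_, rfl⟩
  have heP : ∀ i, i ≠ i₀ → e (Sum.inr i) = 0 := by
    intro i _
    rw [he, Pi.single_apply, if_neg]
    exact Sum.inr_ne_inl
  have hfP : ∀ i, i ≠ i₀ → f (Sum.inr i) = 0 := by
    intro i hi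
    rw [hf, Pi.single_apply, if_neg]
    intro h
    exact hi (Sum.inr.inj h)
  have he1 : e (Sum.inl i₀) = 1 := by rw [he, Pi.single_eq_same]
  have he2 : e (Sum.inr i₀) = 0 := by
    rw [he, Pi.single_apply, if_neg]
    exact Sum.inr_ne_inl
  have hf1 : f (Sum.inl i₀) = 0 := by
    rw [hf, Pi.single_apply, if_neg]
    exact Sum.inl_ne_inr
  have hf2 : f (Sum.inr i₀) = 1 := by rw [hf, Pi.single_eq_same]
  have hgeP := hP_g e heP
  have hgfP := hP_g f hfP
  obtain ⟨a, ha⟩ : ∃ a, a = (iact g e) (Sum.inl i₀) := ⟨_, rfl⟩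
  obtain ⟨b, hb⟩ : ∃ b, b = (iact g e) (Sum.inr i₀) := ⟨_, rfl⟩
  obtain ⟨c, hc⟩ : ∃ c, c = (iact g f) (Sum.inl i₀) := ⟨_, rfl⟩
  obtain ⟨d, hd⟩ : ∃ d, d = (iact g f) (Sum.inr i₀) := ⟨_, rfl⟩
  have hab : a * b = 0 := by
    rw [ha, hb, ← hQP (iact g e) hgeP, Q_iact, hQP e heP, he2, mul_zero]
  have hcd : c * d = 0 := by
    rw [hc, hd, ← hQP (iact g f) hgfP, Q_iact, hQP f hfP, hf1, zero_mul]
  have had : a * d + b * c = 1 := by
    rw [ha, hb, hc, hd, ← hBP (iact g e) (iact g f) hgeP hgfP, polar_iact, hBP e f heP hfP,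
      he1, he2, hf1, hf2]
    ring
  -- the action on the two remaining coordinates
  have hdec : ∀ w : Fin m ⊕ Fin m → F, (∀ i, i ≠ i₀ → w (Sum.inr i) = 0) →
      (iact g w) (Sum.inl i₀) = w (Sum.inl i₀) * a + w (Sum.inr i₀) * c ∧
      (iact g w) (Sum.inr i₀) = w (Sum.inl i₀) * b + w (Sum.inr i₀) * d := by
    intro w hw
    obtain ⟨w₀, hw₀⟩ : ∃ w₀, w₀ = w - w (Sum.inl i₀) • e - w (Sum.inr i₀) • f := ⟨_, rfl⟩
    have hw₀A : w₀ ∈ subA0 F i₀ := by
      refine ⟨?_, fun i => ?_⟩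
      · rw [hw₀]
        simp only [Pi.sub_apply, Pi.smul_apply, smul_eq_mul, he1, hf1]
        ring
      · rw [hw₀]
        simp only [Pi.sub_apply, Pi.smul_apply, smul_eq_mul]
        by_cases hi : i = i₀
        · rw [hi, he2, hf2]
          ring
        · rw [hw i hi, heP i hi, hfP i hi]
          ring
    have hw' : w = w₀ + w (Sum.inl i₀) • e + w (Sum.inr i₀) • f := by
      rw [hw₀]
      abel
    have hgw : iact g w = w₀ + w (Sum.inl i₀) • iact g e + w (Sum.inr i₀) • iact g f := by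
      conv_lhs => rw [hw']
      rw [iact_add, iact_add, iact_smul, iact_smul, hg w₀ hw₀A]
    constructor
    · rw [hgw]
      simp only [Pi.add_apply, Pi.smul_apply, smul_eq_mul]
      rw [hw₀A.1, ← ha, ← hc, zero_add]
    · rw [hgw]
      simp only [Pi.add_apply, Pi.smul_apply, smul_eq_mul]
      rw [hw₀A.2 i₀, ← hb, ← hd, zero_add]
  have claim3 : ∀ w : Fin m ⊕ Fin m → F, (∀ i, i ≠ i₀ → w (Sum.inr i) = 0) →
      iact g (iact g w) - w ∈ subA0 F i₀ := by
    intro w hw
    have hgw := hP_g w hw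
    obtain ⟨k1, k2⟩ := hdec w hw
    obtain ⟨k3, k4⟩ := hdec (iact g w) hgw
    obtain ⟨k5, k6⟩ := f2_square_id hF a b c d (w (Sum.inl i₀)) (w (Sum.inr i₀)) hab hcd had
    refine ⟨?_, fun i => ?_⟩
    · rw [Pi.sub_apply, k3, k1, k2, k5, sub_self]
    · by_cases hi : i = i₀
      · rw [hi, Pi.sub_apply, k4, k1, k2, k6, sub_self]
      · rw [Pi.sub_apply, hP_g _ hgw i hi, hw i hi, sub_self]
  have hn : ∀ v : Fin m ⊕ Fin m → F, ∀ i, i ≠ i₀ → (iact g (iact g v) - v) (Sum.inr i) = 0 := by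
    intro v i hi
    rw [Pi.sub_apply, claim1 (iact g v) i hi, claim1 v i hi, sub_self]
  have hM : ∀ v : Fin m ⊕ Fin m → F,
      iact g (iact g (iact g (iact g v))) - v ∈ subA0 F i₀ := by
    intro v
    have h1 := claim3 (iact g (iact g v) - v) (hn v)
    rw [iact_sub, iact_sub] at h1
    have e1 : iact g (iact g (iact g (iact g v))) - iact g (iact g v) - (iact g (iact g v) - v) =
        iact g (iact g (iact g (iact g v))) - v - (iact g (iact g v) + iact g (iact g v)) + (v + v) := by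
      abel
    rw [e1, hvv, hvv, sub_zero, add_zero] at h1
    exact h1
  have hfix4 : ∀ a ∈ subA0 F i₀, iact g (iact g (iact g (iact g a))) = a := by
    intro a ha
    rw [hg a ha, hg a ha, hg a ha, hg a ha]
  have h8 : ∀ v : Fin m ⊕ Fin m → F,
      iact g (iact g (iact g (iact g (iact g (iact g (iact g (iact g v))))))) = v := by
    intro v
    have h1 := hfix4 _ (hM v)
    rw [iact_sub, iact_sub, iact_sub, iact_sub] at h1
    obtain ⟨X, hX⟩ : ∃ X, X = iact g (iact g (iact g (iact g v))) := ⟨_, rfl⟩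
    rw [← hX] at h1
    obtain ⟨Y, hY⟩ : ∃ Y, Y = iact g (iact g (iact g (iact g X))) := ⟨_, rfl⟩
    rw [← hX, ← hY]
    rw [← hY] at h1
    have h3 : Y = X + X - v := by
      have : Y = (Y - X) + X := by abel
      rw [this, h1]
      abel
    rw [h3, hvv, zero_sub]
    exact neg_eq_of_add_eq_zero_left (hvv v)
  apply iact_ext
  intro x
  have hpow : g ^ 8 = g * (g * (g * (g * (g * (g * (g * g)))))) := by
    simp only [pow_succ, pow_zero, one_mul, mul_assoc]
  rw [hpow, iact_one]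
  simp only [iact_mul]
  exact h8 x

theorem fixSub_subA0_isPGroup (hF : Fintype.card F = 2) (i₀ : Fin m) :
    IsPGroup 2 (fixSub (QPlus F m) (subA0 F i₀)) := by
  rintro ⟨g, hg⟩
  refine ⟨3, ?_⟩
  apply Subtype.ext
  rw [Subgroup.coe_pow, Subgroup.coe_one]
  exact fix_subA0_pow hF i₀ g hg

end syl2c

end Cfsg.Agent.helper13
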