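import Mathlib
import Cfsg.Agent.Lib_helper13_Syl2b

/-! Sylow 2-subgroups of the full orthogonal group of plus type over the field with two elements
pairwise meet. -/

set_option autoImplicit false

namespace Cfsg.Agent.helper13

open Matrix QuadraticMap Module
open scoped Pointwise

section syl2d
variable {F : Type*} [Field F] [Fintype F] {m : ℕ}

theorem sylow_two_meet (hF : Fintype.card F = 2) (hm : 2 ≤ m)
    (H : Sylow 2 ↥(Cfsg.isometryGroup F ⇑(QPlus F m)))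
    (x : ↥(Cfsg.isometryGroup F ⇑(QPlus F m))) :
    (H : Subgroup ↥(Cfsg.isometryGroup F ⇑(QPlus F m))) ⊓
      MulAut.conj x • (H : Subgroup ↥(Cfsg.isometryGroup F ⇑(QPlus F m))) ≠ ⊥ := by
  classical
  obtain ⟨i₀, _⟩ : ∃ i₀ : Fin m, i₀ = ⟨0, by omega⟩ := ⟨_, rfl⟩
  obtain ⟨H₀, hH₀⟩ := (fixSub_subA0_isPGroup hF i₀).exists_le_sylow
  obtain ⟨y, hy⟩ := MulAction.exists_smul_eq ↥(Cfsg.isometryGroup F ⇑(QPlus F m)) H₀ H
  obtain ⟨A, hA⟩ : ∃ A, A = gmap y (subA0 F i₀) := ⟨_, rfl⟩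
  have hfr : finrank F A ≤ m - 1 := by
    rw [hA, finrank_gmap]
    exact finrank_subA0_le i₀
  have hfr' : finrank F (gmap x A) ≤ m - 1 := by
    rw [finrank_gmap]
    exact hfr
  have hcard : Fintype.card (Fin m ⊕ Fin m) = m + m := by
    rw [Fintype.card_sum, Fintype.card_fin]
  obtain ⟨g, hg1, hgA, hgA'⟩ := exists_fix_two (QPlus F m) (QPlus_nondeg m) A (gmap x A)
    (by rw [hcard]; omega)
  have key : ∀ g : ↥(Cfsg.isometryGroup F ⇑(QPlus F m)), g ∈ fixSub (QPlus F m) A →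
      g ∈ (H : Subgroup ↥(Cfsg.isometryGroup F ⇑(QPlus F m))) := by
    intro g hg
    rw [hA] at hg
    have h1 := hH₀ (fixSub_conj (QPlus F m) _ y g hg)
    rw [← hy, Sylow.coe_subgroup_smul, Subgroup.mem_pointwise_smul_iff_inv_smul_mem]
    have h2 : (MulAut.conj y)⁻¹ • g = y⁻¹ * g * y := by
      rw [MulAut.smul_def, MulAut.conj_inv_apply]
    rw [h2]
    exact h1
  intro hbot
  have hmem : g ∈ (H : Subgroup ↥(Cfsg.isometryGroup F ⇑(QPlus F m))) ⊓
      MulAut.conj x • (H : Subgroup ↥(Cfsg.isometryGroup F ⇑(QPlus F m))) := by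
    rw [Subgroup.mem_inf]
    refine ⟨key g hgA, ?_⟩
    rw [Subgroup.mem_pointwise_smul_iff_inv_smul_mem]
    have h2 : (MulAut.conj x)⁻¹ • g = x⁻¹ * g * x := by
      rw [MulAut.smul_def, MulAut.conj_inv_apply]
    rw [h2]
    exact key _ (fixSub_conj (QPlus F m) A x g hgA')
  rw [hbot, Subgroup.mem_bot] at hmem
  exact hg1 hmem

end syl2d

end Cfsg.Agent.helper13
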