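import Mathlib
import Cfsg.Agent.Lib_helper13_Frame4

/-! Pure tensors in coordinates and the action of the stabiliser of a tensor decomposition. -/

set_option autoImplicit false

namespace Cfsg.Agent.helper13

open Module Matrix QuadraticMap
open scoped Kronecker

section tens1
variable {F : Type*} [Field F] {ι : Type} [Fintype ι] [DecidableEq ι] {n₁ n₂ : ℕ}

/-- the pure tensor of two coordinate vectors -/
def ten (u : Fin n₁ → F) (w : Fin n₂ → F) : Fin n₁ × Fin n₂ → F := fun p => u p.1 * w p.2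

omit [Fintype ι] [DecidableEq ι] in
theorem ten_apply (u : Fin n₁ → F) (w : Fin n₂ → F) (i : Fin n₁) (j : Fin n₂) :
    ten u w (i, j) = u i * w j := rfl

theorem ten_add_left (u u' : Fin n₁ → F) (w : Fin n₂ → F) :
    ten (u + u') w = ten u w + ten u' w := by
  ext p
  simp only [ten, Pi.add_apply]
  ring

theorem ten_add_right (u : Fin n₁ → F) (w w' : Fin n₂ → F) :
    ten u (w + w') = ten u w + ten u w' := by
  ext p
  simp only [ten, Pi.add_apply]
  ring

theorem ten_sub_right (u : Fin n₁ → F) (w w' : Fin n₂ → F) :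
    ten u (w - w') = ten u w - ten u w' := by
  ext p
  simp only [ten, Pi.sub_apply]
  ring

theorem ten_smul_left (a : F) (u : Fin n₁ → F) (w : Fin n₂ → F) :
    ten (a • u) w = a • ten u w := by
  ext p
  simp only [ten, Pi.smul_apply, smul_eq_mul]
  ring

theorem ten_smul_right (a : F) (u : Fin n₁ → F) (w : Fin n₂ → F) :
    ten u (a • w) = a • ten u w := by
  ext p
  simp only [ten, Pi.smul_apply, smul_eq_mul]
  ring

theorem ten_neg_right (u : Fin n₁ → F) (w : Fin n₂ → F) :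
    ten u (-w) = -ten u w := by
  ext p
  simp only [ten, Pi.neg_apply]
  ring

theorem ten_zero_right (u : Fin n₁ → F) : ten u (0 : Fin n₂ → F) = 0 := by
  ext p
  simp only [ten, Pi.zero_apply, mul_zero]

/-- cancelling a nonzero right factor -/
theorem ten_right_cancel (u u' : Fin n₁ → F) (w : Fin n₂ → F) (hw : w ≠ 0)
    (h : ten u w = ten u' w) : u = u' := by
  obtain ⟨j, hj⟩ : ∃ j, w j ≠ 0 := by
    by_contra hcon
    push Not at hcon
    exact hw (funext hcon)
  ext i
  have := congrFun h (i, j)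
  simp only [ten] at this
  exact mul_right_cancel₀ hj this

/-- a linear map fixing all pure tensors with a given nonzero left factor, up to changing that
factor, is a scalar -/
theorem scalar_of_ten_eq (u u' : Fin n₁ → F) (hu : u ≠ 0) (B : Matrix (Fin n₂) (Fin n₂) F)
    (h : ∀ w : Fin n₂ → F, ten u' (B *ᵥ w) = ten u w) :
    ∃ μ : F, ∀ w : Fin n₂ → F, B *ᵥ w = μ • w := by
  obtain ⟨i, hi⟩ : ∃ i, u i ≠ 0 := by
    by_contra hcon
    push Not at hcon
    exact hu (funext hcon)
  by_cases hn : Nonempty (Fin n₂)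
  · have hi' : u' i ≠ 0 := by
      intro h0
      obtain ⟨j⟩ := hn
      have := congrFun (h (Pi.single j 1)) (i, j)
      simp only [ten, h0, zero_mul, Pi.single_eq_same, mul_one] at this
      exact hi this.symm
    refine ⟨(u' i)⁻¹ * u i, fun w => ?_⟩
    ext j
    have := congrFun (h w) (i, j)
    simp only [ten] at this
    rw [Pi.smul_apply, smul_eq_mul, mul_assoc, ← this, ← mul_assoc, inv_mul_cancel₀ hi', one_mul]
  · rw [not_nonempty_iff] at hn
    exact ⟨0, fun w => Subsingleton.elim _ _⟩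

variable (e : ι ≃ Fin n₁ × Fin n₂) (P : GL ι F)

/-- the coordinate isomorphism of the tensor structure -/
def Phi (x : Fin n₁ × Fin n₂ → F) : ι → F := (P : Matrix ι ι F) *ᵥ (x ∘ e)

theorem Phi_add (x y : Fin n₁ × Fin n₂ → F) : Phi e P (x + y) = Phi e P x + Phi e P y := by
  unfold Phi
  rw [← Matrix.mulVec_add]
  rfl

theorem Phi_sub (x y : Fin n₁ × Fin n₂ → F) : Phi e P (x - y) = Phi e P x - Phi e P y := by
  unfold Phi
  rw [← Matrix.mulVec_sub]
  rfl

theorem Phi_smul (a : F) (x : Fin n₁ × Fin n₂ → F) : Phi e P (a • x) = a • Phi e P x := by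
  unfold Phi
  rw [← Matrix.mulVec_smul]
  rfl

theorem Phi_neg (x : Fin n₁ × Fin n₂ → F) : Phi e P (-x) = -Phi e P x := by
  unfold Phi
  rw [← Matrix.mulVec_neg]
  rfl

theorem Phi_zero : Phi e P (0 : Fin n₁ × Fin n₂ → F) = 0 := by
  unfold Phi
  have : ((0 : Fin n₁ × Fin n₂ → F) ∘ e) = 0 := rfl
  rw [this, Matrix.mulVec_zero]

theorem Phi_injective : Function.Injective (Phi e P : (Fin n₁ × Fin n₂ → F) → ι → F) := by
  intro x y h
  unfold Phi at h
  have h1 := congrArg (fun v => ((P⁻¹ : GL ι F) : Matrix ι ι F) *ᵥ v) h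
  simp only [Matrix.mulVec_mulVec, ← Units.val_mul, inv_mul_cancel, Units.val_one,
    Matrix.one_mulVec] at h1
  funext p
  have := congrFun h1 (e.symm p)
  simpa using this

theorem kron_mulVec_ten (A : Matrix (Fin n₁) (Fin n₁) F) (B : Matrix (Fin n₂) (Fin n₂) F)
    (u : Fin n₁ → F) (w : Fin n₂ → F) :
    (A ⊗ₖ B) *ᵥ ten u w = ten (A *ᵥ u) (B *ᵥ w) := by
  ext ⟨i, j⟩
  simp only [Matrix.mulVec, dotProduct, ten, Fintype.sum_prod_type, Matrix.kroneckerMap_apply]
  rw [Finset.sum_mul_sum]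
  refine Finset.sum_congr rfl fun a _ => Finset.sum_congr rfl fun b _ => ?_
  ring

/-- the action of an element of the stabiliser of the tensor decomposition -/
theorem tensor_act (g : GL ι F) (hg : g ∈ Cfsg.Geo.tensorProductSubgroup n₁ n₂ e P) :
    ∃ (A : GL (Fin n₁) F) (B : GL (Fin n₂) F), ∀ x : Fin n₁ × Fin n₂ → F,
      (g : Matrix ι ι F) *ᵥ Phi e P x =
        Phi e P (((A : Matrix (Fin n₁) (Fin n₁) F) ⊗ₖ (B : Matrix (Fin n₂) (Fin n₂) F)) *ᵥ x) := by
  unfold Cfsg.Geo.tensorProductSubgroup at hg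
  obtain ⟨g₁, hg₁, rfl⟩ := hg
  obtain ⟨k, ⟨A, B, hk⟩, rfl⟩ := hg₁
  refine ⟨A, B, fun x => ?_⟩
  unfold Phi
  show ((P * (Cfsg.Geo.glReindex e.symm k) * P⁻¹ : GL ι F) : Matrix ι ι F) *ᵥ _ = _
  rw [Units.val_mul, Units.val_mul, Matrix.mulVec_mulVec, Matrix.mul_assoc, Matrix.mul_assoc,
    ← Units.val_mul, inv_mul_cancel, Units.val_one, Matrix.mul_one, ← Matrix.mulVec_mulVec]
  congr 1
  have h1 : ((Cfsg.Geo.glReindex e.symm k : GL ι F) : Matrix ι ι F) =
      (k : Matrix (Fin n₁ × Fin n₂) (Fin n₁ × Fin n₂) F).submatrix e e := by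
    unfold Cfsg.Geo.glReindex
    simp [Matrix.reindex_apply]
  rw [h1, Matrix.submatrix_mulVec_equiv, hk]
  congr 2
  funext p
  simp

end tens1

end Cfsg.Agent.helper13
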