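import Mathlib
import Cfsg.Agent.Lib_helper13_Tens1

/-! Bilinear functions in coordinates: Gram matrices, the associated quadratic form, and the value
of a tensor product form on pure tensors. -/

set_option autoImplicit false

namespace Cfsg.Agent.helper13

open Module Matrix QuadraticMap
open scoped Kronecker

section tens2
variable {F : Type*} [Field F] {κ : Type} [Fintype κ] [DecidableEq κ]

/-- the bundled bilinear form of a bilinear function -/
def bilOf (f : (κ → F) → (κ → F) → F) (hf : Cfsg.Geo.IsBilinearForm f) :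
    LinearMap.BilinForm F (κ → F) :=
  LinearMap.mk₂ F f hf.add_left hf.smul_left hf.add_right hf.smul_right

omit [Fintype κ] [DecidableEq κ] in
theorem bilOf_apply (f : (κ → F) → (κ → F) → F) (hf : Cfsg.Geo.IsBilinearForm f)
    (u v : κ → F) : bilOf f hf u v = f u v := rfl

theorem gram_apply (f : (κ → F) → (κ → F) → F) (hf : Cfsg.Geo.IsBilinearForm f)
    (u v : κ → F) : f u v = ∑ a, ∑ b, u a * Cfsg.Geo.gramMatrix f a b * v b := by
  have hu : u = ∑ a, u a • (Pi.single a (1 : F) : κ → F) := by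
    ext i
    simp [Finset.sum_apply, Pi.single_apply]
  have hv : v = ∑ b, v b • (Pi.single b (1 : F) : κ → F) := by
    ext i
    simp [Finset.sum_apply, Pi.single_apply]
  rw [← bilOf_apply f hf]
  conv_lhs => rw [hu, hv]
  simp only [map_sum, LinearMap.sum_apply, map_smul, LinearMap.smul_apply, smul_eq_mul,
    bilOf_apply, Cfsg.Geo.gramMatrix, Finset.mul_sum]
  rw [Finset.sum_comm]
  refine Finset.sum_congr rfl fun a _ => ?_
  refine Finset.sum_congr rfl fun b _ => ?_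
  ring

theorem gram_dot (f : (κ → F) → (κ → F) → F) (hf : Cfsg.Geo.IsBilinearForm f)
    (u v : κ → F) : f u v = u ⬝ᵥ (Cfsg.Geo.gramMatrix f *ᵥ v) := by
  rw [gram_apply f hf]
  simp only [dotProduct, Matrix.mulVec, Finset.mul_sum, mul_assoc]

/-- the quadratic form `v ↦ f v v` -/
noncomputable def quadOf (f : (κ → F) → (κ → F) → F) (hf : Cfsg.Geo.IsBilinearForm f) :
    QuadraticForm F (κ → F) :=
  (bilOf f hf).toQuadraticMap

omit [Fintype κ] [DecidableEq κ] in
theorem quadOf_apply (f : (κ → F) → (κ → F) → F) (hf : Cfsg.Geo.IsBilinearForm f)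
    (v : κ → F) : quadOf f hf v = f v v := rfl

omit [Fintype κ] [DecidableEq κ] in
theorem polar_quadOf (f : (κ → F) → (κ → F) → F) (hf : Cfsg.Geo.IsBilinearForm f)
    (hs : ∀ u v, f u v = f v u) (u v : κ → F) :
    polar (⇑(quadOf f hf)) u v = 2 * f u v := by
  unfold quadOf
  rw [LinearMap.BilinMap.polar_toQuadraticMap, bilOf_apply, bilOf_apply, hs v u]
  ring

omit [Fintype κ] [DecidableEq κ] in
theorem quadOf_nondeg (f : (κ → F) → (κ → F) → F) (hf : Cfsg.Geo.IsSymmetricForm f)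
    (h2 : (2 : F) ≠ 0) :
    Cfsg.Geo.IsNondegenerateOn (polar ⇑(quadOf f hf.bilinear)) ⊤ := by
  intro w _ hw
  obtain ⟨⟨x, hx⟩, ⟨y, hy⟩⟩ := hf.nondegenerate w hw
  refine ⟨⟨x, Submodule.mem_top, ?_⟩, ⟨y, Submodule.mem_top, ?_⟩⟩
  · rw [polar_quadOf f hf.bilinear hf.symm]
    exact mul_ne_zero h2 hx
  · rw [polar_quadOf f hf.bilinear hf.symm]
    exact mul_ne_zero h2 hy

theorem tens_gram_det_ne_zero (f : (κ → F) → (κ → F) → F) (hf : Cfsg.Geo.IsSymmetricForm f) :
    (Cfsg.Geo.gramMatrix f).det ≠ 0 := by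
  intro h0
  obtain ⟨v, hv, hv0⟩ := Matrix.exists_mulVec_eq_zero_iff.mpr h0
  obtain ⟨⟨x, hx⟩, -⟩ := hf.nondegenerate v hv
  apply hx
  rw [gram_dot f hf.bilinear, hv0, dotProduct_zero]

end tens2

section tens2b
variable {F : Type*} [Field F] {n₁ n₂ : ℕ}

theorem formOfGram_ten (f₁ : (Fin n₁ → F) → (Fin n₁ → F) → F)
    (f₂ : (Fin n₂ → F) → (Fin n₂ → F) → F) (hf₁ : Cfsg.Geo.IsBilinearForm f₁)
    (hf₂ : Cfsg.Geo.IsBilinearForm f₂) (u u' : Fin n₁ → F) (w w' : Fin n₂ → F) :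
    Cfsg.Geo.formOfGram id (Cfsg.Geo.gramMatrix f₁ ⊗ₖ Cfsg.Geo.gramMatrix f₂) (ten u w)
      (ten u' w') = f₁ u u' * f₂ w w' := by
  rw [gram_apply f₁ hf₁, gram_apply f₂ hf₂]
  unfold Cfsg.Geo.formOfGram
  simp only [Fintype.sum_prod_type, ten, Matrix.kroneckerMap_apply, id]
  rw [Finset.sum_mul_sum]
  refine Finset.sum_congr rfl fun a _ => ?_
  refine Finset.sum_congr rfl fun a' _ => ?_
  rw [Finset.sum_mul_sum]
  refine Finset.sum_congr rfl fun b _ => Finset.sum_congr rfl fun b' _ => ?_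
  ring

end tens2b

end Cfsg.Agent.helper13
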