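import Mathlib
import Cfsg.Agent.Lib_helper13_Tens2

/-! Symmetric forms in dimension three over the field with three elements: canonical frames, and
similarities have factor one. -/

set_option autoImplicit false

namespace Cfsg.Agent.helper13

open Module Matrix QuadraticMap
open scoped Kronecker

section tens3a
variable {F : Type*} [Field F] {ι : Type} [Fintype ι] [DecidableEq ι]
variable (Q : QuadraticForm F (ι → F))

theorem frame3_of_eq (hF : ∀ a : F, a = 0 ∨ a = 1 ∨ a = -1) (h3 : (3 : F) = 0)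
    (W : Submodule F (ι → F)) (u₁ u₂ u₃ : ι → F)
    (p12 : polar (⇑Q) u₁ u₂ = 0) (p13 : polar (⇑Q) u₁ u₃ = 0) (p23 : polar (⇑Q) u₂ u₃ = 0)
    (n1 : Q u₁ ≠ 0) (n3 : Q u₃ ≠ 0) (heq : Q u₁ = Q u₂)
    (hspan : ∀ s ∈ W, ∃ x y z : F, s = x • u₁ + y • u₂ + z • u₃) :
    ∃ c : F, c ≠ 0 ∧ ∃ e₁ e₂ e₃ : ι → F, Q e₁ = c ∧ Q e₂ = c ∧ Q e₃ = c ∧
      polar (⇑Q) e₁ e₂ = 0 ∧ polar (⇑Q) e₁ e₃ = 0 ∧ polar (⇑Q) e₂ e₃ = 0 ∧
      ∀ s ∈ W, ∃ x y z : F, s = x • e₁ + y • e₂ + z • e₃ := by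
  have p21 : polar (⇑Q) u₂ u₁ = 0 := by rw [polar_comm]; exact p12
  rcases pm_of_f3 hF (Q u₃) (Q u₁) n3 n1 with h | h
  · exact ⟨Q u₁, n1, u₁, u₂, u₃, rfl, heq.symm, h, p12, p13, p23, hspan⟩
  · refine ⟨Q u₃, n3, u₁ + u₂, u₁ - u₂, u₃, ?_, ?_, rfl, ?_, ?_, ?_, ?_⟩
    · rw [Q_add_of_perp Q p12, ← heq, h]
      linear_combination (Q u₁) * h3
    · rw [Q_sub_of_perp Q p12, ← heq, h]
      linear_combination (Q u₁) * h3
    · rw [polar_add_left, polar_sub_right, polar_sub_right, polar_self', polar_self', p12, p21,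
        ← heq]
      ring
    · rw [polar_add_left, p13, p23, add_zero]
    · rw [polar_sub_left, p13, p23, sub_zero]
    · intro s hs
      obtain ⟨x, y, z, rfl⟩ := hspan s hs
      refine ⟨-(x + y), -(x - y), z, ?_⟩
      ext i
      simp only [Pi.add_apply, Pi.smul_apply, Pi.sub_apply, smul_eq_mul]
      linear_combination (x * u₁ i + y * u₂ i) * h3

theorem exists_frame3 (hF : ∀ a : F, a = 0 ∨ a = 1 ∨ a = -1) (h2 : (2 : F) ≠ 0)
    (h3 : (3 : F) = 0) (W : Submodule F (ι → F)) (hfr : finrank F W = 3)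
    (hnd : Cfsg.Geo.IsNondegenerateOn (polar ⇑Q) W) :
    ∃ c : F, c ≠ 0 ∧ ∃ e₁ e₂ e₃ : ι → F, Q e₁ = c ∧ Q e₂ = c ∧ Q e₃ = c ∧
      polar (⇑Q) e₁ e₂ = 0 ∧ polar (⇑Q) e₁ e₃ = 0 ∧ polar (⇑Q) e₂ e₃ = 0 ∧
      ∀ s ∈ W, ∃ x y z : F, s = x • e₁ + y • e₂ + z • e₃ := by
  obtain ⟨u₁, m1, u₂, m2, u₃, m3, p12, p13, p23, n1, n2, n3, hspan⟩ :=
    exists_obasis3 Q h2 W hfr hnd
  have p21 : polar (⇑Q) u₂ u₁ = 0 := by rw [polar_comm]; exact p12
  have p31 : polar (⇑Q) u₃ u₁ = 0 := by rw [polar_comm]; exact p13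
  have p32 : polar (⇑Q) u₃ u₂ = 0 := by rw [polar_comm]; exact p23
  by_cases h12 : Q u₁ = Q u₂
  · exact frame3_of_eq Q hF h3 W u₁ u₂ u₃ p12 p13 p23 n1 n3 h12 hspan
  · by_cases h13 : Q u₁ = Q u₃
    · refine frame3_of_eq Q hF h3 W u₁ u₃ u₂ p13 p12 p32 n1 n2 h13 ?_
      intro s hs
      obtain ⟨x, y, z, rfl⟩ := hspan s hs
      exact ⟨x, z, y, by abel⟩
    · have e2 : Q u₁ = -Q u₂ := (pm_of_f3 hF _ _ n1 n2).resolve_left h12
      have e3 : Q u₁ = -Q u₃ := (pm_of_f3 hF _ _ n1 n3).resolve_left h13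
      have h23 : Q u₂ = Q u₃ := neg_injective (e2.symm.trans e3)
      refine frame3_of_eq Q hF h3 W u₂ u₃ u₁ p23 p21 p31 n2 n1 h23 ?_
      intro s hs
      obtain ⟨x, y, z, rfl⟩ := hspan s hs
      exact ⟨y, z, x, by abel⟩

end tens3a

section tens3b
variable {F : Type*} [Field F] [Fintype F]

/-- the canonical frame of a symmetric form in dimension three over the field with three
elements -/
theorem exists_frame_f1 (hq : Fintype.card F = 3) (f₁ : (Fin 3 → F) → (Fin 3 → F) → F)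
    (hf₁ : Cfsg.Geo.IsSymmetricForm f₁) :
    ∃ c₁ : F, c₁ ≠ 0 ∧ ∃ fr : Fin 3 → (Fin 3 → F), (∀ i, f₁ (fr i) (fr i) = c₁) ∧
      (∀ i j, i ≠ j → f₁ (fr i) (fr j) = 0) ∧
      ∀ v, f₁ v v = c₁ → ∃ j, ∃ s : F, v = s • fr j := by
  have hF := f3_cases hq
  have h3 := f3_three hq
  have h2 := f3_two hq
  obtain ⟨c, hc, e₁, e₂, e₃, q1, q2, q3, p12, p13, p23, hspan⟩ :=
    exists_frame3 (quadOf f₁ hf₁.bilinear) hF h2 h3 ⊤
      (by rw [finrank_top, Module.finrank_fintype_fun_eq_card, Fintype.card_fin])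
      (quadOf_nondeg f₁ hf₁ h2)
  have hz : ∀ a b : Fin 3 → F, polar (⇑(quadOf f₁ hf₁.bilinear)) a b = 0 → f₁ a b = 0 := by
    intro a b h
    rw [polar_quadOf f₁ hf₁.bilinear hf₁.symm] at h
    exact (mul_eq_zero.mp h).resolve_left h2
  have o12 := hz _ _ p12
  have o13 := hz _ _ p13
  have o23 := hz _ _ p23
  have o21 : f₁ e₂ e₁ = 0 := by rw [hf₁.symm]; exact o12
  have o31 : f₁ e₃ e₁ = 0 := by rw [hf₁.symm]; exact o13
  have o32 : f₁ e₃ e₂ = 0 := by rw [hf₁.symm]; exact o23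
  rw [quadOf_apply] at q1 q2 q3
  refine ⟨c, hc, ![e₁, e₂, e₃], ?_, ?_, ?_⟩
  · intro i
    fin_cases i
    · exact q1
    · exact q2
    · exact q3
  · intro i j hij
    fin_cases i <;> fin_cases j
    · exact absurd rfl hij
    · exact o12
    · exact o13
    · exact o21
    · exact absurd rfl hij
    · exact o23
    · exact o31
    · exact o32
    · exact absurd rfl hij
  · intro v hv
    obtain ⟨x, y, z, rfl⟩ := hspan v Submodule.mem_top
    have h6 := six_of_norm (quadOf f₁ hf₁.bilinear) hF h3 c hc e₁ e₂ e₃ q1 q2 q3 p12 p13 p23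
      x y z hv
    rcases h6 with h | h | h | h | h | h
    · exact ⟨0, 1, by rw [h, one_smul]; rfl⟩
    · exact ⟨0, -1, by rw [h, neg_one_smul]; rfl⟩
    · exact ⟨1, 1, by rw [h, one_smul]; rfl⟩
    · exact ⟨1, -1, by rw [h, neg_one_smul]; rfl⟩
    · exact ⟨2, 1, by rw [h, one_smul]; rfl⟩
    · exact ⟨2, -1, by rw [h, neg_one_smul]; rfl⟩

/-- a similarity of a symmetric form in dimension three over the field with three elements is an
isometry -/
theorem sim_factor_one (hq : Fintype.card F = 3) (f₁ : (Fin 3 → F) → (Fin 3 → F) → F)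
    (hf₁ : Cfsg.Geo.IsSymmetricForm f₁) (A : Matrix (Fin 3) (Fin 3) F) (lam : F) (hlam : lam ≠ 0)
    (hA : ∀ u u', f₁ (A *ᵥ u) (A *ᵥ u') = lam * f₁ u u') : lam = 1 := by
  have hF := f3_cases hq
  have h3 := f3_three hq
  have h2 := f3_two hq
  have key : Aᵀ * Cfsg.Geo.gramMatrix f₁ * A = lam • Cfsg.Geo.gramMatrix f₁ := by
    ext i j
    have h := hA (Pi.single i 1) (Pi.single j 1)
    rw [gram_apply f₁ hf₁.bilinear] at h
    simp only [Matrix.mulVec_single_one, Matrix.col_apply] at h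
    simp only [Matrix.mul_apply, Matrix.transpose_apply, Matrix.smul_apply, smul_eq_mul,
      Finset.sum_mul]
    rw [Finset.sum_comm]
    exact h
  have hdet := congrArg Matrix.det key
  rw [Matrix.det_mul, Matrix.det_mul, Matrix.det_transpose, Matrix.det_smul, Fintype.card_fin]
    at hdet
  have hG := tens_gram_det_ne_zero f₁ hf₁
  have h5 : A.det * A.det = lam ^ 3 := by
    apply mul_right_cancel₀ hG
    linear_combination hdet
  rcases hF lam with h | h | h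
  · exact absurd h hlam
  · exact h
  · exfalso
    rw [h] at h5
    rcases hF A.det with h' | h' | h' <;> rw [h'] at h5
    · apply h2
      linear_combination (-1 : F) * h5 + h3
    · apply h2
      linear_combination h5
    · apply h2
      linear_combination h5

end tens3b

end Cfsg.Agent.helper13
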