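import Mathlib
import Cfsg.Agent.Lib_helper13_Tens3

/-! The stabiliser of a tensor decomposition with a three-dimensional orthogonal factor over the
field with three elements is not maximal in `Ω`. -/

set_option autoImplicit false

namespace Cfsg.Agent.helper13

open Module Matrix QuadraticMap
open scoped Kronecker

section tens4
variable {F : Type*} [Field F] {ι : Type} [Fintype ι] [DecidableEq ι]
variable (Q : QuadraticForm F (ι → F)) {n₁ n₂ : ℕ} (e : ι ≃ Fin n₁ × Fin n₂) (P : GL ι F)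

omit [Fintype ι] [DecidableEq ι] in
theorem ten_neg_left (u : Fin n₁ → F) (w : Fin n₂ → F) :
    ten (-u) w = -ten u w := by
  ext p
  simp only [ten, Pi.neg_apply]
  ring

/-- the union of the members of the decomposition attached to a frame of the first factor -/
def tenSet (fr : Fin n₁ → (Fin n₁ → F)) : Set (ι → F) :=
  {v | ∃ i w, v = Phi e P (ten (fr i) w)}

/-- an isometry in the stabiliser of the tensor decomposition acts as the tensor product of a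
similarity of the first factor and a matrix -/
theorem tensor_isom_sim (hn2 : 0 < n₂) (hn1 : 0 < n₁)
    (f₁ : (Fin n₁ → F) → (Fin n₁ → F) → F) (f₂ : (Fin n₂ → F) → (Fin n₂ → F) → F)
    (hf₁ : Cfsg.Geo.IsSymmetricForm f₁) (hf₂ : Cfsg.Geo.IsSymmetricForm f₂) (c : F) (hc : c ≠ 0)
    (pol : ∀ u w u' w', polar (⇑Q) (Phi e P (ten u w)) (Phi e P (ten u' w')) =
      c * (f₁ u u' * f₂ w w'))
    (g : ↥(Cfsg.isometryGroup F ⇑Q))
    (hg : (g : GL ι F) ∈ Cfsg.Geo.tensorProductSubgroup n₁ n₂ e P) :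
    ∃ (A : Matrix (Fin n₁) (Fin n₁) F) (B : Matrix (Fin n₂) (Fin n₂) F) (lam : F), lam ≠ 0 ∧
      (∀ u w, iact g (Phi e P (ten u w)) = Phi e P (ten (A *ᵥ u) (B *ᵥ w))) ∧
      ∀ u u', f₁ (A *ᵥ u) (A *ᵥ u') = lam * f₁ u u' := by
  obtain ⟨A, B, hAB⟩ := tensor_act e P _ hg
  have hact : ∀ u w, iact g (Phi e P (ten u w)) = Phi e P (ten (A.1 *ᵥ u) (B.1 *ᵥ w)) := by
    intro u w
    unfold iact
    rw [hAB, kron_mulVec_ten]
  have hprod : ∀ u u' w w', f₁ (A.1 *ᵥ u) (A.1 *ᵥ u') * f₂ (B.1 *ᵥ w) (B.1 *ᵥ w') =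
      f₁ u u' * f₂ w w' := by
    intro u u' w w'
    have h := polar_iact g (Phi e P (ten u w)) (Phi e P (ten u' w'))
    rw [hact, hact, pol, pol] at h
    exact mul_left_cancel₀ hc h
  -- nonzero values
  have hu0 : (Pi.single ⟨0, hn1⟩ 1 : Fin n₁ → F) ≠ 0 := by
    intro h
    have := congrFun h ⟨0, hn1⟩
    simp at this
  have hw0 : (Pi.single ⟨0, hn2⟩ 1 : Fin n₂ → F) ≠ 0 := by
    intro h
    have := congrFun h ⟨0, hn2⟩
    simp at this
  obtain ⟨-, u₀', hu₀⟩ := hf₁.nondegenerate _ hu0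
  obtain ⟨-, w₀', hw₀⟩ := hf₂.nondegenerate _ hw0
  set u₀ : Fin n₁ → F := Pi.single ⟨0, hn1⟩ 1
  set w₀ : Fin n₂ → F := Pi.single ⟨0, hn2⟩ 1
  have hβ : f₂ (B.1 *ᵥ w₀) (B.1 *ᵥ w₀') ≠ 0 := by
    intro h0
    have := hprod u₀ u₀' w₀ w₀'
    rw [h0, mul_zero] at this
    exact mul_ne_zero hu₀ hw₀ this.symm
  refine ⟨A.1, B.1, f₂ w₀ w₀' * (f₂ (B.1 *ᵥ w₀) (B.1 *ᵥ w₀'))⁻¹,
    mul_ne_zero hw₀ (inv_ne_zero hβ), hact, fun u u' => ?_⟩
  have := hprod u u' w₀ w₀'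
  field_simp
  linear_combination this

end tens4

section tens4b
variable {F : Type*} [Field F] [Fintype F] {ι : Type} [Fintype ι] [DecidableEq ι]
variable (Q : QuadraticForm F (ι → F)) {n₂ : ℕ} (e : ι ≃ Fin 3 × Fin n₂) (P : GL ι F)

/-- isometries in the stabiliser of the tensor decomposition map the union of the members into
itself -/
theorem tensor_isom_maps (hq : Fintype.card F = 3) (hn2 : 0 < n₂)
    (f₁ : (Fin 3 → F) → (Fin 3 → F) → F) (f₂ : (Fin n₂ → F) → (Fin n₂ → F) → F)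
    (hf₁ : Cfsg.Geo.IsSymmetricForm f₁) (hf₂ : Cfsg.Geo.IsSymmetricForm f₂) (c : F) (hc : c ≠ 0)
    (pol : ∀ u w u' w', polar (⇑Q) (Phi e P (ten u w)) (Phi e P (ten u' w')) =
      c * (f₁ u u' * f₂ w w'))
    (c₁ : F) (fr : Fin 3 → (Fin 3 → F)) (F1 : ∀ i, f₁ (fr i) (fr i) = c₁)
    (F3 : ∀ v, f₁ v v = c₁ → ∃ j, ∃ s : F, v = s • fr j)
    (g : ↥(Cfsg.isometryGroup F ⇑Q))
    (hg : (g : GL ι F) ∈ Cfsg.Geo.tensorProductSubgroup 3 n₂ e P)
    (v : ι → F) (hv : v ∈ tenSet e P fr) : iact g v ∈ tenSet e P fr := by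
  obtain ⟨A, B, lam, hlam, hact, hsim⟩ :=
    tensor_isom_sim Q e P hn2 (by norm_num) f₁ f₂ hf₁ hf₂ c hc pol g hg
  have h1 := sim_factor_one hq f₁ hf₁ A lam hlam hsim
  obtain ⟨i, w, rfl⟩ := hv
  obtain ⟨j, s, hj⟩ := F3 (A *ᵥ fr i) (by rw [hsim, h1, one_mul, F1])
  refine ⟨j, s • (B *ᵥ w), ?_⟩
  rw [hact, hj, ten_smul_left, ten_smul_right]

theorem tensor_isom_mem_setStab (hq : Fintype.card F = 3) (hn2 : 0 < n₂)
    (f₁ : (Fin 3 → F) → (Fin 3 → F) → F) (f₂ : (Fin n₂ → F) → (Fin n₂ → F) → F)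
    (hf₁ : Cfsg.Geo.IsSymmetricForm f₁) (hf₂ : Cfsg.Geo.IsSymmetricForm f₂) (c : F) (hc : c ≠ 0)
    (pol : ∀ u w u' w', polar (⇑Q) (Phi e P (ten u w)) (Phi e P (ten u' w')) =
      c * (f₁ u u' * f₂ w w'))
    (c₁ : F) (fr : Fin 3 → (Fin 3 → F)) (F1 : ∀ i, f₁ (fr i) (fr i) = c₁)
    (F3 : ∀ v, f₁ v v = c₁ → ∃ j, ∃ s : F, v = s • fr j)
    (g : ↥(Cfsg.isometryGroup F ⇑Q))
    (hg : (g : GL ι F) ∈ Cfsg.Geo.tensorProductSubgroup 3 n₂ e P) :
    (g : GL ι F) ∈ setStab (tenSet e P fr) := by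
  intro v
  constructor
  · intro h
    have hg' : ((g⁻¹ : ↥(Cfsg.isometryGroup F ⇑Q)) : GL ι F) ∈
        Cfsg.Geo.tensorProductSubgroup 3 n₂ e P := by
      have := (Cfsg.Geo.tensorProductSubgroup 3 n₂ e P).inv_mem hg
      exact this
    have := tensor_isom_maps Q e P hq hn2 f₁ f₂ hf₁ hf₂ c hc pol c₁ fr F1 F3 g⁻¹ hg' _ h
    have h5 : iact g⁻¹ (((g : GL ι F) : Matrix ι ι F) *ᵥ v) = v := iact_inv_iact g v
    rw [h5] at this
    exact this
  · intro h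
    exact tensor_isom_maps Q e P hq hn2 f₁ f₂ hf₁ hf₂ c hc pol c₁ fr F1 F3 g hg v h

end tens4b

section tens4c
variable {F : Type*} [Field F] {ι : Type} [Fintype ι] [DecidableEq ι]
variable (Q : QuadraticForm F (ι → F)) {n₁ n₂ : ℕ} (e : ι ≃ Fin n₁ × Fin n₂) (P : GL ι F)

/-- the reflection in a nonsingular vector of a member preserves the union of the members -/
theorem refl_mem_setStab_tenSet
    (f₁ : (Fin n₁ → F) → (Fin n₁ → F) → F) (f₂ : (Fin n₂ → F) → (Fin n₂ → F) → F) (c : F)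
    (pol : ∀ u w u' w', polar (⇑Q) (Phi e P (ten u w)) (Phi e P (ten u' w')) =
      c * (f₁ u u' * f₂ w w'))
    (fr : Fin n₁ → (Fin n₁ → F)) (F2 : ∀ i j, i ≠ j → f₁ (fr i) (fr j) = 0)
    (i₀ : Fin n₁) (w₀ : Fin n₂ → F) (ha : Q (Phi e P (ten (fr i₀) w₀)) ≠ 0) :
    ((reflG Q _ ha : ↥(Cfsg.isometryGroup F ⇑Q)) : GL ι F) ∈ setStab (tenSet e P fr) := by
  have key : ∀ v ∈ tenSet e P fr, iact (reflG Q _ ha) v ∈ tenSet e P fr := by
    rintro v ⟨i, w, rfl⟩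
    by_cases hi : i = i₀
    · subst hi
      rw [iact_reflG]
      refine ⟨i, w - ((Q (Phi e P (ten (fr i) w₀)))⁻¹ *
        polar (⇑Q) (Phi e P (ten (fr i) w₀)) (Phi e P (ten (fr i) w))) • w₀, ?_⟩
      rw [ten_sub_right, ten_smul_right, Phi_sub, Phi_smul]
    · rw [iact_reflG_of_polar]
      · exact ⟨i, w, rfl⟩
      · rw [pol, F2 i₀ i (Ne.symm hi), zero_mul, mul_zero]
  intro v
  constructor
  · intro h
    have := key _ h
    have h5 : iact (reflG Q _ ha) (((reflG Q _ ha : ↥(Cfsg.isometryGroup F ⇑Q)) : GL ι F).1 *ᵥ v)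
        = v := by
      show iact (reflG Q _ ha) (iact (reflG Q _ ha) v) = v
      rw [← iact_mul, reflG_mul_self, iact_one]
    rw [h5] at this
    exact this
  · exact key v

end tens4c

end Cfsg.Agent.helper13
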