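import Mathlib
import Cfsg.Agent.Lib_helper13_Tens4

/-! The stabiliser of a tensor decomposition with a three-dimensional orthogonal factor over the
field with three elements is not maximal in `Ω`: main argument. -/

set_option autoImplicit false

namespace Cfsg.Agent.helper13

open Module Matrix QuadraticMap
open scoped Kronecker

section tens5a
variable {F : Type*} [Field F] [Fintype F] {n₂ : ℕ}

theorem exists_three_f2 (hq : Fintype.card F = 3) (h2' : 3 ≤ n₂)
    (f₂ : (Fin n₂ → F) → (Fin n₂ → F) → F) (hf₂ : Cfsg.Geo.IsSymmetricForm f₂) :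
    ∃ wa wb wd : Fin n₂ → F, f₂ wa wb = 0 ∧ f₂ wa wd = 0 ∧ f₂ wb wd = 0 ∧
      f₂ wa wa = f₂ wb wb ∧ f₂ wa wa ≠ 0 ∧ wd ≠ 0 := by
  have hF := f3_cases hq
  have h2 := f3_two hq
  obtain ⟨u, -, ho, hn, -⟩ := exists_obasis (quadOf f₂ hf₂.bilinear) h2 ⊤ n₂
    (by rw [finrank_top, Module.finrank_fintype_fun_eq_card, Fintype.card_fin])
    (quadOf_nondeg f₂ hf₂ h2)
  have hz : ∀ i j, i ≠ j → f₂ (u i) (u j) = 0 := by
    intro i j hij
    have h := ho i j hij
    rw [polar_quadOf f₂ hf₂.bilinear hf₂.symm] at h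
    exact (mul_eq_zero.mp h).resolve_left h2
  have hn' : ∀ i, f₂ (u i) (u i) ≠ 0 := hn
  have hne : ∀ i, u i ≠ 0 := by
    intro i h0
    apply hn' i
    rw [h0]
    have := hf₂.bilinear.smul_left 0 (0 : Fin n₂ → F) 0
    rw [zero_smul, zero_mul] at this
    exact this
  have d01 : (⟨0, by omega⟩ : Fin n₂) ≠ ⟨1, by omega⟩ := by simp [Fin.ext_iff]
  have d02 : (⟨0, by omega⟩ : Fin n₂) ≠ ⟨2, by omega⟩ := by simp [Fin.ext_iff]
  have d12 : (⟨1, by omega⟩ : Fin n₂) ≠ ⟨2, by omega⟩ := by simp [Fin.ext_iff]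
  by_cases h12 : f₂ (u ⟨0, by omega⟩) (u ⟨0, by omega⟩) = f₂ (u ⟨1, by omega⟩) (u ⟨1, by omega⟩)
  · exact ⟨u ⟨0, by omega⟩, u ⟨1, by omega⟩, u ⟨2, by omega⟩, hz _ _ d01, hz _ _ d02, hz _ _ d12,
      h12, hn' _, hne _⟩
  · by_cases h13 : f₂ (u ⟨0, by omega⟩) (u ⟨0, by omega⟩) =
        f₂ (u ⟨2, by omega⟩) (u ⟨2, by omega⟩)
    · exact ⟨u ⟨0, by omega⟩, u ⟨2, by omega⟩, u ⟨1, by omega⟩, hz _ _ d02, hz _ _ d01,
        hz _ _ d12.symm, h13, hn' _, hne _⟩
    · have e2 := (pm_of_f3 hF _ _ (hn' ⟨0, by omega⟩) (hn' ⟨1, by omega⟩)).resolve_left h12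
      have e3 := (pm_of_f3 hF _ _ (hn' ⟨0, by omega⟩) (hn' ⟨2, by omega⟩)).resolve_left h13
      have h23 := neg_injective (e2.symm.trans e3)
      exact ⟨u ⟨1, by omega⟩, u ⟨2, by omega⟩, u ⟨0, by omega⟩, hz _ _ d12, hz _ _ d01.symm,
        hz _ _ d02.symm, h23, hn' _, hne _⟩

end tens5a

section tens5b
variable {F : Type*} [Field F] [Fintype F] {ι : Type} [Fintype ι] [DecidableEq ι]
variable (Q : QuadraticForm F (ι → F)) {n₂ : ℕ} (e : ι ≃ Fin 3 × Fin n₂) (P : GL ι F)

theorem tensor3_not_max (hq : Fintype.card F = 3) (hQ : (polarBilin Q).Nondegenerate)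
    (h2' : 3 ≤ n₂)
    (f₁ : (Fin 3 → F) → (Fin 3 → F) → F) (f₂ : (Fin n₂ → F) → (Fin n₂ → F) → F)
    (hf₁ : Cfsg.Geo.IsSymmetricForm f₁) (hf₂ : Cfsg.Geo.IsSymmetricForm f₂)
    (hT : Cfsg.Geo.IsTensorFormStructure id (polar ⇑Q) f₁ f₂ e P) :
    ∃ K : Subgroup (GL ι F),
      Cfsg.Geo.tensorProductSubgroup 3 n₂ e P ⊓ Cfsg.Geo.omegaGL ⇑Q < K ∧
      K < Cfsg.Geo.omegaGL ⇑Q := by
  have hF := f3_cases hq
  have h3 := f3_three hq
  have h2 := f3_two hq
  have hne : Fintype.card F ≠ 2 ∨ Fintype.card ι ≠ 4 := Or.inl (by rw [hq]; norm_num)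
  obtain ⟨c, hc, hT⟩ := hT
  have pol : ∀ u w u' w', polar (⇑Q) (Phi e P (ten u w)) (Phi e P (ten u' w')) =
      c * (f₁ u u' * f₂ w w') := by
    intro u w u' w'
    have := hT (ten u w) (ten u' w')
    rw [formOfGram_ten f₁ f₂ hf₁.bilinear hf₂.bilinear] at this
    exact this
  obtain ⟨c₁, hc₁, fr, F1, F2, F3⟩ := exists_frame_f1 hq f₁ hf₁
  obtain ⟨wa, wb, wd, hab, had, hbd, hnn, hν, hd⟩ := exists_three_f2 hq h2' f₂ hf₂
  have hba : f₂ wb wa = 0 := by rw [hf₂.symm]; exact hab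
  have hwa : wa ≠ 0 := by
    intro h0
    apply hν
    rw [h0]
    have := hf₂.bilinear.smul_left 0 (0 : Fin n₂ → F) 0
    rw [zero_smul, zero_mul] at this
    exact this
  have hfr0 : ∀ i, fr i ≠ 0 := by
    intro i h0
    apply hc₁
    rw [← F1 i, h0]
    have := hf₁.bilinear.smul_left 0 (0 : Fin 3 → F) 0
    rw [zero_smul, zero_mul] at this
    exact this
  set ν := f₂ wa wa with hνdef
  -- the basic vectors
  set p := Phi e P (ten (fr 0) wa) with hp
  set q := Phi e P (ten (fr 1) wa) with hq'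
  set x := Phi e P (ten (fr 0) wb) with hx
  set y := Phi e P (ten (fr 2) wa) with hy
  set z := Phi e P (ten (fr 2) wb) with hz
  set d := Phi e P (ten (fr 0) wd) with hd'
  have hκ : c * (c₁ * ν) ≠ 0 := mul_ne_zero hc (mul_ne_zero hc₁ hν)
  have Qval : ∀ i w, f₂ w w = ν → 2 * Q (Phi e P (ten (fr i) w)) = c * (c₁ * ν) := by
    intro i w hw
    rw [← polar_self', pol, F1, hw]
  have Qne : ∀ i w, f₂ w w = ν → Q (Phi e P (ten (fr i) w)) ≠ 0 := by
    intro i w hw h0
    have := Qval i w hw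
    rw [h0, mul_zero] at this
    exact hκ this.symm
  have Qeq : ∀ i w i' w', f₂ w w = ν → f₂ w' w' = ν →
      Q (Phi e P (ten (fr i) w)) = Q (Phi e P (ten (fr i') w')) := by
    intro i w i' w' hw hw'
    apply mul_left_cancel₀ h2
    rw [Qval i w hw, Qval i' w' hw']
  have d01 : (0 : Fin 3) ≠ 1 := by decide
  have d02 : (0 : Fin 3) ≠ 2 := by decide
  have d12 : (1 : Fin 3) ≠ 2 := by decide
  refine ⟨setStab (tenSet e P fr) ⊓ Cfsg.Geo.omegaGL ⇑Q, ?_, ?_⟩
  · apply inf_omega_lt_inf_omega Q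
    · intro h _ hh
      exact tensor_isom_mem_setStab Q e P hq (by omega) f₁ f₂ hf₁ hf₂ c hc pol c₁ fr F1 F3 h hh
    · have hQp : Q p ≠ 0 := Qne 0 wa rfl
      have hQx : Q x ≠ 0 := Qne 0 wb hnn.symm
      refine ⟨reflG Q p hQp * reflG Q x hQx, ?_, ?_, ?_⟩
      · exact reflG_pair_mem_comm Q hQ hne x p hQx hQp (Qeq 0 wa 0 wb rfl hnn.symm)
      · exact (setStab (tenSet e P fr)).mul_mem
          (refl_mem_setStab_tenSet Q e P f₁ f₂ c pol fr F2 0 wa hQp)
          (refl_mem_setStab_tenSet Q e P f₁ f₂ c pol fr F2 0 wb hQx)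
      · intro hmem
        obtain ⟨A, B, hAB⟩ := tensor_act e P _ hmem
        have hact : ∀ u w, iact (reflG Q p hQp * reflG Q x hQx) (Phi e P (ten u w)) =
            Phi e P (ten (A.1 *ᵥ u) (B.1 *ᵥ w)) := by
          intro u w
          unfold iact
          rw [hAB, kron_mulVec_ten]
        -- the second member is fixed pointwise
        have hfix : ∀ w, iact (reflG Q p hQp * reflG Q x hQx) (Phi e P (ten (fr 1) w)) =
            Phi e P (ten (fr 1) w) := by
          intro w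
          rw [iact_mul, iact_reflG_of_polar Q x hQx _ (by rw [hx, pol, F2 0 1 d01, zero_mul,
            mul_zero]), iact_reflG_of_polar Q p hQp _ (by rw [hp, pol, F2 0 1 d01, zero_mul,
            mul_zero])]
        obtain ⟨μ, hμ⟩ := scalar_of_ten_eq (fr 1) (A.1 *ᵥ fr 1) (hfr0 1) B.1 (by
          intro w
          apply Phi_injective e P
          rw [← hact, hfix])
        -- action on p and d
        have hp1 : iact (reflG Q p hQp * reflG Q x hQx) p = -p := by
          rw [iact_mul, iact_reflG_of_polar Q x hQx _ (by rw [hx, hp, pol, hba, mul_zero,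
            mul_zero]), iact_reflG_self]
        have hd1 : iact (reflG Q p hQp * reflG Q x hQx) d = d := by
          rw [iact_mul, iact_reflG_of_polar Q x hQx _ (by rw [hx, hd', pol, hbd, mul_zero,
            mul_zero]), iact_reflG_of_polar Q p hQp _ (by rw [hp, hd', pol, had, mul_zero,
            mul_zero])]
        have hp2 : Phi e P (ten (μ • (A.1 *ᵥ fr 0)) wa) = Phi e P (ten (-fr 0) wa) := by
          rw [ten_smul_left, ← ten_smul_right, ← hμ, ← hact, ten_neg_left, Phi_neg]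
          exact hp1
        have hd2 : Phi e P (ten (μ • (A.1 *ᵥ fr 0)) wd) = Phi e P (ten (fr 0) wd) := by
          rw [ten_smul_left, ← ten_smul_right, ← hμ, ← hact]
          exact hd1
        have e1 := ten_right_cancel _ _ wa hwa (Phi_injective e P hp2)
        have e2 := ten_right_cancel _ _ wd hd (Phi_injective e P hd2)
        rw [e2] at e1
        apply hfr0 0
        ext k
        have := congrFun e1 k
        simp only [Pi.neg_apply, Pi.zero_apply] at this ⊢
        have h4 : (2 : F) * fr 0 k = 0 := by linear_combination this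
        exact (mul_eq_zero.mp h4).resolve_left h2
  · apply inf_omega_lt_omega Q
    -- polar values of the basic vectors
    have ppq : polar (⇑Q) p q = 0 := by rw [hp, hq', pol, F2 0 1 d01, zero_mul, mul_zero]
    have pyz : polar (⇑Q) y z = 0 := by rw [hy, hz, pol, hab, mul_zero, mul_zero]
    have ppx : polar (⇑Q) p x = 0 := by rw [hp, hx, pol, hab, mul_zero, mul_zero]
    have pqx : polar (⇑Q) q x = 0 := by
      rw [hq', hx, pol, F2 1 0 d01.symm, zero_mul, mul_zero]
    have pyp : polar (⇑Q) y p = 0 := by rw [hy, hp, pol, F2 2 0 d02.symm, zero_mul, mul_zero]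
    have pzp : polar (⇑Q) z p = 0 := by rw [hz, hp, pol, F2 2 0 d02.symm, zero_mul, mul_zero]
    have pyx : polar (⇑Q) y x = 0 := by rw [hy, hx, pol, F2 2 0 d02.symm, zero_mul, mul_zero]
    have pzx : polar (⇑Q) z x = 0 := by rw [hz, hx, pol, F2 2 0 d02.symm, zero_mul, mul_zero]
    have Qp := Qval 0 wa rfl
    have Qq := Qval 1 wa rfl
    have Qx := Qval 0 wb hnn.symm
    have Qy := Qval 2 wa rfl
    have Qz := Qval 2 wb hnn.symm
    rw [← hp] at Qp
    rw [← hq'] at Qq
    rw [← hx] at Qx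
    rw [← hy] at Qy
    rw [← hz] at Qz
    have Qpq : 2 * Q (p + q) = 2 * (c * (c₁ * ν)) := by
      rw [Q_add_of_perp Q ppq]
      linear_combination Qp + Qq
    have Qyz : 2 * Q (y + z) = 2 * (c * (c₁ * ν)) := by
      rw [Q_add_of_perp Q pyz]
      linear_combination Qy + Qz
    have hQpq : Q (p + q) ≠ 0 := by
      intro h0
      rw [h0, mul_zero] at Qpq
      exact mul_ne_zero h2 hκ Qpq.symm
    have hQyz : Q (y + z) ≠ 0 := by
      intro h0
      rw [h0, mul_zero] at Qyz
      exact mul_ne_zero h2 hκ Qyz.symm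
    refine ⟨reflG Q (p + q) hQpq * reflG Q (y + z) hQyz, ?_, ?_⟩
    · apply reflG_pair_mem_comm Q hQ hne
      apply mul_left_cancel₀ h2
      rw [Qpq, Qyz]
    · intro hmem
      have hv0 : p + x ∈ tenSet e P fr := ⟨0, wa + wb, by rw [ten_add_right, Phi_add]⟩
      have himg : iact (reflG Q (p + q) hQpq * reflG Q (y + z) hQyz) (p + x) = x - q := by
        rw [iact_mul, iact_reflG_of_polar Q _ hQyz _ (by
          rw [polar_add_left, polar_add_right, polar_add_right, pyp, pzp, pyx, pzx]; ring),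
          iact_reflG]
        have h5 : polar (⇑Q) (p + q) (p + x) = 2 * Q p := by
          rw [polar_add_left, polar_add_right, polar_add_right, polar_self', ppx, pqx,
            polar_comm (⇑Q) q p, ppq]
          ring
        have h6 : (Q (p + q))⁻¹ * polar (⇑Q) (p + q) (p + x) = 1 := by
          rw [h5, Qp]
          have : Q (p + q) = c * (c₁ * ν) := mul_left_cancel₀ h2 Qpq
          rw [this, inv_mul_cancel₀ hκ]
        rw [h6, one_smul]
        abel
      have := (hmem (p + x)).mpr hv0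
      have h7 : (((reflG Q (p + q) hQpq * reflG Q (y + z) hQyz :
          ↥(Cfsg.isometryGroup F ⇑Q)) : GL ι F) : Matrix ι ι F) *ᵥ (p + x) = x - q := himg
      rw [h7] at this
      obtain ⟨i, w, hiw⟩ := this
      by_cases hi : i = 0
      · subst hi
        have h8 : polar (⇑Q) (x - q) q = 0 := by
          rw [hiw, hq', pol, F2 0 1 d01, zero_mul, mul_zero]
        rw [polar_sub_left, polar_comm (⇑Q) x q, pqx, polar_self', zero_sub, neg_eq_zero, Qq]
          at h8
        exact hκ h8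
      · have h8 : polar (⇑Q) (x - q) x = 0 := by
          rw [hiw, hx, pol, F2 i 0 hi, zero_mul, mul_zero]
        rw [polar_sub_left, pqx, polar_self', sub_zero, Qx] at h8
        exact hκ h8

end tens5b

end Cfsg.Agent.helper13
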