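import Mathlib
import Cfsg.Agent.Lib_helper13_Tens5
import Cfsg.Agent.Lib_helper4_Symp

/-! The stabiliser of a tensor decomposition with a three-dimensional orthogonal second factor
over the field with three elements: general lemmas, and symplectic transvections. -/

set_option autoImplicit false

namespace Cfsg.Agent.helper13

open Module Matrix QuadraticMap
open scoped Kronecker

section tenssp1
variable {F : Type*} [Field F] {ι : Type} [Fintype ι] [DecidableEq ι] {n₁ n₂ : ℕ}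

omit [Fintype ι] [DecidableEq ι] in
theorem ten_sub_left (u u' : Fin n₁ → F) (w : Fin n₂ → F) :
    ten (u - u') w = ten u w - ten u' w := by
  ext p
  simp only [ten, Pi.sub_apply]
  ring

omit [Fintype ι] [DecidableEq ι] in
/-- cancelling a nonzero left factor -/
theorem ten_left_cancel (u : Fin n₁ → F) (w w' : Fin n₂ → F) (hu : u ≠ 0)
    (h : ten u w = ten u w') : w = w' := by
  obtain ⟨i, hi⟩ : ∃ i, u i ≠ 0 := by
    by_contra hcon
    push Not at hcon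
    exact hu (funext hcon)
  ext j
  have := congrFun h (i, j)
  simp only [ten] at this
  exact mul_left_cancel₀ hi this

omit [Fintype ι] [DecidableEq ι] in
theorem scalar_of_ten_eq_left (w w' : Fin n₂ → F) (hw : w ≠ 0) (A : Matrix (Fin n₁) (Fin n₁) F)
    (h : ∀ u : Fin n₁ → F, ten (A *ᵥ u) w' = ten u w) :
    ∃ μ : F, ∀ u : Fin n₁ → F, A *ᵥ u = μ • u := by
  obtain ⟨j, hj⟩ : ∃ j, w j ≠ 0 := by
    by_contra hcon
    push Not at hcon
    exact hw (funext hcon)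
  by_cases hn : Nonempty (Fin n₁)
  · have hj' : w' j ≠ 0 := by
      intro h0
      obtain ⟨i⟩ := hn
      have := congrFun (h (Pi.single i 1)) (i, j)
      simp only [ten, h0, mul_zero, Pi.single_eq_same, one_mul] at this
      exact hj this.symm
    refine ⟨(w' j)⁻¹ * w j, fun u => ?_⟩
    ext i
    have := congrFun (h u) (i, j)
    simp only [ten] at this
    rw [Pi.smul_apply, smul_eq_mul]
    field_simp
    linear_combination this
  · rw [not_nonempty_iff] at hn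
    exact ⟨0, fun u => Subsingleton.elim _ _⟩

variable (e : ι ≃ Fin n₁ × Fin n₂) (P : GL ι F)

/-- an isometry in the stabiliser of the tensor decomposition acts as the tensor product of a
matrix and a similarity of the second factor -/
theorem tensor_sim_right (f : (ι → F) → (ι → F) → F) (hn1 : 0 < n₁) (hn2 : 0 < n₂)
    (f₁ : (Fin n₁ → F) → (Fin n₁ → F) → F) (f₂ : (Fin n₂ → F) → (Fin n₂ → F) → F)
    (hnd₁ : Cfsg.Geo.IsNondegenerateForm f₁) (hnd₂ : Cfsg.Geo.IsNondegenerateForm f₂)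
    (c : F) (hc : c ≠ 0)
    (pol : ∀ u w u' w', f (Phi e P (ten u w)) (Phi e P (ten u' w')) = c * (f₁ u u' * f₂ w w'))
    (g : GL ι F) (hiso : ∀ x y, f (g.1 *ᵥ x) (g.1 *ᵥ y) = f x y)
    (hg : g ∈ Cfsg.Geo.tensorProductSubgroup n₁ n₂ e P) :
    ∃ (A : Matrix (Fin n₁) (Fin n₁) F) (B : Matrix (Fin n₂) (Fin n₂) F) (lam : F), lam ≠ 0 ∧
      (∀ u w, g.1 *ᵥ (Phi e P (ten u w)) = Phi e P (ten (A *ᵥ u) (B *ᵥ w))) ∧
      ∀ w w', f₂ (B *ᵥ w) (B *ᵥ w') = lam * f₂ w w' := by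
  obtain ⟨A, B, hAB⟩ := tensor_act e P _ hg
  have hact : ∀ u w, g.1 *ᵥ (Phi e P (ten u w)) = Phi e P (ten (A.1 *ᵥ u) (B.1 *ᵥ w)) := by
    intro u w
    rw [hAB, kron_mulVec_ten]
  have hprod : ∀ u u' w w', f₁ (A.1 *ᵥ u) (A.1 *ᵥ u') * f₂ (B.1 *ᵥ w) (B.1 *ᵥ w') =
      f₁ u u' * f₂ w w' := by
    intro u u' w w'
    have h := hiso (Phi e P (ten u w)) (Phi e P (ten u' w'))
    rw [hact, hact, pol, pol] at h
    exact mul_left_cancel₀ hc h
  have hu0 : (Pi.single ⟨0, hn1⟩ 1 : Fin n₁ → F) ≠ 0 := by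
    intro h
    have := congrFun h ⟨0, hn1⟩
    simp at this
  have hw0 : (Pi.single ⟨0, hn2⟩ 1 : Fin n₂ → F) ≠ 0 := by
    intro h
    have := congrFun h ⟨0, hn2⟩
    simp at this
  obtain ⟨-, u₀', hu₀⟩ := hnd₁ _ hu0
  obtain ⟨-, w₀', hw₀⟩ := hnd₂ _ hw0
  set u₀ : Fin n₁ → F := Pi.single ⟨0, hn1⟩ 1
  set w₀ : Fin n₂ → F := Pi.single ⟨0, hn2⟩ 1
  have hβ : f₁ (A.1 *ᵥ u₀) (A.1 *ᵥ u₀') ≠ 0 := by
    intro h0
    have := hprod u₀ u₀' w₀ w₀'
    rw [h0, zero_mul] at this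
    exact mul_ne_zero hu₀ hw₀ this.symm
  refine ⟨A.1, B.1, f₁ u₀ u₀' * (f₁ (A.1 *ᵥ u₀) (A.1 *ᵥ u₀'))⁻¹,
    mul_ne_zero hu₀ (inv_ne_zero hβ), hact, fun w w' => ?_⟩
  have := hprod u₀ u₀' w w'
  field_simp
  linear_combination this

/-- the union of the members of the decomposition attached to a frame of the second factor -/
def tenSetR (fr : Fin n₂ → (Fin n₂ → F)) : Set (ι → F) :=
  {v | ∃ j u, v = Phi e P (ten u (fr j))}

end tenssp1

section tenssp1b
variable {F : Type*} [Field F] [Fintype F] {ι : Type} [Fintype ι] [DecidableEq ι] {n₁ : ℕ}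
variable (e : ι ≃ Fin n₁ × Fin 3) (P : GL ι F)

theorem tensor_isom_maps_right (hq : Fintype.card F = 3) (hn1 : 0 < n₁)
    (f : (ι → F) → (ι → F) → F)
    (f₁ : (Fin n₁ → F) → (Fin n₁ → F) → F) (f₂ : (Fin 3 → F) → (Fin 3 → F) → F)
    (hnd₁ : Cfsg.Geo.IsNondegenerateForm f₁) (hf₂ : Cfsg.Geo.IsSymmetricForm f₂)
    (c : F) (hc : c ≠ 0)
    (pol : ∀ u w u' w', f (Phi e P (ten u w)) (Phi e P (ten u' w')) = c * (f₁ u u' * f₂ w w'))
    (c₁ : F) (fr : Fin 3 → (Fin 3 → F)) (F1 : ∀ i, f₂ (fr i) (fr i) = c₁)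
    (F3 : ∀ v, f₂ v v = c₁ → ∃ j, ∃ s : F, v = s • fr j)
    (g : GL ι F) (hiso : ∀ x y, f (g.1 *ᵥ x) (g.1 *ᵥ y) = f x y)
    (hg : g ∈ Cfsg.Geo.tensorProductSubgroup n₁ 3 e P)
    (v : ι → F) (hv : v ∈ tenSetR e P fr) : g.1 *ᵥ v ∈ tenSetR e P fr := by
  obtain ⟨A, B, lam, hlam, hact, hsim⟩ :=
    tensor_sim_right e P f hn1 (by norm_num) f₁ f₂ hnd₁ hf₂.nondegenerate c hc pol g hiso hg
  have h1 := sim_factor_one hq f₂ hf₂ B lam hlam hsim
  obtain ⟨j, u, rfl⟩ := hv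
  obtain ⟨j', s, hj⟩ := F3 (B *ᵥ fr j) (by rw [hsim, h1, one_mul, F1])
  refine ⟨j', s • (A *ᵥ u), ?_⟩
  rw [hact, hj, ten_smul_left, ten_smul_right]

end tenssp1b

section tvgl
variable {F : Type*} [Field F] {m : ℕ}

open Cfsg.Agent.helper4

/-- a symplectic transvection as an invertible matrix -/
def tvGL (a : Fin m ⊕ Fin m → F) (c : F) : GL (Fin m ⊕ Fin m) F :=
  ⟨Cfsg.sympTransvection m a c, Cfsg.sympTransvection m a (-c),
    by rw [sympTransvection_mul, add_neg_cancel, sympTransvection_zero],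
    by rw [sympTransvection_mul, neg_add_cancel, sympTransvection_zero]⟩

theorem tvGL_mulVec (a : Fin m ⊕ Fin m → F) (c : F) (x : Fin m ⊕ Fin m → F) :
    (tvGL a c).1 *ᵥ x = x + (c * Cfsg.sympForm m F x a) • a :=
  sympTransvection_mulVec a c x

theorem tvGL_inv (a : Fin m ⊕ Fin m → F) (c : F) : (tvGL a c)⁻¹ = tvGL a (-c) := by
  apply Units.ext
  rfl

theorem tvGL_mem_spGL (a : Fin m ⊕ Fin m → F) (c : F) : tvGL a c ∈ Cfsg.spGL m F := by
  intro u v
  show Cfsg.sympForm m F ((tvGL a c).1 *ᵥ u) ((tvGL a c).1 *ᵥ v) = Cfsg.sympForm m F u v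
  rw [tvGL_mulVec, tvGL_mulVec, sympForm_add_left, sympForm_add_right, sympForm_add_right,
    sympForm_smul_left, sympForm_smul_right, sympForm_smul_left, sympForm_smul_right,
    sympForm_self, sympForm_swap a v]
  ring

end tvgl

end Cfsg.Agent.helper13
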