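import Mathlib
import Cfsg.Agent.Lib_helper13_TensSp1

/-! Elements of the stabiliser of a tensor decomposition built from a pair of invertible matrices,
and conjugates of the element of order three of `GL₂` over the field with two elements. -/

set_option autoImplicit false

namespace Cfsg.Agent.helper13

open Module Matrix QuadraticMap
open scoped Kronecker

section tenso1
variable {F : Type*} [Field F] {ι : Type} [Fintype ι] [DecidableEq ι] {n₁ n₂ : ℕ}

/-- the Kronecker product of two invertible matrices -/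
def kronGL (A : GL (Fin n₁) F) (B : GL (Fin n₂) F) : GL (Fin n₁ × Fin n₂) F :=
  ⟨A.1 ⊗ₖ B.1, (A⁻¹ : GL (Fin n₁) F).1 ⊗ₖ (B⁻¹ : GL (Fin n₂) F).1,
    by rw [← Matrix.mul_kronecker_mul, ← Units.val_mul, ← Units.val_mul, mul_inv_cancel,
      mul_inv_cancel, Units.val_one, Units.val_one, Matrix.one_kronecker_one],
    by rw [← Matrix.mul_kronecker_mul, ← Units.val_mul, ← Units.val_mul, inv_mul_cancel,
      inv_mul_cancel, Units.val_one, Units.val_one, Matrix.one_kronecker_one]⟩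

theorem kronGL_mul (A A' : GL (Fin n₁) F) (B B' : GL (Fin n₂) F) :
    kronGL (A * A') (B * B') = kronGL A B * kronGL A' B' := by
  apply Units.ext
  show (A * A').1 ⊗ₖ (B * B').1 = (A.1 ⊗ₖ B.1) * (A'.1 ⊗ₖ B'.1)
  rw [Units.val_mul, Units.val_mul, Matrix.mul_kronecker_mul]

theorem kronGL_inv (A : GL (Fin n₁) F) (B : GL (Fin n₂) F) :
    (kronGL A B)⁻¹ = kronGL A⁻¹ B⁻¹ := by
  apply Units.ext
  rfl

variable (e : ι ≃ Fin n₁ × Fin n₂) (P : GL ι F)

/-- the element of the stabiliser of the tensor decomposition attached to a pair of invertible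
matrices -/
def tmk (A : GL (Fin n₁) F) (B : GL (Fin n₂) F) : GL ι F :=
  (MulAut.conj P).toMonoidHom ((Cfsg.Geo.glReindex e.symm).toMonoidHom (kronGL A B))

theorem tmk_mul (A A' : GL (Fin n₁) F) (B B' : GL (Fin n₂) F) :
    tmk e P (A * A') (B * B') = tmk e P A B * tmk e P A' B' := by
  unfold tmk
  rw [kronGL_mul, map_mul, map_mul]

theorem tmk_inv (A : GL (Fin n₁) F) (B : GL (Fin n₂) F) :
    (tmk e P A B)⁻¹ = tmk e P A⁻¹ B⁻¹ := by
  unfold tmk
  rw [← kronGL_inv, map_inv, map_inv]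

theorem tmk_mem (A : GL (Fin n₁) F) (B : GL (Fin n₂) F) :
    tmk e P A B ∈ Cfsg.Geo.tensorProductSubgroup n₁ n₂ e P := by
  unfold tmk Cfsg.Geo.tensorProductSubgroup
  exact Subgroup.mem_map_of_mem _ (Subgroup.mem_map_of_mem _ ⟨A, B, rfl⟩)

theorem exists_tmk (g : GL ι F) (hg : g ∈ Cfsg.Geo.tensorProductSubgroup n₁ n₂ e P) :
    ∃ (A : GL (Fin n₁) F) (B : GL (Fin n₂) F), g = tmk e P A B := by
  unfold Cfsg.Geo.tensorProductSubgroup at hg
  obtain ⟨g₁, hg₁, rfl⟩ := hg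
  obtain ⟨k, ⟨A, B, hk⟩, rfl⟩ := hg₁
  refine ⟨A, B, ?_⟩
  unfold tmk
  have : k = kronGL A B := Units.ext hk
  rw [this]

theorem tmk_act (A : GL (Fin n₁) F) (B : GL (Fin n₂) F) (u : Fin n₁ → F) (w : Fin n₂ → F) :
    (tmk e P A B).1 *ᵥ Phi e P (ten u w) = Phi e P (ten (A.1 *ᵥ u) (B.1 *ᵥ w)) := by
  obtain ⟨A', B', h⟩ := tensor_act e P _ (tmk_mem e P A B)
  -- recompute directly
  unfold Phi tmk
  show ((P * (Cfsg.Geo.glReindex e.symm (kronGL A B)) * P⁻¹ : GL ι F) : Matrix ι ι F) *ᵥ _ = _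
  rw [Units.val_mul, Units.val_mul, Matrix.mulVec_mulVec, Matrix.mul_assoc, Matrix.mul_assoc,
    ← Units.val_mul, inv_mul_cancel, Units.val_one, Matrix.mul_one, ← Matrix.mulVec_mulVec]
  congr 1
  have h1 : ((Cfsg.Geo.glReindex e.symm (kronGL A B) : GL ι F) : Matrix ι ι F) =
      ((kronGL A B : GL (Fin n₁ × Fin n₂) F) :
        Matrix (Fin n₁ × Fin n₂) (Fin n₁ × Fin n₂) F).submatrix e e := by
    unfold Cfsg.Geo.glReindex
    simp [Matrix.reindex_apply]
  rw [h1, Matrix.submatrix_mulVec_equiv]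
  have h2 : ((kronGL A B : GL (Fin n₁ × Fin n₂) F) :
      Matrix (Fin n₁ × Fin n₂) (Fin n₁ × Fin n₂) F) = A.1 ⊗ₖ B.1 := rfl
  rw [h2, ← kron_mulVec_ten]
  congr 2
  funext p
  simp

theorem Phi_surjective (v : ι → F) : ∃ x : Fin n₁ × Fin n₂ → F, v = Phi e P x := by
  refine ⟨fun p => ((P⁻¹ : GL ι F).1 *ᵥ v) (e.symm p), ?_⟩
  unfold Phi
  have : ((fun p => ((P⁻¹ : GL ι F).1 *ᵥ v) (e.symm p)) ∘ e) = (P⁻¹ : GL ι F).1 *ᵥ v := by
    funext i
    simp
  rw [this, Matrix.mulVec_mulVec, ← Units.val_mul, mul_inv_cancel, Units.val_one,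
    Matrix.one_mulVec]

end tenso1

section zeta
variable {F : Type*} [Field F]

/-- the element of order three of `GL₂` in characteristic two -/
def zeta2 (h2 : (2 : F) = 0) : GL (Fin 2) F :=
  ⟨!![0, 1; 1, 1], !![1, 1; 1, 0], by
    ext i j
    fin_cases i <;> fin_cases j <;> simp [Matrix.mul_apply, Fin.sum_univ_two] <;>
      first | linear_combination h2 | linear_combination 2 * h2, by
    ext i j
    fin_cases i <;> fin_cases j <;> simp [Matrix.mul_apply, Fin.sum_univ_two] <;>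
      first | linear_combination h2 | linear_combination 2 * h2⟩

theorem zeta2_val (h2 : (2 : F) = 0) : (zeta2 h2).1 = !![0, 1; 1, 1] := rfl

theorem zeta2_inv_val (h2 : (2 : F) = 0) : ((zeta2 h2)⁻¹ : GL (Fin 2) F).1 = !![1, 1; 1, 0] := rfl

theorem zeta2_poly (h2 : (2 : F) = 0) :
    (zeta2 h2).1 * (zeta2 h2).1 + (zeta2 h2).1 + 1 = 0 := by
  rw [zeta2_val]
  ext i j
  fin_cases i <;> fin_cases j <;> simp [Matrix.mul_apply, Fin.sum_univ_two] <;>
    first | linear_combination h2 | linear_combination 2 * h2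

end zeta

end Cfsg.Agent.helper13
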