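import Mathlib
import Cfsg.Agent.Lib_helper13_TensO1
import Cfsg.Agent.Lib_helper13_F2T

/-! Conjugates of the element of order three of `GL₂` over the field with two elements, and the
subgroup of elements conjugating a given element to itself or to its inverse. -/

set_option autoImplicit false

namespace Cfsg.Agent.helper13

open Module Matrix QuadraticMap
open scoped Kronecker

section invnorm
variable {G : Type*} [Group G]

/-- the elements conjugating `z` to `z` or to its inverse -/
def invNorm (z : G) : Subgroup G where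
  carrier := {g | g * z * g⁻¹ = z ∨ g * z * g⁻¹ = z⁻¹}
  mul_mem' := by
    intro g h hg hh
    have e1 : g * h * z * (g * h)⁻¹ = g * (h * z * h⁻¹) * g⁻¹ := by group
    show g * h * z * (g * h)⁻¹ = z ∨ g * h * z * (g * h)⁻¹ = z⁻¹
    rw [e1]
    rcases hh with hh | hh
    · rw [hh]
      exact hg
    · rw [hh]
      have e2 : g * z⁻¹ * g⁻¹ = (g * z * g⁻¹)⁻¹ := by group
      rw [e2]
      rcases hg with hg | hg
      · right; rw [hg]
      · left; rw [hg, inv_inv]
  one_mem' := Or.inl (by group)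
  inv_mem' := by
    intro g hg
    show g⁻¹ * z * g⁻¹⁻¹ = z ∨ g⁻¹ * z * g⁻¹⁻¹ = z⁻¹
    rcases hg with hg | hg
    · left
      calc g⁻¹ * z * g⁻¹⁻¹ = g⁻¹ * (g * z * g⁻¹) * g := by rw [hg, inv_inv]
        _ = z := by group
    · right
      have h1 : g * z⁻¹ * g⁻¹ = z := by
        calc g * z⁻¹ * g⁻¹ = (g * z * g⁻¹)⁻¹ := by group
          _ = z := by rw [hg, inv_inv]
      calc g⁻¹ * z * g⁻¹⁻¹ = g⁻¹ * (g * z⁻¹ * g⁻¹) * g := by rw [h1, inv_inv]
        _ = z⁻¹ := by group

theorem mem_invNorm (z g : G) : g ∈ invNorm z ↔ g * z * g⁻¹ = z ∨ g * z * g⁻¹ = z⁻¹ := Iff.rfl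

end invnorm

section conjzeta
variable {F : Type*} [Field F] [Fintype F]

theorem conj_zeta2 (hF : Fintype.card F = 2) (X : GL (Fin 2) F) :
    X * zeta2 (two_eq_zero_of_card hF) * X⁻¹ = zeta2 (two_eq_zero_of_card hF) ∨
    X * zeta2 (two_eq_zero_of_card hF) * X⁻¹ = (zeta2 (two_eq_zero_of_card hF))⁻¹ := by
  have h2 := two_eq_zero_of_card hF
  have hc := F2_cases hF
  set ζ := zeta2 h2 with hζ
  set Y := X * ζ * X⁻¹ with hY
  have hpoly : Y.1 * Y.1 + Y.1 + 1 = 0 := by
    have e1 : Y * Y = X * (ζ * ζ) * X⁻¹ := by rw [hY]; group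
    have e2 : Y.1 * Y.1 = X.1 * (ζ.1 * ζ.1) * (X⁻¹ : GL (Fin 2) F).1 := by
      rw [← Units.val_mul, e1, Units.val_mul, Units.val_mul, Units.val_mul]
    have e3 : Y.1 = X.1 * ζ.1 * (X⁻¹ : GL (Fin 2) F).1 := by
      rw [hY, Units.val_mul, Units.val_mul]
    have e4 : (1 : Matrix (Fin 2) (Fin 2) F) = X.1 * 1 * (X⁻¹ : GL (Fin 2) F).1 := by
      rw [Matrix.mul_one, ← Units.val_mul, mul_inv_cancel, Units.val_one]
    have e5 : Y.1 * Y.1 + Y.1 + 1 =
        X.1 * (ζ.1 * ζ.1 + ζ.1 + 1) * (X⁻¹ : GL (Fin 2) F).1 := by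
      rw [Matrix.mul_add, Matrix.mul_add, Matrix.add_mul, Matrix.add_mul, ← e2, ← e3, ← e4]
    rw [e5, zeta2_poly h2, Matrix.mul_zero, Matrix.zero_mul]
  have e00 := congrFun (congrFun hpoly 0) 0
  have e01 := congrFun (congrFun hpoly 0) 1
  simp only [Matrix.add_apply, Matrix.mul_apply, Fin.sum_univ_two, Matrix.one_apply_eq,
    Matrix.zero_apply] at e00
  simp only [Matrix.add_apply, Matrix.mul_apply, Fin.sum_univ_two, Matrix.zero_apply] at e01
  rw [Matrix.one_apply_ne (by decide : (0 : Fin 2) ≠ 1), add_zero] at e01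
  set p := Y.1 0 0 with hp
  set q := Y.1 0 1 with hq
  set r := Y.1 1 0 with hr
  set s := Y.1 1 1 with hs
  have hpp : p * p = p := by
    rcases hc p with h | h <;> rw [h] <;> ring
  have hqr : q * r = 1 := by
    linear_combination e00 - hpp - (p + 1) * h2
  have hq1 : q = 1 := by
    rcases hc q with h | h
    · rw [h, zero_mul] at hqr
      exact absurd hqr zero_ne_one
    · exact h
  have hr1 : r = 1 := by
    rcases hc r with h | h
    · rw [h, mul_zero] at hqr
      exact absurd hqr zero_ne_one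
    · exact h
  rw [hq1] at e01
  rcases hc p with hp0 | hp1
  · left
    have hs1 : s = 1 := by
      rw [hp0] at e01
      linear_combination e01 - h2
    apply Units.ext
    rw [hζ, zeta2_val]
    ext i j
    fin_cases i <;> fin_cases j
    · exact hp0
    · exact hq1
    · exact hr1
    · exact hs1
  · right
    have hs0 : s = 0 := by
      rw [hp1] at e01
      linear_combination e01 - h2
    apply Units.ext
    rw [hζ, zeta2_inv_val]
    ext i j
    fin_cases i <;> fin_cases j
    · exact hp1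
    · exact hq1
    · exact hr1
    · exact hs0

end conjzeta

end Cfsg.Agent.helper13
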