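import Mathlib
import Cfsg.Agent.Lib_helper13_TensO2

/-! Coordinates for a tensor decomposition with a two-dimensional first factor: every vector is
`pvec α + qvec β`. -/

set_option autoImplicit false

namespace Cfsg.Agent.helper13

open Module Matrix QuadraticMap
open scoped Kronecker

section tenso3
variable {F : Type*} [Field F] {ι : Type} [Fintype ι] [DecidableEq ι] {n₂ : ℕ}
variable (e : ι ≃ Fin 2 × Fin n₂) (P : GL ι F)

/-- the first standard basis vector of the plane -/
def eP0 : Fin 2 → F := Pi.single 0 1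

/-- the second standard basis vector of the plane -/
def eP1 : Fin 2 → F := Pi.single 1 1

/-- tensors with first factor the first basis vector -/
def pvec (α : Fin n₂ → F) : ι → F := Phi e P (ten (eP0 : Fin 2 → F) α)

/-- tensors with first factor the second basis vector -/
def qvec (β : Fin n₂ → F) : ι → F := Phi e P (ten (eP1 : Fin 2 → F) β)

theorem pvec_add (α α' : Fin n₂ → F) : pvec e P (α + α') = pvec e P α + pvec e P α' := by
  unfold pvec
  rw [ten_add_right, Phi_add]

theorem qvec_add (β β' : Fin n₂ → F) : qvec e P (β + β') = qvec e P β + qvec e P β' := by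
  unfold qvec
  rw [ten_add_right, Phi_add]

theorem pvec_zero : pvec e P (0 : Fin n₂ → F) = 0 := by
  unfold pvec
  rw [ten_zero_right, Phi_zero]

theorem qvec_zero : qvec e P (0 : Fin n₂ → F) = 0 := by
  unfold qvec
  rw [ten_zero_right, Phi_zero]

omit [Fintype ι] [DecidableEq ι] in
theorem ten_decomp (x : Fin 2 × Fin n₂ → F) :
    x = ten (eP0 : Fin 2 → F) (fun j => x (0, j)) + ten (eP1 : Fin 2 → F) (fun j => x (1, j)) := by
  funext ⟨i, j⟩
  fin_cases i <;> simp [ten, eP0, eP1]

theorem exists_pq (v : ι → F) : ∃ α β : Fin n₂ → F, v = pvec e P α + qvec e P β := by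
  obtain ⟨x, rfl⟩ := Phi_surjective e P v
  refine ⟨fun j => x (0, j), fun j => x (1, j), ?_⟩
  unfold pvec qvec
  rw [← Phi_add, ← ten_decomp]

theorem pq_inj (α β α' β' : Fin n₂ → F)
    (h : pvec e P α + qvec e P β = pvec e P α' + qvec e P β') : α = α' ∧ β = β' := by
  unfold pvec qvec at h
  rw [← Phi_add, ← Phi_add] at h
  have h1 := Phi_injective e P h
  constructor
  · funext j
    have := congrFun h1 (0, j)
    simpa [ten, eP0, eP1] using this
  · funext j
    have := congrFun h1 (1, j)
    simpa [ten, eP0, eP1] using this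

theorem zeta_eP0 (h2 : (2 : F) = 0) : (zeta2 h2).1 *ᵥ (eP0 : Fin 2 → F) = eP1 := by
  rw [zeta2_val]
  funext i
  fin_cases i <;> simp [eP0, eP1, Matrix.mulVec, dotProduct, Fin.sum_univ_two]

theorem zeta_eP1 (h2 : (2 : F) = 0) : (zeta2 h2).1 *ᵥ (eP1 : Fin 2 → F) = eP0 + eP1 := by
  rw [zeta2_val]
  funext i
  fin_cases i <;> simp [eP0, eP1, Matrix.mulVec, dotProduct, Fin.sum_univ_two]

theorem zact_p (h2 : (2 : F) = 0) (α : Fin n₂ → F) :
    (tmk e P (zeta2 h2) 1).1 *ᵥ pvec e P α = qvec e P α := by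
  unfold pvec qvec
  rw [tmk_act, zeta_eP0, Units.val_one, Matrix.one_mulVec]

theorem zact_q (h2 : (2 : F) = 0) (β : Fin n₂ → F) :
    (tmk e P (zeta2 h2) 1).1 *ᵥ qvec e P β = pvec e P β + qvec e P β := by
  unfold pvec qvec
  rw [tmk_act, zeta_eP1, Units.val_one, Matrix.one_mulVec, ten_add_left, Phi_add]

end tenso3

end Cfsg.Agent.helper13
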