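import Mathlib
import Cfsg.Agent.Lib_helper13_TensO3

/-! Over the field with two elements the stabiliser in `Ω` of a tensor decomposition with a
two-dimensional symplectic factor normalises a field of four elements: coordinate model. -/

set_option autoImplicit false

namespace Cfsg.Agent.helper13

open Module Matrix QuadraticMap
open scoped Kronecker

section tenso4
variable {F : Type*} [Field F] [Fintype F] {ι : Type} [Fintype ι] [DecidableEq ι]
variable (Q : QuadraticForm F (ι → F)) {n₂ : ℕ} (e : ι ≃ Fin 2 × Fin n₂) (P : GL ι F)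

/-- the coordinate model of a quadratic form whose polar form is the tensor product of two
symplectic forms and which vanishes on pure tensors, over the field with two elements -/
structure O2Model (f₂ : (Fin n₂ → F) → (Fin n₂ → F) → F) : Prop where
  two : (2 : F) = 0
  Bpp : ∀ α α', polar (⇑Q) (pvec e P α) (pvec e P α') = 0
  Bqq : ∀ β β', polar (⇑Q) (qvec e P β) (qvec e P β') = 0
  Bpq : ∀ α β, polar (⇑Q) (pvec e P α) (qvec e P β) = f₂ α β
  Bqp : ∀ β α, polar (⇑Q) (qvec e P β) (pvec e P α) = f₂ β α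
  Qp : ∀ α, Q (pvec e P α) = 0
  Qq : ∀ β, Q (qvec e P β) = 0
  alt : ∀ α, f₂ α α = 0
  symm : ∀ α β, f₂ β α = f₂ α β
  addl : ∀ α α' β, f₂ (α + α') β = f₂ α β + f₂ α' β
  addr : ∀ α β β', f₂ α (β + β') = f₂ α β + f₂ α β'

theorem o2Model_of (hq : Fintype.card F = 2)
    (f₁ : (Fin 2 → F) → (Fin 2 → F) → F) (f₂ : (Fin n₂ → F) → (Fin n₂ → F) → F)
    (hf₁ : Cfsg.Geo.IsSymplecticForm f₁) (hf₂ : Cfsg.Geo.IsSymplecticForm f₂)
    (hT : Cfsg.Geo.IsTensorFormStructure id (polar ⇑Q) f₁ f₂ e P)
    (hpure : ∀ (x₁ : Fin 2 → F) (x₂ : Fin n₂ → F), Q (Phi e P (ten x₁ x₂)) = 0) :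
    O2Model Q e P f₂ := by
  have hc2 := F2_cases hq
  have h2 := two_eq_zero_of_card hq
  have hneg : ∀ a : F, -a = a := fun a => by linear_combination (-a) * h2
  obtain ⟨c, hc, hT⟩ := hT
  have pol : ∀ u w u' w', polar (⇑Q) (Phi e P (ten u w)) (Phi e P (ten u' w')) =
      c * (f₁ u u' * f₂ w w') := by
    intro u w u' w'
    have := hT (ten u w) (ten u' w')
    rw [formOfGram_ten f₁ f₂ hf₁.bilinear hf₂.bilinear] at this
    exact this
  have h00 : f₁ eP0 eP0 = 0 := hf₁.alternating _
  have h11 : f₁ eP1 eP1 = 0 := hf₁.alternating _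
  have h01 : f₁ eP0 eP1 ≠ 0 := by
    have he0 : (eP0 : Fin 2 → F) ≠ 0 := by
      intro h
      have := congrFun h 0
      simp [eP0] at this
    obtain ⟨-, x, hx⟩ := hf₁.nondegenerate _ he0
    intro h0
    apply hx
    have hxd : x = x 0 • eP0 + x 1 • eP1 := by
      funext i
      fin_cases i <;> simp [eP0, eP1]
    rw [hxd, hf₁.bilinear.add_right, hf₁.bilinear.smul_right, hf₁.bilinear.smul_right, h00, h0]
    ring
  have hκ : c * f₁ eP0 eP1 = 1 := by
    rcases hc2 c with h | h
    · exact absurd h hc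
    · rcases hc2 (f₁ eP0 eP1) with h' | h'
      · exact absurd h' h01
      · rw [h, h', mul_one]
  have hs₂ : ∀ α β, f₂ β α = f₂ α β := fun α β => by rw [hf₂.skew, hneg]
  have Bpq : ∀ α β, polar (⇑Q) (pvec e P α) (qvec e P β) = f₂ α β := by
    intro α β
    unfold pvec qvec
    rw [pol, ← mul_assoc, hκ, one_mul]
  refine ⟨h2, ?_, ?_, Bpq, ?_, fun α => hpure _ _, fun β => hpure _ _, hf₂.alternating, hs₂,
    hf₂.bilinear.add_left, fun α β β' => hf₂.bilinear.add_right α β β'⟩
  · intro α α'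
    unfold pvec
    rw [pol, h00, zero_mul, mul_zero]
  · intro β β'
    unfold qvec
    rw [pol, h11, zero_mul, mul_zero]
  · intro β α
    rw [polar_comm, Bpq, hs₂]

variable {Q e P}
variable {f₂ : (Fin n₂ → F) → (Fin n₂ → F) → F}

omit [Fintype F] in
theorem O2Model.add_self (M : O2Model Q e P f₂) (a : F) : a + a = 0 := by
  linear_combination a * M.two

omit [Fintype F] in
theorem O2Model.vadd_self (M : O2Model Q e P f₂) (v : ι → F) : v + v = 0 := by
  ext i
  simp only [Pi.add_apply, Pi.zero_apply]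
  exact M.add_self _

omit [Fintype F] in
theorem O2Model.zero_right (M : O2Model Q e P f₂) (α : Fin n₂ → F) : f₂ α 0 = 0 := by
  have := M.addr α 0 0
  rw [add_zero] at this
  exact left_eq_add.mp this

omit [Fintype F] in
theorem O2Model.BΨ (M : O2Model Q e P f₂) (α β α' β' : Fin n₂ → F) :
    polar (⇑Q) (pvec e P α + qvec e P β) (pvec e P α' + qvec e P β') = f₂ α β' + f₂ β α' := by
  rw [polar_add_left, polar_add_right, polar_add_right, M.Bpp, M.Bqq, M.Bpq, M.Bqp]
  ring

omit [Fintype F] in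
theorem O2Model.QΨ (M : O2Model Q e P f₂) (α β : Fin n₂ → F) :
    Q (pvec e P α + qvec e P β) = f₂ α β := by
  have h := M.Bpq α β
  unfold polar at h
  rw [M.Qp, M.Qq] at h
  linear_combination h

omit [Fintype F] in
/-- the action of the element of order three -/
theorem O2Model.zΨ (M : O2Model Q e P f₂) (α β : Fin n₂ → F) :
    (tmk e P (zeta2 M.two) 1).1 *ᵥ (pvec e P α + qvec e P β) =
      pvec e P β + qvec e P (α + β) := by
  rw [Matrix.mulVec_add, zact_p, zact_q, qvec_add]
  abel

omit [Fintype F] in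
/-- reflections in vectors of norm one -/
theorem O2Model.refl (M : O2Model Q e P f₂) (w : ι → F) (hw : Q w ≠ 0) (h1 : Q w = 1)
    (v : ι → F) : iact (reflG Q w hw) v = v + (polar (⇑Q) w v) • w := by
  rw [iact_reflG, h1, inv_one, one_mul]
  ext i
  simp only [Pi.sub_apply, Pi.add_apply, Pi.smul_apply, smul_eq_mul]
  linear_combination (-(polar (⇑Q) w v * w i)) * M.two

end tenso4

end Cfsg.Agent.helper13
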