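import Mathlib
import Cfsg.Agent.Lib_helper13_TensO4

/-! Over the field with two elements the stabiliser in `Ω` of a tensor decomposition with a
two-dimensional symplectic factor is not maximal: main argument. -/

set_option autoImplicit false

namespace Cfsg.Agent.helper13

open Module Matrix QuadraticMap
open scoped Kronecker

section tenso5
variable {F : Type*} [Field F] [Fintype F] {ι : Type} [Fintype ι] [DecidableEq ι]
variable {Q : QuadraticForm F (ι → F)} {n₂ : ℕ} {e : ι ≃ Fin 2 × Fin n₂} {P : GL ι F}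
variable {f₂ : (Fin n₂ → F) → (Fin n₂ → F) → F}

theorem gl_ext_mulVec (g h : GL ι F) (H : ∀ v : ι → F, g.1 *ᵥ v = h.1 *ᵥ v) : g = h := by
  apply Units.ext
  ext i j
  have := congrFun (H (Pi.single j 1)) i
  rw [Matrix.mulVec_single_one, Matrix.mulVec_single_one] at this
  exact this

theorem o2_not_max (hq : Fintype.card F = 2) (M : O2Model Q e P f₂)
    (hQ : (polarBilin Q).Nondegenerate) (hcard : Fintype.card ι ≠ 4)
    (a b w₀ : Fin n₂ → F) (hab : f₂ a b = 1) (hw0 : w₀ ≠ 0) (hwa : f₂ w₀ a = 0)
    (hwb : f₂ w₀ b = 0) :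
    ∃ K : Subgroup (GL ι F),
      Cfsg.Geo.tensorProductSubgroup 2 n₂ e P ⊓ Cfsg.Geo.omegaGL ⇑Q < K ∧
      K < Cfsg.Geo.omegaGL ⇑Q := by
  have h2 := M.two
  have hne : Fintype.card F ≠ 2 ∨ Fintype.card ι ≠ 4 := Or.inr hcard
  have hba : f₂ b a = 1 := by rw [M.symm]; exact hab
  have haw : f₂ a w₀ = 0 := by rw [M.symm]; exact hwa
  have hbw : f₂ b w₀ = 0 := by rw [M.symm]; exact hwb
  set z : GL ι F := tmk e P (zeta2 h2) 1 with hz
  -- the basic vectors
  set x := pvec e P a + qvec e P b with hx
  set zx := pvec e P b + qvec e P (a + b) with hzx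
  set y := pvec e P (a + w₀) + qvec e P b with hy
  have Qx : Q x = 1 := by rw [hx, M.QΨ, hab]
  have Qzx : Q zx = 1 := by rw [hzx, M.QΨ, M.addr, hba, M.alt, add_zero]
  have Qy : Q y = 1 := by rw [hy, M.QΨ, M.addl, hab, hwb, add_zero]
  have hQx : Q x ≠ 0 := by rw [Qx]; exact one_ne_zero
  have hQzx : Q zx ≠ 0 := by rw [Qzx]; exact one_ne_zero
  have hQy : Q y ≠ 0 := by rw [Qy]; exact one_ne_zero
  have z_x : z.1 *ᵥ x = zx := by rw [hx, hz, M.zΨ]
  have z_zx : z.1 *ᵥ zx = x + zx := by
    rw [hzx, hz, M.zΨ, hx, pvec_add, qvec_add, qvec_add]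
    abel
  have z_xzx : z.1 *ᵥ (x + zx) = x := by
    rw [Matrix.mulVec_add, z_x, z_zx]
    ext i
    simp only [Pi.add_apply]
    linear_combination (zx i) * h2
  have zpol : ∀ u v : ι → F, polar (⇑Q) (z.1 *ᵥ u) (z.1 *ᵥ v) = polar (⇑Q) u v := by
    intro u v
    obtain ⟨α, β, rfl⟩ := exists_pq e P u
    obtain ⟨α', β', rfl⟩ := exists_pq e P v
    rw [hz, M.zΨ, M.zΨ, M.BΨ, M.BΨ, M.addr, M.addl]
    linear_combination (f₂ β β') * h2
  have Bxzx : polar (⇑Q) x zx = 1 := by
    rw [hx, hzx, M.BΨ, M.addr, M.alt, M.alt, hab]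
    ring
  refine ⟨invNorm z ⊓ Cfsg.Geo.omegaGL ⇑Q, ?_, ?_⟩
  · apply inf_omega_lt_inf_omega Q
    · intro h _ hh
      obtain ⟨A, B, hAB⟩ := exists_tmk e P _ hh
      rw [hAB, mem_invNorm, tmk_inv, hz, ← tmk_mul, ← tmk_mul, mul_one, mul_inv_cancel]
      rcases conj_zeta2 hq A with hc | hc
      · left
        rw [hc]
      · right
        rw [hc, tmk_inv, inv_one]
    · set ρ := reflG Q x hQx * reflG Q zx hQzx with hρ
      have hρv : ∀ v, iact ρ v =
          v + (polar (⇑Q) zx v) • zx + (polar (⇑Q) x v + polar (⇑Q) zx v) • x := by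
        intro v
        rw [hρ, iact_mul, M.refl zx hQzx Qzx, M.refl x hQx Qx, polar_add_right,
          polar_smul_right, Bxzx, smul_eq_mul, mul_one]
      refine ⟨ρ, ?_, ?_, ?_⟩
      · exact reflG_pair_mem_comm Q hQ hne zx x hQzx hQx (by rw [Qx, Qzx])
      · rw [mem_invNorm]
        left
        rw [mul_inv_eq_iff_eq_mul]
        apply gl_ext_mulVec
        intro v
        rw [Units.val_mul, Units.val_mul, ← Matrix.mulVec_mulVec, ← Matrix.mulVec_mulVec]
        have e1 : ((ρ : GL ι F) : Matrix ι ι F) *ᵥ (z.1 *ᵥ v) = iact ρ (z.1 *ᵥ v) := rfl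
        have e2 : ((ρ : GL ι F) : Matrix ι ι F) *ᵥ v = iact ρ v := rfl
        rw [e1, e2, hρv, hρv, Matrix.mulVec_add, Matrix.mulVec_add, Matrix.mulVec_smul,
          Matrix.mulVec_smul, z_x, z_zx]
        have s1 : polar (⇑Q) zx (z.1 *ᵥ v) = polar (⇑Q) x v := by
          rw [← z_x, zpol]
        have s2 : polar (⇑Q) x (z.1 *ᵥ v) = polar (⇑Q) x v + polar (⇑Q) zx v := by
          have h7 := zpol (x + zx) v
          rw [z_xzx] at h7
          exact h7.trans (polar_add_left Q x zx v)
        rw [s1, s2]
        ext i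
        simp only [Pi.add_apply, Pi.smul_apply, smul_eq_mul]
        linear_combination (polar (⇑Q) x v * x i - polar (⇑Q) zx v * zx i) * h2
      · intro hmem
        obtain ⟨A, B, hAB⟩ := exists_tmk e P _ hmem
        have hact : ∀ u w, iact ρ (Phi e P (ten u w)) = Phi e P (ten (A.1 *ᵥ u) (B.1 *ᵥ w)) := by
          intro u w
          unfold iact
          rw [hAB, tmk_act]
        -- pure tensors with second factor `w₀` are fixed
        have hpw : ∀ u : Fin 2 → F, ∃ s t : F,
            Phi e P (ten u w₀) = pvec e P (s • w₀) + qvec e P (t • w₀) := by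
          intro u
          refine ⟨u 0, u 1, ?_⟩
          unfold pvec qvec
          rw [← Phi_add]
          congr 1
          funext ⟨i, j⟩
          fin_cases i <;> simp [ten, eP0, eP1]
        have hsm : ∀ (s : F) (α : Fin n₂ → F), f₂ α (s • w₀) = s * f₂ α w₀ := by
          intro s α
          rcases F2_cases hq s with h | h
          · rw [h, zero_smul, zero_mul, M.zero_right]
          · rw [h, one_smul, one_mul]
        have hfix : ∀ u : Fin 2 → F, iact ρ (Phi e P (ten u w₀)) = Phi e P (ten u w₀) := by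
          intro u
          obtain ⟨s, t, hst⟩ := hpw u
          have p1 : polar (⇑Q) zx (Phi e P (ten u w₀)) = 0 := by
            rw [hst, hzx, M.BΨ, hsm, hsm, hbw, M.addl, haw, hbw]
            ring
          have p2 : polar (⇑Q) x (Phi e P (ten u w₀)) = 0 := by
            rw [hst, hx, M.BΨ, hsm, hsm, haw, hbw]
            ring
          rw [hρv, p1, p2, add_zero, zero_smul, zero_smul, add_zero, add_zero]
        obtain ⟨μ, hμ⟩ := scalar_of_ten_eq_left w₀ (B.1 *ᵥ w₀) hw0 A.1 (by
          intro u
          apply Phi_injective e P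
          rw [← hact, hfix])
        -- the image of `pvec (a + b)`
        have himg : iact ρ (pvec e P (a + b)) = pvec e P b + qvec e P b := by
          have p1 : polar (⇑Q) zx (pvec e P (a + b)) = 0 := by
            rw [hzx, polar_add_left, M.Bpp, M.Bqp, M.alt, add_zero]
          have p2 : polar (⇑Q) x (pvec e P (a + b)) = 1 := by
            rw [hx, polar_add_left, M.Bpp, M.Bqp, M.addr, hba, M.alt]
            ring
          rw [hρv, p1, p2, zero_smul, add_zero, add_zero, one_smul, hx, pvec_add]
          ext i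
          simp only [Pi.add_apply]
          linear_combination (pvec e P a i) * h2
        have h5 : Phi e P (ten (A.1 *ᵥ eP0) (B.1 *ᵥ (a + b))) =
            Phi e P (ten (eP0 + eP1) b) := by
          rw [← hact, ten_add_left, Phi_add]
          exact himg
        have h6 := Phi_injective e P h5
        rw [hμ] at h6
        obtain ⟨j, hj⟩ : ∃ j, b j ≠ 0 := by
          by_contra hcon
          push Not at hcon
          have : b = 0 := funext hcon
          rw [this, M.zero_right] at hab
          exact zero_ne_one hab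
        have := congrFun h6 (1, j)
        simp [ten, eP0, eP1] at this
        exact hj this.symm
  · apply inf_omega_lt_omega Q
    set g := reflG Q x hQx * reflG Q y hQy with hg
    refine ⟨g, reflG_pair_mem_comm Q hQ hne y x hQy hQx (by rw [Qx, Qy]), ?_⟩
    have gfix : iact g (pvec e P b) = pvec e P b := by
      rw [hg, iact_mul, iact_reflG_of_polar Q y hQy _ (by
        rw [hy, polar_add_left, M.Bpp, M.Bqp, M.alt, add_zero]),
        iact_reflG_of_polar Q x hQx _ (by
        rw [hx, polar_add_left, M.Bpp, M.Bqp, M.alt, add_zero])]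
    have gq : iact g (qvec e P b) = pvec e P w₀ + qvec e P b := by
      have p1 : polar (⇑Q) y (qvec e P b) = 1 := by
        rw [hy, polar_add_left, M.Bpq, M.Bqq, M.addl, hab, hwb]
        ring
      have p2 : polar (⇑Q) x (qvec e P b) = 1 := by
        rw [hx, polar_add_left, M.Bpq, M.Bqq, hab, add_zero]
      have p3 : polar (⇑Q) x y = 0 := by
        rw [hx, hy, M.BΨ, hab, M.addr, hba, hbw]
        linear_combination h2
      rw [hg, iact_mul, M.refl y hQy Qy, M.refl x hQx Qx, p1, one_smul, polar_add_right, p2, p3,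
        add_zero, one_smul, hy, hx, pvec_add]
      ext i
      simp only [Pi.add_apply]
      linear_combination (pvec e P a i + qvec e P b i) * h2
    have zp : z.1 *ᵥ pvec e P b = qvec e P b := by rw [hz, zact_p]
    intro hmem
    rw [mem_invNorm] at hmem
    rcases hmem with hm | hm
    · -- g commutes with z
      rw [mul_inv_eq_iff_eq_mul] at hm
      have h5 := congrArg (fun t : GL ι F => t.1 *ᵥ pvec e P b) hm
      simp only [Units.val_mul, ← Matrix.mulVec_mulVec] at h5
      rw [zp] at h5
      have e1 : ((g : GL ι F) : Matrix ι ι F) *ᵥ qvec e P b = iact g (qvec e P b) := rfl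
      have e2 : ((g : GL ι F) : Matrix ι ι F) *ᵥ pvec e P b = iact g (pvec e P b) := rfl
      rw [e1, e2, gq, gfix, zp] at h5
      have h6 : pvec e P w₀ + qvec e P b = pvec e P 0 + qvec e P b := by
        rw [pvec_zero, zero_add]
        exact h5
      exact hw0 (pq_inj e P _ _ _ _ h6).1
    · -- g inverts z
      have hm' : z * (g : GL ι F) * z = (g : GL ι F) := by
        have : (g : GL ι F) * z = z⁻¹ * (g : GL ι F) := mul_inv_eq_iff_eq_mul.mp hm
        calc z * (g : GL ι F) * z = z * ((g : GL ι F) * z) := by group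
          _ = z * (z⁻¹ * (g : GL ι F)) := by rw [this]
          _ = (g : GL ι F) := by group
      have h5 := congrArg (fun t : GL ι F => t.1 *ᵥ pvec e P b) hm'
      simp only [Units.val_mul, ← Matrix.mulVec_mulVec] at h5
      rw [zp] at h5
      have e1 : ((g : GL ι F) : Matrix ι ι F) *ᵥ qvec e P b = iact g (qvec e P b) := rfl
      have e2 : ((g : GL ι F) : Matrix ι ι F) *ᵥ pvec e P b = iact g (pvec e P b) := rfl
      rw [e1, e2, gq, gfix, hz, M.zΨ] at h5
      have h6 : pvec e P b + qvec e P (w₀ + b) = pvec e P b + qvec e P 0 := by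
        rw [qvec_zero, add_zero]
        exact h5
      have h7 := (pq_inj e P _ _ _ _ h6).2
      have h8 : w₀ = b := by
        funext j
        have := congrFun h7 j
        simp only [Pi.add_apply, Pi.zero_apply] at this
        linear_combination this - (b j) * h2
      rw [h8, hba] at hwa
      exact one_ne_zero hwa

end tenso5

end Cfsg.Agent.helper13
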