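import Mathlib
import Cfsg.Agent.Lib_helper13_TensO5

/-! Over the field with two elements the stabiliser in `Ω` of a tensor decomposition with a
two-dimensional symplectic factor is not maximal. -/

set_option autoImplicit false

namespace Cfsg.Agent.helper13

open Module Matrix QuadraticMap
open scoped Kronecker

section tenso6
variable {F : Type*} [Field F] [Fintype F] {n₂ : ℕ}

theorem exists_abw (hq : Fintype.card F = 2) (h2' : 3 ≤ n₂)
    (f₂ : (Fin n₂ → F) → (Fin n₂ → F) → F) (hf₂ : Cfsg.Geo.IsSymplecticForm f₂) :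
    ∃ a b w₀ : Fin n₂ → F, f₂ a b = 1 ∧ w₀ ≠ 0 ∧ f₂ w₀ a = 0 ∧ f₂ w₀ b = 0 := by
  classical
  have hc2 := F2_cases hq
  have h2 := two_eq_zero_of_card hq
  have hneg : ∀ a : F, -a = a := fun a => by linear_combination (-a) * h2
  have ha : (Pi.single ⟨0, by omega⟩ 1 : Fin n₂ → F) ≠ 0 := by
    intro h
    have := congrFun h ⟨0, by omega⟩
    simp at this
  obtain ⟨-, b, hb⟩ := hf₂.nondegenerate _ ha
  set a : Fin n₂ → F := Pi.single ⟨0, by omega⟩ 1
  have hab : f₂ a b = 1 := (hc2 _).resolve_left hb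
  have hba : f₂ b a = 1 := by rw [hf₂.skew, hneg]; exact hab
  have hspan : (Submodule.span F (({a, b} : Finset (Fin n₂ → F)) : Set (Fin n₂ → F))) ≠ ⊤ := by
    intro h
    have h1 := finrank_span_finset_le_card ({a, b} : Finset (Fin n₂ → F)) (R := F)
    unfold Set.finrank at h1
    rw [h, finrank_top, Module.finrank_fin_fun] at h1
    have h3 : ({a, b} : Finset (Fin n₂ → F)).card ≤ 2 := Finset.card_le_two
    omega
  obtain ⟨c, hc⟩ : ∃ c : Fin n₂ → F,
      c ∉ Submodule.span F (({a, b} : Finset (Fin n₂ → F)) : Set (Fin n₂ → F)) := by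
    by_contra hcon
    push Not at hcon
    exact hspan (eq_top_iff.mpr fun c _ => hcon c)
  have hamem : a ∈ Submodule.span F (({a, b} : Finset (Fin n₂ → F)) : Set (Fin n₂ → F)) :=
    Submodule.subset_span (by simp)
  have hbmem : b ∈ Submodule.span F (({a, b} : Finset (Fin n₂ → F)) : Set (Fin n₂ → F)) :=
    Submodule.subset_span (by simp)
  refine ⟨a, b, c + (f₂ c b • a + f₂ c a • b), hab, ?_, ?_, ?_⟩
  · intro h0
    apply hc
    have : c = -(f₂ c b • a + f₂ c a • b) := eq_neg_of_add_eq_zero_left h0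
    rw [this]
    exact Submodule.neg_mem _ (Submodule.add_mem _ (Submodule.smul_mem _ _ hamem)
      (Submodule.smul_mem _ _ hbmem))
  · rw [hf₂.bilinear.add_left, hf₂.bilinear.add_left, hf₂.bilinear.smul_left,
      hf₂.bilinear.smul_left, hf₂.alternating, hba]
    linear_combination (f₂ c a) * h2
  · rw [hf₂.bilinear.add_left, hf₂.bilinear.add_left, hf₂.bilinear.smul_left,
      hf₂.bilinear.smul_left, hf₂.alternating, hab]
    linear_combination (f₂ c b) * h2

end tenso6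

section tenso6b
variable {F : Type*} [Field F] [Fintype F] {ι : Type} [Fintype ι] [DecidableEq ι]
variable (Q : QuadraticForm F (ι → F)) {n₂ : ℕ} (e : ι ≃ Fin 2 × Fin n₂) (P : GL ι F)

theorem tensorO2_not_max (hq : Fintype.card F = 2) (hQ : (polarBilin Q).Nondegenerate)
    (hcard : Fintype.card ι ≠ 4) (h2' : 3 ≤ n₂)
    (f₁ : (Fin 2 → F) → (Fin 2 → F) → F) (f₂ : (Fin n₂ → F) → (Fin n₂ → F) → F)
    (hf₁ : Cfsg.Geo.IsSymplecticForm f₁) (hf₂ : Cfsg.Geo.IsSymplecticForm f₂)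
    (hT : Cfsg.Geo.IsTensorFormStructure id (polar ⇑Q) f₁ f₂ e P)
    (hpure : ∀ (x₁ : Fin 2 → F) (x₂ : Fin n₂ → F), Q (Phi e P (ten x₁ x₂)) = 0) :
    ∃ K : Subgroup (GL ι F),
      Cfsg.Geo.tensorProductSubgroup 2 n₂ e P ⊓ Cfsg.Geo.omegaGL ⇑Q < K ∧
      K < Cfsg.Geo.omegaGL ⇑Q := by
  have M := o2Model_of Q e P hq f₁ f₂ hf₁ hf₂ hT hpure
  obtain ⟨a, b, w₀, hab, hw0, hwa, hwb⟩ := exists_abw hq h2' f₂ hf₂
  exact o2_not_max hq M hQ hcard a b w₀ hab hw0 hwa hwb

end tenso6b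

end Cfsg.Agent.helper13
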