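import Mathlib
import Cfsg.Agent.Lib_helper13_TensSp1

/-! The stabiliser in the symplectic group over the field with three elements of a tensor
decomposition with a three-dimensional orthogonal factor is not maximal. -/

set_option autoImplicit false

namespace Cfsg.Agent.helper13

open Module Matrix QuadraticMap
open scoped Kronecker
open Cfsg.Agent.helper4

section tenssp2
variable {F : Type*} [Field F] [Fintype F] {m n₁ : ℕ}
variable (e : (Fin m ⊕ Fin m) ≃ Fin n₁ × Fin 3) (P : GL (Fin m ⊕ Fin m) F)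

theorem tensorSp3_not_max (hq : Fintype.card F = 3) (hn1 : 0 < n₁)
    (f₁ : (Fin n₁ → F) → (Fin n₁ → F) → F) (f₂ : (Fin 3 → F) → (Fin 3 → F) → F)
    (hf₁ : Cfsg.Geo.IsSymplecticForm f₁) (hf₂ : Cfsg.Geo.IsSymmetricForm f₂)
    (hT : Cfsg.Geo.IsTensorFormStructure id (Cfsg.sympForm m F) f₁ f₂ e P) :
    ∃ K : Subgroup (GL (Fin m ⊕ Fin m) F),
      Cfsg.Geo.tensorProductSubgroup n₁ 3 e P ⊓ Cfsg.spGL m F < K ∧ K < Cfsg.spGL m F := by
  have hF := f3_cases hq
  have h3 := f3_three hq
  have h2 := f3_two hq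
  obtain ⟨c, hc, hT⟩ := hT
  have pol : ∀ u w u' w', Cfsg.sympForm m F (Phi e P (ten u w)) (Phi e P (ten u' w')) =
      c * (f₁ u u' * f₂ w w') := by
    intro u w u' w'
    have := hT (ten u w) (ten u' w')
    rw [formOfGram_ten f₁ f₂ hf₁.bilinear hf₂.bilinear] at this
    exact this
  obtain ⟨c₁, hc₁, fr, F1, F2, F3⟩ := exists_frame_f1 hq f₂ hf₂
  have hfr0 : ∀ i, fr i ≠ 0 := by
    intro i h0
    apply hc₁
    rw [← F1 i, h0]
    have := hf₂.bilinear.smul_left 0 (0 : Fin 3 → F) 0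
    rw [zero_smul, zero_mul] at this
    exact this
  have hu0 : (Pi.single ⟨0, hn1⟩ 1 : Fin n₁ → F) ≠ 0 := by
    intro h
    have := congrFun h ⟨0, hn1⟩
    simp at this
  obtain ⟨⟨u', hε⟩, -⟩ := hf₁.nondegenerate _ hu0
  set ua : Fin n₁ → F := Pi.single ⟨0, hn1⟩ 1 with hua
  set ε := f₁ u' ua with hεdef
  have hε' : f₁ ua u' = -ε := by rw [hf₁.skew]
  have hκ : c * (ε * c₁) ≠ 0 := mul_ne_zero hc (mul_ne_zero hε hc₁)
  have d01 : (0 : Fin 3) ≠ 1 := by decide
  set p := Phi e P (ten ua (fr 0)) with hp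
  set q := Phi e P (ten ua (fr 1)) with hq'
  set v := Phi e P (ten u' (fr 0)) with hv
  set y := Phi e P (ten u' (fr 1)) with hy
  have fvp : Cfsg.sympForm m F v p = c * (ε * c₁) := by rw [hv, hp, pol, F1]
  have hp0 : p ≠ 0 := by
    intro h0
    rw [h0] at fvp
    apply hκ
    rw [← fvp]
    simp [Cfsg.sympForm]
  have hiso_of : ∀ g : GL (Fin m ⊕ Fin m) F, g ∈ Cfsg.spGL m F →
      ∀ x y, Cfsg.sympForm m F (g.1 *ᵥ x) (g.1 *ᵥ y) = Cfsg.sympForm m F x y := fun g hg => hg
  refine ⟨setStab (tenSetR e P fr) ⊓ Cfsg.spGL m F, ?_, ?_⟩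
  · rw [SetLike.lt_iff_le_and_exists]
    refine ⟨?_, tvGL p 1, ⟨?_, tvGL_mem_spGL p 1⟩, ?_⟩
    · rintro g ⟨hgT, hgS⟩
      refine ⟨?_, hgS⟩
      intro x
      constructor
      · intro h
        have := tensor_isom_maps_right e P hq hn1 (Cfsg.sympForm m F) f₁ f₂ hf₁.nondegenerate
          hf₂ c hc pol c₁ fr F1 F3 g⁻¹ (hiso_of _ ((Cfsg.spGL m F).inv_mem hgS))
          ((Cfsg.Geo.tensorProductSubgroup n₁ 3 e P).inv_mem hgT) _ h
        rwa [Matrix.mulVec_mulVec, ← Units.val_mul, inv_mul_cancel, Units.val_one,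
          Matrix.one_mulVec] at this
      · exact tensor_isom_maps_right e P hq hn1 (Cfsg.sympForm m F) f₁ f₂ hf₁.nondegenerate
          hf₂ c hc pol c₁ fr F1 F3 g (hiso_of _ hgS) hgT x
    · have key : ∀ c' : F, ∀ x ∈ tenSetR e P fr, (tvGL p c').1 *ᵥ x ∈ tenSetR e P fr := by
        rintro c' x ⟨j, u, rfl⟩
        rw [tvGL_mulVec]
        by_cases hj : j = 0
        · subst hj
          refine ⟨0, u + (c' * Cfsg.sympForm m F (Phi e P (ten u (fr 0))) p) • ua, ?_⟩
          rw [ten_add_left, ten_smul_left, Phi_add, Phi_smul]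
        · refine ⟨j, u, ?_⟩
          rw [hp, pol, F2 j 0 hj, mul_zero, mul_zero, mul_zero, zero_smul, add_zero]
      intro x
      constructor
      · intro h
        have := key (-1) _ h
        rw [← tvGL_inv] at this
        rwa [Matrix.mulVec_mulVec, ← Units.val_mul, inv_mul_cancel, Units.val_one,
          Matrix.one_mulVec] at this
      · exact key 1 x
    · rintro ⟨hmem, -⟩
      obtain ⟨A, B, hAB⟩ := tensor_act e P _ hmem
      have hact : ∀ u w, (tvGL p 1).1 *ᵥ (Phi e P (ten u w)) =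
          Phi e P (ten (A.1 *ᵥ u) (B.1 *ᵥ w)) := by
        intro u w
        rw [hAB, kron_mulVec_ten]
      have hfix : ∀ u, (tvGL p 1).1 *ᵥ (Phi e P (ten u (fr 1))) = Phi e P (ten u (fr 1)) := by
        intro u
        rw [tvGL_mulVec, hp, pol, F2 1 0 d01.symm, mul_zero, mul_zero, mul_zero, zero_smul,
          add_zero]
      obtain ⟨μ, hμ⟩ := scalar_of_ten_eq_left (fr 1) (B.1 *ᵥ fr 1) (hfr0 1) A.1 (by
        intro u
        apply Phi_injective e P
        rw [← hact, hfix])
      have hp1 : (tvGL p 1).1 *ᵥ p = p := by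
        rw [tvGL_mulVec, sympForm_self, mul_zero, zero_smul, add_zero]
      have hv1 : (tvGL p 1).1 *ᵥ v = v + (c * (ε * c₁)) • p := by
        rw [tvGL_mulVec, fvp, one_mul]
      have hp2 : Phi e P (ten ua (μ • (B.1 *ᵥ fr 0))) = Phi e P (ten ua (fr 0)) := by
        rw [ten_smul_right, ← ten_smul_left, ← hμ, ← hact]
        exact hp1
      have e1 := ten_left_cancel _ _ _ hu0 (Phi_injective e P hp2)
      have hv2 : Phi e P (ten u' (μ • (B.1 *ᵥ fr 0))) = v + (c * (ε * c₁)) • p := by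
        rw [ten_smul_right, ← ten_smul_left, ← hμ, ← hact]
        exact hv1
      rw [e1] at hv2
      have h5 : (c * (ε * c₁)) • p = 0 := by
        have : v = v + (c * (ε * c₁)) • p := hv2
        exact (left_eq_add.mp this)
      rcases smul_eq_zero.mp h5 with h | h
      · exact hκ h
      · exact hp0 h
  · rw [SetLike.lt_iff_le_and_exists]
    refine ⟨inf_le_right, tvGL (p + q) 1, tvGL_mem_spGL _ _, ?_⟩
    rintro ⟨hmem, -⟩
    have hv0 : v ∈ tenSetR e P fr := ⟨0, u', rfl⟩
    have := (hmem v).mpr hv0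
    rw [tvGL_mulVec] at this
    obtain ⟨j, u, hju⟩ := this
    have fvq : Cfsg.sympForm m F v q = 0 := by
      rw [hv, hq', pol, F2 0 1 d01, mul_zero, mul_zero]
    have fpq : Cfsg.sympForm m F v (p + q) = c * (ε * c₁) := by
      rw [sympForm_add_right, fvp, fvq, add_zero]
    rw [fpq, one_mul] at hju
    by_cases hj : j = 0
    · subst hj
      have h8 : Cfsg.sympForm m F (v + (c * (ε * c₁)) • (p + q)) y =
          Cfsg.sympForm m F (Phi e P (ten u (fr 0))) y := by rw [hju]
      rw [sympForm_add_left, sympForm_smul_left, sympForm_add_left] at h8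
      have fvy : Cfsg.sympForm m F v y = 0 := by
        rw [hv, hy, pol, F2 0 1 d01, mul_zero, mul_zero]
      have fpy : Cfsg.sympForm m F p y = 0 := by
        rw [hp, hy, pol, F2 0 1 d01, mul_zero, mul_zero]
      have fqy : Cfsg.sympForm m F q y = -(c * (ε * c₁)) := by
        rw [hq', hy, pol, F1, hε']
        ring
      have fuy : Cfsg.sympForm m F (Phi e P (ten u (fr 0))) y = 0 := by
        rw [hy, pol, F2 0 1 d01, mul_zero, mul_zero]
      rw [fvy, fpy, fqy, fuy, zero_add, zero_add] at h8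
      have : (c * (ε * c₁)) * (c * (ε * c₁)) = 0 := by linear_combination -h8
      exact mul_ne_zero hκ hκ this
    · have h8 : Cfsg.sympForm m F (v + (c * (ε * c₁)) • (p + q)) p =
          Cfsg.sympForm m F (Phi e P (ten u (fr j))) p := by rw [hju]
      rw [sympForm_add_left, sympForm_smul_left, sympForm_add_left, sympForm_self] at h8
      have fqp : Cfsg.sympForm m F q p = 0 := by
        rw [hq', hp, pol, F2 1 0 d01.symm, mul_zero, mul_zero]
      have fup : Cfsg.sympForm m F (Phi e P (ten u (fr j))) p = 0 := by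
        rw [hp, pol, F2 j 0 hj, mul_zero, mul_zero]
      rw [fvp, fqp, fup, add_zero, mul_zero, add_zero] at h8
      exact hκ h8

end tenssp2

end Cfsg.Agent.helper13
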