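import Mathlib
import Cfsg.Agent.Lib_helper13_TensSp1
import Cfsg.Agent.Lib_helper29_UForm
import Cfsg.Agent.Lib_helper29_UnitA

/-! Unitary forms in coordinates, the value of a tensor product of unitary forms on pure tensors,
and canonical frames of the two-dimensional unitary space over the field with four elements. -/

set_option autoImplicit false

namespace Cfsg.Agent.helper13

open Module Matrix
open scoped Kronecker
open Cfsg.Agent.helper29

section tensu1
variable {F : Type*} [Field F] [Fintype F] {q n : ℕ}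

theorem hermF_of (f : (Fin n → F) → (Fin n → F) → F) (hf : Cfsg.Geo.IsUnitaryFormPow q f) :
    HermF q f := ⟨hf.add_left, hf.smul_left, hf.herm⟩

theorem gramU_apply (f : (Fin n → F) → (Fin n → F) → F) (h : HermF q f)
    (hF : Fintype.card F = q ^ 2) (u v : Fin n → F) :
    f u v = ∑ a, ∑ b, u a * Cfsg.Geo.gramMatrix f a b * (v b) ^ q := by
  have hu : u = ∑ a, u a • (Pi.single a (1 : F) : Fin n → F) := by
    ext i
    simp [Finset.sum_apply, Pi.single_apply]
  have hv : v = ∑ b, v b • (Pi.single b (1 : F) : Fin n → F) := by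
    ext i
    simp [Finset.sum_apply, Pi.single_apply]
  conv_lhs => rw [hu, hv]
  rw [h.sum_left]
  refine Finset.sum_congr rfl fun a _ => ?_
  rw [h.sum_right hF, Finset.mul_sum]
  refine Finset.sum_congr rfl fun b _ => ?_
  unfold Cfsg.Geo.gramMatrix
  ring

end tensu1

section tensu1b
variable {F : Type*} [Field F] [Fintype F] {q n₁ n₂ : ℕ}

theorem formOfGram_tenU (f₁ : (Fin n₁ → F) → (Fin n₁ → F) → F)
    (f₂ : (Fin n₂ → F) → (Fin n₂ → F) → F) (h₁ : HermF q f₁) (h₂ : HermF q f₂)
    (hF : Fintype.card F = q ^ 2) (u u' : Fin n₁ → F) (w w' : Fin n₂ → F) :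
    Cfsg.Geo.formOfGram (fun x : F => x ^ q)
      (Cfsg.Geo.gramMatrix f₁ ⊗ₖ Cfsg.Geo.gramMatrix f₂) (ten u w) (ten u' w') =
      f₁ u u' * f₂ w w' := by
  rw [gramU_apply f₁ h₁ hF, gramU_apply f₂ h₂ hF]
  unfold Cfsg.Geo.formOfGram
  simp only [Fintype.sum_prod_type, ten, Matrix.kroneckerMap_apply, mul_pow]
  rw [Finset.sum_mul_sum]
  refine Finset.sum_congr rfl fun a _ => ?_
  refine Finset.sum_congr rfl fun a' _ => ?_
  rw [Finset.sum_mul_sum]
  refine Finset.sum_congr rfl fun b _ => Finset.sum_congr rfl fun b' _ => ?_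
  ring

end tensu1b

section tensu1c
variable {F : Type*} [Field F] [Fintype F]

theorem f4_two (hF : Fintype.card F = 4) : (2 : F) = 0 := by
  have h := Nat.cast_card_eq_zero F
  rw [hF] at h
  have h4 : (2 : F) * 2 = 0 := by
    have : ((4 : ℕ) : F) = 2 * 2 := by norm_num
    rw [← this]
    exact h
  exact mul_self_eq_zero.mp h4

theorem f4_cube (hF : Fintype.card F = 4) (x : F) (hx : x ≠ 0) : x ^ 3 = 1 := by
  have h := FiniteField.pow_card_sub_one_eq_one x hx
  rw [hF] at h
  exact h

/-- an orthonormal family is linearly independent -/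
theorem orthonormal_linindep {n k : ℕ} (f : (Fin n → F) → (Fin n → F) → F) {q : ℕ}
    (h : HermF q f) (b : Fin k → (Fin n → F))
    (hb : ∀ i j, f (b i) (b j) = if i = j then 1 else 0) : LinearIndependent F b := by
  rw [Fintype.linearIndependent_iff]
  intro g hg j
  have : f (∑ i, g i • b i) (b j) = f 0 (b j) := by rw [hg]
  rw [h.sum_left, h.zero_left] at this
  simp only [hb] at this
  simpa using this

/-- the canonical frame of a unitary form in dimension two over the field with four elements -/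
theorem exists_frame_u2 (hF : Fintype.card F = 4) (f₁ : (Fin 2 → F) → (Fin 2 → F) → F)
    (hf₁ : Cfsg.Geo.IsUnitaryFormPow 2 f₁) :
    ∃ fr : Fin 2 → (Fin 2 → F), (∀ i, f₁ (fr i) (fr i) = 1) ∧
      (∀ i j, i ≠ j → f₁ (fr i) (fr j) = 0) ∧
      ∀ v, f₁ v v = 1 → ∃ j, ∃ s : F, v = s • fr j := by
  have hF' : Fintype.card F = 2 ^ 2 := by rw [hF]; norm_num
  have h₁ := hermF_of f₁ hf₁
  have h2 := f4_two hF
  obtain ⟨b, -, hb⟩ := h₁.exists_orthonormal hF' 2 ⊤
    (by rw [finrank_top, Module.finrank_fin_fun]) (by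
      intro u _ hu
      by_contra hu0
      obtain ⟨-, x, hx⟩ := hf₁.nondegenerate u hu0
      exact hx (hu x trivial))
  have hli := orthonormal_linindep f₁ h₁ b hb
  let B := basisOfLinearIndependentOfCardEqFinrank hli
    (by rw [Module.finrank_fin_fun, Fintype.card_fin])
  have hB : ∀ i, B i = b i := fun i => by
    simp [B]
  refine ⟨b, fun i => by rw [hb, if_pos rfl], fun i j hij => by rw [hb, if_neg hij], ?_⟩
  intro v hv
  have hrep := B.sum_repr v
  rw [Fin.sum_univ_two, hB, hB] at hrep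
  set x := B.repr v 0
  set y := B.repr v 1
  have hval : f₁ v v = x * x ^ 2 + y * y ^ 2 := by
    rw [← hrep, h₁.add_left, h₁.add_right hF', h₁.add_right hF', h₁.smul_left, h₁.smul_left,
      h₁.smul_left, h₁.smul_left, h₁.smul_right, h₁.smul_right, h₁.smul_right, h₁.smul_right,
      hb, hb, hb, hb]
    simp
  rw [hv] at hval
  by_cases hx : x = 0
  · refine ⟨1, y, ?_⟩
    rw [← hrep, hx, zero_smul, zero_add]
  · by_cases hy : y = 0
    · refine ⟨0, x, ?_⟩
      rw [← hrep, hy, zero_smul, add_zero]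
    · exfalso
      have hx3 := f4_cube hF x hx
      have hy3 := f4_cube hF y hy
      have : (1 : F) = 0 := by linear_combination hval + hx3 + hy3 + h2
      exact one_ne_zero this

/-- an isotropic vector and a partner for a unitary form in dimension at least two -/
theorem exists_iso_pair_u (hF : Fintype.card F = 4) {n₂ : ℕ} (hn : 2 ≤ n₂)
    (f₂ : (Fin n₂ → F) → (Fin n₂ → F) → F) (hf₂ : Cfsg.Geo.IsUnitaryFormPow 2 f₂) :
    ∃ wa w' : Fin n₂ → F, f₂ wa wa = 0 ∧ f₂ w' wa ≠ 0 := by
  have hF' : Fintype.card F = 2 ^ 2 := by rw [hF]; norm_num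
  have h₂ := hermF_of f₂ hf₂
  have h2 := f4_two hF
  obtain ⟨b, -, hb⟩ := h₂.exists_orthonormal hF' n₂ ⊤
    (by rw [finrank_top, Module.finrank_fin_fun]) (by
      intro u _ hu
      by_contra hu0
      obtain ⟨-, x, hx⟩ := hf₂.nondegenerate u hu0
      exact hx (hu x trivial))
  have d01 : (⟨0, by omega⟩ : Fin n₂) ≠ ⟨1, by omega⟩ := by simp [Fin.ext_iff]
  refine ⟨b ⟨0, by omega⟩ + b ⟨1, by omega⟩, b ⟨0, by omega⟩, ?_, ?_⟩
  · rw [h₂.add_left, h₂.add_right hF', h₂.add_right hF', hb, hb, hb, hb, if_pos rfl, if_pos rfl,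
      if_neg d01, if_neg d01.symm]
    linear_combination h2
  · rw [h₂.add_right hF', hb, hb, if_pos rfl, if_neg d01, add_zero]
    exact one_ne_zero

end tensu1c

end Cfsg.Agent.helper13
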