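import Mathlib
import Cfsg.Agent.Lib_helper13_TensU1

/-! The stabiliser in the special unitary group over the field with four elements of a tensor
decomposition with a two-dimensional unitary factor is not maximal. -/

set_option autoImplicit false

namespace Cfsg.Agent.helper13

open Module Matrix
open scoped Kronecker
open Cfsg.Agent.helper29 Cfsg.Agent.helper11.Unitary

section tensu2a
variable {F : Type*} [Field F] {ι : Type} [Fintype ι] [DecidableEq ι] {n₁ n₂ : ℕ}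
variable (e : ι ≃ Fin n₁ × Fin n₂) (P : GL ι F)

/-- an isometry in the stabiliser of the tensor decomposition acts as the tensor product of a
similarity of the first factor and a matrix -/
theorem tensor_sim_left (f : (ι → F) → (ι → F) → F) (hn1 : 0 < n₁) (hn2 : 0 < n₂)
    (f₁ : (Fin n₁ → F) → (Fin n₁ → F) → F) (f₂ : (Fin n₂ → F) → (Fin n₂ → F) → F)
    (hnd₁ : Cfsg.Geo.IsNondegenerateForm f₁) (hnd₂ : Cfsg.Geo.IsNondegenerateForm f₂)
    (c : F) (hc : c ≠ 0)
    (pol : ∀ u w u' w', f (Phi e P (ten u w)) (Phi e P (ten u' w')) = c * (f₁ u u' * f₂ w w'))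
    (g : GL ι F) (hiso : ∀ x y, f (g.1 *ᵥ x) (g.1 *ᵥ y) = f x y)
    (hg : g ∈ Cfsg.Geo.tensorProductSubgroup n₁ n₂ e P) :
    ∃ (A : Matrix (Fin n₁) (Fin n₁) F) (B : Matrix (Fin n₂) (Fin n₂) F) (lam : F), lam ≠ 0 ∧
      (∀ u w, g.1 *ᵥ (Phi e P (ten u w)) = Phi e P (ten (A *ᵥ u) (B *ᵥ w))) ∧
      ∀ u u', f₁ (A *ᵥ u) (A *ᵥ u') = lam * f₁ u u' := by
  obtain ⟨A, B, hAB⟩ := tensor_act e P _ hg
  have hact : ∀ u w, g.1 *ᵥ (Phi e P (ten u w)) = Phi e P (ten (A.1 *ᵥ u) (B.1 *ᵥ w)) := by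
    intro u w
    rw [hAB, kron_mulVec_ten]
  have hprod : ∀ u u' w w', f₁ (A.1 *ᵥ u) (A.1 *ᵥ u') * f₂ (B.1 *ᵥ w) (B.1 *ᵥ w') =
      f₁ u u' * f₂ w w' := by
    intro u u' w w'
    have h := hiso (Phi e P (ten u w)) (Phi e P (ten u' w'))
    rw [hact, hact, pol, pol] at h
    exact mul_left_cancel₀ hc h
  have hu0 : (Pi.single ⟨0, hn1⟩ 1 : Fin n₁ → F) ≠ 0 := by
    intro h
    have := congrFun h ⟨0, hn1⟩
    simp at this
  have hw0 : (Pi.single ⟨0, hn2⟩ 1 : Fin n₂ → F) ≠ 0 := by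
    intro h
    have := congrFun h ⟨0, hn2⟩
    simp at this
  obtain ⟨-, u₀', hu₀⟩ := hnd₁ _ hu0
  obtain ⟨-, w₀', hw₀⟩ := hnd₂ _ hw0
  set u₀ : Fin n₁ → F := Pi.single ⟨0, hn1⟩ 1
  set w₀ : Fin n₂ → F := Pi.single ⟨0, hn2⟩ 1
  have hβ : f₂ (B.1 *ᵥ w₀) (B.1 *ᵥ w₀') ≠ 0 := by
    intro h0
    have := hprod u₀ u₀' w₀ w₀'
    rw [h0, mul_zero] at this
    exact mul_ne_zero hu₀ hw₀ this.symm
  refine ⟨A.1, B.1, f₂ w₀ w₀' * (f₂ (B.1 *ᵥ w₀) (B.1 *ᵥ w₀'))⁻¹,
    mul_ne_zero hw₀ (inv_ne_zero hβ), hact, fun u u' => ?_⟩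
  have := hprod u u' w₀ w₀'
  field_simp
  linear_combination this

end tensu2a

section tensu2b
variable {F : Type*} [Field F] [Fintype F] {n n₂ : ℕ}
variable (e : Fin n ≃ Fin 2 × Fin n₂) (P : GL (Fin n) F)

local notation "hf" => Cfsg.hermForm n F 2

theorem tensorU2_not_max (hF : Fintype.card F = 4) (hn2 : 2 ≤ n₂)
    (f₁ : (Fin 2 → F) → (Fin 2 → F) → F) (f₂ : (Fin n₂ → F) → (Fin n₂ → F) → F)
    (hf₁ : Cfsg.Geo.IsUnitaryFormPow 2 f₁) (hf₂ : Cfsg.Geo.IsUnitaryFormPow 2 f₂)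
    (hT : Cfsg.Geo.IsTensorFormStructure (fun x : F => x ^ 2) (Cfsg.hermForm n F 2) f₁ f₂ e P) :
    ∃ K : Subgroup (GL (Fin n) F),
      Cfsg.Geo.tensorProductSubgroup 2 n₂ e P ⊓
        (Cfsg.GU n F 2 ⊓ Cfsg.Geo.specialLinear (Fin n) F) < K ∧
      K < Cfsg.GU n F 2 ⊓ Cfsg.Geo.specialLinear (Fin n) F := by
  have hF' : Fintype.card F = 2 ^ 2 := by rw [hF]; norm_num
  have h2 := f4_two hF
  have hone : (1 : F) ^ 2 = -1 := by linear_combination h2
  obtain ⟨c, hc, hT⟩ := hT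
  have h₁ := hermF_of f₁ hf₁
  have h₂ := hermF_of f₂ hf₂
  have pol : ∀ u w u' w', hf (Phi e P (ten u w)) (Phi e P (ten u' w')) =
      c * (f₁ u u' * f₂ w w') := by
    intro u w u' w'
    have := hT (ten u w) (ten u' w')
    rw [formOfGram_tenU f₁ f₂ h₁ h₂ hF'] at this
    exact this
  obtain ⟨fr, F1, F2, F3⟩ := exists_frame_u2 hF f₁ hf₁
  obtain ⟨wa, w', hwa, hε⟩ := exists_iso_pair_u hF hn2 f₂ hf₂
  have hε' : f₂ wa w' ≠ 0 := by
    rw [h₂.herm]
    exact pow_ne_zero 2 hε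
  have hwa0 : wa ≠ 0 := by
    intro h0
    apply hε'
    rw [h0, h₂.zero_left]
  have hfr0 : ∀ i, fr i ≠ 0 := by
    intro i h0
    have := F1 i
    rw [h0, h₁.zero_left] at this
    exact zero_ne_one this
  have d01 : (0 : Fin 2) ≠ 1 := by decide
  set p := Phi e P (ten (fr 0) wa) with hp
  set q := Phi e P (ten (fr 1) wa) with hq'
  set v := Phi e P (ten (fr 0) w') with hv
  set y := Phi e P (ten (fr 1) w') with hy
  have hpp : hf p p = 0 := by rw [hp, pol, hwa, mul_zero, mul_zero]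
  have hqq : hf q q = 0 := by rw [hq', pol, hwa, mul_zero, mul_zero]
  have hpq : hf p q = 0 := by rw [hp, hq', pol, F2 0 1 d01, zero_mul, mul_zero]
  have hqp : hf q p = 0 := by rw [hp, hq', pol, F2 1 0 d01.symm, zero_mul, mul_zero]
  have fvp : hf v p = c * f₂ w' wa := by rw [hv, hp, pol, F1, one_mul]
  have hκ : c * f₂ w' wa ≠ 0 := mul_ne_zero hc hε
  have hp0 : p ≠ 0 := by
    intro h0
    rw [h0, herm_zero_right hF'] at fvp
    exact hκ fvp.symm
  -- a transvection is an involution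
  have hinvol : ∀ (a : Fin n → F) (ha : hf a a = 0) (x : Fin n → F),
      (TTu 2 a 1 : GL (Fin n) F).1 *ᵥ ((TTu 2 a 1 : GL (Fin n) F).1 *ᵥ x) = x := by
    intro a ha x
    rw [TTu_mulVec a 1 ha, TTu_mulVec a 1 ha, herm_add_left, herm_smul_left, ha, mul_zero,
      add_zero, one_mul, add_assoc, ← add_smul]
    have : hf x a + hf x a = 0 := by linear_combination (hf x a) * h2
    rw [this, zero_smul, add_zero]
  refine ⟨setStab (tenSet e P fr) ⊓ (Cfsg.GU n F 2 ⊓ Cfsg.Geo.specialLinear (Fin n) F), ?_, ?_⟩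
  · rw [SetLike.lt_iff_le_and_exists]
    refine ⟨?_, TTu 2 p 1, ⟨?_, TTu_mem_SUG hF' p 1 hpp hone⟩, ?_⟩
    · rintro g ⟨hgT, hgS⟩
      refine ⟨?_, hgS⟩
      have maps : ∀ g : GL (Fin n) F, g ∈ Cfsg.Geo.tensorProductSubgroup 2 n₂ e P →
          g ∈ Cfsg.GU n F 2 → ∀ x ∈ tenSet e P fr, g.1 *ᵥ x ∈ tenSet e P fr := by
        intro g hgT hgU x hx
        obtain ⟨A, B, lam, hlam, hact, hsim⟩ := tensor_sim_left e P (Cfsg.hermForm n F 2)
          (by norm_num) (by omega) f₁ f₂ hf₁.nondegenerate hf₂.nondegenerate c hc pol g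
          (fun x y => hgU x y) hgT
        have h1 : lam = 1 := by
          have h5 := hsim (fr 0) (fr 0)
          rw [F1, mul_one] at h5
          have h6 := h₁.self_pow (A *ᵥ fr 0)
          rw [h5] at h6
          have : lam * (lam - 1) = 0 := by linear_combination h6
          rcases mul_eq_zero.mp this with h | h
          · exact absurd h hlam
          · exact sub_eq_zero.mp h
        obtain ⟨i, w, rfl⟩ := hx
        obtain ⟨j, s, hj⟩ := F3 (A *ᵥ fr i) (by rw [hsim, h1, one_mul, F1])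
        refine ⟨j, s • (B *ᵥ w), ?_⟩
        rw [hact, hj, ten_smul_left, ten_smul_right]
      intro x
      constructor
      · intro h
        have := maps g⁻¹ ((Cfsg.Geo.tensorProductSubgroup 2 n₂ e P).inv_mem hgT)
          ((Cfsg.GU n F 2).inv_mem hgS.1) _ h
        rwa [Matrix.mulVec_mulVec, ← Units.val_mul, inv_mul_cancel, Units.val_one,
          Matrix.one_mulVec] at this
      · exact maps g hgT hgS.1 x
    · have key : ∀ x ∈ tenSet e P fr, (TTu 2 p 1 : GL (Fin n) F).1 *ᵥ x ∈ tenSet e P fr := by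
        rintro x ⟨j, w, rfl⟩
        rw [TTu_mulVec p 1 hpp]
        by_cases hj : j = 0
        · subst hj
          refine ⟨0, w + (1 * hf (Phi e P (ten (fr 0) w)) p) • wa, ?_⟩
          rw [ten_add_right, ten_smul_right, Phi_add, Phi_smul]
        · refine ⟨j, w, ?_⟩
          rw [hp, pol, F2 j 0 hj, zero_mul, mul_zero, mul_zero, zero_smul, add_zero]
      intro x
      constructor
      · intro h
        have := key _ h
        rwa [hinvol p hpp] at this
      · exact key x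
    · rintro ⟨hmem, -⟩
      obtain ⟨A, B, hAB⟩ := tensor_act e P _ hmem
      have hact : ∀ u w, (TTu 2 p 1 : GL (Fin n) F).1 *ᵥ (Phi e P (ten u w)) =
          Phi e P (ten (A.1 *ᵥ u) (B.1 *ᵥ w)) := by
        intro u w
        rw [hAB, kron_mulVec_ten]
      have hfix : ∀ w, (TTu 2 p 1 : GL (Fin n) F).1 *ᵥ (Phi e P (ten (fr 1) w)) =
          Phi e P (ten (fr 1) w) := by
        intro w
        rw [TTu_mulVec p 1 hpp, hp, pol, F2 1 0 d01.symm, zero_mul, mul_zero, mul_zero,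
          zero_smul, add_zero]
      obtain ⟨μ, hμ⟩ := scalar_of_ten_eq (fr 1) (A.1 *ᵥ fr 1) (hfr0 1) B.1 (by
        intro w
        apply Phi_injective e P
        rw [← hact, hfix])
      have hp1 : (TTu 2 p 1 : GL (Fin n) F).1 *ᵥ p = p := by
        rw [TTu_mulVec p 1 hpp, hpp, mul_zero, zero_smul, add_zero]
      have hv1 : (TTu 2 p 1 : GL (Fin n) F).1 *ᵥ v = v + (c * f₂ w' wa) • p := by
        rw [TTu_mulVec p 1 hpp, fvp, one_mul]
      have hp2 : Phi e P (ten (μ • (A.1 *ᵥ fr 0)) wa) = Phi e P (ten (fr 0) wa) := by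
        rw [ten_smul_left, ← ten_smul_right, ← hμ, ← hact]
        exact hp1
      have e1 := ten_right_cancel _ _ wa hwa0 (Phi_injective e P hp2)
      have hv2 : Phi e P (ten (μ • (A.1 *ᵥ fr 0)) w') = v + (c * f₂ w' wa) • p := by
        rw [ten_smul_left, ← ten_smul_right, ← hμ, ← hact]
        exact hv1
      rw [e1] at hv2
      have h5 : (c * f₂ w' wa) • p = 0 := by
        have : v = v + (c * f₂ w' wa) • p := hv2
        exact (left_eq_add.mp this)
      rcases smul_eq_zero.mp h5 with h | h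
      · exact hκ h
      · exact hp0 h
  · rw [SetLike.lt_iff_le_and_exists]
    have hpq0 : hf (p + q) (p + q) = 0 := by
      rw [herm_add_left, herm_add_right hF', herm_add_right hF', hpp, hqq, hpq, hqp]
      ring
    refine ⟨inf_le_right, TTu 2 (p + q) 1, TTu_mem_SUG hF' (p + q) 1 hpq0 hone, ?_⟩
    rintro ⟨hmem, -⟩
    have hv0 : v ∈ tenSet e P fr := ⟨0, w', rfl⟩
    have := (hmem v).mpr hv0
    rw [TTu_mulVec (p + q) 1 hpq0] at this
    obtain ⟨j, w, hjw⟩ := this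
    have fvq : hf v q = 0 := by
      rw [hv, hq', pol, F2 0 1 d01, zero_mul, mul_zero]
    have fvpq : hf v (p + q) = c * f₂ w' wa := by
      rw [herm_add_right hF', fvp, fvq, add_zero]
    rw [fvpq, one_mul] at hjw
    by_cases hj : j = 0
    · subst hj
      have h8 : hf (v + (c * f₂ w' wa) • (p + q)) y = hf (Phi e P (ten (fr 0) w)) y := by
        rw [hjw]
      rw [herm_add_left, herm_smul_left, herm_add_left] at h8
      have fvy : hf v y = 0 := by
        rw [hv, hy, pol, F2 0 1 d01, zero_mul, mul_zero]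
      have fpy : hf p y = 0 := by
        rw [hp, hy, pol, F2 0 1 d01, zero_mul, mul_zero]
      have fqy : hf q y = c * f₂ wa w' := by
        rw [hq', hy, pol, F1, one_mul]
      have fuy : hf (Phi e P (ten (fr 0) w)) y = 0 := by
        rw [hy, pol, F2 0 1 d01, zero_mul, mul_zero]
      rw [fvy, fpy, fqy, fuy, zero_add, zero_add] at h8
      exact mul_ne_zero hκ (mul_ne_zero hc hε') h8
    · have h8 : hf (v + (c * f₂ w' wa) • (p + q)) p = hf (Phi e P (ten (fr j) w)) p := by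
        rw [hjw]
      rw [herm_add_left, herm_smul_left, herm_add_left, hpp, hqp] at h8
      have fup : hf (Phi e P (ten (fr j) w)) p = 0 := by
        rw [hp, pol, F2 j 0 hj, zero_mul, mul_zero]
      rw [fvp, fup, add_zero, mul_zero, add_zero] at h8
      exact hκ h8

end tensu2b

end Cfsg.Agent.helper13
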