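import Mathlib
import Cfsg.Agent.S2620
import Cfsg.Agent.S2621
import Cfsg.Agent.Lib_helper13_QStd
import Cfsg.Agent.Lib_helper13_InvCls
import Cfsg.Agent.Lib_helper13_MaxTS2
import Cfsg.Agent.Lib_helper13_GUOrth
import Cfsg.Agent.Lib_helper13_OrthG
import Cfsg.Agent.Lib_helper13_ReflE

set_option autoImplicit false

namespace Cfsg.Agent.helper13

open Module QuadraticMap Matrix

section ttA
variable {F V : Type*} [Field F] [Fintype F] [AddCommGroup V] [Module F V]
  [FiniteDimensional F V]

/-- a nondegenerate quadratic space of dimension `2K` over a finite field of odd order has a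
totally singular subspace of dimension `K` iff its discriminant is in the class of `(-1)^K`. -/
theorem mts_iff_disc (hq : Odd (Fintype.card F)) {K : ℕ} (hK : 1 ≤ K)
    (hV : finrank F V = 2 * K) (Q : QuadraticForm F V) (hQ : (polarBilin Q).Nondegenerate)
    {ι : Type*} [Fintype ι] [DecidableEq ι] (b : Basis ι F V) :
    (∃ X : Submodule F V, MTS Q K X) ↔
      (IsSquare (Matrix.of fun i j : ι => polar (⇑Q) (b i) (b j)).det ↔
        Even (K * (Fintype.card F - 1) / 2)) := by
  classical
  rcases classify_even hK hV Q hQ with ⟨g, hg⟩ | ⟨ζ, hζ, g, hg⟩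
  · have hpol : ∀ x y, polar (Cfsg.quadFormPlus K F) (g x) (g y) = polar (⇑Q) x y := by
      intro x y
      unfold polar
      rw [← map_add, ← hg, ← hg, ← hg]
    have hmat : (Matrix.of fun i j : ι =>
        polar (Cfsg.quadFormPlus K F) ((b.map g) i) ((b.map g) j)) =
        Matrix.of fun i j : ι => polar (⇑Q) (b i) (b j) := by
      ext i j
      simp only [Matrix.of_apply, Basis.map_apply]
      exact hpol _ _
    have h1 := Cfsg.Agent.S2620.result (F := F) rfl hq hK (b.map g)
    rw [hmat] at h1
    constructor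
    · intro _
      exact h1
    · intro _
      refine ⟨(LinearMap.range (inlMap F K)).map g.symm.toLinearMap, ?_, ?_⟩
      · intro x hx
        obtain ⟨y, hy, rfl⟩ := hx
        show Q (g.symm y) = 0
        rw [hg, LinearEquiv.apply_symm_apply, ← QPlus_apply]
        exact (stdU_mts F K).ts y hy
      · rw [LinearEquiv.finrank_map_eq]
        exact (stdU_mts F K).rk
  · have hcd := aniso_of_irr ζ hζ
    have hpol : ∀ x y, polar (Cfsg.quadFormMinus (K - 1) F 1 ζ) (g x) (g y) = polar (⇑Q) x y := by
      intro x y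
      unfold polar
      rw [← map_add, ← hg, ← hg, ← hg]
    have hmat : (Matrix.of fun i j : ι =>
        polar (Cfsg.quadFormMinus (K - 1) F 1 ζ) ((b.map g) i) ((b.map g) j)) =
        Matrix.of fun i j : ι => polar (⇑Q) (b i) (b j) := by
      ext i j
      simp only [Matrix.of_apply, Basis.map_apply]
      exact hpol _ _
    have h1 := Cfsg.Agent.S2621.result (F := F) rfl hq hK 1 ζ hcd (b.map g)
    rw [hmat] at h1
    constructor
    · rintro ⟨X, hX⟩
      exfalso
      have hU : MTS (QMinus F (K - 1) 1 ζ) (K - 1 + 1) (X.map g.toLinearMap) := by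
        constructor
        · intro w hw
          obtain ⟨x, hx, rfl⟩ := hw
          show QMinus F (K - 1) 1 ζ (g x) = 0
          rw [QMinus_apply, ← hg]
          exact hX.ts x hx
        · rw [LinearEquiv.finrank_map_eq, hX.rk]
          omega
      exact not_mts_minus (K - 1) 1 ζ hcd
        (QMinus_nondeg (K - 1) 1 ζ (disc_ne_zero_of_aniso 1 ζ hcd)) _ hU
    · intro h2
      exfalso
      by_cases he : Even (K * (Fintype.card F - 1) / 2)
      · exact (h1.mp (h2.mpr he)) he
      · exact he (h2.mp (h1.mpr he))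

/-- the same for symmetric bilinear forms. -/
theorem ti_iff_disc (h2 : (2 : F) ≠ 0) (B : LinearMap.BilinForm F V) (hB : B.Nondegenerate)
    (hS : B.IsSymm) {K : ℕ} (hK : 1 ≤ K) (hV : finrank F V = 2 * K)
    {ι : Type*} [Fintype ι] [DecidableEq ι] (b : Basis ι F V) :
    (∃ X : Submodule F V, finrank F X = K ∧ ∀ x ∈ X, ∀ y ∈ X, B x y = 0) ↔
      (IsSquare (LinearMap.BilinForm.toMatrix b B).det ↔
        Even (K * (Fintype.card F - 1) / 2)) := by
  classical
  have hq : Odd (Fintype.card F) :=
    Nat.odd_iff.mpr (FiniteField.odd_card_of_char_ne_two (ringChar_ne_two_of h2))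
  set Q : QuadraticForm F V := LinearMap.BilinMap.toQuadraticMap B with hQdef
  have hpol : ∀ x y, polar (⇑Q) x y = 2 * B x y := by
    intro x y
    rw [hQdef, LinearMap.BilinMap.polar_toQuadraticMap]
    have : B x y = B y x := hS.eq x y
    rw [← this]
    ring
  have hQnd : (polarBilin Q).Nondegenerate := by
    constructor
    · intro x hx
      apply hB.1 x
      intro y
      have := hx y
      rw [polarBilin_apply_apply, hpol] at this
      exact (mul_eq_zero.mp this).resolve_left h2
    · intro y hy
      apply hB.2 y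
      intro x
      have := hy x
      rw [polarBilin_apply_apply, hpol] at this
      exact (mul_eq_zero.mp this).resolve_left h2
  have hmain := mts_iff_disc hq hK hV Q hQnd b
  have hmat : (Matrix.of fun i j : ι => polar (⇑Q) (b i) (b j)) =
      (2 : F) • LinearMap.BilinForm.toMatrix b B := by
    ext i j
    rw [Matrix.of_apply, hpol, Matrix.smul_apply, LinearMap.BilinForm.toMatrix_apply, smul_eq_mul]
  have hcard : Fintype.card ι = 2 * K := by rw [← hV, Module.finrank_eq_card_basis b]
  have hdet : (Matrix.of fun i j : ι => polar (⇑Q) (b i) (b j)).det =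
      ((2 : F) ^ K) ^ 2 * (LinearMap.BilinForm.toMatrix b B).det := by
    rw [hmat, Matrix.det_smul, hcard]
    ring
  rw [hdet, isSquare_sq_mul _ _ (pow_ne_zero K h2)] at hmain
  rw [← hmain]
  constructor
  · rintro ⟨X, hXk, hX⟩
    exact ⟨X, ⟨fun x hx => hX x hx x hx, hXk⟩⟩
  · rintro ⟨X, hX⟩
    refine ⟨X, hX.rk, fun x hx y hy => ?_⟩
    have := hX.ts.polar_zero hx hy
    rw [hpol] at this
    exact (mul_eq_zero.mp this).resolve_left h2

end ttA

section ttB
variable {F U W : Type*} [Field F] [AddCommGroup U] [Module F U] [AddCommGroup W] [Module F W]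

open TensorProduct

theorem toMatrix_tmul {ι κ : Type*} [Fintype ι] [DecidableEq ι] [Fintype κ] [DecidableEq κ]
    (b₁ : Basis ι F U) (b₂ : Basis κ F W) (B₁ : LinearMap.BilinForm F U)
    (B₂ : LinearMap.BilinForm F W) :
    LinearMap.BilinForm.toMatrix (b₁.tensorProduct b₂) (B₁.tmul B₂) =
      Matrix.kroneckerMap (· * ·) (LinearMap.BilinForm.toMatrix b₁ B₁)
        (LinearMap.BilinForm.toMatrix b₂ B₂) := by
  ext ⟨i, j⟩ ⟨i', j'⟩
  rw [LinearMap.BilinForm.toMatrix_apply, Basis.tensorProduct_apply, Basis.tensorProduct_apply,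
    LinearMap.BilinForm.tensorDistrib_tmul, Matrix.kroneckerMap_apply,
    LinearMap.BilinForm.toMatrix_apply, LinearMap.BilinForm.toMatrix_apply, smul_eq_mul, mul_comm]

theorem det_toMatrix_tmul {ι κ : Type*} [Fintype ι] [DecidableEq ι] [Fintype κ] [DecidableEq κ]
    (b₁ : Basis ι F U) (b₂ : Basis κ F W) (B₁ : LinearMap.BilinForm F U)
    (B₂ : LinearMap.BilinForm F W) :
    (LinearMap.BilinForm.toMatrix (b₁.tensorProduct b₂) (B₁.tmul B₂)).det =
      (LinearMap.BilinForm.toMatrix b₁ B₁).det ^ Fintype.card κ *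
        (LinearMap.BilinForm.toMatrix b₂ B₂).det ^ Fintype.card ι := by
  rw [toMatrix_tmul]
  exact Matrix.det_kronecker _ _

end ttB

end Cfsg.Agent.helper13
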