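import Mathlib
import Cfsg.Statements.S2364
import Cfsg.Agent.Lib_helper17_PSLc2
import Cfsg.Agent.S0242

set_option autoImplicit false

open Cfsg

namespace Cfsg.Agent.S2364

open Cfsg.Agent.helper17.PSLc Matrix

lemma exists_lift_pow {G : Type*} [Group G] (N : Subgroup G) [N.Normal] (t : ℕ) (ht : ∀ z ∈ N, z ^ t = 1)
    (p : ℕ) (hp : p.Prime) (hcop : Nat.Coprime t p) (a : G ⧸ N) (ha : orderOf a = p) :
    ∃ u : G, u ^ p = 1 ∧ (QuotientGroup.mk u : G ⧸ N) = a := by
  obtain ⟨A, rfl⟩ := QuotientGroup.mk_surjective a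
  obtain ⟨s, -, hs⟩ := Nat.exists_mul_mod_eq_one_of_coprime hcop hp.one_lt
  have hAp : A ^ p ∈ N := by
    rw [← QuotientGroup.eq_one_iff, QuotientGroup.mk_pow, ← ha]
    exact pow_orderOf_eq_one _
  refine ⟨A ^ (t * s), ?_, ?_⟩
  · rw [← pow_mul, mul_comm (t * s) p, pow_mul, pow_mul, ht _ hAp, one_pow]
  · rw [QuotientGroup.mk_pow, ← pow_mod_orderOf, ha, hs, pow_one]

lemma commute_of_central {G : Type*} [Group G] (t : ℕ) (ht : ∀ z ∈ Subgroup.center G, z ^ t = 1)
    (p : ℕ) (hcop : Nat.Coprime t p) (u v : G) (hu : u ^ p = 1)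
    (h : (QuotientGroup.mk u : G ⧸ Subgroup.center G) * QuotientGroup.mk v =
      QuotientGroup.mk v * QuotientGroup.mk u) :
    u * v = v * u := by
  set c := v * u * v⁻¹ * u⁻¹ with hc
  have hcZ : c ∈ Subgroup.center G := by
    rw [← QuotientGroup.eq_one_iff]
    simp only [hc, QuotientGroup.mk_mul, QuotientGroup.mk_inv, ← h]
    group
  have h1 : v * u * v⁻¹ = c * u := by simp [hc]
  have h2 : (v * u * v⁻¹) ^ p = 1 := by rw [conj_pow, hu]; group
  have hcu : Commute c u := (Subgroup.mem_center_iff.mp hcZ u).symm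
  rw [h1, hcu.mul_pow, hu, mul_one] at h2
  have h3 : c ^ t = 1 := ht c hcZ
  have h4 : orderOf c ∣ Nat.gcd t p := Nat.dvd_gcd (orderOf_dvd_of_pow_eq_one h3) (orderOf_dvd_of_pow_eq_one h2)
  rw [hcop, Nat.dvd_one, orderOf_eq_one_iff] at h4
  have h5 : v * u * v⁻¹ * u⁻¹ = 1 := h4
  have h6 : v * u = u * v := by
    have := congrArg (fun x => x * u * v) h5
    simpa [mul_assoc] using this
  exact h6.symm

theorem result {F : Type*} [Field F] [Fintype F] (p : ℕ) [Fact p.Prime] [CharP F p] (n : ℕ) (hn : 4 ≤ n)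
    (a b : Matrix.ProjectiveSpecialLinearGroup (Fin n) F) (ha : orderOf a = p) (hab : Commute a b) :
    (orderOf b).primeFactors ⊆ (Nat.card (Matrix.SpecialLinearGroup (Fin (n - 2)) F)).primeFactors := by
  classical
  intro r hr
  have hrp : r.Prime := Nat.prime_of_mem_primeFactors hr
  have hrb : r ∣ orderOf b := Nat.dvd_of_mem_primeFactors hr
  have hb0 : orderOf b ≠ 0 := by
    intro h; rw [h] at hr; simp at hr
  haveI : Fact r.Prime := ⟨hrp⟩
  have hp : p.Prime := Fact.out
  set q := Fintype.card F with hq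
  set m := n - 2 with hm
  have hm2 : 2 ≤ m := by omega
  have hq2 : 2 ≤ q := Fintype.one_lt_card
  have hcard0 : Nat.card (Matrix.SpecialLinearGroup (Fin m) F) ≠ 0 := Nat.card_pos.ne'
  rw [Nat.mem_primeFactors]
  refine ⟨hrp, ?_, hcard0⟩
  by_contra hnd
  -- order formula
  have hS := Cfsg.Agent.S0242.result (F := F) (q := q) rfl m (by omega)
  set f : Fin m → ℕ := fun i => q ^ m - q ^ (i : ℕ) with hf
  have hpair : ∀ i₁ i₂ : Fin m, i₁ ≠ i₂ → f i₁ * f i₂ ∣ (q - 1) * Nat.card (Matrix.SpecialLinearGroup (Fin m) F) := by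
    intro i₁ i₂ hne
    rw [hS, ← Finset.prod_pair hne]
    exact Finset.prod_dvd_prod_of_subset _ _ _ (Finset.subset_univ _)
  have hq1pos : 0 < q - 1 := by omega
  have hdivj : ∀ j, 2 ≤ j → j ≤ m → (q ^ j - 1) ∣ Nat.card (Matrix.SpecialLinearGroup (Fin m) F) := by
    intro j hj2 hjm
    have h1 := hpair ⟨m - 1, by omega⟩ ⟨m - j, by omega⟩ (by
      intro h; have := congrArg Fin.val h; simp at this; omega)
    simp only [hf] at h1
    have e1 : q ^ m - q ^ (m - 1) = q ^ (m - 1) * (q - 1) := by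
      have : q ^ m = q ^ (m - 1) * q := by rw [← pow_succ]; congr 1; omega
      rw [this, Nat.mul_sub, mul_one]
    have e2 : q ^ m - q ^ (m - j) = q ^ (m - j) * (q ^ j - 1) := by
      have : q ^ m = q ^ (m - j) * q ^ j := by rw [← pow_add]; congr 1; omega
      rw [this, Nat.mul_sub, mul_one]
    rw [e1, e2] at h1
    have h2 : (q - 1) * (q ^ j - 1) ∣ (q - 1) * Nat.card (Matrix.SpecialLinearGroup (Fin m) F) :=
      Dvd.dvd.trans ⟨q ^ (m - 1) * q ^ (m - j), by ring⟩ h1
    exact Nat.dvd_of_mul_dvd_mul_left hq1pos h2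
  have hdivq : q ∣ Nat.card (Matrix.SpecialLinearGroup (Fin m) F) := by
    have h1 := hpair ⟨m - 1, by omega⟩ ⟨0, by omega⟩ (by
      intro h; have := congrArg Fin.val h; simp at this; omega)
    simp only [hf] at h1
    have e1 : q ^ m - q ^ (m - 1) = q ^ (m - 1) * (q - 1) := by
      have : q ^ m = q ^ (m - 1) * q := by rw [← pow_succ]; congr 1; omega
      rw [this, Nat.mul_sub, mul_one]
    have e3 : q ^ (m - 1) = q * q ^ (m - 2) := by rw [← pow_succ']; congr 1; omega
    rw [e1, e3] at h1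
    have h2 : (q - 1) * q ∣ (q - 1) * Nat.card (Matrix.SpecialLinearGroup (Fin m) F) :=
      Dvd.dvd.trans ⟨q ^ (m - 2) * (q ^ m - q ^ 0), by ring⟩ h1
    exact Nat.dvd_of_mul_dvd_mul_left hq1pos h2
  have hpq : p ∣ q := by
    have : ((q : ℕ) : F) = 0 := Nat.cast_card_eq_zero F
    exact (CharP.cast_eq_zero_iff F p q).mp this
  have hrnep : r ≠ p := by
    intro h; exact hnd (h ▸ hpq.trans hdivq)
  have hrq : ¬ r ∣ q := by
    intro h
    obtain ⟨k, -, hk⟩ := FiniteField.card F p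
    rw [← hq] at hk
    rw [hk] at h
    exact hrnep ((Nat.prime_dvd_prime_iff_eq hrp hp).mp (hrp.dvd_of_dvd_pow h))
  have hrq1 : ¬ r ∣ q - 1 := by
    intro h
    apply hnd
    refine (h.trans ?_).trans (hdivj 2 le_rfl hm2)
    exact ⟨q + 1, by
      have : q ^ 2 = q * q := sq q
      zify [hq2, show 1 ≤ q from by omega, show 1 ≤ q ^ 2 from Nat.one_le_pow _ _ (by omega)]
      ring⟩
  set e := orderOf ((q : ℕ) : ZMod r) with hedef
  have hqne : ((q : ℕ) : ZMod r) ≠ 0 := by
    rw [Ne, ZMod.natCast_eq_zero_iff]; exact hrq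
  have hepos : 0 < e := by
    rw [hedef, orderOf_pos_iff, isOfFinOrder_iff_pow_eq_one]
    exact ⟨r - 1, by have := hrp.two_le; omega, ZMod.pow_card_sub_one_eq_one hqne⟩
  have hre : r ∣ q ^ e - 1 := by
    have h1 : ((q : ℕ) : ZMod r) ^ e = 1 := pow_orderOf_eq_one _
    rw [← ZMod.natCast_eq_zero_iff, Nat.cast_sub (Nat.one_le_pow _ _ (by omega)), Nat.cast_pow, h1]
    simp
  have hen : n - 1 ≤ e := by
    by_contra hlt
    have hle : e ≤ m := by omega
    rcases Nat.lt_or_ge e 2 with h1 | h2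
    · have : e = 1 := by omega
      rw [this, pow_one] at hre
      exact hrq1 hre
    · exact hnd (hre.trans (hdivj e h2 hle))
  -- the element of order r
  set b' := b ^ (orderOf b / r) with hb'
  have hb'r : orderOf b' = r := orderOf_pow_orderOf_div hb0 hrb
  have hab' : Commute a b' := hab.pow_right _
  -- central elements have exponent dividing q - 1
  have hn0 : 0 < n := by omega
  have ht : ∀ z ∈ Subgroup.center (Matrix.SpecialLinearGroup (Fin n) F), z ^ (q - 1) = 1 := by
    intro z hz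
    obtain ⟨ζ, hζ, hz'⟩ := Matrix.SpecialLinearGroup.mem_center_iff.mp hz
    have hζ0 : ζ ≠ 0 := by
      intro h
      rw [h, Fintype.card_fin, zero_pow (by omega)] at hζ
      exact zero_ne_one hζ
    apply Subtype.ext
    rw [Matrix.SpecialLinearGroup.coe_pow, ← hz', ← map_pow, FiniteField.pow_card_sub_one_eq_one ζ hζ0]
    simp
  have hcopp : Nat.Coprime (q - 1) p := by
    rw [Nat.coprime_comm, Nat.Prime.coprime_iff_not_dvd hp]
    intro h
    have : p ∣ q - (q - 1) := Nat.dvd_sub hpq h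
    rw [show q - (q - 1) = 1 by omega] at this
    exact hp.one_lt.ne' (Nat.dvd_one.mp this)
  have hcopr : Nat.Coprime (q - 1) r := by
    rw [Nat.coprime_comm, Nat.Prime.coprime_iff_not_dvd hrp]
    exact hrq1
  obtain ⟨u, hup, hua⟩ := exists_lift_pow (Subgroup.center (Matrix.SpecialLinearGroup (Fin n) F)) (q - 1) ht p hp hcopp a ha
  obtain ⟨v, hvr, hvb⟩ := exists_lift_pow (Subgroup.center (Matrix.SpecialLinearGroup (Fin n) F)) (q - 1) ht r hrp hcopr b' hb'r
  have hu1 : u ≠ 1 := by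
    rintro rfl
    rw [QuotientGroup.mk_one] at hua
    rw [← hua, orderOf_one] at ha
    exact hp.one_lt.ne ha
  have hv1 : v ≠ 1 := by
    rintro rfl
    rw [QuotientGroup.mk_one] at hvb
    rw [← hvb, orderOf_one] at hb'r
    exact hrp.one_lt.ne hb'r
  have huv : u * v = v * u := by
    apply commute_of_central (q - 1) ht p hcopp u v hup
    rw [hua, hvb]
    exact hab'
  -- linear maps
  haveI : Nonempty (Fin n) := ⟨⟨0, hn0⟩⟩
  set U : Matrix (Fin n) (Fin n) F := (u : Matrix (Fin n) (Fin n) F) with hU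
  set V : Matrix (Fin n) (Fin n) F := (v : Matrix (Fin n) (Fin n) F) with hV
  have hUV : U * V = V * U := by
    have := congrArg (fun x : Matrix.SpecialLinearGroup (Fin n) F => (x : Matrix (Fin n) (Fin n) F)) huv
    simpa using this
  have hUp : U ^ p = 1 := by
    have := congrArg (fun x : Matrix.SpecialLinearGroup (Fin n) F => (x : Matrix (Fin n) (Fin n) F)) hup
    simpa using this
  have hVr : V ^ r = 1 := by
    have := congrArg (fun x : Matrix.SpecialLinearGroup (Fin n) F => (x : Matrix (Fin n) (Fin n) F)) hvr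
    simpa using this
  have hU1 : U ≠ 1 := fun h => hu1 (Subtype.ext h)
  have hV1 : V ≠ 1 := fun h => hv1 (Subtype.ext h)
  have hnil : IsNilpotent (U - 1) := by
    refine ⟨p, ?_⟩
    rw [sub_pow_char_of_commute p (Commute.one_right _), hUp, one_pow, sub_self]
  refine no_commuting n hn r hrq hen (Matrix.toLin' U) (Matrix.toLin' V) ?_ ?_ ?_ ?_ ?_
  · intro x
    rw [← Matrix.toLin'_mul_apply, ← Matrix.toLin'_mul_apply, hUV]
  · obtain ⟨k, hk⟩ := hnil
    refine ⟨k, ?_⟩
    have h1 : Matrix.toLin' U - 1 = Matrix.toLin' (U - 1) := by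
      rw [map_sub, Matrix.toLin'_one]; rfl
    rw [h1, ← Matrix.toLin'_pow, hk, map_zero]
  · intro h
    apply hU1
    apply Matrix.toLin'.injective
    rw [h, Matrix.toLin'_one]
    rfl
  · rw [← Matrix.toLin'_pow, hVr, Matrix.toLin'_one]
    rfl
  · intro h
    apply hV1
    apply Matrix.toLin'.injective
    rw [h, Matrix.toLin'_one]
    rfl

end Cfsg.Agent.S2364
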