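import Cfsg.Prelude.Def_Amalgam
import Mathlib.Algebra.Group.Subgroup.Pointwise

set_option autoImplicit false
open Cfsg

namespace Cfsg.Agent.helper14

theorem adj_iff {X : Type*} [Group X] (M₁ M₂ : Subgroup X) (δ μ : Cfsg.CosetVertex M₁ M₂) :
    (Cfsg.cosetGraph M₁ M₂).Adj δ μ ↔
      ∃ z : X, (δ = Sum.inl (z : X ⧸ M₁) ∧ μ = Sum.inr (z : X ⧸ M₂)) ∨
               (δ = Sum.inr (z : X ⧸ M₂) ∧ μ = Sum.inl (z : X ⧸ M₁)) := by
  unfold Cfsg.cosetGraph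
  rw [SimpleGraph.fromRel_adj]
  constructor
  · rintro ⟨_, ⟨z, h1, h2⟩ | ⟨z, h1, h2⟩⟩
    · exact ⟨z, Or.inl ⟨h1, h2⟩⟩
    · exact ⟨z, Or.inr ⟨h2, h1⟩⟩
  · rintro ⟨z, ⟨h1, h2⟩ | ⟨h1, h2⟩⟩
    · exact ⟨by rw [h1, h2]; simp, Or.inl ⟨z, h1, h2⟩⟩
    · exact ⟨by rw [h1, h2]; simp, Or.inr ⟨z, h2, h1⟩⟩

theorem adj_inl_inr {X : Type*} [Group X] (M₁ M₂ : Subgroup X) (x : X) :
    (Cfsg.cosetGraph M₁ M₂).Adj (Sum.inl (x : X ⧸ M₁)) (Sum.inr (x : X ⧸ M₂)) := by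
  rw [adj_iff]
  exact ⟨x, Or.inl ⟨rfl, rfl⟩⟩

theorem adj_smul {X : Type*} [Group X] (M₁ M₂ : Subgroup X) (g : X) {δ μ : Cfsg.CosetVertex M₁ M₂}
    (h : (Cfsg.cosetGraph M₁ M₂).Adj δ μ) : (Cfsg.cosetGraph M₁ M₂).Adj (g • δ) (g • μ) := by
  rw [adj_iff] at h ⊢
  obtain ⟨z, ⟨h1, h2⟩ | ⟨h1, h2⟩⟩ := h
  · refine ⟨g * z, Or.inl ⟨?_, ?_⟩⟩
    · rw [h1, Sum.smul_inl, MulAction.Quotient.smul_coe, smul_eq_mul]
    · rw [h2, Sum.smul_inr, MulAction.Quotient.smul_coe, smul_eq_mul]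
  · refine ⟨g * z, Or.inr ⟨?_, ?_⟩⟩
    · rw [h1, Sum.smul_inr, MulAction.Quotient.smul_coe, smul_eq_mul]
    · rw [h2, Sum.smul_inl, MulAction.Quotient.smul_coe, smul_eq_mul]

theorem adj_smul_iff {X : Type*} [Group X] (M₁ M₂ : Subgroup X) (g : X) {δ μ : Cfsg.CosetVertex M₁ M₂} :
    (Cfsg.cosetGraph M₁ M₂).Adj (g • δ) (g • μ) ↔ (Cfsg.cosetGraph M₁ M₂).Adj δ μ := by
  constructor
  · intro h
    have := adj_smul M₁ M₂ g⁻¹ h
    simpa using this
  · exact adj_smul M₁ M₂ g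

theorem reach_inl {X : Type*} [Group X] (M₁ M₂ : Subgroup X) (hgen : M₁ ⊔ M₂ = ⊤) (x : X) :
    (Cfsg.cosetGraph M₁ M₂).Reachable (Sum.inl ((1 : X) : X ⧸ M₁)) (Sum.inl (x : X ⧸ M₁)) := by
  have hx : x ∈ Subgroup.closure ((M₁ : Set X) ∪ (M₂ : Set X)) := by
    rw [Subgroup.closure_union, Subgroup.closure_eq, Subgroup.closure_eq, hgen]
    exact Subgroup.mem_top x
  have key : ∀ (x : X) (y : X), y ∈ (M₁ : Set X) ∪ (M₂ : Set X) →
      (Cfsg.cosetGraph M₁ M₂).Reachable (Sum.inl ((1 : X) : X ⧸ M₁)) (Sum.inl (x : X ⧸ M₁)) →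
      (Cfsg.cosetGraph M₁ M₂).Reachable (Sum.inl ((1 : X) : X ⧸ M₁)) (Sum.inl ((x * y : X) : X ⧸ M₁)) := by
    intro x y hy hreach
    rcases hy with hy | hy
    · have : ((x * y : X) : X ⧸ M₁) = (x : X ⧸ M₁) := by
        rw [QuotientGroup.eq]
        simpa using M₁.inv_mem hy
      rw [this]; exact hreach
    · have h2 : ((x * y : X) : X ⧸ M₂) = (x : X ⧸ M₂) := by
        rw [QuotientGroup.eq]
        simpa using M₂.inv_mem hy
      refine hreach.trans ?_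
      refine (adj_inl_inr M₁ M₂ x).reachable.trans ?_
      rw [← h2]
      exact (adj_inl_inr M₁ M₂ (x * y)).symm.reachable
  induction hx using Subgroup.closure_induction_right with
  | one => exact SimpleGraph.Reachable.refl _
  | mul_right x hx y hy ih => exact key x y hy ih
  | mul_inv_cancel x hx y hy ih =>
    refine key x y⁻¹ ?_ ih
    rcases hy with hy | hy
    · exact Or.inl (M₁.inv_mem hy)
    · exact Or.inr (M₂.inv_mem hy)

theorem cosetGraph_connected {X : Type*} [Group X] (M₁ M₂ : Subgroup X) (hgen : M₁ ⊔ M₂ = ⊤) :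
    (Cfsg.cosetGraph M₁ M₂).Connected := by
  have : Nonempty (Cfsg.CosetVertex M₁ M₂) := ⟨Sum.inl ((1 : X) : X ⧸ M₁)⟩
  refine ⟨?_⟩
  have hall : ∀ v : Cfsg.CosetVertex M₁ M₂,
      (Cfsg.cosetGraph M₁ M₂).Reachable (Sum.inl ((1 : X) : X ⧸ M₁)) v := by
    intro v
    rcases v with v | v
    · induction v using QuotientGroup.induction_on with
      | H x => exact reach_inl M₁ M₂ hgen x
    · induction v using QuotientGroup.induction_on with
      | H x => exact (reach_inl M₁ M₂ hgen x).trans (adj_inl_inr M₁ M₂ x).reachable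
  intro u v
  exact (hall u).symm.trans (hall v)

theorem stab_inl {X : Type*} [Group X] (M₁ M₂ : Subgroup X) (x : X) :
    MulAction.stabilizer X (Sum.inl (x : X ⧸ M₁) : Cfsg.CosetVertex M₁ M₂) = M₁.map (MulAut.conj x).toMonoidHom := by
  have h1 : MulAction.stabilizer X (Sum.inl (x : X ⧸ M₁) : Cfsg.CosetVertex M₁ M₂)
      = MulAction.stabilizer X (x : X ⧸ M₁) := by
    ext g
    simp only [MulAction.mem_stabilizer_iff, Sum.smul_inl, Sum.inl.injEq]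
  have h2 : (x : X ⧸ M₁) = x • ((1 : X) : X ⧸ M₁) := by
    rw [MulAction.Quotient.smul_coe, smul_eq_mul, mul_one]
  rw [h1, h2, MulAction.stabilizer_smul_eq_stabilizer_map_conj, MulAction.stabilizer_quotient]

theorem stab_inr {X : Type*} [Group X] (M₁ M₂ : Subgroup X) (x : X) :
    MulAction.stabilizer X (Sum.inr (x : X ⧸ M₂) : Cfsg.CosetVertex M₁ M₂) = M₂.map (MulAut.conj x).toMonoidHom := by
  have h1 : MulAction.stabilizer X (Sum.inr (x : X ⧸ M₂) : Cfsg.CosetVertex M₁ M₂)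
      = MulAction.stabilizer X (x : X ⧸ M₂) := by
    ext g
    simp only [MulAction.mem_stabilizer_iff, Sum.smul_inr, Sum.inr.injEq]
  have h2 : (x : X ⧸ M₂) = x • ((1 : X) : X ⧸ M₂) := by
    rw [MulAction.Quotient.smul_coe, smul_eq_mul, mul_one]
  rw [h1, h2, MulAction.stabilizer_smul_eq_stabilizer_map_conj, MulAction.stabilizer_quotient]

theorem edgeStab_eq {X : Type*} [Group X] (M₁ M₂ : Subgroup X) (x : X) :
    Cfsg.edgeStabilizer (Sum.inl (x : X ⧸ M₁) : Cfsg.CosetVertex M₁ M₂) (Sum.inr (x : X ⧸ M₂)) = (M₁ ⊓ M₂).map (MulAut.conj x).toMonoidHom := by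
  unfold Cfsg.edgeStabilizer
  rw [stab_inl, stab_inr, Subgroup.map_inf_eq]
  exact (MulAut.conj x).injective

/-- An element fixing every vertex is trivial, in a faithful pair. -/
theorem eq_one_of_fixes_all {X : Type*} [Group X] (M₁ M₂ : Subgroup X)
    (h : ∀ N : Subgroup X, N ≤ M₁ ⊓ M₂ → N.Normal → N = ⊥) (g : X)
    (hg : ∀ v : Cfsg.CosetVertex M₁ M₂, g • v = v) : g = 1 := by
  have hker : (MulAction.toPermHom X (Cfsg.CosetVertex M₁ M₂)).ker = ⊥ := by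
    apply h _ _ (MonoidHom.normal_ker _)
    intro g hg
    rw [MonoidHom.mem_ker] at hg
    have h1 : g • (Sum.inl ((1 : X) : X ⧸ M₁) : Cfsg.CosetVertex M₁ M₂) = Sum.inl ((1 : X) : X ⧸ M₁) := by
      have := congrArg (fun σ : Equiv.Perm (Cfsg.CosetVertex M₁ M₂) => σ (Sum.inl ((1 : X) : X ⧸ M₁))) hg
      simpa using this
    have h2 : g • (Sum.inr ((1 : X) : X ⧸ M₂) : Cfsg.CosetVertex M₁ M₂) = Sum.inr ((1 : X) : X ⧸ M₂) := by
      have := congrArg (fun σ : Equiv.Perm (Cfsg.CosetVertex M₁ M₂) => σ (Sum.inr ((1 : X) : X ⧸ M₂))) hg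
      simpa using this
    rw [Sum.smul_inl, Sum.inl.injEq, MulAction.Quotient.smul_coe, smul_eq_mul, mul_one, eq_comm, QuotientGroup.eq] at h1
    rw [Sum.smul_inr, Sum.inr.injEq, MulAction.Quotient.smul_coe, smul_eq_mul, mul_one, eq_comm, QuotientGroup.eq] at h2
    simp only [inv_one, one_mul] at h1 h2
    exact ⟨h1, h2⟩
  have : g ∈ (MulAction.toPermHom X (Cfsg.CosetVertex M₁ M₂)).ker := by
    rw [MonoidHom.mem_ker]
    ext v
    simpa using hg v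
  rw [hker] at this
  exact Subgroup.mem_bot.mp this

end Cfsg.Agent.helper14
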