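import Cfsg.Agent.Lib_helper14_Amalgam2

set_option autoImplicit false
open Cfsg
open scoped commutatorElement

namespace Cfsg.Agent.helper14

theorem sylow_smul_map_subtype {X : Type*} [Group X] {p : ℕ} (H : Subgroup X) (g : X) (hg : g ∈ H)
    (S : Sylow p H) :
    (((⟨g, hg⟩ : H) • S : Sylow p H) : Subgroup H).map H.subtype =
      ((S : Subgroup H).map H.subtype).map (MulAut.conj g).toMonoidHom := by
  ext x
  constructor
  · rintro ⟨y, hy, rfl⟩
    have hy' : y ∈ (((⟨g, hg⟩ : H) • S : Sylow p H) : Subgroup H) := hy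
    rw [Sylow.coe_subgroup_smul, Subgroup.mem_smul_pointwise_iff_exists] at hy'
    obtain ⟨s, hs, rfl⟩ := hy'
    refine ⟨(s : X), Subgroup.mem_map_of_mem _ hs, ?_⟩
    simp [MulAut.smul_def]
  · rintro ⟨_, ⟨s, hs, rfl⟩, rfl⟩
    refine ⟨(⟨g, hg⟩ : H) * s * (⟨g, hg⟩ : H)⁻¹, ?_, ?_⟩
    · show _ ∈ (((⟨g, hg⟩ : H) • S : Sylow p H) : Subgroup H)
      rw [Sylow.coe_subgroup_smul, Subgroup.mem_smul_pointwise_iff_exists]
      exact ⟨s, hs, rfl⟩
    · simp

theorem sylowCenterClosure_map_conj_eq {X : Type*} [Group X] (p : ℕ) (H : Subgroup X) (g : X) (hg : g ∈ H) :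
    (Cfsg.sylowCenterClosure p H).map (MulAut.conj g).toMonoidHom = Cfsg.sylowCenterClosure p H := by
  apply le_antisymm (sylowCenterClosure_map_conj_le p H g hg)
  intro z hz
  have h1 := sylowCenterClosure_map_conj_le p H g⁻¹ (H.inv_mem hg) (Subgroup.mem_map_of_mem _ hz)
  refine ⟨_, h1, ?_⟩
  simp [mul_assoc]

/-- If `Z_H` equals `Ω₁(Z(S₀))` for one Sylow, it is contained in `Ω₁(Z(S))` for every Sylow. -/
theorem sylowCenterClosure_le_omegaOne_of_eq {X : Type*} [Group X] {p : ℕ} [Fact p.Prime]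
    (H : Subgroup X) [Finite H] (S₀ S : Sylow p H)
    (hZ : Cfsg.sylowCenterClosure p H =
      Cfsg.omegaOne p (((S₀ : Subgroup H).map H.subtype) ⊓
        Subgroup.centralizer (((S₀ : Subgroup H).map H.subtype : Subgroup X) : Set X))) :
    Cfsg.sylowCenterClosure p H ≤
      Cfsg.omegaOne p (((S : Subgroup H).map H.subtype) ⊓
        Subgroup.centralizer (((S : Subgroup H).map H.subtype : Subgroup X) : Set X)) := by
  obtain ⟨g, hg⟩ := MulAction.exists_smul_eq H S₀ S
  obtain ⟨g, hgH⟩ := g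
  rw [← hg, sylow_smul_map_subtype]
  refine le_trans ?_ (omegaOne_map_conj_le p _ g)
  rw [← hZ, sylowCenterClosure_map_conj_eq p H g hgH]

/-- Common Sylow subgroups force `Z_H ≤ Z_{H'}` when `Z_H = Ω₁(Z(S₀))`. -/
theorem sylowCenterClosure_le_of_common_sylow {X : Type*} [Group X] {p : ℕ} [Fact p.Prime]
    (H H' : Subgroup X) [Finite H] (S₀ : Sylow p H)
    (hZ : Cfsg.sylowCenterClosure p H =
      Cfsg.omegaOne p (((S₀ : Subgroup H).map H.subtype) ⊓
        Subgroup.centralizer (((S₀ : Subgroup H).map H.subtype : Subgroup X) : Set X)))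
    (hcommon : ∃ S : Sylow p H, ∃ S' : Sylow p H',
      (S : Subgroup H).map H.subtype = (S' : Subgroup H').map H'.subtype) :
    Cfsg.sylowCenterClosure p H ≤ Cfsg.sylowCenterClosure p H' := by
  obtain ⟨S, S', hSS'⟩ := hcommon
  refine (sylowCenterClosure_le_omegaOne_of_eq H S₀ S hZ).trans ?_
  rw [hSS']
  exact le_iSup (fun S : Sylow p H' => Cfsg.omegaOne p (((S : Subgroup H').map H'.subtype) ⊓
      Subgroup.centralizer (((S : Subgroup H').map H'.subtype : Subgroup X) : Set X))) S'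

/-- A Sylow of `H ⊓ K` of full Sylow order in `H` gives a Sylow of `H` inside `K`. -/
theorem exists_sylow_le {X : Type*} [Group X] {p : ℕ} [Fact p.Prime] (H K J : Subgroup X) [Finite H]
    (hJ : J = H ⊓ K)
    (hcard : ∀ S : Sylow p ↥J, ∀ P : Sylow p H, Nat.card S = Nat.card P) :
    ∃ P : Sylow p H, (P : Subgroup H).map H.subtype ≤ K := by
  subst hJ
  obtain ⟨S⟩ : Nonempty (Sylow p ↥(H ⊓ K)) := inferInstance
  let S' : Subgroup H := ((S : Subgroup ↥(H ⊓ K)).map (H ⊓ K).subtype).subgroupOf H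
  have hS'le : (S : Subgroup ↥(H ⊓ K)).map (H ⊓ K).subtype ≤ H :=
    (Subgroup.map_subtype_le _).trans inf_le_left
  have hS'map : S'.map H.subtype = (S : Subgroup ↥(H ⊓ K)).map (H ⊓ K).subtype := by
    simp only [S', Subgroup.subgroupOf_map_subtype, inf_eq_left.mpr hS'le]
  have hS'p : IsPGroup p S' :=
    (S.isPGroup'.map (H ⊓ K).subtype).comap_of_injective H.subtype H.subtype_injective
  obtain ⟨P, hP⟩ := hS'p.exists_le_sylow
  have hc1 : Nat.card S' = Nat.card S := by
    have e1 : Nat.card S' = Nat.card (S'.map H.subtype) :=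
      Nat.card_congr (S'.equivMapOfInjective H.subtype H.subtype_injective).toEquiv
    have e2 : Nat.card ((S : Subgroup ↥(H ⊓ K)).map (H ⊓ K).subtype) = Nat.card S :=
      (Nat.card_congr ((S : Subgroup ↥(H ⊓ K)).equivMapOfInjective (H ⊓ K).subtype
        (H ⊓ K).subtype_injective).toEquiv).symm
    rw [e1, hS'map, e2]
  have hc2 : Nat.card S' = Nat.card P := by rw [hc1]; exact hcard S P
  have heq : S' = (P : Subgroup H) := by
    apply Subgroup.eq_of_le_of_card_ge hP
    exact le_of_eq hc2.symm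
  refine ⟨P, ?_⟩
  rw [← heq, hS'map]
  exact (Subgroup.map_subtype_le _).trans inf_le_right

/-- A `p`-subgroup of `K` (given in the ambient group) of full Sylow order is a Sylow subgroup of `K`. -/
theorem exists_sylow_eq_of_card {X : Type*} [Group X] {p : ℕ} [Fact p.Prime] (K : Subgroup X) [Finite K]
    (T : Subgroup X) (hTK : T ≤ K) (hTp : IsPGroup p T)
    (hcard : ∀ P : Sylow p K, Nat.card T = Nat.card P) :
    ∃ P : Sylow p K, (P : Subgroup K).map K.subtype = T := by
  have hTp' : IsPGroup p (T.subgroupOf K) := hTp.comap_of_injective K.subtype K.subtype_injective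
  obtain ⟨P, hP⟩ := hTp'.exists_le_sylow
  have hmap : (T.subgroupOf K).map K.subtype = T := by
    rw [Subgroup.subgroupOf_map_subtype, inf_eq_left.mpr hTK]
  have hc1 : Nat.card (T.subgroupOf K) = Nat.card T := by
    have e1 : Nat.card (T.subgroupOf K) = Nat.card ((T.subgroupOf K).map K.subtype) :=
      Nat.card_congr ((T.subgroupOf K).equivMapOfInjective K.subtype K.subtype_injective).toEquiv
    rw [e1, hmap]
  have heq : T.subgroupOf K = (P : Subgroup K) := by
    apply Subgroup.eq_of_le_of_card_ge hP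
    rw [hc1, hcard P]
  exact ⟨P, by rw [← heq, hmap]⟩

/-- In a characteristic `p` pair, `M₁` and `M₂` share a Sylow `p`-subgroup. -/
theorem exists_common_sylow {X : Type*} [Group X] {p : ℕ} [Fact p.Prime] (M₁ M₂ : Subgroup X)
    (h : Cfsg.IsCharPAmalgamPair p M₁ M₂) :
    ∃ P₁ : Sylow p M₁, ∃ P₂ : Sylow p M₂,
      (P₁ : Subgroup M₁).map M₁.subtype = (P₂ : Subgroup M₂).map M₂.subtype := by
  obtain ⟨_, hf1, hf2, _, _, hsyl, _, _⟩ := h
  obtain ⟨P₁, hP₁⟩ := exists_sylow_le M₁ M₂ (M₁ ⊓ M₂) rfl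
    (fun S P => (hsyl S P (Classical.arbitrary _)).1)
  have hcard : ∀ P : Sylow p M₂, Nat.card ((P₁ : Subgroup M₁).map M₁.subtype) = Nat.card P := by
    intro P
    have e1 : Nat.card ((P₁ : Subgroup M₁).map M₁.subtype) = Nat.card P₁ :=
      (Nat.card_congr ((P₁ : Subgroup M₁).equivMapOfInjective M₁.subtype M₁.subtype_injective).toEquiv).symm
    obtain ⟨S⟩ : Nonempty (Sylow p ↥(M₁ ⊓ M₂)) := inferInstance
    rw [e1, ← (hsyl S P₁ P).1, (hsyl S P₁ P).2]
  obtain ⟨P₂, hP₂⟩ := exists_sylow_eq_of_card M₂ _ hP₁ (P₁.isPGroup'.map _) hcard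
  exact ⟨P₁, P₂, hP₂.symm⟩

/-- Transport of a Sylow subgroup to a conjugate. -/
theorem exists_sylow_conj {X : Type*} [Group X] {p : ℕ} [Fact p.Prime] (M H : Subgroup X) (z : X)
    (hH : H = M.map (MulAut.conj z).toMonoidHom) (P : Sylow p M) :
    ∃ S : Sylow p H, (S : Subgroup H).map H.subtype =
      ((P : Subgroup M).map M.subtype).map (MulAut.conj z).toMonoidHom := by
  subst hH
  let e := M.equivMapOfInjective (MulAut.conj z).toMonoidHom (MulAut.conj z).injective
  let S : Sylow p ↥(M.map (MulAut.conj z).toMonoidHom) :=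
    P.comapOfInjective e.symm.toMonoidHom e.symm.injective
      (by rw [MonoidHom.range_eq_top.mpr e.symm.surjective]; exact le_top)
  refine ⟨S, ?_⟩
  ext x
  constructor
  · rintro ⟨y, hy, rfl⟩
    have hy' : e.symm y ∈ (P : Subgroup M) := hy
    refine ⟨((e.symm y : M) : X), Subgroup.mem_map_of_mem _ hy', ?_⟩
    have : e (e.symm y) = y := e.apply_symm_apply y
    conv_rhs => rw [← this]
    rfl
  · rintro ⟨_, ⟨m, hm, rfl⟩, rfl⟩
    refine ⟨e m, ?_, rfl⟩
    show e.symm (e m) ∈ (P : Subgroup M)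
    rw [e.symm_apply_apply]
    exact hm

theorem finite_of_eq_map {X : Type*} [Group X] (M H : Subgroup X) [Finite M] (f : X →* X)
    (hH : H = M.map f) : Finite H := by
  subst hH
  exact Finite.of_surjective (fun m : M => (⟨f m, Subgroup.mem_map_of_mem f m.2⟩ : M.map f))
    (by rintro ⟨_, ⟨m, hm, rfl⟩⟩; exact ⟨⟨m, hm⟩, rfl⟩)

/-- Adjacent vertices of the coset graph of a characteristic `p` pair have a common Sylow subgroup. -/
theorem exists_common_sylow_of_adj {X : Type*} [Group X] {p : ℕ} [Fact p.Prime] (M₁ M₂ : Subgroup X)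
    (h : Cfsg.IsCharPAmalgamPair p M₁ M₂) (α β : Cfsg.CosetVertex M₁ M₂)
    (hadj : (Cfsg.cosetGraph M₁ M₂).Adj α β) :
    ∃ S : Sylow p (MulAction.stabilizer X α), ∃ S' : Sylow p (MulAction.stabilizer X β),
      (S : Subgroup (MulAction.stabilizer X α)).map (MulAction.stabilizer X α).subtype =
        (S' : Subgroup (MulAction.stabilizer X β)).map (MulAction.stabilizer X β).subtype := by
  obtain ⟨P₁, P₂, hP⟩ := exists_common_sylow M₁ M₂ h
  rw [adj_iff] at hadj
  obtain ⟨z, ⟨h1, h2⟩ | ⟨h1, h2⟩⟩ := hadj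
  · obtain ⟨S, hS⟩ := exists_sylow_conj M₁ (MulAction.stabilizer X α) z (by rw [h1, stab_inl]) P₁
    obtain ⟨S', hS'⟩ := exists_sylow_conj M₂ (MulAction.stabilizer X β) z (by rw [h2, stab_inr]) P₂
    exact ⟨S, S', by rw [hS, hS', hP]⟩
  · obtain ⟨S, hS⟩ := exists_sylow_conj M₂ (MulAction.stabilizer X α) z (by rw [h1, stab_inr]) P₂
    obtain ⟨S', hS'⟩ := exists_sylow_conj M₁ (MulAction.stabilizer X β) z (by rw [h2, stab_inl]) P₁
    exact ⟨S, S', by rw [hS, hS', hP]⟩

theorem finite_stabilizer {X : Type*} [Group X] {p : ℕ} (M₁ M₂ : Subgroup X)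
    (h : Cfsg.IsCharPAmalgamPair p M₁ M₂) (α : Cfsg.CosetVertex M₁ M₂) :
    Finite (MulAction.stabilizer X α) := by
  obtain ⟨_, hf1, hf2, _⟩ := h
  rcases α with a | a
  · induction a using QuotientGroup.induction_on with
    | H z => exact finite_of_eq_map M₁ _ _ (stab_inl M₁ M₂ z)
  · induction a using QuotientGroup.induction_on with
    | H z => exact finite_of_eq_map M₂ _ _ (stab_inr M₁ M₂ z)

end Cfsg.Agent.helper14
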