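import Mathlib
import Cfsg.Prelude.Def_LocalStructure
import Cfsg.Agent.Lib_helper14_WC2
import Cfsg.Agent.Lib_helper14_Amalgam5

set_option autoImplicit false
set_option linter.style.haveILetI false
open Cfsg
open scoped Pointwise

/-!
# Asymmetric subgroups: the word induction (helper14)
-/

namespace Cfsg.Agent.helper14

open Cfsg.Agent.helper7

variable {G : Type*} [Group G]

/-- products of `n` elements of `A` -/
def wordSet (A : Set G) : ℕ → Set G
  | 0 => {1}
  | n + 1 => {x | ∃ a ∈ A, ∃ y ∈ wordSet A n, x = a * y}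

theorem wordSet_mul_right (A : Set G) : ∀ (n : ℕ) (y : G), y ∈ wordSet A n → ∀ a ∈ A,
    y * a ∈ wordSet A (n + 1) := by
  intro n
  induction n with
  | zero =>
    intro y hy a ha
    have hy1 : y = 1 := hy
    exact ⟨a, ha, 1, rfl, by rw [hy1, one_mul, mul_one]⟩
  | succ n ih =>
    rintro y ⟨b, hb, y', hy', rfl⟩ a ha
    exact ⟨b, hb, y' * a, ih y' hy' a ha, by rw [mul_assoc]⟩

theorem wordSet_inv (A : Set G) (hA : ∀ a ∈ A, a⁻¹ ∈ A) : ∀ (n : ℕ) (y : G), y ∈ wordSet A n →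
    y⁻¹ ∈ wordSet A n := by
  intro n
  induction n with
  | zero =>
    intro y hy
    have hy1 : y = 1 := hy
    rw [hy1, inv_one]; rfl
  | succ n ih =>
    rintro y ⟨b, hb, y', hy', rfl⟩
    rw [mul_inv_rev]
    exact wordSet_mul_right A n _ (ih y' hy') _ (hA b hb)

theorem wordSet_mul (A : Set G) : ∀ (n m : ℕ) (x y : G), x ∈ wordSet A n → y ∈ wordSet A m →
    x * y ∈ wordSet A (n + m) := by
  intro n
  induction n with
  | zero =>
    intro m x y hx hy
    have hx1 : x = 1 := hx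
    rw [hx1, one_mul, Nat.zero_add]; exact hy
  | succ n ih =>
    rintro m x y ⟨b, hb, x', hx', rfl⟩ hy
    have e : n + 1 + m = (n + m) + 1 := by omega
    rw [e]
    exact ⟨b, hb, x' * y, ih m x' y hx' hy, by rw [mul_assoc]⟩

theorem exists_wordSet_of_mem_closure (A : Set G) (hA : ∀ a ∈ A, a⁻¹ ∈ A) (x : G)
    (hx : x ∈ Subgroup.closure A) : ∃ n, x ∈ wordSet A n := by
  induction hx using Subgroup.closure_induction with
  | mem a ha => exact ⟨1, a, ha, 1, rfl, (mul_one a).symm⟩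
  | one => exact ⟨0, rfl⟩
  | mul x y _ _ hx hy =>
    obtain ⟨n, hn⟩ := hx
    obtain ⟨m, hm⟩ := hy
    exact ⟨n + m, wordSet_mul A n m x y hn hm⟩
  | inv x _ hx =>
    obtain ⟨n, hn⟩ := hx
    exact ⟨n, wordSet_inv A hA n x hn⟩

/-- asymmetry, in usable form -/
theorem asym_comm_eq_bot {Y : Subgroup G} (hasym : ¬ Cfsg.IsSymmetricIn Y) (g : G)
    (h1 : cj g Y ≤ Subgroup.normalizer (Y : Set G))
    (h2 : cj g⁻¹ Y ≤ Subgroup.normalizer (Y : Set G)) :
    cj g Y ≤ Subgroup.centralizer (Y : Set G) := by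
  have h3 : Y ≤ Subgroup.normalizer ((cj g Y : Subgroup G) : Set G) := by
    have h4 := cj_le_iff.mp h2
    rw [inv_inv, cj_normalizer] at h4
    exact h4
  have hle : ⁅Y, cj g Y⁆ ≤ Y ⊓ cj g Y := comm_le_inf_of_le_normalizer h1 h3
  have hbot : ⁅Y, cj g Y⁆ = ⊥ := by
    by_contra hne
    exact hasym ⟨g, hne, hle⟩
  have := Subgroup.commutator_eq_bot_iff_le_centralizer.mp hbot
  exact Subgroup.le_centralizer_iff.mp this

/-- the word induction -/
theorem asym_word {Y P L M : Subgroup G} (hasym : ¬ Cfsg.IsSymmetricIn Y)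
    (hMP : M ≤ Subgroup.normalizer (P : Set G))
    (hYP : Y ≤ P) (hPL : P ≤ L) (hLY : L ≤ Subgroup.normalizer (Y : Set G))
    (hCL : L ⊓ Subgroup.centralizer (Y : Set G) ≤ P) :
    ∀ (n : ℕ) (x : G), x ∈ wordSet ((M : Set G) ∪ (Subgroup.normalizer (L : Set G) : Set G)) n →
      cj x Y ≤ P := by
  have hA : ∀ a ∈ ((M : Set G) ∪ (Subgroup.normalizer (L : Set G) : Set G)),
      a⁻¹ ∈ ((M : Set G) ∪ (Subgroup.normalizer (L : Set G) : Set G)) := by
    rintro a (ha | ha)
    · exact Or.inl (M.inv_mem ha)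
    · exact Or.inr (Subgroup.inv_mem _ ha)
  have hstep : ∀ a ∈ ((M : Set G) ∪ (Subgroup.normalizer (L : Set G) : Set G)),
      ∀ B : Subgroup G, B ≤ P → cj a B ≤ L := by
    rintro a (ha | ha) B hB
    · have := cj_mono (g := a) hB
      rw [cj_eq_of_mem_normalizer (hMP ha)] at this
      exact this.trans hPL
    · have := cj_mono (g := a) (hB.trans hPL)
      rwa [cj_eq_of_mem_normalizer ha] at this
  intro n
  induction n with
  | zero =>
    intro x hx
    have hx1 : x = 1 := hx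
    rw [hx1, cj_one]; exact hYP
  | succ n ih =>
    intro x hx
    have hxi := wordSet_inv _ hA (n + 1) x hx
    obtain ⟨a, ha, y, hy, rfl⟩ := hx
    obtain ⟨b, hb, z, hz, hbz⟩ := hxi
    have h1 : cj (a * y) Y ≤ L := by
      rw [← cj_cj]; exact hstep a ha _ (ih y hy)
    have h2 : cj (a * y)⁻¹ Y ≤ L := by
      rw [hbz, ← cj_cj]; exact hstep b hb _ (ih z hz)
    have h3 := asym_comm_eq_bot hasym (a * y) (h1.trans hLY) (h2.trans hLY)
    exact (le_inf h1 h3).trans hCL

theorem asym_sup {Y P L M : Subgroup G} (hasym : ¬ Cfsg.IsSymmetricIn Y)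
    (hMP : M ≤ Subgroup.normalizer (P : Set G))
    (hYP : Y ≤ P) (hPL : P ≤ L) (hLY : L ≤ Subgroup.normalizer (Y : Set G))
    (hCL : L ⊓ Subgroup.centralizer (Y : Set G) ≤ P) :
    ∀ x ∈ M ⊔ Subgroup.normalizer (L : Set G), cj x Y ≤ P := by
  intro x hx
  have hA : ∀ a ∈ ((M : Set G) ∪ (Subgroup.normalizer (L : Set G) : Set G)),
      a⁻¹ ∈ ((M : Set G) ∪ (Subgroup.normalizer (L : Set G) : Set G)) := by
    rintro a (ha | ha)
    · exact Or.inl (M.inv_mem ha)
    · exact Or.inr (Subgroup.inv_mem _ ha)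
  have hx' : x ∈ Subgroup.closure ((M : Set G) ∪ (Subgroup.normalizer (L : Set G) : Set G)) := by
    rw [Subgroup.closure_union, Subgroup.closure_eq, Subgroup.closure_eq]; exact hx
  obtain ⟨n, hn⟩ := exists_wordSet_of_mem_closure _ hA x hx'
  exact asym_word hasym hMP hYP hPL hLY hCL n x hn

end Cfsg.Agent.helper14
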