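import Mathlib
import Cfsg.Prelude.Def_LocalStructure
import Cfsg.Agent.Lib_helper14_PReduced2
import Cfsg.Agent.Lib_helper14_OpSub
import Cfsg.Agent.Lib_helper7_Quot
import Cfsg.Agent.Lib_helper7_Cores
import Cfsg.Agent.Lib_helper7_Fitting

set_option autoImplicit false
open Cfsg
open scoped commutatorElement

namespace Cfsg.Agent.helper14

open Cfsg.Agent.helper7

theorem comm_of_isMulCommutative' {G : Type*} [Group G] {Y : Subgroup G}
    (hc : IsMulCommutative ↥Y) : ∀ a ∈ Y, ∀ b ∈ Y, a * b = b * a := by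
  intro a ha b hb
  exact congrArg Subtype.val (hc.is_comm.comm (⟨a, ha⟩ : ↥Y) ⟨b, hb⟩)

/-- A subnormal subgroup acting as a `p`-group on a `p`-reduced normal subgroup centralizes it. -/
theorem centralizes_of_sn_of_isPReducedNormal {L : Type*} [Group L] [Finite L] {p : ℕ}
    [hp : Fact p.Prime] (V : Subgroup L) (h : Cfsg.IsPReducedNormal p V) (X : Subgroup L)
    (hX : SN X ⊤)
    (hXp : ∀ x ∈ X, ∃ k : ℕ, x ^ p ^ k ∈ Subgroup.centralizer (V : Set L)) :
    X ≤ Subgroup.centralizer (V : Set L) := by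
  obtain ⟨hVn, _, hCn, hcore⟩ := h
  have hmapP : IsPGroup p (X.map (QuotientGroup.mk' (Subgroup.centralizer (V : Set L)))) := by
    rintro ⟨_, ⟨n, hn, rfl⟩⟩
    obtain ⟨k, hk⟩ := hXp n hn
    refine ⟨k, ?_⟩
    apply Subtype.ext
    simp only [Subgroup.coe_pow, Subgroup.coe_one]
    rw [← map_pow]
    exact (QuotientGroup.eq_one_iff _).mpr hk
  have hsn : SN (X.map (QuotientGroup.mk' (Subgroup.centralizer (V : Set L)))) ⊤ := by
    have := SN.map (QuotientGroup.mk' (Subgroup.centralizer (V : Set L))) hX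
    rwa [Subgroup.map_top_of_surjective _ (QuotientGroup.mk'_surjective _)] at this
  have hle := le_piCoreIn_of_sn hsn ((isPGroup_iff_piGrp hp.out).mp hmapP)
  rw [← pCore_eq hp.out, hcore, le_bot_iff, Subgroup.map_eq_bot_iff, QuotientGroup.ker_mk'] at hle
  exact hle

/-- Quadratic action on an elementary abelian `p`-group: `x ^ p` acts trivially. -/
theorem pow_p_mem_centralizer_of_quadratic {G : Type*} [Group G] {p : ℕ} (V : Subgroup G)
    (hVp : ∀ a ∈ V, a ^ p = 1) (x : G)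
    (hx : x ∈ Subgroup.normalizer (V : Set G))
    (hq : ∀ v ∈ V, x * (v⁻¹ * (x * v * x⁻¹)) = (v⁻¹ * (x * v * x⁻¹)) * x) :
    x ^ p ∈ Subgroup.centralizer (V : Set G) := by
  rw [Subgroup.mem_centralizer_iff]
  intro v hv
  have hxv : x * v * x⁻¹ ∈ V := (Subgroup.mem_normalizer_iff.mp hx v).mp hv
  have hc : v⁻¹ * (x * v * x⁻¹) ∈ V := V.mul_mem (V.inv_mem hv) hxv
  have aux : ∀ d : G, x * (v * d) * x⁻¹ = (x * v * x⁻¹) * (x * d * x⁻¹) := by
    intro d; group
  have e : v * (v⁻¹ * (x * v * x⁻¹)) = x * v * x⁻¹ := by group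
  have key : ∀ k : ℕ, x ^ k * v * (x ^ k)⁻¹ = v * (v⁻¹ * (x * v * x⁻¹)) ^ k := by
    intro k
    induction k with
    | zero => simp
    | succ k ih =>
      have h2 : Commute x (v⁻¹ * (x * v * x⁻¹)) := hq v hv
      have h3 := h2.pow_right k
      have hcomm : x * (v⁻¹ * (x * v * x⁻¹)) ^ k * x⁻¹ = (v⁻¹ * (x * v * x⁻¹)) ^ k := by
        rw [h3.eq, mul_assoc, mul_inv_cancel, mul_one]
      calc x ^ (k + 1) * v * (x ^ (k + 1))⁻¹ = x * (x ^ k * v * (x ^ k)⁻¹) * x⁻¹ := by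
            rw [pow_succ', mul_inv_rev]; simp only [mul_assoc]
        _ = x * (v * (v⁻¹ * (x * v * x⁻¹)) ^ k) * x⁻¹ := by rw [ih]
        _ = (x * v * x⁻¹) * (x * (v⁻¹ * (x * v * x⁻¹)) ^ k * x⁻¹) := aux _
        _ = (x * v * x⁻¹) * (v⁻¹ * (x * v * x⁻¹)) ^ k := by rw [hcomm]
        _ = v * (v⁻¹ * (x * v * x⁻¹)) ^ (k + 1) := by rw [pow_succ', ← mul_assoc v, e]
  have h := key p
  rw [hVp _ hc, mul_one] at h
  calc v * x ^ p = (x ^ p * v * (x ^ p)⁻¹) * x ^ p := by rw [h]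
    _ = x ^ p * v := by group

end Cfsg.Agent.helper14
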