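import Mathlib
import Cfsg.Prelude.Def_LocalStructure
import Cfsg.Agent.Lib_helper14_PReduced2
import Cfsg.Agent.Lib_helper14_PReduced5
import Cfsg.Agent.Lib_helper14_OpSub
import Cfsg.Agent.Lib_helper14_Large2
import Cfsg.Agent.Lib_helper14_Amalgam2
import Cfsg.Agent.Lib_helper19_HH0

set_option autoImplicit false
open Cfsg
open scoped commutatorElement

namespace Cfsg.Agent.helper14

open Cfsg.Agent.helper7

/-- A subnormal subgroup of `L` acting as a `p`-group on a `p`-reduced normal subgroup of `L`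
centralizes it (ambient form). -/
theorem PRedIn.centralizes_of_sn {H : Type*} [Group H] {p : ℕ} [Fact p.Prime] {L V : Subgroup H}
    [Finite L] (h : PRedIn p L V) (X : Subgroup H) (hX : SN X L)
    (hXp : ∀ x ∈ X, ∃ k : ℕ, x ^ p ^ k ∈ Subgroup.centralizer (V : Set H)) :
    X ≤ Subgroup.centralizer (V : Set H) := by
  have hVL := h.1
  have hmap : (V.subgroupOf L).map L.subtype = V := Subgroup.map_subgroupOf_eq_of_le hVL
  have h' : Cfsg.IsPReducedNormal p (V.subgroupOf L) :=
    isPReducedNormal_of_predIn L _ (by rw [hmap]; exact h)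
  have hX₀ : SN (X.subgroupOf L) ⊤ := sn_top_iff.mpr (sn_comap_subtype hX)
  have hle := centralizes_of_sn_of_isPReducedNormal (V.subgroupOf L) h' (X.subgroupOf L) hX₀ (by
    intro x hx
    obtain ⟨k, hk⟩ := hXp (x : H) (Subgroup.mem_subgroupOf.mp hx)
    refine ⟨k, ?_⟩
    rw [mem_centralizer_map_subtype_iff, hmap, Subgroup.coe_pow]
    exact hk)
  intro x hx
  have h1 : (⟨x, hX.le hx⟩ : L) ∈ Subgroup.centralizer ((V.subgroupOf L : Subgroup L) : Set L) :=
    hle (Subgroup.mem_subgroupOf.mpr hx)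
  rw [mem_centralizer_map_subtype_iff, hmap] at h1
  exact h1

/-- `N` subnormal in `M` (itself subnormal in the whole group) acting as a `p`-group on `Y ∩ N`,
`Y` a `p`-reduced normal subgroup of `M`: then `N` centralizes `Y`. -/
theorem PRedIn.centralizes_of_sn_of_inf {H : Type*} [Group H] [Finite H] {p : ℕ} [Fact p.Prime]
    {M Y : Subgroup H} (h : PRedIn p M Y) (hM : SN M ⊤) (N : Subgroup H) (hN : SN N M)
    (hNp : ∀ n ∈ N, ∃ k : ℕ, n ^ p ^ k ∈ Subgroup.centralizer ((Y ⊓ N : Subgroup H) : Set H)) :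
    N ≤ Subgroup.centralizer (Y : Set H) := by
  have h0 := h
  obtain ⟨hYM, hMY, hYc, hYexp, _⟩ := h
  have hNM : N ≤ M := hN.le
  have hNsn : SN N ⊤ := hN.trans hM
  have hXN : opOf p N ≤ N := opOf_le p N
  have hXsnN : SN (opOf p N) N := SN.of_normal hXN (le_normalizer_opOf p N)
  have hXsn : SN (opOf p N) ⊤ := hXsnN.trans hNsn
  have hYsn : SN Y ⊤ := (SN.of_normal hYM hMY).trans hM
  have hYp : IsPGroup p Y := by
    intro v
    refine ⟨1, ?_⟩
    apply Subtype.ext
    rw [pow_one, Subgroup.coe_pow, Subgroup.coe_one]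
    exact hYexp v v.2
  have hYX : Y ≤ Subgroup.normalizer ((opOf p N : Subgroup H) : Set H) :=
    le_normalizer_of_sn_pgroup Y (opOf p N) hYsn hXsn hYp (opOf_idem p N)
  have hXY : opOf p N ≤ Subgroup.normalizer (Y : Set H) := (hXN.trans hNM).trans hMY
  have hXW : opOf p N ≤ Subgroup.centralizer ((Y ⊓ N : Subgroup H) : Set H) := by
    show Subgroup.closure _ ≤ _
    rw [Subgroup.closure_le]
    rintro g ⟨hg, hco⟩
    obtain ⟨k, hk⟩ := hNp g hg
    exact mem_of_pow_mem_of_coprime' _ g k hk hco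
  have hXC : opOf p N ≤ Subgroup.centralizer (Y : Set H) := by
    apply h0.centralizes_of_sn _ (hXsnN.trans hN)
    intro x hx
    refine ⟨1, ?_⟩
    rw [pow_one]
    apply pow_p_mem_centralizer_of_quadratic Y hYexp x (hXY hx)
    intro v hv
    have hc : v⁻¹ * (x * v * x⁻¹) ∈ Y ⊓ N := by
      constructor
      · exact Y.mul_mem (Y.inv_mem hv) ((Subgroup.mem_normalizer_iff.mp (hXY hx) v).mp hv)
      · have h1 : v⁻¹ * x * v⁻¹⁻¹ ∈ opOf p N :=
          (Subgroup.mem_normalizer_iff.mp (hYX (Y.inv_mem hv)) x).mp hx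
        have e : v⁻¹ * (x * v * x⁻¹) = (v⁻¹ * x * v⁻¹⁻¹) * x⁻¹ := by group
        rw [e]
        exact hXN ((opOf p N).mul_mem h1 ((opOf p N).inv_mem hx))
    exact ((Subgroup.mem_centralizer_iff.mp (hXW hx)) _ hc).symm
  apply h0.centralizes_of_sn N hN
  intro n hn
  exact ⟨_, hXC (pow_mem_opOf hn)⟩

/-- Conjugation transport of `PRedIn`. -/
theorem predIn_cj {H : Type*} [Group H] {p : ℕ} {L V : Subgroup H} (h : PRedIn p L V) (g : H) :
    PRedIn p (cj g L) (cj g V) := by
  obtain ⟨hVL, hLV, hc, hpw, hN⟩ := h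
  refine ⟨cj_mono hVL, ?_, ?_, ?_, ?_⟩
  · rw [← cj_normalizer]; exact cj_mono hLV
  · intro a ha b hb
    rw [mem_cj] at ha hb
    have h1 := hc _ ha _ hb
    have e1 : a * b = g * ((g⁻¹ * a * g) * (g⁻¹ * b * g)) * g⁻¹ := by group
    have e2 : b * a = g * ((g⁻¹ * b * g) * (g⁻¹ * a * g)) * g⁻¹ := by group
    rw [e1, e2, h1]
  · intro a ha
    rw [mem_cj] at ha
    have h1 := hpw _ ha
    have e : (g⁻¹ * a * g) ^ p = g⁻¹ * a ^ p * g := by
      have := conj_pow (a := g⁻¹) (b := a) (i := p)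
      rw [inv_inv] at this
      exact this
    rw [e] at h1
    have e2 : a ^ p = g * (g⁻¹ * a ^ p * g) * g⁻¹ := by group
    rw [e2, h1]; group
  · intro N hNL hLN hNp
    have h1 : cj g⁻¹ N ≤ L := by
      have := (cj_le_iff (g := g⁻¹) (H := N) (K := L)).mpr (by rw [inv_inv]; exact hNL)
      exact this
    have h2 : L ≤ Subgroup.normalizer ((cj g⁻¹ N : Subgroup H) : Set H) := by
      rw [← cj_normalizer, ← cj_le_iff]
      exact hLN
    have h3 := hN (cj g⁻¹ N) h1 h2 (by
      intro n hn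
      rw [mem_cj, inv_inv] at hn
      obtain ⟨k, hk⟩ := hNp _ hn
      refine ⟨k, ?_⟩
      rw [← cj_centralizer, mem_cj] at hk
      have e : g⁻¹ * (g * n * g⁻¹) ^ p ^ k * g = n ^ p ^ k := by
        rw [conj_pow]; group
      rwa [e] at hk)
    have h4 := (cj_le_iff (g := g⁻¹) (H := N)
      (K := Subgroup.centralizer (V : Set H))).mp h3
    rw [inv_inv, cj_centralizer] at h4
    exact h4

theorem normalizer_le_normalizer_largestPReducedOf {H : Type*} [Group H] [Finite H] {p : ℕ}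
    [Fact p.Prime] (L : Subgroup H) :
    Subgroup.normalizer (L : Set H) ≤
      Subgroup.normalizer ((Cfsg.largestPReducedOf p L : Subgroup H) : Set H) := by
  apply le_normalizer_of_map_conj_le
  intro g hg
  have h1 := predIn_cj (predIn_largestPReducedOf (p := p) L) g
  rw [cj_eq_of_mem_normalizer hg] at h1
  exact le_largestPReducedOf L _ h1

/-- `U` elementary abelian, `x` a `p'`-element normalizing `U`, `R` acting on `U` as a `p`-group
and normalizing `[U, x]`, with `C_U(R) ≤ C_U(x)`: then `x` centralizes `U`. -/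
theorem centralizes_of_PQ {H : Type*} [Group H] [Finite H] {p : ℕ} [Fact p.Prime]
    (U R : Subgroup H) (x : H)
    (hUc : ∀ a ∈ U, ∀ b ∈ U, a * b = b * a) (hUp : ∀ a ∈ U, a ^ p = 1)
    (hxU : x ∈ Subgroup.normalizer (U : Set H)) (hxco : (orderOf x).Coprime p)
    (hRU : R ≤ Subgroup.normalizer (U : Set H))
    (hRp : ∀ r ∈ R, ∃ k : ℕ, r ^ p ^ k ∈ Subgroup.centralizer (U : Set H))
    (hRW : R ≤ Subgroup.normalizer ((⁅U, Subgroup.zpowers x⁆ : Subgroup H) : Set H))
    (hfix : ∀ w ∈ U, w ∈ Subgroup.centralizer (R : Set H) → x * w = w * x) :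
    x ∈ Subgroup.centralizer (U : Set H) := by
  have hZU : Subgroup.zpowers x ≤ Subgroup.normalizer (U : Set H) :=
    Subgroup.zpowers_le.mpr hxU
  have hWU : ⁅U, Subgroup.zpowers x⁆ ≤ U := commutator_le_left_of_le_normalizer _ _ hZU
  have hUpg : IsPGroup p U := by
    intro v
    refine ⟨1, ?_⟩
    apply Subtype.ext
    rw [pow_one, Subgroup.coe_pow, Subgroup.coe_one]
    exact hUp v v.2
  by_cases hW : ⁅U, Subgroup.zpowers x⁆ = ⊥
  · rw [Subgroup.mem_centralizer_iff]
    intro u hu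
    have h1 : ⁅u, x⁆ ∈ ⁅U, Subgroup.zpowers x⁆ :=
      Subgroup.commutator_mem_commutator hu (Subgroup.mem_zpowers x)
    rw [hW, Subgroup.mem_bot, commutatorElement_def] at h1
    have : u * x = (u * x * u⁻¹ * x⁻¹) * (x * u) := by group
    rw [this, h1, one_mul]
  · exfalso
    obtain S : Sylow p R := default
    have hS'p : IsPGroup p ((S : Subgroup R).map R.subtype) := S.isPGroup'.map _
    have hS'R : (S : Subgroup R).map R.subtype ≤ R := Subgroup.map_subtype_le _
    have hne := inf_centralizer_ne_bot_of_le_normalizer (⁅U, Subgroup.zpowers x⁆)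
      ((S : Subgroup R).map R.subtype) (hUpg.to_le hWU) hS'p hW (hS'R.trans hRW)
    obtain ⟨w, hw, hw1⟩ : ∃ w ∈ (⁅U, Subgroup.zpowers x⁆ ⊓ Subgroup.centralizer
        ((((S : Subgroup R).map R.subtype : Subgroup H)) : Set H) : Subgroup H), w ≠ 1 := by
      by_contra hcon
      push Not at hcon
      exact hne ((Subgroup.eq_bot_iff_forall _).mpr hcon)
    have hwW : (w : H) ∈ ⁅U, Subgroup.zpowers x⁆ := hw.1
    have hwS : (w : H) ∈ Subgroup.centralizer
        ((((S : Subgroup R).map R.subtype : Subgroup H)) : Set H) := hw.2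
    have hwR : (w : H) ∈ Subgroup.centralizer (R : Set H) := by
      rw [Subgroup.mem_centralizer_iff]
      intro r hr
      obtain ⟨s, hs, d, hd, rfl⟩ := exists_sylow_mul_centralizer R S U R le_rfl hRU
        Subgroup.le_normalizer hRp r hr
      have h1 : s * w = w * s := (Subgroup.mem_centralizer_iff.mp hwS s hs)
      have h2 : w * d = d * w := (Subgroup.mem_centralizer_iff.mp hd w (hWU hwW))
      rw [mul_assoc, ← h2, ← mul_assoc, h1, mul_assoc]
    have hxw : x * w = w * x := hfix w (hWU hwW) hwR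
    have hbotN : Subgroup.normalizer (((⊥ : Subgroup H) : Subgroup H) : Set H) = ⊤ :=
      Subgroup.normalizer_eq_top_iff.mpr inferInstance
    have hmem : (w : H) ∈ (⊥ : Subgroup H) := by
      apply Cfsg.Agent.helper19.coprime_fixed_mem U ⊥ (Subgroup.zpowers x) hUpg bot_le
        (by rw [hbotN]; exact le_top) hZU (by rw [hbotN]; exact le_top) ?_ ?_ w (hWU hwW) ?_ ?_
      · rw [Subgroup.commutator_le]
        intro a ha b hb
        rw [Subgroup.mem_bot, commutatorElement_def, hUc a ha b hb]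
        group
      · rw [Nat.card_zpowers]; exact hxco
      · rw [sup_bot_eq]; exact hwW
      · intro a ha
        rw [Subgroup.mem_bot]
        obtain ⟨i, rfl⟩ := Subgroup.mem_zpowers_iff.mp ha
        have hc : Commute x w := hxw
        have := (hc.zpow_left i).eq
        rw [this]; group
    exact hw1 (Subgroup.mem_bot.mp hmem)

/-- Normal case: `L ⊴ K`. Then `C_L(Y_K ∩ L) ≤ C_L(Y_L)`. -/
theorem inf_centralizer_le_of_normal {H : Type*} [Group H] [Finite H] {p : ℕ} [hp : Fact p.Prime]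
    (L K : Subgroup H) (hLK : L ≤ K) (hKL : K ≤ Subgroup.normalizer (L : Set H)) :
    L ⊓ Subgroup.centralizer ((Cfsg.largestPReducedOf p K ⊓ L : Subgroup H) : Set H) ≤
      Subgroup.centralizer ((Cfsg.largestPReducedOf p L : Subgroup H) : Set H) := by
  have hYL : PRedIn p L (Cfsg.largestPReducedOf p L) := predIn_largestPReducedOf L
  have hKYL : K ≤ Subgroup.normalizer ((Cfsg.largestPReducedOf p L : Subgroup H) : Set H) :=
    hKL.trans (normalizer_le_normalizer_largestPReducedOf L)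
  let 𝒴 : Set (Subgroup H) := {U | U ≤ Cfsg.largestPReducedOf p L ∧
    K ≤ Subgroup.normalizer (U : Set H) ∧
    L ⊓ Subgroup.centralizer (U : Set H) ≤
      Subgroup.centralizer ((Cfsg.largestPReducedOf p L : Subgroup H) : Set H)}
  have hne : 𝒴.Nonempty := ⟨Cfsg.largestPReducedOf p L, le_rfl, hKYL, inf_le_right⟩
  obtain ⟨U, hU𝒴, hUmin⟩ := WellFounded.has_min
    (wellFounded_lt : WellFounded ((· < ·) : Subgroup H → Subgroup H → Prop)) 𝒴 hne
  obtain ⟨hUY, hKU, hUC⟩ := hU𝒴
  have hUcomm : ∀ a ∈ U, ∀ b ∈ U, a * b = b * a :=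
    fun a ha b hb => hYL.2.2.1 a (hUY ha) b (hUY hb)
  have hUexp : ∀ a ∈ U, a ^ p = 1 := fun a ha => hYL.2.2.2.1 a (hUY ha)
  have hUL : PRedIn p L U := by
    refine ⟨hUY.trans hYL.1, hLK.trans hKU, hUcomm, hUexp, ?_⟩
    intro N hNL hLN hNp
    have h1 : N ≤ Subgroup.centralizer ((Cfsg.largestPReducedOf p L : Subgroup H) : Set H) := by
      apply hYL.2.2.2.2 N hNL hLN
      intro n hn
      obtain ⟨k, hk⟩ := hNp n hn
      exact ⟨k, hUC ⟨L.pow_mem (hNL hn) _, hk⟩⟩
    exact h1.trans (Subgroup.centralizer_le (SetLike.coe_subset_coe.mpr hUY))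
  have hUK : PRedIn p K U := by
    refine ⟨(hUY.trans hYL.1).trans hLK, hKU, hUcomm, hUexp, ?_⟩
    intro P hPK hKP hPp
    by_contra hPC
    have hU₁lt : U ⊓ Subgroup.centralizer (P : Set H) < U := by
      apply lt_of_le_of_ne inf_le_left
      intro heq
      apply hPC
      rw [Subgroup.le_centralizer_iff]
      rw [← heq]
      exact inf_le_right
    have hKU₁ : K ≤ Subgroup.normalizer
        ((U ⊓ Subgroup.centralizer (P : Set H) : Subgroup H) : Set H) :=
      le_normalizer_inf' hKU (hKP.trans (normalizer_le_normalizer_centralizer P))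
    have hPL : P ⊓ L ≤ Subgroup.centralizer (U : Set H) :=
      hUL.2.2.2.2 (P ⊓ L) inf_le_right (hLK.trans (le_normalizer_inf' hKP hKL))
        (fun n hn => hPp n hn.1)
    have hcomm : ∀ g ∈ P, ∀ y ∈ L, g * y * g⁻¹ * y⁻¹ ∈ Subgroup.centralizer (U : Set H) := by
      intro g hg y hy
      apply hPL
      constructor
      · have h1 : y * g⁻¹ * y⁻¹ ∈ P :=
          (Subgroup.mem_normalizer_iff.mp (hKP (hLK hy)) g⁻¹).mp (P.inv_mem hg)
        have e : g * y * g⁻¹ * y⁻¹ = g * (y * g⁻¹ * y⁻¹) := by group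
        rw [e]; exact P.mul_mem hg h1
      · have h1 : g * y * g⁻¹ ∈ L := (Subgroup.mem_normalizer_iff.mp (hKL (hPK hg)) y).mp hy
        exact L.mul_mem h1 (L.inv_mem hy)
    have hA : L ⊓ Subgroup.centralizer
        ((U ⊓ Subgroup.centralizer (P : Set H) : Subgroup H) : Set H) ≤
        Subgroup.centralizer (U : Set H) := by
      apply hUL.2.2.2.2 _ inf_le_left (le_normalizer_inf_centralizer L _ (hLK.trans hKU₁))
      intro a ha
      refine ⟨(orderOf a).factorization p, ?_⟩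
      have hxA : a ^ p ^ (orderOf a).factorization p ∈ L ⊓ Subgroup.centralizer
          ((U ⊓ Subgroup.centralizer (P : Set H) : Subgroup H) : Set H) :=
        Subgroup.pow_mem _ ha _
      have hxco : (orderOf (a ^ p ^ (orderOf a).factorization p)).Coprime p := by
        have hpos : 0 < orderOf a := orderOf_pos a
        rw [orderOf_pow' a (pow_ne_zero _ hp.out.ne_zero),
          Nat.gcd_eq_right (Nat.ordProj_dvd (orderOf a) p)]
        exact (Nat.coprime_ordCompl hp.out hpos.ne').symm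
      generalize a ^ p ^ (orderOf a).factorization p = x at hxA hxco
      apply centralizes_of_PQ U P x hUcomm hUexp (hKU (hLK hxA.1)) hxco (hPK.trans hKU) hPp
      · apply le_normalizer_of_map_conj_le
        intro g hg
        rw [Subgroup.map_commutator, Subgroup.commutator_le]
        rintro _ ⟨u, hu, rfl⟩ _ ⟨y, hy, rfl⟩
        have hyL : y ∈ L := (Subgroup.zpowers_le.mpr hxA.1) hy
        have hu' : g * u * g⁻¹ ∈ U := (Subgroup.mem_normalizer_iff.mp (hKU (hPK hg)) u).mp hu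
        have hc := hcomm g hg y hyL
        simp only [MulEquiv.coe_toMonoidHom, MulAut.conj_apply]
        have hm : ⁅g * u * g⁻¹, y⁆ ∈ U := by
          rw [commutatorElement_def]
          have h1 : y * (g * u * g⁻¹)⁻¹ * y⁻¹ ∈ U :=
            (Subgroup.mem_normalizer_iff.mp (hKU (hLK hyL)) _).mp (U.inv_mem hu')
          have e : g * u * g⁻¹ * y * (g * u * g⁻¹)⁻¹ * y⁻¹ =
              (g * u * g⁻¹) * (y * (g * u * g⁻¹)⁻¹ * y⁻¹) := by group
          rw [e]; exact U.mul_mem hu' h1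
        have h1 : g * u * g⁻¹ * (g * y * g⁻¹ * y⁻¹) = (g * y * g⁻¹ * y⁻¹) * (g * u * g⁻¹) :=
          Subgroup.mem_centralizer_iff.mp hc _ hu'
        have h2 : ⁅g * u * g⁻¹, y⁆ * (g * y * g⁻¹ * y⁻¹) =
            (g * y * g⁻¹ * y⁻¹) * ⁅g * u * g⁻¹, y⁆ :=
          Subgroup.mem_centralizer_iff.mp hc _ hm
        have key : ⁅g * u * g⁻¹, g * y * g⁻¹⁆ = ⁅g * u * g⁻¹, y⁆ := by
          have e1 : ⁅g * u * g⁻¹, g * y * g⁻¹⁆ =
              (g * u * g⁻¹ * (g * y * g⁻¹ * y⁻¹)) * (y * (g * u * g⁻¹)⁻¹ * y⁻¹) *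
                (g * y * g⁻¹ * y⁻¹)⁻¹ := by
            rw [commutatorElement_def]; group
          have e2 : (g * y * g⁻¹ * y⁻¹) * (g * u * g⁻¹) * (y * (g * u * g⁻¹)⁻¹ * y⁻¹) *
              (g * y * g⁻¹ * y⁻¹)⁻¹ =
              ((g * y * g⁻¹ * y⁻¹) * ⁅g * u * g⁻¹, y⁆) * (g * y * g⁻¹ * y⁻¹)⁻¹ := by
            rw [commutatorElement_def]; group
          rw [e1, h1, e2, ← h2, mul_assoc, mul_inv_cancel, mul_one]
        rw [key]
        exact Subgroup.commutator_mem_commutator hu' hy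
      · intro w hwU hwP
        exact (Subgroup.mem_centralizer_iff.mp hxA.2 w ⟨hwU, hwP⟩).symm
    exact hUmin _ ⟨inf_le_left.trans hUY, hKU₁, fun z hz => hUC ⟨hz.1, hA hz⟩⟩ hU₁lt
  have hUYK : U ≤ Cfsg.largestPReducedOf p K := le_largestPReducedOf K U hUK
  intro z hz
  apply hUC
  exact ⟨hz.1, Subgroup.centralizer_le
    (SetLike.coe_subset_coe.mpr (le_inf hUYK (hUY.trans hYL.1))) hz.2⟩

theorem predIn_top_of_isPReducedNormal {H : Type*} [Group H] {p : ℕ} [Fact p.Prime]
    (V : Subgroup H) (h : Cfsg.IsPReducedNormal p V) : PRedIn p ⊤ V := by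
  have hP := predProp_of_isPReducedNormal V h
  obtain ⟨hVn, ⟨hVc, hVp⟩, _⟩ := h
  refine ⟨le_top, ?_, comm_of_isMulCommutative' hVc, hVp, ?_⟩
  · rw [Subgroup.normalizer_eq_top_iff.mpr hVn]
  · intro N _ hN hNp
    have hNn : N.Normal := Subgroup.normalizer_eq_top_iff.mp (top_le_iff.mp hN)
    exact hP N hNn hNp

theorem isPReducedNormal_of_predIn_top {H : Type*} [Group H] {p : ℕ} [Fact p.Prime]
    (V : Subgroup H) (h : PRedIn p ⊤ V) : Cfsg.IsPReducedNormal p V := by
  obtain ⟨_, hTV, hc, hpw, hN⟩ := h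
  have hVn : V.Normal := Subgroup.normalizer_eq_top_iff.mp (top_le_iff.mp hTV)
  apply isPReducedNormal_of_predProp V hVn
  · refine ⟨⟨⟨fun a b => ?_⟩⟩, hpw⟩
    exact Subtype.ext (hc a a.2 b b.2)
  · intro N hNn hNp
    exact hN N le_top (by rw [Subgroup.normalizer_eq_top_iff.mpr hNn]) hNp

theorem predIn_top_largestPReduced {H : Type*} [Group H] [Finite H] {p : ℕ} [Fact p.Prime] :
    PRedIn p ⊤ (Cfsg.largestPReduced p H) :=
  predIn_top_of_isPReducedNormal _ isPReducedNormal_largestPReduced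

theorem le_largestPReduced_of_predIn_top {H : Type*} [Group H] {p : ℕ} [Fact p.Prime]
    (V : Subgroup H) (h : PRedIn p ⊤ V) : V ≤ Cfsg.largestPReduced p H := by
  have h2 := isPReducedNormal_of_predIn_top V h
  unfold Cfsg.largestPReduced
  exact le_sSup h2

/-- `Y_H ∩ L` is `p`-reduced in the subnormal subgroup `L`. -/
theorem predIn_inf_of_subnormal {H : Type*} [Group H] [Finite H] {p : ℕ} [Fact p.Prime]
    (L : Subgroup H) (hLsn : SN L ⊤) : PRedIn p L (Cfsg.largestPReduced p H ⊓ L) := by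
  have hYh : PRedIn p ⊤ (Cfsg.largestPReduced p H) := predIn_top_largestPReduced
  refine ⟨inf_le_right, le_normalizer_inf' (le_top.trans hYh.2.1) Subgroup.le_normalizer,
    fun a ha b hb => hYh.2.2.1 a ha.1 b hb.1, fun a ha => hYh.2.2.2.1 a ha.1, ?_⟩
  intro N hNL hLN hNp
  have hNsn : SN N ⊤ := (SN.of_normal hNL hLN).trans hLsn
  have h1 : N ≤ Subgroup.centralizer ((Cfsg.largestPReduced p H : Subgroup H) : Set H) :=
    hYh.centralizes_of_sn_of_inf (SN.refl ⊤) N hNsn (by
      intro n hn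
      obtain ⟨k, hk⟩ := hNp n hn
      exact ⟨k, Subgroup.centralizer_le
        (SetLike.coe_subset_coe.mpr (inf_le_inf_left _ hNL)) hk⟩)
  exact h1.trans (Subgroup.centralizer_le (SetLike.coe_subset_coe.mpr inf_le_left))

/-- `C_L(Y_H ∩ L) ≤ C_L(Y_H)` for subnormal `L`. -/
theorem inf_centralizer_le_largestPReduced {H : Type*} [Group H] [Finite H] {p : ℕ}
    [Fact p.Prime] (L : Subgroup H) (hLsn : SN L ⊤) :
    L ⊓ Subgroup.centralizer ((Cfsg.largestPReduced p H ⊓ L : Subgroup H) : Set H) ≤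
      Subgroup.centralizer ((Cfsg.largestPReduced p H : Subgroup H) : Set H) := by
  have hYh : PRedIn p ⊤ (Cfsg.largestPReduced p H) := predIn_top_largestPReduced
  have hYhL := predIn_inf_of_subnormal (p := p) L hLsn
  have hNn := le_normalizer_inf_centralizer L _ hYhL.2.1
  have hNsn : SN (L ⊓ Subgroup.centralizer
      ((Cfsg.largestPReduced p H ⊓ L : Subgroup H) : Set H)) ⊤ :=
    (SN.of_normal inf_le_left hNn).trans hLsn
  apply hYh.centralizes_of_sn_of_inf (SN.refl ⊤) _ hNsn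
  intro n hn
  refine ⟨0, ?_⟩
  rw [pow_zero, pow_one]
  exact Subgroup.centralizer_le
    (SetLike.coe_subset_coe.mpr (inf_le_inf_left _ inf_le_left)) hn.2

/-- `C_L(Y_H ∩ L) ≤ C_L(Y_L)` for subnormal `L`. -/
theorem inf_centralizer_le_of_subnormal {H : Type*} [Group H] [Finite H] {p : ℕ} [Fact p.Prime]
    (L : Subgroup H) (hL : L.IsSubnormal) :
    L ⊓ Subgroup.centralizer ((Cfsg.largestPReduced p H ⊓ L : Subgroup H) : Set H) ≤
      Subgroup.centralizer ((Cfsg.largestPReducedOf p L : Subgroup H) : Set H) := by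
  induction hL with
  | top =>
    have h1 : Cfsg.largestPReducedOf p (⊤ : Subgroup H) ≤ Cfsg.largestPReduced p H :=
      le_largestPReduced_of_predIn_top _ (predIn_largestPReducedOf (p := p) (⊤ : Subgroup H))
    intro z hz
    exact Subgroup.centralizer_le (SetLike.coe_subset_coe.mpr (le_inf h1 le_top)) hz.2
  | step L K hLK hK hN ih =>
    have hKsn : SN K ⊤ := sn_top_iff.mpr hK
    have hKL : K ≤ Subgroup.normalizer (L : Set H) :=
      (Subgroup.normal_subgroupOf_iff_le_normalizer hLK).mp hN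
    have hLsn : SN L ⊤ := (SN.of_normal hLK hKL).trans hKsn
    intro z hz
    have hzYh := inf_centralizer_le_largestPReduced (p := p) L hLsn hz
    have hzK : z ∈ Subgroup.centralizer ((Cfsg.largestPReducedOf p K : Subgroup H) : Set H) :=
      ih ⟨hLK hz.1, Subgroup.centralizer_le (SetLike.coe_subset_coe.mpr inf_le_left) hzYh⟩
    exact inf_centralizer_le_of_normal L K hLK hKL
      ⟨hz.1, Subgroup.centralizer_le (SetLike.coe_subset_coe.mpr inf_le_left) hzK⟩

end Cfsg.Agent.helper14
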