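import Mathlib
import Cfsg.Prelude.Def_LocalStructure
import Cfsg.Agent.Lib_helper14_Kieler
import Cfsg.Agent.Lib_helper14_ParaChar
import Cfsg.Agent.Lib_helper14_PReduced6

set_option autoImplicit false
set_option linter.style.haveILetI false
open Cfsg
open scoped Pointwise

/-!
# Members of `𝔐_H` (the basic property): existence (helper14)
-/

namespace Cfsg.Agent.helper14

open Cfsg.Agent.helper7

variable {H : Type*} [Group H]

/-- ambient form of membership in `𝓛_H` -/
def LH (p : ℕ) (X : Subgroup H) : Prop :=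
  Cfsg.pCoreOf p X ≠ ⊥ ∧
    Subgroup.centralizer ((Cfsg.pCoreOf p X : Subgroup H) : Set H) ≤ Cfsg.pCoreOf p X

theorem mem_charPSubgroups_iff (p : ℕ) (X : Subgroup H) :
    X ∈ Cfsg.charPSubgroups p H ↔ LH p X := by
  unfold Cfsg.charPSubgroups LH Cfsg.pCoreOf
  simp only [Set.mem_setOf_eq]
  constructor
  · rintro ⟨h1, h2⟩
    refine ⟨fun h => h1 ((Subgroup.map_eq_bot_iff_of_injective _
      (Subgroup.subtype_injective X)).mp h), h2⟩
  · rintro ⟨h1, h2⟩
    exact ⟨fun h => h1 (by rw [h, Subgroup.map_bot]), h2⟩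

theorem pCoreOf_le_of_sylow_le [Finite H] {p : ℕ} [Fact p.Prime] (T : Sylow p H) (X : Subgroup H)
    (hTX : (T : Subgroup H) ≤ X) : Cfsg.pCoreOf p X ≤ T := by
  apply pCoreOf_le_of_not_dvd X T hTX T.isPGroup'
  intro h
  exact T.not_dvd_index (h.trans (Subgroup.relIndex_dvd_index_of_le hTX))

theorem lh_of_parabolic [Finite H] {p : ℕ} [Fact p.Prime]
    (hH : Cfsg.IsOfParabolicCharacteristic p H) (T : Sylow p H) (X : Subgroup H)
    (hTX : (T : Subgroup H) ≤ X) (hX1 : Cfsg.pCoreOf p X ≠ ⊥) : LH p X := by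
  refine ⟨hX1, ?_⟩
  have hRp : IsPGroup p (Cfsg.pCoreOf p X) := pCoreOf_isPGroup X
  have hXN : X ≤ Subgroup.normalizer ((Cfsg.pCoreOf p X : Subgroup H) : Set H) :=
    le_normalizer_pCoreOf p X
  have hpar : Cfsg.IsParabolic p
      (Subgroup.normalizer ((Cfsg.pCoreOf p X : Subgroup H) : Set H)) := ⟨T, hTX.trans hXN⟩
  have hN := charp_ambient _ (hH _ hRp hX1 hpar)
  have h1 : Cfsg.pCoreOf p X ≤
      Cfsg.pCoreOf p (Subgroup.normalizer ((Cfsg.pCoreOf p X : Subgroup H) : Set H)) :=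
    le_pCoreOf_of_normal _ _ ((pCoreOf_le p X).trans hXN) le_rfl hRp
  have h2 : Cfsg.pCoreOf p (Subgroup.normalizer ((Cfsg.pCoreOf p X : Subgroup H) : Set H)) ≤
      Cfsg.pCoreOf p X :=
    le_pCoreOf_of_normal X _ ((pCoreOf_le_of_sylow_le T _ (hTX.trans hXN)).trans hTX)
      (hXN.trans (le_normalizer_pCoreOf p _)) (pCoreOf_isPGroup _)
  have h3 : Cfsg.pCoreOf p (Subgroup.normalizer ((Cfsg.pCoreOf p X : Subgroup H) : Set H)) =
      Cfsg.pCoreOf p X := le_antisymm h2 h1
  intro x hx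
  have hx' : x ∈ Subgroup.normalizer ((Cfsg.pCoreOf p X : Subgroup H) : Set H) ⊓
      Subgroup.centralizer ((Cfsg.pCoreOf p
        (Subgroup.normalizer ((Cfsg.pCoreOf p X : Subgroup H) : Set H)) : Subgroup H) : Set H) := by
    refine Subgroup.mem_inf.mpr ⟨Subgroup.centralizer_le_normalizer _ hx, ?_⟩
    rw [h3]; exact hx
  have := hN hx'
  rwa [h3] at this

theorem le_centralizer_iSup {ι : Sort*} (N : Subgroup H) (K : ι → Subgroup H)
    (h : ∀ i, N ≤ Subgroup.centralizer ((K i : Subgroup H) : Set H)) :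
    N ≤ Subgroup.centralizer (((⨆ i, K i : Subgroup H)) : Set H) := by
  rw [Subgroup.le_centralizer_iff]
  apply iSup_le
  intro i
  rw [Subgroup.le_centralizer_iff]
  exact h i

/-- Monotonicity of `Y`: if `T ≤ L ≤ M` with `M ∈ 𝓛_H` then every `p`-reduced normal subgroup of
`L` lies in `Y_M`. -/
theorem le_largestPReducedOf_of_le [Finite H] {p : ℕ} [Fact p.Prime] (T : Sylow p H)
    (L M : Subgroup H) (hTL : (T : Subgroup H) ≤ L) (hLM : L ≤ M) (hM : LH p M)
    {Y : Subgroup H} (hY : PRedIn p L Y) : Y ≤ Cfsg.largestPReducedOf p M := by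
  have hTM : (T : Subgroup H) ≤ M := hTL.trans hLM
  have hQT : Cfsg.pCoreOf p M ≤ T := pCoreOf_le_of_sylow_le T M hTM
  have hMQ : M ≤ Subgroup.normalizer ((Cfsg.pCoreOf p M : Subgroup H) : Set H) :=
    le_normalizer_pCoreOf p M
  have hQL : Cfsg.pCoreOf p M ≤ Cfsg.pCoreOf p L :=
    le_pCoreOf_of_normal L _ (hQT.trans hTL) (hLM.trans hMQ) (pCoreOf_isPGroup M)
  have hQcY : Cfsg.pCoreOf p M ≤ Subgroup.centralizer (Y : Set H) :=
    hQL.trans hY.pCoreOf_le_centralizer
  have hYcQ : Y ≤ Subgroup.centralizer ((Cfsg.pCoreOf p M : Subgroup H) : Set H) :=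
    Subgroup.le_centralizer_iff.mp hQcY
  have hYQ : Y ≤ Cfsg.pCoreOf p M := hYcQ.trans hM.2
  have hZc := comm_inf_centralizer (Cfsg.pCoreOf p M)
  have hMZ : M ≤ Subgroup.normalizer ((Cfsg.pCoreOf p M ⊓
      Subgroup.centralizer ((Cfsg.pCoreOf p M : Subgroup H) : Set H) : Subgroup H) : Set H) :=
    le_normalizer_inf' hMQ (hMQ.trans (normalizer_le_normalizer_centralizer _))
  have hME := le_normalizer_commOmega p _ M hZc hMZ
  have hYE : Y ≤ commOmega p _ hZc := by
    intro y hy
    exact ⟨Subgroup.mem_inf.mpr ⟨hYQ hy, hYcQ hy⟩, hY.2.2.2.1 y hy⟩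
  have hEM : commOmega p _ hZc ≤ M := by
    intro x hx
    exact pCoreOf_le p M hx.1.1
  -- the normal closure
  obtain ⟨W, hWdef⟩ : ∃ W : Subgroup H, W = ⨆ m : ↥M, cj (m : H) Y := ⟨_, rfl⟩
  have hWE : W ≤ commOmega p _ hZc := by
    rw [hWdef]
    apply iSup_le
    intro m
    have := cj_mono (g := (m : H)) hYE
    rwa [cj_eq_of_mem_normalizer (hME m.2)] at this
  have hYW : Y ≤ W := by
    rw [hWdef]
    have := le_iSup (fun m : ↥M => cj (m : H) Y) 1
    simpa [cj_one] using this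
  have hMW : M ≤ Subgroup.normalizer (W : Set H) := by
    apply le_normalizer_of_map_conj_le
    intro g hg
    rw [hWdef, Subgroup.map_iSup]
    apply iSup_le
    intro m
    have h1 : (cj (m : H) Y).map (MulAut.conj g).toMonoidHom = cj (g * (m : H)) Y := cj_cj g m Y
    rw [h1]
    exact le_iSup (fun m : ↥M => cj (m : H) Y) ⟨g * m, M.mul_mem hg m.2⟩
  have hW : PRedIn p M W := by
    refine ⟨hWE.trans hEM, hMW, ?_, ?_, ?_⟩
    · intro a ha b hb
      exact hZc a (hWE ha).1 b (hWE hb).1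
    · intro a ha
      exact (hWE ha).2
    · intro N hNM hMN hNp
      have hMCW : M ≤ Subgroup.normalizer ((M ⊓ Subgroup.centralizer (W : Set H) : Subgroup H) :
          Set H) := le_normalizer_inf_centralizer M W hMW
      have hCWY : Subgroup.centralizer (W : Set H) ≤ Subgroup.centralizer (Y : Set H) :=
        Subgroup.centralizer_le (SetLike.coe_subset_coe.mpr hYW)
      -- the auxiliary normal subgroup of `L`
      have hN1 : (N ⊔ (M ⊓ Subgroup.centralizer (W : Set H))) ⊓ L ≤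
          Subgroup.centralizer (Y : Set H) := by
        apply hY.2.2.2.2 _ inf_le_right
        · apply le_normalizer_inf' _ Subgroup.le_normalizer
          exact (le_inf (hLM.trans hMN) (hLM.trans hMCW)).trans
            (Subgroup.normalizer_inf_normalizer_le_normalizer_sup _ _)
        · intro x hx
          have hx1 : x ∈ ((N ⊔ (M ⊓ Subgroup.centralizer (W : Set H)) : Subgroup H) : Set H) :=
            hx.1
          rw [Subgroup.coe_mul_of_left_le_normalizer_right N _ (hNM.trans hMCW)] at hx1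
          obtain ⟨n, hn, c, hc, rfl⟩ := hx1
          obtain ⟨k, hk⟩ := hNp n hn
          obtain ⟨c', hc', h⟩ := pow_mul_mem_of_mem_normalizer _ n c (hMCW (hNM hn)) hc (p ^ k)
          refine ⟨k, ?_⟩
          rw [h]
          exact hCWY (Subgroup.mul_mem _ hk hc'.2)
      have hNY : N ≤ Subgroup.centralizer (Y : Set H) := by
        intro n hn
        obtain ⟨s, hs, d, hd, hsd⟩ := exists_sylow_mul_centralizer M (T.subtype hTM) W N hNM hMW
          hMN hNp n hn
        rw [Sylow.coe_subtype, Subgroup.map_subgroupOf_eq_of_le hTM] at hs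
        have hdM : d ∈ M := by
          have : d = s⁻¹ * n := by rw [hsd]; group
          rw [this]
          exact M.mul_mem (M.inv_mem (hTM hs)) (hNM hn)
        have hs1 : s ∈ (N ⊔ (M ⊓ Subgroup.centralizer (W : Set H))) ⊓ L := by
          refine Subgroup.mem_inf.mpr ⟨?_, hTL hs⟩
          have : s = n * d⁻¹ := by rw [hsd]; group
          rw [this]
          exact Subgroup.mul_mem _
            ((le_sup_left : N ≤ N ⊔ (M ⊓ Subgroup.centralizer (W : Set H))) hn)
            ((le_sup_right : _ ≤ N ⊔ (M ⊓ Subgroup.centralizer (W : Set H)))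
              (Subgroup.inv_mem _ (Subgroup.mem_inf.mpr ⟨hdM, hd⟩)))
        rw [hsd]
        exact Subgroup.mul_mem _ (hN1 hs1) (hCWY hd)
      rw [hWdef]
      apply le_centralizer_iSup
      intro m
      have h1 := cj_mono (g := (m : H)) hNY
      rwa [cj_eq_of_mem_normalizer (hMN m.2), cj_centralizer] at h1
  exact hYW.trans (le_largestPReducedOf M W hW)

end Cfsg.Agent.helper14
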