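import Mathlib
import Cfsg.Prelude.Def_LocalStructure
import Cfsg.Agent.Lib_helper7_SN
import Cfsg.Agent.Lib_helper14_WC
import Cfsg.Agent.Lib_helper14_PReduced2
import Cfsg.Agent.Lib_helper14_OpSub2

set_option autoImplicit false
open Cfsg
open scoped commutatorElement

namespace Cfsg.Agent.helper14

open Cfsg.Agent.helper7

variable {L : Type*} [Group L]

theorem isCoatom_cj {M : Subgroup L} (hM : IsCoatom M) (g : L) : IsCoatom (cj g M) := by
  refine ⟨?_, ?_⟩
  · intro h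
    apply hM.1
    have := congrArg (cj g⁻¹) h
    rwa [cj_inv_cj, cj_top] at this
  · intro b hb
    have h1 : M < cj g⁻¹ b := by
      refine lt_of_le_of_ne ?_ ?_
      · have := cj_mono (g := g⁻¹) hb.le
        rwa [cj_inv_cj] at this
      · intro h
        apply hb.ne
        rw [h, cj_cj_inv]
    have h2 := hM.2 _ h1
    have := congrArg (cj g) h2
    rwa [cj_cj_inv, cj_top] at this

/-- Basic facts on `Y`-minimal groups. -/
structure YMinData (Y L₀ : Subgroup L) : Prop where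
  coatom : IsCoatom L₀
  le : Y ≤ L₀
  uniq : ∀ M : Subgroup L, IsCoatom M → Y ≤ M → M = L₀
  ncl : ∀ N : Subgroup L, N.Normal → Y ≤ N → N = ⊤

theorem yMinData_of {Y L₀ : Subgroup L} (hL₀ : IsCoatom L₀) (hYL₀ : Y ≤ L₀)
    (hmin : Cfsg.IsMinimalOver Y) : YMinData Y L₀ := by
  obtain ⟨hncl, M, ⟨hM, hYM⟩, huniq⟩ := hmin
  have hML₀ : L₀ = M := huniq L₀ ⟨hL₀, hYL₀⟩
  refine ⟨hL₀, hYL₀, ?_, ?_⟩
  · intro M' hM' hYM'
    rw [hML₀]
    exact huniq M' ⟨hM', hYM'⟩
  · intro N hN hYN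
    have : Subgroup.normalClosure (Y : Set L) ≤ N := Subgroup.normalClosure_le_normal hYN
    rw [hncl] at this
    exact top_le_iff.mp this

theorem YMinData.le_of_ne_top [Finite L] {Y L₀ : Subgroup L} (h : YMinData Y L₀) (X : Subgroup L)
    (hYX : Y ≤ X) (hX : X ≠ ⊤) : X ≤ L₀ := by
  rcases eq_top_or_exists_le_coatom X with h1 | ⟨M, hM, hXM⟩
  · exact absurd h1 hX
  · rw [← h.uniq M hM (hYX.trans hXM)]
    exact hXM

theorem YMinData.normalizer_eq {Y L₀ : Subgroup L} (h : YMinData Y L₀) :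
    Subgroup.normalizer (L₀ : Set L) = L₀ := by
  by_contra hne
  have hlt : L₀ < Subgroup.normalizer (L₀ : Set L) :=
    lt_of_le_of_ne Subgroup.le_normalizer (Ne.symm hne)
  have h1 := h.coatom.2 _ hlt
  have h2 : L₀.Normal := Subgroup.normalizer_eq_top_iff.mp h1
  exact h.coatom.1 (h.ncl L₀ h2 h.le)

theorem YMinData.normalizer_le [Finite L] {Y L₀ : Subgroup L} (h : YMinData Y L₀) (X : Subgroup L)
    (hYX : Y ≤ X) (hXL₀ : X ≤ L₀) : Subgroup.normalizer (X : Set L) ≤ L₀ := by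
  apply h.le_of_ne_top _ (hYX.trans Subgroup.le_normalizer)
  intro htop
  have h2 : X.Normal := Subgroup.normalizer_eq_top_iff.mp htop
  have h3 := h.ncl X h2 hYX
  apply h.coatom.1
  rw [h3] at hXL₀
  exact top_le_iff.mp hXL₀

theorem YMinData.sup_cj_eq_top [Finite L] {Y L₀ : Subgroup L} (h : YMinData Y L₀) (g : L)
    (hg : g ∉ L₀) : Y ⊔ cj g Y = ⊤ := by
  by_contra hne
  have h1 := h.le_of_ne_top _ le_sup_left hne
  have h2 : cj g Y ≤ L₀ := le_sup_right.trans h1
  have h3 : Y ≤ cj g⁻¹ L₀ := by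
    have := cj_mono (g := g⁻¹) h2
    rwa [cj_inv_cj] at this
  have h4 := h.uniq _ (isCoatom_cj h.coatom g⁻¹) h3
  have h5 : g⁻¹ ∈ Subgroup.normalizer (L₀ : Set L) := mem_normalizer_of_cj_eq h4
  rw [h.normalizer_eq] at h5
  apply hg
  have := L₀.inv_mem h5
  rwa [inv_inv] at this

theorem YMinData.inf_cj_eq [Finite L] {Y L₀ : Subgroup L} (h : YMinData Y L₀)
    (hc : IsMulCommutative ↥Y) (g : L) (hg : g ∉ L₀) :
    Y ⊓ cj g Y = Y ⊓ Subgroup.center L := by
  have hYc : ∀ a ∈ Y, ∀ b ∈ Y, a * b = b * a := by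
    intro a ha b hb
    exact congrArg Subtype.val (hc.is_comm.comm (⟨a, ha⟩ : ↥Y) ⟨b, hb⟩)
  apply le_antisymm
  · rintro z ⟨hzY, hzg⟩
    refine Subgroup.mem_inf.mpr ⟨hzY, ?_⟩
    rw [Subgroup.mem_center_iff]
    have h1 : Y ≤ Subgroup.centralizer ({z} : Set L) := by
      intro y hy
      rw [Subgroup.mem_centralizer_iff]
      rintro s hs
      rw [Set.mem_singleton_iff] at hs
      rw [hs]
      exact hYc z hzY y hy
    have h2 : cj g Y ≤ Subgroup.centralizer ({z} : Set L) := by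
      intro y hy
      rw [Subgroup.mem_centralizer_iff]
      rintro s hs
      rw [Set.mem_singleton_iff] at hs
      rw [hs]
      have hz' : g⁻¹ * z * g ∈ Y := mem_cj.mp hzg
      have hy' : g⁻¹ * y * g ∈ Y := mem_cj.mp hy
      have := hYc _ hz' _ hy'
      calc z * y = g * ((g⁻¹ * z * g) * (g⁻¹ * y * g)) * g⁻¹ := by group
        _ = g * ((g⁻¹ * y * g) * (g⁻¹ * z * g)) * g⁻¹ := by rw [this]
        _ = y * z := by group
    have h3 : (⊤ : Subgroup L) ≤ Subgroup.centralizer ({z} : Set L) := by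
      rw [← h.sup_cj_eq_top g hg]
      exact sup_le h1 h2
    intro x
    have := (Subgroup.mem_centralizer_iff.mp (h3 (Subgroup.mem_top x))) z rfl
    exact this.symm
  · rintro z ⟨hzY, hzc⟩
    refine Subgroup.mem_inf.mpr ⟨hzY, ?_⟩
    rw [mem_cj]
    have hzc' := Subgroup.mem_center_iff.mp hzc
    have e : g⁻¹ * z * g = z := by
      have := hzc' g
      calc g⁻¹ * z * g = g⁻¹ * (z * g) := by group
        _ = g⁻¹ * (g * z) := by rw [this]
        _ = z := by group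
    rw [e]
    exact hzY

/-- A Sylow subgroup of the maximal subgroup `L₀` containing `Y` is a Sylow subgroup of `L`. -/
theorem YMinData.sylow_eq [Finite L] {p : ℕ} [Fact p.Prime] {Y L₀ : Subgroup L}
    (h : YMinData Y L₀) (T : Sylow p ↥L₀) (hYT : Y ≤ (T : Subgroup ↥L₀).map L₀.subtype) :
    ∃ P : Sylow p L, (P : Subgroup L) = (T : Subgroup ↥L₀).map L₀.subtype := by
  have hTp : IsPGroup p ((T : Subgroup ↥L₀).map L₀.subtype) := T.isPGroup'.map _
  obtain ⟨P, hP⟩ := hTp.exists_le_sylow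
  refine ⟨P, ?_⟩
  by_contra hne
  have hlt : (T : Subgroup ↥L₀).map L₀.subtype < (P : Subgroup L) :=
    lt_of_le_of_ne hP (Ne.symm hne)
  have h2 := lt_inf_normalizer_of_lt' P.isPGroup' hlt
  have hXL₀ : (P : Subgroup L) ⊓ Subgroup.normalizer
      (((T : Subgroup ↥L₀).map L₀.subtype : Subgroup L) : Set L) ≤ L₀ :=
    inf_le_right.trans (h.normalizer_le _ hYT (Subgroup.map_subtype_le _))
  have hXp : IsPGroup p (((P : Subgroup L) ⊓ Subgroup.normalizer
      (((T : Subgroup ↥L₀).map L₀.subtype : Subgroup L) : Set L) : Subgroup L).subgroupOf L₀) :=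
    (P.isPGroup'.to_le inf_le_left).comap_subtype
  have hTX : (T : Subgroup ↥L₀) ≤ ((P : Subgroup L) ⊓ Subgroup.normalizer
      (((T : Subgroup ↥L₀).map L₀.subtype : Subgroup L) : Set L) : Subgroup L).subgroupOf L₀ := by
    intro t ht
    rw [Subgroup.mem_subgroupOf]
    exact h2.le (Subgroup.mem_map.mpr ⟨t, ht, rfl⟩)
  have heq := T.is_maximal' hXp hTX
  apply h2.not_ge
  intro x hx
  have hx' : (⟨x, hXL₀ hx⟩ : ↥L₀) ∈ (T : Subgroup ↥L₀) := by
    rw [← heq, Subgroup.mem_subgroupOf]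
    exact hx
  exact Subgroup.mem_map.mpr ⟨_, hx', rfl⟩

end Cfsg.Agent.helper14
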