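import Mathlib

set_option autoImplicit false

namespace Cfsg.Agent.helper21

open Subgroup

variable {G : Type*} [Group G] [Finite G]

/-- `[KB : B] = [K : K ∩ B]` when `K` is normal. -/
theorem relIndex_sup_normal (K B : Subgroup G) [K.Normal] :
    B.relIndex (K ⊔ B) = B.relIndex K := by
  have h1 := Subgroup.relIndex_mul_relIndex ⊥ B (K ⊔ B) bot_le le_sup_right
  have h2 := Subgroup.relIndex_mul_relIndex ⊥ K (B ⊔ K) bot_le le_sup_right
  rw [Subgroup.relIndex_bot_left, Subgroup.relIndex_bot_left] at h1 h2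
  rw [Subgroup.relIndex_sup_right] at h2
  have h3 := Subgroup.relIndex_mul_relIndex ⊥ (K ⊓ B) B bot_le inf_le_right
  have h4 := Subgroup.relIndex_mul_relIndex ⊥ (B ⊓ K) K bot_le inf_le_right
  rw [Subgroup.relIndex_bot_left, Subgroup.relIndex_bot_left, Subgroup.inf_relIndex_right] at h3 h4
  rw [inf_comm] at h4
  rw [sup_comm] at h2
  -- |B| x = |K ⊔ B| = |K| y; c y = |B|; c z = |K|
  have hc : 0 < Nat.card (K ⊓ B : Subgroup G) := Nat.card_pos
  have hy : 0 < K.relIndex B := by
    rcases Nat.eq_zero_or_pos (K.relIndex B) with h0 | h0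
    · rw [h0, mul_zero] at h3
      have : 0 < Nat.card B := Nat.card_pos
      omega
    · exact h0
  have : Nat.card (K ⊓ B : Subgroup G) * K.relIndex B * B.relIndex (K ⊔ B) =
      Nat.card (K ⊓ B : Subgroup G) * K.relIndex B * B.relIndex K := by
    calc Nat.card (K ⊓ B : Subgroup G) * K.relIndex B * B.relIndex (K ⊔ B)
        = Nat.card B * B.relIndex (K ⊔ B) := by rw [h3]
      _ = Nat.card (K ⊔ B : Subgroup G) := h1
      _ = Nat.card K * K.relIndex B := h2.symm
      _ = Nat.card (K ⊓ B : Subgroup G) * B.relIndex K * K.relIndex B := by rw [h4]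
      _ = Nat.card (K ⊓ B : Subgroup G) * K.relIndex B * B.relIndex K := by ring
  exact Nat.eq_of_mul_eq_mul_left (Nat.mul_pos hc hy) this

omit [Finite G] in
theorem inf_relIndex_of_le (A C K : Subgroup G) (h : K ≤ C) :
    (A ⊓ C).relIndex K = A.relIndex K := by
  have := Subgroup.relIndex_inf_mul_relIndex A C K
  rw [inf_of_le_right h, (Subgroup.relIndex_eq_one).mpr h, mul_one] at this
  exact this.symm

variable {p : ℕ} [Fact p.Prime]

/-- The number of Sylow subgroups of a subgroup `L ≥ P`. -/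
theorem relIndex_normalizer_eq_card_sylow (P : Sylow p G) (L : Subgroup G)
    (hPL : (P : Subgroup G) ≤ L) :
    (Subgroup.normalizer ((P : Subgroup G) : Set G)).relIndex L = Nat.card (Sylow p L) := by
  rw [Sylow.card_eq_index_normalizer (P.subtype hPL)]
  rw [Subgroup.relIndex]
  congr 1
  rw [Subgroup.subgroupOf_normalizer_eq hPL]
  rfl

/-- `[G : N_G(PK)] = n_p(G/K)`. -/
theorem index_normalizer_sup_eq_card_sylow_quot (P : Sylow p G) (K : Subgroup G) [K.Normal] :
    (Subgroup.normalizer (((P : Subgroup G) ⊔ K : Subgroup G) : Set G)).index =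
      Nat.card (Sylow p (G ⧸ K)) := by
  have hs := QuotientGroup.mk'_surjective K
  have h1 : Nat.card (Sylow p (G ⧸ K)) = (Subgroup.normalizer
      (((P.mapSurjective hs : Sylow p (G ⧸ K)) : Subgroup (G ⧸ K)) : Set (G ⧸ K))).index :=
    Sylow.card_eq_index_normalizer (P.mapSurjective hs)
  have h2 : ((P.mapSurjective hs : Sylow p (G ⧸ K)) : Subgroup (G ⧸ K)).comap (QuotientGroup.mk' K) =
      (P : Subgroup G) ⊔ K := by
    rw [Sylow.coe_mapSurjective, Subgroup.comap_map_eq, QuotientGroup.ker_mk']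
  rw [h1, ← Subgroup.index_comap_of_surjective _ hs,
    Subgroup.comap_normalizer_eq_of_surjective _ hs, h2]

/-- For `K` normal, `P ∩ K` is a Sylow subgroup of `K`: `[K : N_K(P ∩ K)] = n_p(K)`. -/
theorem relIndex_normalizer_inf_eq_card_sylow (P : Sylow p G) (K : Subgroup G) [K.Normal] :
    (Subgroup.normalizer (((P : Subgroup G) ⊓ K : Subgroup G) : Set G)).relIndex K =
      Nat.card (Sylow p K) := by
  have hpg : IsPGroup p (((P : Subgroup G) ⊓ K).subgroupOf K) :=
    (P.isPGroup'.to_le inf_le_left).comap_subtype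
  have hidx : ¬ p ∣ (((P : Subgroup G) ⊓ K).subgroupOf K).index := by
    change ¬ p ∣ ((P : Subgroup G) ⊓ K).relIndex K
    rw [Subgroup.inf_relIndex_right, ← relIndex_sup_normal K (P : Subgroup G)]
    intro h
    exact P.not_dvd_index (h.trans (Subgroup.relIndex_dvd_index_of_le le_sup_right))
  rw [Sylow.card_eq_index_normalizer (hpg.toSylow hidx)]
  rw [Subgroup.relIndex, Subgroup.subgroupOf_normalizer_eq inf_le_right]
  rfl

/-- If `P ≤ N ≤ L` with `N` normal in `L`, then `[L : N_L(P)] = [N : N_N(P)]` (Frattini). -/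
theorem relIndex_normalizer_of_normal (P : Sylow p G) (N L : Subgroup G)
    (hPN : (P : Subgroup G) ≤ N) (hNL : N ≤ L) (hL : L ≤ Subgroup.normalizer (N : Set G)) :
    (Subgroup.normalizer ((P : Subgroup G) : Set G)).relIndex L =
      (Subgroup.normalizer ((P : Subgroup G) : Set G)).relIndex N := by
  have hPL : (P : Subgroup G) ≤ L := hPN.trans hNL
  have : (N.subgroupOf L).Normal := (Subgroup.normal_subgroupOf_iff_le_normalizer hNL).mpr hL
  have hle : ((P.subtype hPL : Sylow p L) : Subgroup L) ≤ N.subgroupOf L := by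
    rw [Sylow.coe_subtype]
    exact Subgroup.comap_mono hPN
  have hfr := Sylow.normalizer_sup_eq_top' (P.subtype hPL) hle
  have h1 := relIndex_sup_normal (N.subgroupOf L)
    (Subgroup.normalizer (((P.subtype hPL : Sylow p L) : Subgroup L) : Set L))
  rw [sup_comm] at hfr
  have hfr' : N.subgroupOf L ⊔
      Subgroup.normalizer (((P.subtype hPL : Sylow p L) : Subgroup L) : Set L) = ⊤ := hfr
  rw [hfr', Subgroup.relIndex_top_right] at h1
  have h2 : Subgroup.normalizer (((P.subtype hPL : Sylow p L) : Subgroup L) : Set L) =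
      (Subgroup.normalizer ((P : Subgroup G) : Set G)).subgroupOf L := by
    rw [Subgroup.subgroupOf_normalizer_eq hPL]
    rfl
  rw [h2, Subgroup.relIndex_subgroupOf hNL] at h1
  exact h1

/-- Quotient by a normal `p`-subgroup does not change the number of Sylow `p`-subgroups. -/
theorem card_sylow_quot_of_pgroup {N : Type*} [Group N] [Finite N] (Q : Subgroup N) [Q.Normal]
    (hQ : IsPGroup p Q) : Nat.card (Sylow p (N ⧸ Q)) = Nat.card (Sylow p N) := by
  symm
  apply Nat.card_eq_of_bijective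
    (fun P : Sylow p N => P.mapSurjective (QuotientGroup.mk'_surjective Q))
  refine ⟨?_, Sylow.mapSurjective_surjective (QuotientGroup.mk'_surjective _) p⟩
  intro P P' h
  have h1 : (P : Subgroup N).map (QuotientGroup.mk' Q) = (P' : Subgroup N).map (QuotientGroup.mk' Q) := by
    have := congrArg (fun S : Sylow p (N ⧸ Q) => (S : Subgroup (N ⧸ Q))) h
    simpa [Sylow.coe_mapSurjective] using this
  have h2 := congrArg (Subgroup.comap (QuotientGroup.mk' Q)) h1
  rw [Subgroup.comap_map_eq, Subgroup.comap_map_eq, QuotientGroup.ker_mk',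
    sup_eq_left.mpr (hQ.le_sylow_of_normal P), sup_eq_left.mpr (hQ.le_sylow_of_normal P')] at h2
  exact Sylow.ext h2

omit [Finite G] [Fact p.Prime] in
theorem mem_normalizer_iff_map (H : Subgroup G) (x : G) :
    x ∈ Subgroup.normalizer (H : Set G) ↔ H.map (MulAut.conj x).toMonoidHom = H :=
  Subgroup.mem_normalizer_iff_map_conj_eq

omit [Finite G] [Fact p.Prime] in
theorem map_conj_normal (K : Subgroup G) [K.Normal] (x : G) :
    K.map (MulAut.conj x).toMonoidHom = K := by
  rw [← mem_normalizer_iff_map, Subgroup.normalizer_eq_top]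
  exact Subgroup.mem_top x

omit [Finite G] [Fact p.Prime] in
theorem normalizer_le_normalizer_sup (H K : Subgroup G) [K.Normal] :
    Subgroup.normalizer (H : Set G) ≤ Subgroup.normalizer ((H ⊔ K : Subgroup G) : Set G) := by
  intro x hx
  rw [mem_normalizer_iff_map] at hx ⊢
  rw [Subgroup.map_sup, hx, map_conj_normal]

omit [Finite G] [Fact p.Prime] in
theorem normalizer_le_normalizer_inf (H K : Subgroup G) [K.Normal] :
    Subgroup.normalizer (H : Set G) ≤ Subgroup.normalizer ((H ⊓ K : Subgroup G) : Set G) := by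
  intro x hx
  rw [mem_normalizer_iff_map] at hx ⊢
  rw [Subgroup.map_inf _ _ _ (MulAut.conj x).injective, hx, map_conj_normal]

/-- `n_p(G) = n_p(G/K) · [PK : N_{PK}(P)]`. -/
theorem card_sylow_eq_quot_mul (P : Sylow p G) (K : Subgroup G) [K.Normal] :
    Nat.card (Sylow p G) = Nat.card (Sylow p (G ⧸ K)) *
      (Subgroup.normalizer ((P : Subgroup G) : Set G)).relIndex ((P : Subgroup G) ⊔ K) := by
  have h0 : Nat.card (Sylow p G) = (Subgroup.normalizer ((P : Subgroup G) : Set G)).index :=
    Sylow.card_eq_index_normalizer P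
  rw [h0,
    ← Subgroup.relIndex_mul_index (normalizer_le_normalizer_sup (P : Subgroup G) K),
    index_normalizer_sup_eq_card_sylow_quot P K,
    relIndex_normalizer_of_normal P ((P : Subgroup G) ⊔ K) _ le_sup_left Subgroup.le_normalizer le_rfl,
    mul_comm]

omit [Fact p.Prime] in
/-- `[PK : N_{PK}(P)] = [K : N_K(P)]`. -/
theorem relIndex_normalizer_sup_eq (P : Sylow p G) (K : Subgroup G) [K.Normal] :
    (Subgroup.normalizer ((P : Subgroup G) : Set G)).relIndex ((P : Subgroup G) ⊔ K) =
      (Subgroup.normalizer ((P : Subgroup G) : Set G)).relIndex K := by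
  have h := relIndex_sup_normal K
    (Subgroup.normalizer ((P : Subgroup G) : Set G) ⊓ ((P : Subgroup G) ⊔ K))
  have hsup : K ⊔ (Subgroup.normalizer ((P : Subgroup G) : Set G) ⊓ ((P : Subgroup G) ⊔ K)) =
      (P : Subgroup G) ⊔ K := by
    apply le_antisymm
    · exact sup_le le_sup_right inf_le_right
    · exact sup_le (le_trans (le_inf Subgroup.le_normalizer le_sup_left) le_sup_right) le_sup_left
  rw [hsup, Subgroup.inf_relIndex_right, inf_relIndex_of_le _ _ _ le_sup_right] at h
  exact h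

/-- M. Hall's product formula: `n_p(G) = n_p(G/K) · n_p(K) · n_p(N / (P ∩ K))`,
with `N = N_{PK}(P ∩ K)`. -/
theorem card_sylow_product_formula (P : Sylow p G) (K : Subgroup G) [K.Normal]
    [hn : (((P : Subgroup G) ⊓ K).subgroupOf
      (((P : Subgroup G) ⊔ K) ⊓ Subgroup.normalizer (((P : Subgroup G) ⊓ K : Subgroup G) : Set G))).Normal] :
    Nat.card (Sylow p G) =
      Nat.card (Sylow p (G ⧸ K)) * Nat.card (Sylow p K) *
        Nat.card (Sylow p (↥(((P : Subgroup G) ⊔ K) ⊓
          Subgroup.normalizer (((P : Subgroup G) ⊓ K : Subgroup G) : Set G)) ⧸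
          ((P : Subgroup G) ⊓ K).subgroupOf (((P : Subgroup G) ⊔ K) ⊓
            Subgroup.normalizer (((P : Subgroup G) ⊓ K : Subgroup G) : Set G)))) := by
  set M : Subgroup G := (P : Subgroup G) ⊔ K with hM
  set Q : Subgroup G := (P : Subgroup G) ⊓ K with hQ
  set NP := Subgroup.normalizer ((P : Subgroup G) : Set G) with hNP
  set NQ := Subgroup.normalizer (Q : Set G) with hNQ
  have hNPQ : NP ≤ NQ := normalizer_le_normalizer_inf (P : Subgroup G) K
  have hPNQ : (P : Subgroup G) ≤ NQ := le_trans Subgroup.le_normalizer hNPQ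
  have hPM : (P : Subgroup G) ≤ M := le_sup_left
  have hKM : K ≤ M := le_sup_right
  rw [card_sylow_eq_quot_mul P K, mul_assoc]
  congr 1
  -- [M : N_M(P)] = [M : N] [N : N_N(P)]
  have h1 : NP.relIndex M = (NP ⊓ M).relIndex (M ⊓ NQ) * (M ⊓ NQ).relIndex M := by
    rw [Subgroup.relIndex_mul_relIndex _ _ _ (le_inf inf_le_right (le_trans inf_le_left hNPQ))
      inf_le_left, Subgroup.inf_relIndex_right]
  rw [h1]
  have h2 : (M ⊓ NQ).relIndex M = Nat.card (Sylow p K) := by
    rw [inf_comm, ← relIndex_normalizer_inf_eq_card_sylow P K]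
    have h := relIndex_sup_normal K (NQ ⊓ M)
    have hsup : K ⊔ (NQ ⊓ M) = M := by
      apply le_antisymm
      · exact sup_le hKM inf_le_right
      · exact sup_le (le_trans (le_inf hPNQ hPM) le_sup_right) le_sup_left
    rw [hsup, inf_relIndex_of_le _ _ _ hKM] at h
    exact h
  have h3 : (NP ⊓ M).relIndex (M ⊓ NQ) = Nat.card (Sylow p ↥(M ⊓ NQ)) := by
    rw [inf_relIndex_of_le _ _ _ inf_le_left]
    exact relIndex_normalizer_eq_card_sylow P _ (le_inf hPM hPNQ)
  have h4 : Nat.card (Sylow p (↥(M ⊓ NQ) ⧸ Q.subgroupOf (M ⊓ NQ))) =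
      Nat.card (Sylow p ↥(M ⊓ NQ)) := by
    apply card_sylow_quot_of_pgroup
    exact (P.isPGroup'.to_le inf_le_left).comap_subtype
  rw [h2, h3, h4, mul_comm]

end Cfsg.Agent.helper21
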