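import Mathlib
import Cfsg.Prelude.Def_LocalStructure
import Cfsg.Agent.Lib_helper14_YMin
import Cfsg.Agent.Lib_helper14_Large2
import Cfsg.Agent.Lib_helper21_SylowNum
import Cfsg.Agent.Lib_helper10_Sylow

set_option autoImplicit false
open Cfsg
open scoped commutatorElement

namespace Cfsg.Agent.helper14

open Cfsg.Agent.helper7

variable {L : Type*} [Group L]

theorem isPClosed_of_sylow_normal {H : Type*} [Group H] [Finite H] {p : ℕ} [Fact p.Prime]
    (S : Sylow p H) (hS : (S : Subgroup H).Normal) : Cfsg.IsPClosed p H := by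
  intro Q
  obtain ⟨g, hg⟩ := MulAction.exists_smul_eq H S Q
  have := hS
  rw [Sylow.smul_eq_of_normal] at hg
  rw [← hg]
  exact hS

theorem pCore_eq_sylow_of_normal {H : Type*} [Group H] [Finite H] {p : ℕ} [Fact p.Prime]
    (S : Sylow p H) (hS : (S : Subgroup H).Normal) : Cfsg.pCore p H = (S : Subgroup H) := by
  apply le_antisymm
  · have : (Cfsg.pCore p H).Normal := pCore_normal' p
    exact (pCore_isPGroup' p).le_sylow_of_normal S
  · exact le_sSup ⟨hS, S.isPGroup'⟩

theorem coprime_card_quot_pCore_of_sylow_normal {H : Type*} [Group H] [Finite H] {p : ℕ}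
    [hp : Fact p.Prime] (S : Sylow p H) (hS : (S : Subgroup H).Normal) :
    (Nat.card (H ⧸ Cfsg.pCore p H)).Coprime p := by
  rw [pCore_eq_sylow_of_normal S hS, ← Subgroup.index_eq_card]
  exact ((Nat.Prime.coprime_iff_not_dvd hp.out).mpr S.not_dvd_index).symm

/-- A subgroup of index prime to `p` contains a conjugate of any Sylow `p`-subgroup. -/
theorem exists_cj_sylow_le_of_not_dvd_index [Finite L] {p : ℕ} [hp : Fact p.Prime] (P : Sylow p L)
    (M : Subgroup L) (hM : ¬ p ∣ M.index) : ∃ g : L, cj g (P : Subgroup L) ≤ M := by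
  obtain ⟨Q⟩ : Nonempty (Sylow p ↥M) := inferInstance
  have hQp : IsPGroup p ((Q : Subgroup ↥M).map M.subtype) := Q.isPGroup'.map _
  obtain ⟨P', hP'⟩ := hQp.exists_le_sylow
  have h1 : ((Q : Subgroup ↥M).map M.subtype).index = (Q : Subgroup ↥M).index * M.index :=
    Subgroup.index_map_subtype _
  have h2 : ¬ p ∣ ((Q : Subgroup ↥M).map M.subtype).index := by
    rw [h1]
    intro hd
    rcases (Nat.Prime.dvd_mul hp.out).mp hd with h | h
    · exact Q.not_dvd_index h
    · exact hM h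
  have h3 : ((Q : Subgroup ↥M).map M.subtype).relIndex (P' : Subgroup L) * (P' : Subgroup L).index
      = ((Q : Subgroup ↥M).map M.subtype).index := Subgroup.relIndex_mul_index hP'
  have h4 : ¬ p ∣ ((Q : Subgroup ↥M).map M.subtype).relIndex (P' : Subgroup L) := by
    intro hd
    apply h2
    rw [← h3]
    exact Dvd.dvd.mul_right hd _
  have h5 : ((Q : Subgroup ↥M).map M.subtype).relIndex (P' : Subgroup L) ∣
      Nat.card (P' : Subgroup L) := Subgroup.relIndex_dvd_card _ _
  obtain ⟨k, hk⟩ := P'.isPGroup'.exists_card_eq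
  rw [hk] at h5
  obtain ⟨j, hj, hj'⟩ := (Nat.dvd_prime_pow hp.out).mp h5
  have hj0 : j = 0 := by
    by_contra hne
    apply h4
    rw [hj']
    exact dvd_pow_self p hne
  rw [hj0, pow_zero] at hj'
  have h6 : (P' : Subgroup L) ≤ (Q : Subgroup ↥M).map M.subtype := Subgroup.relIndex_eq_one.mp hj'
  obtain ⟨g, hg⟩ := MulAction.exists_smul_eq L P P'
  refine ⟨g, ?_⟩
  have h7 : cj g (P : Subgroup L) = (P' : Subgroup L) := by
    rw [← hg]
    exact (Cfsg.Agent.helper10.sylow_smul_eq_map_conj P g).symm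
  rw [h7]
  exact h6.trans (Subgroup.map_subtype_le _)

theorem cj_eq_of_normal' (g : L) (N : Subgroup L) [hN : N.Normal] : cj g N = N := by
  apply cj_eq_of_mem_normalizer
  rw [Subgroup.normalizer_eq_top_iff.mpr hN]
  exact Subgroup.mem_top g

/-- In a `Y`-minimal group, a normal subgroup `N ≤ L₀` meets the Sylow subgroup `P ≥ Y` in a
normal subgroup of `L` which is the Sylow subgroup of `N`. -/
theorem YMinData.inf_normal [Finite L] {p : ℕ} [Fact p.Prime] {Y L₀ : Subgroup L}
    (h : YMinData Y L₀) (P : Sylow p L) (hYP : Y ≤ (P : Subgroup L)) (N : Subgroup L)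
    [hN : N.Normal] (hNL₀ : N ≤ L₀) :
    ((P : Subgroup L) ⊓ N).Normal ∧
      ∃ S : Sylow p ↥N, (S : Subgroup ↥N) = ((P : Subgroup L) ⊓ N).subgroupOf N := by
  have hPN : (P : Subgroup L) ≤ Subgroup.normalizer (N : Set L) := by
    rw [Subgroup.normalizer_eq_top_iff.mpr hN]; exact le_top
  obtain ⟨S, hS⟩ := exists_sylow_inf_of_le_normalizer P N hPN
  refine ⟨?_, S, hS⟩
  have h1 := Sylow.normalizer_sup_eq_top S
  have h2 : (S : Subgroup ↥N).map N.subtype = (P : Subgroup L) ⊓ N := by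
    rw [hS, Subgroup.subgroupOf_map_subtype, inf_of_le_left inf_le_right]
  rw [h2] at h1
  have h3 : (P : Subgroup L) ≤
      Subgroup.normalizer (((P : Subgroup L) ⊓ N : Subgroup L) : Set L) :=
    le_normalizer_inf' Subgroup.le_normalizer hPN
  by_contra hnn
  have h4 : Subgroup.normalizer (((P : Subgroup L) ⊓ N : Subgroup L) : Set L) ≠ ⊤ := by
    intro ht
    exact hnn (Subgroup.normalizer_eq_top_iff.mp ht)
  have h5 := h.le_of_ne_top _ (hYP.trans h3) h4
  have h6 : (⊤ : Subgroup L) ≤ L₀ := by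
    rw [← h1]
    exact sup_le h5 hNL₀
  exact h.coatom.1 (top_le_iff.mp h6)

/-- Key lemma: in a `Y`-minimal group, a normal subgroup `N ≤ L₀` has no proper supplement
containing `P ⊓ N`. -/
theorem YMinData.supplement_eq_top [Finite L] {p : ℕ} [hp : Fact p.Prime] {Y L₀ : Subgroup L}
    (h : YMinData Y L₀) (P : Sylow p L) (hYP : Y ≤ (P : Subgroup L)) (N : Subgroup L)
    [hN : N.Normal] (hNL₀ : N ≤ L₀) (M : Subgroup L) (hNM : N ⊔ M = ⊤)
    (hPM : (P : Subgroup L) ⊓ N ≤ M) : M = ⊤ := by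
  by_contra hM
  have h1 : M.relIndex (N ⊔ M) = M.relIndex N := Cfsg.Agent.helper21.relIndex_sup_normal N M
  rw [hNM, Subgroup.relIndex_top_right] at h1
  obtain ⟨-, S, hS⟩ := h.inf_normal P hYP N hNL₀
  have h2 : M.relIndex N ∣ ((P : Subgroup L) ⊓ N).relIndex N :=
    Subgroup.relIndex_dvd_of_le_left N hPM
  have h3 : ((P : Subgroup L) ⊓ N).relIndex N = (S : Subgroup ↥N).index := by
    rw [hS]; rfl
  have h4 : ¬ p ∣ M.index := by
    rw [h1]
    intro hd
    apply S.not_dvd_index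
    rw [← h3]
    exact hd.trans h2
  obtain ⟨g, hg⟩ := exists_cj_sylow_le_of_not_dvd_index P M h4
  have h5 : Y ≤ cj g⁻¹ M := by
    have := cj_mono (g := g⁻¹) ((cj_mono (g := g) hYP).trans hg)
    rwa [cj_inv_cj] at this
  have h6 : cj g⁻¹ M ≤ L₀ := by
    apply h.le_of_ne_top _ h5
    intro ht
    apply hM
    have := congrArg (cj g) ht
    rwa [cj_cj_inv, cj_top] at this
  have h7 : M ≤ cj g L₀ := by
    have := cj_mono (g := g) h6
    rwa [cj_cj_inv] at this
  have h8 : N ≤ cj g L₀ := by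
    rw [← cj_eq_of_normal' g N]
    exact cj_mono hNL₀
  have h9 : (⊤ : Subgroup L) ≤ cj g L₀ := by
    rw [← hNM]
    exact sup_le h8 h7
  exact (isCoatom_cj h.coatom g).1 (top_le_iff.mp h9)

/-- For a normal `N ≤ L₀` and any Sylow `r`-subgroup `R` of `N`, `R (P ⊓ N)` is normal in `L`. -/
theorem YMinData.sylow_sup_normal [Finite L] {p : ℕ} [hp : Fact p.Prime] {Y L₀ : Subgroup L}
    (h : YMinData Y L₀) (P : Sylow p L) (hYP : Y ≤ (P : Subgroup L)) (N : Subgroup L)
    [hN : N.Normal] (hNL₀ : N ≤ L₀) {r : ℕ} [Fact r.Prime] (R : Sylow r ↥N) :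
    ((R : Subgroup ↥N).map N.subtype ⊔ ((P : Subgroup L) ⊓ N)).Normal := by
  obtain ⟨hPNn, -⟩ := h.inf_normal P hYP N hNL₀
  have h1 := Sylow.normalizer_sup_eq_top R
  have h2 : Subgroup.normalizer (((R : Subgroup ↥N).map N.subtype : Subgroup L) : Set L) ≤
      Subgroup.normalizer
        ((((R : Subgroup ↥N).map N.subtype ⊔ ((P : Subgroup L) ⊓ N) : Subgroup L)) : Set L) := by
    apply le_normalizer_sup le_rfl
    rw [Subgroup.normalizer_eq_top_iff.mpr hPNn]
    exact le_top
  have h3 : N ⊔ Subgroup.normalizer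
        ((((R : Subgroup ↥N).map N.subtype ⊔ ((P : Subgroup L) ⊓ N) : Subgroup L)) : Set L) = ⊤ := by
    apply top_le_iff.mp
    rw [← h1, sup_comm]
    exact sup_le_sup_left h2 N
  have h4 := h.supplement_eq_top P hYP N hNL₀ _ h3
    (le_sup_right.trans Subgroup.le_normalizer)
  exact Subgroup.normalizer_eq_top_iff.mp h4

/-- The quotient `N / O_p(N)` is nilpotent. -/
theorem YMinData.nilpotent_quot [Finite L] {p : ℕ} [hp : Fact p.Prime] {Y L₀ : Subgroup L}
    (h : YMinData Y L₀) (P : Sylow p L) (hYP : Y ≤ (P : Subgroup L)) (N : Subgroup L)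
    [hN : N.Normal] (hNL₀ : N ≤ L₀) : Group.IsNilpotent (↥N ⧸ Cfsg.pCore p ↥N) := by
  obtain ⟨hPNn, S, hS⟩ := h.inf_normal P hYP N hNL₀
  have hSn : (S : Subgroup ↥N).Normal := by
    rw [hS]; infer_instance
  have hO : Cfsg.pCore p ↥N = ((P : Subgroup L) ⊓ N).subgroupOf N := by
    rw [pCore_eq_sylow_of_normal S hSn, hS]
  haveI hOn : (Cfsg.pCore p ↥N).Normal := pCore_normal' p
  have hsurj : Function.Surjective (QuotientGroup.mk' (Cfsg.pCore p ↥N)) :=
    QuotientGroup.mk'_surjective _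
  apply ((Group.isNilpotent_of_finite_tfae (G := ↥N ⧸ Cfsg.pCore p ↥N)).out 0 3).mpr
  intro r hr Rbar
  haveI := hr
  let R : Sylow r ↥N := default
  have hX := h.sylow_sup_normal P hYP N hNL₀ R
  have hXN : ((R : Subgroup ↥N).map N.subtype ⊔ ((P : Subgroup L) ⊓ N)) ≤ N :=
    sup_le (Subgroup.map_subtype_le _) inf_le_right
  have hX' : (((R : Subgroup ↥N).map N.subtype ⊔ ((P : Subgroup L) ⊓ N)).subgroupOf N).Normal := by
    haveI := hX
    infer_instance
  have e1 : ((R : Subgroup ↥N).map N.subtype ⊔ ((P : Subgroup L) ⊓ N)).subgroupOf N =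
      (R : Subgroup ↥N) ⊔ Cfsg.pCore p ↥N := by
    rw [Subgroup.subgroupOf_sup (Subgroup.map_subtype_le _) inf_le_right, hO]
    congr 1
    exact Subgroup.comap_map_eq_self_of_injective N.subtype_injective _
  have e2 : ((R : Subgroup ↥N) ⊔ Cfsg.pCore p ↥N).map (QuotientGroup.mk' (Cfsg.pCore p ↥N)) =
      (R : Subgroup ↥N).map (QuotientGroup.mk' (Cfsg.pCore p ↥N)) := by
    rw [Subgroup.map_sup, QuotientGroup.map_mk'_self, sup_bot_eq]
  have hn : ((R : Subgroup ↥N).map (QuotientGroup.mk' (Cfsg.pCore p ↥N))).Normal := by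
    rw [← e2, ← e1]
    exact Subgroup.Normal.map hX' _ hsurj
  have hn' : ((R.mapSurjective hsurj : Sylow r (↥N ⧸ Cfsg.pCore p ↥N)) :
      Subgroup (↥N ⧸ Cfsg.pCore p ↥N)).Normal := by
    rw [Sylow.coe_mapSurjective]
    exact hn
  obtain ⟨g, hg⟩ := MulAction.exists_smul_eq (↥N ⧸ Cfsg.pCore p ↥N) (R.mapSurjective hsurj) Rbar
  haveI := hn'
  rw [Sylow.smul_eq_of_normal] at hg
  rw [← hg]
  exact hn'

theorem isCoatom_map_of_ker_le' {G H : Type*} [Group G] [Group H] {f : G →* H}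
    (hf : Function.Surjective f) {M : Subgroup G} (hk : f.ker ≤ M) (hM : IsCoatom M) :
    IsCoatom (M.map f) := by
  have e : (M.map f).comap f = M := by
    rw [Subgroup.comap_map_eq, sup_of_le_left hk]
  refine ⟨?_, ?_⟩
  · intro ht
    apply hM.1
    rw [← e, ht, Subgroup.comap_top]
  · intro b hb
    have h1 : M < b.comap f := by
      rw [← e]
      exact (Subgroup.comap_lt_comap_of_surjective hf).mpr hb
    have h2 := hM.2 _ h1
    rw [← Subgroup.map_comap_eq_self_of_surjective hf b, h2]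
    exact Subgroup.map_top_of_surjective f hf

/-- The core of `L₀` maps onto the Frattini subgroup of `L / O_p(L)`. -/
theorem YMinData.map_normalCore_eq_frattini [Finite L] {p : ℕ} [hp : Fact p.Prime]
    {Y L₀ : Subgroup L} (h : YMinData Y L₀) (P : Sylow p L) (hYP : Y ≤ (P : Subgroup L))
    (hPL₀ : (P : Subgroup L) ≤ L₀) :
    (L₀.normalCore).map (QuotientGroup.mk' (Cfsg.pCore p L)) =
      frattini (L ⧸ Cfsg.pCore p L) := by
  have hOn : (Cfsg.pCore p L).Normal := pCore_normal' p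
  have hsurj : Function.Surjective (QuotientGroup.mk' (Cfsg.pCore p L)) :=
    QuotientGroup.mk'_surjective _
  have hker : (QuotientGroup.mk' (Cfsg.pCore p L)).ker = Cfsg.pCore p L := QuotientGroup.ker_mk' _
  have hOP : Cfsg.pCore p L ≤ (P : Subgroup L) := (pCore_isPGroup' p).le_sylow_of_normal P
  have hOD : Cfsg.pCore p L ≤ L₀.normalCore :=
    Subgroup.normal_le_normalCore.mpr (hOP.trans hPL₀)
  have hDn : (L₀.normalCore).Normal := Subgroup.normalCore_normal _
  have hDL₀ : L₀.normalCore ≤ L₀ := Subgroup.normalCore_le _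
  obtain ⟨hPDn, -⟩ := h.inf_normal P hYP L₀.normalCore hDL₀
  have hPD : (P : Subgroup L) ⊓ L₀.normalCore ≤ Cfsg.pCore p L :=
    le_sSup ⟨hPDn, P.isPGroup'.to_le inf_le_left⟩
  apply le_antisymm
  · simp only [frattini, Order.radical, le_iInf_iff]
    intro Mbar hMbar
    by_contra hnle
    have hMb : IsCoatom Mbar := hMbar
    have h1 : (L₀.normalCore).map (QuotientGroup.mk' (Cfsg.pCore p L)) ⊔ Mbar = ⊤ := by
      apply hMb.2
      refine lt_of_le_of_ne le_sup_right ?_
      intro heq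
      apply hnle
      rw [heq]
      exact le_sup_left
    have h2 : L₀.normalCore ⊔ Mbar.comap (QuotientGroup.mk' (Cfsg.pCore p L)) = ⊤ := by
      have e : Mbar = (Mbar.comap (QuotientGroup.mk' (Cfsg.pCore p L))).map
          (QuotientGroup.mk' (Cfsg.pCore p L)) :=
        (Subgroup.map_comap_eq_self_of_surjective hsurj Mbar).symm
      rw [e, ← Subgroup.map_sup] at h1
      have h1' := congrArg (Subgroup.comap (QuotientGroup.mk' (Cfsg.pCore p L))) h1
      rw [Subgroup.comap_map_eq, Subgroup.comap_top, hker] at h1'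
      rw [← h1']
      apply le_antisymm
      · exact le_sup_left
      · exact sup_le le_rfl (hOD.trans le_sup_left)
    have h3 : Mbar.comap (QuotientGroup.mk' (Cfsg.pCore p L)) = ⊤ := by
      apply h.supplement_eq_top P hYP L₀.normalCore hDL₀ _ h2
      refine hPD.trans ?_
      have := Subgroup.ker_le_comap (QuotientGroup.mk' (Cfsg.pCore p L)) Mbar
      rwa [hker] at this
    apply hMb.1
    rw [← Subgroup.map_comap_eq_self_of_surjective hsurj Mbar, h3]
    exact Subgroup.map_top_of_surjective _ hsurj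
  · intro xbar hx
    obtain ⟨x, rfl⟩ := hsurj xbar
    refine ⟨x, ?_, rfl⟩
    show ∀ b : L, b * x * b⁻¹ ∈ L₀
    intro g
    have hc : IsCoatom (cj g⁻¹ L₀) := isCoatom_cj h.coatom g⁻¹
    have hOc : Cfsg.pCore p L ≤ cj g⁻¹ L₀ := by
      rw [← cj_eq_of_normal' g⁻¹ (Cfsg.pCore p L)]
      exact cj_mono (hOP.trans hPL₀)
    have hcm : IsCoatom ((cj g⁻¹ L₀).map (QuotientGroup.mk' (Cfsg.pCore p L))) := by
      apply isCoatom_map_of_ker_le' hsurj _ hc
      rw [hker]
      exact hOc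
    have h1 : (QuotientGroup.mk' (Cfsg.pCore p L)) x ∈
        (cj g⁻¹ L₀).map (QuotientGroup.mk' (Cfsg.pCore p L)) := frattini_le_coatom hcm hx
    have h2 : x ∈ cj g⁻¹ L₀ := by
      have h2' : x ∈ ((cj g⁻¹ L₀).map (QuotientGroup.mk' (Cfsg.pCore p L))).comap
          (QuotientGroup.mk' (Cfsg.pCore p L)) := h1
      rw [Subgroup.comap_map_eq, hker, sup_of_le_left hOc] at h2'
      exact h2'
    have h3 := mem_cj.mp h2
    rwa [inv_inv] at h3

end Cfsg.Agent.helper14
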