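import Mathlib
import Cfsg.Agent.Lib_helper14_FrakM
import Cfsg.Agent.Lib_helper14_YMin2
import Cfsg.Agent.Lib_helper14_Large

set_option autoImplicit false
set_option linter.style.haveILetI false
open Cfsg
open scoped Pointwise

namespace Cfsg.Agent.helper14

open Cfsg.Agent.helper7

variable {H : Type*} [Group H]

theorem largestPReducedOf_ne_bot [Finite H] {p : ℕ} [hp : Fact p.Prime] (X : Subgroup H)
    (hX : LH p X) : Cfsg.largestPReducedOf p X ≠ ⊥ := by
  have hAC : AC p X := fun x hx => hX.2 hx.2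
  have hchar := isCharP_of_ac X hAC
  have hZ := predIn_sylowCenterClosure X hchar
  have hle := le_largestPReducedOf X _ hZ
  intro hbot
  obtain ⟨S⟩ : Nonempty (Sylow p ↥X) := inferInstance
  have hP1 : (S : Subgroup ↥X).map X.subtype ≠ ⊥ := by
    intro h
    apply hX.1
    have := pCoreOf_le_sylow X S
    rw [h] at this
    exact le_bot_iff.mp this
  have hPp : IsPGroup p ((S : Subgroup ↥X).map X.subtype) := S.isPGroup'.map _
  have hZ1 := center_ne_bot_of_isPGroup _ hPp hP1
  have hZp : IsPGroup p ↥((S : Subgroup ↥X).map X.subtype ⊓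
      Subgroup.centralizer ((((S : Subgroup ↥X).map X.subtype : Subgroup H)) : Set H)) :=
    hPp.to_le inf_le_left
  obtain ⟨n, hn⟩ := IsPGroup.iff_card.mp hZp
  have hn0 : n ≠ 0 := by
    intro h0
    rw [h0, pow_zero] at hn
    exact hZ1 ((Subgroup.card_eq_one).mp hn)
  have hdvd : p ∣ Nat.card ↥((S : Subgroup ↥X).map X.subtype ⊓
      Subgroup.centralizer ((((S : Subgroup ↥X).map X.subtype : Subgroup H)) : Set H)) := by
    rw [hn]; exact dvd_pow_self p hn0
  obtain ⟨x, hx⟩ := exists_prime_orderOf_dvd_card' p hdvd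
  have hxp : (x : H) ^ p = 1 := by
    have := pow_orderOf_eq_one x
    rw [hx] at this
    have h2 := congrArg Subtype.val this
    rw [Subgroup.coe_pow, Subgroup.coe_one] at h2
    exact h2
  have hx1 : (x : H) ≠ 1 := by
    intro h
    have : x = 1 := Subtype.ext h
    rw [this, orderOf_one] at hx
    exact hp.out.one_lt.ne hx
  have hmem : (x : H) ∈ Cfsg.sylowCenterClosure p X := by
    unfold Cfsg.sylowCenterClosure
    apply (le_iSup (fun S : Sylow p ↥X => Cfsg.omegaOne p (((S : Subgroup ↥X).map X.subtype) ⊓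
      Subgroup.centralizer (((S : Subgroup ↥X).map X.subtype : Subgroup H) : Set H))) S)
    unfold Cfsg.omegaOne
    exact Subgroup.subset_closure ⟨x.2, hxp⟩
  have := hle hmem
  rw [hbot, Subgroup.mem_bot] at this
  exact hx1 this

/-- lexicographic maximum over the members of `𝓛_H` containing `L` -/
theorem exists_lex_max [Finite H] {p : ℕ} [Fact p.Prime] (L : Subgroup H) (hL : LH p L) :
    ∃ Mt : Subgroup H, LH p Mt ∧ L ≤ Mt ∧ ∀ X : Subgroup H, LH p X → L ≤ X →
      Nat.card ↥(Cfsg.largestPReducedOf p X) ≤ Nat.card ↥(Cfsg.largestPReducedOf p Mt) ∧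
      (Nat.card ↥(Cfsg.largestPReducedOf p X) = Nat.card ↥(Cfsg.largestPReducedOf p Mt) →
        Nat.card ↥X ≤ Nat.card ↥Mt) := by
  haveI : Nonempty {X : Subgroup H // LH p X ∧ L ≤ X} := ⟨⟨L, hL, le_rfl⟩⟩
  haveI : Finite {X : Subgroup H // LH p X ∧ L ≤ X} := Subtype.finite
  obtain ⟨⟨Mt, hMt1, hMt2⟩, hmax⟩ := Finite.exists_max
    (fun X : {X : Subgroup H // LH p X ∧ L ≤ X} =>
      Nat.card ↥(Cfsg.largestPReducedOf p X.1) * (Nat.card H + 1) + Nat.card ↥X.1)
  refine ⟨Mt, hMt1, hMt2, fun X hX1 hX2 => ?_⟩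
  have h := hmax ⟨X, hX1, hX2⟩
  simp only at h
  have hb1 : Nat.card ↥X ≤ Nat.card H := Subgroup.card_le_card_group X
  have hb2 : Nat.card ↥Mt ≤ Nat.card H := Subgroup.card_le_card_group Mt
  have hfirst : Nat.card ↥(Cfsg.largestPReducedOf p X) ≤
      Nat.card ↥(Cfsg.largestPReducedOf p Mt) := by
    by_contra hlt
    have hlt' : Nat.card ↥(Cfsg.largestPReducedOf p Mt) + 1 ≤
        Nat.card ↥(Cfsg.largestPReducedOf p X) := by omega
    have h2 := Nat.mul_le_mul_right (Nat.card H + 1) hlt'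
    have e : (Nat.card ↥(Cfsg.largestPReducedOf p Mt) + 1) * (Nat.card H + 1) =
        Nat.card ↥(Cfsg.largestPReducedOf p Mt) * (Nat.card H + 1) + (Nat.card H + 1) := by ring
    rw [e] at h2
    omega
  refine ⟨hfirst, fun heq => ?_⟩
  rw [heq] at h
  omega

end Cfsg.Agent.helper14
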