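import Mathlib
import Cfsg.Agent.Lib_helper14_FrakM2

set_option autoImplicit false
set_option linter.style.haveILetI false
open Cfsg
open scoped Pointwise

namespace Cfsg.Agent.helper14

open Cfsg.Agent.helper7

theorem map_le_frattini_of_minimal {G : Type*} [Group G] [Finite G] {p : ℕ} [Fact p.Prime]
    (C : Subgroup G) [hCn : C.Normal] (S : Sylow p G)
    (hSC : ((S : Subgroup G) ⊓ C).Normal)
    (hmin : ∀ K : Subgroup G, K ⊔ C = ⊤ → ¬ p ∣ K.index → K = ⊤) :
    C.map (QuotientGroup.mk' (Cfsg.pCore p G)) ≤ frattini (G ⧸ Cfsg.pCore p G) := by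
  haveI hPn : (Cfsg.pCore p G).Normal := pCore_normal' p
  have hsurj : Function.Surjective (QuotientGroup.mk' (Cfsg.pCore p G)) :=
    QuotientGroup.mk'_surjective _
  unfold frattini Order.radical
  apply le_iInf₂
  intro Kb hKb
  by_contra hnot
  have hsup : Kb ⊔ C.map (QuotientGroup.mk' (Cfsg.pCore p G)) = ⊤ := by
    apply hKb.2
    apply lt_of_le_of_ne le_sup_left
    intro h
    apply hnot
    rw [h]
    exact le_sup_right
  haveI hCbn : (C.map (QuotientGroup.mk' (Cfsg.pCore p G))).Normal := hCn.map _ hsurj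
  have hK : Kb.comap (QuotientGroup.mk' (Cfsg.pCore p G)) ⊔ C = ⊤ := by
    rw [eq_top_iff]
    intro g _
    have hg : QuotientGroup.mk' (Cfsg.pCore p G) g ∈
        ((Kb ⊔ C.map (QuotientGroup.mk' (Cfsg.pCore p G)) :
          Subgroup (G ⧸ Cfsg.pCore p G)) : Set (G ⧸ Cfsg.pCore p G)) := by
      rw [hsup]; trivial
    rw [Subgroup.mul_normal, Set.mem_mul] at hg
    obtain ⟨k, hk, _, ⟨c, hc, rfl⟩, hkc⟩ := hg
    have h1 : g * c⁻¹ ∈ Kb.comap (QuotientGroup.mk' (Cfsg.pCore p G)) := by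
      rw [Subgroup.mem_comap, map_mul, map_inv, ← hkc, mul_inv_cancel_right]
      exact hk
    have : g = (g * c⁻¹) * c := by group
    rw [this]
    exact Subgroup.mul_mem _ ((le_sup_left : Kb.comap (QuotientGroup.mk' (Cfsg.pCore p G)) ≤ _) h1)
      ((le_sup_right : C ≤ Kb.comap (QuotientGroup.mk' (Cfsg.pCore p G)) ⊔ C) hc)
  have hidx : ¬ p ∣ (Kb.comap (QuotientGroup.mk' (Cfsg.pCore p G))).index := by
    have e1 : (Kb.comap (QuotientGroup.mk' (Cfsg.pCore p G))).index =
        (Kb.comap (QuotientGroup.mk' (Cfsg.pCore p G)) ⊓ C).relIndex C := by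
      rw [Cfsg.Agent.helper19.relIndex_inf_normal, hK, Subgroup.relIndex_top_right]
    rw [e1]
    have hle : (S : Subgroup G) ⊓ C ≤ Kb.comap (QuotientGroup.mk' (Cfsg.pCore p G)) ⊓ C := by
      apply le_inf _ inf_le_right
      have h1 : (S : Subgroup G) ⊓ C ≤ Cfsg.pCore p G :=
        le_sSup (show (S : Subgroup G) ⊓ C ∈ {N : Subgroup G | N.Normal ∧ IsPGroup p ↥N} from
          ⟨hSC, S.isPGroup'.to_le inf_le_left⟩)
      intro x hx
      rw [Subgroup.mem_comap]
      have : QuotientGroup.mk' (Cfsg.pCore p G) x = 1 :=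
        (QuotientGroup.eq_one_iff _).mpr (h1 hx)
      rw [this]
      exact Subgroup.one_mem _
    intro hdvd
    exact Cfsg.Agent.helper19.sylow_inf_normal_not_dvd S C
      (hdvd.trans (Subgroup.relIndex_dvd_of_le_left C hle))
  have htop := hmin _ hK hidx
  apply hKb.1
  rw [← Subgroup.map_comap_eq_self_of_surjective hsurj Kb, htop, ← MonoidHom.range_eq_map,
    MonoidHom.range_eq_top.mpr hsurj]

end Cfsg.Agent.helper14
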