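import Mathlib
import Cfsg.Agent.Lib_helper14_FrakM3

set_option autoImplicit false
set_option linter.style.haveILetI false
open Cfsg
open scoped Pointwise

namespace Cfsg.Agent.helper14

open Cfsg.Agent.helper7

variable {H : Type*} [Group H]

/-- a minimal supplement containing `T` -/
theorem exists_min_supplement [Finite H] (T Mt C : Subgroup H) (hTMt : T ≤ Mt) (hCMt : C ≤ Mt) :
    ∃ M : Subgroup H, T ≤ M ∧ M ≤ Mt ∧ M ⊔ C = Mt ∧
      ∀ X : Subgroup H, T ≤ X → X ≤ Mt → X ⊔ C = Mt → Nat.card ↥M ≤ Nat.card ↥X := by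
  haveI : Nonempty {X : Subgroup H // T ≤ X ∧ X ≤ Mt ∧ X ⊔ C = Mt} :=
    ⟨⟨Mt, hTMt, le_rfl, sup_eq_left.mpr hCMt⟩⟩
  haveI : Finite {X : Subgroup H // T ≤ X ∧ X ≤ Mt ∧ X ⊔ C = Mt} := Subtype.finite
  obtain ⟨⟨M, hTM, hMMt, hMfac⟩, hmin0⟩ := Finite.exists_min
    (fun X : {X : Subgroup H // T ≤ X ∧ X ≤ Mt ∧ X ⊔ C = Mt} => Nat.card ↥X.1)
  exact ⟨M, hTM, hMMt, hMfac, fun X h1 h2 h3 => hmin0 ⟨X, h1, h2, h3⟩⟩

/-- minimal supplement: `M` normalizes `T ⊓ C` -/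
theorem min_supplement_le_normalizer [Finite H] {p : ℕ} [hp : Fact p.Prime] (T : Sylow p H)
    (M Mt C : Subgroup H) (hTM : (T : Subgroup H) ≤ M) (hMMt : M ≤ Mt) (hCMt : C ≤ Mt)
    (hMfac : M ⊔ C = Mt) (hMC : M ≤ Subgroup.normalizer (C : Set H))
    (hmin : ∀ X : Subgroup H, (T : Subgroup H) ≤ X → X ≤ Mt → X ⊔ C = Mt →
      Nat.card ↥M ≤ Nat.card ↥X) :
    M ≤ Subgroup.normalizer (((T : Subgroup H) ⊓ C : Subgroup H) : Set H) := by
  obtain ⟨R, hRdef⟩ : ∃ R : Subgroup H, R = (T : Subgroup H) ⊓ C := ⟨_, rfl⟩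
  rw [← hRdef]
  have hTnorm : (T : Subgroup H) ≤ Subgroup.normalizer (R : Set H) := by
    rw [hRdef]
    exact le_normalizer_inf' Subgroup.le_normalizer (hTM.trans hMC)
  obtain ⟨X, hXdef⟩ : ∃ X : Subgroup H, X = M ⊓ Subgroup.normalizer (R : Set H) := ⟨_, rfl⟩
  have hXM : X ≤ M := by rw [hXdef]; exact inf_le_left
  have hTX : (T : Subgroup H) ≤ X := by rw [hXdef]; exact le_inf hTM hTnorm
  have hle1 : X ≤ X ⊔ C := le_sup_left
  have hle2 : C ≤ X ⊔ C := le_sup_right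
  have hXfac : X ⊔ C = Mt := by
    apply le_antisymm (sup_le (hXM.trans hMMt) hCMt)
    rw [← hMfac]
    apply sup_le _ le_sup_right
    intro m hm
    obtain ⟨a, ha, d, hd, hmd⟩ := frattini_ambient M (T.subtype hTM) C hMC m hm
    rw [Sylow.coe_subtype, Subgroup.map_subgroupOf_eq_of_le hTM] at ha
    rw [hmd]
    have ha' : a ∈ X := by
      rw [hXdef, hRdef]; exact ha
    exact Subgroup.mul_mem _ (hle1 ha') (hle2 hd.2)
  have hcard : Nat.card ↥M ≤ Nat.card ↥X := hmin X hTX (hXM.trans hMMt) hXfac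
  have hXeq : X = M := Subgroup.eq_of_le_of_card_ge hXM hcard
  rw [← hXeq, hXdef]
  exact inf_le_right

end Cfsg.Agent.helper14
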