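import Mathlib
import Cfsg.Agent.Lib_helper14_FrakM4

set_option autoImplicit false
set_option linter.style.haveILetI false
open Cfsg
open scoped Pointwise

namespace Cfsg.Agent.helper14

open Cfsg.Agent.helper7

variable {H : Type*} [Group H]

/-- `M ⊓ C` is `p`-closed when `M` normalizes `T ⊓ C` -/
theorem isPClosed_inf_of_normal [Finite H] {p : ℕ} [hp : Fact p.Prime] (T : Sylow p H)
    (M C : Subgroup H) (hTM : (T : Subgroup H) ≤ M)
    (hMCn : M ≤ Subgroup.normalizer ((M ⊓ C : Subgroup H) : Set H))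
    (hMR : M ≤ Subgroup.normalizer (((T : Subgroup H) ⊓ C : Subgroup H) : Set H)) :
    Cfsg.IsPClosed p ↥(M ⊓ C) := by
  have hR_eq : (T : Subgroup H) ⊓ (M ⊓ C) = (T : Subgroup H) ⊓ C := by
    rw [← inf_assoc, inf_eq_left.mpr hTM]
  have hidxT : ¬ p ∣ (T : Subgroup H).relIndex M := fun h =>
    T.not_dvd_index (h.trans (Subgroup.relIndex_dvd_index_of_le hTM))
  have hidx := not_dvd_relIndex_inf_of_normal M (M ⊓ C) (T : Subgroup H) inf_le_left hMCn
    T.isPGroup' hidxT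
  have hRp : IsPGroup p ↥(((T : Subgroup H) ⊓ (M ⊓ C)).subgroupOf (M ⊓ C)) :=
    (T.isPGroup'.to_le inf_le_left).comap_of_injective _ (Subgroup.subtype_injective _)
  have hn : (((T : Subgroup H) ⊓ (M ⊓ C)).subgroupOf (M ⊓ C)).Normal :=
    (Subgroup.normal_subgroupOf_iff_le_normalizer inf_le_right).mpr (by
      rw [hR_eq]; exact inf_le_left.trans hMR)
  have hidx' : ¬ p ∣ (((T : Subgroup H) ⊓ (M ⊓ C)).subgroupOf (M ⊓ C)).index := hidx
  exact isPClosed_of_sylow_normal (hRp.toSylow hidx') hn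

/-- the Frattini condition for a minimal supplement -/
theorem frattini_cond_of_min [Finite H] {p : ℕ} [hp : Fact p.Prime] (T : Sylow p H)
    (M Mt C : Subgroup H) (hTM : (T : Subgroup H) ≤ M) (hMMt : M ≤ Mt) (hCMt : C ≤ Mt)
    (hMfac : M ⊔ C = Mt)
    (hMCn : M ≤ Subgroup.normalizer ((M ⊓ C : Subgroup H) : Set H))
    (hMR : M ≤ Subgroup.normalizer (((T : Subgroup H) ⊓ C : Subgroup H) : Set H))
    (hmin : ∀ X : Subgroup H, (T : Subgroup H) ≤ X → X ≤ Mt → X ⊔ C = Mt →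
      Nat.card ↥M ≤ Nat.card ↥X) :
    ((M ⊓ C).subgroupOf M).map (QuotientGroup.mk' (Cfsg.pCore p ↥M)) ≤
      frattini (↥M ⧸ Cfsg.pCore p ↥M) := by
  have hR_eq : (T : Subgroup H) ⊓ (M ⊓ C) = (T : Subgroup H) ⊓ C := by
    rw [← inf_assoc, inf_eq_left.mpr hTM]
  haveI : ((M ⊓ C).subgroupOf M).Normal :=
    (Subgroup.normal_subgroupOf_iff_le_normalizer inf_le_left).mpr hMCn
  apply map_le_frattini_of_minimal _ (T.subtype hTM)
  · have e : ((T.subtype hTM : Sylow p ↥M) : Subgroup ↥M) ⊓ (M ⊓ C).subgroupOf M =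
        ((T : Subgroup H) ⊓ (M ⊓ C)).subgroupOf M := by
      rw [Sylow.coe_subtype]
      ext x
      simp [Subgroup.mem_subgroupOf]
    rw [e]
    exact (Subgroup.normal_subgroupOf_iff_le_normalizer (inf_le_right.trans inf_le_left)).mpr (by
      rw [hR_eq]; exact hMR)
  · intro K hK hidx
    obtain ⟨g, hg⟩ := exists_cj_sylow_le_of_not_dvd_index (T.subtype hTM) K hidx
    apply Subgroup.eq_top_of_le_card
    have hgM : ((g : H))⁻¹ ∈ M := M.inv_mem g.2
    have hcard : Nat.card ↥(cj ((g : H))⁻¹ (K.map M.subtype)) = Nat.card ↥K := by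
      show Nat.card ↥((K.map M.subtype).map (MulAut.conj ((g : H))⁻¹).toMonoidHom) = _
      rw [Subgroup.card_map_of_injective (MulAut.conj ((g : H))⁻¹).injective,
        Subgroup.card_map_of_injective (Subgroup.subtype_injective M)]
    rw [← hcard]
    have hKM : K.map M.subtype ≤ M := Subgroup.map_subtype_le _
    have hXM : cj ((g : H))⁻¹ (K.map M.subtype) ≤ M := by
      have := cj_mono (g := ((g : H))⁻¹) hKM
      rwa [cj_eq_of_mem_normalizer (Subgroup.le_normalizer hgM)] at this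
    have hTX : (T : Subgroup H) ≤ cj ((g : H))⁻¹ (K.map M.subtype) := by
      rw [← cj_le_iff]
      have h1 := Subgroup.map_mono (f := M.subtype) hg
      rw [map_subtype_cj, Sylow.coe_subtype, Subgroup.map_subgroupOf_eq_of_le hTM] at h1
      exact h1
    have hsupM : K.map M.subtype ⊔ (M ⊓ C) = M := by
      have h1 := congrArg (Subgroup.map M.subtype) hK
      rw [Subgroup.map_sup, Subgroup.map_subgroupOf_eq_of_le inf_le_left,
        ← MonoidHom.range_eq_map, Subgroup.range_subtype] at h1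
      exact h1
    have hsupX : cj ((g : H))⁻¹ (K.map M.subtype) ⊔ (M ⊓ C) = M := by
      have h1 := congrArg (cj ((g : H))⁻¹) hsupM
      have h2 : cj ((g : H))⁻¹ (K.map M.subtype ⊔ (M ⊓ C)) =
          cj ((g : H))⁻¹ (K.map M.subtype) ⊔ cj ((g : H))⁻¹ (M ⊓ C) := Subgroup.map_sup _ _ _
      rw [h2, cj_eq_of_mem_normalizer (hMCn hgM),
        cj_eq_of_mem_normalizer (Subgroup.le_normalizer hgM)] at h1
      exact h1
    apply hmin _ hTX (hXM.trans hMMt)
    apply le_antisymm (sup_le (hXM.trans hMMt) hCMt)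
    rw [← hMfac]
    apply sup_le _ le_sup_right
    intro x hx
    have hx' : x ∈ cj ((g : H))⁻¹ (K.map M.subtype) ⊔ (M ⊓ C) := by rw [hsupX]; exact hx
    have hle : cj ((g : H))⁻¹ (K.map M.subtype) ⊔ (M ⊓ C) ≤
        cj ((g : H))⁻¹ (K.map M.subtype) ⊔ C := sup_le_sup_left inf_le_right _
    exact hle hx'

/-- the subgroup `L* = M ⊓ (L ⊔ C)` has `L* ⊔ C = L ⊔ C` -/
theorem inf_sup_factor (L M Mt C : Subgroup H) (hLMt : L ≤ Mt) (hMfac : M ⊔ C = Mt)
    (hMC : M ≤ Subgroup.normalizer (C : Set H)) :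
    (M ⊓ (L ⊔ C)) ⊔ C = L ⊔ C := by
  have hA : L ≤ L ⊔ C := le_sup_left
  have hB : C ≤ L ⊔ C := le_sup_right
  have hA' : M ⊓ (L ⊔ C) ≤ (M ⊓ (L ⊔ C)) ⊔ C := le_sup_left
  have hB' : C ≤ (M ⊓ (L ⊔ C)) ⊔ C := le_sup_right
  apply le_antisymm
  · exact sup_le inf_le_right le_sup_right
  · apply sup_le _ le_sup_right
    intro l hl
    have hl' : l ∈ ((M ⊔ C : Subgroup H) : Set H) := by
      rw [hMfac]; exact hLMt hl
    rw [Subgroup.coe_mul_of_left_le_normalizer_right M _ hMC] at hl'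
    obtain ⟨m, hm, c, hc, hmc⟩ := hl'
    have hmLs : m ∈ M ⊓ (L ⊔ C) := by
      refine Subgroup.mem_inf.mpr ⟨hm, ?_⟩
      have : m = l * c⁻¹ := by rw [← hmc]; group
      rw [this]
      exact Subgroup.mul_mem _ (hA hl) (hB (Subgroup.inv_mem _ hc))
    rw [← hmc]
    exact Subgroup.mul_mem _ (hA' hmLs) (hB' hc)

end Cfsg.Agent.helper14
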