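import Mathlib
import Cfsg.Agent.Lib_helper14_FrakM5

set_option autoImplicit false
set_option linter.style.haveILetI false
open Cfsg
open scoped Pointwise

namespace Cfsg.Agent.helper14

open Cfsg.Agent.helper7

variable {H : Type*} [Group H]

/-- the lexicographically maximal member `M†` of `𝓛_H` over `L` -/
theorem exists_mt [Finite H] {p : ℕ} [hp : Fact p.Prime]
    (hH : Cfsg.IsOfParabolicCharacteristic p H) (T : Sylow p H) (L : Subgroup H)
    (hTL : (T : Subgroup H) ≤ L) (hL : LH p L) :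
    ∃ Mt : Subgroup H, LH p Mt ∧ L ≤ Mt ∧
      (∀ X : Subgroup H, LH p X → L ≤ X →
        Nat.card ↥(Cfsg.largestPReducedOf p X) ≤ Nat.card ↥(Cfsg.largestPReducedOf p Mt)) ∧
      (∀ X : Subgroup H, LH p X → Mt ≤ X → X = Mt) ∧
      Subgroup.normalizer ((Cfsg.largestPReducedOf p Mt : Subgroup H) : Set H) = Mt := by
  obtain ⟨Mt, hMt, hLMt, hlex⟩ := exists_lex_max L hL
  have hTMt : (T : Subgroup H) ≤ Mt := hTL.trans hLMt
  have hmax : ∀ X : Subgroup H, LH p X → Mt ≤ X → X = Mt := by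
    intro X hX hMtX
    have h1 := hlex X hX (hLMt.trans hMtX)
    have h2 : Cfsg.largestPReducedOf p Mt ≤ Cfsg.largestPReducedOf p X :=
      le_largestPReducedOf_of_le T Mt X hTMt hMtX hX (predIn_largestPReducedOf Mt)
    have h3 : Nat.card ↥(Cfsg.largestPReducedOf p X) = Nat.card ↥(Cfsg.largestPReducedOf p Mt) :=
      le_antisymm h1.1 (Subgroup.card_le_of_le h2)
    exact (Subgroup.eq_of_le_of_card_ge hMtX (h1.2 h3)).symm
  refine ⟨Mt, hMt, hLMt, fun X h1 h2 => (hlex X h1 h2).1, hmax, ?_⟩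
  have hYt1 : Cfsg.largestPReducedOf p Mt ≠ ⊥ := largestPReducedOf_ne_bot Mt hMt
  have hPt : PRedIn p Mt (Cfsg.largestPReducedOf p Mt) := predIn_largestPReducedOf Mt
  have hYtp : IsPGroup p ↥(Cfsg.largestPReducedOf p Mt) :=
    (pCoreOf_isPGroup Mt).to_le hPt.le_pCoreOf
  have hMtY : Mt ≤ Subgroup.normalizer ((Cfsg.largestPReducedOf p Mt : Subgroup H) : Set H) :=
    hPt.2.1
  apply hmax _ _ hMtY
  apply lh_of_parabolic hH T _ (hTMt.trans hMtY)
  intro hbot
  have : Cfsg.largestPReducedOf p Mt ≤ Cfsg.pCoreOf p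
      (Subgroup.normalizer ((Cfsg.largestPReducedOf p Mt : Subgroup H) : Set H)) :=
    le_pCoreOf_of_normal _ _ Subgroup.le_normalizer le_rfl hYtp
  rw [hbot] at this
  exact hYt1 (le_bot_iff.mp this)

/-- core of the step, generic in `Yt` -/
theorem step_core [Finite H] {p : ℕ} [hp : Fact p.Prime]
    (hH : Cfsg.IsOfParabolicCharacteristic p H) (T : Sylow p H) (L Mt Yt : Subgroup H)
    (hTL : (T : Subgroup H) ≤ L) (hL : LH p L) (hMt : LH p Mt) (hLMt : L ≤ Mt)
    (hYtdef : Yt = Cfsg.largestPReducedOf p Mt)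
    (hNY : Subgroup.normalizer (Yt : Set H) = Mt) :
    ∃ M Ls : Subgroup H, (T : Subgroup H) ≤ M ∧ M ≤ Mt ∧ (T : Subgroup H) ≤ Ls ∧ Ls ≤ M ∧
      LH p Ls ∧ LH p M ∧
      Cfsg.largestPReducedOf p L = Cfsg.largestPReducedOf p Ls ∧
      Cfsg.largestPReducedOf p M = Yt ∧
      Cfsg.largestPReducedOf p L ≤ Yt ∧
      L ⊔ Subgroup.centralizer ((Cfsg.largestPReducedOf p L : Subgroup H) : Set H) =
        Ls ⊔ Subgroup.centralizer ((Cfsg.largestPReducedOf p L : Subgroup H) : Set H) ∧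
      M ⊔ Subgroup.centralizer (Yt : Set H) = Mt ∧
      Cfsg.IsPClosed p ↥(M ⊓ Subgroup.centralizer (Yt : Set H)) ∧
      ((M ⊓ Subgroup.centralizer (Yt : Set H)).subgroupOf M).map
        (QuotientGroup.mk' (Cfsg.pCore p ↥M)) ≤ frattini (↥M ⧸ Cfsg.pCore p ↥M) := by
  have hTMt : (T : Subgroup H) ≤ Mt := hTL.trans hLMt
  have hYt1 : Yt ≠ ⊥ := by rw [hYtdef]; exact largestPReducedOf_ne_bot Mt hMt
  have hPt : PRedIn p Mt Yt := by rw [hYtdef]; exact predIn_largestPReducedOf Mt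
  have hCMt : Subgroup.centralizer (Yt : Set H) ≤ Mt := by
    calc Subgroup.centralizer (Yt : Set H) ≤ Subgroup.normalizer (Yt : Set H) :=
          Subgroup.centralizer_le_normalizer _
      _ = Mt := hNY
  obtain ⟨M, hTM, hMMt, hMfac, hmin⟩ :=
    exists_min_supplement (T : Subgroup H) Mt (Subgroup.centralizer (Yt : Set H)) hTMt hCMt
  have hfac' : M ⊔ Subgroup.centralizer (Yt : Set H) =
      Mt ⊔ Subgroup.centralizer (Yt : Set H) := by
    rw [hMfac, sup_eq_left.mpr hCMt]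
  have hPM : PRedIn p M Yt := predIn_of_factor T M Mt _ hTM hTMt hPt hfac'
  have hYM : Cfsg.largestPReducedOf p M = Yt := by
    apply le_antisymm
    · rw [hYtdef]
      exact le_largestPReducedOf_of_le T M Mt hTM hMMt hMt (predIn_largestPReducedOf M)
    · exact le_largestPReducedOf M _ hPM
  have hLHM : LH p M := by
    apply lh_of_parabolic hH T M hTM
    intro hbot
    have := hPM.le_pCoreOf
    rw [hbot] at this
    exact hYt1 (le_bot_iff.mp this)
  have hMY : M ≤ Subgroup.normalizer (Yt : Set H) := hPM.2.1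
  have hMC : M ≤ Subgroup.normalizer ((Subgroup.centralizer (Yt : Set H) : Subgroup H) : Set H) :=
    hMY.trans (normalizer_le_normalizer_centralizer _)
  have hMCn : M ≤ Subgroup.normalizer ((M ⊓ Subgroup.centralizer (Yt : Set H) : Subgroup H) :
      Set H) := le_normalizer_inf_centralizer M _ hMY
  have hMR : M ≤ Subgroup.normalizer (((T : Subgroup H) ⊓ Subgroup.centralizer (Yt : Set H) :
      Subgroup H) : Set H) :=
    min_supplement_le_normalizer T M Mt _ hTM hMMt hCMt hMfac hMC hmin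
  have hpc : Cfsg.IsPClosed p ↥(M ⊓ Subgroup.centralizer (Yt : Set H)) :=
    isPClosed_inf_of_normal T M _ hTM hMCn hMR
  have hfr := frattini_cond_of_min T M Mt _ hTM hMMt hCMt hMfac hMCn hMR hmin
  -- the subgroup `L*`
  obtain ⟨Ls, hLsdef⟩ : ∃ Ls : Subgroup H, Ls = M ⊓ (L ⊔ Subgroup.centralizer (Yt : Set H)) :=
    ⟨_, rfl⟩
  have hTLs : (T : Subgroup H) ≤ Ls := by
    rw [hLsdef]; exact le_inf hTM (hTL.trans le_sup_left)
  have hLsM : Ls ≤ M := by rw [hLsdef]; exact inf_le_left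
  have hfacC : Ls ⊔ Subgroup.centralizer (Yt : Set H) = L ⊔ Subgroup.centralizer (Yt : Set H) := by
    rw [hLsdef]; exact inf_sup_factor L M Mt _ hLMt hMfac hMC
  have hYL : Cfsg.largestPReducedOf p L ≤ Yt := by
    rw [hYtdef]
    exact le_largestPReducedOf_of_le T L Mt hTL hLMt hMt (predIn_largestPReducedOf L)
  have hYLs : Cfsg.largestPReducedOf p Ls ≤ Yt := by
    rw [hYtdef]
    exact le_largestPReducedOf_of_le T Ls Mt hTLs (hLsM.trans hMMt) hMt
      (predIn_largestPReducedOf Ls)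
  have hC1 : Subgroup.centralizer (Yt : Set H) ≤
      Subgroup.centralizer ((Cfsg.largestPReducedOf p L : Subgroup H) : Set H) :=
    Subgroup.centralizer_le (SetLike.coe_subset_coe.mpr hYL)
  have hC2 : Subgroup.centralizer (Yt : Set H) ≤
      Subgroup.centralizer ((Cfsg.largestPReducedOf p Ls : Subgroup H) : Set H) :=
    Subgroup.centralizer_le (SetLike.coe_subset_coe.mpr hYLs)
  have fac1 : Ls ⊔ Subgroup.centralizer ((Cfsg.largestPReducedOf p L : Subgroup H) : Set H) =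
      L ⊔ Subgroup.centralizer ((Cfsg.largestPReducedOf p L : Subgroup H) : Set H) := by
    rw [← sup_eq_right.mpr hC1, ← sup_assoc, ← sup_assoc, hfacC]
  have fac2 : L ⊔ Subgroup.centralizer ((Cfsg.largestPReducedOf p Ls : Subgroup H) : Set H) =
      Ls ⊔ Subgroup.centralizer ((Cfsg.largestPReducedOf p Ls : Subgroup H) : Set H) := by
    rw [← sup_eq_right.mpr hC2, ← sup_assoc, ← sup_assoc, hfacC]
  have hP1 : PRedIn p Ls (Cfsg.largestPReducedOf p L) :=
    predIn_of_factor T Ls L _ hTLs hTL (predIn_largestPReducedOf L) fac1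
  have hP2 : PRedIn p L (Cfsg.largestPReducedOf p Ls) :=
    predIn_of_factor T L Ls _ hTL hTLs (predIn_largestPReducedOf Ls) fac2
  have hYeq : Cfsg.largestPReducedOf p L = Cfsg.largestPReducedOf p Ls :=
    le_antisymm (le_largestPReducedOf Ls _ hP1) (le_largestPReducedOf L _ hP2)
  have hLHLs : LH p Ls := by
    apply lh_of_parabolic hH T Ls hTLs
    intro hbot
    have := hP1.le_pCoreOf
    rw [hbot] at this
    exact largestPReducedOf_ne_bot L hL (le_bot_iff.mp this)
  exact ⟨M, Ls, hTM, hMMt, hTLs, hLsM, hLHLs, hLHM, hYeq, hYM, hYL, fac1.symm, hMfac, hpc, hfr⟩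

end Cfsg.Agent.helper14
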