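import Mathlib
import Cfsg.Agent.Lib_helper14_FrakM6

set_option autoImplicit false
set_option linter.style.haveILetI false
open Cfsg
open scoped Pointwise

namespace Cfsg.Agent.helper14

open Cfsg.Agent.helper7

variable {H : Type*} [Group H]

/-- One step of the construction of a member of `𝔐_H`. -/
theorem frakM_step [Finite H] {p : ℕ} [hp : Fact p.Prime]
    (hH : Cfsg.IsOfParabolicCharacteristic p H) (T : Sylow p H) (L : Subgroup H)
    (hTL : (T : Subgroup H) ≤ L) (hL : LH p L) :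
    ∃ M Ls Mt : Subgroup H, (T : Subgroup H) ≤ M ∧ (T : Subgroup H) ≤ Ls ∧ Ls ≤ M ∧ LH p Ls ∧
      Cfsg.largestPReducedOf p L = Cfsg.largestPReducedOf p Ls ∧
      Cfsg.largestPReducedOf p L ≤ Cfsg.largestPReducedOf p M ∧
      L ⊔ Subgroup.centralizer ((Cfsg.largestPReducedOf p L : Subgroup H) : Set H) =
        Ls ⊔ Subgroup.centralizer ((Cfsg.largestPReducedOf p L : Subgroup H) : Set H) ∧
      (∀ X : Subgroup H, LH p X → L ≤ X →
        Nat.card ↥(Cfsg.largestPReducedOf p X) ≤ Nat.card ↥(Cfsg.largestPReducedOf p Mt)) ∧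
      (Cfsg.IsInFrakM p M ∨ ∃ X : Subgroup H, LH p X ∧ Ls ≤ X ∧
        Nat.card ↥(Cfsg.largestPReducedOf p Mt) < Nat.card ↥(Cfsg.largestPReducedOf p X)) := by
  obtain ⟨Mt, hMt, hLMt, hcardmax, hmax, hNY⟩ := exists_mt hH T L hTL hL
  obtain ⟨M, Ls, hTM, hMMt, hTLs, hLsM, hLHLs, hLHM, hYeq, hYM, hYL, hfac, hMfac, hpc, hfr⟩ :=
    step_core hH T L Mt (Cfsg.largestPReducedOf p Mt) hTL hL hMt hLMt rfl hNY
  refine ⟨M, Ls, Mt, hTM, hTLs, hLsM, hLHLs, hYeq, by rw [hYM]; exact hYL, hfac, hcardmax, ?_⟩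
  have hMdag : M ⊔ Subgroup.centralizer ((Cfsg.largestPReducedOf p M : Subgroup H) : Set H) =
      Mt := by rw [hYM]; exact hMfac
  by_cases huniq : ∀ X ∈ Cfsg.maxCharPSubgroups p H, M ≤ X →
      X = M ⊔ Subgroup.centralizer ((Cfsg.largestPReducedOf p M : Subgroup H) : Set H)
  · left
    refine ⟨(mem_charPSubgroups_iff p M).mpr hLHM, ?_, huniq, ?_, ?_, ?_⟩
    · rw [hMdag]
      refine ⟨(mem_charPSubgroups_iff p Mt).mpr hMt, fun L' hL' hle => ?_⟩
      exact hmax L' ((mem_charPSubgroups_iff p L').mp hL') hle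
    · rw [hMdag, hYM]
    · rw [hYM]; exact hpc
    · rw [hYM]; exact hfr
  · right
    push Not at huniq
    obtain ⟨X, hXmax, hMX, hXne⟩ := huniq
    rw [hMdag] at hXne
    have hXLH : LH p X := (mem_charPSubgroups_iff p X).mp hXmax.1
    refine ⟨X, hXLH, hLsM.trans hMX, ?_⟩
    by_contra hnlt
    have hle : Cfsg.largestPReducedOf p Mt ≤ Cfsg.largestPReducedOf p X := by
      rw [← hYM]
      exact le_largestPReducedOf_of_le T M X hTM hMX hXLH (predIn_largestPReducedOf M)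
    have heq : Cfsg.largestPReducedOf p Mt = Cfsg.largestPReducedOf p X :=
      Subgroup.eq_of_le_of_card_ge hle (by omega)
    have hXN : X ≤ Mt := by
      have h1 : X ≤ Subgroup.normalizer ((Cfsg.largestPReducedOf p X : Subgroup H) : Set H) :=
        (predIn_largestPReducedOf X).2.1
      rw [← heq, hNY] at h1
      exact h1
    exact hXne (hXmax.2 Mt ((mem_charPSubgroups_iff p Mt).mpr hMt) hXN).symm

/-- the induction -/
theorem exists_frakM_aux [Finite H] {p : ℕ} [hp : Fact p.Prime]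
    (hH : Cfsg.IsOfParabolicCharacteristic p H) (T : Sylow p H) :
    ∀ (k : ℕ) (L : Subgroup H), (T : Subgroup H) ≤ L → LH p L →
      (∃ X : Subgroup H, LH p X ∧ L ≤ X ∧
        Nat.card H ≤ Nat.card ↥(Cfsg.largestPReducedOf p X) + k) →
      ∃ M Ls : Subgroup H, (T : Subgroup H) ≤ M ∧ Cfsg.IsInFrakM p M ∧ (T : Subgroup H) ≤ Ls ∧
        Ls ≤ M ∧ LH p Ls ∧
        Cfsg.largestPReducedOf p L = Cfsg.largestPReducedOf p Ls ∧
        Cfsg.largestPReducedOf p L ≤ Cfsg.largestPReducedOf p M ∧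
        L ⊔ Subgroup.centralizer ((Cfsg.largestPReducedOf p L : Subgroup H) : Set H) =
          Ls ⊔ Subgroup.centralizer ((Cfsg.largestPReducedOf p L : Subgroup H) : Set H) := by
  intro k
  induction k with
  | zero =>
    intro L hTL hL ⟨X0, hX0, hLX0, hk0⟩
    obtain ⟨M, Ls, Mt, hTM, hTLs, hLsM, hLHLs, hYeq, hYLM, hfac, hcardmax, hor⟩ :=
      frakM_step hH T L hTL hL
    rcases hor with hM | ⟨X, hX, hLsX, hlt⟩
    · exact ⟨M, Ls, hTM, hM, hTLs, hLsM, hLHLs, hYeq, hYLM, hfac⟩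
    · exfalso
      have h1 := hcardmax X0 hX0 hLX0
      have h2 : Nat.card ↥(Cfsg.largestPReducedOf p X) ≤ Nat.card H :=
        Subgroup.card_le_card_group _
      omega
  | succ k ih =>
    intro L hTL hL ⟨X0, hX0, hLX0, hk0⟩
    obtain ⟨M, Ls, Mt, hTM, hTLs, hLsM, hLHLs, hYeq, hYLM, hfac, hcardmax, hor⟩ :=
      frakM_step hH T L hTL hL
    rcases hor with hM | ⟨X, hX, hLsX, hlt⟩
    · exact ⟨M, Ls, hTM, hM, hTLs, hLsM, hLHLs, hYeq, hYLM, hfac⟩
    · have h1 := hcardmax X0 hX0 hLX0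
      obtain ⟨M', Ls', hTM', hM', hTLs', hLsM', hLHLs', hYeq', hYLM', hfac'⟩ :=
        ih Ls hTLs hLHLs ⟨X, hX, hLsX, by omega⟩
      refine ⟨M', Ls', hTM', hM', hTLs', hLsM', hLHLs', hYeq.trans hYeq', ?_, ?_⟩
      · rw [hYeq]; exact hYLM'
      · rw [hfac, hYeq, hfac']

theorem exists_frakM [Finite H] {p : ℕ} [hp : Fact p.Prime]
    (hH : Cfsg.IsOfParabolicCharacteristic p H) (T : Sylow p H) (L : Subgroup H)
    (hTL : (T : Subgroup H) ≤ L) (hL : L ∈ Cfsg.charPSubgroups p H) :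
    ∃ M Ls : Subgroup H, (T : Subgroup H) ≤ M ∧ Cfsg.IsInFrakM p M ∧ (T : Subgroup H) ≤ Ls ∧
      Ls ≤ M ∧ Ls ∈ Cfsg.charPSubgroups p H ∧
      Cfsg.largestPReducedOf p L = Cfsg.largestPReducedOf p Ls ∧
      Cfsg.largestPReducedOf p L ≤ Cfsg.largestPReducedOf p M ∧
      L ⊔ Subgroup.centralizer ((Cfsg.largestPReducedOf p L : Subgroup H) : Set H) =
        Ls ⊔ Subgroup.centralizer ((Cfsg.largestPReducedOf p L : Subgroup H) : Set H) := by
  have hL' : LH p L := (mem_charPSubgroups_iff p L).mp hL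
  obtain ⟨M, Ls, h1, h2, h3, h4, h5, h6, h7, h8⟩ :=
    exists_frakM_aux hH T (Nat.card H) L hTL hL' ⟨L, hL', le_rfl, Nat.le_add_left _ _⟩
  exact ⟨M, Ls, h1, h2, h3, h4, (mem_charPSubgroups_iff p Ls).mpr h5, h6, h7, h8⟩

end Cfsg.Agent.helper14
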