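import Mathlib
import Cfsg.Agent.Lib_helper14_Asym
import Cfsg.Agent.Lib_helper14_FrakM7
import Cfsg.Agent.Lib_helper14_PIrr2

set_option autoImplicit false
set_option linter.style.haveILetI false
open Cfsg
open scoped Pointwise

/-!
# Members of `𝔐_G(S)` with asymmetric `Y_M` (helper14)
-/

namespace Cfsg.Agent.helper14

open Cfsg.Agent.helper7

variable {G : Type*} [Group G]

theorem exists_max_LH [Finite G] {p : ℕ} (X : Subgroup G) (hX : LH p X) :
    ∃ X' : Subgroup G, LH p X' ∧ X ≤ X' ∧ ∀ Z : Subgroup G, LH p Z → X' ≤ Z → Z = X' := by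
  haveI : Nonempty {Z : Subgroup G // LH p Z ∧ X ≤ Z} := ⟨⟨X, hX, le_rfl⟩⟩
  haveI : Finite {Z : Subgroup G // LH p Z ∧ X ≤ Z} := Subtype.finite
  obtain ⟨⟨X', h1, h2⟩, hmax⟩ := Finite.exists_max
    (fun Z : {Z : Subgroup G // LH p Z ∧ X ≤ Z} => Nat.card ↥Z.1)
  refine ⟨X', h1, h2, fun Z hZ hle => ?_⟩
  have := hmax ⟨Z, hZ, h2.trans hle⟩
  exact (Subgroup.eq_of_le_of_card_ge hle this).symm

/-- the unique maximal member of `𝓛_G` over `M` -/
theorem le_dagger [Finite G] {p : ℕ} [Fact p.Prime]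
    (hH : Cfsg.IsOfParabolicCharacteristic p G) (S : Sylow p G) (M : Subgroup G)
    (hSM : (S : Subgroup G) ≤ M) (hM : Cfsg.IsInFrakM p M) (X : Subgroup G) (hMX : M ≤ X)
    (hX1 : Cfsg.pCoreOf p X ≠ ⊥) :
    X ≤ M ⊔ Subgroup.centralizer ((Cfsg.largestPReducedOf p M : Subgroup G) : Set G) := by
  have hX : LH p X := lh_of_parabolic hH S X (hSM.trans hMX) hX1
  obtain ⟨X', hX', hXX', hmax⟩ := exists_max_LH X hX
  have hX'max : X' ∈ Cfsg.maxCharPSubgroups p G :=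
    ⟨(mem_charPSubgroups_iff p X').mpr hX', fun Z hZ hle =>
      hmax Z ((mem_charPSubgroups_iff p Z).mp hZ) hle⟩
  have := hM.2.2.1 X' hX'max (hMX.trans hXX')
  rw [← this]
  exact hXX'

theorem le_pCoreOf_of_isPClosed [Finite G] {p : ℕ} [Fact p.Prime] (M C : Subgroup G)
    (hMC : M ≤ Subgroup.normalizer (C : Set G)) (hcl : Cfsg.IsPClosed p ↥(M ⊓ C))
    (R : Subgroup G) (hRp : IsPGroup p R) (hRM : R ≤ M) (hRC : R ≤ C) :
    R ≤ Cfsg.pCoreOf p M := by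
  have hDn : ((M ⊓ C).subgroupOf M).Normal := by
    rw [Subgroup.inf_subgroupOf_left]
    exact Subgroup.normal_subgroupOf_of_le_normalizer hMC
  have hDcl : Cfsg.IsPClosed p ↥((M ⊓ C).subgroupOf M) :=
    isPClosed_of_mulEquiv (Subgroup.subgroupOfEquivOfLe (inf_le_left : M ⊓ C ≤ M)).symm hcl
  have hp' : IsPGroup p (R.subgroupOf M) :=
    hRp.comap_of_injective _ (Subgroup.subtype_injective _)
  have h3 := inf_le_pCore_of_isPClosed _ hDn hDcl _ hp'
  intro x hx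
  have : (⟨x, hRM hx⟩ : M) ∈ Cfsg.pCore p ↥M :=
    h3 ⟨Subgroup.mem_subgroupOf.mpr hx, Subgroup.mem_subgroupOf.mpr ⟨hRM hx, hRC hx⟩⟩
  exact ⟨⟨x, hRM hx⟩, this, rfl⟩

/-- `O_p(M)` is weakly closed in `M†`, ambient form -/
theorem cj_pCoreOf_eq_of_mem_dagger [Finite G] {p : ℕ} [Fact p.Prime] (M Y : Subgroup G)
    (hYM : PRedIn p M Y) (hcl : Cfsg.IsPClosed p ↥(M ⊓ Subgroup.centralizer (Y : Set G)))
    (g : G) (hg : g ∈ M ⊔ Subgroup.centralizer (Y : Set G))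
    (hle : cj g (Cfsg.pCoreOf p M) ≤ M) : cj g (Cfsg.pCoreOf p M) = Cfsg.pCoreOf p M := by
  have hMC : M ≤ Subgroup.normalizer ((Subgroup.centralizer (Y : Set G) : Subgroup G) : Set G) :=
    hYM.2.1.trans (normalizer_le_normalizer_centralizer Y)
  have hOC : Cfsg.pCoreOf p M ≤ Subgroup.centralizer (Y : Set G) := hYM.pCoreOf_le_centralizer
  have hg' : g ∈ ((Subgroup.centralizer (Y : Set G) ⊔ M : Subgroup G) : Set G) := by
    rw [sup_comm]; exact hg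
  rw [Subgroup.coe_mul_of_right_le_normalizer_left _ M hMC] at hg'
  obtain ⟨c, hc, m, hm, rfl⟩ := hg'
  have hOm : cj m (Cfsg.pCoreOf p M) = Cfsg.pCoreOf p M :=
    cj_eq_of_mem_normalizer (le_normalizer_pCoreOf p M hm)
  have hcm : cj (c * m) (Cfsg.pCoreOf p M) = cj c (Cfsg.pCoreOf p M) := by
    rw [← cj_cj, hOm]
  rw [hcm] at hle ⊢
  have h1 : cj c (Cfsg.pCoreOf p M) ≤ Subgroup.centralizer (Y : Set G) := by
    have := cj_mono (g := c) hOC
    rwa [cj_eq_of_mem_normalizer (Subgroup.le_normalizer hc)] at this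
  have hp : IsPGroup p (cj c (Cfsg.pCoreOf p M)) := (pCoreOf_isPGroup M).map _
  have h4 := le_pCoreOf_of_isPClosed M _ hMC hcl _ hp hle h1
  apply Subgroup.eq_of_le_of_card_ge h4
  rw [card_cj]

end Cfsg.Agent.helper14
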