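import Mathlib
import Cfsg.Agent.Lib_helper14_Asym2

set_option autoImplicit false
set_option linter.style.haveILetI false
open Cfsg
open scoped Pointwise

namespace Cfsg.Agent.helper14

open Cfsg.Agent.helper7

variable {G : Type*} [Group G]

/-- the standing hypotheses of the asymmetric case -/
structure AsymSetting (p : ℕ) (S : Sylow p G) (M : Subgroup G) : Prop where
  hH : Cfsg.IsOfParabolicCharacteristic p G
  hSM : (S : Subgroup G) ≤ M
  hM : Cfsg.IsInFrakM p M
  hasym : ¬ Cfsg.IsSymmetricIn (Cfsg.largestPReducedOf p M)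

namespace AsymSetting

variable [Finite G] {p : ℕ} [hp : Fact p.Prime] {S : Sylow p G} {M : Subgroup G}

theorem lh (h : AsymSetting p S M) : LH p M := (mem_charPSubgroups_iff p M).mp h.hM.1

theorem pred (_h : AsymSetting p S M) : PRedIn p M (Cfsg.largestPReducedOf p M) :=
  predIn_largestPReducedOf M

theorem pcl (h : AsymSetting p S M) : Cfsg.IsPClosed p
    ↥(M ⊓ Subgroup.centralizer ((Cfsg.largestPReducedOf p M : Subgroup G) : Set G)) :=
  h.hM.2.2.2.2.1

theorem hMC (h : AsymSetting p S M) : M ≤ Subgroup.normalizer ((Subgroup.centralizer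
    ((Cfsg.largestPReducedOf p M : Subgroup G) : Set G) : Subgroup G) : Set G) :=
  h.pred.2.1.trans (normalizer_le_normalizer_centralizer _)

theorem pCoreOf_le_S (h : AsymSetting p S M) : Cfsg.pCoreOf p M ≤ (S : Subgroup G) :=
  pCoreOf_le_of_sylow_le S M h.hSM

theorem Y_ne_bot (h : AsymSetting p S M) : Cfsg.largestPReducedOf p M ≠ ⊥ :=
  largestPReducedOf_ne_bot M h.lh

/-- the key step: normalizers of `p`-subgroups between `O_p(M)` and `S` lie in `M†` -/
theorem normalizer_le_dagger (h : AsymSetting p S M) (L : Subgroup G)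
    (hPL : Cfsg.pCoreOf p M ≤ L) (hLS : L ≤ (S : Subgroup G)) :
    Subgroup.normalizer (L : Set G) ≤
      M ⊔ Subgroup.centralizer ((Cfsg.largestPReducedOf p M : Subgroup G) : Set G) := by
  have hYM := h.pred
  have hMP : M ≤ Subgroup.normalizer ((Cfsg.pCoreOf p M : Subgroup G) : Set G) :=
    le_normalizer_pCoreOf p M
  have hLY : L ≤ Subgroup.normalizer ((Cfsg.largestPReducedOf p M : Subgroup G) : Set G) :=
    (hLS.trans h.hSM).trans hYM.2.1
  have hCL : L ⊓ Subgroup.centralizer ((Cfsg.largestPReducedOf p M : Subgroup G) : Set G) ≤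
      Cfsg.pCoreOf p M :=
    le_pCoreOf_of_isPClosed M _ h.hMC h.pcl _ (S.isPGroup'.to_le (inf_le_left.trans hLS))
      (inf_le_left.trans (hLS.trans h.hSM)) inf_le_right
  have hkey := asym_sup h.hasym hMP hYM.le_pCoreOf hPL hLY hCL
  obtain ⟨X, hXdef⟩ : ∃ X : Subgroup G, X = M ⊔ Subgroup.normalizer (L : Set G) := ⟨_, rfl⟩
  rw [← hXdef] at hkey
  have hMX : M ≤ X := by rw [hXdef]; exact le_sup_left
  have hNX : Subgroup.normalizer (L : Set G) ≤ X := by rw [hXdef]; exact le_sup_right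
  obtain ⟨V, hVdef⟩ : ∃ V : Subgroup G, V = ⨆ x : ↥X, cj (x : G) (Cfsg.largestPReducedOf p M) :=
    ⟨_, rfl⟩
  have hVP : V ≤ Cfsg.pCoreOf p M := by
    rw [hVdef]
    exact iSup_le (fun x => hkey x x.2)
  have hYV : Cfsg.largestPReducedOf p M ≤ V := by
    rw [hVdef]
    have := le_iSup (fun x : ↥X => cj (x : G) (Cfsg.largestPReducedOf p M)) 1
    have h2 : Cfsg.largestPReducedOf p M ≤ cj ((1 : ↥X) : G) (Cfsg.largestPReducedOf p M) := by
      rw [Subgroup.coe_one, cj_one]
    exact h2.trans this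
  have hXV : X ≤ Subgroup.normalizer (V : Set G) := by
    apply le_normalizer_of_map_conj_le
    intro g hg
    rw [hVdef, Subgroup.map_iSup]
    apply iSup_le
    intro x
    have h1 : (cj (x : G) (Cfsg.largestPReducedOf p M)).map (MulAut.conj g).toMonoidHom =
        cj (g * (x : G)) (Cfsg.largestPReducedOf p M) := cj_cj g x _
    rw [h1]
    exact le_iSup (fun x : ↥X => cj (x : G) (Cfsg.largestPReducedOf p M)) ⟨g * x, X.mul_mem hg x.2⟩
  have hX1 : Cfsg.pCoreOf p X ≠ ⊥ := by
    intro hbot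
    have h1 : V ≤ Cfsg.pCoreOf p X :=
      le_pCoreOf_of_normal X V ((hVP.trans (pCoreOf_le p M)).trans hMX) hXV
        ((pCoreOf_isPGroup M).to_le hVP)
    rw [hbot] at h1
    exact h.Y_ne_bot (le_bot_iff.mp (hYV.trans h1))
  exact hNX.trans (le_dagger h.hH S M h.hSM h.hM X hMX hX1)

/-- Claim A -/
theorem normalizer_le_normalizer (h : AsymSetting p S M) (L : Subgroup G)
    (hPL : Cfsg.pCoreOf p M ≤ L) (hLS : L ≤ (S : Subgroup G)) :
    Subgroup.normalizer (L : Set G) ≤
      Subgroup.normalizer ((Cfsg.pCoreOf p M : Subgroup G) : Set G) := by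
  intro n hn
  apply mem_normalizer_of_cj_eq
  apply cj_pCoreOf_eq_of_mem_dagger M _ h.pred h.pcl n (h.normalizer_le_dagger L hPL hLS hn)
  have := cj_mono (g := n) hPL
  rw [cj_eq_of_mem_normalizer hn] at this
  exact this.trans (hLS.trans h.hSM)

/-- Claim A, conjugated -/
theorem normalizer_le_normalizer' (h : AsymSetting p S M) (n : G)
    (hn : n ∈ Subgroup.normalizer ((Cfsg.pCoreOf p M : Subgroup G) : Set G)) (L : Subgroup G)
    (hPL : Cfsg.pCoreOf p M ≤ L) (hLS : L ≤ cj n (S : Subgroup G)) :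
    Subgroup.normalizer (L : Set G) ≤
      Subgroup.normalizer ((Cfsg.pCoreOf p M : Subgroup G) : Set G) := by
  have hn' : n⁻¹ ∈ Subgroup.normalizer ((Cfsg.pCoreOf p M : Subgroup G) : Set G) :=
    Subgroup.inv_mem _ hn
  have h1 : Cfsg.pCoreOf p M ≤ cj n⁻¹ L := by
    have := cj_mono (g := n⁻¹) hPL
    rwa [cj_eq_of_mem_normalizer hn'] at this
  have h2 : cj n⁻¹ L ≤ (S : Subgroup G) := by
    have := cj_mono (g := n⁻¹) hLS
    rwa [cj_inv_cj] at this
  have h3 := h.normalizer_le_normalizer (cj n⁻¹ L) h1 h2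
  have h4 := cj_mono (g := n) h3
  rw [cj_normalizer, cj_normalizer, cj_cj_inv, cj_eq_of_mem_normalizer hn] at h4
  exact h4

/-- Claim B: Sylow subgroups containing `O_p(M)` are conjugate to `S` under `N(O_p(M))` -/
theorem sylow_conj_aux (h : AsymSetting p S M) : ∀ (k : ℕ) (n : G),
    n ∈ Subgroup.normalizer ((Cfsg.pCoreOf p M : Subgroup G) : Set G) → ∀ T : Sylow p G,
    Cfsg.pCoreOf p M ≤ (T : Subgroup G) →
    Nat.card ↥(T : Subgroup G) ≤ Nat.card ↥(cj n (S : Subgroup G) ⊓ (T : Subgroup G)) + k →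
    ∃ n' ∈ Subgroup.normalizer ((Cfsg.pCoreOf p M : Subgroup G) : Set G),
      (T : Subgroup G) = cj n' (S : Subgroup G) := by
  intro k
  induction k with
  | zero =>
    intro n hn T hPT hcard
    have hD : cj n (S : Subgroup G) ⊓ (T : Subgroup G) = T :=
      Subgroup.eq_of_le_of_card_ge inf_le_right (by omega)
    have hle : (T : Subgroup G) ≤ cj n (S : Subgroup G) := by
      rw [← hD]; exact inf_le_left
    have hp' : IsPGroup p (cj n (S : Subgroup G)) := S.isPGroup'.map _
    exact ⟨n, hn, (T.is_maximal' hp' hle).symm⟩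
  | succ k ih =>
    intro n hn T hPT hcard
    by_cases hD : cj n (S : Subgroup G) ⊓ (T : Subgroup G) = T
    · have hle : (T : Subgroup G) ≤ cj n (S : Subgroup G) := by
        rw [← hD]; exact inf_le_left
      have hp' : IsPGroup p (cj n (S : Subgroup G)) := S.isPGroup'.map _
      exact ⟨n, hn, (T.is_maximal' hp' hle).symm⟩
    · have hlt : cj n (S : Subgroup G) ⊓ (T : Subgroup G) < T := lt_of_le_of_ne inf_le_right hD
      have hgrow := lt_inf_normalizer_of_lt' T.isPGroup' hlt
      have hPnS : Cfsg.pCoreOf p M ≤ cj n (S : Subgroup G) := by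
        have := cj_mono (g := n) h.pCoreOf_le_S
        rwa [cj_eq_of_mem_normalizer hn] at this
      have hND := h.normalizer_le_normalizer' n hn (cj n (S : Subgroup G) ⊓ (T : Subgroup G))
        (le_inf hPnS hPT) inf_le_left
      have hSN : (S : Subgroup G) ≤
          Subgroup.normalizer ((Cfsg.pCoreOf p M : Subgroup G) : Set G) :=
        h.hSM.trans (le_normalizer_pCoreOf p M)
      have hRN : (T : Subgroup G) ⊓ Subgroup.normalizer
          ((cj n (S : Subgroup G) ⊓ (T : Subgroup G) : Subgroup G) : Set G) ≤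
          Subgroup.normalizer ((Cfsg.pCoreOf p M : Subgroup G) : Set G) :=
        inf_le_right.trans hND
      obtain ⟨k₁, hk₁, hle⟩ := Cfsg.Agent.helper10.pgroup_conj_into_sylow_in_subgroup S
        (Subgroup.normalizer ((Cfsg.pCoreOf p M : Subgroup G) : Set G)) hSN _
        (T.isPGroup'.to_le inf_le_left) hRN
      have hle' : (T : Subgroup G) ⊓ Subgroup.normalizer
          ((cj n (S : Subgroup G) ⊓ (T : Subgroup G) : Subgroup G) : Set G) ≤
          cj k₁⁻¹ (S : Subgroup G) := by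
        have := (cj_le_iff (g := k₁)).mp hle
        exact this
      have hlt2 : cj n (S : Subgroup G) ⊓ (T : Subgroup G) <
          cj k₁⁻¹ (S : Subgroup G) ⊓ (T : Subgroup G) :=
        lt_of_lt_of_le hgrow (le_inf hle' inf_le_left)
      have hcard2 : Nat.card ↥(cj n (S : Subgroup G) ⊓ (T : Subgroup G)) <
          Nat.card ↥(cj k₁⁻¹ (S : Subgroup G) ⊓ (T : Subgroup G)) := by
        apply lt_of_le_of_ne (Subgroup.card_le_of_le hlt2.le)
        intro he
        exact hlt2.ne (Subgroup.eq_of_le_of_card_ge hlt2.le he.ge)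
      exact ih k₁⁻¹ (Subgroup.inv_mem _ hk₁) T hPT (by omega)

theorem sylow_conj (h : AsymSetting p S M) (T : Sylow p G)
    (hPT : Cfsg.pCoreOf p M ≤ (T : Subgroup G)) :
    ∃ n ∈ Subgroup.normalizer ((Cfsg.pCoreOf p M : Subgroup G) : Set G),
      (T : Subgroup G) = cj n (S : Subgroup G) :=
  h.sylow_conj_aux (Nat.card ↥(T : Subgroup G)) 1 (Subgroup.one_mem _) T hPT
    (Nat.le_add_left _ _)

end AsymSetting

end Cfsg.Agent.helper14
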