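import Mathlib
import Cfsg.Agent.Lib_helper14_Asym3

set_option autoImplicit false
set_option linter.style.haveILetI false
open Cfsg
open scoped Pointwise

namespace Cfsg.Agent.helper14

open Cfsg.Agent.helper7

variable {G : Type*} [Group G]

namespace AsymSetting

variable [Finite G] {p : ℕ} [hp : Fact p.Prime] {S : Sylow p G} {M : Subgroup G}

theorem pCoreOf_ne_bot (h : AsymSetting p S M) : Cfsg.pCoreOf p M ≠ ⊥ := h.lh.1

/-- `N(O_p(M)) ≤ M†` -/
theorem normalizer_pCoreOf_le_dagger (h : AsymSetting p S M) :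
    Subgroup.normalizer ((Cfsg.pCoreOf p M : Subgroup G) : Set G) ≤
      M ⊔ Subgroup.centralizer ((Cfsg.largestPReducedOf p M : Subgroup G) : Set G) := by
  apply le_dagger h.hH S M h.hSM h.hM _ (le_normalizer_pCoreOf p M)
  intro hbot
  have h1 : Cfsg.pCoreOf p M ≤ Cfsg.pCoreOf p
      (Subgroup.normalizer ((Cfsg.pCoreOf p M : Subgroup G) : Set G)) :=
    le_pCoreOf_of_normal _ _ Subgroup.le_normalizer le_rfl (pCoreOf_isPGroup M)
  rw [hbot] at h1
  exact h.pCoreOf_ne_bot (le_bot_iff.mp h1)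

/-- (b) -/
theorem normalizer_le_of_pgroup (h : AsymSetting p S M) (L : Subgroup G) (hLp : IsPGroup p L)
    (hPL : Cfsg.pCoreOf p M ≤ L) :
    Subgroup.normalizer (L : Set G) ≤
      Subgroup.normalizer ((Cfsg.pCoreOf p M : Subgroup G) : Set G) := by
  obtain ⟨T, hLT⟩ := hLp.exists_le_sylow
  obtain ⟨n, hn, hTn⟩ := h.sylow_conj T (hPL.trans hLT)
  apply h.normalizer_le_normalizer' n hn L hPL
  rw [← hTn]; exact hLT

/-- every `p`-subgroup containing `O_p(M)` normalizes `O_p(M)` (and more) -/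
theorem pgroup_le_conj (h : AsymSetting p S M) (L : Subgroup G) (hLp : IsPGroup p L)
    (hPL : Cfsg.pCoreOf p M ≤ L) :
    ∃ n ∈ Subgroup.normalizer ((Cfsg.pCoreOf p M : Subgroup G) : Set G),
      L ≤ cj n (S : Subgroup G) := by
  obtain ⟨T, hLT⟩ := hLp.exists_le_sylow
  obtain ⟨n, hn, hTn⟩ := h.sylow_conj T (hPL.trans hLT)
  exact ⟨n, hn, by rw [← hTn]; exact hLT⟩

/-- (c), strong form -/
theorem mem_normalizer_of_cj_le (h : AsymSetting p S M) (g : G)
    (hg : cj g (Cfsg.pCoreOf p M) ≤ (S : Subgroup G)) :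
    g ∈ Subgroup.normalizer ((Cfsg.pCoreOf p M : Subgroup G) : Set G) := by
  have h1 : Cfsg.pCoreOf p M ≤ ((g⁻¹ • S : Sylow p G) : Subgroup G) := by
    rw [Cfsg.Agent.helper10.sylow_smul_eq_map_conj]
    exact cj_le_iff.mp hg
  obtain ⟨n, hn, hTn⟩ := h.sylow_conj (g⁻¹ • S) h1
  rw [Cfsg.Agent.helper10.sylow_smul_eq_map_conj] at hTn
  have h2 : cj (g * n) (S : Subgroup G) = S := by
    have := congrArg (cj g) hTn
    rw [cj_cj_inv, cj_cj] at this
    exact this.symm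
  have h3 : g * n ∈ Subgroup.normalizer ((Cfsg.pCoreOf p M : Subgroup G) : Set G) :=
    h.normalizer_le_normalizer (S : Subgroup G) h.pCoreOf_le_S le_rfl (mem_normalizer_of_cj_eq h2)
  have := Subgroup.mul_mem _ h3 (Subgroup.inv_mem _ hn)
  rwa [mul_inv_cancel_right] at this

theorem weaklyClosed (h : AsymSetting p S M) :
    Cfsg.IsWeaklyClosedSubgroup p (Cfsg.pCoreOf p M) :=
  ⟨S, h.pCoreOf_le_S, fun g hg => cj_eq_of_mem_normalizer (h.mem_normalizer_of_cj_le g hg)⟩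

/-- (d) -/
theorem parabolic_inf (h : AsymSetting p S M) (L : Subgroup G) (hPL : Cfsg.pCoreOf p M ≤ L) :
    Cfsg.IsParabolic p ((L ⊓ (M ⊔ Subgroup.centralizer
      ((Cfsg.largestPReducedOf p M : Subgroup G) : Set G))).subgroupOf L) := by
  have hp' : IsPGroup p ((Cfsg.pCoreOf p M).subgroupOf L) :=
    (pCoreOf_isPGroup M).comap_of_injective _ (Subgroup.subtype_injective _)
  obtain ⟨T₀, hT₀⟩ := hp'.exists_le_sylow
  refine ⟨T₀, ?_⟩
  have hT₀p : IsPGroup p ((T₀ : Subgroup ↥L).map L.subtype) := T₀.isPGroup'.map _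
  have hPT₀ : Cfsg.pCoreOf p M ≤ (T₀ : Subgroup ↥L).map L.subtype := by
    intro x hx
    exact ⟨⟨x, hPL hx⟩, hT₀ (Subgroup.mem_subgroupOf.mpr hx), rfl⟩
  obtain ⟨n, hn, hle⟩ := h.pgroup_le_conj _ hT₀p hPT₀
  have hnD := h.normalizer_pCoreOf_le_dagger hn
  have hSD : (S : Subgroup G) ≤ M ⊔ Subgroup.centralizer
      ((Cfsg.largestPReducedOf p M : Subgroup G) : Set G) := h.hSM.trans le_sup_left
  have hcjD : cj n (S : Subgroup G) ≤ M ⊔ Subgroup.centralizer
      ((Cfsg.largestPReducedOf p M : Subgroup G) : Set G) := by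
    have := cj_mono (g := n) hSD
    rwa [cj_eq_of_mem_normalizer (Subgroup.le_normalizer hnD)] at this
  intro x hx
  rw [Subgroup.mem_subgroupOf]
  refine Subgroup.mem_inf.mpr ⟨x.2, ?_⟩
  exact hcjD (hle ⟨x, hx, rfl⟩)

/-- (e) -/
theorem control_fusion (h : AsymSetting p S M) (x : G) (hx : x ∈ Cfsg.largestPReducedOf p M)
    (g : G) (hgx : g * x * g⁻¹ ∈ Cfsg.largestPReducedOf p M) :
    ∃ m ∈ M, m * x * m⁻¹ = g * x * g⁻¹ := by
  have hPC : Cfsg.pCoreOf p M ≤ Subgroup.centralizer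
      ((Cfsg.largestPReducedOf p M : Subgroup G) : Set G) := h.pred.pCoreOf_le_centralizer
  obtain ⟨C, hCdef⟩ : ∃ C : Subgroup G, C = Subgroup.centralizer ({g * x * g⁻¹} : Set G) :=
    ⟨_, rfl⟩
  have hPCx : Cfsg.pCoreOf p M ≤ C := by
    intro q hq
    rw [hCdef, Subgroup.mem_centralizer_iff]
    intro y hy
    rw [Set.mem_singleton_iff] at hy
    rw [hy]
    exact Subgroup.mem_centralizer_iff.mp (hPC hq) _ hgx
  have hgPC : cj g (Cfsg.pCoreOf p M) ≤ C := by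
    rintro _ ⟨q, hq, rfl⟩
    rw [hCdef, Subgroup.mem_centralizer_iff]
    intro y hy
    rw [Set.mem_singleton_iff] at hy
    rw [hy]
    have hcomm : x * q = q * x := Subgroup.mem_centralizer_iff.mp (hPC hq) x hx
    simp only [MulEquiv.coe_toMonoidHom, MulAut.conj_apply]
    calc g * x * g⁻¹ * (g * q * g⁻¹) = g * (x * q) * g⁻¹ := by group
      _ = g * (q * x) * g⁻¹ := by rw [hcomm]
      _ = g * q * g⁻¹ * (g * x * g⁻¹) := by group
  obtain ⟨T₀, hT₀C, hT₀p, hPT₀, hconj⟩ := exists_relSylow C (Cfsg.pCoreOf p M) hPCx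
    (pCoreOf_isPGroup M)
  obtain ⟨c, hc, hle⟩ := hconj (cj g (Cfsg.pCoreOf p M)) hgPC ((pCoreOf_isPGroup M).map _)
  obtain ⟨n, hn, hT₀n⟩ := h.pgroup_le_conj T₀ hT₀p hPT₀
  have h1 : cj (n⁻¹ * (c * g)) (Cfsg.pCoreOf p M) ≤ (S : Subgroup G) := by
    rw [← cj_cj, ← cj_cj]
    have := cj_mono (g := n⁻¹) (hle.trans hT₀n)
    rwa [cj_inv_cj] at this
  have h2 := h.mem_normalizer_of_cj_le _ h1
  have h3 : c * g ∈ Subgroup.normalizer ((Cfsg.pCoreOf p M : Subgroup G) : Set G) := by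
    have := Subgroup.mul_mem _ hn h2
    rwa [mul_inv_cancel_left] at this
  have h4 := h.normalizer_pCoreOf_le_dagger h3
  have h5 : c * g ∈ ((M ⊔ Subgroup.centralizer
      ((Cfsg.largestPReducedOf p M : Subgroup G) : Set G) : Subgroup G) : Set G) := h4
  rw [Subgroup.coe_mul_of_left_le_normalizer_right M _ h.hMC] at h5
  obtain ⟨m, hm, d, hd, hmd⟩ := h5
  refine ⟨m, hm, ?_⟩
  have hdx : d * x = x * d := (Subgroup.mem_centralizer_iff.mp hd x hx).symm
  have hcx : c * (g * x * g⁻¹) = (g * x * g⁻¹) * c := by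
    rw [hCdef] at hc
    exact (Subgroup.mem_centralizer_iff.mp hc _ (Set.mem_singleton _)).symm
  have e1 : m * x * m⁻¹ = (m * d) * x * (m * d)⁻¹ := by
    have : (m * d) * x * (m * d)⁻¹ = m * (d * x) * d⁻¹ * m⁻¹ := by group
    rw [this, hdx]; group
  have hmd' : m * d = c * g := hmd
  rw [e1, hmd']
  have : c * g * x * (c * g)⁻¹ = c * (g * x * g⁻¹) * c⁻¹ := by group
  rw [this, hcx]; group

end AsymSetting

end Cfsg.Agent.helper14
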