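import Cfsg.Agent.Lib_helper15_CDBridge
import Mathlib.Order.SupClosed

set_option autoImplicit false

namespace Cfsg.Agent.helper15

open Pointwise

variable {G : Type*} [Group G]

theorem map_subtype_center_eq (R : Subgroup G) :
    (Subgroup.center ↥R).map R.subtype = R ⊓ Subgroup.centralizer (R : Set G) := by
  ext x
  constructor
  · rintro ⟨z, hz, rfl⟩
    refine Subgroup.mem_inf.2 ⟨z.2, ?_⟩
    rw [Subgroup.mem_centralizer_iff]
    intro r hr
    have := Subgroup.mem_center_iff.1 hz ⟨r, hr⟩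
    exact congrArg Subtype.val this
  · intro hx
    obtain ⟨hxR, hxC⟩ := Subgroup.mem_inf.1 hx
    refine ⟨⟨x, hxR⟩, ?_, rfl⟩
    rw [SetLike.mem_coe, Subgroup.mem_center_iff]
    intro r
    apply Subtype.ext
    exact (Subgroup.mem_centralizer_iff.1 hxC) r r.2

theorem card_center_subgroup (R : Subgroup G) :
    Nat.card ↥(Subgroup.center ↥R) = Nat.card ↥(R ⊓ Subgroup.centralizer (R : Set G)) := by
  rw [← map_subtype_center_eq, Subgroup.card_map_of_injective R.subtype_injective]

/-- The measure `|R| |Z(R)|`. -/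
noncomputable def clMeasure (R : Subgroup G) : ℕ :=
  Nat.card ↥R * Nat.card ↥(R ⊓ Subgroup.centralizer (R : Set G))

theorem clMeasure_le_cdMeasure [Finite G] (R : Subgroup G) : clMeasure R ≤ cdMeasure R :=
  Nat.mul_le_mul_left _ (Subgroup.card_le_of_le inf_le_right)

theorem cdMeasure_le_clMeasure_sup [Finite G] (R : Subgroup G) :
    cdMeasure R ≤ clMeasure (R ⊔ Subgroup.centralizer (R : Set G)) := by
  have h1 := card_mul_card_le_sup_inf R (Subgroup.centralizer (R : Set G))
  have h2 : R ⊓ Subgroup.centralizer (R : Set G) ≤ (R ⊔ Subgroup.centralizer (R : Set G)) ⊓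
      Subgroup.centralizer ((R ⊔ Subgroup.centralizer (R : Set G) : Subgroup G) : Set G) := by
    apply le_inf (inf_le_left.trans le_sup_left)
    rw [centralizer_sup_eq]
    apply le_inf inf_le_right
    exact inf_le_left.trans (le_centralizer_centralizer' R)
  unfold cdMeasure clMeasure
  exact h1.trans (Nat.mul_le_mul_left _ (Subgroup.card_le_of_le h2))

/-- `R` has the largest value of `|R| |Z(R)|`. -/
def IsCLMax (R : Subgroup G) : Prop := ∀ K : Subgroup G, clMeasure K ≤ clMeasure R

theorem exists_isCLMax [Finite G] : ∃ H : Subgroup G, IsCLMax H := by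
  obtain ⟨H, hH⟩ := Finite.exists_max (fun H : Subgroup G => clMeasure H)
  exact ⟨H, hH⟩

theorem IsCLMax.isCDMax [Finite G] {Q : Subgroup G} (hQ : IsCLMax Q) : IsCDMax Q := by
  intro K
  calc cdMeasure K ≤ clMeasure (K ⊔ Subgroup.centralizer (K : Set G)) :=
        cdMeasure_le_clMeasure_sup K
    _ ≤ clMeasure Q := hQ _
    _ ≤ cdMeasure Q := clMeasure_le_cdMeasure Q

theorem IsCLMax.measure_eq [Finite G] {Q : Subgroup G} (hQ : IsCLMax Q) :
    clMeasure Q = cdMeasure Q := by
  apply le_antisymm (clMeasure_le_cdMeasure Q)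
  exact (cdMeasure_le_clMeasure_sup Q).trans (hQ _)

theorem IsCLMax.centralizer_le [Finite G] {Q : Subgroup G} (hQ : IsCLMax Q) :
    Subgroup.centralizer (Q : Set G) ≤ Q := by
  have h := hQ.measure_eq
  unfold clMeasure cdMeasure at h
  have hpos : 0 < Nat.card ↥Q := Nat.card_pos
  have h' := Nat.eq_of_mul_eq_mul_left hpos h
  have : Q ⊓ Subgroup.centralizer (Q : Set G) = Subgroup.centralizer (Q : Set G) :=
    Subgroup.eq_of_le_of_card_ge inf_le_right h'.ge
  exact inf_eq_right.1 this

theorem IsCDMax.isCLMax [Finite G] {Q : Subgroup G} (hQ : IsCDMax Q)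
    (hC : Subgroup.centralizer (Q : Set G) ≤ Q) : IsCLMax Q := by
  have e : clMeasure Q = cdMeasure Q := by
    unfold clMeasure cdMeasure
    rw [inf_eq_right.2 hC]
  intro K
  rw [e]
  exact (clMeasure_le_cdMeasure K).trans (hQ K)

theorem IsCLMax.sup [Finite G] {Q R : Subgroup G} (hQ : IsCLMax Q) (hR : IsCLMax R) :
    ((Q ⊔ R : Subgroup G) : Set G) = (Q : Set G) * (R : Set G) ∧ IsCLMax (Q ⊔ R) := by
  obtain ⟨h1, -, h3, -, -⟩ := hQ.isCDMax.sup_inf hR.isCDMax
  refine ⟨h3, h1.isCLMax ?_⟩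
  rw [centralizer_sup_eq]
  exact inf_le_left.trans (hQ.centralizer_le.trans le_sup_left)

theorem supClosed_isCLMax [Finite G] : SupClosed {R : Subgroup G | IsCLMax R} :=
  fun _ ha _ hb => (IsCLMax.sup ha hb).2

theorem maxCentralProduct_spec [Finite G] :
    (∃ R : Subgroup G, clMeasure R = Cfsg.maxCentralProduct G) ∧
      ∀ K : Subgroup G, clMeasure K ≤ Cfsg.maxCentralProduct G := by
  set T : Set ℕ := {k : ℕ | ∃ R : Subgroup G,
    Nat.card ↥R * Nat.card ↥(Subgroup.center ↥R) = k} with hTdef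
  have hT : T = Set.range (fun R : Subgroup G => clMeasure R) := by
    ext k
    simp only [hTdef, clMeasure, Set.mem_ofPred_eq, Set.mem_range, card_center_subgroup]
  have hfin : T.Finite := hT ▸ Set.finite_range _
  have hne : T.Nonempty := ⟨_, ⊥, rfl⟩
  have hmem : sSup T ∈ T := Nat.sSup_mem hne hfin.bddAbove
  obtain ⟨R, hR⟩ := hmem
  refine ⟨⟨R, ?_⟩, fun K => ?_⟩
  · unfold clMeasure
    rw [← card_center_subgroup]
    exact hR
  · apply le_csSup hfin.bddAbove
    rw [hT]
    exact ⟨K, rfl⟩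

theorem isCentrallyLarge_iff_isCLMax [Finite G] (R : Subgroup G) :
    Cfsg.IsCentrallyLarge R ↔ IsCLMax R := by
  obtain ⟨⟨R₀, hR₀⟩, hle⟩ := maxCentralProduct_spec (G := G)
  have e : Cfsg.IsCentrallyLarge R ↔ clMeasure R = Cfsg.maxCentralProduct G := by
    unfold Cfsg.IsCentrallyLarge clMeasure
    rw [card_center_subgroup]
  rw [e]
  constructor
  · intro h K
    rw [h]
    exact hle K
  · intro h
    have h1 := h R₀
    have h2 := hle R
    omega

end Cfsg.Agent.helper15
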