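import Cfsg.Agent.Lib_helper15_CharP
import Cfsg.Agent.Lib_helper15_CL
import Cfsg.Agent.Lib_helper14_SPE

set_option autoImplicit false
open Cfsg

namespace Cfsg.Agent.helper15

variable {G : Type*} [Group G]

/-- In a group of characteristic `p`, a normal subgroup of order prime to `p` is trivial. -/
theorem eq_bot_of_normal_coprime_of_isCharP [Finite G] {p : ℕ} [Fact p.Prime] (hG : IsCharP p G)
    (V : Subgroup G) (hVn : V.Normal) (hV : (Nat.card V).Coprime p) : V = ⊥ := by
  have hQn : (Cfsg.pCore p G).Normal := pCore_normal' p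
  have hQp : IsPGroup p ↥(Cfsg.pCore p G) := pCore_isPGroup' p
  have hdisj : V ⊓ Cfsg.pCore p G = ⊥ := by
    rw [← Subgroup.card_eq_one]
    obtain ⟨k, hk⟩ := IsPGroup.iff_card.mp hQp
    have hco : (Nat.card V).Coprime (Nat.card (Cfsg.pCore p G)) := by
      rw [hk]; exact Nat.Coprime.pow_right k hV
    exact Nat.eq_one_of_dvd_coprimes hco (Subgroup.card_dvd_of_le inf_le_left)
      (Subgroup.card_dvd_of_le inf_le_right)
  have hVC : V ≤ Subgroup.centralizer (Cfsg.pCore p G : Set G) := by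
    intro v hv
    rw [Subgroup.mem_centralizer_iff]
    intro q hq
    exact (Subgroup.commute_of_normal_of_disjoint V (Cfsg.pCore p G) hVn hQn
      (disjoint_iff.mpr hdisj) v q hv hq).symm
  have h1 : V ≤ V ⊓ Cfsg.pCore p G := le_inf le_rfl (hVC.trans hG)
  rw [hdisj] at h1
  exact le_bot_iff.mp h1

/-- If `N_G(R)` has characteristic `p` and `W` is a normal `p'`-subgroup of `G`, then
`W ∩ N_G(R) = 1`. -/
theorem eq_one_of_mem_normal_coprime_of_mem_normalizer [Finite G] {p : ℕ} [Fact p.Prime]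
    (R : Subgroup G)
    (hchar : Subgroup.centralizer (Cfsg.pCore p ↥(Subgroup.normalizer (R : Set G)) :
      Set ↥(Subgroup.normalizer (R : Set G))) ≤ Cfsg.pCore p ↥(Subgroup.normalizer (R : Set G)))
    (W : Subgroup G) (hWn : W.Normal) (hW : (Nat.card W).Coprime p)
    (w : G) (hw : w ∈ W) (hwN : w ∈ Subgroup.normalizer (R : Set G)) : w = 1 := by
  have hVn : (W.subgroupOf (Subgroup.normalizer (R : Set G))).Normal := hWn.subgroupOf _
  have hVc : (Nat.card (W.subgroupOf (Subgroup.normalizer (R : Set G)))).Coprime p := by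
    have h1 : Nat.card (W.subgroupOf (Subgroup.normalizer (R : Set G))) =
        Nat.card ↥(W ⊓ Subgroup.normalizer (R : Set G)) := by
      rw [← Subgroup.subgroupOf_map_subtype,
        Subgroup.card_map_of_injective (Subgroup.subtype_injective _)]
    rw [h1]
    exact Nat.Coprime.coprime_dvd_left (Subgroup.card_dvd_of_le inf_le_left) hW
  have h2 := eq_bot_of_normal_coprime_of_isCharP (G := ↥(Subgroup.normalizer (R : Set G)))
    hchar _ hVn hVc
  have h3 : (⟨w, hwN⟩ : ↥(Subgroup.normalizer (R : Set G))) ∈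
      W.subgroupOf (Subgroup.normalizer (R : Set G)) := Subgroup.mem_subgroupOf.mpr hw
  rw [h2, Subgroup.mem_bot] at h3
  exact congrArg Subtype.val h3

/-- A nontrivial finite `p`-subgroup has a central element of order `p`. -/
theorem exists_central_orderOf_eq_prime [Finite G] {p : ℕ} [Fact p.Prime] (R : Subgroup G)
    (hR : IsPGroup p ↥R) (hne : R ≠ ⊥) :
    ∃ z ∈ R, (∀ s ∈ R, s * z = z * s) ∧ orderOf z = p := by
  have hZne : R ⊓ Subgroup.centralizer (R : Set G) ≠ ⊥ := by
    haveI : Nontrivial ↥R := (Subgroup.nontrivial_iff_ne_bot _).mpr hne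
    have hcn : Nontrivial (Subgroup.center ↥R) := hR.center_nontrivial
    obtain ⟨c, hc⟩ := exists_ne (1 : Subgroup.center ↥R)
    intro hbot
    have hmem : ((c : ↥R) : G) ∈ R ⊓ Subgroup.centralizer (R : Set G) := by
      rw [← map_subtype_center_eq]
      exact ⟨c.1, c.2, rfl⟩
    rw [hbot, Subgroup.mem_bot] at hmem
    exact hc (Subtype.ext (Subtype.ext hmem))
  obtain ⟨z, hzZ, hzo⟩ := Cfsg.Agent.helper14.exists_orderOf_eq_prime_of_ne_bot _
    (hR.to_le inf_le_left) hZne
  exact ⟨z, (Subgroup.mem_inf.1 hzZ).1, fun s hs =>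
    Subgroup.mem_centralizer_iff.mp (Subgroup.mem_inf.1 hzZ).2 s hs, hzo⟩

end Cfsg.Agent.helper15
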