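import Mathlib
import Cfsg.Prelude.Def_LocalStructure
import Cfsg.Agent.Lib_helper14_ParaChar
import Cfsg.Agent.Lib_helper15_CharP2
import Cfsg.Agent.Lib_helper7_Local

set_option autoImplicit false
open Cfsg

namespace Cfsg.Agent.helper14

open Cfsg.Agent.helper7

/-- Bridge between the two forms of "characteristic `p`". -/
theorem ac_iff_fstarOf {G : Type*} [Group G] [Finite G] {p : ℕ} [hp : Fact p.Prime]
    (K : Subgroup G) : AC p K ↔ fstarOf K = piCoreIn {p} K := by
  unfold AC
  rw [pCoreOf_eq_piCoreIn]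
  constructor
  · intro h
    rw [fstarOf_eq_piCoreIn_iff hp.out]
    constructor
    · intro L hL
      have h2 : L ≤ Subgroup.centralizer ((fitOf K : Subgroup G) : Set G) :=
        Subgroup.commutator_eq_bot_iff_le_centralizer.1 hL.comm_fitOf
      have h3 : L ≤ piCoreIn {p} K :=
        (le_inf hL.1.le (h2.trans (Subgroup.centralizer_le (piCoreIn_le_fitOf hp.out K)))).trans h
      exact hL.2.not_abelian
        (h2.trans (Subgroup.centralizer_le (h3.trans (piCoreIn_le_fitOf hp.out K))))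
    · intro r hr hrp
      have h1 : piCoreIn {r} K ≤ piCoreIn {p} K :=
        (le_inf (piCoreIn_le _ K) (piCoreIn_le_centralizer_piCoreIn hrp K)).trans h
      have h3 : piCoreIn {r} K ⊓ piCoreIn {p} K = ⊥ :=
        piGrp_inf_eq_bot (π := {r}) (π' := {p})
          (fun q h1 h2 => hrp (by rw [Set.mem_singleton_iff] at h1 h2; rw [← h1, ← h2]))
          (piCoreIn_piGrp {r} K) (piCoreIn_piGrp {p} K)
      rw [eq_bot_iff, ← h3]
      exact le_inf le_rfl h1
  · intro h
    have := centralizer_fstarOf_le K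
    rw [h] at this
    exact this

/-- The `F*`-form on the type `↥K`. -/
theorem fstar_type_iff {G : Type*} [Group G] [Finite G] {p : ℕ} [hp : Fact p.Prime]
    (K : Subgroup G) :
    Cfsg.generalizedFittingSubgroup ↥K = Cfsg.pCore p ↥K ↔ AC p K := by
  rw [ac_iff_fstarOf]
  constructor
  · intro h
    have := congrArg (Subgroup.map K.subtype) h
    rwa [map_generalizedFittingSubgroup_eq, map_pCore_eq hp.out] at this
  · intro h
    apply Subgroup.map_injective K.subtype_injective
    rw [map_generalizedFittingSubgroup_eq, map_pCore_eq hp.out]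
    exact h

theorem ac_cj {G : Type*} [Group G] [Finite G] {p : ℕ} [hp : Fact p.Prime] {K : Subgroup G}
    (h : AC p K) (g : G) : AC p (cj g K) := by
  unfold AC at h ⊢
  rw [pCoreOf_eq_piCoreIn] at h ⊢
  have e : piCoreIn {p} (cj g K) = cj g (piCoreIn {p} K) :=
    (cj_radOf (fun g _ h => h.conj g) g K).symm
  rw [e, ← cj_centralizer, ← cj_inf]
  exact cj_mono h

theorem centralizer_zpowers_eq {G : Type*} [Group G] (z : G) :
    Subgroup.centralizer ((Subgroup.zpowers z : Subgroup G) : Set G) =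
      Subgroup.centralizer ({z} : Set G) := by
  apply le_antisymm
  · apply Subgroup.centralizer_le
    intro y hy
    rw [Set.mem_singleton_iff] at hy
    subst hy
    exact Subgroup.mem_zpowers _
  · intro x hx
    rw [Subgroup.mem_centralizer_iff] at hx ⊢
    intro y hy
    obtain ⟨i, rfl⟩ := Subgroup.mem_zpowers_iff.mp hy
    have hc : Commute z x := hx z rfl
    exact (hc.zpow_left i).eq

/-- If `z ∈ Z(T)` and `C(z)` has characteristic `p` then so has `N(T)`. -/
theorem ac_normalizer_of_central {G : Type*} [Group G] [Finite G] {p : ℕ} [hp : Fact p.Prime]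
    (T : Subgroup G) (hTp : IsPGroup p T) (z : G) (hzT : z ∈ T) (hzc : ∀ x ∈ T, x * z = z * x)
    (h : AC p (Subgroup.centralizer ({z} : Set G))) :
    AC p (Subgroup.normalizer (T : Set G)) := by
  have hTX : T ≤ Subgroup.centralizer ({z} : Set G) := by
    intro x hx
    rw [Subgroup.mem_centralizer_iff]
    intro y hy
    rw [Set.mem_singleton_iff] at hy
    subst hy
    exact (hzc x hx).symm
  have h2 := ac_inf_normalizer h T hTX hTp
  rw [inf_comm, ← centralizer_zpowers_eq] at h2
  apply ac_of_centralizer _ (Subgroup.zpowers z) _ h2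
  exact (Subgroup.zpowers_le.mpr hzT).trans
    (le_pCoreOf_of_normal _ T Subgroup.le_normalizer le_rfl hTp)

/-- Parabolic `p`-locals have characteristic `p` as soon as the centralizers of the nontrivial
elements of `Ω₁ Z(S)` have. -/
theorem ac_parabolic_of_central {G : Type*} [Group G] [Finite G] {p : ℕ} [hp : Fact p.Prime]
    (S : Sylow p G)
    (h : ∀ z : G, z ≠ 1 → z ∈ Cfsg.omegaOne p ((S : Subgroup G) ⊓
      Subgroup.centralizer ((S : Subgroup G) : Set G)) →
      AC p (Subgroup.centralizer ({z} : Set G)))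
    (R : Subgroup G) (hRp : IsPGroup p R) (hR1 : R ≠ ⊥)
    (hpar : Cfsg.IsParabolic p (Subgroup.normalizer (R : Set G))) :
    AC p (Subgroup.normalizer (R : Set G)) := by
  obtain ⟨A, hA⟩ := hpar
  obtain ⟨g, hg⟩ := MulAction.exists_smul_eq G S A
  have hAg : (A : Subgroup G) = cj g (S : Subgroup G) := by
    rw [← hg]; exact Cfsg.Agent.helper10.sylow_smul_eq_map_conj S g
  have hSN : (S : Subgroup G) ≤ Subgroup.normalizer ((cj g⁻¹ R : Subgroup G) : Set G) := by
    have h1 : cj g⁻¹ (A : Subgroup G) ≤ cj g⁻¹ (Subgroup.normalizer (R : Set G)) := cj_mono hA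
    rw [hAg, cj_inv_cj, cj_normalizer] at h1
    exact h1
  have hR'p : IsPGroup p (cj g⁻¹ R) := hRp.map _
  have hR'1 : cj g⁻¹ R ≠ ⊥ := fun h => hR1 (cj_eq_bot_iff.mp h)
  have hR'Y : cj g⁻¹ R ≤ Cfsg.pCoreOf p (Subgroup.normalizer ((cj g⁻¹ R : Subgroup G) : Set G)) :=
    le_pCoreOf_of_normal _ _ Subgroup.le_normalizer le_rfl hR'p
  have hY1 : Cfsg.pCoreOf p (Subgroup.normalizer ((cj g⁻¹ R : Subgroup G) : Set G)) ≠ ⊥ := by
    intro h
    apply hR'1
    rw [eq_bot_iff, ← h]
    exact hR'Y
  have hYp : IsPGroup p (Cfsg.pCoreOf p (Subgroup.normalizer ((cj g⁻¹ R : Subgroup G) : Set G))) :=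
    pCoreOf_isPGroup _
  have hSidx : ¬ p ∣ (S : Subgroup G).relIndex
      (Subgroup.normalizer ((cj g⁻¹ R : Subgroup G) : Set G)) := by
    intro hdvd
    exact S.not_dvd_index (hdvd.trans (Subgroup.relIndex_dvd_index_of_le hSN))
  have hYS : Cfsg.pCoreOf p (Subgroup.normalizer ((cj g⁻¹ R : Subgroup G) : Set G)) ≤
      (S : Subgroup G) := pCoreOf_le_of_not_dvd _ _ hSN S.isPGroup' hSidx
  have hne := inf_centralizer_ne_bot_of_le_normalizer _ (S : Subgroup G) hYp S.isPGroup' hY1
    (hSN.trans (le_normalizer_pCoreOf p _))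
  obtain ⟨z, hzB, hzord⟩ := exists_orderOf_eq_prime_of_ne_bot _ (hYp.to_le inf_le_left) hne
  obtain ⟨hzY, hzS⟩ := Subgroup.mem_inf.mp hzB
  have hz1 : z ≠ 1 := by
    intro h
    rw [h, orderOf_one] at hzord
    exact hp.out.one_lt.ne hzord
  have hzp : z ^ p = 1 := by rw [← hzord]; exact pow_orderOf_eq_one z
  have hzΩ : z ∈ Cfsg.omegaOne p ((S : Subgroup G) ⊓
      Subgroup.centralizer ((S : Subgroup G) : Set G)) :=
    mem_omegaOne_center (hYS hzY) (fun y hy => Subgroup.mem_centralizer_iff.mp hzS y hy) hzp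
  have hX := h z hz1 hzΩ
  have hR'X : cj g⁻¹ R ≤ Subgroup.centralizer ({z} : Set G) := by
    intro x hx
    rw [Subgroup.mem_centralizer_iff]
    intro y hy
    rw [Set.mem_singleton_iff] at hy
    subst hy
    exact (Subgroup.mem_centralizer_iff.mp hzS x (hYS (hR'Y hx))).symm
  have h2 := ac_inf_normalizer hX _ hR'X hR'p
  rw [inf_comm, ← centralizer_zpowers_eq] at h2
  have h3 := ac_of_centralizer _ (Subgroup.zpowers z) (Subgroup.zpowers_le.mpr hzY) h2
  have h4 := ac_cj h3 g
  rw [cj_normalizer, cj_cj_inv] at h4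
  exact h4

end Cfsg.Agent.helper14
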