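import Mathlib
import Cfsg.Agent.Lib_helper14_Asym4
import Cfsg.Agent.Lib_helper15_CharP3
import Cfsg.Agent.Lib_helper14_ParaChar2

set_option autoImplicit false
set_option linter.style.haveILetI false
open Cfsg
open scoped Pointwise

namespace Cfsg.Agent.helper14

open Cfsg.Agent.helper7

variable {G : Type*} [Group G]

theorem cj_pCoreOf [Finite G] {p : ℕ} [hp : Fact p.Prime] (g : G) (K : Subgroup G) :
    cj g (Cfsg.pCoreOf p K) = Cfsg.pCoreOf p (cj g K) := by
  rw [pCoreOf_eq_piCoreIn, pCoreOf_eq_piCoreIn]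
  exact cj_radOf (fun g _ h => h.conj g) g K

/-- ambient form of helper15's `isCharP_of_self_centralizing_le` -/
theorem ac_of_self_centralizing_le [Finite G] {p : ℕ} [hp : Fact p.Prime] (H Q L : Subgroup G)
    (hH : AC p H) (hQp : IsPGroup p Q) (hQH : Q ≤ H)
    (hRQ : Cfsg.pCoreOf p H ≤ Subgroup.normalizer (Q : Set G))
    (hCQ : H ⊓ Subgroup.centralizer (Q : Set G) ≤ Q) (hQL : Q ≤ L) (hLH : L ≤ H) : AC p L := by
  have h1 : Cfsg.Agent.helper15.IsCharP p ↥H := isCharP_of_ac H hH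
  have h2 : Cfsg.Agent.helper15.IsCharP p ↥(L.subgroupOf H) := by
    apply Cfsg.Agent.helper15.isCharP_of_self_centralizing_le h1 (Q.subgroupOf H) (L.subgroupOf H)
    · exact hQp.comap_of_injective _ (Subgroup.subtype_injective _)
    · intro r hr
      have hr' : (r : G) ∈ Cfsg.pCoreOf p H := ⟨r, hr, rfl⟩
      have hn := hRQ hr'
      rw [Subgroup.mem_normalizer_iff] at hn ⊢
      intro x
      rw [Subgroup.mem_subgroupOf, Subgroup.mem_subgroupOf]
      have := hn (x : G)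
      simpa using this
    · intro x hx
      rw [Subgroup.mem_subgroupOf]
      apply hCQ
      refine Subgroup.mem_inf.mpr ⟨x.2, ?_⟩
      rw [Subgroup.mem_centralizer_iff]
      intro q hq
      have := Subgroup.mem_centralizer_iff.mp hx ⟨q, hQH hq⟩ (Subgroup.mem_subgroupOf.mpr hq)
      exact congrArg Subtype.val this
    · intro x hx
      exact Subgroup.mem_subgroupOf.mpr (hQL (Subgroup.mem_subgroupOf.mp hx))
  exact ac_of_isCharP L (h2.of_equiv (Subgroup.subgroupOfEquivOfLe hLH))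

namespace AsymSetting

variable [Finite G] {p : ℕ} [hp : Fact p.Prime] {S : Sylow p G} {M : Subgroup G}

/-- a `p`-subgroup normalized by ... : `O_p(H)` normalizes `O_p(M)` when `O_p(M) ≤ H` -/
theorem pCoreOf_le_normalizer (h : AsymSetting p S M) (H : Subgroup G)
    (hPH : Cfsg.pCoreOf p M ≤ H) :
    Cfsg.pCoreOf p H ≤ Subgroup.normalizer ((Cfsg.pCoreOf p M : Subgroup G) : Set G) := by
  have hRp : IsPGroup p ((Cfsg.pCoreOf p M ⊔ Cfsg.pCoreOf p H : Subgroup G)) :=
    IsPGroup.to_sup_of_normal_right' (pCoreOf_isPGroup M) (pCoreOf_isPGroup H)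
      (hPH.trans (le_normalizer_pCoreOf p H))
  have h1 := h.normalizer_le_of_pgroup _ hRp le_sup_left
  exact (le_sup_right.trans Subgroup.le_normalizer).trans h1

/-- subgroups between `O_p(M)` and a group of characteristic `p` have characteristic `p` -/
theorem ac_of_le (h : AsymSetting p S M) (H L : Subgroup G) (hH : AC p H)
    (hPL : Cfsg.pCoreOf p M ≤ L) (hLH : L ≤ H) : AC p L :=
  ac_of_self_centralizing_le H (Cfsg.pCoreOf p M) L hH (pCoreOf_isPGroup M) (hPL.trans hLH)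
    (h.pCoreOf_le_normalizer H (hPL.trans hLH)) (inf_le_right.trans h.lh.2) hPL hLH

/-- `ℌ_G(O_p(M))` is nonempty when `Y_M` is char-`p`-tall -/
theorem exists_frakH (h : AsymSetting p S M)
    (htall : Cfsg.IsCharPTall p (Cfsg.largestPReducedOf p M)) :
    ∃ H : Subgroup G, Cfsg.IsInFrakH p M H := by
  obtain ⟨T, L, hTL, hLchar, hYL⟩ := htall
  have hPC : Cfsg.pCoreOf p M ≤ Subgroup.centralizer
      ((Cfsg.largestPReducedOf p M : Subgroup G) : Set G) := h.pred.pCoreOf_le_centralizer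
  have hPp' : IsPGroup p ((Cfsg.pCoreOf p M).subgroupOf (Subgroup.centralizer
      ((Cfsg.largestPReducedOf p M : Subgroup G) : Set G))) :=
    (pCoreOf_isPGroup M).comap_of_injective _ (Subgroup.subtype_injective _)
  obtain ⟨c, hcC, hc'⟩ : ∃ c : G, c ∈ Subgroup.centralizer
      ((Cfsg.largestPReducedOf p M : Subgroup G) : Set G) ∧ cj c (Cfsg.pCoreOf p M) ≤ L := by
    obtain ⟨c, hc⟩ := Cfsg.Agent.helper10.pgroup_conj_into_sylow T _ hPp'
    refine ⟨(c : G), c.2, ?_⟩
    have h1 := Subgroup.map_mono (f := (Subgroup.centralizer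
      ((Cfsg.largestPReducedOf p M : Subgroup G) : Set G)).subtype) hc
    have h2 := map_subtype_cj _ c ((Cfsg.pCoreOf p M).subgroupOf (Subgroup.centralizer
      ((Cfsg.largestPReducedOf p M : Subgroup G) : Set G)))
    rw [Subgroup.map_subgroupOf_eq_of_le hPC] at h2
    rw [← h2]
    exact h1.trans hTL
  have hLac : AC p L := ac_of_isCharP L hLchar
  -- the conjugate of `L`
  have hL'ac : AC p (cj c⁻¹ L) := ac_cj hLac _
  have hPL' : Cfsg.pCoreOf p M ≤ cj c⁻¹ L := cj_le_iff.mp hc'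
  have hcN : c⁻¹ ∈ Subgroup.normalizer
      ((Cfsg.largestPReducedOf p M : Subgroup G) : Set G) :=
    Subgroup.inv_mem _ (Subgroup.centralizer_le_normalizer _ hcC)
  have hYL' : ¬ Cfsg.largestPReducedOf p M ≤ Cfsg.pCoreOf p (cj c⁻¹ L) := by
    intro hle
    apply hYL
    rw [← cj_pCoreOf] at hle
    have h3 : cj c⁻¹ (Cfsg.largestPReducedOf p M) ≤ cj c⁻¹ (Cfsg.pCoreOf p L) := by
      rw [cj_eq_of_mem_normalizer hcN]; exact hle
    have := cj_mono (g := c) h3
    rwa [cj_cj_inv, cj_cj_inv] at this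
  -- choose a minimal member
  haveI : Nonempty {H : Subgroup G // AC p H ∧ Cfsg.pCoreOf p M ≤ H ∧
      ¬ Cfsg.largestPReducedOf p M ≤ Cfsg.pCoreOf p H} := ⟨⟨_, hL'ac, hPL', hYL'⟩⟩
  haveI : Finite {H : Subgroup G // AC p H ∧ Cfsg.pCoreOf p M ≤ H ∧
      ¬ Cfsg.largestPReducedOf p M ≤ Cfsg.pCoreOf p H} := Subtype.finite
  obtain ⟨⟨H, hHac, hPH, hYH⟩, hmin⟩ := Finite.exists_min
    (fun H : {H : Subgroup G // AC p H ∧ Cfsg.pCoreOf p M ≤ H ∧
      ¬ Cfsg.largestPReducedOf p M ≤ Cfsg.pCoreOf p H} => Nat.card ↥H.1)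
  refine ⟨H, isCharP_of_ac H hHac, hPH, hYH, fun P' hPP' hlt => ?_⟩
  by_contra hn
  have hac' : AC p P' := h.ac_of_le H P' hHac hPP' hlt.le
  have h1 := hmin ⟨P', hac', hPP', hn⟩
  have h2 : Nat.card ↥P' < Nat.card ↥H := by
    apply lt_of_le_of_ne (Subgroup.card_le_of_le hlt.le)
    intro he
    exact hlt.ne (Subgroup.eq_of_le_of_card_ge hlt.le he.ge)
  simp only at h1
  omega

end AsymSetting

end Cfsg.Agent.helper14
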