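import Mathlib
import Cfsg.Agent.Lib_helper14_Asym5
import Cfsg.Agent.Lib_helper7_FStar

set_option autoImplicit false
set_option linter.style.haveILetI false
open Cfsg
open scoped Pointwise commutatorElement

namespace Cfsg.Agent.helper14

open Cfsg.Agent.helper7

variable {G : Type*} [Group G]

/-- properties of the preimage of `F*(D/N)` -/
theorem fstar_preimage_props (D : Subgroup G) [Finite ↥D] (N : Subgroup ↥D) [hN : N.Normal]
    (F : Subgroup G)
    (hF : F = ((Cfsg.generalizedFittingSubgroup (↥D ⧸ N)).comap (QuotientGroup.mk' N)).map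
      D.subtype) :
    N.map D.subtype ≤ F ∧ F ≤ D ∧ D ≤ Subgroup.normalizer (F : Set G) ∧
      ∀ E : Subgroup G, E ≤ D → ⁅F, E⁆ ≤ N.map D.subtype → E ≤ F := by
  have hFn : (Cfsg.generalizedFittingSubgroup (↥D ⧸ N)).Normal := by
    rw [generalizedFittingSubgroup_eq]
    have h1 := fstarOf_normal (⊤ : Subgroup (↥D ⧸ N))
    exact Subgroup.normalizer_eq_top_iff.mp (top_le_iff.mp h1)
  have hcn : ((Cfsg.generalizedFittingSubgroup (↥D ⧸ N)).comap (QuotientGroup.mk' N)).Normal :=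
    hFn.comap _
  refine ⟨?_, ?_, ?_, ?_⟩
  · rw [hF]
    apply Subgroup.map_mono
    intro x hx
    rw [Subgroup.mem_comap]
    have : QuotientGroup.mk' N x = 1 := (QuotientGroup.eq_one_iff x).mpr hx
    rw [this]; exact Subgroup.one_mem _
  · rw [hF]; exact Subgroup.map_subtype_le _
  · rw [hF]
    intro d hd
    rw [Subgroup.mem_normalizer_iff]
    intro x
    constructor
    · rintro ⟨y, hy, rfl⟩
      exact ⟨⟨d, hd⟩ * y * ⟨d, hd⟩⁻¹, hcn.conj_mem y hy ⟨d, hd⟩, by simp⟩
    · rintro ⟨y, hy, hyx⟩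
      have hxD : x ∈ D := by
        have h1 : d * x * d⁻¹ ∈ D := by rw [← hyx]; exact y.2
        have := D.mul_mem (D.mul_mem (D.inv_mem hd) h1) hd
        have e : d⁻¹ * (d * x * d⁻¹) * d = x := by group
        rwa [e] at this
      refine ⟨⟨x, hxD⟩, ?_, rfl⟩
      have h2 := hcn.conj_mem y hy ⟨d, hd⟩⁻¹
      have e : (⟨d, hd⟩ : ↥D)⁻¹ * y * (⟨d, hd⟩ : ↥D)⁻¹⁻¹ = ⟨x, hxD⟩ := by
        apply Subtype.ext
        simp only [Subgroup.coe_mul, Subgroup.coe_inv, inv_inv]
        have hy' : (y : G) = d * x * d⁻¹ := hyx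
        rw [hy']; group
      rw [e] at h2
      exact h2
  · intro E hED hcomm e he
    rw [hF]
    refine Subgroup.mem_map.mpr ⟨⟨e, hED he⟩, ?_, rfl⟩
    rw [Subgroup.mem_comap, generalizedFittingSubgroup_eq]
    apply centralizer_fstarOf_le (⊤ : Subgroup (↥D ⧸ N))
    refine Subgroup.mem_inf.mpr ⟨Subgroup.mem_top _, ?_⟩
    rw [Subgroup.mem_centralizer_iff]
    intro fb hfb
    obtain ⟨f, rfl⟩ := QuotientGroup.mk'_surjective N fb
    have hfF : (f : G) ∈ F := by
      rw [hF]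
      refine Subgroup.mem_map.mpr ⟨f, ?_, rfl⟩
      rw [Subgroup.mem_comap, generalizedFittingSubgroup_eq]
      exact hfb
    have h1 : ⁅(f : G), e⁆ ∈ N.map D.subtype :=
      hcomm (Subgroup.commutator_mem_commutator hfF he)
    obtain ⟨z, hz, hze⟩ := h1
    have h2 : z = ⁅f, (⟨e, hED he⟩ : ↥D)⁆ := by
      apply Subtype.ext
      rw [← Subgroup.subtype_apply, hze]
      simp [commutatorElement_def]
    have h3 : QuotientGroup.mk' N ⁅f, (⟨e, hED he⟩ : ↥D)⁆ = 1 := by
      rw [← h2]; exact (QuotientGroup.eq_one_iff z).mpr hz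
    rw [map_commutatorElement, commutatorElement_eq_one_iff_mul_comm] at h3
    exact h3

end Cfsg.Agent.helper14
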