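import Mathlib
import Cfsg.Agent.Lib_helper14_Asym6

set_option autoImplicit false
set_option linter.style.haveILetI false
open Cfsg
open scoped Pointwise commutatorElement

namespace Cfsg.Agent.helper14

open Cfsg.Agent.helper7

variable {G : Type*} [Group G]

namespace AsymSetting

variable [Finite G] {p : ℕ} [hp : Fact p.Prime] {S : Sylow p G} {M : Subgroup G}

theorem pred_dagger (h : AsymSetting p S M) : PRedIn p (M ⊔ Subgroup.centralizer
    ((Cfsg.largestPReducedOf p M : Subgroup G) : Set G)) (Cfsg.largestPReducedOf p M) := by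
  have h1 := predIn_largestPReducedOf (p := p) (M ⊔ Subgroup.centralizer
    ((Cfsg.largestPReducedOf p M : Subgroup G) : Set G))
  rw [← h.hM.2.2.2.1] at h1
  exact h1

/-- Lemma A: subgroups of `M†` normalized by `F` and acting as `p`-groups on `Y_M`
centralize `Y_M`. -/
theorem le_centralizer_of_fstar (h : AsymSetting p S M) (F : Subgroup G)
    (hFD : F ≤ M ⊔ Subgroup.centralizer ((Cfsg.largestPReducedOf p M : Subgroup G) : Set G))
    (hDF : M ⊔ Subgroup.centralizer ((Cfsg.largestPReducedOf p M : Subgroup G) : Set G) ≤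
      Subgroup.normalizer (F : Set G))
    (hcent : ∀ E : Subgroup G,
      E ≤ M ⊔ Subgroup.centralizer ((Cfsg.largestPReducedOf p M : Subgroup G) : Set G) →
      ⁅F, E⁆ ≤ Subgroup.centralizer ((Cfsg.largestPReducedOf p M : Subgroup G) : Set G) → E ≤ F)
    (E : Subgroup G)
    (hED : E ≤ M ⊔ Subgroup.centralizer ((Cfsg.largestPReducedOf p M : Subgroup G) : Set G))
    (hFE : F ≤ Subgroup.normalizer (E : Set G))
    (hEp : ∀ e ∈ E, ∃ k : ℕ, e ^ p ^ k ∈ Subgroup.centralizer
      ((Cfsg.largestPReducedOf p M : Subgroup G) : Set G)) :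
    E ≤ Subgroup.centralizer ((Cfsg.largestPReducedOf p M : Subgroup G) : Set G) := by
  have hP := h.pred_dagger
  have hFF : F ≤ Subgroup.normalizer (F : Set G) := Subgroup.le_normalizer
  have hsn : SN (E ⊓ F) (M ⊔ Subgroup.centralizer
      ((Cfsg.largestPReducedOf p M : Subgroup G) : Set G)) :=
    (SN.of_normal inf_le_right (le_normalizer_inf' hFE hFF)).trans (SN.of_normal hFD hDF)
  have h1 : E ⊓ F ≤ Subgroup.centralizer ((Cfsg.largestPReducedOf p M : Subgroup G) : Set G) :=
    hP.centralizes_of_sn _ hsn (fun x hx => hEp x hx.1)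
  have h2 : ⁅F, E⁆ ≤ E ⊓ F :=
    le_inf (commutator_le_right_of_le_normalizer F E hFE)
      (commutator_le_left_of_le_normalizer F E (hED.trans hDF))
  have h3 : E ≤ F := hcent E hED (h2.trans h1)
  exact (le_inf le_rfl h3).trans h1

/-- Lemma B -/
theorem Y_le_Y_of_fstar_le (h : AsymSetting p S M) (F : Subgroup G)
    (hCF : Subgroup.centralizer ((Cfsg.largestPReducedOf p M : Subgroup G) : Set G) ≤ F)
    (hFD : F ≤ M ⊔ Subgroup.centralizer ((Cfsg.largestPReducedOf p M : Subgroup G) : Set G))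
    (hDF : M ⊔ Subgroup.centralizer ((Cfsg.largestPReducedOf p M : Subgroup G) : Set G) ≤
      Subgroup.normalizer (F : Set G))
    (hcent : ∀ E : Subgroup G,
      E ≤ M ⊔ Subgroup.centralizer ((Cfsg.largestPReducedOf p M : Subgroup G) : Set G) →
      ⁅F, E⁆ ≤ Subgroup.centralizer ((Cfsg.largestPReducedOf p M : Subgroup G) : Set G) → E ≤ F)
    (H : Subgroup G) (hFH : F ≤ H) (hH : AC p H) :
    Cfsg.largestPReducedOf p M ≤ Cfsg.largestPReducedOf p H := by
  have hYM := h.pred
  have hPC : Cfsg.pCoreOf p M ≤ Subgroup.centralizer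
      ((Cfsg.largestPReducedOf p M : Subgroup G) : Set G) := hYM.pCoreOf_le_centralizer
  have hPH : Cfsg.pCoreOf p M ≤ H := (hPC.trans hCF).trans hFH
  have hYH : Cfsg.largestPReducedOf p M ≤ H := hYM.le_pCoreOf.trans hPH
  obtain ⟨T₁, hT₁⟩ := h.parabolic_inf H hPH
  have hT₁D : (T₁ : Subgroup ↥H).map H.subtype ≤ M ⊔ Subgroup.centralizer
      ((Cfsg.largestPReducedOf p M : Subgroup G) : Set G) := by
    rintro _ ⟨x, hx, rfl⟩
    exact (Subgroup.mem_subgroupOf.mp (hT₁ hx)).2
  have hOD : Cfsg.pCoreOf p H ≤ M ⊔ Subgroup.centralizer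
      ((Cfsg.largestPReducedOf p M : Subgroup G) : Set G) :=
    (pCoreOf_le_sylow H T₁).trans hT₁D
  have hHO : H ≤ Subgroup.normalizer ((Cfsg.pCoreOf p H : Subgroup G) : Set G) :=
    le_normalizer_pCoreOf p H
  have hOC : Cfsg.pCoreOf p H ≤ Subgroup.centralizer
      ((Cfsg.largestPReducedOf p M : Subgroup G) : Set G) := by
    apply h.le_centralizer_of_fstar F hFD hDF hcent _ hOD (hFH.trans hHO)
    intro e he
    obtain ⟨k, hk⟩ := (pCoreOf_isPGroup H) ⟨e, he⟩
    refine ⟨k, ?_⟩
    have h2 := congrArg Subtype.val hk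
    rw [Subgroup.coe_pow, Subgroup.coe_one] at h2
    rw [h2]; exact Subgroup.one_mem _
  have hYcO : Cfsg.largestPReducedOf p M ≤ Subgroup.centralizer
      ((Cfsg.pCoreOf p H : Subgroup G) : Set G) := Subgroup.le_centralizer_iff.mp hOC
  have hYO : Cfsg.largestPReducedOf p M ≤ Cfsg.pCoreOf p H :=
    (le_inf hYH hYcO).trans hH
  have hZc := comm_inf_centralizer (Cfsg.pCoreOf p H)
  have hHZ : H ≤ Subgroup.normalizer ((Cfsg.pCoreOf p H ⊓
      Subgroup.centralizer ((Cfsg.pCoreOf p H : Subgroup G) : Set G) : Subgroup G) : Set G) :=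
    le_normalizer_inf' hHO (hHO.trans (normalizer_le_normalizer_centralizer _))
  have hHE := le_normalizer_commOmega p _ H hZc hHZ
  have hYE : Cfsg.largestPReducedOf p M ≤ commOmega p _ hZc := by
    intro y hy
    exact ⟨Subgroup.mem_inf.mpr ⟨hYO hy, hYcO hy⟩, hYM.2.2.2.1 y hy⟩
  have hEH : commOmega p _ hZc ≤ H := by
    intro x hx
    exact pCoreOf_le p H hx.1.1
  obtain ⟨W, hWdef⟩ : ∃ W : Subgroup G, W = ⨆ x : ↥H, cj (x : G) (Cfsg.largestPReducedOf p M) :=
    ⟨_, rfl⟩
  have hWE : W ≤ commOmega p _ hZc := by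
    rw [hWdef]
    apply iSup_le
    intro x
    have := cj_mono (g := (x : G)) hYE
    rwa [cj_eq_of_mem_normalizer (hHE x.2)] at this
  have hYW : Cfsg.largestPReducedOf p M ≤ W := by
    rw [hWdef]
    have := le_iSup (fun x : ↥H => cj (x : G) (Cfsg.largestPReducedOf p M)) 1
    have h2 : Cfsg.largestPReducedOf p M ≤ cj ((1 : ↥H) : G) (Cfsg.largestPReducedOf p M) := by
      rw [Subgroup.coe_one, cj_one]
    exact h2.trans this
  have hHW : H ≤ Subgroup.normalizer (W : Set G) := by
    apply le_normalizer_of_map_conj_le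
    intro g hg
    rw [hWdef, Subgroup.map_iSup]
    apply iSup_le
    intro x
    have h1 : (cj (x : G) (Cfsg.largestPReducedOf p M)).map (MulAut.conj g).toMonoidHom =
        cj (g * (x : G)) (Cfsg.largestPReducedOf p M) := cj_cj g x _
    rw [h1]
    exact le_iSup (fun x : ↥H => cj (x : G) (Cfsg.largestPReducedOf p M)) ⟨g * x, H.mul_mem hg x.2⟩
  have hCWY : Subgroup.centralizer (W : Set G) ≤ Subgroup.centralizer
      ((Cfsg.largestPReducedOf p M : Subgroup G) : Set G) :=
    Subgroup.centralizer_le (SetLike.coe_subset_coe.mpr hYW)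
  have hW : PRedIn p H W := by
    refine ⟨hWE.trans hEH, hHW, ?_, ?_, ?_⟩
    · intro a ha b hb
      exact hZc a (hWE ha).1 b (hWE hb).1
    · intro a ha
      exact (hWE ha).2
    · intro N hNH hHN hNp
      have hND : N ≤ M ⊔ Subgroup.centralizer
          ((Cfsg.largestPReducedOf p M : Subgroup G) : Set G) := by
        intro n hn
        obtain ⟨s, hs, d, hd, hsd⟩ := exists_sylow_mul_centralizer H T₁ W N hNH hHW hHN hNp n hn
        rw [hsd]
        exact Subgroup.mul_mem _ (hT₁D hs)
          ((le_sup_right : Subgroup.centralizer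
            ((Cfsg.largestPReducedOf p M : Subgroup G) : Set G) ≤ _) (hCWY hd))
      have hNC : N ≤ Subgroup.centralizer
          ((Cfsg.largestPReducedOf p M : Subgroup G) : Set G) := by
        apply h.le_centralizer_of_fstar F hFD hDF hcent N hND (hFH.trans hHN)
        intro n hn
        obtain ⟨k, hk⟩ := hNp n hn
        exact ⟨k, hCWY hk⟩
      rw [hWdef]
      apply le_centralizer_iSup
      intro x
      have h1 := cj_mono (g := (x : G)) hNC
      rwa [cj_eq_of_mem_normalizer (hHN x.2), cj_centralizer] at h1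
  exact hYW.trans (le_largestPReducedOf H W hW)

end AsymSetting

end Cfsg.Agent.helper14
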