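import Mathlib
import Cfsg.Agent.Lib_helper14_Asym7
import Cfsg.Agent.Lib_helper14_OpSub2
import Cfsg.Agent.Lib_helper10_PResidual

set_option autoImplicit false
set_option linter.style.haveILetI false
open Cfsg
open scoped Pointwise commutatorElement

namespace Cfsg.Agent.helper14

open Cfsg.Agent.helper7

/-- every subgroup of a finite `p`-group is subnormal -/
theorem isSubnormal_of_isPGroup {Q : Type*} [Group Q] [Finite Q] {p : ℕ} [Fact p.Prime]
    (hQ : IsPGroup p Q) : ∀ (n : ℕ) (K : Subgroup Q), Nat.card Q ≤ Nat.card ↥K + n →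
    K.IsSubnormal := by
  haveI : Group.IsNilpotent Q := hQ.isNilpotent
  have hnc : NormalizerCondition Q := Group.normalizerCondition_of_isNilpotent
  intro n
  induction n with
  | zero =>
    intro K hK
    have : K = ⊤ := by
      apply Subgroup.eq_top_of_le_card
      omega
    rw [this]; exact Subgroup.IsSubnormal.top
  | succ n ih =>
    intro K hK
    by_cases hKtop : K = ⊤
    · rw [hKtop]; exact Subgroup.IsSubnormal.top
    · have hlt : K < Subgroup.normalizer (K : Set Q) := hnc K (lt_top_iff_ne_top.mpr hKtop)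
      have hcard : Nat.card ↥K < Nat.card ↥(Subgroup.normalizer (K : Set Q)) := by
        apply lt_of_le_of_ne (Subgroup.card_le_of_le hlt.le)
        intro he
        exact hlt.ne (Subgroup.eq_of_le_of_card_ge hlt.le he.ge)
      have h1 := ih (Subgroup.normalizer (K : Set Q)) (by omega)
      exact Subgroup.IsSubnormal.step K _ hlt.le h1 Subgroup.normal_in_normalizer

variable {G : Type*} [Group G]

/-- subgroups between `O^p(H)` and `H` are subnormal in `H` -/
theorem sn_of_opOf_le [Finite G] {p : ℕ} [hp : Fact p.Prime] (X H : Subgroup G)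
    (hRX : opOf p H ≤ X) (hXH : X ≤ H) : SN X H := by
  rw [sn_iff]
  refine ⟨hXH, ?_⟩
  haveI := Cfsg.Agent.helper10.pResidual_normal p ↥H
  have hQ : IsPGroup p (↥H ⧸ Cfsg.pResidual p ↥H) :=
    Cfsg.Agent.helper10.quotient_pResidual_isPGroup p
  have hker : (QuotientGroup.mk' (Cfsg.pResidual p ↥H)).ker ≤ X.subgroupOf H := by
    rw [QuotientGroup.ker_mk']
    intro x hx
    rw [Subgroup.mem_subgroupOf]
    apply hRX
    rw [← map_pResidual_eq_opOf]
    exact ⟨x, hx, rfl⟩
  have h1 := isSubnormal_of_isPGroup hQ (Nat.card (↥H ⧸ Cfsg.pResidual p ↥H))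
    ((X.subgroupOf H).map (QuotientGroup.mk' (Cfsg.pResidual p ↥H))) (Nat.le_add_left _ _)
  have h2 := h1.comap (QuotientGroup.mk' (Cfsg.pResidual p ↥H))
  rwa [Subgroup.comap_map_eq_self hker] at h2

/-- `⁅B, A⁆` is normalized by `A` when `A` normalizes `B` -/
theorem le_normalizer_commutator_of_le_normalizer {A B : Subgroup G}
    (h : A ≤ Subgroup.normalizer (B : Set G)) :
    A ≤ Subgroup.normalizer ((⁅B, A⁆ : Subgroup G) : Set G) := by
  intro a ha
  apply mem_normalizer_of_cj_eq
  rw [cj_commutator, cj_eq_of_mem_normalizer (h ha),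
    cj_eq_of_mem_normalizer (Subgroup.le_normalizer ha)]

theorem pCoreOf_le_of_sn [Finite G] {p : ℕ} [hp : Fact p.Prime] {X H : Subgroup G}
    (h : SN X H) : Cfsg.pCoreOf p X ≤ Cfsg.pCoreOf p H := by
  rw [pCoreOf_eq_piCoreIn, pCoreOf_eq_piCoreIn]
  exact piCoreIn_le_of_sn h

/-- ambient normal closure -/
theorem map_normalClosure_subgroupOf (A H : Subgroup G) (hAH : A ≤ H) :
    (Subgroup.normalClosure ((A.subgroupOf H : Subgroup ↥H) : Set ↥H)).map H.subtype =
      ⨆ x : ↥H, cj (x : G) A := by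
  apply le_antisymm
  · rw [Subgroup.map_le_iff_le_comap]
    unfold Subgroup.normalClosure
    rw [Subgroup.closure_le]
    intro x hx
    rw [Group.mem_conjugatesOfSet_iff] at hx
    obtain ⟨a, ha, hax⟩ := hx
    obtain ⟨c, rfl⟩ := isConj_iff.mp hax
    show ((c * a * c⁻¹ : ↥H) : G) ∈ ⨆ x : ↥H, cj (x : G) A
    have haA : (a : G) ∈ A := Subgroup.mem_subgroupOf.mp ha
    apply (le_iSup (fun x : ↥H => cj (x : G) A) c)
    have e : ((c * a * c⁻¹ : ↥H) : G) = (c : G) * (a : G) * (c : G)⁻¹ := by simp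
    rw [e]
    exact cj_mem_cj haA
  · apply iSup_le
    intro x
    rintro _ ⟨a, ha, rfl⟩
    refine ⟨x * ⟨a, hAH ha⟩ * x⁻¹, ?_, by simp⟩
    exact (Subgroup.normalClosure_normal).conj_mem _
      (Subgroup.subset_normalClosure (Subgroup.mem_subgroupOf.mpr ha)) x

theorem le_iSup_cj (A H : Subgroup G) : A ≤ ⨆ x : ↥H, cj (x : G) A := by
  have := le_iSup (fun x : ↥H => cj (x : G) A) 1
  have h2 : A ≤ cj ((1 : ↥H) : G) A := by rw [Subgroup.coe_one, cj_one]
  exact h2.trans this

theorem le_normalizer_iSup_cj (A H : Subgroup G) :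
    H ≤ Subgroup.normalizer ((⨆ x : ↥H, cj (x : G) A : Subgroup G) : Set G) := by
  apply le_normalizer_of_map_conj_le
  intro g hg
  rw [Subgroup.map_iSup]
  apply iSup_le
  intro x
  have h1 : (cj (x : G) A).map (MulAut.conj g).toMonoidHom = cj (g * (x : G)) A := cj_cj g x _
  rw [h1]
  exact le_iSup (fun x : ↥H => cj (x : G) A) ⟨g * x, H.mul_mem hg x.2⟩

theorem iSup_cj_le (A H : Subgroup G) (hAH : A ≤ H) : (⨆ x : ↥H, cj (x : G) A) ≤ H := by
  apply iSup_le
  intro x
  have := cj_mono (g := (x : G)) hAH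
  rwa [cj_eq_of_mem_normalizer (Subgroup.le_normalizer x.2)] at this

end Cfsg.Agent.helper14
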