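import Mathlib
import Cfsg.Agent.Lib_helper14_Asym8

set_option autoImplicit false
set_option linter.style.haveILetI false
open Cfsg
open scoped Pointwise commutatorElement

namespace Cfsg.Agent.helper14

open Cfsg.Agent.helper7

variable {G : Type*} [Group G]

/-- ambient form of `H ∈ ℌ_G(O_p(M))` -/
structure FrakHIn (p : ℕ) (M H : Subgroup G) : Prop where
  ac : AC p H
  hPH : Cfsg.pCoreOf p M ≤ H
  hYO : ¬ Cfsg.largestPReducedOf p M ≤ Cfsg.pCoreOf p H
  hmin : ∀ P' : Subgroup G, Cfsg.pCoreOf p M ≤ P' → P' < H →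
    Cfsg.largestPReducedOf p M ≤ Cfsg.pCoreOf p P'

theorem frakHIn_of_isInFrakH {p : ℕ} {M H : Subgroup G} (h : Cfsg.IsInFrakH p M H) :
    FrakHIn p M H :=
  ⟨ac_of_isCharP H h.1, h.2.1, h.2.2.1, h.2.2.2⟩

namespace AsymSetting

variable [Finite G] {p : ℕ} [hp : Fact p.Prime] {S : Sylow p G} {M : Subgroup G}

theorem dagger_le_normalizer (h : AsymSetting p S M) :
    M ⊔ Subgroup.centralizer ((Cfsg.largestPReducedOf p M : Subgroup G) : Set G) ≤
      Subgroup.normalizer ((Cfsg.largestPReducedOf p M : Subgroup G) : Set G) :=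
  sup_le h.pred.2.1 (Subgroup.centralizer_le_normalizer _)

theorem Y_le_P (h : AsymSetting p S M) : Cfsg.largestPReducedOf p M ≤ Cfsg.pCoreOf p M :=
  h.pred.le_pCoreOf

theorem P_le_CY (h : AsymSetting p S M) : Cfsg.pCoreOf p M ≤ Subgroup.centralizer
    ((Cfsg.largestPReducedOf p M : Subgroup G) : Set G) := h.pred.pCoreOf_le_centralizer

/-- subnormal subgroups of `H` containing `O_p(M)` are all of `H` -/
theorem eq_of_sn (_h : AsymSetting p S M) {H : Subgroup G} (hH : FrakHIn p M H) (X : Subgroup G)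
    (hPX : Cfsg.pCoreOf p M ≤ X) (hsn : SN X H) : X = H := by
  by_contra hne
  have hlt : X < H := lt_of_le_of_ne hsn.le hne
  exact hH.hYO ((hH.hmin X hPX hlt).trans (pCoreOf_le_of_sn hsn))

theorem iSup_cj_P_eq (h : AsymSetting p S M) {H : Subgroup G} (hH : FrakHIn p M H) :
    (⨆ x : ↥H, cj (x : G) (Cfsg.pCoreOf p M)) = H :=
  h.eq_of_sn hH _ (le_iSup_cj _ H)
    (SN.of_normal (iSup_cj_le _ H hH.hPH) (le_normalizer_iSup_cj _ H))

theorem opOf_sup_P_eq (h : AsymSetting p S M) {H : Subgroup G} (hH : FrakHIn p M H) :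
    opOf p H ⊔ Cfsg.pCoreOf p M = H :=
  h.eq_of_sn hH _ le_sup_right (sn_of_opOf_le _ H le_sup_left (sup_le (opOf_le p H) hH.hPH))

/-- `O^p(⟨Y^H⟩) = O^p(H)` -/
theorem opOf_iSup_cj_Y_eq (h : AsymSetting p S M) {H : Subgroup G} (hH : FrakHIn p M H) :
    opOf p (⨆ x : ↥H, cj (x : G) (Cfsg.largestPReducedOf p M)) = opOf p H := by
  have hYH : Cfsg.largestPReducedOf p M ≤ H := h.Y_le_P.trans hH.hPH
  obtain ⟨K, hKdef⟩ : ∃ K : Subgroup G,
      K = ⨆ x : ↥H, cj (x : G) (Cfsg.largestPReducedOf p M) := ⟨_, rfl⟩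
  rw [← hKdef]
  have hKH : K ≤ H := by rw [hKdef]; exact iSup_cj_le _ H hYH
  have hYK : Cfsg.largestPReducedOf p M ≤ K := by rw [hKdef]; exact le_iSup_cj _ H
  have hHK : H ≤ Subgroup.normalizer (K : Set G) := by
    rw [hKdef]; exact le_normalizer_iSup_cj _ H
  have hHoK : H ≤ Subgroup.normalizer ((opOf p K : Subgroup G) : Set G) :=
    hHK.trans (normalizer_le_normalizer_opOf p K)
  -- `H₂ = O^p(K) P = H`
  have hH2 : opOf p K ⊔ Cfsg.pCoreOf p M = H := by
    by_contra hne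
    have hle : opOf p K ⊔ Cfsg.pCoreOf p M ≤ H := sup_le ((opOf_le p K).trans hKH) hH.hPH
    have hlt : opOf p K ⊔ Cfsg.pCoreOf p M < H := lt_of_le_of_ne hle hne
    have hY2 := hH.hmin _ le_sup_right hlt
    have hX2K : opOf p K ⊔ Cfsg.largestPReducedOf p M ≤ K := sup_le (opOf_le p K) hYK
    have hX2H2 : opOf p K ⊔ Cfsg.largestPReducedOf p M ≤ opOf p K ⊔ Cfsg.pCoreOf p M :=
      sup_le_sup_left h.Y_le_P _
    have hsn : SN (opOf p K ⊔ Cfsg.largestPReducedOf p M) H :=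
      (sn_of_opOf_le _ K le_sup_left hX2K).trans (SN.of_normal hKH hHK)
    have h3 : Cfsg.pCoreOf p (opOf p K ⊔ Cfsg.pCoreOf p M) ⊓
        (opOf p K ⊔ Cfsg.largestPReducedOf p M) ≤
        Cfsg.pCoreOf p (opOf p K ⊔ Cfsg.largestPReducedOf p M) := by
      apply le_pCoreOf_of_normal _ _ inf_le_right
      · exact le_normalizer_inf' (hX2H2.trans (le_normalizer_pCoreOf p _)) Subgroup.le_normalizer
      · exact (pCoreOf_isPGroup _).to_le inf_le_left
    have h4 : Cfsg.largestPReducedOf p M ≤ Cfsg.pCoreOf p H :=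
      ((le_inf hY2 le_sup_right).trans h3).trans (pCoreOf_le_of_sn hsn)
    exact hH.hYO h4
  apply le_antisymm (opOf_mono p hKH)
  have h5 := opOf_le_of_sup_pgroup (opOf p K) (Cfsg.pCoreOf p M) (pCoreOf_isPGroup M)
    (hH.hPH.trans hHoK)
  rw [hH2] at h5
  have h6 := opOf_mono p h5
  rwa [opOf_idem, opOf_idem] at h6

theorem iSup_cj_Y_le (h : AsymSetting p S M) {H : Subgroup G} (hH : FrakHIn p M H) :
    (⨆ x : ↥H, cj (x : G) (Cfsg.largestPReducedOf p M)) ≤
      ⁅opOf p H, Cfsg.largestPReducedOf p M⁆ ⊔ Cfsg.largestPReducedOf p M := by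
  apply iSup_le
  intro x
  have hx : (x : G) ∈ opOf p H ⊔ Cfsg.pCoreOf p M := by
    rw [h.opOf_sup_P_eq hH]; exact x.2
  obtain ⟨r, hr, q, hq, hrq⟩ := mem_sup_of_normalizer
    (hH.hPH.trans (le_normalizer_opOf p H)) hx
  rw [hrq, ← cj_cj, cj_eq_of_mem_normalizer
    (Subgroup.centralizer_le_normalizer _ (h.P_le_CY hq))]
  exact cj_le_comm_sup _ _ r hr

theorem comm_opOf_Y_eq (h : AsymSetting p S M) {H : Subgroup G} (hH : FrakHIn p M H) :
    ⁅opOf p H, Cfsg.largestPReducedOf p M⁆ = opOf p H := by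
  have hYH : Cfsg.largestPReducedOf p M ≤ H := h.Y_le_P.trans hH.hPH
  have hYR : Cfsg.largestPReducedOf p M ≤ Subgroup.normalizer ((opOf p H : Subgroup G) : Set G) :=
    hYH.trans (le_normalizer_opOf p H)
  apply le_antisymm (commutator_le_left_of_le_normalizer _ _ hYR)
  rw [← h.opOf_iSup_cj_Y_eq hH]
  apply opOf_le_of_pquot
  intro g hg
  have hg' := h.iSup_cj_Y_le hH hg
  rw [h.opOf_iSup_cj_Y_eq hH]
  have hYN := le_normalizer_commutator_of_le_normalizer hYR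
  obtain ⟨a, ha, y, hy, rfl⟩ := mem_sup_of_normalizer hYN hg'
  obtain ⟨c, hc, e⟩ := pow_mul_normalizer hYN ha hy (p ^ 1)
  refine ⟨1, ?_⟩
  rw [e, pow_one, h.pred.2.2.2.1 y hy, mul_one]
  exact hc

theorem opOf_sup_Y_eq (h : AsymSetting p S M) {H : Subgroup G} (hH : FrakHIn p M H) :
    opOf p H ⊔ Cfsg.largestPReducedOf p M =
      ⨆ x : ↥H, cj (x : G) (Cfsg.largestPReducedOf p M) := by
  apply le_antisymm
  · apply sup_le
    · rw [← h.opOf_iSup_cj_Y_eq hH]; exact opOf_le p _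
    · exact le_iSup_cj _ H
  · have h1 := h.iSup_cj_Y_le hH
    rw [h.comm_opOf_Y_eq hH] at h1
    exact h1

end AsymSetting

end Cfsg.Agent.helper14
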