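import Mathlib
import Cfsg.Agent.Lib_helper14_Asym9

set_option autoImplicit false
set_option linter.style.haveILetI false
open Cfsg
open scoped Pointwise commutatorElement

namespace Cfsg.Agent.helper14

open Cfsg.Agent.helper7

variable {G : Type*} [Group G]

/-- if `H ⊓ X` contains a Sylow `p`-subgroup of `H` then every Sylow `p`-subgroup of `H ⊓ X` is
a Sylow `p`-subgroup of `H` -/
theorem sylow_of_parabolic_inf [Finite G] {p : ℕ} [hp : Fact p.Prime] (H X : Subgroup G)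
    (hpar : Cfsg.IsParabolic p ((H ⊓ X).subgroupOf H)) (T : Sylow p ↥(H ⊓ X)) :
    ∃ P' : Sylow p ↥H, (P' : Subgroup ↥H).map H.subtype =
      (T : Subgroup ↥(H ⊓ X)).map (H ⊓ X).subtype := by
  obtain ⟨T₁, hT₁⟩ := hpar
  have hT'le : (T : Subgroup ↥(H ⊓ X)).map (H ⊓ X).subtype ≤ H ⊓ X := Subgroup.map_subtype_le _
  have hT'H : (T : Subgroup ↥(H ⊓ X)).map (H ⊓ X).subtype ≤ H := hT'le.trans inf_le_left
  have hT'p : IsPGroup p ((T : Subgroup ↥(H ⊓ X)).map (H ⊓ X).subtype) := T.isPGroup'.map _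
  have hp' : IsPGroup p (((T : Subgroup ↥(H ⊓ X)).map (H ⊓ X).subtype).subgroupOf H) :=
    hT'p.comap_of_injective _ (Subgroup.subtype_injective _)
  obtain ⟨P', hP'⟩ := hp'.exists_le_sylow
  refine ⟨P', ?_⟩
  have hle : (T : Subgroup ↥(H ⊓ X)).map (H ⊓ X).subtype ≤ (P' : Subgroup ↥H).map H.subtype := by
    intro x hx
    exact ⟨⟨x, hT'H hx⟩, hP' (Subgroup.mem_subgroupOf.mpr hx), rfl⟩
  symm
  apply Subgroup.eq_of_le_of_card_ge hle
  rw [Subgroup.card_map_of_injective (Subgroup.subtype_injective _),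
    Subgroup.card_map_of_injective (Subgroup.subtype_injective _)]
  have hT₁le : (T₁ : Subgroup ↥H).map H.subtype ≤ H ⊓ X := by
    rintro _ ⟨x, hx, rfl⟩
    exact Subgroup.mem_subgroupOf.mp (hT₁ hx)
  have hT₁p : IsPGroup p (((T₁ : Subgroup ↥H).map H.subtype).subgroupOf (H ⊓ X)) :=
    (T₁.isPGroup'.map _).comap_of_injective _ (Subgroup.subtype_injective _)
  obtain ⟨g, hg⟩ := Cfsg.Agent.helper10.pgroup_conj_into_sylow T _ hT₁p
  have h1 : Nat.card ↥(((T₁ : Subgroup ↥H).map H.subtype).subgroupOf (H ⊓ X)) ≤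
      Nat.card ↥(T : Subgroup ↥(H ⊓ X)) := by
    have := Subgroup.card_le_of_le hg
    rwa [Subgroup.card_map_of_injective (MulAut.conj g).injective] at this
  have h2 : Nat.card ↥(((T₁ : Subgroup ↥H).map H.subtype).subgroupOf (H ⊓ X)) =
      Nat.card ↥(T₁ : Subgroup ↥H) := by
    rw [← Subgroup.card_map_of_injective (Subgroup.subtype_injective (H ⊓ X)),
      Subgroup.map_subgroupOf_eq_of_le hT₁le,
      Subgroup.card_map_of_injective (Subgroup.subtype_injective _)]
  have h3 : Nat.card ↥(P' : Subgroup ↥H) = Nat.card ↥(T₁ : Subgroup ↥H) := by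
    rw [Sylow.card_eq_multiplicity, Sylow.card_eq_multiplicity]
  omega

end Cfsg.Agent.helper14
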