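import Mathlib
import Cfsg.Agent.Lib_helper14_Asym10

set_option autoImplicit false
set_option linter.style.haveILetI false
open Cfsg
open scoped Pointwise commutatorElement

namespace Cfsg.Agent.helper14

open Cfsg.Agent.helper7

variable {G : Type*} [Group G]

/-- a criterion for `p`-closedness -/
theorem isPClosed_of_comm_le [Finite G] {p : ℕ} [hp : Fact p.Prime] (N R : Subgroup G)
    (hnorm : N ≤ Subgroup.normalizer ((N ⊓ R : Subgroup G) : Set G))
    (hpq : ∀ n ∈ N, ∃ k : ℕ, n ^ p ^ k ∈ N ⊓ R)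
    (hcomm : ⁅N ⊓ R, N⁆ ≤ Cfsg.pCoreOf p N) : Cfsg.IsPClosed p ↥N := by
  intro T
  haveI hDn : ((N ⊓ R).subgroupOf N).Normal :=
    (Subgroup.normal_subgroupOf_iff_le_normalizer inf_le_left).mpr hnorm
  have hfac := exists_sylow_mul_of_pow_mem T ((N ⊓ R).subgroupOf N) ⊤ Subgroup.normal_top (by
    intro n _
    obtain ⟨k, hk⟩ := hpq (n : G) n.2
    refine ⟨k, ?_⟩
    rw [Subgroup.mem_subgroupOf, Subgroup.coe_pow]
    exact hk)
  have hD : (N ⊓ R).subgroupOf N ≤ Subgroup.normalizer ((T : Subgroup ↥N) : Set ↥N) := by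
    apply le_normalizer_of_map_conj_le
    rintro d hd _ ⟨t, ht, rfl⟩
    have hdG : (d : G) ∈ N ⊓ R := Subgroup.mem_subgroupOf.mp hd
    have h1 : ⁅(d : G), (t : G)⁆ ∈ Cfsg.pCoreOf p N :=
      hcomm (Subgroup.commutator_mem_commutator hdG t.2)
    have h2 := pCoreOf_le_sylow N T h1
    obtain ⟨c, hc, hce⟩ := h2
    have hc' : c = ⁅d, t⁆ := by
      apply Subtype.ext
      rw [← Subgroup.subtype_apply, hce]
      simp [commutatorElement_def]
    have e : (MulAut.conj d).toMonoidHom t = ⁅d, t⁆ * t := by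
      simp only [MulEquiv.coe_toMonoidHom, MulAut.conj_apply, commutatorElement_def]; group
    rw [e, ← hc']
    exact Subgroup.mul_mem _ hc ht
  have htop : Subgroup.normalizer ((T : Subgroup ↥N) : Set ↥N) = ⊤ := by
    rw [eq_top_iff]
    intro n _
    obtain ⟨s, hs, d, hd, rfl⟩ := hfac n (Subgroup.mem_top n)
    exact Subgroup.mul_mem _ (Subgroup.le_normalizer hs) (hD hd)
  exact Subgroup.normalizer_eq_top_iff.mp htop

/-- transfer of the second clause of `p`-irreducibility to the ambient group -/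
theorem isPIrreducible_of_ambient [Finite G] {p : ℕ} [hp : Fact p.Prime] (X : Subgroup G)
    (h1 : ¬ Cfsg.IsPClosed p ↥X)
    (h2 : ∀ N : Subgroup G, N ≤ X → X ≤ Subgroup.normalizer (N : Set G) →
      opOf p X ≤ N ∨ Cfsg.IsPClosed p ↥N) : Cfsg.IsPIrreducible p ↥X := by
  refine ⟨h1, ?_⟩
  intro N' hN'n hN'cl
  have hNX : N'.map X.subtype ≤ X := Subgroup.map_subtype_le _
  have hXN : X ≤ Subgroup.normalizer ((N'.map X.subtype : Subgroup G) : Set G) := by
    apply le_normalizer_of_map_conj_le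
    rintro g hg _ ⟨_, ⟨n, hn, rfl⟩, rfl⟩
    refine ⟨(⟨g, hg⟩ : ↥X) * n * (⟨g, hg⟩ : ↥X)⁻¹, hN'n.conj_mem n hn _, ?_⟩
    simp
  rcases h2 _ hNX hXN with hle | hcl
  · intro x hx
    have hx' : (x : G) ∈ opOf p X := by
      rw [← map_pResidual_eq_opOf]; exact ⟨x, hx, rfl⟩
    obtain ⟨y, hy, hyx⟩ := hle hx'
    have : y = x := Subtype.ext hyx
    rw [← this]; exact hy
  · exfalso
    apply hN'cl
    exact isPClosed_of_mulEquiv
      (Subgroup.equivMapOfInjective N' X.subtype (Subgroup.subtype_injective X)).symm hcl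

end Cfsg.Agent.helper14
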