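import Cfsg.Statements.S2843
import Mathlib
import Cfsg.Agent.Lib_helper14_Large2
import Cfsg.Agent.Lib_helper14_WC2
import Cfsg.Agent.Lib_helper14_Amalgam5
-- import your own Cfsg.Agent.* helpers here

set_option autoImplicit false
open Cfsg

namespace Cfsg.Agent.S2843

open scoped commutatorElement
open Cfsg.Agent.helper14 Cfsg.Agent.helper7

variable {H : Type*} [Group H]

/-- The subgroup of elements of `N(P)` acting trivially on `C` modulo `P`. -/
def stabSub (P C : Subgroup H) : Subgroup H where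
  carrier := {a | a ∈ Subgroup.normalizer (P : Set H) ∧ ∀ c ∈ C, ⁅a, c⁆ ∈ P}
  one_mem' := ⟨Subgroup.one_mem _, fun c _ => by
    rw [commutatorElement_one_left]; exact Subgroup.one_mem _⟩
  mul_mem' := by
    rintro a b ⟨ha, ha'⟩ ⟨hb, hb'⟩
    refine ⟨Subgroup.mul_mem _ ha hb, ?_⟩
    intro c hc
    have e : ⁅a * b, c⁆ = a * ⁅b, c⁆ * a⁻¹ * ⁅a, c⁆ := by
      simp only [commutatorElement_def]; group
    rw [e]
    exact Subgroup.mul_mem _ ((Subgroup.mem_normalizer_iff.mp ha _).mp (hb' c hc)) (ha' c hc)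
  inv_mem' := by
    rintro a ⟨ha, ha'⟩
    refine ⟨Subgroup.inv_mem _ ha, ?_⟩
    intro c hc
    have e : ⁅a⁻¹, c⁆ = a⁻¹ * (⁅a, c⁆)⁻¹ * a⁻¹⁻¹ := by
      simp only [commutatorElement_def]; group
    rw [e]
    exact (Subgroup.mem_normalizer_iff.mp (Subgroup.inv_mem _ ha) _).mp
      (Subgroup.inv_mem _ (ha' c hc))

theorem commutator_iSup_le {ι : Sort*} (A : ι → Subgroup H) (P C : Subgroup H)
    (hn : ∀ i, A i ≤ Subgroup.normalizer (P : Set H)) (hc : ∀ i, ⁅A i, C⁆ ≤ P) :
    ⁅⨆ i, A i, C⁆ ≤ P := by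
  have hle : (⨆ i, A i) ≤ stabSub P C := by
    apply iSup_le
    intro i a ha
    exact ⟨hn i ha, fun c hc' => hc i (Subgroup.commutator_mem_commutator ha hc')⟩
  rw [Subgroup.commutator_le]
  intro a ha c hc'
  exact (hle ha).2 c hc'

theorem wc_of_isLarge [Finite H] {p : ℕ} [Fact p.Prime] {Q : Subgroup H} (hL : Cfsg.IsLarge Q)
    (hQp : IsPGroup p Q) (hQ1 : Q ≠ ⊥) : Cfsg.IsWeaklyClosedSubgroup p Q := by
  obtain ⟨T, hQT⟩ := hQp.exists_le_sylow
  exact ⟨T, hQT, fun g hg =>
    cj_eq_of_mem_normalizer (isLarge_mem_normalizer_of_cj_le hL hQ1 T hQT g hg)⟩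

/-- Let Q be a nontrivial large p-subgroup of the finite group H, Q ≤ L ≤ H, and Y a nontrivial p-subgroup of H normalized by L. Let L° be the weak closure of Q in L (generated by the conjugates of Q inside L). Then L° equals the weak closure of Q in L·C_H(Y), and [L°, C_H(Y)] ≤ O_p(L°); in particular C_H(Y) normalizes L°. -/
theorem result {H : Type*} [Group H] [Finite H] {p : ℕ} [Fact p.Prime] (Q : Subgroup H) (hQp : IsPGroup p ↥Q) (hQ1 : Q ≠ ⊥) (hL : Cfsg.IsLarge Q) (L : Subgroup H) (hQL : Q ≤ L) (Y : Subgroup H) (hYp : IsPGroup p ↥Y) (hY1 : Y ≠ ⊥) (hLY : L ≤ Subgroup.normalizer ((Y : Subgroup H) : Set H)) : Cfsg.weakClosure Q L = Cfsg.weakClosure Q (L ⊔ Subgroup.centralizer ((Y : Subgroup H) : Set H)) ∧ ⁅Cfsg.weakClosure Q L, Subgroup.centralizer ((Y : Subgroup H) : Set H)⁆ ≤ (Cfsg.pCoreOf p (Cfsg.weakClosure Q L)) ∧ Subgroup.centralizer ((Y : Subgroup H) : Set H) ≤ Subgroup.normalizer (((Cfsg.weakClosure Q L) : Subgroup H) : Set H) := by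
  have hw := wcin_top_of_wc (wc_of_isLarge hL hQp hQ1)
  have hLC : L ≤ Subgroup.normalizer ((Subgroup.centralizer ((Y : Subgroup H) : Set H) :
      Subgroup H) : Set H) :=
    hLY.trans (Cfsg.Agent.helper14.normalizer_le_normalizer_centralizer _)
  -- `C(Y)` normalizes every conjugate of `Q` inside `L`
  have hgen : ∀ g : H, cj g Q ≤ L → Subgroup.centralizer ((Y : Subgroup H) : Set H) ≤
      Subgroup.normalizer ((cj g Q : Subgroup H) : Set H) := by
    intro g hg
    exact isLarge_centralizer_le_normalizer (isLarge_cj hL g) (hQp.map _) Y hYp hY1 (hg.trans hLY)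
  have hWL : Cfsg.weakClosure Q L ≤ L := by
    unfold Cfsg.weakClosure
    apply iSup_le
    rintro ⟨g, hg⟩
    exact hg
  have hgenW : ∀ g : H, cj g Q ≤ L → cj g Q ≤ Cfsg.weakClosure Q L := by
    intro g hg
    unfold Cfsg.weakClosure
    exact le_iSup (fun g : {g : H // Q.map (MulAut.conj g).toMonoidHom ≤ L} =>
      Q.map (MulAut.conj (g : H)).toMonoidHom) ⟨g, hg⟩
  have h3 : Subgroup.centralizer ((Y : Subgroup H) : Set H) ≤
      Subgroup.normalizer (((Cfsg.weakClosure Q L) : Subgroup H) : Set H) := by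
    apply le_normalizer_of_map_conj_le
    intro c hc
    unfold Cfsg.weakClosure
    rw [Subgroup.map_iSup]
    apply iSup_le
    rintro ⟨g, hg⟩
    have e : cj c (cj g Q) = cj g Q := cj_eq_of_mem_normalizer (hgen g hg hc)
    show cj c (cj g Q) ≤ _
    rw [e]
    exact le_iSup (fun g : {g : H // Q.map (MulAut.conj g).toMonoidHom ≤ L} =>
      Q.map (MulAut.conj (g : H)).toMonoidHom) ⟨g, hg⟩
  refine ⟨?_, ?_, h3⟩
  · apply le_antisymm
    · unfold Cfsg.weakClosure
      apply iSup_le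
      rintro ⟨g, hg⟩
      exact le_iSup (fun g : {g : H // Q.map (MulAut.conj g).toMonoidHom ≤
          L ⊔ Subgroup.centralizer ((Y : Subgroup H) : Set H)} =>
        Q.map (MulAut.conj (g : H)).toMonoidHom) ⟨g, hg.trans le_sup_left⟩
    · show Cfsg.weakClosure Q (L ⊔ Subgroup.centralizer ((Y : Subgroup H) : Set H)) ≤ _
      unfold Cfsg.weakClosure
      apply iSup_le
      rintro ⟨g, hg⟩
      obtain ⟨k, hk, he⟩ := hw.conj_in hQp _ (hQL.trans le_sup_left) g hg
      rw [sup_comm] at hk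
      obtain ⟨c, hc, l, hl, rfl⟩ := mem_sup_of_normalizer hLC hk
      have hlQ : cj l Q ≤ L := by
        have := cj_mono (g := l) hQL
        rwa [cj_eq_of_mem_normalizer (Subgroup.le_normalizer hl)] at this
      have e2 : cj (c * l) Q = cj l Q := by
        rw [← cj_cj]; exact cj_eq_of_mem_normalizer (hgen l hlQ hc)
      show cj g Q ≤ _
      rw [he, e2]
      exact le_iSup (fun g : {g : H // Q.map (MulAut.conj g).toMonoidHom ≤ L} =>
        Q.map (MulAut.conj (g : H)).toMonoidHom) ⟨l, hlQ⟩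
  · -- `[L°, C(Y)] ≤ O_p(L°)`
    have hWY : Cfsg.weakClosure Q L ≤ Subgroup.normalizer ((Y : Subgroup H) : Set H) :=
      hWL.trans hLY
    have hWK := Cfsg.Agent.helper14.le_normalizer_inf_centralizer (Cfsg.weakClosure Q L) Y hWY
    have hcomm : ∀ g : H, cj g Q ≤ L →
        ⁅cj g Q, Subgroup.centralizer ((Y : Subgroup H) : Set H)⁆ ≤
          Cfsg.pCoreOf p (Cfsg.weakClosure Q L) := by
      intro g hg
      have hD : cj g Q ⊓ Subgroup.centralizer ((Y : Subgroup H) : Set H) ≤
          Cfsg.pCoreOf p (Cfsg.weakClosure Q L) := by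
        have h1 : Cfsg.weakClosure Q L ⊓ Subgroup.centralizer ((Y : Subgroup H) : Set H) ≤
            Subgroup.normalizer ((cj g Q ⊓ Subgroup.centralizer ((Y : Subgroup H) : Set H) :
              Subgroup H) : Set H) :=
          le_normalizer_inf' (inf_le_right.trans (hgen g hg))
            (inf_le_right.trans Subgroup.le_normalizer)
        have hsn : SN (cj g Q ⊓ Subgroup.centralizer ((Y : Subgroup H) : Set H))
            (Cfsg.weakClosure Q L) :=
          SN.step _ (Cfsg.weakClosure Q L ⊓ Subgroup.centralizer ((Y : Subgroup H) : Set H)) _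
            (inf_le_inf_right _ (hgenW g hg)) h1 (SN.of_normal inf_le_left hWK)
        rw [pCoreOf_eq_piCoreIn]
        exact le_piCoreIn_of_sn hsn
          ((isPGroup_iff_piGrp (Fact.out : p.Prime)).1 ((hQp.map _).to_le inf_le_left))
      exact (le_inf (commutator_le_left_of_le_normalizer _ _ (hgen g hg))
        (commutator_le_right_of_le_normalizer _ _ (hg.trans hLC))).trans hD
    have := commutator_iSup_le
      (fun g : {g : H // Q.map (MulAut.conj g).toMonoidHom ≤ L} =>
        Q.map (MulAut.conj (g : H)).toMonoidHom)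
      (Cfsg.pCoreOf p (Cfsg.weakClosure Q L)) (Subgroup.centralizer ((Y : Subgroup H) : Set H))
      (fun g => (hgenW g.1 g.2).trans (le_normalizer_pCoreOf p _))
      (fun g => hcomm g.1 g.2)
    exact this

end Cfsg.Agent.S2843
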