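import Mathlib
import Cfsg.Agent.Lib_helper14_Asym11
import Cfsg.Agent.S2843

set_option autoImplicit false
set_option linter.style.haveILetI false
open Cfsg
open scoped Pointwise commutatorElement

namespace Cfsg.Agent.helper14

open Cfsg.Agent.helper7

variable {G : Type*} [Group G]

namespace AsymSetting

variable [Finite G] {p : ℕ} [hp : Fact p.Prime] {S : Sylow p G} {M : Subgroup G}

/-- a `p`-subgroup normalized by `H ∈ ℌ` normalizes `H` -/
theorem le_normalizer_frakH (h : AsymSetting p S M) {H : Subgroup G} (hH : FrakHIn p M H)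
    (Qg : Subgroup G) (hQgp : IsPGroup p Qg) (hHQ : H ≤ Subgroup.normalizer (Qg : Set G)) :
    Qg ≤ Subgroup.normalizer (H : Set G) := by
  have hQgN : Qg ≤ Subgroup.normalizer ((Cfsg.pCoreOf p M : Subgroup G) : Set G) := by
    have hle : Qg ≤ Cfsg.pCoreOf p (H ⊔ Qg) :=
      le_pCoreOf_of_normal _ Qg le_sup_right (sup_le hHQ Subgroup.le_normalizer) hQgp
    exact hle.trans (h.pCoreOf_le_normalizer _ (hH.hPH.trans le_sup_left))
  intro x hx
  apply mem_normalizer_of_cj_eq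
  apply le_antisymm
  · have h1 : cj x (⨆ y : ↥H, cj (y : G) (Cfsg.pCoreOf p M)) ≤
        ⨆ y : ↥H, cj (y : G) (Cfsg.pCoreOf p M) := by
      show Subgroup.map _ _ ≤ _
      rw [Subgroup.map_iSup]
      apply iSup_le
      intro y
      have h2 : (cj (y : G) (Cfsg.pCoreOf p M)).map (MulAut.conj x).toMonoidHom =
          cj (x * (y : G)) (Cfsg.pCoreOf p M) := cj_cj x y _
      rw [h2]
      have h3 : x * (y : G) = (y : G) * ((y : G)⁻¹ * x * (y : G)) := by group
      have h4 : (y : G)⁻¹ * x * (y : G) ∈ Qg := by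
        have := (Subgroup.mem_normalizer_iff.mp (hHQ (H.inv_mem y.2)) x).mp hx
        simpa using this
      rw [h3, ← cj_cj, cj_eq_of_mem_normalizer (hQgN h4)]
      exact le_iSup (fun y : ↥H => cj (y : G) (Cfsg.pCoreOf p M)) y
    rw [h.iSup_cj_P_eq hH] at h1
    exact h1
  · have h1 : cj x⁻¹ (⨆ y : ↥H, cj (y : G) (Cfsg.pCoreOf p M)) ≤
        ⨆ y : ↥H, cj (y : G) (Cfsg.pCoreOf p M) := by
      show Subgroup.map _ _ ≤ _
      rw [Subgroup.map_iSup]
      apply iSup_le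
      intro y
      have h2 : (cj (y : G) (Cfsg.pCoreOf p M)).map (MulAut.conj x⁻¹).toMonoidHom =
          cj (x⁻¹ * (y : G)) (Cfsg.pCoreOf p M) := cj_cj x⁻¹ y _
      rw [h2]
      have h3 : x⁻¹ * (y : G) = (y : G) * ((y : G)⁻¹ * x⁻¹ * (y : G)) := by group
      have h4 : (y : G)⁻¹ * x⁻¹ * (y : G) ∈ Qg := by
        have := (Subgroup.mem_normalizer_iff.mp (hHQ (H.inv_mem y.2)) x⁻¹).mp (Qg.inv_mem hx)
        simpa using this
      rw [h3, ← cj_cj, cj_eq_of_mem_normalizer (hQgN h4)]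
      exact le_iSup (fun y : ↥H => cj (y : G) (Cfsg.pCoreOf p M)) y
    rw [h.iSup_cj_P_eq hH] at h1
    have := cj_le_iff.mp h1
    rwa [inv_inv] at this

theorem opOf_sup_eq (h : AsymSetting p S M) {H : Subgroup G} (hH : FrakHIn p M H)
    (Qg : Subgroup G) (hQgp : IsPGroup p Qg) (hHQ : H ≤ Subgroup.normalizer (Qg : Set G)) :
    opOf p (H ⊔ Qg) = opOf p H := by
  apply le_antisymm _ (opOf_mono p le_sup_left)
  have h1 := opOf_le_of_sup_pgroup H Qg hQgp (h.le_normalizer_frakH hH Qg hQgp hHQ)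
  have h2 := opOf_mono p h1
  rwa [opOf_idem] at h2

/-- the minimality property of `H Qg` -/
theorem min_sup (h : AsymSetting p S M) {H : Subgroup G} (hH : FrakHIn p M H)
    (Qg : Subgroup G) (hQgp : IsPGroup p Qg) (hHQ : H ≤ Subgroup.normalizer (Qg : Set G))
    (X : Subgroup G) (hPX : Cfsg.pCoreOf p M ≤ X) (hQX : Qg ≤ X) (hlt : X < H ⊔ Qg) :
    Cfsg.largestPReducedOf p M ≤ Cfsg.pCoreOf p X := by
  have hQN := h.le_normalizer_frakH hH Qg hQgp hHQ
  have hlt' : X ⊓ H < H := by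
    apply lt_of_le_of_ne inf_le_right
    intro he
    have hHX : H ≤ X := by rw [← he]; exact inf_le_left
    exact hlt.ne (le_antisymm hlt.le (sup_le hHX hQX))
  have h1 := hH.hmin (X ⊓ H) (le_inf hPX hH.hPH) hlt'
  have hXN : X ≤ Subgroup.normalizer (H : Set G) :=
    hlt.le.trans (sup_le Subgroup.le_normalizer hQN)
  have hsn : SN (X ⊓ H) X :=
    SN.of_normal inf_le_left (le_normalizer_inf' Subgroup.le_normalizer hXN)
  exact h1.trans (pCoreOf_le_of_sn hsn)

theorem not_isPClosed_sup (h : AsymSetting p S M) {H : Subgroup G} (hH : FrakHIn p M H)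
    (Qg : Subgroup G) (hQgp : IsPGroup p Qg) (hHQ : H ≤ Subgroup.normalizer (Qg : Set G)) :
    ¬ Cfsg.IsPClosed p ↥(H ⊔ Qg) := by
  intro hcl
  have hcl' : Cfsg.IsPClosed p ↥((H ⊔ Qg) ⊓ (H ⊔ Qg)) := by rw [inf_idem]; exact hcl
  have hYHQ : Cfsg.largestPReducedOf p M ≤ H ⊔ Qg := (h.Y_le_P.trans hH.hPH).trans le_sup_left
  have hYp : IsPGroup p (Cfsg.largestPReducedOf p M) := (pCoreOf_isPGroup M).to_le h.Y_le_P
  have h1 := le_pCoreOf_of_isPClosed (H ⊔ Qg) (H ⊔ Qg) Subgroup.le_normalizer hcl' _ hYp hYHQ hYHQ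
  have hQN := h.le_normalizer_frakH hH Qg hQgp hHQ
  have h2 : Cfsg.pCoreOf p (H ⊔ Qg) ⊓ H ≤ Cfsg.pCoreOf p H := by
    apply le_pCoreOf_of_normal H _ inf_le_right
    · exact le_normalizer_inf' (le_sup_left.trans (le_normalizer_pCoreOf p _))
        Subgroup.le_normalizer
    · exact (pCoreOf_isPGroup _).to_le inf_le_left
  exact hH.hYO ((le_inf h1 (h.Y_le_P.trans hH.hPH)).trans h2)

end AsymSetting

end Cfsg.Agent.helper14
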