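import Mathlib
import Cfsg.Agent.Lib_helper14_Asym12

set_option autoImplicit false
set_option linter.style.haveILetI false
open Cfsg
open scoped Pointwise commutatorElement

namespace Cfsg.Agent.helper14

open Cfsg.Agent.helper7

variable {G : Type*} [Group G]

namespace AsymSetting

variable [Finite G] {p : ℕ} [hp : Fact p.Prime] {S : Sylow p G} {M : Subgroup G}

theorem pirr_sup_aux (h : AsymSetting p S M) {H : Subgroup G} (hH : FrakHIn p M H)
    (Qg : Subgroup G) (hQgp : IsPGroup p Qg) (hHQ : H ≤ Subgroup.normalizer (Qg : Set G))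
    (N : Subgroup G) (hNX : N ≤ H ⊔ Qg) (hXN : H ⊔ Qg ≤ Subgroup.normalizer (N : Set G)) :
    opOf p (H ⊔ Qg) ≤ N ∨ Cfsg.IsPClosed p ↥N := by
  have hQN := h.le_normalizer_frakH hH Qg hQgp hHQ
  have hPHQ : Cfsg.pCoreOf p M ≤ H ⊔ Qg := hH.hPH.trans le_sup_left
  have hQself : H ⊔ Qg ≤ Subgroup.normalizer (Qg : Set G) := sup_le hHQ Subgroup.le_normalizer
  have hPQp : IsPGroup p ((Cfsg.pCoreOf p M ⊔ Qg : Subgroup G)) :=
    IsPGroup.to_sup_of_normal_right' (pCoreOf_isPGroup M) hQgp (hPHQ.trans hQself)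
  have hPQle : Cfsg.pCoreOf p M ⊔ Qg ≤ H ⊔ Qg := sup_le hPHQ le_sup_right
  by_cases hX : N ⊔ (Cfsg.pCoreOf p M ⊔ Qg) = H ⊔ Qg
  · left
    have h1 := opOf_le_of_sup_pgroup N (Cfsg.pCoreOf p M ⊔ Qg) hPQp (hPQle.trans hXN)
    rwa [hX] at h1
  · right
    have hle : N ⊔ (Cfsg.pCoreOf p M ⊔ Qg) ≤ H ⊔ Qg := sup_le hNX hPQle
    have hlt : N ⊔ (Cfsg.pCoreOf p M ⊔ Qg) < H ⊔ Qg := lt_of_le_of_ne hle hX
    have hY := h.min_sup hH Qg hQgp hHQ _ (le_sup_left.trans le_sup_right)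
      (le_sup_right.trans le_sup_right) hlt
    have hRdef := h.opOf_sup_eq hH Qg hQgp hHQ
    have hXO : H ⊔ Qg ≤ Subgroup.normalizer ((Cfsg.pCoreOf p N : Subgroup G) : Set G) :=
      hXN.trans (normalizer_le_normalizer_pCoreOf N)
    -- `[Y, N] ≤ O_p(N)`
    have hYN : ⁅Cfsg.largestPReducedOf p M, N⁆ ≤ Cfsg.pCoreOf p N := by
      have hN1 : N ≤ N ⊔ (Cfsg.pCoreOf p M ⊔ Qg) := le_sup_left
      have h1 : ⁅Cfsg.largestPReducedOf p M, N⁆ ≤ Cfsg.pCoreOf p (N ⊔ (Cfsg.pCoreOf p M ⊔ Qg)) :=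
        (Subgroup.commutator_mono hY le_rfl).trans (commutator_le_left_of_le_normalizer _ _
          (hN1.trans (le_normalizer_pCoreOf p _)))
      have h2 : ⁅Cfsg.largestPReducedOf p M, N⁆ ≤ N :=
        commutator_le_right_of_le_normalizer _ _
          (((h.Y_le_P.trans hH.hPH).trans le_sup_left).trans hXN)
      apply (le_inf h1 h2).trans
      apply le_pCoreOf_of_normal N _ inf_le_right
      · exact le_normalizer_inf' (hN1.trans (le_normalizer_pCoreOf p _)) Subgroup.le_normalizer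
      · exact (pCoreOf_isPGroup _).to_le inf_le_left
    -- `[K, N] ≤ O_p(N)`
    have hKN : ⁅⨆ x : ↥H, cj (x : G) (Cfsg.largestPReducedOf p M), N⁆ ≤ Cfsg.pCoreOf p N := by
      apply Cfsg.Agent.S2843.commutator_iSup_le
      · intro x
        have hxX : (x : G) ∈ H ⊔ Qg := (le_sup_left : H ≤ H ⊔ Qg) x.2
        have hYX : Cfsg.largestPReducedOf p M ≤ H ⊔ Qg :=
          (h.Y_le_P.trans hH.hPH).trans le_sup_left
        have := cj_mono (g := (x : G)) hYX
        rw [cj_eq_of_mem_normalizer (Subgroup.le_normalizer hxX)] at this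
        exact this.trans hXO
      · intro x
        have hxX : (x : G) ∈ H ⊔ Qg := (le_sup_left : H ≤ H ⊔ Qg) x.2
        have h1 := cj_mono (g := (x : G)) hYN
        rw [cj_commutator, cj_eq_of_mem_normalizer (hXN hxX),
          cj_eq_of_mem_normalizer (hXO hxX)] at h1
        exact h1
    have hRN : ⁅opOf p (H ⊔ Qg), N⁆ ≤ Cfsg.pCoreOf p N := by
      refine (Subgroup.commutator_mono ?_ le_rfl).trans hKN
      rw [hRdef, ← h.opOf_sup_Y_eq hH]
      exact le_sup_left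
    apply isPClosed_of_comm_le N (opOf p (H ⊔ Qg))
    · exact le_normalizer_inf' Subgroup.le_normalizer (hNX.trans (le_normalizer_opOf p _))
    · intro n hn
      exact ⟨_, Subgroup.mem_inf.mpr ⟨N.pow_mem hn _, pow_mem_opOf (hNX hn)⟩⟩
    · exact (Subgroup.commutator_mono inf_le_right le_rfl).trans hRN

theorem pirr_sup (h : AsymSetting p S M) {H : Subgroup G} (hH : FrakHIn p M H)
    (Qg : Subgroup G) (hQgp : IsPGroup p Qg) (hHQ : H ≤ Subgroup.normalizer (Qg : Set G)) :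
    Cfsg.IsPIrreducible p ↥(H ⊔ Qg) :=
  isPIrreducible_of_ambient _ (h.not_isPClosed_sup hH Qg hQgp hHQ)
    (fun N hNX hXN => h.pirr_sup_aux hH Qg hQgp hHQ N hNX hXN)

theorem normalizer_Y_eq (h : AsymSetting p S M) :
    Subgroup.normalizer ((Cfsg.largestPReducedOf p M : Subgroup G) : Set G) =
      M ⊔ Subgroup.centralizer ((Cfsg.largestPReducedOf p M : Subgroup G) : Set G) := by
  apply le_antisymm _ h.dagger_le_normalizer
  apply le_dagger h.hH S M h.hSM h.hM _ h.pred.2.1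
  intro hbot
  have h1 : Cfsg.largestPReducedOf p M ≤ Cfsg.pCoreOf p
      (Subgroup.normalizer ((Cfsg.largestPReducedOf p M : Subgroup G) : Set G)) :=
    le_pCoreOf_of_normal _ _ Subgroup.le_normalizer le_rfl
      ((pCoreOf_isPGroup M).to_le h.Y_le_P)
  rw [hbot] at h1
  exact h.Y_ne_bot (le_bot_iff.mp h1)

end AsymSetting

end Cfsg.Agent.helper14
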