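import Mathlib
import Cfsg.Prelude.Def_Solvable

set_option autoImplicit false

/-! The `p'`-core of a subgroup `C` of a group `X`, seen inside `X`, and its behaviour under
conjugation. -/

namespace Cfsg.Agent.helper14

section coreP
variable {X : Type*} [Group X]

/-- `C` has a nontrivial normal subgroup of order prime to `p` -/
def HasCore (p : ℕ) (C : Subgroup X) : Prop :=
  ∃ W : Subgroup X, W ≤ C ∧ (∀ c ∈ C, ∀ w ∈ W, c * w * c⁻¹ ∈ W) ∧ (Nat.card W).Coprime p ∧ W ≠ ⊥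

theorem pPrimeCore_ne_bot_iff (p : ℕ) (C : Subgroup X) :
    Cfsg.pPrimeCore p ↥C ≠ ⊥ ↔ HasCore p C := by
  unfold Cfsg.pPrimeCore
  constructor
  · intro h
    have h1 : ∃ N ∈ {N : Subgroup ↥C | N.Normal ∧ (Nat.card N).Coprime p}, N ≠ ⊥ := by
      by_contra hcon
      push Not at hcon
      exact h (sSup_eq_bot.mpr hcon)
    obtain ⟨N, ⟨hN, hNp⟩, hNb⟩ := h1
    refine ⟨N.map C.subtype, ?_, ?_, ?_, ?_⟩
    · rintro _ ⟨n, -, rfl⟩
      exact n.2
    · rintro c hc _ ⟨n, hn, rfl⟩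
      exact ⟨⟨c, hc⟩ * n * ⟨c, hc⟩⁻¹, hN.conj_mem n hn ⟨c, hc⟩, rfl⟩
    · rw [Subgroup.card_map_of_injective C.subtype_injective]
      exact hNp
    · rw [Ne, Subgroup.map_eq_bot_iff_of_injective _ C.subtype_injective]
      exact hNb
  · rintro ⟨W, hWC, hWn, hWp, hWb⟩
    intro h
    have hmem : W.subgroupOf C ∈ {N : Subgroup ↥C | N.Normal ∧ (Nat.card N).Coprime p} := by
      refine ⟨⟨?_⟩, ?_⟩
      · intro n hn g
        rw [Subgroup.mem_subgroupOf] at hn ⊢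
        exact hWn g.1 g.2 n.1 hn
      · rw [Nat.card_congr (Subgroup.subgroupOfEquivOfLe hWC).toEquiv]
        exact hWp
    have h1 : W.subgroupOf C ≤ ⊥ := by
      rw [← h]
      exact le_sSup hmem
    apply hWb
    rw [Subgroup.eq_bot_iff_forall]
    intro w hw
    have h2 : (⟨w, hWC hw⟩ : ↥C) ∈ W.subgroupOf C := by
      rw [Subgroup.mem_subgroupOf]
      exact hw
    have h3 := h1 h2
    rw [Subgroup.mem_bot] at h3
    exact congrArg Subtype.val h3

theorem HasCore.conj {p : ℕ} {C : Subgroup X} (h : HasCore p C) (a : X) :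
    HasCore p (C.map (MulAut.conj a).toMonoidHom) := by
  obtain ⟨W, hWC, hWn, hWp, hWb⟩ := h
  refine ⟨W.map (MulAut.conj a).toMonoidHom, Subgroup.map_mono hWC, ?_, ?_, ?_⟩
  · rintro _ ⟨c, hc, rfl⟩ _ ⟨w, hw, rfl⟩
    refine ⟨c * w * c⁻¹, hWn c hc w hw, ?_⟩
    show a * (c * w * c⁻¹) * a⁻¹ = (a * c * a⁻¹) * (a * w * a⁻¹) * (a * c * a⁻¹)⁻¹
    group
  · rw [Subgroup.card_map_of_injective (MulAut.conj a).injective]
    exact hWp
  · rw [Ne, Subgroup.map_eq_bot_iff_of_injective _ (MulAut.conj a).injective]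
    exact hWb

theorem map_conj_inf_centralizer (A : Subgroup X) (x a : X) :
    (A ⊓ Subgroup.centralizer {x}).map (MulAut.conj a).toMonoidHom =
      A.map (MulAut.conj a).toMonoidHom ⊓ Subgroup.centralizer {a * x * a⁻¹} := by
  ext g
  constructor
  · rintro ⟨c, hc, rfl⟩
    have hc : c ∈ A ⊓ Subgroup.centralizer {x} := hc
    rw [Subgroup.mem_inf] at hc ⊢
    refine ⟨⟨c, hc.1, rfl⟩, ?_⟩
    rw [Subgroup.mem_centralizer_iff] at hc ⊢
    intro y hy
    rw [Set.mem_singleton_iff] at hy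
    subst hy
    have h1 := hc.2 x (Set.mem_singleton x)
    show a * x * a⁻¹ * (a * c * a⁻¹) = (a * c * a⁻¹) * (a * x * a⁻¹)
    calc a * x * a⁻¹ * (a * c * a⁻¹) = a * (x * c) * a⁻¹ := by group
      _ = a * (c * x) * a⁻¹ := by rw [h1]
      _ = _ := by group
  · intro hg
    rw [Subgroup.mem_inf] at hg
    obtain ⟨⟨c, hc, rfl⟩, hg2⟩ := hg
    refine ⟨c, ?_, rfl⟩
    show c ∈ A ⊓ Subgroup.centralizer {x}
    rw [Subgroup.mem_inf]
    refine ⟨hc, ?_⟩
    rw [Subgroup.mem_centralizer_iff] at hg2 ⊢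
    intro y hy
    rw [Set.mem_singleton_iff] at hy
    subst hy
    have h1 : a * y * a⁻¹ * (a * c * a⁻¹) = (a * c * a⁻¹) * (a * y * a⁻¹) :=
      hg2 (a * y * a⁻¹) (Set.mem_singleton _)
    calc y * c = a⁻¹ * (a * y * a⁻¹ * (a * c * a⁻¹)) * a := by group
      _ = a⁻¹ * ((a * c * a⁻¹) * (a * y * a⁻¹)) * a := by rw [h1]
      _ = c * y := by group

theorem hasCore_conj_iff (p : ℕ) (A : Subgroup X) (x a : X) :
    HasCore p (A ⊓ Subgroup.centralizer {x}) ↔
      HasCore p (A.map (MulAut.conj a).toMonoidHom ⊓ Subgroup.centralizer {a * x * a⁻¹}) := by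
  rw [← map_conj_inf_centralizer]
  constructor
  · intro h
    exact h.conj a
  · intro h
    have h1 := h.conj a⁻¹
    rw [Subgroup.map_map] at h1
    have h2 : (MulAut.conj a⁻¹).toMonoidHom.comp (MulAut.conj a).toMonoidHom = MonoidHom.id X := by
      ext y
      show a⁻¹ * (a * y * a⁻¹) * a⁻¹⁻¹ = y
      group
    rw [h2, Subgroup.map_id] at h1
    exact h1

end coreP

end Cfsg.Agent.helper14
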