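import Mathlib

set_option autoImplicit false
set_option linter.unusedSectionVars false
set_option linter.unusedVariables false
set_option linter.unusedSimpArgs false

namespace Cfsg.Agent.helper14.FTPG

open Matrix


section part1
variable {ι : Type*} [Fintype ι] [DecidableEq ι] {F : Type*} [Field F]


/-- standard basis vectors -/
def ee (i : ι) : ι → F := Pi.single i (1 : F)

theorem ee_apply (i k : ι) : (ee i : ι → F) k = if k = i then 1 else 0 := by
  unfold ee
  rw [Pi.single_apply]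

theorem ee_same (i : ι) : (ee i : ι → F) i = 1 := by
  rw [ee_apply, if_pos rfl]

theorem ee_ne {i k : ι} (h : k ≠ i) : (ee i : ι → F) k = 0 := by
  rw [ee_apply, if_neg h]

theorem ee_ne_zero (i : ι) : (ee i : ι → F) ≠ 0 := by
  intro h
  have := congrFun h i
  rw [ee_same] at this
  exact one_ne_zero this

/-- the hypotheses on a map inducing a collineation -/
structure Coll (P : (ι → F) → (ι → F)) : Prop where
  ne_zero : ∀ v, v ≠ 0 → P v ≠ 0
  coll : ∀ (u v : ι → F) (a b : F), u ≠ 0 → v ≠ 0 → a • u + b • v ≠ 0 →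
    ∃ a' b' : F, P (a • u + b • v) = a' • P u + b' • P v
  inj : ∀ u v : ι → F, u ≠ 0 → v ≠ 0 → (∃ c : F, P u = c • P v) → ∃ d : F, u = d • v

variable {P : (ι → F) → (ι → F)}

/-- images of vectors supported in `T` lie in any subspace containing the images of the basis
vectors indexed by `T` -/
theorem Coll.span_mem (hP : Coll P) (W : Submodule F (ι → F)) (T : Set ι)
    (hT : ∀ i ∈ T, P (ee i) ∈ W) :
    ∀ (s : Finset ι) (v : ι → F), v ≠ 0 → (∀ i, v i ≠ 0 → i ∈ s ∧ i ∈ T) → P v ∈ W := by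
  intro s
  induction s using Finset.induction_on with
  | empty =>
    intro v hv hs
    exfalso
    apply hv
    funext i
    by_contra hi
    exact absurd (hs i hi).1 (Finset.notMem_empty i)
  | insert j s hj ih =>
    intro v hv hs
    by_cases hvj : v j = 0
    · apply ih v hv
      intro i hi
      obtain ⟨h1, h2⟩ := hs i hi
      refine ⟨?_, h2⟩
      rcases Finset.mem_insert.mp h1 with h3 | h3
      · rw [h3] at hi
        exact absurd hvj hi
      · exact h3
    · have hjT : j ∈ T := (hs j hvj).2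
      obtain ⟨v', hv'⟩ : ∃ v' : ι → F, v' = Function.update v j 0 := ⟨_, rfl⟩
      have hdec : v = (1 : F) • v' + v j • ee j := by
        funext k
        rw [Pi.add_apply, Pi.smul_apply, Pi.smul_apply, hv', ee_apply, smul_eq_mul, smul_eq_mul,
          one_mul]
        by_cases hk : k = j
        · subst hk
          rw [Function.update_self, if_pos rfl, zero_add, mul_one]
        · rw [Function.update_of_ne hk, if_neg hk, mul_zero, add_zero]
      by_cases hv'0 : v' = 0
      · have hdec' : v = v j • ee j + (0 : F) • ee j := by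
          rw [zero_smul, add_zero]
          have h1 := hdec
          rw [hv'0, smul_zero, zero_add] at h1
          exact h1
        have hne : v j • (ee j : ι → F) + (0 : F) • ee j ≠ 0 := by
          rw [← hdec']
          exact hv
        obtain ⟨a', b', hab⟩ := hP.coll (ee j) (ee j) (v j) 0 (ee_ne_zero j) (ee_ne_zero j) hne
        rw [hdec', hab]
        exact W.add_mem (W.smul_mem _ (hT j hjT)) (W.smul_mem _ (hT j hjT))
      · have hne : (1 : F) • v' + v j • (ee j : ι → F) ≠ 0 := by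
          rw [← hdec]
          exact hv
        obtain ⟨a', b', hab⟩ := hP.coll v' (ee j) 1 (v j) hv'0 (ee_ne_zero j) hne
        rw [hdec, hab]
        apply W.add_mem (W.smul_mem _ ?_) (W.smul_mem _ (hT j hjT))
        apply ih v' hv'0
        intro i hi
        have hij : i ≠ j := by
          intro h
          rw [h, hv', Function.update_self] at hi
          exact hi rfl
        rw [hv', Function.update_of_ne hij] at hi
        obtain ⟨h1, h2⟩ := hs i hi
        refine ⟨?_, h2⟩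
        rcases Finset.mem_insert.mp h1 with h3 | h3
        · exact absurd h3 hij
        · exact h3

end part1



section part1b
variable {ι : Type*} [Fintype ι] [DecidableEq ι] {F : Type*} [Field F]
variable {P : (ι → F) → (ι → F)}

/-- normalisation: the basis points and the unit points on the lines through `e i0` are fixed -/
structure Nrm (P : (ι → F) → (ι → F)) (i0 : ι) : Prop where
  basis : ∀ i, ∃ c : F, c ≠ 0 ∧ P (ee i) = c • ee i
  unit : ∀ i, i ≠ i0 → ∃ c : F, c ≠ 0 ∧ P (ee i0 + ee i) = c • (ee i0 + ee i)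

/-- the coordinate map on the line through `e i0` and `e i` -/
noncomputable def sg (P : (ι → F) → (ι → F)) (i0 i : ι) (a : F) : F :=
  (P (ee i0 + a • ee i)) i / (P (ee i0 + a • ee i)) i0

theorem line_ne_zero (i0 i : ι) (hi : i ≠ i0) (a : F) : (ee i0 + a • ee i : ι → F) ≠ 0 := by
  intro h
  have := congrFun h i0
  rw [Pi.add_apply, Pi.smul_apply, ee_same, ee_ne hi.symm, smul_zero, add_zero, Pi.zero_apply] at this
  exact one_ne_zero this

theorem sg_spec (hP : Coll P) (i0 : ι) (hN : Nrm P i0) (i : ι) (hi : i ≠ i0) (a : F) :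
    ∃ c : F, c ≠ 0 ∧ P (ee i0 + a • ee i) = c • (ee i0 + sg P i0 i a • ee i) := by
  have hne : (1 : F) • (ee i0 : ι → F) + a • ee i ≠ 0 := by
    rw [one_smul]
    exact line_ne_zero i0 i hi a
  obtain ⟨a', b', hab⟩ := hP.coll (ee i0) (ee i) 1 a (ee_ne_zero i0) (ee_ne_zero i) hne
  rw [one_smul] at hab
  obtain ⟨c0, hc0, hb0⟩ := hN.basis i0
  obtain ⟨ci, hci, hbi⟩ := hN.basis i
  rw [hb0, hbi, smul_smul, smul_smul] at hab
  have hα : a' * c0 ≠ 0 := by
    intro h0
    rw [h0, zero_smul, zero_add] at hab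
    have h1 : ∃ c : F, P (ee i0 + a • ee i) = c • P (ee i) := by
      refine ⟨b', ?_⟩
      rw [hab, hbi, smul_smul]
    obtain ⟨d, hd⟩ := hP.inj _ _ (line_ne_zero i0 i hi a) (ee_ne_zero i) h1
    have := congrFun hd i0
    rw [Pi.add_apply, Pi.smul_apply, Pi.smul_apply, ee_same, ee_ne hi.symm, smul_zero, smul_zero,
      add_zero] at this
    exact one_ne_zero this
  have h0 : (P (ee i0 + a • ee i)) i0 = a' * c0 := by
    rw [hab, Pi.add_apply, Pi.smul_apply, Pi.smul_apply, ee_same, ee_ne hi.symm, smul_zero,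
      add_zero, smul_eq_mul, mul_one]
  have h1 : (P (ee i0 + a • ee i)) i = b' * ci := by
    rw [hab, Pi.add_apply, Pi.smul_apply, Pi.smul_apply, ee_same, ee_ne hi, smul_zero,
      zero_add, smul_eq_mul, mul_one]
  refine ⟨a' * c0, hα, ?_⟩
  unfold sg
  rw [h0, h1, hab, smul_add, smul_smul, mul_div_cancel₀ _ hα]

theorem sg_zero (hP : Coll P) (i0 : ι) (hN : Nrm P i0) (i : ι) (hi : i ≠ i0) :
    sg P i0 i 0 = 0 := by
  unfold sg
  rw [zero_smul, add_zero]
  obtain ⟨c0, hc0, hb0⟩ := hN.basis i0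
  rw [hb0, Pi.smul_apply, ee_ne hi, smul_zero, zero_div]

theorem sg_one (hP : Coll P) (i0 : ι) (hN : Nrm P i0) (i : ι) (hi : i ≠ i0) :
    sg P i0 i 1 = 1 := by
  unfold sg
  rw [one_smul]
  obtain ⟨c, hc, hb⟩ := hN.unit i hi
  rw [hb, Pi.smul_apply, Pi.smul_apply, Pi.add_apply, Pi.add_apply, ee_same, ee_same, ee_ne hi,
    ee_ne hi.symm, add_zero, zero_add, smul_eq_mul, mul_one, div_self hc]

theorem sg_eq_zero (hP : Coll P) (i0 : ι) (hN : Nrm P i0) (i : ι) (hi : i ≠ i0) (a : F)
    (h : sg P i0 i a = 0) : a = 0 := by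
  obtain ⟨c, hc, hb⟩ := sg_spec hP i0 hN i hi a
  rw [h, zero_smul, add_zero] at hb
  obtain ⟨c0, hc0, hb0⟩ := hN.basis i0
  have h1 : ∃ d : F, P (ee i0 + a • ee i) = d • P (ee i0) := by
    refine ⟨c / c0, ?_⟩
    rw [hb, hb0, smul_smul, div_mul_cancel₀ _ hc0]
  obtain ⟨d, hd⟩ := hP.inj _ _ (line_ne_zero i0 i hi a) (ee_ne_zero i0) h1
  have := congrFun hd i
  rw [Pi.add_apply, Pi.smul_apply, Pi.smul_apply, ee_same, ee_ne hi, smul_zero, zero_add,
    smul_eq_mul, mul_one] at this
  exact this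

end part1b



section part1c
variable {ι : Type*} [Fintype ι] [DecidableEq ι] {F : Type*} [Field F]
variable {P : (ι → F) → (ι → F)}

theorem three_ne_zero (i0 i j : ι) (hi : i ≠ i0) (hj : j ≠ i0) (a b : F) :
    (ee i0 + a • ee i + b • ee j : ι → F) ≠ 0 := by
  intro h
  have := congrFun h i0
  rw [Pi.add_apply, Pi.add_apply, Pi.smul_apply, Pi.smul_apply, ee_same, ee_ne hi.symm,
    ee_ne hj.symm, smul_zero, smul_zero, add_zero, add_zero, Pi.zero_apply] at this
  exact one_ne_zero this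

/-- L1 -/
theorem plane_spec (hP : Coll P) (i0 : ι) (hN : Nrm P i0) (i j : ι) (hi : i ≠ i0) (hj : j ≠ i0)
    (hij : i ≠ j) (a b : F) :
    ∃ c : F, c ≠ 0 ∧ P (ee i0 + a • ee i + b • ee j) =
      c • (ee i0 + sg P i0 i a • ee i + sg P i0 j b • ee j) := by
  obtain ⟨ci, hci, hbi⟩ := hN.basis i
  obtain ⟨cj, hcj, hbj⟩ := hN.basis j
  obtain ⟨c1, hc1, h1⟩ := sg_spec hP i0 hN i hi a
  obtain ⟨c2, hc2, h2⟩ := sg_spec hP i0 hN j hj b
  have hw := three_ne_zero i0 i j hi hj a b
  have hne1 : (1 : F) • (ee i0 + a • ee i : ι → F) + b • ee j ≠ 0 := by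
    rw [one_smul]
    exact hw
  obtain ⟨α, β, hαβ⟩ := hP.coll _ (ee j) 1 b (line_ne_zero i0 i hi a) (ee_ne_zero j) hne1
  rw [one_smul, h1, hbj] at hαβ
  have e2 : (ee i0 + a • ee i + b • ee j : ι → F) = (1 : F) • (ee i0 + b • ee j) + a • ee i := by
    rw [one_smul]
    abel
  have hne2 : (1 : F) • (ee i0 + b • ee j : ι → F) + a • ee i ≠ 0 := by
    rw [← e2]
    exact hw
  obtain ⟨γ, δ, hγδ⟩ := hP.coll _ (ee i) 1 a (line_ne_zero i0 j hj b) (ee_ne_zero i) hne2
  rw [← e2, h2, hbi] at hγδ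
  have k0 := congrFun hαβ i0
  have k0' := congrFun hγδ i0
  have ki := congrFun hαβ i
  have ki' := congrFun hγδ i
  have kj := congrFun hαβ j
  have kj' := congrFun hγδ j
  simp only [Pi.add_apply, Pi.smul_apply, ee_same, ee_ne hi, ee_ne hj, ee_ne hi.symm,
    ee_ne hj.symm, ee_ne hij, ee_ne hij.symm, smul_eq_mul, mul_zero, mul_one, add_zero,
    zero_add] at k0 k0' ki ki' kj kj'
  have hαc : α * c1 ≠ 0 := by
    intro h0
    have h3 : ∃ c : F, P (ee i0 + a • ee i + b • ee j) = c • P (ee j) := by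
      refine ⟨β, ?_⟩
      rw [hαβ, hbj]
      rcases mul_eq_zero.mp h0 with h4 | h4
      · rw [h4, zero_smul, zero_add]
      · exact absurd h4 hc1
    obtain ⟨d, hd⟩ := hP.inj _ _ hw (ee_ne_zero j) h3
    have := congrFun hd i0
    simp only [Pi.add_apply, Pi.smul_apply, ee_same, ee_ne hi.symm, ee_ne hj.symm, smul_eq_mul,
      mul_zero, add_zero] at this
    exact one_ne_zero this
  refine ⟨α * c1, hαc, ?_⟩
  funext k
  by_cases hk0 : k = i0
  · subst hk0
    rw [k0]
    simp only [Pi.add_apply, Pi.smul_apply, ee_same, ee_ne hi.symm, ee_ne hj.symm, smul_eq_mul,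
      mul_zero, mul_one, add_zero]
  · by_cases hki : k = i
    · subst hki
      rw [ki]
      simp only [Pi.add_apply, Pi.smul_apply, ee_same, ee_ne hi, ee_ne hij, smul_eq_mul,
        mul_zero, mul_one, add_zero, zero_add]
      ring
    · by_cases hkj : k = j
      · subst hkj
        rw [kj']
        simp only [Pi.add_apply, Pi.smul_apply, ee_same, ee_ne hj, ee_ne hij.symm, smul_eq_mul,
          mul_zero, mul_one, add_zero, zero_add]
        rw [← k0, k0']
        ring
      · have := congrFun hαβ k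
        simp only [Pi.add_apply, Pi.smul_apply, ee_ne hk0, ee_ne hki, ee_ne hkj, smul_eq_mul,
          mul_zero, add_zero] at this
        rw [this]
        simp only [Pi.add_apply, Pi.smul_apply, ee_ne hk0, ee_ne hki, ee_ne hkj, smul_eq_mul,
          mul_zero, add_zero]

/-- L2 -/
theorem line_spec (hP : Coll P) (i0 : ι) (hN : Nrm P i0) (i j : ι) (hi : i ≠ i0) (hj : j ≠ i0)
    (hij : i ≠ j) (a b : F) (hab : (a • ee i + b • ee j : ι → F) ≠ 0) :
    ∃ c : F, c ≠ 0 ∧ P (a • ee i + b • ee j) =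
      c • (sg P i0 i a • ee i + sg P i0 j b • ee j) := by
  obtain ⟨c0, hc0, hb0⟩ := hN.basis i0
  obtain ⟨ci, hci, hbi⟩ := hN.basis i
  obtain ⟨cj, hcj, hbj⟩ := hN.basis j
  obtain ⟨c3, hc3, h3⟩ := plane_spec hP i0 hN i j hi hj hij a b
  obtain ⟨α, β, hαβ⟩ := hP.coll (ee i) (ee j) a b (ee_ne_zero i) (ee_ne_zero j) hab
  rw [hbi, hbj] at hαβ
  have e2 : (a • ee i + b • ee j : ι → F) =
      (-1 : F) • ee i0 + (1 : F) • (ee i0 + a • ee i + b • ee j) := by
    rw [one_smul, neg_one_smul]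
    abel
  have hne2 : (-1 : F) • (ee i0 : ι → F) + (1 : F) • (ee i0 + a • ee i + b • ee j) ≠ 0 := by
    rw [← e2]
    exact hab
  obtain ⟨γ, δ, hγδ⟩ := hP.coll (ee i0) _ (-1) 1 (ee_ne_zero i0)
    (three_ne_zero i0 i j hi hj a b) hne2
  rw [← e2, hb0, h3] at hγδ
  have k0 := congrFun hαβ i0
  have k0' := congrFun hγδ i0
  simp only [Pi.add_apply, Pi.smul_apply, ee_same, ee_ne hi.symm, ee_ne hj.symm, smul_eq_mul,
    mul_zero, mul_one, add_zero] at k0 k0'
  have hδ : δ * c3 ≠ 0 := by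
    intro h0
    rcases mul_eq_zero.mp h0 with h4 | h4
    · rw [h4, zero_smul, add_zero] at hγδ
      have h5 := k0'
      rw [k0, h4, zero_mul, add_zero] at h5
      have h6 : γ = 0 := by
        rcases mul_eq_zero.mp h5.symm with h7 | h7
        · exact h7
        · exact absurd h7 hc0
      rw [h6, zero_smul] at hγδ
      exact hP.ne_zero _ hab hγδ
    · exact absurd h4 hc3
  refine ⟨δ * c3, hδ, ?_⟩
  have hγ : γ * c0 = -(δ * c3) := by
    rw [k0] at k0'
    linear_combination -k0'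
  rw [hγδ]
  funext k
  simp only [Pi.add_apply, Pi.smul_apply, smul_eq_mul]
  by_cases hk0 : k = i0
  · subst hk0
    simp only [ee_same, ee_ne hi.symm, ee_ne hj.symm, mul_zero, mul_one, add_zero]
    linear_combination hγ
  · simp only [ee_ne hk0, mul_zero, zero_add]
    ring

end part1c



section part1d
variable {ι : Type*} [Fintype ι] [DecidableEq ι] {F : Type*} [Field F]
variable {P : (ι → F) → (ι → F)}

theorem diff_ne_zero (i j : ι) (hij : i ≠ j) (b : F) :
    (b • ee i + (-1 : F) • ee j : ι → F) ≠ 0 := by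
  intro h
  have := congrFun h j
  simp only [Pi.add_apply, Pi.smul_apply, ee_same, ee_ne hij.symm, smul_eq_mul, mul_zero,
    mul_one, zero_add, Pi.zero_apply] at this
  have h1 : (1 : F) = 0 := by linear_combination -this
  exact one_ne_zero h1

theorem add_rel (hP : Coll P) (i0 : ι) (hN : Nrm P i0) (i j : ι) (hi : i ≠ i0) (hj : j ≠ i0)
    (hij : i ≠ j) (a b : F) :
    sg P i0 j (-1) * (sg P i0 i (a + b) - sg P i0 i a) = - sg P i0 i b := by
  obtain ⟨c, hc, h1⟩ := sg_spec hP i0 hN i hi (a + b)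
  obtain ⟨c3, hc3, h3⟩ := plane_spec hP i0 hN i j hi hj hij a 1
  obtain ⟨c4, hc4, h4⟩ := line_spec hP i0 hN i j hi hj hij b (-1) (diff_ne_zero i j hij b)
  rw [sg_one hP i0 hN j hj] at h3
  have e : (ee i0 + (a + b) • ee i : ι → F) =
      (1 : F) • (ee i0 + a • ee i + (1 : F) • ee j) + (1 : F) • (b • ee i + (-1 : F) • ee j) := by
    rw [one_smul, one_smul, one_smul, neg_one_smul, add_smul]
    abel
  have hne : (1 : F) • (ee i0 + a • ee i + (1 : F) • ee j : ι → F) +
      (1 : F) • (b • ee i + (-1 : F) • ee j) ≠ 0 := by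
    rw [← e]
    exact line_ne_zero i0 i hi (a + b)
  obtain ⟨α, β, hαβ⟩ := hP.coll _ _ 1 1 (three_ne_zero i0 i j hi hj a 1)
    (diff_ne_zero i j hij b) hne
  rw [← e, h1, h3, h4] at hαβ
  have k0 := congrFun hαβ i0
  have ki := congrFun hαβ i
  have kj := congrFun hαβ j
  simp only [Pi.add_apply, Pi.smul_apply, ee_same, ee_ne hi, ee_ne hj, ee_ne hi.symm,
    ee_ne hj.symm, ee_ne hij, ee_ne hij.symm, smul_eq_mul, mul_zero, mul_one, add_zero,
    zero_add] at k0 ki kj
  -- k0 : c = α * c3 ; kj : 0 = α * c3 + β * (c4 * t) ; ki : c * s(a+b) = α*(c3*s a) + β*(c4 * s b)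
  have hA : α * c3 ≠ 0 := by
    rw [← k0]
    exact hc
  apply mul_left_cancel₀ hA
  linear_combination (sg P i0 j (-1)) * ki - (sg P i0 j (-1)) * (sg P i0 i (a + b)) * k0
    - (sg P i0 i b) * kj

theorem sg_neg_one (hP : Coll P) (i0 : ι) (hN : Nrm P i0) (i j : ι) (hi : i ≠ i0) (hj : j ≠ i0)
    (hij : i ≠ j) : sg P i0 j (-1) = -1 := by
  have h := add_rel hP i0 hN i j hi hj hij 0 1
  rw [zero_add, sg_one hP i0 hN i hi, sg_zero hP i0 hN i hi, sub_zero, mul_one] at h
  exact h

theorem sg_add (hP : Coll P) (i0 : ι) (hN : Nrm P i0) (i j : ι) (hi : i ≠ i0) (hj : j ≠ i0)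
    (hij : i ≠ j) (a b : F) : sg P i0 i (a + b) = sg P i0 i a + sg P i0 i b := by
  have h := add_rel hP i0 hN i j hi hj hij a b
  rw [sg_neg_one hP i0 hN i j hi hj hij] at h
  linear_combination -h

theorem sg_mul (hP : Coll P) (i0 : ι) (hN : Nrm P i0) (i j : ι) (hi : i ≠ i0) (hj : j ≠ i0)
    (hij : i ≠ j) (a b : F) : sg P i0 i (a * b) = sg P i0 j a * sg P i0 i b := by
  obtain ⟨c, hc, h1⟩ := sg_spec hP i0 hN i hi (a * b)
  obtain ⟨c2, hc2, h2⟩ := sg_spec hP i0 hN j hj a
  obtain ⟨c4, hc4, h4⟩ := line_spec hP i0 hN i j hi hj hij b (-1) (diff_ne_zero i j hij b)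
  rw [sg_neg_one hP i0 hN i j hi hj hij] at h4
  have e : (ee i0 + (a * b) • ee i : ι → F) =
      (1 : F) • (ee i0 + a • ee j) + a • (b • ee i + (-1 : F) • ee j) := by
    rw [one_smul, neg_one_smul, smul_add, smul_smul, smul_neg]
    abel
  have hne : (1 : F) • (ee i0 + a • ee j : ι → F) + a • (b • ee i + (-1 : F) • ee j) ≠ 0 := by
    rw [← e]
    exact line_ne_zero i0 i hi (a * b)
  obtain ⟨α, β, hαβ⟩ := hP.coll _ _ 1 a (line_ne_zero i0 j hj a)
    (diff_ne_zero i j hij b) hne
  rw [← e, h1, h2, h4] at hαβ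
  have k0 := congrFun hαβ i0
  have ki := congrFun hαβ i
  have kj := congrFun hαβ j
  simp only [Pi.add_apply, Pi.smul_apply, ee_same, ee_ne hi, ee_ne hj, ee_ne hi.symm,
    ee_ne hj.symm, ee_ne hij, ee_ne hij.symm, smul_eq_mul, mul_zero, mul_one, add_zero,
    zero_add] at k0 ki kj
  apply mul_left_cancel₀ hc
  linear_combination ki - (sg P i0 j a * sg P i0 i b) * k0 + (sg P i0 i b) * kj

end part1d



section part1e
variable {ι : Type*} [Fintype ι] [DecidableEq ι] {F : Type*} [Field F]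
variable {P : (ι → F) → (ι → F)}

theorem sg_indep (hP : Coll P) (i0 : ι) (hN : Nrm P i0) (i j : ι) (hi : i ≠ i0) (hj : j ≠ i0)
    (a : F) : sg P i0 i a = sg P i0 j a := by
  by_cases hij : i = j
  · rw [hij]
  · have h := sg_mul hP i0 hN i j hi hj hij a 1
    rw [mul_one, sg_one hP i0 hN i hi, mul_one] at h
    exact h

/-- the field endomorphism -/
noncomputable def sgHom (hP : Coll P) (i0 : ι) (hN : Nrm P i0) (i1 j1 : ι) (h1 : i1 ≠ i0)
    (hj1 : j1 ≠ i0) (h1j : i1 ≠ j1) : F →+* F where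
  toFun := sg P i0 i1
  map_one' := sg_one hP i0 hN i1 h1
  map_mul' a b := by
    rw [sg_mul hP i0 hN i1 j1 h1 hj1 h1j a b, sg_indep hP i0 hN j1 i1 hj1 h1 a]
  map_zero' := sg_zero hP i0 hN i1 h1
  map_add' a b := sg_add hP i0 hN i1 j1 h1 hj1 h1j a b

theorem sgHom_apply (hP : Coll P) (i0 : ι) (hN : Nrm P i0) (i1 j1 : ι) (h1 : i1 ≠ i0)
    (hj1 : j1 ≠ i0) (h1j : i1 ≠ j1) (a : F) :
    sgHom hP i0 hN i1 j1 h1 hj1 h1j a = sg P i0 i1 a := rfl

/-- support outside `i0` -/
noncomputable def supp0 (i0 : ι) (v : ι → F) : Finset ι := by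
  classical
  exact Finset.univ.filter (fun i => i ≠ i0 ∧ v i ≠ 0)

theorem mem_supp0 (i0 : ι) (v : ι → F) (i : ι) : i ∈ supp0 i0 v ↔ i ≠ i0 ∧ v i ≠ 0 := by
  classical
  unfold supp0
  rw [Finset.mem_filter]
  exact ⟨fun h => h.2, fun h => ⟨Finset.mem_univ _, h⟩⟩

theorem supp0_update (i0 : ι) (v : ι → F) (i : ι) (hi : i ∈ supp0 i0 v) :
    (supp0 i0 (Function.update v i 0)).card < (supp0 i0 v).card := by
  apply Finset.card_lt_card
  constructor
  · intro k hk
    rw [mem_supp0] at hk ⊢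
    refine ⟨hk.1, ?_⟩
    by_cases hki : k = i
    · rw [hki, Function.update_self] at hk
      exact absurd rfl hk.2
    · rw [Function.update_of_ne hki] at hk
      exact hk.2
  · intro hsub
    have := hsub hi
    rw [mem_supp0, Function.update_self] at this
    exact this.2 rfl

theorem decomp_update (v : ι → F) (i : ι) :
    v = (1 : F) • Function.update v i 0 + v i • ee i := by
  funext k
  rw [Pi.add_apply, Pi.smul_apply, Pi.smul_apply, ee_apply, smul_eq_mul, smul_eq_mul, one_mul]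
  by_cases hk : k = i
  · subst hk
    rw [Function.update_self, if_pos rfl, zero_add, mul_one]
  · rw [Function.update_of_ne hk, if_neg hk, mul_zero, add_zero]

theorem affine_spec (hP : Coll P) (i0 : ι) (hN : Nrm P i0) (σ : F →+* F)
    (hσ : ∀ i, i ≠ i0 → ∀ a, sg P i0 i a = σ a) :
    ∀ (n : ℕ) (v : ι → F), v i0 = 1 → (supp0 i0 v).card ≤ n →
      ∃ c : F, c ≠ 0 ∧ P v = c • (σ ∘ v) := by
  intro n
  induction n with
  | zero =>
    intro v hv0 hcard
    have hemp : supp0 i0 v = ∅ := Finset.card_eq_zero.mp (Nat.le_zero.mp hcard)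
    have hv : v = ee i0 := by
      funext k
      by_cases hk : k = i0
      · rw [hk, hv0, ee_same]
      · rw [ee_ne hk]
        by_contra hvk
        have : k ∈ supp0 i0 v := (mem_supp0 i0 v k).mpr ⟨hk, hvk⟩
        rw [hemp] at this
        exact absurd this (Finset.notMem_empty k)
    obtain ⟨c0, hc0, hb0⟩ := hN.basis i0
    refine ⟨c0, hc0, ?_⟩
    rw [hv, hb0]
    congr 1
    funext k
    rw [Function.comp_apply, ee_apply]
    split_ifs
    · rw [map_one]
    · rw [map_zero]
  | succ n ih =>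
    intro v hv0 hcard
    by_cases hemp : supp0 i0 v = ∅
    · apply ih v hv0
      rw [hemp, Finset.card_empty]
      exact Nat.zero_le n
    · obtain ⟨i, hi⟩ := Finset.nonempty_iff_ne_empty.mpr hemp
      have hi' := (mem_supp0 i0 v i).mp hi
      obtain ⟨vi, hvi⟩ : ∃ vi : ι → F, vi = Function.update v i 0 := ⟨_, rfl⟩
      have hvi0 : vi i0 = 1 := by
        rw [hvi, Function.update_of_ne hi'.1.symm, hv0]
      have hvicard : (supp0 i0 vi).card ≤ n := by
        have := supp0_update i0 v i hi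
        rw [← hvi] at this
        omega
      obtain ⟨ci', hci', hPvi⟩ := ih vi hvi0 hvicard
      have hvne : v ≠ 0 := by
        intro h
        rw [h, Pi.zero_apply] at hv0
        exact zero_ne_one hv0
      have hvine : vi ≠ 0 := by
        intro h
        rw [h, Pi.zero_apply] at hvi0
        exact zero_ne_one hvi0
      obtain ⟨cbi, hcbi, hbi⟩ := hN.basis i
      have hdec := decomp_update v i
      rw [← hvi] at hdec
      have hne1 : (1 : F) • vi + v i • (ee i : ι → F) ≠ 0 := by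
        rw [← hdec]
        exact hvne
      obtain ⟨α, β, hαβ⟩ := hP.coll vi (ee i) 1 (v i) hvine (ee_ne_zero i) hne1
      rw [← hdec, hPvi, hbi] at hαβ
      have hA : α * ci' ≠ 0 := by
        intro h0
        have h3 : ∃ c : F, P v = c • P (ee i) := by
          refine ⟨β, ?_⟩
          rw [hαβ, hbi]
          rcases mul_eq_zero.mp h0 with h4 | h4
          · rw [h4, zero_smul, zero_add]
          · exact absurd h4 hci'
        obtain ⟨d, hd⟩ := hP.inj _ _ hvne (ee_ne_zero i) h3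
        have := congrFun hd i0
        rw [hv0, Pi.smul_apply, ee_ne hi'.1.symm, smul_zero] at this
        exact one_ne_zero this
      by_cases hemp2 : supp0 i0 vi = ∅
      · -- v = e i0 + v i • e i
        have hvi_eq : vi = ee i0 := by
          funext k
          by_cases hk : k = i0
          · rw [hk, hvi0, ee_same]
          · rw [ee_ne hk]
            by_contra hvk
            have : k ∈ supp0 i0 vi := (mem_supp0 i0 vi k).mpr ⟨hk, hvk⟩
            rw [hemp2] at this
            exact absurd this (Finset.notMem_empty k)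
        obtain ⟨a, ha⟩ : ∃ a : F, a = v i := ⟨_, rfl⟩
        have hv_eq : v = ee i0 + a • ee i := by
          have h := hdec
          rw [hvi_eq, one_smul, ← ha] at h
          exact h
        obtain ⟨c, hc, hspec⟩ := sg_spec hP i0 hN i hi'.1 a
        refine ⟨c, hc, ?_⟩
        rw [hv_eq, hspec, hσ i hi'.1]
        congr 1
        funext k
        simp only [Pi.add_apply, Pi.smul_apply, Function.comp_apply, ee_apply, smul_eq_mul]
        by_cases hk0 : k = i0
        · have hki : k ≠ i := by rw [hk0]; exact hi'.1.symm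
          simp [hk0, hki, hi'.1.symm]
        · by_cases hki : k = i
          · simp [hk0, hki, hi'.1]
          · simp [hk0, hki]
      · obtain ⟨j, hj⟩ := Finset.nonempty_iff_ne_empty.mpr hemp2
        have hj' := (mem_supp0 i0 vi j).mp hj
        have hji : j ≠ i := by
          intro h
          rw [h, hvi, Function.update_self] at hj'
          exact hj'.2 rfl
        have hvj : v j ≠ 0 := by
          have := hj'.2
          rw [hvi, Function.update_of_ne hji] at this
          exact this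
        have hjv : j ∈ supp0 i0 v := (mem_supp0 i0 v j).mpr ⟨hj'.1, hvj⟩
        obtain ⟨vj, hvj_def⟩ : ∃ vj : ι → F, vj = Function.update v j 0 := ⟨_, rfl⟩
        have hvj0 : vj i0 = 1 := by
          rw [hvj_def, Function.update_of_ne hj'.1.symm, hv0]
        have hvjcard : (supp0 i0 vj).card ≤ n := by
          have := supp0_update i0 v j hjv
          rw [← hvj_def] at this
          omega
        obtain ⟨cj', hcj', hPvj⟩ := ih vj hvj0 hvjcard
        have hvjne : vj ≠ 0 := by
          intro h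
          rw [h, Pi.zero_apply] at hvj0
          exact zero_ne_one hvj0
        obtain ⟨cbj, hcbj, hbj⟩ := hN.basis j
        have hdec2 := decomp_update v j
        rw [← hvj_def] at hdec2
        have hne2 : (1 : F) • vj + v j • (ee j : ι → F) ≠ 0 := by
          rw [← hdec2]
          exact hvne
        obtain ⟨γ, δ, hγδ⟩ := hP.coll vj (ee j) 1 (v j) hvjne (ee_ne_zero j) hne2
        rw [← hdec2, hPvj, hbj] at hγδ
        have k0 := congrFun hαβ i0
        have k0' := congrFun hγδ i0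
        have ki := congrFun hαβ i
        have ki' := congrFun hγδ i
        simp only [Pi.add_apply, Pi.smul_apply, Function.comp_apply, hvi0, hvj0, map_one,
          ee_same, ee_ne hi'.1.symm, ee_ne hj'.1.symm, ee_ne hji.symm, smul_eq_mul, mul_zero,
          mul_one, add_zero] at k0 k0' ki ki'
        have hvii : vi i = 0 := by rw [hvi, Function.update_self]
        have hvji : vj i = v i := by rw [hvj_def, Function.update_of_ne hji.symm]
        simp only [hvii, map_zero, mul_zero, zero_add] at ki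
        rw [hvji] at ki'
        refine ⟨α * ci', hA, ?_⟩
        rw [hαβ]
        funext k
        simp only [Pi.add_apply, Pi.smul_apply, Function.comp_apply, smul_eq_mul]
        by_cases hki : k = i
        · subst hki
          rw [hvii, map_zero, mul_zero, mul_zero, zero_add, ee_same, mul_one]
          rw [ki] at ki'
          have hγ : γ * cj' = α * ci' := by rw [← k0', k0]
          rw [ki', ← mul_assoc, hγ]
        · rw [ee_ne hki, mul_zero, mul_zero, add_zero, hvi, Function.update_of_ne hki]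
          ring

end part1e



section part1f
variable {ι : Type*} [Fintype ι] [DecidableEq ι] {F : Type*} [Field F]
variable {P : (ι → F) → (ι → F)}

theorem Coll.smul (hP : Coll P) (v : ι → F) (hv : v ≠ 0) (a : F) (ha : a ≠ 0) :
    ∃ c : F, c ≠ 0 ∧ P (a • v) = c • P v := by
  have hav : a • v ≠ 0 := smul_ne_zero ha hv
  have hne : a • v + (0 : F) • v ≠ 0 := by
    rw [zero_smul, add_zero]
    exact hav
  obtain ⟨a', b', hab⟩ := hP.coll v v a 0 hv hv hne
  rw [zero_smul, add_zero, ← add_smul] at hab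
  refine ⟨a' + b', ?_, hab⟩
  intro h0
  rw [h0, zero_smul] at hab
  exact hP.ne_zero _ hav hab

theorem general_spec (hP : Coll P) (i0 : ι) (hN : Nrm P i0) (σ : F →+* F)
    (hσ : ∀ i, i ≠ i0 → ∀ a, sg P i0 i a = σ a) (v : ι → F) (hv : v ≠ 0) :
    ∃ c : F, c ≠ 0 ∧ P v = c • (σ ∘ v) := by
  by_cases hv0 : v i0 = 0
  · -- w = e i0 + v
    obtain ⟨w, hw⟩ : ∃ w : ι → F, w = ee i0 + v := ⟨_, rfl⟩
    have hw0 : w i0 = 1 := by
      rw [hw, Pi.add_apply, ee_same, hv0, add_zero]
    have hwne : w ≠ 0 := by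
      intro h
      rw [h, Pi.zero_apply] at hw0
      exact zero_ne_one hw0
    obtain ⟨c, hc, hPw⟩ := affine_spec hP i0 hN σ hσ _ w hw0 le_rfl
    have hdec : v = (-1 : F) • ee i0 + (1 : F) • w := by
      rw [hw]
      simp
    have hne : (-1 : F) • (ee i0 : ι → F) + (1 : F) • w ≠ 0 := by
      rw [← hdec]
      exact hv
    obtain ⟨a', b', hab⟩ := hP.coll (ee i0) w (-1) 1 (ee_ne_zero i0) hwne hne
    rw [← hdec] at hab
    obtain ⟨c0, hc0, hb0⟩ := hN.basis i0
    -- P v has zero i0-coordinate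
    have hmem : P v ∈ LinearMap.ker (LinearMap.proj (R := F) (φ := fun _ : ι => F) i0) := by
      apply hP.span_mem _ {i | i ≠ i0} _ Finset.univ v hv
      · intro i hi
        refine ⟨Finset.mem_univ _, ?_⟩
        intro h
        rw [h] at hi
        exact hi hv0
      · intro i hi
        obtain ⟨ci, hci, hbi⟩ := hN.basis i
        have hi' : i0 ≠ i := fun h => hi h.symm
        rw [LinearMap.mem_ker, LinearMap.proj_apply, hbi, Pi.smul_apply, ee_ne hi', smul_zero]
    rw [LinearMap.mem_ker, LinearMap.proj_apply] at hmem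
    have h1 := congrFun hab i0
    rw [hmem, hb0, hPw] at h1
    simp only [Pi.add_apply, Pi.smul_apply, Function.comp_apply, ee_same, hw0, map_one,
      smul_eq_mul, mul_one] at h1
    have hPv : P v = (b' * c) • (σ ∘ v) := by
      rw [hab, hb0, hPw]
      funext k
      simp only [Pi.add_apply, Pi.smul_apply, Function.comp_apply, smul_eq_mul]
      by_cases hk : k = i0
      · rw [hk, ee_same, hw0, hv0, map_one, map_zero, mul_one, mul_one, mul_zero]
        exact h1.symm
      · rw [ee_ne hk, hw, Pi.add_apply, ee_ne hk, zero_add, mul_zero, mul_zero, zero_add,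
          mul_assoc]
    refine ⟨b' * c, ?_, hPv⟩
    intro h0
    rw [h0, zero_smul] at hPv
    exact hP.ne_zero v hv hPv
  · obtain ⟨w, hw⟩ : ∃ w : ι → F, w = (v i0)⁻¹ • v := ⟨_, rfl⟩
    have hw0 : w i0 = 1 := by
      rw [hw, Pi.smul_apply, smul_eq_mul, inv_mul_cancel₀ hv0]
    have hwne : w ≠ 0 := by
      intro h
      rw [h, Pi.zero_apply] at hw0
      exact zero_ne_one hw0
    obtain ⟨c, hc, hPw⟩ := affine_spec hP i0 hN σ hσ _ w hw0 le_rfl
    have hvw : v = v i0 • w := by
      rw [hw, smul_smul, mul_inv_cancel₀ hv0, one_smul]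
    obtain ⟨d, hd, hPv⟩ := hP.smul w hwne (v i0) hv0
    rw [← hvw] at hPv
    have hσ0 : σ (v i0) ≠ 0 := by
      intro h
      exact hv0 ((map_eq_zero σ).mp h)
    refine ⟨d * c * (σ (v i0))⁻¹, mul_ne_zero (mul_ne_zero hd hc) (inv_ne_zero hσ0), ?_⟩
    rw [hPv, hPw]
    funext k
    simp only [Pi.smul_apply, Function.comp_apply, smul_eq_mul]
    rw [hw, Pi.smul_apply, smul_eq_mul, map_mul, map_inv₀]
    ring

theorem ftpg_normalized (hP : Coll P) (i0 i1 j1 : ι) (hN : Nrm P i0) (h1 : i1 ≠ i0)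
    (hj1 : j1 ≠ i0) (h1j : i1 ≠ j1) :
    ∃ σ : F →+* F, ∀ v : ι → F, v ≠ 0 → ∃ c : F, c ≠ 0 ∧ P v = c • (σ ∘ v) := by
  refine ⟨sgHom hP i0 hN i1 j1 h1 hj1 h1j, ?_⟩
  intro v hv
  apply general_spec hP i0 hN _ _ v hv
  intro i hi a
  rw [sgHom_apply]
  exact sg_indep hP i0 hN i i1 hi h1 a

end part1f



section part2
variable {ι : Type*} [Fintype ι] [DecidableEq ι] {F : Type*} [Field F]
variable {P : (ι → F) → (ι → F)}

theorem mulVec_eq_zero_of_isUnit (M : Matrix ι ι F) (hM : IsUnit M) (x : ι → F)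
    (h : M *ᵥ x = 0) : x = 0 := by
  obtain ⟨u, hu⟩ := hM
  have : (↑u⁻¹ : Matrix ι ι F) *ᵥ (M *ᵥ x) = x := by
    rw [Matrix.mulVec_mulVec, ← hu, ← Units.val_mul, inv_mul_cancel, Units.val_one,
      Matrix.one_mulVec]
  rw [← this, h, Matrix.mulVec_zero]

theorem Coll.comp_mulVec (hP : Coll P) (M : Matrix ι ι F) (hM : IsUnit M) :
    Coll (fun v => M *ᵥ P v) := by
  constructor
  · intro v hv h
    exact hP.ne_zero v hv (mulVec_eq_zero_of_isUnit M hM _ h)
  · intro u v a b hu hv hne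
    obtain ⟨a', b', hab⟩ := hP.coll u v a b hu hv hne
    refine ⟨a', b', ?_⟩
    show M *ᵥ P (a • u + b • v) = a' • M *ᵥ P u + b' • M *ᵥ P v
    rw [hab, Matrix.mulVec_add, Matrix.mulVec_smul, Matrix.mulVec_smul]
  · intro u v hu hv h
    obtain ⟨c, hc⟩ := h
    apply hP.inj u v hu hv
    refine ⟨c, ?_⟩
    have h1 : M *ᵥ (P u - c • P v) = 0 := by
      rw [Matrix.mulVec_sub, Matrix.mulVec_smul]
      exact sub_eq_zero.mpr hc
    exact sub_eq_zero.mp (mulVec_eq_zero_of_isUnit M hM _ h1)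

theorem mulVec_ee (M : Matrix ι ι F) (i : ι) : M *ᵥ (ee i : ι → F) = fun r => M r i := by
  unfold ee
  rw [Matrix.mulVec_single_one]
  rfl

theorem pair_ne_zero (i0 i : ι) (hi : i ≠ i0) : (ee i0 + ee i : ι → F) ≠ 0 := by
  have := line_ne_zero (F := F) i0 i hi 1
  rw [one_smul] at this
  exact this

/-- the fundamental theorem of projective geometry, for maps of coordinate spaces over a finite
field -/
theorem ftpg [Finite F] (hP : Coll P)
    (hS : ∀ y : ι → F, y ≠ 0 → ∃ v : ι → F, v ≠ 0 ∧ ∃ c : F, c ≠ 0 ∧ P v = c • y)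
    (i0 i1 j1 : ι) (h1 : i1 ≠ i0) (hj1 : j1 ≠ i0) (h1j : i1 ≠ j1) :
    ∃ (σ : F ≃+* F) (g : GL ι F), ∀ v : ι → F, v ≠ 0 →
      ∃ c : F, c ≠ 0 ∧ P v = c • (g.val *ᵥ (σ ∘ v)) := by
  classical
  -- unit point coefficients
  have hex : ∀ i : ι, ∃ ab : F × F, i ≠ i0 →
      (P (ee i0 + ee i) = ab.1 • P (ee i0) + ab.2 • P (ee i) ∧ ab.1 ≠ 0 ∧ ab.2 ≠ 0) := by
    intro i
    by_cases hi : i = i0
    · exact ⟨(1, 1), fun h => absurd hi h⟩
    · have hne : (1 : F) • (ee i0 : ι → F) + (1 : F) • ee i ≠ 0 := by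
        rw [one_smul, one_smul]
        exact pair_ne_zero i0 i hi
      obtain ⟨a', b', hab⟩ := hP.coll (ee i0) (ee i) 1 1 (ee_ne_zero i0) (ee_ne_zero i) hne
      rw [one_smul, one_smul] at hab
      refine ⟨(a', b'), fun _ => ⟨hab, ?_, ?_⟩⟩
      · intro h0
        change a' = 0 at h0
        rw [h0, zero_smul, zero_add] at hab
        obtain ⟨d, hd⟩ := hP.inj _ _ (pair_ne_zero i0 i hi) (ee_ne_zero i) ⟨b', hab⟩
        have := congrFun hd i0
        rw [Pi.add_apply, Pi.smul_apply, ee_same, ee_ne (Ne.symm hi), smul_zero, add_zero] at this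
        exact one_ne_zero this
      · intro h0
        change b' = 0 at h0
        rw [h0, zero_smul, add_zero] at hab
        obtain ⟨d, hd⟩ := hP.inj _ _ (pair_ne_zero i0 i hi) (ee_ne_zero i0) ⟨a', hab⟩
        have := congrFun hd i
        rw [Pi.add_apply, Pi.smul_apply, ee_same, ee_ne hi, smul_zero, zero_add] at this
        exact one_ne_zero this
  choose ab hab using hex
  obtain ⟨d, hd⟩ : ∃ d : ι → F, d = fun i => if i = i0 then 1 else (ab i).2 / (ab i).1 := ⟨_, rfl⟩
  have hd0 : d i0 = 1 := by rw [hd]; exact if_pos rfl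
  have hdi : ∀ i, i ≠ i0 → d i = (ab i).2 / (ab i).1 := by
    intro i hi
    rw [hd]
    exact if_neg hi
  have hdne : ∀ i, d i ≠ 0 := by
    intro i
    by_cases hi : i = i0
    · rw [hi, hd0]
      exact one_ne_zero
    · rw [hdi i hi]
      exact div_ne_zero (hab i hi).2.2 (hab i hi).2.1
  obtain ⟨M, hM⟩ : ∃ M : Matrix ι ι F, M = Matrix.of (fun r i => d i * P (ee i) r) := ⟨_, rfl⟩
  have hMee : ∀ i, M *ᵥ (ee i : ι → F) = d i • P (ee i) := by
    intro i
    rw [mulVec_ee, hM]
    funext r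
    rw [Matrix.of_apply, Pi.smul_apply, smul_eq_mul]
  -- all images lie in the range of M
  have hrange : ∀ v : ι → F, v ≠ 0 → P v ∈ LinearMap.range (Matrix.mulVecLin M) := by
    intro v hv
    apply hP.span_mem _ Set.univ _ Finset.univ v hv
    · intro i _
      exact ⟨Finset.mem_univ _, Set.mem_univ _⟩
    · intro i _
      rw [LinearMap.mem_range]
      refine ⟨(d i)⁻¹ • ee i, ?_⟩
      rw [Matrix.mulVecLin_apply, Matrix.mulVec_smul, hMee, smul_smul, inv_mul_cancel₀ (hdne i),
        one_smul]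
  have hsurj : Function.Surjective M.mulVec := by
    intro y
    by_cases hy : y = 0
    · exact ⟨0, by rw [hy, Matrix.mulVec_zero]⟩
    · obtain ⟨v, hv, c, hc, hPv⟩ := hS y hy
      obtain ⟨x, hx⟩ := LinearMap.mem_range.mp (hrange v hv)
      rw [Matrix.mulVecLin_apply] at hx
      refine ⟨c⁻¹ • x, ?_⟩
      rw [Matrix.mulVec_smul, hx, hPv, smul_smul, inv_mul_cancel₀ hc, one_smul]
  have hMu : IsUnit M := Matrix.mulVec_surjective_iff_isUnit.mp hsurj
  obtain ⟨g, hg⟩ := hMu
  have hMi : (↑g⁻¹ : Matrix ι ι F) * M = 1 := by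
    rw [← hg, ← Units.val_mul, inv_mul_cancel, Units.val_one]
  have hMi' : M * (↑g⁻¹ : Matrix ι ι F) = 1 := by
    rw [← hg, ← Units.val_mul, mul_inv_cancel, Units.val_one]
  have hP2 : Coll (fun v => (↑g⁻¹ : Matrix ι ι F) *ᵥ P v) :=
    hP.comp_mulVec _ (g⁻¹).isUnit
  have hbasis : ∀ i, (↑g⁻¹ : Matrix ι ι F) *ᵥ P (ee i) = (d i)⁻¹ • ee i := by
    intro i
    have h2 : P (ee i) = (d i)⁻¹ • (M *ᵥ (ee i : ι → F)) := by
      rw [hMee, smul_smul, inv_mul_cancel₀ (hdne i), one_smul]
    rw [h2, Matrix.mulVec_smul, Matrix.mulVec_mulVec, hMi, Matrix.one_mulVec]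
  have hN : Nrm (fun v => (↑g⁻¹ : Matrix ι ι F) *ᵥ P v) i0 := by
    constructor
    · intro i
      exact ⟨(d i)⁻¹, inv_ne_zero (hdne i), hbasis i⟩
    · intro i hi
      obtain ⟨h3, h4, h5⟩ := hab i hi
      refine ⟨(ab i).1, h4, ?_⟩
      show (↑g⁻¹ : Matrix ι ι F) *ᵥ P (ee i0 + ee i) = _
      rw [h3, Matrix.mulVec_add, Matrix.mulVec_smul, Matrix.mulVec_smul, hbasis, hbasis, hd0,
        hdi i hi, inv_one, one_smul, smul_add, smul_smul]
      congr 2
      field_simp
  obtain ⟨σ0, hσ0⟩ := ftpg_normalized hP2 i0 i1 j1 hN h1 hj1 h1j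
  have hbij : Function.Bijective σ0 :=
    ⟨σ0.injective, Finite.injective_iff_surjective.mp σ0.injective⟩
  refine ⟨RingEquiv.ofBijective σ0 hbij, g, ?_⟩
  intro v hv
  obtain ⟨c, hc, hcv⟩ := hσ0 v hv
  refine ⟨c, hc, ?_⟩
  have h6 : P v = M *ᵥ ((↑g⁻¹ : Matrix ι ι F) *ᵥ P v) := by
    rw [Matrix.mulVec_mulVec, hMi', Matrix.one_mulVec]
  rw [h6]
  have h7 : (↑g⁻¹ : Matrix ι ι F) *ᵥ P v = c • (σ0 ∘ v) := hcv
  rw [h7, Matrix.mulVec_smul, hg]
  rfl

end part2

end Cfsg.Agent.helper14.FTPG
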