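import Mathlib

/-! Hilbert's Theorem 90 for `GL` with a general finite index type, over a field with an automorphism of finite order. -/

set_option autoImplicit false

namespace Cfsg.Agent.helper14.H90g

open Matrix

section h90
variable {κ : Type*} [Fintype κ] [DecidableEq κ] {F : Type*} [Field F]

/-- the twisted partial norms `d σ(d) ⋯ σ^{k-1}(d)` -/
def Pk (σ : F ≃+* F) (d : GL κ F) : ℕ → GL κ F
  | 0 => 1
  | k + 1 => d * Matrix.GeneralLinearGroup.map (σ : F →+* F) (Pk σ d k)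

theorem Pk_zero (σ : F ≃+* F) (d : GL κ F) : Pk σ d 0 = 1 := rfl

theorem Pk_succ (σ : F ≃+* F) (d : GL κ F) (k : ℕ) :
    Pk σ d (k + 1) = d * Matrix.GeneralLinearGroup.map (σ : F →+* F) (Pk σ d k) := rfl

theorem glmap_val (σ : F ≃+* F) (g : GL κ F) :
    ((Matrix.GeneralLinearGroup.map (σ : F →+* F) g : GL κ F) :
      Matrix κ κ F) = (g : Matrix κ κ F).map σ := rfl

theorem comp_mulVec (σ : F ≃+* F) (M : Matrix κ κ F) (v : κ → F) :
    σ ∘ (M *ᵥ v) = M.map σ *ᵥ (σ ∘ v) := by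
  funext i
  simp only [Function.comp_apply, Matrix.mulVec, dotProduct, map_sum, map_mul, Matrix.map_apply]

theorem pow_succ_comp (σ : F ≃+* F) (i : ℕ) (v : κ → F) :
    σ ∘ ((σ ^ i : F ≃+* F) ∘ v) = (σ ^ (i + 1) : F ≃+* F) ∘ v := by
  funext j
  rw [pow_succ']
  rfl

/-- the Poincaré series -/
noncomputable def bser (σ : F ≃+* F) (d : GL κ F) (r : ℕ) (v : κ → F) : κ → F :=
  ∑ i ∈ Finset.range r,
    ((Pk σ d i : GL κ F) : Matrix κ κ F) *ᵥ ((σ ^ i : F ≃+* F) ∘ v)

/-- the additive map `v ↦ d σ(v)` -/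
def twist (σ : F ≃+* F) (d : GL κ F) : (κ → F) →+ (κ → F) where
  toFun v := (d : Matrix κ κ F) *ᵥ (σ ∘ v)
  map_zero' := by
    have : σ ∘ (0 : κ → F) = 0 := by
      funext j
      exact map_zero σ
    rw [this, Matrix.mulVec_zero]
  map_add' v w := by
    have : σ ∘ (v + w) = σ ∘ v + σ ∘ w := by
      funext j
      exact map_add σ _ _
    rw [this, Matrix.mulVec_add]

theorem twist_apply (σ : F ≃+* F) (d : GL κ F) (v : κ → F) :
    twist σ d v = (d : Matrix κ κ F) *ᵥ (σ ∘ v) := rfl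

theorem twist_bser (σ : F ≃+* F) (d : GL κ F) (r : ℕ) (hσ : σ ^ r = 1)
    (hN : Pk σ d r = 1) (v : κ → F) : twist σ d (bser σ d r v) = bser σ d r v := by
  obtain ⟨g, hg⟩ : ∃ g : ℕ → (κ → F), ∀ i, g i =
      ((Pk σ d i : GL κ F) : Matrix κ κ F) *ᵥ ((σ ^ i : F ≃+* F) ∘ v) :=
    ⟨_, fun i => rfl⟩
  have h1 : ∀ i, twist σ d (g i) = g (i + 1) := by
    intro i
    rw [hg, hg, twist_apply, comp_mulVec, pow_succ_comp, Matrix.mulVec_mulVec, Pk_succ,
      Units.val_mul, glmap_val]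
  have hb : bser σ d r v = ∑ i ∈ Finset.range r, g i := by
    unfold bser
    exact Finset.sum_congr rfl (fun i _ => (hg i).symm)
  have hg0 : g 0 = v := by
    rw [hg, Pk_zero, Units.val_one, Matrix.one_mulVec, pow_zero]
    rfl
  have hgr : g r = v := by
    rw [hg, hN, Units.val_one, Matrix.one_mulVec, hσ]
    rfl
  rw [hb, map_sum]
  have h2 : ∑ i ∈ Finset.range r, twist σ d (g i) = ∑ i ∈ Finset.range r, g (i + 1) :=
    Finset.sum_congr rfl (fun i _ => h1 i)
  rw [h2]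
  have h3 := Finset.sum_range_succ' g r
  have h4 := Finset.sum_range_succ g r
  rw [h4, hgr, hg0] at h3
  exact (add_right_cancel h3).symm

theorem dedekind_pow (σ : F ≃+* F) (a : ℕ → F)
    (h : ∀ x : F, ∑ i ∈ Finset.range (orderOf σ), a i * (σ ^ i : F ≃+* F) x = 0) :
    ∀ i < orderOf σ, a i = 0 := by
  have hli := linearIndependent_monoidHom F F
  obtain ⟨ι, hι⟩ : ∃ ι : Fin (orderOf σ) → (F →* F),
      ∀ i x, ι i x = (σ ^ (i : ℕ) : F ≃+* F) x :=
    ⟨fun i => ((σ ^ (i : ℕ) : F ≃+* F) : F →+* F), fun i x => rfl⟩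
  have hinj : Function.Injective ι := by
    intro i j hij
    apply Fin.ext
    apply pow_injOn_Iio_orderOf (x := σ) i.2 j.2
    show σ ^ (i : ℕ) = σ ^ (j : ℕ)
    ext x
    rw [← hι, ← hι, hij]
  have hli' := hli.comp ι hinj
  rw [Fintype.linearIndependent_iff] at hli'
  intro i hi
  have hsum : ∑ j : Fin (orderOf σ), a (j : ℕ) • ((fun f : F →* F => (f : F → F)) ∘ ι) j = 0 := by
    funext x
    rw [Finset.sum_apply, Pi.zero_apply, ← h x, Finset.sum_range]
    apply Finset.sum_congr rfl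
    intro j _
    rw [Pi.smul_apply, smul_eq_mul, Function.comp_apply, hι]
  exact hli' (fun j => a (j : ℕ)) hsum ⟨i, hi⟩

theorem bser_smul (σ : F ≃+* F) (d : GL κ F) (r : ℕ) (c : F) (v : κ → F) :
    bser σ d r (c • v) = ∑ i ∈ Finset.range r, (σ ^ i : F ≃+* F) c •
      (((Pk σ d i : GL κ F) : Matrix κ κ F) *ᵥ ((σ ^ i : F ≃+* F) ∘ v)) := by
  unfold bser
  apply Finset.sum_congr rfl
  intro i _
  have : (σ ^ i : F ≃+* F) ∘ (c • v) = (σ ^ i : F ≃+* F) c • ((σ ^ i : F ≃+* F) ∘ v) := by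
    funext j
    simp only [Function.comp_apply, Pi.smul_apply, smul_eq_mul, map_mul]
  rw [this, Matrix.mulVec_smul]

theorem functional_bser (σ : F ≃+* F) (d : GL κ F) (hr : 0 < orderOf σ)
    (f : (κ → F) →ₗ[F] F) (hf : ∀ v, f (bser σ d (orderOf σ) v) = 0) : f = 0 := by
  apply LinearMap.ext
  intro v
  rw [LinearMap.zero_apply]
  have h1 : ∀ x : F, ∑ i ∈ Finset.range (orderOf σ),
      f (((Pk σ d i : GL κ F) : Matrix κ κ F) *ᵥ ((σ ^ i : F ≃+* F) ∘ v)) *
        (σ ^ i : F ≃+* F) x = 0 := by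
    intro x
    have h2 := hf (x • v)
    rw [bser_smul, map_sum] at h2
    rw [← h2]
    apply Finset.sum_congr rfl
    intro i _
    rw [map_smul, smul_eq_mul, mul_comm]
  have h3 := dedekind_pow σ _ h1 0 hr
  rw [Pk_zero, Units.val_one, Matrix.one_mulVec, pow_zero] at h3
  exact h3

theorem exists_indep_of_no_functional (S : Set (κ → F))
    (h : ∀ f : (κ → F) →ₗ[F] F, (∀ s ∈ S, f s = 0) → f = 0) :
    ∃ w : κ → (κ → F), (∀ j, w j ∈ S) ∧ LinearIndependent F w := by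
  have hspan : ⊤ ≤ Submodule.span F S := by
    by_contra hcon
    have hlt : Submodule.span F S < ⊤ := lt_of_le_of_ne le_top (fun h0 => hcon (h0 ▸ le_refl _))
    obtain ⟨f, hf0, hf⟩ := Submodule.exists_le_ker_of_lt_top _ hlt
    apply hf0
    apply h f
    intro s hs
    exact hf (Submodule.subset_span hs)
  obtain ⟨B, hB⟩ : ∃ B : Module.Basis _ F (κ → F), B = Module.Basis.ofSpan hspan := ⟨_, rfl⟩
  obtain ⟨e, -⟩ : ∃ e : κ ≃ _, e = (Pi.basisFun F κ).indexEquiv B := ⟨_, rfl⟩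
  refine ⟨fun j => B (e j), ?_, ?_⟩
  · intro j
    rw [hB]
    exact Module.Basis.ofSpan_subset hspan ⟨e j, rfl⟩
  · exact B.linearIndependent.comp e e.injective

theorem hilbert90 (σ : F ≃+* F) (d : GL κ F) (hr : 0 < orderOf σ)
    (hN : Pk σ d (orderOf σ) = 1) :
    ∃ h : GL κ F, d = h * (Matrix.GeneralLinearGroup.map (σ : F →+* F) h)⁻¹ := by
  have hσ : σ ^ orderOf σ = 1 := pow_orderOf_eq_one σ
  obtain ⟨w, hwS, hwli⟩ := exists_indep_of_no_functional
    (Set.range (bser σ d (orderOf σ))) (by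
      intro f hf
      apply functional_bser σ d hr f
      intro v
      exact hf _ ⟨v, rfl⟩)
  obtain ⟨B, hB⟩ : ∃ B : Matrix κ κ F, B = Matrix.of (fun i j => w j i) := ⟨_, rfl⟩
  have hcol : B.col = w := by
    funext j i
    rw [hB]
    rfl
  have hunit : IsUnit B := by
    rw [← Matrix.linearIndependent_cols_iff_isUnit, hcol]
    exact hwli
  obtain ⟨h, hh⟩ := hunit
  have hfix : (d : Matrix κ κ F) * B.map σ = B := by
    ext i j
    obtain ⟨v, hv⟩ := hwS j
    have h1 := twist_bser σ d (orderOf σ) hσ hN v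
    rw [hv, twist_apply] at h1
    have h2 := congrFun h1 i
    rw [Matrix.mul_apply]
    rw [← hcol] at h2
    simp only [Matrix.mulVec, dotProduct, Function.comp_apply] at h2
    exact h2
  refine ⟨h, ?_⟩
  rw [eq_mul_inv_iff_mul_eq]
  apply Units.ext
  rw [Units.val_mul, glmap_val, hh]
  exact hfix

end h90

end Cfsg.Agent.helper14.H90g
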