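import Mathlib
import Cfsg.Agent.Lib_helper14_H90g
import Cfsg.Agent.Lib_helper14_FieldConj

/-! Twisted norms in `GL` over a general finite index type: scalars, conjugates, and the fixed
scalar lemma. -/

set_option autoImplicit false

namespace Cfsg.Agent.helper14.H90g

open Matrix Cfsg.Agent.helper14

section scalars
variable {κ : Type*} [Fintype κ] [DecidableEq κ] {F : Type*} [Field F]

theorem Pk_scalar (σ : F ≃+* F) (e : Fˣ) (d : GL κ F) (k : ℕ) :
    Pk σ (Matrix.GeneralLinearGroup.scalar κ e * d) k =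
      Matrix.GeneralLinearGroup.scalar κ (Nk σ e k) * Pk σ d k := by
  induction k with
  | zero =>
    rw [Pk_zero, Pk_zero]
    show (1 : GL κ F) = Matrix.GeneralLinearGroup.scalar κ 1 * 1
    rw [map_one, one_mul]
  | succ k ih =>
    rw [Pk_succ, Pk_succ, ih, map_mul, Matrix.GeneralLinearGroup.map_scalar]
    show _ = Matrix.GeneralLinearGroup.scalar κ
      (e * Units.map ((σ : F →+* F) : F →* F) (Nk σ e k)) * _
    rw [map_mul]
    have hc := Matrix.GeneralLinearGroup.scalar_commute
      (Units.map ((σ : F →+* F) : F →* F) (Nk σ e k)) d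
    calc Matrix.GeneralLinearGroup.scalar κ e * d *
          (Matrix.GeneralLinearGroup.scalar κ
            (Units.map ((σ : F →+* F) : F →* F) (Nk σ e k)) *
            Matrix.GeneralLinearGroup.map (σ : F →+* F) (Pk σ d k))
        = Matrix.GeneralLinearGroup.scalar κ e *
          (d * Matrix.GeneralLinearGroup.scalar κ
            (Units.map ((σ : F →+* F) : F →* F) (Nk σ e k))) *
            Matrix.GeneralLinearGroup.map (σ : F →+* F) (Pk σ d k) := by group
      _ = _ := by
        rw [← hc]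
        group

/-- the conjugates `σ^k(d)` -/
def Qk (σ : F ≃+* F) (d : GL κ F) : ℕ → GL κ F
  | 0 => d
  | k + 1 => Matrix.GeneralLinearGroup.map (σ : F →+* F) (Qk σ d k)

theorem Qk_entry (σ : F ≃+* F) (d : GL κ F) (k : ℕ) (i j : κ) :
    ((Qk σ d k : GL κ F) : Matrix κ κ F) i j =
      (σ ^ k : F ≃+* F) ((d : Matrix κ κ F) i j) := by
  induction k with
  | zero => rfl
  | succ k ih =>
    show σ (((Qk σ d k : GL κ F) : Matrix κ κ F) i j) = _
    rw [ih, pow_succ']
    rfl

theorem Pk_succ' (σ : F ≃+* F) (d : GL κ F) (k : ℕ) :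
    Pk σ d (k + 1) = Pk σ d k * Qk σ d k := by
  induction k with
  | zero =>
    rw [Pk_succ, Pk_zero, map_one, mul_one, one_mul]
    rfl
  | succ k ih =>
    rw [Pk_succ, ih, map_mul, ← mul_assoc, ← Pk_succ, ih]
    rfl

theorem scalar_fixed (i0 : κ) (σ : F ≃+* F) (d : GL κ F) (r : ℕ) (hσ : σ ^ r = 1)
    (c : Fˣ) (hP : Pk σ d r = Matrix.GeneralLinearGroup.scalar κ c) : σ (c : F) = c := by
  have hQ : Qk σ d r = d := by
    apply Units.ext
    ext i j
    rw [Qk_entry, hσ]
    rfl
  have h1 : d * Matrix.GeneralLinearGroup.map (σ : F →+* F) (Pk σ d r) = Pk σ d r * d := by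
    rw [← Pk_succ, Pk_succ', hQ]
  rw [hP, Matrix.GeneralLinearGroup.map_scalar, ← Matrix.GeneralLinearGroup.scalar_commute] at h1
  have h2 := mul_right_cancel h1
  have h3 := congrArg (fun g : GL κ F => (g : Matrix κ κ F) i0 i0) h2
  simp only [Matrix.GeneralLinearGroup.coe_scalar, Matrix.scalar_apply,
    Matrix.diagonal_apply_eq] at h3
  exact h3

end scalars

end Cfsg.Agent.helper14.H90g
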