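import Mathlib

set_option autoImplicit false
universe u

/-! Jordan normal form of nilpotent endomorphisms and unipotent classes of GL_n (helper25). -/

namespace Cfsg.Agent.helper25.Jordan

section Model

variable {F : Type*} [Field F] {ι : Type*} (e : ι → ℕ)

/-- the model space: one block `Fin (e i) → F` for each `i` -/
abbrev Md (F : Type*) {ι : Type*} (e : ι → ℕ) : Type _ := (i : ι) → Fin (e i) → F

/-- shift by `k` on each block -/
def shk (k : ℕ) : Md F e →ₗ[F] Md F e where
  toFun c := fun i j => if h : k ≤ (j : ℕ) then c i ⟨(j : ℕ) - k, by have := j.2; omega⟩ else 0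
  map_add' := by
    intro c c'
    funext i j
    by_cases h : k ≤ (j : ℕ)
    · simp [h]
    · simp [h]
  map_smul' := by
    intro a c
    funext i j
    by_cases h : k ≤ (j : ℕ)
    · simp [h]
    · simp [h]

theorem shk_apply (k : ℕ) (c : Md F e) (i : ι) (j : Fin (e i)) :
    shk e k c i j = if h : k ≤ (j : ℕ) then c i ⟨(j : ℕ) - k, by have := j.2; omega⟩ else 0 := rfl

theorem shk_zero : shk (F := F) e 0 = LinearMap.id := by
  apply LinearMap.ext
  intro c
  funext i j
  rw [shk_apply, dif_pos (Nat.zero_le _)]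
  rfl

theorem shk_succ (k : ℕ) : shk (F := F) e (k + 1) = (shk e 1).comp (shk e k) := by
  apply LinearMap.ext
  intro c
  funext i j
  rw [LinearMap.comp_apply, shk_apply, shk_apply]
  by_cases h : k + 1 ≤ (j : ℕ)
  · have h1 : 1 ≤ (j : ℕ) := by omega
    rw [dif_pos h, dif_pos h1, shk_apply]
    have h2 : k ≤ (j : ℕ) - 1 := by omega
    rw [dif_pos h2]
    congr 1
    apply Fin.ext
    show (j : ℕ) - (k + 1) = (j : ℕ) - 1 - k
    omega
  · rw [dif_neg h]
    by_cases h1 : 1 ≤ (j : ℕ)
    · rw [dif_pos h1, shk_apply]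
      have h2 : ¬ k ≤ (j : ℕ) - 1 := by omega
      rw [dif_neg h2]
    · rw [dif_neg h1]

theorem shk_pow (k : ℕ) : (shk (F := F) e 1) ^ k = shk e k := by
  induction k with
  | zero => rw [pow_zero, shk_zero]; rfl
  | succ k ih =>
    rw [pow_succ', ih]
    exact (shk_succ e k).symm

/-- truncation -/
def trunc (k : ℕ) : Md F e →ₗ[F] Md F (fun i => e i - k) where
  toFun c := fun i j => c i ⟨(j : ℕ), by have h : (j : ℕ) < e i - k := j.2; omega⟩
  map_add' := by intro c c'; rfl
  map_smul' := by intro a c; rfl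

/-- extension by zero, shifted -/
def ext0 (k : ℕ) : Md F (fun i => e i - k) →ₗ[F] Md F e where
  toFun c := fun i j => if h : k ≤ (j : ℕ) then
    c i ⟨(j : ℕ) - k, by have := j.2; show (j : ℕ) - k < e i - k; omega⟩ else 0
  map_add' := by
    intro c c'
    funext i j
    by_cases h : k ≤ (j : ℕ)
    · simp [h]
    · simp [h]
  map_smul' := by
    intro a c
    funext i j
    by_cases h : k ≤ (j : ℕ)
    · simp [h]
    · simp [h]

theorem shk_eq_comp (k : ℕ) : shk (F := F) e k = (ext0 e k).comp (trunc e k) := by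
  apply LinearMap.ext
  intro c
  funext i j
  rfl

theorem trunc_surjective (k : ℕ) : Function.Surjective (trunc (F := F) e k) := by
  intro c'
  refine ⟨fun i j => if h : (j : ℕ) < e i - k then c' i ⟨j, h⟩ else 0, ?_⟩
  funext i j
  show (if h : (j : ℕ) < e i - k then c' i ⟨j, h⟩ else 0) = c' i j
  rw [dif_pos j.2]

theorem ext0_injective (k : ℕ) : Function.Injective (ext0 (F := F) e k) := by
  rw [← LinearMap.ker_eq_bot, LinearMap.ker_eq_bot']
  intro c hc
  funext i j
  have hj : (j : ℕ) < e i - k := j.2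
  have h1 := congrFun (congrFun hc i) ⟨(j : ℕ) + k, by omega⟩
  have h2 : k ≤ (j : ℕ) + k := by omega
  have h3 : ext0 e k c i ⟨(j : ℕ) + k, by omega⟩ = c i j := by
    show (if h : k ≤ (j : ℕ) + k then c i ⟨(j : ℕ) + k - k, _⟩ else 0) = c i j
    rw [dif_pos h2]
    congr 1
    apply Fin.ext
    show (j : ℕ) + k - k = j
    omega
  rw [h3] at h1
  exact h1

theorem finrank_range_shk [Fintype ι] (k : ℕ) :
    Module.finrank F (LinearMap.range (shk (F := F) e k)) = ∑ i, (e i - k) := by
  rw [shk_eq_comp, LinearMap.range_comp_of_range_eq_top _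
    (LinearMap.range_eq_top.mpr (trunc_surjective e k)),
    LinearMap.finrank_range_of_inj (ext0_injective e k)]
  rw [Module.finrank_pi_fintype]
  simp

end Model

end Cfsg.Agent.helper25.Jordan

namespace Cfsg.Agent.helper25.Jordan

section Exist

variable {F : Type*} [Field F] {V : Type u} [AddCommGroup V] [Module F V]

theorem pow_apply_add (f : Module.End F V) (a b : ℕ) (v : V) :
    (f ^ a) ((f ^ b) v) = (f ^ (a + b)) v := by
  rw [pow_add]
  rfl

/-- the chain map `c ↦ ∑ c j • f^j v` -/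
def chainMap (f : Module.End F V) (v : V) (m : ℕ) : (Fin m → F) →ₗ[F] V where
  toFun c := ∑ j : Fin m, c j • (f ^ (j : ℕ)) v
  map_add' := by
    intro c c'
    simp [add_smul, Finset.sum_add_distrib]
  map_smul' := by
    intro a c
    simp [mul_smul, Finset.smul_sum]

theorem chainMap_apply (f : Module.End F V) (v : V) (m : ℕ) (c : Fin m → F) :
    chainMap f v m c = ∑ j : Fin m, c j • (f ^ (j : ℕ)) v := rfl

/-- the test map `x ↦ (ℓ (f^k x))_k` -/
def testMap (f : Module.End F V) (ℓ : V →ₗ[F] F) (m : ℕ) : V →ₗ[F] (Fin m → F) where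
  toFun x := fun k => ℓ ((f ^ (k : ℕ)) x)
  map_add' := by
    intro x y
    funext k
    simp
  map_smul' := by
    intro a x
    funext k
    simp

theorem testMap_apply (f : Module.End F V) (ℓ : V →ₗ[F] F) (m : ℕ) (x : V) (k : Fin m) :
    testMap f ℓ m x k = ℓ ((f ^ (k : ℕ)) x) := rfl

theorem chain_inj (f : Module.End F V) (v : V) (m : ℕ) (ℓ : V →ₗ[F] F) (hm : (f ^ m) v = 0)
    (hℓ : ℓ ((f ^ (m - 1)) v) ≠ 0) (c : Fin m → F)
    (h : testMap f ℓ m (chainMap f v m c) = 0) : c = 0 := by
  have key : ∀ j : ℕ, ∀ hj : j < m, c ⟨j, hj⟩ = 0 := by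
    intro j
    induction j using Nat.strong_induction_on with
    | _ j ih =>
    intro hj
    have h1 := congrFun h ⟨m - 1 - j, by omega⟩
    rw [testMap_apply, chainMap_apply, map_sum, map_sum] at h1
    rw [Finset.sum_eq_single ⟨j, hj⟩] at h1
    · rw [map_smul, map_smul, smul_eq_mul, pow_apply_add] at h1
      have e1 : m - 1 - j + j = m - 1 := by omega
      simp only [e1] at h1
      exact (mul_eq_zero.mp h1).resolve_right hℓ
    · intro i _ hij
      by_cases hlt : (i : ℕ) < j
      · have := ih i hlt i.2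
        rw [show (⟨(i : ℕ), i.2⟩ : Fin m) = i from rfl] at this
        rw [this, zero_smul, map_zero, map_zero]
      · have hgt : j < (i : ℕ) := by
          have : (i : ℕ) ≠ j := fun h' => hij (Fin.ext h')
          omega
        rw [map_smul, pow_apply_add]
        have e2 : m - 1 - j + (i : ℕ) = (m - 1 - j + (i : ℕ) - m) + m := by omega
        rw [e2, ← pow_apply_add, hm, map_zero, smul_zero, map_zero]
    · intro h'
      exact absurd (Finset.mem_univ _) h'
  funext i
  exact key i i.2

/-- single block shift -/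
def sh1 (m : ℕ) : (Fin m → F) →ₗ[F] (Fin m → F) where
  toFun c := fun j => if h : 1 ≤ (j : ℕ) then c ⟨(j : ℕ) - 1, by have := j.2; omega⟩ else 0
  map_add' := by
    intro c c'
    funext j
    by_cases h : 1 ≤ (j : ℕ)
    · simp [h]
    · simp [h]
  map_smul' := by
    intro a c
    funext j
    by_cases h : 1 ≤ (j : ℕ)
    · simp [h]
    · simp [h]

theorem sh1_apply (m : ℕ) (c : Fin m → F) (j : Fin m) :
    sh1 m c j = if h : 1 ≤ (j : ℕ) then c ⟨(j : ℕ) - 1, by have := j.2; omega⟩ else 0 := rfl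

theorem f_chainMap (f : Module.End F V) (v : V) (m : ℕ) (hm : (f ^ m) v = 0) (c : Fin m → F) :
    f (chainMap f v m c) = chainMap f v m (sh1 m c) := by
  cases m with
  | zero => simp [chainMap_apply]
  | succ m' =>
    rw [chainMap_apply, chainMap_apply, map_sum, Fin.sum_univ_castSucc, Fin.sum_univ_succ]
    have e0 : sh1 (m' + 1) c 0 = 0 := by
      rw [sh1_apply, dif_neg]
      simp
    have elast : f (c (Fin.last m') • (f ^ ((Fin.last m' : Fin (m' + 1)) : ℕ)) v) = 0 := by
      rw [map_smul]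
      have : f ((f ^ ((Fin.last m' : Fin (m' + 1)) : ℕ)) v) = (f ^ (m' + 1)) v := by
        rw [Fin.val_last, pow_succ']
        rfl
      rw [this, hm, smul_zero]
    rw [e0, zero_smul, zero_add, elast, add_zero]
    refine Finset.sum_congr rfl fun j _ => ?_
    rw [map_smul]
    have e1 : sh1 (m' + 1) c j.succ = c j.castSucc := by
      rw [sh1_apply, dif_pos (by simp)]
      congr 1
    have e2 : f ((f ^ ((j.castSucc : Fin (m' + 1)) : ℕ)) v) = (f ^ ((j.succ : Fin (m' + 1)) : ℕ)) v := by
      rw [Fin.val_succ, Fin.val_castSucc, pow_succ']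
      rfl
    rw [e1, e2]

/-- the splitting map `(c, z) ↦ chainMap c + z` -/
def splitMap (f : Module.End F V) (v : V) (m : ℕ) (ℓ : V →ₗ[F] F) :
    ((Fin m → F) × LinearMap.ker (testMap f ℓ m)) →ₗ[F] V :=
  (chainMap f v m).coprod (LinearMap.ker (testMap f ℓ m)).subtype

theorem splitMap_apply (f : Module.End F V) (v : V) (m : ℕ) (ℓ : V →ₗ[F] F)
    (c : Fin m → F) (z : LinearMap.ker (testMap f ℓ m)) :
    splitMap f v m ℓ (c, z) = chainMap f v m c + (z : V) := by
  simp [splitMap]

theorem splitMap_bijective (f : Module.End F V) (v : V) (m : ℕ) (ℓ : V →ₗ[F] F)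
    (hm : (f ^ m) v = 0) (hℓ : ℓ ((f ^ (m - 1)) v) ≠ 0) :
    Function.Bijective (splitMap f v m ℓ) := by
  have hAinj : Function.Injective ((testMap f ℓ m).comp (chainMap f v m)) := by
    rw [← LinearMap.ker_eq_bot, LinearMap.ker_eq_bot']
    intro c hc
    exact chain_inj f v m ℓ hm hℓ c hc
  have hAsurj : Function.Surjective ((testMap f ℓ m).comp (chainMap f v m)) :=
    LinearMap.injective_iff_surjective.mp hAinj
  constructor
  · rw [← LinearMap.ker_eq_bot, LinearMap.ker_eq_bot']
    rintro ⟨c, z⟩ h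
    rw [splitMap_apply] at h
    have h1 : testMap f ℓ m (chainMap f v m c + (z : V)) = 0 := by rw [h, map_zero]
    rw [map_add, LinearMap.mem_ker.mp z.2, add_zero] at h1
    have hc : c = 0 := chain_inj f v m ℓ hm hℓ c h1
    subst hc
    rw [map_zero, zero_add] at h
    have hz : z = 0 := Subtype.ext h
    rw [hz]
    rfl
  · intro x
    obtain ⟨c, hc⟩ := hAsurj (testMap f ℓ m x)
    have hz : x - chainMap f v m c ∈ LinearMap.ker (testMap f ℓ m) := by
      rw [LinearMap.mem_ker, map_sub]
      rw [LinearMap.comp_apply] at hc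
      rw [hc, sub_self]
    refine ⟨(c, ⟨x - chainMap f v m c, hz⟩), ?_⟩
    rw [splitMap_apply]
    simp

theorem ker_testMap_invariant (f : Module.End F V) (m : ℕ) (ℓ : V →ₗ[F] F) (hfm : f ^ m = 0) :
    ∀ z ∈ LinearMap.ker (testMap f ℓ m), f z ∈ LinearMap.ker (testMap f ℓ m) := by
  intro z hz
  rw [LinearMap.mem_ker] at hz ⊢
  funext k
  rw [testMap_apply]
  have e1 : (f ^ (k : ℕ)) (f z) = (f ^ ((k : ℕ) + 1)) z := by
    rw [pow_succ]
    rfl
  rw [e1]
  by_cases hk : (k : ℕ) + 1 < m
  · have := congrFun hz ⟨(k : ℕ) + 1, hk⟩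
    rw [testMap_apply] at this
    exact this
  · have hk' : (k : ℕ) + 1 = m := by
      have := k.2
      omega
    rw [hk', hfm]
    simp

theorem coe_pow_restrict (f : Module.End F V) (W : Submodule F V) (h : ∀ z ∈ W, f z ∈ W)
    (k : ℕ) (z : W) : ((((f.restrict h : Module.End F W) ^ k) z : W) : V) = (f ^ k) (z : V) := by
  induction k generalizing z with
  | zero => rfl
  | succ k ih =>
    rw [pow_succ, pow_succ]
    show ((((f.restrict h : Module.End F W) ^ k) ((f.restrict h) z) : W) : V) = (f ^ k) (f (z : V))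
    rw [ih]
    rfl

theorem exists_model :
    ∀ (d : ℕ) (V : Type u) [AddCommGroup V] [Module F V] [FiniteDimensional F V]
      (f : Module.End F V), IsNilpotent f → Module.finrank F V = d →
      ∃ (ι : Type) (_ : Fintype ι) (e : ι → ℕ) (φ : V ≃ₗ[F] Md F e),
        (∀ i, 1 ≤ e i) ∧ ∀ x, φ (f x) = shk e 1 (φ x) := by
  intro d
  induction d using Nat.strong_induction_on with
  | _ d ih =>
  intro V _ _ _ f hf hd
  by_cases hd0 : d = 0
  · -- trivial space
    have hsub : Subsingleton V := by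
      rw [← Module.finrank_zero_iff (R := F)]
      rw [hd, hd0]
    refine ⟨Empty, inferInstance, fun i => i.elim, LinearEquiv.ofSubsingleton V _, fun i => i.elim, ?_⟩
    intro x
    apply Subsingleton.elim
  · have hnt : Nontrivial V := by
      rw [← Module.finrank_pos_iff (R := F)]
      omega
    classical
    obtain ⟨k0, hk0⟩ := hf
    have hex : ∃ k, f ^ k = 0 := ⟨k0, hk0⟩
    have hfm : f ^ Nat.find hex = 0 := Nat.find_spec hex
    have hm1 : 1 ≤ Nat.find hex := by
      by_contra hlt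
      have h0 : Nat.find hex = 0 := by omega
      rw [h0, pow_zero] at hfm
      obtain ⟨x, hx⟩ := exists_ne (0 : V)
      apply hx
      have := congrArg (fun g : Module.End F V => g x) hfm
      exact this
    have hne : f ^ (Nat.find hex - 1) ≠ 0 := Nat.find_min hex (by omega)
    obtain ⟨v, hv⟩ : ∃ v, (f ^ (Nat.find hex - 1)) v ≠ 0 := by
      by_contra hall
      push Not at hall
      exact hne (LinearMap.ext hall)
    obtain ⟨ℓ, hℓ⟩ := Module.Projective.exists_dual_ne_zero F hv
    have hmv : (f ^ Nat.find hex) v = 0 := by rw [hfm]; rfl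
    have hbij := splitMap_bijective f v (Nat.find hex) ℓ hmv hℓ
    have hinv := ker_testMap_invariant f (Nat.find hex) ℓ hfm
    -- dimension
    have hdim : Module.finrank F V =
        Nat.find hex + Module.finrank F (LinearMap.ker (testMap f ℓ (Nat.find hex))) := by
      rw [← (LinearEquiv.ofBijective _ hbij).finrank_eq, Module.finrank_prod,
        Module.finrank_fin_fun]
    have hlt : Module.finrank F (LinearMap.ker (testMap f ℓ (Nat.find hex))) < d := by omega
    have hnil : IsNilpotent (f.restrict hinv : Module.End F (LinearMap.ker (testMap f ℓ (Nat.find hex)))) := by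
      refine ⟨Nat.find hex, ?_⟩
      apply LinearMap.ext
      intro z
      apply Subtype.ext
      rw [coe_pow_restrict, hfm]
      rfl
    obtain ⟨ι', hι', e', φ', he', hφ'⟩ := ih _ hlt _ (f.restrict hinv) hnil rfl
    obtain ⟨Φ, hΦn, hΦs⟩ : ∃ Φ : V ≃ₗ[F] Md F (fun s : Option ι' => Option.elim s (Nat.find hex) e'),
        (∀ y : (Fin (Nat.find hex) → F) × LinearMap.ker (testMap f ℓ (Nat.find hex)),
          Φ (splitMap f v (Nat.find hex) ℓ y) none = y.1) ∧
        (∀ (y : (Fin (Nat.find hex) → F) × LinearMap.ker (testMap f ℓ (Nat.find hex))) (i : ι'),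
          Φ (splitMap f v (Nat.find hex) ℓ y) (some i) = φ' y.2 i) := by
      have hsymm : ∀ y, (LinearEquiv.ofBijective _ hbij).symm (splitMap f v (Nat.find hex) ℓ y) = y := by
        intro y
        exact (LinearEquiv.ofBijective _ hbij).symm_apply_apply y
      refine ⟨(LinearEquiv.ofBijective _ hbij).symm ≪≫ₗ
        (LinearEquiv.prodCongr (LinearEquiv.refl F (Fin (Nat.find hex) → F)) φ') ≪≫ₗ
        (LinearEquiv.piOptionEquivProd F
          (M := fun s => Fin (Option.elim s (Nat.find hex) e') → F)).symm, ?_, ?_⟩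
      · intro y
        show (LinearEquiv.piOptionEquivProd F
          (M := fun s => Fin (Option.elim s (Nat.find hex) e') → F)).symm
          ((LinearEquiv.prodCongr (LinearEquiv.refl F (Fin (Nat.find hex) → F)) φ')
            ((LinearEquiv.ofBijective _ hbij).symm (splitMap f v (Nat.find hex) ℓ y))) none = y.1
        rw [hsymm]
        rfl
      · intro y i
        show (LinearEquiv.piOptionEquivProd F
          (M := fun s => Fin (Option.elim s (Nat.find hex) e') → F)).symm
          ((LinearEquiv.prodCongr (LinearEquiv.refl F (Fin (Nat.find hex) → F)) φ')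
            ((LinearEquiv.ofBijective _ hbij).symm (splitMap f v (Nat.find hex) ℓ y))) (some i) = φ' y.2 i
        rw [hsymm]
        rfl
    refine ⟨Option ι', inferInstance, fun s => Option.elim s (Nat.find hex) e', Φ, ?_, ?_⟩
    · intro s
      cases s with
      | none => exact hm1
      | some i => exact he' i
    · intro x
      obtain ⟨⟨c, z⟩, rfl⟩ := hbij.2 x
      have hf1 : f (splitMap f v (Nat.find hex) ℓ (c, z)) =
          splitMap f v (Nat.find hex) ℓ (sh1 _ c, (f.restrict hinv) z) := by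
        rw [splitMap_apply, splitMap_apply, map_add, f_chainMap f v _ hmv]
        rfl
      rw [hf1]
      funext s
      cases s with
      | none =>
        rw [hΦn]
        funext j
        show sh1 _ c j = if h : 1 ≤ (j : ℕ) then
          (Φ (splitMap f v (Nat.find hex) ℓ (c, z)) none) ⟨(j : ℕ) - 1, by
            have := j.2
            show (j : ℕ) - 1 < Nat.find hex
            omega⟩ else 0
        rw [hΦn]
        rfl
      | some i =>
        rw [hΦs]
        funext j
        show φ' ((f.restrict hinv) z) i j = if h : 1 ≤ (j : ℕ) then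
          (Φ (splitMap f v (Nat.find hex) ℓ (c, z)) (some i)) ⟨(j : ℕ) - 1, by
            have := j.2
            show (j : ℕ) - 1 < e' i
            omega⟩ else 0
        rw [hΦs, hφ']
        rfl

end Exist

end Cfsg.Agent.helper25.Jordan

namespace Cfsg.Agent.helper25.Jordan

section Ranks

variable {F : Type*} [Field F] {V : Type u} [AddCommGroup V] [Module F V]

theorem model_pow {ι : Type*} (e : ι → ℕ) (f : Module.End F V) (φ : V ≃ₗ[F] Md F e)
    (hφ : ∀ x, φ (f x) = shk e 1 (φ x)) (k : ℕ) (x : V) : φ ((f ^ k) x) = shk e k (φ x) := by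
  induction k generalizing x with
  | zero =>
    rw [shk_zero]
    rfl
  | succ k ih =>
    rw [pow_succ', shk_succ]
    show φ (f ((f ^ k) x)) = shk e 1 (shk e k (φ x))
    rw [hφ, ih]

theorem finrank_range_pow {ι : Type*} [Fintype ι] (e : ι → ℕ) (f : Module.End F V)
    (φ : V ≃ₗ[F] Md F e) (hφ : ∀ x, φ (f x) = shk e 1 (φ x)) (k : ℕ) :
    Module.finrank F (LinearMap.range (f ^ k)) = ∑ i, (e i - k) := by
  have h : f ^ k = (φ.symm : Md F e →ₗ[F] V) ∘ₗ (shk e k) ∘ₗ (φ : V →ₗ[F] Md F e) := by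
    apply LinearMap.ext
    intro x
    show (f ^ k) x = φ.symm (shk e k (φ x))
    rw [← model_pow e f φ hφ k x, LinearEquiv.symm_apply_apply]
  rw [h, LinearMap.range_comp, LinearMap.range_comp_of_range_eq_top _ (LinearEquiv.range φ)]
  rw [← finrank_range_shk (F := F) e k]
  exact LinearEquiv.finrank_map_eq φ.symm _

end Ranks

section Multisets

theorem sum_sub_step (s : Multiset ℕ) (k : ℕ) :
    (s.map (fun x => x - k)).sum
      = (s.map (fun x => x - (k + 1))).sum + (s.filter (fun x => k < x)).card := by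
  induction s using Multiset.induction_on with
  | empty => simp
  | cons a s ih =>
    rw [Multiset.map_cons, Multiset.sum_cons, Multiset.map_cons, Multiset.sum_cons, ih]
    by_cases h : k < a
    · rw [Multiset.filter_cons_of_pos (p := fun x => k < x) _ h, Multiset.card_cons]
      omega
    · rw [Multiset.filter_cons_of_neg (p := fun x => k < x) _ h]
      omega

theorem card_filter_step (s : Multiset ℕ) (k : ℕ) :
    (s.filter (fun x => k < x)).card
      = (s.filter (fun x => k + 1 < x)).card + s.count (k + 1) := by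
  induction s using Multiset.induction_on with
  | empty => simp
  | cons a s ih =>
    by_cases h : k < a
    · rw [Multiset.filter_cons_of_pos (p := fun x => k < x) _ h, Multiset.card_cons, ih]
      by_cases h2 : k + 1 < a
      · rw [Multiset.filter_cons_of_pos (p := fun x => k + 1 < x) _ h2, Multiset.card_cons,
          Multiset.count_cons_of_ne (by omega)]
        omega
      · have h3 : a = k + 1 := by omega
        rw [Multiset.filter_cons_of_neg (p := fun x => k + 1 < x) _ h2, h3,
          Multiset.count_cons_self]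
        omega
    · have h2 : ¬ k + 1 < a := by omega
      rw [Multiset.filter_cons_of_neg (p := fun x => k < x) _ h,
        Multiset.filter_cons_of_neg (p := fun x => k + 1 < x) _ h2,
        Multiset.count_cons_of_ne (by omega), ih]

theorem multiset_eq_of_sums (s t : Multiset ℕ) (hs : 0 ∉ s) (ht : 0 ∉ t)
    (h : ∀ k, (s.map (fun x => x - k)).sum = (t.map (fun x => x - k)).sum) : s = t := by
  have hG : ∀ k, (s.filter (fun x => k < x)).card = (t.filter (fun x => k < x)).card := by
    intro k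
    have h1 := sum_sub_step s k
    have h2 := sum_sub_step t k
    have h3 := h k
    have h4 := h (k + 1)
    omega
  ext a
  cases a with
  | zero => rw [Multiset.count_eq_zero_of_notMem hs, Multiset.count_eq_zero_of_notMem ht]
  | succ k =>
    have h1 := card_filter_step s k
    have h2 := card_filter_step t k
    have h3 := hG k
    have h4 := hG (k + 1)
    omega

end Multisets

end Cfsg.Agent.helper25.Jordan

namespace Cfsg.Agent.helper25.Jordan

section Reindex

theorem card_fiber_eq_count {κ : Type*} [Fintype κ] (d : κ → ℕ) (a : ℕ) :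
    Fintype.card {i // d i = a} = Multiset.count a (Finset.univ.val.map d) := by
  classical
  rw [Multiset.count_map, Fintype.card_subtype]
  show (Finset.univ.filter (fun i => d i = a)).val.card = _
  rw [Finset.filter_val]
  congr 1
  apply Multiset.filter_congr
  intro x _
  exact eq_comm

theorem exists_reindex {ι ι' : Type*} [Fintype ι] [Fintype ι'] (e : ι → ℕ) (e' : ι' → ℕ)
    (h : Finset.univ.val.map e = Finset.univ.val.map e') :
    ∃ σ : ι ≃ ι', ∀ i, e' (σ i) = e i := by
  classical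
  have hc : ∀ a : ℕ, Fintype.card {i // e i = a} = Fintype.card {i' // e' i' = a} := by
    intro a
    rw [card_fiber_eq_count e a, card_fiber_eq_count e' a, h]
  let eqv : ∀ a, {i // e i = a} ≃ {i' // e' i' = a} := fun a => Fintype.equivOfCardEq (hc a)
  refine ⟨(Equiv.sigmaFiberEquiv e).symm.trans
    ((Equiv.sigmaCongrRight eqv).trans (Equiv.sigmaFiberEquiv e')), ?_⟩
  intro i
  exact ((eqv (e i)) ⟨i, rfl⟩).2

variable {F : Type*} [Field F] {ι ι' : Type*} (e : ι → ℕ) (e' : ι' → ℕ)

/-- reindexing of the model space -/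
def reidx (σ : ι ≃ ι') (h : ∀ i, e' (σ i) = e i) : Md F e' →ₗ[F] Md F e where
  toFun c' := fun i j => c' (σ i) (Fin.cast (h i).symm j)
  map_add' := by intro c c'; rfl
  map_smul' := by intro a c; rfl

theorem reidx_shk (σ : ι ≃ ι') (h : ∀ i, e' (σ i) = e i) (k : ℕ) (c' : Md F e') :
    reidx e e' σ h (shk e' k c') = shk e k (reidx e e' σ h c') := by
  funext i j
  show shk e' k c' (σ i) (Fin.cast (h i).symm j) = shk e k (reidx e e' σ h c') i j
  rw [shk_apply, shk_apply]
  by_cases hk : k ≤ (j : ℕ)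
  · have hk' : k ≤ ((Fin.cast (h i).symm j : Fin (e' (σ i))) : ℕ) := hk
    rw [dif_pos hk, dif_pos hk']
    rfl
  · have hk' : ¬ k ≤ ((Fin.cast (h i).symm j : Fin (e' (σ i))) : ℕ) := hk
    rw [dif_neg hk, dif_neg hk']

omit [Field F] in
theorem dep_congr (c' : Md F e') (i₁ i₂ : ι') (hi : i₁ = i₂) (j₁ : Fin (e' i₁)) (j₂ : Fin (e' i₂))
    (hj : (j₁ : ℕ) = (j₂ : ℕ)) : c' i₁ j₁ = c' i₂ j₂ := by
  subst hi
  have : j₁ = j₂ := Fin.ext hj
  rw [this]

theorem reidx_injective (σ : ι ≃ ι') (h : ∀ i, e' (σ i) = e i) :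
    Function.Injective (reidx (F := F) e e' σ h) := by
  rw [← LinearMap.ker_eq_bot, LinearMap.ker_eq_bot']
  intro c' hc
  funext i' j'
  have h1 : e (σ.symm i') = e' i' := by rw [← h, Equiv.apply_symm_apply]
  have h2 := congrFun (congrFun hc (σ.symm i')) (Fin.cast h1.symm j')
  have h3 : reidx e e' σ h c' (σ.symm i') (Fin.cast h1.symm j') = c' i' j' := by
    show c' (σ (σ.symm i')) _ = c' i' j'
    apply dep_congr e' c' _ _ (Equiv.apply_symm_apply σ i')
    rfl
  rw [h3] at h2
  exact h2

theorem finrank_Md [Fintype ι] : Module.finrank F (Md F e) = ∑ i, e i := by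
  rw [Module.finrank_pi_fintype]
  simp

theorem exists_reidx_equiv [Fintype ι] [Fintype ι']
    (h : Finset.univ.val.map e = Finset.univ.val.map e') :
    ∃ ψ : Md F e' ≃ₗ[F] Md F e, ∀ k c', ψ (shk e' k c') = shk e k (ψ c') := by
  obtain ⟨σ, hσ⟩ := exists_reindex e e' h
  have hfr : Module.finrank F (Md F e') = Module.finrank F (Md F e) := by
    rw [finrank_Md, finrank_Md, ← Equiv.sum_comp σ e']
    exact Finset.sum_congr rfl (fun i _ => hσ i)
  refine ⟨LinearMap.linearEquivOfInjective (reidx e e' σ hσ) (reidx_injective e e' σ hσ) hfr, ?_⟩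
  intro k c'
  exact reidx_shk e e' σ hσ k c'

end Reindex

section Uniq

variable {F : Type*} [Field F] {V : Type u} [AddCommGroup V] [Module F V]

theorem model_unique {ι ι' : Type*} [Fintype ι] [Fintype ι'] (e : ι → ℕ) (e' : ι' → ℕ)
    (f : Module.End F V) (φ : V ≃ₗ[F] Md F e) (hφ : ∀ x, φ (f x) = shk e 1 (φ x))
    (φ' : V ≃ₗ[F] Md F e') (hφ' : ∀ x, φ' (f x) = shk e' 1 (φ' x))
    (he : ∀ i, 1 ≤ e i) (he' : ∀ i, 1 ≤ e' i) :
    Finset.univ.val.map e = Finset.univ.val.map e' := by
  apply multiset_eq_of_sums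
  · intro h0
    obtain ⟨i, _, hi⟩ := Multiset.mem_map.mp h0
    have := he i
    omega
  · intro h0
    obtain ⟨i, _, hi⟩ := Multiset.mem_map.mp h0
    have := he' i
    omega
  · intro k
    rw [Multiset.map_map, Multiset.map_map]
    have h1 := finrank_range_pow e f φ hφ k
    have h2 := finrank_range_pow e' f φ' hφ' k
    rw [h1] at h2
    exact h2

theorem exists_intertwiner {V' : Type u} [AddCommGroup V'] [Module F V']
    {ι ι' : Type*} [Fintype ι] [Fintype ι'] (e : ι → ℕ) (e' : ι' → ℕ)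
    (f : Module.End F V) (φ : V ≃ₗ[F] Md F e) (hφ : ∀ x, φ (f x) = shk e 1 (φ x))
    (f' : Module.End F V') (φ' : V' ≃ₗ[F] Md F e') (hφ' : ∀ x, φ' (f' x) = shk e' 1 (φ' x))
    (h : Finset.univ.val.map e = Finset.univ.val.map e') :
    ∃ χ : V ≃ₗ[F] V', ∀ x, χ (f x) = f' (χ x) := by
  obtain ⟨ψ, hψ⟩ := exists_reidx_equiv (F := F) e e' h
  refine ⟨(φ.trans ψ.symm).trans φ'.symm, ?_⟩
  intro x
  show φ'.symm (ψ.symm (φ (f x))) = f' (φ'.symm (ψ.symm (φ x)))
  apply φ'.injective
  rw [LinearEquiv.apply_symm_apply, hφ', LinearEquiv.apply_symm_apply, hφ]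
  apply ψ.injective
  rw [LinearEquiv.apply_symm_apply, hψ, LinearEquiv.apply_symm_apply]

end Uniq

end Cfsg.Agent.helper25.Jordan

namespace Cfsg.Agent.helper25.Jordan

section CharP

open Polynomial

theorem sub_one_pow_char_pow {F : Type*} [Field F] (p : ℕ) [Fact p.Prime] [CharP F p]
    {A : Type*} [Ring A] [Algebra F A] (M : A) (k : ℕ) :
    (M - 1) ^ (p ^ k) = M ^ (p ^ k) - 1 := by
  have h : ((X : F[X]) - 1) ^ (p ^ k) = X ^ (p ^ k) - 1 := by
    rw [sub_pow_char_pow, one_pow]
  have h2 := congrArg (Polynomial.aeval M) h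
  simpa using h2

end CharP

section GLpart

variable {F : Type u} [Field F] {n : ℕ}

/-- the endomorphism `g - 1` -/
noncomputable def Nlin (g : Matrix.GeneralLinearGroup (Fin n) F) : Module.End F (Fin n → F) :=
  Matrix.toLinAlgEquiv' (g.val - 1)

theorem Nlin_pow (g : Matrix.GeneralLinearGroup (Fin n) F) (k : ℕ) :
    Nlin g ^ k = Matrix.toLinAlgEquiv' ((g.val - 1) ^ k) := by
  unfold Nlin
  rw [map_pow]

/-- `g - 1` has Jordan type `s` -/
def HasType (g : Matrix.GeneralLinearGroup (Fin n) F) (s : Multiset ℕ) : Prop :=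
  ∃ (ι : Type) (_ : Fintype ι) (e : ι → ℕ) (φ : (Fin n → F) ≃ₗ[F] Md F e),
    (∀ i, 1 ≤ e i) ∧ (∀ x, φ (Nlin g x) = shk e 1 (φ x)) ∧ Finset.univ.val.map e = s

theorem hasType_pos {g : Matrix.GeneralLinearGroup (Fin n) F} {s : Multiset ℕ}
    (h : HasType g s) : ∀ a ∈ s, 0 < a := by
  obtain ⟨ι, _, e, φ, he, hφ, rfl⟩ := h
  intro a ha
  obtain ⟨i, _, rfl⟩ := Multiset.mem_map.mp ha
  exact he i

theorem hasType_sum {g : Matrix.GeneralLinearGroup (Fin n) F} {s : Multiset ℕ}
    (h : HasType g s) : s.sum = n := by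
  obtain ⟨ι, _, e, φ, he, hφ, rfl⟩ := h
  have h1 : Module.finrank F (Fin n → F) = Module.finrank F (Md F e) := φ.finrank_eq
  rw [Module.finrank_fin_fun, finrank_Md] at h1
  rw [h1]
  rfl

theorem exists_hasType (g : Matrix.GeneralLinearGroup (Fin n) F) (hg : IsNilpotent (g.val - 1)) :
    ∃ μ : Nat.Partition n, HasType g μ.parts := by
  have hnil : IsNilpotent (Nlin g) := by
    unfold Nlin
    exact hg.map _
  obtain ⟨ι, hι, e, φ, he, hφ⟩ := exists_model n (Fin n → F) (Nlin g) hnil
    (Module.finrank_fin_fun F)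
  have hT : HasType g (Finset.univ.val.map e) := ⟨ι, hι, e, φ, he, hφ, rfl⟩
  exact ⟨⟨Finset.univ.val.map e, fun {i} hi => hasType_pos hT i hi, hasType_sum hT⟩, hT⟩

theorem hasType_unique {g : Matrix.GeneralLinearGroup (Fin n) F} {s s' : Multiset ℕ}
    (h : HasType g s) (h' : HasType g s') : s = s' := by
  obtain ⟨ι, _, e, φ, he, hφ, rfl⟩ := h
  obtain ⟨ι', _, e', φ', he', hφ', rfl⟩ := h'
  exact model_unique e e' (Nlin g) φ hφ φ' hφ' he he'

theorem hasType_conj {g g' : Matrix.GeneralLinearGroup (Fin n) F} {s : Multiset ℕ}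
    (h : HasType g s) (hc : IsConj g g') : HasType g' s := by
  obtain ⟨ι, hι, e, φ, he, hφ, rfl⟩ := h
  obtain ⟨c, hc⟩ := isConj_iff.mp hc
  have hcg : c.val * g.val = g'.val * c.val := by
    have h1 : c * g = g' * c := by rw [← hc]; group
    have h2 := congrArg Units.val h1
    simpa using h2
  have h1 : (Matrix.toLinAlgEquiv' c.val : Module.End F (Fin n → F))
      * Matrix.toLinAlgEquiv' (c⁻¹).val = 1 := by
    rw [← map_mul, ← Units.val_mul, mul_inv_cancel, Units.val_one, map_one]
  have h2 : (Matrix.toLinAlgEquiv' (c⁻¹).val : Module.End F (Fin n → F))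
      * Matrix.toLinAlgEquiv' c.val = 1 := by
    rw [← map_mul, ← Units.val_mul, inv_mul_cancel, Units.val_one, map_one]
  let χ : (Fin n → F) ≃ₗ[F] (Fin n → F) :=
    LinearEquiv.ofLinearMap (Matrix.toLinAlgEquiv' c.val) (Matrix.toLinAlgEquiv' (c⁻¹).val) h1 h2
  have hχ : ∀ x, χ (Nlin g x) = Nlin g' (χ x) := by
    intro x
    show (Matrix.toLinAlgEquiv' c.val * Matrix.toLinAlgEquiv' (g.val - 1) :
      Module.End F (Fin n → F)) x
      = (Matrix.toLinAlgEquiv' (g'.val - 1) * Matrix.toLinAlgEquiv' c.val :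
      Module.End F (Fin n → F)) x
    rw [← map_mul, ← map_mul, mul_sub, sub_mul, mul_one, one_mul, hcg]
  refine ⟨ι, hι, e, χ.symm.trans φ, he, ?_, rfl⟩
  intro y
  show φ (χ.symm (Nlin g' y)) = shk e 1 (φ (χ.symm y))
  have h3 : χ.symm (Nlin g' y) = Nlin g (χ.symm y) := by
    apply χ.injective
    rw [LinearEquiv.apply_symm_apply, hχ, LinearEquiv.apply_symm_apply]
  rw [h3, hφ]

theorem isConj_of_hasType {g g' : Matrix.GeneralLinearGroup (Fin n) F} {s : Multiset ℕ}
    (h : HasType g s) (h' : HasType g' s) : IsConj g g' := by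
  obtain ⟨ι, hι, e, φ, he, hφ, rfl⟩ := h
  obtain ⟨ι', hι', e', φ', he', hφ', hs⟩ := h'
  obtain ⟨χ, hχ⟩ := exists_intertwiner e e' (Nlin g) φ hφ (Nlin g') φ' hφ' hs.symm
  let B := (Matrix.toLinAlgEquiv' (R := F) (n := Fin n)).symm
  have hB1 : B (χ : (Fin n → F) →ₗ[F] (Fin n → F)) * B (χ.symm : (Fin n → F) →ₗ[F] (Fin n → F))
      = 1 := by
    rw [← map_mul]
    have : ((χ : (Fin n → F) →ₗ[F] (Fin n → F)) * (χ.symm : (Fin n → F) →ₗ[F] (Fin n → F))
        : Module.End F (Fin n → F)) = 1 := by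
      apply LinearMap.ext
      intro x
      show χ (χ.symm x) = x
      exact LinearEquiv.apply_symm_apply χ x
    rw [this, map_one]
  have hB2 : B (χ.symm : (Fin n → F) →ₗ[F] (Fin n → F)) * B (χ : (Fin n → F) →ₗ[F] (Fin n → F))
      = 1 := by
    rw [← map_mul]
    have : ((χ.symm : (Fin n → F) →ₗ[F] (Fin n → F)) * (χ : (Fin n → F) →ₗ[F] (Fin n → F))
        : Module.End F (Fin n → F)) = 1 := by
      apply LinearMap.ext
      intro x
      show χ.symm (χ x) = x
      exact LinearEquiv.symm_apply_apply χ x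
    rw [this, map_one]
  let c : Matrix.GeneralLinearGroup (Fin n) F :=
    ⟨B (χ : (Fin n → F) →ₗ[F] (Fin n → F)), B (χ.symm : (Fin n → F) →ₗ[F] (Fin n → F)), hB1, hB2⟩
  have hcomm : c.val * (g.val - 1) = (g'.val - 1) * c.val := by
    apply (Matrix.toLinAlgEquiv' (R := F) (n := Fin n)).injective
    rw [map_mul, map_mul]
    show Matrix.toLinAlgEquiv' (B (χ : (Fin n → F) →ₗ[F] (Fin n → F))) * Nlin g
      = Nlin g' * Matrix.toLinAlgEquiv' (B (χ : (Fin n → F) →ₗ[F] (Fin n → F)))
    rw [AlgEquiv.apply_symm_apply]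
    apply LinearMap.ext
    intro x
    exact hχ x
  have hcg : c.val * g.val = g'.val * c.val := by
    have := hcomm
    rw [mul_sub, sub_mul, mul_one, one_mul] at this
    exact sub_left_injective this
  rw [isConj_iff]
  refine ⟨c, ?_⟩
  have : c * g = g' * c := Units.ext (by simpa using hcg)
  rw [this]
  group

theorem pow_eq_zero_iff_of_hasType {g : Matrix.GeneralLinearGroup (Fin n) F} {s : Multiset ℕ}
    (h : HasType g s) (k : ℕ) : (g.val - 1) ^ k = 0 ↔ ∀ a ∈ s, a ≤ k := by
  obtain ⟨ι, hι, e, φ, he, hφ, rfl⟩ := h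
  have h1 : (g.val - 1) ^ k = 0 ↔ Nlin g ^ k = 0 := by
    rw [Nlin_pow]
    constructor
    · intro h0
      rw [h0, map_zero]
    · intro h0
      apply (Matrix.toLinAlgEquiv' (R := F) (n := Fin n)).injective
      rw [h0, map_zero]
  have h2 : Nlin g ^ k = 0 ↔ Module.finrank F (LinearMap.range (Nlin g ^ k)) = 0 := by
    rw [Submodule.finrank_eq_zero, LinearMap.range_eq_bot]
  rw [h1, h2, finrank_range_pow e (Nlin g) φ hφ k, Finset.sum_eq_zero_iff]
  constructor
  · intro h0 a ha
    obtain ⟨i, _, rfl⟩ := Multiset.mem_map.mp ha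
    have := h0 i (Finset.mem_univ i)
    omega
  · intro h0 i _
    have := h0 (e i) (Multiset.mem_map.mpr ⟨i, Finset.mem_univ_val i, rfl⟩)
    omega

theorem exists_of_partition (μ : Nat.Partition n) :
    ∃ g : Matrix.GeneralLinearGroup (Fin n) F, HasType g μ.parts := by
  classical
  let ι : Type := μ.parts.ToType
  let e : ι → ℕ := fun x => x.1
  have hmap : Finset.univ.val.map e = μ.parts := Multiset.map_univ_coe μ.parts
  have hsum : ∑ i, e i = n := by
    have : (Finset.univ.val.map e).sum = n := by rw [hmap]; exact μ.parts_sum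
    exact this
  have hfr : Module.finrank F (Fin n → F) = Module.finrank F (Md F e) := by
    rw [Module.finrank_fin_fun, finrank_Md, hsum]
  let θ : (Fin n → F) ≃ₗ[F] Md F e := LinearEquiv.ofFinrankEq _ _ hfr
  let N : Module.End F (Fin n → F) :=
    (θ.symm : Md F e →ₗ[F] (Fin n → F)) ∘ₗ (shk e 1) ∘ₗ (θ : (Fin n → F) →ₗ[F] Md F e)
  have hN : ∀ x, θ (N x) = shk e 1 (θ x) := by
    intro x
    show θ (θ.symm (shk e 1 (θ x))) = _
    rw [LinearEquiv.apply_symm_apply]
  have hNk : ∀ k x, θ ((N ^ k) x) = shk e k (θ x) := fun k x => model_pow e N θ hN k x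
  have hnil : IsNilpotent N := by
    refine ⟨n + 1, ?_⟩
    apply LinearMap.ext
    intro x
    apply θ.injective
    rw [hNk, LinearMap.zero_apply, map_zero]
    funext i j
    rw [shk_apply]
    have hj : (j : ℕ) < e i := j.2
    have hle : e i ≤ n := by
      rw [← hsum]
      exact Finset.single_le_sum (f := e) (fun _ _ => Nat.zero_le _) (Finset.mem_univ i)
    rw [dif_neg (by omega)]
    rfl
  let M : Matrix (Fin n) (Fin n) F := (Matrix.toLinAlgEquiv' (R := F) (n := Fin n)).symm N
  have hM : IsNilpotent M := hnil.map _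
  have hu : IsUnit (1 + M) := hM.isUnit_one_add
  let g : Matrix.GeneralLinearGroup (Fin n) F := hu.unit
  have hg : Nlin g = N := by
    unfold Nlin
    have : g.val - 1 = M := by
      show (1 + M) - 1 = M
      abel
    rw [this]
    exact AlgEquiv.apply_symm_apply _ N
  refine ⟨g, ι, inferInstance, e, θ, ?_, ?_, hmap⟩
  · intro i
    exact μ.parts_pos (Multiset.coe_mem (x := i))
  · intro x
    rw [hg]
    exact hN x

end GLpart

end Cfsg.Agent.helper25.Jordan

namespace Cfsg.Agent.helper25.Jordan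

section Orders

variable {F : Type u} [Field F] {n : ℕ}

theorem pPow_iff_nilpotent (p : ℕ) [Fact p.Prime] [CharP F p]
    (g : Matrix.GeneralLinearGroup (Fin n) F) :
    (∃ k, orderOf g = p ^ k) ↔ IsNilpotent (g.val - 1) := by
  constructor
  · rintro ⟨k, hk⟩
    refine ⟨p ^ k, ?_⟩
    rw [sub_one_pow_char_pow (F := F) p, ← Units.val_pow_eq_pow_val, ← hk, pow_orderOf_eq_one,
      Units.val_one, sub_self]
  · rintro ⟨m, hm⟩
    have hp := (Fact.out : p.Prime)
    have hmk : m ≤ p ^ m := (Nat.lt_pow_self hp.one_lt).le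
    have h1 : (g.val - 1) ^ (p ^ m) = 0 := pow_eq_zero_of_le hmk hm
    rw [sub_one_pow_char_pow (F := F) p, sub_eq_zero, ← Units.val_pow_eq_pow_val] at h1
    have h2 : g ^ (p ^ m) = 1 := Units.ext h1
    obtain ⟨k, _, hk⟩ := (Nat.dvd_prime_pow hp).mp (orderOf_dvd_of_pow_eq_one h2)
    exact ⟨k, hk⟩

theorem orderOf_eq_p_iff (p : ℕ) [Fact p.Prime] [CharP F p]
    (g : Matrix.GeneralLinearGroup (Fin n) F) :
    orderOf g = p ↔ (g.val - 1) ^ p = 0 ∧ ¬ (g.val - 1) ^ 1 = 0 := by
  have hp := (Fact.out : p.Prime)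
  have key : (g.val - 1) ^ p = 0 ↔ g ^ p = 1 := by
    have h1 := sub_one_pow_char_pow (F := F) p g.val 1
    rw [pow_one] at h1
    rw [h1, sub_eq_zero, ← Units.val_pow_eq_pow_val]
    constructor
    · intro h
      exact Units.ext h
    · intro h
      rw [h]
      rfl
  have key1 : (g.val - 1) ^ 1 = 0 ↔ g = 1 := by
    rw [pow_one, sub_eq_zero]
    constructor
    · intro h
      exact Units.ext h
    · intro h
      rw [h]
      rfl
  rw [key, key1]
  constructor
  · intro h
    refine ⟨by rw [← h]; exact pow_orderOf_eq_one g, ?_⟩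
    intro h1
    rw [h1, orderOf_one] at h
    exact hp.one_lt.ne h
  · rintro ⟨h1, h2⟩
    exact orderOf_eq_prime h1 h2

theorem count_unipotent_classes [Fintype F] (p : ℕ) [Fact p.Prime] [CharP F p] (n : ℕ) :
    Nat.card {C : ConjClasses (Matrix.GeneralLinearGroup (Fin n) F) //
      ∃ g : Matrix.GeneralLinearGroup (Fin n) F, (∃ k : ℕ, orderOf g = p ^ k) ∧ ConjClasses.mk g = C} =
      Fintype.card (Nat.Partition n) := by
  classical
  have hex : ∀ μ : Nat.Partition n, ∃ g : Matrix.GeneralLinearGroup (Fin n) F,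
      HasType g μ.parts := exists_of_partition
  choose gOf hgOf using hex
  have hpow : ∀ μ, ∃ k, orderOf (gOf μ) = p ^ k := by
    intro μ
    rw [pPow_iff_nilpotent]
    refine ⟨n, (pow_eq_zero_iff_of_hasType (hgOf μ) n).mpr ?_⟩
    intro a ha
    calc a ≤ μ.parts.sum := Multiset.le_sum_of_mem ha
      _ = n := μ.parts_sum
  let Ψ : Nat.Partition n → {C : ConjClasses (Matrix.GeneralLinearGroup (Fin n) F) //
      ∃ g : Matrix.GeneralLinearGroup (Fin n) F, (∃ k : ℕ, orderOf g = p ^ k) ∧ ConjClasses.mk g = C} :=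
    fun μ => ⟨ConjClasses.mk (gOf μ), gOf μ, hpow μ, rfl⟩
  have hbij : Function.Bijective Ψ := by
    constructor
    · intro μ μ' h
      have h1 : ConjClasses.mk (gOf μ) = ConjClasses.mk (gOf μ') := congrArg Subtype.val h
      rw [ConjClasses.mk_eq_mk_iff_isConj] at h1
      have h2 := hasType_conj (hgOf μ) h1
      exact Nat.Partition.ext (hasType_unique h2 (hgOf μ'))
    · rintro ⟨C, g, hk, rfl⟩
      obtain ⟨μ, hμ⟩ := exists_hasType g ((pPow_iff_nilpotent p g).mp hk)
      refine ⟨μ, Subtype.ext ?_⟩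
      show ConjClasses.mk (gOf μ) = ConjClasses.mk g
      rw [ConjClasses.mk_eq_mk_iff_isConj]
      exact isConj_of_hasType (hgOf μ) hμ
  rw [← Nat.card_eq_fintype_card]
  exact (Nat.card_congr (Equiv.ofBijective Ψ hbij)).symm

theorem all_ones_unique (n : ℕ) (μ μ' : Nat.Partition n) (h : ∀ a ∈ μ.parts, a ≤ 1)
    (h' : ∀ a ∈ μ'.parts, a ≤ 1) : μ = μ' := by
  have key : ∀ ν : Nat.Partition n, (∀ a ∈ ν.parts, a ≤ 1) → ν.parts = Multiset.replicate n 1 := by
    intro ν hν
    have h1 : ∀ b ∈ ν.parts, b = 1 := by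
      intro b hb
      have := hν b hb
      have := ν.parts_pos hb
      omega
    have h2 := Multiset.eq_replicate_card.mpr h1
    have h3 : ν.parts.sum = Multiset.card ν.parts := by
      conv_lhs => rw [h2]
      rw [Multiset.sum_replicate, smul_eq_mul, mul_one]
    rw [ν.parts_sum] at h3
    rw [h2, ← h3]
  exact Nat.Partition.ext ((key μ h).trans (key μ' h').symm)

theorem count_order_p_classes [Fintype F] (p : ℕ) [Fact p.Prime] [CharP F p] (n : ℕ) :
    Nat.card {C : ConjClasses (Matrix.GeneralLinearGroup (Fin n) F) //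
      ∃ g : Matrix.GeneralLinearGroup (Fin n) F, ConjClasses.mk g = C ∧ orderOf g = p} =
      (Finset.univ.filter (fun μ : Nat.Partition n => ∀ a ∈ μ.parts, a ≤ p)).card - 1 := by
  classical
  have hp := (Fact.out : p.Prime)
  have hex : ∀ μ : Nat.Partition n, ∃ g : Matrix.GeneralLinearGroup (Fin n) F,
      HasType g μ.parts := exists_of_partition
  choose gOf hgOf using hex
  have hord : ∀ (g : Matrix.GeneralLinearGroup (Fin n) F) (μ : Nat.Partition n),
      HasType g μ.parts →
      (orderOf g = p ↔ (∀ a ∈ μ.parts, a ≤ p) ∧ ¬ (∀ a ∈ μ.parts, a ≤ 1)) := by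
    intro g μ h
    rw [orderOf_eq_p_iff p g, pow_eq_zero_iff_of_hasType h p, pow_eq_zero_iff_of_hasType h 1]
  let P : Nat.Partition n → Prop := fun μ => (∀ a ∈ μ.parts, a ≤ p) ∧ ¬ (∀ a ∈ μ.parts, a ≤ 1)
  let Ψ : {μ : Nat.Partition n // P μ} → {C : ConjClasses (Matrix.GeneralLinearGroup (Fin n) F) //
      ∃ g : Matrix.GeneralLinearGroup (Fin n) F, ConjClasses.mk g = C ∧ orderOf g = p} :=
    fun μ => ⟨ConjClasses.mk (gOf μ.1), gOf μ.1, rfl, (hord _ _ (hgOf μ.1)).mpr μ.2⟩
  have hbij : Function.Bijective Ψ := by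
    constructor
    · intro μ μ' h
      have h1 : ConjClasses.mk (gOf μ.1) = ConjClasses.mk (gOf μ'.1) := congrArg Subtype.val h
      rw [ConjClasses.mk_eq_mk_iff_isConj] at h1
      have h2 := hasType_conj (hgOf μ.1) h1
      exact Subtype.ext (Nat.Partition.ext (hasType_unique h2 (hgOf μ'.1)))
    · rintro ⟨C, g, rfl, hk⟩
      have hnil : IsNilpotent (g.val - 1) := ⟨p, ((orderOf_eq_p_iff p g).mp hk).1⟩
      obtain ⟨μ, hμ⟩ := exists_hasType g hnil
      refine ⟨⟨μ, (hord g μ hμ).mp hk⟩, Subtype.ext ?_⟩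
      show ConjClasses.mk (gOf μ) = ConjClasses.mk g
      rw [ConjClasses.mk_eq_mk_iff_isConj]
      exact isConj_of_hasType (hgOf μ) hμ
  rw [← Nat.card_congr (Equiv.ofBijective Ψ hbij), Nat.card_eq_fintype_card, Fintype.card_subtype]
  -- the all-ones partition
  let μ₁ : Nat.Partition n := ⟨Multiset.replicate n 1, fun {i} hi => by
    rw [Multiset.eq_of_mem_replicate hi]; exact Nat.one_pos, by
    rw [Multiset.sum_replicate, smul_eq_mul, mul_one]⟩
  have hμ₁ : ∀ a ∈ μ₁.parts, a ≤ 1 := by
    intro a ha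
    exact (Multiset.eq_of_mem_replicate ha).le
  have hfil : Finset.univ.filter P
      = (Finset.univ.filter (fun μ : Nat.Partition n => ∀ a ∈ μ.parts, a ≤ p)).erase μ₁ := by
    ext μ
    rw [Finset.mem_filter, Finset.mem_erase, Finset.mem_filter]
    constructor
    · rintro ⟨_, h1, h2⟩
      refine ⟨?_, Finset.mem_univ _, h1⟩
      intro h3
      apply h2
      rw [h3]
      exact hμ₁
    · rintro ⟨h1, _, h2⟩
      refine ⟨Finset.mem_univ _, h2, ?_⟩
      intro h3
      exact h1 (all_ones_unique n μ μ₁ h3 hμ₁)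
  rw [hfil, Finset.card_erase_of_mem]
  rw [Finset.mem_filter]
  refine ⟨Finset.mem_univ _, ?_⟩
  intro a ha
  exact (hμ₁ a ha).trans hp.one_lt.le

end Orders

end Cfsg.Agent.helper25.Jordan

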