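import Mathlib
import Cfsg.Agent.Lib_helper14_GUConj2
import Cfsg.Agent.Lib_helper25_Jordan
import Cfsg.Agent.Lib_helper14_H90

set_option autoImplicit false
set_option linter.unusedSectionVars false
set_option linter.unusedVariables false

/-! Jordan types of unipotent unitary matrices. -/

namespace Cfsg.Agent.helper14.GUConj

open Matrix Cfsg Cfsg.Agent.helper14 Cfsg.Agent.helper14.PsuAut Cfsg.Agent.helper25.Jordan

section jord

variable {K : Type*} [Field K] [Fintype K] {n : ℕ}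

local notation "MM" => Matrix (Fin n) (Fin n) K

theorem range_map_sigma (σ : K ≃+* K) (M : MM) :
    (LinearMap.range (M.map σ).mulVecLin : Set (Fin n → K)) =
      (fun w : Fin n → K => σ ∘ w) '' (LinearMap.range M.mulVecLin : Set (Fin n → K)) := by
  ext x
  constructor
  · rintro ⟨v, rfl⟩
    refine ⟨M *ᵥ (σ.symm ∘ v), ⟨σ.symm ∘ v, rfl⟩, ?_⟩
    show σ ∘ (M *ᵥ (σ.symm ∘ v)) = (M.map σ) *ᵥ v
    rw [comp_mulVec]
    congr 1
    funext i
    exact σ.apply_symm_apply (v i)
  · rintro ⟨w, ⟨v, rfl⟩, rfl⟩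
    refine ⟨σ ∘ v, ?_⟩
    show (M.map σ) *ᵥ (σ ∘ v) = σ ∘ (M *ᵥ v)
    rw [comp_mulVec]

theorem rank_map_sigma (σ : K ≃+* K) (M : MM) : (M.map σ).rank = M.rank := by
  have hinj : Function.Injective (fun w : Fin n → K => σ ∘ w) := by
    intro w w' h
    funext i
    exact σ.injective (congrFun h i)
  have h1 : Nat.card (LinearMap.range (M.map σ).mulVecLin) =
      Nat.card (LinearMap.range M.mulVecLin) := by
    have := Nat.card_image_of_injective hinj (LinearMap.range M.mulVecLin : Set (Fin n → K))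
    rw [← range_map_sigma σ M] at this
    exact this
  have e1 : Nat.card (LinearMap.range (M.map σ).mulVecLin) =
      Nat.card K ^ Module.finrank K (LinearMap.range (M.map σ).mulVecLin) :=
    Module.natCard_eq_pow_finrank
  have e2 : Nat.card (LinearMap.range M.mulVecLin) =
      Nat.card K ^ Module.finrank K (LinearMap.range M.mulVecLin) :=
    Module.natCard_eq_pow_finrank
  rw [e1, e2] at h1
  have h2 : 2 ≤ Nat.card K := by
    rw [Nat.card_eq_fintype_card]
    exact Fintype.one_lt_card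
  exact Nat.pow_right_injective h2 h1

theorem rank_st (σ : K ≃+* K) (M : MM) : (st σ M).rank = M.rank := by
  unfold st
  rw [Matrix.rank_transpose, rank_map_sigma]

theorem st_pow (σ : K ≃+* K) (M : MM) (k : ℕ) : st σ (M ^ k) = (st σ M) ^ k := by
  induction k with
  | zero => rw [pow_zero, pow_zero, st_one]
  | succ k ih => rw [pow_succ, st_mul, ih, pow_succ']

theorem st_sub_one (σ : K ≃+* K) (M : MM) : st σ (M - 1) = st σ M - 1 := by
  have h := st_add σ (M - 1) 1
  rw [sub_add_cancel, st_one] at h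
  rw [h, add_sub_cancel_right]

theorem st_zero (σ : K ≃+* K) : st σ (0 : MM) = 0 := by
  have h := st_add σ (0 : MM) 0
  rw [add_zero] at h
  exact left_eq_add.mp h

/-- the inverse conjugate transpose -/
def sinv (σ : K ≃+* K) (g : GL (Fin n) K) : GL (Fin n) K :=
  ⟨st σ ((g⁻¹ : GL (Fin n) K) : MM), st σ (g : MM),
    by rw [← st_mul, ← Units.val_mul, mul_inv_cancel, Units.val_one, st_one],
    by rw [← st_mul, ← Units.val_mul, inv_mul_cancel, Units.val_one, st_one]⟩

theorem sinv_val (σ : K ≃+* K) (g : GL (Fin n) K) :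
    ((sinv σ g : GL (Fin n) K) : MM) = st σ ((g⁻¹ : GL (Fin n) K) : MM) := rfl

theorem inv_sub_one (g : GL (Fin n) K) :
    ((g⁻¹ : GL (Fin n) K) : MM) - 1 = (((-g⁻¹ : GL (Fin n) K)) : MM) * ((g : MM) - 1) := by
  rw [Units.val_neg, mul_sub, mul_one, neg_mul, ← Units.val_mul, inv_mul_cancel, Units.val_one]
  abel

theorem inv_sub_one_pow (g : GL (Fin n) K) (k : ℕ) :
    (((g⁻¹ : GL (Fin n) K) : MM) - 1) ^ k =
      ((((-g⁻¹ : GL (Fin n) K)) ^ k : GL (Fin n) K) : MM) * ((g : MM) - 1) ^ k := by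
  rw [inv_sub_one, Units.val_pow_eq_pow_val]
  refine Commute.mul_pow ?_ k
  show (((-g⁻¹ : GL (Fin n) K)) : MM) * ((g : MM) - 1) = ((g : MM) - 1) * (((-g⁻¹ : GL (Fin n) K)) : MM)
  rw [Units.val_neg, mul_sub, sub_mul, mul_one, one_mul, neg_mul, mul_neg, ← Units.val_mul,
    ← Units.val_mul, inv_mul_cancel, mul_inv_cancel]

theorem sinv_sub_one_pow (σ : K ≃+* K) (g : GL (Fin n) K) (k : ℕ) :
    (((sinv σ g : GL (Fin n) K) : MM) - 1) ^ k =
      st σ (((((-g⁻¹ : GL (Fin n) K)) ^ k : GL (Fin n) K) : MM) * ((g : MM) - 1) ^ k) := by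
  rw [sinv_val, ← st_sub_one, ← st_pow, inv_sub_one_pow]

theorem sinv_rank (σ : K ≃+* K) (g : GL (Fin n) K) (k : ℕ) :
    ((((sinv σ g : GL (Fin n) K) : MM) - 1) ^ k).rank = (((g : MM) - 1) ^ k).rank := by
  rw [sinv_sub_one_pow, rank_st]
  exact Matrix.rank_mul_eq_right_of_isUnit_det _ _
    ((Matrix.isUnit_iff_isUnit_det _).mp (Units.isUnit _))

theorem rank_eq_Nlin (g : GL (Fin n) K) (k : ℕ) :
    (((g : MM) - 1) ^ k).rank = Module.finrank K (LinearMap.range (Nlin g ^ k)) := by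
  rw [Nlin_pow]
  rfl

theorem type_eq_of_rank {g g' : GL (Fin n) K} {s s' : Multiset ℕ} (h : HasType g s)
    (h' : HasType g' s')
    (hr : ∀ k, (((g : MM) - 1) ^ k).rank = (((g' : MM) - 1) ^ k).rank) : s = s' := by
  obtain ⟨ι, _, e, φ, he, hφ, rfl⟩ := h
  obtain ⟨ι', _, e', φ', he', hφ', rfl⟩ := h'
  apply multiset_eq_of_sums
  · intro h0
    obtain ⟨i, _, hi⟩ := Multiset.mem_map.mp h0
    have := he i
    omega
  · intro h0
    obtain ⟨i, _, hi⟩ := Multiset.mem_map.mp h0
    have := he' i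
    omega
  · intro k
    rw [Multiset.map_map, Multiset.map_map]
    have h1 := finrank_range_pow e (Nlin g) φ hφ k
    have h2 := finrank_range_pow e' (Nlin g') φ' hφ' k
    have h3 := hr k
    rw [rank_eq_Nlin, rank_eq_Nlin, h1, h2] at h3
    exact h3

theorem hasType_sinv (σ : K ≃+* K) {g : GL (Fin n) K} {s : Multiset ℕ} (h : HasType g s) :
    HasType (sinv σ g) s := by
  have hnil : ((g : MM) - 1) ^ s.sum = 0 :=
    (pow_eq_zero_iff_of_hasType h s.sum).mpr (fun a ha => Multiset.le_sum_of_mem ha)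
  have hnil' : IsNilpotent (((sinv σ g : GL (Fin n) K) : MM) - 1) := by
    refine ⟨s.sum, ?_⟩
    rw [sinv_sub_one_pow, hnil, mul_zero, st_zero]
  obtain ⟨μ, hμ⟩ := exists_hasType (sinv σ g) hnil'
  have := type_eq_of_rank hμ h (sinv_rank σ g)
  rw [← this]
  exact hμ

end jord

end Cfsg.Agent.helper14.GUConj
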