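import Mathlib
import Cfsg.Agent.Lib_helper14_GraphA

/-! Graph automorphisms of `PSL_n(F)`, continued: conjugacy under the inner-diagonal group in
terms of the bilinear forms, the centralizer isomorphism, and `gam M ≠ 1` for `n ≥ 3`. -/

set_option autoImplicit false

namespace Cfsg.Agent.helper14

open Matrix Cfsg.Agent.helper13

section graphB
variable {n : ℕ} {F : Type*} [Field F]

theorem isConjUnder_gam_iff (M M' : GL (Fin n) F) :
    Cfsg.IsConjUnder (Cfsg.inndiagPSL n F) (gam M) (gam M') ↔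
      ∃ (E : GL (Fin n) F) (c : Fˣ),
        (E : Matrix (Fin n) (Fin n) F)ᵀ * (M : Matrix (Fin n) (Fin n) F) *
          (E : Matrix (Fin n) (Fin n) F) = (c : F) • (M' : Matrix (Fin n) (Fin n) F) := by
  unfold Cfsg.IsConjUnder
  rw [inndiagPSL_eq]
  constructor
  · rintro ⟨h, ⟨B, rfl⟩, hB⟩
    rw [conj_gam, gam_eq_iff] at hB
    obtain ⟨c, hc⟩ := hB
    refine ⟨B⁻¹, c, ?_⟩
    rw [← hc, Units.val_mul, Units.val_mul, gInvT_val]
  · rintro ⟨E, c, hc⟩
    refine ⟨PhiL E⁻¹, ⟨E⁻¹, rfl⟩, ?_⟩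
    rw [conj_gam, gam_eq_iff]
    refine ⟨c, ?_⟩
    rw [← hc, Units.val_mul, Units.val_mul, gInvT_val, inv_inv]

/-- an invertible matrix from a linear equivalence -/
noncomputable def glOfEquiv {ι : Type*} [Fintype ι] [DecidableEq ι]
    (g : (ι → F) ≃ₗ[F] (ι → F)) : GL ι F :=
  ⟨LinearMap.toMatrix' (g : (ι → F) →ₗ[F] (ι → F)),
    LinearMap.toMatrix' (g.symm : (ι → F) →ₗ[F] (ι → F)), by
      rw [← LinearMap.toMatrix'_comp]
      have : (g : (ι → F) →ₗ[F] (ι → F)) ∘ₗ (g.symm : (ι → F) →ₗ[F] (ι → F)) = LinearMap.id :=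
        LinearMap.ext fun x => g.apply_symm_apply x
      rw [this, LinearMap.toMatrix'_id], by
      rw [← LinearMap.toMatrix'_comp]
      have : (g.symm : (ι → F) →ₗ[F] (ι → F)) ∘ₗ (g : (ι → F) →ₗ[F] (ι → F)) = LinearMap.id :=
        LinearMap.ext fun x => g.symm_apply_apply x
      rw [this, LinearMap.toMatrix'_id]⟩

theorem glOfEquiv_mulVec {ι : Type*} [Fintype ι] [DecidableEq ι]
    (g : (ι → F) ≃ₗ[F] (ι → F)) (v : ι → F) :
    ((glOfEquiv g : GL ι F) : Matrix ι ι F) *ᵥ v = g v := by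
  show LinearMap.toMatrix' (g : (ι → F) →ₗ[F] (ι → F)) *ᵥ v = g v
  rw [LinearMap.toMatrix'_mulVec]
  rfl

/-- the linear equivalence of an invertible matrix -/
noncomputable def equivOfGL {ι : Type*} [Fintype ι] [DecidableEq ι] (E : GL ι F) :
    (ι → F) ≃ₗ[F] (ι → F) :=
  LinearEquiv.ofLinear (Matrix.mulVecLin (E : Matrix ι ι F))
    (Matrix.mulVecLin ((E⁻¹ : GL ι F) : Matrix ι ι F))
    (by
      apply LinearMap.ext
      intro v
      show (E : Matrix ι ι F) *ᵥ (((E⁻¹ : GL ι F) : Matrix ι ι F) *ᵥ v) = v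
      rw [Matrix.mulVec_mulVec, ← Units.val_mul, mul_inv_cancel, Units.val_one, Matrix.one_mulVec])
    (by
      apply LinearMap.ext
      intro v
      show ((E⁻¹ : GL ι F) : Matrix ι ι F) *ᵥ ((E : Matrix ι ι F) *ᵥ v) = v
      rw [Matrix.mulVec_mulVec, ← Units.val_mul, inv_mul_cancel, Units.val_one, Matrix.one_mulVec])

theorem equivOfGL_apply {ι : Type*} [Fintype ι] [DecidableEq ι] (E : GL ι F) (v : ι → F) :
    equivOfGL E v = (E : Matrix ι ι F) *ᵥ v := rfl

theorem conj_of_form (M M' : GL (Fin n) F) (g : (Fin n → F) ≃ₗ[F] (Fin n → F)) (c : F)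
    (hc : c ≠ 0)
    (h : ∀ u v, bilM (M : Matrix (Fin n) (Fin n) F) (g u) (g v) =
      c * bilM (M' : Matrix (Fin n) (Fin n) F) u v) :
    Cfsg.IsConjUnder (Cfsg.inndiagPSL n F) (gam M) (gam M') := by
  rw [isConjUnder_gam_iff]
  refine ⟨glOfEquiv g, Units.mk0 c hc, bilM_ext _ _ fun u v => ?_⟩
  rw [bilM_congr, bilM_smul, glOfEquiv_mulVec, glOfEquiv_mulVec, h, Units.val_mk0]

theorem form_of_conj (M M' : GL (Fin n) F)
    (h : Cfsg.IsConjUnder (Cfsg.inndiagPSL n F) (gam M) (gam M')) :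
    ∃ (g : (Fin n → F) ≃ₗ[F] (Fin n → F)) (c : F), c ≠ 0 ∧
      ∀ u v, bilM (M : Matrix (Fin n) (Fin n) F) (g u) (g v) =
        c * bilM (M' : Matrix (Fin n) (Fin n) F) u v := by
  rw [isConjUnder_gam_iff] at h
  obtain ⟨E, c, hc⟩ := h
  refine ⟨equivOfGL E, c, Units.ne_zero c, fun u v => ?_⟩
  rw [equivOfGL_apply, equivOfGL_apply, ← bilM_congr, hc, bilM_smul]

theorem centralizer_gam_iso (M : GL (Fin n) F) :
    Nonempty (↥(Cfsg.inndiagPSL n F ⊓ Subgroup.centralizer {gam M}) ≃*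
      Cfsg.projQuot (Cfsg.Geo.similarityGroup (bilM (M : Matrix (Fin n) (Fin n) F)))) := by
  obtain ⟨S₀, hS₀⟩ : ∃ S₀ : Subgroup (GL (Fin n) F),
      S₀ = Cfsg.Geo.similarityGroup (bilM (M : Matrix (Fin n) (Fin n) F)) := ⟨_, rfl⟩
  obtain ⟨C, hC⟩ : ∃ C : Subgroup (MulAut (ProjectiveSpecialLinearGroup (Fin n) F)),
      C = Cfsg.inndiagPSL n F ⊓ Subgroup.centralizer {gam M} := ⟨_, rfl⟩
  have hmem : ∀ x : ↥S₀, (PhiL.comp S₀.subtype) x ∈ C := by
    intro x
    rw [hC, Subgroup.mem_inf, inndiagPSL_eq, Subgroup.mem_centralizer_iff]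
    refine ⟨⟨x.1, rfl⟩, ?_⟩
    intro y hy
    rw [Set.mem_singleton_iff] at hy
    subst hy
    show gam M * PhiL (x : GL (Fin n) F) = PhiL (x : GL (Fin n) F) * gam M
    rw [comm_gam_iff, ← hS₀]
    exact x.2
  obtain ⟨ψ, hψ⟩ : ∃ ψ : ↥S₀ →* ↥C, ∀ x : ↥S₀, ((ψ x : ↥C) :
      MulAut (ProjectiveSpecialLinearGroup (Fin n) F)) = PhiL (x : GL (Fin n) F) :=
    ⟨(PhiL.comp S₀.subtype).codRestrict C hmem, fun x => rfl⟩
  have hsurj : Function.Surjective ψ := by
    rintro ⟨β, hβ⟩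
    rw [hC, Subgroup.mem_inf, inndiagPSL_eq, Subgroup.mem_centralizer_iff] at hβ
    obtain ⟨⟨g, rfl⟩, hcomm⟩ := hβ
    have h1 := hcomm (gam M) (Set.mem_singleton _)
    rw [comm_gam_iff, ← hS₀] at h1
    refine ⟨⟨g, h1⟩, ?_⟩
    apply Subtype.ext
    rw [hψ]
  have hker : ψ.ker = (Cfsg.Geo.scalars (Fin n) F).subgroupOf S₀ := by
    ext x
    rw [MonoidHom.mem_ker, Subgroup.mem_subgroupOf, ← PhiL_ker, MonoidHom.mem_ker, ← hψ]
    constructor
    · intro h
      rw [h]
      rfl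
    · intro h
      apply Subtype.ext
      rw [h]
      rfl
  have e₁ := QuotientGroup.quotientKerEquivOfSurjective ψ hsurj
  have e₂ := QuotientGroup.quotientMulEquivOfEq hker
  rw [← hC]
  have e₃ : ↥C ≃* ↥S₀ ⧸ (Cfsg.Geo.scalars (Fin n) F).subgroupOf S₀ := e₁.symm.trans e₂
  rw [hS₀] at e₃
  exact ⟨e₃⟩

theorem gam_ne_one (hn : 3 ≤ n) (M : GL (Fin n) F) : gam M ≠ 1 := by
  intro h
  obtain ⟨A, hA⟩ : ∃ A : Matrix (Fin n) (Fin n) F,
      A = ((M⁻¹ : GL (Fin n) F) : Matrix (Fin n) (Fin n) F) := ⟨_, rfl⟩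
  obtain ⟨A', hA'⟩ : ∃ A' : Matrix (Fin n) (Fin n) F, A' = (M : Matrix (Fin n) (Fin n) F) :=
    ⟨_, rfl⟩
  have hAA' : A * A' = 1 := by rw [hA, hA']; exact gl_inv_mul M
  have hA'A : A' * A = 1 := by rw [hA, hA']; exact gl_mul_inv M
  have key : ∀ i j : Fin n, i ≠ j →
      A * Matrix.single j i (1 : F) * A' = - Matrix.single i j (1 : F) := by
    intro i j hij
    obtain ⟨T, hT⟩ : ∃ T : SpecialLinearGroup (Fin n) F,
        (T : Matrix (Fin n) (Fin n) F) = 1 + Matrix.single i j (1 : F) :=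
      ⟨⟨Matrix.transvection i j 1, Matrix.det_transvection_of_ne i j hij 1⟩, rfl⟩
    obtain ⟨T', hT'⟩ : ∃ T' : SpecialLinearGroup (Fin n) F,
        (T' : Matrix (Fin n) (Fin n) F) = 1 + Matrix.single i j (-1 : F) :=
      ⟨⟨Matrix.transvection i j (-1), Matrix.det_transvection_of_ne i j hij (-1)⟩, rfl⟩
    obtain ⟨E, hE⟩ : ∃ E : Matrix (Fin n) (Fin n) F, E = Matrix.single i j (1 : F) := ⟨_, rfl⟩
    obtain ⟨E', hE'⟩ : ∃ E' : Matrix (Fin n) (Fin n) F, E' = Matrix.single j i (1 : F) := ⟨_, rfl⟩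
    have hEE : E * E = 0 := by
      rw [hE]
      exact Matrix.single_mul_single_of_ne (c := (1 : F)) i j i hij.symm (1 : F)
    have hE'E' : E' * E' = 0 := by
      rw [hE']
      exact Matrix.single_mul_single_of_ne (c := (1 : F)) j i j hij (1 : F)
    have hEii : E i i = 0 := by
      rw [hE]
      apply Matrix.single_apply_of_ne
      rintro ⟨-, h'⟩
      exact hij h'.symm
    have hm1 : Matrix.single i j (-1 : F) = -E := by
      rw [hE, ← Matrix.single_neg]
    have hTT' : T⁻¹ = T' := by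
      apply inv_eq_of_mul_eq_one_right
      have e : ((T * T' : SpecialLinearGroup (Fin n) F) : Matrix (Fin n) (Fin n) F) =
          ((1 : SpecialLinearGroup (Fin n) F) : Matrix (Fin n) (Fin n) F) := by
        rw [Matrix.SpecialLinearGroup.coe_mul, hT, hT', Matrix.SpecialLinearGroup.coe_one, hm1,
          ← hE]
        calc (1 + E) * (1 + -E) = 1 - E * E := by noncomm_ring
          _ = 1 := by rw [hEE, sub_zero]
      exact Subtype.ext e
    have h1 := DFunLike.congr_fun h (QuotientGroup.mk T)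
    rw [gam, MulAut.mul_apply, iota0_mk, PhiL_mk, MulAut.one_apply, eq_comm, QuotientGroup.eq]
      at h1
    obtain ⟨r, -, hr⟩ := Matrix.SpecialLinearGroup.mem_center_iff.mp h1
    obtain ⟨X, hX⟩ : ∃ X : SpecialLinearGroup (Fin n) F,
        X = conjSLfun M⁻¹ (T⁻¹).transpose := ⟨_, rfl⟩
    rw [← hX] at h1 hr
    have h3 : X = T * (T⁻¹ * X) := by group
    have h4 : ((X : SpecialLinearGroup (Fin n) F) : Matrix (Fin n) (Fin n) F) =
        ((T * (T⁻¹ * X) : SpecialLinearGroup (Fin n) F) : Matrix (Fin n) (Fin n) F) := by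
      rw [← h3]
    rw [Matrix.SpecialLinearGroup.coe_mul T, ← hr, hX, conjSLfun_val, hTT',
      Matrix.SpecialLinearGroup.coe_transpose, hT', hT, inv_inv, ← hA, ← hA', hm1, ← hE,
      Matrix.transpose_add, Matrix.transpose_one, Matrix.transpose_neg] at h4
    have hEt : Eᵀ = E' := by rw [hE, hE', Matrix.transpose_single]
    rw [hEt] at h4
    obtain ⟨N, hN⟩ : ∃ N : Matrix (Fin n) (Fin n) F, N = A * E' * A' := ⟨_, rfl⟩
    have hNN : N * N = 0 := by
      rw [hN]
      calc A * E' * A' * (A * E' * A') = A * E' * (A' * A) * E' * A' := by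
            simp only [Matrix.mul_assoc]
        _ = A * (E' * E') * A' := by
            rw [hA'A, Matrix.mul_one]
            simp only [Matrix.mul_assoc]
        _ = 0 := by rw [hE'E', Matrix.mul_zero, Matrix.zero_mul]
    have h5 : (1 : Matrix (Fin n) (Fin n) F) - N = (1 + E) * (Matrix.scalar (Fin n)) r := by
      rw [← h4, hN, Matrix.mul_add, Matrix.add_mul, Matrix.mul_one, hAA', Matrix.mul_neg,
        Matrix.neg_mul, sub_eq_add_neg]
    have h6 : N = (1 - r) • (1 : Matrix (Fin n) (Fin n) F) - r • E := by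
      have h7 : N = 1 - (1 + E) * (Matrix.scalar (Fin n)) r := by
        rw [← h5]
        abel
      rw [h7, Matrix.scalar_apply, ← Matrix.smul_one_eq_diagonal, Matrix.mul_smul, Matrix.mul_one]
      module
    have hsq : N * N = ((1 - r) * (1 - r)) • (1 : Matrix (Fin n) (Fin n) F) -
        (2 * r * (1 - r)) • E := by
      rw [h6]
      simp only [Matrix.sub_mul, Matrix.mul_sub, Matrix.smul_mul, Matrix.mul_smul, Matrix.one_mul,
        Matrix.mul_one, hEE, smul_zero, sub_zero, smul_smul, smul_sub]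
      module
    have h8 := congrFun (congrFun (hsq.symm.trans hNN) i) i
    simp only [Matrix.sub_apply, Matrix.smul_apply, Matrix.one_apply_eq, Matrix.zero_apply,
      smul_eq_mul, mul_one, hEii, mul_zero, sub_zero] at h8
    have hr1 : r = 1 := by
      have := mul_self_eq_zero.mp h8
      linear_combination -this
    rw [hr1, sub_self, zero_smul, zero_sub, one_smul] at h6
    rw [← hE', ← hE, ← hN, h6]
  -- three distinct indices
  obtain ⟨i, j, k, hij, hik, hjk⟩ : ∃ i j k : Fin n, i ≠ j ∧ i ≠ k ∧ j ≠ k := by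
    refine ⟨⟨0, by omega⟩, ⟨1, by omega⟩, ⟨2, by omega⟩, ?_, ?_, ?_⟩ <;>
    · intro h'
      have := congrArg Fin.val h'
      simp at this
  have e1 : Matrix.single j i (1 : F) = Matrix.single j k (1 : F) * Matrix.single k i (1 : F) := by
    rw [Matrix.single_mul_single_same, mul_one]
  have e2 : A * Matrix.single j i (1 : F) * A' =
      (A * Matrix.single j k (1 : F) * A') * (A * Matrix.single k i (1 : F) * A') := by
    rw [e1]
    calc A * (Matrix.single j k (1 : F) * Matrix.single k i (1 : F)) * A'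
        = A * Matrix.single j k (1 : F) * 1 * Matrix.single k i (1 : F) * A' := by
          rw [Matrix.mul_one]
          simp only [Matrix.mul_assoc]
      _ = _ := by
          rw [← hA'A]
          simp only [Matrix.mul_assoc]
  rw [key i j hij, key k j hjk.symm, key i k hik, neg_mul_neg,
    Matrix.single_mul_single_of_ne (c := (1 : F)) k j i hij.symm (1 : F)] at e2
  have e3 := congrFun (congrFun e2 i) j
  rw [Matrix.neg_apply, Matrix.single_apply_same, Matrix.zero_apply] at e3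
  exact one_ne_zero (neg_eq_zero.mp e3)

end graphB

end Cfsg.Agent.helper14
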