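import Mathlib
import Cfsg.Agent.Lib_helper14_PslB
import Cfsg.Agent.Lib_helper13_QStd
import Cfsg.Agent.Lib_helper13_ReflI
import Cfsg.Agent.S2620
import Cfsg.Agent.S2621

/-! Transfer of the projective similarity group along a linear isometry, and the type of the
sum of squares in even dimension. -/

set_option autoImplicit false

namespace Cfsg.Agent.helper14

open Matrix QuadraticMap Module Cfsg.Agent.helper13

section transfer
variable {F : Type*} [Field F] {ι κ : Type} [Fintype ι] [DecidableEq ι] [Fintype κ]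
  [DecidableEq κ]

theorem rect_mul (E : Matrix κ ι F) (E' : Matrix ι κ F) (h2 : E' * E = 1)
    (A B : Matrix ι ι F) : (E * A * E') * (E * B * E') = E * (A * B) * E' := by
  calc (E * A * E') * (E * B * E') = E * A * (E' * E) * B * E' := by
        simp only [Matrix.mul_assoc]
    _ = E * (A * B) * E' := by
        rw [h2, Matrix.mul_one]
        simp only [Matrix.mul_assoc]

/-- conjugation by a rectangular invertible matrix -/
def conjGL (E : Matrix κ ι F) (E' : Matrix ι κ F) (h1 : E * E' = 1) (h2 : E' * E = 1) :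
    GL ι F ≃* GL κ F where
  toFun g := ⟨E * (g : Matrix ι ι F) * E', E * ((g⁻¹ : GL ι F) : Matrix ι ι F) * E',
    by rw [rect_mul E E' h2, ← Units.val_mul, mul_inv_cancel, Units.val_one, Matrix.mul_one, h1],
    by rw [rect_mul E E' h2, ← Units.val_mul, inv_mul_cancel, Units.val_one, Matrix.mul_one, h1]⟩
  invFun g := ⟨E' * (g : Matrix κ κ F) * E, E' * ((g⁻¹ : GL κ F) : Matrix κ κ F) * E,
    by rw [rect_mul E' E h1, ← Units.val_mul, mul_inv_cancel, Units.val_one, Matrix.mul_one, h2],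
    by rw [rect_mul E' E h1, ← Units.val_mul, inv_mul_cancel, Units.val_one, Matrix.mul_one, h2]⟩
  left_inv g := by
    apply Units.ext
    show E' * (E * (g : Matrix ι ι F) * E') * E = (g : Matrix ι ι F)
    calc E' * (E * (g : Matrix ι ι F) * E') * E = (E' * E) * (g : Matrix ι ι F) * (E' * E) := by
          simp only [Matrix.mul_assoc]
      _ = (g : Matrix ι ι F) := by rw [h2, Matrix.one_mul, Matrix.mul_one]
  right_inv g := by
    apply Units.ext
    show E * (E' * (g : Matrix κ κ F) * E) * E' = (g : Matrix κ κ F)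
    calc E * (E' * (g : Matrix κ κ F) * E) * E' = (E * E') * (g : Matrix κ κ F) * (E * E') := by
          simp only [Matrix.mul_assoc]
      _ = (g : Matrix κ κ F) := by rw [h1, Matrix.one_mul, Matrix.mul_one]
  map_mul' g h := by
    apply Units.ext
    show E * ((g * h : GL ι F) : Matrix ι ι F) * E' =
      (E * (g : Matrix ι ι F) * E') * (E * (h : Matrix ι ι F) * E')
    rw [rect_mul E E' h2, Units.val_mul]

theorem conjGL_val (E : Matrix κ ι F) (E' : Matrix ι κ F) (h1 : E * E' = 1) (h2 : E' * E = 1)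
    (g : GL ι F) : ((conjGL E E' h1 h2 g : GL κ F) : Matrix κ κ F) =
      E * (g : Matrix ι ι F) * E' := rfl

theorem conjGL_symm_val (E : Matrix κ ι F) (E' : Matrix ι κ F) (h1 : E * E' = 1)
    (h2 : E' * E = 1) (g : GL κ F) :
    (((conjGL E E' h1 h2).symm g : GL ι F) : Matrix ι ι F) = E' * (g : Matrix κ κ F) * E := rfl

theorem conjGL_mem_sim (E : Matrix κ ι F) (E' : Matrix ι κ F) (h1 : E * E' = 1)
    (h2 : E' * E = 1) (Q₁ : (ι → F) → F) (Q₂ : (κ → F) → F)
    (hQ : ∀ v, Q₂ (E *ᵥ v) = Q₁ v) (g : GL ι F)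
    (hg : g ∈ Cfsg.Geo.quadSimilarityGroup Q₁) :
    conjGL E E' h1 h2 g ∈ Cfsg.Geo.quadSimilarityGroup Q₂ := by
  obtain ⟨c, hc⟩ := hg
  refine ⟨c, fun w => ?_⟩
  rw [conjGL_val, ← Matrix.mulVec_mulVec, ← Matrix.mulVec_mulVec, hQ, hc, ← hQ,
    Matrix.mulVec_mulVec, h1, Matrix.one_mulVec]

theorem conjGL_symm_mem_sim (E : Matrix κ ι F) (E' : Matrix ι κ F) (h1 : E * E' = 1)
    (h2 : E' * E = 1) (Q₁ : (ι → F) → F) (Q₂ : (κ → F) → F)
    (hQ : ∀ v, Q₂ (E *ᵥ v) = Q₁ v) (g : GL κ F)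
    (hg : g ∈ Cfsg.Geo.quadSimilarityGroup Q₂) :
    (conjGL E E' h1 h2).symm g ∈ Cfsg.Geo.quadSimilarityGroup Q₁ := by
  obtain ⟨c, hc⟩ := hg
  refine ⟨c, fun w => ?_⟩
  have hQ' : ∀ w, Q₁ (E' *ᵥ w) = Q₂ w := by
    intro w
    rw [← hQ, Matrix.mulVec_mulVec, h1, Matrix.one_mulVec]
  rw [conjGL_symm_val, ← Matrix.mulVec_mulVec, ← Matrix.mulVec_mulVec, hQ', hc, ← hQ', 
    Matrix.mulVec_mulVec, h2, Matrix.one_mulVec]

theorem conjGL_mem_scalars (E : Matrix κ ι F) (E' : Matrix ι κ F) (h1 : E * E' = 1)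
    (h2 : E' * E = 1) (g : GL ι F) :
    conjGL E E' h1 h2 g ∈ Cfsg.Geo.scalars κ F ↔ g ∈ Cfsg.Geo.scalars ι F := by
  rw [Cfsg.Geo.mem_scalars_iff, Cfsg.Geo.mem_scalars_iff, conjGL_val]
  constructor
  · rintro ⟨c, hc⟩
    refine ⟨c, ?_⟩
    have h3 : E' * (E * (g : Matrix ι ι F) * E') * E = E' * ((c : F) • (1 : Matrix κ κ F)) * E := by
      rw [hc]
    rw [Matrix.mul_smul, Matrix.mul_one, Matrix.smul_mul, h2] at h3
    rw [← h3]
    calc (g : Matrix ι ι F) = (E' * E) * (g : Matrix ι ι F) * (E' * E) := by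
          rw [h2, Matrix.one_mul, Matrix.mul_one]
      _ = E' * (E * (g : Matrix ι ι F) * E') * E := by simp only [Matrix.mul_assoc]
  · rintro ⟨c, hc⟩
    refine ⟨c, ?_⟩
    rw [hc, Matrix.mul_smul, Matrix.mul_one, Matrix.smul_mul, h1]

/-- the projective similarity groups of isometric forms are isomorphic -/
theorem pgo_transfer (E : Matrix κ ι F) (E' : Matrix ι κ F) (h1 : E * E' = 1)
    (h2 : E' * E = 1) (Q₁ : (ι → F) → F) (Q₂ : (κ → F) → F)
    (hQ : ∀ v, Q₂ (E *ᵥ v) = Q₁ v) :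
    Nonempty (Cfsg.PGO F Q₁ ≃* Cfsg.PGO F Q₂) := by
  obtain ⟨Ψ, hΨ⟩ : ∃ Ψ : GL ι F ≃* GL κ F, Ψ = conjGL E E' h1 h2 := ⟨_, rfl⟩
  let e : ↥(Cfsg.Geo.quadSimilarityGroup Q₁) ≃* ↥(Cfsg.Geo.quadSimilarityGroup Q₂) :=
    { toFun := fun x => ⟨Ψ x.1, by rw [hΨ]; exact conjGL_mem_sim E E' h1 h2 Q₁ Q₂ hQ x.1 x.2⟩
      invFun := fun y => ⟨Ψ.symm y.1, by
        rw [hΨ]; exact conjGL_symm_mem_sim E E' h1 h2 Q₁ Q₂ hQ y.1 y.2⟩
      left_inv := fun x => Subtype.ext (Ψ.symm_apply_apply x.1)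
      right_inv := fun y => Subtype.ext (Ψ.apply_symm_apply y.1)
      map_mul' := fun x y => Subtype.ext (map_mul Ψ x.1 y.1) }
  have he : ((Cfsg.Geo.scalars ι F).subgroupOf (Cfsg.Geo.quadSimilarityGroup Q₁)).map
      (e : ↥(Cfsg.Geo.quadSimilarityGroup Q₁) →* ↥(Cfsg.Geo.quadSimilarityGroup Q₂)) =
      (Cfsg.Geo.scalars κ F).subgroupOf (Cfsg.Geo.quadSimilarityGroup Q₂) := by
    ext y
    rw [Subgroup.mem_map, Subgroup.mem_subgroupOf]
    constructor
    · rintro ⟨x, hx, rfl⟩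
      rw [Subgroup.mem_subgroupOf] at hx
      show Ψ x.1 ∈ Cfsg.Geo.scalars κ F
      rw [hΨ, conjGL_mem_scalars]
      exact hx
    · intro hy
      refine ⟨e.symm y, ?_, e.apply_symm_apply y⟩
      rw [Subgroup.mem_subgroupOf]
      have h3 : Ψ ((e.symm y : ↥(Cfsg.Geo.quadSimilarityGroup Q₁)) : GL ι F) = y.1 :=
        congrArg Subtype.val (e.apply_symm_apply y)
      rw [← h3, hΨ, conjGL_mem_scalars] at hy
      exact hy
  exact ⟨QuotientGroup.congr _ _ e he⟩

/-- transfer along a linear equivalence -/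
theorem pgo_transfer_lin (Q₁ : (ι → F) → F) (Q₂ : (κ → F) → F)
    (g : (ι → F) ≃ₗ[F] (κ → F)) (hQ : ∀ v, Q₁ v = Q₂ (g v)) :
    Nonempty (Cfsg.PGO F Q₁ ≃* Cfsg.PGO F Q₂) := by
  apply pgo_transfer (LinearMap.toMatrix' (g : (ι → F) →ₗ[F] (κ → F)))
    (LinearMap.toMatrix' (g.symm : (κ → F) →ₗ[F] (ι → F)))
  · rw [← LinearMap.toMatrix'_comp]
    have : (g : (ι → F) →ₗ[F] (κ → F)) ∘ₗ (g.symm : (κ → F) →ₗ[F] (ι → F)) = LinearMap.id :=
      LinearMap.ext fun x => g.apply_symm_apply x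
    rw [this, LinearMap.toMatrix'_id]
  · rw [← LinearMap.toMatrix'_comp]
    have : (g.symm : (κ → F) →ₗ[F] (ι → F)) ∘ₗ (g : (ι → F) →ₗ[F] (κ → F)) = LinearMap.id :=
      LinearMap.ext fun x => g.symm_apply_apply x
    rw [this, LinearMap.toMatrix'_id]
  · intro v
    rw [LinearMap.toMatrix'_mulVec, hQ]
    rfl

end transfer

section sumsq
variable {F : Type*} [Field F]

/-- the sum of squares as a quadratic form -/
noncomputable def QSum (n : ℕ) (F : Type*) [Field F] : QuadraticForm F (Fin n → F) :=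
  QuadraticMap.weightedSumSquares F (fun _ : Fin n => (1 : F))

theorem QSum_apply (n : ℕ) (v : Fin n → F) : QSum n F v = sumSq n F v := by
  unfold QSum sumSq
  rw [QuadraticMap.weightedSumSquares_apply]
  apply Finset.sum_congr rfl
  intro i _
  rw [one_smul]

theorem polar_QSum (n : ℕ) (u v : Fin n → F) :
    polar (⇑(QSum n F)) u v = u ⬝ᵥ (((2 : F) • (1 : Matrix (Fin n) (Fin n) F)) *ᵥ v) := by
  unfold polar
  rw [QSum_apply, QSum_apply, QSum_apply, Matrix.smul_mulVec, Matrix.one_mulVec, dotProduct_smul]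
  unfold sumSq dotProduct
  rw [smul_eq_mul, Finset.mul_sum, ← Finset.sum_sub_distrib, ← Finset.sum_sub_distrib]
  apply Finset.sum_congr rfl
  intro i _
  rw [Pi.add_apply]
  ring

theorem QSum_nondeg (h2 : (2 : F) ≠ 0) (n : ℕ) : (polarBilin (QSum n F)).Nondegenerate := by
  apply nondeg_of_gram (QSum n F) ((2 : F) • (1 : Matrix (Fin n) (Fin n) F)) _ (polar_QSum n)
  rw [Matrix.det_smul, Matrix.det_one, mul_one]
  exact pow_ne_zero _ h2

theorem polar_QSum_single (n : ℕ) (i j : Fin n) :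
    polar (⇑(QSum n F)) (Pi.single i 1) (Pi.single j 1) =
      ((2 : F) • (1 : Matrix (Fin n) (Fin n) F)) i j := by
  rw [polar_QSum, Matrix.mulVec_single_one, single_one_dotProduct]
  rfl

variable [Fintype F]

/-- the type of the sum of squares in dimension `2m` -/
theorem sumSq_type (hodd : Odd (Fintype.card F)) {n m : ℕ} (hm : 1 ≤ m) (hnm : n = 2 * m) :
    (Even (m * (Fintype.card F - 1) / 2) →
      ∃ g : (Fin n → F) ≃ₗ[F] (Fin m ⊕ Fin m → F),
        ∀ v, sumSq n F v = Cfsg.quadFormPlus m F (g v)) ∧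
    (¬ Even (m * (Fintype.card F - 1) / 2) →
      ∃ ζ : F, (∀ t : F, t ^ 2 + t + ζ ≠ 0) ∧
        ∃ g : (Fin n → F) ≃ₗ[F] ((Fin (m - 1) ⊕ Fin (m - 1)) ⊕ Fin 2 → F),
          ∀ v, sumSq n F v = Cfsg.quadFormMinus (m - 1) F 1 ζ (g v)) := by
  classical
  have h2 : (2 : F) ≠ 0 := two_ne_zero_of_odd_card rfl hodd
  have hV : finrank F (Fin n → F) = 2 * m := by
    rw [Module.finrank_fintype_fun_eq_card, Fintype.card_fin, hnm]
  have hsq : IsSquare (((2 : F) • (1 : Matrix (Fin n) (Fin n) F)).det) := by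
    rw [Matrix.det_smul, Matrix.det_one, mul_one, Fintype.card_fin, hnm]
    exact ⟨2 ^ m, by rw [← pow_add, two_mul]⟩
  have hplus : ∀ g : (Fin n → F) ≃ₗ[F] (Fin m ⊕ Fin m → F),
      (∀ v, QSum n F v = Cfsg.quadFormPlus m F (g v)) →
      Even (m * (Fintype.card F - 1) / 2) := by
    intro g hg
    rw [← Cfsg.Agent.S2620.result (F := F) rfl hodd hm ((Pi.basisFun F (Fin n)).map g)]
    have e : (Matrix.of fun i j : Fin n => polar (Cfsg.quadFormPlus m F)
        (((Pi.basisFun F (Fin n)).map g) i) (((Pi.basisFun F (Fin n)).map g) j)) =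
        (2 : F) • (1 : Matrix (Fin n) (Fin n) F) := by
      ext i j
      rw [Matrix.of_apply, Module.Basis.map_apply, Module.Basis.map_apply, Pi.basisFun_apply,
        Pi.basisFun_apply, ← polar_QSum_single]
      unfold polar
      rw [hg, hg, hg, map_add]
    rw [e]
    exact hsq
  have hminus : ∀ (ζ : F) (hirr : ∀ t : F, t ^ 2 + t + ζ ≠ 0)
      (g : (Fin n → F) ≃ₗ[F] ((Fin (m - 1) ⊕ Fin (m - 1)) ⊕ Fin 2 → F)),
      (∀ v, QSum n F v = Cfsg.quadFormMinus (m - 1) F 1 ζ (g v)) →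
      ¬ Even (m * (Fintype.card F - 1) / 2) := by
    intro ζ hirr g hg
    have hac : ∀ z₁ z₂ : F, z₁ ^ 2 + 1 * z₁ * z₂ + ζ * z₂ ^ 2 = 0 → z₁ = 0 ∧ z₂ = 0 := by
      intro z₁ z₂ hz
      by_cases hz₂ : z₂ = 0
      · subst hz₂
        refine ⟨?_, rfl⟩
        have : z₁ ^ 2 = 0 := by linear_combination hz
        exact pow_eq_zero_iff (two_ne_zero) |>.mp this
      · exfalso
        apply hirr (z₁ / z₂)
        field_simp
        linear_combination hz
    rw [← Cfsg.Agent.S2621.result (F := F) rfl hodd hm 1 ζ hac ((Pi.basisFun F (Fin n)).map g)]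
    have e : (Matrix.of fun i j : Fin n => polar (Cfsg.quadFormMinus (m - 1) F 1 ζ)
        (((Pi.basisFun F (Fin n)).map g) i) (((Pi.basisFun F (Fin n)).map g) j)) =
        (2 : F) • (1 : Matrix (Fin n) (Fin n) F) := by
      ext i j
      rw [Matrix.of_apply, Module.Basis.map_apply, Module.Basis.map_apply, Pi.basisFun_apply,
        Pi.basisFun_apply, ← polar_QSum_single]
      unfold polar
      rw [hg, hg, hg, map_add]
    rw [e]
    exact hsq
  rcases classify_even hm hV (QSum n F) (QSum_nondeg h2 n) with ⟨g, hg⟩ | ⟨ζ, hirr, g, hg⟩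
  · constructor
    · intro _
      exact ⟨g, fun v => by rw [← QSum_apply, hg]⟩
    · intro hne
      exact absurd (hplus g hg) hne
  · constructor
    · intro he
      exact absurd he (hminus ζ hirr g hg)
    · intro _
      exact ⟨ζ, hirr, g, fun v => by rw [← QSum_apply, hg]⟩

end sumsq

end Cfsg.Agent.helper14
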