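import Mathlib
import Cfsg.Agent.Lib_helper14_GraphB
import Cfsg.Agent.Lib_helper14_PslC

/-! Transfer of projective similarity groups (bilinear version), the invertible Gram matrix of
a nondegenerate bilinear or quadratic form, and conjugacy/centralizers of the associated
graph automorphisms. -/

set_option autoImplicit false

namespace Cfsg.Agent.helper14

open Matrix QuadraticMap Module Cfsg.Agent.helper13

section transferC
variable {F : Type*} [Field F] {ι κ : Type} [Fintype ι] [DecidableEq ι] [Fintype κ]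
  [DecidableEq κ]

theorem projQuot_transfer (E : Matrix κ ι F) (E' : Matrix ι κ F) (h1 : E * E' = 1)
    (h2 : E' * E = 1) (H₁ : Subgroup (GL ι F)) (H₂ : Subgroup (GL κ F))
    (hH : ∀ x : GL ι F, x ∈ H₁ ↔ conjGL E E' h1 h2 x ∈ H₂) :
    Nonempty (Cfsg.projQuot H₁ ≃* Cfsg.projQuot H₂) := by
  obtain ⟨Ψ, hΨ⟩ : ∃ Ψ : GL ι F ≃* GL κ F, Ψ = conjGL E E' h1 h2 := ⟨_, rfl⟩
  let e : ↥H₁ ≃* ↥H₂ :=
    { toFun := fun x => ⟨Ψ x.1, by rw [hΨ]; exact (hH x.1).mp x.2⟩
      invFun := fun y => ⟨Ψ.symm y.1, by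
        rw [hH, ← hΨ, Ψ.apply_symm_apply]; exact y.2⟩
      left_inv := fun x => Subtype.ext (Ψ.symm_apply_apply x.1)
      right_inv := fun y => Subtype.ext (Ψ.apply_symm_apply y.1)
      map_mul' := fun x y => Subtype.ext (map_mul Ψ x.1 y.1) }
  have he : ((Cfsg.Geo.scalars ι F).subgroupOf H₁).map (e : ↥H₁ →* ↥H₂) =
      (Cfsg.Geo.scalars κ F).subgroupOf H₂ := by
    ext y
    rw [Subgroup.mem_map, Subgroup.mem_subgroupOf]
    constructor
    · rintro ⟨x, hx, rfl⟩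
      rw [Subgroup.mem_subgroupOf] at hx
      show Ψ x.1 ∈ Cfsg.Geo.scalars κ F
      rw [hΨ, conjGL_mem_scalars]
      exact hx
    · intro hy
      refine ⟨e.symm y, ?_, e.apply_symm_apply y⟩
      rw [Subgroup.mem_subgroupOf]
      have h3 : Ψ ((e.symm y : ↥H₁) : GL ι F) = y.1 :=
        congrArg Subtype.val (e.apply_symm_apply y)
      rw [← h3, hΨ, conjGL_mem_scalars] at hy
      exact hy
  exact ⟨QuotientGroup.congr _ _ e he⟩

theorem conjGL_mulVec (E : Matrix κ ι F) (E' : Matrix ι κ F) (h1 : E * E' = 1)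
    (h2 : E' * E = 1) (g : GL ι F) (u : ι → F) :
    ((conjGL E E' h1 h2 g : GL κ F) : Matrix κ κ F) *ᵥ (E *ᵥ u) =
      E *ᵥ ((g : Matrix ι ι F) *ᵥ u) := by
  rw [conjGL_val, Matrix.mulVec_mulVec, Matrix.mulVec_mulVec]
  congr 1
  calc E * (g : Matrix ι ι F) * E' * E = E * (g : Matrix ι ι F) * (E' * E) := by
        simp only [Matrix.mul_assoc]
    _ = E * (g : Matrix ι ι F) := by rw [h2, Matrix.mul_one]

theorem conjGL_mem_bsim_iff (E : Matrix κ ι F) (E' : Matrix ι κ F) (h1 : E * E' = 1)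
    (h2 : E' * E = 1) (f₁ : (ι → F) → (ι → F) → F) (f₂ : (κ → F) → (κ → F) → F)
    (hf : ∀ u v, f₂ (E *ᵥ u) (E *ᵥ v) = f₁ u v) (g : GL ι F) :
    g ∈ Cfsg.Geo.similarityGroup f₁ ↔
      conjGL E E' h1 h2 g ∈ Cfsg.Geo.similarityGroup f₂ := by
  have hE : ∀ w : κ → F, E *ᵥ (E' *ᵥ w) = w := by
    intro w
    rw [Matrix.mulVec_mulVec, h1, Matrix.one_mulVec]
  constructor
  · rintro ⟨c, hc⟩
    refine ⟨c, fun u v => ?_⟩
    have h3 := hc (E' *ᵥ u) (E' *ᵥ v)
    rw [← hf, ← hf, ← conjGL_mulVec E E' h1 h2, ← conjGL_mulVec E E' h1 h2, hE, hE] at h3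
    exact h3
  · rintro ⟨c, hc⟩
    refine ⟨c, fun u v => ?_⟩
    have h3 := hc (E *ᵥ u) (E *ᵥ v)
    rw [conjGL_mulVec, conjGL_mulVec, hf, hf] at h3
    exact h3

/-- transfer of the projective similarity group of a bilinear form along a linear equivalence -/
theorem psim_transfer_lin (f₁ : (ι → F) → (ι → F) → F) (f₂ : (κ → F) → (κ → F) → F)
    (g : (ι → F) ≃ₗ[F] (κ → F)) (hf : ∀ u v, f₁ u v = f₂ (g u) (g v)) :
    Nonempty (Cfsg.projQuot (Cfsg.Geo.similarityGroup f₁) ≃*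
      Cfsg.projQuot (Cfsg.Geo.similarityGroup f₂)) := by
  have h1 : LinearMap.toMatrix' (g : (ι → F) →ₗ[F] (κ → F)) *
      LinearMap.toMatrix' (g.symm : (κ → F) →ₗ[F] (ι → F)) = 1 := by
    rw [← LinearMap.toMatrix'_comp]
    have : (g : (ι → F) →ₗ[F] (κ → F)) ∘ₗ (g.symm : (κ → F) →ₗ[F] (ι → F)) = LinearMap.id :=
      LinearMap.ext fun x => g.apply_symm_apply x
    rw [this, LinearMap.toMatrix'_id]
  have h2 : LinearMap.toMatrix' (g.symm : (κ → F) →ₗ[F] (ι → F)) *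
      LinearMap.toMatrix' (g : (ι → F) →ₗ[F] (κ → F)) = 1 := by
    rw [← LinearMap.toMatrix'_comp]
    have : (g.symm : (κ → F) →ₗ[F] (ι → F)) ∘ₗ (g : (ι → F) →ₗ[F] (κ → F)) = LinearMap.id :=
      LinearMap.ext fun x => g.symm_apply_apply x
    rw [this, LinearMap.toMatrix'_id]
  apply projQuot_transfer _ _ h1 h2
  intro x
  apply conjGL_mem_bsim_iff
  intro u v
  rw [LinearMap.toMatrix'_mulVec, LinearMap.toMatrix'_mulVec, hf]
  rfl

theorem sim_eq_quadSim (f : (ι → F) → (ι → F) → F) (Q : (ι → F) → F) (h : F)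
    (hpol : ∀ u v, f u v = Q (u + v) - Q u - Q v) (hQ : ∀ v, Q v = h * f v v) :
    Cfsg.Geo.similarityGroup f = Cfsg.Geo.quadSimilarityGroup Q := by
  ext D
  constructor
  · rintro ⟨c, hc⟩
    refine ⟨c, fun v => ?_⟩
    rw [hQ, hc, hQ]
    ring
  · rintro ⟨c, hc⟩
    refine ⟨c, fun u v => ?_⟩
    rw [hpol, ← Matrix.mulVec_add, hc, hc, hc, hpol]
    ring

end transferC

section gb
variable {n : ℕ} {F : Type*} [Field F]

/-- the invertible Gram matrix of a nondegenerate bilinear form -/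
noncomputable def gb (B : LinearMap.BilinForm F (Fin n → F)) (hB : B.Nondegenerate) :
    GL (Fin n) F :=
  Matrix.GeneralLinearGroup.mkOfDetNeZero (LinearMap.BilinForm.toMatrix' B) (by
    rw [← LinearMap.BilinForm.nondegenerate_toBilin'_iff_det_ne_zero, Matrix.toBilin'_toMatrix']
    exact hB)

theorem gb_val (B : LinearMap.BilinForm F (Fin n → F)) (hB : B.Nondegenerate) :
    ((gb B hB : GL (Fin n) F) : Matrix (Fin n) (Fin n) F) = LinearMap.BilinForm.toMatrix' B := rfl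

theorem bilM_gb (B : LinearMap.BilinForm F (Fin n → F)) (hB : B.Nondegenerate)
    (u v : Fin n → F) :
    bilM ((gb B hB : GL (Fin n) F) : Matrix (Fin n) (Fin n) F) u v = B u v := by
  rw [gb_val]
  unfold bilM
  rw [← Matrix.toBilin'_apply', Matrix.toBilin'_toMatrix']

theorem bilM_flip {ι : Type*} [Fintype ι] (M : Matrix ι ι F) (u v : ι → F) :
    bilM M v u = bilM Mᵀ u v := by
  unfold bilM
  rw [Matrix.dotProduct_mulVec, dotProduct_comm, Matrix.mulVec_transpose]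

/-- the Gram matrix of a nondegenerate quadratic form -/
noncomputable def gq (Q : QuadraticForm F (Fin n → F)) (hQ : (polarBilin Q).Nondegenerate) :
    GL (Fin n) F := gb (polarBilin Q) hQ

theorem bilM_gq (Q : QuadraticForm F (Fin n → F)) (hQ : (polarBilin Q).Nondegenerate)
    (u v : Fin n → F) :
    bilM ((gq Q hQ : GL (Fin n) F) : Matrix (Fin n) (Fin n) F) u v = polar (⇑Q) u v := by
  unfold gq
  rw [bilM_gb, polarBilin_apply_apply]

theorem conj_gq_of_sim (Q Q' : QuadraticForm F (Fin n → F))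
    (hQ : (polarBilin Q).Nondegenerate) (hQ' : (polarBilin Q').Nondegenerate)
    (g : (Fin n → F) ≃ₗ[F] (Fin n → F)) (c : F) (hc : c ≠ 0) (h : ∀ v, Q (g v) = c * Q' v) :
    Cfsg.IsConjUnder (Cfsg.inndiagPSL n F) (gam (gq Q hQ)) (gam (gq Q' hQ')) := by
  apply conj_of_form _ _ g c hc
  intro u v
  rw [bilM_gq, bilM_gq]
  unfold polar
  rw [← map_add, h, h, h]
  ring

theorem sim_of_conj_gq (h2 : (2 : F) ≠ 0) (Q Q' : QuadraticForm F (Fin n → F))
    (hQ : (polarBilin Q).Nondegenerate) (hQ' : (polarBilin Q').Nondegenerate)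
    (h : Cfsg.IsConjUnder (Cfsg.inndiagPSL n F) (gam (gq Q hQ)) (gam (gq Q' hQ'))) :
    ∃ (g : (Fin n → F) ≃ₗ[F] (Fin n → F)) (c : F), c ≠ 0 ∧ ∀ v, Q (g v) = c * Q' v := by
  obtain ⟨g, c, hc, hg⟩ := form_of_conj _ _ h
  refine ⟨g, c, hc, fun v => ?_⟩
  have h1 := hg v v
  rw [bilM_gq, bilM_gq, polar_self, polar_self, nsmul_eq_mul, nsmul_eq_mul] at h1
  have h3 : (2 : F) * (Q (g v) - c * Q' v) = 0 := by
    push_cast at h1
    linear_combination h1
  rcases mul_eq_zero.mp h3 with h4 | h4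
  · exact absurd h4 h2
  · exact sub_eq_zero.mp h4

theorem conj_gq_of_symm (M : GL (Fin n) F)
    (hM : (M : Matrix (Fin n) (Fin n) F)ᵀ = (M : Matrix (Fin n) (Fin n) F))
    (Q : QuadraticForm F (Fin n → F)) (hQ : (polarBilin Q).Nondegenerate)
    (h2 : (2 : F) ≠ 0)
    (g : (Fin n → F) ≃ₗ[F] (Fin n → F))
    (h : ∀ v, Q (g v) = bilM (M : Matrix (Fin n) (Fin n) F) v v) :
    Cfsg.IsConjUnder (Cfsg.inndiagPSL n F) (gam (gq Q hQ)) (gam M) := by
  apply conj_of_form _ _ g 2 h2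
  intro u v
  rw [bilM_gq]
  unfold polar
  rw [← map_add, h, h, h]
  have h3 : bilM (M : Matrix (Fin n) (Fin n) F) v u = bilM (M : Matrix (Fin n) (Fin n) F) u v := by
    rw [bilM_flip, hM]
  have h4 : bilM (M : Matrix (Fin n) (Fin n) F) (u + v) (u + v) =
      bilM (M : Matrix (Fin n) (Fin n) F) u u + bilM (M : Matrix (Fin n) (Fin n) F) u v +
      (bilM (M : Matrix (Fin n) (Fin n) F) v u + bilM (M : Matrix (Fin n) (Fin n) F) v v) := by
    unfold bilM
    rw [Matrix.mulVec_add, dotProduct_add, add_dotProduct, add_dotProduct]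
    ring
  rw [h4, h3]
  ring

theorem centralizer_gq_iso (h2 : (2 : F) ≠ 0) (Q : QuadraticForm F (Fin n → F))
    (hQ : (polarBilin Q).Nondegenerate) :
    Nonempty (↥(Cfsg.inndiagPSL n F ⊓ Subgroup.centralizer {gam (gq Q hQ)}) ≃*
      Cfsg.PGO F (⇑Q)) := by
  obtain ⟨e⟩ := centralizer_gam_iso (gq Q hQ)
  have h1 : bilM ((gq Q hQ : GL (Fin n) F) : Matrix (Fin n) (Fin n) F) =
      fun u v => polar (⇑Q) u v := by
    funext u v
    exact bilM_gq Q hQ u v
  rw [h1, sim_eq_quadSim (fun u v => polar (⇑Q) u v) (⇑Q) (2⁻¹ : F) (fun u v => rfl)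
    (fun v => by
      show Q v = 2⁻¹ * polar (⇑Q) v v
      rw [polar_self, nsmul_eq_mul]
      push_cast
      rw [← mul_assoc, inv_mul_cancel₀ h2, one_mul])] at e
  exact ⟨e⟩

end gb

end Cfsg.Agent.helper14
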