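import Mathlib
import Cfsg.Agent.Lib_helper14_GraphC
import Cfsg.Agent.S0752
import Cfsg.Agent.S2623

/-! Classification inputs for the involutory graph automorphisms of `PSL_n`: alternating forms,
symmetric forms over finite fields of odd order, and small facts. -/

set_option autoImplicit false

namespace Cfsg.Agent.helper14

open Matrix QuadraticMap Module Cfsg.Agent.helper13

section small
variable {F : Type*} [Field F]

theorem exists_zeta (F : Type*) [Field F] [Finite F] : ∃ ζ : F, ∀ t : F, t ^ 2 + t + ζ ≠ 0 := by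
  have hni : ¬ Function.Injective (fun t : F => t ^ 2 + t) := by
    intro hinj
    have h1 : (fun t : F => t ^ 2 + t) 0 = (fun t : F => t ^ 2 + t) (-1) := by
      show (0 : F) ^ 2 + 0 = (-1) ^ 2 + -1
      ring
    have h2 := hinj h1
    have h3 : (1 : F) = 0 := by linear_combination h2
    exact one_ne_zero h3
  have hns : ¬ Function.Surjective (fun t : F => t ^ 2 + t) :=
    fun hs => hni (Finite.injective_iff_surjective.mpr hs)
  rw [Function.Surjective] at hns
  push Not at hns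
  obtain ⟨b, hb⟩ := hns
  refine ⟨-b, fun t ht => hb t ?_⟩
  show t ^ 2 + t = b
  linear_combination ht

theorem isSquare_mul_of_not [Fintype F] {a b : F} (ha : ¬ IsSquare a) (hb : ¬ IsSquare b) :
    IsSquare (a * b) := by
  classical
  have ha0 : a ≠ 0 := by
    rintro rfl
    exact ha ⟨0, by rw [mul_zero]⟩
  have hb0 : b ≠ 0 := by
    rintro rfl
    exact hb ⟨0, by rw [mul_zero]⟩
  rw [← quadraticChar_one_iff_isSquare (mul_ne_zero ha0 hb0), map_mul,
    quadraticChar_neg_one_iff_not_isSquare.mpr ha, quadraticChar_neg_one_iff_not_isSquare.mpr hb]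
  norm_num

theorem nondeg_comp {V W : Type*} [AddCommGroup V] [Module F V] [AddCommGroup W] [Module F W]
    (Q : QuadraticForm F W) (hQ : (polarBilin Q).Nondegenerate) (g : V ≃ₗ[F] W) :
    (polarBilin (Q.comp (g : V →ₗ[F] W))).Nondegenerate := by
  have h1 : polarBilin (Q.comp (g : V →ₗ[F] W)) =
      LinearMap.BilinForm.congr g.symm (polarBilin Q) := by
    apply LinearMap.ext
    intro u
    apply LinearMap.ext
    intro v
    rw [polarBilin_apply_apply, LinearMap.BilinForm.congr_apply, polarBilin_apply_apply,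
      polar_comp_lin]
    rfl
  rw [h1]
  exact LinearMap.BilinForm.Nondegenerate.congr g.symm hQ

theorem transpose_scalar {n : ℕ} (hn : 0 < n) (M : GL (Fin n) F) (c : F)
    (h : (M : Matrix (Fin n) (Fin n) F)ᵀ = c • (M : Matrix (Fin n) (Fin n) F)) :
    c = 1 ∨ c = -1 := by
  have h1 : (M : Matrix (Fin n) (Fin n) F) = (c * c) • (M : Matrix (Fin n) (Fin n) F) := by
    have := congrArg Matrix.transpose h
    rw [Matrix.transpose_transpose, Matrix.transpose_smul, h, smul_smul] at this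
    exact this
  have h2 : (M : Matrix (Fin n) (Fin n) F) * ((M⁻¹ : GL (Fin n) F) : Matrix (Fin n) (Fin n) F) =
      ((c * c) • (M : Matrix (Fin n) (Fin n) F)) *
        ((M⁻¹ : GL (Fin n) F) : Matrix (Fin n) (Fin n) F) := by rw [← h1]
  rw [Matrix.smul_mul, gl_mul_inv] at h2
  have h3 := congrFun (congrFun h2 ⟨0, hn⟩) ⟨0, hn⟩
  rw [Matrix.smul_apply, Matrix.one_apply_eq, smul_eq_mul, mul_one] at h3
  have h4 : (c - 1) * (c + 1) = 0 := by linear_combination -h3
  rcases mul_eq_zero.mp h4 with h5 | h5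
  · left
    exact sub_eq_zero.mp h5
  · right
    exact eq_neg_of_add_eq_zero_left h5

end small

section order
variable {n : ℕ} {F : Type*} [Field F]

theorem gam_order_two (hn : 3 ≤ n) (M : GL (Fin n) F) (c : Fˣ)
    (h : (M : Matrix (Fin n) (Fin n) F)ᵀ = (c : F) • (M : Matrix (Fin n) (Fin n) F)) :
    orderOf (gam M) = 2 := by
  apply orderOf_eq_prime
  · rw [pow_two]
    exact (gam_mul_self_eq_one_iff M).mpr ⟨c, h⟩
  · exact gam_ne_one hn M

theorem gq_transpose (Q : QuadraticForm F (Fin n → F)) (hQ : (polarBilin Q).Nondegenerate) :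
    ((gq Q hQ : GL (Fin n) F) : Matrix (Fin n) (Fin n) F)ᵀ =
      ((gq Q hQ : GL (Fin n) F) : Matrix (Fin n) (Fin n) F) := by
  apply bilM_ext
  intro u v
  rw [← bilM_flip, bilM_gq, bilM_gq, polar_comm]

theorem gq_order_two (hn : 3 ≤ n) (Q : QuadraticForm F (Fin n → F))
    (hQ : (polarBilin Q).Nondegenerate) : orderOf (gam (gq Q hQ)) = 2 := by
  apply gam_order_two hn _ 1
  rw [gq_transpose, Units.val_one, one_smul]

end order

section symp
variable {n m : ℕ} {F : Type*} [Field F]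

theorem sympForm_eq_bilM (u v : Fin m ⊕ Fin m → F) :
    Cfsg.sympForm m F u v = bilM (Matrix.J (Fin m) F) u v := rfl

theorem sympForm_swap (u v : Fin m ⊕ Fin m → F) :
    Cfsg.sympForm m F v u = - Cfsg.sympForm m F u v := by
  rw [sympForm_eq_bilM, sympForm_eq_bilM, bilM_flip, Matrix.J_transpose]
  unfold bilM
  rw [Matrix.neg_mulVec, dotProduct_neg]

theorem exists_symp_gl (E : (Fin n → F) ≃ₗ[F] (Fin m ⊕ Fin m → F)) :
    ∃ M₁ : GL (Fin n) F, ∀ u v, bilM (M₁ : Matrix (Fin n) (Fin n) F) u v =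
      Cfsg.sympForm m F (E u) (E v) := by
  have hJ : (Matrix.toBilin' (Matrix.J (Fin m) F)).Nondegenerate := by
    rw [LinearMap.BilinForm.nondegenerate_toBilin'_iff_det_ne_zero]
    exact (Matrix.isUnit_det_J (Fin m) F).ne_zero
  refine ⟨gb (LinearMap.BilinForm.congr E.symm (Matrix.toBilin' (Matrix.J (Fin m) F)))
    (LinearMap.BilinForm.Nondegenerate.congr E.symm hJ), fun u v => ?_⟩
  rw [bilM_gb, LinearMap.BilinForm.congr_apply, Matrix.toBilin'_apply']
  rfl

theorem symp_gl_transpose (E : (Fin n → F) ≃ₗ[F] (Fin m ⊕ Fin m → F)) (M₁ : GL (Fin n) F)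
    (h : ∀ u v, bilM (M₁ : Matrix (Fin n) (Fin n) F) u v = Cfsg.sympForm m F (E u) (E v)) :
    (M₁ : Matrix (Fin n) (Fin n) F)ᵀ = ((-1 : Fˣ) : F) • (M₁ : Matrix (Fin n) (Fin n) F) := by
  apply bilM_ext
  intro u v
  rw [← bilM_flip, bilM_smul, h, h, sympForm_swap, Units.val_neg, Units.val_one, neg_one_mul]

theorem centralizer_symp_iso (E : (Fin n → F) ≃ₗ[F] (Fin m ⊕ Fin m → F)) (M₁ : GL (Fin n) F)
    (h : ∀ u v, bilM (M₁ : Matrix (Fin n) (Fin n) F) u v = Cfsg.sympForm m F (E u) (E v)) :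
    Nonempty (↥(Cfsg.inndiagPSL n F ⊓ Subgroup.centralizer {gam M₁}) ≃* Cfsg.PGSp m F) := by
  obtain ⟨e⟩ := centralizer_gam_iso M₁
  obtain ⟨e'⟩ := psim_transfer_lin (bilM (M₁ : Matrix (Fin n) (Fin n) F)) (Cfsg.sympForm m F) E h
  exact ⟨e.trans e'⟩

/-- classification of nondegenerate alternating forms -/
theorem alt_classify (hnm : n = 2 * m) (M : GL (Fin n) F)
    (halt : ∀ v, bilM (M : Matrix (Fin n) (Fin n) F) v v = 0) :
    ∃ g : (Fin n → F) ≃ₗ[F] (Fin m ⊕ Fin m → F), ∀ u v,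
      bilM (M : Matrix (Fin n) (Fin n) F) u v = - Cfsg.sympForm m F (g u) (g v) := by
  classical
  obtain ⟨B, hB⟩ : ∃ B : LinearMap.BilinForm F (Fin n → F),
      B = Matrix.toBilin' (M : Matrix (Fin n) (Fin n) F) := ⟨_, rfl⟩
  have hBM : ∀ u v, B u v = bilM (M : Matrix (Fin n) (Fin n) F) u v := by
    intro u v
    rw [hB, Matrix.toBilin'_apply']
    rfl
  have hA : B.IsAlt := fun v => by rw [hBM]; exact halt v
  have hnd : B.Nondegenerate := by
    rw [hB, LinearMap.BilinForm.nondegenerate_toBilin'_iff_det_ne_zero]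
    exact (Matrix.isUnits_det_units M).ne_zero
  obtain ⟨m', k, b, hef, hee, hff, hrad⟩ := Cfsg.Agent.S0752.result B hA
  have hk : k = 0 := by
    by_contra hk
    have hpos : 0 < k := Nat.pos_of_ne_zero hk
    have h1 : b (Sum.inr ⟨0, hpos⟩) = 0 := hnd.1 _ (hrad ⟨0, hpos⟩)
    exact b.ne_zero _ h1
  subst hk
  have hcard : n = m' + m' + 0 := by
    have h1 := Module.finrank_eq_card_basis b
    rw [Module.finrank_fintype_fun_eq_card, Fintype.card_fin, Fintype.card_sum, Fintype.card_sum,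
      Fintype.card_fin, Fintype.card_fin] at h1
    exact h1
  have hmm : m' = m := by omega
  subst hmm
  obtain ⟨b', hb'⟩ : ∃ b' : Module.Basis (Fin m' ⊕ Fin m') F (Fin n → F),
      ∀ a, b' a = b (Sum.inl a) :=
    ⟨b.reindex (Equiv.sumEmpty (Fin m' ⊕ Fin m') (Fin 0)), fun a => by
      rw [Module.Basis.reindex_apply]
      rfl⟩
  have hJ : ∀ a c, B (b' a) (b' c) = - (Matrix.J (Fin m') F) a c := by
    intro a c
    rw [hb', hb']
    rcases a with i | i <;> rcases c with j | j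
    · rw [hee]
      simp [Matrix.J]
    · rw [hef]
      simp [Matrix.J, Matrix.one_apply]
    · rw [Cfsg.Agent.S0752.alt_swap hA, hef]
      simp [Matrix.J, Matrix.one_apply, eq_comm]
    · rw [hff]
      simp [Matrix.J]
  refine ⟨b'.equivFun, fun u v => ?_⟩
  rw [← hBM]
  conv_lhs => rw [← b'.sum_equivFun u, ← b'.sum_equivFun v]
  rw [sympForm_eq_bilM]
  unfold bilM
  simp only [map_sum, LinearMap.sum_apply, map_smul, LinearMap.smul_apply, smul_eq_mul, hJ,
    dotProduct, Matrix.mulVec, Finset.mul_sum, ← Finset.sum_neg_distrib]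
  rw [Finset.sum_comm]
  apply Finset.sum_congr rfl
  intro a _
  apply Finset.sum_congr rfl
  intro c _
  ring

end symp

section symm
variable {n : ℕ} {F : Type*} [Field F]

/-- the quadratic form `v ↦ v ⬝ M v` -/
noncomputable def QM (M : Matrix (Fin n) (Fin n) F) : QuadraticForm F (Fin n → F) :=
  (Matrix.toBilin' M).toQuadraticMap

theorem QM_apply (M : Matrix (Fin n) (Fin n) F) (v : Fin n → F) : QM M v = bilM M v v := by
  unfold QM
  rw [LinearMap.BilinMap.toQuadraticMap_apply, Matrix.toBilin'_apply']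
  rfl

theorem polar_QM (M : Matrix (Fin n) (Fin n) F) (hM : Mᵀ = M) (u v : Fin n → F) :
    polar (⇑(QM M)) u v = bilM ((2 : F) • M) u v := by
  unfold QM
  rw [LinearMap.BilinMap.polar_toQuadraticMap, Matrix.toBilin'_apply', Matrix.toBilin'_apply',
    bilM_smul]
  have h1 : v ⬝ᵥ M *ᵥ u = bilM M v u := rfl
  rw [h1, bilM_flip, hM]
  unfold bilM
  ring

theorem QM_nondeg (h2 : (2 : F) ≠ 0) (M : GL (Fin n) F)
    (hM : (M : Matrix (Fin n) (Fin n) F)ᵀ = (M : Matrix (Fin n) (Fin n) F)) :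
    (polarBilin (QM (M : Matrix (Fin n) (Fin n) F))).Nondegenerate := by
  have h1 : polarBilin (QM (M : Matrix (Fin n) (Fin n) F)) =
      Matrix.toBilin' ((2 : F) • (M : Matrix (Fin n) (Fin n) F)) := by
    apply LinearMap.ext
    intro u
    apply LinearMap.ext
    intro v
    rw [polarBilin_apply_apply, polar_QM _ hM, Matrix.toBilin'_apply']
    rfl
  rw [h1]
  apply LinearMap.BilinForm.nondegenerate_toBilin'_of_det_ne_zero'
  rw [Matrix.det_smul]
  exact mul_ne_zero (pow_ne_zero _ h2) (Matrix.isUnits_det_units M).ne_zero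

/-- two nondegenerate quadratic forms not isometric to a third one are isometric -/
theorem iso_of_not_iso [Fintype F] (h2 : (2 : F) ≠ 0) (Q Q₂ Q₃ : QuadraticForm F (Fin n → F))
    (hQ : (polarBilin Q).Nondegenerate) (hQ₂ : (polarBilin Q₂).Nondegenerate)
    (hQ₃ : (polarBilin Q₃).Nondegenerate)
    (h23 : ¬ ∃ g : (Fin n → F) ≃ₗ[F] (Fin n → F), ∀ v, Q₂ (g v) = Q₃ v) :
    (∃ g : (Fin n → F) ≃ₗ[F] (Fin n → F), ∀ v, Q₂ (g v) = Q v) ∨
    (∃ g : (Fin n → F) ≃ₗ[F] (Fin n → F), ∀ v, Q₃ (g v) = Q v) := by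
  by_cases h : ∃ g : (Fin n → F) ≃ₗ[F] (Fin n → F), ∀ v, Q₂ (g v) = Q v
  · exact Or.inl h
  right
  rw [Cfsg.Agent.S2623.result h2 Q₃ Q₂ hQ₃ hQ₂] at h23
  rw [Cfsg.Agent.S2623.result h2 Q Q₂ hQ hQ₂] at h
  rw [Cfsg.Agent.S2623.result h2 Q Q₃ hQ hQ₃]
  obtain ⟨d, hd⟩ : ∃ d : F, d = (Matrix.of (fun i j : Fin n =>
      polar (⇑Q) (Pi.single i 1) (Pi.single j 1))).det := ⟨_, rfl⟩
  obtain ⟨d₂, hd₂⟩ : ∃ d : F, d = (Matrix.of (fun i j : Fin n =>
      polar (⇑Q₂) (Pi.single i 1) (Pi.single j 1))).det := ⟨_, rfl⟩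
  obtain ⟨d₃, hd₃⟩ : ∃ d : F, d = (Matrix.of (fun i j : Fin n =>
      polar (⇑Q₃) (Pi.single i 1) (Pi.single j 1))).det := ⟨_, rfl⟩
  rw [← hd, ← hd₂] at h
  rw [← hd₃, ← hd₂] at h23
  rw [← hd, ← hd₃]
  have h1 := isSquare_mul_of_not h h23
  have hd₂0 : d₂ ≠ 0 := by
    rintro rfl
    exact h ⟨0, by rw [mul_zero, mul_zero]⟩
  obtain ⟨r, hr⟩ := h1
  refine ⟨r * d₂⁻¹, ?_⟩
  field_simp
  linear_combination hr

end symm

end Cfsg.Agent.helper14
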