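import Cfsg.Statements.S2622
import Mathlib

set_option autoImplicit false
open Cfsg

namespace Cfsg.Agent.S2622

open Module LinearMap LinearMap.BilinForm

universe u v

theorem main {F : Type u} [Field F] [Finite F] [CharP F 2] (n : ℕ) :
    ∀ (V : Type v) [AddCommGroup V] [Module F V] [FiniteDimensional F V] (B : LinearMap.BilinForm F V),
      Module.finrank F V = n → B.IsSymm → B.Nondegenerate → (n = 0 ∨ ∃ v : V, B v v ≠ 0) →
      ∃ b : Module.Basis (Fin n) F V, ∀ i j, B (b i) (b j) = if i = j then 1 else 0 := by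
  induction n with
  | zero =>
    intro V _ _ _ B hd _ _ _
    exact ⟨basisOfFinrankZero hd, fun i => i.elim0⟩
  | succ d ih =>
    intro V _ _ _ B hd hS hN hna
    have hone : (1 : F) + 1 = 0 := CharTwo.add_self_eq_zero 1
    obtain ⟨v₀, hv₀⟩ : ∃ v : V, B v v ≠ 0 := by
      rcases hna with h | h
      · omega
      · exact h
    -- normalise
    obtain ⟨s, hs⟩ : IsSquare (B v₀ v₀) := FiniteField.isSquare_of_char_two (ringChar.eq F 2) _
    have hs0 : s ≠ 0 := by
      rintro rfl
      apply hv₀
      rw [hs, mul_zero]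
    obtain ⟨v₁, hv₁⟩ : ∃ v : V, B v v = 1 := by
      refine ⟨s⁻¹ • v₀, ?_⟩
      simp only [map_smul, LinearMap.smul_apply, smul_eq_mul, hs]
      field_simp
    -- find a good vector
    obtain ⟨x, hx1, hgood⟩ : ∃ x : V, B x x = 1 ∧
        (d = 0 ∨ ∃ w ∈ B.orthogonal (F ∙ x), B w w ≠ 0) := by
      by_cases hd0 : d = 0
      · exact ⟨v₁, hv₁, Or.inl hd0⟩
      by_cases hw : ∃ w ∈ B.orthogonal (F ∙ v₁), B w w ≠ 0
      · exact ⟨v₁, hv₁, Or.inr hw⟩
      push Not at hw
      have hx : B v₁ v₁ ≠ 0 := by rw [hv₁]; exact one_ne_zero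
      have hfr : finrank F (B.orthogonal (F ∙ v₁)) = d := by
        have h1 := Submodule.finrank_add_eq_of_isCompl (LinearMap.BilinForm.isCompl_span_singleton_orthogonal hx)
        rw [finrank_span_singleton (ne_zero_of_map hx), hd] at h1
        omega
      have hNW := restrict_nondegenerate_orthogonal_spanSingleton B hN hS.isRefl hx
      have hWne : B.orthogonal (F ∙ v₁) ≠ ⊥ := by
        intro h
        rw [h, finrank_bot] at hfr
        exact hd0 hfr.symm
      obtain ⟨e, heW, he0⟩ := Submodule.exists_mem_ne_zero_of_ne_bot hWne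
      obtain ⟨f₀, hf₀W, hef₀⟩ : ∃ f ∈ B.orthogonal (F ∙ v₁), B e f ≠ 0 := by
        by_contra hcon
        push Not at hcon
        apply he0
        have := hNW.1 ⟨e, heW⟩ (fun y => hcon y.1 y.2)
        exact congrArg Subtype.val this
      set f : V := (B e f₀)⁻¹ • f₀ with hf
      have hfW : f ∈ B.orthogonal (F ∙ v₁) := Submodule.smul_mem _ _ hf₀W
      have hef : B e f = 1 := by
        rw [hf, map_smul, smul_eq_mul, inv_mul_cancel₀ hef₀]
      have hve : B v₁ e = 0 := heW v₁ (Submodule.mem_span_singleton_self v₁)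
      have hvf : B v₁ f = 0 := hfW v₁ (Submodule.mem_span_singleton_self v₁)
      have hev : B e v₁ = 0 := by rw [hS.eq]; exact hve
      have hfv : B f v₁ = 0 := by rw [hS.eq]; exact hvf
      have hee : B e e = 0 := hw e heW
      have hff : B f f = 0 := hw f hfW
      refine ⟨v₁ + e, ?_, Or.inr ⟨v₁ + f, ?_, ?_⟩⟩
      · simp only [map_add, LinearMap.add_apply, hv₁, hve, hev, hee]
        ring
      · intro y hy
        obtain ⟨a, rfl⟩ := Submodule.mem_span_singleton.1 hy
        simp only [map_add, map_smul, LinearMap.add_apply, LinearMap.smul_apply, hv₁, hvf, hev, hef, smul_eq_mul]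
        linear_combination a * hone
      · simp only [map_add, LinearMap.add_apply, hv₁, hvf, hfv, hff]
        norm_num
    have hx : B x x ≠ 0 := by rw [hx1]; exact one_ne_zero
    have hfr : finrank F (B.orthogonal (F ∙ x)) = d := by
      have h1 := Submodule.finrank_add_eq_of_isCompl (LinearMap.BilinForm.isCompl_span_singleton_orthogonal hx)
      rw [finrank_span_singleton (ne_zero_of_map hx), hd] at h1
      omega
    have hNW := restrict_nondegenerate_orthogonal_spanSingleton B hN hS.isRefl hx
    have hgood' : d = 0 ∨ ∃ w : B.orthogonal (F ∙ x), (B.restrict (B.orthogonal (F ∙ x))) w w ≠ 0 := by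
      rcases hgood with h | ⟨w, hwW, hw⟩
      · exact Or.inl h
      · exact Or.inr ⟨⟨w, hwW⟩, hw⟩
    obtain ⟨b', hb'⟩ := ih (B.orthogonal (F ∙ x)) (B.restrict (B.orthogonal (F ∙ x))) hfr
      (hS.restrict _) hNW hgood'
    let b := Basis.mkFinCons x b'
      (by
        rintro c y hy hc
        rw [add_eq_zero_iff_neg_eq] at hc
        rw [← hc, Submodule.neg_mem_iff] at hy
        have := (LinearMap.BilinForm.isCompl_span_singleton_orthogonal hx).disjoint
        rw [Submodule.disjoint_def] at this
        have := this (c • x) (Submodule.smul_mem _ _ <| Submodule.mem_span_singleton_self _) hy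
        exact (smul_eq_zero.1 this).resolve_right fun h => hx <| h.symm ▸ map_zero _)
      (by
        intro y
        refine ⟨-B x y / B x x, fun z hz => ?_⟩
        obtain ⟨c, rfl⟩ := Submodule.mem_span_singleton.1 hz
        rw [map_smul, LinearMap.smul_apply, map_add, map_smul, smul_eq_mul, smul_eq_mul,
          div_mul_cancel₀ _ hx, add_neg_cancel, mul_zero])
    refine ⟨b, ?_⟩
    have hbcoe : (b : Fin (d + 1) → V) = Fin.cons x (fun i => ((b' i : B.orthogonal (F ∙ x)) : V)) := by
      rw [Basis.coe_mkFinCons]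
      rfl
    intro i j
    rw [hbcoe]
    refine Fin.cases ?_ (fun i => ?_) i <;> refine Fin.cases ?_ (fun j => ?_) j <;>
      simp only [Fin.cons_zero, Fin.cons_succ]
    · simp [hx1]
    · rw [if_neg (Fin.succ_ne_zero j).symm]
      exact (b' j).prop _ (Submodule.mem_span_singleton_self x)
    · rw [if_neg (Fin.succ_ne_zero i), hS.eq]
      exact (b' i).prop _ (Submodule.mem_span_singleton_self x)
    · have := hb' i j
      simp only [Fin.succ_inj]
      exact this

/-- Over a finite field of characteristic two, a non-degenerate symmetric bilinear form that is not alternating (some vector v has B(v, v) ≠ 0) admits an orthonormal basis. -/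
theorem result {F V : Type*} [Field F] [Finite F] [CharP F 2] [AddCommGroup V] [Module F V] [FiniteDimensional F V] {n : ℕ} (hV : Module.finrank F V = n) (B : LinearMap.BilinForm F V) (hS : B.IsSymm) (hB : B.Nondegenerate) (hna : ∃ v : V, B v v ≠ 0) : ∃ b : Module.Basis (Fin n) F V, ∀ i j, B (b i) (b j) = if i = j then 1 else 0 :=
  main n V B hV hS hB (Or.inr hna)

end Cfsg.Agent.S2622
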