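import Mathlib
import Cfsg.Agent.Lib_helper14_GraphD
import Cfsg.Agent.S2622
import Cfsg.Agent.S2623
import Cfsg.Agent.S0752

set_option autoImplicit false
set_option linter.unusedSectionVars false
set_option linter.unusedVariables false

namespace Cfsg.Agent.helper14

open Matrix QuadraticMap Module

section general

theorem conjUnder_of_two {X : Type*} [Group X] (H : Subgroup X) {x y z : X}
    (h1 : Cfsg.IsConjUnder H x y) (h2 : Cfsg.IsConjUnder H x z) : Cfsg.IsConjUnder H y z := by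
  obtain ⟨a, ha, rfl⟩ := h1
  obtain ⟨b, hb, rfl⟩ := h2
  refine ⟨b * a⁻¹, H.mul_mem hb (H.inv_mem ha), ?_⟩
  group

theorem centralizer_conj_iso {X : Type*} [Group X] (H : Subgroup X) {x y : X}
    (h : Cfsg.IsConjUnder H x y) :
    Nonempty (↥(H ⊓ Subgroup.centralizer {x}) ≃* ↥(H ⊓ Subgroup.centralizer {y})) := by
  obtain ⟨a, ha, rfl⟩ := h
  have hmem : ∀ z : X, z ∈ H ⊓ Subgroup.centralizer {x} →
      a * z * a⁻¹ ∈ H ⊓ Subgroup.centralizer {a * x * a⁻¹} := by
    intro z hz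
    rw [Subgroup.mem_inf, Subgroup.mem_centralizer_iff] at hz ⊢
    refine ⟨H.mul_mem (H.mul_mem ha hz.1) (H.inv_mem ha), ?_⟩
    intro h hh
    rw [Set.mem_singleton_iff] at hh
    subst hh
    have e := hz.2 x (Set.mem_singleton x)
    calc a * x * a⁻¹ * (a * z * a⁻¹) = a * (x * z) * a⁻¹ := by group
      _ = a * (z * x) * a⁻¹ := by rw [e]
      _ = a * z * a⁻¹ * (a * x * a⁻¹) := by group
  have hmem' : ∀ z : X, z ∈ H ⊓ Subgroup.centralizer {a * x * a⁻¹} →
      a⁻¹ * z * a ∈ H ⊓ Subgroup.centralizer {x} := by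
    intro z hz
    rw [Subgroup.mem_inf, Subgroup.mem_centralizer_iff] at hz ⊢
    refine ⟨H.mul_mem (H.mul_mem (H.inv_mem ha) hz.1) ha, ?_⟩
    intro h hh
    rw [Set.mem_singleton_iff] at hh
    subst hh
    have e := hz.2 (a * h * a⁻¹) (Set.mem_singleton _)
    calc h * (a⁻¹ * z * a) = a⁻¹ * (a * h * a⁻¹ * z) * a := by group
      _ = a⁻¹ * (z * (a * h * a⁻¹)) * a := by rw [e]
      _ = a⁻¹ * z * a * h := by group
  exact ⟨{ toFun := fun z => ⟨a * z.1 * a⁻¹, hmem z.1 z.2⟩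
           invFun := fun z => ⟨a⁻¹ * z.1 * a, hmem' z.1 z.2⟩
           left_inv := fun z => Subtype.ext (by
             show a⁻¹ * (a * z.1 * a⁻¹) * a = z.1
             group)
           right_inv := fun z => Subtype.ext (by
             show a * (a⁻¹ * z.1 * a) * a⁻¹ = z.1
             group)
           map_mul' := fun z w => Subtype.ext (by
             show a * (z.1 * w.1) * a⁻¹ = (a * z.1 * a⁻¹) * (a * w.1 * a⁻¹)
             group) }⟩

variable {κ : Type} [Fintype κ] [DecidableEq κ] {F : Type*} [Field F]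

theorem proj_iso_of_split {S : Type*} [Group S]
    (j : S →* GL κ F) (H : Subgroup (GL κ F)) (hjH : ∀ s, j s ∈ H)
    (ha : ∀ g ∈ H, ∃ (d : Fˣ) (s : S),
      (g : Matrix κ κ F) = (d : F) • ((j s : GL κ F) : Matrix κ κ F))
    (hb : ∀ s, j s ∈ Cfsg.Geo.scalars κ F → s = 1) :
    Nonempty (S ≃* Cfsg.projQuot H) := by
  obtain ⟨f, hf⟩ : ∃ f : S →* Cfsg.projQuot H,
      f = (QuotientGroup.mk' _).comp (j.codRestrict H hjH) := ⟨_, rfl⟩
  have hinj : Function.Injective f := by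
    rw [injective_iff_map_eq_one]
    intro s hs
    rw [hf, MonoidHom.comp_apply, QuotientGroup.mk'_apply, QuotientGroup.eq_one_iff,
      Subgroup.mem_subgroupOf] at hs
    exact hb s hs
  have hsurj : Function.Surjective f := by
    intro x
    induction x using QuotientGroup.induction_on with
    | H g =>
      obtain ⟨d, s, hds⟩ := ha g.1 g.2
      refine ⟨s, ?_⟩
      rw [hf, MonoidHom.comp_apply, QuotientGroup.mk'_apply, QuotientGroup.eq,
        Subgroup.mem_subgroupOf, Cfsg.Geo.mem_scalars_iff]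
      refine ⟨d, ?_⟩
      show (((j s)⁻¹ * g.1 : GL κ F) : Matrix κ κ F) = (d : F) • 1
      rw [Units.val_mul, hds, Matrix.mul_smul, ← Units.val_mul, inv_mul_cancel, Units.val_one]
  exact ⟨MulEquiv.ofBijective f ⟨hinj, hsurj⟩⟩

/-- symplectic matrices as invertible matrices -/
noncomputable def spGLHom (m : ℕ) (F : Type*) [Field F] :
    ↥(Matrix.symplecticGroup (Fin m) F) →* GL (Fin m ⊕ Fin m) F :=
  (Units.map (Matrix.symplecticGroup (Fin m) F).subtype).comp
    (toUnits (G := ↥(Matrix.symplecticGroup (Fin m) F))).toMonoidHom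

theorem spGLHom_val (m : ℕ) (s : ↥(Matrix.symplecticGroup (Fin m) F)) :
    ((spGLHom m F s : GL (Fin m ⊕ Fin m) F) : Matrix (Fin m ⊕ Fin m) (Fin m ⊕ Fin m) F) =
      (s : Matrix (Fin m ⊕ Fin m) (Fin m ⊕ Fin m) F) := rfl

theorem spGLHom_injective (m : ℕ) : Function.Injective (spGLHom m F) := by
  intro s t h
  apply Subtype.ext
  rw [← spGLHom_val, ← spGLHom_val, h]

theorem scalarGL_val (c : Fˣ) :
    ((Matrix.GeneralLinearGroup.scalar κ c : GL κ F) : Matrix κ κ F) =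
      (c : F) • (1 : Matrix κ κ F) := by
  rw [Matrix.GeneralLinearGroup.coe_scalar]
  ext i j
  simp [Matrix.scalar_apply, Matrix.diagonal_apply, Matrix.one_apply]

theorem bilM_add_left {ι : Type*} [Fintype ι] (M : Matrix ι ι F) (u u' v : ι → F) :
    bilM M (u + u') v = bilM M u v + bilM M u' v := by
  unfold bilM
  rw [add_dotProduct]

theorem bilM_add_right {ι : Type*} [Fintype ι] (M : Matrix ι ι F) (u v v' : ι → F) :
    bilM M u (v + v') = bilM M u v + bilM M u v' := by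
  unfold bilM
  rw [Matrix.mulVec_add, dotProduct_add]

theorem bilM_smul_left {ι : Type*} [Fintype ι] (M : Matrix ι ι F) (c : F) (u v : ι → F) :
    bilM M (c • u) v = c * bilM M u v := by
  unfold bilM
  rw [smul_dotProduct, smul_eq_mul]

theorem bilM_smul_right {ι : Type*} [Fintype ι] (M : Matrix ι ι F) (c : F) (u v : ι → F) :
    bilM M u (c • v) = c * bilM M u v := by
  unfold bilM
  rw [Matrix.mulVec_smul, dotProduct_smul, smul_eq_mul]

theorem bilM_sub_left {ι : Type*} [Fintype ι] (M : Matrix ι ι F) (u u' v : ι → F) :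
    bilM M (u - u') v = bilM M u v - bilM M u' v := by
  unfold bilM
  rw [sub_dotProduct]

theorem symm_of_odd {n : ℕ} (hn : Odd n) (N : GL (Fin n) F) (c : F) (hc : c = 1 ∨ c = -1)
    (h : (N : Matrix (Fin n) (Fin n) F)ᵀ = c • (N : Matrix (Fin n) (Fin n) F)) :
    (N : Matrix (Fin n) (Fin n) F)ᵀ = (N : Matrix (Fin n) (Fin n) F) := by
  rcases hc with rfl | rfl
  · rw [h, one_smul]
  · by_cases h2 : (2 : F) = 0
    · have h3 : (-1 : F) = 1 := by linear_combination (-1 : F) * h2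
      rw [h, h3, one_smul]
    · exfalso
      have h1 := congrArg Matrix.det h
      rw [Matrix.det_transpose, Matrix.det_smul, Fintype.card_fin, Odd.neg_one_pow hn] at h1
      have h3 : (2 : F) * (N : Matrix (Fin n) (Fin n) F).det = 0 := by linear_combination h1
      rcases mul_eq_zero.mp h3 with h4 | h4
      · exact h2 h4
      · exact (Matrix.isUnits_det_units N).ne_zero h4

theorem exists_nonalt_of_odd {n : ℕ} (hn : Odd n) (M : Matrix (Fin n) (Fin n) F)
    (hd : M.det ≠ 0) : ∃ v, bilM M v v ≠ 0 := by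
  by_contra hcon
  push Not at hcon
  obtain ⟨B, hB⟩ : ∃ B : LinearMap.BilinForm F (Fin n → F), B = Matrix.toBilin' M := ⟨_, rfl⟩
  have hBa : ∀ u v, B u v = bilM M u v := by
    intro u v
    rw [hB, Matrix.toBilin'_apply']
    rfl
  have hA : B.IsAlt := fun x => by rw [hBa]; exact hcon x
  have hnd : B.Nondegenerate := by
    rw [hB, LinearMap.BilinForm.nondegenerate_toBilin'_iff_det_ne_zero]
    exact hd
  obtain ⟨m, k, b, -, -, -, hrad⟩ := Cfsg.Agent.S0752.result B hA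
  have hk : k = 0 := by
    by_contra hk0
    have hpos : 0 < k := Nat.pos_of_ne_zero hk0
    have h0 : b (Sum.inr ⟨0, hpos⟩) = 0 := hnd.1 _ (hrad ⟨0, hpos⟩)
    exact b.ne_zero _ h0
  have h1 := Module.finrank_eq_card_basis b
  rw [Module.finrank_fin_fun, Fintype.card_sum, Fintype.card_sum, Fintype.card_fin,
    Fintype.card_fin, hk] at h1
  obtain ⟨r, hr⟩ := hn
  omega

end general

section chartwo

variable {F : Type*} [Field F] [Fintype F] [CharP F 2]

theorem exists_sqrt_char2 (c : F) : ∃ d : F, d * d = c := by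
  obtain ⟨d, hd⟩ := FiniteField.isSquare_of_char_two (ringChar.eq F 2) c
  exact ⟨d, hd.symm⟩

theorem eq_of_sq_eq_char2 {a b : F} (h : a * a = b * b) : a = b := by
  apply CharTwo.sq_injective (R := F)
  show a ^ 2 = b ^ 2
  rw [pow_two, pow_two, h]

theorem exists_orthonormal_equiv {ι : Type} [Fintype ι] [DecidableEq ι]
    (M : Matrix ι ι F) (hs : Mᵀ = M) (hd : M.det ≠ 0) (hna : ∃ v, bilM M v v ≠ 0) (n : ℕ)
    (hn : Fintype.card ι = n) :
    ∃ g : (ι → F) ≃ₗ[F] (Fin n → F), ∀ u v, bilM M u v = g u ⬝ᵥ g v := by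
  obtain ⟨B, hB⟩ : ∃ B : LinearMap.BilinForm F (ι → F), B = Matrix.toBilin' M := ⟨_, rfl⟩
  have hBa : ∀ u v, B u v = bilM M u v := by
    intro u v
    rw [hB, Matrix.toBilin'_apply']
    rfl
  have hS : B.IsSymm := ⟨fun x y => by
    show B x y = B y x
    rw [hBa, hBa, bilM_flip M x y, hs]⟩
  have hnd : B.Nondegenerate := by
    rw [hB, LinearMap.BilinForm.nondegenerate_toBilin'_iff_det_ne_zero]
    exact hd
  have hV : Module.finrank F (ι → F) = n := by
    rw [Module.finrank_fintype_fun_eq_card, hn]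
  obtain ⟨b, hb⟩ := Cfsg.Agent.S2622.result hV B hS hnd (by
    obtain ⟨v, hv⟩ := hna
    exact ⟨v, by rw [hBa]; exact hv⟩)
  refine ⟨b.equivFun, fun u v => ?_⟩
  rw [← hBa]
  have hu : ∑ i, b.equivFun u i • b i = u := b.sum_equivFun u
  have hv : ∑ i, b.equivFun v i • b i = v := b.sum_equivFun v
  have h1 : ∀ w, B (∑ i, b.equivFun u i • b i) w = ∑ i, b.equivFun u i * B (b i) w := by
    intro w
    simp only [map_sum, map_smul, LinearMap.sum_apply, LinearMap.smul_apply, smul_eq_mul]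
  have h2 : ∀ i, B (b i) (∑ j, b.equivFun v j • b j) = ∑ j, b.equivFun v j * B (b i) (b j) := by
    intro i
    simp only [map_sum, map_smul, smul_eq_mul]
  calc B u v = B (∑ i, b.equivFun u i • b i) (∑ j, b.equivFun v j • b j) := by rw [hu, hv]
    _ = ∑ i, b.equivFun u i * ∑ j, b.equivFun v j * B (b i) (b j) := by
        rw [h1]
        apply Finset.sum_congr rfl
        intro i _
        rw [h2]
    _ = b.equivFun u ⬝ᵥ b.equivFun v := by
        simp only [hb, mul_ite, mul_one, mul_zero, Finset.sum_ite_eq, Finset.mem_univ, if_true]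
        rfl

theorem exists_equiv_of_nonalt {ι κ : Type} [Fintype ι] [DecidableEq ι] [Fintype κ]
    [DecidableEq κ] (M₁ : Matrix ι ι F) (M₂ : Matrix κ κ F) (hs₁ : M₁ᵀ = M₁) (hs₂ : M₂ᵀ = M₂)
    (hd₁ : M₁.det ≠ 0) (hd₂ : M₂.det ≠ 0) (hna₁ : ∃ v, bilM M₁ v v ≠ 0)
    (hna₂ : ∃ v, bilM M₂ v v ≠ 0) (hcard : Fintype.card ι = Fintype.card κ) :
    ∃ g : (ι → F) ≃ₗ[F] (κ → F), ∀ u v, bilM M₁ u v = bilM M₂ (g u) (g v) := by
  obtain ⟨g₁, hg₁⟩ := exists_orthonormal_equiv M₁ hs₁ hd₁ hna₁ (Fintype.card κ) hcard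
  obtain ⟨g₂, hg₂⟩ := exists_orthonormal_equiv M₂ hs₂ hd₂ hna₂ (Fintype.card κ) rfl
  refine ⟨g₁.trans g₂.symm, fun u v => ?_⟩
  rw [hg₁, hg₂]
  show g₁ u ⬝ᵥ g₁ v = g₂ (g₂.symm (g₁ u)) ⬝ᵥ g₂ (g₂.symm (g₁ v))
  rw [g₂.apply_symm_apply, g₂.apply_symm_apply]

end chartwo

section oddq

variable {F : Type*} [Field F] [Fintype F] {n : ℕ}

theorem gram_eq_gq (Q : QuadraticForm F (Fin n → F)) (hQ : (polarBilin Q).Nondegenerate) :
    Matrix.of (fun i j : Fin n => polar (⇑Q) (Pi.single i 1) (Pi.single j 1)) =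
      ((gq Q hQ : GL (Fin n) F) : Matrix (Fin n) (Fin n) F) := by
  ext i j
  rw [Matrix.of_apply, ← bilM_gq Q hQ, bilM_single]

theorem conj_std_odd (h2 : (2 : F) ≠ 0) {m : ℕ} (hnm : n = 2 * m + 1)
    (Q₀ : QuadraticForm F (Fin n → F)) (hQ₀ : (polarBilin Q₀).Nondegenerate)
    (M : GL (Fin n) F)
    (hM : (M : Matrix (Fin n) (Fin n) F)ᵀ = (M : Matrix (Fin n) (Fin n) F)) :
    Cfsg.IsConjUnder (Cfsg.inndiagPSL n F) (gam (gq Q₀ hQ₀)) (gam M) := by
  have hQn := QM_nondeg h2 M hM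
  obtain ⟨Q, hQ⟩ : ∃ Q : QuadraticForm F (Fin n → F),
      Q = QM (M : Matrix (Fin n) (Fin n) F) := ⟨_, rfl⟩
  rw [← hQ] at hQn
  obtain ⟨d, hd⟩ : ∃ d : F, d = (Matrix.of (fun i j : Fin n =>
      polar (⇑Q) (Pi.single i 1) (Pi.single j 1))).det := ⟨_, rfl⟩
  obtain ⟨d₀, hd₀⟩ : ∃ d : F, d = (Matrix.of (fun i j : Fin n =>
      polar (⇑Q₀) (Pi.single i 1) (Pi.single j 1))).det := ⟨_, rfl⟩
  have hdne : d ≠ 0 := by
    rw [hd, gram_eq_gq Q hQn]
    exact (Matrix.isUnits_det_units _).ne_zero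
  have hd₀ne : d₀ ≠ 0 := by
    rw [hd₀, gram_eq_gq Q₀ hQ₀]
    exact (Matrix.isUnits_det_units _).ne_zero
  obtain ⟨c, hc⟩ : ∃ c : F, c = d * d₀ := ⟨_, rfl⟩
  have hcne : c ≠ 0 := by rw [hc]; exact mul_ne_zero hdne hd₀ne
  have hcQ : ∀ v, (c • Q) v = c * Q v := fun v => by
    rw [_root_.smul_apply, smul_eq_mul]
  have hpol : ∀ u v, polar (⇑(c • Q)) u v = c * polar (⇑Q) u v := by
    intro u v
    unfold polar
    rw [hcQ, hcQ, hcQ]
    ring
  have hQc : (polarBilin (c • Q)).Nondegenerate := by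
    refine ⟨?_, ?_⟩
    · intro u hu
      apply hQn.1 u
      intro v
      have h3 := hu v
      rw [polarBilin_apply_apply, hpol] at h3
      rw [polarBilin_apply_apply]
      exact (mul_eq_zero.mp h3).resolve_left hcne
    · intro v hv
      apply hQn.2 v
      intro u
      have h3 := hv u
      rw [polarBilin_apply_apply, hpol] at h3
      rw [polarBilin_apply_apply]
      exact (mul_eq_zero.mp h3).resolve_left hcne
  have hgram : Matrix.of (fun i j : Fin n =>
      polar (⇑(c • Q)) (Pi.single i 1) (Pi.single j 1)) =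
      c • Matrix.of (fun i j : Fin n => polar (⇑Q) (Pi.single i 1) (Pi.single j 1)) := by
    ext i j
    rw [Matrix.smul_apply, Matrix.of_apply, Matrix.of_apply, hpol, smul_eq_mul]
  have hiso := (Cfsg.Agent.S2623.result h2 (c • Q) Q₀ hQc hQ₀).mpr (by
    rw [hgram, Matrix.det_smul, Fintype.card_fin, ← hd, ← hd₀]
    refine ⟨c ^ (m + 1), ?_⟩
    rw [hnm, hc]
    ring)
  obtain ⟨g, hg⟩ := hiso
  apply conj_of_form _ _ g (2 * c) (mul_ne_zero h2 hcne)
  intro u v
  rw [bilM_gq]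
  unfold polar
  rw [← map_add, hg, hg, hg, hcQ, hcQ, hcQ, hQ, QM_apply, QM_apply, QM_apply]
  have h3 : bilM (M : Matrix (Fin n) (Fin n) F) v u = bilM (M : Matrix (Fin n) (Fin n) F) u v := by
    rw [bilM_flip, hM]
  rw [bilM_add_left, bilM_add_right, bilM_add_right, h3]
  ring

end oddq

end Cfsg.Agent.helper14
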