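import Mathlib
import Cfsg.Prelude.Def_RootSubgroups
import Cfsg.Prelude.Def_ClassicalGeometry
import Cfsg.Agent.Lib_helper4_Symp
import Cfsg.Agent.S0765
import Cfsg.Agent.S0766

set_option autoImplicit false

namespace Cfsg.Agent.helper29.SpRoot
open Matrix Cfsg Cfsg.Agent.helper4
open scoped commutatorElement

variable {F : Type*} [Field F] {m : ℕ}

local notation "ff" => Cfsg.sympForm _ _

/-- transvection as a group element -/
def tau (p : Fin m ⊕ Fin m → F) (c : F) : Matrix.symplecticGroup (Fin m) F :=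
  ⟨Cfsg.sympTransvection m p c, sympTransvection_mem p c⟩

/-- the action on vectors -/
def act (g : Matrix.symplecticGroup (Fin m) F) (v : Fin m ⊕ Fin m → F) : Fin m ⊕ Fin m → F :=
  (g : Matrix (Fin m ⊕ Fin m) (Fin m ⊕ Fin m) F) *ᵥ v

theorem act_mul (g h : Matrix.symplecticGroup (Fin m) F) (v : Fin m ⊕ Fin m → F) :
    act (g * h) v = act g (act h v) := by
  unfold act
  rw [Submonoid.coe_mul, ← Matrix.mulVec_mulVec]

theorem act_one (v : Fin m ⊕ Fin m → F) : act (1 : Matrix.symplecticGroup (Fin m) F) v = v := by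
  unfold act
  rw [Submonoid.coe_one, Matrix.one_mulVec]

theorem act_inv_act (g : Matrix.symplecticGroup (Fin m) F) (v : Fin m ⊕ Fin m → F) :
    act g⁻¹ (act g v) = v := by
  rw [← act_mul, inv_mul_cancel, act_one]

theorem act_act_inv (g : Matrix.symplecticGroup (Fin m) F) (v : Fin m ⊕ Fin m → F) :
    act g (act g⁻¹ v) = v := by
  rw [← act_mul, mul_inv_cancel, act_one]

theorem act_add (g : Matrix.symplecticGroup (Fin m) F) (v w : Fin m ⊕ Fin m → F) :
    act g (v + w) = act g v + act g w := Matrix.mulVec_add _ _ _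

theorem act_smul (g : Matrix.symplecticGroup (Fin m) F) (c : F) (v : Fin m ⊕ Fin m → F) :
    act g (c • v) = c • act g v := Matrix.mulVec_smul _ _ _

theorem form_act (g : Matrix.symplecticGroup (Fin m) F) (v w : Fin m ⊕ Fin m → F) :
    Cfsg.sympForm m F (act g v) (act g w) = Cfsg.sympForm m F v w :=
  Cfsg.Agent.S0766.sympForm_mulVec g v w

theorem form_act_inv (g : Matrix.symplecticGroup (Fin m) F) (v w : Fin m ⊕ Fin m → F) :
    Cfsg.sympForm m F (act g⁻¹ v) w = Cfsg.sympForm m F v (act g w) := by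
  rw [← form_act g (act g⁻¹ v) w, act_act_inv]

theorem ext_act {g h : Matrix.symplecticGroup (Fin m) F} (H : ∀ v, act g v = act h v) : g = h := by
  apply Subtype.ext
  apply Matrix.toLin'.injective
  apply LinearMap.ext
  intro v
  rw [Matrix.toLin'_apply, Matrix.toLin'_apply]
  exact H v

theorem act_tau (p : Fin m ⊕ Fin m → F) (c : F) (v : Fin m ⊕ Fin m → F) :
    act (tau p c) v = v + (c * Cfsg.sympForm m F v p) • p :=
  sympTransvection_mulVec p c v

theorem tau_mul (p : Fin m ⊕ Fin m → F) (c d : F) : tau p c * tau p d = tau p (c + d) :=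
  Subtype.ext (sympTransvection_mul p c d)

theorem tau_zero (p : Fin m ⊕ Fin m → F) : tau p (0 : F) = 1 :=
  Subtype.ext (sympTransvection_zero p)

theorem tau_inv (p : Fin m ⊕ Fin m → F) (c : F) : (tau p c)⁻¹ = tau p (-c) := by
  rw [inv_eq_iff_mul_eq_one, tau_mul, add_neg_cancel, tau_zero]

theorem tau_smul (p : Fin m ⊕ Fin m → F) (l c : F) : tau (l • p) c = tau p (l ^ 2 * c) := by
  apply ext_act
  intro v
  rw [act_tau, act_tau, sympForm_smul_right, smul_smul]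
  congr 2
  ring

theorem conj_tau (g : Matrix.symplecticGroup (Fin m) F) (p : Fin m ⊕ Fin m → F) (c : F) :
    g * tau p c * g⁻¹ = tau (act g p) c := by
  apply ext_act
  intro v
  rw [act_mul, act_mul, act_tau, act_tau, act_add, act_act_inv, act_smul, form_act_inv]

theorem form_zero_right (v : Fin m ⊕ Fin m → F) : Cfsg.sympForm m F v 0 = 0 := by
  rw [sympForm_swap, Cfsg.Agent.S0766.sympForm_zero_left, neg_zero]

theorem nondeg (p : Fin m ⊕ Fin m → F) (hp : p ≠ 0) : ∃ v, Cfsg.sympForm m F v p ≠ 0 := by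
  by_contra hcon
  push_neg at hcon
  apply hp
  have h1 : Matrix.J (Fin m) F *ᵥ p = 0 := by
    funext i
    have := hcon (Pi.single i 1)
    unfold Cfsg.sympForm at this
    rw [single_dotProduct, one_mul] at this
    exact this
  have h2 := J_mulVec_J_mulVec p
  rw [h1, Matrix.mulVec_zero] at h2
  exact neg_eq_zero.mp h2.symm

theorem exists_partner (p : Fin m ⊕ Fin m → F) (hp : p ≠ 0) : ∃ v, Cfsg.sympForm m F p v = 1 := by
  obtain ⟨v, hv⟩ := nondeg p hp
  refine ⟨(-(Cfsg.sympForm m F v p)⁻¹) • v, ?_⟩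
  rw [sympForm_smul_right, sympForm_swap p v]
  field_simp

theorem tau_eq_one_iff (p : Fin m ⊕ Fin m → F) (hp : p ≠ 0) (c : F) : tau p c = 1 ↔ c = 0 := by
  constructor
  · intro h
    obtain ⟨v, hv⟩ := nondeg p hp
    have h1 := act_tau p c v
    rw [h, act_one] at h1
    have h2 : (c * Cfsg.sympForm m F v p) • p = 0 := by
      have := h1.symm
      rwa [add_eq_left] at this
    rcases smul_eq_zero.mp h2 with h3 | h3
    · rcases mul_eq_zero.mp h3 with h4 | h4
      · exact h4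
      · exact absurd h4 hv
    · exact absurd h3 hp
  · intro h
    rw [h, tau_zero]

/-- The transvection group of a vector. -/
def Tp (p : Fin m ⊕ Fin m → F) : Subgroup (Matrix.symplecticGroup (Fin m) F) where
  carrier := {g | ∃ c : F, g = tau p c}
  one_mem' := ⟨0, (tau_zero p).symm⟩
  mul_mem' := by
    rintro a b ⟨c, rfl⟩ ⟨d, rfl⟩
    exact ⟨c + d, tau_mul p c d⟩
  inv_mem' := by
    rintro a ⟨c, rfl⟩
    exact ⟨-c, tau_inv p c⟩

theorem mem_Tp {p : Fin m ⊕ Fin m → F} {g : Matrix.symplecticGroup (Fin m) F} :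
    g ∈ Tp p ↔ ∃ c : F, g = tau p c := Iff.rfl

theorem tau_mem (p : Fin m ⊕ Fin m → F) (c : F) : tau p c ∈ Tp p := ⟨c, rfl⟩

theorem Tp_smul (p : Fin m ⊕ Fin m → F) (l : F) (hl : l ≠ 0) : Tp (l • p) = Tp p := by
  ext g
  constructor
  · rintro ⟨c, rfl⟩
    exact ⟨l ^ 2 * c, tau_smul p l c⟩
  · rintro ⟨c, rfl⟩
    refine ⟨(l ^ 2)⁻¹ * c, ?_⟩
    rw [tau_smul]
    congr 1
    field_simp

theorem conj_Tp (g : Matrix.symplecticGroup (Fin m) F) (p : Fin m ⊕ Fin m → F) :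
    Cfsg.conjBy (Tp p) g = Tp (act g p) := by
  ext x
  constructor
  · rintro ⟨y, ⟨c, rfl⟩, rfl⟩
    exact ⟨c, conj_tau g p c⟩
  · rintro ⟨c, rfl⟩
    exact ⟨tau p c, tau_mem p c, conj_tau g p c⟩

theorem Tp_comm (p : Fin m ⊕ Fin m → F) : ∀ a ∈ Tp p, ∀ b ∈ Tp p, a * b = b * a := by
  rintro a ⟨c, rfl⟩ b ⟨d, rfl⟩
  rw [tau_mul, tau_mul, add_comm]

theorem Tp_ne_bot (p : Fin m ⊕ Fin m → F) (hp : p ≠ 0) : Tp p ≠ ⊥ := by
  intro h
  have h1 : tau p (1 : F) ∈ (⊥ : Subgroup (Matrix.symplecticGroup (Fin m) F)) := h ▸ tau_mem p 1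
  rw [Subgroup.mem_bot, tau_eq_one_iff p hp] at h1
  exact one_ne_zero h1

/-- The set defining the transvection group in the statement. -/
theorem closure_eq_Tp (p : Fin m ⊕ Fin m → F) :
    Subgroup.closure {g : ↥(Matrix.symplecticGroup (Fin m) F) | ∃ c : F, ∀ v : Fin m ⊕ Fin m → F,
      (g : Matrix (Fin m ⊕ Fin m) (Fin m ⊕ Fin m) F) *ᵥ v =
        v + (c * (v ⬝ᵥ (Matrix.J (Fin m) F *ᵥ p))) • p} = Tp p := by
  have : {g : ↥(Matrix.symplecticGroup (Fin m) F) | ∃ c : F, ∀ v : Fin m ⊕ Fin m → F,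
      (g : Matrix (Fin m ⊕ Fin m) (Fin m ⊕ Fin m) F) *ᵥ v =
        v + (c * (v ⬝ᵥ (Matrix.J (Fin m) F *ᵥ p))) • p} = (Tp p : Set _) := by
    ext g
    constructor
    · rintro ⟨c, hc⟩
      refine ⟨c, ext_act fun v => ?_⟩
      rw [act_tau]
      exact hc v
    · rintro ⟨c, rfl⟩
      refine ⟨c, fun v => ?_⟩
      exact act_tau p c v
  rw [this, Subgroup.closure_eq]


theorem act_tau_tau (p p' : Fin m ⊕ Fin m → F) (c d : F) (v : Fin m ⊕ Fin m → F) :
    act (tau p c * tau p' d) v = v + (d * Cfsg.sympForm m F v p') • p' +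
      (c * (Cfsg.sympForm m F v p + d * Cfsg.sympForm m F v p' * Cfsg.sympForm m F p' p)) • p := by
  rw [act_mul, act_tau, act_tau, sympForm_add_left, sympForm_smul_left]

theorem tau_comm (p p' : Fin m ⊕ Fin m → F) (h : Cfsg.sympForm m F p p' = 0) (c d : F) :
    tau p c * tau p' d = tau p' d * tau p c := by
  have h' : Cfsg.sympForm m F p' p = 0 := by rw [sympForm_swap, h, neg_zero]
  apply ext_act
  intro v
  rw [act_tau_tau, act_tau_tau, h, h', mul_zero, mul_zero, add_zero, add_zero]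
  abel

theorem form_zero_of_comm (x y : Fin m ⊕ Fin m → F) (hx : x ≠ 0) (c₁ c₂ : F) (h1 : c₁ ≠ 0) (h2 : c₂ ≠ 0)
    (h : tau x c₁ * tau y c₂ = tau y c₂ * tau x c₁) : Cfsg.sympForm m F x y = 0 := by
  have h3 := congrArg (fun g => act g x) h
  simp only [act_tau_tau, sympForm_self] at h3
  rw [sympForm_swap y x] at h3
  have h4 : (c₁ * c₂ * Cfsg.sympForm m F x y ^ 2) • x = 0 := by
    have h5 : x + (c₂ * Cfsg.sympForm m F x y) • y +
        (c₁ * (0 + c₂ * Cfsg.sympForm m F x y * -Cfsg.sympForm m F x y)) • x -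
        (x + (c₁ * 0) • x + (c₂ * (Cfsg.sympForm m F x y + c₁ * 0 * Cfsg.sympForm m F x y)) • y) = 0 := by
      rw [h3, sub_self]
    have h6 : (c₁ * c₂ * Cfsg.sympForm m F x y ^ 2) • x = -(x + (c₂ * Cfsg.sympForm m F x y) • y +
        (c₁ * (0 + c₂ * Cfsg.sympForm m F x y * -Cfsg.sympForm m F x y)) • x -
        (x + (c₁ * 0) • x + (c₂ * (Cfsg.sympForm m F x y + c₁ * 0 * Cfsg.sympForm m F x y)) • y)) := by
      module
    rw [h6, h5, neg_zero]
  rcases smul_eq_zero.mp h4 with h5 | h5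
  · have : Cfsg.sympForm m F x y ^ 2 = 0 := by
      rcases mul_eq_zero.mp h5 with h6 | h6
      · rcases mul_eq_zero.mp h6 with h7 | h7
        · exact absurd h7 h1
        · exact absurd h7 h2
      · exact h6
    exact pow_eq_zero_iff (two_ne_zero) |>.mp this
  · exact absurd h5 hx

theorem comm_eq_bot (p p' : Fin m ⊕ Fin m → F) (h : Cfsg.sympForm m F p p' = 0) :
    ⁅Tp p, Tp p'⁆ = ⊥ := by
  rw [Subgroup.commutator_eq_bot_iff_le_centralizer]
  rintro a ⟨c, rfl⟩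
  rw [Subgroup.mem_centralizer_iff]
  rintro b ⟨d, rfl⟩
  exact (tau_comm p p' h c d).symm

theorem ne_zero_of_form_left {p p' : Fin m ⊕ Fin m → F} (h : Cfsg.sympForm m F p p' ≠ 0) : p ≠ 0 := by
  rintro rfl
  exact h (Cfsg.Agent.S0766.sympForm_zero_left p')

theorem ne_zero_of_form_right {p p' : Fin m ⊕ Fin m → F} (h : Cfsg.sympForm m F p p' ≠ 0) : p' ≠ 0 := by
  rintro rfl
  exact h (form_zero_right p)

theorem Tp_ne (p p' : Fin m ⊕ Fin m → F) (h : Cfsg.sympForm m F p p' ≠ 0) : Tp p ≠ Tp p' := by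
  intro heq
  have h1 : tau p (1 : F) ∈ Tp p' := heq ▸ tau_mem p 1
  have h2 := Tp_comm p' _ h1 _ (tau_mem p' 1)
  exact h (form_zero_of_comm p p' (ne_zero_of_form_left h) 1 1 one_ne_zero one_ne_zero h2)

theorem rankOneCond (p p' : Fin m ⊕ Fin m → F) (h : Cfsg.sympForm m F p p' ≠ 0) :
    Cfsg.RankOneCondition (Tp p) (Tp p') := by
  have hp := ne_zero_of_form_left h
  have hp' := ne_zero_of_form_right h
  rintro a ⟨c, rfl⟩ ha
  have hc : c ≠ 0 := fun hc => ha ((tau_eq_one_iff p hp c).mpr hc)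
  obtain ⟨mu, hmu⟩ : ∃ mu, mu = Cfsg.sympForm m F p p' := ⟨_, rfl⟩
  have hmu0 : mu ≠ 0 := hmu ▸ h
  have hmu' : Cfsg.sympForm m F p' p = -mu := by rw [sympForm_swap, hmu]
  refine ⟨tau p' (-(c * mu ^ 2)⁻¹), tau_mem _ _, ?_, ?_⟩
  · rw [Ne, tau_eq_one_iff p' hp']
    exact neg_ne_zero.mpr (inv_ne_zero (mul_ne_zero hc (pow_ne_zero 2 hmu0)))
  · rw [conj_Tp, conj_Tp, tau_inv, tau_inv, act_tau, act_tau, ← hmu, hmu', neg_neg]
    have : p' + (-c * -mu) • p = (c * mu) • (p + ((c * mu ^ 2)⁻¹ * mu) • p') := by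
      rw [smul_add, smul_smul]
      have h1 : c * mu * ((c * mu ^ 2)⁻¹ * mu) = 1 := by
        field_simp
      rw [h1, one_smul, add_comm]
      congr 2
      ring
    rw [this, Tp_smul _ _ (mul_ne_zero hc hmu0)]

theorem rankOnePair (p p' : Fin m ⊕ Fin m → F) (h : Cfsg.sympForm m F p p' ≠ 0) :
    Cfsg.IsRankOnePair (Tp p) (Tp p') := by
  have h' : Cfsg.sympForm m F p' p ≠ 0 := by
    rw [sympForm_swap]
    exact neg_ne_zero.mpr h
  refine ⟨Tp_ne p p' h, ?_, ?_, rankOneCond p p' h, rankOneCond p' p h'⟩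
  · let _ : CommGroup (Tp p) :=
      { (inferInstance : Group (Tp p)) with
        mul_comm := fun a b => Subtype.ext (Tp_comm p a a.2 b b.2) }
    exact CommGroup.isNilpotent
  · let _ : CommGroup (Tp p') :=
      { (inferInstance : Group (Tp p')) with
        mul_comm := fun a b => Subtype.ext (Tp_comm p' a a.2 b b.2) }
    exact CommGroup.isNilpotent

theorem form_ne_zero_of_rankOnePair (p p' : Fin m ⊕ Fin m → F) (hp : p ≠ 0)
    (h : Cfsg.IsRankOnePair (Tp p) (Tp p')) : Cfsg.sympForm m F p p' ≠ 0 := by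
  intro h0
  have h0' : Cfsg.sympForm m F p' p = 0 := by rw [sympForm_swap, h0, neg_zero]
  have ha : tau p (1 : F) ≠ 1 := by
    rw [Ne, tau_eq_one_iff p hp]
    exact one_ne_zero
  obtain ⟨b, ⟨d, rfl⟩, _, hb⟩ := h.cond_left (tau p 1) (tau_mem p 1) ha
  rw [conj_Tp, conj_Tp, tau_inv, tau_inv, act_tau, act_tau, h0, h0', mul_zero, mul_zero, zero_smul,
    zero_smul, add_zero, add_zero] at hb
  exact h.ne hb


/-- The family of transvection groups, in the form used by the statement. -/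
def SSet (F : Type*) [Field F] (m : ℕ) : Set (Subgroup ↥(Matrix.symplecticGroup (Fin m) F)) :=
  {A : Subgroup ↥(Matrix.symplecticGroup (Fin m) F) | ∃ p : Fin m ⊕ Fin m → F, p ≠ 0 ∧
    A = Subgroup.closure {g : ↥(Matrix.symplecticGroup (Fin m) F) | ∃ c : F, ∀ v : Fin m ⊕ Fin m → F,
      (g : Matrix (Fin m ⊕ Fin m) (Fin m ⊕ Fin m) F) *ᵥ v =
        v + (c * (v ⬝ᵥ (Matrix.J (Fin m) F *ᵥ p))) • p}}

theorem mem_SSet {A : Subgroup ↥(Matrix.symplecticGroup (Fin m) F)} :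
    A ∈ SSet F m ↔ ∃ p : Fin m ⊕ Fin m → F, p ≠ 0 ∧ A = Tp p := by
  constructor
  · rintro ⟨p, hp, hA⟩
    exact ⟨p, hp, hA.trans (closure_eq_Tp p)⟩
  · rintro ⟨p, hp, hA⟩
    exact ⟨p, hp, hA.trans (closure_eq_Tp p).symm⟩

theorem Tp_mem_SSet (p : Fin m ⊕ Fin m → F) (hp : p ≠ 0) : Tp p ∈ SSet F m :=
  mem_SSet.mpr ⟨p, hp, rfl⟩

theorem act_ne_zero (g : Matrix.symplecticGroup (Fin m) F) (p : Fin m ⊕ Fin m → F) (hp : p ≠ 0) :
    act g p ≠ 0 := by
  intro h
  apply hp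
  have := act_inv_act g p
  rw [h] at this
  rw [← this]
  exact Matrix.mulVec_zero _

theorem tau_zero_vec (c : F) : tau (0 : Fin m ⊕ Fin m → F) c = 1 := by
  apply ext_act
  intro v
  rw [act_tau, smul_zero, add_zero, act_one]

theorem isRootSubgroupSet : Cfsg.IsRootSubgroupSet (SSet F m) where
  commutative := by
    intro A hA
    obtain ⟨p, hp, rfl⟩ := mem_SSet.mp hA
    exact ⟨⟨fun a b => Subtype.ext (Tp_comm p a a.2 b b.2)⟩⟩
  ne_bot := by
    intro A hA
    obtain ⟨p, hp, rfl⟩ := mem_SSet.mp hA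
    exact Tp_ne_bot p hp
  generates := by
    rw [eq_top_iff, ← Cfsg.Agent.S0765.result (F := F) m, Subgroup.closure_le]
    rintro A ⟨w, c, hA⟩
    have hA' : A = tau w c := Subtype.ext hA
    by_cases hw : w = 0
    · rw [hA', hw, tau_zero_vec]
      exact Subgroup.one_mem _
    · have h1 : Tp w ≤ ⨆ A ∈ SSet F m, A := le_iSup₂ (f := fun A (_ : A ∈ SSet F m) => A) (Tp w) (Tp_mem_SSet w hw)
      exact h1 (hA' ▸ tau_mem w c)
  conj_mem := by
    intro A hA g
    obtain ⟨p, hp, rfl⟩ := mem_SSet.mp hA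
    rw [conj_Tp]
    exact Tp_mem_SSet _ (act_ne_zero g p hp)
  pair := by
    intro A hA B hB
    obtain ⟨p, hp, rfl⟩ := mem_SSet.mp hA
    obtain ⟨p', hp', rfl⟩ := mem_SSet.mp hB
    by_cases h : Cfsg.sympForm m F p p' = 0
    · exact Or.inl (comm_eq_bot p p' h)
    · exact Or.inr (Or.inl (rankOnePair p p' h))

theorem isConjClass (hm : 0 < m) : Cfsg.IsConjClassOfSubgroups (SSet F m) := by
  constructor
  · refine ⟨Tp (Pi.single (Sum.inl ⟨0, hm⟩) 1), Tp_mem_SSet _ ?_⟩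
    intro h
    have := congrFun h (Sum.inl ⟨0, hm⟩)
    simp at this
  · intro A hA B hB
    obtain ⟨p, hp, rfl⟩ := mem_SSet.mp hA
    obtain ⟨p', hp', rfl⟩ := mem_SSet.mp hB
    obtain ⟨v, hv⟩ := exists_partner p hp
    obtain ⟨v', hv'⟩ := exists_partner p' hp'
    obtain ⟨g, _, hg⟩ := Cfsg.Agent.S0766.move_vec p v p' v' hv hv'
    refine ⟨g, ?_⟩
    rw [conj_Tp]
    congr 1
    exact hg.symm

theorem isDegenerate : Cfsg.IsDegenerateRootSet (SSet F m) := by
  intro A hA B hB hcase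
  obtain ⟨p, hp, rfl⟩ := mem_SSet.mp hA
  obtain ⟨p', hp', rfl⟩ := mem_SSet.mp hB
  obtain ⟨hmem, hcent, -, -⟩ := hcase
  by_cases h : Cfsg.sympForm m F p p' = 0
  · rw [comm_eq_bot p p' h] at hmem
    exact isRootSubgroupSet.ne_bot _ hmem rfl
  · -- the commutator of `a = tau p 1` and `b = tau p' 1` commutes with `a`
    have ha : tau p (1 : F) ∈ Tp p := tau_mem p 1
    have hb : tau p' (1 : F) ∈ Tp p' := tau_mem p' 1
    have hc : ⁅tau p (1 : F), tau p' (1 : F)⁆ ∈ ⁅Tp p, Tp p'⁆ := Subgroup.commutator_mem_commutator ha hb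
    have h1 := hcent _ hc (tau p 1) (Subgroup.mem_sup_left ha)
    rw [commutatorElement_def] at h1
    -- so `b a⁻¹ b⁻¹` commutes with `a`
    have h2 : (tau p' (1 : F) * (tau p (1 : F))⁻¹ * (tau p' (1 : F))⁻¹) * tau p (1 : F) =
        tau p (1 : F) * (tau p' (1 : F) * (tau p (1 : F))⁻¹ * (tau p' (1 : F))⁻¹) := by
      have h3 : tau p (1 : F) * ((tau p' (1 : F) * (tau p (1 : F))⁻¹ * (tau p' (1 : F))⁻¹) * tau p (1 : F)) =
          tau p (1 : F) * (tau p (1 : F) * (tau p' (1 : F) * (tau p (1 : F))⁻¹ * (tau p' (1 : F))⁻¹)) := by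
        simp only [mul_assoc] at h1 ⊢
        exact h1
      exact mul_left_cancel h3
    rw [tau_inv p 1, conj_tau] at h2
    have h4 := form_zero_of_comm _ _ (act_ne_zero (tau p' 1) p hp) (-1) 1 (neg_ne_zero.mpr one_ne_zero)
      one_ne_zero h2
    rw [act_tau, sympForm_add_left, sympForm_self, zero_add, sympForm_smul_left, one_mul] at h4
    have h5 : Cfsg.sympForm m F p' p = -Cfsg.sympForm m F p p' := sympForm_swap p' p
    rw [h5] at h4
    apply h
    have : Cfsg.sympForm m F p p' * Cfsg.sympForm m F p p' = 0 := by linear_combination -h4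
    exact mul_self_eq_zero.mp this

theorem connected_aux (p p'' : Fin m ⊕ Fin m → F) (hp : p ≠ 0) (hp'' : p'' ≠ 0) :
    ∃ p' : Fin m ⊕ Fin m → F, Cfsg.sympForm m F p p' ≠ 0 ∧ Cfsg.sympForm m F p' p'' ≠ 0 := by
  obtain ⟨x, hx⟩ := nondeg p hp
  obtain ⟨y, hy⟩ := nondeg p'' hp''
  have hx' : Cfsg.sympForm m F p x ≠ 0 := by
    rw [sympForm_swap]
    exact neg_ne_zero.mpr hx
  by_cases h1 : Cfsg.sympForm m F x p'' = 0
  · by_cases h2 : Cfsg.sympForm m F p y = 0
    · refine ⟨x + y, ?_, ?_⟩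
      · rw [sympForm_add_right, h2, add_zero]
        exact hx'
      · rw [sympForm_add_left, h1, zero_add]
        exact hy
    · exact ⟨y, h2, hy⟩
  · exact ⟨x, hx', h1⟩

theorem isConnected : Cfsg.IsConnectedFamily (Cfsg.FAdj (SSet F m)) (SSet F m) := by
  intro A hA B hB
  obtain ⟨p, hp, rfl⟩ := mem_SSet.mp hA
  obtain ⟨p'', hp'', rfl⟩ := mem_SSet.mp hB
  obtain ⟨p', h1, h2⟩ := connected_aux p p'' hp hp''
  have hp' := ne_zero_of_form_right h1
  refine Relation.ReflTransGen.tail (b := Tp p') (Relation.ReflTransGen.single ?_) ?_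
  · exact ⟨Tp_mem_SSet p hp, Tp_mem_SSet p' hp', rankOnePair p p' h1⟩
  · exact ⟨Tp_mem_SSet p' hp', Tp_mem_SSet p'' hp'', rankOnePair p' p'' h2⟩

end Cfsg.Agent.helper29.SpRoot
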