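import Mathlib
import Cfsg.Agent.Lib_helper14_GraphE
import Cfsg.Agent.Lib_helper4_Symp
import Cfsg.Agent.Lib_helper29_SpRoot
import Cfsg.Agent.S0766

set_option autoImplicit false
set_option linter.unusedSectionVars false
set_option linter.unusedVariables false

namespace Cfsg.Agent.helper14

open Matrix Cfsg.Agent.helper4

section isom

variable {κ : Type} [Fintype κ] [DecidableEq κ] {F : Type*} [Field F]

theorem mem_isom_iff (Q : (κ → F) → F) (g : GL κ F) :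
    g ∈ Cfsg.isometryGroup F Q ↔ ∀ u, Q ((g : Matrix κ κ F) *ᵥ u) = Q u :=
  ⟨fun h u => h u u, fun h u v => h u⟩

theorem isom_iso_pgo_char2 [Fintype F] [CharP F 2] (Q : (κ → F) → F)
    (hQh : ∀ (c : F) (v : κ → F), Q (c • v) = c * c * Q v) (hQne : ∃ v, Q v ≠ 0) :
    Nonempty (↥(Cfsg.isometryGroup F Q) ≃* Cfsg.PGO F Q) := by
  apply proj_iso_of_split (Subgroup.subtype (Cfsg.isometryGroup F Q))
    (Cfsg.Geo.quadSimilarityGroup (F := F) Q)
  · intro s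
    refine ⟨1, fun v => ?_⟩
    rw [Units.val_one, one_mul]
    exact (mem_isom_iff Q s.1).mp s.2 v
  · intro g hg
    obtain ⟨c, hc⟩ := hg
    obtain ⟨d, hd⟩ := exists_sqrt_char2 (c : F)
    have hd0 : d ≠ 0 := by
      rintro rfl
      rw [mul_zero] at hd
      exact c.ne_zero hd.symm
    obtain ⟨k, hk⟩ : ∃ k : GL κ F, k = (Matrix.GeneralLinearGroup.scalar κ (Units.mk0 d hd0))⁻¹ * g :=
      ⟨_, rfl⟩
    have hkv : (k : Matrix κ κ F) = d⁻¹ • (g : Matrix κ κ F) := by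
      rw [hk, Units.val_mul, ← map_inv, scalarGL_val, Matrix.smul_mul, Matrix.one_mul]
      rfl
    have hkm : k ∈ Cfsg.isometryGroup F Q := by
      rw [mem_isom_iff]
      intro u
      rw [hkv, Matrix.smul_mulVec, hQh, hc, ← hd]
      field_simp
    refine ⟨Units.mk0 d hd0, ⟨k, hkm⟩, ?_⟩
    show (g : Matrix κ κ F) = d • (k : Matrix κ κ F)
    rw [hkv, smul_smul, mul_inv_cancel₀ hd0, one_smul]
  · intro s hs
    rw [Cfsg.Geo.mem_scalars_iff] at hs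
    obtain ⟨c, hc⟩ := hs
    obtain ⟨v, hv⟩ := hQne
    have h1 := (mem_isom_iff Q s.1).mp s.2 v
    have hc' : ((s : GL κ F) : Matrix κ κ F) = (c : F) • 1 := hc
    rw [hc', Matrix.smul_mulVec, Matrix.one_mulVec, hQh] at h1
    have h2 : (c : F) * (c : F) = 1 * 1 := by
      rw [one_mul]
      have h3 : ((c : F) * (c : F) - 1) * Q v = 0 := by linear_combination h1
      rcases mul_eq_zero.mp h3 with h4 | h4
      · linear_combination h4
      · exact absurd h4 hv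
    have h5 : (c : F) = 1 := eq_of_sq_eq_char2 h2
    apply Subtype.ext
    apply Units.ext
    show ((s : GL κ F) : Matrix κ κ F) = 1
    rw [hc', h5, one_smul]

end isom

section std

variable {F : Type*} [Field F] {m : ℕ}

/-- the Gram matrix of `x₀ y₀ + (symplectic form)` -/
def Mstd (m : ℕ) (F : Type*) [Field F] :
    Matrix (Unit ⊕ (Fin m ⊕ Fin m)) (Unit ⊕ (Fin m ⊕ Fin m)) F :=
  Matrix.fromBlocks 1 0 0 (Matrix.J (Fin m) F)

theorem fromBlocks_mulVec_inl (A : Matrix (Fin m ⊕ Fin m) (Fin m ⊕ Fin m) F)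
    (u : Unit ⊕ (Fin m ⊕ Fin m) → F) :
    (Matrix.fromBlocks (1 : Matrix Unit Unit F) 0 0 A *ᵥ u) (Sum.inl ()) = u (Sum.inl ()) := by
  rw [Matrix.fromBlocks_mulVec]
  simp

theorem fromBlocks_mulVec_inr (A : Matrix (Fin m ⊕ Fin m) (Fin m ⊕ Fin m) F)
    (u : Unit ⊕ (Fin m ⊕ Fin m) → F) :
    (Matrix.fromBlocks (1 : Matrix Unit Unit F) 0 0 A *ᵥ u) ∘ Sum.inr = A *ᵥ (u ∘ Sum.inr) := by
  rw [Matrix.fromBlocks_mulVec]
  funext i
  simp

theorem bilM_Mstd (u v : Unit ⊕ (Fin m ⊕ Fin m) → F) :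
    bilM (Mstd m F) u v =
      u (Sum.inl ()) * v (Sum.inl ()) + Cfsg.sympForm m F (u ∘ Sum.inr) (v ∘ Sum.inr) := by
  unfold bilM Mstd Cfsg.sympForm
  rw [dotProduct, Fintype.sum_sum_type]
  congr 1
  · rw [Fintype.sum_unique]
    show u (Sum.inl ()) * _ = _
    rw [fromBlocks_mulVec_inl]
  · rw [dotProduct]
    apply Finset.sum_congr rfl
    intro i _
    show u (Sum.inr i) * _ = u (Sum.inr i) * _
    rw [← fromBlocks_mulVec_inr]
    rfl

theorem Mstd_transpose [CharP F 2] : (Mstd m F)ᵀ = Mstd m F := by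
  unfold Mstd
  rw [Matrix.fromBlocks_transpose, Matrix.transpose_one, Matrix.transpose_zero,
    Matrix.transpose_zero, Matrix.J_transpose]
  congr 1
  ext i j
  rw [Matrix.neg_apply]
  exact CharTwo.neg_eq _

theorem Mstd_det : (Mstd m F).det ≠ 0 := by
  unfold Mstd
  rw [Matrix.det_fromBlocks_zero₂₁, Matrix.det_one, one_mul]
  exact (Matrix.isUnit_det_J (Fin m) F).ne_zero

theorem single_comp_inr :
    ((Pi.single (Sum.inl ()) (1 : F) : Unit ⊕ (Fin m ⊕ Fin m) → F) ∘ Sum.inr) = 0 := by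
  funext i
  show (Pi.single (Sum.inl ()) (1 : F) : Unit ⊕ (Fin m ⊕ Fin m) → F) (Sum.inr i) = 0
  rw [Pi.single_eq_of_ne]
  exact Sum.inr_ne_inl

theorem Mstd_nonalt : ∃ v, bilM (Mstd m F) v v ≠ 0 := by
  refine ⟨Pi.single (Sum.inl ()) 1, ?_⟩
  rw [bilM_Mstd, Pi.single_eq_same, single_comp_inr, Cfsg.Agent.S0766.sympForm_zero_left]
  simp

theorem bilM_Mstd_single_left (v : Unit ⊕ (Fin m ⊕ Fin m) → F) :
    bilM (Mstd m F) (Pi.single (Sum.inl ()) 1) v = v (Sum.inl ()) := by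
  rw [bilM_Mstd, Pi.single_eq_same, single_comp_inr, Cfsg.Agent.S0766.sympForm_zero_left]
  ring

theorem Mstd_nondeg (y : Unit ⊕ (Fin m ⊕ Fin m) → F)
    (h : ∀ w, bilM (Mstd m F) y w = 0) : y = 0 := by
  have h0 : y (Sum.inl ()) = 0 := by
    have h1 := h (Pi.single (Sum.inl ()) 1)
    rw [bilM_Mstd, Pi.single_eq_same, single_comp_inr,
      Cfsg.Agent.helper29.SpRoot.form_zero_right] at h1
    linear_combination h1
  have h1 : y ∘ Sum.inr = 0 := by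
    by_contra hne
    obtain ⟨w', hw'⟩ := Cfsg.Agent.helper29.SpRoot.nondeg (y ∘ Sum.inr) hne
    apply hw'
    have h2 := h (Sum.elim 0 w')
    rw [bilM_Mstd] at h2
    have h3 : (Sum.elim (0 : Unit → F) w' : Unit ⊕ (Fin m ⊕ Fin m) → F) ∘ Sum.inr = w' := rfl
    rw [h3, h0, zero_mul, zero_add] at h2
    rw [sympForm_swap, h2, neg_zero]
  funext i
  rcases i with ⟨⟩ | i
  · exact h0
  · exact congrFun h1 i

/-- block embedding of matrices -/
def blockMH (m : ℕ) (F : Type*) [Field F] :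
    Matrix (Fin m ⊕ Fin m) (Fin m ⊕ Fin m) F →*
      Matrix (Unit ⊕ (Fin m ⊕ Fin m)) (Unit ⊕ (Fin m ⊕ Fin m)) F where
  toFun A := Matrix.fromBlocks 1 0 0 A
  map_one' := Matrix.fromBlocks_one
  map_mul' A B := by
    rw [Matrix.fromBlocks_multiply]
    simp

noncomputable def blkSp (m : ℕ) (F : Type*) [Field F] :
    ↥(Matrix.symplecticGroup (Fin m) F) →* GL (Unit ⊕ (Fin m ⊕ Fin m)) F :=
  (Units.map (blockMH m F)).comp (spGLHom m F)

theorem blkSp_val (s : ↥(Matrix.symplecticGroup (Fin m) F)) :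
    ((blkSp m F s : GL (Unit ⊕ (Fin m ⊕ Fin m)) F) :
      Matrix (Unit ⊕ (Fin m ⊕ Fin m)) (Unit ⊕ (Fin m ⊕ Fin m)) F) =
      Matrix.fromBlocks 1 0 0 (s : Matrix (Fin m ⊕ Fin m) (Fin m ⊕ Fin m) F) := rfl

theorem isom_Mstd_blocks [Fintype F] [CharP F 2]
    (A A' : Matrix (Unit ⊕ (Fin m ⊕ Fin m)) (Unit ⊕ (Fin m ⊕ Fin m)) F) (hAA' : A * A' = 1)
    (h : ∀ u v, bilM (Mstd m F) (A *ᵥ u) (A *ᵥ v) = bilM (Mstd m F) u v) :
    ∃ s : ↥(Matrix.symplecticGroup (Fin m) F),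
      A = Matrix.fromBlocks 1 0 0 (s : Matrix (Fin m ⊕ Fin m) (Fin m ⊕ Fin m) F) := by
  have h0 : ∀ x, (A *ᵥ x) (Sum.inl ()) = x (Sum.inl ()) := by
    intro x
    have h1 := h x x
    rw [bilM_Mstd, bilM_Mstd, sympForm_self, sympForm_self, add_zero, add_zero] at h1
    exact eq_of_sq_eq_char2 h1
  have hsurj : ∀ w, A *ᵥ (A' *ᵥ w) = w := by
    intro w
    rw [Matrix.mulVec_mulVec, hAA', Matrix.one_mulVec]
  have he : A *ᵥ (Pi.single (Sum.inl ()) 1) = Pi.single (Sum.inl ()) 1 := by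
    rw [← sub_eq_zero]
    apply Mstd_nondeg
    intro w
    rw [bilM_sub_left, ← hsurj w, h, bilM_Mstd_single_left, bilM_Mstd_single_left, h0, sub_self]
  obtain ⟨s, hs⟩ : ∃ s : Matrix (Fin m ⊕ Fin m) (Fin m ⊕ Fin m) F, s = A.toBlocks₂₂ := ⟨_, rfl⟩
  have hA : A = Matrix.fromBlocks 1 0 0 s := by
    rw [hs]
    ext i j
    rcases i with ⟨⟩ | i <;> rcases j with ⟨⟩ | j
    · rw [Matrix.fromBlocks_apply₁₁, Matrix.one_apply_eq]
      have h1 := congrFun he (Sum.inl ())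
      rw [Matrix.mulVec_single_one, Pi.single_eq_same] at h1
      exact h1
    · rw [Matrix.fromBlocks_apply₁₂, Matrix.zero_apply]
      have h1 := h0 (Pi.single (Sum.inr j) 1)
      rw [Matrix.mulVec_single_one, Pi.single_eq_of_ne Sum.inl_ne_inr] at h1
      exact h1
    · rw [Matrix.fromBlocks_apply₂₁, Matrix.zero_apply]
      have h1 := congrFun he (Sum.inr i)
      rw [Matrix.mulVec_single_one, Pi.single_eq_of_ne Sum.inr_ne_inl] at h1
      exact h1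
    · rw [Matrix.fromBlocks_apply₂₂]
      rfl
  have hsp : s ∈ Matrix.symplecticGroup (Fin m) F := by
    rw [SymplecticGroup.mem_iff']
    apply bilM_ext
    intro u' v'
    rw [bilM_congr]
    have h1 := h (Sum.elim 0 u') (Sum.elim 0 v')
    rw [bilM_Mstd, bilM_Mstd, h0, h0] at h1
    have h3 : ∀ w' : Fin m ⊕ Fin m → F,
        (Sum.elim (0 : Unit → F) w' : Unit ⊕ (Fin m ⊕ Fin m) → F) ∘ Sum.inr = w' := fun _ => rfl
    have h4 : ∀ w' : Fin m ⊕ Fin m → F,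
        (A *ᵥ (Sum.elim (0 : Unit → F) w' : Unit ⊕ (Fin m ⊕ Fin m) → F)) ∘ Sum.inr = s *ᵥ w' := by
      intro w'
      rw [hA, fromBlocks_mulVec_inr, h3]
    rw [h3, h3, h4, h4] at h1
    simp only [Sum.elim_inl, Pi.zero_apply, mul_zero, zero_add] at h1
    exact h1
  exact ⟨⟨s, hsp⟩, hA⟩

theorem sp_iso_psim_Mstd [Fintype F] [CharP F 2] :
    Nonempty (↥(Matrix.symplecticGroup (Fin m) F) ≃*
      Cfsg.projQuot (Cfsg.Geo.similarityGroup (bilM (Mstd m F)))) := by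
  apply proj_iso_of_split (blkSp m F) (Cfsg.Geo.similarityGroup (bilM (Mstd m F)))
  · intro s
    refine ⟨1, fun u v => ?_⟩
    rw [Units.val_one, one_mul, blkSp_val, bilM_Mstd, bilM_Mstd, fromBlocks_mulVec_inl,
      fromBlocks_mulVec_inl, fromBlocks_mulVec_inr, fromBlocks_mulVec_inr,
      Cfsg.Agent.S0766.sympForm_mulVec]
  · intro g hg
    obtain ⟨c, hc⟩ := hg
    obtain ⟨d, hd⟩ := exists_sqrt_char2 (c : F)
    have hd0 : d ≠ 0 := by
      rintro rfl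
      rw [mul_zero] at hd
      exact c.ne_zero hd.symm
    have hAA' : (d⁻¹ • (g : Matrix (Unit ⊕ (Fin m ⊕ Fin m)) (Unit ⊕ (Fin m ⊕ Fin m)) F)) *
        (d • ((g⁻¹ : GL (Unit ⊕ (Fin m ⊕ Fin m)) F) :
          Matrix (Unit ⊕ (Fin m ⊕ Fin m)) (Unit ⊕ (Fin m ⊕ Fin m)) F)) = 1 := by
      rw [Matrix.smul_mul, Matrix.mul_smul, smul_smul, inv_mul_cancel₀ hd0, one_smul,
        ← Units.val_mul, mul_inv_cancel, Units.val_one]
    have hiso : ∀ u v, bilM (Mstd m F)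
        ((d⁻¹ • (g : Matrix (Unit ⊕ (Fin m ⊕ Fin m)) (Unit ⊕ (Fin m ⊕ Fin m)) F)) *ᵥ u)
        ((d⁻¹ • (g : Matrix (Unit ⊕ (Fin m ⊕ Fin m)) (Unit ⊕ (Fin m ⊕ Fin m)) F)) *ᵥ v) =
        bilM (Mstd m F) u v := by
      intro u v
      rw [Matrix.smul_mulVec, Matrix.smul_mulVec, bilM_smul_left, bilM_smul_right, hc, ← hd]
      field_simp
    obtain ⟨s, hs⟩ := isom_Mstd_blocks _ _ hAA' hiso
    refine ⟨Units.mk0 d hd0, s, ?_⟩
    rw [blkSp_val, ← hs, smul_smul]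
    show (g : Matrix (Unit ⊕ (Fin m ⊕ Fin m)) (Unit ⊕ (Fin m ⊕ Fin m)) F) =
      (d * d⁻¹) • (g : Matrix (Unit ⊕ (Fin m ⊕ Fin m)) (Unit ⊕ (Fin m ⊕ Fin m)) F)
    rw [mul_inv_cancel₀ hd0, one_smul]
  · intro s hs
    rw [Cfsg.Geo.mem_scalars_iff] at hs
    obtain ⟨c, hc⟩ := hs
    rw [blkSp_val] at hc
    have h1 := congrFun (congrFun hc (Sum.inl ())) (Sum.inl ())
    rw [Matrix.fromBlocks_apply₁₁, Matrix.one_apply_eq, Matrix.smul_apply, Matrix.one_apply_eq,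
      smul_eq_mul, mul_one] at h1
    apply Subtype.ext
    ext i j
    have h2 := congrFun (congrFun hc (Sum.inr i)) (Sum.inr j)
    rw [Matrix.fromBlocks_apply₂₂, Matrix.smul_apply, ← h1, one_smul] at h2
    rw [h2]
    show (1 : Matrix (Unit ⊕ (Fin m ⊕ Fin m)) (Unit ⊕ (Fin m ⊕ Fin m)) F) (Sum.inr i) (Sum.inr j) =
      (1 : Matrix (Fin m ⊕ Fin m) (Fin m ⊕ Fin m) F) i j
    rw [Matrix.one_apply, Matrix.one_apply]
    simp only [Sum.inr.injEq]

end std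

end Cfsg.Agent.helper14
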