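import Cfsg.Statements.S2594
import Mathlib
import Cfsg.Agent.S0245
-- import your own Cfsg.Agent.* helpers here

set_option autoImplicit false
open Cfsg

namespace Cfsg.Agent.S2594

open Matrix Cfsg.Agent.helper4 Cfsg.Agent.S0245

variable {F : Type*} [Field F] {m : ℕ}

local notation "Sp" => Matrix.symplecticGroup (Fin m) F
local notation "ff" => Cfsg.sympForm m F
local notation "VV" => (Fin m ⊕ Fin m → F)

/-- nondegeneracy: a nonzero vector has a partner -/
theorem exists_partner' (x : VV) (hx : x ≠ 0) : ∃ y : VV, ff x y = 1 := by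
  have hx' : x ∈ Hk m F m := by
    intro i hi
    exact absurd i.2 (not_lt.mpr hi)
  obtain ⟨y, -, hy⟩ := exists_partner (F := F) (m := m) m x hx' hx
  exact ⟨y, hy⟩

/-- transitivity on nonzero vectors -/
theorem trans_nonzero (x x' : VV) (hx : x ≠ 0) (hx' : x' ≠ 0) :
    ∃ A : Sp, (A : Matrix (Fin m ⊕ Fin m) (Fin m ⊕ Fin m) F) *ᵥ x = x' := by
  obtain ⟨y, hy⟩ := exists_partner' x hx
  obtain ⟨y', hy'⟩ := exists_partner' x' hx'
  obtain ⟨A, hA, -, -⟩ := trans_pairs x y x' y' hy hy'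
  exact ⟨A, hA⟩

/-- a rank one perturbation of the identity in Sp is a transvection -/
theorem transvection_form (t : Sp)
    (ht : ((t : Matrix (Fin m ⊕ Fin m) (Fin m ⊕ Fin m) F) - 1).rank = 1) :
    ∃ (x : VV) (lam : F), x ≠ 0 ∧ lam ≠ 0 ∧ ∀ u : VV,
      (t : Matrix (Fin m ⊕ Fin m) (Fin m ⊕ Fin m) F) *ᵥ u = u + (lam * ff u x) • x := by
  classical
  unfold Matrix.rank at ht
  obtain ⟨⟨x, hxr⟩, hx0, hall⟩ := finrank_eq_one_iff'.mp ht
  have hx0' : x ≠ 0 := by
    intro e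
    apply hx0
    exact Subtype.ext e
  -- coefficient function
  have hc : ∀ u : VV, ∃ c : F, (t : Matrix (Fin m ⊕ Fin m) (Fin m ⊕ Fin m) F) *ᵥ u = u + c • x := by
    intro u
    obtain ⟨c, hc⟩ := hall ⟨((t : Matrix (Fin m ⊕ Fin m) (Fin m ⊕ Fin m) F) - 1).mulVecLin u,
      LinearMap.mem_range_self _ u⟩
    refine ⟨c, ?_⟩
    have h1 : c • x = ((t : Matrix (Fin m ⊕ Fin m) (Fin m ⊕ Fin m) F) - 1) *ᵥ u :=
      congrArg Subtype.val hc
    rw [h1, Matrix.sub_mulVec, Matrix.one_mulVec]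
    abel
  choose c hc using hc
  -- the key identity
  have key : ∀ u w : VV, c w * ff u x + c u * ff x w = 0 := by
    intro u w
    have h := Cfsg.Agent.S0766.sympForm_mulVec t u w
    rw [hc u, hc w, sympForm_add_left, sympForm_add_right, sympForm_add_right,
      sympForm_smul_left, sympForm_smul_left, sympForm_smul_right, sympForm_smul_right,
      sympForm_self] at h
    linear_combination h
  -- some w₀ with c w₀ ≠ 0
  obtain ⟨w₀, hw₀⟩ : ∃ w₀, c w₀ ≠ 0 := by
    by_contra hno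
    push Not at hno
    obtain ⟨u, hu⟩ := hxr
    have h1 : ((t : Matrix (Fin m ⊕ Fin m) (Fin m ⊕ Fin m) F) - 1) *ᵥ u = x := hu
    rw [Matrix.sub_mulVec, Matrix.one_mulVec, hc u, hno u, zero_smul, add_zero, sub_self] at h1
    exact hx0' h1.symm
  obtain ⟨y, hy⟩ := exists_partner' x hx0'
  have hfw : ff w₀ x ≠ 0 := by
    intro h0
    have := key y w₀
    rw [sympForm_swap y x, hy, sympForm_swap x w₀, h0] at this
    simp at this
    exact hw₀ this
  refine ⟨x, c w₀ / ff w₀ x, hx0', div_ne_zero hw₀ hfw, ?_⟩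
  intro u
  rw [hc u]
  congr 2
  have := key u w₀
  rw [sympForm_swap x w₀] at this
  field_simp
  linear_combination (-1 : F) * this

theorem smul_cancel_vec (x : VV) (hx : x ≠ 0) (a b : F) (h : a • x = b • x) : a = b := by
  by_contra hab
  have h1 : (a - b) • x = 0 := by rw [sub_smul, h, sub_self]
  rcases smul_eq_zero.mp h1 with h2 | h2
  · exact hab (sub_eq_zero.mp h2)
  · exact hx h2

theorem centralizer_eq [CharP F 2] (t : Sp) (x : VV) (lam : F) (hx : x ≠ 0) (hlam : lam ≠ 0)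
    (ht : ∀ u : VV, (t : Matrix (Fin m ⊕ Fin m) (Fin m ⊕ Fin m) F) *ᵥ u = u + (lam * ff u x) • x) :
    Subgroup.centralizer ({t} : Set Sp) =
      MulAction.stabilizer Sp (show Vec m F from x) := by
  classical
  ext g
  rw [Subgroup.mem_centralizer_iff, MulAction.mem_stabilizer_iff]
  constructor
  · intro h
    have hcomm : t * g = g * t := h t rfl
    have hvec : ∀ u : VV, ff u x • ((g : Matrix (Fin m ⊕ Fin m) (Fin m ⊕ Fin m) F) *ᵥ x) =
        ff ((g : Matrix (Fin m ⊕ Fin m) (Fin m ⊕ Fin m) F) *ᵥ u) x • x := by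
      intro u
      have h1 := congrArg (fun A : Sp => (A : Matrix (Fin m ⊕ Fin m) (Fin m ⊕ Fin m) F) *ᵥ u) hcomm
      simp only [Submonoid.coe_mul, ← Matrix.mulVec_mulVec] at h1
      rw [ht u, ht ((g : Matrix (Fin m ⊕ Fin m) (Fin m ⊕ Fin m) F) *ᵥ u), Matrix.mulVec_add,
        Matrix.mulVec_smul] at h1
      have h2 := add_left_cancel h1
      have h3 := congrArg (fun w : VV => lam⁻¹ • w) h2
      simp only [smul_smul] at h3
      rw [← mul_assoc, ← mul_assoc, inv_mul_cancel₀ hlam, one_mul, one_mul] at h3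
      exact h3.symm
    obtain ⟨y, hy⟩ := exists_partner' x hx
    have hyx : ff y x = -1 := by rw [sympForm_swap, hy]
    -- g x = μ x
    set μ := - ff ((g : Matrix (Fin m ⊕ Fin m) (Fin m ⊕ Fin m) F) *ᵥ y) x with hμ
    have hgx : (g : Matrix (Fin m ⊕ Fin m) (Fin m ⊕ Fin m) F) *ᵥ x = μ • x := by
      have := hvec y
      rw [hyx, neg_smul, one_smul] at this
      rw [hμ, neg_smul, ← this, neg_neg]
    -- μ * ff u x = ff (g u) x
    have h4 : ∀ u : VV, μ * ff u x =
        ff ((g : Matrix (Fin m ⊕ Fin m) (Fin m ⊕ Fin m) F) *ᵥ u) x := by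
      intro u
      have := hvec u
      rw [hgx, smul_smul] at this
      have h5 := smul_cancel_vec x hx _ _ this
      rw [← h5]; ring
    -- ff (g u) (g x) = ff u x
    have h6 : μ * μ = 1 := by
      have h7 := Cfsg.Agent.S0766.sympForm_mulVec g y x
      rw [hgx, sympForm_smul_right, ← h4 y, hyx] at h7
      linear_combination (-1 : F) * h7
    have h8 : μ = 1 := by
      have h2 : (2 : F) = 0 := CharTwo.two_eq_zero
      have : (μ - 1) ^ 2 = 0 := by
        have : (μ - 1) ^ 2 = μ * μ - 2 * μ + 1 := by ring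
        rw [this, h6, h2]; ring_nf
        rw [h2]
      have := pow_eq_zero_iff (two_ne_zero) |>.mp this
      exact sub_eq_zero.mp this
    show (g : Matrix (Fin m ⊕ Fin m) (Fin m ⊕ Fin m) F) *ᵥ x = x
    rw [hgx, h8, one_smul]
  · intro h h' hh'
    have hgx : (g : Matrix (Fin m ⊕ Fin m) (Fin m ⊕ Fin m) F) *ᵥ x = x := h
    rw [Set.mem_singleton_iff] at hh'
    subst hh'
    apply Subtype.ext
    rw [Submonoid.coe_mul, Submonoid.coe_mul, Matrix.ext_iff_mulVec]
    intro u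
    rw [← Matrix.mulVec_mulVec, ← Matrix.mulVec_mulVec, ht u,
      ht ((g : Matrix (Fin m ⊕ Fin m) (Fin m ⊕ Fin m) F) *ᵥ u), Matrix.mulVec_add,
      Matrix.mulVec_smul, hgx]
    congr 2
    have := Cfsg.Agent.S0766.sympForm_mulVec g u x
    rw [hgx] at this
    rw [this]

/-- the nonzero vectors -/
def nzSet (m : ℕ) (F : Type*) [Field F] : Set (Fin m ⊕ Fin m → F) := {0}ᶜ

theorem orbit_eq (x : VV) (hx : x ≠ 0) :
    MulAction.orbit Sp (show Vec m F from x) = (show Set (Vec m F) from nzSet m F) := by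
  ext v
  constructor
  · rintro ⟨A, rfl⟩
    show (A : Matrix (Fin m ⊕ Fin m) (Fin m ⊕ Fin m) F) *ᵥ x ∈ nzSet m F
    intro h0
    have h1 : (A : Matrix (Fin m ⊕ Fin m) (Fin m ⊕ Fin m) F) *ᵥ x = 0 := h0
    have h2 := congrArg (fun w : VV => ((A⁻¹ : Sp) : Matrix (Fin m ⊕ Fin m) (Fin m ⊕ Fin m) F) *ᵥ w) h1
    simp only [Matrix.mulVec_mulVec, Matrix.mulVec_zero] at h2
    rw [← Submonoid.coe_mul, inv_mul_cancel] at h2
    simp at h2
    exact hx h2
  · intro hv
    have hv' : @Ne (Fin m ⊕ Fin m → F) v 0 := hv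
    obtain ⟨A, hA⟩ := trans_nonzero x v hx hv'
    exact ⟨A, hA⟩

theorem card_nonzero [Fintype F] : (nzSet m F).ncard = Fintype.card F ^ (2 * m) - 1 := by
  unfold nzSet
  rw [Set.ncard_compl, Set.ncard_singleton, Nat.card_fun, Nat.card_eq_fintype_card,
    Nat.card_eq_fintype_card, Fintype.card_sum, Fintype.card_fin, two_mul]

theorem card_stab [Fintype F] {q : ℕ} (hF : Fintype.card F = q) (hm : 1 ≤ m) (x : VV) (hx : x ≠ 0) :
    Nat.card (MulAction.stabilizer Sp (show Vec m F from x)) =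
      q ^ (2 * m - 1) * (q ^ ((m - 1) ^ 2) * ∏ i : Fin (m - 1), (q ^ (2 * ((i : ℕ) + 1)) - 1)) := by
  classical
  have h1 := Subgroup.card_mul_index (MulAction.stabilizer Sp (show Vec m F from x))
  have h2 := MulAction.index_stabilizer Sp (show Vec m F from x)
  rw [orbit_eq x hx] at h2
  have h2' : (MulAction.stabilizer Sp (show Vec m F from x)).index = q ^ (2 * m) - 1 := by
    rw [h2, ← hF]; exact card_nonzero
  have h5 := Cfsg.Agent.S0245.result hF m
  rw [h2', h5] at h1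
  obtain ⟨m', rfl⟩ : ∃ m', m = m' + 1 := ⟨m - 1, by omega⟩
  rw [Finset.prod_range_succ] at h1
  have hq : 2 ≤ q := by
    rw [← hF]; exact Fintype.one_lt_card
  have hpos : 0 < q ^ (2 * (m' + 1)) - 1 := by
    have : 2 ^ (2 * (m' + 1)) ≤ q ^ (2 * (m' + 1)) := Nat.pow_le_pow_left hq _
    have : 2 ≤ 2 ^ (2 * (m' + 1)) := by
      calc 2 = 2 ^ 1 := by norm_num
        _ ≤ 2 ^ (2 * (m' + 1)) := Nat.pow_le_pow_right (by norm_num) (by omega)
    omega
  apply Nat.eq_of_mul_eq_mul_right hpos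
  rw [h1, Fin.prod_univ_eq_prod_range (fun i => q ^ (2 * (i + 1)) - 1) (m' + 1 - 1)]
  simp only [Nat.add_sub_cancel]
  have e : q ^ ((m' + 1) ^ 2) = q ^ (2 * (m' + 1) - 1) * q ^ (m' ^ 2) := by
    rw [← pow_add]
    congr 1
    have : 2 * (m' + 1) - 1 = 2 * m' + 1 := by omega
    rw [this]; ring
  rw [e]
  ring

/-- Over a finite field with q elements, q even, an element t of Sp_2m(F) with rank(t − 1) = 1 (a symplectic transvection) has centraliser in Sp_2m(F) of order q^(2m−1) · |Sp_(2m−2)(q)| = q^(2m−1) · q^((m−1)²) · Π_(i=1)^(m−1) (q^(2i) − 1). -/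
theorem result {F : Type*} [Field F] [Fintype F] [CharP F 2] {q : ℕ} (hF : Fintype.card F = q) {m : ℕ} (hm : 1 ≤ m) (t : Matrix.symplecticGroup (Fin m) F) (ht : ((t : Matrix (Fin m ⊕ Fin m) (Fin m ⊕ Fin m) F) - 1).rank = 1) : Nat.card ↥(Subgroup.centralizer ({t} : Set ↥(Matrix.symplecticGroup (Fin m) F))) = q ^ (2 * m - 1) * (q ^ ((m - 1) ^ 2) * ∏ i : Fin (m - 1), (q ^ (2 * ((i : ℕ) + 1)) - 1)) := by
  classical
  obtain ⟨x, lam, hx, hlam, htx⟩ := transvection_form t ht
  rw [centralizer_eq t x lam hx hlam htx]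
  exact card_stab hF hm x hx

end Cfsg.Agent.S2594
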