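import Cfsg.Statements.S0776
import Mathlib
import Cfsg.Agent.S2594
import Cfsg.Agent.S0752
-- import your own Cfsg.Agent.* helpers here

set_option autoImplicit false
open Cfsg

namespace Cfsg.Agent.S0776

set_option linter.unusedSectionVars false
set_option linter.unusedVariables false
open Matrix Cfsg.Agent.helper4 Cfsg.Agent.S0245 Cfsg.Agent.S2594

section generic

variable {F : Type*} [Field F] {n S₁ S₂ : Type} [Fintype n] [DecidableEq n]
  [Fintype S₁] [DecidableEq S₁] [Fintype S₂] [DecidableEq S₂] (e : S₁ ⊕ S₂ ≃ n)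

/-- the coordinate subspace of vectors supported on the first block -/
def W0 (F : Type*) [Field F] {n S₁ S₂ : Type} (e : S₁ ⊕ S₂ ≃ n) : Submodule F (n → F) where
  carrier := {w | ∀ b : S₂, w (e (Sum.inr b)) = 0}
  add_mem' := by
    intro a b ha hb x
    rw [Pi.add_apply, ha x, hb x, add_zero]
  zero_mem' := by intro x; rfl
  smul_mem' := by
    intro c a ha x
    rw [Pi.smul_apply, ha x, smul_zero]

theorem mem_W0 (w : n → F) : w ∈ W0 F e ↔ ∀ b : S₂, w (e (Sum.inr b)) = 0 := Iff.rfl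

/-- block diagonal matrix, reindexed -/
def Phi0 (A : Matrix S₁ S₁ F) (B : Matrix S₂ S₂ F) : Matrix n n F :=
  (Matrix.fromBlocks A 0 0 B).submatrix e.symm e.symm

theorem Phi0_mul (A A' : Matrix S₁ S₁ F) (B B' : Matrix S₂ S₂ F) :
    Phi0 e A B * Phi0 e A' B' = Phi0 e (A * A') (B * B') := by
  unfold Phi0
  rw [Matrix.submatrix_mul_equiv, Matrix.fromBlocks_multiply]
  simp

theorem Phi0_one : Phi0 e (1 : Matrix S₁ S₁ F) (1 : Matrix S₂ S₂ F) = 1 := by
  unfold Phi0
  rw [Matrix.fromBlocks_one, Matrix.submatrix_one_equiv]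

theorem Phi0_transpose (A : Matrix S₁ S₁ F) (B : Matrix S₂ S₂ F) :
    (Phi0 e A B)ᵀ = Phi0 e Aᵀ Bᵀ := by
  unfold Phi0
  rw [Matrix.transpose_submatrix, Matrix.fromBlocks_transpose]
  simp

theorem Phi0_inj (A A' : Matrix S₁ S₁ F) (B B' : Matrix S₂ S₂ F)
    (h : Phi0 e A B = Phi0 e A' B') : A = A' ∧ B = B' := by
  unfold Phi0 at h
  have h2 : Matrix.fromBlocks A 0 0 B = Matrix.fromBlocks A' 0 0 B' := by
    have := congrArg (fun M => M.submatrix e e) h
    simpa [Matrix.submatrix_submatrix] using this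
  rw [Matrix.fromBlocks_inj] at h2
  exact ⟨h2.1, h2.2.2.2⟩

theorem Phi0_fwd (A : Matrix S₁ S₁ F) (B : Matrix S₂ S₂ F) (v : n → F) (hv : v ∈ W0 F e) :
    Phi0 e A B *ᵥ v ∈ W0 F e := by
  intro b
  unfold Phi0
  rw [Matrix.submatrix_mulVec_equiv]
  simp only [Function.comp, Equiv.symm_apply_apply, Equiv.symm_symm]
  rw [Matrix.fromBlocks_mulVec]
  simp only [Sum.elim_inr, Matrix.zero_mulVec, zero_add]
  have : ((v ∘ ⇑e) ∘ Sum.inr) = 0 := by
    ext b'; exact hv b'
  rw [this, Matrix.mulVec_zero]; rfl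

theorem single_mem_W0 (a : S₁) : (Pi.single (e (Sum.inl a)) 1 : n → F) ∈ W0 F e := by
  intro b
  rw [Pi.single_apply, if_neg]
  intro h
  have := e.injective h
  exact absurd this (by simp)

/-- lower-left block vanishes for matrices preserving `W0` -/
theorem block21_zero (M : Matrix n n F) (hM : ∀ v, v ∈ W0 F e → M *ᵥ v ∈ W0 F e) :
    (M.submatrix e e).toBlocks₂₁ = 0 := by
  ext b a
  have h := hM _ (single_mem_W0 (F := F) e a) b
  rw [Matrix.mulVec_single_one] at h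
  simpa [Matrix.toBlocks₂₁] using h

theorem W0_repr (v : n → F) (hv : v ∈ W0 F e) :
    v = ∑ a : S₁, v (e (Sum.inl a)) • (Pi.single (e (Sum.inl a)) 1 : n → F) := by
  have h1 : v = ∑ x : n, v x • (Pi.single x 1 : n → F) := by
    ext y
    simp [Finset.sum_apply, Pi.single_apply]
  have h2 : ∑ x : n, v x • (Pi.single x 1 : n → F)
      = ∑ s : S₁ ⊕ S₂, v (e s) • (Pi.single (e s) 1 : n → F) :=
    (Equiv.sum_comp e (fun x => v x • (Pi.single x 1 : n → F))).symm
  rw [Fintype.sum_sum_type] at h2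
  have h3 : ∑ b : S₂, v (e (Sum.inr b)) • (Pi.single (e (Sum.inr b)) 1 : n → F) = 0 := by
    apply Finset.sum_eq_zero
    intro b _
    rw [hv b, zero_smul]
  rw [h3, add_zero] at h2
  rw [← h2]; exact h1

end generic

section specific

variable {F : Type*} [Field F] {m : ℕ}

local notation "Sp" => Matrix.symplecticGroup (Fin m) F
local notation "ff" => Cfsg.sympForm m F
local notation "VV" => (Fin m ⊕ Fin m → F)

def sig (m k : ℕ) (hk : k ≤ m) : Fin k ⊕ Fin (m - k) ≃ Fin m :=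
  finSumFinEquiv.trans (finCongr (by omega))

def ee (m k : ℕ) (hk : k ≤ m) :
    (Fin k ⊕ Fin k) ⊕ (Fin (m - k) ⊕ Fin (m - k)) ≃ Fin m ⊕ Fin m :=
  (Equiv.sumSumSumComm _ _ _ _).trans (Equiv.sumCongr (sig m k hk) (sig m k hk))

theorem J_sub (k : ℕ) (hk : k ≤ m) :
    (Matrix.J (Fin m) F).submatrix (ee m k hk) (ee m k hk)
      = Matrix.fromBlocks (Matrix.J (Fin k) F) 0 0 (Matrix.J (Fin (m - k)) F) := by
  ext x y
  rcases x with (a|a)|(a|a) <;> rcases y with (b|b)|(b|b) <;>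
    simp [ee, Matrix.J, Matrix.one_apply, Matrix.neg_apply]

theorem J_eq_Phi0 (k : ℕ) (hk : k ≤ m) :
    Matrix.J (Fin m) F = Phi0 (ee m k hk) (Matrix.J (Fin k) F) (Matrix.J (Fin (m - k)) F) := by
  unfold Phi0
  rw [← J_sub k hk]
  simp [Matrix.submatrix_submatrix]

theorem Phi0_mem (k : ℕ) (hk : k ≤ m) (A : Matrix (Fin k ⊕ Fin k) (Fin k ⊕ Fin k) F)
    (B : Matrix (Fin (m - k) ⊕ Fin (m - k)) (Fin (m - k) ⊕ Fin (m - k)) F)
    (hA : A ∈ Matrix.symplecticGroup (Fin k) F) (hB : B ∈ Matrix.symplecticGroup (Fin (m - k)) F) :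
    Phi0 (ee m k hk) A B ∈ Matrix.symplecticGroup (Fin m) F := by
  rw [SymplecticGroup.mem_iff] at *
  rw [J_eq_Phi0 k hk, Phi0_transpose, Phi0_mul, Phi0_mul, hA, hB]

def Phi (k : ℕ) (hk : k ≤ m) :
    Matrix.symplecticGroup (Fin k) F × Matrix.symplecticGroup (Fin (m - k)) F →*
      Matrix.symplecticGroup (Fin m) F where
  toFun p := ⟨Phi0 (ee m k hk) p.1.1 p.2.1, Phi0_mem k hk _ _ p.1.2 p.2.2⟩
  map_one' := Subtype.ext (Phi0_one _)
  map_mul' p q := Subtype.ext (Phi0_mul _ _ _ _ _).symm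

theorem Phi_coe (k : ℕ) (hk : k ≤ m)
    (p : Matrix.symplecticGroup (Fin k) F × Matrix.symplecticGroup (Fin (m - k)) F) :
    ((Phi k hk p : Sp) : Matrix (Fin m ⊕ Fin m) (Fin m ⊕ Fin m) F)
      = Phi0 (ee m k hk) p.1.1 p.2.1 := rfl

theorem Phi_injective (k : ℕ) (hk : k ≤ m) : Function.Injective (Phi (F := F) k hk) := by
  intro p q h
  have h2 := congrArg Subtype.val h
  rw [Phi_coe, Phi_coe] at h2
  obtain ⟨h3, h4⟩ := Phi0_inj _ _ _ _ _ h2
  exact Prod.ext (Subtype.ext h3) (Subtype.ext h4)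

theorem inv_mulVec_mulVec (g : Sp) (v : VV) :
    ((g⁻¹ : Sp) : Matrix (Fin m ⊕ Fin m) (Fin m ⊕ Fin m) F) *ᵥ
      ((g : Matrix (Fin m ⊕ Fin m) (Fin m ⊕ Fin m) F) *ᵥ v) = v := by
  rw [Matrix.mulVec_mulVec]
  have : ((g⁻¹ : Sp) : Matrix (Fin m ⊕ Fin m) (Fin m ⊕ Fin m) F) *
      (g : Matrix (Fin m ⊕ Fin m) (Fin m ⊕ Fin m) F) = 1 :=
    congrArg Subtype.val (inv_mul_cancel g)
  rw [this, Matrix.one_mulVec]

theorem mulVec_inv_mulVec (g : Sp) (v : VV) :
    (g : Matrix (Fin m ⊕ Fin m) (Fin m ⊕ Fin m) F) *ᵥ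
      (((g⁻¹ : Sp) : Matrix (Fin m ⊕ Fin m) (Fin m ⊕ Fin m) F) *ᵥ v) = v := by
  have := inv_mulVec_mulVec (g⁻¹) v
  rwa [inv_inv] at this

theorem range_Phi (k : ℕ) (hk : k ≤ m) :
    (Phi (F := F) k hk).range
      = Cfsg.stabilizing (Cfsg.spToMat m F) (W0 F (ee m k hk) : Set VV) := by
  ext M
  constructor
  · rintro ⟨p, rfl⟩
    intro v
    constructor
    · intro hv
      exact Phi0_fwd _ _ _ v hv
    · intro hv
      have h1 := Phi0_fwd (ee m k hk) (p⁻¹).1.1 (p⁻¹).2.1 _ hv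
      have h2 : Phi0 (ee m k hk) (p⁻¹).1.1 (p⁻¹).2.1 = ((Phi k hk p)⁻¹ : Sp).1 := by
        rw [← map_inv]; rfl
      rw [h2] at h1
      have h3 := inv_mulVec_mulVec (Phi k hk p) v
      change ((Phi k hk p)⁻¹ : Sp).1 *ᵥ ((Phi k hk p : Sp).1 *ᵥ v) ∈ W0 F (ee m k hk) at h1
      rw [h3] at h1
      exact h1
  · intro hM
    set e := ee m k hk with he
    set N := M.1.submatrix e e with hN
    have h21 : N.toBlocks₂₁ = 0 := block21_zero e M.1 (fun v hv => (hM v).mp hv)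
    have hMJ : M.1 * Matrix.J (Fin m) F * M.1ᵀ = Matrix.J (Fin m) F := SymplecticGroup.mem_iff.mp M.2
    have hNJ : N * Matrix.fromBlocks (Matrix.J (Fin k) F) 0 0 (Matrix.J (Fin (m - k)) F) * Nᵀ
        = Matrix.fromBlocks (Matrix.J (Fin k) F) 0 0 (Matrix.J (Fin (m - k)) F) := by
      rw [← J_sub k hk, hN, Matrix.transpose_submatrix, Matrix.submatrix_mul_equiv,
        Matrix.submatrix_mul_equiv, hMJ]
    set P := N.toBlocks₁₁ with hP
    set X := N.toBlocks₁₂ with hX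
    set Q := N.toBlocks₂₂ with hQ
    have hNb : N = Matrix.fromBlocks P X 0 Q := by
      rw [← h21]; exact (Matrix.fromBlocks_toBlocks N).symm
    rw [hNb, Matrix.fromBlocks_transpose, Matrix.fromBlocks_multiply, Matrix.fromBlocks_multiply,
      Matrix.fromBlocks_inj] at hNJ
    obtain ⟨E11, -, E21, E22⟩ := hNJ
    simp only [Matrix.zero_mul, Matrix.mul_zero, zero_add, add_zero, Matrix.transpose_zero] at E11 E21 E22
    have hQm : Q ∈ Matrix.symplecticGroup (Fin (m - k)) F := SymplecticGroup.mem_iff.mpr E22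
    have hXt : Xᵀ = 0 := by
      have h1 : ((⟨Q, hQm⟩ : Matrix.symplecticGroup (Fin (m - k)) F)⁻¹).1 * Q = 1 :=
        congrArg Subtype.val (inv_mul_cancel (⟨Q, hQm⟩ : Matrix.symplecticGroup (Fin (m - k)) F))
      have h2 : Matrix.J (Fin (m - k)) F * Xᵀ = 0 := by
        calc Matrix.J (Fin (m - k)) F * Xᵀ
            = (((⟨Q, hQm⟩ : Matrix.symplecticGroup (Fin (m - k)) F)⁻¹).1 * Q) *
                (Matrix.J (Fin (m - k)) F * Xᵀ) := by rw [h1, Matrix.one_mul]
          _ = ((⟨Q, hQm⟩ : Matrix.symplecticGroup (Fin (m - k)) F)⁻¹).1 *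
                (Q * Matrix.J (Fin (m - k)) F * Xᵀ) := by
              simp only [Matrix.mul_assoc]
          _ = 0 := by rw [E21, Matrix.mul_zero]
      have h3 : Matrix.J (Fin (m - k)) F * (Matrix.J (Fin (m - k)) F * Xᵀ) = -Xᵀ := by
        rw [← Matrix.mul_assoc, Matrix.J_squared, Matrix.neg_mul, Matrix.one_mul]
      rw [h2, Matrix.mul_zero] at h3
      exact neg_eq_zero.mp h3.symm
    have hX0 : X = 0 := by
      have := congrArg Matrix.transpose hXt
      simpa using this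
    rw [hXt, Matrix.mul_zero, add_zero] at E11
    have hPm : P ∈ Matrix.symplecticGroup (Fin k) F := SymplecticGroup.mem_iff.mpr E11
    refine ⟨(⟨P, hPm⟩, ⟨Q, hQm⟩), ?_⟩
    apply Subtype.ext
    rw [Phi_coe]
    change Phi0 e P Q = M.1
    unfold Phi0
    rw [← hX0, ← hNb, hN]
    simp [Matrix.submatrix_submatrix]

end specific

section build

variable {F : Type*} [Field F] {m : ℕ}

local notation "Sp" => Matrix.symplecticGroup (Fin m) F
local notation "ff" => Cfsg.sympForm m F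
local notation "VV" => (Fin m ⊕ Fin m → F)

theorem eF_apply (x y : Fin m ⊕ Fin m) : (eF (F := F) x) y = if y = x then 1 else 0 := by
  unfold eF; rw [Pi.single_apply]

theorem exists_sp_of_hyp {k : ℕ} (c : Fin k → Fin m) (hc : Function.Injective c) (u v : Fin k → VV)
    (h1 : ∀ i j, ff (u i) (v j) = if i = j then 1 else 0)
    (h2 : ∀ i j, ff (u i) (u j) = 0) (h3 : ∀ i j, ff (v i) (v j) = 0) :
    ∀ j, j ≤ k → ∃ g : Sp, ∀ i : Fin k, i.val < j →
      (g : Matrix (Fin m ⊕ Fin m) (Fin m ⊕ Fin m) F) *ᵥ (eF (F := F) (Sum.inr (c i))) = u i ∧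
      (g : Matrix (Fin m ⊕ Fin m) (Fin m ⊕ Fin m) F) *ᵥ (eF (F := F) (Sum.inl (c i))) = v i := by
  intro j
  induction j with
  | zero => intro _; exact ⟨1, fun i hi => absurd hi (Nat.not_lt_zero _)⟩
  | succ j ih =>
    intro hj
    obtain ⟨g, hg⟩ := ih (by omega)
    set i₀ : Fin k := ⟨j, by omega⟩ with hi₀
    set u' : VV := ((g⁻¹ : Sp) : Matrix (Fin m ⊕ Fin m) (Fin m ⊕ Fin m) F) *ᵥ u i₀ with hu'
    set v' : VV := ((g⁻¹ : Sp) : Matrix (Fin m ⊕ Fin m) (Fin m ⊕ Fin m) F) *ᵥ v i₀ with hv'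
    have hgu' : (g : Matrix (Fin m ⊕ Fin m) (Fin m ⊕ Fin m) F) *ᵥ u' = u i₀ :=
      mulVec_inv_mulVec g _
    have hgv' : (g : Matrix (Fin m ⊕ Fin m) (Fin m ⊕ Fin m) F) *ᵥ v' = v i₀ :=
      mulVec_inv_mulVec g _
    have huv' : ff u' v' = 1 := by
      rw [← Cfsg.Agent.S0766.sympForm_mulVec g, hgu', hgv', h1, if_pos rfl]
    have hstd : ff (eF (F := F) (Sum.inr (c i₀))) (eF (F := F) (Sum.inl (c i₀))) = 1 := by
      rw [form_eV_inl, eF_apply, if_pos rfl]
    obtain ⟨A, hA1, hA2, hA3⟩ := trans_pairs _ _ u' v' hstd huv'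
    refine ⟨g * A, ?_⟩
    intro i hi
    have hmul : ∀ w : VV, ((g * A : Sp) : Matrix (Fin m ⊕ Fin m) (Fin m ⊕ Fin m) F) *ᵥ w
        = (g : Matrix (Fin m ⊕ Fin m) (Fin m ⊕ Fin m) F) *ᵥ
          ((A : Matrix (Fin m ⊕ Fin m) (Fin m ⊕ Fin m) F) *ᵥ w) := by
      intro w
      rw [Matrix.mulVec_mulVec]; rfl
    by_cases hij : i.val < j
    · obtain ⟨hg1, hg2⟩ := hg i hij
      have hne : i ≠ i₀ := by
        intro h; rw [h, hi₀] at hij; simp at hij
      have hcne : c i ≠ c i₀ := fun h => hne (hc h)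
      have hz1 : Zperp (eF (F := F) (Sum.inr (c i₀))) (eF (F := F) (Sum.inl (c i₀))) u' v'
          (eF (F := F) (Sum.inr (c i))) := by
        refine ⟨?_, ?_, ?_, ?_⟩
        · rw [form_eV_inr, eF_apply, if_neg (by simp), neg_zero]
        · rw [form_eV_inl, eF_apply, if_neg (by simpa using hcne.symm)]
        · rw [← Cfsg.Agent.S0766.sympForm_mulVec g, hg1, hgu', h2]
        · rw [← Cfsg.Agent.S0766.sympForm_mulVec g, hg1, hgv', h1, if_neg hne]
      have hz2 : Zperp (eF (F := F) (Sum.inr (c i₀))) (eF (F := F) (Sum.inl (c i₀))) u' v'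
          (eF (F := F) (Sum.inl (c i))) := by
        refine ⟨?_, ?_, ?_, ?_⟩
        · rw [form_eV_inr, eF_apply, if_neg (by simpa using hcne.symm), neg_zero]
        · rw [form_eV_inl, eF_apply, if_neg (by simp)]
        · rw [← Cfsg.Agent.S0766.sympForm_mulVec g, hg2, hgu', sympForm_swap, h1, if_neg hne.symm,
            neg_zero]
        · rw [← Cfsg.Agent.S0766.sympForm_mulVec g, hg2, hgv', h3]
      rw [hmul, hmul, hA3 _ hz1, hA3 _ hz2]
      exact ⟨hg1, hg2⟩
    · have hii : i = i₀ := Fin.ext (by rw [hi₀]; simp only; omega)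
      rw [hii, hmul, hmul, hA1, hA2]
      exact ⟨hgu', hgv'⟩

end build

/-- If W ≤ F^(2m) is a 2k-dimensional subspace on which the symplectic form is non-degenerate, then the stabiliser of W in Sp_2m(F) is isomorphic to Sp_2k(F) × Sp_(2m−2k)(F). -/
theorem result {F : Type*} [Field F] (m k : ℕ) (hk : k ≤ m) (W : Submodule F (Fin m ⊕ Fin m → F)) (hWk : Module.finrank F W = 2 * k) (hW : ∀ u ∈ W, (∀ v ∈ W, Cfsg.sympForm m F u v = 0) → u = 0) : Nonempty (↥(Cfsg.stabilizing (Cfsg.spToMat m F) (W : Set (Fin m ⊕ Fin m → F))) ≃* Matrix.symplecticGroup (Fin k) F × Matrix.symplecticGroup (Fin (m - k)) F) := by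
  classical
  -- the restricted form on W
  let B : LinearMap.BilinForm F W := LinearMap.mk₂ F (fun u v : W => Cfsg.sympForm m F u.1 v.1)
    (fun u u' v => sympForm_add_left u.1 u'.1 v.1)
    (fun c u v => sympForm_smul_left c u.1 v.1)
    (fun u v v' => sympForm_add_right u.1 v.1 v'.1)
    (fun c u v => sympForm_smul_right c u.1 v.1)
  have hBapp : ∀ u v : W, B u v = Cfsg.sympForm m F u.1 v.1 := fun u v => rfl
  have hA : B.IsAlt := fun x => sympForm_self x.1
  obtain ⟨m', k', b, hb1, hb2, hb3, hb4⟩ := Cfsg.Agent.S0752.result B hA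
  have hk' : k' = 0 := by
    by_contra h
    have hpos : 0 < k' := Nat.pos_of_ne_zero h
    have h0 : b (Sum.inr ⟨0, hpos⟩) = 0 := by
      apply Subtype.ext
      apply hW _ (b (Sum.inr ⟨0, hpos⟩)).2
      intro v hv
      exact hb4 ⟨0, hpos⟩ ⟨v, hv⟩
    exact b.ne_zero _ h0
  subst hk'
  have hm' : m' = k := by
    have := Module.finrank_eq_card_basis b
    rw [hWk] at this
    simp at this
    omega
  subst hm'
  set u : Fin m' → (Fin m ⊕ Fin m → F) := fun i => (b (Sum.inl (Sum.inl i))).1 with hu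
  set v : Fin m' → (Fin m ⊕ Fin m → F) := fun i => (b (Sum.inl (Sum.inr i))).1 with hv
  have huW : ∀ i, u i ∈ W := fun i => (b (Sum.inl (Sum.inl i))).2
  have hvW : ∀ i, v i ∈ W := fun i => (b (Sum.inl (Sum.inr i))).2
  have h1 : ∀ i j, Cfsg.sympForm m F (u i) (v j) = if i = j then 1 else 0 := fun i j => hb1 i j
  have h2 : ∀ i j, Cfsg.sympForm m F (u i) (u j) = 0 := fun i j => hb2 i j
  have h3 : ∀ i j, Cfsg.sympForm m F (v i) (v j) = 0 := fun i j => hb3 i j
  set c : Fin m' → Fin m := fun a => sig m m' hk (Sum.inl a) with hc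
  have hcinj : Function.Injective c := by
    intro a a' h
    have := (sig m m' hk).injective h
    exact Sum.inl.inj this
  obtain ⟨g, hg⟩ := exists_sp_of_hyp c hcinj u v h1 h2 h3 m' le_rfl
  have hgu : ∀ i, (g : Matrix (Fin m ⊕ Fin m) (Fin m ⊕ Fin m) F) *ᵥ
      (eF (F := F) (Sum.inr (c i))) = u i := fun i => (hg i i.2).1
  have hgv : ∀ i, (g : Matrix (Fin m ⊕ Fin m) (Fin m ⊕ Fin m) F) *ᵥ
      (eF (F := F) (Sum.inl (c i))) = v i := fun i => (hg i i.2).2
  have he1 : ∀ i : Fin m', ee m m' hk (Sum.inl (Sum.inl i)) = Sum.inl (c i) := fun i => rfl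
  have he2 : ∀ i : Fin m', ee m m' hk (Sum.inl (Sum.inr i)) = Sum.inr (c i) := fun i => rfl
  -- g maps W0 onto W
  have hgW : ∀ w : Fin m ⊕ Fin m → F, w ∈ W0 F (ee m m' hk) ↔
      (g : Matrix (Fin m ⊕ Fin m) (Fin m ⊕ Fin m) F) *ᵥ w ∈ W := by
    intro w
    constructor
    · intro hw
      rw [W0_repr (ee m m' hk) w hw, ← Matrix.mulVecLin_apply, map_sum]
      apply Submodule.sum_mem
      intro a _
      rw [map_smul]
      apply Submodule.smul_mem
      rw [Matrix.mulVecLin_apply]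
      rcases a with i | i
      · rw [he1]
        have := hgv i
        unfold eF at this
        rw [this]; exact hvW i
      · rw [he2]
        have := hgu i
        unfold eF at this
        rw [this]; exact huW i
    · intro hw
      set x : W := ⟨_, hw⟩ with hx
      have hsum := b.sum_repr x
      rw [Fintype.sum_sum_type, Fintype.sum_sum_type] at hsum
      simp only [Finset.univ_eq_empty, Finset.sum_empty, add_zero] at hsum
      have hsum' := congrArg Subtype.val hsum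
      rw [Submodule.coe_add, Submodule.coe_sum, Submodule.coe_sum] at hsum'
      simp only [Submodule.coe_smul] at hsum'
      set w' : Fin m ⊕ Fin m → F :=
        ∑ i : Fin m', (b.repr x (Sum.inl (Sum.inl i))) • eF (F := F) (Sum.inr (c i)) +
        ∑ i : Fin m', (b.repr x (Sum.inl (Sum.inr i))) • eF (F := F) (Sum.inl (c i)) with hw'
      have hgw' : (g : Matrix (Fin m ⊕ Fin m) (Fin m ⊕ Fin m) F) *ᵥ w'
          = (g : Matrix (Fin m ⊕ Fin m) (Fin m ⊕ Fin m) F) *ᵥ w := by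
        rw [hw', Matrix.mulVec_add, ← Matrix.mulVecLin_apply, ← Matrix.mulVecLin_apply, map_sum,
          map_sum]
        simp only [map_smul, Matrix.mulVecLin_apply, hgu, hgv]
        exact hsum'
      have hww' : w = w' := by
        have := congrArg (fun z => ((g⁻¹ : Matrix.symplecticGroup (Fin m) F) :
          Matrix (Fin m ⊕ Fin m) (Fin m ⊕ Fin m) F) *ᵥ z) hgw'
        simp only [inv_mulVec_mulVec] at this
        exact this.symm
      rw [hww', hw']
      apply Submodule.add_mem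
      · apply Submodule.sum_mem
        intro i _
        apply Submodule.smul_mem
        rw [← he2]
        exact single_mem_W0 (F := F) (ee m m' hk) (Sum.inr i)
      · apply Submodule.sum_mem
        intro i _
        apply Submodule.smul_mem
        rw [← he1]
        exact single_mem_W0 (F := F) (ee m m' hk) (Sum.inl i)
  have hconj : ∀ M : Matrix.symplecticGroup (Fin m) F,
      M ∈ Cfsg.stabilizing (Cfsg.spToMat m F) (W : Set (Fin m ⊕ Fin m → F)) ↔
      g⁻¹ * M * g ∈ Cfsg.stabilizing (Cfsg.spToMat m F)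
        (W0 F (ee m m' hk) : Set (Fin m ⊕ Fin m → F)) := by
    intro M
    have hmv : ∀ w : Fin m ⊕ Fin m → F,
        ((g⁻¹ * M * g : Matrix.symplecticGroup (Fin m) F) :
          Matrix (Fin m ⊕ Fin m) (Fin m ⊕ Fin m) F) *ᵥ w
        = ((g⁻¹ : Matrix.symplecticGroup (Fin m) F) :
          Matrix (Fin m ⊕ Fin m) (Fin m ⊕ Fin m) F) *ᵥ
          ((M : Matrix (Fin m ⊕ Fin m) (Fin m ⊕ Fin m) F) *ᵥ
            ((g : Matrix (Fin m ⊕ Fin m) (Fin m ⊕ Fin m) F) *ᵥ w)) := by
      intro w; rw [Matrix.mulVec_mulVec, Matrix.mulVec_mulVec]; rfl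
    constructor
    · intro hM w
      change w ∈ W0 F _ ↔ ((g⁻¹ * M * g : Matrix.symplecticGroup (Fin m) F) :
          Matrix (Fin m ⊕ Fin m) (Fin m ⊕ Fin m) F) *ᵥ w ∈ W0 F _
      rw [hmv, hgW, hgW, mulVec_inv_mulVec]
      exact hM ((g : Matrix (Fin m ⊕ Fin m) (Fin m ⊕ Fin m) F) *ᵥ w)
    · intro hM z
      have := hM (((g⁻¹ : Matrix.symplecticGroup (Fin m) F) :
          Matrix (Fin m ⊕ Fin m) (Fin m ⊕ Fin m) F) *ᵥ z)
      change _ ∈ W0 F _ ↔ ((g⁻¹ * M * g : Matrix.symplecticGroup (Fin m) F) :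
          Matrix (Fin m ⊕ Fin m) (Fin m ⊕ Fin m) F) *ᵥ _ ∈ W0 F _ at this
      rw [hmv, hgW, hgW, mulVec_inv_mulVec, mulVec_inv_mulVec] at this
      exact this
  have hrange : ((MulAut.conj g).toMonoidHom.comp (Phi (F := F) m' hk)).range
      = Cfsg.stabilizing (Cfsg.spToMat m F) (W : Set (Fin m ⊕ Fin m → F)) := by
    ext M
    rw [hconj M, ← range_Phi m' hk]
    constructor
    · rintro ⟨p, rfl⟩
      refine ⟨p, ?_⟩
      simp only [MonoidHom.comp_apply, MulEquiv.coe_toMonoidHom, MulAut.conj_apply]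
      group
    · rintro ⟨p, hp⟩
      refine ⟨p, ?_⟩
      simp only [MonoidHom.comp_apply, MulEquiv.coe_toMonoidHom, MulAut.conj_apply, hp]
      group
  have hinj : Function.Injective ((MulAut.conj g).toMonoidHom.comp (Phi (F := F) m' hk)) := by
    rw [MonoidHom.coe_comp]
    exact (MulAut.conj g).injective.comp (Phi_injective m' hk)
  exact ⟨((MonoidHom.ofInjective hinj).trans (MulEquiv.subgroupCongr hrange)).symm⟩

end Cfsg.Agent.S0776
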