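import Mathlib
import Cfsg.Agent.S0776
import Cfsg.Agent.S0749

set_option autoImplicit false
set_option linter.unusedSectionVars false
set_option linter.unusedVariables false

namespace Cfsg.Agent.helper29

open Matrix Cfsg.Agent.helper4 Cfsg.Agent.S0245 Cfsg.Agent.S2594

variable {F : Type*} [Field F] {m : ℕ}

local notation "Sp" => Matrix.symplecticGroup (Fin m) F
local notation "ff" => Cfsg.sympForm m F
local notation "VV" => (Fin m ⊕ Fin m → F)

/-- `sympForm` as a bundled bilinear form -/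
noncomputable def BF (m : ℕ) (F : Type*) [Field F] : LinearMap.BilinForm F (Fin m ⊕ Fin m → F) :=
  LinearMap.mk₂ F (fun u v => Cfsg.sympForm m F u v)
    (fun u u' v => sympForm_add_left u u' v)
    (fun c u v => sympForm_smul_left c u v)
    (fun u v v' => sympForm_add_right u v v')
    (fun c u v => sympForm_smul_right c u v)

theorem BF_apply (u v : VV) : BF m F u v = ff u v := rfl

theorem BF_alt : (BF m F).IsAlt := fun x => sympForm_self x

theorem BF_nondeg : (BF m F).Nondegenerate := by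
  constructor
  · intro x hx
    by_contra h
    obtain ⟨y, hy⟩ := exists_partner' x h
    have := hx y
    rw [BF_apply, hy] at this
    exact one_ne_zero this
  · intro y hy
    by_contra h
    obtain ⟨x, hx⟩ := exists_partner' y h
    have := hy x
    rw [BF_apply, sympForm_swap, hx] at this
    exact neg_ne_zero.mpr one_ne_zero this

theorem sympForm_eq_sum (u v : VV) :
    ff u v = ∑ i : Fin m, (u (Sum.inr i) * v (Sum.inl i) - u (Sum.inl i) * v (Sum.inr i)) := by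
  unfold Cfsg.sympForm
  simp only [dotProduct, Fintype.sum_sum_type, J_mulVec_apply_inl, J_mulVec_apply_inr]
  rw [Finset.sum_sub_distrib]
  simp only [mul_neg, Finset.sum_neg_distrib]
  ring

/-- a matrix preserving the form is symplectic -/
theorem mem_sp_of_preserves (M : Matrix (Fin m ⊕ Fin m) (Fin m ⊕ Fin m) F)
    (hM : ∀ u v : VV, ff (M *ᵥ u) (M *ᵥ v) = ff u v) : M ∈ Matrix.symplecticGroup (Fin m) F := by
  rw [SymplecticGroup.mem_iff']
  have h : ∀ u v : VV, u ⬝ᵥ ((Mᵀ * Matrix.J (Fin m) F * M) *ᵥ v) = u ⬝ᵥ (Matrix.J (Fin m) F *ᵥ v) := by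
    intro u v
    have := hM u v
    unfold Cfsg.sympForm at this
    rw [← this, ← Matrix.mulVec_mulVec, ← Matrix.mulVec_mulVec, Matrix.dotProduct_mulVec,
      Matrix.vecMul_transpose]
  ext i j
  have := h (Pi.single i 1) (Pi.single j 1)
  simpa [Matrix.mulVec_single_one] using this

/-- a linear isometry gives an element of the symplectic group -/
theorem exists_sp_of_isometry (g : VV ≃ₗ[F] VV) (hg : ∀ u v, ff (g u) (g v) = ff u v) :
    ∃ A : Sp, ∀ v : VV, (A : Matrix (Fin m ⊕ Fin m) (Fin m ⊕ Fin m) F) *ᵥ v = g v := by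
  have hmv : ∀ v : VV, LinearMap.toMatrix' g.toLinearMap *ᵥ v = g v := fun v =>
    LinearMap.toMatrix'_mulVec g.toLinearMap v
  refine ⟨⟨LinearMap.toMatrix' g.toLinearMap, mem_sp_of_preserves _ ?_⟩, hmv⟩
  intro u v
  rw [hmv, hmv, hg]

/-- Witt's lemma for the symplectic group, for submodules of the standard space -/
theorem witt_sp (X Y : Submodule F VV) (φ : X ≃ₗ[F] Y)
    (hφ : ∀ x x' : X, ff (φ x : VV) (φ x' : VV) = ff (x : VV) (x' : VV)) :
    ∃ A : Sp, ∀ x : X, (A : Matrix (Fin m ⊕ Fin m) (Fin m ⊕ Fin m) F) *ᵥ (x : VV) = (φ x : VV) := by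
  obtain ⟨g, hg1, hg2⟩ := Cfsg.Agent.S0749.result (BF m F) BF_nondeg BF_alt X Y φ hφ
  obtain ⟨A, hA⟩ := exists_sp_of_isometry g hg1
  exact ⟨A, fun x => by rw [hA, hg2]⟩

/-- conjugate stabilizers -/
theorem stab_conj (g : Sp) (S S₀ : Set VV)
    (h : ∀ v : VV, v ∈ S₀ ↔ (g : Matrix (Fin m ⊕ Fin m) (Fin m ⊕ Fin m) F) *ᵥ v ∈ S)
    (M : Sp) : M ∈ Cfsg.stabilizing (Cfsg.spToMat m F) S ↔
      g⁻¹ * M * g ∈ Cfsg.stabilizing (Cfsg.spToMat m F) S₀ := by
  have hmv : ∀ w : VV,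
      ((g⁻¹ * M * g : Sp) : Matrix (Fin m ⊕ Fin m) (Fin m ⊕ Fin m) F) *ᵥ w
      = ((g⁻¹ : Sp) : Matrix (Fin m ⊕ Fin m) (Fin m ⊕ Fin m) F) *ᵥ
        ((M : Matrix (Fin m ⊕ Fin m) (Fin m ⊕ Fin m) F) *ᵥ
          ((g : Matrix (Fin m ⊕ Fin m) (Fin m ⊕ Fin m) F) *ᵥ w)) := by
    intro w; rw [Matrix.mulVec_mulVec, Matrix.mulVec_mulVec]; rfl
  constructor
  · intro hM w
    change w ∈ S₀ ↔ ((g⁻¹ * M * g : Sp) : Matrix (Fin m ⊕ Fin m) (Fin m ⊕ Fin m) F) *ᵥ w ∈ S₀
    rw [hmv, h, h, Cfsg.Agent.S0776.mulVec_inv_mulVec]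
    exact hM ((g : Matrix (Fin m ⊕ Fin m) (Fin m ⊕ Fin m) F) *ᵥ w)
  · intro hM z
    have := hM (((g⁻¹ : Sp) : Matrix (Fin m ⊕ Fin m) (Fin m ⊕ Fin m) F) *ᵥ z)
    change _ ∈ S₀ ↔ ((g⁻¹ * M * g : Sp) : Matrix (Fin m ⊕ Fin m) (Fin m ⊕ Fin m) F) *ᵥ _ ∈ S₀ at this
    rw [hmv, h, h, Cfsg.Agent.S0776.mulVec_inv_mulVec, Cfsg.Agent.S0776.mulVec_inv_mulVec] at this
    exact this

/-- conjugate stabilizers are isomorphic -/
theorem stab_conj_equiv (g : Sp) (S S₀ : Set VV)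
    (h : ∀ v : VV, v ∈ S₀ ↔ (g : Matrix (Fin m ⊕ Fin m) (Fin m ⊕ Fin m) F) *ᵥ v ∈ S) :
    Nonempty (↥(Cfsg.stabilizing (Cfsg.spToMat m F) S₀) ≃* ↥(Cfsg.stabilizing (Cfsg.spToMat m F) S)) := by
  have hmap : (Cfsg.stabilizing (Cfsg.spToMat m F) S₀).map (MulAut.conj g).toMonoidHom
      = Cfsg.stabilizing (Cfsg.spToMat m F) S := by
    ext M
    rw [stab_conj g S S₀ h M, Subgroup.mem_map]
    constructor
    · rintro ⟨N, hN, rfl⟩
      have : g⁻¹ * ((MulAut.conj g).toMonoidHom N) * g = N := by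
        simp only [MulEquiv.coe_toMonoidHom, MulAut.conj_apply]; group
      rw [this]; exact hN
    · intro hM
      refine ⟨g⁻¹ * M * g, hM, ?_⟩
      simp only [MulEquiv.coe_toMonoidHom, MulAut.conj_apply]; group
  exact ⟨((MulAut.conj g).subgroupMap (Cfsg.stabilizing (Cfsg.spToMat m F) S₀)).trans
    (MulEquiv.subgroupCongr hmap)⟩

end Cfsg.Agent.helper29
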