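import Cfsg.Statements.S0304
import Mathlib
import Cfsg.Agent.Lib_helper29_SpWitt
-- import your own Cfsg.Agent.* helpers here

set_option autoImplicit false
open Cfsg

namespace Cfsg.Agent.S0304

set_option linter.unusedSectionVars false
set_option linter.unusedVariables false
open Matrix Cfsg.Agent.helper4 Cfsg.Agent.S0245 Cfsg.Agent.helper29

variable {F : Type*} [Field F] {m : ℕ}

local notation "Sp" => Matrix.symplecticGroup (Fin m) F
local notation "ff" => Cfsg.sympForm m F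
local notation "NN" => (Fin m ⊕ Fin m)
local notation "II" => (Unit ⊕ (Fin m ⊕ Fin m))
local notation "QQ" => Cfsg.quadFormOdd m F

/-- the hyperbolic quadratic form -/
def Q0 (w : NN → F) : F := ∑ i : Fin m, w (Sum.inl i) * w (Sum.inr i)

theorem Q_eq (v : II → F) : QQ v = v (Sum.inl ()) ^ 2 + Q0 (v ∘ Sum.inr) := rfl

theorem Q0_smul (c : F) (u : NN → F) : Q0 (c • u) = c ^ 2 * Q0 u := by
  unfold Q0
  rw [Finset.mul_sum]
  apply Finset.sum_congr rfl
  intro i _
  simp only [Pi.smul_apply, smul_eq_mul]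
  ring

theorem Q0_single (x : NN) : Q0 (Pi.single x 1 : NN → F) = 0 := by
  unfold Q0
  apply Finset.sum_eq_zero
  intro i _
  rcases x with j | j <;> simp

theorem Q0_zero : Q0 (0 : NN → F) = 0 := by
  unfold Q0; simp

theorem mulVec_inr (g : Matrix II II F) (v : II → F) :
    (g *ᵥ v) ∘ Sum.inr = g.toBlocks₂₁ *ᵥ (v ∘ Sum.inl) + g.toBlocks₂₂ *ᵥ (v ∘ Sum.inr) := by
  conv_lhs => rw [← Matrix.fromBlocks_toBlocks g, Matrix.fromBlocks_mulVec]
  rfl

theorem mulVec_inl (g : Matrix II II F) (v : II → F) :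
    (g *ᵥ v) ∘ Sum.inl = g.toBlocks₁₁ *ᵥ (v ∘ Sum.inl) + g.toBlocks₁₂ *ᵥ (v ∘ Sum.inr) := by
  conv_lhs => rw [← Matrix.fromBlocks_toBlocks g, Matrix.fromBlocks_mulVec]
  rfl

section char2
variable [CharP F 2]

theorem Q0_add (u v : NN → F) : Q0 (u + v) = Q0 u + Q0 v + ff u v := by
  rw [sympForm_eq_sum]
  unfold Q0
  rw [← Finset.sum_add_distrib, ← Finset.sum_add_distrib]
  apply Finset.sum_congr rfl
  intro i _
  rw [CharTwo.sub_eq_add]
  simp only [Pi.add_apply]
  ring

theorem Q_add (u v : II → F) :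
    QQ (u + v) = QQ u + QQ v + ff (u ∘ Sum.inr) (v ∘ Sum.inr) := by
  rw [Q_eq, Q_eq, Q_eq]
  have : (u + v) ∘ Sum.inr = u ∘ Sum.inr + v ∘ (Sum.inr : NN → II) := rfl
  rw [this, Q0_add, Pi.add_apply, CharTwo.add_sq]
  ring

theorem form_pres (g : Matrix II II F) (hg : ∀ u, QQ (g *ᵥ u) = QQ u) (u v : II → F) :
    ff ((g *ᵥ u) ∘ Sum.inr) ((g *ᵥ v) ∘ Sum.inr) = ff (u ∘ Sum.inr) (v ∘ Sum.inr) := by
  have h1 := Q_add (g *ᵥ u) (g *ᵥ v)
  rw [← Matrix.mulVec_add, hg, hg, hg, Q_add u v] at h1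
  exact (add_left_cancel h1).symm

theorem block22_mem (g : Matrix II II F) (hg : ∀ u, QQ (g *ᵥ u) = QQ u) :
    g.toBlocks₂₂ ∈ Matrix.symplecticGroup (Fin m) F := by
  apply mem_sp_of_preserves
  intro w w'
  have h := form_pres g hg (Sum.elim 0 w) (Sum.elim 0 w')
  rw [mulVec_inr, mulVec_inr] at h
  simp only [Sum.elim_comp_inl, Sum.elim_comp_inr, Matrix.mulVec_zero, zero_add] at h
  exact h

theorem radical_zero (x : NN → F) (h : ∀ w, ff x w = 0) : x = 0 := by
  funext j
  rcases j with i | i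
  · have := h (eF (Sum.inr i))
    rw [form_eV_inr] at this
    exact neg_eq_zero.mp this
  · have := h (eF (Sum.inl i))
    rw [form_eV_inl] at this
    exact this

theorem col_zero (g : GL II F) (hg : ∀ u, QQ ((g : Matrix II II F) *ᵥ u) = QQ u) :
    ((g : Matrix II II F) *ᵥ (Pi.single (Sum.inl ()) 1 : II → F)) ∘ Sum.inr = 0 := by
  apply radical_zero
  intro w
  have h := form_pres g.1 hg (Pi.single (Sum.inl ()) 1)
    (((g⁻¹ : GL II F) : Matrix II II F) *ᵥ (Sum.elim 0 w))
  rw [Matrix.mulVec_mulVec, ← Units.val_mul, mul_inv_cancel, Units.val_one, Matrix.one_mulVec,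
    Sum.elim_comp_inr] at h
  rw [h]
  have : (Pi.single (Sum.inl ()) 1 : II → F) ∘ Sum.inr = 0 := by
    funext j; simp
  rw [this]
  exact Cfsg.Agent.S0766.sympForm_zero_left _

theorem block21_zero (g : GL II F) (hg : ∀ u, QQ ((g : Matrix II II F) *ᵥ u) = QQ u) :
    (g : Matrix II II F).toBlocks₂₁ = 0 := by
  ext x u
  have := congrFun (col_zero g hg) x
  rw [Matrix.mulVec_single_one] at this
  exact this

theorem block11_one (g : GL II F) (hg : ∀ u, QQ ((g : Matrix II II F) *ᵥ u) = QQ u) :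
    (g : Matrix II II F).toBlocks₁₁ = 1 := by
  have h1 := hg (Pi.single (Sum.inl ()) 1)
  rw [Q_eq, Q_eq, col_zero g hg, Q0_zero, add_zero, Matrix.mulVec_single_one] at h1
  have h2 : (Pi.single (Sum.inl ()) 1 : II → F) ∘ Sum.inr = 0 := by
    funext j; simp
  rw [h2, Q0_zero, add_zero] at h1
  simp only [Matrix.col_apply, Pi.single_eq_same, one_pow] at h1
  have h3 : ((g : Matrix II II F) (Sum.inl ()) (Sum.inl ()) + 1) ^ 2 = 0 := by
    rw [CharTwo.add_sq, h1, one_pow, CharTwo.add_self_eq_zero]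
  have h4 := pow_eq_zero_iff (two_ne_zero) |>.mp h3
  have h5 : (g : Matrix II II F) (Sum.inl ()) (Sum.inl ()) = 1 := by
    have := eq_neg_of_add_eq_zero_left h4
    rwa [CharTwo.neg_eq] at this
  ext a b
  simp only [Matrix.toBlocks₁₁, Matrix.of_apply, Matrix.one_apply_eq]
  exact h5

end char2

section iso
variable [CharP F 2]

theorem mem_iso (g : GL II F) : g ∈ Cfsg.isometryGroup F QQ ↔
    ∀ u, QQ ((g : Matrix II II F) *ᵥ u) = QQ u := by
  constructor
  · intro h u; exact h u 0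
  · intro h u v; exact h u

/-- the map `O(Q) → Sp` -/
def PhiHom : ↥(Cfsg.isometryGroup F QQ) →* Sp :=
  MonoidHom.mk' (fun g => ⟨((g : GL II F) : Matrix II II F).toBlocks₂₂,
      block22_mem _ ((mem_iso g.1).mp g.2)⟩) (by
    intro a b
    apply Subtype.ext
    change ((a.1 * b.1 : GL II F) : Matrix II II F).toBlocks₂₂
      = (a.1 : Matrix II II F).toBlocks₂₂ * (b.1 : Matrix II II F).toBlocks₂₂
    rw [Units.val_mul]
    conv_lhs => rw [← Matrix.fromBlocks_toBlocks (a.1 : Matrix II II F),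
      ← Matrix.fromBlocks_toBlocks (b.1 : Matrix II II F), Matrix.fromBlocks_multiply,
      Matrix.toBlocks_fromBlocks₂₂]
    rw [block21_zero a.1 ((mem_iso a.1).mp a.2), Matrix.zero_mul, zero_add])

theorem PhiHom_coe (g : ↥(Cfsg.isometryGroup F QQ)) :
    ((PhiHom g : Sp) : Matrix NN NN F) = ((g : GL II F) : Matrix II II F).toBlocks₂₂ := rfl

theorem PhiHom_inj : Function.Injective (PhiHom (F := F) (m := m)) := by
  rw [injective_iff_map_eq_one]
  intro g hg
  have h22 : ((g : GL II F) : Matrix II II F).toBlocks₂₂ = 1 := by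
    have := congrArg Subtype.val hg
    rwa [PhiHom_coe] at this
  have hQ := (mem_iso g.1).mp g.2
  have h21 := block21_zero g.1 hQ
  have h11 := block11_one g.1 hQ
  have h12 : ((g : GL II F) : Matrix II II F).toBlocks₁₂ = 0 := by
    ext u j
    have h1 := hQ (Sum.elim 0 (Pi.single j 1))
    rw [Q_eq, Q_eq, mulVec_inr, Sum.elim_comp_inl, Sum.elim_comp_inr, Matrix.mulVec_zero, zero_add,
      h22, Matrix.one_mulVec] at h1
    have h2 : (Sum.elim (0 : Unit → F) (Pi.single j 1 : NN → F)) (Sum.inl ()) = 0 := rfl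
    rw [h2] at h1
    have h3 := congrFun (mulVec_inl (g.1 : Matrix II II F) (Sum.elim 0 (Pi.single j 1))) ()
    rw [Sum.elim_comp_inl, Sum.elim_comp_inr, Matrix.mulVec_zero, zero_add,
      Matrix.mulVec_single_one] at h3
    change ((g.1 : Matrix II II F) *ᵥ Sum.elim 0 (Pi.single j 1)) (Sum.inl ()) = _ at h3
    rw [h3] at h1
    have h4 : ((g.1 : Matrix II II F).toBlocks₁₂.col j ()) ^ 2 = 0 := by
      have := add_right_cancel h1
      rw [this]; ring
    have h5 := pow_eq_zero_iff (two_ne_zero) |>.mp h4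
    exact h5
  apply Subtype.ext
  apply Units.ext
  change ((g : GL II F) : Matrix II II F) = 1
  rw [← Matrix.fromBlocks_toBlocks ((g : GL II F) : Matrix II II F), h11, h12, h21, h22,
    Matrix.fromBlocks_one]

/-- square roots in a finite field of characteristic 2 -/
theorem exists_sqrt [Finite F] (x : F) : ∃ y : F, y ^ 2 = x := by
  have : Function.Surjective (frobenius F 2) := by
    apply Finite.surjective_of_injective
    exact frobenius_inj F 2
  obtain ⟨y, hy⟩ := this x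
  exact ⟨y, hy⟩

/-- the defect of `Q0` under a symplectic map is additive -/
theorem defect (A : Sp) (w : NN → F) :
    Q0 ((A : Matrix NN NN F) *ᵥ w) = Q0 w + ∑ j, w j ^ 2 * Q0 ((A : Matrix NN NN F) *ᵥ Pi.single j 1) := by
  classical
  let D : (NN → F) →+ F := AddMonoidHom.mk' (fun w => Q0 ((A : Matrix NN NN F) *ᵥ w) + Q0 w) (by
    intro a b
    change Q0 ((A : Matrix NN NN F) *ᵥ (a + b)) + Q0 (a + b) = _
    rw [Matrix.mulVec_add, Q0_add, Q0_add, Cfsg.Agent.S0766.sympForm_mulVec A]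
    have := CharTwo.add_self_eq_zero (ff a b)
    linear_combination this)
  have hD : ∀ w, D w = Q0 ((A : Matrix NN NN F) *ᵥ w) + Q0 w := fun w => rfl
  have hw : w = ∑ x : NN, w x • (Pi.single x 1 : NN → F) := by
    ext y
    simp [Finset.sum_apply, Pi.single_apply]
  have h1 : D w = ∑ j, w j ^ 2 * Q0 ((A : Matrix NN NN F) *ᵥ Pi.single j 1) := by
    conv_lhs => rw [hw]
    rw [map_sum]
    apply Finset.sum_congr rfl
    intro j _
    rw [hD, Matrix.mulVec_smul, Q0_smul, Q0_smul, Q0_single, mul_zero, add_zero]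
  rw [hD] at h1
  have h2 := CharTwo.add_self_eq_zero (Q0 w)
  linear_combination h1 - h2

end iso

section surj
variable [CharP F 2] [Finite F]

theorem PhiHom_surj : Function.Surjective (PhiHom (F := F) (m := m)) := by
  classical
  intro A
  choose r hr using fun j : NN => exists_sqrt (Q0 ((A : Matrix NN NN F) *ᵥ Pi.single j 1))
  set g₀ : Matrix II II F :=
    Matrix.fromBlocks (1 : Matrix Unit Unit F) (Matrix.replicateRow Unit r) 0 (A : Matrix NN NN F)
    with hg₀
  have hdet : IsUnit g₀.det := by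
    rw [hg₀, Matrix.det_fromBlocks_zero₂₁, Matrix.det_one, one_mul]
    exact SymplecticGroup.symplectic_det A.2
  have hunit : IsUnit g₀ := (Matrix.isUnit_iff_isUnit_det _).mpr hdet
  have hQ : ∀ u, QQ (g₀ *ᵥ u) = QQ u := by
    intro u
    rw [Q_eq, Q_eq, mulVec_inr]
    have h1 : (g₀ *ᵥ u) (Sum.inl ()) = u (Sum.inl ()) + ∑ j, r j * u (Sum.inr j) := by
      have := congrFun (mulVec_inl g₀ u) ()
      change (g₀ *ᵥ u) (Sum.inl ()) = _ at this
      rw [this, hg₀, Matrix.toBlocks_fromBlocks₁₁, Matrix.toBlocks_fromBlocks₁₂, Matrix.one_mulVec]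
      simp [Matrix.mulVec, dotProduct]
    rw [h1, hg₀, Matrix.toBlocks_fromBlocks₂₁, Matrix.toBlocks_fromBlocks₂₂, Matrix.zero_mulVec,
      zero_add, defect A, CharTwo.add_sq, sum_pow_char 2]
    have h2 : ∑ j, (r j * u (Sum.inr j)) ^ 2
        = ∑ j, (u ∘ Sum.inr) j ^ 2 * Q0 ((A : Matrix NN NN F) *ᵥ Pi.single j 1) := by
      apply Finset.sum_congr rfl
      intro j _
      rw [mul_pow, hr j, Function.comp_apply]
      ring
    rw [h2]
    have h3 := CharTwo.add_self_eq_zero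
      (∑ j, (u ∘ Sum.inr) j ^ 2 * Q0 ((A : Matrix NN NN F) *ᵥ Pi.single j 1))
    linear_combination h3
  refine ⟨⟨hunit.unit, (mem_iso _).mpr hQ⟩, ?_⟩
  apply Subtype.ext
  rw [PhiHom_coe]
  change g₀.toBlocks₂₂ = _
  rw [hg₀, Matrix.toBlocks_fromBlocks₂₂]

end surj

/-- In characteristic 2, O_{2m+1}(q) is isomorphic to Sp_{2m}(q). -/
theorem result {F : Type*} [Field F] [Fintype F] [CharP F 2] (m : ℕ) : Nonempty (Cfsg.isometryGroup F (Cfsg.quadFormOdd m F) ≃* Matrix.symplecticGroup (Fin m) F) := by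
  exact ⟨MulEquiv.ofBijective PhiHom ⟨PhiHom_inj, PhiHom_surj⟩⟩

end Cfsg.Agent.S0304
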