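import Cfsg.Statements.S0440
import Mathlib
import Cfsg.Agent.S2594
import Cfsg.Agent.S0765
-- import your own Cfsg.Agent.* helpers here

set_option autoImplicit false
open Cfsg

namespace Cfsg.Agent.S0440

open Matrix Cfsg.Agent.helper4 Cfsg.Agent.S0245 Cfsg.Agent.S2594

variable {F : Type*} [Field F] {m : ℕ}

local notation "Sp" => Matrix.symplecticGroup (Fin m) F
local notation "ff" => Cfsg.sympForm m F
local notation "VV" => (Fin m ⊕ Fin m → F)

/-- the transvection as an element of Sp -/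
def TT (x : VV) (c : F) : Sp := ⟨Cfsg.sympTransvection m x c, sympTransvection_mem x c⟩

theorem TT_mulVec (x : VV) (c : F) (u : VV) :
    ((TT x c : Sp) : Matrix (Fin m ⊕ Fin m) (Fin m ⊕ Fin m) F) *ᵥ u = u + (c * ff u x) • x :=
  sympTransvection_mulVec x c u

theorem rank_TT (x : VV) (c : F) (hx : x ≠ 0) (hc : c ≠ 0) :
    (((TT x c : Sp) : Matrix (Fin m ⊕ Fin m) (Fin m ⊕ Fin m) F) - 1).rank = 1 := by
  classical
  unfold Matrix.rank
  obtain ⟨y, hy⟩ := exists_partner' x hx
  have hyx : ff y x = -1 := by rw [sympForm_swap, hy]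
  have hform : ∀ u : VV, (((TT x c : Sp) : Matrix (Fin m ⊕ Fin m) (Fin m ⊕ Fin m) F) - 1).mulVecLin u
      = (c * ff u x) • x := by
    intro u
    rw [Matrix.mulVecLin_apply, Matrix.sub_mulVec, Matrix.one_mulVec, TT_mulVec]
    abel
  have hxr : x ∈ LinearMap.range
      (((TT x c : Sp) : Matrix (Fin m ⊕ Fin m) (Fin m ⊕ Fin m) F) - 1).mulVecLin := by
    refine ⟨(-c⁻¹) • y, ?_⟩
    rw [hform, sympForm_smul_left, hyx]
    have : c * (-c⁻¹ * -1) = 1 := by field_simp
    rw [this, one_smul]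
  rw [finrank_eq_one_iff']
  refine ⟨⟨x, hxr⟩, ?_, ?_⟩
  · intro e
    exact hx (congrArg Subtype.val e)
  · rintro ⟨w, u, rfl⟩
    refine ⟨c * ff u x, ?_⟩
    apply Subtype.ext
    exact (hform u).symm

theorem TT_eq_of_mulVec (t : Sp) (x : VV) (c : F)
    (h : ∀ u : VV, (t : Matrix (Fin m ⊕ Fin m) (Fin m ⊕ Fin m) F) *ᵥ u = u + (c * ff u x) • x) :
    t = TT x c := by
  apply Subtype.ext
  rw [Matrix.ext_iff_mulVec]
  intro u
  rw [h u, TT_mulVec]

theorem conj_TT (g : Sp) (x : VV) (c : F) :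
    g * TT x c * g⁻¹ = TT ((g : Matrix (Fin m ⊕ Fin m) (Fin m ⊕ Fin m) F) *ᵥ x) c := by
  apply TT_eq_of_mulVec
  intro u
  rw [Submonoid.coe_mul, Submonoid.coe_mul, ← Matrix.mulVec_mulVec, ← Matrix.mulVec_mulVec,
    TT_mulVec, Matrix.mulVec_add, Matrix.mulVec_smul, Matrix.mulVec_mulVec, ← Submonoid.coe_mul,
    mul_inv_cancel]
  have h1 : ff (((g⁻¹ : Sp) : Matrix (Fin m ⊕ Fin m) (Fin m ⊕ Fin m) F) *ᵥ u) x =
      ff u ((g : Matrix (Fin m ⊕ Fin m) (Fin m ⊕ Fin m) F) *ᵥ x) := by
    have := Cfsg.Agent.S0766.sympForm_mulVec g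
      (((g⁻¹ : Sp) : Matrix (Fin m ⊕ Fin m) (Fin m ⊕ Fin m) F) *ᵥ u) x
    rw [Matrix.mulVec_mulVec, ← Submonoid.coe_mul, mul_inv_cancel] at this
    simp only [Submonoid.coe_one, Matrix.one_mulVec] at this
    exact this.symm
  rw [h1]
  simp

theorem g_step (x y u : VV) (a b ε ε' : F) (ha : ff u x = a) (hb : ff u y = b)
    (hxy : ff x y = ε) (hyx : ff y x = ε') (α β : F) :
    ((TT x 1 * TT y 1 : Sp) : Matrix (Fin m ⊕ Fin m) (Fin m ⊕ Fin m) F) *ᵥ (u + α • x + β • y) =
      u + (α + (a + β * ε') + (b + α * ε) * ε') • x + (β + (b + α * ε)) • y := by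
  rw [Submonoid.coe_mul, ← Matrix.mulVec_mulVec, TT_mulVec, TT_mulVec]
  simp only [sympForm_add_left, sympForm_smul_left, sympForm_self, ha, hb, hxy, hyx]
  module

/-- In the symplectic group in dimension 2n ≥ 2 over the field with two elements, the elements g for which g - 1 has rank one (the symplectic transvections) form a conjugacy class of 3-transpositions generating the group. -/
theorem result (n : ℕ) (hn : 1 ≤ n) : Cfsg.IsThreeTranspositionClass {g : Matrix.symplecticGroup (Fin n) (ZMod 2) | ((g : Matrix (Fin n ⊕ Fin n) (Fin n ⊕ Fin n) (ZMod 2)) - 1).rank = 1} := by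
  classical
  have hD : ∀ g : Matrix.symplecticGroup (Fin n) (ZMod 2),
      g ∈ {g : Matrix.symplecticGroup (Fin n) (ZMod 2) | ((g : Matrix (Fin n ⊕ Fin n) (Fin n ⊕ Fin n) (ZMod 2)) - 1).rank = 1} ↔
      ∃ x : Fin n ⊕ Fin n → ZMod 2, x ≠ 0 ∧ g = TT x 1 := by
    intro g
    constructor
    · intro hg
      obtain ⟨x, lam, hx, hlam, h⟩ := transvection_form g hg
      have h1 : lam = 1 := by
        revert hlam
        generalize lam = l
        revert l
        decide
      subst h1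
      exact ⟨x, hx, TT_eq_of_mulVec g x 1 h⟩
    · rintro ⟨x, hx, rfl⟩
      exact rank_TT x 1 hx one_ne_zero
  have hsq : ∀ x : Fin n ⊕ Fin n → ZMod 2, (TT x 1 : Matrix.symplecticGroup (Fin n) (ZMod 2)) ^ 2 = 1 := by
    intro x
    rw [pow_two]
    apply Subtype.ext
    show Cfsg.sympTransvection n x 1 * Cfsg.sympTransvection n x 1 = 1
    rw [Cfsg.Agent.helper4.sympTransvection_mul]
    have : (1 : ZMod 2) + 1 = 0 := by decide
    rw [this, Cfsg.Agent.helper4.sympTransvection_zero]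
  refine ⟨⟨?_, ?_⟩, ?_, ?_⟩
  · intro d hd
    obtain ⟨x, hx, rfl⟩ := (hD d).mp hd
    apply orderOf_eq_prime (hsq x)
    intro h1
    have := rank_TT x (1 : ZMod 2) hx one_ne_zero
    rw [h1] at this
    simp at this
  · intro d hd e he
    obtain ⟨x, hx, rfl⟩ := (hD d).mp hd
    obtain ⟨y, hy, rfl⟩ := (hD e).mp he
    have hcases : Cfsg.sympForm n (ZMod 2) x y = 0 ∨ Cfsg.sympForm n (ZMod 2) x y = 1 := by
      generalize Cfsg.sympForm n (ZMod 2) x y = a
      revert a
      decide
    have hneg : ∀ a : ZMod 2, -a = a := by decide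
    have hyx : Cfsg.sympForm n (ZMod 2) y x = Cfsg.sympForm n (ZMod 2) x y := by
      rw [Cfsg.Agent.helper4.sympForm_swap, hneg]
    have hstart : ∀ u : Fin n ⊕ Fin n → ZMod 2, u = u + (0 : ZMod 2) • x + (0 : ZMod 2) • y := by
      intro u; simp
    rcases hcases with h0 | h1
    · left
      apply Subtype.ext
      rw [SubmonoidClass.coe_pow, Matrix.ext_iff_mulVec]
      intro u
      rw [pow_two, ← Matrix.mulVec_mulVec]
      conv_lhs => rw [hstart u]
      rw [g_step x y u _ _ 0 0 rfl rfl h0 (hyx.trans h0),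
        g_step x y u _ _ 0 0 rfl rfl h0 (hyx.trans h0)]
      simp only [Submonoid.coe_one, Matrix.one_mulVec]
      generalize Cfsg.sympForm n (ZMod 2) u x = a
      generalize Cfsg.sympForm n (ZMod 2) u y = b
      have e1 : (0 + (a + 0 * 0) + (b + 0 * 0) * 0 + (a + (0 + (b + 0 * 0)) * 0) +
          (b + (0 + (a + 0 * 0) + (b + 0 * 0) * 0) * 0) * 0 : ZMod 2) = 0 := by
        revert a b; decide
      have e2 : (0 + (b + 0 * 0) + (b + (0 + (a + 0 * 0) + (b + 0 * 0) * 0) * 0) : ZMod 2) = 0 := by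
        revert a b; decide
      rw [e1, e2]
      simp
    · right
      apply Subtype.ext
      rw [SubmonoidClass.coe_pow, Matrix.ext_iff_mulVec]
      intro u
      rw [pow_succ, pow_two, ← Matrix.mulVec_mulVec, ← Matrix.mulVec_mulVec]
      conv_lhs => rw [hstart u]
      rw [g_step x y u _ _ 1 1 rfl rfl h1 (hyx.trans h1),
        g_step x y u _ _ 1 1 rfl rfl h1 (hyx.trans h1),
        g_step x y u _ _ 1 1 rfl rfl h1 (hyx.trans h1)]
      simp only [Submonoid.coe_one, Matrix.one_mulVec]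
      generalize Cfsg.sympForm n (ZMod 2) u x = a
      generalize Cfsg.sympForm n (ZMod 2) u y = b
      have hz : ∀ (α β : ZMod 2), α = 0 → β = 0 → u + α • x + β • y = u := by
        intro α β h1 h2
        rw [h1, h2]
        simp
      apply hz
      · revert a b; decide
      · revert a b; decide
  · have hx0 : (Pi.single (Sum.inl ⟨0, hn⟩) 1 : Fin n ⊕ Fin n → ZMod 2) ≠ 0 := by
      intro h
      have := congrFun h (Sum.inl ⟨0, hn⟩)
      simp at this
    refine ⟨TT (Pi.single (Sum.inl ⟨0, hn⟩) 1) 1, (hD _).mpr ⟨_, hx0, rfl⟩, ?_⟩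
    ext e
    show _ ↔ IsConj _ e
    rw [isConj_iff]
    constructor
    · intro he
      obtain ⟨y, hy, rfl⟩ := (hD e).mp he
      obtain ⟨g, hg⟩ := trans_nonzero (Pi.single (Sum.inl ⟨0, hn⟩) 1 : Fin n ⊕ Fin n → ZMod 2) y hx0 hy
      exact ⟨g, by rw [conj_TT, hg]⟩
    · rintro ⟨g, rfl⟩
      rw [conj_TT]
      apply (hD _).mpr
      refine ⟨_, ?_, rfl⟩
      intro h0
      have h2 := congrArg (fun w : Fin n ⊕ Fin n → ZMod 2 =>
        ((g⁻¹ : Matrix.symplecticGroup (Fin n) (ZMod 2)) : Matrix (Fin n ⊕ Fin n) (Fin n ⊕ Fin n) (ZMod 2)) *ᵥ w) h0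
      simp only [Matrix.mulVec_mulVec, Matrix.mulVec_zero] at h2
      rw [← Submonoid.coe_mul, inv_mul_cancel] at h2
      simp only [Submonoid.coe_one, Matrix.one_mulVec] at h2
      exact hx0 h2
  · rw [eq_top_iff, ← Cfsg.Agent.S0765.result (F := ZMod 2) n]
    apply (Subgroup.closure_le _).mpr
    rintro A ⟨w, c, hA⟩
    by_cases hw : w = 0
    · have : A = 1 := by
        apply Subtype.ext
        rw [hA, hw]
        simp [Cfsg.sympTransvection]
      rw [this]
      exact Subgroup.one_mem _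
    · by_cases hc : c = 0
      · have : A = 1 := by
          apply Subtype.ext
          rw [hA, hc, Cfsg.Agent.helper4.sympTransvection_zero]
          rfl
        rw [this]
        exact Subgroup.one_mem _
      · have hc1 : c = 1 := by
          revert hc
          generalize c = l
          revert l
          decide
        apply Subgroup.subset_closure
        apply (hD A).mpr
        refine ⟨w, hw, ?_⟩
        apply Subtype.ext
        rw [hA, hc1]
        rfl

end Cfsg.Agent.S0440
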