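import Cfsg.Statements.S0778
import Mathlib
-- import your own Cfsg.Agent.* helpers here

set_option autoImplicit false
open Cfsg

namespace Cfsg.Agent.S0778

open Matrix

variable {F : Type*} [Field F]

/-- the block diagonal matrix -/
def diagMat (m : ℕ) (P : GL (Fin m) F) : Matrix (Fin m ⊕ Fin m) (Fin m ⊕ Fin m) F :=
  Matrix.fromBlocks (P : Matrix (Fin m) (Fin m) F) 0 0
    (((P⁻¹ : GL (Fin m) F) : Matrix (Fin m) (Fin m) F)ᵀ)

lemma diagMat_mem (m : ℕ) (P : GL (Fin m) F) :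
    diagMat m P ∈ Matrix.symplecticGroup (Fin m) F := by
  rw [SymplecticGroup.mem_iff]
  unfold diagMat Matrix.J
  rw [Matrix.fromBlocks_transpose, Matrix.fromBlocks_multiply, Matrix.fromBlocks_multiply]
  have h1 : (P : Matrix (Fin m) (Fin m) F) * ((P⁻¹ : GL (Fin m) F) : Matrix (Fin m) (Fin m) F) = 1 := by
    rw [← Units.val_mul, mul_inv_cancel]; rfl
  have h2 : (((P⁻¹ : GL (Fin m) F) : Matrix (Fin m) (Fin m) F)ᵀ) *
      (P : Matrix (Fin m) (Fin m) F)ᵀ = 1 := by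
    rw [← Matrix.transpose_mul, h1, Matrix.transpose_one]
  simp only [Matrix.mul_zero, Matrix.zero_mul, Matrix.mul_one, add_zero, zero_add, Matrix.transpose_zero,
    Matrix.mul_neg, Matrix.neg_mul, Matrix.transpose_transpose, h1, h2, neg_zero]

/-- the hom -/
def phi (m : ℕ) : GL (Fin m) F →* Matrix.symplecticGroup (Fin m) F where
  toFun P := ⟨diagMat m P, diagMat_mem m P⟩
  map_one' := by
    apply Subtype.ext
    simp [diagMat]
  map_mul' P Q := by
    apply Subtype.ext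
    simp only [diagMat, Submonoid.coe_mul, Matrix.fromBlocks_multiply]
    simp [_root_.mul_inv_rev, Matrix.transpose_mul]

lemma phi_injective (m : ℕ) : Function.Injective (phi (F := F) m) := by
  intro P Q h
  have h' : diagMat m P = diagMat m Q := congrArg Subtype.val h
  simp only [diagMat] at h'
  have := (Matrix.fromBlocks_inj.mp h').1
  exact Units.ext this

lemma mulVec_eq_zero_iff {n : Type} [Fintype n] [DecidableEq n] (A B : Matrix n n F) (h : B * A = 1)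
    (w : n → F) : A *ᵥ w = 0 ↔ w = 0 := by
  constructor
  · intro hw
    have := congrArg (fun u => B *ᵥ u) hw
    simpa [Matrix.mulVec_mulVec, h] using this
  · rintro rfl; simp

lemma diag_inr (m : ℕ) (P : GL (Fin m) F) (v : Fin m ⊕ Fin m → F) :
    (fun i => (diagMat m P *ᵥ v) (Sum.inr i)) =
      (((P⁻¹ : GL (Fin m) F) : Matrix (Fin m) (Fin m) F)ᵀ) *ᵥ (v ∘ Sum.inr) := by
  unfold diagMat
  rw [Matrix.fromBlocks_mulVec]
  funext i
  simp

lemma diag_inl (m : ℕ) (P : GL (Fin m) F) (v : Fin m ⊕ Fin m → F) :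
    (fun i => (diagMat m P *ᵥ v) (Sum.inl i)) =
      (P : Matrix (Fin m) (Fin m) F) *ᵥ (v ∘ Sum.inl) := by
  unfold diagMat
  rw [Matrix.fromBlocks_mulVec]
  funext i
  simp

lemma phi_mem1 (m : ℕ) (P : GL (Fin m) F) :
    phi m P ∈ Cfsg.stabilizing (Cfsg.spToMat m F)
      {v : Fin m ⊕ Fin m → F | ∀ i : Fin m, v (Sum.inr i) = 0} := by
  intro v
  show (∀ i : Fin m, v (Sum.inr i) = 0) ↔ ∀ i : Fin m, (diagMat m P *ᵥ v) (Sum.inr i) = 0
  have h1 : (∀ i : Fin m, (diagMat m P *ᵥ v) (Sum.inr i) = 0) ↔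
      (fun i => (diagMat m P *ᵥ v) (Sum.inr i)) = 0 := by
    constructor
    · intro h; funext i; exact h i
    · intro h i; exact congrFun h i
  have h2 : (∀ i : Fin m, v (Sum.inr i) = 0) ↔ v ∘ Sum.inr = 0 := by
    constructor
    · intro h; funext i; exact h i
    · intro h i; exact congrFun h i
  rw [h1, h2, diag_inr]
  have hB : (P : Matrix (Fin m) (Fin m) F)ᵀ *
      (((P⁻¹ : GL (Fin m) F) : Matrix (Fin m) (Fin m) F)ᵀ) = 1 := by
    rw [← Matrix.transpose_mul, ← Units.val_mul, inv_mul_cancel]; simp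
  exact (mulVec_eq_zero_iff _ _ hB _).symm

lemma phi_mem2 (m : ℕ) (P : GL (Fin m) F) :
    phi m P ∈ Cfsg.stabilizing (Cfsg.spToMat m F)
      {v : Fin m ⊕ Fin m → F | ∀ i : Fin m, v (Sum.inl i) = 0} := by
  intro v
  show (∀ i : Fin m, v (Sum.inl i) = 0) ↔ ∀ i : Fin m, (diagMat m P *ᵥ v) (Sum.inl i) = 0
  have h1 : (∀ i : Fin m, (diagMat m P *ᵥ v) (Sum.inl i) = 0) ↔
      (fun i => (diagMat m P *ᵥ v) (Sum.inl i)) = 0 := by
    constructor
    · intro h; funext i; exact h i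
    · intro h i; exact congrFun h i
  have h2 : (∀ i : Fin m, v (Sum.inl i) = 0) ↔ v ∘ Sum.inl = 0 := by
    constructor
    · intro h; funext i; exact h i
    · intro h i; exact congrFun h i
  rw [h1, h2, diag_inl]
  have hB : ((P⁻¹ : GL (Fin m) F) : Matrix (Fin m) (Fin m) F) *
      (P : Matrix (Fin m) (Fin m) F) = 1 := by
    rw [← Units.val_mul, inv_mul_cancel]; rfl
  exact (mulVec_eq_zero_iff _ _ hB _).symm

lemma surj_aux (m : ℕ) (A : Matrix.symplecticGroup (Fin m) F)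
    (h1 : A ∈ Cfsg.stabilizing (Cfsg.spToMat m F)
      {v : Fin m ⊕ Fin m → F | ∀ i : Fin m, v (Sum.inr i) = 0})
    (h2 : A ∈ Cfsg.stabilizing (Cfsg.spToMat m F)
      {v : Fin m ⊕ Fin m → F | ∀ i : Fin m, v (Sum.inl i) = 0}) :
    ∃ P : GL (Fin m) F, phi m P = A := by
  classical
  have h21 : (A : Matrix (Fin m ⊕ Fin m) (Fin m ⊕ Fin m) F).toBlocks₂₁ = 0 := by
    ext i j
    have := (h1 (Pi.single (Sum.inl j) 1)).mp (by intro i; simp) i
    simpa [Cfsg.spToMat, Matrix.toBlocks₂₁] using this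
  have h12 : (A : Matrix (Fin m ⊕ Fin m) (Fin m ⊕ Fin m) F).toBlocks₁₂ = 0 := by
    ext i j
    have := (h2 (Pi.single (Sum.inr j) 1)).mp (by intro i; simp) i
    simpa [Cfsg.spToMat, Matrix.toBlocks₁₂] using this
  have hA : (A : Matrix (Fin m ⊕ Fin m) (Fin m ⊕ Fin m) F) =
      Matrix.fromBlocks (A : Matrix (Fin m ⊕ Fin m) (Fin m ⊕ Fin m) F).toBlocks₁₁ 0 0
        (A : Matrix (Fin m ⊕ Fin m) (Fin m ⊕ Fin m) F).toBlocks₂₂ := by
    conv_lhs => rw [← Matrix.fromBlocks_toBlocks (A : Matrix (Fin m ⊕ Fin m) (Fin m ⊕ Fin m) F)]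
    rw [h12, h21]
  have hsp := SymplecticGroup.mem_iff.mp A.2
  rw [hA] at hsp
  unfold Matrix.J at hsp
  rw [Matrix.fromBlocks_transpose, Matrix.fromBlocks_multiply, Matrix.fromBlocks_multiply] at hsp
  have hsp' := Matrix.fromBlocks_inj.mp hsp
  have e1 : (A : Matrix (Fin m ⊕ Fin m) (Fin m ⊕ Fin m) F).toBlocks₁₁ *
      ((A : Matrix (Fin m ⊕ Fin m) (Fin m ⊕ Fin m) F).toBlocks₂₂)ᵀ = 1 := by
    have := hsp'.2.1
    simpa using this
  have e2 := _root_.mul_eq_one_comm.mp e1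
  refine ⟨⟨(A : Matrix (Fin m ⊕ Fin m) (Fin m ⊕ Fin m) F).toBlocks₁₁,
    ((A : Matrix (Fin m ⊕ Fin m) (Fin m ⊕ Fin m) F).toBlocks₂₂)ᵀ, e1, e2⟩, ?_⟩
  apply Subtype.ext
  show diagMat m _ = _
  refine Eq.trans ?_ hA.symm
  unfold diagMat
  show Matrix.fromBlocks _ 0 0 (((A : Matrix (Fin m ⊕ Fin m) (Fin m ⊕ Fin m) F).toBlocks₂₂)ᵀ)ᵀ = _
  rw [Matrix.transpose_transpose]

/-- The elements of Sp_2m(F) stabilising both W = ⟨e_1..e_m⟩ and U = ⟨f_1..f_m⟩ form a subgroup isomorphic to GL_m(F) (block-diagonal matrices diag(X, X^(−ᵀ)) up to the sign convention of J), for m ≥ 1 or m = 0 alike. -/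
theorem result {F : Type*} [Field F] (m : ℕ) : Nonempty (↥(Cfsg.stabilizing (Cfsg.spToMat m F) {v : Fin m ⊕ Fin m → F | ∀ i : Fin m, v (Sum.inr i) = 0} ⊓ Cfsg.stabilizing (Cfsg.spToMat m F) {v : Fin m ⊕ Fin m → F | ∀ i : Fin m, v (Sum.inl i) = 0}) ≃* Matrix.GeneralLinearGroup (Fin m) F) := by
  classical
  have hmem : ∀ P : Matrix.GeneralLinearGroup (Fin m) F, phi m P ∈
      (Cfsg.stabilizing (Cfsg.spToMat m F) {v : Fin m ⊕ Fin m → F | ∀ i : Fin m, v (Sum.inr i) = 0} ⊓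
        Cfsg.stabilizing (Cfsg.spToMat m F) {v : Fin m ⊕ Fin m → F | ∀ i : Fin m, v (Sum.inl i) = 0}) :=
    fun P => ⟨phi_mem1 m P, phi_mem2 m P⟩
  let ψ := (phi (F := F) m).codRestrict _ hmem
  have hinj : Function.Injective ψ := by
    intro P Q h
    apply phi_injective m
    exact congrArg Subtype.val h
  have hsurj : Function.Surjective ψ := by
    rintro ⟨A, hA1, hA2⟩
    obtain ⟨P, hP⟩ := surj_aux m A hA1 hA2
    exact ⟨P, Subtype.ext hP⟩
  exact ⟨(MulEquiv.ofBijective ψ ⟨hinj, hsurj⟩).symm⟩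

end Cfsg.Agent.S0778
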