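import Cfsg.Statements.S0269
import Mathlib
import Cfsg.Agent.Lib_helper29_SpWitt
import Cfsg.Agent.S0778
import Cfsg.Agent.S0774
import Cfsg.Agent.S0440
-- import your own Cfsg.Agent.* helpers here

set_option autoImplicit false
open Cfsg

namespace Cfsg.Agent.S0269

set_option linter.unusedSectionVars false
set_option linter.unusedVariables false
open Matrix Cfsg.Agent.helper4 Cfsg.Agent.S0245 Cfsg.Agent.S2594 Cfsg.Agent.S0440 Cfsg.Agent.helper29

variable {F : Type*} [Field F] {m : ℕ}

local notation "Sp" => Matrix.symplecticGroup (Fin m) F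
local notation "ff" => Cfsg.sympForm m F
local notation "VV" => (Fin m ⊕ Fin m → F)

theorem TT_mul (x : VV) (c d : F) : (TT x c : Sp) * TT x d = TT x (c + d) :=
  Subtype.ext (sympTransvection_mul x c d)

theorem TT_zero (x : VV) : (TT x (0 : F) : Sp) = 1 :=
  Subtype.ext (sympTransvection_zero x)

theorem TT_zero_vec (c : F) : (TT (0 : VV) c : Sp) = 1 := by
  symm
  apply TT_eq_of_mulVec
  intro u
  simp

theorem TT_inv (x : VV) (c : F) : (TT x c : Sp)⁻¹ = TT x (-c) := by
  apply inv_eq_of_mul_eq_one_right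
  rw [TT_mul, add_neg_cancel, TT_zero]

theorem TT_smul (a : F) (x : VV) (c : F) : (TT (a • x) c : Sp) = TT x (a ^ 2 * c) := by
  apply TT_eq_of_mulVec
  intro u
  rw [TT_mulVec, sympForm_smul_right, smul_smul]
  congr 2
  ring

/-- a normal subgroup containing all transvections is everything -/
theorem eq_top_of_TT (C : Subgroup Sp) (h : ∀ w : VV, w ≠ 0 → ∀ c : F, TT w c ∈ C) : C = ⊤ := by
  rw [eq_top_iff, ← Cfsg.Agent.S0765.result (F := F) m, Subgroup.closure_le]
  rintro A ⟨w, c, hA⟩
  have hA' : A = TT w c := Subtype.ext hA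
  rw [hA']
  by_cases hw : w = 0
  · rw [hw, TT_zero_vec]; exact C.one_mem
  · exact h w hw c

theorem all_of_one (C : Subgroup Sp) [hC : C.Normal] (x₀ : VV) (hx₀ : x₀ ≠ 0)
    (h : ∀ c : F, TT x₀ c ∈ C) : ∀ w : VV, w ≠ 0 → ∀ c : F, TT w c ∈ C := by
  intro w hw c
  obtain ⟨g, hg⟩ := trans_nonzero x₀ w hx₀ hw
  rw [← hg, ← conj_TT]
  exact hC.conj_mem _ (h c) g

theorem comm_mem (g h : Sp) : g * h * g⁻¹ * h⁻¹ ∈ commutator Sp := by
  rw [commutator_def]
  exact Subgroup.commutator_mem_commutator (Subgroup.mem_top g) (Subgroup.mem_top h)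

/-- case `q ≥ 4` -/
theorem perfect_of_card [Fintype F] (h4 : 4 ≤ Fintype.card F) : commutator Sp = ⊤ := by
  classical
  apply eq_top_of_TT
  intro w hw c
  obtain ⟨a, -, ha⟩ := Finset.exists_mem_notMem_of_card_lt_card
    (s := ({0, 1, -1} : Finset F)) (t := Finset.univ)
    (lt_of_le_of_lt Finset.card_le_three (by rw [Finset.card_univ]; omega))
  simp only [Finset.mem_insert, Finset.mem_singleton, not_or] at ha
  obtain ⟨ha0, ha1, ha2⟩ := ha
  have ha' : a ^ 2 - 1 ≠ 0 := by
    intro h
    have : (a - 1) * (a + 1) = 0 := by linear_combination h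
    rcases mul_eq_zero.mp this with h | h
    · exact ha1 (sub_eq_zero.mp h)
    · exact ha2 (eq_neg_of_add_eq_zero_left h)
  obtain ⟨y, hy⟩ := exists_partner' w hw
  have h1 : ff (a • w) (a⁻¹ • y) = 1 := by
    rw [sympForm_smul_left, sympForm_smul_right, hy, mul_one, mul_inv_cancel₀ ha0]
  obtain ⟨g, hg, -, -⟩ := trans_pairs w y (a • w) (a⁻¹ • y) hy h1
  have key : g * TT w (c / (a ^ 2 - 1)) * g⁻¹ * (TT w (c / (a ^ 2 - 1)))⁻¹ = TT w c := by
    rw [conj_TT, hg, TT_smul, TT_inv, TT_mul]
    congr 1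
    field_simp
    ring
  rw [← key]
  exact comm_mem _ _

section siegel

theorem TT_eq_block (v : Fin m → F) (c : F) :
    ((TT (Sum.elim v 0 : VV) c : Sp) : Matrix (Fin m ⊕ Fin m) (Fin m ⊕ Fin m) F)
      = Matrix.fromBlocks 1 (c • Matrix.vecMulVec v v) 0 1 := by
  change Cfsg.sympTransvection m (Sum.elim v 0 : VV) c = _
  unfold Cfsg.sympTransvection
  ext (i | i) (j | j)
  · simp [Matrix.vecMulVec_apply, J_mulVec_apply_inl, Matrix.one_apply]
  · simp [Matrix.vecMulVec_apply, J_mulVec_apply_inr, Matrix.one_apply]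
  · simp [Matrix.vecMulVec_apply, J_mulVec_apply_inl, Matrix.one_apply]
  · simp [Matrix.vecMulVec_apply, J_mulVec_apply_inr, Matrix.one_apply]

theorem siegel_comm (P : GL (Fin m) F) (B : Matrix (Fin m) (Fin m) F) (hB : Bᵀ = B)
    (v : Fin m → F) (c : F)
    (h : (P : Matrix (Fin m) (Fin m) F) * B * (P : Matrix (Fin m) (Fin m) F)ᵀ
      = c • Matrix.vecMulVec v v + B) :
    (TT (Sum.elim v 0 : VV) c : Sp) ∈ commutator Sp := by
  have hmem : Matrix.fromBlocks 1 B 0 1 ∈ Matrix.symplecticGroup (Fin m) F := by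
    rw [Cfsg.Agent.S0774.block_mem_iff]
    simp [hB]
  set u : Sp := ⟨Matrix.fromBlocks 1 B 0 1, hmem⟩ with hu
  set g : Sp := Cfsg.Agent.S0778.phi m P with hg
  have key : g * u * g⁻¹ * u⁻¹ = TT (Sum.elim v 0 : VV) c := by
    rw [mul_inv_eq_iff_eq_mul, mul_inv_eq_iff_eq_mul]
    apply Subtype.ext
    change Cfsg.Agent.S0778.diagMat m P * Matrix.fromBlocks 1 B 0 1
      = ((TT (Sum.elim v 0 : VV) c : Sp) : Matrix (Fin m ⊕ Fin m) (Fin m ⊕ Fin m) F) *
        Matrix.fromBlocks 1 B 0 1 * Cfsg.Agent.S0778.diagMat m P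
    rw [TT_eq_block]
    unfold Cfsg.Agent.S0778.diagMat
    rw [Matrix.fromBlocks_multiply, Matrix.fromBlocks_multiply, Matrix.fromBlocks_multiply]
    have hPQ : (P : Matrix (Fin m) (Fin m) F)ᵀ * ((P⁻¹ : GL (Fin m) F) : Matrix (Fin m) (Fin m) F)ᵀ
        = 1 := by
      rw [← Matrix.transpose_mul, ← Units.val_mul, inv_mul_cancel, Units.val_one,
        Matrix.transpose_one]
    have h2 : (c • Matrix.vecMulVec v v + B) *
        ((P⁻¹ : GL (Fin m) F) : Matrix (Fin m) (Fin m) F)ᵀ = (P : Matrix (Fin m) (Fin m) F) * B := by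
      rw [← h, Matrix.mul_assoc, hPQ, Matrix.mul_one]
    congr 1
    · simp
    · simp only [Matrix.mul_one, Matrix.one_mul, Matrix.mul_zero, Matrix.zero_mul, zero_add, add_zero]
      rw [add_comm, h2]
    · simp
    · simp
  rw [← key]
  exact comm_mem _ _

/-- elementary transvection as an element of GL -/
def tvGL (i j : Fin m) (h : i ≠ j) (c : F) : GL (Fin m) F :=
  ⟨Matrix.transvection i j c, Matrix.transvection i j (-c), by
    rw [Matrix.transvection_mul_transvection_same i j h, add_neg_cancel, Matrix.transvection_zero], by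
    rw [Matrix.transvection_mul_transvection_same i j h, neg_add_cancel, Matrix.transvection_zero]⟩

theorem tvGL_coe (i j : Fin m) (h : i ≠ j) (c : F) :
    ((tvGL i j h c : GL (Fin m) F) : Matrix (Fin m) (Fin m) F) = 1 + Matrix.single i j c := rfl

theorem eF_inl_eq (i : Fin m) : (Sum.elim (Pi.single i (1 : F)) 0 : VV) = eF (F := F) (Sum.inl i) := by
  funext x
  rcases x with a | a
  · simp [eF, Pi.single_apply]
  · simp [eF]

theorem eF_ne_zero (x : Fin m ⊕ Fin m) : eF (F := F) x ≠ 0 := by
  intro h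
  have := congrFun h x
  simp [eF] at this

/-- odd characteristic, `m ≥ 2` -/
theorem perfect_of_odd (h2 : (2 : F) ≠ 0) (hm : 2 ≤ m) : commutator Sp = ⊤ := by
  apply eq_top_of_TT
  set i₀ : Fin m := ⟨0, by omega⟩ with hi₀
  set i₁ : Fin m := ⟨1, by omega⟩ with hi₁
  have h01 : i₀ ≠ i₁ := by
    intro h; have := congrArg Fin.val h; simp [hi₀, hi₁] at this
  apply all_of_one (commutator Sp) (eF (F := F) (Sum.inl i₀)) (eF_ne_zero _)
  intro c
  rw [← eF_inl_eq]
  have hc : c = 2 * (c / 2) := by field_simp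
  rw [hc]
  set d := c / 2 with hd
  apply siegel_comm (tvGL i₀ i₁ h01 1)
    (d • (Matrix.single i₀ i₁ (1 : F) + Matrix.single i₁ i₀ (1 : F)))
  · rw [Matrix.transpose_smul, Matrix.transpose_add, Matrix.transpose_single, Matrix.transpose_single,
      add_comm]
  · rw [tvGL_coe, ← Matrix.single_eq_single_vecMulVec_single]
    simp only [Matrix.transpose_add, Matrix.transpose_one, Matrix.transpose_single, Matrix.mul_smul,
      Matrix.smul_mul, mul_add, add_mul, mul_one, one_mul, Matrix.single_mul_single_same,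
      Matrix.single_mul_single_of_ne _ _ _ _ h01, Matrix.single_mul_single_of_ne _ _ _ _ h01.symm]
    simp only [zero_add, add_zero, Matrix.zero_mul, smul_zero]
    module

end siegel

section even

/-- characteristic two, `m ≥ 3` -/
theorem perfect_of_even (h2 : (2 : F) = 0) (hm : 3 ≤ m) : commutator Sp = ⊤ := by
  apply eq_top_of_TT
  set i₀ : Fin m := ⟨0, by omega⟩ with hi₀
  set i₁ : Fin m := ⟨1, by omega⟩ with hi₁
  set i₂ : Fin m := ⟨2, by omega⟩ with hi₂
  have h01 : i₀ ≠ i₁ := by
    intro h; have := congrArg Fin.val h; simp [hi₀, hi₁] at this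
  have h02 : i₀ ≠ i₂ := by
    intro h; have := congrArg Fin.val h; simp [hi₀, hi₂] at this
  have h12 : i₁ ≠ i₂ := by
    intro h; have := congrArg Fin.val h; simp [hi₁, hi₂] at this
  apply all_of_one (commutator Sp) (eF (F := F) (Sum.inl i₁)) (eF_ne_zero _)
  intro c
  rw [← eF_inl_eq]
  apply siegel_comm (tvGL i₀ i₂ h02 1 * tvGL i₁ i₀ h01.symm 1)
    (c • (Matrix.single i₀ i₀ (1 : F) + Matrix.single i₁ i₂ (1 : F) + Matrix.single i₂ i₁ (1 : F)))
  · rw [Matrix.transpose_smul, Matrix.transpose_add, Matrix.transpose_add, Matrix.transpose_single,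
      Matrix.transpose_single, Matrix.transpose_single]
    congr 1
    abel
  · rw [Units.val_mul, tvGL_coe, tvGL_coe, ← Matrix.single_eq_single_vecMulVec_single]
    simp only [Matrix.transpose_add, Matrix.transpose_one, Matrix.transpose_single, Matrix.mul_smul,
      Matrix.smul_mul, mul_add, add_mul, mul_one, one_mul, Matrix.single_mul_single_same,
      Matrix.single_mul_single_of_ne _ _ _ _ h01, Matrix.single_mul_single_of_ne _ _ _ _ h01.symm,
      Matrix.single_mul_single_of_ne _ _ _ _ h02, Matrix.single_mul_single_of_ne _ _ _ _ h02.symm,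
      Matrix.single_mul_single_of_ne _ _ _ _ h12, Matrix.single_mul_single_of_ne _ _ _ _ h12.symm,
      zero_add, add_zero, Matrix.zero_mul, Matrix.mul_zero, smul_zero]
    have hM : ∀ M : Matrix (Fin m) (Fin m) F, M + M = 0 := by
      intro M; rw [← two_smul F M, h2, zero_smul]
    have e1 := hM (c • Matrix.single i₀ i₁ (1 : F))
    have e2 := hM (c • Matrix.single i₁ i₀ (1 : F))
    calc _ = c • Matrix.single i₁ i₁ (1 : F) +
          c • (Matrix.single i₀ i₀ (1 : F) + Matrix.single i₁ i₂ (1 : F) + Matrix.single i₂ i₁ (1 : F))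
          + (c • Matrix.single i₀ i₁ (1 : F) + c • Matrix.single i₀ i₁ (1 : F))
          + (c • Matrix.single i₁ i₀ (1 : F) + c • Matrix.single i₁ i₀ (1 : F)) := by abel
      _ = _ := by rw [e1, e2, add_zero, add_zero]

end even

/-- Sp_{2m}(q) is perfect except for Sp_2(2), Sp_2(3) and Sp_4(2): stated as m at least 3, or m = 2 and q at least 3, or q at least 4. -/
theorem result {F : Type*} [Field F] [Fintype F] (m : ℕ) (h : 3 ≤ m ∨ (m = 2 ∧ 3 ≤ Fintype.card F) ∨ 4 ≤ Fintype.card F) : commutator (Matrix.symplecticGroup (Fin m) F) = ⊤ := by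
  classical
  by_cases h4 : 4 ≤ Fintype.card F
  · exact perfect_of_card h4
  · obtain ⟨p, hp⟩ := CharP.exists F
    haveI := hp
    obtain ⟨n, hprime, hcard⟩ := FiniteField.card F p
    have hlt : Fintype.card F < 4 := by omega
    have hp2 : p = 2 ∨ p = 3 := by
      have h1 : p ≤ Fintype.card F := by
        rw [hcard]
        calc p = p ^ 1 := (pow_one p).symm
          _ ≤ p ^ (n : ℕ) := Nat.pow_le_pow_right hprime.pos n.pos
      have h2 := hprime.two_le
      omega
    rcases hp2 with rfl | rfl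
    · -- characteristic two
      have h2 : (2 : F) = 0 := by
        have := CharP.cast_eq_zero F 2
        exact_mod_cast this
      have hq : Fintype.card F = 2 := by
        rw [hcard] at hlt ⊢
        have hn : (n : ℕ) = 1 := by
          by_contra hne
          have : 2 ≤ (n : ℕ) := by have := n.pos; omega
          have : 2 ^ 2 ≤ 2 ^ (n : ℕ) := Nat.pow_le_pow_right (by norm_num) this
          omega
        rw [hn]; rfl
      have hm3 : 3 ≤ m := by
        rcases h with h | h | h
        · exact h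
        · omega
        · omega
      exact perfect_of_even h2 hm3
    · -- characteristic three
      have h2 : (2 : F) ≠ 0 := by
        intro h0
        have : ((2 : ℕ) : F) = 0 := by exact_mod_cast h0
        rw [CharP.cast_eq_zero_iff F 3] at this
        omega
      have hm2 : 2 ≤ m := by
        rcases h with h | h | h
        · omega
        · omega
        · omega
      exact perfect_of_odd h2 hm2

end Cfsg.Agent.S0269
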