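import Cfsg.Statements.S0768
import Mathlib
import Cfsg.Agent.S0440
-- import your own Cfsg.Agent.* helpers here

set_option autoImplicit false
open scoped LinearAlgebra.Projectivization
open Cfsg

namespace Cfsg.Agent.S0768

open scoped Pointwise
open Matrix Cfsg.Agent.helper4 Cfsg.Agent.S0245 Cfsg.Agent.S2594 Cfsg.Agent.S0440

variable {F : Type*} [Field F] {m : ℕ}

local notation "VV" => (Fin m ⊕ Fin m → F)
local notation "ff" => Cfsg.sympForm m F
local notation "PP" => Projectivization F (Fin m ⊕ Fin m → F)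

/-- a symplectic matrix as an element of `spGL` -/
def toG (A : Matrix.symplecticGroup (Fin m) F) : ↥(Cfsg.spGL m F) :=
  ⟨⟨A.1, (A⁻¹).1, congrArg Subtype.val (mul_inv_cancel A), congrArg Subtype.val (inv_mul_cancel A)⟩,
    fun u v => Cfsg.Agent.S0766.sympForm_mulVec A u v⟩

theorem toG_smul (A : Matrix.symplecticGroup (Fin m) F) (v : VV) (hv : v ≠ 0)
    (hv' : (A : Matrix (Fin m ⊕ Fin m) (Fin m ⊕ Fin m) F) *ᵥ v ≠ 0) :
    (toG A) • (Projectivization.mk F v hv : PP) = Projectivization.mk F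
      ((A : Matrix (Fin m ⊕ Fin m) (Fin m ⊕ Fin m) F) *ᵥ v) hv' := by
  have h1 : (toG A) • (Projectivization.mk F v hv : PP)
      = ((toG A : ↥(Cfsg.spGL m F)) : Matrix.GeneralLinearGroup (Fin m ⊕ Fin m) F) •
        (Projectivization.mk F v hv : PP) := rfl
  rw [h1, Projectivization.smul_mk]
  rfl

theorem mulVec_ne_zero (A : Matrix.symplecticGroup (Fin m) F) (v : VV) (hv : v ≠ 0) :
    (A : Matrix (Fin m ⊕ Fin m) (Fin m ⊕ Fin m) F) *ᵥ v ≠ 0 := by
  intro h
  apply hv
  have h2 : ((A⁻¹ * A : Matrix.symplecticGroup (Fin m) F) :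
      Matrix (Fin m ⊕ Fin m) (Fin m ⊕ Fin m) F) *ᵥ v = 0 := by
    change ((A⁻¹ : Matrix.symplecticGroup (Fin m) F).1 * A.1) *ᵥ v = 0
    rw [← Matrix.mulVec_mulVec, h, Matrix.mulVec_zero]
  rw [inv_mul_cancel] at h2
  simpa using h2

theorem ne_zero_of_form_left {x z : VV} (h : ff x z ≠ 0) : x ≠ 0 := by
  rintro rfl
  exact h (Cfsg.Agent.S0766.sympForm_zero_left z)

theorem ne_zero_of_form_right {x z : VV} (h : ff x z ≠ 0) : z ≠ 0 := by
  rintro rfl
  apply h
  rw [sympForm_swap, Cfsg.Agent.S0766.sympForm_zero_left, neg_zero]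

/-- Lemma A -/
theorem lemmaA (B : Set PP) (hB : MulAction.IsBlock ↥(Cfsg.spGL m F) B) (x y z : VV) (hx : x ≠ 0) (hy : y ≠ 0)
    (hz : z ≠ 0) (hxB : Projectivization.mk F x hx ∈ B) (hyB : Projectivization.mk F y hy ∈ B)
    (hxy : ff x y ≠ 0) (hxz : ff x z ≠ 0) : Projectivization.mk F z hz ∈ B := by
  have h1 : ff x ((ff x y)⁻¹ • y) = 1 := by
    rw [sympForm_smul_right, inv_mul_cancel₀ hxy]
  have h2 : ff x ((ff x z)⁻¹ • z) = 1 := by
    rw [sympForm_smul_right, inv_mul_cancel₀ hxz]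
  obtain ⟨A, hA1, hA2, -⟩ := trans_pairs x ((ff x y)⁻¹ • y) x ((ff x z)⁻¹ • z) h1 h2
  have hgx : (toG A) • (Projectivization.mk F x hx : PP) = Projectivization.mk F x hx := by
    rw [toG_smul A x hx (by rw [hA1]; exact hx)]
    congr 1
  have hgB : (toG A) • B = B := hB.smul_eq_of_mem hxB (by rw [hgx]; exact hxB)
  have hAy : (A : Matrix (Fin m ⊕ Fin m) (Fin m ⊕ Fin m) F) *ᵥ y = (ff x y * (ff x z)⁻¹) • z := by
    calc (A : Matrix (Fin m ⊕ Fin m) (Fin m ⊕ Fin m) F) *ᵥ y
        = (A : Matrix (Fin m ⊕ Fin m) (Fin m ⊕ Fin m) F) *ᵥ ((ff x y) • ((ff x y)⁻¹ • y)) := by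
          rw [smul_smul, mul_inv_cancel₀ hxy, one_smul]
      _ = (ff x y * (ff x z)⁻¹) • z := by
          rw [Matrix.mulVec_smul, hA2, smul_smul]
  have hgy : (toG A) • (Projectivization.mk F y hy : PP) = Projectivization.mk F z hz := by
    rw [toG_smul A y hy (mulVec_ne_zero A y hy)]
    rw [Projectivization.mk_eq_mk_iff]
    refine ⟨Units.mk0 (ff x y * (ff x z)⁻¹) (mul_ne_zero hxy (inv_ne_zero hxz)), ?_⟩
    rw [hAy]
    rfl
  have : (toG A) • (Projectivization.mk F y hy : PP) ∈ (toG A) • B := Set.smul_mem_smul_set hyB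
  rw [hgB, hgy] at this
  exact this

/-- Lemma A' -/
theorem lemmaA' (B : Set PP) (hB : MulAction.IsBlock ↥(Cfsg.spGL m F) B) (x y : VV) (hx : x ≠ 0) (hy : y ≠ 0)
    (hxB : Projectivization.mk F x hx ∈ B) (hyB : Projectivization.mk F y hy ∈ B)
    (hxy : ff x y ≠ 0) : B = Set.univ := by
  rw [Set.eq_univ_iff_forall]
  intro p
  induction p using Projectivization.ind with
  | h z hz =>
    by_cases hxz : ff x z = 0
    · -- find v
      have hv : ∃ v : VV, ff x v ≠ 0 ∧ ff v z ≠ 0 := by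
        obtain ⟨u, hu⟩ := exists_partner' z hz
        have huz : ff u z = -1 := by rw [sympForm_swap, hu]
        by_cases hxu : ff x u = 0
        · by_cases hyz : ff y z = 0
          · refine ⟨u + y, ?_, ?_⟩
            · rw [sympForm_add_right, hxu, zero_add]; exact hxy
            · rw [sympForm_add_left, huz, hyz, add_zero]; exact neg_ne_zero.mpr one_ne_zero
          · exact ⟨y, hxy, hyz⟩
        · exact ⟨u, hxu, by rw [huz]; exact neg_ne_zero.mpr one_ne_zero⟩
      obtain ⟨v, hv1, hv2⟩ := hv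
      have hv0 : v ≠ 0 := ne_zero_of_form_right hv1
      have hvB : Projectivization.mk F v hv0 ∈ B := lemmaA B hB x y v hx hy hv0 hxB hyB hxy hv1
      have hvx : ff v x ≠ 0 := by
        rw [sympForm_swap]; exact neg_ne_zero.mpr hv1
      exact lemmaA B hB v x z hv0 hx hz hvB hxB hvx hv2
    · exact lemmaA B hB x y z hx hy hz hxB hyB hxy hxz

/-- Lemma C -/
theorem lemmaC (x y : VV) (hy : y ≠ 0) (hxy : ∀ a : F, a • x ≠ y) :
    ∃ u : VV, ff x u = 0 ∧ ff y u ≠ 0 := by
  obtain ⟨w, hw⟩ := exists_partner' y hy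
  by_cases hxw : ff x w = 0
  · exact ⟨w, hxw, by rw [hw]; exact one_ne_zero⟩
  · have hy' : y - (ff x w)⁻¹ • x ≠ 0 := by
      intro h
      exact hxy (ff x w)⁻¹ (sub_eq_zero.mp h).symm
    obtain ⟨w', hw'⟩ := exists_partner' _ hy'
    rw [sympForm_sub_left, sympForm_smul_left] at hw'
    refine ⟨w' - (ff x w' * (ff x w)⁻¹) • w, ?_, ?_⟩
    · rw [sympForm_sub_right, sympForm_smul_right, mul_assoc, inv_mul_cancel₀ hxw, mul_one, sub_self]
    · rw [sympForm_sub_right, sympForm_smul_right, hw, mul_one]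
      have : ff y w' - ff x w' * (ff x w)⁻¹ = 1 := by rw [← hw']; ring
      rw [this]; exact one_ne_zero

/-- Lemma C' -/
theorem lemmaC' (x y : VV) (hx : x ≠ 0) (hy : y ≠ 0) (hxy : ∀ a : F, a • x ≠ y)
    (hf : ff x y = 0) :
    ∃ u u' : VV, ff x u = 0 ∧ ff y u ≠ 0 ∧ ff y u' = 0 ∧ ff x u' ≠ 0 ∧ ff u u' ≠ 0 := by
  obtain ⟨u, hu1, hu2⟩ := lemmaC x y hy hxy
  have hyx : ∀ a : F, a • y ≠ x := by
    intro a h
    by_cases ha : a = 0
    · rw [ha, zero_smul] at h; exact hx h.symm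
    · apply hxy a⁻¹
      rw [← h, smul_smul, inv_mul_cancel₀ ha, one_smul]
  obtain ⟨u', hu1', hu2'⟩ := lemmaC y x hx hyx
  by_cases h : ff u u' = 0
  · refine ⟨u + x, u', ?_, ?_, hu1', hu2', ?_⟩
    · rw [sympForm_add_right, hu1, sympForm_self, add_zero]
    · rw [sympForm_add_right]
      have hyx0 : ff y x = 0 := by rw [sympForm_swap, hf, neg_zero]
      rw [hyx0, add_zero]; exact hu2
    · rw [sympForm_add_left, h, zero_add]; exact hu2'
  · exact ⟨u, u', hu1, hu2, hu1', hu2', h⟩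

/-- transvection step: a transvection along `u ⊥ x` fixes `x` -/
theorem lemmaT (B : Set PP) (hB : MulAction.IsBlock ↥(Cfsg.spGL m F) B) (x y u : VV) (hx : x ≠ 0) (hy : y ≠ 0)
    (hxB : Projectivization.mk F x hx ∈ B) (hyB : Projectivization.mk F y hy ∈ B)
    (hxu : ff x u = 0) (hyu : ff y u ≠ 0) :
    ∃ h : y + u ≠ 0, Projectivization.mk F (y + u) h ∈ B := by
  have hTx : ((TT u (ff y u)⁻¹ : Matrix.symplecticGroup (Fin m) F) :
      Matrix (Fin m ⊕ Fin m) (Fin m ⊕ Fin m) F) *ᵥ x = x := by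
    rw [TT_mulVec, hxu, mul_zero, zero_smul, add_zero]
  have hTy : ((TT u (ff y u)⁻¹ : Matrix.symplecticGroup (Fin m) F) :
      Matrix (Fin m ⊕ Fin m) (Fin m ⊕ Fin m) F) *ᵥ y = y + u := by
    rw [TT_mulVec, inv_mul_cancel₀ hyu, one_smul]
  have hne : y + u ≠ 0 := by
    rw [← hTy]; exact mulVec_ne_zero _ y hy
  refine ⟨hne, ?_⟩
  have hgx : (toG (TT u (ff y u)⁻¹)) • (Projectivization.mk F x hx : PP)
      = Projectivization.mk F x hx := by
    rw [toG_smul _ x hx (by rw [hTx]; exact hx)]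
    congr 1
  have hgB : (toG (TT u (ff y u)⁻¹)) • B = B := hB.smul_eq_of_mem hxB (by rw [hgx]; exact hxB)
  have hgy : (toG (TT u (ff y u)⁻¹)) • (Projectivization.mk F y hy : PP)
      = Projectivization.mk F (y + u) hne := by
    rw [toG_smul _ y hy (by rw [hTy]; exact hne)]
    congr 1
  have : (toG (TT u (ff y u)⁻¹)) • (Projectivization.mk F y hy : PP) ∈
      (toG (TT u (ff y u)⁻¹)) • B := Set.smul_mem_smul_set hyB
  rw [hgB, hgy] at this
  exact this

/-- Lemma B -/
theorem lemmaB (B : Set PP) (hB : MulAction.IsBlock ↥(Cfsg.spGL m F) B) (x y : VV) (hx : x ≠ 0) (hy : y ≠ 0)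
    (hxB : Projectivization.mk F x hx ∈ B) (hyB : Projectivization.mk F y hy ∈ B)
    (hne : (Projectivization.mk F x hx : PP) ≠ Projectivization.mk F y hy)
    (hxy : ff x y = 0) : B = Set.univ := by
  have hprop : ∀ a : F, a • x ≠ y := by
    intro a h
    apply hne
    have ha : a ≠ 0 := by
      rintro rfl
      rw [zero_smul] at h; exact hy h.symm
    rw [Projectivization.mk_eq_mk_iff]
    refine ⟨Units.mk0 a⁻¹ (inv_ne_zero ha), ?_⟩
    change a⁻¹ • y = x
    rw [← h, smul_smul, inv_mul_cancel₀ ha, one_smul]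
  obtain ⟨u, u', h1, h2, h3, h4, h5⟩ := lemmaC' x y hx hy hprop hxy
  obtain ⟨hn1, hm1⟩ := lemmaT B hB x y u hx hy hxB hyB h1 h2
  obtain ⟨hn2, hm2⟩ := lemmaT B hB y x u' hy hx hyB hxB h3 h4
  have hux : ff u x = 0 := by rw [sympForm_swap, h1, neg_zero]
  have key : ff (y + u) (x + u') ≠ 0 := by
    rw [sympForm_add_left, sympForm_add_right, sympForm_add_right, h3, hux]
    have hyx0 : ff y x = 0 := by rw [sympForm_swap, hxy, neg_zero]
    rw [hyx0, zero_add, zero_add, zero_add]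
    exact h5
  exact lemmaA' B hB (y + u) (x + u') hn1 hn2 hm1 hm2 key

/-- Primitivity: for m ≥ 1 and F finite, the symplectic group of the form sympForm (as a subgroup of the general linear group) acts primitively on the projective space of F^(2m). -/
theorem result {F : Type*} [Field F] [Finite F] (m : ℕ) (hm : 1 ≤ m) : MulAction.IsPreprimitive ↥(Cfsg.spGL m F) (ℙ F (Fin m ⊕ Fin m → F)) := by
  classical
  haveI : MulAction.IsPretransitive ↥(Cfsg.spGL m F) (ℙ F (Fin m ⊕ Fin m → F)) := by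
    constructor
    intro p q
    induction p using Projectivization.ind with
    | h x hx =>
      induction q using Projectivization.ind with
      | h y hy =>
        obtain ⟨A, hA⟩ := Cfsg.Agent.S2594.trans_nonzero x y hx hy
        refine ⟨toG A, ?_⟩
        rw [toG_smul A x hx (by rw [hA]; exact hy)]
        congr 1
  refine ⟨?_⟩
  intro B hB
  by_cases hsub : B.Subsingleton
  · exact Or.inl hsub
  · right
    rw [Set.not_subsingleton_iff] at hsub
    obtain ⟨p, hp, q, hq, hpq⟩ := hsub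
    induction p using Projectivization.ind with
    | h x hx =>
      induction q using Projectivization.ind with
      | h y hy =>
        by_cases hxy : Cfsg.sympForm m F x y = 0
        · exact lemmaB B hB x y hx hy hp hq hpq hxy
        · exact lemmaA' B hB x y hx hy hp hq hxy

end Cfsg.Agent.S0768
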