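import Cfsg.Statements.S0270
import Mathlib
import Cfsg.Agent.S0269
import Cfsg.Agent.S0768
import Cfsg.Agent.S0246
-- import your own Cfsg.Agent.* helpers here

set_option autoImplicit false
open Cfsg

namespace Cfsg.Agent.S0270

set_option linter.unusedSectionVars false
set_option linter.unusedVariables false
open scoped LinearAlgebra.Projectivization Pointwise
open Matrix Cfsg.Agent.helper4 Cfsg.Agent.S0245 Cfsg.Agent.S2594 Cfsg.Agent.S0440 Cfsg.Agent.helper29
  Cfsg.Agent.S0269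

variable {F : Type*} [Field F] {m : ℕ}

local notation "Sp" => Matrix.symplecticGroup (Fin m) F
local notation "ff" => Cfsg.sympForm m F
local notation "VV" => (Fin m ⊕ Fin m → F)
local notation "PP" => Projectivization F (Fin m ⊕ Fin m → F)

/-- `Sp → spGL` as a homomorphism -/
def toGHom : Sp →* ↥(Cfsg.spGL m F) where
  toFun := Cfsg.Agent.S0768.toG
  map_one' := by apply Subtype.ext; apply Units.ext; rfl
  map_mul' a b := by apply Subtype.ext; apply Units.ext; rfl

theorem toGHom_surj : Function.Surjective (toGHom (F := F) (m := m)) := by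
  rintro ⟨g, hg⟩
  have hmem : (g : Matrix (Fin m ⊕ Fin m) (Fin m ⊕ Fin m) F) ∈ Matrix.symplecticGroup (Fin m) F :=
    mem_sp_of_preserves _ (fun u v => hg u v)
  refine ⟨⟨_, hmem⟩, ?_⟩
  apply Subtype.ext; apply Units.ext; rfl

/-- the action on projective points -/
instance actP : MulAction Sp PP := MulAction.compHom PP (toGHom (F := F) (m := m))

theorem smul_mk' (A : Sp) (v : VV) (hv : v ≠ 0)
    (hv' : (A : Matrix (Fin m ⊕ Fin m) (Fin m ⊕ Fin m) F) *ᵥ v ≠ 0) :
    A • (Projectivization.mk F v hv : PP) = Projectivization.mk F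
      ((A : Matrix (Fin m ⊕ Fin m) (Fin m ⊕ Fin m) F) *ᵥ v) hv' :=
  Cfsg.Agent.S0768.toG_smul A v hv hv'

theorem prim [Finite F] (hm : 1 ≤ m) : MulAction.IsPreprimitive Sp PP := by
  have h := Cfsg.Agent.S0768.result (F := F) m hm
  let f : PP →ₑ[(toGHom (F := F) (m := m))] PP := ⟨id, fun g x => rfl⟩
  exact (MulAction.isPreprimitive_congr (f := f) toGHom_surj Function.bijective_id).mpr h

/-- the root subgroup of a vector -/
def Tx (x : VV) : Subgroup Sp where
  carrier := {t | ∃ c : F, t = TT x c}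
  mul_mem' := by
    rintro _ _ ⟨c, rfl⟩ ⟨d, rfl⟩
    exact ⟨c + d, TT_mul x c d⟩
  one_mem' := ⟨0, (TT_zero x).symm⟩
  inv_mem' := by
    rintro _ ⟨c, rfl⟩
    exact ⟨-c, TT_inv x c⟩

theorem mem_Tx (x : VV) (t : Sp) : t ∈ Tx x ↔ ∃ c : F, t = TT x c := Iff.rfl

theorem Tx_smul (a : F) (ha : a ≠ 0) (x : VV) : Tx (a • x) = Tx x := by
  ext t
  rw [mem_Tx, mem_Tx]
  constructor
  · rintro ⟨c, rfl⟩
    exact ⟨a ^ 2 * c, TT_smul a x c⟩
  · rintro ⟨c, rfl⟩
    refine ⟨c / a ^ 2, ?_⟩
    rw [TT_smul]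
    congr 1
    field_simp

theorem Tx_conj (g : Sp) (x : VV) :
    Tx ((g : Matrix (Fin m ⊕ Fin m) (Fin m ⊕ Fin m) F) *ᵥ x) = MulAut.conj g • Tx x := by
  ext t
  rw [Subgroup.mem_smul_pointwise_iff_exists, mem_Tx]
  constructor
  · rintro ⟨c, rfl⟩
    refine ⟨TT x c, ⟨c, rfl⟩, ?_⟩
    rw [MulAut.smul_def, MulAut.conj_apply, conj_TT]
  · rintro ⟨s, ⟨c, rfl⟩, rfl⟩
    refine ⟨c, ?_⟩
    rw [MulAut.smul_def, MulAut.conj_apply, conj_TT]

/-- the Iwasawa structure -/
noncomputable def IwaS : MulAction.IwasawaStructure Sp PP where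
  T p := Tx p.rep
  is_comm p := ⟨⟨by
    rintro ⟨_, c, rfl⟩ ⟨_, d, rfl⟩
    apply Subtype.ext
    change TT p.rep c * TT p.rep d = TT p.rep d * TT p.rep c
    rw [TT_mul, TT_mul, add_comm]⟩⟩
  is_conj g p := by
    have hne : (g : Matrix (Fin m ⊕ Fin m) (Fin m ⊕ Fin m) F) *ᵥ p.rep ≠ 0 :=
      Cfsg.Agent.S0768.mulVec_ne_zero g p.rep p.rep_nonzero
    have h1 : g • p = Projectivization.mk F
        ((g : Matrix (Fin m ⊕ Fin m) (Fin m ⊕ Fin m) F) *ᵥ p.rep) hne := by
      conv_lhs => rw [← p.mk_rep]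
      exact smul_mk' g p.rep p.rep_nonzero hne
    obtain ⟨a, ha⟩ := Projectivization.exists_smul_eq_mk_rep F _ hne
    rw [h1, ← ha, Units.smul_def, Tx_smul _ a.ne_zero, Tx_conj]
  is_generator := by
    apply eq_top_of_TT
    intro w hw c
    apply Subgroup.mem_iSup_of_mem (Projectivization.mk F w hw)
    obtain ⟨a, ha⟩ := Projectivization.exists_smul_eq_mk_rep F w hw
    rw [← ha, Units.smul_def, Tx_smul _ a.ne_zero]
    exact ⟨c, rfl⟩

/-- an element fixing all points is central -/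
theorem central_of_fix (hm : 1 ≤ m) (n : Sp) (h : ∀ p : PP, n • p = p) :
    n ∈ Subgroup.center Sp := by
  have heig : ∀ u : VV, ∃ c : F, (n : Matrix (Fin m ⊕ Fin m) (Fin m ⊕ Fin m) F) *ᵥ u = c • u := by
    intro u
    by_cases hu : u = 0
    · exact ⟨0, by rw [hu, Matrix.mulVec_zero, smul_zero]⟩
    · have hne := Cfsg.Agent.S0768.mulVec_ne_zero n u hu
      have h1 := h (Projectivization.mk F u hu)
      rw [smul_mk' n u hu hne, Projectivization.mk_eq_mk_iff] at h1
      obtain ⟨a, ha⟩ := h1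
      exact ⟨a, ha.symm⟩
  have hsc := Cfsg.Agent.S0246.scalar_of_eigen _ heig (Sum.inl ⟨0, hm⟩)
  rw [Subgroup.mem_center_iff]
  intro g
  apply Subtype.ext
  change (g : Matrix (Fin m ⊕ Fin m) (Fin m ⊕ Fin m) F) * n.1 = n.1 * g.1
  rw [hsc]
  simp

theorem normal_cases [Fintype F] (hm : 2 ≤ m) (h : m = 2 → 3 ≤ Fintype.card F)
    (N : Subgroup Sp) [N.Normal] : N ≤ Subgroup.center Sp ∨ N = ⊤ := by
  have hperf : commutator Sp = ⊤ := by
    apply Cfsg.Agent.S0269.result
    by_cases h2 : m = 2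
    · exact Or.inr (Or.inl ⟨h2, h h2⟩)
    · exact Or.inl (by omega)
  haveI := prim (F := F) (m := m) (by omega)
  by_cases hfix : MulAction.fixedPoints N PP = Set.univ
  · left
    intro n hn
    apply central_of_fix (by omega)
    intro p
    have : p ∈ MulAction.fixedPoints N PP := by rw [hfix]; exact Set.mem_univ p
    exact this ⟨n, hn⟩
  · right
    have := (IwaS (F := F) (m := m)).commutator_le N hfix
    rw [hperf] at this
    exact top_le_iff.mp this

theorem nontrivial_quot [Fintype F] (hm : 2 ≤ m) (h : m = 2 → 3 ≤ Fintype.card F) :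
    Subgroup.center Sp ≠ ⊤ := by
  intro hc
  have hperf : commutator Sp = ⊤ := by
    apply Cfsg.Agent.S0269.result
    by_cases h2 : m = 2
    · exact Or.inr (Or.inl ⟨h2, h h2⟩)
    · exact Or.inl (by omega)
  rw [← commutator_eq_bot_iff_center_eq_top, hperf] at hc
  -- the group is trivial, contradiction
  set x : VV := eF (F := F) (Sum.inl ⟨0, by omega⟩) with hx
  have hx0 : x ≠ 0 := eF_ne_zero _
  obtain ⟨y, hy⟩ := exists_partner' x hx0
  have hmem : (TT x 1 : Sp) ∈ (⊤ : Subgroup Sp) := Subgroup.mem_top _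
  rw [hc, Subgroup.mem_bot] at hmem
  have h1 := TT_mulVec x (1 : F) y
  rw [hmem] at h1
  have hyx : ff y x = -1 := by rw [sympForm_swap, hy]
  rw [hyx] at h1
  simp only [Submonoid.coe_one, Matrix.one_mulVec, mul_neg, mul_one, neg_smul, one_smul] at h1
  apply hx0
  have : -x = 0 := by
    have := congrArg (fun z => z - y) h1
    simpa using this.symm
  exact neg_eq_zero.mp this

/-- PSp_{2m}(q) is simple for m at least 2 and (m, q) other than (2, 2). -/
theorem result {F : Type*} [Field F] [Fintype F] (m : ℕ) (hm : 2 ≤ m) (h : m = 2 → 3 ≤ Fintype.card F) : IsSimpleGroup (Cfsg.PSp m F) := by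
  classical
  haveI : Nontrivial (Cfsg.PSp m F) := by
    have hne := nontrivial_quot (F := F) hm h
    rw [Ne, ← top_le_iff, SetLike.le_def] at hne
    push Not at hne
    obtain ⟨g, -, hg⟩ := hne
    refine ⟨⟨(g : Cfsg.PSp m F), 1, ?_⟩⟩
    intro h1
    exact hg ((QuotientGroup.eq_one_iff g).mp h1)
  refine ⟨fun Nbar hN => ?_⟩
  haveI := hN
  set N := Nbar.comap (QuotientGroup.mk' (Subgroup.center (Matrix.symplecticGroup (Fin m) F)))
    with hNdef
  haveI : N.Normal := Subgroup.Normal.comap hN _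
  rcases normal_cases (F := F) hm h N with hle | htop
  · left
    rw [eq_bot_iff]
    intro xbar hx
    obtain ⟨x, rfl⟩ := QuotientGroup.mk_surjective xbar
    have hxN : x ∈ N := hx
    rw [Subgroup.mem_bot]
    exact (QuotientGroup.eq_one_iff x).mpr (hle hxN)
  · right
    rw [eq_top_iff]
    intro xbar _
    obtain ⟨x, rfl⟩ := QuotientGroup.mk_surjective xbar
    have hxN : x ∈ N := by rw [htop]; exact Subgroup.mem_top x
    exact hxN

end Cfsg.Agent.S0270
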