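import Cfsg.Statements.S0775
import Mathlib
import Cfsg.Agent.Lib_helper29_SpWitt
import Cfsg.Agent.S0778
import Cfsg.Agent.S0774
-- import your own Cfsg.Agent.* helpers here

set_option autoImplicit false
open Cfsg

namespace Cfsg.Agent.S0775

set_option linter.unusedSectionVars false
set_option linter.unusedVariables false
open Matrix Cfsg.Agent.helper4 Cfsg.Agent.S0245 Cfsg.Agent.S2594 Cfsg.Agent.helper29

section counting

variable {F : Type*} [Field F]

theorem card_vanish_on [Fintype F] {ι : Type} [Fintype ι] [DecidableEq ι] (S : Finset ι) :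
    Nat.card {u : ι → F // ∀ x ∈ S, u x = 0} = Fintype.card F ^ (Fintype.card ι - S.card) := by
  classical
  have e : ({x : ι // x ∉ S} → F) ≃ {u : ι → F // ∀ x ∈ S, u x = 0} :=
    { toFun := fun w => ⟨fun x => if h : x ∈ S then 0 else w ⟨x, h⟩, by
        intro x hx; simp [hx]⟩
      invFun := fun u x => u.1 x.1
      left_inv := by
        intro w; funext x; simp [x.2]
      right_inv := by
        rintro ⟨u, hu⟩
        apply Subtype.ext
        funext x
        by_cases h : x ∈ S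
        · simp [h, hu x h]
        · simp [h] }
  rw [← Nat.card_congr e, Nat.card_fun, Nat.card_eq_fintype_card, Nat.card_eq_fintype_card,
    Fintype.card_subtype_compl, Fintype.card_coe]

theorem card_supported_on [Fintype F] {ι : Type} [Fintype ι] [DecidableEq ι] (T : Finset ι) :
    Nat.card {u : ι → F // ∀ x, x ∉ T → u x = 0} = Fintype.card F ^ T.card := by
  classical
  have e : ({x : ι // x ∈ T} → F) ≃ {u : ι → F // ∀ x, x ∉ T → u x = 0} :=
    { toFun := fun w => ⟨fun x => if h : x ∈ T then w ⟨x, h⟩ else 0, by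
        intro x hx; simp [hx]⟩
      invFun := fun u x => u.1 x.1
      left_inv := by
        intro w; funext x; simp [x.2]
      right_inv := by
        rintro ⟨u, hu⟩
        apply Subtype.ext
        funext x
        by_cases h : x ∈ T
        · simp [h]
        · simp [h, hu x h] }
  rw [← Nat.card_congr e, Nat.card_fun, Nat.card_eq_fintype_card, Nat.card_eq_fintype_card,
    Fintype.card_coe]

theorem repr_supported {ι : Type} [Fintype ι] [DecidableEq ι] (T : Finset ι) (u : ι → F)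
    (hu : ∀ x, x ∉ T → u x = 0) : u = ∑ x ∈ T, u x • (Pi.single x 1 : ι → F) := by
  have h1 : u = ∑ x : ι, u x • (Pi.single x 1 : ι → F) := by
    ext y
    simp [Finset.sum_apply, Pi.single_apply]
  rw [Finset.sum_subset (Finset.subset_univ T)]
  · exact h1
  · intro x _ hx
    rw [hu x hx, zero_smul]

end counting

section chain

variable {F : Type*} [Field F] {m : ℕ}

local notation "Sp" => Matrix.symplecticGroup (Fin m) F
local notation "ff" => Cfsg.sympForm m F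
local notation "VV" => (Fin m ⊕ Fin m → F)

/-- the first `j` coordinates of type `inl` -/
def TA (m j : ℕ) : Finset (Fin m ⊕ Fin m) :=
  (Finset.univ.filter (fun i : Fin m => i.val < j)).image Sum.inl

/-- the first `j` coordinates of type `inr` -/
def TB (m j : ℕ) : Finset (Fin m ⊕ Fin m) :=
  (Finset.univ.filter (fun i : Fin m => i.val < j)).image Sum.inr

theorem mem_TA (j : ℕ) (x : Fin m ⊕ Fin m) : x ∈ TA m j ↔ ∃ i : Fin m, i.val < j ∧ x = Sum.inl i := by
  unfold TA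
  simp only [Finset.mem_image, Finset.mem_filter, Finset.mem_univ, true_and]
  constructor
  · rintro ⟨i, hi, rfl⟩; exact ⟨i, hi, rfl⟩
  · rintro ⟨i, hi, rfl⟩; exact ⟨i, hi, rfl⟩

theorem mem_TB (j : ℕ) (x : Fin m ⊕ Fin m) : x ∈ TB m j ↔ ∃ i : Fin m, i.val < j ∧ x = Sum.inr i := by
  unfold TB
  simp only [Finset.mem_image, Finset.mem_filter, Finset.mem_univ, true_and]
  constructor
  · rintro ⟨i, hi, rfl⟩; exact ⟨i, hi, rfl⟩
  · rintro ⟨i, hi, rfl⟩; exact ⟨i, hi, rfl⟩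

theorem card_TA (j : ℕ) (hj : j ≤ m) : (TA m j).card = j := by
  unfold TA
  rw [Finset.card_image_of_injective _ Sum.inl_injective, Fin.card_filter_val_lt]
  exact min_eq_right hj

theorem card_TB (j : ℕ) (hj : j ≤ m) : (TB m j).card = j := by
  unfold TB
  rw [Finset.card_image_of_injective _ Sum.inr_injective, Fin.card_filter_val_lt]
  exact min_eq_right hj

/-- vectors vanishing on `TA j` -/
def Aset (m : ℕ) (F : Type*) [Field F] (j : ℕ) : Set (Fin m ⊕ Fin m → F) :=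
  {u | ∀ x ∈ TA m j, u x = 0}

/-- vectors supported on `TB j` -/
def Bset (m : ℕ) (F : Type*) [Field F] (j : ℕ) : Set (Fin m ⊕ Fin m → F) :=
  {u | ∀ x, x ∉ TB m j → u x = 0}

theorem Bset_sub_Aset (j : ℕ) : Bset m F j ⊆ Aset m F j := by
  intro u hu x hx
  apply hu
  rw [mem_TA] at hx
  obtain ⟨i, _, rfl⟩ := hx
  rw [mem_TB]
  rintro ⟨i', _, h⟩
  cases h

theorem card_Aset [Fintype F] (j : ℕ) (hj : j ≤ m) :
    (Aset m F j).ncard = Fintype.card F ^ (2 * m - j) := by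
  rw [← Nat.card_coe_set_eq]
  have := card_vanish_on (F := F) (TA m j)
  rw [card_TA j hj, Fintype.card_sum, Fintype.card_fin, ← two_mul] at this
  exact this

theorem card_Bset [Fintype F] (j : ℕ) (hj : j ≤ m) :
    (Bset m F j).ncard = Fintype.card F ^ j := by
  rw [← Nat.card_coe_set_eq]
  have := card_supported_on (F := F) (TB m j)
  rw [card_TB j hj] at this
  exact this

/-- the orbit set -/
def Oj (m : ℕ) (F : Type*) [Field F] (j : ℕ) : Set (Fin m ⊕ Fin m → F) :=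
  Aset m F j \ Bset m F j

theorem card_Oj [Fintype F] (j : ℕ) (hj : j ≤ m) :
    (Oj m F j).ncard = Fintype.card F ^ (2 * m - j) - Fintype.card F ^ j := by
  unfold Oj
  rw [Set.ncard_diff (Bset_sub_Aset j) (Set.toFinite _), card_Aset j hj, card_Bset j hj]

/-- pointwise stabilizer of the first `j` isotropic basis vectors -/
def Qj (m : ℕ) (F : Type*) [Field F] (j : ℕ) : Subgroup (Matrix.symplecticGroup (Fin m) F) :=
  ⨅ i : Fin m, ⨅ (_ : i.val < j),
    MulAction.stabilizer (Matrix.symplecticGroup (Fin m) F) (eV (F := F) (Sum.inr i))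

theorem mem_Qj (j : ℕ) (A : Sp) : A ∈ Qj m F j ↔
    ∀ i : Fin m, i.val < j →
      (A : Matrix (Fin m ⊕ Fin m) (Fin m ⊕ Fin m) F) *ᵥ eF (F := F) (Sum.inr i) = eF (Sum.inr i) := by
  simp only [Qj, Subgroup.mem_iInf, MulAction.mem_stabilizer_iff]
  rfl

theorem Qj_zero : Qj m F 0 = ⊤ := by
  rw [eq_top_iff]
  intro A _
  rw [mem_Qj]
  intro i hi
  exact absurd hi (Nat.not_lt_zero _)

theorem Qj_anti (j : ℕ) : Qj m F (j + 1) ≤ Qj m F j := by
  intro A hA
  rw [mem_Qj] at hA ⊢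
  intro i hi
  exact hA i (by omega)

/-- elements of `Qj j` fix `Bset j` pointwise -/
theorem Qj_fix_Bset (j : ℕ) (A : Sp) (hA : A ∈ Qj m F j) (w : VV) (hw : w ∈ Bset m F j) :
    (A : Matrix (Fin m ⊕ Fin m) (Fin m ⊕ Fin m) F) *ᵥ w = w := by
  rw [mem_Qj] at hA
  have h := repr_supported (TB m j) w hw
  conv_lhs => rw [h]
  conv_rhs => rw [h]
  rw [← Matrix.mulVecLin_apply, map_sum]
  apply Finset.sum_congr rfl
  intro x hx
  rw [map_smul, Matrix.mulVecLin_apply]
  rw [mem_TB] at hx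
  obtain ⟨i, hi, rfl⟩ := hx
  have := hA i hi
  unfold eF at this
  rw [this]

theorem Qj_Aset (j : ℕ) (A : Sp) (hA : A ∈ Qj m F j) (w : VV) (hw : w ∈ Aset m F j) :
    (A : Matrix (Fin m ⊕ Fin m) (Fin m ⊕ Fin m) F) *ᵥ w ∈ Aset m F j := by
  intro x hx
  rw [mem_TA] at hx
  obtain ⟨i, hi, rfl⟩ := hx
  have h1 := form_eV_inr (F := F) ((A : Matrix (Fin m ⊕ Fin m) (Fin m ⊕ Fin m) F) *ᵥ w) i
  rw [← (mem_Qj j A).mp hA i hi, Cfsg.Agent.S0766.sympForm_mulVec, form_eV_inr,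
    hw _ ((mem_TA j _).mpr ⟨i, hi, rfl⟩)] at h1
  simpa using h1.symm

end chain

section orbit

variable {F : Type*} [Field F] {m : ℕ}

local notation "Sp" => Matrix.symplecticGroup (Fin m) F
local notation "ff" => Cfsg.sympForm m F
local notation "VV" => (Fin m ⊕ Fin m → F)

theorem orbit_sup (j : ℕ) (hj : j < m) (u : VV) (hu : u ∈ Oj m F j) :
    ∃ A : Sp, A ∈ Qj m F j ∧
      (A : Matrix (Fin m ⊕ Fin m) (Fin m ⊕ Fin m) F) *ᵥ eF (F := F) (Sum.inr ⟨j, hj⟩) = u := by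
  obtain ⟨huA, huB⟩ := hu
  have hx : ∃ x, x ∉ TB m j ∧ u x ≠ 0 := by
    by_contra h
    push Not at h
    exact huB (fun x hx => h x hx)
  obtain ⟨x, hxT, hxu⟩ := hx
  have hy' : ∃ y' : VV, ff u y' = 1 ∧
      ∀ i : Fin m, i.val < j → ff (eF (F := F) (Sum.inr i)) y' = 0 := by
    rcases x with i | i
    · refine ⟨(-(u (Sum.inl i))⁻¹) • eF (F := F) (Sum.inr i), ?_, ?_⟩
      · rw [sympForm_smul_right, form_eV_inr]; field_simp
      · intro i' hi'
        rw [sympForm_smul_right, form_eV_inr, Cfsg.Agent.S0776.eF_apply, if_neg (by simp), neg_zero,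
          mul_zero]
    · refine ⟨((u (Sum.inr i))⁻¹) • eF (F := F) (Sum.inl i), ?_, ?_⟩
      · rw [sympForm_smul_right, form_eV_inl]; field_simp
      · intro i' hi'
        rw [sympForm_smul_right, form_eV_inl, Cfsg.Agent.S0776.eF_apply, if_neg ?_, mul_zero]
        intro h
        apply hxT
        rw [mem_TB]
        exact ⟨i', hi', h⟩
  obtain ⟨y', hy1, hy2⟩ := hy'
  have hstd : ff (eF (F := F) (Sum.inr ⟨j, hj⟩)) (eF (F := F) (Sum.inl ⟨j, hj⟩)) = 1 := by
    rw [form_eV_inl, Cfsg.Agent.S0776.eF_apply, if_pos rfl]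
  obtain ⟨A, hA1, hA2, hA3⟩ := trans_pairs _ _ u y' hstd hy1
  refine ⟨A, ?_, hA1⟩
  rw [mem_Qj]
  intro i hi
  apply hA3
  refine ⟨?_, ?_, ?_, hy2 i hi⟩
  · rw [form_eV_inr, Cfsg.Agent.S0776.eF_apply, if_neg (by simp), neg_zero]
  · rw [form_eV_inl, Cfsg.Agent.S0776.eF_apply, if_neg ?_]
    intro h
    have h2 : (⟨j, hj⟩ : Fin m) = i := Sum.inr.inj h
    rw [← h2] at hi
    simp at hi
  · rw [sympForm_swap, form_eV_inr, huA _ ((mem_TA j _).mpr ⟨i, hi, rfl⟩)]
    simp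

theorem step_card [Fintype F] (j : ℕ) (hj : j < m) :
    Nat.card (Qj m F j) = Nat.card (Qj m F (j + 1)) * (Oj m F j).ncard := by
  classical
  set K := Qj m F j with hK
  let x₀ : Vec m F := eV (F := F) (Sum.inr ⟨j, hj⟩)
  have h1 := Subgroup.card_mul_index (MulAction.stabilizer K x₀)
  have h2 := MulAction.index_stabilizer K x₀
  have h3 : MulAction.stabilizer K x₀ = (Qj m F (j + 1)).subgroupOf K := by
    ext ⟨A, hA⟩
    rw [MulAction.mem_stabilizer_iff, Subgroup.mem_subgroupOf]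
    show A • x₀ = x₀ ↔ A ∈ Qj m F (j + 1)
    constructor
    · intro h
      rw [mem_Qj]
      intro i hi
      by_cases hij : i.val = j
      · have : i = ⟨j, hj⟩ := Fin.ext hij
        rw [this]; exact h
      · exact (mem_Qj j A).mp hA i (by omega)
    · intro h
      exact (mem_Qj (j + 1) A).mp h ⟨j, hj⟩ (by simp)
  have h4 : Nat.card ((Qj m F (j + 1)).subgroupOf K) = Nat.card (Qj m F (j + 1)) :=
    Nat.card_congr (Subgroup.subgroupOfEquivOfLe (Qj_anti j)).toEquiv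
  have hx0A : eF (F := F) (Sum.inr ⟨j, hj⟩) ∈ Aset m F j := by
    intro x hx
    rw [mem_TA] at hx
    obtain ⟨i, _, rfl⟩ := hx
    rw [Cfsg.Agent.S0776.eF_apply, if_neg (by simp)]
  have hx0B : eF (F := F) (Sum.inr ⟨j, hj⟩) ∉ Bset m F j := by
    intro h
    have h1 : (Sum.inr ⟨j, hj⟩ : Fin m ⊕ Fin m) ∉ TB m j := by
      rw [mem_TB]
      rintro ⟨i, hi, h2⟩
      have h3 : (⟨j, hj⟩ : Fin m) = i := Sum.inr.inj h2
      rw [← h3] at hi
      simp at hi
    have := h _ h1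
    rw [Cfsg.Agent.S0776.eF_apply, if_pos rfl] at this
    exact one_ne_zero this
  have h5 : MulAction.orbit K x₀ = (Oj m F j : Set (Vec m F)) := by
    ext p
    constructor
    · rintro ⟨⟨A, hA⟩, rfl⟩
      constructor
      · exact Qj_Aset j A hA _ hx0A
      · intro hB
        have hAinv : A⁻¹ ∈ Qj m F j := K.inv_mem hA
        have h6 := Qj_fix_Bset j A⁻¹ hAinv _ hB
        change ((A⁻¹ : Sp) : Matrix (Fin m ⊕ Fin m) (Fin m ⊕ Fin m) F) *ᵥ
          ((A : Matrix (Fin m ⊕ Fin m) (Fin m ⊕ Fin m) F) *ᵥ eF (F := F) (Sum.inr ⟨j, hj⟩))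
          = (A : Matrix (Fin m ⊕ Fin m) (Fin m ⊕ Fin m) F) *ᵥ eF (F := F) (Sum.inr ⟨j, hj⟩) at h6
        rw [Cfsg.Agent.S0776.inv_mulVec_mulVec] at h6
        apply hx0B
        rw [h6]
        exact hB
    · intro hp
      obtain ⟨A, hAK, hAu⟩ := orbit_sup j hj p hp
      exact ⟨⟨A, hAK⟩, hAu⟩
  rw [← h1, h2, h3, h4, h5]
  rfl

theorem card_chain [Fintype F] (k : ℕ) (hk : k ≤ m) :
    Nat.card Sp = Nat.card (Qj m F k) *
      ∏ j ∈ Finset.range k, (Fintype.card F ^ (2 * m - j) - Fintype.card F ^ j) := by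
  induction k with
  | zero =>
    rw [Qj_zero, Finset.prod_range_zero, mul_one, Subgroup.card_top]
  | succ k ih =>
    rw [ih (by omega), step_card k (by omega), card_Oj k (by omega), Finset.prod_range_succ]
    ring

end orbit

section levi

variable {F : Type*} [Field F] {m : ℕ}

local notation "Sp" => Matrix.symplecticGroup (Fin m) F
local notation "ff" => Cfsg.sympForm m F
local notation "VV" => (Fin m ⊕ Fin m → F)

theorem TB_eq_image (k : ℕ) (hk : k ≤ m) :
    TB m k = (Finset.univ : Finset (Fin k)).image (fun a => Sum.inr (Fin.castLE hk a)) := by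
  ext x
  rw [mem_TB]
  simp only [Finset.mem_image, Finset.mem_univ, true_and]
  constructor
  · rintro ⟨i, hi, rfl⟩
    exact ⟨⟨i.val, hi⟩, by congr 1⟩
  · rintro ⟨a, rfl⟩
    exact ⟨Fin.castLE hk a, a.2, rfl⟩

theorem castLE_mem_TB (k : ℕ) (hk : k ≤ m) (a : Fin k) :
    (Sum.inr (Fin.castLE hk a) : Fin m ⊕ Fin m) ∈ TB m k := by
  rw [mem_TB]; exact ⟨Fin.castLE hk a, a.2, rfl⟩

theorem eF_mem_Bset (k : ℕ) (hk : k ≤ m) (a : Fin k) :
    eF (F := F) (Sum.inr (Fin.castLE hk a)) ∈ Bset m F k := by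
  intro x hx
  rw [Cfsg.Agent.S0776.eF_apply, if_neg]
  rintro rfl
  exact hx (castLE_mem_TB k hk a)

/-- the stabilizer of the standard totally isotropic subspace -/
abbrev SS (m : ℕ) (F : Type*) [Field F] (k : ℕ) : Subgroup (Matrix.symplecticGroup (Fin m) F) :=
  Cfsg.stabilizing (Cfsg.spToMat m F) (Bset m F k)

theorem SS_col (k : ℕ) (hk : k ≤ m) (A : Sp) (hA : A ∈ SS m F k) (a : Fin k)
    (x : Fin m ⊕ Fin m) (hx : x ∉ TB m k) :
    (A : Matrix (Fin m ⊕ Fin m) (Fin m ⊕ Fin m) F) x (Sum.inr (Fin.castLE hk a)) = 0 := by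
  have h := (hA _).mp (eF_mem_Bset (F := F) k hk a) x hx
  change ((A : Matrix (Fin m ⊕ Fin m) (Fin m ⊕ Fin m) F) *ᵥ
    eF (F := F) (Sum.inr (Fin.castLE hk a))) x = 0 at h
  unfold eF at h
  rw [Matrix.mulVec_single_one] at h
  exact h

/-- the induced matrix on the subspace -/
def Pm (k : ℕ) (hk : k ≤ m) (A : Matrix (Fin m ⊕ Fin m) (Fin m ⊕ Fin m) F) :
    Matrix (Fin k) (Fin k) F :=
  A.submatrix (fun a => Sum.inr (Fin.castLE hk a)) (fun a => Sum.inr (Fin.castLE hk a))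

theorem Pm_mul (k : ℕ) (hk : k ≤ m) (A A' : Sp) (hA' : A' ∈ SS m F k) :
    Pm k hk ((A * A' : Sp) : Matrix (Fin m ⊕ Fin m) (Fin m ⊕ Fin m) F)
      = Pm k hk (A : Matrix (Fin m ⊕ Fin m) (Fin m ⊕ Fin m) F) *
        Pm k hk (A' : Matrix (Fin m ⊕ Fin m) (Fin m ⊕ Fin m) F) := by
  ext l i
  change ((A : Matrix (Fin m ⊕ Fin m) (Fin m ⊕ Fin m) F) *
    (A' : Matrix (Fin m ⊕ Fin m) (Fin m ⊕ Fin m) F)) _ _ = _
  rw [Matrix.mul_apply, Matrix.mul_apply]
  rw [← Finset.sum_subset (Finset.subset_univ (TB m k))]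
  · rw [TB_eq_image k hk, Finset.sum_image]
    · rfl
    · intro a _ b _ h
      exact Fin.castLE_injective hk (Sum.inr.inj h)
  · intro x _ hx
    rw [SS_col k hk A' hA' i x hx, mul_zero]

/-- the homomorphism to matrices -/
def rho0 (k : ℕ) (hk : k ≤ m) : ↥(SS m F k) →* Matrix (Fin k) (Fin k) F where
  toFun A := Pm k hk (A.1 : Matrix (Fin m ⊕ Fin m) (Fin m ⊕ Fin m) F)
  map_one' := by
    ext l i
    change (1 : Matrix (Fin m ⊕ Fin m) (Fin m ⊕ Fin m) F) _ _ = _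
    simp [Matrix.one_apply, (Fin.castLE_injective hk).eq_iff]
  map_mul' A A' := Pm_mul k hk A.1 A'.1 A'.2

/-- the homomorphism to `GL_k` -/
def rho (k : ℕ) (hk : k ≤ m) : ↥(SS m F k) →* GL (Fin k) F := (rho0 k hk).toHomUnits

theorem rho_coe (k : ℕ) (hk : k ≤ m) (A : ↥(SS m F k)) :
    ((rho k hk A : GL (Fin k) F) : Matrix (Fin k) (Fin k) F)
      = Pm k hk (A.1 : Matrix (Fin m ⊕ Fin m) (Fin m ⊕ Fin m) F) := rfl

theorem Qj_le_SS (k : ℕ) : Qj m F k ≤ SS m F k := by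
  intro A hA w
  constructor
  · intro hw
    change (A : Matrix (Fin m ⊕ Fin m) (Fin m ⊕ Fin m) F) *ᵥ w ∈ Bset m F k
    rw [Qj_fix_Bset k A hA w hw]; exact hw
  · intro hw
    change (A : Matrix (Fin m ⊕ Fin m) (Fin m ⊕ Fin m) F) *ᵥ w ∈ Bset m F k at hw
    have h := Qj_fix_Bset k A⁻¹ ((Qj m F k).inv_mem hA) _ hw
    rw [Cfsg.Agent.S0776.inv_mulVec_mulVec] at h
    rw [h]; exact hw

theorem ker_rho (k : ℕ) (hk : k ≤ m) : (rho (F := F) k hk).ker = (Qj m F k).subgroupOf (SS m F k) := by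
  ext ⟨A, hA⟩
  rw [MonoidHom.mem_ker, Subgroup.mem_subgroupOf]
  change rho k hk ⟨A, hA⟩ = 1 ↔ A ∈ Qj m F k
  rw [Units.ext_iff, rho_coe]
  change Pm k hk (A : Matrix (Fin m ⊕ Fin m) (Fin m ⊕ Fin m) F) = 1 ↔ A ∈ Qj m F k
  constructor
  · intro h
    rw [mem_Qj]
    intro i hi
    have hcol : ∀ x, ((A : Matrix (Fin m ⊕ Fin m) (Fin m ⊕ Fin m) F) *ᵥ eF (F := F) (Sum.inr i)) x
        = (A : Matrix (Fin m ⊕ Fin m) (Fin m ⊕ Fin m) F) x (Sum.inr i) := by
      intro x
      unfold eF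
      rw [Matrix.mulVec_single_one]; rfl
    funext x
    rw [hcol]
    have hi' : i = Fin.castLE hk ⟨i.val, hi⟩ := Fin.ext rfl
    by_cases hx : x ∈ TB m k
    · rw [mem_TB] at hx
      obtain ⟨i', hi'k, rfl⟩ := hx
      have hi'' : i' = Fin.castLE hk ⟨i'.val, hi'k⟩ := Fin.ext rfl
      have := congrFun (congrFun h ⟨i'.val, hi'k⟩) ⟨i.val, hi⟩
      unfold Pm at this
      rw [Matrix.submatrix_apply, ← hi', ← hi''] at this
      rw [this, Cfsg.Agent.S0776.eF_apply, Matrix.one_apply]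
      simp only [Fin.mk.injEq, Sum.inr.injEq, Fin.val_inj]
    · rw [hi', SS_col k hk A hA ⟨i.val, hi⟩ x hx, ← hi', Cfsg.Agent.S0776.eF_apply, if_neg]
      rintro rfl
      exact hx ((mem_TB k _).mpr ⟨i, hi, rfl⟩)
  · intro h
    rw [mem_Qj] at h
    ext l i
    unfold Pm
    rw [Matrix.submatrix_apply]
    have := congrFun (h (Fin.castLE hk i) i.2) (Sum.inr (Fin.castLE hk l))
    unfold eF at this
    rw [Matrix.mulVec_single_one] at this
    change (A : Matrix (Fin m ⊕ Fin m) (Fin m ⊕ Fin m) F) _ _ = _ at this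
    rw [this, Pi.single_apply, Matrix.one_apply]
    simp only [Sum.inr.injEq, (Fin.castLE_injective hk).eq_iff]

end levi

section surj

variable {F : Type*} [Field F] {m : ℕ}

local notation "Sp" => Matrix.symplecticGroup (Fin m) F
local notation "ff" => Cfsg.sympForm m F
local notation "VV" => (Fin m ⊕ Fin m → F)

/-- inverse transpose as an element of GL -/
def invT {k : ℕ} (P : GL (Fin k) F) : GL (Fin k) F :=
  ⟨((P⁻¹ : GL (Fin k) F) : Matrix (Fin k) (Fin k) F)ᵀ, (P : Matrix (Fin k) (Fin k) F)ᵀ, by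
    rw [← Matrix.transpose_mul, ← Units.val_mul, mul_inv_cancel, Units.val_one, Matrix.transpose_one], by
    rw [← Matrix.transpose_mul, ← Units.val_mul, inv_mul_cancel, Units.val_one, Matrix.transpose_one]⟩

theorem invT_inv {k : ℕ} (P : GL (Fin k) F) :
    (((invT P)⁻¹ : GL (Fin k) F) : Matrix (Fin k) (Fin k) F) = (P : Matrix (Fin k) (Fin k) F)ᵀ := rfl

/-- the Levi element attached to `P` -/
def AP (k : ℕ) (hk : k ≤ m) (P : GL (Fin k) F) : Sp :=
  Cfsg.Agent.S0776.Phi k hk (Cfsg.Agent.S0778.phi k (invT P), 1)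

theorem AP_coe (k : ℕ) (hk : k ≤ m) (P : GL (Fin k) F) :
    ((AP k hk P : Sp) : Matrix (Fin m ⊕ Fin m) (Fin m ⊕ Fin m) F)
      = (Matrix.fromBlocks (Cfsg.Agent.S0778.diagMat k (invT P)) 0 0
          (1 : Matrix (Fin (m - k) ⊕ Fin (m - k)) (Fin (m - k) ⊕ Fin (m - k)) F)).submatrix
          (Cfsg.Agent.S0776.ee m k hk).symm (Cfsg.Agent.S0776.ee m k hk).symm := rfl

theorem ee_inl_inr (k : ℕ) (hk : k ≤ m) (a : Fin k) :
    Cfsg.Agent.S0776.ee m k hk (Sum.inl (Sum.inr a)) = Sum.inr (Fin.castLE hk a) := by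
  change Sum.inr (Cfsg.Agent.S0776.sig m k hk (Sum.inl a)) = Sum.inr (Fin.castLE hk a)
  congr 1

theorem ee_symm_inr (k : ℕ) (hk : k ≤ m) (a : Fin k) :
    (Cfsg.Agent.S0776.ee m k hk).symm (Sum.inr (Fin.castLE hk a)) = Sum.inl (Sum.inr a) := by
  rw [Equiv.symm_apply_eq, ee_inl_inr]

theorem AP_col (k : ℕ) (hk : k ≤ m) (P : GL (Fin k) F) (i : Fin k) (x : Fin m ⊕ Fin m)
    (hx : x ∉ TB m k) :
    ((AP k hk P : Sp) : Matrix (Fin m ⊕ Fin m) (Fin m ⊕ Fin m) F) x (Sum.inr (Fin.castLE hk i)) = 0 := by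
  rw [AP_coe, Matrix.submatrix_apply, ee_symm_inr]
  rcases h : (Cfsg.Agent.S0776.ee m k hk).symm x with (a | a) | b
  · simp [Cfsg.Agent.S0778.diagMat]
  · exfalso
    apply hx
    rw [Equiv.symm_apply_eq, ee_inl_inr] at h
    rw [h]
    exact castLE_mem_TB k hk a
  · simp

theorem AP_mem (k : ℕ) (hk : k ≤ m) [Finite F] (P : GL (Fin k) F) : AP k hk P ∈ SS m F k := by
  apply Cfsg.Agent.S0774.mem_of_forward
  intro w hw x hx
  change ((AP k hk P : Sp) : Matrix (Fin m ⊕ Fin m) (Fin m ⊕ Fin m) F).mulVec w x = 0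
  rw [Matrix.mulVec, dotProduct]
  apply Finset.sum_eq_zero
  intro y _
  by_cases hy : y ∈ TB m k
  · rw [mem_TB] at hy
    obtain ⟨i, hi, rfl⟩ := hy
    have hi' : i = Fin.castLE hk ⟨i.val, hi⟩ := Fin.ext rfl
    rw [hi', AP_col k hk P ⟨i.val, hi⟩ x hx, zero_mul]
  · rw [hw y hy, mul_zero]

theorem Pm_AP (k : ℕ) (hk : k ≤ m) (P : GL (Fin k) F) :
    Pm k hk ((AP k hk P : Sp) : Matrix (Fin m ⊕ Fin m) (Fin m ⊕ Fin m) F)
      = (P : Matrix (Fin k) (Fin k) F) := by
  ext l i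
  unfold Pm
  rw [Matrix.submatrix_apply, AP_coe, Matrix.submatrix_apply, ee_symm_inr, ee_symm_inr]
  simp only [Cfsg.Agent.S0778.diagMat, Matrix.fromBlocks_apply₁₁, Matrix.fromBlocks_apply₂₂]
  rw [invT_inv]
  rfl

theorem rho_surj (k : ℕ) (hk : k ≤ m) [Finite F] : Function.Surjective (rho (F := F) k hk) := by
  intro P
  refine ⟨⟨AP k hk P, AP_mem k hk P⟩, ?_⟩
  rw [Units.ext_iff, rho_coe]
  exact Pm_AP k hk P

theorem card_SS [Fintype F] (k : ℕ) (hk : k ≤ m) :
    Nat.card (SS m F k) = Nat.card (Qj m F k) * Nat.card (GL (Fin k) F) := by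
  have h1 := Subgroup.card_mul_index (rho (F := F) k hk).ker
  rw [Subgroup.index_ker, MonoidHom.range_eq_top.mpr (rho_surj k hk), Subgroup.card_top,
    ker_rho k hk] at h1
  rw [← h1]
  congr 1
  exact Nat.card_congr (Subgroup.subgroupOfEquivOfLe (Qj_le_SS (F := F) (m := m) k)).toEquiv

/-- `Bset` as a submodule -/
def BsetSub (m : ℕ) (F : Type*) [Field F] (k : ℕ) : Submodule F (Fin m ⊕ Fin m → F) where
  carrier := Bset m F k
  add_mem' := by
    intro a b ha hb x hx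
    rw [Pi.add_apply, ha x hx, hb x hx, add_zero]
  zero_mem' := by intro x _; rfl
  smul_mem' := by
    intro c a ha x hx
    rw [Pi.smul_apply, ha x hx, smul_zero]

theorem BsetSub_coe (k : ℕ) : (BsetSub m F k : Set VV) = Bset m F k := rfl

theorem Bset_isotropic (k : ℕ) (w w' : VV) (hw : w ∈ Bset m F k) (hw' : w' ∈ Bset m F k) :
    ff w w' = 0 := by
  rw [sympForm_eq_sum]
  apply Finset.sum_eq_zero
  intro i _
  have h1 : w (Sum.inl i) = 0 := hw _ (by rw [mem_TB]; rintro ⟨i', _, h⟩; cases h)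
  have h2 : w' (Sum.inl i) = 0 := hw' _ (by rw [mem_TB]; rintro ⟨i', _, h⟩; cases h)
  rw [h1, h2, mul_zero, zero_mul, sub_zero]

theorem finrank_BsetSub [Fintype F] (k : ℕ) (hk : k ≤ m) :
    Module.finrank F (BsetSub m F k) = k := by
  classical
  haveI : Fintype (BsetSub m F k) := Fintype.ofFinite _
  have h1 := Module.card_eq_pow_finrank (K := F) (V := BsetSub m F k)
  have h2 : Fintype.card (BsetSub m F k) = Fintype.card F ^ k := by
    rw [← Nat.card_eq_fintype_card]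
    have := card_Bset (F := F) k hk
    rw [← Nat.card_coe_set_eq] at this
    exact this
  rw [h2] at h1
  exact (Nat.pow_right_injective (Fintype.one_lt_card (α := F)) h1).symm

end surj

theorem arith (q m : ℕ) : ∀ k, k ≤ m →
    q ^ (m ^ 2) * ∏ i ∈ Finset.range m, (q ^ (2 * (i + 1)) - 1)
    = q ^ (k * (k + 1) / 2 + 2 * k * (m - k)) *
      (q ^ ((m - k) ^ 2) * ∏ i ∈ Finset.range (m - k), (q ^ (2 * (i + 1)) - 1)) *
      ∏ j ∈ Finset.range k, (q ^ (2 * m - j) - q ^ j) := by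
  intro k
  induction k with
  | zero => intro _; simp
  | succ k ih =>
    intro hk
    rw [ih (by omega)]
    obtain ⟨d, rfl⟩ : ∃ d, m = k + 1 + d := ⟨m - (k + 1), by omega⟩
    have e1 : k + 1 + d - k = d + 1 := by omega
    have e2 : k + 1 + d - (k + 1) = d := by omega
    rw [e1, e2, Finset.prod_range_succ, Finset.prod_range_succ]
    have e3 : (k + 1) * (k + 1 + 1) / 2 = k * (k + 1) / 2 + (k + 1) := by
      have : (k + 1) * (k + 1 + 1) = k * (k + 1) + 2 * (k + 1) := by ring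
      rw [this, Nat.add_mul_div_left _ _ (by norm_num : 0 < 2)]
    have e4 : q ^ (2 * (k + 1 + d) - k) - q ^ k = q ^ k * (q ^ (2 * (d + 1)) - 1) := by
      have : 2 * (k + 1 + d) - k = k + 2 * (d + 1) := by omega
      rw [this, pow_add, Nat.mul_sub, mul_one]
    rw [e3, e4]
    generalize (∏ i ∈ Finset.range d, (q ^ (2 * (i + 1)) - 1)) = X
    generalize (∏ j ∈ Finset.range k, (q ^ (2 * (k + 1 + d) - j) - q ^ j)) = Y
    generalize (q ^ (2 * (d + 1)) - 1) = Z
    generalize k * (k + 1) / 2 = t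
    ring

/-- Maximal parabolics of the symplectic group: if W is a k-dimensional subspace of F^(2m) on which the symplectic form vanishes identically, its stabiliser in Sp_2m(q) has order q^(k(k+1)/2 + 2k(m−k)) · |Sp_(2m−2k)(q)| · |GL_k(q)|. -/
theorem result {F : Type*} [Field F] [Fintype F] {q : ℕ} (hF : Fintype.card F = q) (m k : ℕ) (hk : k ≤ m) (W : Submodule F (Fin m ⊕ Fin m → F)) (hWk : Module.finrank F W = k) (hW : ∀ u ∈ W, ∀ v ∈ W, Cfsg.sympForm m F u v = 0) : Nat.card ↥(Cfsg.stabilizing (Cfsg.spToMat m F) (W : Set (Fin m ⊕ Fin m → F))) = q ^ (k * (k + 1) / 2 + 2 * k * (m - k)) * (q ^ ((m - k) ^ 2) * ∏ i ∈ Finset.range (m - k), (q ^ (2 * (i + 1)) - 1)) * ∏ i : Fin k, (q ^ k - q ^ (i : ℕ)) := by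
  classical
  subst hF
  have hfr : Module.finrank F (BsetSub m F k) = Module.finrank F W := by
    rw [finrank_BsetSub k hk, hWk]
  let φ : BsetSub m F k ≃ₗ[F] W := LinearEquiv.ofFinrankEq _ _ hfr
  have hφ : ∀ x x' : BsetSub m F k,
      Cfsg.sympForm m F ((φ x : W) : Fin m ⊕ Fin m → F) ((φ x' : W) : Fin m ⊕ Fin m → F)
        = Cfsg.sympForm m F (x : Fin m ⊕ Fin m → F) (x' : Fin m ⊕ Fin m → F) := by
    intro x x'
    rw [hW _ (φ x).2 _ (φ x').2, Bset_isotropic k x.1 x'.1 x.2 x'.2]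
  obtain ⟨A, hA⟩ := witt_sp (BsetSub m F k) W φ hφ
  have hAW : ∀ v : Fin m ⊕ Fin m → F, v ∈ Bset m F k ↔
      (A : Matrix (Fin m ⊕ Fin m) (Fin m ⊕ Fin m) F) *ᵥ v ∈ (W : Set (Fin m ⊕ Fin m → F)) := by
    intro v
    constructor
    · intro hv
      have := hA ⟨v, hv⟩
      change (A : Matrix (Fin m ⊕ Fin m) (Fin m ⊕ Fin m) F) *ᵥ v = _ at this
      rw [SetLike.mem_coe, this]
      exact (φ ⟨v, hv⟩).2
    · intro hv
      have h1 := hA (φ.symm ⟨_, hv⟩)
      rw [LinearEquiv.apply_symm_apply] at h1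
      have h2 : ((φ.symm ⟨_, hv⟩ : BsetSub m F k) : Fin m ⊕ Fin m → F) = v := by
        have := congrArg (fun z => ((A⁻¹ : Matrix.symplecticGroup (Fin m) F) :
          Matrix (Fin m ⊕ Fin m) (Fin m ⊕ Fin m) F) *ᵥ z) h1
        simp only [Cfsg.Agent.S0776.inv_mulVec_mulVec] at this
        exact this
      rw [← h2]; exact (φ.symm ⟨_, hv⟩).2
  obtain ⟨e⟩ := stab_conj_equiv A (W : Set (Fin m ⊕ Fin m → F)) (Bset m F k) hAW
  rw [← Nat.card_congr e.toEquiv, card_SS k hk, Matrix.card_GL_field]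
  have h1 := card_chain (F := F) (m := m) k hk
  have h2 := Cfsg.Agent.S0245.result (F := F) rfl m
  have h3 := arith (Fintype.card F) m k hk
  have hpos : 0 < ∏ j ∈ Finset.range k,
      (Fintype.card F ^ (2 * m - j) - Fintype.card F ^ j) := by
    apply Finset.prod_pos
    intro j hj
    rw [Finset.mem_range] at hj
    apply Nat.sub_pos_of_lt
    exact Nat.pow_lt_pow_right Fintype.one_lt_card (by omega)
  have h4 : Nat.card (Qj m F k) = Fintype.card F ^ (k * (k + 1) / 2 + 2 * k * (m - k)) *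
      (Fintype.card F ^ ((m - k) ^ 2) *
        ∏ i ∈ Finset.range (m - k), (Fintype.card F ^ (2 * (i + 1)) - 1)) := by
    apply Nat.eq_of_mul_eq_mul_right hpos
    rw [← h1, h2, h3]
  rw [h4]

end Cfsg.Agent.S0775
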