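import Cfsg.Statements.S5645
import Mathlib
import Cfsg.Agent.S0775
import Cfsg.Agent.S0270
-- import your own Cfsg.Agent.* helpers here

set_option autoImplicit false
open Cfsg

namespace Cfsg.Agent.S5645

set_option linter.unusedSectionVars false
set_option linter.unusedVariables false
open Matrix Cfsg.Agent.helper4 Cfsg.Agent.S0245 Cfsg.Agent.S2594 Cfsg.Agent.S0440 Cfsg.Agent.helper29
  Cfsg.Agent.S0775

section std

variable {F : Type*} [Field F] {m : ℕ}

local notation "Sp" => Matrix.symplecticGroup (Fin m) F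
local notation "ff" => Cfsg.sympForm m F
local notation "VV" => (Fin m ⊕ Fin m → F)

theorem inl_notMem_TB (k : ℕ) (i : Fin m) : (Sum.inl i : Fin m ⊕ Fin m) ∉ TB m k := by
  rw [mem_TB]; rintro ⟨i', _, h⟩; cases h

theorem form_Bset_Aset (k : ℕ) (w x : VV) (hw : w ∈ Bset m F k) (hx : x ∈ Aset m F k) :
    ff w x = 0 := by
  rw [sympForm_eq_sum]
  apply Finset.sum_eq_zero
  intro i _
  have h1 : w (Sum.inl i) = 0 := hw _ (inl_notMem_TB k i)
  by_cases hi : i.val < k
  · have h2 : x (Sum.inl i) = 0 := hx _ ((mem_TA k _).mpr ⟨i, hi, rfl⟩)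
    rw [h1, h2]; ring
  · have h2 : w (Sum.inr i) = 0 := by
      apply hw
      rw [mem_TB]
      rintro ⟨i', hi', h⟩
      have : i = i' := Sum.inr.inj h
      rw [this] at hi
      exact hi hi'
    rw [h1, h2]; ring

theorem eF_inr_mem_Aset (k : ℕ) (i : Fin m) : eF (F := F) (Sum.inr i) ∈ Aset m F k := by
  intro x hx
  rw [mem_TA] at hx
  obtain ⟨i', _, rfl⟩ := hx
  rw [Cfsg.Agent.S0776.eF_apply, if_neg (by simp)]

theorem eF_inl_mem_Aset (k : ℕ) (i : Fin m) (hi : ¬ i.val < k) :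
    eF (F := F) (Sum.inl i) ∈ Aset m F k := by
  intro x hx
  rw [mem_TA] at hx
  obtain ⟨i', hi', rfl⟩ := hx
  rw [Cfsg.Agent.S0776.eF_apply, if_neg]
  intro h
  have : i' = i := Sum.inl.inj h
  rw [this] at hi'
  exact hi hi'

theorem mem_Bset_of_perp (k : ℕ) (w : VV) (h : ∀ y ∈ Aset m F k, ff w y = 0) : w ∈ Bset m F k := by
  intro x hx
  rcases x with i | i
  · have h1 := h _ (eF_inr_mem_Aset (F := F) k i)
    rw [form_eV_inr] at h1
    exact neg_eq_zero.mp h1
  · have hi : ¬ i.val < k := fun hi => hx ((mem_TB k _).mpr ⟨i, hi, rfl⟩)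
    have h1 := h _ (eF_inl_mem_Aset (F := F) k i hi)
    rw [form_eV_inl] at h1
    exact h1

theorem Aset_add (k : ℕ) (x y : VV) (hx : x ∈ Aset m F k) (hy : y ∈ Aset m F k) :
    x + y ∈ Aset m F k := by
  intro z hz; rw [Pi.add_apply, hx z hz, hy z hz, add_zero]

theorem Aset_sub (k : ℕ) (x y : VV) (hx : x ∈ Aset m F k) (hy : y ∈ Aset m F k) :
    x - y ∈ Aset m F k := by
  intro z hz; rw [Pi.sub_apply, hx z hz, hy z hz, sub_zero]

theorem TT_mem_SS [Finite F] (k : ℕ) (x : VV) (hx : x ∈ Aset m F k) (c : F) :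
    (TT x c : Sp) ∈ SS m F k := by
  apply Cfsg.Agent.S0774.mem_of_forward
  intro w hw
  change ((TT x c : Sp) : Matrix (Fin m ⊕ Fin m) (Fin m ⊕ Fin m) F) *ᵥ w ∈ Bset m F k
  rw [TT_mulVec, form_Bset_Aset k w x hw hx, mul_zero, zero_smul, add_zero]
  exact hw

theorem exists_Aset_form (k : ℕ) (u : VV) (hu : u ∉ Aset m F k) :
    ∃ t ∈ Aset m F k, ff u t ≠ 0 := by
  by_contra h
  push Not at h
  exact hu (Bset_sub_Aset k (mem_Bset_of_perp k u h))

theorem exists_Aset_form2 (k : ℕ) (u u' : VV) (hu : u ∉ Aset m F k) (hu' : u' ∉ Aset m F k) :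
    ∃ t ∈ Aset m F k, ff u t ≠ 0 ∧ ff u' t ≠ 0 := by
  obtain ⟨a, ha, hua⟩ := exists_Aset_form k u hu
  obtain ⟨b, hb, hub⟩ := exists_Aset_form k u' hu'
  by_cases h1 : ff u' a = 0
  · by_cases h2 : ff u b = 0
    · refine ⟨a + b, Aset_add k a b ha hb, ?_, ?_⟩
      · rw [sympForm_add_right, h2, add_zero]; exact hua
      · rw [sympForm_add_right, h1, zero_add]; exact hub
    · exact ⟨b, hb, h2, hub⟩
  · exact ⟨a, ha, hua, h1⟩

/-- GL is transitive on nonzero vectors -/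
theorem gl_trans {k : ℕ} (a b : Fin k → F) (ha : a ≠ 0) (hb : b ≠ 0) :
    ∃ P : GL (Fin k) F, (P : Matrix (Fin k) (Fin k) F) *ᵥ a = b := by
  let f : (Submodule.span F {a}) ≃ₗ[F] (Submodule.span F {b}) :=
    (LinearEquiv.toSpanNonzeroSingleton F (Fin k → F) a ha).symm ≪≫ₗ
      (LinearEquiv.toSpanNonzeroSingleton F (Fin k → F) b hb)
  obtain ⟨g, hg⟩ := Submodule.exists_linearEquiv_restrict_eq f
  have hga : g a = b := by
    have h1 := hg ⟨a, Submodule.mem_span_singleton_self a⟩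
    have h2 : f ⟨a, Submodule.mem_span_singleton_self a⟩ = ⟨b, Submodule.mem_span_singleton_self b⟩ := by
      have h3 : (LinearEquiv.toSpanNonzeroSingleton F (Fin k → F) a ha).symm
          ⟨a, Submodule.mem_span_singleton_self a⟩ = 1 := by
        rw [LinearEquiv.symm_apply_eq, LinearEquiv.toSpanNonzeroSingleton_one]
      change (LinearEquiv.toSpanNonzeroSingleton F (Fin k → F) b hb)
        ((LinearEquiv.toSpanNonzeroSingleton F (Fin k → F) a ha).symm
          ⟨a, Submodule.mem_span_singleton_self a⟩) = _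
      rw [h3, LinearEquiv.toSpanNonzeroSingleton_one]
    rw [h2] at h1
    exact h1.symm
  refine ⟨⟨LinearMap.toMatrix' g.toLinearMap, LinearMap.toMatrix' g.symm.toLinearMap, ?_, ?_⟩, ?_⟩
  · rw [← LinearMap.toMatrix'_comp]
    have : g.toLinearMap ∘ₗ g.symm.toLinearMap = LinearMap.id := by
      ext x; simp
    rw [this, LinearMap.toMatrix'_id]
  · rw [← LinearMap.toMatrix'_comp]
    have : g.symm.toLinearMap ∘ₗ g.toLinearMap = LinearMap.id := by
      ext x; simp
    rw [this, LinearMap.toMatrix'_id]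
  · change LinearMap.toMatrix' g.toLinearMap *ᵥ a = b
    rw [LinearMap.toMatrix'_mulVec]
    exact hga

end std

section thmA

variable {F : Type*} [Field F] {m : ℕ}

local notation "Sp" => Matrix.symplecticGroup (Fin m) F
local notation "ff" => Cfsg.sympForm m F
local notation "VV" => (Fin m ⊕ Fin m → F)

/-- all transvections in direction `x` lie in `M` -/
def XX (M : Subgroup Sp) (x : VV) : Prop := ∀ c : F, (TT x c : Sp) ∈ M

theorem XX_of_Aset [Finite F] (k : ℕ) (M : Subgroup Sp) (hM : SS m F k ≤ M) (x : VV)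
    (hx : x ∈ Aset m F k) : XX M x := fun c => hM (TT_mem_SS k x hx c)

theorem XX_inv (M : Subgroup Sp) (g : Sp) (hg : g ∈ M) (x : VV) (hx : XX M x) :
    XX M ((g : Matrix (Fin m ⊕ Fin m) (Fin m ⊕ Fin m) F) *ᵥ x) := by
  intro c
  rw [← conj_TT]
  exact M.mul_mem (M.mul_mem hg (hx c)) (M.inv_mem hg)

theorem XX_add (M : Subgroup Sp) (x z : VV) (hx : XX M x) (hz : XX M z) (h : ff x z ≠ 0) :
    XX M (x + z) := by
  have := XX_inv M (TT z (ff x z)⁻¹) (hz _) x hx
  rw [TT_mulVec, inv_mul_cancel₀ h, one_smul] at this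
  exact this

theorem step1 [Finite F] (k : ℕ) (M : Subgroup Sp) (hM : SS m F k ≤ M) (hne : M ≠ SS m F k) :
    ∃ y : VV, XX M y ∧ y ∉ Aset m F k := by
  by_contra hcon
  push Not at hcon
  apply hne
  apply le_antisymm _ hM
  intro g hg
  have hginv : g⁻¹ ∈ M := M.inv_mem hg
  apply Cfsg.Agent.S0774.mem_of_forward
  intro w hw
  change (g : Matrix (Fin m ⊕ Fin m) (Fin m ⊕ Fin m) F) *ᵥ w ∈ Bset m F k
  apply mem_Bset_of_perp
  intro y hy
  have h1 : ((g⁻¹ : Sp) : Matrix (Fin m ⊕ Fin m) (Fin m ⊕ Fin m) F) *ᵥ y ∈ Aset m F k :=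
    hcon _ (XX_inv M g⁻¹ hginv y (XX_of_Aset k M hM y hy))
  have h2 := Cfsg.Agent.S0766.sympForm_mulVec (g⁻¹ : Sp)
    ((g : Matrix (Fin m ⊕ Fin m) (Fin m ⊕ Fin m) F) *ᵥ w) y
  rw [Cfsg.Agent.S0776.inv_mulVec_mulVec] at h2
  rw [← h2]
  exact form_Bset_Aset k w _ hw h1

theorem step2 [Finite F] (k : ℕ) (M : Subgroup Sp) (hM : SS m F k ≤ M) (y z : VV)
    (hy : XX M y) (hyA : y ∉ Aset m F k) (hz : z ∈ Aset m F k) : XX M (y + z) := by
  by_cases h : ff y z = 0
  · have hyz : y + z ∉ Aset m F k := by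
      intro h1
      apply hyA
      have := Aset_sub k _ _ h1 hz
      rwa [add_sub_cancel_right] at this
    obtain ⟨z₁, hz₁, h1, h2⟩ := exists_Aset_form2 k y (y + z) hyA hyz
    have h3 : XX M (y + z₁) := XX_add M y z₁ hy (XX_of_Aset k M hM z₁ hz₁) h1
    have h4 : XX M (z - z₁) := XX_of_Aset k M hM _ (Aset_sub k _ _ hz hz₁)
    have h5 : ff (y + z₁) (z - z₁) ≠ 0 := by
      have : ff (y + z₁) (z - z₁) = - ff (y + z) z₁ := by
        rw [sympForm_add_left, sympForm_sub_right, sympForm_sub_right, sympForm_add_left, h,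
          sympForm_self, sympForm_swap z z₁]
        ring
      rw [this]
      exact neg_ne_zero.mpr h2
    have h6 := XX_add M _ _ h3 h4 h5
    have : y + z₁ + (z - z₁) = y + z := by abel
    rwa [this] at h6
  · exact XX_add M y z hy (XX_of_Aset k M hM z hz) h

/-- projection to the first `k` `inl`-coordinates -/
def pik (k : ℕ) (hk : k ≤ m) (v : VV) : Fin k → F := fun a => v (Sum.inl (Fin.castLE hk a))

theorem mem_Aset_iff_pik (k : ℕ) (hk : k ≤ m) (v : VV) : v ∈ Aset m F k ↔ pik k hk v = 0 := by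
  constructor
  · intro hv
    funext a
    exact hv _ ((mem_TA k _).mpr ⟨Fin.castLE hk a, a.2, rfl⟩)
  · intro h x hx
    rw [mem_TA] at hx
    obtain ⟨i, hi, rfl⟩ := hx
    have := congrFun h ⟨i.val, hi⟩
    exact this

theorem ee_inl_inl (k : ℕ) (hk : k ≤ m) (a : Fin k) :
    Cfsg.Agent.S0776.ee m k hk (Sum.inl (Sum.inl a)) = Sum.inl (Fin.castLE hk a) := by
  change Sum.inl (Cfsg.Agent.S0776.sig m k hk (Sum.inl a)) = Sum.inl (Fin.castLE hk a)
  congr 1

theorem ee_symm_inl (k : ℕ) (hk : k ≤ m) (a : Fin k) :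
    (Cfsg.Agent.S0776.ee m k hk).symm (Sum.inl (Fin.castLE hk a)) = Sum.inl (Sum.inl a) := by
  rw [Equiv.symm_apply_eq, ee_inl_inl]

theorem pik_AP (k : ℕ) (hk : k ≤ m) (P : GL (Fin k) F) (v : VV) :
    pik k hk (((AP k hk P : Sp) : Matrix (Fin m ⊕ Fin m) (Fin m ⊕ Fin m) F) *ᵥ v)
      = ((invT P : GL (Fin k) F) : Matrix (Fin k) (Fin k) F) *ᵥ pik k hk v := by
  funext a
  unfold pik
  rw [AP_coe, Matrix.submatrix_mulVec_equiv, Function.comp_apply, ee_symm_inl,
    Matrix.fromBlocks_mulVec, Sum.elim_inl, Cfsg.Agent.S0778.diagMat, Matrix.fromBlocks_mulVec,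
    Matrix.zero_mulVec, add_zero, Pi.add_apply, Sum.elim_inl, Matrix.zero_mulVec, Pi.zero_apply,
    add_zero]
  simp only [Matrix.mulVec, dotProduct, Function.comp_apply, Equiv.symm_symm, ee_inl_inl]

theorem invT_invT {k : ℕ} (Q : GL (Fin k) F) : invT (invT Q) = Q := by
  apply Units.ext
  change (((invT Q)⁻¹ : GL (Fin k) F) : Matrix (Fin k) (Fin k) F)ᵀ = _
  rw [invT_inv, Matrix.transpose_transpose]

theorem thmA [Finite F] (k : ℕ) (hk : k ≤ m) (M : Subgroup Sp) (hM : SS m F k ≤ M)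
    (hne : M ≠ SS m F k) : M = ⊤ := by
  obtain ⟨y₀, hy₀, hy₀A⟩ := step1 k M hM hne
  apply Cfsg.Agent.S0269.eq_top_of_TT
  intro v hv
  change XX M v
  by_cases hvA : v ∈ Aset m F k
  · exact XX_of_Aset k M hM v hvA
  · have h1 : pik k hk y₀ ≠ 0 := fun h => hy₀A ((mem_Aset_iff_pik k hk y₀).mpr h)
    have h2 : pik k hk v ≠ 0 := fun h => hvA ((mem_Aset_iff_pik k hk v).mpr h)
    obtain ⟨Q, hQ⟩ := gl_trans _ _ h1 h2
    have h3 : AP k hk (invT Q) ∈ M := hM (AP_mem k hk (invT Q))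
    have h4 := XX_inv M _ h3 y₀ hy₀
    set v' := ((AP k hk (invT Q) : Sp) : Matrix (Fin m ⊕ Fin m) (Fin m ⊕ Fin m) F) *ᵥ y₀ with hv'
    have h5 : pik k hk v' = pik k hk v := by
      rw [hv', pik_AP, invT_invT, hQ]
    have h6 : v - v' ∈ Aset m F k := by
      rw [mem_Aset_iff_pik k hk]
      funext a
      have := congrFun h5 a
      unfold pik at this ⊢
      rw [Pi.sub_apply, this, sub_self]
      rfl
    have h7 : v' ∉ Aset m F k := by
      rw [mem_Aset_iff_pik k hk, h5]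
      exact h2
    have h8 := step2 k M hM v' (v - v') h4 h7 h6
    rwa [add_sub_cancel] at h8

theorem SS_ne_top (k : ℕ) (hk1 : 1 ≤ k) (hk : k ≤ m) : SS m F k ≠ ⊤ := by
  intro htop
  have hm : 0 < m := by omega
  have h1 : eF (F := F) (Sum.inr (⟨0, hm⟩ : Fin m)) ≠ 0 := Cfsg.Agent.S0269.eF_ne_zero _
  have h2 : eF (F := F) (Sum.inl (⟨0, hm⟩ : Fin m)) ≠ 0 := Cfsg.Agent.S0269.eF_ne_zero _
  obtain ⟨g, hg⟩ := trans_nonzero _ _ h1 h2
  have hgS : g ∈ SS m F k := by rw [htop]; trivial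
  have h3 : eF (F := F) (Sum.inr (⟨0, hm⟩ : Fin m)) ∈ Bset m F k := by
    have := eF_mem_Bset (F := F) k hk ⟨0, by omega⟩
    exact this
  have h4 := (hgS _).mp h3
  change (g : Matrix (Fin m ⊕ Fin m) (Fin m ⊕ Fin m) F) *ᵥ _ ∈ Bset m F k at h4
  rw [hg] at h4
  have h5 := h4 (Sum.inl ⟨0, hm⟩) (inl_notMem_TB k _)
  rw [Cfsg.Agent.S0776.eF_apply, if_pos rfl] at h5
  exact one_ne_zero h5

end thmA

section transfer

variable {F : Type*} [Field F] {m : ℕ}

local notation "Sp" => Matrix.symplecticGroup (Fin m) F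
local notation "ff" => Cfsg.sympForm m F
local notation "VV" => (Fin m ⊕ Fin m → F)

/-- `Sp → GL` with range `spGL` -/
def toGL : Sp →* Matrix.GeneralLinearGroup (Fin m ⊕ Fin m) F :=
  (Cfsg.spGL m F).subtype.comp Cfsg.Agent.S0270.toGHom

theorem range_toGL : (toGL (F := F) (m := m)).range = Cfsg.spGL m F := by
  unfold toGL
  rw [MonoidHom.range_comp, MonoidHom.range_eq_top.mpr Cfsg.Agent.S0270.toGHom_surj,
    ← MonoidHom.range_eq_map, Subgroup.range_subtype]

theorem comap_toGL_stab (S : Set VV) :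
    (Cfsg.stabilizing (Cfsg.glToMat (Fin m ⊕ Fin m) F) S).comap toGL
      = Cfsg.stabilizing (Cfsg.spToMat m F) S := by
  ext g
  rfl

theorem comap_toGL_spGL : (Cfsg.spGL m F).comap (toGL (F := F) (m := m)) = ⊤ := by
  rw [← range_toGL, MonoidHom.comap_range_self]

theorem transfer (S : Set VV)
    (hmax : ∀ M : Subgroup Sp, Cfsg.stabilizing (Cfsg.spToMat m F) S ≤ M →
      M = Cfsg.stabilizing (Cfsg.spToMat m F) S ∨ M = ⊤)
    (hne : Cfsg.stabilizing (Cfsg.spToMat m F) S ≠ ⊤) :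
    Cfsg.Geo.IsMaximalIn (Cfsg.spGL m F)
      (Cfsg.stabilizing (Cfsg.glToMat (Fin m ⊕ Fin m) F) S ⊓ Cfsg.spGL m F) := by
  have hcomap : (Cfsg.stabilizing (Cfsg.glToMat (Fin m ⊕ Fin m) F) S ⊓ Cfsg.spGL m F).comap toGL
      = Cfsg.stabilizing (Cfsg.spToMat m F) S := by
    rw [Subgroup.comap_inf, comap_toGL_stab, comap_toGL_spGL, inf_top_eq]
  constructor
  · apply lt_of_le_of_ne inf_le_right
    intro h
    apply hne
    rw [← hcomap, h, comap_toGL_spGL]
  · intro M hHM hMK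
    have h1 : Cfsg.stabilizing (Cfsg.spToMat m F) S ≤ M.comap toGL := by
      rw [← hcomap]
      exact Subgroup.comap_mono hHM
    have hM : M = (M.comap toGL).map toGL := by
      rw [Subgroup.map_comap_eq, range_toGL, inf_eq_right.mpr hMK]
    have hH : (Cfsg.stabilizing (Cfsg.glToMat (Fin m ⊕ Fin m) F) S ⊓ Cfsg.spGL m F)
        = ((Cfsg.stabilizing (Cfsg.glToMat (Fin m ⊕ Fin m) F) S ⊓ Cfsg.spGL m F).comap toGL).map toGL := by
      rw [Subgroup.map_comap_eq, range_toGL, inf_eq_right.mpr inf_le_right]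
    rcases hmax _ h1 with h2 | h2
    · left
      rw [hM, h2, ← hcomap, ← hH]
    · right
      rw [hM, h2, ← MonoidHom.range_eq_map, range_toGL]

end transfer

section general

variable {F : Type*} [Field F] [Fintype F] {m : ℕ}

local notation "Sp" => Matrix.symplecticGroup (Fin m) F
local notation "ff" => Cfsg.sympForm m F
local notation "VV" => (Fin m ⊕ Fin m → F)

theorem finrank_le_of_isotropic (W : Submodule F VV) (hW : ∀ u ∈ W, ∀ v ∈ W, ff u v = 0) :
    Module.finrank F W ≤ m := by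
  classical
  have h1 := LinearMap.BilinForm.finrank_orthogonal (BF_nondeg (m := m) (F := F)) W
  have h2 : W ≤ (BF m F).orthogonal W := by
    intro x hx
    rw [LinearMap.BilinForm.mem_orthogonal_iff]
    intro n hn
    change (BF m F) n x = 0
    rw [BF_apply]
    exact hW n hn x hx
  have h3 := Submodule.finrank_mono h2
  have h4 : Module.finrank F VV = 2 * m := by
    rw [Module.finrank_fintype_fun_eq_card]; simp; ring
  omega

/-- conjugating subgroups: maximality of a conjugate -/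
theorem max_of_conj (A : Sp) (S S₀ : Set VV)
    (hAW : ∀ v : VV, v ∈ S₀ ↔ (A : Matrix (Fin m ⊕ Fin m) (Fin m ⊕ Fin m) F) *ᵥ v ∈ S)
    (hmax : ∀ M : Subgroup Sp, Cfsg.stabilizing (Cfsg.spToMat m F) S₀ ≤ M →
      M = Cfsg.stabilizing (Cfsg.spToMat m F) S₀ ∨ M = ⊤)
    (hne : Cfsg.stabilizing (Cfsg.spToMat m F) S₀ ≠ ⊤) :
    (∀ M : Subgroup Sp, Cfsg.stabilizing (Cfsg.spToMat m F) S ≤ M →
      M = Cfsg.stabilizing (Cfsg.spToMat m F) S ∨ M = ⊤) ∧
    Cfsg.stabilizing (Cfsg.spToMat m F) S ≠ ⊤ := by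
  have key : ∀ N : Subgroup Sp, ∀ g : Sp,
      g ∈ N.comap (MulAut.conj A).toMonoidHom ↔ A * g * A⁻¹ ∈ N := by
    intro N g; rfl
  have hS : (Cfsg.stabilizing (Cfsg.spToMat m F) S).comap (MulAut.conj A).toMonoidHom
      = Cfsg.stabilizing (Cfsg.spToMat m F) S₀ := by
    ext g
    rw [key, stab_conj A S S₀ hAW]
    have : A⁻¹ * (A * g * A⁻¹) * A = g := by group
    rw [this]
  have hinj : ∀ N N' : Subgroup Sp, N.comap (MulAut.conj A).toMonoidHom
      = N'.comap (MulAut.conj A).toMonoidHom → N = N' := by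
    intro N N' h
    ext g
    have h1 := key N (A⁻¹ * g * A)
    have h2 := key N' (A⁻¹ * g * A)
    have : A * (A⁻¹ * g * A) * A⁻¹ = g := by group
    rw [this] at h1 h2
    rw [← h1, ← h2, h]
  constructor
  · intro M hM
    have h1 : Cfsg.stabilizing (Cfsg.spToMat m F) S₀ ≤ M.comap (MulAut.conj A).toMonoidHom := by
      rw [← hS]; exact Subgroup.comap_mono hM
    rcases hmax _ h1 with h2 | h2
    · left
      apply hinj
      rw [h2, hS]
    · right
      apply hinj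
      rw [h2, Subgroup.comap_top]
  · intro h
    apply hne
    rw [← hS, h, Subgroup.comap_top]

theorem sp_max_isotropic (W : Submodule F VV) (hW0 : W ≠ ⊥)
    (hW : ∀ u ∈ W, ∀ v ∈ W, ff u v = 0) :
    (∀ M : Subgroup Sp, Cfsg.stabilizing (Cfsg.spToMat m F) (W : Set VV) ≤ M →
      M = Cfsg.stabilizing (Cfsg.spToMat m F) (W : Set VV) ∨ M = ⊤) ∧
    Cfsg.stabilizing (Cfsg.spToMat m F) (W : Set VV) ≠ ⊤ := by
  classical
  set k := Module.finrank F W with hkdef
  have hk : k ≤ m := finrank_le_of_isotropic W hW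
  have hk1 : 1 ≤ k := by
    rw [Nat.one_le_iff_ne_zero]
    intro h0
    apply hW0
    exact Submodule.finrank_eq_zero.mp h0
  have hfr : Module.finrank F (BsetSub m F k) = Module.finrank F W := by
    rw [finrank_BsetSub k hk]
  let φ : BsetSub m F k ≃ₗ[F] W := LinearEquiv.ofFinrankEq _ _ hfr
  have hφ : ∀ x x' : BsetSub m F k,
      Cfsg.sympForm m F ((φ x : W) : Fin m ⊕ Fin m → F) ((φ x' : W) : Fin m ⊕ Fin m → F)
        = Cfsg.sympForm m F (x : Fin m ⊕ Fin m → F) (x' : Fin m ⊕ Fin m → F) := by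
    intro x x'
    rw [hW _ (φ x).2 _ (φ x').2, Bset_isotropic k x.1 x'.1 x.2 x'.2]
  obtain ⟨A, hA⟩ := witt_sp (BsetSub m F k) W φ hφ
  have hAW : ∀ v : Fin m ⊕ Fin m → F, v ∈ Bset m F k ↔
      (A : Matrix (Fin m ⊕ Fin m) (Fin m ⊕ Fin m) F) *ᵥ v ∈ (W : Set (Fin m ⊕ Fin m → F)) := by
    intro v
    constructor
    · intro hv
      have := hA ⟨v, hv⟩
      change (A : Matrix (Fin m ⊕ Fin m) (Fin m ⊕ Fin m) F) *ᵥ v = _ at this
      rw [SetLike.mem_coe, this]
      exact (φ ⟨v, hv⟩).2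
    · intro hv
      have h1 := hA (φ.symm ⟨_, hv⟩)
      rw [LinearEquiv.apply_symm_apply] at h1
      have h2 : ((φ.symm ⟨_, hv⟩ : BsetSub m F k) : Fin m ⊕ Fin m → F) = v := by
        have := congrArg (fun z => ((A⁻¹ : Matrix.symplecticGroup (Fin m) F) :
          Matrix (Fin m ⊕ Fin m) (Fin m ⊕ Fin m) F) *ᵥ z) h1
        simp only [Cfsg.Agent.S0776.inv_mulVec_mulVec] at this
        exact this
      rw [← h2]; exact (φ.symm ⟨_, hv⟩).2
  apply max_of_conj A (W : Set VV) (Bset m F k) hAW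
  · intro M hM
    by_cases h : M = SS m F k
    · left; exact h
    · right; exact thmA k hk M hM h
  · exact SS_ne_top k hk1 hk

end general

/-- For a finite field F and m ≥ 7, in the symplectic group Sp_2m(F) of the standard alternating form on F^(2m) (as a subgroup of GL_2m(F)), the stabiliser of any non-zero subspace on which the form vanishes identically is a maximal subgroup. -/
theorem result {F : Type*} [Field F] [Fintype F] (m : ℕ) (hm : 7 ≤ m) (W : Submodule F (Fin m ⊕ Fin m → F)) (hW0 : W ≠ ⊥) (hW : Cfsg.Geo.IsTotallySingularFor (Cfsg.sympForm m F) W) : Cfsg.Geo.IsMaximalIn (Cfsg.spGL m F) (Cfsg.Geo.subspaceStabilizer W ⊓ Cfsg.spGL m F) := by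
  obtain ⟨h1, h2⟩ := sp_max_isotropic W hW0 hW
  exact transfer (W : Set (Fin m ⊕ Fin m → F)) h1 h2

end Cfsg.Agent.S5645
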