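import Cfsg.Statements.S5652
import Mathlib
import Cfsg.Agent.S5645
import Cfsg.Agent.S0304
-- import your own Cfsg.Agent.* helpers here

set_option autoImplicit false
open Cfsg

namespace Cfsg.Agent.S5652

set_option linter.unusedSectionVars false
set_option linter.unusedVariables false
open Matrix Cfsg.Agent.helper4 Cfsg.Agent.S0245 Cfsg.Agent.S2594 Cfsg.Agent.S0440 Cfsg.Agent.helper29
  Cfsg.Agent.S5645

section basics

variable {F : Type*} [Field F] {m : ℕ}

local notation "Sp" => Matrix.symplecticGroup (Fin m) F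
local notation "ff" => Cfsg.sympForm m F
local notation "VV" => (Fin m ⊕ Fin m → F)

/-- a quadratic form polarising to the symplectic form -/
structure QF (Q : VV → F) : Prop where
  smul : ∀ (c : F) (v : VV), Q (c • v) = c ^ 2 * Q v
  add : ∀ u v : VV, Q (u + v) = Q u + Q v + ff u v

theorem QF.zero {Q : VV → F} (hQ : QF Q) : Q 0 = 0 := by
  have := hQ.smul 0 0
  rw [zero_smul] at this
  rw [this]; ring

/-- two vectors orthogonal to a small set, pairing to one -/
theorem perp_pair (S : Finset VV) (hS : S.card < m) :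
    ∃ x₁ x₂ : VV, (∀ s ∈ S, ff s x₁ = 0 ∧ ff s x₂ = 0) ∧ ff x₁ x₂ = 1 := by
  classical
  by_contra hcon
  push Not at hcon
  set U : Submodule F VV := Submodule.span F (S : Set VV) with hU
  set W : Submodule F VV := (BF m F).orthogonal U with hW
  have hWmem : ∀ x, x ∈ W ↔ ∀ s ∈ S, ff s x = 0 := by
    intro x
    rw [hW, LinearMap.BilinForm.mem_orthogonal_iff]
    constructor
    · intro h s hs
      exact h s (Submodule.subset_span hs)
    · intro h n hn
      induction hn using Submodule.span_induction with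
      | mem y hy => exact h y hy
      | zero => simp
      | add y z _ _ hy hz => rw [map_add, LinearMap.add_apply, hy, hz, add_zero]
      | smul c y _ hy => rw [map_smul, LinearMap.smul_apply, hy, smul_zero]
  have hiso : ∀ x₁ ∈ W, ∀ x₂ ∈ W, ff x₁ x₂ = 0 := by
    intro x₁ h1 x₂ h2
    by_contra hne
    apply hcon ((ff x₁ x₂)⁻¹ • x₁) x₂
    · intro s hs
      refine ⟨?_, (hWmem x₂).mp h2 s hs⟩
      rw [sympForm_smul_right, (hWmem x₁).mp h1 s hs, mul_zero]
    · rw [sympForm_smul_left, inv_mul_cancel₀ hne]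
  have hle : W ≤ U := by
    have h1 : W ≤ (BF m F).orthogonal W := by
      intro x hx
      rw [LinearMap.BilinForm.mem_orthogonal_iff]
      intro n hn
      change (BF m F) n x = 0
      rw [BF_apply]
      exact hiso n hn x hx
    rw [hW, LinearMap.BilinForm.orthogonal_orthogonal BF_nondeg BF_alt.isRefl] at h1
    exact h1
  have h1 : Module.finrank F W = Module.finrank F VV - Module.finrank F U :=
    LinearMap.BilinForm.finrank_orthogonal (BF_nondeg (m := m) (F := F)) U
  have h2 := Submodule.finrank_mono hle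
  have h3 : Module.finrank F U ≤ S.card := finrank_span_finset_le_card S
  have h4 : Module.finrank F VV = 2 * m := by
    rw [Module.finrank_fintype_fun_eq_card]; simp; ring
  omega

end basics

section char2

variable {F : Type*} [Field F] [Finite F] [CharP F 2] {m : ℕ}

local notation "Sp" => Matrix.symplecticGroup (Fin m) F
local notation "ff" => Cfsg.sympForm m F
local notation "VV" => (Fin m ⊕ Fin m → F)

theorem ff_comm (u v : VV) : ff u v = ff v u := by
  rw [sympForm_swap, CharTwo.neg_eq]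

theorem sqrt_ex (x : F) : ∃ y : F, y ^ 2 = x := Cfsg.Agent.S0304.exists_sqrt x

variable {Q : (Fin m ⊕ Fin m → F) → F}

theorem exists_value (hQ : QF Q) (x₁ x₂ : VV) (h : ff x₁ x₂ = 1) (δ : F) :
    ∃ s t : F, Q (s • x₁ + t • x₂) = δ := by
  by_cases h1 : Q x₁ = 0
  · refine ⟨δ + Q x₂, 1, ?_⟩
    rw [hQ.add, hQ.smul, hQ.smul, h1, sympForm_smul_left, sympForm_smul_right, h]
    have := CharTwo.add_self_eq_zero (Q x₂)
    linear_combination this
  · obtain ⟨s, hs⟩ := sqrt_ex (δ / Q x₁)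
    refine ⟨s, 0, ?_⟩
    rw [zero_smul, add_zero, hQ.smul, hs]
    field_simp

theorem exists_perp_value (hQ : QF Q) (S : Finset VV) (hS : S.card < m) (δ : F) :
    ∃ x : VV, (∀ s ∈ S, ff s x = 0) ∧ Q x = δ := by
  obtain ⟨x₁, x₂, h1, h2⟩ := perp_pair S hS
  obtain ⟨s, t, hst⟩ := exists_value hQ x₁ x₂ h2 δ
  refine ⟨s • x₁ + t • x₂, ?_, hst⟩
  intro s' hs'
  rw [sympForm_add_right, sympForm_smul_right, sympForm_smul_right, (h1 s' hs').1, (h1 s' hs').2]
  ring

/-- E2 -/
theorem exists_one_two (hQ : QF Q) (hm : 4 ≤ m) (z z' : VV) (hz : z ≠ 0) (hz' : z' ≠ 0) :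
    ∃ y : VV, Q y = 1 ∧ ff z y ≠ 0 ∧ ff z' y ≠ 0 := by
  classical
  obtain ⟨a, ha⟩ := exists_partner' z hz
  obtain ⟨b, hb⟩ := exists_partner' z' hz'
  have hu : ∃ u : VV, ff z u ≠ 0 ∧ ff z' u ≠ 0 := by
    by_cases h1 : ff z' a = 0
    · by_cases h2 : ff z b = 0
      · refine ⟨a + b, ?_, ?_⟩
        · rw [sympForm_add_right, h2, add_zero, ha]; exact one_ne_zero
        · rw [sympForm_add_right, h1, zero_add, hb]; exact one_ne_zero
      · exact ⟨b, h2, by rw [hb]; exact one_ne_zero⟩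
    · exact ⟨a, by rw [ha]; exact one_ne_zero, h1⟩
  obtain ⟨u, hu1, hu2⟩ := hu
  have hcard : ({z, z', u} : Finset VV).card < m := by
    have := Finset.card_le_three (a := z) (b := z') (c := u)
    omega
  obtain ⟨x, hx1, hx2⟩ := exists_perp_value hQ {z, z', u} hcard (1 + Q u)
  have hzx : ff z x = 0 := hx1 z (by simp)
  have hz'x : ff z' x = 0 := hx1 z' (by simp)
  have hux : ff u x = 0 := hx1 u (by simp)
  refine ⟨u + x, ?_, ?_, ?_⟩
  · rw [hQ.add, hx2, hux]
    have := CharTwo.add_self_eq_zero (Q u)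
    linear_combination this
  · rw [sympForm_add_right, hzx, add_zero]; exact hu1
  · rw [sympForm_add_right, hz'x, add_zero]; exact hu2

/-- E3 -/
theorem exists_one_val (hQ : QF Q) (hm : 4 ≤ m) (w : VV) (hw : w ≠ 0) (γ : F) :
    ∃ y : VV, Q y = 1 ∧ ff y w = γ := by
  classical
  obtain ⟨a, ha⟩ := exists_partner' w hw
  set u := γ • a with hu
  have huw : ff u w = γ := by
    rw [hu, sympForm_smul_left, ff_comm, ha, mul_one]
  have hcard : ({w, u} : Finset VV).card < m := by
    have := Finset.card_le_two (a := w) (b := u)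
    omega
  obtain ⟨x, hx1, hx2⟩ := exists_perp_value hQ {w, u} hcard (1 + Q u)
  have hwx : ff w x = 0 := hx1 w (by simp)
  have hux : ff u x = 0 := hx1 u (by simp)
  refine ⟨u + x, ?_, ?_⟩
  · rw [hQ.add, hx2, hux]
    have := CharTwo.add_self_eq_zero (Q u)
    linear_combination this
  · rw [sympForm_add_left, huw, ff_comm x w, hwx, add_zero]

theorem Q_TT (hQ : QF Q) (z v : VV) (c : F) :
    Q (((TT z c : Sp) : Matrix (Fin m ⊕ Fin m) (Fin m ⊕ Fin m) F) *ᵥ v)
      = Q v + (c * ff v z) ^ 2 * Q z + c * (ff v z) ^ 2 := by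
  rw [TT_mulVec, hQ.add, hQ.smul, sympForm_smul_right]
  ring

end char2

section main

variable {F : Type*} [Field F] [Finite F] [CharP F 2] {m : ℕ}

local notation "Sp" => Matrix.symplecticGroup (Fin m) F
local notation "ff" => Cfsg.sympForm m F
local notation "VV" => (Fin m ⊕ Fin m → F)

variable {Q : (Fin m ⊕ Fin m → F) → F}

theorem TT_one_pres (hQ : QF Q) (y : VV) (hy : Q y = 1) (v : VV) :
    Q (((TT y 1 : Sp) : Matrix (Fin m ⊕ Fin m) (Fin m ⊕ Fin m) F) *ᵥ v) = Q v := by
  rw [Q_TT hQ, hy]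
  have := CharTwo.add_self_eq_zero ((ff v y) ^ 2)
  linear_combination this

theorem refl_move (hQ : QF Q) (z z' : VV) (h : ff z z' ≠ 0) (hα : Q z = Q z') :
    ∃ y : VV, Q y = 1 ∧
      ((TT y 1 : Sp) : Matrix (Fin m ⊕ Fin m) (Fin m ⊕ Fin m) F) *ᵥ z = z' := by
  obtain ⟨s, hs⟩ := sqrt_ex (ff z z')⁻¹
  refine ⟨s • (z + z'), ?_, ?_⟩
  · rw [hQ.smul, hQ.add, hs, hα]
    have := CharTwo.add_self_eq_zero (Q z')
    have h2 : (ff z z')⁻¹ * ff z z' = 1 := inv_mul_cancel₀ h
    linear_combination (ff z z')⁻¹ * this + h2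
  · rw [TT_mulVec, sympForm_smul_right, sympForm_add_right, sympForm_self, zero_add, one_mul,
      smul_smul]
    have h2 : s * ff z z' * s = 1 := by
      have : s * ff z z' * s = s ^ 2 * ff z z' := by ring
      rw [this, hs, inv_mul_cancel₀ h]
    rw [h2, one_smul, ← add_assoc]
    have : z + z = 0 := by
      funext i
      exact CharTwo.add_self_eq_zero (z i)
    rw [this, zero_add]

theorem mulVec_smul_sp (g : Sp) (c : F) (v : VV) :
    (g : Matrix (Fin m ⊕ Fin m) (Fin m ⊕ Fin m) F) *ᵥ (c • v)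
      = c • ((g : Matrix (Fin m ⊕ Fin m) (Fin m ⊕ Fin m) F) *ᵥ v) := Matrix.mulVec_smul _ _ _

theorem pres_of_pres_one (hQ : QF Q) (hm : 4 ≤ m) (g : Sp)
    (h1 : ∀ y : VV, Q y = 1 → Q ((g : Matrix (Fin m ⊕ Fin m) (Fin m ⊕ Fin m) F) *ᵥ y) = 1) :
    ∀ v : VV, Q ((g : Matrix (Fin m ⊕ Fin m) (Fin m ⊕ Fin m) F) *ᵥ v) = Q v := by
  classical
  have hns : ∀ v : VV, Q v ≠ 0 → Q ((g : Matrix (Fin m ⊕ Fin m) (Fin m ⊕ Fin m) F) *ᵥ v) = Q v := by
    intro v hv
    obtain ⟨s, hs⟩ := sqrt_ex (Q v)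
    have hs0 : s ≠ 0 := by
      rintro rfl
      apply hv
      rw [← hs]; ring
    have hy : Q (s⁻¹ • v) = 1 := by
      rw [hQ.smul, ← hs]
      field_simp
    have h2 := h1 _ hy
    have hv' : v = s • (s⁻¹ • v) := by
      rw [smul_smul, mul_inv_cancel₀ hs0, one_smul]
    conv_lhs => rw [hv', mulVec_smul_sp, hQ.smul, h2, hs, mul_one]
  intro v
  by_cases hv : Q v = 0
  · by_cases hv0 : v = 0
    · rw [hv0, Matrix.mulVec_zero]
    · have hcard : ({v} : Finset VV).card < m := by
        rw [Finset.card_singleton]; omega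
      obtain ⟨x, hx1, hx2⟩ := exists_perp_value hQ {v} hcard 1
      have hvx : ff v x = 0 := hx1 v (by simp)
      have hvx1 : Q (v + x) = 1 := by
        rw [hQ.add, hv, hx2, hvx]; ring
      have e1 := hns (v + x) (by rw [hvx1]; exact one_ne_zero)
      have e2 := hns x (by rw [hx2]; exact one_ne_zero)
      have hvd : v = (v + x) + x := by
        rw [add_assoc]
        have : x + x = 0 := by
          funext i
          exact CharTwo.add_self_eq_zero (x i)
        rw [this, add_zero]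
      conv_lhs => rw [hvd, Matrix.mulVec_add, hQ.add, e1, e2, Cfsg.Agent.S0766.sympForm_mulVec g,
        sympForm_add_left, hvx, sympForm_self, hvx1, hx2]
      rw [hv]
      have := CharTwo.add_self_eq_zero (1 : F)
      linear_combination this
  · exact hns v hv

theorem thmO (hQ : QF Q) (hm : 4 ≤ m) (H M : Subgroup Sp)
    (hH : ∀ g : Sp, g ∈ H ↔
      ∀ v : VV, Q ((g : Matrix (Fin m ⊕ Fin m) (Fin m ⊕ Fin m) F) *ᵥ v) = Q v)
    (hHM : H ≤ M) (hne : M ≠ H) : M = ⊤ := by
  classical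
  have hY1 : ∀ y : VV, Q y = 1 → (TT y 1 : Sp) ∈ M := by
    intro y hy
    apply hHM
    rw [hH]
    exact TT_one_pres hQ y hy
  have hYinv : ∀ g : Sp, g ∈ M → ∀ y : VV, (TT y 1 : Sp) ∈ M →
      (TT ((g : Matrix (Fin m ⊕ Fin m) (Fin m ⊕ Fin m) F) *ᵥ y) 1 : Sp) ∈ M := by
    intro g hg y hy
    rw [← conj_TT]
    exact M.mul_mem (M.mul_mem hg hy) (M.inv_mem hg)
  -- Claim 1
  have claim1 : ∃ z : VV, (TT z 1 : Sp) ∈ M ∧ z ≠ 0 ∧ Q z ≠ 1 := by
    have : ∃ g ∈ M, g ∉ H := by
      by_contra h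
      push Not at h
      exact hne (le_antisymm h hHM)
    obtain ⟨g, hgM, hgH⟩ := this
    by_contra hcon
    push Not at hcon
    apply hgH
    rw [hH]
    apply pres_of_pres_one hQ hm
    intro y hy
    apply hcon _ (hYinv g hgM y (hY1 y hy))
    apply Cfsg.Agent.S0768.mulVec_ne_zero
    rintro rfl
    rw [hQ.zero] at hy
    exact zero_ne_one hy
  obtain ⟨z, hzY, hz0, hzα⟩ := claim1
  -- Claim (b)
  have claimb : ∀ z' : VV, z' ≠ 0 → Q z' = Q z → (TT z' 1 : Sp) ∈ M := by
    have step : ∀ z₁ z₂ : VV, (TT z₁ 1 : Sp) ∈ M → ff z₁ z₂ ≠ 0 → Q z₁ = Q z₂ →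
        (TT z₂ 1 : Sp) ∈ M := by
      intro z₁ z₂ h1 h2 h3
      obtain ⟨y, hy1, hy2⟩ := refl_move hQ z₁ z₂ h2 h3
      rw [← hy2]
      exact hYinv _ (hY1 y hy1) z₁ h1
    intro z' hz' hQz'
    by_cases h : ff z z' = 0
    · obtain ⟨y, hy1, hy2, hy3⟩ := exists_one_two hQ hm z z' hz0 hz'
      set z'' := ((TT y 1 : Sp) : Matrix (Fin m ⊕ Fin m) (Fin m ⊕ Fin m) F) *ᵥ z with hz''
      have h1 : (TT z'' 1 : Sp) ∈ M := hYinv _ (hY1 y hy1) z hzY
      have h2 : Q z'' = Q z := TT_one_pres hQ y hy1 z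
      have h3 : ff z'' z' ≠ 0 := by
        rw [hz'', TT_mulVec, sympForm_add_left, h, zero_add, sympForm_smul_left, one_mul,
          ff_comm y z']
        exact mul_ne_zero hy2 hy3
      exact step z'' z' h1 h3 (by rw [h2, hQz'])
    · exact step z z' hzY h hQz'.symm
  -- Claim (c)
  have claimc : ∀ w : VV, (TT w 1 : Sp) ∈ M := by
    intro w
    by_cases hw0 : w = 0
    · rw [hw0, Cfsg.Agent.S0269.TT_zero_vec]; exact M.one_mem
    by_cases hw1 : Q w = 1
    · exact hY1 w hw1
    have hα1 : Q z + 1 ≠ 0 := by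
      intro h
      apply hzα
      have := CharTwo.add_self_eq_zero (1 : F)
      linear_combination h - this
    have hβ1 : Q w + 1 ≠ 0 := by
      intro h
      apply hw1
      have := CharTwo.add_self_eq_zero (1 : F)
      linear_combination h - this
    set γ := (Q w + 1) / (Q z + 1) with hγ
    have hγ0 : γ ≠ 0 := div_ne_zero hβ1 hα1
    obtain ⟨y, hy1, hy2⟩ := exists_one_val hQ hm w hw0 γ
    obtain ⟨b, hb⟩ := sqrt_ex γ
    have hb0 : b ≠ 0 := by
      rintro rfl
      apply hγ0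
      rw [← hb]; ring
    set z₁ := b⁻¹ • (w + y) with hz₁
    have hwy : ff w y = γ := by rw [ff_comm, hy2]
    have hQz₁ : Q z₁ = Q z := by
      rw [hz₁, hQ.smul, hQ.add, hy1, hwy]
      have e1 : (b⁻¹) ^ 2 = γ⁻¹ := by rw [inv_pow, hb]
      rw [e1]
      have e2 : γ⁻¹ * (Q w + 1) = Q z + 1 := by
        rw [hγ]
        field_simp
      have e3 : γ⁻¹ * γ = 1 := inv_mul_cancel₀ hγ0
      have := CharTwo.add_self_eq_zero (1 : F)
      linear_combination e2 + e3 + this
    have hz₁0 : z₁ ≠ 0 := by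
      intro h
      have h2 : w + y = 0 := by
        have := congrArg (fun t => b • t) h
        simp only [hz₁, smul_smul, mul_inv_cancel₀ hb0, one_smul, smul_zero] at this
        exact this
      apply hw1
      have h3 : w = y := by
        have h4 : w = -y := eq_neg_of_add_eq_zero_left h2
        rw [h4]
        funext i
        exact CharTwo.neg_eq (y i)
      rw [h3, hy1]
    have hz₁Y : (TT z₁ 1 : Sp) ∈ M := claimb z₁ hz₁0 hQz₁
    have hfin := hYinv _ hz₁Y y (hY1 y hy1)
    have hcalc : ((TT z₁ 1 : Sp) : Matrix (Fin m ⊕ Fin m) (Fin m ⊕ Fin m) F) *ᵥ y = w := by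
      rw [TT_mulVec, hz₁, sympForm_smul_right, sympForm_add_right, hy2, sympForm_self, add_zero,
        smul_smul, one_mul]
      have e1 : b⁻¹ * γ * b⁻¹ = 1 := by
        rw [← hb]
        field_simp
      rw [e1, one_smul, add_comm w y, ← add_assoc]
      have : y + y = 0 := by
        funext i
        exact CharTwo.add_self_eq_zero (y i)
      rw [this, zero_add]
    rwa [hcalc] at hfin
  apply Cfsg.Agent.S0269.eq_top_of_TT
  intro w hw c
  obtain ⟨s, hs⟩ := sqrt_ex c
  have := claimc (s • w)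
  rwa [Cfsg.Agent.S0269.TT_smul, mul_one, hs] at this

end main

section fin

variable {F : Type*} [Field F] [Finite F] [CharP F 2] {m : ℕ}

local notation "Sp" => Matrix.symplecticGroup (Fin m) F
local notation "ff" => Cfsg.sympForm m F
local notation "VV" => (Fin m ⊕ Fin m → F)

variable {Q : (Fin m ⊕ Fin m → F) → F}

theorem O_ne_top (hQ : QF Q) (hm : 4 ≤ m) (H : Subgroup Sp)
    (hH : ∀ g : Sp, g ∈ H ↔
      ∀ v : VV, Q ((g : Matrix (Fin m ⊕ Fin m) (Fin m ⊕ Fin m) F) *ᵥ v) = Q v) : H ≠ ⊤ := by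
  classical
  intro htop
  obtain ⟨y₁, -, hy₁⟩ := exists_perp_value hQ (∅ : Finset VV) (by simp; omega) 1
  have hy₁0 : y₁ ≠ 0 := by
    rintro rfl
    rw [hQ.zero] at hy₁
    exact zero_ne_one hy₁
  obtain ⟨p, hp⟩ := exists_partner' y₁ hy₁0
  have hcard : ({y₁, p} : Finset VV).card < m := by
    have := Finset.card_le_two (a := y₁) (b := p)
    omega
  obtain ⟨x, hx1, hx2⟩ := exists_perp_value hQ {y₁, p} hcard 1
  have hyx : ff y₁ x = 0 := hx1 y₁ (by simp)
  have hpx : ff p x = 0 := hx1 p (by simp)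
  set z := y₁ + x with hz
  have hQz : Q z = 0 := by
    rw [hz, hQ.add, hy₁, hx2, hyx, add_zero]
    exact CharTwo.add_self_eq_zero 1
  have hz0 : z ≠ 0 := by
    intro h
    have h1 : ff p z = 1 := by
      rw [hz, sympForm_add_right, hpx, add_zero, ff_comm, hp]
    rw [h] at h1
    have h2 : ff p 0 = 0 := by
      have := sympForm_smul_right (0 : F) p (0 : VV)
      rw [zero_smul, zero_mul] at this
      exact this
    rw [h2] at h1
    exact zero_ne_one h1
  obtain ⟨v, hv⟩ := exists_partner' z hz0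
  have hmem : (TT z 1 : Sp) ∈ H := by rw [htop]; trivial
  have h1 := (hH _).mp hmem v
  rw [Q_TT hQ, hQz, ff_comm v z, hv] at h1
  have : (1 : F) = 0 := by linear_combination h1
  exact one_ne_zero this

end fin

section transfer

variable {F : Type*} [Field F] {m : ℕ}

local notation "Sp" => Matrix.symplecticGroup (Fin m) F
local notation "ff" => Cfsg.sympForm m F
local notation "VV" => (Fin m ⊕ Fin m → F)

/-- general transfer of maximality from `Sp` to `spGL` -/
theorem transfer' (K : Subgroup (Matrix.GeneralLinearGroup (Fin m ⊕ Fin m) F))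
    (hmax : ∀ M : Subgroup Sp, K.comap toGL ≤ M → M = K.comap toGL ∨ M = ⊤)
    (hne : K.comap (toGL (F := F) (m := m)) ≠ ⊤) :
    Cfsg.Geo.IsMaximalIn (Cfsg.spGL m F) (K ⊓ Cfsg.spGL m F) := by
  have hcomap : (K ⊓ Cfsg.spGL m F).comap toGL = K.comap toGL := by
    rw [Subgroup.comap_inf, comap_toGL_spGL, inf_top_eq]
  constructor
  · apply lt_of_le_of_ne inf_le_right
    intro h
    apply hne
    rw [← hcomap, h, comap_toGL_spGL]
  · intro M hHM hMK
    have h1 : K.comap toGL ≤ M.comap toGL := by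
      rw [← hcomap]
      exact Subgroup.comap_mono hHM
    have hM : M = (M.comap toGL).map toGL := by
      rw [Subgroup.map_comap_eq, range_toGL, inf_eq_right.mpr hMK]
    have hH : (K ⊓ Cfsg.spGL m F) = ((K ⊓ Cfsg.spGL m F).comap toGL).map toGL := by
      rw [Subgroup.map_comap_eq, range_toGL, inf_eq_right.mpr inf_le_right]
    rcases hmax _ h1 with h2 | h2
    · left
      rw [hM, h2, ← hcomap, ← hH]
    · right
      rw [hM, h2, ← MonoidHom.range_eq_map, range_toGL]

theorem mem_comap_quad (Q : VV → F) (g : Sp) :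
    g ∈ (Cfsg.Geo.quadSimilarityGroup Q).comap toGL ↔
      ∃ c : Fˣ, ∀ v : VV, Q ((g : Matrix (Fin m ⊕ Fin m) (Fin m ⊕ Fin m) F) *ᵥ v) = (c : F) * Q v :=
  Iff.rfl

theorem mem_comap_quad' {Q : VV → F} (hQ : QF Q) (hm : 1 ≤ m) (g : Sp) :
    g ∈ (Cfsg.Geo.quadSimilarityGroup Q).comap toGL ↔
      ∀ v : VV, Q ((g : Matrix (Fin m ⊕ Fin m) (Fin m ⊕ Fin m) F) *ᵥ v) = Q v := by
  rw [mem_comap_quad]
  constructor
  · rintro ⟨c, hc⟩
    have hu : (eF (F := F) (Sum.inl (⟨0, by omega⟩ : Fin m))) ≠ 0 := Cfsg.Agent.S0269.eF_ne_zero _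
    obtain ⟨p, hp⟩ := exists_partner' _ hu
    have h1 := hc (eF (F := F) (Sum.inl (⟨0, by omega⟩ : Fin m)) + p)
    rw [Matrix.mulVec_add, hQ.add, hQ.add, hc, hc, Cfsg.Agent.S0766.sympForm_mulVec g, hp] at h1
    have hc1 : (c : F) = 1 := by linear_combination -h1
    intro v
    rw [hc, hc1, one_mul]
  · intro h
    exact ⟨1, fun v => by rw [h v, Units.val_one, one_mul]⟩

end transfer

/-- For a finite field F of characteristic two and m ≥ 7, let Q be a non-degenerate quadratic form on F^(2m) whose polar form is the standard alternating form. Then the elements of Sp_2m(F) that are similarities of Q (they are exactly the isometries of Q) form a maximal subgroup of Sp_2m(F). -/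
theorem result {F : Type*} [Field F] [Fintype F] (m : ℕ) (hm : 7 ≤ m) (heven : ¬ Odd (Fintype.card F)) (Q : (Fin m ⊕ Fin m → F) → F) (hQ : Cfsg.Geo.IsNondegenerateQuadraticForm Q) (hpol : ∀ u v, QuadraticMap.polar Q u v = Cfsg.sympForm m F u v) : Cfsg.Geo.IsMaximalIn (Cfsg.spGL m F) (Cfsg.Geo.quadSimilarityGroup Q ⊓ Cfsg.spGL m F) := by
  classical
  have hchar : CharP F 2 := by
    apply ringChar.of_eq
    rw [FiniteField.even_card_iff_char_two]
    rcases Nat.even_or_odd (Fintype.card F) with h | h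
    · exact Nat.even_iff.mp h
    · exact absurd h heven
  have hQF : QF Q := by
    constructor
    · exact hQ.smul
    · intro u v
      have := hpol u v
      unfold QuadraticMap.polar at this
      linear_combination this
  have hH := mem_comap_quad' hQF (by omega : 1 ≤ m)
  apply transfer'
  · intro M hM
    by_cases h : M = (Cfsg.Geo.quadSimilarityGroup Q).comap toGL
    · left; exact h
    · right; exact thmO hQF (by omega) _ M hH hM h
  · exact O_ne_top hQF (by omega) _ hH

end Cfsg.Agent.S5652
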