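import Mathlib
import Cfsg.Agent.S5652
import Cfsg.Agent.Lib_helper29_SpWitt

set_option autoImplicit false
set_option linter.unusedSectionVars false
set_option linter.unusedVariables false

namespace Cfsg.Agent.helper29

open Matrix Cfsg.Agent.helper4 Cfsg.Agent.S0245 Cfsg.Agent.S2594 Cfsg.Agent.S0440

section comps

variable {F : Type*} [Field F] {m : ℕ}

local notation "Sp" => Matrix.symplecticGroup (Fin m) F
local notation "ff" => Cfsg.sympForm m F
local notation "VV" => (Fin m ⊕ Fin m → F)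

variable {t k : ℕ} {D : Fin t → Submodule F (Fin m ⊕ Fin m → F)}

theorem exists_comp (hD : Cfsg.Geo.IsNondegenerateMDecomposition (Cfsg.sympForm m F) k D) (v : VV) :
    ∃ μ : Fin t → VV, (∀ l, μ l ∈ D l) ∧ v = ∑ l, μ l := by
  have hv : v ∈ ⨆ i ∈ (Finset.univ : Finset (Fin t)), D i := by
    simp only [Finset.mem_univ, iSup_pos]
    rw [hD.decomp.iSup_eq_top]
    trivial
  rw [Submodule.mem_iSup_finset_iff_exists_sum] at hv
  obtain ⟨μ, hμ⟩ := hv
  exact ⟨fun l => (μ l : VV), fun l => (μ l).2, hμ.symm⟩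

theorem sympForm_sum_left {ι : Type*} (s : Finset ι) (g : ι → VV) (w : VV) :
    ff (∑ i ∈ s, g i) w = ∑ i ∈ s, ff (g i) w := by
  classical
  induction s using Finset.induction_on with
  | empty => simp [Cfsg.Agent.S0766.sympForm_zero_left]
  | insert a s ha ih => rw [Finset.sum_insert ha, Finset.sum_insert ha, sympForm_add_left, ih]

theorem sympForm_zero_right' (w : VV) : ff w 0 = 0 := by
  rw [sympForm_swap, Cfsg.Agent.S0766.sympForm_zero_left, neg_zero]

theorem sympForm_sum_right {ι : Type*} (s : Finset ι) (g : ι → VV) (w : VV) :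
    ff w (∑ i ∈ s, g i) = ∑ i ∈ s, ff w (g i) := by
  classical
  induction s using Finset.induction_on with
  | empty => simp [sympForm_zero_right']
  | insert a s ha ih => rw [Finset.sum_insert ha, Finset.sum_insert ha, sympForm_add_right, ih]

theorem form_comp (hD : Cfsg.Geo.IsNondegenerateMDecomposition (Cfsg.sympForm m F) k D)
    (μ : Fin t → VV) (hμ : ∀ l, μ l ∈ D l) (i : Fin t) (d : VV) (hd : d ∈ D i) :
    ff (∑ l, μ l) d = ff (μ i) d := by
  classical
  rw [sympForm_sum_left, Finset.sum_eq_single i]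
  · intro l _ hl
    exact hD.orthogonal l i hl (μ l) (hμ l) d hd
  · intro h; exact absurd (Finset.mem_univ i) h

theorem block_nondeg (hD : Cfsg.Geo.IsNondegenerateMDecomposition (Cfsg.sympForm m F) k D)
    (i : Fin t) (x : VV) (hx : x ∈ D i) (h : ∀ d ∈ D i, ff x d = 0) : x = 0 := by
  by_contra hne
  obtain ⟨-, ⟨d, hd, hd2⟩⟩ := hD.nondegenerate i x hx hne
  exact hd2 (h d hd)

theorem comp_unique (hD : Cfsg.Geo.IsNondegenerateMDecomposition (Cfsg.sympForm m F) k D)
    (μ μ' : Fin t → VV) (hμ : ∀ l, μ l ∈ D l) (hμ' : ∀ l, μ' l ∈ D l)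
    (h : ∑ l, μ l = ∑ l, μ' l) : μ = μ' := by
  funext i
  have h1 : μ i - μ' i = 0 := by
    apply block_nondeg hD i _ ((D i).sub_mem (hμ i) (hμ' i))
    intro d hd
    rw [sympForm_sub_left, ← form_comp hD μ hμ i d hd, ← form_comp hD μ' hμ' i d hd, h, sub_self]
  exact sub_eq_zero.mp h1

/-- the component of `v` in `D l` -/
noncomputable def cmp (hD : Cfsg.Geo.IsNondegenerateMDecomposition (Cfsg.sympForm m F) k D)
    (v : VV) : Fin t → VV := Classical.choose (exists_comp hD v)

theorem cmp_mem (hD : Cfsg.Geo.IsNondegenerateMDecomposition (Cfsg.sympForm m F) k D)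
    (v : VV) (l : Fin t) : cmp hD v l ∈ D l := (Classical.choose_spec (exists_comp hD v)).1 l

theorem sum_cmp (hD : Cfsg.Geo.IsNondegenerateMDecomposition (Cfsg.sympForm m F) k D)
    (v : VV) : ∑ l, cmp hD v l = v := (Classical.choose_spec (exists_comp hD v)).2.symm

theorem cmp_eq (hD : Cfsg.Geo.IsNondegenerateMDecomposition (Cfsg.sympForm m F) k D)
    (v : VV) (μ : Fin t → VV) (hμ : ∀ l, μ l ∈ D l) (h : v = ∑ l, μ l) : cmp hD v = μ := by
  apply comp_unique hD _ _ (cmp_mem hD v) hμ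
  rw [sum_cmp, h]

theorem cmp_add (hD : Cfsg.Geo.IsNondegenerateMDecomposition (Cfsg.sympForm m F) k D)
    (u v : VV) (l : Fin t) : cmp hD (u + v) l = cmp hD u l + cmp hD v l := by
  have := cmp_eq hD (u + v) (fun l => cmp hD u l + cmp hD v l)
    (fun l => (D l).add_mem (cmp_mem hD u l) (cmp_mem hD v l))
    (by rw [Finset.sum_add_distrib, sum_cmp, sum_cmp])
  exact congrFun this l

theorem cmp_smul (hD : Cfsg.Geo.IsNondegenerateMDecomposition (Cfsg.sympForm m F) k D)
    (c : F) (v : VV) (l : Fin t) : cmp hD (c • v) l = c • cmp hD v l := by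
  have := cmp_eq hD (c • v) (fun l => c • cmp hD v l)
    (fun l => (D l).smul_mem c (cmp_mem hD v l))
    (by rw [← Finset.smul_sum, sum_cmp])
  exact congrFun this l

theorem cmp_sum_family (hD : Cfsg.Geo.IsNondegenerateMDecomposition (Cfsg.sympForm m F) k D)
    (y : Fin t → VV) (hy : ∀ l, y l ∈ D l) : cmp hD (∑ l, y l) = y :=
  cmp_eq hD _ y hy rfl

theorem ff_cmp (hD : Cfsg.Geo.IsNondegenerateMDecomposition (Cfsg.sympForm m F) k D)
    (v : VV) (i : Fin t) (d : VV) (hd : d ∈ D i) : ff v d = ff (cmp hD v i) d := by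
  conv_lhs => rw [← sum_cmp hD v]
  exact form_comp hD _ (cmp_mem hD v) i d hd

theorem ff_eq_sum_cmp (hD : Cfsg.Geo.IsNondegenerateMDecomposition (Cfsg.sympForm m F) k D)
    (u v : VV) : ff u v = ∑ l, ff (cmp hD u l) (cmp hD v l) := by
  conv_lhs => rw [← sum_cmp hD v, sympForm_sum_right]
  apply Finset.sum_congr rfl
  intro l _
  exact ff_cmp hD u l _ (cmp_mem hD v l)

/-- the support of a vector: the blocks where it has a nonzero component -/
noncomputable def supp (hD : Cfsg.Geo.IsNondegenerateMDecomposition (Cfsg.sympForm m F) k D)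
    (v : VV) : Finset (Fin t) := by
  classical
  exact Finset.univ.filter (fun l => cmp hD v l ≠ 0)

theorem mem_supp (hD : Cfsg.Geo.IsNondegenerateMDecomposition (Cfsg.sympForm m F) k D)
    (v : VV) (l : Fin t) : l ∈ supp hD v ↔ cmp hD v l ≠ 0 := by
  classical
  unfold supp
  rw [Finset.mem_filter]
  simp

end comps

section moves

variable {F : Type*} [Field F] {m : ℕ}

local notation "Sp" => Matrix.symplecticGroup (Fin m) F
local notation "ff" => Cfsg.sympForm m F
local notation "VV" => (Fin m ⊕ Fin m → F)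

variable {t k : ℕ} {D : Fin t → Submodule F (Fin m ⊕ Fin m → F)}

open Cfsg.Agent.S5645 in
/-- the decomposition stabilizer inside `Sp` -/
abbrev HD (D : Fin t → Submodule F (Fin m ⊕ Fin m → F)) : Subgroup Sp :=
  (Cfsg.Geo.decompositionStabilizer D).comap Cfsg.Agent.S5645.toGL

theorem mem_HD (g : Sp) : g ∈ HD D ↔ ∃ σ : Equiv.Perm (Fin t), ∀ i,
    (D i).map (Matrix.toLin' (g : Matrix (Fin m ⊕ Fin m) (Fin m ⊕ Fin m) F)) = D (σ i) := Iff.rfl

theorem map_eq_of_fwd (W : Submodule F VV) (g : Sp)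
    (h1 : ∀ d ∈ W, (g : Matrix (Fin m ⊕ Fin m) (Fin m ⊕ Fin m) F) *ᵥ d ∈ W)
    (h2 : ∀ d ∈ W, ((g⁻¹ : Sp) : Matrix (Fin m ⊕ Fin m) (Fin m ⊕ Fin m) F) *ᵥ d ∈ W) :
    W.map (Matrix.toLin' (g : Matrix (Fin m ⊕ Fin m) (Fin m ⊕ Fin m) F)) = W := by
  apply le_antisymm
  · rintro _ ⟨d, hd, rfl⟩
    rw [Matrix.toLin'_apply]
    exact h1 d hd
  · intro d hd
    refine ⟨((g⁻¹ : Sp) : Matrix (Fin m ⊕ Fin m) (Fin m ⊕ Fin m) F) *ᵥ d, h2 d hd, ?_⟩
    rw [Matrix.toLin'_apply, Cfsg.Agent.S0776.mulVec_inv_mulVec]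

theorem TT_mem_HD (hD : Cfsg.Geo.IsNondegenerateMDecomposition (Cfsg.sympForm m F) k D)
    (i : Fin t) (x : VV) (hx : x ∈ D i) (c : F) : (TT x c : Sp) ∈ HD D := by
  have key : ∀ (c : F) (l : Fin t), ∀ d ∈ D l,
      ((TT x c : Sp) : Matrix (Fin m ⊕ Fin m) (Fin m ⊕ Fin m) F) *ᵥ d ∈ D l := by
    intro c l d hd
    rw [TT_mulVec]
    by_cases hl : l = i
    · subst hl
      exact (D l).add_mem hd ((D l).smul_mem _ hx)
    · rw [hD.orthogonal l i hl d hd x hx, mul_zero, zero_smul, add_zero]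
      exact hd
  rw [mem_HD]
  refine ⟨1, fun l => ?_⟩
  apply map_eq_of_fwd
  · exact key c l
  · rw [Cfsg.Agent.S0269.TT_inv]
    exact key (-c) l

open Cfsg.Agent.S5645 in
theorem move_ne (hD : Cfsg.Geo.IsNondegenerateMDecomposition (Cfsg.sympForm m F) k D)
    (M : Subgroup Sp) (hM : HD D ≤ M) (i : Fin t) (v v' : VV) (hv : XX M v)
    (hd : v' - v ∈ D i) (hne : ff v v' ≠ 0) : XX M v' := by
  have hx : v - v' ∈ D i := by
    have := (D i).neg_mem hd
    rwa [neg_sub] at this
  have h1 := XX_inv M (TT (v - v') (ff v v')⁻¹) (hM (TT_mem_HD hD i _ hx _)) v hv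
  have h2 : ((TT (v - v') (ff v v')⁻¹ : Sp) : Matrix (Fin m ⊕ Fin m) (Fin m ⊕ Fin m) F) *ᵥ v = v' := by
    rw [TT_mulVec, sympForm_sub_right, sympForm_self, zero_sub, mul_neg, inv_mul_cancel₀ hne,
      neg_one_smul]
    abel
  rwa [h2] at h1

open Cfsg.Agent.S5645 in
theorem move_block (hD : Cfsg.Geo.IsNondegenerateMDecomposition (Cfsg.sympForm m F) k D)
    (M : Subgroup Sp) (hM : HD D ≤ M) (i : Fin t) (v v' : VV) (hv : XX M v)
    (hd : v' - v ∈ D i) (h1 : cmp hD v i ≠ 0) (h2 : cmp hD v' i ≠ 0) : XX M v' := by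
  by_cases hne : ff v v' = 0
  · -- find e in D i pairing nontrivially with both
    have he1 : ∃ e ∈ D i, ff v e ≠ 0 := by
      by_contra hcon
      push Not at hcon
      apply h1
      apply block_nondeg hD i _ (cmp_mem hD v i)
      intro d hd'
      rw [← ff_cmp hD v i d hd']
      exact hcon d hd'
    have he2 : ∃ e ∈ D i, ff e v' ≠ 0 := by
      by_contra hcon
      push Not at hcon
      apply h2
      apply block_nondeg hD i _ (cmp_mem hD v' i)
      intro d hd'
      rw [← ff_cmp hD v' i d hd', sympForm_swap, hcon d hd', neg_zero]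
    obtain ⟨e₁, he₁, hv1⟩ := he1
    obtain ⟨e₂, he₂, hv2⟩ := he2
    have hex : ∃ e ∈ D i, ff v e ≠ 0 ∧ ff e v' ≠ 0 := by
      by_cases ha : ff e₁ v' = 0
      · by_cases hb : ff v e₂ = 0
        · refine ⟨e₁ + e₂, (D i).add_mem he₁ he₂, ?_, ?_⟩
          · rw [sympForm_add_right, hb, add_zero]; exact hv1
          · rw [sympForm_add_left, ha, zero_add]; exact hv2
        · exact ⟨e₂, he₂, hb, hv2⟩
      · exact ⟨e₁, he₁, hv1, ha⟩
    obtain ⟨e, he, hve, hev'⟩ := hex
    have hz : XX M (v + e) := by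
      apply move_ne hD M hM i v (v + e) hv
      · rw [add_sub_cancel_left]; exact he
      · rw [sympForm_add_right, sympForm_self, zero_add]; exact hve
    apply move_ne hD M hM i (v + e) v' hz
    · have : v' - (v + e) = (v' - v) - e := by abel
      rw [this]
      exact (D i).sub_mem hd he
    · rw [sympForm_add_left, hne, zero_add]; exact hev'
  · exact move_ne hD M hM i v v' hv hd hne

end moves

section darboux

variable {F : Type*} [Field F] {m : ℕ}

local notation "Sp" => Matrix.symplecticGroup (Fin m) F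
local notation "ff" => Cfsg.sympForm m F
local notation "VV" => (Fin m ⊕ Fin m → F)

variable {t k : ℕ} {D : Fin t → Submodule F (Fin m ⊕ Fin m → F)}

theorem block_darboux (hD : Cfsg.Geo.IsNondegenerateMDecomposition (Cfsg.sympForm m F) k D)
    (l : Fin t) : ∃ u v : Fin (k / 2) → VV, k = 2 * (k / 2) ∧ (∀ r, u r ∈ D l) ∧ (∀ r, v r ∈ D l) ∧
      (∀ r r', ff (u r) (v r') = if r = r' then 1 else 0) ∧ (∀ r r', ff (u r) (u r') = 0) ∧
      (∀ r r', ff (v r) (v r') = 0) ∧
      (∀ d ∈ D l, ∃ a b : Fin (k / 2) → F, d = ∑ r, a r • u r + ∑ r, b r • v r) := by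
  classical
  set W := D l with hW
  let B : LinearMap.BilinForm F W := LinearMap.mk₂ F (fun u v : W => Cfsg.sympForm m F u.1 v.1)
    (fun u u' v => sympForm_add_left u.1 u'.1 v.1)
    (fun c u v => sympForm_smul_left c u.1 v.1)
    (fun u v v' => sympForm_add_right u.1 v.1 v'.1)
    (fun c u v => sympForm_smul_right c u.1 v.1)
  have hBapp : ∀ u v : W, B u v = Cfsg.sympForm m F u.1 v.1 := fun u v => rfl
  have hA : B.IsAlt := fun x => sympForm_self x.1
  obtain ⟨m', k', b, hb1, hb2, hb3, hb4⟩ := Cfsg.Agent.S0752.result B hA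
  have hk' : k' = 0 := by
    by_contra h
    have hpos : 0 < k' := Nat.pos_of_ne_zero h
    have h0 : b (Sum.inr ⟨0, hpos⟩) = 0 := by
      apply Subtype.ext
      apply block_nondeg hD l _ (b (Sum.inr ⟨0, hpos⟩)).2
      intro v hv
      exact hb4 ⟨0, hpos⟩ ⟨v, hv⟩
    exact b.ne_zero _ h0
  subst hk'
  have hWk : k = 2 * m' := by
    have := Module.finrank_eq_card_basis b
    rw [hW, hD.decomp.finrank_eq l] at this
    simp at this
    omega
  have hm' : m' = k / 2 := by omega
  subst hm'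
  refine ⟨fun i => (b (Sum.inl (Sum.inl i))).1, fun i => (b (Sum.inl (Sum.inr i))).1, hWk,
    fun i => (b (Sum.inl (Sum.inl i))).2, fun i => (b (Sum.inl (Sum.inr i))).2,
    fun i j => hb1 i j, fun i j => hb2 i j, fun i j => hb3 i j, ?_⟩
  intro d hd
  set x : W := ⟨d, hd⟩ with hx
  have hsum := b.sum_repr x
  rw [Fintype.sum_sum_type, Fintype.sum_sum_type] at hsum
  simp only [Finset.univ_eq_empty, Finset.sum_empty, add_zero] at hsum
  have hsum' := congrArg Subtype.val hsum
  rw [Submodule.coe_add, Submodule.coe_sum, Submodule.coe_sum] at hsum'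
  simp only [Submodule.coe_smul] at hsum'
  exact ⟨fun r => b.repr x (Sum.inl (Sum.inl r)), fun r => b.repr x (Sum.inl (Sum.inr r)),
    hsum'.symm⟩


/-- Darboux bases of all the blocks -/
structure DarbouxData (D : Fin t → Submodule F (Fin m ⊕ Fin m → F)) (K : ℕ)
    (u v : Fin t → Fin K → (Fin m ⊕ Fin m → F)) : Prop where
  hu : ∀ l r, u l r ∈ D l
  hv : ∀ l r, v l r ∈ D l
  uv : ∀ l r r', Cfsg.sympForm m F (u l r) (v l r') = if r = r' then 1 else 0
  uu : ∀ l r r', Cfsg.sympForm m F (u l r) (u l r') = 0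
  vv : ∀ l r r', Cfsg.sympForm m F (v l r) (v l r') = 0
  span : ∀ l, ∀ d ∈ D l, ∃ a b : Fin K → F, d = ∑ r, a r • u l r + ∑ r, b r • v l r

theorem exists_darboux (hD : Cfsg.Geo.IsNondegenerateMDecomposition (Cfsg.sympForm m F) k D) :
    ∃ u v : Fin t → Fin (k / 2) → VV, k = 2 * (k / 2) ∧ DarbouxData D (k / 2) u v := by
  classical
  choose u v h0 h1 h2 h3 h4 h5 h6 using fun l => block_darboux hD l
  have hk : k = 2 * (k / 2) := by
    have := hD.decomp.two_le
    exact h0 ⟨0, by omega⟩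
  exact ⟨u, v, hk, ⟨h1, h2, h3, h4, h5, h6⟩⟩

variable {K : ℕ} {u v : Fin t → Fin K → (Fin m ⊕ Fin m → F)}

/-- the combined family, twisted by a permutation of the blocks -/
noncomputable def fam (w : Fin t → Fin K → (Fin m ⊕ Fin m → F)) (τ : Equiv.Perm (Fin t))
    (j : Fin (t * K)) : (Fin m ⊕ Fin m → F) :=
  w (τ (finProdFinEquiv.symm j).1) (finProdFinEquiv.symm j).2

theorem fam_apply (w : Fin t → Fin K → (Fin m ⊕ Fin m → F)) (τ : Equiv.Perm (Fin t))
    (l : Fin t) (r : Fin K) : fam w τ (finProdFinEquiv (l, r)) = w (τ l) r := by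
  unfold fam
  rw [Equiv.symm_apply_apply]

theorem fam_uv (hD : Cfsg.Geo.IsNondegenerateMDecomposition (Cfsg.sympForm m F) k D)
    (dd : DarbouxData D K u v) (τ : Equiv.Perm (Fin t)) (i j : Fin (t * K)) :
    ff (fam u τ i) (fam v τ j) = if i = j then 1 else 0 := by
  unfold fam
  by_cases h : (finProdFinEquiv.symm i).1 = (finProdFinEquiv.symm j).1
  · rw [h, dd.uv]
    by_cases h2 : (finProdFinEquiv.symm i).2 = (finProdFinEquiv.symm j).2
    · rw [if_pos h2, if_pos]
      exact finProdFinEquiv.symm.injective (Prod.ext h h2)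
    · rw [if_neg h2, if_neg]
      intro hij; exact h2 (by rw [hij])
  · rw [if_neg (fun hij => h (by rw [hij]))]
    exact hD.orthogonal _ _ (fun hh => h (τ.injective hh)) _ (dd.hu _ _) _ (dd.hv _ _)

theorem fam_uu (hD : Cfsg.Geo.IsNondegenerateMDecomposition (Cfsg.sympForm m F) k D)
    (dd : DarbouxData D K u v) (τ : Equiv.Perm (Fin t)) (i j : Fin (t * K)) :
    ff (fam u τ i) (fam u τ j) = 0 := by
  unfold fam
  by_cases h : (finProdFinEquiv.symm i).1 = (finProdFinEquiv.symm j).1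
  · rw [h, dd.uu]
  · exact hD.orthogonal _ _ (fun hh => h (τ.injective hh)) _ (dd.hu _ _) _ (dd.hu _ _)

theorem fam_vv (hD : Cfsg.Geo.IsNondegenerateMDecomposition (Cfsg.sympForm m F) k D)
    (dd : DarbouxData D K u v) (τ : Equiv.Perm (Fin t)) (i j : Fin (t * K)) :
    ff (fam v τ i) (fam v τ j) = 0 := by
  unfold fam
  by_cases h : (finProdFinEquiv.symm i).1 = (finProdFinEquiv.symm j).1
  · rw [h, dd.vv]
  · exact hD.orthogonal _ _ (fun hh => h (τ.injective hh)) _ (dd.hv _ _) _ (dd.hv _ _)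

theorem tK_le (hD : Cfsg.Geo.IsNondegenerateMDecomposition (Cfsg.sympForm m F) k D)
    (dd : DarbouxData D K u v) : t * K ≤ m := by
  have hyp : Cfsg.Agent.S0752.Hyp (BF m F) (t * K) (fam u 1) (fam v 1) :=
    ⟨fun i j => by rw [BF_apply]; exact fam_uv hD dd 1 i j,
     fun i j => by rw [BF_apply]; exact fam_uu hD dd 1 i j,
     fun i j => by rw [BF_apply]; exact fam_vv hD dd 1 i j⟩
  have h1 := hyp.card_le BF_alt
  have h4 : Module.finrank F VV = 2 * m := by
    rw [Module.finrank_fintype_fun_eq_card]; simp; ring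
  omega

theorem perm_elt (hD : Cfsg.Geo.IsNondegenerateMDecomposition (Cfsg.sympForm m F) k D)
    (dd : DarbouxData D K u v) (σ : Equiv.Perm (Fin t)) :
    ∃ s : Sp, ∀ l r,
      (s : Matrix (Fin m ⊕ Fin m) (Fin m ⊕ Fin m) F) *ᵥ u l r = u (σ l) r ∧
      (s : Matrix (Fin m ⊕ Fin m) (Fin m ⊕ Fin m) F) *ᵥ v l r = v (σ l) r := by
  have hle := tK_le hD dd
  set c : Fin (t * K) → Fin m := Fin.castLE hle with hc
  have hcinj : Function.Injective c := Fin.castLE_injective hle
  obtain ⟨g₁, hg₁⟩ := Cfsg.Agent.S0776.exists_sp_of_hyp c hcinj (fam u 1) (fam v 1)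
    (fam_uv hD dd 1) (fam_uu hD dd 1) (fam_vv hD dd 1) (t * K) le_rfl
  obtain ⟨g₂, hg₂⟩ := Cfsg.Agent.S0776.exists_sp_of_hyp c hcinj (fam u σ) (fam v σ)
    (fam_uv hD dd σ) (fam_uu hD dd σ) (fam_vv hD dd σ) (t * K) le_rfl
  refine ⟨g₂ * g₁⁻¹, fun l r => ?_⟩
  have e1 := hg₁ (finProdFinEquiv (l, r)) (finProdFinEquiv (l, r)).2
  have e2 := hg₂ (finProdFinEquiv (l, r)) (finProdFinEquiv (l, r)).2
  rw [fam_apply, fam_apply] at e1 e2
  rw [Equiv.Perm.one_apply] at e1
  constructor
  · rw [← e1.1, ← e2.1]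
    show ((g₂ : Matrix (Fin m ⊕ Fin m) (Fin m ⊕ Fin m) F) *
      ((g₁⁻¹ : Sp) : Matrix (Fin m ⊕ Fin m) (Fin m ⊕ Fin m) F)) *ᵥ _ = _
    rw [← Matrix.mulVec_mulVec, Cfsg.Agent.S0776.inv_mulVec_mulVec]
  · rw [← e1.2, ← e2.2]
    show ((g₂ : Matrix (Fin m ⊕ Fin m) (Fin m ⊕ Fin m) F) *
      ((g₁⁻¹ : Sp) : Matrix (Fin m ⊕ Fin m) (Fin m ⊕ Fin m) F)) *ᵥ _ = _
    rw [← Matrix.mulVec_mulVec, Cfsg.Agent.S0776.inv_mulVec_mulVec]


end darboux

section suppstuff

variable {F : Type*} [Field F] {m : ℕ}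

local notation "Sp" => Matrix.symplecticGroup (Fin m) F
local notation "ff" => Cfsg.sympForm m F
local notation "VV" => (Fin m ⊕ Fin m → F)

variable {t k : ℕ} {D : Fin t → Submodule F (Fin m ⊕ Fin m → F)}

theorem toLin_inj (g : Sp) :
    Function.Injective (Matrix.toLin' (g : Matrix (Fin m ⊕ Fin m) (Fin m ⊕ Fin m) F)) := by
  intro x y h
  rw [Matrix.toLin'_apply, Matrix.toLin'_apply] at h
  have := congrArg (fun z => ((g⁻¹ : Sp) : Matrix (Fin m ⊕ Fin m) (Fin m ⊕ Fin m) F) *ᵥ z) h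
  simpa only [Cfsg.Agent.S0776.inv_mulVec_mulVec] using this

theorem map_eq_of_le (hD : Cfsg.Geo.IsNondegenerateMDecomposition (Cfsg.sympForm m F) k D)
    (g : Sp) (l j : Fin t)
    (h : ∀ d ∈ D l, (g : Matrix (Fin m ⊕ Fin m) (Fin m ⊕ Fin m) F) *ᵥ d ∈ D j) :
    (D l).map (Matrix.toLin' (g : Matrix (Fin m ⊕ Fin m) (Fin m ⊕ Fin m) F)) = D j := by
  have : FiniteDimensional F (D j) := inferInstance
  apply Submodule.eq_of_le_of_finrank_eq
  · rintro _ ⟨d, hd, rfl⟩
    rw [Matrix.toLin'_apply]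
    exact h d hd
  · rw [← (Submodule.equivMapOfInjective _ (toLin_inj g) (D l)).finrank_eq,
      hD.decomp.finrank_eq, hD.decomp.finrank_eq]

theorem supp_sum_family (hD : Cfsg.Geo.IsNondegenerateMDecomposition (Cfsg.sympForm m F) k D)
    (y : Fin t → VV) (hy : ∀ l, y l ∈ D l) (l : Fin t) :
    l ∈ supp hD (∑ l, y l) ↔ y l ≠ 0 := by
  rw [mem_supp, cmp_sum_family hD y hy]

theorem cmp_of_mem (hD : Cfsg.Geo.IsNondegenerateMDecomposition (Cfsg.sympForm m F) k D)
    (i : Fin t) (x : VV) (hx : x ∈ D i) (l : Fin t) :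
    cmp hD x l = if l = i then x else 0 := by
  classical
  have := cmp_eq hD x (fun l => if l = i then x else 0)
    (fun l => by
      by_cases h : l = i
      · subst h; rw [if_pos rfl]; exact hx
      · rw [if_neg h]; exact (D l).zero_mem)
    (by rw [Finset.sum_ite_eq' Finset.univ i (fun _ => x), if_pos (Finset.mem_univ _)])
  exact congrFun this l

theorem mem_of_supp_subset (hD : Cfsg.Geo.IsNondegenerateMDecomposition (Cfsg.sympForm m F) k D)
    (i : Fin t) (v : VV) (h : supp hD v ⊆ {i}) : v ∈ D i := by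
  classical
  rw [← sum_cmp hD v]
  apply Submodule.sum_mem
  intro l _
  by_cases hl : l = i
  · subst hl; exact cmp_mem hD v l
  · have : l ∉ supp hD v := fun hh => hl (Finset.mem_singleton.mp (h hh))
    rw [mem_supp, not_not] at this
    rw [this]; exact (D i).zero_mem

theorem eq_zero_of_supp_empty (hD : Cfsg.Geo.IsNondegenerateMDecomposition (Cfsg.sympForm m F) k D)
    (v : VV) (h : supp hD v = ∅) : v = 0 := by
  rw [← sum_cmp hD v]
  apply Finset.sum_eq_zero
  intro l _
  have : l ∉ supp hD v := by rw [h]; exact Finset.notMem_empty l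
  rw [mem_supp, not_not] at this
  exact this

theorem cmp_map (hD : Cfsg.Geo.IsNondegenerateMDecomposition (Cfsg.sympForm m F) k D)
    (g : Sp) (σ : Equiv.Perm (Fin t))
    (h : ∀ l, ∀ d ∈ D l, (g : Matrix (Fin m ⊕ Fin m) (Fin m ⊕ Fin m) F) *ᵥ d ∈ D (σ l))
    (v : VV) (l : Fin t) :
    cmp hD ((g : Matrix (Fin m ⊕ Fin m) (Fin m ⊕ Fin m) F) *ᵥ v) (σ l) =
      (g : Matrix (Fin m ⊕ Fin m) (Fin m ⊕ Fin m) F) *ᵥ cmp hD v l := by
  have := cmp_eq hD ((g : Matrix (Fin m ⊕ Fin m) (Fin m ⊕ Fin m) F) *ᵥ v)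
    (fun j => (g : Matrix (Fin m ⊕ Fin m) (Fin m ⊕ Fin m) F) *ᵥ cmp hD v (σ.symm j))
    (fun j => by
      have := h (σ.symm j) _ (cmp_mem hD v (σ.symm j))
      rwa [Equiv.apply_symm_apply] at this)
    (by
      rw [Equiv.sum_comp σ.symm (fun l => (g : Matrix (Fin m ⊕ Fin m) (Fin m ⊕ Fin m) F) *ᵥ cmp hD v l),
        ← Matrix.mulVec_sum, sum_cmp])
  have h2 := congrFun this (σ l)
  simp only [Equiv.symm_apply_apply] at h2
  exact h2

theorem supp_map (hD : Cfsg.Geo.IsNondegenerateMDecomposition (Cfsg.sympForm m F) k D)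
    (g : Sp) (σ : Equiv.Perm (Fin t))
    (h : ∀ l, ∀ d ∈ D l, (g : Matrix (Fin m ⊕ Fin m) (Fin m ⊕ Fin m) F) *ᵥ d ∈ D (σ l))
    (v : VV) [DecidableEq (Fin t)] :
    supp hD ((g : Matrix (Fin m ⊕ Fin m) (Fin m ⊕ Fin m) F) *ᵥ v) = (supp hD v).image σ := by
  ext j
  rw [Finset.mem_image]
  constructor
  · intro hj
    refine ⟨σ.symm j, ?_, Equiv.apply_symm_apply σ j⟩
    rw [mem_supp] at hj ⊢
    intro h0
    apply hj
    have := cmp_map hD g σ h v (σ.symm j)
    rw [Equiv.apply_symm_apply] at this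
    rw [this, h0, Matrix.mulVec_zero]
  · rintro ⟨l, hl, rfl⟩
    rw [mem_supp] at hl ⊢
    rw [cmp_map hD g σ h v l]
    exact Cfsg.Agent.S0768.mulVec_ne_zero g _ hl

open Cfsg.Agent.S5645 in
theorem transfer_supp (hD : Cfsg.Geo.IsNondegenerateMDecomposition (Cfsg.sympForm m F) k D)
    (M : Subgroup Sp) (hM : HD D ≤ M) (v v' : VV) (hv : XX M v)
    (hs : supp hD v' = supp hD v) : XX M v' := by
  classical
  set w : Finset (Fin t) → VV := fun S => ∑ l, (if l ∈ S then cmp hD v' l else cmp hD v l) with hw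
  have hwmem : ∀ (S : Finset (Fin t)) (l : Fin t),
      (if l ∈ S then cmp hD v' l else cmp hD v l) ∈ D l := by
    intro S l
    split_ifs
    · exact cmp_mem hD v' l
    · exact cmp_mem hD v l
  have hwc : ∀ (S : Finset (Fin t)) (l : Fin t),
      cmp hD (w S) l = if l ∈ S then cmp hD v' l else cmp hD v l := by
    intro S l
    exact congrFun (cmp_sum_family hD _ (hwmem S)) l
  have key : ∀ S : Finset (Fin t), XX M (w S) := by
    intro S
    induction S using Finset.induction_on with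
    | empty =>
      have : w ∅ = v := by
        rw [hw]
        simp only [Finset.notMem_empty, if_false]
        exact sum_cmp hD v
      rw [this]; exact hv
    | insert a S ha ih =>
      have hdiff : w (insert a S) = w S + (cmp hD v' a - cmp hD v a) := by
        have h1 : (cmp hD v' a - cmp hD v a) =
            ∑ l, (if l = a then (cmp hD v' a - cmp hD v a) else 0) := by
          rw [Finset.sum_ite_eq' Finset.univ a (fun _ => cmp hD v' a - cmp hD v a),
            if_pos (Finset.mem_univ _)]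
        rw [h1, hw]
        simp only []
        rw [← Finset.sum_add_distrib]
        apply Finset.sum_congr rfl
        intro l _
        by_cases hl : l = a
        · subst hl
          rw [if_pos (Finset.mem_insert_self _ _), if_neg ha, if_pos rfl]
          abel
        · rw [if_neg hl, add_zero]
          by_cases hlS : l ∈ S
          · rw [if_pos hlS, if_pos (Finset.mem_insert_of_mem hlS)]
          · rw [if_neg hlS, if_neg]
            intro hh
            rcases Finset.mem_insert.mp hh with h | h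
            · exact hl h
            · exact hlS h
      by_cases hsupp : a ∈ supp hD v
      · have hsupp' : a ∈ supp hD v' := by rw [hs]; exact hsupp
        rw [mem_supp] at hsupp hsupp'
        apply move_block hD M hM a (w S) (w (insert a S)) ih
        · rw [hdiff, add_sub_cancel_left]
          exact (D a).sub_mem (cmp_mem hD v' a) (cmp_mem hD v a)
        · rw [hwc, if_neg ha]; exact hsupp
        · rw [hwc, if_pos (Finset.mem_insert_self _ _)]; exact hsupp'
      · have hsupp' : a ∉ supp hD v' := by rw [hs]; exact hsupp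
        rw [mem_supp, not_not] at hsupp hsupp'
        rw [hdiff, hsupp, hsupp', sub_zero, add_zero]
        exact ih
  have := key Finset.univ
  have h2 : w Finset.univ = v' := by
    rw [hw]
    simp only [Finset.mem_univ, if_true]
    exact sum_cmp hD v'
  rwa [h2] at this

end suppstuff

section big

variable {F : Type*} [Field F] {m : ℕ}

local notation "Sp" => Matrix.symplecticGroup (Fin m) F
local notation "ff" => Cfsg.sympForm m F
local notation "VV" => (Fin m ⊕ Fin m → F)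

variable {t k : ℕ} {D : Fin t → Submodule F (Fin m ⊕ Fin m → F)}

theorem exists_ne_zero (hD : Cfsg.Geo.IsNondegenerateMDecomposition (Cfsg.sympForm m F) k D)
    (i : Fin t) : ∃ a ∈ D i, a ≠ 0 := by
  by_contra h
  push Not at h
  have h1 : D i = ⊥ := by
    rw [eq_bot_iff]
    intro x hx
    exact (Submodule.mem_bot F).mpr (h x hx)
  have h2 := hD.decomp.finrank_eq i
  rw [h1, finrank_bot] at h2
  have := hD.decomp.pos
  omega

theorem mem_HD_of_fwd (hD : Cfsg.Geo.IsNondegenerateMDecomposition (Cfsg.sympForm m F) k D)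
    (g : Sp) (σ : Equiv.Perm (Fin t))
    (h : ∀ l, ∀ d ∈ D l, (g : Matrix (Fin m ⊕ Fin m) (Fin m ⊕ Fin m) F) *ᵥ d ∈ D (σ l)) :
    g ∈ HD D := by
  rw [mem_HD]
  exact ⟨σ, fun i => map_eq_of_le hD g i (σ i) (h i)⟩

theorem exists_big_supp (hD : Cfsg.Geo.IsNondegenerateMDecomposition (Cfsg.sympForm m F) k D)
    (g : Sp) (hg : g ∉ HD D) :
    ∃ i, ∃ x ∈ D i,
      2 ≤ (supp hD ((g : Matrix (Fin m ⊕ Fin m) (Fin m ⊕ Fin m) F) *ᵥ x)).card := by
  classical
  by_contra hcon
  push Not at hcon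
  apply hg
  choose a ha ha0 using fun i => exists_ne_zero hD i
  have hsing : ∀ i, ∀ x ∈ D i, x ≠ 0 →
      ∃ j, supp hD ((g : Matrix (Fin m ⊕ Fin m) (Fin m ⊕ Fin m) F) *ᵥ x) = {j} := by
    intro i x hx hx0
    have h1 := hcon i x hx
    have h2 : supp hD ((g : Matrix (Fin m ⊕ Fin m) (Fin m ⊕ Fin m) F) *ᵥ x) ≠ ∅ := fun h =>
      Cfsg.Agent.S0768.mulVec_ne_zero g x hx0 (eq_zero_of_supp_empty hD _ h)
    have h3 : (supp hD ((g : Matrix (Fin m ⊕ Fin m) (Fin m ⊕ Fin m) F) *ᵥ x)).card = 1 := by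
      have := Finset.card_pos.mpr (Finset.nonempty_iff_ne_empty.mpr h2)
      omega
    exact Finset.card_eq_one.mp h3
  choose σ hσ using fun i => hsing i (a i) (ha i) (ha0 i)
  have hfwd : ∀ i, ∀ x ∈ D i,
      (g : Matrix (Fin m ⊕ Fin m) (Fin m ⊕ Fin m) F) *ᵥ x ∈ D (σ i) := by
    intro i x hx
    by_cases hx0 : x = 0
    · rw [hx0, Matrix.mulVec_zero]; exact (D (σ i)).zero_mem
    obtain ⟨j, hj⟩ := hsing i x hx hx0
    by_cases hjs : j = σ i
    · apply mem_of_supp_subset hD
      rw [hj, hjs]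
    · exfalso
      have h1 := hcon i (x + a i) ((D i).add_mem hx (ha i))
      have h2 : ({j, σ i} : Finset (Fin t)) ⊆
          supp hD ((g : Matrix (Fin m ⊕ Fin m) (Fin m ⊕ Fin m) F) *ᵥ (x + a i)) := by
        intro l hl
        rw [mem_supp, Matrix.mulVec_add, cmp_add]
        rcases Finset.mem_insert.mp hl with h | h
        · have e1 : cmp hD ((g : Matrix (Fin m ⊕ Fin m) (Fin m ⊕ Fin m) F) *ᵥ a i) l = 0 := by
            have : l ∉ supp hD ((g : Matrix (Fin m ⊕ Fin m) (Fin m ⊕ Fin m) F) *ᵥ a i) := by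
              rw [hσ i, Finset.mem_singleton, h]; exact hjs
            rwa [mem_supp, not_not] at this
          have e2 : cmp hD ((g : Matrix (Fin m ⊕ Fin m) (Fin m ⊕ Fin m) F) *ᵥ x) l ≠ 0 := by
            rw [← mem_supp, hj, h]; exact Finset.mem_singleton_self _
          rw [e1, add_zero]; exact e2
        · have h' := Finset.mem_singleton.mp h
          have e1 : cmp hD ((g : Matrix (Fin m ⊕ Fin m) (Fin m ⊕ Fin m) F) *ᵥ x) l = 0 := by
            have : l ∉ supp hD ((g : Matrix (Fin m ⊕ Fin m) (Fin m ⊕ Fin m) F) *ᵥ x) := by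
              rw [hj, Finset.mem_singleton, h']; exact fun hh => hjs hh.symm
            rwa [mem_supp, not_not] at this
          have e2 : cmp hD ((g : Matrix (Fin m ⊕ Fin m) (Fin m ⊕ Fin m) F) *ᵥ a i) l ≠ 0 := by
            rw [← mem_supp, hσ i, h']; exact Finset.mem_singleton_self _
          rw [e1, zero_add]; exact e2
      have h3 := Finset.card_le_card h2
      rw [Finset.card_pair hjs] at h3
      omega
  have hmap : ∀ i, (D i).map (Matrix.toLin' (g : Matrix (Fin m ⊕ Fin m) (Fin m ⊕ Fin m) F))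
      = D (σ i) := fun i => map_eq_of_le hD g i (σ i) (hfwd i)
  have hinj : Function.Injective σ := by
    intro i i' hii
    by_contra hne
    have h1 : (g : Matrix (Fin m ⊕ Fin m) (Fin m ⊕ Fin m) F) *ᵥ a i' ∈ D (σ i) := by
      rw [hii]; exact hfwd i' _ (ha i')
    rw [← hmap i] at h1
    obtain ⟨y, hy, hy2⟩ := h1
    have hya : y = a i' := toLin_inj g (by rw [hy2, Matrix.toLin'_apply])
    apply ha0 i'
    apply block_nondeg hD i' _ (ha i')
    intro d hd
    rw [← hya]
    exact hD.orthogonal i i' hne y hy d hd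
  have hbij : Function.Bijective σ := ⟨hinj, Finite.injective_iff_surjective.mp hinj⟩
  rw [mem_HD]
  exact ⟨Equiv.ofBijective σ hbij, fun i => by rw [Equiv.ofBijective_apply]; exact hmap i⟩

variable {K : ℕ} {u v : Fin t → Fin K → (Fin m ⊕ Fin m → F)}

theorem perm_fwd (hD : Cfsg.Geo.IsNondegenerateMDecomposition (Cfsg.sympForm m F) k D)
    (dd : DarbouxData D K u v) (σ : Equiv.Perm (Fin t)) :
    ∃ s : Sp, ∀ l, ∀ d ∈ D l,
      (s : Matrix (Fin m ⊕ Fin m) (Fin m ⊕ Fin m) F) *ᵥ d ∈ D (σ l) := by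
  obtain ⟨s, hs⟩ := perm_elt hD dd σ
  refine ⟨s, fun l d hd => ?_⟩
  obtain ⟨a, b, rfl⟩ := dd.span l d hd
  rw [Matrix.mulVec_add, ← Matrix.mulVecLin_apply, ← Matrix.mulVecLin_apply, map_sum, map_sum]
  simp only [map_smul, Matrix.mulVecLin_apply, (hs l _).1, (hs l _).2]
  exact (D (σ l)).add_mem
    (Submodule.sum_mem _ fun r _ => (D (σ l)).smul_mem _ (dd.hu _ _))
    (Submodule.sum_mem _ fun r _ => (D (σ l)).smul_mem _ (dd.hv _ _))

end big

section full

variable {F : Type*} [Field F] {m : ℕ}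

local notation "Sp" => Matrix.symplecticGroup (Fin m) F
local notation "ff" => Cfsg.sympForm m F
local notation "VV" => (Fin m ⊕ Fin m → F)

variable {t k : ℕ} {D : Fin t → Submodule F (Fin m ⊕ Fin m → F)}

theorem ff_family (hD : Cfsg.Geo.IsNondegenerateMDecomposition (Cfsg.sympForm m F) k D)
    (y y' : Fin t → VV) (hy : ∀ l, y l ∈ D l) (hy' : ∀ l, y' l ∈ D l) :
    ff (∑ l, y l) (∑ l, y' l) = ∑ l, ff (y l) (y' l) := by
  rw [ff_eq_sum_cmp hD, cmp_sum_family hD y hy, cmp_sum_family hD y' hy']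

theorem supp_family_eq (hD : Cfsg.Geo.IsNondegenerateMDecomposition (Cfsg.sympForm m F) k D)
    (y : Fin t → VV) (hy : ∀ l, y l ∈ D l) (S : Finset (Fin t)) (h : ∀ l, y l ≠ 0 ↔ l ∈ S) :
    supp hD (∑ l, y l) = S := by
  ext l
  rw [supp_sum_family hD y hy, h]

/-- auxiliary vectors in the blocks -/
structure NData (D : Fin t → Submodule F (Fin m ⊕ Fin m → F))
    (a y n : Fin t → (Fin m ⊕ Fin m → F)) : Prop where
  ha : ∀ l, a l ∈ D l
  hy : ∀ l, y l ∈ D l
  hn : ∀ l, n l ∈ D l
  ay : ∀ l, Cfsg.sympForm m F (a l) (y l) = 1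
  an : ∀ l, Cfsg.sympForm m F (a l) (n l) = 0
  n0 : ∀ l, n l ≠ 0
  an0 : ∀ l, a l + n l ≠ 0

variable {a y n : Fin t → (Fin m ⊕ Fin m → F)}

theorem NData.a0 (nd : NData D a y n) (l : Fin t) : a l ≠ 0 := by
  intro h
  have := nd.ay l
  rw [h, Cfsg.Agent.S0766.sympForm_zero_left] at this
  exact zero_ne_one this

theorem NData.y0 (nd : NData D a y n) (l : Fin t) : y l ≠ 0 := by
  intro h
  have := nd.ay l
  rw [h, sympForm_zero_right'] at this
  exact zero_ne_one this

theorem NData.ay0 (nd : NData D a y n) (l : Fin t) : a l + y l ≠ 0 := by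
  intro h
  have := nd.ay l
  have h2 : ff (a l) (a l + y l) = 1 := by
    rw [sympForm_add_right, sympForm_self, zero_add, this]
  rw [h, sympForm_zero_right'] at h2
  exact zero_ne_one h2

theorem exists_lam [Fintype F] (h : Fintype.card F ≠ 2) : ∃ c : F, c ≠ 0 ∧ 1 + c ≠ 0 := by
  classical
  by_contra hcon
  push Not at hcon
  have hsub : (Finset.univ : Finset F) ⊆ {0, -1} := by
    intro c _
    by_cases hc : c = 0
    · rw [hc]; exact Finset.mem_insert_self _ _
    · have := hcon c hc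
      have hc' : c = -1 := by linear_combination this
      rw [hc']
      exact Finset.mem_insert_of_mem (Finset.mem_singleton_self _)
  have h1 := Finset.card_le_card hsub
  have h2 : ({0, -1} : Finset F).card ≤ 2 := Finset.card_le_two
  have h3 : 1 < Fintype.card F := Fintype.one_lt_card
  rw [Finset.card_univ] at h1
  omega

theorem exists_NData [Fintype F]
    (hD : Cfsg.Geo.IsNondegenerateMDecomposition (Cfsg.sympForm m F) k D)
    (hex : ¬(k = 2 ∧ Fintype.card F = 2)) : ∃ a y n : Fin t → VV, NData D a y n := by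
  obtain ⟨u, v, hk, dd⟩ := exists_darboux hD
  have hpos := hD.decomp.pos
  have hK : 0 < k / 2 := by omega
  by_cases hK2 : 2 ≤ k / 2
  · refine ⟨fun l => u l ⟨0, hK⟩, fun l => v l ⟨0, hK⟩, fun l => u l ⟨1, hK2⟩,
      fun l => dd.hu _ _, fun l => dd.hv _ _, fun l => dd.hu _ _, fun l => ?_, fun l => dd.uu _ _ _,
      fun l => ?_, fun l => ?_⟩
    · rw [dd.uv, if_pos rfl]
    · intro h
      have := dd.uv l ⟨1, hK2⟩ ⟨1, hK2⟩
      rw [if_pos rfl] at this
      rw [h, Cfsg.Agent.S0766.sympForm_zero_left] at this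
      exact zero_ne_one this
    · intro h
      have h1 : ff (u l ⟨0, hK⟩ + u l ⟨1, hK2⟩) (v l ⟨1, hK2⟩) = 1 := by
        rw [sympForm_add_left, dd.uv, dd.uv, if_pos rfl, if_neg, zero_add]
        intro hh
        have := congrArg Fin.val hh
        simp at this
      rw [h, Cfsg.Agent.S0766.sympForm_zero_left] at h1
      exact zero_ne_one h1
  · have hk2 : k = 2 := by omega
    have hq : Fintype.card F ≠ 2 := fun h => hex ⟨hk2, h⟩
    obtain ⟨c, hc0, hc1⟩ := exists_lam hq
    have ha0 : ∀ l, u l ⟨0, hK⟩ ≠ 0 := by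
      intro l h
      have := dd.uv l ⟨0, hK⟩ ⟨0, hK⟩
      rw [if_pos rfl, h, Cfsg.Agent.S0766.sympForm_zero_left] at this
      exact zero_ne_one this
    refine ⟨fun l => u l ⟨0, hK⟩, fun l => v l ⟨0, hK⟩, fun l => c • u l ⟨0, hK⟩,
      fun l => dd.hu _ _, fun l => dd.hv _ _, fun l => (D l).smul_mem _ (dd.hu _ _), fun l => ?_,
      fun l => ?_, fun l => ?_, fun l => ?_⟩
    · rw [dd.uv, if_pos rfl]
    · rw [sympForm_smul_right, sympForm_self, mul_zero]
    · exact smul_ne_zero hc0 (ha0 l)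
    · have : u l ⟨0, hK⟩ + c • u l ⟨0, hK⟩ = (1 + c) • u l ⟨0, hK⟩ := by
        rw [add_smul, one_smul]
      rw [this]
      exact smul_ne_zero hc1 (ha0 l)

open Cfsg.Agent.S5645 in
/-- every vector with support `S` is a transvection centre in `M` -/
def Full (hD : Cfsg.Geo.IsNondegenerateMDecomposition (Cfsg.sympForm m F) k D)
    (M : Subgroup Sp) (S : Finset (Fin t)) : Prop :=
  ∀ v : VV, supp hD v = S → Cfsg.Agent.S5645.XX M v

open Cfsg.Agent.S5645 in
theorem full_of_exists (hD : Cfsg.Geo.IsNondegenerateMDecomposition (Cfsg.sympForm m F) k D)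
    (M : Subgroup Sp) (hM : HD D ≤ M) (S : Finset (Fin t)) (v : VV) (hv : XX M v)
    (hs : supp hD v = S) : Full hD M S :=
  fun v' hv' => transfer_supp hD M hM v v' hv (by rw [hv', hs])

theorem exists_supp (hD : Cfsg.Geo.IsNondegenerateMDecomposition (Cfsg.sympForm m F) k D)
    (S : Finset (Fin t)) : ∃ v : VV, supp hD v = S := by
  classical
  choose a ha ha0 using fun i => exists_ne_zero hD i
  refine ⟨∑ l, (if l ∈ S then a l else 0), ?_⟩
  apply supp_family_eq hD
  · intro l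
    split_ifs
    · exact ha l
    · exact (D l).zero_mem
  · intro l
    by_cases h : l ∈ S
    · rw [if_pos h]; exact ⟨fun _ => h, fun _ => ha0 l⟩
    · rw [if_neg h]; exact ⟨fun hh => absurd rfl hh, fun hh => absurd hh h⟩

open Cfsg.Agent.S5645 in
theorem full_perm (hD : Cfsg.Geo.IsNondegenerateMDecomposition (Cfsg.sympForm m F) k D)
    (M : Subgroup Sp) (hM : HD D ≤ M) (g : Sp) (σ : Equiv.Perm (Fin t))
    (hfwd : ∀ l, ∀ d ∈ D l, (g : Matrix (Fin m ⊕ Fin m) (Fin m ⊕ Fin m) F) *ᵥ d ∈ D (σ l))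
    (S : Finset (Fin t)) (hS : Full hD M S) : Full hD M (S.image σ) := by
  classical
  obtain ⟨v, hv⟩ := exists_supp hD S
  apply full_of_exists hD M hM _ ((g : Matrix (Fin m ⊕ Fin m) (Fin m ⊕ Fin m) F) *ᵥ v)
    (XX_inv M g (hM (mem_HD_of_fwd hD g σ hfwd)) v (hS v hv))
  rw [supp_map hD g σ hfwd, hv]

end full

section shrinkgrow

variable {F : Type*} [Field F] {m : ℕ}

local notation "Sp" => Matrix.symplecticGroup (Fin m) F
local notation "ff" => Cfsg.sympForm m F
local notation "VV" => (Fin m ⊕ Fin m → F)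

variable {t k : ℕ} {D : Fin t → Submodule F (Fin m ⊕ Fin m → F)}
variable {a y n : Fin t → (Fin m ⊕ Fin m → F)}

open Cfsg.Agent.S5645 in
theorem full_shrink (hD : Cfsg.Geo.IsNondegenerateMDecomposition (Cfsg.sympForm m F) k D)
    (nd : NData D a y n) (M : Subgroup Sp) (hM : HD D ≤ M) (S : Finset (Fin t))
    (hS : Full hD M S) (i j : Fin t) (hi : i ∈ S) (hj : j ∈ S) (hij : j ≠ i)
    [DecidableEq (Fin t)] : Full hD M (S.erase i) := by
  set p : Fin t → VV := fun l => if l ∈ S then a l else 0 with hp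
  set p' : Fin t → VV := fun l =>
    if l = i then - a i else if l = j then y j else if l ∈ S then n l else 0 with hp'
  have hpm : ∀ l, p l ∈ D l := by
    intro l
    simp only [hp]
    split_ifs
    · exact nd.ha l
    · exact (D l).zero_mem
  have hpm' : ∀ l, p' l ∈ D l := by
    intro l
    simp only [hp']
    by_cases hli : l = i
    · rw [if_pos hli, ← hli]; exact (D l).neg_mem (nd.ha l)
    · rw [if_neg hli]
      by_cases hlj : l = j
      · rw [if_pos hlj, ← hlj]; exact nd.hy l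
      · rw [if_neg hlj]
        split_ifs
        · exact nd.hn l
        · exact (D l).zero_mem
  have hs1 : supp hD (∑ l, p l) = S := by
    apply supp_family_eq hD p hpm S
    intro l
    simp only [hp]
    by_cases h : l ∈ S
    · rw [if_pos h]; exact ⟨fun _ => h, fun _ => nd.a0 l⟩
    · rw [if_neg h]; exact ⟨fun hh => absurd rfl hh, fun hh => absurd hh h⟩
  have hs2 : supp hD (∑ l, p' l) = S := by
    apply supp_family_eq hD p' hpm' S
    intro l
    simp only [hp']
    by_cases hli : l = i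
    · rw [if_pos hli, hli]; exact ⟨fun _ => hi, fun _ => neg_ne_zero.mpr (nd.a0 i)⟩
    · rw [if_neg hli]
      by_cases hlj : l = j
      · rw [if_pos hlj, hlj]; exact ⟨fun _ => hj, fun _ => nd.y0 j⟩
      · rw [if_neg hlj]
        by_cases h : l ∈ S
        · rw [if_pos h]; exact ⟨fun _ => h, fun _ => nd.n0 l⟩
        · rw [if_neg h]; exact ⟨fun hh => absurd rfl hh, fun hh => absurd hh h⟩
  have hX1 : XX M (∑ l, p l) := hS _ hs1
  have hX2 : XX M (∑ l, p' l) := hS _ hs2
  have hff : ff (∑ l, p l) (∑ l, p' l) = 1 := by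
    rw [ff_family hD p p' hpm hpm', Finset.sum_eq_single j]
    · simp only [hp, hp']
      rw [if_pos hj, if_neg hij, if_true]
      exact nd.ay j
    · intro l _ hl
      simp only [hp, hp']
      by_cases hli : l = i
      · rw [if_pos hli, hli, if_pos hi, sympForm_neg_right, sympForm_self, neg_zero]
      · rw [if_neg hli, if_neg hl]
        by_cases hlS : l ∈ S
        · rw [if_pos hlS, if_pos hlS]; exact nd.an l
        · rw [if_neg hlS, if_neg hlS]; exact Cfsg.Agent.S0766.sympForm_zero_left _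
    · intro h; exact absurd (Finset.mem_univ j) h
  have hX3 : XX M (∑ l, p l + ∑ l, p' l) :=
    XX_add M _ _ hX1 hX2 (by rw [hff]; exact one_ne_zero)
  apply full_of_exists hD M hM _ _ hX3
  rw [← Finset.sum_add_distrib]
  apply supp_family_eq hD (fun l => p l + p' l) (fun l => (D l).add_mem (hpm l) (hpm' l))
  intro l
  rw [Finset.mem_erase]
  simp only [hp, hp']
  by_cases hli : l = i
  · rw [if_pos hli, hli, if_pos hi, add_neg_cancel]
    exact ⟨fun h => absurd rfl h, fun h => absurd rfl h.1⟩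
  · rw [if_neg hli]
    by_cases hlj : l = j
    · rw [if_pos hlj, hlj, if_pos hj]
      exact ⟨fun _ => ⟨hij, hj⟩, fun _ => nd.ay0 j⟩
    · rw [if_neg hlj]
      by_cases hlS : l ∈ S
      · rw [if_pos hlS, if_pos hlS]; exact ⟨fun _ => ⟨hli, hlS⟩, fun _ => nd.an0 l⟩
      · rw [if_neg hlS, if_neg hlS, add_zero]
        exact ⟨fun h => absurd rfl h, fun h => absurd h.2 hlS⟩

open Cfsg.Agent.S5645 in
theorem full_grow (hD : Cfsg.Geo.IsNondegenerateMDecomposition (Cfsg.sympForm m F) k D)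
    (nd : NData D a y n) (M : Subgroup Sp) (hM : HD D ≤ M) (S : Finset (Fin t))
    (j x : Fin t) (hj : j ∈ S) (hx : x ∉ S) (hS : Full hD M S)
    [DecidableEq (Fin t)] (hjx : Full hD M {j, x}) : Full hD M (insert x S) := by
  have hxj : x ≠ j := fun h => hx (h ▸ hj)
  set p : Fin t → VV := fun l => if l ∈ S then a l else 0 with hp
  set p' : Fin t → VV := fun l => if l = j then y j else if l = x then a x else 0 with hp'
  have hpm : ∀ l, p l ∈ D l := by
    intro l
    simp only [hp]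
    split_ifs
    · exact nd.ha l
    · exact (D l).zero_mem
  have hpm' : ∀ l, p' l ∈ D l := by
    intro l
    simp only [hp']
    by_cases hlj : l = j
    · rw [if_pos hlj, ← hlj]; exact nd.hy l
    · rw [if_neg hlj]
      by_cases hlx : l = x
      · rw [if_pos hlx, ← hlx]; exact nd.ha l
      · rw [if_neg hlx]; exact (D l).zero_mem
  have hs1 : supp hD (∑ l, p l) = S := by
    apply supp_family_eq hD p hpm S
    intro l
    simp only [hp]
    by_cases h : l ∈ S
    · rw [if_pos h]; exact ⟨fun _ => h, fun _ => nd.a0 l⟩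
    · rw [if_neg h]; exact ⟨fun hh => absurd rfl hh, fun hh => absurd hh h⟩
  have hs2 : supp hD (∑ l, p' l) = {j, x} := by
    apply supp_family_eq hD p' hpm' {j, x}
    intro l
    simp only [hp']
    rw [Finset.mem_insert, Finset.mem_singleton]
    by_cases hlj : l = j
    · rw [if_pos hlj]; exact ⟨fun _ => Or.inl hlj, fun _ => nd.y0 j⟩
    · rw [if_neg hlj]
      by_cases hlx : l = x
      · rw [if_pos hlx]; exact ⟨fun _ => Or.inr hlx, fun _ => nd.a0 x⟩
      · rw [if_neg hlx]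
        exact ⟨fun hh => absurd rfl hh, fun hh => hh.elim (fun h => absurd h hlj) (fun h => absurd h hlx)⟩
  have hX1 : XX M (∑ l, p l) := hS _ hs1
  have hX2 : XX M (∑ l, p' l) := hjx _ hs2
  have hff : ff (∑ l, p l) (∑ l, p' l) = 1 := by
    rw [ff_family hD p p' hpm hpm', Finset.sum_eq_single j]
    · simp only [hp, hp']
      rw [if_pos hj, if_true]
      exact nd.ay j
    · intro l _ hl
      simp only [hp, hp']
      rw [if_neg hl]
      by_cases hlx : l = x
      · rw [if_pos hlx, hlx, if_neg hx]; exact Cfsg.Agent.S0766.sympForm_zero_left _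
      · rw [if_neg hlx]; exact sympForm_zero_right' _
    · intro h; exact absurd (Finset.mem_univ j) h
  have hX3 : XX M (∑ l, p l + ∑ l, p' l) :=
    XX_add M _ _ hX1 hX2 (by rw [hff]; exact one_ne_zero)
  apply full_of_exists hD M hM _ _ hX3
  rw [← Finset.sum_add_distrib]
  apply supp_family_eq hD (fun l => p l + p' l) (fun l => (D l).add_mem (hpm l) (hpm' l))
  intro l
  rw [Finset.mem_insert]
  simp only [hp, hp']
  by_cases hlj : l = j
  · rw [if_pos hlj, hlj, if_pos hj]
    exact ⟨fun _ => Or.inr hj, fun _ => nd.ay0 j⟩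
  · rw [if_neg hlj]
    by_cases hlx : l = x
    · rw [if_pos hlx, hlx, if_neg hx, zero_add]
      exact ⟨fun _ => Or.inl rfl, fun _ => nd.a0 x⟩
    · rw [if_neg hlx, add_zero]
      by_cases hlS : l ∈ S
      · rw [if_pos hlS]; exact ⟨fun _ => Or.inr hlS, fun _ => nd.a0 l⟩
      · rw [if_neg hlS]
        exact ⟨fun h => absurd rfl h, fun h => h.elim (fun h => absurd h hlx) (fun h => absurd h hlS)⟩

end shrinkgrow

section final

variable {F : Type*} [Field F] {m : ℕ}

local notation "Sp" => Matrix.symplecticGroup (Fin m) F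
local notation "ff" => Cfsg.sympForm m F
local notation "VV" => (Fin m ⊕ Fin m → F)

variable {t k : ℕ} {D : Fin t → Submodule F (Fin m ⊕ Fin m → F)}

theorem exists_perm_pair {α : Type*} [DecidableEq α] (b c b' c' : α) (hbc : b ≠ c) (hbc' : b' ≠ c') :
    ∃ σ : Equiv.Perm α, σ b = b' ∧ σ c = c' := by
  refine ⟨Equiv.swap (Equiv.swap b b' c) c' * Equiv.swap b b', ?_, ?_⟩
  · rw [Equiv.Perm.mul_apply, Equiv.swap_apply_left]
    apply Equiv.swap_apply_of_ne_of_ne
    · intro h
      apply hbc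
      have h2 := congrArg (Equiv.swap b b') h
      rw [Equiv.swap_apply_right, Equiv.swap_apply_self] at h2
      exact h2
    · exact hbc'
  · rw [Equiv.Perm.mul_apply, Equiv.swap_apply_left]

open Cfsg.Agent.S5645 in
theorem thmD [Fintype F] (hD : Cfsg.Geo.IsNondegenerateMDecomposition (Cfsg.sympForm m F) k D)
    (hex : ¬(k = 2 ∧ Fintype.card F = 2)) (M : Subgroup Sp) (hM : HD D ≤ M) :
    M = HD D ∨ M = ⊤ := by
  classical
  by_cases hMH : M = HD D
  · left; exact hMH
  right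
  obtain ⟨a, y, n, nd⟩ := exists_NData hD hex
  obtain ⟨u, v, hk, dd⟩ := exists_darboux hD
  obtain ⟨g, hgM, hgH⟩ : ∃ g ∈ M, g ∉ HD D := by
    by_contra hcon
    push Not at hcon
    exact hMH (le_antisymm hcon hM)
  obtain ⟨i, x, hx, hcard⟩ := exists_big_supp hD g hgH
  have hfull0 : Full hD M (supp hD ((g : Matrix (Fin m ⊕ Fin m) (Fin m ⊕ Fin m) F) *ᵥ x)) :=
    full_of_exists hD M hM _ _ (XX_inv M g hgM x (fun c => hM (TT_mem_HD hD i x hx c))) rfl
  have hshrink : ∀ nn : ℕ, ∀ S : Finset (Fin t), S.card = nn + 2 → Full hD M S →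
      ∃ S₂ : Finset (Fin t), S₂.card = 2 ∧ Full hD M S₂ := by
    intro nn
    induction nn with
    | zero => intro S hc hS; exact ⟨S, hc, hS⟩
    | succ nn ih =>
      intro S hc hS
      obtain ⟨i, hi⟩ : S.Nonempty := Finset.card_pos.mp (by omega)
      obtain ⟨j, hj⟩ : (S.erase i).Nonempty :=
        Finset.card_pos.mp (by rw [Finset.card_erase_of_mem hi]; omega)
      exact ih (S.erase i) (by rw [Finset.card_erase_of_mem hi]; omega)
        (full_shrink hD nd M hM S hS i j hi (Finset.mem_of_mem_erase hj) (Finset.ne_of_mem_erase hj))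
  obtain ⟨S₂, hc2, hS₂⟩ := hshrink
    ((supp hD ((g : Matrix (Fin m ⊕ Fin m) (Fin m ⊕ Fin m) F) *ᵥ x)).card - 2) _ (by omega) hfull0
  obtain ⟨b, c, hbc, rfl⟩ := Finset.card_eq_two.mp hc2
  have h2 : ∀ b' c' : Fin t, b' ≠ c' → Full hD M {b', c'} := by
    intro b' c' hbc'
    obtain ⟨σ, hσb, hσc⟩ := exists_perm_pair b c b' c' hbc hbc'
    obtain ⟨s, hs⟩ := perm_fwd hD dd σ
    have := full_perm hD M hM s σ hs _ hS₂
    rwa [Finset.image_insert, Finset.image_singleton, hσb, hσc] at this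
  have hall : ∀ nn : ℕ, ∀ S : Finset (Fin t), S.card = nn + 1 → Full hD M S := by
    intro nn
    induction nn with
    | zero =>
      intro S hc v hv c
      obtain ⟨i, rfl⟩ := Finset.card_eq_one.mp hc
      exact hM (TT_mem_HD hD i v (mem_of_supp_subset hD i v (by rw [hv])) c)
    | succ nn ih =>
      intro S hc
      obtain ⟨x, hx⟩ : S.Nonempty := Finset.card_pos.mp (by omega)
      obtain ⟨j, hj⟩ : (S.erase x).Nonempty :=
        Finset.card_pos.mp (by rw [Finset.card_erase_of_mem hx]; omega)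
      have h1 := ih (S.erase x) (by rw [Finset.card_erase_of_mem hx]; omega)
      have := full_grow hD nd M hM (S.erase x) j x hj (Finset.notMem_erase x S) h1
        (h2 j x (Finset.ne_of_mem_erase hj))
      rwa [Finset.insert_erase hx] at this
  apply Cfsg.Agent.S0269.eq_top_of_TT
  intro w hw c
  have hne : supp hD w ≠ ∅ := fun h => hw (eq_zero_of_supp_empty hD w h)
  have hpos := Finset.card_pos.mpr (Finset.nonempty_iff_ne_empty.mpr hne)
  exact hall ((supp hD w).card - 1) (supp hD w) (by omega) w rfl c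

theorem HD_ne_top (hD : Cfsg.Geo.IsNondegenerateMDecomposition (Cfsg.sympForm m F) k D) :
    HD D ≠ ⊤ := by
  classical
  intro htop
  have ht := hD.decomp.two_le
  set i0 : Fin t := ⟨0, by omega⟩ with hi0
  set i1 : Fin t := ⟨1, by omega⟩ with hi1
  have h01 : i0 ≠ i1 := by
    intro h
    have := congrArg Fin.val h
    simp [hi0, hi1] at this
  obtain ⟨a0, ha0, ha0ne⟩ := exists_ne_zero hD i0
  obtain ⟨a1, ha1, ha1ne⟩ := exists_ne_zero hD i1
  obtain ⟨y, hy, hya⟩ : ∃ y ∈ D i0, ff y a0 ≠ 0 := (hD.nondegenerate i0 a0 ha0 ha0ne).1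
  obtain ⟨d1, hd1, had1⟩ : ∃ d ∈ D i1, ff a1 d ≠ 0 := (hD.nondegenerate i1 a1 ha1 ha1ne).2
  have hmem : (TT (a0 + a1) 1 : Sp) ∈ HD D := by rw [htop]; trivial
  obtain ⟨σ, hσ⟩ := (mem_HD _).mp hmem
  have himg : ((TT (a0 + a1) 1 : Sp) : Matrix (Fin m ⊕ Fin m) (Fin m ⊕ Fin m) F) *ᵥ y
      ∈ D (σ i0) := by
    rw [← hσ i0]
    exact ⟨y, hy, Matrix.toLin'_apply _ _⟩
  rw [TT_mulVec, one_mul, sympForm_add_right, hD.orthogonal i0 i1 h01 y hy a1 ha1, add_zero]
    at himg
  set z : VV := y + ff y a0 • (a0 + a1) with hz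
  have hzd1 : ff z d1 = ff y a0 * ff a1 d1 := by
    rw [hz, sympForm_add_left, sympForm_smul_left, sympForm_add_left,
      hD.orthogonal i0 i1 h01 y hy d1 hd1, hD.orthogonal i0 i1 h01 a0 ha0 d1 hd1]
    ring
  have hza0 : ff z a0 = ff y a0 := by
    rw [hz, sympForm_add_left, sympForm_smul_left, sympForm_add_left, sympForm_self,
      hD.orthogonal i1 i0 (Ne.symm h01) a1 ha1 a0 ha0]
    ring
  have hj : σ i0 = i1 := by
    by_contra hne
    have := hD.orthogonal (σ i0) i1 hne z himg d1 hd1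
    rw [hzd1] at this
    exact mul_ne_zero hya had1 this
  have hne : σ i0 ≠ i0 := by rw [hj]; exact Ne.symm h01
  have := hD.orthogonal (σ i0) i0 hne z himg a0 ha0
  rw [hza0] at this
  exact hya this

end final

end Cfsg.Agent.helper29
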