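import Mathlib
import Cfsg.Agent.Lib_helper29_SpDecomp

set_option autoImplicit false
set_option linter.unusedSectionVars false
set_option linter.unusedVariables false

namespace Cfsg.Agent.helper29

open Matrix Cfsg.Agent.helper4 Cfsg.Agent.S0245 Cfsg.Agent.S2594 Cfsg.Agent.S0440

section EEsec

variable {F : Type*} [Field F] {m : ℕ}

local notation "Sp" => Matrix.symplecticGroup (Fin m) F
local notation "ff" => Cfsg.sympForm m F
local notation "VV" => (Fin m ⊕ Fin m → F)
local notation "MM" => Matrix (Fin m ⊕ Fin m) (Fin m ⊕ Fin m) F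

/-- short root element -/
def EEsp (a b : Fin m ⊕ Fin m → F) : Sp := TT (a + b) 1 * TT a (-1) * TT b (-1)

theorem EEsp_mulVec (a b : VV) (hab : ff a b = 0) (v : VV) :
    ((EEsp a b : Sp) : MM) *ᵥ v = v + ff v b • a + ff v a • b := by
  unfold EEsp
  rw [Submonoid.coe_mul, Submonoid.coe_mul, ← Matrix.mulVec_mulVec, ← Matrix.mulVec_mulVec,
    TT_mulVec, TT_mulVec, TT_mulVec]
  have hba : ff b a = 0 := by rw [sympForm_swap, hab, neg_zero]
  simp only [sympForm_add_left, sympForm_add_right, sympForm_smul_left, sympForm_self, hab, hba]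
  module

theorem conj_EEsp (g : Sp) (a b : VV) :
    g * EEsp a b * g⁻¹ = EEsp ((g : MM) *ᵥ a) ((g : MM) *ᵥ b) := by
  unfold EEsp
  rw [← Matrix.mulVec_add, ← conj_TT, ← conj_TT, ← conj_TT]
  group

theorem EEsp_zero_left (b : VV) : (EEsp (0 : VV) b : Sp) = 1 := by
  unfold EEsp
  rw [zero_add, Cfsg.Agent.S0269.TT_zero_vec, mul_one, Cfsg.Agent.S0269.TT_mul, add_neg_cancel,
    Cfsg.Agent.S0269.TT_zero]

theorem EEsp_zero_right (a : VV) : (EEsp a (0 : VV) : Sp) = 1 := by
  unfold EEsp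
  rw [add_zero, Cfsg.Agent.S0269.TT_zero_vec, mul_one, Cfsg.Agent.S0269.TT_mul, add_neg_cancel,
    Cfsg.Agent.S0269.TT_zero]

theorem comm_EEsp (x y z : VV) (hxy : ff x y = 0) (hxz : ff x z = 0) :
    (EEsp x y : Sp) * EEsp x z = EEsp x z * EEsp x y * TT x (2 * ff z y) := by
  apply Subtype.ext
  rw [Matrix.ext_iff_mulVec]
  intro v
  have hyx : ff y x = 0 := by rw [sympForm_swap, hxy, neg_zero]
  have hzx : ff z x = 0 := by rw [sympForm_swap, hxz, neg_zero]
  have hyz : ff y z = - ff z y := sympForm_swap y z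
  rw [Submonoid.coe_mul, Submonoid.coe_mul, Submonoid.coe_mul, ← Matrix.mulVec_mulVec,
    ← Matrix.mulVec_mulVec, ← Matrix.mulVec_mulVec, TT_mulVec, EEsp_mulVec x z hxz,
    EEsp_mulVec x y hxy, EEsp_mulVec x y hxy, EEsp_mulVec x z hxz]
  simp only [sympForm_add_left, sympForm_smul_left, sympForm_self, hxy, hxz, hyx, hzx, hyz]
  module

end EEsec

end Cfsg.Agent.helper29
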