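import Mathlib
import Cfsg.Agent.Lib_helper29_SpLagrA
import Cfsg.Agent.Lib_helper29_SpRoot
import Cfsg.Agent.S0246
import Cfsg.Agent.S0245

set_option autoImplicit false
set_option linter.unusedSectionVars false
set_option linter.unusedVariables false
set_option linter.unusedSimpArgs false

namespace Cfsg.Agent.helper14.SpAut

open Matrix Cfsg.Agent.helper4 Cfsg.Agent.helper29 Cfsg.Agent.helper29.SpRoot

variable {F : Type*} [Field F] {m : ℕ}

local notation "Sp" => Matrix.symplecticGroup (Fin m) F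
local notation "ff" => Cfsg.sympForm m F
local notation "VV" => (Fin m ⊕ Fin m → F)
local notation "MM" => Matrix (Fin m ⊕ Fin m) (Fin m ⊕ Fin m) F

theorem act_def (g : Sp) (v : VV) : act g v = (g : MM) *ᵥ v := rfl

theorem ff_swap (u v : VV) : ff u v = - ff v u := sympForm_swap u v

theorem ff_eq_zero_symm {u v : VV} (h : ff u v = 0) : ff v u = 0 := by
  rw [ff_swap, h, neg_zero]

theorem ff_zero_left (v : VV) : ff 0 v = 0 := by
  have := sympForm_smul_left (0 : F) (0 : VV) v
  rw [zero_smul, zero_mul] at this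
  exact this

theorem ff_zero_right (v : VV) : ff v 0 = 0 := by
  rw [ff_swap, ff_zero_left, neg_zero]

theorem act_sub (g : Sp) (v w : VV) : act g (v - w) = act g v - act g w :=
  Matrix.mulVec_sub _ _ _

theorem act_zero (g : Sp) : act g (0 : VV) = 0 := Matrix.mulVec_zero _

theorem act_inj (g : Sp) {v w : VV} (h : act g v = act g w) : v = w := by
  have := congrArg (act g⁻¹) h
  rw [act_inv_act, act_inv_act] at this
  exact this

theorem act_EE (a b : VV) (hab : ff a b = 0) (v : VV) :
    act (EEsp a b) v = v + ff v b • a + ff v a • b :=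
  EEsp_mulVec a b hab v

theorem conj_EE (g : Sp) (a b : VV) : g * EEsp a b * g⁻¹ = EEsp (act g a) (act g b) :=
  conj_EEsp g a b

/-- a vector orthogonal to the whole of `v^⊥` is a multiple of `v` -/
theorem perp_perp (v y : VV) (hv : v ≠ 0) (h : ∀ x, ff x v = 0 → ff x y = 0) :
    ∃ c : F, y = c • v := by
  obtain ⟨y1, hy1⟩ := exists_partner v hv
  have hy1' : ff y1 v = -1 := by rw [ff_swap, hy1]
  refine ⟨- ff y1 y, ?_⟩
  by_contra hne
  have hne' : y - (- ff y1 y) • v ≠ 0 := fun h0 => hne (sub_eq_zero.mp h0)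
  obtain ⟨x, hx⟩ := nondeg _ hne'
  apply hx
  have h1 : ff (x + ff x v • y1) v = 0 := by
    rw [sympForm_add_left, sympForm_smul_left, hy1']
    ring
  have h2 := h _ h1
  rw [sympForm_add_left, sympForm_smul_left] at h2
  rw [sympForm_sub_right, sympForm_smul_right]
  linear_combination h2

theorem exists_sep (v w : VV) (hv : v ≠ 0) (h : ¬ ∃ c : F, w = c • v) :
    ∃ x, ff x v = 0 ∧ ff x w ≠ 0 := by
  by_contra hcon
  push Not at hcon
  exact h (perp_perp v w hv hcon)

/-- central elements act as scalars -/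
theorem center_act (hm : 1 ≤ m) (z : Sp) (hz : z ∈ Subgroup.center Sp) :
    ∃ c : F, c * c = 1 ∧ ∀ x : VV, act z x = c • x := by
  obtain ⟨c, hc, hzc⟩ := Cfsg.Agent.S0246.center_scalar hm z hz
  refine ⟨c, hc, fun x => ?_⟩
  rw [act_def, hzc, Matrix.smul_mulVec, Matrix.one_mulVec]

theorem mk_eq_iff (s s' : Sp) :
    ((QuotientGroup.mk s : Cfsg.PSp m F) = QuotientGroup.mk s') ↔
      ∃ z ∈ Subgroup.center Sp, s' = s * z := by
  rw [QuotientGroup.eq]
  constructor
  · intro h
    exact ⟨s⁻¹ * s', h, by group⟩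
  · rintro ⟨z, hz, rfl⟩
    have : s⁻¹ * (s * z) = z := by group
    rw [this]
    exact hz

/-- two lifts of the same element of `PSp` fixing a common non-zero vector agree -/
theorem eq_of_mk_eq_of_fix (hm : 1 ≤ m) (s s' : Sp) (x : VV) (hx : x ≠ 0)
    (hs : act s x = x) (hs' : act s' x = x)
    (h : (QuotientGroup.mk s : Cfsg.PSp m F) = QuotientGroup.mk s') : s' = s := by
  obtain ⟨z, hz, rfl⟩ := (mk_eq_iff s s').mp h
  obtain ⟨c, hc, hzc⟩ := center_act hm z hz
  rw [act_mul, hzc, act_smul, hs] at hs'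
  have hc1 : c = 1 := by
    by_contra hne
    apply hx
    have h1 : (c - 1) • x = 0 := by rw [sub_smul, one_smul, hs', sub_self]
    rcases smul_eq_zero.mp h1 with h2 | h2
    · exact absurd (sub_eq_zero.mp h2) hne
    · exact h2
  have hz1 : z = 1 := by
    apply ext_act
    intro y
    rw [hzc, hc1, one_smul, act_one]
  rw [hz1, mul_one]

/-- transitivity on non-zero vectors -/
theorem trans_vec (v w : VV) (hv : v ≠ 0) (hw : w ≠ 0) : ∃ g : Sp, act g v = w := by
  obtain ⟨v', hv'⟩ := exists_partner v hv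
  obtain ⟨w', hw'⟩ := exists_partner w hw
  obtain ⟨A, hA, -, -⟩ := Cfsg.Agent.S0245.trans_pairs v v' w w' hv' hw'
  exact ⟨A, hA⟩

theorem tau_eq_TT (x : VV) (c : F) : (tau x c : Sp) = Cfsg.Agent.S0440.TT x c := rfl

end Cfsg.Agent.helper14.SpAut
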