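import Mathlib
import Cfsg.Agent.Lib_helper14_GraphF
import Cfsg.Agent.Lib_helper14_SpAutA

set_option autoImplicit false
set_option linter.unusedSectionVars false
set_option linter.unusedVariables false

namespace Cfsg.Agent.helper14

open Matrix Cfsg.Agent.helper29 Cfsg.Agent.helper29.SpRoot

section

variable {F : Type*} [Field F] {m : ℕ}

local notation "Sp" => Matrix.symplecticGroup (Fin m) F
local notation "ff" => Cfsg.sympForm m F
local notation "VV" => (Fin m ⊕ Fin m → F)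
local notation "MM" => Matrix (Fin m ⊕ Fin m) (Fin m ⊕ Fin m) F

theorem sp_of_isom (A : MM) (h : ∀ u v, ff (A *ᵥ u) (A *ᵥ v) = ff u v) :
    A ∈ Matrix.symplecticGroup (Fin m) F := by
  rw [SymplecticGroup.mem_iff']
  apply bilM_ext
  intro u v
  rw [bilM_congr]
  exact h u v

theorem exists_gl_of_mat {n : ℕ} {κ : Type} [Fintype κ] [DecidableEq κ]
    (E : (Fin n → F) ≃ₗ[F] (κ → F)) (N : Matrix κ κ F) (hN : N.det ≠ 0) :
    ∃ M : GL (Fin n) F, ∀ u v, bilM (M : Matrix (Fin n) (Fin n) F) u v = bilM N (E u) (E v) := by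
  have hJ : (Matrix.toBilin' N).Nondegenerate := by
    rw [LinearMap.BilinForm.nondegenerate_toBilin'_iff_det_ne_zero]
    exact hN
  refine ⟨gb (LinearMap.BilinForm.congr E.symm (Matrix.toBilin' N))
    (LinearMap.BilinForm.Nondegenerate.congr E.symm hJ), fun u v => ?_⟩
  rw [bilM_gb, LinearMap.BilinForm.congr_apply, Matrix.toBilin'_apply']
  rfl

/-- Gram matrix of `f(u, t v)` for the transvection `t` in direction `r` -/
noncomputable def M3 (r : VV) : MM := Matrix.J (Fin m) F * ((tau r 1 : Sp) : MM)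

theorem bilM_M3' (r u v : VV) : bilM (M3 r) u v = ff u (act (tau r 1) v) := by
  unfold M3 bilM
  rw [← Matrix.mulVec_mulVec]
  rfl

theorem bilM_M3 (r u v : VV) : bilM (M3 r) u v = ff u v + ff u r * ff v r := by
  rw [bilM_M3', act_tau, Cfsg.Agent.helper4.sympForm_add_right,
    Cfsg.Agent.helper4.sympForm_smul_right, one_mul]
  ring

theorem ff_symm_char2 [CharP F 2] (u v : VV) : ff u v = ff v u := by
  rw [Cfsg.Agent.helper4.sympForm_swap u v, CharTwo.neg_eq]

theorem M3_transpose [CharP F 2] (r : VV) : (M3 r)ᵀ = M3 r := by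
  apply bilM_ext
  intro u v
  rw [← bilM_flip, bilM_M3, bilM_M3, ff_symm_char2 v u]
  ring

theorem M3_det (r : VV) : (M3 r).det ≠ 0 := by
  unfold M3
  rw [Matrix.det_mul]
  exact mul_ne_zero (Matrix.isUnit_det_J (Fin m) F).ne_zero
    (SymplecticGroup.symplectic_det (tau r 1 : Sp).2).ne_zero

theorem M3_nonalt (r : VV) (hr : r ≠ 0) : ∃ v, bilM (M3 r) v v ≠ 0 := by
  obtain ⟨v, hv⟩ := nondeg r hr
  refine ⟨v, ?_⟩
  rw [bilM_M3, Cfsg.Agent.helper4.sympForm_self, zero_add]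
  exact mul_ne_zero hv hv

theorem tau_isTransvection (r : VV) (hr : r ≠ 0) :
    Cfsg.IsTransvection ((tau r 1 : Sp) : MM) := by
  refine ⟨Cfsg.Agent.S0440.rank_TT r 1 hr one_ne_zero, ?_⟩
  have h1 : ∀ x : VV, (((tau r 1 : Sp) : MM) - 1) *ᵥ x = (1 * ff x r) • r := by
    intro x
    rw [Matrix.sub_mulVec, Matrix.one_mulVec]
    show act (tau r 1) x - x = _
    rw [act_tau]
    abel
  rw [Matrix.ext_iff_mulVec]
  intro u
  rw [← Matrix.mulVec_mulVec, h1, h1, Cfsg.Agent.helper4.sympForm_smul_left,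
    Cfsg.Agent.helper4.sympForm_self, mul_zero, mul_zero, zero_smul, Matrix.zero_mulVec]

theorem sp_scalar_eq_one [Fintype F] [CharP F 2] (hm : 1 ≤ m) (s : Sp)
    (hs : spGLHom m F s ∈ Cfsg.Geo.scalars (Fin m ⊕ Fin m) F) : s = 1 := by
  rw [Cfsg.Geo.mem_scalars_iff] at hs
  obtain ⟨c, hc⟩ := hs
  rw [spGLHom_val] at hc
  obtain ⟨r₀, hr₀⟩ : ∃ r₀ : VV, r₀ = Pi.single (Sum.inl ⟨0, hm⟩) 1 := ⟨_, rfl⟩
  have hr₀ne : r₀ ≠ 0 := by
    intro h
    have h1 := congrFun h (Sum.inl ⟨0, hm⟩)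
    rw [hr₀, Pi.single_eq_same] at h1
    exact one_ne_zero h1
  obtain ⟨v, hv⟩ := exists_partner r₀ hr₀ne
  have h1 := form_act s r₀ v
  have hact : ∀ x : VV, act s x = (c : F) • x := by
    intro x
    show (s : MM) *ᵥ x = _
    rw [hc, Matrix.smul_mulVec, Matrix.one_mulVec]
  rw [hact, hact, Cfsg.Agent.helper4.sympForm_smul_left, Cfsg.Agent.helper4.sympForm_smul_right,
    hv, mul_one] at h1
  have h2 : (c : F) = 1 := eq_of_sq_eq_char2 (by rw [h1, one_mul])
  apply Subtype.ext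
  rw [hc, h2, one_smul]
  rfl

theorem sp_iso_pgsp_char2 [Fintype F] [CharP F 2] (hm : 1 ≤ m) :
    Nonempty (↥Sp ≃* Cfsg.PGSp m F) := by
  apply proj_iso_of_split (spGLHom m F) (Cfsg.GSp m F)
  · intro s
    refine ⟨1, fun u v => ?_⟩
    rw [Units.val_one, one_mul, spGLHom_val]
    exact Cfsg.Agent.S0766.sympForm_mulVec s u v
  · intro g hg
    have hg' : g ∈ Cfsg.Geo.similarityGroup (Cfsg.sympForm m F) := hg
    obtain ⟨c, hc⟩ := hg'
    obtain ⟨d, hd⟩ := exists_sqrt_char2 (c : F)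
    have hd0 : d ≠ 0 := by
      rintro rfl
      rw [mul_zero] at hd
      exact c.ne_zero hd.symm
    have hsp : d⁻¹ • (g : MM) ∈ Matrix.symplecticGroup (Fin m) F := by
      apply sp_of_isom
      intro u v
      rw [Matrix.smul_mulVec, Matrix.smul_mulVec, Cfsg.Agent.helper4.sympForm_smul_left,
        Cfsg.Agent.helper4.sympForm_smul_right, hc, ← hd]
      field_simp
    refine ⟨Units.mk0 d hd0, ⟨_, hsp⟩, ?_⟩
    rw [spGLHom_val]
    show (g : MM) = d • (d⁻¹ • (g : MM))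
    rw [smul_smul, mul_inv_cancel₀ hd0, one_smul]
  · exact sp_scalar_eq_one hm

theorem cent_iso_psim_M3 [Fintype F] [CharP F 2] (hm : 1 ≤ m) (r : VV) (hr : r ≠ 0) :
    Nonempty (↥(Subgroup.centralizer ({tau r 1} : Set Sp)) ≃*
      Cfsg.projQuot (Cfsg.Geo.similarityGroup (bilM (M3 r)))) := by
  apply proj_iso_of_split ((spGLHom m F).comp (Subgroup.subtype _))
    (Cfsg.Geo.similarityGroup (bilM (M3 r)))
  · intro s
    refine ⟨1, fun u v => ?_⟩
    have hcomm : tau r 1 * s.1 = s.1 * tau r 1 :=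
      (Subgroup.mem_centralizer_iff.mp s.2) _ (Set.mem_singleton _)
    rw [Units.val_one, one_mul]
    show bilM (M3 r) (act s.1 u) (act s.1 v) = bilM (M3 r) u v
    rw [bilM_M3', bilM_M3', ← act_mul, hcomm, act_mul, form_act]
  · intro g hg
    obtain ⟨c, hc⟩ := hg
    obtain ⟨d, hd⟩ := exists_sqrt_char2 (c : F)
    have hd0 : d ≠ 0 := by
      rintro rfl
      rw [mul_zero] at hd
      exact c.ne_zero hd.symm
    obtain ⟨A, hA⟩ : ∃ A : MM, A = d⁻¹ • (g : MM) := ⟨_, rfl⟩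
    have hiso : ∀ u v, bilM (M3 r) (A *ᵥ u) (A *ᵥ v) = bilM (M3 r) u v := by
      intro u v
      rw [hA, Matrix.smul_mulVec, Matrix.smul_mulVec, bilM_smul_left, bilM_smul_right, hc, ← hd]
      field_simp
    have h0 : ∀ x, ff (A *ᵥ x) r = ff x r := by
      intro x
      have h1 := hiso x x
      rw [bilM_M3, bilM_M3, Cfsg.Agent.helper4.sympForm_self, Cfsg.Agent.helper4.sympForm_self,
        zero_add, zero_add] at h1
      exact eq_of_sq_eq_char2 h1
    have hff : ∀ u v, ff (A *ᵥ u) (A *ᵥ v) = ff u v := by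
      intro u v
      have h1 := hiso u v
      rw [bilM_M3, bilM_M3, h0, h0] at h1
      exact add_right_cancel h1
    have hsp : A ∈ Matrix.symplecticGroup (Fin m) F := sp_of_isom A hff
    obtain ⟨s, hs⟩ : ∃ s : Sp, s = ⟨A, hsp⟩ := ⟨_, rfl⟩
    have hsact : ∀ x, act s x = A *ᵥ x := by
      intro x
      rw [hs]
      rfl
    have hsr : act s r = r := by
      rw [← sub_eq_zero]
      by_contra hne
      obtain ⟨w, hw⟩ := nondeg _ hne
      apply hw
      rw [← act_act_inv s w, Cfsg.Agent.helper4.sympForm_sub_right, form_act, hsact (act s⁻¹ w),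
        h0, sub_self]
    have hcomm : tau r 1 * s = s * tau r 1 := by
      have h1 := conj_tau s r 1
      rw [hsr] at h1
      exact (mul_inv_eq_iff_eq_mul.mp h1).symm
    have hmem : s ∈ Subgroup.centralizer ({tau r 1} : Set Sp) := by
      rw [Subgroup.mem_centralizer_iff]
      intro h hh
      rw [Set.mem_singleton_iff] at hh
      subst hh
      exact hcomm
    refine ⟨Units.mk0 d hd0, ⟨s, hmem⟩, ?_⟩
    show (g : MM) = d • (s : MM)
    rw [hs]
    show (g : MM) = d • A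
    rw [hA, smul_smul, mul_inv_cancel₀ hd0, one_smul]
  · intro s hs
    apply Subtype.ext
    exact sp_scalar_eq_one hm s.1 hs

end

end Cfsg.Agent.helper14
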