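import Mathlib
import Cfsg.Agent.Lib_helper14_SpAutA

set_option autoImplicit false
set_option linter.unusedSectionVars false
set_option linter.unusedVariables false
set_option linter.unusedSimpArgs false

namespace Cfsg.Agent.helper14.SpAut

open Matrix Cfsg.Agent.helper4 Cfsg.Agent.helper29 Cfsg.Agent.helper29.SpRoot

section general

theorem le_sylow_of_normalized {G : Type*} [Group G] {p : ℕ} [Fact p.Prime] (P : Sylow p G)
    (N : Subgroup G) (hN : IsPGroup p N)
    (hnorm : ∀ h ∈ P, ∀ g ∈ N, h * g * h⁻¹ ∈ N) : N ≤ P := by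
  have hle : (P : Subgroup G) ≤ Subgroup.normalizer (N : Set G) := by
    intro h hh
    rw [Subgroup.mem_normalizer_iff]
    intro g
    constructor
    · intro hg
      exact hnorm h hh g hg
    · intro hg
      have := hnorm h⁻¹ (P.inv_mem hh) _ hg
      have h2 : h⁻¹ * (h * g * h⁻¹) * h⁻¹⁻¹ = g := by group
      rw [h2] at this
      exact this
  have hp : IsPGroup p (N ⊔ (P : Subgroup G) : Subgroup G) :=
    IsPGroup.to_sup_of_normal_left' hN P.isPGroup' hle
  have h1 := P.is_maximal' hp le_sup_right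
  rw [← h1]
  exact le_sup_left

end general

variable {F : Type*} [Field F] {m : ℕ}

local notation "Sp" => Matrix.symplecticGroup (Fin m) F
local notation "ff" => Cfsg.sympForm m F
local notation "VV" => (Fin m ⊕ Fin m → F)
local notation "MM" => Matrix (Fin m ⊕ Fin m) (Fin m ⊕ Fin m) F

/-- stabiliser of a vector -/
def stab (v : VV) : Subgroup Sp where
  carrier := {g | act g v = v}
  mul_mem' {a b} ha hb := by
    show act (a * b) v = v
    rw [act_mul, hb, ha]
  one_mem' := act_one v
  inv_mem' {a} ha := by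
    show act a⁻¹ v = v
    have := act_inv_act a v
    rw [ha] at this
    exact this

theorem mem_stab (v : VV) (g : Sp) : g ∈ stab v ↔ act g v = v := Iff.rfl

/-- the unipotent radical of the stabiliser of a vector -/
def Qv (v : VV) : Subgroup Sp where
  carrier := {g | act g v = v ∧ ∀ w, ff w v = 0 → ∃ l : F, act g w = w + l • v}
  mul_mem' {a b} ha hb := by
    refine ⟨?_, ?_⟩
    · show act (a * b) v = v
      rw [act_mul, hb.1, ha.1]
    · intro w hw
      obtain ⟨l, hl⟩ := hb.2 w hw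
      obtain ⟨l', hl'⟩ := ha.2 w hw
      refine ⟨l' + l, ?_⟩
      rw [act_mul, hl, act_add, act_smul, ha.1, hl', add_smul, add_assoc]
  one_mem' := ⟨act_one v, fun w _ => ⟨0, by rw [act_one, zero_smul, add_zero]⟩⟩
  inv_mem' {a} ha := by
    have h1 : act a⁻¹ v = v := by
      have := act_inv_act a v
      rw [ha.1] at this
      exact this
    refine ⟨h1, ?_⟩
    intro w hw
    obtain ⟨l, hl⟩ := ha.2 w hw
    refine ⟨-l, ?_⟩
    apply act_inj a
    rw [act_act_inv, act_add, act_smul, ha.1, hl, neg_smul]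
    abel

theorem mem_Qv (v : VV) (g : Sp) :
    g ∈ Qv v ↔ act g v = v ∧ ∀ w, ff w v = 0 → ∃ l : F, act g w = w + l • v := Iff.rfl

theorem Qv_le_stab (v : VV) : Qv v ≤ stab v := fun g hg => hg.1

theorem Qv_normal (v : VV) (h : Sp) (hh : h ∈ stab v) (g : Sp) (hg : g ∈ Qv v) :
    h * g * h⁻¹ ∈ Qv v := by
  have hh' : act h v = v := hh
  have hinv : act h⁻¹ v = v := (stab v).inv_mem hh
  refine ⟨?_, ?_⟩
  · rw [act_mul, act_mul, hinv, hg.1, hh']
  · intro w hw
    have hw' : ff (act h⁻¹ w) v = 0 := by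
      rw [form_act_inv, hh', hw]
    obtain ⟨l, hl⟩ := hg.2 _ hw'
    refine ⟨l, ?_⟩
    rw [act_mul, act_mul, hl, act_add, act_act_inv, act_smul, hh']

theorem tau_mem_Qv (v : VV) (c : F) : tau v c ∈ Qv v := by
  refine ⟨?_, ?_⟩
  · rw [act_tau, sympForm_self, mul_zero, zero_smul, add_zero]
  · intro w hw
    refine ⟨0, ?_⟩
    rw [act_tau, hw, mul_zero]

theorem EE_mem_Qv (v w : VV) (hvw : ff v w = 0) : EEsp v w ∈ Qv v := by
  refine ⟨?_, ?_⟩
  · rw [act_EE v w hvw, hvw, sympForm_self, zero_smul, zero_smul, add_zero, add_zero]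
  · intro x hx
    refine ⟨ff x w, ?_⟩
    rw [act_EE v w hvw, hx, zero_smul, add_zero]

/-- the nilpotent part -/
def NN (g : Sp) (x : VV) : VV := act g x - x

theorem NN_add (g : Sp) (x y : VV) : NN g (x + y) = NN g x + NN g y := by
  unfold NN
  rw [act_add]
  abel

theorem NN_smul (g : Sp) (c : F) (x : VV) : NN g (c • x) = c • NN g x := by
  unfold NN
  rw [act_smul, smul_sub]

theorem act_eq_add_NN (g : Sp) (x : VV) : act g x = x + NN g x := by
  unfold NN
  abel

theorem act_pow_nilp (g : Sp) (h3 : ∀ x, NN g (NN g (NN g x)) = 0) :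
    ∀ (k : ℕ) (x : VV), act (g ^ k) x =
      x + (k : F) • NN g x + ((k.choose 2 : ℕ) : F) • NN g (NN g x) := by
  intro k
  induction k with
  | zero =>
    intro x
    simp [act_one]
  | succ k ih =>
    intro x
    rw [pow_succ, act_mul, act_eq_add_NN g x, ih, NN_add, NN_add, h3, add_zero,
      Nat.choose_succ_succ' k 1, Nat.choose_one_right]
    push_cast
    module

theorem Qv_nilp (v : VV) (g : Sp) (hg : g ∈ Qv v) (x : VV) : NN g (NN g (NN g x)) = 0 := by
  have h1 : ff (NN g x) v = 0 := by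
    unfold NN
    rw [sympForm_sub_left]
    nth_rewrite 1 [← hg.1]
    rw [form_act, sub_self]
  obtain ⟨l, hl⟩ := hg.2 _ h1
  have h2 : NN g (NN g x) = l • v := by
    nth_rewrite 1 [NN]
    rw [hl]
    abel
  rw [h2, NN_smul]
  unfold NN
  rw [hg.1, sub_self, smul_zero]

theorem Qv_isPGroup {p : ℕ} [hp : Fact p.Prime] [CharP F p] (v : VV) : IsPGroup p (Qv v) := by
  intro g
  refine ⟨2, ?_⟩
  apply Subtype.ext
  rw [Subgroup.coe_pow, Subgroup.coe_one]
  apply ext_act
  intro x
  rw [act_pow_nilp g.1 (Qv_nilp v g.1 g.2), act_one]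
  have h1 : ((p ^ 2 : ℕ) : F) = 0 := by
    rw [CharP.cast_eq_zero_iff F p]
    exact dvd_pow_self p two_ne_zero
  have h2 : (((p ^ 2).choose 2 : ℕ) : F) = 0 := by
    rw [CharP.cast_eq_zero_iff F p]
    apply Nat.Prime.dvd_choose_pow hp.out two_ne_zero
    intro h
    have := hp.out.two_le
    nlinarith
  rw [h1, h2, zero_smul, zero_smul, add_zero, add_zero]

end Cfsg.Agent.helper14.SpAut
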