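import Mathlib
import Cfsg.Agent.Lib_helper14_SpAutB

set_option autoImplicit false
set_option linter.unusedSectionVars false
set_option linter.unusedVariables false
set_option linter.unusedSimpArgs false

namespace Cfsg.Agent.helper14.SpAut

open Matrix Cfsg.Agent.helper4 Cfsg.Agent.helper29 Cfsg.Agent.helper29.SpRoot

variable {F : Type*} [Field F] {m : ℕ}

local notation "Sp" => Matrix.symplecticGroup (Fin m) F
local notation "ff" => Cfsg.sympForm m F
local notation "VV" => (Fin m ⊕ Fin m → F)
local notation "MM" => Matrix (Fin m ⊕ Fin m) (Fin m ⊕ Fin m) F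

/-- the action of the symplectic group on vectors -/
def vecAction : MulAction Sp VV where
  smul g v := act g v
  one_smul := act_one
  mul_smul := act_mul

theorem sylow_fix [Fintype F] {p : ℕ} [hp : Fact p.Prime] [CharP F p] (hm : 1 ≤ m)
    (P : Sylow p Sp) : ∃ v : VV, v ≠ 0 ∧ ∀ g ∈ P, act g v = v := by
  classical
  letI : MulAction Sp VV := vecAction
  have hP : IsPGroup p ↥(P : Subgroup Sp) := P.isPGroup'
  have h0 : (0 : VV) ∈ MulAction.fixedPoints ↥(P : Subgroup Sp) VV := by
    intro g
    show act g.1 0 = 0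
    exact act_zero _
  have hcard : p ∣ Nat.card VV := by
    obtain ⟨n, -, hn⟩ := FiniteField.card F p
    rw [Nat.card_eq_fintype_card, Fintype.card_fun, hn, Fintype.card_sum, Fintype.card_fin]
    apply dvd_pow
    · exact dvd_pow_self p n.ne_zero
    · omega
  obtain ⟨b, hb, hne⟩ := hP.exists_fixed_point_of_prime_dvd_card_of_fixed_point VV hcard h0
  refine ⟨b, fun h => hne h.symm, ?_⟩
  intro g hg
  exact hb ⟨g, hg⟩

/-- an element fixing `v` and commuting with the short root elements `E(v, w)` lies in `Q_v` -/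
theorem mem_Qv_of_comm (v : VV) (hv : v ≠ 0) (z : Sp) (hzv : act z v = v)
    (hcomm : ∀ w, ff v w = 0 → z * EEsp v w = EEsp v w * z) : z ∈ Qv v := by
  refine ⟨hzv, ?_⟩
  intro w hw
  have hvw : ff v w = 0 := ff_eq_zero_symm hw
  have hvzw : ff v (act z w) = 0 := by
    nth_rewrite 1 [← hzv]
    rw [form_act, hvw]
  have h1 : EEsp v (act z w) = EEsp v w := by
    have h2 := conj_EE z v w
    rw [hzv, hcomm w hvw] at h2
    rw [← h2]
    group
  obtain ⟨x, hx⟩ := exists_partner v hv
  have hxv : ff x v = -1 := by rw [ff_swap, hx]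
  have h3 : act (EEsp v (act z w)) x = act (EEsp v w) x := by rw [h1]
  rw [act_EE v _ hvzw, act_EE v _ hvw, hxv] at h3
  refine ⟨ff x (act z w) - ff x w, ?_⟩
  have h4 : act z w - w = (ff x (act z w) - ff x w) • v := by
    have h5 : (x + ff x (act z w) • v + (-1 : F) • act z w) - (x + ff x w • v + (-1 : F) • w) = 0 :=
      sub_eq_zero.mpr h3
    rw [sub_smul]
    have h6 : (x + ff x (act z w) • v + (-1 : F) • act z w) - (x + ff x w • v + (-1 : F) • w) =
        (ff x (act z w) • v - ff x w • v) - (act z w - w) := by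
      module
    rw [h6] at h5
    exact (sub_eq_zero.mp h5).symm
  rw [← h4]
  abel

/-- in odd characteristic such an element fixes `v^⊥` pointwise -/
theorem fix_perp_of_comm (h2 : (2 : F) ≠ 0) (v : VV) (hv : v ≠ 0) (z : Sp) (hzv : act z v = v)
    (hcomm : ∀ w, ff v w = 0 → z * EEsp v w = EEsp v w * z) (w : VV) (hw : ff w v = 0) :
    act z w = w := by
  obtain ⟨l, hl⟩ := (mem_Qv_of_comm v hv z hzv hcomm).2 w hw
  have hvw : ff v w = 0 := ff_eq_zero_symm hw
  have hvzw : ff v (act z w) = 0 := by
    nth_rewrite 1 [← hzv]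
    rw [form_act, hvw]
  have h1 : EEsp v (act z w) = EEsp v w := by
    have h2 := conj_EE z v w
    rw [hzv, hcomm w hvw] at h2
    rw [← h2]
    group
  obtain ⟨x, hx⟩ := exists_partner v hv
  have hxv : ff x v = -1 := by rw [ff_swap, hx]
  have h3 : act (EEsp v (act z w)) x = act (EEsp v w) x := by rw [h1]
  rw [act_EE v _ hvzw, act_EE v _ hvw, hxv, hl, sympForm_add_right, sympForm_smul_right, hxv] at h3
  have h4 : (2 * l) • v = 0 := by
    have h5 : (x + (ff x w + l * -1) • v + (-1 : F) • (w + l • v)) -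
        (x + ff x w • v + (-1 : F) • w) = 0 := sub_eq_zero.mpr h3
    have h6 : (x + (ff x w + l * -1) • v + (-1 : F) • (w + l • v)) -
        (x + ff x w • v + (-1 : F) • w) = -((2 * l) • v) := by
      module
    rw [h6] at h5
    exact neg_eq_zero.mp h5
  rcases smul_eq_zero.mp h4 with h5 | h5
  · rcases mul_eq_zero.mp h5 with h6 | h6
    · exact absurd h6 h2
    · rw [hl, h6, zero_smul, add_zero]
  · exact absurd h5 hv

/-- an element fixing the hyperplane `v^⊥` pointwise is a transvection -/
theorem eq_tau_of_fix_perp (v : VV) (hv : v ≠ 0) (z : Sp)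
    (h : ∀ w, ff w v = 0 → act z w = w) : ∃ c : F, z = tau v c := by
  obtain ⟨x0, hx0⟩ := exists_partner v hv
  have hx0v : ff x0 v = -1 := by rw [ff_swap, hx0]
  have hperp : ∀ w, ff w v = 0 → ff w (act z x0 - x0) = 0 := by
    intro w hw
    rw [sympForm_sub_right]
    nth_rewrite 1 [← h w hw]
    rw [form_act, sub_self]
  obtain ⟨c', hc'⟩ := perp_perp v _ hv hperp
  refine ⟨-c', ?_⟩
  apply ext_act
  intro x
  rw [act_tau]
  have hu : ff (x + ff x v • x0) v = 0 := by
    rw [sympForm_add_left, sympForm_smul_left, hx0v]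
    ring
  have h1 := h _ hu
  rw [act_add, act_smul] at h1
  have h2 : act z x0 = x0 + c' • v := by
    rw [← hc']
    abel
  rw [h2] at h1
  have h3 : act z x = x + ff x v • x0 - ff x v • (x0 + c' • v) := by
    rw [← h1]
    abel
  rw [h3]
  module

end Cfsg.Agent.helper14.SpAut
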