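import Mathlib
import Cfsg.Agent.Lib_helper14_SpAutC

set_option autoImplicit false
set_option linter.unusedSectionVars false
set_option linter.unusedVariables false
set_option linter.unusedSimpArgs false

namespace Cfsg.Agent.helper14.SpAut

open Matrix Cfsg.Agent.helper4 Cfsg.Agent.helper29 Cfsg.Agent.helper29.SpRoot
open scoped Pointwise

variable {F : Type*} [Field F] {m : ℕ}

local notation "Sp" => Matrix.symplecticGroup (Fin m) F
local notation "ff" => Cfsg.sympForm m F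
local notation "VV" => (Fin m ⊕ Fin m → F)
local notation "MM" => Matrix (Fin m ⊕ Fin m) (Fin m ⊕ Fin m) F

/-- the class of a symplectic matrix in `PSp` -/
def pm (s : Sp) : Cfsg.PSp m F := QuotientGroup.mk s

theorem pm_mul (s t : Sp) : pm (s * t) = pm s * pm t := rfl

theorem pm_inv (s : Sp) : pm s⁻¹ = (pm s)⁻¹ := rfl

theorem pm_one : pm (1 : Sp) = 1 := rfl

theorem pm_surj : Function.Surjective (pm : Sp → Cfsg.PSp m F) := QuotientGroup.mk_surjective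

theorem pm_tau_ne_one (hm : 1 ≤ m) (v : VV) (hv : v ≠ 0) (c : F) (hc : c ≠ 0) :
    pm (tau v c) ≠ 1 := by
  intro h
  have h1 : tau v c = 1 := by
    apply eq_of_mk_eq_of_fix hm 1 (tau v c) v hv (act_one v)
    · rw [act_tau, sympForm_self, mul_zero, zero_smul, add_zero]
    · exact h.symm
  exact hc ((tau_eq_one_iff v hv c).mp h1)

/-- the Sylow-centre argument: the image of a transvection under an automorphism of `PSp` is
conjugate to an element `u` commuting with all `E(v₀, w)` -/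
theorem sylow_centre_lift [Fintype F] {p : ℕ} [hp : Fact p.Prime] [CharP F p] (hm : 1 ≤ m)
    (β : MulAut (Cfsg.PSp m F)) (v : VV) (hv : v ≠ 0) (c : F) :
    ∃ (v₀ : VV) (u h' : Sp) (δ : MulAut (Cfsg.PSp m F)), v₀ ≠ 0 ∧ act u v₀ = v₀ ∧
      (∀ w, ff v₀ w = 0 → u * EEsp v₀ w = EEsp v₀ w * u) ∧
      β (pm (tau v c)) = pm (h' * u * h'⁻¹) ∧ δ (pm (tau v₀ c)) = pm u := by
  classical
  obtain ⟨π, hπ⟩ : ∃ π : Sp →* Cfsg.PSp m F, π = QuotientGroup.mk' _ := ⟨_, rfl⟩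
  have hπs : Function.Surjective π := by rw [hπ]; exact QuotientGroup.mk'_surjective _
  have hπmk : ∀ s, π s = pm s := by intro s; rw [hπ]; rfl
  obtain ⟨P₁⟩ : Nonempty (Sylow p Sp) := inferInstance
  obtain ⟨v₀, hv₀, hfix⟩ := sylow_fix hm P₁
  have hPstab : ∀ y ∈ P₁, y ∈ stab v₀ := fun y hy => hfix y hy
  have hQP : Qv v₀ ≤ P₁ := by
    apply le_sylow_of_normalized P₁ (Qv v₀) (Qv_isPGroup v₀)
    intro h hh g hg
    exact Qv_normal v₀ h (hPstab h hh) g hg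
  obtain ⟨g, hg⟩ := trans_vec v₀ v hv₀ hv
  obtain ⟨x, hx⟩ : ∃ x : Sp, x = tau v₀ c := ⟨_, rfl⟩
  have hxP : x ∈ P₁ := hQP (by rw [hx]; exact tau_mem_Qv v₀ c)
  have hxc : ∀ y ∈ P₁, y * x = x * y := by
    intro y hy
    have h1 := conj_tau y v₀ c
    rw [hfix y hy, ← hx] at h1
    nth_rewrite 2 [← h1]
    group
  have hconj : tau v c = g * x * g⁻¹ := by
    rw [hx, conj_tau, hg]
  obtain ⟨P₀, hP₀⟩ : ∃ P₀ : Sylow p (Cfsg.PSp m F),
      (P₀ : Subgroup (Cfsg.PSp m F)) = (P₁ : Subgroup Sp).map π :=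
    ⟨P₁.mapSurjective hπs, by rw [Sylow.coe_mapSurjective]⟩
  have hmemP : ∀ y, y ∈ P₀ ↔ ∃ u ∈ P₁, π u = y := by
    intro y
    show y ∈ (P₀ : Subgroup (Cfsg.PSp m F)) ↔ _
    rw [hP₀, Subgroup.mem_map]
    rfl
  obtain ⟨β', hβ'⟩ : ∃ β' : MulAut (Cfsg.PSp m F), β' = β * MulAut.conj (π g) := ⟨_, rfl⟩
  have htc : pm (tau v c) = π g * π x * (π g)⁻¹ := by
    rw [hconj, ← hπmk, map_mul, map_mul, map_inv]
  have hβx : β' (π x) = β (pm (tau v c)) := by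
    rw [hβ', MulAut.mul_apply, MulAut.conj_apply, htc]
  obtain ⟨hb, hhb⟩ := MulAction.exists_smul_eq (Cfsg.PSp m F) P₀ (β' • P₀)
  obtain ⟨δ, hδ⟩ : ∃ δ : MulAut (Cfsg.PSp m F), δ = (MulAut.conj hb)⁻¹ * β' := ⟨_, rfl⟩
  have hδP : δ • P₀ = P₀ := by
    rw [hδ, mul_smul, ← hhb, Sylow.smul_def, inv_smul_smul]
  have hδmem : ∀ y, y ∈ P₀ → δ y ∈ P₀ := by
    intro y hy
    have h1 : δ • y ∈ δ • (P₀ : Subgroup (Cfsg.PSp m F)) :=
      Subgroup.smul_mem_pointwise_smul_iff.mpr hy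
    rw [← Sylow.pointwise_smul_def, hδP] at h1
    exact h1
  have hδinvP : δ⁻¹ • P₀ = P₀ := by
    rw [inv_smul_eq_iff, hδP]
  have hδinvmem : ∀ y, y ∈ P₀ → δ⁻¹ y ∈ P₀ := by
    intro y hy
    have h1 : δ⁻¹ • y ∈ δ⁻¹ • (P₀ : Subgroup (Cfsg.PSp m F)) :=
      Subgroup.smul_mem_pointwise_smul_iff.mpr hy
    rw [← Sylow.pointwise_smul_def, hδinvP] at h1
    exact h1
  have hπxP : π x ∈ P₀ := (hmemP _).mpr ⟨x, hxP, rfl⟩
  obtain ⟨u, huP, huy⟩ := (hmemP _).mp (hδmem _ hπxP)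
  have hucent : ∀ y ∈ P₁, y * u = u * y := by
    intro y hy
    have hy' : π y ∈ P₀ := (hmemP _).mpr ⟨y, hy, rfl⟩
    obtain ⟨y', hy'P, hy'y⟩ := (hmemP _).mp (hδinvmem _ hy')
    have h1 : π (y * u) = π (u * y) := by
      rw [map_mul, map_mul, huy]
      have h2 : π y = δ (π y') := by
        rw [hy'y]
        show π y = δ (δ⁻¹ (π y))
        rw [← MulAut.mul_apply, mul_inv_cancel, MulAut.one_apply]
      rw [h2, ← map_mul, ← map_mul, ← map_mul, ← map_mul, hxc y' hy'P]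
    rw [hπmk, hπmk] at h1
    have hf1 : act (y * u) v₀ = v₀ := by rw [act_mul, hfix u huP, hfix y hy]
    have hf2 : act (u * y) v₀ = v₀ := by rw [act_mul, hfix y hy, hfix u huP]
    exact (eq_of_mk_eq_of_fix hm (y * u) (u * y) v₀ hv₀ hf1 hf2 h1).symm
  have hfinal : β (pm (tau v c)) = hb * π u * hb⁻¹ := by
    rw [huy, ← hβx, hδ, MulAut.mul_apply, MulAut.inv_apply, MulAut.conj_symm_apply]
    group
  obtain ⟨h', hh'⟩ := hπs hb
  refine ⟨v₀, u, h', δ, hv₀, hfix u huP, ?_, ?_, ?_⟩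
  · intro w hw
    have hE : EEsp v₀ w ∈ P₁ := hQP (EE_mem_Qv v₀ w hw)
    exact (hucent _ hE).symm
  · rw [hfinal, ← hh', ← map_inv, ← map_mul, ← map_mul, hπmk]
  · rw [← hx, ← hπmk, ← hπmk, huy]

/-- odd characteristic: automorphisms of `PSp` preserve the images of transvections -/
theorem aut_tau_odd [Fintype F] {p : ℕ} [hp : Fact p.Prime] [CharP F p] (hm : 1 ≤ m)
    (h2 : (2 : F) ≠ 0) (β : MulAut (Cfsg.PSp m F)) (v : VV) (hv : v ≠ 0) (c : F) (hc : c ≠ 0) :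
    ∃ (w : VV) (d : F), w ≠ 0 ∧ d ≠ 0 ∧ β (pm (tau v c)) = pm (tau w d) := by
  obtain ⟨v₀, u, h', δ, hv₀, huv, hcomm, hβ, hδ⟩ := sylow_centre_lift (p := p) hm β v hv c
  obtain ⟨c', hc'⟩ := eq_tau_of_fix_perp v₀ hv₀ u
    (fun w hw => fix_perp_of_comm h2 v₀ hv₀ u huv hcomm w hw)
  refine ⟨act h' v₀, c', act_ne_zero h' v₀ hv₀, ?_, ?_⟩
  · rintro rfl
    rw [tau_zero] at hc'
    rw [hc', mul_one, mul_inv_cancel] at hβ
    have h3 : pm (tau v c) = 1 := by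
      have h4 : β (pm (tau v c)) = β 1 := by rw [hβ, map_one]; rfl
      exact β.injective h4
    exact pm_tau_ne_one hm v hv c hc h3
  · rw [hβ, hc', conj_tau]

end Cfsg.Agent.helper14.SpAut
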