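import Mathlib
import Cfsg.Agent.Lib_helper29_SpLagrA

set_option autoImplicit false
set_option linter.unusedSectionVars false
set_option linter.unusedVariables false
namespace Cfsg.Agent.helper29.SpInv
open Matrix Cfsg.Agent.helper4 Cfsg.Agent.S0245 Cfsg.Agent.S2594 Cfsg.Agent.S0440 Cfsg.Agent.helper29

variable {F : Type*} [Field F] {m : ℕ}

local notation "Sp" => Matrix.symplecticGroup (Fin m) F
local notation "ff" => Cfsg.sympForm m F
local notation "VV" => (Fin m ⊕ Fin m → F)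
local notation "MM" => Matrix (Fin m ⊕ Fin m) (Fin m ⊕ Fin m) F

/-- `a - 1` -/
def NNs (a : Sp) : MM := (a : MM) - 1

theorem NNs_mulVec (a : Sp) (x : VV) : NNs a *ᵥ x = (a : MM) *ᵥ x - x := by
  unfold NNs
  rw [Matrix.sub_mulVec, Matrix.one_mulVec]

theorem a_mulVec (a : Sp) (x : VV) : (a : MM) *ᵥ x = x + NNs a *ᵥ x := by
  rw [NNs_mulVec]; abel

theorem mul_mulVec (a b : Sp) (x : VV) : ((a * b : Sp) : MM) *ᵥ x = (a : MM) *ᵥ ((b : MM) *ᵥ x) :=
  Cfsg.Agent.S0765.coe_mul_mulVec b a x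

theorem one_mulVec' (x : VV) : ((1 : Sp) : MM) *ᵥ x = x := by
  rw [Submonoid.coe_one, Matrix.one_mulVec]

theorem invol_mulVec (a : Sp) (ha2 : a * a = 1) (x : VV) :
    (a : MM) *ᵥ ((a : MM) *ᵥ x) = x := by
  rw [← mul_mulVec, ha2, one_mulVec']

theorem inv_mulVec_mulVec (g : Sp) (x : VV) :
    ((g⁻¹ : Sp) : MM) *ᵥ ((g : MM) *ᵥ x) = x := by
  rw [← mul_mulVec, inv_mul_cancel, one_mulVec']

theorem mulVec_inv_mulVec (g : Sp) (x : VV) :
    (g : MM) *ᵥ (((g⁻¹ : Sp) : MM) *ᵥ x) = x := by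
  rw [← mul_mulVec, mul_inv_cancel, one_mulVec']

theorem sp_ext (a b : Sp) (h : ∀ x, (a : MM) *ᵥ x = (b : MM) *ᵥ x) : a = b := by
  apply Subtype.ext
  rw [Matrix.ext_iff_mulVec]
  exact h

theorem ff_inv (g : Sp) (x y : VV) : ff (((g⁻¹ : Sp) : MM) *ᵥ x) y = ff x ((g : MM) *ᵥ y) := by
  have := Cfsg.Agent.S0766.sympForm_mulVec g (((g⁻¹ : Sp) : MM) *ᵥ x) y
  rw [mulVec_inv_mulVec] at this
  exact this.symm

theorem ff_comm [CharP F 2] (x y : VV) : ff x y = ff y x := by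
  rw [sympForm_swap, CharTwo.neg_eq]

theorem NNs_selfadj (a : Sp) (ha2 : a * a = 1) (x y : VV) :
    ff (NNs a *ᵥ x) y = ff x (NNs a *ᵥ y) := by
  have h1 : ff ((a : MM) *ᵥ x) y = ff x ((a : MM) *ᵥ y) := by
    have := Cfsg.Agent.S0766.sympForm_mulVec a x ((a : MM) *ᵥ y)
    rw [invol_mulVec a ha2] at this
    exact this
  rw [NNs_mulVec, NNs_mulVec, sympForm_sub_left, sympForm_sub_right, h1]

theorem vec_add_self [CharP F 2] (w : VV) : w + w = 0 := by
  funext i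
  exact CharTwo.add_self_eq_zero (w i)

theorem NNs_sq [CharP F 2] (a : Sp) (ha2 : a * a = 1) (x : VV) :
    NNs a *ᵥ (NNs a *ᵥ x) = 0 := by
  have h2 : (2 : F) = 0 := CharTwo.two_eq_zero
  rw [NNs_mulVec, NNs_mulVec, Matrix.mulVec_sub, invol_mulVec a ha2]
  funext i
  simp only [Pi.sub_apply, Pi.zero_apply]
  linear_combination (x i - ((a : MM) *ᵥ x) i) * h2

theorem range_iso [CharP F 2] (a : Sp) (ha2 : a * a = 1) (x y : VV) :
    ff (NNs a *ᵥ x) (NNs a *ᵥ y) = 0 := by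
  rw [NNs_selfadj a ha2, NNs_sq a ha2, sympForm_zero_right']

theorem fix_range [CharP F 2] (a : Sp) (ha2 : a * a = 1) (x : VV) :
    (a : MM) *ᵥ (NNs a *ᵥ x) = NNs a *ᵥ x := by
  rw [a_mulVec, NNs_sq a ha2, add_zero]

theorem eq_of_NNs_eq (a b : Sp) (h : ∀ x, NNs a *ᵥ x = NNs b *ᵥ x) : a = b := by
  apply sp_ext
  intro x
  rw [a_mulVec a, a_mulVec b, h]

theorem NNs_conj (g a : Sp) (x : VV) :
    NNs (g * a * g⁻¹) *ᵥ x = (g : MM) *ᵥ (NNs a *ᵥ (((g⁻¹ : Sp) : MM) *ᵥ x)) := by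
  rw [NNs_mulVec, mul_mulVec, mul_mulVec, a_mulVec a, Matrix.mulVec_add, mulVec_inv_mulVec,
    add_sub_cancel_left]

/-- the symmetric form `β(x,y) = f(Nx, y)` -/
def bet (a : Sp) (x y : VV) : F := ff (NNs a *ᵥ x) y

theorem bet_add_left (a : Sp) (x x' y : VV) : bet a (x + x') y = bet a x y + bet a x' y := by
  unfold bet; rw [Matrix.mulVec_add, sympForm_add_left]

theorem bet_add_right (a : Sp) (x y y' : VV) : bet a x (y + y') = bet a x y + bet a x y' := by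
  unfold bet; rw [sympForm_add_right]

theorem bet_smul_left (a : Sp) (c : F) (x y : VV) : bet a (c • x) y = c * bet a x y := by
  unfold bet; rw [Matrix.mulVec_smul, sympForm_smul_left]

theorem bet_smul_right (a : Sp) (c : F) (x y : VV) : bet a x (c • y) = c * bet a x y := by
  unfold bet; rw [sympForm_smul_right]

theorem bet_comm [CharP F 2] (a : Sp) (ha2 : a * a = 1) (x y : VV) : bet a x y = bet a y x := by
  unfold bet
  rw [NNs_selfadj a ha2, ff_comm]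

theorem ff_N_right (a : Sp) (ha2 : a * a = 1) (x y : VV) : ff x (NNs a *ᵥ y) = bet a x y := by
  unfold bet; rw [NNs_selfadj a ha2]

/-- alternating type -/
def IsAltInv (a : Sp) : Prop := ∀ u : VV, bet a u u = 0

/-- the reduction step: multiply by the transvection with centre `N u` -/
def red (a : Sp) (u : VV) : Sp := a * TT (NNs a *ᵥ u) 1

theorem TT_sq [CharP F 2] (w : VV) : (TT w (1 : F) : Sp) * TT w 1 = 1 := by
  apply Subtype.ext
  rw [Submonoid.coe_mul]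
  show Cfsg.sympTransvection m w 1 * Cfsg.sympTransvection m w 1 = 1
  rw [sympTransvection_mul, CharTwo.add_self_eq_zero, sympTransvection_zero]

theorem red_comm [CharP F 2] (a : Sp) (ha2 : a * a = 1) (u : VV) :
    a * TT (NNs a *ᵥ u) 1 = TT (NNs a *ᵥ u) 1 * a := by
  have := conj_TT a (NNs a *ᵥ u) (1 : F)
  rw [fix_range a ha2] at this
  calc a * TT (NNs a *ᵥ u) 1 = (a * TT (NNs a *ᵥ u) 1 * a⁻¹) * a := by group
    _ = TT (NNs a *ᵥ u) 1 * a := by rw [this]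

theorem red_sq [CharP F 2] (a : Sp) (ha2 : a * a = 1) (u : VV) : red a u * red a u = 1 := by
  unfold red
  calc a * TT (NNs a *ᵥ u) 1 * (a * TT (NNs a *ᵥ u) 1)
      = a * (TT (NNs a *ᵥ u) 1 * a) * TT (NNs a *ᵥ u) 1 := by group
    _ = a * (a * TT (NNs a *ᵥ u) 1) * TT (NNs a *ᵥ u) 1 := by rw [red_comm a ha2]
    _ = (a * a) * (TT (NNs a *ᵥ u) 1 * TT (NNs a *ᵥ u) 1) := by group
    _ = 1 := by rw [ha2, TT_sq, one_mul]

theorem red_N [CharP F 2] (a : Sp) (ha2 : a * a = 1) (u x : VV) :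
    NNs (red a u) *ᵥ x = NNs a *ᵥ x + bet a x u • (NNs a *ᵥ u) := by
  unfold red
  have h1 : ff x (NNs a *ᵥ u) = bet a x u := ff_N_right a ha2 x u
  have h2 := fix_range a ha2 u
  obtain ⟨w, hw⟩ : ∃ w : VV, w = NNs a *ᵥ u := ⟨_, rfl⟩
  rw [← hw] at h1 h2 ⊢
  rw [NNs_mulVec, mul_mulVec, TT_mulVec, one_mul, Matrix.mulVec_add, Matrix.mulVec_smul,
    h2, h1, NNs_mulVec]
  abel

theorem red_bet [CharP F 2] (a : Sp) (ha2 : a * a = 1) (u x y : VV) :
    bet (red a u) x y = bet a x y + bet a x u * bet a u y := by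
  unfold bet
  rw [red_N a ha2, sympForm_add_left, sympForm_smul_left]
  rfl

theorem red_N_self [CharP F 2] (a : Sp) (ha2 : a * a = 1) (u : VV) (hu : bet a u u = 1) :
    NNs (red a u) *ᵥ u = 0 := by
  rw [red_N a ha2, hu, one_smul, vec_add_self]

theorem red_range [CharP F 2] (a : Sp) (ha2 : a * a = 1) (u x : VV) :
    ∃ y, NNs (red a u) *ᵥ x = NNs a *ᵥ y :=
  ⟨x + bet a x u • u, by rw [red_N a ha2, Matrix.mulVec_add, Matrix.mulVec_smul]⟩

theorem red_not [CharP F 2] (a : Sp) (ha2 : a * a = 1) (u : VV) (hu : bet a u u = 1) (x : VV) :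
    NNs (red a u) *ᵥ x ≠ NNs a *ᵥ u := by
  intro hx
  have := NNs_selfadj (red a u) (red_sq a ha2 u) x u
  rw [hx, red_N_self a ha2 u hu, sympForm_zero_right'] at this
  have h1 : ff (NNs a *ᵥ u) u = 1 := hu
  rw [h1] at this
  exact one_ne_zero this

theorem red_rank [CharP F 2] (a : Sp) (ha2 : a * a = 1) (u : VV) (hu : bet a u u = 1) :
    (NNs (red a u)).rank < (NNs a).rank := by
  unfold Matrix.rank
  apply Submodule.finrank_lt_finrank_of_lt
  rw [SetLike.lt_iff_le_and_exists]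
  constructor
  · rintro _ ⟨x, rfl⟩
    obtain ⟨y, hy⟩ := red_range a ha2 u x
    exact ⟨y, by rw [Matrix.mulVecLin_apply, Matrix.mulVecLin_apply, hy]⟩
  · refine ⟨NNs a *ᵥ u, ⟨u, by rw [Matrix.mulVecLin_apply]⟩, ?_⟩
    rintro ⟨x, hx⟩
    rw [Matrix.mulVecLin_apply] at hx
    exact red_not a ha2 u hu x hx

end Cfsg.Agent.helper29.SpInv
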