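import Mathlib
import Cfsg.Agent.Lib_helper29_SpInv1
import Cfsg.Agent.Lib_helper29_SpWitt

set_option autoImplicit false
set_option linter.unusedSectionVars false
set_option linter.unusedVariables false
namespace Cfsg.Agent.helper29.SpInv
open Matrix Cfsg.Agent.helper4 Cfsg.Agent.S0245 Cfsg.Agent.S2594 Cfsg.Agent.S0440 Cfsg.Agent.helper29

variable {F : Type*} [Field F] {m : ℕ}

local notation "Sp" => Matrix.symplecticGroup (Fin m) F
local notation "ff" => Cfsg.sympForm m F
local notation "VV" => (Fin m ⊕ Fin m → F)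
local notation "MM" => Matrix (Fin m ⊕ Fin m) (Fin m ⊕ Fin m) F

/-- the perp of a set as a submodule -/
def perpSp (S : Set VV) : Submodule F VV where
  carrier := {v | ∀ s ∈ S, ff v s = 0}
  add_mem' := by
    intro a b ha hb s hs
    rw [sympForm_add_left, ha s hs, hb s hs, add_zero]
  zero_mem' := by
    intro s _
    exact Cfsg.Agent.S0766.sympForm_zero_left s
  smul_mem' := by
    intro c x hx s hs
    rw [sympForm_smul_left, hx s hs, mul_zero]

theorem frame_span_iso_sp {ι : Type*} (b : ι → VV) (hb : ∀ i j, ff (b i) (b j) = 0) (x y : VV)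
    (hx : x ∈ Submodule.span F (Set.range b)) (hy : y ∈ Submodule.span F (Set.range b)) :
    ff x y = 0 := by
  have h1 : Submodule.span F (Set.range b) ≤ perpSp (Set.range b) := by
    rw [Submodule.span_le]
    rintro _ ⟨i, rfl⟩ _ ⟨j, rfl⟩
    exact hb i j
  have h2 : Submodule.span F (Set.range b) ≤
      perpSp ((Submodule.span F (Set.range b) : Submodule F VV) : Set VV) := by
    rw [Submodule.span_le]
    rintro _ ⟨i, rfl⟩ s hs
    have := h1 hs (b i) ⟨i, rfl⟩
    rw [sympForm_swap, this, neg_zero]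
  exact h2 hx y hy

/-- the symplectic group is transitive on frames of a given shape -/
theorem frame_trans_sp {ι : Type*} (b b' : ι → VV)
    (hb : LinearIndependent F b) (hb0 : ∀ i j, ff (b i) (b j) = 0)
    (hb' : LinearIndependent F b') (hb0' : ∀ i j, ff (b' i) (b' j) = 0) :
    ∃ g : Sp, ∀ i, (g : MM) *ᵥ b i = b' i := by
  let φ : Submodule.span F (Set.range b) ≃ₗ[F] Submodule.span F (Set.range b') :=
    (Module.Basis.span hb).equiv (Module.Basis.span hb') (Equiv.refl ι)
  have hφ : ∀ x x' : Submodule.span F (Set.range b),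
      ff (φ x : VV) (φ x' : VV) = ff (x : VV) (x' : VV) := by
    intro x x'
    rw [frame_span_iso_sp b hb0 _ _ x.2 x'.2, frame_span_iso_sp b' hb0' _ _ (φ x).2 (φ x').2]
  obtain ⟨g, hgφ⟩ := witt_sp _ _ φ hφ
  refine ⟨g, fun i => ?_⟩
  have h1 := hgφ ⟨b i, Submodule.subset_span ⟨i, rfl⟩⟩
  rw [h1]
  have h2 : (⟨b i, Submodule.subset_span ⟨i, rfl⟩⟩ : Submodule.span F (Set.range b)) =
      Module.Basis.span hb i := by
    apply Subtype.ext
    rw [Module.Basis.span_apply]
  rw [h2, Module.Basis.equiv_apply, Equiv.refl_apply, Module.Basis.span_apply]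

theorem exists_sqrt [Fintype F] [CharP F 2] (c : F) : ∃ d : F, d * d = c := by
  obtain ⟨d, hd⟩ := surjective_frobenius F 2 c
  exact ⟨d, by rw [← hd, frobenius_def, pow_two]⟩

theorem exists_unit_bet [Fintype F] [CharP F 2] (a : Sp) (hna : ¬ IsAltInv a) :
    ∃ u : VV, bet a u u = 1 := by
  unfold IsAltInv at hna
  push Not at hna
  obtain ⟨u₀, hu₀⟩ := hna
  obtain ⟨d, hd⟩ := exists_sqrt (bet a u₀ u₀)⁻¹
  refine ⟨d • u₀, ?_⟩
  rw [bet_smul_left, bet_smul_right, ← mul_assoc, hd, inv_mul_cancel₀ hu₀]

/-- a good choice of `u`: the reduced involution is trivial or again of non-alternating type -/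
theorem good_u [Fintype F] [CharP F 2] (a : Sp) (ha2 : a * a = 1) (hna : ¬ IsAltInv a) :
    ∃ u : VV, bet a u u = 1 ∧ (NNs (red a u) = 0 ∨ ¬ IsAltInv (red a u)) := by
  have h2 : (2 : F) = 0 := CharTwo.two_eq_zero
  obtain ⟨u, hu⟩ := exists_unit_bet a hna
  by_cases hgood : NNs (red a u) = 0 ∨ ¬ IsAltInv (red a u)
  · exact ⟨u, hu, hgood⟩
  · push Not at hgood
    obtain ⟨hN1, halt⟩ := hgood
    -- `halt : bet x x = (bet x u)^2` for all x
    have halt' : ∀ x, bet a x x = bet a x u * bet a x u := by
      intro x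
      have := halt x
      rw [red_bet a ha2, bet_comm a ha2 u x] at this
      linear_combination this - (bet a x u * bet a x u) * h2
    -- find p, r with β₁(p, r) ≠ 0
    have hex : ∃ p r : VV, bet (red a u) p r ≠ 0 := by
      by_contra hcon
      push Not at hcon
      apply hN1
      rw [Matrix.ext_iff_mulVec]
      intro p
      rw [Matrix.zero_mulVec]
      by_contra hp
      obtain ⟨r, hr⟩ := exists_partner' _ hp
      have := hcon p r
      unfold bet at this
      rw [this] at hr
      exact zero_ne_one hr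
    obtain ⟨p, r, hpr⟩ := hex
    rw [red_bet a ha2] at hpr
    obtain ⟨p₀, hp₀⟩ : ∃ p₀ : VV, p₀ = p + bet a p u • u := ⟨_, rfl⟩
    have hp₀x : ∀ x, bet a p₀ x = bet a p x + bet a p u * bet a u x := by
      intro x
      rw [hp₀, bet_add_left, bet_smul_left]
    have hp₀u : bet a p₀ u = 0 := by
      rw [hp₀x, hu]
      linear_combination (bet a p u) * h2
    have hp₀p₀ : bet a p₀ p₀ = 0 := by
      rw [halt', hp₀u, mul_zero]
    have hu' : bet a (u + p₀) (u + p₀) = 1 := by
      rw [bet_add_left, bet_add_right, bet_add_right, hu, hp₀p₀, hp₀u, bet_comm a ha2 u p₀, hp₀u]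
      ring
    refine ⟨u + p₀, hu', Or.inr ?_⟩
    intro halt2
    have := halt2 r
    rw [red_bet a ha2, bet_comm a ha2 (u + p₀) r, halt' r, bet_add_right] at this
    have h3 : bet a r p₀ = bet a p r + bet a p u * bet a u r := by
      rw [bet_comm a ha2 r p₀, hp₀x]
    rw [h3] at this
    apply hpr
    have hsq : (bet a p r + bet a p u * bet a u r) * (bet a p r + bet a p u * bet a u r) = 0 := by
      linear_combination this - (bet a r u * bet a r u + bet a r u * (bet a p r + bet a p u * bet a u r)) * h2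
    exact mul_self_eq_zero.mp hsq

/-- normal form of a non-alternating symplectic involution in characteristic two -/
theorem normal_I [Fintype F] [CharP F 2] : ∀ (r : ℕ) (a : Sp), a * a = 1 → ¬ IsAltInv a →
    (NNs a).rank = r →
    ∃ (s : ℕ) (w : Fin s → VV), LinearIndependent F w ∧ (∀ i, ∃ y, w i = NNs a *ᵥ y) ∧
      ∀ x, NNs a *ᵥ x = ∑ i, ff x (w i) • w i := by
  intro r
  induction r using Nat.strong_induction_on with
  | _ r ih =>
    intro a ha2 hna hr
    obtain ⟨u, hu, hgood⟩ := good_u a ha2 hna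
    have hN₁ := red_N a ha2 u
    have hform1 : ∀ x, bet a x u • (NNs a *ᵥ u) = ff x (NNs a *ᵥ u) • (NNs a *ᵥ u) := by
      intro x
      rw [ff_N_right a ha2]
    rcases hgood with h0 | hna1
    · -- rank one
      refine ⟨1, fun _ => NNs a *ᵥ u, ?_, fun _ => ⟨u, rfl⟩, fun x => ?_⟩
      · rw [linearIndependent_unique_iff]
        intro h
        have : bet a u u = 0 := by
          unfold bet
          rw [show NNs a *ᵥ u = 0 from h, Cfsg.Agent.S0766.sympForm_zero_left]
        rw [this] at hu
        exact zero_ne_one hu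
      · have := hN₁ x
        rw [h0, Matrix.zero_mulVec] at this
        rw [Finset.univ_unique, Finset.sum_singleton, ← hform1]
        have h2 := vec_add_self (bet a x u • (NNs a *ᵥ u))
        calc NNs a *ᵥ x = NNs a *ᵥ x + (bet a x u • (NNs a *ᵥ u) + bet a x u • (NNs a *ᵥ u)) := by
              rw [h2, add_zero]
          _ = bet a x u • (NNs a *ᵥ u) := by rw [← add_assoc, ← this, zero_add]
    · have hrank : (NNs (red a u)).rank < r := by rw [← hr]; exact red_rank a ha2 u hu
      obtain ⟨s, w, hwLI, hwr, hwf⟩ := ih _ hrank (red a u) (red_sq a ha2 u) hna1 rfl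
      refine ⟨s + 1, Fin.cons (NNs a *ᵥ u) w, ?_, ?_, ?_⟩
      · rw [linearIndependent_finCons]
        refine ⟨hwLI, ?_⟩
        intro hmem
        have hle : Submodule.span F (Set.range w) ≤
            LinearMap.range (NNs (red a u)).mulVecLin := by
          rw [Submodule.span_le]
          rintro _ ⟨i, rfl⟩
          obtain ⟨y, hy⟩ := hwr i
          exact ⟨y, by rw [Matrix.mulVecLin_apply, hy]⟩
        obtain ⟨x, hx⟩ := hle hmem
        rw [Matrix.mulVecLin_apply] at hx
        exact red_not a ha2 u hu x hx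
      · intro i
        refine Fin.cases ?_ (fun j => ?_) i
        · exact ⟨u, by rw [Fin.cons_zero]⟩
        · obtain ⟨y, hy⟩ := hwr j
          obtain ⟨y', hy'⟩ := red_range a ha2 u y
          exact ⟨y', by rw [Fin.cons_succ, hy, hy']⟩
      · intro x
        rw [Fin.sum_univ_succ]
        simp only [Fin.cons_zero, Fin.cons_succ]
        rw [← hwf x, hN₁ x, ← hform1, add_comm (NNs a *ᵥ x), ← add_assoc, vec_add_self, zero_add]

end Cfsg.Agent.helper29.SpInv
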