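import Mathlib
import Cfsg.Agent.Lib_helper29_SpInv2

set_option autoImplicit false
set_option linter.unusedSectionVars false
set_option linter.unusedVariables false
namespace Cfsg.Agent.helper29.SpInv
open Matrix Cfsg.Agent.helper4 Cfsg.Agent.S0245 Cfsg.Agent.S2594 Cfsg.Agent.S0440 Cfsg.Agent.helper29

variable {F : Type*} [Field F] {m : ℕ}

local notation "Sp" => Matrix.symplecticGroup (Fin m) F
local notation "ff" => Cfsg.sympForm m F
local notation "VV" => (Fin m ⊕ Fin m → F)
local notation "MM" => Matrix (Fin m ⊕ Fin m) (Fin m ⊕ Fin m) F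

theorem EEsp_sq [CharP F 2] (y z : VV) (hyz : ff y z = 0) : EEsp y z * EEsp y z = 1 := by
  have hzy : ff z y = 0 := by rw [sympForm_swap, hyz, neg_zero]
  apply sp_ext
  intro v
  rw [mul_mulVec, one_mulVec', EEsp_mulVec y z hyz, EEsp_mulVec y z hyz]
  simp only [sympForm_add_left, sympForm_smul_left, sympForm_self, hyz, hzy, mul_zero, add_zero]
  have h1 := vec_add_self (ff v z • y)
  have h2 := vec_add_self (ff v y • z)
  calc v + ff v z • y + ff v y • z + ff v z • y + ff v y • z
      = v + (ff v z • y + ff v z • y) + (ff v y • z + ff v y • z) := by abel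
    _ = v := by rw [h1, h2, add_zero, add_zero]

/-- the reduction step for the alternating type -/
def red2 (a : Sp) (p r : VV) : Sp := a * EEsp (NNs a *ᵥ p) (NNs a *ᵥ r)

theorem red2_comm [CharP F 2] (a : Sp) (ha2 : a * a = 1) (p r : VV) :
    a * EEsp (NNs a *ᵥ p) (NNs a *ᵥ r) = EEsp (NNs a *ᵥ p) (NNs a *ᵥ r) * a := by
  have := conj_EEsp a (NNs a *ᵥ p) (NNs a *ᵥ r)
  rw [fix_range a ha2, fix_range a ha2] at this
  calc a * EEsp (NNs a *ᵥ p) (NNs a *ᵥ r)
      = (a * EEsp (NNs a *ᵥ p) (NNs a *ᵥ r) * a⁻¹) * a := by group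
    _ = EEsp (NNs a *ᵥ p) (NNs a *ᵥ r) * a := by rw [this]

theorem red2_sq [CharP F 2] (a : Sp) (ha2 : a * a = 1) (p r : VV) :
    red2 a p r * red2 a p r = 1 := by
  unfold red2
  have hE := EEsp_sq (NNs a *ᵥ p) (NNs a *ᵥ r) (range_iso a ha2 p r)
  calc a * EEsp (NNs a *ᵥ p) (NNs a *ᵥ r) * (a * EEsp (NNs a *ᵥ p) (NNs a *ᵥ r))
      = a * (EEsp (NNs a *ᵥ p) (NNs a *ᵥ r) * a) * EEsp (NNs a *ᵥ p) (NNs a *ᵥ r) := by group
    _ = a * (a * EEsp (NNs a *ᵥ p) (NNs a *ᵥ r)) * EEsp (NNs a *ᵥ p) (NNs a *ᵥ r) := by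
        rw [red2_comm a ha2]
    _ = (a * a) * (EEsp (NNs a *ᵥ p) (NNs a *ᵥ r) * EEsp (NNs a *ᵥ p) (NNs a *ᵥ r)) := by group
    _ = 1 := by rw [ha2, hE, one_mul]

theorem red2_N [CharP F 2] (a : Sp) (ha2 : a * a = 1) (p r x : VV) :
    NNs (red2 a p r) *ᵥ x =
      NNs a *ᵥ x + bet a x r • (NNs a *ᵥ p) + bet a x p • (NNs a *ᵥ r) := by
  unfold red2
  have h1 : ff x (NNs a *ᵥ r) = bet a x r := ff_N_right a ha2 x r
  have h1' : ff x (NNs a *ᵥ p) = bet a x p := ff_N_right a ha2 x p
  have h2 := fix_range a ha2 p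
  have h2' := fix_range a ha2 r
  have h3 := range_iso a ha2 p r
  obtain ⟨y, hy⟩ : ∃ y : VV, y = NNs a *ᵥ p := ⟨_, rfl⟩
  obtain ⟨z, hz⟩ : ∃ z : VV, z = NNs a *ᵥ r := ⟨_, rfl⟩
  rw [← hy] at h1' h2 h3 ⊢
  rw [← hz] at h1 h2' h3 ⊢
  rw [NNs_mulVec, mul_mulVec, EEsp_mulVec y z h3, Matrix.mulVec_add, Matrix.mulVec_add,
    Matrix.mulVec_smul, Matrix.mulVec_smul, h2, h2', h1, h1', NNs_mulVec]
  abel

theorem red2_bet [CharP F 2] (a : Sp) (ha2 : a * a = 1) (p r x x' : VV) :
    bet (red2 a p r) x x' = bet a x x' + bet a x r * bet a p x' + bet a x p * bet a r x' := by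
  unfold bet
  rw [red2_N a ha2, sympForm_add_left, sympForm_add_left, sympForm_smul_left, sympForm_smul_left]
  rfl

theorem red2_alt [CharP F 2] (a : Sp) (ha2 : a * a = 1) (halt : IsAltInv a) (p r : VV) :
    IsAltInv (red2 a p r) := by
  have h2 : (2 : F) = 0 := CharTwo.two_eq_zero
  intro x
  rw [red2_bet a ha2, halt x, bet_comm a ha2 p x, bet_comm a ha2 r x]
  linear_combination (bet a x r * bet a x p) * h2

theorem red2_N_p [CharP F 2] (a : Sp) (ha2 : a * a = 1) (halt : IsAltInv a) (p r : VV)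
    (hpr : bet a p r = 1) : NNs (red2 a p r) *ᵥ p = 0 := by
  rw [red2_N a ha2, hpr, halt p, one_smul, zero_smul, add_zero, vec_add_self]

theorem red2_N_r [CharP F 2] (a : Sp) (ha2 : a * a = 1) (halt : IsAltInv a) (p r : VV)
    (hpr : bet a p r = 1) : NNs (red2 a p r) *ᵥ r = 0 := by
  rw [red2_N a ha2, halt r, bet_comm a ha2 r p, hpr, one_smul, zero_smul, add_zero, vec_add_self]

theorem red2_range [CharP F 2] (a : Sp) (ha2 : a * a = 1) (p r x : VV) :
    ∃ y, NNs (red2 a p r) *ᵥ x = NNs a *ᵥ y :=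
  ⟨x + bet a x r • p + bet a x p • r, by
    rw [red2_N a ha2, Matrix.mulVec_add, Matrix.mulVec_add, Matrix.mulVec_smul, Matrix.mulVec_smul]⟩

theorem red2_perp_p [CharP F 2] (a : Sp) (ha2 : a * a = 1) (halt : IsAltInv a) (p r : VV)
    (hpr : bet a p r = 1) (x : VV) : ff (NNs (red2 a p r) *ᵥ x) p = 0 := by
  rw [NNs_selfadj (red2 a p r) (red2_sq a ha2 p r), red2_N_p a ha2 halt p r hpr,
    sympForm_zero_right']

theorem red2_perp_r [CharP F 2] (a : Sp) (ha2 : a * a = 1) (halt : IsAltInv a) (p r : VV)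
    (hpr : bet a p r = 1) (x : VV) : ff (NNs (red2 a p r) *ᵥ x) r = 0 := by
  rw [NNs_selfadj (red2 a p r) (red2_sq a ha2 p r), red2_N_r a ha2 halt p r hpr,
    sympForm_zero_right']

theorem red2_rank [CharP F 2] (a : Sp) (ha2 : a * a = 1) (halt : IsAltInv a) (p r : VV)
    (hpr : bet a p r = 1) : (NNs (red2 a p r)).rank < (NNs a).rank := by
  unfold Matrix.rank
  apply Submodule.finrank_lt_finrank_of_lt
  rw [SetLike.lt_iff_le_and_exists]
  constructor
  · rintro _ ⟨x, rfl⟩
    obtain ⟨y, hy⟩ := red2_range a ha2 p r x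
    exact ⟨y, by rw [Matrix.mulVecLin_apply, Matrix.mulVecLin_apply, hy]⟩
  · refine ⟨NNs a *ᵥ p, ⟨p, by rw [Matrix.mulVecLin_apply]⟩, ?_⟩
    rintro ⟨x, hx⟩
    rw [Matrix.mulVecLin_apply] at hx
    have := red2_perp_r a ha2 halt p r hpr x
    rw [hx] at this
    have h1 : ff (NNs a *ᵥ p) r = 1 := hpr
    rw [h1] at this
    exact one_ne_zero this

/-- normal form of an alternating symplectic involution in characteristic two -/
theorem normal_II [CharP F 2] : ∀ (k : ℕ) (a : Sp), a * a = 1 → IsAltInv a →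
    (NNs a).rank = k →
    ∃ (t : ℕ) (y z : Fin t → VV), (∀ j, ∃ v, y j = NNs a *ᵥ v) ∧ (∀ j, ∃ v, z j = NNs a *ᵥ v) ∧
      (∀ c d : Fin t → F, ∑ j, (c j • y j + d j • z j) = 0 → (∀ j, c j = 0) ∧ ∀ j, d j = 0) ∧
      ∀ x, NNs a *ᵥ x = ∑ j, (ff x (z j) • y j + ff x (y j) • z j) := by
  intro k
  induction k using Nat.strong_induction_on with
  | _ k ih =>
    intro a ha2 halt hk
    by_cases hN : NNs a = 0
    · refine ⟨0, fun i => i.elim0, fun i => i.elim0, fun i => i.elim0, fun i => i.elim0,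
        fun c d _ => ⟨fun i => i.elim0, fun i => i.elim0⟩, fun x => ?_⟩
      rw [hN, Matrix.zero_mulVec]
      simp
    · have hex : ∃ p r : VV, bet a p r = 1 := by
        have : ∃ p : VV, NNs a *ᵥ p ≠ 0 := by
          by_contra hcon
          push Not at hcon
          apply hN
          rw [Matrix.ext_iff_mulVec]
          intro p
          rw [Matrix.zero_mulVec]
          exact hcon p
        obtain ⟨p, hp⟩ := this
        obtain ⟨r, hr⟩ := exists_partner' _ hp
        exact ⟨p, r, hr⟩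
      obtain ⟨p, r, hpr⟩ := hex
      have hrank : (NNs (red2 a p r)).rank < k := by
        rw [← hk]; exact red2_rank a ha2 halt p r hpr
      obtain ⟨t, y, z, hy, hz, hLI, hform⟩ :=
        ih _ hrank (red2 a p r) (red2_sq a ha2 p r) (red2_alt a ha2 halt p r) rfl
      have hyr : ff (NNs a *ᵥ p) r = 1 := hpr
      have hyp : ff (NNs a *ᵥ p) p = 0 := halt p
      have hzp : ff (NNs a *ᵥ r) p = 1 := by
        have := bet_comm a ha2 r p
        unfold bet at this
        rw [this]; exact hpr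
      have hzr : ff (NNs a *ᵥ r) r = 0 := halt r
      refine ⟨t + 1, Fin.cons (NNs a *ᵥ p) y, Fin.cons (NNs a *ᵥ r) z, ?_, ?_, ?_, ?_⟩
      · intro j
        refine Fin.cases ?_ (fun j' => ?_) j
        · exact ⟨p, by rw [Fin.cons_zero]⟩
        · obtain ⟨v, hv⟩ := hy j'
          obtain ⟨v', hv'⟩ := red2_range a ha2 p r v
          exact ⟨v', by rw [Fin.cons_succ, hv, hv']⟩
      · intro j
        refine Fin.cases ?_ (fun j' => ?_) j
        · exact ⟨r, by rw [Fin.cons_zero]⟩
        · obtain ⟨v, hv⟩ := hz j'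
          obtain ⟨v', hv'⟩ := red2_range a ha2 p r v
          exact ⟨v', by rw [Fin.cons_succ, hv, hv']⟩
      · intro c d hsum
        rw [Fin.sum_univ_succ] at hsum
        simp only [Fin.cons_zero, Fin.cons_succ] at hsum
        -- the old part lies in the range of N₂
        have hO : ∃ x, ∑ j : Fin t, (c j.succ • y j + d j.succ • z j) = NNs (red2 a p r) *ᵥ x := by
          have hmem : ∑ j : Fin t, (c j.succ • y j + d j.succ • z j) ∈
              LinearMap.range (NNs (red2 a p r)).mulVecLin := by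
            apply Submodule.sum_mem
            intro j _
            apply Submodule.add_mem
            · obtain ⟨v, hv⟩ := hy j
              exact Submodule.smul_mem _ _ ⟨v, by rw [Matrix.mulVecLin_apply, hv]⟩
            · obtain ⟨v, hv⟩ := hz j
              exact Submodule.smul_mem _ _ ⟨v, by rw [Matrix.mulVecLin_apply, hv]⟩
          obtain ⟨x, hx⟩ := hmem
          exact ⟨x, by rw [← hx, Matrix.mulVecLin_apply]⟩
        obtain ⟨x, hx⟩ := hO
        rw [hx] at hsum
        have hc0 : c 0 = 0 := by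
          have := congrArg (fun v => ff v r) hsum
          simp only [sympForm_add_left, sympForm_smul_left, hyr, hzr,
            red2_perp_r a ha2 halt p r hpr, Cfsg.Agent.S0766.sympForm_zero_left] at this
          linear_combination this
        have hd0 : d 0 = 0 := by
          have := congrArg (fun v => ff v p) hsum
          simp only [sympForm_add_left, sympForm_smul_left, hyp, hzp,
            red2_perp_p a ha2 halt p r hpr, Cfsg.Agent.S0766.sympForm_zero_left] at this
          linear_combination this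
        rw [hc0, hd0, zero_smul, zero_smul, zero_add, zero_add, ← hx] at hsum
        obtain ⟨h1, h2⟩ := hLI (fun j => c j.succ) (fun j => d j.succ) hsum
        exact ⟨fun j => Fin.cases hc0 h1 j, fun j => Fin.cases hd0 h2 j⟩
      · intro x
        rw [Fin.sum_univ_succ]
        simp only [Fin.cons_zero, Fin.cons_succ]
        rw [← hform x, red2_N a ha2, ff_N_right a ha2, ff_N_right a ha2]
        have h1 := vec_add_self (bet a x r • (NNs a *ᵥ p))
        have h2 := vec_add_self (bet a x p • (NNs a *ᵥ r))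
        calc NNs a *ᵥ x = NNs a *ᵥ x + (bet a x r • (NNs a *ᵥ p) + bet a x r • (NNs a *ᵥ p)) +
              (bet a x p • (NNs a *ᵥ r) + bet a x p • (NNs a *ᵥ r)) := by
                rw [h1, h2, add_zero, add_zero]
          _ = _ := by abel

end Cfsg.Agent.helper29.SpInv
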