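import Mathlib
import Cfsg.Agent.Lib_helper29_SpInv3

set_option autoImplicit false
set_option linter.unusedSectionVars false
set_option linter.unusedVariables false
namespace Cfsg.Agent.helper29.SpInv
open Matrix Cfsg.Agent.helper4 Cfsg.Agent.S0245 Cfsg.Agent.S2594 Cfsg.Agent.S0440 Cfsg.Agent.helper29

variable {F : Type*} [Field F] {m : ℕ}

local notation "Sp" => Matrix.symplecticGroup (Fin m) F
local notation "ff" => Cfsg.sympForm m F
local notation "VV" => (Fin m ⊕ Fin m → F)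
local notation "MM" => Matrix (Fin m ⊕ Fin m) (Fin m ⊕ Fin m) F

theorem conj_of_form {ι : Type*} [Fintype ι] (σ : ι → ι) (a b g : Sp) (w w' : ι → VV)
    (hg : ∀ i, (g : MM) *ᵥ w i = w' i)
    (ha : ∀ x, NNs a *ᵥ x = ∑ i, ff x (w (σ i)) • w i)
    (hb : ∀ x, NNs b *ᵥ x = ∑ i, ff x (w' (σ i)) • w' i) : g * a * g⁻¹ = b := by
  apply eq_of_NNs_eq
  intro x
  rw [NNs_conj, ha, hb, Matrix.mulVec_sum]
  apply Finset.sum_congr rfl
  intro i _
  rw [Matrix.mulVec_smul, hg, ff_inv, hg]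

theorem rank_of_form {ι : Type*} [Fintype ι] (σ : ι → ι) (a : Sp) (w : ι → VV)
    (hLI : LinearIndependent F w) (hwr : ∀ i, ∃ y, w i = NNs a *ᵥ y)
    (ha : ∀ x, NNs a *ᵥ x = ∑ i, ff x (w (σ i)) • w i) : (NNs a).rank = Fintype.card ι := by
  unfold Matrix.rank
  have : LinearMap.range (NNs a).mulVecLin = Submodule.span F (Set.range w) := by
    apply le_antisymm
    · rintro _ ⟨x, rfl⟩
      rw [Matrix.mulVecLin_apply, ha]
      apply Submodule.sum_mem
      intro i _
      exact Submodule.smul_mem _ _ (Submodule.subset_span ⟨i, rfl⟩)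
    · rw [Submodule.span_le]
      rintro _ ⟨i, rfl⟩
      obtain ⟨y, hy⟩ := hwr i
      exact ⟨y, by rw [Matrix.mulVecLin_apply, hy]⟩
  rw [this, finrank_span_eq_card hLI]

theorem iso_of_range [CharP F 2] {ι : Type*} (a : Sp) (ha2 : a * a = 1) (w : ι → VV)
    (hwr : ∀ i, ∃ y, w i = NNs a *ᵥ y) (i j : ι) : ff (w i) (w j) = 0 := by
  obtain ⟨y, hy⟩ := hwr i
  obtain ⟨y', hy'⟩ := hwr j
  rw [hy, hy', range_iso a ha2]

theorem conj_I [Fintype F] [CharP F 2] (a b : Sp) (ha2 : a * a = 1) (hb2 : b * b = 1)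
    (hna : ¬ IsAltInv a) (hnb : ¬ IsAltInv b) (hr : (NNs a).rank = (NNs b).rank) :
    IsConj a b := by
  obtain ⟨s, w, hLI, hwr, hwf⟩ := normal_I _ a ha2 hna rfl
  obtain ⟨s', w', hLI', hwr', hwf'⟩ := normal_I _ b hb2 hnb rfl
  have h1 := rank_of_form id a w hLI hwr hwf
  have h2 := rank_of_form id b w' hLI' hwr' hwf'
  rw [Fintype.card_fin] at h1 h2
  have hs : s = s' := by omega
  subst hs
  obtain ⟨g, hg⟩ := frame_trans_sp w w' hLI (iso_of_range a ha2 w hwr) hLI'
    (iso_of_range b hb2 w' hwr')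
  rw [isConj_iff]
  exact ⟨g, conj_of_form id a b g w w' hg hwf hwf'⟩

theorem normal_II' [CharP F 2] (a : Sp) (ha2 : a * a = 1) (halt : IsAltInv a) :
    ∃ (t : ℕ) (w : Fin t ⊕ Fin t → VV), LinearIndependent F w ∧ (∀ i, ∃ y, w i = NNs a *ᵥ y) ∧
      ∀ x, NNs a *ᵥ x = ∑ i, ff x (w (Sum.swap i)) • w i := by
  obtain ⟨t, y, z, hy, hz, hLI, hform⟩ := normal_II _ a ha2 halt rfl
  refine ⟨t, Sum.elim y z, ?_, ?_, ?_⟩
  · rw [Fintype.linearIndependent_iff]
    intro g hg
    rw [Fintype.sum_sum_type] at hg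
    simp only [Sum.elim_inl, Sum.elim_inr] at hg
    rw [← Finset.sum_add_distrib] at hg
    obtain ⟨h1, h2⟩ := hLI (fun j => g (Sum.inl j)) (fun j => g (Sum.inr j)) hg
    intro i
    cases i with
    | inl j => exact h1 j
    | inr j => exact h2 j
  · intro i
    cases i with
    | inl j => exact hy j
    | inr j => exact hz j
  · intro x
    rw [hform, Fintype.sum_sum_type, Finset.sum_add_distrib]
    simp only [Sum.swap_inl, Sum.swap_inr, Sum.elim_inl, Sum.elim_inr]

theorem rank_II [CharP F 2] (a : Sp) (ha2 : a * a = 1) (halt : IsAltInv a) :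
    Even (NNs a).rank := by
  obtain ⟨t, w, hLI, hwr, hwf⟩ := normal_II' a ha2 halt
  have h1 := rank_of_form Sum.swap a w hLI hwr hwf
  rw [Fintype.card_sum, Fintype.card_fin] at h1
  exact ⟨t, h1⟩

theorem conj_II [CharP F 2] (a b : Sp) (ha2 : a * a = 1) (hb2 : b * b = 1)
    (hna : IsAltInv a) (hnb : IsAltInv b) (hr : (NNs a).rank = (NNs b).rank) :
    IsConj a b := by
  obtain ⟨s, w, hLI, hwr, hwf⟩ := normal_II' a ha2 hna
  obtain ⟨s', w', hLI', hwr', hwf'⟩ := normal_II' b hb2 hnb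
  have h1 := rank_of_form Sum.swap a w hLI hwr hwf
  have h2 := rank_of_form Sum.swap b w' hLI' hwr' hwf'
  rw [Fintype.card_sum, Fintype.card_fin] at h1 h2
  have hs : s = s' := by omega
  subst hs
  obtain ⟨g, hg⟩ := frame_trans_sp w w' hLI (iso_of_range a ha2 w hwr) hLI'
    (iso_of_range b hb2 w' hwr')
  rw [isConj_iff]
  exact ⟨g, conj_of_form Sum.swap a b g w w' hg hwf hwf'⟩

theorem ff_a_self [CharP F 2] (a : Sp) (v : VV) : ff v ((a : MM) *ᵥ v) = bet a v v := by
  rw [a_mulVec, sympForm_add_right, sympForm_self, zero_add]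
  unfold bet
  rw [ff_comm]

theorem card_V_alt [CharP F 2] (a : Sp) (halt : IsAltInv a) :
    Nat.card {v : VV // ff v ((a : MM) *ᵥ v) = 0} = Nat.card VV := by
  apply Nat.card_congr
  exact Equiv.subtypeUnivEquiv (fun v => by rw [ff_a_self]; exact halt v)

theorem card_V_nonalt [Fintype F] [CharP F 2] (a : Sp) (hna : ¬ IsAltInv a) :
    Nat.card {v : VV // ff v ((a : MM) *ᵥ v) = 0} < Nat.card VV := by
  classical
  rw [Nat.card_eq_fintype_card, Nat.card_eq_fintype_card]
  unfold IsAltInv at hna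
  push Not at hna
  obtain ⟨u, hu⟩ := hna
  exact Fintype.card_subtype_lt (x := u) (by rw [ff_a_self]; exact hu)

theorem NNs_conj_mat (g a : Sp) :
    NNs (g * a * g⁻¹) = (g : MM) * NNs a * ((g⁻¹ : Sp) : MM) := by
  rw [Matrix.ext_iff_mulVec]
  intro x
  rw [NNs_conj, ← Matrix.mulVec_mulVec, ← Matrix.mulVec_mulVec]

theorem rank_conj (g a : Sp) : (NNs (g * a * g⁻¹)).rank = (NNs a).rank := by
  rw [NNs_conj_mat]
  have h1 : IsUnit (g : MM).det := SymplecticGroup.symplectic_det g.2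
  have h2 : IsUnit ((g⁻¹ : Sp) : MM).det := SymplecticGroup.symplectic_det (g⁻¹).2
  rw [Matrix.rank_mul_eq_left_of_isUnit_det _ _ h2, Matrix.rank_mul_eq_right_of_isUnit_det _ _ h1]

/-- the permutation of vectors given by a symplectic matrix -/
def mvEquiv (g : Sp) : VV ≃ VV where
  toFun v := (g : MM) *ᵥ v
  invFun v := ((g⁻¹ : Sp) : MM) *ᵥ v
  left_inv := inv_mulVec_mulVec g
  right_inv := mulVec_inv_mulVec g

theorem bet_conj (g a : Sp) (v : VV) :
    bet (g * a * g⁻¹) ((g : MM) *ᵥ v) ((g : MM) *ᵥ v) = bet a v v := by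
  unfold bet
  rw [NNs_conj, inv_mulVec_mulVec, Cfsg.Agent.S0766.sympForm_mulVec]

theorem card_V_conj [CharP F 2] (g a : Sp) :
    Nat.card {v : VV // ff v ((a : MM) *ᵥ v) = 0} =
      Nat.card {v : VV // ff v (((g * a * g⁻¹ : Sp) : MM) *ᵥ v) = 0} := by
  apply Nat.card_congr
  refine Equiv.subtypeEquiv (mvEquiv g) (fun v => ?_)
  rw [ff_a_self, ff_a_self]
  show _ ↔ bet (g * a * g⁻¹) ((g : MM) *ᵥ v) ((g : MM) *ᵥ v) = 0
  rw [bet_conj]

/-- classification of involutions of the symplectic group in characteristic two up to conjugacy -/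
theorem conj_iff [Fintype F] [CharP F 2] (a b : Sp) (ha2 : a * a = 1) (hb2 : b * b = 1) :
    IsConj a b ↔ ((NNs a).rank = (NNs b).rank ∧
      (Even (NNs a).rank → Nat.card {v : VV // ff v ((a : MM) *ᵥ v) = 0} =
        Nat.card {v : VV // ff v ((b : MM) *ᵥ v) = 0})) := by
  constructor
  · intro h
    rw [isConj_iff] at h
    obtain ⟨g, rfl⟩ := h
    exact ⟨(rank_conj g a).symm, fun _ => card_V_conj g a⟩
  · rintro ⟨hr, hc⟩
    by_cases halt : IsAltInv a
    · by_cases hblt : IsAltInv b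
      · exact conj_II a b ha2 hb2 halt hblt hr
      · exfalso
        have h1 := hc (rank_II a ha2 halt)
        rw [card_V_alt a halt] at h1
        have h2 := card_V_nonalt b hblt
        omega
    · by_cases hblt : IsAltInv b
      · exfalso
        have h1 := hc (by rw [hr]; exact rank_II b hb2 hblt)
        rw [card_V_alt b hblt] at h1
        have h2 := card_V_nonalt a halt
        omega
      · exact conj_I a b ha2 hb2 halt hblt hr

end Cfsg.Agent.helper29.SpInv
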