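import Mathlib
import Cfsg.Agent.Lib_helper29_SpInv4
import Cfsg.Agent.S5645

set_option autoImplicit false
set_option linter.unusedSectionVars false
set_option linter.unusedVariables false
namespace Cfsg.Agent.helper29.SpInv
open Matrix Cfsg.Agent.helper4 Cfsg.Agent.S0245 Cfsg.Agent.S2594 Cfsg.Agent.S0440 Cfsg.Agent.helper29

variable {F : Type*} [Field F] {m : ℕ}

local notation "Sp" => Matrix.symplecticGroup (Fin m) F
local notation "ff" => Cfsg.sympForm m F
local notation "VV" => (Fin m ⊕ Fin m → F)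
local notation "MM" => Matrix (Fin m ⊕ Fin m) (Fin m ⊕ Fin m) F

theorem ff_sum_right {ι : Type*} (s : Finset ι) (x : VV) (f : ι → VV) :
    ff x (∑ i ∈ s, f i) = ∑ i ∈ s, ff x (f i) :=
  map_sum (BF m F x) f s

theorem ff_sum_left {ι : Type*} (s : Finset ι) (f : ι → VV) (y : VV) :
    ff (∑ i ∈ s, f i) y = ∑ i ∈ s, ff (f i) y := by
  have h := map_sum (BF m F) f s
  have h2 := congrArg (fun L => L y) h
  simp only [LinearMap.sum_apply] at h2
  exact h2

/-- the nilpotent part of the model involution -/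
def SSp {ι : Type*} [Fintype ι] (σ : ι → ι) (w : ι → VV) (x : VV) : VV :=
  ∑ i, ff x (w (σ i)) • w i

theorem SSp_mem {ι : Type*} [Fintype ι] (σ : ι → ι) (w : ι → VV) (x : VV) :
    SSp σ w x ∈ Submodule.span F (Set.range w) := by
  unfold SSp
  apply Submodule.sum_mem
  intro i _
  exact Submodule.smul_mem _ _ (Submodule.subset_span ⟨i, rfl⟩)

theorem SSp_iso {ι : Type*} [Fintype ι] (σ : ι → ι) (w : ι → VV)
    (hiso : ∀ i j, ff (w i) (w j) = 0) (x y : VV) : ff (SSp σ w x) (SSp σ w y) = 0 :=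
  frame_span_iso_sp w hiso _ _ (SSp_mem σ w x) (SSp_mem σ w y)

theorem SSp_perp {ι : Type*} [Fintype ι] (σ : ι → ι) (w : ι → VV)
    (hiso : ∀ i j, ff (w i) (w j) = 0) (x : VV) (k : ι) : ff (SSp σ w x) (w k) = 0 :=
  frame_span_iso_sp w hiso _ _ (SSp_mem σ w x) (Submodule.subset_span ⟨k, rfl⟩)

theorem SSp_SSp {ι : Type*} [Fintype ι] (σ : ι → ι) (w : ι → VV)
    (hiso : ∀ i j, ff (w i) (w j) = 0) (x : VV) : SSp σ w (SSp σ w x) = 0 := by
  have h : SSp σ w (SSp σ w x) = ∑ i, ff (SSp σ w x) (w (σ i)) • w i := rfl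
  rw [h]
  apply Finset.sum_eq_zero
  intro i _
  rw [SSp_perp σ w hiso, zero_smul]

theorem SSp_selfadj [CharP F 2] {ι : Type*} [Fintype ι] (σ : Equiv.Perm ι)
    (hσ : ∀ i, σ (σ i) = i) (w : ι → VV) (x y : VV) :
    ff (SSp σ w x) y = ff x (SSp σ w y) := by
  unfold SSp
  rw [ff_sum_left, ff_sum_right]
  simp only [sympForm_smul_left, sympForm_smul_right]
  rw [← Equiv.sum_comp σ (fun j => ff y (w (σ j)) * ff x (w j))]
  apply Finset.sum_congr rfl
  intro i _
  rw [hσ, ff_comm (w i) y]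
  ring

theorem SSp_add {ι : Type*} [Fintype ι] (σ : ι → ι) (w : ι → VV) (x y : VV) :
    SSp σ w (x + y) = SSp σ w x + SSp σ w y := by
  unfold SSp
  simp only [sympForm_add_left, add_smul, Finset.sum_add_distrib]

theorem SSp_smul {ι : Type*} [Fintype ι] (σ : ι → ι) (w : ι → VV) (c : F) (x : VV) :
    SSp σ w (c • x) = c • SSp σ w x := by
  unfold SSp
  simp only [sympForm_smul_left, mul_smul, ← Finset.smul_sum]

/-- the linear map `x ↦ x + Σ f(x, w (σ i)) w i` -/
def LLsp {ι : Type*} [Fintype ι] (σ : ι → ι) (w : ι → VV) : VV →ₗ[F] VV where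
  toFun x := x + SSp σ w x
  map_add' x y := by
    rw [SSp_add]; abel
  map_smul' c x := by
    rw [SSp_smul, smul_add, RingHom.id_apply]

theorem LLsp_apply {ι : Type*} [Fintype ι] (σ : ι → ι) (w : ι → VV) (x : VV) :
    LLsp σ w x = x + SSp σ w x := rfl

theorem LLsp_form [CharP F 2] {ι : Type*} [Fintype ι] (σ : Equiv.Perm ι)
    (hσ : ∀ i, σ (σ i) = i) (w : ι → VV) (hiso : ∀ i j, ff (w i) (w j) = 0) (x y : VV) :
    ff (LLsp σ w x) (LLsp σ w y) = ff x y := by
  have h2 : (2 : F) = 0 := CharTwo.two_eq_zero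
  rw [LLsp_apply, LLsp_apply, sympForm_add_left, sympForm_add_right, sympForm_add_right,
    SSp_iso σ w hiso, SSp_selfadj σ hσ w x y]
  linear_combination (ff x (SSp σ w y)) * h2

/-- the model involution attached to an isotropic family -/
noncomputable def modelInv [CharP F 2] {ι : Type*} [Fintype ι] (σ : Equiv.Perm ι)
    (hσ : ∀ i, σ (σ i) = i) (w : ι → VV) (hiso : ∀ i j, ff (w i) (w j) = 0) : Sp :=
  ⟨LinearMap.toMatrix' (LLsp σ w), mem_sp_of_preserves _ (by
    intro u v
    rw [LinearMap.toMatrix'_mulVec, LinearMap.toMatrix'_mulVec]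
    exact LLsp_form σ hσ w hiso u v)⟩

theorem modelInv_mulVec [CharP F 2] {ι : Type*} [Fintype ι] (σ : Equiv.Perm ι)
    (hσ : ∀ i, σ (σ i) = i) (w : ι → VV) (hiso : ∀ i j, ff (w i) (w j) = 0) (x : VV) :
    ((modelInv σ hσ w hiso : Sp) : MM) *ᵥ x = x + SSp σ w x := by
  unfold modelInv
  show LinearMap.toMatrix' (LLsp σ w) *ᵥ x = _
  rw [LinearMap.toMatrix'_mulVec, LLsp_apply]

theorem modelInv_N [CharP F 2] {ι : Type*} [Fintype ι] (σ : Equiv.Perm ι)
    (hσ : ∀ i, σ (σ i) = i) (w : ι → VV) (hiso : ∀ i j, ff (w i) (w j) = 0) (x : VV) :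
    NNs (modelInv σ hσ w hiso) *ᵥ x = ∑ i, ff x (w (σ i)) • w i := by
  rw [NNs_mulVec, modelInv_mulVec, add_sub_cancel_left]
  rfl

theorem modelInv_sq [CharP F 2] {ι : Type*} [Fintype ι] (σ : Equiv.Perm ι)
    (hσ : ∀ i, σ (σ i) = i) (w : ι → VV) (hiso : ∀ i j, ff (w i) (w j) = 0) :
    modelInv σ hσ w hiso * modelInv σ hσ w hiso = 1 := by
  apply sp_ext
  intro x
  rw [mul_mulVec, one_mulVec', modelInv_mulVec, modelInv_mulVec, SSp_add, SSp_SSp σ w hiso,
    add_zero, add_assoc, vec_add_self, add_zero]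


open Cfsg.Agent.S0765 in
theorem std_iso (k l : Fin m) : ff (bv (Sum.inl k)) (bv (Sum.inl l)) = 0 := by
  rw [form_bv_inl]
  unfold bv
  simp

open Cfsg.Agent.S0765 in
theorem std_LI {ι : Type*} (e : ι → Fin m) (he : Function.Injective e) :
    LinearIndependent F (fun i => (bv (Sum.inl (e i)) : VV)) := by
  have h := (Pi.basisFun F (Fin m ⊕ Fin m)).linearIndependent
  have h2 := h.comp (fun i => (Sum.inl (e i) : Fin m ⊕ Fin m))
    (fun i j hij => he (Sum.inl.inj hij))
  convert h2 using 1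
  funext i
  simp [bv, Pi.basisFun_apply]

open Cfsg.Agent.S0765 in
theorem std_N {ι : Type*} [Fintype ι] (σ : Equiv.Perm ι)
    (e : ι → Fin m) (he : Function.Injective e) (a : Sp)
    (hf : ∀ x, NNs a *ᵥ x = ∑ i, ff x (bv (Sum.inl (e (σ i)))) • (bv (Sum.inl (e i)) : VV))
    (k : ι) : NNs a *ᵥ (bv (Sum.inr (e (σ k)))) = bv (Sum.inl (e k)) := by
  classical
  rw [hf, Finset.sum_eq_single k]
  · rw [form_bv_inr]
    unfold bv
    rw [Pi.single_eq_same, one_smul]
  · intro i _ hik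
    rw [form_bv_inr]
    unfold bv
    rw [Pi.single_eq_of_ne, zero_smul]
    intro h
    apply hik
    exact (σ.injective (he (Sum.inl.inj h))).symm
  · intro h
    exact absurd (Finset.mem_univ k) h

theorem alt_of_swap [CharP F 2] {t : ℕ} (a : Sp) (w : Fin t ⊕ Fin t → VV)
    (hf : ∀ x, NNs a *ᵥ x = ∑ i, ff x (w (Sum.swap i)) • w i) : IsAltInv a := by
  have h2 : (2 : F) = 0 := CharTwo.two_eq_zero
  intro u
  unfold bet
  rw [hf, ff_sum_left, Fintype.sum_sum_type]
  simp only [Sum.swap_inl, Sum.swap_inr, sympForm_smul_left]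
  rw [← Finset.sum_add_distrib]
  apply Finset.sum_eq_zero
  intro j _
  rw [ff_comm (w (Sum.inl j)) u, ff_comm (w (Sum.inr j)) u]
  linear_combination (ff u (w (Sum.inr j)) * ff u (w (Sum.inl j))) * h2

open Cfsg.Agent.S0765 in
theorem exists_I [CharP F 2] (s : ℕ) (hs1 : 1 ≤ s) (hsm : s ≤ m) :
    ∃ a : Sp, a * a = 1 ∧ ¬ IsAltInv a ∧ (NNs a).rank = s := by
  obtain ⟨w, hw⟩ : ∃ w : Fin s → VV, w = fun i => bv (Sum.inl (Fin.castLE hsm i)) := ⟨_, rfl⟩
  have he : Function.Injective (Fin.castLE hsm) := Fin.castLE_injective hsm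
  have hiso : ∀ i j, ff (w i) (w j) = 0 := by
    intro i j
    rw [hw]
    exact std_iso _ _
  have hσ : ∀ i, (Equiv.refl (Fin s)) ((Equiv.refl (Fin s)) i) = i := fun i => rfl
  have hf := modelInv_N (Equiv.refl (Fin s)) hσ w hiso
  have hsq := modelInv_sq (Equiv.refl (Fin s)) hσ w hiso
  obtain ⟨a, ha⟩ : ∃ a : Sp, a = modelInv (Equiv.refl (Fin s)) hσ w hiso := ⟨_, rfl⟩
  rw [← ha] at hf hsq
  have hN : ∀ k, NNs a *ᵥ (bv (Sum.inr (Fin.castLE hsm k))) = bv (Sum.inl (Fin.castLE hsm k)) := by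
    intro k
    apply std_N (Equiv.refl (Fin s)) (Fin.castLE hsm) he a
    intro x
    rw [hf, hw]
  refine ⟨a, hsq, ?_, ?_⟩
  · intro halt
    have := halt (bv (Sum.inr (Fin.castLE hsm ⟨0, hs1⟩)))
    unfold bet at this
    rw [hN, form_bv_inl] at this
    unfold bv at this
    rw [Pi.single_eq_same] at this
    exact one_ne_zero (neg_eq_zero.mp this)
  · have := rank_of_form (Equiv.refl (Fin s)) a w (by rw [hw]; exact std_LI _ he)
      (fun i => ⟨_, by rw [hN, hw]⟩) hf
    rw [this, Fintype.card_fin]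

open Cfsg.Agent.S0765 in
theorem exists_II [CharP F 2] (t : ℕ) (htm : t + t ≤ m) :
    ∃ a : Sp, a * a = 1 ∧ IsAltInv a ∧ (NNs a).rank = t + t := by
  obtain ⟨e, he0⟩ : ∃ e : Fin t ⊕ Fin t → Fin m, e = fun i => Fin.castLE htm (finSumFinEquiv i) :=
    ⟨_, rfl⟩
  have he : Function.Injective e := by
    rw [he0]
    intro i j hij
    exact finSumFinEquiv.injective (Fin.castLE_injective htm hij)
  obtain ⟨w, hw⟩ : ∃ w : Fin t ⊕ Fin t → VV, w = fun i => bv (Sum.inl (e i)) := ⟨_, rfl⟩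
  have hiso : ∀ i j, ff (w i) (w j) = 0 := by
    intro i j
    rw [hw]
    exact std_iso _ _
  have hσ : ∀ i, (Equiv.sumComm (Fin t) (Fin t)) ((Equiv.sumComm (Fin t) (Fin t)) i) = i := by
    intro i
    cases i <;> rfl
  have hf := modelInv_N (Equiv.sumComm (Fin t) (Fin t)) hσ w hiso
  have hsq := modelInv_sq (Equiv.sumComm (Fin t) (Fin t)) hσ w hiso
  obtain ⟨a, ha⟩ : ∃ a : Sp, a = modelInv (Equiv.sumComm (Fin t) (Fin t)) hσ w hiso := ⟨_, rfl⟩
  rw [← ha] at hf hsq
  have hN : ∀ k, NNs a *ᵥ (bv (Sum.inr (e ((Equiv.sumComm (Fin t) (Fin t)) k)))) =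
      bv (Sum.inl (e k)) := by
    intro k
    apply std_N (Equiv.sumComm (Fin t) (Fin t)) e he a
    intro x
    rw [hf, hw]
  have hf' : ∀ x, NNs a *ᵥ x = ∑ i, ff x (w (Sum.swap i)) • w i := hf
  refine ⟨a, hsq, alt_of_swap a w hf', ?_⟩
  have := rank_of_form Sum.swap a w (by rw [hw]; exact std_LI _ he)
    (fun i => ⟨_, by rw [hN, hw]⟩) hf'
  rw [this, Fintype.card_sum, Fintype.card_fin]


theorem alt_conj (g a : Sp) : IsAltInv (g * a * g⁻¹) ↔ IsAltInv a := by
  constructor
  · intro h v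
    rw [← bet_conj g a v]
    exact h _
  · intro h u
    have := bet_conj g a (((g⁻¹ : Sp) : MM) *ᵥ u)
    rw [mulVec_inv_mulVec] at this
    rw [this]
    exact h _

theorem rank_le [Fintype F] [CharP F 2] (a : Sp) (ha2 : a * a = 1) : (NNs a).rank ≤ m := by
  unfold Matrix.rank
  apply Cfsg.Agent.S5645.finrank_le_of_isotropic
  rintro _ ⟨x, rfl⟩ _ ⟨y, rfl⟩
  rw [Matrix.mulVecLin_apply, Matrix.mulVecLin_apply]
  exact range_iso a ha2 x y

theorem rank_pos (a : Sp) (ha : a ≠ 1) : 1 ≤ (NNs a).rank := by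
  rw [Nat.one_le_iff_ne_zero]
  intro h0
  apply ha
  unfold Matrix.rank at h0
  rw [Submodule.finrank_eq_zero] at h0
  apply eq_of_NNs_eq
  intro x
  have h1 : NNs a *ᵥ x ∈ LinearMap.range (NNs a).mulVecLin :=
    ⟨x, by rw [Matrix.mulVecLin_apply]⟩
  rw [h0, Submodule.mem_bot] at h1
  rw [h1, NNs_mulVec, one_mulVec', sub_self]

theorem ne_one_of_rank (a : Sp) (h : (NNs a).rank ≠ 0) : a ≠ 1 := by
  rintro rfl
  apply h
  have : NNs (1 : Sp) = 0 := by
    unfold NNs
    rw [Submonoid.coe_one, sub_self]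
  rw [this, Matrix.rank_zero]

/-- the number of classes of involutions in `Sp_{2m}(F)`, `F` finite of characteristic two -/
theorem class_count [Fintype F] [CharP F 2] :
    Nat.card {C : ConjClasses Sp // ∃ g : Sp, ConjClasses.mk g = C ∧ orderOf g = 2} =
      m + m / 2 := by
  classical
  have hI : ∀ i : Fin m, ∃ a : Sp, a * a = 1 ∧ ¬ IsAltInv a ∧ (NNs a).rank = i.val + 1 :=
    fun i => exists_I (i.val + 1) (by omega) (by omega)
  have hII : ∀ j : Fin (m / 2), ∃ a : Sp, a * a = 1 ∧ IsAltInv a ∧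
      (NNs a).rank = (j.val + 1) + (j.val + 1) :=
    fun j => exists_II (j.val + 1) (by have := j.2; omega)
  choose rI hrI using hI
  choose rII hrII using hII
  obtain ⟨rep, hrep⟩ : ∃ rep : Fin m ⊕ Fin (m / 2) → Sp, rep = Sum.elim rI rII := ⟨_, rfl⟩
  have hrep_sq : ∀ p, rep p * rep p = 1 := by
    intro p
    rw [hrep]
    cases p with
    | inl i => exact (hrI i).1
    | inr j => exact (hrII j).1
  have hrep_ne : ∀ p, rep p ≠ 1 := by
    intro p
    apply ne_one_of_rank
    rw [hrep]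
    cases p with
    | inl i => rw [Sum.elim_inl, (hrI i).2.2]; omega
    | inr j => rw [Sum.elim_inr, (hrII j).2.2]; omega
  have hord : ∀ p, orderOf (rep p) = 2 := by
    intro p
    exact orderOf_eq_prime (by rw [pow_two]; exact hrep_sq p) (hrep_ne p)
  have hbij : Function.Bijective (fun p : Fin m ⊕ Fin (m / 2) =>
      (⟨ConjClasses.mk (rep p), rep p, rfl, hord p⟩ :
        {C : ConjClasses Sp // ∃ g : Sp, ConjClasses.mk g = C ∧ orderOf g = 2})) := by
    constructor
    · intro p p' hpp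
      have h1 : ConjClasses.mk (rep p) = ConjClasses.mk (rep p') := congrArg Subtype.val hpp
      rw [ConjClasses.mk_eq_mk_iff_isConj, isConj_iff] at h1
      obtain ⟨g, hg⟩ := h1
      have hrk := rank_conj g (rep p)
      have halt := alt_conj g (rep p)
      rw [hg] at hrk halt
      rw [hrep] at hrk halt
      cases p with
      | inl i =>
        cases p' with
        | inl i' =>
          rw [Sum.elim_inl, Sum.elim_inl, (hrI i).2.2, (hrI i').2.2] at hrk
          congr 1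
          apply Fin.ext
          omega
        | inr j' =>
          exfalso
          rw [Sum.elim_inl, Sum.elim_inr] at halt
          exact (hrI i).2.1 (halt.mp (hrII j').2.1)
      | inr j =>
        cases p' with
        | inl i' =>
          exfalso
          rw [Sum.elim_inl, Sum.elim_inr] at halt
          exact (hrI i').2.1 (halt.mpr (hrII j).2.1)
        | inr j' =>
          rw [Sum.elim_inr, Sum.elim_inr, (hrII j).2.2, (hrII j').2.2] at hrk
          congr 1
          apply Fin.ext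
          omega
    · rintro ⟨C, g, hgC, hgo⟩
      have hg2 : g * g = 1 := by
        have := pow_orderOf_eq_one g
        rw [hgo, pow_two] at this
        exact this
      have hg1 : g ≠ 1 := by
        rintro rfl
        rw [orderOf_one] at hgo
        omega
      have hr1 := rank_pos g hg1
      have hr2 := rank_le g hg2
      by_cases halt : IsAltInv g
      · obtain ⟨t, ht⟩ := rank_II g hg2 halt
        have htm : t - 1 < m / 2 := by omega
        refine ⟨Sum.inr ⟨t - 1, htm⟩, ?_⟩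
        apply Subtype.ext
        show ConjClasses.mk (rep (Sum.inr ⟨t - 1, htm⟩)) = C
        rw [← hgC, ConjClasses.mk_eq_mk_iff_isConj, hrep, Sum.elim_inr]
        apply conj_II _ _ (hrII _).1 hg2 (hrII _).2.1 halt
        rw [(hrII _).2.2, ht]
        show (t - 1 + 1) + (t - 1 + 1) = t + t
        omega
      · have hsm : (NNs g).rank - 1 < m := by omega
        refine ⟨Sum.inl ⟨(NNs g).rank - 1, hsm⟩, ?_⟩
        apply Subtype.ext
        show ConjClasses.mk (rep (Sum.inl ⟨(NNs g).rank - 1, hsm⟩)) = C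
        rw [← hgC, ConjClasses.mk_eq_mk_iff_isConj, hrep, Sum.elim_inl]
        apply conj_I _ _ (hrI _).1 hg2 (hrI _).2.1 halt
        rw [(hrI _).2.2]
        show (NNs g).rank - 1 + 1 = (NNs g).rank
        omega
  rw [← Nat.card_eq_of_bijective _ hbij, Nat.card_eq_fintype_card, Fintype.card_sum,
    Fintype.card_fin, Fintype.card_fin]

end Cfsg.Agent.helper29.SpInv
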