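import Mathlib
import Cfsg.Agent.Lib_helper29_SpInv5

set_option autoImplicit false
set_option linter.unusedSectionVars false
set_option linter.unusedVariables false
namespace Cfsg.Agent.helper29.SpInv
open Matrix Cfsg.Agent.helper4 Cfsg.Agent.S0245 Cfsg.Agent.S2594 Cfsg.Agent.S0440 Cfsg.Agent.helper29

variable {F : Type*} [Field F] {m : ℕ}

local notation "Sp" => Matrix.symplecticGroup (Fin m) F
local notation "ff" => Cfsg.sympForm m F
local notation "VV" => (Fin m ⊕ Fin m → F)
local notation "MM" => Matrix (Fin m ⊕ Fin m) (Fin m ⊕ Fin m) F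

/-- linearly independent totally isotropic families -/
def IsFrameSp {ι : Type*} (w : ι → VV) : Prop :=
  LinearIndependent F w ∧ ∀ i j, ff (w i) (w j) = 0

theorem card_split' {α : Type*} [Finite α] (p r : α → Prop) :
    Nat.card {a // p a} = Nat.card {a // p a ∧ r a} + Nat.card {a // p a ∧ ¬ r a} := by
  classical
  have e : {a // p a} ≃ {a // p a ∧ r a} ⊕ {a // p a ∧ ¬ r a} :=
    { toFun := fun a => if h : r a.1 then Sum.inl ⟨a.1, a.2, h⟩ else Sum.inr ⟨a.1, a.2, h⟩
      invFun := fun s => Sum.elim (fun a => ⟨a.1, a.2.1⟩) (fun a => ⟨a.1, a.2.1⟩) s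
      left_inv := by
        intro a
        by_cases h : r a.1 <;> simp [h]
      right_inv := by
        rintro (a | a)
        · simp [a.2.2]
        · simp [a.2.2] }
  rw [Nat.card_congr e, Nat.card_sum]

theorem perpSp_eq_orthogonal (S : Set VV) :
    perpSp S = (BF m F).orthogonal (Submodule.span F S) := by
  ext v
  rw [LinearMap.BilinForm.mem_orthogonal_iff]
  constructor
  · intro hv n hn
    change (BF m F) n v = 0
    rw [BF_apply]
    induction hn using Submodule.span_induction with
    | mem x hx => rw [sympForm_swap, hv x hx, neg_zero]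
    | zero => exact Cfsg.Agent.S0766.sympForm_zero_left v
    | add x y _ _ hx hy => rw [sympForm_add_left, hx, hy, add_zero]
    | smul a x _ hx => rw [sympForm_smul_left, hx, mul_zero]
  · intro hv s hs
    have := hv s (Submodule.subset_span hs)
    change (BF m F) s v = 0 at this
    rw [BF_apply] at this
    rw [sympForm_swap, this, neg_zero]

theorem finrank_VV : Module.finrank F VV = 2 * m := by
  rw [Module.finrank_fintype_fun_eq_card]
  simp
  ring

theorem finrank_perpSp {k : ℕ} (b : Fin k → VV) (hb : LinearIndependent F b) :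
    Module.finrank F (perpSp (Set.range b)) = 2 * m - k := by
  rw [perpSp_eq_orthogonal, LinearMap.BilinForm.finrank_orthogonal (BF_nondeg (m := m) (F := F)),
    finrank_span_eq_card hb, Fintype.card_fin, finrank_VV]

theorem frame_le {k : ℕ} (b : Fin k → VV) (hb : IsFrameSp b) : k ≤ m := by
  classical
  have h1 : Submodule.span F (Set.range b) ≤ perpSp (Set.range b) := by
    rw [Submodule.span_le]
    rintro _ ⟨i, rfl⟩ _ ⟨j, rfl⟩
    exact hb.2 i j
  have h2 := Submodule.finrank_mono h1
  rw [finrank_perpSp b hb.1, finrank_span_eq_card hb.1, Fintype.card_fin] at h2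
  have h3 := hb.1.fintype_card_le_finrank
  rw [Fintype.card_fin, finrank_VV] at h3
  omega

theorem card_fiber_sp [Fintype F] {q : ℕ} (hF : Fintype.card F = q) {k : ℕ} (b : Fin k → VV)
    (hb : IsFrameSp b) :
    Nat.card {x : VV // x ∈ perpSp (Set.range b) ∧ x ∉ Submodule.span F (Set.range b)} =
      q ^ (2 * m - k) - q ^ k := by
  classical
  have h1 := card_split' (fun v : VV => v ∈ perpSp (Set.range b))
    (fun v => v ∈ Submodule.span F (Set.range b))
  have h2 : Nat.card {v : VV // v ∈ perpSp (Set.range b)} = q ^ (2 * m - k) := by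
    show Nat.card ↥(perpSp (Set.range b)) = _
    rw [Nat.card_eq_fintype_card, Module.card_eq_pow_finrank (K := F), hF, finrank_perpSp b hb.1]
  have h3 : Nat.card {v : VV // v ∈ perpSp (Set.range b) ∧ v ∈ Submodule.span F (Set.range b)} =
      q ^ k := by
    have e : {v : VV // v ∈ perpSp (Set.range b) ∧ v ∈ Submodule.span F (Set.range b)} ≃
        ↥(Submodule.span F (Set.range b)) :=
      Equiv.subtypeEquivRight (fun v => by
        constructor
        · exact fun h => h.2
        · intro h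
          refine ⟨?_, h⟩
          rintro _ ⟨i, rfl⟩
          exact frame_span_iso_sp b hb.2 v (b i) h (Submodule.subset_span ⟨i, rfl⟩))
    rw [Nat.card_congr e, Nat.card_eq_fintype_card, Module.card_eq_pow_finrank (K := F), hF,
      finrank_span_eq_card hb.1, Fintype.card_fin]
  rw [h2, h3] at h1
  omega

theorem frame_cons_iff_sp {k : ℕ} (x : VV) (b : Fin k → VV) :
    IsFrameSp (Fin.cons x b : Fin (k + 1) → VV) ↔
      IsFrameSp b ∧ (x ∈ perpSp (Set.range b) ∧ x ∉ Submodule.span F (Set.range b)) := by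
  unfold IsFrameSp
  rw [linearIndependent_finCons]
  constructor
  · rintro ⟨⟨hLI, hx⟩, hiso⟩
    refine ⟨⟨hLI, fun i j => ?_⟩, ?_, hx⟩
    · have := hiso i.succ j.succ
      simpa using this
    · rintro _ ⟨i, rfl⟩
      have := hiso 0 i.succ
      simpa using this
  · rintro ⟨⟨hLI, hiso⟩, hxp, hx⟩
    refine ⟨⟨hLI, hx⟩, fun i j => ?_⟩
    refine Fin.cases ?_ (fun i' => ?_) i
    · refine Fin.cases ?_ (fun j' => ?_) j
      · simp only [Fin.cons_zero]
        exact sympForm_self x
      · simp only [Fin.cons_zero, Fin.cons_succ]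
        exact hxp (b j') ⟨j', rfl⟩
    · refine Fin.cases ?_ (fun j' => ?_) j
      · simp only [Fin.cons_zero, Fin.cons_succ]
        rw [sympForm_swap, hxp (b i') ⟨i', rfl⟩, neg_zero]
      · simp only [Fin.cons_succ]
        exact hiso i' j'

theorem frame_tail_sp {k : ℕ} (b : Fin (k + 1) → VV) (hb : IsFrameSp b) :
    IsFrameSp (Fin.tail b) ∧ (b 0 ∈ perpSp (Set.range (Fin.tail b)) ∧
      b 0 ∉ Submodule.span F (Set.range (Fin.tail b))) := by
  have := (frame_cons_iff_sp (b 0) (Fin.tail b)).mp (by rw [Fin.cons_self_tail]; exact hb)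
  exact this

/-- the type of frames indexed by `ι` -/
def FrSp (m : ℕ) (F : Type*) [Field F] (ι : Type*) : Type _ :=
  {b : ι → (Fin m ⊕ Fin m → F) // IsFrameSp b}

noncomputable instance [Fintype F] (ι : Type*) [Finite ι] : Finite (FrSp m F ι) := by
  unfold FrSp
  infer_instance

theorem sigma_subtype_ext' {α β : Type*} {P : α → β → Prop} (a₁ a₂ : α) (x₁ x₂ : β)
    (h₁ : P a₁ x₁) (h₂ : P a₂ x₂) (ha : a₁ = a₂) (hx : x₁ = x₂) :
    (⟨a₁, ⟨x₁, h₁⟩⟩ : Σ a : α, {x : β // P a x}) = ⟨a₂, ⟨x₂, h₂⟩⟩ := by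
  subst ha
  subst hx
  rfl

/-- frames of length `k+1` fibre over frames of length `k` -/
noncomputable def frSpEquiv (k : ℕ) :
    FrSp m F (Fin (k + 1)) ≃ Σ b : FrSp m F (Fin k),
      {x : VV // x ∈ perpSp (Set.range b.1) ∧ x ∉ Submodule.span F (Set.range b.1)} where
  toFun c := ⟨⟨Fin.tail c.1, (frame_tail_sp c.1 c.2).1⟩, ⟨c.1 0, (frame_tail_sp c.1 c.2).2⟩⟩
  invFun s := ⟨Fin.cons s.2.1 s.1.1, (frame_cons_iff_sp _ _).mpr ⟨s.1.2, s.2.2⟩⟩
  left_inv c := by
    apply Subtype.ext
    exact Fin.cons_self_tail c.1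
  right_inv s := by
    obtain ⟨⟨b, hb⟩, ⟨x, hx⟩⟩ := s
    exact sigma_subtype_ext' (P := fun (b : FrSp m F (Fin k)) (x : VV) =>
      x ∈ perpSp (Set.range b.1) ∧ x ∉ Submodule.span F (Set.range b.1))
      _ _ _ _ _ _ (Subtype.ext (by
        show Fin.tail (Fin.cons x b : Fin (k + 1) → VV) = b
        exact Fin.tail_cons (α := fun _ => VV) x b)) (by
        show (Fin.cons x b : Fin (k + 1) → VV) 0 = x
        exact Fin.cons_zero (α := fun _ => VV) x b)

theorem card_frSp_succ [Fintype F] {q : ℕ} (hF : Fintype.card F = q) (k : ℕ) :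
    Nat.card (FrSp m F (Fin (k + 1))) =
      Nat.card (FrSp m F (Fin k)) * (q ^ (2 * m - k) - q ^ k) := by
  classical
  have : Fintype (FrSp m F (Fin k)) := Fintype.ofFinite _
  rw [Nat.card_congr (frSpEquiv k), Nat.card_sigma]
  rw [Finset.sum_congr rfl (fun b _ => card_fiber_sp hF b.1 b.2), Finset.sum_const, smul_eq_mul,
    Finset.card_univ, Nat.card_eq_fintype_card]

theorem card_frSp_zero : Nat.card (FrSp m F (Fin 0)) = 1 := by
  have : Unique (FrSp m F (Fin 0)) :=
    { default := ⟨fun i => i.elim0, linearIndependent_empty_type, fun i => i.elim0⟩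
      uniq := fun b => Subtype.ext (funext fun i => i.elim0) }
  exact Nat.card_unique

theorem card_frSp [Fintype F] {q : ℕ} (hF : Fintype.card F = q) : ∀ k : ℕ,
    Nat.card (FrSp m F (Fin k)) = ∏ i ∈ Finset.range k, (q ^ (2 * m - i) - q ^ i)
  | 0 => by rw [card_frSp_zero, Finset.prod_range_zero]
  | k + 1 => by rw [card_frSp_succ hF, card_frSp hF k, Finset.prod_range_succ]

/-- reindexing frames -/
def frSpCongr {ι κ : Type*} (e : ι ≃ κ) : FrSp m F ι ≃ FrSp m F κ where
  toFun b := ⟨b.1 ∘ e.symm, (linearIndependent_equiv e.symm).mpr b.2.1,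
    fun i j => b.2.2 _ _⟩
  invFun b := ⟨b.1 ∘ e, (linearIndependent_equiv e).mpr b.2.1, fun i j => b.2.2 _ _⟩
  left_inv b := by
    apply Subtype.ext
    funext i
    simp
  right_inv b := by
    apply Subtype.ext
    funext i
    simp

theorem card_frSp' [Fintype F] {q : ℕ} (hF : Fintype.card F = q) (ι : Type*) [Fintype ι] :
    Nat.card (FrSp m F ι) =
      ∏ i ∈ Finset.range (Fintype.card ι), (q ^ (2 * m - i) - q ^ i) := by
  rw [Nat.card_congr (frSpCongr (Fintype.equivFin ι)), card_frSp hF]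

end Cfsg.Agent.helper29.SpInv
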