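import Mathlib
import Cfsg.Agent.Lib_helper29_SpC1

set_option autoImplicit false
set_option linter.unusedSectionVars false
set_option linter.unusedVariables false
namespace Cfsg.Agent.helper29.SpInv
open Matrix Cfsg.Agent.helper4 Cfsg.Agent.S0245 Cfsg.Agent.S2594 Cfsg.Agent.S0440 Cfsg.Agent.helper29

/-- orbit-stabiliser for an action given by a function -/
theorem card_eq_stab_mul_orbit {G X : Type*} [Group G] (act : G → X → X)
    (h1 : ∀ x, act 1 x = x) (hmul : ∀ g h x, act (g * h) x = act g (act h x)) (x₀ : X)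
    (S : Subgroup G) (hS : ∀ g, g ∈ S ↔ act g x₀ = x₀) (O : Set X)
    (hO : ∀ x, x ∈ O ↔ ∃ g, act g x₀ = x) : Nat.card G = Nat.card S * Nat.card O := by
  letI : MulAction G X := { smul := act, one_smul := h1, mul_smul := hmul }
  have h3 := Subgroup.card_mul_index (MulAction.stabilizer G x₀)
  have h4 := MulAction.index_stabilizer G x₀
  have hS' : S = MulAction.stabilizer G x₀ := by
    ext g
    rw [hS, MulAction.mem_stabilizer_iff]
    rfl
  have hO' : O = MulAction.orbit G x₀ := by
    ext x
    rw [hO]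
    rfl
  rw [hS', hO', ← h3, h4]
  rfl

variable {F : Type*} [Field F] {m : ℕ}

local notation "Sp" => Matrix.symplecticGroup (Fin m) F
local notation "ff" => Cfsg.sympForm m F
local notation "VV" => (Fin m ⊕ Fin m → F)
local notation "MM" => Matrix (Fin m ⊕ Fin m) (Fin m ⊕ Fin m) F

/-- the pointwise stabiliser of a family of vectors -/
def PStab {ι : Type*} (w : ι → VV) : Subgroup Sp where
  carrier := {g | ∀ i, (g : MM) *ᵥ w i = w i}
  mul_mem' := by
    intro a b ha hb i
    rw [mul_mulVec, hb i, ha i]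
  one_mem' := fun i => one_mulVec' _
  inv_mem' := by
    intro a ha i
    have := inv_mulVec_mulVec a (w i)
    rw [ha i] at this
    exact this

theorem mem_PStab {ι : Type*} (w : ι → VV) (g : Sp) :
    g ∈ PStab w ↔ ∀ i, (g : MM) *ᵥ w i = w i := Iff.rfl

theorem sp_mulVec_inj (g : Sp) : Function.Injective (fun v : VV => (g : MM) *ᵥ v) := by
  intro u v huv
  have := congrArg (fun x => ((g⁻¹ : Sp) : MM) *ᵥ x) huv
  simp only [inv_mulVec_mulVec] at this
  exact this

theorem li_smul_sp {ι : Type*} (g : Sp) (b : ι → VV) (hb : LinearIndependent F b) :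
    LinearIndependent F (fun i => (g : MM) *ᵥ b i) := by
  have hker : LinearMap.ker (Matrix.toLin' (g : MM)) = ⊥ := by
    rw [LinearMap.ker_eq_bot]
    intro u v huv
    rw [Matrix.toLin'_apply, Matrix.toLin'_apply] at huv
    exact sp_mulVec_inj g huv
  have := hb.map' (Matrix.toLin' (g : MM)) hker
  have e : (fun i => (g : MM) *ᵥ b i) = ⇑(Matrix.toLin' (g : MM)) ∘ b := by
    funext i
    rw [Function.comp_apply, Matrix.toLin'_apply]
  rw [e]
  exact this

theorem isFrameSp_smul {ι : Type*} (g : Sp) (b : ι → VV) (hb : IsFrameSp b) :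
    IsFrameSp (fun i => (g : MM) *ᵥ b i) :=
  ⟨li_smul_sp g b hb.1, fun i j => by
    rw [Cfsg.Agent.S0766.sympForm_mulVec]; exact hb.2 i j⟩

/-- step B: the order of the pointwise stabiliser of a frame -/
theorem card_sp_frames {ι : Type*} (w : ι → VV) (hw : IsFrameSp w) :
    Nat.card Sp = Nat.card (PStab w) * Nat.card (FrSp m F ι) := by
  have := card_eq_stab_mul_orbit (G := Sp) (X := ι → VV)
    (fun g b => fun i => (g : MM) *ᵥ b i)
    (fun b => funext fun i => one_mulVec' _)
    (fun g h b => funext fun i => mul_mulVec g h _) w (PStab w)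
    (fun g => by
      rw [mem_PStab]
      constructor
      · exact fun h => funext h
      · exact fun h i => congrFun h i)
    {b | IsFrameSp b}
    (fun b => by
      constructor
      · intro hb
        obtain ⟨g, hg⟩ := frame_trans_sp w b hw.1 hw.2 hb.1 hb.2
        exact ⟨g, funext hg⟩
      · rintro ⟨g, rfl⟩
        exact isFrameSp_smul g w hw)
  rw [this]
  rfl

/-- the frames giving the same involution -/
def FibSp {ι : Type*} [Fintype ι] (σ : ι → ι) (t : Sp) : Set (ι → VV) :=
  {w | LinearIndependent F w ∧ (∀ i, ∃ y, w i = NNs t *ᵥ y) ∧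
    ∀ x, NNs t *ᵥ x = ∑ i, ff x (w (σ i)) • w i}

theorem N_comm (g t : Sp) (hg : g * t = t * g) (x : VV) :
    (g : MM) *ᵥ (NNs t *ᵥ x) = NNs t *ᵥ ((g : MM) *ᵥ x) := by
  rw [NNs_mulVec, NNs_mulVec, Matrix.mulVec_sub, ← mul_mulVec, hg, mul_mulVec]

/-- step C: the centraliser acts transitively on the fibre -/
theorem card_centralizer_fib [CharP F 2] {ι : Type*} [Fintype ι] (σ : ι → ι) (t : Sp)
    (ht : t * t = 1) (w : ι → VV) (hw : w ∈ FibSp σ t) :
    Nat.card (Subgroup.centralizer ({t} : Set Sp)) =
      Nat.card (PStab w) * Nat.card (FibSp σ t) := by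
  obtain ⟨hLI, hwr, hwf⟩ := hw
  have hle : PStab w ≤ Subgroup.centralizer ({t} : Set Sp) := by
    intro g hg
    rw [Subgroup.mem_centralizer_singleton_iff]
    have := conj_of_form σ t t g w w hg hwf hwf
    calc g * t = (g * t * g⁻¹) * g := by group
      _ = t * g := by rw [this]
  have := card_eq_stab_mul_orbit (G := ↥(Subgroup.centralizer ({t} : Set Sp))) (X := ι → VV)
    (fun g b => fun i => ((g : Sp) : MM) *ᵥ b i)
    (fun b => funext fun i => one_mulVec' _)
    (fun g h b => funext fun i => mul_mulVec (g : Sp) (h : Sp) _) w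
    ((PStab w).subgroupOf (Subgroup.centralizer ({t} : Set Sp)))
    (fun g => by
      rw [Subgroup.mem_subgroupOf, mem_PStab]
      constructor
      · exact fun h => funext h
      · exact fun h i => congrFun h i)
    (FibSp σ t)
    (fun b => by
      constructor
      · rintro ⟨hbLI, hbr, hbf⟩
        have hiso := iso_of_range t ht w hwr
        have hiso' := iso_of_range t ht b hbr
        obtain ⟨g, hg⟩ := frame_trans_sp w b hLI hiso hbLI hiso'
        have hc := conj_of_form σ t t g w b hg hwf hbf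
        refine ⟨⟨g, ?_⟩, funext hg⟩
        rw [Subgroup.mem_centralizer_singleton_iff]
        calc g * t = (g * t * g⁻¹) * g := by group
          _ = t * g := by rw [hc]
      · rintro ⟨⟨g, hg⟩, rfl⟩
        rw [Subgroup.mem_centralizer_singleton_iff] at hg
        refine ⟨li_smul_sp g w hLI, fun i => ?_, fun x => ?_⟩
        · obtain ⟨y, hy⟩ := hwr i
          exact ⟨(g : MM) *ᵥ y, by
            show (g : MM) *ᵥ w i = _
            rw [hy, N_comm g t hg]⟩
        · show NNs t *ᵥ x = ∑ i, ff x ((g : MM) *ᵥ w (σ i)) • ((g : MM) *ᵥ w i)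
          have h1 : x = (g : MM) *ᵥ (((g⁻¹ : Sp) : MM) *ᵥ x) := (mulVec_inv_mulVec g x).symm
          conv_lhs => rw [h1]
          rw [← N_comm g t hg, hwf, Matrix.mulVec_sum]
          apply Finset.sum_congr rfl
          intro i _
          rw [Matrix.mulVec_smul, ff_inv])
  rw [this, Nat.card_congr (Subgroup.subgroupOfEquivOfLe hle).toEquiv]

end Cfsg.Agent.helper29.SpInv
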