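import Mathlib
import Cfsg.Agent.Lib_helper29_SpC2

set_option autoImplicit false
set_option linter.unusedSectionVars false
set_option linter.unusedVariables false
namespace Cfsg.Agent.helper29.SpInv
open Matrix Cfsg.Agent.helper4 Cfsg.Agent.S0245 Cfsg.Agent.S2594 Cfsg.Agent.S0440 Cfsg.Agent.helper29

variable {F : Type*} [Field F] {m : ℕ}

local notation "Sp" => Matrix.symplecticGroup (Fin m) F
local notation "ff" => Cfsg.sympForm m F
local notation "VV" => (Fin m ⊕ Fin m → F)
local notation "MM" => Matrix (Fin m ⊕ Fin m) (Fin m ⊕ Fin m) F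

/-- the permutation matrix of `σ` -/
def Qm {ι : Type*} [DecidableEq ι] (σ : ι → ι) : Matrix ι ι F :=
  Matrix.of fun l j => if l = σ j then 1 else 0

theorem Qm_apply {ι : Type*} [DecidableEq ι] (σ : ι → ι) (l j : ι) :
    (Qm σ : Matrix ι ι F) l j = if l = σ j then 1 else 0 := rfl

theorem AQAt_apply {ι : Type*} [Fintype ι] [DecidableEq ι] (σ : ι → ι) (A : Matrix ι ι F)
    (i k : ι) : (A * (Qm σ : Matrix ι ι F) * Aᵀ) i k = ∑ j, A i (σ j) * A k j := by
  rw [Matrix.mul_apply]
  apply Finset.sum_congr rfl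
  intro j _
  rw [Matrix.mul_apply, Matrix.transpose_apply]
  congr 1
  rw [Finset.sum_eq_single (σ j)]
  · rw [Qm_apply, if_pos rfl, mul_one]
  · intro l _ hl
    rw [Qm_apply, if_neg hl, mul_zero]
  · intro h
    exact absurd (Finset.mem_univ _) h

theorem Qm_sq {ι : Type*} [Fintype ι] [DecidableEq ι] (σ : ι → ι) (hσ : ∀ i, σ (σ i) = i) :
    (Qm σ : Matrix ι ι F) * Qm σ = 1 := by
  ext i k
  rw [Matrix.mul_apply, Finset.sum_eq_single (σ k)]
  · rw [Qm_apply, Qm_apply, if_pos rfl, mul_one, Matrix.one_apply]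
    by_cases h : i = k
    · rw [if_pos h, if_pos (by rw [hσ]; exact h)]
    · rw [if_neg h, if_neg (by rw [hσ]; exact h)]
  · intro l _ hl
    rw [Qm_apply σ l k, if_neg hl, mul_zero]
  · intro h
    exact absurd (Finset.mem_univ _) h

/-- the family `w A` -/
def wA {ι : Type*} [Fintype ι] (w : ι → VV) (A : Matrix ι ι F) (j : ι) : VV :=
  ∑ i, A i j • w i

/-- the map attached to a matrix `M` -/
def NM {ι : Type*} [Fintype ι] (w : ι → VV) (M : Matrix ι ι F) (x : VV) : VV :=
  ∑ k, (∑ i, M i k * ff x (w i)) • w k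

theorem ff_wA {ι : Type*} [Fintype ι] (w : ι → VV) (A : Matrix ι ι F) (x : VV) (j : ι) :
    ff x (wA w A j) = ∑ i, A i j * ff x (w i) := by
  unfold wA
  rw [ff_sum_right]
  apply Finset.sum_congr rfl
  intro i _
  rw [sympForm_smul_right]

theorem form_wA {ι : Type*} [Fintype ι] [DecidableEq ι] (σ : ι → ι) (w : ι → VV)
    (A : Matrix ι ι F) (x : VV) :
    ∑ j, ff x (wA w A (σ j)) • wA w A j = NM w (A * Qm σ * Aᵀ) x := by
  unfold NM
  have h1 : ∀ j, ff x (wA w A (σ j)) • wA w A j =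
      ∑ k, ((∑ i, A i (σ j) * ff x (w i)) * A k j) • w k := by
    intro j
    rw [ff_wA]
    unfold wA
    rw [Finset.smul_sum]
    apply Finset.sum_congr rfl
    intro k _
    rw [smul_smul]
  rw [Finset.sum_congr rfl (fun j _ => h1 j), Finset.sum_comm]
  apply Finset.sum_congr rfl
  intro k _
  rw [← Finset.sum_smul]
  congr 1
  simp only [AQAt_apply, Finset.sum_mul]
  rw [Finset.sum_comm]
  apply Finset.sum_congr rfl
  intro i _
  apply Finset.sum_congr rfl
  intro j _
  ring

theorem NM_Qm {ι : Type*} [Fintype ι] [DecidableEq ι] (σ : ι → ι) (w : ι → VV) (x : VV) :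
    NM w (Qm σ) x = ∑ k, ff x (w (σ k)) • w k := by
  unfold NM
  apply Finset.sum_congr rfl
  intro k _
  congr 1
  rw [Finset.sum_eq_single (σ k)]
  · rw [Qm_apply, if_pos rfl, one_mul]
  · intro l _ hl
    rw [Qm_apply, if_neg hl, zero_mul]
  · intro h
    exact absurd (Finset.mem_univ _) h

theorem li_coeff_eq {ι : Type*} [Fintype ι] (w : ι → VV) (hLI : LinearIndependent F w)
    (c d : ι → F) (h : ∑ i, c i • w i = ∑ i, d i • w i) : c = d := by
  rw [Fintype.linearIndependent_iff] at hLI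
  funext i
  have h1 : ∑ i, (c i - d i) • w i = 0 := by
    simp only [sub_smul, Finset.sum_sub_distrib]
    rw [h, sub_self]
  exact sub_eq_zero.mp (hLI _ h1 i)

theorem NM_inj {ι : Type*} [Fintype ι] [DecidableEq ι] (σ : Equiv.Perm ι) (w : ι → VV)
    (hLI : LinearIndependent F w) (y : ι → VV)
    (hy : ∀ l i, ff (y l) (w i) = if i = σ l then 1 else 0)
    (M M' : Matrix ι ι F) (h : ∀ x, NM w M x = NM w M' x) : M = M' := by
  have key : ∀ (M : Matrix ι ι F) (l : ι), NM w M (y l) = ∑ k, M (σ l) k • w k := by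
    intro M l
    unfold NM
    apply Finset.sum_congr rfl
    intro k _
    congr 1
    rw [Finset.sum_eq_single (σ l)]
    · rw [hy, if_pos rfl, mul_one]
    · intro i _ hi
      rw [hy, if_neg hi, mul_zero]
    · intro h
      exact absurd (Finset.mem_univ _) h
  ext i k
  have h1 := h (y (σ.symm i))
  rw [key, key, Equiv.apply_symm_apply] at h1
  exact congrFun (li_coeff_eq w hLI _ _ h1) k

theorem wA_li {ι : Type*} [Fintype ι] [DecidableEq ι] (w : ι → VV)
    (hLI : LinearIndependent F w) (A : Matrix ι ι F) (hA : IsUnit A) :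
    LinearIndependent F (wA w A) := by
  rw [Fintype.linearIndependent_iff]
  intro c hc
  have h1 : ∑ j, c j • wA w A j = ∑ i, (A *ᵥ c) i • w i := by
    unfold wA
    simp only [Finset.smul_sum, smul_smul]
    rw [Finset.sum_comm]
    apply Finset.sum_congr rfl
    intro i _
    rw [← Finset.sum_smul]
    congr 1
    rw [Matrix.mulVec, dotProduct]
    apply Finset.sum_congr rfl
    intro j _
    ring
  rw [h1] at hc
  rw [Fintype.linearIndependent_iff] at hLI
  have h2 : A *ᵥ c = 0 := funext (hLI _ hc)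
  have h3 := Matrix.mulVec_injective_of_isUnit hA
  have h4 : A *ᵥ c = A *ᵥ 0 := by rw [h2, Matrix.mulVec_zero]
  intro i
  rw [h3 h4]
  rfl

theorem isUnit_of_AQAt {ι : Type*} [Fintype ι] [DecidableEq ι] (σ : ι → ι)
    (hσ : ∀ i, σ (σ i) = i) (A : Matrix ι ι F) (hA : A * Qm σ * Aᵀ = Qm σ) : IsUnit A := by
  have h1 : A * (Qm σ * Aᵀ * Qm σ) = 1 := by
    rw [← Matrix.mul_assoc, ← Matrix.mul_assoc, hA, Qm_sq σ hσ]
  exact (Matrix.isUnit_iff_isUnit_det A).mpr (Matrix.isUnit_det_of_right_inverse h1)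

/-- step D: the fibre is a torsor for the isometry group of `Q` -/
theorem card_fib [CharP F 2] {ι : Type*} [Fintype ι] [DecidableEq ι] (σ : Equiv.Perm ι)
    (hσ : ∀ i, σ (σ i) = i) (t : Sp) (ht : t * t = 1) (w : ι → VV) (hw : w ∈ FibSp σ t) :
    Nat.card (FibSp σ t) =
      Nat.card {A : Matrix ι ι F // A * Qm σ * Aᵀ = Qm σ} := by
  obtain ⟨hLI, hwr, hwf⟩ := hw
  choose y hy using hwr
  -- the dual vectors
  have hdual : ∀ l i, ff (y l) (w i) = if i = σ l then 1 else 0 := by
    intro l i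
    have h1 := hwf (y l)
    rw [← hy l] at h1
    have h2 : w l = ∑ i, (if i = l then (1 : F) else 0) • w i := by
      rw [Finset.sum_eq_single l]
      · rw [if_pos rfl, one_smul]
      · intro i _ hi
        rw [if_neg hi, zero_smul]
      · intro h
        exact absurd (Finset.mem_univ _) h
    rw [h2] at h1
    have h3 := congrFun (li_coeff_eq w hLI _ _ h1) (σ i)
    rw [hσ] at h3
    rw [← h3]
    by_cases h : i = σ l
    · rw [if_pos h, if_pos (by rw [h, hσ])]
    · rw [if_neg h, if_neg (fun h' => h (by rw [← h', hσ]))]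
  have hform : ∀ x, NNs t *ᵥ x = NM w (Qm σ) x := by
    intro x
    rw [NM_Qm, hwf]
  have hspan : ∀ v, v ∈ Submodule.span F (Set.range w) → ∃ z, v = NNs t *ᵥ z := by
    intro v hv
    induction hv using Submodule.span_induction with
    | mem x hx => obtain ⟨i, rfl⟩ := hx; exact ⟨y i, hy i⟩
    | zero => exact ⟨0, by rw [Matrix.mulVec_zero]⟩
    | add a b _ _ ha hb =>
      obtain ⟨za, rfl⟩ := ha
      obtain ⟨zb, rfl⟩ := hb
      exact ⟨za + zb, by rw [Matrix.mulVec_add]⟩
    | smul c a _ ha =>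
      obtain ⟨za, rfl⟩ := ha
      exact ⟨c • za, by rw [Matrix.mulVec_smul]⟩
  have hmem : ∀ A : {A : Matrix ι ι F // A * Qm σ * Aᵀ = Qm σ}, wA w A.1 ∈ FibSp σ t := by
    rintro ⟨A, hA⟩
    refine ⟨wA_li w hLI A (isUnit_of_AQAt σ hσ A hA), fun j => ?_, fun x => ?_⟩
    · apply hspan
      unfold wA
      apply Submodule.sum_mem
      intro i _
      exact Submodule.smul_mem _ _ (Submodule.subset_span ⟨i, rfl⟩)
    · rw [form_wA σ w A x, hA, hform]
  symm
  have hbij : Function.Bijective (fun A : {A : Matrix ι ι F // A * Qm σ * Aᵀ = Qm σ} =>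
      (⟨wA w A.1, hmem A⟩ : {b : ι → VV // b ∈ FibSp σ t})) := ?_
  · exact Nat.card_eq_of_bijective _ hbij
  constructor
  · rintro ⟨A, hA⟩ ⟨A', hA'⟩ hAA
    have h1 : wA w A = wA w A' := congrArg Subtype.val hAA
    apply Subtype.ext
    ext i j
    have h2 := congrFun h1 j
    unfold wA at h2
    exact congrFun (li_coeff_eq w hLI _ _ h2) i
  · rintro ⟨w', hw'LI, hw'r, hw'f⟩
    have hw'r2 := hw'r
    choose z hz using hw'r2
    obtain ⟨A, hA⟩ : ∃ A : Matrix ι ι F, A = Matrix.of fun i j => ff (z j) (w (σ i)) := ⟨_, rfl⟩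
    have hwA : wA w A = w' := by
      funext j
      unfold wA
      rw [hz j, hwf (z j), hA]
      rfl
    have hAQ : A * Qm σ * Aᵀ = Qm σ := by
      apply NM_inj σ w hLI y hdual
      intro x
      rw [← form_wA σ w A x, hwA, ← hw'f, hform]
    refine ⟨⟨A, hAQ⟩, ?_⟩
    apply Subtype.ext
    exact hwA

end Cfsg.Agent.helper29.SpInv
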