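import Mathlib
import Cfsg.Agent.Lib_helper29_SpC3

set_option autoImplicit false
set_option linter.unusedSectionVars false
set_option linter.unusedVariables false
namespace Cfsg.Agent.helper29.SpInv
open Matrix Cfsg.Agent.helper4 Cfsg.Agent.S0245 Cfsg.Agent.S2594 Cfsg.Agent.S0440 Cfsg.Agent.helper29

/-- the order of `Sp_{2k}(q)` -/
def spN (q k : ℕ) : ℕ := q ^ (k ^ 2) * ∏ i ∈ Finset.range k, (q ^ (2 * (i + 1)) - 1)

/-- the number of isotropic frames of length `s` in the symplectic space of dimension `2m` -/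
def frN (q m s : ℕ) : ℕ := ∏ i ∈ Finset.range s, (q ^ (2 * m - i) - q ^ i)

theorem spN_succ (q k : ℕ) :
    spN q (k + 1) = q ^ (2 * k + 1) * spN q k * (q ^ (2 * (k + 1)) - 1) := by
  unfold spN
  rw [Finset.prod_range_succ, show (k + 1) ^ 2 = (2 * k + 1) + k ^ 2 by ring, pow_add]
  ring

theorem frN_succ (q m s : ℕ) (hs : s ≤ m) :
    frN q m (s + 1) = frN q m s * (q ^ s * (q ^ (2 * (m - s)) - 1)) := by
  unfold frN
  rw [Finset.prod_range_succ]
  congr 1
  rw [Nat.mul_sub, mul_one, ← pow_add]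
  congr 2
  omega

theorem frN_pos (q m : ℕ) (hq : 2 ≤ q) : ∀ s, s ≤ m → 0 < frN q m s := by
  intro s hs
  unfold frN
  apply Finset.prod_pos
  intro i hi
  rw [Finset.mem_range] at hi
  have : q ^ i < q ^ (2 * m - i) := Nat.pow_lt_pow_right hq (by omega)
  omega

theorem key_arith (q m : ℕ) (hq : 1 ≤ q) : ∀ s, s ≤ m →
    q ^ (2 * m * s - (3 * s ^ 2 - s) / 2) * spN q (m - s) * frN q m s = spN q m := by
  intro s
  induction s with
  | zero =>
    intro _
    simp [frN]
  | succ s ih =>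
    intro hs
    have ih' := ih (by omega)
    have h1 : m - s = (m - (s + 1)) + 1 := by omega
    rw [h1, spN_succ] at ih'
    rw [frN_succ q m s (by omega), ← ih']
    have h2 : 2 * (m - (s + 1) + 1) = 2 * (m - s) := by omega
    rw [h2]
    have hE : 2 * m * (s + 1) - (3 * (s + 1) ^ 2 - (s + 1)) / 2 + s =
        2 * m * s - (3 * s ^ 2 - s) / 2 + (2 * (m - (s + 1)) + 1) := by
      obtain ⟨c, hc⟩ : ∃ c, s * s + s = 2 * c := by
        have := Nat.even_mul_succ_self s
        obtain ⟨c, hc⟩ := this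
        exact ⟨c, by rw [← two_mul] at hc; rw [← hc]; ring⟩
      have h3 : s * s ≤ m * s := Nat.mul_le_mul_right s (by omega)
      have h4 : s ≤ s * s := Nat.le_mul_self s
      have e1 : (s + 1) ^ 2 = s * s + 2 * s + 1 := by ring
      have e2 : s ^ 2 = s * s := by ring
      have e3 : 2 * m * (s + 1) = 2 * (m * s) + 2 * m := by ring
      have e4 : 2 * m * s = 2 * (m * s) := by ring
      rw [e1, e2, e3, e4]
      generalize s * s = s2 at *
      generalize m * s = ms at *
      omega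
    have hpow : q ^ (2 * m * (s + 1) - (3 * (s + 1) ^ 2 - (s + 1)) / 2) * q ^ s =
        q ^ (2 * m * s - (3 * s ^ 2 - s) / 2) * q ^ (2 * (m - (s + 1)) + 1) := by
      rw [← pow_add, ← pow_add, hE]
    calc q ^ (2 * m * (s + 1) - (3 * (s + 1) ^ 2 - (s + 1)) / 2) * spN q (m - (s + 1)) *
          (frN q m s * (q ^ s * (q ^ (2 * (m - s)) - 1)))
        = (q ^ (2 * m * (s + 1) - (3 * (s + 1) ^ 2 - (s + 1)) / 2) * q ^ s) *
          (spN q (m - (s + 1)) * frN q m s * (q ^ (2 * (m - s)) - 1)) := by ring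
      _ = (q ^ (2 * m * s - (3 * s ^ 2 - s) / 2) * q ^ (2 * (m - (s + 1)) + 1)) *
          (spN q (m - (s + 1)) * frN q m s * (q ^ (2 * (m - s)) - 1)) := by rw [hpow]
      _ = _ := by ring

variable {F : Type*} [Field F] {m : ℕ}

local notation "Sp" => Matrix.symplecticGroup (Fin m) F
local notation "ff" => Cfsg.sympForm m F
local notation "VV" => (Fin m ⊕ Fin m → F)
local notation "MM" => Matrix (Fin m ⊕ Fin m) (Fin m ⊕ Fin m) F

/-- the general centraliser formula -/
theorem card_centralizer_general [Fintype F] [CharP F 2] {ι : Type*} [Fintype ι] [DecidableEq ι]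
    (σ : Equiv.Perm ι) (hσ : ∀ i, σ (σ i) = i) (t : Sp) (ht : t * t = 1) (w : ι → VV)
    (hw : w ∈ FibSp σ t) :
    Nat.card (Subgroup.centralizer ({t} : Set Sp)) * Nat.card (FrSp m F ι) =
      Nat.card Sp * Nat.card {A : Matrix ι ι F // A * Qm σ * Aᵀ = Qm σ} := by
  have h1 := card_centralizer_fib σ t ht w hw
  have h2 := card_sp_frames w ⟨hw.1, iso_of_range t ht w hw.2.1⟩
  have h3 := card_fib σ hσ t ht w hw
  rw [h1, h2, h3]
  ring

theorem card_centralizer_general' [Fintype F] [CharP F 2] {q : ℕ} (hF : Fintype.card F = q)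
    {ι : Type*} [Fintype ι] [DecidableEq ι]
    (σ : Equiv.Perm ι) (hσ : ∀ i, σ (σ i) = i) (t : Sp) (ht : t * t = 1) (w : ι → VV)
    (hw : w ∈ FibSp σ t) :
    Nat.card (Subgroup.centralizer ({t} : Set Sp)) =
      q ^ (2 * m * Fintype.card ι - (3 * (Fintype.card ι) ^ 2 - Fintype.card ι) / 2) *
        Nat.card {A : Matrix ι ι F // A * Qm σ * Aᵀ = Qm σ} * spN q (m - Fintype.card ι) := by
  have hq : 2 ≤ q := by
    rw [← hF]
    exact Fintype.one_lt_card
  have hframe : IsFrameSp w := ⟨hw.1, iso_of_range t ht w hw.2.1⟩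
  have hsm : Fintype.card ι ≤ m := by
    have := frame_le (w ∘ (Fintype.equivFin ι).symm)
      ⟨(linearIndependent_equiv (Fintype.equivFin ι).symm).mpr hframe.1, fun i j => hframe.2 _ _⟩
    exact this
  have h1 := card_centralizer_general σ hσ t ht w hw
  rw [card_frSp' hF ι, Cfsg.Agent.S0245.result hF m] at h1
  have h2 := key_arith q m (by omega) (Fintype.card ι) hsm
  have h3 := frN_pos q m hq (Fintype.card ι) hsm
  have e1 : q ^ (m ^ 2) * ∏ i ∈ Finset.range m, (q ^ (2 * (i + 1)) - 1) = spN q m := rfl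
  have e2 : ∏ i ∈ Finset.range (Fintype.card ι), (q ^ (2 * m - i) - q ^ i) =
      frN q m (Fintype.card ι) := rfl
  rw [e1, e2, ← h2] at h1
  apply Nat.eq_of_mul_eq_mul_right h3
  rw [h1]
  ring

end Cfsg.Agent.helper29.SpInv
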