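import Mathlib
import Cfsg.Agent.Lib_helper29_SpC4

set_option autoImplicit false
set_option linter.unusedSectionVars false
set_option linter.unusedVariables false
namespace Cfsg.Agent.helper29.SpInv
open Matrix Cfsg.Agent.helper4 Cfsg.Agent.S0245 Cfsg.Agent.S2594 Cfsg.Agent.S0440 Cfsg.Agent.helper29

variable {F : Type*} [Field F] {m : ℕ}

local notation "Sp" => Matrix.symplecticGroup (Fin m) F
local notation "ff" => Cfsg.sympForm m F
local notation "VV" => (Fin m ⊕ Fin m → F)
local notation "MM" => Matrix (Fin m ⊕ Fin m) (Fin m ⊕ Fin m) F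

theorem spN_fin (q k : ℕ) :
    spN q k = q ^ (k ^ 2) * ∏ i : Fin k, (q ^ (2 * ((i : ℕ) + 1)) - 1) := by
  unfold spN
  rw [Finset.prod_range]

theorem Qm_swap_eq_J [CharP F 2] (k : ℕ) :
    (Qm (Equiv.sumComm (Fin k) (Fin k)) : Matrix (Fin k ⊕ Fin k) (Fin k ⊕ Fin k) F) =
      Matrix.J (Fin k) F := by
  ext i j
  rcases i with a | a <;> rcases j with b | b
  · simp [Qm_apply, Matrix.J]
  · simp [Qm_apply, Matrix.J, Matrix.one_apply, CharTwo.neg_eq]
  · simp [Qm_apply, Matrix.J, Matrix.one_apply]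
  · simp [Qm_apply, Matrix.J]

theorem card_GQ_swap [Fintype F] [CharP F 2] {q : ℕ} (hF : Fintype.card F = q) (k : ℕ) :
    Nat.card {A : Matrix (Fin k ⊕ Fin k) (Fin k ⊕ Fin k) F //
      A * Qm (Equiv.sumComm (Fin k) (Fin k)) * Aᵀ = Qm (Equiv.sumComm (Fin k) (Fin k))} =
      spN q k := by
  rw [Qm_swap_eq_J]
  have := Cfsg.Agent.S0245.result hF k
  unfold spN
  rw [← this]
  apply Nat.card_congr
  exact Equiv.subtypeEquivRight (fun A => by rw [SymplecticGroup.mem_iff])

/-- centraliser order, alternating type -/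
theorem card_centralizer_alt [Fintype F] [CharP F 2] {q : ℕ} (hF : Fintype.card F = q) (t : Sp)
    (ht : t * t = 1) (halt : IsAltInv t) :
    Nat.card (Subgroup.centralizer ({t} : Set Sp)) =
      q ^ (2 * m * (NNs t).rank - (3 * (NNs t).rank ^ 2 - (NNs t).rank) / 2) *
        spN q ((NNs t).rank / 2) * spN q (m - (NNs t).rank) := by
  classical
  obtain ⟨k, w, hLI, hwr, hwf⟩ := normal_II' t ht halt
  have hrank := rank_of_form Sum.swap t w hLI hwr hwf
  have hσ : ∀ i, (Equiv.sumComm (Fin k) (Fin k)) ((Equiv.sumComm (Fin k) (Fin k)) i) = i := by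
    intro i
    cases i <;> rfl
  have hw : w ∈ FibSp (Equiv.sumComm (Fin k) (Fin k)) t := ⟨hLI, hwr, hwf⟩
  have h1 := card_centralizer_general' hF (Equiv.sumComm (Fin k) (Fin k)) hσ t ht w hw
  rw [card_GQ_swap hF k, ← hrank] at h1
  rw [h1]
  have h2 : (NNs t).rank / 2 = k := by
    rw [hrank, Fintype.card_sum, Fintype.card_fin]
    omega
  rw [h2]

end Cfsg.Agent.helper29.SpInv
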