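import Mathlib
import Cfsg.Agent.Lib_helper29_SpC5

set_option autoImplicit false
set_option linter.unusedSectionVars false
set_option linter.unusedVariables false
namespace Cfsg.Agent.helper29.SpInv
open Matrix

variable {F : Type*} [Field F] {n : ℕ}

local notation "WW" => (Fin n → F)

/-- orthonormal families for the dot product -/
def IsON {k : ℕ} (v : Fin k → WW) : Prop := ∀ i j, v i ⬝ᵥ v j = if i = j then 1 else 0

/-- orthonormal families whose sum is not the all-ones vector -/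
def IsGoodON {k : ℕ} (v : Fin k → WW) : Prop := IsON v ∧ ∑ i, v i ≠ 1

theorem dot_self_char2 [CharP F 2] (x : WW) : x ⬝ᵥ x = (x ⬝ᵥ 1) ^ 2 := by
  unfold dotProduct
  rw [sum_pow_char 2]
  apply Finset.sum_congr rfl
  intro i _
  rw [Pi.one_apply, mul_one, pow_two]

theorem sq_eq_one_char2 [CharP F 2] (a : F) : a ^ 2 = 1 ↔ a = 1 := by
  have h2 : (2 : F) = 0 := CharTwo.two_eq_zero
  constructor
  · intro h
    have h1 : (a - 1) ^ 2 = 0 := by linear_combination h - a * h2 + h2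
    have := pow_eq_zero_iff (two_ne_zero) |>.mp h1
    exact sub_eq_zero.mp this
  · rintro rfl
    exact one_pow 2

theorem dot_self_eq_one_iff [CharP F 2] (x : WW) : x ⬝ᵥ x = 1 ↔ x ⬝ᵥ 1 = 1 := by
  rw [dot_self_char2, sq_eq_one_char2]

theorem on_dot_one [CharP F 2] {k : ℕ} (v : Fin k → WW) (hv : IsON v) (i : Fin k) :
    v i ⬝ᵥ 1 = 1 := by
  rw [← dot_self_eq_one_iff, hv i i, if_pos rfl]

theorem on_coeff {k : ℕ} (v : Fin k → WW) (hv : IsON v) (a : Fin k → F) (j : Fin k) :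
    (∑ i, a i • v i) ⬝ᵥ v j = a j := by
  rw [sum_dotProduct, Finset.sum_eq_single j]
  · rw [smul_dotProduct, hv j j, if_pos rfl, smul_eq_mul, mul_one]
  · intro i _ hi
    rw [smul_dotProduct, hv i j, if_neg hi, smul_zero]
  · intro h
    exact absurd (Finset.mem_univ _) h

theorem on_li {k : ℕ} (v : Fin k → WW) (hv : IsON v) : LinearIndependent F v := by
  rw [Fintype.linearIndependent_iff]
  intro a ha j
  have := on_coeff v hv a j
  rw [ha, zero_dotProduct] at this
  exact this.symm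

theorem good_li [CharP F 2] {k : ℕ} (v : Fin k → WW) (hv : IsGoodON v) :
    LinearIndependent F (Fin.cons (1 : WW) v : Fin (k + 1) → WW) := by
  rw [linearIndependent_finCons]
  refine ⟨on_li v hv.1, ?_⟩
  intro hmem
  rw [Submodule.mem_span_range_iff_exists_fun] at hmem
  obtain ⟨a, ha⟩ := hmem
  apply hv.2
  rw [← ha]
  apply Finset.sum_congr rfl
  intro j _
  have h1 := on_coeff v hv.1 a j
  rw [ha, dotProduct_comm, on_dot_one v hv.1 j] at h1
  rw [← h1, one_smul]


theorem card_solutions [Fintype F] {q : ℕ} (hF : Fintype.card F = q) {r : ℕ} (u : Fin r → WW)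
    (hu : LinearIndependent F u) (b : Fin r → F) :
    Nat.card {x : WW // ∀ i, x ⬝ᵥ u i = b i} = q ^ (n - r) := by
  classical
  obtain ⟨M, hM⟩ : ∃ M : Matrix (Fin r) (Fin n) F, M = Matrix.of u := ⟨_, rfl⟩
  have hL : ∀ x i, (M *ᵥ x) i = x ⬝ᵥ u i := by
    intro x i
    rw [hM, Matrix.mulVec, dotProduct_comm]
    rfl
  have hrank : M.rank = r := by
    have h : LinearIndependent F M.row := by rw [hM]; exact hu
    rw [h.rank_matrix, Fintype.card_fin]
  have hsurj : Function.Surjective M.mulVecLin := by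
    rw [← LinearMap.range_eq_top]
    apply Submodule.eq_top_of_finrank_eq
    have : Module.finrank F (LinearMap.range M.mulVecLin) = M.rank := rfl
    rw [this, hrank, Module.finrank_fintype_fun_eq_card, Fintype.card_fin]
  have hker : Module.finrank F (LinearMap.ker M.mulVecLin) = n - r := by
    have h1 := LinearMap.finrank_range_add_finrank_ker M.mulVecLin
    have h2 : Module.finrank F (LinearMap.range M.mulVecLin) = r := hrank
    rw [h2, Module.finrank_fintype_fun_eq_card, Fintype.card_fin] at h1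
    omega
  obtain ⟨x₀, hx₀⟩ := hsurj b
  rw [Matrix.mulVecLin_apply] at hx₀
  have e : {x : WW // ∀ i, x ⬝ᵥ u i = b i} ≃ ↥(LinearMap.ker M.mulVecLin) :=
    { toFun := fun x => ⟨x.1 - x₀, by
        rw [LinearMap.mem_ker, Matrix.mulVecLin_apply, Matrix.mulVec_sub, hx₀]
        funext i
        rw [Pi.sub_apply, hL, x.2 i, sub_self, Pi.zero_apply]⟩
      invFun := fun y => ⟨y.1 + x₀, by
        intro i
        have hy : M *ᵥ y.1 = 0 := by
          have := y.2
          rw [LinearMap.mem_ker, Matrix.mulVecLin_apply] at this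
          exact this
        rw [← hL, Matrix.mulVec_add, hy, hx₀, zero_add]⟩
      left_inv := by
        intro x
        apply Subtype.ext
        simp
      right_inv := by
        intro y
        apply Subtype.ext
        simp }
  rw [Nat.card_congr e, Nat.card_eq_fintype_card, Module.card_eq_pow_finrank (K := F), hF, hker]

theorem card_fiber_on [Fintype F] [CharP F 2] {q : ℕ} (hF : Fintype.card F = q) {k : ℕ}
    (v : Fin k → WW) (hv : IsGoodON v) :
    Nat.card {x : WW // (∀ i, x ⬝ᵥ v i = 0) ∧ x ⬝ᵥ x = 1} = q ^ (n - (k + 1)) := by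
  rw [← card_solutions hF (Fin.cons (1 : WW) v : Fin (k + 1) → WW) (good_li v hv)
    (Fin.cons (1 : F) (fun _ => 0) : Fin (k + 1) → F)]
  apply Nat.card_congr
  apply Equiv.subtypeEquivRight
  intro x
  rw [dot_self_eq_one_iff]
  constructor
  · rintro ⟨h1, h2⟩ i
    refine Fin.cases ?_ (fun j => ?_) i
    · simp only [Fin.cons_zero]
      exact h2
    · simp only [Fin.cons_succ]
      exact h1 j
  · intro h
    refine ⟨fun j => ?_, ?_⟩
    · have := h j.succ
      simp only [Fin.cons_succ] at this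
      exact this
    · have := h 0
      simp only [Fin.cons_zero] at this
      exact this


theorem on_cons_iff {k : ℕ} (x : WW) (v : Fin k → WW) :
    IsON (Fin.cons x v : Fin (k + 1) → WW) ↔
      IsON v ∧ ((∀ i, x ⬝ᵥ v i = 0) ∧ x ⬝ᵥ x = 1) := by
  unfold IsON
  constructor
  · intro h
    refine ⟨fun i j => ?_, fun i => ?_, ?_⟩
    · have := h i.succ j.succ
      simp only [Fin.cons_succ, Fin.succ_inj] at this
      exact this
    · have := h 0 i.succ
      simp only [Fin.cons_zero, Fin.cons_succ] at this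
      rw [this, if_neg (Fin.succ_ne_zero i).symm]
    · have := h 0 0
      simp only [Fin.cons_zero] at this
      rw [this, if_pos trivial]
  · rintro ⟨h1, h2, h3⟩ i j
    refine Fin.cases ?_ (fun i' => ?_) i
    · refine Fin.cases ?_ (fun j' => ?_) j
      · simp only [Fin.cons_zero]
        rw [h3, if_pos trivial]
      · simp only [Fin.cons_zero, Fin.cons_succ]
        rw [h2, if_neg (Fin.succ_ne_zero j').symm]
    · refine Fin.cases ?_ (fun j' => ?_) j
      · simp only [Fin.cons_zero, Fin.cons_succ]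
        rw [dotProduct_comm, h2, if_neg (Fin.succ_ne_zero i')]
      · simp only [Fin.cons_succ, Fin.succ_inj]
        exact h1 i' j'

theorem sum_cons {k : ℕ} (x : WW) (v : Fin k → WW) :
    ∑ i, (Fin.cons x v : Fin (k + 1) → WW) i = x + ∑ i, v i := by
  rw [Fin.sum_univ_succ]
  simp only [Fin.cons_zero, Fin.cons_succ]

theorem tail_good [CharP F 2] {k : ℕ} (x : WW) (v : Fin k → WW)
    (h : IsON (Fin.cons x v : Fin (k + 1) → WW)) : IsGoodON v := by
  obtain ⟨h1, h2, h3⟩ := (on_cons_iff x v).mp h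
  refine ⟨h1, fun hsum => ?_⟩
  rw [dot_self_eq_one_iff, ← hsum, dotProduct_sum] at h3
  rw [Finset.sum_eq_zero (fun i _ => h2 i)] at h3
  exact zero_ne_one h3

theorem good_cons_iff [CharP F 2] {k : ℕ} (x : WW) (v : Fin k → WW) :
    IsGoodON (Fin.cons x v : Fin (k + 1) → WW) ↔
      IsGoodON v ∧ (((∀ i, x ⬝ᵥ v i = 0) ∧ x ⬝ᵥ x = 1) ∧ x + ∑ i, v i ≠ 1) := by
  unfold IsGoodON
  rw [sum_cons]
  constructor
  · rintro ⟨h1, h2⟩
    exact ⟨tail_good x v h1, ((on_cons_iff x v).mp h1).2, h2⟩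
  · rintro ⟨⟨h1, _⟩, h2, h3⟩
    exact ⟨(on_cons_iff x v).mpr ⟨h1, h2⟩, h3⟩

theorem on_cons_iff' [CharP F 2] {k : ℕ} (x : WW) (v : Fin k → WW) :
    IsON (Fin.cons x v : Fin (k + 1) → WW) ↔
      IsGoodON v ∧ ((∀ i, x ⬝ᵥ v i = 0) ∧ x ⬝ᵥ x = 1) := by
  constructor
  · intro h
    exact ⟨tail_good x v h, ((on_cons_iff x v).mp h).2⟩
  · rintro ⟨⟨h1, _⟩, h2⟩
    exact (on_cons_iff x v).mpr ⟨h1, h2⟩

/-- orthonormal frames -/
def OFr (n : ℕ) (F : Type*) [Field F] (k : ℕ) : Type _ := {v : Fin k → (Fin n → F) // IsON v}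

/-- good orthonormal frames -/
def GFr (n : ℕ) (F : Type*) [Field F] (k : ℕ) : Type _ :=
  {v : Fin k → (Fin n → F) // IsGoodON v}

noncomputable instance [Fintype F] (k : ℕ) : Finite (OFr n F k) := by
  unfold OFr
  infer_instance

noncomputable instance [Fintype F] (k : ℕ) : Finite (GFr n F k) := by
  unfold GFr
  infer_instance

noncomputable def oFrEquiv [CharP F 2] (k : ℕ) :
    OFr n F (k + 1) ≃ Σ v : GFr n F k,
      {x : WW // (∀ i, x ⬝ᵥ v.1 i = 0) ∧ x ⬝ᵥ x = 1} where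
  toFun c := ⟨⟨Fin.tail c.1, ((on_cons_iff' (c.1 0) (Fin.tail c.1)).mp
      (by rw [Fin.cons_self_tail]; exact c.2)).1⟩,
    ⟨c.1 0, ((on_cons_iff' (c.1 0) (Fin.tail c.1)).mp
      (by rw [Fin.cons_self_tail]; exact c.2)).2⟩⟩
  invFun s := ⟨Fin.cons s.2.1 s.1.1, (on_cons_iff' _ _).mpr ⟨s.1.2, s.2.2⟩⟩
  left_inv c := by
    apply Subtype.ext
    exact Fin.cons_self_tail c.1
  right_inv s := by
    obtain ⟨⟨b, hb⟩, ⟨x, hx⟩⟩ := s
    exact sigma_subtype_ext' (P := fun (b : GFr n F k) (x : WW) =>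
      (∀ i, x ⬝ᵥ b.1 i = 0) ∧ x ⬝ᵥ x = 1)
      _ _ _ _ _ _ (Subtype.ext (by
        show Fin.tail (Fin.cons x b : Fin (k + 1) → WW) = b
        exact Fin.tail_cons (α := fun _ => WW) x b)) (by
        show (Fin.cons x b : Fin (k + 1) → WW) 0 = x
        exact Fin.cons_zero (α := fun _ => WW) x b)

noncomputable def gFrEquiv [CharP F 2] (k : ℕ) :
    GFr n F (k + 1) ≃ Σ v : GFr n F k,
      {x : WW // ((∀ i, x ⬝ᵥ v.1 i = 0) ∧ x ⬝ᵥ x = 1) ∧ x + ∑ i, v.1 i ≠ 1} where
  toFun c := ⟨⟨Fin.tail c.1, ((good_cons_iff (c.1 0) (Fin.tail c.1)).mp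
      (by rw [Fin.cons_self_tail]; exact c.2)).1⟩,
    ⟨c.1 0, ((good_cons_iff (c.1 0) (Fin.tail c.1)).mp
      (by rw [Fin.cons_self_tail]; exact c.2)).2⟩⟩
  invFun s := ⟨Fin.cons s.2.1 s.1.1, (good_cons_iff _ _).mpr ⟨s.1.2, s.2.2⟩⟩
  left_inv c := by
    apply Subtype.ext
    exact Fin.cons_self_tail c.1
  right_inv s := by
    obtain ⟨⟨b, hb⟩, ⟨x, hx⟩⟩ := s
    exact sigma_subtype_ext' (P := fun (b : GFr n F k) (x : WW) =>
      ((∀ i, x ⬝ᵥ b.1 i = 0) ∧ x ⬝ᵥ x = 1) ∧ x + ∑ i, b.1 i ≠ 1)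
      _ _ _ _ _ _ (Subtype.ext (by
        show Fin.tail (Fin.cons x b : Fin (k + 1) → WW) = b
        exact Fin.tail_cons (α := fun _ => WW) x b)) (by
        show (Fin.cons x b : Fin (k + 1) → WW) 0 = x
        exact Fin.cons_zero (α := fun _ => WW) x b)

end Cfsg.Agent.helper29.SpInv
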