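import Mathlib
import Cfsg.Agent.Lib_helper29_SpC6

set_option autoImplicit false
set_option linter.unusedSectionVars false
set_option linter.unusedVariables false
namespace Cfsg.Agent.helper29.SpInv
open Matrix

variable {F : Type*} [Field F] {n : ℕ}

local notation "WW" => (Fin n → F)

theorem natCast_char2 [CharP F 2] (j : ℕ) : ((j : ℕ) : F) = if Odd j then 1 else 0 := by
  rcases Nat.even_or_odd j with ⟨r, rfl⟩ | ⟨r, rfl⟩
  · rw [if_neg (by rw [Nat.not_odd_iff_even]; exact ⟨r, rfl⟩), Nat.cast_add,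
      CharTwo.add_self_eq_zero]
  · rw [if_pos ⟨r, rfl⟩, Nat.cast_add, Nat.cast_mul, Nat.cast_two, CharTwo.two_eq_zero, zero_mul,
      zero_add, Nat.cast_one]

theorem one_dot_one : (1 : WW) ⬝ᵥ 1 = (n : F) := by
  unfold dotProduct
  simp

/-- the exceptional vector `1 + Σ v` -/
theorem exc_perp [CharP F 2] {k : ℕ} (v : Fin k → WW) (hv : IsON v) (j : Fin k) :
    ((1 : WW) + ∑ i, v i) ⬝ᵥ v j = 0 := by
  rw [add_dotProduct, dotProduct_comm, on_dot_one v hv j]
  have := on_coeff v hv (fun _ => 1) j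
  simp only [one_smul] at this
  rw [this, CharTwo.add_self_eq_zero]

theorem exc_dot_one [CharP F 2] {k : ℕ} (v : Fin k → WW) (hv : IsON v) :
    ((1 : WW) + ∑ i, v i) ⬝ᵥ 1 = ((n + k : ℕ) : F) := by
  rw [add_dotProduct, one_dot_one, sum_dotProduct,
    Finset.sum_congr rfl (fun i _ => on_dot_one v hv i)]
  simp

theorem card_fiber_good [Fintype F] [CharP F 2] {q : ℕ} (hF : Fintype.card F = q) {k : ℕ}
    (v : Fin k → WW) (hv : IsGoodON v) :
    Nat.card {x : WW // ((∀ i, x ⬝ᵥ v i = 0) ∧ x ⬝ᵥ x = 1) ∧ x + ∑ i, v i ≠ 1} =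
      q ^ (n - (k + 1)) - (if Odd (n + k) then 1 else 0) := by
  classical
  have h1 : Nat.card {x : WW // (∀ i, x ⬝ᵥ v i = 0) ∧ x ⬝ᵥ x = 1} =
      Nat.card {x : WW // ((∀ i, x ⬝ᵥ v i = 0) ∧ x ⬝ᵥ x = 1) ∧ x + ∑ i, v i = 1} +
      Nat.card {x : WW // ((∀ i, x ⬝ᵥ v i = 0) ∧ x ⬝ᵥ x = 1) ∧ x + ∑ i, v i ≠ 1} :=
    card_split' (fun x : WW => (∀ i, x ⬝ᵥ v i = 0) ∧ x ⬝ᵥ x = 1)
      (fun x => x + ∑ i, v i = 1)
  rw [card_fiber_on hF v hv] at h1
  have h2 : Nat.card {x : WW // ((∀ i, x ⬝ᵥ v i = 0) ∧ x ⬝ᵥ x = 1) ∧ x + ∑ i, v i = 1} =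
      if Odd (n + k) then 1 else 0 := by
    have hx : ∀ x : WW, x + ∑ i, v i = 1 ↔ x = 1 + ∑ i, v i := by
      intro x
      constructor
      · intro h
        rw [← h, add_assoc]
        have : ∑ i, v i + ∑ i, v i = 0 := by
          funext j
          exact CharTwo.add_self_eq_zero _
        rw [this, add_zero]
      · intro h
        rw [h, add_assoc]
        have : ∑ i, v i + ∑ i, v i = 0 := by
          funext j
          exact CharTwo.add_self_eq_zero _
        rw [this, add_zero]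
    by_cases hodd : Odd (n + k)
    · rw [if_pos hodd]
      have : Unique {x : WW // ((∀ i, x ⬝ᵥ v i = 0) ∧ x ⬝ᵥ x = 1) ∧ x + ∑ i, v i = 1} :=
        { default := ⟨1 + ∑ i, v i, ⟨fun j => exc_perp v hv.1 j, by
            rw [dot_self_eq_one_iff, exc_dot_one v hv.1, natCast_char2, if_pos hodd]⟩,
            (hx _).mpr rfl⟩
          uniq := fun x => Subtype.ext ((hx _).mp x.2.2) }
      exact Nat.card_unique
    · rw [if_neg hodd]
      have : IsEmpty {x : WW // ((∀ i, x ⬝ᵥ v i = 0) ∧ x ⬝ᵥ x = 1) ∧ x + ∑ i, v i = 1} := by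
        constructor
        rintro ⟨x, ⟨_, h3⟩, h4⟩
        rw [(hx x).mp h4, dot_self_eq_one_iff, exc_dot_one v hv.1, natCast_char2,
          if_neg hodd] at h3
        exact zero_ne_one h3
      exact Nat.card_of_isEmpty
  rw [h2] at h1
  omega

/-- the factor in the recursion -/
def hfac (q n k : ℕ) : ℕ := q ^ (n - (k + 1)) - (if Odd (n + k) then 1 else 0)

theorem card_gFr_succ [Fintype F] [CharP F 2] {q : ℕ} (hF : Fintype.card F = q) (k : ℕ) :
    Nat.card (GFr n F (k + 1)) = Nat.card (GFr n F k) * hfac q n k := by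
  classical
  have : Fintype (GFr n F k) := Fintype.ofFinite _
  rw [Nat.card_congr (gFrEquiv k), Nat.card_sigma]
  rw [Finset.sum_congr rfl (fun b _ => card_fiber_good hF b.1 b.2), Finset.sum_const, smul_eq_mul,
    Finset.card_univ, Nat.card_eq_fintype_card]
  rfl

theorem card_oFr_succ [Fintype F] [CharP F 2] {q : ℕ} (hF : Fintype.card F = q) (k : ℕ) :
    Nat.card (OFr n F (k + 1)) = Nat.card (GFr n F k) * q ^ (n - (k + 1)) := by
  classical
  have : Fintype (GFr n F k) := Fintype.ofFinite _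
  rw [Nat.card_congr (oFrEquiv k), Nat.card_sigma]
  rw [Finset.sum_congr rfl (fun b _ => card_fiber_on hF b.1 b.2), Finset.sum_const, smul_eq_mul,
    Finset.card_univ, Nat.card_eq_fintype_card]

theorem card_gFr_zero (hn : 1 ≤ n) : Nat.card (GFr n F 0) = 1 := by
  have : Unique (GFr n F 0) :=
    { default := ⟨fun i => i.elim0, fun i => i.elim0, by
        rw [Finset.univ_eq_empty, Finset.sum_empty]
        intro h
        have := congrFun h ⟨0, hn⟩
        simp at this⟩
      uniq := fun b => Subtype.ext (funext fun i => i.elim0) }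
  exact Nat.card_unique

theorem card_gFr [Fintype F] [CharP F 2] {q : ℕ} (hF : Fintype.card F = q) (hn : 1 ≤ n) :
    ∀ k : ℕ, Nat.card (GFr n F k) = ∏ i ∈ Finset.range k, hfac q n i
  | 0 => by rw [card_gFr_zero hn, Finset.prod_range_zero]
  | k + 1 => by rw [card_gFr_succ hF, card_gFr hF hn k, Finset.prod_range_succ]

/-- the number of orthonormal bases of `F^(k+1)` -/
theorem card_oFr_full [Fintype F] [CharP F 2] {q : ℕ} (hF : Fintype.card F = q) (k : ℕ) :
    Nat.card (OFr (k + 1) F (k + 1)) = ∏ i ∈ Finset.range k, hfac q (k + 1) i := by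
  rw [card_oFr_succ hF, card_gFr hF (by omega), Nat.sub_self, pow_zero, mul_one]

end Cfsg.Agent.helper29.SpInv
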