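import Mathlib
import Cfsg.Agent.Lib_helper29_SpC7

set_option autoImplicit false
set_option linter.unusedSectionVars false
set_option linter.unusedVariables false
namespace Cfsg.Agent.helper29.SpInv
open Matrix Cfsg.Agent.helper4 Cfsg.Agent.S0245 Cfsg.Agent.S2594 Cfsg.Agent.S0440 Cfsg.Agent.helper29

/-- the order of the orthogonal group of the dot product in characteristic two -/
def PPn (q N : ℕ) : ℕ := ∏ j ∈ Finset.range N, (q ^ (j + 1) - (if Odd j then 1 else 0))

theorem hfac_prod (q k : ℕ) : ∏ i ∈ Finset.range k, hfac q (k + 1) i = PPn q k := by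
  unfold PPn
  rw [← Finset.prod_range_reflect]
  apply Finset.prod_congr rfl
  intro i hi
  rw [Finset.mem_range] at hi
  unfold hfac
  have h1 : k + 1 - (k - 1 - i + 1) = i + 1 := by omega
  have h2 : Odd (k + 1 + (k - 1 - i)) ↔ Odd i := by
    rw [Nat.odd_iff, Nat.odd_iff]
    omega
  rw [h1]
  by_cases h : Odd (k + 1 + (k - 1 - i))
  · rw [if_pos h, if_pos (h2.mp h)]
  · rw [if_neg h, if_neg (fun h' => h (h2.mpr h'))]

theorem PPn_even (q : ℕ) : ∀ k, PPn q (2 * k) = spN q k
  | 0 => by simp [PPn, spN]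
  | k + 1 => by
    have h1 : 2 * (k + 1) = 2 * k + 1 + 1 := by ring
    rw [h1]
    unfold PPn
    rw [Finset.prod_range_succ, Finset.prod_range_succ]
    have ih := PPn_even q k
    unfold PPn at ih
    rw [ih, spN_succ]
    have h2 : ¬ Odd (2 * k) := by rw [Nat.not_odd_iff_even]; exact even_two_mul k
    have h3 : Odd (2 * k + 1) := odd_two_mul_add_one k
    rw [if_neg h2, if_pos h3, Nat.sub_zero]
    have h4 : 2 * k + 1 + 1 = 2 * (k + 1) := by ring
    rw [h4]
    ring

theorem PPn_odd (q k : ℕ) : PPn q (2 * k + 1) = q ^ (2 * k + 1) * spN q k := by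
  have h := PPn_even q k
  unfold PPn at h ⊢
  rw [Finset.prod_range_succ, h]
  have h2 : ¬ Odd (2 * k) := by rw [Nat.not_odd_iff_even]; exact even_two_mul k
  rw [if_neg h2, Nat.sub_zero, mul_comm]

variable {F : Type*} [Field F] {m : ℕ}

local notation "Sp" => Matrix.symplecticGroup (Fin m) F
local notation "ff" => Cfsg.sympForm m F
local notation "VV" => (Fin m ⊕ Fin m → F)
local notation "MM" => Matrix (Fin m ⊕ Fin m) (Fin m ⊕ Fin m) F

theorem Qm_refl (s : ℕ) : (Qm (Equiv.refl (Fin s)) : Matrix (Fin s) (Fin s) F) = 1 := by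
  ext i j
  rw [Qm_apply, Matrix.one_apply]
  rfl

theorem card_GQ_refl [Fintype F] [CharP F 2] {q : ℕ} (hF : Fintype.card F = q) (k : ℕ) :
    Nat.card {A : Matrix (Fin (k + 1)) (Fin (k + 1)) F //
      A * Qm (Equiv.refl (Fin (k + 1))) * Aᵀ = Qm (Equiv.refl (Fin (k + 1)))} = PPn q k := by
  rw [Qm_refl, ← hfac_prod, ← card_oFr_full hF k]
  apply Nat.card_congr
  unfold OFr
  apply Equiv.subtypeEquivRight
  intro A
  rw [Matrix.mul_one]
  unfold IsON
  constructor
  · intro h i j
    have := congrFun (congrFun h i) j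
    rw [Matrix.mul_apply, Matrix.one_apply] at this
    rw [← this]
    rfl
  · intro h
    ext i j
    rw [Matrix.mul_apply, Matrix.one_apply, ← h i j]
    rfl

/-- centraliser order, non-alternating type -/
theorem card_centralizer_nonalt [Fintype F] [CharP F 2] {q : ℕ} (hF : Fintype.card F = q) (t : Sp)
    (ht : t * t = 1) (hna : ¬ IsAltInv t) :
    1 ≤ (NNs t).rank ∧ Nat.card (Subgroup.centralizer ({t} : Set Sp)) =
      q ^ (2 * m * (NNs t).rank - (3 * (NNs t).rank ^ 2 - (NNs t).rank) / 2) *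
        PPn q ((NNs t).rank - 1) * spN q (m - (NNs t).rank) := by
  classical
  obtain ⟨s, w, hLI, hwr, hwf⟩ := normal_I _ t ht hna rfl
  have hrank := rank_of_form id t w hLI hwr hwf
  rw [Fintype.card_fin] at hrank
  have hs : s ≠ 0 := by
    rintro rfl
    apply hna
    intro u
    unfold bet
    rw [hwf u, Finset.univ_eq_empty, Finset.sum_empty, Cfsg.Agent.S0766.sympForm_zero_left]
  obtain ⟨k, rfl⟩ := Nat.exists_eq_succ_of_ne_zero hs
  have hσ : ∀ i, (Equiv.refl (Fin (k + 1))) ((Equiv.refl (Fin (k + 1))) i) = i := fun i => rfl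
  have hw : w ∈ FibSp (Equiv.refl (Fin (k + 1))) t := ⟨hLI, hwr, hwf⟩
  have h1 := card_centralizer_general' hF (Equiv.refl (Fin (k + 1))) hσ t ht w hw
  have hrank' : (NNs t).rank = k + 1 := hrank
  rw [card_GQ_refl hF k, Fintype.card_fin, ← hrank'] at h1
  refine ⟨by omega, ?_⟩
  rw [h1]
  have h2 : (NNs t).rank - 1 = k := by omega
  rw [h2]


theorem exp_arith (m s : ℕ) (hs1 : 1 ≤ s) (hsm : s ≤ m) :
    2 * m * s - (3 * s ^ 2 - s) / 2 + (s - 1) = 2 * m * s - (3 * s ^ 2 - 3 * s) / 2 - 1 := by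
  obtain ⟨c, hc⟩ : ∃ c, s * s + s = 2 * c := by
    have := Nat.even_mul_succ_self s
    obtain ⟨c, hc⟩ := this
    exact ⟨c, by rw [← two_mul] at hc; rw [← hc]; ring⟩
  have h3 : s * s ≤ m * s := Nat.mul_le_mul_right s hsm
  have h4 : s ≤ s * s := Nat.le_mul_self s
  have e2 : s ^ 2 = s * s := by ring
  have e4 : 2 * m * s = 2 * (m * s) := by ring
  rw [e2, e4]
  generalize s * s = s2 at *
  generalize m * s = ms at *
  omega

/-- centraliser order, odd rank -/
theorem card_centralizer_odd [Fintype F] [CharP F 2] {q : ℕ} (hF : Fintype.card F = q) (t : Sp)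
    (ht : t * t = 1) (hodd : Odd (NNs t).rank) :
    Nat.card (Subgroup.centralizer ({t} : Set Sp)) =
      q ^ (2 * m * (NNs t).rank - (3 * (NNs t).rank ^ 2 - (NNs t).rank) / 2) *
        spN q (((NNs t).rank - 1) / 2) * spN q (m - (NNs t).rank) := by
  have hna : ¬ IsAltInv t := by
    intro halt
    have := rank_II t ht halt
    rw [← Nat.not_odd_iff_even] at this
    exact this hodd
  obtain ⟨h1, h2⟩ := card_centralizer_nonalt hF t ht hna
  rw [h2]
  obtain ⟨r, hr⟩ := hodd
  have h3 : (NNs t).rank - 1 = 2 * r := by omega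
  have h4 : 2 * r / 2 = r := by omega
  rw [h3, PPn_even, h4]

/-- centraliser order, even rank, non-alternating -/
theorem card_centralizer_even_nonalt [Fintype F] [CharP F 2] {q : ℕ} (hF : Fintype.card F = q)
    (t : Sp) (ht : t * t = 1) (heven : Even (NNs t).rank) (hna : ¬ IsAltInv t) :
    Nat.card (Subgroup.centralizer ({t} : Set Sp)) =
      q ^ (2 * m * (NNs t).rank - (3 * (NNs t).rank ^ 2 - 3 * (NNs t).rank) / 2 - 1) *
        spN q (((NNs t).rank - 2) / 2) * spN q (m - (NNs t).rank) := by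
  obtain ⟨h1, h2⟩ := card_centralizer_nonalt hF t ht hna
  have hsm := rank_le t ht
  rw [h2]
  obtain ⟨r, hr⟩ := heven
  have h3 : (NNs t).rank - 1 = 2 * (r - 1) + 1 := by omega
  have h4 : ((NNs t).rank - 2) / 2 = r - 1 := by omega
  have h5 : q ^ (2 * m * (NNs t).rank - (3 * (NNs t).rank ^ 2 - (NNs t).rank) / 2 +
      ((NNs t).rank - 1)) =
      q ^ (2 * m * (NNs t).rank - (3 * (NNs t).rank ^ 2 - (NNs t).rank) / 2) *
        q ^ (2 * (r - 1) + 1) := by
    rw [pow_add, h3]
  rw [h3, PPn_odd, h4, ← exp_arith m (NNs t).rank h1 hsm, h5]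
  ring

end Cfsg.Agent.helper29.SpInv
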