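import Mathlib
import Cfsg.Agent.Lib_helper14_SpAutD
import Cfsg.Agent.Lib_helper29_SpC8

set_option autoImplicit false
set_option linter.unusedSectionVars false
set_option linter.unusedVariables false
set_option linter.unusedSimpArgs false

namespace Cfsg.Agent.helper14.SpAut

open Matrix Cfsg.Agent.helper4 Cfsg.Agent.helper29 Cfsg.Agent.helper29.SpRoot
open Cfsg.Agent.helper29.SpInv

section general

theorem card_centralizer_equiv {G H : Type*} [Group G] [Group H] (e : G ≃* H) (x : G) :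
    Nat.card (Subgroup.centralizer ({e x} : Set H)) =
      Nat.card (Subgroup.centralizer ({x} : Set G)) := by
  symm
  apply Nat.card_congr
  refine Equiv.subtypeEquiv e.toEquiv ?_
  intro g
  rw [Subgroup.mem_centralizer_iff, Subgroup.mem_centralizer_iff]
  constructor
  · intro h y hy
    rw [Set.mem_singleton_iff] at hy
    rw [hy]
    have := h x rfl
    show e x * e g = e g * e x
    rw [← map_mul, ← map_mul, this]
  · intro h y hy
    rw [Set.mem_singleton_iff] at hy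
    rw [hy]
    have := h (e x) rfl
    apply e.injective
    rw [map_mul, map_mul]
    exact this

theorem spN_zero (q : ℕ) : spN q 0 = 1 := by
  unfold spN
  simp

theorem spN_one (q : ℕ) : spN q 1 = q * (q ^ 2 - 1) := by
  rw [show (1 : ℕ) = 0 + 1 from rfl, spN_succ, spN_zero]
  simp

theorem spN_pos (q : ℕ) (hq : 2 ≤ q) (k : ℕ) : 0 < spN q k := by
  unfold spN
  apply Nat.mul_pos
  · exact pow_pos (by omega) _
  · apply Finset.prod_pos
    intro i _
    have : 2 ^ (2 * (i + 1)) ≤ q ^ (2 * (i + 1)) := Nat.pow_le_pow_left hq _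
    have h2 : 2 ≤ 2 ^ (2 * (i + 1)) := by
      calc 2 = 2 ^ 1 := by norm_num
        _ ≤ 2 ^ (2 * (i + 1)) := Nat.pow_le_pow_right (by norm_num) (by omega)
    omega

end general

variable {F : Type*} [Field F] {m : ℕ}

local notation "Sp" => Matrix.symplecticGroup (Fin m) F
local notation "ff" => Cfsg.sympForm m F
local notation "VV" => (Fin m ⊕ Fin m → F)
local notation "MM" => Matrix (Fin m ⊕ Fin m) (Fin m ⊕ Fin m) F

theorem NNs_mulVec_eq (u : Sp) (x : VV) : NNs u *ᵥ x = act u x - x := by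
  rw [NNs_mulVec]
  rfl

theorem pm_injective_char2 [CharP F 2] (hm : 1 ≤ m) :
    Function.Injective (pm : Sp → Cfsg.PSp m F) := by
  intro s s' h
  obtain ⟨z, hz, rfl⟩ := (mk_eq_iff s s').mp h
  obtain ⟨c, hc, hzc⟩ := center_act hm z hz
  have hc1 : c = 1 := by
    have h2 : (2 : F) = 0 := CharTwo.two_eq_zero
    have h3 : (c - 1) * (c - 1) = 0 := by linear_combination hc - c * h2 + h2
    exact sub_eq_zero.mp (mul_self_eq_zero.mp h3)
  have hz1 : z = 1 := by
    apply ext_act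
    intro y
    rw [hzc, hc1, one_smul, act_one]
  rw [hz1, mul_one]

theorem rank_le_two_of_mem_Qv (v₀ : VV) (hv₀ : v₀ ≠ 0) (u : Sp) (hu : u ∈ Qv v₀) :
    (NNs u).rank ≤ 2 := by
  classical
  obtain ⟨x0, hx0⟩ := exists_partner v₀ hv₀
  have hx0v : ff x0 v₀ = -1 := by rw [ff_swap, hx0]
  unfold Matrix.rank
  have hle : LinearMap.range (NNs u).mulVecLin ≤
      Submodule.span F ({v₀, act u x0 - x0} : Set VV) := by
    rintro _ ⟨x, rfl⟩
    rw [Matrix.mulVecLin_apply, NNs_mulVec_eq]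
    have hw : ff (x + ff x v₀ • x0) v₀ = 0 := by
      rw [sympForm_add_left, sympForm_smul_left, hx0v]
      ring
    obtain ⟨l, hl⟩ := hu.2 _ hw
    rw [act_add, act_smul] at hl
    have h1 : act u x - x = l • v₀ - ff x v₀ • (act u x0 - x0) := by
      have : act u x = x + ff x v₀ • x0 + l • v₀ - ff x v₀ • act u x0 := by
        rw [← hl]
        abel
      rw [this]
      module
    rw [h1]
    apply Submodule.sub_mem
    · exact Submodule.smul_mem _ _ (Submodule.subset_span (Set.mem_insert _ _))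
    · exact Submodule.smul_mem _ _ (Submodule.subset_span
        (Set.mem_insert_of_mem _ (Set.mem_singleton _)))
  calc Module.finrank F (LinearMap.range (NNs u).mulVecLin)
      ≤ Module.finrank F (Submodule.span F ({v₀, act u x0 - x0} : Set VV)) :=
        Submodule.finrank_mono hle
    _ ≤ 2 := by
        have h2 : ({v₀, act u x0 - x0} : Set VV) = ((({v₀, act u x0 - x0} : Finset VV)) : Set VV) := by
          simp
        rw [h2]
        apply (finrank_span_finset_le_card _).trans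
        exact Finset.card_le_two

theorem tau_of_rank_one [Fintype F] [CharP F 2] (u : Sp) (hu2 : u * u = 1)
    (hr : (NNs u).rank = 1) : ∃ (w : VV) (d : F), w ≠ 0 ∧ d ≠ 0 ∧ u = tau w d := by
  have hna : ¬ IsAltInv u := by
    intro halt
    have := rank_II u hu2 halt
    rw [hr] at this
    exact absurd this (by decide)
  obtain ⟨s, w, hLI, hwr, hform⟩ := normal_I 1 u hu2 hna hr
  have hs : (NNs u).rank = Fintype.card (Fin s) := rank_of_form id u w hLI hwr hform
  rw [hr, Fintype.card_fin] at hs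
  subst hs
  refine ⟨w 0, 1, hLI.ne_zero 0, one_ne_zero, ?_⟩
  apply ext_act
  intro x
  rw [act_tau, one_mul]
  have h1 := hform x
  rw [NNs_mulVec_eq, Fin.sum_univ_one] at h1
  rw [← h1]
  abel

theorem rank_tau (v : VV) (c : F) (hv : v ≠ 0) (hc : c ≠ 0) : (NNs (tau v c)).rank = 1 :=
  Cfsg.Agent.S0440.rank_TT v c hv hc

theorem arith_alt (q k S : ℕ) (hq : 2 ≤ q) (hS : 0 < S)
    (h : q ^ (2 * k + 5) * 1 * (q ^ (2 * (k + 1) + 1) * S * (q ^ (2 * (k + 1 + 1)) - 1)) =
      q ^ (4 * k + 7) * (q * (q ^ 2 - 1)) * S) : False := by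
  have hqpos : 0 < q := by omega
  have h1 : q ^ (2 * k + 5) * 1 * (q ^ (2 * (k + 1) + 1) * S * (q ^ (2 * (k + 1 + 1)) - 1)) =
      (q ^ (4 * k + 8) * S) * (q ^ (2 * k + 4) - 1) := by
    have : q ^ (4 * k + 8) = q ^ (2 * k + 5) * q ^ (2 * (k + 1) + 1) := by
      rw [← pow_add]
      congr 1
      ring
    rw [this, show 2 * (k + 1 + 1) = 2 * k + 4 by ring]
    ring
  have h2 : q ^ (4 * k + 7) * (q * (q ^ 2 - 1)) * S = (q ^ (4 * k + 8) * S) * (q ^ 2 - 1) := by
    have : q ^ (4 * k + 8) = q ^ (4 * k + 7) * q := by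
      rw [← pow_succ]
    rw [this]
    ring
  rw [h1, h2] at h
  have hpos : 0 < q ^ (4 * k + 8) * S := Nat.mul_pos (pow_pos hqpos _) hS
  have h3 := Nat.eq_of_mul_eq_mul_left hpos h
  have h4 : 1 ≤ q ^ 2 := Nat.one_le_pow _ _ hqpos
  have h5 : 1 ≤ q ^ (2 * k + 4) := Nat.one_le_pow _ _ hqpos
  have h6 : q ^ (2 * k + 4) = q ^ 2 := by omega
  have h7 := Nat.pow_right_injective hq h6
  omega

theorem arith_nonalt (q k S : ℕ) (hq : 2 ≤ q) (hS : 0 < S)
    (h : q ^ (2 * k + 5) * 1 * (q ^ (2 * (k + 1) + 1) * S * (q ^ (2 * (k + 1 + 1)) - 1)) =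
      q ^ (4 * k + 8) * 1 * S) : False := by
  have hqpos : 0 < q := by omega
  have h1 : q ^ (2 * k + 5) * 1 * (q ^ (2 * (k + 1) + 1) * S * (q ^ (2 * (k + 1 + 1)) - 1)) =
      (q ^ (4 * k + 8) * S) * (q ^ (2 * k + 4) - 1) := by
    have : q ^ (4 * k + 8) = q ^ (2 * k + 5) * q ^ (2 * (k + 1) + 1) := by
      rw [← pow_add]
      congr 1
      ring
    rw [this, show 2 * (k + 1 + 1) = 2 * k + 4 by ring]
    ring
  have h2 : q ^ (4 * k + 8) * 1 * S = (q ^ (4 * k + 8) * S) * 1 := by ring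
  rw [h1, h2] at h
  have hpos : 0 < q ^ (4 * k + 8) * S := Nat.mul_pos (pow_pos hqpos _) hS
  have h3 := Nat.eq_of_mul_eq_mul_left hpos h
  have h5 : 2 ^ (2 * k + 4) ≤ q ^ (2 * k + 4) := Nat.pow_le_pow_left hq _
  have h6 : 2 ^ 4 ≤ 2 ^ (2 * k + 4) := Nat.pow_le_pow_right (by norm_num) (by omega)
  omega

/-- characteristic two, `m ≥ 3`: automorphisms preserve the transvections -/
theorem aut_tau_even [Fintype F] [CharP F 2] (hm : 3 ≤ m) (β : MulAut (Cfsg.PSp m F))
    (v : VV) (hv : v ≠ 0) (c : F) (hc : c ≠ 0) :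
    ∃ (w : VV) (d : F), w ≠ 0 ∧ d ≠ 0 ∧ β (pm (tau v c)) = pm (tau w d) := by
  classical
  haveI : Fact (Nat.Prime 2) := ⟨Nat.prime_two⟩
  have hm1 : 1 ≤ m := by omega
  obtain ⟨v₀, u, h', δ, hv₀, huv, hcomm, hβ, hδ⟩ := sylow_centre_lift (p := 2) hm1 β v hv c
  have huQ : u ∈ Qv v₀ := mem_Qv_of_comm v₀ hv₀ u huv hcomm
  obtain ⟨t, ht⟩ : ∃ t : Sp, t = tau v₀ c := ⟨_, rfl⟩
  rw [← ht] at hδ
  have ht2 : t * t = 1 := by
    rw [ht, tau_mul, CharTwo.add_self_eq_zero, tau_zero]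
  have hu2 : u * u = 1 := by
    apply pm_injective_char2 hm1
    rw [pm_mul, ← hδ, ← map_mul, ← pm_mul, ht2, pm_one, map_one]
  have hune : u ≠ 1 := by
    rintro rfl
    have h1 : δ (pm t) = δ 1 := by rw [hδ, map_one]; rfl
    have h2 := δ.injective h1
    rw [ht] at h2
    exact pm_tau_ne_one hm1 v₀ hv₀ c hc h2
  -- transport to an automorphism of Sp
  obtain ⟨e0, he0⟩ : ∃ e0 : Sp ≃* Cfsg.PSp m F, ∀ s, e0 s = pm s :=
    ⟨MulEquiv.ofBijective (QuotientGroup.mk' _)
      ⟨pm_injective_char2 hm1, QuotientGroup.mk'_surjective _⟩, fun s => rfl⟩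
  obtain ⟨e, he⟩ : ∃ e : Sp ≃* Sp, e = e0.trans (δ.trans e0.symm) := ⟨_, rfl⟩
  have het : e t = u := by
    rw [he]
    show e0.symm (δ (e0 t)) = u
    rw [he0, hδ, ← he0, MulEquiv.symm_apply_apply]
  have hcard : Nat.card (Subgroup.centralizer ({u} : Set Sp)) =
      Nat.card (Subgroup.centralizer ({t} : Set Sp)) := by
    rw [← het]
    exact card_centralizer_equiv e t
  have hrt : (NNs t).rank = 1 := by rw [ht]; exact rank_tau v₀ c hv₀ hc
  have hru2 : (NNs u).rank ≤ 2 := rank_le_two_of_mem_Qv v₀ hv₀ u huQ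
  have hru1 : 1 ≤ (NNs u).rank := rank_pos u hune
  obtain ⟨q, hq⟩ : ∃ q : ℕ, Fintype.card F = q := ⟨_, rfl⟩
  have hq2 : 2 ≤ q := by
    rw [← hq]
    exact Fintype.one_lt_card
  have hCt := card_centralizer_odd hq t ht2 (by rw [hrt]; exact odd_one)
  rw [hrt] at hCt
  have hfin : ∀ (w : VV) (d : F), w ≠ 0 → d ≠ 0 → u = tau w d →
      ∃ (w : VV) (d : F), w ≠ 0 ∧ d ≠ 0 ∧ β (pm (tau v c)) = pm (tau w d) := by
    intro w d hw hd huw
    refine ⟨act h' w, d, act_ne_zero h' w hw, hd, ?_⟩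
    rw [hβ, huw, conj_tau]
  have hr : (NNs u).rank = 1 ∨ (NNs u).rank = 2 := by omega
  rcases hr with hr | hr
  · obtain ⟨w, d, hw, hd, huw⟩ := tau_of_rank_one u hu2 hr
    exact hfin w d hw hd huw
  · exfalso
    obtain ⟨k, rfl⟩ : ∃ k, m = k + 3 := ⟨m - 3, by omega⟩
    have e1 : 2 * (k + 3) * 1 - (3 * 1 ^ 2 - 1) / 2 = 2 * k + 5 := by norm_num; omega
    have e2 : (1 - 1) / 2 = 0 := by norm_num
    have e3 : k + 3 - 1 = (k + 1) + 1 := by omega
    rw [e1, e2, e3, spN_zero, spN_succ] at hCt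
    by_cases halt : IsAltInv u
    · have hCu := card_centralizer_alt hq u hu2 halt
      rw [hr] at hCu
      have e4 : 2 * (k + 3) * 2 - (3 * 2 ^ 2 - 2) / 2 = 4 * k + 7 := by norm_num; omega
      have e5 : 2 / 2 = 1 := by norm_num
      have e6 : k + 3 - 2 = k + 1 := by omega
      rw [e4, e5, e6, spN_one] at hCu
      rw [hCu, hCt] at hcard
      exact arith_alt q k _ hq2 (spN_pos q hq2 (k + 1)) hcard.symm
    · have hCu := card_centralizer_even_nonalt hq u hu2 (by rw [hr]; exact even_two) halt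
      rw [hr] at hCu
      have e4 : 2 * (k + 3) * 2 - (3 * 2 ^ 2 - 3 * 2) / 2 - 1 = 4 * k + 8 := by norm_num; omega
      have e5 : (2 - 2) / 2 = 0 := by norm_num
      have e6 : k + 3 - 2 = k + 1 := by omega
      rw [e4, e5, e6, spN_zero] at hCu
      rw [hCu, hCt] at hcard
      exact arith_nonalt q k _ hq2 (spN_pos q hq2 (k + 1)) hcard.symm

end Cfsg.Agent.helper14.SpAut
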