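import Mathlib
import Cfsg.Agent.Lib_helper14_SpAutD

set_option autoImplicit false
set_option linter.unusedSectionVars false
set_option linter.unusedVariables false
set_option linter.unusedSimpArgs false

namespace Cfsg.Agent.helper14.SpAut

open Matrix Cfsg.Agent.helper4 Cfsg.Agent.helper29 Cfsg.Agent.helper29.SpRoot

variable {F : Type*} [Field F] {m : ℕ}

local notation "Sp" => Matrix.symplecticGroup (Fin m) F
local notation "ff" => Cfsg.sympForm m F
local notation "VV" => (Fin m ⊕ Fin m → F)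
local notation "MM" => Matrix (Fin m ⊕ Fin m) (Fin m ⊕ Fin m) F

/-- images of transvections commute iff the centres are orthogonal -/
theorem pm_comm_iff (hm : 1 ≤ m) (v w : VV) (c d : F) (hc : c ≠ 0) (hd : d ≠ 0) :
    pm (tau v c) * pm (tau w d) = pm (tau w d) * pm (tau v c) ↔ ff v w = 0 := by
  constructor
  · intro h
    -- s = t t' t⁻¹ has the same class as t'
    have h1 : pm (tau w d) = pm (tau v c * tau w d * (tau v c)⁻¹) := by
      rw [pm_mul, pm_mul, pm_inv, h]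
      group
    rw [conj_tau] at h1
    obtain ⟨z, hz, hs⟩ := (mk_eq_iff _ _).mp h1
    obtain ⟨e, he, hze⟩ := center_act hm z hz
    have h2 : act (tau (act (tau v c) w) d) w = e • w := by
      rw [hs, act_mul, hze, act_smul, act_tau, sympForm_self, mul_zero, zero_smul, add_zero]
    have h3 : ff (act (tau (act (tau v c) w) d) w) w = ff (e • w) w := by rw [h2]
    rw [act_tau, sympForm_add_left, sympForm_smul_left, sympForm_smul_left, sympForm_self,
      mul_zero, zero_add] at h3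
    obtain ⟨a, ha⟩ : ∃ a : F, a = ff w v := ⟨_, rfl⟩
    have h4 : act (tau v c) w = w + (c * a) • v := by rw [act_tau, ha]
    rw [h4, sympForm_add_right, sympForm_add_left, sympForm_smul_right, sympForm_smul_left,
      sympForm_self, ← ha, ff_swap v w, ← ha] at h3
    have h5 : d * (c * a) ^ 2 * a ^ 2 = 0 := by
      linear_combination -h3
    have ha0 : a = 0 := by
      by_contra hne
      have : d * (c * a) ^ 2 * a ^ 2 ≠ 0 :=
        mul_ne_zero (mul_ne_zero hd (pow_ne_zero _ (mul_ne_zero hc hne))) (pow_ne_zero _ hne)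
      exact this h5
    rw [ff_swap, ← ha, ha0, neg_zero]
  · intro h
    rw [← pm_mul, ← pm_mul, tau_comm v w h]

/-- the hypothesis that automorphisms preserve the images of transvections -/
def TauPres (m : ℕ) (F : Type*) [Field F] : Prop :=
  ∀ (β : MulAut (Cfsg.PSp m F)) (v : Fin m ⊕ Fin m → F) (c : F), v ≠ 0 → c ≠ 0 →
    ∃ (w : Fin m ⊕ Fin m → F) (d : F), w ≠ 0 ∧ d ≠ 0 ∧ β (pm (tau v c)) = pm (tau w d)

/-- `β` sends the point spanned by `v` to the point spanned by `w` -/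
def Rel (β : MulAut (Cfsg.PSp m F)) (v w : VV) : Prop :=
  v ≠ 0 ∧ w ≠ 0 ∧ ∃ c d : F, c ≠ 0 ∧ d ≠ 0 ∧ β (pm (tau v c)) = pm (tau w d)

theorem Rel.exists (hT : TauPres m F) (β : MulAut (Cfsg.PSp m F)) (v : VV) (hv : v ≠ 0) :
    ∃ w, Rel β v w := by
  obtain ⟨w, d, hw, hd, h⟩ := hT β v 1 hv one_ne_zero
  exact ⟨w, hv, hw, 1, d, one_ne_zero, hd, h⟩

theorem Rel.symm {β : MulAut (Cfsg.PSp m F)} {v w : VV} (h : Rel β v w) : Rel β⁻¹ w v := by
  obtain ⟨hv, hw, c, d, hc, hd, h1⟩ := h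
  refine ⟨hw, hv, d, c, hd, hc, ?_⟩
  rw [← h1]
  show β⁻¹ (β (pm (tau v c))) = _
  rw [← MulAut.mul_apply, inv_mul_cancel, MulAut.one_apply]

theorem Rel.perp (hm : 1 ≤ m) {β : MulAut (Cfsg.PSp m F)} {v w v' w' : VV} (h : Rel β v w)
    (h' : Rel β v' w') : ff v v' = 0 ↔ ff w w' = 0 := by
  obtain ⟨hv, hw, c, d, hc, hd, h1⟩ := h
  obtain ⟨hv', hw', c', d', hc', hd', h1'⟩ := h'
  rw [← pm_comm_iff hm v v' c c' hc hc', ← pm_comm_iff hm w w' d d' hd hd', ← h1, ← h1',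
    ← map_mul, ← map_mul]
  exact ⟨fun h => by rw [h], fun h => β.injective h⟩

theorem Rel.smul {β : MulAut (Cfsg.PSp m F)} {v w : VV} (h : Rel β v w) (a b : F) (ha : a ≠ 0)
    (hb : b ≠ 0) : Rel β (a • v) (b • w) := by
  obtain ⟨hv, hw, c, d, hc, hd, h1⟩ := h
  refine ⟨smul_ne_zero ha hv, smul_ne_zero hb hw, c / a ^ 2, d / b ^ 2,
    div_ne_zero hc (pow_ne_zero _ ha), div_ne_zero hd (pow_ne_zero _ hb), ?_⟩
  rw [tau_smul, tau_smul, mul_div_cancel₀ _ (pow_ne_zero _ ha),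
    mul_div_cancel₀ _ (pow_ne_zero _ hb), h1]

theorem Rel.unique (hm : 1 ≤ m) (hT : TauPres m F) {β : MulAut (Cfsg.PSp m F)} {v w w' : VV}
    (h : Rel β v w) (h' : Rel β v w') : ∃ a : F, a ≠ 0 ∧ w' = a • w := by
  have hw : w ≠ 0 := h.2.1
  have hw' : w' ≠ 0 := h'.2.1
  have hperp : ∀ y, ff y w = 0 → ff y w' = 0 := by
    intro y hy
    by_cases hy0 : y = 0
    · rw [hy0, ff_zero_left]
    · obtain ⟨x, hx⟩ := Rel.exists hT β⁻¹ y hy0
      have hx' : Rel β x y := by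
        have := hx.symm
        rw [inv_inv] at this
        exact this
      have h1 : ff x v = 0 := (Rel.perp hm hx' h).mpr hy
      exact (Rel.perp hm hx' h').mp h1
  obtain ⟨a, ha⟩ := perp_perp w w' hw hperp
  refine ⟨a, ?_, ha⟩
  rintro rfl
  rw [zero_smul] at ha
  exact hw' ha

theorem Rel.equivariant {β : MulAut (Cfsg.PSp m F)} {v w : VV} (h : Rel β v w) (s s' : Sp)
    (hs : β (pm s) = pm s') : Rel β (act s v) (act s' w) := by
  obtain ⟨hv, hw, c, d, hc, hd, h1⟩ := h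
  refine ⟨act_ne_zero s v hv, act_ne_zero s' w hw, c, d, hc, hd, ?_⟩
  rw [← conj_tau, ← conj_tau, pm_mul, pm_mul, pm_inv, map_mul, map_mul, map_inv, hs, h1]
  rfl

/-- a strengthening: all transvections with centre `v` go to transvections with centre `w` -/
theorem Rel.all (hm : 1 ≤ m) (hT : TauPres m F) {β : MulAut (Cfsg.PSp m F)} {v w : VV}
    (h : Rel β v w) (c : F) (hc : c ≠ 0) : ∃ d : F, d ≠ 0 ∧ β (pm (tau v c)) = pm (tau w d) := by
  obtain ⟨w', d, hw', hd, h1⟩ := hT β v c h.1 hc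
  have h' : Rel β v w' := ⟨h.1, hw', c, d, hc, hd, h1⟩
  obtain ⟨a, ha, hwa⟩ := Rel.unique hm hT h h'
  refine ⟨a ^ 2 * d, mul_ne_zero (pow_ne_zero _ ha) hd, ?_⟩
  rw [h1, hwa, tau_smul]

theorem Rel.comp (hm : 1 ≤ m) (hT : TauPres m F) {β γ : MulAut (Cfsg.PSp m F)} {v w u : VV}
    (h : Rel β v w) (h' : Rel γ w u) : Rel (γ * β) v u := by
  obtain ⟨hv, hw, c, d, hc, hd, h1⟩ := h
  obtain ⟨d', hd', h2⟩ := Rel.all hm hT h' d hd
  refine ⟨hv, h'.2.1, c, d', hc, hd', ?_⟩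
  rw [MulAut.mul_apply, h1, h2]

end Cfsg.Agent.helper14.SpAut
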