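import Mathlib
import Cfsg.Agent.Lib_helper14_SpAutF
import Cfsg.Agent.Lib_helper14_FTPG

set_option autoImplicit false
set_option linter.unusedSectionVars false
set_option linter.unusedVariables false
set_option linter.unusedSimpArgs false

namespace Cfsg.Agent.helper14.SpAut

open Matrix Cfsg.Agent.helper4 Cfsg.Agent.helper29 Cfsg.Agent.helper29.SpRoot

variable {F : Type*} [Field F] {m : ℕ}

local notation "Sp" => Matrix.symplecticGroup (Fin m) F
local notation "ff" => Cfsg.sympForm m F
local notation "VV" => (Fin m ⊕ Fin m → F)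
local notation "MM" => Matrix (Fin m ⊕ Fin m) (Fin m ⊕ Fin m) F

/-- the double orthogonal of a pair of vectors is its span -/
theorem mem_span_pair_of_perp (a b z : VV)
    (h : ∀ y, ff y a = 0 → ff y b = 0 → ff y z = 0) : ∃ α β : F, z = α • a + β • b := by
  have hrefl : (BF m F).IsRefl := (BF_alt (m := m) (F := F)).isRefl
  have h1 := LinearMap.BilinForm.orthogonal_orthogonal (BF_nondeg (m := m) (F := F)) hrefl
    (Submodule.span F ({a, b} : Set VV))
  have h2 : z ∈ (BF m F).orthogonal ((BF m F).orthogonal (Submodule.span F ({a, b} : Set VV))) := by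
    rw [LinearMap.BilinForm.mem_orthogonal_iff]
    intro y hy
    rw [LinearMap.BilinForm.mem_orthogonal_iff] at hy
    show BF m F y z = 0
    rw [BF_apply]
    apply h
    · have := hy a (Submodule.subset_span (Set.mem_insert _ _))
      have h3 : BF m F a y = 0 := this
      rw [BF_apply] at h3
      exact ff_eq_zero_symm h3
    · have := hy b (Submodule.subset_span (Set.mem_insert_of_mem _ (Set.mem_singleton _)))
      have h3 : BF m F b y = 0 := this
      rw [BF_apply] at h3
      exact ff_eq_zero_symm h3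
  rw [h1, Submodule.mem_span_pair] at h2
  obtain ⟨α, β, hαβ⟩ := h2
  exact ⟨α, β, hαβ.symm⟩

/-- a choice of representative of the image point -/
noncomputable def ptMap (hT : TauPres m F) (β : MulAut (Cfsg.PSp m F)) (v : VV) : VV := by
  classical
  exact if h : v ≠ 0 then Classical.choose (Rel.exists hT β v h) else 0

theorem ptMap_rel (hT : TauPres m F) (β : MulAut (Cfsg.PSp m F)) (v : VV) (hv : v ≠ 0) :
    Rel β v (ptMap hT β v) := by
  unfold ptMap
  rw [dif_pos hv]
  exact Classical.choose_spec (Rel.exists hT β v hv)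

theorem Rel.of_inv {β : MulAut (Cfsg.PSp m F)} {v w : VV} (h : Rel β⁻¹ w v) : Rel β v w := by
  have := h.symm
  rw [inv_inv] at this
  exact this

theorem ptMap_coll (hm : 1 ≤ m) (hT : TauPres m F) (β : MulAut (Cfsg.PSp m F)) :
    FTPG.Coll (ptMap hT β) := by
  constructor
  · intro v hv
    exact (ptMap_rel hT β v hv).2.1
  · intro u v a b hu hv hne
    apply mem_span_pair_of_perp
    intro y hyu hyv
    by_cases hy0 : y = 0
    · rw [hy0, ff_zero_left]
    · obtain ⟨y', hy'⟩ := Rel.exists hT β⁻¹ y hy0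
      have hy'' : Rel β y' y := hy'.of_inv
      have h1 : ff y' u = 0 := (Rel.perp hm hy'' (ptMap_rel hT β u hu)).mpr hyu
      have h2 : ff y' v = 0 := (Rel.perp hm hy'' (ptMap_rel hT β v hv)).mpr hyv
      have h3 : ff y' (a • u + b • v) = 0 := by
        rw [sympForm_add_right, sympForm_smul_right, sympForm_smul_right, h1, h2, mul_zero,
          mul_zero, add_zero]
      exact (Rel.perp hm hy'' (ptMap_rel hT β _ hne)).mp h3
  · intro u v hu hv h
    obtain ⟨c, hc⟩ := h
    have hru := ptMap_rel hT β u hu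
    have hrv := ptMap_rel hT β v hv
    have hc0 : c ≠ 0 := by
      rintro rfl
      rw [zero_smul] at hc
      exact hru.2.1 hc
    have h1 : Rel β v (ptMap hT β u) := by
      have := hrv.smul 1 c one_ne_zero hc0
      rw [one_smul, ← hc] at this
      exact this
    obtain ⟨a, ha, hva⟩ := Rel.unique hm hT hru.symm h1.symm
    refine ⟨a⁻¹, ?_⟩
    rw [hva, smul_smul, inv_mul_cancel₀ ha, one_smul]

theorem ptMap_surj (hm : 1 ≤ m) (hT : TauPres m F) (β : MulAut (Cfsg.PSp m F)) (y : VV)
    (hy : y ≠ 0) : ∃ v : VV, v ≠ 0 ∧ ∃ c : F, c ≠ 0 ∧ ptMap hT β v = c • y := by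
  obtain ⟨v, hv⟩ := Rel.exists hT β⁻¹ y hy
  have hv' : Rel β v y := hv.of_inv
  obtain ⟨a, ha, hva⟩ := Rel.unique hm hT hv' (ptMap_rel hT β v hv'.1)
  exact ⟨v, hv'.1, a, ha, hva⟩

/-- the fundamental theorem applied: the point map is induced by a semilinear map -/
theorem exists_semilinear [Fintype F] (hm : 2 ≤ m) (hT : TauPres m F)
    (β : MulAut (Cfsg.PSp m F)) :
    ∃ (σ : F ≃+* F) (g : GL (Fin m ⊕ Fin m) F), ∀ v : VV, v ≠ 0 →
      Rel β v ((g : MM) *ᵥ (σ ∘ v)) := by
  have hm1 : 1 ≤ m := by omega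
  obtain ⟨σ, g, h⟩ := FTPG.ftpg (ptMap_coll hm1 hT β) (ptMap_surj hm1 hT β)
    (Sum.inl ⟨0, by omega⟩) (Sum.inl ⟨1, by omega⟩) (Sum.inr ⟨0, by omega⟩)
    (by
      intro h
      have := Sum.inl.inj h
      rw [Fin.mk.injEq] at this
      omega)
    (by intro h; cases h)
    (by intro h; cases h)
  refine ⟨σ, g, ?_⟩
  intro v hv
  obtain ⟨c, hc, hcv⟩ := h v hv
  have h1 := (ptMap_rel hT β v hv).smul 1 c⁻¹ one_ne_zero (inv_ne_zero hc)
  rw [one_smul, hcv, smul_smul, inv_mul_cancel₀ hc, one_smul] at h1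
  exact h1

end Cfsg.Agent.helper14.SpAut
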