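import Mathlib
import Cfsg.Agent.Lib_helper14_SpAutG
import Cfsg.Agent.Lib_helper13_AutO1
import Cfsg.Prelude.Def_LieTypeDatum

set_option autoImplicit false
set_option linter.unusedSectionVars false
set_option linter.unusedVariables false
set_option linter.unusedSimpArgs false

namespace Cfsg.Agent.helper14.SpAut

open Matrix Cfsg.Agent.helper4 Cfsg.Agent.helper29 Cfsg.Agent.helper29.SpRoot

variable {F : Type*} [Field F] {m : ℕ}

local notation "Sp" => Matrix.symplecticGroup (Fin m) F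
local notation "ff" => Cfsg.sympForm m F
local notation "VV" => (Fin m ⊕ Fin m → F)
local notation "MM" => Matrix (Fin m ⊕ Fin m) (Fin m ⊕ Fin m) F

theorem exists_both_ne (x x' : VV) (hx : x ≠ 0) (hx' : x' ≠ 0) :
    ∃ y, ff x y ≠ 0 ∧ ff x' y ≠ 0 := by
  obtain ⟨y1, hy1⟩ := exists_partner x hx
  obtain ⟨y2, hy2⟩ := exists_partner x' hx'
  by_cases h1 : ff x' y1 = 0
  · by_cases h2 : ff x y2 = 0
    · refine ⟨y1 + y2, ?_, ?_⟩
      · rw [sympForm_add_right, hy1, h2, add_zero]
        exact one_ne_zero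
      · rw [sympForm_add_right, h1, hy2, zero_add]
        exact one_ne_zero
    · refine ⟨y2, h2, ?_⟩
      rw [hy2]
      exact one_ne_zero
  · refine ⟨y1, ?_, h1⟩
    rw [hy1]
    exact one_ne_zero

/-- a semilinear form vanishing wherever the symplectic form does is proportional to it -/
theorem form_prop (hm : 1 ≤ m) (σ : F →+* F) (B : VV → VV → F)
    (hal : ∀ x x' y, B (x + x') y = B x y + B x' y) (hsl : ∀ a x y, B (a • x) y = σ a * B x y)
    (har : ∀ x y y', B x (y + y') = B x y + B x y') (hsr : ∀ a x y, B x (a • y) = σ a * B x y)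
    (hperp : ∀ x y, ff x y = 0 → B x y = 0) : ∃ μ : F, ∀ x y, B x y = μ * σ (ff x y) := by
  -- step a
  have sa : ∀ x y y0, ff x y0 = 1 → B x y = σ (ff x y) * B x y0 := by
    intro x y y0 h0
    have h1 : ff x (y - ff x y • y0) = 0 := by
      rw [sympForm_sub_right, sympForm_smul_right, h0, mul_one, sub_self]
    have h2 := hperp _ _ h1
    have h3 : y = (y - ff x y • y0) + ff x y • y0 := by abel
    rw [h3, har, hsr, h2, zero_add, ← h3]
  have sb : ∀ x y x0, ff x0 y = 1 → B x y = σ (ff x y) * B x0 y := by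
    intro x y x0 h0
    have h1 : ff (x - ff x y • x0) y = 0 := by
      rw [sympForm_sub_left, sympForm_smul_left, h0, mul_one, sub_self]
    have h2 := hperp _ _ h1
    have h3 : x = (x - ff x y • x0) + ff x y • x0 := by abel
    rw [h3, hal, hsl, h2, zero_add, ← h3]
  obtain ⟨e0, he0⟩ : ∃ e0 : VV, e0 ≠ 0 := by
    refine ⟨Pi.single (Sum.inl ⟨0, hm⟩) 1, ?_⟩
    intro h
    have := congrFun h (Sum.inl ⟨0, hm⟩)
    rw [Pi.single_eq_same, Pi.zero_apply] at this
    exact one_ne_zero this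
  obtain ⟨y0, hy0⟩ := exists_partner e0 he0
  refine ⟨B e0 y0, ?_⟩
  intro x y
  by_cases hx : x = 0
  · have h1 : B x y = 0 := by
      have := hsl 0 x y
      rw [zero_smul, map_zero, zero_mul] at this
      rw [hx]
      exact this
    rw [h1, hx, ff_zero_left, map_zero, mul_zero]
  · obtain ⟨y1, hy1⟩ := exists_partner x hx
    rw [sa x y y1 hy1, mul_comm]
    congr 1
    obtain ⟨y2, h2x, h2e⟩ := exists_both_ne x e0 hx he0
    have h3 : B x y2 = σ (ff x y2) * B x y1 := sa x y2 y1 hy1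
    have h4 : B e0 y2 = σ (ff e0 y2) * B e0 y0 := sa e0 y2 y0 hy0
    have h5 : ff ((ff e0 y2)⁻¹ • e0) y2 = 1 := by
      rw [sympForm_smul_left, inv_mul_cancel₀ h2e]
    have h6 : B x y2 = σ (ff x y2) * B ((ff e0 y2)⁻¹ • e0) y2 := sb x y2 _ h5
    rw [hsl, h4, map_inv₀] at h6
    have hσe : σ (ff e0 y2) ≠ 0 := by
      intro h
      exact h2e ((map_eq_zero σ).mp h)
    have hσx : σ (ff x y2) ≠ 0 := by
      intro h
      exact h2x ((map_eq_zero σ).mp h)
    have h7 : (σ (ff e0 y2))⁻¹ * (σ (ff e0 y2) * B e0 y0) = B e0 y0 := by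
      rw [← mul_assoc, inv_mul_cancel₀ hσe, one_mul]
    rw [h7, h3] at h6
    exact mul_left_cancel₀ hσx h6

theorem ff_map (σ : F →+* F) (x y : VV) : ff (σ ∘ x) (σ ∘ y) = σ (ff x y) := by
  rw [sympForm_eq_sum, sympForm_eq_sum, map_sum]
  apply Finset.sum_congr rfl
  intro i _
  rw [map_sub, map_mul, map_mul]
  rfl

theorem comp_add (σ : F →+* F) (x y : VV) : (σ ∘ (x + y) : VV) = σ ∘ x + σ ∘ y := by
  funext i
  simp

theorem comp_smul (σ : F →+* F) (a : F) (x : VV) : (σ ∘ (a • x) : VV) = σ a • (σ ∘ x) := by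
  funext i
  simp

theorem comp_zero (σ : F →+* F) : (σ ∘ (0 : VV) : VV) = 0 := by
  funext i
  simp

theorem comp_symm (σ : F ≃+* F) (x : VV) : ((σ : F →+* F) ∘ ((σ.symm : F →+* F) ∘ x) : VV) = x := by
  funext i
  simp

end Cfsg.Agent.helper14.SpAut
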