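import Mathlib
import Cfsg.Agent.Lib_helper14_SpAutH

set_option autoImplicit false
set_option linter.unusedSectionVars false
set_option linter.unusedVariables false
set_option linter.unusedSimpArgs false

namespace Cfsg.Agent.helper14.SpAut

open Matrix Cfsg.Agent.helper4 Cfsg.Agent.helper29 Cfsg.Agent.helper29.SpRoot

variable {F : Type*} [Field F] {m : ℕ}

local notation "Sp" => Matrix.symplecticGroup (Fin m) F
local notation "ff" => Cfsg.sympForm m F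
local notation "VV" => (Fin m ⊕ Fin m → F)
local notation "MM" => Matrix (Fin m ⊕ Fin m) (Fin m ⊕ Fin m) F
local notation "GLm" => GL (Fin m ⊕ Fin m) F

theorem gl_inv_mulVec (g : GLm) (x : VV) :
    ((g⁻¹ : GLm) : MM) *ᵥ ((g : MM) *ᵥ x) = x := by
  rw [Matrix.mulVec_mulVec, ← Units.val_mul, inv_mul_cancel, Units.val_one, Matrix.one_mulVec]

theorem gl_mulVec_inv (g : GLm) (x : VV) :
    (g : MM) *ᵥ (((g⁻¹ : GLm) : MM) *ᵥ x) = x := by
  rw [Matrix.mulVec_mulVec, ← Units.val_mul, mul_inv_cancel, Units.val_one, Matrix.one_mulVec]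

theorem gl_mulVec_ne_zero (g : GLm) (x : VV) (hx : x ≠ 0) : (g : MM) *ᵥ x ≠ 0 := by
  intro h
  apply hx
  rw [← gl_inv_mulVec g x, h, Matrix.mulVec_zero]

/-- `g` multiplies the symplectic form by `μ` -/
def Sim (g : GLm) (μ : F) : Prop :=
  μ ≠ 0 ∧ ∀ a b : VV, ff ((g : MM) *ᵥ a) ((g : MM) *ᵥ b) = μ * ff a b

theorem Sim.inv {g : GLm} {μ : F} (h : Sim g μ) : Sim g⁻¹ μ⁻¹ := by
  refine ⟨inv_ne_zero h.1, ?_⟩
  intro a b
  have := h.2 (((g⁻¹ : GLm) : MM) *ᵥ a) (((g⁻¹ : GLm) : MM) *ᵥ b)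
  rw [gl_mulVec_inv, gl_mulVec_inv] at this
  rw [this, ← mul_assoc, inv_mul_cancel₀ h.1, one_mul]

theorem Sim.mem_GSp {g : GLm} {μ : F} (h : Sim g μ) : g ∈ Cfsg.GSp m F :=
  ⟨Units.mk0 μ h.1, fun u v => h.2 u v⟩

theorem comp_ne_zero (σ : F ≃+* F) (v : VV) (hv : v ≠ 0) : (σ ∘ v : VV) ≠ 0 := by
  intro h
  apply hv
  funext i
  have := congrFun h i
  rw [Function.comp_apply, Pi.zero_apply] at this
  rw [Pi.zero_apply]
  exact (map_eq_zero σ).mp this

/-- a semilinear map inducing the point map of an automorphism is a similitude -/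
theorem sim_of_rel (hm : 1 ≤ m) (β : MulAut (Cfsg.PSp m F)) (σ : F ≃+* F) (g : GLm)
    (h : ∀ v : VV, v ≠ 0 → Rel β v ((g : MM) *ᵥ (σ ∘ v))) : ∃ μ : F, Sim g μ := by
  obtain ⟨σ', hσ'⟩ : ∃ σ' : F →+* F, σ' = (σ : F →+* F) := ⟨_, rfl⟩
  have hσfun : ∀ v : VV, (σ ∘ v : VV) = σ' ∘ v := by
    intro v
    rw [hσ']
    rfl
  obtain ⟨B, hB⟩ : ∃ B : VV → VV → F,
      B = fun x y => ff ((g : MM) *ᵥ (σ' ∘ x)) ((g : MM) *ᵥ (σ' ∘ y)) := ⟨_, rfl⟩
  have hperp : ∀ x y, ff x y = 0 → B x y = 0 := by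
    intro x y hxy
    rw [hB]
    show ff ((g : MM) *ᵥ (σ' ∘ x)) ((g : MM) *ᵥ (σ' ∘ y)) = 0
    by_cases hx : x = 0
    · rw [hx, comp_zero, Matrix.mulVec_zero, ff_zero_left]
    · by_cases hy : y = 0
      · rw [hy, comp_zero, Matrix.mulVec_zero, ff_zero_right]
      · have h1 := h x hx
        have h2 := h y hy
        rw [hσfun] at h1 h2
        exact (Rel.perp hm h1 h2).mp hxy
  obtain ⟨μ, hμ⟩ := form_prop hm σ' B
    (by intro x x' y; rw [hB]; simp only [comp_add, Matrix.mulVec_add, sympForm_add_left])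
    (by intro a x y; rw [hB]; simp only [comp_smul, Matrix.mulVec_smul, sympForm_smul_left])
    (by intro x y y'; rw [hB]; simp only [comp_add, Matrix.mulVec_add, sympForm_add_right])
    (by intro a x y; rw [hB]; simp only [comp_smul, Matrix.mulVec_smul, sympForm_smul_right])
    hperp
  have hall : ∀ a b : VV, ff ((g : MM) *ᵥ a) ((g : MM) *ᵥ b) = μ * ff a b := by
    intro a b
    have h1 := hμ ((σ.symm : F →+* F) ∘ a) ((σ.symm : F →+* F) ∘ b)
    rw [hB, ← ff_map] at h1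
    simp only [] at h1
    rw [hσ', comp_symm, comp_symm] at h1
    exact h1
  refine ⟨μ, ?_, hall⟩
  rintro rfl
  obtain ⟨e0, he0⟩ : ∃ e0 : VV, e0 ≠ 0 := by
    refine ⟨Pi.single (Sum.inl ⟨0, hm⟩) 1, ?_⟩
    intro h
    have := congrFun h (Sum.inl ⟨0, hm⟩)
    rw [Pi.single_eq_same, Pi.zero_apply] at this
    exact one_ne_zero this
  obtain ⟨z, hz⟩ := exists_partner _ (gl_mulVec_ne_zero g e0 he0)
  have := hall e0 (((g⁻¹ : GLm) : MM) *ᵥ z)
  rw [gl_mulVec_inv, hz, zero_mul] at this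
  exact one_ne_zero this

end Cfsg.Agent.helper14.SpAut
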