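import Mathlib
import Cfsg.Agent.Lib_helper14_SpAutI

set_option autoImplicit false
set_option linter.unusedSectionVars false
set_option linter.unusedVariables false
set_option linter.unusedSimpArgs false

namespace Cfsg.Agent.helper14.SpAut

open Matrix Cfsg.Agent.helper4 Cfsg.Agent.helper29 Cfsg.Agent.helper29.SpRoot

variable {F : Type*} [Field F] {m : ℕ}

local notation "Sp" => Matrix.symplecticGroup (Fin m) F
local notation "ff" => Cfsg.sympForm m F
local notation "VV" => (Fin m ⊕ Fin m → F)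
local notation "MM" => Matrix (Fin m ⊕ Fin m) (Fin m ⊕ Fin m) F
local notation "GLm" => GL (Fin m ⊕ Fin m) F

theorem J_map (σ : F →+* F) : (Matrix.J (Fin m) F).map σ = Matrix.J (Fin m) F := by
  ext i j
  rcases i with i | i <;> rcases j with j | j <;>
    simp [Matrix.J, Matrix.one_apply, apply_ite σ]

theorem map_mem_sp (σ : F →+* F) (s : Sp) : (s : MM).map σ ∈ Matrix.symplecticGroup (Fin m) F := by
  rw [SymplecticGroup.mem_iff]
  have h := SymplecticGroup.mem_iff.mp s.2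
  have h1 : ((s : MM) * Matrix.J (Fin m) F * (s : MM)ᵀ).map σ = (Matrix.J (Fin m) F).map σ := by
    rw [h]
  rw [Matrix.map_mul, Matrix.map_mul, J_map, Matrix.transpose_map] at h1
  exact h1

/-- the entrywise field automorphism on the symplectic group -/
def mapSp (σ : F ≃+* F) : Sp ≃* Sp where
  toFun s := ⟨(s : MM).map σ, map_mem_sp (σ : F →+* F) s⟩
  invFun s := ⟨(s : MM).map σ.symm, map_mem_sp (σ.symm : F →+* F) s⟩
  left_inv s := by
    apply Subtype.ext
    ext a b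
    show σ.symm (σ ((s : MM) a b)) = _
    exact σ.symm_apply_apply _
  right_inv s := by
    apply Subtype.ext
    ext a b
    show σ (σ.symm ((s : MM) a b)) = _
    exact σ.apply_symm_apply _
  map_mul' s t := by
    apply Subtype.ext
    show ((s : MM) * (t : MM)).map σ = (s : MM).map σ * (t : MM).map σ
    exact Matrix.map_mul (f := (σ : F →+* F))

theorem mapSp_val (σ : F ≃+* F) (s : Sp) : ((mapSp σ s : Sp) : MM) = (s : MM).map σ := rfl

theorem map_mulVec_comp (σ : F →+* F) (M : MM) (x : VV) :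
    M.map σ *ᵥ (σ ∘ x) = σ ∘ (M *ᵥ x) := by
  funext i
  exact (RingHom.map_mulVec σ M x i).symm

theorem mapSp_tau (σ : F ≃+* F) (v : VV) (c : F) : mapSp σ (tau v c) = tau (σ ∘ v) (σ c) := by
  apply ext_act
  intro x
  have hx : x = (σ : F →+* F) ∘ ((σ.symm : F →+* F) ∘ x) := (comp_symm σ x).symm
  obtain ⟨x', hx'⟩ : ∃ x' : VV, x' = (σ.symm : F →+* F) ∘ x := ⟨_, rfl⟩
  rw [← hx'] at hx
  rw [act_tau, act_def, mapSp_val]
  have h1 : ((tau v c : Sp) : MM).map σ *ᵥ x = (σ : F →+* F) ∘ (act (tau v c) x') := by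
    rw [hx]
    exact map_mulVec_comp (σ : F →+* F) _ x'
  rw [h1, act_tau, comp_add, comp_smul, map_mul]
  have h2 : ff x (σ ∘ v) = (σ : F →+* F) (ff x' v) := by
    rw [hx]
    exact ff_map (σ : F →+* F) x' v
  rw [h2, ← hx]
  rfl

theorem conj_mem_sp {g : GLm} {μ : F} (h : Sim g μ) (s : Sp) :
    (g : MM) * (s : MM) * ((g⁻¹ : GLm) : MM) ∈ Matrix.symplecticGroup (Fin m) F := by
  apply mem_sp_of_preserves
  intro u v
  rw [← Matrix.mulVec_mulVec, ← Matrix.mulVec_mulVec, ← Matrix.mulVec_mulVec,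
    ← Matrix.mulVec_mulVec, h.2, Cfsg.Agent.S0766.sympForm_mulVec s, ← h.2, gl_mulVec_inv,
    gl_mulVec_inv]

/-- conjugation by a similitude on the symplectic group -/
def conjSp (g : GLm) (μ : F) (h : Sim g μ) : Sp ≃* Sp where
  toFun s := ⟨(g : MM) * (s : MM) * ((g⁻¹ : GLm) : MM), conj_mem_sp h s⟩
  invFun s := ⟨((g⁻¹ : GLm) : MM) * (s : MM) * (g : MM), by
    have := conj_mem_sp h.inv s
    rw [inv_inv] at this
    exact this⟩
  left_inv s := by
    apply Subtype.ext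
    show ((g⁻¹ : GLm) : MM) * ((g : MM) * (s : MM) * ((g⁻¹ : GLm) : MM)) * (g : MM) = (s : MM)
    have h1 : ((g⁻¹ : GLm) : MM) * (g : MM) = 1 := by
      rw [← Units.val_mul, inv_mul_cancel, Units.val_one]
    calc ((g⁻¹ : GLm) : MM) * ((g : MM) * (s : MM) * ((g⁻¹ : GLm) : MM)) * (g : MM)
        = (((g⁻¹ : GLm) : MM) * (g : MM)) * (s : MM) * (((g⁻¹ : GLm) : MM) * (g : MM)) := by
          simp only [Matrix.mul_assoc]
      _ = (s : MM) := by rw [h1, Matrix.one_mul, Matrix.mul_one]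
  right_inv s := by
    apply Subtype.ext
    show (g : MM) * (((g⁻¹ : GLm) : MM) * (s : MM) * (g : MM)) * ((g⁻¹ : GLm) : MM) = (s : MM)
    have h1 : (g : MM) * ((g⁻¹ : GLm) : MM) = 1 := by
      rw [← Units.val_mul, mul_inv_cancel, Units.val_one]
    calc (g : MM) * (((g⁻¹ : GLm) : MM) * (s : MM) * (g : MM)) * ((g⁻¹ : GLm) : MM)
        = ((g : MM) * ((g⁻¹ : GLm) : MM)) * (s : MM) * ((g : MM) * ((g⁻¹ : GLm) : MM)) := by
          simp only [Matrix.mul_assoc]
      _ = (s : MM) := by rw [h1, Matrix.one_mul, Matrix.mul_one]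
  map_mul' s t := by
    apply Subtype.ext
    show (g : MM) * ((s : MM) * (t : MM)) * ((g⁻¹ : GLm) : MM) =
      ((g : MM) * (s : MM) * ((g⁻¹ : GLm) : MM)) * ((g : MM) * (t : MM) * ((g⁻¹ : GLm) : MM))
    have h1 : ((g⁻¹ : GLm) : MM) * (g : MM) = 1 := by
      rw [← Units.val_mul, inv_mul_cancel, Units.val_one]
    calc (g : MM) * ((s : MM) * (t : MM)) * ((g⁻¹ : GLm) : MM)
        = (g : MM) * (s : MM) * 1 * (t : MM) * ((g⁻¹ : GLm) : MM) := by
          rw [Matrix.mul_one]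
          simp only [Matrix.mul_assoc]
      _ = _ := by
          rw [← h1]
          simp only [Matrix.mul_assoc]

theorem conjSp_val (g : GLm) (μ : F) (h : Sim g μ) (s : Sp) :
    ((conjSp g μ h s : Sp) : MM) = (g : MM) * (s : MM) * ((g⁻¹ : GLm) : MM) := rfl

theorem conjSp_tau (g : GLm) (μ : F) (h : Sim g μ) (w : VV) (d : F) :
    conjSp g μ h (tau w d) = tau ((g : MM) *ᵥ w) (d / μ) := by
  apply ext_act
  intro x
  rw [act_tau, act_def, conjSp_val, ← Matrix.mulVec_mulVec, ← Matrix.mulVec_mulVec]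
  have h1 : ((tau w d : Sp) : MM) *ᵥ (((g⁻¹ : GLm) : MM) *ᵥ x) =
      act (tau w d) (((g⁻¹ : GLm) : MM) *ᵥ x) := rfl
  rw [h1, act_tau, Matrix.mulVec_add, Matrix.mulVec_smul, gl_mulVec_inv]
  have h2 : ff x ((g : MM) *ᵥ w) = μ * ff (((g⁻¹ : GLm) : MM) *ᵥ x) w := by
    rw [← h.2, gl_mulVec_inv]
  rw [h2]
  congr 2
  field_simp [h.1]

/-- the automorphism of `PSp` induced by the semilinear similitude `v ↦ g σ(v)` -/
noncomputable def phiGS (g : GLm) (μ : F) (h : Sim g μ) (σ : F ≃+* F) : MulAut (Cfsg.PSp m F) :=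
  Cfsg.Agent.helper13.quotAut (Subgroup.center Sp) ((conjSp g μ h : MulAut Sp) * (mapSp σ : MulAut Sp))

theorem phiGS_pm (g : GLm) (μ : F) (h : Sim g μ) (σ : F ≃+* F) (s : Sp) :
    phiGS g μ h σ (pm s) = pm (conjSp g μ h (mapSp σ s)) := rfl

theorem phiGS_induced (g : GLm) (μ : F) (h : Sim g μ) (σ : F ≃+* F) :
    Cfsg.IsInducedBySemilinearPSp g σ (phiGS g μ h σ) := by
  intro s s' hs
  have h1 : phiGS g μ h σ (QuotientGroup.mk s) = pm (conjSp g μ h (mapSp σ s)) := phiGS_pm g μ h σ s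
  rw [h1]
  have h2 : conjSp g μ h (mapSp σ s) = s' := by
    apply Subtype.ext
    rw [conjSp_val, mapSp_val, hs]
  rw [h2]
  rfl

theorem phiGS_rel (g : GLm) (μ : F) (h : Sim g μ) (σ : F ≃+* F) (v : VV) (hv : v ≠ 0) :
    Rel (phiGS g μ h σ) v ((g : MM) *ᵥ (σ ∘ v)) := by
  refine ⟨hv, gl_mulVec_ne_zero g _ (comp_ne_zero σ v hv), 1, σ 1 / μ, one_ne_zero, ?_, ?_⟩
  · rw [map_one]
    exact div_ne_zero one_ne_zero h.1
  · rw [phiGS_pm, mapSp_tau, conjSp_tau]

end Cfsg.Agent.helper14.SpAut
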