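import Mathlib
import Cfsg.Agent.Lib_helper14_SpAutJ
import Cfsg.Agent.Lib_helper14_SpAutE

set_option autoImplicit false
set_option linter.unusedSectionVars false
set_option linter.unusedVariables false
set_option linter.unusedSimpArgs false

namespace Cfsg.Agent.helper14.SpAut

open Matrix Cfsg.Agent.helper4 Cfsg.Agent.helper29 Cfsg.Agent.helper29.SpRoot

variable {F : Type*} [Field F] {m : ℕ}

local notation "Sp" => Matrix.symplecticGroup (Fin m) F
local notation "ff" => Cfsg.sympForm m F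
local notation "VV" => (Fin m ⊕ Fin m → F)
local notation "MM" => Matrix (Fin m ⊕ Fin m) (Fin m ⊕ Fin m) F
local notation "GLm" => GL (Fin m ⊕ Fin m) F

theorem tauPres [Fintype F] {p : ℕ} [hp : Fact p.Prime] [CharP F p] (hm : 2 ≤ m)
    (h4 : m = 2 → p ≠ 2) : TauPres m F := by
  intro β v c hv hc
  by_cases hp2 : p = 2
  · subst hp2
    have hm3 : 3 ≤ m := by
      by_contra hlt
      have : m = 2 := by omega
      exact h4 this rfl
    exact aut_tau_even hm3 β v hv c hc
  · have h2 : (2 : F) ≠ 0 := by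
      intro h
      have h3 : ((2 : ℕ) : F) = 0 := by exact_mod_cast h
      rw [CharP.cast_eq_zero_iff F p] at h3
      exact hp2 ((Nat.prime_dvd_prime_iff_eq hp.out Nat.prime_two).mp h3)
    exact aut_tau_odd (p := p) (by omega) h2 β v hv c hc

/-- an automorphism fixing every point is trivial -/
theorem aut_eq_one_of_rel_self (hm : 1 ≤ m) (hT : TauPres m F) (β : MulAut (Cfsg.PSp m F))
    (h : ∀ v : VV, v ≠ 0 → Rel β v v) : β = 1 := by
  ext x
  obtain ⟨s, rfl⟩ := pm_surj x
  obtain ⟨s', hs'⟩ := pm_surj (β (pm s))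
  rw [MulAut.one_apply, ← hs']
  have heig : ∀ v : VV, ∃ c : F, ((s⁻¹ * s' : Sp) : MM) *ᵥ v = c • v := by
    intro v
    by_cases hv : v = 0
    · exact ⟨0, by rw [hv, Matrix.mulVec_zero, smul_zero]⟩
    · have h1 := (h v hv).equivariant s s' hs'.symm
      have h2 := h (act s v) (act_ne_zero s v hv)
      obtain ⟨a, ha, hsa⟩ := Rel.unique hm hT h2 h1
      refine ⟨a, ?_⟩
      show act (s⁻¹ * s') v = a • v
      rw [act_mul, hsa, act_smul, act_inv_act]
  obtain ⟨z, hz⟩ : ∃ z : Sp, z = s⁻¹ * s' := ⟨_, rfl⟩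
  rw [← hz] at heig
  have hsc := Cfsg.Agent.S0246.scalar_of_eigen _ heig (Sum.inl ⟨0, hm⟩)
  have hcen : z ∈ Subgroup.center Sp := by
    rw [Subgroup.mem_center_iff]
    intro t
    apply Subtype.ext
    rw [Submonoid.coe_mul, Submonoid.coe_mul, hsc, Matrix.mul_smul, Matrix.smul_mul, Matrix.mul_one,
      Matrix.one_mul]
  rw [hz] at hcen
  symm
  apply (mk_eq_iff s s').mpr
  exact ⟨s⁻¹ * s', hcen, by group⟩

/-- every automorphism of `PSp` is induced by a semilinear similitude -/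
theorem aut_induced [Fintype F] (hm : 2 ≤ m) (hT : TauPres m F) (β : MulAut (Cfsg.PSp m F)) :
    ∃ (g : GLm) (σ : F ≃+* F), g ∈ Cfsg.GSp m F ∧ Cfsg.IsInducedBySemilinearPSp g σ β := by
  have hm1 : 1 ≤ m := by omega
  obtain ⟨σ, g, hrel⟩ := exists_semilinear hm hT β
  obtain ⟨μ, hsim⟩ := sim_of_rel hm1 β σ g hrel
  have h1 : (phiGS g μ hsim σ)⁻¹ * β = 1 := by
    apply aut_eq_one_of_rel_self hm1 hT
    intro v hv
    exact Rel.comp hm1 hT (hrel v hv) (phiGS_rel g μ hsim σ v hv).symm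
  have h2 : β = phiGS g μ hsim σ := by
    have := congrArg (fun x => phiGS g μ hsim σ * x) h1
    simp only [mul_inv_cancel_left, mul_one] at this
    exact this
  refine ⟨g, σ, hsim.mem_GSp, ?_⟩
  rw [h2]
  exact phiGS_induced g μ hsim σ

end Cfsg.Agent.helper14.SpAut
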