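import Mathlib
import Cfsg.Agent.Lib_helper14_SpAutK

set_option autoImplicit false
set_option linter.unusedSectionVars false
set_option linter.unusedVariables false
set_option linter.unusedSimpArgs false

namespace Cfsg.Agent.helper14.SpAut

open Matrix Cfsg.Agent.helper4 Cfsg.Agent.helper29 Cfsg.Agent.helper29.SpRoot

variable {F : Type*} [Field F] {m : ℕ}

local notation "Sp" => Matrix.symplecticGroup (Fin m) F
local notation "ff" => Cfsg.sympForm m F
local notation "VV" => (Fin m ⊕ Fin m → F)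
local notation "MM" => Matrix (Fin m ⊕ Fin m) (Fin m ⊕ Fin m) F
local notation "GLm" => GL (Fin m ⊕ Fin m) F

theorem mem_GSp_iff (g : GLm) : g ∈ Cfsg.GSp m F ↔ ∃ μ : F, Sim g μ := by
  constructor
  · rintro ⟨c, hc⟩
    exact ⟨c, c.ne_zero, hc⟩
  · rintro ⟨μ, h⟩
    exact h.mem_GSp

theorem Sim.one : Sim (1 : GLm) 1 := by
  refine ⟨one_ne_zero, fun a b => ?_⟩
  rw [Units.val_one, Matrix.one_mulVec, Matrix.one_mulVec, one_mul]

theorem Sim.mul {g g' : GLm} {μ μ' : F} (h : Sim g μ) (h' : Sim g' μ') :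
    Sim (g * g') (μ * μ') := by
  refine ⟨mul_ne_zero h.1 h'.1, fun a b => ?_⟩
  rw [Units.val_mul, ← Matrix.mulVec_mulVec, ← Matrix.mulVec_mulVec, h.2, h'.2, mul_assoc]

theorem glmap_val (σ : F ≃+* F) (g : GLm) :
    ((Matrix.GeneralLinearGroup.map (σ : F →+* F) g : GLm) : MM) = (g : MM).map σ := rfl

theorem Sim.map (σ : F ≃+* F) {g : GLm} {μ : F} (h : Sim g μ) :
    Sim (Matrix.GeneralLinearGroup.map (σ : F →+* F) g) (σ μ) := by
  refine ⟨fun h0 => h.1 ((map_eq_zero σ).mp h0), fun a b => ?_⟩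
  rw [glmap_val]
  have ha : a = (σ : F →+* F) ∘ ((σ.symm : F →+* F) ∘ a) := (comp_symm σ a).symm
  have hb : b = (σ : F →+* F) ∘ ((σ.symm : F →+* F) ∘ b) := (comp_symm σ b).symm
  obtain ⟨a', ha'⟩ : ∃ a' : VV, a' = (σ.symm : F →+* F) ∘ a := ⟨_, rfl⟩
  obtain ⟨b', hb'⟩ : ∃ b' : VV, b' = (σ.symm : F →+* F) ∘ b := ⟨_, rfl⟩
  rw [← ha'] at ha
  rw [← hb'] at hb
  have h1 : (g : MM).map σ *ᵥ a = (σ : F →+* F) ∘ ((g : MM) *ᵥ a') := by
    rw [ha]
    exact map_mulVec_comp (σ : F →+* F) _ a'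
  have h2 : (g : MM).map σ *ᵥ b = (σ : F →+* F) ∘ ((g : MM) *ᵥ b') := by
    rw [hb]
    exact map_mulVec_comp (σ : F →+* F) _ b'
  rw [h1, h2, ff_map, h.2, map_mul, ← ff_map, ← ha, ← hb]
  rfl

theorem Sim.scalar (c : Fˣ) : Sim (Matrix.GeneralLinearGroup.scalar (Fin m ⊕ Fin m) c : GLm)
    ((c : F) * c) := by
  refine ⟨mul_ne_zero c.ne_zero c.ne_zero, fun a b => ?_⟩
  rw [Matrix.GeneralLinearGroup.coe_scalar]
  have : ∀ x : VV, (Matrix.scalar (Fin m ⊕ Fin m)) (c : F) *ᵥ x = (c : F) • x := by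
    intro x
    have h1 : (Matrix.scalar (Fin m ⊕ Fin m)) (c : F) = (c : F) • (1 : MM) := by
      ext i j
      simp [Matrix.scalar_apply, Matrix.diagonal_apply, Matrix.one_apply]
    rw [h1, Matrix.smul_mulVec, Matrix.one_mulVec]
  rw [this, this, sympForm_smul_left, sympForm_smul_right, mul_assoc]

/-- conjugation by an element of the conformal symplectic group -/
noncomputable def conjG (g : ↥(Cfsg.GSp m F)) : Sp ≃* Sp :=
  conjSp g.1 (Classical.choose ((mem_GSp_iff g.1).mp g.2))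
    (Classical.choose_spec ((mem_GSp_iff g.1).mp g.2))

theorem conjG_val (g : ↥(Cfsg.GSp m F)) (s : Sp) :
    ((conjG g s : Sp) : MM) = ((g : GLm) : MM) * (s : MM) * (((g : GLm)⁻¹ : GLm) : MM) := rfl

theorem conjG_eq (g : ↥(Cfsg.GSp m F)) (μ : F) (h : Sim (g : GLm) μ) : conjG g = conjSp g.1 μ h := by
  ext s : 1
  apply Subtype.ext
  rfl

/-- the conjugation action as a homomorphism -/
noncomputable def conjGHom : ↥(Cfsg.GSp m F) →* MulAut Sp where
  toFun := conjG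
  map_one' := by
    ext s : 1
    apply Subtype.ext
    rw [conjG_val]
    show ((1 : GLm) : MM) * (s : MM) * (((1 : GLm)⁻¹ : GLm) : MM) = (s : MM)
    rw [inv_one, Units.val_one, Matrix.one_mul, Matrix.mul_one]
  map_mul' g h := by
    ext s : 1
    apply Subtype.ext
    rw [MulAut.mul_apply, conjG_val, conjG_val, conjG_val]
    show ((g.1 * h.1 : GLm) : MM) * (s : MM) * (((g.1 * h.1)⁻¹ : GLm) : MM) = _
    rw [_root_.mul_inv_rev, Units.val_mul, Units.val_mul]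
    simp only [Matrix.mul_assoc]

/-- the action of `GSp` on `PSp` -/
noncomputable def PhiG : ↥(Cfsg.GSp m F) →* MulAut (Cfsg.PSp m F) :=
  (Cfsg.Agent.helper13.quotAut (Subgroup.center Sp)).comp conjGHom

theorem PhiG_pm (g : ↥(Cfsg.GSp m F)) (s : Sp) : PhiG g (pm s) = pm (conjG g s) := rfl

/-- the standard field automorphisms -/
noncomputable def phiF (σ : F ≃+* F) : MulAut (Cfsg.PSp m F) :=
  Cfsg.Agent.helper13.quotAut (Subgroup.center Sp) (mapSp σ : MulAut Sp)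

theorem phiF_pm (σ : F ≃+* F) (s : Sp) : phiF σ (pm s) = pm (mapSp σ s) := rfl

theorem phiF_mul (σ τ : F ≃+* F) : (phiF (σ * τ) : MulAut (Cfsg.PSp m F)) = phiF σ * phiF τ := by
  ext x
  obtain ⟨s, rfl⟩ := pm_surj x
  rw [MulAut.mul_apply, phiF_pm, phiF_pm, phiF_pm]
  rfl

theorem phiF_one : (phiF (1 : F ≃+* F) : MulAut (Cfsg.PSp m F)) = 1 := by
  ext x
  obtain ⟨s, rfl⟩ := pm_surj x
  rw [phiF_pm, MulAut.one_apply]
  congr 1

/-- the standard field automorphisms as a homomorphism -/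
noncomputable def phiFHom : (F ≃+* F) →* MulAut (Cfsg.PSp m F) where
  toFun := phiF
  map_one' := phiF_one
  map_mul' := phiF_mul

theorem phiFHom_apply (σ : F ≃+* F) : (phiFHom σ : MulAut (Cfsg.PSp m F)) = phiF σ := rfl

/-- the entrywise action of a field automorphism on `GSp` -/
def mapG (σ : F ≃+* F) (g : ↥(Cfsg.GSp m F)) : ↥(Cfsg.GSp m F) :=
  ⟨Matrix.GeneralLinearGroup.map (σ : F →+* F) g.1, by
    obtain ⟨μ, h⟩ := (mem_GSp_iff g.1).mp g.2
    exact (h.map σ).mem_GSp⟩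

theorem mapG_val (σ : F ≃+* F) (g : ↥(Cfsg.GSp m F)) :
    ((mapG σ g : ↥(Cfsg.GSp m F)) : GLm) = Matrix.GeneralLinearGroup.map (σ : F →+* F) g.1 := rfl

theorem phiF_PhiG (σ : F ≃+* F) (g : ↥(Cfsg.GSp m F)) :
    phiF σ * PhiG g = PhiG (mapG σ g) * phiF σ := by
  ext x
  obtain ⟨s, rfl⟩ := pm_surj x
  rw [MulAut.mul_apply, MulAut.mul_apply, PhiG_pm, phiF_pm, phiF_pm, PhiG_pm]
  congr 1
  apply Subtype.ext
  rw [mapSp_val, conjG_val, conjG_val, mapSp_val, mapG_val, glmap_val, ← map_inv, glmap_val]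
  rw [Matrix.map_mul, Matrix.map_mul]

theorem PhiG_tau (g : ↥(Cfsg.GSp m F)) (μ : F) (h : Sim (g : GLm) μ) (w : VV) (d : F) :
    PhiG g (pm (tau w d)) = pm (tau (((g : GLm) : MM) *ᵥ w) (d / μ)) := by
  rw [PhiG_pm, conjG_eq g μ h, conjSp_tau]

theorem phiF_tau (σ : F ≃+* F) (v : VV) (c : F) :
    phiF σ (pm (tau v c)) = pm (tau (σ ∘ v) (σ c)) := by
  rw [phiF_pm, mapSp_tau]

end Cfsg.Agent.helper14.SpAut
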