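import Mathlib
import Cfsg.Agent.Lib_helper14_SpAutL

set_option autoImplicit false
set_option linter.unusedSectionVars false
set_option linter.unusedVariables false
set_option linter.unusedSimpArgs false

namespace Cfsg.Agent.helper14.SpAut

open Matrix Cfsg.Agent.helper4 Cfsg.Agent.helper29 Cfsg.Agent.helper29.SpRoot

variable {F : Type*} [Field F] {m : ℕ}

local notation "Sp" => Matrix.symplecticGroup (Fin m) F
local notation "ff" => Cfsg.sympForm m F
local notation "VV" => (Fin m ⊕ Fin m → F)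
local notation "MM" => Matrix (Fin m ⊕ Fin m) (Fin m ⊕ Fin m) F
local notation "GLm" => GL (Fin m ⊕ Fin m) F

theorem innerDiag_iff (β : MulAut (Cfsg.PSp m F)) :
    Cfsg.IsInnerDiagonalAutPSp β ↔ ∃ g : ↥(Cfsg.GSp m F), β = PhiG g := by
  constructor
  · rintro ⟨g, hg, hind⟩
    refine ⟨⟨g, hg⟩, ?_⟩
    ext x
    obtain ⟨s, rfl⟩ := pm_surj x
    rw [PhiG_pm]
    apply hind s (conjG ⟨g, hg⟩ s)
    rw [conjG_val]
    have hmap : (s : MM).map (RingEquiv.refl F) = (s : MM) := by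
      ext a b
      rfl
    rw [hmap]
  · rintro ⟨g, rfl⟩
    refine ⟨g.1, g.2, ?_⟩
    intro s s' hs
    have h1 : PhiG g (QuotientGroup.mk s) = pm (conjG g s) := PhiG_pm g s
    rw [h1]
    have h2 : conjG g s = s' := by
      apply Subtype.ext
      have hmap : (s : MM).map (RingEquiv.refl F) = (s : MM) := by
        ext a b
        rfl
      rw [conjG_val, hs, hmap]
    rw [h2]
    rfl

theorem inndiagPSp_eq : Cfsg.inndiagPSp m F = (PhiG (m := m) (F := F)).range := by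
  unfold Cfsg.inndiagPSp Cfsg.autSubgroupOf
  have : {β : MulAut (Cfsg.PSp m F) | Cfsg.IsInnerDiagonalAutPSp β} =
      ((PhiG (m := m) (F := F)).range : Set (MulAut (Cfsg.PSp m F))) := by
    ext β
    rw [Set.mem_ofPred_eq, innerDiag_iff]
    constructor
    · rintro ⟨g, rfl⟩
      exact ⟨g, rfl⟩
    · rintro ⟨g, rfl⟩
      exact ⟨g, rfl⟩
  rw [this, Subgroup.closure_eq]

theorem stdField_unique (σ : F ≃+* F) (β : MulAut (Cfsg.PSp m F))
    (h : Cfsg.IsStdFieldAutPSp σ β) : β = phiF σ := by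
  ext x
  obtain ⟨s, rfl⟩ := pm_surj x
  rw [phiF_pm]
  exact h s (mapSp σ s) rfl

/-- the classes of two transvections agree only if the transvections do -/
theorem pm_tau_eq (hm : 1 ≤ m) (w w' : VV) (d d' : F) (hw : w ≠ 0)
    (h : pm (tau w d) = pm (tau w' d')) : tau w' d' = tau w d := by
  obtain ⟨z, hz, hs⟩ := (mk_eq_iff _ _).mp h
  obtain ⟨e, he, hze⟩ := center_act hm z hz
  have h1 : act (tau w' d') w = e • w := by
    rw [hs, act_mul, hze, act_smul, act_tau, sympForm_self, mul_zero, zero_smul, add_zero]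
  have h2 : ff (act (tau w' d') w) w = ff (e • w) w := by rw [h1]
  rw [act_tau, sympForm_add_left, sympForm_smul_left, sympForm_smul_left, sympForm_self,
    mul_zero, zero_add, ff_swap w' w] at h2
  have h3 : d' * ff w w' = 0 := by
    by_contra hne
    have h4 : ff w w' ≠ 0 := fun h0 => hne (by rw [h0, mul_zero])
    have : d' * ff w w' * -ff w w' ≠ 0 := mul_ne_zero hne (neg_ne_zero.mpr h4)
    exact this h2
  rw [act_tau, h3, zero_smul, add_zero] at h1
  have he1 : e = 1 := by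
    by_contra hne
    apply hw
    have h5 : (e - 1) • w = 0 := by rw [sub_smul, one_smul, ← h1, sub_self]
    rcases smul_eq_zero.mp h5 with h6 | h6
    · exact absurd (sub_eq_zero.mp h6) hne
    · exact h6
  have hz1 : z = 1 := by
    apply ext_act
    intro y
    rw [hze, he1, one_smul, act_one]
  rw [hs, hz1, mul_one]

theorem tau_eq_parallel (w w' : VV) (d d' : F) (hw : w ≠ 0) (hd : d ≠ 0)
    (h : tau w' d' = tau w d) : ∃ a : F, w' = a • w := by
  obtain ⟨x, hx⟩ := nondeg w hw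
  have h1 : act (tau w' d') x = act (tau w d) x := by rw [h]
  rw [act_tau, act_tau] at h1
  have h2 : (d' * ff x w') • w' = (d * ff x w) • w := add_left_cancel h1
  have hne : d * ff x w ≠ 0 := mul_ne_zero hd hx
  have hne' : d' * ff x w' ≠ 0 := by
    intro h0
    rw [h0, zero_smul] at h2
    rcases smul_eq_zero.mp h2.symm with h3 | h3
    · exact hne h3
    · exact hw h3
  refine ⟨(d' * ff x w')⁻¹ * (d * ff x w), ?_⟩
  rw [← smul_smul, ← h2, smul_smul, inv_mul_cancel₀ hne', one_smul]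

theorem PhiG_ker (hm : 1 ≤ m) (g : ↥(Cfsg.GSp m F)) (h : PhiG g = 1) :
    ∃ c : Fˣ, (g : GLm) = Matrix.GeneralLinearGroup.scalar (Fin m ⊕ Fin m) c := by
  obtain ⟨μ, hμ⟩ := (mem_GSp_iff g.1).mp g.2
  have heig : ∀ v : VV, ∃ c : F, ((g : GLm) : MM) *ᵥ v = c • v := by
    intro v
    by_cases hv : v = 0
    · exact ⟨0, by rw [hv, Matrix.mulVec_zero, smul_zero]⟩
    · have h1 := PhiG_tau g μ hμ v 1
      rw [h, MulAut.one_apply] at h1
      have h2 := pm_tau_eq hm v _ 1 _ hv h1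
      exact tau_eq_parallel v _ 1 _ hv one_ne_zero h2
  have hsc := Cfsg.Agent.S0246.scalar_of_eigen _ heig (Sum.inl ⟨0, hm⟩)
  obtain ⟨c, hc⟩ : ∃ c : F, c = ((g : GLm) : MM) (Sum.inl ⟨0, hm⟩) (Sum.inl ⟨0, hm⟩) := ⟨_, rfl⟩
  rw [← hc] at hsc
  have hc0 : c ≠ 0 := by
    rintro rfl
    rw [zero_smul] at hsc
    have h1 : ((g : GLm) : MM) * (((g : GLm)⁻¹ : GLm) : MM) = 1 := by
      rw [← Units.val_mul, mul_inv_cancel, Units.val_one]
    rw [hsc, Matrix.zero_mul] at h1
    have h2 := congrFun (congrFun h1 (Sum.inl ⟨0, hm⟩)) (Sum.inl ⟨0, hm⟩)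
    rw [Matrix.zero_apply, Matrix.one_apply_eq] at h2
    exact zero_ne_one h2
  refine ⟨Units.mk0 c hc0, ?_⟩
  apply Units.ext
  rw [hsc, Matrix.GeneralLinearGroup.coe_scalar]
  ext i j
  simp [Matrix.scalar_apply, Matrix.diagonal_apply, Matrix.one_apply]

theorem scalar_val (c : Fˣ) :
    ((Matrix.GeneralLinearGroup.scalar (Fin m ⊕ Fin m) c : GLm) : MM) = (c : F) • (1 : MM) := by
  rw [Matrix.GeneralLinearGroup.coe_scalar]
  ext i j
  simp [Matrix.scalar_apply, Matrix.diagonal_apply, Matrix.one_apply]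

theorem PhiG_scalar (c : Fˣ) (hc : Matrix.GeneralLinearGroup.scalar (Fin m ⊕ Fin m) c ∈ Cfsg.GSp m F) :
    PhiG (⟨Matrix.GeneralLinearGroup.scalar (Fin m ⊕ Fin m) c, hc⟩ : ↥(Cfsg.GSp m F)) = 1 := by
  ext x
  obtain ⟨s, rfl⟩ := pm_surj x
  rw [PhiG_pm, MulAut.one_apply]
  congr 1
  apply Subtype.ext
  rw [conjG_val]
  show ((Matrix.GeneralLinearGroup.scalar (Fin m ⊕ Fin m) c : GLm) : MM) * (s : MM) *
    (((Matrix.GeneralLinearGroup.scalar (Fin m ⊕ Fin m) c)⁻¹ : GLm) : MM) = (s : MM)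
  rw [← map_inv, scalar_val, scalar_val, Matrix.smul_mul, Matrix.one_mul, Matrix.mul_smul,
    Matrix.mul_one, smul_smul, Units.val_inv_eq_inv_val, inv_mul_cancel₀ c.ne_zero, one_smul]

end Cfsg.Agent.helper14.SpAut
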