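import Mathlib

/-! Existence of symplectic bases: every invertible alternating matrix is congruent to the
standard matrix `J`. -/

set_option autoImplicit false
set_option linter.unusedSectionVars false
set_option linter.unusedVariables false
set_option linter.unusedSimpArgs false

namespace Cfsg.Agent.helper14.SympBasis

open Matrix

variable {E : Type*} [Field E] {ι : Type*} [Fintype ι] [DecidableEq ι]

/-- the bilinear form of a matrix -/
def bf (K : Matrix ι ι E) (x y : ι → E) : E := x ⬝ᵥ (K *ᵥ y)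

theorem bf_add_left (K : Matrix ι ι E) (x x' y : ι → E) : bf K (x + x') y = bf K x y + bf K x' y := by
  unfold bf
  rw [add_dotProduct]

theorem bf_add_right (K : Matrix ι ι E) (x y y' : ι → E) : bf K x (y + y') = bf K x y + bf K x y' := by
  unfold bf
  rw [Matrix.mulVec_add, dotProduct_add]

theorem bf_smul_left (K : Matrix ι ι E) (c : E) (x y : ι → E) : bf K (c • x) y = c * bf K x y := by
  unfold bf
  rw [smul_dotProduct, smul_eq_mul]

theorem bf_smul_right (K : Matrix ι ι E) (c : E) (x y : ι → E) : bf K x (c • y) = c * bf K x y := by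
  unfold bf
  rw [Matrix.mulVec_smul, dotProduct_smul, smul_eq_mul]

theorem bf_zero_left (K : Matrix ι ι E) (y : ι → E) : bf K 0 y = 0 := by
  unfold bf
  rw [zero_dotProduct]

theorem bf_sub_left (K : Matrix ι ι E) (x x' y : ι → E) : bf K (x - x') y = bf K x y - bf K x' y := by
  unfold bf
  rw [sub_dotProduct]

theorem bf_sum_left {α : Type*} (K : Matrix ι ι E) (s : Finset α) (g : α → ι → E) (y : ι → E) :
    bf K (∑ i ∈ s, g i) y = ∑ i ∈ s, bf K (g i) y := by
  unfold bf
  rw [sum_dotProduct]

theorem bf_swap (K : Matrix ι ι E) (halt : ∀ x, bf K x x = 0) (x y : ι → E) :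
    bf K x y = - bf K y x := by
  have h := halt (x + y)
  rw [bf_add_left, bf_add_right, bf_add_right, halt x, halt y] at h
  linear_combination h

theorem bf_nondeg (K : Matrix ι ι E) (hK : IsUnit K) (x : ι → E) (hx : x ≠ 0) :
    ∃ y, bf K x y ≠ 0 := by
  by_contra hcon
  push Not at hcon
  apply hx
  have h1 : x ᵥ* K = 0 := by
    funext j
    have := hcon (Pi.single j 1)
    unfold bf at this
    rw [Matrix.mulVec_single_one] at this
    exact this
  obtain ⟨u, hu⟩ := hK
  have h2 : (x ᵥ* K) ᵥ* (↑u⁻¹ : Matrix ι ι E) = x := by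
    rw [Matrix.vecMul_vecMul, ← hu, ← Units.val_mul, mul_inv_cancel, Units.val_one,
      Matrix.vecMul_one]
  rw [← h2, h1, Matrix.zero_vecMul]

/-- the hyperbolic relations for the first `j` pairs -/
def Hyp (K : Matrix ι ι E) (j : ℕ) (u v : ℕ → ι → E) : Prop :=
  ∀ i < j, ∀ l < j, bf K (u i) (v l) = (if i = l then 1 else 0) ∧ bf K (u i) (u l) = 0 ∧
    bf K (v i) (v l) = 0

/-- projection to the orthogonal complement of the first `j` pairs -/
def prj (K : Matrix ι ι E) (j : ℕ) (u v : ℕ → ι → E) (y : ι → E) : ι → E :=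
  y - ∑ i ∈ Finset.range j, bf K y (v i) • u i + ∑ i ∈ Finset.range j, bf K y (u i) • v i

theorem prj_u (K : Matrix ι ι E) (halt : ∀ x, bf K x x = 0) (j : ℕ) (u v : ℕ → ι → E)
    (h : Hyp K j u v) (y : ι → E) (l : ℕ) (hl : l < j) : bf K (prj K j u v y) (u l) = 0 := by
  unfold prj
  rw [bf_add_left, bf_sub_left, bf_sum_left, bf_sum_left]
  have h1 : ∑ i ∈ Finset.range j, bf K (bf K y (v i) • u i) (u l) = 0 := by
    apply Finset.sum_eq_zero
    intro i hi
    rw [bf_smul_left, (h i (Finset.mem_range.mp hi) l hl).2.1, mul_zero]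
  have h2 : ∑ i ∈ Finset.range j, bf K (bf K y (u i) • v i) (u l) = - bf K y (u l) := by
    rw [Finset.sum_eq_single l]
    · rw [bf_smul_left, bf_swap K halt (v l) (u l), (h l hl l hl).1, if_pos rfl]
      ring
    · intro i hi hil
      rw [bf_smul_left, bf_swap K halt (v i) (u l), (h l hl i (Finset.mem_range.mp hi)).1,
        if_neg (Ne.symm hil)]
      ring
    · intro hl'
      exact absurd (Finset.mem_range.mpr hl) hl'
  rw [h1, h2]
  ring

theorem prj_v (K : Matrix ι ι E) (halt : ∀ x, bf K x x = 0) (j : ℕ) (u v : ℕ → ι → E)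
    (h : Hyp K j u v) (y : ι → E) (l : ℕ) (hl : l < j) : bf K (prj K j u v y) (v l) = 0 := by
  unfold prj
  rw [bf_add_left, bf_sub_left, bf_sum_left, bf_sum_left]
  have h1 : ∑ i ∈ Finset.range j, bf K (bf K y (v i) • u i) (v l) = bf K y (v l) := by
    rw [Finset.sum_eq_single l]
    · rw [bf_smul_left, (h l hl l hl).1, if_pos rfl, mul_one]
    · intro i hi hil
      rw [bf_smul_left, (h i (Finset.mem_range.mp hi) l hl).1, if_neg hil, mul_zero]
    · intro hl'
      exact absurd (Finset.mem_range.mpr hl) hl'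
  have h2 : ∑ i ∈ Finset.range j, bf K (bf K y (u i) • v i) (v l) = 0 := by
    apply Finset.sum_eq_zero
    intro i hi
    rw [bf_smul_left, (h i (Finset.mem_range.mp hi) l hl).2.2, mul_zero]
  rw [h1, h2]
  ring

theorem bf_prj_right (K : Matrix ι ι E) (halt : ∀ x, bf K x x = 0) (j : ℕ) (u v : ℕ → ι → E)
    (w y : ι → E) (hwu : ∀ l < j, bf K w (u l) = 0) (hwv : ∀ l < j, bf K w (v l) = 0) :
    bf K w (prj K j u v y) = bf K w y := by
  rw [bf_swap K halt, bf_swap K halt w y]
  congr 1
  unfold prj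
  rw [bf_add_left, bf_sub_left, bf_sum_left, bf_sum_left]
  have h1 : ∑ i ∈ Finset.range j, bf K (bf K y (v i) • u i) w = 0 := by
    apply Finset.sum_eq_zero
    intro i hi
    rw [bf_smul_left, bf_swap K halt (u i) w, hwu i (Finset.mem_range.mp hi)]
    ring
  have h2 : ∑ i ∈ Finset.range j, bf K (bf K y (u i) • v i) w = 0 := by
    apply Finset.sum_eq_zero
    intro i hi
    rw [bf_smul_left, bf_swap K halt (v i) w, hwv i (Finset.mem_range.mp hi)]
    ring
  rw [h1, h2]
  ring

theorem prj_ne_zero (K : Matrix ι ι E) (j : ℕ) (u v : ℕ → ι → E) (y : ι → E)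
    (hy : y ∉ Submodule.span E (u '' {i | i < j} ∪ v '' {i | i < j})) :
    prj K j u v y ≠ 0 := by
  classical
  intro h0
  apply hy
  unfold prj at h0
  have h1 : y = ∑ i ∈ Finset.range j, bf K y (v i) • u i -
      ∑ i ∈ Finset.range j, bf K y (u i) • v i := by
    have := h0
    rw [sub_add, sub_eq_zero] at this
    exact this
  rw [h1]
  apply Submodule.sub_mem
  · apply Submodule.sum_mem
    intro i hi
    apply Submodule.smul_mem
    apply Submodule.subset_span
    exact Or.inl ⟨i, Finset.mem_range.mp hi, rfl⟩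
  · apply Submodule.sum_mem
    intro i hi
    apply Submodule.smul_mem
    apply Submodule.subset_span
    exact Or.inr ⟨i, Finset.mem_range.mp hi, rfl⟩

theorem exists_not_mem_span (j : ℕ) (hj : 2 * j < Fintype.card ι) (u v : ℕ → ι → E) :
    ∃ y : ι → E, y ∉ Submodule.span E (u '' {i | i < j} ∪ v '' {i | i < j}) := by
  classical
  obtain ⟨s, hs⟩ : ∃ s : Finset (ι → E), s = (Finset.range j).image u ∪ (Finset.range j).image v :=
    ⟨_, rfl⟩
  have hset : (u '' {i | i < j} ∪ v '' {i | i < j} : Set (ι → E)) = (s : Set (ι → E)) := by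
    rw [hs, Finset.coe_union, Finset.coe_image, Finset.coe_image, Finset.coe_range]
    rfl
  rw [hset]
  have hcard : s.card ≤ 2 * j := by
    rw [hs]
    calc ((Finset.range j).image u ∪ (Finset.range j).image v).card
        ≤ ((Finset.range j).image u).card + ((Finset.range j).image v).card :=
          Finset.card_union_le _ _
      _ ≤ (Finset.range j).card + (Finset.range j).card :=
          Nat.add_le_add Finset.card_image_le Finset.card_image_le
      _ = 2 * j := by rw [Finset.card_range]; ring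
  have hfr : Module.finrank E (Submodule.span E (s : Set (ι → E))) < Module.finrank E (ι → E) := by
    rw [Module.finrank_fintype_fun_eq_card]
    exact lt_of_le_of_lt ((finrank_span_finset_le_card s).trans hcard) hj
  have hne : Submodule.span E (s : Set (ι → E)) ≠ ⊤ := by
    intro h
    rw [h, finrank_top] at hfr
    exact lt_irrefl _ hfr
  obtain ⟨y, -, hy⟩ := SetLike.exists_of_lt (lt_top_iff_ne_top.mpr hne)
  exact ⟨y, hy⟩

theorem hyp_step (K : Matrix ι ι E) (halt : ∀ x, bf K x x = 0) (hK : IsUnit K) (j : ℕ)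
    (hj : 2 * j < Fintype.card ι) (u v : ℕ → ι → E) (h : Hyp K j u v) :
    ∃ u' v' : ℕ → ι → E, Hyp K (j + 1) u' v' := by
  obtain ⟨y, hy⟩ := exists_not_mem_span j hj u v
  obtain ⟨x, hx⟩ : ∃ x, x = prj K j u v y := ⟨_, rfl⟩
  have hx0 : x ≠ 0 := by rw [hx]; exact prj_ne_zero K j u v y hy
  have hxu : ∀ l < j, bf K x (u l) = 0 := by
    intro l hl
    rw [hx]
    exact prj_u K halt j u v h y l hl
  have hxv : ∀ l < j, bf K x (v l) = 0 := by
    intro l hl
    rw [hx]
    exact prj_v K halt j u v h y l hl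
  obtain ⟨z0, hz0⟩ := bf_nondeg K hK x hx0
  obtain ⟨z1, hz1⟩ : ∃ z1, z1 = (bf K x z0)⁻¹ • z0 := ⟨_, rfl⟩
  have hxz1 : bf K x z1 = 1 := by
    rw [hz1, bf_smul_right, inv_mul_cancel₀ hz0]
  obtain ⟨z, hz⟩ : ∃ z, z = prj K j u v z1 := ⟨_, rfl⟩
  have hzu : ∀ l < j, bf K z (u l) = 0 := by
    intro l hl
    rw [hz]
    exact prj_u K halt j u v h z1 l hl
  have hzv : ∀ l < j, bf K z (v l) = 0 := by
    intro l hl
    rw [hz]
    exact prj_v K halt j u v h z1 l hl
  have hxz : bf K x z = 1 := by
    rw [hz, bf_prj_right K halt j u v x z1 hxu hxv, hxz1]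
  refine ⟨Function.update u j x, Function.update v j z, ?_⟩
  intro i hi l hl
  by_cases hij : i = j
  · by_cases hlj : l = j
    · rw [hij, hlj, Function.update_self, Function.update_self, if_pos rfl]
      exact ⟨hxz, halt x, halt z⟩
    · have hl' : l < j := by omega
      rw [hij, Function.update_self, Function.update_self, Function.update_of_ne hlj,
        Function.update_of_ne hlj, if_neg (Ne.symm hlj)]
      exact ⟨hxv l hl', hxu l hl', hzv l hl'⟩
  · have hi' : i < j := by omega
    by_cases hlj : l = j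
    · rw [hlj, Function.update_self, Function.update_self, Function.update_of_ne hij,
        Function.update_of_ne hij, if_neg hij]
      refine ⟨?_, ?_, ?_⟩
      · rw [bf_swap K halt, hzu i hi', neg_zero]
      · rw [bf_swap K halt, hxu i hi', neg_zero]
      · rw [bf_swap K halt, hzv i hi', neg_zero]
    · have hl' : l < j := by omega
      rw [Function.update_of_ne hij, Function.update_of_ne hij, Function.update_of_ne hlj,
        Function.update_of_ne hlj]
      exact h i hi' l hl'

theorem exists_hyp (K : Matrix ι ι E) (halt : ∀ x, bf K x x = 0) (hK : IsUnit K) :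
    ∀ j : ℕ, 2 * j ≤ Fintype.card ι → ∃ u v : ℕ → ι → E, Hyp K j u v := by
  intro j
  induction j with
  | zero =>
    intro _
    exact ⟨fun _ => 0, fun _ => 0, fun i hi => absurd hi (Nat.not_lt_zero i)⟩
  | succ j ih =>
    intro hj
    obtain ⟨u, v, h⟩ := ih (by omega)
    exact hyp_step K halt hK j (by omega) u v h

/-- every invertible alternating matrix is congruent to `J` -/
theorem exists_congr_J {m : ℕ} (K : Matrix (Fin m ⊕ Fin m) (Fin m ⊕ Fin m) E)
    (halt : ∀ x, bf K x x = 0) (hK : IsUnit K) :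
    ∃ k : Matrix (Fin m ⊕ Fin m) (Fin m ⊕ Fin m) E, kᵀ * K * k = Matrix.J (Fin m) E := by
  obtain ⟨u, v, h⟩ := exists_hyp K halt hK m (by
    rw [Fintype.card_sum, Fintype.card_fin]
    omega)
  obtain ⟨k, hk⟩ : ∃ k : Matrix (Fin m ⊕ Fin m) (Fin m ⊕ Fin m) E,
      k = Matrix.of (fun a b => Sum.elim (fun i : Fin m => v i a) (fun i : Fin m => u i a) b) :=
    ⟨_, rfl⟩
  have hcolL : ∀ i : Fin m, (fun d => k d (Sum.inl i)) = v i := by
    intro i
    funext d
    rw [hk]
    rfl
  have hcolR : ∀ i : Fin m, (fun d => k d (Sum.inr i)) = u i := by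
    intro i
    funext d
    rw [hk]
    rfl
  have hent : ∀ a b, (kᵀ * K * k) a b = bf K (fun d => k d a) (fun c => k c b) := by
    intro a b
    rw [Matrix.mul_assoc, Matrix.mul_apply]
    unfold bf
    rw [dotProduct]
    apply Finset.sum_congr rfl
    intro d _
    rw [Matrix.transpose_apply, Matrix.mul_apply]
    rfl
  refine ⟨k, ?_⟩
  ext a b
  rw [hent]
  rcases a with i | i <;> rcases b with l | l
  · rw [hcolL, hcolL, (h i i.2 l l.2).2.2]
    simp [Matrix.J]
  · rw [hcolL, hcolR, bf_swap K halt, (h l l.2 i i.2).1]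
    by_cases hil : i = l
    · subst hil
      simp [Matrix.J]
    · have : (l : ℕ) ≠ (i : ℕ) := fun h => hil (Fin.ext h.symm)
      simp [Matrix.J, hil, this]
  · rw [hcolR, hcolL, (h i i.2 l l.2).1]
    by_cases hil : i = l
    · subst hil
      simp [Matrix.J]
    · have : (i : ℕ) ≠ (l : ℕ) := fun h => hil (Fin.ext h)
      simp [Matrix.J, hil, this]
  · rw [hcolR, hcolR, (h i i.2 l l.2).2.1]
    simp [Matrix.J]

end Cfsg.Agent.helper14.SympBasis
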