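import Mathlib
import Cfsg.Agent.Lib_helper14_SpAutM
import Cfsg.Agent.Lib_helper14_FieldConjG
import Cfsg.Agent.Lib_helper14_FieldCent
import Cfsg.Agent.Lib_helper14_SympBasis

set_option autoImplicit false
set_option linter.unusedSectionVars false
set_option linter.unusedVariables false
set_option linter.unusedSimpArgs false

namespace Cfsg.Agent.helper14.SpAut

open Matrix Cfsg.Agent.helper4 Cfsg.Agent.helper29 Cfsg.Agent.helper29.SpRoot

variable {F : Type*} [Field F] {m : ℕ}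

local notation "Sp" => Matrix.symplecticGroup (Fin m) F
local notation "ff" => Cfsg.sympForm m F
local notation "VV" => (Fin m ⊕ Fin m → F)
local notation "MM" => Matrix (Fin m ⊕ Fin m) (Fin m ⊕ Fin m) F
local notation "GLm" => GL (Fin m ⊕ Fin m) F

theorem comp_single (σ : F ≃+* F) (a : Fin m ⊕ Fin m) :
    (σ ∘ (Pi.single a (1 : F) : VV) : VV) = Pi.single a 1 := by
  funext b
  rw [Function.comp_apply]
  by_cases h : b = a
  · rw [h, Pi.single_eq_same, map_one]
  · rw [Pi.single_eq_of_ne h, map_zero]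

theorem phiF_injective (hm : 1 ≤ m) :
    Function.Injective (phiF : (F ≃+* F) → MulAut (Cfsg.PSp m F)) := by
  intro σ τ h
  ext c
  obtain ⟨e1, he1⟩ : ∃ e1 : VV, e1 = Pi.single (Sum.inl ⟨0, hm⟩) 1 := ⟨_, rfl⟩
  have he10 : e1 ≠ 0 := by
    intro h0
    have := congrFun h0 (Sum.inl ⟨0, hm⟩)
    rw [he1, Pi.single_eq_same, Pi.zero_apply] at this
    exact one_ne_zero this
  have h1 : phiF σ (pm (tau e1 c)) = phiF τ (pm (tau e1 c)) := by rw [h]
  rw [phiF_tau, phiF_tau, he1, comp_single, comp_single, ← he1] at h1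
  have h2 := pm_tau_eq hm e1 e1 _ _ he10 h1
  have h3 : tau e1 (τ c - σ c) = 1 := by
    have : tau e1 (τ c - σ c) = tau e1 (τ c) * (tau e1 (σ c))⁻¹ := by
      rw [tau_inv, tau_mul, sub_eq_add_neg]
    rw [this, h2, mul_inv_cancel]
  have h4 := (tau_eq_one_iff e1 he10 _).mp h3
  exact (sub_eq_zero.mp h4).symm

theorem orderOf_phiF (hm : 1 ≤ m) (σ : F ≃+* F) :
    orderOf (phiF σ : MulAut (Cfsg.PSp m F)) = orderOf σ := by
  rw [← phiFHom_apply]
  exact orderOf_injective phiFHom (phiF_injective hm) σ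

/-- twisted partial norms inside `GSp` -/
noncomputable def PkG (σ : F ≃+* F) (d : ↥(Cfsg.GSp m F)) : ℕ → ↥(Cfsg.GSp m F)
  | 0 => 1
  | k + 1 => d * mapG σ (PkG σ d k)

theorem PkG_val (σ : F ≃+* F) (d : ↥(Cfsg.GSp m F)) (k : ℕ) :
    ((PkG σ d k : ↥(Cfsg.GSp m F)) : GLm) = H90g.Pk σ (d : GLm) k := by
  induction k with
  | zero => rfl
  | succ k ih =>
    show (d : GLm) * Matrix.GeneralLinearGroup.map (σ : F →+* F) ((PkG σ d k : ↥(Cfsg.GSp m F)) : GLm) = _
    rw [ih]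
    rfl

theorem pow_PhiG_phiF (σ : F ≃+* F) (d : ↥(Cfsg.GSp m F)) (k : ℕ) :
    (PhiG d * phiF σ) ^ k = PhiG (PkG σ d k) * phiF (σ ^ k) := by
  induction k with
  | zero =>
    rw [pow_zero, pow_zero, phiF_one, mul_one]
    show (1 : MulAut (Cfsg.PSp m F)) = PhiG 1
    rw [map_one]
  | succ k ih =>
    rw [pow_succ', ih]
    show _ = PhiG (d * mapG σ (PkG σ d k)) * phiF (σ ^ (k + 1))
    rw [map_mul, pow_succ', phiF_mul]
    calc PhiG d * phiF σ * (PhiG (PkG σ d k) * phiF (σ ^ k))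
        = PhiG d * (phiF σ * PhiG (PkG σ d k)) * phiF (σ ^ k) := by group
      _ = _ := by
        rw [phiF_PhiG]
        group

theorem Pk_one (σ : F ≃+* F) {κ : Type*} [Fintype κ] [DecidableEq κ] (k : ℕ) :
    H90g.Pk σ (1 : GL κ F) k = 1 := by
  induction k with
  | zero => rfl
  | succ k ih => rw [H90g.Pk_succ, ih, map_one, one_mul]

theorem h90_scalar [Fintype F] (σ : F ≃+* F) (μ : Fˣ) (hN : Nk σ μ (orderOf σ) = 1) :
    ∃ c : Fˣ, (μ : F) * σ (c : F) = c := by
  have hr : 0 < orderOf σ := by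
    have : Finite (F ≃+* F) :=
      Finite.of_injective (fun e : F ≃+* F => (e : F → F)) DFunLike.coe_injective
    exact orderOf_pos σ
  obtain ⟨d, hd⟩ : ∃ d : GL (Fin 1) F, d = Matrix.GeneralLinearGroup.scalar (Fin 1) μ := ⟨_, rfl⟩
  have hP : H90g.Pk σ d (orderOf σ) = 1 := by
    have h1 := H90g.Pk_scalar σ μ (1 : GL (Fin 1) F) (orderOf σ)
    rw [mul_one, Pk_one, mul_one, hN, map_one] at h1
    rw [hd]
    exact h1
  obtain ⟨h, hh⟩ := H90g.hilbert90 σ d hr hP
  have h1 : d * Matrix.GeneralLinearGroup.map (σ : F →+* F) h = h := by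
    rw [hh]
    group
  have h2 := congrArg (fun g : GL (Fin 1) F => (g : Matrix (Fin 1) (Fin 1) F) 0 0) h1
  simp only [Units.val_mul, Matrix.mul_apply, Fin.sum_univ_one] at h2
  have hd00 : (d : Matrix (Fin 1) (Fin 1) F) 0 0 = μ := by
    rw [hd, Matrix.GeneralLinearGroup.coe_scalar]
    simp
  have hc0 : (h : Matrix (Fin 1) (Fin 1) F) 0 0 ≠ 0 := by
    have h3 : (h : Matrix (Fin 1) (Fin 1) F).det ≠ 0 := by
      have := (Matrix.GeneralLinearGroup.det h).ne_zero
      exact this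
    rw [Matrix.det_fin_one] at h3
    exact h3
  refine ⟨Units.mk0 _ hc0, ?_⟩
  rw [hd00] at h2
  exact h2

end Cfsg.Agent.helper14.SpAut
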