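import Mathlib
import Cfsg.Agent.Lib_helper14_SpAutN

set_option autoImplicit false
set_option linter.unusedSectionVars false
set_option linter.unusedVariables false
set_option linter.unusedSimpArgs false

namespace Cfsg.Agent.helper14.SpAut

open Matrix Cfsg.Agent.helper4 Cfsg.Agent.helper29 Cfsg.Agent.helper29.SpRoot

variable {F : Type*} [Field F] {m : ℕ}

local notation "Sp" => Matrix.symplecticGroup (Fin m) F
local notation "ff" => Cfsg.sympForm m F
local notation "VV" => (Fin m ⊕ Fin m → F)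
local notation "MM" => Matrix (Fin m ⊕ Fin m) (Fin m ⊕ Fin m) F
local notation "GLm" => GL (Fin m ⊕ Fin m) F

theorem J_map' {E : Type*} [Field E] (f : E →+* F) :
    (Matrix.J (Fin m) E).map f = Matrix.J (Fin m) F := by
  ext i j
  rcases i with i | i <;> rcases j with j | j <;>
    simp [Matrix.J, Matrix.one_apply, apply_ite f]

theorem bf_eq_ff (x y : VV) : SympBasis.bf (Matrix.J (Fin m) F) x y = ff x y := rfl

theorem bf_smul_mat (c : F) (K : MM) (x y : VV) :
    SympBasis.bf (c • K) x y = c * SympBasis.bf K x y := by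
  unfold SympBasis.bf
  rw [Matrix.smul_mulVec, dotProduct_smul, smul_eq_mul]

theorem bf_congr (k K : MM) (x y : VV) :
    SympBasis.bf (kᵀ * K * k) x y = SympBasis.bf K (k *ᵥ x) (k *ᵥ y) := by
  unfold SympBasis.bf
  rw [← Matrix.mulVec_mulVec, ← Matrix.mulVec_mulVec, Matrix.dotProduct_mulVec,
    Matrix.vecMul_transpose]

/-- Lang's theorem for the conformal symplectic group and a field automorphism -/
theorem lang_gsp [Fintype F] (hm : 1 ≤ m) (σ : F ≃+* F) (d : ↥(Cfsg.GSp m F))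
    (hN : H90g.Pk σ (d : GLm) (orderOf σ) = 1) :
    ∃ h : ↥(Cfsg.GSp m F), d = h * (mapG σ h)⁻¹ := by
  classical
  have hr : 0 < orderOf σ := by
    have : Finite (F ≃+* F) :=
      Finite.of_injective (fun e : F ≃+* F => (e : F → F)) DFunLike.coe_injective
    exact orderOf_pos σ
  have hσr : σ ^ orderOf σ = 1 := pow_orderOf_eq_one σ
  obtain ⟨h, hh⟩ := H90g.hilbert90 σ (d : GLm) hr hN
  obtain ⟨μ, hμ⟩ := (mem_GSp_iff d.1).mp d.2
  have hh' : (h : MM) = ((d : GLm) : MM) * (h : MM).map σ := by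
    have h1 : h = (d : GLm) * Matrix.GeneralLinearGroup.map (σ : F →+* F) h := by
      rw [hh]
      group
    have h2 := congrArg (fun g : GLm => (g : MM)) h1
    simp only [Units.val_mul] at h2
    exact h2
  have hrel : ∀ x y : VV, ff ((h : MM) *ᵥ (σ ∘ x)) ((h : MM) *ᵥ (σ ∘ y)) =
      μ * σ (ff ((h : MM) *ᵥ x) ((h : MM) *ᵥ y)) := by
    intro x y
    have h1 : ∀ z : VV, (h : MM) *ᵥ (σ ∘ z) =
        ((d : GLm) : MM) *ᵥ ((σ : F →+* F) ∘ ((h : MM) *ᵥ z)) := by
      intro z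
      nth_rewrite 1 [hh']
      rw [← Matrix.mulVec_mulVec]
      congr 1
      exact map_mulVec_comp (σ : F →+* F) _ z
    rw [h1, h1, hμ.2, ff_map]
    rfl
  obtain ⟨K, hK⟩ : ∃ K : MM, K = (h : MM)ᵀ * Matrix.J (Fin m) F * (h : MM) := ⟨_, rfl⟩
  have hbf : ∀ x y : VV, SympBasis.bf K x y = ff ((h : MM) *ᵥ x) ((h : MM) *ᵥ y) := by
    intro x y
    rw [hK, bf_congr, bf_eq_ff]
  have hKent : ∀ a b, K a b = SympBasis.bf K (Pi.single a 1) (Pi.single b 1) := by
    intro a b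
    unfold SympBasis.bf
    rw [Matrix.mulVec_single_one, single_dotProduct, one_mul]
    rfl
  have hKσ : ∀ a b, K a b = μ * σ (K a b) := by
    intro a b
    rw [hKent, hbf]
    have := hrel (Pi.single a 1) (Pi.single b 1)
    rw [comp_single, comp_single] at this
    exact this
  obtain ⟨μu, hμu⟩ : ∃ μu : Fˣ, (μu : F) = μ := ⟨Units.mk0 μ hμ.1, rfl⟩
  have hiter : ∀ (k : ℕ) (a b : Fin m ⊕ Fin m),
      K a b = ((Nk σ μu k : Fˣ) : F) * (σ ^ k : F ≃+* F) (K a b) := by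
    intro k
    induction k with
    | zero =>
      intro a b
      show K a b = ((1 : Fˣ) : F) * K a b
      rw [Units.val_one, one_mul]
    | succ k ih =>
      intro a b
      have h1 : K a b = μ * σ (((Nk σ μu k : Fˣ) : F) * (σ ^ k : F ≃+* F) (K a b)) := by
        rw [← ih a b]
        exact hKσ a b
      rw [map_mul, ← mul_assoc] at h1
      have h2 : ((Nk σ μu (k + 1) : Fˣ) : F) = μ * σ ((Nk σ μu k : Fˣ) : F) := by
        show ((μu * Units.map ((σ : F →+* F) : F →* F) (Nk σ μu k) : Fˣ) : F) = _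
        rw [Units.val_mul, hμu]
        rfl
      have h3 : (σ ^ (k + 1) : F ≃+* F) (K a b) = σ ((σ ^ k : F ≃+* F) (K a b)) := by
        rw [pow_succ']
        rfl
      rw [h2, h3]
      exact h1
  have hKunit : IsUnit K := by
    rw [Matrix.isUnit_iff_isUnit_det, hK, Matrix.det_mul, Matrix.det_mul, Matrix.det_transpose]
    have h1 : IsUnit (h : MM).det := (Matrix.isUnit_iff_isUnit_det _).mp h.isUnit
    exact (h1.mul (Matrix.isUnit_det_J (Fin m) F)).mul h1
  have hKne : ∃ a b, K a b ≠ 0 := by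
    by_contra hcon
    push Not at hcon
    have : K = 0 := by
      ext a b
      exact hcon a b
    rw [this] at hKunit
    have h1 := (Matrix.isUnit_iff_isUnit_det _).mp hKunit
    haveI hne : Nonempty (Fin m ⊕ Fin m) := ⟨Sum.inl ⟨0, hm⟩⟩
    rw [Matrix.det_zero] at h1
    exact not_isUnit_zero h1
  obtain ⟨a0, b0, hab0⟩ := hKne
  have hNk : Nk σ μu (orderOf σ) = 1 := by
    have h1 := hiter (orderOf σ) a0 b0
    rw [hσr] at h1
    have h2 : ((Nk σ μu (orderOf σ) : Fˣ) : F) * K a0 b0 = 1 * K a0 b0 := by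
      rw [one_mul]
      exact h1.symm
    apply Units.ext
    rw [Units.val_one]
    exact mul_right_cancel₀ hab0 h2
  obtain ⟨c, hc⟩ := h90_scalar σ μu hNk
  rw [hμu] at hc
  -- the rescaled matrix has fixed entries
  obtain ⟨K', hK'⟩ : ∃ K' : MM, K' = ((c : F)⁻¹) • K := ⟨_, rfl⟩
  have hKK' : K = (c : F) • K' := by
    rw [hK', smul_smul, mul_inv_cancel₀ c.ne_zero, one_smul]
  have hσc : σ (c : F) ≠ 0 := fun h0 => c.ne_zero ((map_eq_zero σ).mp h0)
  have hfix : ∀ a b, σ (K' a b) = K' a b := by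
    intro a b
    rw [hK', Matrix.smul_apply, smul_eq_mul, map_mul, map_inv₀]
    have h1 := hKσ a b
    obtain ⟨sc, hsc⟩ : ∃ sc : F, sc = σ (c : F) := ⟨_, rfl⟩
    obtain ⟨sk, hsk⟩ : ∃ sk : F, sk = σ (K a b) := ⟨_, rfl⟩
    rw [← hsc] at hc hσc ⊢
    rw [← hsk] at h1 ⊢
    rw [h1, ← hc]
    have hμ0 := hμ.1
    field_simp
  obtain ⟨E, hE⟩ : ∃ E : Subfield F, E = fixSub σ := ⟨_, rfl⟩
  have hmemE : ∀ a : F, a ∈ E ↔ σ a = a := by
    intro a
    rw [hE]
    exact mem_fixSub σ a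
  obtain ⟨K₀, hK₀⟩ : ∃ K₀ : Matrix (Fin m ⊕ Fin m) (Fin m ⊕ Fin m) E,
      K₀.map E.subtype = K' :=
    ⟨fun a b => ⟨K' a b, (hmemE _).mpr (hfix a b)⟩, by ext a b; rfl⟩
  have hbf₀ : ∀ x y : Fin m ⊕ Fin m → E,
      ((SympBasis.bf K₀ x y : E) : F) = SympBasis.bf K' (E.subtype ∘ x) (E.subtype ∘ y) := by
    intro x y
    unfold SympBasis.bf
    have h1 := RingHom.map_dotProduct E.subtype x (K₀ *ᵥ y)
    have h2 : (E.subtype ∘ (K₀ *ᵥ y) : VV) = K₀.map E.subtype *ᵥ (E.subtype ∘ y) := by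
      funext i
      exact RingHom.map_mulVec E.subtype K₀ y i
    rw [h2, hK₀] at h1
    exact h1
  have halt : ∀ x : Fin m ⊕ Fin m → E, SympBasis.bf K₀ x x = 0 := by
    intro x
    apply Subtype.ext
    rw [hbf₀, hK', bf_smul_mat, hbf, sympForm_self, mul_zero]
    rfl
  have hdet' : K'.det ≠ 0 := by
    rw [hK', Matrix.det_smul]
    exact mul_ne_zero (pow_ne_zero _ (inv_ne_zero c.ne_zero))
      ((Matrix.isUnit_iff_isUnit_det _).mp hKunit).ne_zero
  have hunit₀ : IsUnit K₀ := by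
    rw [Matrix.isUnit_iff_isUnit_det, isUnit_iff_ne_zero]
    intro h0
    apply hdet'
    rw [← hK₀, ← RingHom.mapMatrix_apply, ← RingHom.map_det, h0, map_zero]
  obtain ⟨k₀, hk₀⟩ := SympBasis.exists_congr_J K₀ halt hunit₀
  obtain ⟨k, hk⟩ : ∃ k : MM, k = k₀.map E.subtype := ⟨_, rfl⟩
  have hkJ : kᵀ * K' * k = Matrix.J (Fin m) F := by
    have h1 : (k₀ᵀ * K₀ * k₀).map E.subtype = (Matrix.J (Fin m) E).map E.subtype := by rw [hk₀]
    rw [Matrix.map_mul, Matrix.map_mul, J_map', hK₀, Matrix.transpose_map, ← hk] at h1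
    exact h1
  have hkfix : k.map σ = k := by
    ext a b
    rw [Matrix.map_apply, hk, Matrix.map_apply]
    exact (hmemE _).mp (k₀ a b).2
  have hkdet : IsUnit k.det := by
    rw [isUnit_iff_ne_zero]
    intro h0
    have h1 := congrArg Matrix.det hkJ
    rw [Matrix.det_mul, Matrix.det_mul, h0, mul_zero] at h1
    exact (Matrix.isUnit_det_J (Fin m) F).ne_zero h1.symm
  obtain ⟨kG, hkG⟩ : ∃ kG : GLm, (kG : MM) = k :=
    ⟨((Matrix.isUnit_iff_isUnit_det k).mpr hkdet).unit, rfl⟩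
  have hkGfix : Matrix.GeneralLinearGroup.map (σ : F →+* F) kG = kG := by
    apply Units.ext
    rw [glmap_val, hkG, hkfix]
  have hsim : Sim (h * kG) (c : F) := by
    refine ⟨c.ne_zero, fun x y => ?_⟩
    rw [Units.val_mul, ← Matrix.mulVec_mulVec, ← Matrix.mulVec_mulVec, ← hbf, hkG, ← bf_congr,
      hKK', Matrix.mul_smul, Matrix.smul_mul, hkJ, bf_smul_mat, bf_eq_ff]
  refine ⟨⟨h * kG, hsim.mem_GSp⟩, ?_⟩
  apply Subtype.ext
  show (d : GLm) = (h * kG) * (Matrix.GeneralLinearGroup.map (σ : F →+* F) (h * kG))⁻¹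
  rw [map_mul, hkGfix, hh]
  group

end Cfsg.Agent.helper14.SpAut
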