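import Mathlib
import Cfsg.Agent.Lib_helper14_SpAutO

set_option autoImplicit false
set_option linter.unusedSectionVars false
set_option linter.unusedVariables false
set_option linter.unusedSimpArgs false

namespace Cfsg.Agent.helper14.SpAut

open Matrix Cfsg.Agent.helper4 Cfsg.Agent.helper29 Cfsg.Agent.helper29.SpRoot

variable {F : Type*} [Field F] {m : ℕ}

local notation "Sp" => Matrix.symplecticGroup (Fin m) F
local notation "ff" => Cfsg.sympForm m F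
local notation "VV" => (Fin m ⊕ Fin m → F)
local notation "MM" => Matrix (Fin m ⊕ Fin m) (Fin m ⊕ Fin m) F
local notation "GLm" => GL (Fin m ⊕ Fin m) F

/-- scalar matrices as elements of `GSp` -/
def scalG (c : Fˣ) : ↥(Cfsg.GSp m F) :=
  ⟨Matrix.GeneralLinearGroup.scalar (Fin m ⊕ Fin m) c, (Sim.scalar c).mem_GSp⟩

theorem PhiG_scalG (c : Fˣ) : PhiG (scalG c : ↥(Cfsg.GSp m F)) = 1 := PhiG_scalar c _

theorem mapG_inv (σ : F ≃+* F) (g : ↥(Cfsg.GSp m F)) : mapG σ g⁻¹ = (mapG σ g)⁻¹ := by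
  apply Subtype.ext
  show Matrix.GeneralLinearGroup.map (σ : F →+* F) ((g : GLm)⁻¹) = _
  rw [map_inv]
  rfl

theorem conj_PhiG_phiF (σ : F ≃+* F) (h : ↥(Cfsg.GSp m F)) :
    PhiG h * phiF σ * (PhiG h)⁻¹ = PhiG (h * (mapG σ h)⁻¹) * phiF σ := by
  rw [map_mul, ← mapG_inv, ← map_inv]
  calc PhiG h * phiF σ * PhiG h⁻¹ = PhiG h * (phiF σ * PhiG h⁻¹) := by group
    _ = _ := by
      rw [phiF_PhiG]
      group

/-- elements of the coset `Inndiag · φ_σ` of the same order as `φ_σ` are conjugate to it -/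
theorem field_conj_sp [Fintype F] (hm : 1 ≤ m) (σ : F ≃+* F) (d : ↥(Cfsg.GSp m F))
    (h2 : orderOf (PhiG d * phiF σ) = orderOf σ) :
    ∃ h : ↥(Cfsg.GSp m F), PhiG d * phiF σ = PhiG h * phiF σ * (PhiG h)⁻¹ := by
  have hσ : σ ^ orderOf σ = 1 := pow_orderOf_eq_one σ
  have h3 : (PhiG d * phiF σ) ^ orderOf σ = 1 := by
    rw [← h2]
    exact pow_orderOf_eq_one _
  rw [pow_PhiG_phiF, hσ, phiF_one, mul_one] at h3
  obtain ⟨c, hc⟩ := PhiG_ker hm _ h3
  rw [PkG_val] at hc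
  have hfix := H90g.scalar_fixed (Sum.inl ⟨0, hm⟩) σ (d : GLm) (orderOf σ) hσ c hc
  obtain ⟨e, he⟩ := exists_norm σ c hfix
  have hNe : Nk σ e (orderOf σ) = c := by
    apply Units.ext
    rw [Nk_val, he]
  obtain ⟨d', hd'⟩ : ∃ d' : ↥(Cfsg.GSp m F), d' = scalG e⁻¹ * d := ⟨_, rfl⟩
  have hd : d = scalG e * d' := by
    rw [hd', ← mul_assoc]
    have : (scalG e : ↥(Cfsg.GSp m F)) * scalG e⁻¹ = 1 := by
      apply Subtype.ext
      show Matrix.GeneralLinearGroup.scalar (Fin m ⊕ Fin m) e *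
        Matrix.GeneralLinearGroup.scalar (Fin m ⊕ Fin m) e⁻¹ = 1
      rw [← map_mul, mul_inv_cancel, map_one]
    rw [this, one_mul]
  have hP' : H90g.Pk σ (d' : GLm) (orderOf σ) = 1 := by
    have h4 := H90g.Pk_scalar σ e (d' : GLm) (orderOf σ)
    have h5 : (d : GLm) = Matrix.GeneralLinearGroup.scalar (Fin m ⊕ Fin m) e * (d' : GLm) := by
      rw [hd]
      rfl
    rw [← h5, hc, hNe] at h4
    have h6 : Matrix.GeneralLinearGroup.scalar (Fin m ⊕ Fin m) c * 1 =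
        Matrix.GeneralLinearGroup.scalar (Fin m ⊕ Fin m) c * H90g.Pk σ (d' : GLm) (orderOf σ) := by
      rw [mul_one]
      exact h4
    exact (mul_left_cancel h6).symm
  obtain ⟨h, hh⟩ := lang_gsp hm σ d' hP'
  refine ⟨h, ?_⟩
  rw [conj_PhiG_phiF, ← hh, hd, map_mul, PhiG_scalG, one_mul]

/-- symplectic matrices as elements of `GSp` -/
def toG (s : Sp) : ↥(Cfsg.GSp m F) :=
  ⟨⟨(s : MM), ((s⁻¹ : Sp) : MM), by
      rw [← Submonoid.coe_mul, mul_inv_cancel]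
      rfl, by
      rw [← Submonoid.coe_mul, inv_mul_cancel]
      rfl⟩, by
    rw [mem_GSp_iff]
    refine ⟨1, one_ne_zero, fun a b => ?_⟩
    rw [one_mul]
    exact Cfsg.Agent.S0766.sympForm_mulVec s a b⟩

theorem conj_pm_eq (s : Sp) : MulAut.conj (pm s) = PhiG (toG s) := by
  ext x
  obtain ⟨t, rfl⟩ := pm_surj x
  rw [MulAut.conj_apply, PhiG_pm, ← pm_inv, ← pm_mul, ← pm_mul]
  congr 1

theorem conj_aut {G : Type*} [Group G] (α : MulAut G) (y : G) :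
    α * MulAut.conj y * α⁻¹ = MulAut.conj (α y) := by
  ext x
  rw [MulAut.mul_apply, MulAut.mul_apply, MulAut.conj_apply, MulAut.conj_apply, map_mul, map_mul,
    map_inv]
  congr 2
  show α (α⁻¹ x) = x
  rw [← MulAut.mul_apply, mul_inv_cancel, MulAut.one_apply]

/-- in characteristic two every inner-diagonal automorphism is inner -/
theorem PhiG_inner_char2 [Fintype F] [CharP F 2] (d : ↥(Cfsg.GSp m F)) :
    ∃ s : Sp, PhiG d = MulAut.conj (pm s) := by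
  obtain ⟨μ, hμ⟩ := (mem_GSp_iff d.1).mp d.2
  obtain ⟨e, he⟩ := Cfsg.Agent.helper29.SpInv.exists_sqrt μ
  have he0 : e ≠ 0 := by
    rintro rfl
    rw [mul_zero] at he
    exact hμ.1 he.symm
  obtain ⟨eu, heu⟩ : ∃ eu : Fˣ, (eu : F) = e := ⟨Units.mk0 e he0, rfl⟩
  obtain ⟨d', hd'⟩ : ∃ d' : ↥(Cfsg.GSp m F), d' = scalG eu⁻¹ * d := ⟨_, rfl⟩
  have hsim' : Sim (d' : GLm) 1 := by
    have h1 := (Sim.scalar (m := m) eu⁻¹).mul hμ
    have h2 : ((eu⁻¹ : Fˣ) : F) * ((eu⁻¹ : Fˣ) : F) * μ = 1 := by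
      rw [Units.val_inv_eq_inv_val, heu, ← he]
      field_simp
    rw [h2] at h1
    rw [hd']
    exact h1
  have hmem : ((d' : GLm) : MM) ∈ Matrix.symplecticGroup (Fin m) F := by
    apply mem_sp_of_preserves
    intro u v
    rw [hsim'.2, one_mul]
  refine ⟨⟨_, hmem⟩, ?_⟩
  rw [conj_pm_eq]
  have h3 : toG ⟨((d' : GLm) : MM), hmem⟩ = d' := by
    apply Subtype.ext
    apply Units.ext
    rfl
  rw [h3, hd', map_mul, PhiG_scalG, one_mul]

/-- the inner-diagonal group is normalised by all automorphisms -/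
theorem inndiag_normal_sp [Fintype F] (hm : 2 ≤ m) (hs : m = 2 → 3 ≤ Fintype.card F)
    (α : MulAut (Cfsg.PSp m F)) (d : ↥(Cfsg.GSp m F)) :
    ∃ d' : ↥(Cfsg.GSp m F), α * PhiG d * α⁻¹ = PhiG d' := by
  obtain ⟨p, hp⟩ := CharP.exists F
  haveI := hp
  haveI : Fact p.Prime := ⟨CharP.char_is_prime F p⟩
  by_cases hp2 : p = 2
  · subst hp2
    obtain ⟨s, hs'⟩ := PhiG_inner_char2 d
    obtain ⟨s', hs''⟩ := pm_surj (α (pm s))
    refine ⟨toG s', ?_⟩
    rw [hs', conj_aut, ← hs'', conj_pm_eq]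
  · have hT : TauPres m F := tauPres (p := p) hm (fun _ => hp2)
    obtain ⟨g, σ, hg, hind⟩ := aut_induced hm hT α
    have hα : α = PhiG ⟨g, hg⟩ * phiF σ := by
      ext x
      obtain ⟨s, rfl⟩ := pm_surj x
      rw [MulAut.mul_apply, phiF_pm, PhiG_pm]
      apply hind s
      rw [conjG_val, mapSp_val]
    refine ⟨⟨g, hg⟩ * mapG σ d * (⟨g, hg⟩ : ↥(Cfsg.GSp m F))⁻¹, ?_⟩
    rw [hα, map_mul, map_mul, map_inv]
    calc PhiG ⟨g, hg⟩ * phiF σ * PhiG d * (PhiG ⟨g, hg⟩ * phiF σ)⁻¹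
        = PhiG ⟨g, hg⟩ * (phiF σ * PhiG d) * (phiF σ)⁻¹ * (PhiG ⟨g, hg⟩)⁻¹ := by group
      _ = _ := by
        rw [phiF_PhiG]
        group

end Cfsg.Agent.helper14.SpAut
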