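import Mathlib
import Cfsg.Agent.Lib_helper14_SpAutP

set_option autoImplicit false
set_option linter.unusedSectionVars false
set_option linter.unusedVariables false
set_option linter.unusedSimpArgs false

/-! Automorphisms of `PSp` preserving the set of transvection images, one automorphism at a time. -/

namespace Cfsg.Agent.helper14.SpAut

open Matrix Cfsg.Agent.helper4 Cfsg.Agent.helper29 Cfsg.Agent.helper29.SpRoot

variable {F : Type*} [Field F] {m : ℕ}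

local notation "Sp" => Matrix.symplecticGroup (Fin m) F
local notation "ff" => Cfsg.sympForm m F
local notation "VV" => (Fin m ⊕ Fin m → F)
local notation "MM" => Matrix (Fin m ⊕ Fin m) (Fin m ⊕ Fin m) F
local notation "GLm" => GL (Fin m ⊕ Fin m) F

/-- the images of the nontrivial transvections -/
def TSet (m : ℕ) (F : Type*) [Field F] : Set (Cfsg.PSp m F) :=
  {y | ∃ (w : Fin m ⊕ Fin m → F) (d : F), w ≠ 0 ∧ d ≠ 0 ∧ y = pm (tau w d)}

/-- `β` preserves the set of transvection images -/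
def TPa (β : MulAut (Cfsg.PSp m F)) : Prop := ∀ y ∈ TSet m F, β y ∈ TSet m F

theorem TPa.apply {β : MulAut (Cfsg.PSp m F)} (h : TPa β) (v : VV) (c : F) (hv : v ≠ 0)
    (hc : c ≠ 0) : ∃ (w : VV) (d : F), w ≠ 0 ∧ d ≠ 0 ∧ β (pm (tau v c)) = pm (tau w d) :=
  h _ ⟨v, c, hv, hc, rfl⟩

theorem TPa.of_forall {β : MulAut (Cfsg.PSp m F)}
    (h : ∀ (v : VV) (c : F), v ≠ 0 → c ≠ 0 →
      ∃ (w : VV) (d : F), w ≠ 0 ∧ d ≠ 0 ∧ β (pm (tau v c)) = pm (tau w d)) : TPa β := by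
  rintro _ ⟨v, c, hv, hc, rfl⟩
  exact h v c hv hc

theorem TPa.of_tauPres (hT : TauPres m F) (β : MulAut (Cfsg.PSp m F)) : TPa β :=
  TPa.of_forall (fun v c hv hc => hT β v c hv hc)

theorem TPa.mul {β γ : MulAut (Cfsg.PSp m F)} (h : TPa β) (h' : TPa γ) : TPa (γ * β) := by
  intro y hy
  rw [MulAut.mul_apply]
  exact h' _ (h y hy)

theorem TPa.one : TPa (1 : MulAut (Cfsg.PSp m F)) := fun y hy => hy

instance finite_PSp [Finite F] : Finite (Cfsg.PSp m F) := by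
  unfold Cfsg.PSp
  infer_instance

theorem TPa.inv [Finite F] {β : MulAut (Cfsg.PSp m F)} (h : TPa β) : TPa β⁻¹ := by
  classical
  obtain ⟨f, hf⟩ : ∃ f : TSet m F → TSet m F, ∀ y, (f y : Cfsg.PSp m F) = β y.1 :=
    ⟨fun y => ⟨β y.1, h y.1 y.2⟩, fun y => rfl⟩
  have hinj : Function.Injective f := by
    intro a b hab
    apply Subtype.ext
    apply β.injective
    rw [← hf, ← hf, hab]
  have hsurj := Finite.surjective_of_injective hinj
  intro y hy
  obtain ⟨y', hyy⟩ := hsurj ⟨y, hy⟩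
  have h1 : β y'.1 = y := by
    rw [← hf, hyy]
  rw [← h1]
  show β⁻¹ (β y'.1) ∈ _
  rw [← MulAut.mul_apply, inv_mul_cancel, MulAut.one_apply]
  exact y'.2

theorem TPa.phiGS (g : GLm) (μ : F) (h : Sim g μ) (σ : F ≃+* F) : TPa (phiGS g μ h σ) := by
  apply TPa.of_forall
  intro v c hv hc
  refine ⟨(g : MM) *ᵥ (σ ∘ v), σ c / μ, gl_mulVec_ne_zero g _ (comp_ne_zero σ v hv), ?_, ?_⟩
  · exact div_ne_zero ((map_ne_zero σ).mpr hc) h.1
  · rw [phiGS_pm, mapSp_tau, conjSp_tau]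

theorem Rel.exists' {β : MulAut (Cfsg.PSp m F)} (hT : TPa β) (v : VV) (hv : v ≠ 0) :
    ∃ w, Rel β v w := by
  obtain ⟨w, d, hw, hd, h⟩ := hT.apply v 1 hv one_ne_zero
  exact ⟨w, hv, hw, 1, d, one_ne_zero, hd, h⟩

theorem Rel.unique' [Finite F] (hm : 1 ≤ m) {β : MulAut (Cfsg.PSp m F)} (hT : TPa β) {v w w' : VV}
    (h : Rel β v w) (h' : Rel β v w') : ∃ a : F, a ≠ 0 ∧ w' = a • w := by
  have hw : w ≠ 0 := h.2.1
  have hw' : w' ≠ 0 := h'.2.1
  have hperp : ∀ y, ff y w = 0 → ff y w' = 0 := by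
    intro y hy
    by_cases hy0 : y = 0
    · rw [hy0, ff_zero_left]
    · obtain ⟨x, hx⟩ := Rel.exists' hT.inv y hy0
      have hx' : Rel β x y := by
        have := hx.symm
        rw [inv_inv] at this
        exact this
      have h1 : ff x v = 0 := (Rel.perp hm hx' h).mpr hy
      exact (Rel.perp hm hx' h').mp h1
  obtain ⟨a, ha⟩ := perp_perp w w' hw hperp
  refine ⟨a, ?_, ha⟩
  rintro rfl
  rw [zero_smul] at ha
  exact hw' ha

theorem Rel.all' [Finite F] (hm : 1 ≤ m) {β : MulAut (Cfsg.PSp m F)} (hT : TPa β) {v w : VV}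
    (h : Rel β v w) (c : F) (hc : c ≠ 0) : ∃ d : F, d ≠ 0 ∧ β (pm (tau v c)) = pm (tau w d) := by
  obtain ⟨w', d, hw', hd, h1⟩ := hT.apply v c h.1 hc
  have h' : Rel β v w' := ⟨h.1, hw', c, d, hc, hd, h1⟩
  obtain ⟨a, ha, hwa⟩ := Rel.unique' hm hT h h'
  refine ⟨a ^ 2 * d, mul_ne_zero (pow_ne_zero _ ha) hd, ?_⟩
  rw [h1, hwa, tau_smul]

theorem Rel.comp' [Finite F] (hm : 1 ≤ m) {β γ : MulAut (Cfsg.PSp m F)} (hT : TPa γ) {v w u : VV}
    (h : Rel β v w) (h' : Rel γ w u) : Rel (γ * β) v u := by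
  obtain ⟨hv, hw, c, d, hc, hd, h1⟩ := h
  obtain ⟨d', hd', h2⟩ := Rel.all' hm hT h' d hd
  refine ⟨hv, h'.2.1, c, d', hc, hd', ?_⟩
  rw [MulAut.mul_apply, h1, h2]

/-- a choice of representative of the image point -/
noncomputable def ptMap' {β : MulAut (Cfsg.PSp m F)} (hT : TPa β) (v : VV) : VV := by
  classical
  exact if h : v ≠ 0 then Classical.choose (Rel.exists' hT v h) else 0

theorem ptMap_rel' {β : MulAut (Cfsg.PSp m F)} (hT : TPa β) (v : VV) (hv : v ≠ 0) :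
    Rel β v (ptMap' hT v) := by
  unfold ptMap'
  rw [dif_pos hv]
  exact Classical.choose_spec (Rel.exists' hT v hv)

theorem ptMap_coll' [Finite F] (hm : 1 ≤ m) {β : MulAut (Cfsg.PSp m F)} (hT : TPa β) :
    FTPG.Coll (ptMap' hT) := by
  constructor
  · intro v hv
    exact (ptMap_rel' hT v hv).2.1
  · intro u v a b hu hv hne
    apply mem_span_pair_of_perp
    intro y hyu hyv
    by_cases hy0 : y = 0
    · rw [hy0, ff_zero_left]
    · obtain ⟨y', hy'⟩ := Rel.exists' hT.inv y hy0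
      have hy'' : Rel β y' y := hy'.of_inv
      have h1 : ff y' u = 0 := (Rel.perp hm hy'' (ptMap_rel' hT u hu)).mpr hyu
      have h2 : ff y' v = 0 := (Rel.perp hm hy'' (ptMap_rel' hT v hv)).mpr hyv
      have h3 : ff y' (a • u + b • v) = 0 := by
        rw [sympForm_add_right, sympForm_smul_right, sympForm_smul_right, h1, h2, mul_zero,
          mul_zero, add_zero]
      exact (Rel.perp hm hy'' (ptMap_rel' hT _ hne)).mp h3
  · intro u v hu hv h
    obtain ⟨c, hc⟩ := h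
    have hru := ptMap_rel' hT u hu
    have hrv := ptMap_rel' hT v hv
    have hc0 : c ≠ 0 := by
      rintro rfl
      rw [zero_smul] at hc
      exact hru.2.1 hc
    have h1 : Rel β v (ptMap' hT u) := by
      have := hrv.smul 1 c one_ne_zero hc0
      rw [one_smul, ← hc] at this
      exact this
    obtain ⟨a, ha, hva⟩ := Rel.unique' hm hT.inv hru.symm h1.symm
    refine ⟨a⁻¹, ?_⟩
    rw [hva, smul_smul, inv_mul_cancel₀ ha, one_smul]

theorem ptMap_surj' [Finite F] (hm : 1 ≤ m) {β : MulAut (Cfsg.PSp m F)} (hT : TPa β) (y : VV)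
    (hy : y ≠ 0) : ∃ v : VV, v ≠ 0 ∧ ∃ c : F, c ≠ 0 ∧ ptMap' hT v = c • y := by
  obtain ⟨v, hv⟩ := Rel.exists' hT.inv y hy
  have hv' : Rel β v y := hv.of_inv
  obtain ⟨a, ha, hva⟩ := Rel.unique' hm hT hv' (ptMap_rel' hT v hv'.1)
  exact ⟨v, hv'.1, a, ha, hva⟩

theorem exists_semilinear' [Fintype F] (hm : 2 ≤ m) {β : MulAut (Cfsg.PSp m F)} (hT : TPa β) :
    ∃ (σ : F ≃+* F) (g : GL (Fin m ⊕ Fin m) F), ∀ v : VV, v ≠ 0 →
      Rel β v ((g : MM) *ᵥ (σ ∘ v)) := by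
  have hm1 : 1 ≤ m := by omega
  obtain ⟨σ, g, h⟩ := FTPG.ftpg (ptMap_coll' hm1 hT) (ptMap_surj' hm1 hT)
    (Sum.inl ⟨0, by omega⟩) (Sum.inl ⟨1, by omega⟩) (Sum.inr ⟨0, by omega⟩)
    (by
      intro h
      have := Sum.inl.inj h
      rw [Fin.mk.injEq] at this
      omega)
    (by intro h; cases h)
    (by intro h; cases h)
  refine ⟨σ, g, ?_⟩
  intro v hv
  obtain ⟨c, hc, hcv⟩ := h v hv
  have h1 := (ptMap_rel' hT v hv).smul 1 c⁻¹ one_ne_zero (inv_ne_zero hc)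
  rw [one_smul, hcv, smul_smul, inv_mul_cancel₀ hc, one_smul] at h1
  exact h1

theorem aut_eq_one_of_rel_self' [Finite F] (hm : 1 ≤ m) {β : MulAut (Cfsg.PSp m F)} (hT : TPa β)
    (h : ∀ v : VV, v ≠ 0 → Rel β v v) : β = 1 := by
  ext x
  obtain ⟨s, rfl⟩ := pm_surj x
  obtain ⟨s', hs'⟩ := pm_surj (β (pm s))
  rw [MulAut.one_apply, ← hs']
  have heig : ∀ v : VV, ∃ c : F, ((s⁻¹ * s' : Sp) : MM) *ᵥ v = c • v := by
    intro v
    by_cases hv : v = 0
    · exact ⟨0, by rw [hv, Matrix.mulVec_zero, smul_zero]⟩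
    · have h1 := (h v hv).equivariant s s' hs'.symm
      have h2 := h (act s v) (act_ne_zero s v hv)
      obtain ⟨a, ha, hsa⟩ := Rel.unique' hm hT h2 h1
      refine ⟨a, ?_⟩
      show act (s⁻¹ * s') v = a • v
      rw [act_mul, hsa, act_smul, act_inv_act]
  obtain ⟨z, hz⟩ : ∃ z : Sp, z = s⁻¹ * s' := ⟨_, rfl⟩
  rw [← hz] at heig
  have hsc := Cfsg.Agent.S0246.scalar_of_eigen _ heig (Sum.inl ⟨0, hm⟩)
  have hcen : z ∈ Subgroup.center Sp := by
    rw [Subgroup.mem_center_iff]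
    intro t
    apply Subtype.ext
    rw [Submonoid.coe_mul, Submonoid.coe_mul, hsc, Matrix.mul_smul, Matrix.smul_mul, Matrix.mul_one,
      Matrix.one_mul]
  rw [hz] at hcen
  symm
  apply (mk_eq_iff s s').mpr
  exact ⟨s⁻¹ * s', hcen, by group⟩

/-- an automorphism preserving transvection images is induced by a semilinear similitude -/
theorem aut_induced' [Fintype F] (hm : 2 ≤ m) {β : MulAut (Cfsg.PSp m F)} (hT : TPa β) :
    ∃ (g : GLm) (μ : F) (hsim : Sim g μ) (σ : F ≃+* F), β = phiGS g μ hsim σ := by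
  have hm1 : 1 ≤ m := by omega
  obtain ⟨σ, g, hrel⟩ := exists_semilinear' hm hT
  obtain ⟨μ, hsim⟩ := sim_of_rel hm1 β σ g hrel
  have hT2 : TPa ((phiGS g μ hsim σ)⁻¹ * β) := TPa.mul hT (TPa.phiGS g μ hsim σ).inv
  have h1 : (phiGS g μ hsim σ)⁻¹ * β = 1 := by
    apply aut_eq_one_of_rel_self' hm1 hT2
    intro v hv
    exact Rel.comp' hm1 (TPa.phiGS g μ hsim σ).inv (hrel v hv) (phiGS_rel g μ hsim σ v hv).symm
  have h2 : β = phiGS g μ hsim σ := by
    have := congrArg (fun x => phiGS g μ hsim σ * x) h1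
    simp only [mul_inv_cancel_left, mul_one] at this
    exact this
  exact ⟨g, μ, hsim, σ, h2⟩

/-- the induced automorphism as a product of a diagonal and a field automorphism -/
theorem phiGS_eq (g : GLm) (μ : F) (h : Sim g μ) (σ : F ≃+* F) :
    phiGS g μ h σ = PhiG (⟨g, h.mem_GSp⟩ : ↥(Cfsg.GSp m F)) * phiF σ := by
  ext x
  obtain ⟨s, rfl⟩ := pm_surj x
  rw [phiGS_pm, MulAut.mul_apply, phiF_pm, PhiG_pm]
  congr 1

end Cfsg.Agent.helper14.SpAut
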