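import Mathlib
import Cfsg.Agent.Lib_helper14_SpAutV
import Cfsg.Agent.Lib_helper14_SpAutE

set_option autoImplicit false
set_option linter.unusedSectionVars false
set_option linter.unusedVariables false
set_option linter.unusedSimpArgs false

/-! `Sp_4` in characteristic two: automorphisms of odd order preserve the transvections. -/

namespace Cfsg.Agent.helper14.SpAut

open Matrix Cfsg.Agent.helper4 Cfsg.Agent.helper29 Cfsg.Agent.helper29.SpRoot
open Cfsg.Agent.helper29.SpInv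

variable {F : Type*} [Field F]

local notation "Sp" => Matrix.symplecticGroup (Fin 2) F
local notation "ff" => Cfsg.sympForm 2 F
local notation "VV" => (Fin 2 ⊕ Fin 2 → F)
local notation "MM" => Matrix (Fin 2 ⊕ Fin 2) (Fin 2 ⊕ Fin 2) F

/-- involutions of rank one -/
def TT4 (F : Type*) [Field F] : Set (Matrix.symplecticGroup (Fin 2) F) :=
  {u | u * u = 1 ∧ (NNs u).rank = 1}

/-- alternating involutions of rank two -/
def SS4 (F : Type*) [Field F] : Set (Matrix.symplecticGroup (Fin 2) F) :=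
  {u | u * u = 1 ∧ IsAltInv u ∧ (NNs u).rank = 2}

theorem TT4_SS4_disjoint (u : Sp) (h1 : u ∈ TT4 F) (h2 : u ∈ SS4 F) : False := by
  have := h1.2
  rw [h2.2.2] at this
  omega

theorem card_cent_TT4 [Fintype F] [CharP F 2] {q : ℕ} (hq : Fintype.card F = q) (u : Sp)
    (hu : u ∈ TT4 F) :
    Nat.card (Subgroup.centralizer ({u} : Set Sp)) = q ^ 3 * (q * (q ^ 2 - 1)) := by
  have h := card_centralizer_odd hq u hu.1 (by rw [hu.2]; exact odd_one)
  rw [hu.2] at h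
  have e1 : 2 * 2 * 1 - (3 * 1 ^ 2 - 1) / 2 = 3 := by norm_num
  have e2 : (1 - 1) / 2 = 0 := by norm_num
  have e3 : 2 - 1 = 1 := by norm_num
  rw [e1, e2, e3, spN_zero, spN_one, mul_one] at h
  exact h

theorem card_cent_SS4 [Fintype F] [CharP F 2] {q : ℕ} (hq : Fintype.card F = q) (u : Sp)
    (hu : u ∈ SS4 F) :
    Nat.card (Subgroup.centralizer ({u} : Set Sp)) = q ^ 3 * (q * (q ^ 2 - 1)) := by
  have h := card_centralizer_alt hq u hu.1 hu.2.1
  rw [hu.2.2] at h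
  have e1 : 2 * 2 * 2 - (3 * 2 ^ 2 - 2) / 2 = 3 := by norm_num
  have e2 : 2 / 2 = 1 := by norm_num
  have e3 : 2 - 2 = 0 := by norm_num
  rw [e1, e2, e3, spN_zero, spN_one, mul_one] at h
  exact h

theorem card_cent_nonalt4 [Fintype F] [CharP F 2] {q : ℕ} (hq : Fintype.card F = q) (u : Sp)
    (hu2 : u * u = 1) (hr : (NNs u).rank = 2) (hna : ¬ IsAltInv u) :
    Nat.card (Subgroup.centralizer ({u} : Set Sp)) = q ^ 4 := by
  have h := card_centralizer_even_nonalt hq u hu2 (by rw [hr]; exact even_two) hna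
  rw [hr] at h
  have e1 : 2 * 2 * 2 - (3 * 2 ^ 2 - 3 * 2) / 2 - 1 = 4 := by norm_num
  have e2 : (2 - 2) / 2 = 0 := by norm_num
  have e3 : 2 - 2 = 0 := by norm_num
  rw [e1, e2, e3, spN_zero, mul_one, mul_one] at h
  exact h

theorem good_map [Fintype F] [CharP F 2] (e : Sp ≃* Sp) (u : Sp) (hu : u ∈ TT4 F ∨ u ∈ SS4 F) :
    e u ∈ TT4 F ∨ e u ∈ SS4 F := by
  obtain ⟨q, hq⟩ : ∃ q : ℕ, Fintype.card F = q := ⟨_, rfl⟩
  have hq2 : 2 ≤ q := by
    rw [← hq]
    exact Fintype.one_lt_card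
  have hu2 : u * u = 1 := by
    rcases hu with h | h
    · exact h.1
    · exact h.1
  have hu1 : u ≠ 1 := by
    rintro rfl
    have h0 : (NNs (1 : Sp)).rank = 0 := by
      unfold NNs
      rw [Submonoid.coe_one, sub_self, Matrix.rank_zero]
    rcases hu with h | h
    · have := h.2
      rw [h0] at this
      omega
    · have := h.2.2
      rw [h0] at this
      omega
  have hcu : Nat.card (Subgroup.centralizer ({u} : Set Sp)) = q ^ 3 * (q * (q ^ 2 - 1)) := by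
    rcases hu with h | h
    · exact card_cent_TT4 hq u h
    · exact card_cent_SS4 hq u h
  have hce : Nat.card (Subgroup.centralizer ({e u} : Set Sp)) = q ^ 3 * (q * (q ^ 2 - 1)) := by
    rw [card_centralizer_equiv e u, hcu]
  have he2 : e u * e u = 1 := by rw [← map_mul, hu2, map_one]
  have he1 : e u ≠ 1 := by
    intro h
    apply hu1
    apply e.injective
    rw [h, map_one]
  have hr1 := rank_pos (e u) he1
  have hr2 := rank_le (e u) he2
  have hr : (NNs (e u)).rank = 1 ∨ (NNs (e u)).rank = 2 := by omega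
  rcases hr with hr | hr
  · left
    exact ⟨he2, hr⟩
  · by_cases halt : IsAltInv (e u)
    · right
      exact ⟨he2, halt, hr⟩
    · exfalso
      have h4 := card_cent_nonalt4 hq (e u) he2 hr halt
      rw [hce] at h4
      have h5 : q ^ 3 * (q * (q ^ 2 - 1)) = q ^ 4 * (q ^ 2 - 1) := by ring
      rw [h5] at h4
      have hq4 : 0 < q ^ 4 := pow_pos (by omega) 4
      have h6 : q ^ 2 - 1 = 1 := by
        have : q ^ 4 * (q ^ 2 - 1) = q ^ 4 * 1 := by rw [h4, mul_one]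
        exact Nat.eq_of_mul_eq_mul_left hq4 this
      have h7 : 4 ≤ q ^ 2 := by nlinarith
      omega

theorem TT4_conj (g u : Sp) (hu : u ∈ TT4 F) : g * u * g⁻¹ ∈ TT4 F := by
  refine ⟨?_, ?_⟩
  · calc g * u * g⁻¹ * (g * u * g⁻¹) = g * (u * u) * g⁻¹ := by group
      _ = 1 := by rw [hu.1]; group
  · rw [rank_conj, hu.2]

theorem SS4_conj (g u : Sp) (hu : u ∈ SS4 F) : g * u * g⁻¹ ∈ SS4 F := by
  refine ⟨?_, ?_, ?_⟩
  · calc g * u * g⁻¹ * (g * u * g⁻¹) = g * (u * u) * g⁻¹ := by group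
      _ = 1 := by rw [hu.1]; group
  · exact (alt_conj g u).mpr hu.2.1
  · rw [rank_conj, hu.2.2]

theorem TT4_nonalt [CharP F 2] (u : Sp) (hu : u ∈ TT4 F) : ¬ IsAltInv u := by
  intro halt
  have := rank_II u hu.1 halt
  rw [hu.2] at this
  exact absurd this (by decide)

theorem TT4_single [Fintype F] [CharP F 2] (u u' : Sp) (hu : u ∈ TT4 F) (hu' : u' ∈ TT4 F) :
    ∃ g : Sp, u' = g * u * g⁻¹ := by
  have h := conj_I u u' hu.1 hu'.1 (TT4_nonalt u hu) (TT4_nonalt u' hu') (by rw [hu.2, hu'.2])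
  obtain ⟨g, hg⟩ := isConj_iff.mp h
  exact ⟨g, hg.symm⟩

theorem SS4_single [CharP F 2] (u u' : Sp) (hu : u ∈ SS4 F) (hu' : u' ∈ SS4 F) :
    ∃ g : Sp, u' = g * u * g⁻¹ := by
  have h := conj_II u u' hu.1 hu'.1 hu.2.1 hu'.2.1 (by rw [hu.2.2, hu'.2.2])
  obtain ⟨g, hg⟩ := isConj_iff.mp h
  exact ⟨g, hg.symm⟩

/-- an automorphism mapping one rank one involution to a rank one involution preserves them -/
theorem TT4_pres_of_one [Fintype F] [CharP F 2] (e : Sp ≃* Sp) (u₀ : Sp) (hu₀ : u₀ ∈ TT4 F)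
    (h : e u₀ ∈ TT4 F) : ∀ u ∈ TT4 F, e u ∈ TT4 F := by
  intro u hu
  obtain ⟨g, rfl⟩ := TT4_single u₀ u hu₀ hu
  rw [map_mul, map_mul, map_inv]
  exact TT4_conj (e g) (e u₀) h

theorem TT4_to_SS4_of_one [Fintype F] [CharP F 2] (e : Sp ≃* Sp) (u₀ : Sp) (hu₀ : u₀ ∈ TT4 F)
    (h : e u₀ ∈ SS4 F) : ∀ u ∈ TT4 F, e u ∈ SS4 F := by
  intro u hu
  obtain ⟨g, rfl⟩ := TT4_single u₀ u hu₀ hu
  rw [map_mul, map_mul, map_inv]
  exact SS4_conj (e g) (e u₀) h

theorem SS4_pres_of_one [Fintype F] [CharP F 2] (e : Sp ≃* Sp) (u₀ : Sp) (hu₀ : u₀ ∈ SS4 F)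
    (h : e u₀ ∈ SS4 F) : ∀ u ∈ SS4 F, e u ∈ SS4 F := by
  intro u hu
  obtain ⟨g, rfl⟩ := SS4_single u₀ u hu₀ hu
  rw [map_mul, map_mul, map_inv]
  exact SS4_conj (e g) (e u₀) h

theorem SS4_to_TT4_of_one [Fintype F] [CharP F 2] (e : Sp ≃* Sp) (u₀ : Sp) (hu₀ : u₀ ∈ SS4 F)
    (h : e u₀ ∈ TT4 F) : ∀ u ∈ SS4 F, e u ∈ TT4 F := by
  intro u hu
  obtain ⟨g, rfl⟩ := SS4_single u₀ u hu₀ hu
  rw [map_mul, map_mul, map_inv]
  exact TT4_conj (e g) (e u₀) h

/-- a swapping automorphism swaps both ways -/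
theorem swap_back [Fintype F] [CharP F 2] (e : MulAut Sp) (u₀ : Sp) (hu₀ : u₀ ∈ TT4 F)
    (h : e u₀ ∈ SS4 F) : ∀ u ∈ SS4 F, e u ∈ TT4 F := by
  obtain ⟨s₁, hs₁⟩ : ∃ s₁ : Sp, s₁ = e u₀ := ⟨_, rfl⟩
  rw [← hs₁] at h
  rcases good_map e s₁ (Or.inr h) with h1 | h1
  · exact SS4_to_TT4_of_one e s₁ h h1
  · exfalso
    -- the inverse maps `s₁` to `u₀`
    have hinv : (e⁻¹ : MulAut Sp) s₁ = u₀ := by
      rw [hs₁, ← MulAut.mul_apply, inv_mul_cancel, MulAut.one_apply]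
    have hB' : ∀ u ∈ SS4 F, (e⁻¹ : MulAut Sp) u ∈ TT4 F := by
      apply SS4_to_TT4_of_one (e⁻¹ : MulAut Sp) s₁ h
      rw [hinv]
      exact hu₀
    have h2 := hB' (e s₁) h1
    rw [← MulAut.mul_apply, inv_mul_cancel, MulAut.one_apply] at h2
    exact TT4_SS4_disjoint s₁ h2 h

theorem exists_TT4 [CharP F 2] : ∃ u₀ : Sp, u₀ ∈ TT4 F := by
  obtain ⟨v, hv⟩ : ∃ v : VV, v = Pi.single (Sum.inl 0) 1 := ⟨_, rfl⟩
  have hv0 : v ≠ 0 := by
    intro h
    have := congrFun h (Sum.inl 0)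
    rw [hv, Pi.single_eq_same, Pi.zero_apply] at this
    exact one_ne_zero this
  refine ⟨tau v 1, ?_, rank_tau v 1 hv0 one_ne_zero⟩
  rw [tau_mul, CharTwo.add_self_eq_zero, tau_zero]

/-- automorphisms of odd order preserve the rank one involutions -/
theorem odd_order_pres [Fintype F] [CharP F 2] (e : MulAut Sp) (k : ℕ) (hk : e ^ (2 * k + 1) = 1) :
    ∀ u ∈ TT4 F, e u ∈ TT4 F := by
  obtain ⟨u₀, hu₀⟩ := exists_TT4 (F := F)
  rcases good_map e u₀ (Or.inl hu₀) with h | h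
  · exact TT4_pres_of_one e u₀ hu₀ h
  · exfalso
    have hB : ∀ u ∈ TT4 F, e u ∈ SS4 F := TT4_to_SS4_of_one e u₀ hu₀ h
    have hB' : ∀ u ∈ SS4 F, e u ∈ TT4 F := swap_back e u₀ hu₀ h
    have hsq : ∀ j : ℕ, ∀ u ∈ TT4 F, (e ^ (2 * j)) u ∈ TT4 F := by
      intro j
      induction j with
      | zero =>
        intro u hu
        rw [mul_zero, pow_zero, MulAut.one_apply]
        exact hu
      | succ j ih =>
        intro u hu
        have e1 : e ^ (2 * (j + 1)) = e * e * e ^ (2 * j) := by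
          rw [show 2 * (j + 1) = 2 + 2 * j by ring, pow_add, pow_two]
        rw [e1, MulAut.mul_apply, MulAut.mul_apply]
        exact hB' _ (hB _ (ih u hu))
    have h1 : (e ^ (2 * k + 1)) u₀ ∈ SS4 F := by
      rw [pow_succ', MulAut.mul_apply]
      exact hB _ (hsq k u₀ hu₀)
    rw [hk, MulAut.one_apply] at h1
    exact TT4_SS4_disjoint u₀ hu₀ h1

section transfer
variable [Fintype F] [CharP F 2]

/-- `Sp ≃ PSp` in characteristic two -/
noncomputable def e04 : Sp ≃* Cfsg.PSp 2 F :=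
  MulEquiv.ofBijective (QuotientGroup.mk' _)
    ⟨pm_injective_char2 (by norm_num), QuotientGroup.mk'_surjective _⟩

theorem e04_apply (s : Sp) : e04 s = pm s := rfl

theorem congr_e04 (x : MulAut (Cfsg.PSp 2 F)) (s : Sp) :
    pm (MulAut.congr (e04 (F := F)).symm x s) = x (pm s) := by
  rw [MulAut.congr_apply]
  show pm ((e04 (F := F)).symm (x ((e04 (F := F)).symm.symm s))) = _
  rw [MulEquiv.symm_symm, ← e04_apply, MulEquiv.apply_symm_apply, e04_apply]

theorem TPa_of_TT4_pres (x : MulAut (Cfsg.PSp 2 F))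
    (h : ∀ u ∈ TT4 F, MulAut.congr (e04 (F := F)).symm x u ∈ TT4 F) : TPa x := by
  apply TPa.of_forall
  intro v c hv hc
  have h1 : tau v c ∈ TT4 F := by
    refine ⟨?_, rank_tau v c hv hc⟩
    rw [tau_mul, CharTwo.add_self_eq_zero, tau_zero]
  have h2 := h _ h1
  obtain ⟨w, d, hw, hd, huw⟩ := tau_of_rank_one _ h2.1 h2.2
  refine ⟨w, d, hw, hd, ?_⟩
  rw [← congr_e04, huw]

/-- automorphisms of odd order of `PSp_4` in characteristic two preserve transvections -/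
theorem TPa_of_odd_order (x : MulAut (Cfsg.PSp 2 F)) (k : ℕ) (hk : x ^ (2 * k + 1) = 1) : TPa x := by
  apply TPa_of_TT4_pres
  apply odd_order_pres _ k
  rw [← map_pow, hk, map_one]

/-- an automorphism fixing one transvection image preserves them all -/
theorem TPa_of_fix_one (x : MulAut (Cfsg.PSp 2 F)) (v : VV) (c : F) (hv : v ≠ 0) (hc : c ≠ 0)
    (h : x (pm (tau v c)) ∈ TSet 2 F) : TPa x := by
  apply TPa_of_TT4_pres
  have h1 : tau v c ∈ TT4 F := by
    refine ⟨?_, rank_tau v c hv hc⟩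
    rw [tau_mul, CharTwo.add_self_eq_zero, tau_zero]
  apply TT4_pres_of_one _ (tau v c) h1
  obtain ⟨w, d, hw, hd, hwd⟩ := h
  have h2 : MulAut.congr (e04 (F := F)).symm x (tau v c) = tau w d := by
    apply pm_injective_char2 (by norm_num)
    rw [congr_e04, hwd]
  rw [h2]
  refine ⟨?_, rank_tau w d hw hd⟩
  rw [tau_mul, CharTwo.add_self_eq_zero, tau_zero]

end transfer

end Cfsg.Agent.helper14.SpAut
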