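import Mathlib
import Cfsg.Agent.Lib_helper14_SpAutP

set_option autoImplicit false
set_option linter.unusedSectionVars false
set_option linter.unusedVariables false
set_option linter.unusedSimpArgs false

namespace Cfsg.Agent.helper14.SpAut

open Matrix Cfsg.Agent.helper4 Cfsg.Agent.helper29 Cfsg.Agent.helper29.SpRoot

variable {F : Type*} [Field F] {m : ℕ}

local notation "Sp" => Matrix.symplecticGroup (Fin m) F
local notation "ff" => Cfsg.sympForm m F
local notation "VV" => (Fin m ⊕ Fin m → F)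
local notation "MM" => Matrix (Fin m ⊕ Fin m) (Fin m ⊕ Fin m) F
local notation "GLm" => GL (Fin m ⊕ Fin m) F

theorem bf_ext (M M' : MM) (h : ∀ a b : VV, SympBasis.bf M a b = SympBasis.bf M' a b) : M = M' := by
  ext i j
  have := h (Pi.single i 1) (Pi.single j 1)
  unfold SympBasis.bf at this
  rw [Matrix.mulVec_single_one, Matrix.mulVec_single_one, single_dotProduct, single_dotProduct,
    one_mul, one_mul] at this
  exact this

/-- the similitude condition in matrix form -/
theorem sim_iff_matrix (g : GLm) (μ : F) :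
    Sim g μ ↔ μ ≠ 0 ∧ (g : MM)ᵀ * Matrix.J (Fin m) F * (g : MM) = μ • Matrix.J (Fin m) F := by
  constructor
  · intro h
    refine ⟨h.1, ?_⟩
    apply bf_ext
    intro a b
    rw [bf_congr, bf_eq_ff, bf_smul_mat, bf_eq_ff, h.2]
  · rintro ⟨h0, h⟩
    refine ⟨h0, fun a b => ?_⟩
    rw [← bf_eq_ff, ← bf_congr, h, bf_smul_mat, bf_eq_ff]

theorem Sim.unique (hm : 1 ≤ m) {g : GLm} {μ μ' : F} (h : Sim g μ) (h' : Sim g μ') : μ = μ' := by
  obtain ⟨e0, he0⟩ : ∃ e0 : VV, e0 ≠ 0 := by
    refine ⟨Pi.single (Sum.inl ⟨0, hm⟩) 1, ?_⟩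
    intro h
    have := congrFun h (Sum.inl ⟨0, hm⟩)
    rw [Pi.single_eq_same, Pi.zero_apply] at this
    exact one_ne_zero this
  obtain ⟨y, hy⟩ := exists_partner e0 he0
  have h1 := h.2 e0 y
  rw [h'.2, hy, mul_one, mul_one] at h1
  exact h1.symm

/-- the multiplier of a conformal symplectic matrix -/
noncomputable def multF (g : ↥(Cfsg.GSp m F)) : Fˣ :=
  Units.mk0 (Classical.choose ((mem_GSp_iff g.1).mp g.2))
    (Classical.choose_spec ((mem_GSp_iff g.1).mp g.2)).1

theorem multF_spec (g : ↥(Cfsg.GSp m F)) : Sim (g : GLm) (multF g : F) :=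
  Classical.choose_spec ((mem_GSp_iff g.1).mp g.2)

theorem multF_eq (hm : 1 ≤ m) (g : ↥(Cfsg.GSp m F)) (μ : F) (h : Sim (g : GLm) μ) :
    (multF g : F) = μ := (multF_spec g).unique hm h

/-- the multiplier homomorphism -/
noncomputable def multG (hm : 1 ≤ m) : ↥(Cfsg.GSp m F) →* Fˣ where
  toFun := multF
  map_one' := by
    apply Units.ext
    rw [Units.val_one]
    exact multF_eq hm 1 1 Sim.one
  map_mul' g h := by
    apply Units.ext
    rw [Units.val_mul]
    exact multF_eq hm (g * h) _ ((multF_spec g).mul (multF_spec h))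

theorem multG_apply (hm : 1 ≤ m) (g : ↥(Cfsg.GSp m F)) : multG hm g = multF g := rfl

theorem multG_scalG (hm : 1 ≤ m) (c : Fˣ) : multG hm (scalG c : ↥(Cfsg.GSp m F)) = c * c := by
  apply Units.ext
  rw [multG_apply, Units.val_mul]
  exact multF_eq hm _ _ (Sim.scalar c)

theorem multG_toG (hm : 1 ≤ m) (s : Sp) : multG hm (toG s) = 1 := by
  apply Units.ext
  rw [multG_apply, Units.val_one]
  apply multF_eq hm
  refine ⟨one_ne_zero, fun a b => ?_⟩
  rw [one_mul]
  exact Cfsg.Agent.S0766.sympForm_mulVec s a b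

theorem exists_toG_of_mult_one (hm : 1 ≤ m) (g : ↥(Cfsg.GSp m F)) (h : multG hm g = 1) :
    ∃ s : Sp, toG s = g := by
  have hsim : Sim (g : GLm) 1 := by
    have := multF_spec g
    rw [← multG_apply hm, h, Units.val_one] at this
    exact this
  have hmem : ((g : GLm) : MM) ∈ Matrix.symplecticGroup (Fin m) F := by
    apply mem_sp_of_preserves
    intro u v
    rw [hsim.2, one_mul]
  refine ⟨⟨_, hmem⟩, ?_⟩
  apply Subtype.ext
  apply Units.ext
  rfl

/-- the inner automorphisms inside the inner-diagonal group: multiplier a square -/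
theorem PhiG_mem_inn_iff (hm : 1 ≤ m) (g : ↥(Cfsg.GSp m F)) :
    PhiG g ∈ Cfsg.Inn (Cfsg.PSp m F) ↔ ∃ u : Fˣ, multG hm g = u ^ 2 := by
  constructor
  · rintro ⟨y, hy⟩
    obtain ⟨s, rfl⟩ := pm_surj y
    rw [conj_pm_eq] at hy
    have h1 : PhiG (g * (toG s)⁻¹) = 1 := by
      rw [map_mul, map_inv, hy, mul_inv_cancel]
    obtain ⟨c, hc⟩ := PhiG_ker hm _ h1
    have h2 : g * (toG s)⁻¹ = scalG c := Subtype.ext hc
    have h3 : g = scalG c * toG s := by
      rw [← h2]
      group
    refine ⟨c, ?_⟩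
    rw [h3, map_mul, multG_scalG, multG_toG, mul_one, pow_two]
  · rintro ⟨u, hu⟩
    have h1 : multG hm (scalG u⁻¹ * g) = 1 := by
      rw [map_mul, multG_scalG, hu]
      group
    obtain ⟨s, hs⟩ := exists_toG_of_mult_one hm _ h1
    refine ⟨pm s, ?_⟩
    show MulAut.conj (pm s) = PhiG g
    rw [conj_pm_eq, hs, map_mul, PhiG_scalG, one_mul]

theorem inn_le_inndiag_sp : Cfsg.Inn (Cfsg.PSp m F) ≤ Cfsg.inndiagPSp m F := by
  rw [inndiagPSp_eq]
  rintro _ ⟨y, rfl⟩
  obtain ⟨s, rfl⟩ := pm_surj y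
  exact ⟨toG s, (conj_pm_eq s).symm⟩

/-- the diagonal similitude with multiplier `u` -/
noncomputable def diagG (u : Fˣ) : ↥(Cfsg.GSp m F) :=
  ⟨(Matrix.isUnit_iff_isUnit_det
      (Matrix.diagonal (Sum.elim (fun _ : Fin m => (u : F)) (fun _ : Fin m => (1 : F))))).mpr (by
        rw [Matrix.det_diagonal, isUnit_iff_ne_zero, Finset.prod_ne_zero_iff]
        intro i _
        rcases i with i | i
        · exact u.ne_zero
        · exact one_ne_zero) |>.unit, by
    rw [mem_GSp_iff]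
    refine ⟨(u : F), ?_⟩
    rw [sim_iff_matrix]
    refine ⟨u.ne_zero, ?_⟩
    show (Matrix.diagonal (Sum.elim (fun _ : Fin m => (u : F)) (fun _ : Fin m => (1 : F))))ᵀ *
      Matrix.J (Fin m) F *
      Matrix.diagonal (Sum.elim (fun _ : Fin m => (u : F)) (fun _ : Fin m => (1 : F))) = _
    rw [Matrix.diagonal_transpose]
    ext i j
    rw [Matrix.mul_diagonal, Matrix.diagonal_mul, Matrix.smul_apply]
    rcases i with i | i <;> rcases j with j | j <;> simp [Matrix.J, Matrix.one_apply]⟩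

theorem diagG_val (u : Fˣ) : (((diagG u : ↥(Cfsg.GSp m F)) : GLm) : MM) =
    Matrix.diagonal (Sum.elim (fun _ : Fin m => (u : F)) (fun _ : Fin m => (1 : F))) := rfl

theorem multG_diagG (hm : 1 ≤ m) (u : Fˣ) : multG hm (diagG u : ↥(Cfsg.GSp m F)) = u := by
  apply Units.ext
  rw [multG_apply]
  apply multF_eq hm
  rw [sim_iff_matrix]
  refine ⟨u.ne_zero, ?_⟩
  rw [diagG_val, Matrix.diagonal_transpose]
  ext i j
  rw [Matrix.mul_diagonal, Matrix.diagonal_mul, Matrix.smul_apply]
  rcases i with i | i <;> rcases j with j | j <;> simp [Matrix.J, Matrix.one_apply]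

end Cfsg.Agent.helper14.SpAut
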