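import Mathlib
import Cfsg.Agent.Lib_helper14_SpAutQ

set_option autoImplicit false
set_option linter.unusedSectionVars false
set_option linter.unusedVariables false
set_option linter.unusedSimpArgs false

namespace Cfsg.Agent.helper14.SpAut

open Matrix Cfsg.Agent.helper4 Cfsg.Agent.helper29 Cfsg.Agent.helper29.SpRoot

variable {F : Type*} [Field F] {F₀ : Type*} [Field F₀] {m : ℕ}

local notation "Sp" => Matrix.symplecticGroup (Fin m) F
local notation "ff" => Cfsg.sympForm m F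
local notation "VV" => (Fin m ⊕ Fin m → F)
local notation "MM" => Matrix (Fin m ⊕ Fin m) (Fin m ⊕ Fin m) F
local notation "MM₀" => Matrix (Fin m ⊕ Fin m) (Fin m ⊕ Fin m) F₀
local notation "GLm" => GL (Fin m ⊕ Fin m) F
local notation "GLm₀" => GL (Fin m ⊕ Fin m) F₀

theorem smul_J_map (ι : F₀ →+* F) (c : F₀) :
    (c • Matrix.J (Fin m) F₀).map ι = ι c • Matrix.J (Fin m) F := by
  ext i j
  rw [Matrix.map_apply, Matrix.smul_apply, Matrix.smul_apply, smul_eq_mul, smul_eq_mul, map_mul]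
  congr 1
  have := congrFun (congrFun (J_map' (m := m) ι) i) j
  rw [Matrix.map_apply] at this
  exact this

theorem map_mem_GSp (ι : F₀ →+* F) (g₀ : GLm₀) (h : g₀ ∈ Cfsg.GSp m F₀) :
    Matrix.GeneralLinearGroup.map ι g₀ ∈ Cfsg.GSp m F := by
  obtain ⟨μ, hμ⟩ := (mem_GSp_iff g₀).mp h
  rw [sim_iff_matrix] at hμ
  rw [mem_GSp_iff]
  refine ⟨ι μ, ?_⟩
  rw [sim_iff_matrix]
  refine ⟨fun h0 => hμ.1 ((map_eq_zero ι).mp h0), ?_⟩
  have h1 : ((g₀ : MM₀)ᵀ * Matrix.J (Fin m) F₀ * (g₀ : MM₀)).map ι =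
      (μ • Matrix.J (Fin m) F₀).map ι := by rw [hμ.2]
  rw [Matrix.map_mul, Matrix.map_mul, J_map', Matrix.transpose_map, smul_J_map] at h1
  exact h1

/-- base change of conformal symplectic matrices -/
def mapι (ι : F₀ →+* F) : ↥(Cfsg.GSp m F₀) →* ↥(Cfsg.GSp m F) where
  toFun g₀ := ⟨Matrix.GeneralLinearGroup.map ι g₀.1, map_mem_GSp ι g₀.1 g₀.2⟩
  map_one' := by
    apply Subtype.ext
    show Matrix.GeneralLinearGroup.map ι (1 : GLm₀) = 1
    rw [map_one]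
  map_mul' a b := by
    apply Subtype.ext
    show Matrix.GeneralLinearGroup.map ι (a.1 * b.1) = _
    rw [map_mul]
    rfl

theorem mapι_val (ι : F₀ →+* F) (g₀ : ↥(Cfsg.GSp m F₀)) :
    (((mapι ι g₀ : ↥(Cfsg.GSp m F)) : GLm) : MM) = ((g₀ : GLm₀) : MM₀).map ι := rfl

theorem scal_mul_entry (l : Fˣ) (g : GLm) (i j : Fin m ⊕ Fin m) :
    ((Matrix.GeneralLinearGroup.scalar (Fin m ⊕ Fin m) l * g : GLm) : MM) i j =
      (l : F) * (g : MM) i j := by
  rw [Units.val_mul, Matrix.GeneralLinearGroup.coe_scalar, Matrix.scalar_apply,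
    Matrix.diagonal_mul]

theorem glm_exists_ne_zero (hm : 1 ≤ m) (g : GLm) : ∃ i j, (g : MM) i j ≠ 0 := by
  by_contra hcon
  push Not at hcon
  have h0 : (g : MM) = 0 := by
    ext i j
    exact hcon i j
  have h1 : (g : MM) * ((g⁻¹ : GLm) : MM) = 1 := by
    rw [← Units.val_mul, mul_inv_cancel, Units.val_one]
  rw [h0, Matrix.zero_mul] at h1
  have h2 := congrFun (congrFun h1 (Sum.inl ⟨0, hm⟩)) (Sum.inl ⟨0, hm⟩)
  rw [Matrix.zero_apply, Matrix.one_apply_eq] at h2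
  exact zero_ne_one h2

theorem mapG_mul (σ : F ≃+* F) (a b : ↥(Cfsg.GSp m F)) : mapG σ (a * b) = mapG σ a * mapG σ b := by
  apply Subtype.ext
  show Matrix.GeneralLinearGroup.map (σ : F →+* F) (a.1 * b.1) = _
  rw [map_mul]
  rfl

theorem mapG_scalG (σ : F ≃+* F) (l : Fˣ) :
    mapG σ (scalG l : ↥(Cfsg.GSp m F)) = scalG (Units.map ((σ : F →+* F) : F →* F) l) := by
  apply Subtype.ext
  show Matrix.GeneralLinearGroup.map (σ : F →+* F)
    (Matrix.GeneralLinearGroup.scalar (Fin m ⊕ Fin m) l) = _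
  rw [Matrix.GeneralLinearGroup.map_scalar]
  rfl

theorem mapG_mapι (σ : F ≃+* F) (ι : F₀ →+* F) (hι : ∀ b, σ (ι b) = ι b)
    (g₀ : ↥(Cfsg.GSp m F₀)) : mapG σ (mapι ι g₀) = mapι ι g₀ := by
  apply Subtype.ext
  apply Units.ext
  ext i j
  exact hι _

theorem PhiG_mem_cent_phiF_iff (hm : 1 ≤ m) (σ : F ≃+* F) (ι : F₀ →+* F)
    (hι : ∀ a : F, σ a = a ↔ a ∈ ι.range) (g : ↥(Cfsg.GSp m F)) :
    PhiG g ∈ Subgroup.centralizer {phiF σ} ↔
      ∃ (l : Fˣ) (g₀ : ↥(Cfsg.GSp m F₀)), g = scalG l * mapι ι g₀ := by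
  have hι' : ∀ b, σ (ι b) = ι b := fun b => (hι _).mpr ⟨b, rfl⟩
  rw [mem_cent_singleton]
  constructor
  · intro h
    rw [phiF_PhiG] at h
    have h0 := mul_right_cancel h
    have h1 : PhiG (g⁻¹ * mapG σ g) = 1 := by
      rw [map_mul, map_inv, h0, inv_mul_cancel]
    obtain ⟨c, hc⟩ := PhiG_ker hm _ h1
    have h2 : Matrix.GeneralLinearGroup.map (σ : F →+* F) (g : GLm) =
        Matrix.GeneralLinearGroup.scalar (Fin m ⊕ Fin m) c * (g : GLm) := by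
      rw [Matrix.GeneralLinearGroup.scalar_commute]
      have : Matrix.GeneralLinearGroup.scalar (Fin m ⊕ Fin m) c =
          (g : GLm)⁻¹ * Matrix.GeneralLinearGroup.map (σ : F →+* F) (g : GLm) := hc.symm
      rw [this]
      group
    have hent : ∀ k l, σ (((g : GLm) : MM) k l) = (c : F) * ((g : GLm) : MM) k l := by
      intro k l
      rw [← scal_mul_entry, ← h2]
      rfl
    obtain ⟨i, j, hij⟩ := glm_exists_ne_zero hm (g : GLm)
    obtain ⟨gij, hgij⟩ : ∃ gij : F, gij = ((g : GLm) : MM) i j := ⟨_, rfl⟩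
    rw [← hgij] at hij
    have hfix : ∀ k l, σ (gij⁻¹ * ((g : GLm) : MM) k l) = gij⁻¹ * ((g : GLm) : MM) k l := by
      intro k l
      rw [map_mul, map_inv₀, hent, hgij, hent, mul_inv]
      have hc0 : (c : F) ≠ 0 := c.ne_zero
      rw [← hgij]
      field_simp
    choose b hb using fun k l => (hι _).mp (hfix k l)
    obtain ⟨h₀, hh₀⟩ : ∃ h₀ : MM₀, h₀ = Matrix.of b := ⟨_, rfl⟩
    have hmap : h₀.map ι = gij⁻¹ • ((g : GLm) : MM) := by
      ext k l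
      rw [Matrix.map_apply, hh₀, Matrix.of_apply, hb, Matrix.smul_apply, smul_eq_mul]
    have hdet : h₀.det ≠ 0 := by
      intro h0
      have h3 := RingHom.map_det ι h₀
      rw [h0, map_zero, RingHom.mapMatrix_apply, hmap, Matrix.det_smul] at h3
      have h4 : ((g : GLm) : MM).det ≠ 0 := Matrix.GeneralLinearGroup.det_ne_zero (g : GLm)
      have h5 : (gij⁻¹) ^ Fintype.card (Fin m ⊕ Fin m) ≠ 0 := pow_ne_zero _ (inv_ne_zero hij)
      exact mul_ne_zero h5 h4 h3.symm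
    obtain ⟨μ, hμ⟩ := (mem_GSp_iff (g : GLm)).mp g.2
    rw [sim_iff_matrix] at hμ
    obtain ⟨ν, hν⟩ : ∃ ν : F, ν = gij⁻¹ * gij⁻¹ * μ := ⟨_, rfl⟩
    have hν0 : ν ≠ 0 := by
      rw [hν]
      exact mul_ne_zero (mul_ne_zero (inv_ne_zero hij) (inv_ne_zero hij)) hμ.1
    have hcong : (h₀.map ι)ᵀ * Matrix.J (Fin m) F * h₀.map ι = ν • Matrix.J (Fin m) F := by
      rw [hmap, Matrix.transpose_smul, Matrix.smul_mul, Matrix.smul_mul, Matrix.mul_smul, hμ.2,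
        smul_smul, smul_smul, hν]
    obtain ⟨ν₀, hν₀⟩ : ∃ ν₀ : F₀,
        ν₀ = (h₀ᵀ * Matrix.J (Fin m) F₀ * h₀) (Sum.inr ⟨0, hm⟩) (Sum.inl ⟨0, hm⟩) := ⟨_, rfl⟩
    have hmapc : (h₀ᵀ * Matrix.J (Fin m) F₀ * h₀).map ι = ν • Matrix.J (Fin m) F := by
      rw [Matrix.map_mul, Matrix.map_mul, J_map', Matrix.transpose_map]
      exact hcong
    have hνι : ν = ι ν₀ := by
      have h6 := congrFun (congrFun hmapc (Sum.inr ⟨0, hm⟩)) (Sum.inl ⟨0, hm⟩)
      rw [Matrix.map_apply, ← hν₀, Matrix.smul_apply] at h6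
      have hJ : Matrix.J (Fin m) F (Sum.inr ⟨0, hm⟩) (Sum.inl ⟨0, hm⟩) = 1 := by
        simp [Matrix.J]
      rw [hJ, smul_eq_mul, mul_one] at h6
      exact h6.symm
    have hcong₀ : h₀ᵀ * Matrix.J (Fin m) F₀ * h₀ = ν₀ • Matrix.J (Fin m) F₀ := by
      ext k l
      apply ι.injective
      have h6 := congrFun (congrFun hmapc k) l
      rw [Matrix.map_apply] at h6
      rw [h6, hνι, ← smul_J_map]
      rfl
    have hν₀0 : ν₀ ≠ 0 := by
      rintro rfl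
      rw [map_zero] at hνι
      exact hν0 hνι
    obtain ⟨h₀G, hh₀G⟩ : ∃ h₀G : GLm₀, (h₀G : MM₀) = h₀ :=
      ⟨Matrix.GeneralLinearGroup.mkOfDetNeZero h₀ hdet, rfl⟩
    have hmem₀ : h₀G ∈ Cfsg.GSp m F₀ := by
      rw [mem_GSp_iff]
      refine ⟨ν₀, ?_⟩
      rw [sim_iff_matrix, hh₀G]
      exact ⟨hν₀0, hcong₀⟩
    refine ⟨Units.mk0 gij hij, ⟨h₀G, hmem₀⟩, ?_⟩
    apply Subtype.ext
    apply Units.ext
    ext k l
    show ((g : GLm) : MM) k l = ((Matrix.GeneralLinearGroup.scalar (Fin m ⊕ Fin m) (Units.mk0 gij hij) *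
      Matrix.GeneralLinearGroup.map ι h₀G : GLm) : MM) k l
    rw [scal_mul_entry]
    show _ = gij * ((h₀G : MM₀).map ι) k l
    rw [hh₀G, hmap, Matrix.smul_apply, smul_eq_mul, ← mul_assoc, mul_inv_cancel₀ hij, one_mul]
  · rintro ⟨l, g₀, rfl⟩
    rw [phiF_PhiG, mapG_mul, mapG_scalG, mapG_mapι σ ι hι', map_mul, map_mul, PhiG_scalG,
      PhiG_scalG]

end Cfsg.Agent.helper14.SpAut
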