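import Mathlib
import Cfsg.Agent.Lib_helper14_SplitB

/-! Transport of `splitClassCount` and of centralizers under conjugation by an element
normalising the subgroups involved. -/

set_option autoImplicit false

namespace Cfsg.Agent.helper14

section splitC
variable {X : Type*} [Group X]

theorem isConjUnder_conj (H : Subgroup X) (a : X) (hH : ∀ h ∈ H, a * h * a⁻¹ ∈ H) (x y : X)
    (h : Cfsg.IsConjUnder H x y) : Cfsg.IsConjUnder H (a * x * a⁻¹) (a * y * a⁻¹) := by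
  obtain ⟨k, hk, rfl⟩ := h
  exact ⟨a * k * a⁻¹, hH k hk, by group⟩

theorem splitClassCount_normalizer (H K : Subgroup X) (a : X)
    (hH : ∀ h ∈ H, a * h * a⁻¹ ∈ H) (hH' : ∀ h ∈ H, a⁻¹ * h * a ∈ H)
    (hK : ∀ h ∈ K, a * h * a⁻¹ ∈ K) (hK' : ∀ h ∈ K, a⁻¹ * h * a ∈ K) (x : X) :
    Cfsg.splitClassCount H K (a * x * a⁻¹) = Cfsg.splitClassCount H K x := by
  unfold Cfsg.splitClassCount
  symm
  apply Nat.card_congr
  have hinvH : ∀ h ∈ H, a⁻¹ * h * a⁻¹⁻¹ ∈ H := by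
    intro h hh
    rw [inv_inv]
    exact hH' h hh
  have hinvK : ∀ h ∈ K, a⁻¹ * h * a⁻¹⁻¹ ∈ K := by
    intro h hh
    rw [inv_inv]
    exact hK' h hh
  refine Quot.congr ⟨fun y => ⟨a * y.1 * a⁻¹, isConjUnder_conj H a hH x y.1 y.2⟩,
    fun y => ⟨a⁻¹ * y.1 * a, ?_⟩, ?_, ?_⟩ ?_
  · have := isConjUnder_conj H a⁻¹ hinvH _ _ y.2
    have e1 : a⁻¹ * (a * x * a⁻¹) * a⁻¹⁻¹ = x := by group
    have e2 : a⁻¹ * y.1 * a⁻¹⁻¹ = a⁻¹ * y.1 * a := by group
    rw [e1, e2] at this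
    exact this
  · intro y
    apply Subtype.ext
    show a⁻¹ * (a * y.1 * a⁻¹) * a = y.1
    group
  · intro y
    apply Subtype.ext
    show a * (a⁻¹ * y.1 * a) * a⁻¹ = y.1
    group
  · intro y z
    constructor
    · intro h
      exact isConjUnder_conj K a hK _ _ h
    · intro h
      have := isConjUnder_conj K a⁻¹ hinvK _ _ h
      have e1 : a⁻¹ * (a * y.1 * a⁻¹) * a⁻¹⁻¹ = y.1 := by group
      have e2 : a⁻¹ * (a * z.1 * a⁻¹) * a⁻¹⁻¹ = z.1 := by group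
      change Cfsg.IsConjUnder K (a⁻¹ * (a * y.1 * a⁻¹) * a⁻¹⁻¹) (a⁻¹ * (a * z.1 * a⁻¹) * a⁻¹⁻¹) at this
      rw [e1, e2] at this
      exact this

/-- conjugating the centralizer by a normalising element -/
def centralizerNormEquiv (H : Subgroup X) (x a : X) (hH : ∀ h ∈ H, a * h * a⁻¹ ∈ H)
    (hH' : ∀ h ∈ H, a⁻¹ * h * a ∈ H) :
    ↥(H ⊓ Subgroup.centralizer {x}) ≃* ↥(H ⊓ Subgroup.centralizer {a * x * a⁻¹}) where
  toFun c := ⟨a * c.1 * a⁻¹, by
    have hc := c.2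
    rw [Subgroup.mem_inf, Subgroup.mem_centralizer_iff] at hc ⊢
    refine ⟨hH _ hc.1, ?_⟩
    intro y hy
    rw [Set.mem_singleton_iff] at hy
    subst hy
    have h1 := hc.2 x (Set.mem_singleton x)
    calc a * x * a⁻¹ * (a * c.1 * a⁻¹) = a * (x * c.1) * a⁻¹ := by group
      _ = a * (c.1 * x) * a⁻¹ := by rw [h1]
      _ = _ := by group⟩
  invFun c := ⟨a⁻¹ * c.1 * a, by
    have hc := c.2
    rw [Subgroup.mem_inf, Subgroup.mem_centralizer_iff] at hc ⊢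
    refine ⟨hH' _ hc.1, ?_⟩
    intro y hy
    rw [Set.mem_singleton_iff] at hy
    subst hy
    have h1 := hc.2 (a * y * a⁻¹) (Set.mem_singleton _)
    calc y * (a⁻¹ * c.1 * a) = a⁻¹ * (a * y * a⁻¹ * c.1) * a := by group
      _ = a⁻¹ * (c.1 * (a * y * a⁻¹)) * a := by rw [h1]
      _ = _ := by group⟩
  left_inv c := by
    apply Subtype.ext
    show a⁻¹ * (a * c.1 * a⁻¹) * a = c.1
    group
  right_inv c := by
    apply Subtype.ext
    show a * (a⁻¹ * c.1 * a) * a⁻¹ = c.1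
    group
  map_mul' c d := by
    apply Subtype.ext
    show a * (c.1 * d.1) * a⁻¹ = (a * c.1 * a⁻¹) * (a * d.1 * a⁻¹)
    group

end splitC

end Cfsg.Agent.helper14
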