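import Mathlib
import Cfsg.Agent.Lib_helper14_SpAutR
import Cfsg.Agent.Lib_helper14_SplitC

set_option autoImplicit false
set_option linter.unusedSectionVars false
set_option linter.unusedVariables false
set_option linter.unusedSimpArgs false

namespace Cfsg.Agent.helper14.SpAut

open Matrix Cfsg.Agent.helper4 Cfsg.Agent.helper29 Cfsg.Agent.helper29.SpRoot

variable {F : Type*} [Field F] {F₀ : Type*} [Field F₀] {m : ℕ}

local notation "Sp" => Matrix.symplecticGroup (Fin m) F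
local notation "ff" => Cfsg.sympForm m F
local notation "VV" => (Fin m ⊕ Fin m → F)
local notation "MM" => Matrix (Fin m ⊕ Fin m) (Fin m ⊕ Fin m) F
local notation "MM₀" => Matrix (Fin m ⊕ Fin m) (Fin m ⊕ Fin m) F₀
local notation "GLm" => GL (Fin m ⊕ Fin m) F
local notation "GLm₀" => GL (Fin m ⊕ Fin m) F₀

theorem PhiG_mapι_eq_one_iff (hm : 1 ≤ m) (ι : F₀ →+* F) (g₀ : ↥(Cfsg.GSp m F₀)) :
    PhiG (mapι ι g₀) = 1 ↔
      g₀ ∈ (Cfsg.Geo.scalars (Fin m ⊕ Fin m) F₀).subgroupOf (Cfsg.GSp m F₀) := by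
  rw [Subgroup.mem_subgroupOf, Cfsg.Geo.mem_scalars_iff]
  constructor
  · intro h
    obtain ⟨c, hc⟩ := PhiG_ker hm _ h
    have hent : ∀ k l, ι (((g₀ : GLm₀) : MM₀) k l) = if k = l then (c : F) else 0 := by
      intro k l
      have h1 := congrArg (fun g : GLm => (g : MM) k l) hc
      have h2 : ((Matrix.GeneralLinearGroup.scalar (Fin m ⊕ Fin m) c : GLm) : MM) k l =
          ι (((g₀ : GLm₀) : MM₀) k l) := h1.symm
      rw [← h2, Matrix.GeneralLinearGroup.coe_scalar, Matrix.scalar_apply, Matrix.diagonal_apply]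
    obtain ⟨i0, hi0⟩ : ∃ i0 : Fin m ⊕ Fin m, i0 = Sum.inl ⟨0, hm⟩ := ⟨_, rfl⟩
    have hu : ((g₀ : GLm₀) : MM₀) i0 i0 ≠ 0 := by
      intro h0
      have := hent i0 i0
      rw [h0, map_zero, if_pos rfl] at this
      exact c.ne_zero this.symm
    refine ⟨Units.mk0 _ hu, ?_⟩
    ext k l
    rw [Matrix.smul_apply, Matrix.one_apply, smul_eq_mul]
    apply ι.injective
    rw [hent k l]
    by_cases hkl : k = l
    · rw [if_pos hkl, if_pos hkl, mul_one]
      show _ = ι (((g₀ : GLm₀) : MM₀) i0 i0)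
      rw [hent i0 i0, if_pos rfl]
    · rw [if_neg hkl, if_neg hkl, mul_zero, map_zero]
  · rintro ⟨u, hu⟩
    have h1 : mapι ι g₀ = scalG (Units.map (ι : F₀ →* F) u) := by
      apply Subtype.ext
      apply Units.ext
      show ((g₀ : GLm₀) : MM₀).map ι = _
      rw [hu]
      show _ = ((Matrix.GeneralLinearGroup.scalar (Fin m ⊕ Fin m) (Units.map (ι : F₀ →* F) u) : GLm) : MM)
      rw [scalar_val]
      ext k l
      rw [Matrix.map_apply, Matrix.smul_apply, Matrix.smul_apply, Matrix.one_apply,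
        Matrix.one_apply, smul_eq_mul, smul_eq_mul, map_mul]
      by_cases hkl : k = l
      · rw [if_pos hkl, if_pos hkl, map_one]
        rfl
      · rw [if_neg hkl, if_neg hkl, map_zero, mul_zero, mul_zero]
    rw [h1, PhiG_scalG]

theorem centralizer_field_iso_sp (hm : 1 ≤ m) (σ : F ≃+* F) (ι : F₀ →+* F)
    (hι : ∀ a : F, σ a = a ↔ a ∈ ι.range) :
    Nonempty (↥(Cfsg.inndiagPSp m F ⊓ Subgroup.centralizer {phiF σ}) ≃* Cfsg.PGSp m F₀) := by
  obtain ⟨C, hC⟩ : ∃ C : Subgroup (MulAut (Cfsg.PSp m F)),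
      C = Cfsg.inndiagPSp m F ⊓ Subgroup.centralizer {phiF σ} := ⟨_, rfl⟩
  have hmem : ∀ x : ↥(Cfsg.GSp m F₀), (PhiG.comp (mapι ι)) x ∈ C := by
    intro x
    rw [hC, Subgroup.mem_inf, inndiagPSp_eq]
    refine ⟨⟨_, rfl⟩, ?_⟩
    show PhiG (mapι ι x) ∈ _
    rw [PhiG_mem_cent_phiF_iff hm σ ι hι]
    refine ⟨1, x, ?_⟩
    have : (scalG (1 : Fˣ) : ↥(Cfsg.GSp m F)) = 1 := by
      apply Subtype.ext
      show Matrix.GeneralLinearGroup.scalar (Fin m ⊕ Fin m) (1 : Fˣ) = 1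
      rw [map_one]
    rw [this, one_mul]
  obtain ⟨ψ, hψ⟩ : ∃ ψ : ↥(Cfsg.GSp m F₀) →* ↥C, ∀ x : ↥(Cfsg.GSp m F₀),
      ((ψ x : ↥C) : MulAut (Cfsg.PSp m F)) = PhiG (mapι ι x) :=
    ⟨(PhiG.comp (mapι ι)).codRestrict C hmem, fun x => rfl⟩
  have hsurj : Function.Surjective ψ := by
    rintro ⟨β, hβ⟩
    rw [hC, Subgroup.mem_inf, inndiagPSp_eq] at hβ
    obtain ⟨⟨g, rfl⟩, hcomm⟩ := hβ
    rw [PhiG_mem_cent_phiF_iff hm σ ι hι] at hcomm
    obtain ⟨l, g₀, rfl⟩ := hcomm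
    refine ⟨g₀, ?_⟩
    apply Subtype.ext
    rw [hψ]
    show _ = PhiG _
    rw [map_mul, PhiG_scalG, one_mul]
  have hker : ψ.ker = (Cfsg.Geo.scalars (Fin m ⊕ Fin m) F₀).subgroupOf (Cfsg.GSp m F₀) := by
    ext x
    rw [MonoidHom.mem_ker, ← PhiG_mapι_eq_one_iff hm ι, ← hψ]
    constructor
    · intro h
      rw [h]
      rfl
    · intro h
      apply Subtype.ext
      rw [h]
      rfl
  have e₁ := QuotientGroup.quotientKerEquivOfSurjective ψ hsurj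
  have e₂ := QuotientGroup.quotientMulEquivOfEq hker
  rw [← hC]
  exact ⟨e₁.symm.trans e₂⟩

theorem multG_mapι (hm : 1 ≤ m) (ι : F₀ →+* F) (g₀ : ↥(Cfsg.GSp m F₀)) :
    multG hm (mapι ι g₀) = Units.map (ι : F₀ →* F) (multG hm g₀) := by
  apply Units.ext
  rw [multG_apply]
  apply multF_eq hm
  have h0 := multF_spec g₀
  rw [sim_iff_matrix] at h0 ⊢
  refine ⟨?_, ?_⟩
  · exact (Units.map (ι : F₀ →* F) (multG hm g₀)).ne_zero
  · have h1 : (((g₀ : GLm₀) : MM₀)ᵀ * Matrix.J (Fin m) F₀ * ((g₀ : GLm₀) : MM₀)).map ι =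
        (((multF g₀ : F₀ˣ) : F₀) • Matrix.J (Fin m) F₀).map ι := by rw [h0.2]
    rw [Matrix.map_mul, Matrix.map_mul, J_map', Matrix.transpose_map, smul_J_map] at h1
    exact h1

end Cfsg.Agent.helper14.SpAut
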