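import Mathlib
import Cfsg.Agent.Lib_helper14_SpAutS

set_option autoImplicit false
set_option linter.unusedSectionVars false
set_option linter.unusedVariables false
set_option linter.unusedSimpArgs false

/-! The symplectic group over a subfield inside the symplectic group, and the fixed points of a
standard field automorphism. -/

namespace Cfsg.Agent.helper14.SpAut

open Matrix Cfsg.Agent.helper4 Cfsg.Agent.helper29 Cfsg.Agent.helper29.SpRoot

variable {F : Type*} [Field F] {F₀ : Type*} [Field F₀] {m : ℕ}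

local notation "Sp" => Matrix.symplecticGroup (Fin m) F
local notation "Sp₀" => Matrix.symplecticGroup (Fin m) F₀
local notation "ff" => Cfsg.sympForm m F
local notation "VV" => (Fin m ⊕ Fin m → F)
local notation "VV₀" => (Fin m ⊕ Fin m → F₀)
local notation "MM" => Matrix (Fin m ⊕ Fin m) (Fin m ⊕ Fin m) F
local notation "MM₀" => Matrix (Fin m ⊕ Fin m) (Fin m ⊕ Fin m) F₀

theorem map_mem_sp' (ι : F₀ →+* F) (s : Sp₀) :
    (s : MM₀).map ι ∈ Matrix.symplecticGroup (Fin m) F := by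
  rw [SymplecticGroup.mem_iff]
  have h := SymplecticGroup.mem_iff.mp s.2
  have h1 : ((s : MM₀) * Matrix.J (Fin m) F₀ * (s : MM₀)ᵀ).map ι = (Matrix.J (Fin m) F₀).map ι := by
    rw [h]
  rw [Matrix.map_mul, Matrix.map_mul, J_map', Matrix.transpose_map] at h1
  exact h1

/-- the entrywise embedding of the symplectic group over a subfield -/
def spι (ι : F₀ →+* F) : Sp₀ →* Sp where
  toFun s := ⟨(s : MM₀).map ι, map_mem_sp' ι s⟩
  map_one' := by
    apply Subtype.ext
    show (1 : MM₀).map ι = 1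
    exact Matrix.map_one ι (map_zero ι) (map_one ι)
  map_mul' s t := by
    apply Subtype.ext
    show ((s : MM₀) * (t : MM₀)).map ι = (s : MM₀).map ι * (t : MM₀).map ι
    exact Matrix.map_mul

theorem spι_val (ι : F₀ →+* F) (s : Sp₀) : ((spι ι s : Sp) : MM) = (s : MM₀).map ι := rfl

theorem spι_injective (ι : F₀ →+* F) : Function.Injective (spι (m := m) ι) := by
  intro s t h
  apply Subtype.ext
  have h1 : (s : MM₀).map ι = (t : MM₀).map ι := congrArg Subtype.val h
  exact Matrix.map_injective ι.injective h1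

theorem spι_tau (ι : F₀ →+* F) (v : VV₀) (c : F₀) :
    spι ι (tau v c) = tau (ι ∘ v) (ι c) := by
  apply Subtype.ext
  show (Cfsg.sympTransvection m v c).map ι = Cfsg.sympTransvection m (ι ∘ v) (ι c)
  unfold Cfsg.sympTransvection
  ext i j
  rw [Matrix.map_apply, Matrix.add_apply, Matrix.add_apply, Matrix.smul_apply, Matrix.smul_apply,
    Matrix.vecMulVec_apply, Matrix.vecMulVec_apply, map_add, smul_eq_mul, smul_eq_mul, map_mul,
    map_mul]
  have h1 : (Matrix.J (Fin m) F *ᵥ (ι ∘ v)) j = ι ((Matrix.J (Fin m) F₀ *ᵥ v) j) := by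
    rw [← J_map' (m := m) ι]
    exact (RingHom.map_mulVec ι _ v j).symm
  rw [h1]
  congr 1
  rw [Matrix.one_apply, Matrix.one_apply]
  split_ifs
  · exact map_one ι
  · exact map_zero ι

theorem mapSp_spι (σ : F ≃+* F) (ι : F₀ →+* F) (hι : ∀ b, σ (ι b) = ι b) (s₀ : Sp₀) :
    mapSp σ (spι ι s₀) = spι ι s₀ := by
  apply Subtype.ext
  ext i j
  exact hι _

/-- a symplectic matrix with entries fixed by `σ` comes from the fixed field -/
theorem exists_spι_of_fixed (σ : F ≃+* F) (ι : F₀ →+* F)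
    (hι : ∀ a : F, σ a = a ↔ a ∈ ι.range) (s : Sp) (h : mapSp σ s = s) :
    ∃ s₀ : Sp₀, spι ι s₀ = s := by
  have hent : ∀ i j, ∃ b : F₀, ι b = (s : MM) i j := by
    intro i j
    have h1 : σ ((s : MM) i j) = (s : MM) i j := by
      have := congrArg (fun t : Sp => (t : MM) i j) h
      exact this
    exact (hι _).mp h1
  choose M₀ hM₀ using hent
  have hmap : (Matrix.of M₀ : MM₀).map ι = (s : MM) := by
    ext i j
    exact hM₀ i j
  have hmem : (Matrix.of M₀ : MM₀) ∈ Matrix.symplecticGroup (Fin m) F₀ := by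
    rw [SymplecticGroup.mem_iff]
    apply Matrix.map_injective ι.injective
    show ((Matrix.of M₀ : MM₀) * Matrix.J (Fin m) F₀ * (Matrix.of M₀ : MM₀)ᵀ).map ι =
      (Matrix.J (Fin m) F₀).map ι
    rw [Matrix.map_mul, Matrix.map_mul, J_map', Matrix.transpose_map, hmap]
    exact SymplecticGroup.mem_iff.mp s.2
  exact ⟨⟨Matrix.of M₀, hmem⟩, Subtype.ext hmap⟩

/-- central elements are fixed by field automorphisms -/
theorem mapSp_center (hm : 1 ≤ m) (σ : F ≃+* F) (z : Sp) (hz : z ∈ Subgroup.center Sp) :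
    mapSp σ z = z := by
  obtain ⟨c, hc, hzc⟩ := Cfsg.Agent.S0246.center_scalar hm z hz
  have hc' : c = 1 ∨ c = -1 := by
    have : (c - 1) * (c + 1) = 0 := by linear_combination hc
    rcases mul_eq_zero.mp this with h | h
    · left
      exact sub_eq_zero.mp h
    · right
      exact eq_neg_of_add_eq_zero_left h
  have hσc : σ c = c := by
    rcases hc' with rfl | rfl
    · exact map_one σ
    · rw [map_neg, map_one]
  apply Subtype.ext
  rw [mapSp_val, hzc]
  ext i j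
  rw [Matrix.map_apply, Matrix.smul_apply, Matrix.one_apply, smul_eq_mul, map_mul, hσc]
  congr 1
  split_ifs
  · exact map_one σ
  · exact map_zero σ

theorem center_sq (hm : 1 ≤ m) (z : Sp) (hz : z ∈ Subgroup.center Sp) : z * z = 1 := by
  obtain ⟨c, hc, hzc⟩ := Cfsg.Agent.S0246.center_scalar hm z hz
  apply Subtype.ext
  rw [Submonoid.coe_mul, hzc, Matrix.smul_mul, Matrix.one_mul, smul_smul, hc, one_smul]
  rfl

theorem center_eq_one_char2 [CharP F 2] (hm : 1 ≤ m) (z : Sp) (hz : z ∈ Subgroup.center Sp) :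
    z = 1 := by
  obtain ⟨c, hc, hzc⟩ := Cfsg.Agent.S0246.center_scalar hm z hz
  have h2 : (2 : F) = 0 := CharTwo.two_eq_zero
  have h3 : (c - 1) * (c - 1) = 0 := by linear_combination hc - c * h2 + h2
  have hc1 : c = 1 := by
    rcases mul_eq_zero.mp h3 with h | h <;> exact sub_eq_zero.mp h
  apply Subtype.ext
  rw [hzc, hc1, one_smul]
  rfl

/-- the image of a central element of the small group is central -/
theorem spι_center (hm : 1 ≤ m) (ι : F₀ →+* F) (z₀ : Sp₀) (hz : z₀ ∈ Subgroup.center Sp₀) :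
    spι ι z₀ ∈ Subgroup.center Sp := by
  obtain ⟨c, hc, hzc⟩ := Cfsg.Agent.S0246.center_scalar hm z₀ hz
  have h1 : ((spι ι z₀ : Sp) : MM) = ι c • (1 : MM) := by
    rw [spι_val, hzc]
    ext i j
    rw [Matrix.map_apply, Matrix.smul_apply, Matrix.smul_apply, Matrix.one_apply, Matrix.one_apply,
      smul_eq_mul, smul_eq_mul, map_mul]
    congr 1
    split_ifs
    · exact map_one ι
    · exact map_zero ι
  rw [Subgroup.mem_center_iff]
  intro t
  apply Subtype.ext
  rw [Submonoid.coe_mul, Submonoid.coe_mul, h1, Matrix.mul_smul, Matrix.smul_mul, Matrix.mul_one,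
    Matrix.one_mul]

/-- the structure of a fixed point of the standard field automorphism -/
theorem fixed_lift (hm : 1 ≤ m) (σ : F ≃+* F) (s : Sp) (h : phiF σ (pm s) = pm s) :
    ∃ z ∈ Subgroup.center Sp, mapSp σ s = s * z := by
  rw [phiF_pm] at h
  exact (mk_eq_iff s (mapSp σ s)).mp h.symm

theorem fixed_sq (hm : 1 ≤ m) (σ : F ≃+* F) (ι : F₀ →+* F)
    (hι : ∀ a : F, σ a = a ↔ a ∈ ι.range) (k : Cfsg.PSp m F) (h : phiF σ k = k) :
    ∃ s₀ : Sp₀, k * k = pm (spι ι s₀) := by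
  obtain ⟨s, rfl⟩ := pm_surj k
  obtain ⟨z, hz, hsz⟩ := fixed_lift hm σ s h
  have h1 : mapSp σ (s * s) = s * s := by
    rw [map_mul, hsz]
    have hzc := Subgroup.mem_center_iff.mp hz
    calc s * z * (s * z) = s * (z * s) * z := by group
      _ = s * (s * z) * z := by rw [hzc s]
      _ = s * s * (z * z) := by group
      _ = s * s := by rw [center_sq hm z hz, mul_one]
  obtain ⟨s₀, hs₀⟩ := exists_spι_of_fixed σ ι hι (s * s) h1
  exact ⟨s₀, by rw [hs₀, pm_mul]⟩

theorem fixed_char2 [CharP F 2] (hm : 1 ≤ m) (σ : F ≃+* F) (ι : F₀ →+* F)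
    (hι : ∀ a : F, σ a = a ↔ a ∈ ι.range) (k : Cfsg.PSp m F) (h : phiF σ k = k) :
    ∃ s₀ : Sp₀, k = pm (spι ι s₀) := by
  obtain ⟨s, rfl⟩ := pm_surj k
  obtain ⟨z, hz, hsz⟩ := fixed_lift hm σ s h
  rw [center_eq_one_char2 hm z hz, mul_one] at hsz
  obtain ⟨s₀, hs₀⟩ := exists_spι_of_fixed σ ι hι s hsz
  exact ⟨s₀, by rw [hs₀]⟩

theorem fixed_conj (hm : 1 ≤ m) (σ : F ≃+* F) (ι : F₀ →+* F)
    (hι : ∀ a : F, σ a = a ↔ a ∈ ι.range) (k : Cfsg.PSp m F) (h : phiF σ k = k) (u₀ : Sp₀) :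
    ∃ u₀' : Sp₀, k * pm (spι ι u₀) * k⁻¹ = pm (spι ι u₀') := by
  have hι' : ∀ b, σ (ι b) = ι b := fun b => (hι _).mpr ⟨b, rfl⟩
  obtain ⟨s, rfl⟩ := pm_surj k
  obtain ⟨z, hz, hsz⟩ := fixed_lift hm σ s h
  have h1 : mapSp σ (s * spι ι u₀ * s⁻¹) = s * spι ι u₀ * s⁻¹ := by
    rw [map_mul, map_mul, map_inv, hsz, mapSp_spι σ ι hι']
    have hzc := Subgroup.mem_center_iff.mp hz
    calc s * z * spι ι u₀ * (s * z)⁻¹ = s * (z * spι ι u₀) * z⁻¹ * s⁻¹ := by group
      _ = s * (spι ι u₀ * z) * z⁻¹ * s⁻¹ := by rw [hzc (spι ι u₀)]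
      _ = _ := by group
  obtain ⟨u₀', hu₀'⟩ := exists_spι_of_fixed σ ι hι _ h1
  exact ⟨u₀', by rw [hu₀', pm_mul, pm_mul, pm_inv]⟩

theorem phiF_pm_spι (σ : F ≃+* F) (ι : F₀ →+* F) (hι : ∀ b, σ (ι b) = ι b) (s₀ : Sp₀) :
    phiF σ (pm (spι ι s₀)) = pm (spι ι s₀) := by
  rw [phiF_pm, mapSp_spι σ ι hι]

end Cfsg.Agent.helper14.SpAut
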