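import Mathlib
import Cfsg.Agent.S0270
import Cfsg.Agent.Lib_helper14_SpAutA

set_option autoImplicit false
set_option linter.unusedSectionVars false
set_option linter.unusedVariables false
set_option linter.unusedSimpArgs false

/-! Normal subgroups of the symplectic group: central, or containing all `r`-th powers. -/

namespace Cfsg.Agent.helper14.SpAut

open Matrix Cfsg.Agent.helper4 Cfsg.Agent.helper29 Cfsg.Agent.helper29.SpRoot
open scoped commutatorElement

variable {F : Type*} [Field F] {m : ℕ}

local notation "Sp" => Matrix.symplecticGroup (Fin m) F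
local notation "VV" => (Fin m ⊕ Fin m → F)

theorem normal_dichotomy [Finite F] (hm : 1 ≤ m) (N : Subgroup Sp) [N.Normal] :
    N ≤ Subgroup.center Sp ∨ commutator Sp ≤ N := by
  haveI := Cfsg.Agent.S0270.prim (F := F) (m := m) hm
  by_cases hfix : MulAction.fixedPoints N (Projectivization F (Fin m ⊕ Fin m → F)) = Set.univ
  · left
    intro n hn
    apply Cfsg.Agent.S0270.central_of_fix hm
    intro p
    have : p ∈ MulAction.fixedPoints N (Projectivization F (Fin m ⊕ Fin m → F)) := by
      rw [hfix]
      exact Set.mem_univ p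
    exact this ⟨n, hn⟩
  · right
    exact (Cfsg.Agent.S0270.IwaS (F := F) (m := m)).commutator_le N hfix

theorem tau_pow (v : VV) (c : F) (n : ℕ) : (tau v c : Sp) ^ n = tau v (n • c) := by
  induction n with
  | zero => rw [pow_zero, zero_smul, tau_zero]
  | succ n ih => rw [pow_succ, ih, tau_mul, succ_nsmul]

theorem tau_pow_char (r : ℕ) [CharP F r] (v : VV) (c : F) : (tau v c : Sp) ^ r = 1 := by
  rw [tau_pow, nsmul_eq_mul, CharP.cast_eq_zero, zero_mul, tau_zero]

/-- modulo a normal subgroup containing the commutator subgroup, everything has exponent `r` -/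
theorem pow_char_mem (r : ℕ) [CharP F r] (N : Subgroup Sp) [hN : N.Normal]
    (hc : commutator Sp ≤ N) (s : Sp) : s ^ r ∈ N := by
  have hcomm : ∀ a b : Sp, Commute (QuotientGroup.mk a : Sp ⧸ N) (QuotientGroup.mk b) := by
    intro a b
    show (QuotientGroup.mk a : Sp ⧸ N) * QuotientGroup.mk b = QuotientGroup.mk b * QuotientGroup.mk a
    rw [← QuotientGroup.mk_mul, ← QuotientGroup.mk_mul, QuotientGroup.eq]
    apply hc
    have h1 : (a * b)⁻¹ * (b * a) = ⁅b⁻¹, a⁻¹⁆ := by
      rw [commutatorElement_def]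
      group
    rw [h1, commutator_def]
    exact Subgroup.commutator_mem_commutator (Subgroup.mem_top _) (Subgroup.mem_top _)
  obtain ⟨M, hM⟩ : ∃ M : Subgroup Sp, ∀ t, t ∈ M ↔ (QuotientGroup.mk t : Sp ⧸ N) ^ r = 1 := by
    refine ⟨{ carrier := {t | (QuotientGroup.mk t : Sp ⧸ N) ^ r = 1}
              mul_mem' := ?_
              one_mem' := ?_
              inv_mem' := ?_ }, fun t => Iff.rfl⟩
    · intro a b ha hb
      show (QuotientGroup.mk (a * b) : Sp ⧸ N) ^ r = 1
      rw [QuotientGroup.mk_mul, (hcomm a b).mul_pow, ha, hb, one_mul]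
    · show (QuotientGroup.mk (1 : Sp) : Sp ⧸ N) ^ r = 1
      rw [QuotientGroup.mk_one, one_pow]
    · intro a ha
      show (QuotientGroup.mk a⁻¹ : Sp ⧸ N) ^ r = 1
      rw [QuotientGroup.mk_inv, inv_pow, ha, inv_one]
  have htop : M = ⊤ := by
    apply Cfsg.Agent.S0269.eq_top_of_TT
    intro w hw c
    rw [hM, ← QuotientGroup.mk_pow]
    have : (Cfsg.Agent.S0440.TT w c : Sp) ^ r = 1 := tau_pow_char r w c
    rw [this, QuotientGroup.mk_one]
  have hs : s ∈ M := by
    rw [htop]
    exact Subgroup.mem_top s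
  rw [hM, ← QuotientGroup.mk_pow, QuotientGroup.eq_one_iff] at hs
  exact hs

end Cfsg.Agent.helper14.SpAut
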