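import Mathlib
import Cfsg.Agent.Lib_helper14_SpAutX
import Cfsg.Agent.Lib_helper14_SpAutY

set_option autoImplicit false
set_option linter.unusedSectionVars false
set_option linter.unusedVariables false
set_option linter.unusedSimpArgs false

/-! The image of the symplectic group over the fixed field in `Aut(PSp)`, and normal subgroups of
order prime to `p` in the centralizer of a field automorphism: first reductions. -/

namespace Cfsg.Agent.helper14.SpAut

open Matrix Cfsg.Agent.helper4 Cfsg.Agent.helper29 Cfsg.Agent.helper29.SpRoot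
open Cfsg.Agent.helper14

variable {F : Type*} [Field F] {F₀ : Type*} [Field F₀] {m : ℕ}

local notation "Sp" => Matrix.symplecticGroup (Fin m) F
local notation "Sp₀" => Matrix.symplecticGroup (Fin m) F₀
local notation "ff" => Cfsg.sympForm m F
local notation "VV" => (Fin m ⊕ Fin m → F)
local notation "VV₀" => (Fin m ⊕ Fin m → F₀)
local notation "MM" => Matrix (Fin m ⊕ Fin m) (Fin m ⊕ Fin m) F
local notation "MM₀" => Matrix (Fin m ⊕ Fin m) (Fin m ⊕ Fin m) F₀
local notation "KK" => Cfsg.PSp m F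

theorem comm_conj_of_fix {G : Type*} [Group G] (α : MulAut G) (y : G) (h : α y = y) :
    α * MulAut.conj y = MulAut.conj y * α := by
  have h1 := conj_aut α y
  rw [h] at h1
  calc α * MulAut.conj y = (α * MulAut.conj y * α⁻¹) * α := by group
    _ = MulAut.conj y * α := by rw [h1]

theorem conj_eq_one (hm : 1 ≤ m) (y : KK) (h : MulAut.conj y = 1) : y = 1 := by
  obtain ⟨s, rfl⟩ := pm_surj y
  rw [conj_pm_eq] at h
  obtain ⟨c, hc⟩ := PhiG_ker hm _ h
  have hsc : (s : MM) = (c : F) • (1 : MM) := by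
    have h1 : (((toG s : ↥(Cfsg.GSp m F)) : GL (Fin m ⊕ Fin m) F) : MM) = (s : MM) := rfl
    rw [← h1, hc, scalar_val]
  have hcen : s ∈ Subgroup.center Sp := by
    rw [Subgroup.mem_center_iff]
    intro t
    apply Subtype.ext
    rw [Submonoid.coe_mul, Submonoid.coe_mul, hsc, Matrix.mul_smul, Matrix.smul_mul, Matrix.mul_one,
      Matrix.one_mul]
  exact (QuotientGroup.eq_one_iff s).mpr hcen

theorem conj_injective (hm : 1 ≤ m) :
    Function.Injective (MulAut.conj : KK →* MulAut KK) := by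
  rw [injective_iff_map_eq_one]
  intro y hy
  exact conj_eq_one hm y hy

theorem fix_of_comm_conj (hm : 1 ≤ m) (α : MulAut KK) (y : KK)
    (h : α * MulAut.conj y = MulAut.conj y * α) : α y = y := by
  apply conj_injective hm
  rw [← conj_aut α y, h]
  group

/-- conjugation by the image of the small symplectic group -/
noncomputable def jj (ι : F₀ →+* F) : Sp₀ →* MulAut KK :=
  (MulAut.conj : KK →* MulAut KK).comp
    ((QuotientGroup.mk' (Subgroup.center Sp)).comp (spι ι))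

theorem jj_apply (ι : F₀ →+* F) (s₀ : Sp₀) : jj ι s₀ = MulAut.conj (pm (spι ι s₀)) := rfl

theorem jj_mem_cent (σ : F ≃+* F) (ι : F₀ →+* F) (hι : ∀ b, σ (ι b) = ι b) (s₀ : Sp₀) :
    jj ι s₀ ∈ Subgroup.centralizer {(phiF σ : MulAut KK)} := by
  rw [mem_cent_singleton, jj_apply]
  exact comm_conj_of_fix _ _ (phiF_pm_spι σ ι hι s₀)

theorem jj_mem_inn (ι : F₀ →+* F) (s₀ : Sp₀) : jj ι s₀ ∈ Cfsg.Inn KK := ⟨_, rfl⟩

theorem comap_normal (ι : F₀ →+* F) (W C : Subgroup (MulAut KK)) (hjC : ∀ s₀, jj ι s₀ ∈ C)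
    (hWn : ∀ c ∈ C, ∀ w ∈ W, c * w * c⁻¹ ∈ W) : (W.comap (jj ι)).Normal := by
  constructor
  intro n hn g
  rw [Subgroup.mem_comap, map_mul, map_mul, map_inv]
  exact hWn _ (hjC g) _ hn

theorem caseA [Finite F₀] (ι : F₀ →+* F) (W : Subgroup (MulAut KK)) (r p : ℕ) [CharP F₀ r]
    (hpr : Nat.Coprime p r) [hN : (W.comap (jj ι)).Normal]
    (hc : commutator Sp₀ ≤ W.comap (jj ι)) (hex : ∃ s₁ : Sp₀, orderOf (jj ι s₁) = p) :
    p ∣ Nat.card W := by
  obtain ⟨s₁, hs₁⟩ := hex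
  have h1 : s₁ ^ r ∈ W.comap (jj ι) := pow_char_mem r _ hc s₁
  rw [Subgroup.mem_comap, map_pow] at h1
  have h2 : orderOf ((jj ι s₁) ^ r) = p := by
    rw [Nat.Coprime.orderOf_pow (by rw [hs₁]; exact hpr), hs₁]
  rw [← h2]
  exact Subgroup.orderOf_dvd_natCard W h1

theorem caseB_inter (hm : 1 ≤ m) (ι : F₀ →+* F) (W : Subgroup (MulAut KK))
    (hc : W.comap (jj ι) ≤ Subgroup.center Sp₀) (s₀ : Sp₀) (h : jj ι s₀ ∈ W) : jj ι s₀ = 1 := by
  have h1 : s₀ ∈ Subgroup.center Sp₀ := hc h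
  have h2 := spι_center hm ι s₀ h1
  have h3 : pm (spι ι s₀) = 1 := (QuotientGroup.eq_one_iff _).mpr h2
  rw [jj_apply, h3, map_one]

/-- an explicit involution in the image -/
theorem exists_order_two (hm : 1 ≤ m) (ι : F₀ →+* F) : ∃ s₁ : Sp₀, orderOf (jj ι s₁) = 2 := by
  haveI : Fact (Nat.Prime 2) := ⟨Nat.prime_two⟩
  obtain ⟨s₁, hs₁⟩ : ∃ s₁ : Sp₀, (s₁ : MM₀) = Matrix.J (Fin m) F₀ :=
    ⟨⟨Matrix.J (Fin m) F₀, SymplecticGroup.J_mem _ _⟩, rfl⟩
  refine ⟨s₁, ?_⟩
  apply orderOf_eq_prime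
  · rw [← map_pow, pow_two]
    have hcen : s₁ * s₁ ∈ Subgroup.center Sp₀ := by
      rw [Subgroup.mem_center_iff]
      intro t
      apply Subtype.ext
      have hsq : ((s₁ * s₁ : Sp₀) : MM₀) = -1 := by
        rw [Submonoid.coe_mul, hs₁, Matrix.J_squared]
      show (t : MM₀) * ((s₁ * s₁ : Sp₀) : MM₀) = ((s₁ * s₁ : Sp₀) : MM₀) * (t : MM₀)
      rw [hsq, Matrix.mul_neg, Matrix.neg_mul, Matrix.mul_one, Matrix.one_mul]
    have h2 := spι_center hm ι _ hcen
    have h3 : pm (spι ι (s₁ * s₁)) = 1 := (QuotientGroup.eq_one_iff _).mpr h2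
    rw [jj_apply, h3, map_one]
  · intro h
    rw [jj_apply] at h
    have h1 := conj_eq_one hm _ h
    have h2 : spι ι s₁ ∈ Subgroup.center Sp := (QuotientGroup.eq_one_iff _).mp h1
    obtain ⟨c, hc, hzc⟩ := Cfsg.Agent.S0246.center_scalar hm _ h2
    have h3 := congrFun (congrFun hzc (Sum.inl ⟨0, hm⟩)) (Sum.inr ⟨0, hm⟩)
    rw [spι_val, hs₁, J_map'] at h3
    simp [Matrix.J, Matrix.one_apply] at h3

/-- an element of order `p` in the image, given that `p` divides the number of fixed points -/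
theorem exists_order_p [Finite F] (hm : 1 ≤ m) (σ : F ≃+* F) (ι : F₀ →+* F)
    (hι : ∀ a : F, σ a = a ↔ a ∈ ι.range) (p : ℕ) [hp : Fact p.Prime]
    (hdiv : p ∣ Nat.card ↥(MonoidHom.eqLocus (phiF σ : MulAut KK).toMonoidHom (MonoidHom.id KK))) :
    ∃ s₁ : Sp₀, orderOf (jj ι s₁) = p := by
  by_cases hp2 : p = 2
  · subst hp2
    exact exists_order_two hm ι
  · obtain ⟨k, hk⟩ := exists_prime_orderOf_dvd_card' p hdiv
    obtain ⟨y, hy⟩ : ∃ y : KK, y = k.1 := ⟨_, rfl⟩
    have hyfix : phiF σ y = y := by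
      rw [hy]
      exact k.2
    have hyo : orderOf y = p := by
      rw [hy, Subgroup.orderOf_coe, hk]
    obtain ⟨s₀, hs₀⟩ := fixed_sq hm σ ι hι y hyfix
    obtain ⟨j, hj⟩ : ∃ j, p = 2 * j + 1 := by
      rcases Nat.Prime.eq_two_or_odd hp.out with h | h
      · exact absurd h hp2
      · exact ⟨p / 2, by omega⟩
    have hyp : y ^ p = 1 := by rw [← hyo]; exact pow_orderOf_eq_one y
    have h1 : y = (y * y) ^ (j + 1) := by
      rw [← pow_two, ← pow_mul, show 2 * (j + 1) = p + 1 by omega, pow_succ, hyp, one_mul]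
    refine ⟨s₀ ^ (j + 1), ?_⟩
    rw [jj_apply, map_pow]
    have h2 : pm (spι ι s₀ ^ (j + 1)) = y := by
      rw [h1, hs₀]
      rfl
    rw [h2]
    rw [← hyo]
    exact orderOf_injective (MulAut.conj : KK →* MulAut KK) (conj_injective hm) y

end Cfsg.Agent.helper14.SpAut
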