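import Mathlib
import Cfsg.Agent.Lib_helper14_SpAutZ
import Cfsg.Agent.Lib_helper14_SpAutW
import Cfsg.Agent.Lib_helper14_GalFix

set_option autoImplicit false
set_option linter.unusedSectionVars false
set_option linter.unusedVariables false
set_option linter.unusedSimpArgs false

/-! Normal subgroups of order prime to `p` in the centralizer of a field automorphism of order `p`
of `PSp` are trivial when `p` divides the number of fixed points. -/

namespace Cfsg.Agent.helper14.SpAut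

open Matrix Cfsg.Agent.helper4 Cfsg.Agent.helper29 Cfsg.Agent.helper29.SpRoot
open Cfsg.Agent.helper14

variable {F : Type*} [Field F] {F₀ : Type*} [Field F₀] {m : ℕ}

local notation "Sp" => Matrix.symplecticGroup (Fin m) F
local notation "Sp₀" => Matrix.symplecticGroup (Fin m) F₀
local notation "ff" => Cfsg.sympForm m F
local notation "VV" => (Fin m ⊕ Fin m → F)
local notation "VV₀" => (Fin m ⊕ Fin m → F₀)
local notation "MM" => Matrix (Fin m ⊕ Fin m) (Fin m ⊕ Fin m) F
local notation "MM₀" => Matrix (Fin m ⊕ Fin m) (Fin m ⊕ Fin m) F₀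
local notation "KK" => Cfsg.PSp m F
local notation "GLm" => GL (Fin m ⊕ Fin m) F

theorem caseB_comm [Finite F] (hm : 1 ≤ m) (r : ℕ) [hr : Fact r.Prime] [CharP F r] (σ : F ≃+* F)
    (ι : F₀ →+* F) (hι : ∀ a : F, σ a = a ↔ a ∈ ι.range) (W C : Subgroup (MulAut KK))
    (hC : C ≤ Subgroup.centralizer {(phiF σ : MulAut KK)})
    (hjC : ∀ s₀ : Sp₀, jj ι s₀ ∈ C) (hWC : W ≤ C)
    (hWn : ∀ c ∈ C, ∀ w ∈ W, c * w * c⁻¹ ∈ W)
    (hWJ : ∀ s₀ : Sp₀, jj ι s₀ ∈ W → jj ι s₀ = 1)
    (w : MulAut KK) (hw : w ∈ W) (v : VV₀) (c : F₀) :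
    w * jj ι (tau v c) = jj ι (tau v c) * w := by
  haveI : CharP F₀ r := RingHom.charP ι ι.injective r
  obtain ⟨a, ha⟩ : ∃ a, a = jj ι (tau v c) := ⟨_, rfl⟩
  obtain ⟨y, hy⟩ : ∃ y : KK, y = pm (spι ι (tau v c)) := ⟨_, rfl⟩
  have hay : a = MulAut.conj y := by rw [ha, hy]; rfl
  have haC : a ∈ C := by rw [ha]; exact hjC _
  obtain ⟨k, hk⟩ : ∃ k : KK, k = w y * y⁻¹ := ⟨_, rfl⟩
  obtain ⟨z, hz⟩ : ∃ z, z = w * a * w⁻¹ * a⁻¹ := ⟨_, rfl⟩
  have hzk : z = MulAut.conj k := by
    rw [hz, hk, map_mul, map_inv, ← conj_aut w y, hay]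
  have hzW : z ∈ W := by
    have h1 := hWn a haC w⁻¹ (W.inv_mem hw)
    have : z = w * (a * w⁻¹ * a⁻¹) := by rw [hz]; group
    rw [this]
    exact W.mul_mem hw h1
  have hkfix : phiF σ k = k := by
    apply fix_of_comm_conj hm
    rw [← hzk]
    exact (mem_cent_singleton _ _).mp (hC (hWC hzW))
  rw [← ha]
  suffices hz1 : z = 1 by
    rw [hz] at hz1
    calc w * a = (w * a * w⁻¹ * a⁻¹) * a * w := by group
      _ = a * w := by rw [hz1, one_mul]
  by_cases hr2 : r = 2
  · subst hr2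
    obtain ⟨s₀, hs₀⟩ := fixed_char2 hm σ ι hι k hkfix
    have h1 : z = jj ι s₀ := by rw [hzk, hs₀]; rfl
    rw [h1]
    apply hWJ
    rw [← h1]
    exact hzW
  · have hzz : z * z = 1 := by
      obtain ⟨s₀, hs₀⟩ := fixed_sq hm σ ι hι k hkfix
      have h1 : z * z = jj ι s₀ := by rw [hzk, ← map_mul, hs₀]; rfl
      rw [h1]
      apply hWJ
      rw [← h1]
      exact W.mul_mem hzW hzW
    have hcomm : Commute z a := by
      obtain ⟨u₀', hu₀'⟩ := fixed_conj hm σ ι hι k hkfix (tau v c)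
      rw [← hy] at hu₀'
      have h1 : z * a * z⁻¹ = jj ι u₀' := by
        rw [hzk, hay, ← map_inv, ← map_mul, ← map_mul, hu₀']
        rfl
      have h2 : z * a * z⁻¹ * a⁻¹ = jj ι (u₀' * (tau v c)⁻¹) := by
        rw [h1, map_mul, map_inv, ← ha]
      have h3 : z * a * z⁻¹ * a⁻¹ ∈ W := by
        have h4 := hWn a haC z⁻¹ (W.inv_mem hzW)
        have : z * a * z⁻¹ * a⁻¹ = z * (a * z⁻¹ * a⁻¹) := by group
        rw [this]
        exact W.mul_mem hzW h4
      have h5 : z * a * z⁻¹ * a⁻¹ = 1 := by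
        rw [h2]
        apply hWJ
        rw [← h2]
        exact h3
      show z * a = a * z
      calc z * a = (z * a * z⁻¹ * a⁻¹) * a * z := by group
        _ = a * z := by rw [h5, one_mul]
    have har : a ^ r = 1 := by
      rw [ha, ← map_pow, tau_pow_char r v c, map_one]
    have hzr : z ^ r = 1 := by
      have h1 : (z * a) ^ r = z ^ r * a ^ r := hcomm.mul_pow r
      have h2 : z * a = w * a * w⁻¹ := by rw [hz]; group
      rw [h2, conj_pow, har, mul_one, mul_inv_cancel, mul_one] at h1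
      exact h1.symm
    obtain ⟨j, hj⟩ : ∃ j, r = 2 * j + 1 := by
      rcases Nat.Prime.eq_two_or_odd hr.out with h | h
      · exact absurd h hr2
      · exact ⟨r / 2, by omega⟩
    calc z = z ^ r := by rw [hj, pow_succ, pow_mul, pow_two, hzz, one_pow, one_mul]
      _ = 1 := hzr

theorem comp_single_hom {R S : Type*} [Semiring R] [Semiring S] (f : R →+* S) {κ : Type*}
    [DecidableEq κ] (i : κ) (b : R) :
    (f ∘ (Pi.single i b : κ → R)) = Pi.single i (f b) := by
  funext l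
  by_cases h : l = i
  · subst h
    rw [Function.comp_apply, Pi.single_eq_same, Pi.single_eq_same]
  · rw [Function.comp_apply, Pi.single_eq_of_ne h, Pi.single_eq_of_ne h, map_zero]

theorem two_apply {R : Type*} [Semiring R] {κ : Type*} [DecidableEq κ] (i j : κ) (t : R) (k : κ) :
    (Pi.single i 1 + t • Pi.single j 1 : κ → R) k =
      (if k = i then 1 else 0) + t * (if k = j then 1 else 0) := by
  rw [Pi.add_apply, Pi.smul_apply, smul_eq_mul, Pi.single_apply, Pi.single_apply]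

theorem comp_two {R S : Type*} [Semiring R] [Semiring S] (f : R →+* S) {κ : Type*}
    [DecidableEq κ] (i j : κ) (t : R) :
    (f ∘ (Pi.single i 1 + t • Pi.single j 1 : κ → R)) =
      Pi.single i 1 + f t • Pi.single j 1 := by
  funext l
  rw [Function.comp_apply, two_apply, two_apply, map_add, map_mul]
  congr 1
  · split_ifs
    · exact map_one f
    · exact map_zero f
  · congr 1
    split_ifs
    · exact map_one f
    · exact map_zero f

theorem mulVec_two (M : MM) (i j : Fin m ⊕ Fin m) (t : F) (k : Fin m ⊕ Fin m) :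
    (M *ᵥ (Pi.single i 1 + t • Pi.single j 1)) k = M k i + t * M k j := by
  rw [Matrix.mulVec_add, Matrix.mulVec_smul, Pi.add_apply, Pi.smul_apply,
    Matrix.mulVec_single_one, Matrix.mulVec_single_one, smul_eq_mul]
  rfl

/-- an automorphism preserving transvections and fixing the transvections over the subfield is a
standard field automorphism fixing the subfield -/
theorem struct_of_fix [Fintype F] (hm : 2 ≤ m) (ι : F₀ →+* F) (w : MulAut KK) (hT : TPa w)
    (hfix : ∀ (v : VV₀) (c : F₀), w (pm (tau (ι ∘ v) (ι c))) = pm (tau (ι ∘ v) (ι c))) :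
    ∃ τ : F ≃+* F, w = phiF τ ∧ ∀ b : F₀, τ (ι b) = ι b := by
  have hm1 : 1 ≤ m := by omega
  obtain ⟨g, μ, hsim, τ, hw⟩ := aut_induced' hm hT
  rw [phiGS_eq] at hw
  have hpar : ∀ v : VV₀, v ≠ 0 → ∃ a : F, (g : MM) *ᵥ (τ ∘ (ι ∘ v)) = a • (ι ∘ v) := by
    intro v hv
    have hv' : (ι ∘ v : VV) ≠ 0 := by
      intro h
      apply hv
      funext i
      have := congrFun h i
      rw [Function.comp_apply, Pi.zero_apply] at this
      exact (map_eq_zero ι).mp this
    have h1 := hfix v 1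
    rw [map_one] at h1
    rw [hw, MulAut.mul_apply, phiF_tau, PhiG_tau ⟨g, hsim.mem_GSp⟩ μ hsim] at h1
    have h2 := pm_tau_eq hm1 (ι ∘ v) _ 1 _ hv' h1.symm
    exact tau_eq_parallel (ι ∘ v) _ 1 _ hv' one_ne_zero h2
  have hcol : ∀ i : Fin m ⊕ Fin m, ∃ d : F, d ≠ 0 ∧
      ∀ k, (g : MM) k i = if k = i then d else 0 := by
    intro i
    have hv : (Pi.single i 1 : VV₀) ≠ 0 := by
      intro h
      have := congrFun h i
      rw [Pi.single_eq_same, Pi.zero_apply] at this
      exact one_ne_zero this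
    obtain ⟨a, ha⟩ := hpar _ hv
    rw [comp_single_hom, map_one, comp_single τ i] at ha
    refine ⟨a, ?_, ?_⟩
    · rintro rfl
      rw [zero_smul] at ha
      have hne : (Pi.single i 1 : VV) ≠ 0 := by
        intro h
        have := congrFun h i
        rw [Pi.single_eq_same, Pi.zero_apply] at this
        exact one_ne_zero this
      exact gl_mulVec_ne_zero g _ hne ha
    · intro k
      have h1 := congrFun ha k
      rw [Matrix.mulVec_single_one, Pi.smul_apply, smul_eq_mul, Pi.single_apply] at h1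
      have h2 : (g : MM) k i = a * if k = i then 1 else 0 := h1
      rw [h2]
      split_ifs
      · rw [mul_one]
      · rw [mul_zero]
  choose d hd0 hd using hcol
  have hkey : ∀ i j : Fin m ⊕ Fin m, i ≠ j → ∀ b : F₀, τ (ι b) * d j = d i * ι b := by
    intro i j hij b
    have hv : (Pi.single i 1 + b • Pi.single j 1 : VV₀) ≠ 0 := by
      intro h
      have := congrFun h i
      rw [two_apply, if_pos rfl, if_neg hij, mul_zero, add_zero, Pi.zero_apply] at this
      exact one_ne_zero this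
    obtain ⟨a, ha⟩ := hpar _ hv
    rw [comp_two ι] at ha
    have e2 : (τ ∘ (Pi.single i 1 + ι b • Pi.single j 1 : VV) : VV) =
        Pi.single i 1 + τ (ι b) • Pi.single j 1 := comp_two (τ : F →+* F) i j (ι b)
    rw [e2] at ha
    have hi := congrFun ha i
    have hj := congrFun ha j
    rw [mulVec_two, Pi.smul_apply, two_apply, smul_eq_mul, hd, hd] at hi hj
    rw [if_pos rfl, if_neg hij, if_pos rfl, if_neg hij, mul_zero, add_zero, mul_zero, add_zero,
      mul_one] at hi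
    rw [if_neg (Ne.symm hij), if_pos rfl, if_neg (Ne.symm hij), if_pos rfl, zero_add, zero_add,
      mul_one] at hj
    rw [hj, hi]
  have hdd : ∀ i j : Fin m ⊕ Fin m, i ≠ j → d j = d i := by
    intro i j hij
    have := hkey i j hij 1
    rw [map_one, map_one, one_mul, mul_one] at this
    exact this
  obtain ⟨i₀, hi₀⟩ : ∃ i₀ : Fin m ⊕ Fin m, i₀ = Sum.inl ⟨0, hm1⟩ := ⟨_, rfl⟩
  obtain ⟨j₀, hj₀⟩ : ∃ j₀ : Fin m ⊕ Fin m, j₀ = Sum.inr ⟨0, hm1⟩ := ⟨_, rfl⟩
  have hij₀ : i₀ ≠ j₀ := by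
    rw [hi₀, hj₀]
    intro h
    cases h
  have hτ : ∀ b : F₀, τ (ι b) = ι b := by
    intro b
    have h1 := hkey i₀ j₀ hij₀ b
    rw [hdd i₀ j₀ hij₀, mul_comm (d i₀)] at h1
    exact mul_right_cancel₀ (hd0 i₀) h1
  have hdall : ∀ i, d i = d i₀ := by
    intro i
    by_cases h : i = i₀
    · rw [h]
    · exact hdd i₀ i (Ne.symm h)
  have hgs : (g : MM) = d i₀ • (1 : MM) := by
    ext k i
    rw [hd, Matrix.smul_apply, Matrix.one_apply, smul_eq_mul, hdall i]
    split_ifs
    · rw [mul_one]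
    · rw [mul_zero]
  obtain ⟨c, hc⟩ : ∃ c : Fˣ, (c : F) = d i₀ := ⟨Units.mk0 _ (hd0 i₀), rfl⟩
  have hgc : g = Matrix.GeneralLinearGroup.scalar (Fin m ⊕ Fin m) c := by
    apply Units.ext
    rw [scalar_val, hc, hgs]
  have hP : PhiG (⟨g, hsim.mem_GSp⟩ : ↥(Cfsg.GSp m F)) = 1 := by
    have : (⟨g, hsim.mem_GSp⟩ : ↥(Cfsg.GSp m F)) = scalG c := Subtype.ext hgc
    rw [this, PhiG_scalG]
  rw [hP, one_mul] at hw
  exact ⟨τ, hw, hτ⟩

/-- the main step: a normal subgroup of order prime to `p` is trivial -/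
theorem core_trivial [Fintype F] [Fintype F₀] (hm : 2 ≤ m) (r : ℕ) [hr : Fact r.Prime] [CharP F r]
    (p : ℕ) [hp : Fact p.Prime] (hpr : p ≠ r) (σ : F ≃+* F) (hσ : σ ^ p = 1) (ι : F₀ →+* F)
    (hι : ∀ a : F, σ a = a ↔ a ∈ ι.range) (W C : Subgroup (MulAut KK))
    (hC : C ≤ Subgroup.centralizer {(phiF σ : MulAut KK)})
    (hjC : ∀ s₀ : Sp₀, jj ι s₀ ∈ C) (hWC : W ≤ C)
    (hWn : ∀ c ∈ C, ∀ w ∈ W, c * w * c⁻¹ ∈ W) (hWp : (Nat.card W).Coprime p)
    (hdiv : p ∣ Nat.card ↥(MonoidHom.eqLocus (phiF σ : MulAut KK).toMonoidHom (MonoidHom.id KK))) :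
    W = ⊥ := by
  have hm1 : 1 ≤ m := by omega
  haveI : CharP F₀ r := RingHom.charP ι ι.injective r
  haveI hN := comap_normal ι W C hjC hWn
  have hcop : Nat.Coprime p r := (Nat.coprime_primes hp.out hr.out).mpr hpr
  rcases normal_dichotomy (F := F₀) hm1 (W.comap (jj ι)) with hcen | hcomm
  · have hWJ := caseB_inter hm1 ι W hcen
    rw [Subgroup.eq_bot_iff_forall]
    intro w hw
    have hfix : ∀ (v : VV₀) (c : F₀), w (pm (tau (ι ∘ v) (ι c))) = pm (tau (ι ∘ v) (ι c)) := by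
      intro v c
      have h1 := caseB_comm hm1 r σ ι hι W C hC hjC hWC hWn hWJ w hw v c
      have h2 := fix_of_comm_conj hm1 w (pm (spι ι (tau v c))) h1
      rw [spι_tau] at h2
      exact h2
    have hT : TPa w := by
      by_cases hcorner : m = 2 ∧ r = 2
      · obtain ⟨rfl, rfl⟩ := hcorner
        have hv : (ι ∘ (Pi.single (Sum.inl 0) 1 : Fin 2 ⊕ Fin 2 → F₀) : Fin 2 ⊕ Fin 2 → F) ≠ 0 := by
          intro h
          have := congrFun h (Sum.inl 0)
          rw [Function.comp_apply, Pi.single_eq_same, map_one, Pi.zero_apply] at this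
          exact one_ne_zero this
        have hc1 : ι 1 ≠ 0 := by
          rw [map_one]
          exact one_ne_zero
        apply TPa_of_fix_one w _ (ι 1) hv hc1
        rw [hfix]
        exact ⟨_, _, hv, hc1, rfl⟩
      · exact TPa.of_tauPres (tauPres (p := r) hm (fun h2 hr2 => hcorner ⟨h2, hr2⟩)) w
    obtain ⟨τ, hwτ, hτ⟩ := struct_of_fix hm ι w hT hfix
    have hτp : τ ^ p = 1 := by
      apply pow_eq_one_of_fixes σ τ p hσ
      intro a ha
      obtain ⟨b, rfl⟩ := (hι a).mp ha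
      exact hτ b
    have hwp : w ^ p = 1 := by
      rw [hwτ, ← phiFHom_apply, ← map_pow, hτp, map_one]
    have ho1 : orderOf w ∣ p := orderOf_dvd_of_pow_eq_one hwp
    have ho2 : orderOf w ∣ Nat.card W := Subgroup.orderOf_dvd_natCard W hw
    have ho3 : orderOf w ∣ 1 := by
      have := Nat.dvd_gcd ho2 ho1
      rwa [Nat.Coprime.gcd_eq_one hWp] at this
    exact orderOf_eq_one_iff.mp (Nat.dvd_one.mp ho3)
  · exfalso
    have h1 := caseA ι W r p hcop hcomm (exists_order_p hm1 σ ι hι p hdiv)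
    have h2 : p ∣ 1 := by
      have := Nat.dvd_gcd h1 (dvd_refl p)
      rwa [Nat.Coprime.gcd_eq_one hWp] at this
    exact hp.out.one_lt.ne' (Nat.dvd_one.mp h2)

end Cfsg.Agent.helper14.SpAut
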