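import Mathlib
import Cfsg.Agent.Lib_helper14_SpAutZ2
import Cfsg.Agent.Lib_helper14_CoreP

set_option autoImplicit false
set_option linter.unusedSectionVars false
set_option linter.unusedVariables false
set_option linter.unusedSimpArgs false

/-! The criterion for a standard field automorphism of `PSp`. -/

namespace Cfsg.Agent.helper14.SpAut

open Matrix Cfsg.Agent.helper4 Cfsg.Agent.helper29 Cfsg.Agent.helper29.SpRoot
open Cfsg.Agent.helper14

variable {F : Type*} [Field F] {F₀ : Type*} [Field F₀] {m : ℕ}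

local notation "Sp" => Matrix.symplecticGroup (Fin m) F
local notation "Sp₀" => Matrix.symplecticGroup (Fin m) F₀
local notation "ff" => Cfsg.sympForm m F
local notation "VV" => (Fin m ⊕ Fin m → F)
local notation "VV₀" => (Fin m ⊕ Fin m → F₀)
local notation "MM" => Matrix (Fin m ⊕ Fin m) (Fin m ⊕ Fin m) F
local notation "KK" => Cfsg.PSp m F
local notation "GLm" => GL (Fin m ⊕ Fin m) F

theorem std_backward [Finite F] (hm : 1 ≤ m) (σ : F ≃+* F) (A : Subgroup (MulAut KK))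
    (hinn : ∀ k : KK, MulAut.conj k ∈ A) (p : ℕ)
    (hcop : Nat.Coprime p
      (Nat.card ↥(MonoidHom.eqLocus (phiF σ : MulAut KK).toMonoidHom (MonoidHom.id KK)))) :
    HasCore p (A ⊓ Subgroup.centralizer {(phiF σ : MulAut KK)}) := by
  obtain ⟨W, hW⟩ : ∃ W : Subgroup (MulAut KK),
      W = Cfsg.Inn KK ⊓ Subgroup.centralizer {(phiF σ : MulAut KK)} := ⟨_, rfl⟩
  have hInnA : Cfsg.Inn KK ≤ A := by
    rintro _ ⟨k, rfl⟩
    exact hinn k
  refine ⟨W, ?_, ?_, ?_, ?_⟩
  · rw [hW]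
    exact inf_le_inf hInnA le_rfl
  · intro c hc w hw
    rw [hW, Subgroup.mem_inf] at hw ⊢
    rw [Subgroup.mem_inf] at hc
    refine ⟨?_, ?_⟩
    · obtain ⟨k, rfl⟩ := hw.1
      exact ⟨c k, (conj_aut c k).symm⟩
    · exact Subgroup.mul_mem _ (Subgroup.mul_mem _ hc.2 hw.2) (Subgroup.inv_mem _ hc.2)
  · have hcard : Nat.card W =
        Nat.card ↥(MonoidHom.eqLocus (phiF σ : MulAut KK).toMonoidHom (MonoidHom.id KK)) := by
      symm
      obtain ⟨f, hf⟩ : ∃ f : ↥(MonoidHom.eqLocus (phiF σ : MulAut KK).toMonoidHom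
          (MonoidHom.id KK)) → ↥W, ∀ y, ((f y : ↥W) : MulAut KK) = MulAut.conj y.1 := by
        refine ⟨fun y => ⟨MulAut.conj y.1, ?_⟩, fun y => rfl⟩
        rw [hW, Subgroup.mem_inf]
        refine ⟨⟨y.1, rfl⟩, ?_⟩
        rw [mem_cent_singleton]
        exact comm_conj_of_fix _ _ y.2
      apply Nat.card_congr
      refine Equiv.ofBijective f ⟨?_, ?_⟩
      · intro y y' h
        apply Subtype.ext
        apply conj_injective hm
        rw [← hf, ← hf, h]
      · rintro ⟨w, hw⟩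
        have hw' := hw
        rw [hW, Subgroup.mem_inf] at hw'
        obtain ⟨k, hk⟩ := hw'.1
        have hfix : phiF σ k = k := by
          apply fix_of_comm_conj hm
          have := (mem_cent_singleton _ _).mp hw'.2
          rw [← hk] at this
          exact this
        refine ⟨⟨k, hfix⟩, ?_⟩
        apply Subtype.ext
        rw [hf]
        exact hk
    rw [hcard]
    exact hcop.symm
  · intro hb
    obtain ⟨e, he⟩ : ∃ e : VV, e = Pi.single (Sum.inl ⟨0, hm⟩) 1 := ⟨_, rfl⟩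
    have he0 : e ≠ 0 := by
      intro h
      have := congrFun h (Sum.inl ⟨0, hm⟩)
      rw [he, Pi.single_eq_same, Pi.zero_apply] at this
      exact one_ne_zero this
    have hfix : phiF σ (pm (tau e 1)) = pm (tau e 1) := by
      rw [phiF_tau, he, comp_single, map_one]
    have hmem : MulAut.conj (pm (tau e 1)) ∈ W := by
      rw [hW, Subgroup.mem_inf]
      refine ⟨⟨_, rfl⟩, ?_⟩
      rw [mem_cent_singleton]
      exact comm_conj_of_fix _ _ hfix
    rw [hb, Subgroup.mem_bot] at hmem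
    exact pm_tau_ne_one hm e he0 1 one_ne_zero (conj_eq_one hm _ hmem)

theorem std_forward [Fintype F] [Fintype F₀] (hm : 2 ≤ m) (r : ℕ) [hr : Fact r.Prime] [CharP F r]
    (p : ℕ) [hp : Fact p.Prime] (hpr : p ≠ r) (σ : F ≃+* F) (hσ : σ ^ p = 1) (ι : F₀ →+* F)
    (hι : ∀ a : F, σ a = a ↔ a ∈ ι.range) (A : Subgroup (MulAut KK))
    (hinn : ∀ k : KK, MulAut.conj k ∈ A)
    (h : HasCore p (A ⊓ Subgroup.centralizer {(phiF σ : MulAut KK)})) :
    Nat.Coprime p
      (Nat.card ↥(MonoidHom.eqLocus (phiF σ : MulAut KK).toMonoidHom (MonoidHom.id KK))) := by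
  by_contra hcon
  have hdiv := (Nat.Prime.dvd_iff_not_coprime hp.out).mpr hcon
  obtain ⟨W, hWC, hWn, hWp, hWb⟩ := h
  have hι' : ∀ b, σ (ι b) = ι b := fun b => (hι _).mpr ⟨b, rfl⟩
  apply hWb
  apply core_trivial hm r p hpr σ hσ ι hι W _ inf_le_right ?_ hWC hWn hWp hdiv
  intro s₀
  rw [Subgroup.mem_inf]
  exact ⟨hinn _, jj_mem_cent σ ι hι' s₀⟩

theorem std_criterion [Fintype F] [Fintype F₀] (hm : 2 ≤ m) (r : ℕ) [hr : Fact r.Prime] [CharP F r]
    (p : ℕ) [hp : Fact p.Prime] (hpr : p ≠ r) (σ : F ≃+* F) (hσ : σ ^ p = 1) (ι : F₀ →+* F)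
    (hι : ∀ a : F, σ a = a ↔ a ∈ ι.range) (A : Subgroup (MulAut KK))
    (hinn : ∀ k : KK, MulAut.conj k ∈ A) :
    HasCore p (A ⊓ Subgroup.centralizer {(phiF σ : MulAut KK)}) ↔
    Nat.Coprime p
      (Nat.card ↥(MonoidHom.eqLocus (phiF σ : MulAut KK).toMonoidHom (MonoidHom.id KK))) :=
  ⟨std_forward hm r p hpr σ hσ ι hι A hinn, std_backward (by omega) σ A hinn p⟩

/-- a linear map sending every twisted vector to a multiple of the vector: the twist is trivial -/
theorem scalar_of_parallel (hm : 1 ≤ m) (g : GLm) (τ : F ≃+* F)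
    (hpar : ∀ v : VV, v ≠ 0 → ∃ a : F, (g : MM) *ᵥ (τ ∘ v) = a • v) : τ = 1 := by
  have hcol : ∀ i : Fin m ⊕ Fin m, ∃ d : F, d ≠ 0 ∧
      ∀ k, (g : MM) k i = if k = i then d else 0 := by
    intro i
    have hv : (Pi.single i 1 : VV) ≠ 0 := by
      intro h
      have := congrFun h i
      rw [Pi.single_eq_same, Pi.zero_apply] at this
      exact one_ne_zero this
    obtain ⟨a, ha⟩ := hpar _ hv
    rw [comp_single τ i] at ha
    refine ⟨a, ?_, ?_⟩
    · rintro rfl
      rw [zero_smul] at ha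
      exact gl_mulVec_ne_zero g _ hv ha
    · intro k
      have h1 := congrFun ha k
      rw [Matrix.mulVec_single_one, Pi.smul_apply, smul_eq_mul, Pi.single_apply] at h1
      have h2 : (g : MM) k i = a * if k = i then 1 else 0 := h1
      rw [h2]
      split_ifs
      · rw [mul_one]
      · rw [mul_zero]
  choose d hd0 hd using hcol
  have hkey : ∀ i j : Fin m ⊕ Fin m, i ≠ j → ∀ b : F, τ b * d j = d i * b := by
    intro i j hij b
    have hv : (Pi.single i 1 + b • Pi.single j 1 : VV) ≠ 0 := by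
      intro h
      have := congrFun h i
      rw [two_apply, if_pos rfl, if_neg hij, mul_zero, add_zero, Pi.zero_apply] at this
      exact one_ne_zero this
    obtain ⟨a, ha⟩ := hpar _ hv
    have e2 : (τ ∘ (Pi.single i 1 + b • Pi.single j 1 : VV) : VV) =
        Pi.single i 1 + τ b • Pi.single j 1 := comp_two (τ : F →+* F) i j b
    rw [e2] at ha
    have hi := congrFun ha i
    have hj := congrFun ha j
    rw [mulVec_two, Pi.smul_apply, two_apply, smul_eq_mul, hd, hd] at hi hj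
    rw [if_pos rfl, if_neg hij, if_pos rfl, if_neg hij, mul_zero, add_zero, mul_zero, add_zero,
      mul_one] at hi
    rw [if_neg (Ne.symm hij), if_pos rfl, if_neg (Ne.symm hij), if_pos rfl, zero_add, zero_add,
      mul_one] at hj
    rw [hj, hi]
  obtain ⟨i₀, hi₀⟩ : ∃ i₀ : Fin m ⊕ Fin m, i₀ = Sum.inl ⟨0, hm⟩ := ⟨_, rfl⟩
  obtain ⟨j₀, hj₀⟩ : ∃ j₀ : Fin m ⊕ Fin m, j₀ = Sum.inr ⟨0, hm⟩ := ⟨_, rfl⟩
  have hij₀ : i₀ ≠ j₀ := by
    rw [hi₀, hj₀]
    intro h
    cases h
  have hdd : d j₀ = d i₀ := by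
    have := hkey i₀ j₀ hij₀ 1
    rw [map_one, one_mul, mul_one] at this
    exact this
  ext b
  have h1 := hkey i₀ j₀ hij₀ b
  rw [hdd, mul_comm (d i₀)] at h1
  exact mul_right_cancel₀ (hd0 i₀) h1

/-- a standard field automorphism which is inner-diagonal is trivial -/
theorem phiF_eq_PhiG (hm : 1 ≤ m) (τ : F ≃+* F) (g' : ↥(Cfsg.GSp m F))
    (h : (phiF τ : MulAut KK) = PhiG g') : τ = 1 := by
  obtain ⟨μ, hsim⟩ := (mem_GSp_iff g'.1).mp g'.2
  have hpar : ∀ v : VV, v ≠ 0 → ∃ a : F, ((g' : GLm) : MM) *ᵥ (τ.symm ∘ v) = a • v := by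
    intro v hv
    obtain ⟨u, hu⟩ : ∃ u : VV, u = τ.symm ∘ v := ⟨_, rfl⟩
    have hτu : (τ ∘ u : VV) = v := by
      rw [hu]
      funext i
      simp
    have hu0 : u ≠ 0 := by
      rw [hu]
      exact comp_ne_zero τ.symm v hv
    have h1 : phiF τ (pm (tau u 1)) = PhiG g' (pm (tau u 1)) := by rw [h]
    rw [phiF_tau, PhiG_tau g' μ hsim, hτu] at h1
    have h2 := pm_tau_eq hm v _ (τ 1) _ hv h1
    rw [map_one] at h2
    obtain ⟨a, ha⟩ := tau_eq_parallel v _ 1 _ hv one_ne_zero h2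
    exact ⟨a, by rw [← hu]; exact ha⟩
  have h1 := scalar_of_parallel hm (g' : GLm) τ.symm hpar
  ext b
  have h2 : τ.symm (τ b) = τ b := by rw [h1]; rfl
  rw [RingEquiv.symm_apply_apply] at h2
  exact h2.symm

theorem isStd_phiF (σ : F ≃+* F) : Cfsg.IsStdFieldAutPSp σ (phiF σ : MulAut KK) := by
  intro s s' hs
  have h1 : phiF σ (QuotientGroup.mk s) = pm (mapSp σ s) := phiF_pm σ s
  rw [h1]
  have h2 : mapSp σ s = s' := by
    apply Subtype.ext
    rw [mapSp_val, hs]
  rw [h2]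
  rfl

end Cfsg.Agent.helper14.SpAut
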