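import Mathlib
import Cfsg.Agent.Lib_helper14_SpAutZ3
import Cfsg.Agent.Lib_helper14_SpAutV
import Cfsg.Agent.Lib_helper14_AutPslL

set_option autoImplicit false
set_option linter.unusedSectionVars false
set_option linter.unusedVariables false
set_option linter.unusedSimpArgs false

/-! The order of the group of semilinear automorphisms of `PSp`. -/

namespace Cfsg.Agent.helper14.SpAut

open Matrix Cfsg.Agent.helper4 Cfsg.Agent.helper29 Cfsg.Agent.helper29.SpRoot

variable {F : Type*} [Field F] {m : ℕ}

local notation "Sp" => Matrix.symplecticGroup (Fin m) F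
local notation "VV" => (Fin m ⊕ Fin m → F)
local notation "MM" => Matrix (Fin m ⊕ Fin m) (Fin m ⊕ Fin m) F
local notation "GLm" => GL (Fin m ⊕ Fin m) F
local notation "KK" => Cfsg.PSp m F

theorem scalG_injective (hm : 1 ≤ m) : Function.Injective (scalG (m := m) (F := F)) := by
  intro c c' h
  have h1 : (((scalG c : ↥(Cfsg.GSp m F)) : GLm) : MM) = (((scalG c' : ↥(Cfsg.GSp m F)) : GLm) : MM) := by
    rw [h]
  have h2 : ((Matrix.GeneralLinearGroup.scalar (Fin m ⊕ Fin m) c : GLm) : MM) =
      ((Matrix.GeneralLinearGroup.scalar (Fin m ⊕ Fin m) c' : GLm) : MM) := h1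
  rw [scalar_val, scalar_val] at h2
  have h3 := congrFun (congrFun h2 (Sum.inl ⟨0, hm⟩)) (Sum.inl ⟨0, hm⟩)
  rw [Matrix.smul_apply, Matrix.smul_apply, Matrix.one_apply_eq, smul_eq_mul, smul_eq_mul, mul_one,
    mul_one] at h3
  exact Units.ext h3

variable [Fintype F]

theorem card_ker_PhiG (hm : 1 ≤ m) :
    Nat.card (PhiG (m := m) (F := F)).ker = Fintype.card F - 1 := by
  have e : Fˣ ≃ (PhiG (m := m) (F := F)).ker :=
    Equiv.ofBijective (fun c => ⟨scalG c, PhiG_scalG c⟩) (by
      constructor
      · intro c c' h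
        exact scalG_injective hm (Subtype.ext_iff.mp h)
      · rintro ⟨g, hg⟩
        obtain ⟨c, hc⟩ := PhiG_ker hm g hg
        exact ⟨c, Subtype.ext (Subtype.ext hc.symm)⟩)
  rw [← Nat.card_congr e, Nat.card_units, Nat.card_eq_fintype_card]

theorem toG_injective : Function.Injective (toG (m := m) (F := F)) := by
  intro s s' h
  apply Subtype.ext
  have h1 : (((toG s : ↥(Cfsg.GSp m F)) : GLm) : MM) = (((toG s' : ↥(Cfsg.GSp m F)) : GLm) : MM) := by
    rw [h]
  exact h1

theorem card_ker_multG (hm : 1 ≤ m) :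
    Nat.card (multG (m := m) (F := F) hm).ker = Nat.card Sp := by
  have e : Sp ≃ (multG (m := m) (F := F) hm).ker :=
    Equiv.ofBijective (fun s => ⟨toG s, multG_toG hm s⟩) (by
      constructor
      · intro s s' h
        exact toG_injective (Subtype.ext_iff.mp h)
      · rintro ⟨g, hg⟩
        obtain ⟨s, hs⟩ := exists_toG_of_mult_one hm g hg
        exact ⟨s, Subtype.ext hs⟩)
  rw [← Nat.card_congr e]

theorem multG_surjective (hm : 1 ≤ m) : Function.Surjective (multG (m := m) (F := F) hm) :=
  fun u => ⟨diagG u, multG_diagG hm u⟩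

theorem card_GSp (hm : 1 ≤ m) :
    Nat.card ↥(Cfsg.GSp m F) = (Fintype.card F - 1) * Nat.card Sp := by
  rw [Subgroup.card_eq_card_quotient_mul_card_subgroup (multG (m := m) (F := F) hm).ker,
    card_ker_multG hm,
    Nat.card_congr (QuotientGroup.quotientKerEquivOfSurjective _ (multG_surjective hm)).toEquiv,
    Nat.card_units, Nat.card_eq_fintype_card]

theorem card_range_PhiG (hm : 1 ≤ m) :
    Nat.card (PhiG (m := m) (F := F)).range = Nat.card Sp := by
  have h1 := Subgroup.card_eq_card_quotient_mul_card_subgroup (PhiG (m := m) (F := F)).ker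
  rw [card_GSp hm, card_ker_PhiG hm,
    Nat.card_congr (QuotientGroup.quotientKerEquivRange (PhiG (m := m) (F := F))).toEquiv] at h1
  have hpos : 0 < Fintype.card F - 1 := by
    have := Fintype.one_lt_card (α := F)
    omega
  have h2 : (Fintype.card F - 1) * Nat.card Sp =
      (Fintype.card F - 1) * Nat.card (PhiG (m := m) (F := F)).range := by
    rw [h1]
    ring
  exact (Nat.eq_of_mul_eq_mul_left hpos h2).symm

end Cfsg.Agent.helper14.SpAut
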