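import Cfsg.Statements.S2616
import Cfsg.Agent.Lib_helper13_Witt

set_option autoImplicit false
open Cfsg

namespace Cfsg.Agent.S2616

open Module QuadraticMap Cfsg.Agent.helper13

universe u v

/-- the elliptic alternative. -/
def IsEll {F : Type u} [Field F] {V : Type v} [AddCommGroup V] [Module F V] (Q : QuadraticForm F V)
    {k : ℕ} (e f : Fin k → V) (x y : V) (ζ : F) : Prop :=
  (∀ t : F, t ^ 2 + t + ζ ≠ 0) ∧ IsHyp Q e f ∧
    (∀ i, polar (⇑Q) x (e i) = 0 ∧ polar (⇑Q) x (f i) = 0) ∧
    (∀ i, polar (⇑Q) y (e i) = 0 ∧ polar (⇑Q) y (f i) = 0) ∧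
    Q x = 1 ∧ polar (⇑Q) x y = 1 ∧ Q y = ζ

/-- a vector of norm one in an anisotropic plane. -/
theorem exists_norm_one {F : Type u} [Field F] [Fintype F] {V : Type v} [AddCommGroup V] [Module F V]
    [FiniteDimensional F V] (Q : QuadraticForm F V) (hdim : finrank F V = 2)
    (han : ∀ v : V, v ≠ 0 → Q v ≠ 0) : ∃ x : V, Q x = 1 := by
  classical
  have hpos : 0 < finrank F V := by omega
  obtain ⟨v, hv⟩ := (Module.finrank_pos_iff_exists_ne_zero (R := F) (M := V)).mp hpos
  have ha := han v hv
  by_cases h2 : (2 : F) = 0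
  · haveI : CharP F 2 := CharTwo.of_one_ne_zero_of_two_eq_zero one_ne_zero h2
    obtain ⟨s, hs⟩ : IsSquare (Q v) := FiniteField.isSquare_of_char_two (ringChar.eq F 2) _
    have hs0 : s ≠ 0 := by
      rintro rfl
      apply ha
      rw [hs, mul_zero]
    refine ⟨s⁻¹ • v, ?_⟩
    rw [QuadraticMap.map_smul, hs, smul_eq_mul]
    field_simp
  · set φ : V →ₗ[F] F := polarBilin Q v with hφ
    have hker : 1 ≤ finrank F (LinearMap.ker φ) := by
      have h1 := LinearMap.finrank_range_add_finrank_ker φ
      have h3 : finrank F (LinearMap.range φ) ≤ 1 := by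
        have := Submodule.finrank_le (LinearMap.range φ)
        rwa [Module.finrank_self] at this
      omega
    obtain ⟨w', hw'⟩ := (Module.finrank_pos_iff_exists_ne_zero (R := F) (M := LinearMap.ker φ)).mp
      (by omega)
    set w : V := (w' : V) with hw
    have hw0 : w ≠ 0 := fun h => hw' (Subtype.ext h)
    have hpol : polar (⇑Q) v w = 0 := LinearMap.mem_ker.mp w'.2
    have hb := han w hw0
    have hcard : Fintype.card F % 2 = 1 := by
      apply FiniteField.odd_card_of_char_ne_two
      intro hch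
      haveI : CharP F 2 := ringChar.of_eq hch
      apply h2
      have := CharP.cast_eq_zero F 2
      exact_mod_cast this
    have hf2 : (Polynomial.C (Q v) * Polynomial.X ^ 2 : Polynomial F).degree = 2 := by
      rw [Polynomial.degree_C_mul_X_pow 2 ha]; rfl
    have hg2 : (Polynomial.C (Q w) * Polynomial.X ^ 2 + Polynomial.C (-1) : Polynomial F).degree = 2 := by
      rw [Polynomial.degree_add_C, Polynomial.degree_C_mul_X_pow 2 hb]
      · rfl
      · rw [Polynomial.degree_C_mul_X_pow 2 hb]; decide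
    obtain ⟨s, t, hst⟩ := FiniteField.exists_root_sum_quadratic hf2 hg2 hcard
    simp only [Polynomial.eval_add, Polynomial.eval_mul, Polynomial.eval_C, Polynomial.eval_pow,
      Polynomial.eval_X] at hst
    refine ⟨s • v + t • w, ?_⟩
    rw [Q_comb2, hpol]
    linear_combination hst

theorem even_family {F : Type u} [Field F] [Fintype F] (k : ℕ) :
    ∀ (V : Type v) [AddCommGroup V] [Module F V] [FiniteDimensional F V] (Q : QuadraticForm F V),
      (polarBilin Q).Nondegenerate → finrank F V = 2 * (k + 1) →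
      (∃ e f : Fin (k + 1) → V, IsHyp Q e f) ∨
      (∃ (e f : Fin k → V) (x y : V) (ζ : F), IsEll Q e f x y ζ) := by
  induction k with
  | zero =>
    intro V _ _ _ Q hQ hdim
    by_cases hs : ∃ v : V, v ≠ 0 ∧ Q v = 0
    · obtain ⟨e₀, he₀, hQe⟩ := hs
      obtain ⟨f₀, hQf, hef⟩ := exists_hyp_pair Q hQ e₀ he₀ hQe
      left
      refine ⟨fun _ => e₀, fun _ => f₀, ⟨fun _ => hQe, fun _ => hQf, ?_, ?_, ?_⟩⟩
      · intro i j
        have hij : i = j := by
          have := i.2
          have := j.2
          exact Fin.ext (by omega)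
        rw [if_pos hij]
        exact hef
      · intro i j
        rw [polar_self', hQe, mul_zero]
      · intro i j
        rw [polar_self', hQf, mul_zero]
    · push Not at hs
      right
      obtain ⟨x, hx1⟩ := exists_norm_one Q (by omega) hs
      have hx0 : x ≠ 0 := by
        rintro rfl
        rw [QuadraticMap.map_zero] at hx1
        exact zero_ne_one hx1
      -- a vector outside the line of x
      obtain ⟨z, hz⟩ : ∃ z : V, z ∉ Submodule.span F {x} := by
        by_contra hcon
        push Not at hcon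
        have : Submodule.span F {x} = ⊤ := by
          rw [eq_top_iff]
          intro z _
          exact hcon z
        have h1 := finrank_span_singleton (K := F) hx0
        rw [this, finrank_top] at h1
        omega
      obtain ⟨y₀, hy₀⟩ : ∃ y₀ : V, polar (⇑Q) x y₀ = 1 := by
        obtain ⟨g, hg⟩ : ∃ g : V, polar (⇑Q) x g ≠ 0 := by
          by_contra hcon
          push Not at hcon
          exact hx0 (hQ.1 x (fun y => by rw [polarBilin_apply_apply]; exact hcon y))
        exact ⟨(polar (⇑Q) x g)⁻¹ • g, by rw [polar_smul_right, smul_eq_mul, inv_mul_cancel₀ hg]⟩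
      obtain ⟨y, hy1, hyx⟩ : ∃ y : V, polar (⇑Q) x y = 1 ∧ y ∉ Submodule.span F {x} := by
        by_cases hy₀x : y₀ ∈ Submodule.span F {x}
        · refine ⟨z + (1 - polar (⇑Q) x z) • y₀, ?_, ?_⟩
          · rw [polar_add_right, polar_smul_right, hy₀, smul_eq_mul]
            ring
          · intro hmem
            apply hz
            have h1 : (1 - polar (⇑Q) x z) • y₀ ∈ Submodule.span F {x} := Submodule.smul_mem _ _ hy₀x
            have h2 := Submodule.sub_mem _ hmem h1
            simpa using h2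
        · exact ⟨y₀, hy₀, hy₀x⟩
      refine ⟨Fin.elim0, Fin.elim0, x, y, Q y, ?_, isHyp_zero Q _ _, fun i => i.elim0, fun i => i.elim0,
        hx1, hy1, rfl⟩
      intro t ht
      have h1 : Q (t • x + (1 : F) • y) = t ^ 2 + t + Q y := by
        rw [Q_comb2, hx1, hy1]
        ring
      rw [ht] at h1
      have h2 : t • x + (1 : F) • y = 0 := by
        by_contra hne
        exact hs _ hne h1
      apply hyx
      rw [Submodule.mem_span_singleton]
      refine ⟨-t, ?_⟩
      rw [one_smul] at h2
      rw [neg_smul]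
      exact (eq_neg_of_add_eq_zero_right h2).symm
  | succ k ih =>
    intro V _ _ _ Q hQ hdim
    obtain ⟨e₀, he₀, hQe⟩ := exists_singular Q hQ (by omega)
    obtain ⟨f₀, hQf, hef⟩ := exists_hyp_pair Q hQ e₀ he₀ hQe
    have hfr := hypCompl_finrank Q hQ hQe hQf hef
    rcases ih (hypCompl Q e₀ f₀) (Q.comp (hypCompl Q e₀ f₀).subtype)
      (hypCompl_nondeg Q hQ hQe hQf hef) (by omega) with ⟨e', f', hhyp⟩ | ⟨e', f', x', y', ζ, hirr, hhyp, hxo, hyo, hx1, hxy, hyζ⟩
    · left
      exact ⟨_, _, IsHyp.cons Q hQe hQf hef hhyp⟩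
    · right
      exact ⟨_, _, (x' : V), (y' : V), ζ, hirr, IsHyp.cons Q hQe hQf hef hhyp, cons_orth Q x' hxo,
        cons_orth Q y' hyo, hx1, hxy, hyζ⟩

/-- Standard bases of a non-degenerate quadratic space of even dimension 2m over a finite field: either there is a hyperbolic basis e_i, f_i (Q(e_i) = Q(f_i) = 0, B(e_i, f_j) = δ_ij, the e's pairwise orthogonal and the f's pairwise orthogonal, B the polar form), or there is an elliptic basis: hyperbolic pairs e_i, f_i for i < m − 1 together with x, y orthogonal to them with Q(x) = 1, B(x, y) = 1, Q(y) = ζ where t² + t + ζ has no root in the field. -/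
theorem result {F V : Type*} [Field F] [Finite F] [AddCommGroup V] [Module F V] [FiniteDimensional F V] {m : ℕ} (hm : 1 ≤ m) (hV : Module.finrank F V = 2 * m) (Q : QuadraticForm F V) (hQ : (QuadraticMap.polarBilin Q).Nondegenerate) : (∃ b : Module.Basis (Fin m ⊕ Fin m) F V, (∀ i, Q (b (Sum.inl i)) = 0 ∧ Q (b (Sum.inr i)) = 0) ∧ (∀ i j, QuadraticMap.polar ⇑Q (b (Sum.inl i)) (b (Sum.inr j)) = if i = j then 1 else 0) ∧ (∀ i j, QuadraticMap.polar ⇑Q (b (Sum.inl i)) (b (Sum.inl j)) = 0 ∧ QuadraticMap.polar ⇑Q (b (Sum.inr i)) (b (Sum.inr j)) = 0)) ∨ (∃ (b : Module.Basis ((Fin (m - 1) ⊕ Fin (m - 1)) ⊕ Fin 2) F V) (ζ : F), (∀ t : F, t ^ 2 + t + ζ ≠ 0) ∧ (∀ i, Q (b (Sum.inl (Sum.inl i))) = 0 ∧ Q (b (Sum.inl (Sum.inr i))) = 0) ∧ (∀ i j, QuadraticMap.polar ⇑Q (b (Sum.inl (Sum.inl i))) (b (Sum.inl (Sum.inr j))) = if i = j then 1 else 0) ∧ (∀ i j, QuadraticMap.polar ⇑Q (b (Sum.inl (Sum.inl i))) (b (Sum.inl (Sum.inl j))) = 0 ∧ QuadraticMap.polar ⇑Q (b (Sum.inl (Sum.inr i))) (b (Sum.inl (Sum.inr j))) = 0) ∧ (∀ i (k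 : Fin 2), QuadraticMap.polar ⇑Q (b (Sum.inl (Sum.inl i))) (b (Sum.inr k)) = 0 ∧ QuadraticMap.polar ⇑Q (b (Sum.inl (Sum.inr i))) (b (Sum.inr k)) = 0) ∧ Q (b (Sum.inr 0)) = 1 ∧ QuadraticMap.polar ⇑Q (b (Sum.inr 0)) (b (Sum.inr 1)) = 1 ∧ Q (b (Sum.inr 1)) = ζ) := by
  classical
  haveI : Fintype F := Fintype.ofFinite F
  obtain ⟨k, rfl⟩ : ∃ k, m = k + 1 := ⟨m - 1, by omega⟩
  rcases even_family k V Q hQ hV with ⟨e, f, hhyp⟩ | ⟨e, f, x, y, ζ, hirr, hhyp, hxo, hyo, hx1, hxy, hyζ⟩
  · left
    let bv : Fin (k + 1) ⊕ Fin (k + 1) → V := Sum.elim e f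
    let bd : Fin (k + 1) ⊕ Fin (k + 1) → V := Sum.elim f e
    have hli : LinearIndependent F bv := by
      apply linearIndependent_of_dual Q bv bd (fun _ => 1)
      · intro _
        exact one_ne_zero
      · rintro (i | i) (j | j)
        · simp only [bv, bd, Sum.elim_inl, Sum.elim_inr]
          rw [hhyp.ef i j]
          simp
        · simp only [bv, bd, Sum.elim_inl, Sum.elim_inr]
          rw [hhyp.ee i j]
          simp
        · simp only [bv, bd, Sum.elim_inl, Sum.elim_inr]
          rw [hhyp.ff i j]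
          simp
        · simp only [bv, bd, Sum.elim_inl, Sum.elim_inr]
          rw [polar_comm, hhyp.ef j i]
          simp [eq_comm]
    have hcard : Fintype.card (Fin (k + 1) ⊕ Fin (k + 1)) = finrank F V := by
      rw [hV]
      simp
      ring
    let b := basisOfLinearIndependentOfCardEqFinrank hli hcard
    have hb : ∀ i, b i = bv i := fun i => by
      simp [b, coe_basisOfLinearIndependentOfCardEqFinrank]
    refine ⟨b, ?_, ?_, ?_⟩
    · intro i
      rw [hb, hb]
      exact ⟨hhyp.Qe i, hhyp.Qf i⟩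
    · intro i j
      rw [hb, hb]
      exact hhyp.ef i j
    · intro i j
      rw [hb, hb, hb, hb]
      exact ⟨hhyp.ee i j, hhyp.ff i j⟩
  · right
    have hxx : polar (⇑Q) x x = 2 := by rw [polar_self', hx1, mul_one]
    have hyy : polar (⇑Q) y y = 2 * ζ := by rw [polar_self', hyζ]
    have hyx : polar (⇑Q) y x = 1 := by rw [polar_comm, hxy]
    have hD : (4 * ζ - 1 : F) ≠ 0 := by
      intro hD0
      by_cases h2 : (2 : F) = 0
      · have h4 : (4 : F) = 0 := by
          have : (4 : F) = 2 * 2 := by norm_num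
          rw [this, h2, mul_zero]
        rw [h4, zero_mul, zero_sub] at hD0
        exact one_ne_zero (neg_eq_zero.mp hD0)
      · apply hirr (-(2 : F)⁻¹)
        have h4 : (4 : F) ≠ 0 := by
          have : (4 : F) = 2 * 2 := by norm_num
          rw [this]
          exact mul_ne_zero h2 h2
        field_simp
        linear_combination hD0
    let bv : (Fin k ⊕ Fin k) ⊕ Fin 2 → V := Sum.elim (Sum.elim e f) ![x, y]
    let bd : (Fin k ⊕ Fin k) ⊕ Fin 2 → V :=
      Sum.elim (Sum.elim f e) ![(2 * ζ) • x + (-1 : F) • y, (-1 : F) • x + (2 : F) • y]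
    let d : (Fin k ⊕ Fin k) ⊕ Fin 2 → F := Sum.elim (fun _ => 1) (fun _ => 4 * ζ - 1)
    have hli : LinearIndependent F bv := by
      apply linearIndependent_of_dual Q bv bd d
      · rintro (i | i)
        · exact one_ne_zero
        · exact hD
      · rintro ((i | i) | i) ((j | j) | j)
        · simp only [bv, bd, d, Sum.elim_inl, Sum.elim_inr]
          rw [hhyp.ef i j]
          simp
        · simp only [bv, bd, d, Sum.elim_inl, Sum.elim_inr]
          rw [hhyp.ee i j]
          simp
        · have h1 : polar (⇑Q) (e i) x = 0 := by rw [polar_comm]; exact (hxo i).1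
          have h2 : polar (⇑Q) (e i) y = 0 := by rw [polar_comm]; exact (hyo i).1
          fin_cases j <;>
            simp [bv, bd, d, polar_add_right, polar_smul_right, h1, h2]
        · simp only [bv, bd, d, Sum.elim_inl, Sum.elim_inr]
          rw [hhyp.ff i j]
          simp
        · simp only [bv, bd, d, Sum.elim_inl, Sum.elim_inr]
          rw [polar_comm, hhyp.ef j i]
          simp [eq_comm]
        · have h1 : polar (⇑Q) (f i) x = 0 := by rw [polar_comm]; exact (hxo i).2
          have h2 : polar (⇑Q) (f i) y = 0 := by rw [polar_comm]; exact (hyo i).2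
          fin_cases j <;>
            simp [bv, bd, d, polar_add_right, polar_smul_right, h1, h2]
        · fin_cases i <;> simp [bv, bd, d, (hxo j).2, (hyo j).2]
        · fin_cases i <;> simp [bv, bd, d, (hxo j).1, (hyo j).1]
        · fin_cases i <;> fin_cases j
          · simp only [bv, bd, d, Sum.elim_inr, Fin.zero_eta, Matrix.cons_val_zero]
            rw [polar_add_right, polar_smul_right, polar_smul_right, hxx, hxy]
            simp
            ring
          · simp [bv, bd, d, polar_add_right, polar_smul_right, hxx, hxy]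
          · simp [bv, bd, d, polar_add_right, polar_smul_right, hyx, hyy]
          · simp [bv, bd, d, polar_add_right, polar_smul_right, hyx, hyy]
            ring
    have hcard : Fintype.card ((Fin k ⊕ Fin k) ⊕ Fin 2) = finrank F V := by
      rw [hV]
      simp
      ring
    let b := basisOfLinearIndependentOfCardEqFinrank hli hcard
    have hb : ∀ i, b i = bv i := fun i => by
      simp [b, coe_basisOfLinearIndependentOfCardEqFinrank]
    refine ⟨b, ζ, hirr, ?_, ?_, ?_, ?_, ?_, ?_, ?_⟩
    · intro i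
      rw [hb, hb]
      exact ⟨hhyp.Qe i, hhyp.Qf i⟩
    · intro i j
      rw [hb, hb]
      exact hhyp.ef i j
    · intro i j
      rw [hb, hb, hb, hb]
      exact ⟨hhyp.ee i j, hhyp.ff i j⟩
    · intro i j
      rw [hb, hb, hb]
      have h1 : polar (⇑Q) (e i) x = 0 := by rw [polar_comm]; exact (hxo i).1
      have h2 : polar (⇑Q) (e i) y = 0 := by rw [polar_comm]; exact (hyo i).1
      have h3 : polar (⇑Q) (f i) x = 0 := by rw [polar_comm]; exact (hxo i).2
      have h4 : polar (⇑Q) (f i) y = 0 := by rw [polar_comm]; exact (hyo i).2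
      fin_cases j
      · exact ⟨h1, h3⟩
      · exact ⟨h2, h4⟩
    · rw [hb]
      exact hx1
    · rw [hb, hb]
      exact hxy
    · rw [hb]
      exact hyζ

end Cfsg.Agent.S2616
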