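import Cfsg.Statements.S2624
import Cfsg.Agent.S2616
import Cfsg.Agent.Lib_helper13_QExt

set_option autoImplicit false
open Cfsg

namespace Cfsg.Agent.S2624

open Module QuadraticMap Cfsg.Agent.helper13

theorem polar_comp' {F V : Type*} [Field F] [AddCommGroup V] [Module F V] (Q : QuadraticForm F V)
    (g : V →ₗ[F] V) (u v : V) : polar (⇑(Q.comp g)) u v = polar (⇑Q) (g u) (g v) := by
  unfold polar
  simp [QuadraticMap.comp_apply, map_add]

theorem polar_smul'' {F V : Type*} [Field F] [AddCommGroup V] [Module F V] (Q : QuadraticForm F V)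
    (c : F) (u v : V) : polar (⇑(c • Q)) u v = c * polar (⇑Q) u v := by
  unfold polar
  simp [QuadraticMap.smul_apply]
  ring

/-- For a quadratic form Q on F^n with non-degenerate polar form, F finite and n ≥ 2 even, every non-zero scalar c is the multiplier of some similarity: there is an invertible linear map g with Q(g v) = c·Q(v) for all v. -/
theorem result {F : Type*} [Field F] [Fintype F] {n : ℕ} (hn : 2 ≤ n) (he : Even n) (Q : QuadraticForm F (Fin n → F)) (hQ : (QuadraticMap.polarBilin Q).Nondegenerate) (c : F) (hc : c ≠ 0) : ∃ g : (Fin n → F) ≃ₗ[F] (Fin n → F), ∀ v, Q (g v) = c * Q v := by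
  classical
  obtain ⟨m, hm⟩ := he
  have hm1 : 1 ≤ m := by omega
  have hV : finrank F (Fin n → F) = 2 * m := by
    rw [Module.finrank_fin_fun]; omega
  suffices h : ∃ g : (Fin n → F) →ₗ[F] (Fin n → F), ∀ v, Q (g v) = c * Q v by
    obtain ⟨g, hg⟩ := h
    have hinj := similarity_injective Q hQ g c hc hg
    exact ⟨LinearEquiv.ofInjectiveEndo g hinj, fun v => by simpa using hg v⟩
  rcases Cfsg.Agent.S2616.result hm1 hV Q hQ with ⟨b, hQ0, hef, hee⟩ |
    ⟨b, ζ, hirr, hQ0, hef, hee, horth, hx1, hxy, hyζ⟩
  · let w : Fin m ⊕ Fin m → F := Sum.elim (fun _ => c) (fun _ => 1)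
    let g : (Fin n → F) →ₗ[F] (Fin n → F) := b.constr F (fun i => w i • b i)
    have hgb : ∀ i, g (b i) = w i • b i := fun i => by simp [g, Basis.constr_basis]
    refine ⟨g, ?_⟩
    have key := quad_ext_basis b (Q.comp g) (c • Q) ?_ ?_
    · intro v
      simpa using key v
    · intro i
      simp only [QuadraticMap.comp_apply, QuadraticMap.smul_apply, hgb, QuadraticMap.map_smul]
      rcases i with i | i
      · rw [(hQ0 i).1]; simp
      · rw [(hQ0 i).2]; simp
    · intro i j
      rw [polar_comp', polar_smul'', hgb, hgb, polar_smul_left, polar_smul_right]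
      rcases i with i | i <;> rcases j with j | j
      · simp [w, (hee i j).1]
      · simp [w]
      · simp [w]
      · simp [w, (hee i j).2]
  · obtain ⟨a, b', hab⟩ := exists_binary_repr ζ c hirr
    set x := b (Sum.inr 0) with hx
    set y := b (Sum.inr 1) with hy
    have pxx : polar (⇑Q) x x = 2 := by rw [polar_self', hx1, mul_one]
    have pyy : polar (⇑Q) y y = 2 * ζ := by rw [polar_self', hyζ]
    have pyx : polar (⇑Q) y x = 1 := by rw [polar_comm, hxy]
    have hex : ∀ i, polar (⇑Q) (b (Sum.inl (Sum.inl i))) x = 0 := fun i => (horth i 0).1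
    have hey : ∀ i, polar (⇑Q) (b (Sum.inl (Sum.inl i))) y = 0 := fun i => (horth i 1).1
    have hfx : ∀ i, polar (⇑Q) (b (Sum.inl (Sum.inr i))) x = 0 := fun i => (horth i 0).2
    have hfy : ∀ i, polar (⇑Q) (b (Sum.inl (Sum.inr i))) y = 0 := fun i => (horth i 1).2
    have hxe : ∀ i, polar (⇑Q) x (b (Sum.inl (Sum.inl i))) = 0 := fun i => by
      rw [polar_comm]; exact hex i
    have hye : ∀ i, polar (⇑Q) y (b (Sum.inl (Sum.inl i))) = 0 := fun i => by
      rw [polar_comm]; exact hey i
    have hxf : ∀ i, polar (⇑Q) x (b (Sum.inl (Sum.inr i))) = 0 := fun i => by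
      rw [polar_comm]; exact hfx i
    have hyf : ∀ i, polar (⇑Q) y (b (Sum.inl (Sum.inr i))) = 0 := fun i => by
      rw [polar_comm]; exact hfy i
    have hfe : ∀ i j, polar (⇑Q) (b (Sum.inl (Sum.inr i))) (b (Sum.inl (Sum.inl j))) =
        if i = j then 1 else 0 := fun i j => by
      rw [polar_comm, hef j i]
      simp [eq_comm]
    let img : (Fin (m - 1) ⊕ Fin (m - 1)) ⊕ Fin 2 → (Fin n → F) :=
      Sum.elim (Sum.elim (fun i => c • b (Sum.inl (Sum.inl i))) (fun i => b (Sum.inl (Sum.inr i))))
        ![a • x + b' • y, (-(ζ * b')) • x + (a + b') • y]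
    let g : (Fin n → F) →ₗ[F] (Fin n → F) := b.constr F img
    have hgb : ∀ i, g (b i) = img i := fun i => by simp [g, Basis.constr_basis]
    have hge : ∀ i, g (b (Sum.inl (Sum.inl i))) = c • b (Sum.inl (Sum.inl i)) := fun i => by
      rw [hgb]
      rfl
    have hgf : ∀ i, g (b (Sum.inl (Sum.inr i))) = b (Sum.inl (Sum.inr i)) := fun i => by
      rw [hgb]
      rfl
    have hgx : g x = a • x + b' • y := by
      rw [hx, hgb]
      rfl
    have hgy : g y = (-(ζ * b')) • x + (a + b') • y := by
      rw [hy, hgb]
      rfl
    refine ⟨g, ?_⟩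
    have key := quad_ext_basis b (Q.comp g) (c • Q) ?_ ?_
    · intro v
      simpa using key v
    · intro i
      simp only [QuadraticMap.comp_apply, QuadraticMap.smul_apply, smul_eq_mul]
      rcases i with (i | i) | i
      · rw [hge, QuadraticMap.map_smul, (hQ0 i).1]; simp
      · rw [hgf]
        rw [(hQ0 i).2]; simp
      · fin_cases i
        · show Q (g x) = c * Q x
          rw [hgx, Q_comb2, hx1, hyζ, hxy]
          linear_combination hab
        · show Q (g y) = c * Q y
          rw [hgy, Q_comb2, hx1, hyζ, hxy]
          linear_combination ζ * hab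
    · intro i j
      rw [polar_comp', polar_smul'']
      rcases i with (i | i) | i <;> rcases j with (j | j) | j
      · rw [hge, hge, polar_smul_left, polar_smul_right, (hee i j).1]; simp
      · rw [hge, hgf, polar_smul_left]; simp
      · fin_cases j
        · show polar (⇑Q) (g (b (Sum.inl (Sum.inl i)))) (g x) = c * polar (⇑Q) (b (Sum.inl (Sum.inl i))) x
          rw [hge, hgx, polar_smul_left, polar_add_right, polar_smul_right, polar_smul_right,
            hex, hey]
          simp
        · show polar (⇑Q) (g (b (Sum.inl (Sum.inl i)))) (g y) = c * polar (⇑Q) (b (Sum.inl (Sum.inl i))) y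
          rw [hge, hgy, polar_smul_left, polar_add_right, polar_smul_right, polar_smul_right,
            hex, hey]
          simp
      · rw [hgf, hge, polar_smul_right]; simp
      · rw [hgf, hgf, (hee i j).2]; simp
      · fin_cases j
        · show polar (⇑Q) (g (b (Sum.inl (Sum.inr i)))) (g x) = c * polar (⇑Q) (b (Sum.inl (Sum.inr i))) x
          rw [hgf, hgx, polar_add_right, polar_smul_right, polar_smul_right, hfx, hfy]
          simp
        · show polar (⇑Q) (g (b (Sum.inl (Sum.inr i)))) (g y) = c * polar (⇑Q) (b (Sum.inl (Sum.inr i))) y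
          rw [hgf, hgy, polar_add_right, polar_smul_right, polar_smul_right, hfx, hfy]
          simp
      · fin_cases i
        · show polar (⇑Q) (g x) (g (b (Sum.inl (Sum.inl j)))) = c * polar (⇑Q) x (b (Sum.inl (Sum.inl j)))
          rw [hge, hgx, polar_smul_right, polar_add_left, polar_smul_left, polar_smul_left,
            hxe, hye]
          simp
        · show polar (⇑Q) (g y) (g (b (Sum.inl (Sum.inl j)))) = c * polar (⇑Q) y (b (Sum.inl (Sum.inl j)))
          rw [hge, hgy, polar_smul_right, polar_add_left, polar_smul_left, polar_smul_left,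
            hxe, hye]
          simp
      · fin_cases i
        · show polar (⇑Q) (g x) (g (b (Sum.inl (Sum.inr j)))) = c * polar (⇑Q) x (b (Sum.inl (Sum.inr j)))
          rw [hgf, hgx, polar_add_left, polar_smul_left, polar_smul_left, hxf, hyf]
          simp
        · show polar (⇑Q) (g y) (g (b (Sum.inl (Sum.inr j)))) = c * polar (⇑Q) y (b (Sum.inl (Sum.inr j)))
          rw [hgf, hgy, polar_add_left, polar_smul_left, polar_smul_left, hxf, hyf]
          simp
      · fin_cases i <;> fin_cases j
        · show polar (⇑Q) (g x) (g x) = c * polar (⇑Q) x x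
          rw [hgx]
          simp only [polar_add_left, polar_add_right, polar_smul_left, polar_smul_right, pxx, pyy,
            pyx, hxy, smul_eq_mul]
          linear_combination 2 * hab
        · show polar (⇑Q) (g x) (g y) = c * polar (⇑Q) x y
          rw [hgx, hgy]
          simp only [polar_add_left, polar_add_right, polar_smul_left, polar_smul_right, pxx, pyy,
            pyx, hxy, smul_eq_mul]
          linear_combination hab
        · show polar (⇑Q) (g y) (g x) = c * polar (⇑Q) y x
          rw [hgx, hgy]
          simp only [polar_add_left, polar_add_right, polar_smul_left, polar_smul_right, pxx, pyy,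
            pyx, hxy, smul_eq_mul]
          linear_combination hab
        · show polar (⇑Q) (g y) (g y) = c * polar (⇑Q) y y
          rw [hgy]
          simp only [polar_add_left, polar_add_right, polar_smul_left, polar_smul_right, pxx, pyy,
            pyx, hxy, smul_eq_mul]
          linear_combination 2 * ζ * hab

end Cfsg.Agent.S2624
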