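import Mathlib
import Cfsg.Agent.Lib_helper14_GraphG
import Cfsg.Agent.Lib_helper14_FieldCent
import Cfsg.Agent.Lib_helper14_SpCard
import Cfsg.Agent.Lib_helper13_ReflA
import Cfsg.Agent.S0765
import Cfsg.Agent.S2624

set_option autoImplicit false
set_option linter.unusedSectionVars false
set_option linter.unusedVariables false

namespace Cfsg.Agent.helper14

open Matrix QuadraticMap

section detimg

variable {κ ι : Type} [Fintype κ] [DecidableEq κ] [Fintype ι] [DecidableEq ι]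
  {F : Type*} [Field F]

/-- determinants of the elements of a matrix group -/
def detImg (H : Subgroup (GL κ F)) : Subgroup Fˣ := H.map Matrix.GeneralLinearGroup.det

theorem det_conjGL (E : Matrix κ ι F) (E' : Matrix ι κ F) (h1 : E * E' = 1) (h2 : E' * E = 1)
    (g : GL ι F) :
    Matrix.GeneralLinearGroup.det (conjGL E E' h1 h2 g) = Matrix.GeneralLinearGroup.det g := by
  apply Units.ext
  rw [Matrix.GeneralLinearGroup.val_det_apply, Matrix.GeneralLinearGroup.val_det_apply, conjGL_val]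
  exact Matrix.det_conj_of_mul_eq_one h1 h2

theorem detImg_transfer (f₁ : (ι → F) → (ι → F) → F) (f₂ : (κ → F) → (κ → F) → F)
    (g : (ι → F) ≃ₗ[F] (κ → F)) (hf : ∀ u v, f₁ u v = f₂ (g u) (g v)) :
    detImg (Cfsg.Geo.similarityGroup f₁) = detImg (Cfsg.Geo.similarityGroup f₂) := by
  have h1 : LinearMap.toMatrix' (g : (ι → F) →ₗ[F] (κ → F)) *
      LinearMap.toMatrix' (g.symm : (κ → F) →ₗ[F] (ι → F)) = 1 := by
    rw [← LinearMap.toMatrix'_comp]
    have : (g : (ι → F) →ₗ[F] (κ → F)) ∘ₗ (g.symm : (κ → F) →ₗ[F] (ι → F)) = LinearMap.id :=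
      LinearMap.ext fun x => g.apply_symm_apply x
    rw [this, LinearMap.toMatrix'_id]
  have h2 : LinearMap.toMatrix' (g.symm : (κ → F) →ₗ[F] (ι → F)) *
      LinearMap.toMatrix' (g : (ι → F) →ₗ[F] (κ → F)) = 1 := by
    rw [← LinearMap.toMatrix'_comp]
    have : (g.symm : (κ → F) →ₗ[F] (ι → F)) ∘ₗ (g : (ι → F) →ₗ[F] (κ → F)) = LinearMap.id :=
      LinearMap.ext fun x => g.symm_apply_apply x
    rw [this, LinearMap.toMatrix'_id]
  have hiff : ∀ x : GL ι F, x ∈ Cfsg.Geo.similarityGroup f₁ ↔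
      conjGL _ _ h1 h2 x ∈ Cfsg.Geo.similarityGroup f₂ := by
    intro x
    apply conjGL_mem_bsim_iff
    intro u v
    rw [LinearMap.toMatrix'_mulVec, LinearMap.toMatrix'_mulVec, hf]
    rfl
  ext y
  constructor
  · rintro ⟨x, hx, rfl⟩
    exact ⟨conjGL _ _ h1 h2 x, (hiff x).mp hx, det_conjGL _ _ h1 h2 x⟩
  · rintro ⟨x', hx', rfl⟩
    refine ⟨(conjGL _ _ h1 h2).symm x', (hiff _).mpr (by
      rw [MulEquiv.apply_symm_apply]
      exact hx'), ?_⟩
    rw [← det_conjGL _ _ h1 h2, MulEquiv.apply_symm_apply]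

end detimg

section count

variable {F : Type*} [Field F] {n : ℕ}

theorem graph_split_index [Fintype F] (hn : 2 ≤ n) (M : GL (Fin n) F) (W Q : Subgroup Fˣ)
    (h1 : ∀ y ∈ detImg (Cfsg.Geo.similarityGroup (bilM (M : Matrix (Fin n) (Fin n) F))),
      ∃ a : Fˣ, ∃ b ∈ W, y = a ^ n * b)
    (h2 : W ≤ detImg (Cfsg.Geo.similarityGroup (bilM (M : Matrix (Fin n) (Fin n) F))))
    (hQ : ∀ y, y ∈ Q ↔ ∃ a : Fˣ, ∃ b ∈ W, y = a ^ n * b) :
    Cfsg.splitClassCount (Cfsg.inndiagPSL n F)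
      (Cfsg.Inn (ProjectiveSpecialLinearGroup (Fin n) F)) (gam M) = Q.index := by
  apply split_index_eq hn (gam M) W Q _ _ hQ
  · intro g hg
    rw [mem_cent_singleton, comm_gam_iff] at hg
    exact h1 _ ⟨g, hg, rfl⟩
  · intro b hb
    obtain ⟨g, hg, hdet⟩ := h2 hb
    exact ⟨g, by rw [mem_cent_singleton, comm_gam_iff]; exact hg, hdet⟩

theorem det_sq_of_form (M g : GL (Fin n) F) (a : F)
    (h : ∀ u v, bilM (M : Matrix (Fin n) (Fin n) F) ((g : Matrix (Fin n) (Fin n) F) *ᵥ u)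
      ((g : Matrix (Fin n) (Fin n) F) *ᵥ v) = a * bilM (M : Matrix (Fin n) (Fin n) F) u v) :
    (g : Matrix (Fin n) (Fin n) F).det * (g : Matrix (Fin n) (Fin n) F).det = a ^ n := by
  have hc : (g : Matrix (Fin n) (Fin n) F)ᵀ * (M : Matrix (Fin n) (Fin n) F) *
      (g : Matrix (Fin n) (Fin n) F) = a • (M : Matrix (Fin n) (Fin n) F) := by
    apply bilM_ext
    intro u v
    rw [bilM_congr, bilM_smul, h]
  have h3 := congrArg Matrix.det hc
  rw [Matrix.det_mul, Matrix.det_mul, Matrix.det_transpose, Matrix.det_smul, Fintype.card_fin]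
    at h3
  have hM : (M : Matrix (Fin n) (Fin n) F).det ≠ 0 := (Matrix.isUnits_det_units M).ne_zero
  apply mul_right_cancel₀ hM
  linear_combination h3

theorem det_sq_of_sim (M g : GL (Fin n) F)
    (hg : g ∈ Cfsg.Geo.similarityGroup (bilM (M : Matrix (Fin n) (Fin n) F))) :
    ∃ c : Fˣ, (g : Matrix (Fin n) (Fin n) F).det * (g : Matrix (Fin n) (Fin n) F).det =
      (c : F) ^ n := by
  obtain ⟨c, hc⟩ := hg
  exact ⟨c, det_sq_of_form M g c hc⟩

/-- the case where all determinants are `n`-th powers -/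
theorem split_of_pow [Fintype F] (hn : 2 ≤ n) (M : GL (Fin n) F)
    (hpow : ∀ g ∈ Cfsg.Geo.similarityGroup (bilM (M : Matrix (Fin n) (Fin n) F)),
      ∃ a : Fˣ, Matrix.GeneralLinearGroup.det g = a ^ n) :
    Cfsg.splitClassCount (Cfsg.inndiagPSL n F)
      (Cfsg.Inn (ProjectiveSpecialLinearGroup (Fin n) F)) (gam M) =
      Nat.gcd n (Fintype.card F - 1) := by
  obtain ⟨Q, hQ⟩ : ∃ Q : Subgroup Fˣ, Q = (powMonoidHom n : Fˣ →* Fˣ).range := ⟨_, rfl⟩
  have hQm : ∀ y, y ∈ Q ↔ ∃ a : Fˣ, ∃ b ∈ (⊥ : Subgroup Fˣ), y = a ^ n * b := by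
    intro y
    rw [hQ]
    constructor
    · rintro ⟨a, rfl⟩
      exact ⟨a, 1, Subgroup.one_mem _, by rw [mul_one]; rfl⟩
    · rintro ⟨a, b, hb, rfl⟩
      rw [Subgroup.mem_bot] at hb
      subst hb
      exact ⟨a, by rw [mul_one]; rfl⟩
  rw [graph_split_index hn M ⊥ Q ?_ bot_le hQm]
  · exact cyclic_index n 1 (Fintype.card F - 1) (by
      rw [Nat.card_units, Nat.card_eq_fintype_card, mul_one]) ⊥ Subgroup.card_bot Q hQm
  · rintro y ⟨g, hg, rfl⟩
    obtain ⟨a, ha⟩ := hpow g hg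
    exact ⟨a, 1, Subgroup.one_mem _, by rw [mul_one]; exact ha⟩

theorem pow_of_odd {k : ℕ} (hk : n = 2 * k + 1) (M : GL (Fin n) F) :
    ∀ g ∈ Cfsg.Geo.similarityGroup (bilM (M : Matrix (Fin n) (Fin n) F)),
      ∃ a : Fˣ, Matrix.GeneralLinearGroup.det g = a ^ n := by
  intro g hg
  obtain ⟨c, hc⟩ := det_sq_of_sim M g hg
  refine ⟨Matrix.GeneralLinearGroup.det g * (c ^ k)⁻¹, ?_⟩
  apply Units.ext
  obtain ⟨d, hd⟩ : ∃ d : F, d = (g : Matrix (Fin n) (Fin n) F).det := ⟨_, rfl⟩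
  rw [← hd] at hc
  have hc0 : (c : F) ≠ 0 := c.ne_zero
  rw [Units.val_pow_eq_pow_val, Units.val_mul, Matrix.GeneralLinearGroup.val_det_apply, ← hd,
    Units.val_inv_eq_inv_val, Units.val_pow_eq_pow_val, hk, mul_pow, inv_pow,
    show d ^ (2 * k + 1) = d * (d * d) ^ k by ring, hc, hk]
  field_simp
  ring

theorem pow_of_char2_even [Fintype F] [CharP F 2] {k : ℕ} (hk : n = 2 * k) (M : GL (Fin n) F) :
    ∀ g ∈ Cfsg.Geo.similarityGroup (bilM (M : Matrix (Fin n) (Fin n) F)),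
      ∃ a : Fˣ, Matrix.GeneralLinearGroup.det g = a ^ n := by
  intro g hg
  obtain ⟨c, hc⟩ := det_sq_of_sim M g hg
  obtain ⟨e, he⟩ := exists_sqrt_char2 (c : F)
  have he0 : e ≠ 0 := by
    rintro rfl
    rw [mul_zero] at he
    exact c.ne_zero he.symm
  refine ⟨Units.mk0 e he0, ?_⟩
  apply Units.ext
  rw [Units.val_pow_eq_pow_val, Units.val_mk0, Matrix.GeneralLinearGroup.val_det_apply]
  apply eq_of_sq_eq_char2
  rw [hc, ← he, mul_pow]

end count

section skew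

variable {F : Type*} [Field F] {m : ℕ}

local notation "Sp" => Matrix.symplecticGroup (Fin m) F
local notation "MM" => Matrix (Fin m ⊕ Fin m) (Fin m ⊕ Fin m) F
local notation "GLm" => GL (Fin m ⊕ Fin m) F

theorem det_sympTransvection (w : Fin m ⊕ Fin m → F) (c : F) :
    (Cfsg.sympTransvection m w c).det = 1 := by
  unfold Cfsg.sympTransvection
  rw [← Matrix.smul_vecMulVec, Matrix.vecMulVec_eq Unit,
    Matrix.det_one_add_replicateCol_mul_replicateRow, dotProduct_smul, dotProduct_comm]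
  have h : w ⬝ᵥ (Matrix.J (Fin m) F *ᵥ w) = 0 := Cfsg.Agent.helper4.sympForm_self w
  rw [h, smul_zero, add_zero]

theorem sp_det_eq_one (s : Sp) : (s : MM).det = 1 := by
  obtain ⟨K, hK⟩ : ∃ K : Subgroup Sp, K = ((Matrix.GeneralLinearGroup.det (n := Fin m ⊕ Fin m)
      (R := F)).comp (spGLHom m F)).ker := ⟨_, rfl⟩
  have hle : Subgroup.closure {A : Sp | ∃ (w : Fin m ⊕ Fin m → F) (c : F),
      (A : MM) = Cfsg.sympTransvection m w c} ≤ K := by
    rw [Subgroup.closure_le]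
    rintro A ⟨w, c, hA⟩
    rw [hK]
    show ((Matrix.GeneralLinearGroup.det (n := Fin m ⊕ Fin m) (R := F)).comp (spGLHom m F)) A = 1
    apply Units.ext
    rw [MonoidHom.comp_apply, Matrix.GeneralLinearGroup.val_det_apply, spGLHom_val, hA,
      det_sympTransvection, Units.val_one]
  rw [Cfsg.Agent.S0765.result] at hle
  have hs : s ∈ K := hle (Subgroup.mem_top s)
  rw [hK, MonoidHom.mem_ker, MonoidHom.comp_apply] at hs
  have h1 := congrArg Units.val hs
  rw [Matrix.GeneralLinearGroup.val_det_apply, spGLHom_val, Units.val_one] at h1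
  exact h1

open Cfsg.Agent.helper14.SpAut in
theorem det_diagG (u : Fˣ) :
    (((diagG u : ↥(Cfsg.GSp m F)) : GLm) : MM).det = (u : F) ^ m := by
  rw [diagG_val, Matrix.det_diagonal, Fintype.prod_sum_type]
  simp

open Cfsg.Agent.helper14.SpAut in
theorem detImg_GSp (hm : 1 ≤ m) :
    detImg (Cfsg.GSp m F) = (powMonoidHom m : Fˣ →* Fˣ).range := by
  ext y
  constructor
  · rintro ⟨g, hg, rfl⟩
    obtain ⟨μ, hμ⟩ : ∃ μ : Fˣ, μ = multG hm ⟨g, hg⟩ := ⟨_, rfl⟩
    have h1 : multG hm ((diagG μ)⁻¹ * ⟨g, hg⟩) = 1 := by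
      rw [map_mul, map_inv, multG_diagG, ← hμ, inv_mul_cancel]
    obtain ⟨s, hs⟩ := exists_toG_of_mult_one hm _ h1
    have h2 : (⟨g, hg⟩ : ↥(Cfsg.GSp m F)) = diagG μ * toG s := by
      rw [hs]
      group
    have h3 : g = ((diagG μ : ↥(Cfsg.GSp m F)) : GLm) * ((toG s : ↥(Cfsg.GSp m F)) : GLm) := by
      have := congrArg Subtype.val h2
      exact this
    refine ⟨μ, ?_⟩
    apply Units.ext
    rw [powMonoidHom_apply, Units.val_pow_eq_pow_val, Matrix.GeneralLinearGroup.val_det_apply, h3,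
      Units.val_mul, Matrix.det_mul, det_diagG]
    have h4 : (((toG s : ↥(Cfsg.GSp m F)) : GLm) : MM).det = 1 := sp_det_eq_one s
    rw [h4, mul_one]
  · rintro ⟨a, rfl⟩
    refine ⟨((diagG a : ↥(Cfsg.GSp m F)) : GLm), (diagG a).2, ?_⟩
    apply Units.ext
    rw [powMonoidHom_apply, Units.val_pow_eq_pow_val, Matrix.GeneralLinearGroup.val_det_apply,
      det_diagG]

theorem sim_neg (f : (Fin m ⊕ Fin m → F) → (Fin m ⊕ Fin m → F) → F) :
    Cfsg.Geo.similarityGroup (fun u v => - f u v) = Cfsg.Geo.similarityGroup f := by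
  ext g
  constructor
  · rintro ⟨c, hc⟩
    refine ⟨c, fun u v => ?_⟩
    have := hc u v
    linear_combination -this
  · rintro ⟨c, hc⟩
    refine ⟨c, fun u v => ?_⟩
    have := hc u v
    show - f _ _ = (c : F) * - f u v
    linear_combination -this

theorem split_skew [Fintype F] {n : ℕ} (hm : 1 ≤ m) (hnm : n = 2 * m) (M : GL (Fin n) F)
    (halt : ∀ v, bilM (M : Matrix (Fin n) (Fin n) F) v v = 0) :
    Cfsg.splitClassCount (Cfsg.inndiagPSL n F)
      (Cfsg.Inn (ProjectiveSpecialLinearGroup (Fin n) F)) (gam M) =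
      Nat.gcd m (Fintype.card F - 1) := by
  obtain ⟨g₀, hg₀⟩ := alt_classify hnm M halt
  have hD : detImg (Cfsg.Geo.similarityGroup (bilM (M : Matrix (Fin n) (Fin n) F))) =
      (powMonoidHom m : Fˣ →* Fˣ).range := by
    rw [detImg_transfer (bilM (M : Matrix (Fin n) (Fin n) F))
      (fun u v => - Cfsg.sympForm m F u v) g₀ hg₀, sim_neg]
    exact detImg_GSp hm
  obtain ⟨Q, hQ⟩ : ∃ Q : Subgroup Fˣ, Q = (powMonoidHom m : Fˣ →* Fˣ).range := ⟨_, rfl⟩
  have hQm : ∀ y, y ∈ Q ↔ ∃ a : Fˣ, ∃ b ∈ Q, y = a ^ n * b := by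
    intro y
    constructor
    · intro hy
      exact ⟨1, y, hy, by rw [one_pow, one_mul]⟩
    · rintro ⟨a, b, hb, rfl⟩
      rw [hQ] at hb ⊢
      obtain ⟨c, rfl⟩ := hb
      refine ⟨a * a * c, ?_⟩
      rw [powMonoidHom_apply, powMonoidHom_apply, hnm, mul_pow, ← pow_two, ← pow_mul]
  have hQ' : ∀ y, y ∈ Q ↔ ∃ a : Fˣ, ∃ b ∈ (⊥ : Subgroup Fˣ), y = a ^ m * b := by
    intro y
    rw [hQ]
    constructor
    · rintro ⟨a, rfl⟩
      exact ⟨a, 1, Subgroup.one_mem _, by rw [mul_one]; rfl⟩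
    · rintro ⟨a, b, hb, rfl⟩
      rw [Subgroup.mem_bot] at hb
      subst hb
      exact ⟨a, by rw [mul_one]; rfl⟩
  have hn2 : 2 ≤ n := by omega
  rw [graph_split_index hn2 M Q Q ?_ ?_ hQm]
  · exact cyclic_index m 1 (Fintype.card F - 1) (by
      rw [Nat.card_units, Nat.card_eq_fintype_card, mul_one]) ⊥ Subgroup.card_bot Q hQ'
  · intro y hy
    rw [hD, ← hQ] at hy
    exact ⟨1, y, hy, by rw [one_pow, one_mul]⟩
  · rw [hD, hQ]

end skew

end Cfsg.Agent.helper14
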