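import Mathlib
import Cfsg.Agent.Lib_helper14_GraphH

set_option autoImplicit false
set_option linter.unusedSectionVars false
set_option linter.unusedVariables false

namespace Cfsg.Agent.helper14

open Matrix QuadraticMap Cfsg.Agent.helper13

section symmsplit

variable {F : Type*} [Field F] {n : ℕ}

theorem bilM_polarize (h2 : (2 : F) ≠ 0) (M : Matrix (Fin n) (Fin n) F) (hM : Mᵀ = M)
    (u v : Fin n → F) :
    bilM M u v = 2⁻¹ * (QM M (u + v) - QM M u - QM M v) := by
  rw [QM_apply, QM_apply, QM_apply, bilM_add_left, bilM_add_right, bilM_add_right]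
  have h1 : bilM M v u = bilM M u v := by
    rw [bilM_flip M v u, hM]
  rw [h1]
  field_simp
  ring

theorem sim_of_quad (h2 : (2 : F) ≠ 0) (M : Matrix (Fin n) (Fin n) F) (hM : Mᵀ = M)
    (g : GL (Fin n) F) (c : Fˣ)
    (h : ∀ v, QM M ((g : Matrix (Fin n) (Fin n) F) *ᵥ v) = (c : F) * QM M v) :
    g ∈ Cfsg.Geo.similarityGroup (bilM M) := by
  refine ⟨c, fun u v => ?_⟩
  rw [bilM_polarize h2 M hM, bilM_polarize h2 M hM u v, ← Matrix.mulVec_add, h, h, h]
  ring

theorem exists_QM_ne_zero (h2 : (2 : F) ≠ 0) (hn : 0 < n) (M : GL (Fin n) F)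
    (hM : (M : Matrix (Fin n) (Fin n) F)ᵀ = (M : Matrix (Fin n) (Fin n) F)) :
    ∃ w, QM (M : Matrix (Fin n) (Fin n) F) w ≠ 0 := by
  by_contra hcon
  push Not at hcon
  have h0 : (M : Matrix (Fin n) (Fin n) F) = 0 := by
    apply bilM_ext
    intro u v
    rw [bilM_polarize h2 _ hM, hcon, hcon, hcon]
    unfold bilM
    rw [Matrix.zero_mulVec, dotProduct_zero]
    ring
  have hd := (Matrix.isUnits_det_units M).ne_zero
  haveI : Nonempty (Fin n) := ⟨⟨0, hn⟩⟩
  rw [h0, Matrix.det_zero] at hd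
  exact hd rfl

theorem neg_one_mem_detImg (h2 : (2 : F) ≠ 0) (hn : 0 < n) (M : GL (Fin n) F)
    (hM : (M : Matrix (Fin n) (Fin n) F)ᵀ = (M : Matrix (Fin n) (Fin n) F)) :
    (-1 : Fˣ) ∈ detImg (Cfsg.Geo.similarityGroup (bilM (M : Matrix (Fin n) (Fin n) F))) := by
  obtain ⟨w, hw⟩ := exists_QM_ne_zero h2 hn M hM
  refine ⟨(reflG (QM (M : Matrix (Fin n) (Fin n) F)) w hw : GL (Fin n) F), ?_, ?_⟩
  · apply sim_of_quad h2 _ hM _ 1
    intro v
    rw [Units.val_one, one_mul]
    exact Q_iact (reflG (QM (M : Matrix (Fin n) (Fin n) F)) w hw) v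
  · apply Units.ext
    rw [Matrix.GeneralLinearGroup.val_det_apply, det_reflG]
    simp

theorem sq_eq_cases {x y : F} (h : x * x = y * y) : x = y ∨ x = -y := by
  have h1 : (x - y) * (x + y) = 0 := by linear_combination h
  rcases mul_eq_zero.mp h1 with h3 | h3
  · left
    linear_combination h3
  · right
    linear_combination h3

theorem split_symm [Fintype F] (h2 : (2 : F) ≠ 0) {m : ℕ} (hm : 1 ≤ m) (hnm : n = 2 * m)
    (M : GL (Fin n) F)
    (hM : (M : Matrix (Fin n) (Fin n) F)ᵀ = (M : Matrix (Fin n) (Fin n) F)) :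
    Cfsg.splitClassCount (Cfsg.inndiagPSL n F)
      (Cfsg.Inn (ProjectiveSpecialLinearGroup (Fin n) F)) (gam M) =
      Nat.gcd m ((Fintype.card F - 1) / 2) := by
  have hn0 : 0 < n := by omega
  have hn2 : 2 ≤ n := by omega
  have hne : Even n := ⟨m, by omega⟩
  have hQn := QM_nondeg h2 M hM
  obtain ⟨D, hD⟩ : ∃ D : Subgroup Fˣ,
      D = detImg (Cfsg.Geo.similarityGroup (bilM (M : Matrix (Fin n) (Fin n) F))) := ⟨_, rfl⟩
  have hneg : (-1 : Fˣ) ∈ D := by
    rw [hD]
    exact neg_one_mem_detImg h2 hn0 M hM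
  have hpow : ∀ a : Fˣ, a ^ m ∈ D := by
    intro a
    obtain ⟨k, hk⟩ := Cfsg.Agent.S2624.result hn2 hne (QM (M : Matrix (Fin n) (Fin n) F)) hQn
      (a : F) a.ne_zero
    have hmem : glOfEquiv k ∈
        Cfsg.Geo.similarityGroup (bilM (M : Matrix (Fin n) (Fin n) F)) := by
      apply sim_of_quad h2 _ hM _ a
      intro v
      rw [glOfEquiv_mulVec, hk]
    have hform : ∀ u v, bilM (M : Matrix (Fin n) (Fin n) F)
        (((glOfEquiv k : GL (Fin n) F) : Matrix (Fin n) (Fin n) F) *ᵥ u)
        (((glOfEquiv k : GL (Fin n) F) : Matrix (Fin n) (Fin n) F) *ᵥ v) =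
        (a : F) * bilM (M : Matrix (Fin n) (Fin n) F) u v := by
      intro u v
      rw [bilM_polarize h2 _ hM, bilM_polarize h2 _ hM u v, ← Matrix.mulVec_add,
        glOfEquiv_mulVec, glOfEquiv_mulVec, glOfEquiv_mulVec, hk, hk, hk]
      ring
    have hsq := det_sq_of_form M (glOfEquiv k) (a : F) hform
    have hdm : Matrix.GeneralLinearGroup.det (glOfEquiv k : GL (Fin n) F) ∈ D := by
      rw [hD]
      exact ⟨_, hmem, rfl⟩
    have hsq' : ((glOfEquiv k : GL (Fin n) F) : Matrix (Fin n) (Fin n) F).det *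
        ((glOfEquiv k : GL (Fin n) F) : Matrix (Fin n) (Fin n) F).det =
        ((a : F) ^ m) * ((a : F) ^ m) := by
      rw [hsq, hnm]
      ring
    rcases sq_eq_cases hsq' with h3 | h3
    · have : a ^ m = Matrix.GeneralLinearGroup.det (glOfEquiv k : GL (Fin n) F) := by
        apply Units.ext
        rw [Matrix.GeneralLinearGroup.val_det_apply, h3, Units.val_pow_eq_pow_val]
      rw [this]
      exact hdm
    · have : a ^ m = (-1 : Fˣ) * Matrix.GeneralLinearGroup.det (glOfEquiv k : GL (Fin n) F) := by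
        apply Units.ext
        rw [Units.val_mul, Matrix.GeneralLinearGroup.val_det_apply, h3, Units.val_pow_eq_pow_val]
        simp
      rw [this]
      exact D.mul_mem hneg hdm
  have hDchar : ∀ y, y ∈ D ↔ ∃ a : Fˣ, ∃ b ∈ Subgroup.zpowers (-1 : Fˣ), y = a ^ m * b := by
    intro y
    constructor
    · intro hy
      rw [hD] at hy
      obtain ⟨g, hg, rfl⟩ := hy
      obtain ⟨c, hc⟩ := det_sq_of_sim M g hg
      have hsq' : (g : Matrix (Fin n) (Fin n) F).det * (g : Matrix (Fin n) (Fin n) F).det =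
          ((c : F) ^ m) * ((c : F) ^ m) := by
        rw [hc, hnm]
        ring
      rcases sq_eq_cases hsq' with h3 | h3
      · refine ⟨c, 1, Subgroup.one_mem _, ?_⟩
        apply Units.ext
        rw [mul_one, Matrix.GeneralLinearGroup.val_det_apply, h3, Units.val_pow_eq_pow_val]
      · refine ⟨c, -1, Subgroup.mem_zpowers _, ?_⟩
        apply Units.ext
        rw [Units.val_mul, Matrix.GeneralLinearGroup.val_det_apply, h3, Units.val_pow_eq_pow_val]
        simp
    · rintro ⟨a, b, hb, rfl⟩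
      refine D.mul_mem (hpow a) ?_
      exact (Subgroup.zpowers_le.mpr hneg) hb
  have hDm : ∀ y, y ∈ D ↔ ∃ a : Fˣ, ∃ b ∈ D, y = a ^ n * b := by
    intro y
    constructor
    · intro hy
      exact ⟨1, y, hy, by rw [one_pow, one_mul]⟩
    · rintro ⟨a, b, hb, rfl⟩
      refine D.mul_mem ?_ hb
      have : a ^ n = (a * a) ^ m := by
        rw [hnm, ← pow_two, ← pow_mul]
      rw [this]
      exact hpow _
  rw [graph_split_index hn2 M D D ?_ ?_ hDm]
  · have hq : 2 ∣ Fintype.card F - 1 := by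
      have hodd : Odd (Fintype.card F) := by
        by_contra hev
        rw [Nat.not_odd_iff_even] at hev
        obtain ⟨p, hchar⟩ := CharP.exists F
        haveI := hchar
        obtain ⟨k, hpp, hk⟩ := FiniteField.card F p
        have h2p : 2 ∣ p := by
          have : 2 ∣ p ^ (k : ℕ) := by
            rw [← hk]
            exact hev.two_dvd
          exact (Nat.Prime.dvd_of_dvd_pow Nat.prime_two this)
        have hp2 : p = 2 := ((Nat.prime_dvd_prime_iff_eq Nat.prime_two hpp).mp h2p).symm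
        subst hp2
        exact h2 (CharTwo.two_eq_zero)
      obtain ⟨k, hk⟩ := hodd
      exact ⟨k, by omega⟩
    obtain ⟨L, hL⟩ := hq
    have hord : orderOf (-1 : Fˣ) = 2 := by
      rw [orderOf_eq_iff (by norm_num)]
      refine ⟨by simp, ?_⟩
      intro k hk hk0
      have hk1 : k = 1 := by omega
      subst hk1
      rw [pow_one]
      intro h
      have := congrArg Units.val h
      rw [Units.val_neg, Units.val_one] at this
      apply h2
      linear_combination -this
    have hcard : Nat.card (Subgroup.zpowers (-1 : Fˣ)) = 2 := by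
      rw [Nat.card_zpowers, hord]
    rw [hL, Nat.mul_div_cancel_left L (by norm_num)]
    exact cyclic_index m 2 L (by
      rw [Nat.card_units, Nat.card_eq_fintype_card, hL, mul_comm]) _ hcard D hDchar
  · intro y hy
    rw [← hD] at hy
    exact ⟨1, y, hy, by rw [one_pow, one_mul]⟩
  · rw [hD]

end symmsplit

end Cfsg.Agent.helper14
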