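import Mathlib
import Cfsg.Agent.Lib_helper14_GraphI
import Cfsg.Agent.Lib_helper13_AutO6
import Cfsg.Agent.Lib_helper13_OrthG
import Cfsg.Agent.S0245

set_option autoImplicit false
set_option linter.unusedSectionVars false
set_option linter.unusedVariables false

namespace Cfsg.Agent.helper14

open Matrix QuadraticMap Cfsg.Agent.helper13

section cards

variable {F : Type*} [Field F] [Fintype F] {ι : Type} [Fintype ι] [DecidableEq ι]

theorem card_scalars [Nonempty ι] : Nat.card (Cfsg.Geo.scalars ι F) = Fintype.card F - 1 := by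
  have hinj : Function.Injective
      (Units.map (Matrix.scalar ι : F →+* Matrix ι ι F).toMonoidHom) := by
    apply Units.map_injective
    intro a b hab
    exact Matrix.scalar_inj.mp hab
  unfold Cfsg.Geo.scalars
  rw [← Nat.card_congr (MonoidHom.ofInjective hinj).toEquiv, Nat.card_units,
    Nat.card_eq_fintype_card]

theorem card_projQuot [Nonempty ι] (H : Subgroup (GL ι F)) (hH : Cfsg.Geo.scalars ι F ≤ H) :
    Nat.card (Cfsg.projQuot H) * (Fintype.card F - 1) = Nat.card H := by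
  rw [Subgroup.card_eq_card_quotient_mul_card_subgroup ((Cfsg.Geo.scalars ι F).subgroupOf H),
    Nat.card_congr (Subgroup.subgroupOfEquivOfLe hH).toEquiv, card_scalars]

theorem card_quadSim (Q : QuadraticForm F (ι → F)) (hv : ∃ v, Q v ≠ 0)
    (hs : ∀ l : F, l ≠ 0 → ∃ g : ↥(Cfsg.Geo.quadSimilarityGroup (⇑Q)),
      ((muFun Q g : Fˣ) : F) = l) :
    Nat.card ↥(Cfsg.Geo.quadSimilarityGroup (⇑Q)) =
      (Fintype.card F - 1) * Nat.card ↥(Cfsg.isometryGroup F (⇑Q)) := by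
  have hsurj : Function.Surjective (muHom Q hv) := by
    intro u
    obtain ⟨g, hg⟩ := hs (u : F) u.ne_zero
    exact ⟨g, Units.ext hg⟩
  have e : ↥(Cfsg.isometryGroup F (⇑Q)) ≃ (muHom Q hv).ker :=
    Equiv.ofBijective (fun h => ⟨⟨(h : GL ι F), iso_le_sim (⇑Q) h.2⟩, by
      rw [MonoidHom.mem_ker, muHom_apply]
      apply Units.ext
      rw [Units.val_one]
      apply muFun_unique Q hv
      intro v
      rw [one_mul]
      exact (mem_iso_iff (⇑Q) _).mp h.2 v⟩) (by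
      constructor
      · intro h h' hh
        apply Subtype.ext
        have := congrArg (fun z : (muHom Q hv).ker => ((z : ↥(Cfsg.Geo.quadSimilarityGroup (⇑Q))) : GL ι F)) hh
        exact this
      · rintro ⟨g, hg⟩
        rw [MonoidHom.mem_ker, muHom_apply] at hg
        refine ⟨⟨(g : GL ι F), ?_⟩, ?_⟩
        · rw [mem_iso_iff]
          intro v
          rw [muFun_spec Q g v, hg, Units.val_one, one_mul]
        · rfl)
  rw [Subgroup.card_eq_card_quotient_mul_card_subgroup (muHom Q hv).ker,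
    Nat.card_congr (QuotientGroup.quotientKerEquivOfSurjective _ hsurj).toEquiv,
    Nat.card_units, Nat.card_eq_fintype_card, ← Nat.card_congr e]

theorem scalars_le_quadSim (Q : QuadraticForm F (ι → F)) :
    Cfsg.Geo.scalars ι F ≤ Cfsg.Geo.quadSimilarityGroup (⇑Q) := by
  intro g hg
  rw [Cfsg.Geo.mem_scalars_iff] at hg
  obtain ⟨c, hc⟩ := hg
  have : g = scalGL c := by
    apply Units.ext
    rw [hc, scalGL_val]
  rw [this]
  exact scalGL_mem Q c

theorem card_pgo [Nonempty ι] (Q : QuadraticForm F (ι → F)) (hv : ∃ v, Q v ≠ 0)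
    (hs : ∀ l : F, l ≠ 0 → ∃ g : ↥(Cfsg.Geo.quadSimilarityGroup (⇑Q)),
      ((muFun Q g : Fˣ) : F) = l) :
    Nat.card (Cfsg.PGO F (⇑Q)) = Nat.card ↥(Cfsg.isometryGroup F (⇑Q)) := by
  have h1 := card_projQuot (Cfsg.Geo.quadSimilarityGroup (⇑Q)) (scalars_le_quadSim Q)
  rw [card_quadSim Q hv hs] at h1
  have hpos : 0 < Fintype.card F - 1 := by
    have := Fintype.one_lt_card (α := F)
    omega
  apply Nat.eq_of_mul_eq_mul_left hpos
  rw [← h1]
  ring

end cards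

section orders

variable {F : Type*} [Field F] [Fintype F]

open Cfsg.Agent.helper14.SpAut in
theorem scalars_le_GSp (m : ℕ) : Cfsg.Geo.scalars (Fin m ⊕ Fin m) F ≤ Cfsg.GSp m F := by
  intro g hg
  rw [Cfsg.Geo.mem_scalars_iff] at hg
  obtain ⟨c, hc⟩ := hg
  have : g = ((scalG c : ↥(Cfsg.GSp m F)) : GL (Fin m ⊕ Fin m) F) := by
    apply Units.ext
    rw [hc]
    exact (scalar_val c).symm
  rw [this]
  exact (scalG c).2

open Cfsg.Agent.helper14.SpAut in
theorem card_pgsp {m : ℕ} (hm : 1 ≤ m) :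
    Nat.card (Cfsg.PGSp m F) = Nat.card (Matrix.symplecticGroup (Fin m) F) := by
  haveI : Nonempty (Fin m ⊕ Fin m) := ⟨Sum.inl ⟨0, hm⟩⟩
  have h1 := card_projQuot (Cfsg.GSp m F) (scalars_le_GSp m)
  rw [card_GSp hm] at h1
  have hpos : 0 < Fintype.card F - 1 := by
    have := Fintype.one_lt_card (α := F)
    omega
  apply Nat.eq_of_mul_eq_mul_left hpos
  rw [← h1]
  ring

theorem card_pgo_plus (k : ℕ) :
    Nat.card (Cfsg.PGO F (Cfsg.quadFormPlus (k + 1) F)) =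
      2 * Fintype.card F ^ ((k + 1) * k) * (Fintype.card F ^ (k + 1) - 1) *
        ∏ i ∈ Finset.range k, (Fintype.card F ^ (2 * (i + 1)) - 1) := by
  haveI : Nonempty (Fin (k + 1) ⊕ Fin (k + 1)) := ⟨Sum.inl 0⟩
  rw [← card_plus k, ← QPlus_coe]
  apply card_pgo
  · refine ⟨Pi.single (Sum.inl 0) 1 + Pi.single (Sum.inr 0) 1, ?_⟩
    rw [QPlus_apply]
    unfold Cfsg.quadFormPlus
    rw [Finset.sum_eq_single (0 : Fin (k + 1))]
    · simp
    · intro j _ hj
      simp [Pi.single_apply, hj]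
    · intro h
      exact absurd (Finset.mem_univ _) h
  · intro l hl
    exact exists_sim_plus (k + 1) (by omega) l hl

theorem card_pgo_minus (h2 : (2 : F) ≠ 0) (k : ℕ) (a b : F)
    (hab : ∀ z₁ z₂ : F, z₁ ^ 2 + a * z₁ * z₂ + b * z₂ ^ 2 = 0 → z₁ = 0 ∧ z₂ = 0)
    (hD : 4 * b - a ^ 2 ≠ 0) :
    Nat.card (Cfsg.PGO F (Cfsg.quadFormMinus k F a b)) =
      2 * Fintype.card F ^ ((k + 1) * k) * (Fintype.card F ^ (k + 1) + 1) *
        ∏ i ∈ Finset.range k, (Fintype.card F ^ (2 * (i + 1)) - 1) := by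
  haveI : Nonempty ((Fin k ⊕ Fin k) ⊕ Fin 2) := ⟨Sum.inr 0⟩
  rw [← card_minus k a b hab, ← QMinus_coe]
  apply card_pgo
  · refine ⟨Pi.single (Sum.inr 0) 1, ?_⟩
    rw [QMinus_apply, quadFormMinus_single_zero]
    exact one_ne_zero
  · intro l hl
    exact exists_sim_minus h2 k a b hD l hl

theorem card_sp_succ (k : ℕ) :
    Nat.card (Matrix.symplecticGroup (Fin (k + 1)) F) =
      Fintype.card F ^ ((k + 1) * k) * Fintype.card F ^ (k + 1) *
        ((∏ i ∈ Finset.range k, (Fintype.card F ^ (2 * (i + 1)) - 1)) *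
          (Fintype.card F ^ (k + 1) * Fintype.card F ^ (k + 1) - 1)) := by
  rw [Cfsg.Agent.S0245.result (F := F) rfl (k + 1), Finset.prod_range_succ]
  congr 1
  · rw [← pow_add]
    congr 1
    ring
  · congr 2
    rw [← pow_add]
    congr 1
    ring

theorem prod_pos_aux (k : ℕ) :
    0 < ∏ i ∈ Finset.range k, (Fintype.card F ^ (2 * (i + 1)) - 1) := by
  apply Finset.prod_pos
  intro i _
  have h1 : 1 < Fintype.card F := Fintype.one_lt_card
  have h2 : 1 < Fintype.card F ^ (2 * (i + 1)) := Nat.one_lt_pow (by omega) h1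
  omega

theorem pgsp_card_ne_plus (hq : 3 ≤ Fintype.card F) (k : ℕ) :
    Nat.card (Cfsg.PGSp (k + 1) F) ≠ Nat.card (Cfsg.PGO F (Cfsg.quadFormPlus (k + 1) F)) := by
  rw [card_pgsp (by omega), card_sp_succ, card_pgo_plus]
  obtain ⟨A, hA⟩ : ∃ A, A = Fintype.card F ^ ((k + 1) * k) := ⟨_, rfl⟩
  obtain ⟨P, hP⟩ : ∃ P, P = ∏ i ∈ Finset.range k, (Fintype.card F ^ (2 * (i + 1)) - 1) :=
    ⟨_, rfl⟩
  have hPpos : 0 < P := by rw [hP]; exact prod_pos_aux k
  have hApos : 0 < A := by rw [hA]; exact Nat.pow_pos (by omega)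
  have hx : 3 ≤ Fintype.card F ^ (k + 1) := by
    calc 3 ≤ Fintype.card F := hq
      _ = Fintype.card F ^ 1 := (pow_one _).symm
      _ ≤ Fintype.card F ^ (k + 1) := Nat.pow_le_pow_right (by omega) (by omega)
  obtain ⟨y, hy⟩ : ∃ y, Fintype.card F ^ (k + 1) = y + 1 := ⟨_, (Nat.succ_pred_eq_of_pos (by omega)).symm⟩
  rw [← hA, ← hP, hy]
  have hy2 : 2 ≤ y := by omega
  have e1 : y + 1 - 1 = y := by omega
  have e2 : (y + 1) * (y + 1) - 1 = y * (y + 2) := by
    have : (y + 1) * (y + 1) = y * (y + 2) + 1 := by ring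
    rw [this]
    exact Nat.add_sub_cancel _ _
  rw [e1, e2]
  intro h
  have h3 : (A * P * y) * ((y + 1) * (y + 2)) = (A * P * y) * 2 := by
    linear_combination h
  have h4 := Nat.eq_of_mul_eq_mul_left (by positivity) h3
  nlinarith

theorem pgsp_card_ne_minus (h2 : (2 : F) ≠ 0) (hq : 3 ≤ Fintype.card F) (k : ℕ) (a b : F)
    (hab : ∀ z₁ z₂ : F, z₁ ^ 2 + a * z₁ * z₂ + b * z₂ ^ 2 = 0 → z₁ = 0 ∧ z₂ = 0)
    (hD : 4 * b - a ^ 2 ≠ 0) :
    Nat.card (Cfsg.PGSp (k + 1) F) ≠ Nat.card (Cfsg.PGO F (Cfsg.quadFormMinus k F a b)) := by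
  rw [card_pgsp (by omega), card_sp_succ, card_pgo_minus h2 k a b hab hD]
  obtain ⟨A, hA⟩ : ∃ A, A = Fintype.card F ^ ((k + 1) * k) := ⟨_, rfl⟩
  obtain ⟨P, hP⟩ : ∃ P, P = ∏ i ∈ Finset.range k, (Fintype.card F ^ (2 * (i + 1)) - 1) :=
    ⟨_, rfl⟩
  have hPpos : 0 < P := by rw [hP]; exact prod_pos_aux k
  have hApos : 0 < A := by rw [hA]; exact Nat.pow_pos (by omega)
  have hx : 3 ≤ Fintype.card F ^ (k + 1) := by
    calc 3 ≤ Fintype.card F := hq
      _ = Fintype.card F ^ 1 := (pow_one _).symm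
      _ ≤ Fintype.card F ^ (k + 1) := Nat.pow_le_pow_right (by omega) (by omega)
  obtain ⟨y, hy⟩ : ∃ y, Fintype.card F ^ (k + 1) = y + 1 := ⟨_, (Nat.succ_pred_eq_of_pos (by omega)).symm⟩
  rw [← hA, ← hP, hy]
  have hy2 : 2 ≤ y := by omega
  have e2 : (y + 1) * (y + 1) - 1 = y * (y + 2) := by
    have : (y + 1) * (y + 1) = y * (y + 2) + 1 := by ring
    rw [this]
    exact Nat.add_sub_cancel _ _
  rw [e2]
  intro h
  have h3 : (A * P * (y + 2)) * ((y + 1) * y) = (A * P * (y + 2)) * 2 := by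
    linear_combination h
  have h4 := Nat.eq_of_mul_eq_mul_left (by positivity) h3
  nlinarith

end orders

end Cfsg.Agent.helper14

namespace Cfsg.Agent.helper14

open Matrix QuadraticMap Cfsg.Agent.helper13 Module

section final

variable {F : Type*} [Field F] {n : ℕ}

theorem sim_bilM_eq_quadSim (h2 : (2 : F) ≠ 0) (M : Matrix (Fin n) (Fin n) F) (hM : Mᵀ = M) :
    Cfsg.Geo.similarityGroup (bilM M) = Cfsg.Geo.quadSimilarityGroup (⇑(QM M)) := by
  ext g
  constructor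
  · rintro ⟨c, hc⟩
    exact ⟨c, fun v => by rw [QM_apply, QM_apply, hc]⟩
  · rintro ⟨c, hc⟩
    exact sim_of_quad h2 M hM g c hc

theorem three_le_card [Fintype F] (h2 : (2 : F) ≠ 0) : 3 ≤ Fintype.card F := by
  have h1 : 1 < Fintype.card F := Fintype.one_lt_card
  by_contra hcon
  have h3 : Fintype.card F = 2 := by omega
  apply h2
  have := Nat.cast_card_eq_zero F
  rw [h3] at this
  exact_mod_cast this

theorem not_pgsp_of_symm [Fintype F] (h2 : (2 : F) ≠ 0) {m : ℕ} (hm : 1 ≤ m) (hnm : n = 2 * m)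
    (M : GL (Fin n) F)
    (hM : (M : Matrix (Fin n) (Fin n) F)ᵀ = (M : Matrix (Fin n) (Fin n) F)) :
    ¬ Nonempty (↥(Cfsg.inndiagPSL n F ⊓ Subgroup.centralizer {gam M}) ≃* Cfsg.PGSp m F) := by
  classical
  have hq := three_le_card h2
  have hQn := QM_nondeg h2 M hM
  obtain ⟨e₁⟩ := centralizer_gam_iso M
  rw [sim_bilM_eq_quadSim h2 _ hM] at e₁
  have hV : finrank F (Fin n → F) = 2 * m := by
    rw [Module.finrank_fin_fun]
    exact hnm
  obtain ⟨k, rfl⟩ : ∃ k, m = k + 1 := ⟨m - 1, by omega⟩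
  rcases classify_even hm hV (QM (M : Matrix (Fin n) (Fin n) F)) hQn with
    ⟨g, hg⟩ | ⟨ζ, hζ, g, hg⟩
  · obtain ⟨e₂⟩ := pgo_transfer_lin (⇑(QM (M : Matrix (Fin n) (Fin n) F)))
      (Cfsg.quadFormPlus (k + 1) F) g hg
    rintro ⟨e⟩
    have hc : Nat.card (Cfsg.PGSp (k + 1) F) =
        Nat.card (Cfsg.PGO F (Cfsg.quadFormPlus (k + 1) F)) :=
      Nat.card_congr ((e.symm.trans e₁).trans e₂).toEquiv
    exact pgsp_card_ne_plus hq k hc
  · have g' : (Fin n → F) ≃ₗ[F] ((Fin k ⊕ Fin k) ⊕ Fin 2 → F) := g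
    have hg' : ∀ v, QM (M : Matrix (Fin n) (Fin n) F) v = Cfsg.quadFormMinus k F 1 ζ (g v) := hg
    obtain ⟨e₂⟩ := pgo_transfer_lin (κ := (Fin k ⊕ Fin k) ⊕ Fin 2)
      (⇑(QM (M : Matrix (Fin n) (Fin n) F)))
      (Cfsg.quadFormMinus k F 1 ζ) g hg'
    rintro ⟨e⟩
    have hc : Nat.card (Cfsg.PGSp (k + 1) F) =
        Nat.card (Cfsg.PGO F (Cfsg.quadFormMinus k F 1 ζ)) :=
      Nat.card_congr ((e.symm.trans e₁).trans e₂).toEquiv
    have hac : ∀ z₁ z₂ : F, z₁ ^ 2 + 1 * z₁ * z₂ + ζ * z₂ ^ 2 = 0 → z₁ = 0 ∧ z₂ = 0 := by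
      intro z₁ z₂ hz
      by_cases hz₂ : z₂ = 0
      · subst hz₂
        refine ⟨?_, rfl⟩
        have : z₁ ^ 2 = 0 := by linear_combination hz
        exact pow_eq_zero_iff (two_ne_zero) |>.mp this
      · exfalso
        apply hζ (z₁ / z₂)
        field_simp
        linear_combination hz
    have hD : 4 * ζ - 1 ^ 2 ≠ 0 := by
      intro h
      apply hζ (-(2⁻¹))
      field_simp
      linear_combination h
    exact pgsp_card_ne_minus h2 hq k 1 ζ hac hD hc

end final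

end Cfsg.Agent.helper14
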