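import Mathlib
import Cfsg.Prelude.Def_LieTypeDatum
import Cfsg.Agent.Lib_helper13_ClassChar
import Cfsg.Agent.Lib_helper13_ReflG
import Cfsg.Agent.Lib_helper13_ReflF
import Cfsg.Agent.Lib_helper13_AutO4

/-! Similarities preserving the two classes of maximal totally singular subspaces: the criterion
`det g = det d` for a similarity `d` with the same multiplier that fixes one maximal totally
singular subspace. -/

set_option autoImplicit false

namespace Cfsg.Agent.helper14

open Matrix QuadraticMap Module Cfsg.Agent.helper13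

section innA
variable {F : Type*} [Field F] {ι : Type} [Fintype ι] [DecidableEq ι]
variable (Q : QuadraticForm F (ι → F))

theorem ts_finrank_le (hnd : (polarBilin Q).Nondegenerate) {m : ℕ}
    (hV : finrank F (ι → F) = 2 * m) {W : Submodule F (ι → F)} (hW : TS Q W) :
    finrank F W ≤ m := by
  have h1 := Submodule.finrank_mono hW.le_orth
  rw [LinearMap.BilinForm.finrank_orthogonal hnd, hV] at h1
  have h2 : finrank F W ≤ 2 * m := by rw [← hV]; exact Submodule.finrank_le _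
  omega

theorem isMax_iff_mts (hnd : (polarBilin Q).Nondegenerate) {m : ℕ}
    (hV : finrank F (ι → F) = 2 * m) {U₀ : Submodule F (ι → F)} (hU₀ : MTS Q m U₀)
    (U : Submodule F (ι → F)) :
    Cfsg.IsMaxTotallySingular (⇑Q) U ↔ MTS Q m U := by
  constructor
  · rintro ⟨hts, hmax⟩
    have hU : TS Q U := hts
    refine ⟨hU, ?_⟩
    have hk := ts_finrank_le Q hnd hV hU
    have hWts : TS Q ((U₀ ⊓ orthQ Q U) ⊔ U) := by
      apply TS.sup (hU₀.ts.mono inf_le_left) hU
      intro u hu v hv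
      have := (mem_orth_iff Q U u).mp (Submodule.mem_inf.mp hu).2 v hv
      rw [polar_comm]
      exact this
    have hWU : (U₀ ⊓ orthQ Q U) ⊔ U = U := hmax _ hWts le_sup_right
    have hle : U₀ ⊓ orthQ Q U ≤ U₀ ⊓ U :=
      le_inf inf_le_left (le_trans le_sup_left (le_of_eq hWU))
    have h1 : U₀ ⊓ orthQ Q U = orthQ Q (U₀ ⊔ U) := by
      rw [orth_sup, hU₀.orth_eq hnd hV]
    have h2 := Submodule.finrank_mono hle
    rw [h1, LinearMap.BilinForm.finrank_orthogonal hnd, hV] at h2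
    have h3 := Submodule.finrank_sup_add_finrank_inf_eq U₀ U
    rw [hU₀.rk] at h3
    have h4 : finrank F ↥(U₀ ⊔ U) ≤ 2 * m := by rw [← hV]; exact Submodule.finrank_le _
    omega
  · intro hU
    refine ⟨hU.ts, fun W hW hle => ?_⟩
    have hWts : TS Q W := hW
    symm
    apply Submodule.eq_of_le_of_finrank_le hle
    rw [hU.rk]
    exact ts_finrank_le Q hnd hV hWts

theorem parity_map_indep (hnd : (polarBilin Q).Nondegenerate) {m : ℕ}
    (hV : finrank F (ι → F) = 2 * m) (f : (ι → F) →ₗ[F] (ι → F)) (hf : Function.Injective f)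
    (hmts : ∀ U, MTS Q m U → MTS Q m (U.map f)) (U W : Submodule F (ι → F))
    (hU : MTS Q m U) (hW : MTS Q m W) :
    Even (m - finrank F ↥(U ⊓ U.map f)) ↔ Even (m - finrank F ↥(W ⊓ W.map f)) := by
  have p1 := parity hnd hV U W (U.map f) hU hW (hmts U hU)
  have p2 := parity hnd hV W (W.map f) (U.map f) hW (hmts W hW) (hmts U hU)
  have e : finrank F ↥(W.map f ⊓ U.map f) = finrank F ↥(U ⊓ W) := by
    rw [← Submodule.map_inf f hf, inf_comm W U]
    exact (LinearEquiv.finrank_eq (Submodule.equivMapOfInjective f hf _)).symm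
  rw [e] at p2
  rw [Nat.even_iff] at p1 p2
  rw [Nat.even_iff, Nat.even_iff]
  omega

theorem toLin'_gl_injective (g : GL ι F) :
    Function.Injective (Matrix.toLin' (g : Matrix ι ι F)) := by
  intro x y h
  have := congrArg (Matrix.toLin' ((g⁻¹ : GL ι F) : Matrix ι ι F)) h
  simpa [Matrix.toLin'_apply, Matrix.mulVec_mulVec] using this

theorem sim_map_mts {m : ℕ} (g : ↥(Cfsg.Geo.quadSimilarityGroup (⇑Q)))
    {U : Submodule F (ι → F)} (hU : MTS Q m U) :
    MTS Q m (U.map (Matrix.toLin' ((g : GL ι F) : Matrix ι ι F))) := by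
  constructor
  · rintro x ⟨u, hu, rfl⟩
    rw [Matrix.toLin'_apply, muFun_spec, hU.ts u hu, mul_zero]
  · rw [← hU.rk]
    exact (LinearEquiv.finrank_eq
      (Submodule.equivMapOfInjective _ (toLin'_gl_injective _) U)).symm

theorem preserves_iff (hnd : (polarBilin Q).Nondegenerate) {m : ℕ}
    (hV : finrank F (ι → F) = 2 * m) {U₀ : Submodule F (ι → F)} (hU₀ : MTS Q m U₀)
    (g : ↥(Cfsg.Geo.quadSimilarityGroup (⇑Q))) :
    Cfsg.PreservesSingularClasses (⇑Q) ((g : GL ι F) : Matrix ι ι F) ↔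
      Even (m - finrank F ↥(U₀ ⊓ U₀.map (Matrix.toLin' ((g : GL ι F) : Matrix ι ι F)))) := by
  constructor
  · intro h
    have := h U₀ ((isMax_iff_mts Q hnd hV hU₀ U₀).mpr hU₀)
    unfold Cfsg.SameParityClass Cfsg.imageSubmodule at this
    rwa [hU₀.rk] at this
  · intro h U hU
    have hU' := (isMax_iff_mts Q hnd hV hU₀ U).mp hU
    unfold Cfsg.SameParityClass Cfsg.imageSubmodule
    rw [hU'.rk]
    exact (parity_map_indep Q hnd hV _ (toLin'_gl_injective _)
      (fun W hW => sim_map_mts Q g hW) U U₀ hU' hU₀).mpr h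

theorem even_iff_det_one (h2 : (2 : F) ≠ 0) (hnd : (polarBilin Q).Nondegenerate) {m : ℕ}
    (hV : finrank F (ι → F) = 2 * m) {U₀ : Submodule F (ι → F)} (hU₀ : MTS Q m U₀)
    (s : ↥(Cfsg.isometryGroup F ⇑Q)) :
    Even (m - finrank F ↥(U₀ ⊓ gmap s U₀)) ↔ ((s : GL ι F) : Matrix ι ι F).det = 1 := by
  obtain ⟨δ, hδ, hδ'⟩ := exists_detSign Q h2 hnd
  have e : δ = clsChar Q hnd hV U₀ hU₀ := by
    apply hom_ext_reflG Q h2 hnd
    intro w hw
    rw [hδ w hw, clsChar_reflG]
  rw [← hδ' s, e, clsChar_apply]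
  exact (neg_one_pow_eq_one_iff_even int_units_neg_one_ne_one).symm

theorem preserves_iff_det (h2 : (2 : F) ≠ 0) (hnd : (polarBilin Q).Nondegenerate) {m : ℕ}
    (hV : finrank F (ι → F) = 2 * m) {U₀ : Submodule F (ι → F)} (hU₀ : MTS Q m U₀)
    (hv : ∃ v, Q v ≠ 0) (g d : ↥(Cfsg.Geo.quadSimilarityGroup (⇑Q)))
    (hd : muFun Q d = muFun Q g)
    (hdU : U₀.map (Matrix.toLin' ((d : GL ι F) : Matrix ι ι F)) = U₀) :
    Cfsg.PreservesSingularClasses (⇑Q) ((g : GL ι F) : Matrix ι ι F) ↔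
      ((g : GL ι F) : Matrix ι ι F).det = ((d : GL ι F) : Matrix ι ι F).det := by
  rw [preserves_iff Q hnd hV hU₀ g]
  have hmu : muFun Q (g * d⁻¹) = 1 := by
    have := map_mul (muHom Q hv) g d⁻¹
    rw [map_inv] at this
    simp only [muHom_apply] at this
    rw [this, hd, mul_inv_cancel]
  have hs : ((g * d⁻¹ : ↥(Cfsg.Geo.quadSimilarityGroup (⇑Q))) : GL ι F) ∈
      Cfsg.isometryGroup F ⇑Q := by
    rw [mem_iso_iff]
    intro v
    have := muFun_spec Q (g * d⁻¹) v
    rw [hmu, Units.val_one, one_mul] at this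
    exact this
  obtain ⟨s, hsdef⟩ : ∃ s : ↥(Cfsg.isometryGroup F ⇑Q),
      (s : GL ι F) = ((g * d⁻¹ : ↥(Cfsg.Geo.quadSimilarityGroup (⇑Q))) : GL ι F) :=
    ⟨⟨_, hs⟩, rfl⟩
  have hg : ((g : GL ι F) : Matrix ι ι F) =
      ((s : GL ι F) : Matrix ι ι F) * ((d : GL ι F) : Matrix ι ι F) := by
    rw [hsdef, ← Units.val_mul]
    congr 1
    show (g : GL ι F) = (g : GL ι F) * (d : GL ι F)⁻¹ * (d : GL ι F)
    rw [inv_mul_cancel_right]
  have hmap : U₀.map (Matrix.toLin' ((g : GL ι F) : Matrix ι ι F)) = gmap s U₀ := by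
    rw [hg, Matrix.toLin'_mul, Submodule.map_comp, hdU]
    rfl
  rw [hmap, even_iff_det_one Q h2 hnd hV hU₀ s, hg, Matrix.det_mul]
  have hd0 : ((d : GL ι F) : Matrix ι ι F).det ≠ 0 := by
    have := (Matrix.isUnit_iff_isUnit_det _).mp (Units.isUnit (d : GL ι F))
    exact this.ne_zero
  constructor
  · intro h
    rw [h, one_mul]
  · intro h
    exact mul_right_cancel₀ hd0 (h.trans (one_mul _).symm)

end innA

end Cfsg.Agent.helper14
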