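import Mathlib
import Cfsg.Agent.Lib_helper14_InnDiagA
import Cfsg.Agent.Lib_helper13_AutO5
import Cfsg.Agent.Lib_helper13_AutO6
import Cfsg.Agent.Lib_helper13_MaxTS2

/-! Plus type: a similarity of the hyperbolic form preserves the two classes of maximal totally
singular subspaces exactly when `det g = μ(g)^m`. -/

set_option autoImplicit false

namespace Cfsg.Agent.helper14

open Matrix QuadraticMap Module Cfsg.Agent.helper13

section plusB
variable {F : Type*} [Field F]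

theorem exists_QPlus_ne (m : ℕ) (hm : 1 ≤ m) : ∃ v, QPlus F m v ≠ 0 := by
  refine ⟨Pi.single (Sum.inl ⟨0, hm⟩) 1 + Pi.single (Sum.inr ⟨0, hm⟩) 1, ?_⟩
  rw [QPlus_apply]
  unfold Cfsg.quadFormPlus
  rw [Finset.sum_eq_single ⟨0, hm⟩]
  · simp
  · intro j _ hj
    simp [hj]
  · intro h
    exact absurd (Finset.mem_univ _) h

theorem det_dPlus (m : ℕ) (l : F) : (Matrix.diagonal (dPlus m l)).det = l ^ m := by
  rw [Matrix.det_diagonal, Fintype.prod_sum_type]
  simp [dPlus]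

theorem dPlus_val (m : ℕ) (l : F) (v : Fin m ⊕ Fin m → F) :
    QPlus F m ((Matrix.diagonal (dPlus m l)) *ᵥ v) = l * QPlus F m v := by
  rw [QPlus_apply, QPlus_apply]
  unfold Cfsg.quadFormPlus
  rw [Finset.mul_sum]
  apply Finset.sum_congr rfl
  intro i _
  rw [Matrix.mulVec_diagonal, Matrix.mulVec_diagonal]
  simp only [dPlus, Sum.elim_inl, Sum.elim_inr]
  ring

/-- the diagonal similarity `diag(l, …, l, 1, …, 1)` of the hyperbolic form -/
noncomputable def dSimPlus (m : ℕ) (l : Fˣ) : ↥(Cfsg.Geo.quadSimilarityGroup (⇑(QPlus F m))) :=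
  ⟨Matrix.GeneralLinearGroup.mkOfDetNeZero (Matrix.diagonal (dPlus m (l : F)))
      (by rw [det_dPlus]; exact pow_ne_zero _ (Units.ne_zero l)),
    ⟨l, dPlus_val m (l : F)⟩⟩

theorem dSimPlus_coe (m : ℕ) (l : Fˣ) :
    (((dSimPlus m l : ↥(Cfsg.Geo.quadSimilarityGroup (⇑(QPlus F m)))) : GL (Fin m ⊕ Fin m) F) :
      Matrix (Fin m ⊕ Fin m) (Fin m ⊕ Fin m) F) = Matrix.diagonal (dPlus m (l : F)) := rfl

theorem muFun_dSimPlus (m : ℕ) (hm : 1 ≤ m) (l : Fˣ) :
    muFun (QPlus F m) (dSimPlus m l) = l := by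
  apply Units.ext
  apply muFun_unique _ (exists_QPlus_ne m hm)
  intro v
  rw [dSimPlus_coe]
  exact dPlus_val m (l : F) v

theorem det_dSimPlus (m : ℕ) (l : Fˣ) :
    (((dSimPlus m l : ↥(Cfsg.Geo.quadSimilarityGroup (⇑(QPlus F m)))) : GL (Fin m ⊕ Fin m) F) :
      Matrix (Fin m ⊕ Fin m) (Fin m ⊕ Fin m) F).det = (l : F) ^ m := by
  rw [dSimPlus_coe, det_dPlus]

theorem dSimPlus_fix (m : ℕ) (l : Fˣ) :
    (LinearMap.range (inlMap F m)).map (Matrix.toLin'
      (((dSimPlus m l : ↥(Cfsg.Geo.quadSimilarityGroup (⇑(QPlus F m)))) :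
        GL (Fin m ⊕ Fin m) F) : Matrix (Fin m ⊕ Fin m) (Fin m ⊕ Fin m) F)) =
      LinearMap.range (inlMap F m) := by
  apply Submodule.eq_of_le_of_finrank_eq
  · rintro x ⟨u, ⟨a, rfl⟩, rfl⟩
    refine ⟨(l : F) • a, ?_⟩
    rw [Matrix.toLin'_apply, dSimPlus_coe]
    funext i
    rw [Matrix.mulVec_diagonal]
    rcases i with i | i
    · simp [inlMap, dPlus]
    · simp [inlMap, dPlus]
  · exact (LinearEquiv.finrank_eq
      (Submodule.equivMapOfInjective _ (toLin'_gl_injective _) _)).symm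

end plusB

section plusB2
variable {F : Type*} [Field F] [Fintype F] [DecidableEq F]

theorem preserves_plus_iff (h2 : (2 : F) ≠ 0) (m : ℕ) (hm : 1 ≤ m)
    (hv : ∃ v, QPlus F m v ≠ 0)
    (g : ↥(Cfsg.Geo.quadSimilarityGroup (⇑(QPlus F m)))) :
    Cfsg.PreservesSingularClasses (⇑(QPlus F m))
        ((g : GL (Fin m ⊕ Fin m) F) : Matrix (Fin m ⊕ Fin m) (Fin m ⊕ Fin m) F) ↔
      epsHom (QPlus F m) hv m g = 1 := by
  rw [preserves_iff_det (QPlus F m) h2 (QPlus_nondeg m) (finrank_plus_space F m) (stdU_mts F m)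
    hv g (dSimPlus m (muFun (QPlus F m) g)) (muFun_dSimPlus m hm _) (dSimPlus_fix m _),
    det_dSimPlus, epsHom_eq_one_iff]

end plusB2

end Cfsg.Agent.helper14
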