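import Mathlib

/-! Abstract group lemmas for quotients of small order. -/

set_option autoImplicit false

namespace Cfsg.Agent.helper14

section absC

theorem exists_quot_hom {A C : Type*} [Group A] [Group C] (I J : Subgroup A) [J.Normal]
    (e : (↥I ⧸ J.subgroupOf I) ≃* C) :
    ∃ φ : ↥I →* C, Function.Surjective φ ∧ φ.ker = J.subgroupOf I := by
  refine ⟨e.toMonoidHom.comp (QuotientGroup.mk' (J.subgroupOf I)), ?_, ?_⟩
  · exact e.surjective.comp (QuotientGroup.mk'_surjective _)
  · ext b
    rw [MonoidHom.mem_ker, MonoidHom.comp_apply]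
    show e (QuotientGroup.mk b) = 1 ↔ _
    rw [MulEquiv.map_eq_one_iff, QuotientGroup.eq_one_iff]

theorem relIndex_map_ker_eq_two {N A : Type*} [Group N] [Group A] (Φ : N →* A) (T : N →* ℤˣ)
    (hker : Φ.ker ≤ T.ker) (r : N) (hr : T r = -1) : (T.ker.map Φ).relIndex Φ.range = 2 := by
  have key : ∀ x : N, Φ x ∈ T.ker.map Φ ↔ T x = 1 := by
    intro x
    constructor
    · rintro ⟨k, hk, hkx⟩
      have h1 : k⁻¹ * x ∈ Φ.ker := by
        rw [MonoidHom.mem_ker, map_mul, map_inv, hkx, inv_mul_cancel]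
      have h3 := hker h1
      rw [MonoidHom.mem_ker, map_mul, map_inv, MonoidHom.mem_ker.mp hk, inv_one, one_mul] at h3
      exact h3
    · intro h
      exact ⟨x, h, rfl⟩
  rw [Subgroup.relIndex_eq_two_iff]
  refine ⟨Φ r, ⟨r, rfl⟩, ?_⟩
  rintro b ⟨g, rfl⟩
  rw [← map_mul, key, key, map_mul, hr]
  rcases Int.units_eq_one_or (T g) with h | h <;> rw [h] <;> decide

theorem card_multiplicative_zmod (n : ℕ) [NeZero n] : Nat.card (Multiplicative (ZMod n)) = n := by
  rw [Nat.card_eq_fintype_card, Fintype.card_multiplicative, ZMod.card]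

theorem iso_zmod2_of_card {E : Type*} [Group E] (hE : Nat.card E = 2) :
    Nonempty (E ≃* Multiplicative (ZMod 2)) :=
  ⟨mulEquivOfPrimeCardEq (p := 2) hE (card_multiplicative_zmod 2)⟩

theorem iso_zmod4_of_card {E : Type*} [Group E] (hE : Nat.card E = 4) (x : E)
    (hx : x * x ≠ 1) : Nonempty (E ≃* Multiplicative (ZMod 4)) := by
  haveI : Finite E := Nat.finite_of_card_ne_zero (by rw [hE]; norm_num)
  have h4 : x ^ 4 = 1 := by
    rw [← hE]
    exact pow_card_eq_one'
  have ho : orderOf x = 4 := by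
    have := orderOf_eq_prime_pow (p := 2) (n := 1) (x := x) (by simpa [pow_two] using hx)
      (by norm_num; exact h4)
    simpa using this
  haveI : IsCyclic E := isCyclic_of_orderOf_eq_card x (by rw [ho, hE])
  exact ⟨mulEquivOfCyclicCardEq (by rw [hE, card_multiplicative_zmod 4])⟩

theorem iso_klein_of_card {E : Type*} [Group E] (hE : Nat.card E = 4)
    (hx : ∀ x : E, x * x = 1) : Nonempty (E ≃* Multiplicative (ZMod 2 × ZMod 2)) := by
  haveI : Finite E := Nat.finite_of_card_ne_zero (by rw [hE]; norm_num)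
  have hdvd : Monoid.exponent E ∣ 2 := by
    apply Monoid.exponent_dvd_of_forall_pow_eq_one
    intro g
    rw [pow_two]
    exact hx g
  have hne : Monoid.exponent E ≠ 1 := by
    intro h1
    have : Subsingleton E := Monoid.exp_eq_one_iff.mp h1
    have := Nat.card_of_subsingleton (1 : E)
    omega
  have h2 : Monoid.exponent E = 2 := by
    rcases (Nat.dvd_prime Nat.prime_two).mp hdvd with h | h
    · exact absurd h hne
    · exact h
  haveI : IsKleinFour E := ⟨hE, h2⟩
  exact IsKleinFour.nonempty_mulEquiv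

end absC

end Cfsg.Agent.helper14
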