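import Mathlib
import Cfsg.Agent.Lib_helper14_InnDiagC
import Cfsg.Agent.Lib_helper13_AutO8

/-! The image in `Aut(PΩ)` of the similarities with `det g = μ(g)^m'`, modulo the inner
automorphisms: cyclic of order 2 or 4, or a four-group. -/

set_option autoImplicit false

namespace Cfsg.Agent.helper14

open Matrix QuadraticMap Module Cfsg.Agent.helper13

section innD
variable {F : Type*} [Field F] [Fintype F] [DecidableEq F] {ι : Type} [Fintype ι] [DecidableEq ι]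
variable (Q : QuadraticForm F (ι → F))

/-- image in `Aut(PΩ)` of the similarities with `det = μ^m'` -/
noncomputable def innDiagGen (h2 : (2 : F) ≠ 0) (hQ : (polarBilin Q).Nondegenerate)
    (hv : ∃ v, Q v ≠ 0) (m' : ℕ) (hcard : Fintype.card ι = 2 * m') :
    Subgroup (MulAut (Cfsg.POmega F (⇑Q))) :=
  (THom Q h2 hQ hv m' hcard).ker.map (PhiO (⇑Q))

theorem mem_THom_ker (h2 : (2 : F) ≠ 0) (hQ : (polarBilin Q).Nondegenerate)
    (hv : ∃ v, Q v ≠ 0) (m' : ℕ) (hcard : Fintype.card ι = 2 * m')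
    (g : ↥(Cfsg.Geo.quadSimilarityGroup (⇑Q))) :
    g ∈ (THom Q h2 hQ hv m' hcard).ker ↔ epsHom Q hv m' g = 1 := by
  rw [MonoidHom.mem_ker, THom_eq_one_iff]

theorem PhiO_ker_le (h2 : (2 : F) ≠ 0) (hQ : (polarBilin Q).Nondegenerate)
    (hn : 7 ≤ Fintype.card ι) (hv : ∃ v, Q v ≠ 0) (m' : ℕ) (hcard : Fintype.card ι = 2 * m') :
    (PhiO (⇑Q)).ker ≤ (THom Q h2 hQ hv m' hcard).ker := by
  intro g hg
  rw [MonoidHom.mem_ker] at hg
  rw [mem_THom_ker]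
  obtain ⟨c, hc⟩ := scalar_of_PhiO_eq_one Q hQ hn g hg
  have hmu : ((muFun Q g : Fˣ) : F) = c * c := by
    apply muFun_unique Q hv
    intro v
    rw [hc, Matrix.smul_mulVec, Matrix.one_mulVec, QuadraticMap.map_smul, smul_eq_mul]
  rw [epsHom_eq_one_iff, hmu, hc, Matrix.det_smul, Matrix.det_one, mul_one, hcard, pow_mul,
    pow_two]

theorem exists_THom_neg (h2 : (2 : F) ≠ 0) (hQ : (polarBilin Q).Nondegenerate)
    (hn : 7 ≤ Fintype.card ι) (hv : ∃ v, Q v ≠ 0) (m' : ℕ) (hcard : Fintype.card ι = 2 * m') :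
    ∃ r, THom Q h2 hQ hv m' hcard r = -1 := by
  obtain ⟨w, hw1⟩ := exists_Q_eq Q h2 hQ (by omega) 1 one_ne_zero
  have hw : Q w ≠ 0 := by rw [hw1]; exact one_ne_zero
  refine ⟨inclO Q (reflG Q w hw), ?_⟩
  have hrμ : muFun Q (inclO Q (reflG Q w hw)) = 1 := by
    apply Units.ext
    apply muFun_unique Q hv
    intro v
    rw [inclO_coe, Units.val_one, one_mul]
    exact (mem_iso_iff (⇑Q) _).mp (reflG Q w hw).2 v
  have hrε : epsHom Q hv m' (inclO Q (reflG Q w hw)) = -1 := by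
    rw [epsHom_apply, hrμ, one_pow, inv_one, mul_one]
    apply Units.ext
    rw [detSim_val, inclO_coe, det_reflG]
    rfl
  show (if epsHom Q hv m' (inclO Q (reflG Q w hw)) = 1 then (1 : ℤˣ) else -1) = -1
  rw [hrε, if_neg (units_neg_one_ne_one h2)]

theorem pso_le_innDiagGen (h2 : (2 : F) ≠ 0) (hQ : (polarBilin Q).Nondegenerate)
    (hv : ∃ v, Q v ≠ 0) (m' : ℕ) (hcard : Fintype.card ι = 2 * m') :
    Cfsg.psoAut F (⇑Q) ≤ innDiagGen Q h2 hQ hv m' hcard := by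
  rw [psoAut_eq]
  apply Subgroup.map_mono
  intro s hs
  rw [mem_THom_ker]
  exact ((mem_spec_iff Q hv m' s).mp hs).2

theorem innDiagGen_le_pgo (h2 : (2 : F) ≠ 0) (hQ : (polarBilin Q).Nondegenerate)
    (hv : ∃ v, Q v ≠ 0) (m' : ℕ) (hcard : Fintype.card ι = 2 * m') :
    innDiagGen Q h2 hQ hv m' hcard ≤ Cfsg.pgoAut F (⇑Q) := by
  rw [pgoAut_eq]
  exact Subgroup.map_le_range _ _

theorem relIndex_inn_innDiagGen (h2 : (2 : F) ≠ 0) (hQ : (polarBilin Q).Nondegenerate)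
    (hn : 7 ≤ Fintype.card ι) (hv : ∃ v, Q v ≠ 0) (m' : ℕ) (hcard : Fintype.card ι = 2 * m')
    (hsim : ∃ g : ↥(Cfsg.Geo.quadSimilarityGroup (⇑Q)), ¬ IsSquare ((muFun Q g : Fˣ) : F)) :
    (negIso Q ∉ commutator ↥(Cfsg.isometryGroup F ⇑Q) →
      (Cfsg.Inn (Cfsg.POmega F (⇑Q))).relIndex (innDiagGen Q h2 hQ hv m' hcard) = 2) ∧
    (negIso Q ∈ commutator ↥(Cfsg.isometryGroup F ⇑Q) →
      (Cfsg.Inn (Cfsg.POmega F (⇑Q))).relIndex (innDiagGen Q h2 hQ hv m' hcard) = 4) := by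
  have heven : Even (Fintype.card ι) := ⟨m', by rw [hcard]; ring⟩
  have hle1 : Cfsg.Inn (Cfsg.POmega F (⇑Q)) ≤ innDiagGen Q h2 hQ hv m' hcard :=
    le_trans (inn_le_pso Q h2 hQ) (pso_le_innDiagGen Q h2 hQ hv m' hcard)
  have hle2 := innDiagGen_le_pgo Q h2 hQ hv m' hcard
  have hpp : Cfsg.psoAut F (⇑Q) ≤ Cfsg.pgoAut F (⇑Q) := by
    rw [psoAut_eq, pgoAut_eq]
    exact Subgroup.map_le_range _ _
  have h4 := relIndex_pso_pgo Q h2 hQ hn m' hcard hsim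
  have hI2 : (innDiagGen Q h2 hQ hv m' hcard).relIndex (Cfsg.pgoAut F (⇑Q)) = 2 := by
    obtain ⟨r, hr⟩ := exists_THom_neg Q h2 hQ hn hv m' hcard
    rw [pgoAut_eq]
    exact relIndex_map_ker_eq_two (PhiO (⇑Q)) (THom Q h2 hQ hv m' hcard)
      (PhiO_ker_le Q h2 hQ hn hv m' hcard) r hr
  have hmul := Subgroup.relIndex_mul_relIndex _ _ _ hle1 hle2
  have hmul2 := Subgroup.relIndex_mul_relIndex _ _ _ (inn_le_pso Q h2 hQ) hpp
  rw [hI2] at hmul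
  rw [h4] at hmul2
  constructor
  · intro hneg
    have h1 := relIndex_eq_one_of Q h2 hQ hn heven hneg
    rw [h1] at hmul2
    omega
  · intro hneg
    have h1 := relIndex_eq_two_of Q h2 hQ hn hneg
    rw [h1] at hmul2
    omega

theorem card_quot_eq_relIndex {A : Type*} [Group A] (I J : Subgroup A) [J.Normal] :
    Nat.card (↥I ⧸ J.subgroupOf I) = J.relIndex I := by
  rw [← Subgroup.index_eq_card]
  rfl

/-- squares of class-preserving similarities with square multiplier are inner -/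
theorem sq_mem_inn_of_isSquare (h2 : (2 : F) ≠ 0) (hQ : (polarBilin Q).Nondegenerate)
    (hn : 7 ≤ Fintype.card ι) (hv : ∃ v, Q v ≠ 0) (m' : ℕ) (hcard : Fintype.card ι = 2 * m')
    (hneg : negIso Q ∈ commutator ↥(Cfsg.isometryGroup F ⇑Q))
    (g : ↥(Cfsg.Geo.quadSimilarityGroup (⇑Q))) (hε : epsHom Q hv m' g = 1)
    (hsq : IsSquare ((muFun Q g : Fˣ) : F)) :
    PhiO (⇑Q) (g * g) ∈ Cfsg.Inn (Cfsg.POmega F (⇑Q)) := by
  obtain ⟨θ, hθ⟩ := exists_spinor Q h2 hQ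
  obtain ⟨δ, hδ, hδ'⟩ := exists_detSign Q h2 hQ
  have key := PhiO_mem_inn_iff_theta Q h2 hQ hn θ δ hθ hδ hneg
  obtain ⟨c, hc⟩ := hsq
  have hc0 : c ≠ 0 := by
    rintro rfl
    rw [mul_zero] at hc
    exact Units.ne_zero _ hc
  obtain ⟨cu, hcu⟩ : ∃ cu : Fˣ, (cu : F) = c := ⟨Units.mk0 c hc0, rfl⟩
  have hmu : muFun Q g = cu * cu := by
    apply Units.ext
    rw [hc, Units.val_mul, hcu]
  have hmem : scalSim Q cu⁻¹ * g ∈
      (Cfsg.specialIsometryGL F (⇑Q)).subgroupOf (Cfsg.Geo.quadSimilarityGroup (⇑Q)) := by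
    rw [mem_spec_iff Q hv m']
    constructor
    · have := map_mul (muHom Q hv) (scalSim Q cu⁻¹) g
      rw [muHom_apply, muHom_apply, muHom_apply] at this
      rw [this, muFun_scalSim Q hv, hmu]
      group
    · rw [map_mul, epsHom_scalSim Q hv m' hcard, hε, one_mul]
  obtain ⟨s, hs, hsdet⟩ := exists_iso_of_mem_SO Q _ hmem
  have hsδ : δ s = 1 := (hδ' s).mpr hsdet
  have hΦ : PhiO (⇑Q) g = PhiO (⇑Q) (inclO Q s) := by
    rw [hs, map_mul, PhiO_scalSim, one_mul]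
  rw [map_mul, hΦ, ← map_mul, ← map_mul, key (s * s) (by rw [map_mul, hsδ, one_mul]), map_mul]
  exact Int.units_mul_self _

theorem isSquare_ratio {a b : F} (ha : a ≠ 0) (hb : b ≠ 0) (hna : ¬ IsSquare a)
    (hnb : ¬ IsSquare b) : IsSquare (a⁻¹ * b) := by
  have h1 := quadraticChar_neg_one_iff_not_isSquare.mpr hna
  have h3 := quadraticChar_neg_one_iff_not_isSquare.mpr hnb
  have hab : a⁻¹ * b ≠ 0 := mul_ne_zero (inv_ne_zero ha) hb
  rw [← quadraticChar_one_iff_isSquare hab]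
  have h4 : quadraticChar F a * quadraticChar F (a⁻¹ * b) = quadraticChar F b := by
    rw [← map_mul, mul_inv_cancel_left₀ ha]
  rw [h1, h3] at h4
  linarith

theorem innDiagGen_main (h2 : (2 : F) ≠ 0) (hQ : (polarBilin Q).Nondegenerate)
    (hn : 7 ≤ Fintype.card ι) (hv : ∃ v, Q v ≠ 0) (m' : ℕ) (hcard : Fintype.card ι = 2 * m')
    (h : ↥(Cfsg.Geo.quadSimilarityGroup (⇑Q))) (hhε : epsHom Q hv m' h = 1)
    (hhμ : ¬ IsSquare ((muFun Q h : Fˣ) : F)) :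
    (negIso Q ∉ commutator ↥(Cfsg.isometryGroup F ⇑Q) →
      ∃ φ : ↥(innDiagGen Q h2 hQ hv m' hcard) →* Multiplicative (ZMod 2),
        Function.Surjective φ ∧ φ.ker = (Cfsg.Inn (Cfsg.POmega F (⇑Q))).subgroupOf
          (innDiagGen Q h2 hQ hv m' hcard)) ∧
    (negIso Q ∈ commutator ↥(Cfsg.isometryGroup F ⇑Q) →
      PhiO (⇑Q) (h * h) ∉ Cfsg.Inn (Cfsg.POmega F (⇑Q)) →
      ∃ φ : ↥(innDiagGen Q h2 hQ hv m' hcard) →* Multiplicative (ZMod 4),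
        Function.Surjective φ ∧ φ.ker = (Cfsg.Inn (Cfsg.POmega F (⇑Q))).subgroupOf
          (innDiagGen Q h2 hQ hv m' hcard)) ∧
    (negIso Q ∈ commutator ↥(Cfsg.isometryGroup F ⇑Q) →
      PhiO (⇑Q) (h * h) ∈ Cfsg.Inn (Cfsg.POmega F (⇑Q)) →
      ∃ φ : ↥(innDiagGen Q h2 hQ hv m' hcard) →* Multiplicative (ZMod 2 × ZMod 2),
        Function.Surjective φ ∧ φ.ker = (Cfsg.Inn (Cfsg.POmega F (⇑Q))).subgroupOf
          (innDiagGen Q h2 hQ hv m' hcard)) := by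
  obtain ⟨hidx2, hidx4⟩ := relIndex_inn_innDiagGen Q h2 hQ hn hv m' hcard ⟨h, hhμ⟩
  -- the projection from the kernel of the sign to the quotient
  obtain ⟨K, hK⟩ : ∃ K : Subgroup ↥(Cfsg.Geo.quadSimilarityGroup (⇑Q)),
      K = (THom Q h2 hQ hv m' hcard).ker := ⟨_, rfl⟩
  have hI : innDiagGen Q h2 hQ hv m' hcard = K.map (PhiO (⇑Q)) := by rw [hK]; rfl
  rw [hI] at hidx2 hidx4 ⊢
  have hmemK : ∀ g, g ∈ K ↔ epsHom Q hv m' g = 1 := by
    intro g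
    rw [hK]
    exact mem_THom_ker Q h2 hQ hv m' hcard g
  obtain ⟨π, hπd⟩ : ∃ π : ↥K →* ↥(K.map (PhiO (⇑Q))) ⧸
      (Cfsg.Inn (Cfsg.POmega F (⇑Q))).subgroupOf (K.map (PhiO (⇑Q))),
      π = (QuotientGroup.mk' _).comp ((PhiO (⇑Q)).subgroupMap K) := ⟨_, rfl⟩
  have hπ : ∀ k : ↥K, π k = 1 ↔ PhiO (⇑Q) (k : ↥(Cfsg.Geo.quadSimilarityGroup (⇑Q))) ∈
      Cfsg.Inn (Cfsg.POmega F (⇑Q)) := by
    intro k
    rw [hπd]
    show (QuotientGroup.mk ((PhiO (⇑Q)).subgroupMap K k) : _ ⧸ _) = 1 ↔ _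
    rw [QuotientGroup.eq_one_iff, Subgroup.mem_subgroupOf]
    rfl
  have hπs : Function.Surjective π := by
    rw [hπd]
    exact (QuotientGroup.mk'_surjective _).comp ((PhiO (⇑Q)).subgroupMap_surjective K)
  have hhK : h ∈ K := (hmemK h).mpr hhε
  refine ⟨?_, ?_, ?_⟩
  · intro hneg
    have hE := (card_quot_eq_relIndex (K.map (PhiO (⇑Q))) (Cfsg.Inn (Cfsg.POmega F (⇑Q)))).trans
      (hidx2 hneg)
    obtain ⟨e⟩ := iso_zmod2_of_card hE
    exact exists_quot_hom _ _ e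
  · intro hneg hnot
    have hE := (card_quot_eq_relIndex (K.map (PhiO (⇑Q))) (Cfsg.Inn (Cfsg.POmega F (⇑Q)))).trans
      (hidx4 hneg)
    have hx : π ⟨h, hhK⟩ * π ⟨h, hhK⟩ ≠ 1 := by
      rw [← map_mul, Ne, hπ]
      exact hnot
    obtain ⟨e⟩ := iso_zmod4_of_card hE _ hx
    exact exists_quot_hom _ _ e
  · intro hneg hin
    have hE := (card_quot_eq_relIndex (K.map (PhiO (⇑Q))) (Cfsg.Inn (Cfsg.POmega F (⇑Q)))).trans
      (hidx4 hneg)
    have hcomm := IsPGroup.commutative_of_card_eq_prime_sq (p := 2) (hE.trans (by norm_num))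
    have hsq1 : ∀ k : ↥K, IsSquare ((muFun Q (k : ↥(Cfsg.Geo.quadSimilarityGroup (⇑Q))) : Fˣ) : F) →
        π k * π k = 1 := by
      intro k hk
      rw [← map_mul, hπ]
      exact sq_mem_inn_of_isSquare Q h2 hQ hn hv m' hcard hneg k ((hmemK k).mp k.2) hk
    have hh1 : π ⟨h, hhK⟩ * π ⟨h, hhK⟩ = 1 := by
      rw [← map_mul, hπ]
      exact hin
    have hall : ∀ y : ↥(K.map (PhiO (⇑Q))) ⧸
        (Cfsg.Inn (Cfsg.POmega F (⇑Q))).subgroupOf (K.map (PhiO (⇑Q))), y * y = 1 := by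
      intro y
      obtain ⟨k, rfl⟩ := hπs y
      by_cases hk : IsSquare ((muFun Q (k : ↥(Cfsg.Geo.quadSimilarityGroup (⇑Q))) : Fˣ) : F)
      · exact hsq1 k hk
      · have hk' : IsSquare ((muFun Q ((⟨h, hhK⟩⁻¹ * k : ↥K) :
            ↥(Cfsg.Geo.quadSimilarityGroup (⇑Q))) : Fˣ) : F) := by
          have := map_mul (muHom Q hv) (h⁻¹) (k : ↥(Cfsg.Geo.quadSimilarityGroup (⇑Q)))
          rw [map_inv, muHom_apply, muHom_apply, muHom_apply] at this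
          show IsSquare ((muFun Q (h⁻¹ * (k : ↥(Cfsg.Geo.quadSimilarityGroup (⇑Q)))) : Fˣ) : F)
          rw [this, Units.val_mul, Units.val_inv_eq_inv_val]
          exact isSquare_ratio (Units.ne_zero _) (Units.ne_zero _) hhμ hk
        have hdec : π k = π ⟨h, hhK⟩ * π (⟨h, hhK⟩⁻¹ * k) := by
          rw [← map_mul, mul_inv_cancel_left]
        have h3 := hsq1 _ hk'
        rw [hdec]
        calc π ⟨h, hhK⟩ * π (⟨h, hhK⟩⁻¹ * k) * (π ⟨h, hhK⟩ * π (⟨h, hhK⟩⁻¹ * k))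
            = (π ⟨h, hhK⟩ * π ⟨h, hhK⟩) * (π (⟨h, hhK⟩⁻¹ * k) * π (⟨h, hhK⟩⁻¹ * k)) := by
              rw [mul_assoc, ← mul_assoc (π (⟨h, hhK⟩⁻¹ * k)), hcomm (π (⟨h, hhK⟩⁻¹ * k)),
                mul_assoc, ← mul_assoc]
          _ = 1 := by rw [hh1, h3, one_mul]
    obtain ⟨e⟩ := iso_klein_of_card hE hall
    exact exists_quot_hom _ _ e

end innD

end Cfsg.Agent.helper14
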