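import Mathlib
import Cfsg.Agent.Lib_helper14_InnDiagB
import Cfsg.Agent.Lib_helper14_InnDiagD
import Cfsg.Agent.Lib_helper13_PlusGL3

/-! The inner-diagonal group as the image of the kernel of the sign; the square of the diagonal
similarity in the plus case. -/

set_option autoImplicit false

namespace Cfsg.Agent.helper14

open Matrix QuadraticMap Module Cfsg.Agent.helper13

section innE
variable {F : Type*} [Field F] [Fintype F] [DecidableEq F] {ι : Type} [Fintype ι] [DecidableEq ι]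
variable (Q : QuadraticForm F (ι → F))

theorem autSubgroup_eq_innDiagGen (h2 : (2 : F) ≠ 0) (hQ : (polarBilin Q).Nondegenerate)
    (hv : ∃ v, Q v ≠ 0) (m' : ℕ) (hcard : Fintype.card ι = 2 * m')
    (P : Matrix ι ι F → Prop)
    (hP : ∀ g : ↥(Cfsg.Geo.quadSimilarityGroup (⇑Q)),
      P ((g : GL ι F) : Matrix ι ι F) ↔ epsHom Q hv m' g = 1) :
    Cfsg.autSubgroupOf (fun β : Cfsg.POmega F (⇑Q) ≃* Cfsg.POmega F (⇑Q) =>
      ∃ g : GL ι F, g ∈ Cfsg.Geo.quadSimilarityGroup (F := F) (⇑Q) ∧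
        P (g : Matrix ι ι F) ∧
        Cfsg.IsInducedBySemilinearPOmega (⇑Q) g (RingEquiv.refl F) β) =
      innDiagGen Q h2 hQ hv m' hcard := by
  unfold Cfsg.autSubgroupOf innDiagGen
  have : {β : MulAut (Cfsg.POmega F (⇑Q)) |
      ∃ g : GL ι F, g ∈ Cfsg.Geo.quadSimilarityGroup (F := F) (⇑Q) ∧
        P (g : Matrix ι ι F) ∧
        Cfsg.IsInducedBySemilinearPOmega (⇑Q) g (RingEquiv.refl F) β} =
      ((((THom Q h2 hQ hv m' hcard).ker.map (PhiO (⇑Q)) :
        Subgroup (MulAut (Cfsg.POmega F (⇑Q)))) : Set (MulAut (Cfsg.POmega F (⇑Q))))) := by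
    ext β
    constructor
    · rintro ⟨g, hg, hPg, hβ⟩
      exact ⟨⟨g, hg⟩, (mem_THom_ker Q h2 hQ hv m' hcard _).mpr ((hP ⟨g, hg⟩).mp hPg),
        ((induced_iff (⇑Q) ⟨g, hg⟩ β).mp hβ).symm⟩
    · rintro ⟨g, hg, rfl⟩
      exact ⟨g.1, g.2, (hP g).mpr ((mem_THom_ker Q h2 hQ hv m' hcard g).mp hg),
        (induced_iff (⇑Q) g _).mpr rfl⟩
  rw [this, Subgroup.closure_eq]

end innE

section plusE
variable {F : Type*} [Field F] [Fintype F] [DecidableEq F]

theorem scalGL_inv {κ : Type} [Fintype κ] [DecidableEq κ] (c : Fˣ) :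
    ((scalGL c : GL κ F))⁻¹ = scalGL c⁻¹ := by
  unfold scalGL
  rw [map_inv]

theorem dSimPlus_sq (m : ℕ) (ν : Fˣ) :
    dSimPlus m ν * dSimPlus m ν =
      scalSim (QPlus F m) ν * inclO (QPlus F m) (dGL (scalGL ν)) := by
  apply Subtype.ext
  apply Units.ext
  show Matrix.diagonal (dPlus m (ν : F)) * Matrix.diagonal (dPlus m (ν : F)) =
    ((scalGL ν : GL (Fin m ⊕ Fin m) F) : Matrix (Fin m ⊕ Fin m) (Fin m ⊕ Fin m) F) *
      (((dGL (scalGL ν : GL (Fin m) F) : ↥(Cfsg.isometryGroup F ⇑(QPlus F m))) :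
        GL (Fin m ⊕ Fin m) F) : Matrix (Fin m ⊕ Fin m) (Fin m ⊕ Fin m) F)
  rw [Matrix.diagonal_mul_diagonal, scalGL_val, Matrix.smul_mul, Matrix.one_mul, coe_dGL,
    scalGL_inv, scalGL_val, scalGL_val]
  have hν : (ν : F) ≠ 0 := Units.ne_zero ν
  ext i j
  rcases i with i | i <;> rcases j with j | j
  · by_cases hij : i = j
    · subst hij
      simp [dPlus]
    · simp [dPlus, hij]
  · simp [dPlus]
  · simp [dPlus]
  · by_cases hij : i = j
    · subst hij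
      simp [dPlus, hν]
    · have hji : ¬ j = i := fun h => hij h.symm
      simp [dPlus, hij, hji, Matrix.one_apply]

theorem PhiO_dSimPlus_sq_mem_iff (h2 : (2 : F) ≠ 0) (m : ℕ) (hm : 4 ≤ m)
    (hneg : negIso (QPlus F m) ∈ commutator ↥(Cfsg.isometryGroup F ⇑(QPlus F m)))
    (ν : Fˣ) (hν : ¬ IsSquare (ν : F)) :
    PhiO (⇑(QPlus F m)) (dSimPlus m ν * dSimPlus m ν) ∈
      Cfsg.Inn (Cfsg.POmega F (⇑(QPlus F m))) ↔ Even m := by
  have hcard : Fintype.card (Fin m ⊕ Fin m) = 2 * m := by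
    rw [Fintype.card_sum, Fintype.card_fin]
    ring
  have hn : 7 ≤ Fintype.card (Fin m ⊕ Fin m) := by rw [hcard]; omega
  have hQ := QPlus_nondeg (F := F) m
  obtain ⟨θ, hθ⟩ := exists_spinor (QPlus F m) h2 hQ
  obtain ⟨δ, hδ, hδ'⟩ := exists_detSign (QPlus F m) h2 hQ
  have key := PhiO_mem_inn_iff_theta (QPlus F m) h2 hQ hn θ δ hθ hδ hneg
  have hne : Fintype.card F ≠ 2 ∨ Fintype.card (Fin m ⊕ Fin m) ≠ 4 := Or.inr (by omega)
  rw [dSimPlus_sq, map_mul, PhiO_scalSim, one_mul,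
    key (dGL (scalGL ν)) (delta_dGL hne δ hδ _), theta_dGL h2 θ hθ]
  have hchi : ((chiDet (scalGL ν : GL (Fin m) F) : ℤˣ) : ℤ) = (-1) ^ m := by
    rw [chiDet_apply, det_scalGL, Fintype.card_fin, map_pow,
      quadraticChar_neg_one_iff_not_isSquare.mpr hν]
  rw [Units.ext_iff, hchi, Units.val_one]
  exact neg_one_pow_eq_one_iff_even (by norm_num)

end plusE

end Cfsg.Agent.helper14
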