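import Mathlib
import Cfsg.Agent.Lib_helper14_InnDiagA
import Cfsg.Agent.Lib_helper13_AutO5
import Cfsg.Agent.Lib_helper13_QStd
import Cfsg.Agent.Lib_helper13_ReflH

/-! Similarities with square multiplier; Gram-matrix criterion for similarities and base change;
a maximal totally singular subspace of the minus-type form over a field where the binary part
splits. -/

set_option autoImplicit false

namespace Cfsg.Agent.helper14

open Matrix QuadraticMap Module Cfsg.Agent.helper13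

section sqmult
variable {F : Type*} [Field F] {ι : Type} [Fintype ι] [DecidableEq ι]
variable (Q : QuadraticForm F (ι → F))

theorem scalSim_fix (c : Fˣ) (U : Submodule F (ι → F)) :
    U.map (Matrix.toLin' ((scalSim Q c : GL ι F) : Matrix ι ι F)) = U := by
  apply Submodule.eq_of_le_of_finrank_eq
  · rintro x ⟨u, hu, rfl⟩
    rw [Matrix.toLin'_apply]
    show ((scalGL c : GL ι F) : Matrix ι ι F) *ᵥ u ∈ U
    rw [scalGL_val, Matrix.smul_mulVec, Matrix.one_mulVec]
    exact U.smul_mem _ hu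
  · exact (LinearEquiv.finrank_eq
      (Submodule.equivMapOfInjective _ (toLin'_gl_injective _) _)).symm

theorem preserves_iff_det_of_sq (h2 : (2 : F) ≠ 0) (hnd : (polarBilin Q).Nondegenerate) {m : ℕ}
    (hV : finrank F (ι → F) = 2 * m) {U₀ : Submodule F (ι → F)} (hU₀ : MTS Q m U₀)
    (hv : ∃ v, Q v ≠ 0) (g : ↥(Cfsg.Geo.quadSimilarityGroup (⇑Q))) (c : Fˣ)
    (hc : muFun Q g = c * c) :
    Cfsg.PreservesSingularClasses (⇑Q) ((g : GL ι F) : Matrix ι ι F) ↔
      ((g : GL ι F) : Matrix ι ι F).det = (c : F) ^ Fintype.card ι := by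
  rw [preserves_iff_det Q h2 hnd hV hU₀ hv g (scalSim Q c)
    ((muFun_scalSim Q hv c).trans hc.symm) (scalSim_fix Q c U₀)]
  show _ = ((scalGL c : GL ι F) : Matrix ι ι F).det ↔ _
  rw [det_scalGL]

theorem sim_of_gram (h2 : (2 : F) ≠ 0) (G : Matrix ι ι F)
    (hG : ∀ u v, polar (⇑Q) u v = u ⬝ᵥ (G *ᵥ v)) (M : Matrix ι ι F) (μ : F)
    (hM : Mᵀ * G * M = μ • G) (v : ι → F) : Q (M *ᵥ v) = μ * Q v := by
  have h1 : polar (⇑Q) (M *ᵥ v) (M *ᵥ v) = μ * polar (⇑Q) v v := by
    rw [hG, hG]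
    have : (M *ᵥ v) ⬝ᵥ (G *ᵥ (M *ᵥ v)) = v ⬝ᵥ ((Mᵀ * G * M) *ᵥ v) := by
      rw [← Matrix.mulVec_mulVec, ← Matrix.mulVec_mulVec, Matrix.dotProduct_mulVec v Mᵀ,
        Matrix.vecMul_transpose]
    rw [this, hM, Matrix.smul_mulVec, dotProduct_smul, smul_eq_mul]
  rw [QuadraticMap.polar_self, QuadraticMap.polar_self] at h1
  simp only [nsmul_eq_mul, Nat.cast_ofNat] at h1
  apply mul_left_cancel₀ h2
  linear_combination h1

theorem gram_of_sim (G : Matrix ι ι F)
    (hG : ∀ u v, polar (⇑Q) u v = u ⬝ᵥ (G *ᵥ v)) (M : Matrix ι ι F) (μ : F)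
    (hM : ∀ v, Q (M *ᵥ v) = μ * Q v) : Mᵀ * G * M = μ • G := by
  apply matrix_eq_of_mulVec
  intro v
  apply dotProduct_eq
  intro u
  rw [dotProduct_comm, dotProduct_comm _ u]
  have h1 : u ⬝ᵥ ((Mᵀ * G * M) *ᵥ v) = (M *ᵥ u) ⬝ᵥ (G *ᵥ (M *ᵥ v)) := by
    rw [← Matrix.mulVec_mulVec, ← Matrix.mulVec_mulVec, Matrix.dotProduct_mulVec u Mᵀ,
      Matrix.vecMul_transpose]
  rw [h1, ← hG, Matrix.smul_mulVec, dotProduct_smul, smul_eq_mul, ← hG]
  unfold polar
  rw [← Matrix.mulVec_add, hM, hM, hM]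
  ring

end sqmult

section basechange
variable {F : Type*} [Field F] {K : Type*} [Field K]

theorem gramMinus_map (f : F →+* K) (k : ℕ) (a c : F) :
    (Cfsg.Agent.S2621.gramMinus k a c).map f = Cfsg.Agent.S2621.gramMinus k (f a) (f c) := by
  unfold Cfsg.Agent.S2621.gramMinus
  rw [Matrix.fromBlocks_map, Matrix.fromBlocks_map]
  congr 1
  · congr 1 <;> simp
  · simp
  · simp
  · have hf2 : f 2 = 2 := map_ofNat f 2
    ext i j
    fin_cases i <;> fin_cases j <;> simp [hf2]

theorem map_sim_minus (h2 : (2 : F) ≠ 0) (f : F →+* K) (m : ℕ) (a b : F)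
    (M : Matrix ((Fin m ⊕ Fin m) ⊕ Fin 2) ((Fin m ⊕ Fin m) ⊕ Fin 2) F) (μ : F)
    (hM : ∀ v, QMinus F m a b (M *ᵥ v) = μ * QMinus F m a b v)
    (v : (Fin m ⊕ Fin m) ⊕ Fin 2 → K) :
    QMinus K m (f a) (f b) ((M.map f) *ᵥ v) = f μ * QMinus K m (f a) (f b) v := by
  have h2K : (2 : K) ≠ 0 := by
    have : (2 : K) = f 2 := (map_ofNat f 2).symm
    rw [this]
    exact (map_ne_zero f).mpr h2
  have hgram := gram_of_sim (QMinus F m a b) _ (polar_QMinus F m a b) M μ hM
  apply sim_of_gram (QMinus K m (f a) (f b)) h2K _ (polar_QMinus K m (f a) (f b))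
  rw [← gramMinus_map, ← Matrix.transpose_map, ← Matrix.map_mul, ← Matrix.map_mul, hgram]
  ext i j
  simp

end basechange

section mtsminus
variable {K : Type*} [Field K]

/-- the embedding whose range is a maximal totally singular subspace -/
def mtsMinusMap (m : ℕ) (ω : K) :
    ((Fin m → K) × K) →ₗ[K] ((Fin m ⊕ Fin m) ⊕ Fin 2 → K) where
  toFun p := Sum.elim (Sum.elim p.1 0) ![ω * p.2, p.2]
  map_add' p q := by
    funext i
    rcases i with (i | i) | i
    · simp
    · simp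
    · fin_cases i
      · simp [mul_add]
      · simp
  map_smul' c p := by
    funext i
    rcases i with (i | i) | i
    · simp
    · simp
    · fin_cases i
      · simp [mul_left_comm]
      · simp

theorem mtsMinusMap_injective (m : ℕ) (ω : K) : Function.Injective (mtsMinusMap m ω) := by
  intro p q h
  apply Prod.ext
  · funext i
    have := congrFun h (Sum.inl (Sum.inl i))
    simpa [mtsMinusMap] using this
  · have := congrFun h (Sum.inr 1)
    simpa [mtsMinusMap] using this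

theorem mtsMinus_mts (m : ℕ) (a b ω : K) (hω : ω ^ 2 + a * ω + b = 0) :
    MTS (QMinus K m a b) (m + 1) (LinearMap.range (mtsMinusMap m ω)) := by
  constructor
  · rintro w ⟨p, rfl⟩
    rw [QMinus_apply]
    unfold Cfsg.quadFormMinus
    have h1 : ∑ i : Fin m, (mtsMinusMap m ω p) (Sum.inl (Sum.inl i)) *
        (mtsMinusMap m ω p) (Sum.inl (Sum.inr i)) = 0 := by
      apply Finset.sum_eq_zero
      intro i _
      simp [mtsMinusMap]
    rw [h1, zero_add]
    have e0 : (mtsMinusMap m ω p) (Sum.inr 0) = ω * p.2 := by simp [mtsMinusMap]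
    have e1 : (mtsMinusMap m ω p) (Sum.inr 1) = p.2 := by simp [mtsMinusMap]
    rw [e0, e1]
    linear_combination p.2 ^ 2 * hω
  · rw [LinearMap.finrank_range_of_inj (mtsMinusMap_injective m ω), Module.finrank_prod,
      Module.finrank_fin_fun, Module.finrank_self]

theorem finrank_minus_space (m : ℕ) :
    finrank K ((Fin m ⊕ Fin m) ⊕ Fin 2 → K) = 2 * (m + 1) := by
  rw [Module.finrank_fintype_fun_eq_card, Fintype.card_sum, Fintype.card_sum, Fintype.card_fin,
    Fintype.card_fin]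
  ring

theorem exists_QMinus_ne (m : ℕ) (a b : K) : ∃ v, QMinus K m a b v ≠ 0 := by
  refine ⟨Pi.single (Sum.inr 0) 1, ?_⟩
  rw [QMinus_apply, quadFormMinus_single_zero]
  exact one_ne_zero

end mtsminus

end Cfsg.Agent.helper14
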