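import Mathlib
import Cfsg.Agent.Lib_helper14_InnDiagF
import Cfsg.Agent.Lib_helper13_ReflE

/-! Minus type: a similarity preserves the singular classes over a quadratic extension exactly
when `det g = μ(g)^(m+1)`. -/

set_option autoImplicit false

namespace Cfsg.Agent.helper14

open Matrix QuadraticMap Module Cfsg.Agent.helper13

section KK
variable {F : Type*} [Field F] [Fintype F]

theorem isSquare_algebraMap_of_finrank_two (h2 : (2 : F) ≠ 0) {K : Type*} [Field K] [Fintype K]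
    [Algebra F K] (hK : finrank F K = 2) (x : F) : IsSquare (algebraMap F K x) := by
  by_cases hx : x = 0
  · exact ⟨0, by simp [hx]⟩
  have hcardK : Fintype.card K = Fintype.card F ^ 2 := by
    rw [Module.card_eq_pow_finrank (K := F) (V := K), hK]
  have h2K : (2 : K) ≠ 0 := by
    have : (2 : K) = algebraMap F K 2 := (map_ofNat (algebraMap F K) 2).symm
    rw [this]
    exact (map_ne_zero (algebraMap F K)).mpr h2
  have hq := FiniteField.odd_card_of_char_ne_two (ringChar_ne_two_of (F := F) h2)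
  obtain ⟨k, hk⟩ : ∃ k, Fintype.card F = 2 * k + 1 := ⟨Fintype.card F / 2, by omega⟩
  have e : Fintype.card F ^ 2 = 2 * ((Fintype.card F - 1) * (k + 1)) + 1 := by
    rw [hk, Nat.add_sub_cancel]
    ring
  have hdiv : Fintype.card F ^ 2 / 2 = (Fintype.card F - 1) * (k + 1) := by omega
  rw [FiniteField.isSquare_iff (ringChar_ne_two_of (F := K) h2K)
    ((map_ne_zero (algebraMap F K)).mpr hx), hcardK, hdiv, pow_mul, ← map_pow,
    FiniteField.pow_card_sub_one_eq_one x hx, map_one, one_pow]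

theorem preserves_minus_K_iff (h2 : (2 : F) ≠ 0) (m : ℕ) (a b : F) (hD : 4 * b - a ^ 2 ≠ 0)
    {K : Type*} [Field K] [Algebra F K] (hK : finrank F K = 2)
    (g : ↥(Cfsg.Geo.quadSimilarityGroup (⇑(QMinus F m a b)))) :
    Cfsg.PreservesSingularClasses
        (Cfsg.quadFormMinus m K (algebraMap F K a) (algebraMap F K b))
        (((g : GL ((Fin m ⊕ Fin m) ⊕ Fin 2) F) :
          Matrix ((Fin m ⊕ Fin m) ⊕ Fin 2) ((Fin m ⊕ Fin m) ⊕ Fin 2) F).map (algebraMap F K)) ↔
      ((g : GL ((Fin m ⊕ Fin m) ⊕ Fin 2) F) :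
          Matrix ((Fin m ⊕ Fin m) ⊕ Fin 2) ((Fin m ⊕ Fin m) ⊕ Fin 2) F).det =
        ((muFun (QMinus F m a b) g : Fˣ) : F) ^ (m + 1) := by
  classical
  haveI : Module.Finite F K := Module.finite_of_finrank_pos (by rw [hK]; norm_num)
  haveI : Finite K := Module.finite_of_finite F
  letI : Fintype K := Fintype.ofFinite K
  obtain ⟨f, hf⟩ : ∃ f : F →+* K, f = algebraMap F K := ⟨_, rfl⟩
  rw [← hf]
  have hfinj : Function.Injective f := by rw [hf]; exact (algebraMap F K).injective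
  have h2K : (2 : K) ≠ 0 := by
    have : (2 : K) = f 2 := (map_ofNat f 2).symm
    rw [this]
    exact (map_ne_zero f).mpr h2
  have hsq : ∀ x : F, IsSquare (f x) := by
    intro x
    rw [hf]
    exact isSquare_algebraMap_of_finrank_two h2 hK x
  -- a root of the binary form
  obtain ⟨s, hs⟩ := hsq (a ^ 2 - 4 * b)
  have hω : ((-(f a) + s) / 2) ^ 2 + f a * ((-(f a) + s) / 2) + f b = 0 := by
    have h4 : (4 : K) = 2 * 2 := by norm_num
    field_simp
    have hs' : s * s = f a ^ 2 - 4 * f b := by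
      rw [← hs]
      simp [map_ofNat f 4]
    linear_combination hs'
  have hDK : 4 * f b - f a ^ 2 ≠ 0 := by
    have : 4 * f b - f a ^ 2 = f (4 * b - a ^ 2) := by simp [map_ofNat f 4]
    rw [this]
    exact (map_ne_zero f).mpr hD
  have hnd := QMinus_nondeg (F := K) m (f a) (f b) hDK
  have hV := finrank_minus_space (K := K) m
  have hU₀ := mtsMinus_mts m (f a) (f b) _ hω
  have hv := exists_QMinus_ne (K := K) m (f a) (f b)
  -- the similarity over `K`
  have hsim : ∀ v, QMinus K m (f a) (f b)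
      ((((g : GL ((Fin m ⊕ Fin m) ⊕ Fin 2) F) :
        Matrix ((Fin m ⊕ Fin m) ⊕ Fin 2) ((Fin m ⊕ Fin m) ⊕ Fin 2) F).map f) *ᵥ v) =
      f ((muFun (QMinus F m a b) g : Fˣ) : F) * QMinus K m (f a) (f b) v :=
    map_sim_minus h2 f m a b _ _ (muFun_spec (QMinus F m a b) g)
  have hμ0 : f ((muFun (QMinus F m a b) g : Fˣ) : F) ≠ 0 :=
    (map_ne_zero f).mpr (Units.ne_zero _)
  obtain ⟨gK, hgK⟩ : ∃ gK : ↥(Cfsg.Geo.quadSimilarityGroup (⇑(QMinus K m (f a) (f b)))),
      ((gK : GL ((Fin m ⊕ Fin m) ⊕ Fin 2) K) :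
        Matrix ((Fin m ⊕ Fin m) ⊕ Fin 2) ((Fin m ⊕ Fin m) ⊕ Fin 2) K) =
      ((g : GL ((Fin m ⊕ Fin m) ⊕ Fin 2) F) :
        Matrix ((Fin m ⊕ Fin m) ⊕ Fin 2) ((Fin m ⊕ Fin m) ⊕ Fin 2) F).map f :=
    ⟨⟨Matrix.GeneralLinearGroup.map f (g : GL ((Fin m ⊕ Fin m) ⊕ Fin 2) F),
      ⟨Units.mk0 _ hμ0, hsim⟩⟩, rfl⟩
  have hmuK : ((muFun (QMinus K m (f a) (f b)) gK : Kˣ) : K) =
      f ((muFun (QMinus F m a b) g : Fˣ) : F) := by
    apply muFun_unique _ hv
    intro v
    rw [hgK]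
    exact hsim v
  obtain ⟨c, hc⟩ := hsq ((muFun (QMinus F m a b) g : Fˣ) : F)
  have hc0 : c ≠ 0 := by
    rintro rfl
    rw [mul_zero] at hc
    exact hμ0 hc
  obtain ⟨cu, hcu⟩ : ∃ cu : Kˣ, (cu : K) = c := ⟨Units.mk0 c hc0, rfl⟩
  have hmuc : muFun (QMinus K m (f a) (f b)) gK = cu * cu := by
    apply Units.ext
    rw [hmuK, hc, Units.val_mul, hcu]
  have key := preserves_iff_det_of_sq (QMinus K m (f a) (f b)) h2K hnd hV hU₀ hv gK cu hmuc
  rw [← QMinus_coe K m (f a) (f b), ← hgK, key]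
  have hdet : (((g : GL ((Fin m ⊕ Fin m) ⊕ Fin 2) F) :
      Matrix ((Fin m ⊕ Fin m) ⊕ Fin 2) ((Fin m ⊕ Fin m) ⊕ Fin 2) F).map f).det =
      f (((g : GL ((Fin m ⊕ Fin m) ⊕ Fin 2) F) :
      Matrix ((Fin m ⊕ Fin m) ⊕ Fin 2) ((Fin m ⊕ Fin m) ⊕ Fin 2) F).det) := by
    rw [RingHom.map_det]
    rfl
  have hcardι : Fintype.card ((Fin m ⊕ Fin m) ⊕ Fin 2) = 2 * (m + 1) := by
    rw [Fintype.card_sum, Fintype.card_sum, Fintype.card_fin, Fintype.card_fin]
    ring
  have hpow : (cu : K) ^ Fintype.card ((Fin m ⊕ Fin m) ⊕ Fin 2) =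
      f (((muFun (QMinus F m a b) g : Fˣ) : F) ^ (m + 1)) := by
    rw [hcardι, pow_mul, pow_two, hcu, ← hc, map_pow]
  rw [hgK, hdet, hpow]
  exact hfinj.eq_iff

end KK

section presminus
variable {F : Type*} [Field F] [Fintype F] [DecidableEq F]

theorem presMinus_iff (h2 : (2 : F) ≠ 0) (m : ℕ) (a b : F)
    (hab : ∀ z₁ z₂ : F, z₁ ^ 2 + a * z₁ * z₂ + b * z₂ ^ 2 = 0 → z₁ = 0 ∧ z₂ = 0)
    (hD : 4 * b - a ^ 2 ≠ 0) (hv : ∃ v, QMinus F m a b v ≠ 0)
    (g : ↥(Cfsg.Geo.quadSimilarityGroup (⇑(QMinus F m a b)))) :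
    Cfsg.PreservesSingularClassesMinus m a b
        ((g : GL ((Fin m ⊕ Fin m) ⊕ Fin 2) F) :
          Matrix ((Fin m ⊕ Fin m) ⊕ Fin 2) ((Fin m ⊕ Fin m) ⊕ Fin 2) F) ↔
      epsHom (QMinus F m a b) hv (m + 1) g = 1 := by
  rw [epsHom_eq_one_iff]
  constructor
  · rintro ⟨K, instK, instA, hK, hP⟩
    exact (preserves_minus_K_iff h2 m a b hD hK g).mp hP
  · intro hdet
    obtain ⟨p, hp⟩ : ∃ p : Polynomial F,
        p = Polynomial.C 1 * Polynomial.X ^ 2 + Polynomial.C a * Polynomial.X + Polynomial.C b :=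
      ⟨_, rfl⟩
    have hdeg : p.natDegree = 2 := by
      rw [hp]
      exact Polynomial.natDegree_quadratic one_ne_zero
    have hp0 : p ≠ 0 := by
      intro h0
      rw [h0, Polynomial.natDegree_zero] at hdeg
      omega
    have hirr : Irreducible p := by
      apply Polynomial.irreducible_of_degree_le_three_of_not_isRoot
      · rw [hdeg]
        decide
      · intro x hx
        rw [Polynomial.IsRoot, hp] at hx
        simp only [Polynomial.eval_add, Polynomial.eval_mul, Polynomial.eval_C,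
          Polynomial.eval_pow, Polynomial.eval_X] at hx
        have := (hab x 1 (by linear_combination hx)).2
        exact one_ne_zero this
    haveI : Fact (Irreducible p) := ⟨hirr⟩
    have hfr : finrank F (AdjoinRoot p) = 2 := by
      rw [(AdjoinRoot.powerBasis hp0).finrank, AdjoinRoot.powerBasis_dim, hdeg]
    exact ⟨AdjoinRoot p, inferInstance, inferInstance, hfr,
      (preserves_minus_K_iff h2 m a b hD hfr g).mpr hdet⟩

end presminus

end Cfsg.Agent.helper14
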