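import Mathlib
import Cfsg.Agent.Lib_helper14_InnDiagE
import Cfsg.Agent.Lib_helper14_InnDiagG
import Cfsg.Agent.Lib_helper13_Uni

/-! The binary norm form, the minus-type form as an orthogonal sum, and the square of a
similarity with nonsquare multiplier. -/

set_option autoImplicit false

namespace Cfsg.Agent.helper14

open Matrix QuadraticMap Module Cfsg.Agent.helper13

section qb
variable {F : Type*} [Field F]

/-- the binary form `z₀² + a z₀ z₁ + b z₁²` -/
noncomputable def Qb (a b : F) : QuadraticForm F (Fin 2 → F) :=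
  QuadraticMap.linMulLin (LinearMap.proj 0) (LinearMap.proj 0) +
    a • QuadraticMap.linMulLin (LinearMap.proj 0) (LinearMap.proj 1) +
    b • QuadraticMap.linMulLin (LinearMap.proj 1) (LinearMap.proj 1)

theorem Qb_apply (a b : F) (z : Fin 2 → F) :
    Qb a b z = z 0 ^ 2 + a * z 0 * z 1 + b * z 1 ^ 2 := by
  simp [Qb]
  ring

theorem Qb_polar (a b : F) (w z : Fin 2 → F) :
    polar (⇑(Qb a b)) w z = 2 * w 0 * z 0 + a * (w 0 * z 1 + w 1 * z 0) + 2 * b * w 1 * z 1 := by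
  unfold polar
  rw [Qb_apply, Qb_apply, Qb_apply]
  simp only [Pi.add_apply]
  ring

theorem QMinus_eq_QS (m : ℕ) (a b : F) : QMinus F m a b = QS (QPlus F m) (Qb a b) := by
  apply DFunLike.ext
  intro v
  rw [QMinus_apply, QS_apply, QPlus_apply, Qb_apply]
  rfl

theorem bMinus_mulVec (a b x y : F) (z : Fin 2 → F) :
    bMinus a b x y *ᵥ z = ![x * z 0 - b * y * z 1, y * z 0 + (x + a * y) * z 1] := by
  funext i
  fin_cases i
  · simp [bMinus, Matrix.mulVec, dotProduct, Fin.sum_univ_two]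
    ring
  · simp [bMinus, Matrix.mulVec, dotProduct, Fin.sum_univ_two]

theorem Qb_bMinus (a b x y : F) (z : Fin 2 → F) :
    Qb a b (bMinus a b x y *ᵥ z) = (x ^ 2 + a * x * y + b * y ^ 2) * Qb a b z := by
  rw [bMinus_mulVec, Qb_apply, Qb_apply]
  simp only [Matrix.cons_val_zero, Matrix.cons_val_one]
  ring

theorem Qb_vb (a b x y : F) : Qb a b ![x, y] = x ^ 2 + a * x * y + b * y ^ 2 := by
  rw [Qb_apply]
  simp

theorem Qb_v1 (a b : F) : Qb a b ![1, 0] = 1 := by
  rw [Qb_apply]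
  simp

/-- the square of multiplication by `β` is `N(β)` times the rotation `r_β r_1` -/
theorem bMinus_sq (a b x y : F) (hν : Qb a b ![x, y] ≠ 0) (h1 : Qb a b ![1, 0] ≠ 0) :
    bMinus a b x y * bMinus a b x y =
      (x ^ 2 + a * x * y + b * y ^ 2) •
        (((reflG (Qb a b) ![x, y] hν * reflG (Qb a b) ![1, 0] h1 :
          ↥(Cfsg.isometryGroup F ⇑(Qb a b))) : GL (Fin 2) F) : Matrix (Fin 2) (Fin 2) F) := by
  apply matrix_eq_of_mulVec
  intro z
  obtain ⟨z0, z1, rfl⟩ : ∃ z0 z1, z = ![z0, z1] :=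
    ⟨z 0, z 1, by ext i; fin_cases i <;> rfl⟩
  rw [← Matrix.mulVec_mulVec, Matrix.smul_mulVec]
  have e : (((reflG (Qb a b) ![x, y] hν * reflG (Qb a b) ![1, 0] h1 :
      ↥(Cfsg.isometryGroup F ⇑(Qb a b))) : GL (Fin 2) F) : Matrix (Fin 2) (Fin 2) F) *ᵥ
        ![z0, z1] =
      iact (reflG (Qb a b) ![x, y] hν) (iact (reflG (Qb a b) ![1, 0] h1) ![z0, z1]) := by
    rw [← iact_mul]
    rfl
  rw [e, iact_reflG, iact_reflG, bMinus_mulVec, bMinus_mulVec, Qb_polar, Qb_polar,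
    Qb_vb a b x y, Qb_v1]
  have hν' : x ^ 2 + a * x * y + b * y ^ 2 ≠ 0 := by rw [← Qb_vb]; exact hν
  obtain ⟨ν, hνdef⟩ : ∃ ν, ν = x ^ 2 + a * x * y + b * y ^ 2 := ⟨_, rfl⟩
  rw [← hνdef] at hν' ⊢
  funext i
  fin_cases i
  · simp
    field_simp
    rw [hνdef]
    ring
  · simp
    field_simp
    rw [hνdef]
    ring

end qb

end Cfsg.Agent.helper14
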