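import Mathlib
import Cfsg.Agent.Lib_helper14_InnDiagH

/-! Minus type: a class-preserving similarity with nonsquare multiplier whose square is not
inner (for `m` even). -/

set_option autoImplicit false

namespace Cfsg.Agent.helper14

open Matrix QuadraticMap Module Cfsg.Agent.helper13

section hminus
variable {F : Type*} [Field F]

/-- block-diagonal similarity of the minus-type form -/
def hMat (m : ℕ) (a b x y ν : F) :
    Matrix ((Fin m ⊕ Fin m) ⊕ Fin 2) ((Fin m ⊕ Fin m) ⊕ Fin 2) F :=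
  fromBlocks (Matrix.diagonal (dPlus m ν)) 0 0 (bMinus a b x y)

theorem det_bMinus (a b x y : F) : (bMinus a b x y).det = x ^ 2 + a * x * y + b * y ^ 2 := by
  unfold bMinus
  rw [Matrix.det_fin_two_of]
  ring

theorem det_hMat (m : ℕ) (a b x y ν : F) :
    (hMat m a b x y ν).det = ν ^ m * (x ^ 2 + a * x * y + b * y ^ 2) := by
  unfold hMat
  rw [Matrix.det_fromBlocks_zero₂₁, det_dPlus, det_bMinus]

theorem hMat_val (m : ℕ) (a b x y ν : F) (hxy : x ^ 2 + a * x * y + b * y ^ 2 = ν)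
    (v : (Fin m ⊕ Fin m) ⊕ Fin 2 → F) :
    QS (QPlus F m) (Qb a b) (hMat m a b x y ν *ᵥ v) = ν * QS (QPlus F m) (Qb a b) v := by
  unfold hMat
  rw [Matrix.fromBlocks_mulVec]
  simp only [Matrix.zero_mulVec, add_zero, zero_add]
  rw [QS_elim, QS_apply, dPlus_val, Qb_bMinus, hxy]
  ring

/-- the similarity as a group element -/
noncomputable def hSim (m : ℕ) (a b x y : F) (νu : Fˣ)
    (hxy : x ^ 2 + a * x * y + b * y ^ 2 = νu) :
    ↥(Cfsg.Geo.quadSimilarityGroup (⇑(QS (QPlus F m) (Qb a b)))) :=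
  ⟨Matrix.GeneralLinearGroup.mkOfDetNeZero (hMat m a b x y νu) (by
      rw [det_hMat, hxy, ← pow_succ]
      exact pow_ne_zero _ (Units.ne_zero νu)),
    ⟨νu, hMat_val m a b x y νu hxy⟩⟩

theorem hSim_coe (m : ℕ) (a b x y : F) (νu : Fˣ)
    (hxy : x ^ 2 + a * x * y + b * y ^ 2 = νu) :
    (((hSim m a b x y νu hxy : ↥(Cfsg.Geo.quadSimilarityGroup (⇑(QS (QPlus F m) (Qb a b))))) :
      GL ((Fin m ⊕ Fin m) ⊕ Fin 2) F) :
      Matrix ((Fin m ⊕ Fin m) ⊕ Fin 2) ((Fin m ⊕ Fin m) ⊕ Fin 2) F) = hMat m a b x y νu := rfl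

theorem exists_QS_ne (m : ℕ) (a b : F) : ∃ v, QS (QPlus F m) (Qb a b) v ≠ 0 := by
  rw [← QMinus_eq_QS]
  exact exists_QMinus_ne m a b

theorem muFun_hSim (m : ℕ) (a b x y : F) (νu : Fˣ)
    (hxy : x ^ 2 + a * x * y + b * y ^ 2 = νu) :
    muFun (QS (QPlus F m) (Qb a b)) (hSim m a b x y νu hxy) = νu := by
  apply Units.ext
  apply muFun_unique _ (exists_QS_ne m a b)
  intro v
  rw [hSim_coe]
  exact hMat_val m a b x y νu hxy v

end hminus

section hminus2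
variable {F : Type*} [Field F] [Fintype F] [DecidableEq F]

theorem hSim_sq (m : ℕ) (a b x y : F) (νu : Fˣ)
    (hxy : x ^ 2 + a * x * y + b * y ^ 2 = νu)
    (hν : Qb a b ![x, y] ≠ 0) (h1 : Qb a b ![1, 0] ≠ 0) :
    hSim m a b x y νu hxy * hSim m a b x y νu hxy =
      scalSim (QS (QPlus F m) (Qb a b)) νu *
        inclO (QS (QPlus F m) (Qb a b))
          (embL (QPlus F m) (Qb a b) (dGL (scalGL νu)) *
            embR (QPlus F m) (Qb a b) (reflG (Qb a b) ![x, y] hν * reflG (Qb a b) ![1, 0] h1)) := by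
  apply Subtype.ext
  apply Units.ext
  show hMat m a b x y νu * hMat m a b x y νu =
    ((scalGL νu : GL ((Fin m ⊕ Fin m) ⊕ Fin 2) F) :
      Matrix ((Fin m ⊕ Fin m) ⊕ Fin 2) ((Fin m ⊕ Fin m) ⊕ Fin 2) F) *
    ((((embL (QPlus F m) (Qb a b) (dGL (scalGL νu)) :
        ↥(Cfsg.isometryGroup F ⇑(QS (QPlus F m) (Qb a b)))) :
        GL ((Fin m ⊕ Fin m) ⊕ Fin 2) F) :
      Matrix ((Fin m ⊕ Fin m) ⊕ Fin 2) ((Fin m ⊕ Fin m) ⊕ Fin 2) F) *
    (((embR (QPlus F m) (Qb a b) (reflG (Qb a b) ![x, y] hν * reflG (Qb a b) ![1, 0] h1) :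
        ↥(Cfsg.isometryGroup F ⇑(QS (QPlus F m) (Qb a b)))) :
        GL ((Fin m ⊕ Fin m) ⊕ Fin 2) F) :
      Matrix ((Fin m ⊕ Fin m) ⊕ Fin 2) ((Fin m ⊕ Fin m) ⊕ Fin 2) F))
  have hD : Matrix.diagonal (dPlus m (νu : F)) * Matrix.diagonal (dPlus m (νu : F)) =
      (νu : F) • (((dGL (scalGL νu : GL (Fin m) F) : ↥(Cfsg.isometryGroup F ⇑(QPlus F m))) :
        GL (Fin m ⊕ Fin m) F) : Matrix (Fin m ⊕ Fin m) (Fin m ⊕ Fin m) F) := by
    have := congrArg (fun g : ↥(Cfsg.Geo.quadSimilarityGroup (⇑(QPlus F m))) =>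
      ((g : GL (Fin m ⊕ Fin m) F) : Matrix (Fin m ⊕ Fin m) (Fin m ⊕ Fin m) F)) (dSimPlus_sq m νu)
    have h3 : Matrix.diagonal (dPlus m (νu : F)) * Matrix.diagonal (dPlus m (νu : F)) =
        ((scalGL νu : GL (Fin m ⊕ Fin m) F) : Matrix (Fin m ⊕ Fin m) (Fin m ⊕ Fin m) F) *
        (((dGL (scalGL νu : GL (Fin m) F) : ↥(Cfsg.isometryGroup F ⇑(QPlus F m))) :
          GL (Fin m ⊕ Fin m) F) : Matrix (Fin m ⊕ Fin m) (Fin m ⊕ Fin m) F) := this
    rw [h3, scalGL_val, Matrix.smul_mul, Matrix.one_mul]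
  have hB := bMinus_sq a b x y hν h1
  rw [hxy] at hB
  rw [coe_embL, coe_embR, scalGL_val, Matrix.smul_mul, Matrix.one_mul]
  unfold hMat
  rw [Matrix.fromBlocks_multiply, Matrix.fromBlocks_multiply, Matrix.fromBlocks_smul, hD, hB]
  simp

theorem PhiO_hSim_sq_not_mem (h2 : (2 : F) ≠ 0) (m : ℕ) (hm : 3 ≤ m) (a b x y : F) (νu : Fˣ)
    (hxy : x ^ 2 + a * x * y + b * y ^ 2 = νu) (hνns : ¬ IsSquare (νu : F)) (hev : Even m)
    (hD : 4 * b - a ^ 2 ≠ 0)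
    (hneg : negIso (QS (QPlus F m) (Qb a b)) ∈
      commutator ↥(Cfsg.isometryGroup F ⇑(QS (QPlus F m) (Qb a b)))) :
    PhiO (⇑(QS (QPlus F m) (Qb a b))) (hSim m a b x y νu hxy * hSim m a b x y νu hxy) ∉
      Cfsg.Inn (Cfsg.POmega F (⇑(QS (QPlus F m) (Qb a b)))) := by
  have hcard : Fintype.card ((Fin m ⊕ Fin m) ⊕ Fin 2) = 2 * (m + 1) := by
    rw [Fintype.card_sum, Fintype.card_sum, Fintype.card_fin, Fintype.card_fin]
    ring
  have hn : 7 ≤ Fintype.card ((Fin m ⊕ Fin m) ⊕ Fin 2) := by rw [hcard]; omega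
  have hQ : (polarBilin (QS (QPlus F m) (Qb a b))).Nondegenerate := by
    rw [← QMinus_eq_QS]
    exact QMinus_nondeg m a b hD
  obtain ⟨θ, hθ⟩ := exists_spinor (QS (QPlus F m) (Qb a b)) h2 hQ
  obtain ⟨δ, hδ, hδ'⟩ := exists_detSign (QS (QPlus F m) (Qb a b)) h2 hQ
  have key := PhiO_mem_inn_iff_theta (QS (QPlus F m) (Qb a b)) h2 hQ hn θ δ hθ hδ hneg
  have hν0 : Qb a b ![x, y] ≠ 0 := by
    rw [Qb_vb, hxy]
    exact Units.ne_zero νu
  have h10 : Qb a b ![1, 0] ≠ 0 := by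
    rw [Qb_v1]
    exact one_ne_zero
  have hθ' : IsTheta (QS (QPlus F m) (Qb a b)) θ := hθ
  have hδI : IsDelta (QS (QPlus F m) (Qb a b)) δ := hδ
  have hθL := IsTheta.comp_embL (QPlus F m) (Qb a b) hθ'
  have hθR := IsTheta.comp_embR (QPlus F m) (Qb a b) hθ'
  have hδL := IsDelta.comp_embL (QPlus F m) (Qb a b) hδI
  have hδR := IsDelta.comp_embR (QPlus F m) (Qb a b) hδI
  have hne : Fintype.card F ≠ 2 ∨ Fintype.card (Fin m ⊕ Fin m) ≠ 4 := by
    right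
    rw [Fintype.card_sum, Fintype.card_fin]
    omega
  -- values of the characters
  have t1 : θ (embL (QPlus F m) (Qb a b) (dGL (scalGL νu))) = 1 := by
    have := theta_dGL h2 _ hθL (scalGL νu : GL (Fin m) F)
    rw [MonoidHom.comp_apply] at this
    rw [this]
    apply Units.ext
    rw [chiDet_apply, det_scalGL, Fintype.card_fin, map_pow,
      quadraticChar_neg_one_iff_not_isSquare.mpr hνns, hev.neg_one_pow]
    rfl
  have t2 : θ (embR (QPlus F m) (Qb a b) (reflG (Qb a b) ![x, y] hν0)) = -1 := by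
    have := hθR ![x, y] hν0
    rw [MonoidHom.comp_apply, Qb_vb, hxy, quadraticChar_neg_one_iff_not_isSquare.mpr hνns] at this
    exact Units.ext this
  have t3 : θ (embR (QPlus F m) (Qb a b) (reflG (Qb a b) ![1, 0] h10)) = 1 := by
    have := hθR ![1, 0] h10
    rw [MonoidHom.comp_apply, Qb_v1, map_one] at this
    exact Units.ext this
  have d1 : δ (embL (QPlus F m) (Qb a b) (dGL (scalGL νu))) = 1 := by
    have := delta_dGL hne _ hδL (scalGL νu : GL (Fin m) F)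
    rwa [MonoidHom.comp_apply] at this
  have d2 : δ (embR (QPlus F m) (Qb a b) (reflG (Qb a b) ![x, y] hν0)) = -1 := by
    have := hδR ![x, y] hν0
    rwa [MonoidHom.comp_apply] at this
  have d3 : δ (embR (QPlus F m) (Qb a b) (reflG (Qb a b) ![1, 0] h10)) = -1 := by
    have := hδR ![1, 0] h10
    rwa [MonoidHom.comp_apply] at this
  rw [hSim_sq m a b x y νu hxy hν0 h10, map_mul, PhiO_scalSim, one_mul,
    key _ (by rw [map_mul, map_mul, map_mul, d1, d2, d3]; rfl),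
    map_mul, map_mul, map_mul, t1, t2, t3]
  decide

theorem exists_h_minus (h2 : (2 : F) ≠ 0) (m : ℕ) (hm : 3 ≤ m) (a b : F)
    (hD : 4 * b - a ^ 2 ≠ 0) (Q : QuadraticForm F ((Fin m ⊕ Fin m) ⊕ Fin 2 → F))
    (hQeq : Q = QS (QPlus F m) (Qb a b)) (hv : ∃ v, Q v ≠ 0) :
    ∃ h : ↥(Cfsg.Geo.quadSimilarityGroup (⇑Q)), epsHom Q hv (m + 1) h = 1 ∧
      ¬ IsSquare ((muFun Q h : Fˣ) : F) ∧
      (Even m → negIso Q ∈ commutator ↥(Cfsg.isometryGroup F ⇑Q) →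
        PhiO (⇑Q) (h * h) ∉ Cfsg.Inn (Cfsg.POmega F (⇑Q))) := by
  subst hQeq
  obtain ⟨ν, hν⟩ := FiniteField.exists_nonsquare (ringChar_ne_two_of (F := F) h2)
  have hν0 : ν ≠ 0 := by
    rintro rfl
    exact hν ⟨0, by ring⟩
  obtain ⟨νu, hνu⟩ : ∃ νu : Fˣ, (νu : F) = ν := ⟨Units.mk0 ν hν0, rfl⟩
  obtain ⟨x, y, hxy⟩ := exists_binary_rep h2 a b hD ν
  rw [← hνu] at hxy hν
  refine ⟨hSim m a b x y νu hxy, ?_, ?_, ?_⟩
  · rw [epsHom_eq_one_iff, hSim_coe, det_hMat, hxy, muFun_hSim, pow_succ]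
  · rw [muFun_hSim]
    exact hν
  · intro hev hneg
    exact PhiO_hSim_sq_not_mem h2 m hm a b x y νu hxy hν hev hD hneg

end hminus2

end Cfsg.Agent.helper14
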