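import Mathlib
import Cfsg.Prelude.Def_LocalEven
import Cfsg.Agent.Lib_helper11_SL2U
import Cfsg.Agent.Lib_helper7_SN

set_option autoImplicit false

/-! Natural `SL₂(F)`-modules inside an ambient group: normalized data and basic consequences. -/

namespace Cfsg.Agent.helper14.NatSL2

open Matrix Cfsg.Agent.helper11.SL2U Cfsg.Agent.helper7

section Mat
variable {F : Type*} [Field F]

theorem uS_mulVec (b : F) (w : Fin 2 → F) :
    (uS b : Matrix (Fin 2) (Fin 2) F) *ᵥ w = ![w 0 + b * w 1, w 1] := by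
  ext i
  fin_cases i <;> simp [coe_uS, Matrix.mulVec, dotProduct, Fin.sum_univ_two]

/-- the diagonal torus element -/
def dS (a : F) (ha : a ≠ 0) : SpecialLinearGroup (Fin 2) F :=
  ⟨!![a, 0; 0, a⁻¹], by simp [det_fin_two_of, ha]⟩

theorem coe_dS (a : F) (ha : a ≠ 0) : (dS a ha : Matrix (Fin 2) (Fin 2) F) = !![a, 0; 0, a⁻¹] := rfl

theorem dS_mulVec (a : F) (ha : a ≠ 0) (w : Fin 2 → F) :
    (dS a ha : Matrix (Fin 2) (Fin 2) F) *ᵥ w = ![a * w 0, a⁻¹ * w 1] := by
  ext i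
  fin_cases i <;> simp [coe_dS, Matrix.mulVec, dotProduct, Fin.sum_univ_two]

theorem inv_mulVec_one (M : SpecialLinearGroup (Fin 2) F) (w : Fin 2 → F) :
    ((M⁻¹ : SpecialLinearGroup (Fin 2) F) : Matrix (Fin 2) (Fin 2) F).mulVec w 1 =
      -(M : Matrix (Fin 2) (Fin 2) F) 1 0 * w 0 + (M : Matrix (Fin 2) (Fin 2) F) 0 0 * w 1 := by
  rw [Matrix.SpecialLinearGroup.coe_inv, Matrix.adjugate_fin_two]
  simp [Matrix.mulVec, dotProduct, Fin.sum_univ_two]

theorem inv_lower_left (M : SpecialLinearGroup (Fin 2) F) :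
    ((M⁻¹ : SpecialLinearGroup (Fin 2) F) : Matrix (Fin 2) (Fin 2) F) 1 0 =
      -(M : Matrix (Fin 2) (Fin 2) F) 1 0 := by
  rw [Matrix.SpecialLinearGroup.coe_inv, Matrix.adjugate_fin_two]
  simp

theorem vec_ext {w w' : Fin 2 → F} (h0 : w 0 = w' 0) (h1 : w 1 = w' 1) : w = w' := by
  ext i
  fin_cases i
  · exact h0
  · exact h1

/-- an element of `SL₂` over a field of characteristic `p` fixing a nonzero vector has `p`-th power `1`. -/
theorem pow_p_eq_one_of_fixed {p : ℕ} [Fact p.Prime] [CharP F p] (M : SpecialLinearGroup (Fin 2) F)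
    (w : Fin 2 → F) (hw : w ≠ 0) (hM : (M : Matrix (Fin 2) (Fin 2) F) *ᵥ w = w) : M ^ p = 1 := by
  have hp : p.Prime := Fact.out
  obtain ⟨a, ha⟩ : ∃ a, a = (M : Matrix (Fin 2) (Fin 2) F) 0 0 := ⟨_, rfl⟩
  obtain ⟨b, hb⟩ : ∃ b, b = (M : Matrix (Fin 2) (Fin 2) F) 0 1 := ⟨_, rfl⟩
  obtain ⟨c, hc⟩ : ∃ c, c = (M : Matrix (Fin 2) (Fin 2) F) 1 0 := ⟨_, rfl⟩
  obtain ⟨d, hd⟩ : ∃ d, d = (M : Matrix (Fin 2) (Fin 2) F) 1 1 := ⟨_, rfl⟩
  have hdet : a * d - b * c = 1 := by
    have := M.2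
    rw [Matrix.det_fin_two] at this
    rw [ha, hb, hc, hd]; exact this
  have h0 : a * w 0 + b * w 1 = w 0 := by
    have := congrFun hM 0
    simpa [Matrix.mulVec, dotProduct, Fin.sum_univ_two, ← ha, ← hb] using this
  have h1 : c * w 0 + d * w 1 = w 1 := by
    have := congrFun hM 1
    simpa [Matrix.mulVec, dotProduct, Fin.sum_univ_two, ← hc, ← hd] using this
  have htr : a + d = 2 := by
    have hw' : w 0 ≠ 0 ∨ w 1 ≠ 0 := by
      by_contra hcon
      push Not at hcon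
      exact hw (vec_ext hcon.1 hcon.2)
    have key0 : (2 - (a + d)) * w 0 = 0 := by linear_combination (d - 1) * h0 - b * h1 - w 0 * hdet
    have key1 : (2 - (a + d)) * w 1 = 0 := by linear_combination (a - 1) * h1 - c * h0 - w 1 * hdet
    rcases hw' with h | h
    · have := (mul_eq_zero.1 key0).resolve_right h
      linear_combination -this
    · have := (mul_eq_zero.1 key1).resolve_right h
      linear_combination -this
  obtain ⟨N, hN⟩ : ∃ N : Matrix (Fin 2) (Fin 2) F, N = (M : Matrix (Fin 2) (Fin 2) F) - 1 := ⟨_, rfl⟩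
  have hMeq : (M : Matrix (Fin 2) (Fin 2) F) = !![a, b; c, d] := by
    ext i j
    fin_cases i <;> fin_cases j <;> simp [ha, hb, hc, hd]
  have hN2 : N * N = 0 := by
    rw [hN, hMeq]
    ext i j
    fin_cases i <;> fin_cases j <;> simp [Matrix.mul_apply, Fin.sum_univ_two]
    · linear_combination a * htr - hdet
    · linear_combination b * htr
    · linear_combination c * htr
    · linear_combination d * htr - hdet
  have hNp : N ^ p = 0 := by
    obtain ⟨k, hk⟩ : ∃ k, p = 2 + k := ⟨p - 2, by have := hp.two_le; omega⟩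
    rw [hk, pow_add, pow_two, hN2, zero_mul]
  have hM1 : (M : Matrix (Fin 2) (Fin 2) F) = 1 + N := by rw [hN]; abel
  apply Subtype.ext
  rw [Matrix.SpecialLinearGroup.coe_pow, Matrix.SpecialLinearGroup.coe_one, hM1,
    add_pow_char_of_commute (p := p) (Commute.one_left N), one_pow, hNp, add_zero]

end Mat

variable {G : Type*} [Group G] {F : Type*} [Field F]

/-- normalized data for a natural module: `vec` identifies `V` with `F²`, `ρ` identifies `L` with
`SL₂(F)`, and `T` corresponds to the upper unitriangular group. -/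
structure Data (V L T : Subgroup G) (ρ : L →* SpecialLinearGroup (Fin 2) F)
    (vec : V → (Fin 2 → F)) : Prop where
  norm : L ≤ Subgroup.normalizer (V : Set G)
  bij : Function.Bijective ρ
  vbij : Function.Bijective vec
  vmul : ∀ v w : V, vec (v * w) = vec v + vec w
  act : ∀ (l : L) (v : V), ∃ w : V, (w : G) = (l : G) * (v : G) * (l : G)⁻¹ ∧
    vec w = ((ρ l : SpecialLinearGroup (Fin 2) F) : Matrix (Fin 2) (Fin 2) F) *ᵥ vec v
  mem_T : ∀ x : G, x ∈ T ↔ ∃ l : L, (l : G) = x ∧ ρ l ∈ U F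

namespace Data

variable {V L T : Subgroup G} {ρ : L →* SpecialLinearGroup (Fin 2) F} {vec : V → (Fin 2 → F)}

theorem conj_mem (D : Data V L T ρ vec) (l : L) (v : V) : (l : G) * (v : G) * (l : G)⁻¹ ∈ V := by
  obtain ⟨w, hw, -⟩ := D.act l v
  rw [← hw]; exact w.2

theorem vec_conj (D : Data V L T ρ vec) (l : L) (v : V) :
    vec ⟨(l : G) * (v : G) * (l : G)⁻¹, D.conj_mem l v⟩ =
      ((ρ l : SpecialLinearGroup (Fin 2) F) : Matrix (Fin 2) (Fin 2) F) *ᵥ vec v := by
  obtain ⟨w, hw, hv⟩ := D.act l v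
  have : w = ⟨_, D.conj_mem l v⟩ := Subtype.ext hw
  rw [← this]; exact hv

theorem vone (D : Data V L T ρ vec) : vec 1 = 0 := by
  have := D.vmul 1 1
  rw [mul_one] at this
  exact left_eq_add.1 this

theorem vinv (D : Data V L T ρ vec) (v : V) : vec v⁻¹ = -vec v := by
  have := D.vmul v v⁻¹
  rw [mul_inv_cancel, D.vone] at this
  exact (neg_eq_of_add_eq_zero_right this.symm).symm

theorem vec_eq_zero_iff (D : Data V L T ρ vec) (v : V) : vec v = 0 ↔ v = 1 := by
  constructor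
  · intro h
    apply D.vbij.1
    rw [h, D.vone]
  · rintro rfl
    exact D.vone

theorem comm (D : Data V L T ρ vec) {x y : G} (hx : x ∈ V) (hy : y ∈ V) : x * y = y * x := by
  have : (⟨x, hx⟩ * ⟨y, hy⟩ : V) = ⟨y, hy⟩ * ⟨x, hx⟩ := by
    apply D.vbij.1
    rw [D.vmul, D.vmul, add_comm]
  exact congrArg Subtype.val this

theorem exists_vec (D : Data V L T ρ vec) (w : Fin 2 → F) : ∃ v : V, vec v = w := D.vbij.2 w

theorem exists_l (D : Data V L T ρ vec) (b : F) : ∃ l : L, ρ l = uS b ∧ (l : G) ∈ T := by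
  obtain ⟨l, hl⟩ := D.bij.2 (uS b)
  exact ⟨l, hl, (D.mem_T _).2 ⟨l, rfl, hl ▸ uS_mem b⟩⟩

theorem of_mem_T (D : Data V L T ρ vec) {t : G} (ht : t ∈ T) :
    ∃ l : L, (l : G) = t ∧ ∃ b : F, ρ l = uS b ∧ (t ≠ 1 → b ≠ 0) := by
  obtain ⟨l, hlt, hU⟩ := (D.mem_T t).1 ht
  obtain ⟨b, hb⟩ := exists_of_mem_U hU
  refine ⟨l, hlt, b, hb, ?_⟩
  intro ht1 hb0
  apply ht1
  rw [hb0, uS_zero] at hb
  have : l = 1 := D.bij.1 (by rw [hb, map_one])
  rw [← hlt, this]; rfl

theorem T_le_L (D : Data V L T ρ vec) : T ≤ L := by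
  intro t ht
  obtain ⟨l, hlt, -⟩ := (D.mem_T t).1 ht
  rw [← hlt]; exact l.2

theorem fixed_iff (D : Data V L T ρ vec) (l : L) (b : F) (hl : ρ l = uS b) (v : V) :
    (l : G) * (v : G) = (v : G) * (l : G) ↔ b * vec v 1 = 0 := by
  have h1 : (l : G) * (v : G) = (v : G) * (l : G) ↔
      (⟨(l : G) * (v : G) * (l : G)⁻¹, D.conj_mem l v⟩ : V) = v := by
    constructor
    · intro h
      apply Subtype.ext
      show (l : G) * (v : G) * (l : G)⁻¹ = (v : G)
      rw [h]; group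
    · intro h
      have h' : (l : G) * (v : G) * (l : G)⁻¹ = (v : G) := congrArg Subtype.val h
      calc (l : G) * (v : G) = ((l : G) * (v : G) * (l : G)⁻¹) * (l : G) := by group
        _ = (v : G) * (l : G) := by rw [h']
  rw [h1]
  constructor
  · intro h
    have h2 := D.vec_conj l v
    rw [h, hl, uS_mulVec] at h2
    have h3 := congrFun h2 0
    simp only [Matrix.cons_val_zero] at h3
    have : vec v 0 + b * vec v 1 = vec v 0 + 0 := by rw [add_zero]; exact h3.symm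
    exact add_left_cancel this
  · intro h
    apply D.vbij.1
    rw [D.vec_conj l v, hl, uS_mulVec]
    apply vec_ext
    · simp [h]
    · simp

theorem mem_cent_T_iff (D : Data V L T ρ vec) (v : V) :
    (v : G) ∈ Subgroup.centralizer (T : Set G) ↔ vec v 1 = 0 := by
  rw [Subgroup.mem_centralizer_iff]
  constructor
  · intro h
    obtain ⟨l, hl, hlT⟩ := D.exists_l 1
    have := (D.fixed_iff l 1 hl v).1 (h _ hlT)
    rwa [one_mul] at this
  · intro h t ht
    obtain ⟨l, hlt, b, hb, -⟩ := D.of_mem_T ht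
    rw [← hlt]
    exact (D.fixed_iff l b hb v).2 (by rw [h, mul_zero])

theorem mem_cent_single_iff (D : Data V L T ρ vec) (v : V) {s : G} (hs : s ∈ T) (hs1 : s ≠ 1) :
    (v : G) ∈ Subgroup.centralizer ({s} : Set G) ↔ vec v 1 = 0 := by
  obtain ⟨l, hlt, b, hb, hb0⟩ := D.of_mem_T hs
  rw [Subgroup.mem_centralizer_iff]
  constructor
  · intro h
    have h1 := h s (Set.mem_singleton s)
    rw [← hlt] at h1
    exact (mul_eq_zero.1 ((D.fixed_iff l b hb v).1 h1)).resolve_left (hb0 hs1)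
  · intro h t ht
    rw [Set.mem_singleton_iff.1 ht, ← hlt]
    exact (D.fixed_iff l b hb v).2 (by rw [h, mul_zero])

/-- the commutator `[v, l]` as an element of `V` with its coordinates -/
theorem comm_vec (D : Data V L T ρ vec) (v : V) (l : L) (b : F) (hl : ρ l = uS b) :
    ∃ w : V, (w : G) = (v : G) * (l : G) * (v : G)⁻¹ * (l : G)⁻¹ ∧ vec w = ![-(b * vec v 1), 0] := by
  refine ⟨v * ⟨(l : G) * ((v⁻¹ : V) : G) * (l : G)⁻¹, D.conj_mem l v⁻¹⟩, ?_, ?_⟩
  · show (v : G) * ((l : G) * ((v⁻¹ : V) : G) * (l : G)⁻¹) = _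
    rw [Subgroup.coe_inv]; group
  · rw [D.vmul, D.vec_conj, hl, uS_mulVec, D.vinv]
    apply vec_ext
    · simp
    · simp

/-- elements of `L` mapping to upper triangular matrices normalize `T`. -/
theorem conj_T_of_borel (D : Data V L T ρ vec) (l : L)
    (h : ((ρ l : SpecialLinearGroup (Fin 2) F) : Matrix (Fin 2) (Fin 2) F) 1 0 = 0) {t : G}
    (ht : t ∈ T) : (l : G) * t * (l : G)⁻¹ ∈ T := by
  obtain ⟨m, hmt, b, hb, -⟩ := D.of_mem_T ht
  rw [D.mem_T]
  refine ⟨l * m * l⁻¹, ?_, ?_⟩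
  · rw [← hmt]; rfl
  · rw [map_mul, map_mul, map_inv, hb, borel_conj _ h]
    exact uS_mem _

theorem mem_normalizer_T_of_borel (D : Data V L T ρ vec) (l : L)
    (h : ((ρ l : SpecialLinearGroup (Fin 2) F) : Matrix (Fin 2) (Fin 2) F) 1 0 = 0) :
    (l : G) ∈ Subgroup.normalizer (T : Set G) := by
  rw [Subgroup.mem_normalizer_iff]
  intro t
  constructor
  · exact fun ht => D.conj_T_of_borel l h ht
  · intro ht
    have h' : ((ρ l⁻¹ : SpecialLinearGroup (Fin 2) F) : Matrix (Fin 2) (Fin 2) F) 1 0 = 0 := by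
      rw [map_inv, inv_lower_left, h, neg_zero]
    have := D.conj_T_of_borel l⁻¹ h' ht
    have e : ((l⁻¹ : L) : G) * ((l : G) * t * (l : G)⁻¹) * ((l⁻¹ : L) : G)⁻¹ = t := by
      rw [Subgroup.coe_inv]; group
    rwa [e] at this

/-- `v` centralizes the conjugate `g T g⁻¹` iff `ρ(g)⁻¹ vec v` has second coordinate `0`. -/
theorem mem_cent_cj_T_iff (D : Data V L T ρ vec) (g : L) (v : V) :
    (v : G) ∈ Subgroup.centralizer ((cj (g : G) T : Subgroup G) : Set G) ↔
      -((ρ g : SpecialLinearGroup (Fin 2) F) : Matrix (Fin 2) (Fin 2) F) 1 0 * vec v 0 +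
        ((ρ g : SpecialLinearGroup (Fin 2) F) : Matrix (Fin 2) (Fin 2) F) 0 0 * vec v 1 = 0 := by
  rw [← cj_centralizer, mem_cj]
  have hmem := D.conj_mem g⁻¹ v
  have e : ((g⁻¹ : L) : G) * (v : G) * ((g⁻¹ : L) : G)⁻¹ = (g : G)⁻¹ * (v : G) * (g : G) := by
    rw [Subgroup.coe_inv, inv_inv]
  rw [e] at hmem
  have h1 := D.mem_cent_T_iff ⟨(g : G)⁻¹ * (v : G) * (g : G), hmem⟩
  have h2 : vec ⟨(g : G)⁻¹ * (v : G) * (g : G), hmem⟩ =
      ((ρ g⁻¹ : SpecialLinearGroup (Fin 2) F) : Matrix (Fin 2) (Fin 2) F) *ᵥ vec v := by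
    rw [← D.vec_conj g⁻¹ v]
    congr 1
    exact Subtype.ext e.symm
  rw [h1, h2, map_inv, inv_mulVec_one]

end Data

section Build

theorem charP_of_card {F : Type*} [Field F] [Fintype F] {p n : ℕ} [Fact p.Prime]
    (hF : Fintype.card F = p ^ n) : CharP F p := by
  obtain ⟨q, hq⟩ := CharP.exists F
  haveI := hq
  have hqp : q.Prime := CharP.char_is_prime F q
  haveI : Fact q.Prime := ⟨hqp⟩
  obtain ⟨m, -, hm⟩ := FiniteField.card F q
  have hp : p.Prime := Fact.out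
  have hn0 : n ≠ 0 := by
    rintro rfl
    rw [pow_zero] at hF
    have := Fintype.one_lt_card (α := F)
    omega
  have h1 : p ∣ q ^ (m : ℕ) := by rw [← hm, hF]; exact dvd_pow_self p hn0
  have hpq : p ∣ q := hp.dvd_of_dvd_pow h1
  have : p = q := (Nat.prime_dvd_prime_iff_eq hp hqp).1 hpq
  subst this; exact hq

theorem exists_data {G : Type*} [Group G] [Finite G] {p : ℕ} [Fact p.Prime] {F : Type*} [Field F]
    [Fintype F] [CharP F p] (V L : Subgroup G) (hnat : Cfsg.IsNaturalSL2Module F V L)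
    (hf : L ⊓ Subgroup.centralizer (V : Set G) = ⊥) (S : Sylow p ↥L) (T : Subgroup G)
    (hT : T = ((S : Subgroup ↥L).map L.subtype)) :
    ∃ (ρ : L →* SpecialLinearGroup (Fin 2) F) (vec : V → (Fin 2 → F)), Data V L T ρ vec := by
  obtain ⟨hnorm, ρ, ψ, hsurj, hker, hact⟩ := hnat
  have hinj : Function.Injective ρ := by
    rw [injective_iff_map_eq_one]
    intro l hl
    have h1 : l ∈ ρ.ker := hl
    rw [hker, Subgroup.mem_subgroupOf] at h1
    have h2 : (l : G) ∈ L ⊓ Subgroup.centralizer (V : Set G) := ⟨l.2, h1⟩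
    rw [hf] at h2
    exact Subtype.ext (Subgroup.mem_bot.1 h2)
  obtain ⟨g, hg⟩ := MulAction.exists_smul_eq (SpecialLinearGroup (Fin 2) F) (USylow (F := F) p)
    (S.mapSurjective hsurj)
  have hgg : ((g : Matrix (Fin 2) (Fin 2) F)) * ((g⁻¹ : SpecialLinearGroup (Fin 2) F) :
      Matrix (Fin 2) (Fin 2) F) = 1 := by
    rw [← Matrix.SpecialLinearGroup.coe_mul, mul_inv_cancel, Matrix.SpecialLinearGroup.coe_one]
  refine ⟨(MulAut.conj g⁻¹).toMonoidHom.comp ρ,
    fun v => ((g⁻¹ : SpecialLinearGroup (Fin 2) F) : Matrix (Fin 2) (Fin 2) F) *ᵥ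
      ψ (Additive.ofMul v), hnorm, ?_, ?_, ?_, ?_, ?_⟩
  · exact (MulAut.conj g⁻¹).bijective.comp ⟨hinj, hsurj⟩
  · constructor
    · intro v w h
      have h' := congrArg (fun x => (g : Matrix (Fin 2) (Fin 2) F) *ᵥ x) h
      simp only [Matrix.mulVec_mulVec, hgg, Matrix.one_mulVec] at h'
      exact Additive.ofMul.injective (ψ.injective h')
    · intro w
      obtain ⟨a, ha⟩ := ψ.surjective ((g : Matrix (Fin 2) (Fin 2) F) *ᵥ w)
      refine ⟨Additive.toMul a, ?_⟩
      show ((g⁻¹ : SpecialLinearGroup (Fin 2) F) : Matrix (Fin 2) (Fin 2) F) *ᵥ ψ a = w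
      rw [ha, Matrix.mulVec_mulVec, ← Matrix.SpecialLinearGroup.coe_mul, inv_mul_cancel,
        Matrix.SpecialLinearGroup.coe_one, Matrix.one_mulVec]
  · intro v w
    show _ *ᵥ ψ (Additive.ofMul (v * w)) = _
    rw [ofMul_mul, map_add, Matrix.mulVec_add]
  · intro l v
    obtain ⟨w, hw, hψ⟩ := hact l v
    refine ⟨w, hw, ?_⟩
    show _ *ᵥ ψ (Additive.ofMul w) = (((MulAut.conj g⁻¹) (ρ l) : SpecialLinearGroup (Fin 2) F) :
      Matrix (Fin 2) (Fin 2) F) *ᵥ (_ *ᵥ ψ (Additive.ofMul v))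
    rw [hψ, Matrix.mulVec_mulVec, Matrix.mulVec_mulVec, ← Matrix.SpecialLinearGroup.coe_mul,
      ← Matrix.SpecialLinearGroup.coe_mul, MulAut.conj_apply]
    congr 2
    rw [inv_inv, mul_inv_cancel_right]
  · intro x
    rw [hT]
    have key : ∀ l : L, l ∈ (S : Subgroup L) ↔ (MulAut.conj g⁻¹) (ρ l) ∈ U F := by
      intro l
      have h1 : l ∈ (S : Subgroup L) ↔ ρ l ∈ (S : Subgroup L).map ρ := by
        constructor
        · exact fun h => Subgroup.mem_map_of_mem ρ h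
        · rintro ⟨l', hl', he⟩
          rw [← hinj he]; exact hl'
      have h2 : ρ l ∈ (S : Subgroup L).map ρ ↔ ρ l ∈ g • USylow (F := F) p := by
        rw [hg]; rfl
      rw [h1, h2, mem_smul_sylow_iff, MulAut.conj_apply, inv_inv]
      show _ ∈ ((USylow p : Sylow p (SpecialLinearGroup (Fin 2) F)) :
        Subgroup (SpecialLinearGroup (Fin 2) F)) ↔ _
      rw [coe_USylow]
    constructor
    · rintro ⟨l, hl, rfl⟩
      exact ⟨l, rfl, (key l).1 hl⟩
    · rintro ⟨l, rfl, hl⟩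
      exact ⟨l, (key l).2 hl, rfl⟩

end Build

end Cfsg.Agent.helper14.NatSL2
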