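import Mathlib
import Cfsg.Agent.Lib_helper14_PsuG
import Cfsg.Agent.Lib_helper14_H90
import Cfsg.Agent.Lib_helper14_GraphD

set_option autoImplicit false
set_option linter.unusedSectionVars false
set_option linter.unusedVariables false

/-! The relation between unitary graph automorphisms and bilinear forms over the fixed field. -/

namespace Cfsg.Agent.helper14.PsuAut

open Matrix Cfsg Cfsg.Agent.helper29 Cfsg.Agent.helper11.HermCount Cfsg.Agent.helper11.Unitary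
open Cfsg.Agent.helper14

section rel

variable {F : Type*} [Field F] [Fintype F] {F₀ : Type*} [Field F₀] {q n : ℕ}

local notation "MM" => Matrix (Fin n) (Fin n) F
local notation "MM₀" => Matrix (Fin n) (Fin n) F₀

/-- the unitary matrix `N` corresponds to the form `M₀` over the fixed field -/
def Rel (σ : F ≃+* F) (ι : F₀ →+* F) (N : ↥(Cfsg.GU n F q)) (M₀ : GL (Fin n) F₀) : Prop :=
  ∃ (P : MM) (a b : F), P.det ≠ 0 ∧ a ≠ 0 ∧ b ≠ 0 ∧
    Pᵀ * P.map σ = a • (M₀ : MM₀).map ι ∧ Pᵀ * gmat N * P = b • (M₀ : MM₀).map ι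

theorem frob_norm (hF : Fintype.card F = q ^ 2) (σ : F ≃+* F) (hq : ∀ a, σ a = a ^ q)
    (t : F) (ht : σ t = t) (ht0 : t ≠ 0) : ∃ ν : F, ν * σ ν = t := by
  rw [hq] at ht
  obtain ⟨l, hl⟩ := Cfsg.Agent.helper29.exists_norm hF t ht ht0
  exact ⟨l, by rw [hq]; exact hl⟩

theorem exists_twist_unit (hF : Fintype.card F = q ^ 2) (σ : F ≃+* F) (hq : ∀ a, σ a = a ^ q)
    (ε : F) (hε : ε = 1 ∨ ε = -1) : ∃ e : F, e ≠ 0 ∧ σ e = ε * e := by
  rcases hε with rfl | rfl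
  · exact ⟨1, one_ne_zero, by rw [map_one, mul_one]⟩
  · obtain ⟨e, he0, he⟩ := exists_eps hF
    exact ⟨e, he0, by rw [hq, he]; ring⟩

theorem exists_norm_eps (hF : Fintype.card F = q ^ 2) (σ : F ≃+* F) (hq : ∀ a, σ a = a ^ q)
    (ε : F) (hε : ε = 1 ∨ ε = -1) : ∃ κ : F, κ ≠ 0 ∧ κ * σ κ = ε := by
  rcases hε with rfl | rfl
  · exact ⟨1, one_ne_zero, by rw [map_one, mul_one]⟩
  · have h1 : σ (-1 : F) = -1 := by rw [map_neg, map_one]
    obtain ⟨κ, hκ⟩ := frob_norm hF σ hq (-1) h1 (neg_ne_zero.mpr one_ne_zero)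
    refine ⟨κ, ?_, hκ⟩
    rintro rfl
    rw [zero_mul] at hκ
    exact (neg_ne_zero.mpr one_ne_zero) hκ.symm

/-- every (skew-)symmetric form over the fixed field comes from a unitary matrix -/
theorem exists_rel (hF : Fintype.card F = q ^ 2) (hn : 1 ≤ n) (σ : F ≃+* F)
    (hq : ∀ a, σ a = a ^ q) (ι : F₀ →+* F) (hι : ∀ a : F, σ a = a ↔ a ∈ ι.range)
    (M₀ : GL (Fin n) F₀) (ε₀ : F₀) (hε₀ : ε₀ = 1 ∨ ε₀ = -1)
    (hM₀ : (M₀ : MM₀)ᵀ = ε₀ • (M₀ : MM₀)) :
    ∃ N : ↥(Cfsg.GU n F q), Rel σ ι N M₀ ∧ (gmat N)ᵀ = ι ε₀ • gmat N := by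
  have hinv := frob_inv hF σ hq
  have hne := frob_ne_refl hF σ hq
  have hιε : ι ε₀ = 1 ∨ ι ε₀ = -1 := by
    rcases hε₀ with rfl | rfl
    · left; rw [map_one]
    · right; rw [map_neg, map_one]
  have hεsq : ι ε₀ * ι ε₀ = 1 := by
    rcases hιε with h | h <;> rw [h] <;> ring
  obtain ⟨e, he0, he⟩ := exists_twist_unit hF σ hq (ι ε₀) hιε
  obtain ⟨κ, hκ0, hκ⟩ := exists_norm_eps hF σ hq (ι ε₀) hιε
  have hM₀det : (M₀ : MM₀).det ≠ 0 := Matrix.GeneralLinearGroup.det_ne_zero M₀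
  obtain ⟨X, hX⟩ : ∃ X : MM, X = e • (M₀ : MM₀).map ι := ⟨_, rfl⟩
  have hXdet : X.det ≠ 0 := by
    rw [hX, Matrix.det_smul]
    exact mul_ne_zero (pow_ne_zero _ he0) (det_map_ne_zero ι _ hM₀det)
  have hXσ : X.map σ = ι ε₀ • X := by
    rw [hX, map_smulσ, map_fixed σ ι hι, he, smul_smul]
  have hXT : Xᵀ = ι ε₀ • X := by
    rw [hX, Matrix.transpose_smul, ← Matrix.transpose_map, hM₀, map_smulι, smul_smul, smul_smul,
      mul_comm]
  have hherm : ∀ i j, X i j = σ (X j i) := by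
    intro i j
    have h1 : σ (X j i) = (X.map σ) j i := rfl
    have h2 : X j i = Xᵀ i j := rfl
    rw [h1, hXσ, Matrix.smul_apply, h2, hXT, Matrix.smul_apply, smul_eq_mul, smul_eq_mul,
      ← mul_assoc, hεsq, one_mul]
  obtain ⟨h, hh⟩ := herm_std σ hne hinv (Matrix.GeneralLinearGroup.mkOfDetNeZero X hXdet) hherm
  have hh2 := congrArg (fun g : GL (Fin n) F => (g : MM)) hh
  simp only [Units.val_mul] at hh2
  rw [← gInvT_map, gInvT_inv_val, glmap_val] at hh2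
  have hh3 : X = (h : MM) * ((h : MM).map σ)ᵀ := hh2
  obtain ⟨P, hP⟩ : ∃ P : MM, P = (h : MM)ᵀ := ⟨_, rfl⟩
  have hPdet : P.det ≠ 0 := by
    rw [hP, Matrix.det_transpose]
    exact gl_det_ne_zero h
  have hPX : Pᵀ * P.map σ = X := by
    rw [hP, Matrix.transpose_transpose, Matrix.transpose_map, hh3]
  have hPu : IsUnit P.det := isUnit_iff_ne_zero.mpr hPdet
  obtain ⟨Nm, hNm⟩ : ∃ Nm : MM, Nm = (κ • P.map σ) * P⁻¹ := ⟨_, rfl⟩
  have hNP : Nm * P = κ • P.map σ := by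
    rw [hNm, Matrix.mul_assoc, Matrix.nonsing_inv_mul P hPu, Matrix.mul_one]
  have hNdet : Nm.det ≠ 0 := by
    intro h0
    have h3 := congrArg Matrix.det hNP
    rw [Matrix.det_mul, h0, zero_mul, Matrix.det_smul] at h3
    exact mul_ne_zero (pow_ne_zero _ hκ0) (det_mapσ_ne_zero σ P hPdet) h3.symm
  have hNU : Nmᵀ * Nm.map σ = 1 := by
    have h3 : Pᵀ * (Nmᵀ * Nm.map σ) * P.map σ = Pᵀ * 1 * P.map σ := by
      rw [← tr_mul_map, hNP, Matrix.transpose_smul, map_smulσ, map_map_inv' σ hinv,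
        Matrix.smul_mul, Matrix.mul_smul, smul_smul, hκ, Matrix.mul_one, hPX]
      have h4 : (P.map σ)ᵀ * P = (Pᵀ * P.map σ).map σ := by
        rw [Matrix.map_mul, map_map_inv' σ hinv, Matrix.transpose_map]
      rw [h4, hPX, hXσ, smul_smul, hεsq, one_smul]
    have h4 := cancel_right _ _ _ (det_mapσ_ne_zero σ P hPdet) h3
    exact cancel_left _ _ _ (by rw [Matrix.det_transpose]; exact hPdet) h4
  obtain ⟨Ng, hNg⟩ : ∃ Ng : GL (Fin n) F, Ng = Matrix.GeneralLinearGroup.mkOfDetNeZero Nm hNdet :=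
    ⟨_, rfl⟩
  have hNgval : (Ng : MM) = Nm := by rw [hNg]; rfl
  have hNgU : Ng ∈ Cfsg.GU n F q := by
    rw [mem_GU_iff_mat σ hq, hNgval]
    exact hNU
  have hPNP : Pᵀ * Nm * P = (κ * e) • (M₀ : MM₀).map ι := by
    rw [Matrix.mul_assoc, hNP, Matrix.mul_smul, hPX, hX, smul_smul]
  refine ⟨⟨Ng, hNgU⟩, ⟨P, e, κ * e, hPdet, he0, mul_ne_zero hκ0 he0, by rw [hPX, hX], ?_⟩, ?_⟩
  · show Pᵀ * (Ng : MM) * P = _
    rw [hNgval]
    exact hPNP
  · show (Ng : MM)ᵀ = ι ε₀ • (Ng : MM)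
    rw [hNgval]
    have h3 : Pᵀ * Nmᵀ * P = Pᵀ * (ι ε₀ • Nm) * P := by
      have h4 : Pᵀ * Nmᵀ * P = (Pᵀ * Nm * P)ᵀ := by
        rw [Matrix.transpose_mul, Matrix.transpose_mul, Matrix.transpose_transpose,
          Matrix.mul_assoc]
      rw [h4, hPNP, Matrix.transpose_smul, ← Matrix.transpose_map, hM₀, map_smulι,
        Matrix.mul_smul, Matrix.smul_mul, hPNP, smul_smul, smul_smul, mul_comm]
    have h4 := cancel_right _ _ _ hPdet h3
    exact cancel_left _ _ _ (by rw [Matrix.det_transpose]; exact hPdet) h4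

theorem rational_of_fixed (σ : F ≃+* F) (ι : F₀ →+* F) (hι : ∀ a : F, σ a = a ↔ a ∈ ι.range)
    (B : MM) (hB : B.map σ = B) : ∃ B₀ : MM₀, B₀.map ι = B := by
  have hfix : ∀ i j, σ (B i j) = B i j := by
    intro i j
    exact congrFun (congrFun hB i) j
  choose b hb using fun i j => (hι _).mp (hfix i j)
  refine ⟨Matrix.of b, ?_⟩
  ext i j
  rw [Matrix.map_apply, Matrix.of_apply, hb]

/-- every (skew-)symmetric unitary matrix corresponds to a form over the fixed field -/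
theorem exists_rel_of_gu (hF : Fintype.card F = q ^ 2) (hn : 1 ≤ n) (σ : F ≃+* F)
    (hq : ∀ a, σ a = a ^ q) (ι : F₀ →+* F) (hι : ∀ a : F, σ a = a ↔ a ∈ ι.range)
    (N : ↥(Cfsg.GU n F q)) (ε : F) (hε : (gmat N)ᵀ = ε • gmat N) :
    ∃ M₀ : GL (Fin n) F₀, Rel σ ι N M₀ := by
  have hinv := frob_inv hF σ hq
  have hε1 : ε = 1 ∨ ε = -1 := transpose_scalar (by omega) N.1 ε hε
  have hεsq : ε * ε = 1 := by
    rcases hε1 with h | h <;> rw [h] <;> ring
  have hε0 : ε ≠ 0 := by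
    rintro rfl
    rw [mul_zero] at hεsq
    exact zero_ne_one hεsq
  obtain ⟨e, he0, he⟩ := exists_twist_unit hF σ hq ε hε1
  obtain ⟨κ, hκ0, hκ⟩ := exists_norm_eps hF σ hq ε hε1
  have hNdet := gmat_det_ne_zero N
  have hNNσ : gmat N * (gmat N).map σ = ε • (1 : MM) := by
    have h1 := gmat_unitary σ hq N
    rw [hε, Matrix.smul_mul] at h1
    calc gmat N * (gmat N).map σ = ε • (ε • (gmat N * (gmat N).map σ)) := by
          rw [smul_smul, hεsq, one_smul]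
      _ = ε • (1 : MM) := by rw [h1]
  have hNσN : (gmat N).map σ * gmat N = ε • (1 : MM) := by
    calc (gmat N).map σ * gmat N = (gmat N⁻¹ * gmat N) * (gmat N).map σ * gmat N := by
          rw [gmat_inv_mul, Matrix.one_mul]
      _ = gmat N⁻¹ * (gmat N * (gmat N).map σ) * gmat N := by simp only [Matrix.mul_assoc]
      _ = ε • (1 : MM) := by
          rw [hNNσ, Matrix.mul_smul, Matrix.mul_one, Matrix.smul_mul, gmat_inv_mul]
  obtain ⟨Dm, hDm⟩ : ∃ Dm : MM, Dm = κ • gmat N⁻¹ := ⟨_, rfl⟩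
  have hDdet : Dm.det ≠ 0 := by
    rw [hDm, Matrix.det_smul]
    exact mul_ne_zero (pow_ne_zero _ hκ0) (gmat_det_ne_zero N⁻¹)
  have hDD : Dm * Dm.map σ = 1 := by
    have h1 : gmat N⁻¹ * (gmat N⁻¹).map σ * ((gmat N).map σ * gmat N) = 1 := by
      calc gmat N⁻¹ * (gmat N⁻¹).map σ * ((gmat N).map σ * gmat N)
          = gmat N⁻¹ * ((gmat N⁻¹).map σ * (gmat N).map σ) * gmat N := by
            simp only [Matrix.mul_assoc]
        _ = 1 := by
            rw [← Matrix.map_mul, gmat_inv_mul, Matrix.map_one _ (map_zero σ) (map_one σ),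
              Matrix.mul_one, gmat_inv_mul]
    rw [hNσN, Matrix.mul_smul, Matrix.mul_one] at h1
    rw [hDm, map_smulσ, Matrix.smul_mul, Matrix.mul_smul, smul_smul, hκ]
    exact h1
  obtain ⟨D, hD⟩ : ∃ D : GL (Fin n) F, D = Matrix.GeneralLinearGroup.mkOfDetNeZero Dm hDdet :=
    ⟨_, rfl⟩
  have hDval : (D : MM) = Dm := by rw [hD]; rfl
  have hord : orderOf σ = 2 := orderOf_invol σ (frob_ne_refl hF σ hq) hinv
  have hPk : Pk σ D (orderOf σ) = 1 := by
    rw [hord, show (2 : ℕ) = 0 + 1 + 1 from rfl, Pk_succ, Pk_succ, Pk_zero, map_one, mul_one]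
    apply Units.ext
    rw [Units.val_mul, glmap_val, hDval, Units.val_one]
    exact hDD
  obtain ⟨h, hh⟩ := hilbert90 σ D (by rw [hord]; norm_num) hPk
  obtain ⟨P, hP⟩ : ∃ P : MM, P = (h : MM) := ⟨_, rfl⟩
  have hPdet : P.det ≠ 0 := by rw [hP]; exact gl_det_ne_zero h
  have hDP : Dm * P.map σ = P := by
    have h1 : D * Matrix.GeneralLinearGroup.map (σ : F →+* F) h = h := by
      rw [hh]
      group
    have h2 := congrArg (fun g : GL (Fin n) F => (g : MM)) h1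
    simp only [Units.val_mul] at h2
    rw [glmap_val, hDval, ← hP] at h2
    exact h2
  have hNP : gmat N * P = κ • P.map σ := by
    calc gmat N * P = gmat N * (Dm * P.map σ) := by rw [hDP]
      _ = κ • P.map σ := by
        rw [hDm, Matrix.smul_mul, Matrix.mul_smul, ← Matrix.mul_assoc, gmat_mul_inv,
          Matrix.one_mul]
  obtain ⟨A, hA⟩ : ∃ A : MM, A = Pᵀ * P.map σ := ⟨_, rfl⟩
  have hPNP : Pᵀ * gmat N * P = κ • A := by
    rw [Matrix.mul_assoc, hNP, Matrix.mul_smul, hA]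
  have hAT : Aᵀ = ε • A := by
    have h3 : κ • Aᵀ = κ • (ε • A) := by
      have h4 : (Pᵀ * gmat N * P)ᵀ = Pᵀ * (gmat N)ᵀ * P := by
        rw [Matrix.transpose_mul, Matrix.transpose_mul, Matrix.transpose_transpose,
          Matrix.mul_assoc]
      rw [hPNP, Matrix.transpose_smul, hε, Matrix.mul_smul, Matrix.smul_mul, hPNP] at h4
      rw [h4, smul_smul, smul_smul, mul_comm]
    calc Aᵀ = κ⁻¹ • (κ • Aᵀ) := by rw [smul_smul, inv_mul_cancel₀ hκ0, one_smul]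
      _ = ε • A := by rw [h3, smul_smul, inv_mul_cancel₀ hκ0, one_smul]
  have hAσ : A.map σ = ε • A := by
    rw [← hAT, hA, Matrix.map_mul, map_map_inv' σ hinv, Matrix.transpose_mul,
      Matrix.transpose_transpose, Matrix.transpose_map]
  have hAdet : A.det ≠ 0 := by
    rw [hA, Matrix.det_mul, Matrix.det_transpose]
    exact mul_ne_zero hPdet (det_mapσ_ne_zero σ P hPdet)
  obtain ⟨B, hB⟩ : ∃ B : MM, B = e⁻¹ • A := ⟨_, rfl⟩
  have hBσ : B.map σ = B := by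
    rw [hB, map_smulσ, hAσ, map_inv₀, he, smul_smul]
    congr 1
    field_simp
  obtain ⟨B₀, hB₀⟩ := rational_of_fixed σ ι hι B hBσ
  have hBdet : B.det ≠ 0 := by
    rw [hB, Matrix.det_smul]
    exact mul_ne_zero (pow_ne_zero _ (inv_ne_zero he0)) hAdet
  have hB₀det : B₀.det ≠ 0 := by
    intro h0
    have h3 := RingHom.map_det ι B₀
    rw [h0, map_zero, RingHom.mapMatrix_apply, hB₀] at h3
    exact hBdet h3.symm
  have hAB : A = e • B := by
    rw [hB, smul_smul, mul_inv_cancel₀ he0, one_smul]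
  refine ⟨Matrix.GeneralLinearGroup.mkOfDetNeZero B₀ hB₀det, P, e, κ * e, hPdet, he0,
    mul_ne_zero hκ0 he0, ?_, ?_⟩
  · show Pᵀ * P.map σ = e • B₀.map ι
    rw [hB₀, ← hAB, hA]
  · show Pᵀ * gmat N * P = (κ * e) • B₀.map ι
    rw [hB₀, hPNP, hAB, smul_smul]

end rel

end Cfsg.Agent.helper14.PsuAut
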