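import Mathlib
import Cfsg.Agent.Lib_helper14_PsuH
import Cfsg.Agent.Lib_helper14_GraphB

set_option autoImplicit false
set_option linter.unusedSectionVars false
set_option linter.unusedVariables false

/-! Conjugacy and centralizers of unitary graph automorphisms via forms over the fixed field. -/

namespace Cfsg.Agent.helper14.PsuAut

open Matrix Cfsg Cfsg.Agent.helper29 Cfsg.Agent.helper11.HermCount Cfsg.Agent.helper11.Unitary
open Cfsg.Agent.helper14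

section relthm

variable {F : Type*} [Field F] [Fintype F] {F₀ : Type*} [Field F₀] {q n : ℕ}

local notation "MM" => Matrix (Fin n) (Fin n) F
local notation "MM₀" => Matrix (Fin n) (Fin n) F₀

theorem exists_gu_of_mat (σ : F ≃+* F) (hq : ∀ a, σ a = a ^ q) (h : MM) (hdet : h.det ≠ 0)
    (hU : hᵀ * h.map σ = 1) : ∃ g : ↥(Cfsg.GU n F q), gmat g = h := by
  refine ⟨⟨Matrix.GeneralLinearGroup.mkOfDetNeZero h hdet, ?_⟩, rfl⟩
  rw [mem_GU_iff_mat σ hq]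
  exact hU

theorem smul_ne_zero_of_det (hn : 1 ≤ n) (A B : MM) (a : F) (hA : A.det ≠ 0) (h : A = a • B) :
    a ≠ 0 := by
  rintro rfl
  rw [zero_smul] at h
  have : Nonempty (Fin n) := ⟨⟨0, by omega⟩⟩
  rw [h, Matrix.det_zero] at hA
  exact hA rfl

theorem smul_inv_swap (A B : MM) (c : F) (hc : c ≠ 0) (h : A = c • B) : B = c⁻¹ • A := by
  rw [h, smul_smul, inv_mul_cancel₀ hc, one_smul]

theorem rel_conj_iff (hF : Fintype.card F = q ^ 2) (hn : 3 ≤ n) (h32 : ¬ (n = 3 ∧ q = 2))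
    (σ : F ≃+* F) (hq : ∀ a, σ a = a ^ q) (ι : F₀ →+* F)
    (hι : ∀ a : F, σ a = a ↔ a ∈ ι.range)
    (N N' : ↥(Cfsg.GU n F q)) (M₀ M₀' : GL (Fin n) F₀)
    (hR : Rel σ ι N M₀) (hR' : Rel σ ι N' M₀') :
    Cfsg.IsConjUnder (Cfsg.inndiagPSU n F q) (gamU σ N) (gamU σ N') ↔
      ∃ (E : GL (Fin n) F₀) (c : F₀ˣ),
        (E : MM₀)ᵀ * (M₀ : MM₀) * (E : MM₀) = (c : F₀) • (M₀' : MM₀) := by
  have hinv := frob_inv hF σ hq
  obtain ⟨P, a, b, hP, ha, hb, h1, h2⟩ := hR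
  obtain ⟨P', a', b', hP', ha', hb', h1', h2'⟩ := hR'
  have hM₀ := gl_det_ne_zero M₀
  have hM₀' := gl_det_ne_zero M₀'
  rw [conj_gamU_iff hF hn h32 σ hq]
  constructor
  · rintro ⟨h, c, hc⟩
    have hc0 : c ≠ 0 := smul_ne_zero_of_det (by omega) _ _ c (gmat_det_ne_zero N') hc
    have hS : (gmat h)ᵀ * gmat N * gmat h = c⁻¹ • gmat N' := smul_inv_swap _ _ c hc0 hc
    obtain ⟨l, k₀, c₀, hl, hk₀, hc₀, -, hk⟩ := descent_fwd (by omega) σ ι hι (gmat N) (gmat N')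
      P P' M₀ M₀' a b a' b' hP hP' hM₀ hM₀' ha hb ha' hb' h1 h2 h1' h2' (gmat h)
      (gmat_det_ne_zero h) (gmat_unitary σ hq h) c⁻¹ (inv_ne_zero hc0) hS
    exact ⟨Matrix.GeneralLinearGroup.mkOfDetNeZero k₀ hk₀, Units.mk0 c₀ hc₀, hk⟩
  · rintro ⟨E, c, hE⟩
    obtain ⟨h, ν, c', hν, hc', hdet, -, hU, hS⟩ := descent_bwd (by omega) σ hinv ι hι
      (frob_norm hF σ hq) (gmat N) (gmat N') P P' M₀ M₀' a b a' b' hP hP' hM₀ hM₀' ha hb ha' hb'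
      h1 h2 h1' h2' (E : MM₀) (gl_det_ne_zero E) (c : F₀) (Units.ne_zero c) hE
    obtain ⟨g, hg⟩ := exists_gu_of_mat (q := q) σ hq h hdet hU
    refine ⟨g, c'⁻¹, ?_⟩
    rw [hg, hS, smul_smul, inv_mul_cancel₀ hc', one_smul]

theorem rel_centralizer_iso (hF : Fintype.card F = q ^ 2) (hn : 3 ≤ n)
    (h32 : ¬ (n = 3 ∧ q = 2)) (σ : F ≃+* F) (hq : ∀ a, σ a = a ^ q) (ι : F₀ →+* F)
    (hι : ∀ a : F, σ a = a ↔ a ∈ ι.range)
    (N : ↥(Cfsg.GU n F q)) (M₀ : GL (Fin n) F₀) (hR : Rel σ ι N M₀) :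
    Nonempty (↥(Cfsg.inndiagPSU n F q ⊓ Subgroup.centralizer {gamU σ N}) ≃*
      Cfsg.projQuot (Cfsg.Geo.similarityGroup (bilM (M₀ : MM₀)))) := by
  have hinv := frob_inv hF σ hq
  obtain ⟨P, a, b, hP, ha, hb, h1, h2⟩ := hR
  have hM₀ := gl_det_ne_zero M₀
  obtain ⟨S₀, hS₀⟩ : ∃ S₀ : Subgroup (GL (Fin n) F₀),
      S₀ = Cfsg.Geo.similarityGroup (bilM (M₀ : MM₀)) := ⟨_, rfl⟩
  obtain ⟨C, hC⟩ : ∃ C : Subgroup (MulAut (Cfsg.PSU n F q)),
      C = Cfsg.inndiagPSU n F q ⊓ Subgroup.centralizer {gamU σ N} := ⟨_, rfl⟩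
  have hmemS : ∀ g : GL (Fin n) F₀, g ∈ S₀ → ∃ c : F₀ˣ,
      (g : MM₀)ᵀ * (M₀ : MM₀) * (g : MM₀) = (c : F₀) • (M₀ : MM₀) := by
    intro g hg
    rw [hS₀, mem_sim_bilM_iff] at hg
    exact hg
  have key : ∀ x : ↥S₀, ∃ g : ↥(Cfsg.GU n F q),
      (∃ ν : F, ν ≠ 0 ∧ gmat g * P = ν • (P * ((x : GL (Fin n) F₀) : MM₀).map ι)) ∧
        PhiU g ∈ C := by
    intro x
    obtain ⟨c, hc⟩ := hmemS _ x.2
    obtain ⟨h, ν, c', hν, hc', hdet, hhP, hU, hS⟩ := descent_bwd (by omega) σ hinv ι hι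
      (frob_norm hF σ hq) (gmat N) (gmat N) P P M₀ M₀ a b a b hP hP hM₀ hM₀ ha hb ha hb
      h1 h2 h1 h2 ((x : GL (Fin n) F₀) : MM₀) (gl_det_ne_zero x.1) (c : F₀) (Units.ne_zero c) hc
    obtain ⟨g, hg⟩ := exists_gu_of_mat (q := q) σ hq h hdet hU
    refine ⟨g, ⟨ν, hν, by rw [hg]; exact hhP⟩, ?_⟩
    rw [hC, Subgroup.mem_inf, inndiagPSU_eq]
    refine ⟨⟨g, rfl⟩, ?_⟩
    rw [cent_gamU_iff hF hn h32 σ hq]
    refine ⟨c'⁻¹, ?_⟩
    rw [hg, hS, smul_smul, inv_mul_cancel₀ hc', one_smul]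
  choose r hr1 hr2 using key
  have hmul : ∀ x y : ↥S₀, PhiU (r (x * y)) = PhiU (r x) * PhiU (r y) := by
    intro x y
    rw [← map_mul, PhiU_eq_iff hF hn h32]
    obtain ⟨νx, hνx, hx⟩ := hr1 x
    obtain ⟨νy, hνy, hy⟩ := hr1 y
    obtain ⟨νxy, hνxy, hxy⟩ := hr1 (x * y)
    refine ⟨νx * νy * νxy⁻¹, ?_⟩
    apply cancel_right P _ _ hP
    have hxym : (((x * y : ↥S₀) : GL (Fin n) F₀) : MM₀).map ι =
        ((x : GL (Fin n) F₀) : MM₀).map ι * ((y : GL (Fin n) F₀) : MM₀).map ι := by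
      rw [← Matrix.map_mul]
      rfl
    calc gmat (r x * r y) * P = gmat (r x) * (gmat (r y) * P) := by
          rw [gmat_mul, Matrix.mul_assoc]
      _ = (νx * νy) • (P * (((x : GL (Fin n) F₀) : MM₀).map ι *
            ((y : GL (Fin n) F₀) : MM₀).map ι)) := by
          rw [hy, Matrix.mul_smul, ← Matrix.mul_assoc, hx, Matrix.smul_mul, smul_smul,
            Matrix.mul_assoc, mul_comm]
      _ = (νx * νy * νxy⁻¹) • gmat (r (x * y)) * P := by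
          rw [Matrix.smul_mul, hxy, smul_smul, hxym, mul_assoc, mul_assoc, inv_mul_cancel₀ hνxy,
            mul_one]
  obtain ⟨ψ, hψ⟩ : ∃ ψ : ↥S₀ →* ↥C, ∀ x, ((ψ x : ↥C) : MulAut (Cfsg.PSU n F q)) = PhiU (r x) :=
    ⟨MonoidHom.mk' (fun x => ⟨PhiU (r x), hr2 x⟩) (fun x y => Subtype.ext (hmul x y)),
      fun x => rfl⟩
  have hsurj : Function.Surjective ψ := by
    rintro ⟨β, hβ⟩
    have hβ' := hβ
    rw [hC, Subgroup.mem_inf, inndiagPSU_eq] at hβ'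
    obtain ⟨⟨h, rfl⟩, hcent⟩ := hβ'
    rw [cent_gamU_iff hF hn h32 σ hq] at hcent
    obtain ⟨c, hc⟩ := hcent
    have hc0 : c ≠ 0 := smul_ne_zero_of_det (by omega) _ _ c (gmat_det_ne_zero N) hc
    have hS := smul_inv_swap _ _ c hc0 hc
    obtain ⟨l, k₀, c₀, hl, hk₀, hc₀, hhP, hk⟩ := descent_fwd (by omega) σ ι hι (gmat N) (gmat N)
      P P M₀ M₀ a b a b hP hP hM₀ hM₀ ha hb ha hb h1 h2 h1 h2 (gmat h)
      (gmat_det_ne_zero h) (gmat_unitary σ hq h) c⁻¹ (inv_ne_zero hc0) hS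
    have hxmem : Matrix.GeneralLinearGroup.mkOfDetNeZero k₀ hk₀ ∈ S₀ := by
      rw [hS₀, mem_sim_bilM_iff]
      exact ⟨Units.mk0 c₀ hc₀, hk⟩
    refine ⟨⟨_, hxmem⟩, ?_⟩
    apply Subtype.ext
    rw [hψ]
    show PhiU (r ⟨_, hxmem⟩) = PhiU h
    rw [eq_comm, PhiU_eq_iff hF hn h32]
    obtain ⟨ν, hν, hx⟩ := hr1 ⟨_, hxmem⟩
    refine ⟨ν * l⁻¹, ?_⟩
    apply cancel_right P _ _ hP
    rw [hx, Matrix.smul_mul, hhP, smul_smul, mul_assoc, inv_mul_cancel₀ hl, mul_one]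
    rfl
  have hker : ψ.ker = (Cfsg.Geo.scalars (Fin n) F₀).subgroupOf S₀ := by
    ext x
    rw [MonoidHom.mem_ker, Subgroup.mem_subgroupOf, Cfsg.Geo.mem_scalars_iff]
    obtain ⟨ν, hν, hx⟩ := hr1 x
    have h1' : ψ x = 1 ↔ PhiU (r x) = PhiU 1 := by
      rw [map_one, ← hψ]
      constructor
      · intro h
        rw [h]
        rfl
      · intro h
        apply Subtype.ext
        rw [h]
        rfl
    rw [h1', PhiU_eq_iff hF hn h32, gmat_one]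
    constructor
    · rintro ⟨t, ht⟩
      have ht0 : t ≠ 0 := smul_ne_zero_of_det (by omega) 1 _ t
        (by rw [Matrix.det_one]; exact one_ne_zero) ht
      have h4 : P = (t * ν) • (P * ((x : GL (Fin n) F₀) : MM₀).map ι) := by
        calc P = 1 * P := (Matrix.one_mul P).symm
          _ = (t • gmat (r x)) * P := by rw [← ht]
          _ = (t * ν) • (P * ((x : GL (Fin n) F₀) : MM₀).map ι) := by
              rw [Matrix.smul_mul, hx, smul_smul]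
      have h3 : P * ((x : GL (Fin n) F₀) : MM₀).map ι = P * ((t * ν)⁻¹ • (1 : MM)) := by
        rw [Matrix.mul_smul, Matrix.mul_one]
        exact smul_inv_swap _ _ _ (mul_ne_zero ht0 hν) h4
      have h5 := cancel_left P _ _ hP h3
      obtain ⟨t₀, ht₀, hX⟩ := rational_scalar ι ((x : GL (Fin n) F₀) : MM₀) 1 (t * ν)⁻¹
        (exists_entry_ne_zero (by omega) 1 (by rw [Matrix.det_one]; exact one_ne_zero))
        (by rw [h5, Matrix.map_one _ (map_zero ι) (map_one ι)])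
      have ht₀0 : t₀ ≠ 0 := by
        rintro rfl
        rw [map_zero] at ht₀
        exact inv_ne_zero (mul_ne_zero ht0 hν) ht₀.symm
      exact ⟨Units.mk0 t₀ ht₀0, hX⟩
    · rintro ⟨c, hc⟩
      have hne : ν * ι (c : F₀) ≠ 0 := mul_ne_zero hν ((map_ne_zero ι).mpr (Units.ne_zero c))
      refine ⟨(ν * ι (c : F₀))⁻¹, ?_⟩
      have h3 : gmat (r x) = (ν * ι (c : F₀)) • (1 : MM) := by
        apply cancel_right P _ _ hP
        rw [hx, hc, map_smulι, Matrix.map_one _ (map_zero ι) (map_one ι), Matrix.mul_smul,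
          Matrix.mul_one, smul_smul, Matrix.smul_mul, Matrix.one_mul]
      rw [h3, smul_smul, inv_mul_cancel₀ hne, one_smul]
  have e₁ := QuotientGroup.quotientKerEquivOfSurjective ψ hsurj
  have e₂ := QuotientGroup.quotientMulEquivOfEq hker
  rw [← hC]
  have e₃ : ↥C ≃* ↥S₀ ⧸ (Cfsg.Geo.scalars (Fin n) F₀).subgroupOf S₀ := e₁.symm.trans e₂
  rw [hS₀] at e₃
  exact ⟨e₃⟩

end relthm

end Cfsg.Agent.helper14.PsuAut
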