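import Mathlib
import Cfsg.Agent.Lib_helper14_PsuI
import Cfsg.Agent.Lib_helper14_GraphD

set_option autoImplicit false
set_option linter.unusedSectionVars false
set_option linter.unusedVariables false

/-! The correspondence between involutory graph automorphisms of `PSU_n(q)` and of
`PSL_n(q)`. -/

namespace Cfsg.Agent.helper14.PsuAut

open Matrix Cfsg Cfsg.Agent.helper29 Cfsg.Agent.helper11.HermCount Cfsg.Agent.helper11.Unitary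
open Cfsg.Agent.helper14

section corr

variable {F : Type*} [Field F] [Fintype F] {F₀ : Type*} [Field F₀] {q n : ℕ}

local notation "MM" => Matrix (Fin n) (Fin n) F
local notation "MM₀" => Matrix (Fin n) (Fin n) F₀

/-- the graph automorphism `γ` of `PSU_n(q)` corresponds to the graph automorphism `γ₀` of
`PSL_n(q)` -/
def Corr (σ : F ≃+* F) (ι : F₀ →+* F) (γ : MulAut (Cfsg.PSU n F q))
    (γ₀ : MulAut (Matrix.ProjectiveSpecialLinearGroup (Fin n) F₀)) : Prop :=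
  ∃ (N : ↥(Cfsg.GU n F q)) (M₀ : GL (Fin n) F₀), Rel σ ι N M₀ ∧ γ = gamU σ N ∧ γ₀ = gam M₀

theorem corr_of_psu [DecidableEq F] (hF : Fintype.card F = q ^ 2) (hn : 3 ≤ n)
    (h32 : ¬ (n = 3 ∧ q = 2))
    (σ : F ≃+* F) (hq : ∀ a, σ a = a ^ q) (ι : F₀ →+* F)
    (hι : ∀ a : F, σ a = a ↔ a ∈ ι.range) (γ : MulAut (Cfsg.PSU n F q))
    (hγ : Cfsg.IsGraphAutClassPSU γ) (hγ2 : orderOf γ = 2) :
    ∃ γ₀ : MulAut (Matrix.ProjectiveSpecialLinearGroup (Fin n) F₀),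
      Corr σ ι γ γ₀ ∧ Cfsg.IsGraphAutClassPSL γ₀ ∧ orderOf γ₀ = 2 := by
  have hinv := frob_inv hF σ hq
  obtain ⟨N, rfl, ε, hε⟩ := graph_normal_form hF hn h32 σ hq γ hγ hγ2
  obtain ⟨M₀, hR⟩ := exists_rel_of_gu (F₀ := F₀) hF (by omega) σ hq ι hι N ε hε
  refine ⟨gam M₀, ⟨N, M₀, hR, rfl, rfl⟩, (isGraph_iff _).mpr ⟨hn, M₀, rfl⟩, ?_⟩
  obtain ⟨P, a, b, hP, ha, hb, h1, h2⟩ := hR
  obtain ⟨ε₀, -, hM₀T⟩ := sym_type (by omega) σ hinv ι hι P (M₀ : MM₀) a ha (gl_det_ne_zero M₀) h1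
  have hε₀ : ε₀ ≠ 0 := by
    rcases transpose_scalar (by omega) M₀ ε₀ hM₀T with h | h
    · rw [h]; exact one_ne_zero
    · rw [h]; exact neg_ne_zero.mpr one_ne_zero
  exact gam_order_two hn M₀ (Units.mk0 ε₀ hε₀) hM₀T

theorem corr_of_psl [DecidableEq F] (hF : Fintype.card F = q ^ 2) (hn : 3 ≤ n)
    (h32 : ¬ (n = 3 ∧ q = 2))
    (σ : F ≃+* F) (hq : ∀ a, σ a = a ^ q) (ι : F₀ →+* F)
    (hι : ∀ a : F, σ a = a ↔ a ∈ ι.range)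
    (γ₀ : MulAut (Matrix.ProjectiveSpecialLinearGroup (Fin n) F₀))
    (hγ : Cfsg.IsGraphAutClassPSL γ₀) (hγ2 : orderOf γ₀ = 2) :
    ∃ γ : MulAut (Cfsg.PSU n F q),
      Corr σ ι γ γ₀ ∧ Cfsg.IsGraphAutClassPSU γ ∧ orderOf γ = 2 := by
  obtain ⟨-, M₀, rfl⟩ := (isGraph_iff γ₀).mp hγ
  have h1 : gam M₀ * gam M₀ = 1 := by
    rw [← pow_two, ← hγ2]
    exact pow_orderOf_eq_one _
  obtain ⟨c, hc⟩ := (gam_mul_self_eq_one_iff M₀).mp h1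
  have hc1 := transpose_scalar (by omega) M₀ (c : F₀) hc
  obtain ⟨N, hR, hN⟩ := exists_rel hF (by omega) σ hq ι hι M₀ (c : F₀) hc1 hc
  exact ⟨gamU σ N, ⟨N, M₀, hR, rfl, rfl⟩, gamU_graph hF hn σ hq N,
    gamU_order hF hn h32 σ hq N _ hN⟩

theorem corr_cent (hF : Fintype.card F = q ^ 2) (hn : 3 ≤ n) (h32 : ¬ (n = 3 ∧ q = 2))
    (σ : F ≃+* F) (hq : ∀ a, σ a = a ^ q) (ι : F₀ →+* F)
    (hι : ∀ a : F, σ a = a ↔ a ∈ ι.range) (γ : MulAut (Cfsg.PSU n F q))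
    (γ₀ : MulAut (Matrix.ProjectiveSpecialLinearGroup (Fin n) F₀)) (h : Corr σ ι γ γ₀) :
    Nonempty (↥(Cfsg.inndiagPSU n F q ⊓ Subgroup.centralizer {γ}) ≃*
      ↥(Cfsg.inndiagPSL n F₀ ⊓ Subgroup.centralizer {γ₀})) := by
  obtain ⟨N, M₀, hR, rfl, rfl⟩ := h
  obtain ⟨e₁⟩ := rel_centralizer_iso hF hn h32 σ hq ι hι N M₀ hR
  obtain ⟨e₂⟩ := centralizer_gam_iso M₀
  exact ⟨e₁.trans e₂.symm⟩

theorem corr_conj (hF : Fintype.card F = q ^ 2) (hn : 3 ≤ n) (h32 : ¬ (n = 3 ∧ q = 2))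
    (σ : F ≃+* F) (hq : ∀ a, σ a = a ^ q) (ι : F₀ →+* F)
    (hι : ∀ a : F, σ a = a ↔ a ∈ ι.range) (γ γ' : MulAut (Cfsg.PSU n F q))
    (γ₀ γ₀' : MulAut (Matrix.ProjectiveSpecialLinearGroup (Fin n) F₀)) (h : Corr σ ι γ γ₀)
    (h' : Corr σ ι γ' γ₀') :
    Cfsg.IsConjUnder (Cfsg.inndiagPSU n F q) γ γ' ↔
      Cfsg.IsConjUnder (Cfsg.inndiagPSL n F₀) γ₀ γ₀' := by
  obtain ⟨N, M₀, hR, rfl, rfl⟩ := h
  obtain ⟨N', M₀', hR', rfl, rfl⟩ := h'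
  rw [rel_conj_iff hF hn h32 σ hq ι hι N N' M₀ M₀' hR hR', isConjUnder_gam_iff]

/-- the setup: a Frobenius map and an embedding of the fixed field -/
theorem exists_setup [Fintype F₀] (hF : Fintype.card F = q ^ 2) (hF₀ : Fintype.card F₀ = q) :
    ∃ (σ : F ≃+* F) (ι : F₀ →+* F), (∀ a, σ a = a ^ q) ∧ ∀ a : F, σ a = a ↔ a ∈ ι.range := by
  obtain ⟨σ, hq⟩ := exists_frob hF
  have hord : orderOf σ = 2 := orderOf_invol σ (frob_ne_refl hF σ hq) (frob_inv hF σ hq)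
  obtain ⟨ι, hι⟩ := exists_embedding σ (r := 2) (by norm_num) hF hord hF₀
  exact ⟨σ, ι, hq, hι⟩

end corr

end Cfsg.Agent.helper14.PsuAut
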