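import Mathlib
import Cfsg.Agent.Lib_helper14_PsuJ
import Cfsg.Agent.Lib_helper14_GraphJ
import Cfsg.Agent.Lib_helper13_Disc
import Cfsg.Agent.Lib_helper13_QStd
import Cfsg.Agent.S2623

set_option autoImplicit false
set_option linter.unusedSectionVars false
set_option linter.unusedVariables false

/-! The sum of `4k` squares over a finite field of odd order is a hyperbolic form. -/

namespace Cfsg.Agent.helper14.PsuAut

open Matrix Cfsg QuadraticMap Cfsg.Agent.helper13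
open Cfsg.Agent.helper14

section sumsq

variable {F₀ : Type*} [Field F₀] [Fintype F₀]

theorem funCongr_single {n m : ℕ} (e : Fin m ⊕ Fin m ≃ Fin n) (i : Fin n) :
    (LinearEquiv.funCongrLeft F₀ F₀ e) (Pi.single i (1 : F₀)) = Pi.single (e.symm i) 1 := by
  funext k
  show (Pi.single i (1 : F₀) : Fin n → F₀) (e k) = _
  rw [Pi.single_apply, Pi.single_apply]
  by_cases h : e k = i
  · rw [if_pos h, if_pos (by rw [← h, e.symm_apply_apply])]
  · rw [if_neg h, if_neg]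
    intro h'
    apply h
    rw [h', e.apply_symm_apply]

theorem sumsq_iso_plus (h2 : (2 : F₀) ≠ 0) {n m : ℕ} (hnm : n = 2 * m) (hmeven : Even m) :
    ∃ g : (Fin n → F₀) ≃ₗ[F₀] (Fin m ⊕ Fin m → F₀),
      ∀ v, QM (((1 : GL (Fin n) F₀)) : Matrix (Fin n) (Fin n) F₀) v =
        Cfsg.quadFormPlus m F₀ (g v) := by
  classical
  obtain ⟨e⟩ : Nonempty (Fin m ⊕ Fin m ≃ Fin n) :=
    ⟨Fintype.equivOfCardEq (by
      rw [Fintype.card_sum, Fintype.card_fin, Fintype.card_fin]; omega)⟩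
  obtain ⟨E₂, hE₂⟩ : ∃ E₂ : (Fin n → F₀) ≃ₗ[F₀] (Fin m ⊕ Fin m → F₀),
      E₂ = LinearEquiv.funCongrLeft F₀ F₀ e := ⟨_, rfl⟩
  obtain ⟨Q₂, hQ₂⟩ : ∃ Q₂ : QuadraticForm F₀ (Fin n → F₀),
      Q₂ = (QPlus F₀ m).comp (E₂ : (Fin n → F₀) →ₗ[F₀] (Fin m ⊕ Fin m → F₀)) := ⟨_, rfl⟩
  have hQ₂n : (polarBilin Q₂).Nondegenerate := by
    rw [hQ₂]
    exact nondeg_comp _ (QPlus_nondeg m) E₂
  have hQ₂a : ∀ v, Q₂ v = Cfsg.quadFormPlus m F₀ (E₂ v) := by
    intro v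
    rw [hQ₂, QuadraticMap.comp_apply, QPlus_apply]
    rfl
  have h1T : ((1 : GL (Fin n) F₀) : Matrix (Fin n) (Fin n) F₀)ᵀ =
      ((1 : GL (Fin n) F₀) : Matrix (Fin n) (Fin n) F₀) := by
    rw [Units.val_one, Matrix.transpose_one]
  obtain ⟨Q₁, hQ₁⟩ : ∃ Q₁ : QuadraticForm F₀ (Fin n → F₀),
      Q₁ = QM (((1 : GL (Fin n) F₀)) : Matrix (Fin n) (Fin n) F₀) := ⟨_, rfl⟩
  have hQ₁n : (polarBilin Q₁).Nondegenerate := by
    rw [hQ₁]
    exact QM_nondeg h2 1 h1T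
  have hG₁ : (Matrix.of (fun i j : Fin n => polar (⇑Q₁) (Pi.single i 1) (Pi.single j 1))) =
      (2 : F₀) • (1 : Matrix (Fin n) (Fin n) F₀) := by
    ext i j
    rw [Matrix.of_apply, hQ₁, polar_QM _ h1T, bilM_single, Units.val_one]
  have hG₂ : (Matrix.of (fun i j : Fin n => polar (⇑Q₂) (Pi.single i 1) (Pi.single j 1))) =
      (gramPlus F₀ m).submatrix e.symm e.symm := by
    ext i j
    rw [Matrix.of_apply, hQ₂, polar_comp_lin, Matrix.submatrix_apply]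
    show polar (⇑(QPlus F₀ m)) (E₂ (Pi.single i 1)) (E₂ (Pi.single j 1)) = _
    rw [hE₂, funCongr_single, funCongr_single, polar_QPlus_single]
  have hsq : IsSquare ((Matrix.of (fun i j : Fin n =>
      polar (⇑Q₁) (Pi.single i 1) (Pi.single j 1))).det * (Matrix.of (fun i j : Fin n =>
      polar (⇑Q₂) (Pi.single i 1) (Pi.single j 1))).det) := by
    rw [hG₁, hG₂, Matrix.det_submatrix_equiv_self, gramPlus, det_hyp, hmeven.neg_one_pow, mul_one,
      Matrix.det_smul, Matrix.det_one, mul_one, Fintype.card_fin, hnm]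
    exact ⟨2 ^ m, by ring⟩
  obtain ⟨g, hg⟩ := (Cfsg.Agent.S2623.result h2 Q₁ Q₂ hQ₁n hQ₂n).mpr hsq
  refine ⟨g.trans E₂, fun v => ?_⟩
  rw [← hQ₁, ← hg v, hQ₂a]
  rfl

end sumsq

end Cfsg.Agent.helper14.PsuAut
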