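import Mathlib
import Cfsg.Agent.Lib_helper14_PsuI
import Cfsg.Agent.Lib_helper14_SplitA
import Cfsg.Agent.Lib_helper14_SplitB
import Cfsg.Agent.Lib_helper14_FieldCent
import Cfsg.Agent.Lib_helper29_USU

set_option autoImplicit false
set_option linter.unusedSectionVars false
set_option linter.unusedVariables false

/-! The determinant on `GU`, inner automorphisms of `PSU`, and the class splitting index. -/

namespace Cfsg.Agent.helper14.PsuAut

open Matrix Cfsg Cfsg.Agent.helper29 Cfsg.Agent.helper11.HermCount Cfsg.Agent.helper11.Unitary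
open Cfsg.Agent.helper14

section detU

variable {F : Type*} [Field F] [Fintype F] {q n : ℕ}

local notation "MM" => Matrix (Fin n) (Fin n) F

/-- the group of elements of norm one -/
def U1 (F : Type*) [Field F] (q : ℕ) : Subgroup Fˣ := (powMonoidHom (q + 1) : Fˣ →* Fˣ).ker

theorem mem_U1_iff' (y : Fˣ) : y ∈ U1 F q ↔ (y : F) * (y : F) ^ q = 1 := by
  unfold U1
  rw [MonoidHom.mem_ker, powMonoidHom_apply, ← pow_succ', Units.ext_iff, Units.val_pow_eq_pow_val,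
    Units.val_one]

theorem mem_U1_iff (σ : F ≃+* F) (hq : ∀ a, σ a = a ^ q) (y : Fˣ) :
    y ∈ U1 F q ↔ (y : F) * σ (y : F) = 1 := by
  rw [mem_U1_iff', hq]

theorem card_U1 (hF : Fintype.card F = q ^ 2) : Nat.card (U1 F q) = q + 1 := by
  unfold U1
  rw [IsCyclic.card_powMonoidHom_ker, Nat.card_units, Nat.card_eq_fintype_card, hF]
  apply Nat.gcd_eq_right
  have h2 := two_le_q hF
  obtain ⟨k, rfl⟩ : ∃ k, q = k + 1 := ⟨q - 1, by omega⟩
  refine ⟨k, ?_⟩
  apply Nat.sub_eq_of_eq_add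
  ring

theorem map_det' (σ : F ≃+* F) (A : MM) : (A.map σ).det = σ A.det := by
  have := RingHom.map_det (σ : F →+* F) A
  rw [RingHom.mapMatrix_apply] at this
  exact this.symm

theorem gmat_det_norm (σ : F ≃+* F) (hq : ∀ a, σ a = a ^ q) (g : ↥(Cfsg.GU n F q)) :
    (gmat g).det * σ (gmat g).det = 1 := by
  have h := congrArg Matrix.det (gmat_unitary σ hq g)
  rw [Matrix.det_mul, Matrix.det_transpose, Matrix.det_one, map_det'] at h
  exact h

theorem detU_mem (hF : Fintype.card F = q ^ 2) (g : ↥(Cfsg.GU n F q)) :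
    (Matrix.GeneralLinearGroup.det.comp (Cfsg.GU n F q).subtype) g ∈ U1 F q := by
  obtain ⟨σ, hq⟩ := exists_frob hF
  rw [mem_U1_iff σ hq]
  exact gmat_det_norm σ hq g

/-- the determinant, with values in the norm-one group -/
noncomputable def detU (hF : Fintype.card F = q ^ 2) : ↥(Cfsg.GU n F q) →* ↥(U1 F q) :=
  (Matrix.GeneralLinearGroup.det.comp (Cfsg.GU n F q).subtype).codRestrict (U1 F q) (detU_mem hF)

theorem detU_val (hF : Fintype.card F = q ^ 2) (g : ↥(Cfsg.GU n F q)) :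
    (((detU hF g : ↥(U1 F q)) : Fˣ) : F) = (gmat g).det := rfl

theorem detU_surj (hF : Fintype.card F = q ^ 2) (hn : 1 ≤ n) :
    Function.Surjective (detU (n := n) hF) := by
  rintro ⟨y, hy⟩
  have hy' := (mem_U1_iff' y).mp hy
  refine ⟨dgU hF ⟨0, by omega⟩ (y : F) hy', ?_⟩
  apply Subtype.ext
  apply Units.ext
  rw [detU_val, dgU_val, Matrix.det_diagonal, prod_update_one]

theorem U1_ext {x y : ↥(U1 F q)} (h : ((x : Fˣ) : F) = ((y : Fˣ) : F)) : x = y :=
  Subtype.ext (Units.ext h)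

/-- the scalar matrices in `GU` -/
noncomputable def scU (hF : Fintype.card F = q ^ 2) (a : F) (ha : a * a ^ q = 1) :
    ↥(Cfsg.GU n F q) :=
  mkGU hF (Matrix.diagonal (fun _ => a)) (diag_preserves _ (fun _ => ha))

theorem scU_val (hF : Fintype.card F = q ^ 2) (a : F) (ha : a * a ^ q = 1) :
    gmat (scU (n := n) hF a ha) = a • (1 : MM) := by
  rw [Matrix.smul_one_eq_diagonal]
  rfl

/-- `SU` inside `GU` -/
noncomputable def guOfSU : ↥(Cfsg.SU n F q) →* ↥(Cfsg.GU n F q) :=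
  (suToGL n F q).codRestrict (Cfsg.GU n F q) (fun s u v => s.2 u v)

theorem gmat_guOfSU (s : ↥(Cfsg.SU n F q)) : gmat (guOfSU s) = smat s := rfl

theorem PhiU_guOfSU (s : ↥(Cfsg.SU n F q)) : PhiU (guOfSU s) = MulAut.conj (pmU s) := by
  ext x
  obtain ⟨t, rfl⟩ := pmU_surj x
  rw [PhiU_pm, MulAut.conj_apply, ← map_mul, ← map_inv, ← map_mul]
  congr 1

theorem inn_le_inndiag_psu : Cfsg.Inn (Cfsg.PSU n F q) ≤ Cfsg.inndiagPSU n F q := by
  rw [inndiagPSU_eq]
  rintro _ ⟨x, rfl⟩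
  obtain ⟨s, rfl⟩ := pmU_surj x
  exact ⟨guOfSU s, PhiU_guOfSU s⟩

theorem scalar_unitary (hn : 1 ≤ n) (σ : F ≃+* F) (hq : ∀ a, σ a = a ^ q)
    (g g' : ↥(Cfsg.GU n F q)) (a : F) (h : gmat g' = a • gmat g) : a * σ a = 1 := by
  have h1 := gmat_unitary σ hq g'
  rw [h, Matrix.transpose_smul, map_smulσ, Matrix.smul_mul, Matrix.mul_smul, smul_smul,
    gmat_unitary σ hq g] at h1
  have h2 := congrFun (congrFun h1 ⟨0, by omega⟩) ⟨0, by omega⟩
  rw [Matrix.smul_apply, Matrix.one_apply_eq, smul_eq_mul, mul_one] at h2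
  exact h2

theorem PhiU_mem_inn_iff (hF : Fintype.card F = q ^ 2) (hn : 3 ≤ n) (h32 : ¬ (n = 3 ∧ q = 2))
    (g : ↥(Cfsg.GU n F q)) :
    PhiU g ∈ Cfsg.Inn (Cfsg.PSU n F q) ↔ ∃ a : ↥(U1 F q), detU hF g = a ^ n := by
  obtain ⟨σ, hq⟩ := exists_frob hF
  constructor
  · rintro ⟨x, hx⟩
    obtain ⟨s, rfl⟩ := pmU_surj x
    have hx' : MulAut.conj (pmU s) = PhiU g := hx
    rw [← PhiU_guOfSU, PhiU_eq_iff hF hn h32] at hx'
    obtain ⟨a, ha⟩ := hx'
    have hn1 := scalar_unitary (by omega) σ hq _ _ a ha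
    have hdet := congrArg Matrix.det ha
    rw [Matrix.det_smul, Fintype.card_fin, gmat_guOfSU, smat_det] at hdet
    have ha0 : a ≠ 0 := by
      rintro rfl
      rw [zero_mul] at hn1
      exact zero_ne_one hn1
    have hmem : Units.mk0 a ha0 ∈ U1 F q := by
      rw [mem_U1_iff σ hq]
      exact hn1
    refine ⟨⟨_, hmem⟩, ?_⟩
    apply U1_ext
    rw [detU_val]
    show (gmat g).det = ((Units.mk0 a ha0 : Fˣ) : F) ^ n
    rw [Units.val_mk0, hdet, mul_one]
  · rintro ⟨⟨a, ha⟩, hdet⟩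
    have ha' := (mem_U1_iff' a).mp ha
    have hdet' : (gmat g).det = (a : F) ^ n := by
      have := congrArg (fun y : ↥(U1 F q) => ((y : Fˣ) : F)) hdet
      simp only [detU_val] at this
      rw [this]
      simp
    obtain ⟨z, hz⟩ : ∃ z : ↥(Cfsg.GU n F q), z = scU hF (a : F) ha' := ⟨_, rfl⟩
    have hzv : gmat z = (a : F) • (1 : MM) := by rw [hz, scU_val]
    have hzi : gmat z⁻¹ = (a : F)⁻¹ • (1 : MM) := by
      have h1 : gmat z * gmat z⁻¹ = gmat z * ((a : F)⁻¹ • (1 : MM)) := by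
        rw [gmat_mul_inv, hzv, Matrix.smul_mul, Matrix.mul_smul, smul_smul, Matrix.one_mul,
          mul_inv_cancel₀ a.ne_zero, one_smul]
      exact cancel_left _ _ _ (gmat_det_ne_zero z) h1
    have hsdet : (gmat (z⁻¹ * g)).det = 1 := by
      rw [gmat_mul, hzi, Matrix.smul_mul, Matrix.one_mul, Matrix.det_smul, Fintype.card_fin, hdet',
        ← mul_pow, inv_mul_cancel₀ a.ne_zero, one_pow]
    obtain ⟨s, hs⟩ : ∃ s : ↥(Cfsg.SU n F q), smat s = gmat (z⁻¹ * g) :=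
      ⟨⟨⟨gmat (z⁻¹ * g), hsdet⟩, fun u v => (z⁻¹ * g).2 u v⟩, rfl⟩
    have hgs : guOfSU s = z⁻¹ * g := gmat_ext (by rw [gmat_guOfSU, hs])
    have hg : g = z * guOfSU s := by rw [hgs]; group
    rw [hg, map_mul, PhiU_scalar z (a : F) hzv, one_mul, PhiU_guOfSU]
    exact ⟨_, rfl⟩

theorem split_index_eq_psu (hF : Fintype.card F = q ^ 2) (hn : 3 ≤ n) (h32 : ¬ (n = 3 ∧ q = 2))
    (x₀ : MulAut (Cfsg.PSU n F q)) (W Q : Subgroup ↥(U1 F q))
    (h1 : ∀ g : ↥(Cfsg.GU n F q), PhiU g ∈ Subgroup.centralizer {x₀} →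
      ∃ a : ↥(U1 F q), ∃ b ∈ W, detU hF g = a ^ n * b)
    (h2 : ∀ b ∈ W, ∃ g : ↥(Cfsg.GU n F q), PhiU g ∈ Subgroup.centralizer {x₀} ∧
      detU hF g = b)
    (hQ : ∀ y, y ∈ Q ↔ ∃ a : ↥(U1 F q), ∃ b ∈ W, y = a ^ n * b) :
    Cfsg.splitClassCount (Cfsg.inndiagPSU n F q) (Cfsg.Inn (Cfsg.PSU n F q)) x₀ = Q.index := by
  have hnorm : ∀ h ∈ Cfsg.inndiagPSU n F q, ∀ k ∈ Cfsg.Inn (Cfsg.PSU n F q),
      h * k * h⁻¹ ∈ Cfsg.Inn (Cfsg.PSU n F q) := by
    rintro h - _ ⟨t, rfl⟩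
    exact ⟨h t, (conj_aut_conj h t).symm⟩
  rw [splitClassCount_eq_index _ _ inn_le_inndiag_psu hnorm]
  obtain ⟨H, hH⟩ : ∃ H : Subgroup (MulAut (Cfsg.PSU n F q)),
      H = Cfsg.inndiagPSU n F q := ⟨_, rfl⟩
  rw [← hH]
  have hHr : H = (PhiU (n := n) (F := F) (q := q)).range := by rw [hH, inndiagPSU_eq]
  obtain ⟨fR, hfR, hfRs⟩ : ∃ fR : ↥(Cfsg.GU n F q) →* ↥H,
      (∀ g, ((fR g : ↥H) : MulAut (Cfsg.PSU n F q)) = PhiU g) ∧
        Function.Surjective fR := by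
    subst hHr
    exact ⟨PhiU.rangeRestrict, fun g => rfl, PhiU.rangeRestrict_surjective⟩
  rw [← Subgroup.index_comap_of_surjective _ hfRs, ← Subgroup.comap_sup_eq _ _ _ hfRs]
  have hA : ((Cfsg.Inn (Cfsg.PSU n F q)).subgroupOf H).comap fR =
      (powMonoidHom n : ↥(U1 F q) →* ↥(U1 F q)).range.comap (detU hF) := by
    ext g
    rw [Subgroup.mem_comap, Subgroup.mem_subgroupOf, hfR, PhiU_mem_inn_iff hF hn h32,
      Subgroup.mem_comap]
    constructor
    · rintro ⟨u, hu⟩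
      exact ⟨u, hu.symm⟩
    · rintro ⟨u, hu⟩
      exact ⟨u, hu.symm⟩
  have hB : ∀ g, g ∈ ((Subgroup.centralizer {x₀}).subgroupOf H).comap fR ↔
      PhiU g ∈ Subgroup.centralizer {x₀} := by
    intro g
    rw [Subgroup.mem_comap, Subgroup.mem_subgroupOf, hfR]
  have hsup : ((Cfsg.Inn (Cfsg.PSU n F q)).subgroupOf H).comap fR ⊔
      ((Subgroup.centralizer {x₀}).subgroupOf H).comap fR =
      Q.comap (detU hF) := by
    apply le_antisymm
    · apply sup_le
      · rw [hA]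
        apply Subgroup.comap_mono
        rintro _ ⟨a, rfl⟩
        rw [hQ]
        exact ⟨a, 1, W.one_mem, by rw [mul_one]; rfl⟩
      · intro g hg
        rw [hB] at hg
        rw [Subgroup.mem_comap, hQ]
        exact h1 g hg
    · intro g hg
      rw [Subgroup.mem_comap, hQ] at hg
      obtain ⟨a, b, hb, hab⟩ := hg
      obtain ⟨gb, hgb, hdet⟩ := h2 b hb
      have e : g = (g * gb⁻¹) * gb := by group
      rw [e]
      apply Subgroup.mul_mem_sup
      · rw [hA, Subgroup.mem_comap]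
        refine ⟨a, ?_⟩
        rw [map_mul, map_inv, hab, hdet, powMonoidHom_apply]
        group
      · rw [hB]
        exact hgb
  rw [hsup]
  exact Subgroup.index_comap_of_surjective _ (detU_surj hF (by omega))

end detU

end Cfsg.Agent.helper14.PsuAut
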