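import Mathlib
import Cfsg.Agent.Lib_helper14_PsuL

set_option autoImplicit false
set_option linter.unusedSectionVars false
set_option linter.unusedVariables false

/-! Class splitting of unitary graph automorphisms: the case where all determinants of the
centralizer are `n`-th powers. -/

namespace Cfsg.Agent.helper14.PsuAut

open Matrix Cfsg Cfsg.Agent.helper29 Cfsg.Agent.helper11.HermCount Cfsg.Agent.helper11.Unitary
open Cfsg.Agent.helper14

section splitA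

variable {F : Type*} [Field F] [Fintype F] {q n : ℕ}

local notation "MM" => Matrix (Fin n) (Fin n) F

/-- the data attached to an element of the centralizer of a graph automorphism -/
theorem cent_data (hF : Fintype.card F = q ^ 2) (hn : 3 ≤ n) (h32 : ¬ (n = 3 ∧ q = 2))
    (σ : F ≃+* F) (hq : ∀ a, σ a = a ^ q) (N h : ↥(Cfsg.GU n F q))
    (hc : PhiU h ∈ Subgroup.centralizer {gamU σ N}) :
    ∃ c : F, c ≠ 0 ∧ c * σ c = 1 ∧ (gmat h)ᵀ * gmat N * gmat h = c • gmat N ∧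
      (gmat h).det * (gmat h).det = c ^ n := by
  rw [cent_gamU_iff hF hn h32 σ hq] at hc
  obtain ⟨a, ha⟩ := hc
  have ha0 : a ≠ 0 := smul_ne_zero_of_det (by omega) _ _ a (gmat_det_ne_zero N) ha
  have hS := smul_inv_swap _ _ a ha0 ha
  have hX : gmat (tU σ h * N * h) = a⁻¹ • gmat N := by
    rw [gmat_mul, gmat_mul, tU_val σ hq]
    exact hS
  refine ⟨a⁻¹, inv_ne_zero ha0, scalar_unitary (by omega) σ hq _ _ _ hX, hS, ?_⟩
  have h3 := congrArg Matrix.det hS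
  rw [Matrix.det_mul, Matrix.det_mul, Matrix.det_transpose, Matrix.det_smul, Fintype.card_fin]
    at h3
  apply mul_right_cancel₀ (gmat_det_ne_zero N)
  linear_combination h3

theorem mem_U1_of_norm (σ : F ≃+* F) (hq : ∀ a, σ a = a ^ q) (a : F) (ha : a * σ a = 1) :
    ∃ y : ↥(U1 F q), ((y : Fˣ) : F) = a := by
  have ha0 : a ≠ 0 := by
    rintro rfl
    rw [zero_mul] at ha
    exact zero_ne_one ha
  exact ⟨⟨Units.mk0 a ha0, (mem_U1_iff σ hq _).mpr ha⟩, rfl⟩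

theorem U1_pow_val (y : ↥(U1 F q)) (k : ℕ) : (((y ^ k : ↥(U1 F q)) : Fˣ) : F) =
    ((y : Fˣ) : F) ^ k := by
  rw [Subgroup.coe_pow, Units.val_pow_eq_pow_val]

theorem U1_mul_val (x y : ↥(U1 F q)) : (((x * y : ↥(U1 F q)) : Fˣ) : F) =
    ((x : Fˣ) : F) * ((y : Fˣ) : F) := by
  rw [Subgroup.coe_mul, Units.val_mul]

/-- the case where all determinants are `n`-th powers -/
theorem split_psu_of_pow (hF : Fintype.card F = q ^ 2) (hn : 3 ≤ n) (h32 : ¬ (n = 3 ∧ q = 2))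
    (σ : F ≃+* F) (hq : ∀ a, σ a = a ^ q) (N : ↥(Cfsg.GU n F q))
    (hpow : ∀ h : ↥(Cfsg.GU n F q), PhiU h ∈ Subgroup.centralizer {gamU σ N} →
      ∃ a : ↥(U1 F q), detU hF h = a ^ n) :
    Cfsg.splitClassCount (Cfsg.inndiagPSU n F q) (Cfsg.Inn (Cfsg.PSU n F q)) (gamU σ N) =
      Nat.gcd n (q + 1) := by
  obtain ⟨Q, hQ⟩ : ∃ Q : Subgroup ↥(U1 F q),
      Q = (powMonoidHom n : ↥(U1 F q) →* ↥(U1 F q)).range := ⟨_, rfl⟩
  have hQm : ∀ y, y ∈ Q ↔ ∃ a : ↥(U1 F q), ∃ b ∈ (⊥ : Subgroup ↥(U1 F q)), y = a ^ n * b := by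
    intro y
    rw [hQ]
    constructor
    · rintro ⟨a, rfl⟩
      exact ⟨a, 1, Subgroup.one_mem _, by rw [mul_one]; rfl⟩
    · rintro ⟨a, b, hb, rfl⟩
      rw [Subgroup.mem_bot] at hb
      subst hb
      exact ⟨a, by rw [mul_one]; rfl⟩
  rw [split_index_eq_psu hF hn h32 (gamU σ N) ⊥ Q ?_ ?_ hQm]
  · exact cyclic_index n 1 (q + 1) (by rw [card_U1 hF, mul_one]) ⊥ Subgroup.card_bot Q hQm
  · intro g hg
    obtain ⟨a, ha⟩ := hpow g hg
    exact ⟨a, 1, Subgroup.one_mem _, by rw [mul_one]; exact ha⟩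
  · intro b hb
    rw [Subgroup.mem_bot] at hb
    subst hb
    exact ⟨1, by rw [map_one]; exact Subgroup.one_mem _, map_one _⟩

theorem psu_pow_of_odd (hF : Fintype.card F = q ^ 2) (hn : 3 ≤ n) (h32 : ¬ (n = 3 ∧ q = 2))
    (σ : F ≃+* F) (hq : ∀ a, σ a = a ^ q) (N : ↥(Cfsg.GU n F q)) {k : ℕ} (hk : n = 2 * k + 1)
    (h : ↥(Cfsg.GU n F q)) (hc : PhiU h ∈ Subgroup.centralizer {gamU σ N}) :
    ∃ a : ↥(U1 F q), detU hF h = a ^ n := by
  obtain ⟨c, hc0, hcn, -, hdet⟩ := cent_data hF hn h32 σ hq N h hc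
  obtain ⟨d, hd⟩ : ∃ d : F, d = (gmat h).det := ⟨_, rfl⟩
  rw [← hd] at hdet
  have hdn : d * σ d = 1 := by rw [hd]; exact gmat_det_norm σ hq h
  have han : (d / c ^ k) * σ (d / c ^ k) = 1 := by
    rw [map_div₀, map_pow, div_mul_div_comm, hdn, ← mul_pow, hcn, one_pow, div_one]
  obtain ⟨y, hy⟩ := mem_U1_of_norm σ hq _ han
  refine ⟨y, ?_⟩
  apply U1_ext
  rw [detU_val, U1_pow_val, hy, ← hd, div_pow, ← pow_mul]
  have h1 : d ^ n = d * c ^ (k * n) := by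
    calc d ^ n = d * (d * d) ^ k := by rw [hk, pow_succ, pow_mul, pow_two]; ring
      _ = d * c ^ (k * n) := by rw [hdet, ← pow_mul, mul_comm n k]
  rw [h1, mul_div_assoc, div_self (pow_ne_zero _ hc0), mul_one]

theorem psu_pow_of_char2_even [CharP F 2] (hF : Fintype.card F = q ^ 2) (hn : 3 ≤ n)
    (h32 : ¬ (n = 3 ∧ q = 2))
    (σ : F ≃+* F) (hq : ∀ a, σ a = a ^ q) (N : ↥(Cfsg.GU n F q)) {k : ℕ} (hk : n = 2 * k)
    (h : ↥(Cfsg.GU n F q)) (hc : PhiU h ∈ Subgroup.centralizer {gamU σ N}) :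
    ∃ a : ↥(U1 F q), detU hF h = a ^ n := by
  obtain ⟨c, hc0, hcn, -, hdet⟩ := cent_data hF hn h32 σ hq N h hc
  obtain ⟨d, hd⟩ : ∃ d : F, d = (gmat h).det := ⟨_, rfl⟩
  rw [← hd] at hdet
  -- `q` is even
  have hqe : Even q := by
    by_contra hodd
    rw [Nat.not_even_iff_odd] at hodd
    have h3 : ((Fintype.card F : ℕ) : F) = 0 := Nat.cast_card_eq_zero F
    have hoddF : Odd (Fintype.card F) := by rw [hF]; exact hodd.pow
    obtain ⟨j, hj⟩ := hoddF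
    rw [hj] at h3
    push_cast at h3
    rw [CharTwo.two_eq_zero, zero_mul, zero_add] at h3
    exact one_ne_zero h3
  obtain ⟨j, hj⟩ := hqe
  have hcq : c ^ (q + 1) = 1 := by
    rw [pow_succ', ← hq]
    exact hcn
  have hdc : d = c ^ k := by
    have h1 : (d - c ^ k) ^ 2 = 0 := by
      rw [CharTwo.sub_eq_add, CharTwo.add_sq, pow_two d, hdet, hk, ← pow_mul,
        mul_comm k 2, CharTwo.add_self_eq_zero]
    exact sub_eq_zero.mp (pow_eq_zero_iff (two_ne_zero) |>.mp h1)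
  obtain ⟨e, he⟩ : ∃ e : F, e = c ^ (j + 1) := ⟨_, rfl⟩
  have hee : e * e = c := by
    rw [he, ← pow_add]
    have : j + 1 + (j + 1) = (q + 1) + 1 := by omega
    rw [this, pow_succ, hcq, one_mul]
  have hen : e * σ e = 1 := by
    rw [he, map_pow, ← mul_pow, hcn, one_pow]
  obtain ⟨y, hy⟩ := mem_U1_of_norm σ hq _ hen
  refine ⟨y, ?_⟩
  apply U1_ext
  rw [detU_val, U1_pow_val, hy, ← hd, hdc, ← hee, hk, ← pow_two, ← pow_mul]

end splitA

end Cfsg.Agent.helper14.PsuAut
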