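import Mathlib
import Cfsg.Agent.Lib_helper14_GraphI
import Cfsg.Agent.Lib_helper14_GraphH

set_option autoImplicit false
set_option linter.unusedSectionVars false
set_option linter.unusedVariables false

/-! Similitudes of alternating and symmetric forms: determinants and multipliers. -/

namespace Cfsg.Agent.helper14.PsuAut

open Matrix QuadraticMap Cfsg Cfsg.Agent.helper13
open Cfsg.Agent.helper14 Cfsg.Agent.helper14.SpAut

section sims

variable {K : Type*} [Field K] {n m : ℕ}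

local notation "GLm" => GL (Fin m ⊕ Fin m) K

theorem det_of_sim (hm : 1 ≤ m) (g : GLm) (μ : K) (hs : Sim g μ) :
    (g : Matrix (Fin m ⊕ Fin m) (Fin m ⊕ Fin m) K).det = μ ^ m := by
  have hg : g ∈ Cfsg.GSp m K := (mem_GSp_iff g).mpr ⟨μ, hs⟩
  obtain ⟨μ', hμ'⟩ : ∃ μ' : Kˣ, μ' = multG hm ⟨g, hg⟩ := ⟨_, rfl⟩
  have hμμ : (μ' : K) = μ := by
    rw [hμ', multG_apply]
    exact multF_eq hm ⟨g, hg⟩ μ hs
  have h1 : multG hm ((diagG μ')⁻¹ * ⟨g, hg⟩) = 1 := by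
    rw [map_mul, map_inv, multG_diagG, ← hμ', inv_mul_cancel]
  obtain ⟨s, hs'⟩ := exists_toG_of_mult_one hm _ h1
  have h2 : (⟨g, hg⟩ : ↥(Cfsg.GSp m K)) = diagG μ' * toG s := by
    rw [hs']
    group
  have h3 : g = ((diagG μ' : ↥(Cfsg.GSp m K)) : GLm) * ((toG s : ↥(Cfsg.GSp m K)) : GLm) := by
    have := congrArg Subtype.val h2
    exact this
  rw [h3, Units.val_mul, Matrix.det_mul, det_diagG]
  have h4 : (((toG s : ↥(Cfsg.GSp m K)) : GLm) :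
      Matrix (Fin m ⊕ Fin m) (Fin m ⊕ Fin m) K).det = 1 := sp_det_eq_one s
  rw [h4, mul_one, hμμ]

theorem form_of_matrix (M k : Matrix (Fin n) (Fin n) K) (a : K) (h : kᵀ * M * k = a • M)
    (u v : Fin n → K) : bilM M (k *ᵥ u) (k *ᵥ v) = a * bilM M u v := by
  rw [← bilM_congr, h, bilM_smul]

theorem matrix_of_form (M k : Matrix (Fin n) (Fin n) K) (a : K)
    (h : ∀ u v, bilM M (k *ᵥ u) (k *ᵥ v) = a * bilM M u v) : kᵀ * M * k = a • M := by
  apply bilM_ext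
  intro u v
  rw [bilM_congr, bilM_smul, h]

/-- conjugating into the standard symplectic form -/
theorem alt_setup (hnm : n = 2 * m) (N : GL (Fin n) K)
    (halt : ∀ v, bilM (N : Matrix (Fin n) (Fin n) K) v v = 0) :
    ∃ (E : Matrix (Fin m ⊕ Fin m) (Fin n) K) (E' : Matrix (Fin n) (Fin m ⊕ Fin m) K)
      (h1 : E * E' = 1) (h2 : E' * E = 1),
      ∀ u v, bilM (N : Matrix (Fin n) (Fin n) K) u v =
        - Cfsg.sympForm m K (E *ᵥ u) (E *ᵥ v) := by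
  obtain ⟨g, hg⟩ := alt_classify hnm N halt
  have h1 : LinearMap.toMatrix' (g : (Fin n → K) →ₗ[K] (Fin m ⊕ Fin m → K)) *
      LinearMap.toMatrix' (g.symm : (Fin m ⊕ Fin m → K) →ₗ[K] (Fin n → K)) = 1 := by
    rw [← LinearMap.toMatrix'_comp]
    have : (g : (Fin n → K) →ₗ[K] (Fin m ⊕ Fin m → K)) ∘ₗ
        (g.symm : (Fin m ⊕ Fin m → K) →ₗ[K] (Fin n → K)) = LinearMap.id :=
      LinearMap.ext fun x => g.apply_symm_apply x
    rw [this, LinearMap.toMatrix'_id]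
  have h2 : LinearMap.toMatrix' (g.symm : (Fin m ⊕ Fin m → K) →ₗ[K] (Fin n → K)) *
      LinearMap.toMatrix' (g : (Fin n → K) →ₗ[K] (Fin m ⊕ Fin m → K)) = 1 := by
    rw [← LinearMap.toMatrix'_comp]
    have : (g.symm : (Fin m ⊕ Fin m → K) →ₗ[K] (Fin n → K)) ∘ₗ
        (g : (Fin n → K) →ₗ[K] (Fin m ⊕ Fin m → K)) = LinearMap.id :=
      LinearMap.ext fun x => g.symm_apply_apply x
    rw [this, LinearMap.toMatrix'_id]
  refine ⟨_, _, h1, h2, fun u v => ?_⟩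
  rw [LinearMap.toMatrix'_mulVec, LinearMap.toMatrix'_mulVec, hg]
  rfl

theorem det_of_alt_sim (hnm : n = 2 * m) (hm : 1 ≤ m) (N : GL (Fin n) K)
    (halt : ∀ v, bilM (N : Matrix (Fin n) (Fin n) K) v v = 0) (h : GL (Fin n) K) (c : K)
    (hc : c ≠ 0)
    (hS : (h : Matrix (Fin n) (Fin n) K)ᵀ * (N : Matrix (Fin n) (Fin n) K) *
      (h : Matrix (Fin n) (Fin n) K) = c • (N : Matrix (Fin n) (Fin n) K)) :
    (h : Matrix (Fin n) (Fin n) K).det = c ^ m := by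
  obtain ⟨E, E', h1, h2, hE⟩ := alt_setup hnm N halt
  have hE'E : ∀ w : Fin m ⊕ Fin m → K, E *ᵥ (E' *ᵥ w) = w := by
    intro w
    rw [Matrix.mulVec_mulVec, h1, Matrix.one_mulVec]
  have hsim : Sim (conjGL E E' h1 h2 h) c := by
    refine ⟨hc, fun a b => ?_⟩
    have ha : a = E *ᵥ (E' *ᵥ a) := (hE'E a).symm
    have hb : b = E *ᵥ (E' *ᵥ b) := (hE'E b).symm
    rw [ha, hb, conjGL_mulVec, conjGL_mulVec]
    have e1 := hE ((h : Matrix (Fin n) (Fin n) K) *ᵥ (E' *ᵥ a))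
      ((h : Matrix (Fin n) (Fin n) K) *ᵥ (E' *ᵥ b))
    have e2 := hE (E' *ᵥ a) (E' *ᵥ b)
    rw [form_of_matrix _ _ c hS] at e1
    linear_combination e1 - c * e2
  have h3 := det_of_sim hm _ c hsim
  rw [conjGL_val] at h3
  rw [← h3]
  exact (Matrix.det_conj_of_mul_eq_one h1 h2).symm

theorem exists_alt_sim (hnm : n = 2 * m) (hm : 1 ≤ m) (N : GL (Fin n) K)
    (halt : ∀ v, bilM (N : Matrix (Fin n) (Fin n) K) v v = 0) (c : Kˣ) :
    ∃ k : GL (Fin n) K, (k : Matrix (Fin n) (Fin n) K)ᵀ * (N : Matrix (Fin n) (Fin n) K) *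
      (k : Matrix (Fin n) (Fin n) K) = (c : K) • (N : Matrix (Fin n) (Fin n) K) := by
  obtain ⟨E, E', h1, h2, hE⟩ := alt_setup hnm N halt
  obtain ⟨d, hd⟩ : ∃ d : GLm, d = ((diagG c : ↥(Cfsg.GSp m K)) : GLm) := ⟨_, rfl⟩
  have hsim : Sim d (c : K) := by
    have := multF_spec (diagG c : ↥(Cfsg.GSp m K))
    rw [← multG_apply hm, multG_diagG] at this
    rw [hd]
    exact this
  refine ⟨(conjGL E E' h1 h2).symm d, ?_⟩
  apply matrix_of_form
  intro u v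
  rw [hE, hE, conjGL_symm_val, ← Matrix.mulVec_mulVec, ← Matrix.mulVec_mulVec,
    ← Matrix.mulVec_mulVec, ← Matrix.mulVec_mulVec]
  have hEE' : ∀ w : Fin m ⊕ Fin m → K, E *ᵥ (E' *ᵥ w) = w := by
    intro w
    rw [Matrix.mulVec_mulVec, h1, Matrix.one_mulVec]
  rw [hEE', hEE', hsim.2]
  ring

theorem exists_sim_symm [Fintype K] (h2 : (2 : K) ≠ 0) (hnm : n = 2 * m) (hm : 1 ≤ m)
    (M : GL (Fin n) K)
    (hM : (M : Matrix (Fin n) (Fin n) K)ᵀ = (M : Matrix (Fin n) (Fin n) K)) (c : Kˣ) :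
    ∃ k : GL (Fin n) K, (k : Matrix (Fin n) (Fin n) K)ᵀ * (M : Matrix (Fin n) (Fin n) K) *
      (k : Matrix (Fin n) (Fin n) K) = (c : K) • (M : Matrix (Fin n) (Fin n) K) := by
  have hQn := QM_nondeg h2 M hM
  obtain ⟨k, hk⟩ := Cfsg.Agent.S2624.result (by omega : 2 ≤ n) ⟨m, by omega⟩
    (QM (M : Matrix (Fin n) (Fin n) K)) hQn (c : K) c.ne_zero
  refine ⟨glOfEquiv k, ?_⟩
  apply matrix_of_form
  intro u v
  rw [bilM_polarize h2 _ hM, bilM_polarize h2 _ hM u v, ← Matrix.mulVec_add,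
    glOfEquiv_mulVec, glOfEquiv_mulVec, glOfEquiv_mulVec, hk, hk, hk]
  ring

theorem exists_refl_symm (h2 : (2 : K) ≠ 0) (hn : 0 < n) (M : GL (Fin n) K)
    (hM : (M : Matrix (Fin n) (Fin n) K)ᵀ = (M : Matrix (Fin n) (Fin n) K)) :
    ∃ k : GL (Fin n) K, (k : Matrix (Fin n) (Fin n) K)ᵀ * (M : Matrix (Fin n) (Fin n) K) *
      (k : Matrix (Fin n) (Fin n) K) = (1 : K) • (M : Matrix (Fin n) (Fin n) K) ∧
      (k : Matrix (Fin n) (Fin n) K).det = -1 := by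
  obtain ⟨w, hw⟩ := exists_QM_ne_zero h2 hn M hM
  refine ⟨(reflG (QM (M : Matrix (Fin n) (Fin n) K)) w hw : GL (Fin n) K), ?_, det_reflG _ w hw⟩
  apply matrix_of_form
  intro u v
  have hq : ∀ x, QM (M : Matrix (Fin n) (Fin n) K)
      (((reflG (QM (M : Matrix (Fin n) (Fin n) K)) w hw : GL (Fin n) K) :
        Matrix (Fin n) (Fin n) K) *ᵥ x) = QM (M : Matrix (Fin n) (Fin n) K) x :=
    fun x => Q_iact (reflG (QM (M : Matrix (Fin n) (Fin n) K)) w hw) x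
  rw [bilM_polarize h2 _ hM, bilM_polarize h2 _ hM u v, ← Matrix.mulVec_add, hq, hq, hq]
  ring

end sims

end Cfsg.Agent.helper14.PsuAut
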