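import Mathlib
import Cfsg.Agent.Lib_helper14_PsuM
import Cfsg.Agent.Lib_helper14_PsuN

set_option autoImplicit false
set_option linter.unusedSectionVars false
set_option linter.unusedVariables false

/-! Elements of the centralizer of a unitary graph automorphism with prescribed determinant. -/

namespace Cfsg.Agent.helper14.PsuAut

open Matrix Cfsg Cfsg.Agent.helper29 Cfsg.Agent.helper11.HermCount Cfsg.Agent.helper11.Unitary
open Cfsg.Agent.helper14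

section centdet

variable {F : Type*} [Field F] [Fintype F] {F₀ : Type*} [Field F₀] {q n : ℕ}

local notation "MM" => Matrix (Fin n) (Fin n) F
local notation "MM₀" => Matrix (Fin n) (Fin n) F₀

theorem descent_self (σ : F ≃+* F) (ι : F₀ →+* F)
    (hι : ∀ a : F, σ a = a ↔ a ∈ ι.range) (N P : MM) (M₀ : MM₀) (a b : F)
    (hP : P.det ≠ 0)
    (h1 : Pᵀ * P.map σ = a • M₀.map ι) (h2 : Pᵀ * N * P = b • M₀.map ι)
    (k₀ : MM₀) (c₀ : F₀) (hk : k₀ᵀ * M₀ * k₀ = c₀ • M₀)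
    (ν : F) (hν : ν * σ ν * ι c₀ = 1) :
    ∃ h : MM, hᵀ * h.map σ = 1 ∧ hᵀ * N * h = (ν * ν * ι c₀) • N ∧
      h.det = ν ^ n * ι k₀.det := by
  have hPu : IsUnit P.det := isUnit_iff_ne_zero.mpr hP
  obtain ⟨Y, hY⟩ : ∃ Y : MM, Y = ν • (P * k₀.map ι) := ⟨_, rfl⟩
  obtain ⟨h, hh⟩ : ∃ h : MM, h = Y * P⁻¹ := ⟨_, rfl⟩
  have hhP : h * P = Y := by
    rw [hh, Matrix.mul_assoc, Matrix.nonsing_inv_mul P hPu, Matrix.mul_one]
  have hkι : (k₀ᵀ * M₀ * k₀).map ι = ι c₀ • M₀.map ι := by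
    rw [hk, map_smulι]
  rw [Matrix.map_mul, Matrix.map_mul, Matrix.transpose_map] at hkι
  have EY1 : Yᵀ * Y.map σ = a • M₀.map ι := by
    have h3 : Yᵀ * Y.map σ = (ν * σ ν) • ((P * k₀.map ι)ᵀ * (P * k₀.map ι).map σ) := by
      rw [hY, Matrix.transpose_smul, map_smulσ, Matrix.smul_mul, Matrix.mul_smul, smul_smul]
    rw [h3, tr_mul_map, h1, map_fixed σ ι hι, Matrix.mul_smul, Matrix.smul_mul,
      hkι, smul_smul, smul_smul]
    congr 1
    linear_combination a * hν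
  have EY2 : Yᵀ * N * Y = (ν * ν * ι c₀) • (Pᵀ * N * P) := by
    have h3 : Yᵀ * N * Y = (ν * ν) • ((P * k₀.map ι)ᵀ * N * (P * k₀.map ι)) := by
      rw [hY, Matrix.transpose_smul, Matrix.smul_mul, Matrix.smul_mul, Matrix.mul_smul, smul_smul]
    rw [h3, tr_mul_mid, h2, Matrix.mul_smul, Matrix.smul_mul, hkι, smul_smul,
      smul_smul, smul_smul]
    congr 1
    ring
  have hPT : (Pᵀ).det ≠ 0 := by rw [Matrix.det_transpose]; exact hP
  refine ⟨h, ?_, ?_, ?_⟩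
  · have h3 : Pᵀ * (hᵀ * h.map σ) * P.map σ = Pᵀ * 1 * P.map σ := by
      rw [← tr_mul_map, hhP, EY1, Matrix.mul_one, h1]
    have h4 := cancel_right _ _ _ (det_mapσ_ne_zero σ P hP) h3
    exact cancel_left _ _ _ hPT h4
  · have h3 : Pᵀ * (hᵀ * N * h) * P = Pᵀ * ((ν * ν * ι c₀) • N) * P := by
      rw [← tr_mul_mid, hhP, EY2, Matrix.mul_smul, Matrix.smul_mul]
    have h4 := cancel_right _ _ _ hP h3
    exact cancel_left _ _ _ hPT h4
  · have h3 := congrArg Matrix.det hhP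
    rw [hY, Matrix.det_mul, Matrix.det_smul, Matrix.det_mul, Fintype.card_fin] at h3
    have h4 : (k₀.map ι).det = ι k₀.det := by
      have := RingHom.map_det ι k₀
      rw [RingHom.mapMatrix_apply] at this
      exact this.symm
    rw [h4] at h3
    apply mul_right_cancel₀ hP
    linear_combination h3

theorem exists_nu (hF : Fintype.card F = q ^ 2) (σ : F ≃+* F) (hq : ∀ a, σ a = a ^ q)
    (u : F) (hu : u * σ u = 1) : ∃ ν : F, ν ≠ 0 ∧ u * σ ν = ν := by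
  by_cases h : u = -1
  · obtain ⟨e, he0, he⟩ := exists_twist_unit hF σ hq (-1) (Or.inr rfl)
    refine ⟨e, he0, ?_⟩
    rw [h, he]
    ring
  · refine ⟨1 + u, ?_, ?_⟩
    · intro h0
      apply h
      linear_combination h0
    · rw [map_add, map_one, mul_add, mul_one, hu]
      ring

theorem exists_cent_of_sim (hF : Fintype.card F = q ^ 2) (hn : 3 ≤ n)
    (h32 : ¬ (n = 3 ∧ q = 2)) (σ : F ≃+* F) (hq : ∀ a, σ a = a ^ q) (ι : F₀ →+* F)
    (hι : ∀ a : F, σ a = a ↔ a ∈ ι.range)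
    (N : ↥(Cfsg.GU n F q)) (M₀ : GL (Fin n) F₀) (hR : Rel σ ι N M₀)
    (k₀ : MM₀) (hk₀ : k₀.det ≠ 0) (c₀ : F₀) (hk : k₀ᵀ * (M₀ : MM₀) * k₀ = c₀ • (M₀ : MM₀))
    (ν : F) (hν : ν * σ ν * ι c₀ = 1) :
    ∃ h : ↥(Cfsg.GU n F q), PhiU h ∈ Subgroup.centralizer {gamU σ N} ∧
      (gmat h).det = ν ^ n * ι k₀.det := by
  obtain ⟨P, a, b, hP, ha, hb, h1, h2⟩ := hR
  obtain ⟨h, hU, hS, hdet⟩ := descent_self σ ι hι (gmat N) P (M₀ : MM₀) a b hP h1 h2 k₀ c₀ hk ν hν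
  have hν0 : ν ≠ 0 := by
    rintro rfl
    rw [zero_mul, zero_mul] at hν
    exact zero_ne_one hν
  have hc0 : ι c₀ ≠ 0 := by
    intro h0
    rw [h0, mul_zero] at hν
    exact zero_ne_one hν
  have hdet0 : h.det ≠ 0 := by
    rw [hdet]
    exact mul_ne_zero (pow_ne_zero _ hν0) ((map_ne_zero ι).mpr hk₀)
  obtain ⟨g, hg⟩ := exists_gu_of_mat (q := q) σ hq h hdet0 hU
  refine ⟨g, ?_, by rw [hg]; exact hdet⟩
  rw [cent_gamU_iff hF hn h32 σ hq]
  refine ⟨(ν * ν * ι c₀)⁻¹, ?_⟩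
  rw [hg, hS, smul_smul, inv_mul_cancel₀ (mul_ne_zero (mul_ne_zero hν0 hν0) hc0), one_smul]

theorem rel_symm_type (σ : F ≃+* F) (ι : F₀ →+* F) (N : ↥(Cfsg.GU n F q)) (M₀ : GL (Fin n) F₀)
    (hR : Rel σ ι N M₀) (ε₀ : F₀) (hN : (gmat N)ᵀ = ι ε₀ • gmat N) :
    (M₀ : MM₀)ᵀ = ε₀ • (M₀ : MM₀) := by
  obtain ⟨P, a, b, hP, ha, hb, h1, h2⟩ := hR
  have h3 : (Pᵀ * gmat N * P)ᵀ = ι ε₀ • (Pᵀ * gmat N * P) := by
    rw [Matrix.transpose_mul, Matrix.transpose_mul, Matrix.transpose_transpose, hN,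
      Matrix.smul_mul, Matrix.mul_smul, Matrix.mul_assoc]
  rw [h2, Matrix.transpose_smul, smul_smul] at h3
  ext i j
  have h4 := congrFun (congrFun h3 i) j
  simp only [Matrix.smul_apply, Matrix.transpose_apply, Matrix.map_apply, smul_eq_mul] at h4
  have h5 : ι ((M₀ : MM₀) j i) = ι (ε₀ * (M₀ : MM₀) i j) := by
    rw [map_mul]
    apply mul_left_cancel₀ hb
    linear_combination h4
  rw [Matrix.transpose_apply, Matrix.smul_apply, smul_eq_mul]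
  exact ι.injective h5

theorem alt_of_skew {K : Type*} [Field K] (h2 : (2 : K) ≠ 0) (M : Matrix (Fin n) (Fin n) K)
    (hM : Mᵀ = -M) (v : Fin n → K) : bilM M v v = 0 := by
  have h3 : bilM M v v = bilM Mᵀ v v := bilM_flip _ v v
  rw [hM] at h3
  have h4 : bilM (-M) v v = - bilM M v v := by
    have := bilM_smul M (-1) v v
    rw [neg_one_smul] at this
    rw [this]
    ring
  rw [h4] at h3
  have h5 : (2 : K) * bilM M v v = 0 := by linear_combination h3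
  rcases mul_eq_zero.mp h5 with h6 | h6
  · exact absurd h6 h2
  · exact h6

theorem fixed_inv_norm (σ : F ≃+* F) (hinv : ∀ a, σ (σ a) = a) (ι : F₀ →+* F)
    (hι : ∀ a : F, σ a = a ↔ a ∈ ι.range) (ν : F) (hν : ν ≠ 0) :
    ∃ c₀ : F₀, c₀ ≠ 0 ∧ ι c₀ = (ν * σ ν)⁻¹ ∧ ν * σ ν * ι c₀ = 1 := by
  have hσν : σ ν ≠ 0 := (map_ne_zero σ).mpr hν
  have hfix : σ ((ν * σ ν)⁻¹) = (ν * σ ν)⁻¹ := by
    rw [map_inv₀, map_mul, hinv, mul_comm]
  obtain ⟨c₀, hc₀⟩ := (hι _).mp hfix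
  refine ⟨c₀, ?_, hc₀, ?_⟩
  · rintro rfl
    rw [map_zero] at hc₀
    exact inv_ne_zero (mul_ne_zero hν hσν) hc₀.symm
  · rw [hc₀, mul_inv_cancel₀ (mul_ne_zero hν hσν)]

end centdet

end Cfsg.Agent.helper14.PsuAut
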