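import Mathlib
import Cfsg.Agent.Lib_helper14_PsuO

set_option autoImplicit false
set_option linter.unusedSectionVars false
set_option linter.unusedVariables false

/-! Class splitting of unitary graph automorphisms in even dimension and odd characteristic. -/

namespace Cfsg.Agent.helper14.PsuAut

open Matrix Cfsg Cfsg.Agent.helper29 Cfsg.Agent.helper11.HermCount Cfsg.Agent.helper11.Unitary
open Cfsg.Agent.helper14

section splitB

variable {F : Type*} [Field F] [Fintype F] {F₀ : Type*} [Field F₀] {q n : ℕ}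

local notation "MM" => Matrix (Fin n) (Fin n) F
local notation "MM₀" => Matrix (Fin n) (Fin n) F₀

theorem two_ne_zero_sub (ι : F₀ →+* F) (h2 : (2 : F) ≠ 0) : (2 : F₀) ≠ 0 := by
  intro h
  apply h2
  have : ι (2 : F₀) = 2 := map_ofNat ι 2
  rw [← this, h, map_zero]

theorem ratio_pow (σ : F ≃+* F) (u ν c : F) (hν : ν ≠ 0) (hu : u * σ ν = ν)
    (hc : c = (ν * σ ν)⁻¹) {m : ℕ} (hnm : n = 2 * m) : ν ^ n * c ^ m = u ^ m := by
  have hσν : σ ν ≠ 0 := (map_ne_zero σ).mpr hν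
  rw [hc, hnm, pow_mul, ← mul_pow]
  congr 1
  rw [eq_comm, eq_mul_inv_iff_mul_eq₀ (mul_ne_zero hν hσν)]
  linear_combination ν * hu

theorem split_psu_skew (hF : Fintype.card F = q ^ 2) (hn : 3 ≤ n)
    (h32 : ¬ (n = 3 ∧ q = 2)) (σ : F ≃+* F) (hq : ∀ a, σ a = a ^ q) (ι : F₀ →+* F)
    (hι : ∀ a : F, σ a = a ↔ a ∈ ι.range) (h2 : (2 : F) ≠ 0) {m : ℕ} (hm : 1 ≤ m)
    (hnm : n = 2 * m)
    (N : ↥(Cfsg.GU n F q)) (hN : (gmat N)ᵀ = -gmat N) (M₀ : GL (Fin n) F₀)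
    (hR : Rel σ ι N M₀) :
    Cfsg.splitClassCount (Cfsg.inndiagPSU n F q) (Cfsg.Inn (Cfsg.PSU n F q)) (gamU σ N) =
      Nat.gcd m (q + 1) := by
  have hinv := frob_inv hF σ hq
  have h2' := two_ne_zero_sub ι h2
  have halt : ∀ v, bilM ((N : GL (Fin n) F) : MM) v v = 0 := alt_of_skew h2 _ hN
  have hM₀T : (M₀ : MM₀)ᵀ = -(M₀ : MM₀) := by
    have := rel_symm_type σ ι N M₀ hR (-1) (by
      rw [map_neg, map_one, neg_one_smul]
      exact hN)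
    rw [this, neg_one_smul]
  have halt₀ : ∀ v, bilM (M₀ : MM₀) v v = 0 := alt_of_skew h2' _ hM₀T
  obtain ⟨Q, hQ⟩ : ∃ Q : Subgroup ↥(U1 F q),
      Q = (powMonoidHom m : ↥(U1 F q) →* ↥(U1 F q)).range := ⟨_, rfl⟩
  have hQm : ∀ y, y ∈ Q ↔ ∃ a : ↥(U1 F q), ∃ b ∈ Q, y = a ^ n * b := by
    intro y
    constructor
    · intro hy
      exact ⟨1, y, hy, by rw [one_pow, one_mul]⟩
    · rintro ⟨a, b, hb, rfl⟩
      rw [hQ] at hb ⊢
      obtain ⟨c, rfl⟩ := hb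
      refine ⟨a * a * c, ?_⟩
      rw [powMonoidHom_apply, powMonoidHom_apply, hnm, mul_pow, ← pow_two, ← pow_mul]
  have hQ' : ∀ y, y ∈ Q ↔ ∃ a : ↥(U1 F q), ∃ b ∈ (⊥ : Subgroup ↥(U1 F q)), y = a ^ m * b := by
    intro y
    rw [hQ]
    constructor
    · rintro ⟨a, rfl⟩
      exact ⟨a, 1, Subgroup.one_mem _, by rw [mul_one]; rfl⟩
    · rintro ⟨a, b, hb, rfl⟩
      rw [Subgroup.mem_bot] at hb
      subst hb
      exact ⟨a, by rw [mul_one]; rfl⟩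
  rw [split_index_eq_psu hF hn h32 (gamU σ N) Q Q ?_ ?_ hQm]
  · exact cyclic_index m 1 (q + 1) (by rw [card_U1 hF, mul_one]) ⊥ Subgroup.card_bot Q hQ'
  · intro h hc
    obtain ⟨c, hc0, hcn, hS, -⟩ := cent_data hF hn h32 σ hq N h hc
    have hdet := det_of_alt_sim hnm hm (N : GL (Fin n) F) halt (h : GL (Fin n) F) c hc0 hS
    obtain ⟨y, hy⟩ := mem_U1_of_norm σ hq c hcn
    refine ⟨1, detU hF h, ?_, by rw [one_pow, one_mul]⟩
    rw [hQ]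
    refine ⟨y, ?_⟩
    apply U1_ext
    rw [powMonoidHom_apply, U1_pow_val, hy, detU_val]
    exact hdet.symm
  · intro b hb
    rw [hQ] at hb
    obtain ⟨u, rfl⟩ := hb
    have hun : ((u : Fˣ) : F) * σ ((u : Fˣ) : F) = 1 := (mem_U1_iff σ hq _).mp u.2
    obtain ⟨ν, hν0, hν⟩ := exists_nu hF σ hq _ hun
    obtain ⟨c₀, hc₀0, hc₀, hνc⟩ := fixed_inv_norm σ hinv ι hι ν hν0
    obtain ⟨k₀, hk₀⟩ := exists_alt_sim hnm hm M₀ halt₀ (Units.mk0 c₀ hc₀0)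
    have hk₀det := det_of_alt_sim hnm hm M₀ halt₀ k₀ c₀ hc₀0 hk₀
    obtain ⟨g, hg, hgdet⟩ := exists_cent_of_sim hF hn h32 σ hq ι hι N M₀ hR (k₀ : MM₀)
      (gl_det_ne_zero k₀) c₀ hk₀ ν hνc
    refine ⟨g, hg, ?_⟩
    apply U1_ext
    rw [detU_val, powMonoidHom_apply, U1_pow_val, hgdet, hk₀det, map_pow]
    exact ratio_pow σ _ ν _ hν0 hν hc₀ hnm

end splitB

end Cfsg.Agent.helper14.PsuAut
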