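import Mathlib
import Cfsg.Agent.Lib_helper14_PsuP

set_option autoImplicit false
set_option linter.unusedSectionVars false
set_option linter.unusedVariables false

/-! Class splitting of unitary graph automorphisms of orthogonal type. -/

namespace Cfsg.Agent.helper14.PsuAut

open Matrix Cfsg Cfsg.Agent.helper29 Cfsg.Agent.helper11.HermCount Cfsg.Agent.helper11.Unitary
open Cfsg.Agent.helper14

section splitC

variable {F : Type*} [Field F] [Fintype F] {F₀ : Type*} [Field F₀] [Fintype F₀] {q n : ℕ}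

local notation "MM" => Matrix (Fin n) (Fin n) F
local notation "MM₀" => Matrix (Fin n) (Fin n) F₀

theorem neg_one_mem_U1 (hodd : Odd q) : (-1 : Fˣ) ∈ U1 F q := by
  rw [mem_U1_iff']
  rw [Units.val_neg, Units.val_one, ← pow_succ']
  exact Even.neg_one_pow hodd.add_one

theorem split_psu_symm (hF : Fintype.card F = q ^ 2) (hn : 3 ≤ n)
    (h32 : ¬ (n = 3 ∧ q = 2)) (σ : F ≃+* F) (hq : ∀ a, σ a = a ^ q) (ι : F₀ →+* F)
    (hι : ∀ a : F, σ a = a ↔ a ∈ ι.range) (h2 : (2 : F) ≠ 0) (hodd : Odd q) {m : ℕ}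
    (hm : 1 ≤ m) (hnm : n = 2 * m)
    (N : ↥(Cfsg.GU n F q)) (hN : (gmat N)ᵀ = gmat N) (M₀ : GL (Fin n) F₀)
    (hR : Rel σ ι N M₀) :
    Cfsg.splitClassCount (Cfsg.inndiagPSU n F q) (Cfsg.Inn (Cfsg.PSU n F q)) (gamU σ N) =
      Nat.gcd m ((q + 1) / 2) := by
  have hinv := frob_inv hF σ hq
  have h2' := two_ne_zero_sub ι h2
  have hn0 : 0 < n := by omega
  have hM₀T : (M₀ : MM₀)ᵀ = (M₀ : MM₀) := by
    have := rel_symm_type σ ι N M₀ hR 1 (by
      rw [map_one, one_smul]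
      exact hN)
    rw [this, one_smul]
  obtain ⟨negOne, hnegOne⟩ : ∃ negOne : ↥(U1 F q), ((negOne : Fˣ) : F) = -1 :=
    ⟨⟨-1, neg_one_mem_U1 hodd⟩, by rw [Units.val_neg, Units.val_one]⟩
  obtain ⟨D, hD⟩ : ∃ D : Subgroup ↥(U1 F q),
      D = ((Subgroup.centralizer {gamU σ N}).comap PhiU).map (detU hF) := ⟨_, rfl⟩
  have hDmem : ∀ y, y ∈ D ↔ ∃ h : ↥(Cfsg.GU n F q),
      PhiU h ∈ Subgroup.centralizer {gamU σ N} ∧ detU hF h = y := by
    intro y
    rw [hD, Subgroup.mem_map]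
    constructor
    · rintro ⟨h, hh, rfl⟩
      exact ⟨h, Subgroup.mem_comap.mp hh, rfl⟩
    · rintro ⟨h, hh, rfl⟩
      exact ⟨h, Subgroup.mem_comap.mpr hh, rfl⟩
  have hneg : negOne ∈ D := by
    rw [hDmem]
    obtain ⟨k₀, hk₀, hk₀det⟩ := exists_refl_symm h2' hn0 M₀ hM₀T
    obtain ⟨g, hg, hgdet⟩ := exists_cent_of_sim hF hn h32 σ hq ι hι N M₀ hR (k₀ : MM₀)
      (gl_det_ne_zero k₀) 1 hk₀ 1 (by rw [map_one, map_one, mul_one, mul_one])
    refine ⟨g, hg, ?_⟩
    apply U1_ext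
    rw [detU_val, hgdet, hk₀det, hnegOne, one_pow, one_mul, map_neg, map_one]
  have hpow : ∀ u : ↥(U1 F q), u ^ m ∈ D := by
    intro u
    have hun : ((u : Fˣ) : F) * σ ((u : Fˣ) : F) = 1 := (mem_U1_iff σ hq _).mp u.2
    obtain ⟨ν, hν0, hν⟩ := exists_nu hF σ hq _ hun
    obtain ⟨c₀, hc₀0, hc₀, hνc⟩ := fixed_inv_norm σ hinv ι hι ν hν0
    obtain ⟨k₀, hk₀⟩ := exists_sim_symm h2' hnm hm M₀ hM₀T (Units.mk0 c₀ hc₀0)
    rw [Units.val_mk0] at hk₀
    have hsq := det_sq_of_form M₀ k₀ c₀ (form_of_matrix _ _ c₀ hk₀)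
    have hsq' : (k₀ : MM₀).det * (k₀ : MM₀).det = (c₀ ^ m) * (c₀ ^ m) := by
      rw [hsq, hnm]
      ring
    obtain ⟨g, hg, hgdet⟩ := exists_cent_of_sim hF hn h32 σ hq ι hι N M₀ hR (k₀ : MM₀)
      (gl_det_ne_zero k₀) c₀ hk₀ ν hνc
    have hgD : detU hF g ∈ D := (hDmem _).mpr ⟨g, hg, rfl⟩
    have hr := ratio_pow σ _ ν _ hν0 hν hc₀ hnm
    rcases sq_eq_cases hsq' with h3 | h3
    · have : u ^ m = detU hF g := by
        apply U1_ext
        rw [detU_val, U1_pow_val, hgdet, h3, map_pow]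
        exact hr.symm
      rw [this]
      exact hgD
    · have : u ^ m = negOne * detU hF g := by
        apply U1_ext
        rw [U1_mul_val, detU_val, U1_pow_val, hgdet, h3, map_neg, map_pow, hnegOne, ← hr]
        ring
      rw [this]
      exact D.mul_mem hneg hgD
  have hDchar : ∀ y, y ∈ D ↔ ∃ a : ↥(U1 F q), ∃ b ∈ Subgroup.zpowers negOne, y = a ^ m * b := by
    intro y
    constructor
    · intro hy
      rw [hDmem] at hy
      obtain ⟨h, hc, rfl⟩ := hy
      obtain ⟨c, hc0, hcn, -, hdet⟩ := cent_data hF hn h32 σ hq N h hc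
      obtain ⟨yc, hyc⟩ := mem_U1_of_norm σ hq c hcn
      have hsq' : (gmat h).det * (gmat h).det = (c ^ m) * (c ^ m) := by
        rw [hdet, hnm]
        ring
      rcases sq_eq_cases hsq' with h3 | h3
      · refine ⟨yc, 1, Subgroup.one_mem _, ?_⟩
        apply U1_ext
        rw [mul_one, detU_val, U1_pow_val, hyc, h3]
      · refine ⟨yc, negOne, Subgroup.mem_zpowers _, ?_⟩
        apply U1_ext
        rw [U1_mul_val, detU_val, U1_pow_val, hyc, h3, hnegOne]
        ring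
    · rintro ⟨a, b, hb, rfl⟩
      exact D.mul_mem (hpow a) ((Subgroup.zpowers_le.mpr hneg) hb)
  have hDm : ∀ y, y ∈ D ↔ ∃ a : ↥(U1 F q), ∃ b ∈ D, y = a ^ n * b := by
    intro y
    constructor
    · intro hy
      exact ⟨1, y, hy, by rw [one_pow, one_mul]⟩
    · rintro ⟨a, b, hb, rfl⟩
      refine D.mul_mem ?_ hb
      have : a ^ n = (a * a) ^ m := by
        rw [hnm, ← pow_two, ← pow_mul]
      rw [this]
      exact hpow _
  rw [split_index_eq_psu hF hn h32 (gamU σ N) D D ?_ ?_ hDm]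
  · obtain ⟨L, hL⟩ : ∃ L, q + 1 = 2 * L := by
      obtain ⟨k, hk⟩ := hodd
      exact ⟨k + 1, by omega⟩
    have hord : orderOf negOne = 2 := by
      rw [orderOf_eq_iff (by norm_num)]
      refine ⟨?_, ?_⟩
      · apply U1_ext
        rw [U1_pow_val, hnegOne]
        simp
      · intro k hk hk0
        have hk1 : k = 1 := by omega
        subst hk1
        rw [pow_one]
        intro h
        have := congrArg (fun y : ↥(U1 F q) => ((y : Fˣ) : F)) h
        simp only [hnegOne] at this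
        apply h2
        have h5 : ((1 : ↥(U1 F q)) : Fˣ) = 1 := rfl
        rw [h5, Units.val_one] at this
        linear_combination -this
    have hcard : Nat.card (Subgroup.zpowers negOne) = 2 := by
      rw [Nat.card_zpowers, hord]
    rw [hL, Nat.mul_div_cancel_left L (by norm_num)]
    exact cyclic_index m 2 L (by rw [card_U1 hF, hL, mul_comm]) _ hcard D hDchar
  · intro h hc
    exact ⟨1, detU hF h, (hDmem _).mpr ⟨h, hc, rfl⟩, by rw [one_pow, one_mul]⟩
  · intro b hb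
    exact (hDmem b).mp hb

end splitC

end Cfsg.Agent.helper14.PsuAut
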