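import Cfsg.Statements.S1465
import Mathlib
import Cfsg.Agent.Lib_helper14_QuadCore
import Cfsg.Agent.Lib_helper3_PStab
import Cfsg.Agent.Lib_helper23_PSolv3
-- import your own Cfsg.Agent.* helpers here

set_option autoImplicit false
open Cfsg

namespace Cfsg.Agent.S1465


open scoped commutatorElement

theorem conj_pow_mul {G : Type*} [Group G] (c t z : G) (h1 : c * t * c⁻¹ = z * t)
    (h2 : c * z = z * c) (m : ℕ) : c ^ m * t * (c ^ m)⁻¹ = z ^ m * t := by
  induction m with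
  | zero => simp
  | succ m ih =>
    have hz : c * z ^ m = z ^ m * c := (Commute.pow_right (show Commute c z from h2) m).eq
    calc c ^ (m + 1) * t * (c ^ (m + 1))⁻¹ = c * (c ^ m * t * (c ^ m)⁻¹) * c⁻¹ := by
          rw [pow_succ']; group
      _ = c * (z ^ m * t) * c⁻¹ := by rw [ih]
      _ = (c * z ^ m) * t * c⁻¹ := by group
      _ = z ^ m * (c * t * c⁻¹) := by rw [hz]; group
      _ = z ^ (m + 1) * t := by rw [h1, pow_succ]; group

theorem part1 {G : Type*} [Group G] [Finite G] (hodd : Odd (Nat.card G)) (p : ℕ) [Fact p.Prime]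
    (hp : p ≠ 2) (P : Subgroup G) [P.Normal] (hP : IsPGroup p P) (B : Subgroup G)
    (hBc : IsMulCommutative B) (hPB : P ≤ Subgroup.normalizer (B : Set G)) :
    B.map (QuotientGroup.mk' (Subgroup.centralizer (P : Set G)))
      ≤ Cfsg.pCore p (G ⧸ Subgroup.centralizer (P : Set G)) := by
  have hNtop : Subgroup.normalizer (P : Set G) = ⊤ := Subgroup.normalizer_eq_top P
  have hBN : B ≤ Subgroup.normalizer (P : Set G) := by rw [hNtop]; exact le_top
  have hquad : ⁅⁅P, B⁆, B⁆ = ⊥ := by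
    have h1 : ⁅P, B⁆ ≤ B := by
      rw [Subgroup.commutator_le]
      intro u hu b hb
      rw [commutatorElement_def]
      exact B.mul_mem ((Subgroup.mem_normalizer_iff.mp (hPB hu) b).mp hb) (B.inv_mem hb)
    rw [eq_bot_iff]
    calc ⁅⁅P, B⁆, B⁆ ≤ ⁅B, B⁆ := Subgroup.commutator_mono h1 le_rfl
      _ = ⊥ := by
        rw [Subgroup.commutator_eq_bot_iff_le_centralizer]
        exact Subgroup.le_centralizer_iff_isMulCommutative.mpr hBc
  have key := Cfsg.Agent.helper14.QuadCore.quad_in_pCore hodd hp P B hP hBN hquad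
  have hψ : Function.Surjective (QuotientGroup.map
      ((Subgroup.centralizer (P : Set G)).subgroupOf (Subgroup.normalizer (P : Set G)))
      (Subgroup.centralizer (P : Set G)) (Subgroup.normalizer (P : Set G)).subtype
      (fun x hx => hx)) := by
    intro y
    obtain ⟨g, rfl⟩ := QuotientGroup.mk'_surjective _ y
    exact ⟨QuotientGroup.mk' _ ⟨g, by rw [hNtop]; trivial⟩, rfl⟩
  rintro _ ⟨b, hb, rfl⟩
  have hb' : QuotientGroup.mk' ((Subgroup.centralizer (P : Set G)).subgroupOf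
      (Subgroup.normalizer (P : Set G))) (⟨b, hBN hb⟩ : ↥(Subgroup.normalizer (P : Set G)))
      ∈ Cfsg.pCore p _ := key ⟨⟨b, hBN hb⟩, Subgroup.mem_subgroupOf.mpr hb, rfl⟩
  exact Cfsg.Agent.helper3.pCore_map_le p hψ ⟨_, hb', rfl⟩

/-- Let p be an odd prime, G a solvable group of odd order, P a normal p-subgroup of G, and X the subgroup generated by a family of abelian p-subgroups of G each normalized by P. Then the image of X in G/C_G(P) lies in O_p(G/C_G(P)); and if O_{p'}(G) = 1 and O_p(G) ∩ C_G(P) ≤ P then X ≤ O_p(G). -/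
theorem result {G : Type*} [Group G] [Finite G] [Group.IsSolvable G] (hodd : Odd (Nat.card G)) (p : ℕ) [Fact p.Prime] (hp : p ≠ 2) (P : Subgroup G) [P.Normal] (hP : IsPGroup p P)
    (S : Set (Subgroup G)) (hS : ∀ B ∈ S, IsMulCommutative B ∧ IsPGroup p B ∧ P ≤ Subgroup.normalizer (B : Set G)) :
    (sSup S).map (QuotientGroup.mk' (Subgroup.centralizer (P : Set G))) ≤ Cfsg.pCore p (G ⧸ Subgroup.centralizer (P : Set G)) ∧
      (Cfsg.pPrimeCore p G = ⊥ → Cfsg.pCore p G ⊓ Subgroup.centralizer (P : Set G) ≤ P → sSup S ≤ Cfsg.pCore p G) := by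
  have part1' : (sSup S).map (QuotientGroup.mk' (Subgroup.centralizer (P : Set G)))
      ≤ Cfsg.pCore p (G ⧸ Subgroup.centralizer (P : Set G)) := by
    rw [Subgroup.map_le_iff_le_comap]
    apply sSup_le
    intro B hB
    rw [← Subgroup.map_le_iff_le_comap]
    exact part1 hodd p hp P hP B (hS B hB).1 (hS B hB).2.2
  refine ⟨part1', ?_⟩
  intro hO hTP
  haveI hTn : (Cfsg.pCore p G).Normal := Cfsg.Agent.helper1.pCore_normal p
  have hTp : IsPGroup p ↥(Cfsg.pCore p G) := Cfsg.Agent.helper1.pCore_isPGroup p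
  have hcn : (Subgroup.centralizer (P : Set G)).Normal := inferInstance
  have hHH : Subgroup.centralizer ((Cfsg.pCore p G : Subgroup G) : Set G) ≤ Cfsg.pCore p G :=
    Cfsg.Agent.helper23.hall_higman_123
      (Cfsg.Agent.helper23.psreach_top_of_solvable p _ G rfl) hO
  haveI hQn : ((Cfsg.pCore p (G ⧸ Subgroup.centralizer (P : Set G))).comap
      (QuotientGroup.mk' (Subgroup.centralizer (P : Set G)))).Normal :=
    (Cfsg.Agent.helper1.pCore_normal p).comap _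
  have hXQ : sSup S ≤ (Cfsg.pCore p (G ⧸ Subgroup.centralizer (P : Set G))).comap
      (QuotientGroup.mk' (Subgroup.centralizer (P : Set G))) :=
    Subgroup.map_le_iff_le_comap.mp part1'
  refine hXQ.trans (Cfsg.Agent.helper1.le_pCore hQn ?_)
  -- the preimage is a p-group
  rintro ⟨g, hg⟩
  have hg' : QuotientGroup.mk' (Subgroup.centralizer (P : Set G)) g
      ∈ Cfsg.pCore p (G ⧸ Subgroup.centralizer (P : Set G)) := hg
  obtain ⟨k₁, hk₁⟩ := (Cfsg.Agent.helper1.pCore_isPGroup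
    (G := G ⧸ Subgroup.centralizer (P : Set G)) p) ⟨_, hg'⟩
  have hk₁' : (QuotientGroup.mk' (Subgroup.centralizer (P : Set G)) g) ^ (p ^ k₁) = 1 := by
    have := congrArg Subtype.val hk₁
    simpa using this
  rw [← map_pow] at hk₁'
  have hc : g ^ (p ^ k₁) ∈ Subgroup.centralizer (P : Set G) :=
    (QuotientGroup.eq_one_iff _).mp hk₁'
  obtain ⟨k₂, hk₂⟩ := IsPGroup.iff_card.mp hP
  -- c ^ card P centralizes O_p(G)
  have hcT : (g ^ (p ^ k₁)) ^ (p ^ k₂) ∈ Subgroup.centralizer ((Cfsg.pCore p G : Subgroup G) : Set G) := by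
    rw [Subgroup.mem_centralizer_iff]
    intro t ht
    have hzT : g ^ (p ^ k₁) * t * (g ^ (p ^ k₁))⁻¹ * t⁻¹ ∈ Cfsg.pCore p G :=
      Subgroup.mul_mem _ (hTn.conj_mem t ht _) (Subgroup.inv_mem _ ht)
    have hzC : g ^ (p ^ k₁) * t * (g ^ (p ^ k₁))⁻¹ * t⁻¹ ∈ Subgroup.centralizer (P : Set G) := by
      have h1 : t * (g ^ (p ^ k₁))⁻¹ * t⁻¹ ∈ Subgroup.centralizer (P : Set G) :=
        hcn.conj_mem _ (Subgroup.inv_mem _ hc) t
      have h2 : g ^ (p ^ k₁) * t * (g ^ (p ^ k₁))⁻¹ * t⁻¹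
          = g ^ (p ^ k₁) * (t * (g ^ (p ^ k₁))⁻¹ * t⁻¹) := by group
      rw [h2]
      exact Subgroup.mul_mem _ hc h1
    have hzP : g ^ (p ^ k₁) * t * (g ^ (p ^ k₁))⁻¹ * t⁻¹ ∈ P := hTP ⟨hzT, hzC⟩
    have e1 : g ^ (p ^ k₁) * t * (g ^ (p ^ k₁))⁻¹
        = (g ^ (p ^ k₁) * t * (g ^ (p ^ k₁))⁻¹ * t⁻¹) * t := by group
    have e2 : g ^ (p ^ k₁) * (g ^ (p ^ k₁) * t * (g ^ (p ^ k₁))⁻¹ * t⁻¹)
        = (g ^ (p ^ k₁) * t * (g ^ (p ^ k₁))⁻¹ * t⁻¹) * g ^ (p ^ k₁) :=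
      (Subgroup.mem_centralizer_iff.mp hc _ hzP).symm
    have e3 := conj_pow_mul _ _ _ e1 e2 (p ^ k₂)
    have e4 : (g ^ (p ^ k₁) * t * (g ^ (p ^ k₁))⁻¹ * t⁻¹) ^ (p ^ k₂) = 1 := by
      have : (⟨_, hzP⟩ : ↥P) ^ (p ^ k₂) = 1 := by rw [← hk₂]; exact pow_card_eq_one'
      have := congrArg Subtype.val this
      simpa using this
    rw [e4, one_mul] at e3
    calc t * (g ^ (p ^ k₁)) ^ (p ^ k₂)
        = ((g ^ (p ^ k₁)) ^ (p ^ k₂) * t * ((g ^ (p ^ k₁)) ^ (p ^ k₂))⁻¹) * (g ^ (p ^ k₁)) ^ (p ^ k₂) := by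
          rw [e3]
      _ = (g ^ (p ^ k₁)) ^ (p ^ k₂) * t := by group
  obtain ⟨k₃, hk₃⟩ := hTp ⟨_, hHH hcT⟩
  have hk₃' : ((g ^ (p ^ k₁)) ^ (p ^ k₂)) ^ (p ^ k₃) = 1 := by
    have := congrArg Subtype.val hk₃
    simpa using this
  refine ⟨k₁ + k₂ + k₃, ?_⟩
  apply Subtype.ext
  rw [Subgroup.coe_pow, Subgroup.coe_one, pow_add, pow_add, pow_mul, pow_mul]
  exact hk₃' 

end Cfsg.Agent.S1465
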