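import Cfsg.Statements.S1467

set_option autoImplicit false
open Cfsg

namespace Cfsg.Agent.S1467

variable {G : Type*} [Group G]

theorem puigStep_anti {X Y : Subgroup G} (h : X ≤ Y) : Cfsg.puigStep Y ≤ Cfsg.puigStep X := by
  unfold Cfsg.puigStep
  apply sSup_le_sSup
  rintro A ⟨hA, hYA⟩
  exact ⟨hA, h.trans hYA⟩

theorem puigStep_bot : Cfsg.puigStep (⊥ : Subgroup G) = ⊤ := by
  rw [eq_top_iff]
  intro g _
  have : Subgroup.zpowers g ≤ Cfsg.puigStep (⊥ : Subgroup G) := by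
    unfold Cfsg.puigStep
    apply le_sSup
    refine ⟨?_, bot_le⟩
    infer_instance
  exact this (Subgroup.mem_zpowers g)

theorem seq_succ (n : ℕ) : Cfsg.puigSeq G (n + 1) = Cfsg.puigStep (Cfsg.puigSeq G n) := rfl

theorem even_mono_step (n : ℕ) : Cfsg.puigSeq G (2 * n) ≤ Cfsg.puigSeq G (2 * n + 2) := by
  induction n with
  | zero => show Cfsg.puigSeq G 0 ≤ _; exact bot_le
  | succ k ih =>
    show Cfsg.puigStep (Cfsg.puigStep (Cfsg.puigSeq G (2 * k))) ≤
      Cfsg.puigStep (Cfsg.puigStep (Cfsg.puigSeq G (2 * k + 2)))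
    exact puigStep_anti (puigStep_anti ih)

theorem odd_anti_step (m : ℕ) : Cfsg.puigSeq G (2 * m + 3) ≤ Cfsg.puigSeq G (2 * m + 1) := by
  rw [seq_succ (2 * m + 2), seq_succ (2 * m)]
  exact puigStep_anti (even_mono_step m)

theorem even_mono : Monotone (fun n => Cfsg.puigSeq G (2 * n)) :=
  monotone_nat_of_le_succ (fun n => by
    have : 2 * (n + 1) = 2 * n + 2 := by ring
    simpa [this] using even_mono_step (G := G) n)

theorem odd_anti : Antitone (fun n => Cfsg.puigSeq G (2 * n + 1)) :=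
  antitone_nat_of_succ_le (fun n => by
    have : 2 * (n + 1) + 1 = 2 * n + 3 := by ring
    simpa [this] using odd_anti_step (G := G) n)

theorem even_le_odd_same (k : ℕ) : Cfsg.puigSeq G (2 * k) ≤ Cfsg.puigSeq G (2 * k + 1) := by
  induction k with
  | zero => show Cfsg.puigSeq G 0 ≤ _; exact bot_le
  | succ k ih =>
    have h1 : Cfsg.puigSeq G (2 * k + 2) ≤ Cfsg.puigSeq G (2 * k + 1) := by
      rw [seq_succ (2 * k + 1), seq_succ (2 * k)]
      exact puigStep_anti ih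
    show Cfsg.puigStep (Cfsg.puigSeq G (2 * k + 1)) ≤ Cfsg.puigStep (Cfsg.puigSeq G (2 * k + 2))
    exact puigStep_anti h1

theorem even_le_odd (n m : ℕ) : Cfsg.puigSeq G (2 * n) ≤ Cfsg.puigSeq G (2 * m + 1) := by
  have h1 : Cfsg.puigSeq G (2 * n) ≤ Cfsg.puigSeq G (2 * (max n m)) := even_mono (le_max_left n m)
  have h2 : Cfsg.puigSeq G (2 * (max n m) + 1) ≤ Cfsg.puigSeq G (2 * m + 1) := odd_anti (le_max_right n m)
  exact h1.trans ((even_le_odd_same _).trans h2)

/-- Let G be a finite group with Puig series L_n(G). Then L_0 = 1, L_1 = G; L_{2n} ≤ L_{2n+2} ≤ L_{2m+3} ≤ L_{2m+1} for all n, m; there is k with L_{2n}(G) = L_*(G) and L_{2n+1}(G) = L(G) for all n ≥ k; L_*(G) ≤ L(G); and applying one Puig step to L_*(G) gives L(G) and to L(G) gives L_*(G). -/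
theorem result {G : Type*} [Group G] [Finite G] :
    Cfsg.puigSeq G 0 = ⊥ ∧ Cfsg.puigSeq G 1 = ⊤ ∧
      (∀ n m : ℕ, Cfsg.puigSeq G (2 * n) ≤ Cfsg.puigSeq G (2 * n + 2) ∧ Cfsg.puigSeq G (2 * n) ≤ Cfsg.puigSeq G (2 * m + 1) ∧
        Cfsg.puigSeq G (2 * m + 3) ≤ Cfsg.puigSeq G (2 * m + 1)) ∧
      (∃ k : ℕ, ∀ n : ℕ, k ≤ n → Cfsg.puigSeq G (2 * n) = Cfsg.puigLower G ∧ Cfsg.puigSeq G (2 * n + 1) = Cfsg.puigSubgroup G) ∧
      Cfsg.puigLower G ≤ Cfsg.puigSubgroup G ∧
      Cfsg.puigStep (Cfsg.puigLower G) = Cfsg.puigSubgroup G ∧ Cfsg.puigStep (Cfsg.puigSubgroup G) = Cfsg.puigLower G := by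
  have hstab : ∃ k : ℕ, ∀ n : ℕ, k ≤ n → Cfsg.puigSeq G (2 * n) = Cfsg.puigLower G ∧ Cfsg.puigSeq G (2 * n + 1) = Cfsg.puigSubgroup G := by
    obtain ⟨a, ha⟩ := WellFoundedGT.monotone_chain_condition
      (⟨fun n => Cfsg.puigSeq G (2 * n), even_mono⟩ : ℕ →o Subgroup G)
    obtain ⟨b, hb⟩ := WellFoundedLT.antitone_chain_condition (odd_anti (G := G))
    simp only [OrderHom.coe_mk] at ha
    have hlow : Cfsg.puigLower G = Cfsg.puigSeq G (2 * a) := by
      apply le_antisymm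
      · apply iSup_le
        intro n
        rcases le_total n a with h | h
        · exact even_mono h
        · exact (ha n h).symm.le
      · exact le_iSup (fun n => Cfsg.puigSeq G (2 * n)) a
    have hup : Cfsg.puigSubgroup G = Cfsg.puigSeq G (2 * b + 1) := by
      apply le_antisymm
      · exact iInf_le (fun n => Cfsg.puigSeq G (2 * n + 1)) b
      · apply le_iInf
        intro n
        rcases le_total n b with h | h
        · exact odd_anti h
        · exact (hb n h).le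
    refine ⟨max a b, fun n hn => ⟨?_, ?_⟩⟩
    · rw [hlow]; exact (ha n ((le_max_left a b).trans hn)).symm
    · rw [hup]; exact (hb n ((le_max_right a b).trans hn)).symm
  refine ⟨rfl, ?_, ?_, hstab, ?_, ?_, ?_⟩
  · show Cfsg.puigStep (⊥ : Subgroup G) = ⊤
    exact puigStep_bot
  · intro n m
    exact ⟨even_mono_step n, even_le_odd n m, odd_anti_step m⟩
  · apply iSup_le
    intro n
    apply le_iInf
    intro m
    exact even_le_odd n m
  · obtain ⟨k, hk⟩ := hstab
    rw [← (hk k le_rfl).1, ← (hk k le_rfl).2]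
    rfl
  · obtain ⟨k, hk⟩ := hstab
    rw [← (hk k le_rfl).2, ← (hk (k + 1) (Nat.le_succ k)).1]
    rfl

end Cfsg.Agent.S1467
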