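import Mathlib
import Cfsg.Prelude.Def_OddOrderLocal
import Cfsg.Agent.S1467
import Cfsg.Agent.S1465
import Cfsg.Agent.Lib_helper1_Core
import Cfsg.Agent.Lib_helper14_Amalgam5

set_option autoImplicit false
set_option linter.style.haveILetI false

/-!
# The Puig subgroup, relative version inside an ambient group (helper14)
-/

namespace Cfsg.Agent.helper14.Puig

variable {G : Type*} [Group G]

/-- relative Puig step: generated by the abelian subgroups of `H` normalized by `X` -/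
def Lr (H X : Subgroup G) : Subgroup G :=
  sSup {A : Subgroup G | A ≤ H ∧ IsMulCommutative A ∧ X ≤ Subgroup.normalizer (A : Set G)}

theorem Lr_le (H X : Subgroup G) : Lr H X ≤ H := sSup_le (fun _ hA => hA.1)

theorem Lr_anti (H : Subgroup G) {X Y : Subgroup G} (h : X ≤ Y) : Lr H Y ≤ Lr H X :=
  sSup_le_sSup (fun _ hA => ⟨hA.1, hA.2.1, h.trans hA.2.2⟩)

theorem Lr_mono_left {H₁ H₂ : Subgroup G} (h : H₁ ≤ H₂) (X : Subgroup G) : Lr H₁ X ≤ Lr H₂ X :=
  sSup_le_sSup (fun _ hA => ⟨hA.1.trans h, hA.2.1, hA.2.2⟩)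

theorem le_Lr {H X A : Subgroup G} (h1 : A ≤ H) (h2 : IsMulCommutative A)
    (h3 : X ≤ Subgroup.normalizer (A : Set G)) : A ≤ Lr H X := le_sSup ⟨h1, h2, h3⟩

theorem comm_map {G' : Type*} [Group G'] (f : G →* G') (A : Subgroup G) (hA : IsMulCommutative A) :
    IsMulCommutative (A.map f) := by
  refine ⟨⟨fun x y => ?_⟩⟩
  obtain ⟨x, a, ha, rfl⟩ := x
  obtain ⟨y, b, hb, rfl⟩ := y
  apply Subtype.ext
  show f a * f b = f b * f a
  rw [← map_mul, ← map_mul]
  have := (IsMulCommutative.is_comm (M := ↥A)).comm ⟨a, ha⟩ ⟨b, hb⟩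
  have h' : a * b = b * a := congrArg Subtype.val this
  rw [h']

theorem comm_subgroupOf (A H : Subgroup G) (hA : IsMulCommutative A) :
    IsMulCommutative (A.subgroupOf H) := by
  refine ⟨⟨fun x y => ?_⟩⟩
  apply Subtype.ext
  apply Subtype.ext
  have := (IsMulCommutative.is_comm (M := ↥A)).comm ⟨(x : ↥H), x.2⟩ ⟨(y : ↥H), y.2⟩
  show ((x : ↥H) : G) * ((y : ↥H) : G) = ((y : ↥H) : G) * ((x : ↥H) : G)
  exact congrArg Subtype.val this

/-- bridge to the abstract Puig step on `↥H` -/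
theorem map_puigStep (H : Subgroup G) (X' : Subgroup ↥H) :
    (Cfsg.puigStep X').map H.subtype = Lr H (X'.map H.subtype) := by
  apply le_antisymm
  · rw [Subgroup.map_le_iff_le_comap]
    unfold Cfsg.puigStep
    apply sSup_le
    rintro A' ⟨hA'c, hA'n⟩
    rw [← Subgroup.map_le_iff_le_comap]
    exact le_Lr (Subgroup.map_subtype_le _) (comm_map _ _ hA'c)
      ((Subgroup.map_mono hA'n).trans (Subgroup.le_normalizer_map _))
  · unfold Lr
    apply sSup_le
    rintro A ⟨hAH, hAc, hAn⟩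
    rw [← Subgroup.map_subgroupOf_eq_of_le hAH]
    apply Subgroup.map_mono
    unfold Cfsg.puigStep
    apply le_sSup
    refine ⟨comm_subgroupOf A H hAc, ?_⟩
    intro x' hx'
    have hx : (x' : G) ∈ Subgroup.normalizer (A : Set G) := hAn (Subgroup.mem_map_of_mem _ hx')
    rw [Subgroup.mem_normalizer_iff] at hx ⊢
    intro a'
    rw [Subgroup.mem_subgroupOf, Subgroup.mem_subgroupOf]
    exact hx a'

/-- relative Puig series -/
def Ls (H : Subgroup G) (n : ℕ) : Subgroup G := (Cfsg.puigSeq ↥H n).map H.subtype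

theorem Ls_zero (H : Subgroup G) : Ls H 0 = ⊥ := by
  unfold Ls
  show (⊥ : Subgroup ↥H).map _ = ⊥
  exact Subgroup.map_bot _

theorem Ls_succ (H : Subgroup G) (n : ℕ) : Ls H (n + 1) = Lr H (Ls H n) := map_puigStep H _

theorem Ls_le (H : Subgroup G) (n : ℕ) : Ls H n ≤ H := Subgroup.map_subtype_le _

theorem Ls_even_le_odd (H : Subgroup G) (n m : ℕ) : Ls H (2 * n) ≤ Ls H (2 * m + 1) :=
  Subgroup.map_mono (Cfsg.Agent.S1467.even_le_odd n m)

/-- `L_*(H)` inside `G` -/
def LowerR (H : Subgroup G) : Subgroup G := (Cfsg.puigLower ↥H).map H.subtype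

/-- `L(H)` inside `G` -/
def UpperR (H : Subgroup G) : Subgroup G := (Cfsg.puigSubgroup ↥H).map H.subtype

theorem lower_eq (H : Subgroup G) : LowerR H = ⨆ n, Ls H (2 * n) := by
  unfold LowerR Cfsg.puigLower Ls
  rw [Subgroup.map_iSup]

theorem upper_eq (H : Subgroup G) : UpperR H = ⨅ n, Ls H (2 * n + 1) := by
  unfold UpperR Cfsg.puigSubgroup Ls
  rw [Subgroup.map_iInf _ (Subgroup.subtype_injective H)]

theorem Ls_even_le_lower (H : Subgroup G) (n : ℕ) : Ls H (2 * n) ≤ LowerR H := by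
  rw [lower_eq]; exact le_iSup (fun n => Ls H (2 * n)) n

theorem upper_le_Ls_odd (H : Subgroup G) (n : ℕ) : UpperR H ≤ Ls H (2 * n + 1) := by
  rw [upper_eq]; exact iInf_le (fun n => Ls H (2 * n + 1)) n

theorem lower_le_upper (H : Subgroup G) : LowerR H ≤ UpperR H := by
  rw [lower_eq, upper_eq]
  exact iSup_le (fun n => le_iInf (fun m => Ls_even_le_odd H n m))

theorem upper_le (H : Subgroup G) : UpperR H ≤ H := Subgroup.map_subtype_le _

/-! ### normalizers -/

theorem conj_mem_normalizer_map (g x : G) (A : Subgroup G)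
    (hx : g⁻¹ * x * g ∈ Subgroup.normalizer (A : Set G)) :
    x ∈ Subgroup.normalizer ((A.map (MulAut.conj g).toMonoidHom : Subgroup G) : Set G) := by
  have : x ∈ (Subgroup.normalizer (A : Set G)).map (MulAut.conj g).toMonoidHom :=
    ⟨g⁻¹ * x * g, hx, by simp [mul_assoc]⟩
  exact Subgroup.le_normalizer_map _ this

theorem normalizer_inf_le_normalizer_Lr (H X : Subgroup G) :
    Subgroup.normalizer (H : Set G) ⊓ Subgroup.normalizer (X : Set G)
      ≤ Subgroup.normalizer ((Lr H X : Subgroup G) : Set G) := by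
  apply Cfsg.Agent.helper14.le_normalizer_of_map_conj_le
  rintro g ⟨hgH, hgX⟩
  rw [Subgroup.map_le_iff_le_comap]
  unfold Lr
  apply sSup_le
  rintro A ⟨hAH, hAc, hAn⟩
  rw [← Subgroup.map_le_iff_le_comap]
  apply le_sSup
  refine ⟨?_, comm_map _ _ hAc, ?_⟩
  · rintro _ ⟨a, ha, rfl⟩
    exact (Subgroup.mem_normalizer_iff.mp hgH a).mp (hAH ha)
  · intro x hx
    apply conj_mem_normalizer_map
    apply hAn
    have hg' : g⁻¹ ∈ Subgroup.normalizer (X : Set G) := Subgroup.inv_mem _ hgX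
    have := (Subgroup.mem_normalizer_iff.mp hg' x).mp hx
    simpa using this

theorem normalizer_le_normalizer_Ls (H : Subgroup G) (n : ℕ) :
    Subgroup.normalizer (H : Set G) ≤ Subgroup.normalizer ((Ls H n : Subgroup G) : Set G) := by
  induction n with
  | zero =>
    rw [Ls_zero]
    intro g _
    rw [Subgroup.mem_normalizer_iff]
    intro h
    simp [Subgroup.mem_bot]
  | succ n ih =>
    rw [Ls_succ]
    exact (le_inf le_rfl ih).trans (normalizer_inf_le_normalizer_Lr H _)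

theorem normalizer_le_normalizer_iInf {ι : Type*} (K : ι → Subgroup G) (N : Subgroup G)
    (h : ∀ i, N ≤ Subgroup.normalizer ((K i : Subgroup G) : Set G)) :
    N ≤ Subgroup.normalizer (((⨅ i, K i : Subgroup G)) : Set G) := by
  intro g hg
  rw [Subgroup.mem_normalizer_iff]
  intro x
  simp only [Subgroup.mem_iInf]
  constructor
  · intro hx i
    exact (Subgroup.mem_normalizer_iff.mp (h i hg) x).mp (hx i)
  · intro hx i
    exact (Subgroup.mem_normalizer_iff.mp (h i hg) x).mpr (hx i)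

theorem normalizer_le_normalizer_upper (H : Subgroup G) :
    Subgroup.normalizer (H : Set G) ≤ Subgroup.normalizer ((UpperR H : Subgroup G) : Set G) := by
  rw [upper_eq]
  exact normalizer_le_normalizer_iInf _ _ (fun n => normalizer_le_normalizer_Ls H _)

theorem Ls_normal (T : Subgroup G) [hT : T.Normal] (n : ℕ) : (Ls T n).Normal := by
  rw [← Subgroup.normalizer_eq_top_iff, eq_top_iff]
  refine le_trans ?_ (normalizer_le_normalizer_Ls T n)
  rw [Subgroup.normalizer_eq_top]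

theorem upper_normal (T : Subgroup G) [hT : T.Normal] : (UpperR T).Normal := by
  rw [← Subgroup.normalizer_eq_top_iff, eq_top_iff]
  refine le_trans ?_ (normalizer_le_normalizer_upper T)
  rw [Subgroup.normalizer_eq_top]

/-! ### self-centralizing property -/

theorem zpowers_le_Lr_of_centralizes (H X : Subgroup G) (z : G) (hz : z ∈ H)
    (hc : ∀ x ∈ X, x * z = z * x) : z ∈ Lr H X := by
  have : Subgroup.zpowers z ≤ Lr H X := by
    apply le_Lr
    · rwa [Subgroup.zpowers_le]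
    · infer_instance
    · intro x hx
      apply Subgroup.centralizer_le_normalizer
      rw [Subgroup.mem_centralizer_iff]
      intro h hh
      obtain ⟨k, rfl⟩ := Subgroup.mem_zpowers_iff.mp hh
      have hcz : Commute z x := (hc x hx).symm
      exact (hcz.zpow_left k).eq
  exact this (Subgroup.mem_zpowers z)

theorem inf_centralizer_Ls_le (T : Subgroup G) (n : ℕ) :
    T ⊓ Subgroup.centralizer ((Ls T (2 * n + 1) : Subgroup G) : Set G) ≤ Ls T (2 * n + 1) := by
  rintro z ⟨hzT, hzC⟩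
  rw [Ls_succ]
  apply zpowers_le_Lr_of_centralizes T _ z hzT
  intro x hx
  exact Subgroup.mem_centralizer_iff.mp hzC x (Ls_even_le_odd T n n hx)

theorem inf_centralizer_upper_le (T : Subgroup G) :
    T ⊓ Subgroup.centralizer ((UpperR T : Subgroup G) : Set G) ≤ UpperR T := by
  rintro z ⟨hzT, hzC⟩
  rw [upper_eq, Subgroup.mem_iInf]
  intro n
  rw [Ls_succ]
  apply zpowers_le_Lr_of_centralizes T _ z hzT
  intro x hx
  exact Subgroup.mem_centralizer_iff.mp hzC x (lower_le_upper T (Ls_even_le_lower T n hx))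

/-! ### the key fact and the chain of Lemma B.3 -/

section key
variable [Finite G] [Group.IsSolvable G]

theorem key_fact (hodd : Odd (Nat.card G)) (p : ℕ) [Fact p.Prime] (hp : p ≠ 2)
    (hO : Cfsg.pPrimeCore p G = ⊥) (S : Sylow p G) (P : Subgroup G) [P.Normal] (hP : IsPGroup p P)
    (hle : Cfsg.pCore p G ⊓ Subgroup.centralizer (P : Set G) ≤ P) :
    Lr (S : Subgroup G) P ≤ Lr (Cfsg.pCore p G) P := by
  have h1 := (Cfsg.Agent.S1465.result hodd p hp P hP
    {A : Subgroup G | A ≤ (S : Subgroup G) ∧ IsMulCommutative A ∧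
      P ≤ Subgroup.normalizer (A : Set G)}
    (fun B hB => ⟨hB.2.1, S.isPGroup'.to_le hB.1, hB.2.2⟩)).2 hO hle
  unfold Lr
  apply sSup_le
  rintro A hA
  apply le_sSup
  exact ⟨(le_sSup hA).trans h1, hA.2.1, hA.2.2⟩

theorem puig_chain (hodd : Odd (Nat.card G)) (p : ℕ) [Fact p.Prime] (hp : p ≠ 2)
    (hO : Cfsg.pPrimeCore p G = ⊥) (S : Sylow p G) (n : ℕ) :
    Ls (S : Subgroup G) (2 * n) ≤ Ls (Cfsg.pCore p G) (2 * n) ∧
      Ls (Cfsg.pCore p G) (2 * n + 1) ≤ Ls (S : Subgroup G) (2 * n + 1) := by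
  haveI hTn : (Cfsg.pCore p G).Normal := Cfsg.Agent.helper1.pCore_normal p
  have hTS : Cfsg.pCore p G ≤ (S : Subgroup G) := Cfsg.Agent.helper1.pCore_le_sylow S
  have hTp : IsPGroup p ↥(Cfsg.pCore p G) := Cfsg.Agent.helper1.pCore_isPGroup p
  induction n with
  | zero =>
    refine ⟨?_, ?_⟩
    · rw [Ls_zero]; exact bot_le
    · show Ls _ (0 + 1) ≤ Ls _ (0 + 1)
      rw [Ls_succ, Ls_succ, Ls_zero, Ls_zero]
      exact Lr_mono_left hTS _
  | succ n ih =>
    have e1 : 2 * (n + 1) = (2 * n + 1) + 1 := by ring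
    have e2 : 2 * (n + 1) + 1 = (2 * n + 1) + 1 + 1 := by ring
    haveI : (Ls (Cfsg.pCore p G) (2 * n + 1)).Normal := Ls_normal _ _
    have h1 : Ls (S : Subgroup G) (2 * n + 1 + 1) ≤ Ls (Cfsg.pCore p G) (2 * n + 1 + 1) := by
      rw [Ls_succ (S : Subgroup G) (2 * n + 1), Ls_succ (Cfsg.pCore p G) (2 * n + 1)]
      calc Lr (S : Subgroup G) (Ls (S : Subgroup G) (2 * n + 1))
          ≤ Lr (S : Subgroup G) (Ls (Cfsg.pCore p G) (2 * n + 1)) := Lr_anti _ ih.2
        _ ≤ Lr (Cfsg.pCore p G) (Ls (Cfsg.pCore p G) (2 * n + 1)) :=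
          key_fact hodd p hp hO S _ (hTp.to_le (Ls_le _ _)) (inf_centralizer_Ls_le _ n)
    refine ⟨by rw [e1]; exact h1, ?_⟩
    rw [e2, Ls_succ (S : Subgroup G) (2 * n + 1 + 1), Ls_succ (Cfsg.pCore p G) (2 * n + 1 + 1)]
    calc Lr (Cfsg.pCore p G) (Ls (Cfsg.pCore p G) (2 * n + 1 + 1))
        ≤ Lr (Cfsg.pCore p G) (Ls (S : Subgroup G) (2 * n + 1 + 1)) := Lr_anti _ h1
      _ ≤ Lr (S : Subgroup G) (Ls (S : Subgroup G) (2 * n + 1 + 1)) := Lr_mono_left hTS _

end key

end Cfsg.Agent.helper14.Puig
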