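import Mathlib
import Cfsg.Prelude.Def_Solvable
import Cfsg.Prelude.Def_Local
import Cfsg.Agent.Lib_helper1_Core
import Cfsg.Agent.Lib_helper23_PSolv2

set_option autoImplicit false
set_option linter.style.haveILetI false

namespace Cfsg.Agent.helper19

open Cfsg Cfsg.Agent.helper23

variable {G : Type*} [Group G]

/-- The `n`-th term of the upper `p`-series. -/
abbrev ups (p : ℕ) (G : Type*) [Group G] (n : ℕ) : Subgroup G := (Cfsg.upperPSeries p G n).1

theorem ups_zero (p : ℕ) : ups p G 0 = ⊥ := by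
  show (Cfsg.upperPSeries p G 0).1 = ⊥
  rw [Cfsg.upperPSeries]

theorem ups_le_succ (p n : ℕ) : ups p G n ≤ ups p G (n + 1) := by
  by_cases hn : Even n
  · show _ ≤ (Cfsg.upperPSeries p G (n + 1)).1
    rw [upperPSeries_succ_of_even p n hn]
    exact le_comap_mk' _ _
  · show _ ≤ (Cfsg.upperPSeries p G (n + 1)).1
    rw [upperPSeries_succ_of_not_even p n hn]
    exact le_comap_mk' _ _

theorem card_map_mk'_dvd {N Y Y₀ : Subgroup G} [N.Normal] (hY₀Y : Y₀ ≤ Y) (hY₀N : Y₀ ≤ N) :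
    Nat.card ↥(Y.map (QuotientGroup.mk' N)) ∣ Y₀.relIndex Y := by
  have h1 := Subgroup.relIndex_ker Y (QuotientGroup.mk' N)
  rw [QuotientGroup.ker_mk'] at h1
  rw [← h1, ← Subgroup.inf_relIndex_right]
  exact Subgroup.relIndex_dvd_of_le_left Y (le_inf hY₀N hY₀Y)

theorem le_ups_succ_of_even [Finite G] {p : ℕ} {n : ℕ} (hn : Even n) {Y Y₀ : Subgroup G}
    (hY : Y.Normal) (hY₀Y : Y₀ ≤ Y) (hY₀U : Y₀ ≤ ups p G n)
    (hcop : (Y₀.relIndex Y).Coprime p) : Y ≤ ups p G (n + 1) := by
  show _ ≤ (Cfsg.upperPSeries p G (n + 1)).1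
  rw [upperPSeries_succ_of_even p n hn]
  have hd := card_map_mk'_dvd (N := ups p G n) hY₀Y hY₀U
  have hc : (Nat.card ↥(Y.map (QuotientGroup.mk' (ups p G n)))).Coprime p :=
    Nat.Coprime.coprime_dvd_left hd hcop
  have hnorm : (Y.map (QuotientGroup.mk' (ups p G n))).Normal :=
    hY.map _ (QuotientGroup.mk'_surjective _)
  have hle := Cfsg.Agent.helper1.le_pPrimeCore hnorm hc
  intro y hy
  rw [Subgroup.mem_comap]
  exact hle ⟨y, hy, rfl⟩

theorem le_ups_succ_of_odd [Finite G] {p : ℕ} [hp : Fact p.Prime] {n : ℕ} (hn : ¬ Even n)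
    {Y Y₀ : Subgroup G} (hY : Y.Normal) (hY₀Y : Y₀ ≤ Y) (hY₀U : Y₀ ≤ ups p G n)
    (hpow : ∃ k : ℕ, Y₀.relIndex Y = p ^ k) : Y ≤ ups p G (n + 1) := by
  show _ ≤ (Cfsg.upperPSeries p G (n + 1)).1
  rw [upperPSeries_succ_of_not_even p n hn]
  have hd := card_map_mk'_dvd (N := ups p G n) hY₀Y hY₀U
  obtain ⟨k, hk⟩ := hpow
  rw [hk] at hd
  obtain ⟨j, _, hj⟩ := (Nat.dvd_prime_pow hp.out).1 hd
  have hpg : IsPGroup p ↥(Y.map (QuotientGroup.mk' (ups p G n))) := IsPGroup.of_card hj
  have hnorm : (Y.map (QuotientGroup.mk' (ups p G n))).Normal :=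
    hY.map _ (QuotientGroup.mk'_surjective _)
  have hle := Cfsg.Agent.helper1.le_pCore hnorm hpg
  intro y hy
  rw [Subgroup.mem_comap]
  exact hle ⟨y, hy, rfl⟩

theorem relIndex_comap_mk' (N : Subgroup G) [N.Normal] (C : Subgroup (G ⧸ N)) :
    N.relIndex (C.comap (QuotientGroup.mk' N)) = Nat.card ↥C := by
  have h1 := Subgroup.relIndex_ker (C.comap (QuotientGroup.mk' N)) (QuotientGroup.mk' N)
  rw [QuotientGroup.ker_mk'] at h1
  rw [h1, Subgroup.map_comap_eq_self_of_surjective (QuotientGroup.mk'_surjective _)]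

theorem relIndex_ups_even [Finite G] (p : ℕ) {n : ℕ} (hn : Even n) :
    ((ups p G n).relIndex (ups p G (n + 1))).Coprime p := by
  show ((ups p G n).relIndex (Cfsg.upperPSeries p G (n + 1)).1).Coprime p
  rw [upperPSeries_succ_of_even p n hn, relIndex_comap_mk']
  exact Cfsg.Agent.helper1.pPrimeCore_coprime p

theorem relIndex_ups_odd [Finite G] (p : ℕ) [Fact p.Prime] {n : ℕ} (hn : ¬ Even n) :
    ∃ k : ℕ, (ups p G n).relIndex (ups p G (n + 1)) = p ^ k := by
  show ∃ k : ℕ, (ups p G n).relIndex (Cfsg.upperPSeries p G (n + 1)).1 = p ^ k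
  rw [upperPSeries_succ_of_not_even p n hn, relIndex_comap_mk']
  exact IsPGroup.iff_card.1 (Cfsg.Agent.helper1.pCore_isPGroup p)

/-- Transport of the upper `p`-series along a surjection. -/
theorem map_ups_le [Finite G] {H : Type*} [Group H] [Finite H] {p : ℕ} [Fact p.Prime]
    (f : G →* H) (hf : Function.Surjective f) {m n : ℕ} (hpar : Even m ↔ Even n)
    (h : (ups p G m).map f ≤ ups p H n) :
    ∀ j : ℕ, (ups p G (m + j)).map f ≤ ups p H (n + j) := by
  intro j
  induction j with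
  | zero => simpa using h
  | succ j ih =>
    have hpar' : Even (m + j) ↔ Even (n + j) := by
      rw [Nat.even_add, Nat.even_add, hpar]
    have hnormal : ((ups p G (m + j + 1)).map f).Normal :=
      (Cfsg.upperPSeries_normal p G (m + j + 1)).map f hf
    have hle : (ups p G (m + j)).map f ≤ (ups p G (m + j + 1)).map f :=
      Subgroup.map_mono (ups_le_succ p (m + j))
    have hdvd := relIndex_map_dvd f (Cfsg.upperPSeries_normal p G (m + j)) (ups_le_succ p (m + j))
    by_cases hev : Even (m + j)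
    · have hev' : Even (n + j) := hpar'.1 hev
      have hc := relIndex_ups_even (G := G) p hev
      exact le_ups_succ_of_even hev' hnormal hle ih (Nat.Coprime.coprime_dvd_left hdvd hc)
    · have hev' : ¬ Even (n + j) := fun h' => hev (hpar'.2 h')
      obtain ⟨k, hk⟩ := relIndex_ups_odd (G := G) p hev
      rw [hk] at hdvd
      obtain ⟨i, _, hi⟩ := (Nat.dvd_prime_pow (Fact.out : p.Prime)).1 hdvd
      exact le_ups_succ_of_odd hev' hnormal hle ih ⟨i, hi⟩

theorem pLengthLE_of_surjective [Finite G] {H : Type*} [Group H] [Finite H] {p : ℕ}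
    [Fact p.Prime] (f : G →* H) (hf : Function.Surjective f) {k : ℕ}
    (h : Cfsg.PLengthLE p k G) : Cfsg.PLengthLE p k H := by
  have h0 : (ups p G 0).map f ≤ ups p H 0 := by
    rw [ups_zero, Subgroup.map_bot]; exact bot_le
  have h1 := map_ups_le f hf (Iff.rfl) h0 (2 * k + 1)
  simp only [zero_add] at h1
  have h2 : ups p G (2 * k + 1) = ⊤ := h
  rw [h2, ← MonoidHom.range_eq_map, MonoidHom.range_eq_top.2 hf] at h1
  exact top_le_iff.1 h1

theorem pLengthLE_quotient_ups_two [Finite G] {p : ℕ} [Fact p.Prime] {k : ℕ}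
    (h : Cfsg.PLengthLE p (k + 1) G) : Cfsg.PLengthLE p k (G ⧸ ups p G 2) := by
  have hf : Function.Surjective (QuotientGroup.mk' (ups p G 2)) := QuotientGroup.mk'_surjective _
  have h0 : (ups p G 2).map (QuotientGroup.mk' (ups p G 2)) ≤ ups p (G ⧸ ups p G 2) 0 := by
    rw [ups_zero]
    rintro _ ⟨x, hx, rfl⟩
    rw [Subgroup.mem_bot]
    exact (QuotientGroup.eq_one_iff x).2 hx
  have h1 := map_ups_le (QuotientGroup.mk' (ups p G 2)) hf (by decide) h0 (2 * k + 1)
  simp only [zero_add] at h1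
  have h2 : ups p G (2 + (2 * k + 1)) = ⊤ := by
    have : 2 + (2 * k + 1) = 2 * (k + 1) + 1 := by ring
    rw [this]; exact h
  rw [h2, ← MonoidHom.range_eq_map, MonoidHom.range_eq_top.2 hf] at h1
  exact top_le_iff.1 h1

theorem coprime_card_of_pLengthLE_zero [Finite G] {p : ℕ} (h : Cfsg.PLengthLE p 0 G) :
    (Nat.card G).Coprime p := by
  have h1 : ups p G 1 = ⊤ := h
  have h2 := relIndex_ups_even (G := G) p (n := 0) (by decide)
  rw [ups_zero] at h2
  simp only [zero_add] at h2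
  rw [h1, Subgroup.relIndex_bot_left, Subgroup.card_top] at h2
  exact h2

theorem coprime_card_ups_one [Finite G] (p : ℕ) : (Nat.card ↥(ups p G 1)).Coprime p := by
  have h2 := relIndex_ups_even (G := G) p (n := 0) (by decide)
  rw [ups_zero] at h2
  simp only [zero_add] at h2
  rwa [Subgroup.relIndex_bot_left] at h2

end Cfsg.Agent.helper19
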