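import Cfsg.Statements.S0655
-- import your own Cfsg.Agent.* helpers here
import Mathlib

set_option autoImplicit false
open Cfsg

namespace Cfsg.Agent.S0655

/-- adjoining a commuting element of order dividing `p` to an elementary abelian subgroup -/
theorem adjoin_elemAb {P : Type*} [Group P] (p : ℕ) (A : Subgroup P) (hA : Cfsg.IsElementaryAbelian p A)
    (x : P) (hx : ∀ a ∈ A, a * x = x * a) (hxp : x ^ p = 1) :
    Cfsg.IsElementaryAbelian p (Subgroup.closure ((A : Set P) ∪ {x})) := by
  obtain ⟨hAc, hAp⟩ := hA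
  have hpair : ∀ a ∈ ((A : Set P) ∪ {x}), ∀ b ∈ ((A : Set P) ∪ {x}), a * b = b * a := by
    intro a ha b hb
    rcases ha with ha | ha <;> rcases hb with hb | hb
    · exact congrArg Subtype.val (hAc.is_comm.comm (⟨a, ha⟩ : A) ⟨b, hb⟩)
    · rw [Set.mem_singleton_iff] at hb; subst hb; exact hx a ha
    · rw [Set.mem_singleton_iff] at ha; subst ha; exact (hx b hb).symm
    · rw [Set.mem_singleton_iff] at ha hb; subst ha; subst hb; rfl
  have hBc : IsMulCommutative (Subgroup.closure ((A : Set P) ∪ {x})) :=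
    Subgroup.isMulCommutative_closure hpair
  refine ⟨hBc, ?_⟩
  have hcomm : ∀ a ∈ Subgroup.closure ((A : Set P) ∪ {x}), ∀ b ∈ Subgroup.closure ((A : Set P) ∪ {x}),
      a * b = b * a := fun a ha b hb =>
    congrArg Subtype.val (hBc.is_comm.comm (⟨a, ha⟩ : Subgroup.closure ((A : Set P) ∪ {x})) ⟨b, hb⟩)
  intro b hb
  induction hb using Subgroup.closure_induction with
  | mem y hy =>
    rcases hy with hy | hy
    · exact hAp y hy
    · rw [Set.mem_singleton_iff] at hy; subst hy; exact hxp
  | one => exact one_pow p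
  | mul a b ha hb iha ihb =>
    have : Commute a b := hcomm a ha b hb
    rw [this.mul_pow, iha, ihb, one_mul]
  | inv a ha iha => rw [inv_pow, iha, inv_one]


/-- In a p-group the intersection of all elementary abelian subgroups of largest order is the subgroup generated by the elements of order dividing p in the centre (equivalently the centralizer) of the elementary-version Thompson subgroup. -/
theorem result {S : Type*} [Group S] [Finite S] {p : ℕ} [Fact p.Prime] (hS : IsPGroup p S) : sInf (Cfsg.maxElementaryAbelianSubgroups p S) = Cfsg.omegaCenterThompson p S ∧ Cfsg.omegaCenterThompson p S = Cfsg.omegaOne p (Subgroup.centralizer (Cfsg.thompsonSubgroup p S : Set S)) := by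
  classical
  -- nonemptiness
  have hbot : Cfsg.IsElementaryAbelian p (⊥ : Subgroup S) := by
    refine ⟨inferInstance, ?_⟩
    intro a ha
    rw [Subgroup.mem_bot] at ha
    rw [ha, one_pow]
  obtain ⟨A₀, hA₀, hA₀max⟩ := Set.exists_max_image {A : Subgroup S | Cfsg.IsElementaryAbelian p A}
    (fun A => Nat.card A) (Set.toFinite _) ⟨⊥, hbot⟩
  have hA₀mem : A₀ ∈ Cfsg.maxElementaryAbelianSubgroups p S := ⟨hA₀, fun B hB => hA₀max B hB⟩
  set J := Cfsg.thompsonSubgroup p S with hJ
  have hleJ : ∀ A ∈ Cfsg.maxElementaryAbelianSubgroups p S, A ≤ J := fun A hA => le_sSup hA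
  -- key
  have key : ∀ x : S, x ∈ Subgroup.centralizer (J : Set S) → x ^ p = 1 →
      ∀ A ∈ Cfsg.maxElementaryAbelianSubgroups p S, x ∈ A := by
    intro x hxc hxp A hA
    have hcomm : ∀ a ∈ A, a * x = x * a := by
      intro a ha
      exact (Subgroup.mem_centralizer_iff.mp hxc a (hleJ A hA ha))
    have hB := adjoin_elemAb p A hA.1 x hcomm hxp
    have hle : A ≤ Subgroup.closure ((A : Set S) ∪ {x}) := by
      intro a ha
      exact Subgroup.subset_closure (Or.inl ha)
    have hcard := hA.2 _ hB
    have heq := Subgroup.eq_of_le_of_card_ge hle hcard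
    rw [heq]
    exact Subgroup.subset_closure (Or.inr rfl)
  refine ⟨?_, ?_⟩
  · apply le_antisymm
    · intro x hx
      rw [Subgroup.mem_sInf] at hx
      apply Subgroup.subset_closure
      refine ⟨⟨hleJ A₀ hA₀mem (hx A₀ hA₀mem), ?_⟩, hA₀.2 x (hx A₀ hA₀mem)⟩
      -- x centralizes J
      have : J ≤ Subgroup.centralizer ({x} : Set S) := by
        rw [hJ]
        apply sSup_le
        intro A hA a ha
        rw [Subgroup.mem_centralizer_iff]
        intro y hy
        rw [Set.mem_singleton_iff] at hy
        subst hy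
        exact congrArg Subtype.val (hA.1.1.is_comm.comm (⟨y, hx A hA⟩ : A) ⟨a, ha⟩)
      change x ∈ Subgroup.centralizer (J : Set S)
      rw [Subgroup.mem_centralizer_iff]
      intro j hj
      have := Subgroup.mem_centralizer_iff.mp (this hj) x rfl
      exact this.symm
    · unfold Cfsg.omegaCenterThompson Cfsg.omegaOne
      rw [Subgroup.closure_le]
      rintro x ⟨⟨_, hxc⟩, hxp⟩
      rw [SetLike.mem_coe, Subgroup.mem_sInf]
      exact key x hxc hxp
  · unfold Cfsg.omegaCenterThompson Cfsg.omegaOne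
    congr 1
    ext x
    constructor
    · rintro ⟨⟨_, hxc⟩, hxp⟩
      exact ⟨hxc, hxp⟩
    · rintro ⟨hxc, hxp⟩
      exact ⟨⟨hleJ A₀ hA₀mem (key x hxc hxp A₀ hA₀mem), hxc⟩, hxp⟩

end Cfsg.Agent.S0655
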