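import Mathlib
import Cfsg.Prelude.Def_PLocal
import Cfsg.Agent.Lib_helper3_EA
import Cfsg.Agent.S0655

/-!
# The stable normal closure `W(S)` of `Ω₁(Z(S))` (helper4)

Transport lemmas for `omegaOne`, `thompsonSubgroup`, `omegaCenterThompson`, `IsStableEmbedding`,
`stableNormalClosure` along isomorphisms and injective maps, and the basic facts on `W(S)`.
-/

set_option autoImplicit false
set_option linter.style.haveILetI false

namespace Cfsg.Agent.helper4.StableW

open Cfsg

universe u

section maps
variable {S H : Type*} [Group S] [Group H]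

theorem omegaOne_le (p : ℕ) (K : Subgroup S) : omegaOne p K ≤ K := by
  unfold omegaOne
  rw [Subgroup.closure_le]
  intro x hx
  exact hx.1

theorem omegaOne_mono (p : ℕ) {K K' : Subgroup S} (h : K ≤ K') : omegaOne p K ≤ omegaOne p K' := by
  unfold omegaOne
  apply Subgroup.closure_mono
  intro x hx
  exact ⟨h hx.1, hx.2⟩

/-- `omegaOne` commutes with injective maps. -/
theorem map_omegaOne (p : ℕ) (f : S →* H) (hf : Function.Injective f) (K : Subgroup S) :
    (omegaOne p K).map f = omegaOne p (K.map f) := by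
  unfold omegaOne
  rw [MonoidHom.map_closure]
  congr 1
  ext y
  constructor
  · rintro ⟨x, ⟨hxK, hxp⟩, rfl⟩
    exact ⟨Subgroup.mem_map_of_mem f hxK, by rw [← map_pow, hxp, map_one]⟩
  · rintro ⟨⟨x, hxK, rfl⟩, hyp⟩
    refine ⟨x, ⟨hxK, hf ?_⟩, rfl⟩
    rw [map_pow, map_one]; exact hyp

/-- `Z(K) = K ⊓ C(K)` is carried to `Z(f K)` by an injective map. -/
theorem map_inf_centralizer (f : S →* H) (hf : Function.Injective f) (K : Subgroup S) :
    (K ⊓ Subgroup.centralizer (K : Set S)).map f =
      K.map f ⊓ Subgroup.centralizer ((K.map f : Subgroup H) : Set H) := by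
  ext y
  constructor
  · intro hy
    obtain ⟨x, hx, rfl⟩ := Subgroup.mem_map.mp hy
    obtain ⟨hxK, hxC⟩ := Subgroup.mem_inf.mp hx
    refine Subgroup.mem_inf.mpr ⟨Subgroup.mem_map_of_mem f hxK, ?_⟩
    rw [Subgroup.mem_centralizer_iff]
    intro k' hk'
    obtain ⟨k, hk, rfl⟩ := Subgroup.mem_map.mp hk'
    rw [← map_mul, ← map_mul, Subgroup.mem_centralizer_iff.mp hxC k hk]
  · intro hy
    obtain ⟨hy1, hyC⟩ := Subgroup.mem_inf.mp hy
    obtain ⟨x, hxK, rfl⟩ := Subgroup.mem_map.mp hy1
    refine Subgroup.mem_map.mpr ⟨x, Subgroup.mem_inf.mpr ⟨hxK, ?_⟩, rfl⟩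
    rw [Subgroup.mem_centralizer_iff]
    intro k hk
    apply hf
    rw [map_mul, map_mul]
    exact Subgroup.mem_centralizer_iff.mp hyC (f k) (Subgroup.mem_map_of_mem f hk)

/-- `omegaOne` of a normal subgroup is normal. -/
theorem omegaOne_normal (p : ℕ) (K : Subgroup H) (hK : K.Normal) : (omegaOne p K).Normal := by
  constructor
  intro n hn g
  have h1 : (MulAut.conj g).toMonoidHom n ∈ (omegaOne p K).map (MulAut.conj g).toMonoidHom :=
    Subgroup.mem_map_of_mem _ hn
  rw [map_omegaOne p _ (MulAut.conj g).injective] at h1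
  have h2 : K.map (MulAut.conj g).toMonoidHom ≤ K := by
    rintro _ ⟨k, hk, rfl⟩
    exact hK.conj_mem k hk g
  have h3 := omegaOne_mono p h2 h1
  simpa using h3

theorem omegaOne_center_normal (p : ℕ) (K : Subgroup H) (hK : K.Normal) :
    (omegaOne p (K ⊓ Subgroup.centralizer (K : Set H))).Normal := by
  haveI := hK
  exact omegaOne_normal p _ (Subgroup.normal_inf_normal _ _)

/-- the image of `Ω₁(Z(J(S)))` under an injective map with `τ(J(S))` normal is normal. -/
theorem omegaCenterThompson_map_normal (p : ℕ) {S H : Type u} [Group S] [Group H] (τ : S →* H)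
    (hτ : Function.Injective τ) (hJ : ((thompsonSubgroup p S).map τ).Normal) :
    ((omegaCenterThompson p S).map τ).Normal := by
  unfold omegaCenterThompson
  rw [map_omegaOne p τ hτ, map_inf_centralizer τ hτ]
  exact omegaOne_center_normal p _ hJ

end maps

section equiv
variable {S S' : Type u} [Group S] [Group S']

theorem map_center_equiv (e : S ≃* S') :
    (Subgroup.center S).map e.toMonoidHom = Subgroup.center S' := by
  ext y
  constructor
  · intro hy
    obtain ⟨x, hx, rfl⟩ := Subgroup.mem_map.mp hy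
    rw [Subgroup.mem_center_iff] at hx ⊢
    intro g
    obtain ⟨g', rfl⟩ := e.surjective g
    show e g' * e x = e x * e g'
    rw [← map_mul, ← map_mul, hx g']
  · intro hy
    refine Subgroup.mem_map.mpr ⟨e.symm y, ?_, by simp⟩
    rw [Subgroup.mem_center_iff] at hy ⊢
    intro g
    apply e.injective
    rw [map_mul, map_mul, e.apply_symm_apply]
    exact hy (e g)

theorem map_centralizer_equiv (e : S ≃* S') (K : Subgroup S) :
    (Subgroup.centralizer (K : Set S)).map e.toMonoidHom =
      Subgroup.centralizer ((K.map e.toMonoidHom : Subgroup S') : Set S') := by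
  ext y
  constructor
  · intro hy
    obtain ⟨x, hx, rfl⟩ := Subgroup.mem_map.mp hy
    rw [Subgroup.mem_centralizer_iff] at hx ⊢
    intro k' hk'
    obtain ⟨k, hk, rfl⟩ := Subgroup.mem_map.mp hk'
    show e k * e x = e x * e k
    rw [← map_mul, ← map_mul, hx k hk]
  · intro hy
    refine Subgroup.mem_map.mpr ⟨e.symm y, ?_, by simp⟩
    rw [Subgroup.mem_centralizer_iff] at hy ⊢
    intro k hk
    apply e.injective
    rw [map_mul, map_mul, e.apply_symm_apply]
    exact hy (e k) (Subgroup.mem_map_of_mem _ hk)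

theorem thompson_map_equiv_le (p : ℕ) (e : S ≃* S') :
    (thompsonSubgroup p S).map e.toMonoidHom ≤ thompsonSubgroup p S' := by
  rw [Subgroup.map_le_iff_le_comap]
  unfold thompsonSubgroup
  apply sSup_le
  intro A hA
  rw [← Subgroup.map_le_iff_le_comap]
  exact le_sSup (helper3.maxEA_map_equiv e hA)

theorem map_symm_map (e : S ≃* S') (K : Subgroup S') :
    (K.map e.symm.toMonoidHom).map e.toMonoidHom = K := by
  rw [Subgroup.map_map]
  have : e.toMonoidHom.comp e.symm.toMonoidHom = MonoidHom.id S' := by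
    ext x; simp
  rw [this, Subgroup.map_id]

theorem thompson_map_equiv (p : ℕ) (e : S ≃* S') :
    (thompsonSubgroup p S).map e.toMonoidHom = thompsonSubgroup p S' := by
  apply le_antisymm (thompson_map_equiv_le p e)
  have h := thompson_map_equiv_le p e.symm
  have h2 := Subgroup.map_mono (f := e.toMonoidHom) h
  rwa [map_symm_map] at h2

theorem omegaCenterThompson_map_equiv (p : ℕ) (e : S ≃* S') :
    (omegaCenterThompson p S).map e.toMonoidHom = omegaCenterThompson p S' := by
  unfold omegaCenterThompson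
  rw [map_omegaOne p _ e.injective, map_inf_centralizer _ e.injective, thompson_map_equiv]

theorem omegaOne_center_map_equiv (p : ℕ) (e : S ≃* S') :
    (omegaOne p (Subgroup.center S)).map e.toMonoidHom = omegaOne p (Subgroup.center S') := by
  rw [map_omegaOne p _ e.injective, map_center_equiv]

/-- stable embeddings are transported along isomorphisms of the source. -/
theorem isStableEmbedding_comp_equiv (p : ℕ) {H : Type u} [Group H] (e : S ≃* S') (τ : S' →* H)
    (h : IsStableEmbedding p τ) : IsStableEmbedding p (τ.comp e.toMonoidHom) := by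
  obtain ⟨h1, h2, ⟨P, hP⟩, h4, h5, h6⟩ := h
  refine ⟨h1.comp e.injective, h2, ⟨P, ?_⟩, h4, ?_, ?_⟩
  · rw [hP, MonoidHom.range_comp]
    have : e.toMonoidHom.range = ⊤ := MonoidHom.range_eq_top.mpr e.surjective
    rw [this, ← MonoidHom.range_eq_map]
  · rw [← Subgroup.map_map, thompson_map_equiv]
    exact h5
  · intro V _ hV
    rw [← Subgroup.map_map, omegaCenterThompson_map_equiv] at hV
    exact h6 V hV

/-- the family defining `W(S)` -/
def fam (p : ℕ) (S : Type u) [Group S] : Set (Subgroup S) :=
  {W : Subgroup S | omegaOne p (Subgroup.center S) ≤ W ∧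
    ∀ (H : Type u) [Group H] (τ : S →* H), IsStableEmbedding p τ → (W.map τ).Normal}

theorem stableNormalClosure_eq (p : ℕ) (S : Type u) [Group S] :
    stableNormalClosure p S = sInf (fam p S) := rfl

theorem comap_mem_fam (p : ℕ) (e : S ≃* S') {W' : Subgroup S'} (hW' : W' ∈ fam p S') :
    W'.comap e.toMonoidHom ∈ fam p S := by
  refine ⟨?_, ?_⟩
  · rw [← Subgroup.map_le_iff_le_comap, omegaOne_center_map_equiv]
    exact hW'.1
  · intro H _ τ hτ
    have h1 : W'.comap e.toMonoidHom = W'.map e.symm.toMonoidHom :=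
      (Subgroup.map_equiv_eq_comap_symm e.symm W').symm
    rw [h1, Subgroup.map_map]
    exact hW'.2 H _ (isStableEmbedding_comp_equiv p e.symm τ hτ)

theorem stableNormalClosure_map_le (p : ℕ) (e : S ≃* S') :
    (stableNormalClosure p S).map e.toMonoidHom ≤ stableNormalClosure p S' := by
  rw [stableNormalClosure_eq, stableNormalClosure_eq]
  apply le_sInf
  intro W' hW'
  rw [Subgroup.map_le_iff_le_comap]
  exact sInf_le (comap_mem_fam p e hW')

theorem stableNormalClosure_map_equiv (p : ℕ) (e : S ≃* S') :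
    (stableNormalClosure p S).map e.toMonoidHom = stableNormalClosure p S' := by
  apply le_antisymm (stableNormalClosure_map_le p e)
  have h := stableNormalClosure_map_le p e.symm
  have h2 := Subgroup.map_mono (f := e.toMonoidHom) h
  rwa [map_symm_map] at h2

theorem stableNormalClosure_characteristic (p : ℕ) (S : Type u) [Group S] :
    (stableNormalClosure p S).Characteristic := by
  rw [Subgroup.characteristic_iff_map_eq]
  intro ϕ
  exact stableNormalClosure_map_equiv p ϕ

theorem omegaOne_center_le_stableNormalClosure (p : ℕ) (S : Type u) [Group S] :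
    omegaOne p (Subgroup.center S) ≤ stableNormalClosure p S := by
  rw [stableNormalClosure_eq]
  exact le_sInf (fun W hW => hW.1)

end equiv

section pgroup
variable {S : Type u} [Group S] [Finite S] {p : ℕ} [Fact p.Prime]

/-- `Ω₁(Z(S)) ≤ Ω₁(Z(J(S)))` in a finite `p`-group. -/
theorem omegaOne_center_le_omegaCenterThompson (hS : IsPGroup p S) :
    omegaOne p (Subgroup.center S) ≤ omegaCenterThompson p S := by
  rw [← (Cfsg.Agent.S0655.result hS).1]
  apply le_sInf
  intro A hA
  unfold omegaOne
  rw [Subgroup.closure_le]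
  rintro x ⟨hxZ, hxp⟩
  have hx : ∀ a ∈ A, a * x = x * a := fun a _ => (Subgroup.mem_center_iff.mp hxZ a)
  have hEA := Cfsg.Agent.S0655.adjoin_elemAb p A hA.1 x hx hxp
  have hle : A ≤ Subgroup.closure ((A : Set S) ∪ {x}) := by
    intro a ha
    exact Subgroup.subset_closure (Or.inl ha)
  have heq := helper3.maxEA_eq_of_le hA hEA hle
  rw [SetLike.mem_coe, heq]
  exact Subgroup.subset_closure (Or.inr rfl)

theorem omegaCenterThompson_mem_fam (hS : IsPGroup p S) : omegaCenterThompson p S ∈ fam p S := by
  refine ⟨omegaOne_center_le_omegaCenterThompson hS, ?_⟩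
  intro H _ τ hτ
  exact omegaCenterThompson_map_normal p τ hτ.1 hτ.2.2.2.2.1

theorem stableNormalClosure_le_omegaCenterThompson (hS : IsPGroup p S) :
    stableNormalClosure p S ≤ omegaCenterThompson p S := by
  rw [stableNormalClosure_eq]
  exact sInf_le (omegaCenterThompson_mem_fam hS)

/-- `W(S)` itself belongs to the family: its image under each stable embedding is normal. -/
theorem stableNormalClosure_mem_fam (hS : IsPGroup p S) : stableNormalClosure p S ∈ fam p S := by
  refine ⟨omegaOne_center_le_stableNormalClosure p S, ?_⟩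
  intro H _ τ hτ
  constructor
  intro y hy g
  obtain ⟨w, hw, rfl⟩ := Subgroup.mem_map.mp hy
  have h0 := (omegaCenterThompson_mem_fam hS).2 H τ hτ
  obtain ⟨w0, hw0, hw0e⟩ := h0.conj_mem (τ w)
    (Subgroup.mem_map_of_mem τ (stableNormalClosure_le_omegaCenterThompson hS hw)) g
  refine Subgroup.mem_map.mpr ⟨w0, ?_, hw0e⟩
  rw [stableNormalClosure_eq, Subgroup.mem_sInf]
  intro W' hW'
  have hwW' : w ∈ W' := by
    have := hw
    rw [stableNormalClosure_eq, Subgroup.mem_sInf] at this
    exact this W' hW'
  obtain ⟨w1, hw1, hw1e⟩ := (hW'.2 H τ hτ).conj_mem (τ w) (Subgroup.mem_map_of_mem τ hwW') g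
  have : w1 = w0 := hτ.1 (hw1e.trans hw0e.symm)
  rw [← this]
  exact hw1

theorem omegaOne_center_ne_bot (hS : IsPGroup p S) [Nontrivial S] :
    omegaOne p (Subgroup.center S) ≠ ⊥ := by
  have hp : p.Prime := Fact.out
  haveI := hS.center_nontrivial
  have hZ : IsPGroup p (Subgroup.center S) := hS.to_subgroup _
  obtain ⟨k, hk⟩ := IsPGroup.iff_card.mp hZ
  have hk0 : k ≠ 0 := by
    rintro rfl
    rw [pow_zero] at hk
    have := (Nat.card_eq_one_iff_unique.mp hk).1
    exact not_subsingleton (Subgroup.center S) this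
  have hdvd : p ∣ Nat.card (Subgroup.center S) := by
    rw [hk]; exact dvd_pow_self p hk0
  obtain ⟨z, hz⟩ := exists_prime_orderOf_dvd_card' p hdvd
  intro hbot
  have hmem : (z : S) ∈ omegaOne p (Subgroup.center S) := by
    apply Subgroup.subset_closure
    refine ⟨z.2, ?_⟩
    have : z ^ p = 1 := by rw [← hz]; exact pow_orderOf_eq_one z
    exact_mod_cast congrArg Subtype.val this
  rw [hbot, Subgroup.mem_bot] at hmem
  have hz1 : z = 1 := Subtype.ext hmem
  rw [hz1, orderOf_one] at hz
  exact hp.one_lt.ne hz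

end pgroup

end Cfsg.Agent.helper4.StableW
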