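import Mathlib
import Cfsg.Agent.Lib_helper14_Puig
import Cfsg.Agent.Lib_helper19_PGroup
import Cfsg.Agent.Lib_helper19_PLen
import Cfsg.Agent.Lib_helper19_Sylow
import Cfsg.Agent.Lib_helper4_StableW
import Cfsg.Agent.Lib_helper3_PStab2
import Cfsg.Agent.Lib_helper7_Quot

set_option autoImplicit false
set_option linter.style.haveILetI false

/-!
# The centre of the Puig subgroup in solvable groups of odd order (helper14)
-/

namespace Cfsg.Agent.helper14.Puig

variable {G : Type*} [Group G]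

theorem Lr_le_Lr_of_le {H R X X' : Subgroup G} (h1 : Lr H X ≤ R) (h2 : X' ≤ X) :
    Lr H X ≤ Lr R X' := by
  have key : ∀ A : Subgroup G, A ≤ H → IsMulCommutative A → X ≤ Subgroup.normalizer (A : Set G) →
      A ≤ Lr R X' := fun A hAH hAc hAn => le_Lr ((le_Lr hAH hAc hAn).trans h1) hAc (h2.trans hAn)
  unfold Lr
  apply sSup_le
  rintro A ⟨hAH, hAc, hAn⟩
  exact key A hAH hAc hAn

section fin
variable [Finite G]

theorem Lr_lower (H : Subgroup G) : Lr H (LowerR H) = UpperR H := by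
  unfold LowerR UpperR
  rw [← map_puigStep, (Cfsg.Agent.S1467.result (G := ↥H)).2.2.2.2.2.1]

theorem Lr_upper (H : Subgroup G) : Lr H (UpperR H) = LowerR H := by
  unfold LowerR UpperR
  rw [← map_puigStep, (Cfsg.Agent.S1467.result (G := ↥H)).2.2.2.2.2.2]

theorem exists_stab (H : Subgroup G) :
    ∃ k, ∀ n, k ≤ n → Ls H (2 * n) = LowerR H ∧ Ls H (2 * n + 1) = UpperR H := by
  obtain ⟨k, hk⟩ := (Cfsg.Agent.S1467.result (G := ↥H)).2.2.2.1
  refine ⟨k, fun n hn => ⟨?_, ?_⟩⟩
  · unfold Ls LowerR; rw [(hk n hn).1]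
  · unfold Ls UpperR; rw [(hk n hn).2]

/-- Lemma B.2: `L(R) = L(S)` whenever `L(S) ≤ R ≤ S`. -/
theorem upper_eq_of_le (S R : Subgroup G) (h1 : UpperR S ≤ R) (h2 : R ≤ S) :
    UpperR R = UpperR S := by
  have hLL : LowerR S ≤ UpperR S := lower_le_upper S
  have hi : Lr R (LowerR S) = UpperR S := by
    apply le_antisymm
    · have := Lr_mono_left h2 (LowerR S)
      rwa [Lr_lower] at this
    · have := Lr_le_Lr_of_le (H := S) (R := R) (X := LowerR S) (X' := LowerR S)
        (by rw [Lr_lower]; exact h1) le_rfl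
      rwa [Lr_lower] at this
  have hii : Lr R (UpperR S) = LowerR S := by
    apply le_antisymm
    · have := Lr_mono_left h2 (UpperR S)
      rwa [Lr_upper] at this
    · have := Lr_le_Lr_of_le (H := S) (R := R) (X := UpperR S) (X' := UpperR S)
        (by rw [Lr_upper]; exact hLL.trans h1) le_rfl
      rwa [Lr_upper] at this
  have hiii : ∀ n, Ls R (2 * n) ≤ LowerR S ∧ UpperR S ≤ Ls R (2 * n + 1) := by
    intro n
    induction n with
    | zero =>
      have h0 : Ls R (2 * 0) ≤ LowerR S := by rw [Nat.mul_zero, Ls_zero]; exact bot_le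
      refine ⟨h0, ?_⟩
      rw [Ls_succ R (2 * 0)]
      exact hi.ge.trans (Lr_anti R h0)
    | succ n ih =>
      have e1 : 2 * (n + 1) = (2 * n + 1) + 1 := by ring
      have h0 : Ls R (2 * (n + 1)) ≤ LowerR S := by
        rw [e1, Ls_succ R (2 * n + 1)]
        exact (Lr_anti R ih.2).trans hii.le
      refine ⟨h0, ?_⟩
      rw [Ls_succ R (2 * (n + 1))]
      exact hi.ge.trans (Lr_anti R h0)
  have hiv : ∀ n, Ls S (2 * n) ≤ Ls R (2 * n) ∧ Ls R (2 * n + 1) ≤ Ls S (2 * n + 1) := by
    intro n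
    induction n with
    | zero =>
      refine ⟨by rw [Nat.mul_zero, Ls_zero]; exact bot_le, ?_⟩
      rw [Ls_succ R (2 * 0), Ls_succ S (2 * 0), Nat.mul_zero, Ls_zero, Ls_zero]
      exact Lr_mono_left h2 _
    | succ n ih =>
      have e1 : 2 * (n + 1) = (2 * n + 1) + 1 := by ring
      have h0 : Ls S (2 * (n + 1)) ≤ Ls R (2 * (n + 1)) := by
        have hle : Ls S (2 * (n + 1)) ≤ R := (Ls_even_le_lower S (n + 1)).trans (hLL.trans h1)
        rw [e1] at hle ⊢
        rw [Ls_succ S (2 * n + 1)] at hle ⊢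
        rw [Ls_succ R (2 * n + 1)]
        exact Lr_le_Lr_of_le hle ih.2
      refine ⟨h0, ?_⟩
      rw [Ls_succ R (2 * (n + 1)), Ls_succ S (2 * (n + 1))]
      exact (Lr_anti R h0).trans (Lr_mono_left h2 _)
  apply le_antisymm
  · rw [upper_eq R, upper_eq S]
    exact iInf_mono (fun n => (hiv n).2)
  · rw [upper_eq R]
    exact le_iInf (fun n => (hiii n).2)

end fin

/-! ### the centre, as a subgroup of the ambient group -/

/-- `Z(K)` as a subgroup of `G` -/
def Zc (K : Subgroup G) : Subgroup G := K ⊓ Subgroup.centralizer (K : Set G)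

theorem Zc_le (K : Subgroup G) : Zc K ≤ K := inf_le_left

theorem Zc_le_centralizer (K : Subgroup G) : Zc K ≤ Subgroup.centralizer (K : Set G) :=
  inf_le_right

theorem Zc_comm (K : Subgroup G) : IsMulCommutative (Zc K) := by
  refine ⟨⟨fun x y => ?_⟩⟩
  apply Subtype.ext
  have hx : (x : G) ∈ Subgroup.centralizer (K : Set G) := Zc_le_centralizer K x.2
  have hy : (y : G) ∈ K := Zc_le K y.2
  exact (Subgroup.mem_centralizer_iff.mp hx (y : G) hy).symm

theorem center_bridge (H : Subgroup G) (U : Subgroup ↥H) :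
    ((Subgroup.center ↥U).map U.subtype).map H.subtype = Zc (U.map H.subtype) := by
  rw [Cfsg.Agent.helper19.map_center_eq_inf_centralizer,
    Cfsg.Agent.helper4.StableW.map_inf_centralizer _ (Subgroup.subtype_injective H)]
  rfl

theorem normalizer_le_normalizer_Zc (K : Subgroup G) :
    Subgroup.normalizer (K : Set G) ≤ Subgroup.normalizer ((Zc K : Subgroup G) : Set G) := by
  apply Cfsg.Agent.helper14.le_normalizer_of_map_conj_le
  rintro g hg _ ⟨x, hx, rfl⟩
  have hxK : x ∈ K := Zc_le K hx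
  have hxC : x ∈ Subgroup.centralizer (K : Set G) := Zc_le_centralizer K hx
  refine Subgroup.mem_inf.mpr ⟨(Subgroup.mem_normalizer_iff.mp hg x).mp hxK, ?_⟩
  rw [Subgroup.mem_centralizer_iff]
  intro k hk
  have hk' : g⁻¹ * k * g ∈ K := by
    have := (Subgroup.mem_normalizer_iff.mp (Subgroup.inv_mem _ hg) k).mp hk
    simpa using this
  have := Subgroup.mem_centralizer_iff.mp hxC _ hk'
  show k * (g * x * g⁻¹) = g * x * g⁻¹ * k
  calc k * (g * x * g⁻¹) = g * ((g⁻¹ * k * g) * x) * g⁻¹ := by group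
    _ = g * (x * (g⁻¹ * k * g)) * g⁻¹ := by rw [this]
    _ = g * x * g⁻¹ * k := by group

end Cfsg.Agent.helper14.Puig
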