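import Mathlib
import Cfsg.Agent.Lib_helper14_Puig2

set_option autoImplicit false
set_option linter.style.haveILetI false

/-!
# The centre of the Puig subgroup is normal when `O_{p'}(G) = 1` (helper14)
-/

namespace Cfsg.Agent.helper14.Puig

variable {G : Type*} [Group G]

section main
variable [Finite G] [Group.IsSolvable G]

theorem final_step (p : ℕ) [Fact p.Prime] (S : Sylow p G) (C : Subgroup G) [C.Normal]
    (hLQ : UpperR (S : Subgroup G) ≤ (Cfsg.pCore p (G ⧸ C)).comap (QuotientGroup.mk' C))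
    (hCN : C ≤ Subgroup.normalizer ((Zc (UpperR (S : Subgroup G)) : Subgroup G) : Set G)) :
    (Zc (UpperR (S : Subgroup G))).Normal := by
  have hpp : p.Prime := Fact.out
  haveI hQn : ((Cfsg.pCore p (G ⧸ C)).comap (QuotientGroup.mk' C)).Normal :=
    Subgroup.Normal.comap (Cfsg.Agent.helper1.pCore_normal p) _
  have hLR : UpperR (S : Subgroup G) ≤
      (S : Subgroup G) ⊓ (Cfsg.pCore p (G ⧸ C)).comap (QuotientGroup.mk' C) :=
    le_inf (upper_le _) hLQ
  have hUR : UpperR ((S : Subgroup G) ⊓ (Cfsg.pCore p (G ⧸ C)).comap (QuotientGroup.mk' C))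
      = UpperR (S : Subgroup G) := upper_eq_of_le (S : Subgroup G) _ hLR inf_le_left
  have hNR : Subgroup.normalizer ((((S : Subgroup G) ⊓
      (Cfsg.pCore p (G ⧸ C)).comap (QuotientGroup.mk' C) : Subgroup G)) : Set G) ≤
      Subgroup.normalizer ((Zc (UpperR (S : Subgroup G)) : Subgroup G) : Set G) := by
    refine (normalizer_le_normalizer_upper _).trans ?_
    rw [hUR]
    exact normalizer_le_normalizer_Zc _
  have hQCR : (Cfsg.pCore p (G ⧸ C)).comap (QuotientGroup.mk' C) ≤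
      C ⊔ ((S : Subgroup G) ⊓ (Cfsg.pCore p (G ⧸ C)).comap (QuotientGroup.mk' C)) := by
    rw [← Subgroup.relIndex_eq_one]
    have d1 := Subgroup.relIndex_dvd_of_le_left ((Cfsg.pCore p (G ⧸ C)).comap (QuotientGroup.mk' C))
      (le_sup_left : C ≤ C ⊔ ((S : Subgroup G) ⊓ (Cfsg.pCore p (G ⧸ C)).comap (QuotientGroup.mk' C)))
    have d2 := Subgroup.relIndex_dvd_of_le_left ((Cfsg.pCore p (G ⧸ C)).comap (QuotientGroup.mk' C))
      (le_sup_right : ((S : Subgroup G) ⊓ (Cfsg.pCore p (G ⧸ C)).comap (QuotientGroup.mk' C)) ≤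
        C ⊔ ((S : Subgroup G) ⊓ (Cfsg.pCore p (G ⧸ C)).comap (QuotientGroup.mk' C)))
    have e1 : C.relIndex ((Cfsg.pCore p (G ⧸ C)).comap (QuotientGroup.mk' C)) =
        Nat.card ↥(Cfsg.pCore p (G ⧸ C)) := Cfsg.Agent.helper19.relIndex_comap_mk' C _
    obtain ⟨k, hk⟩ := (IsPGroup.iff_card.mp (Cfsg.Agent.helper1.pCore_isPGroup (G := G ⧸ C) p))
    rw [e1, hk] at d1
    have h2 : ¬ p ∣ ((S : Subgroup G) ⊓ (Cfsg.pCore p (G ⧸ C)).comap (QuotientGroup.mk' C)).relIndex
        ((Cfsg.pCore p (G ⧸ C)).comap (QuotientGroup.mk' C)) :=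
      Cfsg.Agent.helper19.sylow_inf_normal_not_dvd S _
    obtain ⟨j, hj, hj'⟩ := (Nat.dvd_prime_pow hpp).mp d1
    rcases Nat.eq_zero_or_pos j with rfl | hjpos
    · simpa using hj'
    · exfalso
      apply h2
      refine dvd_trans ?_ d2
      rw [hj']
      exact dvd_pow_self p hjpos.ne'
  rw [← Subgroup.normalizer_eq_top_iff, eq_top_iff, ← Cfsg.Agent.helper19.frattini_inf S
    ((Cfsg.pCore p (G ⧸ C)).comap (QuotientGroup.mk' C))]
  apply sup_le hNR
  exact hQCR.trans (sup_le hCN (Subgroup.le_normalizer.trans hNR))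

theorem Zc_upper_normal_of_core_bot (hodd : Odd (Nat.card G)) (p : ℕ) [Fact p.Prime] (hp : p ≠ 2)
    (hO : Cfsg.pPrimeCore p G = ⊥) (S : Sylow p G) :
    (Zc (UpperR (S : Subgroup G))).Normal := by
  haveI hTn : (Cfsg.pCore p G).Normal := Cfsg.Agent.helper1.pCore_normal p
  have hTS : Cfsg.pCore p G ≤ (S : Subgroup G) := Cfsg.Agent.helper1.pCore_le_sylow S
  have hTp : IsPGroup p ↥(Cfsg.pCore p G) := Cfsg.Agent.helper1.pCore_isPGroup p
  haveI hMn : (UpperR (Cfsg.pCore p G)).Normal := upper_normal _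
  have hMT : UpperR (Cfsg.pCore p G) ≤ Cfsg.pCore p G := upper_le _
  have hMp : IsPGroup p ↥(UpperR (Cfsg.pCore p G)) := hTp.to_le hMT
  -- 1
  have hML : UpperR (Cfsg.pCore p G) ≤ UpperR (S : Subgroup G) := by
    rw [upper_eq, upper_eq]
    exact iInf_mono (fun n => (puig_chain hodd p hp hO S n).2)
  -- Y
  haveI hYn : (Zc (UpperR (Cfsg.pCore p G))).Normal := by
    rw [← Subgroup.normalizer_eq_top_iff, eq_top_iff]
    refine le_trans ?_ (normalizer_le_normalizer_Zc _)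
    rw [Subgroup.normalizer_eq_top]
  -- 2
  have hZcM : Zc (UpperR (S : Subgroup G)) ≤
      Subgroup.centralizer ((UpperR (Cfsg.pCore p G) : Subgroup G) : Set G) :=
    (Zc_le_centralizer _).trans (Subgroup.centralizer_le (by exact_mod_cast hML))
  have hZY : Zc (UpperR (S : Subgroup G)) ≤ Zc (UpperR (Cfsg.pCore p G)) := by
    have hZS : Zc (UpperR (S : Subgroup G)) ≤ (S : Subgroup G) := (Zc_le _).trans (upper_le _)
    have h1 : Zc (UpperR (S : Subgroup G)) ≤ Lr (S : Subgroup G) (UpperR (Cfsg.pCore p G)) := by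
      apply le_Lr hZS (Zc_comm _)
      refine le_trans ?_ (Subgroup.centralizer_le_normalizer _)
      rw [Subgroup.le_centralizer_iff]
      exact hZcM
    have h2 : Lr (S : Subgroup G) (UpperR (Cfsg.pCore p G)) ≤
        Lr (Cfsg.pCore p G) (UpperR (Cfsg.pCore p G)) :=
      key_fact hodd p hp hO S _ hMp (inf_centralizer_upper_le _)
    have h3 : Zc (UpperR (S : Subgroup G)) ≤ Cfsg.pCore p G := h1.trans (h2.trans (Lr_le _ _))
    have h4 : Zc (UpperR (S : Subgroup G)) ≤ UpperR (Cfsg.pCore p G) :=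
      (le_inf h3 hZcM).trans (inf_centralizer_upper_le _)
    exact le_inf h4 hZcM
  -- 3
  have hYp : IsPGroup p ↥(Zc (UpperR (Cfsg.pCore p G))) := hMp.to_le (Zc_le _)
  have hYS : Zc (UpperR (Cfsg.pCore p G)) ≤ (S : Subgroup G) := (Zc_le _).trans (hMT.trans hTS)
  have hLQ : UpperR (S : Subgroup G) ≤ (Cfsg.pCore p (G ⧸ Subgroup.centralizer
      ((Zc (UpperR (Cfsg.pCore p G)) : Subgroup G) : Set G))).comap (QuotientGroup.mk' _) := by
    have hY2 : Zc (UpperR (Cfsg.pCore p G)) ≤ Ls (S : Subgroup G) 2 := by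
      rw [show (2 : ℕ) = 1 + 1 from rfl, Ls_succ]
      apply le_Lr hYS (Zc_comm _)
      rw [Subgroup.normalizer_eq_top]; exact le_top
    have h3 : UpperR (S : Subgroup G) ≤ Lr (S : Subgroup G) (Zc (UpperR (Cfsg.pCore p G))) := by
      calc UpperR (S : Subgroup G) ≤ Ls (S : Subgroup G) (2 * 1 + 1) := upper_le_Ls_odd _ 1
        _ = Lr (S : Subgroup G) (Ls (S : Subgroup G) 2) := Ls_succ _ 2
        _ ≤ Lr (S : Subgroup G) (Zc (UpperR (Cfsg.pCore p G))) := Lr_anti _ hY2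
    have h4 := (Cfsg.Agent.S1465.result hodd p hp (Zc (UpperR (Cfsg.pCore p G))) hYp
      {A : Subgroup G | A ≤ (S : Subgroup G) ∧ IsMulCommutative A ∧
        Zc (UpperR (Cfsg.pCore p G)) ≤ Subgroup.normalizer (A : Set G)}
      (fun B hB => ⟨hB.2.1, S.isPGroup'.to_le hB.1, hB.2.2⟩)).1
    rw [Subgroup.map_le_iff_le_comap] at h4
    exact h3.trans h4
  apply final_step p S _ hLQ
  refine le_trans ?_ (Subgroup.centralizer_le_normalizer _)
  exact Subgroup.centralizer_le (by exact_mod_cast hZY)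

end main

end Cfsg.Agent.helper14.Puig
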