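import Mathlib
import Cfsg.Agent.Lib_helper14_Puig3

set_option autoImplicit false
set_option linter.style.haveILetI false

/-!
# Transfer of the relative Puig series along maps injective on the subgroup (helper14)
-/

namespace Cfsg.Agent.helper14.Puig

variable {G G' : Type*} [Group G] [Group G']

theorem Lr_map_of_injOn (f : G →* G') (H X : Subgroup G) (hX : X ≤ H)
    (hinj : ∀ x ∈ H, f x = 1 → x = 1) :
    Lr (H.map f) (X.map f) = (Lr H X).map f := by
  apply le_antisymm
  · have key : ∀ B : Subgroup G', B ≤ H.map f → IsMulCommutative B →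
        X.map f ≤ Subgroup.normalizer (B : Set G') → B ≤ (Lr H X).map f := by
      intro B hBH hBc hBn
      rw [← Cfsg.Agent.helper3.map_comap_inf_eq f hBH]
      apply Subgroup.map_mono
      apply le_Lr inf_le_right (Cfsg.Agent.helper3.isMulCommutative_comap_inf f hinj B hBc)
      intro x hx
      have hfx : f x ∈ Subgroup.normalizer (B : Set G') := hBn (Subgroup.mem_map_of_mem f hx)
      have hxH : x ∈ H := hX hx
      rw [Subgroup.mem_normalizer_iff]
      intro a
      constructor
      · intro ha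
        have ha1 : f a ∈ B := ha.1
        have ha2 : a ∈ H := ha.2
        refine Subgroup.mem_inf.mpr ⟨?_, H.mul_mem (H.mul_mem hxH ha2) (H.inv_mem hxH)⟩
        show f (x * a * x⁻¹) ∈ B
        rw [map_mul, map_mul, map_inv]
        exact (Subgroup.mem_normalizer_iff.mp hfx (f a)).mp ha1
      · intro ha
        have ha1 : f (x * a * x⁻¹) ∈ B := ha.1
        have ha2 : x * a * x⁻¹ ∈ H := ha.2
        have ha3 : a ∈ H := by
          have : a = x⁻¹ * (x * a * x⁻¹) * x := by group
          rw [this]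
          exact H.mul_mem (H.mul_mem (H.inv_mem hxH) ha2) hxH
        refine Subgroup.mem_inf.mpr ⟨?_, ha3⟩
        show f a ∈ B
        rw [map_mul, map_mul, map_inv] at ha1
        exact (Subgroup.mem_normalizer_iff.mp hfx (f a)).mpr ha1
    unfold Lr
    apply sSup_le
    rintro B ⟨hBH, hBc, hBn⟩
    exact key B hBH hBc hBn
  · rw [Subgroup.map_le_iff_le_comap]
    have key : ∀ A : Subgroup G, A ≤ H → IsMulCommutative A →
        X ≤ Subgroup.normalizer (A : Set G) → A ≤ (Lr (H.map f) (X.map f)).comap f := by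
      intro A hAH hAc hAn
      rw [← Subgroup.map_le_iff_le_comap]
      exact le_Lr (Subgroup.map_mono hAH) (comm_map f A hAc)
        ((Subgroup.map_mono hAn).trans (Subgroup.le_normalizer_map f))
    unfold Lr
    apply sSup_le
    rintro A ⟨hAH, hAc, hAn⟩
    exact key A hAH hAc hAn

theorem Ls_map_of_injOn (f : G →* G') (H : Subgroup G)
    (hinj : ∀ x ∈ H, f x = 1 → x = 1) (n : ℕ) :
    Ls (H.map f) n = (Ls H n).map f := by
  induction n with
  | zero => rw [Ls_zero, Ls_zero, Subgroup.map_bot]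
  | succ n ih =>
    rw [Ls_succ (H.map f) n, Ls_succ H n, ih]
    exact Lr_map_of_injOn f H _ (Ls_le H n) hinj

theorem upper_map_of_injOn [Finite G] [Finite G'] (f : G →* G') (H : Subgroup G)
    (hinj : ∀ x ∈ H, f x = 1 → x = 1) :
    UpperR (H.map f) = (UpperR H).map f := by
  obtain ⟨k₁, hk₁⟩ := exists_stab H
  obtain ⟨k₂, hk₂⟩ := exists_stab (H.map f)
  rw [← (hk₁ (max k₁ k₂) (le_max_left _ _)).2, ← (hk₂ (max k₁ k₂) (le_max_right _ _)).2]
  exact Ls_map_of_injOn f H hinj _

theorem Zc_map_of_injOn (f : G →* G') (H K : Subgroup G) (hK : K ≤ H)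
    (hinj : ∀ x ∈ H, f x = 1 → x = 1) :
    Zc (K.map f) = (Zc K).map f := by
  apply le_antisymm
  · intro y hy
    have hy1 : y ∈ K.map f := Zc_le _ hy
    have hy2 : y ∈ Subgroup.centralizer ((K.map f : Subgroup G') : Set G') := Zc_le_centralizer _ hy
    obtain ⟨x, hx, rfl⟩ := hy1
    refine ⟨x, Subgroup.mem_inf.mpr ⟨hx, ?_⟩, rfl⟩
    rw [Subgroup.mem_centralizer_iff]
    intro k hk
    have := Subgroup.mem_centralizer_iff.mp hy2 (f k) (Subgroup.mem_map_of_mem f hk)
    apply Cfsg.Agent.helper3.eq_of_map_eq_of_injOn f hinj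
      (H.mul_mem (hK hk) (hK hx)) (H.mul_mem (hK hx) (hK hk))
    rw [map_mul, map_mul]
    exact this
  · rintro _ ⟨x, hx, rfl⟩
    have hx1 : x ∈ K := Zc_le _ hx
    have hx2 : x ∈ Subgroup.centralizer (K : Set G) := Zc_le_centralizer _ hx
    refine Subgroup.mem_inf.mpr ⟨Subgroup.mem_map_of_mem f hx1, ?_⟩
    rw [Subgroup.mem_centralizer_iff]
    rintro _ ⟨k, hk, rfl⟩
    have := Subgroup.mem_centralizer_iff.mp hx2 k hk
    rw [← map_mul, ← map_mul, this]

end Cfsg.Agent.helper14.Puig
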