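import Mathlib
import Cfsg.Prelude.Def_LocalEven

/-! Sections (helper15): `Cfsg.Involves` passes up from subgroups and quotients. -/

set_option autoImplicit false

namespace Cfsg.Agent.helper15.S4F

/-- If `A` embeds in `B` and maps onto `P`, then `P` is involved in `B`
(as in helper's S5299 file). -/
theorem involves_of_inj_surj' {A B P : Type*} [Group A] [Group B] [Group P] (j : A →* B)
    (hj : Function.Injective j) (π : A →* P) (hπ : Function.Surjective π) : Cfsg.Involves P B := by
  let e₁ : A ≃* j.range := MonoidHom.ofInjective hj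
  let ψ : j.range →* P := π.comp e₁.symm.toMonoidHom
  have hψ : Function.Surjective ψ := hπ.comp e₁.symm.surjective
  have hker : ψ.ker = ((π.ker).map j).subgroupOf j.range := by
    ext ⟨y, hy⟩
    obtain ⟨a, rfl⟩ := hy
    have he : e₁.symm ⟨j a, ⟨a, rfl⟩⟩ = a := by
      apply e₁.injective
      rw [MulEquiv.apply_symm_apply]
      rfl
    rw [MonoidHom.mem_ker, Subgroup.mem_subgroupOf]
    show π (e₁.symm ⟨j a, _⟩) = 1 ↔ _
    rw [he]
    constructor
    · intro h
      exact ⟨a, h, rfl⟩
    · rintro ⟨a', ha', h⟩
      have : a' = a := hj h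
      rw [← this]
      exact ha'
  have hn : (((π.ker).map j).subgroupOf j.range).Normal := by
    rw [← hker]
    infer_instance
  exact ⟨j.range, (π.ker).map j, hn, ⟨(QuotientGroup.quotientMulEquivOfEq hker.symm).trans
      (QuotientGroup.quotientKerEquivOfSurjective ψ hψ)⟩⟩

/-- From `Involves P X`: a group embedding in `X` and mapping onto `P`. -/
theorem exists_inj_surj_of_involves {X P : Type*} [Group X] [Group P] (h : Cfsg.Involves P X) :
    ∃ (K : Subgroup X) (π : K →* P), Function.Surjective π := by
  obtain ⟨K, R, hn, ⟨e⟩⟩ := h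
  haveI := hn
  refine ⟨K, e.toMonoidHom.comp (QuotientGroup.mk' (R.subgroupOf K)), ?_⟩
  exact e.surjective.comp (QuotientGroup.mk'_surjective _)

theorem involves_of_subgroup {X P : Type*} [Group X] [Group P] (H : Subgroup X)
    (h : Cfsg.Involves P ↥H) : Cfsg.Involves P X := by
  obtain ⟨K, π, hπ⟩ := exists_inj_surj_of_involves h
  exact involves_of_inj_surj' (H.subtype.comp K.subtype)
    (H.subtype_injective.comp K.subtype_injective) π hπ

theorem involves_of_quotient {X P : Type*} [Group X] [Group P] (N : Subgroup X) [N.Normal]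
    (h : Cfsg.Involves P (X ⧸ N)) : Cfsg.Involves P X := by
  obtain ⟨K, π, hπ⟩ := exists_inj_surj_of_involves h
  refine involves_of_inj_surj' (K.comap (QuotientGroup.mk' N)).subtype
    (Subgroup.subtype_injective _) (π.comp ((QuotientGroup.mk' N).subgroupComap K)) ?_
  exact hπ.comp ((QuotientGroup.mk' N).subgroupComap_surjective_of_surjective K
    (QuotientGroup.mk'_surjective N))

end Cfsg.Agent.helper15.S4F
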