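import Mathlib
import Cfsg.Agent.Lib_helper15_S4a
import Cfsg.Agent.Lib_helper15_Replace
import Cfsg.Agent.Lib_helper15_CD
import Cfsg.Agent.Lib_helper19_Sylow

/-! A four-group `U` with `N(U)/C(U)` of order `6` gives a section isomorphic to `S₄`
(helper15). -/

set_option autoImplicit false

namespace Cfsg.Agent.helper15.S4F

variable {Y : Type*} [Group Y]

/-- enumeration of a four-group -/
theorem four_group_enum [Finite Y] (U : Subgroup Y) (hU4 : Nat.card U = 4)
    (hU2 : ∀ x ∈ U, x * x = 1) {u v : Y} (hu : u ∈ U) (hv : v ∈ U)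
    (hu1 : u ≠ 1) (hv1 : v ≠ 1) (huv : u ≠ v) :
    ∀ x ∈ U, x = 1 ∨ x = u ∨ x = v ∨ x = u * v := by
  classical
  haveI := Fintype.ofFinite U
  have hvinv : v⁻¹ = v := inv_eq_of_mul_eq_one_left (hU2 v hv)
  let u' : U := ⟨u, hu⟩
  let v' : U := ⟨v, hv⟩
  have h1 : u' ≠ 1 := fun h => hu1 (congrArg Subtype.val h)
  have h2 : v' ≠ 1 := fun h => hv1 (congrArg Subtype.val h)
  have h3 : u' ≠ v' := fun h => huv (congrArg Subtype.val h)
  have h4 : u' * v' ≠ 1 := by
    intro h
    apply huv
    have h5 : u * v = 1 := congrArg Subtype.val h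
    rw [← hvinv]
    exact eq_inv_of_mul_eq_one_left h5
  have h5 : u' * v' ≠ u' := by
    intro h
    apply h2
    exact mul_eq_left.mp h
  have h6 : u' * v' ≠ v' := by
    intro h
    apply h1
    exact mul_eq_right.mp h
  let s : Finset U := {1, u', v', u' * v'}
  have hs : s.card = 4 := by
    rw [Finset.card_insert_of_notMem, Finset.card_insert_of_notMem, Finset.card_insert_of_notMem,
      Finset.card_singleton]
    · simp only [Finset.mem_singleton]
      exact fun h => h6 h.symm
    · simp only [Finset.mem_insert, Finset.mem_singleton, not_or]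
      exact ⟨h3, fun h => h5 h.symm⟩
    · simp only [Finset.mem_insert, Finset.mem_singleton, not_or]
      exact ⟨fun h => h1 h.symm, fun h => h2 h.symm, fun h => h4 h.symm⟩
  have huniv : s = Finset.univ := by
    apply Finset.eq_univ_of_card
    rw [hs, ← Nat.card_eq_fintype_card, hU4]
  intro x hx
  have hxs : (⟨x, hx⟩ : U) ∈ s := by rw [huniv]; exact Finset.mem_univ _
  simp only [s, Finset.mem_insert, Finset.mem_singleton] at hxs
  rcases hxs with h | h | h | h
  · left; exact congrArg Subtype.val h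
  · right; left; exact congrArg Subtype.val h
  · right; right; left; exact congrArg Subtype.val h
  · right; right; right; exact congrArg Subtype.val h

/-- an element of odd order commuting with its square's centralizer -/
theorem commute_of_sq_commute {d x : Y} {m : ℕ} (hm : Odd m) (hd : d ^ m = 1)
    (h : d ^ 2 * x = x * d ^ 2) : d * x = x * d := by
  obtain ⟨c, rfl⟩ := hm
  have hd' : d = (d ^ 2) ^ (c + 1) := by
    rw [← pow_mul]
    have : 2 * (c + 1) = (2 * c + 1) + 1 := by ring
    rw [this, pow_succ, hd, one_mul]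
  have hc : Commute (d ^ 2) x := h
  have := (hc.pow_left (c + 1)).eq
  rw [← hd'] at this
  exact this

/-- an element of odd order normalizing a four-group and fixing a nonidentity element of it
centralizes it -/
theorem centralizes_four_of_odd [Finite Y] (U : Subgroup Y) (hU4 : Nat.card U = 4)
    (hU2 : ∀ x ∈ U, x * x = 1) {d : Y} (hdN : ∀ x ∈ U, d * x * d⁻¹ ∈ U) {m : ℕ} (hm : Odd m)
    (hd : d ^ m = 1) {u : Y} (hu : u ∈ U) (hu1 : u ≠ 1) (hdu : d * u * d⁻¹ = u) :
    ∀ x ∈ U, d * x * d⁻¹ = x := by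
  intro x hx
  by_cases hx1 : x = 1
  · rw [hx1]; group
  by_cases hxu : x = u
  · rw [hxu]; exact hdu
  have henum := four_group_enum U hU4 hU2 hu hx hu1 hx1 (fun h => hxu h.symm)
  rcases henum (d * x * d⁻¹) (hdN x hx) with h | h | h | h
  · exfalso
    apply hx1
    have : x = d⁻¹ * (d * x * d⁻¹) * d := by group
    rw [this, h]; group
  · exfalso
    apply hxu
    have : x = d⁻¹ * (d * x * d⁻¹) * d := by group
    rw [this, h]
    have h2 : d⁻¹ * u * d = d⁻¹ * (d * u * d⁻¹) * d := by rw [hdu]
    rw [h2]; group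
  · exact h
  · exfalso
    have h2 : d ^ 2 * x * (d ^ 2)⁻¹ = x := by
      have e : d ^ 2 * x * (d ^ 2)⁻¹ = d * (d * x * d⁻¹) * d⁻¹ := by
        rw [pow_two]; group
      rw [e, h]
      have e2 : d * (u * x) * d⁻¹ = (d * u * d⁻¹) * (d * x * d⁻¹) := by group
      rw [e2, hdu, h, ← mul_assoc, hU2 u hu, one_mul]
    have h3 : d ^ 2 * x = x * d ^ 2 := by
      calc d ^ 2 * x = (d ^ 2 * x * (d ^ 2)⁻¹) * d ^ 2 := by group
        _ = x * d ^ 2 := by rw [h2]
    have h4 := commute_of_sq_commute hm hd h3
    have h5 : d * x * d⁻¹ = x := by rw [h4]; group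
    rw [h5] at h
    apply hu1
    have : u * x = 1 * x := by rw [one_mul]; exact h.symm
    exact mul_right_cancel this

end Cfsg.Agent.helper15.S4F
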