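import Mathlib
import Cfsg.Agent.Lib_helper15_S4b

/-! A normal four-group `U` with `|Y : C(U)| = 6` gives a section isomorphic to `S₄`
(helper15). -/

set_option autoImplicit false

namespace Cfsg.Agent.helper15.S4F

variable {Y : Type*} [Group Y] [Finite Y]

theorem involves_S4_core (U : Subgroup Y) [hUn : U.Normal] (hU4 : Nat.card U = 4)
    (hU2 : ∀ x ∈ U, x * x = 1) (hidx : (Subgroup.centralizer (U : Set Y)).index = 6) :
    Cfsg.Involves (Equiv.Perm (Fin 4)) Y := by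
  haveI : Fact (Nat.Prime 3) := ⟨Nat.prime_three⟩
  obtain ⟨Q, hQ⟩ : ∃ Q : Subgroup Y, Q = Subgroup.centralizer (U : Set Y) := ⟨_, rfl⟩
  haveI hQn : Q.Normal := by rw [hQ]; infer_instance
  rw [← hQ] at hidx
  have hQmem : ∀ x, x ∈ Q ↔ ∀ u ∈ U, u * x = x * u := by
    intro x; rw [hQ, Subgroup.mem_centralizer_iff]; rfl
  obtain ⟨D⟩ : Nonempty (Sylow 3 Y) := inferInstance
  obtain ⟨a, ha⟩ := IsPGroup.iff_card.mp D.isPGroup'
  obtain ⟨M, hM⟩ : ∃ M : Subgroup Y, M = Q ⊔ (D : Subgroup Y) := ⟨_, rfl⟩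
  have hQM : Q ≤ M := hM ▸ le_sup_left
  have hDM : (D : Subgroup Y) ≤ M := hM ▸ le_sup_right
  have h1 : Q.relIndex M * M.index = 6 := by rw [Subgroup.relIndex_mul_index hQM, hidx]
  have h2 : Q.relIndex M ∣ 3 ^ a := by
    rw [hM, Subgroup.relIndex_sup_left, ← ha]
    exact Subgroup.relIndex_dvd_card _ _
  have h3 : ¬ 3 ∣ M.index := fun h =>
    D.not_dvd_index (dvd_trans h (Subgroup.index_dvd_of_le hDM))
  have hMidx : M.index = 2 ∧ Q.relIndex M = 3 := by
    obtain ⟨c, -, hc⟩ := (Nat.dvd_prime_pow Nat.prime_three).1 h2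
    rw [hc] at h1 ⊢
    rcases c with _ | _ | c
    · exfalso; apply h3
      rw [pow_zero, one_mul] at h1
      rw [h1]; norm_num
    · rw [pow_one] at h1 ⊢
      exact ⟨by omega, rfl⟩
    · exfalso
      have : 9 ∣ 6 := ⟨3 ^ c * M.index, by rw [← h1]; ring⟩
      omega
  obtain ⟨hMidx, hQMidx⟩ := hMidx
  haveI hMn : M.Normal := Subgroup.normal_of_index_eq_two hMidx
  have hfr := Cfsg.Agent.helper19.frattini_inf D M
  rw [inf_eq_left.2 hDM] at hfr
  -- an element of `N(D)` outside `M`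
  obtain ⟨n, hnN, hnM⟩ : ∃ n, n ∈ Subgroup.normalizer ((D : Subgroup Y) : Set Y) ∧ n ∉ M := by
    by_contra hcon
    push Not at hcon
    have hle : Subgroup.normalizer ((D : Subgroup Y) : Set Y) ≤ M := hcon
    rw [sup_eq_right.2 hle] at hfr
    rw [hfr, Subgroup.index_top] at hMidx
    omega
  obtain ⟨e, m, hmodd, hem⟩ := Nat.exists_eq_two_pow_mul_odd (orderOf_pos n).ne'
  obtain ⟨t, ht⟩ : ∃ t, t = n ^ m := ⟨_, rfl⟩
  have htN : t ∈ Subgroup.normalizer ((D : Subgroup Y) : Set Y) := ht ▸ Subgroup.pow_mem _ hnN m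
  have hte : t ^ (2 ^ e) = 1 := by
    rw [ht, ← pow_mul, mul_comm, ← hem]; exact pow_orderOf_eq_one n
  have htM : t ∉ M := by
    intro h
    apply hnM
    obtain ⟨c, hc⟩ := hmodd
    have h4 : n ^ 2 ∈ M := Subgroup.sq_mem_of_index_two hMidx n
    have h5 : n = ((n ^ 2) ^ c)⁻¹ * t := by
      rw [ht, hc, ← pow_mul, pow_succ]; group
    rw [h5]
    exact M.mul_mem (M.inv_mem (M.pow_mem h4 c)) h
  obtain ⟨Z, hZ⟩ : ∃ Z : Subgroup Y, Z = Subgroup.zpowers t := ⟨_, rfl⟩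
  have hZN : Z ≤ Subgroup.normalizer ((D : Subgroup Y) : Set Y) := by
    rw [hZ, Subgroup.zpowers_le]; exact htN
  have hZ2 : IsPGroup 2 Z := by
    rw [hZ]
    intro ⟨z, hz⟩
    obtain ⟨i, rfl⟩ := Subgroup.mem_zpowers_iff.mp hz
    refine ⟨e, ?_⟩
    apply Subtype.ext
    rw [Subgroup.coe_pow, Subgroup.coe_one]
    show (t ^ i) ^ 2 ^ e = 1
    rw [← zpow_natCast, ← zpow_mul, mul_comm, zpow_mul, zpow_natCast, hte, one_zpow]
  obtain ⟨E, hE⟩ : ∃ E : Subgroup Y, E = (D : Subgroup Y) ⊔ Z := ⟨_, rfl⟩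
  have hDE : (D : Subgroup Y) ≤ E := hE ▸ le_sup_left
  have htE : t ∈ E := by
    rw [hE]; apply Subgroup.mem_sup_right; rw [hZ]; exact Subgroup.mem_zpowers t
  have hEN : E ≤ Subgroup.normalizer ((D : Subgroup Y) : Set Y) := by
    rw [hE]; exact sup_le Subgroup.le_normalizer hZN
  -- `E Q = Y`
  have hEQ : E ⊔ Q = ⊤ := by
    have hle : M ≤ E ⊔ Q := by
      rw [hM]; exact sup_le le_sup_right (hDE.trans le_sup_left)
    have h4 := Subgroup.relIndex_mul_index hle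
    rw [hMidx] at h4
    have h5 : M.relIndex (E ⊔ Q) ≠ 1 := by
      rw [Ne, Subgroup.relIndex_eq_one]
      intro h
      exact htM (h (Subgroup.mem_sup_left htE))
    have h6 : (E ⊔ Q).index = 1 := by
      have hd : M.relIndex (E ⊔ Q) ∣ 2 := Dvd.intro _ h4
      rcases (Nat.dvd_prime Nat.prime_two).1 hd with h | h
      · exact absurd h h5
      · rw [h] at h4; omega
    exact Subgroup.index_eq_one.mp h6
  have hER : (E ⊓ Q).relIndex E = 6 := by
    rw [inf_comm, Subgroup.inf_relIndex_right, ← Subgroup.relIndex_sup_right, hEQ,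
      Subgroup.relIndex_top_right, hidx]
  -- `D ∩ U = 1`
  have hDU : (D : Subgroup Y) ⊓ U = ⊥ := by
    apply Subgroup.inf_eq_bot_of_coprime
    rw [ha, hU4]
    have : (4 : ℕ) = 2 ^ 2 := by norm_num
    rw [this]
    exact Nat.Coprime.pow _ _ (by norm_num)
  -- `D` is not contained in `Q`
  have hDQ : ¬ (D : Subgroup Y) ≤ Q := by
    intro h
    have : M = Q := by rw [hM]; exact sup_eq_left.2 h
    rw [this, Subgroup.relIndex_self] at hQMidx
    omega
  have hDodd : ∀ d ∈ (D : Subgroup Y), d ^ (3 ^ a) = 1 := by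
    intro d hd
    have := pow_card_eq_one' (G := (D : Subgroup Y)) (x := ⟨d, hd⟩)
    rw [ha] at this
    have h := congrArg Subtype.val this
    rwa [Subgroup.coe_pow, Subgroup.coe_one] at h
  -- `E ∩ U = 1`
  have hEU : E ⊓ U = ⊥ := by
    rw [eq_bot_iff]
    intro u hu
    rw [Subgroup.mem_bot]
    by_contra hu1
    apply hDQ
    intro d hd
    rw [hQmem]
    have hdu : d * u * d⁻¹ = u := by
      have h4 : d * u * d⁻¹ * u⁻¹ ∈ (D : Subgroup Y) ⊓ U := by
        refine Subgroup.mem_inf.2 ⟨?_, ?_⟩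
        · have h5 : u * d⁻¹ * u⁻¹ ∈ (D : Subgroup Y) :=
            (Subgroup.mem_normalizer_iff.mp (hEN hu.1) d⁻¹).mp (Subgroup.inv_mem _ hd)
          have e : d * u * d⁻¹ * u⁻¹ = d * (u * d⁻¹ * u⁻¹) := by group
          rw [e]; exact Subgroup.mul_mem _ hd h5
        · exact U.mul_mem (hUn.conj_mem u hu.2 d) (U.inv_mem hu.2)
      rw [hDU, Subgroup.mem_bot] at h4
      exact mul_inv_eq_one.mp h4
    have hcent := centralizes_four_of_odd U hU4 hU2 (fun x hx => hUn.conj_mem x hx d)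
      (Odd.pow (by decide : Odd 3)) (hDodd d hd) hu.2 hu1 hdu
    intro x hx
    have := hcent x hx
    calc x * d = (d * x * d⁻¹) * d := by rw [this]
      _ = d * x := by group
  -- orders
  obtain ⟨Y', hY'⟩ : ∃ Y' : Subgroup Y, Y' = U ⊔ E := ⟨_, rfl⟩
  have hEY' : E ≤ Y' := hY' ▸ le_sup_right
  have hUY' : U ≤ Y' := hY' ▸ le_sup_left
  have hcardY' : Nat.card Y' = 4 * Nat.card E := by
    have h4 := Cfsg.Agent.helper15.card_sup_mul_card_inf_of_le_normalizer E U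
      (by rw [Subgroup.normalizer_eq_top]; exact le_top)
    rw [hEU, Subgroup.card_bot, mul_one, sup_comm, ← hY', hU4, mul_comm] at h4
    exact h4
  have hEY'idx : E.relIndex Y' = 4 := by
    have h4 := Cfsg.Agent.helper15.card_mul_relIndex_of_le hEY'
    rw [hcardY', mul_comm] at h4
    exact Nat.eq_of_mul_eq_mul_right Nat.card_pos h4
  have hRY' : (E ⊓ Q).relIndex Y' = 24 := by
    rw [← Subgroup.relIndex_mul_relIndex (E ⊓ Q) E Y' inf_le_left hEY', hER, hEY'idx]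
  -- the coset action
  obtain ⟨E', hE'⟩ : ∃ E' : Subgroup ↥Y', E' = E.subgroupOf Y' := ⟨_, rfl⟩
  have hE'idx : E'.index = 4 := by rw [hE']; exact hEY'idx
  have hcardq : Nat.card (↥Y' ⧸ E') = 4 := by rw [← Subgroup.index_eq_card]; exact hE'idx
  obtain ⟨f, hf⟩ : ∃ f : ↥Y' →* Equiv.Perm (↥Y' ⧸ E'), f = MulAction.toPermHom ↥Y' (↥Y' ⧸ E') :=
    ⟨_, rfl⟩
  have hker : f.ker = E'.normalCore := by rw [hf]; exact (Subgroup.normalCore_eq_ker E').symm
  have hcore : E'.normalCore ≤ (E ⊓ Q).subgroupOf Y' := by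
    intro x hx
    have hxE : ∀ g : ↥Y', g * x * g⁻¹ ∈ E' := hx
    have hx1 : (x : Y) ∈ E := by
      have := hxE 1
      rw [one_mul, inv_one, mul_one, hE', Subgroup.mem_subgroupOf] at this
      exact this
    rw [Subgroup.mem_subgroupOf]
    refine Subgroup.mem_inf.2 ⟨hx1, ?_⟩
    rw [hQmem]
    intro u hu
    have h4 : (x : Y) * u * (x : Y)⁻¹ * u⁻¹ ∈ E ⊓ U := by
      refine Subgroup.mem_inf.2 ⟨?_, ?_⟩
      · have h5 := hxE ⟨u, hUY' hu⟩
        rw [hE', Subgroup.mem_subgroupOf] at h5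
        have h6 : u * (x : Y) * u⁻¹ ∈ E := h5
        have e : (x : Y) * u * (x : Y)⁻¹ * u⁻¹ = (x : Y) * (u * (x : Y) * u⁻¹)⁻¹ := by group
        rw [e]
        exact E.mul_mem hx1 (E.inv_mem h6)
      · exact U.mul_mem (hUn.conj_mem u hu _) (U.inv_mem hu)
    rw [hEU, Subgroup.mem_bot] at h4
    have h5 : (x : Y) * u * (x : Y)⁻¹ = u := mul_inv_eq_one.mp h4
    calc u * (x : Y) = ((x : Y) * u * (x : Y)⁻¹) * (x : Y) := by rw [h5]
      _ = (x : Y) * u := by group
  have hrange : f.range = ⊤ := by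
    apply Subgroup.eq_top_of_le_card
    rw [Nat.card_perm, hcardq, ← Subgroup.index_ker, hker]
    have h4 : ((E ⊓ Q).subgroupOf Y').index ∣ E'.normalCore.index := Subgroup.index_dvd_of_le hcore
    have h5 : ((E ⊓ Q).subgroupOf Y').index = 24 := hRY'
    rw [h5] at h4
    have hpos : 0 < E'.normalCore.index := Nat.pos_of_ne_zero Subgroup.index_ne_zero_of_finite
    have : (4 : ℕ).factorial = 24 := by decide
    rw [this]
    exact Nat.le_of_dvd hpos h4
  have hfsurj : Function.Surjective f := MonoidHom.range_eq_top.mp hrange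
  let eqv : (↥Y' ⧸ E') ≃ Fin 4 := Finite.equivFinOfCardEq hcardq
  refine involves_of_inj_surj' Y'.subtype Y'.subtype_injective
    ((eqv.permCongrHom).toMonoidHom.comp f) ?_
  exact (eqv.permCongrHom).surjective.comp hfsurj

end Cfsg.Agent.helper15.S4F
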