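import Mathlib
import Cfsg.Agent.Lib_helper15_S4c

/-! A four-group `U` normalized by an element of odd order and a `2`-element, neither
centralizing it, gives a section isomorphic to `S₄` (helper15). -/

set_option autoImplicit false
set_option linter.style.haveILetI false

namespace Cfsg.Agent.helper15.S4F

theorem card_mulAut_four_le {U : Type*} [Group U] [Finite U] (hU4 : Nat.card U = 4) :
    Nat.card (MulAut U) ≤ 6 := by
  classical
  let T := {u : U // u ≠ 1}
  have hT : Nat.card T = 3 := by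
    haveI := Fintype.ofFinite U
    rw [Nat.card_eq_fintype_card, Fintype.card_subtype_compl, Fintype.card_subtype_eq,
      ← Nat.card_eq_fintype_card, hU4]
  let r : MulAut U → Equiv.Perm T := fun φ => φ.toEquiv.subtypeEquiv (fun a => by
    show a ≠ 1 ↔ φ a ≠ 1
    rw [Ne, Ne, MulEquiv.map_eq_one_iff])
  have hr : Function.Injective r := by
    intro φ ψ h
    ext x
    by_cases hx : x = 1
    · rw [hx, map_one, map_one]
    · have := congrArg (fun e : Equiv.Perm T => ((e ⟨x, hx⟩ : T) : U)) h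
      exact this
  have := Nat.card_le_card_of_injective r hr
  rw [Nat.card_perm, hT] at this
  exact this

variable {Y : Type*} [Group Y] [Finite Y]

theorem index_centralizer_four (U : Subgroup Y) [hUn : U.Normal] (hU4 : Nat.card U = 4)
    {k : Y} (hkC : k ∉ Subgroup.centralizer (U : Set Y)) {n : ℕ} (hn : Odd n) (hkn : k ^ n = 1)
    {b : Y} (hbC : b ∉ Subgroup.centralizer (U : Set Y)) {j : ℕ} (hbj : b ^ (2 ^ j) = 1) :
    (Subgroup.centralizer (U : Set Y)).index = 6 := by
  obtain ⟨φ, hφ⟩ : ∃ φ : Y →* MulAut U, φ = MulAut.conjNormal := ⟨_, rfl⟩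
  have hker : φ.ker = Subgroup.centralizer (U : Set Y) := by
    ext x
    rw [MonoidHom.mem_ker, Subgroup.mem_centralizer_iff]
    constructor
    · intro h u hu
      have h1 := congrArg (fun ψ : MulAut U => ((ψ ⟨u, hu⟩ : U) : Y)) h
      simp only [hφ, MulAut.conjNormal_apply, MulAut.one_apply] at h1
      calc u * x = (x * u * x⁻¹) * x := by rw [h1]
        _ = x * u := by group
    · intro h
      ext ⟨u, hu⟩
      rw [hφ, MulAut.conjNormal_apply, MulAut.one_apply]
      show x * u * x⁻¹ = u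
      rw [← h u hu]; group
  have hle : (Subgroup.centralizer (U : Set Y)).index ≤ 6 := by
    rw [← hker, Subgroup.index_ker]
    exact (Subgroup.card_le_card_group _).trans (card_mulAut_four_le hU4)
  obtain ⟨Q, hQ⟩ : ∃ Q : Subgroup Y, Q = Subgroup.centralizer (U : Set Y) := ⟨_, rfl⟩
  haveI hQn : Q.Normal := by rw [hQ]; infer_instance
  rw [← hQ] at hle hkC hbC ⊢
  rw [Subgroup.index_eq_card] at hle ⊢
  have hb1 : (QuotientGroup.mk' Q b) ≠ 1 := by
    intro h
    apply hbC
    rwa [← QuotientGroup.ker_mk' Q, MonoidHom.mem_ker]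
  have hk1 : (QuotientGroup.mk' Q k) ≠ 1 := by
    intro h
    apply hkC
    rwa [← QuotientGroup.ker_mk' Q, MonoidHom.mem_ker]
  have h2 : 2 ∣ Nat.card (Y ⧸ Q) := by
    have h3 : orderOf (QuotientGroup.mk' Q b) ∣ 2 ^ j := by
      apply orderOf_dvd_of_pow_eq_one
      rw [← map_pow, hbj, map_one]
    obtain ⟨i, -, hi⟩ := (Nat.dvd_prime_pow Nat.prime_two).1 h3
    have hi0 : i ≠ 0 := by
      intro h0
      rw [h0, pow_zero, orderOf_eq_one_iff] at hi
      exact hb1 hi
    have : 2 ∣ orderOf (QuotientGroup.mk' Q b) := by rw [hi]; exact dvd_pow_self 2 hi0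
    exact dvd_trans this (orderOf_dvd_natCard _)
  have h3 : orderOf (QuotientGroup.mk' Q k) ∣ n := by
    apply orderOf_dvd_of_pow_eq_one
    rw [← map_pow, hkn, map_one]
  have h4 : orderOf (QuotientGroup.mk' Q k) ≠ 1 := by
    rw [Ne, orderOf_eq_one_iff]; exact hk1
  obtain ⟨r, hr, hrd⟩ := Nat.exists_prime_and_dvd h4
  have hrodd : r ≠ 2 := by
    intro h
    rw [h] at hrd
    have : 2 ∣ n := dvd_trans hrd h3
    obtain ⟨c, hc⟩ := hn
    omega
  have hr3 : 3 ≤ r := by
    have := hr.two_le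
    omega
  have hrN : r ∣ Nat.card (Y ⧸ Q) := dvd_trans hrd (orderOf_dvd_natCard _)
  have hcop : Nat.Coprime 2 r := by
    rw [Nat.coprime_primes Nat.prime_two hr]; exact fun h => hrodd h.symm
  have h6 : 2 * r ∣ Nat.card (Y ⧸ Q) := hcop.mul_dvd_of_dvd_of_dvd h2 hrN
  have hpos : 0 < Nat.card (Y ⧸ Q) := Nat.card_pos
  have := Nat.le_of_dvd hpos h6
  omega

theorem involves_S4_of_normal_four (U : Subgroup Y) [hUn : U.Normal] (hU4 : Nat.card U = 4)
    (hU2 : ∀ x ∈ U, x * x = 1)
    {k : Y} (hkC : k ∉ Subgroup.centralizer (U : Set Y)) {n : ℕ} (hn : Odd n) (hkn : k ^ n = 1)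
    {b : Y} (hbC : b ∉ Subgroup.centralizer (U : Set Y)) {j : ℕ} (hbj : b ^ (2 ^ j) = 1) :
    Cfsg.Involves (Equiv.Perm (Fin 4)) Y :=
  involves_S4_core U hU4 hU2 (index_centralizer_four U hU4 hkC hn hkn hbC hbj)

/-- general form: `U` need not be normal. -/
theorem involves_S4_of_four (U : Subgroup Y) (hU4 : Nat.card U = 4)
    (hU2 : ∀ x ∈ U, x * x = 1)
    {k : Y} (hkN : k ∈ Subgroup.normalizer (U : Set Y))
    (hkC : k ∉ Subgroup.centralizer (U : Set Y)) {n : ℕ} (hn : Odd n) (hkn : k ^ n = 1)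
    {b : Y} (hbN : b ∈ Subgroup.normalizer (U : Set Y))
    (hbC : b ∉ Subgroup.centralizer (U : Set Y)) {j : ℕ} (hbj : b ^ (2 ^ j) = 1) :
    Cfsg.Involves (Equiv.Perm (Fin 4)) Y := by
  apply involves_of_subgroup (Subgroup.normalizer (U : Set Y))
  haveI : (U.subgroupOf (Subgroup.normalizer (U : Set Y))).Normal := Subgroup.normal_in_normalizer
  have hcard : Nat.card (U.subgroupOf (Subgroup.normalizer (U : Set Y))) = 4 := by
    rw [← hU4]
    exact Nat.card_congr (Subgroup.subgroupOfEquivOfLe Subgroup.le_normalizer).toEquiv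
  have hnc : ∀ x : Y, ∀ hx : x ∈ Subgroup.normalizer (U : Set Y),
      x ∉ Subgroup.centralizer (U : Set Y) →
      (⟨x, hx⟩ : ↥(Subgroup.normalizer (U : Set Y))) ∉ Subgroup.centralizer
        ((U.subgroupOf (Subgroup.normalizer (U : Set Y)) :
          Subgroup ↥(Subgroup.normalizer (U : Set Y))) :
          Set ↥(Subgroup.normalizer (U : Set Y))) := by
    intro x hx hxC h
    apply hxC
    rw [Subgroup.mem_centralizer_iff] at h ⊢
    intro u hu
    have := h ⟨u, Subgroup.le_normalizer hu⟩ (by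
      show (⟨u, _⟩ : ↥(Subgroup.normalizer (U : Set Y))) ∈ U.subgroupOf _
      rw [Subgroup.mem_subgroupOf]; exact hu)
    exact congrArg Subtype.val this
  refine involves_S4_of_normal_four (U.subgroupOf (Subgroup.normalizer (U : Set Y))) hcard ?_
    (hnc k hkN hkC) hn (k := ⟨k, hkN⟩) ?_ (hnc b hbN hbC) (b := ⟨b, hbN⟩) (j := j) ?_
  · intro x hx
    apply Subtype.ext
    rw [Subgroup.mem_subgroupOf] at hx
    exact hU2 _ hx
  · apply Subtype.ext
    rw [Subgroup.coe_pow, Subgroup.coe_one]; exact hkn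
  · apply Subtype.ext
    rw [Subgroup.coe_pow, Subgroup.coe_one]; exact hbj

end Cfsg.Agent.helper15.S4F
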