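import Mathlib
import Cfsg.Agent.Lib_helper7_Coprime

/-! Commuting involutions acting on an abelian group of odd order: a common eigenvector
(helper15), and fixed points of `p`-groups. -/

set_option autoImplicit false

namespace Cfsg.Agent.helper15.S4F

variable {G : Type*} [Group G]

/-- a nontrivial fixed point of a `q`-group acting on a nontrivial `q`-group -/
theorem exists_fixed_ne_one [Finite G] {q : ℕ} [hq : Fact q.Prime] {Q N : Subgroup G}
    (hQ : IsPGroup q ↥Q) (hN : IsPGroup q ↥N) (hN1 : N ≠ ⊥)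
    (hinv : ∀ g ∈ Q, ∀ x ∈ N, g * x * g⁻¹ ∈ N) :
    ∃ x ∈ N, x ≠ 1 ∧ ∀ g ∈ Q, g * x * g⁻¹ = x := by
  obtain ⟨i, hi⟩ := IsPGroup.iff_card.mp hN
  have hi0 : i ≠ 0 := by
    intro h0
    rw [h0, pow_zero, Subgroup.card_eq_one] at hi
    exact hN1 hi
  have hcard : Nat.card ↥((N : Set G) \ {1}) = q ^ i - 1 := by
    rw [Nat.card_coe_set_eq, Set.ncard_diff_singleton_of_mem (N.one_mem),
      ← Nat.card_coe_set_eq]
    show Nat.card ↥N - 1 = _
    rw [hi]
  obtain ⟨x, hx, hfix⟩ := Cfsg.Agent.helper7.exists_fixed_of_invariant hQ ((N : Set G) \ {1})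
    (by
      intro g hg x hx
      refine ⟨hinv g hg x hx.1, ?_⟩
      intro h
      apply hx.2
      have h1 : g * x * g⁻¹ = 1 := h
      have : x = g⁻¹ * (g * x * g⁻¹) * g := by group
      rw [this, h1]
      show g⁻¹ * 1 * g = 1
      group)
    (by
      rw [hcard]
      intro h
      have h1 : q ∣ q ^ i := dvd_pow_self q hi0
      have hpos : 1 ≤ q ^ i := Nat.one_le_pow _ _ hq.out.pos
      have h2 : q ∣ q ^ i - (q ^ i - 1) := Nat.dvd_sub h1 h
      have h3 : q ^ i - (q ^ i - 1) = 1 := by omega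
      rw [h3] at h2
      exact hq.out.one_lt.ne' (Nat.dvd_one.mp h2))
  exact ⟨x, hx.1, hx.2, hfix⟩

/-- Commuting involutions acting on an abelian normal subgroup of odd order: if one of them acts
nontrivially, there is a nonidentity element inverted by it and centralized or inverted by
each of them. -/
theorem exists_eigen [Finite G] (Kb : Subgroup G) [hKn : Kb.Normal]
    (hKbc : ∀ y ∈ Kb, ∀ z ∈ Kb, y * z = z * y) (hodd : (Nat.card Kb).Coprime 2)
    (Bb : Subgroup G) (hBbc : ∀ a ∈ Bb, ∀ b ∈ Bb, a * b = b * a) (hBb2 : ∀ a ∈ Bb, a * a = 1)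
    (β : G) (hβ : β ∈ Bb) (y₀ : G) (hy₀ : y₀ ∈ Kb) (hne : β * y₀ ≠ y₀ * β) :
    ∃ y ∈ Kb, y ≠ 1 ∧ β * y * β⁻¹ = y⁻¹ ∧
      ∀ a ∈ Bb, a * y * a⁻¹ = y ∨ a * y * a⁻¹ = y⁻¹ := by
  have hinv : ∀ a ∈ Bb, a⁻¹ = a := fun a ha => inv_eq_of_mul_eq_one_left (hBb2 a ha)
  -- elements of odd order
  have hsq : ∀ y ∈ Kb, y * y = 1 → y = 1 := by
    intro y hy h
    have h1 : orderOf y ∣ 2 := orderOf_dvd_of_pow_eq_one (by rw [pow_two]; exact h)
    have h2 : orderOf y ∣ Nat.card Kb := Subgroup.orderOf_dvd_natCard Kb hy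
    have h3 : orderOf y ∣ Nat.gcd (Nat.card Kb) 2 := Nat.dvd_gcd h2 h1
    rw [hodd] at h3
    exact orderOf_eq_one_iff.mp (Nat.dvd_one.mp h3)
  -- the admissible subgroups
  let T := {M : Subgroup G // M ≤ Kb ∧ M ≠ ⊥ ∧ (∀ a ∈ Bb, ∀ y ∈ M, a * y * a⁻¹ ∈ M) ∧
    ∀ y ∈ M, β * y * β⁻¹ = y⁻¹}
  -- the subgroup of inverted elements
  have hsub : ∀ (M : Subgroup G) (a : G) (ε : Bool), M ≤ Kb → a ∈ Bb →
      (∀ c ∈ Bb, ∀ y ∈ M, c * y * c⁻¹ ∈ M) →
      ∃ P : Subgroup G, (∀ y, y ∈ P ↔ y ∈ M ∧ a * y * a⁻¹ = (if ε then y else y⁻¹)) := by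
    intro M a ε hMK ha hMinv
    refine ⟨{ carrier := {y | y ∈ M ∧ a * y * a⁻¹ = (if ε then y else y⁻¹)}
              one_mem' := ⟨M.one_mem, by cases ε <;> simp⟩
              mul_mem' := ?_
              inv_mem' := ?_ }, fun y => Iff.rfl⟩
    · rintro y z ⟨hy, hya⟩ ⟨hz, hza⟩
      refine ⟨M.mul_mem hy hz, ?_⟩
      have e : a * (y * z) * a⁻¹ = (a * y * a⁻¹) * (a * z * a⁻¹) := by group
      rw [e, hya, hza]
      cases ε
      · simp only [Bool.false_eq_true, if_false]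
        rw [mul_inv_rev]
        exact hKbc _ (Kb.inv_mem (hMK hy)) _ (Kb.inv_mem (hMK hz))
      · simp
    · rintro y ⟨hy, hya⟩
      refine ⟨M.inv_mem hy, ?_⟩
      have e : a * y⁻¹ * a⁻¹ = (a * y * a⁻¹)⁻¹ := by group
      rw [e, hya]
      cases ε <;> simp
  -- nonempty
  have hβ2 : β * β = 1 := hBb2 β hβ
  have hβinv : β⁻¹ = β := hinv β hβ
  have hT : Nonempty T := by
    obtain ⟨P, hP⟩ := hsub Kb β false le_rfl hβ (fun c _ y hy => hKn.conj_mem y hy c)
    simp only [Bool.false_eq_true, if_false] at hP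
    refine ⟨⟨P, fun y hy => ((hP y).mp hy).1, ?_, ?_, fun y hy => ((hP y).mp hy).2⟩⟩
    · intro hbot
      have hy₁ : y₀ * (β * y₀ * β⁻¹)⁻¹ ∈ P := by
        rw [hP]
        refine ⟨Kb.mul_mem hy₀ (Kb.inv_mem (hKn.conj_mem y₀ hy₀ β)), ?_⟩
        have e : β * (y₀ * (β * y₀ * β⁻¹)⁻¹) * β⁻¹ = (β * y₀ * β⁻¹) * ((β * β) * y₀ * (β * β)⁻¹)⁻¹ := by
          group
        rw [e, hβ2]
        group
      rw [hbot, Subgroup.mem_bot] at hy₁
      apply hne
      have h1 : y₀ = β * y₀ * β⁻¹ := mul_inv_eq_one.mp hy₁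
      calc β * y₀ = (β * y₀ * β⁻¹) * β := by group
        _ = y₀ * β := by rw [← h1]
    · intro a ha y hy
      rw [hP] at hy ⊢
      refine ⟨hKn.conj_mem y hy.1 a, ?_⟩
      have hc : β * a = a * β := hBbc β hβ a ha
      have e : β * (a * y * a⁻¹) * β⁻¹ = (β * a) * y * (β * a)⁻¹ := by group
      rw [e, hc]
      have e2 : a * β * y * (a * β)⁻¹ = a * (β * y * β⁻¹) * a⁻¹ := by group
      rw [e2, hy.2]
      group
  haveI : Finite T := Subtype.finite
  obtain ⟨⟨M, hMK, hM1, hMinv, hMβ⟩, hmin⟩ := Finite.exists_min (fun M : T => Nat.card ↥M.1)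
  -- dichotomy
  have hdich : ∀ a ∈ Bb, (∀ y ∈ M, a * y * a⁻¹ = y) ∨ (∀ y ∈ M, a * y * a⁻¹ = y⁻¹) := by
    intro a ha
    obtain ⟨P₁, hP₁⟩ := hsub M a true hMK ha hMinv
    obtain ⟨P₂, hP₂⟩ := hsub M a false hMK ha hMinv
    simp only [if_true] at hP₁
    simp only [Bool.false_eq_true, if_false] at hP₂
    have hadm : ∀ P : Subgroup G, P ≤ M → P ≠ ⊥ →
        (∀ c ∈ Bb, ∀ y ∈ P, c * y * c⁻¹ ∈ P) → P = M := by
      intro P hPM hP1 hPinv
      have := hmin ⟨P, hPM.trans hMK, hP1, hPinv, fun y hy => hMβ y (hPM hy)⟩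
      exact Subgroup.eq_of_le_of_card_ge hPM this
    have hinvP : ∀ (P : Subgroup G) (ε : Bool),
        (∀ y, y ∈ P ↔ y ∈ M ∧ a * y * a⁻¹ = (if ε then y else y⁻¹)) →
        ∀ c ∈ Bb, ∀ y ∈ P, c * y * c⁻¹ ∈ P := by
      intro P ε hP c hc y hy
      rw [hP] at hy ⊢
      refine ⟨hMinv c hc y hy.1, ?_⟩
      have hcc : a * c = c * a := hBbc a ha c hc
      have e : a * (c * y * c⁻¹) * a⁻¹ = (a * c) * y * (a * c)⁻¹ := by group
      rw [e, hcc]
      have e2 : c * a * y * (c * a)⁻¹ = c * (a * y * a⁻¹) * c⁻¹ := by group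
      rw [e2, hy.2]
      cases ε
      · simp only [Bool.false_eq_true, if_false]; group
      · simp
    by_cases h1 : P₁ = ⊥
    · by_cases h2 : P₂ = ⊥
      · exfalso
        apply hM1
        rw [eq_bot_iff]
        intro y hy
        rw [Subgroup.mem_bot]
        have hay : a * y * a⁻¹ ∈ M := hMinv a ha y hy
        have hcomm : y * (a * y * a⁻¹) = (a * y * a⁻¹) * y := hKbc _ (hMK hy) _ (hMK hay)
        have hp : y * (a * y * a⁻¹) ∈ P₁ := by
          rw [hP₁]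
          refine ⟨M.mul_mem hy hay, ?_⟩
          have e : a * (y * (a * y * a⁻¹)) * a⁻¹ = (a * y * a⁻¹) * ((a * a) * y * (a * a)⁻¹) := by
            group
          rw [e, hBb2 a ha, hcomm]
          group
        have hm : y * (a * y * a⁻¹)⁻¹ ∈ P₂ := by
          rw [hP₂]
          refine ⟨M.mul_mem hy (M.inv_mem hay), ?_⟩
          have e : a * (y * (a * y * a⁻¹)⁻¹) * a⁻¹ =
              (a * y * a⁻¹) * ((a * a) * y * (a * a)⁻¹)⁻¹ := by group
          rw [e, hBb2 a ha]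
          group
        rw [h1, Subgroup.mem_bot] at hp
        rw [h2, Subgroup.mem_bot] at hm
        have e1 : y = a * y * a⁻¹ := mul_inv_eq_one.mp hm
        rw [← e1] at hp
        exact hsq y (hMK hy) hp
      · right
        have := hadm P₂ (fun y hy => ((hP₂ y).mp hy).1) h2 (hinvP P₂ false (by simpa using hP₂))
        intro y hy
        rw [← this] at hy
        exact ((hP₂ y).mp hy).2
    · left
      have := hadm P₁ (fun y hy => ((hP₁ y).mp hy).1) h1 (hinvP P₁ true (by simpa using hP₁))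
      intro y hy
      rw [← this] at hy
      exact ((hP₁ y).mp hy).2
  obtain ⟨y, hy, hy1⟩ : ∃ y ∈ M, y ≠ 1 := by
    by_contra hcon
    push Not at hcon
    apply hM1
    rw [eq_bot_iff]
    intro y hy
    rw [Subgroup.mem_bot]
    exact hcon y hy
  refine ⟨y, hMK hy, hy1, hMβ y hy, ?_⟩
  intro a ha
  rcases hdich a ha with h | h
  · left; exact h y hy
  · right; exact h y hy

end Cfsg.Agent.helper15.S4F
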