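import Mathlib
import Cfsg.Prelude.Def_LocalEven
import Cfsg.Agent.Lib_helper15_S4d
import Cfsg.Agent.Lib_helper15_S4e

/-! helper14: a four-group with an `S₃`-action inside an elementary abelian `2`-group -/

set_option autoImplicit false

namespace Cfsg.Agent.helper14

open Cfsg.Agent.helper15.S4F

theorem rearr3 {G : Type*} [Group G] {a b a' b' a'' b'' : G} (h1 : b * a' = a' * b)
    (h2 : b * a'' = a'' * b) (h3 : b' * a'' = a'' * b') :
    (a * b) * (a' * b') * (a'' * b'') = (a * a' * a'') * (b * b' * b'') := by
  calc (a * b) * (a' * b') * (a'' * b'') = a * (b * a') * (b' * a'') * b'' := by group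
    _ = a * (a' * b) * (a'' * b') * b'' := by rw [h1, h3]
    _ = a * a' * (b * a'') * b' * b'' := by group
    _ = a * a' * (a'' * b) * b' * b'' := by rw [h2]
    _ = (a * a' * a'') * (b * b' * b'') := by group

/-- the four-group `{1, x, y, xy}` -/
def fourSub {G : Type*} [Group G] (x y : G) (hx : x * x = 1) (hy : y * y = 1)
    (hxy : x * y = y * x) : Subgroup G where
  carrier := {1, x, y, x * y}
  one_mem' := by simp
  mul_mem' := by
    intro a b ha hb
    have hyx : y * x = x * y := hxy.symm
    simp only [Set.mem_insert_iff, Set.mem_singleton_iff] at ha hb ⊢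
    rcases ha with ha | ha | ha | ha <;> rcases hb with hb | hb | hb | hb <;> rw [ha, hb]
    · left; simp
    · right; left; simp
    · right; right; left; simp
    · right; right; right; simp
    · right; left; simp
    · left; exact hx
    · right; right; right; rfl
    · right; right; left; rw [← mul_assoc, hx, one_mul]
    · right; right; left; simp
    · right; right; right; exact hyx
    · left; exact hy
    · right; left
      calc y * (x * y) = (y * x) * y := by group
        _ = (x * y) * y := by rw [hyx]
        _ = x * (y * y) := by group
        _ = x := by rw [hy, mul_one]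
    · right; right; right; simp
    · right; right; left
      calc x * y * x = x * (y * x) := by group
        _ = x * (x * y) := by rw [hyx]
        _ = (x * x) * y := by group
        _ = y := by rw [hx, one_mul]
    · right; left
      calc x * y * y = x * (y * y) := by group
        _ = x := by rw [hy, mul_one]
    · left
      calc x * y * (x * y) = x * (y * x) * y := by group
        _ = x * (x * y) * y := by rw [hyx]
        _ = (x * x) * (y * y) := by group
        _ = 1 := by rw [hx, hy, one_mul]
  inv_mem' := by
    intro a ha
    have hyx : y * x = x * y := hxy.symm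
    simp only [Set.mem_insert_iff, Set.mem_singleton_iff] at ha ⊢
    rcases ha with ha | ha | ha | ha <;> rw [ha]
    · left; simp
    · right; left; exact inv_eq_of_mul_eq_one_left hx
    · right; right; left; exact inv_eq_of_mul_eq_one_left hy
    · right; right; right
      apply inv_eq_of_mul_eq_one_left
      calc x * y * (x * y) = x * (y * x) * y := by group
        _ = x * (x * y) * y := by rw [hyx]
        _ = (x * x) * (y * y) := by group
        _ = 1 := by rw [hx, hy, one_mul]

theorem mem_fourSub {G : Type*} [Group G] (x y : G) (hx : x * x = 1) (hy : y * y = 1)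
    (hxy : x * y = y * x) (z : G) :
    z ∈ fourSub x y hx hy hxy ↔ z = 1 ∨ z = x ∨ z = y ∨ z = x * y := by
  show z ∈ ({1, x, y, x * y} : Set G) ↔ _
  simp only [Set.mem_insert_iff, Set.mem_singleton_iff]

theorem card_fourSub {G : Type*} [Group G] (x y : G) (hx : x * x = 1) (hy : y * y = 1)
    (hxy : x * y = y * x) (hx1 : x ≠ 1) (hy1 : y ≠ 1) (hne : x ≠ y) :
    Nat.card ↥(fourSub x y hx hy hxy) = 4 := by
  have h0 : Nat.card ↥(fourSub x y hx hy hxy) = Set.ncard ({1, x, y, x * y} : Set G) :=
    Nat.card_coe_set_eq _
  rw [h0]
  have hxy1 : x * y ≠ 1 := by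
    intro h
    apply hne
    have : y = x⁻¹ := by rw [eq_inv_iff_mul_eq_one, hxy.symm]; exact h
    rw [this, inv_eq_of_mul_eq_one_left hx]
  have h3 : y ∉ ({x * y} : Set G) := by
    simp only [Set.mem_singleton_iff]
    intro h
    apply hx1
    have : x * y = 1 * y := by rw [one_mul]; exact h.symm
    exact mul_right_cancel this
  have h2 : x ∉ ({y, x * y} : Set G) := by
    simp only [Set.mem_insert_iff, Set.mem_singleton_iff]
    rintro (h | h)
    · exact hne h
    · apply hy1
      have : x * y = x * 1 := by rw [mul_one]; exact h.symm
      exact mul_left_cancel this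
  have h1 : (1 : G) ∉ ({x, y, x * y} : Set G) := by
    simp only [Set.mem_insert_iff, Set.mem_singleton_iff]
    rintro (h | h | h)
    · exact hx1 h.symm
    · exact hy1 h.symm
    · exact hxy1 h.symm
  rw [Set.ncard_insert_of_notMem h1, Set.ncard_insert_of_notMem h2, Set.ncard_insert_of_notMem h3,
    Set.ncard_singleton]

end Cfsg.Agent.helper14
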