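import Mathlib
import Cfsg.Prelude.Def_LocalEven
import Cfsg.Agent.Lib_helper14_S4S3a

/-! helper14: `S₃` acting on an elementary abelian `2`-group gives an `S₄`-section -/

set_option autoImplicit false

namespace Cfsg.Agent.helper14

open Cfsg.Agent.helper15.S4F

theorem rev3 {G : Type*} [Group G] {x y z : G} (hxy : x * y = y * x) (hxz : x * z = z * x)
    (hyz : y * z = z * y) : x * y * z = z * y * x := by
  calc x * y * z = x * (y * z) := by group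
    _ = x * (z * y) := by rw [hyz]
    _ = (x * z) * y := by group
    _ = (z * x) * y := by rw [hxz]
    _ = z * (x * y) := by group
    _ = z * (y * x) := by rw [hxy]
    _ = z * y * x := by group

theorem involves_S4_of_s3_action {Y : Type*} [Group Y] [Finite Y] (V : Subgroup Y)
    (hV2 : ∀ v ∈ V, v * v = 1) (hVc : ∀ v ∈ V, ∀ w ∈ V, v * w = w * v)
    (k b : Y) (hkV : k ∈ Subgroup.normalizer (V : Set Y))
    (hbV : b ∈ Subgroup.normalizer (V : Set Y))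
    {n : ℕ} (hn : Odd n) (hkn : k ^ n = 1) {j : ℕ} (hbj : b ^ (2 ^ j) = 1)
    (hbk : b * k * b⁻¹ = k⁻¹)
    (hk3 : ∀ v ∈ V, k ^ 3 * v * (k ^ 3)⁻¹ = v)
    (v₀ : Y) (hv₀ : v₀ ∈ V) (hkv₀ : k * v₀ * k⁻¹ ≠ v₀) :
    Cfsg.Involves (Equiv.Perm (Fin 4)) Y := by
  haveI : Fact (Nat.Prime 2) := ⟨Nat.prime_two⟩
  have hVinv : ∀ v ∈ V, v⁻¹ = v := fun v hv => inv_eq_of_mul_eq_one_left (hV2 v hv)
  have hcV : ∀ g ∈ Subgroup.normalizer (V : Set Y), ∀ v ∈ V, g * v * g⁻¹ ∈ V :=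
    fun g hg v hv => (Subgroup.mem_normalizer_iff.mp hg v).mp hv
  have hkinvV : k⁻¹ ∈ Subgroup.normalizer (V : Set Y) := Subgroup.inv_mem _ hkV
  have hc3 : ∀ v ∈ V, k * (k * (k * v * k⁻¹) * k⁻¹) * k⁻¹ = v := by
    intro v hv
    have := hk3 v hv
    have h3 : k ^ 3 = k * k * k := by rw [pow_succ, pow_two]
    rw [h3] at this
    calc k * (k * (k * v * k⁻¹) * k⁻¹) * k⁻¹ = k * k * k * v * (k * k * k)⁻¹ := by group
      _ = v := this
  -- the kernel of the norm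
  let W : Subgroup Y :=
    { carrier := {w | w ∈ V ∧ w * (k * w * k⁻¹) * (k * (k * w * k⁻¹) * k⁻¹) = 1}
      one_mem' := ⟨V.one_mem, by group⟩
      mul_mem' := by
        rintro a c ⟨haV, ha⟩ ⟨hcV', hc⟩
        refine ⟨V.mul_mem haV hcV', ?_⟩
        have e1 : k * (a * c) * k⁻¹ = (k * a * k⁻¹) * (k * c * k⁻¹) := by group
        have e2 : k * ((k * a * k⁻¹) * (k * c * k⁻¹)) * k⁻¹ =
            (k * (k * a * k⁻¹) * k⁻¹) * (k * (k * c * k⁻¹) * k⁻¹) := by group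
        rw [e1, e2]
        have ha1 := hcV k hkV a haV
        have ha2 := hcV k hkV _ ha1
        have hc1 := hcV k hkV c hcV'
        rw [rearr3 (hVc c hcV' _ ha1) (hVc c hcV' _ ha2) (hVc _ hc1 _ ha2), ha, hc, one_mul]
      inv_mem' := by
        rintro a ⟨haV, ha⟩
        rw [hVinv a haV]
        exact ⟨haV, ha⟩ }
  have hWmem : ∀ w, w ∈ W ↔ w ∈ V ∧ w * (k * w * k⁻¹) * (k * (k * w * k⁻¹) * k⁻¹) = 1 :=
    fun w => Iff.rfl
  have hWV : W ≤ V := fun w hw => ((hWmem w).mp hw).1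
  -- `k` acts on `W`
  have hWk : ∀ w ∈ W, k * w * k⁻¹ ∈ W := by
    intro w hw
    rw [hWmem] at hw ⊢
    refine ⟨hcV k hkV w hw.1, ?_⟩
    calc k * w * k⁻¹ * (k * (k * w * k⁻¹) * k⁻¹) * (k * (k * (k * w * k⁻¹) * k⁻¹) * k⁻¹)
        = k * (w * (k * w * k⁻¹) * (k * (k * w * k⁻¹) * k⁻¹)) * k⁻¹ := by group
      _ = 1 := by rw [hw.2]; group
  -- `k` has no nontrivial fixed points on `W`
  have hfpf : ∀ w ∈ W, k * w * k⁻¹ = w → w = 1 := by
    intro w hw hfix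
    rw [hWmem] at hw
    have h1 := hw.2
    rw [hfix, hfix, hV2 w hw.1, one_mul] at h1
    exact h1
  -- invariance under inverting elements
  have hWinv : ∀ g ∈ Subgroup.normalizer (V : Set Y), g * k * g⁻¹ = k⁻¹ →
      ∀ w ∈ W, g * w * g⁻¹ ∈ W := by
    intro g hg hgk w hw
    rw [hWmem] at hw ⊢
    refine ⟨hcV g hg w hw.1, ?_⟩
    obtain ⟨k', hk'⟩ : ∃ k', k' = g⁻¹ * k * g := ⟨_, rfl⟩
    have hk'inv : k' = k⁻¹ := by
      rw [hk']
      calc g⁻¹ * k * g = g⁻¹ * (k⁻¹)⁻¹ * g := by rw [inv_inv]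
        _ = g⁻¹ * (g * k * g⁻¹)⁻¹ * g := by rw [hgk]
        _ = k⁻¹ := by group
    have hkk' : k = g * k' * g⁻¹ := by rw [hk']; group
    have e : g * w * g⁻¹ * (k * (g * w * g⁻¹) * k⁻¹) * (k * (k * (g * w * g⁻¹) * k⁻¹) * k⁻¹) =
        g * (w * (k' * w * k'⁻¹) * (k' * (k' * w * k'⁻¹) * k'⁻¹)) * g⁻¹ := by
      rw [hkk']; group
    rw [e, hk'inv, inv_inv]
    have hw1 := hcV k⁻¹ hkinvV w hw.1
    have hw2 := hcV k⁻¹ hkinvV _ hw1
    rw [inv_inv] at hw1 hw2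
    have e2 : w * (k⁻¹ * w * k) * (k⁻¹ * (k⁻¹ * w * k) * k) =
        (k⁻¹ * (k⁻¹ * w * k) * k) * (k⁻¹ * w * k) * w :=
      rev3 (hVc w hw.1 _ hw1) (hVc w hw.1 _ hw2) (hVc _ hw1 _ hw2)
    have e3 : (k⁻¹ * (k⁻¹ * w * k) * k) * (k⁻¹ * w * k) * w =
        k⁻¹ * k⁻¹ * (w * (k * w * k⁻¹) * (k * (k * w * k⁻¹) * k⁻¹)) * k * k := by group
    rw [e2, e3, hw.2]
    group
  -- a nontrivial element of `W`
  have hw₀ : v₀ * (k * v₀ * k⁻¹) ∈ W := by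
    rw [hWmem]
    refine ⟨V.mul_mem hv₀ (hcV k hkV v₀ hv₀), ?_⟩
    calc v₀ * (k * v₀ * k⁻¹) * (k * (v₀ * (k * v₀ * k⁻¹)) * k⁻¹) *
          (k * (k * (v₀ * (k * v₀ * k⁻¹)) * k⁻¹) * k⁻¹)
        = v₀ * k * (v₀ * v₀) * k * (v₀ * v₀) * k * v₀ * k⁻¹ * k⁻¹ * k⁻¹ := by group
      _ = v₀ * (k * (k * (k * v₀ * k⁻¹) * k⁻¹) * k⁻¹) := by rw [hV2 v₀ hv₀]; group
      _ = 1 := by rw [hc3 v₀ hv₀, hV2 v₀ hv₀]
  have hWne : W ≠ ⊥ := by
    intro hbot
    have h1 := hw₀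
    rw [hbot, Subgroup.mem_bot] at h1
    apply hkv₀
    have : k * v₀ * k⁻¹ = v₀⁻¹ := by
      rw [eq_comm, inv_eq_iff_mul_eq_one]; exact h1
    rw [this, hVinv v₀ hv₀]
  have hW2 : IsPGroup 2 ↥W := by
    intro w
    refine ⟨1, Subtype.ext ?_⟩
    rw [pow_one, Subgroup.coe_pow, Subgroup.coe_one, pow_two]
    exact hV2 w (hWV w.2)
  have hQ : IsPGroup 2 ↥(Subgroup.zpowers b) := by
    rintro ⟨g, hg⟩
    obtain ⟨m, rfl⟩ := Subgroup.mem_zpowers_iff.mp hg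
    refine ⟨j, Subtype.ext ?_⟩
    rw [Subgroup.coe_pow, Subgroup.coe_one]
    show (b ^ m) ^ 2 ^ j = 1
    rw [← zpow_natCast, ← zpow_mul, mul_comm, zpow_mul, zpow_natCast, hbj, one_zpow]
  have hbNW : b ∈ Subgroup.normalizer (W : Set Y) :=
    Subgroup.mem_normalizer_fintype (hWinv b hbV hbk)
  have hinv : ∀ g ∈ Subgroup.zpowers b, ∀ x ∈ W, g * x * g⁻¹ ∈ W := by
    intro g hg x hx
    have hgN : g ∈ Subgroup.normalizer (W : Set Y) :=
      (Subgroup.zpowers_le.mpr hbNW) hg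
    exact (Subgroup.mem_normalizer_iff.mp hgN x).mp hx
  obtain ⟨v, hvW, hv1, hvfix⟩ := exists_fixed_ne_one hQ hW2 hWne hinv
  have hbv : b * v * b⁻¹ = v := hvfix b (Subgroup.mem_zpowers b)
  have hvV : v ∈ V := hWV hvW
  obtain ⟨u₂, hu₂⟩ : ∃ u₂, u₂ = k * v * k⁻¹ := ⟨_, rfl⟩
  have hu₂W : u₂ ∈ W := by rw [hu₂]; exact hWk v hvW
  have hu₂V : u₂ ∈ V := hWV hu₂W
  have hvu₂ : v ≠ u₂ := by
    intro h
    apply hv1
    apply hfpf v hvW
    rw [← hu₂]; exact h.symm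
  have hu₂1 : u₂ ≠ 1 := by
    intro h
    apply hv1
    rw [hu₂] at h
    have : v = k⁻¹ * (k * v * k⁻¹) * k := by group
    rw [this, h]; group
  have hcomm : v * u₂ = u₂ * v := hVc v hvV u₂ hu₂V
  -- `k u₂ k⁻¹ = v u₂`
  have hku₂ : k * u₂ * k⁻¹ = v * u₂ := by
    have h1 := ((hWmem v).mp hvW).2
    rw [← hu₂] at h1
    have : k * u₂ * k⁻¹ = (v * u₂)⁻¹ := by
      rw [eq_comm, inv_eq_iff_mul_eq_one]; exact h1
    rw [this, hVinv _ (V.mul_mem hvV hu₂V)]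
  obtain ⟨U, hU⟩ : ∃ U, U = fourSub v u₂ (hV2 v hvV) (hV2 u₂ hu₂V) hcomm := ⟨_, rfl⟩
  have hUmem : ∀ z, z ∈ U ↔ z = 1 ∨ z = v ∨ z = u₂ ∨ z = v * u₂ := by
    intro z; rw [hU]; exact mem_fourSub _ _ _ _ _ z
  have hU4 : Nat.card U = 4 := by
    rw [hU]; exact card_fourSub _ _ _ _ _ hv1 hu₂1 hvu₂
  have hUV : U ≤ V := by
    intro z hz
    rcases (hUmem z).mp hz with h | h | h | h <;> rw [h]
    · exact V.one_mem
    · exact hvV
    · exact hu₂V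
    · exact V.mul_mem hvV hu₂V
  have hU2 : ∀ x ∈ U, x * x = 1 := fun x hx => hV2 x (hUV hx)
  have hkvu : k * (v * u₂) * k⁻¹ = v := by
    calc k * (v * u₂) * k⁻¹ = (k * v * k⁻¹) * (k * u₂ * k⁻¹) := by group
      _ = u₂ * (v * u₂) := by rw [← hu₂, hku₂]
      _ = u₂ * (u₂ * v) := by rw [hcomm]
      _ = (u₂ * u₂) * v := by group
      _ = v := by rw [hV2 u₂ hu₂V, one_mul]
  have hkU : ∀ z ∈ U, k * z * k⁻¹ ∈ U := by
    intro z hz
    rcases (hUmem z).mp hz with h | h | h | h <;> rw [h, hUmem]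
    · left; group
    · right; right; left; exact hu₂.symm
    · right; right; right; exact hku₂
    · right; left; exact hkvu
  -- `b u₂ b⁻¹ = v u₂`
  have hbu₂ : b * u₂ * b⁻¹ = v * u₂ := by
    have h1 : b * u₂ * b⁻¹ = (b * k * b⁻¹) * (b * v * b⁻¹) * (b * k * b⁻¹)⁻¹ := by
      rw [hu₂]; group
    rw [h1, hbk, hbv, inv_inv]
    -- k⁻¹ v k = k (k v k⁻¹) k⁻¹
    have h2 : k⁻¹ * v * k = k⁻¹ * (k * (k * (k * v * k⁻¹) * k⁻¹) * k⁻¹) * k := by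
      rw [hc3 v hvV]
    rw [h2]
    calc k⁻¹ * (k * (k * (k * v * k⁻¹) * k⁻¹) * k⁻¹) * k = k * (k * v * k⁻¹) * k⁻¹ := by group
      _ = v * u₂ := by rw [← hu₂, hku₂]
  have hbU : ∀ z ∈ U, b * z * b⁻¹ ∈ U := by
    intro z hz
    rcases (hUmem z).mp hz with h | h | h | h <;> rw [h, hUmem]
    · left; group
    · right; left; exact hbv
    · right; right; right; exact hbu₂
    · right; right; left
      calc b * (v * u₂) * b⁻¹ = (b * v * b⁻¹) * (b * u₂ * b⁻¹) := by group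
        _ = v * (v * u₂) := by rw [hbv, hbu₂]
        _ = (v * v) * u₂ := by group
        _ = u₂ := by rw [hV2 v hvV, one_mul]
  have hkNU : k ∈ Subgroup.normalizer (U : Set Y) := Subgroup.mem_normalizer_fintype hkU
  have hbNU : b ∈ Subgroup.normalizer (U : Set Y) := Subgroup.mem_normalizer_fintype hbU
  have hvU : v ∈ U := (hUmem v).mpr (Or.inr (Or.inl rfl))
  have hu₂U : u₂ ∈ U := (hUmem u₂).mpr (Or.inr (Or.inr (Or.inl rfl)))
  have hkCU : k ∉ Subgroup.centralizer (U : Set Y) := by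
    intro h
    rw [Subgroup.mem_centralizer_iff] at h
    apply hvu₂
    rw [hu₂, ← h v hvU]; group
  have hbCU : b ∉ Subgroup.centralizer (U : Set Y) := by
    intro h
    rw [Subgroup.mem_centralizer_iff] at h
    apply hv1
    have h1 : b * u₂ * b⁻¹ = u₂ := by rw [← h u₂ hu₂U]; group
    rw [hbu₂] at h1
    have : v * u₂ = 1 * u₂ := by rw [one_mul]; exact h1
    exact mul_right_cancel this
  exact involves_S4_of_four U hU4 hU2 hkNU hkCU hn hkn hbNU hbCU hbj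

end Cfsg.Agent.helper14
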