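import Mathlib
import Cfsg.Prelude.Def_LocalEven
import Cfsg.Agent.Lib_helper14_S4S3b
import Cfsg.Agent.Lib_helper15_S4a
import Cfsg.Agent.Lib_helper19_HH0
import Cfsg.Agent.Lib_helper7_HH123
import Cfsg.Agent.Lib_helper1_PGroup

/-! helper14: `S₃` acting on a `2`-subgroup gives an `S₄`-section (via `T / Φ(T)`) -/

set_option autoImplicit false

namespace Cfsg.Agent.helper14

open Cfsg.Agent.helper15.S4F
open scoped commutatorElement

theorem involves_S4_of_action_on_two_group {G : Type*} [Group G] [Finite G] (T : Subgroup G)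
    (hT : IsPGroup 2 ↥T) (k b : G)
    (hkT : k ∈ Subgroup.normalizer (T : Set G)) (hbT : b ∈ Subgroup.normalizer (T : Set G))
    {n : ℕ} (hn : Odd n) (hkn : k ^ n = 1) {j : ℕ} (hbj : b ^ (2 ^ j) = 1)
    (hbk : b * k * b⁻¹ = k⁻¹)
    (hk3 : k ^ 3 ∈ Subgroup.centralizer (T : Set G))
    (hkC : k ∉ Subgroup.centralizer (T : Set G)) :
    Cfsg.Involves (Equiv.Perm (Fin 4)) G := by
  haveI : Fact (Nat.Prime 2) := ⟨Nat.prime_two⟩
  obtain ⟨N, hN⟩ : ∃ N, N = Subgroup.normalizer (T : Set G) := ⟨_, rfl⟩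
  obtain ⟨Φ, hΦ⟩ : ∃ Φ, Φ = (frattini ↥T).map T.subtype := ⟨_, rfl⟩
  have hΦT : Φ ≤ T := by rw [hΦ]; exact Subgroup.map_subtype_le _
  have hTN : T ≤ N := by rw [hN]; exact Subgroup.le_normalizer
  have hNΦ : N ≤ Subgroup.normalizer (Φ : Set G) := by
    rw [hN, hΦ]; exact Cfsg.Agent.helper19.le_normalizer_map_characteristic T (frattini ↥T)
  haveI hΦn : (Φ.subgroupOf N).Normal :=
    (Subgroup.normal_subgroupOf_iff_le_normalizer (hΦT.trans hTN)).mpr hNΦ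
  haveI hTn : (T.subgroupOf N).Normal := by
    rw [hN]; exact Subgroup.normal_in_normalizer
  apply involves_of_subgroup N
  apply involves_of_quotient (Φ.subgroupOf N)
  obtain ⟨mk, hmk⟩ : ∃ mk : ↥N →* ↥N ⧸ Φ.subgroupOf N, mk = QuotientGroup.mk' _ := ⟨_, rfl⟩
  have hmk1 : ∀ x : ↥N, mk x = 1 ↔ (x : G) ∈ Φ := by
    intro x
    rw [hmk, QuotientGroup.mk'_apply, QuotientGroup.eq_one_iff, Subgroup.mem_subgroupOf]
  have hmkeq : ∀ x y : ↥N, mk x = mk y ↔ (x : G)⁻¹ * (y : G) ∈ Φ := by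
    intro x y
    rw [← inv_mul_eq_one, ← map_inv, ← map_mul, hmk1]
    rfl
  have hsurj : Function.Surjective mk := by rw [hmk]; exact QuotientGroup.mk'_surjective _
  obtain ⟨V, hV⟩ : ∃ V, V = (T.subgroupOf N).map mk := ⟨_, rfl⟩
  haveI hVn : V.Normal := by rw [hV]; exact Subgroup.Normal.map hTn mk hsurj
  have hVmem : ∀ v, v ∈ V ↔ ∃ t : G, ∃ ht : t ∈ T, v = mk ⟨t, hTN ht⟩ := by
    intro v
    rw [hV, Subgroup.mem_map]
    constructor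
    · rintro ⟨x, hx, rfl⟩
      exact ⟨(x : G), Subgroup.mem_subgroupOf.mp hx, rfl⟩
    · rintro ⟨t, ht, rfl⟩
      exact ⟨⟨t, hTN ht⟩, Subgroup.mem_subgroupOf.mpr ht, rfl⟩
  -- squares lie in Φ
  have hsq : ∀ t ∈ T, t * t ∈ Φ := by
    intro t ht
    rw [hΦ]
    have := Cfsg.Agent.helper1.pow_mem_frattini_of_isPGroup hT (⟨t, ht⟩ : ↥T)
    refine ⟨_, this, ?_⟩
    simp [pow_two]
  have hcommΦ : ∀ t ∈ T, ∀ s ∈ T, t * s * t⁻¹ * s⁻¹ ∈ Φ := by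
    intro t ht s hs
    rw [hΦ]
    have h1 : ⁅(⟨t, ht⟩ : ↥T), ⟨s, hs⟩⁆ ∈ commutator ↥T :=
      Subgroup.commutator_mem_commutator (Subgroup.mem_top _) (Subgroup.mem_top _)
    have h2 := Cfsg.Agent.helper1.commutator_le_frattini_of_isPGroup hT h1
    refine ⟨_, h2, ?_⟩
    simp [commutatorElement_def]
  have hV2 : ∀ v ∈ V, v * v = 1 := by
    intro v hv
    obtain ⟨t, ht, rfl⟩ := (hVmem v).mp hv
    rw [← map_mul, hmk1]
    exact hsq t ht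
  have hVc : ∀ v ∈ V, ∀ w ∈ V, v * w = w * v := by
    intro v hv w hw
    obtain ⟨t, ht, rfl⟩ := (hVmem v).mp hv
    obtain ⟨s, hs, rfl⟩ := (hVmem w).mp hw
    rw [← map_mul, ← map_mul, hmkeq]
    have := hcommΦ s⁻¹ (T.inv_mem hs) t⁻¹ (T.inv_mem ht)
    have e : ((⟨t, hTN ht⟩ * ⟨s, hTN hs⟩ : ↥N) : G)⁻¹ * ((⟨s, hTN hs⟩ * ⟨t, hTN ht⟩ : ↥N) : G) =
        s⁻¹ * t⁻¹ * s⁻¹⁻¹ * t⁻¹⁻¹ := by
      simp [mul_assoc]
    rw [e]; exact this
  obtain ⟨kN, hkN⟩ : ∃ kN : ↥N, (kN : G) = k := ⟨⟨k, hN ▸ hkT⟩, rfl⟩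
  obtain ⟨bN, hbN⟩ : ∃ bN : ↥N, (bN : G) = b := ⟨⟨b, hN ▸ hbT⟩, rfl⟩
  have hkn' : (mk kN) ^ n = 1 := by
    rw [← map_pow]
    have : kN ^ n = 1 := Subtype.ext (by rw [Subgroup.coe_pow, hkN, hkn]; rfl)
    rw [this, map_one]
  have hbj' : (mk bN) ^ (2 ^ j) = 1 := by
    rw [← map_pow]
    have : bN ^ (2 ^ j) = 1 := Subtype.ext (by rw [Subgroup.coe_pow, hbN, hbj]; rfl)
    rw [this, map_one]
  have hbk' : mk bN * mk kN * (mk bN)⁻¹ = (mk kN)⁻¹ := by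
    rw [← map_inv, ← map_mul, ← map_mul, ← map_inv]
    congr 1
    apply Subtype.ext
    simp only [Subgroup.coe_mul, Subgroup.coe_inv, hkN, hbN]
    exact hbk
  have hk3' : ∀ v ∈ V, (mk kN) ^ 3 * v * ((mk kN) ^ 3)⁻¹ = v := by
    intro v hv
    obtain ⟨t, ht, rfl⟩ := (hVmem v).mp hv
    rw [← map_pow, ← map_inv, ← map_mul, ← map_mul]
    congr 1
    apply Subtype.ext
    simp only [Subgroup.coe_mul, Subgroup.coe_inv, Subgroup.coe_pow, hkN]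
    have := Subgroup.mem_centralizer_iff.mp hk3 t ht
    calc k ^ 3 * t * (k ^ 3)⁻¹ = (k ^ 3 * t) * (k ^ 3)⁻¹ := by group
      _ = (t * k ^ 3) * (k ^ 3)⁻¹ := by rw [← this]
      _ = t := by group
  -- a vector moved by `k`
  have hex : ∃ v₀ ∈ V, mk kN * v₀ * (mk kN)⁻¹ ≠ v₀ := by
    by_contra hcon
    push Not at hcon
    apply hkC
    have hall : ∀ t ∈ T, k * t * k⁻¹ * t⁻¹ ∈ Φ := by
      intro t ht
      have h1 := hcon (mk ⟨t, hTN ht⟩) ((hVmem _).mpr ⟨t, ht, rfl⟩)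
      rw [← map_inv, ← map_mul, ← map_mul, hmkeq] at h1
      have e : ((kN * ⟨t, hTN ht⟩ * kN⁻¹ : ↥N) : G)⁻¹ * ((⟨t, hTN ht⟩ : ↥N) : G) =
          k * t⁻¹ * k⁻¹ * t⁻¹⁻¹ := by
        simp only [Subgroup.coe_mul, Subgroup.coe_inv, hkN]
        group
      rw [e] at h1
      have h2 := Φ.inv_mem h1
      -- conjugate back
      have h3 : (k * t⁻¹ * k⁻¹ * t⁻¹⁻¹)⁻¹ = t⁻¹ * (k * t * k⁻¹ * t⁻¹) * t⁻¹⁻¹ := by group
      rw [h3] at h2
      have hΦn' : t ∈ Subgroup.normalizer (Φ : Set G) := hNΦ (hTN ht)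
      have h4 := (Subgroup.mem_normalizer_iff.mp hΦn' _).mp h2
      have e2 : t * (t⁻¹ * (k * t * k⁻¹ * t⁻¹) * t⁻¹⁻¹) * t⁻¹ = k * t * k⁻¹ * t⁻¹ := by group
      rwa [e2] at h4
    -- the kernel of the action on T/Φ
    let K₀ : Subgroup G :=
      { carrier := {g | g ∈ N ∧ ∀ t ∈ T, g * t * g⁻¹ * t⁻¹ ∈ Φ}
        one_mem' := ⟨N.one_mem, fun t _ => by
          have : (1 : G) * t * 1⁻¹ * t⁻¹ = 1 := by group
          rw [this]; exact Φ.one_mem⟩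
        mul_mem' := by
          rintro g h ⟨hgN, hg⟩ ⟨hhN, hh⟩
          refine ⟨N.mul_mem hgN hhN, fun t ht => ?_⟩
          have ht' : h * t * h⁻¹ ∈ T := by
            have : h ∈ Subgroup.normalizer (T : Set G) := hN ▸ hhN
            exact (Subgroup.mem_normalizer_iff.mp this t).mp ht
          have h1 := hg _ ht'
          have h2 := hh t ht
          have e : g * h * t * (g * h)⁻¹ * t⁻¹ =
              (g * (h * t * h⁻¹) * g⁻¹ * (h * t * h⁻¹)⁻¹) * (h * t * h⁻¹ * t⁻¹) := by group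
          rw [e]; exact Φ.mul_mem h1 h2
        inv_mem' := by
          rintro g ⟨hgN, hg⟩
          refine ⟨N.inv_mem hgN, fun t ht => ?_⟩
          have hginv : g⁻¹ ∈ Subgroup.normalizer (T : Set G) := hN ▸ N.inv_mem hgN
          have ht' : g⁻¹ * t * g⁻¹⁻¹ ∈ T := (Subgroup.mem_normalizer_iff.mp hginv t).mp ht
          have h1 := Φ.inv_mem (hg _ ht')
          have hΦn' : g⁻¹ ∈ Subgroup.normalizer (Φ : Set G) := hNΦ (N.inv_mem hgN)
          have e : g⁻¹ * t * g⁻¹⁻¹ * t⁻¹ =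
              (g * (g⁻¹ * t * g⁻¹⁻¹) * g⁻¹ * (g⁻¹ * t * g⁻¹⁻¹)⁻¹)⁻¹ := by group
          rw [e]; exact h1 }
    have hkK₀ : k ∈ K₀ := ⟨hN ▸ hkT, hall⟩
    have hzK₀ : Subgroup.zpowers k ≤ K₀ := Subgroup.zpowers_le.mpr hkK₀
    have hcomm : ⁅T, Subgroup.zpowers k⁆ ≤ (frattini ↥T).map T.subtype := by
      rw [← hΦ, Subgroup.commutator_le]
      intro t ht a ha
      have h1 := (hzK₀ ha).2 t⁻¹ (T.inv_mem ht)
      rw [commutatorElement_def]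
      have hΦn' : t ∈ Subgroup.normalizer (Φ : Set G) := hNΦ (hTN ht)
      have h4 := (Subgroup.mem_normalizer_iff.mp hΦn' _).mp h1
      have e2 : t * (a * t⁻¹ * a⁻¹ * t⁻¹⁻¹) * t⁻¹ = t * a * t⁻¹ * a⁻¹ := by group
      rwa [e2] at h4
    have hcop : (Nat.card ↥(Subgroup.zpowers k)).Coprime 2 := by
      rw [Nat.card_zpowers]
      have hdvd : orderOf k ∣ n := orderOf_dvd_of_pow_eq_one hkn
      have hodd : Odd (orderOf k) := hn.of_dvd_nat hdvd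
      exact Nat.Coprime.symm (Nat.coprime_two_left.mpr hodd)
    have := Cfsg.Agent.helper7.centralizes_of_commutator_le_frattini T (Subgroup.zpowers k) hT
      hcop (Subgroup.zpowers_le.mpr hkT) hcomm
    exact this (Subgroup.mem_zpowers k)
  obtain ⟨v₀, hv₀, hkv₀⟩ := hex
  have hnormV : Subgroup.normalizer (V : Set (↥N ⧸ Φ.subgroupOf N)) = ⊤ :=
    Subgroup.normalizer_eq_top V
  exact involves_S4_of_s3_action V hV2 hVc (mk kN) (mk bN) (hnormV ▸ Subgroup.mem_top _)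
    (hnormV ▸ Subgroup.mem_top _) hn hkn' hbj' hbk' hk3' v₀ hv₀ hkv₀

end Cfsg.Agent.helper14
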