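import Mathlib
import Cfsg.Agent.Lib_helper7_Coprime

/-! helper14: a group with quotient `S₃` contains a `3`-element inverted by a `2`-element,
not in the kernel -/

set_option autoImplicit false

namespace Cfsg.Agent.helper14

open scoped Pointwise

theorem s3_fact1 : ∀ σ : Equiv.Perm (Fin 3), Equiv.Perm.sign σ = 1 → σ * σ * σ = 1 := by
  decide

theorem s3_fact2 : ∀ σ ρ : Equiv.Perm (Fin 3), Equiv.Perm.sign σ = -1 → Equiv.Perm.sign ρ = 1 →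
    σ * ρ * σ⁻¹ = ρ⁻¹ := by
  decide

theorem s3_fact3 : ∀ σ : Equiv.Perm (Fin 3), Equiv.Perm.sign σ = -1 → σ * σ = 1 := by
  decide

/-- split off the `p`-part of an element -/
theorem exists_ppart {A : Type*} [Group A] [Finite A] (p : ℕ) [hp : Fact p.Prime] (y : A) :
    ∃ m a : ℕ, ¬ p ∣ m ∧ (y ^ m) ^ (p ^ a) = 1 := by
  have ho : orderOf y ≠ 0 := (orderOf_pos y).ne'
  obtain ⟨a, m, hm, hom⟩ := Nat.exists_eq_pow_mul_and_not_dvd ho p hp.out.ne_one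
  refine ⟨m, a, hm, ?_⟩
  rw [← pow_mul, mul_comm, ← hom, pow_orderOf_eq_one]

theorem exists_inverted_of_s3_quotient {A : Type*} [Group A] [Finite A]
    (φ : A →* Equiv.Perm (Fin 3)) (hφ : Function.Surjective φ) :
    ∃ i τ : A, (∃ a, i ^ (3 ^ a) = 1) ∧ (∃ j, τ ^ (2 ^ j) = 1) ∧ τ * i * τ⁻¹ = i⁻¹ ∧ φ i ≠ 1 := by
  haveI : Fact (Nat.Prime 2) := ⟨Nat.prime_two⟩
  haveI : Fact (Nat.Prime 3) := ⟨Nat.prime_three⟩
  obtain ⟨sgn, hsgn⟩ : ∃ sgn : A →* ℤˣ, sgn = Equiv.Perm.sign.comp φ := ⟨_, rfl⟩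
  have hsgn' : ∀ x, sgn x = Equiv.Perm.sign (φ x) := fun x => by rw [hsgn]; rfl
  obtain ⟨K₃, hK₃⟩ : ∃ K₃ : Subgroup A, K₃ = sgn.ker := ⟨_, rfl⟩
  haveI hK₃n : K₃.Normal := by rw [hK₃]; infer_instance
  have hK₃mem : ∀ x, x ∈ K₃ ↔ sgn x = 1 := fun x => by rw [hK₃]; exact MonoidHom.mem_ker
  -- a 3-element mapping to a 3-cycle
  obtain ⟨c, hc⟩ : ∃ c : Equiv.Perm (Fin 3), c = Equiv.swap (0 : Fin 3) 1 * Equiv.swap 1 2 :=
    ⟨_, rfl⟩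
  have hcs : Equiv.Perm.sign c = 1 := by rw [hc]; decide
  have hc1 : c ≠ 1 := by rw [hc]; decide
  have hc3 : c ^ 3 = 1 := by rw [hc]; decide
  have hco : orderOf c = 3 := orderOf_eq_prime hc3 hc1
  obtain ⟨y₀, hy₀⟩ := hφ c
  obtain ⟨m, a, hm, hx₁⟩ := exists_ppart 3 y₀
  obtain ⟨x₁, hx₁def⟩ : ∃ x₁, x₁ = y₀ ^ m := ⟨_, rfl⟩
  rw [← hx₁def] at hx₁
  have hφx₁ : φ x₁ ≠ 1 := by
    rw [hx₁def, map_pow, hy₀]
    intro h
    have := orderOf_dvd_of_pow_eq_one h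
    rw [hco] at this
    exact hm this
  have hx₁K : x₁ ∈ K₃ := by
    rw [hK₃mem, hx₁def, map_pow, hsgn', hy₀, hcs, one_pow]
  -- a Sylow 3-subgroup of K₃ containing x₁
  have hZ : IsPGroup 3 ↥(Subgroup.zpowers (⟨x₁, hx₁K⟩ : ↥K₃)) := by
    rintro ⟨g, hg⟩
    obtain ⟨z, rfl⟩ := Subgroup.mem_zpowers_iff.mp hg
    refine ⟨a, Subtype.ext ?_⟩
    rw [Subgroup.coe_pow, Subgroup.coe_one]
    show ((⟨x₁, hx₁K⟩ : ↥K₃) ^ z) ^ 3 ^ a = 1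
    rw [← zpow_natCast, ← zpow_mul, mul_comm, zpow_mul, zpow_natCast]
    have : (⟨x₁, hx₁K⟩ : ↥K₃) ^ 3 ^ a = 1 := Subtype.ext (by
      rw [Subgroup.coe_pow, Subgroup.coe_one]; exact hx₁)
    rw [this, one_zpow]
  obtain ⟨P, hZP⟩ := hZ.exists_le_sylow
  obtain ⟨P', hP'⟩ : ∃ P' : Subgroup A, P' = (P : Subgroup ↥K₃).map K₃.subtype := ⟨_, rfl⟩
  have hx₁P : x₁ ∈ P' := by
    rw [hP']
    exact ⟨⟨x₁, hx₁K⟩, hZP (Subgroup.mem_zpowers _), rfl⟩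
  have hP'K : P' ≤ K₃ := by rw [hP']; exact Subgroup.map_subtype_le _
  have hP'p : IsPGroup 3 ↥P' := by rw [hP']; exact P.isPGroup'.map _
  have hfrat : Subgroup.normalizer (P' : Set A) ⊔ K₃ = ⊤ := by
    rw [hP']; exact Sylow.normalizer_sup_eq_top P
  -- a 2-element normalizing P' with sign -1
  obtain ⟨s, hs⟩ : ∃ s : Equiv.Perm (Fin 3), s = Equiv.swap (0 : Fin 3) 1 := ⟨_, rfl⟩
  have hss : Equiv.Perm.sign s = -1 := by rw [hs]; decide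
  obtain ⟨y₁, hy₁⟩ := hφ s
  have hy₁top : y₁ ∈ Subgroup.normalizer (P' : Set A) ⊔ K₃ := by rw [hfrat]; exact Subgroup.mem_top _
  have hy₁' : y₁ ∈ ((Subgroup.normalizer (P' : Set A)) : Set A) * (K₃ : Set A) := by
    rw [← Subgroup.mul_normal]; exact hy₁top
  obtain ⟨n₁, hn₁, z, hz, hnz⟩ := Set.mem_mul.mp hy₁'
  have hn₁s : sgn n₁ = -1 := by
    have h1 : sgn y₁ = -1 := by rw [hsgn', hy₁, hss]
    rw [← hnz, map_mul, (hK₃mem z).mp hz, mul_one] at h1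
    exact h1
  obtain ⟨m', j, hm', hτ⟩ := exists_ppart 2 n₁
  obtain ⟨τ, hτdef⟩ : ∃ τ, τ = n₁ ^ m' := ⟨_, rfl⟩
  rw [← hτdef] at hτ
  have hτN : τ ∈ Subgroup.normalizer (P' : Set A) := by
    rw [hτdef]; exact Subgroup.pow_mem _ hn₁ _
  have hm'odd : Odd m' := by
    rcases Nat.even_or_odd m' with h | h
    · exact absurd (even_iff_two_dvd.mp h) hm'
    · exact h
  have hτs : sgn τ = -1 := by
    rw [hτdef, map_pow, hn₁s, hm'odd.neg_one_pow]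
  have hφτs : Equiv.Perm.sign (φ τ) = -1 := by rw [← hsgn']; exact hτs
  -- the 2-group generated by τ²
  have hQ : IsPGroup 2 ↥(Subgroup.zpowers (τ * τ)) := by
    rintro ⟨g, hg⟩
    obtain ⟨z, rfl⟩ := Subgroup.mem_zpowers_iff.mp hg
    refine ⟨j, Subtype.ext ?_⟩
    rw [Subgroup.coe_pow, Subgroup.coe_one]
    show ((τ * τ) ^ z) ^ 2 ^ j = 1
    rw [← zpow_natCast, ← zpow_mul, mul_comm, zpow_mul, zpow_natCast]
    have : (τ * τ) ^ 2 ^ j = 1 := by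
      rw [← pow_two, ← pow_mul, mul_comm, pow_mul, hτ, one_pow]
    rw [this, one_zpow]
  have hQN : Subgroup.zpowers (τ * τ) ≤ Subgroup.normalizer (P' : Set A) :=
    Subgroup.zpowers_le.mpr (Subgroup.mul_mem _ hτN hτN)
  have hcop : ¬ 2 ∣ Nat.card ↥P' := by
    obtain ⟨r, hr⟩ := IsPGroup.iff_card.mp hP'p
    rw [hr]
    intro h
    have := (Nat.Prime.dvd_of_dvd_pow Nat.prime_two h)
    omega
  obtain ⟨s₀, hs₀, x, hx, hx₁eq⟩ :=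
    Cfsg.Agent.helper7.exists_decomp_comm_fixed hQ hQN hcop hx₁P
  have hQker : Subgroup.zpowers (τ * τ) ≤ φ.ker := by
    rw [Subgroup.zpowers_le, MonoidHom.mem_ker, map_mul]
    exact s3_fact3 _ hφτs
  have hs₀ker : s₀ ∈ φ.ker :=
    ((Subgroup.commutator_mono le_rfl hQker).trans (Subgroup.commutator_le_right _ _)) hs₀
  have hφx : φ x = φ x₁ := by
    rw [hx₁eq, map_mul, MonoidHom.mem_ker.mp hs₀ker, one_mul]
  have hxP : x ∈ P' := (Subgroup.mem_inf.mp hx).1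
  have hxfix : (τ * τ) * x = x * (τ * τ) :=
    (Subgroup.mem_centralizer_iff.mp (Subgroup.mem_inf.mp hx).2 _ (Subgroup.mem_zpowers _))
  have hτx : τ * x * τ⁻¹ ∈ P' := (Subgroup.mem_normalizer_iff.mp hτN x).mp hxP
  refine ⟨x⁻¹ * (τ * x * τ⁻¹), τ, ?_, ⟨j, hτ⟩, ?_, ?_⟩
  · obtain ⟨r, hr⟩ := hP'p ⟨x⁻¹ * (τ * x * τ⁻¹), P'.mul_mem (P'.inv_mem hxP) hτx⟩
    refine ⟨r, ?_⟩
    have := congrArg Subtype.val hr
    rwa [Subgroup.coe_pow, Subgroup.coe_one] at this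
  · have h1 : τ * τ * x * (τ * τ)⁻¹ = x := by rw [hxfix]; group
    calc τ * (x⁻¹ * (τ * x * τ⁻¹)) * τ⁻¹ = (τ * x * τ⁻¹)⁻¹ * (τ * τ * x * (τ * τ)⁻¹) := by group
      _ = (τ * x * τ⁻¹)⁻¹ * x := by rw [h1]
      _ = (x⁻¹ * (τ * x * τ⁻¹))⁻¹ := by group
  · have hxs : Equiv.Perm.sign (φ x) = 1 := by
      rw [← hsgn']; exact (hK₃mem x).mp (hP'K hxP)
    rw [map_mul, map_inv, map_mul, map_mul, map_inv, s3_fact2 _ _ hφτs hxs]
    intro h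
    apply hφx₁
    rw [← hφx]
    have h3 := s3_fact1 _ hxs
    have h2 : φ x * φ x = 1 := by
      have : (φ x)⁻¹ * (φ x)⁻¹ = (φ x * φ x)⁻¹ := by group
      rw [this, inv_eq_one] at h
      exact h
    rw [h2, one_mul] at h3
    exact h3

end Cfsg.Agent.helper14
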