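import Mathlib
import Cfsg.Prelude.Def_LocalEven
import Cfsg.Agent.Lib_helper14_S4S3c
import Cfsg.Agent.Lib_helper14_S4S3d

/-! helper14: `S₃` involved in `N_G(T)/C_G(T)` for a `2`-subgroup `T` gives `S₄` involved in `G` -/

set_option autoImplicit false

namespace Cfsg.Agent.helper14

open Cfsg.Agent.helper15.S4F

theorem involves_S4_of_involves_S3 {G : Type*} [Group G] [Finite G] (T : Subgroup G)
    (hT : IsPGroup 2 ↥T)
    (h : Cfsg.Involves (Equiv.Perm (Fin 3))
      (↥(Subgroup.normalizer (T : Set G)) ⧸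
        (Subgroup.centralizer (T : Set G)).subgroupOf (Subgroup.normalizer (T : Set G)))) :
    Cfsg.Involves (Equiv.Perm (Fin 4)) G := by
  obtain ⟨K, π, hπ⟩ := exists_inj_surj_of_involves h
  obtain ⟨mk, hmk⟩ : ∃ mk : ↥(Subgroup.normalizer (T : Set G)) →*
      ↥(Subgroup.normalizer (T : Set G)) ⧸
        (Subgroup.centralizer (T : Set G)).subgroupOf (Subgroup.normalizer (T : Set G)),
      mk = QuotientGroup.mk' _ := ⟨_, rfl⟩
  have hmksurj : Function.Surjective mk := by rw [hmk]; exact QuotientGroup.mk'_surjective _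
  have hmk1 : ∀ x : ↥(Subgroup.normalizer (T : Set G)),
      (x : G) ∈ Subgroup.centralizer (T : Set G) → mk x = 1 := by
    intro x hx
    rw [hmk, QuotientGroup.mk'_apply, QuotientGroup.eq_one_iff, Subgroup.mem_subgroupOf]
    exact hx
  obtain ⟨φ, hφdef⟩ : ∃ φ : ↥(K.comap mk) →* Equiv.Perm (Fin 3),
      φ = π.comp (mk.subgroupComap K) := ⟨_, rfl⟩
  have hφ : Function.Surjective φ := by
    rw [hφdef]
    exact hπ.comp (mk.subgroupComap_surjective_of_surjective K hmksurj)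
  have hφ1 : ∀ x : ↥(K.comap mk), ((x : ↥(Subgroup.normalizer (T : Set G))) : G) ∈
      Subgroup.centralizer (T : Set G) → φ x = 1 := by
    intro x hx
    rw [hφdef, MonoidHom.comp_apply]
    have : (mk.subgroupComap K) x = 1 := by
      apply Subtype.ext
      show mk (x : ↥(Subgroup.normalizer (T : Set G))) = 1
      exact hmk1 _ hx
    rw [this, map_one]
  obtain ⟨i, τ, ⟨a, hi⟩, ⟨j, hτ⟩, hinv, hφi⟩ := exists_inverted_of_s3_quotient φ hφ
  obtain ⟨k₀, hk₀⟩ : ∃ k₀ : G, k₀ = ((i : ↥(Subgroup.normalizer (T : Set G))) : G) := ⟨_, rfl⟩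
  obtain ⟨b, hb⟩ : ∃ b : G, b = ((τ : ↥(Subgroup.normalizer (T : Set G))) : G) := ⟨_, rfl⟩
  have hk₀N : k₀ ∈ Subgroup.normalizer (T : Set G) := by rw [hk₀]; exact (i : ↥(Subgroup.normalizer (T : Set G))).2
  have hbN : b ∈ Subgroup.normalizer (T : Set G) := by rw [hb]; exact (τ : ↥(Subgroup.normalizer (T : Set G))).2
  have hk₀a : k₀ ^ (3 ^ a) = 1 := by
    have := congrArg (fun x : ↥(K.comap mk) => ((x : ↥(Subgroup.normalizer (T : Set G))) : G)) hi
    simpa [hk₀] using this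
  have hbj : b ^ (2 ^ j) = 1 := by
    have := congrArg (fun x : ↥(K.comap mk) => ((x : ↥(Subgroup.normalizer (T : Set G))) : G)) hτ
    simpa [hb] using this
  have hbk₀ : b * k₀ * b⁻¹ = k₀⁻¹ := by
    have := congrArg (fun x : ↥(K.comap mk) => ((x : ↥(Subgroup.normalizer (T : Set G))) : G)) hinv
    simpa [hb, hk₀] using this
  have hk₀C : k₀ ∉ Subgroup.centralizer (T : Set G) := by
    intro hc
    exact hφi (hφ1 i (hk₀ ▸ hc))
  -- minimal power landing in the centralizer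
  have hex : ∃ m, k₀ ^ (3 ^ m) ∈ Subgroup.centralizer (T : Set G) :=
    ⟨a, by rw [hk₀a]; exact Subgroup.one_mem _⟩
  classical
  obtain ⟨a', ha'⟩ : ∃ a', a' = Nat.find hex := ⟨_, rfl⟩
  have ha'spec : k₀ ^ (3 ^ a') ∈ Subgroup.centralizer (T : Set G) := by
    rw [ha']; exact Nat.find_spec hex
  have ha'0 : a' ≠ 0 := by
    intro h0
    rw [h0, pow_zero, pow_one] at ha'spec
    exact hk₀C ha'spec
  obtain ⟨a'', ha''⟩ : ∃ a'', a' = a'' + 1 := ⟨a' - 1, by omega⟩
  have hmin : k₀ ^ (3 ^ a'') ∉ Subgroup.centralizer (T : Set G) := by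
    have : a'' < Nat.find hex := by rw [← ha']; omega
    exact Nat.find_min hex this
  obtain ⟨k, hk⟩ : ∃ k, k = k₀ ^ (3 ^ a'') := ⟨_, rfl⟩
  have hkN : k ∈ Subgroup.normalizer (T : Set G) := by rw [hk]; exact Subgroup.pow_mem _ hk₀N _
  have hk3 : k ^ 3 ∈ Subgroup.centralizer (T : Set G) := by
    rw [hk, ← pow_mul, ← pow_succ, ← ha'']; exact ha'spec
  have hkC : k ∉ Subgroup.centralizer (T : Set G) := by rw [hk]; exact hmin
  have hkn : k ^ (3 ^ a) = 1 := by
    rw [hk, ← pow_mul, mul_comm, pow_mul, hk₀a, one_pow]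
  have hbk : b * k * b⁻¹ = k⁻¹ := by
    rw [hk, ← conj_pow, hbk₀, inv_pow]
  have hodd : Odd (3 ^ a) := Odd.pow (by decide)
  exact involves_S4_of_action_on_two_group T hT k b hkN hbN hodd hkn hbj hbk hk3 hkC

end Cfsg.Agent.helper14
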