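import Mathlib

/-! helper14: the homomorphism `S₄ → S₃` (action on the three pair-partitions) -/

set_option autoImplicit false

namespace Cfsg.Agent.helper14

/-- index of the pair-partition of `Fin 4` containing the pair `{a, b}` (`a ≠ b`) -/
def pairIdx (a b : Fin 4) : Fin 3 :=
  if a.val + b.val = 1 ∨ a.val + b.val = 5 then 0
  else if a.val + b.val = 2 ∨ a.val + b.val = 4 then 1 else 2

/-- the action of `σ` on the three pair-partitions -/
def qf (σ : Equiv.Perm (Fin 4)) (i : Fin 3) : Fin 3 :=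
  pairIdx (σ 0) (σ ⟨i.val + 1, by omega⟩)

set_option maxRecDepth 100000 in
theorem qf_mul : ∀ (σ τ : Equiv.Perm (Fin 4)) (i : Fin 3), qf (σ * τ) i = qf σ (qf τ i) := by
  decide +kernel

set_option maxRecDepth 100000 in
theorem qf_one : ∀ i : Fin 3, qf 1 i = i := by
  decide +kernel

/-- the homomorphism `S₄ → S₃` -/
def qHom : Equiv.Perm (Fin 4) →* Equiv.Perm (Fin 3) where
  toFun σ :=
    { toFun := qf σ
      invFun := qf σ⁻¹
      left_inv := fun i => by rw [← qf_mul, inv_mul_cancel, qf_one]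
      right_inv := fun i => by rw [← qf_mul, mul_inv_cancel, qf_one] }
  map_one' := by
    ext i
    show (qf 1 i : ℕ) = i
    rw [qf_one]
  map_mul' σ τ := by
    ext i
    show (qf (σ * τ) i : ℕ) = qf σ (qf τ i)
    rw [qf_mul]

theorem qHom_apply (σ : Equiv.Perm (Fin 4)) (i : Fin 3) : qHom σ i = qf σ i := rfl

theorem qHom_eq_one_iff (σ : Equiv.Perm (Fin 4)) : qHom σ = 1 ↔ ∀ i, qf σ i = i := by
  constructor
  · intro h i
    rw [← qHom_apply, h]; rfl
  · intro h
    ext i
    rw [qHom_apply, h]; rfl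

set_option maxRecDepth 100000 in
theorem qf_ker_sq : ∀ σ : Equiv.Perm (Fin 4), (∀ i, qf σ i = i) → σ * σ = 1 := by
  decide +kernel

set_option maxRecDepth 100000 in
theorem qf_ker_self_centralizing : ∀ σ : Equiv.Perm (Fin 4),
    (∀ v : Equiv.Perm (Fin 4), (∀ i, qf v i = i) → σ * v = v * σ) → ∀ i, qf σ i = i := by
  decide +kernel

set_option maxRecDepth 100000 in
theorem qf_surj : ∀ ρ : Equiv.Perm (Fin 3), ∃ σ : Equiv.Perm (Fin 4), ∀ i, qf σ i = ρ i := by
  decide +kernel

theorem qHom_surjective : Function.Surjective qHom := by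
  intro ρ
  obtain ⟨σ, hσ⟩ := qf_surj ρ
  exact ⟨σ, by ext i; rw [qHom_apply, hσ]⟩

end Cfsg.Agent.helper14
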