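import Mathlib
import Cfsg.Prelude.Def_LocalEven
import Cfsg.Agent.Lib_helper14_S4S3f
import Cfsg.Agent.Lib_helper15_S4a
import Cfsg.Agent.Lib_helper7_PConstr

/-! helper14: `S₄` involved gives a `2`-subgroup `T` with `S₃` involved in `N(T)/C(T)` -/

set_option autoImplicit false

namespace Cfsg.Agent.helper14

open Cfsg.Agent.helper15.S4F
open scoped Pointwise

theorem involves_of_ker_le {A B P : Type*} [Group A] [Group B] [Group P] (j : A →* B)
    (π : A →* P) (hπ : Function.Surjective π) (h : j.ker ≤ π.ker) : Cfsg.Involves P B := by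
  refine involves_of_inj_surj' (QuotientGroup.kerLift j) (QuotientGroup.kerLift_injective j)
    (QuotientGroup.lift j.ker π (fun x hx => h hx)) ?_
  intro y
  obtain ⟨x, rfl⟩ := hπ y
  exact ⟨(x : A ⧸ j.ker), by simp⟩

/-- a group mapping onto `S₄` has a `2`-subgroup `T` such that `N(T)` maps onto `S₃` with
`C(T)` in the kernel -/
theorem exists_two_subgroup_of_s4_quotient {X : Type*} [Group X] [Finite X]
    (θ : X →* Equiv.Perm (Fin 4)) (hθ : Function.Surjective θ) :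
    ∃ T : Subgroup X, IsPGroup 2 ↥T ∧ ∃ φ : ↥(Subgroup.normalizer (T : Set X)) →* Equiv.Perm (Fin 3),
      Function.Surjective φ ∧
        ∀ x : ↥(Subgroup.normalizer (T : Set X)),
          (x : X) ∈ Subgroup.centralizer (T : Set X) → φ x = 1 := by
  haveI : Fact (Nat.Prime 2) := ⟨Nat.prime_two⟩
  obtain ⟨ψ, hψ⟩ : ∃ ψ : X →* Equiv.Perm (Fin 3), ψ = qHom.comp θ := ⟨_, rfl⟩
  have hψs : Function.Surjective ψ := by rw [hψ]; exact qHom_surjective.comp hθ
  obtain ⟨V, hV⟩ : ∃ V : Subgroup X, V = ψ.ker := ⟨_, rfl⟩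
  haveI hVn : V.Normal := by rw [hV]; infer_instance
  have hVmem : ∀ x, x ∈ V ↔ qHom (θ x) = 1 := by
    intro x; rw [hV, MonoidHom.mem_ker, hψ]; rfl
  -- θ(V) = ker q is a 2-group
  have hVθ : ∀ σ, σ ∈ V.map θ ↔ qHom σ = 1 := by
    intro σ
    constructor
    · rintro ⟨x, hx, rfl⟩; exact (hVmem x).mp hx
    · intro h
      obtain ⟨x, rfl⟩ := hθ σ
      exact ⟨x, (hVmem x).mpr h, rfl⟩
  have hVθp : IsPGroup 2 ↥(V.map θ) := by
    rintro ⟨σ, hσ⟩
    refine ⟨1, Subtype.ext ?_⟩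
    rw [Subgroup.coe_pow, Subgroup.coe_one, pow_one, pow_two]
    exact qf_ker_sq σ ((qHom_eq_one_iff σ).mp ((hVθ σ).mp hσ))
  obtain T₀ : Sylow 2 ↥V := default
  obtain ⟨T, hT⟩ : ∃ T : Subgroup X, T = (T₀ : Subgroup ↥V).map V.subtype := ⟨_, rfl⟩
  have hTp : IsPGroup 2 ↥T := by rw [hT]; exact T₀.isPGroup'.map _
  have hTθ : T.map θ = V.map θ := by
    rw [hT]; exact Cfsg.Agent.helper7.map_sylow_eq_of_isPGroup θ hVθp T₀
  have hfrat : Subgroup.normalizer (T : Set X) ⊔ V = ⊤ := by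
    rw [hT]; exact Sylow.normalizer_sup_eq_top T₀
  refine ⟨T, hTp, ψ.comp (Subgroup.normalizer (T : Set X)).subtype, ?_, ?_⟩
  · intro ρ
    obtain ⟨x, hx⟩ := hψs ρ
    have hxtop : x ∈ Subgroup.normalizer (T : Set X) ⊔ V := by rw [hfrat]; exact Subgroup.mem_top _
    have hx' : x ∈ ((Subgroup.normalizer (T : Set X)) : Set X) * (V : Set X) := by
      rw [← Subgroup.mul_normal]; exact hxtop
    obtain ⟨n₁, hn₁, v, hv, hnv⟩ := Set.mem_mul.mp hx'
    refine ⟨⟨n₁, hn₁⟩, ?_⟩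
    rw [MonoidHom.comp_apply]
    show ψ n₁ = ρ
    have hv1 : ψ v = 1 := by rw [hV] at hv; exact MonoidHom.mem_ker.mp hv
    rw [← hx, ← hnv, map_mul, hv1, mul_one]
  · intro x hx
    rw [MonoidHom.comp_apply]
    show ψ (x : X) = 1
    rw [hψ, MonoidHom.comp_apply]
    rw [qHom_eq_one_iff]
    apply qf_ker_self_centralizing
    intro v hv
    have hv' : v ∈ T.map θ := by
      rw [hTθ, hVθ, qHom_eq_one_iff]; exact hv
    obtain ⟨t, ht, rfl⟩ := hv'
    rw [← map_mul, ← map_mul]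
    congr 1
    exact (Subgroup.mem_centralizer_iff.mp hx t ht).symm

theorem exists_two_subgroup_of_involves_S4 {G : Type*} [Group G] [Finite G]
    (h : Cfsg.Involves (Equiv.Perm (Fin 4)) G) :
    ∃ T : Subgroup G, IsPGroup 2 ↥T ∧ Cfsg.Involves (Equiv.Perm (Fin 3))
      (↥(Subgroup.normalizer (T : Set G)) ⧸
        (Subgroup.centralizer (T : Set G)).subgroupOf (Subgroup.normalizer (T : Set G))) := by
  obtain ⟨K, θ, hθ⟩ := exists_inj_surj_of_involves h
  obtain ⟨T, hTp, φ, hφ, hφC⟩ := exists_two_subgroup_of_s4_quotient θ hθ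
  obtain ⟨TG, hTG⟩ : ∃ TG : Subgroup G, TG = T.map K.subtype := ⟨_, rfl⟩
  have hTGmem : ∀ g, g ∈ TG ↔ ∃ t : ↥K, t ∈ T ∧ (t : G) = g := by
    intro g; rw [hTG, Subgroup.mem_map]; rfl
  have hTGp : IsPGroup 2 ↥TG := by rw [hTG]; exact hTp.map _
  refine ⟨TG, hTGp, ?_⟩
  -- the map N_K(T) → N_G(TG)
  have hnorm : ∀ x : ↥(Subgroup.normalizer (T : Set ↥K)),
      ((x : ↥K) : G) ∈ Subgroup.normalizer (TG : Set G) := by
    intro x
    apply Subgroup.mem_normalizer_fintype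
    intro g hg
    obtain ⟨t, ht, rfl⟩ := (hTGmem g).mp hg
    have h1 : (x : ↥K) * t * (x : ↥K)⁻¹ ∈ T := (Subgroup.mem_normalizer_iff.mp x.2 t).mp ht
    exact (hTGmem _).mpr ⟨_, h1, by simp⟩
  obtain ⟨ι, hι⟩ : ∃ ι : ↥(Subgroup.normalizer (T : Set ↥K)) →*
      ↥(Subgroup.normalizer (TG : Set G)),
      ∀ x, ((ι x : ↥(Subgroup.normalizer (TG : Set G))) : G) = ((x : ↥K) : G) :=
    ⟨(K.subtype.comp (Subgroup.normalizer (T : Set ↥K)).subtype).codRestrict _ hnorm,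
      fun x => rfl⟩
  apply involves_of_ker_le ((QuotientGroup.mk' _).comp ι) φ hφ
  intro x hx
  rw [MonoidHom.mem_ker, MonoidHom.comp_apply, QuotientGroup.mk'_apply,
    QuotientGroup.eq_one_iff, Subgroup.mem_subgroupOf, hι] at hx
  rw [MonoidHom.mem_ker]
  apply hφC
  rw [Subgroup.mem_centralizer_iff]
  intro t ht
  have h1 := Subgroup.mem_centralizer_iff.mp hx (t : G) ((hTGmem _).mpr ⟨t, ht, rfl⟩)
  apply Subtype.ext
  simpa using h1

end Cfsg.Agent.helper14
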