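import Cfsg.Statements.S2578
import Cfsg.Agent.Lib_helper13_RegNil3
import Cfsg.Agent.Lib_helper13_Split

set_option autoImplicit false
open Cfsg

namespace Cfsg.Agent.S2578

open Matrix Module Cfsg.Agent.helper13

variable {F : Type*} [Field F]

theorem shift_nilp (n : ℕ) : IsNilpotent (shiftMat F n) := ⟨n, shiftMat_pow_self F n⟩

theorem det_u0 (n : ℕ) : (1 + shiftMat F n).det = 1 := by
  have := det_smul_one_add_nilpotent (shiftMat F n) (shift_nilp n) (1 : F)
  rw [one_smul, one_pow] at this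
  exact this

/-- the base regular unipotent element. -/
noncomputable def u0 (F : Type*) [Field F] (n : ℕ) : GL (Fin n) F :=
  Matrix.GeneralLinearGroup.mk'' (1 + shiftMat F n) (by rw [det_u0]; exact isUnit_one)

theorem u0_val (n : ℕ) : ((u0 F n : GL (Fin n) F) : Matrix (Fin n) (Fin n) F) = 1 + shiftMat F n := rfl

theorem comm_shift_of_comm_u0 (n : ℕ) (z : GL (Fin n) F) (hz : z * u0 F n = u0 F n * z) :
    (z : Matrix (Fin n) (Fin n) F) * shiftMat F n = shiftMat F n * (z : Matrix (Fin n) (Fin n) F) := by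
  have h1 := congrArg (fun g : GL (Fin n) F => (g : Matrix (Fin n) (Fin n) F)) hz
  simp only [Units.val_mul, u0_val, Matrix.mul_add, Matrix.add_mul, Matrix.mul_one, Matrix.one_mul] at h1
  exact add_left_cancel h1

theorem pred_iff [Finite F] (n : ℕ) (hn : 2 ≤ n) (u : Matrix.SpecialLinearGroup (Fin n) F) :
    (((u : Matrix (Fin n) (Fin n) F) - 1) ^ n = 0 ∧ ((u : Matrix (Fin n) (Fin n) F) - 1).rank = n - 1) ↔
      ∃ g : GL (Fin n) F, g * u0 F n * g⁻¹ = Matrix.SpecialLinearGroup.toGL u := by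
  constructor
  · rintro ⟨hnil, hreg⟩
    obtain ⟨P, hP, hNP⟩ := regnil_cyclic_matrix n (by omega) _ hnil hreg
    refine ⟨Matrix.GeneralLinearGroup.mk'' P hP, ?_⟩
    rw [mul_inv_eq_iff_eq_mul]
    apply Units.ext
    simp only [Units.val_mul, u0_val]
    show P * (1 + shiftMat F n) = (u : Matrix (Fin n) (Fin n) F) * P
    have : (u : Matrix (Fin n) (Fin n) F) = 1 + ((u : Matrix (Fin n) (Fin n) F) - 1) := by abel
    rw [this, Matrix.add_mul, Matrix.one_mul, hNP, Matrix.mul_add, Matrix.mul_one]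
  · rintro ⟨g, hg⟩
    have h1 : (u : Matrix (Fin n) (Fin n) F) =
        (g : Matrix (Fin n) (Fin n) F) * (1 + shiftMat F n) * ((g⁻¹ : GL (Fin n) F) : Matrix (Fin n) (Fin n) F) := by
      have := congrArg (fun g : GL (Fin n) F => (g : Matrix (Fin n) (Fin n) F)) hg
      simp only [Units.val_mul, u0_val] at this
      exact this.symm
    have hgg : (g : Matrix (Fin n) (Fin n) F) * ((g⁻¹ : GL (Fin n) F) : Matrix (Fin n) (Fin n) F) = 1 := by
      rw [← Units.val_mul, mul_inv_cancel]; rfl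
    have hgg' : ((g⁻¹ : GL (Fin n) F) : Matrix (Fin n) (Fin n) F) * (g : Matrix (Fin n) (Fin n) F) = 1 := by
      rw [← Units.val_mul, inv_mul_cancel]; rfl
    have h2 : (u : Matrix (Fin n) (Fin n) F) - 1 =
        (g : Matrix (Fin n) (Fin n) F) * shiftMat F n * ((g⁻¹ : GL (Fin n) F) : Matrix (Fin n) (Fin n) F) := by
      rw [h1, Matrix.mul_add, Matrix.add_mul, Matrix.mul_one, hgg]
      abel
    have hpow : ∀ k : ℕ, ((g : Matrix (Fin n) (Fin n) F) * shiftMat F n * ((g⁻¹ : GL (Fin n) F) : Matrix (Fin n) (Fin n) F)) ^ k =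
        (g : Matrix (Fin n) (Fin n) F) * shiftMat F n ^ k * ((g⁻¹ : GL (Fin n) F) : Matrix (Fin n) (Fin n) F) := by
      intro k
      induction k with
      | zero => rw [pow_zero, pow_zero, Matrix.mul_one, hgg]
      | succ k ih =>
        rw [pow_succ, ih, pow_succ]
        calc (g : Matrix (Fin n) (Fin n) F) * shiftMat F n ^ k * ((g⁻¹ : GL (Fin n) F) : Matrix (Fin n) (Fin n) F) *
              ((g : Matrix (Fin n) (Fin n) F) * shiftMat F n * ((g⁻¹ : GL (Fin n) F) : Matrix (Fin n) (Fin n) F))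
            = (g : Matrix (Fin n) (Fin n) F) * shiftMat F n ^ k *
              (((g⁻¹ : GL (Fin n) F) : Matrix (Fin n) (Fin n) F) * (g : Matrix (Fin n) (Fin n) F)) * shiftMat F n *
                ((g⁻¹ : GL (Fin n) F) : Matrix (Fin n) (Fin n) F) := by
              simp only [Matrix.mul_assoc]
          _ = _ := by rw [hgg', Matrix.mul_one]; simp only [Matrix.mul_assoc]
    refine ⟨?_, ?_⟩
    · rw [h2, hpow, shiftMat_pow_self, Matrix.mul_zero, Matrix.zero_mul]
    · rw [h2]
      have hdg : IsUnit (g : Matrix (Fin n) (Fin n) F).det := by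
        rw [← Matrix.isUnit_iff_isUnit_det]
        exact ⟨g, rfl⟩
      have hdg' : IsUnit ((g⁻¹ : GL (Fin n) F) : Matrix (Fin n) (Fin n) F).det := by
        rw [← Matrix.isUnit_iff_isUnit_det]
        exact ⟨g⁻¹, rfl⟩
      rw [Matrix.rank_mul_eq_left_of_isUnit_det _ _ hdg', Matrix.rank_mul_eq_right_of_isUnit_det _ _ hdg,
        shiftMat_rank F n (by omega)]

theorem hH_iff [Finite F] (n : ℕ) (hn : 2 ≤ n) (a : Fˣ) :
    a ∈ (powMonoidHom n : Fˣ →* Fˣ).range ↔
      ∃ z : GL (Fin n) F, z * u0 F n = u0 F n * z ∧ Matrix.GeneralLinearGroup.det z = a := by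
  constructor
  · rintro ⟨c, rfl⟩
    refine ⟨Matrix.GeneralLinearGroup.scalar (Fin n) c, Matrix.GeneralLinearGroup.scalar_commute c _, ?_⟩
    rw [Matrix.GeneralLinearGroup.det_scalar, Fintype.card_fin]
    rfl
  · rintro ⟨z, hz, rfl⟩
    have hcomm := comm_shift_of_comm_u0 n z hz
    obtain ⟨k, rfl⟩ : ∃ k, n = k + 1 := ⟨n - 1, by omega⟩
    obtain ⟨c, hc⟩ := regnil_exists_polyMat (Fintype.card_fin (k + 1)) (shiftMat F (k + 1))
      (shiftMat_pow_self F (k + 1)) (shiftMat_rank F (k + 1) (by omega)) (by omega)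
      (z : Matrix (Fin (k + 1)) (Fin (k + 1)) F) hcomm
    have hdet : (z : Matrix (Fin (k + 1)) (Fin (k + 1)) F).det = c 0 ^ (k + 1) := by
      rw [← hc]
      exact det_polyMat k (Fintype.card_fin (k + 1)) _ (shiftMat_pow_self F (k + 1)) c
    have hc0 : c 0 ≠ 0 := by
      intro h0
      rw [h0, zero_pow (by omega)] at hdet
      exact Matrix.GeneralLinearGroup.det_ne_zero z hdet
    refine ⟨Units.mk0 (c 0) hc0, ?_⟩
    apply Units.ext
    rw [powMonoidHom_apply, Units.val_pow_eq_pow_val, Units.val_mk0, ← hdet]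
    rfl

/-- Regular unipotent classes of SL_n(q): for n ≥ 2 over the field with q elements, the matrices u of determinant one with (u − 1)^n = 0 and rank(u − 1) = n − 1 form a single GL_n(q)-class which splits into exactly gcd(n, q − 1) conjugacy classes of SL_n(q). -/
theorem result {F : Type*} [Field F] [Fintype F] {q : ℕ} (hF : Fintype.card F = q) {n : ℕ} (hn : 2 ≤ n) : Nat.card {C : ConjClasses (Matrix.SpecialLinearGroup (Fin n) F) // ∃ u : Matrix.SpecialLinearGroup (Fin n) F, ConjClasses.mk u = C ∧ ((u : Matrix (Fin n) (Fin n) F) - 1) ^ n = 0 ∧ ((u : Matrix (Fin n) (Fin n) F) - 1).rank = n - 1} = Nat.gcd n (q - 1) := by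
  classical
  haveI : Nonempty (Fin n) := ⟨⟨0, by omega⟩⟩
  have hsplit := card_classes_split (Matrix.SpecialLinearGroup.toGL : Matrix.SpecialLinearGroup (Fin n) F →* GL (Fin n) F)
    Matrix.SpecialLinearGroup.toGL_injective Matrix.GeneralLinearGroup.det
    Matrix.GeneralLinearGroup.det_surjective
    (by
      intro g
      constructor
      · intro hg
        have hdet : (g : Matrix (Fin n) (Fin n) F).det = 1 := by
          have := congrArg Units.val hg
          simpa using this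
        exact ⟨⟨(g : Matrix (Fin n) (Fin n) F), hdet⟩, Units.ext rfl⟩
      · rintro ⟨s, rfl⟩
        exact Matrix.SpecialLinearGroup.coeToGL_det s)
    (u0 F n)
    (by
      apply Units.ext
      show ((u0 F n : GL (Fin n) F) : Matrix (Fin n) (Fin n) F).det = 1
      rw [u0_val, det_u0])
    (powMonoidHom n : Fˣ →* Fˣ).range (hH_iff n hn)
  have hcongr : Nat.card {C : ConjClasses (Matrix.SpecialLinearGroup (Fin n) F) // ∃ u : Matrix.SpecialLinearGroup (Fin n) F, ConjClasses.mk u = C ∧ ((u : Matrix (Fin n) (Fin n) F) - 1) ^ n = 0 ∧ ((u : Matrix (Fin n) (Fin n) F) - 1).rank = n - 1} =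
      Nat.card {C : ConjClasses (Matrix.SpecialLinearGroup (Fin n) F) // ∃ u : Matrix.SpecialLinearGroup (Fin n) F, ConjClasses.mk u = C ∧
        ∃ g : GL (Fin n) F, g * u0 F n * g⁻¹ = Matrix.SpecialLinearGroup.toGL u} := by
    apply Nat.card_congr
    apply Equiv.subtypeEquivRight
    intro C
    constructor
    · rintro ⟨u, hu, h1, h2⟩
      exact ⟨u, hu, (pred_iff n hn u).mp ⟨h1, h2⟩⟩
    · rintro ⟨u, hu, h⟩
      obtain ⟨h1, h2⟩ := (pred_iff n hn u).mpr h
      exact ⟨u, hu, h1, h2⟩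
  rw [hcongr, hsplit, IsCyclic.index_powMonoidHom_range, Nat.card_units, Nat.card_eq_fintype_card, hF,
    Nat.gcd_comm]

end Cfsg.Agent.S2578
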