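import Mathlib
import Cfsg.Agent.Lib_helper14_GUJordan
import Cfsg.Agent.S2587
import Cfsg.Agent.S2588
import Cfsg.Agent.S2578
import Cfsg.Agent.Lib_helper11_Unitary2

set_option autoImplicit false
set_option linter.unusedSectionVars false
set_option linter.unusedVariables false

/-! Regular unipotent elements of the unitary groups. -/

namespace Cfsg.Agent.helper14.GUConj

open Matrix Cfsg Cfsg.Agent.helper14 Cfsg.Agent.helper14.PsuAut Cfsg.Agent.helper25.Jordan
open Cfsg.Agent.helper13 Cfsg.Agent.helper11.Unitary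

section sureg

variable {K : Type*} [Field K] [Fintype K] {n q : ℕ}

local notation "MM" => Matrix (Fin n) (Fin n) K

/-- regular unipotent matrices -/
def Reg (M : MM) : Prop := (M - 1) ^ n = 0 ∧ (M - 1).rank = n - 1

theorem conj_sub_one_pow (g g' M : MM) (h1 : g * g' = 1) (h2 : g' * g = 1) (k : ℕ) :
    (g * M * g' - 1) ^ k = g * (M - 1) ^ k * g' := by
  have e : g * M * g' - 1 = g * (M - 1) * g' := by
    rw [mul_sub, sub_mul, mul_one, h1]
  rw [e]
  induction k with
  | zero => rw [pow_zero, pow_zero, mul_one, h1]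
  | succ k ih =>
    rw [pow_succ, ih, pow_succ]
    calc g * (M - 1) ^ k * g' * (g * (M - 1) * g')
        = g * (M - 1) ^ k * (g' * g) * (M - 1) * g' := by simp only [Matrix.mul_assoc]
      _ = g * ((M - 1) ^ k * (M - 1)) * g' := by rw [h2, Matrix.mul_one]; simp only [Matrix.mul_assoc]

theorem reg_conj (g g' M : MM) (h1 : g * g' = 1) (h2 : g' * g = 1) (hM : Reg M) :
    Reg (g * M * g') := by
  obtain ⟨hM1, hM2⟩ := hM
  have hdg : IsUnit g.det := by
    have := congrArg Matrix.det h1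
    rw [Matrix.det_mul, Matrix.det_one] at this
    exact IsUnit.of_mul_eq_one _ this
  have hdg' : IsUnit g'.det := by
    have := congrArg Matrix.det h2
    rw [Matrix.det_mul, Matrix.det_one] at this
    exact IsUnit.of_mul_eq_one _ this
  refine ⟨?_, ?_⟩
  · rw [conj_sub_one_pow g g' M h1 h2, hM1, Matrix.mul_zero, Matrix.zero_mul]
  · have := conj_sub_one_pow g g' M h1 h2 1
    rw [pow_one, pow_one] at this
    rw [this, Matrix.rank_mul_eq_left_of_isUnit_det g' _ hdg',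
      Matrix.rank_mul_eq_right_of_isUnit_det g _ hdg, hM2]

theorem reg_u0 (hn : 1 ≤ n) : Reg ((Cfsg.Agent.S2578.u0 K n : GL (Fin n) K) : MM) := by
  unfold Reg
  rw [Cfsg.Agent.S2578.u0_val, add_sub_cancel_left]
  exact ⟨shiftMat_pow_self K n, shiftMat_rank K n hn⟩

theorem reg_iff (hn : 1 ≤ n) (x : GL (Fin n) K) :
    Reg (x : MM) ↔ IsConj (Cfsg.Agent.S2578.u0 K n) x := by
  constructor
  · rintro ⟨h1, h2⟩
    obtain ⟨P, hP, hNP⟩ := regnil_cyclic_matrix n hn _ h1 h2
    rw [isConj_iff]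
    refine ⟨Matrix.GeneralLinearGroup.mk'' P hP, ?_⟩
    rw [mul_inv_eq_iff_eq_mul]
    apply Units.ext
    rw [Units.val_mul, Units.val_mul, Cfsg.Agent.S2578.u0_val]
    show P * (1 + shiftMat K n) = (x : MM) * P
    have : (x : MM) = 1 + ((x : MM) - 1) := by abel
    rw [this, Matrix.add_mul, Matrix.one_mul, hNP, Matrix.mul_add, Matrix.mul_one]
  · intro h
    obtain ⟨c, hc⟩ := isConj_iff.mp h
    have hx : (x : MM) = (c : MM) * ((Cfsg.Agent.S2578.u0 K n : GL (Fin n) K) : MM) *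
        ((c⁻¹ : GL (Fin n) K) : MM) := by
      rw [← hc, Units.val_mul, Units.val_mul]
    rw [hx]
    exact reg_conj _ _ _ (by rw [← Units.val_mul, mul_inv_cancel, Units.val_one])
      (by rw [← Units.val_mul, inv_mul_cancel, Units.val_one]) (reg_u0 hn)

theorem exists_unitary_conj (hK : Fintype.card K = q ^ 2) (g₀ : GL (Fin n) K)
    (hnil : IsNilpotent ((g₀ : MM) - 1)) :
    ∃ B : ↥(Cfsg.GU n K q), IsConj g₀ (B : GL (Fin n) K) := by
  obtain ⟨σ, hσq⟩ := exists_frob hK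
  obtain ⟨μ, hg₀⟩ := exists_hasType g₀ hnil
  have h1 := hasType_sinv σ hg₀
  have hconj : IsConj g₀ (sinv σ g₀) := isConj_of_hasType hg₀ h1
  obtain ⟨c, hc⟩ := isConj_iff.mp hconj
  have hc' : c * g₀ = sinv σ g₀ * c := mul_inv_eq_iff_eq_mul.mp hc
  have hX : (((g₀ : MM).map (fun x : K => x ^ q)).transpose)⁻¹ =
      ((sinv σ g₀ : GL (Fin n) K) : MM) := by
    have hAs : ((g₀ : MM).map (fun x : K => x ^ q)).transpose = st σ (g₀ : MM) := by
      unfold st
      congr 1
      ext i j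
      rw [Matrix.map_apply, Matrix.map_apply, hσq]
    rw [hAs]
    apply Matrix.inv_eq_right_inv
    rw [sinv_val, ← st_mul, ← Units.val_mul, inv_mul_cancel, Units.val_one, st_one]
  have hM : IsConj (g₀ : MM) ((((g₀ : MM).map (fun x : K => x ^ q)).transpose)⁻¹) := by
    rw [hX]
    refine ⟨c, ?_⟩
    show (c : MM) * (g₀ : MM) = ((sinv σ g₀ : GL (Fin n) K) : MM) * (c : MM)
    rw [← Units.val_mul, ← Units.val_mul, hc']
  exact (Cfsg.Agent.S2588.result hK g₀).mpr hM

theorem st_smul (σ : K ≃+* K) (c : K) (M : MM) : st σ (c • M) = σ c • st σ M := by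
  ext i j
  rw [st_apply, Matrix.smul_apply, Matrix.smul_apply, st_apply, smul_eq_mul, smul_eq_mul, map_mul]

theorem mem_GU_iff_st (σ : K ≃+* K) (hσq : ∀ a, σ a = a ^ q) (X : GL (Fin n) K) :
    X ∈ Cfsg.GU n K q ↔ st σ (X : MM) * (X : MM) = 1 := by
  rw [mem_GU_iff_mat σ hσq]
  unfold st
  constructor
  · intro h
    have := congrArg Matrix.transpose h
    rwa [Matrix.transpose_mul, Matrix.transpose_transpose, Matrix.transpose_one] at this
  · intro h
    have := congrArg Matrix.transpose h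
    rwa [Matrix.transpose_mul, Matrix.transpose_transpose, Matrix.transpose_one] at this

end sureg

section cent

variable {K : Type*} [Field K] [Fintype K] {q : ℕ}

theorem det_centralizer (σ : K ≃+* K) (hσq : ∀ a, σ a = a ^ q) (m : ℕ)
    (u₀ z : ↥(Cfsg.GU (m + 1) K q))
    (hreg : Reg ((u₀ : GL (Fin (m + 1)) K) : Matrix (Fin (m + 1)) (Fin (m + 1)) K))
    (hz : z * u₀ = u₀ * z) :
    ∃ c : K, c * c ^ q = 1 ∧
      ((z : GL (Fin (m + 1)) K) : Matrix (Fin (m + 1)) (Fin (m + 1)) K).det = c ^ (m + 1) := by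
  classical
  obtain ⟨U, hU⟩ : ∃ U : Matrix (Fin (m + 1)) (Fin (m + 1)) K,
      U = ((u₀ : GL (Fin (m + 1)) K) : Matrix (Fin (m + 1)) (Fin (m + 1)) K) := ⟨_, rfl⟩
  obtain ⟨Z, hZ⟩ : ∃ Z : Matrix (Fin (m + 1)) (Fin (m + 1)) K,
      Z = ((z : GL (Fin (m + 1)) K) : Matrix (Fin (m + 1)) (Fin (m + 1)) K) := ⟨_, rfl⟩
  obtain ⟨N, hN⟩ : ∃ N : Matrix (Fin (m + 1)) (Fin (m + 1)) K, N = U - 1 := ⟨_, rfl⟩
  rw [← hU] at hreg
  obtain ⟨hnil, hrank⟩ := hreg
  rw [← hN] at hnil hrank
  rw [← hZ]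
  have hZU : Z * U = U * Z := by
    have := congrArg (fun g : ↥(Cfsg.GU (m + 1) K q) =>
      ((g : GL (Fin (m + 1)) K) : Matrix (Fin (m + 1)) (Fin (m + 1)) K)) hz
    simp only [Subgroup.coe_mul, Units.val_mul] at this
    rw [hZ, hU]
    exact this
  have hZN : Z * N = N * Z := by
    rw [hN, mul_sub, sub_mul, mul_one, one_mul, hZU]
  obtain ⟨c, hc⟩ := regnil_exists_polyMat (Fintype.card_fin (m + 1)) N hnil hrank (by omega) Z hZN
  have hdet : Z.det = c 0 ^ (m + 1) := by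
    rw [← hc]
    exact det_polyMat m (Fintype.card_fin (m + 1)) N hnil c
  refine ⟨c 0, ?_, hdet⟩
  obtain ⟨B, hB1, hB2⟩ : ∃ B : Matrix (Fin (m + 1)) (Fin (m + 1)) K,
      polyMat N c = c 0 • 1 + B * N ∧ polyMat N c = c 0 • 1 + N * B := by
    refine ⟨∑ i : Fin m, c i.succ • N ^ (i : ℕ), ?_, ?_⟩
    · unfold polyMat
      rw [Fin.sum_univ_succ, Fin.val_zero, pow_zero, Finset.sum_mul]
      congr 1
      apply Finset.sum_congr rfl
      intro i _
      rw [smul_mul_assoc, Fin.val_succ, pow_succ]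
    · unfold polyMat
      rw [Fin.sum_univ_succ, Fin.val_zero, pow_zero, Finset.mul_sum]
      congr 1
      apply Finset.sum_congr rfl
      intro i _
      rw [mul_smul_comm, Fin.val_succ, pow_succ']
  have hdetN : N.det = 0 := by
    have := congrArg Matrix.det hnil
    rw [Matrix.det_pow, Matrix.det_zero] at this
    exact pow_eq_zero_iff (by omega) |>.mp this
  obtain ⟨v, hv0, hv⟩ := Matrix.exists_mulVec_eq_zero_iff.mpr hdetN
  have hzv : Z *ᵥ v = c 0 • v := by
    rw [← hc, hB1, Matrix.add_mulVec, Matrix.smul_mulVec, Matrix.one_mulVec,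
      ← Matrix.mulVec_mulVec, hv, Matrix.mulVec_zero, add_zero]
  have hzU : st σ Z * Z = 1 := by
    rw [hZ]
    exact (mem_GU_iff_st σ hσq _).mp z.2
  have huU : st σ U * U = 1 := by
    rw [hU]
    exact (mem_GU_iff_st σ hσq _).mp u₀.2
  have hstN : st σ N *ᵥ v = 0 := by
    have e1 : st σ U = (((u₀ : GL (Fin (m + 1)) K)⁻¹ : GL (Fin (m + 1)) K) :
        Matrix (Fin (m + 1)) (Fin (m + 1)) K) := by
      calc st σ U = st σ U * (U * (((u₀ : GL (Fin (m + 1)) K)⁻¹ : GL (Fin (m + 1)) K) :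
            Matrix (Fin (m + 1)) (Fin (m + 1)) K)) := by
            rw [hU, ← Units.val_mul, mul_inv_cancel, Units.val_one, mul_one]
        _ = _ := by rw [← mul_assoc, huU, one_mul]
    rw [hN, st_sub_one, e1, inv_sub_one, ← Matrix.mulVec_mulVec, ← hU, ← hN, hv,
      Matrix.mulVec_zero]
  have hstz : st σ Z *ᵥ v = σ (c 0) • v := by
    rw [← hc, hB2, st_add, st_smul, st_one, st_mul, Matrix.add_mulVec, Matrix.smul_mulVec,
      Matrix.one_mulVec, ← Matrix.mulVec_mulVec, hstN, Matrix.mulVec_zero, add_zero]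
  have h1 : (σ (c 0) * c 0) • v = v := by
    have := congrArg (fun M : Matrix (Fin (m + 1)) (Fin (m + 1)) K => M *ᵥ v) hzU
    simp only [Matrix.one_mulVec, ← Matrix.mulVec_mulVec] at this
    rw [hzv, Matrix.mulVec_smul, hstz, smul_smul, mul_comm] at this
    exact this
  obtain ⟨i, hi⟩ : ∃ i, v i ≠ 0 := by
    by_contra h
    push Not at h
    exact hv0 (funext h)
  have h2 := congrFun h1 i
  rw [Pi.smul_apply, smul_eq_mul] at h2
  have h3 : σ (c 0) * c 0 = 1 := mul_right_cancel₀ hi (by rw [h2, one_mul])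
  rw [← hσq, mul_comm]
  exact h3

end cent

end Cfsg.Agent.helper14.GUConj
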