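import Mathlib
import Cfsg.Agent.Lib_helper14_SpAutW
import Cfsg.Agent.S0765

set_option autoImplicit false
set_option linter.unusedSectionVars false
set_option linter.unusedVariables false
set_option linter.unusedSimpArgs false

/-! The exceptional endomorphism of `Sp_4` in characteristic two, through the exterior square:
the matrix of two by two minors on the four non-symplectic coordinate pairs. -/

namespace Cfsg.Agent.helper14.Sp4G

open Matrix

variable {F : Type*} [Field F]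

local notation "II" => (Fin 2 ⊕ Fin 2)
local notation "MM" => Matrix (Fin 2 ⊕ Fin 2) (Fin 2 ⊕ Fin 2) F
local notation "Sp" => Matrix.symplecticGroup (Fin 2) F
local notation "JJ" => Matrix.J (Fin 2) F

/-- two by two minor -/
def M2 (g : MM) (c d a b : II) : F := g c a * g d b - g c b * g d a

/-- first entries of the four special pairs -/
def p1 : II → II
  | Sum.inl 0 => Sum.inl 0
  | Sum.inl 1 => Sum.inl 0
  | Sum.inr 0 => Sum.inr 0
  | Sum.inr 1 => Sum.inl 1

/-- second entries of the four special pairs -/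
def p2 : II → II
  | Sum.inl 0 => Sum.inl 1
  | Sum.inl 1 => Sum.inr 1
  | Sum.inr 0 => Sum.inr 1
  | Sum.inr 1 => Sum.inr 0

@[simp] theorem p1_a1 : p1 (Sum.inl 0) = Sum.inl 0 := rfl
@[simp] theorem p1_a2 : p1 (Sum.inl 1) = Sum.inl 0 := rfl
@[simp] theorem p1_b1 : p1 (Sum.inr 0) = Sum.inr 0 := rfl
@[simp] theorem p1_b2 : p1 (Sum.inr 1) = Sum.inl 1 := rfl
@[simp] theorem p2_a1 : p2 (Sum.inl 0) = Sum.inl 1 := rfl
@[simp] theorem p2_a2 : p2 (Sum.inl 1) = Sum.inr 1 := rfl
@[simp] theorem p2_b1 : p2 (Sum.inr 0) = Sum.inr 1 := rfl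
@[simp] theorem p2_b2 : p2 (Sum.inr 1) = Sum.inr 0 := rfl

/-- the matrix of minors on the special pairs -/
def ThM (g : MM) : MM := Matrix.of fun i j => M2 g (p1 i) (p2 i) (p1 j) (p2 j)

theorem ThM_apply (g : MM) (i j : II) : ThM g i j = M2 g (p1 i) (p2 i) (p1 j) (p2 j) := rfl

/-- Cauchy--Binet for two by two minors of four by four matrices -/
theorem cb (g h : MM) (c d a b : II) :
    M2 (g * h) c d a b =
      M2 g c d (Sum.inl 0) (Sum.inl 1) * M2 h (Sum.inl 0) (Sum.inl 1) a b +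
      M2 g c d (Sum.inl 0) (Sum.inr 1) * M2 h (Sum.inl 0) (Sum.inr 1) a b +
      M2 g c d (Sum.inr 0) (Sum.inr 1) * M2 h (Sum.inr 0) (Sum.inr 1) a b +
      M2 g c d (Sum.inl 1) (Sum.inr 0) * M2 h (Sum.inl 1) (Sum.inr 0) a b +
      M2 g c d (Sum.inl 0) (Sum.inr 0) * M2 h (Sum.inl 0) (Sum.inr 0) a b +
      M2 g c d (Sum.inl 1) (Sum.inr 1) * M2 h (Sum.inl 1) (Sum.inr 1) a b := by
  unfold M2
  simp only [Matrix.mul_apply, Fintype.sum_sum_type, Fin.sum_univ_two]
  ring

theorem J_special (i : II) : JJ (p1 i) (p2 i) = 0 := by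
  rcases i with i | i <;> fin_cases i <;> simp [Matrix.J, Matrix.one_apply]

/-- the row relations of a symplectic matrix -/
theorem row_rel (g : MM) (hg : g * JJ * gᵀ = JJ) (c d : II) :
    M2 g c d (Sum.inl 0) (Sum.inr 0) + M2 g c d (Sum.inl 1) (Sum.inr 1) = - JJ c d := by
  have h := congrFun (congrFun hg c) d
  rw [← h]
  unfold M2
  simp [Matrix.mul_apply, Fintype.sum_sum_type, Fin.sum_univ_two, Matrix.J, Matrix.one_apply]
  ring

/-- the column relations of a symplectic matrix -/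
theorem col_rel (g : MM) (hg : gᵀ * JJ * g = JJ) (a b : II) :
    M2 g (Sum.inl 0) (Sum.inr 0) a b + M2 g (Sum.inl 1) (Sum.inr 1) a b = - JJ a b := by
  have h := congrFun (congrFun hg a) b
  rw [← h]
  unfold M2
  simp [Matrix.mul_apply, Fintype.sum_sum_type, Fin.sum_univ_two, Matrix.J, Matrix.one_apply]
  ring

theorem ThM_mul (g h : MM) (hg : g * JJ * gᵀ = JJ) (hh : hᵀ * JJ * h = JJ) (h2 : (2 : F) = 0) :
    ThM (g * h) = ThM g * ThM h := by
  ext i j
  rw [ThM_apply, cb, Matrix.mul_apply]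
  simp only [Fintype.sum_sum_type, Fin.sum_univ_two, ThM_apply, p1_a1, p1_a2, p1_b1, p1_b2,
    p2_a1, p2_a2, p2_b1, p2_b2]
  have rg := row_rel g hg (p1 i) (p2 i)
  have rh := col_rel h hh (p1 j) (p2 j)
  rw [J_special, neg_zero] at rg rh
  linear_combination (M2 h (Sum.inl 0) (Sum.inr 0) (p1 j) (p2 j)) * rg +
    (M2 g (p1 i) (p2 i) (Sum.inl 1) (Sum.inr 1)) * rh -
    (M2 g (p1 i) (p2 i) (Sum.inl 1) (Sum.inr 1) * M2 h (Sum.inl 0) (Sum.inr 0) (p1 j) (p2 j)) * h2

theorem ThM_one : ThM (1 : MM) = 1 := by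
  ext i j
  rw [ThM_apply]
  unfold M2
  rcases i with i | i <;> fin_cases i <;> rcases j with j | j <;> fin_cases j <;>
    simp [Matrix.one_apply]

end Cfsg.Agent.helper14.Sp4G
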