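import Mathlib
import Cfsg.Agent.Lib_helper14_Sp4GA

set_option autoImplicit false
set_option linter.unusedSectionVars false
set_option linter.unusedVariables false
set_option linter.unusedSimpArgs false

namespace Cfsg.Agent.helper14.Sp4G

open Matrix Cfsg.Agent.helper4

variable {F : Type*} [Field F]

local notation "II" => (Fin 2 ⊕ Fin 2)
local notation "MM" => Matrix (Fin 2 ⊕ Fin 2) (Fin 2 ⊕ Fin 2) F
local notation "VV" => (Fin 2 ⊕ Fin 2 → F)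
local notation "Sp" => Matrix.symplecticGroup (Fin 2) F
local notation "JJ" => Matrix.J (Fin 2) F

/-- the vector with the given coordinates -/
def vec4 (x1 x2 y1 y2 : F) : VV := Sum.elim ![x1, x2] ![y1, y2]

@[simp] theorem vec4_a1 (x1 x2 y1 y2 : F) : vec4 x1 x2 y1 y2 (Sum.inl 0) = x1 := rfl
@[simp] theorem vec4_a2 (x1 x2 y1 y2 : F) : vec4 x1 x2 y1 y2 (Sum.inl 1) = x2 := rfl
@[simp] theorem vec4_b1 (x1 x2 y1 y2 : F) : vec4 x1 x2 y1 y2 (Sum.inr 0) = y1 := rfl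
@[simp] theorem vec4_b2 (x1 x2 y1 y2 : F) : vec4 x1 x2 y1 y2 (Sum.inr 1) = y2 := rfl

theorem vec4_eta (v : VV) :
    v = vec4 (v (Sum.inl 0)) (v (Sum.inl 1)) (v (Sum.inr 0)) (v (Sum.inr 1)) := by
  funext i
  rcases i with i | i <;> fin_cases i <;> rfl

/-- the nilpotent part of the image of a transvection -/
def DD (x1 x2 y1 y2 : F) : MM := Matrix.of fun i j =>
  match i, j with
  | Sum.inl 0, Sum.inl 0 => -(x1 * y1 + x2 * y2)
  | Sum.inl 0, Sum.inl 1 => x2 * x2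
  | Sum.inl 0, Sum.inr 0 => 0
  | Sum.inl 0, Sum.inr 1 => -(x1 * x1)
  | Sum.inl 1, Sum.inl 0 => -(y2 * y2)
  | Sum.inl 1, Sum.inl 1 => x2 * y2 - x1 * y1
  | Sum.inl 1, Sum.inr 0 => x1 * x1
  | Sum.inl 1, Sum.inr 1 => 0
  | Sum.inr 0, Sum.inl 0 => 0
  | Sum.inr 0, Sum.inl 1 => -(y1 * y1)
  | Sum.inr 0, Sum.inr 0 => x1 * y1 + x2 * y2
  | Sum.inr 0, Sum.inr 1 => y2 * y2
  | Sum.inr 1, Sum.inl 0 => y1 * y1
  | Sum.inr 1, Sum.inl 1 => 0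
  | Sum.inr 1, Sum.inr 0 => -(x2 * x2)
  | Sum.inr 1, Sum.inr 1 => x1 * y1 - x2 * y2

section entries
variable (x1 x2 y1 y2 : F)
@[simp] theorem DD_00 : DD x1 x2 y1 y2 (Sum.inl 0) (Sum.inl 0) = -(x1 * y1 + x2 * y2) := rfl
@[simp] theorem DD_01 : DD x1 x2 y1 y2 (Sum.inl 0) (Sum.inl 1) = x2 * x2 := rfl
@[simp] theorem DD_02 : DD x1 x2 y1 y2 (Sum.inl 0) (Sum.inr 0) = 0 := rfl
@[simp] theorem DD_03 : DD x1 x2 y1 y2 (Sum.inl 0) (Sum.inr 1) = -(x1 * x1) := rfl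
@[simp] theorem DD_10 : DD x1 x2 y1 y2 (Sum.inl 1) (Sum.inl 0) = -(y2 * y2) := rfl
@[simp] theorem DD_11 : DD x1 x2 y1 y2 (Sum.inl 1) (Sum.inl 1) = x2 * y2 - x1 * y1 := rfl
@[simp] theorem DD_12 : DD x1 x2 y1 y2 (Sum.inl 1) (Sum.inr 0) = x1 * x1 := rfl
@[simp] theorem DD_13 : DD x1 x2 y1 y2 (Sum.inl 1) (Sum.inr 1) = 0 := rfl
@[simp] theorem DD_20 : DD x1 x2 y1 y2 (Sum.inr 0) (Sum.inl 0) = 0 := rfl
@[simp] theorem DD_21 : DD x1 x2 y1 y2 (Sum.inr 0) (Sum.inl 1) = -(y1 * y1) := rfl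
@[simp] theorem DD_22 : DD x1 x2 y1 y2 (Sum.inr 0) (Sum.inr 0) = x1 * y1 + x2 * y2 := rfl
@[simp] theorem DD_23 : DD x1 x2 y1 y2 (Sum.inr 0) (Sum.inr 1) = y2 * y2 := rfl
@[simp] theorem DD_30 : DD x1 x2 y1 y2 (Sum.inr 1) (Sum.inl 0) = y1 * y1 := rfl
@[simp] theorem DD_31 : DD x1 x2 y1 y2 (Sum.inr 1) (Sum.inl 1) = 0 := rfl
@[simp] theorem DD_32 : DD x1 x2 y1 y2 (Sum.inr 1) (Sum.inr 0) = -(x2 * x2) := rfl
@[simp] theorem DD_33 : DD x1 x2 y1 y2 (Sum.inr 1) (Sum.inr 1) = x1 * y1 - x2 * y2 := rfl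
end entries

/-- entries of a transvection -/
theorem st_apply (v : VV) (c : F) (i j : II) :
    Cfsg.sympTransvection 2 v c i j = (1 : MM) i j + c * (v i * (JJ *ᵥ v) j) := by
  unfold Cfsg.sympTransvection
  rw [Matrix.add_apply, Matrix.smul_apply, Matrix.vecMulVec_apply, smul_eq_mul]

/-- the image of a transvection -/
theorem ThM_st (x1 x2 y1 y2 c : F) :
    ThM (Cfsg.sympTransvection 2 (vec4 x1 x2 y1 y2) c) = 1 + c • DD x1 x2 y1 y2 := by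
  ext i j
  rw [ThM_apply, Matrix.add_apply, Matrix.smul_apply, smul_eq_mul]
  unfold M2
  rcases i with i | i <;> fin_cases i <;> rcases j with j | j <;> fin_cases j <;>
    simp [st_apply, J_mulVec_apply_inl, J_mulVec_apply_inr, Matrix.one_apply] <;> ring

end Cfsg.Agent.helper14.Sp4G
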