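import Mathlib
import Cfsg.Agent.Lib_helper14_Sp4GB

set_option autoImplicit false
set_option linter.unusedSectionVars false
set_option linter.unusedVariables false
set_option linter.unusedSimpArgs false

namespace Cfsg.Agent.helper14.Sp4G

open Matrix Cfsg.Agent.helper4

variable {F : Type*} [Field F]

local notation "II" => (Fin 2 ⊕ Fin 2)
local notation "MM" => Matrix (Fin 2 ⊕ Fin 2) (Fin 2 ⊕ Fin 2) F
local notation "VV" => (Fin 2 ⊕ Fin 2 → F)
local notation "Sp" => Matrix.symplecticGroup (Fin 2) F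
local notation "JJ" => Matrix.J (Fin 2) F

theorem ext16 (A B : MM)
    (h00 : A (Sum.inl 0) (Sum.inl 0) = B (Sum.inl 0) (Sum.inl 0))
    (h01 : A (Sum.inl 0) (Sum.inl 1) = B (Sum.inl 0) (Sum.inl 1))
    (h02 : A (Sum.inl 0) (Sum.inr 0) = B (Sum.inl 0) (Sum.inr 0))
    (h03 : A (Sum.inl 0) (Sum.inr 1) = B (Sum.inl 0) (Sum.inr 1))
    (h10 : A (Sum.inl 1) (Sum.inl 0) = B (Sum.inl 1) (Sum.inl 0))
    (h11 : A (Sum.inl 1) (Sum.inl 1) = B (Sum.inl 1) (Sum.inl 1))
    (h12 : A (Sum.inl 1) (Sum.inr 0) = B (Sum.inl 1) (Sum.inr 0))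
    (h13 : A (Sum.inl 1) (Sum.inr 1) = B (Sum.inl 1) (Sum.inr 1))
    (h20 : A (Sum.inr 0) (Sum.inl 0) = B (Sum.inr 0) (Sum.inl 0))
    (h21 : A (Sum.inr 0) (Sum.inl 1) = B (Sum.inr 0) (Sum.inl 1))
    (h22 : A (Sum.inr 0) (Sum.inr 0) = B (Sum.inr 0) (Sum.inr 0))
    (h23 : A (Sum.inr 0) (Sum.inr 1) = B (Sum.inr 0) (Sum.inr 1))
    (h30 : A (Sum.inr 1) (Sum.inl 0) = B (Sum.inr 1) (Sum.inl 0))
    (h31 : A (Sum.inr 1) (Sum.inl 1) = B (Sum.inr 1) (Sum.inl 1))
    (h32 : A (Sum.inr 1) (Sum.inr 0) = B (Sum.inr 1) (Sum.inr 0))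
    (h33 : A (Sum.inr 1) (Sum.inr 1) = B (Sum.inr 1) (Sum.inr 1)) : A = B := by
  ext i j
  rcases i with i | i <;> fin_cases i <;> rcases j with j | j <;> fin_cases j <;> assumption

@[simp] theorem J_00 : JJ (Sum.inl 0) (Sum.inl 0) = 0 := by simp [Matrix.J, Matrix.one_apply]
@[simp] theorem J_01 : JJ (Sum.inl 0) (Sum.inl 1) = 0 := by simp [Matrix.J, Matrix.one_apply]
@[simp] theorem J_02 : JJ (Sum.inl 0) (Sum.inr 0) = -1 := by simp [Matrix.J, Matrix.one_apply]
@[simp] theorem J_03 : JJ (Sum.inl 0) (Sum.inr 1) = 0 := by simp [Matrix.J, Matrix.one_apply]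
@[simp] theorem J_10 : JJ (Sum.inl 1) (Sum.inl 0) = 0 := by simp [Matrix.J, Matrix.one_apply]
@[simp] theorem J_11 : JJ (Sum.inl 1) (Sum.inl 1) = 0 := by simp [Matrix.J, Matrix.one_apply]
@[simp] theorem J_12 : JJ (Sum.inl 1) (Sum.inr 0) = 0 := by simp [Matrix.J, Matrix.one_apply]
@[simp] theorem J_13 : JJ (Sum.inl 1) (Sum.inr 1) = -1 := by simp [Matrix.J, Matrix.one_apply]
@[simp] theorem J_20 : JJ (Sum.inr 0) (Sum.inl 0) = 1 := by simp [Matrix.J, Matrix.one_apply]
@[simp] theorem J_21 : JJ (Sum.inr 0) (Sum.inl 1) = 0 := by simp [Matrix.J, Matrix.one_apply]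
@[simp] theorem J_22 : JJ (Sum.inr 0) (Sum.inr 0) = 0 := by simp [Matrix.J, Matrix.one_apply]
@[simp] theorem J_23 : JJ (Sum.inr 0) (Sum.inr 1) = 0 := by simp [Matrix.J, Matrix.one_apply]
@[simp] theorem J_30 : JJ (Sum.inr 1) (Sum.inl 0) = 0 := by simp [Matrix.J, Matrix.one_apply]
@[simp] theorem J_31 : JJ (Sum.inr 1) (Sum.inl 1) = 1 := by simp [Matrix.J, Matrix.one_apply]
@[simp] theorem J_32 : JJ (Sum.inr 1) (Sum.inr 0) = 0 := by simp [Matrix.J, Matrix.one_apply]
@[simp] theorem J_33 : JJ (Sum.inr 1) (Sum.inr 1) = 0 := by simp [Matrix.J, Matrix.one_apply]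
@[simp] theorem one_00 : (1 : MM) (Sum.inl 0) (Sum.inl 0) = 1 := by simp [Matrix.one_apply]
@[simp] theorem one_01 : (1 : MM) (Sum.inl 0) (Sum.inl 1) = 0 := by simp [Matrix.one_apply]
@[simp] theorem one_02 : (1 : MM) (Sum.inl 0) (Sum.inr 0) = 0 := by simp [Matrix.one_apply]
@[simp] theorem one_03 : (1 : MM) (Sum.inl 0) (Sum.inr 1) = 0 := by simp [Matrix.one_apply]
@[simp] theorem one_10 : (1 : MM) (Sum.inl 1) (Sum.inl 0) = 0 := by simp [Matrix.one_apply]
@[simp] theorem one_11 : (1 : MM) (Sum.inl 1) (Sum.inl 1) = 1 := by simp [Matrix.one_apply]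
@[simp] theorem one_12 : (1 : MM) (Sum.inl 1) (Sum.inr 0) = 0 := by simp [Matrix.one_apply]
@[simp] theorem one_13 : (1 : MM) (Sum.inl 1) (Sum.inr 1) = 0 := by simp [Matrix.one_apply]
@[simp] theorem one_20 : (1 : MM) (Sum.inr 0) (Sum.inl 0) = 0 := by simp [Matrix.one_apply]
@[simp] theorem one_21 : (1 : MM) (Sum.inr 0) (Sum.inl 1) = 0 := by simp [Matrix.one_apply]
@[simp] theorem one_22 : (1 : MM) (Sum.inr 0) (Sum.inr 0) = 1 := by simp [Matrix.one_apply]
@[simp] theorem one_23 : (1 : MM) (Sum.inr 0) (Sum.inr 1) = 0 := by simp [Matrix.one_apply]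
@[simp] theorem one_30 : (1 : MM) (Sum.inr 1) (Sum.inl 0) = 0 := by simp [Matrix.one_apply]
@[simp] theorem one_31 : (1 : MM) (Sum.inr 1) (Sum.inl 1) = 0 := by simp [Matrix.one_apply]
@[simp] theorem one_32 : (1 : MM) (Sum.inr 1) (Sum.inr 0) = 0 := by simp [Matrix.one_apply]
@[simp] theorem one_33 : (1 : MM) (Sum.inr 1) (Sum.inr 1) = 1 := by simp [Matrix.one_apply]

theorem DD_symp (x1 x2 y1 y2 c : F) (h2 : (2 : F) = 0) :
    (1 + c • DD x1 x2 y1 y2) * JJ * (1 + c • DD x1 x2 y1 y2)ᵀ = JJ := by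
  apply ext16
  · simp only [Matrix.mul_apply, Fintype.sum_sum_type, Fin.sum_univ_two, Matrix.transpose_apply, Matrix.add_apply, Matrix.smul_apply, smul_eq_mul, DD_00, DD_01, DD_02, DD_03, DD_10, DD_11, DD_12, DD_13, DD_20, DD_21, DD_22, DD_23, DD_30, DD_31, DD_32, DD_33, J_00, J_01, J_02, J_03, J_10, J_11, J_12, J_13, J_20, J_21, J_22, J_23, J_30, J_31, J_32, J_33, one_00, one_01, one_02, one_03, one_10, one_11, one_12, one_13, one_20, one_21, one_22, one_23, one_30, one_31, one_32, one_33]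
    linear_combination (0) * h2
  · simp only [Matrix.mul_apply, Fintype.sum_sum_type, Fin.sum_univ_two, Matrix.transpose_apply, Matrix.add_apply, Matrix.smul_apply, smul_eq_mul, DD_00, DD_01, DD_02, DD_03, DD_10, DD_11, DD_12, DD_13, DD_20, DD_21, DD_22, DD_23, DD_30, DD_31, DD_32, DD_33, J_00, J_01, J_02, J_03, J_10, J_11, J_12, J_13, J_20, J_21, J_22, J_23, J_30, J_31, J_32, J_33, one_00, one_01, one_02, one_03, one_10, one_11, one_12, one_13, one_20, one_21, one_22, one_23, one_30, one_31, one_32, one_33]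
    linear_combination ((-1)*c*x1^2 + (1)*c^2*x1^3*y1) * h2
  · simp only [Matrix.mul_apply, Fintype.sum_sum_type, Fin.sum_univ_two, Matrix.transpose_apply, Matrix.add_apply, Matrix.smul_apply, smul_eq_mul, DD_00, DD_01, DD_02, DD_03, DD_10, DD_11, DD_12, DD_13, DD_20, DD_21, DD_22, DD_23, DD_30, DD_31, DD_32, DD_33, J_00, J_01, J_02, J_03, J_10, J_11, J_12, J_13, J_20, J_21, J_22, J_23, J_30, J_31, J_32, J_33, one_00, one_01, one_02, one_03, one_10, one_11, one_12, one_13, one_20, one_21, one_22, one_23, one_30, one_31, one_32, one_33]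
    linear_combination ((1)*c^2*x1*x2*y1*y2 + (1)*c^2*x1^2*y1^2) * h2
  · simp only [Matrix.mul_apply, Fintype.sum_sum_type, Fin.sum_univ_two, Matrix.transpose_apply, Matrix.add_apply, Matrix.smul_apply, smul_eq_mul, DD_00, DD_01, DD_02, DD_03, DD_10, DD_11, DD_12, DD_13, DD_20, DD_21, DD_22, DD_23, DD_30, DD_31, DD_32, DD_33, J_00, J_01, J_02, J_03, J_10, J_11, J_12, J_13, J_20, J_21, J_22, J_23, J_30, J_31, J_32, J_33, one_00, one_01, one_02, one_03, one_10, one_11, one_12, one_13, one_20, one_21, one_22, one_23, one_30, one_31, one_32, one_33]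
    linear_combination ((-1)*c^2*x1*x2^2*y1) * h2
  · simp only [Matrix.mul_apply, Fintype.sum_sum_type, Fin.sum_univ_two, Matrix.transpose_apply, Matrix.add_apply, Matrix.smul_apply, smul_eq_mul, DD_00, DD_01, DD_02, DD_03, DD_10, DD_11, DD_12, DD_13, DD_20, DD_21, DD_22, DD_23, DD_30, DD_31, DD_32, DD_33, J_00, J_01, J_02, J_03, J_10, J_11, J_12, J_13, J_20, J_21, J_22, J_23, J_30, J_31, J_32, J_33, one_00, one_01, one_02, one_03, one_10, one_11, one_12, one_13, one_20, one_21, one_22, one_23, one_30, one_31, one_32, one_33]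
    linear_combination ((1)*c*x1^2 + (-1)*c^2*x1^3*y1) * h2
  · simp only [Matrix.mul_apply, Fintype.sum_sum_type, Fin.sum_univ_two, Matrix.transpose_apply, Matrix.add_apply, Matrix.smul_apply, smul_eq_mul, DD_00, DD_01, DD_02, DD_03, DD_10, DD_11, DD_12, DD_13, DD_20, DD_21, DD_22, DD_23, DD_30, DD_31, DD_32, DD_33, J_00, J_01, J_02, J_03, J_10, J_11, J_12, J_13, J_20, J_21, J_22, J_23, J_30, J_31, J_32, J_33, one_00, one_01, one_02, one_03, one_10, one_11, one_12, one_13, one_20, one_21, one_22, one_23, one_30, one_31, one_32, one_33]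
    linear_combination (0) * h2
  · simp only [Matrix.mul_apply, Fintype.sum_sum_type, Fin.sum_univ_two, Matrix.transpose_apply, Matrix.add_apply, Matrix.smul_apply, smul_eq_mul, DD_00, DD_01, DD_02, DD_03, DD_10, DD_11, DD_12, DD_13, DD_20, DD_21, DD_22, DD_23, DD_30, DD_31, DD_32, DD_33, J_00, J_01, J_02, J_03, J_10, J_11, J_12, J_13, J_20, J_21, J_22, J_23, J_30, J_31, J_32, J_33, one_00, one_01, one_02, one_03, one_10, one_11, one_12, one_13, one_20, one_21, one_22, one_23, one_30, one_31, one_32, one_33]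
    linear_combination ((1)*c^2*x1*y1*y2^2) * h2
  · simp only [Matrix.mul_apply, Fintype.sum_sum_type, Fin.sum_univ_two, Matrix.transpose_apply, Matrix.add_apply, Matrix.smul_apply, smul_eq_mul, DD_00, DD_01, DD_02, DD_03, DD_10, DD_11, DD_12, DD_13, DD_20, DD_21, DD_22, DD_23, DD_30, DD_31, DD_32, DD_33, J_00, J_01, J_02, J_03, J_10, J_11, J_12, J_13, J_20, J_21, J_22, J_23, J_30, J_31, J_32, J_33, one_00, one_01, one_02, one_03, one_10, one_11, one_12, one_13, one_20, one_21, one_22, one_23, one_30, one_31, one_32, one_33]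
    linear_combination ((-1)*c^2*x1*x2*y1*y2 + (1)*c^2*x1^2*y1^2) * h2
  · simp only [Matrix.mul_apply, Fintype.sum_sum_type, Fin.sum_univ_two, Matrix.transpose_apply, Matrix.add_apply, Matrix.smul_apply, smul_eq_mul, DD_00, DD_01, DD_02, DD_03, DD_10, DD_11, DD_12, DD_13, DD_20, DD_21, DD_22, DD_23, DD_30, DD_31, DD_32, DD_33, J_00, J_01, J_02, J_03, J_10, J_11, J_12, J_13, J_20, J_21, J_22, J_23, J_30, J_31, J_32, J_33, one_00, one_01, one_02, one_03, one_10, one_11, one_12, one_13, one_20, one_21, one_22, one_23, one_30, one_31, one_32, one_33]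
    linear_combination ((-1)*c^2*x1*x2*y1*y2 + (-1)*c^2*x1^2*y1^2) * h2
  · simp only [Matrix.mul_apply, Fintype.sum_sum_type, Fin.sum_univ_two, Matrix.transpose_apply, Matrix.add_apply, Matrix.smul_apply, smul_eq_mul, DD_00, DD_01, DD_02, DD_03, DD_10, DD_11, DD_12, DD_13, DD_20, DD_21, DD_22, DD_23, DD_30, DD_31, DD_32, DD_33, J_00, J_01, J_02, J_03, J_10, J_11, J_12, J_13, J_20, J_21, J_22, J_23, J_30, J_31, J_32, J_33, one_00, one_01, one_02, one_03, one_10, one_11, one_12, one_13, one_20, one_21, one_22, one_23, one_30, one_31, one_32, one_33]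
    linear_combination ((-1)*c^2*x1*y1*y2^2) * h2
  · simp only [Matrix.mul_apply, Fintype.sum_sum_type, Fin.sum_univ_two, Matrix.transpose_apply, Matrix.add_apply, Matrix.smul_apply, smul_eq_mul, DD_00, DD_01, DD_02, DD_03, DD_10, DD_11, DD_12, DD_13, DD_20, DD_21, DD_22, DD_23, DD_30, DD_31, DD_32, DD_33, J_00, J_01, J_02, J_03, J_10, J_11, J_12, J_13, J_20, J_21, J_22, J_23, J_30, J_31, J_32, J_33, one_00, one_01, one_02, one_03, one_10, one_11, one_12, one_13, one_20, one_21, one_22, one_23, one_30, one_31, one_32, one_33]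
    linear_combination (0) * h2
  · simp only [Matrix.mul_apply, Fintype.sum_sum_type, Fin.sum_univ_two, Matrix.transpose_apply, Matrix.add_apply, Matrix.smul_apply, smul_eq_mul, DD_00, DD_01, DD_02, DD_03, DD_10, DD_11, DD_12, DD_13, DD_20, DD_21, DD_22, DD_23, DD_30, DD_31, DD_32, DD_33, J_00, J_01, J_02, J_03, J_10, J_11, J_12, J_13, J_20, J_21, J_22, J_23, J_30, J_31, J_32, J_33, one_00, one_01, one_02, one_03, one_10, one_11, one_12, one_13, one_20, one_21, one_22, one_23, one_30, one_31, one_32, one_33]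
    linear_combination ((1)*c*y1^2 + (1)*c^2*x1*y1^3) * h2
  · simp only [Matrix.mul_apply, Fintype.sum_sum_type, Fin.sum_univ_two, Matrix.transpose_apply, Matrix.add_apply, Matrix.smul_apply, smul_eq_mul, DD_00, DD_01, DD_02, DD_03, DD_10, DD_11, DD_12, DD_13, DD_20, DD_21, DD_22, DD_23, DD_30, DD_31, DD_32, DD_33, J_00, J_01, J_02, J_03, J_10, J_11, J_12, J_13, J_20, J_21, J_22, J_23, J_30, J_31, J_32, J_33, one_00, one_01, one_02, one_03, one_10, one_11, one_12, one_13, one_20, one_21, one_22, one_23, one_30, one_31, one_32, one_33]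
    linear_combination ((1)*c^2*x1*x2^2*y1) * h2
  · simp only [Matrix.mul_apply, Fintype.sum_sum_type, Fin.sum_univ_two, Matrix.transpose_apply, Matrix.add_apply, Matrix.smul_apply, smul_eq_mul, DD_00, DD_01, DD_02, DD_03, DD_10, DD_11, DD_12, DD_13, DD_20, DD_21, DD_22, DD_23, DD_30, DD_31, DD_32, DD_33, J_00, J_01, J_02, J_03, J_10, J_11, J_12, J_13, J_20, J_21, J_22, J_23, J_30, J_31, J_32, J_33, one_00, one_01, one_02, one_03, one_10, one_11, one_12, one_13, one_20, one_21, one_22, one_23, one_30, one_31, one_32, one_33]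
    linear_combination ((1)*c^2*x1*x2*y1*y2 + (-1)*c^2*x1^2*y1^2) * h2
  · simp only [Matrix.mul_apply, Fintype.sum_sum_type, Fin.sum_univ_two, Matrix.transpose_apply, Matrix.add_apply, Matrix.smul_apply, smul_eq_mul, DD_00, DD_01, DD_02, DD_03, DD_10, DD_11, DD_12, DD_13, DD_20, DD_21, DD_22, DD_23, DD_30, DD_31, DD_32, DD_33, J_00, J_01, J_02, J_03, J_10, J_11, J_12, J_13, J_20, J_21, J_22, J_23, J_30, J_31, J_32, J_33, one_00, one_01, one_02, one_03, one_10, one_11, one_12, one_13, one_20, one_21, one_22, one_23, one_30, one_31, one_32, one_33]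
    linear_combination ((-1)*c*y1^2 + (-1)*c^2*x1*y1^3) * h2
  · simp only [Matrix.mul_apply, Fintype.sum_sum_type, Fin.sum_univ_two, Matrix.transpose_apply, Matrix.add_apply, Matrix.smul_apply, smul_eq_mul, DD_00, DD_01, DD_02, DD_03, DD_10, DD_11, DD_12, DD_13, DD_20, DD_21, DD_22, DD_23, DD_30, DD_31, DD_32, DD_33, J_00, J_01, J_02, J_03, J_10, J_11, J_12, J_13, J_20, J_21, J_22, J_23, J_30, J_31, J_32, J_33, one_00, one_01, one_02, one_03, one_10, one_11, one_12, one_13, one_20, one_21, one_22, one_23, one_30, one_31, one_32, one_33]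
    linear_combination (0) * h2

theorem ThM_DD (x1 x2 y1 y2 c : F) (h2 : (2 : F) = 0) :
    ThM (1 + c • DD x1 x2 y1 y2) =
      Cfsg.sympTransvection 2 (vec4 (x1 ^ 2) (x2 ^ 2) (y1 ^ 2) (y2 ^ 2)) (c ^ 2) := by
  apply ext16
  · simp only [ThM_apply, M2, p1_a1, p1_a2, p1_b1, p1_b2, p2_a1, p2_a2, p2_b1, p2_b2, st_apply, J_mulVec_apply_inl, J_mulVec_apply_inr, vec4_a1, vec4_a2, vec4_b1, vec4_b2, Matrix.add_apply, Matrix.smul_apply, smul_eq_mul, DD_00, DD_01, DD_02, DD_03, DD_10, DD_11, DD_12, DD_13, DD_20, DD_21, DD_22, DD_23, DD_30, DD_31, DD_32, DD_33, one_00, one_01, one_02, one_03, one_10, one_11, one_12, one_13, one_20, one_21, one_22, one_23, one_30, one_31, one_32, one_33]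
    linear_combination ((-1)*c*x1*y1 + (1)*c^2*x1^2*y1^2) * h2
  · simp only [ThM_apply, M2, p1_a1, p1_a2, p1_b1, p1_b2, p2_a1, p2_a2, p2_b1, p2_b2, st_apply, J_mulVec_apply_inl, J_mulVec_apply_inr, vec4_a1, vec4_a2, vec4_b1, vec4_b2, Matrix.add_apply, Matrix.smul_apply, smul_eq_mul, DD_00, DD_01, DD_02, DD_03, DD_10, DD_11, DD_12, DD_13, DD_20, DD_21, DD_22, DD_23, DD_30, DD_31, DD_32, DD_33, one_00, one_01, one_02, one_03, one_10, one_11, one_12, one_13, one_20, one_21, one_22, one_23, one_30, one_31, one_32, one_33]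
    linear_combination (0) * h2
  · simp only [ThM_apply, M2, p1_a1, p1_a2, p1_b1, p1_b2, p2_a1, p2_a2, p2_b1, p2_b2, st_apply, J_mulVec_apply_inl, J_mulVec_apply_inr, vec4_a1, vec4_a2, vec4_b1, vec4_b2, Matrix.add_apply, Matrix.smul_apply, smul_eq_mul, DD_00, DD_01, DD_02, DD_03, DD_10, DD_11, DD_12, DD_13, DD_20, DD_21, DD_22, DD_23, DD_30, DD_31, DD_32, DD_33, one_00, one_01, one_02, one_03, one_10, one_11, one_12, one_13, one_20, one_21, one_22, one_23, one_30, one_31, one_32, one_33]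
    linear_combination (0) * h2
  · simp only [ThM_apply, M2, p1_a1, p1_a2, p1_b1, p1_b2, p2_a1, p2_a2, p2_b1, p2_b2, st_apply, J_mulVec_apply_inl, J_mulVec_apply_inr, vec4_a1, vec4_a2, vec4_b1, vec4_b2, Matrix.add_apply, Matrix.smul_apply, smul_eq_mul, DD_00, DD_01, DD_02, DD_03, DD_10, DD_11, DD_12, DD_13, DD_20, DD_21, DD_22, DD_23, DD_30, DD_31, DD_32, DD_33, one_00, one_01, one_02, one_03, one_10, one_11, one_12, one_13, one_20, one_21, one_22, one_23, one_30, one_31, one_32, one_33]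
    linear_combination (0) * h2
  · simp only [ThM_apply, M2, p1_a1, p1_a2, p1_b1, p1_b2, p2_a1, p2_a2, p2_b1, p2_b2, st_apply, J_mulVec_apply_inl, J_mulVec_apply_inr, vec4_a1, vec4_a2, vec4_b1, vec4_b2, Matrix.add_apply, Matrix.smul_apply, smul_eq_mul, DD_00, DD_01, DD_02, DD_03, DD_10, DD_11, DD_12, DD_13, DD_20, DD_21, DD_22, DD_23, DD_30, DD_31, DD_32, DD_33, one_00, one_01, one_02, one_03, one_10, one_11, one_12, one_13, one_20, one_21, one_22, one_23, one_30, one_31, one_32, one_33]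
    linear_combination (0) * h2
  · simp only [ThM_apply, M2, p1_a1, p1_a2, p1_b1, p1_b2, p2_a1, p2_a2, p2_b1, p2_b2, st_apply, J_mulVec_apply_inl, J_mulVec_apply_inr, vec4_a1, vec4_a2, vec4_b1, vec4_b2, Matrix.add_apply, Matrix.smul_apply, smul_eq_mul, DD_00, DD_01, DD_02, DD_03, DD_10, DD_11, DD_12, DD_13, DD_20, DD_21, DD_22, DD_23, DD_30, DD_31, DD_32, DD_33, one_00, one_01, one_02, one_03, one_10, one_11, one_12, one_13, one_20, one_21, one_22, one_23, one_30, one_31, one_32, one_33]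
    linear_combination ((-1)*c*x2*y2 + (1)*c^2*x2^2*y2^2) * h2
  · simp only [ThM_apply, M2, p1_a1, p1_a2, p1_b1, p1_b2, p2_a1, p2_a2, p2_b1, p2_b2, st_apply, J_mulVec_apply_inl, J_mulVec_apply_inr, vec4_a1, vec4_a2, vec4_b1, vec4_b2, Matrix.add_apply, Matrix.smul_apply, smul_eq_mul, DD_00, DD_01, DD_02, DD_03, DD_10, DD_11, DD_12, DD_13, DD_20, DD_21, DD_22, DD_23, DD_30, DD_31, DD_32, DD_33, one_00, one_01, one_02, one_03, one_10, one_11, one_12, one_13, one_20, one_21, one_22, one_23, one_30, one_31, one_32, one_33]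
    linear_combination ((-1)*c^2*x1^2*x2^2) * h2
  · simp only [ThM_apply, M2, p1_a1, p1_a2, p1_b1, p1_b2, p2_a1, p2_a2, p2_b1, p2_b2, st_apply, J_mulVec_apply_inl, J_mulVec_apply_inr, vec4_a1, vec4_a2, vec4_b1, vec4_b2, Matrix.add_apply, Matrix.smul_apply, smul_eq_mul, DD_00, DD_01, DD_02, DD_03, DD_10, DD_11, DD_12, DD_13, DD_20, DD_21, DD_22, DD_23, DD_30, DD_31, DD_32, DD_33, one_00, one_01, one_02, one_03, one_10, one_11, one_12, one_13, one_20, one_21, one_22, one_23, one_30, one_31, one_32, one_33]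
    linear_combination ((-1)*c^2*x2^4) * h2
  · simp only [ThM_apply, M2, p1_a1, p1_a2, p1_b1, p1_b2, p2_a1, p2_a2, p2_b1, p2_b2, st_apply, J_mulVec_apply_inl, J_mulVec_apply_inr, vec4_a1, vec4_a2, vec4_b1, vec4_b2, Matrix.add_apply, Matrix.smul_apply, smul_eq_mul, DD_00, DD_01, DD_02, DD_03, DD_10, DD_11, DD_12, DD_13, DD_20, DD_21, DD_22, DD_23, DD_30, DD_31, DD_32, DD_33, one_00, one_01, one_02, one_03, one_10, one_11, one_12, one_13, one_20, one_21, one_22, one_23, one_30, one_31, one_32, one_33]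
    linear_combination ((1)*c^2*y1^4) * h2
  · simp only [ThM_apply, M2, p1_a1, p1_a2, p1_b1, p1_b2, p2_a1, p2_a2, p2_b1, p2_b2, st_apply, J_mulVec_apply_inl, J_mulVec_apply_inr, vec4_a1, vec4_a2, vec4_b1, vec4_b2, Matrix.add_apply, Matrix.smul_apply, smul_eq_mul, DD_00, DD_01, DD_02, DD_03, DD_10, DD_11, DD_12, DD_13, DD_20, DD_21, DD_22, DD_23, DD_30, DD_31, DD_32, DD_33, one_00, one_01, one_02, one_03, one_10, one_11, one_12, one_13, one_20, one_21, one_22, one_23, one_30, one_31, one_32, one_33]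
    linear_combination (0) * h2
  · simp only [ThM_apply, M2, p1_a1, p1_a2, p1_b1, p1_b2, p2_a1, p2_a2, p2_b1, p2_b2, st_apply, J_mulVec_apply_inl, J_mulVec_apply_inr, vec4_a1, vec4_a2, vec4_b1, vec4_b2, Matrix.add_apply, Matrix.smul_apply, smul_eq_mul, DD_00, DD_01, DD_02, DD_03, DD_10, DD_11, DD_12, DD_13, DD_20, DD_21, DD_22, DD_23, DD_30, DD_31, DD_32, DD_33, one_00, one_01, one_02, one_03, one_10, one_11, one_12, one_13, one_20, one_21, one_22, one_23, one_30, one_31, one_32, one_33]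
    linear_combination ((1)*c*x1*y1) * h2
  · simp only [ThM_apply, M2, p1_a1, p1_a2, p1_b1, p1_b2, p2_a1, p2_a2, p2_b1, p2_b2, st_apply, J_mulVec_apply_inl, J_mulVec_apply_inr, vec4_a1, vec4_a2, vec4_b1, vec4_b2, Matrix.add_apply, Matrix.smul_apply, smul_eq_mul, DD_00, DD_01, DD_02, DD_03, DD_10, DD_11, DD_12, DD_13, DD_20, DD_21, DD_22, DD_23, DD_30, DD_31, DD_32, DD_33, one_00, one_01, one_02, one_03, one_10, one_11, one_12, one_13, one_20, one_21, one_22, one_23, one_30, one_31, one_32, one_33]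
    linear_combination (0) * h2
  · simp only [ThM_apply, M2, p1_a1, p1_a2, p1_b1, p1_b2, p2_a1, p2_a2, p2_b1, p2_b2, st_apply, J_mulVec_apply_inl, J_mulVec_apply_inr, vec4_a1, vec4_a2, vec4_b1, vec4_b2, Matrix.add_apply, Matrix.smul_apply, smul_eq_mul, DD_00, DD_01, DD_02, DD_03, DD_10, DD_11, DD_12, DD_13, DD_20, DD_21, DD_22, DD_23, DD_30, DD_31, DD_32, DD_33, one_00, one_01, one_02, one_03, one_10, one_11, one_12, one_13, one_20, one_21, one_22, one_23, one_30, one_31, one_32, one_33]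
    linear_combination ((1)*c^2*y1^2*y2^2) * h2
  · simp only [ThM_apply, M2, p1_a1, p1_a2, p1_b1, p1_b2, p2_a1, p2_a2, p2_b1, p2_b2, st_apply, J_mulVec_apply_inl, J_mulVec_apply_inr, vec4_a1, vec4_a2, vec4_b1, vec4_b2, Matrix.add_apply, Matrix.smul_apply, smul_eq_mul, DD_00, DD_01, DD_02, DD_03, DD_10, DD_11, DD_12, DD_13, DD_20, DD_21, DD_22, DD_23, DD_30, DD_31, DD_32, DD_33, one_00, one_01, one_02, one_03, one_10, one_11, one_12, one_13, one_20, one_21, one_22, one_23, one_30, one_31, one_32, one_33]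
    linear_combination (0) * h2
  · simp only [ThM_apply, M2, p1_a1, p1_a2, p1_b1, p1_b2, p2_a1, p2_a2, p2_b1, p2_b2, st_apply, J_mulVec_apply_inl, J_mulVec_apply_inr, vec4_a1, vec4_a2, vec4_b1, vec4_b2, Matrix.add_apply, Matrix.smul_apply, smul_eq_mul, DD_00, DD_01, DD_02, DD_03, DD_10, DD_11, DD_12, DD_13, DD_20, DD_21, DD_22, DD_23, DD_30, DD_31, DD_32, DD_33, one_00, one_01, one_02, one_03, one_10, one_11, one_12, one_13, one_20, one_21, one_22, one_23, one_30, one_31, one_32, one_33]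
    linear_combination (0) * h2
  · simp only [ThM_apply, M2, p1_a1, p1_a2, p1_b1, p1_b2, p2_a1, p2_a2, p2_b1, p2_b2, st_apply, J_mulVec_apply_inl, J_mulVec_apply_inr, vec4_a1, vec4_a2, vec4_b1, vec4_b2, Matrix.add_apply, Matrix.smul_apply, smul_eq_mul, DD_00, DD_01, DD_02, DD_03, DD_10, DD_11, DD_12, DD_13, DD_20, DD_21, DD_22, DD_23, DD_30, DD_31, DD_32, DD_33, one_00, one_01, one_02, one_03, one_10, one_11, one_12, one_13, one_20, one_21, one_22, one_23, one_30, one_31, one_32, one_33]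
    linear_combination ((1)*c*x2*y2) * h2

end Cfsg.Agent.helper14.Sp4G
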