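import Mathlib
import Cfsg.Agent.Lib_helper14_Sp4GC

set_option autoImplicit false
set_option linter.unusedSectionVars false
set_option linter.unusedVariables false
set_option linter.unusedSimpArgs false

namespace Cfsg.Agent.helper14.Sp4G

open Matrix Cfsg.Agent.helper4 Cfsg.Agent.helper29 Cfsg.Agent.helper29.SpRoot
open Cfsg.Agent.helper14.SpAut

variable {F : Type*} [Field F]

local notation "II" => (Fin 2 ⊕ Fin 2)
local notation "MM" => Matrix (Fin 2 ⊕ Fin 2) (Fin 2 ⊕ Fin 2) F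
local notation "VV" => (Fin 2 ⊕ Fin 2 → F)
local notation "Sp" => Matrix.symplecticGroup (Fin 2) F
local notation "JJ" => Matrix.J (Fin 2) F

theorem sp_row (g : Sp) : (g : MM) * JJ * (g : MM)ᵀ = JJ :=
  SymplecticGroup.mem_iff.mp g.2

theorem sp_col (g : Sp) : (g : MM)ᵀ * JJ * (g : MM) = JJ := by
  have h := SymplecticGroup.mem_iff.mp (SymplecticGroup.transpose_mem g.2)
  rw [Matrix.transpose_transpose] at h
  exact h

variable [CharP F 2]

theorem two0 : (2 : F) = 0 := CharTwo.two_eq_zero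

theorem ThM_mul_sp (a b : Sp) : ThM ((a * b : Sp) : MM) = ThM (a : MM) * ThM (b : MM) := by
  rw [Submonoid.coe_mul]
  exact ThM_mul _ _ (sp_row a) (sp_col b) two0

theorem ThM_mem (g : Sp) : ThM (g : MM) ∈ Matrix.symplecticGroup (Fin 2) F := by
  have hg : g ∈ Subgroup.closure
      {A : Sp | ∃ (w : VV) (c : F), (A : MM) = Cfsg.sympTransvection 2 w c} := by
    rw [Cfsg.Agent.S0765.result]
    trivial
  induction hg using Subgroup.closure_induction with
  | mem A hA =>
    obtain ⟨w, c, hA⟩ := hA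
    rw [hA, vec4_eta w, ThM_st, SymplecticGroup.mem_iff]
    exact DD_symp _ _ _ _ c two0
  | one =>
    rw [Submonoid.coe_one, ThM_one]
    exact one_mem _
  | mul a b ha hb iha ihb =>
    rw [ThM_mul_sp]
    exact mul_mem iha ihb
  | inv a ha iha =>
    obtain ⟨A, hA⟩ : ∃ A : Sp, (A : MM) = ThM (a : MM) := ⟨⟨_, iha⟩, rfl⟩
    have h1 : ThM ((a⁻¹ : Sp) : MM) * (A : MM) = 1 := by
      rw [hA, ← ThM_mul_sp, inv_mul_cancel, Submonoid.coe_one, ThM_one]
    have h2 : (A : MM) * ((A⁻¹ : Sp) : MM) = 1 := by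
      rw [← Submonoid.coe_mul, mul_inv_cancel, Submonoid.coe_one]
    have h3 : ThM ((a⁻¹ : Sp) : MM) = ((A⁻¹ : Sp) : MM) := by
      calc ThM ((a⁻¹ : Sp) : MM) = ThM ((a⁻¹ : Sp) : MM) * ((A : MM) * ((A⁻¹ : Sp) : MM)) := by
            rw [h2, mul_one]
        _ = ((A⁻¹ : Sp) : MM) := by rw [← mul_assoc, h1, one_mul]
    rw [h3]
    exact (A⁻¹ : Sp).2

/-- the exceptional endomorphism -/
def theta : Sp →* Sp where
  toFun g := ⟨ThM (g : MM), ThM_mem g⟩
  map_one' := by
    apply Subtype.ext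
    show ThM ((1 : Sp) : MM) = ((1 : Sp) : MM)
    rw [Submonoid.coe_one, ThM_one]
  map_mul' a b := by
    apply Subtype.ext
    show ThM ((a * b : Sp) : MM) = ((⟨ThM (a : MM), ThM_mem a⟩ * ⟨ThM (b : MM), ThM_mem b⟩ : Sp) : MM)
    rw [ThM_mul_sp]
    rfl

theorem theta_val (g : Sp) : ((theta g : Sp) : MM) = ThM (g : MM) := rfl

theorem tau_val (v : VV) (c : F) : ((tau v c : Sp) : MM) = Cfsg.sympTransvection 2 v c := rfl

theorem theta_tau_val (v : VV) (c : F) :
    ((theta (tau v c) : Sp) : MM) =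
      1 + c • DD (v (Sum.inl 0)) (v (Sum.inl 1)) (v (Sum.inr 0)) (v (Sum.inr 1)) := by
  rw [theta_val, tau_val]
  conv_lhs => rw [vec4_eta v]
  rw [ThM_st]

theorem theta_theta_tau (v : VV) (c : F) :
    theta (theta (tau v c)) = tau (fun i => v i ^ 2) (c ^ 2) := by
  apply Subtype.ext
  rw [theta_val, theta_tau_val, ThM_DD _ _ _ _ c two0, tau_val]
  congr 1
  funext i
  rcases i with i | i <;> fin_cases i <;> rfl

end Cfsg.Agent.helper14.Sp4G
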