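import Mathlib
import Cfsg.Agent.Lib_helper14_Sp4GD

set_option autoImplicit false
set_option linter.unusedSectionVars false
set_option linter.unusedVariables false
set_option linter.unusedSimpArgs false

namespace Cfsg.Agent.helper14.Sp4G

open Matrix Cfsg.Agent.helper4 Cfsg.Agent.helper29 Cfsg.Agent.helper29.SpRoot
open Cfsg.Agent.helper14.SpAut

variable {F : Type*} [Field F]

local notation "II" => (Fin 2 ⊕ Fin 2)
local notation "MM" => Matrix (Fin 2 ⊕ Fin 2) (Fin 2 ⊕ Fin 2) F
local notation "VV" => (Fin 2 ⊕ Fin 2 → F)
local notation "Sp" => Matrix.symplecticGroup (Fin 2) F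
local notation "JJ" => Matrix.J (Fin 2) F

variable [CharP F 2]

/-- squaring as a ring homomorphism -/
def frobHom (F : Type*) [Field F] [CharP F 2] : F →+* F where
  toFun a := a ^ 2
  map_one' := one_pow 2
  map_mul' a b := mul_pow a b 2
  map_zero' := zero_pow two_ne_zero
  map_add' a b := CharTwo.add_sq a b

variable [Finite F]

/-- the Frobenius automorphism -/
noncomputable def frob2 (F : Type*) [Field F] [CharP F 2] [Finite F] : F ≃+* F :=
  RingEquiv.ofBijective (frobHom F)
    ⟨(frobHom F).injective, Finite.surjective_of_injective (frobHom F).injective⟩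

theorem frob2_apply (a : F) : frob2 F a = a ^ 2 := rfl

theorem theta_comp_theta :
    (theta (F := F)).comp theta = (mapSp (m := 2) (frob2 F) : Sp ≃* Sp).toMonoidHom := by
  apply MonoidHom.eq_of_eqOn_dense (Cfsg.Agent.S0765.result (F := F) 2)
  rintro A ⟨w, c, hA⟩
  have hA' : A = tau w c := Subtype.ext hA
  show theta (theta A) = mapSp (frob2 F) A
  rw [hA', theta_theta_tau, mapSp_tau]
  rfl

theorem theta_theta (g : Sp) : theta (theta g) = mapSp (frob2 F) g := by
  have h := DFunLike.congr_fun (theta_comp_theta (F := F)) g
  exact h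

theorem theta_injective : Function.Injective (theta (F := F)) := by
  intro a b hab
  have h := congrArg theta hab
  rw [theta_theta, theta_theta] at h
  exact (mapSp (frob2 F)).injective h

theorem theta_surjective : Function.Surjective (theta (F := F)) := by
  intro b
  refine ⟨theta ((mapSp (frob2 F)).symm b), ?_⟩
  rw [theta_theta, MulEquiv.apply_symm_apply]

/-- the exceptional automorphism of `Sp_4` in characteristic two -/
noncomputable def gam (F : Type*) [Field F] [CharP F 2] [Finite F] :
    MulAut (Matrix.symplecticGroup (Fin 2) F) :=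
  MulEquiv.ofBijective (theta (F := F)) ⟨theta_injective, theta_surjective⟩

theorem gam_apply (g : Sp) : gam F g = theta g := rfl

theorem gam_sq : gam F * gam F = (mapSp (frob2 F) : MulAut Sp) := by
  ext g : 1
  rw [MulAut.mul_apply, gam_apply, gam_apply, theta_theta]

end Cfsg.Agent.helper14.Sp4G
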