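import Mathlib
import Cfsg.Agent.Lib_helper14_Sp4GE

set_option autoImplicit false
set_option linter.unusedSectionVars false
set_option linter.unusedVariables false
set_option linter.unusedSimpArgs false

namespace Cfsg.Agent.helper14.Sp4G

open Matrix Cfsg.Agent.helper4 Cfsg.Agent.helper29 Cfsg.Agent.helper29.SpRoot
open Cfsg.Agent.helper29.SpInv
open Cfsg.Agent.helper14.SpAut

variable {F : Type*} [Field F]

local notation "II" => (Fin 2 ⊕ Fin 2)
local notation "MM" => Matrix (Fin 2 ⊕ Fin 2) (Fin 2 ⊕ Fin 2) F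
local notation "VV" => (Fin 2 ⊕ Fin 2 → F)
local notation "Sp" => Matrix.symplecticGroup (Fin 2) F
local notation "JJ" => Matrix.J (Fin 2) F

variable [Fintype F] [CharP F 2]

/-- the first basis vector -/
def e1v (F : Type*) [Field F] : Fin 2 ⊕ Fin 2 → F := Pi.single (Sum.inl 0) 1

theorem e1v_ne : e1v F ≠ 0 := by
  intro h
  have := congrFun h (Sum.inl 0)
  unfold e1v at this
  rw [Pi.single_eq_same, Pi.zero_apply] at this
  exact one_ne_zero this

theorem e1v_eta : e1v F = vec4 1 0 0 0 := by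
  funext i
  unfold e1v
  rcases i with i | i <;> fin_cases i <;> simp [vec4]

theorem u0_mem : tau (e1v F) 1 ∈ TT4 F := by
  refine ⟨?_, rank_tau _ 1 e1v_ne one_ne_zero⟩
  rw [tau_mul, CharTwo.add_self_eq_zero, tau_zero]

theorem tau_mem_TT4 (w : VV) (d : F) (hw : w ≠ 0) (hd : d ≠ 0) : tau w d ∈ TT4 F := by
  refine ⟨?_, rank_tau _ _ hw hd⟩
  rw [tau_mul, CharTwo.add_self_eq_zero, tau_zero]

theorem theta_u0_not_TT4 : theta (tau (e1v F) 1) ∉ TT4 F := by
  intro h
  obtain ⟨w, d, hw, hd, hwd⟩ := tau_of_rank_one _ h.1 h.2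
  have hval : ((theta (tau (e1v F) 1) : Sp) : MM) = ((tau w d : Sp) : MM) := by rw [hwd]
  rw [theta_tau_val, tau_val] at hval
  have h02 := congrFun (congrFun hval (Sum.inl 0)) (Sum.inr 0)
  have h03 := congrFun (congrFun hval (Sum.inl 0)) (Sum.inr 1)
  rw [st_apply, Matrix.add_apply, Matrix.smul_apply, smul_eq_mul, J_mulVec_apply_inr] at h02 h03
  have ha : e1v F (Sum.inl 0) = 1 := by unfold e1v; rw [Pi.single_eq_same]
  have hb : e1v F (Sum.inl 1) = 0 := by unfold e1v; simp
  have hc : e1v F (Sum.inr 0) = 0 := by unfold e1v; simp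
  have hd' : e1v F (Sum.inr 1) = 0 := by unfold e1v; simp
  rw [ha, hb, hc, hd'] at h02 h03
  simp only [DD_02, DD_03, one_02, one_03, mul_zero, add_zero, zero_add, mul_one, one_mul] at h02 h03
  have hw0 : w (Sum.inl 0) = 0 := by
    have : d * (w (Sum.inl 0) * w (Sum.inl 0)) = 0 := h02.symm
    rcases mul_eq_zero.mp this with h | h
    · exact absurd h hd
    · exact mul_self_eq_zero.mp h
  rw [hw0, zero_mul, mul_zero] at h03
  exact one_ne_zero (neg_eq_zero.mp h03)

theorem gam_u0_mem : gam F (tau (e1v F) 1) ∈ SS4 F := by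
  rcases good_map (gam F) _ (Or.inl u0_mem) with h | h
  · exact absurd h theta_u0_not_TT4
  · exact h

/-- the exceptional automorphism on `PSp_4` -/
noncomputable def gamP (F : Type*) [Field F] [Fintype F] [CharP F 2] : MulAut (Cfsg.PSp 2 F) :=
  MulAut.congr (e04 (F := F)) (gam F)

theorem gamP_pm (s : Sp) : gamP F (pm s) = pm (gam F s) := by
  unfold gamP
  rw [MulAut.congr_apply]
  show e04 (gam F ((e04 (F := F)).symm (pm s))) = _
  rw [← e04_apply s, MulEquiv.symm_apply_apply, e04_apply]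

theorem congr_symm_gamP : MulAut.congr (e04 (F := F)).symm (gamP F) = gam F := by
  ext s : 1
  apply pm_injective_char2 (F := F) (m := 2) (by norm_num)
  rw [congr_e04, gamP_pm]

theorem gamP_sq : gamP F * gamP F = (phiF (frob2 F) : MulAut (Cfsg.PSp 2 F)) := by
  ext x : 1
  obtain ⟨s, rfl⟩ := pm_surj x
  rw [MulAut.mul_apply, gamP_pm, gamP_pm, phiF_pm, ← MulAut.mul_apply, gam_sq]

/-- every automorphism or its product with the exceptional one preserves transvections -/
theorem dichotomy (x : MulAut (Cfsg.PSp 2 F)) : TPa x ∨ TPa (x * gamP F) := by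
  obtain ⟨e, he⟩ : ∃ e : MulAut Sp, e = MulAut.congr (e04 (F := F)).symm x := ⟨_, rfl⟩
  rcases good_map e _ (Or.inl (u0_mem (F := F))) with h | h
  · left
    apply TPa_of_TT4_pres
    rw [← he]
    exact TT4_pres_of_one e _ u0_mem h
  · right
    have hsw := swap_back e _ u0_mem h
    apply TPa_of_TT4_pres
    rw [map_mul, congr_symm_gamP, ← he]
    apply TT4_pres_of_one (e * gam F) _ u0_mem
    rw [MulAut.mul_apply]
    exact hsw _ gam_u0_mem

theorem not_TPa_gamP : ¬ TPa (gamP F) := by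
  intro h
  obtain ⟨w, d, hw, hd, hwd⟩ := h.apply (e1v F) 1 e1v_ne one_ne_zero
  rw [gamP_pm] at hwd
  have h1 := pm_injective_char2 (F := F) (m := 2) (by norm_num) hwd
  have h2 : gam F (tau (e1v F) 1) ∈ TT4 F := by
    rw [h1]
    exact tau_mem_TT4 w d hw hd
  exact TT4_SS4_disjoint _ h2 gam_u0_mem

end Cfsg.Agent.helper14.Sp4G
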