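import Mathlib
import Cfsg.Agent.Lib_helper14_Sp4GF
import Cfsg.Agent.Lib_helper14_GalFix
import Cfsg.Agent.Lib_helper14_AutPslL
import Cfsg.Agent.Lib_helper14_SpAutZ3

set_option autoImplicit false
set_option linter.unusedSectionVars false
set_option linter.unusedVariables false
set_option linter.unusedSimpArgs false

namespace Cfsg.Agent.helper14.Sp4G

open Matrix Cfsg.Agent.helper4 Cfsg.Agent.helper29 Cfsg.Agent.helper29.SpRoot
open Cfsg.Agent.helper29.SpInv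
open Cfsg.Agent.helper14.SpAut

variable {F : Type*} [Field F]

local notation "II" => (Fin 2 ⊕ Fin 2)
local notation "MM" => Matrix (Fin 2 ⊕ Fin 2) (Fin 2 ⊕ Fin 2) F
local notation "VV" => (Fin 2 ⊕ Fin 2 → F)
local notation "Sp" => Matrix.symplecticGroup (Fin 2) F
local notation "GLm" => GL (Fin 2 ⊕ Fin 2) F
local notation "KK" => Cfsg.PSp 2 F

variable [Fintype F] [CharP F 2]

theorem frob2_gen (σ : F ≃+* F) : σ ∈ Subgroup.zpowers (frob2 F) := by
  apply Cfsg.Agent.helper14.mem_zpowers_of_fixes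
  intro a ha
  rw [frob2_apply] at ha
  have h1 : a * (a - 1) = 0 := by linear_combination ha
  rcases mul_eq_zero.mp h1 with h | h
  · rw [h, map_zero]
  · rw [sub_eq_zero.mp h, map_one]

theorem orderOf_frob2 {f : ℕ} (hF : Fintype.card F = 2 ^ f) : orderOf (frob2 F) = f := by
  haveI : Fact (Nat.Prime 2) := ⟨Nat.prime_two⟩
  rw [orderOf_eq_card_of_forall_mem_zpowers frob2_gen]
  exact Cfsg.Agent.helper14.card_ringAut hF

theorem TPa_phiF (σ : F ≃+* F) : TPa (phiF σ : MulAut KK) := by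
  have h := TPa.phiGS (m := 2) (1 : GLm) 1 Sim.one σ
  rw [phiGS_eq] at h
  have h1 : (⟨(1 : GLm), Sim.one.mem_GSp⟩ : ↥(Cfsg.GSp 2 F)) = 1 := rfl
  rw [h1, map_one, one_mul] at h
  exact h

theorem TPa_PhiG (g : ↥(Cfsg.GSp 2 F)) : TPa (PhiG g : MulAut KK) := by
  obtain ⟨μ, hμ⟩ := (mem_GSp_iff g.1).mp g.2
  have h := TPa.phiGS (m := 2) (g : GLm) μ hμ 1
  rw [phiGS_eq, phiF_one, mul_one] at h
  exact h

theorem TPa_of_inn (x : MulAut KK) (hx : x ∈ Cfsg.Inn KK) : TPa x := by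
  obtain ⟨y, rfl⟩ := hx
  obtain ⟨s, rfl⟩ := pm_surj y
  show TPa (MulAut.conj (pm s))
  rw [conj_pm_eq]
  exact TPa_PhiG _

theorem phiF_zpow (σ : F ≃+* F) (k : ℤ) : (phiF (σ ^ k) : MulAut KK) = phiF σ ^ k := by
  rw [← phiFHom_apply, ← phiFHom_apply, map_zpow]

theorem phiF_pow (σ : F ≃+* F) (k : ℕ) : (phiF (σ ^ k) : MulAut KK) = phiF σ ^ k := by
  rw [← phiFHom_apply, ← phiFHom_apply, map_pow]

/-- the class of the exceptional automorphism -/
noncomputable def cOut (F : Type*) [Field F] [Fintype F] [CharP F 2] : Cfsg.Out (Cfsg.PSp 2 F) :=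
  QuotientGroup.mk (gamP F)

theorem mk_mem_of_TPa (x : MulAut KK) (hT : TPa x) :
    (QuotientGroup.mk x : Cfsg.Out KK) ∈ Subgroup.zpowers (cOut F) := by
  obtain ⟨g, μ, hsim, σ, hx⟩ := aut_induced' (le_refl 2) hT
  rw [phiGS_eq] at hx
  obtain ⟨s, hs⟩ := PhiG_inner_char2 (⟨g, hsim.mem_GSp⟩ : ↥(Cfsg.GSp 2 F))
  obtain ⟨k, hk⟩ := Subgroup.mem_zpowers_iff.mp (frob2_gen σ)
  have h1 : (QuotientGroup.mk (PhiG (⟨g, hsim.mem_GSp⟩ : ↥(Cfsg.GSp 2 F))) : Cfsg.Out KK) = 1 := by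
    rw [QuotientGroup.eq_one_iff, hs]
    exact ⟨pm s, rfl⟩
  have h2 : (QuotientGroup.mk (phiF σ : MulAut KK) : Cfsg.Out KK) = (cOut F * cOut F) ^ k := by
    rw [← hk, phiF_zpow, ← gamP_sq]
    rfl
  rw [hx, QuotientGroup.mk_mul, h1, one_mul, h2]
  apply Subgroup.zpow_mem
  exact mul_mem (Subgroup.mem_zpowers _) (Subgroup.mem_zpowers _)

theorem mk_mem (y : Cfsg.Out KK) : y ∈ Subgroup.zpowers (cOut F) := by
  obtain ⟨x, rfl⟩ := QuotientGroup.mk_surjective y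
  rcases dichotomy x with h | h
  · exact mk_mem_of_TPa x h
  · have h1 := mk_mem_of_TPa _ h
    have h2 : (QuotientGroup.mk x : Cfsg.Out KK) =
        (QuotientGroup.mk (x * gamP F) : Cfsg.Out KK) * (cOut F)⁻¹ := by
      rw [QuotientGroup.mk_mul]
      unfold cOut
      group
    rw [h2]
    exact mul_mem h1 (inv_mem (Subgroup.mem_zpowers _))

theorem out_cyclic : IsCyclic (Cfsg.Out KK) :=
  ⟨⟨cOut F, fun y => Subgroup.mem_zpowers_iff.mp (mk_mem y)⟩⟩

theorem gamP_pow_even (j : ℕ) : gamP F ^ (2 * j) = (phiF (frob2 F ^ j) : MulAut KK) := by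
  rw [phiF_pow, ← gamP_sq, pow_mul, pow_two]

theorem dvd_of_pow_mem_inn {f : ℕ} (hF : Fintype.card F = 2 ^ f) (n : ℕ)
    (h : gamP F ^ n ∈ Cfsg.Inn KK) : 2 * f ∣ n := by
  have hT := TPa_of_inn _ h
  rcases Nat.even_or_odd' n with ⟨j, hj | hj⟩
  · rw [hj, gamP_pow_even] at h
    obtain ⟨y, hy⟩ := h
    obtain ⟨s, rfl⟩ := pm_surj y
    have hy' : MulAut.conj (pm s) = (phiF (frob2 F ^ j) : MulAut KK) := hy
    rw [conj_pm_eq] at hy'
    have h1 := phiF_eq_PhiG (by norm_num) (frob2 F ^ j) (toG s) hy'.symm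
    have h2 := orderOf_dvd_of_pow_eq_one h1
    rw [orderOf_frob2 hF] at h2
    rw [hj]
    exact Nat.mul_dvd_mul_left 2 h2
  · exfalso
    rw [hj, pow_succ, gamP_pow_even] at hT
    have h1 := TPa.mul hT (TPa_phiF (frob2 F ^ j)).inv
    rw [inv_mul_cancel_left] at h1
    exact not_TPa_gamP h1

theorem orderOf_cOut {f : ℕ} (hF : Fintype.card F = 2 ^ f) : orderOf (cOut F) = 2 * f := by
  apply Nat.dvd_antisymm
  · apply orderOf_dvd_of_pow_eq_one
    unfold cOut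
    rw [← QuotientGroup.mk_pow, QuotientGroup.eq_one_iff, gamP_pow_even]
    have h1 : frob2 F ^ f = 1 := by
      rw [← orderOf_frob2 hF]
      exact pow_orderOf_eq_one _
    rw [h1, phiF_one]
    exact one_mem _
  · apply dvd_of_pow_mem_inn hF
    have h1 : cOut F ^ orderOf (cOut F) = 1 := pow_orderOf_eq_one _
    unfold cOut at h1
    rw [← QuotientGroup.mk_pow, QuotientGroup.eq_one_iff] at h1
    exact h1

theorem out_card {f : ℕ} (hF : Fintype.card F = 2 ^ f) : Nat.card (Cfsg.Out KK) = 2 * f := by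
  rw [← orderOf_eq_card_of_forall_mem_zpowers mk_mem, orderOf_cOut hF]

end Cfsg.Agent.helper14.Sp4G
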