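import Mathlib

set_option autoImplicit false

namespace Cfsg.Agent.helper14.SpAut

theorem gcd_two_eq (a : ℕ) : Nat.gcd 2 a = if a % 2 = 0 then 2 else 1 := by
  split_ifs with h
  · exact Nat.gcd_eq_left (Nat.dvd_of_mod_eq_zero h)
  · have : Nat.Coprime 2 a := by
      rw [Nat.Prime.coprime_iff_not_dvd Nat.prime_two]
      intro h2
      exact h (Nat.mod_eq_zero_of_dvd h2)
    exact this

theorem geom_mod_two_odd (q : ℕ) (hq : q % 2 = 1) (r : ℕ) :
    (∑ k ∈ Finset.range r, q ^ k) % 2 = r % 2 := by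
  induction r with
  | zero => simp
  | succ r ih =>
    rw [Finset.sum_range_succ, Nat.add_mod, ih, Nat.pow_mod, hq, one_pow]
    omega

theorem geom_mod_two_even (q : ℕ) (hq : q % 2 = 0) (r : ℕ) :
    (∑ k ∈ Finset.range (r + 1), q ^ k) % 2 = 1 := by
  induction r with
  | zero => simp
  | succ r ih =>
    rw [Finset.sum_range_succ, Nat.add_mod, ih, Nat.pow_mod, hq, zero_pow (Nat.succ_ne_zero r)]
    rfl

theorem gcd_two_geom (p f r : ℕ) (hp : p.Prime) (hr : 0 < r) (hrf : r ∣ f) (hf : 1 ≤ f) (L : ℕ)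
    (hL : p ^ f - 1 = L * (p ^ (f / r) - 1)) :
    Nat.gcd 2 L = Nat.gcd (Nat.gcd 2 (p ^ f - 1)) r := by
  obtain ⟨q, hq⟩ : ∃ q, q = p ^ (f / r) := ⟨_, rfl⟩
  have hfr : 1 ≤ f / r := by
    obtain ⟨k, rfl⟩ := hrf
    rw [Nat.mul_div_cancel_left k hr]
    rcases Nat.eq_zero_or_pos k with h | h
    · subst h
      omega
    · exact h
  have hq2 : 2 ≤ q := by
    rw [hq]
    calc 2 ≤ p := hp.two_le
      _ = p ^ 1 := (pow_one p).symm
      _ ≤ p ^ (f / r) := Nat.pow_le_pow_right hp.pos hfr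
  have hpf : p ^ f = q ^ r := by
    rw [hq, ← pow_mul, Nat.div_mul_cancel hrf]
  rw [← hq, hpf] at hL
  have hLs : L = ∑ k ∈ Finset.range r, q ^ k := by
    rw [Nat.geomSum_eq hq2, hL]
    exact (Nat.mul_div_cancel L (by omega)).symm
  have hqmod : q % 2 = p % 2 := by
    rw [hq, Nat.pow_mod]
    rcases Nat.mod_two_eq_zero_or_one p with h | h
    · rw [h, zero_pow (by omega)]
      rfl
    · rw [h, one_pow]
      rfl
  have hpfmod : (p ^ f) % 2 = p % 2 := by
    rw [Nat.pow_mod]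
    rcases Nat.mod_two_eq_zero_or_one p with h | h
    · rw [h, zero_pow (by omega)]
      rfl
    · rw [h, one_pow]
      rfl
  have hpf1 : 1 ≤ p ^ f := Nat.one_le_pow _ _ hp.pos
  rw [gcd_two_eq L, gcd_two_eq (p ^ f - 1)]
  rcases Nat.mod_two_eq_zero_or_one p with h | h
  · -- p even
    have hL1 : L % 2 = 1 := by
      rw [hLs]
      obtain ⟨r', rfl⟩ : ∃ r', r = r' + 1 := ⟨r - 1, by omega⟩
      exact geom_mod_two_even q (by rw [hqmod, h]) r'
    have h3 : (p ^ f - 1) % 2 = 1 := by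
      rw [h] at hpfmod
      omega
    rw [if_neg (by omega), if_neg (by omega), Nat.gcd_one_left]
  · have hL1 : L % 2 = r % 2 := by
      rw [hLs]
      exact geom_mod_two_odd q (by rw [hqmod, h]) r
    have h3 : (p ^ f - 1) % 2 = 0 := by
      rw [h] at hpfmod
      omega
    rw [if_pos h3, gcd_two_eq r, hL1]

end Cfsg.Agent.helper14.SpAut
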