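import Mathlib
import Cfsg.Agent.Lib_helper14_SpCard
import Cfsg.Agent.Lib_helper14_SpAutX
import Cfsg.Agent.Lib_helper14_SpAutU

set_option autoImplicit false
set_option linter.unusedSectionVars false
set_option linter.unusedVariables false
set_option linter.unusedSimpArgs false

namespace Cfsg.Agent.helper14.SpAut

open Matrix Cfsg.Agent.helper4 Cfsg.Agent.helper29 Cfsg.Agent.helper29.SpRoot

variable {F : Type*} [Field F] {m : ℕ}

local notation "Sp" => Matrix.symplecticGroup (Fin m) F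
local notation "VV" => (Fin m ⊕ Fin m → F)
local notation "MM" => Matrix (Fin m ⊕ Fin m) (Fin m ⊕ Fin m) F
local notation "GLm" => GL (Fin m ⊕ Fin m) F
local notation "KK" => Cfsg.PSp m F

/-- minus the identity -/
def negOneSp : Sp := ⟨-1, SymplecticGroup.neg_mem (one_mem _)⟩

theorem negOneSp_val : ((negOneSp : Sp) : MM) = -1 := rfl

theorem negOneSp_mem_center : (negOneSp : Sp) ∈ Subgroup.center Sp := by
  rw [Subgroup.mem_center_iff]
  intro t
  apply Subtype.ext
  rw [Submonoid.coe_mul, Submonoid.coe_mul, negOneSp_val, mul_neg_one, neg_one_mul]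

theorem card_center_odd (hm : 1 ≤ m) (h2 : (2 : F) ≠ 0) : Nat.card (Subgroup.center Sp) = 2 := by
  rw [Nat.card_eq_two_iff]
  refine ⟨⟨1, one_mem _⟩, ⟨negOneSp, negOneSp_mem_center⟩, ?_, ?_⟩
  · intro h
    have h0 : (1 : Sp) = negOneSp := Subtype.ext_iff.mp h
    have h1 : ((1 : Sp) : MM) = ((negOneSp : Sp) : MM) := by rw [← h0]
    rw [negOneSp_val, Submonoid.coe_one] at h1
    have h3 := congrFun (congrFun h1 (Sum.inl ⟨0, hm⟩)) (Sum.inl ⟨0, hm⟩)
    rw [Matrix.neg_apply, Matrix.one_apply_eq] at h3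
    apply h2
    linear_combination h3
  · rw [Set.eq_univ_iff_forall]
    rintro ⟨z, hz⟩
    obtain ⟨c, hc, hzc⟩ := Cfsg.Agent.S0246.center_scalar hm z hz
    rcases mul_self_eq_one_iff.mp hc with h | h
    · left
      apply Subtype.ext
      apply Subtype.ext
      rw [hzc, h, one_smul]
      rfl
    · right
      apply Subtype.ext
      apply Subtype.ext
      rw [hzc, h, neg_smul, one_smul]
      rfl

theorem card_center_char2 [CharP F 2] (hm : 1 ≤ m) : Nat.card (Subgroup.center Sp) = 1 := by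
  have h : Subgroup.center Sp = ⊥ := by
    rw [Subgroup.eq_bot_iff_forall]
    intro z hz
    exact center_eq_one_char2 hm z hz
  rw [h, Subgroup.card_bot]

variable [Fintype F]

theorem card_center_sp (hm : 1 ≤ m) {p f : ℕ} [hp : Fact p.Prime] [CharP F p] (hf : 1 ≤ f) :
    Nat.card (Subgroup.center Sp) = Nat.gcd 2 (p ^ f - 1) := by
  rw [gcd_two_eq]
  by_cases hp2 : p = 2
  · subst hp2
    rw [card_center_char2 hm]
    have h1 : (2 ^ f - 1) % 2 = 1 := by
      obtain ⟨k, rfl⟩ : ∃ k, f = k + 1 := ⟨f - 1, by omega⟩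
      have : 2 ^ (k + 1) = 2 * 2 ^ k := by ring
      have hk : 0 < 2 ^ k := by positivity
      omega
    rw [if_neg (by omega)]
  · have h2 : (2 : F) ≠ 0 := by
      intro h
      have h3 : ((2 : ℕ) : F) = 0 := by exact_mod_cast h
      rw [CharP.cast_eq_zero_iff F p] at h3
      exact hp2 ((Nat.prime_dvd_prime_iff_eq hp.out Nat.prime_two).mp h3)
    rw [card_center_odd hm h2]
    have hodd : Odd (p ^ f) := by
      apply Odd.pow
      exact hp.out.odd_of_ne_two hp2
    obtain ⟨k, hk⟩ := hodd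
    rw [if_pos (by omega)]

theorem card_sp_eq (hm : 1 ≤ m) {p f : ℕ} [hp : Fact p.Prime] [CharP F p] (hf : 1 ≤ f) :
    Nat.card Sp = Nat.card KK * Nat.gcd 2 (p ^ f - 1) := by
  rw [Subgroup.card_eq_card_quotient_mul_card_subgroup (Subgroup.center Sp),
    card_center_sp (p := p) hm hf]

/-- the order of the automorphism group when every automorphism preserves transvections -/
theorem card_aut_std (hm : 2 ≤ m) (hT : ∀ β : MulAut KK, TPa β) {p f : ℕ} [hp : Fact p.Prime]
    [CharP F p] (hF : Fintype.card F = p ^ f) (hf : 1 ≤ f) :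
    Nat.card (MulAut KK) = Nat.gcd 2 (p ^ f - 1) * f * Nat.card KK := by
  have hm1 : 1 ≤ m := by omega
  obtain ⟨Θ, hΘ⟩ : ∃ Θ : ↥(PhiG (m := m) (F := F)).range × (F ≃+* F) → MulAut KK,
      ∀ x, Θ x = (x.1 : MulAut KK) * phiF x.2 := ⟨_, fun x => rfl⟩
  have hbij : Function.Bijective Θ := by
    constructor
    · rintro ⟨⟨δ, g, rfl⟩, σ⟩ ⟨⟨δ', g', rfl⟩, σ'⟩ hxy
      rw [hΘ, hΘ] at hxy
      simp only at hxy
      have h1 : (phiF (σ * σ'⁻¹) : MulAut KK) = PhiG (g⁻¹ * g') := by
        rw [phiF_mul, map_mul, map_inv]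
        have h2 : (phiF σ'⁻¹ : MulAut KK) = (phiF σ')⁻¹ := by
          rw [← phiFHom_apply, ← phiFHom_apply, map_inv]
        rw [h2]
        have h3 : (phiF σ : MulAut KK) = (PhiG g)⁻¹ * (PhiG g' * phiF σ') := by
          rw [← hxy]
          group
        rw [h3]
        group
      have h4 := phiF_eq_PhiG hm1 _ _ h1
      have hσ : σ = σ' := by
        have := mul_inv_eq_one.mp h4
        exact this
      subst hσ
      have hg : PhiG g = PhiG g' := mul_right_cancel hxy
      have : (⟨PhiG g, g, rfl⟩ : ↥(PhiG (m := m) (F := F)).range) = ⟨PhiG g', g', rfl⟩ :=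
        Subtype.ext hg
      rw [this]
    · intro β
      obtain ⟨g, μ, hsim, σ, hβ⟩ := aut_induced' hm (hT β)
      rw [phiGS_eq] at hβ
      refine ⟨(⟨PhiG ⟨g, hsim.mem_GSp⟩, _, rfl⟩, σ), ?_⟩
      rw [hΘ, hβ]
  rw [← Nat.card_eq_of_bijective Θ hbij, Nat.card_prod, card_range_PhiG hm1,
    Cfsg.Agent.helper14.card_ringAut hF, card_sp_eq (p := p) hm1 hf]
  ring

end Cfsg.Agent.helper14.SpAut
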