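import Mathlib
import Cfsg.Agent.Lib_helper14_Sp4GG
import Cfsg.Agent.Lib_helper14_SpCard2

set_option autoImplicit false
set_option linter.unusedSectionVars false
set_option linter.unusedVariables false
set_option linter.unusedSimpArgs false

namespace Cfsg.Agent.helper14.Sp4G

open Matrix Cfsg.Agent.helper4 Cfsg.Agent.helper29 Cfsg.Agent.helper29.SpRoot
open Cfsg.Agent.helper29.SpInv
open Cfsg.Agent.helper14.SpAut

variable {F : Type*} [Field F]

local notation "Sp" => Matrix.symplecticGroup (Fin 2) F
local notation "KK" => Cfsg.PSp 2 F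

variable [Fintype F] [CharP F 2]

theorem conj_injective_psp4 : Function.Injective (MulAut.conj : KK →* MulAut KK) := by
  rw [injective_iff_map_eq_one]
  intro y hy
  obtain ⟨s, rfl⟩ := pm_surj y
  have hcen : s ∈ Subgroup.center Sp := by
    rw [Subgroup.mem_center_iff]
    intro t
    have h1 := DFunLike.congr_fun hy (pm t)
    rw [MulAut.conj_apply, MulAut.one_apply] at h1
    have h2 : pm (s * t * s⁻¹) = pm t := by
      rw [pm_mul, pm_mul, pm_inv]
      exact h1
    have h3 := pm_injective_char2 (F := F) (m := 2) (by norm_num) h2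
    calc t * s = (s * t * s⁻¹) * s := by rw [h3]
      _ = s * t := by group
  rw [center_eq_one_char2 (by norm_num) s hcen]
  rfl

theorem card_inn_psp4 : Nat.card (Cfsg.Inn KK) = Nat.card KK :=
  (Nat.card_congr (MonoidHom.ofInjective (conj_injective_psp4 (F := F))).toEquiv).symm

theorem card_aut_psp4 {f : ℕ} (hF : Fintype.card F = 2 ^ f) :
    Nat.card (MulAut KK) = 2 * f * Nat.card KK := by
  rw [Subgroup.card_eq_card_quotient_mul_card_subgroup (Cfsg.Inn KK), card_inn_psp4]
  have h := out_card hF
  unfold Cfsg.Out at h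
  rw [h]

end Cfsg.Agent.helper14.Sp4G
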