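import Mathlib
import Cfsg.Agent.Lib_helper14_SpAutS

set_option autoImplicit false
set_option linter.unusedSectionVars false
set_option linter.unusedVariables false
set_option linter.unusedSimpArgs false

namespace Cfsg.Agent.helper14.SpAut

open Matrix Cfsg.Agent.helper4 Cfsg.Agent.helper29 Cfsg.Agent.helper29.SpRoot

section splitIdx
variable {F : Type*} [Field F] {m : ℕ}

local notation "GLm" => GL (Fin m ⊕ Fin m) F

theorem split_index_eq_sp [Fintype F] (hm : 1 ≤ m) (x₀ : MulAut (Cfsg.PSp m F))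
    (W Q : Subgroup Fˣ)
    (h1 : ∀ g : ↥(Cfsg.GSp m F), PhiG g ∈ Subgroup.centralizer {x₀} →
      ∃ a : Fˣ, ∃ b ∈ W, multG hm g = a ^ 2 * b)
    (h2 : ∀ b ∈ W, ∃ g : ↥(Cfsg.GSp m F), PhiG g ∈ Subgroup.centralizer {x₀} ∧
      multG hm g = b)
    (hQ : ∀ y, y ∈ Q ↔ ∃ a : Fˣ, ∃ b ∈ W, y = a ^ 2 * b) :
    Cfsg.splitClassCount (Cfsg.inndiagPSp m F) (Cfsg.Inn (Cfsg.PSp m F)) x₀ = Q.index := by
  have hnorm : ∀ h ∈ Cfsg.inndiagPSp m F,
      ∀ k ∈ Cfsg.Inn (Cfsg.PSp m F),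
      h * k * h⁻¹ ∈ Cfsg.Inn (Cfsg.PSp m F) := by
    rintro h - _ ⟨t, rfl⟩
    exact ⟨h t, (conj_aut h t).symm⟩
  rw [splitClassCount_eq_index _ _ inn_le_inndiag_sp hnorm]
  obtain ⟨H, hH⟩ : ∃ H : Subgroup (MulAut (Cfsg.PSp m F)),
      H = Cfsg.inndiagPSp m F := ⟨_, rfl⟩
  rw [← hH]
  have hHr : H = (PhiG (m := m) (F := F)).range := by rw [hH, inndiagPSp_eq]
  obtain ⟨fR, hfR, hfRs⟩ : ∃ fR : ↥(Cfsg.GSp m F) →* ↥H,
      (∀ g, ((fR g : ↥H) : MulAut (Cfsg.PSp m F)) = PhiG g) ∧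
        Function.Surjective fR := by
    subst hHr
    exact ⟨PhiG.rangeRestrict, fun g => rfl, PhiG.rangeRestrict_surjective⟩
  rw [← Subgroup.index_comap_of_surjective _ hfRs, ← Subgroup.comap_sup_eq _ _ _ hfRs]
  have hA : ((Cfsg.Inn (Cfsg.PSp m F)).subgroupOf H).comap fR =
      (powMonoidHom 2 : Fˣ →* Fˣ).range.comap (multG hm) := by
    ext g
    rw [Subgroup.mem_comap, Subgroup.mem_subgroupOf, hfR, PhiG_mem_inn_iff hm, Subgroup.mem_comap]
    constructor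
    · rintro ⟨u, hu⟩
      exact ⟨u, hu.symm⟩
    · rintro ⟨u, hu⟩
      exact ⟨u, hu.symm⟩
  have hB : ∀ g, g ∈ ((Subgroup.centralizer {x₀}).subgroupOf H).comap fR ↔
      PhiG g ∈ Subgroup.centralizer {x₀} := by
    intro g
    rw [Subgroup.mem_comap, Subgroup.mem_subgroupOf, hfR]
  have hsup : ((Cfsg.Inn (Cfsg.PSp m F)).subgroupOf H).comap fR ⊔
      ((Subgroup.centralizer {x₀}).subgroupOf H).comap fR =
      Q.comap (multG hm) := by
    apply le_antisymm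
    · apply sup_le
      · rw [hA]
        apply Subgroup.comap_mono
        rintro _ ⟨a, rfl⟩
        rw [hQ]
        exact ⟨a, 1, W.one_mem, by rw [mul_one]; rfl⟩
      · intro g hg
        rw [hB] at hg
        rw [Subgroup.mem_comap, hQ]
        exact h1 g hg
    · intro g hg
      rw [Subgroup.mem_comap, hQ] at hg
      obtain ⟨a, b, hb, hab⟩ := hg
      obtain ⟨gb, hgb, hdet⟩ := h2 b hb
      have e : g = (g * gb⁻¹) * gb := by group
      rw [e]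
      apply Subgroup.mul_mem_sup
      · rw [hA, Subgroup.mem_comap]
        refine ⟨a, ?_⟩
        rw [map_mul, map_inv, hab, hdet, powMonoidHom_apply]
        group
      · rw [hB]
        exact hgb
  rw [hsup]
  apply Subgroup.index_comap_of_surjective
  intro u
  exact ⟨diagG u, multG_diagG hm u⟩

end splitIdx

section fieldSplit
variable {m : ℕ} {F : Type*} [Field F] [Fintype F] {F₀ : Type*} [Field F₀] [Fintype F₀]

theorem field_split_count_sp (hm : 1 ≤ m) (σ : F ≃+* F) (ι : F₀ →+* F)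
    (hι : ∀ a : F, σ a = a ↔ a ∈ ι.range) (L : ℕ)
    (hL : Fintype.card F - 1 = L * (Fintype.card F₀ - 1)) :
    Cfsg.splitClassCount (Cfsg.inndiagPSp m F)
      (Cfsg.Inn (Cfsg.PSp m F)) (phiF σ) = Nat.gcd 2 L := by
  obtain ⟨W, hW⟩ : ∃ W : Subgroup Fˣ, W = (Units.map (ι : F₀ →* F)).range := ⟨_, rfl⟩
  obtain ⟨Q, hQ⟩ : ∃ Q : Subgroup Fˣ, Q = (powMonoidHom 2 : Fˣ →* Fˣ).range ⊔ W := ⟨_, rfl⟩
  have hQm : ∀ y, y ∈ Q ↔ ∃ a : Fˣ, ∃ b ∈ W, y = a ^ 2 * b := by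
    intro y
    rw [hQ, Subgroup.mem_sup]
    constructor
    · rintro ⟨_, ⟨a, rfl⟩, b, hb, rfl⟩
      exact ⟨a, b, hb, rfl⟩
    · rintro ⟨a, b, hb, rfl⟩
      exact ⟨_, ⟨a, rfl⟩, b, hb, rfl⟩
  have h1 : ∀ g : ↥(Cfsg.GSp m F), PhiG g ∈ Subgroup.centralizer {phiF σ} →
      ∃ a : Fˣ, ∃ b ∈ W, multG hm g = a ^ 2 * b := by
    intro g hg
    rw [PhiG_mem_cent_phiF_iff hm σ ι hι] at hg
    obtain ⟨l, g₀, rfl⟩ := hg
    refine ⟨l, Units.map (ι : F₀ →* F) (multG hm g₀), ?_, ?_⟩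
    · rw [hW]
      exact ⟨_, rfl⟩
    · rw [map_mul, multG_scalG, multG_mapι, pow_two]
  have h2 : ∀ b ∈ W, ∃ g : ↥(Cfsg.GSp m F), PhiG g ∈ Subgroup.centralizer {phiF σ} ∧
      multG hm g = b := by
    intro b hb
    rw [hW] at hb
    obtain ⟨b₀, rfl⟩ := hb
    refine ⟨mapι ι (diagG b₀), ?_, ?_⟩
    · rw [PhiG_mem_cent_phiF_iff hm σ ι hι]
      refine ⟨1, diagG b₀, ?_⟩
      have : (scalG (1 : Fˣ) : ↥(Cfsg.GSp m F)) = 1 := by
        apply Subtype.ext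
        show Matrix.GeneralLinearGroup.scalar (Fin m ⊕ Fin m) (1 : Fˣ) = 1
        rw [map_one]
      rw [this, one_mul]
    · rw [multG_mapι, multG_diagG]
  rw [split_index_eq_sp hm (phiF σ) W Q h1 h2 hQm]
  have hcW : Nat.card W = Fintype.card F₀ - 1 := by
    rw [hW, Nat.card_congr (MonoidHom.ofInjective
      (Units.map_injective (f := (ι : F₀ →* F)) ι.injective)).toEquiv.symm, Nat.card_units,
      Nat.card_eq_fintype_card]
  have hcF : Nat.card Fˣ = L * (Fintype.card F₀ - 1) := by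
    rw [Nat.card_units, Nat.card_eq_fintype_card, hL]
  exact cyclic_index 2 _ L hcF W hcW Q hQm

end fieldSplit

end Cfsg.Agent.helper14.SpAut
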