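import Mathlib
import Cfsg.Agent.Lib_helper14_InnDiagA
import Cfsg.Agent.Lib_helper13_ReflB
import Cfsg.Agent.Lib_helper13_ReflE
import Cfsg.Agent.Lib_helper13_MaxTS

/-! Linear algebra for a similarity whose square is a scalar: eigenvectors, invariant maximal
totally singular subspaces, and vectors orthogonal to their image. -/

set_option autoImplicit false

namespace Cfsg.Agent.helper14

open Matrix QuadraticMap Module Cfsg.Agent.helper13

theorem exists_diag_rep {K : Type*} [Field K] [Fintype K] (hcard : Fintype.card K % 2 = 1)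
    (a b c : K) (ha : a ≠ 0) (hb : b ≠ 0) : ∃ x y : K, a * x ^ 2 + b * y ^ 2 = c := by
  have hf2 : (Polynomial.C a * Polynomial.X ^ 2 : Polynomial K).degree = 2 := by
    rw [Polynomial.degree_C_mul_X_pow 2 ha]
    rfl
  have hg2 : (Polynomial.C b * Polynomial.X ^ 2 + Polynomial.C (-c) : Polynomial K).degree = 2 := by
    rw [Polynomial.degree_add_C, Polynomial.degree_C_mul_X_pow 2 hb]
    · rfl
    · rw [Polynomial.degree_C_mul_X_pow 2 hb]; decide
  obtain ⟨s, t, hst⟩ := FiniteField.exists_root_sum_quadratic hf2 hg2 hcard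
  simp only [Polynomial.eval_add, Polynomial.eval_mul, Polynomial.eval_C, Polynomial.eval_pow,
    Polynomial.eval_X] at hst
  exact ⟨s, t, by linear_combination hst⟩

theorem card_mod_two_of_two_ne_zero {F : Type*} [Field F] [Fintype F] (h2 : (2 : F) ≠ 0) :
    Fintype.card F % 2 = 1 := by
  apply FiniteField.odd_card_of_char_ne_two
  intro hch
  haveI : CharP F 2 := ringChar.of_eq hch
  apply h2
  have := CharP.cast_eq_zero F 2
  exact_mod_cast this

section splitB
variable {F : Type*} [Field F] {ι : Type} [Fintype ι] [DecidableEq ι]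
variable (Q : QuadraticForm F (ι → F))

theorem exists_nonsing_orth (hQ : (polarBilin Q).Nondegenerate) {m : ℕ}
    (hV : finrank F (ι → F) = 2 * m) (S : Submodule F (ι → F)) (hS : finrank F S < m) :
    ∃ x ∈ orthQ Q S, Q x ≠ 0 := by
  by_contra hcon
  push Not at hcon
  have hts : TS Q (orthQ Q S) := hcon
  have h1 := ts_finrank_le Q hQ hV hts
  rw [LinearMap.BilinForm.finrank_orthogonal hQ, hV] at h1
  omega

theorem finrank_span_pair_le (x y : ι → F) :
    finrank F (Submodule.span F ({x, y} : Set (ι → F))) ≤ 2 := by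
  classical
  have h := finrank_span_finset_le_card (R := F) ({x, y} : Finset (ι → F))
  rw [Finset.coe_insert, Finset.coe_singleton] at h
  exact le_trans h Finset.card_le_two

theorem finrank_span_single_le (x : ι → F) :
    finrank F (Submodule.span F ({x} : Set (ι → F))) ≤ 1 := by
  classical
  have h := finrank_span_finset_le_card (R := F) ({x} : Finset (ι → F))
  rw [Finset.coe_singleton, Finset.card_singleton] at h
  exact h

variable (T : (ι → F) →ₗ[F] (ι → F))

/-- self-adjointness when `T ∘ T = μ` -/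
theorem polar_T_adj (μ : F) (hμ : μ ≠ 0) (hT2 : ∀ v, T (T v) = μ • v)
    (hTB : ∀ u v, polar (⇑Q) (T u) (T v) = μ * polar (⇑Q) u v) (u v : ι → F) :
    polar (⇑Q) (T u) v = polar (⇑Q) u (T v) := by
  have h1 := hTB u (T v)
  rw [hT2, polar_smul_right, smul_eq_mul] at h1
  exact mul_left_cancel₀ hμ h1

/-- when `T ∘ T = -μ` every vector is orthogonal to its image -/
theorem polar_T_self_zero (h2 : (2 : F) ≠ 0) (μ : F) (hμ : μ ≠ 0)
    (hT2 : ∀ v, T (T v) = (-μ) • v)
    (hTB : ∀ u v, polar (⇑Q) (T u) (T v) = μ * polar (⇑Q) u v) (x : ι → F) :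
    polar (⇑Q) x (T x) = 0 := by
  have h1 := hTB x (T x)
  rw [hT2, polar_smul_right, smul_eq_mul] at h1
  have h3 : polar (⇑Q) (T x) x = polar (⇑Q) x (T x) := polar_comm _ _ _
  rw [h3] at h1
  have h4 : (2 * μ) * polar (⇑Q) x (T x) = 0 := by linear_combination -h1
  rcases mul_eq_zero.mp h4 with h | h
  · exact absurd h (mul_ne_zero h2 hμ)
  · exact h

theorem exists_eigen (h2 : (2 : F) ≠ 0) (hQ : (polarBilin Q).Nondegenerate) {m : ℕ}
    (hV : finrank F (ι → F) = 2 * m) (lam : F) (hlam : lam ≠ 0)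
    (hT2 : ∀ v, T (T v) = (lam * lam) • v)
    (hTQ : ∀ v, Q (T v) = (lam * lam) * Q v)
    (hTB : ∀ u v, polar (⇑Q) (T u) (T v) = (lam * lam) * polar (⇑Q) u v)
    (S : Submodule F (ι → F)) (hST : ∀ s ∈ S, T s ∈ S) (hSd : finrank F S < m) :
    ∃ e ∈ orthQ Q S, Q e ≠ 0 ∧ (T e = lam • e ∨ T e = (-lam) • e) := by
  have hμ : lam * lam ≠ 0 := mul_ne_zero hlam hlam
  obtain ⟨x, hxS, hx⟩ := exists_nonsing_orth Q hQ hV S hSd
  have hTx : T x ∈ orthQ Q S := by
    rw [mem_orth_iff] at hxS ⊢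
    intro s hs
    rw [← polar_T_adj Q T (lam * lam) hμ hT2 hTB s x]
    exact hxS (T s) (hST s hs)
  have hsum := Q_add_sub Q (lam • x) (T x)
  rw [QuadraticMap.map_smul, hTQ, smul_eq_mul] at hsum
  by_cases hA : Q (lam • x + T x) ≠ 0
  · refine ⟨lam • x + T x, (orthQ Q S).add_mem ((orthQ Q S).smul_mem _ hxS) hTx, hA, Or.inl ?_⟩
    rw [map_add, map_smul, hT2]
    module
  · push Not at hA
    have hB : Q (lam • x - T x) ≠ 0 := by
      intro h0
      rw [h0, hA] at hsum
      have h5 : (2 * 2) * ((lam * lam) * Q x) = 0 := by linear_combination -hsum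
      exact (mul_ne_zero (mul_ne_zero h2 h2) (mul_ne_zero hμ hx)) h5
    refine ⟨lam • x - T x, (orthQ Q S).sub_mem ((orthQ Q S).smul_mem _ hxS) hTx, hB, Or.inr ?_⟩
    rw [map_sub, map_smul, hT2]
    module

theorem pair_of_same_eigen [Fintype F] (h2 : (2 : F) ≠ 0) (e f : ι → F) (he : Q e ≠ 0)
    (hf : Q f ≠ 0) (hef : polar (⇑Q) e f = 0) (c : F) (hc : c ≠ 0) (hTe : T e = c • e)
    (hTf : T f = c • f) :
    ∃ u v : ι → F, Q u ≠ 0 ∧ Q v ≠ 0 ∧ ¬ IsSquare (Q u * Q v) ∧
      ∃ a b : F, a ≠ 0 ∧ b ≠ 0 ∧ T u = a • u ∧ T v = b • v := by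
  obtain ⟨ν, hν⟩ := FiniteField.exists_nonsquare (ringChar_ne_two_of (F := F) h2)
  have hν0 : ν ≠ 0 := by
    rintro rfl
    exact hν ⟨0, by ring⟩
  obtain ⟨x, y, hxy⟩ := exists_diag_rep (card_mod_two_of_two_ne_zero h2) (Q e) (Q f) (ν * Q e) he hf
  have hQv : Q (x • e + y • f) = ν * Q e := by
    rw [Q_add_polar, QuadraticMap.map_smul, QuadraticMap.map_smul, polar_smul_left,
      polar_smul_right, hef]
    simp only [smul_eq_mul, mul_zero, add_zero]
    linear_combination hxy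
  refine ⟨e, x • e + y • f, he, ?_, ?_, c, c, hc, hc, hTe, ?_⟩
  · rw [hQv]; exact mul_ne_zero hν0 he
  · rw [hQv]
    rintro ⟨s, hs⟩
    apply hν
    refine ⟨s / Q e, ?_⟩
    field_simp
    linear_combination hs
  · rw [map_add, map_smul, map_smul, hTe, hTf]
    module

theorem exists_pair_IIa [Fintype F] (h2 : (2 : F) ≠ 0) (hQ : (polarBilin Q).Nondegenerate)
    {m : ℕ} (hV : finrank F (ι → F) = 2 * m) (hm : 3 ≤ m) (lam : F) (hlam : lam ≠ 0)
    (hT2 : ∀ v, T (T v) = (lam * lam) • v)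
    (hTQ : ∀ v, Q (T v) = (lam * lam) * Q v)
    (hTB : ∀ u v, polar (⇑Q) (T u) (T v) = (lam * lam) * polar (⇑Q) u v) :
    ∃ u v : ι → F, Q u ≠ 0 ∧ Q v ≠ 0 ∧ ¬ IsSquare (Q u * Q v) ∧
      ∃ a b : F, a ≠ 0 ∧ b ≠ 0 ∧ T u = a • u ∧ T v = b • v := by
  have hnl : -lam ≠ 0 := neg_ne_zero.mpr hlam
  obtain ⟨e₁, -, he₁, hT₁⟩ := exists_eigen Q T h2 hQ hV lam hlam hT2 hTQ hTB ⊥
    (by intro s hs; rw [Submodule.mem_bot] at hs ⊢; rw [hs, map_zero])
    (by rw [finrank_bot]; omega)
  have hS1 : ∀ s ∈ Submodule.span F ({e₁} : Set (ι → F)),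
      T s ∈ Submodule.span F ({e₁} : Set (ι → F)) := by
    intro s hs
    obtain ⟨a, rfl⟩ := Submodule.mem_span_singleton.mp hs
    rw [map_smul]
    apply Submodule.smul_mem
    rcases hT₁ with h | h <;> rw [h] <;>
      exact Submodule.smul_mem _ _ (Submodule.mem_span_singleton_self _)
  obtain ⟨e₂, he₂S, he₂, hT₂⟩ := exists_eigen Q T h2 hQ hV lam hlam hT2 hTQ hTB
    (Submodule.span F ({e₁} : Set (ι → F))) hS1
    (lt_of_le_of_lt (finrank_span_single_le e₁) (by omega))
  have h12 : polar (⇑Q) e₁ e₂ = 0 := (mem_orth_singleton_iff Q e₁ e₂).mp he₂S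
  have hS2 : ∀ s ∈ Submodule.span F ({e₁, e₂} : Set (ι → F)),
      T s ∈ Submodule.span F ({e₁, e₂} : Set (ι → F)) := by
    intro s hs
    obtain ⟨a, b, rfl⟩ := Submodule.mem_span_pair.mp hs
    rw [map_add, map_smul, map_smul]
    have m1 : e₁ ∈ Submodule.span F ({e₁, e₂} : Set (ι → F)) :=
      Submodule.subset_span (by simp)
    have m2 : e₂ ∈ Submodule.span F ({e₁, e₂} : Set (ι → F)) :=
      Submodule.subset_span (by simp)
    apply Submodule.add_mem
    · apply Submodule.smul_mem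
      rcases hT₁ with h | h <;> rw [h] <;> exact Submodule.smul_mem _ _ m1
    · apply Submodule.smul_mem
      rcases hT₂ with h | h <;> rw [h] <;> exact Submodule.smul_mem _ _ m2
  obtain ⟨e₃, he₃S, he₃, hT₃⟩ := exists_eigen Q T h2 hQ hV lam hlam hT2 hTQ hTB
    (Submodule.span F ({e₁, e₂} : Set (ι → F))) hS2
    (lt_of_le_of_lt (finrank_span_pair_le e₁ e₂) (by omega))
  rw [mem_orth_iff] at he₃S
  have h13 : polar (⇑Q) e₁ e₃ = 0 := he₃S e₁ (Submodule.subset_span (by simp))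
  have h23 : polar (⇑Q) e₂ e₃ = 0 := he₃S e₂ (Submodule.subset_span (by simp))
  rcases hT₁ with h1 | h1 <;> rcases hT₂ with h2' | h2' <;> rcases hT₃ with h3 | h3
  · exact pair_of_same_eigen Q T h2 e₁ e₂ he₁ he₂ h12 lam hlam h1 h2'
  · exact pair_of_same_eigen Q T h2 e₁ e₂ he₁ he₂ h12 lam hlam h1 h2'
  · exact pair_of_same_eigen Q T h2 e₁ e₃ he₁ he₃ h13 lam hlam h1 h3
  · exact pair_of_same_eigen Q T h2 e₂ e₃ he₂ he₃ h23 (-lam) hnl h2' h3
  · exact pair_of_same_eigen Q T h2 e₂ e₃ he₂ he₃ h23 lam hlam h2' h3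
  · exact pair_of_same_eigen Q T h2 e₁ e₃ he₁ he₃ h13 (-lam) hnl h1 h3
  · exact pair_of_same_eigen Q T h2 e₁ e₂ he₁ he₂ h12 (-lam) hnl h1 h2'
  · exact pair_of_same_eigen Q T h2 e₁ e₂ he₁ he₂ h12 (-lam) hnl h1 h2'

theorem exists_u_IIb [Fintype F] (h2 : (2 : F) ≠ 0) (hQ : (polarBilin Q).Nondegenerate)
    {m : ℕ} (hV : finrank F (ι → F) = 2 * m) (hm : 3 ≤ m) (μ : F) (hμsq : ¬ IsSquare μ)
    (hT2 : ∀ v, T (T v) = μ • v)
    (hTB : ∀ u v, polar (⇑Q) (T u) (T v) = μ * polar (⇑Q) u v) :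
    ∃ u : ι → F, Q u ≠ 0 ∧ polar (⇑Q) u (T u) = 0 := by
  classical
  have hμ : μ ≠ 0 := by
    rintro rfl
    exact hμsq ⟨0, by ring⟩
  have hadj := polar_T_adj Q T μ hμ hT2 hTB
  obtain ⟨x, -, hx⟩ := exists_nonsing_orth Q hQ hV ⊥ (by rw [finrank_bot]; omega)
  obtain ⟨y, hyS, hy⟩ := exists_nonsing_orth Q hQ hV
    (Submodule.span F ({x, T x} : Set (ι → F)))
    (lt_of_le_of_lt (finrank_span_pair_le x (T x)) (by omega))
  rw [mem_orth_iff] at hyS
  have hxy : polar (⇑Q) x y = 0 := hyS x (Submodule.subset_span (by simp))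
  have hTxy : polar (⇑Q) (T x) y = 0 := hyS (T x) (Submodule.subset_span (by simp))
  have hxTy : polar (⇑Q) x (T y) = 0 := by rw [← hadj]; exact hTxy
  have hTxTy : polar (⇑Q) (T x) (T y) = 0 := by rw [hTB, hxy, mul_zero]
  have hyx : polar (⇑Q) y x = 0 := by rw [polar_comm]; exact hxy
  have hyTx : polar (⇑Q) y (T x) = 0 := by rw [polar_comm]; exact hTxy
  have hTyx : polar (⇑Q) (T y) x = 0 := by rw [polar_comm]; exact hxTy
  have hTyTx : polar (⇑Q) (T y) (T x) = 0 := by rw [polar_comm]; exact hTxTy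
  have f1 : polar (⇑Q) x (T x) = polar (⇑Q) (T x) x := polar_comm _ _ _
  have f2 : polar (⇑Q) (T x) (T x) = μ * polar (⇑Q) x x := hTB x x
  have g1 : polar (⇑Q) y (T y) = polar (⇑Q) (T y) y := polar_comm _ _ _
  have g2 : polar (⇑Q) (T y) (T y) = μ * polar (⇑Q) y y := hTB y y
  have hxx : polar (⇑Q) x x ≠ 0 := by
    rw [polar_self']
    exact mul_ne_zero h2 hx
  have hyy : polar (⇑Q) y y ≠ 0 := by
    rw [polar_self']
    exact mul_ne_zero h2 hy
  -- the quadratic extension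
  haveI : Fact (∀ r : F, r ^ 2 ≠ μ + 0 * r) :=
    ⟨fun r hr => hμsq ⟨r, by rw [← pow_two, hr]; ring⟩⟩
  letI : Fintype (QuadraticAlgebra F μ 0) :=
    Fintype.ofEquiv (F × F) (QuadraticAlgebra.equivProd μ 0).symm
  have hcardK : Fintype.card (QuadraticAlgebra F μ 0) % 2 = 1 := by
    rw [Fintype.card_congr (QuadraticAlgebra.equivProd μ 0), Fintype.card_prod]
    have := card_mod_two_of_two_ne_zero h2
    rw [Nat.mul_mod, this]
  obtain ⟨p, hp⟩ : ∃ p : QuadraticAlgebra F μ 0,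
      p = ⟨polar (⇑Q) (T x) x, polar (⇑Q) x x⟩ := ⟨_, rfl⟩
  obtain ⟨r, hr⟩ : ∃ r : QuadraticAlgebra F μ 0,
      r = ⟨polar (⇑Q) (T y) y, polar (⇑Q) y y⟩ := ⟨_, rfl⟩
  have hp0 : p ≠ 0 := by
    intro h
    have h' := congrArg QuadraticAlgebra.im h
    rw [hp] at h'
    exact hxx h'
  have hr0 : r ≠ 0 := by
    intro h
    have h' := congrArg QuadraticAlgebra.im h
    rw [hr] at h'
    exact hyy h'
  obtain ⟨ξ, η, hξη⟩ := exists_diag_rep hcardK p r (⟨0, 1⟩ : QuadraticAlgebra F μ 0) hp0 hr0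
  have hre := congrArg QuadraticAlgebra.re hξη
  have him := congrArg QuadraticAlgebra.im hξη
  simp only [QuadraticAlgebra.re_add, QuadraticAlgebra.im_add, QuadraticAlgebra.re_mul,
    QuadraticAlgebra.im_mul, pow_two, hp, hr] at hre him
  obtain ⟨u, hu⟩ : ∃ u : ι → F, u = ξ.re • x + ξ.im • T x + η.re • y + η.im • T y := ⟨_, rfl⟩
  have hTu : T u = ξ.re • T x + (ξ.im * μ) • x + η.re • T y + (η.im * μ) • y := by
    rw [hu]
    simp only [map_add, map_smul, hT2, smul_smul]
  have e1 : polar (⇑Q) u (T u) = 0 := by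
    rw [← polarBilin_apply_apply, hTu, hu]
    simp only [map_add, map_smul, LinearMap.add_apply, LinearMap.smul_apply, smul_eq_mul,
      polarBilin_apply_apply, hxy, hTxy, hxTy, hTxTy, hyx, hyTx, hTyx, hTyTx, f1, f2, g1, g2]
    linear_combination hre
  have e2 : polar (⇑Q) u u = 1 := by
    rw [← polarBilin_apply_apply, hu]
    simp only [map_add, map_smul, LinearMap.add_apply, LinearMap.smul_apply, smul_eq_mul,
      polarBilin_apply_apply, hxy, hTxy, hxTy, hTxTy, hyx, hyTx, hTyx, hTyTx, f1, f2, g1, g2]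
    linear_combination him
  refine ⟨u, ?_, e1⟩
  intro h0
  rw [polar_self', h0, mul_zero] at e2
  exact zero_ne_one e2

theorem exists_invariant_mts (h2 : (2 : F) ≠ 0) (hQ : (polarBilin Q).Nondegenerate) {m : ℕ}
    (hV : finrank F (ι → F) = 2 * m) {U₀ : Submodule F (ι → F)} (hU₀ : MTS Q m U₀)
    (hTinj : Function.Injective T) (μ : F) (hμ : μ ≠ 0)
    (hT2 : ∀ v, T (T v) = (-μ) • v) (hTQ : ∀ v, Q (T v) = μ * Q v)
    (hTB : ∀ u v, polar (⇑Q) (T u) (T v) = μ * polar (⇑Q) u v) :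
    ∃ W : Submodule F (ι → F), MTS Q m W ∧ W.map T = W := by
  have hself := polar_T_self_zero Q T h2 μ hμ hT2 hTB
  have key : ∀ k, k ≤ m → ∃ W : Submodule F (ι → F),
      TS Q W ∧ W.map T ≤ W ∧ k ≤ finrank F W := by
    intro k
    induction k with
    | zero =>
      intro _
      refine ⟨⊥, ?_, ?_, Nat.zero_le _⟩
      · intro w hw
        rw [Submodule.mem_bot] at hw
        rw [hw, map_zero]
      · rw [Submodule.map_bot]
    | succ k ih =>
      intro hk
      obtain ⟨W, hW, hWT, hWk⟩ := ih (by omega)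
      by_cases hlt : k + 1 ≤ finrank F W
      · exact ⟨W, hW, hWT, hlt⟩
      · have hWk' : finrank F W = k := by omega
        have hWeq : W.map T = W := by
          apply Submodule.eq_of_le_of_finrank_eq hWT
          exact (LinearEquiv.finrank_eq (Submodule.equivMapOfInjective T hTinj W)).symm
        have hnotmax : ¬ Cfsg.IsMaxTotallySingular (⇑Q) W := by
          rw [isMax_iff_mts Q hQ hV hU₀ W]
          intro h
          have := h.rk
          omega
        have hex : ∃ W' : Submodule F (ι → F), TS Q W' ∧ W ≤ W' ∧ W' ≠ W := by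
          by_contra hcon
          push Not at hcon
          exact hnotmax ⟨hW, fun W' hW' hle => hcon W' hW' hle⟩
        obtain ⟨W', hW', hle, hne⟩ := hex
        have hlt' : W < W' := lt_of_le_of_ne hle (Ne.symm hne)
        obtain ⟨x, hxW', hxW⟩ := SetLike.exists_of_lt hlt'
        have hx0 : Q x = 0 := hW' x hxW'
        have hTx0 : Q (T x) = 0 := by rw [hTQ, hx0, mul_zero]
        obtain ⟨W₂, hW₂⟩ : ∃ W₂ : Submodule F (ι → F),
            W₂ = (W ⊔ Submodule.span F {x}) ⊔ Submodule.span F {T x} := ⟨_, rfl⟩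
        have hA : W ⊔ Submodule.span F {x} ≤ W' :=
          sup_le hle (by rw [Submodule.span_singleton_le_iff_mem]; exact hxW')
        have hTS1 : TS Q (W ⊔ Submodule.span F {x}) := hW'.mono hA
        have hTS2 : TS Q W₂ := by
          rw [hW₂]
          apply hTS1.sup (TS.span_singleton hTx0)
          intro u hu v hv
          obtain ⟨b, rfl⟩ := Submodule.mem_span_singleton.mp hv
          rw [polar_smul_right]
          obtain ⟨w, hw, z, hz, rfl⟩ := Submodule.mem_sup.mp hu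
          obtain ⟨a, rfl⟩ := Submodule.mem_span_singleton.mp hz
          rw [polar_add_left, polar_smul_left, hself x]
          have hwm : w ∈ W.map T := by rw [hWeq]; exact hw
          obtain ⟨w', hw', rfl⟩ := hwm
          rw [hTB, hW'.polar_zero (hle hw') hxW']
          simp
        have hxm : x ∈ W₂ := by
          rw [hW₂]
          exact Submodule.mem_sup_left
            (Submodule.mem_sup_right (Submodule.mem_span_singleton_self x))
        have hTxm : T x ∈ W₂ := by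
          rw [hW₂]
          exact Submodule.mem_sup_right (Submodule.mem_span_singleton_self (T x))
        have hWW₂ : W ≤ W₂ := by
          rw [hW₂]
          exact le_trans le_sup_left le_sup_left
        have hinv : W₂.map T ≤ W₂ := by
          rintro _ ⟨z, hz, rfl⟩
          rw [hW₂] at hz
          obtain ⟨z₁, hz₁, z₂, hz₂, rfl⟩ := Submodule.mem_sup.mp hz
          obtain ⟨w, hw, z₃, hz₃, rfl⟩ := Submodule.mem_sup.mp hz₁
          obtain ⟨a, rfl⟩ := Submodule.mem_span_singleton.mp hz₃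
          obtain ⟨b, rfl⟩ := Submodule.mem_span_singleton.mp hz₂
          rw [map_add, map_add, map_smul, map_smul, hT2]
          have e1 : T w ∈ W := hWT ⟨w, hw, rfl⟩
          exact W₂.add_mem (W₂.add_mem (hWW₂ e1) (W₂.smul_mem _ hTxm))
            (W₂.smul_mem _ (W₂.smul_mem _ hxm))
        have hlt2 : W < W₂ := lt_of_le_of_ne hWW₂ (fun h => hxW (by rw [h]; exact hxm))
        have := Submodule.finrank_lt_finrank_of_lt hlt2
        exact ⟨W₂, hTS2, hinv, by omega⟩
  obtain ⟨W, hW, hWT, hWm⟩ := key m le_rfl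
  have hle := ts_finrank_le Q hQ hV hW
  refine ⟨W, ⟨hW, by omega⟩, ?_⟩
  apply Submodule.eq_of_le_of_finrank_eq hWT
  exact (LinearEquiv.finrank_eq (Submodule.equivMapOfInjective T hTinj W)).symm

end splitB

end Cfsg.Agent.helper14
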