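import Mathlib
import Cfsg.Agent.Lib_helper14_SplitB0
import Cfsg.Agent.Lib_helper14_InnDiagD
import Cfsg.Agent.Lib_helper13_AutO8

/-! A similarity inducing an involution of `PΩ` and interchanging the two classes of maximal
totally singular subspaces commutes with a product of two reflections of non-square spinor
norm. -/

set_option autoImplicit false

namespace Cfsg.Agent.helper14

open Matrix QuadraticMap Module Cfsg.Agent.helper13

section splitC
variable {F : Type*} [Field F] [Fintype F] [DecidableEq F] {ι : Type} [Fintype ι] [DecidableEq ι]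
variable (Q : QuadraticForm F (ι → F))

omit [Fintype F] [DecidableEq F] in
theorem refl_comm_of_polar (u v : ι → F) (hu : Q u ≠ 0) (hv : Q v ≠ 0)
    (h : polar (⇑Q) u v = 0) :
    reflG Q u hu * reflG Q v hv = reflG Q v hv * reflG Q u hu := by
  have h1 := reflG_conj Q (reflG Q u hu) v hv
  have h2 : iact (reflG Q u hu) v = v := iact_reflG_of_polar Q u hu v h
  rw [reflG_congr Q _ v h2 _ hv] at h1
  rw [mul_inv_eq_iff_eq_mul] at h1
  exact h1

omit [Fintype F] [DecidableEq F] in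
theorem sim_refl_of_eigen (g : ↥(Cfsg.Geo.quadSimilarityGroup (⇑Q))) (w : ι → F) (hw : Q w ≠ 0)
    (a : F) (ha : a ≠ 0) (h : ((g : GL ι F) : Matrix ι ι F) *ᵥ w = a • w) :
    g * inclO Q (reflG Q w hw) = inclO Q (reflG Q w hw) * g := by
  have haw : Q (a • w) ≠ 0 := by
    rw [QuadraticMap.map_smul, smul_eq_mul]
    exact mul_ne_zero (mul_ne_zero ha ha) hw
  have hgw : Q (((g : GL ι F) : Matrix ι ι F) *ᵥ w) ≠ 0 := by rw [h]; exact haw
  have h1 := sim_mul_refl Q g w hw hgw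
  rw [reflG_congr Q _ _ h hgw haw, reflG_smul Q w hw a ha haw] at h1
  exact mul_inv_eq_iff_eq_mul.mp h1

omit [Fintype F] [DecidableEq F] in
theorem sim_refl_swap (g : ↥(Cfsg.Geo.quadSimilarityGroup (⇑Q))) (u v : ι → F) (hu : Q u ≠ 0)
    (hv : Q v ≠ 0) (a : F) (ha : a ≠ 0)
    (h : ((g : GL ι F) : Matrix ι ι F) *ᵥ u = a • v) :
    g * inclO Q (reflG Q u hu) = inclO Q (reflG Q v hv) * g := by
  have hav : Q (a • v) ≠ 0 := by
    rw [QuadraticMap.map_smul, smul_eq_mul]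
    exact mul_ne_zero (mul_ne_zero ha ha) hv
  have hgu : Q (((g : GL ι F) : Matrix ι ι F) *ᵥ u) ≠ 0 := by rw [h]; exact hav
  have h1 := sim_mul_refl Q g u hu hgu
  rw [reflG_congr Q _ _ h hgu hav, reflG_smul Q v hv a ha hav] at h1
  exact mul_inv_eq_iff_eq_mul.mp h1

theorem exists_centralizing (h2 : (2 : F) ≠ 0) (hQ : (polarBilin Q).Nondegenerate)
    (hn : 7 ≤ Fintype.card ι) (hv : ∃ v, Q v ≠ 0) (m : ℕ) (hcard : Fintype.card ι = 2 * m)
    (hm : 3 ≤ m) {U₀ : Submodule F (ι → F)} (hU₀ : MTS Q m U₀)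
    (hpres : ∀ g : ↥(Cfsg.Geo.quadSimilarityGroup (⇑Q)),
      Cfsg.PreservesSingularClasses (⇑Q) ((g : GL ι F) : Matrix ι ι F) ↔ epsHom Q hv m g = 1)
    (g : ↥(Cfsg.Geo.quadSimilarityGroup (⇑Q))) (hgg : PhiO (⇑Q) (g * g) = 1)
    (hε : epsHom Q hv m g ≠ 1) :
    ∃ (u v : ι → F) (hu : Q u ≠ 0) (hv' : Q v ≠ 0), ¬ IsSquare (Q u * Q v) ∧
      g * inclO Q (reflG Q u hu * reflG Q v hv') =
        inclO Q (reflG Q u hu * reflG Q v hv') * g := by
  have hV : finrank F (ι → F) = 2 * m := by rw [Module.finrank_fintype_fun_eq_card, hcard]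
  obtain ⟨c, hc⟩ := scalar_of_PhiO_eq_one Q hQ hn (g * g) hgg
  obtain ⟨M, hM⟩ : ∃ M : Matrix ι ι F, M = ((g : GL ι F) : Matrix ι ι F) := ⟨_, rfl⟩
  have hMM : M * M = c • (1 : Matrix ι ι F) := by
    rw [hM, ← hc]
    rfl
  obtain ⟨μ, hμd⟩ : ∃ μ : F, μ = ((muFun Q g : Fˣ) : F) := ⟨_, rfl⟩
  have hμ : μ ≠ 0 := by rw [hμd]; exact Units.ne_zero _
  obtain ⟨T, hT⟩ : ∃ T : (ι → F) →ₗ[F] (ι → F), T = Matrix.toLin' M := ⟨_, rfl⟩
  have hTv : ∀ v, T v = M *ᵥ v := by intro v; rw [hT, Matrix.toLin'_apply]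
  have hTQ : ∀ v, Q (T v) = μ * Q v := by
    intro v; rw [hTv, hM, hμd]; exact muFun_spec Q g v
  have hTB : ∀ u v, polar (⇑Q) (T u) (T v) = μ * polar (⇑Q) u v := by
    intro u v; rw [hTv, hTv, hM, hμd]; exact polar_sim Q g u v
  have hT2c : ∀ v, T (T v) = c • v := by
    intro v
    rw [hTv, hTv, Matrix.mulVec_mulVec, hMM, Matrix.smul_mulVec, Matrix.one_mulVec]
  have hTinj : Function.Injective T := by rw [hT, hM]; exact toLin'_gl_injective g.1
  obtain ⟨v₀, hv₀⟩ := hv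
  have hcc : c * c = μ * μ := by
    have h1 := hTQ (T v₀)
    rw [hT2c, hTQ, QuadraticMap.map_smul, smul_eq_mul] at h1
    apply mul_right_cancel₀ hv₀
    linear_combination h1
  have hcases : c = μ ∨ c = -μ := by
    have h0 : (c - μ) * (c + μ) = 0 := by linear_combination hcc
    rcases mul_eq_zero.mp h0 with h | h
    · left; linear_combination h
    · right; linear_combination h
  rcases hcases with hcμ | hcμ
  swap
  · exfalso
    apply hε
    rw [← hpres]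
    have hT2 : ∀ v, T (T v) = (-μ) • v := by intro v; rw [hT2c, hcμ]
    obtain ⟨W, hW, hWT⟩ := exists_invariant_mts Q T h2 hQ hV hU₀ hTinj μ hμ hT2 hTQ hTB
    rw [preserves_iff Q hQ hV hW g]
    have hWg : W.map (Matrix.toLin' ((g : GL ι F) : Matrix ι ι F)) = W := by
      rw [← hM, ← hT]; exact hWT
    rw [hWg, inf_idem, hW.rk, Nat.sub_self]
    exact ⟨0, rfl⟩
  · have hT2 : ∀ v, T (T v) = μ • v := by intro v; rw [hT2c, hcμ]
    by_cases hsq : IsSquare μ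
    · obtain ⟨lam, hlam⟩ := hsq
      have hlam0 : lam ≠ 0 := by
        rintro rfl
        rw [mul_zero] at hlam
        exact hμ hlam
      obtain ⟨u, v, hu, hv', hns, a, b, ha, hb, hTu, hTv'⟩ :=
        exists_pair_IIa Q T h2 hQ hV hm lam hlam0 (by intro v; rw [hT2, hlam])
          (by intro v; rw [hTQ, hlam]) (by intro u v; rw [hTB, hlam])
      refine ⟨u, v, hu, hv', hns, ?_⟩
      have e1 := sim_refl_of_eigen Q g u hu a ha (by rw [← hM, ← hTv]; exact hTu)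
      have e2 := sim_refl_of_eigen Q g v hv' b hb (by rw [← hM, ← hTv]; exact hTv')
      rw [map_mul]
      obtain ⟨A, hA⟩ : ∃ A, A = inclO Q (reflG Q u hu) := ⟨_, rfl⟩
      obtain ⟨B, hB⟩ : ∃ B, B = inclO Q (reflG Q v hv') := ⟨_, rfl⟩
      rw [← hA] at e1 ⊢
      rw [← hB] at e2 ⊢
      calc g * (A * B) = (g * A) * B := (mul_assoc _ _ _).symm
        _ = (A * g) * B := by rw [e1]
        _ = A * (g * B) := mul_assoc _ _ _
        _ = A * (B * g) := by rw [e2]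
        _ = A * B * g := (mul_assoc _ _ _).symm
    · obtain ⟨u, hu, huT⟩ := exists_u_IIb Q T h2 hQ hV hm μ hsq hT2 hTB
      have hQTu : Q (T u) ≠ 0 := by rw [hTQ]; exact mul_ne_zero hμ hu
      refine ⟨u, T u, hu, hQTu, ?_, ?_⟩
      · rw [hTQ]
        rintro ⟨s, hs⟩
        apply hsq
        refine ⟨s / Q u, ?_⟩
        field_simp
        linear_combination hs
      · have e1 := sim_refl_swap Q g u (T u) hu hQTu 1 one_ne_zero
          (by rw [one_smul, ← hM, ← hTv])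
        have e2 := sim_refl_swap Q g (T u) u hQTu hu μ hμ (by rw [← hM, ← hTv, hT2])
        have hcomm := refl_comm_of_polar Q u (T u) hu hQTu huT
        rw [map_mul]
        obtain ⟨A, hA⟩ : ∃ A, A = inclO Q (reflG Q u hu) := ⟨_, rfl⟩
        obtain ⟨B, hB⟩ : ∃ B, B = inclO Q (reflG Q (T u) hQTu) := ⟨_, rfl⟩
        have hAB : A * B = B * A := by rw [hA, hB, ← map_mul, ← map_mul, hcomm]
        rw [← hA, ← hB] at e1 e2 ⊢
        calc g * (A * B) = (g * A) * B := (mul_assoc _ _ _).symm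
          _ = (B * g) * B := by rw [e1]
          _ = B * (g * B) := mul_assoc _ _ _
          _ = B * (A * g) := by rw [e2]
          _ = (B * A) * g := (mul_assoc _ _ _).symm
          _ = A * B * g := by rw [hAB]

theorem PhiO_pair_not_inn (h2 : (2 : F) ≠ 0) (hQ : (polarBilin Q).Nondegenerate)
    (hn : 7 ≤ Fintype.card ι)
    (hneg : negIso Q ∈ commutator ↥(Cfsg.isometryGroup F ⇑Q))
    (u v : ι → F) (hu : Q u ≠ 0) (hv' : Q v ≠ 0) (hns : ¬ IsSquare (Q u * Q v)) :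
    PhiO (⇑Q) (inclO Q (reflG Q u hu * reflG Q v hv')) ∉ Cfsg.Inn (Cfsg.POmega F (⇑Q)) := by
  obtain ⟨θ, hθ⟩ := exists_spinor Q h2 hQ
  obtain ⟨δ, hδ, hδ'⟩ := exists_detSign Q h2 hQ
  rw [PhiO_mem_inn_iff_theta Q h2 hQ hn θ δ hθ hδ hneg _ (by rw [map_mul, hδ, hδ]; rfl)]
  intro h
  rw [map_mul] at h
  have h1 := hθ u hu
  have h3 := hθ v hv'
  have h4 : ((θ (reflG Q u hu) * θ (reflG Q v hv') : ℤˣ) : ℤ) = quadraticChar F (Q u * Q v) := by
    rw [Units.val_mul, h1, h3, map_mul]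
  rw [h, Units.val_one] at h4
  have h5 : quadraticChar F (Q u * Q v) = -1 := quadraticChar_neg_one_iff_not_isSquare.mpr hns
  rw [h5] at h4
  norm_num at h4

theorem PhiO_pair_mem_innDiagGen (h2 : (2 : F) ≠ 0) (hQ : (polarBilin Q).Nondegenerate)
    (hv : ∃ v, Q v ≠ 0) (m : ℕ) (hcard : Fintype.card ι = 2 * m)
    (u v : ι → F) (hu : Q u ≠ 0) (hv' : Q v ≠ 0) :
    PhiO (⇑Q) (inclO Q (reflG Q u hu * reflG Q v hv')) ∈ innDiagGen Q h2 hQ hv m hcard := by
  apply pso_le_innDiagGen Q h2 hQ hv m hcard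
  rw [psoAut_eq]
  refine Subgroup.mem_map_of_mem _ ?_
  rw [mem_SO_iff]
  show (((reflG Q u hu : GL ι F) * (reflG Q v hv' : GL ι F) : GL ι F) : Matrix ι ι F).det = 1
  rw [Units.val_mul, Matrix.det_mul, det_reflG, det_reflG]
  norm_num

theorem PhiO_not_mem_innDiagGen (h2 : (2 : F) ≠ 0) (hQ : (polarBilin Q).Nondegenerate)
    (hn : 7 ≤ Fintype.card ι) (hv : ∃ v, Q v ≠ 0) (m : ℕ) (hcard : Fintype.card ι = 2 * m)
    (g : ↥(Cfsg.Geo.quadSimilarityGroup (⇑Q))) (hε : epsHom Q hv m g ≠ 1) :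
    PhiO (⇑Q) g ∉ innDiagGen Q h2 hQ hv m hcard := by
  rintro ⟨g', hg', hgg'⟩
  apply hε
  rw [← mem_THom_ker Q h2 hQ hv m hcard]
  have h1 : g'⁻¹ * g ∈ (PhiO (⇑Q)).ker := by
    rw [MonoidHom.mem_ker, map_mul, map_inv, hgg', inv_mul_cancel]
  have h2' := PhiO_ker_le Q h2 hQ hn hv m hcard h1
  have e : g = g' * (g'⁻¹ * g) := by group
  rw [e]
  exact Subgroup.mul_mem _ hg' h2'

theorem index_innDiagGen_pgo (h2 : (2 : F) ≠ 0) (hQ : (polarBilin Q).Nondegenerate)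
    (hn : 7 ≤ Fintype.card ι) (hv : ∃ v, Q v ≠ 0) (m : ℕ) (hcard : Fintype.card ι = 2 * m) :
    ((innDiagGen Q h2 hQ hv m hcard).subgroupOf (Cfsg.pgoAut F (⇑Q))).index = 2 := by
  obtain ⟨r, hr⟩ := exists_THom_neg Q h2 hQ hn hv m hcard
  have h := relIndex_map_ker_eq_two (PhiO (⇑Q)) (THom Q h2 hQ hv m hcard)
    (PhiO_ker_le Q h2 hQ hn hv m hcard) r hr
  rw [pgoAut_eq]
  exact h

end splitC

end Cfsg.Agent.helper14
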