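import Mathlib
import Cfsg.Agent.Lib_helper19_Chief
import Cfsg.Agent.Lib_helper19_Pairing

set_option autoImplicit false
set_option linter.style.haveILetI false

namespace Cfsg.Agent.helper19

variable {G : Type*} [Group G]

/-- Iterated commutator with the whole group. -/
def iterG (A : Subgroup G) : ℕ → Subgroup G
  | 0 => A
  | j + 1 => ⁅iterG A j, (⊤ : Subgroup G)⁆

theorem iterG_normal (A : Subgroup G) [hA : A.Normal] (j : ℕ) : (iterG A j).Normal := by
  induction j with
  | zero => exact hA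
  | succ j ih =>
    haveI := ih
    exact Subgroup.commutator_normal _ _

theorem iterG_succ_le (A : Subgroup G) [A.Normal] (j : ℕ) : iterG A (j + 1) ≤ iterG A j := by
  haveI := iterG_normal A j
  exact Subgroup.commutator_le_left _ _

theorem iterG_anti (A : Subgroup G) [A.Normal] : Antitone (iterG A) :=
  antitone_nat_of_succ_le (iterG_succ_le A)

theorem iterG_mono {A B : Subgroup G} (h : A ≤ B) (j : ℕ) : iterG A j ≤ iterG B j := by
  induction j with
  | zero => exact h
  | succ j ih => exact Subgroup.commutator_mono ih le_rfl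

theorem iterG_le_lcs (A : Subgroup G) (j : ℕ) :
    iterG A j ≤ (⊤ : Subgroup G).lowerCentralSeries j := by
  induction j with
  | zero => exact le_top
  | succ j ih => exact Subgroup.commutator_mono ih le_rfl

theorem iterG_succ_eq (A : Subgroup G) (j : ℕ) : iterG A (j + 1) = iterG ⁅A, (⊤ : Subgroup G)⁆ j := by
  induction j with
  | zero => rfl
  | succ j ih =>
    show ⁅iterG A (j + 1), ⊤⁆ = ⁅iterG ⁅A, ⊤⁆ j, ⊤⁆
    rw [ih]

/-- Three subgroups lemma modulo a normal subgroup. -/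
theorem three_subgroups_le (H₁ H₂ H₃ M : Subgroup G) [M.Normal] (h1 : ⁅⁅H₂, H₃⁆, H₁⁆ ≤ M)
    (h2 : ⁅⁅H₃, H₁⁆, H₂⁆ ≤ M) : ⁅⁅H₁, H₂⁆, H₃⁆ ≤ M := by
  have key := Subgroup.commutator_commutator_eq_bot_of_rotate
    (H₁ := H₁.map (QuotientGroup.mk' M)) (H₂ := H₂.map (QuotientGroup.mk' M))
    (H₃ := H₃.map (QuotientGroup.mk' M)) ?_ ?_
  · rw [← Subgroup.map_commutator, ← Subgroup.map_commutator, Subgroup.map_eq_bot_iff,
      QuotientGroup.ker_mk'] at key
    exact key
  · rw [← Subgroup.map_commutator, ← Subgroup.map_commutator, Subgroup.map_eq_bot_iff,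
      QuotientGroup.ker_mk']
    exact h1
  · rw [← Subgroup.map_commutator, ← Subgroup.map_commutator, Subgroup.map_eq_bot_iff,
      QuotientGroup.ker_mk']
    exact h2

theorem comm_iterG_lcs_le (A : Subgroup G) [A.Normal] (m : ℕ) : ∀ j : ℕ,
    ⁅iterG A j, (⊤ : Subgroup G).lowerCentralSeries m⁆ ≤ iterG A (j + m + 1) := by
  induction m with
  | zero => intro j; exact le_rfl
  | succ m ih =>
    intro j
    rw [Subgroup.lowerCentralSeries_succ, Subgroup.commutator_comm]
    haveI := iterG_normal A (j + (m + 1) + 1)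
    apply three_subgroups_le ((⊤ : Subgroup G).lowerCentralSeries m) ⊤ (iterG A j)
    · rw [Subgroup.commutator_comm ⊤ (iterG A j)]
      have h := ih (j + 1)
      have e : j + 1 + m + 1 = j + (m + 1) + 1 := by omega
      rw [e] at h
      exact h
    · exact Subgroup.commutator_mono (ih j) le_rfl

theorem le_of_le_comm_sup [hnil : Group.IsNilpotent G] (A B : Subgroup G) [A.Normal] [B.Normal]
    (h : A ≤ ⁅A, (⊤ : Subgroup G)⁆ ⊔ B) : A ≤ B := by
  have key : ∀ t : ℕ, A ≤ iterG A t ⊔ B := by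
    intro t
    induction t with
    | zero => exact le_sup_left
    | succ t ih =>
      refine le_trans h (sup_le ?_ le_sup_right)
      haveI := iterG_normal A t
      calc ⁅A, (⊤ : Subgroup G)⁆ ≤ ⁅iterG A t ⊔ B, (⊤ : Subgroup G)⁆ :=
            Subgroup.commutator_mono ih le_rfl
        _ ≤ ⁅iterG A t, (⊤ : Subgroup G)⁆ ⊔ ⁅B, (⊤ : Subgroup G)⁆ := commutator_sup_le _ _ _
        _ ≤ iterG A (t + 1) ⊔ B := sup_le_sup le_rfl (Subgroup.commutator_le_left B ⊤)
  obtain ⟨t, ht⟩ := Subgroup.nilpotent_iff_lowerCentralSeries.1 hnil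
  have h1 := key t
  have h2 : iterG A t = ⊥ := le_bot_iff.1 (ht ▸ iterG_le_lcs A t)
  rw [h2, bot_sup_eq] at h1
  exact h1

theorem iterG_le_of_card {p : ℕ} [Fact p.Prime] [Finite G] (hG : IsPGroup p G) :
    ∀ k : ℕ, ∀ A B : Subgroup G, A.Normal → B.Normal → B ≤ A →
      Nat.card A ≤ p ^ k * Nat.card B → iterG A k ≤ B := by
  haveI : Group.IsNilpotent G := hG.isNilpotent
  have hp : p.Prime := Fact.out
  intro k
  induction k with
  | zero =>
    intro A B _ _ hBA hcard
    rw [pow_zero, one_mul] at hcard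
    exact le_of_eq (Subgroup.eq_of_le_of_card_ge hBA hcard).symm
  | succ k ih =>
    intro A B hA hB hBA hcard
    haveI := hA
    haveI := hB
    have hA'n : (⁅A, (⊤ : Subgroup G)⁆ ⊔ B).Normal := inferInstance
    have hA'le : ⁅A, (⊤ : Subgroup G)⁆ ⊔ B ≤ A := sup_le (Subgroup.commutator_le_left A ⊤) hBA
    by_cases heq : ⁅A, (⊤ : Subgroup G)⁆ ⊔ B = A
    · have hAB : A ≤ B := le_of_le_comm_sup A B (le_of_eq heq.symm)
      exact le_trans (iterG_anti A (Nat.zero_le _)) hAB
    · have hlt : ⁅A, (⊤ : Subgroup G)⁆ ⊔ B < A := lt_of_le_of_ne hA'le heq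
      obtain ⟨a, ha⟩ := (hG.to_subgroup (⁅A, (⊤ : Subgroup G)⁆ ⊔ B)).exists_card_eq
      obtain ⟨b, hb⟩ := (hG.to_subgroup A).exists_card_eq
      have hcardlt : Nat.card ↥(⁅A, (⊤ : Subgroup G)⁆ ⊔ B) < Nat.card A := by
        by_contra hge
        push Not at hge
        exact hlt.ne (Subgroup.eq_of_le_of_card_ge hA'le hge)
      have hab : a < b := by
        rw [ha, hb] at hcardlt
        exact (Nat.pow_lt_pow_iff_right hp.one_lt).1 hcardlt
      have h1 : Nat.card ↥(⁅A, (⊤ : Subgroup G)⁆ ⊔ B) * p ≤ Nat.card A := by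
        rw [ha, hb, ← pow_succ]
        exact Nat.pow_le_pow_right hp.pos hab
      have h2 : Nat.card ↥(⁅A, (⊤ : Subgroup G)⁆ ⊔ B) ≤ p ^ k * Nat.card B := by
        have h3 : Nat.card ↥(⁅A, (⊤ : Subgroup G)⁆ ⊔ B) * p ≤ (p ^ k * Nat.card B) * p := by
          refine le_trans h1 (le_trans hcard (le_of_eq ?_))
          rw [pow_succ]; ring
        exact Nat.le_of_mul_le_mul_right h3 hp.pos
      have h4 := ih (⁅A, (⊤ : Subgroup G)⁆ ⊔ B) B hA'n hB le_sup_right h2
      rw [iterG_succ_eq]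
      exact le_trans (iterG_mono le_sup_left k) h4

theorem lcs_normal (N : Subgroup G) [hN : N.Normal] (i : ℕ) : (N.lowerCentralSeries i).Normal := by
  induction i with
  | zero => exact hN
  | succ i ih =>
    haveI := ih
    rw [Subgroup.lowerCentralSeries_succ]
    exact Subgroup.commutator_normal _ _

/-- If `B ≤ ⁅B, G⁆` in a nilpotent group then `B = ⊥`. -/
theorem eq_bot_of_le_comm_top [hnil : Group.IsNilpotent G] (B : Subgroup G)
    (h : B ≤ ⁅B, (⊤ : Subgroup G)⁆) : B = ⊥ := by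
  have key : ∀ t : ℕ, B ≤ (⊤ : Subgroup G).lowerCentralSeries t := by
    intro t
    induction t with
    | zero => exact le_top
    | succ t ih => exact le_trans h (Subgroup.commutator_mono ih le_rfl)
  obtain ⟨t, ht⟩ := Subgroup.nilpotent_iff_lowerCentralSeries.1 hnil
  exact le_bot_iff.1 (ht ▸ key t)

/-- Hall's bound on the lower central factors of a normal subgroup. -/
theorem lcs_factor_bound [Finite G] {p : ℕ} [Fact p.Prime] (hG : IsPGroup p G) (n : ℕ)
    (N : Subgroup G) [N.Normal] (hN : N ≤ (⊤ : Subgroup G).lowerCentralSeries (n - 1)) (hn : 1 ≤ n)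
    (i : ℕ) (hne : N.lowerCentralSeries (i + 1) ≠ ⊥) :
    p ^ n ≤ (N.lowerCentralSeries (i + 1)).relIndex (N.lowerCentralSeries i) := by
  haveI : Group.IsNilpotent G := hG.isNilpotent
  have hp : p.Prime := Fact.out
  set A := N.lowerCentralSeries i with hAdef
  set B := N.lowerCentralSeries (i + 1) with hBdef
  haveI hAn : A.Normal := lcs_normal N i
  haveI hBn : B.Normal := lcs_normal N (i + 1)
  have hBA : B ≤ A := Subgroup.lowerCentralSeries_antitone N (Nat.le_succ i)
  have hrel : Nat.card B * B.relIndex A = Nat.card A := card_mul_relIndex_of_le hBA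
  -- the index is a power of p
  have hdvd : B.relIndex A ∣ Nat.card A := Dvd.intro_left _ hrel
  obtain ⟨b, hb⟩ := (hG.to_subgroup A).exists_card_eq
  rw [hb] at hdvd
  obtain ⟨k, hkb, hk⟩ := (Nat.dvd_prime_pow hp).1 hdvd
  rw [hk]
  by_contra hlt
  push Not at hlt
  have hkn : k < n := (Nat.pow_lt_pow_iff_right hp.one_lt).1 hlt
  apply hne
  -- A_k ≤ B
  have h1 : iterG A k ≤ B := by
    apply iterG_le_of_card hG k A B hAn hBn hBA
    rw [← hrel, hk, mul_comm]
  have h2 : iterG A (k + 1) ≤ ⁅B, (⊤ : Subgroup G)⁆ := Subgroup.commutator_mono h1 le_rfl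
  have h3 : ⁅A, (⊤ : Subgroup G).lowerCentralSeries k⁆ ≤ iterG A (k + 1) := by
    have := comm_iterG_lcs_le A k 0
    rw [zero_add] at this
    exact this
  have h4 : N ≤ (⊤ : Subgroup G).lowerCentralSeries k :=
    le_trans hN (Subgroup.lowerCentralSeries_antitone _ (by omega))
  have h5 : B ≤ ⁅B, (⊤ : Subgroup G)⁆ := by
    calc B = ⁅A, N⁆ := rfl
      _ ≤ ⁅A, (⊤ : Subgroup G).lowerCentralSeries k⁆ := Subgroup.commutator_mono le_rfl h4
      _ ≤ iterG A (k + 1) := h3
      _ ≤ ⁅B, (⊤ : Subgroup G)⁆ := h2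
  exact eq_bot_of_le_comm_top B h5

end Cfsg.Agent.helper19
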