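import Mathlib
import Cfsg.Agent.Lib_helper19_LCS
import Cfsg.Agent.Lib_helper10_ChainStab

set_option autoImplicit false
set_option linter.style.haveILetI false
open scoped commutatorElement

/-!
# Automorphisms acting trivially on `A/A'` (helper14)
-/

namespace Cfsg.Agent.helper14

variable {X : Type*} [Group X]

theorem lcs_normal (A : Subgroup X) [hA : A.Normal] (n : ℕ) :
    (A.lowerCentralSeries n).Normal := by
  induction n with
  | zero => exact hA
  | succ n ih =>
    haveI := ih
    rw [Subgroup.lowerCentralSeries_succ]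
    exact Subgroup.commutator_normal _ _

theorem comm_lcs_one_le (A : Subgroup X) [A.Normal] (i : ℕ) :
    ⁅A.lowerCentralSeries i, A.lowerCentralSeries 1⁆ ≤ A.lowerCentralSeries (i + 2) := by
  haveI := lcs_normal A (i + 2)
  have e1 : A.lowerCentralSeries 1 = ⁅A, A⁆ := rfl
  rw [e1, Subgroup.commutator_comm]
  apply Cfsg.Agent.helper19.three_subgroups_le A A (A.lowerCentralSeries i)
  · rw [Subgroup.commutator_comm A (A.lowerCentralSeries i)]
    exact le_rfl
  · exact le_rfl

theorem comm_lcs_le_of_comm_le (A E : Subgroup X) [A.Normal]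
    (h : ⁅A, E⁆ ≤ A.lowerCentralSeries 1) :
    ∀ i : ℕ, ⁅A.lowerCentralSeries i, E⁆ ≤ A.lowerCentralSeries (i + 1) := by
  intro i
  induction i with
  | zero => exact h
  | succ i ih =>
    haveI := lcs_normal A (i + 1 + 1)
    rw [Subgroup.lowerCentralSeries_succ]
    apply Cfsg.Agent.helper19.three_subgroups_le (A.lowerCentralSeries i) A E
    · have h1 : ⁅⁅A, E⁆, A.lowerCentralSeries i⁆ ≤
          ⁅A.lowerCentralSeries 1, A.lowerCentralSeries i⁆ := Subgroup.commutator_mono h le_rfl
      rw [Subgroup.commutator_comm (A.lowerCentralSeries 1)] at h1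
      exact h1.trans (comm_lcs_one_le A i)
    · rw [Subgroup.commutator_comm E]
      exact Subgroup.commutator_mono ih le_rfl

/-- `E` acts trivially on `A/A'` (`A` a normal `p`-subgroup): `p'`-elements of `E` centralize
`A`. -/
theorem centralizes_of_coprime_of_comm_le [Finite X] {p : ℕ} [hp : Fact p.Prime]
    (A E : Subgroup X) [A.Normal] (hA : IsPGroup p A) (h : ⁅A, E⁆ ≤ A.lowerCentralSeries 1)
    (y : X) (hy : y ∈ E) (hco : (orderOf y).Coprime p) : ∀ t ∈ A, y * t * y⁻¹ = t := by
  haveI : Group.IsNilpotent A := hA.isNilpotent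
  have hk : A.lowerCentralSeries (Group.nilpotencyClass A) = ⊥ :=
    Subgroup.lowerCentralSeries_eq_bot_of_nilpotencyClass_le le_rfl
  have hstab := comm_lcs_le_of_comm_le A E h
  obtain ⟨m, hm⟩ := Cfsg.Agent.helper10.pow_centralizes_of_stabilizes_chain (p := p) y
    (Group.nilpotencyClass A) (fun i => A.lowerCentralSeries i)
    (fun i => hA.to_le (Subgroup.lowerCentralSeries_le_self A i)) hk
    (fun i => Subgroup.lowerCentralSeries_antitone A (Nat.le_succ i))
    (fun i t ht => by
      have h1 : ⁅t, y⁆ ∈ A.lowerCentralSeries (i + 1) :=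
        hstab i (Subgroup.commutator_mem_commutator ht hy)
      have h2 : y * t * y⁻¹ * t⁻¹ = (⁅t, y⁆)⁻¹ := by
        rw [commutatorElement_def]; group
      rw [h2]
      exact Subgroup.inv_mem _ h1)
  have hcop : (p ^ m).Coprime (orderOf y) := Nat.Coprime.pow_left m hco.symm
  obtain ⟨j, hj⟩ := exists_pow_eq_self_of_coprime hcop
  intro t ht
  have hcomm : Commute (y ^ p ^ m) t := by
    have := hm t ht
    show y ^ p ^ m * t = t * y ^ p ^ m
    calc y ^ p ^ m * t = (y ^ p ^ m * t * (y ^ p ^ m)⁻¹) * y ^ p ^ m := by group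
      _ = t * y ^ p ^ m := by rw [this]
  have hcomm2 : Commute y t := by
    rw [← hj]; exact hcomm.pow_left j
  calc y * t * y⁻¹ = t * y * y⁻¹ := by rw [hcomm2.eq]
    _ = t := by group

end Cfsg.Agent.helper14
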