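import Mathlib
import Cfsg.Agent.Lib_helper14_Stab
import Cfsg.Agent.Lib_helper14_Asym13

set_option autoImplicit false
set_option linter.style.haveILetI false
open Cfsg
open scoped Pointwise commutatorElement

namespace Cfsg.Agent.helper14

open Cfsg.Agent.helper7

variable {G : Type*} [Group G]

theorem ambient_centralizes_of_coprime [Finite G] {p : ℕ} [hp : Fact p.Prime] (L A E : Subgroup G)
    (hAL : A ≤ L) (hLA : L ≤ Subgroup.normalizer (A : Set G)) (hEL : E ≤ L) (hAp : IsPGroup p A)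
    (h : ⁅A, E⁆ ≤ ⁅A, A⁆) (x : G) (hx : x ∈ E) (hco : (orderOf x).Coprime p) :
    x ∈ Subgroup.centralizer (A : Set G) := by
  haveI : (A.subgroupOf L).Normal := (Subgroup.normal_subgroupOf_iff_le_normalizer hAL).mpr hLA
  have hAp' : IsPGroup p (A.subgroupOf L) :=
    hAp.comap_of_injective _ (Subgroup.subtype_injective _)
  have h' : ⁅A.subgroupOf L, E.subgroupOf L⁆ ≤ (A.subgroupOf L).lowerCentralSeries 1 := by
    show ⁅A.subgroupOf L, E.subgroupOf L⁆ ≤ ⁅A.subgroupOf L, A.subgroupOf L⁆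
    rw [← Subgroup.map_le_map_iff_of_injective (Subgroup.subtype_injective L),
      Subgroup.map_commutator, Subgroup.map_commutator, Subgroup.map_subgroupOf_eq_of_le hAL,
      Subgroup.map_subgroupOf_eq_of_le hEL]
    exact h
  have hy : (⟨x, hEL hx⟩ : ↥L) ∈ E.subgroupOf L := Subgroup.mem_subgroupOf.mpr hx
  have hco' : (orderOf (⟨x, hEL hx⟩ : ↥L)).Coprime p := by
    rw [← Subgroup.orderOf_coe]; exact hco
  have key := centralizes_of_coprime_of_comm_le (A.subgroupOf L) (E.subgroupOf L) hAp' h'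
    ⟨x, hEL hx⟩ hy hco'
  rw [Subgroup.mem_centralizer_iff]
  intro a ha
  have h1 := key ⟨a, hAL ha⟩ (Subgroup.mem_subgroupOf.mpr ha)
  have h2 := congrArg Subtype.val h1
  simp only [Subgroup.coe_mul, Subgroup.coe_inv] at h2
  calc a * x = (x * a * x⁻¹) * x := by rw [h2]
    _ = x * a := by group

end Cfsg.Agent.helper14
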