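import Mathlib
import Cfsg.Agent.Lib_helper14_Stab2

set_option autoImplicit false
set_option linter.style.haveILetI false
open Cfsg
open scoped Pointwise commutatorElement

namespace Cfsg.Agent.helper14

open Cfsg.Agent.helper7

variable {G : Type*} [Group G]

theorem normalizer_le_normalizer_comm_self (A : Subgroup G) :
    Subgroup.normalizer (A : Set G) ≤ Subgroup.normalizer ((⁅A, A⁆ : Subgroup G) : Set G) := by
  intro g hg
  apply mem_normalizer_of_cj_eq
  rw [cj_commutator, cj_eq_of_mem_normalizer hg]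

theorem le_pCoreOf_of_frakM_comm [Finite G] {p : ℕ} [hp : Fact p.Prime]
    (hH : Cfsg.IsOfParabolicCharacteristic p G) (S : Sylow p G) (M : Subgroup G)
    (hSM : (S : Subgroup G) ≤ M) (hM : Cfsg.IsInFrakM p M) (I : Subgroup G) (hI1 : I ≠ ⊥)
    (hIp : IsPGroup p I) (hMI : M ≤ Subgroup.normalizer (I : Set G)) (Y : Subgroup G)
    (hY : Y ≤ Cfsg.pCoreOf p (M ⊔ Subgroup.centralizer
      ((Cfsg.largestPReducedOf p M : Subgroup G) : Set G)))
    (L : Subgroup G) (hYL : Y ≤ L) (A : Subgroup G) (hAp : IsPGroup p A) (hAL : A ≤ L)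
    (hLA : L ≤ Subgroup.normalizer (A : Set G)) (hIA : I ≤ A) (hc : ⁅Y, A⁆ ≤ ⁅I, A⁆) :
    Y ≤ Cfsg.pCoreOf p L := by
  obtain ⟨D, hDdef⟩ : ∃ D : Subgroup G, D = M ⊔ Subgroup.centralizer
      ((Cfsg.largestPReducedOf p M : Subgroup G) : Set G) := ⟨_, rfl⟩
  rw [← hDdef] at hY
  have hNI : Subgroup.normalizer (I : Set G) ≤ D := by
    rw [hDdef]
    apply le_dagger hH S M hSM hM _ hMI
    intro hbot
    have h1 : I ≤ Cfsg.pCoreOf p (Subgroup.normalizer (I : Set G)) :=
      le_pCoreOf_of_normal _ _ Subgroup.le_normalizer le_rfl hIp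
    rw [hbot] at h1
    exact hI1 (le_bot_iff.mp h1)
  have hCA : Subgroup.centralizer (A : Set G) ≤ D :=
    ((Subgroup.centralizer_le (SetLike.coe_subset_coe.mpr hIA)).trans
      (Subgroup.centralizer_le_normalizer _)).trans hNI
  have hYp : IsPGroup p Y := (pCoreOf_isPGroup D).to_le hY
  obtain ⟨E, hEdef⟩ : ∃ E : Subgroup G, E = ⨆ l : ↥L, cj (l : G) Y := ⟨_, rfl⟩
  have hEL : E ≤ L := by rw [hEdef]; exact iSup_cj_le Y L hYL
  have hLE : L ≤ Subgroup.normalizer (E : Set G) := by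
    rw [hEdef]; exact le_normalizer_iSup_cj Y L
  have hYE : Y ≤ E := by rw [hEdef]; exact le_iSup_cj Y L
  have hLAA : L ≤ Subgroup.normalizer ((⁅A, A⁆ : Subgroup G) : Set G) :=
    hLA.trans (normalizer_le_normalizer_comm_self A)
  have hYAA : ⁅Y, A⁆ ≤ ⁅A, A⁆ := hc.trans (Subgroup.commutator_mono hIA le_rfl)
  have hEA : ⁅E, A⁆ ≤ ⁅A, A⁆ := by
    rw [hEdef]
    apply Cfsg.Agent.S2843.commutator_iSup_le
    · intro l
      have := cj_mono (g := (l : G)) hYL
      rw [cj_eq_of_mem_normalizer (Subgroup.le_normalizer l.2)] at this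
      exact this.trans hLAA
    · intro l
      have h1 := cj_mono (g := (l : G)) hYAA
      rw [cj_commutator, cj_commutator, cj_eq_of_mem_normalizer (hLA l.2)] at h1
      exact h1
  have hAE : ⁅A, E⁆ ≤ ⁅A, A⁆ := by rw [Subgroup.commutator_comm]; exact hEA
  -- `R = O^p(E)` centralizes `A`
  have hRC : opOf p E ≤ Subgroup.centralizer (A : Set G) := by
    unfold opOf
    rw [Subgroup.closure_le]
    rintro x ⟨hx, hco⟩
    exact ambient_centralizes_of_coprime L A E hAL hLA hEL hAp hAE x hx hco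
  have hRD : opOf p E ≤ D := hRC.trans hCA
  have hRP : opOf p E ≤ Subgroup.normalizer ((Cfsg.pCoreOf p D : Subgroup G) : Set G) :=
    hRD.trans (le_normalizer_pCoreOf p D)
  have hER : E ≤ Subgroup.normalizer ((opOf p E : Subgroup G) : Set G) := le_normalizer_opOf p E
  have hLR : L ≤ Subgroup.normalizer ((opOf p E : Subgroup G) : Set G) :=
    hLE.trans (normalizer_le_normalizer_opOf p E)
  have hLO : L ≤ Subgroup.normalizer ((Cfsg.pCoreOf p L : Subgroup G) : Set G) :=
    le_normalizer_pCoreOf p L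
  have hsnR : SN (opOf p E) L := SN.of_normal ((opOf_le p E).trans hEL) hLR
  have hRY : ⁅opOf p E, Y⁆ ≤ Cfsg.pCoreOf p L := by
    have h1 : ⁅opOf p E, Y⁆ ≤ opOf p E :=
      commutator_le_left_of_le_normalizer _ _ (hYE.trans hER)
    have h2 : ⁅opOf p E, Y⁆ ≤ Cfsg.pCoreOf p D :=
      (Subgroup.commutator_mono le_rfl hY).trans (commutator_le_right_of_le_normalizer _ _ hRP)
    have h3 : opOf p E ⊓ Cfsg.pCoreOf p D ≤ Cfsg.pCoreOf p (opOf p E) :=
      le_pCoreOf_of_normal _ _ inf_le_left (le_normalizer_inf' Subgroup.le_normalizer hRP)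
        ((pCoreOf_isPGroup D).to_le inf_le_right)
    exact ((le_inf h1 h2).trans h3).trans (pCoreOf_le_of_sn hsnR)
  have hYR : ⁅Y, opOf p E⁆ ≤ Cfsg.pCoreOf p L := by rw [Subgroup.commutator_comm]; exact hRY
  have hgen : ∀ R' : Subgroup G, L ≤ Subgroup.normalizer (R' : Set G) →
      ⁅Y, R'⁆ ≤ Cfsg.pCoreOf p L → ⁅E, R'⁆ ≤ Cfsg.pCoreOf p L := by
    intro R' hLR' hYR'
    rw [hEdef]
    apply Cfsg.Agent.S2843.commutator_iSup_le
    · intro l
      have := cj_mono (g := (l : G)) hYL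
      rw [cj_eq_of_mem_normalizer (Subgroup.le_normalizer l.2)] at this
      exact this.trans hLO
    · intro l
      have h1 := cj_mono (g := (l : G)) hYR'
      rw [cj_commutator, cj_eq_of_mem_normalizer (hLO l.2),
        cj_eq_of_mem_normalizer (hLR' l.2)] at h1
      exact h1
  have hERO : ⁅E, opOf p E⁆ ≤ Cfsg.pCoreOf p L := hgen _ hLR hYR
  -- `E` is `p`-closed
  have hcl : Cfsg.IsPClosed p ↥E := by
    apply isPClosed_of_comm_le E (opOf p E)
    · exact le_normalizer_inf' Subgroup.le_normalizer hER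
    · intro e he
      exact ⟨_, Subgroup.mem_inf.mpr ⟨E.pow_mem he _, pow_mem_opOf he⟩⟩
    · have h1 : ⁅E ⊓ opOf p E, E⁆ ≤ Cfsg.pCoreOf p L := by
        rw [Subgroup.commutator_comm]
        exact (Subgroup.commutator_mono le_rfl inf_le_right).trans hERO
      have h2 : ⁅E ⊓ opOf p E, E⁆ ≤ E :=
        commutator_le_right_of_le_normalizer _ _ (inf_le_left.trans Subgroup.le_normalizer)
      apply (le_inf h1 h2).trans
      apply le_pCoreOf_of_normal E _ inf_le_right
      · exact le_normalizer_inf' (hEL.trans hLO) Subgroup.le_normalizer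
      · exact (pCoreOf_isPGroup L).to_le inf_le_left
  have hcl' : Cfsg.IsPClosed p ↥(E ⊓ E) := by rw [inf_idem]; exact hcl
  have h1 := le_pCoreOf_of_isPClosed E E Subgroup.le_normalizer hcl' Y hYp hYE hYE
  exact h1.trans (pCoreOf_le_of_sn (SN.of_normal hEL hLE))

end Cfsg.Agent.helper14
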