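import Mathlib
import Cfsg.Agent.Lib_helper7_SN

set_option autoImplicit false

/-!
Wielandt's theory of subnormal subgroups of finite groups: minimal normal subgroups normalize
subnormal subgroups, the join theorem, the zipper lemma and Wielandt's subnormality criterion.
`SN H K` (helper7) means `H` is subnormal in `K`; `cj g H = g H g⁻¹`.
-/

namespace Cfsg.Agent.lead

open Cfsg.Agent.helper7

universe u

section rel

variable {G : Type u} [Group G]

/-- `M` is a minimal `K`-invariant nontrivial subgroup of `K`. -/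
def IsMinNormalIn (M K : Subgroup G) : Prop :=
  M ≤ K ∧ M ≠ ⊥ ∧ K ≤ Subgroup.normalizer (M : Set G) ∧
    ∀ L : Subgroup G, L ≤ M → L ≠ ⊥ → K ≤ Subgroup.normalizer (L : Set G) → L = M

theorem le_normalizer_sup (A B : Subgroup G) :
    Subgroup.normalizer (A : Set G) ⊓ Subgroup.normalizer (B : Set G) ≤
      Subgroup.normalizer ((A ⊔ B : Subgroup G) : Set G) := by
  rintro m ⟨hA, hB⟩
  apply mem_normalizer_of_cj_eq
  show (A ⊔ B).map (MulAut.conj m).toMonoidHom = A ⊔ B
  rw [Subgroup.map_sup]
  have h1 : A.map (MulAut.conj m).toMonoidHom = A := cj_eq_of_mem_normalizer hA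
  have h2 : B.map (MulAut.conj m).toMonoidHom = B := cj_eq_of_mem_normalizer hB
  rw [h1, h2]

/-- if a family of subgroups is permuted by conjugation by `k`, `k` normalizes the join -/
theorem mem_normalizer_sSup [Finite G] (𝓛 : Set (Subgroup G)) (k : G)
    (h : ∀ L ∈ 𝓛, cj k L ∈ 𝓛) : k ∈ Subgroup.normalizer ((sSup 𝓛 : Subgroup G) : Set G) := by
  apply mem_normalizer_of_cj_eq
  apply Subgroup.eq_of_le_of_card_ge
  · rw [cj_le_iff]
    apply sSup_le
    intro L hL
    rw [← cj_le_iff]
    exact le_sSup (h L hL)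
  · rw [card_cj]

theorem exists_isMinNormalIn [Finite G] (M K : Subgroup G) (hMK : M ≤ K) (hM : M ≠ ⊥)
    (hKM : K ≤ Subgroup.normalizer (M : Set G)) : ∃ L, L ≤ M ∧ IsMinNormalIn L K := by
  let s : Set (Subgroup G) := {L | L ≤ M ∧ L ≠ ⊥ ∧ K ≤ Subgroup.normalizer (L : Set G)}
  have hsne : s.Nonempty := ⟨M, le_rfl, hM, hKM⟩
  obtain ⟨L, ⟨hLM, hL0, hLK⟩, hLmin⟩ := (Set.toFinite s).exists_minimal hsne
  refine ⟨L, hLM, hLM.trans hMK, hL0, hLK, ?_⟩
  intro L' hL'L hL'0 hL'K
  exact le_antisymm hL'L (hLmin ⟨hL'L.trans hLM, hL'0, hL'K⟩ hL'L)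

/-- Wielandt: a minimal normal subgroup normalizes every subnormal subgroup. -/
theorem wielandt_min_normal [Finite G] : ∀ (n : ℕ) (K H M : Subgroup G), Nat.card K = n → SN H K →
    IsMinNormalIn M K → M ≤ Subgroup.normalizer (H : Set G) := by
  intro n
  induction n using Nat.strong_induction_on with
  | _ n IH =>
    intro K H M hn hSN hM
    obtain ⟨hMK, hM0, hKM, hMmin⟩ := hM
    by_cases hHK : H = K
    · subst hHK
      exact hMK.trans Subgroup.le_normalizer
    obtain ⟨N, hHN, hNK, hKN, hNne⟩ := hSN.exists_normal hHK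
    have hSNN : SN H N := hSN.of_le hHN hNK
    have hcardN : Nat.card N < n := by
      rw [← hn]
      refine lt_of_le_of_ne (Subgroup.card_le_of_le hNK) ?_
      intro h
      exact hNne (Subgroup.eq_of_le_of_card_ge hNK h.ge)
    by_cases hdisj : M ⊓ N = ⊥
    · intro m hm
      apply Subgroup.centralizer_le_normalizer
      rw [Subgroup.mem_centralizer_iff]
      intro x hx
      have hxN : x ∈ N := hHN hx
      have h1 : m * x * m⁻¹ * x⁻¹ ∈ M ⊓ N := by
        constructor
        · have h2 : x * m⁻¹ * x⁻¹ ∈ M :=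
            (Subgroup.mem_normalizer_iff.mp (hKM (hNK hxN)) m⁻¹).mp (M.inv_mem hm)
          have h3 : m * x * m⁻¹ * x⁻¹ = m * (x * m⁻¹ * x⁻¹) := by group
          rw [h3]; exact M.mul_mem hm h2
        · have h2 : m * x * m⁻¹ ∈ N :=
            (Subgroup.mem_normalizer_iff.mp (hKN (hMK hm)) x).mp hxN
          exact N.mul_mem h2 (N.inv_mem hxN)
      rw [hdisj, Subgroup.mem_bot] at h1
      have h4 : m * x = (m * x * m⁻¹ * x⁻¹) * (x * m) := by group
      rw [h4, h1, one_mul]
    · have hMN : M ≤ N := by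
        have h1 : M ⊓ N = M := hMmin (M ⊓ N) inf_le_left hdisj
          ((le_inf hKM hKN).trans Subgroup.inf_normalizer_le_normalizer_inf)
        rw [← h1]; exact inf_le_right
      let 𝓛 : Set (Subgroup G) := {L | L ≤ M ∧ IsMinNormalIn L N}
      have hS_H : sSup 𝓛 ≤ Subgroup.normalizer (H : Set G) := by
        apply sSup_le
        rintro L ⟨-, hL⟩
        exact IH _ hcardN N H L rfl hSNN hL
      have hS_M : sSup 𝓛 ≤ M := sSup_le fun L hL => hL.1
      have hS_0 : sSup 𝓛 ≠ ⊥ := by
        obtain ⟨L, hLM, hL⟩ := exists_isMinNormalIn M N hMN hM0 (hNK.trans hKM)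
        intro h
        have : L ≤ sSup 𝓛 := le_sSup ⟨hLM, hL⟩
        rw [h, le_bot_iff] at this
        exact hL.2.1 this
      have hS_K : K ≤ Subgroup.normalizer ((sSup 𝓛 : Subgroup G) : Set G) := by
        intro k hk
        apply mem_normalizer_sSup
        rintro L ⟨hLM, hLN, hL0, hNL, hLmin⟩
        have hkM : cj k M = M := cj_eq_of_mem_normalizer (hKM hk)
        have hkN : cj k N = N := cj_eq_of_mem_normalizer (hKN hk)
        have hkN' : cj k⁻¹ N = N := cj_eq_of_mem_normalizer (Subgroup.inv_mem _ (hKN hk))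
        refine ⟨?_, ?_, ?_, ?_, ?_⟩
        · rw [← hkM]; exact cj_mono hLM
        · rw [← hkN]; exact cj_mono hLN
        · rw [Ne, cj_eq_bot_iff]; exact hL0
        · rw [← cj_normalizer, ← hkN]; exact cj_mono hNL
        · intro L' hL'L hL'0 hNL'
          have h1 : cj k⁻¹ L' ≤ L := by
            rw [cj_le_iff, inv_inv]; exact hL'L
          have h2 : cj k⁻¹ L' ≠ ⊥ := by rw [Ne, cj_eq_bot_iff]; exact hL'0
          have h3 : N ≤ Subgroup.normalizer ((cj k⁻¹ L' : Subgroup G) : Set G) := by
            rw [← cj_normalizer, ← hkN']; exact cj_mono hNL'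
          have h4 := hLmin _ h1 h2 h3
          rw [← h4, cj_cj, mul_inv_cancel, cj_one]
      have hSM : sSup 𝓛 = M := hMmin _ hS_M hS_0 hS_K
      rw [← hSM]; exact hS_H

end rel

/-- Wielandt's join theorem: in a finite group the join of two subnormal subgroups is subnormal. -/
theorem isSubnormal_sup : ∀ (n : ℕ) (G : Type u) [Group G] [Finite G], Nat.card G = n →
    ∀ A B : Subgroup G, A.IsSubnormal → B.IsSubnormal → (A ⊔ B).IsSubnormal := by
  intro n
  induction n using Nat.strong_induction_on with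
  | _ n IH =>
    intro G _ _ hn A B hA hB
    by_cases hsub : Subsingleton G
    · have : A ⊔ B = ⊤ := Subsingleton.elim _ _
      rw [this]; exact Subgroup.IsSubnormal.top
    rw [not_subsingleton_iff_nontrivial] at hsub
    obtain ⟨M, -, hM⟩ := exists_isMinNormalIn (⊤ : Subgroup G) ⊤ le_rfl top_ne_bot
      (by rw [Subgroup.normalizer_eq_top])
    have hMA : M ≤ Subgroup.normalizer (A : Set G) :=
      wielandt_min_normal _ ⊤ A M rfl (sn_top_iff.mpr hA) hM
    have hMB : M ≤ Subgroup.normalizer (B : Set G) :=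
      wielandt_min_normal _ ⊤ B M rfl (sn_top_iff.mpr hB) hM
    haveI hMn : M.Normal := Subgroup.normalizer_eq_top_iff.mp (top_le_iff.mp hM.2.2.1)
    have hlt : Nat.card (G ⧸ M) < n := by
      have h1 := Subgroup.card_eq_card_quotient_mul_card_subgroup M
      have h2 : 1 < Nat.card M := by
        rw [Subgroup.one_lt_card_iff_ne_bot]; exact hM.2.1
      have h3 : 0 < Nat.card (G ⧸ M) := Nat.card_pos
      rw [hn] at h1
      nlinarith
    have hq := IH _ hlt (G ⧸ M) rfl (A.map (QuotientGroup.mk' M)) (B.map (QuotientGroup.mk' M))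
      (hA.map (QuotientGroup.mk'_surjective M)) (hB.map (QuotientGroup.mk'_surjective M))
    have hq2 := hq.comap (QuotientGroup.mk' M)
    rw [← Subgroup.map_sup, Subgroup.comap_map_eq, QuotientGroup.ker_mk'] at hq2
    have hMJ : M ≤ Subgroup.normalizer ((A ⊔ B : Subgroup G) : Set G) :=
      (le_inf hMA hMB).trans (le_normalizer_sup A B)
    refine Subgroup.IsSubnormal.step (A ⊔ B) (A ⊔ B ⊔ M) le_sup_left hq2 ?_
    rw [Subgroup.normal_subgroupOf_iff_le_normalizer le_sup_left]
    exact sup_le Subgroup.le_normalizer hMJ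

section rel2

variable {G : Type u} [Group G] [Finite G]

/-- relative form of the join theorem -/
theorem SN.sup {A B K : Subgroup G} (hA : SN A K) (hB : SN B K) : SN (A ⊔ B) K := by
  rw [sn_iff] at hA hB ⊢
  refine ⟨sup_le hA.1 hB.1, ?_⟩
  rw [Subgroup.subgroupOf_sup hA.1 hB.1]
  exact isSubnormal_sup _ K rfl _ _ hA.2 hB.2

theorem exists_conj_le_normalizer {S K₁ H : Subgroup G} (hSK : S ≤ K₁)
    (hK₁ : K₁ ≤ Subgroup.normalizer (S : Set G)) (h : SN K₁ H)
    (hn : ¬ H ≤ Subgroup.normalizer (S : Set G)) :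
    ∃ x ∈ H, x ∉ Subgroup.normalizer (S : Set G) ∧ cj x S ≤ Subgroup.normalizer (S : Set G) := by
  induction h with
  | refl K => exact absurd hK₁ hn
  | step K₁ K₂ H hK₁K₂ hK₂n hK₂H ih =>
    by_cases h2 : K₂ ≤ Subgroup.normalizer (S : Set G)
    · exact ih (hSK.trans hK₁K₂) h2 hn
    · obtain ⟨x, hxK₂, hxS⟩ := SetLike.not_le_iff_exists.mp h2
      refine ⟨x, hK₂H.le hxK₂, hxS, ?_⟩
      have h3 : cj x K₁ = K₁ := cj_eq_of_mem_normalizer (hK₂n hxK₂)
      calc cj x S ≤ cj x K₁ := cj_mono hSK
        _ = K₁ := h3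
        _ ≤ _ := hK₁

/-- The zipper lemma. -/
theorem zipper : ∀ (d : ℕ) (K S : Subgroup G), Nat.card K - Nat.card S = d → S ≤ K →
    (∀ H : Subgroup G, S ≤ H → H < K → SN S H) → ¬ SN S K →
    ∃ M : Subgroup G, M < K ∧ S ≤ M ∧ ∀ H : Subgroup G, S ≤ H → H < K → H ≤ M := by
  intro d
  induction d using Nat.strong_induction_on with
  | _ d IH =>
    intro K S hd hSK hprop hnot
    have hKS : ¬ K ≤ Subgroup.normalizer (S : Set G) := fun h => hnot (SN.of_normal hSK h)
    -- a maximal proper subgroup containing `K ⊓ N(S)`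
    let s : Set (Subgroup G) := {M | K ⊓ Subgroup.normalizer (S : Set G) ≤ M ∧ M < K}
    have hsne : s.Nonempty := by
      refine ⟨K ⊓ Subgroup.normalizer (S : Set G), le_rfl, lt_of_le_of_ne inf_le_left ?_⟩
      intro h
      apply hKS
      rw [← h]; exact inf_le_right
    obtain ⟨M, ⟨hNM, hMK⟩, hMmax⟩ := (Set.toFinite s).exists_maximal hsne
    have hSM : S ≤ M := (le_inf hSK Subgroup.le_normalizer).trans hNM
    refine ⟨M, hMK, hSM, ?_⟩
    intro H hSH hHK
    have hSNH : SN S H := hprop H hSH hHK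
    by_cases hHn : H ≤ Subgroup.normalizer (S : Set G)
    · exact (le_inf hHK.le hHn).trans hNM
    -- S is not normal in H
    have hSneH : S ≠ H := by
      intro h
      apply hHn
      rw [← h]; exact Subgroup.le_normalizer
    obtain ⟨x, hxH, hxS, hxn⟩ : ∃ x ∈ H, x ∉ Subgroup.normalizer (S : Set G) ∧
        cj x S ≤ Subgroup.normalizer (S : Set G) := by
      cases hSNH with
      | refl => exact absurd rfl hSneH
      | step _ K₁ _ hSK₁ hK₁n hK₁H => exact exists_conj_le_normalizer hSK₁ hK₁n hK₁H hHn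
    set T := S ⊔ cj x S with hT
    have hxK : x ∈ K := hHK.le hxH
    have hST : S < T := by
      refine lt_of_le_of_ne le_sup_left ?_
      intro h
      apply hxS
      apply mem_normalizer_of_cj_eq
      apply Subgroup.eq_of_le_of_card_ge
      · exact (le_sup_right : cj x S ≤ T).trans h.symm.le
      · rw [card_cj]
    have hTn : T ≤ Subgroup.normalizer (S : Set G) := sup_le Subgroup.le_normalizer hxn
    have hcjK : cj x S ≤ K := by
      have : cj x K = K := cj_eq_of_mem_normalizer (Subgroup.le_normalizer hxK)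
      exact (cj_mono hSK).trans this.le
    have hTK : T ≤ K := sup_le hSK hcjK
    have hTM : T ≤ M := (le_inf hTK hTn).trans hNM
    have hTH : T ≤ H := by
      refine sup_le hSH ?_
      have : cj x H = H := cj_eq_of_mem_normalizer (Subgroup.le_normalizer hxH)
      exact (cj_mono hSH).trans this.le
    have hcardST : Nat.card S < Nat.card T := by
      refine lt_of_le_of_ne (Subgroup.card_le_of_le hST.le) ?_
      intro h
      exact hST.ne (Subgroup.eq_of_le_of_card_ge hST.le h.ge)
    have hcardTK : Nat.card T ≤ Nat.card K := Subgroup.card_le_of_le hTK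
    have hpropT : ∀ H' : Subgroup G, T ≤ H' → H' < K → SN T H' := by
      intro H' hTH' hH'K
      have h1 : SN S H' := hprop H' (le_sup_left.trans hTH') hH'K
      have h2 : SN (cj x S) H' := by
        have hx' : x⁻¹ ∈ K := K.inv_mem hxK
        have hKx : cj x⁻¹ K = K := cj_eq_of_mem_normalizer (Subgroup.le_normalizer hx')
        have h3 : S ≤ cj x⁻¹ H' := by
          rw [← cj_le_iff]; exact le_sup_right.trans hTH'
        have h4 : cj x⁻¹ H' < K := by
          refine lt_of_le_of_ne ?_ ?_
          · exact (cj_mono hH'K.le).trans hKx.le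
          · intro h
            have h5 : Nat.card H' = Nat.card K := by
              have := card_cj x⁻¹ H'
              rw [h] at this
              exact this.symm
            exact hH'K.ne (Subgroup.eq_of_le_of_card_ge hH'K.le h5.ge)
        have h6 := (hprop _ h3 h4).conj x
        rwa [cj_cj, mul_inv_cancel, cj_one] at h6
      exact SN.sup h1 h2
    have hnotT : ¬ SN T K := by
      intro h
      exact hnot (SN.step S T K le_sup_left hTn h)
    obtain ⟨M', hM'K, hTM', hM'max⟩ := IH (Nat.card K - Nat.card T) (by omega) K T rfl hTK hpropT hnotT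
    have hMM' : M ≤ M' := hM'max M hTM hMK
    have hM'M : M' ≤ M := hMmax ⟨hNM.trans hMM', hM'K⟩ hMM'
    exact (hM'max H hTH hHK).trans hM'M

/-- Wielandt's subnormality criterion, relative form. -/
theorem wielandt_criterion (A : Subgroup G) : ∀ (n : ℕ) (K : Subgroup G), Nat.card K = n → A ≤ K →
    (∀ g ∈ K, SN A (A ⊔ cj g A)) → SN A K := by
  intro n
  induction n using Nat.strong_induction_on with
  | _ n IH =>
    intro K hn hAK hyp
    by_contra hnot
    have hprop : ∀ H : Subgroup G, A ≤ H → H < K → SN A H := by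
      intro H hAH hHK
      have hlt : Nat.card H < n := by
        rw [← hn]
        refine lt_of_le_of_ne (Subgroup.card_le_of_le hHK.le) ?_
        intro h
        exact hHK.ne (Subgroup.eq_of_le_of_card_ge hHK.le h.ge)
      exact IH _ hlt H rfl hAH (fun g hg => hyp g (hHK.le hg))
    obtain ⟨M, hMK, hAM, hMmax⟩ := zipper _ K A rfl hAK hprop hnot
    have hconj : ∀ g ∈ K, cj g A ≤ M := by
      intro g hg
      have hle : A ⊔ cj g A ≤ K := by
        refine sup_le hAK ?_
        have : cj g K = K := cj_eq_of_mem_normalizer (Subgroup.le_normalizer hg)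
        exact (cj_mono hAK).trans this.le
      have hlt : A ⊔ cj g A < K := by
        refine lt_of_le_of_ne hle ?_
        intro h
        apply hnot
        have := hyp g hg
        rwa [h] at this
      exact le_sup_right.trans (hMmax _ le_sup_left hlt)
    let 𝓛 : Set (Subgroup G) := {L | ∃ g ∈ K, L = cj g A}
    set C := sSup 𝓛 with hC
    have hAC : A ≤ C := le_sSup ⟨1, K.one_mem, (cj_one A).symm⟩
    have hCM : C ≤ M := by
      apply sSup_le
      rintro L ⟨g, hg, rfl⟩
      exact hconj g hg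
    have hCK : C < K := lt_of_le_of_lt hCM hMK
    have hKC : K ≤ Subgroup.normalizer (C : Set G) := by
      intro k hk
      apply mem_normalizer_sSup
      rintro L ⟨g, hg, rfl⟩
      exact ⟨k * g, K.mul_mem hk hg, cj_cj k g A⟩
    exact hnot ((hprop C hAC hCK).trans (SN.of_normal hCK.le hKC))

end rel2

end Cfsg.Agent.lead
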