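import Mathlib
import Cfsg.Agent.Lib_lead_Wielandt
import Cfsg.Agent.Lib_helper14_ParaChar

set_option autoImplicit false

/-!
The Sylow subgroups of a join of two subnormal subgroups: `⟨A₁, A₂⟩ ∩ S = ⟨A₁ ∩ S, A₂ ∩ S⟩`.
-/

namespace Cfsg.Agent.helper14

open Cfsg.Agent.helper7 Cfsg.Agent.lead

universe u

theorem relIndex_map_dvd {G G' : Type*} [Group G] [Group G'] (f : G →* G') (H K : Subgroup G)
    (hHK : H ≤ K) : (H.map f).relIndex (K.map f) ∣ H.relIndex K := by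
  have e1 : (H.subgroupOf K).map (f.comp K.subtype) = H.map f := by
    rw [← Subgroup.map_map, Subgroup.subgroupOf_map_subtype, inf_eq_left.mpr hHK]
  have e2 : (⊤ : Subgroup K).map (f.comp K.subtype) = K.map f := by
    rw [← Subgroup.map_map, ← MonoidHom.range_eq_map, Subgroup.range_subtype]
  rw [← e1, ← e2, Subgroup.relIndex_map_map, top_sup_eq, Subgroup.relIndex_top_right]
  exact Subgroup.index_dvd_of_le le_sup_left

theorem le_of_isPGroup_of_not_dvd_relIndex {G : Type*} [Group G] [Finite G] {p : ℕ}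
    [hp : Fact p.Prime] {X Y Z : Subgroup G} (hXY : X ≤ Y) (hYZ : Y ≤ Z) (hY : IsPGroup p Y)
    (h : ¬ p ∣ X.relIndex Z) : Y ≤ X := by
  rw [← Subgroup.relIndex_eq_one]
  obtain ⟨n, hn⟩ := hY.index (X.subgroupOf Y)
  have h1 := Subgroup.relIndex_mul_relIndex X Y Z hXY hYZ
  have h2 : X.relIndex Y = p ^ n := hn
  rcases Nat.eq_zero_or_pos n with h0 | h0
  · rw [h2, h0, pow_zero]
  · exfalso
    apply h
    rw [← h1, h2]
    exact Dvd.dvd.mul_right (dvd_pow_self p h0.ne') _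

theorem exists_sylow_eq_of_not_dvd {G : Type*} [Group G] [Finite G] {p : ℕ} [hp : Fact p.Prime]
    (S : Subgroup G) (hS : IsPGroup p S) (hidx : ¬ p ∣ S.index) :
    ∃ Q : Sylow p G, (Q : Subgroup G) = S := by
  obtain ⟨Q, hQ⟩ := hS.exists_le_sylow
  refine ⟨Q, le_antisymm ?_ hQ⟩
  apply le_of_isPGroup_of_not_dvd_relIndex hQ le_top Q.isPGroup'
  rw [Subgroup.relIndex_top_right]
  exact hidx

theorem le_normalizer_of_forall_conj_mem {G : Type*} [Group G] (A D : Subgroup G)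
    (h : ∀ a ∈ A, ∀ d ∈ D, a * d * a⁻¹ ∈ D) : A ≤ Subgroup.normalizer (D : Set G) := by
  intro a ha
  rw [Subgroup.mem_normalizer_iff]
  intro d
  constructor
  · exact h a ha d
  · intro hd
    have := h a⁻¹ (A.inv_mem ha) _ hd
    simpa [mul_assoc] using this

theorem conj_mem_of_mem_sup {G : Type*} [Group G] (X Y D : Subgroup G) (a : G)
    (hX : ∀ x ∈ X, a * x * a⁻¹ ∈ D) (hY : ∀ y ∈ Y, a * y * a⁻¹ ∈ D) :
    ∀ d ∈ X ⊔ Y, a * d * a⁻¹ ∈ D := by
  intro d hd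
  have h : (X ⊔ Y).map (MulAut.conj a).toMonoidHom ≤ D := by
    rw [Subgroup.map_sup]
    apply sup_le
    · rintro _ ⟨x, hx, rfl⟩
      exact hX x hx
    · rintro _ ⟨y, hy, rfl⟩
      exact hY y hy
  exact h ⟨d, hd, rfl⟩

theorem sylow_join_aux {p : ℕ} [hp : Fact p.Prime] :
    ∀ (n : ℕ) (G : Type u) [Group G] [Finite G], Nat.card G = n →
    ∀ (S A₁ A₂ : Subgroup G), IsPGroup p S → ¬ p ∣ S.index →
    A₁.IsSubnormal → A₂.IsSubnormal →
    (A₁ ⊔ A₂) ⊓ S ≤ (A₁ ⊓ S) ⊔ (A₂ ⊓ S) := by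
  intro n
  induction n using Nat.strong_induction_on with
  | _ n IH =>
  intro G _ _ hn S A₁ A₂ hSp hSidx hA₁ hA₂
  obtain ⟨Q, hQ⟩ := exists_sylow_eq_of_not_dvd S hSp hSidx
  -- Step A: the claim inside a proper subnormal subgroup
  have stepA : ∀ K B₁ B₂ : Subgroup G, K ≠ ⊤ → K.IsSubnormal → B₁ ≤ K → B₂ ≤ K →
      B₁.IsSubnormal → B₂.IsSubnormal → (B₁ ⊔ B₂) ⊓ S ≤ (B₁ ⊓ S) ⊔ (B₂ ⊓ S) := by
    intro K B₁ B₂ hK hKsn hB₁K hB₂K hB₁ hB₂
    have hlt : Nat.card K < n := by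
      rw [← hn]
      exact lt_of_le_of_ne (Subgroup.card_le_card_group K)
        (fun h => hK ((Subgroup.card_eq_iff_eq_top K).mp h))
    have hidx' : ¬ p ∣ (S.subgroupOf K).index := by
      have := sylow_inf_sn_not_dvd Q K hKsn
      rw [hQ, Subgroup.inf_relIndex_right] at this
      exact this
    have h := IH _ hlt K rfl (S.subgroupOf K) (B₁.subgroupOf K) (B₂.subgroupOf K)
      hSp.comap_subtype hidx' hB₁.subgroupOf hB₂.subgroupOf
    have h2 := Subgroup.map_mono (f := K.subtype) h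
    rw [Subgroup.map_inf _ _ _ K.subtype_injective, Subgroup.map_sup, Subgroup.map_sup,
      Subgroup.map_inf _ _ _ K.subtype_injective,
      Subgroup.map_inf _ _ _ K.subtype_injective] at h2
    simp only [Subgroup.subgroupOf_map_subtype] at h2
    rw [inf_eq_left.mpr hB₁K, inf_eq_left.mpr hB₂K] at h2
    intro x hx
    obtain ⟨hx1, hx2⟩ := Subgroup.mem_inf.mp hx
    have hxK : x ∈ K := (sup_le hB₁K hB₂K) hx1
    have h3 := h2 (Subgroup.mem_inf.mpr ⟨hx1, Subgroup.mem_inf.mpr ⟨hx2, hxK⟩⟩)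
    have h4 : (B₁ ⊓ (S ⊓ K)) ⊔ (B₂ ⊓ (S ⊓ K)) ≤ (B₁ ⊓ S) ⊔ (B₂ ⊓ S) :=
      sup_le_sup (inf_le_inf_left _ inf_le_left) (inf_le_inf_left _ inf_le_left)
    exact h4 h3
  -- Step B: the claim modulo a nontrivial normal subgroup
  have stepB : ∀ N : Subgroup G, N.Normal → N ≠ ⊥ →
      (A₁ ⊔ A₂) ⊓ S ≤ ((A₁ ⊓ S) ⊔ (A₂ ⊓ S)) ⊔ N := by
    intro N hN hN1
    haveI := hN
    have hlt : Nat.card (G ⧸ N) < n := by
      have h1 := Subgroup.card_eq_card_quotient_mul_card_subgroup N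
      have h2 : 1 < Nat.card N := by
        rw [Subgroup.one_lt_card_iff_ne_bot]; exact hN1
      have h3 : 0 < Nat.card (G ⧸ N) := Nat.card_pos
      rw [hn] at h1
      nlinarith
    have hπ : Function.Surjective (QuotientGroup.mk' N) := QuotientGroup.mk'_surjective N
    have hidx' : ¬ p ∣ (S.map (QuotientGroup.mk' N)).index :=
      fun h => hSidx (h.trans (Subgroup.index_map_dvd S hπ))
    have h := IH _ hlt (G ⧸ N) rfl (S.map (QuotientGroup.mk' N)) (A₁.map (QuotientGroup.mk' N))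
      (A₂.map (QuotientGroup.mk' N)) (hSp.map _) hidx' (hA₁.map hπ) (hA₂.map hπ)
    have key : ∀ A : Subgroup G, A.IsSubnormal →
        A.map (QuotientGroup.mk' N) ⊓ S.map (QuotientGroup.mk' N) ≤
          (A ⊓ S).map (QuotientGroup.mk' N) := by
      intro A hA
      have h1 := sylow_inf_sn_not_dvd Q A hA
      rw [hQ, inf_comm] at h1
      have h2 : ¬ p ∣ ((A ⊓ S).map (QuotientGroup.mk' N)).relIndex
          (A.map (QuotientGroup.mk' N)) :=
        fun h => h1 (h.trans (relIndex_map_dvd _ _ _ inf_le_left))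
      exact le_of_isPGroup_of_not_dvd_relIndex
        (le_inf (Subgroup.map_mono inf_le_left) (Subgroup.map_mono inf_le_right)) inf_le_left
        ((hSp.map _).to_le inf_le_right) h2
    intro x hx
    obtain ⟨hx1, hx2⟩ := Subgroup.mem_inf.mp hx
    have h3 : (QuotientGroup.mk' N) x ∈ (A₁.map (QuotientGroup.mk' N) ⊔
        A₂.map (QuotientGroup.mk' N)) ⊓ S.map (QuotientGroup.mk' N) := by
      rw [← Subgroup.map_sup]
      exact Subgroup.mem_inf.mpr ⟨Subgroup.mem_map_of_mem _ hx1, Subgroup.mem_map_of_mem _ hx2⟩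
    have h4 := h h3
    have h5 : (QuotientGroup.mk' N) x ∈ ((A₁ ⊓ S) ⊔ (A₂ ⊓ S)).map (QuotientGroup.mk' N) := by
      rw [Subgroup.map_sup]
      exact (sup_le_sup (key A₁ hA₁) (key A₂ hA₂)) h4
    have h6 : x ∈ (((A₁ ⊓ S) ⊔ (A₂ ⊓ S)).map (QuotientGroup.mk' N)).comap
        (QuotientGroup.mk' N) := h5
    rw [Subgroup.comap_map_eq, QuotientGroup.ker_mk'] at h6
    exact h6
  by_cases hJ : A₁ ⊔ A₂ = ⊤
  swap
  · exact stepA (A₁ ⊔ A₂) A₁ A₂ hJ (isSubnormal_sup _ G rfl A₁ A₂ hA₁ hA₂) le_sup_left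
      le_sup_right hA₁ hA₂
  by_cases h1 : A₁ = ⊤
  · rw [h1]
    intro x hx
    exact Subgroup.mem_sup_left
      (Subgroup.mem_inf.mpr ⟨Subgroup.mem_top x, (Subgroup.mem_inf.mp hx).2⟩)
  by_cases h2 : A₂ = ⊤
  · rw [h2]
    intro x hx
    exact Subgroup.mem_sup_right
      (Subgroup.mem_inf.mpr ⟨Subgroup.mem_top x, (Subgroup.mem_inf.mp hx).2⟩)
  by_contra hcon
  have hTS : (A₁ ⊓ S) ⊔ (A₂ ⊓ S) ≤ S := sup_le inf_le_right inf_le_right
  -- Dedekind
  have ded : ∀ N : Subgroup G, N.Normal → N ≠ ⊥ → ¬ (S ⊓ N ≤ (A₁ ⊓ S) ⊔ (A₂ ⊓ S)) := by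
    intro N hN hN1 hle
    apply hcon
    intro x hx
    have hx' := stepB N hN hN1 hx
    haveI := hN
    have hx'' : x ∈ ((((A₁ ⊓ S) ⊔ (A₂ ⊓ S)) ⊔ N : Subgroup G) : Set G) := hx'
    rw [Subgroup.mul_normal] at hx''
    obtain ⟨t, ht, m, hm, rfl⟩ := Set.mem_mul.mp hx''
    have hmS : m ∈ S := by
      have e : m = t⁻¹ * (t * m) := by group
      rw [e]
      exact S.mul_mem (S.inv_mem (hTS ht)) (Subgroup.mem_inf.mp hx).2
    exact Subgroup.mul_mem _ ht (hle (Subgroup.mem_inf.mpr ⟨hmS, hm⟩))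
  -- analysis of minimal normal subgroups
  have ana : ∀ N : Subgroup G, IsMinNormalIn N ⊤ →
      N ≤ Subgroup.center G ∧ N ≤ S ∧ ((A₁ ⊓ S) ⊔ (A₂ ⊓ S)) ⊓ N = ⊥ := by
    intro N hNmin
    have hNn : N.Normal := Subgroup.normalizer_eq_top_iff.mp (top_le_iff.mp hNmin.2.2.1)
    have hNA₁ : N ≤ Subgroup.normalizer (A₁ : Set G) :=
      wielandt_min_normal _ ⊤ A₁ N rfl (sn_top_iff.mpr hA₁) hNmin
    have hNA₂ : N ≤ Subgroup.normalizer (A₂ : Set G) :=
      wielandt_min_normal _ ⊤ A₂ N rfl (sn_top_iff.mpr hA₂) hNmin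
    have hc : ∀ A : Subgroup G, N ≤ Subgroup.normalizer (A : Set G) → ∀ a ∈ A, ∀ m ∈ N,
        a * m * a⁻¹ * m⁻¹ ∈ N ⊓ A := by
      intro A hNA a ha m hm
      refine Subgroup.mem_inf.mpr ⟨?_, ?_⟩
      · exact N.mul_mem (hNn.conj_mem m hm a) (N.inv_mem hm)
      · have h1 : m * a⁻¹ * m⁻¹ ∈ A :=
          (Subgroup.mem_normalizer_iff.mp (hNA hm) a⁻¹).mp (A.inv_mem ha)
        have e : a * m * a⁻¹ * m⁻¹ = a * (m * a⁻¹ * m⁻¹) := by group
        rw [e]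
        exact A.mul_mem ha h1
    have hDN : (N ⊓ A₁) ⊔ (N ⊓ A₂) ≤ N := sup_le inf_le_left inf_le_left
    have hD1 : A₁ ≤ Subgroup.normalizer (((N ⊓ A₁) ⊔ (N ⊓ A₂) : Subgroup G) : Set G) := by
      apply le_normalizer_of_forall_conj_mem
      intro a ha
      apply conj_mem_of_mem_sup
      · intro x hx
        obtain ⟨hxN, hxA⟩ := Subgroup.mem_inf.mp hx
        exact Subgroup.mem_sup_left (Subgroup.mem_inf.mpr
          ⟨hNn.conj_mem x hxN a, A₁.mul_mem (A₁.mul_mem ha hxA) (A₁.inv_mem ha)⟩)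
      · intro y hy
        obtain ⟨hyN, hyA⟩ := Subgroup.mem_inf.mp hy
        have e : a * y * a⁻¹ = (a * y * a⁻¹ * y⁻¹) * y := by group
        rw [e]
        exact Subgroup.mul_mem _ (Subgroup.mem_sup_left (hc A₁ hNA₁ a ha y hyN))
          (Subgroup.mem_sup_right hy)
    have hD2 : A₂ ≤ Subgroup.normalizer (((N ⊓ A₁) ⊔ (N ⊓ A₂) : Subgroup G) : Set G) := by
      apply le_normalizer_of_forall_conj_mem
      intro a ha
      apply conj_mem_of_mem_sup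
      · intro y hy
        obtain ⟨hyN, hyA⟩ := Subgroup.mem_inf.mp hy
        have e : a * y * a⁻¹ = (a * y * a⁻¹ * y⁻¹) * y := by group
        rw [e]
        exact Subgroup.mul_mem _ (Subgroup.mem_sup_right (hc A₂ hNA₂ a ha y hyN))
          (Subgroup.mem_sup_left hy)
      · intro x hx
        obtain ⟨hxN, hxA⟩ := Subgroup.mem_inf.mp hx
        exact Subgroup.mem_sup_right (Subgroup.mem_inf.mpr
          ⟨hNn.conj_mem x hxN a, A₂.mul_mem (A₂.mul_mem ha hxA) (A₂.inv_mem ha)⟩)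
    have hDtop : (⊤ : Subgroup G) ≤
        Subgroup.normalizer (((N ⊓ A₁) ⊔ (N ⊓ A₂) : Subgroup G) : Set G) := by
      rw [← hJ]
      exact sup_le hD1 hD2
    by_cases hD0 : (N ⊓ A₁) ⊔ (N ⊓ A₂) = ⊥
    swap
    · exfalso
      have hDeq : (N ⊓ A₁) ⊔ (N ⊓ A₂) = N := hNmin.2.2.2 _ hDN hD0 hDtop
      by_cases hNtop : N = ⊤
      · obtain ⟨M₁, hM₁n, hA₁M, hM₁lt⟩ := hA₁.exists_normal_and_le_and_lt_top_of_ne h1
        obtain ⟨M₂, hM₂n, hA₂M, hM₂lt⟩ := hA₂.exists_normal_and_le_and_lt_top_of_ne h2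
        have hM₁0 : M₁ = ⊥ := by
          by_contra hne
          have := hNmin.2.2.2 M₁ (by rw [hNtop]; exact le_top) hne
            (by rw [Subgroup.normalizer_eq_top_iff.mpr hM₁n])
          rw [this, hNtop] at hM₁lt
          exact lt_irrefl _ hM₁lt
        have hM₂0 : M₂ = ⊥ := by
          by_contra hne
          have := hNmin.2.2.2 M₂ (by rw [hNtop]; exact le_top) hne
            (by rw [Subgroup.normalizer_eq_top_iff.mpr hM₂n])
          rw [this, hNtop] at hM₂lt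
          exact lt_irrefl _ hM₂lt
        have : (⊤ : Subgroup G) ≤ ⊥ := by
          rw [← hJ]
          exact sup_le (hM₁0 ▸ hA₁M) (hM₂0 ▸ hA₂M)
        exact hNmin.2.1 (by rw [hNtop]; exact le_bot_iff.mp this)
      · have h3 := stepA N (N ⊓ A₁) (N ⊓ A₂) hNtop hNn.isSubnormal inf_le_left inf_le_left
          (hNn.isSubnormal.inf hA₁) (hNn.isSubnormal.inf hA₂)
        rw [hDeq] at h3
        apply ded N hNn hNmin.2.1
        rw [inf_comm]
        refine h3.trans (sup_le_sup ?_ ?_)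
        · exact inf_le_inf_right _ inf_le_right
        · exact inf_le_inf_right _ inf_le_right
    · have hNA₁0 : N ⊓ A₁ = ⊥ := le_bot_iff.mp (hD0 ▸ le_sup_left)
      have hNA₂0 : N ⊓ A₂ = ⊥ := le_bot_iff.mp (hD0 ▸ le_sup_right)
      have hcomm : ∀ m ∈ N, ∀ g : G, g * m = m * g := by
        intro m hm
        have hA : ∀ A : Subgroup G, N ≤ Subgroup.normalizer (A : Set G) → N ⊓ A = ⊥ →
            A ≤ Subgroup.centralizer ({m} : Set G) := by
          intro A hNA hA0 a ha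
          rw [Subgroup.mem_centralizer_iff]
          intro y hy
          rw [Set.mem_singleton_iff] at hy
          subst hy
          have h4 := hc A hNA a ha y hm
          rw [hA0, Subgroup.mem_bot] at h4
          have e : a * y = (a * y * a⁻¹ * y⁻¹) * (y * a) := by group
          rw [e, h4, one_mul]
        have htop : (⊤ : Subgroup G) ≤ Subgroup.centralizer ({m} : Set G) := by
          rw [← hJ]
          exact sup_le (hA A₁ hNA₁ hNA₁0) (hA A₂ hNA₂ hNA₂0)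
        intro g
        have := Subgroup.mem_centralizer_iff.mp (htop (Subgroup.mem_top g)) m rfl
        exact this.symm
      have hNZ : N ≤ Subgroup.center G := by
        intro m hm
        rw [Subgroup.mem_center_iff]
        exact hcomm m hm
      have hsub : ∀ L : Subgroup G, L ≤ N → L ≠ ⊥ → L = N := by
        intro L hLN hL0
        apply hNmin.2.2.2 L hLN hL0
        apply le_normalizer_of_forall_conj_mem
        intro a _ d hd
        have := hcomm d (hLN hd) a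
        rw [this, mul_inv_cancel_right]
        exact hd
      have hSN : S ⊓ N = N := by
        apply hsub _ inf_le_right
        intro h0
        apply ded N hNn hNmin.2.1
        rw [h0]
        exact bot_le
      have hTN : ((A₁ ⊓ S) ⊔ (A₂ ⊓ S)) ⊓ N = ⊥ := by
        by_contra h0
        have h5 := hsub _ inf_le_right h0
        have hNT : N ≤ (A₁ ⊓ S) ⊔ (A₂ ⊓ S) := by
          rw [← h5]
          exact inf_le_left
        exact ded N hNn hNmin.2.1 (inf_le_right.trans hNT)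
      exact ⟨hNZ, hSN ▸ inf_le_left, hTN⟩
  -- a minimal normal subgroup exists
  have hntop : (⊤ : Subgroup G) ≠ ⊥ := by
    intro h
    apply hcon
    intro x _
    have hx : x ∈ (⊥ : Subgroup G) := h ▸ Subgroup.mem_top x
    rw [Subgroup.mem_bot] at hx
    subst hx
    exact Subgroup.one_mem _
  obtain ⟨N₀, -, hN₀⟩ := exists_isMinNormalIn (⊤ : Subgroup G) ⊤ le_rfl hntop
    (by rw [Subgroup.normalizer_eq_top])
  obtain ⟨hN₀Z, hN₀S, hTN₀⟩ := ana N₀ hN₀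
  have hN₀n : N₀.Normal := Subgroup.normalizer_eq_top_iff.mp (top_le_iff.mp hN₀.2.2.1)
  have hSTN : S ≤ ((A₁ ⊓ S) ⊔ (A₂ ⊓ S)) ⊔ N₀ := by
    intro x hx
    exact stepB N₀ hN₀n hN₀.2.1 (Subgroup.mem_inf.mpr ⟨hJ ▸ Subgroup.mem_top x, hx⟩)
  haveI hT'n : (((A₁ ⊓ S) ⊔ (A₂ ⊓ S)).subgroupOf S).Normal := by
    rw [Subgroup.normal_subgroupOf_iff_le_normalizer hTS]
    exact hSTN.trans (sup_le Subgroup.le_normalizer (hN₀Z.trans (Subgroup.center_le_normalizer _)))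
  -- representatives of the quotient in `N₀`
  have hrep : ∀ a : ↥S, ∃ m : ↥S, (m : G) ∈ N₀ ∧
      (QuotientGroup.mk a : ↥S ⧸ ((A₁ ⊓ S) ⊔ (A₂ ⊓ S)).subgroupOf S) = QuotientGroup.mk m := by
    intro a
    haveI := hN₀n
    have ha : (a : G) ∈ ((((A₁ ⊓ S) ⊔ (A₂ ⊓ S)) ⊔ N₀ : Subgroup G) : Set G) := hSTN a.2
    rw [Subgroup.mul_normal] at ha
    obtain ⟨t, ht, m, hm, e⟩ := Set.mem_mul.mp ha
    refine ⟨⟨m, hN₀S hm⟩, hm, ?_⟩
    rw [QuotientGroup.eq, Subgroup.mem_subgroupOf]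
    have hcm := Subgroup.mem_center_iff.mp (hN₀Z hm) t
    have e2 : ((a⁻¹ * ⟨m, hN₀S hm⟩ : ↥S) : G) = t⁻¹ := by
      rw [Subgroup.coe_mul, Subgroup.coe_inv, ← e]
      show (t * m)⁻¹ * m = t⁻¹
      rw [hcm]
      group
    rw [e2]
    exact Subgroup.inv_mem _ ht
  have hcommQ : ∀ a b : ↥S ⧸ ((A₁ ⊓ S) ⊔ (A₂ ⊓ S)).subgroupOf S, a * b = b * a := by
    intro a b
    obtain ⟨a, rfl⟩ := QuotientGroup.mk_surjective a
    obtain ⟨b, rfl⟩ := QuotientGroup.mk_surjective b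
    obtain ⟨m₁, hm₁, e₁⟩ := hrep a
    obtain ⟨m₂, hm₂, e₂⟩ := hrep b
    rw [e₁, e₂, ← QuotientGroup.mk_mul, ← QuotientGroup.mk_mul]
    congr 1
    apply Subtype.ext
    rw [Subgroup.coe_mul, Subgroup.coe_mul]
    exact Subgroup.mem_center_iff.mp (hN₀Z hm₂) m₁
  letI : CommGroup (↥S ⧸ ((A₁ ⊓ S) ⊔ (A₂ ⊓ S)).subgroupOf S) :=
    { (inferInstance : Group (↥S ⧸ ((A₁ ⊓ S) ⊔ (A₂ ⊓ S)).subgroupOf S)) with
      mul_comm := hcommQ }
  -- the transfer kills no minimal normal subgroup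
  have hker : (MonoidHom.transfer (QuotientGroup.mk' (((A₁ ⊓ S) ⊔ (A₂ ⊓ S)).subgroupOf S))).ker
      = ⊥ := by
    by_contra hne
    obtain ⟨N', hN'le, hN'⟩ := exists_isMinNormalIn
      (MonoidHom.transfer (QuotientGroup.mk' (((A₁ ⊓ S) ⊔ (A₂ ⊓ S)).subgroupOf S))).ker ⊤
      le_top hne (by rw [Subgroup.normalizer_eq_top])
    obtain ⟨hN'Z, hN'S, hTN'⟩ := ana N' hN'
    obtain ⟨z, hzN', hz1⟩ := (Subgroup.ne_bot_iff_exists_ne_one).mp hN'.2.1 |> fun ⟨a, ha⟩ =>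
      (⟨(a : G), a.2, fun h => ha (Subtype.ext h)⟩ : ∃ z : G, z ∈ N' ∧ z ≠ 1)
    have hzc : z ∈ Subgroup.center G := hN'Z hzN'
    have hkey : ∀ (k : ℕ) (g₀ : G), g₀⁻¹ * z ^ k * g₀ ∈ S → g₀⁻¹ * z ^ k * g₀ = z ^ k := by
      intro k g₀ _
      have hzk := Subgroup.mem_center_iff.mp ((Subgroup.center G).pow_mem hzc k) g₀
      rw [mul_assoc, ← hzk, inv_mul_cancel_left]
    have htr := MonoidHom.transfer_eq_pow
      (QuotientGroup.mk' (((A₁ ⊓ S) ⊔ (A₂ ⊓ S)).subgroupOf S)) z hkey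
    have hz0 : MonoidHom.transfer (QuotientGroup.mk' (((A₁ ⊓ S) ⊔ (A₂ ⊓ S)).subgroupOf S)) z
        = 1 := MonoidHom.mem_ker.mp (hN'le hzN')
    rw [hz0] at htr
    have hmem := (QuotientGroup.eq_one_iff _).mp htr.symm
    rw [Subgroup.mem_subgroupOf] at hmem
    have hzT : z ^ S.index ∈ ((A₁ ⊓ S) ⊔ (A₂ ⊓ S)) ⊓ N' :=
      Subgroup.mem_inf.mpr ⟨hmem, N'.pow_mem hzN' _⟩
    rw [hTN', Subgroup.mem_bot] at hzT
    obtain ⟨k, hk⟩ := hSp ⟨z, hN'S hzN'⟩
    have hk' : z ^ (p ^ k) = 1 := by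
      have := congrArg (Subtype.val) hk
      simpa using this
    have hcop : Nat.Coprime (p ^ k) S.index :=
      Nat.Coprime.pow_left k ((Nat.Prime.coprime_iff_not_dvd hp.out).mpr hSidx)
    have h3 := pow_gcd_eq_one.mpr ⟨hk', hzT⟩
    rw [hcop.gcd_eq_one, pow_one] at h3
    exact hz1 h3
  have hinj : Function.Injective
      (MonoidHom.transfer (QuotientGroup.mk' (((A₁ ⊓ S) ⊔ (A₂ ⊓ S)).subgroupOf S))) :=
    (MonoidHom.ker_eq_bot_iff _).mp hker
  have hc1 : Nat.card G ≤ Nat.card (↥S ⧸ ((A₁ ⊓ S) ⊔ (A₂ ⊓ S)).subgroupOf S) :=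
    Nat.card_le_card_of_injective _ hinj
  have hc2 : Nat.card (((A₁ ⊓ S) ⊔ (A₂ ⊓ S)).subgroupOf S) *
      Nat.card (↥S ⧸ ((A₁ ⊓ S) ⊔ (A₂ ⊓ S)).subgroupOf S) = Nat.card S := by
    rw [mul_comm]
    exact (Subgroup.card_eq_card_quotient_mul_card_subgroup _).symm
  have hc3 : Nat.card S ≤ Nat.card G := Subgroup.card_le_card_group S
  have hc4 : 0 < Nat.card (↥S ⧸ ((A₁ ⊓ S) ⊔ (A₂ ⊓ S)).subgroupOf S) := Nat.card_pos
  have hc5 : 0 < Nat.card (((A₁ ⊓ S) ⊔ (A₂ ⊓ S)).subgroupOf S) := Nat.card_pos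
  have hc6 : Nat.card (((A₁ ⊓ S) ⊔ (A₂ ⊓ S)).subgroupOf S) = 1 := by nlinarith
  have hc7 : Nat.card S = Nat.card G := by
    rw [hc6, one_mul] at hc2
    omega
  have hStop : S = ⊤ := (Subgroup.card_eq_iff_eq_top S).mp hc7
  have hT0 : ((A₁ ⊓ S) ⊔ (A₂ ⊓ S)).subgroupOf S = ⊥ := Subgroup.card_eq_one.mp hc6
  have hT0' : (A₁ ⊓ S) ⊔ (A₂ ⊓ S) = ⊥ := by
    rw [Subgroup.subgroupOf_eq_bot] at hT0
    exact disjoint_iff.mp hT0 |> fun h => by rwa [inf_eq_left.mpr hTS] at h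
  apply hntop
  rw [← hJ]
  rw [hStop, inf_top_eq, inf_top_eq] at hT0'
  exact hT0'

end Cfsg.Agent.helper14
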