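import Mathlib
import Cfsg.Agent.Lib_helper14_PIrr2

set_option autoImplicit false
open Cfsg
open scoped commutatorElement

namespace Cfsg.Agent.helper14

open scoped IsMulCommutative in
/-- Trace argument: `V` abelian of exponent `p`, normalized by the finite subgroup `L`; `T ≤ L` of index prime to `p`;
`L = R T`. Then every element of `C_V(T)` lies in `[V, R] C_V(L)`. -/
theorem trace_lemma {G : Type*} [Group G] {p : ℕ} [Fact p.Prime] (V L T R : Subgroup G) [Finite L]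
    (hVc : ∀ a ∈ V, ∀ b ∈ V, a * b = b * a) (hVp : ∀ a ∈ V, a ^ p = 1)
    (hLV : L ≤ Subgroup.normalizer (V : Set G)) (_hTL : T ≤ L)
    (hidx : ((T.subgroupOf L).index).Coprime p)
    (hfac : ∀ l ∈ L, ∃ r ∈ R, ∃ t ∈ T, l = r * t)
    (z : G) (hzV : z ∈ V) (hzT : z ∈ Subgroup.centralizer (T : Set G)) :
    z ∈ ⁅V, R⁆ ⊔ (V ⊓ Subgroup.centralizer (L : Set G)) := by
  have hVi : IsMulCommutative ↥V := ⟨⟨fun a b => Subtype.ext (hVc a a.2 b b.2)⟩⟩
  have hconj : ∀ l ∈ L, ∀ w ∈ V, l * w * l⁻¹ ∈ V :=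
    fun l hl w hw => (Subgroup.mem_normalizer_iff.mp (hLV hl) w).mp hw
  let c : ↥L → ↥V := fun l => ⟨(l : G) * z * (l : G)⁻¹, hconj l l.2 z hzV⟩
  have hc_mul : ∀ (l : ↥L) (t : ↥L), (t : G) ∈ T → c (l * t) = c l := by
    intro l t ht
    apply Subtype.ext
    show ((l * t : ↥L) : G) * z * ((l * t : ↥L) : G)⁻¹ = (l : G) * z * (l : G)⁻¹
    have h1 : (t : G) * z = z * (t : G) := (Subgroup.mem_centralizer_iff.mp hzT (t : G) ht)
    rw [Subgroup.coe_mul, mul_inv_rev]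
    calc (l : G) * t * z * ((t : G)⁻¹ * (l : G)⁻¹)
        = (l : G) * (t * z) * (t : G)⁻¹ * (l : G)⁻¹ := by group
      _ = (l : G) * (z * t) * (t : G)⁻¹ * (l : G)⁻¹ := by rw [h1]
      _ = (l : G) * z * (l : G)⁻¹ := by group
  haveI : Fintype (↥L ⧸ T.subgroupOf L) := Fintype.ofFinite _
  let cb : (↥L ⧸ T.subgroupOf L) → ↥V := fun q => c q.out
  have hcb : ∀ l : ↥L, cb (QuotientGroup.mk l) = c l := by
    intro l
    obtain ⟨h, hh⟩ := QuotientGroup.mk_out_eq_mul (T.subgroupOf L) l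
    show c (QuotientGroup.mk l : ↥L ⧸ T.subgroupOf L).out = c l
    rw [hh]
    exact hc_mul l h (Subgroup.mem_subgroupOf.mp h.2)
  obtain ⟨v, hvdef⟩ : ∃ v : ↥V, v = ∏ q : ↥L ⧸ T.subgroupOf L, cb q := ⟨_, rfl⟩
  have hv_inv : ∀ g : ↥L, (g : G) * (v : G) * (g : G)⁻¹ = (v : G) := by
    intro g
    let α : ↥V →* ↥V := MonoidHom.mk'
      (fun w => ⟨(g : G) * w * (g : G)⁻¹, hconj g g.2 w w.2⟩) (by
      intro a b
      apply Subtype.ext
      show (g : G) * ((a * b : ↥V) : G) * (g : G)⁻¹ =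
        ((g : G) * a * (g : G)⁻¹) * ((g : G) * b * (g : G)⁻¹)
      rw [Subgroup.coe_mul]; group)
    have h1 : α v = ∏ q : ↥L ⧸ T.subgroupOf L, α (cb q) := by
      rw [hvdef]; exact map_prod α cb Finset.univ
    have h2 : ∀ q : ↥L ⧸ T.subgroupOf L, α (cb q) = cb (g • q) := by
      intro q
      induction q using QuotientGroup.induction_on with
      | H l =>
        rw [hcb]
        have : (g • (QuotientGroup.mk l : ↥L ⧸ T.subgroupOf L)) = QuotientGroup.mk (g * l) := rfl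
        rw [this, hcb]
        apply Subtype.ext
        show (g : G) * ((l : G) * z * (l : G)⁻¹) * (g : G)⁻¹ =
          ((g * l : ↥L) : G) * z * ((g * l : ↥L) : G)⁻¹
        rw [Subgroup.coe_mul, mul_inv_rev]; group
    have h3 : ∏ q : ↥L ⧸ T.subgroupOf L, cb (g • q) = ∏ q : ↥L ⧸ T.subgroupOf L, cb q :=
      Equiv.prod_comp (MulAction.toPerm g) cb
    have h4 : α v = v := by
      rw [h1]
      simp_rw [h2]
      rw [h3, hvdef]
    exact congrArg Subtype.val h4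
  obtain ⟨zV, hzVdef⟩ : ∃ zV : ↥V, zV = ⟨z, hzV⟩ := ⟨_, rfl⟩
  have hzVcoe : (zV : G) = z := by rw [hzVdef]
  have hcomm_mem : ∀ q, ((cb q * zV⁻¹ : ↥V) : G) ∈ ⁅V, R⁆ := by
    intro q
    obtain ⟨r, hr, t, ht, hl⟩ := hfac (q.out : G) q.out.2
    have e0 : ((cb q * zV⁻¹ : ↥V) : G) =
        ((q.out : ↥L) : G) * z * ((q.out : ↥L) : G)⁻¹ * z⁻¹ := by
      rw [Subgroup.coe_mul, Subgroup.coe_inv, hzVcoe]
    rw [e0, hl]
    have h1 : t * z = z * t := Subgroup.mem_centralizer_iff.mp hzT t ht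
    have e : r * t * z * (r * t)⁻¹ * z⁻¹ = (⁅z, r⁆)⁻¹ := by
      rw [commutatorElement_def]
      have : r * t * z * (r * t)⁻¹ = r * z * r⁻¹ := by
        calc r * t * z * (r * t)⁻¹ = r * (t * z) * t⁻¹ * r⁻¹ := by group
          _ = r * (z * t) * t⁻¹ * r⁻¹ := by rw [h1]
          _ = r * z * r⁻¹ := by group
      rw [this]; group
    rw [e]
    exact Subgroup.inv_mem _ (Subgroup.commutator_mem_commutator hzV hr)
  obtain ⟨m, hm⟩ : ∃ m : ℕ, m = Fintype.card (↥L ⧸ T.subgroupOf L) := ⟨_, rfl⟩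
  have hprod : v = (∏ q : ↥L ⧸ T.subgroupOf L, (cb q * zV⁻¹)) * zV ^ m := by
    have : zV ^ m = ∏ _q : ↥L ⧸ T.subgroupOf L, zV := by
      rw [Finset.prod_const, Finset.card_univ, hm]
    rw [this, ← Finset.prod_mul_distrib, hvdef]
    exact Finset.prod_congr rfl (fun q _ => (inv_mul_cancel_right _ _).symm)
  have hmidx : m = (T.subgroupOf L).index := by
    rw [hm]; exact (Nat.card_eq_fintype_card).symm
  have hw : ((∏ q : ↥L ⧸ T.subgroupOf L, (cb q * zV⁻¹) : ↥V) : G) ∈ ⁅V, R⁆ := by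
    have : (∏ q : ↥L ⧸ T.subgroupOf L, (cb q * zV⁻¹) : ↥V) ∈ (⁅V, R⁆).subgroupOf V :=
      Subgroup.prod_mem _ (fun q _ => Subgroup.mem_subgroupOf.mpr (hcomm_mem q))
    exact Subgroup.mem_subgroupOf.mp this
  have hzm : z ^ m ∈ ⁅V, R⁆ ⊔ (V ⊓ Subgroup.centralizer (L : Set G)) := by
    have h1 : (zV ^ m : ↥V) = (∏ q : ↥L ⧸ T.subgroupOf L, (cb q * zV⁻¹))⁻¹ * v := by
      rw [hprod]; group
    have h2 : z ^ m = ((∏ q : ↥L ⧸ T.subgroupOf L, (cb q * zV⁻¹) : ↥V) : G)⁻¹ * (v : G) := by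
      have h3 := congrArg Subtype.val h1
      rw [Subgroup.coe_pow, Subgroup.coe_mul, Subgroup.coe_inv, hzVcoe] at h3
      exact h3
    rw [h2]
    apply Subgroup.mul_mem
    · exact (le_sup_left : ⁅V, R⁆ ≤ _) (Subgroup.inv_mem _ hw)
    · refine (le_sup_right : V ⊓ Subgroup.centralizer (L : Set G) ≤ _) ⟨v.2, ?_⟩
      show (v : G) ∈ Subgroup.centralizer (L : Set G)
      rw [Subgroup.mem_centralizer_iff]
      intro l hl
      have h5 : l * (v : G) * l⁻¹ = (v : G) := hv_inv ⟨l, hl⟩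
      calc l * (v : G) = (l * (v : G) * l⁻¹) * l := by group
        _ = (v : G) * l := by rw [h5]
  have hcop : Nat.Coprime m p := by rw [hmidx]; exact hidx
  have hzp : z ^ p = 1 := hVp z hzV
  have hbez : (1 : ℤ) = (m : ℤ) * Nat.gcdA m p + (p : ℤ) * Nat.gcdB m p := by
    have h6 := Nat.gcd_eq_gcd_ab m p
    rw [hcop.gcd_eq_one] at h6
    exact_mod_cast h6
  have hz : z = (z ^ m) ^ (Nat.gcdA m p) := by
    have h1 : z = z ^ (1 : ℤ) := (zpow_one z).symm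
    rw [hbez, zpow_add, zpow_mul, zpow_mul, zpow_natCast, zpow_natCast, hzp, one_zpow,
      mul_one] at h1
    exact h1
  rw [hz]
  exact Subgroup.zpow_mem _ hzm _

end Cfsg.Agent.helper14
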