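import Mathlib
import Cfsg.Prelude.Def_LocalStructure
import Cfsg.Agent.Lib_helper14_Kieler
import Cfsg.Agent.Lib_helper14_WC

set_option autoImplicit false
set_option linter.style.haveILetI false
open Cfsg
open scoped commutatorElement

/-!
# Weakly closed self-centralizing subgroups and characteristic `p` (helper14; argument by lead)
-/

namespace Cfsg.Agent.helper14

open Cfsg.Agent.helper7

variable {H : Type*} [Group H]

/-- the elements normalizing `V` and `B` and acting on `V` "modulo `B`" trivially -/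
def quadSub (V B : Subgroup H) : Subgroup H where
  carrier := {u | u ∈ Subgroup.normalizer (V : Set H) ∧ u ∈ Subgroup.normalizer (B : Set H) ∧
    ∀ v ∈ V, u * v * u⁻¹ * v⁻¹ ∈ B}
  one_mem' := by
    refine ⟨Subgroup.one_mem _, Subgroup.one_mem _, fun v _ => ?_⟩
    simp
  mul_mem' := by
    rintro a b ⟨ha1, ha2, ha3⟩ ⟨hb1, hb2, hb3⟩
    refine ⟨Subgroup.mul_mem _ ha1 hb1, Subgroup.mul_mem _ ha2 hb2, fun v hv => ?_⟩
    have e : a * b * v * (a * b)⁻¹ * v⁻¹ =
        a * (b * v * b⁻¹ * v⁻¹) * a⁻¹ * (a * v * a⁻¹ * v⁻¹) := by group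
    rw [e]
    exact B.mul_mem ((Subgroup.mem_normalizer_iff.mp ha2 _).mp (hb3 v hv)) (ha3 v hv)
  inv_mem' := by
    rintro u ⟨hu1, hu2, hu3⟩
    refine ⟨Subgroup.inv_mem _ hu1, Subgroup.inv_mem _ hu2, fun v hv => ?_⟩
    have hv' : u⁻¹ * v * u ∈ V := by
      have := (Subgroup.mem_normalizer_iff.mp (Subgroup.inv_mem _ hu1) v).mp hv
      simpa using this
    have e : u⁻¹ * v * u⁻¹⁻¹ * v⁻¹ = (u * (u⁻¹ * v * u) * u⁻¹ * (u⁻¹ * v * u)⁻¹)⁻¹ := by group
    rw [e]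
    exact B.inv_mem (hu3 _ hv')

theorem mem_quadSub {V B : Subgroup H} {u : H} : u ∈ quadSub V B ↔
    u ∈ Subgroup.normalizer (V : Set H) ∧ u ∈ Subgroup.normalizer (B : Set H) ∧
      ∀ v ∈ V, u * v * u⁻¹ * v⁻¹ ∈ B := Iff.rfl

theorem conj_mem_quadSub {V B : Subgroup H} {d u : H} (hdV : d ∈ Subgroup.normalizer (V : Set H))
    (hdB : ∀ c ∈ B, d * c = c * d) (hu : u ∈ quadSub V B) : d * u * d⁻¹ ∈ quadSub V B := by
  have hdN : d ∈ Subgroup.normalizer (B : Set H) := by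
    rw [Subgroup.mem_normalizer_iff]
    intro c
    constructor
    · intro hc
      have : d * c * d⁻¹ = c := by rw [hdB c hc]; group
      rw [this]; exact hc
    · intro hc
      have h1 := hdB _ hc
      have : c = d * c * d⁻¹ := by
        have h2 : d * (d * c * d⁻¹) = d * c := by rw [h1]; group
        exact (mul_left_cancel h2).symm
      rw [this]; exact hc
  obtain ⟨hu1, hu2, hu3⟩ := hu
  refine ⟨?_, ?_, fun v hv => ?_⟩
  · exact Subgroup.mul_mem _ (Subgroup.mul_mem _ hdV hu1) (Subgroup.inv_mem _ hdV)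
  · exact Subgroup.mul_mem _ (Subgroup.mul_mem _ hdN hu2) (Subgroup.inv_mem _ hdN)
  · have hv' : d⁻¹ * v * d ∈ V := by
      have := (Subgroup.mem_normalizer_iff.mp (Subgroup.inv_mem _ hdV) v).mp hv
      simpa using this
    have hc := hu3 _ hv'
    have e : d * u * d⁻¹ * v * (d * u * d⁻¹)⁻¹ * v⁻¹ =
        d * (u * (d⁻¹ * v * d) * u⁻¹ * (d⁻¹ * v * d)⁻¹) * d⁻¹ := by group
    rw [e, hdB _ hc]
    have e2 : u * (d⁻¹ * v * d) * u⁻¹ * (d⁻¹ * v * d)⁻¹ * d * d⁻¹ =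
        u * (d⁻¹ * v * d) * u⁻¹ * (d⁻¹ * v * d)⁻¹ := by group
    rw [e2]
    exact hc

/-- The core lemma. -/
theorem wc_core_lemma [Finite H] {p : ℕ} [Fact p.Prime] (K Q D V B : Subgroup H)
    (hQp : IsPGroup p Q) (hwc : WCin p K Q) (hDK : D ≤ K)
    (hQD : Q ≤ Subgroup.normalizer (D : Set H))
    (hDV : D ≤ Subgroup.normalizer (V : Set H)) (hQV : Q ≤ Subgroup.normalizer (V : Set H))
    (hBp : IsPGroup p B)
    (hDB : ∀ d ∈ D, ∀ c ∈ B, d * c = c * d) (hQB : Q ≤ Subgroup.normalizer (B : Set H))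
    (hcomm : ∀ v ∈ V, ∀ q ∈ Q, v * q * v⁻¹ * q⁻¹ ∈ B)
    (hfaith : ∀ w ∈ D, (orderOf w).Coprime p → (∀ v ∈ V, v * w = w * v) → w = 1) :
    D ≤ Subgroup.normalizer (Q : Set H) := by
  have hQE' : Q ≤ quadSub V B := by
    intro q hq
    refine ⟨hQV hq, hQB hq, fun v hv => ?_⟩
    have e : q * v * q⁻¹ * v⁻¹ = (v * q * v⁻¹ * q⁻¹)⁻¹ := by group
    rw [e]
    exact B.inv_mem (hcomm v hv q hq)
  have hEp : IsPGroup p ↥(quadSub V B ⊓ D) := by
    apply isPGroup_of_forall_coprime_eq_one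
    rintro x ⟨hx1, hx2⟩ hco
    have hx2' : x ∈ D := hx2
    apply hfaith x hx2' hco
    intro v hv
    exact commute_of_coprime_of_comm_mem B hBp x v hco (hx1.2.2 v hv) (hDB x hx2')
  have hQE : Q ≤ Subgroup.normalizer ((quadSub V B ⊓ D : Subgroup H) : Set H) :=
    le_normalizer_inf' (hQE'.trans Subgroup.le_normalizer) hQD
  have hsup : IsPGroup p ↥(Q ⊔ (quadSub V B ⊓ D)) :=
    IsPGroup.to_sup_of_normal_right' hQp hEp hQE
  intro d hd
  apply mem_normalizer_of_cj_eq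
  apply hwc.2 d (hDK hd) (Q ⊔ (quadSub V B ⊓ D)) (sup_le hwc.1 (inf_le_right.trans hDK)) hsup
    le_sup_left
  intro x hx
  rw [mem_cj] at hx
  obtain ⟨q, hqdef⟩ : ∃ q, q = d⁻¹ * x * d := ⟨_, rfl⟩
  rw [← hqdef] at hx
  have hxe : x = (d * q * d⁻¹ * q⁻¹) * q := by rw [hqdef]; group
  have hgD : d * q * d⁻¹ * q⁻¹ ∈ D := by
    have h1 : q * d⁻¹ * q⁻¹ ∈ D :=
      (Subgroup.mem_normalizer_iff.mp (hQD hx) d⁻¹).mp (D.inv_mem hd)
    have e : d * q * d⁻¹ * q⁻¹ = d * (q * d⁻¹ * q⁻¹) := by group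
    rw [e]; exact D.mul_mem hd h1
  have hgE : d * q * d⁻¹ * q⁻¹ ∈ quadSub V B :=
    (quadSub V B).mul_mem (conj_mem_quadSub (hDV hd) (hDB d hd) (hQE' hx))
      ((quadSub V B).inv_mem (hQE' hx))
  rw [hxe]
  have hle1 : Q ≤ Q ⊔ (quadSub V B ⊓ D) := le_sup_left
  have hle2 : quadSub V B ⊓ D ≤ Q ⊔ (quadSub V B ⊓ D) := le_sup_right
  exact Subgroup.mul_mem _ (hle2 (Subgroup.mem_inf.mpr ⟨hgE, hgD⟩)) (hle1 hx)

theorem WCin.cj_eq_of_mem_pgroup [Finite H] {p : ℕ} [Fact p.Prime] {K Q V : Subgroup H}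
    (hwc : WCin p K Q) (hQp : IsPGroup p Q) (hVp : IsPGroup p V) (hVK : V ≤ K)
    (hQV : Q ≤ Subgroup.normalizer (V : Set H)) {v : H} (hv : v ∈ V) : cj v Q = Q := by
  have hR : IsPGroup p ↥(Q ⊔ V) := IsPGroup.to_sup_of_normal_right' hQp hVp hQV
  apply hwc.2 v (hVK hv) (Q ⊔ V) (sup_le hwc.1 hVK) hR le_sup_left
  intro x hx
  rw [mem_cj] at hx
  have e : x = v * (v⁻¹ * x * v) * v⁻¹ := by group
  rw [e]
  have hv' : v ∈ Q ⊔ V := (le_sup_right : V ≤ Q ⊔ V) hv
  have hq' : v⁻¹ * x * v ∈ Q ⊔ V := (le_sup_left : Q ≤ Q ⊔ V) hx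
  exact Subgroup.mul_mem _ (Subgroup.mul_mem _ hv' hq') (Subgroup.inv_mem _ hv')

theorem WCin.comm_mem [Finite H] {p : ℕ} [Fact p.Prime] {K Q V L : Subgroup H}
    (hwc : WCin p K Q) (hQp : IsPGroup p Q) (hVp : IsPGroup p V) (hVK : V ≤ K) (hQL : Q ≤ L)
    (hLV : L ≤ Subgroup.normalizer (V : Set H)) {v q : H} (hv : v ∈ V) (hq : q ∈ Q) :
    v * q * v⁻¹ * q⁻¹ ∈ V ⊓ Cfsg.pCoreOf p L := by
  have hQV : Q ≤ Subgroup.normalizer (V : Set H) := hQL.trans hLV
  have h1 : v * q * v⁻¹ ∈ Q := by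
    have := cj_mem_cj (g := v) hq
    rwa [hwc.cj_eq_of_mem_pgroup hQp hVp hVK hQV hv] at this
  have h2 : q * v⁻¹ * q⁻¹ ∈ V :=
    (Subgroup.mem_normalizer_iff.mp (hQV hq) v⁻¹).mp (V.inv_mem hv)
  have hV' : v * q * v⁻¹ * q⁻¹ ∈ V := by
    have e : v * q * v⁻¹ * q⁻¹ = v * (q * v⁻¹ * q⁻¹) := by group
    rw [e]; exact V.mul_mem hv h2
  have hQ' : v * q * v⁻¹ * q⁻¹ ∈ Q := Q.mul_mem h1 (Q.inv_mem hq)
  refine Subgroup.mem_inf.mpr ⟨hV', ?_⟩
  have hle : L ⊓ V ≤ Cfsg.pCoreOf p L :=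
    le_pCoreOf_of_normal L (L ⊓ V) inf_le_left (le_normalizer_inf' Subgroup.le_normalizer hLV)
      (hVp.to_le inf_le_right)
  exact hle (Subgroup.mem_inf.mpr ⟨hQL hQ', hV'⟩)

theorem eq_one_of_mem_pgroup_of_coprime {p : ℕ} [Fact p.Prime] (P : Subgroup H) (hP : IsPGroup p P)
    (w : H) (hw : w ∈ P) (hco : (orderOf w).Coprime p) : w = 1 := by
  obtain ⟨j, hj⟩ := coe_pow_eq_one_of_isPGroup P hP w hw
  have h3 : orderOf w ∣ Nat.gcd (orderOf w) (p ^ j) :=
    Nat.dvd_gcd dvd_rfl (orderOf_dvd_of_pow_eq_one hj)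
  have h4 : Nat.gcd (orderOf w) (p ^ j) = 1 := Nat.Coprime.pow_right j hco
  rw [h4, Nat.dvd_one, orderOf_eq_one_iff] at h3
  exact h3

/-- The characteristic `p` case, relative to a subgroup `K`. -/
theorem wc_charp_rel [Finite H] {p : ℕ} [Fact p.Prime] (K Q L V : Subgroup H)
    (hQp : IsPGroup p Q) (hwc : WCin p K Q)
    (hVK : V ≤ K) (hVp : IsPGroup p V) (hKV : K ≤ Subgroup.normalizer (V : Set H))
    (hfV : IsPGroup p ↥(K ⊓ Subgroup.centralizer (V : Set H)))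
    (hQL : Q ≤ L) (hLK : L ≤ K) :
    K ⊓ Subgroup.centralizer ((Cfsg.pCoreOf p L : Subgroup H) : Set H) ≤
      Subgroup.normalizer (Q : Set H) := by
  have hLY : L ≤ Subgroup.normalizer ((Cfsg.pCoreOf p L : Subgroup H) : Set H) :=
    le_normalizer_pCoreOf p L
  have hQY : Q ≤ Subgroup.normalizer ((Cfsg.pCoreOf p L : Subgroup H) : Set H) := hQL.trans hLY
  have hQK : Q ≤ K := hQL.trans hLK
  apply wc_core_lemma K Q _ V (V ⊓ Cfsg.pCoreOf p L) hQp hwc inf_le_left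
  · exact le_normalizer_inf' (hQK.trans Subgroup.le_normalizer)
      (hQY.trans (normalizer_le_normalizer_centralizer _))
  · exact inf_le_left.trans hKV
  · exact hQK.trans hKV
  · exact hVp.to_le inf_le_left
  · intro d hd c hc
    have hdC : d ∈ Subgroup.centralizer ((Cfsg.pCoreOf p L : Subgroup H) : Set H) := hd.2
    have hcY : c ∈ Cfsg.pCoreOf p L := hc.2
    exact (Subgroup.mem_centralizer_iff.mp hdC c hcY).symm
  · exact le_normalizer_inf' (hQK.trans hKV) hQY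
  · intro v hv q hq
    exact hwc.comm_mem hQp hVp hVK hQL (hLK.trans hKV) hv hq
  · intro w hw hco hcent
    have hwK : w ∈ K := hw.1
    have hw' : w ∈ K ⊓ Subgroup.centralizer (V : Set H) := by
      refine Subgroup.mem_inf.mpr ⟨hwK, ?_⟩
      rw [Subgroup.mem_centralizer_iff]
      exact hcent
    exact eq_one_of_mem_pgroup_of_coprime _ hfV w hw' hco

theorem wc_consequences [Finite H] {p : ℕ} [hp : Fact p.Prime] (K Q L : Subgroup H)
    (hQp : IsPGroup p Q) (hCQ : K ⊓ Subgroup.centralizer (Q : Set H) ≤ Q) (hQL : Q ≤ L)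
    (hLK : L ≤ K)
    (hDN : K ⊓ Subgroup.centralizer ((Cfsg.pCoreOf p L : Subgroup H) : Set H) ≤
      Subgroup.normalizer (Q : Set H)) :
    ⁅Q, K ⊓ Subgroup.centralizer ((Cfsg.pCoreOf p L : Subgroup H) : Set H)⁆ ≤
        Q ⊓ Cfsg.pCoreOf p L ∧
      IsPGroup p ↥(K ⊓ Subgroup.centralizer ((Cfsg.pCoreOf p L : Subgroup H) : Set H)) := by
  have hLY : L ≤ Subgroup.normalizer ((Cfsg.pCoreOf p L : Subgroup H) : Set H) :=
    le_normalizer_pCoreOf p L
  have hYp : IsPGroup p (Cfsg.pCoreOf p L) := pCoreOf_isPGroup L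
  have hQK : Q ≤ K := hQL.trans hLK
  have hQC : Q ≤ Subgroup.normalizer ((Subgroup.centralizer
      ((Cfsg.pCoreOf p L : Subgroup H) : Set H) : Subgroup H) : Set H) :=
    (hQL.trans hLY).trans (normalizer_le_normalizer_centralizer _)
  have hQD : Q ≤ Subgroup.normalizer ((K ⊓ Subgroup.centralizer
      ((Cfsg.pCoreOf p L : Subgroup H) : Set H) : Subgroup H) : Set H) :=
    le_normalizer_inf' (hQK.trans Subgroup.le_normalizer) hQC
  have hQCY : Q ⊓ Subgroup.centralizer ((Cfsg.pCoreOf p L : Subgroup H) : Set H) ≤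
      Cfsg.pCoreOf p L := by
    have hLCN : L ⊓ Subgroup.centralizer ((Cfsg.pCoreOf p L : Subgroup H) : Set H) ≤
        Subgroup.normalizer (Q : Set H) := (inf_le_inf_right _ hLK).trans hDN
    have h1 : L ⊓ Subgroup.centralizer ((Cfsg.pCoreOf p L : Subgroup H) : Set H) ≤
        Subgroup.normalizer ((Q ⊓ Subgroup.centralizer ((Cfsg.pCoreOf p L : Subgroup H) : Set H) :
          Subgroup H) : Set H) :=
      le_normalizer_inf' hLCN (inf_le_right.trans Subgroup.le_normalizer)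
    have hsn : SN (Q ⊓ Subgroup.centralizer ((Cfsg.pCoreOf p L : Subgroup H) : Set H)) L :=
      SN.step _ (L ⊓ Subgroup.centralizer ((Cfsg.pCoreOf p L : Subgroup H) : Set H)) L
        (inf_le_inf_right _ hQL) h1
        (SN.of_normal inf_le_left (le_normalizer_inf_centralizer L _ hLY))
    rw [pCoreOf_eq_piCoreIn]
    rw [pCoreOf_eq_piCoreIn] at hsn
    exact le_piCoreIn_of_sn hsn ((isPGroup_iff_piGrp hp.out).1 (hQp.to_le inf_le_left))
  refine ⟨?_, ?_⟩
  · refine (comm_le_inf_of_le_normalizer hDN hQD).trans ?_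
    exact le_inf inf_le_left ((inf_le_inf_left _ inf_le_right).trans hQCY)
  · apply isPGroup_of_forall_coprime_eq_one
    intro x hx hco
    have hxK : x ∈ K := hx.1
    have hxC : x ∈ Subgroup.centralizer ((Cfsg.pCoreOf p L : Subgroup H) : Set H) := hx.2
    have hxc : ∀ c ∈ Cfsg.pCoreOf p L, x * c = c * x := by
      intro c hc
      exact ((Subgroup.mem_centralizer_iff.mp hxC) c hc).symm
    have hxQ : x ∈ Subgroup.centralizer (Q : Set H) := by
      rw [Subgroup.mem_centralizer_iff]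
      intro q hq
      apply commute_of_coprime_of_comm_mem _ hYp x q hco _ hxc
      apply hQCY
      refine Subgroup.mem_inf.mpr ⟨?_, ?_⟩
      · exact Q.mul_mem ((Subgroup.mem_normalizer_iff.mp (hDN hx) q).mp hq) (Q.inv_mem hq)
      · have h2 : q * x⁻¹ * q⁻¹ ∈
            Subgroup.centralizer ((Cfsg.pCoreOf p L : Subgroup H) : Set H) :=
          (Subgroup.mem_normalizer_iff.mp (hQC hq) x⁻¹).mp (Subgroup.inv_mem _ hxC)
        have e : x * q * x⁻¹ * q⁻¹ = x * (q * x⁻¹ * q⁻¹) := by group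
        rw [e]
        exact Subgroup.mul_mem _ hxC h2
    have hxQ' : x ∈ Q := hCQ (Subgroup.mem_inf.mpr ⟨hxK, hxQ⟩)
    exact eq_one_of_mem_pgroup_of_coprime Q hQp x hxQ' hco

theorem isPGroup_of_charp {G : Type*} [Group G] {p : ℕ} [Fact p.Prime] (K : Subgroup G)
    (h : Subgroup.centralizer (Cfsg.pCore p ↥K : Set ↥K) ≤ Cfsg.pCore p ↥K) :
    IsPGroup p ↥(K ⊓ Subgroup.centralizer ((Cfsg.pCoreOf p K : Subgroup G) : Set G)) := by
  rintro ⟨x, hx⟩
  have hxK : x ∈ K := hx.1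
  have hxC : x ∈ Subgroup.centralizer ((Cfsg.pCoreOf p K : Subgroup G) : Set G) := hx.2
  have h1 : (⟨x, hxK⟩ : ↥K) ∈ Subgroup.centralizer (Cfsg.pCore p ↥K : Set ↥K) :=
    (mem_centralizer_map_subtype_iff K _ ⟨x, hxK⟩).mpr hxC
  obtain ⟨k, hk⟩ := coe_pow_eq_one_of_isPGroup (Cfsg.pCore p ↥K) (pCore_isPGroup' p) _ (h h1)
  refine ⟨k, ?_⟩
  apply Subtype.ext
  have h2 := congrArg Subtype.val hk
  simpa using h2

/-- The case of a nonidentity `y ∈ O_p(L) ∩ C(Q)` with `C_H(y)` of characteristic `p`. -/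
theorem wc_charp_y [Finite H] {p : ℕ} [Fact p.Prime] (Q L : Subgroup H)
    (hQp : IsPGroup p Q) (hwc : WCin p ⊤ Q) (hCQ : Subgroup.centralizer (Q : Set H) ≤ Q)
    (hQL : Q ≤ L) (y : H) (hyY : y ∈ Cfsg.pCoreOf p L)
    (hyQ : y ∈ Subgroup.centralizer (Q : Set H))
    (hK : Subgroup.centralizer (Cfsg.pCore p ↥(Subgroup.centralizer ({y} : Set H)) :
        Set ↥(Subgroup.centralizer ({y} : Set H))) ≤
      Cfsg.pCore p ↥(Subgroup.centralizer ({y} : Set H))) :
    Subgroup.centralizer ((Cfsg.pCoreOf p L : Subgroup H) : Set H) ≤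
      Subgroup.normalizer (Q : Set H) := by
  have hLY : L ≤ Subgroup.normalizer ((Cfsg.pCoreOf p L : Subgroup H) : Set H) :=
    le_normalizer_pCoreOf p L
  have hYp : IsPGroup p (Cfsg.pCoreOf p L) := pCoreOf_isPGroup L
  have hQY : Q ≤ Subgroup.normalizer ((Cfsg.pCoreOf p L : Subgroup H) : Set H) := hQL.trans hLY
  have hLC : L ≤ Subgroup.normalizer ((Subgroup.centralizer
      ((Cfsg.pCoreOf p L : Subgroup H) : Set H) : Subgroup H) : Set H) :=
    hLY.trans (normalizer_le_normalizer_centralizer _)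
  have hQC : Q ≤ Subgroup.normalizer ((Subgroup.centralizer
      ((Cfsg.pCoreOf p L : Subgroup H) : Set H) : Subgroup H) : Set H) := hQL.trans hLC
  have hQK : Q ≤ Subgroup.centralizer ({y} : Set H) := by
    intro q hq
    rw [Subgroup.mem_centralizer_iff]
    intro h hh
    rw [Set.mem_singleton_iff] at hh
    rw [hh]
    exact (Subgroup.mem_centralizer_iff.mp hyQ q hq).symm
  have hDK : Subgroup.centralizer ((Cfsg.pCoreOf p L : Subgroup H) : Set H) ≤
      Subgroup.centralizer ({y} : Set H) := by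
    intro d hd
    rw [Subgroup.mem_centralizer_iff]
    intro h hh
    rw [Set.mem_singleton_iff] at hh
    rw [hh]
    exact Subgroup.mem_centralizer_iff.mp hd y hyY
  have hKp := isPGroup_of_charp (Subgroup.centralizer ({y} : Set H)) hK
  have hwcK : WCin p (Subgroup.centralizer ({y} : Set H)) Q := hwc.mono hQK le_top
  -- the auxiliary subgroup `M = C(Y) Q`
  have hMK : Subgroup.centralizer ((Cfsg.pCoreOf p L : Subgroup H) : Set H) ⊔ Q ≤
      Subgroup.centralizer ({y} : Set H) := sup_le hDK hQK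
  have hDNM := wc_charp_rel (Subgroup.centralizer ({y} : Set H)) Q
    (Subgroup.centralizer ((Cfsg.pCoreOf p L : Subgroup H) : Set H) ⊔ Q)
    (Cfsg.pCoreOf p (Subgroup.centralizer ({y} : Set H))) hQp hwcK (pCoreOf_le p _)
    (pCoreOf_isPGroup _) (le_normalizer_pCoreOf p _) hKp le_sup_right hMK
  have hcons := wc_consequences (Subgroup.centralizer ({y} : Set H)) Q
    (Subgroup.centralizer ((Cfsg.pCoreOf p L : Subgroup H) : Set H) ⊔ Q) hQp
    (inf_le_right.trans hCQ) le_sup_right hMK hDNM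
  have hMchar := charp_of_isPGroup
    (Subgroup.centralizer ((Cfsg.pCoreOf p L : Subgroup H) : Set H) ⊔ Q)
    (hcons.2.to_le (inf_le_inf_right _ hMK))
  have hDM : Subgroup.centralizer ((Cfsg.pCoreOf p L : Subgroup H) : Set H) ≤
      Subgroup.centralizer ((Cfsg.pCoreOf p L : Subgroup H) : Set H) ⊔ Q := le_sup_left
  have hMD : Subgroup.centralizer ((Cfsg.pCoreOf p L : Subgroup H) : Set H) ⊔ Q ≤
      Subgroup.normalizer ((Subgroup.centralizer
        ((Cfsg.pCoreOf p L : Subgroup H) : Set H) : Subgroup H) : Set H) :=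
    sup_le Subgroup.le_normalizer hQC
  haveI hDn : ((Subgroup.centralizer ((Cfsg.pCoreOf p L : Subgroup H) : Set H)).subgroupOf
      (Subgroup.centralizer ((Cfsg.pCoreOf p L : Subgroup H) : Set H) ⊔ Q)).Normal :=
    (Subgroup.normal_subgroupOf_iff_le_normalizer hDM).mpr hMD
  have h1 := isPGroup_centralizer_of_normal hMchar
    ((Subgroup.centralizer ((Cfsg.pCoreOf p L : Subgroup H) : Set H)).subgroupOf
      (Subgroup.centralizer ((Cfsg.pCoreOf p L : Subgroup H) : Set H) ⊔ Q))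
  have h2 := charp_of_isPGroup _ h1
  have h3 := charp_of_equiv p (Subgroup.subgroupOfEquivOfLe hDM) h2
  have h4 := isPGroup_of_charp _ h3
  -- now the core lemma in `H`
  have hVp : IsPGroup p (Cfsg.pCoreOf p
      (Subgroup.centralizer ((Cfsg.pCoreOf p L : Subgroup H) : Set H))) := pCoreOf_isPGroup _
  have hQV : Q ≤ Subgroup.normalizer ((Cfsg.pCoreOf p
      (Subgroup.centralizer ((Cfsg.pCoreOf p L : Subgroup H) : Set H)) : Subgroup H) : Set H) :=
    hQC.trans (normalizer_le_normalizer_pCoreOf _)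
  have hLV : L ≤ Subgroup.normalizer ((Cfsg.pCoreOf p
      (Subgroup.centralizer ((Cfsg.pCoreOf p L : Subgroup H) : Set H)) : Subgroup H) : Set H) :=
    hLC.trans (normalizer_le_normalizer_pCoreOf _)
  apply wc_core_lemma ⊤ Q _ (Cfsg.pCoreOf p
      (Subgroup.centralizer ((Cfsg.pCoreOf p L : Subgroup H) : Set H)))
    (Cfsg.pCoreOf p (Subgroup.centralizer ((Cfsg.pCoreOf p L : Subgroup H) : Set H)) ⊓
      Cfsg.pCoreOf p L) hQp hwc le_top hQC (le_normalizer_pCoreOf p _) hQV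
    (hVp.to_le inf_le_left)
  · intro d hd c hc
    have hcY : c ∈ Cfsg.pCoreOf p L := hc.2
    exact (Subgroup.mem_centralizer_iff.mp hd c hcY).symm
  · exact le_normalizer_inf' hQV hQY
  · intro v hv q hq
    exact hwc.comm_mem hQp hVp le_top hQL hLV hv hq
  · intro w hw hco hcent
    have hw' : w ∈ Subgroup.centralizer ((Cfsg.pCoreOf p L : Subgroup H) : Set H) ⊓
        Subgroup.centralizer ((Cfsg.pCoreOf p
          (Subgroup.centralizer ((Cfsg.pCoreOf p L : Subgroup H) : Set H)) : Subgroup H) :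
            Set H) := by
      refine Subgroup.mem_inf.mpr ⟨hw, ?_⟩
      rw [Subgroup.mem_centralizer_iff]
      exact hcent
    exact eq_one_of_mem_pgroup_of_coprime _ h4 w hw' hco

end Cfsg.Agent.helper14
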