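import Cfsg.Statements.S2940
import Cfsg.Agent.Lib_helper15_SylCtl

set_option autoImplicit false
open Cfsg

namespace Cfsg.Agent.S2940

/-- Let S be a Sylow p-subgroup of the finite group G and G₁, G₂ subgroups containing S with G = G₁G₂. Then for every g ∈ G there is a Sylow p-subgroup U of G with S ∩ S^g ≤ U ≤ G₁ ∩ G₂^g (conjugates taken as X^g = g⁻¹Xg). -/
theorem result {G : Type*} [Group G] [Finite G] {p : ℕ} [Fact p.Prime] (S : Sylow p G) (G₁ G₂ : Subgroup G) (h1 : (S : Subgroup G) ≤ G₁) (h2 : (S : Subgroup G) ≤ G₂) (hfact : ∀ g : G, ∃ g₁ ∈ G₁, ∃ g₂ ∈ G₂, g = g₁ * g₂) (g : G) : ∃ U : Sylow p G, (S : Subgroup G) ⊓ Cfsg.subgroupConjRight g (S : Subgroup G) ≤ (U : Subgroup G) ∧ (U : Subgroup G) ≤ G₁ ⊓ Cfsg.subgroupConjRight g G₂ := by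
  obtain ⟨a, ha, b, hb, hab⟩ := hfact g⁻¹
  -- the Sylow subgroup a S a⁻¹ lies in G₁ ⊓ G₂^g
  have hT : ((a • S : Sylow p G) : Subgroup G) ≤ G₁ ⊓ Cfsg.subgroupConjRight g G₂ := by
    intro x hx
    rw [Sylow.coe_subgroup_smul, Subgroup.mem_smul_pointwise_iff_exists] at hx
    obtain ⟨s, hs, rfl⟩ := hx
    have hx' : (MulAut.conj a • s : G) = a * s * a⁻¹ := rfl
    rw [hx']
    refine Subgroup.mem_inf.2 ⟨G₁.mul_mem (G₁.mul_mem ha (h1 hs)) (G₁.inv_mem ha), ?_⟩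
    rw [Cfsg.Agent.helper15.mem_subgroupConjRight]
    have hg : g = b⁻¹ * a⁻¹ := by
      have : g = (g⁻¹)⁻¹ := (inv_inv g).symm
      rw [this, hab, mul_inv_rev]
    have : g * (a * s * a⁻¹) * g⁻¹ = b⁻¹ * s * b := by
      rw [hg]; group
    rw [this]
    exact G₂.mul_mem (G₂.mul_mem (G₂.inv_mem hb) (h2 hs)) hb
  have hQ : IsPGroup p ↥((S : Subgroup G) ⊓ Cfsg.subgroupConjRight g (S : Subgroup G)) :=
    S.isPGroup'.to_le inf_le_left
  have hQH : (S : Subgroup G) ⊓ Cfsg.subgroupConjRight g (S : Subgroup G) ≤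
      G₁ ⊓ Cfsg.subgroupConjRight g G₂ := by
    intro x hx
    obtain ⟨hx1, hx2⟩ := Subgroup.mem_inf.1 hx
    refine Subgroup.mem_inf.2 ⟨h1 hx1, ?_⟩
    rw [Cfsg.Agent.helper15.mem_subgroupConjRight] at hx2 ⊢
    exact h2 hx2
  exact Cfsg.Agent.helper15.exists_sylow_between _ _ (a • S) hT hQ hQH

end Cfsg.Agent.S2940
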