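import Mathlib
import Cfsg.Prelude.Def_SylowChains
import Cfsg.Agent.Lib_helper15_SylCtl2
import Cfsg.Agent.S2940

set_option autoImplicit false

namespace Cfsg.Agent.helper15

open Cfsg

/-! ### Generic: `Fin`-indexed chains versus `ReflTransGen` -/

theorem rtg_of_fin_chain {α : Type*} (R : α → α → Prop) (n : ℕ) (c : Fin (n + 1) → α)
    (h : ∀ i : Fin n, R (c i.castSucc) (c i.succ)) :
    Relation.ReflTransGen R (c 0) (c (Fin.last n)) := by
  have hall : ∀ i : Fin (n + 1), Relation.ReflTransGen R (c 0) (c i) := by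
    intro i
    induction i using Fin.induction with
    | zero => exact Relation.ReflTransGen.refl
    | succ i ih => exact Relation.ReflTransGen.tail ih (h i)
  exact hall _

theorem fin_chain_of_rtg {α : Type*} (R : α → α → Prop) {a b : α}
    (h : Relation.ReflTransGen R a b) :
    ∃ (n : ℕ) (c : Fin (n + 1) → α), c 0 = a ∧ c (Fin.last n) = b ∧
      ∀ i : Fin n, R (c i.castSucc) (c i.succ) := by
  induction h using Relation.ReflTransGen.head_induction_on with
  | refl => exact ⟨0, fun _ => b, rfl, rfl, fun i => i.elim0⟩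
  | @head a' b' hadj _ ih =>
    obtain ⟨n, c, h0, hlast, hstep⟩ := ih
    refine ⟨n + 1, Fin.cons a' c, rfl, ?_, ?_⟩
    · rw [← Fin.succ_last, Fin.cons_succ, hlast]
    · intro i
      refine Fin.cases ?_ ?_ i
      · have e1 : (Fin.cons a' c : Fin (n + 1 + 1) → α) (Fin.castSucc 0) = a' := rfl
        have e2 : (Fin.cons a' c : Fin (n + 1 + 1) → α) (Fin.succ 0) = b' := by
          rw [Fin.cons_succ, h0]
        rw [e1, e2]
        exact hadj
      · intro j
        have e1 : (Fin.cons a' c : Fin (n + 1 + 1) → α) (j.succ).castSucc = c j.castSucc := by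
          rw [← Fin.succ_castSucc, Fin.cons_succ]
        rw [e1, Fin.cons_succ]
        exact hstep j

/-! ### Sylow subgroups of a subgroup, seen in the ambient group -/

/-- `Q` is a Sylow `p`-subgroup of `M`, as a subgroup of the ambient group. -/
def SylIn {G : Type*} [Group G] (p : ℕ) (M Q : Subgroup G) : Prop :=
  Q ≤ M ∧ Nat.card Q = p ^ (Nat.card M).factorization p

theorem sylIn_map {G : Type*} [Group G] [Finite G] {p : ℕ} [Fact p.Prime] (M : Subgroup G)
    (A : Sylow p ↥M) : SylIn p M ((A : Subgroup ↥M).map M.subtype) := by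
  refine ⟨Subgroup.map_subtype_le _, ?_⟩
  rw [Subgroup.card_map_of_injective M.subtype_injective]
  exact A.card_eq_multiplicity

theorem exists_sylow_of_sylIn {G : Type*} [Group G] [Finite G] {p : ℕ} [Fact p.Prime]
    (M Q : Subgroup G) (h : SylIn p M Q) :
    ∃ A : Sylow p ↥M, (A : Subgroup ↥M).map M.subtype = Q := by
  obtain ⟨hQM, hcard⟩ := h
  have hc : Nat.card (Q.subgroupOf M) = p ^ (Nat.card ↥M).factorization p := by
    rw [Nat.card_congr (Subgroup.subgroupOfEquivOfLe hQM).toEquiv]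
    exact hcard
  refine ⟨Sylow.ofCard (Q.subgroupOf M) hc, ?_⟩
  rw [Sylow.coe_ofCard, Subgroup.subgroupOf_map_subtype]
  exact inf_eq_left.2 hQM

theorem sylIn_conj {G : Type*} [Group G] {p : ℕ} (M Q : Subgroup G) (h : SylIn p M Q)
    (x : G) (hx : x ∈ M) : SylIn p M (Cfsg.subgroupConjRight x Q) := by
  refine ⟨?_, ?_⟩
  · intro y hy
    rw [mem_subgroupConjRight] at hy
    have h1 := h.1 hy
    have : y = x⁻¹ * (x * y * x⁻¹) * x := by group
    rw [this]
    exact M.mul_mem (M.mul_mem (M.inv_mem hx) h1) hx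
  · rw [card_subgroupConjRight]; exact h.2

theorem subgroupConjRight_mono {G : Type*} [Group G] (g : G) {X Y : Subgroup G} (h : X ≤ Y) :
    Cfsg.subgroupConjRight g X ≤ Cfsg.subgroupConjRight g Y :=
  Subgroup.map_mono h

theorem subgroupConjRight_inv_cancel {G : Type*} [Group G] (g : G) (X : Subgroup G) :
    Cfsg.subgroupConjRight g (Cfsg.subgroupConjRight g⁻¹ X) = X := by
  rw [subgroupConjRight_mul, inv_mul_cancel, subgroupConjRight_one]

theorem subgroupConjRight_cancel_inv {G : Type*} [Group G] (g : G) (X : Subgroup G) :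
    Cfsg.subgroupConjRight g⁻¹ (Cfsg.subgroupConjRight g X) = X := by
  rw [subgroupConjRight_mul, mul_inv_cancel, subgroupConjRight_one]

theorem map_subtype_subgroupConjRight {G : Type*} [Group G] (M : Subgroup G) (m : ↥M)
    (K : Subgroup ↥M) :
    (Cfsg.subgroupConjRight m K).map M.subtype =
      Cfsg.subgroupConjRight (m : G) (K.map M.subtype) := by
  unfold Cfsg.subgroupConjRight
  rw [Subgroup.map_map, Subgroup.map_map]
  congr 1

/-! ### The chain relation -/

/-- One step of a controlled chain (for families whose members contain full Sylow subgroups). -/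
def StepG {G : Type*} [Group G] (𝓕 : Set (Subgroup G)) (D A B : Subgroup G) : Prop :=
  ∃ X ∈ 𝓕, ∃ x ∈ X, A ≤ X ∧ B ≤ X ∧ Cfsg.subgroupConjRight x B = A ∧ D ≤ B

/-- Controlled chains. -/
def ChainG {G : Type*} [Group G] (𝓕 : Set (Subgroup G)) (D : Subgroup G) :
    Subgroup G → Subgroup G → Prop :=
  Relation.ReflTransGen (StepG 𝓕 D)

/-- Regularity in ambient-subgroup form. -/
def RegG {G : Type*} [Group G] (p : ℕ) (f : Subgroup G → Set (Subgroup G)) (M : Subgroup G) :
    Prop :=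
  ∀ S T : Subgroup G, SylIn p M S → SylIn p M T → S ≠ T → S ⊓ T ≠ ⊥ →
    ChainG (Cfsg.functorFamily p f M) (S ⊓ T) S T

theorem mem_functorFamily_iff {G : Type*} [Group G] [Finite G] {p : ℕ} [Fact p.Prime]
    (f : Subgroup G → Set (Subgroup G)) (M X : Subgroup G) :
    X ∈ Cfsg.functorFamily p f M ↔
      ∃ P : Subgroup G, SylIn p M P ∧ ∃ F ∈ f P, X = M ⊓ Subgroup.normalizer (F : Set G) := by
  constructor
  · rintro ⟨P, F, hF, hX⟩
    exact ⟨_, sylIn_map M P, F, hF, hX⟩
  · rintro ⟨P, hP, F, hF, hX⟩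
    obtain ⟨A, hA⟩ := exists_sylow_of_sylIn M P hP
    refine ⟨A, F, ?_, hX⟩
    rw [hA]; exact hF

theorem functorFamily_facts {G : Type*} [Group G] [Finite G] {p : ℕ} [Fact p.Prime]
    (f : Subgroup G → Set (Subgroup G)) (hf : Cfsg.IsNormalizerFunctor p f) (M X : Subgroup G)
    (hX : X ∈ Cfsg.functorFamily p f M) :
    X ≤ M ∧ (Nat.card X).factorization p = (Nat.card M).factorization p := by
  rw [mem_functorFamily_iff] at hX
  obtain ⟨P, hP, F, hF, rfl⟩ := hX
  have hPp : IsPGroup p ↥P := IsPGroup.of_card hP.2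
  obtain ⟨hFP, hN⟩ := (hf P hPp).1 F hF
  have hPX : P ≤ M ⊓ Subgroup.normalizer (F : Set G) :=
    le_inf hP.1 (Subgroup.le_normalizer.trans hN)
  refine ⟨inf_le_left, ?_⟩
  apply le_antisymm
  · have hdvd : Nat.card ↥(M ⊓ Subgroup.normalizer (F : Set G)) ∣ Nat.card ↥M :=
      Subgroup.card_dvd_of_le inf_le_left
    exact (Nat.factorization_le_iff_dvd Nat.card_pos.ne' Nat.card_pos.ne').2 hdvd p
  · have hdvd : Nat.card ↥P ∣ Nat.card ↥(M ⊓ Subgroup.normalizer (F : Set G)) :=
      Subgroup.card_dvd_of_le hPX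
    rw [hP.2] at hdvd
    exact (Nat.Prime.pow_dvd_iff_le_factorization (Fact.out) Nat.card_pos.ne').1 hdvd

/-- For a member `X ≤ M` with full `p`-part, being a Sylow member means containing the Sylow subgroup. -/
theorem sylowMember_sub_iff {G : Type*} [Group G] [Finite G] {p : ℕ} [Fact p.Prime]
    (M X : Subgroup G) (hXM : X ≤ M)
    (hfac : (Nat.card X).factorization p = (Nat.card M).factorization p) (A : Sylow p ↥M) :
    (∃ P : Sylow p ↥(X.subgroupOf M),
        (P : Subgroup ↥(X.subgroupOf M)).map (X.subgroupOf M).subtype =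
          (A : Subgroup ↥M) ⊓ X.subgroupOf M) ↔
      (A : Subgroup ↥M).map M.subtype ≤ X := by
  rw [sylowMember_iff]
  have hcX : Nat.card ↥(X.subgroupOf M) = Nat.card ↥X :=
    Nat.card_congr (Subgroup.subgroupOfEquivOfLe hXM).toEquiv
  rw [hcX, hfac, Subgroup.map_le_iff_le_comap]
  have hcA : Nat.card ↥(A : Subgroup ↥M) = p ^ (Nat.card ↥M).factorization p :=
    A.card_eq_multiplicity
  constructor
  · intro h
    have heq : (A : Subgroup ↥M) ⊓ X.subgroupOf M = (A : Subgroup ↥M) :=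
      Subgroup.eq_of_le_of_card_ge inf_le_left (by rw [h, hcA])
    intro y hy
    rw [← heq] at hy
    exact (Subgroup.mem_inf.1 hy).2
  · intro h
    have heq : (A : Subgroup ↥M) ⊓ X.subgroupOf M = (A : Subgroup ↥M) := inf_eq_left.2 h
    rw [heq, hcA]

theorem regG_of_isFunctorRegular {G : Type*} [Group G] [Finite G] {p : ℕ} [Fact p.Prime]
    (f : Subgroup G → Set (Subgroup G)) (hf : Cfsg.IsNormalizerFunctor p f) (M : Subgroup G)
    (h : Cfsg.IsFunctorRegular p f M) : RegG p f M := by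
  intro S T hS hT hne hmeet
  obtain ⟨S₀, hS₀⟩ := exists_sylow_of_sylIn M S hS
  obtain ⟨T₀, hT₀⟩ := exists_sylow_of_sylIn M T hT
  have hne₀ : S₀ ≠ T₀ := by
    intro h'
    apply hne
    rw [← hS₀, ← hT₀, h']
  have hinf : ((S₀ : Subgroup ↥M) ⊓ (T₀ : Subgroup ↥M)).map M.subtype = S ⊓ T := by
    rw [Subgroup.map_inf _ _ _ M.subtype_injective, hS₀, hT₀]
  have hmeet₀ : (S₀ : Subgroup ↥M) ⊓ (T₀ : Subgroup ↥M) ≠ ⊥ := by
    intro h'
    apply hmeet
    rw [← hinf, h', Subgroup.map_bot]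
  obtain ⟨n, c, X, x, h0, hlast, hstep⟩ := h S₀ T₀ hne₀ hmeet₀
  set 𝓕' : Set (Subgroup ↥M) :=
    (fun X : Subgroup G => X.subgroupOf M) '' Cfsg.functorFamily p f M with h𝓕'
  have hchain := rtg_of_fin_chain
    (fun A B : Sylow p ↥M => ∃ (X' : Subgroup ↥M) (x' : ↥M),
      X' ∈ Cfsg.sylowMembers p 𝓕' (A : Subgroup ↥M) ∧
      X' ∈ Cfsg.sylowMembers p 𝓕' (B : Subgroup ↥M) ∧ x' ∈ X' ∧
      Cfsg.subgroupConjRight x' (B : Subgroup ↥M) = (A : Subgroup ↥M) ∧
      (S₀ : Subgroup ↥M) ⊓ (T₀ : Subgroup ↥M) ≤ (B : Subgroup ↥M) ⊓ X')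
    n c (fun i => ⟨X i, x i, hstep i⟩)
  rw [h0, hlast] at hchain
  have hlift := Relation.ReflTransGen.lift
    (fun A : Sylow p ↥M => (A : Subgroup ↥M).map M.subtype)
    (r := fun A B : Sylow p ↥M => ∃ (X' : Subgroup ↥M) (x' : ↥M),
      X' ∈ Cfsg.sylowMembers p 𝓕' (A : Subgroup ↥M) ∧
      X' ∈ Cfsg.sylowMembers p 𝓕' (B : Subgroup ↥M) ∧ x' ∈ X' ∧
      Cfsg.subgroupConjRight x' (B : Subgroup ↥M) = (A : Subgroup ↥M) ∧
      (S₀ : Subgroup ↥M) ⊓ (T₀ : Subgroup ↥M) ≤ (B : Subgroup ↥M) ⊓ X')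
    (p := StepG (Cfsg.functorFamily p f M) (S ⊓ T)) ?_ S₀ T₀ hchain
  · have hlift' : Relation.ReflTransGen (StepG (Cfsg.functorFamily p f M) (S ⊓ T))
        ((S₀ : Subgroup ↥M).map M.subtype) ((T₀ : Subgroup ↥M).map M.subtype) := hlift
    rw [hS₀, hT₀] at hlift'
    exact hlift'
  · rintro A B ⟨X', x', hXA, hXB, hxX, hconj, hD⟩
    obtain ⟨⟨Y, hY, rfl⟩, hPA⟩ := hXA
    obtain ⟨-, hPB⟩ := hXB
    obtain ⟨hYM, hfac⟩ := functorFamily_facts f hf M Y hY
    rw [sylowMember_sub_iff M Y hYM hfac] at hPA hPB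
    refine ⟨Y, hY, (x' : G), Subgroup.mem_subgroupOf.1 hxX, hPA, hPB, ?_, ?_⟩
    · show Cfsg.subgroupConjRight (x' : G) ((B : Subgroup ↥M).map M.subtype) =
        (A : Subgroup ↥M).map M.subtype
      rw [← map_subtype_subgroupConjRight, hconj]
    · show S ⊓ T ≤ (B : Subgroup ↥M).map M.subtype
      rw [← hinf]
      exact Subgroup.map_mono (hD.trans inf_le_left)

theorem isFunctorRegular_of_regG {G : Type*} [Group G] [Finite G] {p : ℕ} [Fact p.Prime]
    (f : Subgroup G → Set (Subgroup G)) (hf : Cfsg.IsNormalizerFunctor p f) (M : Subgroup G)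
    (h : RegG p f M) : Cfsg.IsFunctorRegular p f M := by
  intro S₀ T₀ hne₀ hmeet₀
  set S : Subgroup G := (S₀ : Subgroup ↥M).map M.subtype with hSdef
  set T : Subgroup G := (T₀ : Subgroup ↥M).map M.subtype with hTdef
  have hS : SylIn p M S := sylIn_map M S₀
  have hT : SylIn p M T := sylIn_map M T₀
  have hne : S ≠ T := by
    intro h'
    apply hne₀
    apply Sylow.ext
    exact Subgroup.map_injective M.subtype_injective h'
  have hinf : ((S₀ : Subgroup ↥M) ⊓ (T₀ : Subgroup ↥M)).map M.subtype = S ⊓ T := by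
    rw [Subgroup.map_inf _ _ _ M.subtype_injective]
  have hmeet : S ⊓ T ≠ ⊥ := by
    intro h'
    apply hmeet₀
    rw [← hinf] at h'
    exact (Subgroup.map_eq_bot_iff_of_injective _ M.subtype_injective).1 h'
  have hc := h S T hS hT hne hmeet
  -- lift the chain to Sylow subgroups of `M`
  have hliftAux : ∀ T' : Subgroup G,
      Relation.ReflTransGen (StepG (Cfsg.functorFamily p f M) (S ⊓ T)) S T' →
      ∃ B : Sylow p ↥M, (B : Subgroup ↥M).map M.subtype = T' ∧
        Relation.ReflTransGen (fun A B : Sylow p ↥M =>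
          StepG (Cfsg.functorFamily p f M) (S ⊓ T) ((A : Subgroup ↥M).map M.subtype)
            ((B : Subgroup ↥M).map M.subtype)) S₀ B := by
    intro T' hT'
    induction hT' with
    | refl => exact ⟨S₀, rfl, Relation.ReflTransGen.refl⟩
    | @tail b c' hab hbc ih =>
      obtain ⟨B, hB, hAB⟩ := ih
      have hbc' := hbc
      obtain ⟨X, hX, x, hx, hbX, hcX, hconj, hD⟩ := hbc
      obtain ⟨hXM, -⟩ := functorFamily_facts f hf M X hX
      have hb : SylIn p M b := by rw [← hB]; exact sylIn_map M B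
      have hc' : SylIn p M c' := by
        have := sylIn_conj M b hb x⁻¹ (M.inv_mem (hXM hx))
        rw [← hconj, subgroupConjRight_cancel_inv] at this
        exact this
      obtain ⟨C, hC⟩ := exists_sylow_of_sylIn M c' hc'
      refine ⟨C, hC, Relation.ReflTransGen.tail hAB ?_⟩
      show StepG (Cfsg.functorFamily p f M) (S ⊓ T) ((B : Subgroup ↥M).map M.subtype)
            ((C : Subgroup ↥M).map M.subtype)
      rw [hB, hC]; exact hbc'
  obtain ⟨B, hB, hchain⟩ := hliftAux T hc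
  have hBT : B = T₀ := by
    apply Sylow.ext
    exact Subgroup.map_injective M.subtype_injective hB
  subst hBT
  obtain ⟨n, c, h0, hlast, hstep⟩ := fin_chain_of_rtg _ hchain
  have hstep' : ∀ i : Fin n, ∃ (X' : Subgroup ↥M) (x' : ↥M),
      X' ∈ Cfsg.sylowMembers p ((fun X : Subgroup G => X.subgroupOf M) ''
        Cfsg.functorFamily p f M) (c i.castSucc : Subgroup ↥M) ∧
      X' ∈ Cfsg.sylowMembers p ((fun X : Subgroup G => X.subgroupOf M) ''
        Cfsg.functorFamily p f M) (c i.succ : Subgroup ↥M) ∧ x' ∈ X' ∧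
      Cfsg.subgroupConjRight x' (c i.succ : Subgroup ↥M) = (c i.castSucc : Subgroup ↥M) ∧
      (S₀ : Subgroup ↥M) ⊓ (B : Subgroup ↥M) ≤ (c i.succ : Subgroup ↥M) ⊓ X' := by
    intro i
    obtain ⟨X, hX, x, hx, hAX, hBX, hconj, hD⟩ := hstep i
    obtain ⟨hXM, hfac⟩ := functorFamily_facts f hf M X hX
    refine ⟨X.subgroupOf M, ⟨x, hXM hx⟩, ⟨⟨X, hX, rfl⟩, ?_⟩, ⟨⟨X, hX, rfl⟩, ?_⟩, ?_, ?_, ?_⟩
    · exact (sylowMember_sub_iff M X hXM hfac _).2 hAX
    · exact (sylowMember_sub_iff M X hXM hfac _).2 hBX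
    · exact Subgroup.mem_subgroupOf.2 hx
    · apply Subgroup.map_injective M.subtype_injective
      rw [map_subtype_subgroupConjRight]
      exact hconj
    · have h1 : (S₀ : Subgroup ↥M) ⊓ (B : Subgroup ↥M) ≤ (c i.succ : Subgroup ↥M) := by
        apply (Subgroup.map_le_map_iff_of_injective M.subtype_injective).1
        rw [hinf]; exact hD
      have h2 : (c i.succ : Subgroup ↥M) ≤ X.subgroupOf M := by
        intro y hy
        rw [Subgroup.mem_subgroupOf]
        exact hBX (Subgroup.mem_map_of_mem _ hy)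
      exact le_inf h1 (h1.trans h2)
  choose X' x' hXx using hstep'
  exact ⟨n, c, X', x', h0, hlast, hXx⟩

/-! ### Conjugation and lifting of chains -/

theorem chainG_mono_D {G : Type*} [Group G] (𝓕 : Set (Subgroup G)) {D D' A B : Subgroup G}
    (hD : D ≤ D') (h : ChainG 𝓕 D' A B) : ChainG 𝓕 D A B := by
  refine Relation.ReflTransGen.mono (r := StepG 𝓕 D') (p := StepG 𝓕 D) ?_ A B h
  rintro a b ⟨X, hX, x, hx, haX, hbX, hconj, hDb⟩
  exact ⟨X, hX, x, hx, haX, hbX, hconj, hD.trans hDb⟩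

theorem chainG_conj {G : Type*} [Group G] (𝓕 : Set (Subgroup G)) (h𝓕 : Cfsg.IsNormalSet 𝓕)
    {D A B : Subgroup G} (g : G) (h : ChainG 𝓕 D A B) :
    ChainG 𝓕 (Cfsg.subgroupConjRight g D) (Cfsg.subgroupConjRight g A)
      (Cfsg.subgroupConjRight g B) := by
  refine Relation.ReflTransGen.lift (r := StepG 𝓕 D)
    (p := StepG 𝓕 (Cfsg.subgroupConjRight g D)) (Cfsg.subgroupConjRight g) ?_ A B h
  rintro a b ⟨X, hX, x, hx, haX, hbX, hconj, hDb⟩
  refine ⟨Cfsg.subgroupConjRight g X, h𝓕 X hX g, g⁻¹ * x * g, ?_, subgroupConjRight_mono g haX,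
    subgroupConjRight_mono g hbX, ?_, subgroupConjRight_mono g hDb⟩
  · rw [mem_subgroupConjRight]
    have : g * (g⁻¹ * x * g) * g⁻¹ = x := by group
    rw [this]; exact hx
  · rw [subgroupConjRight_mul]
    have : g * (g⁻¹ * x * g) = x * g := by group
    rw [this, ← subgroupConjRight_mul, hconj]

theorem functorFamily_top_normalSet {G : Type*} [Group G] [Finite G] {p : ℕ} [Fact p.Prime]
    (f : Subgroup G → Set (Subgroup G)) (hf : Cfsg.IsNormalizerFunctor p f) :
    Cfsg.IsNormalSet (Cfsg.functorFamily p f ⊤) := by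
  intro X hX g
  rw [mem_functorFamily_iff] at hX ⊢
  obtain ⟨P, hP, F, hF, rfl⟩ := hX
  have hPp : IsPGroup p ↥P := IsPGroup.of_card hP.2
  refine ⟨Cfsg.subgroupConjRight g P, sylIn_conj ⊤ P hP g (Subgroup.mem_top g),
    Cfsg.subgroupConjRight g F, ?_, ?_⟩
  · have := (hf P hPp).2 g⁻¹
    show Cfsg.subgroupConjRight g F ∈ f (P.map (MulAut.conj g⁻¹).toMonoidHom)
    rw [this]
    exact ⟨F, hF, rfl⟩
  · ext y
    rw [mem_subgroupConjRight]
    simp only [Subgroup.mem_inf, Subgroup.mem_top, true_and]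
    rw [Subgroup.mem_normalizer_iff, Subgroup.mem_normalizer_iff]
    constructor
    · intro h z
      rw [mem_subgroupConjRight, mem_subgroupConjRight]
      have h1 := h (g * z * g⁻¹)
      have e : g * y * g⁻¹ * (g * z * g⁻¹) * (g * y * g⁻¹)⁻¹ = g * (y * z * y⁻¹) * g⁻¹ := by
        group
      rw [e] at h1
      exact h1
    · intro h z
      have h1 := h (g⁻¹ * z * g)
      rw [mem_subgroupConjRight, mem_subgroupConjRight] at h1
      have e1 : g * (g⁻¹ * z * g) * g⁻¹ = z := by group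
      have e2 : g * (y * (g⁻¹ * z * g) * y⁻¹) * g⁻¹ = g * y * g⁻¹ * z * (g * y * g⁻¹)⁻¹ := by
        group
      rw [e1, e2] at h1
      exact h1

theorem stepG_lift_top {G : Type*} [Group G] [Finite G] {p : ℕ} [Fact p.Prime]
    (f : Subgroup G → Set (Subgroup G)) (M : Subgroup G)
    (hM : (Nat.card M).factorization p = (Nat.card G).factorization p) {D A B : Subgroup G}
    (h : StepG (Cfsg.functorFamily p f M) D A B) : StepG (Cfsg.functorFamily p f ⊤) D A B := by
  obtain ⟨X, hX, x, hx, haX, hbX, hconj, hDb⟩ := h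
  rw [mem_functorFamily_iff] at hX
  obtain ⟨P, hP, F, hF, rfl⟩ := hX
  have hle : M ⊓ Subgroup.normalizer (F : Set G) ≤ ⊤ ⊓ Subgroup.normalizer (F : Set G) :=
    inf_le_inf_right _ le_top
  refine ⟨⊤ ⊓ Subgroup.normalizer (F : Set G), ?_, x, hle hx, haX.trans hle, hbX.trans hle,
    hconj, hDb⟩
  rw [mem_functorFamily_iff]
  refine ⟨P, ⟨le_top, ?_⟩, F, hF, rfl⟩
  rw [hP.2, hM, Subgroup.card_top]

theorem chainG_lift_top {G : Type*} [Group G] [Finite G] {p : ℕ} [Fact p.Prime]
    (f : Subgroup G → Set (Subgroup G)) (M : Subgroup G)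
    (hM : (Nat.card M).factorization p = (Nat.card G).factorization p) {D A B : Subgroup G}
    (h : ChainG (Cfsg.functorFamily p f M) D A B) : ChainG (Cfsg.functorFamily p f ⊤) D A B :=
  Relation.ReflTransGen.mono (r := StepG (Cfsg.functorFamily p f M) D)
    (p := StepG (Cfsg.functorFamily p f ⊤) D) (fun _ _ h' => stepG_lift_top f M hM h') A B h

theorem factorization_eq_of_sylow_le {G : Type*} [Group G] [Finite G] {p : ℕ} [Fact p.Prime]
    (S : Sylow p G) (M : Subgroup G) (h : (S : Subgroup G) ≤ M) :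
    (Nat.card M).factorization p = (Nat.card G).factorization p := by
  apply le_antisymm
  · have hdvd : Nat.card ↥M ∣ Nat.card G := Subgroup.card_subgroup_dvd_card M
    exact (Nat.factorization_le_iff_dvd Nat.card_pos.ne' Nat.card_pos.ne').2 hdvd p
  · have hdvd : Nat.card ↥(S : Subgroup G) ∣ Nat.card ↥M := Subgroup.card_dvd_of_le h
    rw [S.card_eq_multiplicity] at hdvd
    exact (Nat.Prime.pow_dvd_iff_le_factorization (Fact.out) Nat.card_pos.ne').1 hdvd

theorem sylIn_of_sylow_le {G : Type*} [Group G] [Finite G] {p : ℕ} [Fact p.Prime]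
    (S U : Sylow p G) (M : Subgroup G) (h : (S : Subgroup G) ≤ M) (hU : (U : Subgroup G) ≤ M) :
    SylIn p M (U : Subgroup G) := by
  refine ⟨hU, ?_⟩
  rw [factorization_eq_of_sylow_le S M h]
  exact U.card_eq_multiplicity

/-- The factorization theorem in ambient form. -/
theorem regG_top_of_factorization {G : Type*} [Group G] [Finite G] {p : ℕ} [Fact p.Prime]
    (f : Subgroup G → Set (Subgroup G)) (hf : Cfsg.IsNormalizerFunctor p f) (S : Sylow p G)
    (G₁ G₂ : Subgroup G) (h₁ : (S : Subgroup G) ≤ G₁) (h₂ : (S : Subgroup G) ≤ G₂)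
    (hprod : ∀ g : G, ∃ g₁ ∈ G₁, ∃ g₂ ∈ G₂, g = g₁ * g₂)
    (hr₁ : RegG p f G₁) (hr₂ : RegG p f G₂) : RegG p f ⊤ := by
  have hN := functorFamily_top_normalSet f hf
  have hM₁ := factorization_eq_of_sylow_le S G₁ h₁
  have hM₂ := factorization_eq_of_sylow_le S G₂ h₂
  -- the key case
  have key : ∀ g : G, (S : Subgroup G) ⊓ Cfsg.subgroupConjRight g (S : Subgroup G) ≠ ⊥ →
      ChainG (Cfsg.functorFamily p f ⊤)
        ((S : Subgroup G) ⊓ Cfsg.subgroupConjRight g (S : Subgroup G)) (S : Subgroup G)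
        (Cfsg.subgroupConjRight g (S : Subgroup G)) := by
    intro g hmeet
    obtain ⟨U, hDU, hU⟩ := Cfsg.Agent.S2940.result S G₁ G₂ h₁ h₂ hprod g
    set D : Subgroup G := (S : Subgroup G) ⊓ Cfsg.subgroupConjRight g (S : Subgroup G) with hD
    have hU₁ : (U : Subgroup G) ≤ G₁ := hU.trans inf_le_left
    have hU₂ : (U : Subgroup G) ≤ Cfsg.subgroupConjRight g G₂ := hU.trans inf_le_right
    -- first chain
    have c1 : ChainG (Cfsg.functorFamily p f ⊤) D (S : Subgroup G) (U : Subgroup G) := by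
      by_cases hSU : (S : Subgroup G) = (U : Subgroup G)
      · rw [← hSU]; exact Relation.ReflTransGen.refl
      · have hDle : D ≤ (S : Subgroup G) ⊓ (U : Subgroup G) := le_inf inf_le_left hDU
        have hne : (S : Subgroup G) ⊓ (U : Subgroup G) ≠ ⊥ := by
          intro h'
          apply hmeet
          exact le_bot_iff.1 (h' ▸ hDle)
        have := hr₁ _ _ (sylIn_of_sylow_le S S G₁ h₁ h₁) (sylIn_of_sylow_le S U G₁ h₁ hU₁)
          hSU hne
        exact chainG_mono_D _ hDle (chainG_lift_top f G₁ hM₁ this)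
    -- second chain
    have c2 : ChainG (Cfsg.functorFamily p f ⊤) D (U : Subgroup G)
        (Cfsg.subgroupConjRight g (S : Subgroup G)) := by
      set U' : Subgroup G := Cfsg.subgroupConjRight g⁻¹ (U : Subgroup G) with hU'
      have hU'U : Cfsg.subgroupConjRight g U' = (U : Subgroup G) :=
        subgroupConjRight_inv_cancel g _
      have hU'G₂ : U' ≤ G₂ := by
        have := subgroupConjRight_mono g⁻¹ hU₂
        rwa [subgroupConjRight_cancel_inv] at this
      have hU'syl : SylIn p G₂ U' := by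
        refine ⟨hU'G₂, ?_⟩
        rw [hU', card_subgroupConjRight, hM₂]
        exact U.card_eq_multiplicity
      by_cases hUS : U' = (S : Subgroup G)
      · rw [← hU'U, hUS]; exact Relation.ReflTransGen.refl
      · have hDle' : Cfsg.subgroupConjRight g⁻¹ D ≤ U' ⊓ (S : Subgroup G) := by
          refine le_inf (subgroupConjRight_mono g⁻¹ hDU) ?_
          have := subgroupConjRight_mono g⁻¹ (inf_le_right : D ≤ _)
          rwa [subgroupConjRight_cancel_inv] at this
        have hDle : D ≤ Cfsg.subgroupConjRight g (U' ⊓ (S : Subgroup G)) := by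
          have := subgroupConjRight_mono g hDle'
          rwa [subgroupConjRight_inv_cancel] at this
        have hne : U' ⊓ (S : Subgroup G) ≠ ⊥ := by
          intro h'
          apply hmeet
          rw [h'] at hDle
          have hbot : Cfsg.subgroupConjRight g (⊥ : Subgroup G) = ⊥ := Subgroup.map_bot _
          rw [hbot] at hDle
          exact le_bot_iff.1 hDle
        have := hr₂ _ _ hU'syl (sylIn_of_sylow_le S S G₂ h₂ h₂) hUS hne
        have h3 := chainG_conj _ hN g (chainG_lift_top f G₂ hM₂ this)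
        rw [hU'U] at h3
        exact chainG_mono_D _ hDle h3
    exact Relation.ReflTransGen.trans c1 c2
  intro S' T' hS' hT' hne hmeet
  -- S' and T' are conjugates of S
  have hconjS : ∀ Q : Subgroup G, SylIn p ⊤ Q → ∃ h : G, Q = Cfsg.subgroupConjRight h S := by
    intro Q hQ
    have hc : Nat.card Q = p ^ (Nat.card G).factorization p := by
      rw [hQ.2, Subgroup.card_top]
    obtain ⟨h, hh⟩ := MulAction.exists_smul_eq G S (Sylow.ofCard Q hc)
    refine ⟨h⁻¹, ?_⟩
    have := coe_smul_sylow h S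
    rw [hh, Sylow.coe_ofCard] at this
    exact this
  obtain ⟨h, rfl⟩ := hconjS S' hS'
  obtain ⟨k, rfl⟩ := hconjS T' hT'
  set g : G := k * h⁻¹ with hg
  have e1 : Cfsg.subgroupConjRight h (Cfsg.subgroupConjRight g (S : Subgroup G)) =
      Cfsg.subgroupConjRight k (S : Subgroup G) := by
    rw [subgroupConjRight_mul, hg]
    congr 1
    group
  have hmeet' : (S : Subgroup G) ⊓ Cfsg.subgroupConjRight g (S : Subgroup G) ≠ ⊥ := by
    intro h'
    apply hmeet
    rw [← e1, ← subgroupConjRight_inf, h']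
    exact Subgroup.map_bot _
  have := chainG_conj _ hN h (key g hmeet')
  rw [subgroupConjRight_inf, e1] at this
  exact this

end Cfsg.Agent.helper15
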