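import Mathlib
import Cfsg.Prelude.Def_SylowChains
import Cfsg.Prelude.Def_Local
import Cfsg.Prelude.Def_Transfer
import Cfsg.Agent.Lib_helper15_FunReg

set_option autoImplicit false

namespace Cfsg.Agent.helper15

open Cfsg

/-- The conditions on a pair `(H, X)` in the strong Alperin–Goldschmidt theorem. -/
def GoodH {G : Type*} [Group G] (p : ℕ) (P H X : Subgroup G) : Prop :=
  H ≤ P ∧
  ¬ p ∣ (P ⊓ Subgroup.normalizer (H : Set G)).relIndex (Subgroup.normalizer (H : Set G)) ∧
  P ⊓ Subgroup.centralizer (H : Set G) ≤ H ∧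
  (Cfsg.pPrimePCore p ↥(Subgroup.normalizer (H : Set G))).map
      (Subgroup.normalizer (H : Set G)).subtype = H ⊔ Subgroup.centralizer (H : Set G) ∧
  ¬ Cfsg.IsSylowChainConnected p
      (↥(Subgroup.normalizer (H : Set G)) ⧸ H.subgroupOf (Subgroup.normalizer (H : Set G))) ∧
  (H ≤ X ∧ X ≤ Subgroup.normalizer (H : Set G) ∧
    (X.subgroupOf (Subgroup.normalizer (H : Set G))).Normal ∧ p ∣ H.relIndex X ∧
    ∀ Y : Subgroup G, H ≤ Y → Y ≤ Subgroup.normalizer (H : Set G) →
      (Y.subgroupOf (Subgroup.normalizer (H : Set G))).Normal → p ∣ H.relIndex Y → X ≤ Y)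

/-- Paths of good steps. -/
inductive AGPath {G : Type*} [Group G] (p : ℕ) (P : Subgroup G) : Subgroup G → G → Prop
  | nil (Q : Subgroup G) : AGPath p P Q 1
  | cons (Q H X : Subgroup G) (x w : G) : GoodH p P H X →
      x ∈ (Cfsg.pResidual p ↥X).map X.subtype → Q ≤ H →
      AGPath p P (Cfsg.subgroupConjRight x Q) w → AGPath p P Q (x * w)

theorem mem_normalizer_of_good {G : Type*} [Group G] {p : ℕ} {P H X : Subgroup G} {x : G}
    (hG : GoodH p P H X) (hx : x ∈ (Cfsg.pResidual p ↥X).map X.subtype) :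
    x ∈ Subgroup.normalizer (H : Set G) := by
  obtain ⟨-, -, -, -, -, -, hXN, -⟩ := hG
  exact hXN (Subgroup.map_subtype_le _ hx)

theorem AGPath.mono {G : Type*} [Group G] {p : ℕ} {P Q : Subgroup G} {w : G}
    (h : AGPath p P Q w) : ∀ Q' : Subgroup G, Q' ≤ Q → AGPath p P Q' w := by
  induction h with
  | nil Q => intro Q' _; exact AGPath.nil Q'
  | cons Q H X x w hG hx hQH _ ih =>
    intro Q' hle
    exact AGPath.cons Q' H X x w hG hx (hle.trans hQH) (ih _ (subgroupConjRight_mono x hle))

theorem AGPath.append {G : Type*} [Group G] {p : ℕ} {P Q : Subgroup G} {w : G}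
    (h : AGPath p P Q w) :
    ∀ w' : G, AGPath p P (Cfsg.subgroupConjRight w Q) w' → AGPath p P Q (w * w') := by
  induction h with
  | nil Q =>
    intro w' h'
    rw [one_mul]
    rwa [subgroupConjRight_one] at h'
  | cons Q H X x w hG hx hQH _ ih =>
    intro w' h'
    rw [mul_assoc]
    apply AGPath.cons Q H X x (w * w') hG hx hQH
    apply ih
    rw [subgroupConjRight_mul]
    exact h'

theorem AGPath.rev {G : Type*} [Group G] {p : ℕ} {P Q : Subgroup G} {w : G}
    (h : AGPath p P Q w) : AGPath p P (Cfsg.subgroupConjRight w Q) w⁻¹ := by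
  induction h with
  | nil Q =>
    rw [subgroupConjRight_one, inv_one]
    exact AGPath.nil Q
  | cons Q H X x w hG hx hQH _ ih =>
    rw [mul_inv_rev, ← subgroupConjRight_mul]
    apply AGPath.append ih
    rw [subgroupConjRight_cancel_inv]
    have hxN := mem_normalizer_of_good hG hx
    have hle : Cfsg.subgroupConjRight x Q ≤ H := by
      have := subgroupConjRight_mono x hQH
      rwa [subgroupConjRight_of_mem_normalizer x H hxN] at this
    have e : x⁻¹ = x⁻¹ * 1 := (mul_one _).symm
    rw [e]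
    exact AGPath.cons _ H X x⁻¹ 1 hG (Subgroup.inv_mem _ hx) hle (AGPath.nil _)

/-- Convert a path into the `Fin`-indexed form of the statement. -/
theorem AGPath.toFin {G : Type*} [Group G] {p : ℕ} {P Q : Subgroup G} {w : G}
    (h : AGPath p P Q w) :
    ∃ (n : ℕ) (H X : Fin n → Subgroup G) (x : Fin n → G),
      (List.ofFn x).prod = w ∧ ∀ i : Fin n, GoodH p P (H i) (X i) ∧
        x i ∈ (Cfsg.pResidual p ↥(X i)).map (X i).subtype ∧
        Cfsg.subgroupConjRight ((List.ofFn x).take i.val).prod Q ≤ H i := by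
  induction h with
  | nil Q =>
    exact ⟨0, Fin.elim0, Fin.elim0, Fin.elim0, by simp, fun i => i.elim0⟩
  | cons Q H X x w hG hx hQH _ ih =>
    obtain ⟨n, H', X', x', hprod, hall⟩ := ih
    refine ⟨n + 1, Fin.cons H H', Fin.cons X X', Fin.cons x x', ?_, ?_⟩
    · rw [List.ofFn_succ]
      simp only [Fin.cons_zero, Fin.cons_succ, List.prod_cons]
      rw [hprod]
    · intro i
      refine Fin.cases ?_ ?_ i
      · refine ⟨hG, hx, ?_⟩
        simp only [Fin.val_zero, List.take_zero, List.prod_nil, Fin.cons_zero]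
        rw [subgroupConjRight_one]
        exact hQH
      · intro j
        obtain ⟨h1, h2, h3⟩ := hall j
        have eH : (Fin.cons H H' : Fin (n + 1) → Subgroup G) j.succ = H' j := Fin.cons_succ _ _ _
        have eX : (Fin.cons X X' : Fin (n + 1) → Subgroup G) j.succ = X' j := Fin.cons_succ _ _ _
        have ex : (Fin.cons x x' : Fin (n + 1) → G) j.succ = x' j := Fin.cons_succ _ _ _
        rw [eH, eX, ex]
        refine ⟨h1, h2, ?_⟩
        · rw [List.ofFn_succ]
          simp only [Fin.cons_zero, Fin.cons_succ, Fin.val_succ, List.take_succ_cons,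
            List.prod_cons]
          rw [← subgroupConjRight_mul]
          exact h3

end Cfsg.Agent.helper15
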