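import Cfsg.Agent.Lib_helper25_NormalExt
import Cfsg.Agent.Lib_helper10_PResidual

set_option autoImplicit false
set_option linter.style.haveILetI false
set_option linter.unusedVariables false

namespace Cfsg.Agent.helper25

open Cfsg Cfsg.FusionSystem

variable {Ω : Type*} [Group Ω] {S : Subgroup Ω}

theorem pResidual_map_le {G G' : Type*} [Group G] [Group G'] (p : ℕ) (f : G →* G') :
    (pResidual p G).map f ≤ pResidual p G' := by
  unfold pResidual
  rw [MonoidHom.map_closure, Subgroup.closure_le]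
  rintro _ ⟨g, hg, rfl⟩
  exact Subgroup.subset_closure (Nat.Coprime.coprime_dvd_left (orderOf_map_dvd f g) hg)

/-- transport of `Aut_F(P)` along an isomorphism of the system. -/
def autCongr (F : FusionSystem S) {P Q : Subgroup Ω} {e : P ≃* Q} (he : IsFIso F e) :
    F.autGroup P →* F.autGroup Q :=
  ((MulAut.congr e).toMonoidHom.comp (F.autGroup P).subtype).codRestrict (F.autGroup Q)
    (fun α => he.congr_mem_autGroup α.2)

theorem hyp_mem (F : FusionSystem S) (p : ℕ) {P : Subgroup Ω} (hPS : P ≤ S)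
    {α : F.autGroup P} (hα : α ∈ pResidual p (F.autGroup P)) (x : P) :
    (x : Ω)⁻¹ * ((α : MulAut P) x : P) ∈ F.hyperfocalSubgroup p :=
  Subgroup.subset_closure ⟨P, α, x, hPS, hα, rfl⟩

theorem hyp_transport (F : FusionSystem S) (p : ℕ) {P Q : Subgroup Ω} {e : P ≃* Q}
    (he : IsFIso F e) {α : F.autGroup P} (hα : α ∈ pResidual p (F.autGroup P)) (x : P) :
    ((e (x⁻¹ * (α : MulAut P) x) : Q) : Ω) ∈ F.hyperfocalSubgroup p := by
  have h1 : autCongr F he α ∈ pResidual p (F.autGroup Q) :=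
    pResidual_map_le p (autCongr F he) ⟨α, hα, rfl⟩
  have h2 := hyp_mem F p he.le_right h1 (e x)
  have e2 : ((e (x⁻¹ * (α : MulAut P) x) : Q) : Ω) =
      ((e x : Q) : Ω)⁻¹ * (((autCongr F he α : F.autGroup Q) : MulAut Q) (e x) : Q) := by
    show _ = ((e x : Q) : Ω)⁻¹ * ((e ((α : MulAut P) (e.symm (e x))) : Q) : Ω)
    rw [MulEquiv.symm_apply_apply, map_mul, map_inv, Subgroup.coe_mul, Subgroup.coe_inv]
  rw [e2]; exact h2

theorem hyperfocal_le (F : FusionSystem S) (p : ℕ) : F.hyperfocalSubgroup p ≤ S := by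
  unfold hyperfocalSubgroup
  rw [Subgroup.closure_le]
  rintro _ ⟨P, α, x, hPS, -, rfl⟩
  exact S.mul_mem (S.inv_mem (hPS x.2)) (hPS (α.1 x).2)

theorem hyperfocal_normal (F : FusionSystem S) (p : ℕ) :
    S ≤ Subgroup.normalizer (F.hyperfocalSubgroup p : Set Ω) := by
  apply le_normalizer_of_conj_mem
  intro s hs y hy
  unfold hyperfocalSubgroup at hy
  induction hy using Subgroup.closure_induction with
  | mem y hy =>
    obtain ⟨P, α, x, hPS, hα, rfl⟩ := hy
    obtain ⟨e, he, hecoe⟩ := exists_isFIso_of_mem F (F.conj_mem hPS hs) rfl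
    have := hyp_transport F p he hα x
    rw [hecoe] at this
    exact this
  | one => rw [mul_one, mul_inv_cancel]; exact one_mem _
  | mul a b _ _ ha hb =>
    have : s * (a * b) * s⁻¹ = (s * a * s⁻¹) * (s * b * s⁻¹) := by group
    rw [this]; exact Subgroup.mul_mem _ ha hb
  | inv a _ ha =>
    have : s * a⁻¹ * s⁻¹ = (s * a * s⁻¹)⁻¹ := by group
    rw [this]; exact Subgroup.inv_mem _ ha

/-- the subsystem of maps preserving (in both directions) a subgroup normalized by `S`. -/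
def presSystem (F : FusionSystem S) (H : Subgroup Ω)
    (hN : S ≤ Subgroup.normalizer (H : Set Ω)) : FusionSystem S where
  Hom P := {φ | φ ∈ F.Hom P ∧ ∀ x : P, (x : Ω) ∈ H ↔ φ x ∈ H}
  le_of_mem h := F.le_of_mem h.1
  injective_of_mem h := F.injective_of_mem h.1
  conj_mem := by
    intro P g hP hg
    refine ⟨F.conj_mem hP hg, fun x => ?_⟩
    exact Subgroup.mem_normalizer_iff.mp (hN hg) x
  comp_mem := by
    intro P Q φ ψ hφ hψ h
    refine ⟨F.comp_mem hφ.1 hψ.1 h, fun x => ?_⟩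
    rw [hφ.2 x]
    exact hψ.2 ⟨φ x, h x⟩
  inv_mem := by
    intro P φ hφ
    obtain ⟨ψ, hψ, hψe⟩ := F.inv_mem hφ.1
    refine ⟨ψ, ⟨hψ, ?_⟩, hψe⟩
    rintro ⟨_, x, rfl⟩
    rw [hψe x]
    exact (hφ.2 x).symm

theorem presSystem_hom (F : FusionSystem S) (H : Subgroup Ω)
    (hN : S ≤ Subgroup.normalizer (H : Set Ω)) (P : Subgroup Ω) (φ : P →* Ω) :
    φ ∈ (presSystem F H hN).Hom P ↔ (φ ∈ F.Hom P ∧ ∀ x : P, (x : Ω) ∈ H ↔ φ x ∈ H) := Iff.rfl

theorem fullyAutomized_of_top_or_essential [Finite S] {p : ℕ} [Fact p.Prime] (hS : IsPGroup p S)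
    (F : FusionSystem S) (hF : F.IsSaturated p) {P : Subgroup Ω}
    (hP : P = S ∨ F.IsEssential p P) : F.IsFullyAutomized p P := by
  rcases hP with h | h
  · rw [h]; exact ((isSaturated_iff_RS hS F).mp hF).1
  · exact (fullyNormalized_imp hS F hF h.2.1).2

/-- every automorphism in `Aut_F(P)`, `P` fully automized, is `c_g ∘ k` with `g ∈ S` and
`k ∈ O^p(Aut_F(P))`. -/
theorem exists_conj_mul_pResidual [Finite S] {p : ℕ} [Fact p.Prime]
    (F : FusionSystem S) {P : Subgroup Ω} (hP : F.IsFullyAutomized p P) {α : MulAut P}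
    (hα : α ∈ F.autGroup P) :
    ∃ g ∈ S, ∃ k : F.autGroup P, k ∈ pResidual p (F.autGroup P) ∧
      ∀ x : P, ((α x : P) : Ω) = g * (((k : MulAut P) x : P) : Ω) * g⁻¹ := by
  have hPS : P ≤ S := hP.1
  obtain ⟨R, hR⟩ := hP.2
  haveI : Finite P := finite_of_le S hPS
  obtain ⟨s, hs, k, hk, hsk⟩ :=
    Cfsg.Agent.helper10.exists_mul_of_pResidual_sylow p R ⟨α, hα⟩
  have hs' : (s : MulAut P) ∈ autInducedBy S P := by
    have h1 : s ∈ (autInducedBy S P).subgroupOf (F.autGroup P) := hR ▸ hs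
    exact Subgroup.mem_subgroupOf.mp h1
  obtain ⟨g, hg, hgs⟩ := (mem_autInducedBy_iff S P _).mp hs'
  refine ⟨g, hg, k, hk, fun x => ?_⟩
  have h1 : α = (s : MulAut P) * (k : MulAut P) := congrArg Subtype.val hsk
  rw [h1]
  exact hgs _

theorem hyperfocal_stronglyClosed [Finite S] {p : ℕ} [Fact p.Prime] (hS : IsPGroup p S)
    (F : FusionSystem S) (hF : F.IsSaturated p) :
    F.StronglyClosed (F.hyperfocalSubgroup p) := by
  have hHS := hyperfocal_le F p
  have hN := hyperfocal_normal F p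
  have hE : ∀ P : Subgroup Ω, (P = S ∨ F.IsEssential p P) →
      F.autGroup P ≤ (presSystem F (F.hyperfocalSubgroup p) hN).autGroup P := by
    intro P hP α hα
    have hFA := fullyAutomized_of_top_or_essential hS F hF hP
    have hPS : P ≤ S := hFA.1
    obtain ⟨g, hg, k, hk, hgk⟩ := exists_conj_mul_pResidual F hFA hα
    apply Subgroup.subset_closure
    refine ⟨(mem_autGroup_iff F hPS α).mp hα, fun x => ?_⟩
    show (x : Ω) ∈ F.hyperfocalSubgroup p ↔ ((α x : P) : Ω) ∈ F.hyperfocalSubgroup p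
    rw [hgk x, ← Subgroup.mem_normalizer_iff.mp (hN hg)]
    have hk' := hyp_mem F p hPS hk x
    constructor
    · intro hx
      have := Subgroup.mul_mem _ hx hk'
      rwa [mul_inv_cancel_left] at this
    · intro hkx
      have := Subgroup.mul_mem _ hkx (Subgroup.inv_mem _ hk')
      rwa [mul_inv_rev, inv_inv, mul_inv_cancel_left] at this
  have hsub := alperin hS F hF (presSystem F (F.hyperfocalSubgroup p) hN) hE
  refine ⟨hHS, fun R hR φ hφ x => ?_⟩
  exact ((hsub R hφ).2 x).mp (hR x.2)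

end Cfsg.Agent.helper25
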