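import Mathlib
import Cfsg.Agent.Lib_helper15_AG1
import Cfsg.Agent.Lib_helper15_SylGraph
import Cfsg.Agent.Lib_helper15_CharP
import Cfsg.Agent.Lib_helper1_Core
import Cfsg.Agent.Lib_helper25_Hyperfocal

set_option autoImplicit false

namespace Cfsg.Agent.helper15

open Cfsg

/-! ### Invariance of the cores under isomorphisms -/

theorem pPrimeCore_map_equiv_le {A B : Type*} [Group A] [Group B] [Finite A] [Finite B] (p : ℕ)
    (e : A ≃* B) : (Cfsg.pPrimeCore p A).map e.toMonoidHom ≤ Cfsg.pPrimeCore p B := by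
  apply Cfsg.Agent.helper1.le_pPrimeCore
  · exact (Cfsg.Agent.helper1.pPrimeCore_normal p).map e.toMonoidHom e.surjective
  · rw [Subgroup.card_map_of_injective e.injective]
    exact Cfsg.Agent.helper1.pPrimeCore_coprime p

theorem pPrimeCore_map_equiv {A B : Type*} [Group A] [Group B] [Finite A] [Finite B] (p : ℕ)
    (e : A ≃* B) : (Cfsg.pPrimeCore p A).map e.toMonoidHom = Cfsg.pPrimeCore p B := by
  apply le_antisymm (pPrimeCore_map_equiv_le p e)
  intro x hx
  have : e.symm x ∈ Cfsg.pPrimeCore p A := by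
    apply pPrimeCore_map_equiv_le p e.symm
    exact ⟨x, hx, rfl⟩
  exact ⟨e.symm x, this, by simp⟩

theorem pPrimePCore_map_equiv_le {A B : Type*} [Group A] [Group B] [Finite A] [Finite B] (p : ℕ)
    (e : A ≃* B) : (Cfsg.pPrimePCore p A).map e.toMonoidHom ≤ Cfsg.pPrimePCore p B := by
  haveI : (Cfsg.pPrimeCore p A).Normal := Cfsg.Agent.helper1.pPrimeCore_normal p
  haveI : (Cfsg.pPrimeCore p B).Normal := Cfsg.Agent.helper1.pPrimeCore_normal p
  rintro _ ⟨a, ha, rfl⟩
  have ha' : QuotientGroup.mk' (Cfsg.pPrimeCore p A) a ∈ Cfsg.pCore p (A ⧸ Cfsg.pPrimeCore p A) := ha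
  show QuotientGroup.mk' (Cfsg.pPrimeCore p B) (e a) ∈ Cfsg.pCore p (B ⧸ Cfsg.pPrimeCore p B)
  have hq := pCore_map_equiv p
    (QuotientGroup.congr (Cfsg.pPrimeCore p A) (Cfsg.pPrimeCore p B) e (pPrimeCore_map_equiv p e))
  rw [← hq]
  exact ⟨_, ha', rfl⟩

theorem pPrimePCore_map_equiv {A B : Type*} [Group A] [Group B] [Finite A] [Finite B] (p : ℕ)
    (e : A ≃* B) : (Cfsg.pPrimePCore p A).map e.toMonoidHom = Cfsg.pPrimePCore p B := by
  apply le_antisymm (pPrimePCore_map_equiv_le p e)
  intro x hx
  have : e.symm x ∈ Cfsg.pPrimePCore p A := by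
    apply pPrimePCore_map_equiv_le p e.symm
    exact ⟨x, hx, rfl⟩
  exact ⟨e.symm x, this, by simp⟩

/-! ### Invariance of Sylow chain connectivity -/

/-- Pull a Sylow subgroup back along an isomorphism. -/
noncomputable def sylowComapEquiv {A B : Type*} [Group A] [Group B] {p : ℕ} (e : B ≃* A)
    (S : Sylow p A) : Sylow p B :=
  S.comapOfInjective e.toMonoidHom e.injective (by intro x _; exact ⟨e.symm x, by simp⟩)

theorem coe_sylowComapEquiv {A B : Type*} [Group A] [Group B] {p : ℕ} (e : B ≃* A)
    (S : Sylow p A) :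
    ((sylowComapEquiv e S : Sylow p B) : Subgroup B) = (S : Subgroup A).comap e.toMonoidHom :=
  Sylow.coe_comapOfInjective _ _ _ _

theorem sylConn_comapEquiv {A B : Type*} [Group A] [Group B] {p : ℕ} (e : B ≃* A)
    {S T : Sylow p A} (h : SylConn S T) : SylConn (sylowComapEquiv e S) (sylowComapEquiv e T) := by
  refine Relation.ReflTransGen.lift (r := SylAdj) (p := SylAdj) (sylowComapEquiv e) ?_ S T h
  rintro a b ⟨hne, hmeet⟩
  refine ⟨?_, ?_⟩
  · intro heq
    apply hne
    apply Sylow.ext
    have h1 := congrArg (fun Q : Sylow p B => (Q : Subgroup B)) heq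
    simp only [coe_sylowComapEquiv] at h1
    exact Subgroup.comap_injective e.surjective h1
  · intro hbot
    apply hmeet
    rw [eq_bot_iff]
    intro x hx
    have hx' : e.symm x ∈ ((sylowComapEquiv e a : Sylow p B) : Subgroup B) ⊓
        ((sylowComapEquiv e b : Sylow p B) : Subgroup B) := by
      rw [coe_sylowComapEquiv, coe_sylowComapEquiv]
      refine Subgroup.mem_inf.2 ⟨?_, ?_⟩
      · rw [Subgroup.mem_comap]
        simpa using (Subgroup.mem_inf.1 hx).1
      · rw [Subgroup.mem_comap]
        simpa using (Subgroup.mem_inf.1 hx).2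
    rw [hbot, Subgroup.mem_bot] at hx'
    rw [Subgroup.mem_bot]
    have := congrArg e hx'
    simpa using this

theorem isSylowChainConnected_of_equiv {A B : Type*} [Group A] [Group B] (p : ℕ) (e : A ≃* B)
    (h : Cfsg.IsSylowChainConnected p A) : Cfsg.IsSylowChainConnected p B := by
  rw [isSylowChainConnected_iff] at h ⊢
  intro S T
  have hS : sylowComapEquiv e.symm (sylowComapEquiv e S) = S := by
    apply Sylow.ext
    rw [coe_sylowComapEquiv, coe_sylowComapEquiv, Subgroup.comap_comap]
    ext x
    simp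
  have hT : sylowComapEquiv e.symm (sylowComapEquiv e T) = T := by
    apply Sylow.ext
    rw [coe_sylowComapEquiv, coe_sylowComapEquiv, Subgroup.comap_comap]
    ext x
    simp
  have := sylConn_comapEquiv e.symm (h (sylowComapEquiv e S) (sylowComapEquiv e T))
  rwa [hS, hT] at this

/-! ### Transport of the good conditions along an automorphism fixing `P` -/

theorem centralizer_map_equiv {G G' : Type*} [Group G] [Group G'] (φ : G ≃* G')
    (H : Subgroup G) :
    Subgroup.centralizer ((H.map φ.toMonoidHom : Subgroup G') : Set G') =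
      (Subgroup.centralizer (H : Set G)).map φ.toMonoidHom := by
  ext z
  constructor
  · intro hz
    refine Subgroup.mem_map.2 ⟨φ.symm z, ?_, by simp⟩
    rw [Subgroup.mem_centralizer_iff]
    intro h hh
    apply φ.injective
    have := Subgroup.mem_centralizer_iff.1 hz (φ h) ⟨h, hh, rfl⟩
    simpa using this
  · rintro ⟨c, hc, rfl⟩
    rw [Subgroup.mem_centralizer_iff]
    rintro _ ⟨h, hh, rfl⟩
    have := Subgroup.mem_centralizer_iff.1 hc h hh
    show φ h * φ c = φ c * φ h
    rw [← map_mul, ← map_mul, this]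

/-- The isomorphism between the normalizers of `H` and of its image. -/
noncomputable def normalizerEquiv {G : Type*} [Group G] (φ : G ≃* G) (H : Subgroup G) :
    ↥(Subgroup.normalizer (H : Set G)) ≃*
      ↥(Subgroup.normalizer ((H.map φ.toMonoidHom : Subgroup G) : Set G)) :=
  (φ.subgroupMap (Subgroup.normalizer (H : Set G))).trans
    (MulEquiv.subgroupCongr (Subgroup.map_equiv_normalizer_eq H φ))

theorem coe_normalizerEquiv {G : Type*} [Group G] (φ : G ≃* G) (H : Subgroup G)
    (n : ↥(Subgroup.normalizer (H : Set G))) : ((normalizerEquiv φ H n : _) : G) = φ n := rfl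

theorem subgroupOf_map_normalizerEquiv {G : Type*} [Group G] (φ : G ≃* G) (H K : Subgroup G) :
    (K.map φ.toMonoidHom).subgroupOf
        (Subgroup.normalizer ((H.map φ.toMonoidHom : Subgroup G) : Set G)) =
      (K.subgroupOf (Subgroup.normalizer (H : Set G))).map (normalizerEquiv φ H).toMonoidHom := by
  ext z
  rw [Subgroup.mem_subgroupOf, Subgroup.mem_map, Subgroup.mem_map]
  constructor
  · rintro ⟨k, hk, hkz⟩
    refine ⟨(normalizerEquiv φ H).symm z, ?_, (normalizerEquiv φ H).apply_symm_apply z⟩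
    rw [Subgroup.mem_subgroupOf]
    have h1 : φ (((normalizerEquiv φ H).symm z : _) : G) = (z : G) := by
      rw [← coe_normalizerEquiv, MulEquiv.apply_symm_apply]
    have h2 : (((normalizerEquiv φ H).symm z : _) : G) = k := by
      apply φ.injective
      rw [h1]; exact hkz.symm
    rw [h2]; exact hk
  · rintro ⟨n, hn, rfl⟩
    rw [Subgroup.mem_subgroupOf] at hn
    exact ⟨(n : G), hn, rfl⟩

theorem goodH_map {G : Type*} [Group G] [Finite G] {p : ℕ} [Fact p.Prime] (P H X : Subgroup G)
    (φ : G ≃* G) (hP : P.map φ.toMonoidHom = P) (h : GoodH p P H X) :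
    GoodH p P (H.map φ.toMonoidHom) (X.map φ.toMonoidHom) := by
  obtain ⟨h1, h2, h3, h4, h5, h6, h7, h8, h9, h10⟩ := h
  have hN := Subgroup.map_equiv_normalizer_eq H φ
  have hinj : Function.Injective φ.toMonoidHom := φ.injective
  refine ⟨?_, ?_, ?_, ?_, ?_, ?_, ?_, ?_, ?_, ?_⟩
  · rw [← hP]; exact Subgroup.map_mono h1
  · have e1 : P ⊓ Subgroup.normalizer ((H.map φ.toMonoidHom : Subgroup G) : Set G) =
        (P ⊓ Subgroup.normalizer (H : Set G)).map φ.toMonoidHom := by
      rw [Subgroup.map_inf _ _ _ hinj, hP, hN]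
    rw [e1, ← hN, Subgroup.relIndex_map_map_of_injective _ _ hinj]
    exact h2
  · rw [centralizer_map_equiv]
    have e1 : P ⊓ (Subgroup.centralizer (H : Set G)).map φ.toMonoidHom =
        (P ⊓ Subgroup.centralizer (H : Set G)).map φ.toMonoidHom := by
      rw [Subgroup.map_inf _ _ _ hinj, hP]
    rw [e1]
    exact Subgroup.map_mono h3
  · rw [centralizer_map_equiv, ← Subgroup.map_sup, ← h4,
      ← pPrimePCore_map_equiv p (normalizerEquiv φ H), Subgroup.map_map, Subgroup.map_map]
    rfl
  · intro hconn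
    apply h5
    have hmap : (H.subgroupOf (Subgroup.normalizer (H : Set G))).map
        ((normalizerEquiv φ H : _ ≃* _) : _ →* _) =
        (H.map φ.toMonoidHom).subgroupOf
          (Subgroup.normalizer ((H.map φ.toMonoidHom : Subgroup G) : Set G)) :=
      (subgroupOf_map_normalizerEquiv φ H H).symm
    exact isSylowChainConnected_of_equiv p
      (QuotientGroup.congr _ _ (normalizerEquiv φ H) hmap).symm hconn
  · exact Subgroup.map_mono h6
  · rw [← hN]; exact Subgroup.map_mono h7
  · rw [subgroupOf_map_normalizerEquiv]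
    exact h8.map _ (normalizerEquiv φ H).surjective
  · rw [Subgroup.relIndex_map_map_of_injective _ _ hinj]
    exact h9
  · intro Y' hHY hYN hYn hpY
    set Y : Subgroup G := Y'.map φ.symm.toMonoidHom with hY
    have hYY' : Y.map φ.toMonoidHom = Y' := by
      rw [hY, Subgroup.map_map]
      have : φ.toMonoidHom.comp φ.symm.toMonoidHom = MonoidHom.id G := by
        ext x; simp
      rw [this, Subgroup.map_id]
    have hback : ∀ K : Subgroup G, (K.map φ.toMonoidHom).map φ.symm.toMonoidHom = K := by
      intro K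
      rw [Subgroup.map_map]
      have : φ.symm.toMonoidHom.comp φ.toMonoidHom = MonoidHom.id G := by
        ext x; simp
      rw [this, Subgroup.map_id]
    have hHY0 : H ≤ Y := by
      have := Subgroup.map_mono (f := φ.symm.toMonoidHom) hHY
      rwa [hback] at this
    have hYN0 : Y ≤ Subgroup.normalizer (H : Set G) := by
      have := Subgroup.map_mono (f := φ.symm.toMonoidHom) hYN
      rwa [← hN, hback] at this
    have hYn0 : (Y.subgroupOf (Subgroup.normalizer (H : Set G))).Normal := by
      have e1 := subgroupOf_map_normalizerEquiv φ H Y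
      rw [hYY'] at e1
      rw [e1] at hYn
      have := hYn.comap (normalizerEquiv φ H).toMonoidHom
      rwa [Subgroup.comap_map_eq_self_of_injective (normalizerEquiv φ H).injective] at this
    have hpY0 : p ∣ H.relIndex Y := by
      rw [← Subgroup.relIndex_map_map_of_injective _ _ hinj, hYY']
      exact hpY
    have := h10 Y hHY0 hYN0 hYn0 hpY0
    rw [← hYY']
    exact Subgroup.map_mono this

theorem mem_pResidual_map {G : Type*} [Group G] {p : ℕ} (X : Subgroup G) (φ : G ≃* G) (x : G)
    (hx : x ∈ (Cfsg.pResidual p ↥X).map X.subtype) :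
    φ x ∈ (Cfsg.pResidual p ↥(X.map φ.toMonoidHom)).map (X.map φ.toMonoidHom).subtype := by
  obtain ⟨x₀, hx₀, rfl⟩ := hx
  have h1 := Cfsg.Agent.helper25.pResidual_map_le p (φ.subgroupMap X).toMonoidHom
    (Subgroup.mem_map_of_mem _ hx₀)
  exact ⟨_, h1, rfl⟩

end Cfsg.Agent.helper15
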