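import Mathlib
import Cfsg.Agent.Lib_helper15_AG2

set_option autoImplicit false

namespace Cfsg.Agent.helper15

open Cfsg

theorem goodH_conj {G : Type*} [Group G] [Finite G] {p : ℕ} [Fact p.Prime] (P H X : Subgroup G)
    (y : G) (hy : y ∈ Subgroup.normalizer (P : Set G)) (h : GoodH p P H X) :
    GoodH p P (Cfsg.subgroupConjRight y H) (Cfsg.subgroupConjRight y X) :=
  goodH_map P H X (MulAut.conj y⁻¹) (subgroupConjRight_of_mem_normalizer y P hy) h

theorem mem_pResidual_conj {G : Type*} [Group G] {p : ℕ} (X : Subgroup G) (y x : G)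
    (hx : x ∈ (Cfsg.pResidual p ↥X).map X.subtype) :
    y⁻¹ * x * y ∈ (Cfsg.pResidual p ↥(Cfsg.subgroupConjRight y X)).map
      (Cfsg.subgroupConjRight y X).subtype := by
  have := mem_pResidual_map X (MulAut.conj y⁻¹) x hx
  rw [MulAut.conj_apply, inv_inv] at this
  exact this

theorem AGPath.conj {G : Type*} [Group G] [Finite G] {p : ℕ} [Fact p.Prime] {P Q : Subgroup G}
    {w : G} (y : G) (hy : y ∈ Subgroup.normalizer (P : Set G)) (h : AGPath p P Q w) :
    AGPath p P (Cfsg.subgroupConjRight y Q) (y⁻¹ * w * y) := by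
  induction h with
  | nil Q =>
    rw [mul_one, inv_mul_cancel]
    exact AGPath.nil _
  | cons Q H X x w hG hx hQH _ ih =>
    have e : y⁻¹ * (x * w) * y = (y⁻¹ * x * y) * (y⁻¹ * w * y) := by group
    rw [e]
    apply AGPath.cons _ (Cfsg.subgroupConjRight y H) (Cfsg.subgroupConjRight y X) _ _
      (goodH_conj P H X y hy hG) (mem_pResidual_conj X y x hx) (subgroupConjRight_mono y hQH)
    have e2 : Cfsg.subgroupConjRight (y⁻¹ * x * y) (Cfsg.subgroupConjRight y Q) =
        Cfsg.subgroupConjRight y (Cfsg.subgroupConjRight x Q) := by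
      rw [subgroupConjRight_mul, subgroupConjRight_mul]
      congr 1
      group
    rw [e2]
    exact ih

/-- Decomposable elements. -/
def Dec {G : Type*} [Group G] (p : ℕ) (P Q : Subgroup G) (g : G) : Prop :=
  ∃ c ∈ Subgroup.centralizer (Q : Set G), ∃ w : G, AGPath p P Q w ∧
    ∃ y ∈ Subgroup.normalizer (P : Set G), g = c * w * y

theorem subgroupConjRight_of_mem_centralizer {G : Type*} [Group G] (c : G) (Q : Subgroup G)
    (hc : c ∈ Subgroup.centralizer (Q : Set G)) : Cfsg.subgroupConjRight c Q = Q :=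
  subgroupConjRight_of_mem_normalizer c Q (Subgroup.centralizer_le_normalizer (Q : Set G) hc)

theorem mem_centralizer_of_conj {G : Type*} [Group G] (g c : G) (Q : Subgroup G)
    (hc : c ∈ Subgroup.centralizer ((Cfsg.subgroupConjRight g Q : Subgroup G) : Set G)) :
    g * c * g⁻¹ ∈ Subgroup.centralizer (Q : Set G) := by
  rw [Subgroup.mem_centralizer_iff]
  intro q hq
  have hq' : g⁻¹ * q * g ∈ Cfsg.subgroupConjRight g Q := by
    rw [mem_subgroupConjRight]
    have : g * (g⁻¹ * q * g) * g⁻¹ = q := by group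
    rw [this]; exact hq
  have h1 := Subgroup.mem_centralizer_iff.1 hc _ hq'
  calc q * (g * c * g⁻¹) = g * ((g⁻¹ * q * g) * c) * g⁻¹ := by group
    _ = g * (c * (g⁻¹ * q * g)) * g⁻¹ := by rw [h1]
    _ = g * c * g⁻¹ * q := by group

theorem Dec.mono {G : Type*} [Group G] {p : ℕ} {P Q Q' : Subgroup G} {g : G}
    (h : Dec p P Q g) (hle : Q' ≤ Q) : Dec p P Q' g := by
  obtain ⟨c, hc, w, hw, y, hy, rfl⟩ := h
  exact ⟨c, Subgroup.centralizer_le hle hc, w, hw.mono _ hle, y, hy, rfl⟩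

theorem Dec.comp {G : Type*} [Group G] [Finite G] {p : ℕ} [Fact p.Prime] {P Q : Subgroup G}
    {g h : G} (hg : Dec p P Q g) (hh : Dec p P (Cfsg.subgroupConjRight g Q) h) :
    Dec p P Q (g * h) := by
  obtain ⟨c, hc, w, hw, y, hy, rfl⟩ := hg
  obtain ⟨c', hc', w', hw', y', hy', rfl⟩ := hh
  have hQc : Cfsg.subgroupConjRight c Q = Q := subgroupConjRight_of_mem_centralizer c Q hc
  have hQg : Cfsg.subgroupConjRight (c * w * y) Q =
      Cfsg.subgroupConjRight y (Cfsg.subgroupConjRight w Q) := by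
    rw [← subgroupConjRight_mul, ← subgroupConjRight_mul, hQc]
  have hw'' : AGPath p P (Cfsg.subgroupConjRight w Q) (y * w' * y⁻¹) := by
    have := hw'.conj y⁻¹ (Subgroup.inv_mem _ hy)
    rw [hQg, subgroupConjRight_cancel_inv, inv_inv] at this
    exact this
  have hc'' := mem_centralizer_of_conj (c * w * y) c' Q hc'
  refine ⟨(c * w * y) * c' * (c * w * y)⁻¹ * c, Subgroup.mul_mem _ hc'' hc, w * (y * w' * y⁻¹),
    hw.append _ hw'', y * y', Subgroup.mul_mem _ hy hy', ?_⟩
  group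

theorem Dec.inv {G : Type*} [Group G] [Finite G] {p : ℕ} [Fact p.Prime] {P Q : Subgroup G}
    {g : G} (hg : Dec p P Q g) : Dec p P (Cfsg.subgroupConjRight g Q) g⁻¹ := by
  obtain ⟨c, hc, w, hw, y, hy, rfl⟩ := hg
  have hQc : Cfsg.subgroupConjRight c Q = Q := subgroupConjRight_of_mem_centralizer c Q hc
  have hQg : Cfsg.subgroupConjRight (c * w * y) Q =
      Cfsg.subgroupConjRight y (Cfsg.subgroupConjRight w Q) := by
    rw [← subgroupConjRight_mul, ← subgroupConjRight_mul, hQc]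
  have hrev : AGPath p P (Cfsg.subgroupConjRight (c * w * y) Q) (y⁻¹ * w⁻¹ * y) := by
    rw [hQg]
    exact hw.rev.conj y hy
  -- the centralizing element
  have hc' : (c * w * y)⁻¹ * c⁻¹ * (c * w * y) ∈
      Subgroup.centralizer ((Cfsg.subgroupConjRight (c * w * y) Q : Subgroup G) : Set G) := by
    rw [Subgroup.mem_centralizer_iff]
    intro q hq
    have hq2 : q ∈ Cfsg.subgroupConjRight (c * w * y) Q := hq
    rw [mem_subgroupConjRight] at hq2
    have h1 := Subgroup.mem_centralizer_iff.1 (Subgroup.inv_mem _ hc) _ hq2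
    calc q * ((c * w * y)⁻¹ * c⁻¹ * (c * w * y))
        = (c * w * y)⁻¹ * ((c * w * y) * q * (c * w * y)⁻¹ * c⁻¹) * (c * w * y) := by group
      _ = (c * w * y)⁻¹ * (c⁻¹ * ((c * w * y) * q * (c * w * y)⁻¹)) * (c * w * y) := by rw [h1]
      _ = (c * w * y)⁻¹ * c⁻¹ * (c * w * y) * q := by group
  refine ⟨_, hc', y⁻¹ * w⁻¹ * y, hrev, y⁻¹, Subgroup.inv_mem _ hy, ?_⟩
  group

theorem Dec.of_centralizer {G : Type*} [Group G] {p : ℕ} {P Q : Subgroup G} {c : G}
    (hc : c ∈ Subgroup.centralizer (Q : Set G)) : Dec p P Q c :=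
  ⟨c, hc, 1, AGPath.nil Q, 1, Subgroup.one_mem _, by group⟩

theorem Dec.of_normalizer {G : Type*} [Group G] {p : ℕ} {P Q : Subgroup G} {y : G}
    (hy : y ∈ Subgroup.normalizer (P : Set G)) : Dec p P Q y :=
  ⟨1, Subgroup.one_mem _, 1, AGPath.nil Q, y, hy, by group⟩

theorem Dec.single {G : Type*} [Group G] {p : ℕ} {P Q H X : Subgroup G} {x : G}
    (hG : GoodH p P H X) (hx : x ∈ (Cfsg.pResidual p ↥X).map X.subtype) (hQH : Q ≤ H) :
    Dec p P Q x := by
  refine ⟨1, Subgroup.one_mem _, x * 1, AGPath.cons Q H X x 1 hG hx hQH (AGPath.nil _), 1,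
    Subgroup.one_mem _, by group⟩

end Cfsg.Agent.helper15
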