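import Mathlib
import Cfsg.Prelude.Def_SylowChains
import Cfsg.Agent.Lib_helper15_FunReg
import Cfsg.Agent.Lib_helper15_ExtClosed

set_option autoImplicit false

namespace Cfsg.Agent.helper15

open Cfsg

/-- One step of a controlled chain of Sylow subgroups of `G`. -/
def StepS {G : Type*} [Group G] (p : ℕ) (𝓕 : Set (Subgroup G)) (D : Subgroup G)
    (A B : Sylow p G) : Prop :=
  ∃ (X : Subgroup G) (x : G), X ∈ Cfsg.sylowMembers p 𝓕 (A : Subgroup G) ∧
    X ∈ Cfsg.sylowMembers p 𝓕 (B : Subgroup G) ∧ x ∈ X ∧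
    Cfsg.subgroupConjRight x (B : Subgroup G) = (A : Subgroup G) ∧ D ≤ (B : Subgroup G) ⊓ X

/-- Controlled connection of Sylow subgroups. -/
def ConnS {G : Type*} [Group G] (p : ℕ) (𝓕 : Set (Subgroup G)) (D : Subgroup G) :
    Sylow p G → Sylow p G → Prop :=
  Relation.ReflTransGen (StepS p 𝓕 D)

theorem controls_of_connS {G : Type*} [Group G] (p : ℕ) (𝓕 : Set (Subgroup G))
    (h : ∀ S T : Sylow p G, S ≠ T → (S : Subgroup G) ⊓ (T : Subgroup G) ≠ ⊥ →
      ConnS p 𝓕 ((S : Subgroup G) ⊓ (T : Subgroup G)) S T) :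
    Cfsg.ControlsSylowIntersections p 𝓕 := by
  intro S T hne hmeet
  obtain ⟨n, c, h0, hlast, hstep⟩ := fin_chain_of_rtg _ (h S T hne hmeet)
  choose X x hXx using hstep
  exact ⟨n, c, X, x, h0, hlast, hXx⟩

theorem connS_mono_D {G : Type*} [Group G] (p : ℕ) (𝓕 : Set (Subgroup G)) {D D' : Subgroup G}
    {A B : Sylow p G} (hD : D ≤ D') (h : ConnS p 𝓕 D' A B) : ConnS p 𝓕 D A B := by
  refine Relation.ReflTransGen.mono (r := StepS p 𝓕 D') (p := StepS p 𝓕 D) ?_ A B h
  rintro a b ⟨X, x, h1, h2, h3, h4, h5⟩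
  exact ⟨X, x, h1, h2, h3, h4, hD.trans h5⟩

/-- `R^x` as a Sylow subgroup. -/
def conjS {G : Type*} [Group G] {p : ℕ} (x : G) (R : Sylow p G) : Sylow p G := x⁻¹ • R

theorem coe_conjS {G : Type*} [Group G] {p : ℕ} (x : G) (R : Sylow p G) :
    ((conjS x R : Sylow p G) : Subgroup G) = Cfsg.subgroupConjRight x (R : Subgroup G) := by
  unfold conjS
  rw [coe_smul_sylow, inv_inv]

theorem connS_single {G : Type*} [Group G] [Finite G] {p : ℕ} [Fact p.Prime]
    (𝓕 : Set (Subgroup G)) (D X : Subgroup G) (hX : X ∈ 𝓕) (x : G) (hx : x ∈ X)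
    (R : Sylow p G)
    (hcard : Nat.card ↥((R : Subgroup G) ⊓ X) = p ^ (Nat.card X).factorization p)
    (hD : D ≤ (conjS x R : Sylow p G)) (hDX : D ≤ X) : ConnS p 𝓕 D R (conjS x R) := by
  apply Relation.ReflTransGen.single
  refine ⟨X, x⁻¹, ⟨hX, (sylowMember_iff _ _).2 hcard⟩, ⟨hX, (sylowMember_iff _ _).2 ?_⟩,
    X.inv_mem hx, ?_, le_inf hD hDX⟩
  · rw [coe_conjS]
    have : Cfsg.subgroupConjRight x (R : Subgroup G) ⊓ X =
        Cfsg.subgroupConjRight x ((R : Subgroup G) ⊓ X) := by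
      rw [subgroupConjRight_inf, subgroupConjRight_of_mem x X hx]
    rw [this, card_subgroupConjRight]
    exact hcard
  · rw [coe_conjS, subgroupConjRight_cancel_inv]

theorem exists_sylow_extend {G : Type*} [Group G] [Finite G] {p : ℕ} [Fact p.Prime]
    (M Q : Subgroup G) (hQ : IsPGroup p ↥Q) (hQM : Q ≤ M) :
    ∃ R : Sylow p G, Q ≤ (R : Subgroup G) ∧ SylIn p M ((R : Subgroup G) ⊓ M) := by
  have hQ' : IsPGroup p (Q.subgroupOf M) :=
    hQ.of_equiv (Subgroup.subgroupOfEquivOfLe hQM).symm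
  obtain ⟨P, hP⟩ := hQ'.exists_le_sylow
  have hPm : IsPGroup p ↥((P : Subgroup ↥M).map M.subtype) := P.isPGroup'.map M.subtype
  obtain ⟨R, hR⟩ := hPm.exists_le_sylow
  refine ⟨R, ?_, inf_le_right, ?_⟩
  · intro q hq
    apply hR
    exact ⟨⟨q, hQM hq⟩, hP (Subgroup.mem_subgroupOf.2 hq), rfl⟩
  · have hle : (P : Subgroup ↥M).map M.subtype ≤ (R : Subgroup G) ⊓ M :=
      le_inf hR (Subgroup.map_subtype_le _)
    have hpg : IsPGroup p ↥((R : Subgroup G) ⊓ M) := R.isPGroup'.to_le inf_le_left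
    obtain ⟨j, hj⟩ := IsPGroup.iff_card.1 hpg
    have hcP : Nat.card ↥((P : Subgroup ↥M).map M.subtype) = p ^ (Nat.card ↥M).factorization p := by
      rw [Subgroup.card_map_of_injective M.subtype_injective]
      exact P.card_eq_multiplicity
    have h1 : p ^ j ∣ Nat.card ↥M := by
      rw [← hj]; exact Subgroup.card_dvd_of_le inf_le_right
    have h1' := (Nat.Prime.pow_dvd_iff_le_factorization (Fact.out) Nat.card_pos.ne').1 h1
    have h2 : p ^ (Nat.card ↥M).factorization p ∣ p ^ j := by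
      rw [← hj, ← hcP]; exact Subgroup.card_dvd_of_le hle
    have h2' := (Nat.pow_dvd_pow_iff_le_right (Fact.out : p.Prime).one_lt).1 h2
    rw [hj, le_antisymm h1' h2']

theorem sylIn_exists_conj {G : Type*} [Group G] [Finite G] {p : ℕ} [Fact p.Prime]
    (M P P' : Subgroup G) (hP : SylIn p M P) (hP' : SylIn p M P') :
    ∃ x ∈ M, P' = Cfsg.subgroupConjRight x P := by
  obtain ⟨A, hA⟩ := exists_sylow_of_sylIn M P hP
  obtain ⟨A', hA'⟩ := exists_sylow_of_sylIn M P' hP'
  obtain ⟨m, hm⟩ := MulAction.exists_smul_eq ↥M A A'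
  refine ⟨((m⁻¹ : ↥M) : G), (m⁻¹).2, ?_⟩
  have h1 := coe_smul_sylow m A
  rw [hm] at h1
  rw [← hA', h1, map_subtype_subgroupConjRight, hA]

theorem card_lt_inf_normalizer {G : Type*} [Group G] [Finite G] {p : ℕ} [Fact p.Prime]
    (D S : Subgroup G) (hS : IsPGroup p ↥S) (hDS : D ≤ S) (hne : D ≠ S) :
    Nat.card ↥D < Nat.card ↥(S ⊓ Subgroup.normalizer (D : Set G)) := by
  by_contra hcon
  push Not at hcon
  have hle : D ≤ S ⊓ Subgroup.normalizer (D : Set G) := le_inf hDS Subgroup.le_normalizer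
  have heq := Subgroup.eq_of_le_of_card_ge hle hcon
  exact hne (eq_of_inf_normalizer_eq D S hS hDS heq.symm)

theorem exists_maximalPLocal_ge {G : Type*} [Group G] [Finite G] (p : ℕ) (L : Subgroup G)
    (hL : Cfsg.IsPLocal p L) : ∃ M, L ≤ M ∧ Cfsg.IsMaximalPLocal p M := by
  obtain ⟨M, hLM, hmax⟩ := Finite.exists_le_maximal (p := Cfsg.IsPLocal p) hL
  exact ⟨M, hLM, hmax.1, fun N hN hMN => le_antisymm (hmax.2 hN hMN) hMN⟩

theorem functor_mem_conj {G : Type*} [Group G] {p : ℕ} (f : Subgroup G → Set (Subgroup G))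
    (hf : Cfsg.IsNormalizerFunctor p f) (P : Subgroup G) (hP : IsPGroup p ↥P) (F : Subgroup G)
    (hF : F ∈ f P) (z : G) (hz : z ∈ Subgroup.normalizer (F : Set G)) :
    F ∈ f (Cfsg.subgroupConjRight z P) := by
  have h := (hf P hP).2 z⁻¹
  show F ∈ f (P.map (MulAut.conj z⁻¹).toMonoidHom)
  rw [h]
  refine ⟨F, hF, ?_⟩
  exact subgroupConjRight_of_mem_normalizer z F hz

theorem funreg_step {G : Type*} [Group G] [Finite G] {p : ℕ} [Fact p.Prime]
    (f : Subgroup G → Set (Subgroup G)) (hf : Cfsg.IsNormalizerFunctor p f)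
    (hf1 : ∀ P : Subgroup G, IsPGroup p ↥P → P ≠ ⊥ → ∀ F ∈ f P, F ≠ ⊥)
    (𝓕all : Set (Subgroup G)) (h𝓕 : Cfsg.functorFamily p f ⊤ ⊆ 𝓕all)
    (D : Subgroup G)
    (IHD : ∀ (A B : Sylow p G) (E : Subgroup G), E ≤ (A : Subgroup G) → E ≤ (B : Subgroup G) →
      D ≤ E → Nat.card ↥D < Nat.card ↥E → ConnS p 𝓕all D A B)
    (M : Subgroup G) (R : Sylow p G) (hP : SylIn p M ((R : Subgroup G) ⊓ M))
    (F : Subgroup G) (hF : F ∈ f ((R : Subgroup G) ⊓ M)) (x : G) (hxM : x ∈ M)
    (hxF : x ∈ Subgroup.normalizer (F : Set G))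
    (hD1 : D ≤ (R : Subgroup G) ⊓ M) (hD2 : D ≤ ((conjS x R : Sylow p G) : Subgroup G))
    (hcard : Nat.card ↥D < Nat.card ↥((R : Subgroup G) ⊓ M))
    (H : ∀ (M' : Subgroup G) (R' : Sylow p G) (x' : G), Cfsg.IsMaximalPLocal p M' → x' ∈ M' →
      SylIn p M' ((R' : Subgroup G) ⊓ M') →
      Nat.card ↥((R : Subgroup G) ⊓ M) < Nat.card ↥((R' : Subgroup G) ⊓ M') →
      D ≤ (R' : Subgroup G) ⊓ M' → D ≤ ((conjS x' R' : Sylow p G) : Subgroup G) →
      ConnS p 𝓕all D R' (conjS x' R')) :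
    ConnS p 𝓕all D R (conjS x R) := by
  set P : Subgroup G := (R : Subgroup G) ⊓ M with hPdef
  have hPp : IsPGroup p ↥P := R.isPGroup'.to_le inf_le_left
  have hPne : P ≠ ⊥ := by
    intro h
    rw [h, Subgroup.card_bot] at hcard
    have := Nat.card_pos (α := ↥D)
    omega
  obtain ⟨hFP, hNPF⟩ := (hf P hPp).1 F hF
  have hPNF : P ≤ Subgroup.normalizer (F : Set G) := Subgroup.le_normalizer.trans hNPF
  by_cases hRM : (R : Subgroup G) ≤ M
  · have hPR : P = (R : Subgroup G) := inf_eq_left.2 hRM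
    have hX : (⊤ : Subgroup G) ⊓ Subgroup.normalizer (F : Set G) ∈ Cfsg.functorFamily p f ⊤ := by
      rw [mem_functorFamily_iff]
      refine ⟨(R : Subgroup G), ⟨le_top, ?_⟩, F, ?_, rfl⟩
      · rw [Subgroup.card_top]; exact R.card_eq_multiplicity
      · have := hF
        rw [hPR] at this
        exact this
    have hRX : (R : Subgroup G) ≤ ⊤ ⊓ Subgroup.normalizer (F : Set G) := by
      refine le_inf le_top ?_
      have := hPNF
      rw [hPR] at this
      exact this
    apply connS_single 𝓕all D _ (h𝓕 hX) x (Subgroup.mem_inf.2 ⟨Subgroup.mem_top x, hxF⟩) R ?_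
      hD2 ?_
    · rw [inf_eq_left.2 hRX, (functorFamily_facts f hf ⊤ _ hX).2, Subgroup.card_top]
      exact R.card_eq_multiplicity
    · exact (hD1.trans inf_le_left).trans hRX
  · have hPltR : P ≠ (R : Subgroup G) := by
      intro h
      apply hRM
      have h2 : P ≤ M := inf_le_right
      rw [h] at h2
      exact h2
    have hcardN := card_lt_inf_normalizer P (R : Subgroup G) R.isPGroup' inf_le_left hPltR
    have hFne : F ≠ ⊥ := hf1 P hPp hPne F hF
    have hL : Cfsg.IsPLocal p (Subgroup.normalizer (F : Set G)) := ⟨F, hPp.to_le hFP, hFne, rfl⟩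
    obtain ⟨M', hLM', hM'⟩ := exists_maximalPLocal_ge p _ hL
    set E : Subgroup G := (R : Subgroup G) ⊓ M' with hEdef
    have hNE : (R : Subgroup G) ⊓ Subgroup.normalizer (P : Set G) ≤ E :=
      inf_le_inf_left _ (hNPF.trans hLM')
    have hPE : P ≤ E := (le_inf inf_le_left Subgroup.le_normalizer).trans hNE
    have hcardE : Nat.card ↥P < Nat.card ↥E :=
      lt_of_lt_of_le hcardN (Subgroup.card_le_of_le hNE)
    obtain ⟨R', hER', hS'⟩ :=
      exists_sylow_extend M' E (R.isPGroup'.to_le inf_le_left) inf_le_right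
    have hDE : D ≤ E := hD1.trans hPE
    have c1 : ConnS p 𝓕all D R R' := IHD R R' E inf_le_left hER' hDE (hcard.trans hcardE)
    have hxM' : x ∈ M' := hLM' hxF
    have hEle : E ≤ (R' : Subgroup G) ⊓ M' := le_inf hER' inf_le_right
    have hDPx : D ≤ Cfsg.subgroupConjRight x P := by
      have h1 : Cfsg.subgroupConjRight x P = Cfsg.subgroupConjRight x (R : Subgroup G) ⊓ M := by
        rw [hPdef, subgroupConjRight_inf, subgroupConjRight_of_mem x M hxM]
      rw [h1]
      rw [coe_conjS] at hD2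
      exact le_inf hD2 (hD1.trans inf_le_right)
    have hDEx : D ≤ Cfsg.subgroupConjRight x E := hDPx.trans (subgroupConjRight_mono x hPE)
    have c2 : ConnS p 𝓕all D R' (conjS x R') := by
      apply H M' R' x hM' hxM' hS' (lt_of_lt_of_le hcardE (Subgroup.card_le_of_le hEle))
        (hDE.trans hEle)
      rw [coe_conjS]
      exact hDEx.trans (subgroupConjRight_mono x hER')
    have c3 : ConnS p 𝓕all D (conjS x R') (conjS x R) := by
      apply IHD _ _ (Cfsg.subgroupConjRight x E) ?_ ?_ hDEx ?_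
      · rw [coe_conjS]; exact subgroupConjRight_mono x hER'
      · rw [coe_conjS]; exact subgroupConjRight_mono x inf_le_left
      · rw [card_subgroupConjRight]; exact hcard.trans hcardE
    exact (Relation.ReflTransGen.trans c1 c2).trans c3

theorem funreg_conj {G : Type*} [Group G] [Finite G] {p : ℕ} [Fact p.Prime]
    (f : Subgroup G → Set (Subgroup G)) (hf : Cfsg.IsNormalizerFunctor p f)
    (hf1 : ∀ P : Subgroup G, IsPGroup p ↥P → P ≠ ⊥ → ∀ F ∈ f P, F ≠ ⊥)
    (𝓕all : Set (Subgroup G)) (h𝓕 : Cfsg.functorFamily p f ⊤ ⊆ 𝓕all)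
    (h𝓕' : ∀ M, Cfsg.IsMaximalPLocal p M → ¬ Cfsg.IsFunctorRegular p f M → M ∈ 𝓕all)
    (D : Subgroup G) (hDne : D ≠ ⊥)
    (IHD : ∀ (A B : Sylow p G) (E : Subgroup G), E ≤ (A : Subgroup G) → E ≤ (B : Subgroup G) →
      D ≤ E → Nat.card ↥D < Nat.card ↥E → ConnS p 𝓕all D A B) :
    ∀ (m : ℕ) (M : Subgroup G) (R : Sylow p G) (x : G), Cfsg.IsMaximalPLocal p M → x ∈ M →
      SylIn p M ((R : Subgroup G) ⊓ M) → Nat.card G - Nat.card ↥((R : Subgroup G) ⊓ M) = m →
      D ≤ (R : Subgroup G) ⊓ M → D ≤ ((conjS x R : Sylow p G) : Subgroup G) →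
      Nat.card ↥D < Nat.card ↥((R : Subgroup G) ⊓ M) → ConnS p 𝓕all D R (conjS x R) := by
  intro m
  induction m using Nat.strong_induction_on with
  | _ m ih =>
  intro M R x hM hxM hP hm hD1 hD2 hcard
  have H : ∀ (M' : Subgroup G) (R' : Sylow p G) (x' : G), Cfsg.IsMaximalPLocal p M' → x' ∈ M' →
      SylIn p M' ((R' : Subgroup G) ⊓ M') →
      Nat.card ↥((R : Subgroup G) ⊓ M) < Nat.card ↥((R' : Subgroup G) ⊓ M') →
      D ≤ (R' : Subgroup G) ⊓ M' → D ≤ ((conjS x' R' : Sylow p G) : Subgroup G) →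
      ConnS p 𝓕all D R' (conjS x' R') := by
    intro M' R' x' hM' hx' hS' hlt hD1' hD2'
    have hle : Nat.card ↥((R' : Subgroup G) ⊓ M') ≤ Nat.card G := Subgroup.card_le_card_group _
    exact ih (Nat.card G - Nat.card ↥((R' : Subgroup G) ⊓ M')) (by omega) M' R' x' hM' hx' hS'
      rfl hD1' hD2' (hcard.trans hlt)
  by_cases hreg : Cfsg.IsFunctorRegular p f M
  · have hregG := regG_of_isFunctorRegular f hf M hreg
    set P : Subgroup G := (R : Subgroup G) ⊓ M with hPdef
    set Px : Subgroup G := Cfsg.subgroupConjRight x P with hPxdef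
    have hPx : Px = ((conjS x R : Sylow p G) : Subgroup G) ⊓ M := by
      rw [coe_conjS, hPxdef, hPdef, subgroupConjRight_inf, subgroupConjRight_of_mem x M hxM]
    have hSPx : SylIn p M Px := sylIn_conj M P hP x hxM
    have hDPx : D ≤ Px := by
      rw [hPx]; exact le_inf hD2 (hD1.trans inf_le_right)
    have hcardPx : Nat.card ↥Px = Nat.card ↥P := card_subgroupConjRight x P
    by_cases hPP : P = Px
    · apply IHD R (conjS x R) P inf_le_left ?_ hD1 hcard
      have : Px ≤ ((conjS x R : Sylow p G) : Subgroup G) := by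
        rw [hPx]; exact inf_le_left
      exact hPP.le.trans this
    · have hmeet : P ⊓ Px ≠ ⊥ := by
        intro h
        apply hDne
        have := le_inf hD1 hDPx
        rw [h] at this
        exact le_bot_iff.1 this
      have chain := hregG P Px hP hSPx hPP hmeet
      have aux : ∀ B, ChainG (Cfsg.functorFamily p f M) (P ⊓ Px) P B →
          ∃ R_B : Sylow p G, (R_B : Subgroup G) ⊓ M = B ∧ SylIn p M B ∧ D ≤ B ∧
            ConnS p 𝓕all D R R_B := by
        intro B hB
        induction hB with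
        | refl => exact ⟨R, rfl, hP, hD1, Relation.ReflTransGen.refl⟩
        | @tail b c hab hbc ih' =>
          obtain ⟨R_b, hRb, hSb, hDb, hconn⟩ := ih'
          obtain ⟨X, hX, y, hy, hbX, hcX, hconj, hD₀c⟩ := hbc
          have hXfacts := functorFamily_facts f hf M X hX
          rw [mem_functorFamily_iff] at hX
          obtain ⟨P', hP', F, hF, hXeq⟩ := hX
          have hP'p : IsPGroup p ↥P' := IsPGroup.of_card hP'.2
          obtain ⟨hFP', hNP'F⟩ := (hf P' hP'p).1 F hF
          have hP'X : P' ≤ X := by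
            rw [hXeq]; exact le_inf hP'.1 (Subgroup.le_normalizer.trans hNP'F)
          have hSXb : SylIn p X b := ⟨hbX, by rw [hSb.2, hXfacts.2]⟩
          have hSXP' : SylIn p X P' := ⟨hP'X, by rw [hP'.2, hXfacts.2]⟩
          obtain ⟨z, hzX, hbz⟩ := sylIn_exists_conj X P' b hSXP' hSXb
          have hzF : z ∈ Subgroup.normalizer (F : Set G) := by
            have := hzX
            rw [hXeq] at this
            exact (Subgroup.mem_inf.1 this).2
          have hFb : F ∈ f b := by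
            rw [hbz]; exact functor_mem_conj f hf P' hP'p F hF z hzF
          have hyM : y ∈ M := hXfacts.1 hy
          have hyF : y ∈ Subgroup.normalizer (F : Set G) := by
            have := hy
            rw [hXeq] at this
            exact (Subgroup.mem_inf.1 this).2
          have hcb : c = Cfsg.subgroupConjRight y⁻¹ b := by
            rw [← hconj, subgroupConjRight_cancel_inv]
          have hSc : SylIn p M c := by
            rw [hcb]; exact sylIn_conj M b hSb y⁻¹ (M.inv_mem hyM)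
          have hDc : D ≤ c := (le_inf hD1 hDPx).trans hD₀c
          have hRc : ((conjS y⁻¹ R_b : Sylow p G) : Subgroup G) ⊓ M = c := by
            rw [coe_conjS, hcb, ← hRb, subgroupConjRight_inf,
              subgroupConjRight_of_mem y⁻¹ M (M.inv_mem hyM)]
          have hcardb : Nat.card ↥((R_b : Subgroup G) ⊓ M) = Nat.card ↥P := by
            rw [hRb, hSb.2, ← hP.2]
          refine ⟨conjS y⁻¹ R_b, hRc, hSc, hDc, Relation.ReflTransGen.trans hconn ?_⟩
          apply funreg_step f hf hf1 𝓕all h𝓕 D IHD M R_b (by rw [hRb]; exact hSb) F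
            (by rw [hRb]; exact hFb) y⁻¹ (M.inv_mem hyM) (Subgroup.inv_mem _ hyF)
            (by rw [hRb]; exact hDb) ?_ ?_ ?_
          · calc D ≤ c := hDc
              _ = ((conjS y⁻¹ R_b : Sylow p G) : Subgroup G) ⊓ M := hRc.symm
              _ ≤ _ := inf_le_left
          · rw [hcardb]; exact hcard
          · intro M' R' x' hM' hx' hS' hlt hD1' hD2'
            apply H M' R' x' hM' hx' hS' ?_ hD1' hD2'
            rw [hcardb] at hlt
            exact hlt
      obtain ⟨R_B, hRB, -, -, hconn⟩ := aux Px chain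
      refine Relation.ReflTransGen.trans hconn ?_
      apply IHD R_B (conjS x R) Px ?_ ?_ hDPx ?_
      · rw [← hRB]; exact inf_le_left
      · rw [hPx]; exact inf_le_left
      · rw [hcardPx]; exact hcard
  · exact connS_single 𝓕all D M (h𝓕' M hM hreg) x hxM R hP.2 hD2 (hD1.trans inf_le_right)

/-- The functor family of `G` together with the singular maximal `p`-locals controls Sylow
intersections. -/
theorem controls_functor_union {G : Type*} [Group G] [Finite G] {p : ℕ} [Fact p.Prime]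
    (f : Subgroup G → Set (Subgroup G)) (hf : Cfsg.IsNormalizerFunctor p f)
    (hf1 : ∀ P : Subgroup G, IsPGroup p ↥P → P ≠ ⊥ → ∀ F ∈ f P, F ≠ ⊥)
    (𝓕all : Set (Subgroup G)) (h𝓕 : Cfsg.functorFamily p f ⊤ ⊆ 𝓕all)
    (h𝓕' : ∀ M, Cfsg.IsMaximalPLocal p M → ¬ Cfsg.IsFunctorRegular p f M → M ∈ 𝓕all) :
    Cfsg.ControlsSylowIntersections p 𝓕all := by
  apply controls_of_connS
  have main : ∀ (k : ℕ) (S T : Sylow p G),
      Nat.card G - Nat.card ↥((S : Subgroup G) ⊓ (T : Subgroup G)) = k →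
      (S : Subgroup G) ⊓ (T : Subgroup G) ≠ ⊥ →
      ConnS p 𝓕all ((S : Subgroup G) ⊓ (T : Subgroup G)) S T := by
    intro k
    induction k using Nat.strong_induction_on with
    | _ k ih =>
    intro S T hk hmeet
    by_cases hST : S = T
    · subst hST; exact Relation.ReflTransGen.refl
    set D : Subgroup G := (S : Subgroup G) ⊓ (T : Subgroup G) with hDdef
    have IHD : ∀ (A B : Sylow p G) (E : Subgroup G), E ≤ (A : Subgroup G) →
        E ≤ (B : Subgroup G) → D ≤ E → Nat.card ↥D < Nat.card ↥E → ConnS p 𝓕all D A B := by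
      intro A B E hEA hEB hDE hcardE
      have hEAB : E ≤ (A : Subgroup G) ⊓ (B : Subgroup G) := le_inf hEA hEB
      have hc1 : Nat.card ↥E ≤ Nat.card ↥((A : Subgroup G) ⊓ (B : Subgroup G)) :=
        Subgroup.card_le_of_le hEAB
      have hc2 : Nat.card ↥((A : Subgroup G) ⊓ (B : Subgroup G)) ≤ Nat.card G :=
        Subgroup.card_le_card_group _
      have hne : (A : Subgroup G) ⊓ (B : Subgroup G) ≠ ⊥ := by
        intro h
        rw [h, Subgroup.card_bot] at hc1
        have := Nat.card_pos (α := ↥D)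
        omega
      exact connS_mono_D p 𝓕all (hDE.trans hEAB)
        (ih (Nat.card G - Nat.card ↥((A : Subgroup G) ⊓ (B : Subgroup G))) (by omega) A B rfl hne)
    have hDS : D ≠ (S : Subgroup G) := by
      intro h
      apply hST
      have hle : (S : Subgroup G) ≤ (T : Subgroup G) := by
        have h2 : D ≤ (T : Subgroup G) := inf_le_right
        rw [h] at h2
        exact h2
      apply Sylow.ext
      exact Subgroup.eq_of_le_of_card_ge hle
        (by rw [S.card_eq_multiplicity, T.card_eq_multiplicity])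
    have hDT : D ≠ (T : Subgroup G) := by
      intro h
      apply hST
      have hle : (T : Subgroup G) ≤ (S : Subgroup G) := by
        have h2 : D ≤ (S : Subgroup G) := inf_le_left
        rw [h] at h2
        exact h2
      apply Sylow.ext
      exact (Subgroup.eq_of_le_of_card_ge hle
        (by rw [S.card_eq_multiplicity, T.card_eq_multiplicity])).symm
    have hDp : IsPGroup p ↥D := S.isPGroup'.to_le inf_le_left
    have hN : Cfsg.IsPLocal p (Subgroup.normalizer (D : Set G)) := ⟨D, hDp, hmeet, rfl⟩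
    obtain ⟨M, hNM, hM⟩ := exists_maximalPLocal_ge p _ hN
    set QS : Subgroup G := (S : Subgroup G) ⊓ Subgroup.normalizer (D : Set G) with hQS
    set QT : Subgroup G := (T : Subgroup G) ⊓ Subgroup.normalizer (D : Set G) with hQT
    have hcQS : Nat.card ↥D < Nat.card ↥QS :=
      card_lt_inf_normalizer D (S : Subgroup G) S.isPGroup' inf_le_left hDS
    have hcQT : Nat.card ↥D < Nat.card ↥QT :=
      card_lt_inf_normalizer D (T : Subgroup G) T.isPGroup' inf_le_right hDT
    obtain ⟨S₁, hQS₁, hSyl₁⟩ := exists_sylow_extend M QS (S.isPGroup'.to_le inf_le_left)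
      (inf_le_right.trans hNM)
    obtain ⟨T₁, hQT₁, hSylT₁⟩ := exists_sylow_extend M QT (T.isPGroup'.to_le inf_le_left)
      (inf_le_right.trans hNM)
    have hDQS : D ≤ QS := le_inf inf_le_left Subgroup.le_normalizer
    have hDQT : D ≤ QT := le_inf inf_le_right Subgroup.le_normalizer
    have c1 : ConnS p 𝓕all D S S₁ := IHD S S₁ QS inf_le_left hQS₁ hDQS hcQS
    have c4 : ConnS p 𝓕all D T₁ T := IHD T₁ T QT hQT₁ inf_le_left hDQT hcQT
    obtain ⟨x, hxM, hx⟩ := sylIn_exists_conj M _ _ hSyl₁ hSylT₁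
    have hQSle : QS ≤ (S₁ : Subgroup G) ⊓ M := le_inf hQS₁ (inf_le_right.trans hNM)
    have hQTle : QT ≤ (T₁ : Subgroup G) ⊓ M := le_inf hQT₁ (inf_le_right.trans hNM)
    have hconjeq : ((conjS x S₁ : Sylow p G) : Subgroup G) ⊓ M = (T₁ : Subgroup G) ⊓ M := by
      rw [coe_conjS, hx, subgroupConjRight_inf, subgroupConjRight_of_mem x M hxM]
    have hconjle : (T₁ : Subgroup G) ⊓ M ≤ ((conjS x S₁ : Sylow p G) : Subgroup G) := by
      rw [← hconjeq]; exact inf_le_left
    have c2 : ConnS p 𝓕all D S₁ (conjS x S₁) :=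
      funreg_conj f hf hf1 𝓕all h𝓕 h𝓕' D hmeet IHD _ M S₁ x hM hxM hSyl₁ rfl
        (hDQS.trans hQSle) ((hDQT.trans hQTle).trans hconjle)
        (lt_of_lt_of_le hcQS (Subgroup.card_le_of_le hQSle))
    have c3 : ConnS p 𝓕all D (conjS x S₁) T₁ :=
      IHD _ _ ((T₁ : Subgroup G) ⊓ M) hconjle inf_le_left (hDQT.trans hQTle)
        (lt_of_lt_of_le hcQT (Subgroup.card_le_of_le hQTle))
    exact ((Relation.ReflTransGen.trans c1 c2).trans c3).trans c4
  intro S T _ hmeet
  exact main _ S T rfl hmeet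

end Cfsg.Agent.helper15
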