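import Mathlib
import Cfsg.Agent.Lib_helper15_Gen5
import Cfsg.Prelude.Def_Transfer

set_option autoImplicit false

namespace Cfsg.Agent.helper15

theorem card_mul_relIndex_of_le_ex {G : Type*} [Group G] (H K : Subgroup G) (h : H ≤ K) :
    Nat.card H * H.relIndex K = Nat.card K := by
  rw [← Subgroup.relIndex_bot_left, Subgroup.relIndex_mul_relIndex ⊥ H K bot_le h,
    Subgroup.relIndex_bot_left]

/-- `|BZ|` divides `|B||Z|` when `Z` normalizes `B`. -/
theorem card_sup_dvd_of_le_normalizer {G : Type*} [Group G] [Finite G] (B Z : Subgroup G)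
    (hZ : Z ≤ Subgroup.normalizer (B : Set G)) :
    Nat.card ↥(B ⊔ Z) ∣ Nat.card B * Nat.card Z := by
  have hB : B ≤ Subgroup.normalizer (B : Set G) := Subgroup.le_normalizer
  haveI : (B.subgroupOf (Subgroup.normalizer (B : Set G))).Normal := Subgroup.normal_in_normalizer
  have h1 := Cfsg.Agent.helper1.card_sup_dvd_mul (B.subgroupOf (Subgroup.normalizer (B : Set G)))
    (Z.subgroupOf (Subgroup.normalizer (B : Set G)))
  rw [← Subgroup.subgroupOf_sup hB hZ] at h1
  have e : ∀ L : Subgroup G, L ≤ Subgroup.normalizer (B : Set G) →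
      Nat.card ↥(L.subgroupOf (Subgroup.normalizer (B : Set G))) = Nat.card L := fun L hL =>
    Nat.card_congr (Subgroup.subgroupOfEquivOfLe hL).toEquiv
  rwa [e _ (sup_le hB hZ), e _ hB, e _ hZ] at h1

/-- Adjoining an element of order `p` normalizing `B` multiplies the order by `p`. -/
theorem card_sup_zpowers_eq {G : Type*} [Group G] [Finite G] {p : ℕ} [Fact p.Prime]
    (B : Subgroup G) (y : G) (hyN : y ∈ Subgroup.normalizer (B : Set G)) (hyp : y ^ p = 1)
    (hyB : y ∉ B) : Nat.card ↥(B ⊔ Subgroup.zpowers y) = Nat.card B * p := by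
  have hp : p.Prime := Fact.out
  have hy1 : y ≠ 1 := fun h => hyB (h ▸ B.one_mem)
  have hord : orderOf y = p := orderOf_eq_prime hyp hy1
  have h1 := card_sup_dvd_of_le_normalizer B (Subgroup.zpowers y) ((Subgroup.zpowers_le).2 hyN)
  rw [Nat.card_zpowers, hord] at h1
  have h2 : Nat.card B ∣ Nat.card ↥(B ⊔ Subgroup.zpowers y) := Subgroup.card_dvd_of_le le_sup_left
  obtain ⟨j, hj⟩ := h2
  rw [hj] at h1 ⊢
  have hBpos : 0 < Nat.card B := Nat.card_pos
  have h3 : j ∣ p := (Nat.mul_dvd_mul_iff_left hBpos).1 h1
  rcases (Nat.dvd_prime hp).1 h3 with h4 | h4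
  · exfalso
    rw [h4, mul_one] at hj
    have : B = B ⊔ Subgroup.zpowers y := Subgroup.eq_of_le_of_card_ge le_sup_left (le_of_eq hj)
    apply hyB
    rw [this]
    exact Subgroup.mem_sup_right (Subgroup.mem_zpowers y)
  · rw [h4]

/-- Coprime generation by the centralizers of hyperplanes: if `T` contains `C_X(B)` for all
subgroups `B` of index at most `p` in the elementary abelian group `A`, then it contains
`C_X(B)` for every `B ≤ A`. -/
theorem inf_centralizer_le_of_elementaryAbelian {H : Type*} [Group H] [Finite H] {p : ℕ}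
    [Fact p.Prime] (A X : Subgroup H) (hA : Cfsg.IsElementaryAbelian p A)
    (hX : ¬ p ∣ Nat.card ↥X) (hAX : A ≤ Subgroup.normalizer (X : Set H)) (T : Subgroup H)
    (hT : ∀ B : Subgroup H, B ≤ A → B.relIndex A ≤ p →
      X ⊓ Subgroup.centralizer (B : Set H) ≤ T) :
    ∀ B : Subgroup H, B ≤ A → X ⊓ Subgroup.centralizer (B : Set H) ≤ T := by
  obtain ⟨hAcomm, hAexp⟩ := hA
  have hp : p.Prime := Fact.out
  have hAcommute : ∀ a ∈ A, ∀ b ∈ A, a * b = b * a := fun a ha b hb =>
    Subgroup.mul_comm_of_mem_isMulCommutative (H := A) ha hb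
  have claim : ∀ (n : ℕ) (B : Subgroup H), B ≤ A → Nat.card A - Nat.card B = n →
      X ⊓ Subgroup.centralizer (B : Set H) ≤ T := by
    intro n
    induction n using Nat.strong_induction_on with
    | _ n ih =>
      intro B hBA hn
      by_cases hidx : B.relIndex A ≤ p
      · exact hT B hBA hidx
      push Not at hidx
      -- B ≠ A
      have hBne : ∃ y ∈ A, y ∉ B := by
        by_contra hcon
        push Not at hcon
        have : B.relIndex A = 1 := Subgroup.relIndex_eq_one.2 hcon
        rw [this] at hidx
        exact absurd hidx (not_lt.2 hp.one_lt.le)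
      obtain ⟨y, hyA, hyB⟩ := hBne
      have hnormB : ∀ a ∈ A, a ∈ Subgroup.normalizer (B : Set H) := by
        intro a ha
        apply Subgroup.mem_normalizer_fintype
        intro b hb
        have : a * b * a⁻¹ = b := by
          rw [hAcommute a ha b (hBA hb)]; group
        rw [this]; exact hb
      have hcard1 := card_sup_zpowers_eq B y (hnormB y hyA) (hAexp y hyA) hyB
      have hB1A : B ⊔ Subgroup.zpowers y ≤ A := sup_le hBA ((Subgroup.zpowers_le).2 hyA)
      have hxex : ∃ x ∈ A, x ∉ B ⊔ Subgroup.zpowers y := by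
        by_contra hcon
        push Not at hcon
        have heq : B ⊔ Subgroup.zpowers y = A := le_antisymm hB1A hcon
        have h1 := card_mul_relIndex_of_le_ex B A hBA
        rw [← heq, hcard1] at h1
        have hBpos : 0 < Nat.card B := Nat.card_pos
        have h2 : B.relIndex (B ⊔ Subgroup.zpowers y) = p := Nat.eq_of_mul_eq_mul_left hBpos h1
        rw [heq] at h2
        omega
      obtain ⟨x, hxA, hxB1⟩ := hxex
      have hxy : Commute x y := hAcommute x hxA y hyA
      have hxp : x ^ p = 1 := hAexp x hxA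
      have hyp : y ^ p = 1 := hAexp y hyA
      have hnorm : ∀ u ∈ A, u ∈ Subgroup.normalizer
          ((X ⊓ Subgroup.centralizer (B : Set H) : Subgroup H) : Set H) := by
        intro u hu
        apply Subgroup.mem_normalizer_fintype
        intro r hr
        obtain ⟨hrX, hrC⟩ := Subgroup.mem_inf.1 hr
        refine Subgroup.mem_inf.2 ⟨(Subgroup.mem_normalizer_iff.1 (hAX hu) r).1 hrX, ?_⟩
        rw [Subgroup.mem_centralizer_iff] at hrC ⊢
        intro b hb
        have h1 : b * u = u * b := hAcommute b (hBA hb) u hu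
        have h2 : b * r = r * b := hrC b hb
        have h3 : b * u⁻¹ = u⁻¹ * b := by
          calc b * u⁻¹ = u⁻¹ * (u * b) * u⁻¹ := by group
            _ = u⁻¹ * (b * u) * u⁻¹ := by rw [h1]
            _ = u⁻¹ * b := by group
        calc b * (u * r * u⁻¹) = (b * u) * r * u⁻¹ := by group
          _ = u * (b * r) * u⁻¹ := by rw [h1]; group
          _ = u * r * (b * u⁻¹) := by rw [h2]; group
          _ = u * r * u⁻¹ * b := by rw [h3]; group
      have hKp : ¬ p ∣ Nat.card ↥(X ⊓ Subgroup.centralizer (B : Set H)) := fun hdvd =>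
        hX (dvd_trans hdvd (Subgroup.card_dvd_of_le inf_le_left))
      have hgen := le_iSup_centralizer_of_pair hxy hxp hyp
        (X ⊓ Subgroup.centralizer (B : Set H)) (hnorm _ hxA) (hnorm _ hyA) hKp
      have hpiece : ∀ a ∈ A, a ∉ B →
          (X ⊓ Subgroup.centralizer (B : Set H)) ⊓ Subgroup.centralizer {a} ≤ T := by
        intro a haA haB
        have hlt : B < B ⊔ Subgroup.zpowers a := by
          refine lt_of_le_of_ne le_sup_left ?_
          intro heq
          apply haB
          rw [heq]
          exact Subgroup.mem_sup_right (Subgroup.mem_zpowers a)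
        have hle : B ⊔ Subgroup.zpowers a ≤ A := sup_le hBA ((Subgroup.zpowers_le).2 haA)
        have hcardlt : Nat.card ↥B < Nat.card ↥(B ⊔ Subgroup.zpowers a) := by
          by_contra hnot
          push Not at hnot
          exact hlt.ne (Subgroup.eq_of_le_of_card_ge hlt.le hnot)
        have hcardle : Nat.card ↥(B ⊔ Subgroup.zpowers a) ≤ Nat.card ↥A :=
          Nat.le_of_dvd Nat.card_pos (Subgroup.card_dvd_of_le hle)
        have hIH := ih (Nat.card A - Nat.card ↥(B ⊔ Subgroup.zpowers a)) (by omega)
          (B ⊔ Subgroup.zpowers a) hle rfl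
        refine le_trans ?_ hIH
        intro r hr
        obtain ⟨hr1, hra⟩ := Subgroup.mem_inf.1 hr
        obtain ⟨hrX, hrC⟩ := Subgroup.mem_inf.1 hr1
        refine Subgroup.mem_inf.2 ⟨hrX, ?_⟩
        have hsub : B ⊔ Subgroup.zpowers a ≤ Subgroup.centralizer {r} := by
          apply sup_le
          · intro b hb
            rw [Subgroup.mem_centralizer_singleton_iff]
            exact (Subgroup.mem_centralizer_iff.1 hrC) b hb
          · rw [Subgroup.zpowers_le, Subgroup.mem_centralizer_singleton_iff]
            exact (Subgroup.mem_centralizer_singleton_iff.1 hra).symm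
        rw [Subgroup.mem_centralizer_iff]
        intro h hh
        exact Subgroup.mem_centralizer_singleton_iff.1 (hsub hh)
      refine le_trans hgen ?_
      apply sup_le
      · exact hpiece y hyA hyB
      · apply iSup_le
        intro k
        apply hpiece _ (A.mul_mem hxA (A.pow_mem hyA k))
        intro hmem
        apply hxB1
        have : x = (x * y ^ k) * (y ^ k)⁻¹ := by group
        rw [this]
        exact Subgroup.mul_mem _ (Subgroup.mem_sup_left hmem)
          (Subgroup.inv_mem _ (Subgroup.pow_mem _ (Subgroup.mem_sup_right (Subgroup.mem_zpowers y)) k))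
  intro B hBA
  exact claim _ B hBA rfl

end Cfsg.Agent.helper15
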