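import Cfsg.Statements.S0542
import Mathlib

set_option autoImplicit false
open Cfsg

namespace Cfsg.Agent.S0542

open Subgroup

/-- For `N` normal, `|N : P ∩ N|` divides `|G : P|`. -/
theorem relIndex_dvd_index_of_normal_right {G : Type*} [Group G] [Finite G] (P N : Subgroup G)
    [N.Normal] : P.relIndex N ∣ P.index := by
  have h1 := relIndex_mul_relIndex (P ⊓ N) N (P ⊔ N) inf_le_right le_sup_right
  have h2 := relIndex_mul_relIndex (P ⊓ N) P (P ⊔ N) inf_le_left le_sup_left
  rw [inf_relIndex_right, relIndex_sup_right] at h1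
  rw [inf_relIndex_left] at h2
  have hx : N.relIndex P ≠ 0 := by
    haveI : N.IsFiniteRelIndex P := Subgroup.isFiniteRelIndex_of_finiteIndex
    exact Subgroup.relIndex_ne_zero
  have h3 : P.relIndex N = P.relIndex (P ⊔ N) := by
    have : N.relIndex P * P.relIndex N = N.relIndex P * P.relIndex (P ⊔ N) := by
      rw [mul_comm, h1, h2]
    exact Nat.eq_of_mul_eq_mul_left (Nat.pos_of_ne_zero hx) this
  rw [h3]
  exact relIndex_dvd_index_of_le le_sup_left

theorem not_dvd_relIndex {G : Type*} [Group G] [Finite G] (p : ℕ) [Fact p.Prime] (H : Subgroup G)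
    (hH : H.IsSubnormal) (S : Sylow p G) : ¬ p ∣ (S : Subgroup G).relIndex H := by
  induction hH with
  | top =>
    rw [relIndex_top_right]
    exact S.not_dvd_index
  | step H K h_le hK hN ih =>
    intro hdvd
    apply ih
    haveI := hN
    have h1 := relIndex_dvd_index_of_normal_right ((S : Subgroup G).subgroupOf K) (H.subgroupOf K)
    rw [relIndex_subgroupOf h_le] at h1
    exact hdvd.trans h1

theorem result {G : Type*} [Group G] [Finite G] (p : ℕ) [Fact p.Prime] (H : Subgroup G) (hH : H.IsSubnormal) (S : Sylow p G) : ∃ Q : Sylow p H, (Q : Subgroup H) = (S : Subgroup G).subgroupOf H := by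
  have h1 : IsPGroup p ((S : Subgroup G).subgroupOf H) := S.2.comap_subtype
  have h2 : ¬ p ∣ ((S : Subgroup G).subgroupOf H).index := not_dvd_relIndex p H hH S
  exact ⟨h1.toSylow h2, rfl⟩

end Cfsg.Agent.S0542
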