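import Mathlib
import Cfsg.Agent.Lib_helper15_AG3
import Cfsg.Agent.Lib_helper15_FunReg2
import Cfsg.Agent.Lib_helper15_Gen6
import Cfsg.Agent.Lib_helper15_SylGraph2
import Cfsg.Agent.Lib_helper15_ZStar
import Cfsg.Agent.Lib_helper19_Sylow
import Cfsg.Agent.Lib_helper10_PPrimeP
import Cfsg.Agent.Lib_helper10_PResidual
import Cfsg.Agent.S0542

set_option autoImplicit false

namespace Cfsg.Agent.helper15

open Cfsg

/-! ### Generic helpers -/

theorem coe_mem_normalizer_map_subtype {G : Type*} [Group G] (N : Subgroup G)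
    (K : Subgroup ↥N) (m : ↥N) (hm : m ∈ Subgroup.normalizer (K : Set ↥N)) :
    (m : G) ∈ Subgroup.normalizer ((K.map N.subtype : Subgroup G) : Set G) := by
  have hle : K.map N.subtype ≤ N := Subgroup.map_subtype_le K
  have h1 : m ∈ Subgroup.normalizer (((K.map N.subtype).subgroupOf N : Subgroup ↥N) : Set ↥N) := by
    have : (K.map N.subtype).subgroupOf N = K :=
      Subgroup.comap_map_eq_self_of_injective N.subtype_injective K
    rw [this]; exact hm
  rw [← Subgroup.subgroupOf_normalizer_eq hle] at h1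
  exact Subgroup.mem_subgroupOf.1 h1

/-- A normal subgroup whose image modulo `O_{p'}` consists of `p`-elements lies in `O_{p',p}`. -/
theorem le_pPrimePCore_of_image {A : Type*} [Group A] [Finite A] {p : ℕ} [Fact p.Prime]
    (V : Subgroup A) (hV : V.Normal)
    (h : ∀ v ∈ V, ∃ j : ℕ, v ^ (p ^ j) ∈ Cfsg.pPrimeCore p A) : V ≤ Cfsg.pPrimePCore p A := by
  haveI : (Cfsg.pPrimeCore p A).Normal := Cfsg.Agent.helper1.pPrimeCore_normal p
  have hle : V.map (QuotientGroup.mk' (Cfsg.pPrimeCore p A)) ≤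
      Cfsg.pCore p (A ⧸ Cfsg.pPrimeCore p A) := by
    apply Cfsg.Agent.helper1.le_pCore
    · exact hV.map _ (QuotientGroup.mk'_surjective _)
    · rintro ⟨_, ⟨v, hv, rfl⟩⟩
      obtain ⟨j, hj⟩ := h v hv
      refine ⟨j, ?_⟩
      apply Subtype.ext
      show (QuotientGroup.mk' (Cfsg.pPrimeCore p A) v) ^ (p ^ j) = 1
      rw [← map_pow]
      exact (QuotientGroup.eq_one_iff _).2 hj
  intro v hv
  show QuotientGroup.mk' (Cfsg.pPrimeCore p A) v ∈ Cfsg.pCore p (A ⧸ Cfsg.pPrimeCore p A)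
  exact hle (Subgroup.mem_map_of_mem _ hv)

/-- A normal subgroup with a central Sylow `p`-subgroup lies in `O_{p',p}` (Burnside). -/
theorem le_pPrimePCore_of_central_sylow {A : Type*} [Group A] [Finite A] {p : ℕ} [Fact p.Prime]
    (C : Subgroup A) (hC : C.Normal) (S : Sylow p A)
    (hcent : ∀ s ∈ (S : Subgroup A) ⊓ C, ∀ c ∈ C, s * c = c * s) :
    C ≤ Cfsg.pPrimePCore p A := by
  obtain ⟨T, hT⟩ := Cfsg.Agent.S0542.result p C hC.isSubnormal S
  have hTcent : ∀ t ∈ (T : Subgroup ↥C), ∀ c : ↥C, t * c = c * t := by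
    intro t ht c
    rw [hT, Subgroup.mem_subgroupOf] at ht
    apply Subtype.ext
    exact hcent t (Subgroup.mem_inf.2 ⟨ht, t.2⟩) c c.2
  have hNC : Subgroup.normalizer ((T : Subgroup ↥C) : Set ↥C) ≤
      Subgroup.centralizer ((T : Subgroup ↥C) : Set ↥C) := by
    intro x _
    rw [Subgroup.mem_centralizer_iff]
    intro t ht
    exact hTcent t ht x
  have hcompl := MonoidHom.ker_transferSylow_isComplement' T hNC
  set K : Subgroup ↥C := (MonoidHom.transferSylow T hNC).ker with hK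
  have hKn : K.Normal := by rw [hK]; infer_instance
  have hKcard : (Nat.card ↥K).Coprime p := by
    have h1 := hcompl.card_mul_card
    have h2 := (T : Subgroup ↥C).card_mul_index
    have h3 : Nat.card ↥K = (T : Subgroup ↥C).index := by
      have hpos : 0 < Nat.card ↥(T : Subgroup ↥C) := Nat.card_pos
      rw [← h1, mul_comm] at h2
      exact (Nat.eq_of_mul_eq_mul_right hpos h2).symm
    rw [h3]
    exact ((Nat.Prime.coprime_iff_not_dvd (Fact.out)).2 T.not_dvd_index).symm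
  have hKle : K ≤ Cfsg.pPrimeCore p ↥C := Cfsg.Agent.helper1.le_pPrimeCore hKn hKcard
  apply le_pPrimePCore_of_image C hC
  intro c hc
  obtain ⟨⟨⟨k, hk⟩, ⟨t, ht⟩⟩, hkt, -⟩ :=
    (Subgroup.isComplement'_def.1 hcompl).existsUnique (⟨c, hc⟩ : ↥C)
  have hkt' : k * t = ⟨c, hc⟩ := hkt
  obtain ⟨j, hj⟩ := T.isPGroup' ⟨t, ht⟩
  have hj' : t ^ (p ^ j) = 1 := by
    have := congrArg Subtype.val hj
    simpa using this
  refine ⟨j, ?_⟩
  -- `c ^ (p^j) = k ^ (p^j)` since `t` is central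
  have hcomm : Commute k t := (hTcent t ht k).symm
  have hpow : (⟨c, hc⟩ : ↥C) ^ (p ^ j) = k ^ (p ^ j) := by
    rw [← hkt', hcomm.mul_pow, hj', mul_one]
  have hmem : ((k ^ (p ^ j) : ↥C) : A) ∈ Cfsg.pPrimeCore p A := by
    apply map_pPrimeCore_le_of_normal p C hC
    exact ⟨k ^ (p ^ j), Subgroup.pow_mem _ (hKle hk) _, rfl⟩
  have : (c : A) ^ (p ^ j) = ((k ^ (p ^ j) : ↥C) : A) := by
    have := congrArg Subtype.val hpow
    simpa using this
  rw [this]; exact hmem

/-- The Sylow subgroup of `↥N` attached to a `p`-subgroup `R ≤ N` of `p'`-index. -/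
noncomputable def sylowOfRelIndex {G : Type*} [Group G] {p : ℕ} [Fact p.Prime] (N R : Subgroup G)
    (hR : IsPGroup p ↥R) (hidx : ¬ p ∣ R.relIndex N) : Sylow p ↥N :=
  (hR.comap_subtype (K := N)).toSylow hidx

theorem coe_sylowOfRelIndex {G : Type*} [Group G] {p : ℕ} [Fact p.Prime] (N R : Subgroup G)
    (hR : IsPGroup p ↥R) (hidx : ¬ p ∣ R.relIndex N) :
    ((sylowOfRelIndex N R hR hidx : Sylow p ↥N) : Subgroup ↥N) = R.subgroupOf N :=
  IsPGroup.toSylow_coe _ _

theorem subgroupOf_inf_subgroupOf {G : Type*} [Group G] (N R V : Subgroup G) :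
    R.subgroupOf N ⊓ V.subgroupOf N = (R ⊓ V).subgroupOf N := by
  ext x
  simp only [Subgroup.mem_inf, Subgroup.mem_subgroupOf]

/-- Frattini argument in ambient form. -/
theorem frattini_ambient {G : Type*} [Group G] [Finite G] {p : ℕ} [Fact p.Prime]
    (N R V : Subgroup G) (hR : IsPGroup p ↥R) (hidx : ¬ p ∣ R.relIndex N)
    (hVN : V ≤ N) (hVn : N ≤ Subgroup.normalizer (V : Set G)) (n : G) (hn : n ∈ N) :
    ∃ m ∈ N, m ∈ Subgroup.normalizer ((R ⊓ V : Subgroup G) : Set G) ∧ ∃ v ∈ V, n = m * v := by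
  haveI hVnorm : (V.subgroupOf N).Normal := (Subgroup.normal_subgroupOf_iff_le_normalizer hVN).2 hVn
  have hF := Cfsg.Agent.helper19.frattini_inf (sylowOfRelIndex N R hR hidx) (V.subgroupOf N)
  have hmem : (⟨n, hn⟩ : ↥N) ∈ Subgroup.normalizer
      ((((sylowOfRelIndex N R hR hidx : Sylow p ↥N) : Subgroup ↥N) ⊓ V.subgroupOf N :
        Subgroup ↥N) : Set ↥N) ⊔ V.subgroupOf N := by
    rw [hF]; exact Subgroup.mem_top _
  rw [Subgroup.mem_sup_of_normal_right] at hmem
  obtain ⟨m, hm, v, hv, hmv⟩ := hmem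
  rw [coe_sylowOfRelIndex, subgroupOf_inf_subgroupOf] at hm
  have hle : R ⊓ V ≤ N := inf_le_right.trans hVN
  rw [← Subgroup.subgroupOf_normalizer_eq hle] at hm
  refine ⟨(m : G), m.2, Subgroup.mem_subgroupOf.1 hm, (v : G), Subgroup.mem_subgroupOf.1 hv, ?_⟩
  have := congrArg Subtype.val hmv
  simpa using this.symm

theorem not_dvd_relIndex_inf_of_normal {G : Type*} [Group G] [Finite G] {p : ℕ} [Fact p.Prime]
    (N R X : Subgroup G) (hR : IsPGroup p ↥R) (hidx : ¬ p ∣ R.relIndex N)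
    (hXN : X ≤ N) (hXn : N ≤ Subgroup.normalizer (X : Set G)) :
    ¬ p ∣ (R ⊓ X).relIndex X := by
  haveI hXnorm : (X.subgroupOf N).Normal := (Subgroup.normal_subgroupOf_iff_le_normalizer hXN).2 hXn
  have h := Cfsg.Agent.helper19.sylow_inf_normal_not_dvd (sylowOfRelIndex N R hR hidx)
    (X.subgroupOf N)
  rw [coe_sylowOfRelIndex, subgroupOf_inf_subgroupOf] at h
  have e : ((R ⊓ X).subgroupOf N).relIndex (X.subgroupOf N) = (R ⊓ X).relIndex X := by
    rw [← Subgroup.relIndex_map_map_of_injective _ _ N.subtype_injective,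
      Subgroup.subgroupOf_map_subtype, Subgroup.subgroupOf_map_subtype,
      inf_eq_left.2 (inf_le_right.trans hXN), inf_eq_left.2 hXN]
  rw [e] at h
  exact h

/-- Every subgroup of `P` has a fully normalized conjugate reached while keeping `N_P(Q)` in `P`. -/
theorem exists_fully_normalized {G : Type*} [Group G] [Finite G] {p : ℕ} [Fact p.Prime]
    (P : Sylow p G) (Q : Subgroup G) :
    ∃ h : G, Cfsg.subgroupConjRight h ((P : Subgroup G) ⊓ Subgroup.normalizer (Q : Set G)) ≤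
        (P : Subgroup G) ∧
      ¬ p ∣ ((P : Subgroup G) ⊓
          Subgroup.normalizer ((Cfsg.subgroupConjRight h Q : Subgroup G) : Set G)).relIndex
        (Subgroup.normalizer ((Cfsg.subgroupConjRight h Q : Subgroup G) : Set G)) := by
  set N : Subgroup G := Subgroup.normalizer (Q : Set G) with hN
  set D₀ : Subgroup G := (P : Subgroup G) ⊓ N with hD₀
  have hD₀p : IsPGroup p ↥(D₀.subgroupOf N) :=
    (P.isPGroup'.to_le inf_le_left).comap_subtype
  obtain ⟨S₁, hS₁⟩ := hD₀p.exists_le_sylow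
  have hR₁p : IsPGroup p ↥((S₁ : Subgroup ↥N).map N.subtype) := S₁.isPGroup'.map N.subtype
  obtain ⟨P₁, hP₁⟩ := hR₁p.exists_le_sylow
  obtain ⟨k, hk⟩ := MulAction.exists_smul_eq G P P₁
  have hP₁coe : (P₁ : Subgroup G) = Cfsg.subgroupConjRight k⁻¹ (P : Subgroup G) := by
    rw [← hk]; exact coe_smul_sylow k P
  have hR₁k : Cfsg.subgroupConjRight k ((S₁ : Subgroup ↥N).map N.subtype) ≤ (P : Subgroup G) := by
    have := subgroupConjRight_mono k hP₁
    rwa [hP₁coe, subgroupConjRight_inv_cancel] at this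
  have hD₀R₁ : D₀ ≤ (S₁ : Subgroup ↥N).map N.subtype := by
    intro x hx
    have hxN : x ∈ N := (Subgroup.mem_inf.1 hx).2
    exact ⟨⟨x, hxN⟩, hS₁ (Subgroup.mem_subgroupOf.2 hx), rfl⟩
  refine ⟨k, (subgroupConjRight_mono k hD₀R₁).trans hR₁k, ?_⟩
  have hNk : Subgroup.normalizer ((Cfsg.subgroupConjRight k Q : Subgroup G) : Set G) =
      Cfsg.subgroupConjRight k N := (Subgroup.map_equiv_normalizer_eq Q (MulAut.conj k⁻¹)).symm
  rw [hNk]
  have hle : Cfsg.subgroupConjRight k ((S₁ : Subgroup ↥N).map N.subtype) ≤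
      (P : Subgroup G) ⊓ Cfsg.subgroupConjRight k N :=
    le_inf hR₁k (subgroupConjRight_mono k (Subgroup.map_subtype_le _))
  intro hdvd
  have h1 := dvd_trans hdvd (Subgroup.relIndex_dvd_of_le_left (Cfsg.subgroupConjRight k N) hle)
  have h2 : (Cfsg.subgroupConjRight k ((S₁ : Subgroup ↥N).map N.subtype)).relIndex
      (Cfsg.subgroupConjRight k N) = (S₁ : Subgroup ↥N).index := by
    show (((S₁ : Subgroup ↥N).map N.subtype).map (MulAut.conj k⁻¹).toMonoidHom).relIndex
      (N.map (MulAut.conj k⁻¹).toMonoidHom) = _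
    rw [Subgroup.relIndex_map_map_of_injective _ _ (MulAut.conj k⁻¹).injective]
    show (((S₁ : Subgroup ↥N).map N.subtype).subgroupOf N).index = _
    have : ((S₁ : Subgroup ↥N).map N.subtype).subgroupOf N = (S₁ : Subgroup ↥N) :=
      Subgroup.comap_map_eq_self_of_injective N.subtype_injective _
    rw [this]
  rw [h2] at h1
  exact S₁.not_dvd_index h1

/-- Sylow's theorem inside `N` in ambient form. -/
theorem exists_conj_le_of_relIndex {G : Type*} [Group G] [Finite G] {p : ℕ} [Fact p.Prime]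
    (N R E : Subgroup G) (hR : IsPGroup p ↥R) (hidx : ¬ p ∣ R.relIndex N)
    (hE : IsPGroup p ↥E) (hEN : E ≤ N) :
    ∃ a ∈ N, Cfsg.subgroupConjRight a E ≤ R := by
  have hEp : IsPGroup p ↥(E.subgroupOf N) := hE.comap_subtype
  obtain ⟨S₂, hS₂⟩ := hEp.exists_le_sylow
  obtain ⟨a, ha⟩ := MulAction.exists_smul_eq ↥N (sylowOfRelIndex N R hR hidx) S₂
  refine ⟨(a : G), a.2, ?_⟩
  intro x hx
  rw [mem_subgroupConjRight] at hx
  have hxN : (a : G) * x * (a : G)⁻¹ ∈ N := hEN hx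
  have h1 : (⟨(a : G) * x * (a : G)⁻¹, hxN⟩ : ↥N) ∈ (S₂ : Subgroup ↥N) :=
    hS₂ (Subgroup.mem_subgroupOf.2 hx)
  rw [← ha, coe_smul_sylow', coe_sylowOfRelIndex] at h1
  obtain ⟨r, hr, hra⟩ := Subgroup.mem_map.1 h1
  rw [Subgroup.mem_subgroupOf] at hr
  have h2 := congrArg Subtype.val hra
  simp only [MulEquiv.coe_toMonoidHom, MulAut.conj_apply, Subgroup.coe_mul,
    InvMemClass.coe_inv] at h2
  have h3 : (r : G) = x := by
    have h4 := mul_right_cancel h2
    exact mul_left_cancel h4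
  rw [← h3]; exact hr

end Cfsg.Agent.helper15
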