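import Cfsg.Statements.S3058
import Cfsg.Agent.Lib_helper15_SylGraph2
import Cfsg.Agent.Lib_helper15_Gen5

set_option autoImplicit false
open Cfsg

namespace Cfsg.Agent.S3058

open Cfsg.Agent.helper15

/-- A Sylow subgroup meets a normal subgroup of order divisible by `p` in an element of order `p`. -/
theorem exists_mem_sylow_inf_normal {G : Type*} [Group G] [Finite G] {p : ℕ} [Fact p.Prime]
    (S : Sylow p G) (N : Subgroup G) [N.Normal] (hN : p ∣ Nat.card N) :
    ∃ x ∈ (S : Subgroup G), x ∈ N ∧ orderOf x = p := by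
  obtain ⟨x', hx'⟩ := exists_prime_orderOf_dvd_card' p hN
  have hxo : orderOf (x' : G) = p := by rw [Subgroup.orderOf_coe]; exact hx'
  have hxp : IsPGroup p (Subgroup.zpowers (x' : G)) :=
    isPGroup_zpowers_of_orderOf _ ⟨1, by rw [hxo, pow_one]⟩
  obtain ⟨T, hT⟩ := hxp.exists_le_sylow
  obtain ⟨g, hg⟩ := MulAction.exists_smul_eq G S T
  have hxT : (x' : G) ∈ (T : Subgroup G) := hT (Subgroup.mem_zpowers _)
  rw [← hg, coe_smul_sylow'] at hxT
  obtain ⟨s, hs, hsx⟩ := Subgroup.mem_map.1 hxT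
  simp only [MulEquiv.coe_toMonoidHom, MulAut.conj_apply] at hsx
  refine ⟨s, hs, ?_, ?_⟩
  · have : s = g⁻¹ * (x' : G) * g := by rw [← hsx]; group
    rw [this]
    have h1 := (inferInstance : N.Normal).conj_mem (x' : G) x'.2 g⁻¹
    rwa [inv_inv] at h1
  · rw [← hxo, ← hsx, ← MulAut.conj_apply, MulEquiv.orderOf_eq]

theorem eq_one_of_mem_sylow_of_mem_coprime {G : Type*} [Group G] [Finite G] {p : ℕ} [Fact p.Prime]
    (S : Sylow p G) (D : Subgroup G) (hD : ¬ p ∣ Nat.card D) (z : G) (hzS : z ∈ (S : Subgroup G))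
    (hzD : z ∈ D) : z = 1 := by
  obtain ⟨k, hk⟩ := S.isPGroup' ⟨z, hzS⟩
  have hk' : z ^ (p ^ k) = 1 := by
    have := congrArg Subtype.val hk
    rwa [Subgroup.coe_pow, Subgroup.coe_one] at this
  have h1 : orderOf z ∣ p ^ k := orderOf_dvd_of_pow_eq_one hk'
  have h2 : orderOf z ∣ Nat.card D := by
    have : orderOf (⟨z, hzD⟩ : ↥D) ∣ Nat.card D := orderOf_dvd_natCard _
    rwa [← Subgroup.orderOf_coe] at this
  have hcop : Nat.Coprime (p ^ k) (Nat.card D) :=
    Nat.Coprime.pow_left k ((Nat.Prime.coprime_iff_not_dvd (Fact.out : p.Prime)).2 hD)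
  have h3 : orderOf z = 1 := Nat.eq_one_of_dvd_coprimes hcop h1 h2
  exact orderOf_eq_one_iff.1 h3

/-- An element conjugating a nonidentity element of `S` into `S ⊔ W`, with `W` a normal subgroup
inside the component stabilizer, lies in the component stabilizer. -/
theorem mem_sylCompStab_of_conj {G : Type*} [Group G] [Finite G] {p : ℕ} [Fact p.Prime]
    (S : Sylow p G) (W : Subgroup G) [W.Normal] (hW : W ≤ sylCompStab S) (z : G)
    (hzS : z ∈ (S : Subgroup G)) (hz1 : z ≠ 1) (hzp : ∃ k : ℕ, orderOf z = p ^ k) (g : G)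
    (hg : g * z * g⁻¹ ∈ (S : Subgroup G) ⊔ W) : g ∈ sylCompStab S := by
  have hQp : IsPGroup p (Subgroup.zpowers (g * z * g⁻¹)) := by
    apply isPGroup_zpowers_of_orderOf
    obtain ⟨k, hk⟩ := hzp
    refine ⟨k, ?_⟩
    rw [← hk, ← MulAut.conj_apply, MulEquiv.orderOf_eq]
  obtain ⟨n, hn, hnq⟩ := exists_conj_mem_sylow_of_le_sup_normal S W
    (Subgroup.zpowers (g * z * g⁻¹)) hQp ((Subgroup.zpowers_le).2 hg)
  have hu := hnq _ (Subgroup.mem_zpowers _)
  have hu' : n * (g * z * g⁻¹) * n⁻¹ = (n * g) * z * (n * g)⁻¹ := by group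
  rw [hu'] at hu
  have hu2 : (n * g) * z * (n * g)⁻¹ ∈ (((n * g) • S : Sylow p G) : Subgroup G) := by
    rw [coe_smul_sylow']
    exact Subgroup.mem_map.2 ⟨z, hzS, by simp only [MulEquiv.coe_toMonoidHom, MulAut.conj_apply]⟩
  have hu1 : (n * g) * z * (n * g)⁻¹ ≠ 1 := by
    intro h1
    apply hz1
    have : z = (n * g)⁻¹ * ((n * g) * z * (n * g)⁻¹) * (n * g) := by group
    rw [this, h1]; group
  have hng : n * g ∈ sylCompStab S := by
    rw [mem_sylCompStab]
    exact SylConn.of_mem _ hu1 hu2 hu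
  have : g = n⁻¹ * (n * g) := by group
  rw [this]
  exact (sylCompStab S).mul_mem ((sylCompStab S).inv_mem (hW hn)) hng

theorem centralizer_le_sylCompStab {G : Type*} [Group G] {p : ℕ}
    (S : Sylow p G) (z : G) (hzS : z ∈ (S : Subgroup G)) (hz1 : z ≠ 1) :
    Subgroup.centralizer {z} ≤ sylCompStab S := by
  intro g hg
  rw [Subgroup.mem_centralizer_singleton_iff] at hg
  rw [mem_sylCompStab]
  refine SylConn.of_mem z hz1 ?_ hzS
  rw [coe_smul_sylow']
  refine Subgroup.mem_map.2 ⟨z, hzS, ?_⟩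
  simp only [MulEquiv.coe_toMonoidHom, MulAut.conj_apply]
  rw [hg]; group

/-- Let p be a prime and G a finite group whose Sylow p-subgroups are not chain-connected through nontrivial intersections (so G has a strongly p-embedded subgroup). If N and M are normal subgroups of G whose orders are both divisible by p, then the order of N ∩ M is divisible by p. Consequently, among the normal subgroups of G whose order is divisible by p there is a smallest one (the intersection of all of them). -/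
theorem result {G : Type*} [Group G] [Finite G]
    (p : ℕ) [Fact p.Prime] (hG : ¬ Cfsg.IsSylowChainConnected p G)
    (N M : Subgroup G) [N.Normal] [M.Normal] (hN : p ∣ Nat.card N) (hM : p ∣ Nat.card M) :
    p ∣ Nat.card ↥(N ⊓ M) := by
  by_contra hD
  apply hG
  rw [isSylowChainConnected_iff]
  obtain ⟨S⟩ : Nonempty (Sylow p G) := inferInstance
  obtain ⟨x, hxS, hxN, hxo⟩ := exists_mem_sylow_inf_normal S N hN
  obtain ⟨y, hyS, hyM, hyo⟩ := exists_mem_sylow_inf_normal S M hM
  have hp : p.Prime := Fact.out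
  have hx1 : x ≠ 1 := by
    intro h; rw [h, orderOf_one] at hxo; exact hp.one_lt.ne hxo
  have hy1 : y ≠ 1 := by
    intro h; rw [h, orderOf_one] at hyo; exact hp.one_lt.ne hyo
  have hxp : x ^ p = 1 := by rw [← hxo]; exact pow_orderOf_eq_one x
  have hyp : y ^ p = 1 := by rw [← hyo]; exact pow_orderOf_eq_one y
  have hNn : N.Normal := inferInstance
  have hMn : M.Normal := inferInstance
  -- x and y commute
  have hcomm : Commute x y := by
    have hc : x * y * x⁻¹ * y⁻¹ = 1 := by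
      apply eq_one_of_mem_sylow_of_mem_coprime S (N ⊓ M) hD
      · exact Subgroup.mul_mem _ (Subgroup.mul_mem _ (Subgroup.mul_mem _ hxS hyS)
          (Subgroup.inv_mem _ hxS)) (Subgroup.inv_mem _ hyS)
      · refine Subgroup.mem_inf.2 ⟨?_, ?_⟩
        · have h1 : y * x⁻¹ * y⁻¹ ∈ N := hNn.conj_mem _ (N.inv_mem hxN) y
          have : x * y * x⁻¹ * y⁻¹ = x * (y * x⁻¹ * y⁻¹) := by group
          rw [this]; exact N.mul_mem hxN h1
        · have h1 : x * y * x⁻¹ ∈ M := hMn.conj_mem _ hyM x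
          exact M.mul_mem h1 (M.inv_mem hyM)
    show x * y = y * x
    calc x * y = (x * y * x⁻¹ * y⁻¹) * (y * x) := by group
      _ = y * x := by rw [hc, one_mul]
  have hxyk : ∀ k : ℕ, x * y ^ k ≠ 1 := by
    intro k hk
    apply hx1
    have hxM : x ∈ M := by
      have : x = (y ^ k)⁻¹ := eq_inv_of_mul_eq_one_left hk
      rw [this]; exact M.inv_mem (M.pow_mem hyM k)
    exact eq_one_of_mem_sylow_of_mem_coprime S (N ⊓ M) hD x hxS (Subgroup.mem_inf.2 ⟨hxN, hxM⟩)
  haveI hDn : (N ⊓ M).Normal := inferInstance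
  have hnorm : ∀ g : G, g ∈ Subgroup.normalizer ((N ⊓ M : Subgroup G) : Set G) := by
    intro g; rw [Subgroup.normalizer_eq_top]; trivial
  -- D ≤ H
  have hDH : N ⊓ M ≤ sylCompStab S := by
    refine le_trans (le_iSup_centralizer_of_pair hcomm hxp hyp (N ⊓ M) (hnorm x) (hnorm y) hD) ?_
    apply sup_le
    · exact le_trans inf_le_right (centralizer_le_sylCompStab S y hyS hy1)
    · apply iSup_le
      intro k
      exact le_trans inf_le_right (centralizer_le_sylCompStab S (x * y ^ k)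
        (Subgroup.mul_mem _ hxS (Subgroup.pow_mem _ hyS k)) (hxyk k))
  -- M ≤ H
  have hMH : M ≤ sylCompStab S := by
    intro m hm
    apply mem_sylCompStab_of_conj S (N ⊓ M) hDH x hxS hx1 ⟨1, by rw [hxo, pow_one]⟩ m
    have h1 : m * x * m⁻¹ * x⁻¹ ∈ N ⊓ M := by
      refine Subgroup.mem_inf.2 ⟨?_, ?_⟩
      · exact N.mul_mem (hNn.conj_mem _ hxN m) (N.inv_mem hxN)
      · have h2 : x * m⁻¹ * x⁻¹ ∈ M := hMn.conj_mem _ (M.inv_mem hm) x
        have : m * x * m⁻¹ * x⁻¹ = m * (x * m⁻¹ * x⁻¹) := by group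
        rw [this]; exact M.mul_mem hm h2
    have : m * x * m⁻¹ = (m * x * m⁻¹ * x⁻¹) * x := by group
    rw [this]
    exact Subgroup.mul_mem _ (Subgroup.mem_sup_right h1) (Subgroup.mem_sup_left hxS)
  -- G ≤ H
  have hGH : ∀ g : G, g ∈ sylCompStab S := by
    intro g
    apply mem_sylCompStab_of_conj S M hMH y hyS hy1 ⟨1, by rw [hyo, pow_one]⟩ g
    exact Subgroup.mem_sup_right (hMn.conj_mem _ hyM g)
  intro T₁ T₂
  obtain ⟨g₁, hg₁⟩ := MulAction.exists_smul_eq G S T₁
  obtain ⟨g₂, hg₂⟩ := MulAction.exists_smul_eq G S T₂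
  have c1 : SylConn T₁ S := by rw [← hg₁]; exact (mem_sylCompStab S g₁).1 (hGH g₁)
  have c2 : SylConn T₂ S := by rw [← hg₂]; exact (mem_sylCompStab S g₂).1 (hGH g₂)
  exact c1.trans c2.symm

end Cfsg.Agent.S3058
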