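import Mathlib
import Cfsg.Agent.Lib_helper15_AG4
import Cfsg.Agent.S3058

set_option autoImplicit false

namespace Cfsg.Agent.helper15

open Cfsg

theorem Dec.mul_of_normalizer {G : Type*} [Group G] [Finite G] {p : ℕ} [Fact p.Prime]
    {P Q : Subgroup G} {m v : G} (hm : m ∈ Subgroup.normalizer (Q : Set G))
    (h1 : Dec p P Q m) (h2 : Dec p P Q v) : Dec p P Q (m * v) := by
  apply Dec.comp h1
  rw [subgroupConjRight_of_mem_normalizer m Q hm]
  exact h2

theorem card_lt_of_le_of_ne {G : Type*} [Group G] [Finite G] {A B : Subgroup G} (hle : A ≤ B)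
    (hne : A ≠ B) : Nat.card ↥A < Nat.card ↥B := by
  by_contra hcon
  push Not at hcon
  exact hne (Subgroup.eq_of_le_of_card_ge hle hcon)

theorem normalizer_le_normalizer_centralizer {G : Type*} [Group G] (Q : Subgroup G) :
    Subgroup.normalizer (Q : Set G) ≤
      Subgroup.normalizer ((Subgroup.centralizer (Q : Set G) : Subgroup G) : Set G) := by
  have key : ∀ n ∈ Subgroup.normalizer (Q : Set G), ∀ c ∈ Subgroup.centralizer (Q : Set G),
      n * c * n⁻¹ ∈ Subgroup.centralizer (Q : Set G) := by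
    intro n hn c hc
    apply mem_centralizer_of_conj n c Q
    rw [subgroupConjRight_of_mem_normalizer n Q hn]
    exact hc
  intro n hn
  rw [Subgroup.mem_normalizer_iff]
  intro c
  constructor
  · exact key n hn c
  · intro h
    have := key n⁻¹ (Subgroup.inv_mem _ hn) _ h
    have e : n⁻¹ * (n * c * n⁻¹) * n⁻¹⁻¹ = c := by group
    rwa [e] at this

/-- Case (i): `C_P(Q)` is not contained in `Q`. -/
theorem dec_case_i {G : Type*} [Group G] [Finite G] {p : ℕ} [Fact p.Prime] (P : Sylow p G)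
    (Q : Subgroup G) (hQP : Q ≤ (P : Subgroup G))
    (hfn : ¬ p ∣ ((P : Subgroup G) ⊓ Subgroup.normalizer (Q : Set G)).relIndex
      (Subgroup.normalizer (Q : Set G)))
    (IH : ∀ D : Subgroup G, D ≤ (P : Subgroup G) → Nat.card ↥Q < Nat.card ↥D →
      ∀ g : G, Cfsg.subgroupConjRight g D ≤ (P : Subgroup G) → Dec p (P : Subgroup G) D g)
    (hi : ¬ (P : Subgroup G) ⊓ Subgroup.centralizer (Q : Set G) ≤ Q)
    (n : G) (hn : n ∈ Subgroup.normalizer (Q : Set G)) : Dec p (P : Subgroup G) Q n := by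
  set N : Subgroup G := Subgroup.normalizer (Q : Set G) with hN
  set R : Subgroup G := (P : Subgroup G) ⊓ N with hR
  have hRp : IsPGroup p ↥R := P.isPGroup'.to_le inf_le_left
  have hCN : Subgroup.centralizer (Q : Set G) ≤ N := Subgroup.centralizer_le_normalizer _
  obtain ⟨m, hmN, hmT, v, hv, rfl⟩ := frattini_ambient N R (Subgroup.centralizer (Q : Set G)) hRp hfn
    hCN (normalizer_le_normalizer_centralizer Q) n hn
  set Q₁ : Subgroup G := Q ⊔ (R ⊓ Subgroup.centralizer (Q : Set G)) with hQ₁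
  have hQ₁P : Q₁ ≤ (P : Subgroup G) := sup_le hQP (inf_le_left.trans inf_le_left)
  have hQ₁m : Cfsg.subgroupConjRight m Q₁ = Q₁ := by
    show Q₁.map (MulAut.conj m⁻¹).toMonoidHom = Q₁
    rw [hQ₁, Subgroup.map_sup]
    have e1 : Q.map (MulAut.conj m⁻¹).toMonoidHom = Q := subgroupConjRight_of_mem_normalizer m Q hmN
    have e2 : (R ⊓ Subgroup.centralizer (Q : Set G)).map (MulAut.conj m⁻¹).toMonoidHom =
        R ⊓ Subgroup.centralizer (Q : Set G) := subgroupConjRight_of_mem_normalizer m _ hmT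
    rw [e1, e2]
  have hne : Q ≠ Q₁ := by
    intro h
    apply hi
    have h1 : R ⊓ Subgroup.centralizer (Q : Set G) ≤ Q := by
      have : R ⊓ Subgroup.centralizer (Q : Set G) ≤ Q₁ := le_sup_right
      rw [← h] at this
      exact this
    refine le_trans ?_ h1
    exact le_inf (le_inf inf_le_left (inf_le_right.trans hCN)) inf_le_right
  have hcard : Nat.card ↥Q < Nat.card ↥Q₁ := card_lt_of_le_of_ne le_sup_left hne
  have hDm : Dec p (P : Subgroup G) Q₁ m := IH Q₁ hQ₁P hcard m (by rw [hQ₁m]; exact hQ₁P)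
  exact Dec.mul_of_normalizer hmN (hDm.mono le_sup_left) (Dec.of_centralizer hv)

theorem coe_mem_centralizer_of_mem_pPrimeCore {G : Type*} [Group G] [Finite G] {p : ℕ}
    [Fact p.Prime] (Q : Subgroup G) (hQp : IsPGroup p ↥Q)
    (d : ↥(Subgroup.normalizer (Q : Set G)))
    (hd : d ∈ Cfsg.pPrimeCore p ↥(Subgroup.normalizer (Q : Set G))) :
    (d : G) ∈ Subgroup.centralizer (Q : Set G) := by
  have hn1 : (Cfsg.pPrimeCore p ↥(Subgroup.normalizer (Q : Set G))).Normal :=
    Cfsg.Agent.helper1.pPrimeCore_normal p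
  have hn2 : (Q.subgroupOf (Subgroup.normalizer (Q : Set G))).Normal := inferInstance
  have hQ'p : IsPGroup p ↥(Q.subgroupOf (Subgroup.normalizer (Q : Set G))) := hQp.comap_subtype
  have hdisj : Disjoint (Cfsg.pPrimeCore p ↥(Subgroup.normalizer (Q : Set G)))
      (Q.subgroupOf (Subgroup.normalizer (Q : Set G))) := by
    apply Subgroup.disjoint_of_coprime_natCard
    obtain ⟨k, hk⟩ := IsPGroup.iff_card.1 hQ'p
    rw [hk]
    exact Nat.Coprime.pow_right k (Cfsg.Agent.helper1.pPrimeCore_coprime p)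
  rw [Subgroup.mem_centralizer_iff]
  intro q hq
  have hqN : q ∈ Subgroup.normalizer (Q : Set G) := Subgroup.le_normalizer hq
  have hcomm := Subgroup.commute_of_normal_of_disjoint _ _ hn1 hn2 hdisj d ⟨q, hqN⟩ hd
    (Subgroup.mem_subgroupOf.2 hq)
  have := congrArg Subtype.val hcomm.eq
  simpa using this.symm

theorem subgroupOf_le_pPrimePCore {G : Type*} [Group G] [Finite G] {p : ℕ}
    [Fact p.Prime] (Q : Subgroup G) (hQp : IsPGroup p ↥Q) :
    Q.subgroupOf (Subgroup.normalizer (Q : Set G)) ≤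
      Cfsg.pPrimePCore p ↥(Subgroup.normalizer (Q : Set G)) := by
  apply le_pPrimePCore_of_image _ inferInstance
  intro v hv
  have hQ'p : IsPGroup p ↥(Q.subgroupOf (Subgroup.normalizer (Q : Set G))) := hQp.comap_subtype
  obtain ⟨j, hj⟩ := hQ'p ⟨v, hv⟩
  refine ⟨j, ?_⟩
  have : v ^ (p ^ j) = 1 := by
    have := congrArg Subtype.val hj
    simpa using this
  rw [this]; exact Subgroup.one_mem _

/-- Case (ii): either every element of `N_G(Q)` decomposes, or `O_{p',p}(N_G(Q)) = Q C_G(Q)`. -/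
theorem dec_case_ii {G : Type*} [Group G] [Finite G] {p : ℕ} [Fact p.Prime] (P : Sylow p G)
    (Q : Subgroup G) (hQP : Q ≤ (P : Subgroup G))
    (hfn : ¬ p ∣ ((P : Subgroup G) ⊓ Subgroup.normalizer (Q : Set G)).relIndex
      (Subgroup.normalizer (Q : Set G)))
    (IH : ∀ D : Subgroup G, D ≤ (P : Subgroup G) → Nat.card ↥Q < Nat.card ↥D →
      ∀ g : G, Cfsg.subgroupConjRight g D ≤ (P : Subgroup G) → Dec p (P : Subgroup G) D g)
    (hi : (P : Subgroup G) ⊓ Subgroup.centralizer (Q : Set G) ≤ Q) :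
    (∀ n ∈ Subgroup.normalizer (Q : Set G), Dec p (P : Subgroup G) Q n) ∨
      (Cfsg.pPrimePCore p ↥(Subgroup.normalizer (Q : Set G))).map
        (Subgroup.normalizer (Q : Set G)).subtype = Q ⊔ Subgroup.centralizer (Q : Set G) := by
  have hQp : IsPGroup p ↥Q := P.isPGroup'.to_le hQP
  set N : Subgroup G := Subgroup.normalizer (Q : Set G) with hN
  set R : Subgroup G := (P : Subgroup G) ⊓ N with hR
  have hRp : IsPGroup p ↥R := P.isPGroup'.to_le inf_le_left
  have hQN : Q ≤ N := Subgroup.le_normalizer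
  have hQR : Q ≤ R := le_inf hQP hQN
  set R₀ : Sylow p ↥N := sylowOfRelIndex N R hRp hfn with hR₀
  have hR₀coe : (R₀ : Subgroup ↥N) = R.subgroupOf N := coe_sylowOfRelIndex N R hRp hfn
  set T : Subgroup G := ((R₀ : Subgroup ↥N) ⊓ Cfsg.pPrimePCore p ↥N).map N.subtype with hT
  have hTR : T ≤ R := by
    rintro _ ⟨x, hx, rfl⟩
    have := (Subgroup.mem_inf.1 hx).1
    rw [hR₀coe, Subgroup.mem_subgroupOf] at this
    exact this
  have hQT : Q ≤ T := by
    intro q hq
    refine ⟨⟨q, hQN hq⟩, Subgroup.mem_inf.2 ⟨?_, ?_⟩, rfl⟩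
    · rw [hR₀coe, Subgroup.mem_subgroupOf]; exact hQR hq
    · exact subgroupOf_le_pPrimePCore Q hQp (Subgroup.mem_subgroupOf.2 hq)
  by_cases hcard : Nat.card ↥Q < Nat.card ↥T
  · left
    intro n hn
    obtain ⟨m, hm, d, hd, hnmd⟩ := Cfsg.Agent.helper10.frattini_pPrimePCore R₀ (⟨n, hn⟩ : ↥N)
    have hmT : (m : G) ∈ Subgroup.normalizer (T : Set G) :=
      coe_mem_normalizer_map_subtype N _ m hm
    have hdC : (d : G) ∈ Subgroup.centralizer (Q : Set G) :=
      coe_mem_centralizer_of_mem_pPrimeCore Q hQp d hd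
    have hTP : T ≤ (P : Subgroup G) := hTR.trans inf_le_left
    have hDm : Dec p (P : Subgroup G) T (m : G) :=
      IH T hTP hcard m (by rw [subgroupConjRight_of_mem_normalizer _ T hmT]; exact hTP)
    have hnmd' : n = (m : G) * (d : G) := by
      have := congrArg Subtype.val hnmd
      simpa using this
    rw [hnmd']
    exact Dec.mul_of_normalizer m.2 (hDm.mono hQT) (Dec.of_centralizer hdC)
  · right
    have hTQ : Q = T := Subgroup.eq_of_le_of_card_ge hQT (not_lt.1 hcard)
    apply le_antisymm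
    · rintro _ ⟨v, hv, rfl⟩
      obtain ⟨s, hs, d, hd, rfl⟩ := Cfsg.Agent.helper10.pPrimePCore_eq_mul R₀ hv
      have hsQ : (s : G) ∈ Q := by
        rw [hTQ]; exact ⟨s, hs, rfl⟩
      have hdC : (d : G) ∈ Subgroup.centralizer (Q : Set G) :=
        coe_mem_centralizer_of_mem_pPrimeCore Q hQp d hd
      exact Subgroup.mul_mem_sup hsQ hdC
    · apply sup_le
      · intro q hq
        exact ⟨⟨q, hQN hq⟩, subgroupOf_le_pPrimePCore Q hQp (Subgroup.mem_subgroupOf.2 hq), rfl⟩
      · have hCN : Subgroup.centralizer (Q : Set G) ≤ N := Subgroup.centralizer_le_normalizer _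
        have hCnorm : ((Subgroup.centralizer (Q : Set G)).subgroupOf N).Normal :=
          (Subgroup.normal_subgroupOf_iff_le_normalizer hCN).2
            (normalizer_le_normalizer_centralizer Q)
        have hle := le_pPrimePCore_of_central_sylow
          ((Subgroup.centralizer (Q : Set G)).subgroupOf N) hCnorm R₀ (by
            intro s hs c hc
            have hs1 := (Subgroup.mem_inf.1 hs).1
            have hs2 := (Subgroup.mem_inf.1 hs).2
            rw [hR₀coe, Subgroup.mem_subgroupOf] at hs1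
            rw [Subgroup.mem_subgroupOf] at hs2 hc
            have hsQ : (s : G) ∈ Q :=
              hi (Subgroup.mem_inf.2 ⟨(Subgroup.mem_inf.1 hs1).1, hs2⟩)
            apply Subtype.ext
            exact Subgroup.mem_centralizer_iff.1 hc _ hsQ)
        intro c hc
        exact ⟨⟨c, hCN hc⟩, hle (Subgroup.mem_subgroupOf.2 hc), rfl⟩

theorem mem_of_mk_mem_map {A : Type*} [Group A] (Q' K : Subgroup A) [Q'.Normal] (hle : Q' ≤ K)
    (z : A) (hz : QuotientGroup.mk' Q' z ∈ K.map (QuotientGroup.mk' Q')) : z ∈ K := by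
  have h1 : z ∈ (K.map (QuotientGroup.mk' Q')).comap (QuotientGroup.mk' Q') := hz
  rw [Subgroup.comap_map_eq, QuotientGroup.ker_mk', sup_eq_left.2 hle] at h1
  exact h1

/-- Case (iii): the Sylow graph of `N_G(Q)/Q` is connected. -/
theorem dec_case_iii {G : Type*} [Group G] [Finite G] {p : ℕ} [Fact p.Prime] (P : Sylow p G)
    (Q : Subgroup G) (hQP : Q ≤ (P : Subgroup G))
    (hfn : ¬ p ∣ ((P : Subgroup G) ⊓ Subgroup.normalizer (Q : Set G)).relIndex
      (Subgroup.normalizer (Q : Set G)))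
    (IH : ∀ D : Subgroup G, D ≤ (P : Subgroup G) → Nat.card ↥Q < Nat.card ↥D →
      ∀ g : G, Cfsg.subgroupConjRight g D ≤ (P : Subgroup G) → Dec p (P : Subgroup G) D g)
    (hcardR : Nat.card ↥Q < Nat.card ↥((P : Subgroup G) ⊓ Subgroup.normalizer (Q : Set G)))
    (hconn : Cfsg.IsSylowChainConnected p
      (↥(Subgroup.normalizer (Q : Set G)) ⧸ Q.subgroupOf (Subgroup.normalizer (Q : Set G))))
    (n : G) (hn : n ∈ Subgroup.normalizer (Q : Set G)) : Dec p (P : Subgroup G) Q n := by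
  set N : Subgroup G := Subgroup.normalizer (Q : Set G) with hN
  set R : Subgroup G := (P : Subgroup G) ⊓ N with hR
  have hRp : IsPGroup p ↥R := P.isPGroup'.to_le inf_le_left
  have hQN : Q ≤ N := Subgroup.le_normalizer
  have hQR : Q ≤ R := le_inf hQP hQN
  have hRP : R ≤ (P : Subgroup G) := inf_le_left
  set R₀ : Sylow p ↥N := sylowOfRelIndex N R hRp hfn with hR₀
  have hR₀coe : (R₀ : Subgroup ↥N) = R.subgroupOf N := coe_sylowOfRelIndex N R hRp hfn
  have hπ : Function.Surjective (QuotientGroup.mk' (Q.subgroupOf N)) :=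
    QuotientGroup.mk'_surjective _
  set Rb : Sylow p (↥N ⧸ Q.subgroupOf N) := R₀.mapSurjective hπ with hRb
  have hRbcoe : (Rb : Subgroup (↥N ⧸ Q.subgroupOf N)) =
      (R₀ : Subgroup ↥N).map (QuotientGroup.mk' (Q.subgroupOf N)) := Sylow.coe_mapSurjective hπ R₀
  have hkerR : Q.subgroupOf N ≤ (R₀ : Subgroup ↥N) := by
    rw [hR₀coe]
    intro x hx
    rw [Subgroup.mem_subgroupOf] at hx ⊢
    exact hQR hx
  have key : ∀ Tb : Sylow p (↥N ⧸ Q.subgroupOf N), SylConn Rb Tb →
      ∀ n : ↥N, Tb = (QuotientGroup.mk' (Q.subgroupOf N) n) • Rb →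
        Dec p (P : Subgroup G) Q (n : G) := by
    intro Tb hTb
    induction hTb with
    | refl =>
      intro n hn'
      have hnorm : QuotientGroup.mk' (Q.subgroupOf N) n ∈
          Subgroup.normalizer ((Rb : Subgroup (↥N ⧸ Q.subgroupOf N)) : Set _) :=
        Sylow.smul_eq_iff_mem_normalizer.1 hn'.symm
      have hle : Cfsg.subgroupConjRight (n : G) R ≤ R := by
        intro x hx
        rw [mem_subgroupConjRight] at hx
        have hxN : (n : G) * x * (n : G)⁻¹ ∈ N := (Subgroup.mem_inf.1 hx).2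
        have hr₀ : (⟨(n : G) * x * (n : G)⁻¹, hxN⟩ : ↥N) ∈ (R₀ : Subgroup ↥N) := by
          rw [hR₀coe, Subgroup.mem_subgroupOf]; exact hx
        have hxN' : x ∈ N := by
          have : x = (n : G)⁻¹ * ((n : G) * x * (n : G)⁻¹) * (n : G) := by group
          rw [this]
          exact N.mul_mem (N.mul_mem (N.inv_mem n.2) hxN) n.2
        have h1 : QuotientGroup.mk' (Q.subgroupOf N) (⟨(n : G) * x * (n : G)⁻¹, hxN⟩ : ↥N) ∈
            (Rb : Subgroup (↥N ⧸ Q.subgroupOf N)) := by
          rw [hRbcoe]; exact Subgroup.mem_map_of_mem _ hr₀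
        have h2 := (Subgroup.mem_normalizer_iff.1 (Subgroup.inv_mem _ hnorm) _).1 h1
        have h3 : (QuotientGroup.mk' (Q.subgroupOf N) n)⁻¹ *
            QuotientGroup.mk' (Q.subgroupOf N) (⟨(n : G) * x * (n : G)⁻¹, hxN⟩ : ↥N) *
            (QuotientGroup.mk' (Q.subgroupOf N) n)⁻¹⁻¹ =
            QuotientGroup.mk' (Q.subgroupOf N) (⟨x, hxN'⟩ : ↥N) := by
          rw [← map_inv, ← map_mul, ← map_inv, ← map_mul]
          congr 1
          apply Subtype.ext
          simp only [Subgroup.coe_mul, InvMemClass.coe_inv]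
          group
        rw [h3, hRbcoe] at h2
        have h4 := mem_of_mk_mem_map _ _ hkerR _ h2
        rw [hR₀coe, Subgroup.mem_subgroupOf] at h4
        exact h4
      have hD := IH R hRP hcardR (n : G) (hle.trans hRP)
      exact hD.mono hQR
    | @tail b c hab hbc ih =>
      intro n hn'
      obtain ⟨gb, hgb⟩ := MulAction.exists_smul_eq (↥N ⧸ Q.subgroupOf N) Rb b
      obtain ⟨m, rfl⟩ := hπ gb
      have hDm := ih m hgb.symm
      -- a nontrivial element in the intersection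
      obtain ⟨⟨z, hz⟩, hz1⟩ := (Subgroup.ne_bot_iff_exists_ne_one).1 hbc.2
      have hz1' : z ≠ 1 := fun h => hz1 (Subtype.ext h)
      have hzb := (Subgroup.mem_inf.1 hz).1
      have hzc := (Subgroup.mem_inf.1 hz).2
      rw [← hgb, coe_smul_sylow', hRbcoe] at hzb
      rw [hn', coe_smul_sylow', hRbcoe] at hzc
      obtain ⟨_, ⟨r₁, hr₁s, rfl⟩, hzb'⟩ := Subgroup.mem_map.1 hzb
      obtain ⟨_, ⟨r₂, hr₂s, rfl⟩, hzc'⟩ := Subgroup.mem_map.1 hzc
      have hr₁ : r₁ ∈ (R₀ : Subgroup ↥N) := hr₁s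
      have hr₂ : r₂ ∈ (R₀ : Subgroup ↥N) := hr₂s
      simp only [MulEquiv.coe_toMonoidHom, MulAut.conj_apply] at hzb' hzc'
      set k : ↥N := m⁻¹ * n with hk
      -- `r₁ ∉ Q`
      have hr₁Q : r₁ ∉ Q.subgroupOf N := by
        intro h
        apply hz1'
        have h1 : QuotientGroup.mk' (Q.subgroupOf N) r₁ = 1 := (QuotientGroup.eq_one_iff r₁).2 h
        rw [← hzb', h1]
        group
      -- `k⁻¹ r₁ k ∈ R₀`
      have hconj : k⁻¹ * r₁ * k ∈ (R₀ : Subgroup ↥N) := by
        apply mem_of_mk_mem_map _ _ hkerR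
        have e : QuotientGroup.mk' (Q.subgroupOf N) (k⁻¹ * r₁ * k) =
            QuotientGroup.mk' (Q.subgroupOf N) r₂ := by
          have e1 : QuotientGroup.mk' (Q.subgroupOf N) (k⁻¹ * r₁ * k) =
              (QuotientGroup.mk' (Q.subgroupOf N) n)⁻¹ *
                (QuotientGroup.mk' (Q.subgroupOf N) m * QuotientGroup.mk' (Q.subgroupOf N) r₁ *
                  (QuotientGroup.mk' (Q.subgroupOf N) m)⁻¹) *
                QuotientGroup.mk' (Q.subgroupOf N) n := by
            rw [hk]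
            simp only [map_mul, map_inv]
            group
          rw [e1, hzb', ← hzc']
          group
        rw [e]
        exact Subgroup.mem_map_of_mem _ hr₂
      set D : Subgroup G := R ⊓ Cfsg.subgroupConjRight (k : G)⁻¹ R with hD
      have hkN : (k : G) ∈ N := k.2
      have hQD : Q ≤ D := by
        refine le_inf hQR ?_
        have := subgroupConjRight_mono (k : G)⁻¹ hQR
        rwa [subgroupConjRight_of_mem_normalizer _ Q (N.inv_mem hkN)] at this
      have hr₁D : (r₁ : G) ∈ D := by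
        refine Subgroup.mem_inf.2 ⟨?_, ?_⟩
        · rw [hR₀coe, Subgroup.mem_subgroupOf] at hr₁; exact hr₁
        · rw [mem_subgroupConjRight, inv_inv]
          rw [hR₀coe, Subgroup.mem_subgroupOf] at hconj
          simpa using hconj
      have hne : Q ≠ D := by
        intro h
        apply hr₁Q
        rw [Subgroup.mem_subgroupOf, h]
        exact hr₁D
      have hcardD : Nat.card ↥Q < Nat.card ↥D := card_lt_of_le_of_ne hQD hne
      have hDP : D ≤ (P : Subgroup G) := inf_le_left.trans hRP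
      have hDk : Cfsg.subgroupConjRight (k : G) D ≤ (P : Subgroup G) := by
        have h1 := subgroupConjRight_mono (k : G) (inf_le_right : D ≤ _)
        rw [subgroupConjRight_inv_cancel] at h1
        exact h1.trans hRP
      have hDk' := (IH D hDP hcardD (k : G) hDk).mono hQD
      have e : (n : G) = (m : G) * (k : G) := by
        rw [hk]; simp
      rw [e]
      exact Dec.mul_of_normalizer m.2 hDm hDk'
  rw [isSylowChainConnected_iff] at hconn
  exact key _ (hconn Rb (QuotientGroup.mk' (Q.subgroupOf N) ⟨n, hn⟩ • Rb)) ⟨n, hn⟩ rfl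

theorem dvd_card_of_not_connected {A : Type*} [Group A] [Finite A] {p : ℕ} [Fact p.Prime]
    (h : ¬ Cfsg.IsSylowChainConnected p A) : p ∣ Nat.card A := by
  by_contra hnd
  apply h
  rw [isSylowChainConnected_iff]
  intro S T
  have hS : (S : Subgroup A) = ⊥ := by
    apply Subgroup.eq_bot_of_card_eq
    rw [S.card_eq_multiplicity, Nat.factorization_eq_zero_of_not_dvd hnd, pow_zero]
  have hT : (T : Subgroup A) = ⊥ := by
    apply Subgroup.eq_bot_of_card_eq
    rw [T.card_eq_multiplicity, Nat.factorization_eq_zero_of_not_dvd hnd, pow_zero]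
  have : S = T := Sylow.ext (hS.trans hT.symm)
  rw [this]
  exact SylConn.refl _

theorem relIndex_eq_card_map_mk {G : Type*} [Group G] (Q Y : Subgroup G)
    (hQY : Q ≤ Y) (hYN : Y ≤ Subgroup.normalizer (Q : Set G)) :
    Q.relIndex Y = Nat.card ↥((Y.subgroupOf (Subgroup.normalizer (Q : Set G))).map
      (QuotientGroup.mk' (Q.subgroupOf (Subgroup.normalizer (Q : Set G))))) := by
  set N : Subgroup G := Subgroup.normalizer (Q : Set G) with hN
  have hQN : Q ≤ N := Subgroup.le_normalizer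
  have e1 : Q.relIndex Y = (Q.subgroupOf N).relIndex (Y.subgroupOf N) := by
    rw [← Subgroup.relIndex_map_map_of_injective _ _ N.subtype_injective,
      Subgroup.subgroupOf_map_subtype, Subgroup.subgroupOf_map_subtype,
      inf_eq_left.2 hQN, inf_eq_left.2 hYN]
  have e2 : Q.subgroupOf N = (⊥ : Subgroup (↥N ⧸ Q.subgroupOf N)).comap
      (QuotientGroup.mk' (Q.subgroupOf N)) := by
    rw [MonoidHom.comap_bot, QuotientGroup.ker_mk']
  rw [e1]
  conv_lhs => rw [e2]
  rw [Subgroup.relIndex_comap, Subgroup.relIndex_bot_left]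

/-- Case (iv): the Sylow graph of `N_G(Q)/Q` is disconnected; `Q` is good. -/
theorem dec_case_iv {G : Type*} [Group G] [Finite G] {p : ℕ} [Fact p.Prime] (P : Sylow p G)
    (Q : Subgroup G) (hQP : Q ≤ (P : Subgroup G))
    (hfn : ¬ p ∣ ((P : Subgroup G) ⊓ Subgroup.normalizer (Q : Set G)).relIndex
      (Subgroup.normalizer (Q : Set G)))
    (IH : ∀ D : Subgroup G, D ≤ (P : Subgroup G) → Nat.card ↥Q < Nat.card ↥D →
      ∀ g : G, Cfsg.subgroupConjRight g D ≤ (P : Subgroup G) → Dec p (P : Subgroup G) D g)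
    (hi : (P : Subgroup G) ⊓ Subgroup.centralizer (Q : Set G) ≤ Q)
    (hc : (Cfsg.pPrimePCore p ↥(Subgroup.normalizer (Q : Set G))).map
        (Subgroup.normalizer (Q : Set G)).subtype = Q ⊔ Subgroup.centralizer (Q : Set G))
    (hdisc : ¬ Cfsg.IsSylowChainConnected p
      (↥(Subgroup.normalizer (Q : Set G)) ⧸ Q.subgroupOf (Subgroup.normalizer (Q : Set G))))
    (n : G) (hn : n ∈ Subgroup.normalizer (Q : Set G)) : Dec p (P : Subgroup G) Q n := by
  classical
  set N : Subgroup G := Subgroup.normalizer (Q : Set G) with hN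
  set R : Subgroup G := (P : Subgroup G) ⊓ N with hR
  have hRp : IsPGroup p ↥R := P.isPGroup'.to_le inf_le_left
  have hQN : Q ≤ N := Subgroup.le_normalizer
  have hQR : Q ≤ R := le_inf hQP hQN
  have hRP : R ≤ (P : Subgroup G) := inf_le_left
  have hπ : Function.Surjective (QuotientGroup.mk' (Q.subgroupOf N)) :=
    QuotientGroup.mk'_surjective _
  -- the smallest normal subgroup of the quotient of order divisible by `p`
  have htop : (⊤ : Subgroup (↥N ⧸ Q.subgroupOf N)) ∈
      {K : Subgroup (↥N ⧸ Q.subgroupOf N) | K.Normal ∧ p ∣ Nat.card ↥K} := by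
    refine ⟨inferInstance, ?_⟩
    rw [Subgroup.card_top]
    exact dvd_card_of_not_connected hdisc
  obtain ⟨Xb, hXb, hXmin⟩ := Set.exists_min_image
    {K : Subgroup (↥N ⧸ Q.subgroupOf N) | K.Normal ∧ p ∣ Nat.card ↥K}
    (fun K => Nat.card ↥K) (Set.toFinite _) ⟨⊤, htop⟩
  have hXle : ∀ K : Subgroup (↥N ⧸ Q.subgroupOf N), K.Normal → p ∣ Nat.card ↥K → Xb ≤ K := by
    intro K hKn hKp
    haveI := hXb.1
    haveI := hKn
    have h1 : p ∣ Nat.card ↥(Xb ⊓ K) := Cfsg.Agent.S3058.result p hdisc Xb K hXb.2 hKp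
    have h2 : Nat.card ↥Xb ≤ Nat.card ↥(Xb ⊓ K) := hXmin (Xb ⊓ K) ⟨inferInstance, h1⟩
    have h3 : Xb ⊓ K = Xb := Subgroup.eq_of_le_of_card_ge inf_le_left h2
    rw [← h3]; exact inf_le_right
  set X₀ : Subgroup ↥N := Xb.comap (QuotientGroup.mk' (Q.subgroupOf N)) with hX₀
  set X : Subgroup G := X₀.map N.subtype with hX
  have hXN : X ≤ N := Subgroup.map_subtype_le _
  have hXsub : X.subgroupOf N = X₀ := Subgroup.comap_map_eq_self_of_injective N.subtype_injective _
  have hQX : Q ≤ X := by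
    intro q hq
    refine ⟨⟨q, hQN hq⟩, ?_, rfl⟩
    show QuotientGroup.mk' (Q.subgroupOf N) ⟨q, hQN hq⟩ ∈ Xb
    have : QuotientGroup.mk' (Q.subgroupOf N) ⟨q, hQN hq⟩ = 1 :=
      (QuotientGroup.eq_one_iff _).2 (Subgroup.mem_subgroupOf.2 hq)
    rw [this]; exact Subgroup.one_mem _
  have hXnorm : (X.subgroupOf N).Normal := by
    rw [hXsub]; exact hXb.1.comap _
  have hpX : p ∣ Q.relIndex X := by
    rw [relIndex_eq_card_map_mk Q X hQX hXN, hXsub, hX₀,
      Subgroup.map_comap_eq_self_of_surjective hπ]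
    exact hXb.2
  have hmin : ∀ Y : Subgroup G, Q ≤ Y → Y ≤ N → (Y.subgroupOf N).Normal → p ∣ Q.relIndex Y →
      X ≤ Y := by
    intro Y hQY hYN hYn hpY
    rw [relIndex_eq_card_map_mk Q Y hQY hYN] at hpY
    have h1 := hXle _ (hYn.map _ hπ) hpY
    have h2 : X₀ ≤ Y.subgroupOf N := by
      have := Subgroup.comap_mono (f := QuotientGroup.mk' (Q.subgroupOf N)) h1
      rw [Subgroup.comap_map_eq, QuotientGroup.ker_mk'] at this
      have hle : Q.subgroupOf N ≤ Y.subgroupOf N := by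
        intro x hx
        rw [Subgroup.mem_subgroupOf] at hx ⊢
        exact hQY hx
      rwa [sup_eq_left.2 hle] at this
    rintro _ ⟨x, hx, rfl⟩
    exact Subgroup.mem_subgroupOf.1 (h2 hx)
  have hGood : GoodH p (P : Subgroup G) Q X :=
    ⟨hQP, hfn, hi, hc, hdisc, hQX, hXN, hXnorm, hpX, hmin⟩
  -- Frattini
  have hXn : N ≤ Subgroup.normalizer (X : Set G) :=
    (Subgroup.normal_subgroupOf_iff_le_normalizer hXN).1 hXnorm
  obtain ⟨m, hmN, hmT, v, hv, rfl⟩ := frattini_ambient N R X hRp hfn hXN hXn n hn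
  have hidxX : ¬ p ∣ (R ⊓ X).relIndex X := not_dvd_relIndex_inf_of_normal N R X hRp hfn hXN hXn
  have hRXp : IsPGroup p ↥(R ⊓ X) := hRp.to_le inf_le_left
  obtain ⟨s, hs, k, hk, hvsk⟩ := Cfsg.Agent.helper10.exists_mul_of_pResidual_sylow p
    (sylowOfRelIndex X (R ⊓ X) hRXp hidxX) (⟨v, hv⟩ : ↥X)
  rw [coe_sylowOfRelIndex, Subgroup.mem_subgroupOf] at hs
  have hvsk' : v = (s : G) * (k : G) := by
    have := congrArg Subtype.val hvsk
    simpa using this
  have hQD : Q ≤ R ⊓ X := le_inf hQR hQX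
  have hne : Q ≠ R ⊓ X := by
    intro h
    apply hidxX
    rw [← h]; exact hpX
  have hcardD : Nat.card ↥Q < Nat.card ↥(R ⊓ X) := card_lt_of_le_of_ne hQD hne
  have hmsT : m * (s : G) ∈ Subgroup.normalizer ((R ⊓ X : Subgroup G) : Set G) :=
    Subgroup.mul_mem _ hmT (Subgroup.le_normalizer hs)
  have hmsN : m * (s : G) ∈ N := N.mul_mem hmN (hXN s.2)
  have hDP : R ⊓ X ≤ (P : Subgroup G) := inf_le_left.trans hRP
  have hD1 : Dec p (P : Subgroup G) (R ⊓ X) (m * (s : G)) :=
    IH (R ⊓ X) hDP hcardD _ (by rw [subgroupConjRight_of_mem_normalizer _ _ hmsT]; exact hDP)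
  have hD2 : Dec p (P : Subgroup G) Q (k : G) :=
    Dec.single hGood ⟨k, hk, rfl⟩ le_rfl
  have e : m * v = (m * (s : G)) * (k : G) := by rw [hvsk']; group
  rw [e]
  exact Dec.mul_of_normalizer hmsN (hD1.mono hQD) hD2

end Cfsg.Agent.helper15
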