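import Mathlib
import Cfsg.Agent.Lib_helper15_AG5

set_option autoImplicit false

namespace Cfsg.Agent.helper15

open Cfsg

/-- Elements of the normalizer of a fully normalized subgroup decompose. -/
theorem dec_normalizer {G : Type*} [Group G] [Finite G] {p : ℕ} [Fact p.Prime] (P : Sylow p G)
    (Q : Subgroup G) (hQP : Q ≤ (P : Subgroup G)) (hQne : Q ≠ (P : Subgroup G))
    (hfn : ¬ p ∣ ((P : Subgroup G) ⊓ Subgroup.normalizer (Q : Set G)).relIndex
      (Subgroup.normalizer (Q : Set G)))
    (IH : ∀ D : Subgroup G, D ≤ (P : Subgroup G) → Nat.card ↥Q < Nat.card ↥D →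
      ∀ g : G, Cfsg.subgroupConjRight g D ≤ (P : Subgroup G) → Dec p (P : Subgroup G) D g)
    (n : G) (hn : n ∈ Subgroup.normalizer (Q : Set G)) : Dec p (P : Subgroup G) Q n := by
  have hcardR : Nat.card ↥Q <
      Nat.card ↥((P : Subgroup G) ⊓ Subgroup.normalizer (Q : Set G)) :=
    card_lt_inf_normalizer Q (P : Subgroup G) P.isPGroup' hQP hQne
  by_cases hi : (P : Subgroup G) ⊓ Subgroup.centralizer (Q : Set G) ≤ Q
  · rcases dec_case_ii P Q hQP hfn IH hi with h | hc
    · exact h n hn
    · by_cases hconn : Cfsg.IsSylowChainConnected p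
          (↥(Subgroup.normalizer (Q : Set G)) ⧸ Q.subgroupOf (Subgroup.normalizer (Q : Set G)))
      · exact dec_case_iii P Q hQP hfn IH hcardR hconn n hn
      · exact dec_case_iv P Q hQP hfn IH hi hc hconn n hn
  · exact dec_case_i P Q hQP hfn IH hi n hn

theorem normalizer_conj_eq {G : Type*} [Group G] (Q : Subgroup G) (g : G) :
    Subgroup.normalizer ((Cfsg.subgroupConjRight g Q : Subgroup G) : Set G) =
      Cfsg.subgroupConjRight g (Subgroup.normalizer (Q : Set G)) :=
  (Subgroup.map_equiv_normalizer_eq Q (MulAut.conj g⁻¹)).symm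

/-- Fully normalized subgroups: every fusing element decomposes. -/
theorem dec_fully_normalized {G : Type*} [Group G] [Finite G] {p : ℕ} [Fact p.Prime]
    (P : Sylow p G) (Q : Subgroup G) (hQP : Q ≤ (P : Subgroup G)) (hQne : Q ≠ (P : Subgroup G))
    (hfn : ¬ p ∣ ((P : Subgroup G) ⊓ Subgroup.normalizer (Q : Set G)).relIndex
      (Subgroup.normalizer (Q : Set G)))
    (IH : ∀ D : Subgroup G, D ≤ (P : Subgroup G) → Nat.card ↥Q < Nat.card ↥D →
      ∀ g : G, Cfsg.subgroupConjRight g D ≤ (P : Subgroup G) → Dec p (P : Subgroup G) D g)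
    (g : G) (hg : Cfsg.subgroupConjRight g Q ≤ (P : Subgroup G)) :
    Dec p (P : Subgroup G) Q g := by
  set N : Subgroup G := Subgroup.normalizer (Q : Set G) with hN
  set R : Subgroup G := (P : Subgroup G) ⊓ N with hR
  have hRp : IsPGroup p ↥R := P.isPGroup'.to_le inf_le_left
  set Qg : Subgroup G := Cfsg.subgroupConjRight g Q with hQg
  set D : Subgroup G := (P : Subgroup G) ⊓ Subgroup.normalizer (Qg : Set G) with hD
  have hDp : IsPGroup p ↥D := P.isPGroup'.to_le inf_le_left
  have hQgne : Qg ≠ (P : Subgroup G) := by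
    intro h
    apply hQne
    apply Subgroup.eq_of_le_of_card_ge hQP
    rw [← h, hQg, card_subgroupConjRight]
  have hcardD : Nat.card ↥Q < Nat.card ↥D := by
    have := card_lt_inf_normalizer Qg (P : Subgroup G) P.isPGroup' hg hQgne
    rwa [hQg, card_subgroupConjRight] at this
  have hQgD : Qg ≤ D := le_inf hg Subgroup.le_normalizer
  -- move `D` back into `N`
  have hDN : Cfsg.subgroupConjRight g⁻¹ D ≤ N := by
    have h1 : D ≤ Cfsg.subgroupConjRight g N := by
      rw [← normalizer_conj_eq]; exact inf_le_right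
    have := subgroupConjRight_mono g⁻¹ h1
    rwa [subgroupConjRight_cancel_inv] at this
  have hDgp : IsPGroup p ↥(Cfsg.subgroupConjRight g⁻¹ D) := by
    apply IsPGroup.of_card (n := (Nat.card ↥D).factorization p)
    rw [card_subgroupConjRight]
    obtain ⟨k, hk⟩ := IsPGroup.iff_card.1 hDp
    rw [hk, Nat.Prime.factorization_pow (Fact.out)]
    simp
  obtain ⟨a, haN, ha⟩ := exists_conj_le_of_relIndex N R _ hRp hfn hDgp hDN
  -- `u = g⁻¹ a` maps `D` into `P`
  have hDu : Cfsg.subgroupConjRight (g⁻¹ * a) D ≤ (P : Subgroup G) := by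
    rw [← subgroupConjRight_mul]
    exact ha.trans inf_le_left
  have hdec_u : Dec p (P : Subgroup G) Qg (g⁻¹ * a) :=
    (IH D inf_le_left hcardD _ hDu).mono hQgD
  have hinv := hdec_u.inv
  have hQa : Cfsg.subgroupConjRight (g⁻¹ * a) Qg = Q := by
    rw [hQg, subgroupConjRight_mul]
    have : g * (g⁻¹ * a) = a := by group
    rw [this]
    exact subgroupConjRight_of_mem_normalizer a Q haN
  rw [hQa] at hinv
  have hdec_a : Dec p (P : Subgroup G) Q a := dec_normalizer P Q hQP hQne hfn IH a haN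
  have e : g = a * (g⁻¹ * a)⁻¹ := by group
  rw [e]
  exact Dec.mul_of_normalizer haN hdec_a hinv

/-- The main induction. -/
theorem dec_main {G : Type*} [Group G] [Finite G] {p : ℕ} [Fact p.Prime] (P : Sylow p G) :
    ∀ (k : ℕ) (Q : Subgroup G), Q ≤ (P : Subgroup G) →
      Nat.card ↥(P : Subgroup G) - Nat.card ↥Q = k →
      ∀ g : G, Cfsg.subgroupConjRight g Q ≤ (P : Subgroup G) → Dec p (P : Subgroup G) Q g := by
  intro k
  induction k using Nat.strong_induction_on with
  | _ k ih =>
  intro Q hQP hk g hg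
  have IH : ∀ D : Subgroup G, D ≤ (P : Subgroup G) → Nat.card ↥Q < Nat.card ↥D →
      ∀ g : G, Cfsg.subgroupConjRight g D ≤ (P : Subgroup G) → Dec p (P : Subgroup G) D g := by
    intro D hDP hcard g' hg'
    have hle : Nat.card ↥D ≤ Nat.card ↥(P : Subgroup G) := Subgroup.card_le_of_le hDP
    exact ih (Nat.card ↥(P : Subgroup G) - Nat.card ↥D) (by omega) D hDP rfl g' hg'
  by_cases hQne : Q = (P : Subgroup G)
  · -- `g` normalizes `P`
    have hgP : Cfsg.subgroupConjRight g (P : Subgroup G) ≤ (P : Subgroup G) := by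
      rw [hQne] at hg; exact hg
    have hgN : g ∈ Subgroup.normalizer ((P : Subgroup G) : Set G) :=
      mem_normalizer_of_subgroupConjRight_eq g (P : Subgroup G)
        (Subgroup.eq_of_le_of_card_ge hgP (by rw [card_subgroupConjRight]))
    exact Dec.of_normalizer hgN
  · obtain ⟨h, hh1, hh2⟩ := exists_fully_normalized P Q
    set D₀ : Subgroup G := (P : Subgroup G) ⊓ Subgroup.normalizer (Q : Set G) with hD₀
    have hcard₀ : Nat.card ↥Q < Nat.card ↥D₀ :=
      card_lt_inf_normalizer Q (P : Subgroup G) P.isPGroup' hQP hQne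
    have hQD₀ : Q ≤ D₀ := le_inf hQP Subgroup.le_normalizer
    have hdec_h : Dec p (P : Subgroup G) Q h := (IH D₀ inf_le_left hcard₀ h hh1).mono hQD₀
    set Q' : Subgroup G := Cfsg.subgroupConjRight h Q with hQ'
    have hQ'P : Q' ≤ (P : Subgroup G) := (subgroupConjRight_mono h hQD₀).trans hh1
    have hQ'ne : Q' ≠ (P : Subgroup G) := by
      intro h'
      apply hQne
      apply Subgroup.eq_of_le_of_card_ge hQP
      rw [← h', hQ', card_subgroupConjRight]
    have hcardQ' : Nat.card ↥Q' = Nat.card ↥Q := card_subgroupConjRight h Q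
    have IH' : ∀ D : Subgroup G, D ≤ (P : Subgroup G) → Nat.card ↥Q' < Nat.card ↥D →
        ∀ g : G, Cfsg.subgroupConjRight g D ≤ (P : Subgroup G) →
          Dec p (P : Subgroup G) D g := by
      intro D hDP hcard
      rw [hcardQ'] at hcard
      exact IH D hDP hcard
    have hg' : Cfsg.subgroupConjRight (h⁻¹ * g) Q' ≤ (P : Subgroup G) := by
      rw [hQ', subgroupConjRight_mul]
      have : h * (h⁻¹ * g) = g := by group
      rw [this]; exact hg
    have hdec' := dec_fully_normalized P Q' hQ'P hQ'ne hh2 IH' (h⁻¹ * g) hg'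
    have e : g = h * (h⁻¹ * g) := by group
    rw [e]
    exact Dec.comp hdec_h hdec'

end Cfsg.Agent.helper15
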