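import Mathlib

set_option autoImplicit false

/-! Finite nilpotent groups: elements of coprime orders commute; `p`-part decomposition. -/

namespace Cfsg.Agent.helper9.Nil

/-- In a finite nilpotent group, elements of coprime orders commute. -/
theorem commute_of_coprime {G : Type*} [Group G] [Finite G] (hG : Group.IsNilpotent G)
    (x y : G) (h : (orderOf x).Coprime (orderOf y)) : Commute x y := by
  obtain ⟨e⟩ := ((Group.isNilpotent_of_finite_tfae (G := G)).out 0 4).mp hG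
  have key : ∀ (z : G) (p : (Nat.card G).primeFactors) (P : Sylow p G),
      ¬ (p : ℕ) ∣ orderOf z → e.symm z p P = 1 := by
    intro z p P hpz
    have hpp : (p : ℕ).Prime := Nat.prime_of_mem_primeFactors p.2
    have h1 : (e.symm z p P) ^ orderOf z = 1 := by
      have h0 : (e.symm z) ^ orderOf z = 1 := by
        rw [← map_pow, pow_orderOf_eq_one, map_one]
      have h0' := congrFun (congrFun h0 p) P
      simpa using h0'
    obtain ⟨k, hk⟩ := P.isPGroup' (e.symm z p P)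
    have h2 : orderOf (e.symm z p P) ∣ (p : ℕ) ^ k := orderOf_dvd_of_pow_eq_one hk
    have h3 : orderOf (e.symm z p P) ∣ orderOf z := orderOf_dvd_of_pow_eq_one h1
    have hcop : ((p : ℕ) ^ k).Coprime (orderOf z) :=
      Nat.Coprime.pow_left k ((Nat.Prime.coprime_iff_not_dvd hpp).mpr hpz)
    have h4 : orderOf (e.symm z p P) = 1 :=
      Nat.Coprime.eq_one_of_dvd (hcop.coprime_dvd_left h2) h3
    exact orderOf_eq_one_iff.mp h4
  have hc : e.symm x * e.symm y = e.symm y * e.symm x := by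
    funext p P
    have hpp : (p : ℕ).Prime := Nat.prime_of_mem_primeFactors p.2
    by_cases hp : (p : ℕ) ∣ orderOf x
    · have hy : ¬ (p : ℕ) ∣ orderOf y := by
        intro hy
        have h5 := Nat.dvd_gcd hp hy
        rw [h.gcd_eq_one] at h5
        exact hpp.one_lt.ne' (Nat.dvd_one.mp h5)
      have h6 := key y p P hy
      simp [Pi.mul_apply, h6]
    · have h6 := key x p P hp
      simp [Pi.mul_apply, h6]
  have h7 := congrArg e hc
  rw [map_mul, map_mul, MulEquiv.apply_symm_apply, MulEquiv.apply_symm_apply] at h7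
  exact h7

/-- `p`-part / `p'`-part decomposition of an element of a finite group. -/
theorem exists_p_decomp {G : Type*} [Group G] [Finite G] (p : ℕ) (hp : p.Prime) (g : G) :
    ∃ a b : G, g = a * b ∧ g = b * a ∧ (∃ k, a ^ (p ^ k) = 1) ∧ ¬ p ∣ orderOf b ∧
      a ∈ Subgroup.zpowers g ∧ b ∈ Subgroup.zpowers g := by
  have ho : orderOf g ≠ 0 := (orderOf_pos g).ne'
  obtain ⟨k, s, hps, hos⟩ := Nat.exists_eq_pow_mul_and_not_dvd ho p hp.ne_one
  have hcop : (p ^ k).Coprime s :=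
    Nat.Coprime.pow_left k ((Nat.Prime.coprime_iff_not_dvd hp).mpr hps)
  have hbez := Nat.gcd_eq_gcd_ab (p ^ k) s
  rw [hcop.gcd_eq_one] at hbez
  have hsum : (s : ℤ) * Nat.gcdB (p ^ k) s + ((p ^ k : ℕ) : ℤ) * Nat.gcdA (p ^ k) s = 1 := by
    rw [add_comm]; exact_mod_cast hbez.symm
  have hab : (g ^ s) ^ (Nat.gcdB (p ^ k) s) * (g ^ (p ^ k)) ^ (Nat.gcdA (p ^ k) s) = g := by
    rw [← zpow_natCast g s, ← zpow_natCast g (p ^ k), ← zpow_mul, ← zpow_mul, ← zpow_add, hsum,
      zpow_one]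
  have hba : (g ^ (p ^ k)) ^ (Nat.gcdA (p ^ k) s) * (g ^ s) ^ (Nat.gcdB (p ^ k) s) = g := by
    rw [← zpow_natCast g s, ← zpow_natCast g (p ^ k), ← zpow_mul, ← zpow_mul, ← zpow_add,
      add_comm, hsum, zpow_one]
  refine ⟨(g ^ s) ^ (Nat.gcdB (p ^ k) s), (g ^ (p ^ k)) ^ (Nat.gcdA (p ^ k) s), hab.symm,
    hba.symm, ⟨k, ?_⟩, ?_, ?_, ?_⟩
  · have h1 : (g ^ s) ^ (p ^ k) = 1 := by
      rw [← pow_mul, mul_comm, ← hos, pow_orderOf_eq_one]
    rw [← zpow_natCast, ← zpow_mul, mul_comm, zpow_mul, zpow_natCast, h1, one_zpow]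
  · have h1 : (g ^ (p ^ k)) ^ s = 1 := by
      rw [← pow_mul, ← hos, pow_orderOf_eq_one]
    have h2 : ((g ^ (p ^ k)) ^ (Nat.gcdA (p ^ k) s)) ^ s = 1 := by
      rw [← zpow_natCast, ← zpow_mul, mul_comm, zpow_mul, zpow_natCast, h1, one_zpow]
    have h3 : orderOf ((g ^ (p ^ k)) ^ (Nat.gcdA (p ^ k) s)) ∣ s := orderOf_dvd_of_pow_eq_one h2
    intro h4
    exact hps (h4.trans h3)
  · exact Subgroup.zpow_mem _ (Subgroup.pow_mem _ (Subgroup.mem_zpowers g) _) _
  · exact Subgroup.zpow_mem _ (Subgroup.pow_mem _ (Subgroup.mem_zpowers g) _) _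

end Cfsg.Agent.helper9.Nil
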