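import Mathlib
import Cfsg.Agent.Lib_helper7_Fitting
import Cfsg.Agent.Lib_helper7_Comp
import Cfsg.Agent.Lib_helper9_NilA
import Cfsg.Agent.S0044

set_option autoImplicit false
set_option linter.style.haveILetI false
set_option linter.unusedSectionVars false
set_option maxHeartbeats 800000

/-! Generic facts on the relative Fitting subgroup `fitOf H` and the cores `piCoreIn {p} H`. -/

namespace Cfsg.Agent.helper15.BL

open Cfsg.Agent.helper7
open scoped commutatorElement

universe u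

variable {G : Type u} [Group G] [Finite G]

/-- `p`-subgroups of `F(H)` lie in `O_p(H)`. -/
theorem pgroup_le_core {p : ℕ} [hp : Fact p.Prime] (H P : Subgroup G) (hPF : P ≤ fitOf H)
    (hP : IsPGroup p P) : P ≤ piCoreIn {p} H := by
  obtain ⟨F, hF⟩ : ∃ F : Subgroup G, F = fitOf H := ⟨_, rfl⟩
  rw [← hF] at hPF
  haveI hnil : Group.IsNilpotent ↥F := by rw [hF]; exact fitOf_nilpotent H
  have hP' : IsPGroup p (P.subgroupOf F) := hP.comap_subtype
  obtain ⟨S, hS⟩ := hP'.exists_le_sylow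
  have hSn : (S : Subgroup ↥F).Normal := by
    have h : Group.IsNilpotent ↥F ↔ ∀ (p : ℕ), Fact (Nat.Prime p) → ∀ (P : Sylow p ↥F),
        (P : Subgroup ↥F).Normal := (Group.isNilpotent_of_finite_tfae (G := ↥F)).out 0 3
    exact h.mp hnil p inferInstance S
  obtain ⟨S₀, hS₀⟩ : ∃ S₀ : Subgroup G, S₀ = (S : Subgroup ↥F).map F.subtype := ⟨_, rfl⟩
  have hS₀F : S₀ ≤ F := by rw [hS₀]; exact Subgroup.map_subtype_le _
  have hFN : F ≤ Subgroup.normalizer (S₀ : Set G) := by
    have h := Subgroup.le_normalizer_map (H := (S : Subgroup ↥F)) F.subtype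
    rw [Subgroup.normalizer_eq_top (S : Subgroup ↥F), ← MonoidHom.range_eq_map,
      Subgroup.range_subtype] at h
    rw [hS₀]; exact h
  have hsn1 : SN S₀ F := SN.of_normal hS₀F hFN
  have hsn2 : SN F H := by
    rw [hF]; exact SN.of_normal (fitOf_le H) (fitOf_normal H)
  have hS₀p : IsPGroup p S₀ := by rw [hS₀]; exact S.isPGroup'.map F.subtype
  have h1 : S₀ ≤ piCoreIn {p} H :=
    le_piCoreIn_of_sn (hsn1.trans hsn2) ((isPGroup_iff_piGrp hp.out).1 hS₀p)
  intro x hx
  apply h1
  rw [hS₀]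
  exact ⟨⟨x, hPF hx⟩, hS (by rw [Subgroup.mem_subgroupOf]; exact hx), rfl⟩

/-- Cores for distinct primes commute elementwise. -/
theorem core_commute {p r : ℕ} (hpr : p ≠ r) (H : Subgroup G) (x y : G)
    (hx : x ∈ piCoreIn {p} H) (hy : y ∈ piCoreIn {r} H) : x * y = y * x := by
  have h1 : ⁅piCoreIn {p} H, piCoreIn {r} H⁆ ≤ piCoreIn {p} H ⊓ piCoreIn {r} H := by
    apply le_inf
    · exact comm_le_of_normal le_rfl ((piCoreIn_le _ H).trans (piCoreIn_normal _ H))
    · rw [Subgroup.commutator_comm]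
      exact comm_le_of_normal le_rfl ((piCoreIn_le _ H).trans (piCoreIn_normal _ H))
  have h2 : piCoreIn {p} H ⊓ piCoreIn {r} H = ⊥ :=
    piGrp_inf_eq_bot (π := {p}) (π' := {r})
      (fun q hq hq' => hpr (by
        rw [Set.mem_singleton_iff] at hq hq'
        rw [← hq, ← hq']))
      (piCoreIn_piGrp _ H) (piCoreIn_piGrp _ H)
  rw [h2, le_bot_iff] at h1
  have h3 : ⁅x, y⁆ = 1 := by
    have := Subgroup.commutator_mem_commutator hx hy
    rw [h1, Subgroup.mem_bot] at this
    exact this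
  exact commutatorElement_eq_one_iff_mul_comm.mp h3

/-- A subgroup centralizing every `O_r(H)` centralizes `F(H)`. -/
theorem le_centralizer_fitOf (H Y : Subgroup G)
    (h : ∀ r : ℕ, r.Prime → Y ≤ Subgroup.centralizer ((piCoreIn {r} H : Subgroup G) : Set G)) :
    Y ≤ Subgroup.centralizer ((fitOf H : Subgroup G) : Set G) := by
  rw [Subgroup.le_centralizer_iff, fitOf_eq_iSup]
  apply iSup_le
  rintro ⟨r, hr⟩
  rw [← Subgroup.le_centralizer_iff]
  exact h r hr

/-- Elements of coprime order in `F(H)` commute. -/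
theorem commute_in_fitOf (H : Subgroup G) (x y : G) (hx : x ∈ fitOf H) (hy : y ∈ fitOf H)
    (hcop : (orderOf x).Coprime (orderOf y)) : x * y = y * x := by
  have hnil : Group.IsNilpotent ↥(fitOf H) := fitOf_nilpotent H
  have h1 := Cfsg.Agent.helper9.Nil.commute_of_coprime hnil ⟨x, hx⟩ ⟨y, hy⟩
    (by rw [Subgroup.orderOf_mk, Subgroup.orderOf_mk]; exact hcop)
  have h2 := congrArg Subtype.val h1.eq
  simpa using h2

/-- Relative form of `C_K(F(K)) ≤ F(K)` for a solvable subgroup `K`. -/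
theorem inf_centralizer_fitOf_le (K : Subgroup G) (hK : Group.IsSolvable ↥K) :
    K ⊓ Subgroup.centralizer ((fitOf K : Subgroup G) : Set G) ≤ fitOf K := by
  haveI := hK
  intro x hx
  obtain ⟨hxK, hxC⟩ := Subgroup.mem_inf.mp hx
  rw [← map_fittingSubgroup_eq]
  refine ⟨⟨x, hxK⟩, ?_, rfl⟩
  apply Cfsg.Agent.S0044.result (G := ↥K)
  rw [Subgroup.mem_centralizer_iff]
  intro y hy
  apply Subtype.ext
  have hy' : (y : G) ∈ fitOf K := by
    rw [← map_fittingSubgroup_eq]; exact ⟨y, hy, rfl⟩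
  have := Subgroup.mem_centralizer_iff.1 hxC (y : G) hy'
  simpa using this

end Cfsg.Agent.helper15.BL
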