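import Mathlib
import Cfsg.Prelude.Def_CaseTheorems
import Cfsg.Agent.Lib_helper15_BL1
import Cfsg.Agent.Lib_helper7_PQ

set_option autoImplicit false
set_option linter.style.haveILetI false
set_option linter.unusedSectionVars false
set_option maxHeartbeats 800000

/-! A maximal local subgroup `H`, and `M ≤ F(H)` with `C_{F(H)}(M) ≤ M`: basic consequences. -/

namespace Cfsg.Agent.helper15.BL

open Cfsg.Agent.helper7
open scoped commutatorElement

universe u

variable {G : Type u} [Group G] [Finite G]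

/-- The running hypotheses. -/
structure MaxLoc (H M : Subgroup G) : Prop where
  hmax : ∀ L : Subgroup G, Cfsg.IsLocalSubgroup L → H ≤ L → L = H
  hM : M ≤ fitOf H
  hCM : fitOf H ⊓ Subgroup.centralizer (M : Set G) ≤ M

variable {H M : Subgroup G}

theorem core_isPGroup {p : ℕ} [hp : Fact p.Prime] (H : Subgroup G) :
    IsPGroup p (piCoreIn {p} H) :=
  (isPGroup_iff_piGrp hp.out).2 (piCoreIn_piGrp _ H)

/-- `C_{O_p(H)}(M ∩ O_p(H)) ≤ M`. -/
theorem MaxLoc.core_cent_le (h : MaxLoc H M) (p : ℕ) [hp : Fact p.Prime] :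
    piCoreIn {p} H ⊓ Subgroup.centralizer ((M ⊓ piCoreIn {p} H : Subgroup G) : Set G) ≤ M := by
  intro x hx
  obtain ⟨hxF, hxC⟩ := Subgroup.mem_inf.mp hx
  have hxfit : x ∈ fitOf H := piCoreIn_le_fitOf hp.out H hxF
  apply h.hCM
  refine Subgroup.mem_inf.mpr ⟨hxfit, ?_⟩
  refine Subgroup.mem_centralizer_iff.2 ?_
  intro m hm
  obtain ⟨a, b, hab, -, ⟨k, hak⟩, hb, haz, hbz⟩ :=
    Cfsg.Agent.helper9.Nil.exists_p_decomp p hp.out m
  have haM : a ∈ M := (Subgroup.zpowers_le.2 hm) haz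
  have hbM : b ∈ M := (Subgroup.zpowers_le.2 hm) hbz
  -- `a` lies in `O_p(H)`
  have haF : a ∈ piCoreIn {p} H := by
    have h1 : Subgroup.zpowers a ≤ piCoreIn {p} H := by
      apply pgroup_le_core H
      · exact Subgroup.zpowers_le.2 (h.hM haM)
      · have : IsPGroup p (Subgroup.zpowers a) := by
          rw [IsPGroup.iff_orderOf]
          rintro ⟨y, hy⟩
          obtain ⟨n, rfl⟩ := Subgroup.mem_zpowers_iff.1 hy
          have h2 : orderOf (a ^ n) ∣ p ^ k := by
            apply orderOf_dvd_of_pow_eq_one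
            rw [← zpow_natCast, ← zpow_mul, mul_comm, zpow_mul, zpow_natCast, hak, one_zpow]
          obtain ⟨j, -, hj⟩ := (Nat.dvd_prime_pow hp.out).1 h2
          exact ⟨j, by rw [Subgroup.orderOf_mk]; exact hj⟩
        exact this
    exact h1 (Subgroup.mem_zpowers a)
  have h1 : a * x = x * a :=
    Subgroup.mem_centralizer_iff.1 hxC a (Subgroup.mem_inf.mpr ⟨haM, haF⟩)
  -- `b` has order prime to `p`, `x` is a `p`-element
  have h2 : b * x = x * b := by
    apply commute_in_fitOf H b x (h.hM hbM) hxfit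
    have hxo : ∃ j, orderOf x = p ^ j := by
      have := (core_isPGroup (p := p) H)
      rw [IsPGroup.iff_orderOf] at this
      obtain ⟨j, hj⟩ := this ⟨x, hxF⟩
      exact ⟨j, by rw [Subgroup.orderOf_mk] at hj; exact hj⟩
    obtain ⟨j, hj⟩ := hxo
    rw [hj]
    apply Nat.Coprime.pow_right
    exact ((Nat.Prime.coprime_iff_not_dvd hp.out).2 hb).symm
  rw [hab, mul_assoc, h2, ← mul_assoc, h1, mul_assoc]

/-- `Z(O_p(H)) ≤ M ∩ O_p(H)`. -/
theorem MaxLoc.center_core_le (h : MaxLoc H M) (p : ℕ) [hp : Fact p.Prime] :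
    piCoreIn {p} H ⊓ Subgroup.centralizer ((piCoreIn {p} H : Subgroup G) : Set G) ≤
      M ⊓ piCoreIn {p} H := by
  intro x hx
  obtain ⟨hxF, hxC⟩ := Subgroup.mem_inf.mp hx
  refine Subgroup.mem_inf.mpr ⟨?_, hxF⟩
  apply h.core_cent_le p
  refine Subgroup.mem_inf.mpr ⟨hxF, ?_⟩
  exact Subgroup.centralizer_le (by
    intro y hy; exact (Subgroup.mem_inf.mp hy).2) hxC

/-- The centre of a nontrivial `O_p(H)` is nontrivial. -/
theorem center_core_ne_bot (H : Subgroup G) (p : ℕ) [hp : Fact p.Prime]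
    (hne : piCoreIn {p} H ≠ ⊥) :
    piCoreIn {p} H ⊓ Subgroup.centralizer ((piCoreIn {p} H : Subgroup G) : Set G) ≠ ⊥ := by
  obtain ⟨F, hF⟩ : ∃ F : Subgroup G, F = piCoreIn {p} H := ⟨_, rfl⟩
  rw [← hF] at hne ⊢
  have hFp : IsPGroup p F := by rw [hF]; exact core_isPGroup H
  haveI : Nontrivial ↥F := (Subgroup.nontrivial_iff_ne_bot F).2 hne
  haveI := hFp.center_nontrivial
  obtain ⟨z, hz⟩ := exists_ne (1 : ↥(Subgroup.center ↥F))
  intro hbot
  apply hz
  have hz1 : ((z : ↥F) : G) ∈ F ⊓ Subgroup.centralizer ((F : Subgroup G) : Set G) := by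
    refine Subgroup.mem_inf.mpr ⟨(z : ↥F).2, ?_⟩
    refine Subgroup.mem_centralizer_iff.2 ?_
    intro y hy
    have := Subgroup.mem_center_iff.1 z.2 ⟨y, hy⟩
    exact congrArg Subtype.val this
  rw [hbot, Subgroup.mem_bot] at hz1
  apply Subtype.ext
  apply Subtype.ext
  exact hz1

/-- `C_G(M ∩ O_p(H)) ≤ H` when `O_p(H) ≠ 1`. -/
theorem MaxLoc.centralizer_le (h : MaxLoc H M) (p : ℕ) [hp : Fact p.Prime]
    (hne : piCoreIn {p} H ≠ ⊥) :
    Subgroup.centralizer ((M ⊓ piCoreIn {p} H : Subgroup G) : Set G) ≤ H := by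
  obtain ⟨Z, hZ⟩ : ∃ Z : Subgroup G,
    Z = piCoreIn {p} H ⊓ Subgroup.centralizer ((piCoreIn {p} H : Subgroup G) : Set G) := ⟨_, rfl⟩
  have hZne : Z ≠ ⊥ := by rw [hZ]; exact center_core_ne_bot H p hne
  have hZp : IsPGroup p Z := by
    rw [hZ]; exact (core_isPGroup H).to_le inf_le_left
  have hHZ : H ≤ Subgroup.normalizer (Z : Set G) := by
    rw [hZ]
    have h1 : H ≤ Subgroup.normalizer ((piCoreIn {p} H : Subgroup G) : Set G) :=
      piCoreIn_normal _ H
    refine le_trans (le_inf h1 (h1.trans ?_)) Subgroup.inf_normalizer_le_normalizer_inf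
    intro g hg
    apply mem_normalizer_of_cj_eq
    rw [cj_centralizer, cj_eq_of_mem_normalizer hg]
  have hloc : Cfsg.IsLocalSubgroup (Subgroup.normalizer (Z : Set G)) :=
    ⟨p, Z, hp.out, hZp, hZne, rfl⟩
  have hNZ : Subgroup.normalizer (Z : Set G) = H := h.hmax _ hloc hHZ
  have hZM : Z ≤ M ⊓ piCoreIn {p} H := by rw [hZ]; exact h.center_core_le p
  calc Subgroup.centralizer ((M ⊓ piCoreIn {p} H : Subgroup G) : Set G)
      ≤ Subgroup.centralizer (Z : Set G) := Subgroup.centralizer_le hZM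
    _ ≤ Subgroup.normalizer (Z : Set G) := Subgroup.centralizer_le_normalizer _
    _ = H := hNZ

theorem normalizer_le_normalizer_centralizer (T : Subgroup G) :
    Subgroup.normalizer (T : Set G) ≤
      Subgroup.normalizer ((Subgroup.centralizer (T : Set G) : Subgroup G) : Set G) := by
  intro g hg
  apply mem_normalizer_of_cj_eq
  rw [cj_centralizer, cj_eq_of_mem_normalizer hg]

/-- An `M_p`-invariant `p'`-subgroup `Y` of `H` centralizes `O_p(H)`. -/
theorem MaxLoc.le_centralizer_core (h : MaxLoc H M) (p : ℕ) [hp : Fact p.Prime]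
    (Y : Subgroup G) (hYH : Y ≤ H) (hcop : (Nat.card Y).Coprime p)
    (hMY : M ⊓ piCoreIn {p} H ≤ Subgroup.normalizer (Y : Set G)) :
    Y ≤ Subgroup.centralizer ((piCoreIn {p} H : Subgroup G) : Set G) := by
  obtain ⟨F, hF⟩ : ∃ F : Subgroup G, F = piCoreIn {p} H := ⟨_, rfl⟩
  have hcc := h.core_cent_le p
  rw [← hF] at hMY hcc ⊢
  have hFp : IsPGroup p F := by rw [hF]; exact core_isPGroup H
  have hHF : H ≤ Subgroup.normalizer (F : Set G) := by rw [hF]; exact piCoreIn_normal _ H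
  have hYF : Y ⊓ F = ⊥ := by
    apply Subgroup.inf_eq_bot_of_coprime
    obtain ⟨k, hk⟩ := hFp.exists_card_eq
    rw [hk]; exact Nat.Coprime.pow_right k hcop
  have h1 : ⁅Y, M ⊓ F⁆ = ⊥ := by
    rw [eq_bot_iff, ← hYF]
    apply le_inf
    · exact comm_le_of_normal le_rfl hMY
    · rw [Subgroup.commutator_comm]
      exact comm_le_of_normal inf_le_right (hYH.trans hHF)
  have hYC : Y ≤ Subgroup.centralizer ((M ⊓ F : Subgroup G) : Set G) :=
    Subgroup.commutator_eq_bot_iff_le_centralizer.1 h1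
  apply thompson_PxQ (p := p) (P := M ⊓ F) (Q := Y) (U := F) (hFp.to_le inf_le_right) hcop hFp
  · rw [Subgroup.le_centralizer_iff]; exact hYC
  · exact inf_le_right.trans Subgroup.le_normalizer
  · exact hYH.trans hHF
  · intro x hx
    have hxM : x ∈ M := hcc hx
    have hxMF : x ∈ M ⊓ F := Subgroup.mem_inf.mpr ⟨hxM, (Subgroup.mem_inf.mp hx).1⟩
    refine Subgroup.mem_centralizer_iff.2 ?_
    intro y hy
    have := Subgroup.mem_centralizer_iff.1 (hYC hy) x hxMF
    exact this.symm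

theorem core_eq_bot_of_not_dvd (H : Subgroup G) (r : ℕ) [hr : Fact r.Prime]
    (hrF : ¬ r ∣ Nat.card (fitOf H)) : piCoreIn {r} H = ⊥ := by
  have h1 : piCoreIn {r} H ≤ fitOf H := piCoreIn_le_fitOf hr.out H
  obtain ⟨k, hk⟩ := (core_isPGroup (p := r) H).exists_card_eq
  have h2 : r ^ k ∣ Nat.card (fitOf H) := by
    rw [← hk]; exact Subgroup.card_dvd_of_le h1
  rcases Nat.eq_zero_or_pos k with hk0 | hk0
  · rw [hk0, pow_zero] at hk
    exact Subgroup.eq_bot_of_card_eq _ hk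
  · exact absurd ((dvd_pow_self r hk0.ne').trans h2) hrF

theorem core_ne_bot_of_dvd (H : Subgroup G) (r : ℕ) [hr : Fact r.Prime]
    (hrF : r ∣ Nat.card (fitOf H)) : piCoreIn {r} H ≠ ⊥ := by
  obtain ⟨x, hx⟩ := exists_prime_orderOf_dvd_card' (G := ↥(fitOf H)) r hrF
  intro hbot
  have h1 : Subgroup.zpowers (x : G) ≤ piCoreIn {r} H := by
    apply pgroup_le_core H
    · exact Subgroup.zpowers_le.2 x.2
    · have hc : Nat.card (Subgroup.zpowers (x : G)) = r ^ 1 := by
        rw [Nat.card_zpowers, Subgroup.orderOf_coe, hx, pow_one]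
      exact IsPGroup.of_card hc
  rw [hbot, Subgroup.zpowers_le, Subgroup.mem_bot] at h1
  have h2 : orderOf (x : G) = r := by rw [Subgroup.orderOf_coe]; exact hx
  rw [h1, orderOf_one] at h2
  exact hr.out.ne_one h2.symm

/-- For an `M`-invariant subgroup `Y` of order prime to `|F(H)|`, `C_Y(M_p) ≤ C_H(F(H))`. -/
theorem MaxLoc.inf_centralizer_le (h : MaxLoc H M) (p : ℕ) [hp : Fact p.Prime]
    (hne : piCoreIn {p} H ≠ ⊥) (Y : Subgroup G) (hMY : M ≤ Subgroup.normalizer (Y : Set G))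
    (hcop : (Nat.card Y).Coprime (Nat.card (fitOf H))) :
    Y ⊓ Subgroup.centralizer ((M ⊓ piCoreIn {p} H : Subgroup G) : Set G) ≤
      H ⊓ Subgroup.centralizer ((fitOf H : Subgroup G) : Set G) := by
  obtain ⟨Y₀, hY₀⟩ : ∃ Y₀ : Subgroup G,
    Y₀ = Y ⊓ Subgroup.centralizer ((M ⊓ piCoreIn {p} H : Subgroup G) : Set G) := ⟨_, rfl⟩
  rw [← hY₀]
  have hY₀H : Y₀ ≤ H := by rw [hY₀]; exact inf_le_right.trans (h.centralizer_le p hne)
  have hMH : M ≤ H := h.hM.trans (fitOf_le H)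
  have hMN : M ≤ Subgroup.normalizer ((M ⊓ piCoreIn {p} H : Subgroup G) : Set G) :=
    (le_inf Subgroup.le_normalizer (hMH.trans (piCoreIn_normal _ H))).trans
      Subgroup.inf_normalizer_le_normalizer_inf
  have hMY₀ : M ≤ Subgroup.normalizer (Y₀ : Set G) := by
    rw [hY₀]
    exact (le_inf hMY (hMN.trans (normalizer_le_normalizer_centralizer _))).trans
      Subgroup.inf_normalizer_le_normalizer_inf
  have hcop₀ : (Nat.card Y₀).Coprime (Nat.card (fitOf H)) :=
    Nat.Coprime.coprime_dvd_left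
      (Subgroup.card_dvd_of_le (by rw [hY₀]; exact inf_le_left)) hcop
  refine le_inf hY₀H ?_
  apply le_centralizer_fitOf
  intro r hr
  haveI : Fact r.Prime := ⟨hr⟩
  by_cases hrF : r ∣ Nat.card (fitOf H)
  · apply h.le_centralizer_core r Y₀ hY₀H
    · exact Nat.Coprime.coprime_dvd_right hrF hcop₀
    · exact inf_le_left.trans hMY₀
  · rw [core_eq_bot_of_not_dvd H r hrF]
    intro y _
    refine Subgroup.mem_centralizer_iff.2 ?_
    intro z hz
    have hz1 : z = 1 := by simpa using hz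
    rw [hz1, one_mul, mul_one]

/-- For an `M`-invariant subgroup `Y` of `R` of order prime to `|F(H)|`, where `R` is solvable and
normalized by `C_H(F(H))`: `C_Y(M_p) = 1`. -/
theorem MaxLoc.inf_centralizer_eq_bot (h : MaxLoc H M) (p : ℕ) [hp : Fact p.Prime]
    (hne : piCoreIn {p} H ≠ ⊥) (R : Subgroup G) (hR : Group.IsSolvable ↥R)
    (hXR : H ⊓ Subgroup.centralizer ((fitOf H : Subgroup G) : Set G) ≤
      Subgroup.normalizer (R : Set G))
    (Y : Subgroup G) (hYR : Y ≤ R) (hMY : M ≤ Subgroup.normalizer (Y : Set G))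
    (hcop : (Nat.card Y).Coprime (Nat.card (fitOf H))) :
    Y ⊓ Subgroup.centralizer ((M ⊓ piCoreIn {p} H : Subgroup G) : Set G) = ⊥ := by
  have hK4 := h.inf_centralizer_le p hne Y hMY hcop
  obtain ⟨Y₀, hY₀⟩ : ∃ Y₀ : Subgroup G,
    Y₀ = Y ⊓ Subgroup.centralizer ((M ⊓ piCoreIn {p} H : Subgroup G) : Set G) := ⟨_, rfl⟩
  obtain ⟨X, hX⟩ : ∃ X : Subgroup G,
    X = H ⊓ Subgroup.centralizer ((fitOf H : Subgroup G) : Set G) := ⟨_, rfl⟩
  rw [← hY₀, ← hX] at hK4
  rw [← hX] at hXR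
  rw [← hY₀]
  have hY₀Y : Y₀ ≤ Y := by rw [hY₀]; exact inf_le_left
  obtain ⟨R₀, hR₀⟩ : ∃ R₀ : Subgroup G, R₀ = R ⊓ X := ⟨_, rfl⟩
  have hY₀R₀ : Y₀ ≤ R₀ := by rw [hR₀]; exact le_inf (hY₀Y.trans hYR) hK4
  have hR₀s : Group.IsSolvable ↥R₀ := by
    have hle : R₀ ≤ R := by rw [hR₀]; exact inf_le_left
    exact Group.isSolvable_of_isSolvable_injective (f := Subgroup.inclusion hle)
      (Subgroup.inclusion_injective hle)
  -- subnormal chain
  have hsn1 : SN (fitOf R₀) R₀ := SN.of_normal (fitOf_le R₀) (fitOf_normal R₀)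
  have hsn2 : SN R₀ X := by
    apply SN.of_normal (by rw [hR₀]; exact inf_le_right)
    rw [hR₀]
    exact (le_inf hXR Subgroup.le_normalizer).trans Subgroup.inf_normalizer_le_normalizer_inf
  have hsn3 : SN X H := by
    apply SN.of_normal (by rw [hX]; exact inf_le_left)
    rw [hX]
    refine (le_inf Subgroup.le_normalizer ?_).trans Subgroup.inf_normalizer_le_normalizer_inf
    exact (fitOf_normal H).trans (normalizer_le_normalizer_centralizer _)
  have hA : fitOf R₀ ≤ fitOf H :=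
    nilpotent_sn_le_fitOf ((hsn1.trans hsn2).trans hsn3) (fitOf_nilpotent R₀)
  have hY₀C : Y₀ ≤ Subgroup.centralizer ((fitOf R₀ : Subgroup G) : Set G) := by
    refine hK4.trans ?_
    rw [hX]
    exact inf_le_right.trans (Subgroup.centralizer_le hA)
  have hY₀A : Y₀ ≤ fitOf R₀ :=
    (le_inf hY₀R₀ hY₀C).trans (inf_centralizer_fitOf_le R₀ hR₀s)
  have hbot : Y ⊓ fitOf H = ⊥ := Subgroup.inf_eq_bot_of_coprime hcop
  rw [eq_bot_iff, ← hbot]
  exact le_inf hY₀Y (hY₀A.trans hA)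

end Cfsg.Agent.helper15.BL
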