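import Mathlib
import Cfsg.Agent.Lib_helper15_BL2
import Cfsg.Agent.Lib_lead_Coprime3

set_option autoImplicit false
set_option linter.style.haveILetI false
set_option linter.unusedSectionVars false
set_option maxHeartbeats 1600000

/-! Quotient argument: invariant `q`-subgroups on which certain `r`-groups act without fixed points
lie in the kernel of a quotient map whose kernel is `O_σ(R)`. -/

namespace Cfsg.Agent.helper15.BL

open Cfsg.Agent.helper7
open scoped commutatorElement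

universe u

variable {L : Type u} [Group L] [Finite L]

/-- A `p`-group `P` stabilizing the coset `x D` of a `p'`-group `D` that it normalizes fixes a point
of that coset. -/
theorem exists_fixed_in_coset_pgroup {p : ℕ} [hp : Fact p.Prime]
    (P D : Subgroup L) (hP : IsPGroup p P) (hPD : P ≤ Subgroup.normalizer (D : Set L))
    (hpD : ¬ p ∣ Nat.card D) (x : L) (hx : ∀ a ∈ P, x⁻¹ * a * x * a⁻¹ ∈ D) :
    ∃ d ∈ D, x * d ∈ Subgroup.centralizer (P : Set L) := by
  letI act : MulAction ↥P ↥D :=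
    { smul := fun a d => ⟨x⁻¹ * a * x * d * (a : L)⁻¹, by
        have h1 := hx a a.2
        have h2 : (a : L) * d * (a : L)⁻¹ ∈ D :=
          (Subgroup.mem_normalizer_iff.1 (hPD a.2) d).1 d.2
        have h3 : x⁻¹ * a * x * d * (a : L)⁻¹ =
            (x⁻¹ * a * x * (a : L)⁻¹) * ((a : L) * d * (a : L)⁻¹) := by group
        rw [h3]; exact D.mul_mem h1 h2⟩
      one_smul := fun d => by
        apply Subtype.ext
        show x⁻¹ * ((1 : ↥P) : L) * x * d * ((1 : ↥P) : L)⁻¹ = d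
        rw [Subgroup.coe_one]; group
      mul_smul := fun a b d => by
        apply Subtype.ext
        show x⁻¹ * ((a * b : ↥P) : L) * x * d * ((a * b : ↥P) : L)⁻¹ =
          x⁻¹ * (a : L) * x * (x⁻¹ * (b : L) * x * d * (b : L)⁻¹) * (a : L)⁻¹
        rw [Subgroup.coe_mul]; group }
  obtain ⟨d, hd⟩ := hP.nonempty_fixed_point_of_prime_not_dvd_card ↥D hpD
  refine ⟨d, d.2, ?_⟩
  refine Subgroup.mem_centralizer_iff.2 ?_
  intro a ha
  have h1 : (⟨a, ha⟩ : ↥P) • d = d := hd ⟨a, ha⟩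
  have h2 : x⁻¹ * a * x * d * a⁻¹ = d := congrArg Subtype.val h1
  calc a * (x * d) = x * (x⁻¹ * a * x * d * a⁻¹) * a := by group
    _ = x * d * a := by rw [h2]

variable {Γ : Type u} [Group Γ] [Finite Γ]

theorem comap_map_of_ker_le (f : L →* Γ) (R : Subgroup L) (h : f.ker ≤ R) :
    (R.map f).comap f = R := by
  rw [Subgroup.comap_map_eq, sup_eq_left.2 h]

/-- `O_s(R / D) = 1` for `s ∈ σ` when `D = O_σ(R)`. -/
theorem core_map_eq_bot (f : L →* Γ) (hf : Function.Surjective f) (R : Subgroup L)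
    (hkR : f.ker ≤ R) (σ : Set ℕ) (hDσ : PiGrp σ f.ker)
    (hDmax : ∀ N : Subgroup L, N ≤ R → R ≤ Subgroup.normalizer (N : Set L) → PiGrp σ N → N ≤ f.ker)
    (s : ℕ) [hs : Fact s.Prime] (hsσ : s ∈ σ) :
    piCoreIn {s} (R.map f) = ⊥ := by
  obtain ⟨T, hT⟩ : ∃ T : Subgroup Γ, T = piCoreIn {s} (R.map f) := ⟨_, rfl⟩
  rw [← hT]
  have hTp : IsPGroup s T := by rw [hT]; exact core_isPGroup _
  have hTR : T ≤ R.map f := by rw [hT]; exact piCoreIn_le _ _
  have hRT : R.map f ≤ Subgroup.normalizer (T : Set Γ) := by rw [hT]; exact piCoreIn_normal _ _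
  have h1 : T.comap f ≤ R := by
    rw [← comap_map_of_ker_le f R hkR]; exact Subgroup.comap_mono hTR
  have h2 : R ≤ Subgroup.normalizer ((T.comap f : Subgroup L) : Set L) := by
    intro g hg
    apply Subgroup.le_normalizer_comap f
    rw [Subgroup.mem_comap]
    exact hRT ⟨g, hg, rfl⟩
  have h3 : PiGrp σ (T.comap f) := by
    intro x hx t ht htx
    rw [Subgroup.mem_comap] at hx
    obtain ⟨k, hk⟩ := (IsPGroup.iff_orderOf.1 hTp) ⟨f x, hx⟩
    rw [Subgroup.orderOf_mk] at hk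
    have h4 : x ^ (s ^ k) ∈ f.ker := by
      rw [MonoidHom.mem_ker, map_pow, ← hk, pow_orderOf_eq_one]
    have h5 : orderOf x ∣ s ^ k * orderOf (x ^ (s ^ k)) := by
      apply orderOf_dvd_of_pow_eq_one
      rw [pow_mul, pow_orderOf_eq_one]
    have h6 := htx.trans h5
    rcases (Nat.Prime.dvd_mul ht).1 h6 with h7 | h7
    · have := (Nat.prime_dvd_prime_iff_eq ht hs.out).1 (ht.dvd_of_dvd_pow h7)
      rw [this]; exact hsσ
    · exact hDσ _ h4 t ht h7
  have h4 := hDmax _ h1 h2 h3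
  rw [eq_bot_iff, ← Subgroup.map_comap_eq_self_of_surjective hf T]
  intro y hy
  obtain ⟨x, hx, rfl⟩ := hy
  rw [Subgroup.mem_bot]
  exact MonoidHom.mem_ker.1 (h4 hx)

/-- The `r`-group `B` centralizes `O_p(R / D)`. -/
theorem centralizes_core_map (f : L →* Γ) (hf : Function.Surjective f) (R P B : Subgroup L)
    (hkR : f.ker ≤ R) {p r : ℕ} [hp : Fact p.Prime] [hr : Fact r.Prime] (hrp : r ≠ p)
    (hP : IsPGroup p P) (hB : IsPGroup r B) (hpD : ¬ p ∣ Nat.card f.ker)
    (hrD : ¬ r ∣ Nat.card f.ker)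
    (hPB : P ≤ Subgroup.centralizer (B : Set L))
    (hPR : P ≤ Subgroup.normalizer (R : Set L)) (hBR : B ≤ Subgroup.normalizer (R : Set L))
    (hyp : ∀ Y : Subgroup L, Y ≤ R → Y ≤ Subgroup.centralizer (P : Set L) →
      B ≤ Subgroup.normalizer (Y : Set L) → ¬ r ∣ Nat.card Y →
      Y ≤ Subgroup.centralizer (B : Set L)) :
    B.map f ≤ Subgroup.centralizer ((piCoreIn {p} (R.map f) : Subgroup Γ) : Set Γ) := by
  obtain ⟨U, hU⟩ : ∃ U : Subgroup Γ, U = piCoreIn {p} (R.map f) := ⟨_, rfl⟩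
  rw [← hU]
  have hUp : IsPGroup p U := by rw [hU]; exact core_isPGroup _
  have hUR : U ≤ R.map f := by rw [hU]; exact piCoreIn_le _ _
  have hNU : Subgroup.normalizer ((R.map f : Subgroup Γ) : Set Γ) ≤
      Subgroup.normalizer (U : Set Γ) := by
    rw [hU]; exact normalizer_le_normalizer_radOf (fun g _ h => h.conj g) _
  have hPU : P.map f ≤ Subgroup.normalizer (U : Set Γ) :=
    ((Subgroup.map_mono hPR).trans (Subgroup.le_normalizer_map f)).trans hNU
  have hBU : B.map f ≤ Subgroup.normalizer (U : Set Γ) :=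
    ((Subgroup.map_mono hBR).trans (Subgroup.le_normalizer_map f)).trans hNU
  have hkn : P ≤ Subgroup.normalizer ((f.ker : Subgroup L) : Set L) := by
    rw [Subgroup.normalizer_eq_top]; exact le_top
  apply thompson_PxQ (p := p) (P := P.map f) (Q := B.map f) (U := U) (hP.map f) ?_ hUp ?_ hPU hBU ?_
  · obtain ⟨k, hk⟩ := (hB.map f).exists_card_eq
    rw [hk]; exact Nat.Coprime.pow_left k ((Nat.coprime_primes hr.out hp.out).2 hrp)
  · rintro _ ⟨a, ha, rfl⟩
    refine Subgroup.mem_centralizer_iff.2 ?_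
    rintro _ ⟨b, hb, rfl⟩
    have := Subgroup.mem_centralizer_iff.1 (hPB ha) b hb
    rw [← map_mul, ← map_mul, this]
  · intro xb hxb
    obtain ⟨hxU, hxC⟩ := Subgroup.mem_inf.mp hxb
    obtain ⟨x, rfl⟩ := hf xb
    have hcos : ∀ a ∈ P, x⁻¹ * a * x * a⁻¹ ∈ f.ker := by
      intro a ha
      rw [MonoidHom.mem_ker]
      have h1 : f a * f x = f x * f a :=
        Subgroup.mem_centralizer_iff.1 hxC (f a) ⟨a, ha, rfl⟩
      simp only [map_mul, map_inv]
      rw [mul_assoc (f x)⁻¹, h1, ← mul_assoc, inv_mul_cancel, one_mul, mul_inv_cancel]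
    obtain ⟨d, hd, hxd⟩ := exists_fixed_in_coset_pgroup P f.ker hP hkn hpD x hcos
    obtain ⟨Y, hY⟩ : ∃ Y : Subgroup L, Y = U.comap f ⊓ Subgroup.centralizer (P : Set L) :=
      ⟨_, rfl⟩
    have hyY : x * d ∈ Y := by
      rw [hY]
      refine Subgroup.mem_inf.mpr ⟨?_, hxd⟩
      rw [Subgroup.mem_comap, map_mul, MonoidHom.mem_ker.1 hd, mul_one]
      exact hxU
    have hYR : Y ≤ R := by
      rw [hY]
      refine inf_le_left.trans ?_
      rw [← comap_map_of_ker_le f R hkR]; exact Subgroup.comap_mono hUR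
    have hYC : Y ≤ Subgroup.centralizer (P : Set L) := by rw [hY]; exact inf_le_right
    have hBY : B ≤ Subgroup.normalizer (Y : Set L) := by
      rw [hY]
      refine (le_inf ?_ ?_).trans Subgroup.inf_normalizer_le_normalizer_inf
      · intro b hb
        apply Subgroup.le_normalizer_comap f
        rw [Subgroup.mem_comap]; exact hBU ⟨b, hb, rfl⟩
      · exact (Subgroup.le_centralizer_iff.1 hPB).trans Subgroup.le_normalizer
    have hrY : ¬ r ∣ Nat.card Y := by
      intro hdvd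
      obtain ⟨y, hy⟩ := exists_prime_orderOf_dvd_card' (G := ↥Y) r hdvd
      have hyU : f (y : L) ∈ U := by
        have h0 : (y : L) ∈ U.comap f ⊓ Subgroup.centralizer (P : Set L) := hY ▸ y.2
        exact (Subgroup.mem_inf.mp h0).1
      have h1 : orderOf (f (y : L)) ∣ r := by
        rw [← hy, ← Subgroup.orderOf_coe]; exact orderOf_map_dvd f _
      obtain ⟨j, hj⟩ := (IsPGroup.iff_orderOf.1 hUp) ⟨f y, hyU⟩
      rw [Subgroup.orderOf_mk] at hj
      have h2 : f (y : L) = 1 := by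
        rw [← orderOf_eq_one_iff]
        rw [hj] at h1 ⊢
        rcases Nat.eq_zero_or_pos j with hj0 | hj0
        · rw [hj0, pow_zero]
        · exfalso
          have : p ∣ r := (dvd_pow_self p hj0.ne').trans h1
          exact hrp ((Nat.prime_dvd_prime_iff_eq hp.out hr.out).1 this).symm
      have h3 : (y : L) ∈ f.ker := MonoidHom.mem_ker.2 h2
      have h4 : orderOf (y : L) ∣ Nat.card f.ker := Subgroup.orderOf_dvd_natCard _ h3
      rw [Subgroup.orderOf_coe, hy] at h4
      exact hrD h4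
    have hYB := hyp Y hYR hYC hBY hrY
    refine Subgroup.mem_centralizer_iff.2 ?_
    rintro _ ⟨b, hb, rfl⟩
    have h5 := Subgroup.mem_centralizer_iff.1 (hYB hyY) b hb
    have h6 : f (x * d) = f x := by rw [map_mul, MonoidHom.mem_ker.1 hd, mul_one]
    rw [← h6, ← map_mul, ← map_mul, h5]

/-- Main quotient theorem. -/
theorem le_ker_of_data (f : L →* Γ) (hf : Function.Surjective f) (R Q : Subgroup L)
    (hR : Group.IsSolvable ↥R) (hkR : f.ker ≤ R) (σ : Set ℕ) (hDσ : PiGrp σ f.ker)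
    (hDmax : ∀ N : Subgroup L, N ≤ R → R ≤ Subgroup.normalizer (N : Set L) → PiGrp σ N → N ≤ f.ker)
    (q : ℕ) [hq : Fact q.Prime] (hqσ : q ∈ σ) (hQR : Q ≤ R) (hQ : IsPGroup q Q)
    (hdata : ∀ p : ℕ, p.Prime → p ∉ σ → ∃ (r : ℕ) (P B : Subgroup L), r.Prime ∧ r ≠ p ∧ r ≠ q ∧
        r ∉ σ ∧ IsPGroup p P ∧ IsPGroup r B ∧ P ≤ Subgroup.centralizer (B : Set L) ∧
        P ≤ Subgroup.normalizer (R : Set L) ∧ B ≤ Subgroup.normalizer (R : Set L) ∧
        (∀ Y : Subgroup L, Y ≤ R → Y ≤ Subgroup.centralizer (P : Set L) →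
          B ≤ Subgroup.normalizer (Y : Set L) → ¬ r ∣ Nat.card Y →
          Y ≤ Subgroup.centralizer (B : Set L)) ∧
        B ≤ Subgroup.normalizer (Q : Set L) ∧ Q ⊓ Subgroup.centralizer (B : Set L) = ⊥) :
    Q ≤ f.ker := by
  have hnd : ∀ t : ℕ, t.Prime → t ∉ σ → ¬ t ∣ Nat.card f.ker := by
    intro t ht htσ hdvd
    exact htσ (piGrp_iff_card.1 hDσ t ht hdvd)
  have hRs : Group.IsSolvable ↥(R.map f) := by
    haveI := hR
    exact solvable_of_surjective (f := f.subgroupMap R) (f.subgroupMap_surjective R)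
  have hQRm : Q.map f ≤ R.map f := Subgroup.map_mono hQR
  have hcent : ∀ s : ℕ, s.Prime → Q.map f ≤
      Subgroup.centralizer ((piCoreIn {s} (R.map f) : Subgroup Γ) : Set Γ) := by
    intro s hs
    haveI : Fact s.Prime := ⟨hs⟩
    by_cases hsσ : s ∈ σ
    · rw [core_map_eq_bot f hf R hkR σ hDσ hDmax s hsσ]
      intro y _
      refine Subgroup.mem_centralizer_iff.2 ?_
      intro z hz
      have hz1 : z = 1 := by simpa using hz
      rw [hz1, one_mul, mul_one]
    · obtain ⟨r, P, B, hr, hrs, hrq, hrσ, hP, hB, hPB, hPR, hBR, hyp, hBQ, hQB⟩ := hdata s hs hsσ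
      haveI : Fact r.Prime := ⟨hr⟩
      have hBU := centralizes_core_map f hf R P B hkR hrs hP hB (hnd s hs hsσ) (hnd r hr hrσ)
        hPB hPR hBR hyp
      obtain ⟨U, hU⟩ : ∃ U : Subgroup Γ, U = piCoreIn {s} (R.map f) := ⟨_, rfl⟩
      rw [← hU] at hBU ⊢
      have hRU : R.map f ≤ Subgroup.normalizer (U : Set Γ) := by
        rw [hU]; exact piCoreIn_normal _ _
      -- `Q = [Q, B]`
      have hcop : (Nat.card B).Coprime (Nat.card Q) := by
        obtain ⟨k, hk⟩ := hB.exists_card_eq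
        obtain ⟨j, hj⟩ := hQ.exists_card_eq
        rw [hk, hj]
        exact Nat.Coprime.pow _ _ ((Nat.coprime_primes hr hq.out).2 hrq)
      have hQs : Group.IsSolvable ↥Q := by
        haveI : Group.IsNilpotent ↥Q := hQ.isNilpotent
        infer_instance
      have hQcomm : ⁅Q, B⁆ = Q := by
        have := Cfsg.Agent.lead.coprime_commutator_sup_fixed B Q hBQ hcop (Or.inr hQs)
        rw [hQB, sup_bot_eq] at this
        exact this
      have hQm : ⁅Q.map f, B.map f⁆ = Q.map f := by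
        rw [← Subgroup.map_commutator, hQcomm]
      have h1 : ⁅⁅B.map f, U⁆, Q.map f⁆ = ⊥ := by
        rw [Subgroup.commutator_eq_bot_iff_le_centralizer.2 hBU]
        exact Subgroup.commutator_bot_left _
      have h2 : ⁅⁅U, Q.map f⁆, B.map f⁆ = ⊥ := by
        rw [eq_bot_iff]
        have h3 : ⁅U, Q.map f⁆ ≤ U := comm_le_of_normal le_rfl (hQRm.trans hRU)
        refine (Subgroup.commutator_mono h3 le_rfl).trans ?_
        rw [Subgroup.commutator_comm, Subgroup.commutator_eq_bot_iff_le_centralizer.2 hBU]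
      have h3 := Subgroup.commutator_commutator_eq_bot_of_rotate h1 h2
      rw [hQm] at h3
      exact Subgroup.commutator_eq_bot_iff_le_centralizer.1 h3
  have h1 : Q.map f ≤ fitOf (R.map f) :=
    (le_inf hQRm (le_centralizer_fitOf _ _ hcent)).trans (inf_centralizer_fitOf_le _ hRs)
  have h2 : Q.map f ≤ piCoreIn {q} (R.map f) := pgroup_le_core _ _ h1 (hQ.map f)
  rw [core_map_eq_bot f hf R hkR σ hDσ hDmax q hqσ] at h2
  intro x hx
  have := h2 ⟨x, hx, rfl⟩
  rw [Subgroup.mem_bot] at this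
  exact MonoidHom.mem_ker.2 this

end Cfsg.Agent.helper15.BL
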