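import Mathlib
import Cfsg.Agent.Lib_helper15_BL3

set_option autoImplicit false
set_option linter.style.haveILetI false
set_option linter.unusedSectionVars false
set_option maxHeartbeats 1600000

/-! The quotient theorem of `BL3`, for subgroups of an ambient group. -/

namespace Cfsg.Agent.helper15.BL

open Cfsg.Agent.helper7
open scoped commutatorElement

universe u

variable {G : Type u} [Group G] [Finite G]

theorem subgroupOf_le_centralizer (N : Subgroup G) {A B : Subgroup G}
    (h : A ≤ Subgroup.centralizer (B : Set G)) :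
    A.subgroupOf N ≤ Subgroup.centralizer ((B.subgroupOf N : Subgroup ↥N) : Set ↥N) := by
  intro x hx
  refine Subgroup.mem_centralizer_iff.2 ?_
  intro y hy
  apply Subtype.ext
  have hx' : (x : G) ∈ A := hx
  have hy' : (y : G) ∈ B := hy
  exact Subgroup.mem_centralizer_iff.1 (h hx') (y : G) hy'

theorem subgroupOf_le_normalizer (N : Subgroup G) {A B : Subgroup G}
    (h : A ≤ Subgroup.normalizer (B : Set G)) :
    A.subgroupOf N ≤ Subgroup.normalizer ((B.subgroupOf N : Subgroup ↥N) : Set ↥N) := by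
  intro x hx
  have hx' : (x : G) ∈ A := hx
  have h1 := h hx'
  rw [Subgroup.mem_normalizer_iff] at h1 ⊢
  intro y
  exact h1 (y : G)

theorem map_subtype_le_centralizer (N : Subgroup G) {Y' : Subgroup ↥N} {P : Subgroup G}
    (hPN : P ≤ N)
    (h : Y' ≤ Subgroup.centralizer ((P.subgroupOf N : Subgroup ↥N) : Set ↥N)) :
    Y'.map N.subtype ≤ Subgroup.centralizer (P : Set G) := by
  rintro _ ⟨y, hy, rfl⟩
  refine Subgroup.mem_centralizer_iff.2 ?_
  intro a ha
  have ha' : (⟨a, hPN ha⟩ : ↥N) ∈ P.subgroupOf N := ha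
  have := Subgroup.mem_centralizer_iff.1 (h hy) _ ha'
  exact congrArg Subtype.val this

theorem le_normalizer_map_subtype (N : Subgroup G) {Y' : Subgroup ↥N} {B : Subgroup G}
    (hBN : B ≤ N)
    (h : B.subgroupOf N ≤ Subgroup.normalizer (Y' : Set ↥N)) :
    B ≤ Subgroup.normalizer ((Y'.map N.subtype : Subgroup G) : Set G) := by
  intro b hb
  have hb' : (⟨b, hBN hb⟩ : ↥N) ∈ B.subgroupOf N := hb
  have h1 := h hb'
  have h2 := Subgroup.le_normalizer_map (H := Y') N.subtype ⟨_, h1, rfl⟩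
  exact h2

theorem le_map_subtype_centralizer (N : Subgroup G) {Y' : Subgroup ↥N} {B : Subgroup G}
    (h : Y'.map N.subtype ≤ Subgroup.centralizer (B : Set G)) :
    Y' ≤ Subgroup.centralizer ((B.subgroupOf N : Subgroup ↥N) : Set ↥N) := by
  intro y hy
  refine Subgroup.mem_centralizer_iff.2 ?_
  intro b hb
  apply Subtype.ext
  have hb' : (b : G) ∈ B := hb
  exact Subgroup.mem_centralizer_iff.1 (h ⟨y, hy, rfl⟩) (b : G) hb'

/-- Relative form of `le_ker_of_data`. -/
theorem le_core_of_data (R Q : Subgroup G)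
    (hR : Group.IsSolvable ↥R) (σ : Set ℕ)
    (q : ℕ) [hq : Fact q.Prime] (hqσ : q ∈ σ) (hQR : Q ≤ R) (hQ : IsPGroup q Q)
    (hdata : ∀ p : ℕ, p.Prime → p ∉ σ → ∃ (r : ℕ) (P B : Subgroup G), r.Prime ∧ r ≠ p ∧ r ≠ q ∧
        r ∉ σ ∧ IsPGroup p P ∧ IsPGroup r B ∧ P ≤ Subgroup.centralizer (B : Set G) ∧
        P ≤ Subgroup.normalizer (R : Set G) ∧ B ≤ Subgroup.normalizer (R : Set G) ∧
        (∀ Y : Subgroup G, Y ≤ R → Y ≤ Subgroup.centralizer (P : Set G) →
          B ≤ Subgroup.normalizer (Y : Set G) → ¬ r ∣ Nat.card Y →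
          Y ≤ Subgroup.centralizer (B : Set G)) ∧
        B ≤ Subgroup.normalizer (Q : Set G) ∧ Q ⊓ Subgroup.centralizer (B : Set G) = ⊥) :
    Q ≤ piCoreIn σ R := by
  obtain ⟨N, hN⟩ : ∃ N : Subgroup G, N = Subgroup.normalizer (R : Set G) := ⟨_, rfl⟩
  obtain ⟨D, hD⟩ : ∃ D : Subgroup G, D = piCoreIn σ R := ⟨_, rfl⟩
  rw [← hD]
  have hRN : R ≤ N := by rw [hN]; exact Subgroup.le_normalizer
  have hDR : D ≤ R := by rw [hD]; exact piCoreIn_le _ _
  have hDN : D ≤ N := hDR.trans hRN
  have hND : N ≤ Subgroup.normalizer (D : Set G) := by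
    rw [hN, hD]; exact normalizer_le_normalizer_radOf (fun g _ h => h.conj g) _
  haveI hDn : (D.subgroupOf N).Normal :=
    (Subgroup.normal_subgroupOf_iff_le_normalizer hDN).mpr hND
  have hker : (QuotientGroup.mk' (D.subgroupOf N)).ker = D.subgroupOf N :=
    QuotientGroup.ker_mk' _
  have hR' : Group.IsSolvable ↥(R.subgroupOf N) := by
    haveI := hR
    exact solvable_of_solvable_injective (f := (Subgroup.subgroupOfEquivOfLe hRN).toMonoidHom)
      (Subgroup.subgroupOfEquivOfLe hRN).injective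
  have key := le_ker_of_data (QuotientGroup.mk' (D.subgroupOf N)) (QuotientGroup.mk'_surjective _)
    (R.subgroupOf N) (Q.subgroupOf N) hR'
    (by rw [hker]; exact Subgroup.comap_mono hDR) σ ?_ ?_ q hqσ ?_ hQ.comap_subtype ?_
  · intro x hx
    have hxN : x ∈ N := hRN (hQR hx)
    have h1 : (⟨x, hxN⟩ : ↥N) ∈ Q.subgroupOf N := hx
    have h2 := key h1
    rw [hker] at h2
    exact h2
  · -- PiGrp σ ker
    rw [hker]
    intro x hx t ht htx
    have hx' : (x : G) ∈ piCoreIn σ R := by rw [← hD]; exact hx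
    exact piCoreIn_piGrp σ R _ hx' t ht (by rw [Subgroup.orderOf_coe]; exact htx)
  · -- maximality
    rw [hker]
    intro N₁ h1 h2 h3
    have h1' : N₁.map N.subtype ≤ R := by
      rintro _ ⟨y, hy, rfl⟩
      exact h1 hy
    have h2' : R ≤ Subgroup.normalizer ((N₁.map N.subtype : Subgroup G) : Set G) :=
      le_normalizer_map_subtype N hRN h2
    have h3' : PiGrp σ (N₁.map N.subtype) := by
      rintro _ ⟨y, hy, rfl⟩ t ht hty
      apply h3 y hy t ht
      rw [← Subgroup.orderOf_coe]; exact hty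
    have h4 : N₁.map N.subtype ≤ D := by rw [hD]; exact le_radOf h1' h2' h3'
    intro y hy
    exact h4 ⟨y, hy, rfl⟩
  · -- Q ≤ R
    intro x hx
    exact hQR hx
  · -- data
    intro p hp hpσ
    obtain ⟨r, P, B, hr, hrp, hrq, hrσ, hP, hB, hPB, hPR, hBR, hyp, hBQ, hQB⟩ := hdata p hp hpσ
    have hPN : P ≤ N := by rw [hN]; exact hPR
    have hBN : B ≤ N := by rw [hN]; exact hBR
    refine ⟨r, P.subgroupOf N, B.subgroupOf N, hr, hrp, hrq, hrσ, hP.comap_subtype,
      hB.comap_subtype, subgroupOf_le_centralizer N hPB, subgroupOf_le_normalizer N hPR,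
      subgroupOf_le_normalizer N hBR, ?_, subgroupOf_le_normalizer N hBQ, ?_⟩
    · intro Y' hY1 hY2 hY3 hY4
      apply le_map_subtype_centralizer N
      apply hyp
      · rintro _ ⟨y, hy, rfl⟩
        exact hY1 hy
      · exact map_subtype_le_centralizer N hPN hY2
      · exact le_normalizer_map_subtype N hBN hY3
      · rw [Subgroup.card_map_of_injective N.subtype_injective]; exact hY4
    · rw [eq_bot_iff]
      intro x hx
      obtain ⟨hx1, hx2⟩ := Subgroup.mem_inf.mp hx
      have hx1' : (x : G) ∈ Q := hx1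
      have h1 : (x : G) ∈ Q ⊓ Subgroup.centralizer (B : Set G) := by
        refine Subgroup.mem_inf.mpr ⟨hx1', ?_⟩
        refine Subgroup.mem_centralizer_iff.2 ?_
        intro b hb
        have hb' : (⟨b, hBN hb⟩ : ↥N) ∈ B.subgroupOf N := hb
        exact congrArg Subtype.val (Subgroup.mem_centralizer_iff.1 hx2 _ hb')
      rw [hQB, Subgroup.mem_bot] at h1
      rw [Subgroup.mem_bot]
      exact Subtype.ext h1

end Cfsg.Agent.helper15.BL
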