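import Mathlib
import Cfsg.Agent.Lib_lead_Coprime3
import Cfsg.Agent.Lib_helper10_Alperin

set_option autoImplicit false

namespace Cfsg.Agent.lead

open Cfsg.Agent.helper7
open scoped commutatorElement Pointwise

universe u

theorem map_subtype_cj {G : Type*} [Group G] (K : Subgroup G) (k : K) (P : Subgroup K) :
    (cj k P).map K.subtype = cj (k : G) (P.map K.subtype) := by
  show (P.map (MulAut.conj k).toMonoidHom).map K.subtype =
    (P.map K.subtype).map (MulAut.conj (k : G)).toMonoidHom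
  rw [Subgroup.map_map, Subgroup.map_map]
  congr 1

/-- `A` normalizes `K ⊓ N(Q)` when it normalizes `K` and `Q`. -/
theorem le_normalizer_inf_normalizer {G : Type*} [Group G] (A K Q : Subgroup G)
    (hAK : A ≤ Subgroup.normalizer (K : Set G)) (hAQ : A ≤ Subgroup.normalizer (Q : Set G)) :
    A ≤ Subgroup.normalizer ((K ⊓ Subgroup.normalizer (Q : Set G) : Subgroup G) : Set G) :=
  (le_inf hAK (hAQ.trans Subgroup.le_normalizer)).trans Subgroup.inf_normalizer_le_normalizer_inf

/-- Coprime action: two `A`-invariant Sylow `p`-subgroups of `K` are conjugate under `C_K(A)`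
(subgroup form). -/
theorem invariant_sylow_conj {G : Type u} [Group G] [Finite G] (A K : Subgroup G)
    (hAK : A ≤ Subgroup.normalizer (K : Set G)) (hcop : (Nat.card A).Coprime (Nat.card K))
    (hsolv : Group.IsSolvable A ∨ Group.IsSolvable K)
    (P₁ Q₁ : Subgroup G) (k : G) (hk : k ∈ K) (hkPQ : cj k P₁ = Q₁)
    (hP : A ≤ Subgroup.normalizer (P₁ : Set G)) (hQ : A ≤ Subgroup.normalizer (Q₁ : Set G)) :
    ∃ c ∈ K ⊓ Subgroup.centralizer (A : Set G), cj c P₁ = Q₁ := by
  set D : Subgroup G := K ⊓ Subgroup.normalizer (Q₁ : Set G) with hD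
  have hDK : D ≤ K := inf_le_left
  have hAD : A ≤ Subgroup.normalizer (D : Set G) := le_normalizer_inf_normalizer A K Q₁ hAK hQ
  have hcopD : (Nat.card A).Coprime (Nat.card D) :=
    Nat.Coprime.coprime_dvd_right (Subgroup.card_dvd_of_le hDK) hcop
  have hKA : K ⊓ A = ⊥ := Subgroup.inf_eq_bot_of_coprime hcop.symm
  have hB : cj k A ≤ D ⊔ A := by
    intro y hy
    have hy' := hy
    rw [mem_cj] at hy'
    set a := k⁻¹ * y * k with ha
    have hyN : y ∈ Subgroup.normalizer (Q₁ : Set G) := by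
      rw [← hkPQ, ← cj_normalizer]
      exact cj_mono hP hy
    have h1 : y * a⁻¹ ∈ K := by
      have h2 : a * k⁻¹ * a⁻¹ ∈ K :=
        (Subgroup.mem_normalizer_iff.mp (hAK hy') k⁻¹).mp (K.inv_mem hk)
      have h3 : y * a⁻¹ = k * (a * k⁻¹ * a⁻¹) := by rw [ha]; group
      rw [h3]; exact K.mul_mem hk h2
    have h4 : y * a⁻¹ ∈ Subgroup.normalizer (Q₁ : Set G) :=
      Subgroup.mul_mem _ hyN (Subgroup.inv_mem _ (hQ hy'))
    have h5 : y = (y * a⁻¹) * a := by group
    rw [h5]
    exact Subgroup.mul_mem _ (Subgroup.mem_sup_left (Subgroup.mem_inf.mpr ⟨h1, h4⟩))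
      (Subgroup.mem_sup_right hy')
  obtain ⟨d, hd, hdA⟩ := sz_conj_semidirect A D hAD hcopD (hsolv.imp id (solvable_of_le hDK))
    (cj k A) hB (card_cj _ _)
  rw [cj_cj] at hdA
  have hdkK : d * k ∈ K := K.mul_mem (hDK hd) hk
  have hn : d * k ∈ Subgroup.normalizer (A : Set G) := mem_normalizer_of_cj_eq hdA
  refine ⟨d * k, Subgroup.mem_inf.mpr ⟨hdkK, mem_centralizer_of_normalizes A K hAK hKA _ hdkK hn⟩, ?_⟩
  rw [← cj_cj, hkPQ]
  exact cj_eq_of_mem_normalizer (Subgroup.mem_inf.mp hd).2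

/-- Coprime action: an `A`-invariant `p`-subgroup of `K` lies in an `A`-invariant Sylow
`p`-subgroup of `K`. -/
theorem invariant_pgroup_le_invariant_sylow {G : Type u} [Group G] [Finite G] (A K : Subgroup G)
    (hAK : A ≤ Subgroup.normalizer (K : Set G)) (hcop : (Nat.card A).Coprime (Nat.card K))
    (hsolv : Group.IsSolvable A ∨ Group.IsSolvable K) (p : ℕ) [hp : Fact p.Prime]
    (U : Subgroup G) (hUK : U ≤ K) (hU : IsPGroup p U)
    (hUA : A ≤ Subgroup.normalizer (U : Set G)) :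
    ∃ V : Subgroup G, U ≤ V ∧ V ≤ K ∧ Nat.card V = p ^ (Nat.card K).factorization p ∧
      A ≤ Subgroup.normalizer (V : Set G) := by
  let s : Set (Subgroup G) := {V | U ≤ V ∧ V ≤ K ∧ IsPGroup p V ∧ A ≤ Subgroup.normalizer (V : Set G)}
  have hsne : s.Nonempty := ⟨U, le_rfl, hUK, hU, hUA⟩
  obtain ⟨V, ⟨hUV, hVK, hVp, hVA⟩, hVmax⟩ := (Set.toFinite s).exists_maximal hsne
  refine ⟨V, hUV, hVK, ?_, hVA⟩
  set M : Subgroup G := K ⊓ Subgroup.normalizer (V : Set G) with hM
  have hMK : M ≤ K := inf_le_left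
  have hVM : V ≤ M := le_inf hVK Subgroup.le_normalizer
  have hAM : A ≤ Subgroup.normalizer (M : Set G) := le_normalizer_inf_normalizer A K V hAK hVA
  have hcopM : (Nat.card A).Coprime (Nat.card M) :=
    Nat.Coprime.coprime_dvd_right (Subgroup.card_dvd_of_le hMK) hcop
  obtain ⟨S, hSM, hSc, hSA⟩ := exists_invariant_sylow A M hAM hcopM
    (hsolv.imp id (solvable_of_le hMK)) p
  -- V ≤ S since V is a normal p-subgroup of M
  have hVS : V ≤ S := by
    haveI : (V.subgroupOf M).Normal :=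
      (Subgroup.normal_subgroupOf_iff_le_normalizer hVM).mpr inf_le_right
    have hc : Nat.card (S.subgroupOf M) = p ^ (Nat.card M).factorization p := by
      rw [card_subgroupOf_of_le hSM, hSc]
    have h1 := IsPGroup.le_sylow_of_normal (N := V.subgroupOf M) hVp.comap_subtype
      (Sylow.ofCard (S.subgroupOf M) hc)
    intro v hv
    have h2 : (⟨v, hVM hv⟩ : M) ∈ V.subgroupOf M := by
      rw [Subgroup.mem_subgroupOf]; exact hv
    have h3 := h1 h2
    rw [Sylow.coe_ofCard, Subgroup.mem_subgroupOf] at h3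
    exact h3
  have hSp : IsPGroup p S := IsPGroup.of_card hSc
  have hSV : S = V := by
    have hSs : S ∈ s := ⟨hUV.trans hVS, hSM.trans hMK, hSp, hSA⟩
    exact le_antisymm (hVmax hSs hVS) hVS
  -- now V is Sylow in M; show Sylow in K
  have hVp' : IsPGroup p (V.subgroupOf K) := hVp.comap_subtype
  obtain ⟨T, hT⟩ := hVp'.exists_le_sylow
  set T₁ : Subgroup G := (T : Subgroup K).map K.subtype with hT₁
  have hT₁K : T₁ ≤ K := Subgroup.map_subtype_le _
  have hVT₁ : V ≤ T₁ := by
    intro v hv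
    have : (⟨v, hVK hv⟩ : K) ∈ (T : Subgroup K) := hT (by
      rw [Subgroup.mem_subgroupOf]; exact hv)
    exact ⟨_, this, rfl⟩
  have hT₁p : IsPGroup p T₁ := T.isPGroup'.map _
  have hT₁c : Nat.card T₁ = p ^ (Nat.card K).factorization p := by
    rw [hT₁, Subgroup.card_map_of_injective K.subtype_injective]
    exact T.card_eq_multiplicity
  by_cases hVT : V = T₁
  · rw [hVT]; exact hT₁c
  · exfalso
    have hlt : V < T₁ := lt_of_le_of_ne hVT₁ hVT
    have hlt2 := Cfsg.Agent.helper10.lt_inf_normalizer_of_lt hT₁p hlt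
    set W : Subgroup G := T₁ ⊓ Subgroup.normalizer (V : Set G) with hW
    have hWM : W ≤ M := le_inf (inf_le_left.trans hT₁K) inf_le_right
    have hWp : IsPGroup p W := hT₁p.to_le inf_le_left
    obtain ⟨j, hj⟩ := IsPGroup.iff_card.mp hWp
    have h1 : p ^ j ∣ Nat.card M := hj ▸ Subgroup.card_dvd_of_le hWM
    have h2 : j ≤ (Nat.card M).factorization p :=
      (hp.out.pow_dvd_iff_le_factorization Nat.card_pos.ne').mp h1
    have h3 : Nat.card W ≤ Nat.card V := by
      rw [hj, ← hSV, hSc]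
      exact Nat.pow_le_pow_right hp.out.pos h2
    have h4 : Nat.card V < Nat.card W := by
      by_contra hcon
      exact hlt2.ne (Subgroup.eq_of_le_of_card_ge hlt2.le (not_lt.mp hcon))
    omega

end Cfsg.Agent.lead
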