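import Mathlib
import Cfsg.Prelude.Def_OddOrder
import Cfsg.Prelude.Def_OddOrderLocal
import Cfsg.Prelude.Def_CaseTheorems
import Cfsg.Agent.Lib_lead_Coprime4
import Cfsg.Agent.Lib_lead_SZ
import Cfsg.Agent.Lib_helper7_Cores

set_option autoImplicit false
set_option linter.style.haveILetI false
set_option linter.unusedSectionVars false

namespace Cfsg.Agent.helper23

open Cfsg.Agent.helper7
open scoped commutatorElement Pointwise

universe u

variable {G : Type u} [Group G] [Finite G]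

/-- The statement-level `O_π(X)` agrees with helper7's relative core. -/
theorem piCoreOf_eq_piCoreIn (π : Set ℕ) (X : Subgroup G) :
    Cfsg.piCoreOf π X = piCoreIn π X := by
  unfold Cfsg.piCoreOf Cfsg.piCore piCoreIn radOf
  apply le_antisymm
  · rw [Subgroup.map_le_iff_le_comap]
    apply sSup_le
    rintro N' ⟨hn, hπ⟩
    rw [← Subgroup.map_le_iff_le_comap]
    apply le_sSup
    refine ⟨Subgroup.map_subtype_le _, ?_, ?_⟩
    · rw [← Subgroup.normal_subgroupOf_iff_le_normalizer (Subgroup.map_subtype_le _)]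
      have : (N'.map X.subtype).subgroupOf X = N' :=
        Subgroup.comap_map_eq_self_of_injective X.subtype_injective N'
      rw [this]; exact hn
    · rw [piGrp_iff_card]
      intro q hq hdvd
      rw [Subgroup.card_map_of_injective X.subtype_injective] at hdvd
      exact hπ q hq hdvd
  · apply sSup_le
    rintro N ⟨hNX, hXN, hNπ⟩
    rw [← Subgroup.map_subgroupOf_eq_of_le hNX]
    apply Subgroup.map_mono
    apply le_sSup
    refine ⟨(Subgroup.normal_subgroupOf_iff_le_normalizer hNX).2 hXN, ?_⟩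
    intro q hq hdvd
    rw [Nat.card_congr (Subgroup.subgroupOfEquivOfLe hNX).toEquiv] at hdvd
    exact (piGrp_iff_card.1 hNπ) q hq hdvd

theorem piCoreOf_le (π : Set ℕ) (X : Subgroup G) : Cfsg.piCoreOf π X ≤ X := by
  rw [piCoreOf_eq_piCoreIn]; exact piCoreIn_le π X

theorem le_normalizer_piCoreOf (π : Set ℕ) (X : Subgroup G) :
    X ≤ Subgroup.normalizer ((Cfsg.piCoreOf π X : Subgroup G) : Set G) := by
  rw [piCoreOf_eq_piCoreIn]; exact piCoreIn_normal π X

theorem piCoreOf_card (π : Set ℕ) (X : Subgroup G) :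
    ∀ q : ℕ, q.Prime → q ∣ Nat.card (Cfsg.piCoreOf π X) → q ∈ π := by
  rw [piCoreOf_eq_piCoreIn]; exact piGrp_iff_card.1 (piCoreIn_piGrp π X)

theorem le_piCoreOf (π : Set ℕ) (X N : Subgroup G) (hNX : N ≤ X)
    (hXN : X ≤ Subgroup.normalizer (N : Set G))
    (hπ : ∀ q : ℕ, q.Prime → q ∣ Nat.card N → q ∈ π) : N ≤ Cfsg.piCoreOf π X := by
  rw [piCoreOf_eq_piCoreIn]
  exact le_radOf hNX hXN (piGrp_iff_card.2 hπ)

theorem coprime_of_primesNotDvd (n : ℕ) (Y : Subgroup G)
    (h : ∀ q : ℕ, q.Prime → q ∣ Nat.card Y → q ∈ Cfsg.primesNotDvd n) :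
    n.Coprime (Nat.card Y) := by
  apply Nat.coprime_of_dvd
  intro k hk hkn hkY
  exact (h k hk hkY).2 hkn

/-- Two subgroups of `Y` of Sylow order are conjugate by an element of `Y`. -/
theorem sylow_order_conj (Y S₁ S₂ : Subgroup G) (q : ℕ) [hq : Fact q.Prime] (h1 : S₁ ≤ Y)
    (h2 : S₂ ≤ Y) (c1 : Nat.card S₁ = q ^ (Nat.card Y).factorization q)
    (c2 : Nat.card S₂ = q ^ (Nat.card Y).factorization q) : ∃ k ∈ Y, cj k S₁ = S₂ := by
  have e1 : Nat.card (S₁.subgroupOf Y) = q ^ (Nat.card Y).factorization q := by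
    rw [Nat.card_congr (Subgroup.subgroupOfEquivOfLe h1).toEquiv]; exact c1
  have e2 : Nat.card (S₂.subgroupOf Y) = q ^ (Nat.card Y).factorization q := by
    rw [Nat.card_congr (Subgroup.subgroupOfEquivOfLe h2).toEquiv]; exact c2
  obtain ⟨g, hg⟩ := MulAction.exists_smul_eq ↥Y (Sylow.ofCard (S₁.subgroupOf Y) e1)
    (Sylow.ofCard (S₂.subgroupOf Y) e2)
  refine ⟨(g : G), g.2, ?_⟩
  apply Cfsg.Agent.lead.cj_of_cj_subgroupOf Y S₁ S₂ h1 h2 g
  have h3 := congrArg (fun P : Sylow q ↥Y => (P : Subgroup ↥Y)) hg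
  simp only [Sylow.coe_subgroup_smul, Sylow.coe_ofCard] at h3
  rw [← Cfsg.Agent.lead.smul_eq_cj]
  exact h3

end Cfsg.Agent.helper23
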