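import Mathlib
import Cfsg.Prelude.Def_OddOrder
import Cfsg.Prelude.Def_OddOrderLocal
import Cfsg.Prelude.Def_CaseTheorems
import Cfsg.Agent.Lib_helper23_Tr1

set_option autoImplicit false
set_option linter.style.haveILetI false
set_option linter.unusedSectionVars false

namespace Cfsg.Agent.helper23

open Cfsg.Agent.helper7
open scoped commutatorElement Pointwise

universe u

variable {G : Type u} [Group G] [Finite G]

theorem mso_solvable (hG : Cfsg.IsMinSimpleOddOrder G) (X : Subgroup G) (hX : X ≠ ⊤) :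
    Group.IsSolvable X := hG.2.2.2 X hX

theorem mso_normalizer_ne_top (hG : Cfsg.IsMinSimpleOddOrder G) (D : Subgroup G) (h1 : D ≠ ⊥)
    (h2 : D ≠ ⊤) : Subgroup.normalizer (D : Set G) ≠ ⊤ := by
  intro h
  rw [Subgroup.normalizer_eq_top_iff] at h
  haveI := hG.2.1
  rcases h.eq_bot_or_eq_top with h3 | h3
  · exact h1 h3
  · exact h2 h3

/-- `{q}`-subgroups are `q`-groups. -/
theorem isPGroup_of_primes (q : ℕ) [hq : Fact q.Prime] (U : Subgroup G)
    (h : ∀ p : ℕ, p.Prime → p ∣ Nat.card U → p ∈ ({q} : Set ℕ)) : IsPGroup q U := by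
  have hall : ∀ {r : ℕ}, r.Prime → r ∣ Nat.card U → r = q := fun hr hd => h _ hr hd
  by_cases h1 : Nat.card U = 1
  · exact IsPGroup.of_card (n := 0) (by rw [h1, pow_zero])
  · obtain ⟨r, hr, hrd⟩ := Nat.exists_prime_and_dvd h1
    have hrq := hall hr hrd
    subst hrq
    have := Nat.eq_prime_pow_of_unique_prime_dvd (Nat.card_pos (α := ↥U)).ne'
      (fun {d} hd hdd => hall hd hdd)
    exact IsPGroup.of_card this

theorem primes_of_isPGroup (q : ℕ) [hq : Fact q.Prime] (U : Subgroup G) (h : IsPGroup q U) :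
    ∀ p : ℕ, p.Prime → p ∣ Nat.card U → p ∈ ({q} : Set ℕ) := by
  intro p hp hd
  obtain ⟨k, hk⟩ := h.exists_card_eq
  rw [hk] at hd
  exact (Nat.prime_dvd_prime_iff_eq hp hq.out).1 (hp.dvd_of_dvd_pow hd)

/-- Under the transitivity hypothesis, `A`-invariant `q`-subgroups of a proper subgroup `X ≥ A`
lie in `O_{π(A)'}(X)`. -/
theorem inv_le_core (A : Subgroup G) (hA : Cfsg.TransitivityHypothesis A) (q : ℕ) (hq : q.Prime)
    (hqA : ¬ q ∣ Nat.card A) (X : Subgroup G) (hX : X ≠ ⊤) (hAX : A ≤ X) (U : Subgroup G)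
    (hUX : U ≤ X) (hUA : A ≤ Subgroup.normalizer (U : Set G))
    (hUq : ∀ p : ℕ, p.Prime → p ∣ Nat.card U → p ∈ ({q} : Set ℕ)) :
    U ≤ Cfsg.piCoreOf (Cfsg.primesNotDvd (Nat.card A)) X := by
  rw [← hA.2.2 X hX hAX]
  apply le_sSup
  refine ⟨hUX, ?_, hUA⟩
  intro p hp hpd
  have : p = q := hUq p hp hpd
  subst this
  exact ⟨hp, hqA⟩

/-- `C_{O_{π'}(X)}(A) ≤ O_{π'}(C_G(A))`. -/
theorem cent_core_le (hG : Cfsg.IsMinSimpleOddOrder G) (A : Subgroup G)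
    (hA : Cfsg.TransitivityHypothesis A) (X : Subgroup G) :
    Cfsg.piCoreOf (Cfsg.primesNotDvd (Nat.card A)) X ⊓ Subgroup.centralizer (A : Set G) ≤
      Cfsg.piCoreOf (Cfsg.primesNotDvd (Nat.card A)) (Subgroup.centralizer (A : Set G)) := by
  obtain ⟨π, hπ⟩ : ∃ π : Set ℕ, π = Cfsg.primesNotDvd (Nat.card A) := ⟨_, rfl⟩
  rw [← hπ]
  obtain ⟨C, hC⟩ : ∃ C : Subgroup G, C = Subgroup.centralizer (A : Set G) := ⟨_, rfl⟩
  rw [← hC]
  obtain ⟨T, hT⟩ : ∃ T : Subgroup G, T = Cfsg.piCoreOf π X ⊓ C := ⟨_, rfl⟩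
  rw [← hT]
  obtain ⟨X', hX'⟩ : ∃ X' : Subgroup G, X' = A ⊔ C := ⟨_, rfl⟩
  have hAX' : A ≤ X' := by rw [hX']; exact le_sup_left
  have hCX' : C ≤ X' := by rw [hX']; exact le_sup_right
  have hX'N : X' ≤ Subgroup.normalizer (A : Set G) := by
    rw [hX']
    exact sup_le Subgroup.le_normalizer (by rw [hC]; exact Subgroup.centralizer_le_normalizer _)
  have hX'top : X' ≠ ⊤ := by
    intro h
    apply mso_normalizer_ne_top hG A hA.1 hA.2.1
    rw [h] at hX'N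
    exact top_le_iff.1 hX'N
  have hTC : T ≤ C := by rw [hT]; exact inf_le_right
  have hTmem : T ∈ Cfsg.invSubgroups X' A π := by
    refine ⟨hTC.trans hCX', ?_, ?_⟩
    · intro p hp hpd
      apply piCoreOf_card π X p hp
      exact hpd.trans (Subgroup.card_dvd_of_le (by rw [hT]; exact inf_le_left))
    · have h1 : A ≤ Subgroup.centralizer (T : Set G) := by
        rw [Subgroup.le_centralizer_iff, ← hC]; exact hTC
      exact h1.trans (Subgroup.centralizer_le_normalizer _)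
  have hTY' : T ≤ Cfsg.piCoreOf π X' := by
    rw [hπ, ← hA.2.2 X' hX'top hAX', ← hπ]
    exact le_sSup hTmem
  refine hTY'.trans ?_
  obtain ⟨Y', hY'⟩ : ∃ Y' : Subgroup G, Y' = Cfsg.piCoreOf π X' := ⟨_, rfl⟩
  rw [← hY']
  have hY'X' : Y' ≤ X' := by rw [hY']; exact piCoreOf_le π X'
  have hX'Y' : X' ≤ Subgroup.normalizer (Y' : Set G) := by
    rw [hY']; exact le_normalizer_piCoreOf π X'
  have hY'card : ∀ q : ℕ, q.Prime → q ∣ Nat.card Y' → q ∈ π := by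
    rw [hY']; exact piCoreOf_card π X'
  have hcop : (Nat.card A).Coprime (Nat.card Y') := by
    apply coprime_of_primesNotDvd
    rw [← hπ]; exact hY'card
  have hdisj : A ⊓ Y' = ⊥ := Subgroup.inf_eq_bot_of_coprime hcop
  apply le_piCoreOf π C Y' _ (hCX'.trans hX'Y') hY'card
  intro y hy
  rw [hC, Subgroup.mem_centralizer_iff]
  intro a ha
  have h1 : a * y * a⁻¹ * y⁻¹ ∈ A ⊓ Y' := by
    refine ⟨?_, ?_⟩
    · have h2 : y * a⁻¹ * y⁻¹ ∈ A :=
        (Subgroup.mem_normalizer_iff.1 (hX'N (hY'X' hy)) a⁻¹).1 (A.inv_mem ha)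
      have h3 : a * y * a⁻¹ * y⁻¹ = a * (y * a⁻¹ * y⁻¹) := by group
      rw [h3]; exact A.mul_mem ha h2
    · have h2 : a * y * a⁻¹ ∈ Y' :=
        (Subgroup.mem_normalizer_iff.1 (hX'Y' (hAX' ha)) y).1 hy
      exact Y'.mul_mem h2 (Y'.inv_mem hy)
  rw [hdisj, Subgroup.mem_bot] at h1
  calc a * y = a * y * a⁻¹ * y⁻¹ * (y * a) := by group
    _ = y * a := by rw [h1, one_mul]

/-- Every `A`-invariant `q`-subgroup lies in a maximal one. -/
theorem exists_max_ge (A : Subgroup G) (q : ℕ) (U : Subgroup G)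
    (hU : U ∈ Cfsg.invSubgroups ⊤ A {q}) :
    ∃ Q ∈ Cfsg.maxInvSubgroups ⊤ A {q}, U ≤ Q := by
  let s : Set (Subgroup G) := {V | U ≤ V ∧ V ∈ Cfsg.invSubgroups ⊤ A {q}}
  have hsne : s.Nonempty := ⟨U, le_rfl, hU⟩
  obtain ⟨V, ⟨hUV, hV⟩, hVmax⟩ := (Set.toFinite s).exists_maximal hsne
  refine ⟨V, ⟨hV, ?_⟩, hUV⟩
  intro R hR hVR
  have hRs : R ∈ s := ⟨hUV.trans hVR, hR⟩
  exact le_antisymm (hVmax hRs hVR) hVR

theorem cj_mem_inv (A : Subgroup G) (q : ℕ) (c : G) (hc : c ∈ Subgroup.centralizer (A : Set G))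
    (R : Subgroup G) (hR : R ∈ Cfsg.invSubgroups ⊤ A {q}) :
    cj c R ∈ Cfsg.invSubgroups ⊤ A {q} := by
  refine ⟨le_top, ?_, ?_⟩
  · intro p hp hpd
    rw [card_cj] at hpd
    exact hR.2.1 p hp hpd
  · intro a ha
    rw [← cj_normalizer, mem_cj]
    have h1 : a * c = c * a := Subgroup.mem_centralizer_iff.1 hc a ha
    have h2 : c⁻¹ * a * c = a := by
      calc c⁻¹ * a * c = c⁻¹ * (a * c) := by group
        _ = c⁻¹ * (c * a) := by rw [h1]
        _ = a := by group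
    rw [h2]; exact hR.2.2 ha

theorem cj_mem_maxInv (A : Subgroup G) (q : ℕ) (c : G)
    (hc : c ∈ Subgroup.centralizer (A : Set G))
    (Q : Subgroup G) (hQ : Q ∈ Cfsg.maxInvSubgroups ⊤ A {q}) :
    cj c Q ∈ Cfsg.maxInvSubgroups ⊤ A {q} := by
  refine ⟨cj_mem_inv A q c hc Q hQ.1, ?_⟩
  intro R hR hle
  have h1 : Q ≤ cj c⁻¹ R := cj_le_iff.1 hle
  have h2 := hQ.2 (cj c⁻¹ R) (cj_mem_inv A q c⁻¹ (Subgroup.inv_mem _ hc) R hR) h1
  rw [← h2, cj_cj_inv]

end Cfsg.Agent.helper23
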