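import Mathlib
import Cfsg.Prelude.Def_OddOrderLocal
import Cfsg.Agent.Lib_helper15_BL4
import Cfsg.Agent.Lib_lead_Coprime4
import Cfsg.Agent.Lib_helper23_Tr2

set_option autoImplicit false
set_option linter.style.haveILetI false
set_option linter.unusedSectionVars false
set_option maxHeartbeats 1600000

/-! Maximal local subgroup whose Fitting subgroup involves two primes: the unique maximal invariant
`q`-subgroup. -/

namespace Cfsg.Agent.helper15.BL

open Cfsg.Agent.helper7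
open scoped commutatorElement

universe u

variable {G : Type u} [Group G] [Finite G] {H M : Subgroup G}

/-- Every `M`-invariant `q`-subgroup of `R` lies in `O_{π'}(R)`. -/
theorem MaxLoc.inv_le_core (h : MaxLoc H M)
    (hF2 : 2 ≤ (Nat.card (fitOf H)).primeFactors.card)
    (R : Subgroup G) (hR : Group.IsSolvable ↥R) (hMR : M ≤ Subgroup.normalizer (R : Set G))
    (hXR : H ⊓ Subgroup.centralizer ((fitOf H : Subgroup G) : Set G) ≤
      Subgroup.normalizer (R : Set G))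
    (q : ℕ) [hq : Fact q.Prime] (hqF : ¬ q ∣ Nat.card (fitOf H))
    (Q : Subgroup G) (hQR : Q ≤ R) (hQ : IsPGroup q Q)
    (hMQ : M ≤ Subgroup.normalizer (Q : Set G)) :
    Q ≤ piCoreIn (Cfsg.primesNotDvd (Nat.card (fitOf H))) R := by
  have hqσ : q ∈ Cfsg.primesNotDvd (Nat.card (fitOf H)) := ⟨hq.out, hqF⟩
  apply le_core_of_data R Q hR _ q hqσ hQR hQ
  intro p hp hpσ
  have hpF : p ∣ Nat.card (fitOf H) := by
    by_contra hc; exact hpσ ⟨hp, hc⟩
  obtain ⟨r, hr, hrp⟩ := Finset.exists_mem_ne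
    (by omega : 1 < (Nat.card (fitOf H)).primeFactors.card) p
  have hrP : r.Prime := Nat.prime_of_mem_primeFactors hr
  have hrF : r ∣ Nat.card (fitOf H) := Nat.dvd_of_mem_primeFactors hr
  haveI : Fact p.Prime := ⟨hp⟩
  haveI : Fact r.Prime := ⟨hrP⟩
  have hFp : piCoreIn {p} H ≠ ⊥ := core_ne_bot_of_dvd H p hpF
  have hFr : piCoreIn {r} H ≠ ⊥ := core_ne_bot_of_dvd H r hrF
  have hcopQ : (Nat.card Q).Coprime (Nat.card (fitOf H)) := by
    obtain ⟨k, hk⟩ := hQ.exists_card_eq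
    rw [hk]; exact Nat.Coprime.pow_left k ((Nat.Prime.coprime_iff_not_dvd hq.out).2 hqF)
  refine ⟨r, M ⊓ piCoreIn {p} H, M ⊓ piCoreIn {r} H, hrP, hrp, ?_, ?_,
    (core_isPGroup H).to_le inf_le_right, (core_isPGroup H).to_le inf_le_right, ?_,
    inf_le_left.trans hMR, inf_le_left.trans hMR, ?_, inf_le_left.trans hMQ, ?_⟩
  · rintro rfl; exact hqF hrF
  · intro hrσ; exact hrσ.2 hrF
  · intro x hx
    refine Subgroup.mem_centralizer_iff.2 ?_
    intro y hy
    exact core_commute hrp H y x (Subgroup.mem_inf.mp hy).2 (Subgroup.mem_inf.mp hx).2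
  · intro Y hYR hYC hBY hrY
    have hYH : Y ≤ H := hYC.trans (h.centralizer_le p hFp)
    have h1 := h.le_centralizer_core r Y hYH
      ((Nat.Prime.coprime_iff_not_dvd hrP).2 hrY).symm hBY
    exact h1.trans (Subgroup.centralizer_le inf_le_right)
  · exact h.inf_centralizer_eq_bot r hFr R hR hXR Q hQR hMQ hcopQ

/-- The conclusion of the theorem, in terms of `fitOf` and `piCoreIn`. -/
theorem MaxLoc.unique_max_inv (h : MaxLoc H M)
    (hF2 : 2 ≤ (Nat.card (fitOf H)).primeFactors.card)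
    (R : Subgroup G) (hR : Group.IsSolvable ↥R) (hMR : M ≤ Subgroup.normalizer (R : Set G))
    (hXR : H ⊓ Subgroup.centralizer ((fitOf H : Subgroup G) : Set G) ≤
      Subgroup.normalizer (R : Set G))
    (q : ℕ) [hq : Fact q.Prime] (hqF : ¬ q ∣ Nat.card (fitOf H)) :
    ∃! Q : Subgroup G, Q ∈ Cfsg.maxInvSubgroups R M {q} ∧
      (∀ Q' : Subgroup G, Q' ∈ Cfsg.maxInvSubgroups R M {q} →
        Q' ≤ piCoreIn (Cfsg.primesNotDvd (Nat.card (fitOf H))) R ∧
        ¬ q ∣ Q'.relIndex (piCoreIn (Cfsg.primesNotDvd (Nat.card (fitOf H))) R)) := by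
  obtain ⟨D, hD⟩ : ∃ D : Subgroup G,
    D = piCoreIn (Cfsg.primesNotDvd (Nat.card (fitOf H))) R := ⟨_, rfl⟩
  rw [← hD]
  have hDR : D ≤ R := by rw [hD]; exact piCoreIn_le _ _
  have hMD : M ≤ Subgroup.normalizer (D : Set G) := by
    rw [hD]; exact hMR.trans (normalizer_le_normalizer_radOf (fun g _ h => h.conj g) _)
  have hDs : Group.IsSolvable ↥D :=
    Group.isSolvable_of_isSolvable_injective (f := Subgroup.inclusion hDR)
      (Subgroup.inclusion_injective hDR)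
  have hDσ : ∀ t : ℕ, t.Prime → t ∣ Nat.card D → ¬ t ∣ Nat.card (fitOf H) := by
    intro t ht htD
    have : PiGrp (Cfsg.primesNotDvd (Nat.card (fitOf H))) D := by
      rw [hD]; exact piCoreIn_piGrp _ R
    exact (piGrp_iff_card.1 this t ht htD).2
  have hcopDF : (Nat.card D).Coprime (Nat.card (fitOf H)) :=
    Nat.coprime_of_dvd (fun t ht htD => hDσ t ht htD)
  have hcopMD : (Nat.card M).Coprime (Nat.card D) :=
    (Nat.Coprime.coprime_dvd_right (Subgroup.card_dvd_of_le h.hM) hcopDF).symm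
  -- a prime dividing `|F(H)|`
  obtain ⟨p, hp⟩ : ∃ p, p ∈ (Nat.card (fitOf H)).primeFactors := by
    apply Finset.card_pos.1; omega
  have hpP : p.Prime := Nat.prime_of_mem_primeFactors hp
  haveI : Fact p.Prime := ⟨hpP⟩
  have hFp : piCoreIn {p} H ≠ ⊥ := core_ne_bot_of_dvd H p (Nat.dvd_of_mem_primeFactors hp)
  have hCDM : D ⊓ Subgroup.centralizer (M : Set G) = ⊥ := by
    rw [eq_bot_iff, ← h.inf_centralizer_eq_bot p hFp R hR hXR D hDR hMD hcopDF]
    exact inf_le_inf_left _ (Subgroup.centralizer_le inf_le_left)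
  obtain ⟨Qs, -, hQsD, hQsc, hMQs⟩ :=
    Cfsg.Agent.lead.invariant_pgroup_le_invariant_sylow M D hMD hcopMD (Or.inr hDs) q ⊥ bot_le
      IsPGroup.of_bot (by rw [Subgroup.normalizer_eq_top]; exact le_top)
  have hQsp : IsPGroup q Qs := IsPGroup.of_card hQsc
  have key : ∀ Q' : Subgroup G, Q' ∈ Cfsg.invSubgroups R M {q} → Q' ≤ Qs := by
    rintro Q' ⟨hQ'R, hQ'π, hMQ'⟩
    have hQ'p : IsPGroup q Q' := Cfsg.Agent.helper23.isPGroup_of_primes q Q' hQ'π
    have hQ'D : Q' ≤ D := by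
      rw [hD]; exact h.inv_le_core hF2 R hR hMR hXR q hqF Q' hQ'R hQ'p hMQ'
    obtain ⟨V, hQ'V, hVD, hVc, hMV⟩ :=
      Cfsg.Agent.lead.invariant_pgroup_le_invariant_sylow M D hMD hcopMD (Or.inr hDs) q Q' hQ'D
        hQ'p hMQ'
    obtain ⟨k, hkD, hk⟩ := Cfsg.Agent.helper23.sylow_order_conj D V Qs q hVD hQsD hVc hQsc
    obtain ⟨c, hc, hcV⟩ := Cfsg.Agent.lead.invariant_sylow_conj M D hMD hcopMD (Or.inr hDs) V Qs k
      hkD hk hMV hMQs
    rw [hCDM, Subgroup.mem_bot] at hc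
    rw [hc, cj_one] at hcV
    rw [← hcV]; exact hQ'V
  have hQsinv : Qs ∈ Cfsg.invSubgroups R M {q} :=
    ⟨hQsD.trans hDR, Cfsg.Agent.helper23.primes_of_isPGroup q Qs hQsp, hMQs⟩
  have hQsmax : Qs ∈ Cfsg.maxInvSubgroups R M {q} :=
    ⟨hQsinv, fun Q' hQ' hle => le_antisymm (key Q' hQ') hle⟩
  have huniq : ∀ Q' : Subgroup G, Q' ∈ Cfsg.maxInvSubgroups R M {q} → Q' = Qs := by
    rintro Q' ⟨hQ'inv, hQ'max⟩
    exact (hQ'max Qs hQsinv (key Q' hQ'inv)).symm
  have hrel : ¬ q ∣ Qs.relIndex D := by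
    intro hdvd
    have h1 : (⊥ : Subgroup G).relIndex Qs * Qs.relIndex D = (⊥ : Subgroup G).relIndex D :=
      Subgroup.relIndex_mul_relIndex _ _ _ bot_le hQsD
    obtain ⟨k, hk⟩ : ∃ k, k = (Nat.card D).factorization q := ⟨_, rfl⟩
    rw [Subgroup.relIndex_bot_left, Subgroup.relIndex_bot_left, hQsc, ← hk] at h1
    have h2 : q ^ (k + 1) ∣ Nat.card D := by
      rw [← h1, pow_succ]
      exact Nat.mul_dvd_mul_left _ hdvd
    rw [hk] at h2
    exact Nat.pow_succ_factorization_not_dvd (Nat.card_pos (α := ↥D)).ne' hq.out h2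
  refine ⟨Qs, ⟨hQsmax, ?_⟩, ?_⟩
  · intro Q' hQ'
    rw [huniq Q' hQ']
    exact ⟨hQsD, hrel⟩
  · rintro Q₂ ⟨hQ₂, -⟩
    exact huniq Q₂ hQ₂

end Cfsg.Agent.helper15.BL
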