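import Mathlib
import Cfsg.Agent.Lib_helper15_BL2
import Cfsg.Agent.Lib_helper7_Bender

set_option autoImplicit false
set_option linter.style.haveILetI false
set_option linter.unusedSectionVars false
set_option maxHeartbeats 1600000

/-! Two maximal subgroups `H`, `L` of a simple group with `Z(F(H)) ≤ L`: mutual containment of the
Fitting subgroups. -/

namespace Cfsg.Agent.helper15.BL

open Cfsg.Agent.helper7
open scoped commutatorElement

universe u

variable {G : Type u} [Group G] [Finite G]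

/-- Crossed `P × Q` argument. -/
theorem pxq_cross {p r : ℕ} [hp : Fact p.Prime] [hr : Fact r.Prime] (hpr : p ≠ r)
    (Zp Zr U H' F' : Subgroup G)
    (hZp : IsPGroup p Zp) (hZr : IsPGroup r Zr) (hU : IsPGroup p U) (hF' : IsPGroup r F')
    (hcomm : Zp ≤ Subgroup.centralizer (Zr : Set G))
    (hZpU : Zp ≤ Subgroup.normalizer (U : Set G)) (hZrU : Zr ≤ Subgroup.normalizer (U : Set G))
    (hC : Subgroup.centralizer (Zp : Set G) ≤ H') (hH'F' : H' ≤ Subgroup.normalizer (F' : Set G))
    (hZrF' : Zr ≤ F') : Zr ≤ Subgroup.centralizer (U : Set G) := by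
  apply thompson_PxQ (p := p) (P := Zp) (Q := Zr) (U := U) hZp ?_ hU hcomm hZpU hZrU ?_
  · obtain ⟨k, hk⟩ := hZr.exists_card_eq
    rw [hk]; exact Nat.Coprime.pow_left k ((Nat.coprime_primes hr.out hp.out).2 hpr.symm)
  · obtain ⟨T, hT⟩ : ∃ T : Subgroup G, T = U ⊓ Subgroup.centralizer (Zp : Set G) := ⟨_, rfl⟩
    rw [← hT]
    have hTH : T ≤ H' := by rw [hT]; exact inf_le_right.trans hC
    have hTp : IsPGroup p T := by rw [hT]; exact hU.to_le inf_le_left
    have hZrT : Zr ≤ Subgroup.normalizer (T : Set G) := by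
      rw [hT]
      refine (le_inf hZrU ?_).trans Subgroup.inf_normalizer_le_normalizer_inf
      exact ((Subgroup.le_centralizer_iff.1 hcomm).trans
        (Subgroup.centralizer_le_normalizer _)).trans (normalizer_le_normalizer_centralizer _)
    have hTF : T ⊓ F' = ⊥ := by
      apply Subgroup.inf_eq_bot_of_coprime
      obtain ⟨k, hk⟩ := hTp.exists_card_eq
      obtain ⟨j, hj⟩ := hF'.exists_card_eq
      rw [hk, hj]; exact Nat.Coprime.pow _ _ ((Nat.coprime_primes hp.out hr.out).2 hpr)
    have h1 : ⁅T, Zr⁆ = ⊥ := by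
      rw [eq_bot_iff, ← hTF]
      apply le_inf
      · exact comm_le_of_normal le_rfl hZrT
      · rw [Subgroup.commutator_comm]
        exact comm_le_of_normal hZrF' (hTH.trans hH'F')
    exact Subgroup.commutator_eq_bot_iff_le_centralizer.1 h1

/-- `Z(O_p(H)) ≤ Z(F(H))`. -/
theorem center_core_le_center_fitOf (H : Subgroup G) (p : ℕ) [hp : Fact p.Prime] :
    piCoreIn {p} H ⊓ Subgroup.centralizer ((piCoreIn {p} H : Subgroup G) : Set G) ≤
      fitOf H ⊓ Subgroup.centralizer ((fitOf H : Subgroup G) : Set G) := by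
  refine le_inf (inf_le_left.trans (piCoreIn_le_fitOf hp.out H)) ?_
  apply le_centralizer_fitOf
  intro r hr
  by_cases hrp : r = p
  · subst hrp; exact inf_le_right
  · intro x hx
    refine Subgroup.mem_centralizer_iff.2 ?_
    intro y hy
    exact core_commute hrp H y x hy (Subgroup.mem_inf.mp hx).1

theorem centralizer_bot_eq_top' :
    Subgroup.centralizer (((⊥ : Subgroup G) : Subgroup G) : Set G) = ⊤ := by
  rw [eq_top_iff]
  intro y _
  refine Subgroup.mem_centralizer_iff.2 ?_
  intro z hz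
  have hz1 : z = 1 := by simpa using hz
  rw [hz1, one_mul, mul_one]

/-- One direction of the mutual containment. -/
theorem half [IsSimpleGroup G] (H L : Subgroup G) (hH : IsCoatom H) (hLs : Group.IsSolvable ↥L)
    (hZ : ∀ p : ℕ, p.Prime →
      piCoreIn {p} H ⊓ Subgroup.centralizer ((piCoreIn {p} H : Subgroup G) : Set G) ≤ L)
    (hq : ∀ q : ℕ, q.Prime → ¬ q ∣ Nat.card (fitOf H) → piCoreIn {q} L = ⊥)
    (hF2 : 2 ≤ (Nat.card (fitOf H)).primeFactors.card) :
    fitOf L ≤ H ∧ ∀ p : ℕ, p.Prime → p ∣ Nat.card (fitOf H) → p ∣ Nat.card (fitOf L) := by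
  -- centralizers of the centres lie in `H`
  have hCZ : ∀ p : ℕ, p.Prime → p ∣ Nat.card (fitOf H) →
      Subgroup.centralizer ((piCoreIn {p} H ⊓
        Subgroup.centralizer ((piCoreIn {p} H : Subgroup G) : Set G) : Subgroup G) : Set G) ≤ H := by
    intro p hp hpF
    haveI : Fact p.Prime := ⟨hp⟩
    have hne := center_core_ne_bot H p (core_ne_bot_of_dvd H p hpF)
    have hle : piCoreIn {p} H ⊓ Subgroup.centralizer ((piCoreIn {p} H : Subgroup G) : Set G) ≤ H :=
      inf_le_left.trans (piCoreIn_le _ H)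
    have hn : H ≤ Subgroup.normalizer ((piCoreIn {p} H ⊓
        Subgroup.centralizer ((piCoreIn {p} H : Subgroup G) : Set G) : Subgroup G) : Set G) := by
      have h1 : H ≤ Subgroup.normalizer ((piCoreIn {p} H : Subgroup G) : Set G) :=
        piCoreIn_normal _ H
      exact (le_inf h1 (h1.trans (normalizer_le_normalizer_centralizer _))).trans
        Subgroup.inf_normalizer_le_normalizer_inf
    have := normalizer_eq_of_coatom hH hne hle hn
    exact (Subgroup.centralizer_le_normalizer _).trans this.le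
  have step : ∀ p r : ℕ, p.Prime → r.Prime → p ∣ Nat.card (fitOf H) → p ≠ r →
      piCoreIn {r} H ⊓ Subgroup.centralizer ((piCoreIn {r} H : Subgroup G) : Set G) ≤
        Subgroup.centralizer ((piCoreIn {p} L : Subgroup G) : Set G) := by
    intro p r hp hr hpF hpr
    haveI : Fact p.Prime := ⟨hp⟩
    haveI : Fact r.Prime := ⟨hr⟩
    apply pxq_cross hpr
      (piCoreIn {p} H ⊓ Subgroup.centralizer ((piCoreIn {p} H : Subgroup G) : Set G))
      (piCoreIn {r} H ⊓ Subgroup.centralizer ((piCoreIn {r} H : Subgroup G) : Set G))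
      (piCoreIn {p} L) H (piCoreIn {r} H)
      ((core_isPGroup H).to_le inf_le_left) ((core_isPGroup H).to_le inf_le_left)
      (core_isPGroup L) (core_isPGroup H)
    · intro x hx
      refine Subgroup.mem_centralizer_iff.2 ?_
      intro y hy
      exact core_commute (Ne.symm hpr) H y x (Subgroup.mem_inf.mp hy).1 (Subgroup.mem_inf.mp hx).1
    · exact (hZ p hp).trans (piCoreIn_normal _ L)
    · exact (hZ r hr).trans (piCoreIn_normal _ L)
    · exact hCZ p hp hpF
    · exact piCoreIn_normal _ H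
    · exact inf_le_left
  have hex : ∀ p : ℕ, ∃ r : ℕ, r.Prime ∧ r ∣ Nat.card (fitOf H) ∧ r ≠ p := by
    intro p
    obtain ⟨r, hr, hrp⟩ := Finset.exists_mem_ne
      (by omega : 1 < (Nat.card (fitOf H)).primeFactors.card) p
    exact ⟨r, Nat.prime_of_mem_primeFactors hr, Nat.dvd_of_mem_primeFactors hr, hrp⟩
  constructor
  · rw [fitOf_eq_iSup]
    apply iSup_le
    rintro ⟨p, hp⟩
    show piCoreIn {p} L ≤ H
    by_cases hpF : p ∣ Nat.card (fitOf H)
    · obtain ⟨r, hr, hrF, hrp⟩ := hex p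
      have h1 := step p r hp hr hpF (Ne.symm hrp)
      exact (Subgroup.le_centralizer_iff.1 h1).trans (hCZ r hr hrF)
    · rw [hq p hp hpF]; exact bot_le
  · intro p hp hpF
    by_contra hpL
    haveI : Fact p.Prime := ⟨hp⟩
    have hbot : piCoreIn {p} L = ⊥ := core_eq_bot_of_not_dvd L p hpL
    obtain ⟨Z, hZdef⟩ : ∃ Z : Subgroup G, Z = piCoreIn {p} H ⊓
      Subgroup.centralizer ((piCoreIn {p} H : Subgroup G) : Set G) := ⟨_, rfl⟩
    have hZne : Z ≠ ⊥ := by
      rw [hZdef]; exact center_core_ne_bot H p (core_ne_bot_of_dvd H p hpF)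
    have hZL : Z ≤ L := by rw [hZdef]; exact hZ p hp
    have hZp : IsPGroup p Z := by rw [hZdef]; exact (core_isPGroup H).to_le inf_le_left
    have h1 : Z ≤ Subgroup.centralizer ((fitOf L : Subgroup G) : Set G) := by
      apply le_centralizer_fitOf
      intro s hs
      by_cases hsp : s = p
      · rw [hsp, hbot, centralizer_bot_eq_top']; exact le_top
      · by_cases hsF : s ∣ Nat.card (fitOf H)
        · rw [hZdef]; exact step s p hs hp hsF hsp
        · rw [hq s hs hsF, centralizer_bot_eq_top']; exact le_top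
    have h2 : Z ≤ fitOf L := (le_inf hZL h1).trans (inf_centralizer_fitOf_le L hLs)
    have h3 : Z ≤ piCoreIn {p} L := pgroup_le_core L Z h2 hZp
    rw [hbot, le_bot_iff] at h3
    exact hZne h3

/-- Mutual containment of the Fitting subgroups. -/
theorem fitting_mutual [IsSimpleGroup G] (H L : Subgroup G) (hH : IsCoatom H) (hL : IsCoatom L)
    (hHs : Group.IsSolvable ↥H) (hLs : Group.IsSolvable ↥L)
    (hF2 : 2 ≤ (Nat.card (fitOf H)).primeFactors.card)
    (hZL : fitOf H ⊓ Subgroup.centralizer ((fitOf H : Subgroup G) : Set G) ≤ L)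
    (hq : ∀ q : ℕ, q.Prime → ¬ q ∣ Nat.card (fitOf H) → piCoreIn {q} L = ⊥) :
    fitOf L ≤ H ∧ fitOf H ≤ L := by
  have hZ : ∀ p : ℕ, p.Prime →
      piCoreIn {p} H ⊓ Subgroup.centralizer ((piCoreIn {p} H : Subgroup G) : Set G) ≤ L := by
    intro p hp
    haveI : Fact p.Prime := ⟨hp⟩
    exact (center_core_le_center_fitOf H p).trans hZL
  obtain ⟨h1, h2⟩ := half H L hH hLs hZ hq hF2
  refine ⟨h1, ?_⟩
  have hZ' : ∀ p : ℕ, p.Prime →
      piCoreIn {p} L ⊓ Subgroup.centralizer ((piCoreIn {p} L : Subgroup G) : Set G) ≤ H := by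
    intro p hp
    exact (inf_le_left.trans (piCoreIn_le_fitOf hp L)).trans h1
  have hq' : ∀ q : ℕ, q.Prime → ¬ q ∣ Nat.card (fitOf L) → piCoreIn {q} H = ⊥ := by
    intro q hq0 hqL
    haveI : Fact q.Prime := ⟨hq0⟩
    exact core_eq_bot_of_not_dvd H q (fun hqF => hqL (h2 q hq0 hqF))
  have hF2' : 2 ≤ (Nat.card (fitOf L)).primeFactors.card := by
    refine hF2.trans (Finset.card_le_card ?_)
    intro p hp
    rw [Nat.mem_primeFactors]
    exact ⟨Nat.prime_of_mem_primeFactors hp,
      h2 p (Nat.prime_of_mem_primeFactors hp) (Nat.dvd_of_mem_primeFactors hp),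
      (Nat.card_pos (α := ↥(fitOf L))).ne'⟩
  exact (half L H hL hHs hZ' hq' hF2').1

theorem layerOf_eq_bot_of_solvable (K : Subgroup G) (hK : Group.IsSolvable ↥K) :
    layerOf K = ⊥ := by
  unfold layerOf
  rw [eq_bot_iff]
  apply sSup_le
  rintro C ⟨hsn, hqs⟩
  exact absurd hsn.le (hqs.not_le_solvable hK)

end Cfsg.Agent.helper15.BL
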