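import Mathlib
import Cfsg.Agent.Lib_helper7_Bender

set_option autoImplicit false

namespace Cfsg.Agent.helper7

open scoped commutatorElement Pointwise

variable {G : Type*} [Group G] [Finite G] {A S : Subgroup G}

/-- A subnormal self-centralizing subgroup of `F*(A)` contains the layer. -/
theorem layerOf_le_of_selfcent (hS : SN S (fstarOf A))
    (hSC : fstarOf A ⊓ Subgroup.centralizer (S : Set G) ≤ S) : layerOf A ≤ S := by
  apply sSup_le
  intro L hL
  have hLF' : L ≤ fstarOf A := (comp_le_layerOf hL).trans le_sup_left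
  have hLF : Comp L (fstarOf A) := Comp.of_le hL hLF' (fstarOf_le A)
  rcases comp_le_or_comm hLF.1 hLF.2 hS with h | h
  · exact h
  · exact (le_inf hLF' (Subgroup.commutator_eq_bot_iff_le_centralizer.1 h)).trans hSC

theorem selfcent_inf (hS : SN S (fstarOf A))
    (hSC : fstarOf A ⊓ Subgroup.centralizer (S : Set G) ≤ S) {M : Subgroup G} (hM : M ≤ fitOf A)
    (hdec : ∀ n ∈ S ⊓ fitOf A, ∃ n' ∈ S ⊓ M, ∃ n'' ∈ Subgroup.centralizer (M : Set G),
      n = n' * n'') :
    M ⊓ Subgroup.centralizer ((S ⊓ M : Subgroup G) : Set G) ≤ S ⊓ M := by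
  have hES := layerOf_le_of_selfcent hS hSC
  rintro u ⟨huM, huc⟩
  replace huM : u ∈ M := huM
  replace huc : u ∈ Subgroup.centralizer ((S ⊓ M : Subgroup G) : Set G) := huc
  refine ⟨hSC ⟨(hM.trans le_sup_right) huM, ?_⟩, huM⟩
  show u ∈ Subgroup.centralizer (S : Set G)
  rw [Subgroup.mem_centralizer_iff]
  intro s hs
  have hsF : s ∈ layerOf A ⊔ fitOf A := hS.le hs
  obtain ⟨e, he, n, hn, rfl⟩ :=
    mem_sup_of_normalizer ((fitOf_le A).trans (layerOf_normal A)) hsF
  have hnS : n ∈ S := by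
    have : n = e⁻¹ * (e * n) := by group
    rw [this]
    exact S.mul_mem (S.inv_mem (hES he)) hs
  obtain ⟨n', hn', n'', hn'', rfl⟩ := hdec n ⟨hnS, hn⟩
  have k1 : Commute e u := by
    have h1 : layerOf A ≤ Subgroup.centralizer (fitOf A : Set G) :=
      Subgroup.commutator_eq_bot_iff_le_centralizer.1 (layerOf_comm_fitOf A)
    have h2 := h1 he
    rw [Subgroup.mem_centralizer_iff] at h2
    exact (h2 u (hM huM)).symm
  have k2 : Commute n' u := by
    rw [Subgroup.mem_centralizer_iff] at huc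
    exact huc n' hn'
  have k3 : Commute n'' u := by
    rw [Subgroup.mem_centralizer_iff] at hn''
    exact (hn'' u huM).symm
  exact (k1.mul_left (k2.mul_left k3)).eq

/-- the key step of Bender's lemma -/
theorem bender_key {q : ℕ} [Fact q.Prime] (hS : SN S (fstarOf A))
    (hSC : fstarOf A ⊓ Subgroup.centralizer (S : Set G) ≤ S) {Y M : Subgroup G} (hYA : Y ≤ A)
    (hYq : IsPGroup q ↥Y) (hSY : S ≤ Subgroup.normalizer (Y : Set G)) (hM : M ≤ fitOf A)
    (hAM : A ≤ Subgroup.normalizer (M : Set G)) (hqM : ¬ q ∣ Nat.card ↥M)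
    (hCM : M ⊓ Subgroup.centralizer ((S ⊓ M : Subgroup G) : Set G) ≤ S ⊓ M) :
    Y ≤ Subgroup.centralizer (layerOf A : Set G) ∧ Y ≤ Subgroup.centralizer (M : Set G) := by
  have hES := layerOf_le_of_selfcent hS hSC
  constructor
  · rw [Subgroup.le_centralizer_iff]
    apply sSup_le
    intro L hL
    have hLS : L ≤ S := (comp_le_layerOf hL).trans hES
    have hLY : L ≤ Subgroup.normalizer (Y : Set G) := hLS.trans hSY
    have hc : Comp L (Y ⊔ L) := Comp.of_le hL le_sup_right (sup_le hYA hL.1.le)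
    have hsn : SN Y (Y ⊔ L) := SN.of_normal le_sup_left (sup_le Subgroup.le_normalizer hLY)
    haveI : Group.IsNilpotent ↥Y := hYq.isNilpotent
    have hsol : Group.IsSolvable ↥Y := inferInstance
    exact Subgroup.commutator_eq_bot_iff_le_centralizer.1 (hc.comm_solvable hsn hsol)
  · have hq : q.Prime := Fact.out
    have hMnil : Group.IsNilpotent ↥M := nilpotent_of_le hM (fitOf_nilpotent A)
    have h1 : ⁅S ⊓ M, Y⁆ ≤ Y ⊓ M := by
      apply le_inf
      · rw [Subgroup.commutator_comm]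
        exact commutator_le_of_normalizer (inf_le_left.trans hSY)
      · exact comm_le_of_normal inf_le_right (hYA.trans hAM)
    have h2 : Y ⊓ M = ⊥ := by
      rw [eq_bot_iff]
      intro g hg
      rw [Subgroup.mem_bot]
      obtain ⟨k, hk⟩ := hYq ⟨g, hg.1⟩
      have hk' : g ^ q ^ k = 1 := congrArg Subtype.val hk
      have h3 : orderOf g ∣ q ^ k := orderOf_dvd_of_pow_eq_one hk'
      have h4 : orderOf g ∣ Nat.card ↥M := by
        have := orderOf_dvd_natCard (⟨g, hg.2⟩ : ↥M)
        rwa [Subgroup.orderOf_mk] at this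
      have h5 : (q ^ k).Coprime (Nat.card ↥M) :=
        Nat.Coprime.pow_left k ((Nat.Prime.coprime_iff_not_dvd hq).2 hqM)
      have h6 : orderOf g = 1 := Nat.eq_one_of_dvd_coprimes h5 h3 h4
      exact orderOf_eq_one_iff.1 h6
    have h3 : ⁅S ⊓ M, Y⁆ = ⊥ := by rw [eq_bot_iff, ← h2]; exact h1
    have hYT : Y ≤ Subgroup.centralizer ((S ⊓ M : Subgroup G) : Set G) :=
      le_centralizer_of_comm_eq_bot h3
    exact nilpotent_AxB hYq hMnil hqM (hYA.trans hAM) inf_le_right hYT hCM

end Cfsg.Agent.helper7
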