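import Mathlib
import Cfsg.Statements.S1247
import Cfsg.Agent.Lib_helper7_Bender2

set_option autoImplicit false
open Cfsg

namespace Cfsg.Agent.helper7

open scoped commutatorElement Pointwise

variable {G : Type*} [Group G] [Finite G]

theorem pgroup_inf_eq_bot' {q : ℕ} [Fact q.Prime] {Y M : Subgroup G} (hYq : IsPGroup q ↥Y)
    (hqM : ¬ q ∣ Nat.card ↥M) : Y ⊓ M = ⊥ := by
  have hq : q.Prime := Fact.out
  rw [eq_bot_iff]
  intro g hg
  rw [Subgroup.mem_bot]
  obtain ⟨k, hk⟩ := hYq ⟨g, hg.1⟩
  have hk' : g ^ q ^ k = 1 := congrArg Subtype.val hk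
  have h3 : orderOf g ∣ q ^ k := orderOf_dvd_of_pow_eq_one hk'
  have h4 : orderOf g ∣ Nat.card ↥M := by
    have := orderOf_dvd_natCard (⟨g, hg.2⟩ : ↥M)
    rwa [Subgroup.orderOf_mk] at this
  have h5 : (q ^ k).Coprime (Nat.card ↥M) :=
    Nat.Coprime.pow_left k ((Nat.Prime.coprime_iff_not_dvd hq).2 hqM)
  have h6 : orderOf g = 1 := Nat.eq_one_of_dvd_coprimes h5 h3 h4
  exact orderOf_eq_one_iff.1 h6

theorem center_fstarOf_le_fitOf (A : Subgroup G) :
    fstarOf A ⊓ Subgroup.centralizer (fstarOf A : Set G) ≤ fitOf A := by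
  set ZF := fstarOf A ⊓ Subgroup.centralizer (fstarOf A : Set G) with hZF
  have h1 : ZF ≤ Subgroup.centralizer (ZF : Set G) :=
    inf_le_right.trans (Subgroup.centralizer_le inf_le_left)
  have h2 : ⁅ZF, ZF⁆ = ⊥ := Subgroup.commutator_eq_bot_iff_le_centralizer.2 h1
  have hnil : Group.IsNilpotent ↥ZF := nilpotent_of_comm_le_centralizer (by rw [h2]; exact bot_le)
  have hsn : SN ZF A := SN.of_normal (inf_le_left.trans (fstarOf_le A))
    (le_normalizer_inf (fstarOf_normal A)
      ((fstarOf_normal A).trans (normalizer_le_normalizer_centralizer _)))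
  exact nilpotent_sn_le_fitOf hsn hnil

/-- Bender's lemma, part (a). -/
theorem bender_a {A S B : Subgroup G} (hS : SN S (fstarOf A))
    (hSC : fstarOf A ⊓ Subgroup.centralizer (S : Set G) ≤ S) (hSB : S ≤ B) {q : ℕ} (hq : q.Prime)
    (hqN : ¬ q ∣ Nat.card ↥(fitOf A)) : piCoreIn {q} B ⊓ A = ⊥ := by
  haveI : Fact q.Prime := ⟨hq⟩
  have hSA : S ≤ A := hS.le.trans (fstarOf_le A)
  set X := piCoreIn {q} B ⊓ A with hX
  have hXq : IsPGroup q ↥X := (isPGroup_iff_piGrp hq).2 ((piCoreIn_piGrp {q} B).mono inf_le_left)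
  have hSX : S ≤ Subgroup.normalizer (X : Set G) :=
    le_normalizer_inf (hSB.trans (piCoreIn_normal {q} B)) (hSA.trans Subgroup.le_normalizer)
  have hdec : ∀ n ∈ S ⊓ fitOf A, ∃ n' ∈ S ⊓ fitOf A,
      ∃ n'' ∈ Subgroup.centralizer (fitOf A : Set G), n = n' * n'' :=
    fun n hn => ⟨n, hn, 1, Subgroup.one_mem _, (mul_one n).symm⟩
  have hCM := selfcent_inf hS hSC le_rfl hdec
  obtain ⟨h1, h2⟩ := bender_key hS hSC inf_le_right hXq hSX le_rfl (fitOf_normal A) hqN hCM
  have h3 : X ≤ Subgroup.centralizer (fstarOf A : Set G) := fun x hx =>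
    mem_centralizer_sup (h1 hx) (h2 hx)
  have h4 : X ≤ fstarOf A := (le_inf inf_le_right h3).trans (centralizer_fstarOf_le A)
  have h5 : X ≤ fitOf A := (le_inf h4 h3).trans (center_fstarOf_le_fitOf A)
  have h6 := pgroup_inf_eq_bot' hXq hqN
  rw [inf_eq_left.2 h5] at h6
  exact h6

/-- Bender's lemma, part (b). -/
theorem bender_b [IsSimpleGroup G] {A S B : Subgroup G} (hA : IsCoatom A) (hS : SN S (fstarOf A))
    (hSC : fstarOf A ⊓ Subgroup.centralizer (S : Set G) ≤ S) (hSB : S ≤ B) {p : ℕ} (hp : p.Prime)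
    (hpN : p ∣ Nat.card ↥(fitOf A)) :
    ∀ g ∈ fstarOf A, (orderOf g).Coprime p →
      g ∈ Subgroup.centralizer (piCoreIn {p} B : Set G) := by
  haveI : Fact p.Prime := ⟨hp⟩
  have hSA : S ≤ A := hS.le.trans (fstarOf_le A)
  have hES := layerOf_le_of_selfcent hS hSC
  set R := piCoreIn {p} A with hR
  set M := fitOf A ⊓ piCoreIn {q | q ≠ p} A with hM
  have hMN : M ≤ fitOf A := inf_le_left
  have hAM : A ≤ Subgroup.normalizer (M : Set G) :=
    le_normalizer_inf (fitOf_normal A) (piCoreIn_normal _ A)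
  have hMp' : PiGrp {q | q ≠ p} M := (piCoreIn_piGrp _ A).mono inf_le_right
  have hMcop : (Nat.card ↥M).Coprime p := (coprime_card_iff_piGrp hp).2 hMp'
  have hpM : ¬ p ∣ Nat.card ↥M := (Nat.Prime.coprime_iff_not_dvd hp).1 hMcop.symm
  have hRp : IsPGroup p ↥R := (isPGroup_iff_piGrp hp).2 (piCoreIn_piGrp {p} A)
  have hAR : A ≤ Subgroup.normalizer (R : Set G) := piCoreIn_normal {p} A
  have hRA : R ≤ A := piCoreIn_le _ A
  have hRN : R ≤ fitOf A := piCoreIn_le_fitOf hp A
  have hNdec : fitOf A ≤ M ⊔ R := by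
    rw [fitOf_eq_iSup]
    apply iSup_le
    rintro ⟨r, hr⟩
    by_cases hrp : r = p
    · subst hrp; exact le_sup_right
    · refine le_trans ?_ le_sup_left
      apply le_inf (piCoreIn_le_fitOf hr A)
      apply le_piCoreIn_of_sn (SN.of_normal (piCoreIn_le _ A) (piCoreIn_normal _ A))
      intro x hx q hq hdvd
      have := piCoreIn_piGrp {r} A x hx q hq hdvd
      rw [Set.mem_singleton_iff] at this
      rw [this]; exact hrp
  have hRM : R ≤ Subgroup.centralizer (M : Set G) := by
    apply Subgroup.commutator_eq_bot_iff_le_centralizer.1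
    rw [eq_bot_iff]
    have h1 : ⁅R, M⁆ ≤ R := comm_le_of_normal le_rfl ((hMN.trans (fitOf_le A)).trans hAR)
    have h2 : ⁅R, M⁆ ≤ M := by
      rw [Subgroup.commutator_comm]
      exact comm_le_of_normal le_rfl (hRA.trans hAM)
    have h3 : R ⊓ M = ⊥ := by
      apply piGrp_inf_eq_bot (π := {p}) (π' := {q | q ≠ p}) _ (piCoreIn_piGrp {p} A) hMp'
      intro q hq1 hq2
      exact hq2 hq1
    rw [← h3]; exact le_inf h1 h2
  have hdec : ∀ n ∈ S ⊓ fitOf A, ∃ n' ∈ S ⊓ M, ∃ n'' ∈ Subgroup.centralizer (M : Set G),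
      n = n' * n'' := by
    rintro n ⟨hnS, hnN⟩
    obtain ⟨n', hn', n'', hn'', rfl⟩ := mem_sup_of_normalizer (hRA.trans hAM) (hNdec hnN)
    have hcomm : n' * n'' = n'' * n' := by
      have := hRM hn''
      rw [Subgroup.mem_centralizer_iff] at this
      exact this n' hn'
    obtain ⟨k, hk⟩ := hRp ⟨n'', hn''⟩
    have hk' : n'' ^ p ^ k = 1 := congrArg Subtype.val hk
    have ho : orderOf n' ∣ Nat.card ↥M := by
      have := orderOf_dvd_natCard (⟨n', hn'⟩ : ↥M)
      rwa [Subgroup.orderOf_mk] at this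
    have hcop : (p ^ k).Coprime (orderOf n') :=
      Nat.Coprime.pow_left k (Nat.Coprime.coprime_dvd_left ho hMcop).symm
    have hz := mem_zpowers_of_coprime_decomp rfl hcomm hk' hcop
    have hn'S : n' ∈ S := (Subgroup.zpowers_le.2 hnS) hz
    exact ⟨n', ⟨hn'S, hn'⟩, n'', hRM hn'', rfl⟩
  have hCM := selfcent_inf hS hSC hMN hdec
  -- the centre of `O_p(A)`
  set Z := R ⊓ Subgroup.centralizer (R : Set G) with hZ
  have hRne : R ≠ ⊥ := by
    intro h0
    apply hpM
    have : fitOf A ≤ M := by
      have := hNdec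
      rwa [h0, sup_bot_eq] at this
    exact hpN.trans (Subgroup.card_dvd_of_le this)
  have hZne : Z ≠ ⊥ := by
    haveI : Nontrivial ↥R := (Subgroup.nontrivial_iff_ne_bot R).2 hRne
    haveI hcn : Nontrivial ↥(Subgroup.center ↥R) := hRp.center_nontrivial
    obtain ⟨⟨z, hz⟩, hz1⟩ := exists_ne (1 : ↥(Subgroup.center ↥R))
    intro h0
    apply hz1
    have hzZ : (z : G) ∈ Z := by
      refine ⟨z.2, ?_⟩
      show (z : G) ∈ Subgroup.centralizer (R : Set G)
      rw [Subgroup.mem_centralizer_iff]
      intro g hg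
      rw [Subgroup.mem_center_iff] at hz
      exact congrArg Subtype.val (hz ⟨g, hg⟩)
    rw [h0, Subgroup.mem_bot] at hzZ
    apply Subtype.ext
    apply Subtype.ext
    exact hzZ
  have hNE : fitOf A ≤ Subgroup.centralizer (layerOf A : Set G) :=
    Subgroup.le_centralizer_iff.1
      (Subgroup.commutator_eq_bot_iff_le_centralizer.1 (layerOf_comm_fitOf A))
  have hcentN : ∀ z : G, z ∈ Subgroup.centralizer (M : Set G) →
      z ∈ Subgroup.centralizer (R : Set G) → z ∈ fitOf A →
      z ∈ Subgroup.centralizer (fstarOf A : Set G) := by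
    intro z h1 h2 h3
    apply mem_centralizer_sup (hNE h3)
    exact Subgroup.centralizer_le hNdec (mem_centralizer_sup h1 h2)
  have hZF : Z ≤ Subgroup.centralizer (fstarOf A : Set G) := by
    rintro z ⟨hzR, hzc⟩
    exact hcentN z (hRM hzR) hzc (hRN hzR)
  have hZS : Z ≤ S := by
    refine le_trans (le_inf ?_ ?_) hSC
    · exact (inf_le_left.trans hRN).trans le_sup_right
    · exact hZF.trans (Subgroup.centralizer_le hS.le)
  have hAZ : A ≤ Subgroup.normalizer (Z : Set G) :=
    le_normalizer_inf hAR (hAR.trans (normalizer_le_normalizer_centralizer R))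
  have hNZ : Subgroup.normalizer (Z : Set G) = A :=
    normalizer_eq_of_coatom hA hZne (inf_le_left.trans hRA) hAZ
  set Y := piCoreIn {p} B with hY
  have hYp : IsPGroup p ↥Y := (isPGroup_iff_piGrp hp).2 (piCoreIn_piGrp {p} B)
  have hSY : S ≤ Subgroup.normalizer (Y : Set G) := hSB.trans (piCoreIn_normal {p} B)
  have hY₀A : Y ⊓ Subgroup.centralizer (Z : Set G) ≤ A := by
    refine inf_le_right.trans ?_
    rw [← hNZ]
    exact Subgroup.centralizer_le_normalizer _
  have hSY₀ : S ≤ Subgroup.normalizer ((Y ⊓ Subgroup.centralizer (Z : Set G) : Subgroup G) : Set G) :=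
    le_normalizer_inf hSY ((hSA.trans hAZ).trans (normalizer_le_normalizer_centralizer Z))
  obtain ⟨h1, h2⟩ := bender_key hS hSC hY₀A (hYp.to_le inf_le_left) hSY₀ hMN hAM hpM hCM
  have hZp : IsPGroup p ↥Z := hRp.to_le inf_le_left
  have hTY : S ⊓ M ≤ Subgroup.centralizer (Y : Set G) := by
    apply thompson_PxQ (P := Z) (Q := S ⊓ M) (U := Y) hZp
      ((coprime_card_iff_piGrp hp).2 (hMp'.mono inf_le_right)) hYp
    · exact (inf_le_left.trans hRM).trans (Subgroup.centralizer_le inf_le_right)
    · exact hZS.trans hSY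
    · exact inf_le_left.trans hSY
    · exact h2.trans (Subgroup.centralizer_le inf_le_right)
  have hEY : layerOf A ≤ Subgroup.centralizer (Y : Set G) := by
    apply sSup_le
    intro L hL
    have hLF : L ≤ fstarOf A := (comp_le_layerOf hL).trans le_sup_left
    apply thompson_PxQ_perfect (P := Z) (X := L) (U := Y) hZp hL.2.1 hYp
    · exact hZF.trans (Subgroup.centralizer_le hLF)
    · exact hZS.trans hSY
    · exact ((comp_le_layerOf hL).trans hES).trans hSY
    · exact h1.trans (Subgroup.centralizer_le (comp_le_layerOf hL))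
  have hYW : Y ≤ Subgroup.centralizer ((layerOf A ⊔ M : Subgroup G) : Set G) := by
    by_cases hcase : layerOf A = ⊥ ∧ M = ⊥
    · rw [hcase.1, hcase.2, bot_sup_eq]
      intro y _
      rw [Subgroup.mem_centralizer_iff]
      intro h hh
      have : h = 1 := Subgroup.mem_bot.1 hh
      rw [this, one_mul, mul_one]
    · have hYA : Y ≤ A := by
        by_cases hE : layerOf A = ⊥
        · have hMb : M ≠ ⊥ := fun h => hcase ⟨hE, h⟩
          set K := M ⊓ Subgroup.centralizer (M : Set G) with hK
          have hKne : K ≠ ⊥ := by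
            haveI : Nontrivial ↥M := (Subgroup.nontrivial_iff_ne_bot M).2 hMb
            haveI : Group.IsNilpotent ↥M := nilpotent_of_le hMN (fitOf_nilpotent A)
            have hc := Group.IsNilpotent.center_ne_bot (G := ↥M)
            obtain ⟨⟨z, hz⟩, hz1⟩ := (Subgroup.ne_bot_iff_exists_ne_one).1 hc
            intro h0
            have hzK : (z : G) ∈ K := by
              refine ⟨z.2, ?_⟩
              show (z : G) ∈ Subgroup.centralizer (M : Set G)
              rw [Subgroup.mem_centralizer_iff]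
              intro g hg
              rw [Subgroup.mem_center_iff] at hz
              exact congrArg Subtype.val (hz ⟨g, hg⟩)
            rw [h0, Subgroup.mem_bot] at hzK
            apply hz1
            apply Subtype.ext
            apply Subtype.ext
            exact hzK
          have hKS : K ≤ S ⊓ M := by
            refine le_inf ?_ inf_le_left
            refine le_trans (le_inf ?_ ?_) hSC
            · exact (inf_le_left.trans hMN).trans le_sup_right
            · rintro k ⟨hkM, hkc⟩
              have := hcentN k hkc (Subgroup.le_centralizer_iff.1 hRM hkM) (hMN hkM)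
              exact Subgroup.centralizer_le hS.le this
          have hAK : A ≤ Subgroup.normalizer (K : Set G) :=
            le_normalizer_inf hAM (hAM.trans (normalizer_le_normalizer_centralizer M))
          have hNK := normalizer_eq_of_coatom hA hKne
            ((inf_le_left.trans hMN).trans (fitOf_le A)) hAK
          have h3 : Y ≤ Subgroup.centralizer (K : Set G) :=
            Subgroup.le_centralizer_iff.1 (hKS.trans hTY)
          rw [← hNK]
          exact h3.trans (Subgroup.centralizer_le_normalizer _)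
        · have hNE' := normalizer_eq_of_coatom hA hE (layerOf_le A) (layerOf_normal A)
          have h3 : Y ≤ Subgroup.centralizer (layerOf A : Set G) :=
            Subgroup.le_centralizer_iff.1 hEY
          rw [← hNE']
          exact h3.trans (Subgroup.centralizer_le_normalizer _)
      obtain ⟨h1', h2'⟩ := bender_key hS hSC hYA hYp hSY hMN hAM hpM hCM
      exact fun y hy => mem_centralizer_sup (h1' hy) (h2' hy)
  intro g hgF hgo
  have hgW : g ∈ (layerOf A ⊔ M) ⊔ R := by
    have : fstarOf A ≤ (layerOf A ⊔ M) ⊔ R := by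
      unfold fstarOf
      rw [sup_assoc]
      exact sup_le_sup_left hNdec _
    exact this hgF
  have hRW : R ≤ Subgroup.normalizer ((layerOf A ⊔ M : Subgroup G) : Set G) :=
    hRA.trans (le_normalizer_sup (layerOf_normal A) hAM)
  have hgW' := mem_of_coprime_order hRW hRp hgW hgo
  exact Subgroup.le_centralizer_iff.1 hYW hgW'

end Cfsg.Agent.helper7

namespace Cfsg.Agent.S1247

open Cfsg.Agent.helper7 in
/-- Let G be a non-abelian finite simple group, A a maximal subgroup, F = F*(A) its generalized Fitting subgroup (viewed in G), and S ≤ F a subgroup subnormal in F with C_F(S) ≤ S. Let B be any subgroup of G containing S. Then (a) for every prime q not dividing |F(A)|, O_q(B) ∩ A = 1; and (b) for every prime p dividing |F(A)|, O_p(B) commutes elementwise with the subgroup of F generated by its elements of order prime to p. -/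
theorem result {G : Type*} [Group G] [Finite G] [IsSimpleGroup G] (hna : ¬ IsMulCommutative G) (A : Subgroup G) (hA : IsCoatom A) (S : Subgroup G) (hSF : S ≤ (Cfsg.generalizedFittingSubgroup ↥A).map A.subtype) (hSsn : (S.subgroupOf ((Cfsg.generalizedFittingSubgroup ↥A).map A.subtype)).IsSubnormal) (hSC : (Cfsg.generalizedFittingSubgroup ↥A).map A.subtype ⊓ Subgroup.centralizer (S : Set G) ≤ S) (B : Subgroup G) (hSB : S ≤ B) : (∀ q : ℕ, q.Prime → ¬ q ∣ Nat.card (Cfsg.fittingSubgroup ↥A) → (Cfsg.pCore q ↥B).map B.subtype ⊓ A = ⊥) ∧ (∀ p : ℕ, p.Prime → p ∣ Nat.card (Cfsg.fittingSubgroup ↥A) → ∀ x ∈ (Cfsg.pCore p ↥B).map B.subtype, ∀ y ∈ (Cfsg.pResidual p ↥(Cfsg.generalizedFittingSubgroup ↥A)).map ((Cfsg.generalizedFittingSubgroup ↥A).subtype) , x * (A.subtype y) = (A.subtype y) * x) := by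
  have hmapF := map_generalizedFittingSubgroup_eq A
  generalize hF : (Cfsg.generalizedFittingSubgroup ↥A).map A.subtype = F at hSF hSsn hSC hmapF
  subst hmapF
  have hS : SN S (fstarOf A) := sn_iff.2 ⟨hSF, hSsn⟩
  have hcard : Nat.card ↥(fitOf A) = Nat.card (Cfsg.fittingSubgroup ↥A) := by
    rw [← map_fittingSubgroup_eq, card_map_subtype]
  constructor
  · intro q hq hqN
    rw [map_pCore_eq hq B]
    rw [← hcard] at hqN
    exact bender_a hS hSC hSB hq hqN
  · intro p hp hpN x hx y hy
    rw [map_pCore_eq hp B] at hx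
    rw [← hcard] at hpN
    have key := bender_b hA hS hSC hSB hp hpN
    obtain ⟨y', hy', rfl⟩ := hy
    have hle : Cfsg.pResidual p ↥(Cfsg.generalizedFittingSubgroup ↥A) ≤
        (Subgroup.centralizer (piCoreIn {p} B : Set G)).comap
          (A.subtype.comp (Cfsg.generalizedFittingSubgroup ↥A).subtype) := by
      unfold Cfsg.pResidual
      rw [Subgroup.closure_le]
      intro g hg
      rw [SetLike.mem_coe, Subgroup.mem_comap]
      apply key
      · rw [← hF]
        exact ⟨(g : ↥A), g.2, rfl⟩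
      · have hinj : Function.Injective (A.subtype.comp (Cfsg.generalizedFittingSubgroup ↥A).subtype) :=
          (Subgroup.subtype_injective A).comp (Subgroup.subtype_injective _)
        rw [orderOf_injective _ hinj g]
        exact hg
    have h1 := hle hy'
    rw [Subgroup.mem_comap, Subgroup.mem_centralizer_iff] at h1
    exact h1 x hx

end Cfsg.Agent.S1247
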