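import Mathlib
import Cfsg.Agent.S1247

set_option autoImplicit false

namespace Cfsg.Agent.helper7

open scoped commutatorElement Pointwise

variable {G : Type*} [Group G] [Finite G]

/-- one half of the primitive pair condition -/
def Prim (A B : Subgroup G) : Prop :=
  ∀ K : Subgroup G, K ≠ ⊥ → K ≤ A ⊓ B → A ≤ Subgroup.normalizer (K : Set G) →
    B ⊓ Subgroup.normalizer (K : Set G) ≤ A

theorem fitOf_le_sup {p : ℕ} (A : Subgroup G) :
    fitOf A ≤ (fitOf A ⊓ piCoreIn {q | q ≠ p} A) ⊔ piCoreIn {p} A := by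
  rw [fitOf_eq_iSup]
  apply iSup_le
  rintro ⟨r, hr⟩
  by_cases hrp : r = p
  · subst hrp; exact le_sup_right
  · refine le_trans ?_ le_sup_left
    rw [← fitOf_eq_iSup]
    apply le_inf (piCoreIn_le_fitOf hr A)
    apply le_piCoreIn_of_sn (SN.of_normal (piCoreIn_le _ A) (piCoreIn_normal _ A))
    intro x hx q hq hdvd
    have := piCoreIn_piGrp {r} A x hx q hq hdvd
    rw [Set.mem_singleton_iff] at this
    rw [this]; exact hrp

theorem piCoreIn_ne_bot_of_dvd {p : ℕ} (hp : p.Prime) {A : Subgroup G}
    (h : p ∣ Nat.card ↥(fitOf A)) : piCoreIn {p} A ≠ ⊥ := by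
  intro h0
  have h1 := fitOf_le_sup (p := p) A
  rw [h0, sup_bot_eq] at h1
  have hMp' : PiGrp {q | q ≠ p} (fitOf A ⊓ piCoreIn {q | q ≠ p} A) :=
    (piCoreIn_piGrp _ A).mono inf_le_right
  have hMcop := (coprime_card_iff_piGrp hp).2 hMp'
  have hpM := (Nat.Prime.coprime_iff_not_dvd hp).1 hMcop.symm
  exact hpM (h.trans (Subgroup.card_dvd_of_le h1))

/-- Bender's lemma, part (b), for primitive pairs. -/
theorem bender_b' {A S B : Subgroup G} (hA : Prim A B) (hS : SN S (fstarOf A))
    (hSC : fstarOf A ⊓ Subgroup.centralizer (S : Set G) ≤ S) (hSB : S ≤ B) {p : ℕ} (hp : p.Prime)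
    (hpN : p ∣ Nat.card ↥(fitOf A)) :
    ∀ g ∈ fstarOf A, (orderOf g).Coprime p →
      g ∈ Subgroup.centralizer (piCoreIn {p} B : Set G) := by
  haveI : Fact p.Prime := ⟨hp⟩
  have hSA : S ≤ A := hS.le.trans (fstarOf_le A)
  have hES := layerOf_le_of_selfcent hS hSC
  set R := piCoreIn {p} A with hR
  set M := fitOf A ⊓ piCoreIn {q | q ≠ p} A with hM
  have hMN : M ≤ fitOf A := inf_le_left
  have hAM : A ≤ Subgroup.normalizer (M : Set G) :=
    le_normalizer_inf (fitOf_normal A) (piCoreIn_normal _ A)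
  have hMp' : PiGrp {q | q ≠ p} M := (piCoreIn_piGrp _ A).mono inf_le_right
  have hMcop : (Nat.card ↥M).Coprime p := (coprime_card_iff_piGrp hp).2 hMp'
  have hpM : ¬ p ∣ Nat.card ↥M := (Nat.Prime.coprime_iff_not_dvd hp).1 hMcop.symm
  have hRp : IsPGroup p ↥R := (isPGroup_iff_piGrp hp).2 (piCoreIn_piGrp {p} A)
  have hAR : A ≤ Subgroup.normalizer (R : Set G) := piCoreIn_normal {p} A
  have hRA : R ≤ A := piCoreIn_le _ A
  have hRN : R ≤ fitOf A := piCoreIn_le_fitOf hp A
  have hNdec : fitOf A ≤ M ⊔ R := by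
    rw [fitOf_eq_iSup]
    apply iSup_le
    rintro ⟨r, hr⟩
    by_cases hrp : r = p
    · subst hrp; exact le_sup_right
    · refine le_trans ?_ le_sup_left
      apply le_inf (piCoreIn_le_fitOf hr A)
      apply le_piCoreIn_of_sn (SN.of_normal (piCoreIn_le _ A) (piCoreIn_normal _ A))
      intro x hx q hq hdvd
      have := piCoreIn_piGrp {r} A x hx q hq hdvd
      rw [Set.mem_singleton_iff] at this
      rw [this]; exact hrp
  have hRM : R ≤ Subgroup.centralizer (M : Set G) := by
    apply Subgroup.commutator_eq_bot_iff_le_centralizer.1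
    rw [eq_bot_iff]
    have h1 : ⁅R, M⁆ ≤ R := comm_le_of_normal le_rfl ((hMN.trans (fitOf_le A)).trans hAR)
    have h2 : ⁅R, M⁆ ≤ M := by
      rw [Subgroup.commutator_comm]
      exact comm_le_of_normal le_rfl (hRA.trans hAM)
    have h3 : R ⊓ M = ⊥ := by
      apply piGrp_inf_eq_bot (π := {p}) (π' := {q | q ≠ p}) _ (piCoreIn_piGrp {p} A) hMp'
      intro q hq1 hq2
      exact hq2 hq1
    rw [← h3]; exact le_inf h1 h2
  have hdec : ∀ n ∈ S ⊓ fitOf A, ∃ n' ∈ S ⊓ M, ∃ n'' ∈ Subgroup.centralizer (M : Set G),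
      n = n' * n'' := by
    rintro n ⟨hnS, hnN⟩
    obtain ⟨n', hn', n'', hn'', rfl⟩ := mem_sup_of_normalizer (hRA.trans hAM) (hNdec hnN)
    have hcomm : n' * n'' = n'' * n' := by
      have := hRM hn''
      rw [Subgroup.mem_centralizer_iff] at this
      exact this n' hn'
    obtain ⟨k, hk⟩ := hRp ⟨n'', hn''⟩
    have hk' : n'' ^ p ^ k = 1 := congrArg Subtype.val hk
    have ho : orderOf n' ∣ Nat.card ↥M := by
      have := orderOf_dvd_natCard (⟨n', hn'⟩ : ↥M)
      rwa [Subgroup.orderOf_mk] at this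
    have hcop : (p ^ k).Coprime (orderOf n') :=
      Nat.Coprime.pow_left k (Nat.Coprime.coprime_dvd_left ho hMcop).symm
    have hz := mem_zpowers_of_coprime_decomp rfl hcomm hk' hcop
    have hn'S : n' ∈ S := (Subgroup.zpowers_le.2 hnS) hz
    exact ⟨n', ⟨hn'S, hn'⟩, n'', hRM hn'', rfl⟩
  have hCM := selfcent_inf hS hSC hMN hdec
  -- the centre of `O_p(A)`
  set Z := R ⊓ Subgroup.centralizer (R : Set G) with hZ
  have hRne : R ≠ ⊥ := by
    intro h0
    apply hpM
    have : fitOf A ≤ M := by
      have := hNdec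
      rwa [h0, sup_bot_eq] at this
    exact hpN.trans (Subgroup.card_dvd_of_le this)
  have hZne : Z ≠ ⊥ := by
    haveI : Nontrivial ↥R := (Subgroup.nontrivial_iff_ne_bot R).2 hRne
    haveI hcn : Nontrivial ↥(Subgroup.center ↥R) := hRp.center_nontrivial
    obtain ⟨⟨z, hz⟩, hz1⟩ := exists_ne (1 : ↥(Subgroup.center ↥R))
    intro h0
    apply hz1
    have hzZ : (z : G) ∈ Z := by
      refine ⟨z.2, ?_⟩
      show (z : G) ∈ Subgroup.centralizer (R : Set G)
      rw [Subgroup.mem_centralizer_iff]
      intro g hg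
      rw [Subgroup.mem_center_iff] at hz
      exact congrArg Subtype.val (hz ⟨g, hg⟩)
    rw [h0, Subgroup.mem_bot] at hzZ
    apply Subtype.ext
    apply Subtype.ext
    exact hzZ
  have hNE : fitOf A ≤ Subgroup.centralizer (layerOf A : Set G) :=
    Subgroup.le_centralizer_iff.1
      (Subgroup.commutator_eq_bot_iff_le_centralizer.1 (layerOf_comm_fitOf A))
  have hcentN : ∀ z : G, z ∈ Subgroup.centralizer (M : Set G) →
      z ∈ Subgroup.centralizer (R : Set G) → z ∈ fitOf A →
      z ∈ Subgroup.centralizer (fstarOf A : Set G) := by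
    intro z h1 h2 h3
    apply mem_centralizer_sup (hNE h3)
    exact Subgroup.centralizer_le hNdec (mem_centralizer_sup h1 h2)
  have hZF : Z ≤ Subgroup.centralizer (fstarOf A : Set G) := by
    rintro z ⟨hzR, hzc⟩
    exact hcentN z (hRM hzR) hzc (hRN hzR)
  have hZS : Z ≤ S := by
    refine le_trans (le_inf ?_ ?_) hSC
    · exact (inf_le_left.trans hRN).trans le_sup_right
    · exact hZF.trans (Subgroup.centralizer_le hS.le)
  have hAZ : A ≤ Subgroup.normalizer (Z : Set G) :=
    le_normalizer_inf hAR (hAR.trans (normalizer_le_normalizer_centralizer R))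
  have hNZ : B ⊓ Subgroup.normalizer (Z : Set G) ≤ A :=
    hA Z hZne (le_inf (inf_le_left.trans hRA) (hZS.trans hSB)) hAZ
  set Y := piCoreIn {p} B with hY
  have hYp : IsPGroup p ↥Y := (isPGroup_iff_piGrp hp).2 (piCoreIn_piGrp {p} B)
  have hSY : S ≤ Subgroup.normalizer (Y : Set G) := hSB.trans (piCoreIn_normal {p} B)
  have hYB : Y ≤ B := piCoreIn_le _ B
  have hY₀A : Y ⊓ Subgroup.centralizer (Z : Set G) ≤ A := by
    refine le_trans (le_inf (inf_le_left.trans hYB) ?_) hNZ
    exact inf_le_right.trans (Subgroup.centralizer_le_normalizer _)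
  have hSY₀ : S ≤ Subgroup.normalizer ((Y ⊓ Subgroup.centralizer (Z : Set G) : Subgroup G) : Set G) :=
    le_normalizer_inf hSY ((hSA.trans hAZ).trans (normalizer_le_normalizer_centralizer Z))
  obtain ⟨h1, h2⟩ := bender_key hS hSC hY₀A (hYp.to_le inf_le_left) hSY₀ hMN hAM hpM hCM
  have hZp : IsPGroup p ↥Z := hRp.to_le inf_le_left
  have hTY : S ⊓ M ≤ Subgroup.centralizer (Y : Set G) := by
    apply thompson_PxQ (P := Z) (Q := S ⊓ M) (U := Y) hZp
      ((coprime_card_iff_piGrp hp).2 (hMp'.mono inf_le_right)) hYp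
    · exact (inf_le_left.trans hRM).trans (Subgroup.centralizer_le inf_le_right)
    · exact hZS.trans hSY
    · exact inf_le_left.trans hSY
    · exact h2.trans (Subgroup.centralizer_le inf_le_right)
  have hEY : layerOf A ≤ Subgroup.centralizer (Y : Set G) := by
    apply sSup_le
    intro L hL
    have hLF : L ≤ fstarOf A := (comp_le_layerOf hL).trans le_sup_left
    apply thompson_PxQ_perfect (P := Z) (X := L) (U := Y) hZp hL.2.1 hYp
    · exact hZF.trans (Subgroup.centralizer_le hLF)
    · exact hZS.trans hSY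
    · exact ((comp_le_layerOf hL).trans hES).trans hSY
    · exact h1.trans (Subgroup.centralizer_le (comp_le_layerOf hL))
  have hYW : Y ≤ Subgroup.centralizer ((layerOf A ⊔ M : Subgroup G) : Set G) := by
    by_cases hcase : layerOf A = ⊥ ∧ M = ⊥
    · rw [hcase.1, hcase.2, bot_sup_eq]
      intro y _
      rw [Subgroup.mem_centralizer_iff]
      intro h hh
      have : h = 1 := Subgroup.mem_bot.1 hh
      rw [this, one_mul, mul_one]
    · have hYA : Y ≤ A := by
        by_cases hE : layerOf A = ⊥
        · have hMb : M ≠ ⊥ := fun h => hcase ⟨hE, h⟩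
          set K := M ⊓ Subgroup.centralizer (M : Set G) with hK
          have hKne : K ≠ ⊥ := by
            haveI : Nontrivial ↥M := (Subgroup.nontrivial_iff_ne_bot M).2 hMb
            haveI : Group.IsNilpotent ↥M := nilpotent_of_le hMN (fitOf_nilpotent A)
            have hc := Group.IsNilpotent.center_ne_bot (G := ↥M)
            obtain ⟨⟨z, hz⟩, hz1⟩ := (Subgroup.ne_bot_iff_exists_ne_one).1 hc
            intro h0
            have hzK : (z : G) ∈ K := by
              refine ⟨z.2, ?_⟩
              show (z : G) ∈ Subgroup.centralizer (M : Set G)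
              rw [Subgroup.mem_centralizer_iff]
              intro g hg
              rw [Subgroup.mem_center_iff] at hz
              exact congrArg Subtype.val (hz ⟨g, hg⟩)
            rw [h0, Subgroup.mem_bot] at hzK
            apply hz1
            apply Subtype.ext
            apply Subtype.ext
            exact hzK
          have hKS : K ≤ S ⊓ M := by
            refine le_inf ?_ inf_le_left
            refine le_trans (le_inf ?_ ?_) hSC
            · exact (inf_le_left.trans hMN).trans le_sup_right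
            · rintro k ⟨hkM, hkc⟩
              have := hcentN k hkc (Subgroup.le_centralizer_iff.1 hRM hkM) (hMN hkM)
              exact Subgroup.centralizer_le hS.le this
          have hAK : A ≤ Subgroup.normalizer (K : Set G) :=
            le_normalizer_inf hAM (hAM.trans (normalizer_le_normalizer_centralizer M))
          have hNK := hA K hKne (le_inf ((inf_le_left.trans hMN).trans (fitOf_le A))
            ((hKS.trans inf_le_left).trans hSB)) hAK
          have h3 : Y ≤ Subgroup.centralizer (K : Set G) :=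
            Subgroup.le_centralizer_iff.1 (hKS.trans hTY)
          exact le_trans (le_inf hYB (h3.trans (Subgroup.centralizer_le_normalizer _))) hNK
        · have hNE' := hA (layerOf A) hE (le_inf (layerOf_le A) (hES.trans hSB)) (layerOf_normal A)
          have h3 : Y ≤ Subgroup.centralizer (layerOf A : Set G) :=
            Subgroup.le_centralizer_iff.1 hEY
          exact le_trans (le_inf hYB (h3.trans (Subgroup.centralizer_le_normalizer _))) hNE'
      obtain ⟨h1', h2'⟩ := bender_key hS hSC hYA hYp hSY hMN hAM hpM hCM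
      exact fun y hy => mem_centralizer_sup (h1' hy) (h2' hy)
  intro g hgF hgo
  have hgW : g ∈ (layerOf A ⊔ M) ⊔ R := by
    have : fstarOf A ≤ (layerOf A ⊔ M) ⊔ R := by
      unfold fstarOf
      rw [sup_assoc]
      exact sup_le_sup_left hNdec _
    exact this hgF
  have hRW : R ≤ Subgroup.normalizer ((layerOf A ⊔ M : Subgroup G) : Set G) :=
    hRA.trans (le_normalizer_sup (layerOf_normal A) hAM)
  have hgW' := mem_of_coprime_order hRW hRp hgW hgo
  exact Subgroup.le_centralizer_iff.1 hYW hgW'

end Cfsg.Agent.helper7
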