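import Mathlib
import Cfsg.Agent.Lib_helper7_Bender3

set_option autoImplicit false

namespace Cfsg.Agent.helper7

open scoped commutatorElement Pointwise

variable {G : Type*} [Group G] [Finite G]

/-- The hypotheses of Bender's uniqueness theorem for primitive pairs. -/
structure BPair (M N : Subgroup G) : Prop where
  pMN : Prim M N
  pNM : Prim N M
  h1 : fstarOf M ≤ N
  h2 : fstarOf N ≤ M

theorem BPair.symm {M N : Subgroup G} (h : BPair M N) : BPair N M := ⟨h.pNM, h.pMN, h.h2, h.h1⟩

theorem centralizer_bot_eq_top : Subgroup.centralizer (((⊥ : Subgroup G) : Subgroup G) : Set G) = ⊤ := by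
  rw [eq_top_iff]
  intro y _
  rw [Subgroup.mem_centralizer_iff]
  intro h hh
  have : h = 1 := Subgroup.mem_bot.1 hh
  rw [this, one_mul, mul_one]

/-- `O_q(N) = 1` for primes `q` not dividing `|F(M)|`. -/
theorem BPair.piCoreIn_eq_bot {M N : Subgroup G} (h : BPair M N) {q : ℕ} (hq : q.Prime)
    (hqM : ¬ q ∣ Nat.card ↥(fitOf M)) : piCoreIn {q} N = ⊥ := by
  have h3 := bender_a (A := M) (S := fstarOf M) (B := N) (SN.refl _) inf_le_left h.h1 hq hqM
  have h4 : piCoreIn {q} N ≤ M := ((piCoreIn_le_fitOf hq N).trans le_sup_right).trans h.h2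
  rwa [inf_eq_left.2 h4] at h3

theorem BPair.dvd_of_dvd {M N : Subgroup G} (h : BPair M N) {q : ℕ} (hq : q.Prime)
    (hqN : q ∣ Nat.card ↥(fitOf N)) : q ∣ Nat.card ↥(fitOf M) := by
  by_contra hqM
  exact piCoreIn_ne_bot_of_dvd hq hqN (h.piCoreIn_eq_bot hq hqM)

/-- `p'`-elements of `F*(M)` centralize `O_p(N)`. -/
theorem BPair.mem_centralizer {M N : Subgroup G} (h : BPair M N) {p : ℕ} (hp : p.Prime)
    {g : G} (hg : g ∈ fstarOf M) (hgo : (orderOf g).Coprime p) :
    g ∈ Subgroup.centralizer (piCoreIn {p} N : Set G) := by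
  by_cases hpM : p ∣ Nat.card ↥(fitOf M)
  · exact bender_b' (A := M) (S := fstarOf M) (B := N) h.pMN (SN.refl _) inf_le_left h.h1 hp hpM
      g hg hgo
  · rw [h.piCoreIn_eq_bot hp hpM, centralizer_bot_eq_top]
    trivial

/-- components of `M` centralize `F(N)` -/
theorem BPair.comp_le_centralizer {M N : Subgroup G} (h : BPair M N) {L : Subgroup G}
    (hL : Comp L M) : L ≤ Subgroup.centralizer (fitOf N : Set G) := by
  have hLF : L ≤ fstarOf M := (comp_le_layerOf hL).trans le_sup_left
  rw [Subgroup.le_centralizer_iff, fitOf_eq_iSup]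
  apply iSup_le
  rintro ⟨p, hp⟩
  haveI : Fact p.Prime := ⟨hp⟩
  rw [← Subgroup.le_centralizer_iff]
  apply perfect_le_of_pprime_elts (p := p) hL.2.1
  · exact ((hLF.trans h.h1).trans (piCoreIn_normal {p} N)).trans
      (normalizer_le_normalizer_centralizer _)
  · intro q hq hqp x hx k hk
    apply h.mem_centralizer hp (hLF hx)
    have h1 : orderOf x ∣ q ^ k := orderOf_dvd_of_pow_eq_one hk
    exact Nat.Coprime.coprime_dvd_left h1
      (Nat.Coprime.pow_left k ((Nat.coprime_primes hq hp).2 hqp))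

theorem BPair.layer_le {M N : Subgroup G} (h : BPair M N) : layerOf M ≤ layerOf N := by
  apply sSup_le
  intro L hL
  have hLF : L ≤ fstarOf M := (comp_le_layerOf hL).trans le_sup_left
  have hLN : L ≤ N := hLF.trans h.h1
  set D₀ := layerOf M ⊓ layerOf N with hD₀
  have hEMN : layerOf M ≤ N := le_sup_left.trans h.h1
  have hENM : layerOf N ≤ M := le_sup_left.trans h.h2
  have hD₀sn : SN D₀ M := by
    apply SN.trans _ (layerOf_sn M)
    apply SN.of_normal inf_le_left
    exact le_normalizer_inf Subgroup.le_normalizer (hEMN.trans (layerOf_normal N))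
  rcases comp_le_or_comm hL.1 hL.2 hD₀sn with h3 | h3
  · exact h3.trans inf_le_right
  · exfalso
    have h4 : ⁅L, layerOf N⁆ ≤ D₀ := by
      apply le_inf
      · exact comm_le_of_normal (comp_le_layerOf hL) (hENM.trans (layerOf_normal M))
      · rw [Subgroup.commutator_comm]
        exact comm_le_of_normal le_rfl (hLN.trans (layerOf_normal N))
    have h5 : ⁅⁅L, layerOf N⁆, L⁆ = ⊥ := by
      rw [eq_bot_iff, ← h3, Subgroup.commutator_comm L D₀]
      exact Subgroup.commutator_mono h4 le_rfl
    have h6 : ⁅⁅layerOf N, L⁆, L⁆ = ⊥ := by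
      rw [Subgroup.commutator_comm (layerOf N) L]; exact h5
    have h7 := Subgroup.commutator_commutator_eq_bot_of_rotate h5 h6
    rw [hL.2.1] at h7
    have h8 : L ≤ Subgroup.centralizer (layerOf N : Set G) :=
      Subgroup.commutator_eq_bot_iff_le_centralizer.1 h7
    have h9 : L ≤ Subgroup.centralizer (fstarOf N : Set G) := fun x hx =>
      mem_centralizer_sup (h8 hx) (h.comp_le_centralizer hL hx)
    have h10 : L ≤ fstarOf N := (le_inf hLN h9).trans (centralizer_fstarOf_le N)
    exact hL.2.not_abelian (h9.trans (Subgroup.centralizer_le h10))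

theorem BPair.layerOf_eq_bot {M N : Subgroup G} (h : BPair M N) (hne : M ≠ N) :
    layerOf M = ⊥ := by
  by_contra hE
  have heq : layerOf M = layerOf N := le_antisymm h.layer_le h.symm.layer_le
  apply hne
  apply le_antisymm
  · have h3 := h.pNM (layerOf N) (heq ▸ hE) (le_inf (layerOf_le N) (heq ▸ layerOf_le M))
      (layerOf_normal N)
    rw [← heq] at h3
    exact (le_inf le_rfl (layerOf_normal M)).trans h3
  · have h3 := h.pMN (layerOf M) hE (le_inf (layerOf_le M) (heq ▸ layerOf_le N))
      (layerOf_normal M)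
    rw [heq] at h3
    exact (le_inf le_rfl (layerOf_normal N)).trans h3

end Cfsg.Agent.helper7
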