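import Mathlib
import Cfsg.Agent.Lib_helper7_Bender4

set_option autoImplicit false

namespace Cfsg.Agent.helper7

open scoped commutatorElement Pointwise

variable {G : Type*} [Group G] [Finite G]

theorem coprime_orderOf_of_piGrp {p : ℕ} (hp : p.Prime) {H : Subgroup G}
    (hH : PiGrp {q | q ≠ p} H) {g : G} (hg : g ∈ H) : (orderOf g).Coprime p := by
  rw [Nat.coprime_comm, Nat.Prime.coprime_iff_not_dvd hp]
  intro hdvd
  exact hH g hg p hp hdvd rfl

theorem piGrp_ne_of_piGrp_singleton {s t : ℕ} (hst : s ≠ t) {H : Subgroup G} (hH : PiGrp {s} H) :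
    PiGrp {q | q ≠ t} H := by
  intro x hx q hq hdvd
  have := hH x hx q hq hdvd
  rw [Set.mem_singleton_iff] at this
  rw [this]; exact hst

/-- The two-prime step of Bender's uniqueness theorem. -/
theorem BPair.piCoreIn_le_piCoreIn {M N : Subgroup G} (h : BPair M N) (hEM : layerOf M = ⊥)
    {s t : ℕ} (hs : s.Prime) (ht : t.Prime) (hst : s ≠ t)
    (hsM : s ∣ Nat.card ↥(fitOf M)) :
    piCoreIn {t} N ≤ piCoreIn {t} M := by
  haveI : Fact s.Prime := ⟨hs⟩
  haveI : Fact t.Prime := ⟨ht⟩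
  have hFM : fstarOf M = fitOf M := by unfold fstarOf; rw [hEM, bot_sup_eq]
  set Bs := piCoreIn {s} N with hBs
  set Bt := piCoreIn {t} N with hBt
  set Ms := fitOf M ⊓ piCoreIn {q | q ≠ s} M with hMs
  set Mt := fitOf M ⊓ piCoreIn {q | q ≠ t} M with hMt
  have hMsn : M ≤ Subgroup.normalizer (Ms : Set G) :=
    le_normalizer_inf (fitOf_normal M) (piCoreIn_normal _ M)
  have hMtn : M ≤ Subgroup.normalizer (Mt : Set G) :=
    le_normalizer_inf (fitOf_normal M) (piCoreIn_normal _ M)
  have hMsp : PiGrp {q | q ≠ s} Ms := (piCoreIn_piGrp _ M).mono inf_le_right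
  have hMtp : PiGrp {q | q ≠ t} Mt := (piCoreIn_piGrp _ M).mono inf_le_right
  have hBsM : Bs ≤ M := ((piCoreIn_le_fitOf hs N).trans le_sup_right).trans h.h2
  have hBtM : Bt ≤ M := ((piCoreIn_le_fitOf ht N).trans le_sup_right).trans h.h2
  have hBsc : Bs ≤ Subgroup.centralizer (Ms : Set G) := by
    rw [Subgroup.le_centralizer_iff]
    intro g hg
    exact h.mem_centralizer hs (le_sup_right (a := layerOf M) (Subgroup.mem_inf.1 hg).1)
      (coprime_orderOf_of_piGrp hs hMsp hg)
  have hBtc : Bt ≤ Subgroup.centralizer (Mt : Set G) := by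
    rw [Subgroup.le_centralizer_iff]
    intro g hg
    exact h.mem_centralizer ht (le_sup_right (a := layerOf M) (Subgroup.mem_inf.1 hg).1)
      (coprime_orderOf_of_piGrp ht hMtp hg)
  set Cs := M ⊓ Subgroup.centralizer (Ms : Set G) with hCs
  set Ct := M ⊓ Subgroup.centralizer (Mt : Set G) with hCt
  have hCsn : M ≤ Subgroup.normalizer (Cs : Set G) :=
    le_normalizer_inf Subgroup.le_normalizer (hMsn.trans (normalizer_le_normalizer_centralizer _))
  have hCtn : M ≤ Subgroup.normalizer (Ct : Set G) :=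
    le_normalizer_inf Subgroup.le_normalizer (hMtn.trans (normalizer_le_normalizer_centralizer _))
  set ZF := fitOf M ⊓ Subgroup.centralizer (fitOf M : Set G) with hZF
  have hZFn : M ≤ Subgroup.normalizer (ZF : Set G) :=
    le_normalizer_inf (fitOf_normal M)
      ((fitOf_normal M).trans (normalizer_le_normalizer_centralizer _))
  have hAsMt : piCoreIn {s} M ≤ Mt := by
    apply le_inf (piCoreIn_le_fitOf hs M)
    exact le_piCoreIn_of_sn (SN.of_normal (piCoreIn_le _ M) (piCoreIn_normal _ M))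
      (piGrp_ne_of_piGrp_singleton hst (piCoreIn_piGrp {s} M))
  have hCC : Cs ⊓ Ct ≤ ZF := by
    rintro x ⟨⟨hxM, hxs⟩, ⟨_, hxt⟩⟩
    have h1 : fitOf M ≤ Ms ⊔ Mt :=
      (fitOf_le_sup (p := s) M).trans (sup_le_sup_left hAsMt _)
    have h2 : x ∈ Subgroup.centralizer (fitOf M : Set G) :=
      Subgroup.centralizer_le h1 (mem_centralizer_sup hxs hxt)
    have h3 : x ∈ fstarOf M := centralizer_fstarOf_le M ⟨hxM, by rw [hFM]; exact h2⟩
    rw [hFM] at h3
    exact ⟨h3, h2⟩
  have hZFN : ZF ≤ N := (inf_le_left.trans le_sup_right).trans h.h1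
  have hZFM : ZF ≤ M := inf_le_left.trans (fitOf_le M)
  have hZFab : ZF ≤ Subgroup.centralizer (ZF : Set G) :=
    inf_le_right.trans (Subgroup.centralizer_le inf_le_left)
  -- the main step
  have hcent : ∀ g ∈ M, cj g Bt ≤ Subgroup.centralizer (Bs : Set G) := by
    intro g hg
    set Q := cj g Bt with hQ
    have hQM : Q ≤ M := by
      have := cj_mono (g := g) hBtM
      rwa [cj_eq_of_mem_normalizer (Subgroup.le_normalizer hg)] at this
    have hQt : IsPGroup t ↥Q :=
      (isPGroup_iff_piGrp ht).2 ((piCoreIn_piGrp {t} N).conj g)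
    have hQc : Q ≤ Subgroup.centralizer (Mt : Set G) := by
      have := cj_mono (g := g) hBtc
      rwa [cj_centralizer, cj_eq_of_mem_normalizer (hMtn hg)] at this
    have hQCt : Q ≤ Ct := le_inf hQM hQc
    have hBsCs : Bs ≤ Cs := le_inf hBsM hBsc
    have hcomm : ⁅Bs, Q⁆ ≤ ZF := by
      refine le_trans (le_inf ?_ ?_) hCC
      · exact comm_le_of_normal hBsCs (hQM.trans hCsn)
      · rw [Subgroup.commutator_comm]
        exact comm_le_of_normal hQCt (hBsM.trans hCtn)
    set Y := Bs ⊔ ZF with hY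
    have hYN : Y ≤ N := sup_le (piCoreIn_le _ N) hZFN
    have hYQ : ∀ y ∈ Y, ∀ v ∈ Q, ⁅y, v⁆ ∈ ZF := by
      intro y hy v hv
      obtain ⟨b, hb, z, hz, rfl⟩ :=
        mem_sup_of_normalizer (hZFN.trans (piCoreIn_normal {s} N)) hy
      have e : ⁅b * z, v⁆ = b * ⁅z, v⁆ * b⁻¹ * ⁅b, v⁆ := by
        simp only [commutatorElement_def]; group
      rw [e]
      have h1 : ⁅z, v⁆ ∈ ZF := by
        have h2 : v * z⁻¹ * v⁻¹ ∈ ZF :=
          (Subgroup.mem_normalizer_iff.1 (hZFn (hQM hv)) z⁻¹).1 (ZF.inv_mem hz)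
        have e2 : ⁅z, v⁆ = z * (v * z⁻¹ * v⁻¹) := by
          simp only [commutatorElement_def]; group
        rw [e2]; exact ZF.mul_mem hz h2
      have h2 : b * ⁅z, v⁆ * b⁻¹ ∈ ZF :=
        (Subgroup.mem_normalizer_iff.1 (hZFn (hBsM hb)) _).1 h1
      exact ZF.mul_mem h2 (hcomm (Subgroup.commutator_mem_commutator hb hv))
    have hQY : Q ≤ Subgroup.normalizer (Y : Set G) := by
      apply le_normalizer_of_conj_mem
      intro v hv y hy
      have h1 : ⁅y, v⁆ ∈ Y := le_sup_right (a := Bs) (hYQ y hy v hv)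
      have e : v * y * v⁻¹ = ⁅y, v⁆⁻¹ * y := by
        simp only [commutatorElement_def]; group
      rw [e]
      exact Y.mul_mem (Y.inv_mem h1) hy
    set X := piCoreIn {s} Y with hX
    have hQX : Q ≤ Subgroup.normalizer (X : Set G) :=
      hQY.trans (normalizer_le_normalizer_radOf (fun g _ h => h.conj g) Y)
    have hBsX : Bs ≤ X :=
      le_piCoreIn_of_sn (SN.of_normal le_sup_left (hYN.trans (piCoreIn_normal {s} N)))
        (piCoreIn_piGrp {s} N)
    have hXs : IsPGroup s ↥X := (isPGroup_iff_piGrp hs).2 (piCoreIn_piGrp {s} Y)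
    have htX : ¬ t ∣ Nat.card ↥X := by
      obtain ⟨k, hk⟩ := IsPGroup.iff_card.1 hXs
      rw [hk]
      intro hdvd
      exact hst ((Nat.prime_dvd_prime_iff_eq ht hs).1 (ht.dvd_of_dvd_pow hdvd)).symm
    have hXQ : ⁅X, Q⁆ ≤ X ⊓ ZF := by
      apply le_inf (commutator_le_of_normalizer hQX)
      rw [Subgroup.commutator_le]
      intro x hx v hv
      exact hYQ x (piCoreIn_le _ Y hx) v hv
    have hX₀ : X ⊓ ZF ≤ Mt := by
      apply le_inf (inf_le_right.trans inf_le_left)
      apply le_piCoreIn_of_sn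
      · apply SN.trans _ (SN.of_normal hZFM hZFn)
        apply SN.of_normal inf_le_right
        exact hZFab.trans ((Subgroup.centralizer_le inf_le_right).trans
          (Subgroup.centralizer_le_normalizer _))
      · exact piGrp_ne_of_piGrp_singleton hst ((piCoreIn_piGrp {s} Y).mono inf_le_left)
    have h3 : ⁅⁅X, Q⁆, Q⁆ = ⊥ := by
      have h4 : ⁅X ⊓ ZF, Q⁆ = ⊥ := by
        rw [Subgroup.commutator_eq_bot_iff_le_centralizer]
        exact hX₀.trans (Subgroup.le_centralizer_iff.1 hQc)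
      rw [eq_bot_iff, ← h4]
      exact Subgroup.commutator_mono hXQ le_rfl
    rw [commutator_commutator_eq hQt hQX htX] at h3
    exact (le_centralizer_of_comm_eq_bot h3).trans (Subgroup.centralizer_le hBsX)
  -- `B_s ≠ 1`
  have hsN : s ∣ Nat.card ↥(fitOf N) := h.symm.dvd_of_dvd hs hsM
  have hBsne : Bs ≠ ⊥ := piCoreIn_ne_bot_of_dvd hs hsN
  have hNBs := h.pNM Bs hBsne (le_inf (piCoreIn_le _ N) hBsM) (piCoreIn_normal {s} N)
  have hconjN : ∀ g ∈ M, cj g Bt ≤ N := by
    intro g hg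
    refine le_trans (le_inf ?_ ?_) hNBs
    · have := cj_mono (g := g) hBtM
      rwa [cj_eq_of_mem_normalizer (Subgroup.le_normalizer hg)] at this
    · exact (hcent g hg).trans (Subgroup.centralizer_le_normalizer _)
  set V := ⨆ g : ↥M, cj (g : G) Bt with hV
  have hVN : V ≤ N := iSup_le fun g => hconjN g g.2
  have hVM : V ≤ M := by
    apply iSup_le
    intro g
    have := cj_mono (g := (g : G)) hBtM
    rwa [cj_eq_of_mem_normalizer (Subgroup.le_normalizer g.2)] at this
  have hBtV : Bt ≤ V := by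
    have := le_iSup (fun g : ↥M => cj (g : G) Bt) 1
    simpa [cj_one] using this
  have hMV : M ≤ Subgroup.normalizer (V : Set G) := by
    apply le_normalizer_of_conj_mem
    intro m hm u hu
    have h1 : m * u * m⁻¹ ∈ cj m V := cj_mem_cj hu
    have h2 : cj m V ≤ V := by
      rw [hV]
      unfold cj
      rw [Subgroup.map_iSup]
      apply iSup_le
      intro g
      have := le_iSup (fun g : ↥M => cj (g : G) Bt) (⟨m, hm⟩ * g)
      have e : cj m (cj (g : G) Bt) = cj (((⟨m, hm⟩ : ↥M) * g : ↥M) : G) Bt := by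
        rw [cj_cj]; rfl
      unfold cj at e this
      rw [e]; exact this
    exact h2 h1
  have hsn : SN Bt M :=
    SN.trans (SN.of_normal hBtV (hVN.trans (piCoreIn_normal {t} N))) (SN.of_normal hVM hMV)
  exact le_piCoreIn_of_sn hsn (piCoreIn_piGrp {t} N)

end Cfsg.Agent.helper7
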