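import Mathlib
import Cfsg.Statements.S1312
import Cfsg.Agent.Lib_helper7_Bender6

set_option autoImplicit false
open Cfsg

namespace Cfsg.Agent.S1312

open Cfsg.Agent.helper7 in
/-- Let G be a non-abelian finite simple group and M ≠ N maximal subgroups of G with F*(M) ≤ N and F*(N) ≤ M. Then there is a prime p such that F*(M) and F*(N) are both p-groups. -/
theorem result {G : Type*} [Group G] [Finite G] [IsSimpleGroup G] (hna : ¬ IsMulCommutative G) (M N : Subgroup G) (hM : IsCoatom M) (hN : IsCoatom N) (hMN : M ≠ N) (h1 : (Cfsg.generalizedFittingSubgroup ↥M).map M.subtype ≤ N) (h2 : (Cfsg.generalizedFittingSubgroup ↥N).map N.subtype ≤ M) : ∃ p : ℕ, p.Prime ∧ IsPGroup p ↥(Cfsg.generalizedFittingSubgroup ↥M) ∧ IsPGroup p ↥(Cfsg.generalizedFittingSubgroup ↥N) := by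
  rw [map_generalizedFittingSubgroup_eq] at h1 h2
  have hpair : BPair M N := by
    refine ⟨?_, ?_, h1, h2⟩
    · intro K hK hKle hMK
      rw [normalizer_eq_of_coatom hM hK (hKle.trans inf_le_left) hMK]
      exact inf_le_right
    · intro K hK hKle hNK
      rw [normalizer_eq_of_coatom hN hK (hKle.trans inf_le_left) hNK]
      exact inf_le_right
  obtain ⟨p, hp, hEM, hEN, hpM, hpN⟩ := bender_unique hpair hMN
  refine ⟨p, hp, ?_, ?_⟩
  · rw [← isPGroup_map_subtype_iff, map_generalizedFittingSubgroup_eq]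
    unfold fstarOf
    rw [hEM, bot_sup_eq]
    exact hpM
  · rw [← isPGroup_map_subtype_iff, map_generalizedFittingSubgroup_eq]
    unfold fstarOf
    rw [hEN, bot_sup_eq]
    exact hpN

end Cfsg.Agent.S1312
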