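import Mathlib
import Cfsg.Prelude.Def_OddOrder
import Cfsg.Prelude.Def_OddOrderLocal
import Cfsg.Prelude.Def_CaseTheorems
import Cfsg.Agent.Lib_helper23_Tr2

set_option autoImplicit false
set_option linter.style.haveILetI false
set_option linter.unusedSectionVars false
set_option maxHeartbeats 800000

namespace Cfsg.Agent.helper23

open Cfsg.Agent.helper7
open scoped commutatorElement Pointwise

universe u

variable {G : Type u} [Group G] [Finite G]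

/-- Conjugacy under `K = O_{π(A)'}(C_G(A))`. -/
def KRel (A : Subgroup G) (Q Q' : Subgroup G) : Prop :=
  ∃ k ∈ Cfsg.piCoreOf (Cfsg.primesNotDvd (Nat.card A)) (Subgroup.centralizer (A : Set G)),
    Q' = cj k Q

theorem KRel.symm {A Q Q' : Subgroup G} (h : KRel A Q Q') : KRel A Q' Q := by
  obtain ⟨k, hk, rfl⟩ := h
  exact ⟨k⁻¹, Subgroup.inv_mem _ hk, (cj_inv_cj k Q).symm⟩

theorem KRel.trans {A Q Q' Q'' : Subgroup G} (h : KRel A Q Q') (h' : KRel A Q' Q'') :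
    KRel A Q Q'' := by
  obtain ⟨k, hk, rfl⟩ := h
  obtain ⟨k', hk', rfl⟩ := h'
  exact ⟨k' * k, Subgroup.mul_mem _ hk' hk, by rw [cj_cj]⟩

theorem trans_step (hG : Cfsg.IsMinSimpleOddOrder G) (A : Subgroup G)
    (hA : Cfsg.TransitivityHypothesis A) (q : ℕ) [hq : Fact q.Prime] (hqA : ¬ q ∣ Nat.card A)
    (Q₁ Q₂ : Subgroup G) (hQ₁ : Q₁ ∈ Cfsg.maxInvSubgroups ⊤ A {q})
    (hQ₂ : Q₂ ∈ Cfsg.maxInvSubgroups ⊤ A {q})
    (X : Subgroup G) (hX : X ≠ ⊤) (hAX : A ≤ X) (U₁ U₂ : Subgroup G)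
    (hU₁X : U₁ ≤ X) (hU₁Q : U₁ ≤ Q₁) (hU₂X : U₂ ≤ X) (hU₂Q : U₂ ≤ Q₂)
    (hU₁A : A ≤ Subgroup.normalizer (U₁ : Set G)) (hU₂A : A ≤ Subgroup.normalizer (U₂ : Set G))
    (hU₁1 : U₁ ≠ ⊥) (hU₂1 : U₂ ≠ ⊥)
    (IH : ∀ Q ∈ Cfsg.maxInvSubgroups ⊤ A {q}, ∀ Q' ∈ Cfsg.maxInvSubgroups ⊤ A {q},
      (U₁ ≤ Q ⊓ Q' ∨ U₂ ≤ Q ⊓ Q') →
      (∃ H : Subgroup G, H ≠ ⊤ ∧ A ≤ H ∧ H ⊓ Q ≠ ⊥ ∧ H ⊓ Q' ≠ ⊥) → KRel A Q Q') :
    KRel A Q₁ Q₂ := by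
  obtain ⟨π, hπ⟩ : ∃ π : Set ℕ, π = Cfsg.primesNotDvd (Nat.card A) := ⟨_, rfl⟩
  obtain ⟨Y, hY⟩ : ∃ Y : Subgroup G, Y = Cfsg.piCoreOf π X := ⟨_, rfl⟩
  have hYX : Y ≤ X := by rw [hY]; exact piCoreOf_le π X
  have hAY : A ≤ Subgroup.normalizer (Y : Set G) := by
    rw [hY]; exact hAX.trans (le_normalizer_piCoreOf π X)
  have hcop : (Nat.card A).Coprime (Nat.card Y) := by
    apply coprime_of_primesNotDvd
    rw [hY, ← hπ]; exact piCoreOf_card π X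
  have hXs : Group.IsSolvable X := mso_solvable hG X hX
  have hYs : Group.IsSolvable Y := Cfsg.Agent.lead.solvable_of_le hYX hXs
  have hsolv : Group.IsSolvable A ∨ Group.IsSolvable Y := Or.inr hYs
  have hU₁q : ∀ p : ℕ, p.Prime → p ∣ Nat.card U₁ → p ∈ ({q} : Set ℕ) := fun p hp hd =>
    hQ₁.1.2.1 p hp (hd.trans (Subgroup.card_dvd_of_le hU₁Q))
  have hU₂q : ∀ p : ℕ, p.Prime → p ∣ Nat.card U₂ → p ∈ ({q} : Set ℕ) := fun p hp hd =>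
    hQ₂.1.2.1 p hp (hd.trans (Subgroup.card_dvd_of_le hU₂Q))
  have hU₁Y : U₁ ≤ Y := by
    rw [hY, hπ]; exact inv_le_core A hA q hq.out hqA X hX hAX U₁ hU₁X hU₁A hU₁q
  have hU₂Y : U₂ ≤ Y := by
    rw [hY, hπ]; exact inv_le_core A hA q hq.out hqA X hX hAX U₂ hU₂X hU₂A hU₂q
  obtain ⟨S₁, hU₁S, hS₁Y, hS₁c, hS₁A⟩ := Cfsg.Agent.lead.invariant_pgroup_le_invariant_sylow
    A Y hAY hcop hsolv q U₁ hU₁Y (isPGroup_of_primes q U₁ hU₁q) hU₁A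
  obtain ⟨S₂, hU₂S, hS₂Y, hS₂c, hS₂A⟩ := Cfsg.Agent.lead.invariant_pgroup_le_invariant_sylow
    A Y hAY hcop hsolv q U₂ hU₂Y (isPGroup_of_primes q U₂ hU₂q) hU₂A
  obtain ⟨k, hk, hkS⟩ := sylow_order_conj Y S₁ S₂ q hS₁Y hS₂Y hS₁c hS₂c
  obtain ⟨c, hc, hcS⟩ := Cfsg.Agent.lead.invariant_sylow_conj A Y hAY hcop hsolv S₁ S₂ k hk hkS
    hS₁A hS₂A
  have hcK : c ∈ Cfsg.piCoreOf (Cfsg.primesNotDvd (Nat.card A))
      (Subgroup.centralizer (A : Set G)) := by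
    apply cent_core_le hG A hA X
    rw [← hπ, ← hY]; exact hc
  have hcC : c ∈ Subgroup.centralizer (A : Set G) := hc.2
  have hS₁inv : S₁ ∈ Cfsg.invSubgroups ⊤ A {q} :=
    ⟨le_top, primes_of_isPGroup q S₁ (IsPGroup.of_card hS₁c), hS₁A⟩
  have hS₂inv : S₂ ∈ Cfsg.invSubgroups ⊤ A {q} :=
    ⟨le_top, primes_of_isPGroup q S₂ (IsPGroup.of_card hS₂c), hS₂A⟩
  obtain ⟨Q₁', hQ₁', hS₁Q⟩ := exists_max_ge A q S₁ hS₁inv
  obtain ⟨Q₂', hQ₂', hS₂Q⟩ := exists_max_ge A q S₂ hS₂inv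
  have hne : ∀ (V W : Subgroup G), V ≠ ⊥ → V ≤ W → W ≠ ⊥ := by
    intro V W hV hVW hW
    apply hV
    rw [eq_bot_iff, ← hW]; exact hVW
  have R1 : KRel A Q₁ Q₁' := by
    apply IH Q₁ hQ₁ Q₁' hQ₁' (Or.inl (le_inf hU₁Q (hU₁S.trans hS₁Q)))
    exact ⟨X, hX, hAX, hne U₁ _ hU₁1 (le_inf hU₁X hU₁Q),
      hne U₁ _ hU₁1 (le_inf hU₁X (hU₁S.trans hS₁Q))⟩
  have R2 : KRel A Q₂ Q₂' := by
    apply IH Q₂ hQ₂ Q₂' hQ₂' (Or.inr (le_inf hU₂Q (hU₂S.trans hS₂Q)))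
    exact ⟨X, hX, hAX, hne U₂ _ hU₂1 (le_inf hU₂X hU₂Q),
      hne U₂ _ hU₂1 (le_inf hU₂X (hU₂S.trans hS₂Q))⟩
  have hS₂cj : S₂ ≤ cj c Q₁' := by rw [← hcS]; exact cj_mono hS₁Q
  have R3 : KRel A (cj c Q₁') Q₂' := by
    apply IH (cj c Q₁') (cj_mem_maxInv A q c hcC Q₁' hQ₁') Q₂' hQ₂'
      (Or.inr (le_inf (hU₂S.trans hS₂cj) (hU₂S.trans hS₂Q)))
    exact ⟨X, hX, hAX, hne U₂ _ hU₂1 (le_inf hU₂X (hU₂S.trans hS₂cj)),
      hne U₂ _ hU₂1 (le_inf hU₂X (hU₂S.trans hS₂Q))⟩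
  have R4 : KRel A Q₁' (cj c Q₁') := ⟨c, hcK, rfl⟩
  exact ((R1.trans R4).trans R3).trans R2.symm

theorem transitivity_main (hG : Cfsg.IsMinSimpleOddOrder G) (A : Subgroup G)
    (hA : Cfsg.TransitivityHypothesis A) (q : ℕ) [hq : Fact q.Prime] (hqA : ¬ q ∣ Nat.card A) :
    ∀ (n : ℕ) (Q₁ Q₂ : Subgroup G), Q₁ ∈ Cfsg.maxInvSubgroups ⊤ A {q} →
      Q₂ ∈ Cfsg.maxInvSubgroups ⊤ A {q} → Nat.card G - Nat.card ↥(Q₁ ⊓ Q₂) = n →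
      (∃ H : Subgroup G, H ≠ ⊤ ∧ A ≤ H ∧ H ⊓ Q₁ ≠ ⊥ ∧ H ⊓ Q₂ ≠ ⊥) → KRel A Q₁ Q₂ := by
  intro n
  induction n using Nat.strong_induction_on with
  | _ n ih =>
  intro Q₁ Q₂ hQ₁ hQ₂ hn hH
  obtain ⟨H, hHtop, hAH, hH₁, hH₂⟩ := hH
  obtain ⟨D, hD⟩ : ∃ D : Subgroup G, D = Q₁ ⊓ Q₂ := ⟨_, rfl⟩
  rw [← hD] at hn
  by_cases h12 : Q₁ ≤ Q₂
  · have := hQ₁.2 Q₂ hQ₂.1 h12
    exact ⟨1, Subgroup.one_mem _, by rw [cj_one, this]⟩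
  by_cases h21 : Q₂ ≤ Q₁
  · have := hQ₂.2 Q₁ hQ₁.1 h21
    exact ⟨1, Subgroup.one_mem _, by rw [cj_one, this]⟩
  have hDQ₁ : D < Q₁ := by
    refine lt_of_le_of_ne (by rw [hD]; exact inf_le_left) ?_
    intro h
    apply h12
    rw [← h, hD]; exact inf_le_right
  have hDQ₂ : D < Q₂ := by
    refine lt_of_le_of_ne (by rw [hD]; exact inf_le_right) ?_
    intro h
    apply h21
    rw [← h, hD]; exact inf_le_left
  have hQ₁p : IsPGroup q Q₁ := isPGroup_of_primes q Q₁ hQ₁.1.2.1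
  have hQ₂p : IsPGroup q Q₂ := isPGroup_of_primes q Q₂ hQ₂.1.2.1
  have hAD : A ≤ Subgroup.normalizer (D : Set G) := by
    rw [hD]
    exact (le_inf hQ₁.1.2.2 hQ₂.1.2.2).trans Subgroup.inf_normalizer_le_normalizer_inf
  -- the induction hypothesis in the form needed by `trans_step`
  have IHstep : ∀ (U₁ U₂ : Subgroup G), Nat.card D < Nat.card U₁ → Nat.card D < Nat.card U₂ →
      ∀ Q ∈ Cfsg.maxInvSubgroups ⊤ A {q}, ∀ Q' ∈ Cfsg.maxInvSubgroups ⊤ A {q},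
      (U₁ ≤ Q ⊓ Q' ∨ U₂ ≤ Q ⊓ Q') →
      (∃ H : Subgroup G, H ≠ ⊤ ∧ A ≤ H ∧ H ⊓ Q ≠ ⊥ ∧ H ⊓ Q' ≠ ⊥) → KRel A Q Q' := by
    intro U₁ U₂ hc₁ hc₂ Q hQ Q' hQ' hor hex
    have hlt : Nat.card D < Nat.card ↥(Q ⊓ Q') := by
      rcases hor with h | h
      · exact lt_of_lt_of_le hc₁ (Subgroup.card_le_of_le h)
      · exact lt_of_lt_of_le hc₂ (Subgroup.card_le_of_le h)
    have hle : Nat.card ↥(Q ⊓ Q') ≤ Nat.card G := Subgroup.card_le_card_group _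
    exact ih (Nat.card G - Nat.card ↥(Q ⊓ Q')) (by omega) Q Q' hQ hQ' rfl hex
  by_cases hDbot : D = ⊥
  · have hcD : Nat.card D = 1 := by rw [hDbot, Subgroup.card_bot]
    have hgt : ∀ U : Subgroup G, U ≠ ⊥ → Nat.card D < Nat.card U := by
      intro U hU
      rw [hcD]
      exact (Subgroup.one_lt_card_iff_ne_bot U).2 hU
    have hAN : ∀ Q : Subgroup G, A ≤ Subgroup.normalizer (Q : Set G) →
        A ≤ Subgroup.normalizer ((H ⊓ Q : Subgroup G) : Set G) := fun Q hQ =>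
      (le_inf (hAH.trans Subgroup.le_normalizer) hQ).trans
        Subgroup.inf_normalizer_le_normalizer_inf
    exact trans_step hG A hA q hqA Q₁ Q₂ hQ₁ hQ₂ H hHtop hAH (H ⊓ Q₁) (H ⊓ Q₂) inf_le_left
      inf_le_right inf_le_left inf_le_right (hAN Q₁ hQ₁.1.2.2) (hAN Q₂ hQ₂.1.2.2) hH₁ hH₂
      (IHstep _ _ (hgt _ hH₁) (hgt _ hH₂))
  · have hDtop : D ≠ ⊤ := by
      intro h
      rw [h] at hDQ₁
      exact not_top_lt hDQ₁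
    have hNtop := mso_normalizer_ne_top hG D hDbot hDtop
    have hlt₁ := Cfsg.Agent.helper10.lt_inf_normalizer_of_lt hQ₁p hDQ₁
    have hlt₂ := Cfsg.Agent.helper10.lt_inf_normalizer_of_lt hQ₂p hDQ₂
    have hgt : ∀ U : Subgroup G, D < U → Nat.card D < Nat.card U := by
      intro U hU
      refine lt_of_le_of_ne (Subgroup.card_le_of_le hU.le) ?_
      intro heq
      exact hU.ne (Subgroup.eq_of_le_of_card_ge hU.le heq.ge)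
    have hnb : ∀ U : Subgroup G, D < U → U ≠ ⊥ := by
      intro U hU h
      rw [h] at hU
      exact not_lt_bot hU
    have hAN : ∀ Q : Subgroup G, A ≤ Subgroup.normalizer (Q : Set G) →
        A ≤ Subgroup.normalizer ((Q ⊓ Subgroup.normalizer (D : Set G) : Subgroup G) : Set G) :=
      fun Q hQ => (le_inf hQ (hAD.trans Subgroup.le_normalizer)).trans
        Subgroup.inf_normalizer_le_normalizer_inf
    exact trans_step hG A hA q hqA Q₁ Q₂ hQ₁ hQ₂ (Subgroup.normalizer (D : Set G)) hNtop hAD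
      (Q₁ ⊓ Subgroup.normalizer (D : Set G)) (Q₂ ⊓ Subgroup.normalizer (D : Set G))
      inf_le_right inf_le_left inf_le_right inf_le_left (hAN Q₁ hQ₁.1.2.2) (hAN Q₂ hQ₂.1.2.2)
      (hnb _ hlt₁) (hnb _ hlt₂) (IHstep _ _ (hgt _ hlt₁) (hgt _ hlt₂))

end Cfsg.Agent.helper23
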