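import Mathlib
import Cfsg.Prelude.Def_OddOrder
import Cfsg.Prelude.Def_OddOrderLocal
import Cfsg.Prelude.Def_CaseTheorems
import Cfsg.Agent.Lib_helper23_Tr3
import Cfsg.Agent.Lib_helper7_Gen2
import Cfsg.Agent.Lib_helper15_Gen5
import Cfsg.Agent.Lib_helper3_EA

set_option autoImplicit false
set_option linter.style.haveILetI false
set_option linter.unusedSectionVars false
set_option maxHeartbeats 800000

namespace Cfsg.Agent.helper23

open Cfsg.Agent.helper7
open scoped commutatorElement Pointwise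

universe u

variable {G : Type u} [Group G] [Finite G]

theorem exists_ea_of_not_rankLE (Z : Subgroup G) (k : ℕ) (h : ¬ Cfsg.RankLE k ↥Z) :
    ∃ p : ℕ, p.Prime ∧ ∃ B : Subgroup G, B ≤ Z ∧ Cfsg.IsElementaryAbelian p B ∧
      p ^ k < Nat.card B := by
  unfold Cfsg.RankLE Cfsg.PRankLE at h
  push Not at h
  obtain ⟨p, hp, B', hB'c, hB'e, hlt⟩ := h
  refine ⟨p, hp, B'.map Z.subtype, Subgroup.map_subtype_le _, ?_, ?_⟩
  · exact Cfsg.Agent.helper3.ea_map (p := p) ⟨hB'c, hB'e⟩ Z.subtype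
  · rw [Subgroup.card_map_of_injective Z.subtype_injective]; exact hlt

theorem ea_isPGroup {p : ℕ} [hp : Fact p.Prime] (B : Subgroup G)
    (hB : Cfsg.IsElementaryAbelian p B) : IsPGroup p B := by
  intro a
  refine ⟨1, ?_⟩
  apply Subtype.ext
  rw [pow_one]
  exact hB.2 a a.2

theorem ea_mono {p : ℕ} {B B₀ : Subgroup G} (hB : Cfsg.IsElementaryAbelian p B)
    (h : B₀ ≤ B) : Cfsg.IsElementaryAbelian p B₀ := by
  refine ⟨⟨⟨fun x y => ?_⟩⟩, fun a ha => hB.2 a (h ha)⟩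
  apply Subtype.ext
  have h0 := hB.1.is_comm.comm ⟨x, h x.2⟩ ⟨y, h y.2⟩
  have h1 := congrArg Subtype.val h0
  exact h1

theorem ea_not_cyclic {p : ℕ} [hp : Fact p.Prime] (B : Subgroup G)
    (hB : Cfsg.IsElementaryAbelian p B) (hlt : p < Nat.card B) : ¬ IsCyclic ↥B := by
  intro hc
  obtain ⟨g, hg⟩ := hc.exists_generator
  have h1 : orderOf g = Nat.card ↥B := orderOf_eq_card_of_forall_mem_zpowers hg
  have h2 : g ^ p = 1 := by
    apply Subtype.ext
    have := hB.2 g g.2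
    simpa using this
  have h3 : orderOf g ∣ p := orderOf_dvd_of_pow_eq_one h2
  have h4 := Nat.le_of_dvd hp.out.pos h3
  omega

theorem mso_centralizer_ne_top (hG : Cfsg.IsMinSimpleOddOrder G) (a : G) (ha : a ≠ 1) :
    Subgroup.centralizer ({a} : Set G) ≠ ⊤ := by
  intro h
  have hac : a ∈ Subgroup.center G := by
    rw [Subgroup.mem_center_iff]
    intro g
    have hg : g ∈ Subgroup.centralizer ({a} : Set G) := h ▸ Subgroup.mem_top g
    exact (Subgroup.mem_centralizer_iff.1 hg a rfl).symm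
  haveI := hG.2.1
  rcases (inferInstance : (Subgroup.center G).Normal).eq_bot_or_eq_top with h1 | h1
  · rw [h1, Subgroup.mem_bot] at hac; exact ha hac
  · apply hG.2.2.1
    refine ⟨⟨fun x y => ?_⟩⟩
    have hy : y ∈ Subgroup.center G := h1 ▸ Subgroup.mem_top y
    exact Subgroup.mem_center_iff.1 hy x

/-- An element of a noncyclic elementary abelian `B₀` acting on a nontrivial `q`-group `Q`
with a nontrivial centralizer in `Q`. -/
theorem exists_cent_ne_bot {p q : ℕ} [hp : Fact p.Prime] [hq : Fact q.Prime] (hpq : p ≠ q)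
    (B₀ Q : Subgroup G) (hB₀ : Cfsg.IsElementaryAbelian p B₀) (hlt : p < Nat.card B₀)
    (hQ : IsPGroup q Q) (hBQ : B₀ ≤ Subgroup.normalizer (Q : Set G)) (hQ1 : Q ≠ ⊥) :
    ∃ a ∈ B₀, a ≠ 1 ∧ Q ⊓ Subgroup.centralizer ({a} : Set G) ≠ ⊥ := by
  haveI := hB₀.1
  have hnc := ea_not_cyclic B₀ hB₀ hlt
  obtain ⟨i, hi⟩ := (ea_isPGroup B₀ hB₀).exists_card_eq
  obtain ⟨j, hj⟩ := hQ.exists_card_eq
  have hcop : (Nat.card B₀).Coprime (Nat.card Q) := by
    rw [hi, hj]
    exact Nat.Coprime.pow _ _ ((Nat.coprime_primes hp.out hq.out).2 hpq)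
  have hgen := Cfsg.Agent.helper15.iSup_centralizer_eq_of_not_isCyclic B₀ Q hnc hBQ hcop
  by_contra hno
  push Not at hno
  apply hQ1
  rw [← hgen, eq_bot_iff]
  apply iSup₂_le
  intro a ha
  rw [hno a ha.1 ha.2]

theorem trans_rank3 (hG : Cfsg.IsMinSimpleOddOrder G) (A : Subgroup G)
    (hA : Cfsg.TransitivityHypothesis A)
    (hZ : ¬ Cfsg.RankLE 2 ↥(A ⊓ Subgroup.centralizer (A : Set G)))
    (q : ℕ) [hq : Fact q.Prime] (hqA : ¬ q ∣ Nat.card A)
    (Q₁ Q₂ : Subgroup G) (hQ₁ : Q₁ ∈ Cfsg.maxInvSubgroups ⊤ A {q})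
    (hQ₂ : Q₂ ∈ Cfsg.maxInvSubgroups ⊤ A {q}) : KRel A Q₁ Q₂ := by
  by_cases h1 : Q₁ = ⊥
  · have := hQ₁.2 Q₂ hQ₂.1 (h1 ▸ bot_le)
    exact ⟨1, Subgroup.one_mem _, by rw [cj_one, this]⟩
  by_cases h2 : Q₂ = ⊥
  · have := hQ₂.2 Q₁ hQ₁.1 (h2 ▸ bot_le)
    exact ⟨1, Subgroup.one_mem _, by rw [cj_one, this]⟩
  obtain ⟨p, hp, B, hBZ, hB, hBc⟩ := exists_ea_of_not_rankLE _ 2 hZ
  haveI : Fact p.Prime := ⟨hp⟩
  have hBA : B ≤ A := hBZ.trans inf_le_left
  have hBC : B ≤ Subgroup.centralizer (A : Set G) := hBZ.trans inf_le_right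
  have hBp : IsPGroup p B := ea_isPGroup B hB
  obtain ⟨i, hi⟩ := hBp.exists_card_eq
  have hpB : p ∣ Nat.card B := by
    rw [hi]
    have hi0 : i ≠ 0 := by
      intro h0
      rw [hi, h0, pow_zero] at hBc
      have := hp.one_lt
      nlinarith
    exact dvd_pow_self p hi0
  have hpq : p ≠ q := by
    intro h
    apply hqA
    rw [← h]
    exact hpB.trans (Subgroup.card_dvd_of_le hBA)
  have hQ₁p : IsPGroup q Q₁ := isPGroup_of_primes q Q₁ hQ₁.1.2.1
  have hQ₂p : IsPGroup q Q₂ := isPGroup_of_primes q Q₂ hQ₂.1.2.1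
  have hpQ₁ : ¬ p ∣ Nat.card Q₁ := by
    intro hd
    obtain ⟨j, hj⟩ := hQ₁p.exists_card_eq
    rw [hj] at hd
    exact hpq ((Nat.prime_dvd_prime_iff_eq hp hq.out).1 (hp.dvd_of_dvd_pow hd))
  have hBQ₁ : B ≤ Subgroup.normalizer (Q₁ : Set G) := hBA.trans hQ₁.1.2.2
  have hgen := gen_coprime hB hpQ₁ hBQ₁
  -- some hyperplane centralizer is nontrivial
  obtain ⟨B₀, hB₀B, hB₀idx, hB₀ne⟩ : ∃ B₀ : Subgroup G, B₀ ≤ B ∧ B₀.relIndex B ≤ p ∧
      Q₁ ⊓ Subgroup.centralizer (B₀ : Set G) ≠ ⊥ := by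
    by_contra hno
    push Not at hno
    apply h1
    rw [hgen, eq_bot_iff]
    unfold genC
    apply iSup_le
    rintro ⟨B₀, hB₀B, hB₀idx⟩
    rw [hno B₀ hB₀B hB₀idx]
  have hB₀card : p < Nat.card B₀ := by
    have e1 : Nat.card (B₀.subgroupOf B) = Nat.card B₀ :=
      Nat.card_congr (Subgroup.subgroupOfEquivOfLe hB₀B).toEquiv
    have e2 := Subgroup.card_mul_index (B₀.subgroupOf B)
    rw [e1] at e2
    have e3 : (B₀.subgroupOf B).index ≤ p := hB₀idx
    have e4 : Nat.card B ≤ Nat.card B₀ * p := by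
      rw [← e2]; exact Nat.mul_le_mul_left _ e3
    have hp1 := hp.one_lt
    by_contra hle
    push Not at hle
    have : Nat.card B₀ * p ≤ p * p := Nat.mul_le_mul_right _ hle
    nlinarith
  have hB₀ea := ea_mono hB hB₀B
  obtain ⟨a, haB₀, ha1, hane⟩ := exists_cent_ne_bot hpq B₀ Q₂ hB₀ea hB₀card hQ₂p
    ((hB₀B.trans hBA).trans hQ₂.1.2.2) h2
  have haC : a ∈ Subgroup.centralizer (A : Set G) := hBC (hB₀B haB₀)
  have hAH : A ≤ Subgroup.centralizer ({a} : Set G) := by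
    intro x hx
    rw [Subgroup.mem_centralizer_iff]
    intro y hy
    rw [Set.mem_singleton_iff] at hy
    subst hy
    exact (Subgroup.mem_centralizer_iff.1 haC x hx).symm
  have hcc : Subgroup.centralizer (B₀ : Set G) ≤ Subgroup.centralizer ({a} : Set G) :=
    Subgroup.centralizer_le (by
      intro y hy
      rw [Set.mem_singleton_iff] at hy
      subst hy
      exact haB₀)
  have hne : ∀ (V W : Subgroup G), V ≠ ⊥ → V ≤ W → W ≠ ⊥ := by
    intro V W hV hVW hW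
    apply hV
    rw [eq_bot_iff, ← hW]; exact hVW
  apply transitivity_main hG A hA q hqA _ Q₁ Q₂ hQ₁ hQ₂ rfl
  refine ⟨Subgroup.centralizer ({a} : Set G), mso_centralizer_ne_top hG a ha1, hAH, ?_, ?_⟩
  · exact hne _ _ hB₀ne (le_inf (inf_le_right.trans hcc) inf_le_left)
  · exact hne _ _ hane (le_inf inf_le_right inf_le_left)

theorem trans_rank2 (hG : Cfsg.IsMinSimpleOddOrder G) (A : Subgroup G)
    (hA : Cfsg.TransitivityHypothesis A)
    (hZ : ¬ Cfsg.RankLE 1 ↥(A ⊓ Subgroup.centralizer (A : Set G)))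
    (q : ℕ) [hq : Fact q.Prime] (hqA : ¬ q ∣ Nat.card A)
    (hqC : q ∣ Nat.card (Subgroup.centralizer (A : Set G)))
    (Q₁ Q₂ : Subgroup G) (hQ₁ : Q₁ ∈ Cfsg.maxInvSubgroups ⊤ A {q})
    (hQ₂ : Q₂ ∈ Cfsg.maxInvSubgroups ⊤ A {q}) : KRel A Q₁ Q₂ := by
  obtain ⟨p, hp, B, hBZ, hB, hBc⟩ := exists_ea_of_not_rankLE _ 1 hZ
  rw [pow_one] at hBc
  haveI : Fact p.Prime := ⟨hp⟩
  have hBA : B ≤ A := hBZ.trans inf_le_left
  have hBC : B ≤ Subgroup.centralizer (A : Set G) := hBZ.trans inf_le_right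
  have hBp : IsPGroup p B := ea_isPGroup B hB
  obtain ⟨i, hi⟩ := hBp.exists_card_eq
  have hpB : p ∣ Nat.card B := by
    rw [hi]
    have hi0 : i ≠ 0 := by
      intro h0
      rw [hi, h0, pow_zero] at hBc
      have := hp.one_lt
      omega
    exact dvd_pow_self p hi0
  have hpq : p ≠ q := by
    intro h
    apply hqA
    rw [← h]
    exact hpB.trans (Subgroup.card_dvd_of_le hBA)
  -- a Sylow q-subgroup of C_G(A)
  obtain ⟨S', hS'⟩ := Sylow.exists_subgroup_card_pow_prime (G := ↥(Subgroup.centralizer (A : Set G)))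
    q (n := 1) (by rw [pow_one]; exact hqC)
  obtain ⟨S, hS⟩ : ∃ S : Subgroup G, S = S'.map (Subgroup.centralizer (A : Set G)).subtype :=
    ⟨_, rfl⟩
  have hSC : S ≤ Subgroup.centralizer (A : Set G) := by rw [hS]; exact Subgroup.map_subtype_le _
  have hScard : Nat.card S = q ^ 1 := by
    rw [hS, Subgroup.card_map_of_injective (Subgroup.subtype_injective _)]; exact hS'
  have hS1 : S ≠ ⊥ := by
    intro h
    rw [h, Subgroup.card_bot, pow_one] at hScard
    exact hq.out.one_lt.ne hScard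
  have hSinv : S ∈ Cfsg.invSubgroups ⊤ A {q} := by
    refine ⟨le_top, primes_of_isPGroup q S (IsPGroup.of_card hScard), ?_⟩
    have h1 : A ≤ Subgroup.centralizer (S : Set G) := by
      rw [Subgroup.le_centralizer_iff]; exact hSC
    exact h1.trans (Subgroup.centralizer_le_normalizer _)
  obtain ⟨Q', hQ', hSQ'⟩ := exists_max_ge A q S hSinv
  have hne : ∀ (V W : Subgroup G), V ≠ ⊥ → V ≤ W → W ≠ ⊥ := by
    intro V W hV hVW hW
    apply hV
    rw [eq_bot_iff, ← hW]; exact hVW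
  have key : ∀ Q ∈ Cfsg.maxInvSubgroups ⊤ A {q}, KRel A Q Q' := by
    intro Q hQ
    have hQ1 : Q ≠ ⊥ := by
      intro h
      have := hQ.2 Q' hQ'.1 (h ▸ bot_le)
      apply hS1
      rw [eq_bot_iff, ← h, ← this]; exact hSQ'
    have hQp : IsPGroup q Q := isPGroup_of_primes q Q hQ.1.2.1
    obtain ⟨a, haB, ha1, hane⟩ := exists_cent_ne_bot hpq B Q hB hBc hQp
      (hBA.trans hQ.1.2.2) hQ1
    have haC : a ∈ Subgroup.centralizer (A : Set G) := hBC haB
    have hAH : A ≤ Subgroup.centralizer ({a} : Set G) := by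
      intro x hx
      rw [Subgroup.mem_centralizer_iff]
      intro y hy
      rw [Set.mem_singleton_iff] at hy
      subst hy
      exact (Subgroup.mem_centralizer_iff.1 haC x hx).symm
    have hSH : S ≤ Subgroup.centralizer ({a} : Set G) := by
      intro x hx
      rw [Subgroup.mem_centralizer_iff]
      intro y hy
      rw [Set.mem_singleton_iff] at hy
      subst hy
      exact Subgroup.mem_centralizer_iff.1 (hSC hx) y (hBA haB)
    apply transitivity_main hG A hA q hqA _ Q Q' hQ hQ' rfl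
    refine ⟨Subgroup.centralizer ({a} : Set G), mso_centralizer_ne_top hG a ha1, hAH, ?_, ?_⟩
    · exact hne _ _ hane (le_inf inf_le_right inf_le_left)
    · exact hne _ _ hS1 (le_inf hSH hSQ')
  exact (key Q₁ hQ₁).trans (key Q₂ hQ₂).symm

end Cfsg.Agent.helper23
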