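import Cfsg.Agent.Lib_helper23_BG5b

set_option autoImplicit false
open Cfsg
open scoped commutatorElement

namespace Cfsg.Agent.helper23

section gen
variable {R : Type*} [Group R]

theorem comm_center {x : R} (hx : x ∈ Subgroup.upperCentralSeries R 2) (r : R) :
    ⁅x, r⁆ ∈ Subgroup.center R := by
  have h := (Subgroup.mem_upperCentralSeries_succ_iff (n := 1)).1 hx r
  rwa [Subgroup.upperCentralSeries_one] at h

theorem comm_pow {p : ℕ} {x : R} (hx : x ∈ Subgroup.upperCentralSeries R 2) (hxp : x ^ p = 1) (r : R) :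
    ⁅x, r⁆ ^ p = 1 := by
  have hc := comm_center hx r
  have hyx : x * r = ⁅x, r⁆ * (r * x) := by
    rw [commutatorElement_def]; group
  have hcy : Commute ⁅x, r⁆ x := (Subgroup.mem_center_iff.1 hc x).symm
  have h := lead.pow_mul_comm_class2 r x ⁅x, r⁆ hyx hcy p
  rw [hxp, one_mul, mul_one] at h
  have h' : 1 * r = ⁅x, r⁆ ^ p * r := by rw [one_mul]; exact h
  exact (mul_right_cancel h').symm

/-- `Ω₁(Z₂(R))` consists of elements of `Z₂(R)` of order dividing `p` (`p` odd). -/
theorem omega_ucs2 {p : ℕ} (hpp : p.Prime) (hp2 : p ≠ 2) (W : Subgroup R)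
    (hW : W = Subgroup.closure {x : R | x ∈ Subgroup.upperCentralSeries R 2 ∧ x ^ p = 1}) :
    ∀ w ∈ W, w ∈ Subgroup.upperCentralSeries R 2 ∧ w ^ p = 1 := by
  intro w hw
  rw [hW] at hw
  induction hw using Subgroup.closure_induction with
  | mem x hx => exact hx
  | one => exact ⟨Subgroup.one_mem _, one_pow p⟩
  | mul a b _ _ iha ihb =>
    refine ⟨Subgroup.mul_mem _ iha.1 ihb.1, ?_⟩
    have hc := comm_center ihb.1 a
    have hyx : b * a = ⁅b, a⁆ * (a * b) := by rw [commutatorElement_def]; group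
    have hcx : Commute ⁅b, a⁆ a := (Subgroup.mem_center_iff.1 hc a).symm
    have hcy : Commute ⁅b, a⁆ b := (Subgroup.mem_center_iff.1 hc b).symm
    rw [lead.mul_pow_class2 a b ⁅b, a⁆ hyx hcx hcy p, iha.2, ihb.2, one_mul, one_mul]
    obtain ⟨k, hk⟩ := hpp.odd_of_ne_two hp2
    have h1 : p * (p - 1) / 2 = p * k := by
      have : p - 1 = 2 * k := by omega
      rw [this, ← mul_assoc, mul_comm p 2, mul_assoc, Nat.mul_div_cancel_left _ (by norm_num : 0 < 2)]
    rw [h1, pow_mul, comm_pow ihb.1 ihb.2 a, one_pow]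
  | inv a _ iha => exact ⟨Subgroup.inv_mem _ iha.1, by rw [inv_pow, iha.2, inv_one]⟩

/-- for fixed `e`, `x ↦ ⁅x, e⁆` is a homomorphism on `Z₂(R)` with values in the center -/
noncomputable def commHomL (e : R) : ↥(Subgroup.upperCentralSeries R 2) →* ↥(Subgroup.center R) where
  toFun x := ⟨⁅(x : R), e⁆, comm_center x.2 e⟩
  map_one' := by
    apply Subtype.ext
    show ⁅((1 : ↥(Subgroup.upperCentralSeries R 2)) : R), e⁆ = 1
    rw [Subgroup.coe_one, commutatorElement_one_left]
  map_mul' x y := by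
    apply Subtype.ext
    show ⁅((x * y : ↥(Subgroup.upperCentralSeries R 2)) : R), e⁆ = ⁅(x : R), e⁆ * ⁅(y : R), e⁆
    rw [Subgroup.coe_mul]
    have hy := comm_center y.2 e
    have h1 : ⁅(x : R) * y, e⁆ = (x : R) * ⁅(y : R), e⁆ * (x : R)⁻¹ * ⁅(x : R), e⁆ := by
      simp only [commutatorElement_def]; group
    rw [h1]
    have h2 : (x : R) * ⁅(y : R), e⁆ = ⁅(y : R), e⁆ * x := Subgroup.mem_center_iff.1 hy x
    rw [h2, mul_inv_cancel_right]
    exact (Subgroup.mem_center_iff.1 hy ⁅(x : R), e⁆).symm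

theorem commHomL_apply (e : R) (x : ↥(Subgroup.upperCentralSeries R 2)) :
    ((commHomL e x : ↥(Subgroup.center R)) : R) = ⁅(x : R), e⁆ := rfl

theorem card_inf_mul_relIndex {G : Type*} [Group G] (H K : Subgroup G) :
    Nat.card (H ⊓ K : Subgroup G) * H.relIndex K = Nat.card K := by
  have h1 : (⊥ : Subgroup G).relIndex (H ⊓ K) * (H ⊓ K).relIndex K = (⊥ : Subgroup G).relIndex K :=
    Subgroup.relIndex_mul_relIndex ⊥ (H ⊓ K) K bot_le inf_le_right
  rw [Subgroup.relIndex_bot_left, Subgroup.relIndex_bot_left, Subgroup.inf_relIndex_right] at h1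
  exact h1

/-- `|W| ≤ |Ω₁(Z(R))| · |C_W(e)|` for `W ≤ Z₂(R)` of exponent `p`. -/
theorem card_le_mul_centralizer [Finite R] {p : ℕ} (W Zs : Subgroup R)
    (hW2 : W ≤ Subgroup.upperCentralSeries R 2) (hWp : ∀ w ∈ W, w ^ p = 1)
    (hZs : ∀ c ∈ Subgroup.center R, c ^ p = 1 → c ∈ Zs) (e : R) :
    Nat.card W ≤ Nat.card Zs * Nat.card (W ⊓ Subgroup.centralizer ({e} : Set R) : Subgroup R) := by
  set f := commHomL e with hf
  set K : Subgroup ↥(Subgroup.upperCentralSeries R 2) :=
    W.subgroupOf (Subgroup.upperCentralSeries R 2) with hK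
  have h1 : f.ker.relIndex K = Nat.card (K.map f) := Subgroup.relIndex_ker K f
  have h2 : Nat.card (K.map f) ≤ Nat.card Zs := by
    have hmem : ∀ c : ↥(K.map f), ((c : ↥(Subgroup.center R)) : R) ∈ Zs := by
      rintro ⟨c, hc⟩
      obtain ⟨x, hxK, rfl⟩ := Subgroup.mem_map.1 hc
      have hxW : (x : R) ∈ W := Subgroup.mem_subgroupOf.1 hxK
      show ((f x : ↥(Subgroup.center R)) : R) ∈ Zs
      rw [hf, commHomL_apply]
      exact hZs _ (comm_center x.2 e) (comm_pow x.2 (hWp _ hxW) e)
    apply Nat.card_le_card_of_injective (fun c : ↥(K.map f) => (⟨((c : ↥(Subgroup.center R)) : R), hmem c⟩ : ↥Zs))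
    intro c d hcd
    have : ((c : ↥(Subgroup.center R)) : R) = ((d : ↥(Subgroup.center R)) : R) := by
      have h := congrArg (fun t : ↥Zs => (t : R)) hcd
      exact h
    exact Subtype.ext (Subtype.ext this)
  have h3 : Nat.card (f.ker ⊓ K : Subgroup ↥(Subgroup.upperCentralSeries R 2)) ≤
      Nat.card (W ⊓ Subgroup.centralizer ({e} : Set R) : Subgroup R) := by
    have hmem : ∀ k : ↥(f.ker ⊓ K), ((k : ↥(Subgroup.upperCentralSeries R 2)) : R) ∈
        W ⊓ Subgroup.centralizer ({e} : Set R) := by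
      rintro ⟨k, hk1, hk2⟩
      refine Subgroup.mem_inf.2 ⟨Subgroup.mem_subgroupOf.1 hk2, ?_⟩
      rw [Subgroup.mem_centralizer_iff]
      intro y hy
      rw [Set.mem_singleton_iff] at hy
      rw [hy]
      have h0 : f k = 1 := hk1
      have h0' : ⁅(k : R), e⁆ = 1 := by
        have := congrArg Subtype.val h0
        rwa [hf, commHomL_apply] at this
      exact ((commutatorElement_eq_one_iff_commute.1 h0').eq).symm
    apply Nat.card_le_card_of_injective (fun k : ↥(f.ker ⊓ K) =>
      (⟨((k : ↥(Subgroup.upperCentralSeries R 2)) : R), hmem k⟩ :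
        ↥(W ⊓ Subgroup.centralizer ({e} : Set R))))
    intro c d hcd
    have : ((c : ↥(Subgroup.upperCentralSeries R 2)) : R) =
        ((d : ↥(Subgroup.upperCentralSeries R 2)) : R) := by
      have h := congrArg (fun t : ↥(W ⊓ Subgroup.centralizer ({e} : Set R)) => (t : R)) hcd
      exact h
    exact Subtype.ext (Subtype.ext this)
  have h4 := card_inf_mul_relIndex f.ker K
  have h5 : Nat.card K = Nat.card W :=
    Nat.card_congr (Subgroup.subgroupOfEquivOfLe hW2).toEquiv
  rw [← h5, ← h4, h1, mul_comm]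
  exact Nat.mul_le_mul h2 h3

theorem commutator_top_lt [Finite R] {p : ℕ} [Fact p.Prime] (hR : IsPGroup p R) (C : Subgroup R)
    [C.Normal] (hC : C ≠ ⊥) : ⁅C, (⊤ : Subgroup R)⁆ < C := by
  have hle : ⁅C, (⊤ : Subgroup R)⁆ ≤ C := Subgroup.commutator_le_left C ⊤
  refine lt_of_le_of_ne hle ?_
  intro heq
  apply hC
  haveI : Group.IsNilpotent ↥(⊤ : Subgroup R) := (hR.to_subgroup ⊤).isNilpotent
  obtain ⟨n, hn⟩ := (Subgroup.isNilpotent_iff_lowerCentralSeries (⊤ : Subgroup R)).mp inferInstance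
  have hall : ∀ m, C ≤ (⊤ : Subgroup R).lowerCentralSeries m := by
    intro m
    induction m with
    | zero => exact le_top
    | succ m ih =>
      rw [Subgroup.lowerCentralSeries_succ]
      calc C = ⁅C, (⊤ : Subgroup R)⁆ := heq.symm
        _ ≤ ⁅(⊤ : Subgroup R).lowerCentralSeries m, ⊤⁆ := Subgroup.commutator_mono ih le_rfl
  rw [eq_bot_iff, ← hn]
  exact hall n

theorem normal_prime_le_center [Finite R] {p : ℕ} [hp : Fact p.Prime] (hR : IsPGroup p R)
    (K : Subgroup R) [K.Normal] (hK : Nat.card K = p) : K ≤ Subgroup.center R := by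
  have hKne : K ≠ ⊥ := by
    intro h
    rw [h, Subgroup.card_bot] at hK
    exact hp.out.one_lt.ne hK
  obtain ⟨z, hzK, hzc, hz1⟩ := helper1.exists_central_of_normal_ne_bot hR K hKne
  have hzp : Subgroup.zpowers z ≤ K := by rw [Subgroup.zpowers_le]; exact hzK
  have hzne : Subgroup.zpowers z ≠ ⊥ := by
    intro h
    apply hz1
    have := Subgroup.mem_zpowers z
    rw [h] at this
    exact Subgroup.mem_bot.1 this
  have heq : Subgroup.zpowers z = K :=
    Subgroup.eq_of_le_of_card_ge hzp (by rw [hK]; exact card_bot_lt hR _ hzne)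
  rw [← heq, Subgroup.zpowers_le]
  exact hzc

end gen

section main
variable {R : Type*} [Group R] [Finite R]

theorem bg_53 {p : ℕ} [hp : Fact p.Prime] (hp2 : p ≠ 2) (hR : IsPGroup p R)
    (hr : ¬ PRankLE p 2 R) (E : Subgroup R) (hE : IsElementaryAbelian p E) (hE2 : Nat.card E = p ^ 2)
    (hEmax : ∀ B : Subgroup R, IsElementaryAbelian p B → E ≤ B → B = E)
    (Z W : Subgroup R)
    (hZdef : Z = Subgroup.closure {x : R | x ∈ Subgroup.center R ∧ x ^ p = 1})
    (hWdef : W = Subgroup.closure {x : R | x ∈ Subgroup.upperCentralSeries R 2 ∧ x ^ p = 1}) :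
    ¬ E ≤ Subgroup.centralizer (W : Set R) ∧ Nat.card Z = p ∧
      (IsElementaryAbelian p W ∧ Nat.card W = p ^ 2) ∧
      (Subgroup.centralizer (W : Set R)).Characteristic ∧
      (Subgroup.centralizer (W : Set R)).index = p := by
  have hp1 := hp.out.one_lt
  -- elements of Z
  have hZmem : ∀ z ∈ Z, z ∈ Subgroup.center R ∧ z ^ p = 1 := by
    intro z hz
    rw [hZdef] at hz
    induction hz using Subgroup.closure_induction with
    | mem x hx => exact hx
    | one => exact ⟨Subgroup.one_mem _, one_pow p⟩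
    | mul a b _ _ iha ihb =>
      refine ⟨Subgroup.mul_mem _ iha.1 ihb.1, ?_⟩
      have hc : Commute a b := (Subgroup.mem_center_iff.1 ihb.1 a)
      rw [hc.mul_pow, iha.2, ihb.2, one_mul]
    | inv a _ iha => exact ⟨Subgroup.inv_mem _ iha.1, by rw [inv_pow, iha.2, inv_one]⟩
  have hZin : ∀ c ∈ Subgroup.center R, c ^ p = 1 → c ∈ Z := by
    intro c hc hcp
    rw [hZdef]
    exact Subgroup.subset_closure ⟨hc, hcp⟩
  have hZc : Z ≤ Subgroup.center R := fun z hz => (hZmem z hz).1
  have hZea : IsElementaryAbelian p Z := by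
    refine ⟨⟨⟨?_⟩⟩, fun z hz => (hZmem z hz).2⟩
    rintro ⟨a, ha⟩ ⟨b, hb⟩
    exact Subtype.ext (Subgroup.mem_center_iff.1 (hZmem b hb).1 a)
  have hZE : Z ≤ E := by
    apply ea_absorb hE hEmax hZea
    intro a _ b hb
    exact Subgroup.mem_center_iff.1 (hZmem b hb).1 a
  -- R is not cyclic
  have hnc : ¬ IsCyclic R := by
    intro hc
    haveI : IsCyclic E := Subgroup.isCyclic E
    obtain ⟨g, hg⟩ := IsCyclic.exists_generator (α := E)
    have h1 : orderOf g = Nat.card E := orderOf_eq_card_of_forall_mem_zpowers hg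
    have h2 : g ^ p = 1 := Subtype.ext (by rw [Subgroup.coe_pow, Subgroup.coe_one]; exact hE.2 g g.2)
    have h3 : orderOf g ∣ p := orderOf_dvd_of_pow_eq_one h2
    rw [h1, hE2] at h3
    have h4 := Nat.le_of_dvd hp.out.pos h3
    nlinarith
  obtain ⟨U, hUn, hUea, hU2⟩ := S0126.result hp2 hR hnc
  haveI := hUn
  have hUne : U ≠ ⊥ := by
    intro h
    rw [h, Subgroup.card_bot] at hU2
    nlinarith
  obtain ⟨z, hzU, hzc, hz1⟩ := helper1.exists_central_of_normal_ne_bot hR U hUne
  have hzZ : z ∈ Z := hZin z hzc (hUea.2 z hzU)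
  have hZne : Z ≠ ⊥ := by
    intro h
    rw [h] at hzZ
    exact hz1 (Subgroup.mem_bot.1 hzZ)
  have hZneE : Z ≠ E := by
    intro h
    have hEc : E ≤ Subgroup.center R := h ▸ hZc
    haveI : E.Normal := S0126.normal_of_le_center E hEc
    exact no_normal_max hR hr E hE hE2 hEmax
  have hZcard : Nat.card Z = p := by
    have hdvd : Nat.card Z ∣ p ^ 2 := hE2 ▸ Subgroup.card_dvd_of_le hZE
    rcases dvd_sq_cases hp.out hdvd with h | h | h
    · exact absurd (Subgroup.card_eq_one.1 h) hZne
    · exact h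
    · exact absurd (Subgroup.eq_of_le_of_card_ge hZE (by rw [hE2, h])) hZneE
  have hzpZ : Subgroup.zpowers z = Z := by
    have hle : Subgroup.zpowers z ≤ Z := by rw [Subgroup.zpowers_le]; exact hzZ
    have hne : Subgroup.zpowers z ≠ ⊥ := by
      intro h
      apply hz1
      have := Subgroup.mem_zpowers z
      rw [h] at this
      exact Subgroup.mem_bot.1 this
    exact Subgroup.eq_of_le_of_card_ge hle (by rw [hZcard]; exact card_bot_lt hR _ hne)
  have hZU : Z ≤ U := by
    rw [← hzpZ, Subgroup.zpowers_le]; exact hzU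
  -- ⁅U, ⊤⁆ is central
  have hcomU : ⁅U, (⊤ : Subgroup R)⁆ ≤ Subgroup.center R := by
    have hlt := commutator_top_lt hR U hUne
    have hdvd : Nat.card (⁅U, (⊤ : Subgroup R)⁆ : Subgroup R) ∣ p ^ 2 :=
      hU2 ▸ Subgroup.card_dvd_of_le hlt.le
    rcases dvd_sq_cases hp.out hdvd with h | h | h
    · rw [Subgroup.card_eq_one.1 h]; exact bot_le
    · exact normal_prime_le_center hR _ h
    · exact absurd (Subgroup.eq_of_le_of_card_ge hlt.le (by rw [hU2, h])) hlt.ne
  have hU2c : U ≤ Subgroup.upperCentralSeries R 2 := by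
    intro u hu
    apply (Subgroup.mem_upperCentralSeries_succ_iff (n := 1)).2
    intro y
    rw [Subgroup.upperCentralSeries_one]
    exact hcomU (Subgroup.commutator_mem_commutator hu (Subgroup.mem_top y))
  have hUW : U ≤ W := by
    intro u hu
    rw [hWdef]
    exact Subgroup.subset_closure ⟨hU2c hu, hUea.2 u hu⟩
  have hWmem := omega_ucs2 hp.out hp2 W hWdef
  have hW2c : W ≤ Subgroup.upperCentralSeries R 2 := fun w hw => (hWmem w hw).1
  have hWin : ∀ x ∈ Subgroup.upperCentralSeries R 2, x ^ p = 1 → x ∈ W := by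
    intro x hx hxp
    rw [hWdef]
    exact Subgroup.subset_closure ⟨hx, hxp⟩
  haveI hWchar : W.Characteristic := by
    rw [Subgroup.characteristic_iff_map_le]
    intro φ x hx
    obtain ⟨w, hw, rfl⟩ := Subgroup.mem_map.1 hx
    have h2 : (Subgroup.upperCentralSeries R 2).map φ.toMonoidHom ≤ Subgroup.upperCentralSeries R 2 :=
      Subgroup.characteristic_iff_map_le.1 inferInstance φ
    apply hWin
    · exact h2 (Subgroup.mem_map_of_mem _ (hWmem w hw).1)
    · rw [← map_pow, (hWmem w hw).2, map_one]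
  -- E is not contained in W
  have hEW : ¬ E ≤ W := by
    intro hEW
    haveI : E.Normal := by
      constructor
      intro x hx r
      have hxW := hWmem x (hEW hx)
      have hcZ : ⁅x, r⁆ ∈ Z := hZin _ (comm_center hxW.1 r) (comm_pow hxW.1 hxW.2 r)
      have heq : r * x * r⁻¹ = ⁅x, r⁆⁻¹ * x := by
        rw [commutatorElement_def]; group
      rw [heq]
      exact E.mul_mem (E.inv_mem (hZE hcZ)) hx
    exact no_normal_max hR hr E hE hE2 hEmax
  -- |W| = p²
  have hWcard : Nat.card W = p ^ 2 := by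
    by_contra hne
    have hge : p ^ 2 ≤ Nat.card W := hU2 ▸ Subgroup.card_le_of_le hUW
    obtain ⟨n, hn⟩ := (hR.to_subgroup W).exists_card_eq
    have hn3 : 3 ≤ n := by
      by_contra h
      push_neg at h
      have h' : p ^ n ≤ p ^ 2 := Nat.pow_le_pow_right hp.out.pos (by omega)
      apply hne
      rw [hn] at hge ⊢
      exact le_antisymm h' hge
    have h3 : p ^ 3 ≤ Nat.card W := by rw [hn]; exact Nat.pow_le_pow_right hp.out.pos hn3
    obtain ⟨e, heE, heZ⟩ := SetLike.exists_of_lt (lt_of_le_of_ne hZE hZneE)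
    have h1 := card_le_mul_centralizer W Z hW2c (fun w hw => (hWmem w hw).2) hZin e
    have h4 : p ^ 2 ≤ Nat.card (W ⊓ Subgroup.centralizer ({e} : Set R) : Subgroup R) :=
      sq_le_of_cube_le hp.out.pos hZcard.le (h3.trans h1)
    have hDE : W ⊓ Subgroup.centralizer ({e} : Set R) ≤ E := by
      intro k hk
      have hkW := hWmem k hk.1
      have hke : e * k = k * e :=
        Subgroup.mem_centralizer_iff.1 hk.2 e (Set.mem_singleton e)
      have hH : Z ⊔ Subgroup.zpowers e = E := by
        apply eq_of_lt_of_card_sq hR hZne _ _ hE2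
        · refine lt_of_le_of_ne le_sup_left ?_
          intro h
          apply heZ
          rw [h]
          exact (le_sup_right : Subgroup.zpowers e ≤ Z ⊔ Subgroup.zpowers e) (Subgroup.mem_zpowers e)
        · exact sup_le hZE (by rw [Subgroup.zpowers_le]; exact heE)
      have hcen : Z ⊔ Subgroup.zpowers e ≤ Subgroup.centralizer ({k} : Set R) := by
        apply sup_le
        · intro c hc
          rw [Subgroup.mem_centralizer_iff]
          intro y hy
          rw [Set.mem_singleton_iff] at hy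
          rw [hy]
          exact Subgroup.mem_center_iff.1 (hZc hc) k
        · rw [Subgroup.zpowers_le, Subgroup.mem_centralizer_iff]
          intro y hy
          rw [Set.mem_singleton_iff] at hy
          rw [hy]
          exact hke.symm
      apply ea_absorb_elt hE hEmax k hkW.2
      intro a ha
      have ha' : a ∈ Subgroup.centralizer ({k} : Set R) := hcen (hH ▸ ha)
      exact (Subgroup.mem_centralizer_iff.1 ha' k (Set.mem_singleton k)).symm
    have hDeq : W ⊓ Subgroup.centralizer ({e} : Set R) = E :=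
      Subgroup.eq_of_le_of_card_ge hDE (by rw [hE2]; exact h4)
    apply hEW
    rw [← hDeq]
    exact inf_le_left
  have hUeqW : U = W := Subgroup.eq_of_le_of_card_ge hUW (by rw [hU2, hWcard])
  have hWea : IsElementaryAbelian p W := hUeqW ▸ hUea
  refine ⟨?_, hZcard, ⟨hWea, hWcard⟩, inferInstance, ?_⟩
  · intro hEC
    have hWE : W ≤ E := by
      apply ea_absorb hE hEmax hWea
      intro a ha b hb
      exact (Subgroup.mem_centralizer_iff.1 (hEC ha) b hb).symm
    have hWeqE : W = E := Subgroup.eq_of_le_of_card_ge hWE (by rw [hE2, hWcard])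
    exact hEW hWeqE.ge
  · have hdvd := index_centralizer_dvd hR W hWcard
    rcases (Nat.dvd_prime hp.out).1 hdvd with h | h
    · exfalso
      have htop : Subgroup.centralizer (W : Set R) = ⊤ := Subgroup.index_eq_one.1 h
      have hWc : (W : Set R) ⊆ Subgroup.center R := Subgroup.centralizer_eq_top_iff_subset.1 htop
      have hWZ : W ≤ Z := fun w hw => hZin w (hWc hw) (hWmem w hw).2
      have := Subgroup.card_le_of_le hWZ
      rw [hWcard, hZcard] at this
      nlinarith
    · exact h

end main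

end Cfsg.Agent.helper23
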