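import Mathlib
import Cfsg.Agent.Lib_helper23_BG5c
import Cfsg.Agent.Lib_helper10_PS1

/-!
`Ω_k` of a `p`-group of class at most two with central `p`-th powers (`p` odd), coprime
automorphisms trivial on `Ω₁`, and small groups of exponent `p` and rank at most two.
-/

set_option autoImplicit false
set_option linter.style.haveILetI false
open Cfsg
open scoped commutatorElement

namespace Cfsg.Agent.helper23

section omega
variable {G : Type*} [Group G]

theorem cl2_comm_pow {p : ℕ} {C : Subgroup G}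
    (hcomm : ∀ x ∈ C, ∀ y ∈ C, ⁅x, y⁆ ∈ Subgroup.centralizer (C : Set G))
    (hpow : ∀ x ∈ C, x ^ p ∈ Subgroup.centralizer (C : Set G))
    {x y : G} (hx : x ∈ C) (hy : y ∈ C) : ⁅x, y⁆ ^ p = 1 := by
  have hcx : Commute ⁅x, y⁆ x :=
    (Subgroup.mem_centralizer_iff.1 (hcomm x hx y hy) x hx).symm
  have h := lead.pow_mul_comm_class2 y x ⁅x, y⁆ (lead.mul_eq_commutator_mul y x) hcx p
  have h2 : y * x ^ p = x ^ p * y := Subgroup.mem_centralizer_iff.1 (hpow x hx) y hy
  rw [h2] at h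
  have h' : 1 * (x ^ p * y) = ⁅x, y⁆ ^ p * (x ^ p * y) := by rw [one_mul]; exact h
  exact (mul_right_cancel h').symm

theorem cl2_mul_pow {p : ℕ} (hodd : Odd p) {C : Subgroup G}
    (hcomm : ∀ x ∈ C, ∀ y ∈ C, ⁅x, y⁆ ∈ Subgroup.centralizer (C : Set G))
    (hpow : ∀ x ∈ C, x ^ p ∈ Subgroup.centralizer (C : Set G))
    {x y : G} (hx : x ∈ C) (hy : y ∈ C) : (x * y) ^ p = x ^ p * y ^ p := by
  have hc := hcomm y hy x hx
  have hcx : Commute ⁅y, x⁆ x := (Subgroup.mem_centralizer_iff.1 hc x hx).symm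
  have hcy : Commute ⁅y, x⁆ y := (Subgroup.mem_centralizer_iff.1 hc y hy).symm
  rw [lead.mul_pow_class2 x y ⁅y, x⁆ (lead.mul_eq_commutator_mul x y) hcx hcy p]
  obtain ⟨k, hk⟩ := hodd
  have h1 : p * (p - 1) / 2 = p * k := by
    have : p - 1 = 2 * k := by omega
    rw [this, ← mul_assoc, mul_comm p 2, mul_assoc, Nat.mul_div_cancel_left _ (by norm_num : 0 < 2)]
  rw [h1, pow_mul, cl2_comm_pow hcomm hpow hy hx, one_pow, mul_one]

theorem cl2_mul_pow_pk {p : ℕ} (hodd : Odd p) {C : Subgroup G}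
    (hcomm : ∀ x ∈ C, ∀ y ∈ C, ⁅x, y⁆ ∈ Subgroup.centralizer (C : Set G))
    (hpow : ∀ x ∈ C, x ^ p ∈ Subgroup.centralizer (C : Set G))
    {x y : G} (hx : x ∈ C) (hy : y ∈ C) (k : ℕ) : (x * y) ^ (p ^ k) = x ^ (p ^ k) * y ^ (p ^ k) := by
  induction k with
  | zero => simp
  | succ k ih =>
    rw [pow_succ, pow_mul, pow_mul, pow_mul, ih]
    exact cl2_mul_pow hodd hcomm hpow (C.pow_mem hx _) (C.pow_mem hy _)

/-- `Ω_k(C) = {x ∈ C | x ^ (p ^ k) = 1}` -/
def omegaK (p : ℕ) (hodd : Odd p) (C : Subgroup G)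
    (hcomm : ∀ x ∈ C, ∀ y ∈ C, ⁅x, y⁆ ∈ Subgroup.centralizer (C : Set G))
    (hpow : ∀ x ∈ C, x ^ p ∈ Subgroup.centralizer (C : Set G)) (k : ℕ) : Subgroup G where
  carrier := {x | x ∈ C ∧ x ^ (p ^ k) = 1}
  one_mem' := ⟨C.one_mem, one_pow _⟩
  mul_mem' := by
    rintro a b ⟨ha, ha'⟩ ⟨hb, hb'⟩
    exact ⟨C.mul_mem ha hb, by rw [cl2_mul_pow_pk hodd hcomm hpow ha hb, ha', hb', one_mul]⟩
  inv_mem' := by
    rintro a ⟨ha, ha'⟩
    exact ⟨C.inv_mem ha, by rw [inv_pow, ha', inv_one]⟩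

theorem mem_omegaK {p : ℕ} {hodd : Odd p} {C : Subgroup G}
    {hcomm : ∀ x ∈ C, ∀ y ∈ C, ⁅x, y⁆ ∈ Subgroup.centralizer (C : Set G)}
    {hpow : ∀ x ∈ C, x ^ p ∈ Subgroup.centralizer (C : Set G)} {k : ℕ} {x : G} :
    x ∈ omegaK p hodd C hcomm hpow k ↔ x ∈ C ∧ x ^ (p ^ k) = 1 := Iff.rfl

theorem omegaK_le {p : ℕ} {hodd : Odd p} {C : Subgroup G}
    {hcomm : ∀ x ∈ C, ∀ y ∈ C, ⁅x, y⁆ ∈ Subgroup.centralizer (C : Set G)}
    {hpow : ∀ x ∈ C, x ^ p ∈ Subgroup.centralizer (C : Set G)} {k : ℕ} :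
    omegaK p hodd C hcomm hpow k ≤ C := fun _ hx => hx.1

theorem omegaK_normal {p : ℕ} {hodd : Odd p} {C : Subgroup G} [hC : C.Normal]
    {hcomm : ∀ x ∈ C, ∀ y ∈ C, ⁅x, y⁆ ∈ Subgroup.centralizer (C : Set G)}
    {hpow : ∀ x ∈ C, x ^ p ∈ Subgroup.centralizer (C : Set G)} {k : ℕ} :
    (omegaK p hodd C hcomm hpow k).Normal := by
  constructor
  intro x hx g
  refine ⟨hC.conj_mem x hx.1 g, ?_⟩
  rw [conj_pow, hx.2, mul_one, mul_inv_cancel]

theorem omegaK_eq_self [Finite G] {p : ℕ} [hp : Fact p.Prime] {hodd : Odd p} {C : Subgroup G}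
    (hCp : IsPGroup p C)
    {hcomm : ∀ x ∈ C, ∀ y ∈ C, ⁅x, y⁆ ∈ Subgroup.centralizer (C : Set G)}
    {hpow : ∀ x ∈ C, x ^ p ∈ Subgroup.centralizer (C : Set G)} :
    ∃ k : ℕ, omegaK p hodd C hcomm hpow k = C := by
  obtain ⟨k, hk⟩ := hCp.exists_card_eq
  refine ⟨k, le_antisymm omegaK_le ?_⟩
  intro x hx
  refine ⟨hx, ?_⟩
  have h1 : (⟨x, hx⟩ : C) ^ Nat.card C = 1 := pow_card_eq_one'
  rw [hk] at h1
  have := congrArg (fun y : C => (y : G)) h1
  exact this

/-- a `p'`-element centralizing `Ω₁(C)` centralizes `C` -/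
theorem centralizes_of_centralizes_omega1 [Finite G] {p : ℕ} [hp : Fact p.Prime] {hodd : Odd p}
    {C : Subgroup G} [hC : C.Normal] (hCp : IsPGroup p C)
    {hcomm : ∀ x ∈ C, ∀ y ∈ C, ⁅x, y⁆ ∈ Subgroup.centralizer (C : Set G)}
    {hpow : ∀ x ∈ C, x ^ p ∈ Subgroup.centralizer (C : Set G)}
    (y : G) (hy : (orderOf y).Coprime p)
    (h1 : y ∈ Subgroup.centralizer ((omegaK p hodd C hcomm hpow 1 : Subgroup G) : Set G)) :
    y ∈ Subgroup.centralizer (C : Set G) := by
  have hall : ∀ k : ℕ, y ∈ Subgroup.centralizer ((omegaK p hodd C hcomm hpow k : Subgroup G) : Set G) := by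
    intro k
    induction k with
    | zero =>
      rw [Subgroup.mem_centralizer_iff]
      intro a ha
      have : a = 1 := by
        have := ha.2
        rwa [pow_zero, pow_one] at this
      rw [this, one_mul, mul_one]
    | succ k ih =>
      have hP1 : IsPGroup p (omegaK p hodd C hcomm hpow 1 : Subgroup G) := by
        intro x
        refine ⟨1, ?_⟩
        apply Subtype.ext
        rw [Subgroup.coe_pow, Subgroup.coe_one]
        exact x.2.2
      apply helper10.coprime_centralizes_chain _ _ hP1 y hy h1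
      intro a ha
      have haC : a ∈ C := ha.1
      have hconj : y * a * y⁻¹ ∈ C := hC.conj_mem a haC y
      refine ⟨C.mul_mem hconj (C.inv_mem haC), ?_⟩
      rw [pow_one, cl2_mul_pow hodd hcomm hpow hconj (C.inv_mem haC), conj_pow, inv_pow]
      have hap : a ^ p ∈ omegaK p hodd C hcomm hpow k := by
        refine ⟨C.pow_mem haC _, ?_⟩
        rw [← pow_mul, ← pow_succ']
        exact ha.2
      have hcomm' : a ^ p * y = y * a ^ p := Subgroup.mem_centralizer_iff.1 ih _ hap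
      rw [← hcomm', mul_inv_cancel_right, mul_inv_cancel]
  obtain ⟨k, hk⟩ := omegaK_eq_self (hodd := hodd) hCp (hcomm := hcomm) (hpow := hpow)
  rw [← hk]
  exact hall k

end omega

section small
variable {D : Type*} [Group D] [Finite D]

/-- a finite group of exponent `p` and rank `≤ 2`: the center has order `≤ p²` and index `≤ p²`. -/
theorem small_exp_p {p : ℕ} [hp : Fact p.Prime] (hD : IsPGroup p D)
    (hexp : ∀ x : D, x ^ p = 1) (hrk : PRankLE p 2 D) :
    Nat.card (Subgroup.center D) ≤ p ^ 2 ∧ Nat.card D ≤ p ^ 2 * Nat.card (Subgroup.center D) := by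
  refine ⟨hrk _ inferInstance (fun a _ => hexp a), ?_⟩
  obtain ⟨E, -, hEmax⟩ := Finite.exists_le_maximal
    (p := fun A : Subgroup D => A.Normal ∧ IsMulCommutative A) (a := (⊥ : Subgroup D))
    ⟨inferInstance, inferInstance⟩
  obtain ⟨hEn, hEc⟩ := hEmax.prop
  haveI := hEn
  have hcent : Subgroup.centralizer (E : Set D) = E := by
    apply S0129.centralizer_eq hD E hEc
    intro B hBn hBc hEB
    exact le_antisymm (hEmax.2 ⟨hBn, hBc⟩ hEB) hEB
  have hE2 : Nat.card E ≤ p ^ 2 := hrk E hEc (fun a _ => hexp a)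
  have hidx : E.index ≤ p := by
    have hdvd : Nat.card E ∣ p ^ 2 := by
      obtain ⟨j, hj⟩ := (hD.to_subgroup E).exists_card_eq
      rw [hj] at hE2 ⊢
      exact pow_dvd_pow p ((Nat.pow_le_pow_iff_right hp.out.one_lt).1 hE2)
    have hcen : E ≤ Subgroup.center D → E.index ≤ p := by
      intro hle
      have htop : Subgroup.centralizer (E : Set D) = ⊤ :=
        Subgroup.centralizer_eq_top_iff_subset.2 hle
      rw [hcent] at htop
      rw [htop, Subgroup.index_top]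
      exact hp.out.one_lt.le
    rcases dvd_sq_cases hp.out hdvd with h | h | h
    · apply hcen
      rw [Subgroup.card_eq_one.1 h]
      exact bot_le
    · exact hcen (normal_prime_le_center hD E h)
    · have := index_centralizer_dvd hD E h
      rw [hcent] at this
      exact Nat.le_of_dvd hp.out.pos this
  have hcardD : Nat.card D ≤ p ^ 3 := by
    rw [← Subgroup.card_mul_index E]
    calc Nat.card E * E.index ≤ p ^ 2 * p := Nat.mul_le_mul hE2 hidx
      _ = p ^ 3 := by ring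
  by_cases hbot : (⊤ : Subgroup D) = ⊥
  · have h1 : Nat.card D = 1 := by
      rw [← Subgroup.card_top (G := D), hbot, Subgroup.card_bot]
    rw [h1]
    exact Nat.one_le_iff_ne_zero.2 (Nat.mul_ne_zero (pow_ne_zero _ hp.out.ne_zero) Nat.card_pos.ne')
  · obtain ⟨z, -, hzc, hz1⟩ := helper1.exists_central_of_normal_ne_bot hD ⊤ hbot
    have hne : Subgroup.center D ≠ ⊥ := by
      intro h
      rw [h] at hzc
      exact hz1 (Subgroup.mem_bot.1 hzc)
    have hge := card_bot_lt hD _ hne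
    calc Nat.card D ≤ p ^ 3 := hcardD
      _ = p ^ 2 * p := by ring
      _ ≤ p ^ 2 * Nat.card (Subgroup.center D) := Nat.mul_le_mul_left _ hge

end small

end Cfsg.Agent.helper23
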