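import Mathlib

set_option autoImplicit false

namespace Cfsg.Agent.helper25.GL2Irr

open Matrix

variable {F : Type*} [Field F]

/-- The polynomial identity behind the trace computation. -/
theorem trace_conj_adjugate (X G : Matrix (Fin 2) (Fin 2) F) (htr : X 0 0 + X 1 1 = 2)
    (hdet : X.det = 1) :
    (X * (G * X * G.adjugate)).trace = 2 * G.det -
      (X 0 1 * G 1 0 + X 1 0 * G 0 1 + (X 0 0 - 1) * (G 0 0 - G 1 1)) ^ 2 := by
  rw [Matrix.det_fin_two] at hdet
  have hd : X 1 1 = 2 - X 0 0 := by linear_combination htr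
  rw [hd] at hdet
  have hrel : (X 0 0 - 1) ^ 2 + X 0 1 * X 1 0 = 0 := by linear_combination -hdet
  rw [Matrix.trace_fin_two, Matrix.det_fin_two]
  simp only [Matrix.mul_apply, Fin.sum_univ_two, Matrix.adjugate_fin_two, Matrix.of_apply,
    Matrix.cons_val', Matrix.cons_val_zero, Matrix.cons_val_one, Matrix.empty_val',
    Matrix.cons_val_fin_one, Matrix.head_cons, Matrix.head_fin_const]
  rw [hd]
  linear_combination (G 0 0 ^ 2 + G 1 1 ^ 2 + 2 * G 0 1 * G 1 0) * hrel

/-- If the product of a unipotent `X` with a conjugate of it has trace `2`, then the conjugating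
matrix preserves the fixed line of `X`. -/
theorem eq_zero_of_trace_eq_two (X G G' : Matrix (Fin 2) (Fin 2) F) (hGG' : G * G' = 1)
    (htr : X 0 0 + X 1 1 = 2) (hdet : X.det = 1)
    (h : (X * (G * X * G')).trace = 2) :
    X 0 1 * G 1 0 + X 1 0 * G 0 1 + (X 0 0 - 1) * (G 0 0 - G 1 1) = 0 := by
  have hadj : G.adjugate = G.det • G' := by
    calc G.adjugate = G.adjugate * (G * G') := by rw [hGG', mul_one]
      _ = (G.adjugate * G) * G' := by rw [mul_assoc]
      _ = G.det • G' := by rw [Matrix.adjugate_mul, Matrix.smul_mul, one_mul]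
  have hdetG : G.det ≠ 0 := by
    intro h0
    have := congrArg Matrix.det hGG'
    rw [Matrix.det_mul, h0, zero_mul, Matrix.det_one] at this
    exact zero_ne_one this
  have h1 := trace_conj_adjugate X G htr hdet
  rw [hadj, Matrix.mul_smul, Matrix.mul_smul, Matrix.trace_smul, h, smul_eq_mul] at h1
  have h2 : (X 0 1 * G 1 0 + X 1 0 * G 0 1 + (X 0 0 - 1) * (G 0 0 - G 1 1)) ^ 2 = 0 := by
    linear_combination h1
  exact pow_eq_zero_iff (by norm_num) |>.mp h2

/-- A vector with vanishing determinant against a nonzero `u` lies in the span of `u`. -/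
theorem mem_span_of_det_eq_zero (u w : Fin 2 → F) (hu : u ≠ 0)
    (h : u 0 * w 1 - u 1 * w 0 = 0) : w ∈ Submodule.span F {u} := by
  rw [Submodule.mem_span_singleton]
  by_cases h0 : u 0 = 0
  · have h1 : u 1 ≠ 0 := by
      intro h1
      apply hu
      funext i
      fin_cases i
      · exact h0
      · exact h1
    refine ⟨w 1 / u 1, ?_⟩
    funext i
    fin_cases i
    · show w 1 / u 1 * u 0 = w 0
      rw [h0] at h ⊢
      have : u 1 * w 0 = 0 := by linear_combination -h
      rcases mul_eq_zero.mp this with h2 | h2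
      · exact absurd h2 h1
      · rw [h2, mul_zero]
    · show w 1 / u 1 * u 1 = w 1
      field_simp
  · refine ⟨w 0 / u 0, ?_⟩
    funext i
    fin_cases i
    · show w 0 / u 0 * u 0 = w 0
      field_simp
    · show w 0 / u 0 * u 1 = w 1
      field_simp
      linear_combination -h

end Cfsg.Agent.helper25.GL2Irr
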