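import Cfsg.Statements.S1463
import Mathlib
import Cfsg.Agent.Lib_helper25_GL2Irr
import Cfsg.Agent.Lib_helper4_DkH

set_option autoImplicit false
open Cfsg

namespace Cfsg.Agent.S1463

open Cfsg.Agent.helper4.Dk Matrix Cfsg.Agent.helper25.GL2Irr

/-- Let F be a field of odd characteristic p and H a finite subgroup of odd order of GL(2, F) that leaves no 1-dimensional subspace of F² invariant. Then p does not divide the order of H. -/
theorem result {F : Type*} [Field F] (p : ℕ) [Fact p.Prime] [CharP F p] (hp : p ≠ 2)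
    (H : Subgroup (GL (Fin 2) F)) [Finite H] (hodd : Odd (Nat.card H))
    (hirr : ∀ v : Fin 2 → F, v ≠ 0 → ∃ g ∈ H, (g : Matrix (Fin 2) (Fin 2) F).mulVec v ∉ Submodule.span F {v}) :
    ¬ p ∣ Nat.card H := by
  intro hdvd
  have hpp : p.Prime := Fact.out
  haveI : CharP (AlgebraicClosure F) p :=
    charP_of_injective_algebraMap (algebraMap F (AlgebraicClosure F)).injective p
  have h2K : (2 : AlgebraicClosure F) ≠ 0 := by
    intro h
    have h' : ((2 : ℕ) : AlgebraicClosure F) = 0 := by exact_mod_cast h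
    rw [CharP.cast_eq_zero_iff (AlgebraicClosure F) p 2] at h'
    exact hp ((Nat.prime_dvd_prime_iff_eq hpp Nat.prime_two).mp h')
  set ι : SpecialLinearGroup (Fin 2) F →* SpecialLinearGroup (Fin 2) (AlgebraicClosure F) :=
    Matrix.SpecialLinearGroup.map (algebraMap F (AlgebraicClosure F)) with hι
  have hι_apply : ∀ (y : SpecialLinearGroup (Fin 2) F) (i j : Fin 2),
      (ι y) i j = algebraMap F (AlgebraicClosure F) (y i j) := by
    intro y i j
    simp [hι, Matrix.map_apply]
  have hιinj : Function.Injective ι := by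
    intro y z hyz
    apply Subtype.ext
    ext i j
    apply (algebraMap F (AlgebraicClosure F)).injective
    rw [← hι_apply, ← hι_apply, hyz]
  -- an element of order p
  obtain ⟨x, hx⟩ := exists_prime_orderOf_dvd_card' p hdvd
  set X : Matrix (Fin 2) (Fin 2) F := ((x : GL (Fin 2) F) : Matrix (Fin 2) (Fin 2) F) with hXdef
  have hxp : (x : GL (Fin 2) F) ^ p = 1 := by
    have : x ^ p = 1 := by rw [← hx]; exact pow_orderOf_eq_one x
    have := congrArg (fun y : H => (y : GL (Fin 2) F)) this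
    simpa using this
  have hXp : X ^ p = 1 := by
    have := congrArg (fun y : GL (Fin 2) F => (y : Matrix (Fin 2) (Fin 2) F)) hxp
    simpa using this
  have hdetX : X.det = 1 := by
    have h1 : X.det ^ p = 1 := by rw [← Matrix.det_pow, hXp, Matrix.det_one]
    have h3 : (X.det - 1) ^ p = 0 := by rw [sub_pow_char, h1, one_pow, sub_self]
    exact sub_eq_zero.mp (pow_eq_zero_iff hpp.ne_zero |>.mp h3)
  set xs : SpecialLinearGroup (Fin 2) F := ⟨X, hdetX⟩ with hxs
  have htoGL : SpecialLinearGroup.toGL xs = (x : GL (Fin 2) F) := Units.ext rfl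
  have hxsp : xs ^ p = 1 := by
    apply SpecialLinearGroup.toGL_injective
    rw [map_pow, htoGL, hxp, map_one]
  have htrK : tr (ι xs) = 2 :=
    tr_eq_two_of_pow h2K (ι xs) 1 (by rw [pow_one, ← map_pow, hxsp, map_one])
  have htrX : X 0 0 + X 1 1 = 2 := by
    unfold tr at htrK
    rw [hι_apply, hι_apply] at htrK
    apply (algebraMap F (AlgebraicClosure F)).injective
    rw [map_add, map_ofNat]
    exact htrK
  have hX1 : X ≠ 1 := by
    intro h
    have : x = 1 := Subtype.ext (Units.ext h)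
    rw [this, orderOf_one] at hx
    exact hpp.one_lt.ne hx
  have hrel : (X 0 0 - 1) ^ 2 + X 0 1 * X 1 0 = 0 := by
    have hd := hdetX
    rw [Matrix.det_fin_two] at hd
    have hd' : X 1 1 = 2 - X 0 0 := by linear_combination htrX
    rw [hd'] at hd
    linear_combination -hd
  have hcol : (X 0 0 - 1 ≠ 0 ∨ X 1 0 ≠ 0) ∨ X 0 1 ≠ 0 := by
    by_contra hcon
    push Not at hcon
    obtain ⟨⟨h00, h10⟩, h01⟩ := hcon
    apply hX1
    have h00' : X 0 0 = 1 := sub_eq_zero.mp h00
    have h11' : X 1 1 = 1 := by linear_combination htrX - h00'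
    ext i j
    fin_cases i <;> fin_cases j
    · simpa using h00'
    · simpa using h01
    · simpa using h10
    · simpa using h11'
  -- an element of H moving the fixed line
  have hE : ∃ g ∈ H, X 0 1 * (g : Matrix (Fin 2) (Fin 2) F) 1 0
      + X 1 0 * (g : Matrix (Fin 2) (Fin 2) F) 0 1
      + (X 0 0 - 1) * ((g : Matrix (Fin 2) (Fin 2) F) 0 0 - (g : Matrix (Fin 2) (Fin 2) F) 1 1) ≠ 0 := by
    rcases hcol with h | h
    · have hu : (![X 0 0 - 1, X 1 0] : Fin 2 → F) ≠ 0 := by
        intro h0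
        have e0 := congrFun h0 0
        have e1 := congrFun h0 1
        simp only [Matrix.cons_val_zero, Matrix.cons_val_one, Pi.zero_apply] at e0 e1
        rcases h with h | h
        · exact h e0
        · exact h e1
      obtain ⟨g, hg, hgu⟩ := hirr _ hu
      refine ⟨g, hg, fun hE0 => hgu ?_⟩
      apply mem_span_of_det_eq_zero _ _ hu
      simp only [Matrix.mulVec, dotProduct, Fin.sum_univ_two, Matrix.cons_val_zero,
        Matrix.cons_val_one]
      linear_combination (-(X 1 0)) * hE0 + ((g : Matrix (Fin 2) (Fin 2) F) 1 0) * hrel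
    · have hu : (![X 0 1, 1 - X 0 0] : Fin 2 → F) ≠ 0 := by
        intro h0
        have e0 := congrFun h0 0
        simp only [Matrix.cons_val_zero, Pi.zero_apply] at e0
        exact h e0
      obtain ⟨g, hg, hgu⟩ := hirr _ hu
      refine ⟨g, hg, fun hE0 => hgu ?_⟩
      apply mem_span_of_det_eq_zero _ _ hu
      simp only [Matrix.mulVec, dotProduct, Fin.sum_univ_two, Matrix.cons_val_zero,
        Matrix.cons_val_one]
      linear_combination (X 0 1) * hE0 - ((g : Matrix (Fin 2) (Fin 2) F) 0 1) * hrel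
  obtain ⟨g, hg, hE⟩ := hE
  set G : Matrix (Fin 2) (Fin 2) F := (g : Matrix (Fin 2) (Fin 2) F) with hGdef
  set G' : Matrix (Fin 2) (Fin 2) F := ((g⁻¹ : GL (Fin 2) F) : Matrix (Fin 2) (Fin 2) F) with hG'def
  have hGG' : G * G' = 1 := by
    rw [hGdef, hG'def, ← Units.val_mul, mul_inv_cancel]; rfl
  have hdetX' : (G * X * G').det = 1 := by
    rw [Matrix.det_mul, Matrix.det_mul, hdetX, mul_one, ← Matrix.det_mul, hGG', Matrix.det_one]
  set xs' : SpecialLinearGroup (Fin 2) F := ⟨G * X * G', hdetX'⟩ with hxs'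
  have htoGL' : SpecialLinearGroup.toGL xs' = g * (x : GL (Fin 2) F) * g⁻¹ := Units.ext rfl
  have hxs'p : xs' ^ p = 1 := by
    apply SpecialLinearGroup.toGL_injective
    rw [map_pow, htoGL', conj_pow, hxp, map_one]; group
  -- the subgroups
  set H1 : Subgroup (SpecialLinearGroup (Fin 2) F) := H.comap SpecialLinearGroup.toGL with hH1
  have hxs_mem : xs ∈ H1 := by
    rw [hH1, Subgroup.mem_comap, htoGL]; exact x.2
  have hxs'_mem : xs' ∈ H1 := by
    rw [hH1, Subgroup.mem_comap, htoGL']
    exact H.mul_mem (H.mul_mem hg x.2) (H.inv_mem hg)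
  haveI : Finite H1 :=
    Finite.of_injective (fun y : H1 => (⟨SpecialLinearGroup.toGL (y : SpecialLinearGroup (Fin 2) F),
      y.2⟩ : H)) (by
        intro y z hyz
        apply Subtype.ext
        apply SpecialLinearGroup.toGL_injective
        exact congrArg Subtype.val hyz)
  set H' : Subgroup (SpecialLinearGroup (Fin 2) (AlgebraicClosure F)) := H1.map ι with hH'
  haveI : Finite H' := by
    rw [hH']
    exact Finite.of_surjective (fun h : H1 => (⟨ι h, Subgroup.mem_map_of_mem ι h.2⟩ : H1.map ι))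
      (by rintro ⟨_, ⟨h, hh, rfl⟩⟩; exact ⟨⟨h, hh⟩, rfl⟩)
  have hX : ι xs ∈ H' := Subgroup.mem_map_of_mem ι hxs_mem
  have hX' : ι xs' ∈ H' := Subgroup.mem_map_of_mem ι hxs'_mem
  have hXp1 : ι xs ^ p ^ 1 = 1 := by rw [pow_one, ← map_pow, hxsp, map_one]
  have hXp1' : ι xs' ^ p ^ 1 = 1 := by rw [pow_one, ← map_pow, hxs'p, map_one]
  have hnp : ¬ IsPGroup p (Subgroup.closure ({ι xs, ι xs'} :
      Set (SpecialLinearGroup (Fin 2) (AlgebraicClosure F)))) := by
    intro hP
    have hmem : ι xs * ι xs' ∈ Subgroup.closure ({ι xs, ι xs'} :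
        Set (SpecialLinearGroup (Fin 2) (AlgebraicClosure F))) :=
      mul_mem (Subgroup.subset_closure (by simp)) (Subgroup.subset_closure (by simp))
    obtain ⟨k, hk⟩ := hP ⟨_, hmem⟩
    have hk' : (ι xs * ι xs') ^ p ^ k = 1 := by
      have := congrArg Subtype.val hk
      simpa using this
    have htr2 := tr_eq_two_of_pow h2K _ k hk'
    have htrXX' : (X * (G * X * G')).trace = 2 := by
      apply (algebraMap F (AlgebraicClosure F)).injective
      rw [map_ofNat, ← htr2]
      unfold tr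
      rw [← map_mul, hι_apply, hι_apply, Matrix.trace_fin_two, map_add]
      rfl
    exact hE (eq_zero_of_trace_eq_two X G G' hGG' htrX hdetX htrXX')
  obtain ⟨f, hf, hfr⟩ := exists_sl2p_of_not_pgroup hp H' hX hX' hXp1 hXp1' hnp
  -- an involution in H
  have hneg : (-1 : SpecialLinearGroup (Fin 2) (ZMod p)) * (-1) = 1 := by
    apply Subtype.ext
    simp
  have hneg1 : (-1 : SpecialLinearGroup (Fin 2) (ZMod p)) ≠ 1 := by
    intro h
    have h00 : (-1 : ZMod p) = 1 := by
      have := congrArg (fun y : SpecialLinearGroup (Fin 2) (ZMod p) =>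
        (y : Matrix (Fin 2) (Fin 2) (ZMod p)) 0 0) h
      simpa using this
    have h2 : ((2 : ℕ) : ZMod p) = 0 := by
      have : (2 : ZMod p) = 0 := by linear_combination -h00
      exact_mod_cast this
    rw [ZMod.natCast_eq_zero_iff] at h2
    exact hp ((Nat.prime_dvd_prime_iff_eq hpp Nat.prime_two).mp h2)
  have hz2 : f (-1) * f (-1) = 1 := by rw [← map_mul, hneg, map_one]
  have hz1 : f (-1) ≠ 1 := fun h => hneg1 (hf (h.trans (map_one f).symm))
  obtain ⟨h1, hh1, hh1z⟩ := hfr ⟨-1, rfl⟩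
  have h1sq : h1 * h1 = 1 := hιinj (by rw [map_mul, hh1z, hz2, map_one])
  have h1ne : h1 ≠ 1 := fun h => hz1 (by rw [← hh1z, h, map_one])
  have hy2 : (⟨SpecialLinearGroup.toGL h1, hh1⟩ : H) ^ 2 = 1 := by
    apply Subtype.ext
    rw [Subgroup.coe_pow, Subgroup.coe_one]
    show SpecialLinearGroup.toGL h1 ^ 2 = 1
    rw [pow_two, ← map_mul, h1sq, map_one]
  have hy1 : (⟨SpecialLinearGroup.toGL h1, hh1⟩ : H) ≠ 1 := by
    intro h
    apply h1ne
    apply SpecialLinearGroup.toGL_injective
    rw [map_one]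
    exact congrArg Subtype.val h
  have hord : orderOf (⟨SpecialLinearGroup.toGL h1, hh1⟩ : H) = 2 := orderOf_eq_prime hy2 hy1
  have h2dvd : 2 ∣ Nat.card H := by
    have := orderOf_dvd_natCard (⟨SpecialLinearGroup.toGL h1, hh1⟩ : H)
    rwa [hord] at this
  exact (Nat.not_even_iff_odd.mpr hodd) (even_iff_two_dvd.mpr h2dvd)

end Cfsg.Agent.S1463
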