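import Mathlib
import Cfsg.Agent.S1463

/-!
Finite solvable subgroups of odd order of `GL₂(F)` (odd characteristic `p`): the derived subgroup is
a `p`-group.
-/

set_option autoImplicit false
set_option linter.style.haveILetI false

namespace Cfsg.Agent.helper23.GL2
open Matrix
open scoped commutatorElement

variable {F : Type*} [Field F]

omit [Field F] in
theorem ext2 {A B : Matrix (Fin 2) (Fin 2) F} (h00 : A 0 0 = B 0 0) (h01 : A 0 1 = B 0 1)
    (h10 : A 1 0 = B 1 0) (h11 : A 1 1 = B 1 1) : A = B := by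
  ext i j; fin_cases i <;> fin_cases j <;> assumption

theorem lin_apply (a b : F) (M : Matrix (Fin 2) (Fin 2) F) :
    (a • (1 : Matrix (Fin 2) (Fin 2) F) + b • M) 0 0 = a + b * M 0 0 ∧
    (a • (1 : Matrix (Fin 2) (Fin 2) F) + b • M) 0 1 = b * M 0 1 ∧
    (a • (1 : Matrix (Fin 2) (Fin 2) F) + b • M) 1 0 = b * M 1 0 ∧
    (a • (1 : Matrix (Fin 2) (Fin 2) F) + b • M) 1 1 = a + b * M 1 1 := by
  refine ⟨?_, ?_, ?_, ?_⟩ <;> simp

theorem comm_nonscalar (M X : Matrix (Fin 2) (Fin 2) F) (hM : M 0 1 ≠ 0 ∨ M 1 0 ≠ 0 ∨ M 0 0 ≠ M 1 1)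
    (hc : X * M = M * X) : ∃ a b : F, X = a • (1 : Matrix (Fin 2) (Fin 2) F) + b • M := by
  have h00 := congrFun (congrFun hc 0) 0
  have h01 := congrFun (congrFun hc 0) 1
  have h10 := congrFun (congrFun hc 1) 0
  have h11 := congrFun (congrFun hc 1) 1
  simp only [Matrix.mul_apply, Fin.sum_univ_two] at h00 h01 h10 h11
  by_cases h1 : M 0 1 = 0
  swap
  · have hb : X 0 1 / M 0 1 * M 0 1 = X 0 1 := div_mul_cancel₀ _ h1
    refine ⟨X 0 0 - X 0 1 / M 0 1 * M 0 0, X 0 1 / M 0 1, ?_⟩
    obtain ⟨e00, e01, e10, e11⟩ := lin_apply (X 0 0 - X 0 1 / M 0 1 * M 0 0) (X 0 1 / M 0 1) M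
    apply ext2
    · rw [e00]; ring
    · rw [e01, hb]
    · rw [e10]
      apply mul_left_cancel₀ h1
      linear_combination -h00 - M 1 0 * hb
    · rw [e11]
      apply mul_left_cancel₀ h1
      linear_combination -h01 + (M 0 0 - M 1 1) * hb
  by_cases h2 : M 1 0 = 0
  swap
  · have hb : X 1 0 / M 1 0 * M 1 0 = X 1 0 := div_mul_cancel₀ _ h2
    refine ⟨X 0 0 - X 1 0 / M 1 0 * M 0 0, X 1 0 / M 1 0, ?_⟩
    obtain ⟨e00, e01, e10, e11⟩ := lin_apply (X 0 0 - X 1 0 / M 1 0 * M 0 0) (X 1 0 / M 1 0) M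
    apply ext2
    · rw [e00]; ring
    · rw [e01]
      apply mul_left_cancel₀ h2
      linear_combination h00 - M 0 1 * hb
    · rw [e10, hb]
    · rw [e11]
      apply mul_left_cancel₀ h2
      linear_combination h10 + (M 0 0 - M 1 1) * hb
  have h : M 0 0 ≠ M 1 1 := by
    rcases hM with h | h | h
    · exact absurd h1 h
    · exact absurd h2 h
    · exact h
  have hd : M 0 0 - M 1 1 ≠ 0 := sub_ne_zero.2 h
  have hb : (X 0 0 - X 1 1) / (M 0 0 - M 1 1) * (M 0 0 - M 1 1) = X 0 0 - X 1 1 :=
    div_mul_cancel₀ _ hd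
  have hx01 : X 0 1 = 0 := by
    have : (M 0 0 - M 1 1) * X 0 1 = 0 := by linear_combination -h01 + X 0 0 * h1 - X 1 1 * h1
    rcases mul_eq_zero.1 this with h' | h'
    · exact absurd h' hd
    · exact h'
  have hx10 : X 1 0 = 0 := by
    have : (M 0 0 - M 1 1) * X 1 0 = 0 := by linear_combination h10 - X 1 1 * h2 + X 0 0 * h2
    rcases mul_eq_zero.1 this with h' | h'
    · exact absurd h' hd
    · exact h'
  refine ⟨X 0 0 - (X 0 0 - X 1 1) / (M 0 0 - M 1 1) * M 0 0,
    (X 0 0 - X 1 1) / (M 0 0 - M 1 1), ?_⟩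
  obtain ⟨e00, e01, e10, e11⟩ := lin_apply
    (X 0 0 - (X 0 0 - X 1 1) / (M 0 0 - M 1 1) * M 0 0) ((X 0 0 - X 1 1) / (M 0 0 - M 1 1)) M
  apply ext2
  · rw [e00]; ring
  · rw [e01, h1, hx01, mul_zero]
  · rw [e10, h2, hx10, mul_zero]
  · rw [e11]
    linear_combination hb

/-- Claim 2 -/
theorem conj_in_alg (h2 : (2 : F) ≠ 0) (M X : Matrix (Fin 2) (Fin 2) F) (a b : F)
    (hX : X = a • (1 : Matrix (Fin 2) (Fin 2) F) + b • M)
    (htr : X 0 0 + X 1 1 = M 0 0 + M 1 1)
    (hdet : X 0 0 * X 1 1 - X 0 1 * X 1 0 = M 0 0 * M 1 1 - M 0 1 * M 1 0) :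
    X = M ∨ X = (M 0 0 + M 1 1) • (1 : Matrix (Fin 2) (Fin 2) F) - M ∨
      (M 0 0 + M 1 1) ^ 2 = 4 * (M 0 0 * M 1 1 - M 0 1 * M 1 0) := by
  obtain ⟨e00, e01, e10, e11⟩ := lin_apply a b M
  rw [← hX] at e00 e01 e10 e11
  rw [e00, e11] at htr
  rw [e00, e01, e10, e11] at hdet
  have hkey : (1 - b) * (1 + b) * ((M 0 0 + M 1 1) ^ 2 - 4 * (M 0 0 * M 1 1 - M 0 1 * M 1 0)) = 0 := by
    have ha : 2 * a = (M 0 0 + M 1 1) * (1 - b) := by linear_combination htr
    linear_combination (4 : F) * hdet - (2 * a + (M 0 0 + M 1 1) * (1 - b) + 2 * b * (M 0 0 + M 1 1)) * ha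
  rcases mul_eq_zero.1 hkey with h | h
  · rcases mul_eq_zero.1 h with h' | h'
    · -- b = 1
      left
      have hb : b = 1 := by linear_combination -h'
      have ha : a = 0 := by
        have : 2 * a = 0 := by rw [hb] at htr; linear_combination htr
        rcases mul_eq_zero.1 this with h'' | h''
        · exact absurd h'' h2
        · exact h''
      rw [hX, ha, hb, zero_smul, zero_add, one_smul]
    · right; left
      have hb : b = -1 := by linear_combination h'
      have ha : a = M 0 0 + M 1 1 := by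
        have : 2 * (a - (M 0 0 + M 1 1)) = 0 := by rw [hb] at htr; linear_combination htr
        rcases mul_eq_zero.1 this with h'' | h''
        · exact absurd h'' h2
        · exact sub_eq_zero.1 h''
      rw [hX, ha, hb, neg_one_smul, sub_eq_add_neg]
  · right; right
    exact sub_eq_zero.1 h

/-- Claim 3 -/
theorem scalar_of_disc_zero (h2 : (2 : F) ≠ 0) (M : Matrix (Fin 2) (Fin 2) F)
    (hdisc : (M 0 0 + M 1 1) ^ 2 = 4 * (M 0 0 * M 1 1 - M 0 1 * M 1 0))
    (k : ℕ) (hk : (k : F) ≠ 0) (hMk : M ^ k = 1) :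
    M 0 1 = 0 ∧ M 1 0 = 0 ∧ M 0 0 = M 1 1 := by
  obtain ⟨l, hl2⟩ : ∃ l : F, 2 * l = M 0 0 + M 1 1 := ⟨(M 0 0 + M 1 1) / 2, by field_simp⟩
  obtain ⟨ν, hν⟩ : ∃ ν : Matrix (Fin 2) (Fin 2) F, ν = M - l • (1 : Matrix (Fin 2) (Fin 2) F) :=
    ⟨_, rfl⟩
  have hM : M = l • (1 : Matrix (Fin 2) (Fin 2) F) + ν := by rw [hν]; abel
  have hνν : ν * ν = 0 := by
    have n00 : ν 0 0 = M 0 0 - l := by simp [hν]
    have n01 : ν 0 1 = M 0 1 := by simp [hν]
    have n10 : ν 1 0 = M 1 0 := by simp [hν]
    have n11 : ν 1 1 = M 1 1 - l := by simp [hν]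
    have h4 : (4 : F) ≠ 0 := by
      have : (4 : F) = 2 * 2 := by norm_num
      rw [this]; exact mul_ne_zero h2 h2
    apply ext2
    · simp only [Matrix.mul_apply, Fin.sum_univ_two, Matrix.zero_apply]
      rw [n00, n01, n10]
      apply mul_left_cancel₀ h4
      linear_combination hdisc - (3 * M 0 0 - M 1 1 - 2 * l) * hl2
    · simp only [Matrix.mul_apply, Fin.sum_univ_two, Matrix.zero_apply]
      rw [n00, n01, n11]
      linear_combination (-M 0 1) * hl2
    · simp only [Matrix.mul_apply, Fin.sum_univ_two, Matrix.zero_apply]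
      rw [n00, n10, n11]
      linear_combination (-M 1 0) * hl2
    · simp only [Matrix.mul_apply, Fin.sum_univ_two, Matrix.zero_apply]
      rw [n11, n01, n10]
      apply mul_left_cancel₀ h4
      linear_combination hdisc - (3 * M 1 1 - M 0 0 - 2 * l) * hl2
  have hpow : ∀ j : ℕ, ∃ c : F, M ^ j = (l ^ j) • (1 : Matrix (Fin 2) (Fin 2) F) + c • ν ∧
      c * l = j * l ^ j := by
    intro j
    induction j with
    | zero => exact ⟨0, by simp, by simp⟩
    | succ j ih =>
      obtain ⟨c, hc1, hc2⟩ := ih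
      refine ⟨l ^ j + c * l, ?_, ?_⟩
      · rw [pow_succ, hc1]
        rw [hM]
        rw [add_mul, mul_add, mul_add]
        simp only [smul_mul_assoc, mul_smul_comm, one_mul, mul_one, smul_smul, hνν, smul_zero,
          add_zero]
        rw [pow_succ]
        module
      · rw [add_mul, hc2, pow_succ]
        push_cast
        ring
  obtain ⟨c, hc1, hc2⟩ := hpow k
  rw [hMk] at hc1
  -- multiply by ν
  have h3 : ν = (l ^ k) • ν := by
    have := congrArg (fun Y => Y * ν) hc1
    simp only [one_mul, add_mul, smul_mul_assoc, hνν, smul_zero, add_zero] at this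
    exact this
  have hν0 : ν = 0 := by
    by_contra hne
    have hlk : l ^ k = 1 := by
      by_contra hlk
      apply hne
      have h4 : (1 - l ^ k) • ν = 0 := by
        rw [sub_smul, one_smul, ← h3, sub_self]
      rcases smul_eq_zero.1 h4 with h5 | h5
      · exact absurd (sub_eq_zero.1 h5).symm hlk
      · exact h5
    rw [hlk, one_smul] at hc1
    have h6 : c • ν = 0 := by
      have : (1 : Matrix (Fin 2) (Fin 2) F) = 1 + c • ν := hc1
      have h7 := congrArg (fun Y => Y - 1) this
      simp only [sub_self, add_sub_cancel_left] at h7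
      exact h7.symm
    rcases smul_eq_zero.1 h6 with h5 | h5
    · rw [h5, zero_mul, hlk, mul_one] at hc2
      exact hk hc2.symm
    · exact hne h5
  have e00 : ν 0 0 = 0 := by rw [hν0]; rfl
  have e01 : ν 0 1 = 0 := by rw [hν0]; rfl
  have e10 : ν 1 0 = 0 := by rw [hν0]; rfl
  have e11 : ν 1 1 = 0 := by rw [hν0]; rfl
  have n00 : ν 0 0 = M 0 0 - l := by simp [hν]
  have n01 : ν 0 1 = M 0 1 := by simp [hν]
  have n10 : ν 1 0 = M 1 0 := by simp [hν]
  have n11 : ν 1 1 = M 1 1 - l := by simp [hν]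
  refine ⟨n01 ▸ e01, n10 ▸ e10, ?_⟩
  rw [n00] at e00
  rw [n11] at e11
  linear_combination e00 - e11

/-- a matrix fixing a nonzero vector with determinant one is unipotent -/
theorem unipotent_sq (C : Matrix (Fin 2) (Fin 2) F) (v : Fin 2 → F) (hv : v ≠ 0)
    (hCv : C.mulVec v = v) (hdet : C.det = 1) :
    (C - 1) * (C - 1) = 0 := by
  have h0 : (C - 1).det = 0 := by
    rw [← Matrix.exists_mulVec_eq_zero_iff]
    refine ⟨v, hv, ?_⟩
    rw [Matrix.sub_mulVec, hCv, Matrix.one_mulVec, sub_self]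
  rw [Matrix.det_fin_two] at h0 hdet
  have n00 : (C - 1) 0 0 = C 0 0 - 1 := by simp
  have n01 : (C - 1) 0 1 = C 0 1 := by simp
  have n10 : (C - 1) 1 0 = C 1 0 := by simp
  have n11 : (C - 1) 1 1 = C 1 1 - 1 := by simp
  rw [n00, n01, n10, n11] at h0
  have htr : C 0 0 + C 1 1 = 2 := by linear_combination hdet - h0
  apply ext2
  · simp only [Matrix.mul_apply, Fin.sum_univ_two, Matrix.zero_apply]
    rw [n00, n01, n10]
    linear_combination (C 0 0 - 1) * htr - h0
  · simp only [Matrix.mul_apply, Fin.sum_univ_two, Matrix.zero_apply]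
    rw [n00, n01, n11]
    linear_combination (C 0 1) * htr
  · simp only [Matrix.mul_apply, Fin.sum_univ_two, Matrix.zero_apply]
    rw [n00, n10, n11]
    linear_combination (C 1 0) * htr
  · simp only [Matrix.mul_apply, Fin.sum_univ_two, Matrix.zero_apply]
    rw [n11, n01, n10]
    linear_combination (C 1 1 - 1) * htr - h0

theorem unipotent_pow (p : ℕ) [hp : Fact p.Prime] [CharP F p] (C : Matrix (Fin 2) (Fin 2) F)
    (h : (C - 1) * (C - 1) = 0) : C ^ p = 1 := by
  have h1 : C = (C - 1) + 1 := by abel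
  have h2 : (C - 1) ^ p = 0 := by
    have : p = 2 + (p - 2) := by have := hp.out.two_le; omega
    rw [this, pow_add, pow_two, h, zero_mul]
  rw [h1, add_pow_char_of_commute p (Commute.one_right _), h2, one_pow, zero_add]

/-- matrices fixing `v` of determinant one -/
def fixDet (v : Fin 2 → F) : Subgroup (GL (Fin 2) F) where
  carrier := {g | (g : Matrix (Fin 2) (Fin 2) F).mulVec v = v ∧
    (g : Matrix (Fin 2) (Fin 2) F).det = 1}
  one_mem' := by
    constructor
    · rw [Units.val_one, Matrix.one_mulVec]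
    · rw [Units.val_one, Matrix.det_one]
  mul_mem' := by
    rintro a b ⟨ha1, ha2⟩ ⟨hb1, hb2⟩
    refine ⟨?_, ?_⟩
    · rw [Units.val_mul, ← Matrix.mulVec_mulVec, hb1, ha1]
    · rw [Units.val_mul, Matrix.det_mul, ha2, hb2, one_mul]
  inv_mem' := by
    rintro a ⟨ha1, ha2⟩
    refine ⟨?_, ?_⟩
    · have h1 : (↑a⁻¹ : Matrix (Fin 2) (Fin 2) F).mulVec ((a : Matrix (Fin 2) (Fin 2) F).mulVec v) = v := by
        rw [Matrix.mulVec_mulVec, ← Units.val_mul, inv_mul_cancel, Units.val_one, Matrix.one_mulVec]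
      rw [ha1] at h1
      exact h1
    · have : (↑a⁻¹ : Matrix (Fin 2) (Fin 2) F).det * (a : Matrix (Fin 2) (Fin 2) F).det = 1 := by
        rw [← Matrix.det_mul, ← Units.val_mul, inv_mul_cancel, Units.val_one, Matrix.det_one]
      rw [ha2, mul_one] at this
      exact this

theorem mem_fixDet (v : Fin 2 → F) (g : GL (Fin 2) F) : g ∈ fixDet v ↔
    (g : Matrix (Fin 2) (Fin 2) F).mulVec v = v ∧ (g : Matrix (Fin 2) (Fin 2) F).det = 1 := Iff.rfl

theorem det_inv_mul (a : GL (Fin 2) F) :
    (a : Matrix (Fin 2) (Fin 2) F).det * (↑a⁻¹ : Matrix (Fin 2) (Fin 2) F).det = 1 := by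
  rw [← Matrix.det_mul, ← Units.val_mul, mul_inv_cancel, Units.val_one, Matrix.det_one]

theorem commutator_le_fixDet (H : Subgroup (GL (Fin 2) F)) (v : Fin 2 → F) (hv : v ≠ 0)
    (hinv : ∀ g ∈ H, (g : Matrix (Fin 2) (Fin 2) F).mulVec v ∈ Submodule.span F {v}) :
    ⁅H, H⁆ ≤ fixDet v := by
  have hev : ∀ g ∈ H, ∃ α α' : F, (g : Matrix (Fin 2) (Fin 2) F).mulVec v = α • v ∧
      (↑g⁻¹ : Matrix (Fin 2) (Fin 2) F).mulVec v = α' • v ∧ α' * α = 1 := by
    intro g hg
    obtain ⟨α, hα⟩ := Submodule.mem_span_singleton.1 (hinv g hg)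
    obtain ⟨α', hα'⟩ := Submodule.mem_span_singleton.1 (hinv g⁻¹ (H.inv_mem hg))
    refine ⟨α, α', hα.symm, hα'.symm, ?_⟩
    have h1 : (↑g⁻¹ : Matrix (Fin 2) (Fin 2) F).mulVec ((g : Matrix (Fin 2) (Fin 2) F).mulVec v) = v := by
      rw [Matrix.mulVec_mulVec, ← Units.val_mul, inv_mul_cancel, Units.val_one, Matrix.one_mulVec]
    rw [← hα, Matrix.mulVec_smul, ← hα', smul_smul] at h1
    have h2 : (α * α' - 1) • v = 0 := by rw [sub_smul, h1, one_smul, sub_self]
    rcases smul_eq_zero.1 h2 with h3 | h3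
    · rw [mul_comm]; exact sub_eq_zero.1 h3
    · exact absurd h3 hv
  rw [Subgroup.commutator_le]
  intro a ha b hb
  obtain ⟨α, α', ha1, ha2, ha3⟩ := hev a ha
  obtain ⟨β, β', hb1, hb2, hb3⟩ := hev b hb
  rw [mem_fixDet, commutatorElement_def]
  refine ⟨?_, ?_⟩
  · rw [Units.val_mul, Units.val_mul, Units.val_mul, ← Matrix.mulVec_mulVec, ← Matrix.mulVec_mulVec,
      ← Matrix.mulVec_mulVec]
    simp only [Matrix.mulVec_smul, ha1, ha2, hb1, hb2, smul_smul]
    have : β' * α' * β * α = 1 := by
      calc β' * α' * β * α = (β' * β) * (α' * α) := by ring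
        _ = 1 := by rw [ha3, hb3, one_mul]
    rw [this, one_smul]
  · rw [Units.val_mul, Units.val_mul, Units.val_mul, Matrix.det_mul, Matrix.det_mul, Matrix.det_mul]
    have h1 := det_inv_mul a
    have h2 := det_inv_mul b
    calc (a : Matrix (Fin 2) (Fin 2) F).det * (b : Matrix (Fin 2) (Fin 2) F).det *
          (↑a⁻¹ : Matrix (Fin 2) (Fin 2) F).det * (↑b⁻¹ : Matrix (Fin 2) (Fin 2) F).det
        = ((a : Matrix (Fin 2) (Fin 2) F).det * (↑a⁻¹ : Matrix (Fin 2) (Fin 2) F).det) *
          ((b : Matrix (Fin 2) (Fin 2) F).det * (↑b⁻¹ : Matrix (Fin 2) (Fin 2) F).det) := by ring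
      _ = 1 := by rw [h1, h2, one_mul]

theorem pow_eq_one_of_mem_fixDet (p : ℕ) [hp : Fact p.Prime] [CharP F p] (v : Fin 2 → F) (hv : v ≠ 0)
    (c : GL (Fin 2) F) (hc : c ∈ fixDet v) : c ^ p = 1 := by
  apply Units.ext
  rw [Units.val_pow_eq_pow_val, Units.val_one]
  exact unipotent_pow p _ (unipotent_sq _ v hv hc.1 hc.2)

theorem det_commutator (a b : GL (Fin 2) F) : ((⁅a, b⁆ : GL (Fin 2) F) : Matrix (Fin 2) (Fin 2) F).det = 1 := by
  rw [commutatorElement_def, Units.val_mul, Units.val_mul, Units.val_mul, Matrix.det_mul, Matrix.det_mul,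
    Matrix.det_mul]
  have h1 := det_inv_mul a
  have h2 := det_inv_mul b
  calc (a : Matrix (Fin 2) (Fin 2) F).det * (b : Matrix (Fin 2) (Fin 2) F).det *
        (↑a⁻¹ : Matrix (Fin 2) (Fin 2) F).det * (↑b⁻¹ : Matrix (Fin 2) (Fin 2) F).det
      = ((a : Matrix (Fin 2) (Fin 2) F).det * (↑a⁻¹ : Matrix (Fin 2) (Fin 2) F).det) *
        ((b : Matrix (Fin 2) (Fin 2) F).det * (↑b⁻¹ : Matrix (Fin 2) (Fin 2) F).det) := by ring
    _ = 1 := by rw [h1, h2, one_mul]

theorem conj_mem_commutator {G : Type*} [Group G] (H : Subgroup G) {g n : G} (hg : g ∈ H)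
    (hn : n ∈ ⁅H, H⁆) : g * n * g⁻¹ ∈ ⁅H, H⁆ := by
  have hnH : n ∈ H := Subgroup.commutator_le_self H hn
  have h1 : ⁅g, n⁆ ∈ ⁅H, H⁆ := Subgroup.commutator_mem_commutator hg hnH
  have h2 : g * n * g⁻¹ = ⁅g, n⁆ * n := by rw [commutatorElement_def]; group
  rw [h2]; exact Subgroup.mul_mem _ h1 hn

theorem abelian_aux (p : ℕ) [hp : Fact p.Prime] [CharP F p] (hp2 : p ≠ 2) :
    ∀ (n : ℕ) (H : Subgroup (GL (Fin 2) F)), Finite H → Nat.card H ≤ n → Odd (Nat.card H) →
      Group.IsSolvable H → ¬ p ∣ Nat.card H → ∀ a ∈ H, ∀ b ∈ H, a * b = b * a := by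
  intro n
  induction n with
  | zero =>
    intro H hfin hle
    haveI := hfin
    have := Nat.card_pos (α := H)
    omega
  | succ n ih =>
    intro H hfin hle hodd hsol hpn a ha b hb
    haveI := hfin
    haveI := hsol
    have h2F : (2 : F) ≠ 0 := by
      intro h
      have h' : ((2 : ℕ) : F) = 0 := by exact_mod_cast h
      rw [CharP.cast_eq_zero_iff F p 2] at h'
      exact hp2 ((Nat.prime_dvd_prime_iff_eq hp.out Nat.prime_two).mp h')
    have hNH : ⁅H, H⁆ ≤ H := Subgroup.commutator_le_self H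
    by_cases hperf : ⁅H, H⁆ = H
    · have hsub : Subsingleton H := by
        by_contra hns
        rw [not_subsingleton_iff_nontrivial] at hns
        haveI := hns
        have hlt := Group.IsSolvable.commutator_lt_top_of_nontrivial (G := H)
        have hmap : (commutator H).map H.subtype = ⁅H, H⁆ := Subgroup.map_subtype_commutator H
        rw [hperf] at hmap
        have : commutator H = ⊤ := by
          apply Subgroup.map_injective H.subtype_injective
          rw [hmap, ← MonoidHom.range_eq_map, Subgroup.range_subtype]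
        exact hlt.ne this
      have : (⟨a, ha⟩ : H) = ⟨b, hb⟩ := Subsingleton.elim _ _
      have hab : a = b := congrArg Subtype.val this
      rw [hab]
    · have hlt : Nat.card (⁅H, H⁆ : Subgroup (GL (Fin 2) F)) < Nat.card H := by
        by_contra hge
        push Not at hge
        exact hperf (Subgroup.eq_of_le_of_card_ge hNH hge)
      haveI : Finite (⁅H, H⁆ : Subgroup (GL (Fin 2) F)) :=
        Finite.of_injective _ (Subgroup.inclusion_injective hNH)
      have hNab := ih ⁅H, H⁆ inferInstance (by omega)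
        (hodd.of_dvd_nat (Subgroup.card_dvd_of_le hNH))
        (Group.isSolvable_of_isSolvable_injective (Subgroup.inclusion_injective hNH))
        (fun h => hpn (h.trans (Subgroup.card_dvd_of_le hNH)))
      have hk : ((Nat.card H : ℕ) : F) ≠ 0 := by
        rw [Ne, CharP.cast_eq_zero_iff F p]
        exact hpn
      have hpowk : ∀ g ∈ H, (g : Matrix (Fin 2) (Fin 2) F) ^ Nat.card H = 1 := by
        intro g hg
        have h1 : (⟨g, hg⟩ : H) ^ Nat.card H = 1 := pow_card_eq_one'
        have h2 : g ^ Nat.card H = 1 := by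
          have := congrArg (fun x : H => (x : GL (Fin 2) F)) h1
          exact this
        rw [← Units.val_pow_eq_pow_val, h2, Units.val_one]
      by_cases hsc : ∀ n ∈ ⁅H, H⁆, (n : Matrix (Fin 2) (Fin 2) F) 0 1 = 0 ∧
          (n : Matrix (Fin 2) (Fin 2) F) 1 0 = 0 ∧
          (n : Matrix (Fin 2) (Fin 2) F) 0 0 = (n : Matrix (Fin 2) (Fin 2) F) 1 1
      · -- all commutators scalar
        have hc : ⁅a, b⁆ ∈ ⁅H, H⁆ := Subgroup.commutator_mem_commutator ha hb
        obtain ⟨c01, c10, c00⟩ := hsc _ hc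
        have hdet := det_commutator a b
        rw [Matrix.det_fin_two, c01, c10, ← c00] at hdet
        have hfac : (((⁅a, b⁆ : GL (Fin 2) F) : Matrix (Fin 2) (Fin 2) F) 0 0 - 1) *
            (((⁅a, b⁆ : GL (Fin 2) F) : Matrix (Fin 2) (Fin 2) F) 0 0 + 1) = 0 := by
          linear_combination hdet
        rcases mul_eq_zero.1 hfac with h | h
        · have h00 : ((⁅a, b⁆ : GL (Fin 2) F) : Matrix (Fin 2) (Fin 2) F) 0 0 = 1 := sub_eq_zero.1 h
          have hone : ⁅a, b⁆ = 1 := by
            apply Units.ext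
            rw [Units.val_one]
            apply ext2
            · rw [h00]; rfl
            · rw [c01]; rfl
            · rw [c10]; rfl
            · rw [← c00, h00]; rfl
          exact (commutatorElement_eq_one_iff_commute.1 hone).eq
        · exfalso
          have h00 : ((⁅a, b⁆ : GL (Fin 2) F) : Matrix (Fin 2) (Fin 2) F) 0 0 = -1 := by
            linear_combination h
          have hsq : ⁅a, b⁆ ^ 2 = 1 := by
            apply Units.ext
            rw [Units.val_pow_eq_pow_val, Units.val_one, pow_two]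
            apply ext2
            · simp only [Matrix.mul_apply, Fin.sum_univ_two]
              rw [c01, h00]; simp
            · simp only [Matrix.mul_apply, Fin.sum_univ_two]
              rw [c01]; simp
            · simp only [Matrix.mul_apply, Fin.sum_univ_two]
              rw [c10]; simp
            · simp only [Matrix.mul_apply, Fin.sum_univ_two]
              rw [c10, ← c00, h00]; simp
          have hne : ⁅a, b⁆ ≠ 1 := by
            intro h1
            rw [h1, Units.val_one, Matrix.one_apply_eq] at h00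
            apply h2F
            linear_combination h00
          have hord : orderOf ⁅a, b⁆ = 2 := orderOf_eq_prime hsq hne
          have hdvd : orderOf (⟨⁅a, b⁆, hNH hc⟩ : H) ∣ Nat.card H := orderOf_dvd_natCard _
          rw [Subgroup.orderOf_mk, hord] at hdvd
          exact (Nat.not_even_iff_odd.2 hodd) (even_iff_two_dvd.2 hdvd)
      · push Not at hsc
        obtain ⟨n, hn, hns⟩ := hsc
        obtain ⟨M, hMdef⟩ : ∃ M : Matrix (Fin 2) (Fin 2) F, M = (n : Matrix (Fin 2) (Fin 2) F) :=
          ⟨_, rfl⟩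
        have hM : M 0 1 ≠ 0 ∨ M 1 0 ≠ 0 ∨ M 0 0 ≠ M 1 1 := by
          by_contra hcon
          push Not at hcon
          rw [hMdef] at hcon
          exact absurd hcon.2.2 (hns hcon.1 hcon.2.1)
        have hdisc : (M 0 0 + M 1 1) ^ 2 ≠ 4 * (M 0 0 * M 1 1 - M 0 1 * M 1 0) := by
          intro h
          have h3 := scalar_of_disc_zero h2F M h (Nat.card H) hk
            (by rw [hMdef]; exact hpowk n (hNH hn))
          rw [hMdef] at h3
          exact absurd h3.2.2 (hns h3.1 h3.2.1)
        have hcomm : ∀ g ∈ H, g * n = n * g := by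
          intro g hg
          have hXN : g * n * g⁻¹ ∈ ⁅H, H⁆ := conj_mem_commutator H hg hn
          have hGGi : (g : Matrix (Fin 2) (Fin 2) F) * (↑g⁻¹ : Matrix (Fin 2) (Fin 2) F) = 1 := by
            rw [← Units.val_mul, mul_inv_cancel, Units.val_one]
          have hGiG : (↑g⁻¹ : Matrix (Fin 2) (Fin 2) F) * (g : Matrix (Fin 2) (Fin 2) F) = 1 := by
            rw [← Units.val_mul, inv_mul_cancel, Units.val_one]
          obtain ⟨X, hXdef⟩ : ∃ X : Matrix (Fin 2) (Fin 2) F,
              X = (g : Matrix (Fin 2) (Fin 2) F) * M * (↑g⁻¹ : Matrix (Fin 2) (Fin 2) F) := ⟨_, rfl⟩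
          have hXval : ((g * n * g⁻¹ : GL (Fin 2) F) : Matrix (Fin 2) (Fin 2) F) = X := by
            rw [Units.val_mul, Units.val_mul, hXdef, hMdef]
          have hXM : X * M = M * X := by
            have := hNab _ hXN n hn
            have h' := congrArg Units.val this
            rw [Units.val_mul (g * n * g⁻¹) n, Units.val_mul n (g * n * g⁻¹), hXval, ← hMdef] at h'
            exact h'
          have htr : X 0 0 + X 1 1 = M 0 0 + M 1 1 := by
            have := Matrix.trace_units_conj g M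
            rw [Matrix.trace_fin_two, Matrix.trace_fin_two, ← hXdef] at this
            exact this
          have hdet : X 0 0 * X 1 1 - X 0 1 * X 1 0 = M 0 0 * M 1 1 - M 0 1 * M 1 0 := by
            have := Matrix.det_units_conj g M
            rw [Matrix.det_fin_two, Matrix.det_fin_two, ← hXdef] at this
            exact this
          obtain ⟨a', b', hX⟩ := comm_nonscalar M X hM hXM
          rcases conj_in_alg h2F M X a' b' hX htr hdet with h | h | h
          · have h1 : g * n * g⁻¹ = n := by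
              apply Units.ext
              rw [hXval, h, hMdef]
            calc g * n = (g * n * g⁻¹) * g := by group
              _ = n * g := by rw [h1]
          · rw [hXdef] at h
            have h' : (g : Matrix (Fin 2) (Fin 2) F) * M =
                ((M 0 0 + M 1 1) • (1 : Matrix (Fin 2) (Fin 2) F) - M) * (g : Matrix (Fin 2) (Fin 2) F) := by
              calc (g : Matrix (Fin 2) (Fin 2) F) * M
                  = (g : Matrix (Fin 2) (Fin 2) F) * M * ((↑g⁻¹ : Matrix (Fin 2) (Fin 2) F) *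
                      (g : Matrix (Fin 2) (Fin 2) F)) := by rw [hGiG, mul_one]
                _ = ((g : Matrix (Fin 2) (Fin 2) F) * M * (↑g⁻¹ : Matrix (Fin 2) (Fin 2) F)) *
                      (g : Matrix (Fin 2) (Fin 2) F) := by simp only [mul_assoc]
                _ = _ := by rw [h]
            have hsq : (g * g) * n = n * (g * g) := by
              apply Units.ext
              rw [Units.val_mul, Units.val_mul, Units.val_mul, ← hMdef]
              calc (g : Matrix (Fin 2) (Fin 2) F) * (g : Matrix (Fin 2) (Fin 2) F) * M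
                  = (g : Matrix (Fin 2) (Fin 2) F) * ((g : Matrix (Fin 2) (Fin 2) F) * M) := mul_assoc _ _ _
                _ = (g : Matrix (Fin 2) (Fin 2) F) *
                    (((M 0 0 + M 1 1) • (1 : Matrix (Fin 2) (Fin 2) F) - M) *
                      (g : Matrix (Fin 2) (Fin 2) F)) := by rw [h']
                _ = ((M 0 0 + M 1 1) • (g : Matrix (Fin 2) (Fin 2) F) -
                      (g : Matrix (Fin 2) (Fin 2) F) * M) * (g : Matrix (Fin 2) (Fin 2) F) := by
                    rw [← mul_assoc, mul_sub, mul_smul_comm, mul_one]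
                _ = ((M 0 0 + M 1 1) • (g : Matrix (Fin 2) (Fin 2) F) -
                      ((M 0 0 + M 1 1) • (1 : Matrix (Fin 2) (Fin 2) F) - M) *
                        (g : Matrix (Fin 2) (Fin 2) F)) * (g : Matrix (Fin 2) (Fin 2) F) := by rw [h']
                _ = M * ((g : Matrix (Fin 2) (Fin 2) F) * (g : Matrix (Fin 2) (Fin 2) F)) := by
                    rw [sub_mul ((M 0 0 + M 1 1) • (1 : Matrix (Fin 2) (Fin 2) F)) M, smul_mul_assoc,
                      one_mul, sub_sub_cancel, mul_assoc]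
            have hodd_g : Odd (orderOf g) := by
              have hdvd : orderOf (⟨g, hg⟩ : H) ∣ Nat.card H := orderOf_dvd_natCard _
              rw [Subgroup.orderOf_mk] at hdvd
              exact hodd.of_dvd_nat hdvd
            obtain ⟨j, hj⟩ := hodd_g
            have hgpow : g = (g * g) ^ (j + 1) := by
              rw [← pow_two, ← pow_mul]
              have : 2 * (j + 1) = orderOf g + 1 := by omega
              rw [this, pow_succ, pow_orderOf_eq_one, one_mul]
            have hc : Commute (g * g) n := hsq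
            have hc' : Commute ((g * g) ^ (j + 1)) n := hc.pow_left (j + 1)
            rw [← hgpow] at hc'
            exact hc'.eq
          · exact absurd h hdisc
        have hA : (a : Matrix (Fin 2) (Fin 2) F) * M = M * (a : Matrix (Fin 2) (Fin 2) F) := by
          have := congrArg Units.val (hcomm a ha)
          rw [Units.val_mul, Units.val_mul, ← hMdef] at this
          exact this
        have hB : (b : Matrix (Fin 2) (Fin 2) F) * M = M * (b : Matrix (Fin 2) (Fin 2) F) := by
          have := congrArg Units.val (hcomm b hb)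
          rw [Units.val_mul, Units.val_mul, ← hMdef] at this
          exact this
        obtain ⟨α, β, hA'⟩ := comm_nonscalar M _ hM hA
        obtain ⟨α', β', hB'⟩ := comm_nonscalar M _ hM hB
        apply Units.ext
        rw [Units.val_mul, Units.val_mul, hA', hB']
        simp only [add_mul, mul_add, smul_mul_assoc, mul_smul_comm, one_mul, mul_one]
        module


/-- a finite solvable subgroup of odd order of `GL₂(F)`, `F` of odd characteristic `p`, has a
`p`-group as derived subgroup -/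
theorem commutator_isPGroup (p : ℕ) [hp : Fact p.Prime] [CharP F p] (hp2 : p ≠ 2)
    (H : Subgroup (GL (Fin 2) F)) [Finite H] (hodd : Odd (Nat.card H)) (hsol : Group.IsSolvable H) :
    IsPGroup p (⁅H, H⁆ : Subgroup (GL (Fin 2) F)) := by
  by_cases hirr : ∀ v : Fin 2 → F, v ≠ 0 →
      ∃ g ∈ H, (g : Matrix (Fin 2) (Fin 2) F).mulVec v ∉ Submodule.span F {v}
  · have hpn := Cfsg.Agent.S1463.result p hp2 H hodd hirr
    have hab := abelian_aux p hp2 (Nat.card H) H inferInstance le_rfl hodd hsol hpn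
    have : ⁅H, H⁆ = ⊥ := by
      rw [Subgroup.commutator_eq_bot_iff_le_centralizer]
      intro a ha
      rw [Subgroup.mem_centralizer_iff]
      intro b hb
      exact hab b hb a ha
    rw [this]
    exact IsPGroup.of_bot
  · push Not at hirr
    obtain ⟨v, hv, hinv⟩ := hirr
    have hle := commutator_le_fixDet H v hv hinv
    intro c
    refine ⟨1, ?_⟩
    apply Subtype.ext
    rw [pow_one, Subgroup.coe_pow, Subgroup.coe_one]
    exact pow_eq_one_of_mem_fixDet p v hv c (hle c.2)

end Cfsg.Agent.helper23.GL2
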