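import Mathlib
import Cfsg.Agent.Lib_helper11_SL2U

set_option autoImplicit false
set_option linter.style.haveILetI false

namespace Cfsg.Agent.h26EssP2

open Matrix

section Lin

variable (p : ℕ) {H : Type*} [CommGroup H] [Module (ZMod p) (Additive H)]

/-- an automorphism of `H` as a `ZMod p`-linear endomorphism of `Additive H`. -/
def linOf (α : MulAut H) : Additive H →ₗ[ZMod p] Additive H :=
  AddMonoidHom.toZModLinearMap p (MonoidHom.toAdditive α.toMonoidHom)

theorem linOf_apply (α : MulAut H) (x : Additive H) :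
    linOf p α x = Additive.ofMul (α (Additive.toMul x)) := rfl

theorem linOf_one : linOf p (1 : MulAut H) = LinearMap.id := by
  ext x; rfl

theorem linOf_mul (α β : MulAut H) : linOf p (α * β) = linOf p α ∘ₗ linOf p β := by
  ext x; rfl

theorem linOf_injective : Function.Injective (linOf p (H := H)) := by
  intro α β h
  ext x
  have := congrArg (fun g : Additive H →ₗ[ZMod p] Additive H => g (Additive.ofMul x)) h
  exact this

/-- the matrix of an automorphism in given coordinates. -/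
def matOf (κ : Additive H ≃ₗ[ZMod p] (Fin 2 → ZMod p)) :
    MulAut H →* Matrix (Fin 2) (Fin 2) (ZMod p) where
  toFun α := LinearMap.toMatrix' (κ.toLinearMap ∘ₗ linOf p α ∘ₗ κ.symm.toLinearMap)
  map_one' := by
    rw [linOf_one, ← LinearMap.toMatrix'_id]
    congr 1
    ext x i
    simp
  map_mul' := by
    intro α β
    rw [linOf_mul, ← LinearMap.toMatrix'_mul]
    congr 1
    ext x i
    simp

theorem matOf_injective (κ : Additive H ≃ₗ[ZMod p] (Fin 2 → ZMod p)) :
    Function.Injective (matOf p κ) := by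
  intro α β h
  have h2 : κ.toLinearMap ∘ₗ linOf p α ∘ₗ κ.symm.toLinearMap =
      κ.toLinearMap ∘ₗ linOf p β ∘ₗ κ.symm.toLinearMap :=
    LinearMap.toMatrix'.injective h
  apply linOf_injective p
  ext x
  have h3 := congrArg (fun g : (Fin 2 → ZMod p) →ₗ[ZMod p] (Fin 2 → ZMod p) => g (κ x)) h2
  simp only [LinearMap.comp_apply, LinearEquiv.coe_coe, LinearEquiv.symm_apply_apply] at h3
  exact κ.injective h3

end Lin

theorem exists_theta_comm {H : Type*} [CommGroup H] [Finite H] {p : ℕ} [hp : Fact p.Prime]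
    (hexp : ∀ a : H, a ^ p = 1) (hcard : Nat.card H = p ^ 2) :
    ∃ Θ : MulAut H →* GL (Fin 2) (ZMod p), Function.Injective Θ := by
  letI iM : Module (ZMod p) (Additive H) := AddCommGroup.zmodModule (n := p) (by
    intro x
    show Additive.ofMul ((Additive.toMul x) ^ p) = Additive.ofMul 1
    rw [hexp])
  haveI : Finite (Additive H) := inferInstanceAs (Finite H)
  haveI iF : Module.Finite (ZMod p) (Additive H) := Module.Finite.of_finite
  have hfin : Module.finrank (ZMod p) (Additive H) = 2 := by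
    have h1 := @Module.natCard_eq_pow_finrank (ZMod p) (Additive H) _ _ iM iF
    have h2 : Nat.card (Additive H) = p ^ 2 := hcard
    rw [h2, Nat.card_zmod] at h1
    exact (Nat.pow_right_injective hp.out.two_le h1).symm
  have hfin2 : Module.finrank (ZMod p) (Additive H) = Module.finrank (ZMod p) (Fin 2 → ZMod p) := by
    rw [hfin]; simp
  have κ : Additive H ≃ₗ[ZMod p] (Fin 2 → ZMod p) :=
    @LinearEquiv.ofFinrankEq (ZMod p) (Additive H) (Fin 2 → ZMod p) _ _ iM
      (@Module.Free.of_divisionRing (ZMod p) (Additive H) _ _ iM) _ _ _ _ iF _ hfin2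
  refine ⟨(matOf p κ).toHomUnits, ?_⟩
  intro α β hαβ
  apply matOf_injective p κ
  exact congrArg (fun u : GL (Fin 2) (ZMod p) => (u : Matrix (Fin 2) (Fin 2) (ZMod p))) hαβ

theorem exists_theta {H : Type*} [Group H] [Finite H] {p : ℕ} [hp : Fact p.Prime]
    (hc : ∀ a b : H, a * b = b * a) (hexp : ∀ a : H, a ^ p = 1) (hcard : Nat.card H = p ^ 2) :
    ∃ Θ : MulAut H →* GL (Fin 2) (ZMod p), Function.Injective Θ := by
  letI iC : CommGroup H := { (inferInstance : Group H) with mul_comm := hc }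
  exact exists_theta_comm hexp hcard


section GLPart

variable {p : ℕ} [hp : Fact p.Prime]

open Pointwise

/-- a `p`-subgroup of `GL₂(p)` lies in the image of `SL₂(p)`. -/
theorem pgroup_le_range_toGL (Q : Subgroup (GL (Fin 2) (ZMod p))) (hQ : IsPGroup p Q) :
    Q ≤ (SpecialLinearGroup.toGL : SpecialLinearGroup (Fin 2) (ZMod p) →* GL (Fin 2) (ZMod p)).range := by
  intro g hg
  obtain ⟨k, hk⟩ := hQ ⟨g, hg⟩
  have h1 : g ^ p ^ k = 1 := congrArg Subtype.val hk
  have h2 : (Matrix.GeneralLinearGroup.det g) ^ p ^ k = 1 := by rw [← map_pow, h1, map_one]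
  have h3 : orderOf (Matrix.GeneralLinearGroup.det g) ∣ p ^ k := orderOf_dvd_of_pow_eq_one h2
  have h4 : orderOf (Matrix.GeneralLinearGroup.det g) ∣ p - 1 := by
    rw [← ZMod.card_units p]
    exact orderOf_dvd_card
  have hcop : Nat.Coprime (p ^ k) (p - 1) := by
    apply Nat.Coprime.pow_left
    rw [Nat.coprime_comm]
    apply Nat.Coprime.symm
    apply (Nat.Prime.coprime_iff_not_dvd hp.out).mpr
    intro hdvd
    have hp2 := hp.out.two_le
    have := Nat.le_of_dvd (by omega) hdvd
    omega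
  have h5 : orderOf (Matrix.GeneralLinearGroup.det g) = 1 :=
    Nat.eq_one_of_dvd_coprimes hcop h3 h4
  have h6 : Matrix.GeneralLinearGroup.det g = 1 := orderOf_eq_one_iff.mp h5
  have h7 : (g : Matrix (Fin 2) (Fin 2) (ZMod p)).det = 1 := by
    have := congrArg Units.val h6
    rwa [Matrix.GeneralLinearGroup.val_det_apply] at this
  exact ⟨⟨(g : Matrix (Fin 2) (Fin 2) (ZMod p)), h7⟩, Units.ext rfl⟩

theorem card_sylow_sl2 (S : Sylow p (SpecialLinearGroup (Fin 2) (ZMod p))) : Nat.card S = p := by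
  have h1 := S.card_eq_multiplicity
  have h2 := (Cfsg.Agent.helper11.SL2U.USylow (F := ZMod p) p).card_eq_multiplicity
  rw [← h2] at h1
  rw [h1]
  have h3 : Nat.card (Cfsg.Agent.helper11.SL2U.USylow (F := ZMod p) p :
      Subgroup (SpecialLinearGroup (Fin 2) (ZMod p))) = Nat.card (Cfsg.Agent.helper11.SL2U.U (ZMod p)) := by
    rw [Cfsg.Agent.helper11.SL2U.coe_USylow]
  rw [h3, Cfsg.Agent.helper11.SL2U.card_U, ZMod.card]

/-- a nontrivial `p`-subgroup of `SL₂(p)` is a Sylow `p`-subgroup. -/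
theorem exists_sylow_eq (R : Subgroup (SpecialLinearGroup (Fin 2) (ZMod p))) (hR : IsPGroup p R)
    (hne : R ≠ ⊥) : ∃ S : Sylow p (SpecialLinearGroup (Fin 2) (ZMod p)),
      (S : Subgroup (SpecialLinearGroup (Fin 2) (ZMod p))) = R := by
  obtain ⟨S, hRS⟩ := hR.exists_le_sylow
  refine ⟨S, (Subgroup.eq_of_le_of_card_ge hRS ?_).symm⟩
  rw [card_sylow_sl2 S]
  have h1 : Nat.card R ∣ p := by
    have := Subgroup.card_dvd_of_le hRS
    rwa [card_sylow_sl2 S] at this
  rcases (Nat.dvd_prime hp.out).mp h1 with h | h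
  · exact absurd (Subgroup.card_eq_one.mp h) hne
  · exact h.ge

/-- a subgroup of `GL₂(p)` of order divisible by `p` without nontrivial normal `p`-subgroups
contains `SL₂(p)`. -/
theorem range_toGL_le (A' : Subgroup (GL (Fin 2) (ZMod p))) (hdvd : p ∣ Nat.card A')
    (hcore : ∀ N : Subgroup A', N.Normal → IsPGroup p N → N = ⊥) :
    (SpecialLinearGroup.toGL : SpecialLinearGroup (Fin 2) (ZMod p) →* GL (Fin 2) (ZMod p)).range ≤ A' := by
  have hτ : Function.Injective (SpecialLinearGroup.toGL :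
      SpecialLinearGroup (Fin 2) (ZMod p) → GL (Fin 2) (ZMod p)) :=
    SpecialLinearGroup.toGL_injective
  obtain ⟨P⟩ : Nonempty (Sylow p A') := inferInstance
  have hPne : (P : Subgroup A') ≠ ⊥ := P.ne_bot_of_dvd_card hdvd
  have hPnn : ¬ (P : Subgroup A').Normal := fun hn => hPne (hcore _ hn P.isPGroup')
  obtain ⟨a, ha⟩ : ∃ a : A', a • P ≠ P := by
    by_contra hall
    push Not at hall
    apply hPnn
    rw [← Subgroup.normalizer_eq_top_iff, eq_top_iff]
    intro a _
    exact Sylow.smul_eq_iff_mem_normalizer.mp (hall a)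
  -- the two subgroups of `GL₂`
  have hinjA : Function.Injective A'.subtype := A'.subtype_injective
  have hQ1p : IsPGroup p ((P : Subgroup A').map A'.subtype) := P.isPGroup'.map _
  have hQ2p : IsPGroup p (((a • P : Sylow p A') : Subgroup A').map A'.subtype) :=
    (a • P).isPGroup'.map _
  have hQ1le := pgroup_le_range_toGL _ hQ1p
  have hQ2le := pgroup_le_range_toGL _ hQ2p
  have hmapcomap : ∀ Q : Subgroup (GL (Fin 2) (ZMod p)),
      Q ≤ (SpecialLinearGroup.toGL : SpecialLinearGroup (Fin 2) (ZMod p) →* GL (Fin 2) (ZMod p)).range →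
      (Q.comap SpecialLinearGroup.toGL).map SpecialLinearGroup.toGL = Q := by
    intro Q hQ
    rw [Subgroup.map_comap_eq, inf_eq_right.mpr hQ]
  have hR1p : IsPGroup p (((P : Subgroup A').map A'.subtype).comap
      (SpecialLinearGroup.toGL : SpecialLinearGroup (Fin 2) (ZMod p) →* GL (Fin 2) (ZMod p))) :=
    hQ1p.comap_of_injective _ hτ
  have hR2p : IsPGroup p ((((a • P : Sylow p A') : Subgroup A').map A'.subtype).comap
      (SpecialLinearGroup.toGL : SpecialLinearGroup (Fin 2) (ZMod p) →* GL (Fin 2) (ZMod p))) :=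
    hQ2p.comap_of_injective _ hτ
  have hne_of : ∀ (X : Subgroup A'), X ≠ ⊥ → (X.map A'.subtype).comap
      (SpecialLinearGroup.toGL : SpecialLinearGroup (Fin 2) (ZMod p) →* GL (Fin 2) (ZMod p)) = ⊥ →
      X.map A'.subtype ≤ (SpecialLinearGroup.toGL :
        SpecialLinearGroup (Fin 2) (ZMod p) →* GL (Fin 2) (ZMod p)).range → False := by
    intro X hX h0 hle
    have h1 := hmapcomap _ hle
    rw [h0, Subgroup.map_bot] at h1
    exact hX ((Subgroup.map_eq_bot_iff_of_injective X hinjA).mp h1.symm)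
  have hR1ne : ((P : Subgroup A').map A'.subtype).comap
      (SpecialLinearGroup.toGL : SpecialLinearGroup (Fin 2) (ZMod p) →* GL (Fin 2) (ZMod p)) ≠ ⊥ :=
    fun h0 => hne_of _ hPne h0 hQ1le
  have hP2ne : ((a • P : Sylow p A') : Subgroup A') ≠ ⊥ := (a • P).ne_bot_of_dvd_card hdvd
  have hR2ne : (((a • P : Sylow p A') : Subgroup A').map A'.subtype).comap
      (SpecialLinearGroup.toGL : SpecialLinearGroup (Fin 2) (ZMod p) →* GL (Fin 2) (ZMod p)) ≠ ⊥ :=
    fun h0 => hne_of _ hP2ne h0 hQ2le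
  obtain ⟨S₁, hS₁⟩ := exists_sylow_eq _ hR1p hR1ne
  obtain ⟨S₂, hS₂⟩ := exists_sylow_eq _ hR2p hR2ne
  have hS12 : S₁ ≠ S₂ := by
    intro h
    apply ha
    apply Sylow.ext
    have h1 : (S₁ : Subgroup (SpecialLinearGroup (Fin 2) (ZMod p))) = S₂ := by rw [h]
    rw [hS₁, hS₂] at h1
    have h2 := congrArg (Subgroup.map (SpecialLinearGroup.toGL :
      SpecialLinearGroup (Fin 2) (ZMod p) →* GL (Fin 2) (ZMod p))) h1
    rw [hmapcomap _ hQ1le, hmapcomap _ hQ2le] at h2
    exact (Subgroup.map_injective hinjA h2).symm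
  have htop := Cfsg.Agent.helper11.SL2U.sylow_sup_eq_top p S₁ S₂ hS12
  rw [MonoidHom.range_eq_map, ← htop, Subgroup.map_sup, hS₁, hS₂, hmapcomap _ hQ1le,
    hmapcomap _ hQ2le]
  apply sup_le
  · rintro _ ⟨x, -, rfl⟩; exact x.2
  · rintro _ ⟨x, -, rfl⟩; exact x.2

end GLPart

/-- a group of automorphisms of an elementary abelian group of order `p²`, of order divisible by
`p` and with trivial `p`-core, contains a copy of `SL₂(p)`. -/
theorem exists_sl2 {H : Type*} [Group H] [Finite H] {p : ℕ} [hp : Fact p.Prime]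
    (hc : ∀ a b : H, a * b = b * a) (hexp : ∀ a : H, a ^ p = 1) (hcard : Nat.card H = p ^ 2)
    (A : Subgroup (MulAut H)) (hdvd : p ∣ Nat.card A)
    (hcore : ∀ N : Subgroup A, N.Normal → IsPGroup p N → N = ⊥) :
    ∃ K : Subgroup A, Nonempty (K ≃* Matrix.SpecialLinearGroup (Fin 2) (ZMod p)) := by
  obtain ⟨Θ, hΘ⟩ := exists_theta hc hexp hcard
  have e : A ≃* A.map Θ := A.equivMapOfInjective Θ hΘ
  have hdvd' : p ∣ Nat.card (A.map Θ) := by
    rw [← Nat.card_congr e.toEquiv]; exact hdvd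
  have hcore' : ∀ N : Subgroup (A.map Θ), N.Normal → IsPGroup p N → N = ⊥ := by
    intro N hN hNp
    have h1 : N.comap e.toMonoidHom = ⊥ := by
      apply hcore
      · exact hN.comap _
      · exact hNp.comap_of_injective _ e.injective
    rw [eq_bot_iff]
    intro x hx
    have hx' : e.symm x ∈ N.comap e.toMonoidHom := by
      show e (e.symm x) ∈ N
      rw [e.apply_symm_apply]; exact hx
    rw [h1, Subgroup.mem_bot] at hx'
    rw [Subgroup.mem_bot]
    have := congrArg e hx'
    rwa [e.apply_symm_apply, map_one] at this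
  have hle := range_toGL_le (A.map Θ) hdvd' hcore'
  let ψ : Matrix.SpecialLinearGroup (Fin 2) (ZMod p) →* A :=
    e.symm.toMonoidHom.comp ((SpecialLinearGroup.toGL :
      SpecialLinearGroup (Fin 2) (ZMod p) →* GL (Fin 2) (ZMod p)).codRestrict (A.map Θ)
        (fun x => hle ⟨x, rfl⟩))
  have hψ : Function.Injective ψ := by
    intro x y hxy
    have h1 := e.symm.injective hxy
    have h2 := congrArg Subtype.val h1
    exact SpecialLinearGroup.toGL_injective h2
  exact ⟨ψ.range, ⟨(MonoidHom.ofInjective hψ).symm⟩⟩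

/-- automorphisms of a cyclic group commute. -/
theorem mulAut_comm_of_cyclic {G : Type*} [Group G] [hG : IsCyclic G] (α β : MulAut G) :
    α * β = β * α := by
  obtain ⟨g, hg⟩ := hG.exists_generator
  obtain ⟨a, ha⟩ := Subgroup.mem_zpowers_iff.mp (hg (α g))
  obtain ⟨b, hb⟩ := Subgroup.mem_zpowers_iff.mp (hg (β g))
  ext x
  obtain ⟨k, rfl⟩ := Subgroup.mem_zpowers_iff.mp (hg x)
  simp only [MulAut.mul_apply, map_zpow]
  rw [← hb, ← ha, map_zpow, map_zpow, ← ha, ← hb]
  simp only [← _root_.zpow_mul]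
  congr 1
  ring

end Cfsg.Agent.h26EssP2
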