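import Mathlib
import Cfsg.Agent.Lib_helper23_GL2Odd
import Cfsg.Agent.Lib_helper26_EssP2
import Cfsg.Agent.Lib_helper10_PS1

/-!
Odd-order solvable groups acting on an elementary abelian `p`-group of order at most `p²`:
`p'`-elements of the derived subgroup act trivially.
-/

set_option autoImplicit false
set_option linter.style.haveILetI false

namespace Cfsg.Agent.helper23

open scoped commutatorElement

theorem commutator_le_ker_of_comm {B X : Type*} [Group B] [Group X] (ρ : B →* X)
    (hX : ∀ a b : X, a * b = b * a) : commutator B ≤ ρ.ker := by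
  rw [commutator_def, Subgroup.commutator_le]
  intro x _ y _
  rw [MonoidHom.mem_ker, map_commutatorElement]
  exact commutatorElement_eq_one_iff_commute.2 (hX _ _)

theorem small_aut_trivial {V : Type*} [Group V] [Finite V] {B : Type*} [Group B] [Finite B]
    (p : ℕ) [hp : Fact p.Prime] (hp2 : p ≠ 2) (hc : ∀ a b : V, a * b = b * a)
    (hexp : ∀ a : V, a ^ p = 1) (hcard : Nat.card V ≤ p ^ 2) (hodd : Odd (Nat.card B))
    [hsol : Group.IsSolvable B] (ρ : B →* MulAut V) (b : B) (hb : b ∈ commutator B)
    (hcop : (orderOf b).Coprime p) : ρ b = 1 := by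
  have hV : IsPGroup p V := fun g => ⟨1, by rw [pow_one]; exact hexp g⟩
  obtain ⟨k, hk⟩ := hV.exists_card_eq
  have hk2 : k ≤ 2 := by
    rw [hk] at hcard
    exact (Nat.pow_le_pow_iff_right hp.out.one_lt).1 hcard
  rcases Nat.lt_or_ge k 2 with hlt | hge
  · -- V cyclic
    haveI : IsCyclic V := by
      interval_cases k
      · rw [pow_zero] at hk
        haveI : Subsingleton V := (Nat.card_eq_one_iff_unique.1 hk).1
        exact isCyclic_of_subsingleton
      · rw [pow_one] at hk
        exact isCyclic_of_prime_card hk
    have := commutator_le_ker_of_comm ρ (fun α β => h26EssP2.mulAut_comm_of_cyclic α β)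
    exact MonoidHom.mem_ker.1 (this hb)
  · have hk' : k = 2 := le_antisymm hk2 hge
    rw [hk'] at hk
    obtain ⟨Θ, hΘ⟩ := h26EssP2.exists_theta hc hexp hk
    set f : B →* GL (Fin 2) (ZMod p) := Θ.comp ρ with hf
    haveI : Finite f.range := Finite.of_surjective f.rangeRestrict f.rangeRestrict_surjective
    have hodd' : Odd (Nat.card f.range) := hodd.of_dvd_nat (Subgroup.card_range_dvd f)
    have hsol' : Group.IsSolvable f.range :=
      Group.isSolvable_of_surjective f.rangeRestrict_surjective
    have hP := GL2.commutator_isPGroup p hp2 f.range hodd' hsol'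
    have hmem : f b ∈ (⁅f.range, f.range⁆ : Subgroup (GL (Fin 2) (ZMod p))) := by
      have h1 : (commutator B).map f = ⁅f.range, f.range⁆ := by
        rw [commutator_def, Subgroup.map_commutator, ← MonoidHom.range_eq_map]
      rw [← h1]
      exact Subgroup.mem_map_of_mem f hb
    have hcop' : (orderOf (f b)).Coprime p :=
      Nat.Coprime.coprime_dvd_left (orderOf_map_dvd f b) hcop
    have h1 : f b = 1 := helper10.eq_one_of_isPGroup_of_coprime hP hmem hcop'
    apply hΘ
    rw [map_one]
    exact h1

end Cfsg.Agent.helper23
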