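import Mathlib
import Cfsg.Agent.Lib_helper23_SmallAut

/-!
The action of a group on a normal section `N / M`, and the triviality of `p'`-elements of the
derived group of an odd-order solvable subgroup on elementary abelian sections of order `≤ p²`.
-/

set_option autoImplicit false
set_option linter.style.haveILetI false

namespace Cfsg.Agent.helper23

open scoped commutatorElement

section
variable {G : Type*} [Group G]

theorem map_conjNormal_subgroupOf (N M : Subgroup G) [hN : N.Normal] [hM : M.Normal] (g : G) :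
    (M.subgroupOf N).map ((MulAut.conjNormal g : ↥N ≃* ↥N) : ↥N →* ↥N) = M.subgroupOf N := by
  ext x
  rw [Subgroup.mem_map]
  constructor
  · rintro ⟨y, hy, rfl⟩
    rw [Subgroup.mem_subgroupOf] at hy ⊢
    show ((MulAut.conjNormal g y : ↥N) : G) ∈ M
    rw [MulAut.conjNormal_apply]
    exact hM.conj_mem _ hy g
  · intro hx
    refine ⟨MulAut.conjNormal g⁻¹ x, ?_, ?_⟩
    · rw [Subgroup.mem_subgroupOf] at hx ⊢
      rw [MulAut.conjNormal_apply]
      exact hM.conj_mem _ hx g⁻¹
    · show MulAut.conjNormal g (MulAut.conjNormal g⁻¹ x) = x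
      rw [← MulAut.mul_apply, ← map_mul, mul_inv_cancel, map_one, MulAut.one_apply]

/-- the action of `G` on the section `N / M` -/
noncomputable def secAut (N M : Subgroup G) [hN : N.Normal] [hM : M.Normal] :
    G →* MulAut (↥N ⧸ M.subgroupOf N) where
  toFun g := QuotientGroup.congr (M.subgroupOf N) (M.subgroupOf N) (MulAut.conjNormal g)
    (map_conjNormal_subgroupOf N M g)
  map_one' := by
    apply MulEquiv.ext
    intro x
    induction x using QuotientGroup.induction_on with
    | H x =>
      rw [QuotientGroup.congr_mk, map_one]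
      rfl
  map_mul' a b := by
    apply MulEquiv.ext
    intro x
    induction x using QuotientGroup.induction_on with
    | H x =>
      rw [MulAut.mul_apply, QuotientGroup.congr_mk, QuotientGroup.congr_mk, QuotientGroup.congr_mk,
        map_mul]
      rfl

theorem secAut_mk (N M : Subgroup G) [hN : N.Normal] [hM : M.Normal] (g : G) (x : ↥N) :
    secAut N M g (QuotientGroup.mk x) = QuotientGroup.mk (MulAut.conjNormal g x) := rfl

end

section
variable {G : Type*} [Group G] [Finite G]

theorem sec_trivial {p : ℕ} [hp : Fact p.Prime] (hp2 : p ≠ 2)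
    (N M : Subgroup G) [hN : N.Normal] [hM : M.Normal] (hMN : M ≤ N)
    (hcomm : ∀ x ∈ N, ∀ y ∈ N, ⁅x, y⁆ ∈ M) (hexp : ∀ x ∈ N, x ^ p ∈ M)
    (hcard : Nat.card N ≤ p ^ 2 * Nat.card M)
    (A : Subgroup G) (hodd : Odd (Nat.card A)) (hsol : Group.IsSolvable A)
    (b : G) (hb : b ∈ ⁅A, A⁆) (hcop : (orderOf b).Coprime p) :
    ∀ n ∈ N, b * n * b⁻¹ * n⁻¹ ∈ M := by
  haveI := hsol
  have hc : ∀ u v : ↥N ⧸ M.subgroupOf N, u * v = v * u := by
    intro u v
    induction u using QuotientGroup.induction_on with
    | H x =>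
      induction v using QuotientGroup.induction_on with
      | H y =>
        rw [← QuotientGroup.mk_mul, ← QuotientGroup.mk_mul, QuotientGroup.eq, Subgroup.mem_subgroupOf]
        have h1 : (((x * y)⁻¹ * (y * x) : ↥N) : G) = ⁅(y : G)⁻¹, (x : G)⁻¹⁆ := by
          rw [commutatorElement_def]
          simp only [Subgroup.coe_mul, Subgroup.coe_inv]
          group
        rw [h1]
        exact hcomm _ (N.inv_mem y.2) _ (N.inv_mem x.2)
  have he : ∀ u : ↥N ⧸ M.subgroupOf N, u ^ p = 1 := by
    intro u
    induction u using QuotientGroup.induction_on with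
    | H x =>
      rw [← QuotientGroup.mk_pow, QuotientGroup.eq_one_iff, Subgroup.mem_subgroupOf, Subgroup.coe_pow]
      exact hexp _ x.2
  have hcard' : Nat.card (↥N ⧸ M.subgroupOf N) ≤ p ^ 2 := by
    have h1 := Subgroup.card_eq_card_quotient_mul_card_subgroup (M.subgroupOf N)
    have h2 : Nat.card (M.subgroupOf N) = Nat.card M :=
      Nat.card_congr (Subgroup.subgroupOfEquivOfLe hMN).toEquiv
    rw [h2] at h1
    rw [h1] at hcard
    exact Nat.le_of_mul_le_mul_right hcard Nat.card_pos
  -- the element of `A`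
  have hb' : b ∈ (commutator A).map A.subtype := by
    rw [Subgroup.map_subtype_commutator]; exact hb
  obtain ⟨b', hb'c, hb'b⟩ := Subgroup.mem_map.1 hb'
  have hord : orderOf b' = orderOf b := by
    rw [← hb'b]; exact (Subgroup.orderOf_coe b').symm
  have h1 := small_aut_trivial p hp2 hc he hcard' hodd ((secAut N M).comp A.subtype) b' hb'c
    (by rw [hord]; exact hcop)
  rw [MonoidHom.comp_apply, hb'b] at h1
  intro n hn
  have h2 := congrArg (fun φ : MulAut (↥N ⧸ M.subgroupOf N) => φ (QuotientGroup.mk ⟨n, hn⟩)) h1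
  simp only [MulAut.one_apply] at h2
  rw [secAut_mk, QuotientGroup.eq_iff_div_mem, Subgroup.mem_subgroupOf] at h2
  have h3 : ((MulAut.conjNormal b (⟨n, hn⟩ : ↥N) / (⟨n, hn⟩ : ↥N) : ↥N) : G) = b * n * b⁻¹ * n⁻¹ := by
    rw [div_eq_mul_inv, Subgroup.coe_mul, MulAut.conjNormal_apply, Subgroup.coe_inv]
  rw [h3] at h2
  exact h2

end

end Cfsg.Agent.helper23
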