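import Mathlib
import Cfsg.Agent.Lib_helper23_Omega1
import Cfsg.Agent.Lib_helper23_SecAct
import Cfsg.Agent.Lib_helper10_KInf4
import Cfsg.Agent.Lib_helper1_PGroup

/-!
Bender–Glauberman: a solvable group of odd order acting faithfully on a `p`-group of rank at most two
(`p` odd) has a `p`-group as derived subgroup.
-/

set_option autoImplicit false
set_option linter.style.haveILetI false
open Cfsg
open scoped commutatorElement

namespace Cfsg.Agent.helper23

section
variable {G : Type*} [Group G] [Finite G]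

/-- a `p'`-element centralizing a critical subgroup `C` of the normal `p`-subgroup `R` centralizes `R` -/
theorem centralizes_of_critical {p : ℕ} [hp : Fact p.Prime] (R C : Subgroup G) [hRn : R.Normal]
    [hCn : C.Normal] (hR : IsPGroup p R) (hCR : C ≤ R)
    (h4 : R ⊓ Subgroup.centralizer (C : Set G) = C ⊓ Subgroup.centralizer (C : Set G))
    (y : G) (hc : (orderOf y).Coprime p) (hy : y ∈ Subgroup.centralizer (C : Set G)) :
    y ∈ Subgroup.centralizer (R : Set G) := by
  apply helper10.coprime_centralizes_chain (C ⊓ Subgroup.centralizer (C : Set G)) R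
    (hR.to_le (le_trans inf_le_left hCR)) y hc
  · exact Subgroup.centralizer_le (by exact_mod_cast (inf_le_left :
      C ⊓ Subgroup.centralizer (C : Set G) ≤ C)) hy
  · intro t ht
    rw [← h4]
    refine Subgroup.mem_inf.mpr ⟨?_, ?_⟩
    · have e : y * t * y⁻¹ * t⁻¹ = (y * t * y⁻¹) * t⁻¹ := rfl
      rw [e]
      exact Subgroup.mul_mem _ (hRn.conj_mem t ht y) (Subgroup.inv_mem _ ht)
    · rw [Subgroup.mem_centralizer_iff]
      intro a ha
      have ha₁ : t⁻¹ * a * t ∈ C := by
        have := hCn.conj_mem a ha t⁻¹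
        rwa [inv_inv] at this
      have h1 : (t⁻¹ * a * t) * y = y * (t⁻¹ * a * t) :=
        Subgroup.mem_centralizer_iff.mp hy _ ha₁
      have h2 : a * y = y * a := Subgroup.mem_centralizer_iff.mp hy _ ha
      have h1' : y⁻¹ * (t⁻¹ * a * t) = (t⁻¹ * a * t) * y⁻¹ := by
        rw [eq_mul_inv_iff_mul_eq, mul_assoc, h1, ← mul_assoc, inv_mul_cancel, one_mul]
      calc a * (y * t * y⁻¹ * t⁻¹) = (a * y) * t * y⁻¹ * t⁻¹ := by group
        _ = (y * a) * t * y⁻¹ * t⁻¹ := by rw [h2]
        _ = y * t * ((t⁻¹ * a * t) * y⁻¹) * t⁻¹ := by group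
        _ = y * t * (y⁻¹ * (t⁻¹ * a * t)) * t⁻¹ := by rw [h1']
        _ = y * t * y⁻¹ * t⁻¹ * a := by group

theorem bg_odd_rank2_normal {p : ℕ} [hp : Fact p.Prime] (hp2 : p ≠ 2) (R A : Subgroup G)
    [hRn : R.Normal] (hR : IsPGroup p R)
    (hrk : ∀ B : Subgroup G, B ≤ R → IsElementaryAbelian p B → Nat.card B ≤ p ^ 2)
    (hAs : Group.IsSolvable A) (hAodd : Odd (Nat.card A))
    (hfaith : A ⊓ Subgroup.centralizer (R : Set G) = ⊥) :
    IsPGroup p (⁅A, A⁆ : Subgroup G) := by
  have hodd : Odd p := hp.out.odd_of_ne_two hp2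
  obtain ⟨C, hCR, hCn, -, hC2, -, hC4, H, hCH, -, hHΦ, -, -⟩ := helper10.exists_critical_in R hR
  haveI := hCn
  have hCp : IsPGroup p C := hR.to_le hCR
  have hcomm : ∀ x ∈ C, ∀ y ∈ C, ⁅x, y⁆ ∈ Subgroup.centralizer (C : Set G) :=
    fun x hx y hy => hC2 (Subgroup.commutator_mem_commutator hx hy)
  have hpow : ∀ x ∈ C, x ^ p ∈ Subgroup.centralizer (C : Set G) := by
    intro x hx
    rw [hCH] at hx
    obtain ⟨h, hhH, rfl⟩ := Subgroup.mem_map.1 hx
    have hHp : IsPGroup p H := hR.to_subgroup H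
    have h2 : ((⟨h, hhH⟩ : ↥H) ^ p : ↥H) ∈ frattini ↥H :=
      helper1.pow_mem_frattini_of_isPGroup hHp (⟨h, hhH⟩ : ↥H)
    have h3 : (H.subtype ((⟨h, hhH⟩ : ↥H) ^ p)) ∈ Subgroup.centralizer (H : Set ↥R) :=
      hHΦ (Subgroup.mem_map_of_mem _ h2)
    rw [Subgroup.mem_centralizer_iff]
    intro c hc
    rw [hCH] at hc
    obtain ⟨c', hc'H, rfl⟩ := Subgroup.mem_map.1 hc
    have h4 := Subgroup.mem_centralizer_iff.1 h3 c' hc'H
    have h5 := congrArg (fun t : ↥R => (t : G)) h4
    exact h5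
  obtain ⟨D, hDdef⟩ : ∃ D : Subgroup G, D = omegaK p hodd C hcomm hpow 1 := ⟨_, rfl⟩
  haveI hDn : D.Normal := by rw [hDdef]; exact omegaK_normal
  have hDC : D ≤ C := by rw [hDdef]; exact omegaK_le
  have hDR : D ≤ R := hDC.trans hCR
  have hDexp : ∀ x ∈ D, x ^ p = 1 := by
    intro x hx
    rw [hDdef] at hx
    have := hx.2
    rwa [pow_one] at this
  have hDp : IsPGroup p D := hR.to_le hDR
  obtain ⟨Z, hZdef⟩ : ∃ Z : Subgroup G, Z = D ⊓ Subgroup.centralizer (D : Set G) := ⟨_, rfl⟩
  haveI hZn : Z.Normal := by rw [hZdef]; infer_instance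
  have hZD : Z ≤ D := by rw [hZdef]; exact inf_le_left
  have hZcen : Z ≤ Subgroup.centralizer (D : Set G) := by rw [hZdef]; exact inf_le_right
  have hrkD : PRankLE p 2 ↥D := by
    intro B hBc hBe
    have hle : B.map D.subtype ≤ R := by
      intro x hx
      obtain ⟨y, -, rfl⟩ := Subgroup.mem_map.1 hx
      exact hDR y.2
    have h1 := hrk _ hle (helper3.ea_map ⟨hBc, hBe⟩ D.subtype)
    rwa [← Nat.card_congr (Subgroup.equivMapOfInjective B D.subtype D.subtype_injective).toEquiv] at h1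
  have hexpD : ∀ x : ↥D, x ^ p = 1 := by
    intro x
    apply Subtype.ext
    rw [Subgroup.coe_pow, Subgroup.coe_one]
    exact hDexp x x.2
  obtain ⟨hT1, hT2⟩ := small_exp_p hDp hexpD hrkD
  have hZsub : Z.subgroupOf D = Subgroup.center ↥D := by
    ext x
    rw [Subgroup.mem_subgroupOf, Subgroup.mem_center_iff]
    constructor
    · intro hx d
      have := Subgroup.mem_centralizer_iff.1 (hZcen hx) d d.2
      exact Subtype.ext this
    · intro hx
      rw [hZdef]
      refine Subgroup.mem_inf.2 ⟨x.2, ?_⟩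
      apply Subgroup.mem_centralizer_iff.2
      intro d hd
      exact congrArg Subtype.val (hx ⟨d, hd⟩)
  have hZcard : Nat.card Z = Nat.card (Subgroup.center ↥D) := by
    rw [← hZsub]
    exact (Nat.card_congr (Subgroup.subgroupOfEquivOfLe hZD).toEquiv).symm
  rw [← hZcard] at hT1 hT2
  -- hypotheses for the two sections
  have hZcomm : ∀ x ∈ Z, ∀ y ∈ Z, ⁅x, y⁆ ∈ (⊥ : Subgroup G) := by
    intro x hx y hy
    rw [Subgroup.mem_bot, commutatorElement_eq_one_iff_commute]
    exact (Subgroup.mem_centralizer_iff.1 (hZcen hx) y (hZD hy)).symm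
  have hZexp : ∀ x ∈ Z, x ^ p ∈ (⊥ : Subgroup G) := by
    intro x hx
    rw [Subgroup.mem_bot]
    exact hDexp x (hZD hx)
  have hZcard' : Nat.card Z ≤ p ^ 2 * Nat.card (⊥ : Subgroup G) := by
    rw [Subgroup.card_bot, mul_one]; exact hT1
  have hDcomm : ∀ x ∈ D, ∀ y ∈ D, ⁅x, y⁆ ∈ Z := by
    intro x hx y hy
    rw [hZdef]
    refine ⟨D.mul_mem (D.mul_mem (D.mul_mem hx hy) (D.inv_mem hx)) (D.inv_mem hy), ?_⟩
    exact Subgroup.centralizer_le (by exact_mod_cast hDC) (hcomm x (hDC hx) y (hDC hy))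
  have hDexp' : ∀ x ∈ D, x ^ p ∈ Z := by
    intro x hx
    rw [hDexp x hx]
    exact Z.one_mem
  apply helper10.isPGroup_of_coprime_trivial
  intro b hb hcop
  have hbA : b ∈ A := Subgroup.commutator_le_self A hb
  have s1 := sec_trivial hp2 Z ⊥ bot_le hZcomm hZexp hZcard' A hAodd hAs b hb hcop
  have s2 := sec_trivial hp2 D Z hZD hDcomm hDexp' hT2 A hAodd hAs b hb hcop
  have hbZ : b ∈ Subgroup.centralizer (Z : Set G) := by
    rw [Subgroup.mem_centralizer_iff]
    intro z hz
    have h1 := s1 z hz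
    rw [Subgroup.mem_bot] at h1
    calc z * b = (b * z * b⁻¹ * z⁻¹)⁻¹ * (b * z) := by group
      _ = b * z := by rw [h1, inv_one, one_mul]
  have hbD : b ∈ Subgroup.centralizer (D : Set G) :=
    helper10.coprime_centralizes_chain Z D (hDp.to_le hZD) b hcop hbZ s2
  have hbC : b ∈ Subgroup.centralizer (C : Set G) := by
    rw [hDdef] at hbD
    exact centralizes_of_centralizes_omega1 hCp b hcop hbD
  have hbR := centralizes_of_critical R C hR hCR hC4 b hcop hbC
  have hmem : b ∈ A ⊓ Subgroup.centralizer (R : Set G) := ⟨hbA, hbR⟩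
  rw [hfaith] at hmem
  exact Subgroup.mem_bot.1 hmem

end

end Cfsg.Agent.helper23

namespace Cfsg.Agent.helper23

section
variable {G : Type*} [Group G] [Finite G]

/-- BG: a solvable group `A` of odd order acting faithfully on a `p`-group `R` of rank `≤ 2`
(`p` odd): `A'` is a `p`-group. -/
theorem bg_odd_rank2 {p : ℕ} [hp : Fact p.Prime] (hp2 : p ≠ 2) (R A : Subgroup G)
    (hR : IsPGroup p R) (hr : PRankLE p 2 R)
    (hA : A ≤ Subgroup.normalizer (R : Set G)) (hAs : Group.IsSolvable A) (hAodd : Odd (Nat.card A))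
    (hfaith : A ⊓ Subgroup.centralizer (R : Set G) = ⊥) :
    IsPGroup p (⁅A, A⁆ : Subgroup G) := by
  have hRN : R ≤ Subgroup.normalizer (R : Set G) := Subgroup.le_normalizer
  haveI hRn' : (R.subgroupOf (Subgroup.normalizer (R : Set G))).Normal := Subgroup.normal_in_normalizer
  have hR' : IsPGroup p (R.subgroupOf (Subgroup.normalizer (R : Set G))) :=
    hR.of_equiv (Subgroup.subgroupOfEquivOfLe hRN).symm
  have hrk' : ∀ B : Subgroup ↥(Subgroup.normalizer (R : Set G)),
      B ≤ R.subgroupOf (Subgroup.normalizer (R : Set G)) → IsElementaryAbelian p B →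
      Nat.card B ≤ p ^ 2 := by
    intro B hBR hB
    have hle : B.map (Subgroup.normalizer (R : Set G)).subtype ≤ R := by
      intro x hx
      obtain ⟨y, hy, rfl⟩ := Subgroup.mem_map.1 hx
      exact Subgroup.mem_subgroupOf.1 (hBR hy)
    have hea := helper3.ea_subgroupOf (helper3.ea_map hB (Subgroup.normalizer (R : Set G)).subtype) R
    have h1 := hr _ hea.1 hea.2
    rw [Nat.card_congr (Subgroup.subgroupOfEquivOfLe hle).toEquiv,
      ← Nat.card_congr (Subgroup.equivMapOfInjective B (Subgroup.normalizer (R : Set G)).subtype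
        (Subgroup.normalizer (R : Set G)).subtype_injective).toEquiv] at h1
    exact h1
  have hAs' : Group.IsSolvable (A.subgroupOf (Subgroup.normalizer (R : Set G))) := by
    haveI := hAs
    exact Group.isSolvable_of_isSolvable_injective
      (f := (Subgroup.subgroupOfEquivOfLe hA).toMonoidHom) (Subgroup.subgroupOfEquivOfLe hA).injective
  have hAodd' : Odd (Nat.card (A.subgroupOf (Subgroup.normalizer (R : Set G)))) := by
    rw [Nat.card_congr (Subgroup.subgroupOfEquivOfLe hA).toEquiv]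
    exact hAodd
  have hfaith' : A.subgroupOf (Subgroup.normalizer (R : Set G)) ⊓
      Subgroup.centralizer ((R.subgroupOf (Subgroup.normalizer (R : Set G)) :
        Subgroup ↥(Subgroup.normalizer (R : Set G))) : Set ↥(Subgroup.normalizer (R : Set G))) = ⊥ := by
    rw [eq_bot_iff]
    intro x hx
    obtain ⟨hxA, hxC⟩ := Subgroup.mem_inf.1 hx
    have hmem : (x : G) ∈ A ⊓ Subgroup.centralizer (R : Set G) := by
      refine Subgroup.mem_inf.2 ⟨Subgroup.mem_subgroupOf.1 hxA, ?_⟩
      apply Subgroup.mem_centralizer_iff.2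
      intro r hr'
      have h1 := Subgroup.mem_centralizer_iff.1 hxC ⟨r, hRN hr'⟩ (Subgroup.mem_subgroupOf.2 hr')
      exact congrArg Subtype.val h1
    rw [hfaith, Subgroup.mem_bot] at hmem
    exact Subgroup.mem_bot.2 (Subtype.ext hmem)
  have hmain := bg_odd_rank2_normal hp2 (R.subgroupOf (Subgroup.normalizer (R : Set G)))
    (A.subgroupOf (Subgroup.normalizer (R : Set G))) hR' hrk' hAs' hAodd' hfaith'
  have hmap : (⁅A.subgroupOf (Subgroup.normalizer (R : Set G)),
      A.subgroupOf (Subgroup.normalizer (R : Set G))⁆).map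
      (Subgroup.normalizer (R : Set G)).subtype = ⁅A, A⁆ := by
    rw [Subgroup.map_commutator, Subgroup.map_subgroupOf_eq_of_le hA]
  rw [← hmap]
  exact hmain.map _

end

end Cfsg.Agent.helper23
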