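import Mathlib
import Cfsg.Agent.Lib_helper23_BG4

/-!
Refinements of `Lib_helper23_BG4`: the two small sections of a normal `p`-subgroup of rank `≤ 2`,
and the bound `q < p` for primes `q` of elements acting nontrivially.
-/

set_option autoImplicit false
set_option linter.style.haveILetI false
open Cfsg
open scoped commutatorElement

namespace Cfsg.Agent.helper23

theorem arith_bound {p q k j : ℕ} (hp : p.Prime) (hq : q.Prime) (hqp : q ≠ p) (hq2 : q ≠ 2) (hp2 : p ≠ 2)
    (hk : k ≤ 2) (hjk : j < k) (h : p ^ k ≡ p ^ j [MOD q]) : q < p := by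
  have hcop : Nat.Coprime q p := (Nat.coprime_primes hq hp).2 hqp
  have hdvd : q ∣ p ^ k - p ^ j := (Nat.modEq_iff_dvd' (Nat.pow_le_pow_right hp.pos hjk.le)).1 h.symm
  have hfac : p ^ k - p ^ j = p ^ j * (p ^ (k - j) - 1) := by
    have : k = j + (k - j) := by omega
    conv_lhs => rw [this, pow_add]
    rw [Nat.mul_sub, mul_one]
  rw [hfac] at hdvd
  have hdvd2 : q ∣ p ^ (k - j) - 1 := (Nat.Coprime.pow_right j hcop).dvd_of_dvd_mul_left hdvd
  have hp3 : 3 ≤ p := by
    have := hp.two_le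
    omega
  have hcase : k - j = 1 ∨ k - j = 2 := by omega
  rcases hcase with h1 | h1
  · rw [h1, pow_one] at hdvd2
    have := Nat.le_of_dvd (by omega) hdvd2
    omega
  · rw [h1] at hdvd2
    have hfac2 : p ^ 2 - 1 = (p - 1) * (p + 1) := by
      have : p ^ 2 = (p - 1) * (p + 1) + 1 := by
        obtain ⟨m, rfl⟩ : ∃ m, p = m + 1 := ⟨p - 1, by omega⟩
        simp only [Nat.add_sub_cancel]
        ring
      omega
    rw [hfac2] at hdvd2
    rcases (Nat.Prime.dvd_mul hq).1 hdvd2 with h2 | h2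
    · have := Nat.le_of_dvd (by omega) h2
      omega
    · -- q ∣ p + 1, p + 1 even
      obtain ⟨m, hm⟩ := hp.odd_of_ne_two hp2
      have h3 : p + 1 = 2 * (m + 1) := by omega
      rw [h3] at h2
      have hq2' : Nat.Coprime q 2 := (Nat.coprime_primes hq Nat.prime_two).2 hq2
      have h4 : q ∣ m + 1 := hq2'.dvd_of_dvd_mul_left h2
      have := Nat.le_of_dvd (by omega) h4
      omega

theorem aut_prime_bound {V : Type*} [Group V] [Finite V] {p q : ℕ} [hp : Fact p.Prime] [hq : Fact q.Prime]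
    (hqp : q ≠ p) (hq2 : q ≠ 2) (hp2 : p ≠ 2)
    (hexp : ∀ a : V, a ^ p = 1) (hcard : Nat.card V ≤ p ^ 2)
    (φ : MulAut V) (hφ1 : φ ≠ 1) (hφq : φ ^ q = 1) : q < p := by
  have hV : IsPGroup p V := fun g => ⟨1, by rw [pow_one]; exact hexp g⟩
  obtain ⟨k, hk⟩ := hV.exists_card_eq
  have hk2 : k ≤ 2 := by
    rw [hk] at hcard
    exact (Nat.pow_le_pow_iff_right hp.out.one_lt).1 hcard
  -- the fixed subgroup
  let F : Subgroup V :=
    { carrier := {v | φ v = v}
      one_mem' := map_one φ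
      mul_mem' := by
        intro a b ha hb
        show φ (a * b) = a * b
        rw [map_mul, ha, hb]
      inv_mem' := by
        intro a ha
        show φ a⁻¹ = a⁻¹
        rw [map_inv, ha] }
  have hFmem : ∀ v, v ∈ F ↔ φ v = v := fun v => Iff.rfl
  obtain ⟨j, hj⟩ := (hV.to_subgroup F).exists_card_eq
  have hFne : F ≠ ⊤ := by
    intro h
    apply hφ1
    ext v
    have : v ∈ F := by rw [h]; exact Subgroup.mem_top v
    exact this
  have hjk : j < k := by
    by_contra hge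
    push Not at hge
    apply hFne
    apply Subgroup.eq_top_of_card_eq
    have h1 : Nat.card F ∣ Nat.card V := Subgroup.card_subgroup_dvd_card F
    rw [hj, hk] at h1
    have h2 : j ≤ k := (Nat.pow_dvd_pow_iff_le_right hp.out.one_lt).1 h1
    rw [hj, hk, le_antisymm h2 hge]
  -- the acting q-group
  have hΓ : IsPGroup q (Subgroup.zpowers φ) := by
    rintro ⟨ψ, hψ⟩
    refine ⟨1, ?_⟩
    obtain ⟨n, rfl⟩ := Subgroup.mem_zpowers_iff.1 hψ
    apply Subtype.ext
    rw [pow_one, Subgroup.coe_pow, Subgroup.coe_one]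
    show (φ ^ n) ^ q = 1
    rw [← zpow_natCast, ← zpow_mul, mul_comm, zpow_mul, zpow_natCast, hφq, one_zpow]
  have hmod := hΓ.card_modEq_card_fixedPoints V
  have hfix : MulAction.fixedPoints (Subgroup.zpowers φ) V = (F : Set V) := by
    ext v
    rw [MulAction.mem_fixedPoints]
    constructor
    · intro h
      exact h ⟨φ, Subgroup.mem_zpowers φ⟩
    · rintro hv ⟨ψ, hψ⟩
      obtain ⟨n, rfl⟩ := Subgroup.mem_zpowers_iff.1 hψ
      show (φ ^ n) v = v
      have hv' : φ v = v := hv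
      have hstab : φ ∈ MulAction.stabilizer (MulAut V) v := hv'
      exact (MulAction.stabilizer (MulAut V) v).zpow_mem hstab n
  rw [hfix] at hmod
  have hcF : Nat.card (F : Set V) = Nat.card F := rfl
  rw [hcF, hk, hj] at hmod
  exact arith_bound hp.out hq.out hqp hq2 hp2 hk2 hjk hmod


section
variable {G : Type*} [Group G] [Finite G]

/-- the two small sections `1 ≤ Z ≤ D` of a normal `p`-subgroup `R` of rank at most two on which
every `p'`-element acting nontrivially on `R` acts nontrivially -/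
theorem exists_small_sections {p : ℕ} [hp : Fact p.Prime] (hp2 : p ≠ 2) (R : Subgroup G)
    [hRn : R.Normal] (hR : IsPGroup p R)
    (hrk : ∀ B : Subgroup G, B ≤ R → IsElementaryAbelian p B → Nat.card B ≤ p ^ 2) :
    ∃ D Z : Subgroup G, D.Normal ∧ Z.Normal ∧ Z ≤ D ∧ D ≤ R ∧
      (∀ x ∈ Z, ∀ y ∈ Z, ⁅x, y⁆ ∈ (⊥ : Subgroup G)) ∧ (∀ x ∈ Z, x ^ p ∈ (⊥ : Subgroup G)) ∧
      Nat.card Z ≤ p ^ 2 * Nat.card (⊥ : Subgroup G) ∧
      (∀ x ∈ D, ∀ y ∈ D, ⁅x, y⁆ ∈ Z) ∧ (∀ x ∈ D, x ^ p ∈ Z) ∧ Nat.card D ≤ p ^ 2 * Nat.card Z ∧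
      ∀ b : G, (orderOf b).Coprime p → (∀ z ∈ Z, b * z * b⁻¹ * z⁻¹ ∈ (⊥ : Subgroup G)) →
        (∀ d ∈ D, b * d * b⁻¹ * d⁻¹ ∈ Z) → b ∈ Subgroup.centralizer (R : Set G) := by
  have hodd : Odd p := hp.out.odd_of_ne_two hp2
  obtain ⟨C, hCR, hCn, -, hC2, -, hC4, H, hCH, -, hHΦ, -, -⟩ := helper10.exists_critical_in R hR
  haveI := hCn
  have hCp : IsPGroup p C := hR.to_le hCR
  have hcomm : ∀ x ∈ C, ∀ y ∈ C, ⁅x, y⁆ ∈ Subgroup.centralizer (C : Set G) :=
    fun x hx y hy => hC2 (Subgroup.commutator_mem_commutator hx hy)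
  have hpow : ∀ x ∈ C, x ^ p ∈ Subgroup.centralizer (C : Set G) := by
    intro x hx
    rw [hCH] at hx
    obtain ⟨h, hhH, rfl⟩ := Subgroup.mem_map.1 hx
    have hHp : IsPGroup p H := hR.to_subgroup H
    have h2 : ((⟨h, hhH⟩ : ↥H) ^ p : ↥H) ∈ frattini ↥H :=
      helper1.pow_mem_frattini_of_isPGroup hHp (⟨h, hhH⟩ : ↥H)
    have h3 : (H.subtype ((⟨h, hhH⟩ : ↥H) ^ p)) ∈ Subgroup.centralizer (H : Set ↥R) :=
      hHΦ (Subgroup.mem_map_of_mem _ h2)
    rw [Subgroup.mem_centralizer_iff]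
    intro c hc
    rw [hCH] at hc
    obtain ⟨c', hc'H, rfl⟩ := Subgroup.mem_map.1 hc
    have h4 := Subgroup.mem_centralizer_iff.1 h3 c' hc'H
    have h5 := congrArg (fun t : ↥R => (t : G)) h4
    exact h5
  obtain ⟨D, hDdef⟩ : ∃ D : Subgroup G, D = omegaK p hodd C hcomm hpow 1 := ⟨_, rfl⟩
  haveI hDn : D.Normal := by rw [hDdef]; exact omegaK_normal
  have hDC : D ≤ C := by rw [hDdef]; exact omegaK_le
  have hDR : D ≤ R := hDC.trans hCR
  have hDexp : ∀ x ∈ D, x ^ p = 1 := by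
    intro x hx
    rw [hDdef] at hx
    have := hx.2
    rwa [pow_one] at this
  have hDp : IsPGroup p D := hR.to_le hDR
  obtain ⟨Z, hZdef⟩ : ∃ Z : Subgroup G, Z = D ⊓ Subgroup.centralizer (D : Set G) := ⟨_, rfl⟩
  haveI hZn : Z.Normal := by rw [hZdef]; infer_instance
  have hZD : Z ≤ D := by rw [hZdef]; exact inf_le_left
  have hZcen : Z ≤ Subgroup.centralizer (D : Set G) := by rw [hZdef]; exact inf_le_right
  have hrkD : PRankLE p 2 ↥D := by
    intro B hBc hBe
    have hle : B.map D.subtype ≤ R := by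
      intro x hx
      obtain ⟨y, -, rfl⟩ := Subgroup.mem_map.1 hx
      exact hDR y.2
    have h1 := hrk _ hle (helper3.ea_map ⟨hBc, hBe⟩ D.subtype)
    rwa [← Nat.card_congr (Subgroup.equivMapOfInjective B D.subtype D.subtype_injective).toEquiv] at h1
  have hexpD : ∀ x : ↥D, x ^ p = 1 := by
    intro x
    apply Subtype.ext
    rw [Subgroup.coe_pow, Subgroup.coe_one]
    exact hDexp x x.2
  obtain ⟨hT1, hT2⟩ := small_exp_p hDp hexpD hrkD
  have hZsub : Z.subgroupOf D = Subgroup.center ↥D := by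
    ext x
    rw [Subgroup.mem_subgroupOf, Subgroup.mem_center_iff]
    constructor
    · intro hx d
      have := Subgroup.mem_centralizer_iff.1 (hZcen hx) d d.2
      exact Subtype.ext this
    · intro hx
      rw [hZdef]
      refine Subgroup.mem_inf.2 ⟨x.2, ?_⟩
      apply Subgroup.mem_centralizer_iff.2
      intro d hd
      exact congrArg Subtype.val (hx ⟨d, hd⟩)
  have hZcard : Nat.card Z = Nat.card (Subgroup.center ↥D) := by
    rw [← hZsub]
    exact (Nat.card_congr (Subgroup.subgroupOfEquivOfLe hZD).toEquiv).symm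
  rw [← hZcard] at hT1 hT2
  -- hypotheses for the two sections
  have hZcomm : ∀ x ∈ Z, ∀ y ∈ Z, ⁅x, y⁆ ∈ (⊥ : Subgroup G) := by
    intro x hx y hy
    rw [Subgroup.mem_bot, commutatorElement_eq_one_iff_commute]
    exact (Subgroup.mem_centralizer_iff.1 (hZcen hx) y (hZD hy)).symm
  have hZexp : ∀ x ∈ Z, x ^ p ∈ (⊥ : Subgroup G) := by
    intro x hx
    rw [Subgroup.mem_bot]
    exact hDexp x (hZD hx)
  have hZcard' : Nat.card Z ≤ p ^ 2 * Nat.card (⊥ : Subgroup G) := by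
    rw [Subgroup.card_bot, mul_one]; exact hT1
  have hDcomm : ∀ x ∈ D, ∀ y ∈ D, ⁅x, y⁆ ∈ Z := by
    intro x hx y hy
    rw [hZdef]
    refine ⟨D.mul_mem (D.mul_mem (D.mul_mem hx hy) (D.inv_mem hx)) (D.inv_mem hy), ?_⟩
    exact Subgroup.centralizer_le (by exact_mod_cast hDC) (hcomm x (hDC hx) y (hDC hy))
  have hDexp' : ∀ x ∈ D, x ^ p ∈ Z := by
    intro x hx
    rw [hDexp x hx]
    exact Z.one_mem
  refine ⟨D, Z, hDn, hZn, hZD, hDR, hZcomm, hZexp, hZcard', hDcomm, hDexp', hT2, ?_⟩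
  intro b hcop s1 s2
  have hbZ : b ∈ Subgroup.centralizer (Z : Set G) := by
    rw [Subgroup.mem_centralizer_iff]
    intro z hz
    have h1 := s1 z hz
    rw [Subgroup.mem_bot] at h1
    calc z * b = (b * z * b⁻¹ * z⁻¹)⁻¹ * (b * z) := by group
      _ = b * z := by rw [h1, inv_one, one_mul]
  have hbD : b ∈ Subgroup.centralizer (D : Set G) :=
    helper10.coprime_centralizes_chain Z D (hDp.to_le hZD) b hcop hbZ s2
  have hbC : b ∈ Subgroup.centralizer (C : Set G) := by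
    rw [hDdef] at hbD
    exact centralizes_of_centralizes_omega1 hCp b hcop hbD
  exact centralizes_of_critical R C hR hCR hC4 b hcop hbC

/-- `p'`-elements of the derived group of an odd-order solvable subgroup centralize a normal
`p`-subgroup of rank at most two -/
theorem comm_pprime_centralizes {p : ℕ} [hp : Fact p.Prime] (hp2 : p ≠ 2) (R A : Subgroup G)
    [hRn : R.Normal] (hR : IsPGroup p R)
    (hrk : ∀ B : Subgroup G, B ≤ R → IsElementaryAbelian p B → Nat.card B ≤ p ^ 2)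
    (hAs : Group.IsSolvable A) (hAodd : Odd (Nat.card A))
    (b : G) (hb : b ∈ ⁅A, A⁆) (hcop : (orderOf b).Coprime p) :
    b ∈ Subgroup.centralizer (R : Set G) := by
  obtain ⟨D, Z, hDn, hZn, hZD, -, hZcomm, hZexp, hZcard, hDcomm, hDexp, hDcard, hfin⟩ :=
    exists_small_sections hp2 R hR hrk
  haveI := hDn
  haveI := hZn
  exact hfin b hcop
    (sec_trivial hp2 Z ⊥ bot_le hZcomm hZexp hZcard A hAodd hAs b hb hcop)
    (sec_trivial hp2 D Z hZD hDcomm hDexp hDcard A hAodd hAs b hb hcop)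

end

section
variable {G : Type*} [Group G] [Finite G]

theorem sec_quot_facts {p : ℕ} [hp : Fact p.Prime]
    (N M : Subgroup G) [hN : N.Normal] [hM : M.Normal] (hMN : M ≤ N)
    (hexp : ∀ x ∈ N, x ^ p ∈ M) (hcard : Nat.card N ≤ p ^ 2 * Nat.card M) :
    (∀ u : ↥N ⧸ M.subgroupOf N, u ^ p = 1) ∧ Nat.card (↥N ⧸ M.subgroupOf N) ≤ p ^ 2 := by
  constructor
  · intro u
    induction u using QuotientGroup.induction_on with
    | H x =>
      rw [← QuotientGroup.mk_pow, QuotientGroup.eq_one_iff, Subgroup.mem_subgroupOf, Subgroup.coe_pow]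
      exact hexp _ x.2
  · have h1 := Subgroup.card_eq_card_quotient_mul_card_subgroup (M.subgroupOf N)
    have h2 : Nat.card (M.subgroupOf N) = Nat.card M :=
      Nat.card_congr (Subgroup.subgroupOfEquivOfLe hMN).toEquiv
    rw [h2] at h1
    rw [h1] at hcard
    exact Nat.le_of_mul_le_mul_right hcard Nat.card_pos

/-- an element of prime order `q ≠ p` acting nontrivially on an elementary abelian section of
order at most `p²` has `q < p` (`p`, `q` odd). -/
theorem sec_prime_bound {p q : ℕ} [hp : Fact p.Prime] [hq : Fact q.Prime]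
    (hqp : q ≠ p) (hq2 : q ≠ 2) (hp2 : p ≠ 2)
    (N M : Subgroup G) [hN : N.Normal] [hM : M.Normal] (hMN : M ≤ N)
    (hexp : ∀ x ∈ N, x ^ p ∈ M) (hcard : Nat.card N ≤ p ^ 2 * Nat.card M)
    (b : G) (hbq : b ^ q = 1) (hb : ¬ ∀ n ∈ N, b * n * b⁻¹ * n⁻¹ ∈ M) : q < p := by
  obtain ⟨he, hc⟩ := sec_quot_facts N M hMN hexp hcard
  apply aut_prime_bound hqp hq2 hp2 he hc (secAut N M b)
  · intro h1
    apply hb
    intro n hn
    have h2 := congrArg (fun φ : MulAut (↥N ⧸ M.subgroupOf N) => φ (QuotientGroup.mk ⟨n, hn⟩)) h1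
    simp only [MulAut.one_apply] at h2
    rw [secAut_mk, QuotientGroup.eq_iff_div_mem, Subgroup.mem_subgroupOf] at h2
    have h3 : ((MulAut.conjNormal b (⟨n, hn⟩ : ↥N) / (⟨n, hn⟩ : ↥N) : ↥N) : G) =
        b * n * b⁻¹ * n⁻¹ := by
      rw [div_eq_mul_inv, Subgroup.coe_mul, MulAut.conjNormal_apply, Subgroup.coe_inv]
    rw [h3] at h2
    exact h2
  · rw [← map_pow, hbq, map_one]

/-- an element of odd prime order `q ≠ p` not centralizing a normal `p`-subgroup of rank `≤ 2`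
has `q < p`. -/
theorem prime_bound {p q : ℕ} [hp : Fact p.Prime] [hq : Fact q.Prime]
    (hqp : q ≠ p) (hq2 : q ≠ 2) (hp2 : p ≠ 2) (R : Subgroup G)
    [hRn : R.Normal] (hR : IsPGroup p R)
    (hrk : ∀ B : Subgroup G, B ≤ R → IsElementaryAbelian p B → Nat.card B ≤ p ^ 2)
    (b : G) (hbq : orderOf b = q) (hb : b ∉ Subgroup.centralizer (R : Set G)) : q < p := by
  obtain ⟨D, Z, hDn, hZn, hZD, -, hZcomm, hZexp, hZcard, hDcomm, hDexp, hDcard, hfin⟩ :=
    exists_small_sections hp2 R hR hrk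
  haveI := hDn
  haveI := hZn
  have hcop : (orderOf b).Coprime p := by
    rw [hbq]; exact (Nat.coprime_primes hq.out hp.out).2 hqp
  have hbq' : b ^ q = 1 := by rw [← hbq]; exact pow_orderOf_eq_one b
  by_contra hlt
  apply hb
  apply hfin b hcop
  · by_contra h1
    exact hlt (sec_prime_bound hqp hq2 hp2 Z ⊥ bot_le hZexp hZcard b hbq' h1)
  · by_contra h1
    exact hlt (sec_prime_bound hqp hq2 hp2 D Z hZD hDexp hDcard b hbq' h1)

end

end Cfsg.Agent.helper23
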