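import Mathlib
import Cfsg.Agent.Lib_helper23_BG4b
import Cfsg.Agent.Lib_helper23_PSolv3
import Cfsg.Agent.Lib_helper9_Cores
import Cfsg.Agent.Lib_helper10_NPC

/-!
Bender–Glauberman Theorem 4.18-type results: solvable groups of odd order with `p`-rank at most two.
-/

set_option autoImplicit false
set_option linter.style.haveILetI false
open Cfsg
open scoped commutatorElement

namespace Cfsg.Agent.helper23

section
variable {G : Type*} [Group G] [Finite G]

/-- elementary abelian `p`-subgroups of `G / K` (`K` a normal `p'`-subgroup) lift to `G` -/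
theorem card_ea_quotient_le {p : ℕ} [hp : Fact p.Prime] (K : Subgroup G) [hKn : K.Normal]
    (hK : (Nat.card K).Coprime p) (hr : PRankLE p 2 G) (B : Subgroup (G ⧸ K))
    (hB : IsElementaryAbelian p B) : Nat.card B ≤ p ^ 2 := by
  have hf : Function.Surjective (QuotientGroup.mk' K) := QuotientGroup.mk'_surjective K
  have hBp : IsPGroup p B := helper3.ea_isPGroup hB
  obtain ⟨P', hBP'⟩ := hBp.exists_le_sylow
  obtain ⟨P, hP⟩ := Sylow.mapSurjective_surjective hf p P'
  have hPmap : (P : Subgroup G).map (QuotientGroup.mk' K) = (P' : Subgroup (G ⧸ K)) := by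
    rw [← hP]; rfl
  have hinj : ∀ x ∈ (P : Subgroup G), QuotientGroup.mk' K x = 1 → x = 1 := by
    intro x hx h1
    have hxK : x ∈ K := (QuotientGroup.eq_one_iff x).1 h1
    have hcop : (orderOf x).Coprime p :=
      Nat.Coprime.coprime_dvd_left (Subgroup.orderOf_dvd_natCard K hxK) hK
    exact helper10.eq_one_of_isPGroup_of_coprime P.isPGroup' hx hcop
  obtain ⟨E, hEdef⟩ : ∃ E : Subgroup G, E = (P : Subgroup G) ⊓ B.comap (QuotientGroup.mk' K) :=
    ⟨_, rfl⟩
  have hEP : E ≤ (P : Subgroup G) := by rw [hEdef]; exact inf_le_left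
  have hEB : ∀ x ∈ E, QuotientGroup.mk' K x ∈ B := by
    intro x hx
    rw [hEdef] at hx
    exact hx.2
  have hmap : E.map (QuotientGroup.mk' K) = B := by
    apply le_antisymm
    · rintro _ ⟨x, hx, rfl⟩
      exact hEB x hx
    · intro y hy
      have hy' : y ∈ (P : Subgroup G).map (QuotientGroup.mk' K) := by
        rw [hPmap]; exact hBP' hy
      obtain ⟨x, hxP, rfl⟩ := hy'
      refine ⟨x, ?_, rfl⟩
      rw [hEdef]
      exact ⟨hxP, hy⟩
  have hE : IsElementaryAbelian p E := by
    refine ⟨⟨⟨?_⟩⟩, ?_⟩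
    · rintro ⟨a, ha⟩ ⟨b, hb⟩
      apply Subtype.ext
      show a * b = b * a
      have h1 : QuotientGroup.mk' K (a * b * (b * a)⁻¹) = 1 := by
        rw [map_mul, map_inv, map_mul, map_mul,
          helper3.ea_comm hB (hEB a ha) (hEB b hb), mul_inv_cancel]
      have h2 := hinj _ (Subgroup.mul_mem _ (Subgroup.mul_mem _ (hEP ha) (hEP hb))
        (Subgroup.inv_mem _ (Subgroup.mul_mem _ (hEP hb) (hEP ha)))) h1
      exact mul_inv_eq_one.1 h2
    · intro a ha
      apply hinj _ (Subgroup.pow_mem _ (hEP ha) p)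
      rw [map_pow]
      exact hB.2 _ (hEB a ha)
  have h1 := hr E hE.1 hE.2
  have h2 : Nat.card B ≤ Nat.card E := by
    rw [← hmap]
    exact Nat.le_of_dvd Nat.card_pos (Subgroup.card_map_dvd _ _)
  exact h2.trans h1

theorem normal_of_commutator_le (S : Subgroup G) (h : commutator G ≤ S) : S.Normal := by
  constructor
  intro n hn g
  have h1 : ⁅g, n⁆ ∈ commutator G := by
    rw [commutator_def]
    exact Subgroup.commutator_mem_commutator (Subgroup.mem_top g) (Subgroup.mem_top n)
  have h2 : g * n * g⁻¹ = ⁅g, n⁆ * n := by rw [commutatorElement_def]; group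
  rw [h2]
  exact S.mul_mem (h h1) hn

/-- core of BG 4.18: in a solvable group of odd order and `p`-rank `≤ 2`, `G / O_{p'}(G)` has a
`p`-group as derived subgroup and all its prime divisors are `≤ p`. -/
theorem bg418_core [hs : Group.IsSolvable G] (hodd : Odd (Nat.card G)) {p : ℕ} [hp : Fact p.Prime]
    (hp2 : p ≠ 2) (hr : PRankLE p 2 G) :
    IsPGroup p (commutator (G ⧸ pPrimeCore p G)) ∧
      ∀ q : ℕ, q.Prime → q ∣ Nat.card (G ⧸ pPrimeCore p G) → q ≤ p := by
  have hK : (Nat.card (pPrimeCore p G)).Coprime p := helper1.pPrimeCore_coprime p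
  have hoddQ : Odd (Nat.card (G ⧸ pPrimeCore p G)) :=
    hodd.of_dvd_nat (Subgroup.card_quotient_dvd_card _)
  have hO : pPrimeCore p (G ⧸ pPrimeCore p G) = ⊥ := helper9.pPrimeCore_quotient_eq_bot p
  have hps : PSReach p (⊤ : Subgroup (G ⧸ pPrimeCore p G)) :=
    psreach_top_of_solvable p _ (G ⧸ pPrimeCore p G) rfl
  have hHH := hall_higman_123 hps hO
  have hR : IsPGroup p (pCore p (G ⧸ pPrimeCore p G)) := helper1.pCore_isPGroup p
  have hrk : ∀ B : Subgroup (G ⧸ pPrimeCore p G), B ≤ pCore p (G ⧸ pPrimeCore p G) →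
      IsElementaryAbelian p B → Nat.card B ≤ p ^ 2 :=
    fun B _ hB => card_ea_quotient_le _ hK hr B hB
  constructor
  · apply helper10.isPGroup_of_coprime_trivial
    intro b hb hcop
    rw [commutator_def] at hb
    have hoddT : Odd (Nat.card (⊤ : Subgroup (G ⧸ pPrimeCore p G))) := by
      rw [Subgroup.card_top]; exact hoddQ
    have h1 := comm_pprime_centralizes hp2 (pCore p (G ⧸ pPrimeCore p G)) ⊤ hR hrk inferInstance
      hoddT b hb hcop
    exact helper10.eq_one_of_isPGroup_of_coprime hR (hHH h1) hcop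
  · intro q hq hqd
    by_cases hqp : q = p
    · exact hqp.le
    · haveI : Fact q.Prime := ⟨hq⟩
      have hq2 : q ≠ 2 := by
        intro h2
        rw [h2] at hqd
        exact (Nat.not_even_iff_odd.2 hoddQ) (even_iff_two_dvd.2 hqd)
      obtain ⟨b, hb⟩ := exists_prime_orderOf_dvd_card' q hqd
      have hcop : (orderOf b).Coprime p := by
        rw [hb]; exact (Nat.coprime_primes hq hp.out).2 hqp
      have hbR : b ∉ Subgroup.centralizer ((pCore p (G ⧸ pPrimeCore p G) : Subgroup _) : Set _) := by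
        intro h1
        have h2 := helper10.eq_one_of_isPGroup_of_coprime hR (hHH h1) hcop
        rw [h2, orderOf_one] at hb
        exact hq.one_lt.ne hb
      exact (prime_bound hqp hq2 hp2 (pCore p (G ⧸ pPrimeCore p G)) hR hrk b hb hbR).le

end

end Cfsg.Agent.helper23

namespace Cfsg.Agent.helper23

section
variable {G : Type*} [Group G] [Finite G]

theorem map_mk_mem_commutator (K : Subgroup G) [K.Normal] {x : G} (hx : x ∈ commutator G) :
    QuotientGroup.mk' K x ∈ commutator (G ⧸ K) := by
  have h1 : (commutator G).map (QuotientGroup.mk' K) ≤ commutator (G ⧸ K) := by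
    rw [commutator_def, commutator_def, Subgroup.map_commutator]
    exact Subgroup.commutator_mono le_top le_top
  exact h1 (Subgroup.mem_map_of_mem _ hx)

/-- the consequences of the core facts (BG 4.18). -/
theorem bg418_of_core (hodd : Odd (Nat.card G)) {p : ℕ} [hp : Fact p.Prime]
    (hc1 : IsPGroup p (commutator (G ⧸ pPrimeCore p G)))
    (hc2 : ∀ q : ℕ, q.Prime → q ∣ Nat.card (G ⧸ pPrimeCore p G) → q ≤ p) :
    (∀ q : ℕ, q.Prime → q ∣ (pPrimeCore p G).index → q ≤ p) ∧
      ((p = 3 ∨ ∀ q : ℕ, q.Prime → q ∣ Nat.card G → p ≤ q) → HasNormalPComplement p G) ∧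
      HasNormalPComplement p ↥(commutator G) ∧
      (∀ L : Subgroup ↥(commutator G), (Nat.card L).Coprime p →
        L ≤ pPrimeCore p ↥(commutator G)) ∧
      commutator G ≤ pPrimePCore p G ∧ ((pPrimePCore p G).index).Coprime p := by
  have hK : (Nat.card (pPrimeCore p G)).Coprime p := helper1.pPrimeCore_coprime p
  have hoddQ : Odd (Nat.card (G ⧸ pPrimeCore p G)) :=
    hodd.of_dvd_nat (Subgroup.card_quotient_dvd_card _)
  have hcomQ : commutator (G ⧸ pPrimeCore p G) ≤ pCore p (G ⧸ pPrimeCore p G) :=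
    helper1.le_pCore inferInstance hc1
  -- the normal p'-subgroup of the commutator subgroup
  obtain ⟨N, hNdef⟩ : ∃ N : Subgroup ↥(commutator G), N = (pPrimeCore p G).subgroupOf (commutator G) :=
    ⟨_, rfl⟩
  haveI hNn : N.Normal := by rw [hNdef]; infer_instance
  have hNcop : (Nat.card N).Coprime p := by
    have hle0 : ∀ y : ↥(commutator G), y ∈ N → (y : G) ∈ pPrimeCore p G := by
      intro y hy
      rw [hNdef] at hy
      exact Subgroup.mem_subgroupOf.1 hy
    have hle : ∀ x : ↥N, ((x : ↥(commutator G)) : G) ∈ pPrimeCore p G := fun x => hle0 x x.2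
    let f : ↥N →* ↥(pPrimeCore p G) :=
      { toFun := fun x => ⟨((x : ↥(commutator G)) : G), hle x⟩
        map_one' := rfl
        map_mul' := fun _ _ => rfl }
    have hf : Function.Injective f := by
      intro a b hab
      have h1 : ((a : ↥(commutator G)) : G) = ((b : ↥(commutator G)) : G) :=
        congrArg (fun t : ↥(pPrimeCore p G) => (t : G)) hab
      exact Subtype.ext (Subtype.ext h1)
    exact Nat.Coprime.coprime_dvd_left (Subgroup.card_dvd_of_injective f hf) hK
  have hNmem : ∀ x : ↥(commutator G), (x : G) ∈ pPrimeCore p G → x ∈ N := by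
    intro x hx
    rw [hNdef]
    exact Subgroup.mem_subgroupOf.2 hx
  have hpk : ∀ x : ↥(commutator G), ∃ k : ℕ, (x : G) ^ (p ^ k) ∈ pPrimeCore p G := by
    intro x
    obtain ⟨k, hk⟩ := hc1 ⟨_, map_mk_mem_commutator (pPrimeCore p G) x.2⟩
    refine ⟨k, ?_⟩
    have h1 : (QuotientGroup.mk' (pPrimeCore p G) (x : G)) ^ (p ^ k) = 1 :=
      congrArg (fun t : ↥(commutator (G ⧸ pPrimeCore p G)) => (t : G ⧸ pPrimeCore p G)) hk
    rw [← map_pow] at h1
    exact (QuotientGroup.eq_one_iff _).1 h1
  refine ⟨?_, ?_, ?_, ?_, ?_, ?_⟩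
  · intro q hq hqd
    rw [Subgroup.index_eq_card] at hqd
    exact hc2 q hq hqd
  · intro hcase
    have hall : ∀ {q : ℕ}, q.Prime → q ∣ Nat.card (G ⧸ pPrimeCore p G) → q = p := by
      intro q hq hqd
      have hle := hc2 q hq hqd
      rcases hcase with h3 | hmin
      · have hq2 : q ≠ 2 := by
          intro h2
          rw [h2] at hqd
          exact (Nat.not_even_iff_odd.2 hoddQ) (even_iff_two_dvd.2 hqd)
        have := hq.two_le
        omega
      · exact le_antisymm hle (hmin q hq (hqd.trans (Subgroup.card_quotient_dvd_card _)))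
    have hQ : IsPGroup p (G ⧸ pPrimeCore p G) :=
      IsPGroup.of_card (Nat.eq_prime_pow_of_unique_prime_dvd Nat.card_pos.ne' hall)
    exact helper10.npc_of_quotient_coprime (pPrimeCore p G) hK (helper10.npc_of_isPGroup hQ)
  · apply helper10.npc_of_quotient_coprime N hNcop
    apply helper10.npc_of_isPGroup
    intro u
    induction u using QuotientGroup.induction_on with
    | H x =>
      obtain ⟨k, hk⟩ := hpk x
      refine ⟨k, ?_⟩
      rw [← QuotientGroup.mk_pow, QuotientGroup.eq_one_iff]
      apply hNmem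
      rw [Subgroup.coe_pow]
      exact hk
  · intro L hL
    have hLN : L ≤ N := by
      intro l hl
      apply hNmem
      have hcop : (orderOf (QuotientGroup.mk' (pPrimeCore p G) (l : G))).Coprime p := by
        have h1 : orderOf (QuotientGroup.mk' (pPrimeCore p G) (l : G)) ∣ orderOf (l : G) :=
          orderOf_map_dvd _ _
        have h2 : orderOf (l : G) = orderOf l := Subgroup.orderOf_coe l
        have h3 : orderOf l ∣ Nat.card L := Subgroup.orderOf_dvd_natCard L hl
        exact Nat.Coprime.coprime_dvd_left (h1.trans (h2 ▸ h3)) hL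
      have h4 := helper10.eq_one_of_isPGroup_of_coprime hc1
        (map_mk_mem_commutator (pPrimeCore p G) l.2) hcop
      exact (QuotientGroup.eq_one_iff _).1 h4
    exact hLN.trans (helper1.le_pPrimeCore hNn hNcop)
  · intro x hx
    unfold pPrimePCore
    rw [Subgroup.mem_comap]
    exact hcomQ (map_mk_mem_commutator (pPrimeCore p G) hx)
  · unfold pPrimePCore
    rw [Subgroup.index_comap_of_surjective _ (QuotientGroup.mk'_surjective _)]
    obtain ⟨S⟩ : Nonempty (Sylow p (G ⧸ pPrimeCore p G)) := inferInstance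
    have hle : pCore p (G ⧸ pPrimeCore p G) ≤ (S : Subgroup (G ⧸ pPrimeCore p G)) :=
      helper1.pCore_le_sylow S
    have hSn : (S : Subgroup (G ⧸ pPrimeCore p G)).Normal :=
      normal_of_commutator_le _ (hcomQ.trans hle)
    have heq : pCore p (G ⧸ pPrimeCore p G) = (S : Subgroup (G ⧸ pPrimeCore p G)) :=
      le_antisymm hle (helper1.le_pCore hSn S.isPGroup')
    rw [heq, Nat.coprime_comm, hp.out.coprime_iff_not_dvd]
    exact S.not_dvd_index

end

end Cfsg.Agent.helper23
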