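import Mathlib
import Cfsg.Agent.Lib_helper23_BG4c
import Cfsg.Agent.S0044

/-!
Solvable groups of odd order whose Fitting subgroup has rank at most two: the derived subgroup is
nilpotent (Bender–Glauberman 4.20-type).
-/

set_option autoImplicit false
set_option linter.style.haveILetI false
open Cfsg
open scoped commutatorElement

namespace Cfsg.Agent.helper23

section
variable {G : Type*} [Group G] [Finite G]

theorem secAut_eq_one_of_centralizes (N M : Subgroup G) [hN : N.Normal] [hM : M.Normal] (g : G)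
    (hg : ∀ n ∈ N, g * n = n * g) : secAut N M g = 1 := by
  apply MulEquiv.ext
  intro u
  induction u using QuotientGroup.induction_on with
  | H x =>
    rw [secAut_mk, MulAut.one_apply]
    congr 1
    apply Subtype.ext
    rw [MulAut.conjNormal_apply, hg x x.2, mul_inv_cancel_right]

/-- version of `sec_prime_bound` where only `b ^ q` is assumed to centralize `N` -/
theorem sec_prime_bound' {p q : ℕ} [hp : Fact p.Prime] [hq : Fact q.Prime]
    (hqp : q ≠ p) (hq2 : q ≠ 2) (hp2 : p ≠ 2)
    (N M : Subgroup G) [hN : N.Normal] [hM : M.Normal] (hMN : M ≤ N)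
    (hexp : ∀ x ∈ N, x ^ p ∈ M) (hcard : Nat.card N ≤ p ^ 2 * Nat.card M)
    (b : G) (hbq : ∀ n ∈ N, b ^ q * n = n * b ^ q) (hb : ¬ ∀ n ∈ N, b * n * b⁻¹ * n⁻¹ ∈ M) :
    q < p := by
  obtain ⟨he, hc⟩ := sec_quot_facts N M hMN hexp hcard
  apply aut_prime_bound hqp hq2 hp2 he hc (secAut N M b)
  · intro h1
    apply hb
    intro n hn
    have h2 := congrArg (fun φ : MulAut (↥N ⧸ M.subgroupOf N) => φ (QuotientGroup.mk ⟨n, hn⟩)) h1
    simp only [MulAut.one_apply] at h2
    rw [secAut_mk, QuotientGroup.eq_iff_div_mem, Subgroup.mem_subgroupOf] at h2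
    have h3 : ((MulAut.conjNormal b (⟨n, hn⟩ : ↥N) / (⟨n, hn⟩ : ↥N) : ↥N) : G) =
        b * n * b⁻¹ * n⁻¹ := by
      rw [div_eq_mul_inv, Subgroup.coe_mul, MulAut.conjNormal_apply, Subgroup.coe_inv]
    rw [h3] at h2
    exact h2
  · rw [← map_pow]
    exact secAut_eq_one_of_centralizes N M _ hbq

theorem prime_bound' {p q : ℕ} [hp : Fact p.Prime] [hq : Fact q.Prime]
    (hqp : q ≠ p) (hq2 : q ≠ 2) (hp2 : p ≠ 2) (R : Subgroup G)
    [hRn : R.Normal] (hR : IsPGroup p R)
    (hrk : ∀ B : Subgroup G, B ≤ R → IsElementaryAbelian p B → Nat.card B ≤ p ^ 2)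
    (b : G) (hcop : (orderOf b).Coprime p) (hbq : b ^ q ∈ Subgroup.centralizer (R : Set G))
    (hb : b ∉ Subgroup.centralizer (R : Set G)) : q < p := by
  obtain ⟨D, Z, hDn, hZn, hZD, hDR, hZcomm, hZexp, hZcard, hDcomm, hDexp, hDcard, hfin⟩ :=
    exists_small_sections hp2 R hR hrk
  haveI := hDn
  haveI := hZn
  have hcen : ∀ n ∈ R, b ^ q * n = n * b ^ q := fun n hn =>
    (Subgroup.mem_centralizer_iff.1 hbq n hn).symm
  by_contra hlt
  apply hb
  apply hfin b hcop
  · by_contra h1
    exact hlt (sec_prime_bound' hqp hq2 hp2 Z ⊥ bot_le hZexp hZcard b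
      (fun n hn => hcen n (hDR (hZD hn))) h1)
  · by_contra h1
    exact hlt (sec_prime_bound' hqp hq2 hp2 D Z hZD hDexp hDcard b
      (fun n hn => hcen n (hDR hn)) h1)

/-- an element all of whose prime divisors of the order exceed `p` centralizes a normal `p`-subgroup
of rank at most two (odd order) -/
theorem centralizes_of_large_primes {p : ℕ} [hp : Fact p.Prime] (hp2 : p ≠ 2) (hodd : Odd (Nat.card G))
    (R : Subgroup G) [hRn : R.Normal] (hR : IsPGroup p R)
    (hrk : ∀ B : Subgroup G, B ≤ R → IsElementaryAbelian p B → Nat.card B ≤ p ^ 2) :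
    ∀ (n : ℕ) (h : G), orderOf h = n → (∀ r : ℕ, r.Prime → r ∣ orderOf h → p < r) →
      h ∈ Subgroup.centralizer (R : Set G) := by
  intro n
  induction n using Nat.strong_induction_on with
  | _ n ih =>
    intro h hn hpr
    by_contra hnot
    have hne : orderOf h ≠ 1 := by
      intro h1
      rw [orderOf_eq_one_iff] at h1
      rw [h1] at hnot
      exact hnot (Subgroup.one_mem _)
    obtain ⟨r, hr, hrd⟩ := Nat.exists_prime_and_dvd hne
    haveI : Fact r.Prime := ⟨hr⟩
    have hpos : 0 < orderOf h := orderOf_pos h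
    have hord : orderOf (h ^ r) = orderOf h / r := by
      rw [orderOf_pow' h hr.ne_zero, Nat.gcd_eq_right hrd]
    have hlt : orderOf (h ^ r) < n := by
      rw [hord, ← hn]
      exact Nat.div_lt_self hpos hr.one_lt
    have hdvd : orderOf (h ^ r) ∣ orderOf h := by
      rw [hord]; exact Nat.div_dvd_of_dvd hrd
    have h1 : h ^ r ∈ Subgroup.centralizer (R : Set G) :=
      ih _ hlt (h ^ r) rfl (fun s hs hsd => hpr s hs (hsd.trans hdvd))
    have hcop : (orderOf h).Coprime p := by
      apply Nat.Coprime.symm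
      rw [hp.out.coprime_iff_not_dvd]
      intro hpd
      exact lt_irrefl p (hpr p hp.out hpd)
    have hrp : r ≠ p := fun e => lt_irrefl p (e ▸ hpr r hr hrd)
    have hr2 : r ≠ 2 := by
      intro e
      rw [e] at hrd
      have h2 : 2 ∣ Nat.card G := hrd.trans (orderOf_dvd_natCard h)
      exact (Nat.not_even_iff_odd.2 hodd) (even_iff_two_dvd.2 h2)
    have hlt' := prime_bound' hrp hr2 hp2 R hR hrk h hcop h1 hnot
    exact lt_asymm hlt' (hpr r hr hrd)

end

end Cfsg.Agent.helper23

namespace Cfsg.Agent.helper23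

section
variable {G : Type*} [Group G] [Finite G]

theorem pCore_two_eq_bot (hodd : Odd (Nat.card G)) : pCore 2 G = ⊥ := by
  haveI : Fact (Nat.Prime 2) := ⟨Nat.prime_two⟩
  obtain ⟨k, hk⟩ := (helper1.pCore_isPGroup (G := G) 2).exists_card_eq
  have hodd' : Odd (Nat.card (pCore 2 G)) := hodd.of_dvd_nat (Subgroup.card_subgroup_dvd_card _)
  rw [← Subgroup.card_eq_one, hk]
  rcases Nat.eq_zero_or_pos k with h0 | h0
  · rw [h0, pow_zero]
  · exfalso
    rw [hk] at hodd'
    exact (Nat.not_even_iff_odd.2 hodd') ((Nat.even_pow' h0.ne').2 even_two)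

/-- `q'`-elements of `G'` centralize `O_q(G)` when the Fitting subgroup has rank at most two. -/
theorem comm_coprime_centralizes_pCore [hs : Group.IsSolvable G] (hodd : Odd (Nat.card G))
    (hF : ∀ q : ℕ, q.Prime → ∀ B : Subgroup G, B ≤ pCore q G → IsElementaryAbelian q B →
      Nat.card B ≤ q ^ 2)
    (q : ℕ) [hq : Fact q.Prime] (x : G) (hx : x ∈ commutator G) (hcop : (orderOf x).Coprime q) :
    x ∈ Subgroup.centralizer ((pCore q G : Subgroup G) : Set G) := by
  by_cases hq2 : q = 2
  · subst hq2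
    rw [pCore_two_eq_bot hodd]
    have : Subgroup.centralizer (((⊥ : Subgroup G) : Subgroup G) : Set G) = ⊤ := by
      rw [Subgroup.centralizer_eq_top_iff_subset]
      intro z hz
      rw [SetLike.mem_coe, Subgroup.mem_bot] at hz
      rw [hz]
      exact Subgroup.one_mem _
    rw [this]
    exact Subgroup.mem_top x
  · have hoddT : Odd (Nat.card (⊤ : Subgroup G)) := by
      rw [Subgroup.card_top]; exact hodd
    rw [commutator_def] at hx
    exact comm_pprime_centralizes hq2 (pCore q G) ⊤ (helper1.pCore_isPGroup q) (hF q hq.out)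
      inferInstance hoddT x hx hcop

/-- in `G'`, a `q`-element and a `q'`-element commute -/
theorem comm_commute_of_coprime [hs : Group.IsSolvable G] (hodd : Odd (Nat.card G))
    (hF : ∀ q : ℕ, q.Prime → ∀ B : Subgroup G, B ≤ pCore q G → IsElementaryAbelian q B →
      Nat.card B ≤ q ^ 2)
    (q : ℕ) [hq : Fact q.Prime] (x y : G) (hx : x ∈ commutator G) (hy : y ∈ commutator G)
    (hxq : ∃ a : ℕ, orderOf x = q ^ a) (hyq : (orderOf y).Coprime q) : x * y = y * x := by
  obtain ⟨a, ha⟩ := hxq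
  obtain ⟨c, hcdef⟩ : ∃ c : G, c = ⁅x, y⁆ := ⟨_, rfl⟩
  have hcxy : c = x * y * x⁻¹ * y⁻¹ := by rw [hcdef, commutatorElement_def]
  have hyC : y ∈ Subgroup.centralizer ((pCore q G : Subgroup G) : Set G) :=
    comm_coprime_centralizes_pCore hodd hF q y hy hyq
  -- `x` centralizes `O_r(G)` for `r ≠ q`
  have hxC : ∀ r : ℕ, r.Prime → r ≠ q →
      x ∈ Subgroup.centralizer ((pCore r G : Subgroup G) : Set G) := by
    intro r hr hrq
    haveI : Fact r.Prime := ⟨hr⟩
    apply comm_coprime_centralizes_pCore hodd hF r x hx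
    rw [ha]
    exact Nat.Coprime.pow_left a ((Nat.coprime_primes hq.out hr).2 (Ne.symm hrq))
  -- `c` centralizes every `O_r(G)`
  have hcC : ∀ r : ℕ, r.Prime → c ∈ Subgroup.centralizer ((pCore r G : Subgroup G) : Set G) := by
    intro r hr
    haveI : (pCore r G).Normal := helper1.pCore_normal r
    haveI hCn : (Subgroup.centralizer ((pCore r G : Subgroup G) : Set G)).Normal :=
      Subgroup.normal_centralizer
    by_cases hrq : r = q
    · subst hrq
      have h1 : c = (x * y * x⁻¹) * y⁻¹ := hcxy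
      rw [h1]
      exact Subgroup.mul_mem _ (hCn.conj_mem y hyC x) (Subgroup.inv_mem _ hyC)
    · have h1 : c = x * (y * x⁻¹ * y⁻¹) := by rw [hcxy]; group
      rw [h1]
      exact Subgroup.mul_mem _ (hxC r hr hrq)
        (hCn.conj_mem x⁻¹ (Subgroup.inv_mem _ (hxC r hr hrq)) y)
  -- `c ∈ C(F) ≤ F`
  have hcCF : c ∈ Subgroup.centralizer ((fittingSubgroup G : Subgroup G) : Set G) := by
    have hle : fittingSubgroup G ≤ Subgroup.centralizer ({c} : Set G) := by
      rw [helper1.fitting_eq_iSup_pCore]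
      apply iSup_le
      intro r z hz
      rw [Subgroup.mem_centralizer_iff]
      intro w hw
      rw [Set.mem_singleton_iff] at hw
      rw [hw]
      exact (Subgroup.mem_centralizer_iff.1 (hcC r r.2) z hz).symm
    rw [Subgroup.mem_centralizer_iff]
    intro z hz
    exact (Subgroup.mem_centralizer_iff.1 (hle hz) c (Set.mem_singleton c)).symm
  have hcF : c ∈ fittingSubgroup G := S0044.result hcCF
  -- decomposition of `F`
  obtain ⟨L, hLdef⟩ : ∃ L : Subgroup G, L = ⨆ r : {r : Nat.Primes // (r : ℕ) ≠ q}, pCore (r : ℕ) G :=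
    ⟨_, rfl⟩
  haveI hLn : L.Normal := by
    rw [hLdef]
    haveI : ∀ r : {r : Nat.Primes // (r : ℕ) ≠ q}, (pCore ((r : Nat.Primes) : ℕ) G).Normal :=
      fun r => helper1.pCore_normal _
    exact Subgroup.iSup_normal _
  haveI hOn : (pCore q G).Normal := helper1.pCore_normal q
  have hFle : fittingSubgroup G ≤ pCore q G ⊔ L := by
    rw [helper1.fitting_eq_iSup_pCore]
    apply iSup_le
    intro r
    by_cases hrq : (r : ℕ) = q
    · rw [hrq]; exact le_sup_left
    · refine le_trans ?_ le_sup_right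
      rw [hLdef]
      exact le_iSup (fun r : {r : Nat.Primes // (r : ℕ) ≠ q} => pCore (r : ℕ) G) ⟨r, hrq⟩
  have hLK : L ≤ pPrimeCore q G := by
    rw [hLdef]
    apply iSup_le
    rintro ⟨r, hrq⟩
    apply helper1.le_pPrimeCore (helper1.pCore_normal (r : ℕ))
    exact helper1.coprime_card_of_isPGroup_ne hq.out r.2 hrq (helper1.pCore_isPGroup (r : ℕ))
  have hLx : L ≤ Subgroup.centralizer ({x} : Set G) := by
    rw [hLdef]
    apply iSup_le
    rintro ⟨r, hrq⟩ z hz
    rw [Subgroup.mem_centralizer_iff]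
    intro w hw
    rw [Set.mem_singleton_iff] at hw
    rw [hw]
    exact (Subgroup.mem_centralizer_iff.1 (hxC r r.2 hrq) z hz).symm
  obtain ⟨a', ha'O, b, hbL, hab⟩ := (Subgroup.mem_sup_of_normal_left).1 (hFle hcF)
  -- first half: `b = 1`
  have hxb : x * b = b * x := by
    have := Subgroup.mem_centralizer_iff.1 (hLx hbL) x (Set.mem_singleton x)
    exact this
  have hb1 : b = 1 := by
    -- work in the quotient by `O_q(G)`
    set π := QuotientGroup.mk' (pCore q G) with hπ
    have hπc : π c = π b := by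
      rw [← hab, map_mul]
      have : π a' = 1 := (QuotientGroup.eq_one_iff a').2 ha'O
      rw [this, one_mul]
    have hrel : x⁻¹ * c = y * x⁻¹ * y⁻¹ := by rw [hcxy]; group
    have hk : (π x⁻¹ * π b) ^ (q ^ a) = 1 := by
      rw [← hπc, ← map_mul, hrel, ← map_pow, conj_pow, inv_pow, ← ha, pow_orderOf_eq_one, inv_one,
        mul_one, mul_inv_cancel, map_one]
    have hcomm : Commute (π x⁻¹) (π b) := by
      show π x⁻¹ * π b = π b * π x⁻¹
      rw [← map_mul, ← map_mul]
      congr 1
      calc x⁻¹ * b = x⁻¹ * (b * x) * x⁻¹ := by group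
        _ = x⁻¹ * (x * b) * x⁻¹ := by rw [hxb]
        _ = b * x⁻¹ := by group
    rw [hcomm.mul_pow, ← map_pow, ← map_pow, inv_pow, ← ha, pow_orderOf_eq_one, inv_one, map_one,
      one_mul] at hk
    have hbk : b ^ orderOf x ∈ pCore q G := (QuotientGroup.eq_one_iff _).1 hk
    have hbk' : b ^ orderOf x ∈ pPrimeCore q G := Subgroup.pow_mem _ (hLK hbL) _
    have hcopb : (orderOf b).Coprime q :=
      Nat.Coprime.coprime_dvd_left (Subgroup.orderOf_dvd_natCard _ (hLK hbL))
        (helper1.pPrimeCore_coprime q)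
    have hbk1 : b ^ orderOf x = 1 := by
      apply helper10.eq_one_of_isPGroup_of_coprime (helper1.pCore_isPGroup q) hbk
      exact Nat.Coprime.coprime_dvd_left (orderOf_pow_dvd _) hcopb
    have h1 : orderOf b ∣ orderOf x := orderOf_dvd_of_pow_eq_one hbk1
    rw [ha] at h1
    have h2 : orderOf b = 1 :=
      Nat.Coprime.eq_one_of_dvd (Nat.Coprime.pow_right a hcopb) h1
    exact orderOf_eq_one_iff.1 h2
  have hcO : c ∈ pCore q G := by
    rw [← hab, hb1, mul_one]; exact ha'O
  -- second half: `c = 1`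
  have hyc : y * c = c * y := (Subgroup.mem_centralizer_iff.1 hyC c hcO).symm
  have hrel2 : x * y * x⁻¹ = c * y := by rw [hcxy]; group
  have hcm : c ^ orderOf y = 1 := by
    have h1 : (c * y) ^ orderOf y = 1 := by
      rw [← hrel2, conj_pow, pow_orderOf_eq_one, mul_one, mul_inv_cancel]
    have hcomm : Commute c y := hyc.symm
    rw [hcomm.mul_pow, pow_orderOf_eq_one, mul_one] at h1
    exact h1
  have hc1 : c = 1 := by
    apply helper10.eq_one_of_isPGroup_of_coprime (helper1.pCore_isPGroup q) hcO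
    exact Nat.Coprime.coprime_dvd_left (orderOf_dvd_of_pow_eq_one hcm) hyq
  rw [hcdef] at hc1
  exact (commutatorElement_eq_one_iff_commute.1 hc1).eq

end

end Cfsg.Agent.helper23
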