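import Mathlib
import Cfsg.Agent.Lib_helper23_BG4d

/-!
Nilpotency from commuting of coprime-order elements, and the consequences for solvable groups of odd
order whose Fitting subgroup has rank at most two.
-/

set_option autoImplicit false
set_option linter.style.haveILetI false
open Cfsg
open scoped commutatorElement

namespace Cfsg.Agent.helper23

section nil
variable {X : Type*} [Group X] [Finite X]

/-- the `q'`-part of an element: a `q`-power power of it has order prime to `q` -/
theorem exists_pow_coprime (q : ℕ) [hq : Fact q.Prime] (g : X) :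
    ∃ k : ℕ, (orderOf (g ^ (q ^ k))).Coprime q := by
  have hn : orderOf g ≠ 0 := (orderOf_pos g).ne'
  refine ⟨(orderOf g).factorization q, ?_⟩
  have hpk : q ^ (orderOf g).factorization q ≠ 0 := pow_ne_zero _ hq.out.ne_zero
  have hord : orderOf (g ^ (q ^ (orderOf g).factorization q)) =
      orderOf g / q ^ (orderOf g).factorization q := by
    rw [orderOf_pow' _ hpk]
    congr 1
    exact Nat.gcd_eq_right (Nat.ordProj_dvd _ q)
  rw [hord]
  exact (Nat.coprime_ordCompl hq.out hn).symm

/-- a finite group in which `q`-elements commute with `q'`-elements (all primes `q`) is nilpotent -/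
theorem nilpotent_of_coprime_commute
    (h : ∀ (q : ℕ), q.Prime → ∀ x y : X, (∃ a : ℕ, orderOf x = q ^ a) → (orderOf y).Coprime q →
      x * y = y * x) : Group.IsNilpotent X := by
  apply ((Group.isNilpotent_of_finite_tfae (G := X)).out 0 3 rfl rfl).2
  intro q hq P
  haveI := hq
  obtain ⟨H, hHdef⟩ : ∃ H : Subgroup X, H = Subgroup.closure {y : X | (orderOf y).Coprime q} :=
    ⟨_, rfl⟩
  have hHcen : H ≤ Subgroup.centralizer ((P : Subgroup X) : Set X) := by
    rw [hHdef, Subgroup.closure_le]
    intro y hy
    rw [SetLike.mem_coe, Subgroup.mem_centralizer_iff]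
    intro x hx
    have hxo : ∃ a : ℕ, orderOf x = q ^ a := by
      obtain ⟨a, ha⟩ := (IsPGroup.iff_orderOf.1 P.isPGroup') ⟨x, hx⟩
      exact ⟨a, by rw [← ha, Subgroup.orderOf_mk]⟩
    exact h q hq.out x y hxo hy
  haveI hHn : H.Normal := by
    constructor
    intro n hn g
    rw [hHdef] at hn ⊢
    induction hn using Subgroup.closure_induction with
    | mem y hy =>
      apply Subgroup.subset_closure
      show (orderOf (g * y * g⁻¹)).Coprime q
      have : orderOf (g * y * g⁻¹) = orderOf y := by
        have := orderOf_injective (MulAut.conj g).toMonoidHom (MulAut.conj g).injective y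
        simpa using this
      rw [this]; exact hy
    | one => rw [mul_one, mul_inv_cancel]; exact Subgroup.one_mem _
    | mul a b _ _ iha ihb =>
      have : g * (a * b) * g⁻¹ = (g * a * g⁻¹) * (g * b * g⁻¹) := by group
      rw [this]; exact Subgroup.mul_mem _ iha ihb
    | inv a _ iha =>
      have : g * a⁻¹ * g⁻¹ = (g * a * g⁻¹)⁻¹ := by group
      rw [this]; exact Subgroup.inv_mem _ iha
  have hQ : IsPGroup q (X ⧸ H) := by
    intro u
    induction u using QuotientGroup.induction_on with
    | H g =>
      obtain ⟨k, hk⟩ := exists_pow_coprime q g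
      refine ⟨k, ?_⟩
      rw [← QuotientGroup.mk_pow, QuotientGroup.eq_one_iff, hHdef]
      exact Subgroup.subset_closure hk
  have hidx : ((P : Subgroup X) ⊔ H).index = 1 := by
    obtain ⟨j, hj⟩ := hQ.exists_card_eq
    have h1 : ((P : Subgroup X) ⊔ H).index ∣ q ^ j := by
      rw [← hj, ← Subgroup.index_eq_card]
      exact Subgroup.index_dvd_of_le le_sup_right
    have h2 : ((P : Subgroup X) ⊔ H).index ∣ (P : Subgroup X).index :=
      Subgroup.index_dvd_of_le le_sup_left
    have h3 : ((P : Subgroup X).index).Coprime q := by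
      rw [Nat.coprime_comm, hq.out.coprime_iff_not_dvd]
      exact P.not_dvd_index
    exact Nat.Coprime.eq_one_of_dvd
      (Nat.Coprime.coprime_dvd_left h2 (Nat.Coprime.pow_right j h3)) h1
  have htop : (P : Subgroup X) ⊔ H = ⊤ := Subgroup.index_eq_one.1 hidx
  rw [← Subgroup.normalizer_eq_top_iff, eq_top_iff, ← htop]
  apply sup_le
  · exact Subgroup.le_normalizer
  · exact hHcen.trans (Subgroup.centralizer_le_normalizer _)

end nil

section
variable {G : Type*} [Group G] [Finite G]

/-- `G'` is nilpotent when the Fitting subgroup has rank at most two (solvable, odd order). -/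
theorem commutator_nilpotent [hs : Group.IsSolvable G] (hodd : Odd (Nat.card G))
    (hF : ∀ q : ℕ, q.Prime → ∀ B : Subgroup G, B ≤ pCore q G → IsElementaryAbelian q B →
      Nat.card B ≤ q ^ 2) : Group.IsNilpotent ↥(commutator G) := by
  apply nilpotent_of_coprime_commute
  intro q hq x y hx hy
  haveI : Fact q.Prime := ⟨hq⟩
  apply Subtype.ext
  rw [Subgroup.coe_mul, Subgroup.coe_mul]
  apply comm_commute_of_coprime hodd hF q (x : G) (y : G) x.2 y.2
  · obtain ⟨a, ha⟩ := hx
    exact ⟨a, by rw [Subgroup.orderOf_coe, ha]⟩
  · rw [Subgroup.orderOf_coe]; exact hy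

end

end Cfsg.Agent.helper23
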