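import Mathlib

/-!
Counting conjugacy classes of π-elements: `k_π(G) ≤ k_π(N) k_π(G/N)`.
-/

namespace Cfsg.Agent.helper23

/-- `x` is a π-element. -/
def IsPiElt {G : Type*} [Group G] (π : Set ℕ) (x : G) : Prop :=
  ∀ q : ℕ, q.Prime → q ∣ orderOf x → q ∈ π

/-- the class predicate used in the statement -/
def PiClass {G : Type*} [Group G] (π : Set ℕ) (C : ConjClasses G) : Prop :=
  ∀ q : ℕ, q.Prime → (∃ g : G, ConjClasses.mk g = C ∧ q ∣ orderOf g) → q ∈ π

theorem pi_split (π : Set ℕ) (c : ℕ) (hc : c ≠ 0) :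
    ∃ A B : ℕ, A * B = c ∧ (∀ q : ℕ, q.Prime → q ∣ A → q ∈ π) ∧
      (∀ q : ℕ, q.Prime → q ∣ B → q ∉ π) := by
  induction c using Nat.recOnMul with
  | zero => exact absurd rfl hc
  | one =>
    exact ⟨1, 1, rfl, fun q hq h => absurd (Nat.dvd_one.1 h) hq.ne_one,
      fun q hq h => absurd (Nat.dvd_one.1 h) hq.ne_one⟩
  | prime p hp =>
    by_cases hpπ : p ∈ π
    · exact ⟨p, 1, mul_one p,
        fun q hq h => by rw [(Nat.prime_dvd_prime_iff_eq hq hp).1 h]; exact hpπ,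
        fun q hq h => absurd (Nat.dvd_one.1 h) hq.ne_one⟩
    · exact ⟨1, p, one_mul p, fun q hq h => absurd (Nat.dvd_one.1 h) hq.ne_one,
        fun q hq h => by rw [(Nat.prime_dvd_prime_iff_eq hq hp).1 h]; exact hpπ⟩
  | mul a b iha ihb =>
    have ha : a ≠ 0 := fun h => hc (by rw [h, zero_mul])
    have hb : b ≠ 0 := fun h => hc (by rw [h, mul_zero])
    obtain ⟨A1, B1, h1, h1π, h1π'⟩ := iha ha
    obtain ⟨A2, B2, h2, h2π, h2π'⟩ := ihb hb
    refine ⟨A1 * A2, B1 * B2, by rw [← h1, ← h2]; ring, fun q hq h => ?_, fun q hq h => ?_⟩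
    · rcases (Nat.Prime.dvd_mul hq).1 h with h | h
      · exact h1π q hq h
      · exact h2π q hq h
    · rcases (Nat.Prime.dvd_mul hq).1 h with h | h
      · exact h1π' q hq h
      · exact h2π' q hq h

theorem pi_exponents (π : Set ℕ) (c : ℕ) (hc : c ≠ 0) :
    ∃ A e e' : ℕ, (∀ q : ℕ, q.Prime → q ∣ A → q ∈ π) ∧
      (∀ d : ℕ, d ∣ c → (∀ q : ℕ, q.Prime → q ∣ d → q ∈ π) → d ∣ A) ∧
      c ∣ e * A ∧ c ∣ e * e' ∧ e ≡ 1 [MOD A] ∧ e + e' ≡ 1 [MOD c] := by
  obtain ⟨A, B, hAB, hA, hB⟩ := pi_split π c hc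
  have co : Nat.Coprime A B := Nat.coprime_of_dvd (fun k hk hkA hkB => hB k hk hkB (hA k hk hkA))
  obtain ⟨e, he1, he2⟩ := Nat.chineseRemainder co 1 0
  obtain ⟨e', he'1, he'2⟩ := Nat.chineseRemainder co 0 1
  have hBe : B ∣ e := (Nat.modEq_zero_iff_dvd).1 he2
  have hAe' : A ∣ e' := (Nat.modEq_zero_iff_dvd).1 he'1
  refine ⟨A, e, e', hA, ?_, ?_, ?_, he1, ?_⟩
  · intro d hd hdπ
    have cod : Nat.Coprime d B :=
      Nat.coprime_of_dvd (fun k hk hkd hkB => hB k hk hkB (hdπ k hk hkd))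
    rw [← hAB] at hd
    exact cod.dvd_of_dvd_mul_right hd
  · obtain ⟨t, rfl⟩ := hBe
    exact ⟨t, by rw [← hAB]; ring⟩
  · obtain ⟨t, rfl⟩ := hBe
    obtain ⟨s, rfl⟩ := hAe'
    exact ⟨t * s, by rw [← hAB]; ring⟩
  · rw [← hAB]
    refine (Nat.modEq_and_modEq_iff_modEq_mul co).1 ⟨?_, ?_⟩
    · simpa using Nat.ModEq.add he1 he'1
    · simpa using Nat.ModEq.add he2 he'2

section conj
variable {G : Type*} [Group G]

theorem isPiElt_of_piClass {π : Set ℕ} {C : ConjClasses G} (hC : PiClass π C) {x : G}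
    (hx : ConjClasses.mk x = C) : IsPiElt π x :=
  fun q hq hd => hC q hq ⟨x, hx, hd⟩

theorem piClass_mk {π : Set ℕ} {x : G} (hx : IsPiElt π x) : PiClass π (ConjClasses.mk x) := by
  rintro q hq ⟨g, hg, hd⟩
  obtain ⟨c, hc⟩ := isConj_iff.1 (ConjClasses.mk_eq_mk_iff_isConj.1 hg)
  have : orderOf x = orderOf g := by
    rw [← hc]
    exact (MulAut.conj c).orderOf_eq g
  exact hx q hq (this ▸ hd)

theorem exists_conjTo (x : G) : ∃ c : G, c * (ConjClasses.mk x).out * c⁻¹ = x :=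
  isConj_iff.1 (ConjClasses.mk_eq_mk_iff_isConj.1 (Quotient.out_eq (ConjClasses.mk x)))

/-- a chosen conjugating element from the representative of the class of `x` to `x`. -/
noncomputable def conjTo (x : G) : G := Classical.choose (exists_conjTo x)

theorem conjTo_spec (x : G) : conjTo x * (ConjClasses.mk x).out * (conjTo x)⁻¹ = x :=
  Classical.choose_spec (exists_conjTo x)

theorem mk_conj_out (C : ConjClasses G) (g : G) : ConjClasses.mk (g * C.out * g⁻¹) = C := by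
  have h1 : ConjClasses.mk (g * C.out * g⁻¹) = ConjClasses.mk C.out :=
    ConjClasses.mk_eq_mk_iff_isConj.2 (isConj_iff.2 ⟨g⁻¹, by group⟩)
  rw [h1]
  exact Quotient.out_eq C

/-- commuting pairs with π-element first coordinate ≃ π-classes × G -/
noncomputable def piPairsEquiv (π : Set ℕ) :
    {p : G × G // IsPiElt π p.1 ∧ Commute p.1 p.2} ≃ {C : ConjClasses G // PiClass π C} × G where
  toFun p := (⟨ConjClasses.mk p.1.1, piClass_mk p.2.1⟩, p.1.2 * conjTo p.1.1)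
  invFun q :=
    ⟨(q.2 * q.1.1.out * q.2⁻¹, q.2 * (conjTo (q.2 * q.1.1.out * q.2⁻¹))⁻¹), by
      refine ⟨isPiElt_of_piClass q.1.2 (mk_conj_out q.1.1 q.2), ?_⟩
      have hmk := mk_conj_out q.1.1 q.2
      have hspec := conjTo_spec (q.2 * q.1.1.out * q.2⁻¹)
      rw [hmk] at hspec
      show (q.2 * q.1.1.out * q.2⁻¹) * (q.2 * (conjTo (q.2 * q.1.1.out * q.2⁻¹))⁻¹)
        = (q.2 * (conjTo (q.2 * q.1.1.out * q.2⁻¹))⁻¹) * (q.2 * q.1.1.out * q.2⁻¹)
      calc (q.2 * q.1.1.out * q.2⁻¹) * (q.2 * (conjTo (q.2 * q.1.1.out * q.2⁻¹))⁻¹)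
          = (q.2 * (conjTo (q.2 * q.1.1.out * q.2⁻¹))⁻¹) *
            (conjTo (q.2 * q.1.1.out * q.2⁻¹) * q.1.1.out * (conjTo (q.2 * q.1.1.out * q.2⁻¹))⁻¹) := by
            group
        _ = (q.2 * (conjTo (q.2 * q.1.1.out * q.2⁻¹))⁻¹) * (q.2 * q.1.1.out * q.2⁻¹) := by
            rw [hspec]⟩
  left_inv := by
    rintro ⟨⟨x, y⟩, hπ, hcomm⟩
    have hx' : (y * conjTo x) * (ConjClasses.mk x).out * (y * conjTo x)⁻¹ = x := by
      calc (y * conjTo x) * (ConjClasses.mk x).out * (y * conjTo x)⁻¹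
          = y * (conjTo x * (ConjClasses.mk x).out * (conjTo x)⁻¹) * y⁻¹ := by group
        _ = y * x * y⁻¹ := by rw [conjTo_spec]
        _ = x := by
            have h : x * y = y * x := hcomm
            rw [← h, mul_inv_cancel_right]
    apply Subtype.ext
    apply Prod.ext
    · exact hx'
    · show (y * conjTo x) * (conjTo ((y * conjTo x) * (ConjClasses.mk x).out * (y * conjTo x)⁻¹))⁻¹ = y
      rw [hx', mul_inv_cancel_right]
  right_inv := by
    rintro ⟨⟨C, hC⟩, g⟩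
    apply Prod.ext
    · apply Subtype.ext
      exact mk_conj_out C g
    · show (g * (conjTo (g * C.out * g⁻¹))⁻¹) * conjTo (g * C.out * g⁻¹) = g
      rw [inv_mul_cancel_right]

theorem card_piPairs [Finite G] (π : Set ℕ) :
    Nat.card {p : G × G // IsPiElt π p.1 ∧ Commute p.1 p.2} =
      Nat.card {C : ConjClasses G // PiClass π C} * Nat.card G := by
  rw [Nat.card_congr (piPairsEquiv π), Nat.card_prod]

end conj

section main
variable {G : Type*} [Group G] (N : Subgroup G) [N.Normal]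

/-- pick an element of the coset `b` commuting with `x` (if any) -/
noncomputable def pick (x : G) (b : G ⧸ N) : G :=
  haveI := Classical.propDecidable (∃ y : G, (y : G ⧸ N) = b ∧ Commute x y)
  if h : ∃ y : G, (y : G ⧸ N) = b ∧ Commute x y then Classical.choose h else 1

theorem pick_spec (x : G) (b : G ⧸ N) (y : G) (hy : (y : G ⧸ N) = b) (h : Commute x y) :
    ((pick N x b : G) : G ⧸ N) = b ∧ Commute x (pick N x b) := by
  have hex : ∃ y' : G, (y' : G ⧸ N) = b ∧ Commute x y' := ⟨y, hy, h⟩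
  unfold pick
  rw [dif_pos hex]
  exact Classical.choose_spec hex

noncomputable def nOf (p : G × G) : G := (pick N p.1 (p.2 : G ⧸ N))⁻¹ * p.2

noncomputable def mOf (e e' : ℕ) (p : G × G) : G :=
  (pick N ((nOf N p) ^ e) (p.1 : G ⧸ N))⁻¹ * (p.1 * (nOf N p) ^ e')

noncomputable def piMap (e e' : ℕ) (p : G × G) : ((G ⧸ N) × (G ⧸ N)) × (G × G) :=
  (((p.1 : G ⧸ N), (p.2 : G ⧸ N)), ((nOf N p) ^ e, mOf N e e' p))

theorem nOf_mem (p : G × G) (h : Commute p.1 p.2) : nOf N p ∈ N := by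
  obtain ⟨h1, -⟩ := pick_spec N p.1 (p.2 : G ⧸ N) p.2 rfl h
  exact (QuotientGroup.eq).1 h1

theorem nOf_comm (p : G × G) (h : Commute p.1 p.2) : Commute p.1 (nOf N p) := by
  obtain ⟨-, h2⟩ := pick_spec N p.1 (p.2 : G ⧸ N) p.2 rfl h
  exact h2.inv_right.mul_right h

theorem u_comm_xv (e e' : ℕ) (p : G × G) (h : Commute p.1 p.2) :
    Commute ((nOf N p) ^ e) (p.1 * (nOf N p) ^ e') :=
  ((nOf_comm N p h).symm.pow_left e).mul_right ((Commute.refl (nOf N p)).pow_pow e e')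

theorem xv_coset (e' : ℕ) (p : G × G) (h : Commute p.1 p.2) :
    ((p.1 * (nOf N p) ^ e' : G) : G ⧸ N) = (p.1 : G ⧸ N) := by
  rw [QuotientGroup.mk_mul, (QuotientGroup.eq_one_iff _).2 (N.pow_mem (nOf_mem N p h) e'), mul_one]

theorem mOf_mem (e e' : ℕ) (p : G × G) (h : Commute p.1 p.2) : mOf N e e' p ∈ N := by
  obtain ⟨h1, -⟩ := pick_spec N ((nOf N p) ^ e) (p.1 : G ⧸ N) (p.1 * (nOf N p) ^ e')
    (xv_coset N e' p h) (u_comm_xv N e e' p h)
  exact (QuotientGroup.eq).1 (h1.trans (xv_coset N e' p h).symm)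

theorem u_comm_m (e e' : ℕ) (p : G × G) (h : Commute p.1 p.2) :
    Commute ((nOf N p) ^ e) (mOf N e e' p) := by
  obtain ⟨-, h2⟩ := pick_spec N ((nOf N p) ^ e) (p.1 : G ⧸ N) (p.1 * (nOf N p) ^ e')
    (xv_coset N e' p h) (u_comm_xv N e e' p h)
  exact h2.inv_right.mul_right (u_comm_xv N e e' p h)

variable [Finite G]

theorem card_pairs_le (π : Set ℕ) :
    ({p : G × G | IsPiElt π p.1 ∧ Commute p.1 p.2} : Set (G × G)).ncard ≤
      ({p : (G ⧸ N) × (G ⧸ N) | IsPiElt π p.1 ∧ Commute p.1 p.2} : Set _).ncard *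
      ({p : G × G | p.1 ∈ N ∧ p.2 ∈ N ∧ IsPiElt π p.1 ∧ Commute p.1 p.2} : Set (G × G)).ncard := by
  obtain ⟨A, e, e', hA, hdA, heA, hee', he1, hsum⟩ :=
    pi_exponents π (Nat.card G) Nat.card_pos.ne'
  -- group facts
  have F1 : ∀ z : G, z ^ (e + e') = z := fun z => by
    have := (pow_eq_pow_iff_modEq (x := z)).2 (hsum.of_dvd (orderOf_dvd_natCard z))
    rwa [pow_one] at this
  have F2 : ∀ z : G, (z ^ e') ^ e = 1 := fun z => by
    rw [← pow_mul]
    apply orderOf_dvd_iff_pow_eq_one.1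
    exact (orderOf_dvd_natCard z).trans (by rwa [mul_comm] at hee')
  have F3 : ∀ z : G, IsPiElt π (z ^ e) := fun z q hq hd => by
    have h1 : (z ^ e) ^ A = 1 := by
      rw [← pow_mul]
      exact orderOf_dvd_iff_pow_eq_one.1 ((orderOf_dvd_natCard z).trans heA)
    exact hA q hq (hd.trans (orderOf_dvd_of_pow_eq_one h1))
  have F4 : ∀ x : G, IsPiElt π x → x ^ e = x := fun x hx => by
    have hxA : orderOf x ∣ A := hdA _ (orderOf_dvd_natCard x) hx
    have := (pow_eq_pow_iff_modEq (x := x)).2 (he1.of_dvd hxA)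
    rwa [pow_one] at this
  rw [← Set.ncard_prod]
  refine Set.ncard_le_ncard_of_injOn (piMap N e e') ?_ ?_ (Set.toFinite _)
  · rintro p ⟨hπ, hc⟩
    refine ⟨⟨?_, ?_⟩, ?_, ?_, ?_, ?_⟩
    · intro q hq hd
      exact hπ q hq (hd.trans (orderOf_map_dvd (QuotientGroup.mk' N) p.1))
    · exact hc.map (QuotientGroup.mk' N)
    · exact N.pow_mem (nOf_mem N p hc) e
    · exact mOf_mem N e e' p hc
    · exact F3 _
    · exact u_comm_m N e e' p hc
  · rintro p1 ⟨hπ1, hc1⟩ p2 ⟨hπ2, hc2⟩ heq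
    have hq1 : (p1.1 : G ⧸ N) = (p2.1 : G ⧸ N) := congrArg (fun t => t.1.1) heq
    have hq2 : (p1.2 : G ⧸ N) = (p2.2 : G ⧸ N) := congrArg (fun t => t.1.2) heq
    have hu : (nOf N p1) ^ e = (nOf N p2) ^ e := congrArg (fun t => t.2.1) heq
    have hm : mOf N e e' p1 = mOf N e e' p2 := congrArg (fun t => t.2.2) heq
    unfold mOf at hm
    rw [hu, hq1] at hm
    have hxv : p1.1 * (nOf N p1) ^ e' = p2.1 * (nOf N p2) ^ e' := mul_left_cancel hm
    have hpow : ∀ p : G × G, IsPiElt π p.1 → Commute p.1 p.2 →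
        (p.1 * (nOf N p) ^ e') ^ e = p.1 := fun p hπ hc => by
      rw [((nOf_comm N p hc).pow_right e').mul_pow, F2, mul_one, F4 _ hπ]
    have hx : p1.1 = p2.1 := by
      rw [← hpow p1 hπ1 hc1, ← hpow p2 hπ2 hc2, hxv]
    have hv : (nOf N p1) ^ e' = (nOf N p2) ^ e' := by
      rw [hx] at hxv
      exact mul_left_cancel hxv
    have hn : nOf N p1 = nOf N p2 := by
      rw [← F1 (nOf N p1), ← F1 (nOf N p2), pow_add, pow_add, hu, hv]
    unfold nOf at hn
    rw [hx, hq2] at hn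
    exact Prod.ext hx (mul_left_cancel hn)

theorem ncard_sub_pairs (π : Set ℕ) :
    ({p : G × G | p.1 ∈ N ∧ p.2 ∈ N ∧ IsPiElt π p.1 ∧ Commute p.1 p.2} : Set (G × G)).ncard =
      Nat.card {p : N × N // IsPiElt π p.1 ∧ Commute p.1 p.2} := by
  have himg : ({p : G × G | p.1 ∈ N ∧ p.2 ∈ N ∧ IsPiElt π p.1 ∧ Commute p.1 p.2} : Set (G × G)) =
      (Prod.map N.subtype N.subtype) '' {p : N × N | IsPiElt π p.1 ∧ Commute p.1 p.2} := by
    ext p
    constructor
    · rintro ⟨h1, h2, hπ, hc⟩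
      refine ⟨(⟨p.1, h1⟩, ⟨p.2, h2⟩), ⟨?_, ?_⟩, rfl⟩
      · intro q hq hd
        rw [Subgroup.orderOf_mk] at hd
        exact hπ q hq hd
      · exact Subtype.ext hc
    · rintro ⟨⟨⟨a, ha⟩, ⟨b, hb⟩⟩, ⟨hπ, hc⟩, rfl⟩
      refine ⟨ha, hb, ?_, ?_⟩
      · intro q hq hd
        apply hπ q hq
        rw [Subgroup.orderOf_mk]
        exact hd
      · exact congrArg Subtype.val hc
  have hinj : Function.Injective (Prod.map N.subtype N.subtype) :=
    Prod.map_injective.2 ⟨Subtype.val_injective, Subtype.val_injective⟩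
  rw [himg, Set.ncard_image_of_injective _ hinj]
  exact (Nat.card_coe_set_eq _).symm

theorem piClass_submult (π : Set ℕ) :
    Nat.card {C : ConjClasses G // PiClass π C} ≤
      Nat.card {C : ConjClasses N // PiClass π C} *
      Nat.card {C : ConjClasses (G ⧸ N) // PiClass π C} := by
  have h1 := card_pairs_le N π
  rw [ncard_sub_pairs N π, card_piPairs (G := N) π] at h1
  have hG : ({p : G × G | IsPiElt π p.1 ∧ Commute p.1 p.2} : Set (G × G)).ncard =
      Nat.card {C : ConjClasses G // PiClass π C} * Nat.card G := by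
    rw [← card_piPairs (G := G) π]
    exact (Nat.card_coe_set_eq _).symm
  have hQ : ({p : (G ⧸ N) × (G ⧸ N) | IsPiElt π p.1 ∧ Commute p.1 p.2} : Set _).ncard =
      Nat.card {C : ConjClasses (G ⧸ N) // PiClass π C} * Nat.card (G ⧸ N) := by
    rw [← card_piPairs (G := G ⧸ N) π]
    exact (Nat.card_coe_set_eq _).symm
  rw [hG, hQ] at h1
  have hcard : Nat.card G = Nat.card (G ⧸ N) * Nat.card N :=
    Subgroup.card_eq_card_quotient_mul_card_subgroup N
  have h2 : Nat.card {C : ConjClasses G // PiClass π C} * Nat.card G ≤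
      (Nat.card {C : ConjClasses N // PiClass π C} *
      Nat.card {C : ConjClasses (G ⧸ N) // PiClass π C}) * Nat.card G := by
    calc _ ≤ _ := h1
      _ = _ := by rw [hcard]; ring
  exact Nat.le_of_mul_le_mul_right h2 Nat.card_pos

end main

end Cfsg.Agent.helper23
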