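import Mathlib
import Cfsg.Agent.Lib_helper23_BG4e
import Cfsg.Agent.Lib_helper23_Hall
import Cfsg.Agent.Lib_helper23_PiClass

/-!
Solvable groups of odd order whose Fitting subgroup has rank at most two: characteristic subgroups of
Sylow subgroups inside the derived subgroup are normal, and there is a Sylow tower.
-/

set_option autoImplicit false
set_option linter.style.haveILetI false
open Cfsg
open scoped commutatorElement

namespace Cfsg.Agent.helper23

section dec
variable {X : Type*} [Group X] [Finite X]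

/-- decomposition of an element into its `q`-part and `q'`-part -/
theorem exists_q_decomp (q : ℕ) [hq : Fact q.Prime] (g : X) :
    ∃ u v : ℕ, g = g ^ u * g ^ v ∧ (∃ a : ℕ, orderOf (g ^ u) = q ^ a) ∧
      (orderOf (g ^ v)).Coprime q := by
  have hn : orderOf g ≠ 0 := (orderOf_pos g).ne'
  obtain ⟨A, hA⟩ : ∃ A : ℕ, A = q ^ (orderOf g).factorization q := ⟨_, rfl⟩
  obtain ⟨m, hm⟩ : ∃ m : ℕ, m = orderOf g / q ^ (orderOf g).factorization q := ⟨_, rfl⟩
  have hAm : A * m = orderOf g := by
    rw [hA, hm]; exact Nat.ordProj_mul_ordCompl_eq_self _ q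
  have hmq : m.Coprime q := by
    rw [hm]; exact (Nat.coprime_ordCompl hq.out hn).symm
  have co : A.Coprime m := by
    rw [hA]; exact Nat.Coprime.pow_left _ hmq.symm
  obtain ⟨u, hu1, hu2⟩ := Nat.chineseRemainder co 1 0
  obtain ⟨v, hv1, hv2⟩ := Nat.chineseRemainder co 0 1
  have hmu : m ∣ u := (Nat.modEq_zero_iff_dvd).1 hu2
  have hAv : A ∣ v := (Nat.modEq_zero_iff_dvd).1 hv1
  have huv : u + v ≡ 1 [MOD orderOf g] := by
    rw [← hAm]
    refine (Nat.modEq_and_modEq_iff_modEq_mul co).1 ⟨?_, ?_⟩
    · simpa using Nat.ModEq.add hu1 hv1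
    · simpa using Nat.ModEq.add hu2 hv2
  refine ⟨u, v, ?_, ?_, ?_⟩
  · rw [← pow_add]
    have := (pow_eq_pow_iff_modEq (x := g)).2 huv
    rw [this, pow_one]
  · have h1 : (g ^ u) ^ A = 1 := by
      obtain ⟨t, rfl⟩ := hmu
      rw [← pow_mul, mul_comm (m * t) A, ← mul_assoc, hAm, pow_mul, pow_orderOf_eq_one, one_pow]
    have h2 : orderOf (g ^ u) ∣ q ^ (orderOf g).factorization q := by
      rw [← hA]; exact orderOf_dvd_of_pow_eq_one h1
    obtain ⟨a, -, ha⟩ := (Nat.dvd_prime_pow hq.out).1 h2
    exact ⟨a, ha⟩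
  · have h1 : (g ^ v) ^ m = 1 := by
      obtain ⟨t, rfl⟩ := hAv
      rw [← pow_mul, mul_comm (A * t) m, ← mul_assoc, mul_comm m A, hAm, pow_mul, pow_orderOf_eq_one,
        one_pow]
    exact Nat.Coprime.coprime_dvd_left (orderOf_dvd_of_pow_eq_one h1) hmq

end dec

section
variable {G : Type*} [Group G] [Finite G]

theorem le_normalizer_of_forall_conj (K H : Subgroup G)
    (h : ∀ k ∈ K, ∀ t ∈ H, k * t * k⁻¹ ∈ H) : K ≤ Subgroup.normalizer (H : Set G) := by
  intro k hk
  rw [Subgroup.mem_normalizer_iff]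
  intro t
  constructor
  · exact h k hk t
  · intro ht
    have := h k⁻¹ (K.inv_mem hk) _ ht
    rw [inv_inv] at this
    have e : k⁻¹ * (k * t * k⁻¹) * k = t := by group
    rwa [e] at this

/-- part (b): characteristic subgroups of a Sylow subgroup inside its derived subgroup are normal -/
theorem char_sylow_normal [hs : Group.IsSolvable G] (hodd : Odd (Nat.card G))
    (hF : ∀ q : ℕ, q.Prime → ∀ B : Subgroup G, B ≤ pCore q G → IsElementaryAbelian q B →
      Nat.card B ≤ q ^ 2)
    (q : ℕ) [hq : Fact q.Prime] (S : Sylow q G) (T : Subgroup ↥(S : Subgroup G))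
    (hT : T.Characteristic) (hTS : T.map (S : Subgroup G).subtype ≤ ⁅(S : Subgroup G), (S : Subgroup G)⁆) :
    (T.map (S : Subgroup G).subtype).Normal := by
  haveI hXnil : Group.IsNilpotent ↥(commutator G) := commutator_nilpotent hodd hF
  have hTS' : T.map (S : Subgroup G).subtype ≤ (S : Subgroup G) := Subgroup.map_subtype_le T
  have hTX : T.map (S : Subgroup G).subtype ≤ commutator G := by
    refine hTS.trans ?_
    rw [commutator_def]
    exact Subgroup.commutator_mono le_top le_top
  -- N(S) normalizes T'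
  have h1 : Subgroup.normalizer ((S : Subgroup G) : Set G) ≤
      Subgroup.normalizer ((T.map (S : Subgroup G).subtype : Subgroup G) : Set G) := by
    apply le_normalizer_of_forall_conj
    intro n hn t ht
    obtain ⟨t₀, ht₀, rfl⟩ := Subgroup.mem_map.1 ht
    have hmap : T.map ((S : Subgroup G).normalizerMonoidHom ⟨n, hn⟩).toMonoidHom ≤ T :=
      Subgroup.characteristic_iff_map_le.1 hT _
    have h2 : ((S : Subgroup G).normalizerMonoidHom ⟨n, hn⟩) t₀ ∈ T :=
      hmap (Subgroup.mem_map_of_mem _ ht₀)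
    refine Subgroup.mem_map.2 ⟨_, h2, ?_⟩
    rfl
  -- the Sylow q-subgroup of G'
  obtain ⟨P⟩ : Nonempty (Sylow q ↥(commutator G)) := inferInstance
  haveI hPn : (P : Subgroup ↥(commutator G)).Normal := inferInstance
  haveI hPc : (P : Subgroup ↥(commutator G)).Characteristic := Sylow.characteristic_of_normal P hPn
  have hQn : ((P : Subgroup ↥(commutator G)).map (commutator G).subtype).Normal :=
    ConjAct.normal_of_characteristic_of_normal
  have hQS : (P : Subgroup ↥(commutator G)).map (commutator G).subtype ≤ (S : Subgroup G) :=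
    (helper1.le_pCore hQn (P.isPGroup'.map _)).trans (helper1.pCore_le_sylow S)
  haveI := Sylow.unique_of_normal P hPn
  -- G' normalizes T'
  have h2 : commutator G ≤
      Subgroup.normalizer ((T.map (S : Subgroup G).subtype : Subgroup G) : Set G) := by
    intro g hg
    obtain ⟨u, v, hguv, ⟨a, ha⟩, hv⟩ := exists_q_decomp q g
    rw [hguv]
    apply Subgroup.mul_mem
    · -- the q-part lies in S
      apply h1
      apply Subgroup.le_normalizer
      apply hQS
      have hgu : g ^ u ∈ commutator G := Subgroup.pow_mem _ hg u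
      have hz : IsPGroup q (Subgroup.zpowers (⟨g ^ u, hgu⟩ : ↥(commutator G))) := by
        apply IsPGroup.of_card (n := a)
        rw [Nat.card_zpowers, ← ha]
        exact Subgroup.orderOf_mk _ _
      obtain ⟨P', hP'⟩ := hz.exists_le_sylow
      have hPP : P' = P := Subsingleton.elim _ _
      rw [hPP] at hP'
      exact Subgroup.mem_map.2 ⟨⟨g ^ u, hgu⟩, hP' (Subgroup.mem_zpowers _), rfl⟩
    · -- the q'-part centralizes T'
      apply Subgroup.centralizer_le_normalizer
      rw [Subgroup.mem_centralizer_iff]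
      intro t ht
      have hto : ∃ a : ℕ, orderOf t = q ^ a := by
        obtain ⟨a, ha⟩ := (IsPGroup.iff_orderOf.1 S.isPGroup') ⟨t, hTS' ht⟩
        exact ⟨a, by rw [← ha, Subgroup.orderOf_mk]⟩
      exact comm_commute_of_coprime hodd hF q t (g ^ v) (hTX ht) (Subgroup.pow_mem _ hg v) hto hv
  -- Frattini
  haveI hNn : ((S : Subgroup G) ⊔ commutator G).Normal :=
    normal_of_commutator_le _ le_sup_right
  have h3 := Sylow.normalizer_sup_eq_top' S (le_sup_left : (S : Subgroup G) ≤ (S : Subgroup G) ⊔ commutator G)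
  rw [← Subgroup.normalizer_eq_top_iff, eq_top_iff, ← h3]
  apply sup_le h1
  exact sup_le (Subgroup.le_normalizer.trans h1) h2

end

end Cfsg.Agent.helper23
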