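import Mathlib
import Cfsg.Agent.Lib_helper23_BG4f

/-!
Solvable groups of odd order whose Fitting subgroup has rank at most two have a Sylow tower:
for every `p` the Hall subgroup for the primes exceeding `p` is characteristic.
-/

set_option autoImplicit false
set_option linter.style.haveILetI false
open Cfsg
open scoped commutatorElement

namespace Cfsg.Agent.helper23

section
universe u
variable {G : Type u} [Group G] [Finite G]

theorem pow_card_sub {H : Subgroup G} {h : G} (hh : h ∈ H) : h ^ Nat.card H = 1 := by
  have h1 : (⟨h, hh⟩ : ↥H) ^ Nat.card H = 1 := pow_card_eq_one'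
  have h2 := congrArg Subtype.val h1
  rwa [Subgroup.coe_pow, Subgroup.coe_one] at h2

/-- a subgroup `H` of order `A` with `A` coprime to its index, normalized by a normal subgroup
`M ≥ H`, is normal. -/
theorem normal_of_hall_of_le_normalizer (H M : Subgroup G) [hM : M.Normal] (hHM : H ≤ M)
    (hMN : M ≤ Subgroup.normalizer (H : Set G)) (hco : (Nat.card H).Coprime H.index) : H.Normal := by
  constructor
  intro h hh g
  have hx : g * h * g⁻¹ ∈ Subgroup.normalizer (H : Set G) := hMN (hM.conj_mem h (hHM hh) g)
  have hpow : (⟨g * h * g⁻¹, hx⟩ : ↥(Subgroup.normalizer (H : Set G))) ^ Nat.card H = 1 := by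
    apply Subtype.ext
    rw [Subgroup.coe_pow, Subgroup.coe_one]
    change (g * h * g⁻¹) ^ Nat.card H = 1
    rw [conj_pow]
    have : h ^ Nat.card H = 1 := pow_card_sub hh
    rw [this]; group
  have hidx : (H.subgroupOf (Subgroup.normalizer (H : Set G))).index ∣ H.index := by
    change H.relIndex (Subgroup.normalizer (H : Set G)) ∣ H.index
    exact Subgroup.relIndex_dvd_index_of_le Subgroup.le_normalizer
  have hcop : (Nat.card H).Coprime (H.subgroupOf (Subgroup.normalizer (H : Set G))).index :=
    Nat.Coprime.coprime_dvd_right hidx hco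
  have := mem_of_pow_eq_one_of_coprime_index (K := H.subgroupOf (Subgroup.normalizer (H : Set G))) hpow hcop
  exact Subgroup.mem_subgroupOf.1 this

/-- a normal subgroup whose order is coprime to its index is characteristic -/
theorem characteristic_of_normal_hall (H : Subgroup G) [hH : H.Normal]
    (hco : (Nat.card H).Coprime H.index) : H.Characteristic := by
  rw [Subgroup.characteristic_iff_map_le]
  intro ϕ x hx
  obtain ⟨h, hh, rfl⟩ := Subgroup.mem_map.1 hx
  have hpow : (ϕ.toMonoidHom h) ^ Nat.card H = 1 := by
    rw [← map_pow]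
    have : h ^ Nat.card H = 1 := pow_card_sub hh
    rw [this, map_one]
  exact mem_of_pow_eq_one_of_coprime_index hpow hco

theorem sylow_tower [hs : Group.IsSolvable G] (hodd : Odd (Nat.card G))
    (hF : ∀ q : ℕ, q.Prime → ∀ B : Subgroup G, B ≤ pCore q G → IsElementaryAbelian q B →
      Nat.card B ≤ q ^ 2) (p : ℕ) :
    ∃ N : Subgroup G, N.Characteristic ∧ IsPiHall {q | q.Prime ∧ p < q} N := by
  obtain ⟨A, B, hAB, hA, hB⟩ := pi_split {q | q.Prime ∧ p < q} (Nat.card G) Nat.card_pos.ne'
  have hco : A.Coprime B := by
    apply Nat.coprime_of_dvd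
    intro k hk hkA hkB
    exact hB k hk hkB (hA k hk hkA)
  obtain ⟨H, hH⟩ := hall_exists A B hAB.symm hco
  have hidx : H.index = B := by
    have h1 := H.card_mul_index
    rw [hH, ← hAB] at h1
    have hA0 : 0 < A := by
      rcases Nat.eq_zero_or_pos A with h0 | h0
      · exfalso
        rw [h0, zero_mul] at hAB
        exact Nat.card_pos.ne' hAB.symm
      · exact h0
    exact Nat.eq_of_mul_eq_mul_left hA0 h1
  have hcoH : (Nat.card H).Coprime H.index := by rw [hH, hidx]; exact hco
  -- elements of `H` centralize `O_r(G)` for `r ≤ p`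
  have c1 : ∀ r : ℕ, r.Prime → r ≤ p → ∀ h ∈ H, h ∈ Subgroup.centralizer (pCore r G : Set G) := by
    intro r hr hrp h hh
    haveI : Fact r.Prime := ⟨hr⟩
    by_cases hr2 : r = 2
    · subst hr2
      rw [pCore_two_eq_bot hodd]
      rw [Subgroup.mem_centralizer_iff]
      intro x hx
      have : x = 1 := by simpa using hx
      rw [this, one_mul, mul_one]
    · apply centralizes_of_large_primes hr2 hodd (pCore r G) (helper1.pCore_isPGroup r) (hF r hr)
        (orderOf h) h rfl
      intro s hs hsd
      have h1 : s ∣ A := by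
        rw [← hH]
        have : orderOf (⟨h, hh⟩ : ↥H) ∣ Nat.card H := orderOf_dvd_natCard _
        rw [Subgroup.orderOf_mk] at this
        exact hsd.trans this
      exact lt_of_le_of_lt hrp (hA s hs h1).2
  -- `O_r(G) ≤ H` for `r > p`
  have c2 : ∀ r : ℕ, r.Prime → p < r → pCore r G ≤ H := by
    intro r hr hpr
    haveI : Fact r.Prime := ⟨hr⟩
    obtain ⟨k, hk⟩ := (helper1.pCore_isPGroup (G := G) r).exists_card_eq
    have hcop : (Nat.card (pCore r G)).Coprime B := by
      rw [hk]
      apply Nat.Coprime.pow_left
      rw [hr.coprime_iff_not_dvd]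
      intro hd
      exact hB r hr hd ⟨hr, hpr⟩
    obtain ⟨g, hg⟩ := hall_le_conj A B hAB.symm hco H (pCore r G) hH hcop
    intro x hx
    have hx' : g * x * g⁻¹ ∈ pCore r G := (helper1.pCore_normal r).conj_mem x hx g
    have h2 := hg hx'
    rw [Subgroup.mem_smul_pointwise_iff_exists] at h2
    obtain ⟨y, hy, hyx⟩ := h2
    rw [MulAut.smul_def, MulAut.conj_apply] at hyx
    have : y = x := by
      have := congrArg (fun z => g⁻¹ * z * g) hyx
      beta_reduce at this
      rw [show g⁻¹ * (g * y * g⁻¹) * g = y by group, show g⁻¹ * (g * x * g⁻¹) * g = x by group]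
        at this
      exact this
    rw [← this]; exact hy
  -- the Fitting subgroup normalizes `H`
  have c3 : fittingSubgroup G ≤ Subgroup.normalizer (H : Set G) := by
    rw [helper1.fitting_eq_iSup_pCore]
    apply iSup_le
    intro r
    rcases lt_or_ge p (r : ℕ) with hpr | hrp
    · exact (c2 r r.2 hpr).trans Subgroup.le_normalizer
    · intro x hx
      rw [Subgroup.mem_normalizer_iff]
      have key : ∀ h ∈ H, x * h * x⁻¹ = h := by
        intro h hh
        have := Subgroup.mem_centralizer_iff.1 (c1 r r.2 hrp h hh) x hx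
        rw [this]; group
      have key' : ∀ h ∈ H, x⁻¹ * h * x = h := by
        intro h hh
        have := Subgroup.mem_centralizer_iff.1 (c1 r r.2 hrp h hh) x hx
        rw [mul_assoc, ← this]; group
      intro h
      constructor
      · intro hh; rw [key h hh]; exact hh
      · intro hh
        have := key' _ hh
        rw [show x⁻¹ * (x * h * x⁻¹) * x = h by group] at this
        rw [this]; exact hh
  have c4 : commutator G ≤ fittingSubgroup G :=
    helper1.le_fitting inferInstance (commutator_nilpotent hodd hF)
  haveI hMn : (H ⊔ fittingSubgroup G).Normal :=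
    normal_of_commutator_le _ (c4.trans le_sup_right)
  haveI hHn : H.Normal :=
    normal_of_hall_of_le_normalizer H (H ⊔ fittingSubgroup G) le_sup_left
      (sup_le Subgroup.le_normalizer c3) hcoH
  refine ⟨H, characteristic_of_normal_hall H hcoH, ?_, ?_⟩
  · intro r hr hrd
    rw [hH] at hrd
    exact hA r hr hrd
  · intro r hr hrπ hrd
    rw [hidx] at hrd
    exact hB r hr hrd hrπ

end

end Cfsg.Agent.helper23
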