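import Mathlib
import Cfsg.Agent.Lib_helper23_BG5c
import Cfsg.Agent.Lib_helper23_BG4
import Cfsg.Agent.Lib_helper26_EssP2

/-!
Narrow `p`-groups (Bender–Glauberman, Section 5): a `p'`-element acting trivially on all normal
sections of order `p` centralizes a normal `p`-subgroup of rank at least three that has a maximal
elementary abelian subgroup of order `p²`.
-/

set_option autoImplicit false
set_option linter.style.haveILetI false
open Cfsg
open scoped commutatorElement

namespace Cfsg.Agent.helper23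

section sections
variable {G : Type*} [Group G] [Finite G]

/-- `x` acts trivially on every normal section of order `p` -/
def TrivOnPrimeSections (p : ℕ) (x : G) : Prop :=
  ∀ (N M : Subgroup G), N.Normal → M.Normal → M ≤ N → Nat.card N = p * Nat.card M →
    ∀ t ∈ N, x * t * x⁻¹ * t⁻¹ ∈ M

theorem card_sec_eq {p : ℕ} (N M : Subgroup G) (hMN : M ≤ N)
    (hcard : Nat.card N = p * Nat.card M) : Nat.card (↥N ⧸ M.subgroupOf N) = p := by
  have h1 := Subgroup.card_eq_card_quotient_mul_card_subgroup (M.subgroupOf N)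
  have h2 : Nat.card (M.subgroupOf N) = Nat.card M :=
    Nat.card_congr (Subgroup.subgroupOfEquivOfLe hMN).toEquiv
  rw [h2, hcard] at h1
  exact (Nat.eq_of_mul_eq_mul_right Nat.card_pos h1).symm

theorem mem_of_secAut_eq_one (N M : Subgroup G) [hN : N.Normal] [hM : M.Normal] (x : G)
    (h1 : secAut N M x = 1) : ∀ t ∈ N, x * t * x⁻¹ * t⁻¹ ∈ M := by
  intro n hn
  have h2 := congrArg (fun φ : MulAut (↥N ⧸ M.subgroupOf N) => φ (QuotientGroup.mk ⟨n, hn⟩)) h1
  simp only [MulAut.one_apply] at h2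
  rw [secAut_mk, QuotientGroup.eq_iff_div_mem, Subgroup.mem_subgroupOf] at h2
  have h3 : ((MulAut.conjNormal x (⟨n, hn⟩ : ↥N) / (⟨n, hn⟩ : ↥N) : ↥N) : G) =
      x * n * x⁻¹ * n⁻¹ := by
    rw [div_eq_mul_inv, Subgroup.coe_mul, MulAut.conjNormal_apply, Subgroup.coe_inv]
  rw [h3] at h2
  exact h2

theorem trivOn_of_mem_commutator {p : ℕ} [hp : Fact p.Prime] (x : G) (hx : x ∈ commutator G) :
    TrivOnPrimeSections p x := by
  intro N M hN hM hMN hcard
  haveI := hN
  haveI := hM
  have hc : Nat.card (↥N ⧸ M.subgroupOf N) = p := card_sec_eq N M hMN hcard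
  haveI : IsCyclic (↥N ⧸ M.subgroupOf N) := isCyclic_of_prime_card hc
  have hker : commutator G ≤ (secAut N M).ker := by
    rw [commutator_eq_closure, Subgroup.closure_le]
    rintro g ⟨a, b, rfl⟩
    rw [SetLike.mem_coe, MonoidHom.mem_ker, map_commutatorElement,
      commutatorElement_eq_one_iff_commute]
    exact h26EssP2.mulAut_comm_of_cyclic _ _
  exact mem_of_secAut_eq_one N M x (MonoidHom.mem_ker.1 (hker hx))

theorem trivOn_pow {p : ℕ} [hp : Fact p.Prime] (y : G) : TrivOnPrimeSections p (y ^ (p - 1)) := by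
  intro N M hN hM hMN hcard
  haveI := hN
  haveI := hM
  have hc : Nat.card (↥N ⧸ M.subgroupOf N) = p := card_sec_eq N M hMN hcard
  haveI : IsCyclic (↥N ⧸ M.subgroupOf N) := isCyclic_of_prime_card hc
  have hA : Nat.card (MulAut (↥N ⧸ M.subgroupOf N)) = p - 1 := by
    rw [IsCyclic.card_mulAut, hc, Nat.totient_prime hp.out]
  have h1 : secAut N M (y ^ (p - 1)) = 1 := by
    rw [map_pow, ← hA]
    exact pow_card_eq_one'
  exact mem_of_secAut_eq_one N M _ h1

/-- if `e` centralizes `N` modulo `N₀` then `|N| ≤ |N₀| |C_N(e)|` -/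
theorem card_le_of_comm_mem (N N₀ : Subgroup G) (e : G)
    (h : ∀ n ∈ N, n * e * n⁻¹ * e⁻¹ ∈ N₀) :
    Nat.card N ≤ Nat.card N₀ *
      Nat.card (N ⊓ Subgroup.centralizer ({e} : Set G) : Subgroup G) := by
  obtain ⟨S, hS⟩ : ∃ S : Subgroup ↥N, S = (Subgroup.centralizer ({e} : Set G)).subgroupOf N :=
    ⟨_, rfl⟩
  have h1 := Subgroup.card_eq_card_quotient_mul_card_subgroup S
  have h2 : Nat.card S = Nat.card (N ⊓ Subgroup.centralizer ({e} : Set G) : Subgroup G) := by
    rw [hS, ← Subgroup.inf_subgroupOf_left]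
    exact Nat.card_congr (Subgroup.subgroupOfEquivOfLe inf_le_left).toEquiv
  have hmem : ∀ a b : ↥N, a⁻¹ * b ∈ S ↔ (a : G) * e * (a : G)⁻¹ = (b : G) * e * (b : G)⁻¹ := by
    intro a b
    rw [hS, Subgroup.mem_subgroupOf, Subgroup.mem_centralizer_iff]
    constructor
    · intro hc
      have := hc e (Set.mem_singleton e)
      rw [Subgroup.coe_mul, Subgroup.coe_inv] at this
      have h3 : (b : G) = (a : G) * ((a : G)⁻¹ * (b : G)) := by group
      rw [h3]
      calc (a : G) * e * (a : G)⁻¹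
          = (a : G) * (e * ((a : G)⁻¹ * (b : G))) * ((a : G)⁻¹ * (b : G))⁻¹ * (a : G)⁻¹ := by group
        _ = (a : G) * (((a : G)⁻¹ * (b : G)) * e) * ((a : G)⁻¹ * (b : G))⁻¹ * (a : G)⁻¹ := by
            rw [this]
        _ = (a : G) * ((a : G)⁻¹ * (b : G)) * e * ((a : G) * ((a : G)⁻¹ * (b : G)))⁻¹ := by group
    · intro heq w hw
      rw [Set.mem_singleton_iff] at hw
      rw [hw, Subgroup.coe_mul, Subgroup.coe_inv]
      calc e * ((a : G)⁻¹ * (b : G)) = (a : G)⁻¹ * ((a : G) * e * (a : G)⁻¹) * (b : G) := by group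
        _ = (a : G)⁻¹ * ((b : G) * e * (b : G)⁻¹) * (b : G) := by rw [heq]
        _ = (a : G)⁻¹ * (b : G) * e := by group
  let f : ↥N ⧸ S → ↥N₀ := fun q => Quotient.liftOn' q
    (fun a : ↥N => (⟨(a : G) * e * (a : G)⁻¹ * e⁻¹, h a a.2⟩ : ↥N₀))
    (by
      intro a b hab
      rw [QuotientGroup.leftRel_apply] at hab
      apply Subtype.ext
      show (a : G) * e * (a : G)⁻¹ * e⁻¹ = (b : G) * e * (b : G)⁻¹ * e⁻¹
      rw [(hmem a b).1 hab])
  have hf : Function.Injective f := by
    intro q₁ q₂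
    induction q₁ using Quotient.inductionOn' with
    | h a =>
      induction q₂ using Quotient.inductionOn' with
      | h b =>
        intro hab
        have h4 : (a : G) * e * (a : G)⁻¹ * e⁻¹ = (b : G) * e * (b : G)⁻¹ * e⁻¹ :=
          congrArg Subtype.val hab
        have h5 : (a : G) * e * (a : G)⁻¹ = (b : G) * e * (b : G)⁻¹ := mul_right_cancel h4
        exact Quotient.sound' (by rw [QuotientGroup.leftRel_apply]; exact (hmem a b).2 h5)
  have h6 : Nat.card (↥N ⧸ S) ≤ Nat.card N₀ := Nat.card_le_card_of_injective f hf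
  rw [h1, h2]
  exact Nat.mul_le_mul_right _ h6

theorem commutator_lt_of_le_pgroup {p : ℕ} [hp : Fact p.Prime] (P N : Subgroup G) [hN : N.Normal]
    (hP : IsPGroup p P) (hNP : N ≤ P) (hNb : N ≠ ⊥) : ⁅N, P⁆ < N := by
  have hle : ⁅N, P⁆ ≤ N := Subgroup.commutator_le_left N P
  refine lt_of_le_of_ne hle ?_
  intro heq
  apply hNb
  haveI : Group.IsNilpotent ↥P := hP.isNilpotent
  obtain ⟨n, hn⟩ := (Subgroup.isNilpotent_iff_lowerCentralSeries P).mp inferInstance
  have hall : ∀ m, N ≤ P.lowerCentralSeries m := by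
    intro m
    induction m with
    | zero => exact hNP
    | succ m ih =>
      rw [Subgroup.lowerCentralSeries_succ]
      calc N = ⁅N, P⁆ := heq.symm
        _ ≤ ⁅P.lowerCentralSeries m, P⁆ := Subgroup.commutator_mono ih le_rfl
  rw [eq_bot_iff, ← hn]
  exact hall n

/-- a `p'`-element acting trivially on all normal sections of order `p` centralizes every normal
subgroup `N` of the normal `p`-subgroup `P` in which some `e ∈ P` has at most `p` fixed points -/
theorem centralizes_of_fixed_le_p {p : ℕ} [hp : Fact p.Prime] (P : Subgroup G) [hPn : P.Normal]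
    (hP : IsPGroup p P) (e : G) (he : e ∈ P) (x : G) (hx : (orderOf x).Coprime p)
    (htriv : TrivOnPrimeSections p x) :
    ∀ (k : ℕ) (N : Subgroup G), N.Normal → N ≤ P → Nat.card N = k →
      Nat.card (N ⊓ Subgroup.centralizer ({e} : Set G) : Subgroup G) ≤ p →
      x ∈ Subgroup.centralizer (N : Set G) := by
  intro k
  induction k using Nat.strong_induction_on with
  | _ k ih =>
    intro N hNn hNP hk hfix
    haveI := hNn
    by_cases hNb : N = ⊥
    · rw [hNb, Subgroup.mem_centralizer_iff]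
      intro a ha
      have : a = 1 := by simpa using ha
      rw [this, one_mul, mul_one]
    · obtain ⟨M, hMdef⟩ : ∃ M : Subgroup G, M = ⁅N, P⁆ := ⟨_, rfl⟩
      have hMlt : M < N := by rw [hMdef]; exact commutator_lt_of_le_pgroup P N hP hNP hNb
      haveI hMn : M.Normal := by rw [hMdef]; infer_instance
      have hcomm : ∀ n ∈ N, n * e * n⁻¹ * e⁻¹ ∈ M := by
        intro n hn
        have : n * e * n⁻¹ * e⁻¹ = ⁅n, e⁆ := by rw [commutatorElement_def]
        rw [this, hMdef]
        exact Subgroup.commutator_mem_commutator hn he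
      have h1 := card_le_of_comm_mem N M e hcomm
      have h2 : Nat.card N ≤ Nat.card M * p := h1.trans (Nat.mul_le_mul_left _ hfix)
      have hNp : IsPGroup p N := hP.to_le hNP
      have hMp : IsPGroup p M := hNp.to_le hMlt.le
      obtain ⟨a, ha⟩ := hNp.exists_card_eq
      obtain ⟨b, hb⟩ := hMp.exists_card_eq
      have hlt : Nat.card M < Nat.card N := by
        by_contra hge
        push Not at hge
        exact hMlt.ne (Subgroup.eq_of_le_of_card_ge hMlt.le hge)
      have hab : b < a := by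
        rw [ha, hb] at hlt
        exact (Nat.pow_lt_pow_iff_right hp.out.one_lt).1 hlt
      have hcard : Nat.card N = p * Nat.card M := by
        rw [ha, hb] at h2 ⊢
        rw [← pow_succ] at h2
        have h3 : a ≤ b + 1 := (Nat.pow_le_pow_iff_right hp.out.one_lt).1 h2
        have h4 : a = b + 1 := by omega
        rw [h4, pow_succ, mul_comm]
      have hMfix : Nat.card (M ⊓ Subgroup.centralizer ({e} : Set G) : Subgroup G) ≤ p :=
        (Subgroup.card_le_of_le (inf_le_inf_right _ hMlt.le)).trans hfix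
      have hxM : x ∈ Subgroup.centralizer (M : Set G) :=
        ih (Nat.card M) (by rw [← hk]; exact hlt) M hMn (hMlt.le.trans hNP) rfl hMfix
      exact helper10.coprime_centralizes_chain M N hMp x hx hxM
        (htriv N M hNn hMn hMlt.le hcard)

end sections

section narrow
variable {G : Type*} [Group G] [Finite G]

/-- the main theorem on narrow normal `p`-subgroups of rank `≥ 3` -/
theorem narrow_centralizes {p : ℕ} [hp : Fact p.Prime] (hp2 : p ≠ 2) (P : Subgroup G)
    [hPn : P.Normal] (hP : IsPGroup p P)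
    (h3 : ¬ ∀ B : Subgroup G, B ≤ P → IsElementaryAbelian p B → Nat.card B ≤ p ^ 2)
    (E : Subgroup G) (hEP : E ≤ P) (hE : IsElementaryAbelian p E) (hE2 : Nat.card E = p ^ 2)
    (hEmax : ∀ B : Subgroup G, B ≤ P → IsElementaryAbelian p B → E ≤ B → B = E)
    (x : G) (hx : (orderOf x).Coprime p) (htriv : TrivOnPrimeSections p x) :
    x ∈ Subgroup.centralizer (P : Set G) := by
  have hodd : Odd p := hp.out.odd_of_ne_two hp2
  have hPR : IsPGroup p ↥P := hP
  -- transfer to the group `↥P`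
  have hr' : ¬ PRankLE p 2 ↥P := by
    intro hr
    apply h3
    intro B hBP hB
    have hB' := helper3.ea_subgroupOf hB P
    have := hr (B.subgroupOf P) hB'.1 hB'.2
    rwa [Nat.card_congr (Subgroup.subgroupOfEquivOfLe hBP).toEquiv] at this
  obtain ⟨E', hE'def⟩ : ∃ E' : Subgroup ↥P, E' = E.subgroupOf P := ⟨_, rfl⟩
  have hE'ea : IsElementaryAbelian p E' := by rw [hE'def]; exact helper3.ea_subgroupOf hE P
  have hE'2 : Nat.card E' = p ^ 2 := by
    rw [hE'def, Nat.card_congr (Subgroup.subgroupOfEquivOfLe hEP).toEquiv]; exact hE2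
  have hE'map : E'.map P.subtype = E := by
    rw [hE'def]; exact Subgroup.map_subgroupOf_eq_of_le hEP
  have hE'max : ∀ B : Subgroup ↥P, IsElementaryAbelian p B → E' ≤ B → B = E' := by
    intro B hB hEB
    have h1 : B.map P.subtype = E := by
      apply hEmax _ _ (helper3.ea_map hB P.subtype)
      · rw [← hE'map]; exact Subgroup.map_mono hEB
      · rintro _ ⟨y, -, rfl⟩; exact y.2
    rw [hE'def, ← h1]
    exact (Subgroup.comap_map_eq_self_of_injective P.subtype_injective B).symm
  obtain ⟨Z', hZ'def⟩ : ∃ Z' : Subgroup ↥P,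
      Z' = Subgroup.closure {x : ↥P | x ∈ Subgroup.center ↥P ∧ x ^ p = 1} := ⟨_, rfl⟩
  obtain ⟨W', hW'def⟩ : ∃ W' : Subgroup ↥P,
      W' = Subgroup.closure {x : ↥P | x ∈ Subgroup.upperCentralSeries ↥P 2 ∧ x ^ p = 1} := ⟨_, rfl⟩
  obtain ⟨hET, hZ'card, -, hTchar, hTidx⟩ :=
    bg_53 hp2 hPR hr' E' hE'ea hE'2 hE'max Z' W' hZ'def hW'def
  obtain ⟨T', hT'def⟩ : ∃ T' : Subgroup ↥P, T' = Subgroup.centralizer (W' : Set ↥P) := ⟨_, rfl⟩
  rw [← hT'def] at hET hTchar hTidx
  have hZ'E : Z' ≤ E' := by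
    rw [hZ'def, Subgroup.closure_le]
    rintro z ⟨hzc, hzp⟩
    exact ea_absorb_elt hE'ea hE'max z hzp (fun a _ => Subgroup.mem_center_iff.1 hzc a)
  have hZ'cen : Z' ≤ Subgroup.center ↥P := by
    rw [hZ'def, Subgroup.closure_le]
    rintro z ⟨hzc, -⟩
    exact hzc
  have hZ'T : Z' ≤ T' := by
    rw [hT'def]
    exact hZ'cen.trans (Subgroup.center_le_centralizer _)
  obtain ⟨e', he'E, he'T⟩ := SetLike.not_le_iff_exists.1 hET
  have hZ'ne : Z' ≠ ⊥ := by
    intro h
    rw [h, Subgroup.card_bot] at hZ'card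
    exact hp.out.one_lt.ne hZ'card
  have hKE : Subgroup.zpowers e' ⊔ Z' = E' := by
    apply eq_of_lt_of_card_sq hPR hZ'ne _ (sup_le (by rw [Subgroup.zpowers_le]; exact he'E) hZ'E) hE'2
    refine lt_of_le_of_ne le_sup_right ?_
    intro h
    apply he'T
    apply hZ'T
    rw [h]
    exact le_sup_left (a := Subgroup.zpowers e') (Subgroup.mem_zpowers e')
  -- elements of order `p` of `T'` commuting with `e'` lie in `E' ⊓ T'`
  have hfixE : ∀ y : ↥P, y ∈ T' → y ^ p = 1 → y * e' = e' * y → y ∈ E' ⊓ T' := by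
    intro y hyT hyp hye
    refine Subgroup.mem_inf.2 ⟨?_, hyT⟩
    apply ea_absorb_elt hE'ea hE'max y hyp
    have hle : E' ≤ Subgroup.centralizer ({y} : Set ↥P) := by
      rw [← hKE]
      apply sup_le
      · rw [Subgroup.zpowers_le, Subgroup.mem_centralizer_iff]
        intro w hw
        rw [Set.mem_singleton_iff] at hw
        rw [hw]; exact hye
      · intro z hz
        rw [Subgroup.mem_centralizer_iff]
        intro w hw
        rw [Set.mem_singleton_iff] at hw
        rw [hw]
        exact Subgroup.mem_center_iff.1 (hZ'cen hz) y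
    intro a ha
    have := Subgroup.mem_centralizer_iff.1 (hle ha) y (Set.mem_singleton y)
    exact this.symm
  have hF'card : Nat.card (E' ⊓ T' : Subgroup ↥P) ≤ p := by
    have hle : E' ⊓ T' ≤ E' := inf_le_left
    have hdvd : Nat.card (E' ⊓ T' : Subgroup ↥P) ∣ p ^ 2 := by
      rw [← hE'2]; exact Subgroup.card_dvd_of_le hle
    rcases dvd_sq_cases hp.out hdvd with h | h | h
    · rw [h]; exact hp.out.one_lt.le
    · rw [h]
    · exfalso
      apply hET
      have : E' ⊓ T' = E' := Subgroup.eq_of_le_of_card_ge hle (by rw [h, hE'2])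
      rw [← this]
      exact inf_le_right
  -- the subgroup `T` of `G`
  obtain ⟨T, hTdef⟩ : ∃ T : Subgroup G, T = T'.map P.subtype := ⟨_, rfl⟩
  haveI hTn : T.Normal := by
    rw [hTdef]
    haveI := hTchar
    exact ConjAct.normal_of_characteristic_of_normal
  have hTP : T ≤ P := by
    rw [hTdef]
    rintro _ ⟨y, -, rfl⟩
    exact y.2
  have hcardPT : Nat.card P = p * Nat.card T := by
    have h1 := Subgroup.card_mul_index T'
    rw [hTidx] at h1
    rw [hTdef, Subgroup.card_map_of_injective P.subtype_injective, ← h1, mul_comm]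
  obtain ⟨e, hedef⟩ : ∃ e : G, e = (e' : G) := ⟨_, rfl⟩
  have heP : e ∈ P := by rw [hedef]; exact e'.2
  have hfix : ∀ N : Subgroup G, N ≤ T → (∀ n ∈ N, n ^ p = 1) →
      Nat.card (N ⊓ Subgroup.centralizer ({e} : Set G) : Subgroup G) ≤ p := by
    intro N hNT hNexp
    have hle : N ⊓ Subgroup.centralizer ({e} : Set G) ≤ (E' ⊓ T').map P.subtype := by
      intro y hy
      obtain ⟨hyN, hyC⟩ := Subgroup.mem_inf.1 hy
      have hyT : y ∈ T := hNT hyN
      rw [hTdef] at hyT
      obtain ⟨y', hy'T, rfl⟩ := Subgroup.mem_map.1 hyT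
      refine Subgroup.mem_map.2 ⟨y', ?_, rfl⟩
      apply hfixE y' hy'T
      · apply Subtype.ext
        rw [Subgroup.coe_pow, Subgroup.coe_one]
        exact hNexp _ hyN
      · apply Subtype.ext
        rw [Subgroup.coe_mul, Subgroup.coe_mul]
        have := Subgroup.mem_centralizer_iff.1 hyC e (Set.mem_singleton e)
        rw [hedef] at this
        exact this.symm
    calc Nat.card (N ⊓ Subgroup.centralizer ({e} : Set G) : Subgroup G)
        ≤ Nat.card ((E' ⊓ T').map P.subtype) := Subgroup.card_le_of_le hle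
      _ = Nat.card (E' ⊓ T' : Subgroup ↥P) := Subgroup.card_map_of_injective P.subtype_injective
      _ ≤ p := hF'card
  -- the critical subgroup
  obtain ⟨C, hCR, hCn, -, hC2, -, hC4, H, hCH, -, hHΦ, -, -⟩ := helper10.exists_critical_in P hP
  haveI := hCn
  have hCp : IsPGroup p C := hP.to_le hCR
  have hcomm : ∀ x ∈ C, ∀ y ∈ C, ⁅x, y⁆ ∈ Subgroup.centralizer (C : Set G) :=
    fun x hx y hy => hC2 (Subgroup.commutator_mem_commutator hx hy)
  have hpow : ∀ x ∈ C, x ^ p ∈ Subgroup.centralizer (C : Set G) := by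
    intro x hx
    rw [hCH] at hx
    obtain ⟨h, hhH, rfl⟩ := Subgroup.mem_map.1 hx
    have hHp : IsPGroup p H := hPR.to_subgroup H
    have h2 : ((⟨h, hhH⟩ : ↥H) ^ p : ↥H) ∈ frattini ↥H :=
      helper1.pow_mem_frattini_of_isPGroup hHp (⟨h, hhH⟩ : ↥H)
    have h3' : (H.subtype ((⟨h, hhH⟩ : ↥H) ^ p)) ∈ Subgroup.centralizer (H : Set ↥P) :=
      hHΦ (Subgroup.mem_map_of_mem _ h2)
    rw [Subgroup.mem_centralizer_iff]
    intro c hc
    rw [hCH] at hc
    obtain ⟨c', hc'H, rfl⟩ := Subgroup.mem_map.1 hc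
    have h4 := Subgroup.mem_centralizer_iff.1 h3' c' hc'H
    have h5 := congrArg (fun t : ↥P => (t : G)) h4
    exact h5
  obtain ⟨D, hDdef⟩ : ∃ D : Subgroup G, D = omegaK p hodd C hcomm hpow 1 := ⟨_, rfl⟩
  haveI hDn : D.Normal := by rw [hDdef]; exact omegaK_normal
  have hDC : D ≤ C := by rw [hDdef]; exact omegaK_le
  have hDP : D ≤ P := hDC.trans hCR
  have hDexp : ∀ x ∈ D, x ^ p = 1 := by
    intro x hx
    rw [hDdef] at hx
    have := hx.2
    rwa [pow_one] at this
  obtain ⟨N, hNdef⟩ : ∃ N : Subgroup G, N = D ⊓ T := ⟨_, rfl⟩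
  haveI hNn : N.Normal := by rw [hNdef]; infer_instance
  have hND : N ≤ D := by rw [hNdef]; exact inf_le_left
  have hNT : N ≤ T := by rw [hNdef]; exact inf_le_right
  have hNfix := hfix N hNT (fun n hn => hDexp n (hND hn))
  have hxN : x ∈ Subgroup.centralizer (N : Set G) :=
    centralizes_of_fixed_le_p P hP e heP x hx htriv (Nat.card N) N hNn (hNT.trans hTP) rfl hNfix
  have hxD : x ∈ Subgroup.centralizer (D : Set G) := by
    apply helper10.coprime_centralizes_chain N D (hP.to_le (hNT.trans hTP)) x hx hxN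
    intro d hd
    rw [hNdef]
    refine Subgroup.mem_inf.2 ⟨?_, ?_⟩
    · have e1 : x * d * x⁻¹ * d⁻¹ = (x * d * x⁻¹) * d⁻¹ := rfl
      rw [e1]
      exact D.mul_mem (hDn.conj_mem d hd x) (D.inv_mem hd)
    · exact htriv P T hPn hTn hTP hcardPT d (hDP hd)
  have hxC : x ∈ Subgroup.centralizer (C : Set G) := by
    apply centralizes_of_centralizes_omega1 hCp x hx (hodd := hodd) (hcomm := hcomm) (hpow := hpow)
    rw [← hDdef]
    exact hxD
  exact centralizes_of_critical P C hP hCR hC4 x hx hxC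

end narrow

end Cfsg.Agent.helper23
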