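import Mathlib
import Cfsg.Agent.Lib_helper23_BG4g
import Cfsg.Agent.Lib_helper23_BG5d

/-!
Solvable groups of odd order: if for every prime `q` the `q'`-elements of `G'` centralize `O_q(G)`,
then `G'` is nilpotent.  Application to narrow Fitting subgroups (Bender–Glauberman 5.x).
-/

set_option autoImplicit false
set_option linter.style.haveILetI false
open Cfsg
open scoped commutatorElement

namespace Cfsg.Agent.helper23

section
variable {G : Type*} [Group G] [Finite G]

/-- in `G'`, a `q`-element and a `q'`-element commute -/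
theorem comm_commute_of_coprime' [hs : Group.IsSolvable G]
    (hC : ∀ (q : ℕ) [Fact q.Prime] (x : G), x ∈ commutator G → (orderOf x).Coprime q →
      x ∈ Subgroup.centralizer ((pCore q G : Subgroup G) : Set G))
    (q : ℕ) [hq : Fact q.Prime] (x y : G) (hx : x ∈ commutator G) (hy : y ∈ commutator G)
    (hxq : ∃ a : ℕ, orderOf x = q ^ a) (hyq : (orderOf y).Coprime q) : x * y = y * x := by
  obtain ⟨a, ha⟩ := hxq
  obtain ⟨c, hcdef⟩ : ∃ c : G, c = ⁅x, y⁆ := ⟨_, rfl⟩
  have hcxy : c = x * y * x⁻¹ * y⁻¹ := by rw [hcdef, commutatorElement_def]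
  have hyC : y ∈ Subgroup.centralizer ((pCore q G : Subgroup G) : Set G) :=
    hC q y hy hyq
  -- `x` centralizes `O_r(G)` for `r ≠ q`
  have hxC : ∀ r : ℕ, r.Prime → r ≠ q →
      x ∈ Subgroup.centralizer ((pCore r G : Subgroup G) : Set G) := by
    intro r hr hrq
    haveI : Fact r.Prime := ⟨hr⟩
    apply hC r x hx
    rw [ha]
    exact Nat.Coprime.pow_left a ((Nat.coprime_primes hq.out hr).2 (Ne.symm hrq))
  -- `c` centralizes every `O_r(G)`
  have hcC : ∀ r : ℕ, r.Prime → c ∈ Subgroup.centralizer ((pCore r G : Subgroup G) : Set G) := by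
    intro r hr
    haveI : (pCore r G).Normal := helper1.pCore_normal r
    haveI hCn : (Subgroup.centralizer ((pCore r G : Subgroup G) : Set G)).Normal :=
      Subgroup.normal_centralizer
    by_cases hrq : r = q
    · subst hrq
      have h1 : c = (x * y * x⁻¹) * y⁻¹ := hcxy
      rw [h1]
      exact Subgroup.mul_mem _ (hCn.conj_mem y hyC x) (Subgroup.inv_mem _ hyC)
    · have h1 : c = x * (y * x⁻¹ * y⁻¹) := by rw [hcxy]; group
      rw [h1]
      exact Subgroup.mul_mem _ (hxC r hr hrq)
        (hCn.conj_mem x⁻¹ (Subgroup.inv_mem _ (hxC r hr hrq)) y)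
  -- `c ∈ C(F) ≤ F`
  have hcCF : c ∈ Subgroup.centralizer ((fittingSubgroup G : Subgroup G) : Set G) := by
    have hle : fittingSubgroup G ≤ Subgroup.centralizer ({c} : Set G) := by
      rw [helper1.fitting_eq_iSup_pCore]
      apply iSup_le
      intro r z hz
      rw [Subgroup.mem_centralizer_iff]
      intro w hw
      rw [Set.mem_singleton_iff] at hw
      rw [hw]
      exact (Subgroup.mem_centralizer_iff.1 (hcC r r.2) z hz).symm
    rw [Subgroup.mem_centralizer_iff]
    intro z hz
    exact (Subgroup.mem_centralizer_iff.1 (hle hz) c (Set.mem_singleton c)).symm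
  have hcF : c ∈ fittingSubgroup G := S0044.result hcCF
  -- decomposition of `F`
  obtain ⟨L, hLdef⟩ : ∃ L : Subgroup G, L = ⨆ r : {r : Nat.Primes // (r : ℕ) ≠ q}, pCore (r : ℕ) G :=
    ⟨_, rfl⟩
  haveI hLn : L.Normal := by
    rw [hLdef]
    haveI : ∀ r : {r : Nat.Primes // (r : ℕ) ≠ q}, (pCore ((r : Nat.Primes) : ℕ) G).Normal :=
      fun r => helper1.pCore_normal _
    exact Subgroup.iSup_normal _
  haveI hOn : (pCore q G).Normal := helper1.pCore_normal q
  have hFle : fittingSubgroup G ≤ pCore q G ⊔ L := by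
    rw [helper1.fitting_eq_iSup_pCore]
    apply iSup_le
    intro r
    by_cases hrq : (r : ℕ) = q
    · rw [hrq]; exact le_sup_left
    · refine le_trans ?_ le_sup_right
      rw [hLdef]
      exact le_iSup (fun r : {r : Nat.Primes // (r : ℕ) ≠ q} => pCore (r : ℕ) G) ⟨r, hrq⟩
  have hLK : L ≤ pPrimeCore q G := by
    rw [hLdef]
    apply iSup_le
    rintro ⟨r, hrq⟩
    apply helper1.le_pPrimeCore (helper1.pCore_normal (r : ℕ))
    exact helper1.coprime_card_of_isPGroup_ne hq.out r.2 hrq (helper1.pCore_isPGroup (r : ℕ))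
  have hLx : L ≤ Subgroup.centralizer ({x} : Set G) := by
    rw [hLdef]
    apply iSup_le
    rintro ⟨r, hrq⟩ z hz
    rw [Subgroup.mem_centralizer_iff]
    intro w hw
    rw [Set.mem_singleton_iff] at hw
    rw [hw]
    exact (Subgroup.mem_centralizer_iff.1 (hxC r r.2 hrq) z hz).symm
  obtain ⟨a', ha'O, b, hbL, hab⟩ := (Subgroup.mem_sup_of_normal_left).1 (hFle hcF)
  -- first half: `b = 1`
  have hxb : x * b = b * x := by
    have := Subgroup.mem_centralizer_iff.1 (hLx hbL) x (Set.mem_singleton x)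
    exact this
  have hb1 : b = 1 := by
    -- work in the quotient by `O_q(G)`
    set π := QuotientGroup.mk' (pCore q G) with hπ
    have hπc : π c = π b := by
      rw [← hab, map_mul]
      have : π a' = 1 := (QuotientGroup.eq_one_iff a').2 ha'O
      rw [this, one_mul]
    have hrel : x⁻¹ * c = y * x⁻¹ * y⁻¹ := by rw [hcxy]; group
    have hk : (π x⁻¹ * π b) ^ (q ^ a) = 1 := by
      rw [← hπc, ← map_mul, hrel, ← map_pow, conj_pow, inv_pow, ← ha, pow_orderOf_eq_one, inv_one,
        mul_one, mul_inv_cancel, map_one]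
    have hcomm : Commute (π x⁻¹) (π b) := by
      show π x⁻¹ * π b = π b * π x⁻¹
      rw [← map_mul, ← map_mul]
      congr 1
      calc x⁻¹ * b = x⁻¹ * (b * x) * x⁻¹ := by group
        _ = x⁻¹ * (x * b) * x⁻¹ := by rw [hxb]
        _ = b * x⁻¹ := by group
    rw [hcomm.mul_pow, ← map_pow, ← map_pow, inv_pow, ← ha, pow_orderOf_eq_one, inv_one, map_one,
      one_mul] at hk
    have hbk : b ^ orderOf x ∈ pCore q G := (QuotientGroup.eq_one_iff _).1 hk
    have hbk' : b ^ orderOf x ∈ pPrimeCore q G := Subgroup.pow_mem _ (hLK hbL) _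
    have hcopb : (orderOf b).Coprime q :=
      Nat.Coprime.coprime_dvd_left (Subgroup.orderOf_dvd_natCard _ (hLK hbL))
        (helper1.pPrimeCore_coprime q)
    have hbk1 : b ^ orderOf x = 1 := by
      apply helper10.eq_one_of_isPGroup_of_coprime (helper1.pCore_isPGroup q) hbk
      exact Nat.Coprime.coprime_dvd_left (orderOf_pow_dvd _) hcopb
    have h1 : orderOf b ∣ orderOf x := orderOf_dvd_of_pow_eq_one hbk1
    rw [ha] at h1
    have h2 : orderOf b = 1 :=
      Nat.Coprime.eq_one_of_dvd (Nat.Coprime.pow_right a hcopb) h1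
    exact orderOf_eq_one_iff.1 h2
  have hcO : c ∈ pCore q G := by
    rw [← hab, hb1, mul_one]; exact ha'O
  -- second half: `c = 1`
  have hyc : y * c = c * y := (Subgroup.mem_centralizer_iff.1 hyC c hcO).symm
  have hrel2 : x * y * x⁻¹ = c * y := by rw [hcxy]; group
  have hcm : c ^ orderOf y = 1 := by
    have h1 : (c * y) ^ orderOf y = 1 := by
      rw [← hrel2, conj_pow, pow_orderOf_eq_one, mul_one, mul_inv_cancel]
    have hcomm : Commute c y := hyc.symm
    rw [hcomm.mul_pow, pow_orderOf_eq_one, mul_one] at h1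
    exact h1
  have hc1 : c = 1 := by
    apply helper10.eq_one_of_isPGroup_of_coprime (helper1.pCore_isPGroup q) hcO
    exact Nat.Coprime.coprime_dvd_left (orderOf_dvd_of_pow_eq_one hcm) hyq
  rw [hcdef] at hc1
  exact (commutatorElement_eq_one_iff_commute.1 hc1).eq


theorem commutator_nilpotent' [hs : Group.IsSolvable G]
    (hC : ∀ (q : ℕ) [Fact q.Prime] (x : G), x ∈ commutator G → (orderOf x).Coprime q →
      x ∈ Subgroup.centralizer ((pCore q G : Subgroup G) : Set G)) :
    Group.IsNilpotent ↥(commutator G) := by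
  apply nilpotent_of_coprime_commute
  intro q hq x y hx hy
  haveI : Fact q.Prime := ⟨hq⟩
  apply Subtype.ext
  rw [Subgroup.coe_mul, Subgroup.coe_mul]
  apply comm_commute_of_coprime' hC q (x : G) (y : G) x.2 y.2
  · obtain ⟨a, ha⟩ := hx
    exact ⟨a, by rw [Subgroup.orderOf_coe, ha]⟩
  · rw [Subgroup.orderOf_coe]; exact hy

end

end Cfsg.Agent.helper23
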