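import Mathlib
import Cfsg.Agent.Lib_helper23_BG5e

/-!
Bender–Glauberman: in a solvable group of odd order, if some elementary abelian `p`-subgroup `E` of
`F(G)` has `C_{F(G)}(E)` of rank at most two, then `G' ≤ F(G)`.
-/

set_option autoImplicit false
set_option linter.style.haveILetI false
open Cfsg
open scoped commutatorElement

namespace Cfsg.Agent.helper23

section small
variable {R : Type*} [Group R] [Finite R]

/-- if a maximal elementary abelian subgroup of a `p`-group has order `≤ p`, it contains every
elementary abelian subgroup -/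
theorem max_ea_small {p : ℕ} [hp : Fact p.Prime] (hR : IsPGroup p R) (E : Subgroup R)
    (hE : IsElementaryAbelian p E)
    (hEmax : ∀ B : Subgroup R, IsElementaryAbelian p B → E ≤ B → B = E)
    (hcard : Nat.card E ≤ p) (B : Subgroup R) (hB : IsElementaryAbelian p B) : B ≤ E := by
  have hcen : E ≤ Subgroup.center R := by
    by_cases htriv : Subgroup.center R = ⊥
    · -- then `R` is trivial
      have hsub : Subsingleton R := by
        by_contra hns
        rw [not_subsingleton_iff_nontrivial] at hns
        haveI := hns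
        have := hR.center_nontrivial
        exact ((Subgroup.nontrivial_iff_ne_bot _).1 this) htriv
      intro a _
      have : a = 1 := Subsingleton.elim a 1
      rw [this]; exact Subgroup.one_mem _
    · have hZp : IsPGroup p (Subgroup.center R) := hR.to_subgroup _
      obtain ⟨k, hk⟩ := hZp.exists_card_eq
      have hk0 : k ≠ 0 := by
        intro h0
        rw [h0, pow_zero] at hk
        exact htriv (Subgroup.card_eq_one.1 hk)
      have hdvd : p ∣ Nat.card (Subgroup.center R) := by
        rw [hk]; exact dvd_pow_self p hk0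
      obtain ⟨z, hz⟩ := exists_prime_orderOf_dvd_card' p hdvd
      have hzp : (z : R) ^ p = 1 := by
        have h1 : z ^ p = 1 := by rw [← hz]; exact pow_orderOf_eq_one z
        have h2 := congrArg Subtype.val h1
        rwa [Subgroup.coe_pow, Subgroup.coe_one] at h2
      have hzE : (z : R) ∈ E :=
        ea_absorb_elt hE hEmax (z : R) hzp (fun a _ => Subgroup.mem_center_iff.1 z.2 a)
      have hle : Subgroup.zpowers (z : R) ≤ E := by rw [Subgroup.zpowers_le]; exact hzE
      have hcz : Nat.card (Subgroup.zpowers (z : R)) = p := by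
        rw [Nat.card_zpowers, Subgroup.orderOf_coe, hz]
      have heq : Subgroup.zpowers (z : R) = E :=
        Subgroup.eq_of_le_of_card_ge hle (by rw [hcz]; exact hcard)
      rw [← heq, Subgroup.zpowers_le]
      exact z.2
  apply ea_absorb hE hEmax hB
  intro a ha b _
  exact (Subgroup.mem_center_iff.1 (hcen ha) b).symm

end small

section fit
variable {G : Type*} [Group G] [Finite G]

/-- a `p`-subgroup of the Fitting subgroup lies in `O_p(G)` -/
theorem le_pCore_of_le_fitting {p : ℕ} [hp : Fact p.Prime] (E : Subgroup G)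
    (hEF : E ≤ fittingSubgroup G) (hE : IsPGroup p E) : E ≤ pCore p G := by
  haveI hFn : (fittingSubgroup G).Normal := helper1.fitting_normal
  haveI hFnil : Group.IsNilpotent ↥(fittingSubgroup G) := helper1.fitting_isNilpotent
  have hE' : IsPGroup p (E.subgroupOf (fittingSubgroup G)) := by
    have := hE.comap_of_injective (fittingSubgroup G).subtype (Subgroup.subtype_injective _)
    exact this
  obtain ⟨Q, hQ⟩ := hE'.exists_le_sylow
  have hQn : (Q : Subgroup ↥(fittingSubgroup G)).Normal :=
    ((Group.isNilpotent_of_finite_tfae (G := ↥(fittingSubgroup G))).out 0 3 rfl rfl).mp hFnil p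
      inferInstance Q
  haveI := hQn
  haveI hQc : (Q : Subgroup ↥(fittingSubgroup G)).Characteristic :=
    Sylow.characteristic_of_normal Q hQn
  have hmapn : ((Q : Subgroup ↥(fittingSubgroup G)).map (fittingSubgroup G).subtype).Normal :=
    ConjAct.normal_of_characteristic_of_normal
  have hle : (Q : Subgroup ↥(fittingSubgroup G)).map (fittingSubgroup G).subtype ≤ pCore p G :=
    helper1.le_pCore hmapn (Q.2.map _)
  intro x hx
  apply hle
  exact Subgroup.mem_map.2 ⟨⟨x, hEF hx⟩, hQ (Subgroup.mem_subgroupOf.2 hx), rfl⟩

end fit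

section main
variable {G : Type*} [Group G] [Finite G]

/-- transfer of maximality of an elementary abelian subgroup to the subgroup type -/
theorem max_ea_transfer {p : ℕ} (P E : Subgroup G) (hEP : E ≤ P)
    (hEmax : ∀ B : Subgroup G, B ≤ P → IsElementaryAbelian p B → E ≤ B → B = E) :
    ∀ B : Subgroup ↥P, IsElementaryAbelian p B → E.subgroupOf P ≤ B → B = E.subgroupOf P := by
  intro B hB hEB
  have hE'map : (E.subgroupOf P).map P.subtype = E := Subgroup.map_subgroupOf_eq_of_le hEP
  have h1 : B.map P.subtype = E := by
    apply hEmax _ _ (helper3.ea_map hB P.subtype)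
    · rw [← hE'map]; exact Subgroup.map_mono hEB
    · rintro _ ⟨y, -, rfl⟩; exact y.2
  rw [← h1]
  exact (Subgroup.comap_map_eq_self_of_injective P.subtype_injective B).symm

theorem narrow_case {p : ℕ} [hp : Fact p.Prime] (hp2 : p ≠ 2) (E : Subgroup G)
    (hEP : E ≤ pCore p G) (hEe : IsElementaryAbelian p E)
    (hK : ∀ B : Subgroup G, B ≤ pCore p G → B ≤ Subgroup.centralizer (E : Set G) →
      IsElementaryAbelian p B → Nat.card B ≤ p ^ 2)
    (h3 : ¬ ∀ B : Subgroup G, B ≤ pCore p G → IsElementaryAbelian p B → Nat.card B ≤ p ^ 2)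
    (x : G) (hx : x ∈ commutator G) (hcop : (orderOf x).Coprime p) :
    x ∈ Subgroup.centralizer ((pCore p G : Subgroup G) : Set G) := by
  haveI hPn : (pCore p G).Normal := helper1.pCore_normal p
  have hPp : IsPGroup p (pCore p G) := helper1.pCore_isPGroup p
  obtain ⟨Es, hEEs, hmax⟩ := Finite.exists_le_maximal
    (p := fun B : Subgroup G => B ≤ pCore p G ∧ IsElementaryAbelian p B) (a := E) ⟨hEP, hEe⟩
  obtain ⟨hEsP, hEsea⟩ := hmax.prop
  have hEmax : ∀ B : Subgroup G, B ≤ pCore p G → IsElementaryAbelian p B → Es ≤ B → B = Es :=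
    fun B hBP hB hle => le_antisymm (hmax.2 ⟨hBP, hB⟩ hle) hle
  have hEsC : Es ≤ Subgroup.centralizer (E : Set G) := by
    intro b hb
    rw [Subgroup.mem_centralizer_iff]
    intro a ha
    exact helper3.ea_comm hEsea (hEEs ha) hb
  have hcard2 : Nat.card Es ≤ p ^ 2 := hK Es hEsP hEsC hEsea
  have hcard : Nat.card Es = p ^ 2 := by
    by_contra hne
    apply h3
    obtain ⟨j, hj⟩ := (hPp.to_le hEsP).exists_card_eq
    have hj2 : j ≤ 2 := by
      rw [hj] at hcard2
      exact (Nat.pow_le_pow_iff_right hp.out.one_lt).1 hcard2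
    have hj1 : j ≤ 1 := by
      by_contra hcon
      have : j = 2 := by omega
      exact hne (by rw [hj, this])
    have hle1 : Nat.card Es ≤ p := by
      rw [hj]
      calc p ^ j ≤ p ^ 1 := Nat.pow_le_pow_right hp.out.pos hj1
        _ = p := pow_one p
    intro B hBP hB
    have hle1' : Nat.card (Es.subgroupOf (pCore p G)) ≤ p := by
      rw [Nat.card_congr (Subgroup.subgroupOfEquivOfLe hEsP).toEquiv]; exact hle1
    have h1 := max_ea_small (R := ↥(pCore p G)) hPp (Es.subgroupOf (pCore p G))
      (helper3.ea_subgroupOf hEsea _) (max_ea_transfer (pCore p G) Es hEsP hEmax) hle1'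
      (B.subgroupOf (pCore p G)) (helper3.ea_subgroupOf hB _)
    have hBEs : B ≤ Es := by
      intro b hb
      have : (⟨b, hBP hb⟩ : ↥(pCore p G)) ∈ B.subgroupOf (pCore p G) :=
        Subgroup.mem_subgroupOf.2 hb
      exact Subgroup.mem_subgroupOf.1 (h1 this)
    calc Nat.card B ≤ Nat.card Es := Subgroup.card_le_of_le hBEs
      _ ≤ p := hle1
      _ ≤ p ^ 2 := by
          calc p = p ^ 1 := (pow_one p).symm
            _ ≤ p ^ 2 := Nat.pow_le_pow_right hp.out.pos (by norm_num)
  exact narrow_centralizes hp2 (pCore p G) hPp h3 Es hEsP hEsea hcard hEmax x hcop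
    (trivOn_of_mem_commutator x hx)

/-- Bender–Glauberman: `G' ≤ F(G)` if `C_{F(G)}(E)` has rank at most two for some elementary
abelian `p`-subgroup `E` of `F(G)` (`G` solvable of odd order). -/
theorem comm_le_fitting_of_narrow [hs : Group.IsSolvable G] (hodd : Odd (Nat.card G)) (p : ℕ)
    [hp : Fact p.Prime] (E : Subgroup G) (hE : E ≤ fittingSubgroup G)
    (hEe : IsElementaryAbelian p E)
    (hr : RankLE 2 ↥(fittingSubgroup G ⊓ Subgroup.centralizer (E : Set G))) :
    commutator G ≤ fittingSubgroup G := by
  have hEP : E ≤ pCore p G := le_pCore_of_le_fitting E hE (helper3.ea_isPGroup hEe)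
  have hK : ∀ (q : ℕ), q.Prime → ∀ B : Subgroup G, B ≤ fittingSubgroup G →
      B ≤ Subgroup.centralizer (E : Set G) → IsElementaryAbelian q B → Nat.card B ≤ q ^ 2 := by
    intro q hq B hBF hBC hB
    have hBK : B ≤ fittingSubgroup G ⊓ Subgroup.centralizer (E : Set G) := le_inf hBF hBC
    have hB' := helper3.ea_subgroupOf hB (fittingSubgroup G ⊓ Subgroup.centralizer (E : Set G))
    have h1 := hr q hq (B.subgroupOf _) hB'.1 hB'.2
    rwa [Nat.card_congr (Subgroup.subgroupOfEquivOfLe hBK).toEquiv] at h1
  have hoddT : Odd (Nat.card (⊤ : Subgroup G)) := by rw [Subgroup.card_top]; exact hodd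
  have hC : ∀ (q : ℕ) [Fact q.Prime] (x : G), x ∈ commutator G → (orderOf x).Coprime q →
      x ∈ Subgroup.centralizer ((pCore q G : Subgroup G) : Set G) := by
    intro q hq x hx hcop
    by_cases hq2 : q = 2
    · subst hq2
      rw [pCore_two_eq_bot hodd, Subgroup.mem_centralizer_iff]
      intro z hz
      have : z = 1 := by simpa using hz
      rw [this, one_mul, mul_one]
    · haveI hPn : (pCore q G).Normal := helper1.pCore_normal q
      have hPp : IsPGroup q (pCore q G) := helper1.pCore_isPGroup q
      by_cases hrk : ∀ B : Subgroup G, B ≤ pCore q G → IsElementaryAbelian q B →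
          Nat.card B ≤ q ^ 2
      · rw [commutator_def] at hx
        exact comm_pprime_centralizes hq2 (pCore q G) ⊤ hPp hrk inferInstance hoddT x hx hcop
      · by_cases hqp : q = p
        · subst hqp
          exact narrow_case hq2 E hEP hEe
            (fun B hBP hBC hB => hK q hq.out B (hBP.trans (helper1.pCore_le_fitting q)) hBC hB)
            hrk x hx hcop
        · exfalso
          apply hrk
          intro B hBP hB
          apply hK q hq.out B (hBP.trans (helper1.pCore_le_fitting q)) _ hB
          intro b hb
          rw [Subgroup.mem_centralizer_iff]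
          intro a ha
          have hdis : Disjoint (pCore q G) (pCore p G) :=
            IsPGroup.disjoint_of_ne q p hqp _ _ hPp (helper1.pCore_isPGroup p)
          have := Subgroup.commute_of_normal_of_disjoint _ _ hPn (helper1.pCore_normal p) hdis b a
            (hBP hb) (hEP ha)
          exact this.eq.symm
  have hnil : Group.IsNilpotent ↥(commutator G) := commutator_nilpotent' hC
  exact helper1.le_fitting inferInstance hnil

end main

end Cfsg.Agent.helper23
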