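import Mathlib
import Cfsg.Agent.Lib_helper23_BG5f
import Cfsg.Agent.Lib_helper19_PLen

/-!
Bender–Glauberman 5.5: solvable groups of odd order with a narrow Sylow `p`-subgroup.
-/

set_option autoImplicit false
set_option linter.style.haveILetI false
open Cfsg
open scoped commutatorElement

namespace Cfsg.Agent.helper23

section narrowdef
variable {R : Type*} [Group R] [Finite R]

/-- a narrow `p`-group of rank `≥ 3` has a maximal elementary abelian subgroup of order `p²` -/
theorem narrow_exists_max_ea {p : ℕ} [hp : Fact p.Prime] (hR : IsPGroup p R) (hn : IsNarrow p R)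
    (hr : ¬ PRankLE p 2 R) :
    ∃ E : Subgroup R, IsElementaryAbelian p E ∧ Nat.card E = p ^ 2 ∧
      ∀ B : Subgroup R, IsElementaryAbelian p B → E ≤ B → B = E := by
  rcases hn with h | ⟨R₀, R₁, hR₀, hR₁, -, hcomm, hcen⟩
  · exact absurd h hr
  haveI := hR₁
  have hR₁c : ∀ a ∈ R₁, ∀ b ∈ R₁, a * b = b * a := by
    intro a ha b hb
    have h1 : (⟨a, ha⟩ : ↥R₁) * ⟨b, hb⟩ = ⟨b, hb⟩ * ⟨a, ha⟩ := by
      letI := IsCyclic.commGroup (α := ↥R₁)
      exact mul_comm _ _
    exact congrArg Subtype.val h1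
  obtain ⟨Ω, hΩ⟩ : ∃ Ω : Subgroup R, ∀ x, x ∈ Ω ↔ x ∈ R₁ ∧ x ^ p = 1 :=
    ⟨{ carrier := {x | x ∈ R₁ ∧ x ^ p = 1}
       one_mem' := ⟨R₁.one_mem, one_pow _⟩
       mul_mem' := by
         rintro a b ⟨ha, ha'⟩ ⟨hb, hb'⟩
         refine ⟨R₁.mul_mem ha hb, ?_⟩
         rw [(show Commute a b from hR₁c a ha b hb).mul_pow, ha', hb', one_mul]
       inv_mem' := by
         rintro a ⟨ha, ha'⟩
         exact ⟨R₁.inv_mem ha, by rw [inv_pow, ha', inv_one]⟩ }, fun x => Iff.rfl⟩
  have hΩR₁ : Ω ≤ R₁ := fun x hx => ((hΩ x).1 hx).1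
  have hΩea : IsElementaryAbelian p Ω := by
    refine ⟨⟨⟨?_⟩⟩, fun a ha => ((hΩ a).1 ha).2⟩
    rintro ⟨a, ha⟩ ⟨b, hb⟩
    exact Subtype.ext (hR₁c a (hΩR₁ ha) b (hΩR₁ hb))
  haveI hR₀cyc : IsCyclic ↥R₀ := isCyclic_of_prime_card hR₀
  have hR₀ea : IsElementaryAbelian p R₀ := by
    refine ⟨⟨⟨?_⟩⟩, fun a ha => ?_⟩
    · intro a b
      letI := IsCyclic.commGroup (α := ↥R₀)
      exact mul_comm _ _
    · have := pow_card_sub (H := R₀) ha
      rwa [hR₀] at this
  obtain ⟨E, hEdef⟩ : ∃ E : Subgroup R, E = R₀ ⊔ Ω := ⟨_, rfl⟩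
  have hEea : IsElementaryAbelian p E := by
    rw [hEdef]
    exact helper3.ea_sup hR₀ea hΩea (fun a ha b hb => hcomm a ha b (hΩR₁ hb))
  have hEmax : ∀ B : Subgroup R, IsElementaryAbelian p B → E ≤ B → B = E := by
    intro B hB hEB
    apply le_antisymm _ hEB
    intro b hb
    have hbC : b ∈ Subgroup.centralizer (R₀ : Set R) := by
      rw [Subgroup.mem_centralizer_iff]
      intro a ha
      have haB : a ∈ B := hEB (by rw [hEdef]; exact (le_sup_left : R₀ ≤ R₀ ⊔ Ω) ha)
      exact helper3.ea_comm hB haB hb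
    rw [← hcen] at hbC
    have hcm : ∀ (m : ↥R₀) (n : ↥R₁), Commute (R₀.subtype m) (R₁.subtype n) :=
      fun m n => hcomm (m : R) m.2 (n : R) n.2
    have hrange : (MonoidHom.noncommCoprod R₀.subtype R₁.subtype hcm).range = R₀ ⊔ R₁ := by
      rw [MonoidHom.noncommCoprod_range, Subgroup.range_subtype, Subgroup.range_subtype]
    rw [← hrange] at hbC
    obtain ⟨⟨m, n⟩, hmn⟩ := hbC
    rw [MonoidHom.noncommCoprod_apply] at hmn
    simp only [Subgroup.coe_subtype] at hmn
    have hbp : b ^ p = 1 := hB.2 b hb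
    have hmp : (m : R) ^ p = 1 := hR₀ea.2 _ m.2
    have hnp : (n : R) ^ p = 1 := by
      rw [← hmn, (show Commute (m : R) (n : R) from hcomm _ m.2 _ n.2).mul_pow, hmp, one_mul] at hbp
      exact hbp
    rw [← hmn, hEdef]
    exact Subgroup.mul_mem _ ((le_sup_left : R₀ ≤ R₀ ⊔ Ω) m.2)
      ((le_sup_right : Ω ≤ R₀ ⊔ Ω) ((hΩ _).2 ⟨n.2, hnp⟩))
  refine ⟨E, hEea, ?_, hEmax⟩
  -- the order of `Ω` divides `p`
  have hΩcard : Nat.card Ω ∣ p := by
    haveI : IsCyclic ↥(Ω.subgroupOf R₁) := Subgroup.isCyclic _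
    haveI : IsCyclic ↥Ω := (MulEquiv.isCyclic (Subgroup.subgroupOfEquivOfLe hΩR₁)).1 inferInstance
    obtain ⟨g, hg⟩ := IsCyclic.exists_generator (α := ↥Ω)
    rw [← orderOf_eq_card_of_forall_mem_zpowers hg]
    apply orderOf_dvd_of_pow_eq_one
    apply Subtype.ext
    rw [Subgroup.coe_pow, Subgroup.coe_one]
    exact ((hΩ _).1 g.2).2
  have hEdvd : Nat.card E ∣ p ^ 2 := by
    have hcm : ∀ (m : ↥R₀) (n : ↥Ω), Commute (R₀.subtype m) (Ω.subtype n) :=
      fun m n => hcomm (m : R) m.2 (n : R) (hΩR₁ n.2)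
    have hrange : (MonoidHom.noncommCoprod R₀.subtype Ω.subtype hcm).range = E := by
      rw [MonoidHom.noncommCoprod_range, Subgroup.range_subtype, Subgroup.range_subtype, hEdef]
    have h1 := Subgroup.card_range_dvd (MonoidHom.noncommCoprod R₀.subtype Ω.subtype hcm)
    rw [hrange, Nat.card_prod, hR₀] at h1
    exact h1.trans (by rw [pow_two]; exact Nat.mul_dvd_mul_left p hΩcard)
  rcases dvd_sq_cases hp.out hEdvd with h | h | h
  · exfalso
    apply hr
    intro B hBc hBe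
    have hle := max_ea_small hR E hEea hEmax (by rw [h]; exact hp.out.one_lt.le) B ⟨hBc, hBe⟩
    calc Nat.card B ≤ Nat.card E := Subgroup.card_le_of_le hle
      _ = 1 := h
      _ ≤ p ^ 2 := Nat.one_le_pow _ _ hp.out.pos
  · exfalso
    apply hr
    intro B hBc hBe
    have hle := max_ea_small hR E hEea hEmax (by rw [h]) B ⟨hBc, hBe⟩
    calc Nat.card B ≤ Nat.card E := Subgroup.card_le_of_le hle
      _ = p := h
      _ = p ^ 1 := (pow_one p).symm
      _ ≤ p ^ 2 := Nat.pow_le_pow_right hp.out.pos (by norm_num)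
  · exact h

end narrowdef

section sylow
variable {G : Type*} [Group G] [Finite G]

theorem prankLE_of_sylow {p : ℕ} [hp : Fact p.Prime] (S : Sylow p G)
    (h : PRankLE p 2 ↥(S : Subgroup G)) : PRankLE p 2 G := by
  intro A hAc hAe
  have hA : IsElementaryAbelian p A := ⟨hAc, hAe⟩
  have hAp : IsPGroup p A := helper3.ea_isPGroup hA
  obtain ⟨Q, hQ⟩ := hAp.exists_le_sylow
  obtain ⟨g, hg⟩ := MulAction.exists_smul_eq G Q S
  have hA' : IsElementaryAbelian p (A.map (MulAut.conj g).toMonoidHom) := helper3.ea_map hA _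
  have hle : A.map (MulAut.conj g).toMonoidHom ≤ (S : Subgroup G) := by
    rw [← hg, Sylow.coe_subgroup_smul]
    rintro _ ⟨a, ha, rfl⟩
    exact Subgroup.smul_mem_pointwise_smul a (MulAut.conj g) _ (hQ ha)
  have hsub := helper3.ea_subgroupOf hA' (S : Subgroup G)
  have h1 := h _ hsub.1 hsub.2
  rw [Nat.card_congr (Subgroup.subgroupOfEquivOfLe hle).toEquiv,
    Subgroup.card_map_of_injective (MulAut.conj g).injective] at h1
  exact h1

/-- core of BG 5.5 in the narrow case of rank `≥ 3` -/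
theorem bg55_core [hs : Group.IsSolvable G] (hodd : Odd (Nat.card G)) {p : ℕ} [hp : Fact p.Prime]
    (hp2 : p ≠ 2) (S : Sylow p G) (hS : IsNarrow p ↥(S : Subgroup G))
    (hr : ¬ PRankLE p 2 ↥(S : Subgroup G)) (hpl : PLengthLE p 1 G) :
    IsPGroup p (commutator (G ⧸ pPrimeCore p G)) ∧
      ∀ q : ℕ, q.Prime → q ∣ Nat.card (G ⧸ pPrimeCore p G) → q ≤ p := by
  have hK : (Nat.card (pPrimeCore p G)).Coprime p := helper1.pPrimeCore_coprime p
  have hO : pPrimeCore p (G ⧸ pPrimeCore p G) = ⊥ := helper9.pPrimeCore_quotient_eq_bot p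
  have hps : PSReach p (⊤ : Subgroup (G ⧸ pPrimeCore p G)) :=
    psreach_top_of_solvable p _ (G ⧸ pPrimeCore p G) rfl
  have hHH := hall_higman_123 hps hO
  have hR : IsPGroup p (pCore p (G ⧸ pPrimeCore p G)) := helper1.pCore_isPGroup p
  haveI hPn : (pCore p (G ⧸ pPrimeCore p G)).Normal := helper1.pCore_normal p
  have hplQ : PLengthLE p 1 (G ⧸ pPrimeCore p G) :=
    helper19.pLengthLE_of_surjective (QuotientGroup.mk' _) (QuotientGroup.mk'_surjective _) hpl
  have hu1 : helper19.ups p (G ⧸ pPrimeCore p G) 1 = ⊥ := by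
    rw [eq_bot_iff, ← hO]
    exact helper1.le_pPrimeCore (upperPSeries_normal p _ 1) (helper19.coprime_card_ups_one p)
  obtain ⟨k, hk⟩ := helper19.relIndex_ups_odd (G := G ⧸ pPrimeCore p G) p (n := 1) (by decide)
  rw [hu1, Subgroup.relIndex_bot_left] at hk
  have hu2p : IsPGroup p (helper19.ups p (G ⧸ pPrimeCore p G) (1 + 1)) := IsPGroup.of_card hk
  have hu2le : helper19.ups p (G ⧸ pPrimeCore p G) (1 + 1) ≤ pCore p (G ⧸ pPrimeCore p G) :=
    helper1.le_pCore (upperPSeries_normal p _ (1 + 1)) hu2p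
  have hidx2 : ((helper19.ups p (G ⧸ pPrimeCore p G) (1 + 1)).index).Coprime p := by
    have h := helper19.relIndex_ups_even (G := G ⧸ pPrimeCore p G) p (n := 1 + 1) (by decide)
    have h3 : helper19.ups p (G ⧸ pPrimeCore p G) (1 + 1 + 1) = ⊤ := hplQ
    rw [h3, Subgroup.relIndex_top_right] at h
    exact h
  have hidxP : ((pCore p (G ⧸ pPrimeCore p G)).index).Coprime p :=
    Nat.Coprime.coprime_dvd_left (Subgroup.index_dvd_of_le hu2le) hidx2
  -- the Sylow subgroup maps onto `O_p`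
  have hπs : Function.Surjective (QuotientGroup.mk' (pPrimeCore p G)) :=
    QuotientGroup.mk'_surjective _
  have hSbar : (S : Subgroup G).map (QuotientGroup.mk' (pPrimeCore p G)) =
      pCore p (G ⧸ pPrimeCore p G) := by
    apply le_antisymm
    · rintro _ ⟨s, hs, rfl⟩
      obtain ⟨j, hj⟩ := S.2 ⟨s, hs⟩
      have hj' : s ^ p ^ j = 1 := by
        have := congrArg Subtype.val hj
        rwa [Subgroup.coe_pow, Subgroup.coe_one] at this
      apply mem_of_pow_eq_one_of_coprime_index (a := p ^ j)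
      · rw [← map_pow, hj', map_one]
      · exact Nat.Coprime.pow_left j hidxP.symm
    · have := helper1.pCore_le_sylow (S.mapSurjective hπs)
      rwa [Sylow.coe_mapSurjective] at this
  obtain ⟨φ, hφdef⟩ : ∃ φ : ↥(S : Subgroup G) →* (G ⧸ pPrimeCore p G),
      φ = (QuotientGroup.mk' (pPrimeCore p G)).comp (S : Subgroup G).subtype := ⟨_, rfl⟩
  have hφinj : Function.Injective φ := by
    rw [injective_iff_map_eq_one]
    intro s hs
    rw [hφdef, MonoidHom.comp_apply, Subgroup.coe_subtype] at hs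
    have hsK : (s : G) ∈ pPrimeCore p G := (QuotientGroup.eq_one_iff _).1 hs
    have hcop : (orderOf (s : G)).Coprime p :=
      Nat.Coprime.coprime_dvd_left (Subgroup.orderOf_dvd_natCard _ hsK) hK
    have := helper10.eq_one_of_isPGroup_of_coprime S.2 s.2 hcop
    exact Subtype.ext this
  have hφrange : φ.range = pCore p (G ⧸ pPrimeCore p G) := by
    rw [hφdef, MonoidHom.range_comp, Subgroup.range_subtype]
    exact hSbar
  obtain ⟨E, hEea, hE2, hEmax⟩ := narrow_exists_max_ea S.2 hS hr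
  have hmaple : ∀ B : Subgroup ↥(S : Subgroup G), B.map φ ≤ pCore p (G ⧸ pPrimeCore p G) := by
    intro B
    rw [← hφrange]
    exact Subgroup.map_le_range _ _
  have h3 : ¬ ∀ B : Subgroup (G ⧸ pPrimeCore p G), B ≤ pCore p (G ⧸ pPrimeCore p G) →
      IsElementaryAbelian p B → Nat.card B ≤ p ^ 2 := by
    intro h
    apply hr
    intro B hBc hBe
    have := h (B.map φ) (hmaple B) (helper3.ea_map ⟨hBc, hBe⟩ φ)
    rwa [Subgroup.card_map_of_injective hφinj] at this
  have hĒmax : ∀ B : Subgroup (G ⧸ pPrimeCore p G), B ≤ pCore p (G ⧸ pPrimeCore p G) →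
      IsElementaryAbelian p B → E.map φ ≤ B → B = E.map φ := by
    intro B hBP hB hle
    have h1 : B.comap φ = E :=
      hEmax _ (helper3.ea_comap_of_injective hB φ hφinj) (Subgroup.map_le_iff_le_comap.1 hle)
    rw [← h1, Subgroup.map_comap_eq_self (by rw [hφrange]; exact hBP)]
  have hĒ2 : Nat.card (E.map φ) = p ^ 2 := by
    rw [Subgroup.card_map_of_injective hφinj]; exact hE2
  have hcent : ∀ x : G ⧸ pPrimeCore p G, (orderOf x).Coprime p → TrivOnPrimeSections p x →
      x ∈ Subgroup.centralizer ((pCore p (G ⧸ pPrimeCore p G) : Subgroup _) : Set _) :=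
    fun x hx htriv => narrow_centralizes hp2 (pCore p (G ⧸ pPrimeCore p G)) hR h3 (E.map φ)
      (hmaple E) (helper3.ea_map hEea φ) hĒ2 hĒmax x hx htriv
  constructor
  · apply helper10.isPGroup_of_coprime_trivial
    intro b hb hcop
    have h1 := hcent b hcop (trivOn_of_mem_commutator b hb)
    exact helper10.eq_one_of_isPGroup_of_coprime hR (hHH h1) hcop
  · intro q hq hqd
    by_cases hqp : q = p
    · exact hqp.le
    · haveI : Fact q.Prime := ⟨hq⟩
      obtain ⟨b, hb⟩ := exists_prime_orderOf_dvd_card' q hqd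
      have hcopq : q.Coprime p := (Nat.coprime_primes hq hp.out).2 hqp
      have hcop : (orderOf (b ^ (p - 1))).Coprime p := by
        apply Nat.Coprime.coprime_dvd_left (orderOf_pow_dvd _)
        rw [hb]; exact hcopq
      have h1 := hcent (b ^ (p - 1)) hcop (trivOn_pow b)
      have h2 := helper10.eq_one_of_isPGroup_of_coprime hR (hHH h1) hcop
      have h4 : q ∣ p - 1 := by
        rw [← hb]; exact orderOf_dvd_of_pow_eq_one h2
      have h5 : 0 < p - 1 := by have := hp.out.two_le; omega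
      have h6 := Nat.le_of_dvd h5 h4
      omega

end sylow

end Cfsg.Agent.helper23
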