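import Mathlib
import Cfsg.Prelude.Def_Transfer

/-! Groups of class at most two with centre of prime order ("central type"), helper17.
Splitting off a pair of non-commuting elements. -/

set_option autoImplicit false

namespace Cfsg.Agent.helper17.ES

open scoped commutatorElement

universe u

variable {E : Type u} [Group E]

/-- class at most two with centre of order `p`. -/
def CT (p : ℕ) (E : Type*) [Group E] : Prop :=
  Nat.card (Subgroup.center E) = p ∧ ∀ a b : E, ⁅a, b⁆ ∈ Subgroup.center E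

theorem CT.of_extraspecial {p : ℕ} {P : Type*} [Group P] (h : Cfsg.IsExtraspecial p P) :
    CT p P := by
  obtain ⟨⟨_, _, hcomm⟩, hcard⟩ := h
  refine ⟨hcard, fun a b => ?_⟩
  rw [← hcomm, commutator_def]
  exact Subgroup.commutator_mem_commutator (Subgroup.mem_top a) (Subgroup.mem_top b)

section class2

variable (hcl : ∀ a b : E, ⁅a, b⁆ ∈ Subgroup.center E)

include hcl

theorem comm_mul_left (a b x : E) : ⁅a * b, x⁆ = ⁅a, x⁆ * ⁅b, x⁆ := by
  have hb := Subgroup.mem_center_iff.mp (hcl b x)
  have h : ⁅a * b, x⁆ = a * ⁅b, x⁆ * a⁻¹ * ⁅a, x⁆ := by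
    simp only [commutatorElement_def]; group
  rw [h, hb a, mul_inv_cancel_right, hb]

theorem comm_mul_right (x a b : E) : ⁅x, a * b⁆ = ⁅x, a⁆ * ⁅x, b⁆ := by
  have h1 : ⁅x, a * b⁆ = (⁅a * b, x⁆)⁻¹ := (commutatorElement_inv (a * b) x).symm
  rw [h1, comm_mul_left hcl, mul_inv_rev, commutatorElement_inv, commutatorElement_inv]
  exact ((Subgroup.mem_center_iff.mp (hcl x b)) _).symm

/-- commutation with `x` as a hom into the centre. -/
def commHom (x : E) : E →* Subgroup.center E :=
  MonoidHom.mk' (fun k => ⟨⁅k, x⁆, hcl _ _⟩) (by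
    intro a b
    apply Subtype.ext
    simp only [Subgroup.coe_mul]
    exact comm_mul_left hcl a b x)

theorem commHom_apply (x k : E) : ((commHom hcl x k : Subgroup.center E) : E) = ⁅k, x⁆ := rfl

theorem comm_pow_left (a x : E) (n : ℕ) : ⁅a ^ n, x⁆ = ⁅a, x⁆ ^ n := by
  have h1 := map_pow (commHom hcl x) a n
  have h2 : ((commHom hcl x (a ^ n) : Subgroup.center E) : E)
      = (((commHom hcl x a) ^ n : Subgroup.center E) : E) := by rw [h1]
  rw [commHom_apply, Subgroup.coe_pow, commHom_apply] at h2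
  exact h2

theorem comm_zpow_left (a x : E) (n : ℤ) : ⁅a ^ n, x⁆ = ⁅a, x⁆ ^ n := by
  have h1 := map_zpow (commHom hcl x) a n
  have h2 : ((commHom hcl x (a ^ n) : Subgroup.center E) : E)
      = (((commHom hcl x a) ^ n : Subgroup.center E) : E) := by rw [h1]
  rw [commHom_apply, Subgroup.coe_zpow, commHom_apply] at h2
  exact h2

/-- `(a b)^2 = a^2 b^2 [b,a]` in class two. -/
theorem mul_sq (a b : E) : (a * b) ^ 2 = a ^ 2 * b ^ 2 * ⁅b, a⁆ := by
  have hc := Subgroup.mem_center_iff.mp (hcl b a)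
  have h1 : b * a = ⁅b, a⁆ * (a * b) := by simp only [commutatorElement_def]; group
  calc (a * b) ^ 2 = a * (b * a) * b := by rw [sq]; group
    _ = a * (⁅b, a⁆ * (a * b)) * b := by rw [h1]
    _ = (a * ⁅b, a⁆) * a * b * b := by group
    _ = (⁅b, a⁆ * a) * a * b * b := by rw [hc a]
    _ = ⁅b, a⁆ * (a ^ 2 * b ^ 2) := by rw [sq, sq]; group
    _ = a ^ 2 * b ^ 2 * ⁅b, a⁆ := (hc _).symm

end class2

/-- the centraliser of a pair of elements -/
def pairCent (x y : E) : Subgroup E := Subgroup.centralizer ({x, y} : Set E)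

theorem mem_pairCent {x y c : E} : c ∈ pairCent x y ↔ c * x = x * c ∧ c * y = y * c := by
  unfold pairCent
  rw [Subgroup.mem_centralizer_iff]
  constructor
  · intro h
    exact ⟨(h x (by simp)).symm, (h y (by simp)).symm⟩
  · rintro ⟨h1, h2⟩ g hg
    rcases hg with rfl | rfl
    · exact h1.symm
    · exact h2.symm

theorem center_le_pairCent (x y : E) : Subgroup.center E ≤ pairCent x y := by
  intro c hc
  rw [mem_pairCent]
  rw [Subgroup.mem_center_iff] at hc
  exact ⟨(hc x).symm, (hc y).symm⟩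

theorem split {p : ℕ} [hp : Fact p.Prime] [Finite E] (h : CT p E) (x y : E) (hxy : ⁅x, y⁆ ≠ 1) :
    Nat.card E = Nat.card (pairCent x y) * p ^ 2 ∧
    Subgroup.center (pairCent x y) = (Subgroup.center E).subgroupOf (pairCent x y) ∧
    CT p (pairCent x y) ∧
    ∀ g : E, ∃ a b : ℤ, (y ^ a * x ^ b)⁻¹ * g ∈ pairCent x y := by
  obtain ⟨hZ, hcl⟩ := h
  set z : Subgroup.center E := ⟨⁅x, y⁆, hcl x y⟩ with hz
  have hz1 : z ≠ 1 := by
    intro h
    exact hxy (congrArg Subtype.val h)
  have hzgen : ∀ w : Subgroup.center E, w ∈ Subgroup.zpowers z := by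
    intro w
    have := zpowers_eq_top_of_prime_card (G := Subgroup.center E) hZ hz1
    rw [this]; exact Subgroup.mem_top w
  let φ : E →* Subgroup.center E × Subgroup.center E :=
    (commHom hcl x).prod (commHom hcl y)
  have hφx : φ x = (1, z) := by
    apply Prod.ext
    · apply Subtype.ext
      show ⁅x, x⁆ = 1
      simp
    · rfl
  have hφy : φ y = (z⁻¹, 1) := by
    apply Prod.ext
    · apply Subtype.ext
      show ⁅y, x⁆ = ((z⁻¹ : Subgroup.center E) : E)
      rw [hz]
      simp only [InvMemClass.coe_inv]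
      exact (commutatorElement_inv x y).symm
    · apply Subtype.ext
      show ⁅y, y⁆ = 1
      simp
  have hmemC : ∀ c : E, c ∈ pairCent x y ↔ φ c = 1 := by
    intro c
    rw [mem_pairCent]
    constructor
    · rintro ⟨h1, h2⟩
      apply Prod.ext
      · apply Subtype.ext
        exact commutatorElement_eq_one_iff_mul_comm.mpr h1
      · apply Subtype.ext
        exact commutatorElement_eq_one_iff_mul_comm.mpr h2
    · intro h
      have h1 : ⁅c, x⁆ = 1 := congrArg (fun t => (t.1 : E)) h
      have h2 : ⁅c, y⁆ = 1 := congrArg (fun t => (t.2 : E)) h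
      exact ⟨commutatorElement_eq_one_iff_mul_comm.mp h1,
        commutatorElement_eq_one_iff_mul_comm.mp h2⟩
  have hker : φ.ker = pairCent x y := by
    ext c
    rw [MonoidHom.mem_ker, hmemC]
  have hdecomp : ∀ g : E, ∃ a b : ℤ, (y ^ a * x ^ b)⁻¹ * g ∈ pairCent x y := by
    intro g
    obtain ⟨a, ha⟩ := Subgroup.mem_zpowers_iff.mp (hzgen (φ g).1)
    obtain ⟨b, hb⟩ := Subgroup.mem_zpowers_iff.mp (hzgen (φ g).2)
    refine ⟨-a, b, ?_⟩
    rw [hmemC, map_mul, map_inv, map_mul, map_zpow, map_zpow, hφx, hφy]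
    apply Prod.ext
    · simp only [Prod.pow_mk, Prod.mk_mul_mk, Prod.inv_mk, Prod.fst_mul, Prod.fst_one, one_zpow,
        mul_one]
      rw [inv_zpow, zpow_neg, inv_inv, ha]
      simp
    · simp only [Prod.pow_mk, Prod.mk_mul_mk, Prod.inv_mk, Prod.snd_mul, Prod.snd_one, one_zpow,
        one_mul]
      rw [hb]
      simp
  have hsurj : Function.Surjective φ := by
    rintro ⟨u, v⟩
    obtain ⟨a, ha⟩ := Subgroup.mem_zpowers_iff.mp (hzgen u)
    obtain ⟨b, hb⟩ := Subgroup.mem_zpowers_iff.mp (hzgen v)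
    refine ⟨y ^ (-a) * x ^ b, ?_⟩
    rw [map_mul, map_zpow, map_zpow, hφx, hφy]
    apply Prod.ext
    · simp only [Prod.pow_mk, Prod.mk_mul_mk, one_zpow, mul_one]
      rw [inv_zpow, zpow_neg, inv_inv, ha]
    · simp only [Prod.pow_mk, Prod.mk_mul_mk, one_zpow, one_mul]
      rw [hb]
  have hcardE : Nat.card E = Nat.card (pairCent x y) * p ^ 2 := by
    rw [← Subgroup.card_mul_index (pairCent x y), ← hker, Subgroup.index_ker,
      MonoidHom.range_eq_top.mpr hsurj, Subgroup.card_top, Nat.card_prod, hZ, sq]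
  have hZC : Subgroup.center E ≤ pairCent x y := center_le_pairCent x y
  have hcenterC : Subgroup.center (pairCent x y) =
      (Subgroup.center E).subgroupOf (pairCent x y) := by
    ext c
    rw [Subgroup.mem_subgroupOf, Subgroup.mem_center_iff, Subgroup.mem_center_iff]
    constructor
    · intro h g
      obtain ⟨a, b, hab⟩ := hdecomp g
      have hc := mem_pairCent.mp c.2
      have hcx : Commute (c : E) x := hc.1
      have hcy : Commute (c : E) y := hc.2
      have hcw : Commute (c : E) (y ^ a * x ^ b) :=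
        (hcy.zpow_right _).mul_right (hcx.zpow_right _)
      have hcc : Commute (c : E) ((y ^ a * x ^ b)⁻¹ * g) := by
        have := h ⟨_, hab⟩
        have h2 := congrArg Subtype.val this
        simp only [Subgroup.coe_mul] at h2
        exact h2.symm
      have : g = (y ^ a * x ^ b) * ((y ^ a * x ^ b)⁻¹ * g) := by group
      rw [this]
      exact ((hcw.mul_right hcc).eq).symm
    · intro h g
      apply Subtype.ext
      simp only [Subgroup.coe_mul]
      exact h g
  have hZC' : Nat.card (Subgroup.center (pairCent x y)) = p := by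
    rw [hcenterC, ← hZ]
    exact Nat.card_congr (Subgroup.subgroupOfEquivOfLe hZC).toEquiv
  have hclC : ∀ a b : pairCent x y, ⁅a, b⁆ ∈ Subgroup.center (pairCent x y) := by
    intro a b
    rw [hcenterC, Subgroup.mem_subgroupOf]
    have h2 : ((⁅a, b⁆ : pairCent x y) : E) = ⁅(a : E), (b : E)⁆ := by
      simp [commutatorElement_def]
    rw [h2]
    exact hcl _ _
  exact ⟨hcardE, hcenterC, ⟨hZC', hclC⟩, hdecomp⟩

end Cfsg.Agent.helper17.ES
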