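import Mathlib
import Cfsg.Agent.Lib_helper17_ES1

/-! Central type 2-groups: the central involution, squares, counting square roots of 1 (helper17). -/

set_option autoImplicit false

namespace Cfsg.Agent.helper17.ES

open scoped commutatorElement

universe u

variable {E : Type u} [Group E]

/-- `z` is the unique non-trivial central element of the class-two group `E`. -/
structure Z2 (E : Type*) [Group E] (z : E) : Prop where
  cen : ∀ g : E, g * z = z * g
  ne : z ≠ 1
  sq : z * z = 1
  only : ∀ w ∈ Subgroup.center E, w = 1 ∨ w = z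
  cl : ∀ a b : E, ⁅a, b⁆ ∈ Subgroup.center E

theorem exists_Z2 (h : CT 2 E) : ∃ z : E, Z2 E z := by
  obtain ⟨hcard, hcl⟩ := h
  obtain ⟨z, hz1, hzuniq⟩ := (Nat.card_eq_two_iff' (1 : Subgroup.center E)).1 hcard
  have hz1' : (z : E) ≠ 1 := fun h => hz1 (Subtype.ext h)
  refine ⟨z, ⟨fun g => Subgroup.mem_center_iff.mp z.2 g, hz1', ?_, ?_, hcl⟩⟩
  · by_contra hne
    have h2 : z * z = z := hzuniq (z * z) (fun h => hne (congrArg Subtype.val h))
    have h3 : z = 1 := by simpa using h2
    exact hz1 h3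
  · intro w hw
    by_cases h1 : w = 1
    · exact Or.inl h1
    · right
      have := hzuniq ⟨w, hw⟩ (fun h => h1 (congrArg Subtype.val h))
      exact congrArg Subtype.val this

namespace Z2

variable {z : E} (h : Z2 E z)

include h

theorem mem_center : z ∈ Subgroup.center E := Subgroup.mem_center_iff.mpr h.cen

theorem inv_eq : z⁻¹ = z := inv_eq_of_mul_eq_one_left h.sq

theorem comm_cases (a b : E) : ⁅a, b⁆ = 1 ∨ ⁅a, b⁆ = z := h.only _ (h.cl a b)

theorem comm_eq_of_ne {a b : E} (hab : ⁅a, b⁆ ≠ 1) : ⁅a, b⁆ = z :=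
  (h.comm_cases a b).resolve_left hab

theorem comm_symm_ne {a b : E} (hab : ⁅a, b⁆ ≠ 1) : ⁅b, a⁆ ≠ 1 := by
  intro h1
  apply hab
  rw [← commutatorElement_inv, h1, inv_one]

theorem comm_sq (a b : E) : ⁅a, b⁆ ^ 2 = 1 := by
  rcases h.comm_cases a b with h1 | h1 <;> rw [h1]
  · simp
  · rw [pow_two]; exact h.sq

theorem sq_mem_center (a : E) : a ^ 2 ∈ Subgroup.center E := by
  rw [Subgroup.mem_center_iff]
  intro g
  have h1 : ⁅a ^ 2, g⁆ = 1 := by rw [comm_pow_left h.cl, h.comm_sq]
  exact (commutatorElement_eq_one_iff_mul_comm.mp h1).symm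

theorem sq_cases (a : E) : a ^ 2 = 1 ∨ a ^ 2 = z := h.only _ (h.sq_mem_center a)

theorem sq_eq_of_ne {a : E} (ha : a ^ 2 ≠ 1) : a ^ 2 = z := (h.sq_cases a).resolve_left ha

/-- for a non-commuting pair, `(a b)^2 = a^2 b^2 z`. -/
theorem mul_sq_of_ne {a b : E} (hab : ⁅a, b⁆ ≠ 1) : (a * b) ^ 2 = a ^ 2 * b ^ 2 * z := by
  rw [mul_sq h.cl, h.comm_eq_of_ne (h.comm_symm_ne hab)]

theorem ct [Finite E] : CT 2 E := by
  refine ⟨?_, h.cl⟩
  rw [Nat.card_eq_two_iff' (1 : Subgroup.center E)]
  refine ⟨⟨z, h.mem_center⟩, fun h1 => h.ne (congrArg Subtype.val h1), ?_⟩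
  intro w hw
  rcases h.only w w.2 with h1 | h1
  · exact absurd (Subtype.ext h1) hw
  · exact Subtype.ext h1

omit h in
theorem not_mem_center_of_comm_ne {a b : E} (hab : ⁅a, b⁆ ≠ 1) : a ∉ Subgroup.center E := by
  intro ha
  apply hab
  rw [commutatorElement_eq_one_iff_mul_comm]
  exact ((Subgroup.mem_center_iff.mp ha) b).symm

end Z2

/-- number of elements squaring to 1. -/
noncomputable def sCount (E : Type*) [Group E] : ℕ := Nat.card {g : E // g ^ 2 = 1}

theorem sCount_congr {E' : Type*} [Group E'] (e : E ≃* E') : sCount E = sCount E' := by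
  unfold sCount
  apply Nat.card_congr
  refine Equiv.subtypeEquiv e.toEquiv (fun g => ?_)
  constructor
  · intro hg
    show (e g) ^ 2 = 1
    rw [← map_pow, hg, map_one]
  · intro hg
    have : e (g ^ 2) = e 1 := by rw [map_pow, map_one]; exact hg
    exact e.injective this

theorem sCount_le [Finite E] : sCount E ≤ Nat.card E := by
  unfold sCount
  exact Nat.card_le_card_of_injective _ Subtype.val_injective

end Cfsg.Agent.helper17.ES
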