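import Mathlib
import Cfsg.Agent.Lib_helper17_ES2

/-! Counting square roots of 1 in a central type 2-group via a non-commuting pair (helper17). -/

set_option autoImplicit false

namespace Cfsg.Agent.helper17.ES

open scoped commutatorElement

universe u

variable {E : Type u} [Group E]

/-- coset representatives of `pairCent x y`. -/
def rep (x y : E) (ij : Fin 2 × Fin 2) : E := x ^ (ij.1 : ℕ) * y ^ (ij.2 : ℕ)

theorem rep_comm (x y : E) (c : pairCent x y) (ij : Fin 2 × Fin 2) :
    Commute (rep x y ij) (c : E) := by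
  have hc := mem_pairCent.mp c.2
  have h1 : Commute x (c : E) := hc.1.symm
  have h2 : Commute y (c : E) := hc.2.symm
  exact (h1.pow_left _).mul_left (h2.pow_left _)

open Classical in
/-- contribution of the coset `τ C` to the count. -/
noncomputable def cnt (C : Subgroup E) (τ : E) : ℕ :=
  if τ ^ 2 = 1 then sCount C else Nat.card C - sCount C

theorem cnt_of_sq_eq_one (C : Subgroup E) {τ : E} (hτ : τ ^ 2 = 1) : cnt C τ = sCount C := by
  unfold cnt; rw [if_pos hτ]

theorem cnt_of_sq_ne_one (C : Subgroup E) {τ : E} (hτ : τ ^ 2 ≠ 1) :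
    cnt C τ = Nat.card C - sCount C := by
  unfold cnt; rw [if_neg hτ]

section count

variable [Finite E] {z : E} (h : Z2 E z)

include h

theorem card_coset_sq (C : Subgroup E) (τ : E) (hτ : ∀ c : C, Commute τ (c : E)) :
    Nat.card {c : C // (τ * (c : E)) ^ 2 = 1} = cnt C τ := by
  by_cases h1 : τ ^ 2 = 1
  · rw [cnt_of_sq_eq_one C h1]
    unfold sCount
    apply Nat.card_congr
    refine Equiv.subtypeEquivRight (fun c => ?_)
    rw [(hτ c).mul_pow, h1, one_mul]
    constructor
    · intro hc
      apply Subtype.ext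
      simpa using hc
    · intro hc
      have := congrArg Subtype.val hc
      simpa using this
  · rw [cnt_of_sq_ne_one C h1]
    have hz := h.sq_eq_of_ne h1
    have hsum : Nat.card {c : C // c ^ 2 = 1} + Nat.card {c : C // ¬ c ^ 2 = 1} = Nat.card C := by
      classical
      rw [← Nat.card_sum]
      exact Nat.card_congr (Equiv.sumCompl (fun c : C => c ^ 2 = 1))
    have heq : Nat.card {c : C // (τ * (c : E)) ^ 2 = 1} = Nat.card {c : C // ¬ c ^ 2 = 1} := by
      apply Nat.card_congr
      refine Equiv.subtypeEquivRight (fun c => ?_)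
      rw [(hτ c).mul_pow, hz]
      constructor
      · intro hc hc1
        have hc2 : (c : E) ^ 2 = 1 := by
          have := congrArg Subtype.val hc1
          simpa using this
        rw [hc2, mul_one] at hc
        exact h.ne hc
      · intro hc
        have hc2 : (c : E) ^ 2 ≠ 1 := by
          intro h2
          apply hc
          apply Subtype.ext
          simpa using h2
        rw [h.sq_eq_of_ne hc2, ← pow_two]
        rw [pow_two]; exact h.sq
    unfold sCount
    omega

variable (x y : E) (hxy : ⁅x, y⁆ ≠ 1)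

include hxy

theorem rep_injective :
    Function.Injective (fun q : (Fin 2 × Fin 2) × pairCent x y => rep x y q.1 * (q.2 : E)) := by
  have hz : ⁅x, y⁆ = z := h.comm_eq_of_ne hxy
  have hz' : ⁅y, x⁆ = z := h.comm_eq_of_ne (h.comm_symm_ne hxy)
  have key : ∀ i i' : Fin 2, z ^ (i : ℕ) = z ^ (i' : ℕ) → i = i' := by
    intro i i' hii
    fin_cases i <;> fin_cases i'
    · rfl
    · simp at hii; exact absurd hii.symm h.ne
    · simp at hii; exact absurd hii h.ne
    · rfl
  have hy : ∀ (ij : Fin 2 × Fin 2) (c : pairCent x y),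
      ⁅rep x y ij * (c : E), y⁆ = z ^ (ij.1 : ℕ) := by
    intro ij c
    have hc := mem_pairCent.mp c.2
    unfold rep
    rw [comm_mul_left h.cl, comm_mul_left h.cl, comm_pow_left h.cl, comm_pow_left h.cl, hz,
      commutatorElement_self, one_pow, mul_one,
      commutatorElement_eq_one_iff_mul_comm.mpr hc.2, mul_one]
  have hx : ∀ (ij : Fin 2 × Fin 2) (c : pairCent x y),
      ⁅rep x y ij * (c : E), x⁆ = z ^ (ij.2 : ℕ) := by
    intro ij c
    have hc := mem_pairCent.mp c.2
    unfold rep
    rw [comm_mul_left h.cl, comm_mul_left h.cl, comm_pow_left h.cl, comm_pow_left h.cl, hz',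
      commutatorElement_self, one_pow, one_mul,
      commutatorElement_eq_one_iff_mul_comm.mpr hc.1, mul_one]
  rintro ⟨ij, c⟩ ⟨ij', c'⟩ heq
  simp only at heq
  have h1 : ij.1 = ij'.1 := by
    apply key
    rw [← hy ij c, ← hy ij' c', heq]
  have h2 : ij.2 = ij'.2 := by
    apply key
    rw [← hx ij c, ← hx ij' c', heq]
  have h3 : ij = ij' := Prod.ext h1 h2
  subst h3
  have h4 : (c : E) = c' := mul_left_cancel heq
  rw [Subtype.ext h4]

theorem rep_bijective :
    Function.Bijective (fun q : (Fin 2 × Fin 2) × pairCent x y => rep x y q.1 * (q.2 : E)) := by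
  haveI : Fact (Nat.Prime 2) := ⟨Nat.prime_two⟩
  apply (rep_injective h x y hxy).bijective_of_nat_card_le
  have h1 := (split h.ct x y hxy).1
  rw [h1, Nat.card_prod, Nat.card_prod, Nat.card_fin]
  omega

/-- the count of square roots of one through a non-commuting pair. -/
theorem s_split : sCount E = sCount (pairCent x y) + cnt (pairCent x y) x + cnt (pairCent x y) y
    + cnt (pairCent x y) (x * y) := by
  have e := Equiv.ofBijective _ (rep_bijective h x y hxy)
  have h1 : sCount E = Nat.card {q : (Fin 2 × Fin 2) × pairCent x y //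
      (rep x y q.1 * (q.2 : E)) ^ 2 = 1} := by
    unfold sCount
    symm
    apply Nat.card_congr
    exact Equiv.subtypeEquiv (Equiv.ofBijective _ (rep_bijective h x y hxy)) (fun q => Iff.rfl)
  have h2 : Nat.card {q : (Fin 2 × Fin 2) × pairCent x y // (rep x y q.1 * (q.2 : E)) ^ 2 = 1}
      = ∑ ij : Fin 2 × Fin 2, Nat.card {c : pairCent x y // (rep x y ij * (c : E)) ^ 2 = 1} := by
    rw [← Nat.card_sigma]
    exact Nat.card_congr (Equiv.subtypeProdEquivSigmaSubtype
      (fun (ij : Fin 2 × Fin 2) (c : pairCent x y) => (rep x y ij * (c : E)) ^ 2 = 1))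
  have h3 : ∀ ij : Fin 2 × Fin 2,
      Nat.card {c : pairCent x y // (rep x y ij * (c : E)) ^ 2 = 1}
        = cnt (pairCent x y) (rep x y ij) :=
    fun ij => card_coset_sq h _ _ (fun c => rep_comm x y c ij)
  rw [h1, h2]
  simp only [h3]
  rw [Fintype.sum_prod_type, Fin.sum_univ_two, Fin.sum_univ_two, Fin.sum_univ_two]
  have r00 : rep x y (0, 0) = 1 := by simp [rep]
  have r01 : rep x y (0, 1) = y := by simp [rep]
  have r10 : rep x y (1, 0) = x := by simp [rep]
  have r11 : rep x y (1, 1) = x * y := by simp [rep]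
  rw [r00, r01, r10, r11, cnt_of_sq_eq_one _ (one_pow 2)]
  ring

end count

end Cfsg.Agent.helper17.ES
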