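import Mathlib
import Cfsg.Agent.Lib_helper17_ES3

/-! The possible numbers of square roots of 1 in a central type 2-group (helper17). -/

set_option autoImplicit false

namespace Cfsg.Agent.helper17.ES

open scoped commutatorElement

universe u

variable {E : Type u} [Group E]

theorem exists_comm_ne_of_not_mem_center {x : E} (hx : x ∉ Subgroup.center E) :
    ∃ y : E, ⁅x, y⁆ ≠ 1 := by
  rw [Subgroup.mem_center_iff, not_forall] at hx
  obtain ⟨y, hy⟩ := hx
  refine ⟨y, fun h => hy ?_⟩
  exact (commutatorElement_eq_one_iff_mul_comm.mp h).symm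

theorem exists_pair [Finite E] (h : CT 2 E) (hcard : 2 < Nat.card E) :
    ∃ x y : E, ⁅x, y⁆ ≠ 1 := by
  have : ∃ x : E, x ∉ Subgroup.center E := by
    by_contra hcon
    push Not at hcon
    have : Subgroup.center E = ⊤ := by
      ext x; simp [hcon x]
    have h2 := h.1
    rw [this, Subgroup.card_top] at h2
    omega
  obtain ⟨x, hx⟩ := this
  obtain ⟨y, hy⟩ := exists_comm_ne_of_not_mem_center hx
  exact ⟨x, y, hy⟩

section

variable [Finite E] {z : E} (h : Z2 E z)

include h

theorem sCount_le_card_sub {C : Subgroup E} : sCount C ≤ Nat.card C := sCount_le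

/-- an involution in a non-commuting pair. -/
theorem s_of_invol (t y : E) (hty : ⁅t, y⁆ ≠ 1) (ht : t ^ 2 = 1) :
    sCount E = 2 * sCount (pairCent t y) + Nat.card (pairCent t y) := by
  have h1 := s_split h t y hty
  have hle : sCount (pairCent t y) ≤ Nat.card (pairCent t y) := sCount_le
  rw [cnt_of_sq_eq_one _ ht] at h1
  have h2 : (t * y) ^ 2 = y ^ 2 * z := by
    rw [h.mul_sq_of_ne hty, ht, one_mul]
  by_cases hy : y ^ 2 = 1
  · have h3 : (t * y) ^ 2 ≠ 1 := by
      rw [h2, hy, one_mul]; exact h.ne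
    rw [cnt_of_sq_eq_one _ hy, cnt_of_sq_ne_one _ h3] at h1
    omega
  · have h3 : (t * y) ^ 2 = 1 := by
      rw [h2, h.sq_eq_of_ne hy]; exact h.sq
    rw [cnt_of_sq_ne_one _ hy, cnt_of_sq_eq_one _ h3] at h1
    omega

/-- a quaternion-like non-commuting pair. -/
theorem s_of_quat (x y : E) (hxy : ⁅x, y⁆ ≠ 1) (hx : x ^ 2 ≠ 1) (hy : y ^ 2 ≠ 1) :
    sCount E + 2 * sCount (pairCent x y) = 3 * Nat.card (pairCent x y) := by
  have h1 := s_split h x y hxy
  have hle : sCount (pairCent x y) ≤ Nat.card (pairCent x y) := sCount_le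
  have h3 : (x * y) ^ 2 ≠ 1 := by
    rw [h.mul_sq_of_ne hxy, h.sq_eq_of_ne hx, h.sq_eq_of_ne hy, h.sq, one_mul]
    exact h.ne
  rw [cnt_of_sq_ne_one _ hx, cnt_of_sq_ne_one _ hy, cnt_of_sq_ne_one _ h3] at h1
  omega

/-- more than two square roots of one gives a non-central involution. -/
theorem exists_noncentral_invol (hs : 2 < sCount E) : ∃ t : E, t ∉ Subgroup.center E ∧ t ^ 2 = 1 := by
  by_contra hcon
  push Not at hcon
  have hall : ∀ g : E, g ^ 2 = 1 → g ∈ Subgroup.center E := by
    intro g hg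
    by_contra hgc
    exact hcon g hgc hg
  have hle : sCount E ≤ Nat.card (Subgroup.center E) := by
    unfold sCount
    apply Nat.card_le_card_of_injective (fun g : {g : E // g ^ 2 = 1} =>
      (⟨g.1, hall g.1 g.2⟩ : Subgroup.center E))
    intro a b hab
    apply Subtype.ext
    exact congrArg (fun t : Subgroup.center E => (t : E)) hab
  rw [h.ct.1] at hle
  omega

end

/-- plus type -/
def IsPlus (E : Type*) [Group E] (n : ℕ) : Prop :=
  Nat.card E = 2 ^ (2 * n + 1) ∧ sCount E = 2 ^ (2 * n) + 2 ^ n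

/-- minus type -/
def IsMinus (E : Type*) [Group E] (n : ℕ) : Prop :=
  Nat.card E = 2 ^ (2 * n + 1) ∧ 1 ≤ n ∧ sCount E + 2 ^ n = 2 ^ (2 * n)

theorem sCount_of_card_two [Finite E] (hcard : Nat.card E = 2) : sCount E = 2 := by
  unfold sCount
  have h1 : Nat.card {g : E // g ^ 2 = 1} = Nat.card E := by
    apply Nat.card_congr
    refine (Equiv.subtypeUnivEquiv (fun g => ?_))
    have := pow_card_eq_one' (G := E) (x := g)
    rw [hcard] at this
    exact this
  rw [h1, hcard]

theorem type_cases : ∀ (n : ℕ) (E : Type u) [Group E] [Finite E], CT 2 E →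
    Nat.card E = 2 ^ (2 * n + 1) → IsPlus E n ∨ IsMinus E n := by
  intro n
  induction n with
  | zero =>
    intro E _ _ hE hcard
    left
    refine ⟨hcard, ?_⟩
    simp only [mul_zero, zero_add, pow_one] at hcard
    rw [sCount_of_card_two hcard]
    norm_num
  | succ n ih =>
    intro E _ _ hE hcard
    haveI : Fact (Nat.Prime 2) := ⟨Nat.prime_two⟩
    obtain ⟨z, hz⟩ := exists_Z2 hE
    have hbig : 2 < Nat.card E := by
      rw [hcard]
      calc 2 = 2 ^ 1 := by norm_num
        _ < 2 ^ (2 * (n + 1) + 1) := Nat.pow_lt_pow_right (by norm_num) (by omega)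
    obtain ⟨x, y, hxy⟩ := exists_pair hE hbig
    have e1 : (2 : ℕ) ^ (2 * (n + 1) + 1) = 2 ^ (2 * n + 1) * 2 ^ 2 := by
      rw [← pow_add]; congr 1
    have e2 : (2 : ℕ) ^ (2 * n + 1) = 2 * 2 ^ (2 * n) := by rw [pow_succ]; ring
    have e3 : (2 : ℕ) ^ (2 * (n + 1)) = 4 * 2 ^ (2 * n) := by
      rw [show 2 * (n + 1) = 2 * n + 2 by ring, pow_add]; ring
    have e4 : (2 : ℕ) ^ (n + 1) = 2 * 2 ^ n := by rw [pow_succ]; ring
    have hpos : 0 < 2 ^ n := Nat.pos_of_ne_zero (by positivity)
    have hle : 2 ^ n ≤ 2 ^ (2 * n) := Nat.pow_le_pow_right (by norm_num) (by omega)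
    -- general handling for a pair
    have main : ∀ (C : Subgroup E), CT 2 C → Nat.card E = Nat.card C * 2 ^ 2 →
        (sCount E = 2 * sCount C + Nat.card C ∨ sCount E + 2 * sCount C = 3 * Nat.card C) →
        IsPlus E (n + 1) ∨ IsMinus E (n + 1) := by
      intro C hC hcE hs
      have hcC : Nat.card C = 2 ^ (2 * n + 1) := by
        rw [hcard, e1] at hcE
        exact (Nat.eq_of_mul_eq_mul_right (by norm_num) hcE).symm
      rcases ih C hC hcC with ⟨_, hp⟩ | ⟨_, hn1, hm⟩
      · rcases hs with hs | hs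
        · left
          refine ⟨hcard, ?_⟩
          rw [hs, hp, hcC, e2, e3, e4]; ring
        · right
          refine ⟨hcard, by omega, ?_⟩
          rw [hp, hcC, e2] at hs
          rw [e3, e4]; omega
      · rcases hs with hs | hs
        · right
          refine ⟨hcard, by omega, ?_⟩
          rw [hcC, e2] at hs
          rw [e3, e4]; omega
        · left
          refine ⟨hcard, ?_⟩
          rw [hcC, e2] at hs
          rw [e3, e4]; omega
    by_cases hx : x ^ 2 = 1
    · obtain ⟨hc1, _, hc3, _⟩ := split hE x y hxy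
      exact main _ hc3 hc1 (Or.inl (s_of_invol hz x y hxy hx))
    · by_cases hy : y ^ 2 = 1
      · have hyx := hz.comm_symm_ne hxy
        obtain ⟨hc1, _, hc3, _⟩ := split hE y x hyx
        exact main _ hc3 hc1 (Or.inl (s_of_invol hz y x hyx hy))
      · obtain ⟨hc1, _, hc3, _⟩ := split hE x y hxy
        exact main _ hc3 hc1 (Or.inr (s_of_quat hz x y hxy hx hy))

end Cfsg.Agent.helper17.ES
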