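import Mathlib
import Cfsg.Agent.Lib_helper17_ES4
import Cfsg.Agent.Lib_helper11_DihPres
import Cfsg.Agent.Lib_helper11_QuatPres

/-! Isomorphism classification of central type 2-groups by order and number of square roots of 1
(helper17). -/

set_option autoImplicit false

namespace Cfsg.Agent.helper17.ES

open scoped commutatorElement
open Cfsg.Agent.helper11

universe u v

theorem equiv_of_common_cover {P : Type*} {E : Type*} {E' : Type*} [Group P] [Group E] [Group E']
    (μ : P →* E) (μ' : P →* E') (hμ : Function.Surjective μ) (hμ' : Function.Surjective μ')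
    (hker : ∀ q, μ q = 1 ↔ μ' q = 1) : Nonempty (E ≃* E') := by
  have hk : μ.ker = μ'.ker := by
    ext q
    rw [MonoidHom.mem_ker, MonoidHom.mem_ker, hker]
  exact ⟨(QuotientGroup.quotientKerEquivOfSurjective μ hμ).symm.trans
    ((QuotientGroup.quotientMulEquivOfEq hk).trans
      (QuotientGroup.quotientKerEquivOfSurjective μ' hμ'))⟩

theorem dih_center : ∀ d : DihedralGroup 4,
    d * DihedralGroup.r 1 = DihedralGroup.r 1 * d →
    d * DihedralGroup.sr 0 = DihedralGroup.sr 0 * d → d = 1 ∨ d = DihedralGroup.r 2 := by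
  decide

variable {E : Type u} [Group E]

section dih

variable {z : E} (h : Z2 E z) (r t : E) (hr : r ^ 2 = z) (ht : t ^ 2 = 1) (htr : ⁅t, r⁆ ≠ 1)

include h hr

theorem r_pow_four : r ^ 4 = 1 := by
  rw [show 4 = 2 * 2 by norm_num, pow_mul, hr, pow_two, h.sq]

theorem orderOf_r : orderOf r = 4 := by
  haveI : Fact (Nat.Prime 2) := ⟨Nat.prime_two⟩
  have h1 : ¬ r ^ 2 ^ 1 = 1 := by
    rw [pow_one, hr]; exact h.ne
  have h2 : r ^ 2 ^ (1 + 1) = 1 := by
    have := r_pow_four h r hr
    norm_num
    exact this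
  have := orderOf_eq_prime_pow h1 h2
  rw [this]
  norm_num

theorem r_inv : r⁻¹ = z * r := by
  apply inv_eq_of_mul_eq_one_right
  rw [← mul_assoc, h.cen r, mul_assoc, ← pow_two, hr, h.sq]

include htr

theorem conj_r : t * r * t⁻¹ = r⁻¹ := by
  have h1 : ⁅t, r⁆ = z := h.comm_eq_of_ne htr
  rw [r_inv h r hr, ← h1]
  simp only [commutatorElement_def]
  group

omit h hr in
theorem t_not_mem : t ∉ Subgroup.zpowers r := by
  intro hmem
  apply htr
  rw [commutatorElement_eq_one_iff_mul_comm]
  obtain ⟨k, rfl⟩ := Subgroup.mem_zpowers_iff.mp hmem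
  exact ((Commute.refl r).zpow_left k).eq

include ht

/-- the injective homomorphism from the dihedral group of order 8. -/
noncomputable def dHom : DihedralGroup 4 →* E :=
  DihPres.dihHom r t (r_pow_four h r hr) (by rw [← pow_two]; exact ht) (conj_r h r t hr htr)

theorem dHom_injective : Function.Injective (dHom h r t hr ht htr) :=
  DihPres.dihHom_injective (r_pow_four h r hr) (by rw [orderOf_r h r hr]) (by rw [← pow_two]; exact ht)
    (conj_r h r t hr htr) (t_not_mem r t htr)

theorem dHom_r : dHom h r t hr ht htr (DihedralGroup.r 1) = r := by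
  have := DihPres.dihHom_r (r_pow_four h r hr) (by rw [← pow_two]; exact ht) (conj_r h r t hr htr) (1 : ZMod 4)
  have h1 : (1 : ZMod 4).val = 1 := by decide
  rw [h1, pow_one] at this
  exact this

theorem dHom_sr : dHom h r t hr ht htr (DihedralGroup.sr 0) = t := by
  have := DihPres.dihHom_sr (r_pow_four h r hr) (by rw [← pow_two]; exact ht) (conj_r h r t hr htr) (0 : ZMod 4)
  have h1 : (0 : ZMod 4).val = 0 := by decide
  rw [h1, pow_zero, mul_one] at this
  exact this

theorem dHom_r_two : dHom h r t hr ht htr (DihedralGroup.r 2) = z := by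
  have := DihPres.dihHom_r (r_pow_four h r hr) (by rw [← pow_two]; exact ht) (conj_r h r t hr htr) (2 : ZMod 4)
  have h1 : (2 : ZMod 4).val = 2 := by decide
  rw [h1, hr] at this
  exact this

theorem dHom_comm (d : DihedralGroup 4) (c : pairCent t r) :
    Commute (dHom h r t hr ht htr d) ((pairCent t r).subtype c) := by
  have hc := mem_pairCent.mp c.2
  have h1 : Commute t (c : E) := hc.1.symm
  have h2 : Commute r (c : E) := hc.2.symm
  rcases d with i | i
  · have := DihPres.dihHom_r (r_pow_four h r hr) (by rw [← pow_two]; exact ht)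
      (conj_r h r t hr htr) i
    show Commute (dHom h r t hr ht htr (DihedralGroup.r i)) (c : E)
    unfold dHom
    rw [this]
    exact h2.pow_left _
  · have := DihPres.dihHom_sr (r_pow_four h r hr) (by rw [← pow_two]; exact ht)
      (conj_r h r t hr htr) i
    show Commute (dHom h r t hr ht htr (DihedralGroup.sr i)) (c : E)
    unfold dHom
    rw [this]
    exact h1.mul_left (h2.pow_left _)

/-- the covering map `D8 × C → E`. -/
noncomputable def cover : DihedralGroup 4 × pairCent t r →* E :=
  MonoidHom.noncommCoprod (dHom h r t hr ht htr) (pairCent t r).subtype (dHom_comm h r t hr ht htr)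

theorem cover_apply (d : DihedralGroup 4) (c : pairCent t r) :
    cover h r t hr ht htr (d, c) = dHom h r t hr ht htr d * (c : E) := rfl

theorem cover_surjective [Finite E] : Function.Surjective (cover h r t hr ht htr) := by
  haveI : Fact (Nat.Prime 2) := ⟨Nat.prime_two⟩
  intro g
  obtain ⟨_, _, _, hdec⟩ := split h.ct t r htr
  obtain ⟨a, b, hab⟩ := hdec g
  refine ⟨((DihedralGroup.r 1) ^ a * (DihedralGroup.sr 0) ^ b, ⟨_, hab⟩), ?_⟩
  rw [cover_apply, map_mul, map_zpow, map_zpow, dHom_r, dHom_sr]
  group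

theorem cover_eq_one_iff [Finite E] (d : DihedralGroup 4) (c : pairCent t r) :
    cover h r t hr ht htr (d, c) = 1 ↔
      (d = 1 ∧ c = 1) ∨ (d = DihedralGroup.r 2 ∧ c ≠ 1 ∧ c ∈ Subgroup.center (pairCent t r)) := by
  haveI : Fact (Nat.Prime 2) := ⟨Nat.prime_two⟩
  obtain ⟨_, hcen, _, _⟩ := split h.ct t r htr
  rw [cover_apply]
  constructor
  · intro h1
    have h2 : dHom h r t hr ht htr d = (c : E)⁻¹ := eq_inv_of_mul_eq_one_left h1
    have hc := mem_pairCent.mp (Subgroup.inv_mem _ c.2)
    rw [← h2] at hc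
    have hd1 : d * DihedralGroup.r 1 = DihedralGroup.r 1 * d := by
      apply dHom_injective h r t hr ht htr
      rw [map_mul, map_mul, dHom_r]
      exact hc.2
    have hd2 : d * DihedralGroup.sr 0 = DihedralGroup.sr 0 * d := by
      apply dHom_injective h r t hr ht htr
      rw [map_mul, map_mul, dHom_sr]
      exact hc.1
    rcases dih_center d hd1 hd2 with hd | hd
    · left
      refine ⟨hd, ?_⟩
      rw [hd, map_one, one_mul] at h1
      exact Subtype.ext h1
    · right
      refine ⟨hd, ?_, ?_⟩
      · intro hc1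
        rw [hd, dHom_r_two, hc1] at h1
        simp only [OneMemClass.coe_one, mul_one] at h1
        exact h.ne h1
      · rw [hcen, Subgroup.mem_subgroupOf]
        rw [hd, dHom_r_two] at h1
        have : (c : E) = z := by
          rw [← h.inv_eq]
          exact (eq_inv_of_mul_eq_one_right h1)
        rw [this]
        exact h.mem_center
  · rintro (⟨hd, hc⟩ | ⟨hd, hc1, hc2⟩)
    · rw [hd, hc, map_one]; simp
    · rw [hcen, Subgroup.mem_subgroupOf] at hc2
      have : (c : E) = z := by
        rcases h.only _ hc2 with h3 | h3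
        · exact absurd (Subtype.ext h3) hc1
        · exact h3
      rw [hd, dHom_r_two, this, h.sq]

end dih

section

variable [Finite E] {z : E} (h : Z2 E z)

include h

/-- a non-central involution has a partner of order four. -/
theorem exists_dih_pair {t : E} (htc : t ∉ Subgroup.center E) (ht : t ^ 2 = 1) :
    ∃ r : E, r ^ 2 = z ∧ ⁅t, r⁆ ≠ 1 := by
  obtain ⟨y, hy⟩ := exists_comm_ne_of_not_mem_center htc
  by_cases hy2 : y ^ 2 = 1
  · refine ⟨t * y, ?_, ?_⟩
    · rw [h.mul_sq_of_ne hy, ht, hy2, one_mul, one_mul]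
    · rw [comm_mul_right h.cl, commutatorElement_self, one_mul]
      exact hy
  · exact ⟨y, h.sq_eq_of_ne hy2, hy⟩

theorem two_lt_sCount_of_invol {t : E} (htc : t ∉ Subgroup.center E) (ht : t ^ 2 = 1) :
    2 < sCount E := by
  obtain ⟨y, hy⟩ := exists_comm_ne_of_not_mem_center htc
  rw [s_of_invol h t y hy ht]
  have h1 : 0 < sCount (pairCent t y) := by
    unfold sCount
    haveI : Nonempty {g : pairCent t y // g ^ 2 = 1} := ⟨⟨1, one_pow 2⟩⟩
    exact Nat.card_pos
  have h2 : 2 ≤ Nat.card (pairCent t y) := by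
    have := Subgroup.card_le_of_le (center_le_pairCent t y)
    rw [h.ct.1] at this
    exact this
  omega

end

/-- a central type 2-group with at most two square roots of one is quaternion of order 8. -/
theorem quat_of_small [Finite E] (hE : CT 2 E) (hbig : 2 < Nat.card E) (hs : sCount E ≤ 2) :
    Nonempty (QuaternionGroup 2 ≃* E) := by
  haveI : Fact (Nat.Prime 2) := ⟨Nat.prime_two⟩
  obtain ⟨z, h⟩ := exists_Z2 hE
  obtain ⟨x, y, hxy⟩ := exists_pair hE hbig
  have hx : x ^ 2 ≠ 1 := by
    intro hx
    have := two_lt_sCount_of_invol h (Z2.not_mem_center_of_comm_ne hxy) hx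
    omega
  have hy : y ^ 2 ≠ 1 := by
    intro hy
    have := two_lt_sCount_of_invol h (Z2.not_mem_center_of_comm_ne (h.comm_symm_ne hxy)) hy
    omega
  have hs2 := s_of_quat h x y hxy hx hy
  have hle : sCount (pairCent x y) ≤ Nat.card (pairCent x y) := sCount_le
  have hcard : Nat.card E = 8 := by
    have h1 := (split hE x y hxy).1
    have h2 : 2 ≤ Nat.card (pairCent x y) := by
      have := Subgroup.card_le_of_le (center_le_pairCent x y)
      rw [hE.1] at this
      exact this
    have h3 : Nat.card (pairCent x y) = 2 := by omega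
    rw [h1, h3]; norm_num
  have hx4 : orderOf x = 2 * 2 := orderOf_r h x (h.sq_eq_of_ne hx)
  have hyx : y * x * y⁻¹ = x⁻¹ := conj_r h x y (h.sq_eq_of_ne hx) (h.comm_symm_ne hxy)
  have hy2 : y ^ 2 = x ^ 2 := by rw [h.sq_eq_of_ne hx, h.sq_eq_of_ne hy]
  have hinj := QuatPres.quatHom_injective (n := 2) (le_refl 2) hx4 hy2 hyx
  have hbij : Function.Bijective (QuatPres.quatHom x y
      (by rw [← hx4]; exact pow_orderOf_eq_one x) hy2 hyx) := by
    apply hinj.bijective_of_nat_card_le
    rw [hcard, Nat.card_eq_fintype_card, QuaternionGroup.card]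
  exact ⟨MulEquiv.ofBijective _ hbij⟩

theorem mem_center_equiv {C : Type*} {C' : Type*} [Group C] [Group C'] (ψ : C ≃* C') (c : C) :
    ψ c ∈ Subgroup.center C' ↔ c ∈ Subgroup.center C := by
  rw [Subgroup.mem_center_iff, Subgroup.mem_center_iff]
  constructor
  · intro h1 g
    apply ψ.injective
    rw [map_mul, map_mul]
    exact h1 (ψ g)
  · intro h1 g
    obtain ⟨g', rfl⟩ := ψ.surjective g
    rw [← map_mul, ← map_mul, h1 g']

/-- central type 2-groups of the same order with the same number of square roots of one are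
isomorphic. -/
theorem classify : ∀ (n : ℕ) (E : Type u) (E' : Type v) [Group E] [Group E'] [Finite E] [Finite E'],
    CT 2 E → CT 2 E' → Nat.card E = 2 ^ (2 * n + 1) → Nat.card E' = 2 ^ (2 * n + 1) →
    sCount E = sCount E' → Nonempty (E ≃* E') := by
  intro n
  induction n with
  | zero =>
    intro E E' _ _ _ _ _ _ hc hc' _
    haveI : Fact (Nat.Prime 2) := ⟨Nat.prime_two⟩
    simp only [mul_zero, zero_add, pow_one] at hc hc'
    exact ⟨mulEquivOfPrimeCardEq hc hc'⟩
  | succ n ih =>
    intro E E' _ _ _ _ hE hE' hc hc' hs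
    haveI : Fact (Nat.Prime 2) := ⟨Nat.prime_two⟩
    have hbig : (2 : ℕ) < 2 ^ (2 * (n + 1) + 1) := by
      calc 2 = 2 ^ 1 := by norm_num
        _ < 2 ^ (2 * (n + 1) + 1) := Nat.pow_lt_pow_right (by norm_num) (by omega)
    by_cases hs2 : sCount E ≤ 2
    · obtain ⟨e⟩ := quat_of_small hE (by rw [hc]; exact hbig) hs2
      obtain ⟨e'⟩ := quat_of_small hE' (by rw [hc']; exact hbig) (by rw [← hs]; exact hs2)
      exact ⟨e.symm.trans e'⟩
    · push Not at hs2
      obtain ⟨z, h⟩ := exists_Z2 hE
      obtain ⟨z', h'⟩ := exists_Z2 hE'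
      obtain ⟨t, htc, ht⟩ := exists_noncentral_invol h hs2
      obtain ⟨t', htc', ht'⟩ := exists_noncentral_invol h' (by rw [← hs]; exact hs2)
      obtain ⟨r, hr, htr⟩ := exists_dih_pair h htc ht
      obtain ⟨r', hr', htr'⟩ := exists_dih_pair h' htc' ht'
      obtain ⟨hc1, _, hC, _⟩ := split hE t r htr
      obtain ⟨hc1', _, hC', _⟩ := split hE' t' r' htr'
      have e1 : (2 : ℕ) ^ (2 * (n + 1) + 1) = 2 ^ (2 * n + 1) * 2 ^ 2 := by
        rw [← pow_add]; congr 1
      have hcC : Nat.card (pairCent t r) = 2 ^ (2 * n + 1) := by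
        rw [hc, e1] at hc1
        exact (Nat.eq_of_mul_eq_mul_right (by norm_num) hc1).symm
      have hcC' : Nat.card (pairCent t' r') = 2 ^ (2 * n + 1) := by
        rw [hc', e1] at hc1'
        exact (Nat.eq_of_mul_eq_mul_right (by norm_num) hc1').symm
      have hsC : sCount (pairCent t r) = sCount (pairCent t' r') := by
        have h1 := s_of_invol h t r htr ht
        have h2 := s_of_invol h' t' r' htr' ht'
        rw [hcC] at h1
        rw [hcC'] at h2
        omega
      obtain ⟨ψ⟩ := ih (pairCent t r) (pairCent t' r') hC hC' hcC hcC' hsC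
      let μ := cover h r t hr ht htr
      let μ' : DihedralGroup 4 × pairCent t r →* E' :=
        (cover h' r' t' hr' ht' htr').comp
          (MonoidHom.prodMap (MonoidHom.id (DihedralGroup 4)) ψ.toMonoidHom)
      have hμ : Function.Surjective μ := cover_surjective h r t hr ht htr
      have hμ' : Function.Surjective μ' := by
        intro g
        obtain ⟨⟨d, c'⟩, hdc⟩ := cover_surjective h' r' t' hr' ht' htr' g
        refine ⟨(d, ψ.symm c'), ?_⟩
        show cover h' r' t' hr' ht' htr' (d, ψ (ψ.symm c')) = g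
        rw [ψ.apply_symm_apply]
        exact hdc
      apply equiv_of_common_cover μ μ' hμ hμ'
      rintro ⟨d, c⟩
      show cover h r t hr ht htr (d, c) = 1 ↔ cover h' r' t' hr' ht' htr' (d, ψ c) = 1
      rw [cover_eq_one_iff, cover_eq_one_iff, mem_center_equiv ψ c]
      have : ψ c = 1 ↔ c = 1 := by
        constructor
        · intro h1
          apply ψ.injective
          rw [h1, map_one]
        · intro h1
          rw [h1, map_one]
      rw [ne_eq, ne_eq, this]

end Cfsg.Agent.helper17.ES
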