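import Mathlib
import Cfsg.Prelude.Def_Transfer
import Cfsg.Agent.Lib_lead_Class2
import Cfsg.Agent.Lib_helper17_ES5
import Cfsg.Agent.Lib_helper1_ElemAb
import Cfsg.Agent.Lib_helper1_PGroup

/-! Groups of order `p^3`: characteristic chains (helper17). -/

set_option autoImplicit false

namespace Cfsg.Agent.helper17.P3

open scoped commutatorElement
open Cfsg.Agent.helper17.ES

universe u

/-- a chain of characteristic subgroups of orders `p`, `p^2` -/
def HasChain (H : Type*) [Group H] (p : ℕ) : Prop :=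
  ∃ H1 H2 : Subgroup H, H1 ≤ H2 ∧ Nat.card H1 = p ∧ Nat.card H2 = p ^ 2 ∧
    (∀ α : MulAut H, ∀ x ∈ H1, α x ∈ H1) ∧ (∀ α : MulAut H, ∀ x ∈ H2, α x ∈ H2)

variable {H : Type u} [Group H] [Finite H] {p : ℕ} [hp : Fact p.Prime]

theorem card_ker_mul_card_range (f : H →* H) : Nat.card f.ker * Nat.card f.range = Nat.card H := by
  rw [Subgroup.card_eq_card_quotient_mul_card_subgroup f.ker, mul_comm]
  congr 1
  exact Nat.card_congr (QuotientGroup.quotientKerEquivRange f).toEquiv.symm

theorem center_char (α : MulAut H) (z : H) (hz : z ∈ Subgroup.center H) : α z ∈ Subgroup.center H := by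
  rw [Subgroup.mem_center_iff] at hz ⊢
  intro g
  have h1 := hz (α⁻¹ g)
  have h2 := congrArg α h1
  rw [map_mul, map_mul, MulAut.apply_inv_self] at h2
  exact h2

theorem abelian_case (hc : Nat.card H = p ^ 3) (hab : ∀ a b : H, a * b = b * a)
    (hne : ∃ a : H, a ^ p ≠ 1) : HasChain H p := by
  have hpp : p.Prime := hp.out
  let f : H →* H :=
    { toFun := fun x => x ^ p
      map_one' := one_pow p
      map_mul' := fun x y => (show Commute x y from hab x y).mul_pow p }
  have hf : ∀ x, f x = x ^ p := fun _ => rfl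
  have hker_char : ∀ α : MulAut H, ∀ x ∈ f.ker, α x ∈ f.ker := by
    intro α x hx
    rw [MonoidHom.mem_ker, hf] at hx ⊢
    rw [← map_pow, hx, map_one]
  have hran_char : ∀ α : MulAut H, ∀ x ∈ f.range, α x ∈ f.range := by
    rintro α _ ⟨y, rfl⟩
    exact ⟨α y, by rw [hf, hf, map_pow]⟩
  have hcard := card_ker_mul_card_range f
  rw [hc] at hcard
  obtain ⟨i, hi, hki⟩ := (Nat.dvd_prime_pow hpp).mp (Dvd.intro _ hcard)
  obtain ⟨j, hj, hrj⟩ := (Nat.dvd_prime_pow hpp).mp (Dvd.intro_left _ hcard)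
  have hij : i + j = 3 := by
    rw [hki, hrj, ← pow_add] at hcard
    exact Nat.pow_right_injective hpp.two_le hcard
  have hj0 : j ≠ 0 := by
    intro h
    rw [h, pow_zero] at hrj
    obtain ⟨a, ha⟩ := hne
    have h1 : f.range = ⊥ := Subgroup.eq_bot_of_card_eq _ hrj
    have h2 : a ^ p ∈ f.range := ⟨a, rfl⟩
    rw [h1, Subgroup.mem_bot] at h2
    exact ha h2
  have hi0 : i ≠ 0 := by
    intro h
    rw [h, pow_zero] at hki
    have h1 : f.ker = ⊥ := Subgroup.eq_bot_of_card_eq _ hki
    have hdvd : p ∣ Nat.card H := by rw [hc]; exact dvd_pow_self p (by norm_num)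
    obtain ⟨g, hg⟩ := exists_prime_orderOf_dvd_card' p hdvd
    have h2 : g ∈ f.ker := by
      rw [MonoidHom.mem_ker, hf, ← hg]
      exact pow_orderOf_eq_one g
    rw [h1, Subgroup.mem_bot] at h2
    rw [h2, orderOf_one] at hg
    exact hpp.one_lt.ne hg
  have hcases : (i = 2 ∧ j = 1) ∨ (i = 1 ∧ j = 2) := by omega
  rcases hcases with ⟨rfl, rfl⟩ | ⟨rfl, rfl⟩
  · refine ⟨f.range, f.ker, ?_, by rw [hrj, pow_one], hki, hran_char, hker_char⟩
    rintro _ ⟨x, rfl⟩
    rw [MonoidHom.mem_ker, hf]
    have h1 : (⟨f x, ⟨x, rfl⟩⟩ : f.range) ^ Nat.card f.range = 1 := pow_card_eq_one'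
    rw [hrj, pow_one] at h1
    have h2 := congrArg Subtype.val h1
    rw [Subgroup.coe_pow, Subgroup.coe_one] at h2
    exact h2
  · refine ⟨f.ker, f.range, ?_, by rw [hki, pow_one], hrj, hker_char, hran_char⟩
    rw [pow_one] at hki
    have hdvd : p ∣ Nat.card f.range := by rw [hrj]; exact dvd_pow_self p (by norm_num)
    obtain ⟨w, hw⟩ := exists_prime_orderOf_dvd_card' p hdvd
    have hwp : (w : H) ^ p = 1 := by
      have h1 : w ^ p = 1 := by rw [← hw]; exact pow_orderOf_eq_one w
      have h2 := congrArg Subtype.val h1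
      rw [Subgroup.coe_pow, Subgroup.coe_one] at h2
      exact h2
    have hwker : (w : H) ∈ f.ker := by rw [MonoidHom.mem_ker, hf]; exact hwp
    have hw1 : (⟨(w : H), hwker⟩ : f.ker) ≠ 1 := by
      intro h
      have h2 : (w : H) = 1 := congrArg Subtype.val h
      have h3 : w = 1 := Subtype.ext h2
      rw [h3, orderOf_one] at hw
      exact hpp.one_lt.ne hw
    intro x hx
    have hmem := mem_zpowers_of_prime_card hki hw1 (g' := ⟨x, hx⟩)
    obtain ⟨k, hk⟩ := Subgroup.mem_zpowers_iff.mp hmem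
    have h2 := congrArg Subtype.val hk
    rw [Subgroup.coe_zpow] at h2
    have h3 : (w : H) ^ k = x := h2
    rw [← h3]
    exact f.range.zpow_mem w.2 k

theorem nonab_facts (hc : Nat.card H = p ^ 3) (hnab : ¬ ∀ a b : H, a * b = b * a) :
    Nat.card (Subgroup.center H) = p ∧ (∀ a b : H, ⁅a, b⁆ ∈ Subgroup.center H) ∧
      (∀ x : H, x ^ p ∈ Subgroup.center H) := by
  have hpp : p.Prime := hp.out
  have hpg : IsPGroup p H := IsPGroup.of_card hc
  haveI : Nontrivial H := by
    rw [← Finite.one_lt_card_iff_nontrivial, hc]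
    exact Nat.one_lt_pow (by norm_num) hpp.one_lt
  have hZ0 : Subgroup.center H ≠ ⊥ := (hpg.bot_lt_center).ne'
  have hdvd : Nat.card (Subgroup.center H) ∣ p ^ 3 := hc ▸ Subgroup.card_subgroup_dvd_card _
  obtain ⟨i, hi, hZi⟩ := (Nat.dvd_prime_pow hpp).mp hdvd
  have hquot := Subgroup.card_eq_card_quotient_mul_card_subgroup (Subgroup.center H)
  rw [hc, hZi] at hquot
  have hi0 : i ≠ 0 := by
    intro h
    rw [h, pow_zero] at hZi
    exact hZ0 (Subgroup.eq_bot_of_card_eq _ hZi)
  have hi3 : i ≠ 3 := by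
    intro h
    rw [h, ← hc] at hZi
    have htop : Subgroup.center H = ⊤ := Subgroup.eq_top_of_card_eq _ hZi
    apply hnab
    intro a b
    have hb : b ∈ Subgroup.center H := by rw [htop]; exact Subgroup.mem_top b
    exact Subgroup.mem_center_iff.mp hb a
  have hi2 : i ≠ 2 := by
    intro h
    rw [h] at hquot
    have hq : Nat.card (H ⧸ Subgroup.center H) = p := by
      have h3 : p ^ 3 = p * p ^ 2 := by ring
      rw [h3] at hquot
      exact (Nat.eq_of_mul_eq_mul_right (pow_pos hpp.pos 2) hquot).symm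
    haveI : IsCyclic (H ⧸ Subgroup.center H) := isCyclic_of_prime_card hq
    apply hnab
    intro a b
    exact commutative_of_cyclic_center_quotient (QuotientGroup.mk' (Subgroup.center H))
      (by rw [QuotientGroup.ker_mk']) a b
  have hi1 : i = 1 := by omega
  subst hi1
  rw [pow_one] at hZi hquot
  have hq : Nat.card (H ⧸ Subgroup.center H) = p ^ 2 := by
    have h3 : p ^ 3 = p ^ 2 * p := by ring
    rw [h3] at hquot
    exact (Nat.eq_of_mul_eq_mul_right hpp.pos hquot).symm
  have hqc : IsMulCommutative (H ⧸ Subgroup.center H) := IsPGroup.isMulCommutative_of_card_eq_prime_sq hq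
  refine ⟨hZi, ?_, ?_⟩
  · intro a b
    rw [← QuotientGroup.eq_one_iff]
    have h1 : ((⁅a, b⁆ : H) : H ⧸ Subgroup.center H) =
        ⁅(a : H ⧸ Subgroup.center H), (b : H ⧸ Subgroup.center H)⁆ :=
      map_commutatorElement (QuotientGroup.mk' (Subgroup.center H)) a b
    rw [h1]
    exact commutatorElement_eq_one_iff_mul_comm.mpr (hqc.is_comm.comm _ _)
  · intro x
    rw [← QuotientGroup.eq_one_iff]
    set g : H ⧸ Subgroup.center H := (x : H ⧸ Subgroup.center H) with hg
    have h1 : orderOf g ∣ p ^ 2 := hq ▸ orderOf_dvd_natCard g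
    obtain ⟨k, hk, hgk⟩ := (Nat.dvd_prime_pow hpp).mp h1
    have hk2 : k ≠ 2 := by
      intro h
      rw [h, ← hq] at hgk
      haveI : IsCyclic (H ⧸ Subgroup.center H) := isCyclic_of_orderOf_eq_card g hgk
      apply hnab
      intro a b
      exact commutative_of_cyclic_center_quotient (QuotientGroup.mk' (Subgroup.center H))
        (by rw [QuotientGroup.ker_mk']) a b
    have h3 : orderOf g ∣ p := by
      rw [hgk]
      have : k ≤ 1 := by omega
      calc p ^ k ∣ p ^ 1 := pow_dvd_pow p this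
        _ = p := pow_one p
    have h4 : g ^ p = 1 := orderOf_dvd_iff_pow_eq_one.mp h3
    rw [QuotientGroup.mk_pow]
    exact h4

theorem odd_case (hc : Nat.card H = p ^ 3) (hnab : ¬ ∀ a b : H, a * b = b * a) (hp2 : p ≠ 2) :
    HasChain H p ∨ (Cfsg.IsExtraspecial p H ∧ ∀ x : H, x ^ p = 1) := by
  have hpp : p.Prime := hp.out
  have hpg : IsPGroup p H := IsPGroup.of_card hc
  obtain ⟨hZ, hcl, hpow⟩ := nonab_facts hc hnab
  have hcen : ∀ z ∈ Subgroup.center H, z ^ p = 1 := by
    intro z hz
    have h1 : (⟨z, hz⟩ : Subgroup.center H) ^ Nat.card (Subgroup.center H) = 1 := pow_card_eq_one'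
    rw [hZ] at h1
    have h2 := congrArg Subtype.val h1
    rw [Subgroup.coe_pow, Subgroup.coe_one] at h2
    exact h2
  have hmul : ∀ x y : H, (x * y) ^ p = x ^ p * y ^ p := by
    intro x y
    have hcx : Commute ⁅y, x⁆ x := (Subgroup.mem_center_iff.mp (hcl y x) x).symm
    have hcy : Commute ⁅y, x⁆ y := (Subgroup.mem_center_iff.mp (hcl y x) y).symm
    rw [Cfsg.Agent.lead.mul_pow_class2 x y ⁅y, x⁆ (Cfsg.Agent.lead.mul_eq_commutator_mul x y) hcx hcy p]
    obtain ⟨k, hk⟩ := hpp.odd_of_ne_two hp2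
    have h1 : p * (p - 1) / 2 = p * k := by
      have : p - 1 = 2 * k := by omega
      rw [this, ← mul_assoc, mul_comm p 2, mul_assoc, Nat.mul_div_cancel_left _ (by norm_num : 0 < 2)]
    rw [h1, pow_mul, hcen _ (hcl y x), one_pow, mul_one]
  have hle : commutator H ≤ Subgroup.center H := by
    rw [commutator_def, Subgroup.commutator_le]
    intro a _ b _
    exact hcl a b
  by_cases hexp : ∀ x : H, x ^ p = 1
  · right
    refine ⟨⟨⟨hpg, ?_, ?_⟩, hZ⟩, hexp⟩
    · have heq : commutator H = Subgroup.center H := by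
        apply Subgroup.eq_of_le_of_card_ge hle
        have h1 : Nat.card (commutator H) ∣ p := hZ ▸ Subgroup.card_dvd_of_le hle
        rcases (Nat.dvd_prime hpp).mp h1 with h | h
        · exfalso
          apply hnab
          intro a b
          have h2 : commutator H = ⊥ := Subgroup.eq_bot_of_card_eq _ h
          have h3 : ⁅a, b⁆ ∈ commutator H := by
            rw [commutator_def]
            exact Subgroup.commutator_mem_commutator (Subgroup.mem_top a) (Subgroup.mem_top b)
          rw [h2, Subgroup.mem_bot] at h3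
          exact commutatorElement_eq_one_iff_mul_comm.mp h3
        · rw [h, hZ]
      apply le_antisymm
      · exact Cfsg.Agent.helper1.frattini_le_of_elemAb_quot (p := p) (Subgroup.center H) hle hpow
      · rw [← heq]
        exact Cfsg.Agent.helper1.commutator_le_frattini_of_isPGroup hpg
    · apply Subgroup.eq_of_le_of_card_ge hle
      have h1 : Nat.card (commutator H) ∣ p := hZ ▸ Subgroup.card_dvd_of_le hle
      rcases (Nat.dvd_prime hpp).mp h1 with h | h
      · exfalso
        apply hnab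
        intro a b
        have h2 : commutator H = ⊥ := Subgroup.eq_bot_of_card_eq _ h
        have h3 : ⁅a, b⁆ ∈ commutator H := by
          rw [commutator_def]
          exact Subgroup.commutator_mem_commutator (Subgroup.mem_top a) (Subgroup.mem_top b)
        rw [h2, Subgroup.mem_bot] at h3
        exact commutatorElement_eq_one_iff_mul_comm.mp h3
      · rw [h, hZ]
  · left
    push Not at hexp
    obtain ⟨a, ha⟩ := hexp
    let f : H →* H :=
      { toFun := fun x => x ^ p
        map_one' := one_pow p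
        map_mul' := hmul }
    have hf : ∀ x, f x = x ^ p := fun _ => rfl
    have hker_char : ∀ α : MulAut H, ∀ x ∈ f.ker, α x ∈ f.ker := by
      intro α x hx
      rw [MonoidHom.mem_ker, hf] at hx ⊢
      rw [← map_pow, hx, map_one]
    have hrle : f.range ≤ Subgroup.center H := by
      rintro _ ⟨x, rfl⟩
      exact hpow x
    have hrcard : Nat.card f.range = p := by
      have h1 : Nat.card f.range ∣ p := hZ ▸ Subgroup.card_dvd_of_le hrle
      rcases (Nat.dvd_prime hpp).mp h1 with h | h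
      · exfalso
        have h2 : f.range = ⊥ := Subgroup.eq_bot_of_card_eq _ h
        have h3 : a ^ p ∈ f.range := ⟨a, rfl⟩
        rw [h2, Subgroup.mem_bot] at h3
        exact ha h3
      · exact h
    have hcard := card_ker_mul_card_range f
    rw [hc, hrcard] at hcard
    have hkcard : Nat.card f.ker = p ^ 2 := by
      have h3 : p ^ 3 = p ^ 2 * p := by ring
      rw [h3] at hcard
      exact Nat.eq_of_mul_eq_mul_right hpp.pos hcard
    refine ⟨Subgroup.center H, f.ker, ?_, hZ, hkcard, center_char, hker_char⟩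
    intro z hz
    rw [MonoidHom.mem_ker, hf]
    exact hcen z hz

theorem two_case (hc : Nat.card H = 2 ^ 3) (hnab : ¬ ∀ a b : H, a * b = b * a) :
    HasChain H 2 ∨ Nonempty (H ≃* QuaternionGroup 2) := by
  haveI : Fact (Nat.Prime 2) := ⟨Nat.prime_two⟩
  obtain ⟨hZ, hcl, hpow⟩ := nonab_facts (p := 2) hc hnab
  have hCT : CT 2 H := ⟨hZ, hcl⟩
  have hc' : Nat.card H = 2 ^ (2 * 1 + 1) := by rw [hc]
  have hcen : ∀ z ∈ Subgroup.center H, z ^ 2 = 1 := by
    intro z hz
    have h1 : (⟨z, hz⟩ : Subgroup.center H) ^ Nat.card (Subgroup.center H) = 1 := pow_card_eq_one'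
    rw [hZ] at h1
    have h2 := congrArg Subtype.val h1
    rw [Subgroup.coe_pow, Subgroup.coe_one] at h2
    exact h2
  rcases type_cases 1 H hCT hc' with hplus | hminus
  · left
    obtain ⟨-, hs⟩ := hplus
    have hs6 : sCount H = 6 := by rw [hs]; norm_num
    have hT : Nat.card {g : H // ¬ g ^ 2 = 1} = 2 := by
      classical
      have h1 := Nat.card_congr (Equiv.sumCompl (fun g : H => g ^ 2 = 1))
      rw [Nat.card_sum, hc] at h1
      unfold sCount at hs6
      rw [hs6] at h1
      omega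
    haveI : Nonempty {g : H // ¬ g ^ 2 = 1} := (Nat.card_pos_iff.mp (by omega)).1
    obtain ⟨⟨u, hu⟩⟩ := this
    have huinv : ¬ (u⁻¹) ^ 2 = 1 := by
      rw [inv_pow, inv_eq_one]; exact hu
    have hune : u⁻¹ ≠ u := by
      intro h
      apply hu
      rw [pow_two]
      nth_rewrite 1 [← h]
      exact inv_mul_cancel u
    obtain ⟨y0, hy0, huniq⟩ := (Nat.card_eq_two_iff' (⟨u, hu⟩ : {g : H // ¬ g ^ 2 = 1})).mp hT
    have hall : ∀ w : H, ¬ w ^ 2 = 1 → w = u ∨ w = u⁻¹ := by
      intro w hw
      by_cases hwu : w = u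
      · exact Or.inl hwu
      · right
        have h1 : (⟨w, hw⟩ : {g : H // ¬ g ^ 2 = 1}) = y0 :=
          huniq _ (fun h => hwu (congrArg Subtype.val h))
        have h2 : (⟨u⁻¹, huinv⟩ : {g : H // ¬ g ^ 2 = 1}) = y0 :=
          huniq _ (fun h => hune (congrArg Subtype.val h))
        exact congrArg Subtype.val (h1.trans h2.symm)
    have hu4 : u ^ 2 ^ (1 + 1) = 1 := by
      have : u ^ 2 ^ (1 + 1) = (u ^ 2) ^ 2 := by rw [← pow_mul]; norm_num
      rw [this]
      exact hcen _ (hpow u)
    have hord : orderOf u = 2 ^ (1 + 1) := orderOf_eq_prime_pow (by rwa [pow_one]) hu4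
    have hcardz : Nat.card (Subgroup.zpowers u) = 2 ^ 2 := by rw [Nat.card_zpowers, hord]
    have hchar : ∀ α : MulAut H, ∀ x ∈ Subgroup.zpowers u, α x ∈ Subgroup.zpowers u := by
      intro α x hx
      obtain ⟨k, rfl⟩ := Subgroup.mem_zpowers_iff.mp hx
      rw [map_zpow]
      apply Subgroup.zpow_mem
      have h1 : ¬ (α u) ^ 2 = 1 := by
        intro h
        apply hu
        rw [← map_pow] at h
        exact (MulEquiv.map_eq_one_iff α).mp h
      rcases hall _ h1 with h | h
      · rw [h]; exact Subgroup.mem_zpowers u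
      · rw [h]; exact Subgroup.inv_mem _ (Subgroup.mem_zpowers u)
    refine ⟨Subgroup.center H, Subgroup.zpowers u, ?_, hZ, hcardz, center_char, hchar⟩
    intro z hz
    have hu2 : (⟨u ^ 2, hpow u⟩ : Subgroup.center H) ≠ 1 := by
      intro h
      exact hu (congrArg Subtype.val h)
    have hmem := mem_zpowers_of_prime_card hZ hu2 (g' := ⟨z, hz⟩)
    obtain ⟨k, hk⟩ := Subgroup.mem_zpowers_iff.mp hmem
    have h2 := congrArg Subtype.val hk
    rw [Subgroup.coe_zpow] at h2
    have h3 : (u ^ 2) ^ k = z := h2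
    rw [← h3]
    exact Subgroup.zpow_mem _ (Subgroup.pow_mem _ (Subgroup.mem_zpowers u) 2) k
  · right
    obtain ⟨-, -, hs⟩ := hminus
    have hs2 : sCount H ≤ 2 := by
      norm_num at hs
      omega
    obtain ⟨e⟩ := quat_of_small hCT (by rw [hc]; norm_num) hs2
    exact ⟨e.symm⟩

theorem order_p3_cases (hc : Nat.card H = p ^ 3) :
    HasChain H p ∨ ((∀ a b : H, a * b = b * a) ∧ ∀ a : H, a ^ p = 1) ∨
      (p ≠ 2 ∧ Cfsg.IsExtraspecial p H ∧ ∀ x : H, x ^ p = 1) ∨
      (p = 2 ∧ Nonempty (H ≃* QuaternionGroup 2)) := by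
  by_cases hab : ∀ a b : H, a * b = b * a
  · by_cases hexp : ∀ a : H, a ^ p = 1
    · exact Or.inr (Or.inl ⟨hab, hexp⟩)
    · push Not at hexp
      exact Or.inl (abelian_case hc hab hexp)
  · by_cases hp2 : p = 2
    · subst hp2
      rcases two_case hc hab with h | h
      · exact Or.inl h
      · exact Or.inr (Or.inr (Or.inr ⟨rfl, h⟩))
    · rcases odd_case hc hab hp2 with h | h
      · exact Or.inl h
      · exact Or.inr (Or.inr (Or.inl ⟨hp2, h⟩))

end Cfsg.Agent.helper17.P3
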