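import Mathlib
import Cfsg.Agent.Lib_helper19_LCS

set_option autoImplicit false

/-! Commutator bilinearity modulo the centre and homogeneity of lower central factors. -/

namespace Cfsg.Agent.helper19

open scoped commutatorElement

section Bilin

variable {Q : Type*} [Group Q]

theorem comm_mul_right_of_central (a g h : Q) (hc : ⁅a, h⁆ ∈ Subgroup.center Q) :
    ⁅a, g * h⁆ = ⁅a, g⁆ * ⁅a, h⁆ := by
  have e : ⁅a, g * h⁆ = ⁅a, g⁆ * (g * ⁅a, h⁆ * g⁻¹) := by
    simp only [commutatorElement_def]; group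
  rw [e, Subgroup.mem_center_iff.1 hc g]
  group

theorem comm_mul_left_of_central (a b g : Q) (hc : ⁅b, g⁆ ∈ Subgroup.center Q) :
    ⁅a * b, g⁆ = ⁅a, g⁆ * ⁅b, g⁆ := by
  have e : ⁅a * b, g⁆ = (a * ⁅b, g⁆ * a⁻¹) * ⁅a, g⁆ := by
    simp only [commutatorElement_def]; group
  rw [e, Subgroup.mem_center_iff.1 hc a, mul_inv_cancel_right]
  exact (Subgroup.mem_center_iff.1 hc ⁅a, g⁆).symm

theorem comm_pow_right_of_central (a g : Q) (hc : ⁅a, g⁆ ∈ Subgroup.center Q) (k : ℕ) :
    ⁅a, g ^ k⁆ = ⁅a, g⁆ ^ k := by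
  induction k with
  | zero => simp
  | succ k ih => rw [pow_succ, comm_mul_right_of_central a (g ^ k) g hc, ih, pow_succ]

theorem comm_pow_left_of_central (a g : Q) (hc : ⁅a, g⁆ ∈ Subgroup.center Q) (k : ℕ) :
    ⁅a ^ k, g⁆ = ⁅a, g⁆ ^ k := by
  induction k with
  | zero => simp
  | succ k ih => rw [pow_succ, comm_mul_left_of_central (a ^ k) a g hc, ih, pow_succ]

theorem comm_central_mul_left (c a g : Q) (hc : c ∈ Subgroup.center Q) :
    ⁅c * a, g⁆ = ⁅a, g⁆ := by
  have h1 : ⁅c, g⁆ = 1 := by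
    rw [commutatorElement_eq_one_iff_commute]
    exact (Subgroup.mem_center_iff.1 hc g).symm
  have h2 : c * a = a * c := (Subgroup.mem_center_iff.1 hc a).symm
  rw [h2, comm_mul_left_of_central a c g (by rw [h1]; exact Subgroup.one_mem _), h1, mul_one]

end Bilin

section Homog

variable {F : Type*} {G : Type*} [Group F] [Group G]

theorem iterG_top (j : ℕ) :
    iterG (⊤ : Subgroup G) j = (⊤ : Subgroup G).lowerCentralSeries j := by
  induction j with
  | zero => rfl
  | succ j ih =>
    show ⁅iterG (⊤ : Subgroup G) j, (⊤ : Subgroup G)⁆ = _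
    rw [ih, Subgroup.lowerCentralSeries_succ]

theorem comm_lcs_lcs_le (i j : ℕ) :
    ⁅(⊤ : Subgroup G).lowerCentralSeries i, (⊤ : Subgroup G).lowerCentralSeries j⁆
      ≤ (⊤ : Subgroup G).lowerCentralSeries (i + j + 1) := by
  have h := comm_iterG_lcs_le (⊤ : Subgroup G) j i
  rw [iterG_top, iterG_top] at h
  exact h

theorem lcs_map_mem (f : F →* G) (n : ℕ) {z : F}
    (hz : z ∈ (⊤ : Subgroup F).lowerCentralSeries n) :
    f z ∈ (⊤ : Subgroup G).lowerCentralSeries n := by
  have h1 : f z ∈ ((⊤ : Subgroup F).lowerCentralSeries n).map f := Subgroup.mem_map_of_mem f hz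
  rw [Subgroup.map_lowerCentralSeries] at h1
  exact Subgroup.lowerCentralSeries_mono n le_top h1

/-- Homogeneity: if `E₂ ≡ E₁ ^ k` modulo the derived subgroup, then on the `n`-th term of the
lower central series `E₂ ≡ E₁ ^ (k ^ (n+1))` modulo the next term. -/
theorem homog (E₁ E₂ : F →* G) (k : ℕ)
    (h0 : ∀ f : F, E₂ f * (E₁ f ^ k)⁻¹ ∈ commutator G) :
    ∀ n : ℕ, ∀ z ∈ (⊤ : Subgroup F).lowerCentralSeries n,
      E₂ z * (E₁ z ^ (k ^ (n + 1)))⁻¹ ∈ (⊤ : Subgroup G).lowerCentralSeries (n + 1) := by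
  intro n
  induction n with
  | zero =>
    intro z _
    rw [zero_add, pow_one, Subgroup.top_lowerCentralSeries_one]
    exact h0 z
  | succ n ih =>
    intro z hz
    set N := (⊤ : Subgroup G).lowerCentralSeries (n + 2) with hN
    have hcen : ∀ c ∈ (⊤ : Subgroup G).lowerCentralSeries (n + 1),
        QuotientGroup.mk' N c ∈ Subgroup.center (G ⧸ N) := by
      intro c hc
      rw [Subgroup.mem_center_iff]
      intro q
      obtain ⟨g, rfl⟩ := QuotientGroup.mk'_surjective N q
      have h1 : ⁅c, g⁆ ∈ N := Subgroup.commutator_mem_commutator hc (Subgroup.mem_top g)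
      have h2 : QuotientGroup.mk' N ⁅c, g⁆ = 1 := (QuotientGroup.eq_one_iff _).2 h1
      rw [map_commutatorElement, commutatorElement_eq_one_iff_commute] at h2
      exact h2.eq.symm
    have hkey : ∀ z ∈ (⊤ : Subgroup F).lowerCentralSeries (n + 1),
        QuotientGroup.mk' N (E₂ z) = QuotientGroup.mk' N (E₁ z) ^ (k ^ (n + 2)) := by
      intro z hz
      rw [Subgroup.lowerCentralSeries_succ, Subgroup.commutator_def] at hz
      induction hz using Subgroup.closure_induction with
      | mem z hz =>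
        obtain ⟨u, hu, f, _, rfl⟩ := hz
        obtain ⟨a, ha⟩ : ∃ a : G, a = E₁ u := ⟨_, rfl⟩
        obtain ⟨b, hb⟩ : ∃ b : G, b = E₁ f := ⟨_, rfl⟩
        have haL : a ∈ (⊤ : Subgroup G).lowerCentralSeries n := ha ▸ lcs_map_mem E₁ n hu
        obtain ⟨c, hcdef⟩ : ∃ c : G, c = E₂ u * (a ^ (k ^ (n + 1)))⁻¹ := ⟨_, rfl⟩
        obtain ⟨d, hddef⟩ : ∃ d : G, d = E₂ f * (b ^ k)⁻¹ := ⟨_, rfl⟩
        have hc : c ∈ (⊤ : Subgroup G).lowerCentralSeries (n + 1) := by
          rw [hcdef, ha]; exact ih u hu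
        have hd : d ∈ commutator G := by
          rw [hddef, hb]; exact h0 f
        have e1 : E₂ u = c * a ^ (k ^ (n + 1)) := by rw [hcdef]; group
        have e2 : E₂ f = d * b ^ k := by rw [hddef]; group
        have h2c : ∀ (a' : G), a' ∈ (⊤ : Subgroup G).lowerCentralSeries n → ∀ g : G,
            ⁅QuotientGroup.mk' N a', QuotientGroup.mk' N g⁆ ∈ Subgroup.center (G ⧸ N) := by
          intro a' ha' g
          rw [← map_commutatorElement]
          exact hcen _ (Subgroup.commutator_mem_commutator ha' (Subgroup.mem_top g))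
        have haK : a ^ (k ^ (n + 1)) ∈ (⊤ : Subgroup G).lowerCentralSeries n :=
          Subgroup.pow_mem _ haL _
        have hd1 : ⁅QuotientGroup.mk' N (a ^ (k ^ (n + 1))), QuotientGroup.mk' N d⁆ = 1 := by
          rw [← map_commutatorElement]
          apply (QuotientGroup.eq_one_iff _).2
          have hd' : d ∈ (⊤ : Subgroup G).lowerCentralSeries 1 := by
            rw [Subgroup.top_lowerCentralSeries_one]; exact hd
          exact comm_lcs_lcs_le n 1 (Subgroup.commutator_mem_commutator haK hd')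
        have hcK : ⁅QuotientGroup.mk' N a ^ (k ^ (n + 1)), QuotientGroup.mk' N b⁆
            ∈ Subgroup.center (G ⧸ N) := by
          rw [← map_pow]; exact h2c _ haK _
        rw [map_commutatorElement, map_commutatorElement, map_commutatorElement, ← ha, ← hb, e1, e2,
          map_mul, map_mul, comm_central_mul_left _ _ _ (hcen c hc),
          comm_mul_right_of_central _ _ _ (h2c _ haK _), hd1, one_mul, map_pow, map_pow,
          comm_pow_right_of_central _ _ hcK k, comm_pow_left_of_central _ _ (h2c a haL b),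
          ← pow_mul, ← pow_succ, map_commutatorElement]
      | one => simp
      | mul x y hx hy ihx ihy =>
        have hxL : x ∈ (⊤ : Subgroup F).lowerCentralSeries (n + 1) := by
          rw [Subgroup.lowerCentralSeries_succ, Subgroup.commutator_def]; exact hx
        have hX := hcen _ (lcs_map_mem E₁ (n + 1) hxL)
        have hcomm : Commute (QuotientGroup.mk' N (E₁ x)) (QuotientGroup.mk' N (E₁ y)) :=
          (Subgroup.mem_center_iff.1 hX _).symm
        rw [map_mul, map_mul, ihx, ihy, map_mul, map_mul, hcomm.mul_pow]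
      | inv x hx ihx =>
        rw [map_inv, map_inv, ihx, map_inv, map_inv, inv_pow]
    have h1 := hkey z hz
    have e : n + 1 + 1 = n + 2 := rfl
    rw [e]
    apply (QuotientGroup.eq_one_iff (N := N) _).1
    have h2 : ((E₂ z * (E₁ z ^ (k ^ (n + 2)))⁻¹ : G) : G ⧸ N)
        = QuotientGroup.mk' N (E₂ z) * (QuotientGroup.mk' N (E₁ z) ^ (k ^ (n + 2)))⁻¹ := by
      simp
    rw [h2, h1, mul_inv_cancel]

end Homog

end Cfsg.Agent.helper19
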