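import Mathlib
import Cfsg.Agent.Lib_helper19_HP1

set_option autoImplicit false

/-! Groups of class less than `p` whose derived subgroup has exponent `p` are `p`-abelian. -/

namespace Cfsg.Agent.helper19

open scoped commutatorElement

universe u

/-- Class at most `c` and derived subgroup of exponent `p` force `(xy)^p = x^p y^p`. -/
def CCProp (p c : ℕ) : Prop :=
  ∀ (G : Type u) [Group G], (⊤ : Subgroup G).lowerCentralSeries c = ⊥ →
    (∀ u ∈ commutator G, u ^ p = 1) → ∀ x y : G, (x * y) ^ p = x ^ p * y ^ p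

theorem commutator_map_of_surjective {G H : Type*} [Group G] [Group H] (f : G →* H)
    (hf : Function.Surjective f) : commutator H = (commutator G).map f := by
  rw [commutator_def, commutator_def, Subgroup.map_commutator, ← MonoidHom.range_eq_map,
    MonoidHom.range_eq_top.2 hf]

theorem cc_quot {p c : ℕ} (h : CCProp.{u} p c) {G : Type u} [Group G] (N : Subgroup G) [N.Normal]
    (hN : (⊤ : Subgroup G).lowerCentralSeries c ≤ N) (hexp : ∀ u ∈ commutator G, u ^ p ∈ N)
    (x y : G) : (y ^ p)⁻¹ * (x ^ p)⁻¹ * (x * y) ^ p ∈ N := by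
  have h1 : (⊤ : Subgroup (G ⧸ N)).lowerCentralSeries c = ⊥ := by
    have h0 := Subgroup.map_lowerCentralSeries (⊤ : Subgroup G) (QuotientGroup.mk' N) c
    rw [← MonoidHom.range_eq_map, MonoidHom.range_eq_top.2 (QuotientGroup.mk'_surjective N)] at h0
    rw [← h0, Subgroup.map_eq_bot_iff, QuotientGroup.ker_mk']
    exact hN
  have h2 : ∀ u ∈ commutator (G ⧸ N), u ^ p = 1 := by
    intro u hu
    rw [commutator_map_of_surjective _ (QuotientGroup.mk'_surjective N)] at hu
    obtain ⟨v, hv, rfl⟩ := hu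
    rw [← map_pow]
    exact (QuotientGroup.eq_one_iff _).2 (hexp v hv)
  have h3 := h (G ⧸ N) h1 h2 (QuotientGroup.mk' N x) (QuotientGroup.mk' N y)
  apply (QuotientGroup.eq_one_iff (N := N) _).1
  have h4 : (((y ^ p)⁻¹ * (x ^ p)⁻¹ * (x * y) ^ p : G) : G ⧸ N)
      = (QuotientGroup.mk' N y ^ p)⁻¹ * (QuotientGroup.mk' N x ^ p)⁻¹
        * (QuotientGroup.mk' N x * QuotientGroup.mk' N y) ^ p := by simp
  rw [h4, h3]; group

theorem cc_sub {p c : ℕ} (h : CCProp.{u} p c) {G : Type u} [Group G] (M : Subgroup G)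
    (hM : M.lowerCentralSeries c = ⊥) (hexp : ∀ u ∈ ⁅M, M⁆, u ^ p = 1)
    {x y : G} (hx : x ∈ M) (hy : y ∈ M) : (x * y) ^ p = x ^ p * y ^ p := by
  have h1 : (⊤ : Subgroup M).lowerCentralSeries c = ⊥ := by
    have h0 := Subgroup.top_subtype_lowerCentralSeries M c
    rw [hM, Subgroup.map_eq_bot_iff_of_injective _ M.subtype_injective] at h0
    exact h0
  have h2 : ∀ u ∈ commutator M, u ^ p = 1 := by
    intro u hu
    have hu' : (u : G) ∈ ⁅M, M⁆ := by
      have e : ⁅M, M⁆ = (commutator M).map M.subtype := by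
        rw [commutator_def, Subgroup.map_commutator, ← MonoidHom.range_eq_map,
          Subgroup.range_subtype]
      rw [e]; exact Subgroup.mem_map_of_mem M.subtype hu
    have h0 := hexp _ hu'
    apply Subtype.ext
    simpa using h0
  have h3 := h M h1 h2 ⟨x, hx⟩ ⟨y, hy⟩
  have h4 := congrArg M.subtype h3
  simpa using h4

/-- The relatively free group of rank two in the variety generated by `G`. -/
def relFree (G : Type u) [Group G] : Subgroup (G × G → G) :=
  Subgroup.closure {(fun q : G × G => q.1), (fun q : G × G => q.2)}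

section RelFree

variable (G : Type u) [Group G]

def relX : relFree G := ⟨fun q : G × G => q.1, Subgroup.subset_closure (by simp)⟩

def relY : relFree G := ⟨fun q : G × G => q.2, Subgroup.subset_closure (by simp)⟩

def relEval (a b : G) : relFree G →* G :=
  (Pi.evalMonoidHom (fun _ : G × G => G) (a, b)).comp (relFree G).subtype

@[simp] theorem relEval_apply (a b : G) (f : relFree G) : relEval G a b f = f.1 (a, b) := rfl

@[simp] theorem relEval_relX (a b : G) : relEval G a b (relX G) = a := rfl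

@[simp] theorem relEval_relY (a b : G) : relEval G a b (relY G) = b := rfl

def relW (p : ℕ) : relFree G := (relY G ^ p)⁻¹ * (relX G ^ p)⁻¹ * (relX G * relY G) ^ p

theorem relEval_relW (p : ℕ) (a b : G) :
    relEval G a b (relW G p) = (b ^ p)⁻¹ * (a ^ p)⁻¹ * (a * b) ^ p := by
  unfold relW
  rw [map_mul, map_mul, map_inv, map_inv, map_pow, map_pow, map_pow, map_mul, relEval_relX,
    relEval_relY]

theorem relFree_h0 (x y : G) (k : ℕ) (f : relFree G) :
    relEval G (x ^ k) (y ^ k) f * (relEval G x y f ^ k)⁻¹ ∈ commutator G := by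
  have hk : ∀ t : G, Abelianization.of t = 1 → t ∈ commutator G := fun t ht => by
    rw [← Abelianization.ker_of]; exact MonoidHom.mem_ker.2 ht
  apply hk
  let φ₂ : (G × G → G) →* Abelianization G :=
    Abelianization.of.comp (Pi.evalMonoidHom (fun _ : G × G => G) (x ^ k, y ^ k))
  let φ₁ : (G × G → G) →* Abelianization G :=
    (powMonoidHom k).comp
      (Abelianization.of.comp (Pi.evalMonoidHom (fun _ : G × G => G) (x, y)))
  have heq : Set.EqOn φ₂ φ₁ (relFree G : Set (G × G → G)) := by
    apply MonoidHom.eqOn_closure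
    intro t ht
    rcases ht with rfl | ht
    · simp [φ₁, φ₂]
    · rw [Set.mem_singleton_iff] at ht
      subst ht
      simp [φ₁, φ₂]
  have h1 : φ₂ f.1 = φ₁ f.1 := heq f.2
  have h2 : Abelianization.of (f.1 (x ^ k, y ^ k)) = Abelianization.of (f.1 (x, y)) ^ k := h1
  rw [map_mul, map_inv, map_pow, relEval_apply, relEval_apply, h2, mul_inv_cancel]

theorem relFree_comm_pow (p : ℕ) (hexp : ∀ u ∈ commutator G, u ^ p = 1) :
    ∀ u ∈ commutator (relFree G), u ^ p = 1 := by
  intro u hu
  apply Subtype.ext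
  funext q
  have h1 : relEval G q.1 q.2 u ∈ commutator G := by
    have h2 : u ∈ (⊤ : Subgroup (relFree G)).lowerCentralSeries 1 := by
      rw [Subgroup.top_lowerCentralSeries_one]; exact hu
    have h3 := lcs_map_mem (relEval G q.1 q.2) 1 h2
    rw [Subgroup.top_lowerCentralSeries_one] at h3
    exact h3
  have h4 := hexp _ h1
  simpa using h4

theorem relW_mem {p c : ℕ} (h : CCProp.{u} p c) (hexp : ∀ u ∈ commutator G, u ^ p = 1) :
    relW G p ∈ (⊤ : Subgroup (relFree G)).lowerCentralSeries c := by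
  unfold relW
  apply cc_quot h _ le_rfl
  intro u hu
  rw [relFree_comm_pow G p hexp u hu]
  exact Subgroup.one_mem _

end RelFree

theorem exists_not_modEq (p : ℕ) [hp : Fact p.Prime] (c : ℕ) (hc1 : 1 ≤ c) (hc : c + 1 ≤ p - 1) :
    ∃ k : ℕ, ¬ (k ^ (c + 1) ≡ k [MOD p]) := by
  have : NeZero p := ⟨hp.out.ne_zero⟩
  obtain ⟨g, hg⟩ := IsCyclic.exists_generator (α := (ZMod p)ˣ)
  have hord : orderOf g = p - 1 := by
    rw [orderOf_eq_card_of_forall_mem_zpowers hg, Nat.card_eq_fintype_card, ZMod.card_units]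
  refine ⟨(g : ZMod p).val, ?_⟩
  intro hmod
  have h1 : ((((g : ZMod p).val) ^ (c + 1) : ℕ) : ZMod p) = (((g : ZMod p).val : ℕ) : ZMod p) :=
    (ZMod.natCast_eq_natCast_iff _ _ _).2 hmod
  rw [Nat.cast_pow, ZMod.natCast_zmod_val] at h1
  have h2 : g ^ (c + 1) = g := Units.ext (by simpa using h1)
  have h3 : g ^ c = 1 := by
    rw [pow_succ] at h2
    exact mul_right_cancel (b := g) (by rw [h2, one_mul])
  have h4 : p - 1 ∣ c := hord ▸ orderOf_dvd_of_pow_eq_one h3
  have h5 := Nat.le_of_dvd (by omega) h4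
  omega

theorem cc_step {p : ℕ} [hp : Fact p.Prime] (c : ℕ) (hc1 : 1 ≤ c) (hc : c + 1 ≤ p - 1)
    (h : CCProp.{u} p c) : CCProp.{u} p (c + 1) := by
  intro G _ hcl hexp x y
  have hcomm_mem : ∀ a b : G, ⁅a, b⁆ ∈ commutator G := by
    intro a b
    rw [commutator_def]
    exact Subgroup.commutator_mem_commutator (Subgroup.mem_top a) (Subgroup.mem_top b)
  -- F1
  have F1 : ∀ g : G, ∀ u ∈ commutator G, (g * u) ^ p = g ^ p := by
    intro g u hu
    set M := Subgroup.zpowers g ⊔ commutator G with hMdef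
    have hgM : g ∈ M := (le_sup_left : Subgroup.zpowers g ≤ M) (Subgroup.mem_zpowers g)
    have huM : u ∈ M := (le_sup_right : commutator G ≤ M) hu
    set N := (⊤ : Subgroup G).lowerCentralSeries 2 with hNdef
    have hcenD : ∀ d ∈ commutator G, ∀ t : G ⧸ N, Commute (QuotientGroup.mk' N d) t := by
      intro d hd t
      obtain ⟨s, rfl⟩ := QuotientGroup.mk'_surjective N t
      have h1 : ⁅d, s⁆ ∈ N := by
        rw [hNdef, Subgroup.lowerCentralSeries_succ]
        exact Subgroup.commutator_mem_commutator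
          (by rw [Subgroup.top_lowerCentralSeries_one]; exact hd) (Subgroup.mem_top s)
      have h2 : QuotientGroup.mk' N ⁅d, s⁆ = 1 := (QuotientGroup.eq_one_iff _).2 h1
      rwa [map_commutatorElement, commutatorElement_eq_one_iff_commute] at h2
    have hM1 : ⁅M, M⁆ ≤ N := by
      rw [Subgroup.commutator_le]
      intro a ha b hb
      rw [hMdef, Subgroup.mem_sup_of_normal_right] at ha hb
      obtain ⟨a1, ha1, a2, ha2, rfl⟩ := ha
      obtain ⟨b1, hb1, b2, hb2, rfl⟩ := hb
      obtain ⟨i, rfl⟩ := Subgroup.mem_zpowers_iff.1 ha1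
      obtain ⟨j, rfl⟩ := Subgroup.mem_zpowers_iff.1 hb1
      apply (QuotientGroup.eq_one_iff (N := N) _).1
      show QuotientGroup.mk' N ⁅g ^ i * a2, g ^ j * b2⁆ = 1
      rw [map_commutatorElement, map_mul, map_mul, map_zpow, map_zpow,
        commutatorElement_eq_one_iff_commute]
      apply Commute.mul_left
      · apply Commute.mul_right
        · exact Commute.zpow_zpow_self _ i j
        · exact (hcenD b2 hb2 _).symm
      · exact hcenD a2 ha2 _
    have hMi : ∀ i : ℕ, M.lowerCentralSeries (i + 1)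
        ≤ (⊤ : Subgroup G).lowerCentralSeries (i + 2) := by
      intro i
      induction i with
      | zero =>
        rw [Subgroup.lowerCentralSeries_succ, Subgroup.lowerCentralSeries_zero]
        exact hM1
      | succ i ih =>
        rw [Subgroup.lowerCentralSeries_succ, Subgroup.lowerCentralSeries_succ (n := i + 2)]
        exact Subgroup.commutator_mono ih le_top
    have hMc : M.lowerCentralSeries c = ⊥ := by
      obtain ⟨c', rfl⟩ : ∃ c', c = c' + 1 := ⟨c - 1, by omega⟩
      exact le_bot_iff.1 (hcl ▸ hMi c')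
    have hexpM : ∀ v ∈ ⁅M, M⁆, v ^ p = 1 := by
      intro v hv
      apply hexp
      rw [commutator_def]
      exact Subgroup.commutator_mono le_top le_top hv
    rw [cc_sub h M hMc hexpM hgM huM, hexp u hu, mul_one]
  -- p-th powers are central
  have hcent : ∀ g : G, g ^ p ∈ Subgroup.center G := by
    intro g
    rw [Subgroup.mem_center_iff]
    intro t
    have h1 := conj_pow (a := t) (b := g) (i := p)
    have h2 : t * g * t⁻¹ = g * ⁅g⁻¹, t⁆ := by
      rw [commutatorElement_def]; group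
    rw [h2, F1 g _ (hcomm_mem _ _)] at h1
    calc t * g ^ p = (t * g ^ p * t⁻¹) * t := by group
      _ = g ^ p * t := by rw [← h1]
  obtain ⟨w, hwdef⟩ : ∃ w : G, w = (y ^ p)⁻¹ * (x ^ p)⁻¹ * (x * y) ^ p := ⟨_, rfl⟩
  have hwc : w ∈ (⊤ : Subgroup G).lowerCentralSeries c := by
    rw [hwdef]
    apply cc_quot h _ le_rfl
    intro u hu
    rw [hexp u hu]
    exact Subgroup.one_mem _
  have hwp : w ^ p = 1 := by
    apply hexp
    rw [← Subgroup.top_lowerCentralSeries_one]
    exact Subgroup.lowerCentralSeries_antitone _ hc1 hwc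
  obtain ⟨k, hk⟩ := exists_not_modEq p c hc1 hc
  -- homogeneity
  have hH := homog (relEval G x y) (relEval G (x ^ k) (y ^ k)) k (relFree_h0 G x y k) c
    (relW G p) (relW_mem G h hexp)
  rw [hcl, Subgroup.mem_bot, relEval_relW, relEval_relW, ← hwdef, mul_inv_eq_one] at hH
  -- the other evaluation
  have hxy : (x ^ k * y ^ k) ^ p = ((x * y) ^ p) ^ k := by
    obtain ⟨u, hu⟩ : ∃ u : G, u = ((x * y) ^ k)⁻¹ * (x ^ k * y ^ k) := ⟨_, rfl⟩
    have huc : u ∈ commutator G := by
      rw [← Abelianization.ker_of]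
      apply MonoidHom.mem_ker.2
      rw [hu, map_mul, map_inv, map_pow, map_mul, map_mul, map_pow, map_pow, mul_pow,
        inv_mul_cancel]
    have e : x ^ k * y ^ k = (x * y) ^ k * u := by rw [hu]; group
    rw [e, F1 _ u huc, ← pow_mul, mul_comm, pow_mul]
  have hE2 : ((y ^ k) ^ p)⁻¹ * ((x ^ k) ^ p)⁻¹ * (x ^ k * y ^ k) ^ p = w ^ k := by
    rw [hxy, hwdef]
    have hy' : ∀ t : G, Commute ((y ^ p)⁻¹) t := fun t =>
      ((Subgroup.mem_center_iff.1 (Subgroup.inv_mem _ (hcent y)) t)).symm
    have hx' : ∀ t : G, Commute ((x ^ p)⁻¹) t := fun t =>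
      ((Subgroup.mem_center_iff.1 (Subgroup.inv_mem _ (hcent x)) t)).symm
    have e1 : (y ^ k) ^ p = (y ^ p) ^ k := by rw [← pow_mul, ← pow_mul, mul_comm]
    have e2 : (x ^ k) ^ p = (x ^ p) ^ k := by rw [← pow_mul, ← pow_mul, mul_comm]
    rw [e1, e2, ((hy' _).mul_left (hx' _)).mul_pow, (hy' _).mul_pow, inv_pow, inv_pow]
  rw [hE2] at hH
  -- conclude
  have hord : orderOf w ∣ p := orderOf_dvd_of_pow_eq_one hwp
  have hw1 : w = 1 := by
    rcases (Nat.dvd_prime hp.out).1 hord with h1 | h1
    · exact orderOf_eq_one_iff.1 h1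
    · exfalso
      apply hk
      have h2 := pow_eq_pow_iff_modEq.1 hH
      rw [h1] at h2
      exact h2.symm
  calc (x * y) ^ p = x ^ p * y ^ p * w := by rw [hwdef]; group
    _ = x ^ p * y ^ p := by rw [hw1, mul_one]

theorem cc_all (p : ℕ) [hp : Fact p.Prime] : ∀ c : ℕ, c ≤ p - 1 → CCProp.{u} p c := by
  intro c
  induction c with
  | zero =>
    intro _ G _ hcl _ x y
    have h1 : ∀ a : G, a = 1 := by
      intro a
      have h2 : a ∈ (⊤ : Subgroup G).lowerCentralSeries 0 := Subgroup.mem_top a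
      rw [hcl] at h2
      exact Subgroup.mem_bot.1 h2
    rw [h1 ((x * y) ^ p), h1 (x ^ p * y ^ p)]
  | succ c ih =>
    intro hc
    rcases Nat.eq_zero_or_pos c with rfl | hc1
    · intro G _ hcl _ x y
      rw [zero_add, Subgroup.top_lowerCentralSeries_one] at hcl
      have hcomm : Commute x y := by
        have h1 : ⁅x, y⁆ ∈ commutator G := by
          rw [commutator_def]
          exact Subgroup.commutator_mem_commutator (Subgroup.mem_top x) (Subgroup.mem_top y)
        rw [hcl, Subgroup.mem_bot, commutatorElement_eq_one_iff_commute] at h1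
        exact h1
      exact hcomm.mul_pow p
    · exact cc_step c hc1 hc (ih (by omega))

end Cfsg.Agent.helper19
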