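import Mathlib
import Cfsg.Prelude.Def_Transfer
import Cfsg.Agent.Lib_helper19_HP2
import Cfsg.Agent.Lib_helper18_ClassGraph

/-! `p`-groups of rank at most two, `p > 3`: the elements of order dividing `p` form a subgroup
(helper18).  Uses helper19's theorem that groups of class `< p` with derived subgroup of exponent
`p` are `p`-abelian. -/

set_option autoImplicit false

namespace Cfsg.Agent.helper18.RankTwo

open Cfsg Cfsg.Agent.helper19
open scoped commutatorElement

theorem comm_of_closure {E : Type*} [Group E] (T : Set E)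
    (h : ∀ a ∈ T, ∀ b ∈ T, a * b = b * a) : IsMulCommutative ↥(Subgroup.closure T) := by
  have h1 : Subgroup.closure T ≤ Subgroup.centralizer T := by
    rw [Subgroup.closure_le]; intro a ha
    rw [SetLike.mem_coe, Subgroup.mem_centralizer_iff]
    intro b hb; exact h b hb a ha
  have h2 : Subgroup.closure T ≤ Subgroup.centralizer (Subgroup.closure T : Set E) := by
    rw [Subgroup.closure_le]; intro a ha
    rw [SetLike.mem_coe, Subgroup.mem_centralizer_iff]
    intro b hb
    have := h1 hb
    rw [Subgroup.mem_centralizer_iff] at this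
    exact (this a ha).symm
  refine ⟨⟨fun a b => Subtype.ext ?_⟩⟩
  have := h2 a.2
  rw [Subgroup.mem_centralizer_iff] at this
  exact (this b b.2).symm

theorem comm_map {G H : Type*} [Group G] [Group H] (f : G →* H) (A : Subgroup G)
    (hA : IsMulCommutative A) : IsMulCommutative (A.map f) := by
  refine ⟨⟨?_⟩⟩
  rintro ⟨_, a, ha, rfl⟩ ⟨_, b, hb, rfl⟩
  apply Subtype.ext
  show f a * f b = f b * f a
  rw [← map_mul, ← map_mul]
  congr 1
  exact congrArg Subtype.val (hA.is_comm.comm ⟨a, ha⟩ ⟨b, hb⟩)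

theorem card_lt_of_lt' {R : Type*} [Group R] [Finite R] {H K : Subgroup R} (h : H < K) :
    Nat.card H < Nat.card K := by
  have h1 : (H : Set R) ⊂ (K : Set R) := SetLike.coe_ssubset_coe.2 h
  have := Set.ncard_lt_ncard h1 (Set.toFinite _)
  rwa [← Nat.card_coe_set_eq, ← Nat.card_coe_set_eq] at this

/-- A group of exponent `p` all of whose abelian subgroups have order at most `p²` has order at
most `p³`. -/
theorem card_le_cube {E : Type*} [Group E] [Finite E] {p : ℕ} [hp : Fact p.Prime]
    (hexp : ∀ g : E, g ^ p = 1)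
    (hrk : ∀ A : Subgroup E, IsMulCommutative A → Nat.card A ≤ p ^ 2) : Nat.card E ≤ p ^ 3 := by
  have hE : IsPGroup p E := fun g => ⟨1, by rw [pow_one]; exact hexp g⟩
  have hp1 : 1 < p := hp.out.one_lt
  by_contra hcon
  push Not at hcon
  haveI : Nontrivial E := by
    rw [← Finite.one_lt_card_iff_nontrivial]
    calc 1 < p ^ 3 := Nat.one_lt_pow (by norm_num) hp1
      _ < Nat.card E := hcon
  obtain ⟨Z, hZ⟩ : ∃ Z : Subgroup E, Z = Subgroup.center E := ⟨_, rfl⟩
  have hZc : ∀ z ∈ Z, ∀ g : E, g * z = z * g := fun z hz g => by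
    rw [hZ] at hz; exact Subgroup.mem_center_iff.1 hz g
  have hZab : ∀ T : Set E, (∀ a ∈ T, ∀ b ∈ T, a * b = b * a) →
      IsMulCommutative ↥(Subgroup.closure ((Z : Set E) ∪ T)) := by
    intro T hT
    apply comm_of_closure
    intro u hu v hv
    rcases hu with hu | hu <;> rcases hv with hv | hv
    · exact (hZc u hu v).symm
    · exact (hZc u hu v).symm
    · exact hZc v hv u
    · exact hT u hu v hv
  have hZle : ∀ T : Set E, Z ≤ Subgroup.closure ((Z : Set E) ∪ T) := fun T z hz =>
    Subgroup.subset_closure (Or.inl hz)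
  -- Z is not everything
  have hZne : Z ≠ ⊤ := by
    intro h
    have h1 := hrk _ (hZab ∅ (by simp))
    have h2 : Subgroup.closure ((Z : Set E) ∪ ∅) = ⊤ := top_le_iff.1 (h ▸ hZle ∅)
    rw [h2, Subgroup.card_top] at h1
    have : p ^ 2 < p ^ 3 := Nat.pow_lt_pow_right hp1 (by norm_num)
    omega
  -- card Z
  obtain ⟨j, hj⟩ := (hE.to_subgroup Z).exists_card_eq
  have hj1 : 1 ≤ j := by
    haveI := hE.center_nontrivial
    have h1 : 1 < Nat.card Z := by
      rw [hZ]; exact Finite.one_lt_card_iff_nontrivial.2 inferInstance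
    rw [hj] at h1
    by_contra hc
    have : j = 0 := by omega
    rw [this] at h1; simp at h1
  -- for a ∉ Z the group ⟨Z, a⟩ has order p² and Z has order p
  have hNa : ∀ a : E, a ∉ Z → Nat.card ↥(Subgroup.closure ((Z : Set E) ∪ {a})) = p ^ 2 ∧ j = 1 := by
    intro a ha
    have hab := hZab {a} (by
      intro u hu v hv
      rw [Set.mem_singleton_iff] at hu hv; rw [hu, hv])
    have h1 := hrk _ hab
    obtain ⟨k, hk⟩ := (hE.to_subgroup (Subgroup.closure ((Z : Set E) ∪ {a}))).exists_card_eq
    have hlt : Z < Subgroup.closure ((Z : Set E) ∪ {a}) := by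
      refine lt_of_le_of_ne (hZle _) ?_
      intro h
      apply ha
      rw [h]
      exact Subgroup.subset_closure (Or.inr rfl)
    have h2 := card_lt_of_lt' hlt
    rw [hj, hk] at h2
    rw [hk] at h1
    have h3 : j < k := (Nat.pow_lt_pow_iff_right hp1).1 h2
    have h4 : k ≤ 2 := (Nat.pow_le_pow_iff_right hp1).1 h1
    have h5 : k = 2 := by omega
    exact ⟨by rw [hk, h5], by omega⟩
  -- an element of the second centre
  haveI hZn : Z.Normal := by rw [hZ]; infer_instance
  obtain ⟨a₀, ha₀⟩ : ∃ a₀ : E, a₀ ∉ Z := by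
    by_contra hc; push Not at hc
    exact hZne (top_le_iff.1 fun g _ => hc g)
  haveI : Nontrivial (E ⧸ Z) :=
    ⟨⟨(a₀ : E ⧸ Z), 1, fun h => ha₀ ((QuotientGroup.eq_one_iff a₀).1 h)⟩⟩
  haveI := (hE.to_quotient Z).center_nontrivial
  obtain ⟨⟨ā, hā⟩, hā1⟩ := exists_ne (1 : Subgroup.center (E ⧸ Z))
  obtain ⟨a, rfl⟩ := QuotientGroup.mk_surjective ā
  have haZ : a ∉ Z := by
    intro h
    apply hā1
    apply Subtype.ext
    exact (QuotientGroup.eq_one_iff a).2 h
  have hcomm : ∀ g : E, a⁻¹ * g⁻¹ * a * g ∈ Z := by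
    intro g
    have h1 := Subgroup.mem_center_iff.1 hā (g : E ⧸ Z)
    have h2 : ((g * a : E) : E ⧸ Z) = ((a * g : E) : E ⧸ Z) := by
      rw [QuotientGroup.mk_mul, QuotientGroup.mk_mul]; exact h1
    have h3 := QuotientGroup.eq.1 h2
    have e : (g * a)⁻¹ * (a * g) = a⁻¹ * g⁻¹ * a * g := by group
    rwa [e] at h3
  obtain ⟨hN2, hj1'⟩ := hNa a haZ
  have hZp : Nat.card Z = p := by rw [hj, hj1', pow_one]
  -- class of a has size at most p
  have hcls : (Cfsg.Agent.helper18.CG.cls a).ncard ≤ p := by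
    have hsub : Cfsg.Agent.helper18.CG.cls a ⊆ (fun z => a * z) '' (Z : Set E) := by
      rintro w ⟨g, rfl⟩
      refine ⟨a⁻¹ * g * a * g⁻¹, ?_, by group⟩
      have := hcomm g⁻¹
      rwa [inv_inv] at this
    calc (Cfsg.Agent.helper18.CG.cls a).ncard ≤ ((fun z => a * z) '' (Z : Set E)).ncard :=
          Set.ncard_le_ncard hsub (Set.toFinite _)
      _ ≤ (Z : Set E).ncard := Set.ncard_image_le (Set.toFinite _)
      _ = p := by rw [← Nat.card_coe_set_eq]; exact hZp
  rw [Cfsg.Agent.helper18.CG.ncard_cls] at hcls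
  -- the centralizer of a is ⟨Z, a⟩
  have hC : Subgroup.centralizer ({a} : Set E) ≤ Subgroup.closure ((Z : Set E) ∪ {a}) := by
    intro b hb
    have hba : b * a = a * b := by
      rw [Subgroup.mem_centralizer_iff] at hb
      exact (hb a rfl).symm
    have hab := hZab {a, b} (by
      intro u hu v hv
      rcases hu with rfl | hu <;> rcases hv with rfl | hv
      · rfl
      · rw [Set.mem_singleton_iff] at hv; rw [hv]; exact hba.symm
      · rw [Set.mem_singleton_iff] at hu; rw [hu]; exact hba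
      · rw [Set.mem_singleton_iff] at hu hv; rw [hu, hv])
    have h1 := hrk _ hab
    have hle : Subgroup.closure ((Z : Set E) ∪ {a}) ≤ Subgroup.closure ((Z : Set E) ∪ {a, b}) :=
      Subgroup.closure_mono (Set.union_subset_union_right _ (by
        intro u hu; rw [Set.mem_singleton_iff] at hu; rw [hu]; exact Or.inl rfl))
    have heq : Subgroup.closure ((Z : Set E) ∪ {a}) = Subgroup.closure ((Z : Set E) ∪ {a, b}) := by
      apply Subgroup.eq_of_le_of_card_ge hle
      rw [hN2]; exact h1
    rw [heq]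
    exact Subgroup.subset_closure (Or.inr (Or.inr rfl))
  have h1 : Nat.card ↥(Subgroup.centralizer ({a} : Set E)) ≤ p ^ 2 := by
    rw [← hN2]; exact Subgroup.card_le_of_le hC
  have h2 := Subgroup.card_mul_index (Subgroup.centralizer ({a} : Set E))
  have h3 : Nat.card E ≤ p ^ 2 * p := by
    rw [← h2]
    exact Nat.mul_le_mul h1 hcls
  have : p ^ 2 * p = p ^ 3 := by ring
  omega

/-- A `p`-group of order at most `p^n` has class at most `n`. -/
theorem lcs_eq_bot_of_card {R : Type*} [Group R] [Finite R] {p : ℕ} [hp : Fact p.Prime]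
    (hR : IsPGroup p R) (n : ℕ) (hn : Nat.card R ≤ p ^ n) :
    (⊤ : Subgroup R).lowerCentralSeries n = ⊥ := by
  have hp1 : 1 < p := hp.out.one_lt
  have hanti : Antitone (⊤ : Subgroup R).lowerCentralSeries :=
    Subgroup.lowerCentralSeries_antitone ⊤
  haveI hnil : Group.IsNilpotent R := hR.isNilpotent
  obtain ⟨m, hm⟩ := Subgroup.nilpotent_iff_lowerCentralSeries.1 hnil
  have hstab : ∀ k, (⊤ : Subgroup R).lowerCentralSeries (k + 1) =
      (⊤ : Subgroup R).lowerCentralSeries k → (⊤ : Subgroup R).lowerCentralSeries k = ⊥ := by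
    intro k hk
    have h1 : ∀ j, (⊤ : Subgroup R).lowerCentralSeries (k + j) =
        (⊤ : Subgroup R).lowerCentralSeries k := by
      intro j
      induction j with
      | zero => rfl
      | succ j ih =>
        rw [← add_assoc, Subgroup.lowerCentralSeries_succ, ih, ← Subgroup.lowerCentralSeries_succ]
        exact hk
    rcases le_total m k with h | h
    · exact le_bot_iff.1 (hm ▸ hanti h)
    · have := h1 (m - k)
      rw [Nat.add_sub_cancel' h] at this
      rw [← this]; exact hm
  have hcard : ∀ k, (⊤ : Subgroup R).lowerCentralSeries k = ⊥ ∨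
      Nat.card ↥((⊤ : Subgroup R).lowerCentralSeries k) * p ^ k ≤ Nat.card R := by
    intro k
    induction k with
    | zero =>
      right
      rw [Subgroup.lowerCentralSeries_zero, Subgroup.card_top, pow_zero, mul_one]
    | succ k ih =>
      rcases ih with h | h
      · left; exact le_bot_iff.1 (h ▸ hanti (Nat.le_succ k))
      · by_cases heq : (⊤ : Subgroup R).lowerCentralSeries (k + 1) =
            (⊤ : Subgroup R).lowerCentralSeries k
        · left; rw [heq]; exact hstab k heq
        · right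
          have hlt : (⊤ : Subgroup R).lowerCentralSeries (k + 1) <
              (⊤ : Subgroup R).lowerCentralSeries k :=
            lt_of_le_of_ne (hanti (Nat.le_succ k)) heq
          obtain ⟨e, he⟩ := (hR.to_subgroup ((⊤ : Subgroup R).lowerCentralSeries k)).exists_card_eq
          obtain ⟨e', he'⟩ :=
            (hR.to_subgroup ((⊤ : Subgroup R).lowerCentralSeries (k + 1))).exists_card_eq
          have hlt' := card_lt_of_lt' hlt
          rw [he, he'] at hlt'
          have hee : e' < e := (Nat.pow_lt_pow_iff_right hp1).1 hlt'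
          calc Nat.card ↥((⊤ : Subgroup R).lowerCentralSeries (k + 1)) * p ^ (k + 1)
              = p ^ (e' + 1) * p ^ k := by rw [he']; ring
            _ ≤ p ^ e * p ^ k :=
              Nat.mul_le_mul_right _ (Nat.pow_le_pow_right hp.out.pos (by omega))
            _ = Nat.card ↥((⊤ : Subgroup R).lowerCentralSeries k) * p ^ k := by rw [he]
            _ ≤ Nat.card R := h
  rcases hcard n with h | h
  · exact h
  · have h1 : Nat.card ↥((⊤ : Subgroup R).lowerCentralSeries n) * p ^ n ≤ p ^ n := h.trans hn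
    have h2 : Nat.card ↥((⊤ : Subgroup R).lowerCentralSeries n) ≤ 1 := by
      by_contra hc; push Not at hc
      have h3 : 2 * p ^ n ≤ Nat.card ↥((⊤ : Subgroup R).lowerCentralSeries n) * p ^ n :=
        Nat.mul_le_mul_right _ hc
      have hpos : 0 < p ^ n := pow_pos hp.out.pos n
      omega
    exact (Subgroup.card_le_one_iff_eq_bot _).1 h2

/-- The subgroup of elements of `M` of order dividing `p`, when these are closed under products. -/
def omegaSub {R : Type*} [Group R] (p : ℕ) (M : Subgroup R)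
    (h : ∀ a b : R, a ∈ M → b ∈ M → a ^ p = 1 → b ^ p = 1 → (a * b) ^ p = 1) : Subgroup R where
  carrier := {g | g ∈ M ∧ g ^ p = 1}
  mul_mem' := by
    rintro a b ⟨haM, hap⟩ ⟨hbM, hbp⟩
    exact ⟨M.mul_mem haM hbM, h a b haM hbM hap hbp⟩
  one_mem' := ⟨M.one_mem, one_pow p⟩
  inv_mem' := by
    rintro a ⟨haM, hap⟩
    exact ⟨M.inv_mem haM, by rw [inv_pow, hap, inv_one]⟩

universe u

theorem key {p : ℕ} [hp : Fact p.Prime] (hp3 : 3 < p) :
    ∀ (n : ℕ) (R : Type u) [Group R] [Finite R], Nat.card R = n → IsPGroup p R →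
      (∀ E : Subgroup R, Cfsg.IsElementaryAbelian p E → Nat.card E ≤ p ^ 2) →
      ∀ x y : R, x ^ p = 1 → y ^ p = 1 → (x * y) ^ p = 1 := by
  intro n
  induction n using Nat.strong_induction_on with
  | _ n IH =>
  intro R _ _ hn hR hrk x y hx hy
  by_cases hcomm : Commute x y
  · rw [hcomm.mul_pow, hx, hy, one_mul]
  have hK : Subgroup.zpowers x ≠ ⊤ := by
    intro h
    apply hcomm
    have hy' : y ∈ Subgroup.zpowers x := h ▸ Subgroup.mem_top y
    obtain ⟨k, rfl⟩ := Subgroup.mem_zpowers_iff.1 hy'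
    exact (Commute.refl x).zpow_right k
  obtain ⟨M, hMco, hKM⟩ := (eq_top_or_exists_le_coatom (Subgroup.zpowers x)).resolve_left hK
  haveI hnil : Group.IsNilpotent R := hR.isNilpotent
  haveI hMn : M.Normal := Subgroup.NormalizerCondition.normal_of_coatom M
    (normalizerCondition_of_isNilpotent) hMco
  have hMlt : Nat.card M < n := by
    rw [← hn, ← Subgroup.card_top (G := R)]
    exact card_lt_of_lt' (lt_top_iff_ne_top.2 hMco.1)
  have hMrk : ∀ E' : Subgroup ↥M, Cfsg.IsElementaryAbelian p E' → Nat.card E' ≤ p ^ 2 := by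
    intro E' hE'
    have h1 : Cfsg.IsElementaryAbelian p (E'.map M.subtype) := by
      refine ⟨comm_map _ _ hE'.1, ?_⟩
      rintro _ ⟨a, ha, rfl⟩
      have := hE'.2 a ha
      have h2 := congrArg Subtype.val this
      simpa using h2
    have h2 := hrk _ h1
    rwa [Subgroup.card_map_of_injective M.subtype_injective] at h2
  have ihM := IH (Nat.card M) hMlt ↥M rfl (hR.to_subgroup M) hMrk
  obtain ⟨E, hEmem⟩ : ∃ E : Subgroup R, ∀ g, g ∈ E ↔ g ∈ M ∧ g ^ p = 1 :=
    ⟨omegaSub p M (fun a b ha hb hap hbp => by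
      have := ihM ⟨a, ha⟩ ⟨b, hb⟩ (Subtype.ext (by simpa using hap))
        (Subtype.ext (by simpa using hbp))
      simpa using congrArg Subtype.val this), fun g => Iff.rfl⟩
  have hxE : x ∈ E := (hEmem x).2 ⟨hKM (Subgroup.mem_zpowers x), hx⟩
  haveI hEn : E.Normal := by
    constructor
    intro g hg r
    obtain ⟨hgM, hgp⟩ := (hEmem g).1 hg
    exact (hEmem _).2 ⟨hMn.conj_mem g hgM r, by rw [conj_pow, hgp, mul_one, mul_inv_cancel]⟩
  have hEcard : Nat.card E ≤ p ^ 3 := by
    apply card_le_cube (p := p)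
    · intro g; exact Subtype.ext (by simpa using ((hEmem g).1 g.2).2)
    · intro A hA
      have h1 : Cfsg.IsElementaryAbelian p (A.map E.subtype) := by
        refine ⟨comm_map _ _ hA, ?_⟩
        rintro _ ⟨a, ha, rfl⟩
        exact ((hEmem a).1 a.2).2
      have h2 := hrk _ h1
      rwa [Subgroup.card_map_of_injective E.subtype_injective] at h2
  obtain ⟨H, hH⟩ : ∃ H : Subgroup R, H = E ⊔ Subgroup.zpowers y := ⟨_, rfl⟩
  have hEH : E ≤ H := by rw [hH]; exact le_sup_left
  have hxH : x ∈ H := hEH hxE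
  have hyH : y ∈ H := by rw [hH]; exact Subgroup.mem_sup_right (Subgroup.mem_zpowers y)
  have hHcard : Nat.card H ≤ p ^ 4 := by
    have h1 : Nat.card E * E.relIndex H = Nat.card H := by
      have := Subgroup.relIndex_mul_relIndex ⊥ E H bot_le hEH
      rwa [Subgroup.relIndex_bot_left, Subgroup.relIndex_bot_left] at this
    have h2 : E.relIndex H = E.relIndex (Subgroup.zpowers y) := by
      rw [hH]; exact Subgroup.relIndex_sup_left _ _
    have h3 : E.relIndex (Subgroup.zpowers y) ∣ Nat.card (Subgroup.zpowers y) :=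
      Subgroup.relIndex_dvd_card _ _
    have h4 : Nat.card (Subgroup.zpowers y) ∣ p := by
      rw [Nat.card_zpowers]; exact orderOf_dvd_of_pow_eq_one hy
    have h5 : E.relIndex H ≤ p := by
      rw [h2]; exact Nat.le_of_dvd hp.out.pos (h3.trans h4)
    calc Nat.card H = Nat.card E * E.relIndex H := h1.symm
      _ ≤ p ^ 3 * p := Nat.mul_le_mul hEcard h5
      _ = p ^ 4 := by ring
  -- class of H
  have hHp : IsPGroup p H := hR.to_subgroup H
  have hcl : (⊤ : Subgroup ↥H).lowerCentralSeries (p - 1) = ⊥ := by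
    apply lcs_eq_bot_of_card hHp
    have hp4 : p ≠ 4 := by
      intro h
      have h' := hp.out
      rw [h] at h'
      norm_num at h'
    have h4 : 4 ≤ p - 1 := by omega
    calc Nat.card H ≤ p ^ 4 := hHcard
      _ ≤ p ^ (p - 1) := Nat.pow_le_pow_right hp.out.pos h4
  -- commutator of H lies in E
  have hcomE : ∀ u ∈ commutator ↥H, u ^ p = 1 := by
    have hle : commutator ↥H ≤ E.subgroupOf H := by
      rw [commutator_def, Subgroup.commutator_le]
      intro a _ b _
      rw [Subgroup.mem_subgroupOf]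
      show ((⁅a, b⁆ : ↥H) : R) ∈ E
      have hmk : ∀ h : ↥H, ∃ i : ℤ, ((h : R) : R ⧸ E) = ((y : R) : R ⧸ E) ^ i := by
        intro h
        have hh : (h : R) ∈ E ⊔ Subgroup.zpowers y := hH ▸ h.2
        rw [← SetLike.mem_coe, Subgroup.normal_mul, Set.mem_mul] at hh
        obtain ⟨e, he, z, hz, hez⟩ := hh
        obtain ⟨i, rfl⟩ := Subgroup.mem_zpowers_iff.1 hz
        refine ⟨i, ?_⟩
        rw [← hez, QuotientGroup.mk_mul, (QuotientGroup.eq_one_iff e).2 he, one_mul,
          QuotientGroup.mk_zpow]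
      obtain ⟨i, hi⟩ := hmk a
      obtain ⟨j, hj⟩ := hmk b
      rw [← QuotientGroup.eq_one_iff]
      have e1 : ((⁅a, b⁆ : ↥H) : R) = ⁅(a : R), (b : R)⁆ := rfl
      rw [e1, commutatorElement_def, QuotientGroup.mk_mul, QuotientGroup.mk_mul,
        QuotientGroup.mk_mul, QuotientGroup.mk_inv, QuotientGroup.mk_inv, hi, hj]
      have hc : Commute (((y : R) : R ⧸ E) ^ i) (((y : R) : R ⧸ E) ^ j) :=
        ((Commute.refl _).zpow_left i).zpow_right j
      rw [hc.eq]
      group
    intro u hu
    have h1 : (u : R) ∈ E := Subgroup.mem_subgroupOf.1 (hle hu)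
    exact Subtype.ext (by simpa using ((hEmem _).1 h1).2)
  have hfin := cc_all.{u} p (p - 1) le_rfl ↥H hcl hcomE ⟨x, hxH⟩ ⟨y, hyH⟩
  have h2 := congrArg Subtype.val hfin
  simp only [Subgroup.coe_pow, Subgroup.coe_mul] at h2
  rw [h2, hx, hy, one_mul]

end Cfsg.Agent.helper18.RankTwo
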