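import Mathlib
import Cfsg.Prelude.Def_OddOrderLocal
import Cfsg.Agent.Lib_helper23_Hall

set_option autoImplicit false
set_option linter.style.haveILetI false

namespace Cfsg.Agent.helper19

open Cfsg
open scoped commutatorElement

/-- Number-theoretic core: for `p` odd, `r ≡ 1 mod p`, `p^m ∣ r^k - 1 ↔ p^m ∣ (r-1) k`. -/
theorem pow_dvd_pow_sub_one_iff {p : ℕ} [Fact p.Prime] (hp : p ≠ 2) {r : ℕ} (hr1 : 1 ≤ r)
    (hpr : p ∣ r - 1) (m : ℕ) {k : ℕ} (hk : k ≠ 0) :
    p ^ m ∣ r ^ k - 1 ↔ p ^ m ∣ (r - 1) * k := by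
  have hpp : p.Prime := Fact.out
  rcases Nat.eq_or_lt_of_le hr1 with h1 | h1
  · rw [← h1]; simp
  · have hodd : Odd p := hpp.odd_of_ne_two hp
    have hnd : ¬ p ∣ r := by
      intro h
      have : p ∣ 1 := by
        have h2 : p ∣ r - (r - 1) := Nat.dvd_sub h hpr
        have h3 : r - (r - 1) = 1 := by omega
        rwa [h3] at h2
      exact hpp.one_lt.ne' (Nat.dvd_one.mp this)
    have hLTE := padicValNat.pow_sub_pow (p := p) hodd h1 hpr hnd hk
    rw [one_pow] at hLTE
    have hne1 : r ^ k - 1 ≠ 0 := by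
      have : 1 < r ^ k := Nat.one_lt_pow hk h1
      omega
    have hne2 : (r - 1) * k ≠ 0 := by
      apply mul_ne_zero _ hk
      omega
    rw [padicValNat_dvd_iff_le hne1, padicValNat_dvd_iff_le hne2, hLTE,
      padicValNat.mul (by omega) hk]

variable {G : Type*} [Group G]

/-- Subgroups of a cyclic normal subgroup are normal. -/
theorem normal_of_le_cyclic_normal {N D : Subgroup G} [hN : N.Normal] (hc : IsCyclic N)
    (hD : D ≤ N) : D.Normal := by
  obtain ⟨⟨a, haN⟩, ha⟩ := hc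
  constructor
  intro d hd g
  have hgag : g * a * g⁻¹ ∈ N := hN.conj_mem a haN g
  obtain ⟨j, hj⟩ := ha ⟨g * a * g⁻¹, hgag⟩
  obtain ⟨i, hi⟩ := ha ⟨d, hD hd⟩
  have hj' : a ^ j = g * a * g⁻¹ := by
    have := congrArg Subtype.val hj
    simpa using this
  have hi' : a ^ i = d := by
    have := congrArg Subtype.val hi
    simpa using this
  have : g * d * g⁻¹ = d ^ j := by
    rw [← hi', ← zpow_mul, mul_comm, zpow_mul, hj']
    simp [conj_zpow]
  rw [this]
  exact D.zpow_mem hd j

/-- The class size of `b` is the number of commutators `g b g⁻¹ b⁻¹`. -/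
theorem index_centralizer_eq_card_range (b : G) :
    (Subgroup.centralizer ({b} : Set G)).index =
      Nat.card (Set.range fun g : G => g * b * g⁻¹ * b⁻¹) := by
  rw [Subgroup.index]
  apply Nat.card_congr
  have key : ∀ g h : G, g * b * g⁻¹ * b⁻¹ = h * b * h⁻¹ * b⁻¹ ↔
      g⁻¹ * h ∈ Subgroup.centralizer ({b} : Set G) := by
    intro g h
    rw [Subgroup.mem_centralizer_iff]
    constructor
    · intro hh x hx
      rw [Set.mem_singleton_iff] at hx
      subst hx
      have h1 : g * x * g⁻¹ = h * x * h⁻¹ := mul_right_cancel hh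
      have h2 : x * (g⁻¹ * h) = g⁻¹ * (g * x * g⁻¹) * h := by group
      rw [h2, h1]; group
    · intro hh
      have h1 := hh b (Set.mem_singleton b)
      have h2 : h * b * h⁻¹ = g * (g⁻¹ * h * b) * h⁻¹ := by group
      rw [h2, ← h1]; group
  refine Equiv.ofBijective (fun q => Quotient.liftOn' q
    (fun g => (⟨g * b * g⁻¹ * b⁻¹, g, rfl⟩ : Set.range fun g : G => g * b * g⁻¹ * b⁻¹)) ?_) ⟨?_, ?_⟩
  · intro g h hgh
    rw [QuotientGroup.leftRel_apply] at hgh
    exact Subtype.ext ((key g h).mpr hgh)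
  · intro q₁ q₂
    induction q₁ using Quotient.inductionOn' with | _ g => ?_
    induction q₂ using Quotient.inductionOn' with | _ h => ?_
    intro hq
    simp only [Quotient.liftOn'_mk''] at hq
    have := congrArg Subtype.val hq
    apply Quotient.sound'
    rw [QuotientGroup.leftRel_apply]
    exact (key g h).mp this
  · rintro ⟨_, g, rfl⟩
    exact ⟨Quotient.mk'' g, rfl⟩

/-- Iterating a power-conjugation. -/
theorem meta_conj_pow {a b : G} {r : ℕ} (h : b * a * b⁻¹ = a ^ r) (k : ℕ) :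
    b ^ k * a * (b ^ k)⁻¹ = a ^ (r ^ k) := by
  induction k with
  | zero => simp
  | succ k ih =>
    have h1 : b ^ (k + 1) * a * (b ^ (k + 1))⁻¹ = b * (b ^ k * a * (b ^ k)⁻¹) * b⁻¹ := by
      rw [pow_succ']; group
    rw [h1, ih, ← conj_pow, h, ← pow_mul, pow_succ']

/-- Generators of a metacyclic `p`-group. -/
theorem exists_meta_gens [Finite G] {p : ℕ} [Fact p.Prime] (hG : IsPGroup p G)
    (hmc : Cfsg.IsMetacyclic G) :
    ∃ (a b : G) (r m : ℕ), (Subgroup.zpowers a).Normal ∧ orderOf a = p ^ m ∧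
      (∀ g : G, ∃ i k : ℕ, g = a ^ i * b ^ k) ∧ b * a * b⁻¹ = a ^ r ∧ 1 ≤ r ∧ p ∣ r - 1 := by
  have hpp : p.Prime := Fact.out
  obtain ⟨N, hN, hNc, hQc⟩ := hmc
  obtain ⟨⟨a, haN⟩, ha⟩ := hNc
  have hNeq : N = Subgroup.zpowers a := by
    apply le_antisymm
    · intro x hx
      obtain ⟨j, hj⟩ := ha ⟨x, hx⟩
      refine ⟨j, ?_⟩
      have := congrArg Subtype.val hj
      simpa using this
    · rw [Subgroup.zpowers_le]; exact haN
  subst hNeq
  obtain ⟨q, hq⟩ := hQc
  obtain ⟨b, rfl⟩ := QuotientGroup.mk_surjective q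
  obtain ⟨m, hm⟩ := (IsPGroup.iff_orderOf.mp hG) a
  have hall : ∀ g : G, ∃ i k : ℕ, g = a ^ i * b ^ k := by
    intro g
    have h1 : (g : G ⧸ Subgroup.zpowers a) ∈ Subgroup.zpowers (b : G ⧸ Subgroup.zpowers a) :=
      hq (g : G ⧸ Subgroup.zpowers a)
    rw [← mem_powers_iff_mem_zpowers] at h1
    obtain ⟨k, hk⟩ := h1
    have hk : (b : G ⧸ Subgroup.zpowers a) ^ k = (g : G ⧸ Subgroup.zpowers a) := hk
    have h2 : ((b ^ k : G) : G ⧸ Subgroup.zpowers a) = (g : G ⧸ Subgroup.zpowers a) := by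
      rw [← hk]; rfl
    rw [QuotientGroup.eq] at h2
    have h3 : g * (b ^ k)⁻¹ ∈ Subgroup.zpowers a := by
      have := hN.conj_mem _ h2 g
      have e : g * ((b ^ k)⁻¹ * g) * g⁻¹ = g * (b ^ k)⁻¹ := by group
      rwa [e] at this
    rw [← mem_powers_iff_mem_zpowers] at h3
    obtain ⟨i, hi⟩ := h3
    have hi : a ^ i = g * (b ^ k)⁻¹ := hi
    refine ⟨i, k, ?_⟩
    rw [hi]; group
  have hbab : b * a * b⁻¹ ∈ Subgroup.zpowers a :=
    hN.conj_mem a (Subgroup.mem_zpowers a) b
  rw [← mem_powers_iff_mem_zpowers] at hbab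
  obtain ⟨r₀, hr₀⟩ := hbab
  have hr₀ : a ^ r₀ = b * a * b⁻¹ := hr₀
  by_cases ha1 : a = 1
  · refine ⟨a, b, 1, m, hN, hm, hall, ?_, le_refl 1, by simp⟩
    subst ha1; simp
  · have hr1 : 1 ≤ r₀ := by
      rcases Nat.eq_zero_or_pos r₀ with h0 | h0
      · exfalso
        rw [h0, pow_zero] at hr₀
        apply ha1
        have : b * a * b⁻¹ = 1 := hr₀.symm
        have h2 : a = b⁻¹ * (b * a * b⁻¹) * b := by group
        rw [h2, this]; group
      · exact h0
    refine ⟨a, b, r₀, m, hN, hm, hall, hr₀.symm, hr1, ?_⟩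
    obtain ⟨j, hj⟩ := (IsPGroup.iff_orderOf.mp hG) b
    have hbj : b ^ (p ^ j) = 1 := by rw [← hj]; exact pow_orderOf_eq_one b
    have h1 := meta_conj_pow hr₀.symm (p ^ j)
    rw [hbj] at h1
    simp only [one_mul, inv_one, mul_one] at h1
    have hge : 1 ≤ r₀ ^ p ^ j := Nat.one_le_pow _ _ hr1
    have h2 : a ^ (r₀ ^ p ^ j - 1) = 1 := by
      have : a ^ (r₀ ^ p ^ j - 1) * a = a := by
        rw [← pow_succ, Nat.sub_add_cancel hge]; exact h1.symm
      exact mul_eq_right.mp this
    have h3 : p ^ m ∣ r₀ ^ p ^ j - 1 := by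
      rw [← hm]; exact orderOf_dvd_of_pow_eq_one h2
    have hm0 : m ≠ 0 := by
      intro h0
      rw [h0, pow_zero, orderOf_eq_one_iff] at hm
      exact ha1 hm
    have h4 : p ∣ r₀ ^ p ^ j - 1 := dvd_trans (dvd_pow_self p hm0) h3
    have h5 : ((r₀ ^ p ^ j - 1 : ℕ) : ZMod p) = 0 := (ZMod.natCast_eq_zero_iff _ _).mpr h4
    rw [Nat.cast_sub hge, Nat.cast_pow, ZMod.pow_card_pow] at h5
    rw [← ZMod.natCast_eq_zero_iff, Nat.cast_sub hr1]
    exact h5

/-- Core computation for a metacyclic `p`-group with given generators. -/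
theorem meta_core [Finite G] {p : ℕ} [Fact p.Prime] (hp : p ≠ 2) {a b : G} {r m : ℕ}
    (hN : (Subgroup.zpowers a).Normal) (hm : orderOf a = p ^ m)
    (hall : ∀ g : G, ∃ i k : ℕ, g = a ^ i * b ^ k) (hconj : b * a * b⁻¹ = a ^ r) (hr1 : 1 ≤ r)
    (hpr : p ∣ r - 1) :
    commutator G = Subgroup.zpowers (a ^ (r - 1)) ∧
    (Subgroup.centralizer ({b} : Set G)).index = Nat.card ↥(commutator G) ∧
    (Subgroup.center G).index = Nat.card ↥(commutator G) ^ 2 := by
  have hpp : p.Prime := Fact.out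
  set c := a ^ (r - 1) with hc
  have hcc : a ^ r = c * a := by
    rw [hc, ← pow_succ, Nat.sub_add_cancel hr1]
  have hca : Commute c a := (Commute.refl a).pow_left _
  -- commutators with b
  have hcomm_i : ∀ i : ℕ, a ^ i * b * (a ^ i)⁻¹ * b⁻¹ = (c⁻¹) ^ i := by
    intro i
    have h1 : b * (a ^ i)⁻¹ * b⁻¹ = ((b * a * b⁻¹) ^ i)⁻¹ := by
      rw [conj_pow]; group
    calc a ^ i * b * (a ^ i)⁻¹ * b⁻¹ = a ^ i * (b * (a ^ i)⁻¹ * b⁻¹) := by group
      _ = a ^ i * ((c * a) ^ i)⁻¹ := by rw [h1, hconj, hcc]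
      _ = a ^ i * (c ^ i * a ^ i)⁻¹ := by rw [hca.mul_pow]
      _ = (c⁻¹) ^ i := by rw [mul_inv_rev, ← mul_assoc, mul_inv_cancel, one_mul, inv_pow]
  have hcomm_g : ∀ i k : ℕ, (a ^ i * b ^ k) * b * (a ^ i * b ^ k)⁻¹ * b⁻¹ = (c⁻¹) ^ i := by
    intro i k
    rw [← hcomm_i i]
    have : b ^ k * b * (b ^ k)⁻¹ = b := by
      rw [← pow_succ, pow_succ', mul_assoc, mul_inv_cancel, mul_one]
    calc a ^ i * b ^ k * b * (a ^ i * b ^ k)⁻¹ * b⁻¹
        = a ^ i * (b ^ k * b * (b ^ k)⁻¹) * (a ^ i)⁻¹ * b⁻¹ := by group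
      _ = _ := by rw [this]
  -- range of commutators is zpowers c
  have hrange : (Set.range fun g : G => g * b * g⁻¹ * b⁻¹) = (Subgroup.zpowers c : Set G) := by
    ext x
    constructor
    · rintro ⟨g, rfl⟩
      obtain ⟨i, k, rfl⟩ := hall g
      show (a ^ i * b ^ k) * b * (a ^ i * b ^ k)⁻¹ * b⁻¹ ∈ Subgroup.zpowers c
      rw [hcomm_g]
      exact Subgroup.pow_mem _ (Subgroup.inv_mem _ (Subgroup.mem_zpowers c)) i
    · intro hx
      have hx : x ∈ Subgroup.zpowers c := hx
      rw [← Subgroup.zpowers_inv, ← mem_powers_iff_mem_zpowers] at hx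
      obtain ⟨i, hi⟩ := hx
      have hi : c⁻¹ ^ i = x := hi
      exact ⟨a ^ i, by show a ^ i * b * (a ^ i)⁻¹ * b⁻¹ = x; rw [hcomm_i, hi]⟩
  have hB : (Subgroup.centralizer ({b} : Set G)).index = orderOf c := by
    rw [index_centralizer_eq_card_range, hrange]
    exact Nat.card_zpowers c
  -- the commutator subgroup
  have hcle : Subgroup.zpowers c ≤ Subgroup.zpowers a := by
    rw [Subgroup.zpowers_le]
    exact Subgroup.pow_mem _ (Subgroup.mem_zpowers a) _
  haveI hDn : (Subgroup.zpowers c).Normal :=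
    normal_of_le_cyclic_normal (N := Subgroup.zpowers a) inferInstance hcle
  have hcomm : commutator G = Subgroup.zpowers c := by
    apply le_antisymm
    · rw [← Subgroup.Normal.quotient_commutative_iff_commutator_le]
      have hab : Commute ((a : G) : G ⧸ Subgroup.zpowers c) ((b : G) : G ⧸ Subgroup.zpowers c) := by
        have h1 : ((b * a * b⁻¹ * a⁻¹ : G) : G ⧸ Subgroup.zpowers c) = 1 := by
          rw [QuotientGroup.eq_one_iff, hconj, hcc, mul_assoc, mul_inv_cancel, mul_one]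
          exact Subgroup.mem_zpowers c
        have h2 : ((b : G) : G ⧸ Subgroup.zpowers c) * (a : G) * (b : G ⧸ Subgroup.zpowers c)⁻¹ *
            ((a : G) : G ⧸ Subgroup.zpowers c)⁻¹ = 1 := by
          rw [← h1]; rfl
        show ((a : G) : G ⧸ Subgroup.zpowers c) * (b : G) = (b : G) * (a : G)
        have h3 := mul_inv_eq_one.mp h2
        rw [mul_inv_eq_iff_eq_mul] at h3
        exact h3.symm
      refine ⟨⟨fun u v => ?_⟩⟩
      obtain ⟨g, rfl⟩ := QuotientGroup.mk_surjective u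
      obtain ⟨h, rfl⟩ := QuotientGroup.mk_surjective v
      obtain ⟨i, k, rfl⟩ := hall g
      obtain ⟨j, l, rfl⟩ := hall h
      have e1 : (((a ^ i * b ^ k : G)) : G ⧸ Subgroup.zpowers c) =
          ((a : G) : G ⧸ Subgroup.zpowers c) ^ i * ((b : G) : G ⧸ Subgroup.zpowers c) ^ k := rfl
      have e2 : (((a ^ j * b ^ l : G)) : G ⧸ Subgroup.zpowers c) =
          ((a : G) : G ⧸ Subgroup.zpowers c) ^ j * ((b : G) : G ⧸ Subgroup.zpowers c) ^ l := rfl
      rw [e1, e2]
      exact (((Commute.refl _).pow_pow i j).mul_right (hab.pow_pow i l)).mul_left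
        ((hab.symm.pow_pow k j).mul_right ((Commute.refl _).pow_pow k l))
    · rw [Subgroup.zpowers_le, commutator_def]
      have : c = ⁅b, a⁆ := by
        rw [commutatorElement_def, hconj, hcc, mul_assoc, mul_inv_cancel, mul_one]
      rw [this]
      exact Subgroup.commutator_mem_commutator (Subgroup.mem_top b) (Subgroup.mem_top a)
  have hcardc : Nat.card ↥(commutator G) = orderOf c := by
    rw [hcomm]; exact Nat.card_zpowers c
  refine ⟨hcomm, by rw [hB, hcardc], ?_⟩
  -- the centralizer of N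
  set A := Subgroup.centralizer (Subgroup.zpowers a : Set G) with hA
  set B := Subgroup.centralizer ({b} : Set G) with hBdef
  haveI hAn : A.Normal := Subgroup.normal_centralizer
  have haA : ∀ i : ℕ, a ^ i ∈ A := by
    intro i
    rw [hA, Subgroup.mem_centralizer_iff]
    intro x hx
    obtain ⟨j, rfl⟩ := hx
    exact (((Commute.refl a).zpow_left j).pow_right i).eq
  have hbB : ∀ k : ℕ, b ^ k ∈ B := by
    intro k
    rw [hBdef, Subgroup.mem_centralizer_iff]
    intro x hx
    rw [Set.mem_singleton_iff] at hx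
    subst hx
    exact ((Commute.refl x).pow_right k).eq
  have hsup : B ⊔ A = ⊤ := by
    rw [eq_top_iff]
    intro g _
    obtain ⟨i, k, rfl⟩ := hall g
    rw [sup_comm]
    exact Subgroup.mul_mem_sup (haA i) (hbB k)
  have hinf : A ⊓ B = Subgroup.center G := by
    ext g
    rw [Subgroup.mem_inf, Subgroup.mem_center_iff]
    constructor
    · rintro ⟨hgA, hgB⟩ h
      obtain ⟨i, k, rfl⟩ := hall h
      rw [hA, Subgroup.mem_centralizer_iff] at hgA
      rw [hBdef, Subgroup.mem_centralizer_iff] at hgB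
      have h1 : Commute a g := hgA a (Subgroup.mem_zpowers a)
      have h2 : Commute b g := hgB b (Set.mem_singleton b)
      exact ((h1.pow_left i).mul_left (h2.pow_left k)).eq
    · intro hg
      constructor
      · rw [hA, Subgroup.mem_centralizer_iff]
        intro x _
        exact hg x
      · rw [hBdef, Subgroup.mem_centralizer_iff]
        intro x _
        exact hg x
  -- index of A
  have hQgen : ∀ y : G ⧸ A, y ∈ Subgroup.zpowers ((b : G) : G ⧸ A) := by
    intro y
    obtain ⟨g, rfl⟩ := QuotientGroup.mk_surjective y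
    obtain ⟨i, k, rfl⟩ := hall g
    have h1 : ((a ^ i : G) : G ⧸ A) = 1 := (QuotientGroup.eq_one_iff _).mpr (haA i)
    have h2 : ((a ^ i * b ^ k : G) : G ⧸ A) = ((a ^ i : G) : G ⧸ A) * ((b : G) : G ⧸ A) ^ k := rfl
    rw [h2, h1, one_mul]
    exact Subgroup.pow_mem _ (Subgroup.mem_zpowers _) k
  have hAidx : A.index = orderOf ((b : G) : G ⧸ A) := by
    rw [Subgroup.index, orderOf_eq_card_of_forall_mem_zpowers hQgen]
  have hkey : ∀ k : ℕ, ((b : G) : G ⧸ A) ^ k = 1 ↔ a ^ (r ^ k - 1) = 1 := by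
    intro k
    have hge : 1 ≤ r ^ k := Nat.one_le_pow _ _ hr1
    have h0 : ((b : G) : G ⧸ A) ^ k = ((b ^ k : G) : G ⧸ A) := rfl
    have hcp := meta_conj_pow hconj k
    have h3 : a ^ (r ^ k - 1) = 1 ↔ a ^ (r ^ k) = a := by
      constructor
      · intro h
        have : a ^ (r ^ k) = a ^ (r ^ k - 1) * a := by
          rw [← pow_succ, Nat.sub_add_cancel hge]
        rw [this, h, one_mul]
      · intro h
        have : a ^ (r ^ k - 1) * a = a := by
          rw [← pow_succ, Nat.sub_add_cancel hge]; exact h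
        exact mul_eq_right.mp this
    rw [h0, QuotientGroup.eq_one_iff, h3, ← hcp]
    constructor
    · intro hmem
      rw [hA, Subgroup.mem_centralizer_iff] at hmem
      have := hmem a (Subgroup.mem_zpowers a)
      rw [← this]; group
    · intro h
      have hc1 : Commute (b ^ k) a := by
        exact mul_inv_eq_iff_eq_mul.mp h
      rw [hA, Subgroup.mem_centralizer_iff]
      intro x hx
      obtain ⟨j, rfl⟩ := hx
      exact (hc1.zpow_right j).symm.eq
  have hordA : ∀ k : ℕ, k ≠ 0 → (orderOf ((b : G) : G ⧸ A) ∣ k ↔ orderOf c ∣ k) := by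
    intro k hk
    rw [orderOf_dvd_iff_pow_eq_one, orderOf_dvd_iff_pow_eq_one, hkey, hc, ← pow_mul,
      ← orderOf_dvd_iff_pow_eq_one, ← orderOf_dvd_iff_pow_eq_one, hm]
    exact pow_dvd_pow_sub_one_iff hp hr1 hpr m hk
  have hAeq : A.index = orderOf c := by
    rw [hAidx]
    apply Nat.dvd_antisymm
    · exact (hordA _ (orderOf_pos c).ne').mpr dvd_rfl
    · exact (hordA _ (orderOf_pos _).ne').mp dvd_rfl
  -- counting
  have h1 := Cfsg.Agent.helper23.card_sup_mul_card_inf B A
  rw [hsup, hinf, Subgroup.card_top] at h1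
  have h2 := Subgroup.card_mul_index A
  have h3 := Subgroup.card_mul_index B
  have h4 := Subgroup.card_mul_index (Subgroup.center G)
  rw [hcardc]
  rw [hAeq] at h2
  rw [hB] at h3
  have hApos : 0 < Nat.card A := Nat.card_pos
  have hBpos : 0 < Nat.card B := Nat.card_pos
  have h5 : Nat.card B * Nat.card A * (Subgroup.center G).index =
      Nat.card B * Nat.card A * (orderOf c ^ 2) := by
    calc Nat.card B * Nat.card A * (Subgroup.center G).index
        = Nat.card G * (Nat.card (Subgroup.center G) * (Subgroup.center G).index) := by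
          rw [← h1]; ring
      _ = Nat.card G * Nat.card G := by rw [h4]
      _ = (Nat.card B * orderOf c) * (Nat.card A * orderOf c) := by rw [h2, h3]
      _ = _ := by ring
  exact Nat.eq_of_mul_eq_mul_left (Nat.mul_pos hBpos hApos) h5

universe u v

/-- Main theorem on metacyclic `p`-groups, `p` odd. -/
theorem meta_main {G : Type u} [Group G] [Finite G] {p : ℕ} [Fact p.Prime] (hp : p ≠ 2) (hG : IsPGroup p G)
    (hmc : Cfsg.IsMetacyclic G) :
    (Subgroup.center G).index = Nat.card ↥(commutator G) ^ 2 ∧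
    (∃ x : G, (Subgroup.centralizer ({x} : Set G)).index = Nat.card ↥(commutator G)) ∧
    (∃ c : G, commutator G = Subgroup.zpowers c) ∧
    ∀ D : Subgroup G, D ≤ commutator G → D.Normal := by
  obtain ⟨a, b, r, m, hN, hm, hall, hconj, hr1, hpr⟩ := exists_meta_gens hG hmc
  obtain ⟨h1, h2, h3⟩ := meta_core hp hN hm hall hconj hr1 hpr
  refine ⟨h3, ⟨b, h2⟩, ⟨_, h1⟩, ?_⟩
  intro D hD
  haveI := hN
  apply normal_of_le_cyclic_normal (N := Subgroup.zpowers a) inferInstance
  refine le_trans hD ?_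
  rw [h1, Subgroup.zpowers_le]
  exact Subgroup.pow_mem _ (Subgroup.mem_zpowers a) _

theorem isMetacyclic_of_surjective {G : Type u} {H : Type v} [Group G] [Group H]
    (hmc : Cfsg.IsMetacyclic G) (f : G →* H) (hf : Function.Surjective f) :
    Cfsg.IsMetacyclic H := by
  obtain ⟨N, hN, hNc, hQc⟩ := hmc
  haveI := hN
  have hNn : (N.map f).Normal := hN.map f hf
  refine ⟨N.map f, hNn, ?_, ?_⟩
  · exact isCyclic_of_surjective (f.subgroupMap N) (f.subgroupMap_surjective N)
  · have hle : N ≤ (N.map f).comap f := Subgroup.le_comap_map f N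
    refine isCyclic_of_surjective (QuotientGroup.map N (N.map f) f hle) ?_
    intro y
    obtain ⟨h, rfl⟩ := QuotientGroup.mk_surjective y
    obtain ⟨g, rfl⟩ := hf h
    exact ⟨(g : G ⧸ N), rfl⟩

theorem isMetacyclic_of_injective {G : Type u} {H : Type v} [Group G] [Group H]
    (hmc : Cfsg.IsMetacyclic G) (f : H →* G) (hf : Function.Injective f) :
    Cfsg.IsMetacyclic H := by
  obtain ⟨N, hN, hNc, hQc⟩ := hmc
  haveI := hN
  refine ⟨N.comap f, inferInstance, ?_, ?_⟩
  · refine isCyclic_of_injective (f.subgroupComap N) ?_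
    intro x y hxy
    have := congrArg Subtype.val hxy
    exact Subtype.ext (hf this)
  · set g : H →* G ⧸ N := (QuotientGroup.mk' N).comp f with hg
    have hker : g.ker = N.comap f := by
      rw [hg, ← MonoidHom.comap_ker, QuotientGroup.ker_mk']
    have e1 : H ⧸ g.ker ≃* g.range := QuotientGroup.quotientKerEquivRange g
    have e2 : H ⧸ N.comap f ≃* H ⧸ g.ker := QuotientGroup.quotientMulEquivOfEq hker.symm
    exact isCyclic_of_injective ((e2.trans e1).toMonoidHom) (e2.trans e1).injective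

theorem isMetacyclic_subgroup {G : Type u} [Group G] (hmc : Cfsg.IsMetacyclic G) (H : Subgroup G) :
    Cfsg.IsMetacyclic ↥H :=
  isMetacyclic_of_injective hmc H.subtype H.subtype_injective

theorem isMetacyclic_quotient {G : Type u} [Group G] (hmc : Cfsg.IsMetacyclic G) (K : Subgroup G)
    [K.Normal] : Cfsg.IsMetacyclic (G ⧸ K) :=
  isMetacyclic_of_surjective hmc (QuotientGroup.mk' K) (QuotientGroup.mk'_surjective K)

end Cfsg.Agent.helper19
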