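import Mathlib
import Cfsg.Prelude.Def_OddOrderLocal
import Cfsg.Agent.Lib_helper19_Meta1

set_option autoImplicit false
set_option linter.style.haveILetI false

namespace Cfsg.Agent.helper19

open Cfsg
open scoped commutatorElement

universe u

/-- (P): if the class of `x` has at most `p^t` elements, every `p^t`-th power centralizes `x`. -/
theorem pow_mem_centralizer_of_index_le {G : Type u} [Group G] [Finite G] {p : ℕ} [Fact p.Prime]
    (hG : IsPGroup p G) (x y : G) (t : ℕ)
    (h : (Subgroup.centralizer ({x} : Set G)).index ≤ p ^ t) :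
    y ^ p ^ t ∈ Subgroup.centralizer ({x} : Set G) := by
  have hpp : p.Prime := Fact.out
  set C := Subgroup.centralizer ({x} : Set G) with hC
  set Y := Subgroup.zpowers y with hY
  set d := C.relIndex Y with hd
  have hd1 : d ≤ C.index := by
    have := Subgroup.relIndex_le_of_le_right (H := C) (K := Y) (L := ⊤) le_top (by
      rw [Subgroup.relIndex_top_right]; exact Subgroup.index_ne_zero_of_finite)
    rwa [Subgroup.relIndex_top_right] at this
  have hd2 : d ∣ Nat.card Y := Subgroup.relIndex_dvd_card C Y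
  obtain ⟨j, hj⟩ := (IsPGroup.iff_orderOf.mp hG) y
  rw [hY, Nat.card_zpowers, hj] at hd2
  obtain ⟨i, hij, hi⟩ := (Nat.dvd_prime_pow hpp).mp hd2
  have hit : i ≤ t := by
    have : p ^ i ≤ p ^ t := by rw [← hi]; exact le_trans hd1 h
    exact (Nat.pow_le_pow_iff_right hpp.one_lt).mp this
  have hyd : y ^ d ∈ C := by
    haveI : (C.subgroupOf Y).Normal := Subgroup.normal_of_isMulCommutative _
    have h1 := Subgroup.pow_index_mem (C.subgroupOf Y) (⟨y, Subgroup.mem_zpowers y⟩ : Y)
    rw [Subgroup.mem_subgroupOf] at h1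
    have h2 : (C.subgroupOf Y).index = d := rfl
    rw [h2] at h1
    simpa using h1
  have : y ^ p ^ t = (y ^ d) ^ (p ^ (t - i)) := by
    rw [← pow_mul, hi, ← pow_add, Nat.add_sub_cancel' hit]
  rw [this]
  exact Subgroup.pow_mem _ hyd _

/-- (L4): class sizes are bounded by the order of the commutator subgroup. -/
theorem index_centralizer_le_card_commutator {G : Type u} [Group G] [Finite G] (x : G) :
    (Subgroup.centralizer ({x} : Set G)).index ≤ Nat.card ↥(commutator G) := by
  rw [index_centralizer_eq_card_range]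
  have hsub : (Set.range fun g : G => g * x * g⁻¹ * x⁻¹) ⊆ (commutator G : Set G) := by
    rintro _ ⟨g, rfl⟩
    rw [commutator_def]
    exact Subgroup.commutator_mem_commutator (Subgroup.mem_top g) (Subgroup.mem_top x)
  exact Nat.card_mono (Set.toFinite _) hsub

/-- A group generated by two elements commuting modulo a normal subgroup `D` has `G' ≤ D`. -/
theorem commutator_le_of_closure_pair {G : Type u} [Group G] (D : Subgroup G) [D.Normal] (g x : G)
    (hgen : Subgroup.closure ({g, x} : Set G) = ⊤) (h : g * x * g⁻¹ * x⁻¹ ∈ D) :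
    commutator G ≤ D := by
  rw [← Subgroup.Normal.quotient_commutative_iff_commutator_le]
  set π := QuotientGroup.mk' D with hπ
  have hgen' : Subgroup.closure ({π g, π x} : Set (G ⧸ D)) = ⊤ := by
    have h1 := MonoidHom.map_closure π ({g, x} : Set G)
    rw [hgen, Subgroup.map_top_of_surjective π (QuotientGroup.mk'_surjective D), Set.image_pair] at h1
    exact h1.symm
  have hcomm : Commute (π g) (π x) := by
    have h1 : π (g * x * g⁻¹ * x⁻¹) = 1 := (QuotientGroup.eq_one_iff _).mpr h
    rw [map_mul, map_mul, map_mul, map_inv, map_inv] at h1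
    have h3 := mul_inv_eq_one.mp h1
    rw [mul_inv_eq_iff_eq_mul] at h3
    exact h3
  have key : ∀ u : G ⧸ D, Commute (π g) u → Commute (π x) u → ∀ v : G ⧸ D, Commute v u := by
    intro u h1 h2 v
    have hv : v ∈ Subgroup.closure ({π g, π x} : Set (G ⧸ D)) := by rw [hgen']; trivial
    have hle : Subgroup.closure ({π g, π x} : Set (G ⧸ D)) ≤ Subgroup.centralizer ({u} : Set (G ⧸ D)) := by
      rw [Subgroup.closure_le]
      intro s hs
      rw [SetLike.mem_coe, Subgroup.mem_centralizer_iff]
      intro w hw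
      rw [Set.mem_singleton_iff] at hw
      subst hw
      rcases hs with rfl | hs
      · exact h1.symm.eq
      · rw [Set.mem_singleton_iff] at hs; subst hs; exact h2.symm.eq
    have := hle hv
    rw [Subgroup.mem_centralizer_iff] at this
    exact (this u (Set.mem_singleton u)).symm
  have hg : ∀ v : G ⧸ D, Commute v (π g) := key (π g) (Commute.refl _) hcomm.symm
  have hx : ∀ v : G ⧸ D, Commute v (π x) := key (π x) hcomm (Commute.refl _)
  refine ⟨⟨fun u v => ?_⟩⟩
  exact (key v (hg v).symm (hx v).symm u).eq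

/-- (A0): in a two-generator metacyclic `p`-group, `|G'| = o([g,x]) ≤ |G : C(g)|`. -/
theorem orderOf_comm_le_index_of_gen {G : Type u} [Group G] [Finite G] {p : ℕ} [Fact p.Prime]
    (hp : p ≠ 2) (hG : IsPGroup p G) (hmc : Cfsg.IsMetacyclic G) (g x : G)
    (hgen : Subgroup.closure ({g, x} : Set G) = ⊤) :
    commutator G = Subgroup.zpowers (g * x * g⁻¹ * x⁻¹) ∧
    orderOf (g * x * g⁻¹ * x⁻¹) ≤ (Subgroup.centralizer ({g} : Set G)).index := by
  obtain ⟨hM1, -, -, hnorm⟩ := meta_main hp hG hmc
  set c := g * x * g⁻¹ * x⁻¹ with hc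
  have hcmem : c ∈ commutator G := by
    rw [commutator_def]
    exact Subgroup.commutator_mem_commutator (Subgroup.mem_top g) (Subgroup.mem_top x)
  have hle : Subgroup.zpowers c ≤ commutator G := by
    rw [Subgroup.zpowers_le]; exact hcmem
  haveI : (Subgroup.zpowers c).Normal := hnorm _ hle
  have hge : commutator G ≤ Subgroup.zpowers c :=
    commutator_le_of_closure_pair _ g x hgen (Subgroup.mem_zpowers c)
  have heq : commutator G = Subgroup.zpowers c := le_antisymm hge hle
  refine ⟨heq, ?_⟩
  have hcard : Nat.card ↥(commutator G) = orderOf c := by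
    rw [heq]; exact Nat.card_zpowers c
  have hcen : Subgroup.center G =
      Subgroup.centralizer ({g} : Set G) ⊓ Subgroup.centralizer ({x} : Set G) := by
    ext u
    rw [Subgroup.mem_inf, Subgroup.mem_center_iff, Subgroup.mem_centralizer_iff,
      Subgroup.mem_centralizer_iff]
    constructor
    · intro h
      exact ⟨fun w _ => h w, fun w _ => h w⟩
    · rintro ⟨h1, h2⟩ v
      have hv : v ∈ Subgroup.closure ({g, x} : Set G) := by rw [hgen]; trivial
      have hle : Subgroup.closure ({g, x} : Set G) ≤ Subgroup.centralizer ({u} : Set G) := by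
        rw [Subgroup.closure_le]
        intro s hs
        rw [SetLike.mem_coe, Subgroup.mem_centralizer_iff]
        intro w hw
        rw [Set.mem_singleton_iff] at hw
        subst hw
        rcases hs with rfl | hs
        · exact (h1 s (Set.mem_singleton s)).symm
        · rw [Set.mem_singleton_iff] at hs; subst hs; exact (h2 s (Set.mem_singleton s)).symm
      have := hle hv
      rw [Subgroup.mem_centralizer_iff] at this
      exact (this u (Set.mem_singleton u)).symm
  have h1 : (Subgroup.center G).index ≤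
      (Subgroup.centralizer ({g} : Set G)).index * (Subgroup.centralizer ({x} : Set G)).index := by
    rw [hcen]; exact Subgroup.index_inf_le
  have h2 := index_centralizer_le_card_commutator x
  rw [hM1, hcard] at h1
  rw [hcard] at h2
  have hpos : 0 < orderOf c := orderOf_pos c
  have h3 : orderOf c * orderOf c ≤ (Subgroup.centralizer ({g} : Set G)).index * orderOf c := by
    calc orderOf c * orderOf c = orderOf c ^ 2 := by ring
      _ ≤ _ := h1
      _ ≤ _ := Nat.mul_le_mul_left _ h2
  exact Nat.le_of_mul_le_mul_right h3 hpos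

/-- (A): in a metacyclic `p`-group (`p` odd), `o([g,x]) ≤ |G : C(g)|`. -/
theorem orderOf_comm_le_index {G : Type u} [Group G] [Finite G] {p : ℕ} [Fact p.Prime]
    (hp : p ≠ 2) (hG : IsPGroup p G) (hmc : Cfsg.IsMetacyclic G) (g x : G) :
    orderOf (g * x * g⁻¹ * x⁻¹) ≤ (Subgroup.centralizer ({g} : Set G)).index := by
  set H := Subgroup.closure ({g, x} : Set G) with hH
  have hgH : g ∈ H := Subgroup.subset_closure (by simp)
  have hxH : x ∈ H := Subgroup.subset_closure (by simp)
  have hgen : Subgroup.closure ({(⟨g, hgH⟩ : H), ⟨x, hxH⟩} : Set H) = ⊤ := by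
    have h1 := Subgroup.closure_closure_coe_preimage (k := ({g, x} : Set G))
    have h2 : ((↑) : H → G) ⁻¹' ({g, x} : Set G) = ({(⟨g, hgH⟩ : H), ⟨x, hxH⟩} : Set H) := by
      ext u
      simp only [Set.mem_preimage, Set.mem_insert_iff, Set.mem_singleton_iff, Subtype.ext_iff]
    rw [← h2]; exact h1
  have hA0 := (orderOf_comm_le_index_of_gen hp (hG.to_subgroup H) (isMetacyclic_subgroup hmc H)
    (⟨g, hgH⟩ : H) ⟨x, hxH⟩ hgen).2
  have e1 : orderOf ((⟨g, hgH⟩ : H) * ⟨x, hxH⟩ * (⟨g, hgH⟩ : H)⁻¹ * (⟨x, hxH⟩ : H)⁻¹) =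
      orderOf (g * x * g⁻¹ * x⁻¹) := by
    rw [← Subgroup.orderOf_coe]; rfl
  have e2 : Subgroup.centralizer ({(⟨g, hgH⟩ : H)} : Set H) =
      (Subgroup.centralizer ({g} : Set G)).subgroupOf H := by
    ext u
    rw [Subgroup.mem_subgroupOf, Subgroup.mem_centralizer_iff, Subgroup.mem_centralizer_iff]
    constructor
    · intro h w hw
      rw [Set.mem_singleton_iff] at hw
      subst hw
      have := h ⟨w, hgH⟩ (Set.mem_singleton _)
      exact congrArg Subtype.val this
    · intro h w hw
      rw [Set.mem_singleton_iff] at hw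
      subst hw
      exact Subtype.ext (h g (Set.mem_singleton g))
  rw [e1, e2] at hA0
  refine le_trans hA0 ?_
  have := Subgroup.relIndex_le_of_le_right (H := Subgroup.centralizer ({g} : Set G)) (K := H)
    (L := ⊤) le_top (by rw [Subgroup.relIndex_top_right]; exact Subgroup.index_ne_zero_of_finite)
  rwa [Subgroup.relIndex_top_right] at this

/-- (L2): a metacyclic group of exponent dividing `e` has order dividing `e^2`. -/
theorem card_dvd_sq_of_exponent {G : Type u} [Group G] [Finite G] (hmc : Cfsg.IsMetacyclic G)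
    (e : ℕ) (he : ∀ g : G, g ^ e = 1) : Nat.card G ∣ e ^ 2 := by
  obtain ⟨N, hN, hNc, hQc⟩ := hmc
  haveI := hN
  obtain ⟨a, ha⟩ := hNc
  obtain ⟨q, hq⟩ := hQc
  have h1 : Nat.card N = orderOf a := (orderOf_eq_card_of_forall_mem_zpowers ha).symm
  have h2 : Nat.card (G ⧸ N) = orderOf q := (orderOf_eq_card_of_forall_mem_zpowers hq).symm
  have h3 : orderOf a ∣ e := by
    apply orderOf_dvd_of_pow_eq_one
    apply Subtype.ext
    simpa using he a.1
  have h4 : orderOf q ∣ e := by
    apply orderOf_dvd_of_pow_eq_one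
    obtain ⟨g, rfl⟩ := QuotientGroup.mk_surjective q
    rw [← QuotientGroup.mk_pow, he g]; rfl
  rw [Subgroup.card_eq_card_quotient_mul_card_subgroup N, h1, h2, pow_two]
  exact Nat.mul_dvd_mul h4 h3

/-- The closure of a conjugation-invariant set is normal. -/
theorem closure_normal_of_conj_mem {G : Type u} [Group G] (S : Set G)
    (h : ∀ s ∈ S, ∀ g : G, g * s * g⁻¹ ∈ S) : (Subgroup.closure S).Normal := by
  constructor
  intro n hn g
  induction hn using Subgroup.closure_induction with
  | mem x hx => exact Subgroup.subset_closure (h x hx g)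
  | one => simp
  | mul x y _ _ hx hy =>
    have : g * (x * y) * g⁻¹ = (g * x * g⁻¹) * (g * y * g⁻¹) := by group
    rw [this]; exact Subgroup.mul_mem _ hx hy
  | inv x _ hx =>
    have : g * x⁻¹ * g⁻¹ = (g * x * g⁻¹)⁻¹ := by group
    rw [this]; exact Subgroup.inv_mem _ hx

/-- The subgroups `K_t = ℧_t(G)` of a metacyclic `p`-group. -/
theorem meta_K {G : Type u} [Group G] [Finite G] {p : ℕ} [Fact p.Prime] (hp : p ≠ 2)
    (hG : IsPGroup p G) (hmc : Cfsg.IsMetacyclic G) (n : ℕ)
    (hGn : Nat.card ↥(commutator G) = p ^ n) (t : ℕ) (ht : t ≤ n) :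
    ∃ K : Subgroup G, K.index = p ^ (2 * t) ∧
      (∀ g, g ∈ K ↔ (Subgroup.centralizer ({g} : Set G)).index ≤ p ^ (n - t)) ∧
      K = Subgroup.closure {x : G | ∃ y : G, y ^ p ^ t = x} := by
  have hpp : p.Prime := Fact.out
  obtain ⟨hM1, -, ⟨c, hc⟩, hnorm⟩ := meta_main hp hG hmc
  have hordc : orderOf c = p ^ n := by rw [← hGn, hc, Nat.card_zpowers]
  set M := Subgroup.zpowers (c ^ p ^ t) with hM
  have hMle : M ≤ commutator G := by
    rw [hc, hM, Subgroup.zpowers_le]; exact Subgroup.pow_mem _ (Subgroup.mem_zpowers c) _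
  haveI hMn : M.Normal := hnorm M hMle
  have hMcard : Nat.card M = p ^ (n - t) := by
    rw [hM, Nat.card_zpowers, orderOf_pow, hordc, Nat.gcd_eq_right (pow_dvd_pow p ht),
      Nat.pow_div ht hpp.pos]
  have hMmem : ∀ y ∈ commutator G, y ^ p ^ (n - t) = 1 → y ∈ M := by
    intro y hy hy1
    rw [hc, ← mem_powers_iff_mem_zpowers] at hy
    obtain ⟨j, hj⟩ := hy
    have hj : c ^ j = y := hj
    subst hj
    have h1 : p ^ n ∣ j * p ^ (n - t) := by
      rw [← hordc]; apply orderOf_dvd_of_pow_eq_one; rw [pow_mul]; exact hy1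
    have h2 : p ^ t ∣ j := by
      have e : p ^ n = p ^ t * p ^ (n - t) := by rw [← pow_add, Nat.add_sub_cancel' ht]
      rw [e] at h1
      exact Nat.dvd_of_mul_dvd_mul_right (pow_pos hpp.pos _) h1
    obtain ⟨l, rfl⟩ := h2
    rw [pow_mul]; exact Subgroup.pow_mem _ (Subgroup.mem_zpowers _) l
  set π := QuotientGroup.mk' M with hπ
  have hπs : Function.Surjective π := QuotientGroup.mk'_surjective M
  have hQp : IsPGroup p (G ⧸ M) := hG.to_quotient M
  have hQmc : Cfsg.IsMetacyclic (G ⧸ M) := isMetacyclic_quotient hmc M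
  have hQcomm : Nat.card ↥(commutator (G ⧸ M)) = p ^ t := by
    have h1 : commutator (G ⧸ M) = (commutator G).map π := by
      rw [commutator_def, commutator_def, Subgroup.map_commutator,
        Subgroup.map_top_of_surjective π hπs]
    rw [h1]
    have h2 := Subgroup.relIndex_map_map π ⊥ (commutator G)
    rw [Subgroup.map_bot, Subgroup.relIndex_bot_left, QuotientGroup.ker_mk', bot_sup_eq,
      sup_eq_left.mpr hMle] at h2
    rw [h2]
    have h3 := Subgroup.relIndex_mul_relIndex ⊥ M (commutator G) bot_le hMle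
    rw [Subgroup.relIndex_bot_left, Subgroup.relIndex_bot_left, hMcard, hGn] at h3
    have e : p ^ n = p ^ (n - t) * p ^ t := by rw [← pow_add, Nat.sub_add_cancel ht]
    rw [e] at h3
    exact Nat.eq_of_mul_eq_mul_left (pow_pos hpp.pos _) h3
  obtain ⟨hQM1, -, -, -⟩ := meta_main hp hQp hQmc
  set K := (Subgroup.center (G ⧸ M)).comap π with hK
  have hKidx : K.index = p ^ (2 * t) := by
    rw [hK, Subgroup.index_comap_of_surjective _ hπs, hQM1, hQcomm, ← pow_mul, mul_comm]
  have hKmem : ∀ g, g ∈ K ↔ ∀ x : G, g * x * g⁻¹ * x⁻¹ ∈ M := by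
    intro g
    rw [hK, Subgroup.mem_comap, Subgroup.mem_center_iff]
    constructor
    · intro h x
      rw [← QuotientGroup.eq_one_iff]
      have h1 := h (π x)
      show π (g * x * g⁻¹ * x⁻¹) = 1
      rw [map_mul, map_mul, map_mul, map_inv, map_inv, ← h1]; group
    · intro h u
      obtain ⟨x, rfl⟩ := hπs u
      have h1 : π (g * x * g⁻¹ * x⁻¹) = 1 := (QuotientGroup.eq_one_iff _).mpr (h x)
      rw [map_mul, map_mul, map_mul, map_inv, map_inv] at h1
      have h3 := mul_inv_eq_one.mp h1
      rw [mul_inv_eq_iff_eq_mul] at h3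
      exact h3.symm
  have hKclass : ∀ g, g ∈ K ↔ (Subgroup.centralizer ({g} : Set G)).index ≤ p ^ (n - t) := by
    intro g
    constructor
    · intro hg
      rw [index_centralizer_eq_card_range, ← hMcard]
      have hsub : (Set.range fun x : G => x * g * x⁻¹ * g⁻¹) ⊆ (M : Set G) := by
        rintro _ ⟨x, rfl⟩
        have h1 := (hKmem g).mp hg x
        have h2 : x * g * x⁻¹ * g⁻¹ = (g * x * g⁻¹ * x⁻¹)⁻¹ := by group
        show x * g * x⁻¹ * g⁻¹ ∈ M
        rw [h2]; exact Subgroup.inv_mem _ h1
      exact Nat.card_mono (Set.toFinite _) hsub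
    · intro hg
      rw [hKmem]
      intro x
      apply hMmem
      · rw [commutator_def]
        exact Subgroup.commutator_mem_commutator (Subgroup.mem_top g) (Subgroup.mem_top x)
      · have h1 := orderOf_comm_le_index hp hG hmc g x
        obtain ⟨e, he⟩ := (IsPGroup.iff_orderOf.mp hG) (g * x * g⁻¹ * x⁻¹)
        have h2 : p ^ e ≤ p ^ (n - t) := by rw [← he]; exact le_trans h1 hg
        have h3 : e ≤ n - t := (Nat.pow_le_pow_iff_right hpp.one_lt).mp h2
        apply orderOf_dvd_iff_pow_eq_one.mp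
        rw [he]; exact pow_dvd_pow p h3
  refine ⟨K, hKidx, hKclass, ?_⟩
  set E := Subgroup.closure {x : G | ∃ y : G, y ^ p ^ t = x} with hE
  have hEK : E ≤ K := by
    rw [hE, Subgroup.closure_le]
    rintro _ ⟨y, rfl⟩
    rw [SetLike.mem_coe, hK, Subgroup.mem_comap, Subgroup.mem_center_iff, map_pow]
    intro u
    have h1 : (Subgroup.centralizer ({u} : Set (G ⧸ M))).index ≤ p ^ t := by
      rw [← hQcomm]; exact index_centralizer_le_card_commutator u
    have h2 := pow_mem_centralizer_of_index_le hQp u (π y) t h1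
    rw [Subgroup.mem_centralizer_iff] at h2
    exact h2 u (Set.mem_singleton u)
  haveI hEn : E.Normal := by
    apply closure_normal_of_conj_mem
    rintro _ ⟨y, rfl⟩ g
    exact ⟨g * y * g⁻¹, by rw [conj_pow]⟩
  have hEidx : E.index ∣ p ^ (2 * t) := by
    have h1 := card_dvd_sq_of_exponent (isMetacyclic_quotient hmc E) (p ^ t) (by
      intro q
      obtain ⟨y, rfl⟩ := QuotientGroup.mk_surjective q
      rw [← QuotientGroup.mk_pow, QuotientGroup.eq_one_iff]
      exact Subgroup.subset_closure ⟨y, rfl⟩)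
    rw [← pow_mul, mul_comm] at h1
    exact h1
  have h1 := Subgroup.relIndex_mul_index hEK
  rw [hKidx] at h1
  have h2 : E.relIndex K = 1 := by
    have h3 : E.index ≤ p ^ (2 * t) := Nat.le_of_dvd (pow_pos hpp.pos _) hEidx
    have hpos : 0 < p ^ (2 * t) := pow_pos hpp.pos _
    have h4 : E.relIndex K * p ^ (2 * t) ≤ 1 * p ^ (2 * t) := by rw [h1, one_mul]; exact h3
    have h5 : E.relIndex K ≤ 1 := Nat.le_of_mul_le_mul_right h4 hpos
    have h6 : E.relIndex K ≠ 0 := by
      intro h0; rw [h0, zero_mul] at h1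
      exact (Subgroup.index_ne_zero_of_finite (H := E)) h1.symm
    omega
  exact le_antisymm (Subgroup.relIndex_eq_one.mp h2) hEK

end Cfsg.Agent.helper19
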