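import Mathlib
import Cfsg.Prelude.Def_OddOrderLocal
import Cfsg.Agent.Lib_helper19_Meta2
import Cfsg.Agent.Lib_helper1_PGroup

set_option autoImplicit false
set_option linter.style.haveILetI false

namespace Cfsg.Agent.helper19

open Cfsg
open scoped commutatorElement

universe u v

theorem card_commutator_congr {A : Type u} {B : Type v} [Group A] [Group B] (e : A ≃* B) :
    Nat.card ↥(commutator A) = Nat.card ↥(commutator B) := by
  have h1 : (commutator A).map e.toMonoidHom = commutator B := by
    rw [commutator_def, commutator_def, Subgroup.map_commutator,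
      Subgroup.map_top_of_surjective e.toMonoidHom e.surjective]
  rw [← h1, Subgroup.card_map_of_injective e.injective]

theorem isMulCommutative_congr {A : Type u} {B : Type v} [Group A] [Group B] (e : A ≃* B)
    (h : IsMulCommutative A) : IsMulCommutative B := by
  refine ⟨⟨fun x y => ?_⟩⟩
  have h1 := h.is_comm.comm (e.symm x) (e.symm y)
  have h2 := congrArg e h1
  simpa using h2

theorem not_isMulCommutative_iff_card_commutator {G : Type u} [Group G] :
    IsMulCommutative G ↔ Nat.card ↥(commutator G) = 1 := by
  rw [Subgroup.card_eq_one, commutator_eq_bot_iff_center_eq_top]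
  constructor
  · intro h
    rw [eq_top_iff]
    intro g _
    rw [Subgroup.mem_center_iff]
    intro x
    exact h.is_comm.comm x g
  · intro h
    refine ⟨⟨fun x y => ?_⟩⟩
    have : y ∈ Subgroup.center G := by rw [h]; trivial
    rw [Subgroup.mem_center_iff] at this
    exact this x

/-- Lemma X: a subgroup of index `p` of a nonabelian metacyclic `p`-group contains the centre and
an element with class size `|G'|`. -/
theorem meta_index_p {G : Type u} [Group G] [Finite G] {p : ℕ} [Fact p.Prime] (hp : p ≠ 2)
    (hG : IsPGroup p G) (hmc : Cfsg.IsMetacyclic G) (hna : ¬ IsMulCommutative G)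
    (H : Subgroup G) (hH : IsCoatom H) :
    Subgroup.center G ≤ H ∧
      ∃ h ∈ H, (Subgroup.centralizer ({h} : Set G)).index = Nat.card ↥(commutator G) := by
  have hpp : p.Prime := Fact.out
  obtain ⟨n, hn⟩ := (hG.to_subgroup (commutator G)).exists_card_eq
  have hn0 : n ≠ 0 := by
    intro h0
    rw [h0, pow_zero] at hn
    exact hna (not_isMulCommutative_iff_card_commutator.mpr hn)
  obtain ⟨K, hKi, hKc, hKe⟩ := meta_K hp hG hmc n hn 1 (by omega)
  have hKH : K ≤ H := by
    rw [hKe, Subgroup.closure_le]
    rintro _ ⟨y, rfl⟩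
    rw [pow_one]
    exact Cfsg.Agent.helper1.pow_mem_coatom_of_isPGroup hG hH y
  have hZK : Subgroup.center G ≤ K := by
    intro z hz
    rw [hKc]
    have : Subgroup.centralizer ({z} : Set G) = ⊤ := by
      rw [eq_top_iff]
      intro w _
      rw [Subgroup.mem_centralizer_iff]
      intro v hv
      rw [Set.mem_singleton_iff] at hv
      subst hv
      rw [Subgroup.mem_center_iff] at hz
      exact (hz w).symm
    rw [this, Subgroup.index_top]
    exact Nat.one_le_pow _ _ hpp.pos
  refine ⟨le_trans hZK hKH, ?_⟩
  have hHi := Cfsg.Agent.helper1.coatom_index_of_isPGroup hG hH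
  have hex : ∃ h ∈ H, h ∉ K := by
    by_contra hcon
    push Not at hcon
    have hHK : H ≤ K := hcon
    have := Subgroup.index_dvd_of_le hHK
    rw [hKi, hHi, mul_one] at this
    have h2 : p ^ 2 ≤ p := Nat.le_of_dvd hpp.pos this
    have : p * p ≤ p * 1 := by rw [mul_one, ← pow_two]; exact h2
    have := Nat.le_of_mul_le_mul_left this hpp.pos
    have := hpp.one_lt
    omega
  obtain ⟨h, hhH, hhK⟩ := hex
  refine ⟨h, hhH, ?_⟩
  rw [hKc] at hhK
  push Not at hhK
  obtain ⟨e, he⟩ := hG.index (Subgroup.centralizer ({h} : Set G))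
  have h1 := index_centralizer_le_card_commutator h
  rw [hn, he] at h1 ⊢
  rw [he] at hhK
  have h2 : e ≤ n := (Nat.pow_le_pow_iff_right hpp.one_lt).mp h1
  have h3 : n - 1 < e := (Nat.pow_lt_pow_iff_right hpp.one_lt).mp hhK
  congr 1; omega

theorem centralizer_singleton_subgroupOf {G : Type u} [Group G] (H : Subgroup G) (g : G)
    (hg : g ∈ H) :
    Subgroup.centralizer ({(⟨g, hg⟩ : H)} : Set H) =
      (Subgroup.centralizer ({g} : Set G)).subgroupOf H := by
  ext u
  rw [Subgroup.mem_subgroupOf, Subgroup.mem_centralizer_iff, Subgroup.mem_centralizer_iff]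
  constructor
  · intro h w hw
    rw [Set.mem_singleton_iff] at hw
    subst hw
    have := h ⟨w, hg⟩ (Set.mem_singleton _)
    exact congrArg Subtype.val this
  · intro h w hw
    rw [Set.mem_singleton_iff] at hw
    subst hw
    exact Subtype.ext (h g (Set.mem_singleton g))

theorem isMulCommutative_subgroup {G : Type u} [Group G] (h : IsMulCommutative G) (H : Subgroup G) :
    IsMulCommutative ↥H :=
  ⟨⟨fun x y => Subtype.ext (h.is_comm.comm x.1 y.1)⟩⟩

theorem isMulCommutative_of_le {G : Type u} [Group G] {R H : Subgroup G} (hRH : R ≤ H)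
    (h : IsMulCommutative ↥H) : IsMulCommutative ↥R :=
  ⟨⟨fun x y => Subtype.ext (congrArg Subtype.val
    (h.is_comm.comm (⟨x.1, hRH x.2⟩ : H) (⟨y.1, hRH y.2⟩ : H)) : x.1 * y.1 = y.1 * x.1)⟩⟩

/-- M3': a nonabelian maximal subgroup `H` has `|H'| p = |G'|`. -/
theorem meta_coatom_commutator {G : Type u} [Group G] [Finite G] {p : ℕ} [Fact p.Prime]
    (hp : p ≠ 2) (hG : IsPGroup p G) (hmc : Cfsg.IsMetacyclic G)
    (H : Subgroup G) (hH : IsCoatom H) (hHna : ¬ IsMulCommutative ↥H) :
    Nat.card ↥(commutator ↥H) * p = Nat.card ↥(commutator G) := by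
  have hpp : p.Prime := Fact.out
  have hna : ¬ IsMulCommutative G := fun h => hHna (isMulCommutative_subgroup h H)
  obtain ⟨n, hn⟩ := (hG.to_subgroup (commutator G)).exists_card_eq
  have hHp : IsPGroup p ↥H := hG.to_subgroup H
  have hHmc : Cfsg.IsMetacyclic ↥H := isMetacyclic_subgroup hmc H
  obtain ⟨n', hn'⟩ := (hHp.to_subgroup (commutator ↥H)).exists_card_eq
  obtain ⟨hM1, -, -, -⟩ := meta_main hp hG hmc
  obtain ⟨hM1', -, -, -⟩ := meta_main hp hHp hHmc
  have hZG := Subgroup.card_mul_index (Subgroup.center G)
  have hZH := Subgroup.card_mul_index (Subgroup.center ↥H)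
  rw [hM1, hn] at hZG
  rw [hM1', hn'] at hZH
  have hHi := Cfsg.Agent.helper1.coatom_index_of_isPGroup hG hH
  have hHG := Subgroup.card_mul_index H
  rw [hHi] at hHG
  obtain ⟨hZH', h, hhH, hhi⟩ := meta_index_p hp hG hmc hna H hH
  -- card Z(G) ≤ card Z(H)
  have hZle : Nat.card (Subgroup.center G) ≤ Nat.card (Subgroup.center ↥H) := by
    have h1 : (Subgroup.center G).subgroupOf H ≤ Subgroup.center ↥H := by
      intro z hz
      rw [Subgroup.mem_subgroupOf, Subgroup.mem_center_iff] at hz
      rw [Subgroup.mem_center_iff]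
      intro w
      exact Subtype.ext (hz w.1)
    have h2 := Nat.card_congr (Subgroup.subgroupOfEquivOfLe hZH').toEquiv
    rw [← h2]
    exact Subgroup.card_le_of_le h1
  -- upper bound
  have hup : 2 * n' + 1 ≤ 2 * n := by
    have h1 : Nat.card (Subgroup.center G) * p ^ (2 * n' + 1) ≤
        Nat.card (Subgroup.center G) * p ^ (2 * n) := by
      calc Nat.card (Subgroup.center G) * p ^ (2 * n' + 1)
          ≤ Nat.card (Subgroup.center ↥H) * p ^ (2 * n' + 1) := Nat.mul_le_mul_right _ hZle
        _ = Nat.card (Subgroup.center ↥H) * (p ^ n') ^ 2 * p := by rw [pow_succ, ← pow_mul, mul_comm n' 2, mul_assoc]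
        _ = Nat.card G := by rw [hZH, hHG]
        _ = Nat.card (Subgroup.center G) * p ^ (2 * n) := by rw [← hZG, ← pow_mul, mul_comm n 2]
    have h2 := Nat.le_of_mul_le_mul_left h1 Nat.card_pos
    exact (Nat.pow_le_pow_iff_right hpp.one_lt).mp h2
  -- lower bound
  have hlow : n ≤ n' + 1 := by
    set C := Subgroup.centralizer ({h} : Set G) with hC
    have hCG := Subgroup.card_mul_index C
    rw [hhi, hn] at hCG
    have h1 : C.relIndex H ≤ p ^ n' := by
      have h2 := index_centralizer_le_card_commutator (⟨h, hhH⟩ : H)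
      rw [centralizer_singleton_subgroupOf H h hhH, hn'] at h2
      exact h2
    have h3 := Subgroup.relIndex_mul_relIndex ⊥ (C ⊓ H) H bot_le inf_le_right
    rw [Subgroup.relIndex_bot_left, Subgroup.relIndex_bot_left, Subgroup.inf_relIndex_right] at h3
    have h4 : Nat.card ↥(C ⊓ H) ≤ Nat.card C := Subgroup.card_le_of_le inf_le_left
    have h5 : Nat.card C * p ^ n ≤ Nat.card C * p ^ (n' + 1) := by
      calc Nat.card C * p ^ n = Nat.card H * p := by rw [hCG, hHG]
        _ = Nat.card ↥(C ⊓ H) * C.relIndex H * p := by rw [h3]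
        _ ≤ Nat.card C * p ^ n' * p := by
          apply Nat.mul_le_mul_right
          exact Nat.mul_le_mul h4 h1
        _ = Nat.card C * p ^ (n' + 1) := by rw [pow_succ, mul_assoc]
    have h6 := Nat.le_of_mul_le_mul_left h5 Nat.card_pos
    exact (Nat.pow_le_pow_iff_right hpp.one_lt).mp h6
  have : n = n' + 1 := by omega
  rw [hn, hn', this, pow_succ]

/-- L3: an abelian maximal subgroup forces `|G'| ∣ p`. -/
theorem meta_abelian_coatom {G : Type u} [Group G] [Finite G] {p : ℕ} [Fact p.Prime]
    (hp : p ≠ 2) (hG : IsPGroup p G) (hmc : Cfsg.IsMetacyclic G)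
    (H : Subgroup G) (hH : IsCoatom H) (hHa : IsMulCommutative ↥H) :
    Nat.card ↥(commutator G) ∣ p := by
  by_cases hna : IsMulCommutative G
  · rw [not_isMulCommutative_iff_card_commutator.mp hna]; exact one_dvd p
  · obtain ⟨-, h, hhH, hhi⟩ := meta_index_p hp hG hmc hna H hH
    have hHi := Cfsg.Agent.helper1.coatom_index_of_isPGroup hG hH
    have hle : H ≤ Subgroup.centralizer ({h} : Set G) := by
      intro x hx
      rw [Subgroup.mem_centralizer_iff]
      intro w hw
      rw [Set.mem_singleton_iff] at hw
      subst hw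
      exact congrArg Subtype.val (hHa.is_comm.comm ⟨w, hhH⟩ ⟨x, hx⟩)
    have := Subgroup.index_dvd_of_le hle
    rwa [hhi, hHi] at this

theorem meta_M3_aux {p : ℕ} [Fact p.Prime] (hp : p ≠ 2) :
    ∀ k : ℕ, ∀ (G : Type u) [Group G] [Finite G], IsPGroup p G → Cfsg.IsMetacyclic G →
      Nat.card G = k → ∀ R : Subgroup G,
        (¬ IsMulCommutative ↥R → Nat.card R * Nat.card ↥(commutator G) =
          Nat.card ↥(commutator ↥R) * Nat.card G) ∧
        (IsMulCommutative ↥R → Nat.card R * Nat.card ↥(commutator G) ≤ Nat.card G) := by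
  have hpp : p.Prime := Fact.out
  intro k
  induction k using Nat.strong_induction_on with
  | _ k ih =>
    intro G _ _ hG hmc hk R
    rcases eq_top_or_exists_le_coatom R with hR | ⟨H, hH, hRH⟩
    · subst hR
      constructor
      · intro _
        rw [card_commutator_congr (Subgroup.topEquiv (G := G)), Subgroup.card_top]
        ring
      · intro hc
        have : IsMulCommutative G := isMulCommutative_congr Subgroup.topEquiv hc
        rw [not_isMulCommutative_iff_card_commutator.mp this, Subgroup.card_top, mul_one]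
    · have hHi := Cfsg.Agent.helper1.coatom_index_of_isPGroup hG hH
      have hHG := Subgroup.card_mul_index H
      rw [hHi] at hHG
      have hlt : Nat.card H < k := by
        rw [← hk, ← hHG]
        have h1 : 0 < Nat.card H := Nat.card_pos
        have h2 := hpp.one_lt
        nlinarith
      have e : ↥(R.subgroupOf H) ≃* ↥R := Subgroup.subgroupOfEquivOfLe hRH
      have hcardR : Nat.card ↥(R.subgroupOf H) = Nat.card R := Nat.card_congr e.toEquiv
      have hcommR : Nat.card ↥(commutator ↥(R.subgroupOf H)) = Nat.card ↥(commutator ↥R) :=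
        card_commutator_congr e
      obtain ⟨ih1, ih2⟩ := ih (Nat.card H) hlt ↥H (hG.to_subgroup H)
        (isMetacyclic_subgroup hmc H) rfl (R.subgroupOf H)
      by_cases hHa : IsMulCommutative ↥H
      · have hRa : IsMulCommutative ↥R := isMulCommutative_of_le hRH hHa
        constructor
        · intro h; exact absurd hRa h
        · intro _
          have h1 := meta_abelian_coatom hp hG hmc H hH hHa
          have h2 : Nat.card ↥(commutator G) ≤ p := Nat.le_of_dvd hpp.pos h1
          have h3 : Nat.card R ≤ Nat.card H := Subgroup.card_le_of_le hRH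
          calc Nat.card R * Nat.card ↥(commutator G) ≤ Nat.card H * p := Nat.mul_le_mul h3 h2
            _ = Nat.card G := hHG
      · have h1 := meta_coatom_commutator hp hG hmc H hH hHa
        constructor
        · intro hRna
          have hR'na : ¬ IsMulCommutative ↥(R.subgroupOf H) :=
            fun h => hRna (isMulCommutative_congr e h)
          have h2 := ih1 hR'na
          rw [hcardR, hcommR] at h2
          calc Nat.card R * Nat.card ↥(commutator G)
              = Nat.card R * Nat.card ↥(commutator ↥H) * p := by rw [← h1]; ring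
            _ = Nat.card ↥(commutator ↥R) * Nat.card H * p := by rw [h2]
            _ = _ := by rw [mul_assoc, hHG]
        · intro hRa
          have hR'a : IsMulCommutative ↥(R.subgroupOf H) := isMulCommutative_congr e.symm hRa
          have h2 := ih2 hR'a
          rw [hcardR] at h2
          calc Nat.card R * Nat.card ↥(commutator G)
              = Nat.card R * Nat.card ↥(commutator ↥H) * p := by rw [← h1]; ring
            _ ≤ Nat.card H * p := Nat.mul_le_mul_right _ h2
            _ = Nat.card G := hHG

/-- M3. -/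
theorem meta_M3 {G : Type u} [Group G] [Finite G] {p : ℕ} [Fact p.Prime] (hp : p ≠ 2)
    (hG : IsPGroup p G) (hmc : Cfsg.IsMetacyclic G) (R : Subgroup G) :
    (¬ IsMulCommutative ↥R → Nat.card R * Nat.card ↥(commutator G) =
      Nat.card ↥(commutator ↥R) * Nat.card G) ∧
    (IsMulCommutative ↥R → Nat.card R * Nat.card ↥(commutator G) ≤ Nat.card G) :=
  meta_M3_aux hp (Nat.card G) G hG hmc rfl R

/-- Abelian subgroups of a metacyclic `p`-group by order (`p` odd). -/
theorem meta_abelian_iff {G : Type u} [Group G] [Finite G] {p : ℕ} [Fact p.Prime] (hp : p ≠ 2)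
    (hG : IsPGroup p G) (hmc : Cfsg.IsMetacyclic G) (L : Subgroup G) :
    (IsMulCommutative ↥L ↔ Nat.card ↥L ≤ (commutator G).index) ∧
    (Maximal (fun K : Subgroup G => IsMulCommutative ↥K) L ↔
      Nat.card ↥L = (commutator G).index) := by
  have hpp : p.Prime := Fact.out
  have hidx := Subgroup.card_mul_index (commutator G)
  have hcpos : 0 < Nat.card ↥(commutator G) := Nat.card_pos
  have h1 : ∀ L : Subgroup G, IsMulCommutative ↥L ↔ Nat.card ↥L ≤ (commutator G).index := by
    intro L
    obtain ⟨hna, ha⟩ := meta_M3 hp hG hmc L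
    constructor
    · intro h
      have h2 := ha h
      rw [← hidx, mul_comm] at h2
      exact Nat.le_of_mul_le_mul_left h2 hcpos
    · intro h
      by_contra hL
      have h2 := hna hL
      rw [← hidx] at h2
      have h3 : Nat.card L = Nat.card ↥(commutator ↥L) * (commutator G).index := by
        apply Nat.eq_of_mul_eq_mul_right hcpos
        rw [h2]; ring
      have hLpos : 0 < Nat.card L := Nat.card_pos
      have h4 : Nat.card ↥(commutator ↥L) * Nat.card L ≤ 1 * Nat.card L := by
        rw [one_mul]
        calc Nat.card ↥(commutator ↥L) * Nat.card L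
            ≤ Nat.card ↥(commutator ↥L) * (commutator G).index := Nat.mul_le_mul_left _ h
          _ = Nat.card L := h3.symm
      have h5 := Nat.le_of_mul_le_mul_right h4 hLpos
      have h6 : 0 < Nat.card ↥(commutator ↥L) := Nat.card_pos
      exact hL (not_isMulCommutative_iff_card_commutator.mpr (by omega))
  refine ⟨h1 L, ?_⟩
  constructor
  · intro hmax
    have hLa : IsMulCommutative ↥L := hmax.prop
    have hle := (h1 L).mp hLa
    by_contra hne
    have hlt : Nat.card L < (commutator G).index := lt_of_le_of_ne hle hne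
    obtain ⟨l, hl⟩ := (hG.to_subgroup L).exists_card_eq
    obtain ⟨g, hg⟩ := hG.exists_card_eq
    have hlg : l < g := by
      have h2 : (commutator G).index ≤ Nat.card G :=
        Nat.le_of_dvd Nat.card_pos (Subgroup.index_dvd_card _)
      have h3 : p ^ l < p ^ g := by rw [← hl, ← hg]; exact lt_of_lt_of_le hlt h2
      exact (Nat.pow_lt_pow_iff_right hpp.one_lt).mp h3
    have hdvd : p ^ (l + 1) ∣ Nat.card G := by rw [hg]; exact pow_dvd_pow p hlg
    obtain ⟨K, hK, hLK⟩ := Sylow.exists_subgroup_card_pow_succ hdvd hl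
    have hKna : ¬ IsMulCommutative ↥K := by
      intro hKa
      have := hmax.le_of_ge hKa hLK
      have h2 := Subgroup.card_le_of_le this
      rw [hK, hl, pow_succ] at h2
      have h3 : 0 < p ^ l := pow_pos hpp.pos l
      have := hpp.one_lt
      nlinarith
    obtain ⟨hna, -⟩ := meta_M3 hp hG hmc K
    have h2 := hna hKna
    rw [← hidx, hK, pow_succ, ← hl] at h2
    have h3 : Nat.card L * p = Nat.card ↥(commutator ↥K) * (commutator G).index := by
      apply Nat.eq_of_mul_eq_mul_right hcpos
      rw [h2]; ring
    have h4 : p ≤ Nat.card ↥(commutator ↥K) := by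
      obtain ⟨j, hj⟩ := ((hG.to_subgroup K).to_subgroup (commutator ↥K)).exists_card_eq
      have hj0 : j ≠ 0 := by
        intro h0
        rw [h0, pow_zero] at hj
        exact hKna (not_isMulCommutative_iff_card_commutator.mpr hj)
      rw [hj]
      calc p = p ^ 1 := (pow_one p).symm
        _ ≤ p ^ j := Nat.pow_le_pow_right hpp.pos (by omega)
    have h5 : (commutator G).index * p ≤ Nat.card L * p := by
      rw [h3, mul_comm]
      exact Nat.mul_le_mul_right _ h4
    have := Nat.le_of_mul_le_mul_right h5 hpp.pos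
    omega
  · intro hcard
    have hLa : IsMulCommutative ↥L := (h1 L).mpr hcard.le
    refine ⟨hLa, ?_⟩
    intro K hKa hLK
    have h2 := (h1 K).mp hKa
    rw [← hcard] at h2
    exact (Subgroup.eq_of_le_of_card_ge hLK h2).ge

end Cfsg.Agent.helper19
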