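import Mathlib
import Cfsg.Prelude.Def_OddOrderLocal
import Cfsg.Agent.Lib_helper19_Meta3

set_option autoImplicit false
set_option linter.style.haveILetI false

namespace Cfsg.Agent.helper19

open Cfsg
open scoped commutatorElement

universe u v

/-- (E): conjugation on a normal cyclic subgroup of a `p`-group is a power map `≡ 1 mod p`. -/
theorem exists_conj_pow_of_normal_zpowers {G : Type u} [Group G] [Finite G] {p : ℕ} [Fact p.Prime]
    (hG : IsPGroup p G) (c g : G) (hN : (Subgroup.zpowers c).Normal) :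
    ∃ ρ : ℕ, 1 ≤ ρ ∧ p ∣ ρ - 1 ∧ g * c * g⁻¹ = c ^ ρ := by
  have hpp : p.Prime := Fact.out
  have hbab : g * c * g⁻¹ ∈ Subgroup.zpowers c := hN.conj_mem c (Subgroup.mem_zpowers c) g
  rw [← mem_powers_iff_mem_zpowers] at hbab
  obtain ⟨r₀, hr₀⟩ := hbab
  have hr₀ : c ^ r₀ = g * c * g⁻¹ := hr₀
  by_cases ha1 : c = 1
  · refine ⟨1, le_refl 1, by simp, ?_⟩
    subst ha1; simp
  · obtain ⟨m, hm⟩ := (IsPGroup.iff_orderOf.mp hG) c
    have hr1 : 1 ≤ r₀ := by
      rcases Nat.eq_zero_or_pos r₀ with h0 | h0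
      · exfalso
        rw [h0, pow_zero] at hr₀
        apply ha1
        have : g * c * g⁻¹ = 1 := hr₀.symm
        have h2 : c = g⁻¹ * (g * c * g⁻¹) * g := by group
        rw [h2, this]; group
      · exact h0
    refine ⟨r₀, hr1, ?_, hr₀.symm⟩
    obtain ⟨j, hj⟩ := (IsPGroup.iff_orderOf.mp hG) g
    have hbj : g ^ (p ^ j) = 1 := by rw [← hj]; exact pow_orderOf_eq_one g
    have h1 := meta_conj_pow hr₀.symm (p ^ j)
    rw [hbj] at h1
    simp only [one_mul, inv_one, mul_one] at h1
    have hge : 1 ≤ r₀ ^ p ^ j := Nat.one_le_pow _ _ hr1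
    have h2 : c ^ (r₀ ^ p ^ j - 1) = 1 := by
      have : c ^ (r₀ ^ p ^ j - 1) * c = c := by
        rw [← pow_succ, Nat.sub_add_cancel hge]; exact h1.symm
      exact mul_eq_right.mp this
    have h3 : p ^ m ∣ r₀ ^ p ^ j - 1 := by
      rw [← hm]; exact orderOf_dvd_of_pow_eq_one h2
    have hm0 : m ≠ 0 := by
      intro h0
      rw [h0, pow_zero, orderOf_eq_one_iff] at hm
      exact ha1 hm
    have h4 : p ∣ r₀ ^ p ^ j - 1 := dvd_trans (dvd_pow_self p hm0) h3
    have h5 : ((r₀ ^ p ^ j - 1 : ℕ) : ZMod p) = 0 := (ZMod.natCast_eq_zero_iff _ _).mpr h4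
    rw [Nat.cast_sub hge, Nat.cast_pow, ZMod.pow_card_pow] at h5
    rw [← ZMod.natCast_eq_zero_iff, Nat.cast_sub hr1]
    exact h5

/-- (F): power formula. -/
theorem mul_pow_of_conj {G : Type u} [Group G] {c g : G} {ρ : ℕ} (h : g * c * g⁻¹ = c ^ ρ) (q : ℕ) :
    (c * g) ^ q = c ^ (∑ l ∈ Finset.range q, ρ ^ l) * g ^ q := by
  induction q with
  | zero => simp
  | succ q ih =>
    have h1 := meta_conj_pow h q
    have h2 : g ^ q * c = c ^ (ρ ^ q) * g ^ q := by
      rw [← h1]; group
    rw [pow_succ, ih, Finset.sum_range_succ, pow_add, pow_succ g]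
    calc c ^ (∑ l ∈ Finset.range q, ρ ^ l) * g ^ q * (c * g)
        = c ^ (∑ l ∈ Finset.range q, ρ ^ l) * (g ^ q * c) * g := by group
      _ = c ^ (∑ l ∈ Finset.range q, ρ ^ l) * (c ^ (ρ ^ q) * g ^ q) * g := by rw [h2]
      _ = _ := by group

/-- (G): `p`-adic valuation of the geometric sum. -/
theorem pow_dvd_geom_sum_iff {p : ℕ} [Fact p.Prime] (hp : p ≠ 2) {ρ : ℕ} (h1 : 1 ≤ ρ)
    (hpr : p ∣ ρ - 1) (j f : ℕ) :
    p ^ f ∣ ∑ l ∈ Finset.range (p ^ j), ρ ^ l ↔ f ≤ j := by
  have hpp : p.Prime := Fact.out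
  rcases Nat.eq_or_lt_of_le h1 with h | h
  · rw [← h]
    simp only [one_pow, Finset.sum_const, Finset.card_range, smul_eq_mul, mul_one]
    exact Nat.pow_dvd_pow_iff_le_right hpp.one_lt
  · have hodd : Odd p := hpp.odd_of_ne_two hp
    have hnd : ¬ p ∣ ρ := by
      intro hd
      have : p ∣ 1 := by
        have h2 : p ∣ ρ - (ρ - 1) := Nat.dvd_sub hd hpr
        have h3 : ρ - (ρ - 1) = 1 := by omega
        rwa [h3] at h2
      exact hpp.one_lt.ne' (Nat.dvd_one.mp this)
    have hpj : p ^ j ≠ 0 := (pow_pos hpp.pos j).ne'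
    have hLTE := padicValNat.pow_sub_pow (p := p) hodd h hpr hnd hpj
    rw [one_pow, padicValNat.prime_pow] at hLTE
    have hgs := geom_sum_mul_of_one_le h1 (p ^ j)
    set S := ∑ l ∈ Finset.range (p ^ j), ρ ^ l with hS
    have hne1 : ρ ^ p ^ j - 1 ≠ 0 := by
      have : 1 < ρ ^ p ^ j := Nat.one_lt_pow hpj h
      omega
    have hS0 : S ≠ 0 := by
      intro h0; rw [h0, zero_mul] at hgs; exact hne1 hgs.symm
    have hρ0 : ρ - 1 ≠ 0 := by omega
    have hv : padicValNat p S = j := by
      have := padicValNat.mul (p := p) hS0 hρ0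
      rw [hgs, hLTE] at this
      omega
    rw [padicValNat_dvd_iff_le hS0, hv]

/-- (H): `x` commutes with `g^(p^j)` iff `[x,g]^(p^j) = 1`. -/
theorem commute_pow_iff {G : Type u} [Group G] [Finite G] {p : ℕ} [Fact p.Prime] (hp : p ≠ 2)
    (hG : IsPGroup p G) (hmc : Cfsg.IsMetacyclic G) (g x : G) (j : ℕ) :
    Commute x (g ^ p ^ j) ↔ (x * g * x⁻¹ * g⁻¹) ^ p ^ j = 1 := by
  have hpp : p.Prime := Fact.out
  obtain ⟨-, -, -, hnorm⟩ := meta_main hp hG hmc
  set c := x * g * x⁻¹ * g⁻¹ with hc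
  have hcmem : c ∈ commutator G := by
    rw [commutator_def]
    exact Subgroup.commutator_mem_commutator (Subgroup.mem_top x) (Subgroup.mem_top g)
  have hcn : (Subgroup.zpowers c).Normal := hnorm _ (by rw [Subgroup.zpowers_le]; exact hcmem)
  obtain ⟨ρ, hρ1, hρp, hρ⟩ := exists_conj_pow_of_normal_zpowers hG c g hcn
  have h1 : x * g * x⁻¹ = c * g := by rw [hc]; group
  have h2 : x * g ^ p ^ j * x⁻¹ = c ^ (∑ l ∈ Finset.range (p ^ j), ρ ^ l) * g ^ p ^ j := by
    rw [← conj_pow, h1, mul_pow_of_conj hρ]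
  obtain ⟨f, hf⟩ := (IsPGroup.iff_orderOf.mp hG) c
  have h3 : Commute x (g ^ p ^ j) ↔ c ^ (∑ l ∈ Finset.range (p ^ j), ρ ^ l) = 1 := by
    constructor
    · intro hcom
      have : x * g ^ p ^ j * x⁻¹ = g ^ p ^ j := by
        rw [hcom.eq]; group
      rw [h2] at this
      exact mul_eq_right.mp this
    · intro h
      rw [h, one_mul] at h2
      show x * g ^ p ^ j = g ^ p ^ j * x
      exact mul_inv_eq_iff_eq_mul.mp h2
  rw [h3, ← orderOf_dvd_iff_pow_eq_one, ← orderOf_dvd_iff_pow_eq_one, hf,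
    pow_dvd_geom_sum_iff hp hρ1 hρp, Nat.pow_dvd_pow_iff_le_right hpp.one_lt]

theorem ncard_pow_eq_one_le {G : Type u} [Group G] [Finite G] (c : G) (k : ℕ) (hk : 0 < k) :
    {y : G | y ∈ Subgroup.zpowers c ∧ y ^ k = 1}.ncard ≤ k := by
  classical
  haveI : Fintype ↥(Subgroup.zpowers c) := Fintype.ofFinite _
  have h1 := IsCyclic.card_pow_eq_one_le (α := ↥(Subgroup.zpowers c)) hk
  have h2 : {y : G | y ∈ Subgroup.zpowers c ∧ y ^ k = 1} =
      Subtype.val '' ((Finset.univ.filter (fun a : ↥(Subgroup.zpowers c) => a ^ k = 1) :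
        Finset _) : Set ↥(Subgroup.zpowers c)) := by
    ext y
    constructor
    · rintro ⟨hy1, hy2⟩
      refine ⟨⟨y, hy1⟩, ?_, rfl⟩
      simp only [Finset.coe_filter, Finset.mem_univ, true_and, Set.mem_ofPred_eq]
      exact Subtype.ext (by simpa using hy2)
    · rintro ⟨⟨z, hz⟩, hz2, rfl⟩
      simp only [Finset.coe_filter, Finset.mem_univ, true_and, Set.mem_ofPred_eq] at hz2
      refine ⟨hz, ?_⟩
      have := congrArg Subtype.val hz2
      simpa using this
  rw [h2, Set.ncard_image_of_injective _ Subtype.val_injective, Set.ncard_coe_finset]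
  exact h1

/-- (I): `g^(p^j)` is central iff the class of `g` has at most `p^j` elements. -/
theorem pow_mem_center_iff {G : Type u} [Group G] [Finite G] {p : ℕ} [Fact p.Prime] (hp : p ≠ 2)
    (hG : IsPGroup p G) (hmc : Cfsg.IsMetacyclic G) (g : G) (j : ℕ) :
    g ^ p ^ j ∈ Subgroup.center G ↔ (Subgroup.centralizer ({g} : Set G)).index ≤ p ^ j := by
  have hpp : p.Prime := Fact.out
  obtain ⟨-, -, ⟨c, hc⟩, -⟩ := meta_main hp hG hmc
  constructor
  · intro hz
    rw [index_centralizer_eq_card_range, Nat.card_coe_set_eq]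
    refine le_trans (Set.ncard_le_ncard ?_ (Set.toFinite _))
      (ncard_pow_eq_one_le c (p ^ j) (pow_pos hpp.pos j))
    rintro _ ⟨x, rfl⟩
    refine ⟨?_, ?_⟩
    · rw [← hc, commutator_def]
      exact Subgroup.commutator_mem_commutator (Subgroup.mem_top x) (Subgroup.mem_top g)
    · rw [← commute_pow_iff hp hG hmc g x j]
      rw [Subgroup.mem_center_iff] at hz
      exact hz x
  · intro hcls
    rw [Subgroup.mem_center_iff]
    intro x
    show Commute x (g ^ p ^ j)
    rw [commute_pow_iff hp hG hmc g x j]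
    have h1 := orderOf_comm_le_index hp hG hmc g x
    have h2 : x * g * x⁻¹ * g⁻¹ = (g * x * g⁻¹ * x⁻¹)⁻¹ := by group
    rw [h2, inv_pow, inv_eq_one]
    obtain ⟨e, he⟩ := (IsPGroup.iff_orderOf.mp hG) (g * x * g⁻¹ * x⁻¹)
    have h3 : p ^ e ≤ p ^ j := by rw [← he]; exact le_trans h1 hcls
    have h4 : e ≤ j := (Nat.pow_le_pow_iff_right hpp.one_lt).mp h3
    apply orderOf_dvd_iff_pow_eq_one.mp
    rw [he]; exact pow_dvd_pow p h4

/-- (J): the order of `g` modulo the centre is its class size. -/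
theorem orderOf_mk_center {G : Type u} [Group G] [Finite G] {p : ℕ} [Fact p.Prime] (hp : p ≠ 2)
    (hG : IsPGroup p G) (hmc : Cfsg.IsMetacyclic G) (g : G) :
    orderOf ((g : G) : G ⧸ Subgroup.center G) = (Subgroup.centralizer ({g} : Set G)).index := by
  have hpp : p.Prime := Fact.out
  obtain ⟨e, he⟩ := (IsPGroup.iff_orderOf.mp (hG.to_quotient (Subgroup.center G)))
    ((g : G) : G ⧸ Subgroup.center G)
  obtain ⟨e', he'⟩ := hG.index (Subgroup.centralizer ({g} : Set G))
  have key : ∀ j : ℕ, e ≤ j ↔ e' ≤ j := by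
    intro j
    rw [← Nat.pow_dvd_pow_iff_le_right hpp.one_lt, ← he, orderOf_dvd_iff_pow_eq_one,
      ← QuotientGroup.mk_pow, QuotientGroup.eq_one_iff, pow_mem_center_iff hp hG hmc, he',
      Nat.pow_le_pow_iff_right hpp.one_lt]
  have h1 := (key e).mp le_rfl
  have h2 := (key e').mpr le_rfl
  rw [he, he']
  congr 1; omega

/-- (D): `|H||K| ≤ |H ⊔ K||H ⊓ K|`. -/
theorem card_mul_card_le_sup_inf {G : Type u} [Group G] [Finite G] (H K : Subgroup G) :
    Nat.card H * Nat.card K ≤ Nat.card ↥(H ⊔ K) * Nat.card ↥(H ⊓ K) := by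
  have h1 := Subgroup.relIndex_mul_relIndex ⊥ (H ⊓ K) K bot_le inf_le_right
  rw [Subgroup.relIndex_bot_left, Subgroup.relIndex_bot_left, Subgroup.inf_relIndex_right] at h1
  have h2 := Subgroup.relIndex_mul_relIndex ⊥ H (H ⊔ K) bot_le le_sup_left
  rw [Subgroup.relIndex_bot_left, Subgroup.relIndex_bot_left] at h2
  have h3 : H.relIndex K ≤ H.relIndex (H ⊔ K) := by
    apply Subgroup.relIndex_le_of_le_right le_sup_right
    intro h0
    rw [h0, mul_zero] at h2
    exact (Nat.card_pos (α := ↥(H ⊔ K))).ne' h2.symm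
  calc Nat.card H * Nat.card K = Nat.card H * (Nat.card ↥(H ⊓ K) * H.relIndex K) := by rw [h1]
    _ ≤ Nat.card H * (Nat.card ↥(H ⊓ K) * H.relIndex (H ⊔ K)) :=
        Nat.mul_le_mul_left _ (Nat.mul_le_mul_left _ h3)
    _ = Nat.card H * H.relIndex (H ⊔ K) * Nat.card ↥(H ⊓ K) := by ring
    _ = _ := by rw [h2]

theorem centralizer_sup_eq {G : Type u} [Group G] (H K : Subgroup G) :
    Subgroup.centralizer ((H ⊔ K : Subgroup G) : Set G) =
      Subgroup.centralizer (H : Set G) ⊓ Subgroup.centralizer (K : Set G) := by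
  apply le_antisymm
  · exact le_inf (Subgroup.centralizer_le (by exact_mod_cast (le_sup_left : H ≤ H ⊔ K)))
      (Subgroup.centralizer_le (by exact_mod_cast (le_sup_right : K ≤ H ⊔ K)))
  · intro x hx
    rw [Subgroup.mem_inf, Subgroup.mem_centralizer_iff, Subgroup.mem_centralizer_iff] at hx
    have hle : H ⊔ K ≤ Subgroup.centralizer ({x} : Set G) := by
      apply sup_le
      · intro h hh
        rw [Subgroup.mem_centralizer_iff]
        intro w hw
        rw [Set.mem_singleton_iff] at hw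
        subst hw
        exact (hx.1 h hh).symm
      · intro h hh
        rw [Subgroup.mem_centralizer_iff]
        intro w hw
        rw [Set.mem_singleton_iff] at hw
        subst hw
        exact (hx.2 h hh).symm
    rw [Subgroup.mem_centralizer_iff]
    intro y hy
    have := hle hy
    rw [Subgroup.mem_centralizer_iff] at this
    exact (this x (Set.mem_singleton x)).symm

/-- The Chermak–Delgado measure. -/
noncomputable def cdm {G : Type u} [Group G] (H : Subgroup G) : ℕ :=
  Nat.card H * Nat.card ↥(Subgroup.centralizer (H : Set G))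

theorem cdm_mul_le {G : Type u} [Group G] [Finite G] (H K : Subgroup G) :
    cdm H * cdm K ≤ cdm (H ⊔ K) * cdm (H ⊓ K) := by
  unfold cdm
  have h1 := card_mul_card_le_sup_inf H K
  have h2 := card_mul_card_le_sup_inf (Subgroup.centralizer (H : Set G))
    (Subgroup.centralizer (K : Set G))
  rw [← centralizer_sup_eq] at h2
  have h3 : Subgroup.centralizer (H : Set G) ⊔ Subgroup.centralizer (K : Set G) ≤
      Subgroup.centralizer ((H ⊓ K : Subgroup G) : Set G) :=
    sup_le (Subgroup.centralizer_le (by exact_mod_cast (inf_le_left : H ⊓ K ≤ H)))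
      (Subgroup.centralizer_le (by exact_mod_cast (inf_le_right : H ⊓ K ≤ K)))
  have h4 := Subgroup.card_le_of_le h3
  calc Nat.card H * Nat.card ↥(Subgroup.centralizer (H : Set G)) *
        (Nat.card K * Nat.card ↥(Subgroup.centralizer (K : Set G)))
      = (Nat.card H * Nat.card K) * (Nat.card ↥(Subgroup.centralizer (H : Set G)) *
          Nat.card ↥(Subgroup.centralizer (K : Set G))) := by ring
    _ ≤ (Nat.card ↥(H ⊔ K) * Nat.card ↥(H ⊓ K)) *
          (Nat.card ↥(Subgroup.centralizer (H : Set G) ⊔ Subgroup.centralizer (K : Set G)) *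
            Nat.card ↥(Subgroup.centralizer ((H ⊔ K : Subgroup G) : Set G))) :=
        Nat.mul_le_mul h1 h2
    _ ≤ (Nat.card ↥(H ⊔ K) * Nat.card ↥(H ⊓ K)) *
          (Nat.card ↥(Subgroup.centralizer ((H ⊓ K : Subgroup G) : Set G)) *
            Nat.card ↥(Subgroup.centralizer ((H ⊔ K : Subgroup G) : Set G))) :=
        Nat.mul_le_mul_left _ (Nat.mul_le_mul_right _ h4)
    _ = _ := by ring

theorem le_centralizer_centralizer' {G : Type u} [Group G] (R : Subgroup G) :
    R ≤ Subgroup.centralizer (Subgroup.centralizer (R : Set G) : Set G) := by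
  intro x hx
  rw [Subgroup.mem_centralizer_iff]
  intro y hy
  rw [SetLike.mem_coe, Subgroup.mem_centralizer_iff] at hy
  exact (hy x hx).symm

theorem card_center_subgroup {G : Type u} [Group G] (R : Subgroup G) :
    Nat.card ↥(Subgroup.center ↥R) = Nat.card ↥(R ⊓ Subgroup.centralizer (R : Set G)) := by
  have h1 : Subgroup.center ↥R = (R ⊓ Subgroup.centralizer (R : Set G)).subgroupOf R := by
    ext z
    rw [Subgroup.mem_center_iff, Subgroup.mem_subgroupOf, Subgroup.mem_inf,
      Subgroup.mem_centralizer_iff]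
    constructor
    · intro h
      refine ⟨z.2, fun w hw => ?_⟩
      exact congrArg Subtype.val (h ⟨w, hw⟩)
    · rintro ⟨-, h⟩ w
      exact Subtype.ext (h w.1 w.2)
  rw [h1]
  exact Nat.card_congr (Subgroup.subgroupOfEquivOfLe inf_le_left).toEquiv

theorem meta_idx_sq {G : Type u} [Group G] [Finite G] {p : ℕ} [Fact p.Prime] (hp : p ≠ 2)
    (hG : IsPGroup p G) (hmc : Cfsg.IsMetacyclic G) :
    (commutator G).index ^ 2 = Nat.card G * Nat.card ↥(Subgroup.center G) := by
  obtain ⟨hM1, -, -, -⟩ := meta_main hp hG hmc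
  have h1 := Subgroup.card_mul_index (commutator G)
  have h2 := Subgroup.card_mul_index (Subgroup.center G)
  rw [hM1] at h2
  have hpos : 0 < Nat.card ↥(commutator G) ^ 2 := pow_pos Nat.card_pos 2
  apply Nat.eq_of_mul_eq_mul_right hpos
  calc (commutator G).index ^ 2 * Nat.card ↥(commutator G) ^ 2
      = (Nat.card ↥(commutator G) * (commutator G).index) ^ 2 := by ring
    _ = Nat.card G * Nat.card G := by rw [h1]; ring
    _ = Nat.card G * (Nat.card ↥(Subgroup.center G) * Nat.card ↥(commutator G) ^ 2) := by rw [h2]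
    _ = _ := by ring

theorem meta_central_product {G : Type u} [Group G] [Finite G] {p : ℕ} [Fact p.Prime] (hp : p ≠ 2)
    (hG : IsPGroup p G) (hmc : Cfsg.IsMetacyclic G) (R : Subgroup G) :
    Nat.card ↥R * Nat.card ↥(Subgroup.center ↥R) ≤ (commutator G).index ^ 2 ∧
    (¬ IsMulCommutative ↥R →
      Nat.card ↥R * Nat.card ↥(Subgroup.center ↥R) = (commutator G).index ^ 2) := by
  have hidx := Subgroup.card_mul_index (commutator G)
  have hcpos : 0 < Nat.card ↥(commutator G) := Nat.card_pos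
  obtain ⟨hab1, -⟩ := meta_abelian_iff hp hG hmc R
  by_cases hR : IsMulCommutative ↥R
  · have hcen : Subgroup.center ↥R = ⊤ := by
      rw [eq_top_iff]
      intro z _
      rw [Subgroup.mem_center_iff]
      intro w
      exact hR.is_comm.comm w z
    rw [hcen, Subgroup.card_top, ← pow_two]
    exact ⟨Nat.pow_le_pow_left (hab1.mp hR) 2, fun h => absurd hR h⟩
  · obtain ⟨hna, -⟩ := meta_M3 hp hG hmc R
    have h2 := hna hR
    rw [← hidx] at h2
    have h3 : Nat.card R = Nat.card ↥(commutator ↥R) * (commutator G).index := by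
      apply Nat.eq_of_mul_eq_mul_right hcpos
      rw [h2]; ring
    obtain ⟨hM1, -, -, -⟩ := meta_main hp (hG.to_subgroup R) (isMetacyclic_subgroup hmc R)
    have hZ := Subgroup.card_mul_index (Subgroup.center ↥R)
    rw [hM1] at hZ
    have hpos : 0 < Nat.card ↥(commutator ↥R) ^ 2 := pow_pos Nat.card_pos 2
    have heq : Nat.card ↥R * Nat.card ↥(Subgroup.center ↥R) = (commutator G).index ^ 2 := by
      apply Nat.eq_of_mul_eq_mul_right hpos
      calc Nat.card ↥R * Nat.card ↥(Subgroup.center ↥R) * Nat.card ↥(commutator ↥R) ^ 2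
          = Nat.card ↥R * (Nat.card ↥(Subgroup.center ↥R) * Nat.card ↥(commutator ↥R) ^ 2) := by
            ring
        _ = Nat.card ↥R * Nat.card ↥R := by rw [hZ]
        _ = (commutator G).index ^ 2 * Nat.card ↥(commutator ↥R) ^ 2 := by rw [h3]; ring
    exact ⟨heq.le, fun _ => heq⟩

/-- (U1): a nonabelian subgroup contains its centralizer and has full measure. -/
theorem meta_cdm_nonabelian {G : Type u} [Group G] [Finite G] {p : ℕ} [Fact p.Prime] (hp : p ≠ 2)
    (hG : IsPGroup p G) (hmc : Cfsg.IsMetacyclic G) (R : Subgroup G)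
    (hR : ¬ IsMulCommutative ↥R) :
    cdm R = (commutator G).index ^ 2 ∧ Subgroup.centralizer (R : Set G) ≤ R := by
  set C := Subgroup.centralizer (R : Set G) with hC
  set L := R ⊔ C with hL
  have hLna : ¬ IsMulCommutative ↥L := fun h => hR (isMulCommutative_of_le le_sup_left h)
  have h1 := (meta_central_product hp hG hmc L).2 hLna
  have h2 := (meta_central_product hp hG hmc R).2 hR
  rw [card_center_subgroup] at h1 h2
  have h3 : R ⊓ C ≤ L ⊓ Subgroup.centralizer (L : Set G) := by
    apply le_inf (le_trans inf_le_left le_sup_left)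
    rw [hL, centralizer_sup_eq]
    exact le_inf inf_le_right (le_trans inf_le_left (le_centralizer_centralizer' R))
  have h4 := Subgroup.card_le_of_le h3
  have h5 := card_mul_card_le_sup_inf R C
  have hpos : 0 < Nat.card ↥(R ⊓ C) := Nat.card_pos
  -- card R ≥ card L
  have h6 : Nat.card L * Nat.card ↥(R ⊓ C) ≤ Nat.card R * Nat.card ↥(R ⊓ C) := by
    calc Nat.card L * Nat.card ↥(R ⊓ C)
        ≤ Nat.card L * Nat.card ↥(L ⊓ Subgroup.centralizer (L : Set G)) :=
          Nat.mul_le_mul_left _ h4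
      _ = Nat.card R * Nat.card ↥(R ⊓ C) := by rw [h1, h2]
  have h7 : Nat.card L ≤ Nat.card R := Nat.le_of_mul_le_mul_right h6 hpos
  have h8 : R = L := Subgroup.eq_of_le_of_card_ge le_sup_left h7
  have hCR : C ≤ R := by rw [h8]; exact le_sup_right
  refine ⟨?_, hCR⟩
  unfold cdm
  rw [← h2, ← hC, inf_eq_right.mpr hCR]

/-- (U2): the measure is bounded by `|G : G'|^2`. -/
theorem meta_cdm_le {G : Type u} [Group G] [Finite G] {p : ℕ} [Fact p.Prime] (hp : p ≠ 2)
    (hG : IsPGroup p G) (hmc : Cfsg.IsMetacyclic G) (R : Subgroup G) :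
    cdm R ≤ (commutator G).index ^ 2 := by
  by_cases hR : IsMulCommutative ↥R
  · set C := Subgroup.centralizer (R : Set G) with hC
    have hRC : R ≤ C := by
      intro x hx
      rw [hC, Subgroup.mem_centralizer_iff]
      intro y hy
      exact congrArg Subtype.val (hR.is_comm.comm ⟨y, hy⟩ ⟨x, hx⟩)
    by_cases hCa : IsMulCommutative ↥C
    · have h1 := (meta_abelian_iff hp hG hmc C).1.mp hCa
      unfold cdm
      rw [← hC, pow_two]
      exact Nat.mul_le_mul (le_trans (Subgroup.card_le_of_le hRC) h1) h1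
    · have h1 := (meta_cdm_nonabelian hp hG hmc C hCa).1
      unfold cdm at h1 ⊢
      rw [← h1, ← hC, mul_comm (Nat.card C)]
      exact Nat.mul_le_mul_right _ (Subgroup.card_le_of_le (le_centralizer_centralizer' R))
  · exact (meta_cdm_nonabelian hp hG hmc R hR).1.le

theorem centralizer_sup_center {G : Type u} [Group G] (R : Subgroup G) :
    Subgroup.centralizer ((R ⊔ Subgroup.center G : Subgroup G) : Set G) =
      Subgroup.centralizer (R : Set G) := by
  rw [centralizer_sup_eq]
  have : Subgroup.centralizer ((Subgroup.center G : Subgroup G) : Set G) = ⊤ := by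
    rw [Subgroup.centralizer_eq_top_iff_subset]
  rw [this, inf_top_eq]

/-- (U4). -/
theorem meta_center_le_of_cdm {G : Type u} [Group G] [Finite G] {p : ℕ} [Fact p.Prime]
    (hp : p ≠ 2) (hG : IsPGroup p G) (hmc : Cfsg.IsMetacyclic G) (R : Subgroup G)
    (h : cdm R = (commutator G).index ^ 2) : Subgroup.center G ≤ R := by
  have h1 := meta_cdm_le hp hG hmc (R ⊔ Subgroup.center G)
  rw [← h] at h1
  unfold cdm at h1
  rw [centralizer_sup_center] at h1
  have hpos : 0 < Nat.card ↥(Subgroup.centralizer (R : Set G)) := Nat.card_pos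
  have h2 := Nat.le_of_mul_le_mul_right h1 hpos
  have h3 : R = R ⊔ Subgroup.center G := Subgroup.eq_of_le_of_card_ge le_sup_left h2
  rw [h3]; exact le_sup_right

theorem centralizer_zpowers_eq {G : Type u} [Group G] (g : G) :
    Subgroup.centralizer ((Subgroup.zpowers g : Subgroup G) : Set G) =
      Subgroup.centralizer ({g} : Set G) := by
  ext x
  rw [Subgroup.mem_centralizer_iff, Subgroup.mem_centralizer_iff]
  constructor
  · intro h w hw
    rw [Set.mem_singleton_iff] at hw
    subst hw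
    exact h w (Subgroup.mem_zpowers w)
  · intro h w hw
    obtain ⟨k, rfl⟩ := hw
    have h1 : Commute g x := h g (Set.mem_singleton g)
    exact (h1.zpow_left k).eq

theorem meta_cdm_cyclic {G : Type u} [Group G] [Finite G] {p : ℕ} [Fact p.Prime] (hp : p ≠ 2)
    (hG : IsPGroup p G) (hmc : Cfsg.IsMetacyclic G) (g : G) :
    cdm (Subgroup.zpowers g ⊔ Subgroup.center G) = (commutator G).index ^ 2 := by
  set Z := Subgroup.center G with hZ
  set π := QuotientGroup.mk' Z with hπ
  have hπs : Function.Surjective π := QuotientGroup.mk'_surjective Z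
  set H := Subgroup.zpowers g ⊔ Z with hH
  have hHc : H = (Subgroup.zpowers (π g)).comap π := by
    rw [← MonoidHom.map_zpowers, Subgroup.comap_map_eq, QuotientGroup.ker_mk']
  have h1 : H.index = (Subgroup.zpowers (π g)).index := by
    rw [hHc, Subgroup.index_comap_of_surjective _ hπs]
  have h2 : Nat.card ↥(Subgroup.zpowers (π g)) =
      (Subgroup.centralizer ({g} : Set G)).index := by
    rw [Nat.card_zpowers]
    exact orderOf_mk_center hp hG hmc g
  have h3 := Subgroup.card_mul_index (Subgroup.zpowers (π g))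
  have h4 := Subgroup.card_mul_index H
  have h5 := Subgroup.card_mul_index Z
  have h6 := Subgroup.card_mul_index (Subgroup.centralizer ({g} : Set G))
  rw [h2, ← Subgroup.index_eq_card, ← h1] at h3
  have hipos : 0 < H.index := Nat.pos_of_ne_zero Subgroup.index_ne_zero_of_finite
  have h7 : Nat.card H = Nat.card Z * (Subgroup.centralizer ({g} : Set G)).index := by
    apply Nat.eq_of_mul_eq_mul_right hipos
    rw [h4, mul_assoc, h3, h5]
  unfold cdm
  rw [centralizer_sup_center, centralizer_zpowers_eq, h7, meta_idx_sq hp hG hmc]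
  calc Nat.card Z * (Subgroup.centralizer ({g} : Set G)).index *
        Nat.card ↥(Subgroup.centralizer ({g} : Set G))
      = Nat.card Z * (Nat.card ↥(Subgroup.centralizer ({g} : Set G)) *
          (Subgroup.centralizer ({g} : Set G)).index) := by ring
    _ = _ := by rw [h6, mul_comm]

/-- (U3). -/
theorem meta_cdm_of_center_le {G : Type u} [Group G] [Finite G] {p : ℕ} [Fact p.Prime]
    (hp : p ≠ 2) (hG : IsPGroup p G) (hmc : Cfsg.IsMetacyclic G) (R : Subgroup G)
    (hZ : Subgroup.center G ≤ R) : cdm R = (commutator G).index ^ 2 := by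
  set I := (commutator G).index ^ 2 with hI
  have hIpos : 0 < I := by
    rw [hI]; exact pow_pos (Nat.pos_of_ne_zero Subgroup.index_ne_zero_of_finite) 2
  set s : Set (Subgroup G) := {H | H ≤ R ∧ cdm H = I} with hs
  have hZs : Subgroup.center G ∈ s := by
    refine ⟨hZ, ?_⟩
    have : Subgroup.centralizer ((Subgroup.center G : Subgroup G) : Set G) = ⊤ := by
      rw [Subgroup.centralizer_eq_top_iff_subset]
    unfold cdm
    rw [this, Subgroup.card_top, hI, meta_idx_sq hp hG hmc, mul_comm]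
  obtain ⟨H, hZH, hmax⟩ := Set.Finite.exists_le_maximal (Set.toFinite s) hZs
  obtain ⟨hHR, hHI⟩ := hmax.prop
  by_contra hne
  have hHne : H ≠ R := by
    intro h; rw [h] at hHI; exact hne hHI
  obtain ⟨g, hgR, hgH⟩ := SetLike.exists_of_lt (lt_of_le_of_ne hHR hHne)
  set H' := H ⊔ (Subgroup.zpowers g ⊔ Subgroup.center G) with hH'
  have hH'R : H' ≤ R :=
    sup_le hHR (sup_le (by rw [Subgroup.zpowers_le]; exact hgR) hZ)
  have h1 := cdm_mul_le H (Subgroup.zpowers g ⊔ Subgroup.center G)
  rw [hHI, meta_cdm_cyclic hp hG hmc g, ← hI, ← hH'] at h1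
  have h2 := meta_cdm_le hp hG hmc (H ⊓ (Subgroup.zpowers g ⊔ Subgroup.center G))
  rw [← hI] at h2
  have h3 : I * I ≤ cdm H' * I := le_trans h1 (Nat.mul_le_mul_left _ h2)
  have h4 : I ≤ cdm H' := Nat.le_of_mul_le_mul_right h3 hIpos
  have h5 := meta_cdm_le hp hG hmc H'
  rw [← hI] at h5
  have hH's : H' ∈ s := ⟨hH'R, le_antisymm h5 h4⟩
  have h6 : H' ≤ H := hmax.le_of_ge hH's le_sup_left
  apply hgH
  apply h6
  exact (le_sup_right : Subgroup.zpowers g ⊔ Subgroup.center G ≤ H')
    ((le_sup_left : Subgroup.zpowers g ≤ _) (Subgroup.mem_zpowers g))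

end Cfsg.Agent.helper19
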