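import Mathlib

set_option autoImplicit false

/-! Class-two calculus for a subgroup `D` with a central subgroup `Z` of prime order containing
all commutators and `p`-th powers. -/

namespace Cfsg.Agent.helper15.ESRep

open scoped commutatorElement

variable {G : Type*} [Group G]

/-- class-two data -/
structure C2 (p : ℕ) (D Z : Subgroup G) : Prop where
  hZD : Z ≤ D
  hZcard : Nat.card ↥Z = p
  hcent : ∀ d ∈ D, ∀ u ∈ Z, d * u = u * d
  hcomm : ∀ a ∈ D, ∀ b ∈ D, ⁅a, b⁆ ∈ Z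
  hpow : ∀ a ∈ D, a ^ p ∈ Z

/-- the centre of `D`, as a subgroup of the ambient group -/
def Zc (D : Subgroup G) : Subgroup G := D ⊓ Subgroup.centralizer (D : Set G)

theorem mem_Zc {D : Subgroup G} {u : G} : u ∈ Zc D ↔ u ∈ D ∧ ∀ d ∈ D, d * u = u * d := by
  unfold Zc
  rw [Subgroup.mem_inf, Subgroup.mem_centralizer_iff]
  rfl

variable {p : ℕ} {D Z : Subgroup G}

theorem C2.mono (h : C2 p D Z) {D' : Subgroup G} (hle : D' ≤ D) (hZ : Z ≤ D') : C2 p D' Z :=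
  ⟨hZ, h.hZcard, fun d hd u hu => h.hcent d (hle hd) u hu,
    fun a ha b hb => h.hcomm a (hle ha) b (hle hb), fun a ha => h.hpow a (hle ha)⟩

theorem C2.Z_le_Zc (h : C2 p D Z) : Z ≤ Zc D := fun u hu =>
  mem_Zc.2 ⟨h.hZD hu, fun d hd => h.hcent d hd u hu⟩

theorem C2.comm_mem_D (h : C2 p D Z) {a b : G} (ha : a ∈ D) (hb : b ∈ D) : ⁅a, b⁆ ∈ D :=
  h.hZD (h.hcomm a ha b hb)

theorem C2.comm_mul_left (h : C2 p D Z) {a b x : G} (ha : a ∈ D) (hb : b ∈ D) (hx : x ∈ D) :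
    ⁅a * b, x⁆ = ⁅a, x⁆ * ⁅b, x⁆ := by
  have h1 : b * x * b⁻¹ = ⁅b, x⁆ * x := by rw [commutatorElement_def]; group
  have h2 : a * ⁅b, x⁆ = ⁅b, x⁆ * a := h.hcent a ha _ (h.hcomm b hb x hx)
  have h3 : ⁅a, x⁆ * ⁅b, x⁆ = ⁅b, x⁆ * ⁅a, x⁆ := h.hcent _ (h.comm_mem_D ha hx) _ (h.hcomm b hb x hx)
  calc ⁅a * b, x⁆ = a * (b * x * b⁻¹) * a⁻¹ * x⁻¹ := by rw [commutatorElement_def]; group
    _ = a * (⁅b, x⁆ * x) * a⁻¹ * x⁻¹ := by rw [h1]
    _ = (a * ⁅b, x⁆) * x * a⁻¹ * x⁻¹ := by group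
    _ = (⁅b, x⁆ * a) * x * a⁻¹ * x⁻¹ := by rw [h2]
    _ = ⁅b, x⁆ * (a * x * a⁻¹ * x⁻¹) := by group
    _ = ⁅b, x⁆ * ⁅a, x⁆ := by rw [← commutatorElement_def]
    _ = ⁅a, x⁆ * ⁅b, x⁆ := h3.symm

theorem C2.comm_mul_right (h : C2 p D Z) {a b x : G} (ha : a ∈ D) (hb : b ∈ D) (hx : x ∈ D) :
    ⁅x, a * b⁆ = ⁅x, a⁆ * ⁅x, b⁆ := by
  have h3 : ⁅x, b⁆ * ⁅x, a⁆ = ⁅x, a⁆ * ⁅x, b⁆ := h.hcent _ (h.comm_mem_D hx hb) _ (h.hcomm x hx a ha)
  rw [← commutatorElement_inv (a * b) x, h.comm_mul_left ha hb hx, mul_inv_rev,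
    commutatorElement_inv, commutatorElement_inv, h3]

theorem C2.comm_pow_left (h : C2 p D Z) {a x : G} (ha : a ∈ D) (hx : x ∈ D) (j : ℕ) :
    ⁅a ^ j, x⁆ = ⁅a, x⁆ ^ j := by
  induction j with
  | zero => simp
  | succ j ih =>
    rw [pow_succ, h.comm_mul_left (D.pow_mem ha j) ha hx, ih, pow_succ]

theorem C2.comm_pow_right (h : C2 p D Z) {a x : G} (ha : a ∈ D) (hx : x ∈ D) (j : ℕ) :
    ⁅x, a ^ j⁆ = ⁅x, a⁆ ^ j := by
  induction j with
  | zero => simp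
  | succ j ih =>
    rw [pow_succ, h.comm_mul_right (D.pow_mem ha j) ha hx, ih, pow_succ]

theorem C2.Z_pow (h : C2 p D Z) {u : G} (hu : u ∈ Z) : u ^ p = 1 := by
  have h1 : (⟨u, hu⟩ : ↥Z) ^ Nat.card ↥Z = 1 := pow_card_eq_one'
  rw [h.hZcard] at h1
  have := congrArg Subtype.val h1
  simpa using this

theorem C2.Z_gen [hp : Fact p.Prime] [Finite G] (h : C2 p D Z) {u v : G} (hu : u ∈ Z) (hu1 : u ≠ 1)
    (hv : v ∈ Z) : ∃ j : ℕ, u ^ j = v := by
  have h1 : Subgroup.zpowers (⟨u, hu⟩ : ↥Z) = ⊤ :=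
    zpowers_eq_top_of_prime_card h.hZcard (fun h' => hu1 (congrArg Subtype.val h'))
  have h2 : (⟨v, hv⟩ : ↥Z) ∈ Subgroup.zpowers (⟨u, hu⟩ : ↥Z) := h1 ▸ Subgroup.mem_top _
  rw [← mem_powers_iff_mem_zpowers] at h2
  obtain ⟨j, hj⟩ := h2
  refine ⟨j, ?_⟩
  have := congrArg Subtype.val hj
  simpa using this

theorem C2.exists_ne_one [hp : Fact p.Prime] (h : C2 p D Z) : ∃ u ∈ Z, u ≠ 1 := by
  haveI : Finite ↥Z := Nat.finite_of_card_ne_zero (h.hZcard ▸ hp.out.ne_zero)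
  haveI : Nontrivial ↥Z := Finite.one_lt_card_iff_nontrivial.1 (h.hZcard ▸ hp.out.one_lt)
  obtain ⟨u, hu⟩ := exists_ne (1 : ↥Z)
  exact ⟨u, u.2, fun h' => hu (Subtype.ext h')⟩

theorem comm_ne_one_symm {x y : G} (h : ⁅x, y⁆ ≠ 1) : ⁅y, x⁆ ≠ 1 := by
  intro h'
  apply h
  rw [← commutatorElement_inv, h', inv_one]

/-- the commutator homomorphism `g ↦ [g, x]` on a subgroup `H ≤ D`. -/
def C2.commHom (h : C2 p D Z) {H : Subgroup G} (hHD : H ≤ D) {x : G} (hx : x ∈ D) : ↥H →* ↥Z where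
  toFun g := ⟨⁅(g : G), x⁆, h.hcomm g (hHD g.2) x hx⟩
  map_one' := by
    apply Subtype.ext
    simp
  map_mul' a b := by
    apply Subtype.ext
    simpa using h.comm_mul_left (hHD a.2) (hHD b.2) hx

theorem C2.ker_commHom (h : C2 p D Z) {H : Subgroup G} (hHD : H ≤ D) {x : G} (hx : x ∈ D) :
    (h.commHom hHD hx).ker = (H ⊓ Subgroup.centralizer ({x} : Set G)).subgroupOf H := by
  ext g
  rw [MonoidHom.mem_ker, Subgroup.mem_subgroupOf, Subgroup.mem_inf,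
    Subgroup.mem_centralizer_singleton_iff]
  constructor
  · intro hg
    have h1 : ⁅(g : G), x⁆ = 1 := congrArg Subtype.val hg
    exact ⟨g.2, commutatorElement_eq_one_iff_mul_comm.1 h1⟩
  · rintro ⟨-, hg⟩
    apply Subtype.ext
    exact commutatorElement_eq_one_iff_mul_comm.2 hg

theorem C2.card_eq_mul_range [Finite G] (h : C2 p D Z) {H : Subgroup G} (hHD : H ≤ D) {x : G}
    (hx : x ∈ D) :
    Nat.card ↥H = Nat.card ↥(H ⊓ Subgroup.centralizer ({x} : Set G)) *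
      Nat.card ↥(h.commHom hHD hx).range := by
  have h1 := Subgroup.card_mul_index (h.commHom hHD hx).ker
  rw [Subgroup.index_ker, h.ker_commHom hHD hx] at h1
  rw [← h1]
  congr 1
  exact Nat.card_congr (Subgroup.subgroupOfEquivOfLe
    (inf_le_left : H ⊓ Subgroup.centralizer ({x} : Set G) ≤ H)).toEquiv

theorem C2.card_le_mul [Finite G] [hp : Fact p.Prime] (h : C2 p D Z) {H : Subgroup G}
    (hHD : H ≤ D) {x : G} (hx : x ∈ D) :
    Nat.card ↥H ≤ p * Nat.card ↥(H ⊓ Subgroup.centralizer ({x} : Set G)) := by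
  rw [h.card_eq_mul_range hHD hx, mul_comm]
  apply Nat.mul_le_mul_right
  have := Subgroup.card_le_card_group (h.commHom hHD hx).range
  rwa [h.hZcard] at this

theorem C2.card_eq_mul [Finite G] [hp : Fact p.Prime] (h : C2 p D Z) {H : Subgroup G}
    (hHD : H ≤ D) {x : G} (hx : x ∈ D) (hex : ∃ g ∈ H, ⁅g, x⁆ ≠ 1) :
    Nat.card ↥H = p * Nat.card ↥(H ⊓ Subgroup.centralizer ({x} : Set G)) := by
  rw [h.card_eq_mul_range hHD hx, mul_comm]
  congr 1
  have hd : Nat.card ↥(h.commHom hHD hx).range ∣ p := by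
    have := Subgroup.card_subgroup_dvd_card (h.commHom hHD hx).range
    rwa [h.hZcard] at this
  rcases (Nat.dvd_prime hp.out).1 hd with h1 | h1
  · exfalso
    obtain ⟨g, hg, hne⟩ := hex
    have h2 := Subgroup.eq_bot_of_card_eq _ h1
    have h3 : h.commHom hHD hx ⟨g, hg⟩ ∈ (h.commHom hHD hx).range := ⟨_, rfl⟩
    rw [h2, Subgroup.mem_bot] at h3
    exact hne (congrArg Subtype.val h3)
  · exact h1

/-- decomposition modulo the centralizer of `x` -/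
theorem C2.exists_pow_mul_mem [hp : Fact p.Prime] [Finite G] (h : C2 p D Z) {x y g : G} (hx : x ∈ D)
    (hy : y ∈ D) (hyx : ⁅y, x⁆ ≠ 1) (hg : g ∈ D) :
    ∃ j : ℕ, y ^ j * g ∈ Subgroup.centralizer ({x} : Set G) := by
  obtain ⟨j, hj⟩ := h.Z_gen (h.hcomm y hy x hx) hyx (Z.inv_mem (h.hcomm g hg x hx))
  refine ⟨j, ?_⟩
  rw [Subgroup.mem_centralizer_singleton_iff, ← commutatorElement_eq_one_iff_mul_comm,
    h.comm_mul_left (D.pow_mem hy j) hg hx, h.comm_pow_left hy hx, hj, inv_mul_cancel]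

theorem C2.card_Zc_le [hp : Fact p.Prime] [Finite G] (h : C2 p D Z) {x y : G} (hx : x ∈ D)
    (hy : y ∈ D) (hxy : ⁅x, y⁆ ≠ 1) :
    Nat.card ↥(Zc (D ⊓ Subgroup.centralizer ({x} : Set G))) ≤ p * Nat.card ↥(Zc D) := by
  set D₁ := D ⊓ Subgroup.centralizer ({x} : Set G) with hD₁
  have hle : Zc D₁ ≤ D := fun u hu => ((mem_Zc.1 hu).1 : u ∈ D₁).1
  have h1 := h.card_le_mul hle hy
  refine h1.trans (Nat.mul_le_mul_left _ (Subgroup.card_le_of_le ?_))
  intro u hu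
  have hu1 := (Subgroup.mem_inf.1 hu).1
  have hu2 := Subgroup.mem_centralizer_singleton_iff.1 (Subgroup.mem_inf.1 hu).2
  obtain ⟨huD₁, hucent⟩ := mem_Zc.1 hu1
  refine mem_Zc.2 ⟨huD₁.1, ?_⟩
  intro g hg
  obtain ⟨j, hj⟩ := h.exists_pow_mul_mem hx hy (comm_ne_one_symm hxy) hg
  have hg₁ : y ^ j * g ∈ D₁ := Subgroup.mem_inf.2 ⟨D.mul_mem (D.pow_mem hy j) hg, hj⟩
  have h2 := hucent _ hg₁
  have h3 : y ^ j * u = u * y ^ j := by
    have : Commute u y := hu2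
    exact (this.pow_right j).eq.symm
  have h4 : g = (y ^ j)⁻¹ * (y ^ j * g) := by group
  rw [h4]
  calc (y ^ j)⁻¹ * (y ^ j * g) * u = (y ^ j)⁻¹ * ((y ^ j * g) * u) := by group
    _ = (y ^ j)⁻¹ * (u * (y ^ j * g)) := by rw [h2]
    _ = (y ^ j)⁻¹ * u * (y ^ j * g) := by group
    _ = u * (y ^ j)⁻¹ * (y ^ j * g) := by
      congr 1
      have : (y ^ j)⁻¹ * u = u * (y ^ j)⁻¹ := by
        rw [inv_mul_eq_iff_eq_mul, ← mul_assoc, h3, mul_assoc, mul_inv_cancel, mul_one]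
      exact this
    _ = u * ((y ^ j)⁻¹ * (y ^ j * g)) := by group

/-- power of a product in class two -/
theorem pow_mul_comm_aux {a b c : G} (hca : Commute c a) (hcb : Commute c b)
    (hba : b * a = c * a * b) (n : ℕ) : b ^ n * a = c ^ n * a * b ^ n := by
  induction n with
  | zero => simp
  | succ n ih =>
    calc b ^ (n + 1) * a = b ^ n * (b * a) := by rw [pow_succ]; group
      _ = b ^ n * (c * a * b) := by rw [hba]
      _ = c * (b ^ n * a) * b := by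
        have : b ^ n * c = c * b ^ n := ((hcb.pow_right n).eq).symm
        calc b ^ n * (c * a * b) = (b ^ n * c) * a * b := by group
          _ = (c * b ^ n) * a * b := by rw [this]
          _ = c * (b ^ n * a) * b := by group
      _ = c * (c ^ n * a * b ^ n) * b := by rw [ih]
      _ = c ^ (n + 1) * a * b ^ (n + 1) := by rw [pow_succ' c, pow_succ b]; group

theorem mul_pow_class_two {a b c : G} (hca : Commute c a) (hcb : Commute c b)
    (hba : b * a = c * a * b) (n : ℕ) : (a * b) ^ n = a ^ n * b ^ n * c ^ (n.choose 2) := by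
  induction n with
  | zero => simp
  | succ n ih =>
    have h1 := pow_mul_comm_aux hca hcb hba n
    have h2 : (n + 1).choose 2 = n + n.choose 2 := by
      rw [Nat.choose_succ_succ, Nat.choose_one_right]
    have hcn : Commute (c ^ n.choose 2) a := hca.pow_left _
    have hcn' : Commute (c ^ n) (b ^ n) := (hcb.pow_left n).pow_right n
    calc (a * b) ^ (n + 1) = (a * b) ^ n * (a * b) := pow_succ _ _
      _ = a ^ n * b ^ n * c ^ (n.choose 2) * (a * b) := by rw [ih]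
      _ = a ^ n * b ^ n * (c ^ (n.choose 2) * a) * b := by group
      _ = a ^ n * b ^ n * (a * c ^ (n.choose 2)) * b := by rw [hcn.eq]
      _ = a ^ n * (b ^ n * a) * c ^ (n.choose 2) * b := by group
      _ = a ^ n * (c ^ n * a * b ^ n) * c ^ (n.choose 2) * b := by rw [h1]
      _ = a ^ n * (c ^ n * a) * (b ^ n * c ^ (n.choose 2)) * b := by group
      _ = a ^ n * (a * c ^ n) * (c ^ (n.choose 2) * b ^ n) * b := by
        rw [(hca.pow_left n).eq, ((hcb.pow_left (n.choose 2)).pow_right n).eq]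
      _ = a ^ (n + 1) * (c ^ n * c ^ (n.choose 2)) * b ^ (n + 1) := by
        rw [pow_succ a, pow_succ b]; group
      _ = a ^ (n + 1) * (c ^ (n + 1).choose 2) * b ^ (n + 1) := by rw [h2, pow_add c]
      _ = a ^ (n + 1) * b ^ (n + 1) * c ^ ((n + 1).choose 2) := by
        have : Commute (c ^ (n + 1).choose 2) (b ^ (n + 1)) := (hcb.pow_left _).pow_right _
        rw [mul_assoc, this.eq, ← mul_assoc]

theorem C2.mul_pow (h : C2 p D Z) {a b : G} (ha : a ∈ D) (hb : b ∈ D) (n : ℕ) :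
    (a * b) ^ n = a ^ n * b ^ n * ⁅b, a⁆ ^ (n.choose 2) := by
  apply mul_pow_class_two
  · exact (h.hcent a ha _ (h.hcomm b hb a ha)).symm
  · exact (h.hcent b hb _ (h.hcomm b hb a ha)).symm
  · rw [commutatorElement_def]; group

/-- existence of a good pair for odd `p` -/
theorem C2.exists_good_of_odd [hp : Fact p.Prime] [Finite G] (h : C2 p D Z) (hp2 : p ≠ 2) {x y : G}
    (hx : x ∈ D) (hy : y ∈ D) (hxy : ⁅x, y⁆ ≠ 1) :
    ∃ x' ∈ D, ∃ y' ∈ D, x' ^ p = 1 ∧ ⁅x', y'⁆ ≠ 1 := by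
  by_cases hx1 : x ^ p = 1
  · exact ⟨x, hx, y, hy, hx1, hxy⟩
  by_cases hy1 : y ^ p = 1
  · exact ⟨y, hy, x, hx, hy1, comm_ne_one_symm hxy⟩
  obtain ⟨j, hj⟩ := h.Z_gen (h.hpow y hy) hy1 (Z.inv_mem (h.hpow x hx))
  refine ⟨x * y ^ j, D.mul_mem hx (D.pow_mem hy j), y, hy, ?_, ?_⟩
  · rw [h.mul_pow hx (D.pow_mem hy j)]
    have h3 : p ∣ p.choose 2 := by
      apply Nat.Prime.dvd_choose_self hp.out (by norm_num)
      have := hp.out.two_le
      omega
    obtain ⟨m, hm⟩ := h3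
    have h4 : ⁅y ^ j, x⁆ ^ p.choose 2 = 1 := by
      rw [hm, pow_mul, h.Z_pow (h.hcomm _ (D.pow_mem hy j) x hx), one_pow]
    rw [h4, mul_one, ← pow_mul, mul_comm j p, pow_mul, hj, mul_inv_cancel]
  · rw [h.comm_mul_left hx (D.pow_mem hy j) hy, h.comm_pow_left hy hy]
    have : ⁅y, y⁆ = 1 := commutatorElement_self y
    rw [this, one_pow, mul_one]
    exact hxy

/-- for `p = 2` without good pairs, the centralizer of a noncommuting pair is abelian -/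
theorem C2.comm_of_no_good [Finite G] (h : C2 2 D Z)
    (hno : ∀ x ∈ D, ∀ y ∈ D, x ^ 2 = 1 → ⁅x, y⁆ = 1) {x y u v : G} (hx : x ∈ D) (hy : y ∈ D)
    (hxy : ⁅x, y⁆ ≠ 1) (hu : u ∈ D) (hv : v ∈ D) (hux : u * x = x * u) (huy : u * y = y * u) :
    ⁅u, v⁆ = 1 := by
  haveI : Fact (Nat.Prime 2) := ⟨Nat.prime_two⟩
  by_contra huv
  have hx2 : x ^ 2 ≠ 1 := fun h' => hxy (hno x hx y hy h')
  have hu2 : u ^ 2 ≠ 1 := fun h' => huv (hno u hu v hv h')
  -- the two squares agree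
  have heq : u ^ 2 = x ^ 2 := by
    obtain ⟨j, hj⟩ := h.Z_gen (h.hpow x hx) hx2 (h.hpow u hu)
    rcases Nat.even_or_odd j with ⟨m, hm⟩ | ⟨m, hm⟩
    · exfalso
      apply hu2
      rw [← hj, hm, ← two_mul, pow_mul, h.Z_pow (h.hpow x hx), one_pow]
    · rw [← hj, hm, pow_succ, pow_mul, h.Z_pow (h.hpow x hx), one_pow, one_mul]
  have hux' : ⁅u, x⁆ = 1 := commutatorElement_eq_one_iff_mul_comm.2 hux
  have huy' : ⁅u, y⁆ = 1 := commutatorElement_eq_one_iff_mul_comm.2 huy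
  have h1 : (x * u) ^ 2 = 1 := by
    rw [h.mul_pow hx hu, hux', one_pow, mul_one, heq, ← pow_two]
    exact h.Z_pow (h.hpow x hx)
  have h2 := hno (x * u) (D.mul_mem hx hu) y hy h1
  rw [h.comm_mul_left hx hu hy, huy', mul_one] at h2
  exact hxy h2

/-- for `p = 2` without good pairs, `D` has index at most four over its centre -/
theorem C2.card_le_of_no_good [Finite G] (h : C2 2 D Z)
    (hno : ∀ x ∈ D, ∀ y ∈ D, x ^ 2 = 1 → ⁅x, y⁆ = 1) {x y : G} (hx : x ∈ D) (hy : y ∈ D)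
    (hxy : ⁅x, y⁆ ≠ 1) : Nat.card ↥D ≤ 4 * Nat.card ↥(Zc D) := by
  haveI : Fact (Nat.Prime 2) := ⟨Nat.prime_two⟩
  set D₁ := D ⊓ Subgroup.centralizer ({x} : Set G) with hD₁
  set C := D₁ ⊓ Subgroup.centralizer ({y} : Set G) with hC
  have h1 : Nat.card ↥D ≤ 2 * Nat.card ↥D₁ := h.card_le_mul le_rfl hx
  have h2 : Nat.card ↥D₁ ≤ 2 * Nat.card ↥C := h.card_le_mul inf_le_left hy
  have h3 : C ≤ Zc D := by
    intro u hu
    have huD₁ : u ∈ D₁ := (Subgroup.mem_inf.1 hu).1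
    have huD : u ∈ D := (Subgroup.mem_inf.1 huD₁).1
    have hux : u * x = x * u := Subgroup.mem_centralizer_singleton_iff.1 (Subgroup.mem_inf.1 huD₁).2
    have huy : u * y = y * u := Subgroup.mem_centralizer_singleton_iff.1 (Subgroup.mem_inf.1 hu).2
    refine mem_Zc.2 ⟨huD, ?_⟩
    intro g hg
    have := h.comm_of_no_good hno hx hy hxy huD hg hux huy
    exact (commutatorElement_eq_one_iff_mul_comm.1 this).symm
  have h4 := Subgroup.card_le_of_le h3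
  omega

end Cfsg.Agent.helper15.ESRep
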