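import Mathlib
import Cfsg.Prelude.Def_OddOrderLocal
import Cfsg.Agent.Lib_helper19_Meta4

set_option autoImplicit false
set_option linter.style.haveILetI false

namespace Cfsg.Agent.helper19

open Cfsg
open scoped commutatorElement

universe u v

/-- (G'): `v_p (1 + ρ + ... + ρ^(k-1)) = v_p k`. -/
theorem pow_dvd_geom_sum_iff' {p : ℕ} [Fact p.Prime] (hp : p ≠ 2) {ρ : ℕ} (h1 : 1 ≤ ρ)
    (hpr : p ∣ ρ - 1) (k f : ℕ) :
    p ^ f ∣ ∑ l ∈ Finset.range k, ρ ^ l ↔ p ^ f ∣ k := by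
  have hpp : p.Prime := Fact.out
  rcases Nat.eq_or_lt_of_le h1 with h | h
  · rw [← h]
    simp only [one_pow, Finset.sum_const, Finset.card_range, smul_eq_mul, mul_one]
  · rcases Nat.eq_zero_or_pos k with hk | hk
    · subst hk; simp
    · have hodd : Odd p := hpp.odd_of_ne_two hp
      have hnd : ¬ p ∣ ρ := by
        intro hd
        have : p ∣ 1 := by
          have h2 : p ∣ ρ - (ρ - 1) := Nat.dvd_sub hd hpr
          have h3 : ρ - (ρ - 1) = 1 := by omega
          rwa [h3] at h2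
        exact hpp.one_lt.ne' (Nat.dvd_one.mp this)
      have hLTE := padicValNat.pow_sub_pow (p := p) hodd h hpr hnd hk.ne'
      rw [one_pow] at hLTE
      have hgs := geom_sum_mul_of_one_le h1 k
      set S := ∑ l ∈ Finset.range k, ρ ^ l with hS
      have hne1 : ρ ^ k - 1 ≠ 0 := by
        have : 1 < ρ ^ k := Nat.one_lt_pow hk.ne' h
        omega
      have hS0 : S ≠ 0 := by
        intro h0; rw [h0, zero_mul] at hgs; exact hne1 hgs.symm
      have hρ0 : ρ - 1 ≠ 0 := by omega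
      have hv : padicValNat p S = padicValNat p k := by
        have := padicValNat.mul (p := p) hS0 hρ0
        rw [hgs, hLTE] at this
        omega
      rw [padicValNat_dvd_iff_le hS0, padicValNat_dvd_iff_le hk.ne', hv]

/-- (L'): in a cyclic `p`-group, `⟨a^S⟩ = ⟨a^(p^j)⟩` when `v_p S = j`. -/
theorem zpowers_pow_eq_of_val {G : Type u} [Group G] {p : ℕ} [Fact p.Prime] {a : G} {m : ℕ}
    (hm : orderOf a = p ^ m) {S j : ℕ} (h1 : p ^ j ∣ S) (h2 : ¬ p ^ (j + 1) ∣ S) :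
    Subgroup.zpowers (a ^ S) = Subgroup.zpowers (a ^ p ^ j) := by
  have hpp : p.Prime := Fact.out
  obtain ⟨S₁, rfl⟩ := h1
  have hcop : Nat.Coprime p S₁ := by
    rw [hpp.coprime_iff_not_dvd]
    intro hd
    apply h2
    rw [pow_succ]
    exact Nat.mul_dvd_mul_left _ hd
  set y := a ^ p ^ j with hy
  have hyS : a ^ (p ^ j * S₁) = y ^ S₁ := by rw [hy, ← pow_mul]
  rw [hyS]
  have hordy : ∃ e, orderOf y = p ^ e := by
    have : orderOf y ∣ p ^ m := by
      rw [← hm, hy]; exact orderOf_pow_dvd (p ^ j)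
    obtain ⟨e, -, he⟩ := (Nat.dvd_prime_pow hpp).mp this
    exact ⟨e, he⟩
  obtain ⟨e, he⟩ := hordy
  have hcop2 : Nat.Coprime S₁ (orderOf y) := by
    rw [he]; exact (Nat.Coprime.pow_left e hcop).symm
  obtain ⟨t, ht⟩ := exists_pow_eq_self_of_coprime hcop2
  apply le_antisymm
  · rw [Subgroup.zpowers_le]; exact Subgroup.pow_mem _ (Subgroup.mem_zpowers y) _
  · rw [Subgroup.zpowers_le]
    have : y ∈ Subgroup.zpowers (y ^ S₁) := by
      have h3 : (y ^ S₁) ^ t ∈ Subgroup.zpowers (y ^ S₁) :=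
        Subgroup.pow_mem _ (Subgroup.mem_zpowers (y ^ S₁)) t
      rwa [ht] at h3
    exact this

theorem meta_factorization {G : Type u} [Group G] [Finite G] {p : ℕ} [Fact p.Prime] (hp : p ≠ 2)
    (hG : IsPGroup p G) (hmc : Cfsg.IsMetacyclic G) :
    ∃ A B : Subgroup G, IsCyclic ↥A ∧ IsCyclic ↥B ∧ A ⊓ B = ⊥ ∧
      Nat.card ↥A * Nat.card ↥B = Nat.card G := by
  have hpp : p.Prime := Fact.out
  obtain ⟨a, b, r, m, hN, hm, hall, hconj, hr1, hpr⟩ := exists_meta_gens hG hmc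
  haveI := hN
  set N := Subgroup.zpowers a with hNdef
  set π := QuotientGroup.mk' N with hπ
  obtain ⟨ℓ, hℓ⟩ := (IsPGroup.iff_orderOf.mp (hG.to_quotient N)) (π b)
  have hπa : ∀ i : ℕ, π (a ^ i) = 1 := fun i =>
    (QuotientGroup.eq_one_iff _).mpr (Subgroup.pow_mem _ (Subgroup.mem_zpowers a) i)
  have hQgen : ∀ y : G ⧸ N, y ∈ Subgroup.zpowers (π b) := by
    intro y
    obtain ⟨g, rfl⟩ := QuotientGroup.mk_surjective y
    obtain ⟨i, k, rfl⟩ := hall g
    have : ((a ^ i * b ^ k : G) : G ⧸ N) = π (a ^ i) * (π b) ^ k := rfl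
    rw [this, hπa, one_mul]
    exact Subgroup.pow_mem _ (Subgroup.mem_zpowers _) k
  have hcardQ : Nat.card (G ⧸ N) = p ^ ℓ := by
    rw [← hℓ]; exact (orderOf_eq_card_of_forall_mem_zpowers hQgen).symm
  have hcardG : Nat.card G = p ^ m * p ^ ℓ := by
    rw [Subgroup.card_eq_card_quotient_mul_card_subgroup N, hcardQ, hNdef, Nat.card_zpowers, hm,
      mul_comm]
  have hbN : ∀ k : ℕ, b ^ k ∈ N ↔ p ^ ℓ ∣ k := by
    intro k
    rw [← hℓ, orderOf_dvd_iff_pow_eq_one, ← map_pow]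
    exact (QuotientGroup.eq_one_iff _).symm
  set z := b ^ (p ^ ℓ) with hz
  have hzN : z ∈ N := (hbN _).mpr dvd_rfl
  by_cases hcase : z ∈ Subgroup.zpowers (a ^ (p ^ ℓ))
  · -- Case 1
    set S := ∑ l ∈ Finset.range (p ^ ℓ), r ^ l with hS
    have hS1 : p ^ ℓ ∣ S := (pow_dvd_geom_sum_iff hp hr1 hpr ℓ ℓ).mpr le_rfl
    have hS2 : ¬ p ^ (ℓ + 1) ∣ S := fun h => by
      have := (pow_dvd_geom_sum_iff hp hr1 hpr ℓ (ℓ + 1)).mp h
      omega
    have hzp := zpowers_pow_eq_of_val hm hS1 hS2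
    have hzinv : z⁻¹ ∈ Subgroup.zpowers (a ^ S) := by
      rw [hzp]; exact Subgroup.inv_mem _ hcase
    rw [← mem_powers_iff_mem_zpowers] at hzinv
    obtain ⟨i, hi⟩ := hzinv
    have hi : (a ^ S) ^ i = z⁻¹ := hi
    set b' := a ^ i * b with hb'
    have hconj' : b * a ^ i * b⁻¹ = (a ^ i) ^ r := by
      rw [← conj_pow, hconj, ← pow_mul, ← pow_mul, mul_comm]
    have hb'pow : b' ^ (p ^ ℓ) = 1 := by
      rw [hb', mul_pow_of_conj hconj', ← hS, ← pow_mul, mul_comm i S, pow_mul, hi, ← hz,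
        inv_mul_cancel]
    have hπb' : π b' = π b := by
      rw [hb', map_mul, hπa, one_mul]
    have hb'N : ∀ k : ℕ, b' ^ k ∈ N → b' ^ k = 1 := by
      intro k hk
      have h1 : (π b) ^ k = 1 := by
        rw [← hπb', ← map_pow]; exact (QuotientGroup.eq_one_iff _).mpr hk
      rw [← orderOf_dvd_iff_pow_eq_one, hℓ] at h1
      obtain ⟨t, rfl⟩ := h1
      rw [pow_mul, hb'pow, one_pow]
    have hordb' : orderOf b' = p ^ ℓ := by
      apply Nat.dvd_antisymm (orderOf_dvd_of_pow_eq_one hb'pow)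
      rw [← hℓ, ← hπb']; exact orderOf_map_dvd π b'
    refine ⟨N, Subgroup.zpowers b', inferInstance, inferInstance, ?_, ?_⟩
    · rw [eq_bot_iff]
      rintro u ⟨hu1, hu2⟩
      have hu2' : u ∈ Subgroup.zpowers b' := hu2
      rw [← mem_powers_iff_mem_zpowers] at hu2'
      obtain ⟨k, hk⟩ := hu2'
      have hk : b' ^ k = u := hk
      subst hk
      rw [Subgroup.mem_bot]; exact hb'N k hu1
    · rw [hNdef, Nat.card_zpowers, Nat.card_zpowers, hm, hordb', hcardG]
  · -- Case 2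
    have hzN' : z ∈ Subgroup.zpowers a := hzN
    rw [← mem_powers_iff_mem_zpowers] at hzN'
    obtain ⟨w, hw⟩ := hzN'
    have hw : a ^ w = z := hw
    have hw0 : w ≠ 0 := by
      rintro rfl
      apply hcase
      rw [← hw, pow_zero]; exact Subgroup.one_mem _
    set ν := padicValNat p w with hν
    have hν1 : p ^ ν ∣ w := pow_padicValNat_dvd
    have hν2 : ¬ p ^ (ν + 1) ∣ w := pow_succ_padicValNat_not_dvd hw0
    have hνℓ : ν < ℓ := by
      by_contra h
      push Not at h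
      apply hcase
      obtain ⟨t, ht⟩ := dvd_trans (pow_dvd_pow p h) hν1
      rw [← hw, ht, pow_mul]
      exact Subgroup.pow_mem _ (Subgroup.mem_zpowers _) t
    have hνm : ν < m := by
      by_contra h
      push Not at h
      apply hcase
      have : a ^ w = 1 := by
        apply orderOf_dvd_iff_pow_eq_one.mp
        rw [hm]; exact dvd_trans (pow_dvd_pow p h) hν1
      rw [← hw, this]; exact Subgroup.one_mem _
    have hzw := zpowers_pow_eq_of_val hm hν1 hν2
    have h1 : a ^ (p ^ ν) ∈ Subgroup.zpowers z := by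
      rw [← hw, hzw]; exact Subgroup.mem_zpowers _
    rw [← mem_powers_iff_mem_zpowers] at h1
    obtain ⟨k₀, hk₀⟩ := h1
    have hk₀ : z ^ k₀ = a ^ (p ^ ν) := hk₀
    set y := b ^ (p ^ (ℓ - ν) * k₀) with hy
    have hyq : y ^ (p ^ ν) = a ^ (p ^ ν) := by
      rw [hy, ← pow_mul, ← hk₀, hz, ← pow_mul]
      congr 1
      have : p ^ ℓ = p ^ (ℓ - ν) * p ^ ν := by rw [← pow_add, Nat.sub_add_cancel hνℓ.le]
      rw [this]; ring
    set g := y⁻¹ with hg
    obtain ⟨ρ, hρ1, hρp, hρ⟩ := exists_conj_pow_of_normal_zpowers hG a g hN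
    set S := ∑ l ∈ Finset.range (p ^ ν), ρ ^ l with hS
    have hS1 : p ^ ν ∣ S := (pow_dvd_geom_sum_iff hp hρ1 hρp ν ν).mpr le_rfl
    have hS2 : ¬ p ^ (ν + 1) ∣ S := fun h => by
      have := (pow_dvd_geom_sum_iff hp hρ1 hρp ν (ν + 1)).mp h
      omega
    have hzS := zpowers_pow_eq_of_val hm hS1 hS2
    have h2 : a ^ (p ^ ν) ∈ Subgroup.zpowers (a ^ S) := by
      rw [hzS]; exact Subgroup.mem_zpowers _
    rw [← mem_powers_iff_mem_zpowers] at h2
    obtain ⟨i, hi⟩ := h2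
    have hi : (a ^ S) ^ i = a ^ (p ^ ν) := hi
    have hconj' : g * a ^ i * g⁻¹ = (a ^ i) ^ ρ := by
      rw [← conj_pow, hρ, ← pow_mul, ← pow_mul, mul_comm]
    set x := a ^ i * g with hx
    have hxpow : ∀ k : ℕ, x ^ k = (a ^ i) ^ (∑ l ∈ Finset.range k, ρ ^ l) * g ^ k :=
      fun k => mul_pow_of_conj hconj' k
    have hxq : x ^ (p ^ ν) = 1 := by
      rw [hxpow, ← hS, ← pow_mul, mul_comm i S, pow_mul, hi, hg, inv_pow, hyq, mul_inv_cancel]
    have hpi : ¬ p ∣ i := by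
      intro hd
      have h3 : a ^ (S * i) = a ^ (p ^ ν) := by rw [pow_mul]; exact hi
      rw [pow_eq_pow_iff_modEq, hm] at h3
      have h4 : p ^ (ν + 1) ∣ S * i := by rw [pow_succ]; exact Nat.mul_dvd_mul hS1 hd
      have h5 : p ^ (ν + 1) ∣ p ^ m := pow_dvd_pow p hνm
      have h6 := (h3.dvd_iff h5).mp h4
      have := (Nat.pow_dvd_pow_iff_le_right hpp.one_lt).mp h6
      omega
    have hBN : ∀ u, u ∈ Subgroup.zpowers b → u ∈ N → u ∈ Subgroup.zpowers (a ^ (p ^ ν)) := by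
      intro u hu1 hu2
      rw [← mem_powers_iff_mem_zpowers] at hu1
      obtain ⟨e, he⟩ := hu1
      have he : b ^ e = u := he
      subst he
      obtain ⟨t, rfl⟩ := (hbN e).mp hu2
      rw [pow_mul, ← hz, ← hzw, hw]
      exact Subgroup.pow_mem _ (Subgroup.mem_zpowers z) t
    have hkey : ∀ k : ℕ, x ^ k ∈ Subgroup.zpowers b → p ^ ν ∣ k := by
      intro k hk
      rw [hxpow] at hk
      have hgk : g ^ k ∈ Subgroup.zpowers b := by
        rw [hg, hy, inv_pow]
        exact Subgroup.inv_mem _ (Subgroup.pow_mem _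
          (Subgroup.pow_mem _ (Subgroup.mem_zpowers b) _) _)
      have h3 : (a ^ i) ^ (∑ l ∈ Finset.range k, ρ ^ l) ∈ Subgroup.zpowers b := by
        have := Subgroup.mul_mem _ hk (Subgroup.inv_mem _ hgk)
        rwa [mul_inv_cancel_right] at this
      have h4 := hBN _ h3 (Subgroup.pow_mem _ (Subgroup.pow_mem _ (Subgroup.mem_zpowers a) i) _)
      rw [← mem_powers_iff_mem_zpowers] at h4
      obtain ⟨t, ht⟩ := h4
      have ht : (a ^ (p ^ ν)) ^ t = (a ^ i) ^ (∑ l ∈ Finset.range k, ρ ^ l) := ht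
      rw [← pow_mul, ← pow_mul, pow_eq_pow_iff_modEq, hm] at ht
      have h5 : p ^ ν ∣ p ^ m := pow_dvd_pow p hνm.le
      have h6 : p ^ ν ∣ i * ∑ l ∈ Finset.range k, ρ ^ l :=
        (ht.dvd_iff h5).mp (dvd_mul_right _ _)
      have h7 : p ^ ν ∣ ∑ l ∈ Finset.range k, ρ ^ l :=
        (Nat.Coprime.pow_left ν ((hpp.coprime_iff_not_dvd).mpr hpi)).dvd_of_dvd_mul_left h6
      exact (pow_dvd_geom_sum_iff' hp hρ1 hρp k ν).mp h7
    have hordx : orderOf x = p ^ ν := by
      apply Nat.dvd_antisymm (orderOf_dvd_of_pow_eq_one hxq)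
      apply hkey
      rw [pow_orderOf_eq_one]; exact Subgroup.one_mem _
    have hordb : orderOf b = p ^ ℓ * p ^ (m - ν) := by
      have h3 : p ^ ℓ ∣ orderOf b := by rw [← hℓ]; exact orderOf_map_dvd π b
      have h4 := orderOf_pow_of_dvd (pow_pos hpp.pos ℓ).ne' h3
      have h5 : orderOf z = p ^ (m - ν) := by
        rw [← Nat.card_zpowers, ← hw, hzw, Nat.card_zpowers,
          orderOf_pow_of_dvd (pow_pos hpp.pos ν).ne' (by rw [hm]; exact pow_dvd_pow p hνm.le), hm,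
          Nat.pow_div hνm.le hpp.pos]
      rw [← hz, h5] at h4
      obtain ⟨t, ht⟩ := h3
      rw [ht, Nat.mul_div_cancel_left _ (pow_pos hpp.pos ℓ)] at h4
      rw [ht, ← h4]
    refine ⟨Subgroup.zpowers x, Subgroup.zpowers b, inferInstance, inferInstance, ?_, ?_⟩
    · rw [eq_bot_iff]
      rintro u ⟨hu1, hu2⟩
      have hu1' : u ∈ Subgroup.zpowers x := hu1
      rw [← mem_powers_iff_mem_zpowers] at hu1'
      obtain ⟨k, hk⟩ := hu1'
      have hk : x ^ k = u := hk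
      subst hk
      obtain ⟨t, rfl⟩ := hkey k hu2
      rw [Subgroup.mem_bot, pow_mul, hxq, one_pow]
    · rw [Nat.card_zpowers, Nat.card_zpowers, hordx, hordb, hcardG]
      have : p ^ m = p ^ ν * p ^ (m - ν) := by rw [← pow_add, Nat.add_sub_cancel' hνm.le]
      rw [this]; ring

end Cfsg.Agent.helper19
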