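import Mathlib
import Cfsg.Agent.Lib_helper19_Meta5
import Cfsg.Agent.Lib_lead_Coprime5
import Cfsg.Agent.Lib_helper15_ESRep1

set_option autoImplicit false

/-! Metacyclic `p`-groups (`p` odd): few elements of order `p`; coprime action helper lemmas. -/

namespace Cfsg.Agent.helper19

universe u

open scoped commutatorElement

/-- In a metacyclic `p`-group with `p` odd there are at most `p ^ 2` solutions of `x ^ p = 1`. -/
theorem ncard_pow_p_le {G : Type u} [Group G] [Finite G] {p : ℕ} [Fact p.Prime] (hp : p ≠ 2)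
    (hG : IsPGroup p G) (hmc : Cfsg.IsMetacyclic G) : {x : G | x ^ p = 1}.ncard ≤ p ^ 2 := by
  classical
  have hpp : p.Prime := Fact.out
  obtain ⟨N, hN, hNc, hQc⟩ := hmc
  have := hN
  obtain ⟨⟨a, haN⟩, ha⟩ := hNc
  have hNa : N = Subgroup.zpowers a := by
    apply le_antisymm
    · intro n hn
      obtain ⟨j, hj⟩ := ha ⟨n, hn⟩
      exact ⟨j, by simpa using congrArg Subtype.val hj⟩
    · exact Subgroup.zpowers_le.mpr haN
  subst hNa
  have hcyc : IsCyclic ↥(Subgroup.zpowers a) := inferInstance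
  have hkey : ∀ x x' : G, x ^ p = 1 → x' ^ p = 1 → x' * x⁻¹ ∈ Subgroup.zpowers a →
      (x' * x⁻¹) ^ p = 1 := by
    intro x x' hx hx' hn
    set n := x' * x⁻¹ with hndef
    have hnn : (Subgroup.zpowers n).Normal :=
      normal_of_le_cyclic_normal (N := Subgroup.zpowers a) hcyc (Subgroup.zpowers_le.mpr hn)
    obtain ⟨ρ, h1, hpr, hconj⟩ := exists_conj_pow_of_normal_zpowers hG n x hnn
    have h2 := mul_pow_of_conj hconj p
    have h3 : n * x = x' := by rw [hndef]; group
    rw [h3, hx', hx, mul_one] at h2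
    obtain ⟨j, hj⟩ := (IsPGroup.iff_orderOf.mp hG) n
    have h4 : p ^ j ∣ ∑ l ∈ Finset.range p, ρ ^ l := by
      rw [← hj]; exact orderOf_dvd_of_pow_eq_one h2.symm
    rw [pow_dvd_geom_sum_iff' hp h1 hpr] at h4
    rw [← hj] at h4
    exact orderOf_dvd_iff_pow_eq_one.mp h4
  letI : Fintype G := Fintype.ofFinite G
  letI : Fintype (G ⧸ Subgroup.zpowers a) := Fintype.ofFinite _
  let s : Finset G := Finset.univ.filter (fun x => x ^ p = 1)
  have hs : {x : G | x ^ p = 1}.ncard = s.card := by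
    rw [← Set.ncard_coe_finset]; congr 1; ext x; simp [s]
  let f : G → G ⧸ Subgroup.zpowers a := fun x => (x : G ⧸ Subgroup.zpowers a)
  have himg : (s.image f).card ≤ p := by
    have h1 : s.image f ⊆ Finset.univ.filter (fun q : G ⧸ Subgroup.zpowers a => q ^ p = 1) := by
      intro q hq
      obtain ⟨x, hx, rfl⟩ := Finset.mem_image.mp hq
      simp only [s, Finset.mem_filter, Finset.mem_univ, true_and] at hx ⊢
      show ((x : G ⧸ Subgroup.zpowers a)) ^ p = 1
      rw [← QuotientGroup.mk_pow, hx]; rfl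
    exact (Finset.card_le_card h1).trans (IsCyclic.card_pow_eq_one_le hpp.pos)
  have hfib : ∀ q ∈ s.image f, (s.filter fun x => f x = q).card ≤ p := by
    intro q hq
    obtain ⟨x₀, hx₀, rfl⟩ := Finset.mem_image.mp hq
    let t : Finset G := Finset.univ.filter (fun n => n ∈ Subgroup.zpowers a ∧ n ^ p = 1)
    have ht : t.card ≤ p := by
      have h1 := ncard_pow_eq_one_le a p hpp.pos
      have h2 : (t : Set G) = {y : G | y ∈ Subgroup.zpowers a ∧ y ^ p = 1} := by
        ext y; simp [t]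
      rw [← h2, Set.ncard_coe_finset] at h1
      exact h1
    have hsub : (s.filter fun x => f x = f x₀) ⊆ t.image (· * x₀) := by
      intro x hx
      simp only [s, Finset.mem_filter, Finset.mem_univ, true_and] at hx hx₀
      obtain ⟨hxp, hxf⟩ := hx
      have hmem : x * x₀⁻¹ ∈ Subgroup.zpowers a := by
        have h1 : (x₀ : G ⧸ Subgroup.zpowers a) = (x : G ⧸ Subgroup.zpowers a) := hxf.symm
        rw [QuotientGroup.eq] at h1
        have h2 : x * x₀⁻¹ = x₀ * (x₀⁻¹ * x) * x₀⁻¹ := by group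
        rw [h2]
        exact (inferInstance : (Subgroup.zpowers a).Normal).conj_mem _ h1 x₀
      refine Finset.mem_image.mpr ⟨x * x₀⁻¹, ?_, by group⟩
      simp only [t, Finset.mem_filter, Finset.mem_univ, true_and]
      exact ⟨hmem, hkey x₀ x hx₀ hxp hmem⟩
    exact (Finset.card_le_card hsub).trans (Finset.card_image_le.trans ht)
  calc {x : G | x ^ p = 1}.ncard = s.card := hs
    _ ≤ p * (s.image f).card := Finset.card_le_mul_card_image s p hfib
    _ ≤ p * p := Nat.mul_le_mul_left p himg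
    _ = p ^ 2 := (sq p).symm

/-- A metacyclic `p`-group (`p` odd) with at most `p` solutions of `x ^ p = 1` is cyclic. -/
theorem isCyclic_of_ncard_pow_p_le {G : Type u} [Group G] [Finite G] {p : ℕ} [Fact p.Prime]
    (hp : p ≠ 2) (hG : IsPGroup p G) (hmc : Cfsg.IsMetacyclic G)
    (h : {x : G | x ^ p = 1}.ncard ≤ p) : IsCyclic G := by
  have hpp : p.Prime := Fact.out
  obtain ⟨A, B, hA, hB, hAB, hcard⟩ := meta_factorization hp hG hmc
  by_cases hA1 : A = ⊥
  · have hBt : B = ⊤ :=
      Subgroup.eq_top_of_card_eq B (by rw [← hcard, hA1, Subgroup.card_bot, one_mul])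
    subst hBt
    exact isCyclic_of_surjective (Subgroup.topEquiv (G := G)).toMonoidHom
      (Subgroup.topEquiv (G := G)).surjective
  by_cases hB1 : B = ⊥
  · have hAt : A = ⊤ :=
      Subgroup.eq_top_of_card_eq A (by rw [← hcard, hB1, Subgroup.card_bot, mul_one])
    subst hAt
    exact isCyclic_of_surjective (Subgroup.topEquiv (G := G)).toMonoidHom
      (Subgroup.topEquiv (G := G)).surjective
  exfalso
  have hdA : p ∣ Nat.card A := by
    rcases (hG.to_subgroup A).card_eq_or_dvd with h1 | h1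
    · exact absurd (Subgroup.card_eq_one.mp h1) hA1
    · exact h1
  have hdB : p ∣ Nat.card B := by
    rcases (hG.to_subgroup B).card_eq_or_dvd with h1 | h1
    · exact absurd (Subgroup.card_eq_one.mp h1) hB1
    · exact h1
  obtain ⟨x₁, hx₁⟩ := exists_prime_orderOf_dvd_card' p hdA
  obtain ⟨x₂, hx₂⟩ := exists_prime_orderOf_dvd_card' p hdB
  rw [← Subgroup.orderOf_coe] at hx₁ hx₂
  have hnot : (x₂ : G) ∉ ((Subgroup.zpowers (x₁ : G) : Subgroup G) : Set G) := by
    intro hmem
    have h1 : (x₂ : G) ∈ A := (Subgroup.zpowers_le.mpr x₁.2) hmem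
    have h2 : (x₂ : G) ∈ A ⊓ B := ⟨h1, x₂.2⟩
    rw [hAB, Subgroup.mem_bot] at h2
    rw [h2, orderOf_one] at hx₂
    exact hpp.one_lt.ne hx₂
  have hsub : insert (x₂ : G) ((Subgroup.zpowers (x₁ : G) : Subgroup G) : Set G) ⊆
      {x : G | x ^ p = 1} := by
    intro y hy
    rcases hy with rfl | hy
    · show (x₂ : G) ^ p = 1
      rw [← hx₂]; exact pow_orderOf_eq_one _
    · obtain ⟨j, rfl⟩ := hy
      show ((x₁ : G) ^ j) ^ p = 1
      rw [← zpow_natCast, ← zpow_mul, mul_comm, zpow_mul, zpow_natCast, ← hx₁, pow_orderOf_eq_one,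
        one_zpow]
  have h1 := Set.ncard_le_ncard hsub (Set.toFinite _)
  rw [Set.ncard_insert_of_notMem hnot (Set.toFinite _)] at h1
  have h2 : ((Subgroup.zpowers (x₁ : G) : Subgroup G) : Set G).ncard = p := by
    rw [← hx₁, ← Nat.card_zpowers]; rfl
  omega

/-- Coprime action with `[R, A] = R`: the fixed points lie in every normal `Z` with `R/Z` abelian. -/
theorem fixed_le_of_commutator_eq {X : Type u} [Group X] [Finite X] (R A Z : Subgroup X) [Z.Normal]
    (hA : A ≤ Subgroup.normalizer (R : Set X)) (hcop : (Nat.card A).Coprime (Nat.card R))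
    (hZ : ⁅R, R⁆ ≤ Z) (hRA : ⁅R, A⁆ = R) : R ⊓ Subgroup.centralizer (A : Set X) ≤ Z := by
  set π := QuotientGroup.mk' Z with hπ
  set V := R.map π with hV
  set B := A.map π with hB
  have hVab : ∀ x ∈ V, ∀ y ∈ V, x * y = y * x := by
    rintro _ ⟨x, hx, rfl⟩ _ ⟨y, hy, rfl⟩
    have h0 : ⁅x, y⁆ ∈ Z := hZ (Subgroup.commutator_mem_commutator hx hy)
    have h1 : π ⁅x, y⁆ = 1 := (QuotientGroup.eq_one_iff _).mpr h0
    rw [map_commutatorElement, commutatorElement_eq_one_iff_mul_comm] at h1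
    exact h1
  have hBV : B ≤ Subgroup.normalizer (V : Set (X ⧸ Z)) :=
    (Subgroup.map_mono hA).trans (Subgroup.le_normalizer_map π)
  have hcop' : (Nat.card B).Coprime (Nat.card V) :=
    Nat.Coprime.coprime_dvd_left (Subgroup.card_map_dvd A π)
      (Nat.Coprime.coprime_dvd_right (Subgroup.card_map_dvd R π) hcop)
  have h1 := Cfsg.Agent.lead.coprime_abelian_inf B V hVab hBV hcop'
  have h2 : ⁅V, B⁆ = V := by rw [hV, hB, ← Subgroup.map_commutator, hRA]
  rw [h2, inf_of_le_left inf_le_left] at h1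
  intro x hx
  have h3 : π x ∈ V ⊓ Subgroup.centralizer (B : Set (X ⧸ Z)) := by
    refine Subgroup.mem_inf.mpr ⟨Subgroup.mem_map_of_mem π hx.1, ?_⟩
    rw [Subgroup.mem_centralizer_iff]
    rintro _ ⟨b, hb, rfl⟩
    have h4 := (Subgroup.mem_centralizer_iff.mp hx.2) b hb
    rw [← map_mul, ← map_mul, h4]
  rw [h1, Subgroup.mem_bot] at h3
  exact (QuotientGroup.eq_one_iff x).mp h3

end Cfsg.Agent.helper19
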