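import Mathlib
import Cfsg.Prelude.Def_PLocal

set_option autoImplicit false

namespace Cfsg.Agent.helper21

open scoped commutatorElement

variable {G : Type*} [Group G]

theorem reg_comm_closure (N H : Subgroup G) (hN : ∀ h ∈ H, ∀ x ∈ N, h * x * h⁻¹ ∈ N)
    (gens T : Set G) (hgens : gens ⊆ H)
    (h0 : ∀ g ∈ gens, ∀ t ∈ T, ⁅g, t⁆ ∈ N) :
    ∀ x ∈ Subgroup.closure gens, ∀ t ∈ T, ⁅x, t⁆ ∈ N := by
  intro x hx
  induction hx using Subgroup.closure_induction with
  | mem x hx => exact h0 x hx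
  | one => intro t _; rw [commutatorElement_one_left]; exact N.one_mem
  | mul x y hx hy ihx ihy =>
    intro t ht
    have hxH : x ∈ H := (Subgroup.closure_le H).mpr hgens hx
    have e : ⁅x * y, t⁆ = x * ⁅y, t⁆ * x⁻¹ * ⁅x, t⁆ := by
      simp only [commutatorElement_def]; group
    rw [e]
    exact N.mul_mem (hN x hxH _ (ihy t ht)) (ihx t ht)
  | inv x hx ihx =>
    intro t ht
    have hxH : x ∈ H := (Subgroup.closure_le H).mpr hgens hx
    have e : ⁅x⁻¹, t⁆ = x⁻¹ * ⁅x, t⁆⁻¹ * (x⁻¹)⁻¹ := by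
      simp only [commutatorElement_def]; group
    rw [e]
    exact hN x⁻¹ (H.inv_mem hxH) _ (N.inv_mem (ihx t ht))

theorem reg_commutator_le (N : Subgroup G) (u v : G)
    (hN : ∀ h ∈ Subgroup.closure ({u, v} : Set G), ∀ x ∈ N, h * x * h⁻¹ ∈ N)
    (hw : ⁅v⁻¹, u⁆ ∈ N) :
    ⁅Subgroup.closure ({u, v} : Set G), Subgroup.closure ({u, v} : Set G)⁆ ≤ N := by
  have huH : u ∈ Subgroup.closure ({u, v} : Set G) := Subgroup.subset_closure (by simp)
  have hvH : v ∈ Subgroup.closure ({u, v} : Set G) := Subgroup.subset_closure (by simp)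
  have huv : ⁅u, v⁆ ∈ N := by
    have e : ⁅u, v⁆ = v * ⁅v⁻¹, u⁆ * v⁻¹ := by simp only [commutatorElement_def]; group
    rw [e]; exact hN v hvH _ hw
  have hvu : ⁅v, u⁆ ∈ N := by
    rw [← commutatorElement_inv]; exact N.inv_mem huv
  have hsub : ({u, v} : Set G) ⊆ Subgroup.closure ({u, v} : Set G) := Subgroup.subset_closure
  have step1 : ∀ x ∈ Subgroup.closure ({u, v} : Set G), ∀ t ∈ ({u, v} : Set G), ⁅x, t⁆ ∈ N := by
    apply reg_comm_closure N _ hN {u, v} {u, v} hsub
    intro g hg t ht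
    rcases hg with rfl | hg <;> rcases ht with rfl | ht
    · rw [commutatorElement_self]; exact N.one_mem
    · rw [Set.mem_singleton_iff] at ht; subst ht; exact huv
    · rw [Set.mem_singleton_iff] at hg; subst hg; exact hvu
    · rw [Set.mem_singleton_iff] at hg ht; subst hg; subst ht
      rw [commutatorElement_self]; exact N.one_mem
  have step2 : ∀ y ∈ Subgroup.closure ({u, v} : Set G),
      ∀ t ∈ ((Subgroup.closure ({u, v} : Set G) : Subgroup G) : Set G), ⁅y, t⁆ ∈ N := by
    apply reg_comm_closure N _ hN {u, v} _ hsub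
    intro g hg t ht
    rw [← commutatorElement_inv]
    exact N.inv_mem (step1 t ht g hg)
  rw [Subgroup.commutator_le]
  intro g₁ h₁ g₂ h₂
  exact step2 g₁ h₁ g₂ h₂

theorem reg_exists_M [Finite G] {p : ℕ} [Fact p.Prime] (hG : IsPGroup p G) (H : Subgroup G)
    (u v : G) (hu : u ∈ H) (hv : v ∈ H) (hne : u * v ≠ v * u) :
    ∃ M : Subgroup G, M ≤ H ∧ Nat.card M < Nat.card H ∧ u ∈ M ∧
      ∀ h ∈ H, ∀ x ∈ M, h * x * h⁻¹ ∈ M := by
  have hHp : IsPGroup p H := hG.to_subgroup H
  have hnil : Group.IsNilpotent H := hHp.isNilpotent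
  have hnc := Group.normalizerCondition_of_isNilpotent (G := H)
  have hA : (Subgroup.zpowers u).subgroupOf H ≠ ⊤ := by
    intro h
    have hmem : (⟨v, hv⟩ : H) ∈ (Subgroup.zpowers u).subgroupOf H := by rw [h]; trivial
    rw [Subgroup.mem_subgroupOf, Subgroup.mem_zpowers_iff] at hmem
    obtain ⟨k, hk⟩ := hmem
    apply hne
    simp only at hk
    rw [← hk]
    exact ((Commute.refl u).zpow_right k).eq
  rcases IsCoatomic.eq_top_or_exists_le_coatom ((Subgroup.zpowers u).subgroupOf H) with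
    h' | ⟨M', hM', hAM⟩
  · exact absurd h' hA
  have hM'n : M'.Normal := Subgroup.NormalizerCondition.normal_of_coatom _ hnc hM'
  refine ⟨M'.map H.subtype, Subgroup.map_subtype_le M', ?_, ?_, ?_⟩
  · have h1 : Nat.card (M'.map H.subtype) = Nat.card M' :=
      (Nat.card_congr (M'.equivMapOfInjective _ H.subtype_injective).toEquiv).symm
    rw [h1]
    by_contra hcon
    push Not at hcon
    exact hM'.1 (Subgroup.eq_top_of_le_card M' hcon)
  · exact ⟨⟨u, hu⟩, hAM (by rw [Subgroup.mem_subgroupOf]; exact Subgroup.mem_zpowers u), rfl⟩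
  · rintro h hh _ ⟨x, hx, rfl⟩
    exact ⟨⟨h, hh⟩ * x * ⟨h, hh⟩⁻¹, hM'n.conj_mem x hx ⟨h, hh⟩, rfl⟩

theorem reg_core [Finite G] {p : ℕ} [Fact p.Prime] (hG : Cfsg.IsRegularPGroup p G) (n : ℕ)
    (u v : G)
    (IH : ∀ x y : G, Nat.card (Subgroup.closure ({x, y} : Set G)) <
        Nat.card (Subgroup.closure ({u, v} : Set G)) →
       (x ^ p ^ n = y ^ p ^ n ↔ (x * y⁻¹) ^ p ^ n = 1))
    (hq : (v⁻¹ * u * v) ^ p ^ n = u ^ p ^ n) :
    ∀ x ∈ ⁅Subgroup.closure ({u, v} : Set G), Subgroup.closure ({u, v} : Set G)⁆,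
      x ^ p ^ n = 1 := by
  have huH : u ∈ Subgroup.closure ({u, v} : Set G) := Subgroup.subset_closure (by simp)
  have hvH : v ∈ Subgroup.closure ({u, v} : Set G) := Subgroup.subset_closure (by simp)
  by_cases hcomm : u * v = v * u
  · have hle := reg_commutator_le (⊥ : Subgroup G) u v
      (by intro h _ x hx; rw [Subgroup.mem_bot] at hx ⊢; rw [hx]; group)
      (by
        rw [Subgroup.mem_bot, commutatorElement_def, inv_inv]
        calc v⁻¹ * u * v * u⁻¹ = v⁻¹ * (u * v) * u⁻¹ := by group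
          _ = v⁻¹ * (v * u) * u⁻¹ := by rw [hcomm]
          _ = 1 := by group)
    intro x hx
    have := hle hx
    rw [Subgroup.mem_bot] at this
    rw [this, one_pow]
  · obtain ⟨M, hMH, hMcard, huM, hMn⟩ :=
      reg_exists_M hG.1 (Subgroup.closure ({u, v} : Set G)) u v huH hvH hcomm
    have hvuvM : v⁻¹ * u * v ∈ M := by
      have := hMn v⁻¹ (Subgroup.inv_mem _ hvH) u huM
      simpa using this
    have hcard1 : Nat.card (Subgroup.closure ({v⁻¹ * u * v, u} : Set G)) <
        Nat.card (Subgroup.closure ({u, v} : Set G)) := by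
      apply lt_of_le_of_lt _ hMcard
      apply Subgroup.card_le_of_le
      rw [Subgroup.closure_le]
      intro x hx
      rcases hx with rfl | hx
      · exact hvuvM
      · rw [Set.mem_singleton_iff] at hx; subst hx; exact huM
    have hw : (v⁻¹ * u * v * u⁻¹) ^ p ^ n = 1 := (IH _ _ hcard1).mp hq
    have hSM : ∀ y ∈ {y : G | ∃ h ∈ Subgroup.closure ({u, v} : Set G),
        y = h * (v⁻¹ * u * v * u⁻¹) * h⁻¹}, y ∈ M ∧ y ^ p ^ n = 1 := by
      rintro y ⟨h, hh, rfl⟩
      refine ⟨hMn h hh _ (M.mul_mem hvuvM (M.inv_mem huM)), ?_⟩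
      rw [conj_pow, hw]; group
    have hN : ∀ y ∈ Subgroup.closure {y : G | ∃ h ∈ Subgroup.closure ({u, v} : Set G),
        y = h * (v⁻¹ * u * v * u⁻¹) * h⁻¹}, y ∈ M ∧ y ^ p ^ n = 1 := by
      intro y hy
      induction hy using Subgroup.closure_induction with
      | mem y hy => exact hSM y hy
      | one => exact ⟨M.one_mem, one_pow _⟩
      | mul x y _ _ ihx ihy =>
        refine ⟨M.mul_mem ihx.1 ihy.1, ?_⟩
        have hc : Nat.card (Subgroup.closure ({x, y⁻¹} : Set G)) <
            Nat.card (Subgroup.closure ({u, v} : Set G)) := by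
          apply lt_of_le_of_lt _ hMcard
          apply Subgroup.card_le_of_le
          rw [Subgroup.closure_le]
          intro z hz
          rcases hz with rfl | hz
          · exact ihx.1
          · rw [Set.mem_singleton_iff] at hz; subst hz; exact M.inv_mem ihy.1
        have := (IH x y⁻¹ hc).mp (by rw [ihx.2, inv_pow, ihy.2, inv_one])
        rwa [inv_inv] at this
      | inv x _ ihx => exact ⟨M.inv_mem ihx.1, by rw [inv_pow, ihx.2, inv_one]⟩
    have hNnorm : ∀ h ∈ Subgroup.closure ({u, v} : Set G),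
        ∀ x ∈ Subgroup.closure {y : G | ∃ h ∈ Subgroup.closure ({u, v} : Set G),
          y = h * (v⁻¹ * u * v * u⁻¹) * h⁻¹},
        h * x * h⁻¹ ∈ Subgroup.closure {y : G | ∃ h ∈ Subgroup.closure ({u, v} : Set G),
          y = h * (v⁻¹ * u * v * u⁻¹) * h⁻¹} := by
      intro h hh x hx
      induction hx using Subgroup.closure_induction with
      | mem y hy =>
        obtain ⟨k, hk, rfl⟩ := hy
        apply Subgroup.subset_closure
        exact ⟨h * k, Subgroup.mul_mem _ hh hk, by group⟩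
      | one =>
        have : h * 1 * h⁻¹ = 1 := by group
        rw [this]; exact Subgroup.one_mem _
      | mul x y _ _ ihx ihy =>
        have : h * (x * y) * h⁻¹ = (h * x * h⁻¹) * (h * y * h⁻¹) := by group
        rw [this]; exact Subgroup.mul_mem _ ihx ihy
      | inv x _ ihx =>
        have : h * x⁻¹ * h⁻¹ = (h * x * h⁻¹)⁻¹ := by group
        rw [this]; exact Subgroup.inv_mem _ ihx
    have hwN : ⁅v⁻¹, u⁆ ∈ Subgroup.closure {y : G | ∃ h ∈ Subgroup.closure ({u, v} : Set G),
          y = h * (v⁻¹ * u * v * u⁻¹) * h⁻¹} := by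
      apply Subgroup.subset_closure
      refine ⟨1, Subgroup.one_mem _, ?_⟩
      rw [commutatorElement_def, inv_inv]; group
    have hle := reg_commutator_le _ u v hNnorm hwN
    intro x hx
    exact (hN x (hle hx)).2

theorem reg_closure_pair_inv (a b : G) :
    Subgroup.closure ({a, b⁻¹} : Set G) = Subgroup.closure ({a, b} : Set G) := by
  apply le_antisymm
  · rw [Subgroup.closure_le]
    intro x hx
    rcases hx with rfl | hx
    · exact Subgroup.subset_closure (by simp)
    · rw [Set.mem_singleton_iff] at hx; subst hx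
      exact Subgroup.inv_mem _ (Subgroup.subset_closure (by simp))
  · rw [Subgroup.closure_le]
    intro x hx
    rcases hx with rfl | hx
    · exact Subgroup.subset_closure (by simp)
    · rw [Set.mem_singleton_iff] at hx; rw [hx]
      have : b⁻¹ ∈ Subgroup.closure ({a, b⁻¹} : Set G) := Subgroup.subset_closure (by simp)
      simpa using Subgroup.inv_mem _ this

theorem reg_closure_pair_mul (a b : G) :
    Subgroup.closure ({a * b⁻¹, b} : Set G) = Subgroup.closure ({a, b} : Set G) := by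
  apply le_antisymm
  · rw [Subgroup.closure_le]
    intro x hx
    rcases hx with rfl | hx
    · exact Subgroup.mul_mem _ (Subgroup.subset_closure (by simp))
        (Subgroup.inv_mem _ (Subgroup.subset_closure (by simp)))
    · rw [Set.mem_singleton_iff] at hx; subst hx
      exact Subgroup.subset_closure (by simp)
  · rw [Subgroup.closure_le]
    intro x hx
    rcases hx with rfl | hx
    · have h1 : x * b⁻¹ ∈ Subgroup.closure ({x * b⁻¹, b} : Set G) :=
        Subgroup.subset_closure (by simp)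
      have h2 : b ∈ Subgroup.closure ({x * b⁻¹, b} : Set G) := Subgroup.subset_closure (by simp)
      have := Subgroup.mul_mem _ h1 h2
      simpa using this
    · rw [Set.mem_singleton_iff] at hx; subst hx
      exact Subgroup.subset_closure (by simp)

theorem reg_powerClosure_triv {p : ℕ} (n : ℕ) (K : Subgroup G) (hK : ∀ x ∈ K, x ^ p ^ n = 1) :
    ∀ c ∈ Cfsg.powerClosure p n K, c = 1 := by
  intro c hc
  have : Cfsg.powerClosure p n K ≤ ⊥ := by
    unfold Cfsg.powerClosure
    rw [Subgroup.closure_le]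
    rintro y ⟨x, hx, rfl⟩
    rw [hK x hx]; exact Subgroup.one_mem _
  exact (Subgroup.mem_bot).mp (this hc)

theorem reg_main [Finite G] {p : ℕ} [Fact p.Prime] (hG : Cfsg.IsRegularPGroup p G) (n : ℕ) :
    ∀ (m : ℕ) (a b : G), Nat.card (Subgroup.closure ({a, b} : Set G)) = m →
      (a ^ p ^ n = b ^ p ^ n ↔ (a * b⁻¹) ^ p ^ n = 1) := by
  intro m
  induction m using Nat.strong_induction_on with
  | _ m ih =>
    intro a b hm
    have IH : ∀ x y : G, Nat.card (Subgroup.closure ({x, y} : Set G)) <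
        Nat.card (Subgroup.closure ({a, b} : Set G)) →
        (x ^ p ^ n = y ^ p ^ n ↔ (x * y⁻¹) ^ p ^ n = 1) := by
      intro x y hxy
      exact ih _ (hm ▸ hxy) x y rfl
    constructor
    · intro hab
      have hq : (b⁻¹ * a * b) ^ p ^ n = a ^ p ^ n := by
        have e : b⁻¹ * a * b = b⁻¹ * a * (b⁻¹)⁻¹ := by rw [inv_inv]
        rw [e, conj_pow, hab, inv_inv]
        have e2 : b⁻¹ * b ^ p ^ n * b = b ^ p ^ n := by group
        exact e2
      have hcore := reg_core hG n a b IH hq
      obtain ⟨c, hc, hreg⟩ := hG.2 a b⁻¹ n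
      rw [reg_closure_pair_inv a b] at hc
      have hc1 := reg_powerClosure_triv n _ hcore c hc
      rw [hreg, hc1, mul_one, inv_pow, hab, mul_inv_cancel]
    · intro hab
      have IH' : ∀ x y : G, Nat.card (Subgroup.closure ({x, y} : Set G)) <
          Nat.card (Subgroup.closure ({a * b⁻¹, b} : Set G)) →
          (x ^ p ^ n = y ^ p ^ n ↔ (x * y⁻¹) ^ p ^ n = 1) := by
        rw [reg_closure_pair_mul a b]; exact IH
      have hq : (b⁻¹ * (a * b⁻¹) * b) ^ p ^ n = (a * b⁻¹) ^ p ^ n := by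
        have e : b⁻¹ * (a * b⁻¹) * b = b⁻¹ * (a * b⁻¹) * (b⁻¹)⁻¹ := by rw [inv_inv]
        rw [e, conj_pow, hab]; group
      have hcore := reg_core hG n (a * b⁻¹) b IH' hq
      obtain ⟨c, hc, hreg⟩ := hG.2 (a * b⁻¹) b n
      have hc1 := reg_powerClosure_triv n _ hcore c hc
      rw [hc1, mul_one, hab, one_mul] at hreg
      have e : a * b⁻¹ * b = a := by group
      rw [e] at hreg; exact hreg

/-- In a regular `p`-group: `a^q = b^q ↔ (a b⁻¹)^q = 1` for `q = p^n`. -/
theorem reg_pow_eq_iff [Finite G] {p : ℕ} [Fact p.Prime] (hG : Cfsg.IsRegularPGroup p G)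
    (a b : G) (n : ℕ) : a ^ p ^ n = b ^ p ^ n ↔ (a * b⁻¹) ^ p ^ n = 1 :=
  reg_main hG n _ a b rfl

end Cfsg.Agent.helper21
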