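import Mathlib
import Cfsg.Prelude.Def_PLocal
import Cfsg.Agent.Lib_helper1_PGroup
import Cfsg.Agent.Lib_helper21_Regular
import Cfsg.Agent.Lib_lead_Coprime3

set_option autoImplicit false

/-! Regular `p`-groups: from the first power condition to all power conditions. -/

namespace Cfsg.Agent.helper19

open scoped commutatorElement

variable {G : Type*} [Group G]

/-- The regularity condition at level `m`. -/
def RegD (p m : ℕ) (G : Type*) [Group G] : Prop :=
  ∀ a b : G, ∃ c ∈ Cfsg.powerClosure p m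
      ⁅Subgroup.closure ({a, b} : Set G), Subgroup.closure ({a, b} : Set G)⁆,
    (a * b) ^ (p ^ m) = a ^ (p ^ m) * b ^ (p ^ m) * c

theorem powerClosure_mono (p m : ℕ) {H K : Subgroup G} (h : H ≤ K) :
    Cfsg.powerClosure p m H ≤ Cfsg.powerClosure p m K := by
  unfold Cfsg.powerClosure
  apply Subgroup.closure_mono
  rintro y ⟨x, hx, rfl⟩
  exact ⟨x, h hx, rfl⟩

theorem pow_mem_powerClosure (p m : ℕ) {H : Subgroup G} {x : G} (hx : x ∈ H) :
    x ^ p ^ m ∈ Cfsg.powerClosure p m H :=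
  Subgroup.subset_closure ⟨x, hx, rfl⟩

theorem closure_pair_le {K : Subgroup G} {a b : G} (ha : a ∈ K) (hb : b ∈ K) :
    Subgroup.closure ({a, b} : Set G) ≤ K := by
  rw [Subgroup.closure_le]
  intro x hx
  rcases hx with rfl | hx
  · exact ha
  · rw [Set.mem_singleton_iff] at hx; rw [hx]; exact hb

theorem powerClosure_conj_mem (p m : ℕ) {H L : Subgroup G}
    (hL : ∀ h ∈ H, ∀ u ∈ L, h * u * h⁻¹ ∈ L) :
    ∀ h ∈ H, ∀ t ∈ Cfsg.powerClosure p m L, h * t * h⁻¹ ∈ Cfsg.powerClosure p m L := by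
  intro h hh t ht
  unfold Cfsg.powerClosure at ht
  induction ht using Subgroup.closure_induction with
  | mem y hy =>
    obtain ⟨u, hu, rfl⟩ := hy
    rw [← conj_pow]
    exact pow_mem_powerClosure p m (hL h hh u hu)
  | one => simp
  | mul x y _ _ ihx ihy =>
    have e : h * (x * y) * h⁻¹ = (h * x * h⁻¹) * (h * y * h⁻¹) := by group
    rw [e]; exact Subgroup.mul_mem _ ihx ihy
  | inv x _ ihx =>
    have e : h * x⁻¹ * h⁻¹ = (h * x * h⁻¹)⁻¹ := by group
    rw [e]; exact Subgroup.inv_mem _ ihx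

/-- If products of two `q`-th powers in `K` are `q`-th powers, every element of `℧(K)` is one. -/
theorem powerClosure_single (p m : ℕ) (K : Subgroup G)
    (h : ∀ x ∈ K, ∀ y ∈ K, ∃ z ∈ K, x ^ p ^ m * y ^ p ^ m = z ^ p ^ m) :
    ∀ t ∈ Cfsg.powerClosure p m K, ∃ u ∈ K, t = u ^ p ^ m := by
  intro t ht
  unfold Cfsg.powerClosure at ht
  induction ht using Subgroup.closure_induction with
  | mem y hy =>
    obtain ⟨u, hu, rfl⟩ := hy
    exact ⟨u, hu, rfl⟩
  | one => exact ⟨1, K.one_mem, by simp⟩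
  | mul x y _ _ ihx ihy =>
    obtain ⟨u, hu, rfl⟩ := ihx
    obtain ⟨v, hv, rfl⟩ := ihy
    obtain ⟨z, hz, hzz⟩ := h u hu v hv
    exact ⟨z, hz, hzz⟩
  | inv x _ ihx =>
    obtain ⟨u, hu, rfl⟩ := ihx
    exact ⟨u⁻¹, K.inv_mem hu, by rw [inv_pow]⟩

/-- In a finite `p`-group, a non-commuting pair `x, y` generates a group `H` in which
`⟨xy⟩ H'` lies in a proper subgroup. -/
theorem exists_proper_of_not_commute [Finite G] {p : ℕ} [Fact p.Prime] (hG : IsPGroup p G)
    (x y : G) (hne : x * y ≠ y * x) :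
    ∃ M : Subgroup G, M ≤ Subgroup.closure ({x, y} : Set G) ∧
      Nat.card M < Nat.card (Subgroup.closure ({x, y} : Set G)) ∧ x * y ∈ M ∧
      ⁅Subgroup.closure ({x, y} : Set G), Subgroup.closure ({x, y} : Set G)⁆ ≤ M := by
  set H := Subgroup.closure ({x, y} : Set G) with hH
  have hxH : x ∈ H := Subgroup.subset_closure (by simp)
  have hyH : y ∈ H := Subgroup.subset_closure (by simp)
  have hHp : IsPGroup p H := hG.to_subgroup H
  set g : H := ⟨x * y, H.mul_mem hxH hyH⟩ with hg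
  have hnt : Subgroup.zpowers g ≠ ⊤ := by
    intro htop
    apply hne
    have h1 : (⟨x, hxH⟩ : H) ∈ Subgroup.zpowers g := by rw [htop]; exact Subgroup.mem_top _
    have h2 : (⟨y, hyH⟩ : H) ∈ Subgroup.zpowers g := by rw [htop]; exact Subgroup.mem_top _
    obtain ⟨i, hi⟩ := Subgroup.mem_zpowers_iff.mp h1
    obtain ⟨j, hj⟩ := Subgroup.mem_zpowers_iff.mp h2
    have h3 : (⟨x, hxH⟩ : H) * ⟨y, hyH⟩ = ⟨y, hyH⟩ * ⟨x, hxH⟩ := by
      rw [← hi, ← hj, ← zpow_add, ← zpow_add, add_comm]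
    exact congrArg Subtype.val h3
  obtain ⟨M', hM', hgM'⟩ := (eq_top_or_exists_le_coatom (Subgroup.zpowers g)).resolve_left hnt
  have hcomm : commutator H ≤ M' :=
    (Cfsg.Agent.helper1.commutator_le_frattini_of_isPGroup hHp).trans (frattini_le_coatom hM')
  refine ⟨M'.map H.subtype, Subgroup.map_subtype_le M', ?_, ?_, ?_⟩
  · rw [Subgroup.card_map_of_injective H.subtype_injective]
    by_contra hlt
    push Not at hlt
    exact hM'.1 (Subgroup.eq_top_of_le_card M' hlt)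
  · exact ⟨g, hgM' (Subgroup.mem_zpowers g), rfl⟩
  · have h1 : ⁅H, H⁆ = (commutator H).map H.subtype := by
      rw [commutator_def, Subgroup.map_commutator, ← MonoidHom.range_eq_map,
        Subgroup.range_subtype]
    rw [h1]
    exact Subgroup.map_mono hcomm

/-- `C_m` from `D_m`: products of two `p^m`-th powers are `p^m`-th powers. -/
theorem regC [Finite G] {p : ℕ} [Fact p.Prime] (hG : IsPGroup p G) (m : ℕ) (hD : RegD p m G) :
    ∀ (n : ℕ) (K : Subgroup G), Nat.card K = n →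
      ∀ x ∈ K, ∀ y ∈ K, ∃ z ∈ K, x ^ p ^ m * y ^ p ^ m = z ^ p ^ m := by
  intro n
  induction n using Nat.strong_induction_on with
  | _ n ih =>
    intro K hK x hx y hy
    by_cases hcomm : x * y = y * x
    · refine ⟨x * y, K.mul_mem hx hy, ?_⟩
      have hc : Commute x y := hcomm
      rw [hc.mul_pow]
    · set H := Subgroup.closure ({x, y} : Set G) with hH
      have hHK : H ≤ K := closure_pair_le hx hy
      obtain ⟨M, hMH, hMcard, hxyM, hH'M⟩ := exists_proper_of_not_commute hG x y hcomm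
      have hcardH : Nat.card H ≤ n := hK ▸ Subgroup.card_le_of_le hHK
      have hMn : Nat.card M < n := lt_of_lt_of_le hMcard hcardH
      have hH'n : Nat.card (⁅H, H⁆ : Subgroup G) < n :=
        lt_of_le_of_lt (Subgroup.card_le_of_le hH'M) hMn
      obtain ⟨c, hc, hxy⟩ := hD x y
      have hsingle := powerClosure_single p m ⁅H, H⁆ (ih _ hH'n ⁅H, H⁆ rfl)
      obtain ⟨u, hu, hcu⟩ := hsingle c⁻¹ (Subgroup.inv_mem _ hc)
      obtain ⟨z, hz, hzz⟩ := ih _ hMn M rfl (x * y) hxyM u (hH'M hu)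
      refine ⟨z, hHK (hMH hz), ?_⟩
      rw [← hzz, ← hcu, hxy]
      group

theorem regC' [Finite G] {p : ℕ} [Fact p.Prime] (hG : IsPGroup p G) (m : ℕ) (hD : RegD p m G)
    (K : Subgroup G) : ∀ t ∈ Cfsg.powerClosure p m K, ∃ u ∈ K, t = u ^ p ^ m :=
  powerClosure_single p m K (regC hG m hD _ K rfl)

theorem regD_zero (p : ℕ) : RegD p 0 G := by
  intro a b
  exact ⟨1, Subgroup.one_mem _, by simp⟩

/-- `D_{m+1}` from `D_1` and `D_m`. -/
theorem regD_succ [Finite G] {p : ℕ} [Fact p.Prime] (hG : IsPGroup p G) (m : ℕ)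
    (hD1 : RegD p 1 G) (hDm : RegD p m G) : RegD p (m + 1) G := by
  intro a b
  set H := Subgroup.closure ({a, b} : Set G) with hH
  have haH : a ∈ H := Subgroup.subset_closure (by simp)
  have hbH : b ∈ H := Subgroup.subset_closure (by simp)
  set H' : Subgroup G := ⁅H, H⁆ with hH'
  set q := p ^ m with hq
  set M := Cfsg.powerClosure p m H' with hM
  set N := Cfsg.powerClosure p (m + 1) H' with hN
  have hH'norm : ∀ h ∈ H, ∀ u ∈ H', h * u * h⁻¹ ∈ H' := by
    intro h hh u hu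
    have h1 := Cfsg.Agent.lead.le_normalizer_commutator_left H H hh
    exact (Subgroup.mem_normalizer_iff.mp h1 u).mp hu
  have hMnorm := powerClosure_conj_mem p m hH'norm
  have hMsingle := regC' hG m hDm H'
  have hMN : ∀ t ∈ M, t ^ p ∈ N := by
    intro t ht
    obtain ⟨u, hu, rfl⟩ := hMsingle t ht
    rw [← pow_mul, ← pow_succ]
    exact pow_mem_powerClosure p (m + 1) hu
  have hpc1 : ∀ L : Subgroup G, L ≤ M → Cfsg.powerClosure p 1 L ≤ N := by
    intro L hL
    unfold Cfsg.powerClosure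
    rw [Subgroup.closure_le]
    rintro _ ⟨t, ht, rfl⟩
    rw [pow_one]
    exact hMN t (hL ht)
  -- commutators with q-th powers lie in M
  have hcommpow : ∀ a' ∈ H, ∀ v ∈ H, ⁅v⁻¹, a' ^ q⁆ ∈ M := by
    intro a' ha' v hv
    set e := ⁅a'⁻¹, v⁻¹⁆ with he
    have heH' : e ∈ H' :=
      Subgroup.commutator_mem_commutator (H.inv_mem ha') (H.inv_mem hv)
    have heH : e ∈ H :=
      (Cfsg.Agent.helper7.commutator_le_of_normalizer (Subgroup.le_normalizer)) heH'
    obtain ⟨w, hw, hwe⟩ := hDm a' e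
    have hwM : w ∈ M := by
      have h1 : Subgroup.closure ({a', e} : Set G) ≤ H := closure_pair_le ha' heH
      exact powerClosure_mono p m (Subgroup.commutator_mono h1 h1) hw
    have h2 : v⁻¹ * a' * v = a' * e := by rw [he, commutatorElement_def]; group
    have h3 : ⁅v⁻¹, a' ^ q⁆ = a' ^ q * (e ^ q * w) * (a' ^ q)⁻¹ := by
      have h4 : ⁅v⁻¹, a' ^ q⁆ = (v⁻¹ * a' * v⁻¹⁻¹) ^ q * (a' ^ q)⁻¹ := by
        rw [commutatorElement_def, conj_pow]
      rw [← hq] at hwe
      rw [h4, inv_inv, h2, hwe]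
      group
    rw [h3]
    exact hMnorm _ (H.pow_mem ha' q) _ (Subgroup.mul_mem _ (pow_mem_powerClosure p m heH') hwM)
  obtain ⟨c₀, hc₀, h0⟩ := hDm a b
  obtain ⟨s, hs, rfl⟩ := hMsingle c₀ hc₀
  have hsH : s ∈ H :=
    (Cfsg.Agent.helper7.commutator_le_of_normalizer (Subgroup.le_normalizer)) hs
  set x := a ^ q with hx
  set y := b ^ q with hy
  set z := s ^ q with hz
  have hxH : x ∈ H := H.pow_mem haH q
  have hyH : y ∈ H := H.pow_mem hbH q
  have hzH : z ∈ H := H.pow_mem hsH q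
  -- derived subgroups of ⟨x, y⟩ and ⟨x y, z⟩ lie in M
  have hxy' : ⁅Subgroup.closure ({x, y} : Set G), Subgroup.closure ({x, y} : Set G)⁆ ≤ M := by
    apply Cfsg.Agent.helper21.reg_commutator_le M x y
    · intro h hh t ht
      exact hMnorm h (closure_pair_le hxH hyH hh) t ht
    · exact hcommpow a haH y hyH
  have hxyz' : ⁅Subgroup.closure ({x * y, z} : Set G),
      Subgroup.closure ({x * y, z} : Set G)⁆ ≤ M := by
    apply Cfsg.Agent.helper21.reg_commutator_le M (x * y) z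
    · intro h hh t ht
      exact hMnorm h (closure_pair_le (H.mul_mem hxH hyH) hzH hh) t ht
    · have e1 : ⁅z⁻¹, x * y⁆ = ⁅z⁻¹, x⁆ * (x * ⁅z⁻¹, y⁆ * x⁻¹) := by
        simp only [commutatorElement_def]; group
      rw [e1]
      exact Subgroup.mul_mem _ (hcommpow a haH z hzH) (hMnorm x hxH _ (hcommpow b hbH z hzH))
  obtain ⟨c₂, hc₂, h2⟩ := hD1 x y
  obtain ⟨c₁, hc₁, h1⟩ := hD1 (x * y) z
  have hc₂N : c₂ ∈ N := hpc1 _ hxy' hc₂
  have hc₁N : c₁ ∈ N := hpc1 _ hxyz' hc₁
  have hzN : z ^ p ∈ N := hMN z (pow_mem_powerClosure p m hs)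
  refine ⟨c₂ * z ^ p * c₁, Subgroup.mul_mem _ (Subgroup.mul_mem _ hc₂N hzN) hc₁N, ?_⟩
  have e1 : (a * b) ^ p ^ (m + 1) = ((a * b) ^ q) ^ p := by rw [pow_succ, pow_mul]
  have e2 : a ^ p ^ (m + 1) = x ^ p := by rw [pow_succ, pow_mul]
  have e3 : b ^ p ^ (m + 1) = y ^ p := by rw [pow_succ, pow_mul]
  rw [pow_one] at h1 h2
  rw [e1, e2, e3, h0, h1, h2]
  group

theorem regD_all [Finite G] {p : ℕ} [Fact p.Prime] (hG : IsPGroup p G) (hD1 : RegD p 1 G) :
    ∀ n : ℕ, RegD p n G := by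
  intro n
  induction n with
  | zero => exact regD_zero p
  | succ n ih => exact regD_succ hG n hD1 ih

end Cfsg.Agent.helper19
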