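import Cfsg.Statements.S0644
-- import your own Cfsg.Agent.* helpers here
import Mathlib
import Cfsg.Agent.Lib_helper1_PGroup

set_option autoImplicit false
open Cfsg

namespace Cfsg.Agent.S0644

open scoped commutatorElement

section
variable {G : Type*} [Group G]

theorem pc_eq_of_closed {p n : ℕ} (D : Subgroup G)
    (hD : ∀ a ∈ D, ∀ b ∈ D, ∃ x ∈ D, a ^ p ^ n * b ^ p ^ n = x ^ p ^ n) :
    ∀ c ∈ Cfsg.powerClosure p n D, ∃ d ∈ D, c = d ^ p ^ n := by
  intro c hc
  unfold Cfsg.powerClosure at hc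
  induction hc using Subgroup.closure_induction with
  | mem y hy => obtain ⟨x, hx, rfl⟩ := hy; exact ⟨x, hx, rfl⟩
  | one => exact ⟨1, D.one_mem, by simp⟩
  | mul y z _ _ ihy ihz =>
    obtain ⟨dy, hdy, rfl⟩ := ihy
    obtain ⟨dz, hdz, rfl⟩ := ihz
    obtain ⟨x, hx, h⟩ := hD dy hdy dz hdz
    exact ⟨x, hx, h⟩
  | inv y _ ihy =>
    obtain ⟨dy, hdy, rfl⟩ := ihy
    exact ⟨dy⁻¹, D.inv_mem hdy, by rw [inv_pow]⟩

theorem pc_mono {p n : ℕ} {H₁ H₂ : Subgroup G} (h : H₁ ≤ H₂) :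
    Cfsg.powerClosure p n H₁ ≤ Cfsg.powerClosure p n H₂ := by
  unfold Cfsg.powerClosure
  apply Subgroup.closure_mono
  rintro y ⟨x, hx, rfl⟩
  exact ⟨x, h hx, rfl⟩

theorem pc_le {p n : ℕ} (H : Subgroup G) : Cfsg.powerClosure p n H ≤ H := by
  unfold Cfsg.powerClosure
  rw [Subgroup.closure_le]
  rintro y ⟨x, hx, rfl⟩
  exact H.pow_mem hx _

theorem comm_bot_of_gen [Finite G] {p : ℕ} [Fact p.Prime] (hG : IsPGroup p G) (H : Subgroup G)
    (y d : G) (hy : y ∈ H) (hd : d ∈ ⁅H, H⁆) (hgen : Subgroup.closure {y, d} = H) :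
    ⁅H, H⁆ = ⊥ := by
  have hfr := Cfsg.Agent.helper1.commutator_le_frattini_of_isPGroup (hG.to_subgroup H)
  let y' : H := ⟨y, hy⟩
  have hsup : Subgroup.zpowers y' ⊔ frattini H = ⊤ := by
    apply top_unique
    have h1 : Subgroup.zpowers y' ⊔ commutator H ≤ Subgroup.zpowers y' ⊔ frattini H :=
      sup_le_sup_left hfr _
    refine le_trans ?_ h1
    rw [← Subgroup.map_subtype_le_map_subtype, Subgroup.map_sup, Subgroup.map_subtype_commutator,
      ← MonoidHom.range_eq_map, Subgroup.range_subtype, MonoidHom.map_zpowers]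
    conv_lhs => rw [← hgen]
    rw [Subgroup.closure_le]
    rintro z (rfl | rfl)
    · exact Subgroup.mem_sup_left (Subgroup.mem_zpowers _)
    · exact Subgroup.mem_sup_right hd
  have htop := frattini_nongenerating hsup
  rw [Subgroup.commutator_eq_bot_iff_le_centralizer]
  intro a ha
  rw [Subgroup.mem_centralizer_iff]
  intro b hb
  have ha' : (⟨a, ha⟩ : H) ∈ Subgroup.zpowers y' := by rw [htop]; trivial
  have hb' : (⟨b, hb⟩ : H) ∈ Subgroup.zpowers y' := by rw [htop]; trivial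
  obtain ⟨i, hi⟩ := ha'
  obtain ⟨j, hj⟩ := hb'
  have hai : a = y ^ i := by
    have := congrArg Subtype.val hi
    simpa [y'] using this.symm
  have hbj : b = y ^ j := by
    have := congrArg Subtype.val hj
    simpa [y'] using this.symm
  rw [hai, hbj, ← zpow_add, ← zpow_add, add_comm]

theorem powers_closed [Finite G] {p : ℕ} [Fact p.Prime] (hG : Cfsg.IsRegularPGroup p G) (n : ℕ) :
    ∀ (m : ℕ) (H : Subgroup G), Nat.card H = m →
      ∀ a ∈ H, ∀ b ∈ H, ∃ x ∈ H, a ^ p ^ n * b ^ p ^ n = x ^ p ^ n := by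
  intro m
  induction m using Nat.strong_induction_on with
  | _ m ih =>
    intro H hm a ha b hb
    have hlt : ∀ K : Subgroup G, K ≤ H → K ≠ H →
        ∀ a ∈ K, ∀ b ∈ K, ∃ x ∈ K, a ^ p ^ n * b ^ p ^ n = x ^ p ^ n := by
      intro K hKH hne
      have : Nat.card K < m := by
        rw [← hm]
        by_contra hcon
        push Not at hcon
        exact hne (Subgroup.eq_of_le_of_card_ge hKH hcon)
      exact ih _ this K rfl
    set K := Subgroup.closure ({a, b} : Set G) with hK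
    have hKH : K ≤ H := by
      rw [hK, Subgroup.closure_le]
      rintro z (rfl | rfl) <;> assumption
    have haK : a ∈ K := Subgroup.subset_closure (by simp)
    have hbK : b ∈ K := Subgroup.subset_closure (by simp)
    by_cases hKne : K = H
    swap
    · obtain ⟨x, hx, h⟩ := hlt K hKH hKne a haK b hbK
      exact ⟨x, hKH hx, h⟩
    obtain ⟨c, hc, hreg⟩ := hG.2 a b n
    rw [← hK, hKne] at hc
    by_cases hH : H = ⊥
    · rw [hH, Subgroup.mem_bot] at ha hb
      exact ⟨1, H.one_mem, by rw [ha, hb]; simp⟩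
    haveI : Group.IsNilpotent G := hG.1.isNilpotent
    have hDlt : ⁅H, H⁆ < H := Group.IsSolvable.commutator_lt_of_ne_bot hH
    have hDcl := hlt ⁅H, H⁆ hDlt.le hDlt.ne
    obtain ⟨d, hd, hcd⟩ := pc_eq_of_closed ⁅H, H⁆ hDcl c⁻¹ (inv_mem hc)
    have heq : a ^ p ^ n * b ^ p ^ n = (a * b) ^ p ^ n * d ^ p ^ n := by
      rw [hreg, ← hcd]; group
    set L := Subgroup.closure ({a * b, d} : Set G) with hL
    have hdH : d ∈ H := hDlt.le hd
    have hLH : L ≤ H := by
      rw [hL, Subgroup.closure_le]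
      rintro z (rfl | rfl)
      · exact H.mul_mem ha hb
      · exact hdH
    by_cases hLne : L = H
    swap
    · obtain ⟨x, hx, h⟩ := hlt L hLH hLne (a * b) (Subgroup.subset_closure (by simp)) d
        (Subgroup.subset_closure (by simp))
      exact ⟨x, hLH hx, heq.trans h⟩
    have hbot := comm_bot_of_gen hG.1 H (a * b) d (H.mul_mem ha hb) hd hLne
    rw [hbot, Subgroup.mem_bot] at hd
    refine ⟨a * b, H.mul_mem ha hb, ?_⟩
    rw [heq, hd, one_pow, mul_one]

theorem comm_le [Finite G] {p : ℕ} [Fact p.Prime] (hG : Cfsg.IsRegularPGroup p G) (H : Subgroup G)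
    (n : ℕ) : ⁅Cfsg.powerClosure p n H, Cfsg.powerClosure p n H⁆ ≤ Cfsg.powerClosure p n ⁅H, H⁆ := by
  set N := Cfsg.powerClosure p n ⁅H, H⁆ with hN
  have hNnorm : ∀ h ∈ H, ∀ x ∈ N, h * x * h⁻¹ ∈ N := by
    intro h hh x hx
    rw [hN] at hx ⊢
    unfold Cfsg.powerClosure at hx ⊢
    induction hx using Subgroup.closure_induction with
    | mem y hy =>
      obtain ⟨z, hz, rfl⟩ := hy
      apply Subgroup.subset_closure
      refine ⟨h * z * h⁻¹, ?_, (conj_pow).symm⟩
      have hzH : z ∈ H := (Subgroup.commutator_le.mpr (fun a ha b hb =>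
        H.mul_mem (H.mul_mem (H.mul_mem ha hb) (H.inv_mem ha)) (H.inv_mem hb))) hz
      have h1 : ⁅h, z⁆ ∈ ⁅H, H⁆ := Subgroup.commutator_mem_commutator hh hzH
      have h2 : h * z * h⁻¹ = ⁅h, z⁆ * z := by
        rw [commutatorElement_def]; group
      rw [h2]; exact Subgroup.mul_mem _ h1 hz
    | one => simp
    | mul y z _ _ ihy ihz =>
      have : h * (y * z) * h⁻¹ = (h * y * h⁻¹) * (h * z * h⁻¹) := by group
      rw [this]; exact Subgroup.mul_mem _ ihy ihz
    | inv y _ ihy =>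
      have : h * y⁻¹ * h⁻¹ = (h * y * h⁻¹)⁻¹ := by group
      rw [this]; exact Subgroup.inv_mem _ ihy
  have hcomH : ⁅H, H⁆ ≤ H := Subgroup.commutator_le.mpr (fun a ha b hb =>
    H.mul_mem (H.mul_mem (H.mul_mem ha hb) (H.inv_mem ha)) (H.inv_mem hb))
  have key : ∀ a ∈ H, ∀ b ∈ H, ⁅a ^ p ^ n, b⁆ ∈ N := by
    intro a ha b hb
    set k := a⁻¹ * b⁻¹ * a * b with hk
    have hkc : k ∈ ⁅H, H⁆ := by
      have : k = ⁅a⁻¹, b⁻¹⁆ := by rw [commutatorElement_def, hk]; group
      rw [this]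
      exact Subgroup.commutator_mem_commutator (H.inv_mem ha) (H.inv_mem hb)
    obtain ⟨c, hc, hreg⟩ := hG.2 a k n
    have hcN : c ∈ N := by
      have hle : Subgroup.closure ({a, k} : Set G) ≤ H := by
        rw [Subgroup.closure_le]
        rintro z (rfl | rfl)
        · exact ha
        · exact hcomH hkc
      exact pc_mono (Subgroup.commutator_mono hle hle) hc
    have hkN : k ^ p ^ n ∈ N := by
      rw [hN]; unfold Cfsg.powerClosure
      exact Subgroup.subset_closure ⟨k, hkc, rfl⟩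
    have h1 : (a * k) ^ p ^ n = b⁻¹ * a ^ p ^ n * b := by
      have e : a * k = b⁻¹ * a * (b⁻¹)⁻¹ := by rw [hk]; group
      rw [e, conj_pow, inv_inv]
    have h2 : ⁅a ^ p ^ n, b⁆ = (b * a ^ p ^ n) * (k ^ p ^ n * c) * (b * a ^ p ^ n)⁻¹ := by
      rw [commutatorElement_def]
      have e3 : k ^ p ^ n * c = (a ^ p ^ n)⁻¹ * (b⁻¹ * a ^ p ^ n * b) := by
        rw [← h1, hreg]; group
      rw [e3]; group
    rw [h2]
    exact hNnorm _ (H.mul_mem hb (H.pow_mem ha _)) _ (N.mul_mem hkN hcN)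
  have hPH : Cfsg.powerClosure p n H ≤ H := pc_le H
  have key2 : ∀ g₁ ∈ Cfsg.powerClosure p n H, ∀ g₂ ∈ H, ⁅g₁, g₂⁆ ∈ N := by
    intro g₁ hg₁
    have hg₁' := hg₁
    unfold Cfsg.powerClosure at hg₁'
    induction hg₁' using Subgroup.closure_induction with
    | mem y hy =>
      obtain ⟨a, ha, rfl⟩ := hy
      exact fun g₂ hg₂ => key a ha g₂ hg₂
    | one =>
      intro g₂ _
      rw [commutatorElement_one_left]; exact N.one_mem
    | mul x y hx hy ihx ihy =>
      intro g₂ hg₂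
      have hx' : x ∈ Cfsg.powerClosure p n H := hx
      have hy' : y ∈ Cfsg.powerClosure p n H := hy
      have e : ⁅x * y, g₂⁆ = x * ⁅y, g₂⁆ * x⁻¹ * ⁅x, g₂⁆ := by
        simp only [commutatorElement_def]; group
      rw [e]
      exact N.mul_mem (hNnorm x (hPH hx') _ (ihy hy' g₂ hg₂)) (ihx hx' g₂ hg₂)
    | inv x hx ihx =>
      intro g₂ hg₂
      have hx' : x ∈ Cfsg.powerClosure p n H := hx
      have e : ⁅x⁻¹, g₂⁆ = x⁻¹ * (⁅x, g₂⁆)⁻¹ * (x⁻¹)⁻¹ := by
        simp only [commutatorElement_def]; group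
      rw [e]
      exact hNnorm _ (H.inv_mem (hPH hx')) _ (N.inv_mem (ihx hx' g₂ hg₂))
  rw [Subgroup.commutator_le]
  intro g₁ hg₁ g₂ hg₂
  exact key2 g₁ hg₁ g₂ (hPH hg₂)

end


/-- In a regular p-group the p^n-th powers of the elements of any subgroup H form a subgroup, whose derived subgroup is contained in the subgroup generated by the p^n-th powers of elements of the derived subgroup of H. -/
theorem result {G : Type*} [Group G] [Finite G] {p : ℕ} [Fact p.Prime] (hG : Cfsg.IsRegularPGroup p G) (H : Subgroup G) (n : ℕ) : {y : G | ∃ x ∈ H, y = x ^ (p ^ n)} = (Cfsg.powerClosure p n H : Set G) ∧ ⁅Cfsg.powerClosure p n H, Cfsg.powerClosure p n H⁆ ≤ Cfsg.powerClosure p n ⁅H, H⁆ := by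
  refine ⟨?_, comm_le hG H n⟩
  apply Set.Subset.antisymm
  · intro y hy
    exact Subgroup.subset_closure hy
  · intro c hc
    obtain ⟨d, hd, hcd⟩ := pc_eq_of_closed H (powers_closed hG n _ H rfl) c hc
    exact ⟨d, hd, hcd⟩

end Cfsg.Agent.S0644
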