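import Mathlib
import Cfsg.Prelude.Def_PLocal
import Cfsg.Prelude.Def_OddOrderLocal
import Cfsg.Agent.Lib_helper19_HP2
import Cfsg.Agent.Lib_helper19_Regular
import Cfsg.Agent.Lib_helper19_Meta2
import Cfsg.Agent.Lib_helper19_MetaCop1
import Cfsg.Agent.Lib_helper23_BG5c
import Cfsg.Agent.S0643
import Cfsg.Agent.S0644
import Cfsg.Agent.S4210
import Cfsg.Agent.S0641

set_option autoImplicit false
set_option linter.style.haveILetI false

namespace Cfsg.Agent.helper23

open scoped commutatorElement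

universe u

theorem card_lt_of_lt23 {R : Type*} [Group R] [Finite R] {H K : Subgroup R} (h : H < K) :
    Nat.card H < Nat.card K := by
  refine lt_of_le_of_ne (Subgroup.card_le_of_le h.le) ?_
  intro heq
  exact h.ne (Subgroup.eq_of_le_of_card_ge h.le heq.ge)

/-- If a term of the lower central series of a finite `p`-group has order at most `p^j`, the series
vanishes `j` steps later. -/
theorem lcs_add_eq_bot {Q : Type*} [Group Q] [Finite Q] {p : ℕ} [hp : Fact p.Prime]
    (hQ : IsPGroup p Q) :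
    ∀ (j n : ℕ), Nat.card ↥((⊤ : Subgroup Q).lowerCentralSeries n) ≤ p ^ j →
      (⊤ : Subgroup Q).lowerCentralSeries (n + j) = ⊥ := by
  intro j
  induction j with
  | zero =>
    intro n h
    rw [pow_zero] at h
    exact (Subgroup.card_le_one_iff_eq_bot _).1 h
  | succ j ih =>
    intro n h
    set C := (⊤ : Subgroup Q).lowerCentralSeries n with hC
    by_cases hCb : C = ⊥
    · have := Subgroup.lowerCentralSeries_antitone (⊤ : Subgroup Q) (Nat.le_add_right n (j + 1))
      rw [← hC, hCb] at this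
      exact le_bot_iff.1 this
    · have hlt : ⁅C, (⊤ : Subgroup Q)⁆ < C := commutator_top_lt hQ C hCb
      have hlt' := card_lt_of_lt23 hlt
      obtain ⟨e, he⟩ := (hQ.to_subgroup C).exists_card_eq
      obtain ⟨e', he'⟩ := (hQ.to_subgroup ⁅C, (⊤ : Subgroup Q)⁆).exists_card_eq
      have hp1 : 1 < p := hp.out.one_lt
      rw [he, he'] at hlt'
      have hee : e' < e := (Nat.pow_lt_pow_iff_right hp1).1 hlt'
      rw [he] at h
      have hej : e ≤ j + 1 := (Nat.pow_le_pow_iff_right hp1).1 h
      have h2 : Nat.card ↥((⊤ : Subgroup Q).lowerCentralSeries (n + 1)) ≤ p ^ j := by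
        rw [Subgroup.lowerCentralSeries_succ, ← hC, he']
        exact Nat.pow_le_pow_right hp.out.pos (by omega)
      have := ih (n + 1) h2
      rwa [show n + 1 + j = n + (j + 1) by ring] at this

theorem card_map_mk_mul {G : Type*} [Group G] [Finite G] (K D : Subgroup G) [K.Normal] (h : K ≤ D) :
    Nat.card ↥(D.map (QuotientGroup.mk' K)) * Nat.card K = Nat.card D := by
  have h1 : (D.map (QuotientGroup.mk' K)).index = D.index :=
    Subgroup.index_map_eq D (QuotientGroup.mk'_surjective K) (by rw [QuotientGroup.ker_mk']; exact h)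
  have h2 := Subgroup.card_mul_index (D.map (QuotientGroup.mk' K))
  have h3 := Subgroup.card_mul_index D
  have h4 := Subgroup.card_eq_card_quotient_mul_card_subgroup K
  have hpos : 0 < D.index := Nat.pos_of_ne_zero Subgroup.index_ne_zero_of_finite
  rw [h1] at h2
  have h5 : (Nat.card ↥(D.map (QuotientGroup.mk' K)) * Nat.card K) * D.index = Nat.card D * D.index := by
    rw [h3, h4, ← h2]; ring
  exact Nat.eq_of_mul_eq_mul_right hpos h5

theorem powerClosure_normal {G : Type*} [Group G] (p n : ℕ) (D : Subgroup G) [hD : D.Normal] :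
    (Cfsg.powerClosure p n D).Normal := by
  unfold Cfsg.powerClosure
  apply helper19.closure_normal_of_conj_mem
  rintro s ⟨x, hx, rfl⟩ g
  refine ⟨g * x * g⁻¹, hD.conj_mem x hx g, ?_⟩
  rw [conj_pow]

theorem powerClosure_le {G : Type*} [Group G] (p n : ℕ) (D : Subgroup G) :
    Cfsg.powerClosure p n D ≤ D := by
  unfold Cfsg.powerClosure
  rw [Subgroup.closure_le]
  rintro s ⟨x, hx, rfl⟩
  exact D.pow_mem hx _

/-- Key power identity: `G` a finite `p`-group, `D = G'`, `K = ℧₁(D)`. If every element of `K`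
is a `p`-th power of an element of `D` and `|D| ≤ p^j |K|` with `j + 2 ≤ p`, then
`(xy)^p = x^p y^p c^p` for some `c ∈ D`. -/
theorem pow_mul_of_comm_small {G : Type u} [Group G] [Finite G] {p : ℕ} [hp : Fact p.Prime]
    (hG : IsPGroup p G) (j : ℕ) (hj : j + 2 ≤ p)
    (h1 : ∀ k ∈ Cfsg.powerClosure p 1 (commutator G), ∃ c ∈ commutator G, k = c ^ p)
    (h2 : Nat.card ↥(commutator G) ≤ p ^ j * Nat.card ↥(Cfsg.powerClosure p 1 (commutator G)))
    (x y : G) : ∃ c ∈ commutator G, (x * y) ^ p = x ^ p * y ^ p * c ^ p := by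
  set D := commutator G with hD
  set K := Cfsg.powerClosure p 1 D with hK
  haveI hKn : K.Normal := powerClosure_normal p 1 D
  have hKD : K ≤ D := powerClosure_le p 1 D
  set f := QuotientGroup.mk' K with hf
  have hfs : Function.Surjective f := QuotientGroup.mk'_surjective K
  have hcomm : commutator (G ⧸ K) = D.map f := helper19.commutator_map_of_surjective f hfs
  have hQ : IsPGroup p (G ⧸ K) := hG.to_quotient K
  have hexp : ∀ u ∈ commutator (G ⧸ K), u ^ p = 1 := by
    intro u hu
    rw [hcomm] at hu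
    obtain ⟨d, hd, rfl⟩ := hu
    rw [← map_pow]
    have : d ^ p ∈ K := by
      rw [hK]; unfold Cfsg.powerClosure
      exact Subgroup.subset_closure ⟨d, hd, by rw [pow_one]⟩
    rw [hf, QuotientGroup.mk'_apply]
    exact (QuotientGroup.eq_one_iff _).2 this
  have hcard : Nat.card ↥((⊤ : Subgroup (G ⧸ K)).lowerCentralSeries 1) ≤ p ^ j := by
    rw [Subgroup.top_lowerCentralSeries_one, hcomm]
    have h3 := card_map_mk_mul K D hKD
    rw [← h3] at h2
    have hpos : 0 < Nat.card K := Nat.card_pos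
    exact Nat.le_of_mul_le_mul_right h2 hpos
  have hlcs := lcs_add_eq_bot hQ j 1 hcard
  have hlcs' : (⊤ : Subgroup (G ⧸ K)).lowerCentralSeries (p - 1) = ⊥ := by
    have := Subgroup.lowerCentralSeries_antitone (⊤ : Subgroup (G ⧸ K)) (show 1 + j ≤ p - 1 by omega)
    rw [hlcs] at this
    exact le_bot_iff.1 this
  have hcc := helper19.cc_all.{u} p (p - 1) le_rfl (G ⧸ K) hlcs' hexp (f x) (f y)
  have hmem : (x ^ p * y ^ p)⁻¹ * (x * y) ^ p ∈ K := by
    rw [← QuotientGroup.eq_one_iff, ← QuotientGroup.mk'_apply, ← hf, map_mul, map_inv, map_pow,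
      map_mul, map_mul, map_pow, map_pow, hcc]
    group
  obtain ⟨c, hc, hkc⟩ := h1 _ hmem
  refine ⟨c, hc, ?_⟩
  rw [← hkc]; group

/-- Regularity from the power identity in each two-generator subgroup. -/
theorem regular_of_pairs {G : Type*} [Group G] [Finite G] {p : ℕ} [Fact p.Prime] (hG : IsPGroup p G)
    (h : ∀ a b : G, ∀ x y : ↥(Subgroup.closure ({a, b} : Set G)),
      ∃ c ∈ commutator ↥(Subgroup.closure ({a, b} : Set G)), (x * y) ^ p = x ^ p * y ^ p * c ^ p) :
    Cfsg.IsRegularPGroup p G := by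
  rw [S0643.result hG]
  intro a b
  set H := Subgroup.closure ({a, b} : Set G) with hH
  have ha : a ∈ H := Subgroup.subset_closure (by simp)
  have hb : b ∈ H := Subgroup.subset_closure (by simp)
  obtain ⟨c, hc, hcc⟩ := h a b ⟨a, ha⟩ ⟨b, hb⟩
  refine ⟨c.1, ?_, ?_⟩
  · have h1 : ⁅H, H⁆ = (commutator H).map H.subtype := by
      rw [commutator_def, Subgroup.map_commutator, ← MonoidHom.range_eq_map,
        Subgroup.range_subtype]
    rw [h1]; exact ⟨c, hc, rfl⟩
  · have := congrArg Subtype.val hcc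
    simpa using this

/-- In a regular `p`-group, `|G| = |Ω₁(G)| · |℧₁(G)|`. -/
theorem regular_card_eq {G : Type*} [Group G] [Finite G] {p : ℕ} [Fact p.Prime]
    (hG : Cfsg.IsRegularPGroup p G) :
    Nat.card G = {x : G | x ^ p = 1}.ncard *
      Nat.card ↥(Cfsg.powerClosure p 1 (⊤ : Subgroup G)) := by
  classical
  set K := Cfsg.powerClosure p 1 (⊤ : Subgroup G) with hKdef
  have hK : ∀ k ∈ K, ∃ x : G, x ^ p = k := by
    intro k hk
    have := (S0644.result hG ⊤ 1).1
    have hk' : k ∈ (K : Set G) := hk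
    rw [← this] at hk'
    obtain ⟨x, -, rfl⟩ := hk'
    exact ⟨x, by rw [pow_one]⟩
  have hmem : ∀ x : G, x ^ p ∈ K := fun x =>
    Subgroup.subset_closure ⟨x, Subgroup.mem_top x, by rw [pow_one]⟩
  choose! s hs using hK
  have key : ∀ a b : G, a ^ p = b ^ p ↔ (a * b⁻¹) ^ p = 1 := by
    intro a b; have := S4210.result hG a b 1; rwa [pow_one] at this
  let e : G ≃ K × {w : G // w ^ p = 1} :=
    { toFun := fun x => (⟨x ^ p, hmem x⟩, ⟨x * (s (x ^ p))⁻¹, (key _ _).1 (hs _ (hmem x)).symm⟩)
      invFun := fun kw => kw.2.1 * s kw.1.1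
      left_inv := fun x => by simp
      right_inv := by
        rintro ⟨⟨k, hk⟩, ⟨w, hw⟩⟩
        have h1 : (w * s k) ^ p = k := by
          rw [(key (w * s k) (s k)).2 (by simpa using hw)]; exact hs k hk
        apply Prod.ext
        · exact Subtype.ext h1
        · apply Subtype.ext
          show w * s k * (s ((w * s k) ^ p))⁻¹ = w
          rw [h1]; group }
  rw [Nat.card_congr e, Nat.card_prod, mul_comm]
  congr 1

theorem powerClosure_top_map {G : Type*} [Group G] (p n : ℕ) (D : Subgroup G) :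
    (Cfsg.powerClosure p n (⊤ : Subgroup ↥D)).map D.subtype = Cfsg.powerClosure p n D := by
  unfold Cfsg.powerClosure
  rw [MonoidHom.map_closure]
  congr 1
  ext y
  constructor
  · rintro ⟨_, ⟨x, -, rfl⟩, rfl⟩
    exact ⟨x.1, x.2, by simp⟩
  · rintro ⟨x, hx, rfl⟩
    exact ⟨(⟨x, hx⟩ : ↥D) ^ (p ^ n), ⟨⟨x, hx⟩, Subgroup.mem_top _, rfl⟩, by simp⟩

/-- Transfer of the two power properties from a regular subgroup `D` to the ambient group. -/
theorem power_props_of_regular {G : Type*} [Group G] [Finite G] {p : ℕ} [Fact p.Prime]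
    (D : Subgroup G) (hD : Cfsg.IsRegularPGroup p ↥D) (j : ℕ)
    (hΩ : {x : ↥D | x ^ p = 1}.ncard ≤ p ^ j) :
    (∀ k ∈ Cfsg.powerClosure p 1 D, ∃ c ∈ D, k = c ^ p) ∧
    Nat.card ↥D ≤ p ^ j * Nat.card ↥(Cfsg.powerClosure p 1 D) := by
  have hmap := powerClosure_top_map p 1 D
  constructor
  · intro k hk
    rw [← hmap] at hk
    obtain ⟨k', hk', rfl⟩ := hk
    have := (S0644.result hD ⊤ 1).1
    have hk'' : k' ∈ (Cfsg.powerClosure p 1 (⊤ : Subgroup ↥D) : Set ↥D) := hk'
    rw [← this] at hk''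
    obtain ⟨x, -, rfl⟩ := hk''
    exact ⟨x.1, x.2, by simp⟩
  · have h1 := regular_card_eq hD
    have h2 : Nat.card ↥(Cfsg.powerClosure p 1 D) =
        Nat.card ↥(Cfsg.powerClosure p 1 (⊤ : Subgroup ↥D)) := by
      rw [← hmap]
      exact Subgroup.card_map_of_injective D.subtype_injective
    rw [h1, h2]
    exact Nat.mul_le_mul_right _ hΩ

/-- The two power properties for a cyclic subgroup. -/
theorem power_props_of_cyclic {X : Type*} [Group X] [Finite X] {p : ℕ} [hp : Fact p.Prime]
    (D : Subgroup X) (hc : IsCyclic ↥D) :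
    (∀ k ∈ Cfsg.powerClosure p 1 D, ∃ c ∈ D, k = c ^ p) ∧
    Nat.card ↥D ≤ p ^ 1 * Nat.card ↥(Cfsg.powerClosure p 1 D) := by
  have hcomm : ∀ a ∈ D, ∀ b ∈ D, Commute a b := by
    intro a ha b hb
    letI := hc.commGroup
    have := mul_comm (⟨a, ha⟩ : ↥D) ⟨b, hb⟩
    exact congrArg Subtype.val this
  constructor
  · intro k hk
    unfold Cfsg.powerClosure at hk
    induction hk using Subgroup.closure_induction with
    | mem y hy =>
      obtain ⟨x, hx, rfl⟩ := hy
      exact ⟨x, hx, by rw [pow_one]⟩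
    | one => exact ⟨1, D.one_mem, by rw [one_pow]⟩
    | mul a b _ _ iha ihb =>
      obtain ⟨c, hc', rfl⟩ := iha
      obtain ⟨d, hd, rfl⟩ := ihb
      exact ⟨c * d, D.mul_mem hc' hd, ((hcomm c hc' d hd).mul_pow p).symm⟩
    | inv a _ iha =>
      obtain ⟨c, hc', rfl⟩ := iha
      exact ⟨c⁻¹, D.inv_mem hc', by rw [inv_pow]⟩
  · obtain ⟨⟨d, hdD⟩, hd⟩ := hc
    have hcard : Nat.card ↥D = orderOf d := by
      have h1 : orderOf (⟨d, hdD⟩ : ↥D) = Nat.card ↥D := orderOf_eq_card_of_forall_mem_zpowers hd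
      rw [← h1, Subgroup.orderOf_mk]
    have hmem : d ^ p ∈ Cfsg.powerClosure p 1 D := by
      unfold Cfsg.powerClosure
      exact Subgroup.subset_closure ⟨d, hdD, by rw [pow_one]⟩
    have h2 : orderOf (d ^ p) ≤ Nat.card ↥(Cfsg.powerClosure p 1 D) := by
      rw [← Nat.card_zpowers]
      exact Subgroup.card_le_of_le (by rw [Subgroup.zpowers_le]; exact hmem)
    have h3 : orderOf (d ^ p) = orderOf d / Nat.gcd (orderOf d) p := orderOf_pow d
    have h4 : Nat.gcd (orderOf d) p ≤ p := Nat.gcd_le_right _ hp.out.pos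
    have h5 : orderOf d / Nat.gcd (orderOf d) p * Nat.gcd (orderOf d) p = orderOf d :=
      Nat.div_mul_cancel (Nat.gcd_dvd_left _ _)
    rw [hcard, pow_one]
    calc orderOf d = orderOf d / Nat.gcd (orderOf d) p * Nat.gcd (orderOf d) p := h5.symm
      _ ≤ orderOf (d ^ p) * p := by rw [h3]; exact Nat.mul_le_mul_left _ h4
      _ ≤ Nat.card ↥(Cfsg.powerClosure p 1 D) * p := Nat.mul_le_mul_right _ h2
      _ = p * Nat.card ↥(Cfsg.powerClosure p 1 D) := mul_comm _ _

theorem commutator_subtype_le {G : Type*} [Group G] (H : Subgroup G) :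
    (commutator ↥H).map H.subtype ≤ commutator G := by
  rw [commutator_def, Subgroup.map_commutator, ← MonoidHom.range_eq_map, Subgroup.range_subtype,
    commutator_def]
  exact Subgroup.commutator_mono le_top le_top

/-- The commutator subgroup of a subgroup embeds in the commutator subgroup. -/
noncomputable def commutatorIncl {G : Type*} [Group G] (H : Subgroup G) :
    ↥(commutator ↥H) →* ↥(commutator G) :=
  (Subgroup.inclusion (commutator_subtype_le H)).comp
    ((commutator ↥H).equivMapOfInjective H.subtype H.subtype_injective).toMonoidHom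

theorem commutatorIncl_injective {G : Type*} [Group G] (H : Subgroup G) :
    Function.Injective (commutatorIncl H) := by
  unfold commutatorIncl
  rw [MonoidHom.coe_comp]
  exact (Subgroup.inclusion_injective (commutator_subtype_le H)).comp (MulEquiv.injective _)

/-- A finite `p`-group (`p` odd) with cyclic derived subgroup is regular. -/
theorem regular_of_comm_cyclic {G : Type u} [Group G] [Finite G] {p : ℕ} [hp : Fact p.Prime]
    (hp2 : p ≠ 2) (hG : IsPGroup p G) (hc : IsCyclic ↥(commutator G)) :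
    Cfsg.IsRegularPGroup p G := by
  apply regular_of_pairs hG
  intro a b x y
  have hHp : IsPGroup p ↥(Subgroup.closure ({a, b} : Set G)) := hG.to_subgroup _
  have hcH : IsCyclic ↥(commutator ↥(Subgroup.closure ({a, b} : Set G))) :=
    isCyclic_of_injective (commutatorIncl _) (commutatorIncl_injective _)
  obtain ⟨h1, h2⟩ := power_props_of_cyclic (p := p) (commutator ↥(Subgroup.closure ({a, b} : Set G))) hcH
  have hp3 : 1 + 2 ≤ p := by have := hp.out.two_le; omega
  exact pow_mul_of_comm_small hHp 1 hp3 h1 h2 x y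

/-- A metacyclic `p`-group (`p` odd) is regular. -/
theorem regular_of_meta {G : Type u} [Group G] [Finite G] {p : ℕ} [hp : Fact p.Prime]
    (hp2 : p ≠ 2) (hG : IsPGroup p G) (hm : Cfsg.IsMetacyclic G) :
    Cfsg.IsRegularPGroup p G := by
  obtain ⟨-, -, ⟨c, hc⟩, -⟩ := helper19.meta_main hp2 hG hm
  apply regular_of_comm_cyclic hp2 hG
  rw [hc]
  infer_instance

/-- For `p ≥ 5`: a finite `p`-group in which the derived subgroup of every two-generator subgroup is
metacyclic is regular. -/
theorem regular_of_comm_meta {G : Type u} [Group G] [Finite G] {p : ℕ} [hp : Fact p.Prime]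
    (hp5 : 5 ≤ p) (hG : IsPGroup p G)
    (hm : ∀ a b : G, Cfsg.IsMetacyclic ↥(commutator ↥(Subgroup.closure ({a, b} : Set G)))) :
    Cfsg.IsRegularPGroup p G := by
  have hp2 : p ≠ 2 := by omega
  apply regular_of_pairs hG
  intro a b x y
  have hHp : IsPGroup p ↥(Subgroup.closure ({a, b} : Set G)) := hG.to_subgroup _
  have hDp : IsPGroup p ↥(commutator ↥(Subgroup.closure ({a, b} : Set G))) := hHp.to_subgroup _
  have hDreg := regular_of_meta hp2 hDp (hm a b)
  have hΩ := helper19.ncard_pow_p_le hp2 hDp (hm a b)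
  obtain ⟨h1, h2⟩ := power_props_of_regular _ hDreg 2 hΩ
  exact pow_mul_of_comm_small hHp 2 (by omega) h1 h2 x y

end Cfsg.Agent.helper23
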