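import Mathlib
import Cfsg.Prelude.Def_PLocal
import Cfsg.Prelude.Def_OddOrderLocal
import Cfsg.Agent.Lib_helper23_Reg1
import Cfsg.Agent.Lib_helper23_BG4c
import Cfsg.Agent.Lib_helper1_PGroup

set_option autoImplicit false
set_option linter.style.haveILetI false

namespace Cfsg.Agent.helper23

open scoped commutatorElement

universe u

/-- If `G/Z(G)` is metacyclic then `G'` is cyclic. -/
theorem commutator_cyclic_of_center_quotient_meta {G : Type*} [Group G]
    (hm : Cfsg.IsMetacyclic (G ⧸ Subgroup.center G)) : IsCyclic ↥(commutator G) := by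
  obtain ⟨Nb, hNn, hNc, hQc⟩ := hm
  haveI := hNn
  set Z := Subgroup.center G with hZ
  set f := QuotientGroup.mk' Z with hf
  set A := Nb.comap f with hAdef
  obtain ⟨⟨ab, hab⟩, hgen⟩ := hNc
  obtain ⟨a₀, rfl⟩ := QuotientGroup.mk'_surjective Z ab
  have ha₀ : a₀ ∈ A := hab
  have hZc : ∀ z ∈ Z, ∀ g : G, Commute g z := fun z hz g => Subgroup.mem_center_iff.1 hz g
  have hZA : Z ≤ A := by
    intro z hz
    show f z ∈ Nb
    have : f z = 1 := by rw [hf, QuotientGroup.mk'_apply]; exact (QuotientGroup.eq_one_iff z).2 hz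
    rw [this]; exact Nb.one_mem
  have hA : ∀ a ∈ A, ∃ i : ℤ, ∃ z ∈ Z, a = a₀ ^ i * z := by
    intro a ha
    obtain ⟨i, hi⟩ := hgen ⟨f a, ha⟩
    have h1 : f (a₀ ^ i) = f a := by
      rw [map_zpow]
      have := congrArg Subtype.val hi
      exact this
    refine ⟨i, (a₀ ^ i)⁻¹ * a, ?_, by group⟩
    rw [← QuotientGroup.ker_mk' Z, MonoidHom.mem_ker, ← hf, map_mul, map_inv, h1, inv_mul_cancel]
  have hAcomm : ∀ a ∈ A, ∀ b ∈ A, Commute a b := by
    intro a ha b hb
    obtain ⟨i, z, hz, rfl⟩ := hA a ha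
    obtain ⟨j, w, hw, rfl⟩ := hA b hb
    have h1 : Commute (a₀ ^ i) (a₀ ^ j) := (Commute.refl a₀).zpow_zpow i j
    have h2 : Commute (a₀ ^ i) w := hZc w hw _
    have h3 : Commute z (a₀ ^ j) := (hZc z hz _).symm
    have h4 : Commute z w := hZc w hw _
    exact (h1.mul_right h2).mul_left (h3.mul_right h4)
  obtain ⟨xb, hxb⟩ := hQc
  obtain ⟨xq, rfl⟩ := QuotientGroup.mk'_surjective Nb xb
  obtain ⟨x, rfl⟩ := QuotientGroup.mk'_surjective Z xq
  have hG : ∀ g : G, ∃ k : ℤ, ∃ a ∈ A, g = x ^ k * a := by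
    intro g
    obtain ⟨k, hk⟩ := hxb (QuotientGroup.mk' Nb (f g))
    refine ⟨k, (x ^ k)⁻¹ * g, ?_, by group⟩
    show f ((x ^ k)⁻¹ * g) ∈ Nb
    have hk' : (QuotientGroup.mk' Nb) (f x) ^ k = (QuotientGroup.mk' Nb) (f g) := hk
    rw [← QuotientGroup.ker_mk' Nb, MonoidHom.mem_ker, map_mul, map_mul, map_inv, map_inv,
      map_zpow, map_zpow, hk', inv_mul_cancel]
  have hAn : A.Normal := inferInstance
  -- the commutator map
  have hφA : ∀ a ∈ A, ⁅a, x⁆ ∈ A := by
    intro a ha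
    have : ⁅a, x⁆ = a * (x * a⁻¹ * x⁻¹) := by rw [commutatorElement_def]; group
    rw [this]
    exact A.mul_mem ha (hAn.conj_mem _ (A.inv_mem ha) x)
  have hφmul : ∀ a ∈ A, ∀ b ∈ A, ⁅a * b, x⁆ = ⁅a, x⁆ * ⁅b, x⁆ := by
    intro a ha b hb
    have h1 : ⁅a * b, x⁆ = a * ⁅b, x⁆ * a⁻¹ * ⁅a, x⁆ := by
      simp only [commutatorElement_def]; group
    have h2 : a * ⁅b, x⁆ * a⁻¹ = ⁅b, x⁆ := by
      have := hAcomm a ha _ (hφA b hb)
      rw [this.eq]; group
    rw [h1, h2]
    exact (hAcomm _ (hφA b hb) _ (hφA a ha)).eq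
  let ψ : ↥A →* G :=
    { toFun := fun a => ⁅a.1, x⁆
      map_one' := by simp
      map_mul' := fun a b => hφmul a.1 a.2 b.1 b.2 }
  set c := ⁅a₀, x⁆ with hc
  have hψ : ∀ a (ha : a ∈ A), ψ ⟨a, ha⟩ = ⁅a, x⁆ := fun a ha => rfl
  have hrange : ψ.range ≤ Subgroup.zpowers c := by
    rintro _ ⟨⟨a, ha⟩, rfl⟩
    obtain ⟨i, z, hz, rfl⟩ := hA a ha
    have e : (⟨a₀ ^ i * z, ha⟩ : ↥A) = (⟨a₀, ha₀⟩ : ↥A) ^ i * ⟨z, hZA hz⟩ := by
      apply Subtype.ext; simp
    rw [e, map_mul, map_zpow, hψ, hψ]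
    have hz1 : ⁅z, x⁆ = 1 := by
      rw [commutatorElement_eq_one_iff_commute]; exact (hZc z hz x).symm
    rw [hz1, mul_one]
    exact Subgroup.zpow_mem _ (Subgroup.mem_zpowers c) i
  -- normality of the range
  have hconj : ∀ a ∈ A, ∀ k : ℤ, x ^ k * a * (x ^ k)⁻¹ ∈ A := fun a ha k => hAn.conj_mem a ha _
  have hCn : ψ.range.Normal := by
    constructor
    rintro _ ⟨⟨a, ha⟩, rfl⟩ g
    obtain ⟨k, b, hb, rfl⟩ := hG g
    rw [hψ]
    have h1 : x ^ k * b * ⁅a, x⁆ * (x ^ k * b)⁻¹ = x ^ k * (b * ⁅a, x⁆ * b⁻¹) * (x ^ k)⁻¹ := by group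
    have h2 : b * ⁅a, x⁆ * b⁻¹ = ⁅a, x⁆ := by
      have := hAcomm b hb _ (hφA a ha)
      rw [this.eq]; group
    have h3 : x ^ k * ⁅a, x⁆ * (x ^ k)⁻¹ = ⁅x ^ k * a * (x ^ k)⁻¹, x⁆ := by
      have hx : x ^ k * x * (x ^ k)⁻¹ = x := by
        have : Commute (x ^ k) x := (Commute.refl x).zpow_left k
        rw [this.eq]; group
      calc x ^ k * ⁅a, x⁆ * (x ^ k)⁻¹
          = ⁅x ^ k * a * (x ^ k)⁻¹, x ^ k * x * (x ^ k)⁻¹⁆ := by
            simp only [commutatorElement_def]; group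
        _ = ⁅x ^ k * a * (x ^ k)⁻¹, x⁆ := by rw [hx]
    rw [h1, h2, h3]
    exact ⟨⟨_, hconj a ha k⟩, rfl⟩
  haveI := hCn
  -- the quotient is abelian
  set π := QuotientGroup.mk' ψ.range with hπ
  have hπ1 : ∀ a ∈ A, Commute (π a) (π x) := by
    intro a ha
    rw [← commutatorElement_eq_one_iff_commute, ← map_commutatorElement, hπ,
      QuotientGroup.mk'_apply, QuotientGroup.eq_one_iff]
    exact ⟨⟨a, ha⟩, rfl⟩
  have hπ2 : ∀ a ∈ A, ∀ b ∈ A, Commute (π a) (π b) := by
    intro a ha b hb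
    have := hAcomm a ha b hb
    exact this.map π
  have hall : ∀ g h : G, ⁅g, h⁆ ∈ ψ.range := by
    intro g h
    obtain ⟨k, a, ha, rfl⟩ := hG g
    obtain ⟨l, b, hb, rfl⟩ := hG h
    rw [← QuotientGroup.eq_one_iff, ← QuotientGroup.mk'_apply, ← hπ, map_commutatorElement,
      commutatorElement_eq_one_iff_commute, map_mul, map_mul, map_zpow, map_zpow]
    have h1 : Commute (π x ^ k) (π x ^ l) := (Commute.refl (π x)).zpow_zpow k l
    have h2 : Commute (π x ^ k) (π b) := ((hπ1 b hb).symm).zpow_left k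
    have h3 : Commute (π a) (π x ^ l) := (hπ1 a ha).zpow_right l
    have h4 : Commute (π a) (π b) := hπ2 a ha b hb
    exact (h1.mul_right h2).mul_left (h3.mul_right h4)
  have hle : commutator G ≤ Subgroup.zpowers c := by
    rw [commutator_def, Subgroup.commutator_le]
    intro g _ h _
    exact hrange (hall g h)
  exact Subgroup.isCyclic_of_le hle

/-- A finite `p`-group of order at most `p^2` is commutative. -/
theorem comm_of_card_le_sq {T : Type*} [Group T] [Finite T] {p : ℕ} [hp : Fact p.Prime]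
    (hT : IsPGroup p T) (h : Nat.card T ≤ p ^ 2) : ∀ a b : T, a * b = b * a := by
  obtain ⟨k, hk⟩ := hT.exists_card_eq
  have hp1 : 1 < p := hp.out.one_lt
  have hk2 : k ≤ 2 := by
    rw [hk] at h
    exact (Nat.pow_le_pow_iff_right hp1).1 h
  interval_cases k
  · rw [pow_zero] at hk
    haveI : Subsingleton T := (Nat.card_eq_one_iff_unique.1 hk).1
    intro a b; exact Subsingleton.elim _ _
  · rw [pow_one] at hk
    haveI : IsCyclic T := isCyclic_of_prime_card hk
    intro a b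
    exact Std.Commutative.comm a b
  · have := IsPGroup.isMulCommutative_of_card_eq_prime_sq hk
    intro a b
    exact this.is_comm.comm a b

/-- A normal subgroup of index at most `p^2` in a finite `p`-group contains the derived subgroup. -/
theorem commutator_le_of_index_le_sq {R : Type*} [Group R] [Finite R] {p : ℕ} [hp : Fact p.Prime]
    (hR : IsPGroup p R) (K : Subgroup R) [K.Normal] (h : K.index ≤ p ^ 2) : commutator R ≤ K := by
  have hc := comm_of_card_le_sq (hR.to_quotient K) (by rw [← Subgroup.index_eq_card]; exact h)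
  rw [commutator_def, Subgroup.commutator_le]
  intro g _ h' _
  rw [← QuotientGroup.eq_one_iff, ← QuotientGroup.mk'_apply, map_commutatorElement,
    commutatorElement_eq_one_iff_commute]
  exact hc _ _

/-- A finite `p`-group whose Frattini subgroup has index at most `p` is cyclic. -/
theorem isCyclic_of_frattini_index_le {T : Type*} [Group T] [Finite T] {p : ℕ} [hp : Fact p.Prime]
    (hT : IsPGroup p T) (h : (frattini T).index ≤ p) : IsCyclic T := by
  haveI : (frattini T).Normal := Subgroup.normal_of_characteristic _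
  have hQ : IsPGroup p (T ⧸ frattini T) := hT.to_quotient _
  obtain ⟨k, hk⟩ := hQ.exists_card_eq
  have hp1 : 1 < p := hp.out.one_lt
  rw [Subgroup.index_eq_card] at h
  have hk1 : k ≤ 1 := by
    rw [hk] at h
    have : p ^ k ≤ p ^ 1 := by rwa [pow_one]
    exact (Nat.pow_le_pow_iff_right hp1).1 this
  have hcyc : IsCyclic (T ⧸ frattini T) := by
    interval_cases k
    · rw [pow_zero] at hk
      haveI : Subsingleton (T ⧸ frattini T) := (Nat.card_eq_one_iff_unique.1 hk).1
      exact isCyclic_of_subsingleton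
    · rw [pow_one] at hk
      exact isCyclic_of_prime_card hk
  obtain ⟨tb, htb⟩ := hcyc
  obtain ⟨t, rfl⟩ := QuotientGroup.mk'_surjective (frattini T) tb
  have htop : Subgroup.zpowers t ⊔ frattini T = ⊤ := by
    rw [eq_top_iff]
    intro s _
    obtain ⟨i, hi⟩ := htb (QuotientGroup.mk' (frattini T) s)
    have hi' : (QuotientGroup.mk' (frattini T)) t ^ i = (QuotientGroup.mk' (frattini T)) s := hi
    have h1 : (t ^ i)⁻¹ * s ∈ frattini T := by
      rw [← QuotientGroup.ker_mk' (frattini T), MonoidHom.mem_ker, map_mul, map_inv, map_zpow, hi',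
        inv_mul_cancel]
    have h2 : s = t ^ i * ((t ^ i)⁻¹ * s) := by group
    rw [h2]
    exact Subgroup.mul_mem_sup (Subgroup.zpow_mem _ (Subgroup.mem_zpowers t) i) h1
  have := frattini_nongenerating htop
  exact isCyclic_iff_exists_zpowers_eq_top.2 ⟨t, this⟩

/-- Cyclicity of a quotient from an index bound modulo `p`-th powers. -/
theorem isCyclic_quotient_of_index {R : Type*} [Group R] [Finite R] {p : ℕ} [hp : Fact p.Prime]
    (hR : IsPGroup p R) (N : Subgroup R) [N.Normal] (K : Subgroup R)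
    (hK : ∀ k ∈ K, ∃ u : R, k = u ^ p) (h : (N ⊔ K).index ≤ p) : IsCyclic (R ⧸ N) := by
  apply isCyclic_of_frattini_index_le (hR.to_quotient N)
  set f := QuotientGroup.mk' N with hf
  have hfs : Function.Surjective f := QuotientGroup.mk'_surjective N
  have hle : N ⊔ K ≤ (frattini (R ⧸ N)).comap f := by
    apply sup_le
    · intro n hn
      show f n ∈ frattini (R ⧸ N)
      have : f n = 1 := by rw [hf, QuotientGroup.mk'_apply]; exact (QuotientGroup.eq_one_iff n).2 hn
      rw [this]; exact Subgroup.one_mem _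
    · intro k hk
      obtain ⟨u, rfl⟩ := hK k hk
      show f (u ^ p) ∈ frattini (R ⧸ N)
      rw [map_pow]
      exact helper1.pow_mem_frattini_of_isPGroup (hR.to_quotient N) (f u)
  have h1 : ((frattini (R ⧸ N)).comap f).index = (frattini (R ⧸ N)).index :=
    Subgroup.index_comap_of_surjective _ hfs
  have h2 : ((frattini (R ⧸ N)).comap f).index ∣ (N ⊔ K).index := Subgroup.index_dvd_of_le hle
  rw [h1] at h2
  exact (Nat.le_of_dvd (Nat.pos_of_ne_zero Subgroup.index_ne_zero_of_finite) h2).trans h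

theorem ncard_pow_le_of_injective {A B : Type*} [Group A] [Group B] [Finite B] (φ : A →* B)
    (hφ : Function.Injective φ) (p : ℕ) :
    {x : A | x ^ p = 1}.ncard ≤ {x : B | x ^ p = 1}.ncard := by
  apply Set.ncard_le_ncard_of_injOn φ
  · intro a ha
    have ha' : a ^ p = 1 := ha
    show (φ a) ^ p = 1
    rw [← map_pow, ha', map_one]
  · exact hφ.injOn

/-- In a regular `p`-group, `|G : ℧₁(G)| = |Ω₁(G)|`. -/
theorem regular_index_eq {G : Type*} [Group G] [Finite G] {p : ℕ} [Fact p.Prime]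
    (hG : Cfsg.IsRegularPGroup p G) :
    (Cfsg.powerClosure p 1 (⊤ : Subgroup G)).index = {x : G | x ^ p = 1}.ncard := by
  have h1 := regular_card_eq hG
  have h2 := Subgroup.card_mul_index (Cfsg.powerClosure p 1 (⊤ : Subgroup G))
  have hpos : 0 < Nat.card ↥(Cfsg.powerClosure p 1 (⊤ : Subgroup G)) := Nat.card_pos
  rw [h1, mul_comm] at h2
  exact Nat.eq_of_mul_eq_mul_right hpos h2

/-- `Ω₁` does not grow in quotients of regular `p`-groups. -/
theorem regular_quotient_ncard_le {G : Type*} [Group G] [Finite G] {p : ℕ} [Fact p.Prime]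
    (hG : Cfsg.IsRegularPGroup p G) (N : Subgroup G) [N.Normal] :
    {x : G ⧸ N | x ^ p = 1}.ncard ≤ {x : G | x ^ p = 1}.ncard := by
  have hQ : Cfsg.IsRegularPGroup p (G ⧸ N) := S0641.result hG N
  rw [← regular_index_eq hG, ← regular_index_eq hQ]
  set f := QuotientGroup.mk' N with hf
  have hfs : Function.Surjective f := QuotientGroup.mk'_surjective N
  have hle : Cfsg.powerClosure p 1 (⊤ : Subgroup G) ≤
      (Cfsg.powerClosure p 1 (⊤ : Subgroup (G ⧸ N))).comap f := by
    unfold Cfsg.powerClosure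
    rw [Subgroup.closure_le]
    rintro _ ⟨x, -, rfl⟩
    show f (x ^ p ^ 1) ∈ Subgroup.closure {y : G ⧸ N | ∃ x ∈ (⊤ : Subgroup (G ⧸ N)), y = x ^ p ^ 1}
    rw [map_pow]
    exact Subgroup.subset_closure ⟨f x, Subgroup.mem_top _, rfl⟩
  have h1 : ((Cfsg.powerClosure p 1 (⊤ : Subgroup (G ⧸ N))).comap f).index =
      (Cfsg.powerClosure p 1 (⊤ : Subgroup (G ⧸ N))).index :=
    Subgroup.index_comap_of_surjective _ hfs
  have h2 := Subgroup.index_dvd_of_le hle
  rw [h1] at h2
  exact Nat.le_of_dvd (Nat.pos_of_ne_zero Subgroup.index_ne_zero_of_finite) h2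

end Cfsg.Agent.helper23
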