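import Mathlib
import Cfsg.Prelude.Def_PLocal
import Cfsg.Prelude.Def_OddOrderLocal
import Cfsg.Agent.Lib_helper23_Reg2

set_option autoImplicit false
set_option linter.style.haveILetI false

namespace Cfsg.Agent.helper23

open scoped commutatorElement

universe u

/-- Blackburn: for `p ≥ 5`, a finite `p`-group with at most `p^2` solutions of `x^p = 1` is
metacyclic. -/
theorem meta_of_small_omega {p : ℕ} [hp : Fact p.Prime] (hp5 : 5 ≤ p) :
    ∀ (n : ℕ) (R : Type u) [Group R] [Finite R], Nat.card R = n → IsPGroup p R →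
      {x : R | x ^ p = 1}.ncard ≤ p ^ 2 → Cfsg.IsMetacyclic R := by
  intro n
  induction n using Nat.strong_induction_on with
  | _ n IH =>
  intro R _ _ hn hR hΩ
  have hp2 : p ≠ 2 := by omega
  have hp1 : 1 < p := hp.out.one_lt
  by_cases hn1 : n = 1
  · haveI : Subsingleton R := (Nat.card_eq_one_iff_unique.1 (hn.trans hn1)).1
    exact ⟨⊥, inferInstance, inferInstance, isCyclic_of_subsingleton⟩
  have hn2 : 1 < n := by
    have : 0 < n := hn ▸ Nat.card_pos
    omega
  haveI hnt : Nontrivial R := by
    rw [← Finite.one_lt_card_iff_nontrivial, hn]; exact hn2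
  -- Step 1: regular
  have hreg : Cfsg.IsRegularPGroup p R := by
    apply regular_of_comm_meta hp5 hR
    intro a b
    have hHp : IsPGroup p ↥(Subgroup.closure ({a, b} : Set R)) := hR.to_subgroup _
    have hDp : IsPGroup p ↥(commutator ↥(Subgroup.closure ({a, b} : Set R))) := hHp.to_subgroup _
    have hcard : Nat.card ↥(commutator ↥(Subgroup.closure ({a, b} : Set R))) < n := by
      have h1 : Nat.card ↥(Subgroup.closure ({a, b} : Set R)) ≤ n :=
        hn ▸ Subgroup.card_le_card_group _
      by_cases hHt : (⊤ : Subgroup ↥(Subgroup.closure ({a, b} : Set R))) = ⊥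
      · have h2 : commutator ↥(Subgroup.closure ({a, b} : Set R)) = ⊥ :=
          le_bot_iff.1 (hHt ▸ le_top)
        rw [h2, Subgroup.card_bot]; exact hn2
      · have hlt := commutator_top_lt hHp ⊤ hHt
        rw [← commutator_def] at hlt
        have := card_lt_of_lt23 hlt
        rw [Subgroup.card_top] at this
        omega
    have hinj : Function.Injective ((Subgroup.closure ({a, b} : Set R)).subtype.comp
        (commutator ↥(Subgroup.closure ({a, b} : Set R))).subtype) := by
      rw [MonoidHom.coe_comp]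
      exact (Subgroup.subtype_injective _).comp (Subgroup.subtype_injective _)
    exact IH _ hcard _ rfl hDp ((ncard_pow_le_of_injective _ hinj p).trans hΩ)
  -- Step 2: the central quotient is metacyclic, so the derived subgroup is cyclic
  have hZne : Subgroup.center R ≠ ⊥ := (IsPGroup.bot_lt_center hR).ne'
  have hQm : Cfsg.IsMetacyclic (R ⧸ Subgroup.center R) := by
    have hcardQ : Nat.card (R ⧸ Subgroup.center R) < n := by
      have h1 := Subgroup.card_eq_card_quotient_mul_card_subgroup (Subgroup.center R)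
      have h2 : 1 < Nat.card (Subgroup.center R) := (Subgroup.one_lt_card_iff_ne_bot _).2 hZne
      have h3 : 0 < Nat.card (R ⧸ Subgroup.center R) := Nat.card_pos
      rw [hn] at h1
      nlinarith
    exact IH _ hcardQ _ rfl (hR.to_quotient _) ((regular_quotient_ncard_le hreg _).trans hΩ)
  have hcyc : IsCyclic ↥(commutator R) := commutator_cyclic_of_center_quotient_meta hQm
  -- Step 3: the endgame
  set K := Cfsg.powerClosure p 1 (⊤ : Subgroup R) with hKdef
  haveI hKn : K.Normal := powerClosure_normal p 1 ⊤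
  have hKidx : K.index ≤ p ^ 2 := by rw [regular_index_eq hreg]; exact hΩ
  have hKpow : ∀ k ∈ K, ∃ u : R, k = u ^ p := by
    intro k hk
    have := (S0644.result hreg ⊤ 1).1
    have hk' : k ∈ (K : Set R) := hk
    rw [← this] at hk'
    obtain ⟨x, -, rfl⟩ := hk'
    exact ⟨x, by rw [pow_one]⟩
  have hcomK : commutator R ≤ K := commutator_le_of_index_le_sq hR K hKidx
  obtain ⟨⟨c, hcD⟩, hcgen⟩ := hcyc
  have hcomm_le : commutator R ≤ Subgroup.zpowers c := by
    intro y hy
    obtain ⟨i, hi⟩ := hcgen ⟨y, hy⟩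
    have := congrArg Subtype.val hi
    exact ⟨i, this⟩
  let S : Set R := {g | c ∈ Subgroup.zpowers g}
  haveI : Nonempty ↥S := ⟨⟨c, Subgroup.mem_zpowers c⟩⟩
  obtain ⟨⟨g, hg⟩, hmax⟩ := Finite.exists_max (fun s : ↥S => orderOf s.1)
  have hg' : c ∈ Subgroup.zpowers g := hg
  have hgmax : ∀ g', c ∈ Subgroup.zpowers g' → orderOf g' ≤ orderOf g :=
    fun g' h' => hmax ⟨g', h'⟩
  have hgK : g ∉ K := by
    intro hgK
    obtain ⟨u, rfl⟩ := hKpow g hgK
    have hu : c ∈ Subgroup.zpowers u :=
      (Subgroup.zpowers_le.2 (Subgroup.pow_mem _ (Subgroup.mem_zpowers u) p)) hg'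
    have h1 := hgmax u hu
    obtain ⟨e, he⟩ := IsPGroup.iff_orderOf.1 hR u
    rcases Nat.eq_zero_or_pos e with rfl | hepos
    · rw [pow_zero, orderOf_eq_one_iff] at he
      subst he
      rw [one_pow] at hg' hgmax
      have hc1 : c = 1 := by
        rw [Subgroup.zpowers_one_eq_bot] at hg'
        exact Subgroup.mem_bot.1 hg'
      have hall : ∀ r : R, r = 1 := by
        intro r
        have := hgmax r (hc1 ▸ Subgroup.one_mem _)
        rw [orderOf_one] at this
        have h0 : 0 < orderOf r := orderOf_pos r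
        exact orderOf_eq_one_iff.1 (by omega)
      obtain ⟨x, y, hxy⟩ := hnt
      exact hxy ((hall x).trans (hall y).symm)
    · have hdvd : p ∣ orderOf u := by
        rw [he]; exact dvd_pow_self p (by omega)
      have h2 : orderOf (u ^ p) = orderOf u / p := orderOf_pow_of_dvd hp.out.ne_zero hdvd
      rw [h2] at h1
      have h3 : orderOf u / p < orderOf u := Nat.div_lt_self (orderOf_pos u) hp1
      omega
  have hNn : (Subgroup.zpowers g).Normal :=
    normal_of_commutator_le _ (hcomm_le.trans (Subgroup.zpowers_le.2 hg'))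
  haveI := hNn
  have hM : (Subgroup.zpowers g ⊔ K).index ≤ p := by
    have hlt : K < Subgroup.zpowers g ⊔ K := by
      refine lt_of_le_of_ne le_sup_right ?_
      intro heq
      apply hgK
      rw [heq]; exact Subgroup.mem_sup_left (Subgroup.mem_zpowers g)
    have h1 : (Subgroup.zpowers g ⊔ K).index < K.index := Subgroup.index_strictAnti hlt
    have h2 : (Subgroup.zpowers g ⊔ K).index ∣ K.index := Subgroup.index_dvd_of_le le_sup_right
    obtain ⟨m, hm⟩ := hR.exists_card_eq
    have h3 : K.index ∣ p ^ m := hm ▸ Subgroup.index_dvd_card K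
    obtain ⟨k, -, hk⟩ := (Nat.dvd_prime_pow hp.out).1 h3
    rw [hk] at h1 h2 hKidx
    have hk2 : k ≤ 2 := (Nat.pow_le_pow_iff_right hp1).1 hKidx
    obtain ⟨j, -, hj⟩ := (Nat.dvd_prime_pow hp.out).1 h2
    rw [hj] at h1 ⊢
    have hjk : j < k := (Nat.pow_lt_pow_iff_right hp1).1 h1
    calc p ^ j ≤ p ^ 1 := Nat.pow_le_pow_right hp.out.pos (by omega)
      _ = p := pow_one p
  have hcycQ : IsCyclic (R ⧸ Subgroup.zpowers g) := isCyclic_quotient_of_index hR _ K hKpow hM
  exact ⟨Subgroup.zpowers g, hNn, inferInstance, hcycQ⟩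

end Cfsg.Agent.helper23
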