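import Mathlib
import Cfsg.Prelude.Def_PLocal
import Cfsg.Prelude.Def_OddOrderLocal
import Cfsg.Prelude.Def_CaseTheorems
import Cfsg.Agent.Lib_helper23_Reg3
import Cfsg.Agent.Lib_helper23_BG5d
import Cfsg.Agent.Lib_helper18_RankTwo
import Cfsg.Agent.Lib_helper17_P3
import Cfsg.Agent.Lib_helper19_Meta4
import Cfsg.Agent.Lib_helper19_MetaCop1

set_option autoImplicit false
set_option linter.style.haveILetI false

namespace Cfsg.Agent.helper23

open scoped commutatorElement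

universe u

variable {G : Type u} [Group G] [Finite G] {p : ℕ} [hp : Fact p.Prime]

/-- In a `p`-subgroup of rank at most 2 (`p > 3`), elements of order dividing `p` are closed under
products. -/
theorem omega_mul_closed (hp3 : 3 < p) (R : Subgroup G) (hR : IsPGroup p R)
    (hr : Cfsg.PRankLE p 2 R) :
    ∀ a b : G, a ∈ R → b ∈ R → a ^ p = 1 → b ^ p = 1 → (a * b) ^ p = 1 := by
  intro a b ha hb hap hbp
  have key := helper18.RankTwo.key (p := p) hp3 (Nat.card R) ↥R rfl hR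
    (fun E hE => hr E hE.1 hE.2)
  have := key ⟨a, ha⟩ ⟨b, hb⟩ (Subtype.ext (by simpa using hap)) (Subtype.ext (by simpa using hbp))
  have h2 := congrArg Subtype.val this
  simpa using h2

/-- `Ω₁(R)` as the set of elements of order dividing `p`. -/
def omegaE (hp3 : 3 < p) (R : Subgroup G) (hR : IsPGroup p R) (hr : Cfsg.PRankLE p 2 R) :
    Subgroup G :=
  helper18.RankTwo.omegaSub p R (omega_mul_closed hp3 R hR hr)

theorem mem_omegaE (hp3 : 3 < p) (R : Subgroup G) (hR : IsPGroup p R) (hr : Cfsg.PRankLE p 2 R)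
    (g : G) : g ∈ omegaE hp3 R hR hr ↔ g ∈ R ∧ g ^ p = 1 := Iff.rfl

theorem omegaE_le (hp3 : 3 < p) (R : Subgroup G) (hR : IsPGroup p R) (hr : Cfsg.PRankLE p 2 R) :
    omegaE hp3 R hR hr ≤ R := fun _ hg => hg.1

/-- Rank bound transported to subgroups of `R` given inside `G`. -/
theorem rank_le_of_le (R : Subgroup G) (hr : Cfsg.PRankLE p 2 R) (B : Subgroup G) (hBR : B ≤ R)
    (hc : ∀ x ∈ B, ∀ y ∈ B, x * y = y * x) (he : ∀ x ∈ B, x ^ p = 1) : Nat.card B ≤ p ^ 2 := by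
  have h1 : Nat.card ↥(B.subgroupOf R) = Nat.card B :=
    Nat.card_congr (Subgroup.subgroupOfEquivOfLe hBR).toEquiv
  rw [← h1]
  apply hr
  · refine ⟨⟨fun x y => ?_⟩⟩
    apply Subtype.ext; apply Subtype.ext
    exact hc x.1.1 x.2 y.1.1 y.2
  · intro a ha
    apply Subtype.ext
    have := he a.1 ha
    simpa using this

theorem card_omegaE_le (hp3 : 3 < p) (R : Subgroup G) (hR : IsPGroup p R)
    (hr : Cfsg.PRankLE p 2 R) : Nat.card ↥(omegaE hp3 R hR hr) ≤ p ^ 3 := by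
  set E := omegaE hp3 R hR hr with hE
  apply helper18.RankTwo.card_le_cube
  · intro g
    apply Subtype.ext
    have := g.2.2
    simpa using this
  · intro B hB
    have h1 : Nat.card ↥(B.map E.subtype) = Nat.card B :=
      Subgroup.card_map_of_injective E.subtype_injective
    rw [← h1]
    apply rank_le_of_le R hr
    · rintro _ ⟨b, -, rfl⟩; exact b.2.1
    · rintro _ ⟨x, hx, rfl⟩ _ ⟨y, hy, rfl⟩
      have := hB.is_comm.comm ⟨x, hx⟩ ⟨y, hy⟩
      have h2 := congrArg Subtype.val this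
      have h3 := congrArg Subtype.val h2
      simpa using h3
    · rintro _ ⟨b, -, rfl⟩; exact b.2.2

/-- If `Ω₁(R)` has more than `p²` elements it is non-abelian of order `p³`. -/
theorem omegaE_big (hp3 : 3 < p) (R : Subgroup G) (hR : IsPGroup p R)
    (hr : Cfsg.PRankLE p 2 R) (hbig : p ^ 2 < Nat.card ↥(omegaE hp3 R hR hr)) :
    Nat.card ↥(omegaE hp3 R hR hr) = p ^ 3 ∧
      ¬ ∀ a b : ↥(omegaE hp3 R hR hr), a * b = b * a := by
  set E := omegaE hp3 R hR hr with hE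
  have hp1 : 1 < p := hp.out.one_lt
  have hEp : IsPGroup p ↥E := hR.to_le (omegaE_le hp3 R hR hr)
  obtain ⟨k, hk⟩ := hEp.exists_card_eq
  have h3 := card_omegaE_le hp3 R hR hr
  rw [← hE, hk] at h3
  rw [hk] at hbig
  have hk3 : k ≤ 3 := (Nat.pow_le_pow_iff_right hp1).1 h3
  have hk2 : 2 < k := (Nat.pow_lt_pow_iff_right hp1).1 hbig
  have hk' : k = 3 := by omega
  refine ⟨by rw [hk, hk'], ?_⟩
  intro hcomm
  have := rank_le_of_le R hr E (omegaE_le hp3 R hR hr)
    (fun x hx y hy => congrArg Subtype.val (hcomm ⟨x, hx⟩ ⟨y, hy⟩)) (fun x hx => hx.2)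
  rw [hk] at this
  have : k ≤ 2 := (Nat.pow_le_pow_iff_right hp1).1 this
  omega

/-- The centre of a non-abelian subgroup `E` of order `p³`, inside the ambient group. -/
theorem es_center (E : Subgroup G) (hEc : Nat.card E = p ^ 3)
    (hEn : ¬ ∀ a b : ↥E, a * b = b * a) :
    ∃ Z : Subgroup G, Z ≤ E ∧ Nat.card Z = p ∧ (∀ z ∈ Z, ∀ e ∈ E, e * z = z * e) ∧
      (∀ g ∈ E, (∀ e ∈ E, e * g = g * e) → g ∈ Z) ∧ (∀ a ∈ E, ∀ b ∈ E, ⁅a, b⁆ ∈ Z) ∧
      ⁅E, E⁆ = Z := by
  obtain ⟨h1, h2, -⟩ := helper17.P3.nonab_facts (H := ↥E) (p := p) hEc hEn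
  set Z := (Subgroup.center ↥E).map E.subtype with hZ
  have hZE : Z ≤ E := by
    rintro _ ⟨z, -, rfl⟩; exact z.2
  have hZc : Nat.card Z = p := by
    rw [hZ, Subgroup.card_map_of_injective E.subtype_injective]; exact h1
  have hcomm : ∀ z ∈ Z, ∀ e ∈ E, e * z = z * e := by
    rintro _ ⟨z, hz, rfl⟩ e he
    have := Subgroup.mem_center_iff.1 hz ⟨e, he⟩
    exact congrArg Subtype.val this
  have hmem : ∀ g ∈ E, (∀ e ∈ E, e * g = g * e) → g ∈ Z := by
    intro g hg hc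
    refine ⟨⟨g, hg⟩, ?_, rfl⟩
    show (⟨g, hg⟩ : ↥E) ∈ Subgroup.center ↥E
    rw [Subgroup.mem_center_iff]
    intro e
    exact Subtype.ext (hc e.1 e.2)
  have hcomZ : ∀ a ∈ E, ∀ b ∈ E, ⁅a, b⁆ ∈ Z := by
    intro a ha b hb
    refine ⟨⁅(⟨a, ha⟩ : ↥E), ⟨b, hb⟩⁆, h2 _ _, ?_⟩
    simp [commutatorElement_def]
  refine ⟨Z, hZE, hZc, hcomm, hmem, hcomZ, ?_⟩
  have hle : ⁅E, E⁆ ≤ Z := by
    rw [Subgroup.commutator_le]
    exact fun a ha b hb => hcomZ a ha b hb
  have hne : ⁅E, E⁆ ≠ ⊥ := by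
    intro hbot
    apply hEn
    intro a b
    apply Subtype.ext
    have : ⁅(a : G), (b : G)⁆ ∈ ⁅E, E⁆ := Subgroup.commutator_mem_commutator a.2 b.2
    rw [hbot, Subgroup.mem_bot, commutatorElement_eq_one_iff_commute] at this
    exact this.eq
  have hdvd : Nat.card ↥⁅E, E⁆ ∣ p := hZc ▸ Subgroup.card_dvd_of_le hle
  have hcard : Nat.card ↥⁅E, E⁆ = p := by
    rcases (Nat.dvd_prime hp.out).1 hdvd with h | h
    · exact absurd ((Subgroup.card_eq_one).1 h) hne
    · exact h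
  exact Subgroup.eq_of_le_of_card_ge hle (by rw [hcard, hZc])

/-- `C_R(E)` is cyclic with `Ω₁(C_R(E)) ≤ Z(E)`. -/
theorem es_centralizer_cyclic (hp5 : 5 ≤ p) (R : Subgroup G) (hR : IsPGroup p R) (E Z : Subgroup G)
    (hE : ∀ g, g ∈ E ↔ g ∈ R ∧ g ^ p = 1) (hZc : Nat.card Z = p)
    (hZmem : ∀ g ∈ E, (∀ e ∈ E, e * g = g * e) → g ∈ Z) :
    IsCyclic ↥(R ⊓ Subgroup.centralizer (E : Set G)) ∧
      ∀ g ∈ R ⊓ Subgroup.centralizer (E : Set G), g ^ p = 1 → g ∈ Z := by
  have hp2 : p ≠ 2 := by omega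
  have hsec : ∀ g ∈ R ⊓ Subgroup.centralizer (E : Set G), g ^ p = 1 → g ∈ Z := by
    intro g hg hgp
    have hgE : g ∈ E := (hE g).2 ⟨hg.1, hgp⟩
    apply hZmem g hgE
    intro e he
    exact Subgroup.mem_centralizer_iff.1 hg.2 e he
  refine ⟨?_, hsec⟩
  set C := R ⊓ Subgroup.centralizer (E : Set G) with hC
  have hCp : IsPGroup p ↥C := hR.to_le inf_le_left
  have hn : {x : ↥C | x ^ p = 1}.ncard ≤ p := by
    have h1 : {x : ↥C | x ^ p = 1}.ncard ≤ (Z : Set G).ncard := by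
      apply Set.ncard_le_ncard_of_injOn (fun x : ↥C => (x : G))
      · intro x hx
        have hx' : x ^ p = 1 := hx
        apply hsec x.1 x.2
        have := congrArg Subtype.val hx'
        simpa using this
      · intro x _ y _ hxy
        exact Subtype.ext hxy
    have h2 : (Z : Set G).ncard = Nat.card Z := (Nat.card_coe_set_eq _).symm
    rw [h2, hZc] at h1
    exact h1
  have hm : Cfsg.IsMetacyclic ↥C := by
    apply meta_of_small_omega hp5 _ ↥C rfl hCp
    refine hn.trans ?_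
    calc p = p ^ 1 := (pow_one p).symm
      _ ≤ p ^ 2 := Nat.pow_le_pow_right hp.out.pos (by norm_num)
  exact helper19.isCyclic_of_ncard_pow_p_le hp2 hCp hm hn

/-- If `R` acts trivially on `E/Z(E)` then `R = E C_R(E)`. -/
theorem es_trivial_action (R : Subgroup G) (hR : IsPGroup p R) (E Z : Subgroup G)
    (hER : E ≤ R) (hEc : Nat.card E = p ^ 3) (hEn : ¬ ∀ a b : ↥E, a * b = b * a)
    (hZc : Nat.card Z = p) (hZmem : ∀ g ∈ E, (∀ e ∈ E, e * g = g * e) → g ∈ Z)
    (htriv : ∀ r ∈ R, ∀ e ∈ E, ⁅r, e⁆ ∈ Z) :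
    E ⊔ (R ⊓ Subgroup.centralizer (E : Set G)) = R := by
  have hp1 : 1 < p := hp.out.one_lt
  set C := R ⊓ Subgroup.centralizer (E : Set G) with hC
  push Not at hEn
  obtain ⟨⟨e₁, he₁⟩, ⟨e₂, he₂⟩, hne⟩ := hEn
  have hne' : e₁ * e₂ ≠ e₂ * e₁ := fun h => hne (Subtype.ext h)
  -- the two generators generate E
  have hF : Subgroup.closure ({e₁, e₂} : Set G) = E := by
    set F := Subgroup.closure ({e₁, e₂} : Set G) with hFdef
    have hFE : F ≤ E := by
      rw [hFdef, Subgroup.closure_le]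
      rintro x (rfl | rfl)
      · exact he₁
      · exact he₂
    have hFp : IsPGroup p ↥F := (hR.to_le hER).to_le hFE
    have h1 : ¬ Nat.card F ≤ p ^ 2 := by
      intro hle
      have hc := comm_of_card_le_sq hFp hle
      have h1 : e₁ ∈ F := Subgroup.subset_closure (by simp)
      have h2 : e₂ ∈ F := Subgroup.subset_closure (by simp)
      exact hne' (congrArg Subtype.val (hc ⟨e₁, h1⟩ ⟨e₂, h2⟩))
    obtain ⟨k, hk⟩ := hFp.exists_card_eq
    have h3 : Nat.card F ≤ p ^ 3 := hEc ▸ Subgroup.card_le_of_le hFE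
    rw [hk] at h1 h3
    have hk3 : k ≤ 3 := (Nat.pow_le_pow_iff_right hp1).1 h3
    have hk2 : 2 < k := by
      by_contra hcon
      exact h1 (Nat.pow_le_pow_right hp.out.pos (by omega))
    apply Subgroup.eq_of_le_of_card_ge hFE
    rw [hk, hEc, show k = 3 by omega]
  have hcomm : ∀ n ∈ R, ∀ e ∈ E, n * e * n⁻¹ * e⁻¹ ∈ Z := by
    intro n hn e he
    have := htriv n hn e he
    rwa [commutatorElement_def] at this
  have h1 := card_le_of_comm_mem R Z e₁ (fun n hn => hcomm n hn e₁ he₁)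
  have h2 := card_le_of_comm_mem (R ⊓ Subgroup.centralizer ({e₁} : Set G)) Z e₂
    (fun n hn => hcomm n hn.1 e₂ he₂)
  have h3 : R ⊓ Subgroup.centralizer ({e₁} : Set G) ⊓ Subgroup.centralizer ({e₂} : Set G) ≤ C := by
    intro g hg
    refine ⟨hg.1.1, ?_⟩
    have hg1 : e₁ * g = g * e₁ := Subgroup.mem_centralizer_iff.1 hg.1.2 e₁ rfl
    have hg2 : e₂ * g = g * e₂ := Subgroup.mem_centralizer_iff.1 hg.2 e₂ rfl
    have hcl : Subgroup.closure ({e₁, e₂} : Set G) ≤ Subgroup.centralizer ({g} : Set G) := by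
      rw [Subgroup.closure_le]
      rintro x (rfl | rfl)
      · exact Subgroup.mem_centralizer_iff.2 (fun y hy => by
          rw [Set.mem_singleton_iff] at hy; subst hy; exact hg1.symm)
      · exact Subgroup.mem_centralizer_iff.2 (fun y hy => by
          rw [Set.mem_singleton_iff] at hy; subst hy; exact hg2.symm)
    show g ∈ Subgroup.centralizer (E : Set G)
    rw [Subgroup.mem_centralizer_iff]
    intro e he
    have he' : e ∈ Subgroup.closure ({e₁, e₂} : Set G) := by rw [hF]; exact he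
    have := Subgroup.mem_centralizer_iff.1 (hcl he') g rfl
    exact this.symm
  have h4 : Nat.card R ≤ p * (p * Nat.card C) := by
    rw [hZc] at h1 h2
    calc Nat.card R ≤ p * Nat.card ↥(R ⊓ Subgroup.centralizer ({e₁} : Set G)) := h1
      _ ≤ p * (p * Nat.card ↥(R ⊓ Subgroup.centralizer ({e₁} : Set G) ⊓
            Subgroup.centralizer ({e₂} : Set G))) := Nat.mul_le_mul_left _ h2
      _ ≤ p * (p * Nat.card C) :=
          Nat.mul_le_mul_left _ (Nat.mul_le_mul_left _ (Subgroup.card_le_of_le h3))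
  have h5 := helper19.card_mul_card_le_sup_inf E C
  have h6 : Nat.card ↥(E ⊓ C) ≤ p := by
    rw [← hZc]
    apply Subgroup.card_le_of_le
    intro g hg
    apply hZmem g hg.1
    intro e he
    exact Subgroup.mem_centralizer_iff.1 hg.2.2 e he
  have hle : E ⊔ C ≤ R := sup_le hER inf_le_left
  apply Subgroup.eq_of_le_of_card_ge hle
  have h7 : p ^ 3 * Nat.card C ≤ Nat.card ↥(E ⊔ C) * p := by
    rw [← hEc]
    exact h5.trans (Nat.mul_le_mul_left _ h6)
  have h8 : p * (p * Nat.card C) ≤ Nat.card ↥(E ⊔ C) := by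
    have : (p * (p * Nat.card C)) * p ≤ Nat.card ↥(E ⊔ C) * p := by
      calc (p * (p * Nat.card C)) * p = p ^ 3 * Nat.card C := by ring
        _ ≤ _ := h7
    exact Nat.le_of_mul_le_mul_right this hp.out.pos
  exact h4.trans h8

end Cfsg.Agent.helper23
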