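import Mathlib
import Cfsg.Statements.S3775

set_option autoImplicit false
open Cfsg

namespace Cfsg.Agent.S3775

variable {A : Type*} [CommGroup A] [Finite A] {Xg : Type*} [Group Xg] [Finite Xg]

/-- Invariance of a subgroup under an action by automorphisms. -/
def Inv (φ : Xg →* MulAut A) (B : Subgroup A) : Prop := ∀ x : Xg, ∀ b ∈ B, φ x b ∈ B

/-- A plain (not necessarily invariant) relative complement in an elementary abelian section. -/
theorem exists_plain_compl {p : ℕ} [hp : Fact p.Prime] (C U Y : Subgroup A) (hCU : C ≤ U)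
    (hUY : U ≤ Y) (hY : ∀ y ∈ Y, y ^ p ∈ C) :
    ∃ W : Subgroup A, C ≤ W ∧ W ≤ Y ∧ U ⊓ W ≤ C ∧ U ⊔ W = Y := by
  obtain ⟨W, -, hWmax⟩ := Finite.exists_le_maximal
    (p := fun W : Subgroup A => C ≤ W ∧ W ≤ Y ∧ U ⊓ W ≤ C) (a := C)
    ⟨le_rfl, hCU.trans hUY, inf_le_right⟩
  obtain ⟨⟨hCW, hWY, hUW⟩, hmax⟩ := hWmax
  refine ⟨W, hCW, hWY, hUW, le_antisymm (sup_le hUY hWY) ?_⟩
  intro v hv
  by_contra hvn
  have h1 : C ≤ W ⊔ Subgroup.zpowers v := hCW.trans le_sup_left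
  have h2 : W ⊔ Subgroup.zpowers v ≤ Y := sup_le hWY (Subgroup.zpowers_le.mpr hv)
  have h3 : U ⊓ (W ⊔ Subgroup.zpowers v) ≤ C := by
    intro u hu
    obtain ⟨huU, huW⟩ := Subgroup.mem_inf.mp hu
    obtain ⟨w, hw, z, hz, hwz⟩ := Subgroup.mem_sup.mp huW
    obtain ⟨k, rfl⟩ := Subgroup.mem_zpowers_iff.mp hz
    by_cases hpk : (p : ℤ) ∣ k
    · obtain ⟨j, rfl⟩ := hpk
      have hvC : v ^ ((p : ℤ) * j) ∈ C := by
        rw [zpow_mul, zpow_natCast]; exact C.zpow_mem (hY v hv) j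
      apply hUW
      refine Subgroup.mem_inf.mpr ⟨huU, ?_⟩
      rw [← hwz]; exact W.mul_mem hw (hCW hvC)
    · exfalso
      apply hvn
      have hirr : Irreducible (p : ℤ) := (Nat.prime_iff_prime_int.mp hp.out).irreducible
      have hcop : IsCoprime (p : ℤ) k := (Irreducible.coprime_iff_not_dvd hirr).mpr hpk
      obtain ⟨t, s, hst⟩ := hcop
      have hvk : v ^ k ∈ U ⊔ W := by
        have : v ^ k = w⁻¹ * u := by rw [← hwz]; group
        rw [this]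
        exact (U ⊔ W).mul_mem ((U ⊔ W).inv_mem (le_sup_right (a := U) hw))
          (le_sup_left (b := W) huU)
      have hvp : v ^ (p : ℤ) ∈ U ⊔ W := by
        rw [zpow_natCast]; exact le_sup_right (a := U) (hCW (hY v hv))
      have : v = (v ^ (p : ℤ)) ^ t * (v ^ k) ^ s := by
        rw [← zpow_mul, ← zpow_mul, ← zpow_add, mul_comm (p : ℤ) t, mul_comm k s, hst, zpow_one]
      rw [this]
      exact (U ⊔ W).mul_mem ((U ⊔ W).zpow_mem hvp t) ((U ⊔ W).zpow_mem hvk s)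
  have h4 := hmax ⟨h1, h2, h3⟩ le_sup_left
  exact hvn (le_sup_right (a := U) (h4 (le_sup_right (a := W) (Subgroup.mem_zpowers v))))

/-- Relative Maschke: an invariant subgroup `U` with `C ≤ U ≤ Y`, `Y/C` elementary abelian, has an
invariant relative complement. -/
theorem rel_maschke {p : ℕ} [hp : Fact p.Prime] (φ : Xg →* MulAut A)
    (hcop : (Nat.card Xg).Coprime p)
    (C U Y : Subgroup A) (hC : Inv φ C) (hU : Inv φ U) (hYi : Inv φ Y) (hCU : C ≤ U) (hUY : U ≤ Y)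
    (hY : ∀ y ∈ Y, y ^ p ∈ C) :
    ∃ W : Subgroup A, Inv φ W ∧ C ≤ W ∧ W ≤ Y ∧ U ⊓ W = C ∧ U ⊔ W = Y := by
  classical
  haveI : Fintype Xg := Fintype.ofFinite Xg
  obtain ⟨W₀, hCW₀, hW₀Y, hUW₀, hsup⟩ := exists_plain_compl (p := p) C U Y hCU hUY hY
  have hex : ∀ y : A, ∃ u : A, y ∈ Y → (u ∈ U ∧ u⁻¹ * y ∈ W₀) := by
    intro y
    by_cases hy : y ∈ Y
    · rw [← hsup] at hy
      obtain ⟨u, hu, w, hw, huw⟩ := Subgroup.mem_sup.mp hy
      refine ⟨u, fun _ => ⟨hu, ?_⟩⟩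
      rw [← huw, inv_mul_cancel_left]; exact hw
    · exact ⟨1, fun h => absurd h hy⟩
  choose proj hproj using hex
  obtain ⟨π, hπdef⟩ : ∃ π : A →* A ⧸ C, π = QuotientGroup.mk' C := ⟨_, rfl⟩
  have hπ1 : ∀ a : A, π a = 1 ↔ a ∈ C := by
    intro a; rw [hπdef, QuotientGroup.mk'_apply, QuotientGroup.eq_one_iff]
  have hπeq : ∀ a b : A, π a = π b ↔ a⁻¹ * b ∈ C := by
    intro a b; rw [hπdef, QuotientGroup.mk'_apply, QuotientGroup.mk'_apply, QuotientGroup.eq]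
  have hK : ∀ y ∈ Y, ∀ u ∈ U, u⁻¹ * y ∈ W₀ → π (proj y) = π u := by
    intro y hy u hu huy
    obtain ⟨h1, h2⟩ := hproj y hy
    rw [hπeq]
    apply hUW₀
    refine Subgroup.mem_inf.mpr ⟨U.mul_mem (U.inv_mem h1) hu, ?_⟩
    have : (proj y)⁻¹ * u = ((proj y)⁻¹ * y) * (u⁻¹ * y)⁻¹ := by group
    rw [this]
    exact W₀.mul_mem h2 (W₀.inv_mem huy)
  have hmul : ∀ y₁ ∈ Y, ∀ y₂ ∈ Y, π (proj (y₁ * y₂)) = π (proj y₁) * π (proj y₂) := by
    intro y₁ h₁ y₂ h₂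
    obtain ⟨a1, a2⟩ := hproj y₁ h₁
    obtain ⟨b1, b2⟩ := hproj y₂ h₂
    rw [← map_mul]
    apply hK _ (Y.mul_mem h₁ h₂) _ (U.mul_mem a1 b1)
    have : (proj y₁ * proj y₂)⁻¹ * (y₁ * y₂) = ((proj y₁)⁻¹ * y₁) * ((proj y₂)⁻¹ * y₂) := by
      rw [mul_inv, mul_mul_mul_comm]
    rw [this]; exact W₀.mul_mem a2 b2
  have hprojU : ∀ u ∈ U, π (proj u) = π u := by
    intro u hu
    apply hK u (hUY hu) u hu
    rw [inv_mul_cancel]; exact W₀.one_mem
  have hφ : ∀ (x : Xg) (a b : A), π a = π b → π (φ x a) = π (φ x b) := by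
    intro x a b hab
    rw [hπeq] at hab ⊢
    have := hC x _ hab
    rwa [map_mul, map_inv] at this
  have hφφ : ∀ (x : Xg) (a : A), φ x (φ x⁻¹ a) = a := by
    intro x a
    rw [← MulAut.mul_apply, ← map_mul, mul_inv_cancel, map_one, MulAut.one_apply]
  obtain ⟨ψ, hψdef⟩ : ∃ ψ : A → A, ψ = fun y => ∏ x : Xg, φ x (proj (φ x⁻¹ y)) := ⟨_, rfl⟩
  have hψmul : ∀ y₁ ∈ Y, ∀ y₂ ∈ Y, π (ψ (y₁ * y₂)) = π (ψ y₁) * π (ψ y₂) := by
    intro y₁ h₁ y₂ h₂
    simp only [hψdef, map_prod]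
    rw [← Finset.prod_mul_distrib]
    apply Finset.prod_congr rfl
    intro x _
    rw [← map_mul π, ← map_mul (φ x)]
    apply hφ
    rw [map_mul (φ x⁻¹), map_mul π]
    exact hmul _ (hYi x⁻¹ _ h₁) _ (hYi x⁻¹ _ h₂)
  have hψU : ∀ u ∈ U, π (ψ u) = π u ^ Nat.card Xg := by
    intro u hu
    simp only [hψdef, map_prod]
    have : ∀ x ∈ (Finset.univ : Finset Xg), π (φ x (proj (φ x⁻¹ u))) = π u := by
      intro x _
      have h1 := hprojU (φ x⁻¹ u) (hU x⁻¹ u hu)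
      have h2 := hφ x _ _ h1
      rw [h2, hφφ]
    rw [Finset.prod_congr rfl this, Finset.prod_const, Finset.card_univ, Nat.card_eq_fintype_card]
  have hψ1 : π (ψ 1) = 1 := by
    have := hψmul 1 Y.one_mem 1 Y.one_mem
    rw [mul_one] at this
    exact mul_eq_left.mp this.symm
  have hψinU : ∀ y ∈ Y, ψ y ∈ U := by
    intro y hy
    rw [hψdef]
    exact Subgroup.prod_mem U (fun x _ => hU x _ (hproj _ (hYi x⁻¹ y hy)).1)
  have hψeq : ∀ (t : Xg) (y : A), ψ (φ t y) = φ t (ψ y) := by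
    intro t y
    simp only [hψdef, map_prod]
    rw [← Equiv.prod_comp (Equiv.mulLeft t)]
    apply Finset.prod_congr rfl
    intro x _
    simp only [Equiv.coe_mulLeft]
    rw [map_mul, MulAut.mul_apply]
    have : φ (t * x)⁻¹ (φ t y) = φ x⁻¹ y := by
      rw [mul_inv_rev, map_mul, MulAut.mul_apply]
      congr 1
      rw [← MulAut.mul_apply, ← map_mul, inv_mul_cancel, map_one, MulAut.one_apply]
    rw [this]
  let W : Subgroup A :=
    { carrier := {y | y ∈ Y ∧ π (ψ y) = 1}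
      one_mem' := ⟨Y.one_mem, hψ1⟩
      mul_mem' := by
        rintro a b ⟨ha, ha'⟩ ⟨hb, hb'⟩
        exact ⟨Y.mul_mem ha hb, by rw [hψmul a ha b hb, ha', hb', one_mul]⟩
      inv_mem' := by
        rintro a ⟨ha, ha'⟩
        refine ⟨Y.inv_mem ha, ?_⟩
        have := hψmul a ha a⁻¹ (Y.inv_mem ha)
        rw [mul_inv_cancel, hψ1, ha', one_mul] at this
        exact this.symm }
  have hWmem : ∀ y, y ∈ W ↔ y ∈ Y ∧ π (ψ y) = 1 := fun y => Iff.rfl
  have hCW : C ≤ W := by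
    intro c hc
    rw [hWmem]
    refine ⟨hUY (hCU hc), ?_⟩
    rw [hψU c (hCU hc), (hπ1 c).mpr hc, one_pow]
  have hWY : W ≤ Y := fun y hy => ((hWmem y).mp hy).1
  refine ⟨W, ?_, hCW, hWY, ?_, ?_⟩
  · intro t y hy
    obtain ⟨hyY, hy1⟩ := (hWmem y).mp hy
    rw [hWmem]
    refine ⟨hYi t y hyY, ?_⟩
    rw [hψeq]
    have := hφ t (ψ y) 1 (by rw [hy1, map_one])
    rw [this, map_one, map_one]
  · apply le_antisymm
    · intro u hu
      obtain ⟨huU, huW⟩ := Subgroup.mem_inf.mp hu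
      obtain ⟨-, hu1⟩ := (hWmem u).mp huW
      rw [hψU u huU] at hu1
      have hp1 : π u ^ p = 1 := by
        rw [← map_pow]; exact (hπ1 _).mpr (hY u (hUY huU))
      have : π u = 1 := by
        have h1 : orderOf (π u) ∣ Nat.card Xg := orderOf_dvd_of_pow_eq_one hu1
        have h2 : orderOf (π u) ∣ p := orderOf_dvd_of_pow_eq_one hp1
        have h3 := Nat.dvd_gcd h1 h2
        rw [hcop] at h3
        exact orderOf_eq_one_iff.mp (Nat.dvd_one.mp h3)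
      exact (hπ1 u).mp this
    · exact le_inf hCU hCW
  · apply le_antisymm (sup_le hUY hWY)
    intro y hy
    obtain ⟨s, -, hs⟩ := Nat.exists_mul_mod_eq_one_of_coprime hcop hp.out.one_lt
    have hψyU : ψ y ∈ U := hψinU y hy
    obtain ⟨u, hudef⟩ : ∃ u, u = ψ y ^ s := ⟨_, rfl⟩
    have huU : u ∈ U := by rw [hudef]; exact U.pow_mem hψyU s
    rw [Subgroup.mem_sup]
    refine ⟨u, huU, u⁻¹ * y, ?_, by group⟩
    rw [hWmem]
    refine ⟨Y.mul_mem (Y.inv_mem (hUY huU)) hy, ?_⟩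
    have hinv : π (ψ u⁻¹) = (π (ψ u))⁻¹ := by
      have := hψmul u (hUY huU) u⁻¹ (Y.inv_mem (hUY huU))
      rw [mul_inv_cancel, hψ1] at this
      exact eq_inv_of_mul_eq_one_right this.symm
    rw [hψmul _ (Y.inv_mem (hUY huU)) _ hy, hinv, hψU u huU, hudef, map_pow, ← pow_mul]
    have hap : π (ψ y) ^ p = 1 := by
      rw [← map_pow]; exact (hπ1 _).mpr (hY _ (hUY hψyU))
    have hpow : π (ψ y) ^ (s * Nat.card Xg) = π (ψ y) := by
      have h1 : s * Nat.card Xg = p * (Nat.card Xg * s / p) + 1 := by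
        have := Nat.div_add_mod (Nat.card Xg * s) p
        rw [hs] at this
        rw [mul_comm s]; exact this.symm
      rw [h1, pow_add, pow_mul, hap, one_pow, one_mul, pow_one]
    rw [hpow, inv_mul_cancel]


/-- `Ω_i(A)`. -/
def Om (A : Type*) [CommGroup A] (p i : ℕ) : Subgroup A := (powMonoidHom (p ^ i) : A →* A).ker

theorem mem_Om {p i : ℕ} {a : A} : a ∈ Om A p i ↔ a ^ p ^ i = 1 := by
  rw [Om, MonoidHom.mem_ker, powMonoidHom_apply]

theorem Om_mono {p i j : ℕ} (h : i ≤ j) : Om A p i ≤ Om A p j := by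
  intro a ha
  rw [mem_Om] at ha ⊢
  obtain ⟨k, rfl⟩ := Nat.exists_eq_add_of_le h
  rw [pow_add, pow_mul, ha, one_pow]

theorem Om_zero {p : ℕ} : Om A p 0 = ⊥ := by
  ext a
  rw [mem_Om, pow_zero, pow_one, Subgroup.mem_bot]

theorem inv_Om (φ : Xg →* MulAut A) (p i : ℕ) : Inv φ (Om A p i) := by
  intro x a ha
  rw [mem_Om] at ha ⊢
  rw [← map_pow, ha, map_one]

theorem inv_inf (φ : Xg →* MulAut A) {B C : Subgroup A} (hB : Inv φ B) (hC : Inv φ C) :
    Inv φ (B ⊓ C) := by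
  intro x a ha
  obtain ⟨h1, h2⟩ := Subgroup.mem_inf.mp ha
  exact Subgroup.mem_inf.mpr ⟨hB x a h1, hC x a h2⟩

theorem inv_sup (φ : Xg →* MulAut A) {B C : Subgroup A} (hB : Inv φ B) (hC : Inv φ C) :
    Inv φ (B ⊔ C) := by
  intro x a ha
  obtain ⟨b, hb, c, hc, rfl⟩ := Subgroup.mem_sup.mp ha
  rw [map_mul]
  exact Subgroup.mem_sup.mpr ⟨_, hB x b hb, _, hC x c hc, rfl⟩

theorem inv_map_pow (φ : Xg →* MulAut A) {B : Subgroup A} (hB : Inv φ B) (k : ℕ) :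
    Inv φ (B.map (powMonoidHom k : A →* A)) := by
  rintro x _ ⟨b, hb, rfl⟩
  refine ⟨φ x b, hB x b hb, ?_⟩
  rw [powMonoidHom_apply, powMonoidHom_apply, map_pow]

theorem inv_comap_pow (φ : Xg →* MulAut A) {B : Subgroup A} (hB : Inv φ B) (k : ℕ) :
    Inv φ (B.comap (powMonoidHom k : A →* A)) := by
  intro x a ha
  rw [Subgroup.mem_comap, powMonoidHom_apply] at ha ⊢
  rw [← map_pow]
  exact hB x _ ha

theorem inv_bot (φ : Xg →* MulAut A) : Inv φ (⊥ : Subgroup A) := by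
  intro x a ha
  rw [Subgroup.mem_bot] at ha ⊢
  rw [ha, map_one]

theorem inv_top (φ : Xg →* MulAut A) : Inv φ (⊤ : Subgroup A) := fun _ _ _ => Subgroup.mem_top _

/-- (iii) ⟹ (ii). -/
theorem iii_to_ii {p : ℕ} [hp : Fact p.Prime] (hA : IsPGroup p A) (φ : Xg →* MulAut A)
    (h3 : ∀ B : Subgroup A, Inv φ B → (∀ b ∈ B, b ^ p = 1) → B = ⊥ ∨ ∀ a : A, a ∈ B ↔ a ^ p = 1)
    (B : Subgroup A) (hB : Inv φ B) : ∃ i : ℕ, ∀ a : A, a ∈ B ↔ a ^ p ^ i = 1 := by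
  -- the key claim
  have key : ∀ i : ℕ, ∀ B : Subgroup A, Inv φ B → B ≤ Om A p (i + 1) → ¬ B ≤ Om A p i →
      Om A p (i + 1) ≤ B := by
    intro i
    induction i with
    | zero =>
      intro B hB hle hnle
      have h1 : ∀ b ∈ B, b ^ p = 1 := by
        intro b hb
        have := mem_Om.mp (hle hb)
        rwa [zero_add, pow_one] at this
      rcases h3 B hB h1 with h | h
      · exfalso; apply hnle; rw [h]; exact bot_le
      · intro a ha
        rw [mem_Om, zero_add, pow_one] at ha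
        exact (h a).mpr ha
    | succ i ih =>
      intro B hB hle hnle
      -- an element of full order
      obtain ⟨b0, hb0, hb0n⟩ : ∃ b ∈ B, b ∉ Om A p (i + 1) := by
        by_contra hcon
        push Not at hcon
        exact hnle hcon
      rw [mem_Om] at hb0n
      -- B' = B ⊓ Ω_{i+1}
      have hB' : Om A p (i + 1) ≤ B ⊓ Om A p (i + 1) := by
        apply ih _ (inv_inf φ hB (inv_Om φ p (i + 1))) inf_le_right
        intro hcon
        have h1 : b0 ^ p ∈ B ⊓ Om A p (i + 1) := by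
          refine Subgroup.mem_inf.mpr ⟨B.pow_mem hb0 p, ?_⟩
          rw [mem_Om, ← pow_mul, ← pow_succ']
          exact mem_Om.mp (hle hb0)
        have h2 := mem_Om.mp (hcon h1)
        rw [← pow_mul, ← pow_succ'] at h2
        exact hb0n h2
      have hΩB : Om A p (i + 1) ≤ B := hB'.trans inf_le_left
      -- B'' = image of B under p^(i+1)-th power
      have hB''inv := inv_map_pow φ hB (p ^ (i + 1))
      have hB''1 : ∀ c ∈ B.map (powMonoidHom (p ^ (i + 1)) : A →* A), c ^ p = 1 := by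
        rintro _ ⟨b, hb, rfl⟩
        rw [powMonoidHom_apply, ← pow_mul, ← pow_succ]
        exact mem_Om.mp (hle hb)
      rcases h3 _ hB''inv hB''1 with h | h
      · exfalso
        have : b0 ^ p ^ (i + 1) ∈ B.map (powMonoidHom (p ^ (i + 1)) : A →* A) :=
          ⟨b0, hb0, powMonoidHom_apply _ _⟩
        rw [h, Subgroup.mem_bot] at this
        exact hb0n this
      · intro a ha
        rw [mem_Om] at ha
        have h1 : (a ^ p ^ (i + 1)) ^ p = 1 := by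
          rw [← pow_mul, ← pow_succ]; exact ha
        obtain ⟨b, hb, hba⟩ := (h _).mpr h1
        rw [powMonoidHom_apply] at hba
        have h2 : a * b⁻¹ ∈ Om A p (i + 1) := by
          rw [mem_Om, mul_pow, inv_pow, hba, mul_inv_cancel]
        have h3 : a = (a * b⁻¹) * b := by group
        rw [h3]
        exact B.mul_mem (hΩB h2) hb
  -- B ≤ Ω_N for some N
  have hN : ∃ N : ℕ, B ≤ Om A p N := by
    obtain ⟨N, hN⟩ := (IsPGroup.iff_card).mp hA
    refine ⟨N, fun a _ => ?_⟩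
    rw [mem_Om, ← hN]; exact pow_card_eq_one'
  classical
  obtain ⟨i, hi, himin⟩ : ∃ i, B ≤ Om A p i ∧ ∀ j, B ≤ Om A p j → i ≤ j :=
    ⟨Nat.find hN, Nat.find_spec hN, fun j hj => Nat.find_min' hN hj⟩
  refine ⟨i, fun a => ?_⟩
  rw [← mem_Om]
  constructor
  · exact fun ha => hi ha
  · intro ha
    rcases Nat.eq_zero_or_pos i with h0 | hpos
    · rw [h0, Om_zero, Subgroup.mem_bot] at ha
      rw [ha]; exact B.one_mem
    · obtain ⟨j, rfl⟩ : ∃ j, i = j + 1 := ⟨i - 1, by omega⟩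
      apply key j B hB hi _ ha
      intro hcon
      have := himin j hcon
      omega

/-- (ii) ⟹ (iii). -/
theorem ii_to_iii {p : ℕ} [hp : Fact p.Prime] (φ : Xg →* MulAut A)
    (h2 : ∀ B : Subgroup A, Inv φ B → ∃ i : ℕ, ∀ a : A, a ∈ B ↔ a ^ p ^ i = 1)
    (B : Subgroup A) (hB : Inv φ B) (hB1 : ∀ b ∈ B, b ^ p = 1) :
    B = ⊥ ∨ ∀ a : A, a ∈ B ↔ a ^ p = 1 := by
  obtain ⟨i, hi⟩ := h2 B hB
  rcases Nat.eq_zero_or_pos i with h0 | hpos
  · left
    ext a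
    rw [hi a, h0, pow_zero, pow_one, Subgroup.mem_bot]
  · right
    intro a
    constructor
    · exact hB1 a
    · intro ha
      rw [hi a]
      obtain ⟨j, rfl⟩ : ∃ j, i = j + 1 := ⟨i - 1, by omega⟩
      rw [pow_succ', pow_mul, ha, one_pow]

/-- (ii) ⟹ (i). -/
theorem ii_to_i {p : ℕ} [hp : Fact p.Prime] (φ : Xg →* MulAut A)
    (h2 : ∀ B : Subgroup A, Inv φ B → ∃ i : ℕ, ∀ a : A, a ∈ B ↔ a ^ p ^ i = 1) :
    ¬ ∃ B C : Subgroup A, B ≠ ⊥ ∧ C ≠ ⊥ ∧ Inv φ B ∧ Inv φ C ∧ B ⊓ C = ⊥ ∧ B ⊔ C = ⊤ := by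
  rintro ⟨B, C, hBne, hCne, hB, hC, hinf, -⟩
  obtain ⟨i, hi⟩ := h2 B hB
  obtain ⟨j, hj⟩ := h2 C hC
  have hBO : B = Om A p i := by ext a; rw [hi a, mem_Om]
  have hCO : C = Om A p j := by ext a; rw [hj a, mem_Om]
  rcases le_total i j with h | h
  · apply hBne
    have : B ≤ C := by rw [hBO, hCO]; exact Om_mono h
    rw [← hinf]; exact (inf_eq_left.mpr this).symm
  · apply hCne
    have : C ≤ B := by rw [hBO, hCO]; exact Om_mono h
    rw [← hinf]; exact (inf_eq_right.mpr this).symm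


/-- (i) ⟹ (iii). -/
theorem i_to_iii {p : ℕ} [hp : Fact p.Prime] (hA : IsPGroup p A) (φ : Xg →* MulAut A)
    (hcop : (Nat.card Xg).Coprime p)
    (h1 : ¬ ∃ B C : Subgroup A, B ≠ ⊥ ∧ C ≠ ⊥ ∧ Inv φ B ∧ Inv φ C ∧ B ⊓ C = ⊥ ∧ B ⊔ C = ⊤)
    (B : Subgroup A) (hB : Inv φ B) (hB1 : ∀ b ∈ B, b ^ p = 1) :
    B = ⊥ ∨ ∀ a : A, a ∈ B ↔ a ^ p = 1 := by
  by_cases hBbot : B = ⊥
  · left; exact hBbot
  right
  have hN : ∃ N : ℕ, (⊤ : Subgroup A) ≤ Om A p N := by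
    obtain ⟨N, hN⟩ := (IsPGroup.iff_card).mp hA
    refine ⟨N, fun a _ => ?_⟩
    rw [mem_Om, ← hN]; exact pow_card_eq_one'
  classical
  obtain ⟨n, hn, hnmin⟩ : ∃ n, (⊤ : Subgroup A) ≤ Om A p n ∧
      ∀ j, (⊤ : Subgroup A) ≤ Om A p j → n ≤ j :=
    ⟨Nat.find hN, Nat.find_spec hN, fun j hj => Nat.find_min' hN hj⟩
  have hn1 : 1 ≤ n := by
    by_contra h
    have h0 : n = 0 := by omega
    rw [h0, Om_zero] at hn
    apply hBbot
    exact le_bot_iff.mp (le_top.trans hn)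
  obtain ⟨m, rfl⟩ : ∃ m, n = m + 1 := ⟨n - 1, by omega⟩
  have hexp : ∀ a : A, a ^ p ^ (m + 1) = 1 := fun a => mem_Om.mp (hn (Subgroup.mem_top a))
  obtain ⟨θ, hθdef⟩ : ∃ θ : A →* A, θ = powMonoidHom (p ^ m) := ⟨_, rfl⟩
  have hθ : ∀ a : A, θ a = a ^ p ^ m := by intro a; rw [hθdef, powMonoidHom_apply]
  have hθinv : ∀ {D : Subgroup A}, Inv φ D → Inv φ (D.map θ) := by
    intro D hD; rw [hθdef]; exact inv_map_pow φ hD _
  have hθinvc : ∀ {D : Subgroup A}, Inv φ D → Inv φ (D.comap θ) := by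
    intro D hD; rw [hθdef]; exact inv_comap_pow φ hD _
  obtain ⟨a₀, ha₀⟩ : ∃ a₀ : A, a₀ ^ p ^ m ≠ 1 := by
    by_contra hcon
    push Not at hcon
    have : (⊤ : Subgroup A) ≤ Om A p m := fun a _ => mem_Om.mpr (hcon a)
    have := hnmin m this
    omega
  have hZne : (⊤ : Subgroup A).map θ ≠ ⊥ := by
    intro h
    have : θ a₀ ∈ (⊤ : Subgroup A).map θ := ⟨a₀, Subgroup.mem_top _, rfl⟩
    rw [h, Subgroup.mem_bot, hθ] at this
    exact ha₀ this
  obtain ⟨V, -, hVmin⟩ := Finite.exists_le_minimal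
    (p := fun V : Subgroup A => Inv φ V ∧ V ≠ ⊥ ∧ V ≤ (⊤ : Subgroup A).map θ)
    (a := (⊤ : Subgroup A).map θ) ⟨hθinv (inv_top φ), hZne, le_rfl⟩
  obtain ⟨⟨hVinv, hVne, hVZ⟩, hVm⟩ := hVmin
  have hVΩ : ∀ v ∈ V, v ^ p = 1 := by
    intro v hv
    obtain ⟨a, -, rfl⟩ := hVZ hv
    rw [hθ, ← pow_mul, ← pow_succ]; exact hexp a
  obtain ⟨Q, -, hQmin⟩ := Finite.exists_le_minimal
    (p := fun Q : Subgroup A => Inv φ Q ∧ V ≤ Q.map θ) (a := ⊤) ⟨inv_top φ, hVZ⟩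
  obtain ⟨⟨hQinv, hVQ⟩, hQm⟩ := hQmin
  have hQV : Q.map θ ≤ V := by
    have hQ' : Inv φ (Q ⊓ V.comap θ) := inv_inf φ hQinv (hθinvc hVinv)
    have hVQ' : V ≤ (Q ⊓ V.comap θ).map θ := by
      intro v hv
      obtain ⟨q, hq, rfl⟩ := hVQ hv
      exact ⟨q, Subgroup.mem_inf.mpr ⟨hq, Subgroup.mem_comap.mpr hv⟩, rfl⟩
    have := hQm ⟨hQ', hVQ'⟩ inf_le_left
    rintro _ ⟨q, hq, rfl⟩
    exact Subgroup.mem_comap.mp (Subgroup.mem_inf.mp (this hq)).2
  -- Step A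
  have hKQp : Q ⊓ Om A p m ≤ Q.map (powMonoidHom p : A →* A) := by
    have hCU : Q.map (powMonoidHom p : A →* A) ≤ Q ⊓ Om A p m := by
      rintro _ ⟨q, hq, rfl⟩
      rw [powMonoidHom_apply]
      refine Subgroup.mem_inf.mpr ⟨Q.pow_mem hq p, ?_⟩
      rw [mem_Om, ← pow_mul, ← pow_succ']; exact hexp q
    have hYp : ∀ y ∈ Q, y ^ p ∈ Q.map (powMonoidHom p : A →* A) :=
      fun y hy => ⟨y, hy, powMonoidHom_apply _ _⟩
    obtain ⟨M, hMinv, hCM, hMQ, hKM, hKMsup⟩ := rel_maschke (p := p) φ hcop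
      (Q.map (powMonoidHom p : A →* A)) (Q ⊓ Om A p m) Q (inv_map_pow φ hQinv p)
      (inv_inf φ hQinv (inv_Om φ p m)) hQinv hCU inf_le_left hYp
    have hVM : V ≤ M.map θ := by
      intro v hv
      obtain ⟨q, hq, rfl⟩ := hVQ hv
      rw [← hKMsup] at hq
      obtain ⟨k, hk, m', hm', rfl⟩ := Subgroup.mem_sup.mp hq
      refine ⟨m', hm', ?_⟩
      rw [map_mul]
      have : θ k = 1 := by rw [hθ]; exact mem_Om.mp (Subgroup.mem_inf.mp hk).2
      rw [this, one_mul]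
    have hQM : Q ≤ M := hQm ⟨hMinv, hVM⟩ hMQ
    rw [← hKM]
    exact le_inf le_rfl (inf_le_left.trans hQM)
  have hR : ∀ j : ℕ, j ≤ m → ∀ x ∈ Q, x ^ p = 1 → ∃ y ∈ Q, y ^ p ^ j = x := by
    intro j
    induction j with
    | zero => intro _ x hx _; exact ⟨x, hx, by rw [pow_zero, pow_one]⟩
    | succ j ih =>
      intro hj x hx hxp
      obtain ⟨y, hy, hyx⟩ := ih (by omega) x hx hxp
      have hyΩ : y ∈ Om A p m := by
        apply Om_mono hj
        rw [mem_Om, pow_succ, pow_mul, hyx, hxp]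
      obtain ⟨z, hz, hzy⟩ := hKQp (Subgroup.mem_inf.mpr ⟨hy, hyΩ⟩)
      rw [powMonoidHom_apply] at hzy
      refine ⟨z, hz, ?_⟩
      rw [pow_succ', pow_mul, hzy, hyx]
  have hΩQ : ∀ x ∈ Q, x ^ p = 1 → x ∈ V := by
    intro x hx hxp
    obtain ⟨y, hy, hyx⟩ := hR m le_rfl x hx hxp
    apply hQV
    exact ⟨y, hy, by rw [hθ, hyx]⟩
  -- Step B
  obtain ⟨C, -, hCmax⟩ := Finite.exists_le_maximal
    (p := fun C : Subgroup A => Inv φ C ∧ Q ⊓ C = ⊥) (a := ⊥) ⟨inv_bot φ, inf_bot_eq _⟩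
  obtain ⟨⟨hCinv, hQC⟩, hCm⟩ := hCmax
  have hYinv : Inv φ (C.comap (powMonoidHom p : A →* A)) := inv_comap_pow φ hCinv p
  have hCY : C ≤ C.comap (powMonoidHom p : A →* A) := by
    intro c hc
    rw [Subgroup.mem_comap, powMonoidHom_apply]; exact C.pow_mem hc p
  have hYp : ∀ y ∈ C.comap (powMonoidHom p : A →* A), y ^ p ∈ C := by
    intro y hy
    rwa [Subgroup.mem_comap, powMonoidHom_apply] at hy
  have hYle : C.comap (powMonoidHom p : A →* A) ≤ Q ⊔ C := by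
    obtain ⟨W, hWinv, hCW, hWY, hUW, hUWsup⟩ := rel_maschke (p := p) φ hcop C
      (C.comap (powMonoidHom p : A →* A) ⊓ (Q ⊔ C)) (C.comap (powMonoidHom p : A →* A))
      hCinv (inv_inf φ hYinv (inv_sup φ hQinv hCinv)) hYinv (le_inf hCY le_sup_right)
      inf_le_left hYp
    have hQW : Q ⊓ W = ⊥ := by
      rw [eq_bot_iff]
      intro q hq
      obtain ⟨hqQ, hqW⟩ := Subgroup.mem_inf.mp hq
      have hqU : q ∈ C.comap (powMonoidHom p : A →* A) ⊓ (Q ⊔ C) :=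
        Subgroup.mem_inf.mpr ⟨hWY hqW, le_sup_left (b := C) hqQ⟩
      have hqC : q ∈ C := by rw [← hUW]; exact Subgroup.mem_inf.mpr ⟨hqU, hqW⟩
      rw [← hQC]; exact Subgroup.mem_inf.mpr ⟨hqQ, hqC⟩
    have hWC : W ≤ C := hCm ⟨hWinv, hQW⟩ hCW
    rw [← hUWsup]
    exact sup_le inf_le_right (hWC.trans le_sup_right)
  have hind : ∀ k : ℕ, ∀ a : A, a ^ p ^ k ∈ C → a ∈ Q ⊔ C := by
    intro k
    induction k with
    | zero =>
      intro a ha
      rw [pow_zero, pow_one] at ha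
      exact le_sup_right (a := Q) ha
    | succ k ih =>
      intro a ha
      by_cases hk : m < k
      · apply ih a
        obtain ⟨d, rfl⟩ := Nat.exists_eq_add_of_le (show m + 1 ≤ k by omega)
        rw [pow_add, pow_mul, hexp a, one_pow]; exact C.one_mem
      · have hkm : k ≤ m := by omega
        have hbY : a ^ p ^ k ∈ C.comap (powMonoidHom p : A →* A) := by
          rw [Subgroup.mem_comap, powMonoidHom_apply, ← pow_mul, ← pow_succ]; exact ha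
        obtain ⟨q, hq, c, hc, hqc⟩ := Subgroup.mem_sup.mp (hYle hbY)
        have hqp : q ^ p = 1 := by
          have h1 : q ^ p ∈ Q ⊓ C := by
            refine Subgroup.mem_inf.mpr ⟨Q.pow_mem hq p, ?_⟩
            have : q ^ p = (a ^ p ^ k) ^ p * (c ^ p)⁻¹ := by
              rw [← hqc, mul_pow, mul_inv_cancel_right]
            rw [this, ← pow_mul, ← pow_succ]
            exact C.mul_mem ha (C.inv_mem (C.pow_mem hc p))
          rw [hQC] at h1
          exact h1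
        obtain ⟨y, hy, hyq⟩ := hVQ (hΩQ q hq hqp)
        rw [hθ] at hyq
        obtain ⟨z, hzdef⟩ : ∃ z, z = y ^ p ^ (m - k) := ⟨_, rfl⟩
        have hzQ : z ∈ Q := by rw [hzdef]; exact Q.pow_mem hy _
        have hzq : z ^ p ^ k = q := by
          rw [hzdef, ← pow_mul, ← pow_add, Nat.sub_add_cancel hkm, hyq]
        have h2 : (a * z⁻¹) ^ p ^ k ∈ C := by
          rw [mul_pow, inv_pow, hzq, ← hqc, mul_comm q c, mul_inv_cancel_right]
          exact hc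
        have h3 := ih _ h2
        have h4 : a = (a * z⁻¹) * z := by group
        rw [h4]
        exact (Q ⊔ C).mul_mem h3 (le_sup_left (b := C) hzQ)
  have hQCtop : Q ⊔ C = ⊤ := by
    rw [eq_top_iff]
    intro a _
    apply hind (m + 1) a
    rw [hexp a]; exact C.one_mem
  have hQne : Q ≠ ⊥ := by
    intro h
    apply hVne
    rw [eq_bot_iff]
    intro v hv
    obtain ⟨q, hq, rfl⟩ := hVQ hv
    have hq' : q ∈ Q := hq
    rw [h, Subgroup.mem_bot] at hq'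
    rw [hq', map_one]; exact Subgroup.one_mem _
  have hCbot : C = ⊥ := by
    by_contra hCne
    exact h1 ⟨Q, C, hQne, hCne, hQinv, hCinv, hQC, hQCtop⟩
  have hQtop : Q = ⊤ := by rw [← hQCtop, hCbot, sup_bot_eq]
  have hΩV : ∀ x : A, x ^ p = 1 → x ∈ V := by
    intro x hx
    apply hΩQ x _ hx
    rw [hQtop]; exact Subgroup.mem_top x
  have hBV : B ≤ V := fun b hb => hΩV b (hB1 b hb)
  have hVB : V ≤ B := hVm ⟨hB, hBbot, hBV.trans hVZ⟩ hBV
  intro a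
  exact ⟨hB1 a, fun ha => hVB (hΩV a ha)⟩


/-- Translation between the two notions of invariance. -/
theorem inv_iff (X : Subgroup (MulAut A)) (B : Subgroup A) :
    (∀ x ∈ X, B.map x.toMonoidHom = B) ↔ Inv X.subtype B := by
  constructor
  · intro h x b hb
    have h1 := h x.1 x.2
    have h2 : x.1 b ∈ B.map (x.1 : A ≃* A).toMonoidHom := ⟨b, hb, rfl⟩
    rw [h1] at h2
    exact h2
  · intro h x hx
    apply le_antisymm
    · rintro _ ⟨b, hb, rfl⟩
      exact h ⟨x, hx⟩ b hb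
    · intro b hb
      refine ⟨x⁻¹ b, h ⟨x⁻¹, X.inv_mem hx⟩ b hb, ?_⟩
      show x (x⁻¹ b) = b
      rw [← MulAut.mul_apply, mul_inv_cancel, MulAut.one_apply]

/-- Let A be a finite abelian p-group and X a group of automorphisms of A of order prime to p. Call a subgroup of A invariant when every element of X maps it onto itself. Then the following are equivalent: (i) A is not the direct product of two nontrivial invariant subgroups; (ii) every invariant subgroup of A is one of the subgroups Ω_i(A) = {a : a^(p^i) = 1}; (iii) the subgroup Ω₁(A) of elements of order dividing p has no invariant subgroups other than 1 and itself. -/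
theorem result {A : Type*} [CommGroup A] [Finite A] {p : ℕ} [Fact p.Prime] (hA : IsPGroup p A) (X : Subgroup (MulAut A)) (hX : (Nat.card X).Coprime p) : ((¬ ∃ B C : Subgroup A, B ≠ ⊥ ∧ C ≠ ⊥ ∧ (∀ x ∈ X, B.map x.toMonoidHom = B) ∧ (∀ x ∈ X, C.map x.toMonoidHom = C) ∧ B ⊓ C = ⊥ ∧ B ⊔ C = ⊤) ↔ (∀ B : Subgroup A, (∀ x ∈ X, B.map x.toMonoidHom = B) → ∃ i : ℕ, ∀ a : A, a ∈ B ↔ a ^ p ^ i = 1)) ∧ ((∀ B : Subgroup A, (∀ x ∈ X, B.map x.toMonoidHom = B) → ∃ i : ℕ, ∀ a : A, a ∈ B ↔ a ^ p ^ i = 1) ↔ (∀ B : Subgroup A, (∀ x ∈ X, B.map x.toMonoidHom = B) → (∀ b ∈ B, b ^ p = 1) → B = ⊥ ∨ ∀ a : A, a ∈ B ↔ a ^ p = 1)) := by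
  haveI : Finite (MulAut A) := Finite.of_injective (fun e : MulAut A => (e : A → A))
    (fun e f h => MulEquiv.ext (fun a => congrFun h a))
  simp only [inv_iff]
  have e23 : (∀ B : Subgroup A, Inv X.subtype B → ∃ i : ℕ, ∀ a : A, a ∈ B ↔ a ^ p ^ i = 1) ↔
      (∀ B : Subgroup A, Inv X.subtype B → (∀ b ∈ B, b ^ p = 1) →
        B = ⊥ ∨ ∀ a : A, a ∈ B ↔ a ^ p = 1) :=
    ⟨fun h2 B hB hB1 => ii_to_iii X.subtype h2 B hB hB1,
     fun h3 B hB => iii_to_ii hA X.subtype h3 B hB⟩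
  refine ⟨⟨fun h1 => e23.mpr (fun B hB hB1 => i_to_iii hA X.subtype hX h1 B hB hB1),
    fun h2 => ii_to_i X.subtype h2⟩, e23⟩

end Cfsg.Agent.S3775
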