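import Mathlib
import Cfsg.Agent.Lib_helper19_MetaCop1
import Cfsg.Agent.Lib_helper19_Pairing
import Cfsg.Agent.Lib_lead_Coprime
import Cfsg.Agent.S3775

set_option autoImplicit false

/-! Maschke in subgroup form, and the minimal configuration for coprime action on a metacyclic
`p`-group. -/

namespace Cfsg.Agent.helper19

universe u

open scoped commutatorElement

theorem le_normalizer_of_forall_conj_mem {G : Type u} [Group G] (H K : Subgroup G)
    (h : ∀ g ∈ K, ∀ x ∈ H, g * x * g⁻¹ ∈ H) : K ≤ Subgroup.normalizer (H : Set G) := by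
  intro g hg
  rw [Subgroup.mem_normalizer_iff]
  intro x
  constructor
  · exact h g hg x
  · intro hx
    have := h g⁻¹ (K.inv_mem hg) _ hx
    have e : g⁻¹ * (g * x * g⁻¹) * g⁻¹⁻¹ = x := by group
    rwa [e] at this

theorem conj_mem_of_le_normalizer {G : Type u} [Group G] {H K : Subgroup G}
    (h : K ≤ Subgroup.normalizer (H : Set G)) {g x : G} (hg : g ∈ K) (hx : x ∈ H) :
    g * x * g⁻¹ ∈ H :=
  (Subgroup.mem_normalizer_iff.mp (h hg) x).mp hx

/-- Maschke's theorem for a coprime group `A` normalizing an elementary abelian subgroup `V`. -/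
theorem maschke_sub {X : Type u} [Group X] [Finite X] {p : ℕ} [Fact p.Prime] (A V U : Subgroup X)
    (hV : ∀ x ∈ V, ∀ y ∈ V, x * y = y * x) (hexp : ∀ v ∈ V, v ^ p = 1)
    (hAV : A ≤ Subgroup.normalizer (V : Set X)) (hAU : A ≤ Subgroup.normalizer (U : Set X))
    (hUV : U ≤ V) (hcop : (Nat.card A).Coprime p) :
    ∃ W : Subgroup X, W ≤ V ∧ A ≤ Subgroup.normalizer (W : Set X) ∧ U ⊓ W = ⊥ ∧ U ⊔ W = V := by
  letI : CommGroup V :=
    { (inferInstance : Group V) with
      mul_comm := fun a b => Subtype.ext (hV a a.2 b b.2) }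
  let α : A →* MulAut V := V.normalizerMonoidHom.comp (Subgroup.inclusion hAV)
  have hα : ∀ (a : A) (v : V), ((α a v : V) : X) = (a : X) * v * (a : X)⁻¹ := by
    intro a v
    show ((V.normalizerMonoidHom (Subgroup.inclusion hAV a) v : V) : X) = _
    rw [Subgroup.normalizerMonoidHom_apply_apply_coe]
    rfl
  have hUinv : Cfsg.Agent.S3775.Inv α (U.subgroupOf V) := by
    intro a u hu
    rw [Subgroup.mem_subgroupOf] at hu ⊢
    rw [hα]
    exact conj_mem_of_le_normalizer hAU a.2 hu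
  obtain ⟨W, hWinv, -, -, h1, h2⟩ := Cfsg.Agent.S3775.rel_maschke (A := V) α hcop ⊥
    (U.subgroupOf V) ⊤ (Cfsg.Agent.S3775.inv_bot α) hUinv (Cfsg.Agent.S3775.inv_top α) bot_le le_top
    (fun y _ => by rw [Subgroup.mem_bot]; exact Subtype.ext (hexp y y.2))
  refine ⟨W.map V.subtype, Subgroup.map_subtype_le W, ?_, ?_, ?_⟩
  · apply le_normalizer_of_forall_conj_mem
    rintro a ha _ ⟨w, hw, rfl⟩
    refine ⟨α ⟨a, ha⟩ w, hWinv ⟨a, ha⟩ w hw, ?_⟩
    rw [Subgroup.coe_subtype, hα]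
  · rw [eq_bot_iff]
    rintro x ⟨hxU, ⟨w, hw, rfl⟩⟩
    have h3 : w ∈ U.subgroupOf V ⊓ W :=
      Subgroup.mem_inf.mpr ⟨Subgroup.mem_subgroupOf.mpr hxU, hw⟩
    rw [h1, Subgroup.mem_bot] at h3
    rw [h3]; exact Subgroup.mem_bot.mpr rfl
  · apply le_antisymm (sup_le hUV (Subgroup.map_subtype_le W))
    intro v hv
    have h3 : (⟨v, hv⟩ : V) ∈ U.subgroupOf V ⊔ W := by rw [h2]; exact Subgroup.mem_top _
    obtain ⟨u, hu, w, hw, huw⟩ := Subgroup.mem_sup.mp h3
    have h4 : v = (u : X) * (w : X) := by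
      have := congrArg Subtype.val huw
      exact this.symm
    rw [h4]
    exact Subgroup.mul_mem_sup (Subgroup.mem_subgroupOf.mp hu) ⟨w, hw, rfl⟩


theorem conj_commutatorElement {G : Type u} [Group G] (a x y : G) :
    a * ⁅x, y⁆ * a⁻¹ = ⁅a * x * a⁻¹, a * y * a⁻¹⁆ := by
  simp only [commutatorElement_def]; group

/-- The minimal configuration: impossible. -/
theorem meta_cop_core {X : Type u} [Group X] [Finite X] {p : ℕ} [Fact p.Prime] (hp : p ≠ 2)
    (R A : Subgroup X) [hRn : R.Normal] (hR : IsPGroup p R) (hRm : Cfsg.IsMetacyclic R)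
    (hcop : (Nat.card A).Coprime p) (hRA : R ⊔ A = ⊤) (hcomm : ⁅R, A⁆ = R)
    (hD : ⁅R, R⁆ ≠ ⊥)
    (hmin : ∀ M : Subgroup X, M.Normal → M ≤ R → M ≠ ⊥ → ⁅R, R⁆ ≤ M) : False := by
  have hpp : p.Prime := Fact.out
  set D : Subgroup X := ⁅R, R⁆ with hDdef
  have hDn : D.Normal := Subgroup.commutator_normal R R
  have hDR : D ≤ R := Subgroup.commutator_le_left R R
  obtain ⟨hM1, -, ⟨c', hc'⟩, -⟩ := meta_main hp hR hRm
  have hDmap : D = (commutator ↥R).map R.subtype := by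
    rw [commutator_def, Subgroup.map_commutator, ← MonoidHom.range_eq_map, Subgroup.range_subtype]
  have hDz : D = Subgroup.zpowers (c' : X) := by
    rw [hDmap, hc', MonoidHom.map_zpowers]; rfl
  have hDcyc : IsCyclic ↥D := by rw [hDz]; infer_instance
  have hDp : IsPGroup p D := hR.to_le hDR
  have hdvd : p ∣ Nat.card D := by
    rcases hDp.card_eq_or_dvd with h | h
    · exact absurd (Subgroup.card_eq_one.mp h) hD
    · exact h
  obtain ⟨d', hd'⟩ := exists_prime_orderOf_dvd_card' p hdvd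
  obtain ⟨d, hdD, hdord⟩ : ∃ d : X, d ∈ D ∧ orderOf d = p :=
    ⟨(d' : X), d'.2, by rw [Subgroup.orderOf_coe]; exact hd'⟩
  have hd1 : d ≠ 1 := by
    intro h; rw [h, orderOf_one] at hdord; exact hpp.one_lt.ne hdord
  -- every nontrivial subgroup of D is all of D
  have hDsub : ∀ y ∈ D, y ≠ 1 → D = Subgroup.zpowers y := by
    intro y hy hy1
    have hzn : (Subgroup.zpowers y).Normal :=
      normal_of_le_cyclic_normal (N := D) hDcyc (Subgroup.zpowers_le.mpr hy)
    apply le_antisymm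
    · apply hmin _ hzn ((Subgroup.zpowers_le.mpr hy).trans hDR)
      intro h
      exact hy1 (Subgroup.zpowers_eq_bot.mp h)
    · exact Subgroup.zpowers_le.mpr hy
  have hDd : D = Subgroup.zpowers d := hDsub d hdD hd1
  have hDcard : Nat.card D = p := by rw [hDd, Nat.card_zpowers, hdord]
  have hDexp : ∀ y ∈ D, y ^ p = 1 := by
    intro y hy
    have h1 : (⟨y, hy⟩ : D) ^ Nat.card D = 1 := pow_card_eq_one'
    rw [hDcard] at h1
    exact congrArg Subtype.val h1
  have hDpow : ∀ y ∈ D, y ≠ 1 → ∀ x ∈ D, ∃ i : ℕ, y ^ i = x := by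
    intro y hy hy1 x hx
    rw [hDsub y hy hy1, ← mem_powers_iff_mem_zpowers] at hx
    exact hx
  -- D central in R
  have hDc : ∀ x ∈ R, ∀ y ∈ D, y * x = x * y := by
    intro x hx y hy
    have hc1 : Nat.card (D.subgroupOf R) = p := by
      rw [← hDcard]; exact Nat.card_congr (Subgroup.subgroupOfEquivOfLe hDR).toEquiv
    have hle := le_center_of_normal_of_card_eq hR (D.subgroupOf R) hc1
    have hmem : (⟨y, hDR hy⟩ : R) ∈ D.subgroupOf R := by rw [Subgroup.mem_subgroupOf]; exact hy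
    have h2 := Subgroup.mem_center_iff.mp (hle hmem) ⟨x, hx⟩
    exact (congrArg Subtype.val h2).symm
  have hcomD : ∀ x ∈ R, ∀ y ∈ R, ⁅x, y⁆ ∈ D := fun x hx y hy =>
    Subgroup.commutator_mem_commutator hx hy
  have hDab : ∀ x ∈ D, ∀ y ∈ D, x * y = y * x := fun x hx y hy => hDc y (hDR hy) x hx
  -- the centre Z of R
  set Z : Subgroup X := R ⊓ Subgroup.centralizer (R : Set X) with hZdef
  have hZR : Z ≤ R := inf_le_left
  have hZn : Z.Normal := by
    constructor
    intro n hn g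
    obtain ⟨hnR, hnC⟩ := Subgroup.mem_inf.mp hn
    refine Subgroup.mem_inf.mpr ⟨hRn.conj_mem n hnR g, ?_⟩
    rw [Subgroup.mem_centralizer_iff] at hnC ⊢
    intro r hr
    have h1 : g⁻¹ * r * g ∈ R := by
      have := hRn.conj_mem r hr g⁻¹; rwa [inv_inv] at this
    have h2 := hnC _ h1
    calc r * (g * n * g⁻¹) = g * ((g⁻¹ * r * g) * n) * g⁻¹ := by group
      _ = g * (n * (g⁻¹ * r * g)) * g⁻¹ := by rw [h2]
      _ = g * n * g⁻¹ * r := by group
  have hZc : ∀ z ∈ Z, ∀ x ∈ R, x * z = z * x := fun z hz x hx =>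
    (Subgroup.mem_centralizer_iff.mp (Subgroup.mem_inf.mp hz).2) x hx
  have hZmem : ∀ z ∈ R, (∀ x ∈ R, x * z = z * x) → z ∈ Z := fun z hz h =>
    Subgroup.mem_inf.mpr ⟨hz, Subgroup.mem_centralizer_iff.mpr h⟩
  have hDZ : D ≤ Z := fun y hy => hZmem y (hDR hy) (fun x hx => (hDc x hx y hy).symm)
  have hcen : Subgroup.center ↥R = Z.subgroupOf R := by
    ext z
    rw [Subgroup.mem_center_iff, Subgroup.mem_subgroupOf, hZdef, Subgroup.mem_inf,
      Subgroup.mem_centralizer_iff]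
    constructor
    · intro h
      exact ⟨z.2, fun x hx => congrArg Subtype.val (h ⟨x, hx⟩)⟩
    · rintro ⟨-, h⟩ g
      exact Subtype.ext (h g g.2)
  have hcardcomm : Nat.card ↥(commutator ↥R) = p := by
    rw [← hDcard, hDmap, Subgroup.card_map_of_injective R.subtype_injective]
  have hidx : Z.relIndex R = p ^ 2 := by
    rw [Subgroup.relIndex, ← hcen, hM1, hcardcomm]
  have hcardR : Nat.card Z * p ^ 2 = Nat.card R := by
    have h1 := Subgroup.relIndex_mul_relIndex ⊥ Z R bot_le hZR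
    rw [Subgroup.relIndex_bot_left, Subgroup.relIndex_bot_left, hidx] at h1
    exact h1
  have hpowZ : ∀ g ∈ R, g ^ p ∈ Z := by
    intro g hg
    apply hZmem _ (R.pow_mem hg p)
    intro x hx
    have hcD : ⁅x, g⁆ ∈ D := hcomD x hx g hg
    have hcg : Commute ⁅x, g⁆ g := hDc g hg _ hcD
    have h1 : x * g ^ p * x⁻¹ = g ^ p := by
      have h2 : x * g ^ p * x⁻¹ = (x * g * x⁻¹) ^ p := (conj_pow (a := x) (b := g) (i := p)).symm
      have h3 : x * g * x⁻¹ = ⁅x, g⁆ * g := by rw [commutatorElement_def]; group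
      rw [h2, h3, hcg.mul_pow, hDexp _ hcD, one_mul]
    calc x * g ^ p = (x * g ^ p * x⁻¹) * x := by group
      _ = g ^ p * x := by rw [h1]
  have hpc : p ∣ p.choose 2 :=
    hpp.dvd_choose_self (by norm_num) (lt_of_le_of_ne hpp.two_le (Ne.symm hp))
  have hmulpow : ∀ x ∈ R, ∀ y ∈ R, (x * y) ^ p = x ^ p * y ^ p := by
    intro x hx y hy
    have hcD : ⁅y, x⁆ ∈ D := hcomD y hy x hx
    have h1 := Cfsg.Agent.helper15.ESRep.mul_pow_class_two (a := x) (b := y) (c := ⁅y, x⁆)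
      (hDc x hx _ hcD) (hDc y hy _ hcD) (by rw [commutatorElement_def]; group) p
    obtain ⟨m, hm⟩ := hpc
    rw [h1, hm, pow_mul, hDexp _ hcD, one_pow, mul_one]
  -- Ω₁(Z) = D
  have hZab : ∀ x ∈ Z, ∀ y ∈ Z, x * y = y * x := fun x hx y hy => hZc y hy x (hZR hx)
  let Om : Subgroup X :=
    { carrier := {z | z ∈ Z ∧ z ^ p = 1}
      one_mem' := ⟨Z.one_mem, one_pow p⟩
      mul_mem' := by
        rintro a b ⟨ha, hap⟩ ⟨hb, hbp⟩
        refine ⟨Z.mul_mem ha hb, ?_⟩
        have hab : Commute a b := hZab a ha b hb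
        rw [hab.mul_pow, hap, hbp, one_mul]
      inv_mem' := by
        rintro a ⟨ha, hap⟩
        exact ⟨Z.inv_mem ha, by rw [inv_pow, hap, inv_one]⟩ }
  have hOm : ∀ z, z ∈ Om ↔ z ∈ Z ∧ z ^ p = 1 := fun z => Iff.rfl
  have hAOm : A ≤ Subgroup.normalizer (Om : Set X) := by
    apply le_normalizer_of_forall_conj_mem
    intro g _ x hx
    rw [hOm] at hx ⊢
    exact ⟨hZn.conj_mem x hx.1 g, by rw [conj_pow, hx.2]; group⟩
  have hAD : A ≤ Subgroup.normalizer (D : Set X) := by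
    rw [Subgroup.normalizer_eq_top]; exact le_top
  have hOmD : ∀ z ∈ Z, z ^ p = 1 → z ∈ D := by
    obtain ⟨W, hWOm, hAW, hDW, hDWsup⟩ := maschke_sub (p := p) A Om D
      (fun x hx y hy => hZab x hx.1 y hy.1) (fun v hv => hv.2) hAOm hAD
      (fun y hy => (hOm y).mpr ⟨hDZ hy, hDexp y hy⟩) hcop
    have hWn : W.Normal := by
      have h1 : R ≤ Subgroup.normalizer (W : Set X) := by
        apply le_normalizer_of_forall_conj_mem
        intro g hg x hx
        have hxZ : x ∈ Z := (hWOm hx).1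
        have h2 : g * x = x * g := hZc x hxZ g hg
        rw [h2, mul_inv_cancel_right]; exact hx
      have h2 : (⊤ : Subgroup X) ≤ Subgroup.normalizer (W : Set X) := by
        rw [← hRA]; exact sup_le h1 hAW
      exact Subgroup.normalizer_eq_top_iff.mp (top_le_iff.mp h2)
    have hW : W = ⊥ := by
      by_contra hne
      have h1 := hmin W hWn (hWOm.trans (fun z hz => hZR hz.1)) hne
      have h2 : d ∈ D ⊓ W := Subgroup.mem_inf.mpr ⟨hdD, h1 hdD⟩
      rw [hDW, Subgroup.mem_bot] at h2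
      exact hd1 h2
    intro z hz hzp
    have h1 : z ∈ Om := (hOm z).mpr ⟨hz, hzp⟩
    rw [← hDWsup, hW, sup_bot_eq] at h1
    exact h1
  -- p-th powers fill Z
  have hsurj : ∀ z ∈ Z, ∃ g ∈ R, g ^ p = z := by
    let φ : ↥R →* ↥Z :=
      { toFun := fun g => ⟨(g : X) ^ p, hpowZ g g.2⟩
        map_one' := by apply Subtype.ext; simp
        map_mul' := fun x y => by
          apply Subtype.ext
          exact hmulpow x x.2 y y.2 }
    have hker : Nat.card φ.ker ≤ p ^ 2 := by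
      have h1 := ncard_pow_p_le hp hR hRm
      have h2 : (φ.ker : Set ↥R) = {x : ↥R | x ^ p = 1} := by
        ext x
        rw [SetLike.mem_coe, MonoidHom.mem_ker]
        show φ x = 1 ↔ x ^ p = 1
        constructor
        · intro h; apply Subtype.ext; rw [Subgroup.coe_pow]; exact congrArg Subtype.val h
        · intro h
          apply Subtype.ext
          show (x : X) ^ p = 1
          rw [← Subgroup.coe_pow, h]; rfl
      rw [← h2] at h1
      rw [← Nat.card_coe_set_eq] at h1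
      exact h1
    have h3 := Subgroup.card_mul_index φ.ker
    rw [Subgroup.index_ker] at h3
    have h4 : Nat.card Z ≤ Nat.card φ.range := by
      have h5 : Nat.card Z * p ^ 2 ≤ p ^ 2 * Nat.card φ.range := by
        rw [hcardR, ← h3]; exact Nat.mul_le_mul_right _ hker
      have hp2 : 0 < p ^ 2 := pow_pos hpp.pos 2
      rw [mul_comm] at h5
      exact Nat.le_of_mul_le_mul_left h5 hp2
    have h6 : φ.range = ⊤ := Subgroup.eq_top_of_le_card _ h4
    intro z hz
    have h7 : (⟨z, hz⟩ : Z) ∈ φ.range := by rw [h6]; exact Subgroup.mem_top _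
    obtain ⟨g, hg⟩ := h7
    exact ⟨g, g.2, congrArg Subtype.val hg⟩
  -- the exponent
  obtain ⟨n, hn⟩ := hR.exists_card_eq
  have hex : ∃ k : ℕ, ∀ x ∈ R, x ^ p ^ k = 1 := by
    refine ⟨n, fun x hx => ?_⟩
    have h1 : (⟨x, hx⟩ : R) ^ Nat.card R = 1 := pow_card_eq_one'
    rw [hn] at h1
    exact congrArg Subtype.val h1
  classical
  set k := Nat.find hex with hk
  have hkspec : ∀ x ∈ R, x ^ p ^ k = 1 := Nat.find_spec hex
  have hkmin : ∀ k' < k, ¬ ∀ x ∈ R, x ^ p ^ k' = 1 := fun k' hk' => Nat.find_min hex hk'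
  have hZcard : p ≤ Nat.card Z := by
    rw [← hDcard]; exact Subgroup.card_le_of_le hDZ
  have hk2 : 2 ≤ k := by
    by_contra hlt
    have h1 : ∀ x ∈ R, x ^ p = 1 := by
      intro x hx
      have h2 := hkspec x hx
      have h3 : k = 0 ∨ k = 1 := by omega
      rcases h3 with h3 | h3
      · rw [h3, pow_zero, pow_one] at h2; rw [h2, one_pow]
      · rw [h3, pow_one] at h2; exact h2
    have h2 := ncard_pow_p_le hp hR hRm
    have h3 : {x : ↥R | x ^ p = 1} = Set.univ := by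
      ext x
      simp only [Set.mem_univ, iff_true]
      show x ^ p = 1
      apply Subtype.ext; rw [Subgroup.coe_pow]; exact h1 x x.2
    rw [h3, Set.ncard_univ, ← hcardR] at h2
    have hp2 : 0 < p ^ 2 := pow_pos hpp.pos 2
    have h4 : Nat.card Z ≤ 1 := by
      by_contra h5
      have h6 : 2 ≤ Nat.card Z := by omega
      have h7 : 2 * p ^ 2 ≤ Nat.card Z * p ^ 2 := Nat.mul_le_mul_right _ h6
      omega
    have := hpp.two_le
    omega
  obtain ⟨j, hj⟩ : ∃ j : ℕ, k = j + 2 := ⟨k - 2, by omega⟩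
  have hm0 := hkmin (j + 1) (by omega)
  push Not at hm0
  obtain ⟨m, hmR, hm1⟩ := hm0
  set q := p ^ (j + 1) with hq
  have hqp : p * p ^ j = q := by rw [hq, pow_succ']
  have hqk : q * p = p ^ k := by rw [hq, hj, ← pow_succ]
  have hψmul : ∀ x ∈ R, ∀ y ∈ R, (x * y) ^ q = x ^ q * y ^ q := by
    intro x hx y hy
    have hcxy : Commute (x ^ p) (y ^ p) := hZc (y ^ p) (hpowZ y hy) (x ^ p) (R.pow_mem hx p)
    rw [← hqp, pow_mul, pow_mul, pow_mul, hmulpow x hx y hy, hcxy.mul_pow]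
  have hψD : ∀ x ∈ R, x ^ q ∈ D := by
    intro x hx
    apply hOmD
    · rw [← hqp, pow_mul]; exact Z.pow_mem (hpowZ x hx) _
    · rw [← pow_mul, hqk]; exact hkspec x hx
  let M : Subgroup X :=
    { carrier := {x | x ∈ R ∧ x ^ q = 1}
      one_mem' := ⟨R.one_mem, one_pow q⟩
      mul_mem' := by
        rintro a b ⟨ha, haq⟩ ⟨hb, hbq⟩
        exact ⟨R.mul_mem ha hb, by rw [hψmul a ha b hb, haq, hbq, one_mul]⟩
      inv_mem' := by
        rintro a ⟨ha, haq⟩
        exact ⟨R.inv_mem ha, by rw [inv_pow, haq, inv_one]⟩ }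
  have hMmem : ∀ x, x ∈ M ↔ x ∈ R ∧ x ^ q = 1 := fun x => Iff.rfl
  have hMR : M ≤ R := fun x hx => hx.1
  have hZM : Z ≤ M := by
    intro z hz
    obtain ⟨g, hg, rfl⟩ := hsurj z hz
    refine (hMmem _).mpr ⟨hZR hz, ?_⟩
    rw [← pow_mul, mul_comm, hqk]; exact hkspec g hg
  have hMconj : ∀ g : X, ∀ x ∈ M, g * x * g⁻¹ ∈ M := by
    intro g x hx
    exact (hMmem _).mpr ⟨hRn.conj_mem x hx.1 g, by rw [conj_pow, hx.2]; group⟩
  have hmM : m ∉ M := fun h => hm1 h.2
  obtain ⟨y₀, hy₀⟩ : ∃ y₀ : X, y₀ = m ^ q := ⟨_, rfl⟩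
  rw [← hy₀] at hm1
  have hy₀D : y₀ ∈ D := by rw [hy₀]; exact hψD m hmR
  -- decomposition of R over M
  have hdecomp : ∀ x ∈ R, ∃ i : ℕ, ∃ w ∈ M, x = w * m ^ i := by
    intro x hx
    obtain ⟨i, hi⟩ := hDpow y₀ hy₀D hm1 (x ^ q) (hψD x hx)
    refine ⟨i, x * (m ^ i)⁻¹, ?_, by group⟩
    have hmi : (m ^ i)⁻¹ ∈ R := R.inv_mem (R.pow_mem hmR i)
    refine (hMmem _).mpr ⟨R.mul_mem hx hmi, ?_⟩
    rw [hψmul x hx _ hmi, inv_pow, ← pow_mul, mul_comm i q, pow_mul, ← hy₀, hi, mul_inv_cancel]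
  -- an element of M outside Z
  have hexu : ∃ u ∈ M, u ∉ Z := by
    by_contra hcon
    push Not at hcon
    apply hD
    rw [hDdef, Subgroup.commutator_eq_bot_iff_le_centralizer]
    intro x hx
    rw [Subgroup.mem_centralizer_iff]
    intro y hy
    obtain ⟨i, w, hw, rfl⟩ := hdecomp x hx
    obtain ⟨i', w', hw', rfl⟩ := hdecomp y hy
    have hwZ := hcon w hw
    have hw'Z := hcon w' hw'
    have e1 : w * w' = w' * w := hZab w hwZ w' hw'Z
    have e2 : m ^ i * w' = w' * m ^ i := hZc w' hw'Z _ (R.pow_mem hmR i)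
    have e3 : m ^ i' * w = w * m ^ i' := hZc w hwZ _ (R.pow_mem hmR i')
    have e4 : m ^ i * m ^ i' = m ^ i' * m ^ i := by rw [← pow_add, ← pow_add, add_comm]
    calc w' * m ^ i' * (w * m ^ i) = w' * (m ^ i' * w) * m ^ i := by group
      _ = w' * (w * m ^ i') * m ^ i := by rw [e3]
      _ = (w' * w) * (m ^ i' * m ^ i) := by group
      _ = (w * w') * (m ^ i * m ^ i') := by rw [e1, e4]
      _ = w * (w' * m ^ i) * m ^ i' := by group
      _ = w * (m ^ i * w') * m ^ i' := by rw [e2]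
      _ = w * m ^ i * (w' * m ^ i') := by group
  obtain ⟨u, huM, huZ⟩ := hexu
  have huR : u ∈ R := hMR huM
  -- M is abelian
  have hMsub : M ≤ Z ⊔ Subgroup.zpowers u := by
    have h1 : ¬ R ≤ M := fun h => hmM (h hmR)
    have h2 : ¬ M ≤ Z := fun h => huZ (h huM)
    have h3 := Subgroup.relIndex_mul_relIndex Z M R hZM hMR
    rw [hidx] at h3
    have h4 : Z.relIndex M = p ∧ M.relIndex R = p :=
      (Nat.Prime.mul_eq_prime_sq_iff hpp (fun h => h2 (Subgroup.relIndex_eq_one.mp h))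
        (fun h => h1 (Subgroup.relIndex_eq_one.mp h))).mp h3
    have h5 : Z ≤ Z ⊔ Subgroup.zpowers u := le_sup_left
    have h6 : Z ⊔ Subgroup.zpowers u ≤ M := sup_le hZM (Subgroup.zpowers_le.mpr huM)
    have h7 := Subgroup.relIndex_mul_relIndex Z (Z ⊔ Subgroup.zpowers u) M h5 h6
    rw [h4.1] at h7
    have h8 : Z.relIndex (Z ⊔ Subgroup.zpowers u) ≠ 1 := by
      intro h
      exact huZ (Subgroup.relIndex_eq_one.mp h (le_sup_right (a := Z) (Subgroup.mem_zpowers u)))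
    have h9 : Z.relIndex (Z ⊔ Subgroup.zpowers u) ∣ p := Dvd.intro _ h7
    rcases (Nat.dvd_prime hpp).mp h9 with h10 | h10
    · exact absurd h10 h8
    · rw [h10] at h7
      have h11 : (Z ⊔ Subgroup.zpowers u).relIndex M = 1 := by
        have := hpp.pos
        exact Nat.eq_of_mul_eq_mul_left this (by rw [h7, mul_one])
      exact Subgroup.relIndex_eq_one.mp h11
  have hMab : ∀ w ∈ M, ∀ w' ∈ M, w * w' = w' * w := by
    have hgen : ∀ w ∈ M, ∃ z ∈ Z, ∃ t : ℤ, w = z * u ^ t := by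
      intro w hw
      obtain ⟨z, hz, v, hv, rfl⟩ := Subgroup.mem_sup_of_normal_left.mp (hMsub hw)
      obtain ⟨t, rfl⟩ := Subgroup.mem_zpowers_iff.mp hv
      exact ⟨z, hz, t, rfl⟩
    intro w hw w' hw'
    obtain ⟨z, hz, t, rfl⟩ := hgen w hw
    obtain ⟨z', hz', t', rfl⟩ := hgen w' hw'
    have e1 : z * z' = z' * z := hZab z hz z' hz'
    have e2 : u ^ t * z' = z' * u ^ t := hZc z' hz' _ (R.zpow_mem huR t)
    have e3 : u ^ t' * z = z * u ^ t' := hZc z hz _ (R.zpow_mem huR t')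
    have e4 : u ^ t * u ^ t' = u ^ t' * u ^ t := by rw [← zpow_add, ← zpow_add, add_comm]
    calc z * u ^ t * (z' * u ^ t') = z * (u ^ t * z') * u ^ t' := by group
      _ = z * (z' * u ^ t) * u ^ t' := by rw [e2]
      _ = (z * z') * (u ^ t * u ^ t') := by group
      _ = (z' * z) * (u ^ t' * u ^ t) := by rw [e1, e4]
      _ = z' * (z * u ^ t') * u ^ t := by group
      _ = z' * (u ^ t' * z) * u ^ t := by rw [e3]
      _ = z' * u ^ t' * (z * u ^ t) := by group
  -- elements of M commuting with m are central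
  have hcentral : ∀ v ∈ M, m * v = v * m → v ∈ Z := by
    intro v hv hmv
    apply hZmem v (hMR hv)
    intro x hx
    obtain ⟨i, w, hw, rfl⟩ := hdecomp x hx
    have e1 : w * v = v * w := hMab w hw v hv
    have e2 : m ^ i * v = v * m ^ i := (Commute.pow_left hmv i).eq
    calc w * m ^ i * v = w * (m ^ i * v) := by group
      _ = w * (v * m ^ i) := by rw [e2]
      _ = (w * v) * m ^ i := by group
      _ = (v * w) * m ^ i := by rw [e1]
      _ = v * (w * m ^ i) := by group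
  -- commutator homomorphisms
  have hβ : ∀ z ∈ R, ∃ β : ↥R →* ↥D, ∀ x : ↥R, ((β x : D) : X) = ⁅z, (x : X)⁆ := by
    intro z hz
    exact ⟨commHomRight (B := R) (Z := D) z (fun b hb => hcomD z hz b hb)
      (fun y hy b hb => hDc b hb y hy), fun x => rfl⟩
  -- the action of A on u
  have hfix : ∀ a ∈ A, a * u * a⁻¹ * u⁻¹ ∈ Z := by
    intro a ha
    set u' := a * u * a⁻¹ with hu'
    have hu'M : u' ∈ M := hMconj a u huM
    have hu'R : u' ∈ R := hMR hu'M
    set m' := a * m * a⁻¹ with hm'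
    have hm'R : m' ∈ R := hRn.conj_mem m hmR a
    obtain ⟨i, w, hw, hm'w⟩ := hdecomp m' hm'R
    -- a acts on D as the i-th power
    have hy₀a : a * y₀ * a⁻¹ = y₀ ^ i := by
      have h1 : a * y₀ * a⁻¹ = m' ^ q := by rw [hy₀, hm', conj_pow]
      rw [h1, hm'w, hψmul w (hMR hw) _ (R.pow_mem hmR i), hw.2, one_mul, ← pow_mul, mul_comm,
        pow_mul, ← hy₀]
    have hDa : ∀ y ∈ D, a * y * a⁻¹ = y ^ i := by
      intro y hy
      obtain ⟨t, rfl⟩ := hDpow y₀ hy₀D hm1 y hy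
      rw [← conj_pow, hy₀a, ← pow_mul, ← pow_mul, mul_comm]
    have hip : ¬ p ∣ i := by
      rintro ⟨e, rfl⟩
      rw [pow_mul, hDexp y₀ hy₀D, one_pow] at hy₀a
      apply hm1
      have : y₀ = a⁻¹ * (a * y₀ * a⁻¹) * a := by group
      rw [this, hy₀a]; group
    obtain ⟨βm, hβm⟩ := hβ m hmR
    obtain ⟨βu', hβu'⟩ := hβ u' hu'R
    set c := ⁅m, u⁆ with hc
    set c₁ := ⁅m, u'⁆ with hc₁
    have hcD : c ∈ D := hcomD m hmR u huR
    have hc₁D : c₁ ∈ D := hcomD m hmR u' hu'R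
    have h1 : a * c * a⁻¹ = c ^ i := hDa c hcD
    have h2 : a * c * a⁻¹ = ⁅m', u'⁆ := conj_commutatorElement a m u
    have h3 : ⁅m', u'⁆ = c₁ ^ i := by
      have h4 : ⁅u', m'⁆ = ⁅u', m⁆ ^ i := by
        have h5 : (⟨m', hm'R⟩ : R) = ⟨w, hMR hw⟩ * ⟨m, hmR⟩ ^ i := Subtype.ext hm'w
        have h6 : ((βu' ⟨m', hm'R⟩ : D) : X) = ⁅u', m'⁆ := hβu' _
        have h6' : βu' ⟨m', hm'R⟩ = βu' ⟨w, hMR hw⟩ * (βu' ⟨m, hmR⟩) ^ i := by
          rw [h5, map_mul, map_pow]
        have h7 : ((βu' ⟨w, hMR hw⟩ : D) : X) = 1 := by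
          rw [hβu']
          exact commutatorElement_eq_one_iff_mul_comm.mpr (hMab u' hu'M w hw)
        have h8 : βu' ⟨w, hMR hw⟩ = 1 := Subtype.ext h7
        rw [← h6, h6', h8, one_mul, Subgroup.coe_pow, hβu']
      rw [← commutatorElement_inv u' m', h4, hc₁, ← commutatorElement_inv u' m, inv_pow]
    have h4 : c ^ i = c₁ ^ i := by rw [← h1, h2, h3]
    have h5 : c₁ = c := by
      set e := c⁻¹ * c₁ with he
      have heD : e ∈ D := D.mul_mem (D.inv_mem hcD) hc₁D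
      have hcc : Commute c⁻¹ c₁ := hDab _ (D.inv_mem hcD) _ hc₁D
      have h6 : e ^ i = 1 := by
        rw [he, hcc.mul_pow, inv_pow, h4, inv_mul_cancel]
      have h7 : e ^ p = 1 := hDexp e heD
      have h8 : orderOf e ∣ p := orderOf_dvd_of_pow_eq_one h7
      rcases (Nat.dvd_prime hpp).mp h8 with h9 | h9
      · have h10 : e = 1 := orderOf_eq_one_iff.mp h9
        rw [he] at h10
        have : c₁ = c * (c⁻¹ * c₁) := by group
        rw [this, h10, mul_one]
      · exfalso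
        apply hip
        rw [← h9]; exact orderOf_dvd_of_pow_eq_one h6
    -- now u' u⁻¹ commutes with m
    have h6 : ⁅m, u' * u⁻¹⁆ = 1 := by
      have h7 : (⟨u' * u⁻¹, R.mul_mem hu'R (R.inv_mem huR)⟩ : R) = ⟨u', hu'R⟩ * ⟨u, huR⟩⁻¹ := rfl
      have h8 : ((βm ⟨u' * u⁻¹, R.mul_mem hu'R (R.inv_mem huR)⟩ : D) : X) = ⁅m, u' * u⁻¹⁆ :=
        hβm _
      have h8' : βm ⟨u' * u⁻¹, R.mul_mem hu'R (R.inv_mem huR)⟩ =
          βm ⟨u', hu'R⟩ * (βm ⟨u, huR⟩)⁻¹ := by rw [h7, map_mul, map_inv]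
      rw [← h8, h8', Subgroup.coe_mul, Subgroup.coe_inv, hβm, hβm]
      show c₁ * c⁻¹ = 1
      rw [h5, mul_inv_cancel]
    apply hcentral _ (M.mul_mem hu'M (M.inv_mem huM))
    exact commutatorElement_eq_one_iff_mul_comm.mp h6
  -- conclusion
  have hAR : A ≤ Subgroup.normalizer (R : Set X) := by
    rw [Subgroup.normalizer_eq_top]; exact le_top
  have hcopR : (Nat.card A).Coprime (Nat.card R) := by
    rw [hn]; exact Nat.Coprime.pow_right n hcop
  have hsolv : Group.IsSolvable R := by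
    haveI := hR.isNilpotent
    infer_instance
  have hRZ : R ≤ Subgroup.normalizer (Z : Set X) := by
    rw [Subgroup.normalizer_eq_top]; exact le_top
  have hAZ : A ≤ Subgroup.normalizer (Z : Set X) := by
    rw [Subgroup.normalizer_eq_top]; exact le_top
  obtain ⟨c₀, hc₀, hc₀Z⟩ := Cfsg.Agent.lead.coprime_fixed_coset A R hAR hcopR (Or.inr hsolv) Z hZR
    hRZ hAZ u huR hfix
  have h1 : c₀ ∈ Z := fixed_le_of_commutator_eq R A Z hAR hcopR (by rw [← hDdef]; exact hDZ) hcomm hc₀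
  apply huZ
  have h2 : u = c₀ * (u⁻¹ * c₀)⁻¹ := by group
  rw [h2]
  exact Z.mul_mem h1 (Z.inv_mem hc₀Z)

end Cfsg.Agent.helper19
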