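import Mathlib
import Cfsg.Agent.Lib_helper19_MetaCop2

set_option autoImplicit false

/-! Coprime action on a metacyclic `p`-group, `p` odd: `[T, A] = T` forces `T` abelian. -/

namespace Cfsg.Agent.helper19

universe u

open scoped commutatorElement

theorem meta_cop_normal {X : Type u} [Group X] [Finite X] {p : ℕ} [Fact p.Prime] (hp : p ≠ 2)
    (R A : Subgroup X) [hRn : R.Normal] (hR : IsPGroup p R) (hRm : Cfsg.IsMetacyclic R)
    (hcop : (Nat.card A).Coprime p) (hRA : R ⊔ A = ⊤) (hcomm : ⁅R, A⁆ = R) : ⁅R, R⁆ = ⊥ := by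
  by_contra hD
  obtain ⟨N, -, hN, hmax⟩ := Finite.exists_le_maximal
    (p := fun N : Subgroup X => N.Normal ∧ N ≤ R ∧ ¬ ⁅R, R⁆ ≤ N) (a := ⊥)
    ⟨inferInstance, bot_le, fun h => hD (le_bot_iff.mp h)⟩
  obtain ⟨hNn, hNR, hNnot⟩ := hN
  haveI := hNn
  set π := QuotientGroup.mk' N with hπ
  have hπs : Function.Surjective π := QuotientGroup.mk'_surjective N
  haveI hR'n : (R.map π).Normal := hRn.map π hπs
  have hR'p : IsPGroup p (R.map π) := hR.map π
  have hR'm : Cfsg.IsMetacyclic (R.map π) :=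
    isMetacyclic_of_surjective hRm (π.subgroupMap R) (π.subgroupMap_surjective R)
  have hcop' : (Nat.card (A.map π)).Coprime p :=
    Nat.Coprime.coprime_dvd_left (Subgroup.card_map_dvd A π) hcop
  have hsup : R.map π ⊔ A.map π = ⊤ := by
    rw [← Subgroup.map_sup, hRA, Subgroup.map_top_of_surjective π hπs]
  have hcomm' : ⁅R.map π, A.map π⁆ = R.map π := by
    rw [← Subgroup.map_commutator, hcomm]
  have hD' : ⁅R.map π, R.map π⁆ ≠ ⊥ := by
    rw [← Subgroup.map_commutator]
    intro h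
    rw [Subgroup.map_eq_bot_iff, hπ, QuotientGroup.ker_mk'] at h
    exact hNnot h
  refine meta_cop_core hp (R.map π) (A.map π) hR'p hR'm hcop' hsup hcomm' hD' ?_
  intro M hMn hMR hMne
  haveI := hMn
  rw [← Subgroup.map_commutator, Subgroup.map_le_iff_le_comap]
  by_contra hcon
  have hNle : N ≤ M.comap π := by
    intro x hx
    rw [Subgroup.mem_comap]
    have : π x = 1 := (QuotientGroup.eq_one_iff x).mpr hx
    rw [this]; exact M.one_mem
  have hle : M.comap π ≤ R := by
    intro x hx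
    rw [Subgroup.mem_comap] at hx
    obtain ⟨r, hr, hrx⟩ := hMR hx
    have h1 : r⁻¹ * x ∈ N := by
      rw [← QuotientGroup.eq_one_iff]
      show π (r⁻¹ * x) = 1
      rw [map_mul, map_inv, hrx, inv_mul_cancel]
    have h2 : x = r * (r⁻¹ * x) := by group
    rw [h2]
    exact R.mul_mem hr (hNR h1)
  have h3 : M.comap π ≤ N := hmax ⟨inferInstance, hle, hcon⟩ hNle
  apply hMne
  rw [eq_bot_iff]
  intro y hy
  obtain ⟨x, rfl⟩ := hπs y
  have h4 : x ∈ N := h3 (Subgroup.mem_comap.mpr hy)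
  rw [Subgroup.mem_bot]
  exact (QuotientGroup.eq_one_iff x).mpr h4

/-- Coprime action on a metacyclic `p`-group (`p` odd) with `[T, A] = T`: `T` is abelian. -/
theorem meta_cop_abelian {G : Type u} [Group G] [Finite G] {p : ℕ} [Fact p.Prime] (hp : p ≠ 2)
    (T A : Subgroup G) (hT : IsPGroup p T) (hTm : Cfsg.IsMetacyclic T)
    (hA : A ≤ Subgroup.normalizer (T : Set G)) (hcop : (Nat.card A).Coprime p)
    (hcomm : ⁅T, A⁆ = T) : ∀ x ∈ T, ∀ y ∈ T, x * y = y * x := by
  set L : Subgroup G := T ⊔ A with hL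
  have hTL : T ≤ L := le_sup_left
  have hAL : A ≤ L := le_sup_right
  have hLN : L ≤ Subgroup.normalizer (T : Set G) := sup_le Subgroup.le_normalizer hA
  haveI hT'n : (T.subgroupOf L).Normal :=
    (Subgroup.normal_subgroupOf_iff_le_normalizer hTL).mpr hLN
  let e : T.subgroupOf L ≃* T := Subgroup.subgroupOfEquivOfLe hTL
  let eA : A.subgroupOf L ≃* A := Subgroup.subgroupOfEquivOfLe hAL
  have hT'p : IsPGroup p (T.subgroupOf L) := hT.of_equiv e.symm
  have hT'm : Cfsg.IsMetacyclic (T.subgroupOf L) :=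
    isMetacyclic_of_injective hTm e.toMonoidHom e.injective
  have hcop' : (Nat.card (A.subgroupOf L)).Coprime p := by
    rw [Nat.card_congr eA.toEquiv]; exact hcop
  have hsup : T.subgroupOf L ⊔ A.subgroupOf L = ⊤ := by
    rw [← Subgroup.subgroupOf_sup hTL hAL, Subgroup.subgroupOf_self]
  have hcomm' : ⁅T.subgroupOf L, A.subgroupOf L⁆ = T.subgroupOf L := by
    apply Subgroup.map_injective L.subtype_injective
    rw [Subgroup.map_commutator, Subgroup.map_subgroupOf_eq_of_le hTL,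
      Subgroup.map_subgroupOf_eq_of_le hAL, hcomm]
  have h1 := meta_cop_normal hp (T.subgroupOf L) (A.subgroupOf L) hT'p hT'm hcop' hsup hcomm'
  rw [Subgroup.commutator_eq_bot_iff_le_centralizer] at h1
  intro x hx y hy
  have h2 : (⟨x, hTL hx⟩ : L) ∈ T.subgroupOf L := Subgroup.mem_subgroupOf.mpr hx
  have h3 : (⟨y, hTL hy⟩ : L) ∈ T.subgroupOf L := Subgroup.mem_subgroupOf.mpr hy
  have h4 := Subgroup.mem_centralizer_iff.mp (h1 h2) _ h3
  exact (congrArg Subtype.val h4).symm

end Cfsg.Agent.helper19
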