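import Mathlib
import Cfsg.Agent.Lib_helper19_MetaCop3

set_option autoImplicit false

/-! A metacyclic `p`-group (`p` odd) that is a semidirect product `T ⋊ C` with `T` abelian:
both factors are cyclic. -/

namespace Cfsg.Agent.helper19

universe u

open scoped commutatorElement

theorem ncard_pow_subgroup {G : Type u} [Group G] (H : Subgroup G) (p : ℕ) :
    {x : G | x ∈ H ∧ x ^ p = 1}.ncard = {x : ↥H | x ^ p = 1}.ncard := by
  have h : {x : G | x ∈ H ∧ x ^ p = 1} = Subtype.val '' {x : ↥H | x ^ p = 1} := by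
    ext x
    constructor
    · rintro ⟨hx, hxp⟩
      exact ⟨⟨x, hx⟩, Subtype.ext (by rw [Subgroup.coe_pow]; exact hxp), rfl⟩
    · rintro ⟨y, hy, rfl⟩
      refine ⟨y.2, ?_⟩
      have h1 : y ^ p = 1 := hy
      have h2 := congrArg Subtype.val h1
      rwa [Subgroup.coe_pow] at h2
  rw [h, Set.ncard_image_of_injective _ Subtype.val_injective]

theorem meta_cop_cyclic {G : Type u} [Group G] [Finite G] {p : ℕ} [Fact p.Prime] (hp : p ≠ 2)
    (R T C : Subgroup G) (hR : IsPGroup p R) (hRm : Cfsg.IsMetacyclic R)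
    (hTR : T ≤ R) (hCR : C ≤ R) (hTn : R ≤ Subgroup.normalizer (T : Set G))
    (hTab : ∀ x ∈ T, ∀ y ∈ T, x * y = y * x) (hinf : T ⊓ C = ⊥) (hT1 : T ≠ ⊥) (hC1 : C ≠ ⊥) :
    IsCyclic ↥T ∧ IsCyclic ↥C := by
  have hpp : p.Prime := Fact.out
  have hSR : {x : G | x ∈ R ∧ x ^ p = 1}.ncard ≤ p ^ 2 := by
    rw [ncard_pow_subgroup]; exact ncard_pow_p_le hp hR hRm
  have hTp : IsPGroup p T := hR.to_le hTR
  have hCp : IsPGroup p C := hR.to_le hCR
  have hTm : Cfsg.IsMetacyclic ↥T :=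
    isMetacyclic_of_injective hRm (Subgroup.inclusion hTR) (Subgroup.inclusion_injective hTR)
  have hCm : Cfsg.IsMetacyclic ↥C :=
    isMetacyclic_of_injective hRm (Subgroup.inclusion hCR) (Subgroup.inclusion_injective hCR)
  have hdC : p ∣ Nat.card C := by
    rcases hCp.card_eq_or_dvd with h | h
    · exact absurd (Subgroup.card_eq_one.mp h) hC1
    · exact h
  have hdT : p ∣ Nat.card T := by
    rcases hTp.card_eq_or_dvd with h | h
    · exact absurd (Subgroup.card_eq_one.mp h) hT1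
    · exact h
  obtain ⟨h', hh'⟩ := exists_prime_orderOf_dvd_card' p hdC
  obtain ⟨h, hhC, hhord⟩ : ∃ h : G, h ∈ C ∧ orderOf h = p :=
    ⟨(h' : G), h'.2, by rw [Subgroup.orderOf_coe]; exact hh'⟩
  obtain ⟨t', ht'⟩ := exists_prime_orderOf_dvd_card' p hdT
  obtain ⟨t₀, ht₀T, ht₀ord⟩ : ∃ t : G, t ∈ T ∧ orderOf t = p :=
    ⟨(t' : G), t'.2, by rw [Subgroup.orderOf_coe]; exact ht'⟩
  have hhT : h ∉ T := by
    intro hmem
    have h1 : h ∈ T ⊓ C := Subgroup.mem_inf.mpr ⟨hmem, hhC⟩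
    rw [hinf, Subgroup.mem_bot] at h1
    rw [h1, orderOf_one] at hhord
    exact hpp.one_lt.ne hhord
  have hTcyc : IsCyclic ↥T := by
    apply isCyclic_of_ncard_pow_p_le hp hTp hTm
    by_contra hgt
    push Not at hgt
    rw [← ncard_pow_subgroup] at hgt
    let ΩT : Subgroup G :=
      { carrier := {x | x ∈ T ∧ x ^ p = 1}
        one_mem' := ⟨T.one_mem, one_pow p⟩
        mul_mem' := by
          rintro a b ⟨ha, hap⟩ ⟨hb, hbp⟩
          refine ⟨T.mul_mem ha hb, ?_⟩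
          have hab : Commute a b := hTab a ha b hb
          rw [hab.mul_pow, hap, hbp, one_mul]
        inv_mem' := by
          rintro a ⟨ha, hap⟩
          exact ⟨T.inv_mem ha, by rw [inv_pow, hap, inv_one]⟩ }
    have hΩcard : Nat.card ΩT = {x : G | x ∈ T ∧ x ^ p = 1}.ncard :=
      Nat.card_coe_set_eq {x : G | x ∈ T ∧ x ^ p = 1}
    have hΩR : ΩT ≤ R := fun x hx => hTR hx.1
    obtain ⟨j, hj⟩ := (hR.to_le hΩR).exists_card_eq
    have hj2 : 2 ≤ j := by
      by_contra hlt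
      have h1 : j = 0 ∨ j = 1 := by omega
      rw [← hΩcard, hj] at hgt
      rcases h1 with h1 | h1
      · rw [h1, pow_zero] at hgt; have := hpp.one_lt; omega
      · rw [h1, pow_one] at hgt; omega
    have hle : p ^ 2 ≤ Nat.card ΩT := by rw [hj]; exact Nat.pow_le_pow_right hpp.pos hj2
    have hnot : h ∉ (ΩT : Set G) := fun hmem => hhT hmem.1
    have hsub : insert h (ΩT : Set G) ⊆ {x : G | x ∈ R ∧ x ^ p = 1} := by
      intro y hy
      rcases hy with rfl | hy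
      · exact ⟨hCR hhC, by rw [← hhord]; exact pow_orderOf_eq_one _⟩
      · exact ⟨hTR hy.1, hy.2⟩
    have h1 := Set.ncard_le_ncard hsub (Set.toFinite _)
    rw [Set.ncard_insert_of_notMem hnot (Set.toFinite _)] at h1
    have h2 : (ΩT : Set G).ncard = Nat.card ΩT := hΩcard.symm
    omega
  refine ⟨hTcyc, ?_⟩
  -- t₀ is central in R
  have ht₀c : ∀ x ∈ R, x * t₀ = t₀ * x := by
    haveI hTn' : (T.subgroupOf R).Normal :=
      (Subgroup.normal_subgroupOf_iff_le_normalizer hTR).mpr hTn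
    have hcyc' : IsCyclic (T.subgroupOf R) := by
      haveI := hTcyc
      exact isCyclic_of_surjective (Subgroup.subgroupOfEquivOfLe hTR).symm.toMonoidHom
        (Subgroup.subgroupOfEquivOfLe hTR).symm.surjective
    have hzn : (Subgroup.zpowers (⟨t₀, hTR ht₀T⟩ : R)).Normal :=
      normal_of_le_cyclic_normal (N := T.subgroupOf R) hcyc'
        (Subgroup.zpowers_le.mpr (Subgroup.mem_subgroupOf.mpr ht₀T))
    have hord : orderOf (⟨t₀, hTR ht₀T⟩ : R) = p := by
      rw [← Subgroup.orderOf_coe]; exact ht₀ord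
    have hcard : Nat.card (Subgroup.zpowers (⟨t₀, hTR ht₀T⟩ : R)) = p := by
      rw [Nat.card_zpowers, hord]
    have hle := le_center_of_normal_of_card_eq hR (Subgroup.zpowers (⟨t₀, hTR ht₀T⟩ : R)) hcard
    intro x hx
    have h1 := Subgroup.mem_center_iff.mp (hle (Subgroup.mem_zpowers _)) ⟨x, hx⟩
    exact congrArg Subtype.val h1
  have ht₀p : t₀ ^ p = 1 := by rw [← ht₀ord]; exact pow_orderOf_eq_one _
  have hzc : ∀ v ∈ Subgroup.zpowers t₀, ∀ x ∈ R, x * v = v * x := by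
    rintro v ⟨i, rfl⟩ x hx
    have h1 : Commute x t₀ := ht₀c x hx
    exact (h1.zpow_right i).eq
  have hzp : ∀ v ∈ Subgroup.zpowers t₀, v ^ p = 1 := by
    rintro v ⟨i, rfl⟩
    show (t₀ ^ i) ^ p = 1
    rw [← zpow_natCast, ← zpow_mul, mul_comm, zpow_mul, zpow_natCast, ht₀p, one_zpow]
  have hzT : Subgroup.zpowers t₀ ≤ T := Subgroup.zpowers_le.mpr ht₀T
  apply isCyclic_of_ncard_pow_p_le hp hCp hCm
  rw [← ncard_pow_subgroup]
  set S1 : Set G := (Subgroup.zpowers t₀ : Set G) with hS1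
  set S2 : Set G := {x : G | x ∈ C ∧ x ^ p = 1} with hS2
  have hS1card : S1.ncard = p := by
    rw [hS1, ← ht₀ord, ← Nat.card_zpowers]; rfl
  let f : G × G → G := fun q => q.1 * q.2
  have hinj : Set.InjOn f (S1 ×ˢ S2) := by
    rintro ⟨v, x⟩ ⟨hv, hx⟩ ⟨v', x'⟩ ⟨hv', hx'⟩ hf
    have hf' : v * x = v' * x' := hf
    have h1 : v'⁻¹ * v = x' * x⁻¹ := by
      calc v'⁻¹ * v = v'⁻¹ * (v * x) * x⁻¹ := by group
        _ = v'⁻¹ * (v' * x') * x⁻¹ := by rw [hf']
        _ = x' * x⁻¹ := by group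
    have h2 : v'⁻¹ * v ∈ T ⊓ C := by
      refine Subgroup.mem_inf.mpr ⟨T.mul_mem (T.inv_mem (hzT hv')) (hzT hv), ?_⟩
      rw [h1]; exact C.mul_mem hx'.1 (C.inv_mem hx.1)
    rw [hinf, Subgroup.mem_bot] at h2
    have h3 : v = v' := by
      have : v = v' * (v'⁻¹ * v) := by group
      rw [this, h2, mul_one]
    have h4 : x = x' := by
      rw [h3] at hf'
      exact mul_left_cancel hf'
    rw [h3, h4]
  have himg : f '' (S1 ×ˢ S2) ⊆ {x : G | x ∈ R ∧ x ^ p = 1} := by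
    rintro _ ⟨⟨v, x⟩, ⟨hv, hx⟩, rfl⟩
    have hvx : Commute v x := (hzc v hv x (hCR hx.1)).symm
    refine ⟨R.mul_mem (hTR (hzT hv)) (hCR hx.1), ?_⟩
    show (v * x) ^ p = 1
    rw [hvx.mul_pow, hzp v hv, hx.2, one_mul]
  have h1 := Set.ncard_le_ncard himg (Set.toFinite _)
  rw [Set.ncard_image_of_injOn hinj, Set.ncard_prod, hS1card] at h1
  have h2 : p * S2.ncard ≤ p * p := by rw [← sq]; exact h1.trans hSR
  exact Nat.le_of_mul_le_mul_left h2 hpp.pos

end Cfsg.Agent.helper19
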