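import Cfsg.Statements.S1447
-- import your own Cfsg.Agent.* helpers here
import Cfsg.Agent.Lib_helper19_MetaCop4

set_option autoImplicit false
open Cfsg

namespace Cfsg.Agent.S1447

open scoped commutatorElement


/-- Let G be a finite group, p an odd prime, R a metacyclic p-subgroup and A a subgroup of order coprime to p normalizing R. Then [R, A] is abelian; R is generated by [R, A] and R ∩ C_G(A), which meet trivially; and if R is non-abelian and A does not centralize R, then [R, A] and R ∩ C_G(A) are nontrivial cyclic groups and [R, R] ≤ [R, A]. -/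
theorem result {G : Type*} [Group G] [Finite G] (p : ℕ) [Fact p.Prime] (hp : p ≠ 2) (R A : Subgroup G) (hR : IsPGroup p R) (hRm : Cfsg.IsMetacyclic R)
    (hA : (A ≤ Subgroup.normalizer (R : Set G))) (hcop : (Nat.card A).Coprime p) :
    IsMulCommutative ↥⁅R, A⁆ ∧ ⁅R, A⁆ ⊔ (R ⊓ Subgroup.centralizer (A : Set G)) = R ∧ ⁅R, A⁆ ⊓ (R ⊓ Subgroup.centralizer (A : Set G)) = ⊥ ∧
      (¬ IsMulCommutative R → ¬ A ≤ Subgroup.centralizer (R : Set G) →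
        ⁅R, A⁆ ≠ ⊥ ∧ IsCyclic ↥⁅R, A⁆ ∧ (R ⊓ Subgroup.centralizer (A : Set G)) ≠ ⊥ ∧ IsCyclic ↥(R ⊓ Subgroup.centralizer (A : Set G)) ∧ ⁅R, R⁆ ≤ ⁅R, A⁆) := by
  have hpp : p.Prime := Fact.out
  obtain ⟨n, hn⟩ := hR.exists_card_eq
  have hcopR : (Nat.card A).Coprime (Nat.card R) := by
    rw [hn]; exact Nat.Coprime.pow_right n hcop
  have hsolv : Group.IsSolvable R := by
    haveI := hR.isNilpotent
    infer_instance
  have hTR : ⁅R, A⁆ ≤ R := Cfsg.Agent.helper7.commutator_le_of_normalizer hA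
  have hsup : ⁅R, A⁆ ⊔ (R ⊓ Subgroup.centralizer (A : Set G)) = R :=
    Cfsg.Agent.lead.coprime_commutator_sup_fixed A R hA hcopR (Or.inr hsolv)
  have hTT : ⁅⁅R, A⁆, A⁆ = ⁅R, A⁆ :=
    Cfsg.Agent.lead.coprime_commutator_commutator A R hA hcopR (Or.inr hsolv)
  have hAT : A ≤ Subgroup.normalizer ((⁅R, A⁆ : Subgroup G) : Set G) := fun a ha =>
    Cfsg.Agent.helper7.mem_normalizer_commutator (hA ha) (Subgroup.le_normalizer ha)
  have hRT : R ≤ Subgroup.normalizer ((⁅R, A⁆ : Subgroup G) : Set G) :=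
    Cfsg.Agent.lead.le_normalizer_commutator_left R A
  have hTp : IsPGroup p (⁅R, A⁆ : Subgroup G) := hR.to_le hTR
  have hTm : Cfsg.IsMetacyclic (⁅R, A⁆ : Subgroup G) :=
    Cfsg.Agent.helper19.isMetacyclic_of_injective hRm (Subgroup.inclusion hTR)
      (Subgroup.inclusion_injective hTR)
  have hTab := Cfsg.Agent.helper19.meta_cop_abelian hp ⁅R, A⁆ A hTp hTm hAT hcop hTT
  have hcopT : (Nat.card A).Coprime (Nat.card (⁅R, A⁆ : Subgroup G)) :=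
    Nat.Coprime.coprime_dvd_right (Subgroup.card_dvd_of_le hTR) hcopR
  have hinf : ⁅R, A⁆ ⊓ (R ⊓ Subgroup.centralizer (A : Set G)) = ⊥ := by
    have h1 := Cfsg.Agent.lead.coprime_abelian_inf A ⁅R, A⁆ hTab hAT hcopT
    rw [hTT] at h1
    rw [eq_bot_iff, ← h1]
    intro x hx
    obtain ⟨hx1, hx2⟩ := Subgroup.mem_inf.mp hx
    obtain ⟨-, hx3⟩ := Subgroup.mem_inf.mp hx2
    exact Subgroup.mem_inf.mpr ⟨Subgroup.mem_inf.mpr ⟨hx1, hx3⟩, hx1⟩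
  refine ⟨⟨⟨fun x y => Subtype.ext (hTab x x.2 y y.2)⟩⟩, hsup, hinf, ?_⟩
  intro hRna hAnc
  have hT1 : ⁅R, A⁆ ≠ ⊥ := by
    intro h
    rw [Subgroup.commutator_eq_bot_iff_le_centralizer] at h
    exact hAnc (Subgroup.le_centralizer_iff.mp h)
  have hC1 : R ⊓ Subgroup.centralizer (A : Set G) ≠ ⊥ := by
    intro h
    rw [h, sup_bot_eq] at hsup
    apply hRna
    refine ⟨⟨fun x y => Subtype.ext ?_⟩⟩
    have hx : (x : G) ∈ ⁅R, A⁆ := by rw [hsup]; exact x.2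
    have hy : (y : G) ∈ ⁅R, A⁆ := by rw [hsup]; exact y.2
    exact hTab x hx y hy
  obtain ⟨hTcyc, hCcyc⟩ := Cfsg.Agent.helper19.meta_cop_cyclic hp R ⁅R, A⁆
    (R ⊓ Subgroup.centralizer (A : Set G)) hR hRm hTR inf_le_left hRT hTab hinf hT1 hC1
  refine ⟨hT1, hTcyc, hC1, hCcyc, ?_⟩
  rw [Subgroup.commutator_le]
  intro x hx y hy
  obtain ⟨t₁, ht₁, c₁, hc₁, rfl⟩ :=
    Cfsg.Agent.lead.coprime_decomp A R hA hcopR (Or.inr hsolv) x hx
  obtain ⟨t₂, ht₂, c₂, hc₂, rfl⟩ :=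
    Cfsg.Agent.lead.coprime_decomp A R hA hcopR (Or.inr hsolv) y hy
  have hcc : c₁ * c₂ = c₂ * c₁ := by
    letI := IsCyclic.commGroup (α := ↥(R ⊓ Subgroup.centralizer (A : Set G)))
    have h1 := mul_comm (⟨c₁, hc₁⟩ : ↥(R ⊓ Subgroup.centralizer (A : Set G))) ⟨c₂, hc₂⟩
    exact congrArg Subtype.val h1
  have hc₁R : c₁ ∈ R := (Subgroup.mem_inf.mp hc₁).1
  have hc₂R : c₂ ∈ R := (Subgroup.mem_inf.mp hc₂).1
  have e : ⁅t₁ * c₁, t₂ * c₂⁆ =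
      t₁ * (c₁ * t₂ * c₁⁻¹) * (c₁ * c₂ * c₁⁻¹ * c₂⁻¹) * (c₂ * t₁⁻¹ * c₂⁻¹) * t₂⁻¹ := by
    rw [commutatorElement_def]; group
  have e2 : c₁ * c₂ * c₁⁻¹ * c₂⁻¹ = 1 := by rw [hcc]; group
  rw [e, e2, mul_one]
  have h1 : c₁ * t₂ * c₁⁻¹ ∈ ⁅R, A⁆ :=
    Cfsg.Agent.helper19.conj_mem_of_le_normalizer hRT hc₁R ht₂
  have h2 : c₂ * t₁⁻¹ * c₂⁻¹ ∈ ⁅R, A⁆ :=
    Cfsg.Agent.helper19.conj_mem_of_le_normalizer hRT hc₂R (Subgroup.inv_mem _ ht₁)
  exact Subgroup.mul_mem _ (Subgroup.mul_mem _ (Subgroup.mul_mem _ ht₁ h1) h2)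
    (Subgroup.inv_mem _ ht₂)

end Cfsg.Agent.S1447
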