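import Mathlib
import Cfsg.Prelude.Def_PLocal
import Cfsg.Prelude.Def_OddOrderLocal
import Cfsg.Prelude.Def_CaseTheorems
import Cfsg.Agent.Lib_helper23_Bk1
import Cfsg.Agent.Lib_helper23_BG4b
import Cfsg.Agent.S1447

set_option autoImplicit false
set_option linter.style.haveILetI false
set_option linter.unusedSectionVars false

namespace Cfsg.Agent.helper23

open scoped commutatorElement

universe u

variable {G : Type u} [Group G] [Finite G] {p : ℕ} [hp : Fact p.Prime]

/-- A `p'`-element commuting with every element of order dividing `p` of the normal `p`-subgroup `R`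
(`p` odd) centralizes `R`. -/
theorem centralizes_of_centralizes_omega (hp2 : p ≠ 2) (R : Subgroup G) [hRn : R.Normal]
    (hR : IsPGroup p R) (b : G) (hcop : (orderOf b).Coprime p)
    (h : ∀ x ∈ R, x ^ p = 1 → b * x = x * b) : b ∈ Subgroup.centralizer (R : Set G) := by
  have hodd : Odd p := hp.out.odd_of_ne_two hp2
  obtain ⟨C, hCR, hCn, -, hC2, -, hC4, H, hCH, -, hHΦ, -, -⟩ := helper10.exists_critical_in R hR
  haveI := hCn
  have hCp : IsPGroup p C := hR.to_le hCR
  have hcomm : ∀ x ∈ C, ∀ y ∈ C, ⁅x, y⁆ ∈ Subgroup.centralizer (C : Set G) :=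
    fun x hx y hy => hC2 (Subgroup.commutator_mem_commutator hx hy)
  have hpow : ∀ x ∈ C, x ^ p ∈ Subgroup.centralizer (C : Set G) := by
    intro x hx
    rw [hCH] at hx
    obtain ⟨h, hhH, rfl⟩ := Subgroup.mem_map.1 hx
    have hHp : IsPGroup p H := hR.to_subgroup H
    have h2 : ((⟨h, hhH⟩ : ↥H) ^ p : ↥H) ∈ frattini ↥H :=
      helper1.pow_mem_frattini_of_isPGroup hHp (⟨h, hhH⟩ : ↥H)
    have h3 : (H.subtype ((⟨h, hhH⟩ : ↥H) ^ p)) ∈ Subgroup.centralizer (H : Set ↥R) :=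
      hHΦ (Subgroup.mem_map_of_mem _ h2)
    rw [Subgroup.mem_centralizer_iff]
    intro c hc
    rw [hCH] at hc
    obtain ⟨c', hc'H, rfl⟩ := Subgroup.mem_map.1 hc
    have h4 := Subgroup.mem_centralizer_iff.1 h3 c' hc'H
    have h5 := congrArg (fun t : ↥R => (t : G)) h4
    exact h5
  have hbD : b ∈ Subgroup.centralizer ((omegaK p hodd C hcomm hpow 1 : Subgroup G) : Set G) := by
    rw [Subgroup.mem_centralizer_iff]
    intro x hx
    have hx' := mem_omegaK.1 hx
    rw [pow_one] at hx'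
    exact (h x (hCR hx'.1) hx'.2).symm
  have hbC : b ∈ Subgroup.centralizer (C : Set G) :=
    centralizes_of_centralizes_omega1 hCp b hcop hbD
  exact centralizes_of_critical R C hR hCR hC4 b hcop hbC

/-- Counting fixed points of an element of prime order `q` normalizing `N`. -/
theorem card_modEq_fixed (N : Subgroup G) (a : G) (q : ℕ) [hq : Fact q.Prime] (haq : a ^ q = 1)
    (haN : a ∈ Subgroup.normalizer (N : Set G)) :
    Nat.card N ≡ Nat.card ↥(N ⊓ Subgroup.centralizer ({a} : Set G)) [MOD q] := by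
  set g : ↥(Subgroup.normalizer (N : Set G)) := ⟨a, haN⟩ with hg
  set K := Subgroup.zpowers g with hK
  have hKq : IsPGroup q ↥K := by
    rintro ⟨k, hk⟩
    obtain ⟨i, rfl⟩ := Subgroup.mem_zpowers_iff.1 hk
    refine ⟨1, ?_⟩
    apply Subtype.ext
    apply Subtype.ext
    simp only [pow_one, Subgroup.coe_pow, Subgroup.coe_zpow, Subgroup.coe_one]
    rw [hg, ← zpow_natCast, ← zpow_mul, mul_comm, zpow_mul, zpow_natCast, haq, one_zpow]
  have h1 := hKq.card_modEq_card_fixedPoints ↥N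
  have h2 : Nat.card ↥(MulAction.fixedPoints ↥K ↥N) =
      Nat.card ↥(N ⊓ Subgroup.centralizer ({a} : Set G)) := by
    apply Nat.card_congr
    refine
      { toFun := fun x => ⟨x.1.1, x.1.2, ?_⟩
        invFun := fun y => ⟨⟨y.1, y.2.1⟩, ?_⟩
        left_inv := fun x => rfl
        right_inv := fun y => rfl }
    · show (x.1.1 : G) ∈ Subgroup.centralizer ({a} : Set G)
      rw [Subgroup.mem_centralizer_iff]
      intro h hh
      rw [Set.mem_singleton_iff] at hh
      subst hh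
      have hfix := x.2 ⟨g, Subgroup.mem_zpowers g⟩
      have h3 : (((⟨g, Subgroup.mem_zpowers g⟩ : ↥K) • x.1 : ↥N) : G) = h * x.1.1 * h⁻¹ := rfl
      rw [hfix] at h3
      calc h * x.1.1 = h * x.1.1 * h⁻¹ * h := by group
        _ = x.1.1 * h := by rw [← h3]
    · rintro ⟨k, hk⟩
      obtain ⟨i, rfl⟩ := Subgroup.mem_zpowers_iff.1 hk
      apply Subtype.ext
      show ((g ^ i : ↥(Subgroup.normalizer (N : Set G))) : G) * y.1 *
        ((g ^ i : ↥(Subgroup.normalizer (N : Set G))) : G)⁻¹ = y.1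
      have hc : a * y.1 = y.1 * a :=
        (Subgroup.mem_centralizer_iff.1 y.2.2 a rfl)
      have hc' : Commute (a ^ i) y.1 := (Commute.zpow_left hc i)
      simp only [Subgroup.coe_zpow, hg]
      rw [hc'.eq]; group
  rw [← h2]
  exact h1

/-- One step of the chain argument: an element of prime order `q ∤ p(p-1)` centralizing `M`
centralizes an overgroup `N` with `|N : M| = p`. -/
theorem centralizes_step (q : ℕ) [hq : Fact q.Prime] (hqp : ¬ q ∣ p * (p - 1)) (a : G)
    (haq : a ^ q = 1) (M N : Subgroup G) (hMN : M ≤ N) (hNp : IsPGroup p N)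
    (hcard : Nat.card N = p * Nat.card M) (haN : a ∈ Subgroup.normalizer (N : Set G))
    (hM : M ≤ Subgroup.centralizer ({a} : Set G)) : N ≤ Subgroup.centralizer ({a} : Set G) := by
  have hp1 : 1 < p := hp.out.one_lt
  set F := N ⊓ Subgroup.centralizer ({a} : Set G) with hF
  have hMF : M ≤ F := le_inf hMN hM
  have hFN : F ≤ N := inf_le_left
  obtain ⟨j, hj⟩ := (hNp.to_le hMN).exists_card_eq
  obtain ⟨i, hi⟩ := (hNp.to_le hFN).exists_card_eq
  have hN : Nat.card N = p ^ (j + 1) := by rw [hcard, hj, pow_succ, mul_comm]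
  have h1 : p ^ j ≤ p ^ i := by rw [← hj, ← hi]; exact Subgroup.card_le_of_le hMF
  have h2 : p ^ i ≤ p ^ (j + 1) := by rw [← hN, ← hi]; exact Subgroup.card_le_of_le hFN
  have hji : j ≤ i := (Nat.pow_le_pow_iff_right hp1).1 h1
  have hij : i ≤ j + 1 := (Nat.pow_le_pow_iff_right hp1).1 h2
  have hmod := card_modEq_fixed N a q haq haN
  rw [← hF, hN, hi] at hmod
  rcases Nat.lt_or_ge i (j + 1) with hlt | hge
  · exfalso
    have hij' : i = j := by omega
    subst hij'
    have h3 : q ∣ p ^ (i + 1) - p ^ i := (Nat.modEq_iff_dvd' h2).1 hmod.symm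
    have h4 : p ^ (i + 1) - p ^ i = p ^ i * (p - 1) := by
      rw [pow_succ, Nat.mul_sub_one]
    rw [h4] at h3
    rcases (Nat.Prime.dvd_mul hq.out).1 h3 with h5 | h5
    · exact hqp (Dvd.dvd.mul_right (hq.out.dvd_of_dvd_pow h5) _)
    · exact hqp (Dvd.dvd.mul_left h5 _)
  · have hFeq : F = N := by
      apply Subgroup.eq_of_le_of_card_ge hFN
      rw [hN, hi]
      exact Nat.pow_le_pow_right hp.out.pos hge
    rw [← hFeq]
    exact inf_le_right

/-- A chain `1 < N₂ < N₁ < E` of orders `p, p², p³` normalized by `a` is centralized by `a`. -/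
theorem centralizes_chain3 (q : ℕ) [hq : Fact q.Prime] (hqp : ¬ q ∣ p * (p - 1)) (a : G)
    (haq : a ^ q = 1) (N₂ N₁ E : Subgroup G) (h21 : N₂ ≤ N₁) (h1E : N₁ ≤ E)
    (hEp : IsPGroup p E) (c2 : Nat.card N₂ = p) (c1 : Nat.card N₁ = p ^ 2)
    (cE : Nat.card E = p ^ 3) (ha2 : a ∈ Subgroup.normalizer (N₂ : Set G))
    (ha1 : a ∈ Subgroup.normalizer (N₁ : Set G)) (haE : a ∈ Subgroup.normalizer (E : Set G)) :
    E ≤ Subgroup.centralizer ({a} : Set G) := by
  have s0 : N₂ ≤ Subgroup.centralizer ({a} : Set G) :=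
    centralizes_step q hqp a haq ⊥ N₂ bot_le ((hEp.to_le h1E).to_le h21)
      (by rw [Subgroup.card_bot, mul_one, c2]) ha2 bot_le
  have s1 : N₁ ≤ Subgroup.centralizer ({a} : Set G) :=
    centralizes_step q hqp a haq N₂ N₁ h21 (hEp.to_le h1E) (by rw [c1, c2, sq]) ha1 s0
  exact centralizes_step q hqp a haq N₁ E h1E hEp (by rw [cE, c1]; ring) haE s1

/-- An element of prime order `q ∤ p(p-1)` centralizes every normal cyclic `p`-subgroup. -/
theorem centralizes_cyclic (q : ℕ) [hq : Fact q.Prime] (hqp : ¬ q ∣ p * (p - 1)) (a : G)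
    (haq : a ^ q = 1) (C : Subgroup G) [hCn : C.Normal] (hCp : IsPGroup p C) (hc : IsCyclic ↥C) :
    C ≤ Subgroup.centralizer ({a} : Set G) := by
  set φ : MulAut ↥C := MulAut.conjNormal a with hφ
  have hφq : φ ^ q = 1 := by rw [hφ, ← map_pow, haq, map_one]
  have h1 : orderOf φ ∣ q := orderOf_dvd_of_pow_eq_one hφq
  have h2 : orderOf φ ∣ Nat.card (MulAut ↥C) := orderOf_dvd_natCard φ
  have h3 : orderOf φ = 1 := by
    rcases (Nat.dvd_prime hq.out).1 h1 with h | h
    · exact h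
    · exfalso
      rw [h, IsCyclic.card_mulAut] at h2
      obtain ⟨k, hk⟩ := hCp.exists_card_eq
      rw [hk] at h2
      rcases Nat.eq_zero_or_pos k with rfl | hkpos
      · rw [pow_zero, Nat.totient_one] at h2
        exact hq.out.one_lt.ne' (Nat.dvd_one.1 h2)
      · rw [Nat.totient_prime_pow hp.out hkpos] at h2
        rcases (Nat.Prime.dvd_mul hq.out).1 h2 with h5 | h5
        · exact hqp (Dvd.dvd.mul_right (hq.out.dvd_of_dvd_pow h5) _)
        · exact hqp (Dvd.dvd.mul_left h5 _)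
  have h4 : φ = 1 := orderOf_eq_one_iff.1 h3
  intro c hcC
  rw [Subgroup.mem_centralizer_iff]
  intro h hh
  rw [Set.mem_singleton_iff] at hh
  subst hh
  have h5 : φ ⟨c, hcC⟩ = ⟨c, hcC⟩ := by rw [h4]; rfl
  have h6 : ((φ ⟨c, hcC⟩ : ↥C) : G) = h * c * h⁻¹ := rfl
  rw [h5] at h6
  calc h * c = h * c * h⁻¹ * h := by group
    _ = c * h := by rw [← h6]

/-- If `R` acts nontrivially on `E/Z(E)`, the series `E > [E,R] > [E,R,R] > 1` has orders
`p³, p², p, 1`. -/
theorem es_chain (R : Subgroup G) [hRn : R.Normal] (hR : IsPGroup p R) (E Z : Subgroup G)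
    [hEn : E.Normal] (hER : E ≤ R) (hEc : Nat.card E = p ^ 3) (hZc : Nat.card Z = p)
    (hZmem : ∀ g ∈ E, (∀ e ∈ E, e * g = g * e) → g ∈ Z)
    (hnt : ¬ ∀ r ∈ R, ∀ e ∈ E, ⁅r, e⁆ ∈ Z) :
    Nat.card ↥⁅E, R⁆ = p ^ 2 ∧ Nat.card ↥⁅⁅E, R⁆, R⁆ = p := by
  have hp1 : 1 < p := hp.out.one_lt
  have hEne : E ≠ ⊥ := by
    intro h
    rw [h, Subgroup.card_bot] at hEc
    have : 1 < p ^ 3 := Nat.one_lt_pow (by norm_num) hp1
    omega
  set N₁ := ⁅E, R⁆ with hN₁
  have hN1E : N₁ < E := commutator_lt_of_le_pgroup R E hR hER hEne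
  have hN1R : N₁ ≤ R := hN1E.le.trans hER
  have hcentral : ∀ N : Subgroup G, N ≤ E → ⁅N, R⁆ = ⊥ → N ≤ Z := by
    intro N hNE hbot
    rw [Subgroup.commutator_eq_bot_iff_le_centralizer] at hbot
    intro g hg
    apply hZmem g (hNE hg)
    intro e he
    exact Subgroup.mem_centralizer_iff.1 (hbot hg) e (hER he)
  have hN1Z : ¬ N₁ ≤ Z := by
    intro hle
    apply hnt
    intro r hr e he
    have h1 : ⁅e, r⁆ ∈ N₁ := Subgroup.commutator_mem_commutator he hr
    have h2 : ⁅r, e⁆ = ⁅e, r⁆⁻¹ := (commutatorElement_inv e r).symm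
    rw [h2]
    exact Z.inv_mem (hle h1)
  have hN1ne : N₁ ≠ ⊥ := fun h => hN1Z (h ▸ bot_le)
  have hEp : IsPGroup p E := hR.to_le hER
  have hN1p : IsPGroup p N₁ := hR.to_le hN1R
  obtain ⟨k, hk⟩ := hN1p.exists_card_eq
  have hklt : p ^ k < p ^ 3 := by rw [← hk, ← hEc]; exact card_lt_of_lt23 hN1E
  have hk3 : k < 3 := (Nat.pow_lt_pow_iff_right hp1).1 hklt
  set N₂ := ⁅N₁, R⁆ with hN₂
  have hN2lt : N₂ < N₁ := commutator_lt_of_le_pgroup R N₁ hR hN1R hN1ne
  have hN2p : IsPGroup p N₂ := hN1p.to_le hN2lt.le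
  obtain ⟨j, hj⟩ := hN2p.exists_card_eq
  have hjk : p ^ j < p ^ k := by rw [← hj, ← hk]; exact card_lt_of_lt23 hN2lt
  have hjk' : j < k := (Nat.pow_lt_pow_iff_right hp1).1 hjk
  have hj0 : j ≠ 0 := by
    intro h0
    rw [h0, pow_zero] at hj
    have hbot : N₂ = ⊥ := (Subgroup.card_eq_one).1 hj
    exact hN1Z (hcentral N₁ hN1E.le hbot)
  have hk2 : k = 2 := by omega
  have hj1 : j = 1 := by omega
  exact ⟨by rw [hk, hk2], by rw [hj, hj1, pow_one]⟩

theorem omegaE_normal (hp3 : 3 < p) (R : Subgroup G) [hRn : R.Normal] (hR : IsPGroup p R)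
    (hr : Cfsg.PRankLE p 2 R) : (omegaE hp3 R hR hr).Normal := by
  constructor
  intro n hn g
  rw [mem_omegaE] at hn ⊢
  exact ⟨hRn.conj_mem n hn.1 g, by rw [conj_pow, hn.2]; group⟩

theorem mem_normalizer_of_normal (N : Subgroup G) [hN : N.Normal] (a : G) :
    a ∈ Subgroup.normalizer (N : Set G) := by
  rw [Subgroup.normalizer_eq_top]; exact Subgroup.mem_top a

/-- Small `Ω₁` forces `R` metacyclic. -/
theorem meta_of_omegaE_small (hp5 : 5 ≤ p) (hp3 : 3 < p) (R : Subgroup G) (hR : IsPGroup p R)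
    (hr : Cfsg.PRankLE p 2 R) (hsmall : Nat.card ↥(omegaE hp3 R hR hr) ≤ p ^ 2) :
    Cfsg.IsMetacyclic ↥R := by
  apply meta_of_small_omega hp5 _ ↥R rfl hR
  refine le_trans ?_ hsmall
  rw [← Nat.card_coe_set_eq]
  have : ((omegaE hp3 R hR hr : Subgroup G) : Set G).ncard =
      Nat.card ↥(omegaE hp3 R hR hr) := (Nat.card_coe_set_eq _).symm
  rw [Nat.card_coe_set_eq, ← this]
  apply Set.ncard_le_ncard_of_injOn (fun x : ↥R => (x : G))
  · intro x hx
    have hx' : x ^ p = 1 := hx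
    refine ⟨x.2, ?_⟩
    have := congrArg Subtype.val hx'
    simpa using this
  · intro x _ y _ hxy
    exact Subtype.ext hxy

/-- Core of the last clause of BG 5.5-type statement: an automorphism group of prime order
`q ∤ p(p-1)` acting on a non-abelian `p`-group `R = [R, A]` of rank at most 2 forces `|R| = p³`. -/
theorem narrow3_core (hp5 : 5 ≤ p) (R A : Subgroup G) [hRn : R.Normal] (hR : IsPGroup p R)
    (hr : Cfsg.PRankLE p 2 R) (q : ℕ) [hq : Fact q.Prime] (hAq : Nat.card A = q)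
    (hqp : ¬ q ∣ p * (p - 1)) (hRA : ⁅R, A⁆ = R) (hnc : ¬ IsMulCommutative R) :
    Nat.card R = p ^ 3 := by
  have hp3 : 3 < p := by omega
  have hp2 : p ≠ 2 := by omega
  have hqnep : q ≠ p := by
    intro h; apply hqp; rw [h]; exact Dvd.intro _ rfl
  have hcopqp : q.Coprime p := (Nat.coprime_primes hq.out hp.out).2 hqnep
  have haq : ∀ a ∈ A, a ^ q = 1 := by
    intro a ha
    have h1 : (⟨a, ha⟩ : ↥A) ^ Nat.card A = 1 := pow_card_eq_one'
    rw [hAq] at h1
    have := congrArg Subtype.val h1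
    simpa using this
  have hacop : ∀ a ∈ A, (orderOf a).Coprime p := by
    intro a ha
    exact Nat.Coprime.coprime_dvd_left (orderOf_dvd_of_pow_eq_one (haq a ha)) hcopqp
  set E := omegaE hp3 R hR hr with hEdef
  have hER : E ≤ R := omegaE_le hp3 R hR hr
  have hEmem : ∀ g, g ∈ E ↔ g ∈ R ∧ g ^ p = 1 := mem_omegaE hp3 R hR hr
  by_cases hbig : p ^ 2 < Nat.card E
  swap
  · exfalso
    push Not at hbig
    have hm := meta_of_omegaE_small hp5 hp3 R hR hr hbig
    have hAN : A ≤ Subgroup.normalizer (R : Set G) := fun a _ => mem_normalizer_of_normal R a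
    have hcopA : (Nat.card A).Coprime p := by rw [hAq]; exact hcopqp
    obtain ⟨hc, -⟩ := S1447.result p hp2 R A hR hm hAN hcopA
    apply hnc
    refine ⟨⟨fun x y => ?_⟩⟩
    apply Subtype.ext
    have hx : (x : G) ∈ ⁅R, A⁆ := by rw [hRA]; exact x.2
    have hy : (y : G) ∈ ⁅R, A⁆ := by rw [hRA]; exact y.2
    have := congrArg Subtype.val (hc.is_comm.comm ⟨x, hx⟩ ⟨y, hy⟩)
    exact this
  obtain ⟨hEc, hEn⟩ := omegaE_big hp3 R hR hr hbig
  obtain ⟨Z, hZE, hZc, hZcomm, hZmem, hcomZ, hcommEE⟩ := es_center E hEc hEn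
  haveI hEnorm : E.Normal := omegaE_normal hp3 R hR hr
  by_cases htriv : ∀ r ∈ R, ∀ e ∈ E, ⁅r, e⁆ ∈ Z
  · have hsup := es_trivial_action R hR E Z hER hEc hEn hZc hZmem htriv
    obtain ⟨hCcyc, -⟩ := es_centralizer_cyclic hp5 R hR E Z hEmem hZc hZmem
    set C := R ⊓ Subgroup.centralizer (E : Set G) with hC
    haveI hCn : C.Normal := by rw [hC]; infer_instance
    have hCp : IsPGroup p C := hR.to_le inf_le_left
    have hle : ⁅R, A⁆ ≤ E := by
      rw [Subgroup.commutator_le]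
      intro r hr' a ha
      have hCa := centralizes_cyclic q hqp a (haq a ha) C hCp hCcyc
      rw [← hsup] at hr'
      have hr'' : r ∈ ((E ⊔ C : Subgroup G) : Set G) := hr'
      rw [Subgroup.normal_mul] at hr''
      obtain ⟨e, he, c, hc, rfl⟩ := Set.mem_mul.1 hr''
      have hca : a * c = c * a := Subgroup.mem_centralizer_iff.1 (hCa hc) a rfl
      have h1 : ⁅e * c, a⁆ = e * (a * e⁻¹ * a⁻¹) := by
        rw [commutatorElement_def]
        calc e * c * a * (e * c)⁻¹ * a⁻¹ = e * (c * a) * c⁻¹ * e⁻¹ * a⁻¹ := by group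
          _ = e * (a * c) * c⁻¹ * e⁻¹ * a⁻¹ := by rw [hca]
          _ = e * (a * e⁻¹ * a⁻¹) := by group
      rw [h1]
      exact E.mul_mem he (hEnorm.conj_mem _ (E.inv_mem he) a)
    rw [hRA] at hle
    have hRE : R = E := le_antisymm hle hER
    rw [hRE]; exact hEc
  · exfalso
    obtain ⟨c1, c2⟩ := es_chain R hR E Z hER hEc hZc hZmem htriv
    have hEp : IsPGroup p E := hR.to_le hER
    have hAcen : A ≤ Subgroup.centralizer (R : Set G) := by
      intro a ha
      have hEa := centralizes_chain3 q hqp a (haq a ha) ⁅⁅E, R⁆, R⁆ ⁅E, R⁆ E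
        (Subgroup.commutator_le_left _ _) (Subgroup.commutator_le_left _ _) hEp c2 c1 hEc
        (mem_normalizer_of_normal _ a) (mem_normalizer_of_normal _ a)
        (mem_normalizer_of_normal _ a)
      apply centralizes_of_centralizes_omega hp2 R hR a (hacop a ha)
      intro x hxR hxp
      have hxE : x ∈ E := (hEmem x).2 ⟨hxR, hxp⟩
      exact Subgroup.mem_centralizer_iff.1 (hEa hxE) a rfl
    have hbot : ⁅R, A⁆ = ⊥ := by
      rw [Subgroup.commutator_comm, Subgroup.commutator_eq_bot_iff_le_centralizer]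
      exact hAcen
    rw [hRA] at hbot
    apply hnc
    refine ⟨⟨fun x y => ?_⟩⟩
    have hall : ∀ g : G, g ∈ R → g = 1 := by
      intro g hg
      rw [hbot, Subgroup.mem_bot] at hg; exact hg
    have hx : (x : G) = 1 := hall _ x.2
    have hy : (y : G) = 1 := hall _ y.2
    apply Subtype.ext
    simp [hx, hy]

end Cfsg.Agent.helper23
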