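import Mathlib
import Cfsg.Prelude.Def_PLocal
import Cfsg.Prelude.Def_OddOrderLocal
import Cfsg.Prelude.Def_CaseTheorems
import Cfsg.Agent.Lib_helper23_Bk2
import Cfsg.Agent.Lib_helper23_BG5g
import Cfsg.Agent.Lib_helper1_Core
import Cfsg.Agent.Lib_helper3_EA

set_option autoImplicit false
set_option linter.style.haveILetI false
set_option linter.unusedSectionVars false

namespace Cfsg.Agent.helper23

open scoped commutatorElement

universe u

/-- If the derived subgroup is a `p`-group, it lies in `O_p` and `O_p` is a Sylow `p`-subgroup. -/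
theorem pcore_of_comm_pgroup {B : Type*} [Group B] [Finite B] (p : ℕ) [hp : Fact p.Prime]
    (h : IsPGroup p ↥(commutator B)) :
    commutator B ≤ Cfsg.pCore p B ∧ ((Cfsg.pCore p B).index).Coprime p := by
  have hD : commutator B ≤ Cfsg.pCore p B := helper1.le_pCore inferInstance h
  refine ⟨hD, ?_⟩
  obtain ⟨P⟩ : Nonempty (Sylow p B) := inferInstance
  have h1 : Cfsg.pCore p B ≤ P := helper1.pCore_le_sylow P
  have hPn : (P : Subgroup B).Normal := normal_of_commutator_le _ (hD.trans h1)
  have h2 : (P : Subgroup B) ≤ Cfsg.pCore p B := helper1.le_pCore hPn P.isPGroup'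
  have heq : Cfsg.pCore p B = P := le_antisymm h1 h2
  rw [heq]
  have := P.not_dvd_index
  exact ((Nat.Prime.coprime_iff_not_dvd hp.out).2 this).symm

/-- `PRankLE` passes along injective homomorphisms. -/
theorem prankLE_of_injective {X Y : Type*} [Group X] [Group Y] {p k : ℕ} (f : X →* Y)
    (hf : Function.Injective f) (h : Cfsg.PRankLE p k Y) : Cfsg.PRankLE p k X := by
  intro A hA hAe
  have hea := helper3.ea_map (p := p) ⟨hA, hAe⟩ f
  have := h _ hea.1 hea.2
  rwa [Subgroup.card_map_of_injective hf] at this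

/-- `narrow_centralizes` applied inside the normalizer of `R`. -/
theorem narrow_centralizes_in_normalizer {G : Type*} [Group G] [Finite G] {p : ℕ}
    [hp : Fact p.Prime] (hp2 : p ≠ 2) (R : Subgroup G) (hR : IsPGroup p R)
    (hRn : Cfsg.IsNarrow p R) (hr : ¬ Cfsg.PRankLE p 2 R)
    (x : ↥(Subgroup.normalizer (R : Set G))) (hx : (orderOf x).Coprime p)
    (htriv : TrivOnPrimeSections p x) : (x : G) ∈ Subgroup.centralizer (R : Set G) := by
  have hRN : R ≤ Subgroup.normalizer (R : Set G) := Subgroup.le_normalizer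
  haveI hPn : (R.subgroupOf (Subgroup.normalizer (R : Set G))).Normal :=
    Subgroup.normal_in_normalizer
  have hP : IsPGroup p (R.subgroupOf (Subgroup.normalizer (R : Set G))) :=
    hR.of_equiv (Subgroup.subgroupOfEquivOfLe hRN).symm
  set ι := Subgroup.inclusion hRN with hι
  have hinj : Function.Injective ι := Subgroup.inclusion_injective hRN
  have hrange : ι.range = R.subgroupOf (Subgroup.normalizer (R : Set G)) :=
    Subgroup.inclusion_range hRN
  obtain ⟨E₀, hE₀, hE₀c, hE₀max⟩ := narrow_exists_max_ea hR hRn hr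
  have hmapP : ∀ B₀ : Subgroup ↥R, B₀.map ι ≤ R.subgroupOf (Subgroup.normalizer (R : Set G)) := by
    intro B₀
    rw [← hrange]
    rintro _ ⟨b, -, rfl⟩
    exact ⟨b, rfl⟩
  have hE' : Cfsg.IsElementaryAbelian p (E₀.map ι) := helper3.ea_map hE₀ ι
  have hE'2 : Nat.card ↥(E₀.map ι) = p ^ 2 := by
    rw [Subgroup.card_map_of_injective hinj]; exact hE₀c
  have hE'max : ∀ B : Subgroup ↥(Subgroup.normalizer (R : Set G)),
      B ≤ R.subgroupOf (Subgroup.normalizer (R : Set G)) → Cfsg.IsElementaryAbelian p B →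
      E₀.map ι ≤ B → B = E₀.map ι := by
    intro B hBP hB hEB
    have hB₀ := helper3.ea_comap_of_injective hB ι hinj
    have hE₀B₀ : E₀ ≤ B.comap ι := by
      intro e he
      exact hEB (Subgroup.mem_map_of_mem ι he)
    have hB₀eq := hE₀max (B.comap ι) hB₀ hE₀B₀
    have h1 : (B.comap ι).map ι = B := Subgroup.map_comap_eq_self (by rw [hrange]; exact hBP)
    rw [← h1, hB₀eq]
  have h3 : ¬ ∀ B : Subgroup ↥(Subgroup.normalizer (R : Set G)),
      B ≤ R.subgroupOf (Subgroup.normalizer (R : Set G)) → Cfsg.IsElementaryAbelian p B →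
      Nat.card B ≤ p ^ 2 := by
    intro hall
    apply hr
    intro A₀ hA₀c hA₀e
    have := hall (A₀.map ι) (hmapP A₀) (helper3.ea_map ⟨hA₀c, hA₀e⟩ ι)
    rwa [Subgroup.card_map_of_injective hinj] at this
  have hmain := narrow_centralizes hp2 (R.subgroupOf (Subgroup.normalizer (R : Set G))) hP h3
    (E₀.map ι) (hmapP E₀) hE' hE'2 hE'max x hx htriv
  rw [Subgroup.mem_centralizer_iff]
  intro r hr'
  have h4 := Subgroup.mem_centralizer_iff.1 hmain ⟨r, hRN hr'⟩ (Subgroup.mem_subgroupOf.2 hr')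
  exact congrArg Subtype.val h4

theorem narrow_pow_centralizes {G : Type*} [Group G] [Finite G] {p : ℕ}
    [hp : Fact p.Prime] (hp2 : p ≠ 2) (R : Subgroup G) (hR : IsPGroup p R)
    (hRn : Cfsg.IsNarrow p R) (hr : ¬ Cfsg.PRankLE p 2 R) (a : G)
    (ha : a ∈ Subgroup.normalizer (R : Set G)) (hcop : (orderOf a).Coprime p) :
    a ^ (p - 1) ∈ Subgroup.centralizer (R : Set G) := by
  set y : ↥(Subgroup.normalizer (R : Set G)) := ⟨a, ha⟩ with hy
  have h1 : orderOf (y ^ (p - 1)) ∣ orderOf a := by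
    have : orderOf y = orderOf a := Subgroup.orderOf_mk a ha
    rw [← this]; exact orderOf_pow_dvd (p - 1)
  have h2 : (orderOf (y ^ (p - 1))).Coprime p := Nat.Coprime.coprime_dvd_left h1 hcop
  have := narrow_centralizes_in_normalizer hp2 R hR hRn hr (y ^ (p - 1)) h2 (trivOn_pow y)
  simpa [hy] using this

theorem narrow_comm_centralizes {G : Type*} [Group G] [Finite G] {p : ℕ}
    [hp : Fact p.Prime] (hp2 : p ≠ 2) (R A : Subgroup G) (hR : IsPGroup p R)
    (hRn : Cfsg.IsNarrow p R) (hr : ¬ Cfsg.PRankLE p 2 R)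
    (hA : A ≤ Subgroup.normalizer (R : Set G)) (x : G) (hx : x ∈ ⁅A, A⁆)
    (hcop : (orderOf x).Coprime p) : x ∈ Subgroup.centralizer (R : Set G) := by
  have hmap : (⁅A.subgroupOf (Subgroup.normalizer (R : Set G)),
      A.subgroupOf (Subgroup.normalizer (R : Set G))⁆).map
      (Subgroup.normalizer (R : Set G)).subtype = ⁅A, A⁆ := by
    rw [Subgroup.map_commutator, Subgroup.map_subgroupOf_eq_of_le hA]
  rw [← hmap] at hx
  obtain ⟨y, hy, rfl⟩ := hx
  have hy' : y ∈ commutator ↥(Subgroup.normalizer (R : Set G)) := by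
    rw [commutator_def]
    exact Subgroup.commutator_mono le_top le_top hy
  have h1 : (orderOf y).Coprime p := by
    have : orderOf ((Subgroup.normalizer (R : Set G)).subtype y) = orderOf y :=
      Subgroup.orderOf_coe y
    rw [← this]; exact hcop
  exact narrow_centralizes_in_normalizer hp2 R hR hRn hr y h1 (trivOn_of_mem_commutator y hy')

theorem commutator_self_le {G : Type*} [Group G] (A : Subgroup G) : ⁅A, A⁆ ≤ A := by
  rw [Subgroup.commutator_le]
  intro a ha b hb
  exact A.mul_mem (A.mul_mem (A.mul_mem ha hb) (A.inv_mem ha)) (A.inv_mem hb)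

theorem narrow_comm_pgroup {G : Type*} [Group G] [Finite G] {p : ℕ}
    [hp : Fact p.Prime] (hp2 : p ≠ 2) (R A : Subgroup G) (hR : IsPGroup p R)
    (hRn : Cfsg.IsNarrow p R) (hr : ¬ Cfsg.PRankLE p 2 R)
    (hA : A ≤ Subgroup.normalizer (R : Set G))
    (hfaith : A ⊓ Subgroup.centralizer (R : Set G) = ⊥) : IsPGroup p ↥⁅A, A⁆ := by
  have hall : ∀ {d : ℕ}, d.Prime → d ∣ Nat.card ↥⁅A, A⁆ → d = p := by
    intro d hd hdvd
    by_contra hne
    haveI : Fact d.Prime := ⟨hd⟩
    obtain ⟨y, hy⟩ := exists_prime_orderOf_dvd_card' d hdvd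
    have hxo : orderOf (y : G) = d := by rw [Subgroup.orderOf_coe]; exact hy
    have hcop : (orderOf (y : G)).Coprime p := by
      rw [hxo]; exact (Nat.coprime_primes hd hp.out).2 hne
    have hc := narrow_comm_centralizes hp2 R A hR hRn hr hA (y : G) y.2 hcop
    have hmem : (y : G) ∈ A ⊓ Subgroup.centralizer (R : Set G) :=
      ⟨commutator_self_le A y.2, hc⟩
    rw [hfaith, Subgroup.mem_bot] at hmem
    rw [hmem, orderOf_one] at hxo
    exact hd.one_lt.ne hxo
  have := Nat.eq_prime_pow_of_unique_prime_dvd (Nat.card_pos (α := ↥⁅A, A⁆)).ne' hall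
  exact IsPGroup.of_card this

/-- `narrow3_core` without the normality assumption. -/
theorem narrow3_general {G : Type u} [Group G] [Finite G] {p : ℕ} [hp : Fact p.Prime]
    (hp5 : 5 ≤ p) (R A : Subgroup G) (hR : IsPGroup p R) (hr : Cfsg.PRankLE p 2 R)
    (hA : A ≤ Subgroup.normalizer (R : Set G)) (q : ℕ) [hq : Fact q.Prime]
    (hAq : Nat.card A = q) (hqp : ¬ q ∣ p * (p - 1)) (hRA : ⁅R, A⁆ = R)
    (hnc : ¬ IsMulCommutative R) : Nat.card R = p ^ 3 := by
  have hRN : R ≤ Subgroup.normalizer (R : Set G) := Subgroup.le_normalizer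
  haveI hRn' : (R.subgroupOf (Subgroup.normalizer (R : Set G))).Normal :=
    Subgroup.normal_in_normalizer
  have hR' : IsPGroup p (R.subgroupOf (Subgroup.normalizer (R : Set G))) :=
    hR.of_equiv (Subgroup.subgroupOfEquivOfLe hRN).symm
  have hr' : Cfsg.PRankLE p 2 (R.subgroupOf (Subgroup.normalizer (R : Set G))) :=
    prankLE_of_injective (Subgroup.subgroupOfEquivOfLe hRN).toMonoidHom
      (Subgroup.subgroupOfEquivOfLe hRN).injective hr
  have hAq' : Nat.card (A.subgroupOf (Subgroup.normalizer (R : Set G))) = q := by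
    rw [Nat.card_congr (Subgroup.subgroupOfEquivOfLe hA).toEquiv]; exact hAq
  have hRA' : ⁅R.subgroupOf (Subgroup.normalizer (R : Set G)),
      A.subgroupOf (Subgroup.normalizer (R : Set G))⁆ =
      R.subgroupOf (Subgroup.normalizer (R : Set G)) := by
    apply Subgroup.map_injective (Subgroup.normalizer (R : Set G)).subtype_injective
    rw [Subgroup.map_commutator, Subgroup.map_subgroupOf_eq_of_le hA,
      Subgroup.map_subgroupOf_eq_of_le hRN, hRA]
  have hnc' : ¬ IsMulCommutative (R.subgroupOf (Subgroup.normalizer (R : Set G))) := by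
    intro h
    exact hnc (helper19.isMulCommutative_congr (Subgroup.subgroupOfEquivOfLe hRN) h)
  have := narrow3_core hp5 (R.subgroupOf (Subgroup.normalizer (R : Set G)))
    (A.subgroupOf (Subgroup.normalizer (R : Set G))) hR' hr' q hAq' hqp hRA' hnc'
  rw [← this]
  exact (Nat.card_congr (Subgroup.subgroupOfEquivOfLe hRN).toEquiv).symm

end Cfsg.Agent.helper23
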