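import Mathlib
import Cfsg.Prelude.Def_PLocal
import Cfsg.Prelude.Def_OddOrderLocal
import Cfsg.Prelude.Def_CaseTheorems
import Cfsg.Agent.Lib_helper23_Bk3

set_option autoImplicit false
set_option linter.style.haveILetI false
set_option linter.unusedSectionVars false

namespace Cfsg.Agent.helper23

open scoped commutatorElement

universe u

section general

variable {G : Type u} [Group G]

theorem comm_conj (a x y : G) : a * ⁅x, y⁆ * a⁻¹ = ⁅a * x * a⁻¹, a * y * a⁻¹⁆ := by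
  simp only [commutatorElement_def]; group

theorem comm_mul_right_of_commute (x y n : G) (h : x * n = n * x) : ⁅x, y * n⁆ = ⁅x, y⁆ := by
  have h2 : n * x⁻¹ = x⁻¹ * n := by
    calc n * x⁻¹ = x⁻¹ * (x * n) * x⁻¹ := by group
      _ = x⁻¹ * (n * x) * x⁻¹ := by rw [h]
      _ = x⁻¹ * n := by group
  simp only [commutatorElement_def]
  calc x * (y * n) * x⁻¹ * (y * n)⁻¹ = x * y * (n * x⁻¹) * n⁻¹ * y⁻¹ := by group
    _ = x * y * (x⁻¹ * n) * n⁻¹ * y⁻¹ := by rw [h2]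
    _ = x * y * x⁻¹ * y⁻¹ := by group

theorem comm_mul_left_of_commute (x u y : G) (h : u * y = y * u) : ⁅x * u, y⁆ = ⁅x, y⁆ := by
  simp only [commutatorElement_def]
  calc x * u * y * (x * u)⁻¹ * y⁻¹ = x * (u * y) * u⁻¹ * x⁻¹ * y⁻¹ := by group
    _ = x * (y * u) * u⁻¹ * x⁻¹ * y⁻¹ := by rw [h]
    _ = x * y * x⁻¹ * y⁻¹ := by group

theorem comm_mul_left_split (a b c : G) : ⁅a * b, c⁆ = a * ⁅b, c⁆ * a⁻¹ * ⁅a, c⁆ := by
  simp only [commutatorElement_def]; group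

theorem comm_mul_right_split (a b c : G) : ⁅a, b * c⁆ = ⁅a, b⁆ * (b * ⁅a, c⁆ * b⁻¹) := by
  simp only [commutatorElement_def]; group

theorem comm_pow_left (x y : G) (h : x * ⁅x, y⁆ = ⁅x, y⁆ * x) (i : ℕ) :
    ⁅x ^ i, y⁆ = ⁅x, y⁆ ^ i := by
  induction i with
  | zero => simp
  | succ i ih =>
    have hc : Commute x (⁅x, y⁆ ^ i) := (show Commute x ⁅x, y⁆ from h).pow_right i
    rw [pow_succ', comm_mul_left_split, ih, pow_succ]
    have : x * ⁅x, y⁆ ^ i * x⁻¹ = ⁅x, y⁆ ^ i := by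
      rw [hc.eq]; group
    rw [this]

theorem comm_pow_pow (x y : G) (hx : x * ⁅x, y⁆ = ⁅x, y⁆ * x) (hy : y * ⁅x, y⁆ = ⁅x, y⁆ * y)
    (i j : ℕ) : ⁅x ^ i, y ^ j⁆ = ⁅x, y⁆ ^ (i * j) := by
  have h1 : ⁅x ^ i, y⁆ = ⁅x, y⁆ ^ i := comm_pow_left x y hx i
  have h2 : ⁅y, x ^ i⁆ = (⁅x, y⁆ ^ i)⁻¹ := by
    rw [← h1, commutatorElement_inv]
  have hc : Commute y (⁅x, y⁆ ^ i) := (show Commute y ⁅x, y⁆ from hy).pow_right i
  have h3 : ⁅y ^ j, x ^ i⁆ = ⁅y, x ^ i⁆ ^ j := by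
    apply comm_pow_left
    rw [h2]
    exact (hc.inv_right).eq
  have h4 : ⁅x ^ i, y ^ j⁆ = (⁅y ^ j, x ^ i⁆)⁻¹ := (commutatorElement_inv _ _).symm
  rw [h4, h3, h2, inv_pow, inv_inv, pow_mul]

theorem mk'_eq_one {N : Subgroup G} [N.Normal] (x : G) :
    QuotientGroup.mk' N x = 1 ↔ x ∈ N := by
  rw [← MonoidHom.mem_ker, QuotientGroup.ker_mk']

theorem mk'_eq_iff {N : Subgroup G} [N.Normal] (x y : G) :
    QuotientGroup.mk' N x = QuotientGroup.mk' N y ↔ x⁻¹ * y ∈ N := by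
  rw [← mk'_eq_one (N := N), map_mul, map_inv]
  constructor
  · intro h; rw [h]; simp
  · intro h
    have : QuotientGroup.mk' N x * ((QuotientGroup.mk' N x)⁻¹ * QuotientGroup.mk' N y) =
        QuotientGroup.mk' N x * 1 := by rw [h]
    simpa using this.symm

theorem pow_eq_pow_of_modEq {p : ℕ} (x : G) (hx : x ^ p = 1) (i j : ℕ) (h : i ≡ j [MOD p]) :
    x ^ i = x ^ j := by
  rw [pow_eq_pow_iff_modEq]
  exact h.of_dvd (orderOf_dvd_of_pow_eq_one hx)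

/-- Elements acting trivially on the section `H / Z`. -/
def secC (H Z : Subgroup G) [hZ : Z.Normal] : Subgroup G where
  carrier := {g | ∀ h ∈ H, ⁅g, h⁆ ∈ Z}
  one_mem' := by
    intro h _
    rw [commutatorElement_one_left]; exact Z.one_mem
  mul_mem' := by
    intro x y hx hy h hh
    rw [comm_mul_left_split]
    exact Z.mul_mem (hZ.conj_mem _ (hy h hh) x) (hx h hh)
  inv_mem' := by
    intro x hx h hh
    have : ⁅x⁻¹, h⁆ = x⁻¹ * ⁅x, h⁆⁻¹ * x⁻¹⁻¹ := by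
      simp only [commutatorElement_def]; group
    rw [this]
    exact hZ.conj_mem _ (Z.inv_mem (hx h hh)) x⁻¹

theorem mem_secC (H Z : Subgroup G) [hZ : Z.Normal] (g : G) :
    g ∈ secC H Z ↔ ∀ h ∈ H, ⁅g, h⁆ ∈ Z := Iff.rfl

instance secC_normal (H Z : Subgroup G) [hH : H.Normal] [hZ : Z.Normal] : (secC H Z).Normal := by
  constructor
  intro g hg x h hh
  have h1 : ⁅x * g * x⁻¹, h⁆ = x * ⁅g, x⁻¹ * h * x⁆ * x⁻¹ := by
    simp only [commutatorElement_def]; group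
  rw [h1]
  apply hZ.conj_mem
  apply hg
  have := hH.conj_mem h hh x⁻¹
  simpa using this

/-- A subgroup covered by two subgroups lies in one of them. -/
theorem le_or_le_of_forall_mem (A B C : Subgroup G) (h : ∀ a ∈ A, a ∈ B ∨ a ∈ C) :
    A ≤ B ∨ A ≤ C := by
  by_contra hcon
  push Not at hcon
  obtain ⟨hB, hC⟩ := hcon
  obtain ⟨x, hxA, hxB⟩ := SetLike.not_le_iff_exists.1 hB
  obtain ⟨y, hyA, hyC⟩ := SetLike.not_le_iff_exists.1 hC
  have hxC : x ∈ C := (h x hxA).resolve_left hxB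
  have hyB : y ∈ B := (h y hyA).resolve_right hyC
  rcases h (x * y) (A.mul_mem hxA hyA) with h1 | h1
  · apply hxB
    have := B.mul_mem h1 (B.inv_mem hyB)
    simpa using this
  · apply hyC
    have := C.mul_mem (C.inv_mem hxC) h1
    simpa using this

end general

section finite

variable {G : Type u} [Group G] [Finite G] {p : ℕ} [hp : Fact p.Prime]

theorem p_mul_card_le_of_lt (K H : Subgroup G) (hK : IsPGroup p K) (hlt : H < K) :
    p * Nat.card H ≤ Nat.card K := by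
  obtain ⟨k, hk⟩ := hK.exists_card_eq
  obtain ⟨j, hj⟩ := (hK.to_le hlt.le).exists_card_eq
  have h1 : Nat.card H < Nat.card K := card_lt_of_lt23 hlt
  rw [hk, hj] at h1 ⊢
  have h2 : j < k := (Nat.pow_lt_pow_iff_right hp.out.one_lt).1 h1
  calc p * p ^ j = p ^ (j + 1) := by ring
    _ ≤ p ^ k := Nat.pow_le_pow_right hp.out.pos h2

theorem idx_p_card (R K : Subgroup G) [hKn : K.Normal] (hR : IsPGroup p R) (hKR : K ≤ R)
    (hcard : Nat.card R ≤ p * Nat.card K) (hne : K ≠ R) :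
    Nat.card (↥R ⧸ K.subgroupOf R) = p := by
  have h1 := Subgroup.card_eq_card_quotient_mul_card_subgroup (K.subgroupOf R)
  have h2 : Nat.card (K.subgroupOf R) = Nat.card K :=
    Nat.card_congr (Subgroup.subgroupOfEquivOfLe hKR).toEquiv
  rw [h2] at h1
  have hKpos : 0 < Nat.card K := Nat.card_pos
  have hlt : K < R := lt_of_le_of_ne hKR hne
  have h3 := p_mul_card_le_of_lt R K hR hlt
  have h4 : Nat.card R = p * Nat.card K := le_antisymm hcard h3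
  rw [h4] at h1
  exact (Nat.eq_of_mul_eq_mul_right hKpos h1).symm

theorem idx_p_pow (R K : Subgroup G) [hKn : K.Normal] (hR : IsPGroup p R) (hKR : K ≤ R)
    (hcard : Nat.card R ≤ p * Nat.card K) (hne : K ≠ R) :
    ∀ x ∈ R, x ^ p ∈ K := by
  intro x hx
  have hq := idx_p_card R K hR hKR hcard hne
  have h1 : ((⟨x, hx⟩ : ↥R) : ↥R ⧸ K.subgroupOf R) ^ p = 1 := by
    rw [← hq]; exact pow_card_eq_one'
  rw [← QuotientGroup.mk_pow, QuotientGroup.eq_one_iff] at h1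
  exact h1

theorem idx_p_gen (R K : Subgroup G) [hKn : K.Normal] (hR : IsPGroup p R) (hKR : K ≤ R)
    (hcard : Nat.card R ≤ p * Nat.card K) (hne : K ≠ R) :
    ∀ x ∈ R, x ∉ K → ∀ r ∈ R, ∃ i : ℕ, ∃ k ∈ K, r = x ^ i * k := by
  intro x hx hxK r hr
  have hq := idx_p_card R K hR hKR hcard hne
  have hx1 : ((⟨x, hx⟩ : ↥R) : ↥R ⧸ K.subgroupOf R) ≠ 1 := by
    rw [Ne, QuotientGroup.eq_one_iff]; exact hxK
  obtain ⟨i, hi⟩ := mem_powers_of_prime_card (p := p) hq hx1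
    (g' := ((⟨r, hr⟩ : ↥R) : ↥R ⧸ K.subgroupOf R))
  refine ⟨i, (x ^ i)⁻¹ * r, ?_, by group⟩
  have hi' : (((⟨x, hx⟩ : ↥R) ^ i : ↥R) : ↥R ⧸ K.subgroupOf R) =
      ((⟨r, hr⟩ : ↥R) : ↥R ⧸ K.subgroupOf R) := by
    rw [QuotientGroup.mk_pow]; exact hi
  rw [QuotientGroup.eq] at hi'
  have := Subgroup.mem_subgroupOf.1 hi'
  simpa using this

end finite

end Cfsg.Agent.helper23
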