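import Mathlib
import Cfsg.Prelude.Def_OddOrder
import Cfsg.Prelude.Def_OddOrderLocal
import Cfsg.Prelude.Def_CaseTheorems
import Cfsg.Agent.Lib_helper23_Tr4

set_option autoImplicit false
set_option linter.style.haveILetI false
set_option linter.unusedSectionVars false
set_option maxHeartbeats 800000

namespace Cfsg.Agent.helper23

open Cfsg.Agent.helper7
open scoped commutatorElement Pointwise

universe u

variable {G : Type u} [Group G] [Finite G]

/-- Any `π(A)'`-subgroup of `C_G(A)` lies in `O_{π(A)'}(C_G(A))`. -/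
theorem pi'_le_core (hG : Cfsg.IsMinSimpleOddOrder G) (A : Subgroup G)
    (hA : Cfsg.TransitivityHypothesis A) (T : Subgroup G)
    (hTC : T ≤ Subgroup.centralizer (A : Set G))
    (hTπ : ∀ r : ℕ, r.Prime → r ∣ Nat.card T → r ∈ Cfsg.primesNotDvd (Nat.card A)) :
    T ≤ Cfsg.piCoreOf (Cfsg.primesNotDvd (Nat.card A)) (Subgroup.centralizer (A : Set G)) := by
  obtain ⟨π, hπ⟩ : ∃ π : Set ℕ, π = Cfsg.primesNotDvd (Nat.card A) := ⟨_, rfl⟩
  rw [← hπ] at hTπ ⊢
  obtain ⟨C, hC⟩ : ∃ C : Subgroup G, C = Subgroup.centralizer (A : Set G) := ⟨_, rfl⟩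
  rw [← hC] at hTC ⊢
  obtain ⟨X', hX'⟩ : ∃ X' : Subgroup G, X' = A ⊔ C := ⟨_, rfl⟩
  have hAX' : A ≤ X' := by rw [hX']; exact le_sup_left
  have hCX' : C ≤ X' := by rw [hX']; exact le_sup_right
  have hX'N : X' ≤ Subgroup.normalizer (A : Set G) := by
    rw [hX']
    exact sup_le Subgroup.le_normalizer (by rw [hC]; exact Subgroup.centralizer_le_normalizer _)
  have hX'top : X' ≠ ⊤ := by
    intro h
    apply mso_normalizer_ne_top hG A hA.1 hA.2.1
    rw [h] at hX'N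
    exact top_le_iff.1 hX'N
  have hTmem : T ∈ Cfsg.invSubgroups X' A π := by
    refine ⟨hTC.trans hCX', hTπ, ?_⟩
    have h1 : A ≤ Subgroup.centralizer (T : Set G) := by
      rw [Subgroup.le_centralizer_iff, ← hC]; exact hTC
    exact h1.trans (Subgroup.centralizer_le_normalizer _)
  have hTY' : T ≤ Cfsg.piCoreOf π X' := by
    rw [hπ, ← hA.2.2 X' hX'top hAX', ← hπ]
    exact le_sSup hTmem
  refine hTY'.trans ?_
  obtain ⟨Y', hY'⟩ : ∃ Y' : Subgroup G, Y' = Cfsg.piCoreOf π X' := ⟨_, rfl⟩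
  rw [← hY']
  have hY'X' : Y' ≤ X' := by rw [hY']; exact piCoreOf_le π X'
  have hX'Y' : X' ≤ Subgroup.normalizer (Y' : Set G) := by
    rw [hY']; exact le_normalizer_piCoreOf π X'
  have hY'card : ∀ q : ℕ, q.Prime → q ∣ Nat.card Y' → q ∈ π := by
    rw [hY']; exact piCoreOf_card π X'
  have hcop : (Nat.card A).Coprime (Nat.card Y') := by
    apply coprime_of_primesNotDvd
    rw [← hπ]; exact hY'card
  have hdisj : A ⊓ Y' = ⊥ := Subgroup.inf_eq_bot_of_coprime hcop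
  apply le_piCoreOf π C Y' _ (hCX'.trans hX'Y') hY'card
  intro y hy
  rw [hC, Subgroup.mem_centralizer_iff]
  intro a ha
  have h1 : a * y * a⁻¹ * y⁻¹ ∈ A ⊓ Y' := by
    refine ⟨?_, ?_⟩
    · have h2 : y * a⁻¹ * y⁻¹ ∈ A :=
        (Subgroup.mem_normalizer_iff.1 (hX'N (hY'X' hy)) a⁻¹).1 (A.inv_mem ha)
      have h3 : a * y * a⁻¹ * y⁻¹ = a * (y * a⁻¹ * y⁻¹) := by group
      rw [h3]; exact A.mul_mem ha h2
    · have h2 : a * y * a⁻¹ ∈ Y' :=
        (Subgroup.mem_normalizer_iff.1 (hX'Y' (hAX' ha)) y).1 hy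
      exact Y'.mul_mem h2 (Y'.inv_mem hy)
  rw [hdisj, Subgroup.mem_bot] at h1
  calc a * y = a * y * a⁻¹ * y⁻¹ * (y * a) := by group
    _ = y * a := by rw [h1, one_mul]

theorem primesNotDvd_eq_of (A C : Subgroup G) (hAC : A ≤ C)
    (hCπ : ∀ r : ℕ, r.Prime → r ∣ Nat.card C → r ∣ Nat.card A) :
    Cfsg.primesNotDvd (Nat.card C) = Cfsg.primesNotDvd (Nat.card A) := by
  ext r
  constructor
  · rintro ⟨hr, hn⟩
    exact ⟨hr, fun h => hn (h.trans (Subgroup.card_dvd_of_le hAC))⟩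
  · rintro ⟨hr, hn⟩
    exact ⟨hr, fun h => hn (hCπ r hr h)⟩

/-- The transitivity hypothesis passes to `π(A)`-overgroups. -/
theorem transHyp_of_le (A : Subgroup G) (hA : Cfsg.TransitivityHypothesis A) (C : Subgroup G)
    (hC : C ≠ ⊤) (hAC : A ≤ C)
    (hCπ : ∀ r : ℕ, r.Prime → r ∣ Nat.card C → r ∣ Nat.card A) :
    Cfsg.TransitivityHypothesis C := by
  have hπ := primesNotDvd_eq_of A C hAC hCπ
  refine ⟨?_, hC, ?_⟩
  · intro h
    apply hA.1
    rw [eq_bot_iff, ← h]; exact hAC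
  · intro X hX hCX
    rw [hπ]
    apply le_antisymm
    · rw [← hA.2.2 X hX (hAC.trans hCX)]
      apply sSup_le
      intro Y hY
      exact le_sSup ⟨hY.1, hY.2.1, hAC.trans hY.2.2⟩
    · apply le_sSup
      exact ⟨piCoreOf_le _ X, piCoreOf_card _ X, hCX.trans (le_normalizer_piCoreOf _ X)⟩

/-- Conjugation by elements normalizing `A` preserves the `A`-invariant `q`-subgroups. -/
theorem cj_mem_inv' (A : Subgroup G) (q : ℕ) (g : G)
    (hg : g ∈ Subgroup.normalizer (A : Set G))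
    (R : Subgroup G) (hR : R ∈ Cfsg.invSubgroups ⊤ A {q}) :
    cj g R ∈ Cfsg.invSubgroups ⊤ A {q} := by
  refine ⟨le_top, ?_, ?_⟩
  · intro p hp hpd
    rw [card_cj] at hpd
    exact hR.2.1 p hp hpd
  · intro a ha
    rw [← cj_normalizer, mem_cj]
    have hg' : g⁻¹ ∈ Subgroup.normalizer (A : Set G) := Subgroup.inv_mem _ hg
    have h1 : g⁻¹ * a * g⁻¹⁻¹ ∈ A := (Subgroup.mem_normalizer_iff.1 hg' a).1 ha
    rw [inv_inv] at h1
    exact hR.2.2 h1

theorem cj_mem_maxInv' (A : Subgroup G) (q : ℕ) (g : G)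
    (hg : g ∈ Subgroup.normalizer (A : Set G))
    (Q : Subgroup G) (hQ : Q ∈ Cfsg.maxInvSubgroups ⊤ A {q}) :
    cj g Q ∈ Cfsg.maxInvSubgroups ⊤ A {q} := by
  refine ⟨cj_mem_inv' A q g hg Q hQ.1, ?_⟩
  intro R hR hle
  have h1 : Q ≤ cj g⁻¹ R := cj_le_iff.1 hle
  have h2 := hQ.2 (cj g⁻¹ R) (cj_mem_inv' A q g⁻¹ (Subgroup.inv_mem _ hg) R hR) h1
  rw [← h2, cj_cj_inv]

/-- `N_G(B)` normalizes `O_π(C_G(B))`. -/
theorem normalizer_le_normalizer_core (π : Set ℕ) (B : Subgroup G) :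
    Subgroup.normalizer (B : Set G) ≤
      Subgroup.normalizer ((Cfsg.piCoreOf π (Subgroup.centralizer (B : Set G)) : Subgroup G) :
        Set G) := by
  intro g hg
  apply mem_normalizer_of_cj_eq
  rw [piCoreOf_eq_piCoreIn]
  unfold piCoreIn
  rw [cj_radOf (fun g _ h => h.conj g), cj_centralizer, cj_eq_of_mem_normalizer hg]

end Cfsg.Agent.helper23
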