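import Mathlib
import Cfsg.Prelude.Def_OddOrder
import Cfsg.Prelude.Def_OddOrderLocal
import Cfsg.Prelude.Def_CaseTheorems
import Cfsg.Agent.Lib_helper23_Tr5
import Cfsg.Agent.Lib_lead_SZ2

set_option autoImplicit false
set_option linter.style.haveILetI false
set_option linter.unusedSectionVars false
set_option maxHeartbeats 1600000

namespace Cfsg.Agent.helper23

open Cfsg.Agent.helper7
open scoped commutatorElement Pointwise

universe u

variable {G : Type u} [Group G] [Finite G]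

/-- Conjugation action of a subgroup `Γ ≤ N_G(B)` on the maximal `B`-invariant `q`-subgroups. -/
@[reducible] def maxInvAction (B : Subgroup G) (q : ℕ) (Γ : Subgroup G)
    (hΓ : Γ ≤ Subgroup.normalizer (B : Set G)) :
    MulAction ↥Γ {Q : Subgroup G // Q ∈ Cfsg.maxInvSubgroups ⊤ B {q}} where
  smul g Q := ⟨cj (g : G) Q.1, cj_mem_maxInv' B q g (hΓ g.2) Q.1 Q.2⟩
  one_smul Q := Subtype.ext (cj_one Q.1)
  mul_smul g h Q := Subtype.ext (cj_cj (g : G) (h : G) Q.1).symm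

/-- Glauberman's lemma for a normalizing `π(B)`-group `C` acting on the maximal `B`-invariant
`q`-subgroups. -/
theorem glauberman_maxInv (hG : Cfsg.IsMinSimpleOddOrder G) (B : Subgroup G)
    (hB : Cfsg.TransitivityHypothesis B) (q : ℕ) (C : Subgroup G)
    (hCπ : ∀ r : ℕ, r.Prime → r ∣ Nat.card C → r ∣ Nat.card B)
    (hCN : C ≤ Subgroup.normalizer (B : Set G))
    (htr : ∀ Q₁ ∈ Cfsg.maxInvSubgroups ⊤ B {q}, ∀ Q₂ ∈ Cfsg.maxInvSubgroups ⊤ B {q},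
      KRel B Q₁ Q₂) :
    (∃ Q₀ ∈ Cfsg.maxInvSubgroups ⊤ B {q}, C ≤ Subgroup.normalizer (Q₀ : Set G)) ∧
    ∀ Q₁ ∈ Cfsg.maxInvSubgroups ⊤ B {q}, ∀ Q₂ ∈ Cfsg.maxInvSubgroups ⊤ B {q},
      C ≤ Subgroup.normalizer (Q₁ : Set G) → C ≤ Subgroup.normalizer (Q₂ : Set G) →
      ∃ k ∈ Cfsg.piCoreOf (Cfsg.primesNotDvd (Nat.card B)) (Subgroup.centralizer (B : Set G)) ⊓
        Subgroup.centralizer (C : Set G), Q₂ = cj k Q₁ := by
  obtain ⟨π, hπ⟩ : ∃ π : Set ℕ, π = Cfsg.primesNotDvd (Nat.card B) := ⟨_, rfl⟩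
  obtain ⟨KB, hKB⟩ : ∃ KB : Subgroup G,
    KB = Cfsg.piCoreOf π (Subgroup.centralizer (B : Set G)) := ⟨_, rfl⟩
  have htr' : ∀ Q₁ ∈ Cfsg.maxInvSubgroups ⊤ B {q}, ∀ Q₂ ∈ Cfsg.maxInvSubgroups ⊤ B {q},
      ∃ k ∈ KB, Q₂ = cj k Q₁ := by
    intro Q₁ h₁ Q₂ h₂
    obtain ⟨k, hk, hkQ⟩ := htr Q₁ h₁ Q₂ h₂
    exact ⟨k, by rw [hKB, hπ]; exact hk, hkQ⟩
  rw [← hπ, ← hKB]
  have hKBcent : KB ≤ Subgroup.centralizer (B : Set G) := by rw [hKB]; exact piCoreOf_le _ _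
  have hKBN : KB ≤ Subgroup.normalizer (B : Set G) :=
    hKBcent.trans (Subgroup.centralizer_le_normalizer _)
  have hCKB : C ≤ Subgroup.normalizer (KB : Set G) := by
    rw [hKB]; exact hCN.trans (normalizer_le_normalizer_core π B)
  obtain ⟨Γ, hΓ⟩ : ∃ Γ : Subgroup G, Γ = KB ⊔ C := ⟨_, rfl⟩
  have hKΓ : KB ≤ Γ := by rw [hΓ]; exact le_sup_left
  have hCΓ : C ≤ Γ := by rw [hΓ]; exact le_sup_right
  have hΓN : Γ ≤ Subgroup.normalizer (B : Set G) := by rw [hΓ]; exact sup_le hKBN hCN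
  have hΓNK : Γ ≤ Subgroup.normalizer (KB : Set G) := by
    rw [hΓ]; exact sup_le Subgroup.le_normalizer hCKB
  have hKBcard : ∀ r : ℕ, r.Prime → r ∣ Nat.card KB → r ∈ π := by
    rw [hKB]; exact piCoreOf_card π _
  have hcopKC : (Nat.card KB).Coprime (Nat.card C) := by
    apply Nat.coprime_of_dvd
    intro r hr h1 h2
    have h3 := hKBcard r hr h1
    rw [hπ] at h3
    exact h3.2 (hCπ r hr h2)
  have hcentne : Subgroup.centralizer (B : Set G) ≠ ⊤ := by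
    intro h
    apply mso_normalizer_ne_top hG B hB.1 hB.2.1
    rw [eq_top_iff, ← h]
    exact Subgroup.centralizer_le_normalizer _
  have hKBsolv : Group.IsSolvable KB :=
    Cfsg.Agent.lead.solvable_of_le hKBcent (mso_solvable hG _ hcentne)
  letI := maxInvAction B q Γ hΓN
  have hsmul : ∀ (g : ↥Γ) (x : {Q : Subgroup G // Q ∈ Cfsg.maxInvSubgroups ⊤ B {q}}),
      (g • x).1 = cj (g : G) x.1 := fun _ _ => rfl
  haveI : Nonempty {Q : Subgroup G // Q ∈ Cfsg.maxInvSubgroups ⊤ B {q}} := by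
    obtain ⟨Q, hQ, -⟩ := exists_max_ge B q ⊥
      ⟨le_top, by
        intro p hp hd
        rw [Subgroup.card_bot] at hd
        exact absurd (Nat.dvd_one.1 hd) hp.ne_one, by
        intro a _
        rw [Subgroup.mem_normalizer_iff]
        intro h
        simp [Subgroup.mem_bot]⟩
    exact ⟨⟨Q, hQ⟩⟩
  haveI hKn : (KB.subgroupOf Γ).Normal :=
    (Subgroup.normal_subgroupOf_iff_le_normalizer hKΓ).2 hΓNK
  have hNc : Nat.card (KB.subgroupOf Γ) = Nat.card KB :=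
    Nat.card_congr (Subgroup.subgroupOfEquivOfLe hKΓ).toEquiv
  have hHc : Nat.card (C.subgroupOf Γ) = Nat.card C :=
    Nat.card_congr (Subgroup.subgroupOfEquivOfLe hCΓ).toEquiv
  have hsup : KB.subgroupOf Γ ⊔ C.subgroupOf Γ = ⊤ := by
    rw [← Subgroup.subgroupOf_sup hKΓ hCΓ, ← hΓ, Subgroup.subgroupOf_self]
  have hdisj : Disjoint (KB.subgroupOf Γ) (C.subgroupOf Γ) :=
    Subgroup.disjoint_of_coprime_natCard (by rw [hNc, hHc]; exact hcopKC)
  have hcomp : Subgroup.IsComplement' (KB.subgroupOf Γ) (C.subgroupOf Γ) := by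
    apply Subgroup.isComplement'_of_disjoint_and_mul_eq_univ hdisj
    rw [← Subgroup.normal_mul, hsup]
    rfl
  have hidx : (KB.subgroupOf Γ).index = Nat.card (C.subgroupOf Γ) := hcomp.symm.index_eq_card
  have hsolv : Group.IsSolvable (KB.subgroupOf Γ) ∨
      Group.IsSolvable (↥Γ ⧸ KB.subgroupOf Γ) := by
    left
    haveI := hKBsolv
    exact Group.isSolvable_of_isSolvable_injective
      (f := (Subgroup.subgroupOfEquivOfLe hKΓ).toMonoidHom)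
      (Subgroup.subgroupOfEquivOfLe hKΓ).injective
  have htrans : ∀ x y : {Q : Subgroup G // Q ∈ Cfsg.maxInvSubgroups ⊤ B {q}},
      ∃ k ∈ KB.subgroupOf Γ, k • x = y := by
    intro x y
    obtain ⟨k, hk, hky⟩ := htr' x.1 x.2 y.1 y.2
    refine ⟨⟨k, hKΓ hk⟩, Subgroup.mem_subgroupOf.2 hk, ?_⟩
    apply Subtype.ext
    rw [hsmul]
    exact hky.symm
  obtain ⟨⟨x₀, hx₀⟩, hconj⟩ := Cfsg.Agent.lead.glauberman (KB.subgroupOf Γ) (C.subgroupOf Γ)
    hidx.symm (by rw [hidx, hNc, hHc]; exact hcopKC) hsolv htrans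
  have hfix_iff : ∀ x : {Q : Subgroup G // Q ∈ Cfsg.maxInvSubgroups ⊤ B {q}},
      (∀ h ∈ C.subgroupOf Γ, h • x = x) ↔ C ≤ Subgroup.normalizer (x.1 : Set G) := by
    intro x
    constructor
    · intro hx c hc
      have h1 := hx ⟨c, hCΓ hc⟩ (Subgroup.mem_subgroupOf.2 hc)
      have h2 := congrArg Subtype.val h1
      rw [hsmul] at h2
      exact mem_normalizer_of_cj_eq h2
    · intro hx h hh
      apply Subtype.ext
      rw [hsmul]
      exact cj_eq_of_mem_normalizer (hx (Subgroup.mem_subgroupOf.1 hh))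
  refine ⟨⟨x₀.1, x₀.2, (hfix_iff x₀).1 hx₀⟩, ?_⟩
  intro Q₁ h₁ Q₂ h₂ hC₁ hC₂
  obtain ⟨k, hk, hkx⟩ := hconj ⟨Q₁, h₁⟩ ⟨Q₂, h₂⟩ ((hfix_iff ⟨Q₁, h₁⟩).2 hC₁)
    ((hfix_iff ⟨Q₂, h₂⟩).2 hC₂)
  refine ⟨(k : G), ⟨Subgroup.mem_subgroupOf.1 hk.1, ?_⟩, ?_⟩
  · show (k : G) ∈ Subgroup.centralizer (C : Set G)
    rw [Subgroup.mem_centralizer_iff]
    intro c hc
    have h1 := Subgroup.mem_centralizer_iff.1 hk.2 ⟨c, hCΓ hc⟩ (Subgroup.mem_subgroupOf.2 hc)
    exact congrArg Subtype.val h1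
  · have h2 := congrArg Subtype.val hkx
    rw [hsmul] at h2
    exact h2.symm

end Cfsg.Agent.helper23
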