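import Mathlib
import Cfsg.Prelude.Def_OddOrder
import Cfsg.Prelude.Def_OddOrderLocal
import Cfsg.Prelude.Def_CaseTheorems
import Cfsg.Agent.Lib_helper23_Tr6

set_option autoImplicit false
set_option linter.style.haveILetI false
set_option linter.unusedSectionVars false
set_option maxHeartbeats 1600000

namespace Cfsg.Agent.helper23

open Cfsg.Agent.helper7
open scoped commutatorElement Pointwise

universe u

variable {G : Type u} [Group G] [Finite G]

theorem core_inf_centralizer (hG : Cfsg.IsMinSimpleOddOrder G) (B : Subgroup G)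
    (hB : Cfsg.TransitivityHypothesis B) (C : Subgroup G) (hC : C ≠ ⊤)
    (hCπ : ∀ r : ℕ, r.Prime → r ∣ Nat.card C → r ∣ Nat.card B) (hBC : B ≤ C) :
    Cfsg.piCoreOf (Cfsg.primesNotDvd (Nat.card B)) (Subgroup.centralizer (B : Set G)) ⊓
      Subgroup.centralizer (C : Set G) =
    Cfsg.piCoreOf (Cfsg.primesNotDvd (Nat.card B)) (Subgroup.centralizer (C : Set G)) := by
  have hπC := primesNotDvd_eq_of B C hBC hCπ
  have hCth := transHyp_of_le B hB C hC hBC hCπ
  apply le_antisymm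
  · have h1 := pi'_le_core hG C hCth
      (Cfsg.piCoreOf (Cfsg.primesNotDvd (Nat.card B)) (Subgroup.centralizer (B : Set G)) ⊓
        Subgroup.centralizer (C : Set G)) inf_le_right (by
        intro r hr hd
        rw [hπC]
        exact piCoreOf_card _ _ r hr (hd.trans (Subgroup.card_dvd_of_le inf_le_left)))
    rw [hπC] at h1
    exact h1
  · apply le_inf
    · apply pi'_le_core hG B hB _
        ((piCoreOf_le _ _).trans (Subgroup.centralizer_le hBC))
      exact piCoreOf_card _ _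
    · exact piCoreOf_le _ _

/-- Maximal `C`-invariant `q`-subgroups are maximal `B`-invariant, for `B ⊴ C` a `π(B)`-group. -/
theorem maxInv_subset (hG : Cfsg.IsMinSimpleOddOrder G) (B : Subgroup G)
    (hB : Cfsg.TransitivityHypothesis B) (q : ℕ) [hq : Fact q.Prime] (hqB : ¬ q ∣ Nat.card B)
    (C : Subgroup G) (hC : C ≠ ⊤)
    (hCπ : ∀ r : ℕ, r.Prime → r ∣ Nat.card C → r ∣ Nat.card B) (hBC : B ≤ C)
    (hCN : C ≤ Subgroup.normalizer (B : Set G))
    (htr : ∀ Q₁ ∈ Cfsg.maxInvSubgroups ⊤ B {q}, ∀ Q₂ ∈ Cfsg.maxInvSubgroups ⊤ B {q},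
      KRel B Q₁ Q₂) :
    Cfsg.maxInvSubgroups ⊤ C {q} ⊆ Cfsg.maxInvSubgroups ⊤ B {q} := by
  intro Q hQ
  have hQinvB : Q ∈ Cfsg.invSubgroups ⊤ B {q} := ⟨le_top, hQ.1.2.1, hBC.trans hQ.1.2.2⟩
  obtain ⟨Q', hQ', hQQ'⟩ := exists_max_ge B q Q hQinvB
  suffices h : Q = Q' by rw [h]; exact hQ'
  by_contra hne
  have hlt : Q < Q' := lt_of_le_of_ne hQQ' hne
  by_cases hQ1 : Q = ⊥
  · -- all `C`-invariant `q`-subgroups are trivial
    obtain ⟨⟨Q₀, hQ₀, hCQ₀⟩, -⟩ := glauberman_maxInv hG B hB q C hCπ hCN htr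
    have hQ₀inv : Q₀ ∈ Cfsg.invSubgroups ⊤ C {q} := ⟨le_top, hQ₀.1.2.1, hCQ₀⟩
    have hQ₀bot : Q₀ = Q := hQ.2 Q₀ hQ₀inv (hQ1 ▸ bot_le)
    obtain ⟨k, -, hk⟩ := htr Q₀ hQ₀ Q' hQ'
    apply hne
    rw [hk, hQ₀bot, hQ1]
    exact (Subgroup.map_bot _).symm
  · have hQtop : Q ≠ ⊤ := by
      intro h
      rw [h] at hlt
      exact not_top_lt hlt
    have hNtop := mso_normalizer_ne_top hG Q hQ1 hQtop
    have hQ'p : IsPGroup q Q' := isPGroup_of_primes q Q' hQ'.1.2.1
    have hQp : IsPGroup q Q := isPGroup_of_primes q Q hQ.1.2.1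
    have hlt2 := Cfsg.Agent.helper10.lt_inf_normalizer_of_lt hQ'p hlt
    obtain ⟨U, hU⟩ : ∃ U : Subgroup G, U = Q' ⊓ Subgroup.normalizer (Q : Set G) := ⟨_, rfl⟩
    rw [← hU] at hlt2
    obtain ⟨N, hN⟩ : ∃ N : Subgroup G, N = Subgroup.normalizer (Q : Set G) := ⟨_, rfl⟩
    rw [← hN] at hNtop
    have hCN' : C ≤ N := by rw [hN]; exact hQ.1.2.2
    have hBN : B ≤ N := hBC.trans hCN'
    have hUN : U ≤ N := by rw [hU, hN]; exact inf_le_right
    have hUB : B ≤ Subgroup.normalizer (U : Set G) := by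
      rw [hU]
      exact (le_inf hQ'.1.2.2 (by rw [← hN]; exact hBN.trans Subgroup.le_normalizer)).trans
        Subgroup.inf_normalizer_le_normalizer_inf
    have hUq : ∀ p : ℕ, p.Prime → p ∣ Nat.card U → p ∈ ({q} : Set ℕ) := fun p hp hd =>
      hQ'.1.2.1 p hp (hd.trans (Subgroup.card_dvd_of_le (by rw [hU]; exact inf_le_left)))
    obtain ⟨π, hπ⟩ : ∃ π : Set ℕ, π = Cfsg.primesNotDvd (Nat.card B) := ⟨_, rfl⟩
    obtain ⟨Y, hY⟩ : ∃ Y : Subgroup G, Y = Cfsg.piCoreOf π N := ⟨_, rfl⟩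
    have hUY : U ≤ Y := by
      rw [hY, hπ]; exact inv_le_core B hB q hq.out hqB N hNtop hBN U hUN hUB hUq
    have hQY : Q ≤ Y := hlt2.le.trans hUY
    have hYN : Y ≤ N := by rw [hY]; exact piCoreOf_le π N
    have hCY : C ≤ Subgroup.normalizer (Y : Set G) := by
      rw [hY]; exact hCN'.trans (le_normalizer_piCoreOf π N)
    have hYcard : ∀ r : ℕ, r.Prime → r ∣ Nat.card Y → r ∈ π := by
      rw [hY]; exact piCoreOf_card π N
    have hcop : (Nat.card C).Coprime (Nat.card Y) := by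
      apply Nat.coprime_of_dvd
      intro r hr h1 h2
      have h3 := hYcard r hr h2
      rw [hπ] at h3
      exact h3.2 (hCπ r hr h1)
    have hYs : Group.IsSolvable Y :=
      Cfsg.Agent.lead.solvable_of_le hYN (mso_solvable hG N hNtop)
    obtain ⟨S, hQS, hSY, hSc, hSC⟩ := Cfsg.Agent.lead.invariant_pgroup_le_invariant_sylow
      C Y hCY hcop (Or.inr hYs) q Q hQY hQp hQ.1.2.2
    have hSinv : S ∈ Cfsg.invSubgroups ⊤ C {q} :=
      ⟨le_top, primes_of_isPGroup q S (IsPGroup.of_card hSc), hSC⟩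
    have hSQ : S = Q := hQ.2 S hSinv hQS
    rw [hSQ] at hSc
    -- `U` is a `q`-subgroup of `Y` larger than the Sylow `q`-subgroup `Q`
    have hUp : IsPGroup q U := isPGroup_of_primes q U hUq
    obtain ⟨j, hj⟩ := hUp.exists_card_eq
    have h1 : q ^ j ∣ Nat.card Y := hj ▸ Subgroup.card_dvd_of_le hUY
    have h2 : j ≤ (Nat.card Y).factorization q :=
      (hq.out.pow_dvd_iff_le_factorization Nat.card_pos.ne').mp h1
    have h3 : Nat.card U ≤ Nat.card Q := by
      rw [hj, hSc]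
      exact Nat.pow_le_pow_right hq.out.pos h2
    have h4 : Nat.card Q < Nat.card U := by
      refine lt_of_le_of_ne (Subgroup.card_le_of_le hlt2.le) ?_
      intro heq
      exact hlt2.ne (Subgroup.eq_of_le_of_card_ge hlt2.le heq.ge)
    omega

end Cfsg.Agent.helper23
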