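import Mathlib
import Cfsg.Prelude.Def_OddOrder
import Cfsg.Prelude.Def_OddOrderLocal
import Cfsg.Prelude.Def_CaseTheorems
import Cfsg.Agent.Lib_helper23_Tr7
import Cfsg.Agent.Lib_helper23_Bk4

set_option autoImplicit false
set_option linter.style.haveILetI false
set_option linter.unusedSectionVars false
set_option maxHeartbeats 1600000

namespace Cfsg.Agent.helper23

open Cfsg.Agent.helper7
open scoped commutatorElement Pointwise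

universe u

variable {G : Type u} [Group G] [Finite G]

/-- Transitivity passes from `B` to a normalizing `π(B)`-overgroup `C`. -/
theorem normal_step_trans (hG : Cfsg.IsMinSimpleOddOrder G) (B : Subgroup G)
    (hB : Cfsg.TransitivityHypothesis B) (q : ℕ) [hq : Fact q.Prime] (hqB : ¬ q ∣ Nat.card B)
    (C : Subgroup G) (hC : C ≠ ⊤)
    (hCπ : ∀ r : ℕ, r.Prime → r ∣ Nat.card C → r ∣ Nat.card B) (hBC : B ≤ C)
    (hCN : C ≤ Subgroup.normalizer (B : Set G))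
    (htr : ∀ Q₁ ∈ Cfsg.maxInvSubgroups ⊤ B {q}, ∀ Q₂ ∈ Cfsg.maxInvSubgroups ⊤ B {q},
      KRel B Q₁ Q₂) :
    ∀ Q₁ ∈ Cfsg.maxInvSubgroups ⊤ C {q}, ∀ Q₂ ∈ Cfsg.maxInvSubgroups ⊤ C {q}, KRel C Q₁ Q₂ := by
  intro Q₁ h₁ Q₂ h₂
  have hsub := maxInv_subset hG B hB q hqB C hC hCπ hBC hCN htr
  obtain ⟨-, hconj⟩ := glauberman_maxInv hG B hB q C hCπ hCN htr
  obtain ⟨k, hk, hkQ⟩ := hconj Q₁ (hsub h₁) Q₂ (hsub h₂) h₁.1.2.2 h₂.1.2.2
  rw [core_inf_centralizer hG B hB C hC hCπ hBC] at hk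
  refine ⟨k, ?_, hkQ⟩
  rw [primesNotDvd_eq_of B C hBC hCπ]
  exact hk

theorem final_step (hG : Cfsg.IsMinSimpleOddOrder G) (P : Subgroup G)
    (hP : Cfsg.TransitivityHypothesis P) (q : ℕ) [hq : Fact q.Prime]
    (htr : ∀ Q₁ ∈ Cfsg.maxInvSubgroups ⊤ P {q}, ∀ Q₂ ∈ Cfsg.maxInvSubgroups ⊤ P {q},
      KRel P Q₁ Q₂) (Q : Subgroup G) (hQ : Q ∈ Cfsg.maxInvSubgroups ⊤ P {q}) :
    P ⊓ ⁅Subgroup.normalizer (P : Set G), Subgroup.normalizer (P : Set G)⁆ ≤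
        ⁅Subgroup.normalizer (Q : Set G), Subgroup.normalizer (Q : Set G)⁆ ∧
      Subgroup.normalizer (P : Set G) =
        Cfsg.piCoreOf (Cfsg.primesNotDvd (Nat.card P)) (Subgroup.centralizer (P : Set G)) ⊔
          (Subgroup.normalizer (P : Set G) ⊓ Subgroup.normalizer (Q : Set G)) := by
  obtain ⟨π, hπ⟩ : ∃ π : Set ℕ, π = Cfsg.primesNotDvd (Nat.card P) := ⟨_, rfl⟩
  obtain ⟨KP, hKP⟩ : ∃ KP : Subgroup G,
    KP = Cfsg.piCoreOf π (Subgroup.centralizer (P : Set G)) := ⟨_, rfl⟩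
  obtain ⟨N, hN⟩ : ∃ N : Subgroup G, N = Subgroup.normalizer (P : Set G) := ⟨_, rfl⟩
  obtain ⟨N₁, hN₁⟩ : ∃ N₁ : Subgroup G, N₁ = N ⊓ Subgroup.normalizer (Q : Set G) := ⟨_, rfl⟩
  rw [← hπ, ← hKP, ← hN, ← hN₁]
  have htr' : ∀ Q₁ ∈ Cfsg.maxInvSubgroups ⊤ P {q}, ∀ Q₂ ∈ Cfsg.maxInvSubgroups ⊤ P {q},
      ∃ k ∈ KP, Q₂ = cj k Q₁ := by
    intro Q₁ h₁ Q₂ h₂
    obtain ⟨k, hk, hkQ⟩ := htr Q₁ h₁ Q₂ h₂
    exact ⟨k, by rw [hKP, hπ]; exact hk, hkQ⟩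
  have hKPcent : KP ≤ Subgroup.centralizer (P : Set G) := by rw [hKP]; exact piCoreOf_le _ _
  have hKPN : KP ≤ N := by
    rw [hN]; exact hKPcent.trans (Subgroup.centralizer_le_normalizer _)
  have hNKP : N ≤ Subgroup.normalizer (KP : Set G) := by
    rw [hN, hKP]; exact normalizer_le_normalizer_core π P
  have hN₁N : N₁ ≤ N := by rw [hN₁]; exact inf_le_left
  have hPN₁ : P ≤ N₁ := by
    rw [hN₁, hN]; exact le_inf Subgroup.le_normalizer hQ.1.2.2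
  have hsup : N = KP ⊔ N₁ := by
    apply le_antisymm
    · intro g hg
      have hgP : g ∈ Subgroup.normalizer (P : Set G) := by rw [← hN]; exact hg
      obtain ⟨k, hk, hkQ⟩ := htr' Q hQ (cj g Q) (cj_mem_maxInv' P q g hgP Q hQ)
      have h1 : cj (k⁻¹ * g) Q = Q := by
        rw [← cj_cj, hkQ, cj_inv_cj]
      have h2 : k⁻¹ * g ∈ N₁ := by
        rw [hN₁]
        exact ⟨N.mul_mem (N.inv_mem (hKPN hk)) hg, mem_normalizer_of_cj_eq h1⟩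
      have h3 : g = k * (k⁻¹ * g) := by group
      rw [h3]
      exact Subgroup.mul_mem_sup hk h2
    · exact sup_le hKPN hN₁N
  refine ⟨?_, hsup⟩
  -- the derived subgroup of `N` lies in `KP ⊔ N₁'`
  obtain ⟨D, hD⟩ : ∃ D : Subgroup G, D = ⁅N₁, N₁⁆ := ⟨_, rfl⟩
  have hDN₁ : D ≤ N₁ := by rw [hD]; exact commutator_self_le N₁
  have hcomm : ⁅N, N⁆ ≤ KP ⊔ D := by
    rw [Subgroup.commutator_le]
    intro g₁ hg₁ g₂ hg₂
    have hg₁' : g₁ ∈ KP ⊔ N₁ := by rw [← hsup]; exact hg₁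
    have hg₂' : g₂ ∈ KP ⊔ N₁ := by rw [← hsup]; exact hg₂
    obtain ⟨k₁, hk₁, n₁, hn₁, rfl⟩ := mem_sup_of_normalizer (hN₁N.trans hNKP) hg₁'
    obtain ⟨k₂, hk₂, n₂, hn₂, rfl⟩ := mem_sup_of_normalizer (hN₁N.trans hNKP) hg₂'
    have e1 : ⁅k₁ * n₁, k₂ * n₂⁆ = k₁ * (⁅n₁, k₂⁆ * (k₂ * ⁅n₁, n₂⁆ * k₂⁻¹)) * k₁⁻¹ *
        ⁅k₁, k₂ * n₂⁆ := by
      rw [comm_mul_left_split, comm_mul_right_split]
    rw [e1]
    have hc1 : ⁅n₁, k₂⁆ ∈ KP := by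
      rw [commutatorElement_def]
      have h1 : n₁ * k₂ * n₁⁻¹ ∈ KP :=
        (Subgroup.mem_normalizer_iff.1 (hNKP (hN₁N hn₁)) k₂).1 hk₂
      exact KP.mul_mem h1 (KP.inv_mem hk₂)
    have hc2 : ⁅k₁, k₂ * n₂⁆ ∈ KP := by
      have h1 : (k₂ * n₂) * k₁⁻¹ * (k₂ * n₂)⁻¹ ∈ KP :=
        (Subgroup.mem_normalizer_iff.1 (hNKP hg₂) k₁⁻¹).1 (KP.inv_mem hk₁)
      have h2 : ⁅k₁, k₂ * n₂⁆ = k₁ * ((k₂ * n₂) * k₁⁻¹ * (k₂ * n₂)⁻¹) := by
        rw [commutatorElement_def]; group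
      rw [h2]; exact KP.mul_mem hk₁ h1
    have hc3 : ⁅n₁, n₂⁆ ∈ D := by
      rw [hD]; exact Subgroup.commutator_mem_commutator hn₁ hn₂
    have hM : ∀ {y : G}, y ∈ KP → y ∈ KP ⊔ D := fun h => Subgroup.mem_sup_left h
    exact Subgroup.mul_mem _ (Subgroup.mul_mem _ (Subgroup.mul_mem _ (hM hk₁)
      (Subgroup.mul_mem _ (hM hc1) (Subgroup.mul_mem _ (Subgroup.mul_mem _ (hM hk₂)
        (Subgroup.mem_sup_right hc3)) (hM (KP.inv_mem hk₂))))) (hM (KP.inv_mem hk₁))) (hM hc2)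
  have hDle : D ≤ ⁅Subgroup.normalizer (Q : Set G), Subgroup.normalizer (Q : Set G)⁆ := by
    rw [hD]
    exact Subgroup.commutator_mono (by rw [hN₁]; exact inf_le_right)
      (by rw [hN₁]; exact inf_le_right)
  refine le_trans ?_ hDle
  intro x hx
  have hxP : x ∈ P := hx.1
  have hxM : x ∈ KP ⊔ D := hcomm hx.2
  obtain ⟨k, hk, n, hn, hxkn⟩ := mem_sup_of_normalizer ((hDN₁.trans hN₁N).trans hNKP) hxM
  have hxN₁ : x ∈ N₁ := hPN₁ hxP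
  have hnN₁ : n ∈ N₁ := hDN₁ hn
  have hkN₁ : k ∈ N₁ := by
    have : k = x * n⁻¹ := by rw [hxkn]; group
    rw [this]; exact N₁.mul_mem hxN₁ (N₁.inv_mem hnN₁)
  -- `D` is normal in `N₁`
  have hN₁D : N₁ ≤ Subgroup.normalizer (D : Set G) := by
    intro g hg
    apply mem_normalizer_of_cj_eq
    rw [hD]
    unfold cj
    rw [Subgroup.map_commutator]
    have : cj g N₁ = N₁ := cj_eq_of_mem_normalizer (Subgroup.le_normalizer hg)
    unfold cj at this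
    rw [this]
  haveI hDn : (D.subgroupOf N₁).Normal :=
    (Subgroup.normal_subgroupOf_iff_le_normalizer hDN₁).2 hN₁D
  have hφ1 : ∀ (y : G) (hy : y ∈ N₁),
      QuotientGroup.mk' (D.subgroupOf N₁) ⟨y, hy⟩ = 1 ↔ y ∈ D := by
    intro y hy
    rw [mk'_eq_one, Subgroup.mem_subgroupOf]
  have hφx : QuotientGroup.mk' (D.subgroupOf N₁) ⟨x, hxN₁⟩ =
      QuotientGroup.mk' (D.subgroupOf N₁) ⟨k, hkN₁⟩ := by
    have h1 : (⟨x, hxN₁⟩ : ↥N₁) = ⟨k, hkN₁⟩ * ⟨n, hnN₁⟩ := Subtype.ext hxkn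
    rw [h1, map_mul, (hφ1 n hnN₁).2 hn, mul_one]
  have hcop : (Nat.card P).Coprime (Nat.card KP) := by
    apply coprime_of_primesNotDvd
    rw [hKP, hπ]; exact piCoreOf_card _ _
  have hxa : (QuotientGroup.mk' (D.subgroupOf N₁) ⟨x, hxN₁⟩) ^ Nat.card P = 1 := by
    rw [← map_pow]
    have h1 : (⟨x, hxN₁⟩ : ↥N₁) ^ Nat.card P = 1 := by
      apply Subtype.ext
      have h2 : (⟨x, hxP⟩ : ↥P) ^ Nat.card P = 1 := pow_card_eq_one'
      have h3 := congrArg Subtype.val h2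
      rw [Subgroup.coe_pow, Subgroup.coe_one] at h3
      rw [Subgroup.coe_pow, Subgroup.coe_one]
      exact h3
    rw [h1, map_one]
  have hxb : (QuotientGroup.mk' (D.subgroupOf N₁) ⟨x, hxN₁⟩) ^ Nat.card KP = 1 := by
    rw [hφx, ← map_pow]
    have h1 : (⟨k, hkN₁⟩ : ↥N₁) ^ Nat.card KP = 1 := by
      apply Subtype.ext
      have h2 : (⟨k, hk⟩ : ↥KP) ^ Nat.card KP = 1 := pow_card_eq_one'
      have h3 := congrArg Subtype.val h2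
      rw [Subgroup.coe_pow, Subgroup.coe_one] at h3
      rw [Subgroup.coe_pow, Subgroup.coe_one]
      exact h3
    rw [h1, map_one]
  have hord : orderOf (QuotientGroup.mk' (D.subgroupOf N₁) ⟨x, hxN₁⟩) ∣ 1 := by
    have h1 := orderOf_dvd_of_pow_eq_one hxa
    have h2 := orderOf_dvd_of_pow_eq_one hxb
    have h3 := Nat.dvd_gcd h1 h2
    rwa [hcop] at h3
  have hone : QuotientGroup.mk' (D.subgroupOf N₁) ⟨x, hxN₁⟩ = 1 :=
    orderOf_eq_one_iff.1 (Nat.dvd_one.1 hord)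
  exact (hφ1 x hxN₁).1 hone

end Cfsg.Agent.helper23
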