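import Mathlib
import Cfsg.Prelude.Def_OddOrder
import Cfsg.Prelude.Def_OddOrderLocal
import Cfsg.Prelude.Def_CaseTheorems
import Cfsg.Agent.Lib_helper23_Tr8

set_option autoImplicit false
set_option linter.style.haveILetI false
set_option linter.unusedSectionVars false
set_option maxHeartbeats 1600000

namespace Cfsg.Agent.helper23

open Cfsg.Agent.helper7
open scoped commutatorElement Pointwise

universe u

variable {G : Type u} [Group G] [Finite G]

/-- Induction along a subnormal chain from `B` up to `P`. -/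
theorem subnormal_ind (hG : Cfsg.IsMinSimpleOddOrder G) (P : Subgroup G) (hP : P ≠ ⊤)
    (q : ℕ) [hq : Fact q.Prime] (π : Set ℕ)
    (H' : Subgroup ↥P) (hsn : H'.IsSubnormal) :
    ∀ (_hB : Cfsg.TransitivityHypothesis (H'.map P.subtype))
      (_hπ : Cfsg.primesNotDvd (Nat.card (H'.map P.subtype : Subgroup G)) = π)
      (_hqB : ¬ q ∣ Nat.card (H'.map P.subtype : Subgroup G))
      (_hPπ : ∀ r : ℕ, r.Prime → r ∣ Nat.card P → r ∣ Nat.card (H'.map P.subtype : Subgroup G))
      (_htr : ∀ Q₁ ∈ Cfsg.maxInvSubgroups ⊤ (H'.map P.subtype) {q},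
        ∀ Q₂ ∈ Cfsg.maxInvSubgroups ⊤ (H'.map P.subtype) {q}, KRel (H'.map P.subtype) Q₁ Q₂),
      Cfsg.TransitivityHypothesis P ∧
      (∀ Q₁ ∈ Cfsg.maxInvSubgroups ⊤ P {q}, ∀ Q₂ ∈ Cfsg.maxInvSubgroups ⊤ P {q}, KRel P Q₁ Q₂) ∧
      Cfsg.piCoreOf π (Subgroup.centralizer ((H'.map P.subtype : Subgroup G) : Set G)) ⊓
          Subgroup.centralizer (P : Set G) =
        Cfsg.piCoreOf π (Subgroup.centralizer (P : Set G)) ∧
      Cfsg.maxInvSubgroups ⊤ P {q} ⊆ Cfsg.maxInvSubgroups ⊤ (H'.map P.subtype) {q} := by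
  induction hsn with
  | top =>
    have hBP : ((⊤ : Subgroup ↥P).map P.subtype : Subgroup G) = P := by
      rw [← MonoidHom.range_eq_map, Subgroup.range_subtype]
    rw [hBP]
    intro hB hπ hqB hPπ htr
    refine ⟨hB, htr, ?_, subset_rfl⟩
    exact inf_eq_left.2 (piCoreOf_le _ _)
  | step H K h_le hSubn hN ih =>
    intro hB hπ hqB hPπ htr
    obtain ⟨B, hBdef⟩ : ∃ B : Subgroup G, B = H.map P.subtype := ⟨_, rfl⟩
    obtain ⟨C, hCdef⟩ : ∃ C : Subgroup G, C = K.map P.subtype := ⟨_, rfl⟩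
    rw [← hBdef] at hB hπ hqB hPπ htr ⊢
    rw [← hCdef] at ih
    have hBC : B ≤ C := by rw [hBdef, hCdef]; exact Subgroup.map_mono h_le
    have hCP : C ≤ P := by rw [hCdef]; exact Subgroup.map_subtype_le K
    have hC : C ≠ ⊤ := by
      intro h
      apply hP
      rw [eq_top_iff, ← h]; exact hCP
    have hCπ : ∀ r : ℕ, r.Prime → r ∣ Nat.card C → r ∣ Nat.card B := by
      intro r hr hd
      exact hPπ r hr (hd.trans (Subgroup.card_dvd_of_le hCP))
    have hCN : C ≤ Subgroup.normalizer (B : Set G) := by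
      have h1 : K ≤ Subgroup.normalizer (H : Set ↥P) :=
        (Subgroup.normal_subgroupOf_iff_le_normalizer h_le).1 hN
      have h2 := Subgroup.le_normalizer_map (H := H) P.subtype
      rw [hCdef, hBdef]
      exact (Subgroup.map_mono h1).trans h2
    have hCth := transHyp_of_le B hB C hC hBC hCπ
    have hπC := primesNotDvd_eq_of B C hBC hCπ
    have htrC := normal_step_trans hG B hB q hqB C hC hCπ hBC hCN htr
    have hcore := core_inf_centralizer hG B hB C hC hCπ hBC
    have hsub := maxInv_subset hG B hB q hqB C hC hCπ hBC hCN htr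
    have hqC : ¬ q ∣ Nat.card C := fun h => hqB (hCπ q hq.out h)
    have hPπC : ∀ r : ℕ, r.Prime → r ∣ Nat.card P → r ∣ Nat.card C := by
      intro r hr hd
      exact (hPπ r hr hd).trans (Subgroup.card_dvd_of_le hBC)
    obtain ⟨i1, i2, i3, i4⟩ := ih hCth (hπC.trans hπ) hqC hPπC htrC
    refine ⟨i1, i2, ?_, i4.trans hsub⟩
    rw [hπ] at hcore
    have hcent : Subgroup.centralizer (P : Set G) ≤ Subgroup.centralizer (C : Set G) :=
      Subgroup.centralizer_le hCP
    calc Cfsg.piCoreOf π (Subgroup.centralizer (B : Set G)) ⊓ Subgroup.centralizer (P : Set G)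
        = Cfsg.piCoreOf π (Subgroup.centralizer (B : Set G)) ⊓
            (Subgroup.centralizer (C : Set G) ⊓ Subgroup.centralizer (P : Set G)) := by
          rw [inf_eq_right.2 hcent]
      _ = Cfsg.piCoreOf π (Subgroup.centralizer (C : Set G)) ⊓
            Subgroup.centralizer (P : Set G) := by
          rw [← inf_assoc, hcore]
      _ = _ := i3

end Cfsg.Agent.helper23
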