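import Mathlib
import Cfsg.Agent.Lib_helper15_BL5
import Cfsg.Agent.Lib_helper15_BL6
import Cfsg.Agent.Lib_helper7_Subnormalizer
import Cfsg.Agent.S1393
import Cfsg.Agent.S1395
import Cfsg.Agent.S1312

set_option autoImplicit false
set_option linter.style.haveILetI false
set_option linter.unusedSectionVars false
set_option maxHeartbeats 1600000

/-! Uniqueness for `C_F(A₀)`, `F = F(M)` not a `p`-group (B&G Theorem 8.1). -/

namespace Cfsg.Agent.helper15.BL

open Cfsg.Agent.helper7
open scoped commutatorElement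

universe u

variable {G : Type u} [Group G] [Finite G]

/-- Under coprime action, a subgroup all of whose invariant subgroups of prime power order lie in `D`
lies in `D`. -/
theorem le_of_invariant_pgroups_le (A Y D : Subgroup G)
    (hAY : A ≤ Subgroup.normalizer (Y : Set G)) (hcop : (Nat.card A).Coprime (Nat.card Y))
    (hsolv : Group.IsSolvable ↥A ∨ Group.IsSolvable ↥Y)
    (h : ∀ (q : ℕ) (S : Subgroup G), q.Prime → S ≤ Y → IsPGroup q S →
      A ≤ Subgroup.normalizer (S : Set G) → S ≤ D) : Y ≤ D := by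
  have h1 : Nat.card Y ∣ Nat.card (D ⊓ Y : Subgroup G) := by
    rw [Nat.dvd_iff_prime_pow_dvd_dvd]
    intro q k hq hqk
    haveI : Fact q.Prime := ⟨hq⟩
    obtain ⟨S, hSY, hSc, hAS⟩ := Cfsg.Agent.lead.exists_invariant_sylow A Y hAY hcop hsolv q
    have hSD : S ≤ D := h q S hq hSY (IsPGroup.of_card hSc) hAS
    have h2 : Nat.card S ∣ Nat.card (D ⊓ Y : Subgroup G) :=
      Subgroup.card_dvd_of_le (le_inf hSD hSY)
    have h4 : k ≤ (Nat.card Y).factorization q :=
      (hq.pow_dvd_iff_le_factorization Nat.card_pos.ne').1 hqk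
    exact (pow_dvd_pow q h4).trans (hSc ▸ h2)
  have h2 : (D ⊓ Y : Subgroup G) = Y := by
    apply Subgroup.eq_of_le_of_card_ge inf_le_right
    exact Nat.le_of_dvd Nat.card_pos h1
  rw [← h2]; exact inf_le_left

/-- A maximal subgroup of a simple group is a maximal local subgroup, if its Fitting subgroup is not
trivial. -/
theorem maxLoc_of_coatom [IsSimpleGroup G] (hna : ¬ IsMulCommutative G) (M A : Subgroup G)
    (hM : IsCoatom M) (hA : A ≤ fitOf M)
    (hCA : fitOf M ⊓ Subgroup.centralizer (A : Set G) ≤ A) : MaxLoc M A := by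
  refine ⟨?_, hA, hCA⟩
  rintro L ⟨p, T, hp, hTp, hTne, rfl⟩ hML
  by_contra hne
  have hlt : M < Subgroup.normalizer (T : Set G) := lt_of_le_of_ne hML (Ne.symm hne)
  have htop := hM.2 _ hlt
  have hTn : T.Normal := Subgroup.normalizer_eq_top_iff.1 htop
  rcases hTn.eq_bot_or_eq_top with h | h
  · exact hTne h
  · -- `G` is a `p`-group, so its centre is nontrivial, hence `G` is commutative
    haveI : Fact p.Prime := ⟨hp⟩
    have hGp : IsPGroup p G := by
      have := hTp
      rw [h] at this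
      exact IsPGroup.of_equiv this Subgroup.topEquiv
    haveI : Nontrivial G := IsSimpleGroup.toNontrivial
    have hZ : Subgroup.center G ≠ ⊥ := by
      haveI := hGp.center_nontrivial
      exact (Subgroup.nontrivial_iff_ne_bot _).1 inferInstance
    have hZn : (Subgroup.center G).Normal := inferInstance
    rcases hZn.eq_bot_or_eq_top with h' | h'
    · exact hZ h'
    · apply hna
      constructor
      constructor
      intro a b
      have : a ∈ Subgroup.center G := by rw [h']; trivial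
      exact (Subgroup.mem_center_iff.1 this b).symm

/-- `S1482` in terms of `fitOf`. -/
theorem unique_max_of_center (hG : Cfsg.IsMinSimpleOddOrder G) (H : Subgroup G) (hH : IsCoatom H)
    (hF2 : 2 ≤ (Nat.card (fitOf H)).primeFactors.card)
    (A : Subgroup G)
    (hZA : fitOf H ⊓ Subgroup.centralizer ((fitOf H : Subgroup G) : Set G) ≤ A)
    (hinv : ∀ Y ∈ Cfsg.invSubgroups ⊤ A (Cfsg.primesNotDvd (Nat.card (fitOf H))), Y = ⊥) :
    ∀ L : Subgroup G, IsCoatom L → A ≤ L → L = H := by
  intro L hL hML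
  by_contra hne
  haveI : IsSimpleGroup G := hG.2.1
  have hna : ¬ IsMulCommutative G := hG.2.2.1
  have hHs : Group.IsSolvable ↥H := hG.2.2.2 H hH.1
  have hLs : Group.IsSolvable ↥L := hG.2.2.2 L hL.1
  have hq : ∀ q : ℕ, q.Prime → ¬ q ∣ Nat.card (fitOf H) → piCoreIn {q} L = ⊥ := by
    intro q hq0 hqF
    apply hinv
    refine ⟨le_top, ?_, hML.trans (piCoreIn_normal _ L)⟩
    intro t ht htd
    have := piGrp_iff_card.1 (piCoreIn_piGrp {q} L) t ht htd
    rw [Set.mem_singleton_iff] at this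
    rw [this]; exact ⟨hq0, hqF⟩
  obtain ⟨h1, h2⟩ := fitting_mutual H L hH hL hHs hLs hF2 (hZA.trans hML) hq
  have hb := Cfsg.Agent.S1312.result hna H L hH hL (Ne.symm hne) (by
      rw [map_generalizedFittingSubgroup_eq]
      unfold fstarOf
      rw [layerOf_eq_bot_of_solvable H hHs, bot_sup_eq]; exact h2) (by
      rw [map_generalizedFittingSubgroup_eq]
      unfold fstarOf
      rw [layerOf_eq_bot_of_solvable L hLs, bot_sup_eq]; exact h1)
  obtain ⟨p, hp, hpH, -⟩ := hb
  haveI : Fact p.Prime := ⟨hp⟩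
  rw [← isPGroup_map_subtype_iff, map_generalizedFittingSubgroup_eq] at hpH
  have hpF : IsPGroup p (fitOf H) := hpH.to_le le_sup_right
  obtain ⟨k, hk⟩ := hpF.exists_card_eq
  rw [hk] at hF2
  have h3 : (p ^ k).primeFactors.card ≤ 1 := by
    rcases Nat.eq_zero_or_pos k with hk0 | hk0
    · rw [hk0, pow_zero]; simp
    · rw [Nat.primeFactors_prime_pow hk0.ne' hp]; simp
  omega

/-- Conjugation by an element normalizing `P` permutes the maximal `P`-invariant `q`-subgroups. -/
theorem cj_mem_maxInv_of_normalizer (P : Subgroup G) (q : ℕ) (m : G)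
    (hm : m ∈ Subgroup.normalizer (P : Set G)) (Q : Subgroup G)
    (hQ : Q ∈ Cfsg.maxInvSubgroups ⊤ P {q}) : cj m Q ∈ Cfsg.maxInvSubgroups ⊤ P {q} := by
  have hinv : ∀ (g : G), g ∈ Subgroup.normalizer (P : Set G) → ∀ R : Subgroup G,
      R ∈ Cfsg.invSubgroups ⊤ P {q} → cj g R ∈ Cfsg.invSubgroups ⊤ P {q} := by
    rintro g hg R ⟨-, hRq, hPR⟩
    refine ⟨le_top, ?_, ?_⟩
    · intro t ht htd
      rw [card_cj] at htd
      exact hRq t ht htd
    · rw [← cj_normalizer]
      have h1 : cj g P = P := cj_eq_of_mem_normalizer hg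
      rw [← h1]
      exact cj_mono hPR
  obtain ⟨hQi, hQm⟩ := hQ
  refine ⟨hinv m hm Q hQi, ?_⟩
  intro R hR hle
  have hm' : m⁻¹ ∈ Subgroup.normalizer (P : Set G) := Subgroup.inv_mem _ hm
  have h1 : cj m⁻¹ R ∈ Cfsg.invSubgroups ⊤ P {q} := hinv m⁻¹ hm' R hR
  have h2 : Q ≤ cj m⁻¹ R := by
    have := cj_mono (g := m⁻¹) hle
    rwa [cj_inv_cj] at this
  have h3 := hQm _ h1 h2
  rw [← h3, cj_cj_inv]

end Cfsg.Agent.helper15.BL
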