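import Mathlib
import Cfsg.Agent.Lib_helper15_BL7

set_option autoImplicit false
set_option linter.style.haveILetI false
set_option linter.unusedSectionVars false
set_option maxHeartbeats 3200000

/-! Uniqueness for `C_F(A₀)`, `F = F(M)` not a `p`-group (B&G Theorem 8.1): main argument. -/

namespace Cfsg.Agent.helper15.BL

open Cfsg.Agent.helper7
open scoped commutatorElement

universe u

variable {G : Type u} [Group G] [Finite G]

theorem isPGroup_of_exponent {p : ℕ} (A₀ : Subgroup G) (h : ∀ a ∈ A₀, a ^ p = 1) :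
    IsPGroup p A₀ := by
  intro x
  refine ⟨1, ?_⟩
  rw [pow_one]
  apply Subtype.ext
  rw [Subgroup.coe_pow]
  exact h x x.2

theorem prime_dvd_card_of_isPGroup_ne_bot {q : ℕ} [hq : Fact q.Prime] (Z : Subgroup G)
    (hZ : IsPGroup q Z) (hne : Z ≠ ⊥) : q ∣ Nat.card Z := by
  obtain ⟨k, hk⟩ := hZ.exists_card_eq
  rcases Nat.eq_zero_or_pos k with hk0 | hk0
  · rw [hk0, pow_zero] at hk
    exact absurd (Subgroup.eq_bot_of_card_eq _ hk) hne
  · rw [hk]; exact dvd_pow_self q hk0.ne'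

/-- The setting of B&G Theorem 8.1, with the transitivity results as hypotheses. -/
theorem part_a (hG : Cfsg.IsMinSimpleOddOrder G) (M : Subgroup G) (hM : IsCoatom M) (p : ℕ)
    [hp : Fact p.Prime] (A₀ : Subgroup G) (hA₀ : A₀ ≤ fitOf M)
    (hA₀e : Cfsg.IsElementaryAbelian p A₀) (hA₀3 : p ^ 3 ≤ Nat.card A₀)
    (hnp : ¬ IsPGroup p ↥(fitOf M)) :
    Cfsg.InUniqueMaximal (fitOf M ⊓ Subgroup.centralizer (A₀ : Set G)) := by
  haveI : IsSimpleGroup G := hG.2.1
  have hna := hG.2.2.1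
  have hMs : Group.IsSolvable ↥M := hG.2.2.2 M hM.1
  have hA₀c : A₀ ≤ Subgroup.centralizer (A₀ : Set G) := by
    intro x hx
    refine Subgroup.mem_centralizer_iff.2 ?_
    intro y hy
    exact congrArg Subtype.val (hA₀e.1.is_comm.comm (⟨y, hy⟩ : ↥A₀) ⟨x, hx⟩)
  obtain ⟨A, hAdef⟩ : ∃ A : Subgroup G,
    A = fitOf M ⊓ Subgroup.centralizer (A₀ : Set G) := ⟨_, rfl⟩
  rw [← hAdef]
  have hAF : A ≤ fitOf M := by rw [hAdef]; exact inf_le_left
  have hA₀A : A₀ ≤ A := by rw [hAdef]; exact le_inf hA₀ hA₀c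
  have hAC₀ : A ≤ Subgroup.centralizer (A₀ : Set G) := by rw [hAdef]; exact inf_le_right
  have hCA : fitOf M ⊓ Subgroup.centralizer (A : Set G) ≤ A := by
    rw [hAdef]
    exact le_inf inf_le_left (inf_le_right.trans (Subgroup.centralizer_le (hAdef ▸ hA₀A)))
  have hZA : fitOf M ⊓ Subgroup.centralizer ((fitOf M : Subgroup G) : Set G) ≤ A := by
    rw [hAdef]
    exact le_inf inf_le_left (inf_le_right.trans (Subgroup.centralizer_le hA₀))
  have hA₀p : IsPGroup p A₀ := isPGroup_of_exponent A₀ hA₀e.2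
  have hA₀ne : A₀ ≠ ⊥ := by
    intro h
    rw [h, Subgroup.card_bot] at hA₀3
    have := hp.out.one_lt
    have h2 : 1 < p ^ 3 := Nat.one_lt_pow (by norm_num) this
    omega
  have hpF : p ∣ Nat.card (fitOf M) :=
    (prime_dvd_card_of_isPGroup_ne_bot A₀ hA₀p hA₀ne).trans (Subgroup.card_dvd_of_le hA₀)
  have hFp : piCoreIn {p} M ≠ ⊥ := core_ne_bot_of_dvd M p hpF
  -- a second prime
  obtain ⟨r, hr, hrp, hrF⟩ : ∃ r : ℕ, r.Prime ∧ r ≠ p ∧ r ∣ Nat.card (fitOf M) := by
    by_contra hcon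
    push_neg at hcon
    apply hnp
    have h1 : Nat.card (fitOf M) = p ^ (Nat.card (fitOf M)).primeFactorsList.length := by
      apply Nat.eq_prime_pow_of_unique_prime_dvd Nat.card_pos.ne'
      intro d hd hdF
      by_contra hdp
      exact hcon d hd hdp hdF
    exact IsPGroup.of_card h1
  have hF2 : 2 ≤ (Nat.card (fitOf M)).primeFactors.card := by
    have hsub : ({p, r} : Finset ℕ) ⊆ (Nat.card (fitOf M)).primeFactors := by
      intro x hx
      rw [Finset.mem_insert, Finset.mem_singleton] at hx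
      rw [Nat.mem_primeFactors]
      rcases hx with rfl | rfl
      · exact ⟨hp.out, hpF, Nat.card_pos.ne'⟩
      · exact ⟨hr, hrF, Nat.card_pos.ne'⟩
    have := Finset.card_le_card hsub
    rwa [Finset.card_pair (Ne.symm hrp)] at this
  have hmax : MaxLoc M A := maxLoc_of_coatom hna M A hM hAF hCA
  have hAM : A ≤ M := hAF.trans (fitOf_le M)
  have hAne : A ≠ ⊥ := fun h => hA₀ne (le_bot_iff.1 (h ▸ hA₀A))
  have hAtop : A ≠ ⊤ := fun h => hM.1 (top_le_iff.1 (h ▸ hAM))
  -- primes of `A` and of `F(M)`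
  have hprimes : ∀ q : ℕ, q.Prime → q ∣ Nat.card (fitOf M) → q ∣ Nat.card A := by
    intro q hq hqF
    haveI : Fact q.Prime := ⟨hq⟩
    have hne := center_core_ne_bot M q (core_ne_bot_of_dvd M q hqF)
    have hle := (center_core_le_center_fitOf M q).trans hZA
    exact (prime_dvd_card_of_isPGroup_ne_bot _ ((core_isPGroup M).to_le inf_le_left) hne).trans
      (Subgroup.card_dvd_of_le hle)
  have hσ : Cfsg.primesNotDvd (Nat.card A) = Cfsg.primesNotDvd (Nat.card (fitOf M)) := by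
    ext q
    constructor
    · rintro ⟨hq, hqA⟩
      exact ⟨hq, fun hqF => hqA (hprimes q hq hqF)⟩
    · rintro ⟨hq, hqF⟩
      exact ⟨hq, fun hqA => hqF (hqA.trans (Subgroup.card_dvd_of_le hAF))⟩
  have hXn : M ⊓ Subgroup.centralizer ((fitOf M : Subgroup G) : Set G) ≤ A :=
    (le_inf (inf_centralizer_fitOf_le M hMs) inf_le_right).trans hZA
  have hcore : ∀ X : Subgroup G, X ≠ ⊤ → A ≤ X → ∀ q : ℕ, q.Prime →
      ¬ q ∣ Nat.card (fitOf M) → ∀ Q : Subgroup G, Q ≤ X → IsPGroup q Q →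
      A ≤ Subgroup.normalizer (Q : Set G) →
      Q ≤ piCoreIn (Cfsg.primesNotDvd (Nat.card (fitOf M))) X := by
    intro X hX hAX q hq hqF Q hQX hQq hAQ
    haveI : Fact q.Prime := ⟨hq⟩
    exact hmax.inv_le_core hF2 X (hG.2.2.2 X hX) (hAX.trans Subgroup.le_normalizer)
      ((hXn.trans hAX).trans Subgroup.le_normalizer) q hqF Q hQX hQq hAQ
  have hcopY : ∀ Y : Subgroup G,
      (∀ t : ℕ, t.Prime → t ∣ Nat.card Y → t ∈ Cfsg.primesNotDvd (Nat.card (fitOf M))) →
      (Nat.card A).Coprime (Nat.card Y) := by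
    intro Y hY
    apply Nat.coprime_of_dvd
    intro k hk hkA hkY
    exact (hY k hk hkY).2 (hkA.trans (Subgroup.card_dvd_of_le hAF))
  -- the transitivity hypothesis
  have hTH : Cfsg.TransitivityHypothesis A := by
    refine ⟨hAne, hAtop, ?_⟩
    intro X hX hAX
    rw [hσ, Cfsg.Agent.helper23.piCoreOf_eq_piCoreIn]
    apply le_antisymm
    · apply sSup_le
      rintro Y ⟨hYX, hYσ, hAY⟩
      have hYtop : Y ≠ ⊤ := fun h => hX (top_le_iff.1 (h ▸ hYX))
      apply le_of_invariant_pgroups_le A Y _ hAY (hcopY Y hYσ) (Or.inr (hG.2.2.2 Y hYtop))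
      intro q S hq hSY hSq hAS
      haveI : Fact q.Prime := ⟨hq⟩
      by_cases hS : S = ⊥
      · rw [hS]; exact bot_le
      · have hqY : q ∣ Nat.card Y :=
          (prime_dvd_card_of_isPGroup_ne_bot S hSq hS).trans (Subgroup.card_dvd_of_le hSY)
        exact hcore X hX hAX q hq (hYσ q hq hqY).2 S (hSY.trans hYX) hSq hAS
    · apply le_sSup
      exact ⟨piCoreIn_le _ _, piGrp_iff_card.1 (piCoreIn_piGrp _ _),
        hAX.trans (piCoreIn_normal _ _)⟩
  -- `O_{π'}(C_G(A)) = 1`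
  have hK : piCoreIn (Cfsg.primesNotDvd (Nat.card (fitOf M)))
      (Subgroup.centralizer (A : Set G)) = ⊥ := by
    obtain ⟨K, hKdef⟩ : ∃ K : Subgroup G, K = piCoreIn (Cfsg.primesNotDvd (Nat.card (fitOf M)))
      (Subgroup.centralizer (A : Set G)) := ⟨_, rfl⟩
    rw [← hKdef]
    have hKC : K ≤ Subgroup.centralizer (A : Set G) := by rw [hKdef]; exact piCoreIn_le _ _
    have hAK : A ≤ Subgroup.normalizer (K : Set G) := by
      rw [hKdef]
      exact (Subgroup.le_normalizer.trans (normalizer_le_normalizer_centralizer A)).trans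
        (normalizer_le_normalizer_radOf (fun g _ h => h.conj g) _)
    have hKσ : ∀ t : ℕ, t.Prime → t ∣ Nat.card K →
        t ∈ Cfsg.primesNotDvd (Nat.card (fitOf M)) := by
      rw [hKdef]; exact piGrp_iff_card.1 (piCoreIn_piGrp _ _)
    have hcopK : (Nat.card K).Coprime (Nat.card (fitOf M)) := by
      apply Nat.coprime_of_dvd
      intro k hk hkK hkF
      exact (hKσ k hk hkK).2 hkF
    have h1 := hmax.inf_centralizer_le p hFp K hAK hcopK
    have h2 : K ≤ K ⊓ Subgroup.centralizer ((A ⊓ piCoreIn {p} M : Subgroup G) : Set G) :=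
      le_inf le_rfl (hKC.trans (Subgroup.centralizer_le inf_le_left))
    have h3 : K ≤ fitOf M := (h2.trans h1).trans (inf_centralizer_fitOf_le M hMs)
    have h4 : K ⊓ fitOf M = ⊥ := Subgroup.inf_eq_bot_of_coprime hcopK
    rw [eq_bot_iff, ← h4]
    exact le_inf le_rfl h3
  -- rank of the centre of `A`
  have hZ : ¬ Cfsg.RankLE 2 ↥(A ⊓ Subgroup.centralizer (A : Set G)) := by
    intro hrank
    have h1 := hrank p hp.out
    have hle : A₀ ≤ A ⊓ Subgroup.centralizer (A : Set G) :=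
      le_inf hA₀A (Subgroup.le_centralizer_iff.1 hAC₀)
    have h2 := h1 (A₀.subgroupOf (A ⊓ Subgroup.centralizer (A : Set G)))
      (by
        constructor
        constructor
        rintro ⟨a, ha⟩ ⟨b, hb⟩
        apply Subtype.ext
        apply Subtype.ext
        have ha' : (a : G) ∈ A₀ := ha
        have hb' : (b : G) ∈ A₀ := hb
        show (a : G) * (b : G) = (b : G) * (a : G)
        exact congrArg Subtype.val (hA₀e.1.is_comm.comm (⟨(a : G), ha'⟩ : ↥A₀) ⟨(b : G), hb'⟩))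
      (by
        intro a ha
        apply Subtype.ext
        rw [Subgroup.coe_pow]
        have ha' : (a : G) ∈ A₀ := ha
        exact hA₀e.2 _ ha')
    rw [Nat.card_congr (Subgroup.subgroupOfEquivOfLe hle).toEquiv] at h2
    have h3 : p ^ 2 < p ^ 3 := Nat.pow_lt_pow_right hp.out.one_lt (by norm_num)
    omega
  -- uniqueness of the maximal invariant `q`-subgroup
  have huniq : ∀ q : ℕ, q.Prime → ¬ q ∣ Nat.card (fitOf M) →
      ∀ Q₁ ∈ Cfsg.maxInvSubgroups ⊤ A {q}, ∀ Q₂ ∈ Cfsg.maxInvSubgroups ⊤ A {q}, Q₂ = Q₁ := by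
    intro q hq hqF Q₁ h₁ Q₂ h₂
    have hqA : ¬ q ∣ Nat.card A := fun h => hqF (h.trans (Subgroup.card_dvd_of_le hAF))
    obtain ⟨k, hk, hkQ⟩ := Cfsg.Agent.S1393.result hG A hTH hZ q hq hqA Q₁ h₁ Q₂ h₂
    rw [hσ, Cfsg.Agent.helper23.piCoreOf_eq_piCoreIn, hK, Subgroup.mem_bot] at hk
    rw [hkQ, hk]
    exact cj_one Q₁
  -- the unique one is trivial
  have hbot : ∀ q : ℕ, q.Prime → ¬ q ∣ Nat.card (fitOf M) →
      ∀ Q ∈ Cfsg.maxInvSubgroups ⊤ A {q}, Q = ⊥ := by
    intro q hq hqF Q₀ hQ₀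
    haveI : Fact q.Prime := ⟨hq⟩
    have hqA : ¬ q ∣ Nat.card A := fun h => hqF (h.trans (Subgroup.card_dvd_of_le hAF))
    have hFtop : fitOf M ≠ ⊤ := fun h => hM.1 (top_le_iff.1 (h ▸ fitOf_le M))
    have hsn : (A.subgroupOf (fitOf M)).IsSubnormal :=
      sn_comap_subtype (sn_of_le_nilpotent (fitOf_nilpotent M) _ A rfl hAF)
    have h95 := Cfsg.Agent.S1395.result hG A hTH q hq hqA (fitOf M) hFtop hprimes hAF hsn
      (fun Q₁ h₁ Q₂ h₂ => Cfsg.Agent.S1393.result hG A hTH hZ q hq hqA Q₁ h₁ Q₂ h₂)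
    have hsub := h95.2.2.1
    have hbotinv : (⊥ : Subgroup G) ∈ Cfsg.invSubgroups ⊤ (fitOf M) {q} := by
      refine ⟨le_top, ?_, ?_⟩
      · intro t ht htd
        rw [Subgroup.card_bot] at htd
        exact absurd (Nat.dvd_one.1 htd) ht.ne_one
      · rw [Subgroup.normalizer_eq_top]; exact le_top
    obtain ⟨Q, hQ, -⟩ := Cfsg.Agent.helper23.exists_max_ge (fitOf M) q ⊥ hbotinv
    have hQA : Q ∈ Cfsg.maxInvSubgroups ⊤ A {q} := hsub hQ
    have hMQ : M ≤ Subgroup.normalizer (Q : Set G) := by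
      intro m hm
      have h1 := cj_mem_maxInv_of_normalizer (fitOf M) q m (fitOf_normal M hm) Q hQ
      have h2 := huniq q hq hqF Q hQA _ (hsub h1)
      exact mem_normalizer_of_cj_eq h2
    have hQq : IsPGroup q Q := Cfsg.Agent.helper23.isPGroup_of_primes q Q hQ.1.2.1
    have hQbot : Q = ⊥ := by
      by_contra hQne
      have hQtop : Q ≠ ⊤ := by
        intro h
        obtain ⟨k, hk⟩ := hQq.exists_card_eq
        rw [h, Subgroup.card_top] at hk
        have h1 : p ∣ q ^ k := by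
          rw [← hk]; exact hpF.trans (Subgroup.card_subgroup_dvd_card _)
        have h2 := (Nat.prime_dvd_prime_iff_eq hp.out hq).1 (hp.out.dvd_of_dvd_pow h1)
        exact hqF (h2 ▸ hpF)
      have hNtop := Cfsg.Agent.helper23.mso_normalizer_ne_top hG Q hQne hQtop
      have hNM : Subgroup.normalizer (Q : Set G) = M := by
        by_contra hne
        exact hNtop (hM.2 _ (lt_of_le_of_ne hMQ (Ne.symm hne)))
      have hQM : Q ≤ M := hNM ▸ Subgroup.le_normalizer
      have h3 : Q ≤ piCoreIn {q} M :=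
        le_radOf hQM hMQ ((isPGroup_iff_piGrp hq).1 hQq)
      rw [core_eq_bot_of_not_dvd M q hqF, le_bot_iff] at h3
      exact hQne h3
    rw [huniq q hq hqF Q hQA Q₀ hQ₀, hQbot]
  -- no nontrivial invariant `π'`-subgroups
  have hinv : ∀ Y ∈ Cfsg.invSubgroups ⊤ A (Cfsg.primesNotDvd (Nat.card (fitOf M))), Y = ⊥ := by
    rintro Y ⟨-, hYσ, hAY⟩
    have hYtop : Y ≠ ⊤ := by
      intro h
      have h1 : p ∣ Nat.card Y := by
        rw [h, Subgroup.card_top]; exact hpF.trans (Subgroup.card_subgroup_dvd_card _)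
      exact (hYσ p hp.out h1).2 hpF
    rw [eq_bot_iff]
    apply le_of_invariant_pgroups_le A Y _ hAY (hcopY Y hYσ) (Or.inr (hG.2.2.2 Y hYtop))
    intro q S hq hSY hSq hAS
    haveI : Fact q.Prime := ⟨hq⟩
    by_cases hS : S = ⊥
    · rw [hS]
    · have hqY : q ∣ Nat.card Y :=
        (prime_dvd_card_of_isPGroup_ne_bot S hSq hS).trans (Subgroup.card_dvd_of_le hSY)
      have hqF := (hYσ q hq hqY).2
      have hSinv : S ∈ Cfsg.invSubgroups ⊤ A {q} :=
        ⟨le_top, Cfsg.Agent.helper23.primes_of_isPGroup q S hSq, hAS⟩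
      obtain ⟨Q, hQ, hSQ⟩ := Cfsg.Agent.helper23.exists_max_ge A q S hSinv
      rw [hbot q hq hqF Q hQ] at hSQ
      exact hSQ
  have huq := unique_max_of_center hG M hM hF2 A hZA hinv
  exact ⟨M, ⟨hM, hAM⟩, fun L hL => huq L hL.1 hL.2⟩

end Cfsg.Agent.helper15.BL
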