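import Mathlib
import Cfsg.Prelude.Def_ConjugacyFunctors
import Cfsg.Agent.Lib_helper3_ZJFunctor
import Cfsg.Agent.Lib_helper23_Thompson
import Cfsg.Agent.Lib_helper23_ThompsonJZ
import Cfsg.Agent.Lib_helper19_Sylow
import Cfsg.Agent.Lib_helper19_PGroup
import Cfsg.Agent.Lib_helper7_Quot

/-! Thompson's normal `p`-complement theorem for the abelian-version Thompson subgroup
(helper15): functor set-up and the final step for odd `p`. -/

set_option autoImplicit false

namespace Cfsg.Agent.helper15.ThA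

open Cfsg
open Cfsg.Agent.helper3 Cfsg.Agent.helper10 Cfsg.Agent.helper23
open scoped commutatorElement

universe u

/-- The functor `Q ↦ J(Q)` (abelian version). -/
def jaFunctor : ∀ (Q : Type u) [Group Q], Subgroup Q := fun Q _ => Cfsg.thompsonSubgroupA Q

theorem inducedFunctor_jaFunctor {G : Type u} [Group G] (P : Subgroup G) :
    Cfsg.inducedFunctor jaFunctor P = Cfsg.thompsonSubgroupAOf P := rfl

theorem isCharPFunctor_ja (p : ℕ) [hp : Fact p.Prime] : Cfsg.IsCharPFunctor.{u} p jaFunctor := by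
  refine ⟨?_, ?_⟩
  · intro Q _ _ hQ hnt hbot
    obtain ⟨x, hx⟩ := exists_ne (1 : Q)
    -- a maximal abelian subgroup
    let T := {A : Subgroup Q // IsMulCommutative A}
    haveI : Nonempty T := ⟨⟨⊥, inferInstance⟩⟩
    haveI : Finite T := Subtype.finite
    obtain ⟨⟨A, hA2⟩, hmax⟩ := Finite.exists_max (fun A : T => Nat.card ↥A.1)
    have hA : A ∈ Cfsg.maxAbelianSubgroups Q := ⟨hA2, fun B hB => hmax ⟨B, hB⟩⟩
    have hAJ : A ≤ Cfsg.thompsonSubgroupA Q := le_sSup hA
    have hAbot : A = ⊥ := le_bot_iff.mp (hbot ▸ hAJ)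
    have h1 := hA.2 (Subgroup.zpowers x) inferInstance
    rw [hAbot, Subgroup.card_bot] at h1
    have h2 : Subgroup.zpowers x = ⊥ := Subgroup.eq_bot_of_card_le _ h1
    rw [Subgroup.zpowers_eq_bot] at h2
    exact hx h2
  · intro Q R _ _ _ hQ φ
    exact thompsonSubgroupA_map_equiv φ

section amb
variable {G : Type*} [Group G] [Finite G]

theorem thompsonSubgroupAOf_le (S : Subgroup G) : Cfsg.thompsonSubgroupAOf S ≤ S :=
  Subgroup.map_subtype_le _

/-- `J(H) = J(S)` whenever `J(S) ≤ H ≤ S`. -/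
theorem thompsonSubgroupAOf_eq_of_le {S H : Subgroup G} (hHS : H ≤ S)
    (hJH : Cfsg.thompsonSubgroupAOf S ≤ H) :
    Cfsg.thompsonSubgroupAOf H = Cfsg.thompsonSubgroupAOf S := by
  have hfam := zjFamily_famAb (G := G)
  rw [thompsonSubgroupAOf_eq_sSup, thompsonSubgroupAOf_eq_sSup]
  have hAH : ∀ A ∈ famAb S, A ≤ H := by
    intro A hA
    refine le_trans ?_ hJH
    rw [thompsonSubgroupAOf_eq_sSup]
    exact le_sSup hA
  obtain ⟨A₀, hA₀⟩ := hfam.nonempty S
  have hsub : famAb H ⊆ famAb S := (hfam.mono hHS hA₀ (hAH A₀ hA₀)).2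
  apply le_antisymm
  · exact sSup_le_sSup hsub
  · apply sSup_le
    intro A hA
    exact le_sSup (hfam.mono hHS hA (hAH A hA)).1

/-- conjugation invariance: `N(S) ≤ N(J(S))`. -/
theorem normalizer_le_normalizer_thompsonSubgroupAOf (S : Subgroup G) :
    Subgroup.normalizer (S : Set G) ≤ Subgroup.normalizer (Cfsg.thompsonSubgroupAOf S : Set G) := by
  have hfam := zjFamily_famAb (G := G)
  intro g hg
  have hmapS : S.map (MulAut.conj g).toMonoidHom = S := by
    have := Subgroup.map_equiv_normalizer_eq S (MulAut.conj g)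
    apply le_antisymm
    · rintro _ ⟨s, hs, rfl⟩
      exact (Subgroup.mem_normalizer_iff.mp hg s).mp hs
    · intro s hs
      refine ⟨g⁻¹ * s * g, ?_, ?_⟩
      · have := (Subgroup.mem_normalizer_iff.mp (Subgroup.inv_mem _ hg) s).mp hs
        simpa using this
      · simp [MulAut.conj_apply]; group
  have hmapJ : (Cfsg.thompsonSubgroupAOf S).map (MulAut.conj g).toMonoidHom
      ≤ Cfsg.thompsonSubgroupAOf S := by
    rw [thompsonSubgroupAOf_eq_sSup, Subgroup.map_le_iff_le_comap]
    apply sSup_le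
    intro A hA
    rw [← Subgroup.map_le_iff_le_comap]
    have h1 := hfam.map (MulAut.conj g) hA
    rw [hmapS] at h1
    exact le_sSup h1
  have hcard : Nat.card ((Cfsg.thompsonSubgroupAOf S).map (MulAut.conj g).toMonoidHom)
      = Nat.card (Cfsg.thompsonSubgroupAOf S) :=
    Subgroup.card_map_of_injective (MulAut.conj g).injective
  have heq : (Cfsg.thompsonSubgroupAOf S).map (MulAut.conj g).toMonoidHom
      = Cfsg.thompsonSubgroupAOf S := Subgroup.eq_of_le_of_card_ge hmapJ hcard.ge
  rw [Subgroup.mem_normalizer_iff]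
  intro x
  constructor
  · intro hx
    rw [← heq]
    exact ⟨x, hx, rfl⟩
  · intro hx
    rw [← heq] at hx
    obtain ⟨y, hy, hyx⟩ := hx
    have : y = x := by
      have h2 : g * y * g⁻¹ = g * x * g⁻¹ := hyx
      have h3 : y = g⁻¹ * (g * y * g⁻¹) * g := by group
      rw [h3, h2]; group
    rw [← this]; exact hy

/-- `Z(S) ≤ Z(J(S))`. -/
theorem center_le_centerThompsonAOf (S : Subgroup G) :
    S ⊓ Subgroup.centralizer (S : Set G) ≤ Cfsg.centerThompsonAOf S := by
  rw [centerThompsonAOf_eq_zjI]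
  apply le_zjI
  intro A hA
  -- `A ⊔ Z(S)` is abelian, of order at most `|A|`
  have hZc : IsMulCommutative ↥(S ⊓ Subgroup.centralizer (S : Set G)) := by
    refine ⟨⟨fun a b => ?_⟩⟩
    apply Subtype.ext
    have := Subgroup.mem_centralizer_iff.mp b.2.2 a a.2.1
    rw [Subgroup.coe_mul, Subgroup.coe_mul]
    exact this
  have hcomm : IsMulCommutative ↥(A ⊔ (S ⊓ Subgroup.centralizer (S : Set G))) := by
    apply isMulCommutative_sup' hA.2.1 hZc
    intro x hx c hc
    exact (Subgroup.mem_centralizer_iff.mp hc.2 x (hA.1 hx))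
  have hle : A ⊔ (S ⊓ Subgroup.centralizer (S : Set G)) ≤ S := sup_le hA.1 inf_le_left
  have hcard := hA.2.2 _ hle hcomm
  have heq : A = A ⊔ (S ⊓ Subgroup.centralizer (S : Set G)) :=
    Subgroup.eq_of_le_of_card_ge le_sup_left hcard
  rw [heq]
  exact le_sup_right

end amb

section final
variable {p : ℕ} [hp : Fact p.Prime]

theorem npc_of_eq_top {X : Type u} [Group X] [Finite X] (U : Subgroup X) (hU : U = ⊤)
    (h : Cfsg.HasNormalPComplement p ↥U) : Cfsg.HasNormalPComplement p X := by
  subst hU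
  exact npc_of_surjective (⊤ : Subgroup X).subtype (fun x => ⟨⟨x, trivial⟩, rfl⟩) h

/-- A normal subgroup with a normal `p`-complement, in a group with trivial `p'`-core, is a
`p`-group. -/
theorem isPGroup_of_normal_npc {X : Type u} [Group X] [Finite X] (C : Subgroup X) [hC : C.Normal]
    (hD : Cfsg.pPrimeCore p X = ⊥) (h : Cfsg.HasNormalPComplement p ↥C) : IsPGroup p ↥C := by
  obtain ⟨P', N, hNn, hNP⟩ := h
  have hNcop : (Nat.card N).Coprime p := card_coprime_of_isComplement' P' N hNP
  have hsn : Cfsg.Agent.helper7.SN (N.map C.subtype) ⊤ := by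
    refine Cfsg.Agent.helper7.SN.step _ C _ (Subgroup.map_subtype_le _) ?_ ?_
    · intro c hc
      rw [Subgroup.mem_normalizer_iff]
      intro x
      constructor
      · rintro ⟨y, hy, rfl⟩
        exact ⟨⟨c, hc⟩ * y * ⟨c, hc⟩⁻¹, hNn.conj_mem y hy _, rfl⟩
      · rintro ⟨y, hy, hyx⟩
        refine ⟨⟨c, hc⟩⁻¹ * y * ⟨c, hc⟩, ?_, ?_⟩
        · have := hNn.conj_mem y hy (⟨c, hc⟩⁻¹)
          simpa using this
        · have h1 : (y : X) = c * x * c⁻¹ := hyx
          simp only [Subgroup.subtype_apply, Subgroup.coe_mul, Subgroup.coe_inv, h1]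
          group
    · exact Cfsg.Agent.helper7.SN.of_normal le_top (by rw [Subgroup.normalizer_eq_top])
  have hcard : Nat.card ↥(N.map C.subtype) = Nat.card N :=
    Subgroup.card_map_of_injective C.subtype_injective
  have hpi : Cfsg.Agent.helper7.PiGrp {q | q ≠ p} (N.map C.subtype) := by
    rw [← Cfsg.Agent.helper7.coprime_card_iff_piGrp hp.out, hcard]
    exact hNcop
  have hle := Cfsg.Agent.helper7.le_pPrimeCore_of_sn hp.out hsn hpi
  rw [hD, le_bot_iff] at hle
  have hNbot : N = ⊥ := by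
    rw [eq_bot_iff]
    intro y hy
    have : (y : X) ∈ N.map C.subtype := ⟨y, hy, rfl⟩
    rw [hle, Subgroup.mem_bot] at this
    rw [Subgroup.mem_bot]
    exact Subtype.ext this
  have hc := hNP.card_mul_card
  rw [hNbot, Subgroup.card_bot, one_mul] at hc
  obtain ⟨k, hk⟩ := IsPGroup.iff_card.mp P'.isPGroup'
  exact IsPGroup.of_card (n := k) (by rw [← hc, hk])

/-- The final step of Thompson's theorem for `J` (abelian version) and `Z`, `p` odd. -/
theorem final_odd (hp2 : p ≠ 2) (X : Type u) [Group X] [Finite X]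
    (S : Sylow p X) (hcon : Constrained p X) (hD : Cfsg.pPrimeCore p X = ⊥)
    (hquot : Cfsg.HasNormalPComplement p (X ⧸ Cfsg.pCore p X))
    (hcoatom : IsCoatom (S : Subgroup X))
    (hN : HypNC p jaFunctor (fun Q _ => Subgroup.center Q) X (S : Subgroup X)) :
    Cfsg.HasNormalPComplement p X := by
  obtain ⟨hN1, hN2⟩ := hN
  rw [inducedFunctor_jaFunctor] at hN1
  have hZ : Cfsg.inducedFunctor (fun Q _ => Subgroup.center Q) (S : Subgroup X)
      = (S : Subgroup X) ⊓ Subgroup.centralizer ((S : Subgroup X) : Set X) :=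
    Cfsg.Agent.helper19.map_center_eq_inf_centralizer _
  rw [hZ] at hN2
  have hZJn : (Cfsg.centerThompsonAOf (S : Subgroup X)).Normal := by
    have := hypT_zjFunctor hp2 X ⊤ X (Subgroup.topEquiv (G := X)).toMonoidHom
      (fun x => ⟨⟨x, trivial⟩, rfl⟩) hcon hquot S hcoatom
    rwa [inducedFunctor_zjFunctor] at this
  haveI := hZJn
  haveI hCn : (Subgroup.centralizer (Cfsg.centerThompsonAOf (S : Subgroup X) : Set X)).Normal :=
    inferInstance
  by_cases hNJ : Subgroup.normalizer (Cfsg.thompsonSubgroupAOf (S : Subgroup X) : Set X) = ⊤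
  · exact npc_of_eq_top _ hNJ hN1
  have hSN : (S : Subgroup X) ≤
      Subgroup.normalizer (Cfsg.thompsonSubgroupAOf (S : Subgroup X) : Set X) :=
    Subgroup.le_normalizer.trans (normalizer_le_normalizer_thompsonSubgroupAOf _)
  have hNS : Subgroup.normalizer (Cfsg.thompsonSubgroupAOf (S : Subgroup X) : Set X) = S := by
    by_contra hne
    exact hNJ (hcoatom.2 _ (lt_of_le_of_ne hSN (Ne.symm hne)))
  have hJC : Cfsg.thompsonSubgroupAOf (S : Subgroup X)
      ≤ Subgroup.centralizer (Cfsg.centerThompsonAOf (S : Subgroup X) : Set X) := by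
    intro j hj
    rw [Subgroup.mem_centralizer_iff]
    intro z hz
    have hz2 : z ∈ Subgroup.centralizer (Cfsg.thompsonSubgroupAOf (S : Subgroup X) : Set X) :=
      hz.2
    exact (Subgroup.mem_centralizer_iff.mp hz2 j hj).symm
  have hfr := Cfsg.Agent.helper19.frattini_inf S
    (Subgroup.centralizer (Cfsg.centerThompsonAOf (S : Subgroup X) : Set X))
  have hJeq := thompsonSubgroupAOf_eq_of_le
    (inf_le_left : (S : Subgroup X) ⊓
      Subgroup.centralizer (Cfsg.centerThompsonAOf (S : Subgroup X) : Set X) ≤ S)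
    (le_inf (thompsonSubgroupAOf_le _) hJC)
  have hNle : Subgroup.normalizer (((S : Subgroup X) ⊓
      Subgroup.centralizer (Cfsg.centerThompsonAOf (S : Subgroup X) : Set X) : Subgroup X) : Set X)
      ≤ S := by
    refine le_trans (normalizer_le_normalizer_thompsonSubgroupAOf _) ?_
    rw [hJeq, hNS]
  have htop : (S : Subgroup X) ⊔
      Subgroup.centralizer (Cfsg.centerThompsonAOf (S : Subgroup X) : Set X) = ⊤ := by
    rw [eq_top_iff, ← hfr]
    exact sup_le_sup_right hNle _
  have hCM : Subgroup.centralizer (Cfsg.centerThompsonAOf (S : Subgroup X) : Set X)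
      ≤ Subgroup.centralizer (((S : Subgroup X) ⊓
        Subgroup.centralizer ((S : Subgroup X) : Set X) : Subgroup X) : Set X) :=
    Subgroup.centralizer_le (center_le_centerThompsonAOf _)
  have hCnpc : Cfsg.HasNormalPComplement p
      ↥(Subgroup.centralizer (Cfsg.centerThompsonAOf (S : Subgroup X) : Set X)) :=
    npc_of_injective (Subgroup.inclusion hCM) (Subgroup.inclusion_injective hCM) hN2
  have hCp := isPGroup_of_normal_npc _ hD hCnpc
  have hCS : Subgroup.centralizer (Cfsg.centerThompsonAOf (S : Subgroup X) : Set X) ≤ S :=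
    (Cfsg.Agent.helper1.le_pCore hCn hCp).trans (Cfsg.Agent.helper1.pCore_le_sylow S)
  have hStop : (S : Subgroup X) = ⊤ := by
    rw [← htop]; exact (sup_eq_left.2 hCS).symm
  apply npc_of_isPGroup
  intro x
  obtain ⟨k, hk⟩ := S.isPGroup' ⟨x, by rw [hStop]; trivial⟩
  refine ⟨k, ?_⟩
  have := congrArg Subtype.val hk
  rwa [Subgroup.coe_pow, Subgroup.coe_one] at this

end final

end Cfsg.Agent.helper15.ThA
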