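import Mathlib
import Cfsg.Prelude.Def_LocalEven
import Cfsg.Prelude.Def_PLocal
import Cfsg.Agent.Lib_helper1_Core
import Cfsg.Agent.Lib_helper3_StabChief
import Cfsg.Agent.Lib_helper3_PStab
import Cfsg.Agent.Lib_helper14_Large2
import Cfsg.Agent.Lib_helper10_Tr8

/-! Generic reductions for `p`-stability statements: chief factors, minimal normal subgroups,
lifting `p`-local subgroups through surjections (helper3). -/

set_option autoImplicit false

namespace Cfsg.Agent.helper3

open Cfsg
open scoped commutatorElement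

section sylowsup

variable {Z : Type*} [Group Z] [Finite Z] {p : ℕ} [hp : Fact p.Prime]

/-- A Sylow `p`-subgroup covers every quotient that is a `p`-group. -/
theorem sylow_sup_eq_top (P : Sylow p Z) (C : Subgroup Z) [C.Normal] (h : IsPGroup p (Z ⧸ C)) :
    (P : Subgroup Z) ⊔ C = ⊤ := by
  rw [← Subgroup.index_eq_one]
  obtain ⟨j, hj⟩ := IsPGroup.iff_card.mp h
  have h1 : ((P : Subgroup Z) ⊔ C).index ∣ (P : Subgroup Z).index :=
    Subgroup.index_dvd_of_le le_sup_left
  have h2 : ((P : Subgroup Z) ⊔ C).index ∣ p ^ j := by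
    rw [← hj, ← Subgroup.index_eq_card]
    exact Subgroup.index_dvd_of_le le_sup_right
  have h3 : Nat.Coprime (P : Subgroup Z).index (p ^ j) := by
    apply Nat.Coprime.pow_right
    exact ((Nat.Prime.coprime_iff_not_dvd hp.out).mpr P.not_dvd_index).symm
  exact Nat.Coprime.eq_one_of_dvd (Nat.Coprime.coprime_dvd_left h1 h3) h2

end sylowsup

section minimal

variable {Z : Type*} [Group Z] [Finite Z] {p : ℕ} [hp : Fact p.Prime]

/-- `O_p(Z/C_Z(A))` is trivial for a minimal normal `p`-subgroup `A`. -/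
theorem mem_centralizer_of_mk_mem_pCore_of_minimal (A : Subgroup Z) [hAn : A.Normal]
    (hA : IsPGroup p A)
    (hmin : ∀ B : Subgroup Z, B.Normal → B ≤ A → B = ⊥ ∨ B = A) (z : Z)
    (hz : (QuotientGroup.mk z : Z ⧸ Subgroup.centralizer (A : Set Z)) ∈
      Cfsg.pCore p (Z ⧸ Subgroup.centralizer (A : Set Z))) :
    z ∈ Subgroup.centralizer (A : Set Z) := by
  set C := Subgroup.centralizer (A : Set Z) with hC
  by_cases hA1 : A = ⊥
  · rw [hC, hA1, Subgroup.mem_centralizer_iff]
    intro a ha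
    have ha1 : a = 1 := ha
    rw [ha1]; simp
  haveI hOn := Cfsg.Agent.helper1.pCore_normal (G := Z ⧸ C) p
  have hOp := Cfsg.Agent.helper1.pCore_isPGroup (G := Z ⧸ C) p
  set M : Subgroup Z := (Cfsg.pCore p (Z ⧸ C)).comap (QuotientGroup.mk' C) with hM
  haveI hMn : M.Normal := hOn.comap _
  have hzM : z ∈ M := hz
  have hCM : C ≤ M := by
    intro c hc
    show (QuotientGroup.mk' C) c ∈ Cfsg.pCore p (Z ⧸ C)
    have : (QuotientGroup.mk' C) c = 1 := (QuotientGroup.eq_one_iff c).mpr hc
    rw [this]; exact Subgroup.one_mem _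
  set F : Subgroup Z := A ⊓ Subgroup.centralizer (M : Set Z) with hF
  have hFn : F.Normal := inferInstance
  rcases hmin F hFn inf_le_left with h | h
  · exfalso
    -- a Sylow `p`-subgroup of `M`
    obtain ⟨P⟩ : Nonempty (Sylow p ↥M) := inferInstance
    set R : Subgroup Z := (P : Subgroup ↥M).map M.subtype with hR
    have hRp : IsPGroup p R := P.isPGroup'.map _
    have hne := Cfsg.Agent.helper14.inf_centralizer_ne_bot_of_le_normalizer A R hA hRp hA1
      (by rw [Subgroup.normalizer_eq_top_iff.mpr hAn]; exact le_top)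
    apply hne
    rw [eq_bot_iff, ← h, hF]
    refine le_inf inf_le_left ?_
    intro v hv
    have hvA : v ∈ A := hv.1
    have hvR := hv.2
    -- the quotient `M / (C ∩ M)` is a `p`-group
    have hquot : IsPGroup p (↥M ⧸ C.subgroupOf M) := by
      intro x
      obtain ⟨m, rfl⟩ := QuotientGroup.mk_surjective x
      obtain ⟨k, hk⟩ := hOp ⟨(QuotientGroup.mk' C) (m : Z), m.2⟩
      refine ⟨k, ?_⟩
      rw [← QuotientGroup.mk_pow, QuotientGroup.eq_one_iff, Subgroup.mem_subgroupOf]
      have hk' : ((QuotientGroup.mk' C) (m : Z)) ^ p ^ k = 1 := congrArg Subtype.val hk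
      rw [← map_pow] at hk'
      have := (QuotientGroup.eq_one_iff _).mp hk'
      simpa using this
    have htop := sylow_sup_eq_top P (C.subgroupOf M) hquot
    -- the elements of `M` commuting with `v`
    set D : Subgroup ↥M := (Subgroup.centralizer ({v} : Set Z)).subgroupOf M with hD
    have hPD : (P : Subgroup ↥M) ≤ D := by
      intro m hm
      rw [hD, Subgroup.mem_subgroupOf, Subgroup.mem_centralizer_iff]
      intro w hw
      rw [Set.mem_singleton_iff] at hw
      subst hw
      have : (m : Z) ∈ R := ⟨m, hm, rfl⟩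
      exact ((Subgroup.mem_centralizer_iff.mp hvR) _ this).symm
    have hCD : C.subgroupOf M ≤ D := by
      intro m hm
      rw [hD, Subgroup.mem_subgroupOf, Subgroup.mem_centralizer_iff]
      intro w hw
      rw [Set.mem_singleton_iff] at hw
      subst hw
      rw [Subgroup.mem_subgroupOf] at hm
      exact (Subgroup.mem_centralizer_iff.mp hm) _ hvA
    have hDtop : D = ⊤ := by
      rw [eq_top_iff, ← htop]; exact sup_le hPD hCD
    rw [Subgroup.mem_centralizer_iff]
    intro m hm
    have : (⟨m, hm⟩ : ↥M) ∈ D := by rw [hDtop]; trivial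
    rw [hD, Subgroup.mem_subgroupOf, Subgroup.mem_centralizer_iff] at this
    exact (this v rfl).symm
  · -- `A ≤ C(M)`
    have hAM : A ≤ Subgroup.centralizer (M : Set Z) := by
      rw [← h]; exact inf_le_right
    rw [hC, Subgroup.mem_centralizer_iff]
    intro a ha
    exact ((Subgroup.mem_centralizer_iff.mp (hAM ha)) z hzM).symm

end minimal

section lifting

variable {H X : Type*} [Group H] [Group X] [Finite H] {p : ℕ} [hp : Fact p.Prime]

/-- Lifting `p`-subgroups together with their normalizers through a surjection. -/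
theorem exists_lift_pSubgroup (f : H →* X) (hf : Function.Surjective f) (Q : Subgroup X)
    (hQ : IsPGroup p Q) :
    ∃ P : Subgroup H, IsPGroup p P ∧ P.map f = Q ∧
      (Subgroup.normalizer (P : Set H)).map f = Subgroup.normalizer (Q : Set X) := by
  set Qt : Subgroup H := Q.comap f with hQt
  set Z : Subgroup H := Subgroup.normalizer (Qt : Set H) with hZ
  have hQtZ : Qt ≤ Z := Subgroup.le_normalizer
  set Q' : Subgroup ↥Z := Qt.subgroupOf Z with hQ'
  haveI hQ'n : Q'.Normal := Subgroup.normal_in_normalizer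
  obtain ⟨P₂⟩ : Nonempty (Sylow p ↥Q') := inferInstance
  set P' : Subgroup ↥Z := (P₂ : Subgroup ↥Q').map Q'.subtype with hP'
  set P : Subgroup H := P'.map Z.subtype with hP
  have hP'p : IsPGroup p P' := P₂.isPGroup'.map _
  have hPp : IsPGroup p P := hP'p.map _
  have hP'Q' : P' ≤ Q' := by
    rintro _ ⟨y, _, rfl⟩; exact y.2
  have hfrat : Subgroup.normalizer (P' : Set ↥Z) ⊔ Q' = ⊤ := Sylow.normalizer_sup_eq_top P₂
  -- the kernel part inside `Q'`
  set κ : Subgroup ↥Q' := ((f.comp Z.subtype).comp Q'.subtype).ker with hκ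
  have hquot : IsPGroup p (↥Q' ⧸ κ) := by
    intro x
    obtain ⟨m, rfl⟩ := QuotientGroup.mk_surjective x
    have hm : f ((m : ↥Z) : H) ∈ Q := by
      have h0 : (m : ↥Z) ∈ Qt.subgroupOf Z := m.2
      rw [Subgroup.mem_subgroupOf] at h0
      exact h0
    obtain ⟨k, hk⟩ := hQ ⟨_, hm⟩
    refine ⟨k, ?_⟩
    rw [← QuotientGroup.mk_pow, QuotientGroup.eq_one_iff, hκ, MonoidHom.mem_ker]
    have hk' : (f ((m : ↥Z) : H)) ^ p ^ k = 1 := congrArg Subtype.val hk
    simpa using hk'
  have htop := sylow_sup_eq_top P₂ κ hquot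
  -- images
  have hPQ : P.map f = Q := by
    apply le_antisymm
    · rintro _ ⟨_, ⟨y, hy, rfl⟩, rfl⟩
      have := hP'Q' hy
      rw [hQ', Subgroup.mem_subgroupOf] at this
      exact this
    · intro q hq
      obtain ⟨h, rfl⟩ := hf q
      have hhQt : h ∈ Qt := hq
      have hmem : (⟨⟨h, hQtZ hhQt⟩, by rw [hQ', Subgroup.mem_subgroupOf]; exact hhQt⟩ : ↥Q') ∈
          (P₂ : Subgroup ↥Q') ⊔ κ := by rw [htop]; trivial
      obtain ⟨y, hy, k, hk, hyk⟩ := Subgroup.mem_sup_of_normal_right.mp hmem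
      refine ⟨((y : ↥Z) : H), ⟨(y : ↥Z), ⟨y, hy, rfl⟩, rfl⟩, ?_⟩
      have h1 : f (((y * k : ↥Q') : ↥Z) : H) = f h := by rw [hyk]
      have h2 : f (((k : ↥Q') : ↥Z) : H) = 1 := hk
      simp only [Subgroup.coe_mul, map_mul, h2, mul_one] at h1
      exact h1
  refine ⟨P, hPp, hPQ, ?_⟩
  apply le_antisymm
  · rw [← hPQ]; exact Subgroup.le_normalizer_map f
  · intro x hx
    obtain ⟨h, rfl⟩ := hf x
    have hhZ : h ∈ Z := by
      rw [hZ, hQt, ← Subgroup.comap_normalizer_eq_of_surjective Q hf]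
      exact hx
    have hmem : (⟨h, hhZ⟩ : ↥Z) ∈ Subgroup.normalizer (P' : Set ↥Z) ⊔ Q' := by
      rw [hfrat]; trivial
    obtain ⟨n, hn, q, hq, hnq⟩ := Subgroup.mem_sup_of_normal_right.mp hmem
    have hfq : f ((q : ↥Z) : H) ∈ P.map f := by
      rw [hPQ]
      rw [hQ', Subgroup.mem_subgroupOf] at hq
      exact hq
    obtain ⟨_, ⟨u, hu, rfl⟩, hfu⟩ := hfq
    have hnu : n * u ∈ Subgroup.normalizer (P' : Set ↥Z) :=
      Subgroup.mul_mem _ hn (Subgroup.le_normalizer hu)
    refine ⟨((n * u : ↥Z) : H), ?_, ?_⟩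
    · exact Subgroup.le_normalizer_map Z.subtype ⟨n * u, hnu, rfl⟩
    · have h1 : ((n * q : ↥Z) : H) = h := by rw [hnq]
      simp only [Subgroup.coe_mul, map_mul] at h1 ⊢
      have hfu' : f ((u : ↥Z) : H) = f ((q : ↥Z) : H) := hfu
      rw [hfu', ← map_mul, h1]

end lifting

end Cfsg.Agent.helper3
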