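import Mathlib
import Cfsg.Prelude.Def_LocalEven
import Cfsg.Prelude.Def_PLocal
import Cfsg.Agent.Lib_helper3_QdA
import Cfsg.Agent.Lib_helper4_RedG

/-! `p`-stability from elementary abelian `p`-stability in all quotients (helper3). -/

set_option autoImplicit false

namespace Cfsg.Agent.helper3

open Cfsg
open scoped commutatorElement

section generic

universe u

variable {Y : Type u} [Group Y] [Finite Y] {p : ℕ} [hp : Fact p.Prime]

/-- If quadratic action on normal elementary abelian `p`-subgroups of quotients of `Y` is always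
`p`-stable, then an element acting quadratically on a normal `p`-subgroup `V` centralizes every
chief factor below `V`. -/
theorem mem_chiefStab_of_quadratic_of_ea (V : Subgroup Y) [hVn : V.Normal] (hV : IsPGroup p ↥V)
    (g : Y) (hq : ⁅⁅V, Subgroup.zpowers g⁆, Subgroup.zpowers g⁆ = ⊥)
    (hea : ∀ (W : Subgroup Y) [W.Normal] (A : Subgroup (Y ⧸ W)) [A.Normal],
      Cfsg.IsElementaryAbelian p A →
      ⁅⁅A, Subgroup.zpowers (QuotientGroup.mk' W g)⁆, Subgroup.zpowers (QuotientGroup.mk' W g)⁆ = ⊥ →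
      (QuotientGroup.mk (QuotientGroup.mk' W g) :
        (Y ⧸ W) ⧸ Subgroup.centralizer (A : Set (Y ⧸ W))) ∈
        Cfsg.pCore p ((Y ⧸ W) ⧸ Subgroup.centralizer (A : Set (Y ⧸ W)))) :
    g ∈ chiefStab V := by
  intro U W hUW hUV u hu
  have hUn : U.Normal := hUW.2.1
  haveI hWn : W.Normal := hUW.2.2.1
  set A : Subgroup (Y ⧸ W) := U.map (QuotientGroup.mk' W) with hA
  haveI hAn : A.Normal := hUn.map _ (QuotientGroup.mk'_surjective W)
  haveI hAc : IsMulCommutative ↥(U.map (QuotientGroup.mk' W)) :=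
    Cfsg.Agent.helper10.chief_isMulCommutative U W V hV hUW hUV
  have hexp := Cfsg.Agent.helper10.chief_nsmul_eq_zero U W V hV hUW hUV
  have hAea : Cfsg.IsElementaryAbelian p A := by
    refine ⟨hAc, ?_⟩
    intro a ha
    have h1 := hexp (Additive.ofMul ⟨a, ha⟩)
    have h2 : (⟨a, ha⟩ : ↥(U.map (QuotientGroup.mk' W))) ^ p = 1 := h1
    exact congrArg Subtype.val h2
  have hAp : IsPGroup p ↥A := (hV.to_le hUV).map _
  have hq' : ⁅⁅A, Subgroup.zpowers (QuotientGroup.mk' W g)⁆,
      Subgroup.zpowers (QuotientGroup.mk' W g)⁆ = ⊥ := by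
    rw [hA, ← MonoidHom.map_zpowers, ← Subgroup.map_commutator, ← Subgroup.map_commutator,
      eq_bot_iff]
    have : ⁅⁅U, Subgroup.zpowers g⁆, Subgroup.zpowers g⁆ ≤ ⊥ := by
      rw [← hq]
      exact Subgroup.commutator_mono (Subgroup.commutator_mono hUV le_rfl) le_rfl
    calc Subgroup.map (QuotientGroup.mk' W) ⁅⁅U, Subgroup.zpowers g⁆, Subgroup.zpowers g⁆
        ≤ Subgroup.map (QuotientGroup.mk' W) ⊥ := Subgroup.map_mono this
      _ = ⊥ := Subgroup.map_bot _
  have h1 := hea W A hAea hq'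
  -- minimality of `A`
  have hmin : ∀ B : Subgroup (Y ⧸ W), B.Normal → B ≤ A → B = ⊥ ∨ B = A := by
    intro B hBn hBA
    have hcn : (B.comap (QuotientGroup.mk' W)).Normal := hBn.comap _
    have hWc : W ≤ B.comap (QuotientGroup.mk' W) := by
      intro w hw
      rw [Subgroup.mem_comap]
      have : (QuotientGroup.mk' W) w = 1 := (QuotientGroup.eq_one_iff w).mpr hw
      rw [this]; exact B.one_mem
    have hcU : B.comap (QuotientGroup.mk' W) ≤ U := by
      intro x hx
      rw [Subgroup.mem_comap] at hx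
      obtain ⟨u', hu', hux⟩ := hBA hx
      have h2 : u'⁻¹ * x ∈ W := by
        rw [← QuotientGroup.eq]
        exact hux
      have h3 : x = u' * (u'⁻¹ * x) := by group
      rw [h3]
      exact U.mul_mem hu' (hUW.1.le h2)
    rcases hUW.2.2.2 _ hcn hWc hcU with h | h
    · left
      rw [eq_bot_iff]
      intro b hb
      obtain ⟨y, rfl⟩ := QuotientGroup.mk'_surjective W b
      have : y ∈ B.comap (QuotientGroup.mk' W) := hb
      rw [h] at this
      rw [Subgroup.mem_bot]
      exact (QuotientGroup.eq_one_iff y).mpr this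
    · right
      apply le_antisymm hBA
      rintro _ ⟨u', hu', rfl⟩
      have : u' ∈ B.comap (QuotientGroup.mk' W) := by rw [h]; exact hu'
      exact this
  have h2 := mem_centralizer_of_mk_mem_pCore_of_minimal A hAp hmin _ h1
  rw [Subgroup.mem_centralizer_iff] at h2
  have h3 := h2 _ (Subgroup.mem_map_of_mem (QuotientGroup.mk' W) hu)
  have h4 : (QuotientGroup.mk' W) (g * u * g⁻¹ * u⁻¹) = 1 := by
    rw [map_mul, map_mul, map_mul, map_inv, map_inv, ← h3]
    group
  exact (QuotientGroup.eq_one_iff _).mp h4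

/-- Elements of the chief stabilizer have image in `O_p(Y/C_Y(V))`. -/
theorem mk_mem_pCore_of_mem_chiefStab (V : Subgroup Y) [hVn : V.Normal] (hV : IsPGroup p ↥V)
    (g : Y) (hg : g ∈ chiefStab V) :
    (QuotientGroup.mk g : Y ⧸ Subgroup.centralizer (V : Set Y)) ∈
      Cfsg.pCore p (Y ⧸ Subgroup.centralizer (V : Set Y)) := by
  have hn : ((chiefStab V).map (QuotientGroup.mk' (Subgroup.centralizer (V : Set Y)))).Normal :=
    Subgroup.Normal.map inferInstance _ (QuotientGroup.mk'_surjective _)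
  exact Cfsg.Agent.helper1.le_pCore hn (chiefStab_map_isPGroup V hV) ⟨g, hg, rfl⟩

end generic

section normalizerform

universe u

variable {X : Type u} [Group X] [Finite X] {p : ℕ} [hp : Fact p.Prime]

/-- The normalizer form from membership in the chief stabilizer computed inside `N_X(Q)`. -/
theorem mk_mem_pCore_normalizer_of_mem_chiefStab (Q : Subgroup X) (hQ : IsPGroup p ↥Q) (g : X)
    (hg : g ∈ Subgroup.normalizer (Q : Set X))
    (hmem : (⟨g, hg⟩ : ↥(Subgroup.normalizer (Q : Set X))) ∈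
      chiefStab (Q.subgroupOf (Subgroup.normalizer (Q : Set X)))) :
    (QuotientGroup.mk (s := (Subgroup.centralizer (Q : Set X)).subgroupOf
        (Subgroup.normalizer (Q : Set X)))
      (⟨g, hg⟩ : ↥(Subgroup.normalizer (Q : Set X)))) ∈
      Cfsg.pCore p (↥(Subgroup.normalizer (Q : Set X)) ⧸
        (Subgroup.centralizer (Q : Set X)).subgroupOf (Subgroup.normalizer (Q : Set X))) := by
  set N := Subgroup.normalizer (Q : Set X) with hNdef
  have hQN : Q ≤ N := Subgroup.le_normalizer
  haveI hQ'n : (Q.subgroupOf N).Normal := Subgroup.normal_in_normalizer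
  have hQ' : IsPGroup p ↥(Q.subgroupOf N) := by
    rw [← Subgroup.comap_subtype]; exact hQ.comap_subtype
  have hC : (Subgroup.centralizer (Q : Set X)).subgroupOf N =
      (QuotientGroup.mk' (Subgroup.centralizer ((Q.subgroupOf N : Subgroup ↥N) : Set ↥N))).ker := by
    rw [QuotientGroup.ker_mk']
    ext ⟨n, hn⟩
    rw [Subgroup.mem_subgroupOf, Subgroup.mem_centralizer_iff, Subgroup.mem_centralizer_iff]
    constructor
    · rintro h1 ⟨q, hqN⟩ hq2
      apply Subtype.ext
      exact h1 q (Subgroup.mem_subgroupOf.1 hq2)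
    · intro h1 q hq2
      have := h1 ⟨q, hQN hq2⟩ (Subgroup.mem_subgroupOf.2 hq2)
      exact congrArg Subtype.val this
  have hmapn : ((chiefStab (Q.subgroupOf N)).map (QuotientGroup.mk'
      (Subgroup.centralizer ((Q.subgroupOf N : Subgroup ↥N) : Set ↥N)))).Normal :=
    Subgroup.Normal.map inferInstance _ (QuotientGroup.mk'_surjective _)
  have h1 := Cfsg.Agent.helper1.le_pCore hmapn (chiefStab_map_isPGroup (Q.subgroupOf N) hQ')
  have h2 := map_le_pCore_of_factor_inj p ((Subgroup.centralizer (Q : Set X)).subgroupOf N)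
    (QuotientGroup.mk' (Subgroup.centralizer ((Q.subgroupOf N : Subgroup ↥N) : Set ↥N)))
    (QuotientGroup.mk'_surjective _) hC (chiefStab (Q.subgroupOf N)) h1
  exact h2 ⟨⟨g, hg⟩, hmem, rfl⟩

/-- Quadratic action on `Q` inside the normalizer. -/
theorem quadratic_subgroupOf_normalizer (Q : Subgroup X) (g : X)
    (hg : g ∈ Subgroup.normalizer (Q : Set X))
    (hq : ⁅⁅Q, Subgroup.zpowers g⁆, Subgroup.zpowers g⁆ = ⊥) :
    ⁅⁅Q.subgroupOf (Subgroup.normalizer (Q : Set X)),
      Subgroup.zpowers (⟨g, hg⟩ : ↥(Subgroup.normalizer (Q : Set X)))⁆,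
      Subgroup.zpowers (⟨g, hg⟩ : ↥(Subgroup.normalizer (Q : Set X)))⁆ = ⊥ := by
  set N := Subgroup.normalizer (Q : Set X) with hNdef
  have hQN : Q ≤ N := Subgroup.le_normalizer
  apply (Subgroup.map_eq_bot_iff_of_injective _ N.subtype_injective).mp
  rw [Subgroup.map_commutator, Subgroup.map_commutator, Subgroup.map_subgroupOf_eq_of_le hQN,
    MonoidHom.map_zpowers]
  exact hq

end normalizerform

section sl2

open Cfsg.Agent.helper4.Red

universe u

variable {Y : Type u} [Group Y] [Finite Y] {p : ℕ} [hp : Fact p.Prime]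

/-- No section `SL₂(p)`: quadratic elements centralize the chief factors. -/
theorem mem_chiefStab_of_quadratic_of_not_hasSec (hp2 : p ≠ 2) (hno : ¬ HasSec p Y)
    (V : Subgroup Y) [hVn : V.Normal] (hV : IsPGroup p ↥V)
    (g : Y) (hq : ⁅⁅V, Subgroup.zpowers g⁆, Subgroup.zpowers g⁆ = ⊥) : g ∈ chiefStab V := by
  apply mem_chiefStab_of_quadratic_of_ea V hV g hq
  intro W _ A _ hA hqA
  have hno' : ¬ HasSec p (Y ⧸ W) :=
    fun h => hno (h.of_surjective (QuotientGroup.mk' W) (QuotientGroup.mk'_surjective W))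
  exact isPStableOn_of_not_hasSec hp2 hno' A hA _ hqA

end sl2

end Cfsg.Agent.helper3
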