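import Mathlib
import Cfsg.Agent.Lib_helper4_RedB

/-! Quadratic pairs: an invariant plane over the prime field on which two elements act as the
standard generators of `SL₂(p)` (helper3). -/

set_option autoImplicit false
set_option linter.unusedSectionVars false

namespace Cfsg.Agent.helper3

open Matrix Cfsg.Agent.helper4.Dk Cfsg.Agent.helper4.Red

universe u v w

section fixed

variable {K : Type u} [Field K] {W : Type v} [AddCommGroup W] [Module K W]

/-- a common fixed vector when `NM + MN` is nilpotent -/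
theorem exists_common_kernel (N M : Module.End K W) (hNN : N * N = 0) (hMM : M * M = 0)
    (hnil : IsNilpotent (N * M + M * N)) [Nontrivial W] :
    ∃ w : W, w ≠ 0 ∧ N w = 0 ∧ M w = 0 := by
  set c := N * M + M * N with hc
  have hNN' : ∀ w, N (N w) = 0 := fun w => by
    have := congrArg (fun f => f w) hNN
    simpa using this
  have hMM' : ∀ w, M (M w) = 0 := fun w => by
    have := congrArg (fun f => f w) hMM
    simpa using this
  have hcapp : ∀ w, c w = N (M w) + M (N w) := fun w => by rw [hc]; simp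
  have hNc : ∀ w, N (c w) = c (N w) := by
    intro w
    rw [hcapp, hcapp, map_add, hNN', hNN', map_zero, zero_add, add_zero]
  -- a nonzero vector in `ker N`
  obtain ⟨w₀, hw₀, hNw₀⟩ : ∃ w₀ : W, w₀ ≠ 0 ∧ N w₀ = 0 := by
    obtain ⟨w, hw⟩ := exists_ne (0 : W)
    by_cases h : N w = 0
    · exact ⟨w, hw, h⟩
    · exact ⟨N w, h, hNN' w⟩
  obtain ⟨m, hm⟩ := hnil
  have hNiter : ∀ j : ℕ, N ((c ^ j) w₀) = 0 := by
    intro j
    induction j with
    | zero => simpa using hNw₀
    | succ j ih =>
      rw [pow_succ', Module.End.mul_apply, hNc, ih, map_zero]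
  have hex : ∃ j : ℕ, (c ^ j) w₀ = 0 := ⟨m, by rw [hm]; rfl⟩
  classical
  set j := Nat.find hex with hj
  have hj0 : j ≠ 0 := by
    intro h0
    have := Nat.find_spec hex
    rw [← hj, h0, pow_zero] at this
    exact hw₀ this
  obtain ⟨i, hi⟩ := Nat.exists_eq_succ_of_ne_zero hj0
  set w₁ := (c ^ i) w₀ with hw₁
  have hw₁0 : w₁ ≠ 0 := by
    intro h
    have := Nat.find_min hex (m := i) (by rw [← hj, hi]; exact Nat.lt_succ_self i)
    exact this h
  have hcw₁ : c w₁ = 0 := by
    have := Nat.find_spec hex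
    rw [← hj, hi, pow_succ', Module.End.mul_apply] at this
    exact this
  have hNw₁ : N w₁ = 0 := hNiter i
  have hNMw₁ : N (M w₁) = 0 := by
    have := hcapp w₁
    rw [hcw₁, hNw₁, map_zero, add_zero] at this
    exact this.symm
  by_cases hM : M w₁ = 0
  · exact ⟨w₁, hw₁0, hNw₁, hM⟩
  · exact ⟨M w₁, hM, hNMw₁, hMM' w₁⟩

end fixed

section unip

variable {K : Type u} [Field K] {Γ : Type w} [Group Γ]

/-- if `NM + MN` is nilpotent, the group acts unipotently -/
theorem unipotent_of_nilpotent {p : ℕ} (hp : (p : K) = 0) {a b : Γ}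
    (hgen : Subgroup.closure {a, b} = ⊤) :
    ∀ (n : ℕ) (W : Type v) [AddCommGroup W] [Module K W] [FiniteDimensional K W]
      (ρ : Γ →* Module.End K W), Module.finrank K W = n →
      (ρ a - 1) * (ρ a - 1) = 0 → (ρ b - 1) * (ρ b - 1) = 0 →
      IsNilpotent ((ρ a - 1) * (ρ b - 1) + (ρ b - 1) * (ρ a - 1)) →
      ∀ g : Γ, ∃ k : ℕ, ρ (g ^ p ^ k) = 1 := by
  intro n
  induction n using Nat.strong_induction_on with
  | _ n ih =>
    intro W _ _ _ ρ hn ha2 hb2 hnil g
    by_cases hW : Subsingleton W
    · refine ⟨0, ?_⟩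
      ext x
      exact Subsingleton.elim _ _
    rw [not_subsingleton_iff_nontrivial] at hW
    obtain ⟨w, hw0, hNw, hMw⟩ := exists_common_kernel (ρ a - 1) (ρ b - 1) ha2 hb2 hnil
    set U : Submodule K W := Submodule.span K {w} with hU
    have hUinv : IsInv ρ U := by
      apply isInv_of_gens ρ hgen ha2 hb2
      · intro x hx
        obtain ⟨β, rfl⟩ := Submodule.mem_span_singleton.mp hx
        rw [map_smul, hNw, smul_zero]; exact Submodule.zero_mem _
      · intro x hx
        obtain ⟨β, rfl⟩ := Submodule.mem_span_singleton.mp hx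
        rw [map_smul, hMw, smul_zero]; exact Submodule.zero_mem _
    have hsub : ∀ g : Γ, subRep ρ U hUinv g = 1 := by
      apply rho_eq_one_of_gens (subRep ρ U hUinv) hgen
      · ext ⟨x, hx⟩
        obtain ⟨β, rfl⟩ := Submodule.mem_span_singleton.mp hx
        have h1 : (ρ a - 1) (β • w) = 0 := by rw [map_smul, hNw, smul_zero]
        have h2 : ρ a (β • w) = β • w := by
          rw [LinearMap.sub_apply, Module.End.one_apply, sub_eq_zero] at h1
          exact h1
        simp [h2]
      · ext ⟨x, hx⟩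
        obtain ⟨β, rfl⟩ := Submodule.mem_span_singleton.mp hx
        have h1 : (ρ b - 1) (β • w) = 0 := by rw [map_smul, hMw, smul_zero]
        have h2 : ρ b (β • w) = β • w := by
          rw [LinearMap.sub_apply, Module.End.one_apply, sub_eq_zero] at h1
          exact h1
        simp [h2]
    have h1 : ∀ g : Γ, ∃ k : ℕ, subRep ρ U hUinv (g ^ p ^ k) = 1 := fun g => ⟨0, hsub _⟩
    have hlt : Module.finrank K (W ⧸ U) < n := by
      rw [← hn]
      have h3 := Submodule.finrank_quotient_add_finrank U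
      have h4 : 0 < Module.finrank K U := by
        rw [Module.finrank_pos_iff]
        refine (Submodule.nontrivial_iff_ne_bot).mpr ?_
        intro hbot
        have : w ∈ U := Submodule.subset_span (by simp)
        rw [hbot] at this
        exact hw0 this
      omega
    have hqnil : IsNilpotent ((quotRep ρ U hUinv a - 1) * (quotRep ρ U hUinv b - 1) +
        (quotRep ρ U hUinv b - 1) * (quotRep ρ U hUinv a - 1)) := by
      obtain ⟨m, hm⟩ := hnil
      refine ⟨m, ?_⟩
      set c := (ρ a - 1) * (ρ b - 1) + (ρ b - 1) * (ρ a - 1) with hc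
      set cq := (quotRep ρ U hUinv a - 1) * (quotRep ρ U hUinv b - 1) +
        (quotRep ρ U hUinv b - 1) * (quotRep ρ U hUinv a - 1) with hcq
      have hstep : ∀ x : W, cq (Submodule.Quotient.mk x) = Submodule.Quotient.mk (c x) := by
        intro x
        rw [hcq, hc]
        simp only [LinearMap.add_apply, Module.End.mul_apply, LinearMap.sub_apply,
          Module.End.one_apply, quotRep_apply, map_sub, map_add,
          ← Submodule.Quotient.mk_sub, ← Submodule.Quotient.mk_add]
        congr 1
        abel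
      have hpow : ∀ (i : ℕ) (x : W), (cq ^ i) (Submodule.Quotient.mk x) =
          Submodule.Quotient.mk ((c ^ i) x) := by
        intro i
        induction i with
        | zero => intro x; simp
        | succ i ih2 =>
          intro x
          rw [pow_succ, Module.End.mul_apply, hstep, ih2, pow_succ, Module.End.mul_apply]
      apply Submodule.linearMap_qext
      ext x
      simp only [LinearMap.comp_apply, Submodule.mkQ_apply, LinearMap.zero_apply]
      rw [hpow, hm]
      simp
    have h2 : ∀ g : Γ, ∃ k : ℕ, quotRep ρ U hUinv (g ^ p ^ k) = 1 :=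
      ih _ hlt (W ⧸ U) (quotRep ρ U hUinv) rfl (quotRep_sq_zero ρ U hUinv a ha2)
        (quotRep_sq_zero ρ U hUinv b hb2) hqnil
    exact exists_pow_of_sub_quot hp ρ U hUinv h1 h2 g

end unip

section eigen

variable {K : Type u} [Field K] [IsAlgClosed K] {W : Type v} [AddCommGroup W] [Module K W]
  [FiniteDimensional K W]

/-- a non-nilpotent endomorphism has a nonzero eigenvalue -/
theorem exists_eigen_ne_zero (c : Module.End K W) (hc : ¬ IsNilpotent c) :
    ∃ μ : K, μ ≠ 0 ∧ ∃ w : W, w ≠ 0 ∧ c w = μ • w := by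
  have hint : IsIntegral K c := Algebra.IsIntegral.isIntegral c
  have hq0 : minpoly K c ≠ 0 := minpoly.ne_zero hint
  obtain ⟨r, hqr, hr⟩ :=
    Polynomial.exists_eq_pow_rootMultiplicity_mul_and_not_dvd (minpoly K c) hq0 0
  set j := Polynomial.rootMultiplicity 0 (minpoly K c) with hj
  rw [Polynomial.C_0, sub_zero] at hqr hr
  have hr0 : r ≠ 0 := by
    rintro rfl
    rw [mul_zero] at hqr
    exact hq0 hqr
  have hdeg : r.degree ≠ 0 := by
    intro hd
    obtain ⟨r₀, hr₀⟩ : ∃ r₀ : K, r = Polynomial.C r₀ := ⟨_, Polynomial.eq_C_of_degree_eq_zero hd⟩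
    have hr₀0 : r₀ ≠ 0 := by
      rintro rfl
      rw [Polynomial.C_0] at hr₀
      exact hr0 hr₀
    apply hc
    refine ⟨j, ?_⟩
    have h1 := minpoly.aeval K c
    rw [hqr, hr₀, map_mul, map_pow, Polynomial.aeval_X, Polynomial.aeval_C] at h1
    have h2 : c ^ j * (algebraMap K (Module.End K W) r₀) *
        (algebraMap K (Module.End K W) r₀⁻¹) = 0 := by rw [h1, zero_mul]
    rw [mul_assoc, ← map_mul, mul_inv_cancel₀ hr₀0, map_one, mul_one] at h2
    exact h2
  obtain ⟨μ, hμ⟩ := IsAlgClosed.exists_root r hdeg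
  have hμ0 : μ ≠ 0 := by
    rintro rfl
    apply hr
    have := Polynomial.dvd_iff_isRoot.mpr hμ
    rwa [Polynomial.C_0, sub_zero] at this
  have hroot : (minpoly K c).IsRoot μ := by
    rw [hqr]
    exact Polynomial.root_mul_left_of_isRoot _ hμ
  have hev := Module.End.hasEigenvalue_of_isRoot hroot
  obtain ⟨w, hw⟩ := hev.exists_hasEigenvector
  exact ⟨μ, hμ0, w, hw.2, hw.apply_eq_smul⟩

end eigen

section intertwine

variable {R : Type u} [CommRing R] {Γ : Type w} [Group Γ] {W : Type v} [AddCommGroup W] [Module R W]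

/-- a matrix representation from an invariant plane with a chosen frame -/
theorem exists_hom_of_intertwine (ρ : Γ →* Module.End R W) (E : (Fin 2 → R) →ₗ[R] W)
    (hE : Function.Injective E) (S : Set Γ) (hgen : Subgroup.closure S = ⊤)
    (hS : ∀ s ∈ S, ∃ A : SpecialLinearGroup (Fin 2) R, ∀ t : Fin 2 → R,
      ρ s (E t) = E ((A : Matrix (Fin 2) (Fin 2) R) *ᵥ t)) :
    ∃ φ : Γ →* SpecialLinearGroup (Fin 2) R, ∀ (g : Γ) (t : Fin 2 → R),
      ρ g (E t) = E ((φ g : Matrix (Fin 2) (Fin 2) R) *ᵥ t) := by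
  have hall : ∀ g : Γ, ∃ A : SpecialLinearGroup (Fin 2) R, ∀ t : Fin 2 → R,
      ρ g (E t) = E ((A : Matrix (Fin 2) (Fin 2) R) *ᵥ t) := by
    intro g
    have hg : g ∈ Subgroup.closure S := by rw [hgen]; trivial
    induction hg using Subgroup.closure_induction with
    | mem x hx => exact hS x hx
    | one => exact ⟨1, fun t => by simp⟩
    | mul x y _ _ hx hy =>
      obtain ⟨A, hA⟩ := hx
      obtain ⟨B, hB⟩ := hy
      refine ⟨A * B, fun t => ?_⟩
      rw [map_mul, Module.End.mul_apply, hB, hA, Matrix.SpecialLinearGroup.coe_mul, Matrix.mulVec_mulVec]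
    | inv x _ hx =>
      obtain ⟨A, hA⟩ := hx
      refine ⟨A⁻¹, fun t => ?_⟩
      have h1 := hA ((A⁻¹ : SpecialLinearGroup (Fin 2) R) *ᵥ t)
      rw [Matrix.mulVec_mulVec, ← Matrix.SpecialLinearGroup.coe_mul, mul_inv_cancel,
        Matrix.SpecialLinearGroup.coe_one, Matrix.one_mulVec] at h1
      rw [← h1, ← Module.End.mul_apply, ← map_mul, inv_mul_cancel, map_one, Module.End.one_apply]
  choose φ hφ using hall
  have hinj : ∀ A B : SpecialLinearGroup (Fin 2) R,
      (∀ t : Fin 2 → R, E ((A : Matrix (Fin 2) (Fin 2) R) *ᵥ t) =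
        E ((B : Matrix (Fin 2) (Fin 2) R) *ᵥ t)) → A = B := by
    intro A B h
    apply Subtype.ext
    apply Matrix.toLin'.injective
    apply LinearMap.ext
    intro t
    rw [Matrix.toLin'_apply, Matrix.toLin'_apply]
    exact hE (h t)
  refine ⟨{ toFun := φ, map_one' := ?_, map_mul' := ?_ }, hφ⟩
  · apply hinj
    intro t
    rw [← hφ]; simp
  · intro g h
    apply hinj
    intro t
    rw [← hφ, map_mul, Module.End.mul_apply, hφ h, hφ g, Matrix.SpecialLinearGroup.coe_mul,
      Matrix.mulVec_mulVec]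

end intertwine

end Cfsg.Agent.helper3
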