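import Mathlib
import Cfsg.Agent.Lib_helper3_QdC

/-! Quadratic pairs: the invariant plane over the prime field (helper3). -/

set_option autoImplicit false
set_option linter.unusedSectionVars false

namespace Cfsg.Agent.helper3

open Matrix Cfsg.Agent.helper4.Dk Cfsg.Agent.helper4.Red

universe u v w

section mv

variable {K : Type u} [Field K]

theorem uS_mulVec (s : K) (t : Fin 2 → K) :
    ((uS s : SpecialLinearGroup (Fin 2) K) : Matrix (Fin 2) (Fin 2) K) *ᵥ t =
      ![t 0 + s * t 1, t 1] := by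
  ext i
  fin_cases i <;> simp [Matrix.mulVec, dotProduct, Fin.sum_univ_two, uS]

theorem lS_mulVec (s : K) (t : Fin 2 → K) :
    ((lS s : SpecialLinearGroup (Fin 2) K) : Matrix (Fin 2) (Fin 2) K) *ᵥ t =
      ![t 0, s * t 0 + t 1] := by
  ext i
  fin_cases i <;> simp [Matrix.mulVec, dotProduct, Fin.sum_univ_two, lS]

end mv

section frame

variable {K : Type u} [Field K] [IsAlgClosed K] {Γ : Type w} [Group Γ]
  {W : Type v} [AddCommGroup W] [Module K W] [FiniteDimensional K W]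

/-- the frame map -/
noncomputable def frameMap (e₁ e₂ : W) : (Fin 2 → K) →ₗ[K] W :=
  (LinearMap.proj 0 : (Fin 2 → K) →ₗ[K] K).smulRight e₁ +
    (LinearMap.proj 1 : (Fin 2 → K) →ₗ[K] K).smulRight e₂

omit [IsAlgClosed K] [FiniteDimensional K W] in
theorem frameMap_apply (e₁ e₂ : W) (t : Fin 2 → K) :
    frameMap e₁ e₂ t = t 0 • e₁ + t 1 • e₂ := by
  simp [frameMap]

/-- a non-unipotent quadratic pair has an invariant plane on which the generators act as
`uS μ`, `lS 1` -/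
theorem exists_frame {p : ℕ} (hp : (p : K) = 0) {a b : Γ}
    (hgen : Subgroup.closure {a, b} = ⊤) (ρ : Γ →* Module.End K W)
    (ha2 : (ρ a - 1) * (ρ a - 1) = 0) (hb2 : (ρ b - 1) * (ρ b - 1) = 0)
    (hnu : ∃ g : Γ, ∀ k : ℕ, ρ (g ^ p ^ k) ≠ 1) :
    ∃ (E : (Fin 2 → K) →ₗ[K] W) (μ : K), Function.Injective E ∧ μ ≠ 0 ∧
      (∀ t, ρ a (E t) = E (((uS μ : SpecialLinearGroup (Fin 2) K) :
        Matrix (Fin 2) (Fin 2) K) *ᵥ t)) ∧
      (∀ t, ρ b (E t) = E (((lS 1 : SpecialLinearGroup (Fin 2) K) :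
        Matrix (Fin 2) (Fin 2) K) *ᵥ t)) := by
  set N := ρ a - 1 with hN
  set M := ρ b - 1 with hM
  set c := N * M + M * N with hc
  have hnil : ¬ IsNilpotent c := by
    intro h
    obtain ⟨g, hg⟩ := hnu
    obtain ⟨k, hk⟩ := unipotent_of_nilpotent hp hgen _ W ρ rfl ha2 hb2 h g
    exact hg k hk
  obtain ⟨μ, hμ0, w, hw0, hcw⟩ := exists_eigen_ne_zero c hnil
  have hNN' : ∀ x, N (N x) = 0 := fun x => by
    have := congrArg (fun f => f x) ha2
    simpa using this
  have hMM' : ∀ x, M (M x) = 0 := fun x => by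
    have := congrArg (fun f => f x) hb2
    simpa using this
  have hcapp : ∀ x, c x = N (M x) + M (N x) := fun x => by rw [hc]; simp
  have hNc : ∀ x, N (c x) = c (N x) := by
    intro x
    rw [hcapp, hcapp, map_add, hNN', hNN', map_zero, zero_add, add_zero]
  obtain ⟨e₁, he₁0, hNe₁, hce₁⟩ : ∃ e₁ : W, e₁ ≠ 0 ∧ N e₁ = 0 ∧ c e₁ = μ • e₁ := by
    by_cases h : N w = 0
    · exact ⟨w, hw0, h, hcw⟩
    · refine ⟨N w, h, hNN' w, ?_⟩
      rw [← hNc, hcw, map_smul]
  set e₂ := M e₁ with he₂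
  have hNe₂ : N e₂ = μ • e₁ := by
    have := hcapp e₁
    rw [hce₁, hNe₁, map_zero, add_zero] at this
    exact this.symm
  have hMe₂ : M e₂ = 0 := hMM' e₁
  have hρa : ∀ x, ρ a x = x + N x := fun x => by rw [hN]; simp
  have hρb : ∀ x, ρ b x = x + M x := fun x => by rw [hM]; simp
  refine ⟨frameMap e₁ e₂, μ, ?_, hμ0, ?_, ?_⟩
  · rw [injective_iff_map_eq_zero]
    intro t ht
    rw [frameMap_apply] at ht
    have h1 := congrArg N ht
    rw [map_add, map_smul, map_smul, hNe₁, hNe₂, smul_zero, zero_add, map_zero, smul_smul] at h1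
    have ht1 : t 1 = 0 := by
      rcases smul_eq_zero.mp h1 with h | h
      · rcases mul_eq_zero.mp h with h' | h'
        · exact h'
        · exact absurd h' hμ0
      · exact absurd h he₁0
    rw [ht1, zero_smul, add_zero] at ht
    have ht0 : t 0 = 0 := by
      rcases smul_eq_zero.mp ht with h | h
      · exact h
      · exact absurd h he₁0
    ext i
    fin_cases i
    · exact ht0
    · exact ht1
  · intro t
    rw [uS_mulVec, frameMap_apply, frameMap_apply, hρa, map_add, map_smul, map_smul, hNe₁, hNe₂]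
    simp only [Matrix.cons_val_zero, Matrix.cons_val_one]
    rw [smul_zero, zero_add, add_smul, smul_smul, mul_comm μ (t 1)]
    abel
  · intro t
    rw [lS_mulVec, frameMap_apply, frameMap_apply, hρb, map_add, map_smul, map_smul, hMe₂, ← he₂]
    simp only [Matrix.cons_val_zero, Matrix.cons_val_one]
    rw [smul_zero, add_zero, one_mul, add_smul]
    abel

end frame

section dickson

variable {K : Type u} [Field K]

/-- refined corollary of Dickson's lemma: conjugates of the two standard generators -/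
theorem exists_conj_gens [IsAlgClosed K] {p : ℕ} [Fact p.Prime] [CharP K p] (hp2 : p ≠ 2)
    {a b : K} (ha : a ≠ 0) (hb : b ≠ 0) (H : Subgroup (SpecialLinearGroup (Fin 2) K)) [Finite H]
    (hu : uS a ∈ H) (hl : lS b ∈ H) :
    ∃ C : SpecialLinearGroup (Fin 2) K, C⁻¹ * uS 1 * C ∈ H ∧ C⁻¹ * lS 1 * C ∈ H := by
  obtain ⟨d, hd⟩ := IsAlgClosed.exists_pow_nat_eq a⁻¹ (n := 2) (by norm_num)
  have hd0 : d ≠ 0 := by
    rintro rfl
    apply inv_ne_zero ha
    rw [← hd]; ring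
  set c := dS d hd0 with hc
  have hu1 : uS 1 ∈ cjS c H := by
    rw [mem_cjS, hc, dS_conj_uS]
    have : (1 : K) / d ^ 2 = a := by rw [hd]; simp
    rw [this]; exact hu
  have hl1 : lS (a * b) ∈ cjS c H := by
    rw [mem_cjS, hc, dS_conj_lS]
    have : a * b * d ^ 2 = b := by rw [hd]; field_simp
    rw [this]; exact hl
  have hab : a * b ≠ 0 := mul_ne_zero ha hb
  set G := Subgroup.closure {uS 1, lS (a * b)} with hG
  have hGle : G ≤ cjS c H := by
    rw [hG, Subgroup.closure_le]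
    rintro g (rfl | rfl)
    · exact hu1
    · exact hl1
  haveI : Finite G := Finite.of_injective (Subgroup.inclusion hGle) (Subgroup.inclusion_injective hGle)
  have hu1G : uS 1 ∈ G := Subgroup.subset_closure (by simp)
  have hltG : lS (a * b) ∈ G := Subgroup.subset_closure (by simp)
  rcases dickson hp2 hab G hG with ⟨F, -, hF⟩ | ⟨hp3, ht2⟩
  · refine ⟨c, mem_cjS.mp hu1, mem_cjS.mp (hGle (hF 1 F.one_mem).2)⟩
  · subst hp3
    set t := a * b with ht
    have hgG : uS (-t) * lS 1 * uS t ∈ G := by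
      have : uS (-t) * lS 1 * uS t = lS t * uS 1 * lS (-t) := by
        apply sl_ext'
        all_goals
          simp only [mul_00, mul_01, mul_10, mul_11, uS_00, uS_01, uS_10, uS_11, lS_00, lS_01,
            lS_10, lS_11]
        · ring
        · linear_combination (-1 : K) * ht2
        · linear_combination ht2
        · ring
      rw [this]
      refine G.mul_mem (G.mul_mem hltG hu1G) ?_
      rw [← lS_inv]; exact G.inv_mem hltG
    have h1 : (uS t)⁻¹ * uS 1 * uS t ∈ G := by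
      rw [uS_inv, ← uS_add, ← uS_add]
      have : -t + 1 + t = (1 : K) := by ring
      rw [this]; exact hu1G
    have h2 : (uS t)⁻¹ * lS 1 * uS t ∈ G := by
      rw [uS_inv]; exact hgG
    refine ⟨uS t * c, ?_, ?_⟩
    · have e : (uS t * c)⁻¹ * uS 1 * (uS t * c) = c⁻¹ * ((uS t)⁻¹ * uS 1 * uS t) * c := by group
      rw [e]
      exact mem_cjS.mp (hGle h1)
    · have e : (uS t * c)⁻¹ * lS 1 * (uS t * c) = c⁻¹ * ((uS t)⁻¹ * lS 1 * uS t) * c := by group
      rw [e]
      exact mem_cjS.mp (hGle h2)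

end dickson

section planeK

variable {K : Type u} [Field K] [IsAlgClosed K] {Γ : Type w} [Group Γ] [Finite Γ]
  {W : Type v} [AddCommGroup W] [Module K W] [FiniteDimensional K W]

/-- over the algebraically closed field: two elements and a vector on which they act as the
standard generators of `SL₂(p)` -/
theorem exists_plane_closed {p : ℕ} [Fact p.Prime] [CharP K p] (hp2 : p ≠ 2) {a b : Γ}
    (hgen : Subgroup.closure {a, b} = ⊤) (ρ : Γ →* Module.End K W)
    (ha2 : (ρ a - 1) * (ρ a - 1) = 0) (hb2 : (ρ b - 1) * (ρ b - 1) = 0)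
    (hnu : ∃ g : Γ, ∀ k : ℕ, ρ (g ^ p ^ k) ≠ 1) :
    ∃ (x y : Γ) (f : W), f ≠ 0 ∧ (ρ x - 1) f = 0 ∧ ((ρ y - 1) * (ρ y - 1)) f = 0 ∧
      ((ρ x - 1) * (ρ y - 1) - 1) f = 0 := by
  have hp : ((p : ℕ) : K) = 0 := CharP.cast_eq_zero _ p
  obtain ⟨E, μ, hE, hμ, hEa, hEb⟩ := exists_frame hp hgen ρ ha2 hb2 hnu
  obtain ⟨φ, hφ⟩ := exists_hom_of_intertwine ρ E hE {a, b} hgen (by
    rintro s (rfl | rfl)
    · exact ⟨uS μ, hEa⟩
    · exact ⟨lS 1, hEb⟩)
  have hinj : ∀ A B : SpecialLinearGroup (Fin 2) K,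
      (∀ t : Fin 2 → K, E ((A : Matrix (Fin 2) (Fin 2) K) *ᵥ t) =
        E ((B : Matrix (Fin 2) (Fin 2) K) *ᵥ t)) → A = B := by
    intro A B h
    apply Subtype.ext
    apply Matrix.toLin'.injective
    apply LinearMap.ext
    intro t
    rw [Matrix.toLin'_apply, Matrix.toLin'_apply]
    exact hE (h t)
  have hφa : φ a = uS μ := hinj _ _ (fun t => by rw [← hφ, hEa])
  have hφb : φ b = lS 1 := hinj _ _ (fun t => by rw [← hφ, hEb])
  haveI : Finite φ.range := Finite.of_surjective φ.rangeRestrict φ.rangeRestrict_surjective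
  obtain ⟨C, hC1, hC2⟩ := exists_conj_gens hp2 hμ one_ne_zero φ.range ⟨a, hφa⟩ ⟨b, hφb⟩
  obtain ⟨x, hx⟩ := hC1
  obtain ⟨y, hy⟩ := hC2
  set Ci : Matrix (Fin 2) (Fin 2) K := ((C⁻¹ : SpecialLinearGroup (Fin 2) K) :
    Matrix (Fin 2) (Fin 2) K) with hCi
  have hact : ∀ (g : Γ) (A : SpecialLinearGroup (Fin 2) K), φ g = C⁻¹ * A * C →
      ∀ t : Fin 2 → K, ρ g (E (Ci *ᵥ t)) = E (Ci *ᵥ ((A : Matrix (Fin 2) (Fin 2) K) *ᵥ t)) := by
    intro g A hg t
    rw [hφ, hg, hCi, Matrix.mulVec_mulVec, Matrix.mulVec_mulVec,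
      ← Matrix.SpecialLinearGroup.coe_mul, ← Matrix.SpecialLinearGroup.coe_mul,
      mul_inv_cancel_right]
  set ε₁ : Fin 2 → K := ![1, 0] with hε₁
  set ε₂ : Fin 2 → K := ![0, 1] with hε₂
  set f₁ := E (Ci *ᵥ ε₁) with hf₁
  set f₂ := E (Ci *ᵥ ε₂) with hf₂
  have hu1 : ((uS (1 : K) : SpecialLinearGroup (Fin 2) K) : Matrix (Fin 2) (Fin 2) K) *ᵥ ε₁ = ε₁ := by
    rw [uS_mulVec, hε₁]; simp
  have hu2 : ((uS (1 : K) : SpecialLinearGroup (Fin 2) K) : Matrix (Fin 2) (Fin 2) K) *ᵥ ε₂ =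
      ε₁ + ε₂ := by
    rw [uS_mulVec, hε₁, hε₂]
    ext i; fin_cases i <;> simp
  have hl1 : ((lS (1 : K) : SpecialLinearGroup (Fin 2) K) : Matrix (Fin 2) (Fin 2) K) *ᵥ ε₁ =
      ε₁ + ε₂ := by
    rw [lS_mulVec, hε₁, hε₂]
    ext i; fin_cases i <;> simp
  have hl2 : ((lS (1 : K) : SpecialLinearGroup (Fin 2) K) : Matrix (Fin 2) (Fin 2) K) *ᵥ ε₂ = ε₂ := by
    rw [lS_mulVec, hε₂]
    ext i; fin_cases i <;> simp
  have hx1 : ρ x f₁ = f₁ := by rw [hf₁, hact x (uS 1) hx, hu1]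
  have hx2 : ρ x f₂ = f₁ + f₂ := by
    rw [hf₂, hact x (uS 1) hx, hu2, Matrix.mulVec_add, map_add]
  have hy1 : ρ y f₁ = f₁ + f₂ := by
    rw [hf₁, hact y (lS 1) hy, hl1, Matrix.mulVec_add, map_add]
  have hy2 : ρ y f₂ = f₂ := by rw [hf₂, hact y (lS 1) hy, hl2]
  have hf₁0 : f₁ ≠ 0 := by
    intro h0
    have h1 : Ci *ᵥ ε₁ = 0 := by
      apply hE
      rw [map_zero]; exact h0
    have h2 : ((C : SpecialLinearGroup (Fin 2) K) : Matrix (Fin 2) (Fin 2) K) *ᵥ (Ci *ᵥ ε₁) = 0 := by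
      rw [h1, Matrix.mulVec_zero]
    rw [hCi, Matrix.mulVec_mulVec, ← Matrix.SpecialLinearGroup.coe_mul, mul_inv_cancel,
      Matrix.SpecialLinearGroup.coe_one, Matrix.one_mulVec] at h2
    have := congrFun h2 0
    simp [hε₁] at this
  refine ⟨x, y, f₁, hf₁0, ?_, ?_, ?_⟩
  · rw [LinearMap.sub_apply, Module.End.one_apply, hx1, sub_self]
  · have h1 : (ρ y - 1) f₁ = f₂ := by
      rw [LinearMap.sub_apply, Module.End.one_apply, hy1]; abel
    rw [Module.End.mul_apply, h1, LinearMap.sub_apply, Module.End.one_apply, hy2, sub_self]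
  · have h1 : (ρ y - 1) f₁ = f₂ := by
      rw [LinearMap.sub_apply, Module.End.one_apply, hy1]; abel
    rw [LinearMap.sub_apply, Module.End.mul_apply, h1, LinearMap.sub_apply, Module.End.one_apply,
      Module.End.one_apply, hx2]
    abel

end planeK

end Cfsg.Agent.helper3
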