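import Mathlib
import Cfsg.Agent.Lib_helper3_QdC2

/-! Quadratic pairs: descent of the invariant plane to the ground field (helper3). -/

set_option autoImplicit false
set_option linter.unusedSectionVars false

namespace Cfsg.Agent.helper3

open Matrix Cfsg.Agent.helper4.Dk Cfsg.Agent.helper4.Red

universe u v w

section descent

variable {k : Type u} [Field k] {M : Type w} [AddCommGroup M] [Module k M]
  {L : Type v} [Field L] {W : Type*} [AddCommGroup W] [Module L W]

/-- a common kernel vector after base change comes from a common kernel vector -/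
theorem descent (R : Module.End k M →+* Module.End L W) (A₁ A₂ A₃ : Module.End k M) (f : W)
    (hf : f ≠ 0) (h1 : R A₁ f = 0) (h2 : R A₂ f = 0) (h3 : R A₃ f = 0) :
    ∃ v : M, v ≠ 0 ∧ A₁ v = 0 ∧ A₂ v = 0 ∧ A₃ v = 0 := by
  by_contra hcon
  push_neg at hcon
  set D : M →ₗ[k] (M × M × M) := A₁.prod (A₂.prod A₃) with hD
  have hker : LinearMap.ker D = ⊥ := by
    rw [LinearMap.ker_eq_bot']
    intro v hv
    by_contra hv0
    have hv' : (A₁ v, A₂ v, A₃ v) = (0 : M × M × M) := hv
    rw [Prod.mk_eq_zero, Prod.mk_eq_zero] at hv'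
    exact hcon v hv0 hv'.1 hv'.2.1 hv'.2.2
  obtain ⟨Einv, hE⟩ := D.exists_leftInverse_of_injective hker
  set E₁ : Module.End k M := Einv ∘ₗ LinearMap.inl k M (M × M) with hE₁
  set E₂ : Module.End k M := Einv ∘ₗ (LinearMap.inr k M (M × M) ∘ₗ LinearMap.inl k M M) with hE₂
  set E₃ : Module.End k M := Einv ∘ₗ (LinearMap.inr k M (M × M) ∘ₗ LinearMap.inr k M M) with hE₃
  have hsum : E₁ * A₁ + E₂ * A₂ + E₃ * A₃ = 1 := by
    ext v
    have h := congrArg (fun T => T v) hE
    simp only [LinearMap.comp_apply, LinearMap.id_apply] at h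
    have hdec : D v = LinearMap.inl k M (M × M) (A₁ v) +
        (LinearMap.inr k M (M × M) (LinearMap.inl k M M (A₂ v)) +
          LinearMap.inr k M (M × M) (LinearMap.inr k M M (A₃ v))) := by
      rw [hD]
      simp [LinearMap.prod_apply]
    rw [hdec, map_add, map_add] at h
    simp only [LinearMap.add_apply, Module.End.mul_apply, Module.End.one_apply, hE₁, hE₂, hE₃,
      LinearMap.comp_apply]
    rw [add_assoc]
    exact h
  have h := congrArg (fun T => R T f) hsum
  simp only [map_add, map_mul, map_one, LinearMap.add_apply, Module.End.mul_apply, h1, h2, h3,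
    map_zero, add_zero, Module.End.one_apply] at h
  exact hf h.symm

end descent

section plane

/-- **The invariant plane.**  A group generated by two elements acting quadratically on a
finite-dimensional space over a field of odd characteristic `p`, not unipotently, contains two
elements `x`, `y` and the space a nonzero vector `v` such that, with `u = y v - v`,
`x v = v`, `x u = u + v`, `y u = u`. -/
theorem exists_plane {k : Type u} [Field k] {p : ℕ} [Fact p.Prime] [CharP k p] (hp2 : p ≠ 2)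
    {Γ : Type v} [Group Γ] [Finite Γ] {a b : Γ} (hgen : Subgroup.closure {a, b} = ⊤)
    {M : Type w} [AddCommGroup M] [Module k M] [FiniteDimensional k M]
    (ρ₀ : Γ →* Module.End k M) (ha2 : (ρ₀ a - 1) * (ρ₀ a - 1) = 0)
    (hb2 : (ρ₀ b - 1) * (ρ₀ b - 1) = 0) (hnu : ∃ g : Γ, ∀ j : ℕ, ρ₀ (g ^ p ^ j) ≠ 1) :
    ∃ (x y : Γ) (v : M), v ≠ 0 ∧ (ρ₀ x - 1) v = 0 ∧ ((ρ₀ y - 1) * (ρ₀ y - 1)) v = 0 ∧
      ((ρ₀ x - 1) * (ρ₀ y - 1) - 1) v = 0 := by
  haveI : CharP (AlgebraicClosure k) p :=
    charP_of_injective_algebraMap (algebraMap k (AlgebraicClosure k)).injective p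
  set n := Module.finrank k M with hn
  set B := Module.finBasis k M with hB
  set R := bcHom (AlgebraicClosure k) B with hR
  have hRinj := bcHom_injective (AlgebraicClosure k) B
  set ρ : Γ →* Module.End (AlgebraicClosure k) (Fin n → AlgebraicClosure k) :=
    (R : Module.End k M →* _).comp ρ₀ with hρ
  have hρ_apply : ∀ g, ρ g = R (ρ₀ g) := fun g => rfl
  have ha2' : (ρ a - 1) * (ρ a - 1) = 0 := by
    rw [hρ_apply, ← map_one R, ← map_sub, ← map_mul, ha2, map_zero]
  have hb2' : (ρ b - 1) * (ρ b - 1) = 0 := by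
    rw [hρ_apply, ← map_one R, ← map_sub, ← map_mul, hb2, map_zero]
  have hnu' : ∃ g : Γ, ∀ j : ℕ, ρ (g ^ p ^ j) ≠ 1 := by
    obtain ⟨g, hg⟩ := hnu
    refine ⟨g, fun j h => hg j ?_⟩
    apply hRinj
    rw [map_one, ← hρ_apply, h]
  obtain ⟨x, y, f, hf0, h1, h2, h3⟩ := exists_plane_closed (K := AlgebraicClosure k) hp2 hgen ρ
    ha2' hb2' hnu'
  obtain ⟨v, hv0, hv1, hv2, hv3⟩ := descent R (ρ₀ x - 1) ((ρ₀ y - 1) * (ρ₀ y - 1))
    ((ρ₀ x - 1) * (ρ₀ y - 1) - 1) f hf0
    (by rw [map_sub, map_one, ← hρ_apply]; exact h1)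
    (by rw [map_mul, map_sub, map_one, ← hρ_apply]; exact h2)
    (by rw [map_sub, map_mul, map_sub, map_sub, map_one, ← hρ_apply, ← hρ_apply]; exact h3)
  exact ⟨x, y, v, hv0, hv1, hv2, hv3⟩

end plane

end Cfsg.Agent.helper3
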