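import Mathlib
import Cfsg.Prelude.Def_LocalEven
import Cfsg.Prelude.Def_PLocal
import Cfsg.Agent.Lib_helper3_QdA
import Cfsg.Agent.S2762

/-! From a natural `SL₂(p)`-configuration inside a finite group to a section `Qd(p)` (helper3). -/

set_option autoImplicit false
set_option linter.unusedSectionVars false

namespace Cfsg.Agent.helper3

open Matrix Cfsg

universe u v w

section involves

/-- `H` is a homomorphic image of a subgroup of `Y` -/
def Inv (H : Type u) [Group H] (Y : Type v) [Group Y] : Prop :=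
  ∃ (K : Subgroup Y) (ψ : K →* H), Function.Surjective ψ

variable {H : Type u} [Group H] {Y : Type v} [Group Y]

theorem Inv.involves (h : Inv H Y) : Cfsg.Involves H Y := by
  obtain ⟨K, ψ, hψ⟩ := h
  have hRk : (ψ.ker.map K.subtype).subgroupOf K = ψ.ker :=
    Subgroup.comap_map_eq_self_of_injective K.subtype_injective _
  haveI hRn : ((ψ.ker.map K.subtype).subgroupOf K).Normal := by rw [hRk]; infer_instance
  exact ⟨K, ψ.ker.map K.subtype, hRn,
    ⟨(QuotientGroup.quotientMulEquivOfEq hRk).trans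
      (QuotientGroup.quotientKerEquivOfSurjective ψ hψ)⟩⟩

theorem inv_of_involves (h : Cfsg.Involves H Y) : Inv H Y := by
  obtain ⟨K, R, hR, ⟨e⟩⟩ := h
  exact ⟨K, e.toMonoidHom.comp (QuotientGroup.mk' _),
    e.surjective.comp (QuotientGroup.mk'_surjective _)⟩

theorem Inv.of_surjective {Y₂ : Type w} [Group Y₂] (π : Y →* Y₂) (hπ : Function.Surjective π)
    (h : Inv H Y₂) : Inv H Y := by
  obtain ⟨K, ψ, hψ⟩ := h
  refine ⟨K.comap π, ψ.comp (π.subgroupComap K), ?_⟩
  exact hψ.comp (π.subgroupComap_surjective_of_surjective K hπ)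

theorem Inv.of_injective {Y₂ : Type w} [Group Y₂] (ι : Y₂ →* Y) (hι : Function.Injective ι)
    (h : Inv H Y₂) : Inv H Y := by
  obtain ⟨K, ψ, hψ⟩ := h
  refine ⟨K.map ι, ψ.comp (K.equivMapOfInjective ι hι).symm.toMonoidHom, ?_⟩
  exact hψ.comp (K.equivMapOfInjective ι hι).symm.surjective

theorem inv_of_inj_surj {S : Type w} [Group S] (j : S →* Y) (hj : Function.Injective j)
    (π : S →* H) (hπ : Function.Surjective π) : Inv H Y := by
  have h0 : Inv H S := ⟨⊤, π.comp (⊤ : Subgroup S).subtype, fun x => by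
    obtain ⟨s, rfl⟩ := hπ x
    exact ⟨⟨s, Subgroup.mem_top s⟩, rfl⟩⟩
  exact h0.of_injective j hj

/-- sections inherit -/
theorem Inv.of_section (K R : Subgroup Y) [hR : (R.subgroupOf K).Normal]
    (h : Inv H (↥K ⧸ R.subgroupOf K)) : Inv H Y :=
  (h.of_surjective (QuotientGroup.mk' (R.subgroupOf K)) (QuotientGroup.mk'_surjective _)).of_injective
    K.subtype K.subtype_injective

end involves

section act

variable {R : Type u} [CommRing R]

/-- the natural action of `SL₂(R)` on `R²`, written multiplicatively -/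
def actAut : SpecialLinearGroup (Fin 2) R →* MulAut (Multiplicative (Fin 2 → R)) where
  toFun A :=
    { toFun := fun w => Multiplicative.ofAdd ((A : Matrix (Fin 2) (Fin 2) R) *ᵥ Multiplicative.toAdd w)
      invFun := fun w => Multiplicative.ofAdd
        (((A⁻¹ : SpecialLinearGroup (Fin 2) R) : Matrix (Fin 2) (Fin 2) R) *ᵥ Multiplicative.toAdd w)
      left_inv := fun w => by
        show Multiplicative.ofAdd (((A⁻¹ : SpecialLinearGroup (Fin 2) R) : Matrix (Fin 2) (Fin 2) R) *ᵥ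
          ((A : Matrix (Fin 2) (Fin 2) R) *ᵥ Multiplicative.toAdd w)) = w
        rw [Matrix.mulVec_mulVec, ← Matrix.SpecialLinearGroup.coe_mul, inv_mul_cancel,
          Matrix.SpecialLinearGroup.coe_one, Matrix.one_mulVec]
        rfl
      right_inv := fun w => by
        show Multiplicative.ofAdd ((A : Matrix (Fin 2) (Fin 2) R) *ᵥ
          (((A⁻¹ : SpecialLinearGroup (Fin 2) R) : Matrix (Fin 2) (Fin 2) R) *ᵥ
            Multiplicative.toAdd w)) = w
        rw [Matrix.mulVec_mulVec, ← Matrix.SpecialLinearGroup.coe_mul, mul_inv_cancel,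
          Matrix.SpecialLinearGroup.coe_one, Matrix.one_mulVec]
        rfl
      map_mul' := fun v w => by
        show Multiplicative.ofAdd ((A : Matrix (Fin 2) (Fin 2) R) *ᵥ
          (Multiplicative.toAdd v + Multiplicative.toAdd w)) = _
        rw [Matrix.mulVec_add]
        rfl }
  map_one' := by
    apply MulEquiv.ext
    intro w
    show Multiplicative.ofAdd (((1 : SpecialLinearGroup (Fin 2) R) : Matrix (Fin 2) (Fin 2) R) *ᵥ
      Multiplicative.toAdd w) = w
    rw [Matrix.SpecialLinearGroup.coe_one, Matrix.one_mulVec]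
    rfl
  map_mul' := fun A B => by
    apply MulEquiv.ext
    intro w
    show Multiplicative.ofAdd (((A * B : SpecialLinearGroup (Fin 2) R) : Matrix (Fin 2) (Fin 2) R) *ᵥ
      Multiplicative.toAdd w) = Multiplicative.ofAdd ((A : Matrix (Fin 2) (Fin 2) R) *ᵥ
        ((B : Matrix (Fin 2) (Fin 2) R) *ᵥ Multiplicative.toAdd w))
    rw [Matrix.SpecialLinearGroup.coe_mul, Matrix.mulVec_mulVec]

theorem actAut_apply (A : SpecialLinearGroup (Fin 2) R) (w : Fin 2 → R) :
    actAut A (Multiplicative.ofAdd w) =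
      Multiplicative.ofAdd ((A : Matrix (Fin 2) (Fin 2) R) *ᵥ w) := rfl

end act

section qdhom

open Cfsg.Agent.S2762

variable {F : Type u} [Field F]

/-- translations as a homomorphism -/
def trHom : Multiplicative (Fin 2 → F) →* ↥(Cfsg.qdOver F) where
  toFun w := tr (Multiplicative.toAdd w)
  map_one' := tr_zero
  map_mul' v w := tr_add _ _

theorem emb_mul_tr (A : SpecialLinearGroup (Fin 2) F) (w : Fin 2 → F) :
    emb A * tr w = tr ((A : Matrix (Fin 2) (Fin 2) F) *ᵥ w) * emb A := by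
  apply mat_injective
  rw [mat_mul, mat_mul, mat_emb, mat_tr, mat_tr]
  ext i j
  fin_cases i <;> fin_cases j <;>
    simp [Matrix.mul_apply, Fin.sum_univ_three, Matrix.mulVec, dotProduct, Fin.sum_univ_two]

end qdhom

section config

open Cfsg.Agent.S2762

variable {Y : Type u} [Group Y] [Finite Y] {p : ℕ} [hp : Fact p.Prime]

/-- **From a natural `SL₂(p)`-configuration to `Qd(p)`.** -/
theorem inv_qd_of_config (hp2 : p ≠ 2) (L : Subgroup Y)
    (θ : Multiplicative (Fin 2 → ZMod p) →* Y) (hθ : Function.Injective θ)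
    (α : ↥L →* SpecialLinearGroup (Fin 2) (ZMod p)) (hα : Function.Surjective α)
    (heq : ∀ (l : ↥L) (w : Fin 2 → ZMod p),
      (l : Y) * θ (Multiplicative.ofAdd w) * (l : Y)⁻¹ =
        θ (Multiplicative.ofAdd ((α l : Matrix (Fin 2) (Fin 2) (ZMod p)) *ᵥ w))) :
    Inv ↥(Cfsg.qdOver (ZMod p)) Y := by
  haveI : Fact (Nat.Prime 2) := ⟨Nat.prime_two⟩
  -- the preimage of `±1`
  set Zc : Subgroup (SpecialLinearGroup (Fin 2) (ZMod p)) :=
    Subgroup.zpowers (-1 : SpecialLinearGroup (Fin 2) (ZMod p)) with hZc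
  have hZsq : ∀ A ∈ Zc, A * A = 1 := by
    intro A hA
    obtain ⟨n, rfl⟩ := Subgroup.mem_zpowers_iff.mp hA
    rw [← _root_.zpow_add, ← two_mul, _root_.zpow_mul, zpow_two, neg_mul_neg, one_mul, _root_.one_zpow]
  haveI hZn : Zc.Normal := by
    constructor
    intro A hA g
    obtain ⟨n, rfl⟩ := Subgroup.mem_zpowers_iff.mp hA
    have hcomm : Commute g (-1 : SpecialLinearGroup (Fin 2) (ZMod p)) := by
      show g * -1 = -1 * g
      rw [mul_neg, neg_mul, mul_one, one_mul]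
    have h2 : g * (-1 : SpecialLinearGroup (Fin 2) (ZMod p)) ^ n * g⁻¹ = (-1) ^ n := by
      rw [(hcomm.zpow_right n).eq, mul_assoc, mul_inv_cancel, mul_one]
    rw [h2]
    exact Subgroup.zpow_mem_zpowers _ n
  set M : Subgroup ↥L := Zc.comap α with hM
  haveI hMn : M.Normal := hZn.comap α
  obtain ⟨P⟩ : Nonempty (Sylow 2 ↥M) := inferInstance
  set κ : Subgroup ↥M := (α.comp M.subtype).ker with hκ
  have hquot : IsPGroup 2 (↥M ⧸ κ) := by
    intro x
    obtain ⟨m, rfl⟩ := QuotientGroup.mk_surjective x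
    refine ⟨1, ?_⟩
    rw [← QuotientGroup.mk_pow, QuotientGroup.eq_one_iff, hκ, MonoidHom.mem_ker, pow_one, pow_two,
      map_mul]
    exact hZsq _ m.2
  have htop := sylow_sup_eq_top P κ hquot
  -- an element of `P` acting as `-1`
  obtain ⟨z₀, hz₀⟩ := hα (-1)
  have hz₀M : z₀ ∈ M := by
    show α z₀ ∈ Zc
    rw [hz₀]; exact Subgroup.mem_zpowers _
  obtain ⟨s, hsP, hsα⟩ : ∃ s : ↥M, s ∈ (P : Subgroup ↥M) ∧ α (s : ↥L) = -1 := by
    have hmem : (⟨z₀, hz₀M⟩ : ↥M) ∈ (P : Subgroup ↥M) ⊔ κ := by rw [htop]; trivial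
    obtain ⟨s, hs, c, hc, hsc⟩ := Subgroup.mem_sup_of_normal_right.mp hmem
    refine ⟨s, hs, ?_⟩
    have h1 : α ((s * c : ↥M) : ↥L) = -1 := by rw [hsc]; exact hz₀
    have h2 : α ((c : ↥M) : ↥L) = 1 := hc
    rw [Subgroup.coe_mul, map_mul, h2, mul_one] at h1
    exact h1
  set P' : Subgroup ↥L := (P : Subgroup ↥M).map M.subtype with hP'
  have hP'2 : IsPGroup 2 ↥P' := P.isPGroup'.map _
  have hfrat : Subgroup.normalizer (P' : Set ↥L) ⊔ M = ⊤ := Sylow.normalizer_sup_eq_top P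
  set L₁ : Subgroup ↥L := Subgroup.normalizer (P' : Set ↥L) with hL₁
  have hsP' : (s : ↥L) ∈ P' := ⟨s, hsP, rfl⟩
  -- `α` restricted to `L₁` is onto
  set α₁ : ↥L₁ →* SpecialLinearGroup (Fin 2) (ZMod p) := α.comp L₁.subtype with hα₁
  have hα₁s : Function.Surjective α₁ := by
    intro A
    obtain ⟨l, rfl⟩ := hα A
    have hmem : l ∈ L₁ ⊔ M := by rw [hfrat]; trivial
    obtain ⟨n, hn, m, hm, rfl⟩ := Subgroup.mem_sup_of_normal_right.mp hmem
    have hmem2 : (⟨m, hm⟩ : ↥M) ∈ (P : Subgroup ↥M) ⊔ κ := by rw [htop]; trivial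
    obtain ⟨s', hs', c, hc, hsc⟩ := Subgroup.mem_sup_of_normal_right.mp hmem2
    have hs'L₁ : (s' : ↥L) ∈ L₁ := Subgroup.le_normalizer ⟨s', hs', rfl⟩
    refine ⟨⟨n * (s' : ↥L), L₁.mul_mem hn hs'L₁⟩, ?_⟩
    have h2 : α ((c : ↥M) : ↥L) = 1 := hc
    have h3 : m = (s' : ↥L) * (c : ↥L) := by
      have := congrArg (fun x : ↥M => (x : ↥L)) hsc
      simpa using this.symm
    show α (n * (s' : ↥L)) = α (n * m)
    rw [h3, map_mul, map_mul, map_mul, h2, mul_one]
  -- the range of `θ` meets `L₁` trivially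
  have hθp : ∀ w : Multiplicative (Fin 2 → ZMod p), θ w ^ p = 1 := by
    intro w
    rw [← map_pow]
    have : w ^ p = 1 := by
      show Multiplicative.ofAdd (p • Multiplicative.toAdd w) = 1
      have h0 : p • Multiplicative.toAdd w = 0 := by
        ext i
        simp [nsmul_eq_mul, CharP.cast_eq_zero]
      rw [h0]; rfl
    rw [this, map_one]
  have hdisj : ∀ (w : Multiplicative (Fin 2 → ZMod p)) (l : ↥L), l ∈ L₁ → θ w = (l : Y) →
      θ w = 1 := by
    intro w l hl hwl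
    set n : Y := θ w with hn
    -- `s n s⁻¹ = n⁻¹`
    have h1 : ((s : ↥L) : Y) * n * ((s : ↥L) : Y)⁻¹ = n⁻¹ := by
      have := heq (s : ↥L) (Multiplicative.toAdd w)
      rw [hsα, Matrix.SpecialLinearGroup.coe_neg, Matrix.SpecialLinearGroup.coe_one,
        Matrix.neg_mulVec, Matrix.one_mulVec] at this
      have e1 : Multiplicative.ofAdd (Multiplicative.toAdd w) = w := rfl
      have e2 : Multiplicative.ofAdd (-Multiplicative.toAdd w) = w⁻¹ := rfl
      rw [e1, e2, map_inv] at this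
      exact this
    -- `l s l⁻¹ s⁻¹ ∈ P'`
    have h2 : l * (s : ↥L) * l⁻¹ * (s : ↥L)⁻¹ ∈ P' := by
      refine P'.mul_mem ?_ (P'.inv_mem hsP')
      exact (Subgroup.mem_normalizer_iff.mp hl _).mp hsP'
    obtain ⟨k, hk⟩ := hP'2 ⟨_, h2⟩
    have hk' : (l * (s : ↥L) * l⁻¹ * (s : ↥L)⁻¹) ^ 2 ^ k = 1 := congrArg Subtype.val hk
    have h3 : ((l * (s : ↥L) * l⁻¹ * (s : ↥L)⁻¹ : ↥L) : Y) = n * n := by
      simp only [Subgroup.coe_mul, Subgroup.coe_inv]
      rw [← hwl]
      calc n * ((s : ↥L) : Y) * n⁻¹ * ((s : ↥L) : Y)⁻¹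
          = n * (((s : ↥L) : Y) * n * ((s : ↥L) : Y)⁻¹)⁻¹ := by group
        _ = n * n := by rw [h1, inv_inv]
    have h4 : (n * n) ^ 2 ^ k = 1 := by
      rw [← h3, ← Subgroup.coe_pow, hk', Subgroup.coe_one]
    have h5 : n ^ 2 ^ (k + 1) = 1 := by
      rw [pow_succ, mul_comm, pow_mul, pow_two]; exact h4
    have h6 : n ^ p = 1 := hθp w
    have hcop : Nat.Coprime (2 ^ (k + 1)) p := by
      apply Nat.Coprime.pow_left
      rw [Nat.coprime_comm]
      exact (Nat.Prime.coprime_iff_not_dvd hp.out).mpr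
        (fun h => hp2 ((Nat.prime_dvd_prime_iff_eq hp.out Nat.prime_two).mp h))
    have h7 : orderOf n ∣ Nat.gcd (2 ^ (k + 1)) p :=
      Nat.dvd_gcd (orderOf_dvd_of_pow_eq_one h5) (orderOf_dvd_of_pow_eq_one h6)
    rw [hcop.gcd_eq_one, Nat.dvd_one, orderOf_eq_one_iff] at h7
    exact h7
  -- the semidirect product
  set φ : ↥L₁ →* MulAut (Multiplicative (Fin 2 → ZMod p)) := actAut.comp α₁ with hφ
  set fg : ↥L₁ →* Y := L.subtype.comp L₁.subtype with hfg
  have hcj : ∀ g : ↥L₁, θ.comp (φ g).toMonoidHom = (MulAut.conj (fg g)).toMonoidHom.comp θ := by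
    intro g
    apply MonoidHom.ext
    intro w
    show θ (actAut (α₁ g) w) = fg g * θ w * (fg g)⁻¹
    have := heq (g : ↥L) (Multiplicative.toAdd w)
    exact this.symm
  set j : Multiplicative (Fin 2 → ZMod p) ⋊[φ] ↥L₁ →* Y := SemidirectProduct.lift θ fg hcj with hj
  have hjapp : ∀ x : Multiplicative (Fin 2 → ZMod p) ⋊[φ] ↥L₁, j x = θ x.1 * fg x.2 := fun x => rfl
  have hjinj : Function.Injective j := by
    rw [injective_iff_map_eq_one]
    intro x hx
    rw [hjapp] at hx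
    have h1 : θ x.1 = ((x.2⁻¹ : ↥L₁) : ↥L) := by
      have : θ x.1 = (fg x.2)⁻¹ := eq_inv_of_mul_eq_one_left hx
      rw [this]; rfl
    have h2 := hdisj x.1 _ (x.2⁻¹).2 h1
    have h3 : x.1 = 1 := hθ (by rw [h2, map_one])
    have h4 : fg x.2 = 1 := by rw [h2, one_mul] at hx; exact hx
    have h5 : x.2 = 1 := by
      apply Subtype.ext
      apply Subtype.ext
      exact h4
    exact SemidirectProduct.ext h3 h5
  have hcπ : ∀ g : ↥L₁, (trHom (F := ZMod p)).comp (φ g).toMonoidHom =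
      (MulAut.conj ((emb.comp α₁) g)).toMonoidHom.comp trHom := by
    intro g
    apply MonoidHom.ext
    intro w
    show tr ((α₁ g : Matrix (Fin 2) (Fin 2) (ZMod p)) *ᵥ Multiplicative.toAdd w) =
      emb (α₁ g) * tr (Multiplicative.toAdd w) * (emb (α₁ g))⁻¹
    rw [emb_mul_tr, mul_assoc, mul_inv_cancel, mul_one]
  set π : Multiplicative (Fin 2 → ZMod p) ⋊[φ] ↥L₁ →* ↥(Cfsg.qdOver (ZMod p)) :=
    SemidirectProduct.lift trHom (emb.comp α₁) hcπ with hπ
  have hπs : Function.Surjective π := by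
    intro Q
    obtain ⟨g, hg⟩ := hα₁s (blkHom Q)
    refine ⟨⟨Multiplicative.ofAdd ![mat Q 0 2, mat Q 1 2], g⟩, ?_⟩
    show tr ![mat Q 0 2, mat Q 1 2] * emb (α₁ g) = Q
    rw [hg]
    exact (decomp Q).symm
  exact inv_of_inj_surj j hjinj π hπs

end config

end Cfsg.Agent.helper3
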