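import Mathlib
import Cfsg.Prelude.Def_LocalEven
import Cfsg.Prelude.Def_PLocal
import Cfsg.Agent.Lib_helper3_QdB
import Cfsg.Agent.Lib_helper3_QdC3
import Cfsg.Agent.Lib_helper3_QdD

/-! Glauberman: a group in which `Qd(p)` is not involved is `p`-stable (helper3). -/

set_option autoImplicit false
set_option linter.unusedSectionVars false

namespace Cfsg.Agent.helper3

open Matrix Cfsg Cfsg.Agent.helper4.Dk Cfsg.Agent.helper4.Red
open scoped commutatorElement

universe u

section pair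

variable {G : Type u} [Group G] {p : ℕ} [hp : Fact p.Prime]

/-- Baer–Suzuki: a second quadratic element generating a non-`p`-group with the first. -/
theorem exists_quadratic_pair [Finite G] (V N₀ : Subgroup G)
    (hN₀ : N₀ ≤ Subgroup.normalizer (V : Set G))
    {Y : Type*} [Group Y] (π : N₀ →* Y) (hπ : Function.Surjective π)
    (hker' : ∀ x : N₀, (x : G) ∈ Subgroup.centralizer (V : Set G) → π x = 1)
    (a : G) (haN : a ∈ N₀) (hq : ⁅⁅V, Subgroup.zpowers a⁆, Subgroup.zpowers a⁆ = ⊥)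
    (hns : π ⟨a, haN⟩ ∉ Cfsg.pCore p Y) :
    ∃ b : G, b ∈ N₀ ∧ ⁅⁅V, Subgroup.zpowers b⁆, Subgroup.zpowers b⁆ = ⊥ ∧
      ∃ h ∈ Subgroup.closure ({a, b} : Set G), ∀ j : ℕ,
        h ^ p ^ j ∉ Subgroup.centralizer (V : Set G) := by
  haveI : Finite Y := Finite.of_surjective π hπ
  have hBS : ∃ y : Y, ¬ IsPGroup p
      ↥(Subgroup.closure ({π ⟨a, haN⟩, y * π ⟨a, haN⟩ * y⁻¹} : Set Y)) := by
    by_contra hcon
    simp only [not_exists, not_not] at hcon
    apply hns
    rw [Cfsg.Agent.helper1.pCore_eq_iInf_sylow]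
    exact Cfsg.Agent.helper15.mem_iInf_sylow_of_baer_suzuki _ hcon
  obtain ⟨y, hy⟩ := hBS
  obtain ⟨g, rfl⟩ := hπ y
  set b : G := (g : G) * a * (g : G)⁻¹ with hb
  have hbN : b ∈ N₀ := N₀.mul_mem (N₀.mul_mem g.2 haN) (N₀.inv_mem g.2)
  set Γ : Subgroup G := Subgroup.closure {a, b} with hΓ
  have hΓN : Γ ≤ N₀ := by
    rw [hΓ, Subgroup.closure_le]
    rintro z (rfl | rfl)
    · exact haN
    · exact hbN
  have himg : Subgroup.closure ({π ⟨a, haN⟩, π g * π ⟨a, haN⟩ * (π g)⁻¹} : Set Y) =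
      (Γ.subgroupOf N₀).map π := by
    have h1 : Γ.subgroupOf N₀ = Subgroup.closure ({⟨a, haN⟩, ⟨b, hbN⟩} : Set N₀) := by
      apply Subgroup.map_injective N₀.subtype_injective
      rw [MonoidHom.map_closure, Subgroup.subgroupOf, Subgroup.map_comap_eq,
        Subgroup.range_subtype, inf_eq_right.mpr hΓN]
      have : (N₀.subtype '' ({⟨a, haN⟩, ⟨b, hbN⟩} : Set N₀)) = {a, b} := by
        ext x
        simp [Set.image_insert_eq]
      rw [this]
    rw [h1, MonoidHom.map_closure]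
    congr 1
    ext z
    simp only [Set.image_insert_eq, Set.image_singleton, Set.mem_insert_iff,
      Set.mem_singleton_iff]
    have : π ⟨b, hbN⟩ = π g * π ⟨a, haN⟩ * (π g)⁻¹ := by
      rw [← map_inv, ← map_mul, ← map_mul]
      rfl
    rw [this]
  rw [himg] at hy
  refine ⟨b, hbN, quadratic_conj V (hN₀ g.2) hq, ?_⟩
  by_contra hcon
  simp only [not_exists, not_and, not_forall, not_not] at hcon
  apply hy
  rintro ⟨_, ⟨h, hh, rfl⟩⟩
  obtain ⟨j, hj⟩ := hcon (h : G) hh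
  refine ⟨j, ?_⟩
  apply Subtype.ext
  simp only [Subgroup.coe_pow, Subgroup.coe_one, ← map_pow]
  exact hker' _ (by simpa using hj)

set_option maxHeartbeats 400000 in
/-- **A quadratic pair generating a non-`p`-group modulo `C(V)` produces `Qd(p)`.** -/
theorem inv_qd_of_quadratic_pair [Finite G] (hp2 : p ≠ 2) (V : Subgroup G)
    (hV : Cfsg.IsElementaryAbelian p V) (a b : G)
    (hΓV : Subgroup.closure ({a, b} : Set G) ≤ Subgroup.normalizer (V : Set G))
    (ha : ⁅⁅V, Subgroup.zpowers a⁆, Subgroup.zpowers a⁆ = ⊥)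
    (hb : ⁅⁅V, Subgroup.zpowers b⁆, Subgroup.zpowers b⁆ = ⊥)
    (hnu : ∃ g ∈ Subgroup.closure ({a, b} : Set G), ∀ j : ℕ,
      g ^ p ^ j ∉ Subgroup.centralizer (V : Set G)) :
    Inv ↥(Cfsg.qdOver (ZMod p)) G := by
  haveI : Fact (Cfsg.IsElementaryAbelian p V) := ⟨hV⟩
  set H : Subgroup G := Subgroup.closure {a, b} with hH
  have haH : a ∈ H := Subgroup.subset_closure (by simp)
  have hbH : b ∈ H := Subgroup.subset_closure (by simp)
  have hgen : Subgroup.closure ({⟨a, haH⟩, ⟨b, hbH⟩} : Set H) = ⊤ := by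
    apply Subgroup.map_injective H.subtype_injective
    rw [MonoidHom.map_closure, ← MonoidHom.range_eq_map, Subgroup.range_subtype]
    have : (H.subtype '' ({⟨a, haH⟩, ⟨b, hbH⟩} : Set H)) = {a, b} := by
      ext x
      simp [Set.image_insert_eq]
    rw [this]
  have hnu' : ∃ g : H, ∀ j : ℕ, conjRep p V H hΓV (g ^ p ^ j) ≠ 1 := by
    obtain ⟨g, hgH, hg⟩ := hnu
    refine ⟨⟨g, hgH⟩, fun j h => hg j ?_⟩
    have h1 := mem_centralizer_of_conjRep_eq_one V H hΓV _ h
    simpa using h1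
  obtain ⟨x, y, v, hv0, h1, h2, h3⟩ := exists_plane (k := ZMod p) hp2 hgen (conjRep p V H hΓV)
    (conjRep_quadratic V H hΓV ⟨a, haH⟩ ha) (conjRep_quadratic V H hΓV ⟨b, hbH⟩ hb) hnu'
  set ρ₀ := conjRep p V H hΓV with hρ₀
  set u : EA p V := (ρ₀ y - 1) v with hu
  have hxv : ρ₀ x v = v := by
    rw [LinearMap.sub_apply, Module.End.one_apply, sub_eq_zero] at h1
    exact h1
  have hyv : ρ₀ y v = v + u := by
    rw [hu, LinearMap.sub_apply, Module.End.one_apply]; abel
  have hyu : ρ₀ y u = u := by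
    rw [Module.End.mul_apply, ← hu, LinearMap.sub_apply, Module.End.one_apply, sub_eq_zero] at h2
    exact h2
  have hxu : ρ₀ x u = u + v := by
    rw [LinearMap.sub_apply, Module.End.mul_apply, ← hu, LinearMap.sub_apply, Module.End.one_apply,
      Module.End.one_apply, sub_eq_zero] at h3
    rw [← h3]; abel
  -- the subgroup generated by `x`, `y`
  obtain ⟨L, hL⟩ : ∃ L : Subgroup G, L = Subgroup.closure {(x : G), (y : G)} := ⟨_, rfl⟩
  have hLH : L ≤ H := by
    rw [hL, Subgroup.closure_le]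
    rintro z (rfl | rfl)
    · exact x.2
    · exact y.2
  have hLV : L ≤ Subgroup.normalizer (V : Set G) := hLH.trans hΓV
  have hxL : (x : G) ∈ L := by rw [hL]; exact Subgroup.subset_closure (by simp)
  have hyL : (y : G) ∈ L := by rw [hL]; exact Subgroup.subset_closure (by simp)
  have hgenL : Subgroup.closure ({⟨(x : G), hxL⟩, ⟨(y : G), hyL⟩} : Set L) = ⊤ := by
    apply Subgroup.map_injective L.subtype_injective
    rw [MonoidHom.map_closure, ← MonoidHom.range_eq_map, Subgroup.range_subtype]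
    have : (L.subtype '' ({⟨(x : G), hxL⟩, ⟨(y : G), hyL⟩} : Set L)) = {(x : G), (y : G)} := by
      ext z
      simp [Set.image_insert_eq]
    rw [this, hL]
  set ρ₁ := conjRep p V L hLV with hρ₁
  have hρ₁ρ₀ : ∀ (l : L) (h : H), (l : G) = (h : G) → ∀ m : EA p V, ρ₁ l m = ρ₀ h m := by
    intro l h hlh m
    apply EA.ext
    apply Subtype.ext
    rw [hρ₁, hρ₀, conjRep_val, conjRep_val, hlh]
  set E₀ : (Fin 2 → ZMod p) →ₗ[ZMod p] EA p V := frameMap v u with hE₀
  have hE₀inj : Function.Injective E₀ := by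
    rw [injective_iff_map_eq_zero]
    intro t ht
    rw [hE₀, frameMap_apply] at ht
    have h4 := congrArg (ρ₀ x) ht
    rw [map_add, map_smul, map_smul, hxv, hxu, map_zero, smul_add, ← add_assoc, ht, zero_add] at h4
    have ht1 : t 1 = 0 := by
      rcases smul_eq_zero.mp h4 with h | h
      · exact h
      · exact absurd h hv0
    rw [ht1, zero_smul, add_zero] at ht
    have ht0 : t 0 = 0 := by
      rcases smul_eq_zero.mp ht with h | h
      · exact h
      · exact absurd h hv0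
    ext i
    fin_cases i
    · exact ht0
    · exact ht1
  have hEx : ∀ t, ρ₁ ⟨(x : G), hxL⟩ (E₀ t) = E₀ (((uS 1 : SpecialLinearGroup (Fin 2) (ZMod p)) :
      Matrix (Fin 2) (Fin 2) (ZMod p)) *ᵥ t) := by
    intro t
    rw [hρ₁ρ₀ ⟨(x : G), hxL⟩ x rfl, uS_mulVec, hE₀, frameMap_apply, frameMap_apply, map_add,
      map_smul, map_smul, hxv, hxu]
    simp only [Matrix.cons_val_zero, Matrix.cons_val_one]
    rw [one_mul, add_smul, smul_add]
    abel
  have hEy : ∀ t, ρ₁ ⟨(y : G), hyL⟩ (E₀ t) = E₀ (((lS 1 : SpecialLinearGroup (Fin 2) (ZMod p)) :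
      Matrix (Fin 2) (Fin 2) (ZMod p)) *ᵥ t) := by
    intro t
    rw [hρ₁ρ₀ ⟨(y : G), hyL⟩ y rfl, lS_mulVec, hE₀, frameMap_apply, frameMap_apply, map_add,
      map_smul, map_smul, hyv, hyu]
    simp only [Matrix.cons_val_zero, Matrix.cons_val_one]
    rw [one_mul, add_smul, smul_add]
    abel
  obtain ⟨α, hα⟩ := exists_hom_of_intertwine (R := ZMod p) ρ₁ E₀ hE₀inj _ hgenL (by
      rintro s (rfl | rfl)
      · exact ⟨uS 1, hEx⟩
      · exact ⟨lS 1, hEy⟩)
  have hinj : ∀ A B : SpecialLinearGroup (Fin 2) (ZMod p),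
      (∀ t : Fin 2 → ZMod p, E₀ ((A : Matrix (Fin 2) (Fin 2) (ZMod p)) *ᵥ t) =
        E₀ ((B : Matrix (Fin 2) (Fin 2) (ZMod p)) *ᵥ t)) → A = B := by
    intro A B h
    apply Subtype.ext
    apply Matrix.toLin'.injective
    apply LinearMap.ext
    intro t
    rw [Matrix.toLin'_apply, Matrix.toLin'_apply]
    exact hE₀inj (h t)
  have hαx : α ⟨(x : G), hxL⟩ = uS 1 := hinj (α ⟨(x : G), hxL⟩) (uS 1) (fun t => by rw [← hα, hEx])
  have hαy : α ⟨(y : G), hyL⟩ = lS 1 := hinj (α ⟨(y : G), hyL⟩) (lS 1) (fun t => by rw [← hα, hEy])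
  have hαs : Function.Surjective α := by
    have h4 := range_le_of_gens (MonoidHom.id (SpecialLinearGroup (Fin 2) (ZMod p))) α.range
      ⟨_, hαx⟩ ⟨_, hαy⟩
    intro A
    exact h4 ⟨A, rfl⟩
  -- the embedding of the plane
  set θ : Multiplicative (Fin 2 → ZMod p) →* G :=
    { toFun := fun w => (((E₀ (Multiplicative.toAdd w)).val : V) : G)
      map_one' := by
        show (((E₀ 0).val : V) : G) = 1
        rw [map_zero]; rfl
      map_mul' := fun w₁ w₂ => by
        show (((E₀ (Multiplicative.toAdd w₁ + Multiplicative.toAdd w₂)).val : V) : G) = _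
        rw [map_add, EA.val_add, Subgroup.coe_mul] } with hθ
  have hθinj : Function.Injective θ := by
    intro w₁ w₂ h
    have h4 : (E₀ (Multiplicative.toAdd w₁)).val = (E₀ (Multiplicative.toAdd w₂)).val :=
      Subtype.ext h
    exact hE₀inj (EA.ext h4)
  apply inv_qd_of_config hp2 L θ hθinj α hαs
  intro l w
  show (l : G) * (((E₀ w).val : V) : G) * (l : G)⁻¹ =
    (((E₀ ((α l : Matrix (Fin 2) (Fin 2) (ZMod p)) *ᵥ w)).val : V) : G)
  rw [← hα, hρ₁, conjRep_val]

end pair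

section main

variable {Y : Type u} [Group Y] [Finite Y] {p : ℕ} [hp : Fact p.Prime]

/-- **Glauberman**, elementary abelian form. -/
theorem inv_qd_of_not_pstable_ea (hp2 : p ≠ 2) (V : Subgroup Y) [hVn : V.Normal]
    (hV : Cfsg.IsElementaryAbelian p V) (a : Y)
    (hq : ⁅⁅V, Subgroup.zpowers a⁆, Subgroup.zpowers a⁆ = ⊥)
    (hns : (QuotientGroup.mk a : Y ⧸ Subgroup.centralizer (V : Set Y)) ∉
      Cfsg.pCore p (Y ⧸ Subgroup.centralizer (V : Set Y))) :
    Inv ↥(Cfsg.qdOver (ZMod p)) Y := by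
  set π : (⊤ : Subgroup Y) →* Y ⧸ Subgroup.centralizer (V : Set Y) :=
    (QuotientGroup.mk' _).comp (⊤ : Subgroup Y).subtype with hπ
  have hsurj : Function.Surjective π := by
    intro y
    obtain ⟨x, rfl⟩ := QuotientGroup.mk'_surjective _ y
    exact ⟨⟨x, Subgroup.mem_top x⟩, rfl⟩
  have hker' : ∀ x : (⊤ : Subgroup Y), (x : Y) ∈ Subgroup.centralizer (V : Set Y) → π x = 1 := by
    intro x hx
    exact (QuotientGroup.eq_one_iff _).mpr hx
  have htop : (⊤ : Subgroup Y) ≤ Subgroup.normalizer (V : Set Y) := by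
    rw [Subgroup.normalizer_eq_top_iff.mpr hVn]
  obtain ⟨b, -, hb, hnu⟩ := exists_quadratic_pair V ⊤ htop π hsurj hker' a (Subgroup.mem_top a)
    hq hns
  exact inv_qd_of_quadratic_pair hp2 V hV a b (le_trans le_top htop) hq hb hnu

/-- `Qd(p)` not involved: quadratic elements centralize the chief factors. -/
theorem mem_chiefStab_of_quadratic_of_not_inv_qd (hp2 : p ≠ 2)
    (hno : ¬ Inv ↥(Cfsg.qdOver (ZMod p)) Y)
    (V : Subgroup Y) [hVn : V.Normal] (hV : IsPGroup p ↥V)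
    (g : Y) (hq : ⁅⁅V, Subgroup.zpowers g⁆, Subgroup.zpowers g⁆ = ⊥) : g ∈ chiefStab V := by
  apply mem_chiefStab_of_quadratic_of_ea V hV g hq
  intro W _ A _ hA hqA
  by_contra hns
  apply hno
  exact (inv_qd_of_not_pstable_ea hp2 A hA _ hqA hns).of_surjective (QuotientGroup.mk' W)
    (QuotientGroup.mk'_surjective W)

/-- `Qd(p)` not involved: `p`-stability on every normal `p`-subgroup. -/
theorem isPStableOn_of_not_inv_qd (hp2 : p ≠ 2) (hno : ¬ Inv ↥(Cfsg.qdOver (ZMod p)) Y)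
    (V : Subgroup Y) [hVn : V.Normal] (hV : IsPGroup p ↥V) : Cfsg.IsPStableOn p V := by
  intro a hq
  exact mk_mem_pCore_of_mem_chiefStab V hV a
    (mem_chiefStab_of_quadratic_of_not_inv_qd hp2 hno V hV a hq)

/-- `Qd(p)` not involved: `p`-stability in the normalizer form. -/
theorem isNormalizerPStable_of_not_inv_qd (hp2 : p ≠ 2)
    (hno : ¬ Inv ↥(Cfsg.qdOver (ZMod p)) Y) : Cfsg.IsNormalizerPStable p Y := by
  intro Q hQ g hg hq
  apply mk_mem_pCore_normalizer_of_mem_chiefStab Q hQ g hg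
  haveI hQ'n : (Q.subgroupOf (Subgroup.normalizer (Q : Set Y))).Normal :=
    Subgroup.normal_in_normalizer
  have hQ' : IsPGroup p ↥(Q.subgroupOf (Subgroup.normalizer (Q : Set Y))) := hQ.comap_subtype
  have hno' : ¬ Inv ↥(Cfsg.qdOver (ZMod p)) ↥(Subgroup.normalizer (Q : Set Y)) :=
    fun h => hno (h.of_injective (Subgroup.subtype _) (Subgroup.subtype_injective _))
  exact mem_chiefStab_of_quadratic_of_not_inv_qd hp2 hno' _ hQ' ⟨g, hg⟩
    (quadratic_subgroupOf_normalizer Q g hg hq)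

end main

end Cfsg.Agent.helper3
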