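import Mathlib
import Cfsg.Prelude.Def_PLocal
import Cfsg.Agent.Lib_helper12_Card

set_option autoImplicit false

/-!
# `Qd(p)`: entries, the standard Sylow `p`-subgroup, transport along conjugation
-/

namespace Cfsg.Agent.helper4.QdS

open Matrix

section generic

variable {G : Type*} [Group G]

/-- conjugation by a normalizing element as an automorphism of the subgroup -/
def conjE (P : Subgroup G) (a : G) (ha : a ∈ Subgroup.normalizer (P : Set G)) : ↥P ≃* ↥P where
  toFun y := ⟨a * y.1 * a⁻¹, (Subgroup.mem_normalizer_iff.1 ha y.1).1 y.2⟩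
  invFun y := ⟨a⁻¹ * y.1 * a, by
    have := (Subgroup.mem_normalizer_iff.1 (Subgroup.inv_mem _ ha) y.1).1 y.2
    simpa using this⟩
  left_inv y := by ext; simp [mul_assoc]
  right_inv y := by ext; simp [mul_assoc]
  map_mul' y z := by ext; simp [mul_assoc]

theorem le_normalizer_map_char (P : Subgroup G) (C : Subgroup ↥P) (hC : C.Characteristic) :
    Subgroup.normalizer (P : Set G) ≤
      Subgroup.normalizer ((C.map P.subtype : Subgroup G) : Set G) := by
  intro g hg
  have hCe : C.comap (conjE P g hg).toMonoidHom = C := hC.fixed (conjE P g hg)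
  rw [Subgroup.mem_normalizer_iff]
  intro x
  constructor
  · rintro ⟨y, hy, rfl⟩
    refine ⟨conjE P g hg y, ?_, rfl⟩
    have : y ∈ C.comap (conjE P g hg).toMonoidHom := by rw [hCe]; exact hy
    exact this
  · rintro ⟨y, hy, hyx⟩
    refine ⟨(conjE P g hg).symm y, ?_, ?_⟩
    · have : (conjE P g hg).symm y ∈ C.comap (conjE P g hg).toMonoidHom := by
        show (conjE P g hg) ((conjE P g hg).symm y) ∈ C
        rw [MulEquiv.apply_symm_apply]
        exact hy
      rwa [hCe] at this
    · show g⁻¹ * y.1 * g = x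
      have : y.1 = g * x * g⁻¹ := hyx
      rw [this]
      group

/-- transport of the statement along an automorphism of the ambient group -/
theorem transport (S0 S : Subgroup G) (φ : G ≃* G) (hS : S = S0.map φ.toMonoidHom)
    (h0 : ∀ T0 : Subgroup ↥S0, T0 ≠ ⊥ → T0.Characteristic →
      Subgroup.normalizer ((T0.map S0.subtype : Subgroup G) : Set G)
        = Subgroup.normalizer (S0 : Set G))
    (T : Subgroup ↥S) (hT : T ≠ ⊥) (hTc : T.Characteristic) :
    Subgroup.normalizer ((T.map S.subtype : Subgroup G) : Set G)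
        = Subgroup.normalizer (S : Set G) := by
  subst hS
  set e : ↥S0 ≃* ↥(S0.map φ.toMonoidHom) := φ.subgroupMap S0 with he
  have hecoe : ∀ x : ↥S0, ((e x : ↥(S0.map φ.toMonoidHom)) : G) = φ (x : G) := fun x => rfl
  set T0 : Subgroup ↥S0 := T.comap e.toMonoidHom with hT0
  have hT0ne : T0 ≠ ⊥ := by
    intro h
    apply hT
    rw [eq_bot_iff]
    intro t ht
    have h1 : e.symm t ∈ T0 := by
      show e (e.symm t) ∈ T
      rw [MulEquiv.apply_symm_apply]; exact ht
    rw [h] at h1
    have h2 : e.symm t = 1 := h1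
    have h3 : t = 1 := by
      have := congrArg e h2
      rwa [MulEquiv.apply_symm_apply, map_one] at this
    exact h3
  have hT0c : T0.Characteristic := by
    rw [Subgroup.characteristic_iff_comap_eq]
    intro ψ
    ext x
    let θ : ↥(S0.map φ.toMonoidHom) ≃* ↥(S0.map φ.toMonoidHom) := e.symm.trans (ψ.trans e)
    have hθ : T.comap θ.toMonoidHom = T := hTc.fixed θ
    constructor
    · intro hx
      have h1 : e (ψ x) ∈ T := hx
      have h2 : θ (e x) = e (ψ x) := by
        show e (ψ (e.symm (e x))) = e (ψ x)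
        rw [MulEquiv.symm_apply_apply]
      have h3 : e x ∈ T.comap θ.toMonoidHom := by
        show θ (e x) ∈ T
        rw [h2]; exact h1
      rw [hθ] at h3
      exact h3
    · intro hx
      have h1 : e x ∈ T := hx
      rw [← hθ] at h1
      have h2 : θ (e x) = e (ψ x) := by
        show e (ψ (e.symm (e x))) = e (ψ x)
        rw [MulEquiv.symm_apply_apply]
      have h3 : θ (e x) ∈ T := h1
      rw [h2] at h3
      exact h3
  have hmap : (T.map (S0.map φ.toMonoidHom).subtype : Subgroup G)
      = (T0.map S0.subtype).map φ.toMonoidHom := by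
    ext x
    constructor
    · rintro ⟨t, ht, rfl⟩
      refine ⟨(e.symm t : ↥S0), ⟨e.symm t, ?_, rfl⟩, ?_⟩
      · show e (e.symm t) ∈ T
        rw [MulEquiv.apply_symm_apply]; exact ht
      · have := hecoe (e.symm t)
        rw [MulEquiv.apply_symm_apply] at this
        exact this.symm
    · rintro ⟨y, ⟨t0, ht0, rfl⟩, rfl⟩
      exact ⟨e t0, ht0, rfl⟩
  rw [hmap, ← Subgroup.map_equiv_normalizer_eq, ← Subgroup.map_equiv_normalizer_eq,
    h0 T0 hT0ne hT0c]

theorem transport_ne_top (S0 : Subgroup G) (φ : G ≃* G)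
    (h0 : Subgroup.normalizer (S0 : Set G) ≠ ⊤) :
    Subgroup.normalizer ((S0.map φ.toMonoidHom : Subgroup G) : Set G) ≠ ⊤ := by
  rw [← Subgroup.map_equiv_normalizer_eq]
  intro h
  apply h0
  rw [eq_top_iff]
  intro x _
  have : φ x ∈ (Subgroup.normalizer (S0 : Set G)).map φ.toMonoidHom := by rw [h]; trivial
  obtain ⟨y, hy, hyx⟩ := this
  have : y = x := φ.injective hyx
  rw [← this]; exact hy

end generic

end Cfsg.Agent.helper4.QdS
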