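import Mathlib
import Cfsg.Prelude.Def_PLocal
import Cfsg.Agent.Lib_helper12_Card

set_option autoImplicit false

/-!
# `Qd(p)`: entries and the standard Sylow `p`-subgroup
-/

namespace Cfsg.Agent.helper4.QdS

open Matrix

variable {p : ℕ}

/-- the entries of an element of `Qd(p)` -/
def ent (g : ↥(Cfsg.qd p)) (i j : Fin 3) : ZMod p :=
  ((g : Matrix.SpecialLinearGroup (Fin 3) (ZMod p)) : Matrix (Fin 3) (Fin 3) (ZMod p)) i j

/-- the affine condition -/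
def IsAff (M : Matrix.SpecialLinearGroup (Fin 3) (ZMod p)) : Prop :=
  (M : Matrix (Fin 3) (Fin 3) (ZMod p)) 2 0 = 0 ∧
    (M : Matrix (Fin 3) (Fin 3) (ZMod p)) 2 1 = 0 ∧ (M : Matrix (Fin 3) (Fin 3) (ZMod p)) 2 2 = 1

theorem isAff_of_mem {M : Matrix.SpecialLinearGroup (Fin 3) (ZMod p)} (hM : M ∈ Cfsg.qd p) :
    IsAff M := by
  unfold Cfsg.qd at hM
  induction hM using Subgroup.closure_induction with
  | mem x hx => exact hx
  | one => refine ⟨?_, ?_, ?_⟩ <;> simp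
  | mul x y _ _ hx hy =>
    obtain ⟨m0, m1, m2⟩ := hx
    obtain ⟨n0, n1, n2⟩ := hy
    refine ⟨?_, ?_, ?_⟩ <;>
      simp [Matrix.SpecialLinearGroup.coe_mul, Matrix.mul_apply, Fin.sum_univ_three, m0, m1, m2, n0,
        n1, n2]
  | inv x _ hx =>
    obtain ⟨m0, m1, m2⟩ := hx
    have hdet := x.2
    rw [Matrix.det_fin_three, m0, m1, m2] at hdet
    refine ⟨?_, ?_, ?_⟩
    · rw [Matrix.SpecialLinearGroup.coe_inv, Matrix.adjugate_fin_three]
      simp [m0, m1, m2]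
    · rw [Matrix.SpecialLinearGroup.coe_inv, Matrix.adjugate_fin_three]
      simp [m0, m1, m2]
    · rw [Matrix.SpecialLinearGroup.coe_inv, Matrix.adjugate_fin_three]
      simp
      linear_combination hdet

theorem mem_of_isAff {M : Matrix.SpecialLinearGroup (Fin 3) (ZMod p)} (hM : IsAff M) :
    M ∈ Cfsg.qd p := Subgroup.subset_closure hM

@[simp] theorem ent_20 (g : ↥(Cfsg.qd p)) : ent g 2 0 = 0 := (isAff_of_mem g.2).1
@[simp] theorem ent_21 (g : ↥(Cfsg.qd p)) : ent g 2 1 = 0 := (isAff_of_mem g.2).2.1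
@[simp] theorem ent_22 (g : ↥(Cfsg.qd p)) : ent g 2 2 = 1 := (isAff_of_mem g.2).2.2

theorem ent_mul (g h : ↥(Cfsg.qd p)) (i j : Fin 3) :
    ent (g * h) i j = ent g i 0 * ent h 0 j + ent g i 1 * ent h 1 j + ent g i 2 * ent h 2 j := by
  unfold ent
  rw [Subgroup.coe_mul, Matrix.SpecialLinearGroup.coe_mul, Matrix.mul_apply, Fin.sum_univ_three]

theorem ent_one (i j : Fin 3) : ent (1 : ↥(Cfsg.qd p)) i j = if i = j then 1 else 0 := by
  unfold ent
  rw [Subgroup.coe_one, Matrix.SpecialLinearGroup.coe_one, Matrix.one_apply]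

theorem det_rel (g : ↥(Cfsg.qd p)) : ent g 0 0 * ent g 1 1 - ent g 0 1 * ent g 1 0 = 1 := by
  have hdet := g.1.2
  have m0 := ent_20 g
  have m1 := ent_21 g
  have m2 := ent_22 g
  unfold ent at *
  rw [Matrix.det_fin_three, m0, m1, m2] at hdet
  linear_combination hdet

theorem ext6 {g h : ↥(Cfsg.qd p)} (h00 : ent g 0 0 = ent h 0 0) (h01 : ent g 0 1 = ent h 0 1)
    (h02 : ent g 0 2 = ent h 0 2) (h10 : ent g 1 0 = ent h 1 0) (h11 : ent g 1 1 = ent h 1 1)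
    (h12 : ent g 1 2 = ent h 1 2) : g = h := by
  apply Subtype.ext
  apply Subtype.ext
  ext i j
  fin_cases i <;> fin_cases j
  · exact h00
  · exact h01
  · exact h02
  · exact h10
  · exact h11
  · exact h12
  · exact (ent_20 g).trans (ent_20 h).symm
  · exact (ent_21 g).trans (ent_21 h).symm
  · exact (ent_22 g).trans (ent_22 h).symm

/-- constructor -/
def mkG (a b c d e f : ZMod p) (h : a * e - b * d = 1) : ↥(Cfsg.qd p) :=
  ⟨⟨!![a, b, c; d, e, f; 0, 0, 1], by rw [Matrix.det_fin_three]; simp; linear_combination h⟩,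
    mem_of_isAff ⟨by simp, by simp, by simp⟩⟩

section mkGlemmas
variable (a b c d e f : ZMod p) (h : a * e - b * d = 1)
@[simp] theorem ent_mkG_00 : ent (mkG a b c d e f h) 0 0 = a := rfl
@[simp] theorem ent_mkG_01 : ent (mkG a b c d e f h) 0 1 = b := rfl
@[simp] theorem ent_mkG_02 : ent (mkG a b c d e f h) 0 2 = c := rfl
@[simp] theorem ent_mkG_10 : ent (mkG a b c d e f h) 1 0 = d := rfl
@[simp] theorem ent_mkG_11 : ent (mkG a b c d e f h) 1 1 = e := rfl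
@[simp] theorem ent_mkG_12 : ent (mkG a b c d e f h) 1 2 = f := rfl
end mkGlemmas

theorem inv_eq_mkG (g : ↥(Cfsg.qd p)) :
    g⁻¹ = mkG (ent g 1 1) (- ent g 0 1) (ent g 0 1 * ent g 1 2 - ent g 1 1 * ent g 0 2)
      (- ent g 1 0) (ent g 0 0) (ent g 1 0 * ent g 0 2 - ent g 0 0 * ent g 1 2)
      (by linear_combination det_rel g) := by
  have hd := det_rel g
  apply inv_eq_of_mul_eq_one_right
  apply ext6 <;> rw [ent_mul, ent_one] <;> simp
  · linear_combination hd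
  · ring
  · linear_combination (-ent g 0 2) * hd
  · ring
  · linear_combination hd
  · linear_combination (-ent g 1 2) * hd

@[simp] theorem ent_inv_00 (g : ↥(Cfsg.qd p)) : ent g⁻¹ 0 0 = ent g 1 1 := by
  rw [inv_eq_mkG]; rfl
@[simp] theorem ent_inv_01 (g : ↥(Cfsg.qd p)) : ent g⁻¹ 0 1 = - ent g 0 1 := by
  rw [inv_eq_mkG]; rfl
@[simp] theorem ent_inv_02 (g : ↥(Cfsg.qd p)) :
    ent g⁻¹ 0 2 = ent g 0 1 * ent g 1 2 - ent g 1 1 * ent g 0 2 := by
  rw [inv_eq_mkG]; rfl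
@[simp] theorem ent_inv_10 (g : ↥(Cfsg.qd p)) : ent g⁻¹ 1 0 = - ent g 1 0 := by
  rw [inv_eq_mkG]; rfl
@[simp] theorem ent_inv_11 (g : ↥(Cfsg.qd p)) : ent g⁻¹ 1 1 = ent g 0 0 := by
  rw [inv_eq_mkG]; rfl
@[simp] theorem ent_inv_12 (g : ↥(Cfsg.qd p)) :
    ent g⁻¹ 1 2 = ent g 1 0 * ent g 0 2 - ent g 0 0 * ent g 1 2 := by
  rw [inv_eq_mkG]; rfl


/-- the standard Sylow `p`-subgroup: upper unitriangular matrices -/
def S0 (p : ℕ) : Subgroup ↥(Cfsg.qd p) where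
  carrier := {g | ent g 0 0 = 1 ∧ ent g 1 0 = 0 ∧ ent g 1 1 = 1}
  mul_mem' := by
    rintro g h ⟨g0, g1, g2⟩ ⟨h0, h1, h2⟩
    refine ⟨?_, ?_, ?_⟩ <;> rw [ent_mul] <;> simp [g0, g1, g2, h0, h1, h2]
  one_mem' := by refine ⟨?_, ?_, ?_⟩ <;> rw [ent_one] <;> simp
  inv_mem' := by
    rintro g ⟨g0, g1, g2⟩
    refine ⟨?_, ?_, ?_⟩ <;> simp [g0, g1, g2]

theorem mem_S0 {g : ↥(Cfsg.qd p)} :
    g ∈ S0 p ↔ ent g 0 0 = 1 ∧ ent g 1 0 = 0 ∧ ent g 1 1 = 1 := Iff.rfl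

/-- the Borel subgroup -/
def B0 (p : ℕ) : Subgroup ↥(Cfsg.qd p) where
  carrier := {g | ent g 1 0 = 0}
  mul_mem' := by
    intro g h hg hh
    show ent (g * h) 1 0 = 0
    have hg' : ent g 1 0 = 0 := hg
    have hh' : ent h 1 0 = 0 := hh
    rw [ent_mul]; simp [hg', hh']
  one_mem' := by
    show ent (1 : ↥(Cfsg.qd p)) 1 0 = 0
    rw [ent_one]; simp
  inv_mem' := by
    intro g hg
    have hg' : ent g 1 0 = 0 := hg
    show ent g⁻¹ 1 0 = 0
    simp [hg']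

theorem mem_B0 {g : ↥(Cfsg.qd p)} : g ∈ B0 p ↔ ent g 1 0 = 0 := Iff.rfl

/-- Heisenberg coordinates -/
def mkS (a b c : ZMod p) : ↥(Cfsg.qd p) := mkG 1 a c 0 1 b (by ring)

theorem mkS_mem (a b c : ZMod p) : mkS a b c ∈ S0 p := ⟨rfl, rfl, rfl⟩

theorem eq_mkS {g : ↥(Cfsg.qd p)} (hg : g ∈ S0 p) :
    g = mkS (ent g 0 1) (ent g 1 2) (ent g 0 2) := by
  obtain ⟨g0, g1, g2⟩ := hg
  apply ext6
  · exact g0
  · rfl
  · rfl
  · exact g1
  · exact g2
  · rfl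

theorem mkS_mul (a b c a' b' c' : ZMod p) :
    mkS a b c * mkS a' b' c' = mkS (a + a') (b + b') (c + c' + a * b') := by
  apply ext6 <;> rw [ent_mul] <;> simp [mkS] <;> ring

theorem mkS_zero : mkS (0 : ZMod p) 0 0 = 1 := by
  apply ext6 <;> rw [ent_one] <;> simp [mkS]

theorem mkS_inv (a b c : ZMod p) : (mkS a b c)⁻¹ = mkS (-a) (-b) (a * b - c) := by
  apply inv_eq_of_mul_eq_one_right
  rw [mkS_mul, ← mkS_zero]
  congr 1 <;> ring

theorem mkS_inj {a b c a' b' c' : ZMod p} (h : mkS a b c = mkS a' b' c') :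
    a = a' ∧ b = b' ∧ c = c' := by
  refine ⟨?_, ?_, ?_⟩
  · have := congrArg (fun g => ent g 0 1) h
    simpa [mkS] using this
  · have := congrArg (fun g => ent g 1 2) h
    simpa [mkS] using this
  · have := congrArg (fun g => ent g 0 2) h
    simpa [mkS] using this

theorem mkS_pow (b c : ZMod p) (k : ℕ) : (mkS 0 b c) ^ k = mkS 0 ((k : ZMod p) * b) ((k : ZMod p) * c) := by
  induction k with
  | zero => simp [mkS_zero]
  | succ k ih =>
    rw [pow_succ, ih, mkS_mul]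
    congr 1 <;> push_cast <;> ring

end Cfsg.Agent.helper4.QdS
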