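import Mathlib
import Cfsg.Prelude.Def_PLocal
import Cfsg.Agent.Lib_helper12_Card
import Cfsg.Agent.Lib_helper4_QdS1
import Cfsg.Agent.Lib_helper4_QdS2

set_option autoImplicit false

/-!
# `Qd(p)`: the standard Sylow `p`-subgroup and its characteristic subgroups
-/

namespace Cfsg.Agent.helper4.QdS

open Matrix

variable {p : ℕ}

/-- coordinates on the standard Sylow -/
def equivS0 (p : ℕ) : (ZMod p × ZMod p × ZMod p) ≃ ↥(S0 p) where
  toFun v := ⟨mkS v.1 v.2.1 v.2.2, mkS_mem _ _ _⟩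
  invFun s := (ent s.1 0 1, ent s.1 1 2, ent s.1 0 2)
  left_inv v := by
    obtain ⟨a, b, c⟩ := v
    simp [mkS]
  right_inv s := by
    apply Subtype.ext
    exact (eq_mkS s.2).symm

theorem card_S0 [Fact p.Prime] : Nat.card ↥(S0 p) = p ^ 3 := by
  rw [← Nat.card_congr (equivS0 p), Nat.card_prod, Nat.card_prod, Nat.card_zmod]
  ring

/-- coordinates on `Qd(p)` -/
def equivQd (p : ℕ) :
    ↥(Cfsg.qd p) ≃ Matrix.SpecialLinearGroup (Fin 2) (ZMod p) × (ZMod p × ZMod p) where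
  toFun g := (⟨!![ent g 0 0, ent g 0 1; ent g 1 0, ent g 1 1], by
      rw [Matrix.det_fin_two]; simpa using det_rel g⟩, (ent g 0 2, ent g 1 2))
  invFun x := mkG ((x.1 : Matrix (Fin 2) (Fin 2) (ZMod p)) 0 0)
      ((x.1 : Matrix (Fin 2) (Fin 2) (ZMod p)) 0 1) x.2.1
      ((x.1 : Matrix (Fin 2) (Fin 2) (ZMod p)) 1 0)
      ((x.1 : Matrix (Fin 2) (Fin 2) (ZMod p)) 1 1) x.2.2 (by
        have := x.1.2
        rw [Matrix.det_fin_two] at this
        exact this)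
  left_inv g := by
    apply ext6 <;> simp
  right_inv x := by
    obtain ⟨A, a, b⟩ := x
    apply Prod.ext
    · apply Subtype.ext
      ext i j
      fin_cases i <;> fin_cases j <;> simp
    · simp

theorem card_qd [Fact p.Prime] : Nat.card ↥(Cfsg.qd p) = p ^ 3 * (p ^ 2 - 1) := by
  rw [Nat.card_congr (equivQd p), Nat.card_prod, Nat.card_prod, Nat.card_zmod,
    Cfsg.Agent.helper12.card_SL2, ZMod.card]
  ring

theorem isPGroup_S0 [Fact p.Prime] : IsPGroup p ↥(S0 p) := IsPGroup.of_card card_S0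

theorem index_S0 [hp : Fact p.Prime] : (S0 p).index = p ^ 2 - 1 := by
  have h1 := Subgroup.card_mul_index (S0 p)
  rw [card_S0, card_qd] at h1
  exact Nat.eq_of_mul_eq_mul_left (pow_pos hp.out.pos 3) h1

theorem not_dvd_index_S0 [hp : Fact p.Prime] : ¬ p ∣ (S0 p).index := by
  rw [index_S0]
  intro h
  have h2 : p ∣ p ^ 2 := dvd_pow_self p (by norm_num)
  have h1 : 1 ≤ p ^ 2 := Nat.one_le_pow _ _ hp.out.pos
  have h3 : p ∣ p ^ 2 - (p ^ 2 - 1) := Nat.dvd_sub h2 h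
  have h4 : p ^ 2 - (p ^ 2 - 1) = 1 := by omega
  rw [h4] at h3
  exact hp.out.one_lt.ne' (Nat.dvd_one.1 h3)

/-- the standard Sylow `p`-subgroup as a `Sylow` -/
noncomputable def sylS0 (p : ℕ) [Fact p.Prime] : Sylow p ↥(Cfsg.qd p) :=
  isPGroup_S0.toSylow not_dvd_index_S0

theorem coe_sylS0 [Fact p.Prime] : ((sylS0 p : Sylow p ↥(Cfsg.qd p)) : Subgroup ↥(Cfsg.qd p)) = S0 p :=
  rfl


theorem S0_mul_ent {s t : ↥(Cfsg.qd p)} (hs : s ∈ S0 p) (ht : t ∈ S0 p) :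
    ent (s * t) 0 1 = ent s 0 1 + ent t 0 1 ∧ ent (s * t) 1 2 = ent s 1 2 + ent t 1 2 ∧
      ent (s * t) 0 2 = ent s 0 2 + ent t 0 2 + ent s 0 1 * ent t 1 2 := by
  obtain ⟨s0, s1, s2⟩ := hs
  obtain ⟨t0, t1, t2⟩ := ht
  refine ⟨?_, ?_, ?_⟩ <;> rw [ent_mul] <;> simp [s0, s1, s2, t0, t1, t2] <;> ring

/-- the automorphism `(a, b, c) ↦ (b, a, ab - c)` of the standard Sylow -/
def psiFun (s : ↥(S0 p)) : ↥(S0 p) :=
  ⟨mkS (ent s.1 1 2) (ent s.1 0 1) (ent s.1 0 1 * ent s.1 1 2 - ent s.1 0 2), mkS_mem _ _ _⟩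

theorem psiFun_mkS (a b c : ZMod p) :
    psiFun ⟨mkS a b c, mkS_mem a b c⟩ = ⟨mkS b a (a * b - c), mkS_mem _ _ _⟩ := by
  apply Subtype.ext
  simp [psiFun, mkS]

theorem psiFun_psiFun (s : ↥(S0 p)) : psiFun (psiFun s) = s := by
  apply Subtype.ext
  have h := eq_mkS s.2
  show mkS _ _ _ = s.1
  rw [h]
  simp only [psiFun, mkS, ent_mkG_01, ent_mkG_02, ent_mkG_12]
  congr 1
  ring

def psi (p : ℕ) : ↥(S0 p) ≃* ↥(S0 p) where
  toFun := psiFun
  invFun := psiFun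
  left_inv := psiFun_psiFun
  right_inv := psiFun_psiFun
  map_mul' s t := by
    apply Subtype.ext
    obtain ⟨h1, h2, h3⟩ := S0_mul_ent s.2 t.2
    show mkS (ent (s.1 * t.1) 1 2) (ent (s.1 * t.1) 0 1)
        (ent (s.1 * t.1) 0 1 * ent (s.1 * t.1) 1 2 - ent (s.1 * t.1) 0 2)
      = mkS (ent s.1 1 2) (ent s.1 0 1) (ent s.1 0 1 * ent s.1 1 2 - ent s.1 0 2)
        * mkS (ent t.1 1 2) (ent t.1 0 1) (ent t.1 0 1 * ent t.1 1 2 - ent t.1 0 2)
    rw [mkS_mul, h1, h2, h3]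
    congr 1
    ring

theorem psi_mkS (a b c : ZMod p) :
    psi p ⟨mkS a b c, mkS_mem a b c⟩ = ⟨mkS b a (a * b - c), mkS_mem _ _ _⟩ := psiFun_mkS a b c

theorem B0_le_normalizer : B0 p ≤ Subgroup.normalizer ((S0 p : Subgroup ↥(Cfsg.qd p)) : Set ↥(Cfsg.qd p)) := by
  have key : ∀ g : ↥(Cfsg.qd p), g ∈ B0 p → ∀ h, h ∈ S0 p → g * h * g⁻¹ ∈ S0 p := by
    intro g hg h hh
    have hg' : ent g 1 0 = 0 := hg
    obtain ⟨h0, h1, h2⟩ := hh
    have hd := det_rel g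
    rw [hg'] at hd
    refine ⟨?_, ?_, ?_⟩
    · rw [ent_mul, ent_mul, ent_mul, ent_mul]
      simp [hg', h0, h1, h2]
      linear_combination hd
    · rw [ent_mul, ent_mul, ent_mul, ent_mul]
      simp [hg', h0, h1, h2]
    · rw [ent_mul, ent_mul, ent_mul, ent_mul]
      simp [hg', h0, h1, h2]
      linear_combination hd
  intro g hg
  rw [Subgroup.mem_normalizer_iff]
  intro h
  constructor
  · exact key g hg h
  · intro hh
    have := key g⁻¹ ((B0 p).inv_mem hg) _ hh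
    simpa [mul_assoc] using this

theorem normalizer_le_B0 [hp : Fact p.Prime] :
    Subgroup.normalizer ((S0 p : Subgroup ↥(Cfsg.qd p)) : Set ↥(Cfsg.qd p)) ≤ B0 p := by
  intro g hg
  rw [Subgroup.mem_normalizer_iff] at hg
  have h1 := (hg (mkS 1 0 0)).1 (mkS_mem _ _ _)
  obtain ⟨-, h10, -⟩ := h1
  rw [ent_mul, ent_mul, ent_mul, ent_mul] at h10
  simp [mkS] at h10
  have h2 : ent g 1 0 * ent g 1 0 = 0 := by linear_combination -h10
  have h3 : ent g 1 0 = 0 := by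
    rcases mul_eq_zero.1 h2 with h | h <;> exact h
  exact h3

theorem normalizer_S0_ne_top [hp : Fact p.Prime] :
    Subgroup.normalizer ((S0 p : Subgroup ↥(Cfsg.qd p)) : Set ↥(Cfsg.qd p)) ≠ ⊤ := by
  intro h
  have hw : mkG (0 : ZMod p) 1 0 (-1) 0 0 (by ring) ∈ B0 p := by
    apply normalizer_le_B0
    rw [h]; trivial
  rw [mem_B0] at hw
  simp at hw

/-- conjugating the central translation -/
theorem conj_mkS_001 (g : ↥(Cfsg.qd p)) :
    g * mkS 0 0 1 * g⁻¹ = mkS 0 (ent g 1 0) (ent g 0 0) := by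
  rw [mul_inv_eq_iff_eq_mul]
  apply ext6 <;> rw [ent_mul, ent_mul] <;> simp [mkS] <;> ring

end Cfsg.Agent.helper4.QdS
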