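import Mathlib
import Cfsg.Agent.Lib_helper15_BL8
import Cfsg.Agent.Lib_helper15_ThA1
import Cfsg.Agent.Lib_helper15_FunReg
import Cfsg.Agent.Lib_helper3_PStab2
import Cfsg.Agent.Lib_helper3_QdE
import Cfsg.Agent.Lib_helper4_QdS3
import Cfsg.Agent.Lib_helper10_PS2
import Cfsg.Agent.S0664

set_option autoImplicit false
set_option linter.style.haveILetI false
set_option linter.unusedSectionVars false
set_option maxHeartbeats 1600000

/-! Sylow subgroups of subgroups (ambient form), `Z(J(·))` in subgroups of a group of odd order. -/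

namespace Cfsg.Agent.helper15.BL

open Cfsg.Agent.helper7 Cfsg.Agent.helper15
open scoped commutatorElement

universe u

variable {G : Type u} [Group G] [Finite G] {p : ℕ} [hp : Fact p.Prime]

theorem sylIn_isPGroup {X T : Subgroup G} (h : SylIn p X T) : IsPGroup p T :=
  IsPGroup.of_card h.2

theorem exists_sylIn_ge (X Q : Subgroup G) (hQX : Q ≤ X) (hQ : IsPGroup p Q) :
    ∃ T, SylIn p X T ∧ Q ≤ T := by
  have hQ' : IsPGroup p (Q.subgroupOf X) := hQ.comap_subtype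
  obtain ⟨S, hS⟩ := hQ'.exists_le_sylow
  refine ⟨(S : Subgroup X).map X.subtype, sylIn_map X S, ?_⟩
  intro x hx
  exact ⟨⟨x, hQX hx⟩, hS (show (⟨x, hQX hx⟩ : ↥X) ∈ Q.subgroupOf X from hx), rfl⟩

theorem card_dvd_of_pgroup_le (X Q : Subgroup G) (hQX : Q ≤ X) (hQ : IsPGroup p Q) :
    Nat.card Q ∣ p ^ (Nat.card X).factorization p := by
  obtain ⟨k, hk⟩ := hQ.exists_card_eq
  rw [hk]
  have h1 : p ^ k ∣ Nat.card X := hk ▸ Subgroup.card_dvd_of_le hQX
  exact pow_dvd_pow p ((hp.out.pow_dvd_iff_le_factorization Nat.card_pos.ne').1 h1)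

theorem sylIn_eq_of_le {X T Q : Subgroup G} (h : SylIn p X T) (hQ : IsPGroup p Q) (hTQ : T ≤ Q)
    (hQX : Q ≤ X) : Q = T := by
  have h1 := Nat.le_of_dvd (pow_pos hp.out.pos _) (card_dvd_of_pgroup_le X Q hQX hQ)
  rw [← h.2] at h1
  exact (Subgroup.eq_of_le_of_card_ge hTQ h1).symm

theorem sylIn_mono {X Y T : Subgroup G} (h : SylIn p X T) (hTY : T ≤ Y) (hYX : Y ≤ X) :
    SylIn p Y T := by
  refine ⟨hTY, ?_⟩
  have h1 := card_dvd_of_pgroup_le Y T hTY (sylIn_isPGroup h)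
  rw [h.2] at h1 ⊢
  have h2 : (Nat.card X).factorization p ≤ (Nat.card Y).factorization p :=
    (Nat.pow_dvd_pow_iff_le_right hp.out.one_lt).1 h1
  have h3 : (Nat.card Y).factorization p ≤ (Nat.card X).factorization p :=
    (Nat.factorization_le_iff_dvd Nat.card_pos.ne' Nat.card_pos.ne').2
      (Subgroup.card_dvd_of_le hYX) p
  rw [le_antisymm h2 h3]

theorem exists_mem_normalizer_not_mem_of_pgroup {T S : Subgroup G} (hS : IsPGroup p S)
    (hle : T ≤ S) (hne : T ≠ S) :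
    ∃ x ∈ S, x ∈ Subgroup.normalizer (T : Set G) ∧ x ∉ T := by
  haveI : Group.IsNilpotent ↥S := hS.isNilpotent
  have hnc := Group.normalizerCondition_of_isNilpotent (G := ↥S)
  have hlt : T.subgroupOf S < ⊤ := by
    rw [lt_top_iff_ne_top]
    intro h
    rw [Subgroup.subgroupOf_eq_top] at h
    exact hne (le_antisymm hle h)
  have h2 := hnc _ hlt
  obtain ⟨x, hx1, hx2⟩ := SetLike.exists_of_lt h2
  rw [← Subgroup.subgroupOf_normalizer_eq hle, Subgroup.mem_subgroupOf] at hx1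
  rw [Subgroup.mem_subgroupOf] at hx2
  exact ⟨x, x.2, hx1, hx2⟩

theorem sylIn_of_normalizer_le {X Y T : Subgroup G} (h : SylIn p Y T) (hYX : Y ≤ X)
    (hN : X ⊓ Subgroup.normalizer (T : Set G) ≤ Y) : SylIn p X T := by
  obtain ⟨S, hS, hTS⟩ := exists_sylIn_ge X T (h.1.trans hYX) (sylIn_isPGroup h)
  by_cases hne : T = S
  · rw [hne]; exact hS
  · exfalso
    obtain ⟨x, hxS, hxN, hxT⟩ := exists_mem_normalizer_not_mem_of_pgroup (sylIn_isPGroup hS) hTS hne
    have hQ := sylIn_eq_of_le h (Q := S ⊓ Subgroup.normalizer (T : Set G))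
      ((sylIn_isPGroup hS).to_le inf_le_left) (le_inf hTS Subgroup.le_normalizer)
      ((inf_le_inf_right _ hS.1).trans hN)
    have hx : x ∈ S ⊓ Subgroup.normalizer (T : Set G) := ⟨hxS, hxN⟩
    rw [hQ] at hx
    exact hxT hx

/-! ### `Z(J(T))` -/

theorem zj_le (T : Subgroup G) : Cfsg.centerThompsonAOf T ≤ T := by
  rw [Cfsg.Agent.helper3.centerThompsonAOf_eq_zjI]
  exact Cfsg.Agent.helper3.zjI_le Cfsg.Agent.helper3.zjFamily_famAb T

theorem normalizer_le_normalizer_zj (T : Subgroup G) :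
    Subgroup.normalizer (T : Set G) ≤
      Subgroup.normalizer ((Cfsg.centerThompsonAOf T : Subgroup G) : Set G) := by
  rw [Cfsg.Agent.helper3.centerThompsonAOf_eq_zjI]
  exact Cfsg.Agent.helper3.normalizer_le_normalizer_zjI Cfsg.Agent.helper3.zjFamily_famAb T

theorem zj_ne_bot {T : Subgroup G} (hT : IsPGroup p T) (hne : T ≠ ⊥) :
    Cfsg.centerThompsonAOf T ≠ ⊥ := by
  intro h
  have h1 := Cfsg.Agent.helper15.ThA.center_le_centerThompsonAOf T
  rw [h, le_bot_iff] at h1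
  haveI : Nontrivial ↥T := (Subgroup.nontrivial_iff_ne_bot T).2 hne
  haveI hcn : Nontrivial (Subgroup.center ↥T) := hT.center_nontrivial
  obtain ⟨z, hz⟩ := exists_ne (1 : Subgroup.center ↥T)
  have hzm : ((z : ↥T) : G) ∈ T ⊓ Subgroup.centralizer (T : Set G) := by
    refine ⟨(z : ↥T).2, ?_⟩
    refine Subgroup.mem_centralizer_iff.2 ?_
    intro t ht
    have := Subgroup.mem_center_iff.1 z.2 ⟨t, ht⟩
    exact congrArg Subtype.val this
  rw [h1, Subgroup.mem_bot] at hzm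
  apply hz
  apply Subtype.ext
  apply Subtype.ext
  exact hzm

/-! ### Odd order: no `Qd(p)` -/

theorem even_card_qd (hp2 : p ≠ 2) : 2 ∣ Nat.card ↥(Cfsg.qd p) := by
  rw [Cfsg.Agent.helper4.QdS.card_qd]
  apply Dvd.dvd.mul_left
  have hodd : Odd p := hp.out.odd_of_ne_two hp2
  obtain ⟨k, hk⟩ := hodd
  have : p ^ 2 - 1 = 2 * (2 * k ^ 2 + 2 * k) := by
    rw [hk]
    have : (2 * k + 1) ^ 2 = 2 * (2 * k ^ 2 + 2 * k) + 1 := by ring
    rw [this]; omega
  rw [this]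
  exact dvd_mul_right _ _

theorem qd_free_of_odd {X : Type u} [Group X] [Finite X] (hodd : Odd (Nat.card X)) (hp2 : p ≠ 2) :
    ¬ ∃ (K R : Subgroup X) (hR : (R.subgroupOf K).Normal),
      Nonempty ((K ⧸ R.subgroupOf K) ≃* ↥(Cfsg.qd p)) := by
  rintro ⟨K, R, hR, ⟨e⟩⟩
  have h1 : Nat.card (↥K ⧸ R.subgroupOf K) = Nat.card ↥(Cfsg.qd p) := Nat.card_congr e.toEquiv
  have h2 : Nat.card (↥K ⧸ R.subgroupOf K) ∣ Nat.card ↥K :=
    Subgroup.card_quotient_dvd_card _
  have h3 : Nat.card ↥K ∣ Nat.card X := Subgroup.card_subgroup_dvd_card K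
  have h4 : 2 ∣ Nat.card X := by
    rw [h1] at h2
    exact ((even_card_qd hp2).trans h2).trans h3
  exact (Nat.not_even_iff_odd.2 hodd) (even_iff_two_dvd.2 h4)

theorem not_inv_qd_of_odd {X : Type u} [Group X] [Finite X] (hodd : Odd (Nat.card X))
    (hp2 : p ≠ 2) : ¬ Cfsg.Agent.helper3.Inv ↥(Cfsg.qdOver (ZMod p)) X := by
  rintro ⟨K, ψ, hψ⟩
  have h2 : Nat.card ↥(Cfsg.qdOver (ZMod p)) ∣ Nat.card ↥K := Subgroup.card_dvd_of_surjective ψ hψ
  have h3 : Nat.card ↥K ∣ Nat.card X := Subgroup.card_subgroup_dvd_card K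
  have h0 : 2 ∣ Nat.card ↥(Cfsg.qdOver (ZMod p)) := even_card_qd hp2
  exact (Nat.not_even_iff_odd.2 hodd) (even_iff_two_dvd.2 ((h0.trans h2).trans h3))

end Cfsg.Agent.helper15.BL
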