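import Mathlib
import Cfsg.Agent.Lib_helper15_BL9

set_option autoImplicit false
set_option linter.style.haveILetI false
set_option linter.unusedSectionVars false
set_option maxHeartbeats 1600000

/-! Relative `ZJ`-theorem and `p`-stability in subgroups of a group of odd order. -/

namespace Cfsg.Agent.helper15.BL

open Cfsg.Agent.helper7 Cfsg.Agent.helper15
open scoped commutatorElement

universe u

variable {G : Type u} [Group G] [Finite G] {p : ℕ} [hp : Fact p.Prime]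

theorem centralizer_pCore_le (X : Subgroup G)
    (hc : X ⊓ Subgroup.centralizer ((piCoreIn {p} X : Subgroup G) : Set G) ≤ piCoreIn {p} X) :
    Subgroup.centralizer (Cfsg.pCore p ↥X : Set ↥X) ≤ Cfsg.pCore p ↥X := by
  have hcore : (Cfsg.pCore p ↥X).map X.subtype = piCoreIn {p} X := map_pCore_eq hp.out X
  intro x hx
  have h1 : (x : G) ∈ X ⊓ Subgroup.centralizer ((piCoreIn {p} X : Subgroup G) : Set G) := by
    refine ⟨x.2, ?_⟩
    refine Subgroup.mem_centralizer_iff.2 ?_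
    intro y hy
    rw [← hcore] at hy
    obtain ⟨y', hy', rfl⟩ := hy
    have := Subgroup.mem_centralizer_iff.1 hx y' hy'
    exact congrArg Subtype.val this
  have h2 := hc h1
  rw [← hcore] at h2
  obtain ⟨x', hx', hxx⟩ := h2
  have : x' = x := Subtype.ext hxx
  rw [← this]; exact hx'

theorem zj_normal_rel (hodd : Odd (Nat.card G)) (hp2 : p ≠ 2) (X : Subgroup G)
    (hc : X ⊓ Subgroup.centralizer ((piCoreIn {p} X : Subgroup G) : Set G) ≤ piCoreIn {p} X)
    (T : Subgroup G) (hT : SylIn p X T) :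
    X ≤ Subgroup.normalizer ((Cfsg.centerThompsonAOf T : Subgroup G) : Set G) := by
  obtain ⟨S, hS⟩ := exists_sylow_of_sylIn X T hT
  have hoddX : Odd (Nat.card ↥X) := hodd.of_dvd_nat (Subgroup.card_subgroup_dvd_card X)
  have hc' := centralizer_pCore_le X hc
  have hn := Cfsg.Agent.S0664.result hp2 (qd_free_of_odd hoddX hp2) hc' S
  have hmap : Cfsg.centerThompsonAOf T =
      (Cfsg.centerThompsonAOf (S : Subgroup ↥X)).map X.subtype := by
    rw [← hS]
    exact Cfsg.Agent.helper3.centerThompsonAOf_map X.subtype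
      (fun x _ hx => Subtype.ext hx)
  rw [hmap]
  apply le_normalizer_map_subtype X le_rfl
  rw [Subgroup.normalizer_eq_top_iff.2 hn]
  exact le_top

theorem scn_abelian {P₀ A : Subgroup G} (hA : Cfsg.IsSCN P₀ A) :
    A ≤ Subgroup.centralizer (A : Set G) := by
  intro x hx
  have h1 : x ∈ P₀ ⊓ Subgroup.centralizer (A : Set G) := by rw [hA.2.2]; exact hx
  exact h1.2

theorem scn_le_core (hodd : Odd (Nat.card G)) (hp2 : p ≠ 2) (M : Subgroup G)
    (hc : M ⊓ Subgroup.centralizer ((piCoreIn {p} M : Subgroup G) : Set G) ≤ piCoreIn {p} M)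
    (P₀ A : Subgroup G) (hP₀M : P₀ ≤ M) (hFP : piCoreIn {p} M ≤ P₀)
    (hA : Cfsg.IsSCN P₀ A) : A ≤ piCoreIn {p} M := by
  have hcore : (Cfsg.pCore p ↥M).map M.subtype = piCoreIn {p} M := map_pCore_eq hp.out M
  have hoddM : Odd (Nat.card ↥M) := hodd.of_dvd_nat (Subgroup.card_subgroup_dvd_card M)
  have hc' := centralizer_pCore_le M hc
  have hAab := scn_abelian hA
  haveI hVn : (Cfsg.pCore p ↥M).Normal := Cfsg.Agent.helper1.pCore_normal p
  have hVp : IsPGroup p ↥(Cfsg.pCore p ↥M) := Cfsg.Agent.helper1.pCore_isPGroup p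
  have hCV : IsPGroup p ↥(Subgroup.centralizer (Cfsg.pCore p ↥M : Set ↥M)) := hVp.to_le hc'
  have hst : Cfsg.IsNormalizerPStable p ↥M :=
    Cfsg.Agent.helper3.isNormalizerPStable_of_not_inv_qd hp2 (not_inv_qd_of_odd hoddM hp2)
  intro a ha
  have haM : a ∈ M := hP₀M (hA.1 ha)
  have hgA : (⟨a, haM⟩ : ↥M) ∈ A.subgroupOf M := ha
  have h1 : ⁅Cfsg.pCore p ↥M, Subgroup.zpowers (⟨a, haM⟩ : ↥M)⁆ ≤ A.subgroupOf M := by
    rw [Subgroup.commutator_le]
    intro v hv h hh
    have hhA : h ∈ A.subgroupOf M := (Subgroup.zpowers_le.2 hgA) hh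
    have hvP : (v : G) ∈ P₀ := by
      apply hFP
      rw [← hcore]
      exact ⟨v, hv, rfl⟩
    have hvN := hA.2.1 hvP
    have h2 : (v : G) * (h : G) * (v : G)⁻¹ ∈ A := (Subgroup.mem_normalizer_iff.1 hvN _).1 hhA
    show ((v * h * v⁻¹ * h⁻¹ : ↥M) : G) ∈ A
    have h3 : ((v * h * v⁻¹ * h⁻¹ : ↥M) : G) = (v : G) * (h : G) * (v : G)⁻¹ * (h : G)⁻¹ := by
      simp
    rw [h3]
    exact A.mul_mem h2 (A.inv_mem hhA)
  have hq : ⁅⁅Cfsg.pCore p ↥M, Subgroup.zpowers (⟨a, haM⟩ : ↥M)⁆,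
      Subgroup.zpowers (⟨a, haM⟩ : ↥M)⁆ = ⊥ := by
    rw [eq_bot_iff]
    refine (Subgroup.commutator_mono h1 (Subgroup.zpowers_le.2 hgA)).trans ?_
    rw [Subgroup.commutator_le]
    intro x hx y hy
    rw [Subgroup.mem_bot, commutatorElement_eq_one_iff_commute]
    apply Subtype.ext
    have hx' : (x : G) ∈ A := hx
    have hy' : (y : G) ∈ A := hy
    have := Subgroup.mem_centralizer_iff.1 (hAab hy') _ hx'
    show (x : G) * (y : G) = (y : G) * (x : G)
    exact this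
  have hmem := Cfsg.Agent.helper10.mem_pCore_of_quadratic_normal hst (Cfsg.pCore p ↥M) hVp hCV
    (⟨a, haM⟩ : ↥M) hq
  rw [← hcore]
  exact ⟨⟨a, haM⟩, hmem, rfl⟩

end Cfsg.Agent.helper15.BL
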