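import Mathlib
import Cfsg.Prelude.Def_OddOrder
import Cfsg.Prelude.Def_OddOrderLocal
import Cfsg.Prelude.Def_CaseTheorems
import Cfsg.Agent.Lib_helper23_Tr5
import Cfsg.Agent.Lib_helper7_RelCore
import Cfsg.Agent.Lib_helper7_Fitting
import Cfsg.Agent.Lib_lead_Coprime3

set_option autoImplicit false
set_option linter.style.haveILetI false
set_option linter.unusedSectionVars false
set_option maxHeartbeats 1600000

namespace Cfsg.Agent.helper23

open Cfsg.Agent.helper7
open scoped commutatorElement Pointwise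

universe u

variable {G : Type u} [Group G] [Finite G]

/-- `O_{p'}(X)` lies in the statement-level `O_{π(A)'}(X)` for a `p`-group `A`. -/
theorem relO_le_piCoreOf {p : ℕ} (hp : p.Prime) (A X : Subgroup G) (hAp : IsPGroup p A) :
    relO p X ≤ Cfsg.piCoreOf (Cfsg.primesNotDvd (Nat.card A)) X := by
  haveI : Fact p.Prime := ⟨hp⟩
  apply le_piCoreOf _ X _ (relO_le p X) (relO_normal p X)
  intro q hq hqd
  refine ⟨hq, ?_⟩
  intro hqA
  obtain ⟨k, hk⟩ := IsPGroup.iff_card.1 hAp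
  rw [hk] at hqA
  have hqp : q = p := (Nat.prime_dvd_prime_iff_eq hq hp).1 (hq.dvd_of_dvd_pow hqA)
  subst hqp
  have hcop := relO_coprime hq X
  exact hq.one_lt.ne' (Nat.Coprime.eq_one_of_dvd hcop.symm hqd)

/-- The transitivity hypothesis for a `p`-group `A` from the statement about invariant
`p'`-subgroups. -/
theorem transHyp_of_main {p : ℕ} [hp : Fact p.Prime] (A : Subgroup G) (hA1 : A ≠ ⊥) (hA2 : A ≠ ⊤)
    (hAp : IsPGroup p A)
    (main : ∀ X : Subgroup G, X ≠ ⊤ → A ≤ X → ∀ Y : Subgroup G, Y ≤ X → (Nat.card Y).Coprime p →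
      A ≤ Subgroup.normalizer (Y : Set G) → Y ≤ relO p X) :
    Cfsg.TransitivityHypothesis A := by
  have hpA : p ∣ Nat.card A := by
    obtain ⟨k, hk⟩ := IsPGroup.iff_card.1 hAp
    rcases Nat.eq_zero_or_pos k with h0 | h0
    · exfalso
      apply hA1
      apply Subgroup.eq_bot_of_card_eq
      rw [hk, h0, pow_zero]
    · rw [hk]; exact dvd_pow_self p h0.ne'
  refine ⟨hA1, hA2, ?_⟩
  intro X hX hAX
  apply le_antisymm
  · apply sSup_le
    rintro Y ⟨hYX, hYπ, hAY⟩
    have hcop : (Nat.card Y).Coprime p := by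
      rw [Nat.coprime_comm, Nat.Prime.coprime_iff_not_dvd hp.out]
      intro hd
      exact (hYπ p hp.out hd).2 hpA
    exact (main X hX hAX Y hYX hcop hAY).trans (relO_le_piCoreOf hp.out A X hAp)
  · apply le_sSup
    exact ⟨piCoreOf_le _ X, piCoreOf_card _ X, hAX.trans (le_normalizer_piCoreOf _ X)⟩

/-- Relative balance lemma with the weak normalizing hypothesis. -/
theorem balance_pprime_sub' {p : ℕ} (hp : p.Prime) {K : Subgroup G}
    (hL : Cfsg.pLayer p ↥K = ⊥) {P₁ X : Subgroup G} (hP₁K : P₁ ≤ K) (hXK : X ≤ K)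
    (hP₁ : IsPGroup p ↥P₁) (hX : (Nat.card ↥X).Coprime p)
    (hXP : X ≤ Subgroup.centralizer (P₁ : Set G))
    (hN : K ⊓ Subgroup.centralizer (P₁ : Set G) ⊓ relD p K ≤ Subgroup.normalizer (X : Set G)) :
    X ≤ relO p K := by
  have h1 : X.subgroupOf K ≤ Cfsg.pPrimeCore p ↥K := by
    apply balance_pprime hp hL (P₁ := P₁.subgroupOf K)
    · exact hP₁.comap_of_injective _ (Subgroup.subtype_injective K)
    · rw [Nat.card_congr (Subgroup.subgroupOfEquivOfLe hXK).toEquiv]; exact hX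
    · exact subgroupOf_le_centralizer hXP
    · intro y hy
      have hy1 : (y : G) ∈ Subgroup.centralizer (P₁ : Set G) := by
        have := centralizer_subgroupOf_le hP₁K hy.1
        exact Subgroup.mem_subgroupOf.1 this
      have hy2 : (y : G) ∈ relD p K := (mem_relD_iff y.2).2 hy.2
      have hy3 := hN ⟨⟨y.2, hy1⟩, hy2⟩
      rw [Subgroup.mem_normalizer_iff]
      intro x
      rw [Subgroup.mem_subgroupOf, Subgroup.mem_subgroupOf]
      exact Subgroup.mem_normalizer_iff.1 hy3 x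
  have h2 := Subgroup.map_mono (f := K.subtype) h1
  rwa [Subgroup.map_subgroupOf_eq_of_le hXK] at h2

theorem exists_decomp_of_coprime {n m : ℕ} (h : n.Coprime m) (y : G) :
    ∃ u v : ℤ, y = (y ^ n) ^ u * (y ^ m) ^ v := by
  refine ⟨Nat.gcdA n m, Nat.gcdB n m, ?_⟩
  have h1 := Nat.gcd_eq_gcd_ab n m
  rw [Nat.Coprime] at h
  rw [h] at h1
  have h2 : y = y ^ ((n : ℤ) * Nat.gcdA n m + (m : ℤ) * Nat.gcdB n m) := by
    rw [← h1]; simp
  rw [zpow_add, zpow_mul, zpow_mul, zpow_natCast, zpow_natCast] at h2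
  exact h2

/-- If `A ≤ O_{p',p}(M)` is an abelian `p`-subgroup containing all `p`-elements of `C_M(A)`, then
every `A`-invariant `p'`-subgroup of the solvable group `M` lies in `O_{p'}(M)`. -/
theorem inv_le_relO_of_le_relD {p : ℕ} [hp : Fact p.Prime] (M : Subgroup G)
    (hMs : Group.IsSolvable ↥M) (A : Subgroup G) (hAM : A ≤ M) (hAp : IsPGroup p A)
    (hAD : A ≤ relD p M)
    (hCA : ∀ c ∈ M ⊓ Subgroup.centralizer (A : Set G), (∃ k : ℕ, c ^ p ^ k = 1) → c ∈ A)
    (Y : Subgroup G) (hYM : Y ≤ M) (hY : (Nat.card Y).Coprime p)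
    (hAY : A ≤ Subgroup.normalizer (Y : Set G)) : Y ≤ relO p M := by
  obtain ⟨K, hKdef⟩ : ∃ K : Subgroup G, K = relO p M := ⟨_, rfl⟩
  rw [← hKdef]
  have hKM : K ≤ M := by rw [hKdef]; exact relO_le p M
  have hMK : M ≤ Subgroup.normalizer (K : Set G) := by rw [hKdef]; exact relO_normal p M
  have hKcop : (Nat.card K).Coprime p := by rw [hKdef]; exact relO_coprime hp.out M
  have hDn : M ≤ Subgroup.normalizer ((relD p M : Subgroup G) : Set G) := relD_normal p M
  -- step a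
  have stepa : ∀ y ∈ Y, ∀ a ∈ A, y * a * y⁻¹ * a⁻¹ ∈ K := by
    intro y hy a ha
    have h1 : y * a * y⁻¹ * a⁻¹ ∈ Y := by
      have h2 : a * y⁻¹ * a⁻¹ ∈ Y :=
        (Subgroup.mem_normalizer_iff.1 (hAY ha) y⁻¹).1 (Y.inv_mem hy)
      have h3 : y * a * y⁻¹ * a⁻¹ = y * (a * y⁻¹ * a⁻¹) := by group
      rw [h3]; exact Y.mul_mem hy h2
    have h4 : y * a * y⁻¹ * a⁻¹ ∈ relD p M := by
      have h5 : y * a * y⁻¹ ∈ relD p M :=
        (Subgroup.mem_normalizer_iff.1 (hDn (hYM hy)) a).1 (hAD ha)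
      exact Subgroup.mul_mem _ h5 (Subgroup.inv_mem _ (hAD ha))
    have h6 : (orderOf (y * a * y⁻¹ * a⁻¹)).Coprime p :=
      Nat.Coprime.coprime_dvd_left (Y.orderOf_dvd_natCard h1) hY
    rw [hKdef]
    exact mem_relO_of_coprime hp.out M h4 h6
  -- the `p'`-group `K ⊔ Y`
  have hKYcop : (Nat.card (K ⊔ Y : Subgroup G)).Coprime p := by
    rw [coprime_card_iff_piGrp hp.out]
    apply PiGrp.sup
    · exact (coprime_card_iff_piGrp hp.out).1 hKcop
    · exact (coprime_card_iff_piGrp hp.out).1 hY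
    · exact hYM.trans hMK
  have hKYM : K ⊔ Y ≤ M := sup_le hKM hYM
  obtain ⟨X, hXdef⟩ : ∃ X : Subgroup G, X = (K ⊔ Y) ⊓ Subgroup.centralizer (A : Set G) :=
    ⟨_, rfl⟩
  have hXC : X ≤ Subgroup.centralizer (A : Set G) := by rw [hXdef]; exact inf_le_right
  have hXKY : X ≤ K ⊔ Y := by rw [hXdef]; exact inf_le_left
  have hAX : A ≤ Subgroup.normalizer (X : Set G) := by
    refine le_trans ?_ (Subgroup.centralizer_le_normalizer (X : Set G))
    intro a ha
    rw [Subgroup.mem_centralizer_iff]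
    intro x hx
    exact (Subgroup.mem_centralizer_iff.1 (hXC hx) a ha).symm
  -- step c
  have stepc : X ≤ K := by
    rw [hKdef]
    apply balance_pprime_sub' hp.out (pLayer_eq_bot_of_solvable p hMs) hAM
      (hXKY.trans hKYM) hAp
      (Nat.Coprime.coprime_dvd_left (Subgroup.card_dvd_of_le hXKY) hKYcop) hXC
    rintro y ⟨⟨hyM, hyC⟩, hyD⟩
    obtain ⟨k, hk⟩ := relD_pow_mem hp.out M hyD
    rw [← hKdef] at hk
    have hcop : (p ^ k).Coprime (Nat.card K) := Nat.Coprime.pow_left k hKcop.symm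
    obtain ⟨u, v, huv⟩ := exists_decomp_of_coprime hcop y
    rw [huv]
    apply Subgroup.mul_mem
    · apply Subgroup.zpow_mem
      apply Subgroup.le_normalizer
      rw [hXdef]
      refine ⟨Subgroup.mem_sup_left hk, ?_⟩
      exact Subgroup.pow_mem _ hyC _
    · apply Subgroup.zpow_mem
      apply hAX
      apply hCA _ ⟨Subgroup.pow_mem _ hyM _, Subgroup.pow_mem _ hyC _⟩
      refine ⟨k, ?_⟩
      rw [← pow_mul, mul_comm, pow_mul]
      have h1 : (⟨y ^ p ^ k, hk⟩ : ↥K) ^ Nat.card K = 1 := pow_card_eq_one'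
      have h2 := congrArg Subtype.val h1
      rw [Subgroup.coe_pow, Subgroup.coe_one] at h2
      exact h2
  -- step d
  intro y hy
  haveI hAs : Group.IsSolvable ↥A := Cfsg.Agent.lead.solvable_of_le hAM hMs
  have hAKY : A ≤ Subgroup.normalizer ((K ⊔ Y : Subgroup G) : Set G) := by
    intro a ha
    apply mem_normalizer_of_cj_eq
    rw [cj, Subgroup.map_sup]
    have e1 : cj a K = K := cj_eq_of_mem_normalizer (hMK (hAM ha))
    have e2 : cj a Y = Y := cj_eq_of_mem_normalizer (hAY ha)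
    rw [cj] at e1 e2
    rw [e1, e2]
  have hfix : ∀ a ∈ A, a * y * a⁻¹ * y⁻¹ ∈ K := by
    intro a ha
    have h1 := K.inv_mem (stepa y hy a ha)
    have h2 : (y * a * y⁻¹ * a⁻¹)⁻¹ = a * y * a⁻¹ * y⁻¹ := by group
    rw [h2] at h1
    exact h1
  obtain ⟨c, hc, hyc⟩ := Cfsg.Agent.lead.coprime_fixed_coset A (K ⊔ Y) hAKY
    (by
      obtain ⟨k, hk⟩ := IsPGroup.iff_card.1 hAp
      rw [hk]
      exact Nat.Coprime.pow_left k hKYcop.symm)
    (Or.inl hAs) K le_sup_left (hKYM.trans hMK) (hAM.trans hMK) y (Subgroup.mem_sup_right hy) hfix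
  have hcK : c ∈ K := stepc (by rw [hXdef]; exact hc)
  have h3 : y⁻¹ = y⁻¹ * c * c⁻¹ := by group
  have h4 : y⁻¹ ∈ K := by
    rw [h3]; exact K.mul_mem hyc (K.inv_mem hcK)
  have h5 := K.inv_mem h4
  rw [inv_inv] at h5
  exact h5

end Cfsg.Agent.helper23
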