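import Cfsg.Statements.S1457
import Mathlib
import Cfsg.Agent.S1465
import Cfsg.Agent.Lib_helper7_Quot
import Cfsg.Agent.Lib_helper1_Core
-- import your own Cfsg.Agent.* helpers here

set_option autoImplicit false
open Cfsg

namespace Cfsg.Agent.S1457



/-- Let G be a solvable group of odd order, p a prime, S a Sylow p-subgroup of G and A an abelian subgroup of S normal in S. Then A ≤ O_{p',p}(G). -/
theorem result {G : Type*} [Group G] [Finite G] [Group.IsSolvable G] (hodd : Odd (Nat.card G)) (p : ℕ) [Fact p.Prime] (S : Sylow p G) (A : Subgroup G) (hA : A ≤ (S : Subgroup G)) (hAc : IsMulCommutative A)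
    (hAn : (S : Subgroup G) ≤ Subgroup.normalizer (A : Set G)) :
    A ≤ Cfsg.pPrimePCore p G := by
  have hpp : p.Prime := Fact.out
  by_cases hp : p = 2
  · -- trivial Sylow subgroup
    intro a ha
    have haS : a ∈ (S : Subgroup G) := hA ha
    obtain ⟨k, hk⟩ := S.isPGroup' ⟨a, haS⟩
    have hk' : a ^ (p ^ k) = 1 := by
      have := congrArg Subtype.val hk
      simpa using this
    have h1 : orderOf a ∣ p ^ k := orderOf_dvd_of_pow_eq_one hk'
    have h2 : orderOf a ∣ Nat.card G := orderOf_dvd_natCard a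
    have hcop : Nat.Coprime (p ^ k) (Nat.card G) := by
      rw [hp]
      exact Nat.Coprime.pow_left k (Nat.coprime_two_left.mpr hodd)
    have h3 : orderOf a ∣ Nat.gcd (p ^ k) (Nat.card G) := Nat.dvd_gcd h1 h2
    rw [hcop.gcd_eq_one] at h3
    have h4 : a = 1 := orderOf_eq_one_iff.mp (Nat.dvd_one.mp h3)
    rw [h4]; exact Subgroup.one_mem _
  · -- pass to the quotient by the p'-core
    haveI hKn : (Cfsg.pPrimeCore p G).Normal := Cfsg.Agent.helper1.pPrimeCore_normal p
    have hsurj : Function.Surjective (QuotientGroup.mk' (Cfsg.pPrimeCore p G)) :=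
      QuotientGroup.mk'_surjective _
    have hodd' : Odd (Nat.card (G ⧸ Cfsg.pPrimeCore p G)) :=
      Odd.of_dvd_nat hodd (Subgroup.card_quotient_dvd_card _)
    haveI hTn : (Cfsg.pCore p (G ⧸ Cfsg.pPrimeCore p G)).Normal :=
      Cfsg.Agent.helper1.pCore_normal p
    have hTp : IsPGroup p ↥(Cfsg.pCore p (G ⧸ Cfsg.pPrimeCore p G)) :=
      Cfsg.Agent.helper1.pCore_isPGroup p
    have hO : Cfsg.pPrimeCore p (G ⧸ Cfsg.pPrimeCore p G) = ⊥ :=
      Cfsg.Agent.helper7.pPrimeCore_quotient_eq_bot hpp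
    -- the image of A
    have hAbar_c : IsMulCommutative ↥(A.map (QuotientGroup.mk' (Cfsg.pPrimeCore p G))) := by
      refine ⟨⟨fun x y => ?_⟩⟩
      obtain ⟨x, a, ha, rfl⟩ := x
      obtain ⟨y, b, hb, rfl⟩ := y
      apply Subtype.ext
      show QuotientGroup.mk' (Cfsg.pPrimeCore p G) a * QuotientGroup.mk' (Cfsg.pPrimeCore p G) b
        = QuotientGroup.mk' (Cfsg.pPrimeCore p G) b * QuotientGroup.mk' (Cfsg.pPrimeCore p G) a
      rw [← map_mul, ← map_mul]
      have := (IsMulCommutative.is_comm (M := ↥A)).comm ⟨a, ha⟩ ⟨b, hb⟩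
      have h' : a * b = b * a := congrArg Subtype.val this
      rw [h']
    have hAbar_p : IsPGroup p ↥(A.map (QuotientGroup.mk' (Cfsg.pPrimeCore p G))) :=
      (S.isPGroup'.to_le hA).map _
    have hTS : Cfsg.pCore p (G ⧸ Cfsg.pPrimeCore p G)
        ≤ (S : Subgroup G).map (QuotientGroup.mk' (Cfsg.pPrimeCore p G)) := by
      have := Cfsg.Agent.helper1.pCore_le_sylow (S.mapSurjective hsurj)
      rwa [Sylow.coe_mapSurjective] at this
    have hTN : Cfsg.pCore p (G ⧸ Cfsg.pPrimeCore p G) ≤ Subgroup.normalizer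
        ((A.map (QuotientGroup.mk' (Cfsg.pPrimeCore p G)) : Subgroup (G ⧸ Cfsg.pPrimeCore p G)) :
          Set (G ⧸ Cfsg.pPrimeCore p G)) :=
      hTS.trans ((Subgroup.map_mono hAn).trans (Subgroup.le_normalizer_map _))
    have hS : ∀ B ∈ ({A.map (QuotientGroup.mk' (Cfsg.pPrimeCore p G))} :
        Set (Subgroup (G ⧸ Cfsg.pPrimeCore p G))),
        IsMulCommutative B ∧ IsPGroup p B ∧ Cfsg.pCore p (G ⧸ Cfsg.pPrimeCore p G)
          ≤ Subgroup.normalizer (B : Set (G ⧸ Cfsg.pPrimeCore p G)) := by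
      intro B hB
      rw [Set.mem_singleton_iff] at hB
      subst hB
      exact ⟨hAbar_c, hAbar_p, hTN⟩
    have key := (Cfsg.Agent.S1465.result (G := G ⧸ Cfsg.pPrimeCore p G) hodd' p hp
      (Cfsg.pCore p (G ⧸ Cfsg.pPrimeCore p G)) hTp _ hS).2 hO inf_le_left
    rw [sSup_singleton] at key
    intro a ha
    show a ∈ (Cfsg.pCore p (G ⧸ Cfsg.pPrimeCore p G)).comap
      (QuotientGroup.mk' (Cfsg.pPrimeCore p G))
    exact key (Subgroup.mem_map_of_mem _ ha)

end Cfsg.Agent.S1457
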