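import Mathlib

set_option autoImplicit false
set_option linter.style.haveILetI false
set_option linter.unusedSectionVars false

namespace Cfsg.Agent.helper19

open scoped commutatorElement

/-- Type synonym carrying the Baer group structure. -/
def BaerT (S : Type*) := S

namespace BaerT

variable {S : Type*} [Group S]

def mk (x : S) : BaerT S := x
def out (x : BaerT S) : S := x

@[simp] theorem out_mk (x : S) : out (mk x) = x := rfl
@[simp] theorem mk_out (x : BaerT S) : mk (out x) = x := rfl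

theorem out_injective : Function.Injective (out : BaerT S → S) := fun _ _ h => h

end BaerT

section
variable {S : Type*} [Group S]

theorem comm_bil_left (H1 : ∀ x y z : S, Commute ⁅x, y⁆ z) (x y z : S) :
    ⁅x * y, z⁆ = ⁅x, z⁆ * ⁅y, z⁆ := by
  rw [commutatorElement_mul_left_eq_conj_mul]
  have h := (H1 y z x).eq
  calc x * ⁅y, z⁆ * x⁻¹ * ⁅x, z⁆ = (⁅y, z⁆ * x) * x⁻¹ * ⁅x, z⁆ := by rw [h]
    _ = ⁅y, z⁆ * ⁅x, z⁆ := by group
    _ = ⁅x, z⁆ * ⁅y, z⁆ := (H1 y z ⁅x, z⁆).eq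

theorem comm_bil_right (H1 : ∀ x y z : S, Commute ⁅x, y⁆ z) (x y z : S) :
    ⁅x, y * z⁆ = ⁅x, y⁆ * ⁅x, z⁆ := by
  rw [commutatorElement_mul_right_eq_mul_conj]
  have h := (H1 x z y).eq
  calc ⁅x, y⁆ * y * ⁅x, z⁆ * y⁻¹ = ⁅x, y⁆ * (y * ⁅x, z⁆) * y⁻¹ := by group
    _ = ⁅x, y⁆ * (⁅x, z⁆ * y) * y⁻¹ := by rw [h]
    _ = ⁅x, y⁆ * ⁅x, z⁆ := by group

theorem comm_central_right (x y c : S) (hc : ∀ u : S, Commute c u) :
    ⁅x, y * c⁆ = ⁅x, y⁆ := by
  rw [commutatorElement_def, commutatorElement_def]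
  have h1 := (hc x).eq
  have h2 := (hc y).eq
  calc x * (y * c) * x⁻¹ * (y * c)⁻¹ = x * y * (c * x⁻¹) * c⁻¹ * y⁻¹ := by group
    _ = x * y * (x⁻¹ * c) * c⁻¹ * y⁻¹ := by rw [((hc x).inv_right).eq]
    _ = x * y * x⁻¹ * y⁻¹ := by group

theorem comm_central_left (x y c : S) (hc : ∀ u : S, Commute c u) :
    ⁅x * c, y⁆ = ⁅x, y⁆ := by
  rw [commutatorElement_def, commutatorElement_def]
  calc x * c * y * (x * c)⁻¹ * y⁻¹ = x * (c * y) * c⁻¹ * x⁻¹ * y⁻¹ := by group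
    _ = x * (y * c) * c⁻¹ * x⁻¹ * y⁻¹ := by rw [(hc y).eq]
    _ = x * y * x⁻¹ * y⁻¹ := by group

end

end Cfsg.Agent.helper19
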