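import Mathlib
import Cfsg.Agent.Lib_helper19_Baer0

set_option autoImplicit false
set_option linter.style.haveILetI false
set_option linter.unusedSectionVars false

namespace Cfsg.Agent.helper19

open scoped commutatorElement

section
variable {S : Type*} [Group S] (h : ℕ)

/-- The Baer operation. -/
def bop (x y : S) : S := x * y * ⁅y, x⁆ ^ h

theorem bop_one_right (x : S) : bop h x 1 = x := by simp [bop]

theorem bop_one_left (x : S) : bop h 1 x = x := by simp [bop]

theorem bop_inv_left (x : S) : bop h x⁻¹ x = 1 := by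
  have : ⁅x, x⁻¹⁆ = 1 := by rw [commutatorElement_def]; group
  simp [bop, this]

variable (H1 : ∀ x y z : S, Commute ⁅x, y⁆ z) (H2 : ∀ x y : S, ⁅x, y⁆ ^ (2 * h) = ⁅x, y⁆)

include H1 H2 in
theorem bop_comm (x y : S) : bop h x y = bop h y x := by
  unfold bop
  set c := ⁅x, y⁆ with hc
  have e1 : ⁅y, x⁆ = c⁻¹ := (commutatorElement_inv x y).symm
  have e2 : x * y = y * x * c := by
    have : x * y = c * (y * x) := by rw [hc, commutatorElement_def]; group
    rw [this, (H1 x y (y * x)).eq]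
  have e3 : c * (c⁻¹) ^ h = c ^ h := by
    have h2 : c ^ h * c ^ h = c := by rw [← pow_add, ← two_mul]; exact H2 x y
    rw [inv_pow]
    nth_rewrite 1 [← h2]
    group
  rw [e1, e2, mul_assoc, e3]

include H1 in
theorem bop_assoc (x y z : S) : bop h (bop h x y) z = bop h x (bop h y z) := by
  unfold bop
  have hcent : ∀ a b : S, ∀ n : ℕ, ∀ u : S, Commute (⁅a, b⁆ ^ n) u := fun a b n u =>
    (H1 a b u).pow_left n
  have e1 : ⁅z, x * y * ⁅y, x⁆ ^ h⁆ = ⁅z, x⁆ * ⁅z, y⁆ := by
    rw [comm_central_right _ _ _ (hcent y x h), comm_bil_right H1]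
  have e2 : ⁅y * z * ⁅z, y⁆ ^ h, x⁆ = ⁅y, x⁆ * ⁅z, x⁆ := by
    rw [comm_central_left _ _ _ (hcent z y h), comm_bil_left H1]
  rw [e1, e2, (H1 z x ⁅z, y⁆).mul_pow, (H1 y x ⁅z, x⁆).mul_pow]
  set b1 := ⁅y, x⁆ ^ h with hb1
  set b2 := ⁅z, x⁆ ^ h with hb2
  set b3 := ⁅z, y⁆ ^ h with hb3
  have c1 : ∀ u : S, Commute b1 u := hcent y x h
  have c3 : ∀ u : S, Commute b3 u := hcent z y h
  calc x * y * b1 * z * (b2 * b3) = x * y * (b1 * z) * (b2 * b3) := by group
    _ = x * y * (z * b1) * (b2 * b3) := by rw [(c1 z).eq]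
    _ = x * y * z * ((b1 * b2) * b3) := by group
    _ = x * y * z * (b3 * (b1 * b2)) := by rw [(c3 (b1 * b2)).eq]
    _ = x * (y * z * b3) * (b1 * b2) := by group

end

/-- The Baer commutative group structure on a class-two group with `2h ≡ 1` on commutators. -/
@[reducible] def baerCommGroup (S : Type*) [Group S] (h : ℕ) (H1 : ∀ x y z : S, Commute ⁅x, y⁆ z)
    (H2 : ∀ x y : S, ⁅x, y⁆ ^ (2 * h) = ⁅x, y⁆) : CommGroup (BaerT S) where
  mul x y := BaerT.mk (bop h (BaerT.out x) (BaerT.out y))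
  mul_assoc x y z := bop_assoc h H1 (BaerT.out x) (BaerT.out y) (BaerT.out z)
  one := BaerT.mk 1
  one_mul x := bop_one_left h (BaerT.out x)
  mul_one x := bop_one_right h (BaerT.out x)
  inv x := BaerT.mk (BaerT.out x)⁻¹
  inv_mul_cancel x := bop_inv_left h (BaerT.out x)
  mul_comm x y := bop_comm h H1 H2 (BaerT.out x) (BaerT.out y)

end Cfsg.Agent.helper19
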