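import Mathlib
import Cfsg.Agent.Lib_helper19_Baer1
import Cfsg.Agent.Lib_helper19_HH0

set_option autoImplicit false
set_option linter.style.haveILetI false
set_option linter.unusedSectionVars false

namespace Cfsg.Agent.helper19

open scoped commutatorElement

theorem map_bop {S : Type*} [Group S] (h : ℕ) (f : S →* S) (x y : S) :
    f (bop h x y) = bop h (f x) (f y) := by
  unfold bop
  rw [map_mul, map_mul, map_pow, map_commutatorElement]

theorem conjP_mul {X : Type*} [Group X] (G : Subgroup X) (a b : X)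
    (ha : a ∈ Subgroup.normalizer (G : Set X)) (hb : b ∈ Subgroup.normalizer (G : Set X))
    (hab : a * b ∈ Subgroup.normalizer (G : Set X)) (x : ↥G) :
    conjP G (a * b) hab x = conjP G a ha (conjP G b hb x) := by
  ext
  simp [conjP, mul_assoc]

theorem conjP_one {X : Type*} [Group X] (G : Subgroup X)
    (h1 : (1 : X) ∈ Subgroup.normalizer (G : Set X)) (x : ↥G) : conjP G 1 h1 x = x := by
  ext
  simp [conjP]

/-- Thompson's `P × Q`-type lemma for a class-two group with commutators of order `p`, `p` odd,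
where `P` only normalizes `Q`. -/
theorem baer_PQ {X : Type*} [Group X] [Finite X] {p : ℕ} [Fact p.Prime] (hp2 : p ≠ 2)
    (P Q G : Subgroup X) (hP : IsPGroup p P) (hQ : (Nat.card Q).Coprime p)
    (hPQ : P ≤ Subgroup.normalizer (Q : Set X)) (hG : IsPGroup p G)
    (hPG : P ≤ Subgroup.normalizer (G : Set X)) (hQG : Q ≤ Subgroup.normalizer (G : Set X))
    (hcl : ∀ x ∈ G, ∀ y ∈ G, ∀ z ∈ G, Commute ⁅x, y⁆ z)
    (hex : ∀ x ∈ G, ∀ y ∈ G, ⁅x, y⁆ ^ p = 1)
    (hC : G ⊓ Subgroup.centralizer (P : Set X) ≤ Subgroup.centralizer (Q : Set X)) :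
    Q ≤ Subgroup.centralizer (G : Set X) := by
  classical
  have hp : p.Prime := Fact.out
  obtain ⟨h, hh⟩ : ∃ h, 2 * h = p + 1 := by
    rcases hp.eq_two_or_odd' with h2 | ⟨k, hk⟩
    · exact absurd h2 hp2
    · exact ⟨k + 1, by omega⟩
  have H1 : ∀ x y z : ↥G, Commute ⁅x, y⁆ z := by
    intro x y z
    have := hcl x.1 x.2 y.1 y.2 z.1 z.2
    exact Subtype.ext this.eq
  have H2 : ∀ x y : ↥G, ⁅x, y⁆ ^ (2 * h) = ⁅x, y⁆ := by
    intro x y
    have h1 : ⁅x, y⁆ ^ p = 1 := Subtype.ext (by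
      have := hex x.1 x.2 y.1 y.2
      have e : ((⁅x, y⁆ ^ p : ↥G) : X) = ⁅x.1, y.1⁆ ^ p := rfl
      rw [e, this]; rfl)
    rw [hh, pow_succ, h1, one_mul]
  letI : CommGroup (BaerT ↥G) := baerCommGroup ↥G h H1 H2
  haveI : Fintype ↥Q := Fintype.ofFinite _
  haveI : Finite (BaerT ↥G) := (inferInstance : Finite ↥G)
  -- the homs
  let φ : ∀ a : X, a ∈ Subgroup.normalizer (G : Set X) → (BaerT ↥G →* BaerT ↥G) := fun a ha =>
    MonoidHom.mk' (fun v => BaerT.mk (conjP G a ha (BaerT.out v)))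
      (fun v w => map_bop h (conjP G a ha) (BaerT.out v) (BaerT.out w))
  have hφ : ∀ (a : X) (ha : a ∈ Subgroup.normalizer (G : Set X)) (v : BaerT ↥G),
      φ a ha v = BaerT.mk (conjP G a ha (BaerT.out v)) := fun a ha v => rfl
  have hφmul : ∀ (a b : X) (ha : a ∈ Subgroup.normalizer (G : Set X))
      (hb : b ∈ Subgroup.normalizer (G : Set X)) (hab : a * b ∈ Subgroup.normalizer (G : Set X))
      (v : BaerT ↥G), φ (a * b) hab v = φ a ha (φ b hb v) := by
    intro a b ha hb hab v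
    rw [hφ, hφ, hφ]
    exact congrArg BaerT.mk (conjP_mul G a b ha hb hab _)
  have hφfix : ∀ (a : X) (ha : a ∈ Subgroup.normalizer (G : Set X)) (v : BaerT ↥G),
      φ a ha v = v ↔ a * (BaerT.out v).1 * a⁻¹ = (BaerT.out v).1 := by
    intro a ha v
    rw [hφ]
    constructor
    · intro hv
      exact congrArg (fun w : BaerT ↥G => (BaerT.out w).1) hv
    · intro hv
      exact BaerT.out_injective (Subtype.ext hv)
  let θ : BaerT ↥G →* BaerT ↥G := ∏ a : ↥Q, φ a.1 (hQG a.2)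
  have hθ : ∀ v, θ v = ∏ a : ↥Q, φ a.1 (hQG a.2) v := fun v => MonoidHom.finsetProd_apply _ _ _
  have T1 : ∀ (b : ↥Q) (v : BaerT ↥G), θ (φ b.1 (hQG b.2) v) = θ v := by
    intro b v
    rw [hθ, hθ, ← Equiv.prod_comp (Equiv.mulRight b) (fun a : ↥Q => φ a.1 (hQG a.2) v)]
    apply Finset.prod_congr rfl
    intro a _
    exact (hφmul a.1 b.1 (hQG a.2) (hQG b.2) (hQG (a * b).2) v).symm
  have T2 : ∀ (b : ↥Q) (v : BaerT ↥G), φ b.1 (hQG b.2) (θ v) = θ v := by
    intro b v
    rw [hθ, map_prod, ← Equiv.prod_comp (Equiv.mulLeft b) (fun a : ↥Q => φ a.1 (hQG a.2) v)]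
    apply Finset.prod_congr rfl
    intro a _
    exact (hφmul b.1 a.1 (hQG b.2) (hQG a.2) (hQG (b * a).2) v).symm
  have T3 : ∀ v : BaerT ↥G, (∀ a : ↥Q, φ a.1 (hQG a.2) v = v) → θ v = v ^ Fintype.card ↥Q := by
    intro v hv
    rw [hθ, Finset.prod_congr rfl (fun a _ => hv a), Finset.prod_const, Finset.card_univ]
  have hBp : IsPGroup p (BaerT ↥G) := by
    obtain ⟨k, hk⟩ := IsPGroup.exists_card_eq hG
    exact IsPGroup.of_card (n := k) hk
  have hcop : ∀ v : BaerT ↥G, v ^ Fintype.card ↥Q = 1 → v = 1 := by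
    intro v hv
    obtain ⟨k, hk⟩ := hBp v
    have h1 : orderOf v ∣ Fintype.card ↥Q := orderOf_dvd_of_pow_eq_one hv
    have h2 : orderOf v ∣ p ^ k := orderOf_dvd_of_pow_eq_one hk
    have h3 : (Fintype.card ↥Q).Coprime (p ^ k) := by
      rw [← Nat.card_eq_fintype_card]
      exact Nat.Coprime.pow_right k hQ
    exact orderOf_eq_one_iff.1 (Nat.eq_one_of_dvd_coprimes h3 h1 h2)
  by_cases hW : θ.ker = ⊥
  · -- Q acts trivially
    intro b hb
    rw [Subgroup.mem_centralizer_iff]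
    intro x hx
    have key : ∀ v : BaerT ↥G, φ b (hQG hb) v = v := by
      intro v
      have hu : v ^ Fintype.card ↥Q * (θ v)⁻¹ ∈ θ.ker := by
        rw [MonoidHom.mem_ker, map_mul, map_inv, map_pow, T3 (θ v) (fun a => T2 a v),
          mul_inv_cancel]
      rw [hW, Subgroup.mem_bot, mul_inv_eq_one] at hu
      have h1 : φ b (hQG hb) (v ^ Fintype.card ↥Q) = v ^ Fintype.card ↥Q := by
        rw [hu]; exact T2 ⟨b, hb⟩ v
      rw [map_pow] at h1
      have h2 : (φ b (hQG hb) v * v⁻¹) ^ Fintype.card ↥Q = 1 := by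
        rw [mul_pow, h1, inv_pow, mul_inv_cancel]
      exact mul_inv_eq_one.1 (hcop _ h2)
    have := (hφfix b (hQG hb) (BaerT.mk ⟨x, hx⟩)).1 (key _)
    have h3 : b * x * b⁻¹ = x := this
    calc x * b = (b * x * b⁻¹)⁻¹⁻¹ * b := by rw [h3, inv_inv]
      _ = b * x := by group
  · exfalso
    -- action of P on W
    have Teq : ∀ (g : X) (hg : g ∈ P) (v : BaerT ↥G), θ (φ g (hPG hg) v) = φ g (hPG hg) (θ v) := by
      intro g hg v
      rw [hθ, hθ, map_prod]
      have hgQ : ∀ a : ↥Q, g * a.1 * g⁻¹ ∈ Q := fun a =>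
        (Subgroup.mem_normalizer_iff.1 (hPQ hg) a.1).1 a.2
      have hgQ' : ∀ a : ↥Q, g⁻¹ * a.1 * g ∈ Q := fun a => by
        have := (Subgroup.mem_normalizer_iff.1 (Subgroup.inv_mem _ (hPQ hg)) a.1).1 a.2
        simpa using this
      let e : ↥Q ≃ ↥Q :=
        { toFun := fun a => ⟨g * a.1 * g⁻¹, hgQ a⟩
          invFun := fun a => ⟨g⁻¹ * a.1 * g, hgQ' a⟩
          left_inv := fun a => Subtype.ext (by simp [mul_assoc])
          right_inv := fun a => Subtype.ext (by simp [mul_assoc]) }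
      rw [← Equiv.prod_comp e (fun a : ↥Q => φ a.1 (hQG a.2) (φ g (hPG hg) v))]
      apply Finset.prod_congr rfl
      intro a _
      have hga : g * a.1 ∈ Subgroup.normalizer (G : Set X) :=
        Subgroup.mul_mem _ (hPG hg) (hQG a.2)
      have e1 : φ g (hPG hg) (φ a.1 (hQG a.2) v) = φ (g * a.1) hga v :=
        (hφmul g a.1 (hPG hg) (hQG a.2) hga v).symm
      have hga2 : (e a).1 * g ∈ Subgroup.normalizer (G : Set X) :=
        Subgroup.mul_mem _ (hQG (e a).2) (hPG hg)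
      have e2 : φ (e a).1 (hQG (e a).2) (φ g (hPG hg) v) = φ ((e a).1 * g) hga2 v :=
        (hφmul (e a).1 g (hQG (e a).2) (hPG hg) hga2 v).symm
      rw [e1, e2]
      have e3 : (e a).1 * g = g * a.1 := by
        show g * a.1 * g⁻¹ * g = g * a.1
        group
      rw [hφ, hφ]
      congr 1
      ext
      simp only [conjP, MonoidHom.coe_mk, OneHom.coe_mk]
      rw [e3]
    letI : MulAction ↥P ↥θ.ker :=
      { smul := fun g w => ⟨φ g.1 (hPG g.2) w.1, by
          rw [MonoidHom.mem_ker, Teq g.1 g.2 w.1, MonoidHom.mem_ker.1 w.2, map_one]⟩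
        one_smul := fun w => Subtype.ext (by
          show φ (1 : X) _ w.1 = w.1
          rw [hφ]
          exact BaerT.out_injective (conjP_one G _ _))
        mul_smul := fun g k w => Subtype.ext (by
          show φ (g.1 * k.1) _ w.1 = φ g.1 _ (φ k.1 _ w.1)
          exact hφmul g.1 k.1 (hPG g.2) (hPG k.2) _ w.1) }
    have hsmul : ∀ (g : ↥P) (w : ↥θ.ker), (g • w).1 = φ g.1 (hPG g.2) w.1 := fun g w => rfl
    have hpW : p ∣ Nat.card ↥θ.ker := by
      obtain ⟨k, hk⟩ := IsPGroup.exists_card_eq (hBp.to_subgroup θ.ker)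
      rw [hk]
      have hk0 : k ≠ 0 := by
        rintro rfl
        rw [pow_zero] at hk
        exact hW (Subgroup.card_eq_one.1 hk)
      exact dvd_pow_self p hk0
    have h1fix : (1 : ↥θ.ker) ∈ MulAction.fixedPoints ↥P ↥θ.ker := by
      intro g
      apply Subtype.ext
      rw [hsmul]
      exact map_one _
    obtain ⟨w, hwfix, hw1⟩ := hP.exists_fixed_point_of_prime_dvd_card_of_fixed_point ↥θ.ker hpW h1fix
    -- w is fixed by P hence by Q
    have hwP : (BaerT.out w.1).1 ∈ G ⊓ Subgroup.centralizer (P : Set X) := by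
      refine Subgroup.mem_inf.2 ⟨(BaerT.out w.1).2, ?_⟩
      rw [Subgroup.mem_centralizer_iff]
      intro g hg
      have h1 : (⟨g, hg⟩ : ↥P) • w = w := hwfix ⟨g, hg⟩
      have h2 : φ g (hPG hg) w.1 = w.1 := by rw [← hsmul ⟨g, hg⟩ w, h1]
      have h3 := (hφfix g (hPG hg) w.1).1 h2
      calc g * (BaerT.out w.1).1 = (g * (BaerT.out w.1).1 * g⁻¹) * g := by group
        _ = (BaerT.out w.1).1 * g := by rw [h3]
    have hwQ := hC hwP
    rw [Subgroup.mem_centralizer_iff] at hwQ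
    have hwfixQ : ∀ a : ↥Q, φ a.1 (hQG a.2) w.1 = w.1 := by
      intro a
      rw [hφfix]
      have := hwQ a.1 a.2
      calc a.1 * (BaerT.out w.1).1 * a.1⁻¹ = (BaerT.out w.1).1 * a.1 * a.1⁻¹ := by rw [this]
        _ = (BaerT.out w.1).1 := by group
    have h4 : w.1 ^ Fintype.card ↥Q = 1 := by
      rw [← T3 w.1 hwfixQ]
      exact MonoidHom.mem_ker.1 w.2
    have h5 : w.1 = 1 := hcop _ h4
    exact hw1 (Subtype.ext h5.symm)

end Cfsg.Agent.helper19
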