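import Cfsg.Statements.S3737
-- import your own Cfsg.Agent.* helpers here
import Mathlib
import Cfsg.Agent.Lib_helper19_HH2
import Cfsg.Agent.Lib_helper19_Baer2

set_option autoImplicit false
open Cfsg

namespace Cfsg.Agent.S3737

open scoped commutatorElement


/-- Thompson's strengthening of the P × Q lemma for odd primes. Let p be an odd prime and let P, Q and G be subgroups of a finite group with P a p-group, Q of order prime to p and normalized by P, and G a p-group normalized by both P and Q. If every element of G centralized by P is centralized by Q, then Q centralizes G. -/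
theorem result {X : Type*} [Group X] [Finite X] {p : ℕ} [Fact p.Prime] (hp : p ≠ 2) (P Q G : Subgroup X) (hP : IsPGroup p P) (hQ : (Nat.card Q).Coprime p) (hPQ : P ≤ Subgroup.normalizer (Q : Set X)) (hG : IsPGroup p G) (hPG : P ≤ Subgroup.normalizer (G : Set X)) (hQG : Q ≤ Subgroup.normalizer (G : Set X)) (hC : G ⊓ Subgroup.centralizer (P : Set X) ≤ Subgroup.centralizer (Q : Set X)) : Q ≤ Subgroup.centralizer (G : Set X) := by
  classical
  by_contra hQc
  have hGQ : ⁅G, Q⁆ ≠ ⊥ := by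
    intro h
    apply hQc
    rw [Subgroup.commutator_comm] at h
    exact Subgroup.commutator_eq_bot_iff_le_centralizer.1 h
  have hBQ : P ⊔ Q ≤ Subgroup.normalizer (Q : Set X) := sup_le hPQ Subgroup.le_normalizer
  have hBG : P ⊔ Q ≤ Subgroup.normalizer (G : Set X) := sup_le hPG hQG
  let 𝒮 : Set (Subgroup X) :=
    {U | U ≤ G ∧ P ⊔ Q ≤ Subgroup.normalizer (U : Set X) ∧ ⁅U, Q⁆ ≠ ⊥}
  have h𝒮 : 𝒮.Finite := Set.toFinite _
  have h𝒮ne : 𝒮.Nonempty := ⟨G, le_rfl, hBG, hGQ⟩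
  obtain ⟨G₀, hG₀, hminG₀⟩ := h𝒮.exists_minimal h𝒮ne
  obtain ⟨hG₀G, hBG₀, hG₀Q⟩ := hG₀
  have hG₀p : IsPGroup p G₀ := hG.to_le hG₀G
  have hmin : ∀ U : Subgroup X, U < G₀ → P ⊔ Q ≤ Subgroup.normalizer (U : Set X) → ⁅U, Q⁆ = ⊥ := by
    intro U hU hBU
    by_contra hne
    have hUS : U ∈ 𝒮 := ⟨hU.le.trans hG₀G, hBU, hne⟩
    exact absurd (hminG₀ hUS hU.le) (not_le_of_gt hU)
  obtain ⟨h1, hstruct, _, hexp⟩ := Cfsg.Agent.helper19.hall_higman_reduction (P ⊔ Q) Q G₀ hG₀p hBG₀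
    le_sup_right hBQ hQ hG₀Q hmin
  have hexp' := hexp hp
  have hcl : ∀ x ∈ G₀, ∀ y ∈ G₀, ∀ z ∈ G₀, Commute ⁅x, y⁆ z := by
    intro x hx y hy z hz
    rcases hstruct with ⟨hab, _⟩ | ⟨_, _, hcz⟩
    · have hxy : x * y = y * x := by
        have := mul_comm' (⟨x, hx⟩ : ↥G₀) ⟨y, hy⟩
        exact congrArg Subtype.val this
      have : ⁅x, y⁆ = 1 := commutatorElement_eq_one_iff_mul_comm.2 hxy
      rw [this]
      exact Commute.one_left z
    · have hmem : ⁅(⟨x, hx⟩ : ↥G₀), ⟨y, hy⟩⁆ ∈ commutator ↥G₀ := by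
        rw [commutator_def]
        exact Subgroup.commutator_mem_commutator (Subgroup.mem_top _) (Subgroup.mem_top _)
      rw [hcz, Subgroup.mem_center_iff] at hmem
      have := hmem ⟨z, hz⟩
      have h2 : z * ⁅x, y⁆ = ⁅x, y⁆ * z := congrArg Subtype.val this
      exact h2.symm
  have hex : ∀ x ∈ G₀, ∀ y ∈ G₀, ⁅x, y⁆ ^ p = 1 := by
    intro x hx y hy
    apply hexp'
    rw [commutatorElement_def]
    exact G₀.mul_mem (G₀.mul_mem (G₀.mul_mem hx hy) (G₀.inv_mem hx)) (G₀.inv_mem hy)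
  have hC' : G₀ ⊓ Subgroup.centralizer (P : Set X) ≤ Subgroup.centralizer (Q : Set X) :=
    le_trans (inf_le_inf_right _ hG₀G) hC
  have hfin := Cfsg.Agent.helper19.baer_PQ hp P Q G₀ hP hQ hPQ hG₀p
    (le_sup_left.trans hBG₀) (le_sup_right.trans hBG₀) hcl hex hC'
  apply hG₀Q
  rw [Subgroup.commutator_comm]
  exact Subgroup.commutator_eq_bot_iff_le_centralizer.2 hfin

end Cfsg.Agent.S3737
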