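import Mathlib
import Cfsg.Agent.Lib_helper19_HH2
import Cfsg.Agent.S3737

set_option autoImplicit false
open Cfsg

namespace Cfsg.Agent.helper7

variable {X : Type*} [Group X]

/-- For `p` odd, a `p'`-group `A` normalizing the `p`-group `K` and centralizing every element of
order `p` of `K` centralizes `K`. -/
theorem omega_one_lemma [Finite X] {p : ℕ} [Fact p.Prime] (hp : p ≠ 2) (K A : Subgroup X)
    (hK : IsPGroup p K) (hA : A ≤ Subgroup.normalizer (K : Set X)) (hcop : (Nat.card A).Coprime p)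
    (hfix : ∀ x ∈ K, orderOf x = p → A ≤ Subgroup.centralizer ({x} : Set X)) :
    A ≤ Subgroup.centralizer (K : Set X) := by
  classical
  have hpp : p.Prime := Fact.out
  by_contra hAc
  have hKA : ⁅K, A⁆ ≠ ⊥ := by
    intro h
    apply hAc
    rw [Subgroup.commutator_comm] at h
    exact Subgroup.commutator_eq_bot_iff_le_centralizer.1 h
  let 𝒮 : Set (Subgroup X) :=
    {U | U ≤ K ∧ A ≤ Subgroup.normalizer (U : Set X) ∧ ⁅U, A⁆ ≠ ⊥}
  have h𝒮 : 𝒮.Finite := Set.toFinite _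
  have h𝒮ne : 𝒮.Nonempty := ⟨K, le_rfl, hA, hKA⟩
  obtain ⟨U₀, hU₀, hminU₀⟩ := h𝒮.exists_minimal h𝒮ne
  obtain ⟨hU₀K, hAU₀, hU₀A⟩ := hU₀
  have hU₀p : IsPGroup p U₀ := hK.to_le hU₀K
  have hmin : ∀ U : Subgroup X, U < U₀ → A ≤ Subgroup.normalizer (U : Set X) → ⁅U, A⁆ = ⊥ := by
    intro U hU hAU
    by_contra hne
    have hmem : U ∈ 𝒮 := ⟨hU.le.trans hU₀K, hAU, hne⟩
    exact absurd (hminU₀ hmem hU.le) (not_le_of_gt hU)
  obtain ⟨-, -, -, hexp⟩ := Cfsg.Agent.helper19.hall_higman_reduction A A U₀ hU₀p hAU₀ le_rfl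
    Subgroup.le_normalizer hcop hU₀A hmin
  apply hU₀A
  rw [Subgroup.commutator_comm]
  apply Subgroup.commutator_eq_bot_iff_le_centralizer.2
  intro a ha
  rw [Subgroup.mem_centralizer_iff]
  intro x hx
  by_cases hx1 : x = 1
  · subst hx1; simp
  · have hxp : x ^ p = 1 := hexp hp x hx
    have hord : orderOf x = p := orderOf_eq_prime hxp hx1
    have := hfix x (hU₀K hx) hord ha
    rw [Subgroup.mem_centralizer_iff] at this
    exact this x rfl

end Cfsg.Agent.helper7
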