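import Mathlib
import Cfsg.Statements.S1302
import Cfsg.Agent.Lib_helper7_Omega
import Cfsg.Agent.Lib_helper7_Balance

set_option autoImplicit false
open Cfsg

namespace Cfsg.Agent.S1302


/-- Abstract core: `R` a normal `p`-subgroup (`p` odd), `A` a `p`-subgroup normalizing the `p'`-subgroup
`Q`, such that every element `u ∈ R` with `u ^ p = 1` centralizing `A` lies in `A`.  Then `Q`
centralizes `R`. -/
theorem aux {Y : Type*} [Group Y] [Finite Y] {p : ℕ} [Fact p.Prime] (hp : p ≠ 2)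
    (R A Q : Subgroup Y) [hRn : R.Normal] (hRp : IsPGroup p ↥R) (hAp : IsPGroup p ↥A)
    (hQcop : (Nat.card ↥Q).Coprime p) (hAQ : A ≤ Subgroup.normalizer (Q : Set Y))
    (hkey : ∀ u ∈ R, u ^ p = 1 → u ∈ Subgroup.centralizer (A : Set Y) → u ∈ A) :
    Q ≤ Subgroup.centralizer (R : Set Y) := by
  classical
  have hpp : p.Prime := Fact.out
  have htriv : ∀ (P : Subgroup Y), IsPGroup p ↥P → ∀ x ∈ P, x ∈ Q → x = 1 := by
    intro P hP x hxP hxQ
    obtain ⟨k, hk⟩ := (IsPGroup.iff_orderOf.mp hP) ⟨x, hxP⟩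
    rw [Subgroup.orderOf_mk] at hk
    have h2 : orderOf x ∣ Nat.card ↥Q := by
      have := orderOf_dvd_natCard (⟨x, hxQ⟩ : ↥Q)
      rwa [Subgroup.orderOf_mk] at this
    have h3 : (orderOf x).Coprime (p ^ k) :=
      Nat.Coprime.pow_right k (Nat.Coprime.coprime_dvd_left h2 hQcop)
    rw [hk] at h3
    have h4 : p ^ k = 1 := (Nat.coprime_self _).mp h3
    rw [h4] at hk
    exact orderOf_eq_one_iff.mp hk
  by_contra hQc
  have hRQ : ⁅R, Q⁆ ≠ ⊥ := by
    intro h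
    apply hQc
    rw [Subgroup.commutator_comm] at h
    exact Subgroup.commutator_eq_bot_iff_le_centralizer.1 h
  have hBQ : A ⊔ Q ≤ Subgroup.normalizer (Q : Set Y) := sup_le hAQ Subgroup.le_normalizer
  have hBR : A ⊔ Q ≤ Subgroup.normalizer (R : Set Y) := by
    rw [Subgroup.normalizer_eq_top]; exact le_top
  let 𝒮 : Set (Subgroup Y) :=
    {U | U ≤ R ∧ A ⊔ Q ≤ Subgroup.normalizer (U : Set Y) ∧ ⁅U, Q⁆ ≠ ⊥}
  have h𝒮 : 𝒮.Finite := Set.toFinite _
  have h𝒮ne : 𝒮.Nonempty := ⟨R, le_rfl, hBR, hRQ⟩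
  obtain ⟨U₀, hU₀, hminU₀⟩ := h𝒮.exists_minimal h𝒮ne
  obtain ⟨hU₀R, hBU₀, hU₀Q⟩ := hU₀
  have hU₀p : IsPGroup p U₀ := hRp.to_le hU₀R
  have hmin : ∀ U : Subgroup Y, U < U₀ → A ⊔ Q ≤ Subgroup.normalizer (U : Set Y) → ⁅U, Q⁆ = ⊥ := by
    intro U hU hBU
    by_contra hne
    have hmem : U ∈ 𝒮 := ⟨hU.le.trans hU₀R, hBU, hne⟩
    exact absurd (hminU₀ hmem hU.le) (not_le_of_gt hU)
  obtain ⟨-, -, -, hexp⟩ := Cfsg.Agent.helper19.hall_higman_reduction (A ⊔ Q) Q U₀ hU₀p hBU₀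
    le_sup_right hBQ hQcop hU₀Q hmin
  have hC : U₀ ⊓ Subgroup.centralizer (A : Set Y) ≤ Subgroup.centralizer (Q : Set Y) := by
    rintro u ⟨huU, huc⟩
    have huA : u ∈ A := hkey u (hU₀R huU) (hexp hp u huU) huc
    rw [Subgroup.mem_centralizer_iff]
    intro q hq
    -- commutator u q u⁻¹ q⁻¹ lies in R ∩ Q
    have h1 : u * q * u⁻¹ * q⁻¹ ∈ Q := by
      have := (Subgroup.mem_normalizer_iff.mp (hAQ huA) q).mp hq
      exact Q.mul_mem this (Q.inv_mem hq)
    have h2 : u * q * u⁻¹ * q⁻¹ ∈ R := by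
      have h3 : q * u⁻¹ * q⁻¹ ∈ R := hRn.conj_mem _ (R.inv_mem (hU₀R huU)) q
      have := R.mul_mem (hU₀R huU) h3
      simpa [mul_assoc] using this
    have h4 := htriv R hRp _ h2 h1
    have h5 : u * q = (u * q * u⁻¹ * q⁻¹) * (q * u) := by group
    rw [h4, one_mul] at h5
    exact h5.symm
  have := Cfsg.Agent.S3737.result hp A Q U₀ hAp hQcop hAQ hU₀p (le_sup_left.trans hBU₀)
    (le_sup_right.trans hBU₀) hC
  apply hU₀Q
  rw [Subgroup.commutator_comm]
  exact Subgroup.commutator_eq_bot_iff_le_centralizer.2 this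

open Cfsg.Agent.helper7 in
/-- Let X be a finite p-constrained group, p an odd prime, and A an abelian p-subgroup of X containing every element of order p of C_X(A). Then every subgroup of X of order prime to p that is normalized by A lies in O_{p'}(X). -/
theorem result {X : Type*} [Group X] [Finite X] (p : ℕ) [Fact p.Prime] (hp : p ≠ 2) (hX : Cfsg.IsPConstrained p X) (A : Subgroup X) (hA : IsMulCommutative ↥A) (hAp : IsPGroup p ↥A) (hΩ : ∀ x ∈ Subgroup.centralizer (A : Set X), orderOf x = p → x ∈ A) (Q : Subgroup X) (hQ : ¬ p ∣ Nat.card ↥Q) (hAQ : A ≤ Subgroup.normalizer (Q : Set X)) : Q ≤ Cfsg.pPrimeCore p X := by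
  classical
  have hpp : p.Prime := Fact.out
  have hL : Cfsg.pLayer p X = ⊥ := (isPConstrained_iff hpp).1 hX
  have hcent := centralizer_pCore_quot_le hpp hL
  have hRp : IsPGroup p ↥(Cfsg.pCore p (X ⧸ Cfsg.pPrimeCore p X)) := pCore_isPGroup hpp
  haveI hRn : (Cfsg.pCore p (X ⧸ Cfsg.pPrimeCore p X)).Normal := pCore_normal' hpp
  have hNcop : (Nat.card ↥(Cfsg.pPrimeCore p X)).Coprime p := pPrimeCore_coprime hpp
  -- images
  have hQcop : (Nat.card ↥(Q.map (QuotientGroup.mk' (Cfsg.pPrimeCore p X)))).Coprime p := by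
    have h1 : (Nat.card ↥Q).Coprime p := ((Nat.Prime.coprime_iff_not_dvd hpp).mpr hQ).symm
    exact Nat.Coprime.coprime_dvd_left (Subgroup.card_map_dvd _ _) h1
  have hĀp : IsPGroup p ↥(A.map (QuotientGroup.mk' (Cfsg.pPrimeCore p X))) := hAp.map _
  have hĀQ : A.map (QuotientGroup.mk' (Cfsg.pPrimeCore p X)) ≤
      Subgroup.normalizer ((Q.map (QuotientGroup.mk' (Cfsg.pPrimeCore p X)) : Subgroup _) : Set _) :=
    (Subgroup.map_mono hAQ).trans (Subgroup.le_normalizer_map _)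
  -- an element in both a p-group and the p'-group Q̄ is trivial
  have htriv : ∀ (P : Subgroup (X ⧸ Cfsg.pPrimeCore p X)), IsPGroup p ↥P → ∀ x ∈ P,
      x ∈ Q.map (QuotientGroup.mk' (Cfsg.pPrimeCore p X)) → x = 1 := by
    intro P hP x hxP hxQ
    obtain ⟨k, hk⟩ := (IsPGroup.iff_orderOf.mp hP) ⟨x, hxP⟩
    rw [Subgroup.orderOf_mk] at hk
    have h2 : orderOf x ∣ Nat.card ↥(Q.map (QuotientGroup.mk' (Cfsg.pPrimeCore p X))) := by
      have := orderOf_dvd_natCard (⟨x, hxQ⟩ : ↥(Q.map (QuotientGroup.mk' (Cfsg.pPrimeCore p X))))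
      rwa [Subgroup.orderOf_mk] at this
    have h3 : (orderOf x).Coprime (p ^ k) :=
      Nat.Coprime.pow_right k (Nat.Coprime.coprime_dvd_left h2 hQcop)
    rw [hk] at h3
    have h4 : p ^ k = 1 := (Nat.coprime_self _).mp h3
    rw [h4] at hk
    exact orderOf_eq_one_iff.mp hk
  -- key: elements of order dividing p of R̄ centralizing Ā lie in Ā
  have hkey : ∀ u ∈ Cfsg.pCore p (X ⧸ Cfsg.pPrimeCore p X), u ^ p = 1 →
      u ∈ Subgroup.centralizer ((A.map (QuotientGroup.mk' (Cfsg.pPrimeCore p X)) : Subgroup _) : Set _) →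
      u ∈ A.map (QuotientGroup.mk' (Cfsg.pPrimeCore p X)) := by
    intro u huR hup huc
    obtain ⟨y, hyc, -, hyu⟩ := exists_lift_centralizer_pCore hpp hAp huR huc
    by_cases hu1 : u = 1
    · rw [hu1]; exact Subgroup.one_mem _
    have hordu : orderOf u = p := orderOf_eq_prime hup hu1
    have hcop' : (Nat.card ↥(Cfsg.pPrimeCore p X)).Coprime (orderOf u) := by rw [hordu]; exact hNcop
    obtain ⟨m, hm⟩ := exists_pow_eq_self_of_coprime (x := u) hcop'
    -- z = (y ^ n) ^ m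
    have hzc : (y ^ Nat.card ↥(Cfsg.pPrimeCore p X)) ^ m ∈ Subgroup.centralizer (A : Set X) :=
      Subgroup.pow_mem _ (Subgroup.pow_mem _ hyc _) _
    have hzu : QuotientGroup.mk' (Cfsg.pPrimeCore p X) ((y ^ Nat.card ↥(Cfsg.pPrimeCore p X)) ^ m) = u := by
      rw [map_pow, map_pow, hyu, hm]
    have hyp : y ^ p ∈ Cfsg.pPrimeCore p X := by
      rw [← ker_mk_pPrimeCore p, MonoidHom.mem_ker, map_pow, hyu, hup]
    have hzp : ((y ^ Nat.card ↥(Cfsg.pPrimeCore p X)) ^ m) ^ p = 1 := by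
      have h1 : (y ^ p) ^ Nat.card ↥(Cfsg.pPrimeCore p X) = 1 := by
        have := pow_card_eq_one' (G := ↥(Cfsg.pPrimeCore p X)) (x := ⟨y ^ p, hyp⟩)
        exact congrArg Subtype.val this
      have h2 : ((y ^ Nat.card ↥(Cfsg.pPrimeCore p X)) ^ m) ^ p =
          ((y ^ p) ^ Nat.card ↥(Cfsg.pPrimeCore p X)) ^ m := by
        rw [← pow_mul, ← pow_mul, ← pow_mul, ← pow_mul]; congr 1; ring
      rw [h2, h1, one_pow]
    have hz1 : (y ^ Nat.card ↥(Cfsg.pPrimeCore p X)) ^ m ≠ 1 := by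
      intro h
      rw [h, map_one] at hzu
      exact hu1 hzu.symm
    have hzA := hΩ _ hzc (orderOf_eq_prime hzp hz1)
    rw [← hzu]
    exact Subgroup.mem_map_of_mem _ hzA
  -- Q̄ centralizes R̄
  have hQR : Q.map (QuotientGroup.mk' (Cfsg.pPrimeCore p X)) ≤
      Subgroup.centralizer ((Cfsg.pCore p (X ⧸ Cfsg.pPrimeCore p X) : Subgroup _) : Set _) :=
    aux hp _ _ _ hRp hĀp hQcop hĀQ hkey
  -- conclusion
  intro q hq
  have h1 : QuotientGroup.mk' (Cfsg.pPrimeCore p X) q ∈ Cfsg.pCore p (X ⧸ Cfsg.pPrimeCore p X) :=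
    hcent (hQR (Subgroup.mem_map_of_mem _ hq))
  have h2 := htriv _ hRp _ h1 (Subgroup.mem_map_of_mem _ hq)
  rw [← ker_mk_pPrimeCore p, MonoidHom.mem_ker]
  exact h2

end Cfsg.Agent.S1302
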