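import Mathlib
import Cfsg.Statements.S1462
import Cfsg.Agent.S1302
import Cfsg.Agent.S1327
import Cfsg.Agent.Lib_helper7_Balance2

set_option autoImplicit false
open Cfsg

namespace Cfsg.Agent.S1462

/-- Let G be a finite solvable group, p an odd prime with G = O_{p',p,p'}(G), E an elementary abelian p-subgroup contained in no larger elementary abelian p-subgroup of G, and L a subgroup of order coprime to p normalized by E. Then L ≤ O_{p'}(G). -/
theorem result {G : Type*} [Group G] [Finite G] [Group.IsSolvable G] (p : ℕ) [Fact p.Prime] (hp : p ≠ 2) (hpl : Cfsg.PLengthLE p 1 G) (E L : Subgroup G) (hE : Cfsg.IsElementaryAbelian p E)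
    (hEmax : ∀ B : Subgroup G, Cfsg.IsElementaryAbelian p B → E ≤ B → B = E) (hL : (Nat.card L).Coprime p) (hEL : E ≤ Subgroup.normalizer (L : Set G)) :
    L ≤ Cfsg.pPrimeCore p G := by
  have hpp : p.Prime := Fact.out
  have hcon : Cfsg.IsPConstrained p G :=
    (Cfsg.Agent.S1327.result p).mpr
      (Cfsg.Agent.helper7.pLayer_eq_bot_of_solvable p inferInstance)
  obtain ⟨hEc, hEexp⟩ := hE
  have hEp : IsPGroup p ↥E := by
    intro a
    refine ⟨1, ?_⟩
    rw [pow_one]
    apply Subtype.ext
    rw [Subgroup.coe_pow]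
    exact hEexp a.1 a.2
  have hEcomm : E ≤ Subgroup.centralizer (E : Set G) := by
    intro a ha
    rw [Subgroup.mem_centralizer_iff]
    intro b hb
    have h1 := hEc.is_comm.comm ⟨b, hb⟩ ⟨a, ha⟩
    exact congrArg Subtype.val h1
  have hΩ : ∀ x ∈ Subgroup.centralizer (E : Set G), orderOf x = p → x ∈ E := by
    intro x hx hxo
    have hzx : Subgroup.zpowers x ≤ Subgroup.centralizer (E : Set G) :=
      (Subgroup.zpowers_le).mpr hx
    have hB1 : E ⊔ Subgroup.zpowers x ≤ Subgroup.centralizer (E : Set G) := sup_le hEcomm hzx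
    have hzz : Subgroup.zpowers x ≤ Subgroup.centralizer ((Subgroup.zpowers x : Subgroup G) : Set G) := by
      rw [Subgroup.zpowers_le, Subgroup.mem_centralizer_iff]
      intro b hb
      obtain ⟨k, rfl⟩ := Subgroup.mem_zpowers_iff.mp hb
      exact (Commute.zpow_self x k)
    have hB2 : E ⊔ Subgroup.zpowers x ≤
        Subgroup.centralizer ((Subgroup.zpowers x : Subgroup G) : Set G) :=
      sup_le (Subgroup.le_centralizer_iff.mp hzx) hzz
    have hBB : E ⊔ Subgroup.zpowers x ≤
        Subgroup.centralizer ((E ⊔ Subgroup.zpowers x : Subgroup G) : Set G) :=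
      sup_le (Subgroup.le_centralizer_iff.mp hB1) (Subgroup.le_centralizer_iff.mp hB2)
    have hBel : Cfsg.IsElementaryAbelian p (E ⊔ Subgroup.zpowers x) := by
      refine ⟨⟨⟨?_⟩⟩, ?_⟩
      · intro a b
        apply Subtype.ext
        have h1 := hBB b.2
        rw [Subgroup.mem_centralizer_iff] at h1
        exact (h1 a.1 a.2)
      · intro a ha
        have key : ∀ a ∈ E ⊔ Subgroup.zpowers x, a ∈ E ⊔ Subgroup.zpowers x ∧ a ^ p = 1 := by
          intro a ha
          rw [Subgroup.sup_eq_closure] at ha
          induction ha using Subgroup.closure_induction with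
          | mem y hy =>
            rcases hy with hy | hy
            · exact ⟨Subgroup.mem_sup_left hy, hEexp y hy⟩
            · refine ⟨Subgroup.mem_sup_right hy, ?_⟩
              obtain ⟨k, rfl⟩ := Subgroup.mem_zpowers_iff.mp hy
              rw [← zpow_natCast, ← zpow_mul, mul_comm, zpow_mul, zpow_natCast, ← hxo,
                pow_orderOf_eq_one, one_zpow]
          | one => exact ⟨one_mem _, one_pow _⟩
          | mul y z _ _ hy hz =>
            refine ⟨mul_mem hy.1 hz.1, ?_⟩
            have hc : Commute y z := by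
              have h1 := hBB hz.1
              rw [Subgroup.mem_centralizer_iff] at h1
              exact h1 y hy.1
            rw [hc.mul_pow, hy.2, hz.2, one_mul]
          | inv y _ hy => exact ⟨inv_mem hy.1, by rw [inv_pow, hy.2, inv_one]⟩
        exact (key a ha).2
    have h2 := hEmax _ hBel le_sup_left
    rw [← h2]
    exact Subgroup.mem_sup_right (Subgroup.mem_zpowers x)
  have hLp : ¬ p ∣ Nat.card ↥L := by
    intro h
    have h1 := Nat.Coprime.eq_one_of_dvd hL.symm h
    exact hpp.one_lt.ne' h1
  exact Cfsg.Agent.S1302.result p hp hcon E hEc hEp hΩ L hLp hEL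

end Cfsg.Agent.S1462
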