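import Mathlib
import Cfsg.Prelude.Def_OddOrder
import Cfsg.Prelude.Def_OddOrderLocal
import Cfsg.Prelude.Def_CaseTheorems
import Cfsg.Agent.Lib_helper23_Tr10
import Cfsg.Agent.Lib_helper23_Tr2
import Cfsg.Agent.S1457
import Cfsg.Agent.S1462

set_option autoImplicit false
set_option linter.style.haveILetI false
set_option linter.unusedSectionVars false
set_option maxHeartbeats 1600000

namespace Cfsg.Agent.helper23

open Cfsg.Agent.helper7
open scoped commutatorElement Pointwise

universe u

variable {G : Type u} [Group G] [Finite G]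

/-- Group-level form of S1457: abelian normal subgroups of a Sylow `p`-subgroup of a solvable group
of odd order `M` lie in `O_{p',p}(M)`. -/
theorem abelian_le_relD (hodd : Odd (Nat.card G)) {p : ℕ} [hp : Fact p.Prime] (M : Subgroup G)
    (hMs : Group.IsSolvable ↥M) (S' : Sylow p ↥M) (B : Subgroup G) (hBM : B ≤ M)
    (hBS : B.subgroupOf M ≤ (S' : Subgroup ↥M)) (hBc : IsMulCommutative B)
    (hSB : ∀ s ∈ (S' : Subgroup ↥M), (s : G) ∈ Subgroup.normalizer (B : Set G)) :
    B ≤ relD p M := by
  haveI := hMs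
  have hodd' : Odd (Nat.card ↥M) := Odd.of_dvd_nat hodd (Subgroup.card_subgroup_dvd_card M)
  haveI : IsMulCommutative ↥(B.subgroupOf M) := inferInstance
  have key := Cfsg.Agent.S1457.result (G := ↥M) hodd' p S' (B.subgroupOf M) hBS inferInstance
    (by
      intro s hs
      rw [Subgroup.mem_normalizer_iff]
      intro x
      rw [Subgroup.mem_subgroupOf, Subgroup.mem_subgroupOf]
      exact Subgroup.mem_normalizer_iff.1 (hSB s hs) x)
  have h2 := Subgroup.map_mono (f := M.subtype) key
  rw [Subgroup.map_subgroupOf_eq_of_le hBM] at h2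
  exact h2

/-- Case (1): `A = Ω₁(C_G(A))` and all proper subgroups have `p`-length one. -/
theorem case1_main (hG : Cfsg.IsMinSimpleOddOrder G) {p : ℕ} [hp : Fact p.Prime] (hp2 : p ≠ 2)
    (A : Subgroup G) (hAc : IsMulCommutative A)
    (h1 : ∀ x ∈ Subgroup.centralizer (A : Set G), x ^ p = 1 ↔ x ∈ A)
    (h2 : ∀ H : Subgroup G, H ≠ ⊤ → Cfsg.PLengthLE p 1 H)
    (X : Subgroup G) (hX : X ≠ ⊤) (hAX : A ≤ X) (Y : Subgroup G) (hYX : Y ≤ X)
    (hY : (Nat.card Y).Coprime p) (hAY : A ≤ Subgroup.normalizer (Y : Set G)) :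
    Y ≤ relO p X := by
  haveI := mso_solvable hG X hX
  have hAcent : A ≤ Subgroup.centralizer (A : Set G) := by
    intro a ha
    rw [Subgroup.mem_centralizer_iff]
    intro b hb
    have h0 := hAc.is_comm.comm ⟨b, hb⟩ ⟨a, ha⟩
    have h3 := congrArg Subtype.val h0
    exact h3
  haveI : IsMulCommutative ↥(A.subgroupOf X) := inferInstance
  have hE : Cfsg.IsElementaryAbelian p (A.subgroupOf X) := by
    refine ⟨inferInstance, ?_⟩
    intro a ha
    rw [Subgroup.mem_subgroupOf] at ha
    apply Subtype.ext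
    rw [Subgroup.coe_pow, Subgroup.coe_one]
    exact (h1 _ (hAcent ha)).2 ha
  have hEmax : ∀ B : Subgroup ↥X, Cfsg.IsElementaryAbelian p B → A.subgroupOf X ≤ B →
      B = A.subgroupOf X := by
    intro B hB hle
    apply le_antisymm _ hle
    intro b hb
    rw [Subgroup.mem_subgroupOf]
    have hbp : (b : G) ^ p = 1 := by
      have h3 := hB.2 b hb
      have h4 := congrArg Subtype.val h3
      rw [Subgroup.coe_pow, Subgroup.coe_one] at h4
      exact h4
    refine (h1 _ ?_).1 hbp
    rw [Subgroup.mem_centralizer_iff]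
    intro a ha
    have haB : (⟨a, hAX ha⟩ : ↥X) ∈ B := hle (by rw [Subgroup.mem_subgroupOf]; exact ha)
    have h0 := hB.1.is_comm.comm ⟨⟨a, hAX ha⟩, haB⟩ ⟨b, hb⟩
    have h3 := congrArg Subtype.val h0
    have h4 := congrArg Subtype.val h3
    exact h4
  have hL : (Nat.card (Y.subgroupOf X)).Coprime p := by
    rw [Nat.card_congr (Subgroup.subgroupOfEquivOfLe hYX).toEquiv]; exact hY
  have key := Cfsg.Agent.S1462.result (G := ↥X) p hp2 (h2 X hX) (A.subgroupOf X) (Y.subgroupOf X)
    hE hEmax hL (subgroupOf_le_normalizer hAY)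
  have h3 := Subgroup.map_mono (f := X.subtype) key
  rw [Subgroup.map_subgroupOf_eq_of_le hYX] at h3
  exact h3

end Cfsg.Agent.helper23
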