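import Mathlib
import Cfsg.Prelude.Def_OddOrder
import Cfsg.Prelude.Def_OddOrderLocal
import Cfsg.Prelude.Def_CaseTheorems
import Cfsg.Agent.Lib_helper23_Tr10
import Cfsg.Agent.Lib_helper23_Tr4
import Cfsg.Agent.Lib_helper23_Reg1

set_option autoImplicit false
set_option linter.style.haveILetI false
set_option linter.unusedSectionVars false
set_option maxHeartbeats 1600000

namespace Cfsg.Agent.helper23

open Cfsg.Agent.helper7
open scoped commutatorElement Pointwise

universe u

variable {G : Type u} [Group G] [Finite G]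

/-- `Ω₁(A)` for an abelian subgroup `A`. -/
def omegaAb (p : ℕ) (A : Subgroup G) (hAc : IsMulCommutative A) : Subgroup G where
  carrier := {a | a ∈ A ∧ a ^ p = 1}
  one_mem' := ⟨A.one_mem, one_pow p⟩
  mul_mem' := by
    rintro a b ⟨ha, hap⟩ ⟨hb, hbp⟩
    refine ⟨A.mul_mem ha hb, ?_⟩
    have hc : Commute a b := by
      have h0 := hAc.is_comm.comm ⟨a, ha⟩ ⟨b, hb⟩
      have h1 := congrArg Subtype.val h0
      exact h1
    rw [hc.mul_pow, hap, hbp, one_mul]
  inv_mem' := by
    rintro a ⟨ha, hap⟩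
    exact ⟨A.inv_mem ha, by rw [inv_pow, hap, inv_one]⟩

theorem mem_omegaAb {p : ℕ} {A : Subgroup G} {hAc : IsMulCommutative A} {a : G} :
    a ∈ omegaAb p A hAc ↔ a ∈ A ∧ a ^ p = 1 := Iff.rfl

theorem commutator_lt_of_normalizer {p : ℕ} [hp : Fact p.Prime] (P N : Subgroup G)
    (hP : IsPGroup p P) (hNP : N ≤ P) (hPN : P ≤ Subgroup.normalizer (N : Set G))
    (hNb : N ≠ ⊥) : ⁅N, P⁆ < N := by
  have hle : ⁅N, P⁆ ≤ N := commutator_le_of_normalizer hPN
  refine lt_of_le_of_ne hle ?_
  intro heq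
  apply hNb
  haveI : Group.IsNilpotent ↥P := hP.isNilpotent
  obtain ⟨n, hn⟩ := (Subgroup.isNilpotent_iff_lowerCentralSeries P).mp inferInstance
  have hall : ∀ m, N ≤ P.lowerCentralSeries m := by
    intro m
    induction m with
    | zero => exact hNP
    | succ m ih =>
      rw [Subgroup.lowerCentralSeries_succ]
      calc N = ⁅N, P⁆ := heq.symm
        _ ≤ ⁅P.lowerCentralSeries m, P⁆ := Subgroup.commutator_mono ih le_rfl
  rw [eq_bot_iff, ← hn]
  exact hall n

/-- A `P`-invariant subgroup of order `≥ p²` of the `p`-group `P` contains a `P`-invariant subgroup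
of order exactly `p²`. -/
theorem exists_inv_card_sq {p : ℕ} [hp : Fact p.Prime] (P : Subgroup G) (hP : IsPGroup p P)
    (W : Subgroup G) (hWP : W ≤ P) (hPW : P ≤ Subgroup.normalizer (W : Set G))
    (hW : p ^ 2 ≤ Nat.card W) :
    ∃ B : Subgroup G, B ≤ W ∧ P ≤ Subgroup.normalizer (B : Set G) ∧ Nat.card B = p ^ 2 := by
  obtain ⟨n, hn⟩ : ∃ n, Nat.card W = n := ⟨_, rfl⟩
  induction n using Nat.strong_induction_on generalizing W with
  | _ n ih =>
    obtain ⟨e, he⟩ := IsPGroup.iff_card.1 (hP.to_le hWP)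
    have hp1 : 1 < p := hp.out.one_lt
    have he2 : 2 ≤ e := by
      by_contra hlt
      push Not at hlt
      have h1 : p ^ e < p ^ 2 := Nat.pow_lt_pow_right hp1 hlt
      omega
    rcases eq_or_lt_of_le he2 with h2 | h3
    · exact ⟨W, le_rfl, hPW, by rw [he, ← h2]⟩
    · have hWne : W ≠ ⊥ := by
        intro h
        rw [h, Subgroup.card_bot] at he
        have : 1 < p ^ e := Nat.one_lt_pow (by omega) hp1
        omega
      have hlt : ⁅W, P⁆ < W := commutator_lt_of_normalizer P W hP hWP hPW hWne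
      obtain ⟨c, hc⟩ := IsPGroup.iff_card.1 (hP.to_le (hlt.le.trans hWP))
      have hce : c < e := by
        have h1 := card_lt_of_lt23 hlt
        rw [hc, he] at h1
        exact (Nat.pow_lt_pow_iff_right hp1).1 h1
      have hdvd : p ^ (e - 1) ∣ Nat.card ↥W := by
        rw [he]; exact pow_dvd_pow p (Nat.sub_le e 1)
      have hC' : Nat.card ((⁅W, P⁆ : Subgroup G).subgroupOf W) = p ^ c := by
        rw [Nat.card_congr (Subgroup.subgroupOfEquivOfLe hlt.le).toEquiv]; exact hc
      obtain ⟨K', hK'card, hK'le⟩ :=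
        Sylow.exists_subgroup_card_pow_prime_le p hdvd _ hC' (by omega)
      obtain ⟨B', hB'def⟩ : ∃ B' : Subgroup G, B' = K'.map W.subtype := ⟨_, rfl⟩
      have hB'W : B' ≤ W := by rw [hB'def]; exact Subgroup.map_subtype_le K'
      have hB'card : Nat.card B' = p ^ (e - 1) := by
        rw [hB'def, card_map_subtype]; exact hK'card
      have hCB' : ⁅W, P⁆ ≤ B' := by
        rw [hB'def, ← Subgroup.map_subgroupOf_eq_of_le hlt.le]
        exact Subgroup.map_mono hK'le
      have hPB' : P ≤ Subgroup.normalizer (B' : Set G) := by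
        intro g hg
        apply mem_normalizer_of_cj_le
        intro y hy
        rw [mem_cj] at hy
        have h1 : y = ⁅g, g⁻¹ * y * g⁆ * (g⁻¹ * y * g) := by
          rw [commutatorElement_def]; group
        rw [h1]
        apply B'.mul_mem _ hy
        apply hCB'
        rw [Subgroup.commutator_comm]
        exact Subgroup.commutator_mem_commutator hg (hB'W hy)
      have hlt2 : p ^ (e - 1) < n := by
        rw [← hn, he]; exact Nat.pow_lt_pow_right hp1 (by omega)
      obtain ⟨B, h1, h2, h3⟩ := ih (p ^ (e - 1)) hlt2 B' (hB'W.trans hWP) hPB'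
        (by rw [hB'card]; exact Nat.pow_le_pow_right hp.out.pos (by omega)) hB'card
      exact ⟨B, h1.trans hB'W, h2, h3⟩

/-- A normal subgroup `B` of order `p²` of a `p`-group `P` has `|P : C_P(B)| ≤ p`. -/
theorem card_le_mul_centralizer_sq {p : ℕ} [hp : Fact p.Prime] (P B : Subgroup G)
    (hP : IsPGroup p P) (hBP : B ≤ P) (hPB : P ≤ Subgroup.normalizer (B : Set G))
    (hB : Nat.card B = p ^ 2) :
    Nat.card P ≤ p * Nat.card (P ⊓ Subgroup.centralizer (B : Set G) : Subgroup G) := by
  have hp1 : 1 < p := hp.out.one_lt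
  have hBne : B ≠ ⊥ := by
    intro h
    rw [h, Subgroup.card_bot] at hB
    have : 1 < p ^ 2 := Nat.one_lt_pow (by omega) hp1
    omega
  obtain ⟨C, hCdef⟩ : ∃ C : Subgroup G, C = ⁅B, P⁆ := ⟨_, rfl⟩
  have hlt : C < B := by rw [hCdef]; exact commutator_lt_of_normalizer P B hP hBP hPB hBne
  have hCP : C ≤ P := hlt.le.trans hBP
  obtain ⟨c, hc⟩ := IsPGroup.iff_card.1 (hP.to_le hCP)
  have hc2 : c < 2 := by
    have h1 := card_lt_of_lt23 hlt
    rw [hc, hB] at h1
    exact (Nat.pow_lt_pow_iff_right hp1).1 h1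
  have hPC : P ≤ Subgroup.normalizer (C : Set G) := by
    intro g hg
    rw [hCdef]
    exact mem_normalizer_commutator (hPB hg) (Subgroup.le_normalizer hg)
  have hCcent : C ≤ Subgroup.centralizer (P : Set G) := by
    by_cases hCb : C = ⊥
    · rw [hCb]; exact bot_le
    · have hlt2 := commutator_lt_of_normalizer P C hP hCP hPC hCb
      obtain ⟨c', hc'⟩ := IsPGroup.iff_card.1 (hP.to_le (hlt2.le.trans hCP))
      have h1 := card_lt_of_lt23 hlt2
      rw [hc, hc'] at h1
      have h2 : c' < c := (Nat.pow_lt_pow_iff_right hp1).1 h1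
      have h3 : c' = 0 := by omega
      rw [h3, pow_zero] at hc'
      have h4 : ⁅C, P⁆ = ⊥ := Subgroup.card_eq_one.1 hc'
      rw [Subgroup.commutator_eq_bot_iff_le_centralizer] at h4
      exact h4
  by_cases hBc : B ≤ Subgroup.centralizer (P : Set G)
  · have h1 : P ≤ Subgroup.centralizer (B : Set G) := Subgroup.le_centralizer_iff.1 hBc
    rw [inf_eq_left.2 h1]
    exact Nat.le_mul_of_pos_left _ hp.out.pos
  · obtain ⟨b₂, hb₂B, hb₂c⟩ := SetLike.not_le_iff_exists.1 hBc
    have hcomm : ∀ t ∈ C, ∀ g ∈ P, g * t = t * g := fun t ht g hg =>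
      Subgroup.mem_centralizer_iff.1 (hCcent ht) g hg
    have hfC : ∀ g ∈ P, g * b₂ * g⁻¹ * b₂⁻¹ ∈ C := by
      intro g hg
      rw [hCdef, Subgroup.commutator_comm]
      exact Subgroup.commutator_mem_commutator hg hb₂B
    let f : ↥P →* G :=
      { toFun := fun g => (g : G) * b₂ * (g : G)⁻¹ * b₂⁻¹
        map_one' := by simp
        map_mul' := by
          intro g h
          have ht := hfC h h.2
          have hg' := hfC g g.2
          have e1 : ((g * h : ↥P) : G) * b₂ * ((g * h : ↥P) : G)⁻¹ * b₂⁻¹ =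
              (g : G) * ((h : G) * b₂ * (h : G)⁻¹ * b₂⁻¹) * (b₂ * (g : G)⁻¹ * b₂⁻¹) := by
            rw [Subgroup.coe_mul]; group
          rw [e1, hcomm _ ht g g.2]
          have e2 : (h : G) * b₂ * (h : G)⁻¹ * b₂⁻¹ * (g : G) * (b₂ * (g : G)⁻¹ * b₂⁻¹) =
              (h : G) * b₂ * (h : G)⁻¹ * b₂⁻¹ * ((g : G) * b₂ * (g : G)⁻¹ * b₂⁻¹) := by group
          rw [e2]
          exact (hcomm _ ht _ (hCP hg')).symm }
    have hfapp : ∀ g : ↥P, f g = (g : G) * b₂ * (g : G)⁻¹ * b₂⁻¹ := fun g => rfl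
    have hrange : f.range ≤ C := by
      rintro _ ⟨g, rfl⟩
      rw [hfapp]; exact hfC g g.2
    have hCne : C ≠ ⊥ := by
      intro h
      apply hBc
      rw [hCdef, Subgroup.commutator_eq_bot_iff_le_centralizer] at h
      exact h
    have hc1 : c = 1 := by
      rcases Nat.eq_zero_or_pos c with h0 | h0
      · exfalso; apply hCne
        rw [h0, pow_zero] at hc
        exact Subgroup.card_eq_one.1 hc
      · omega
    rw [hc1, pow_one] at hc
    have hidx : f.ker.index ≤ p := by
      rw [Subgroup.index_ker, ← hc]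
      exact Subgroup.card_le_of_le hrange
    have hker : f.ker.map P.subtype ≤ P ⊓ Subgroup.centralizer (B : Set G) := by
      rintro _ ⟨g, hg, rfl⟩
      refine ⟨g.2, ?_⟩
      have hg := MonoidHom.mem_ker.1 (SetLike.mem_coe.1 hg)
      rw [hfapp] at hg
      have hgb : (g : G) * b₂ = b₂ * (g : G) := by
        calc (g : G) * b₂ = ((g : G) * b₂ * (g : G)⁻¹ * b₂⁻¹) * (b₂ * (g : G)) := by group
          _ = b₂ * (g : G) := by rw [hg, one_mul]
      -- `D = C_B(g)` contains `C` and `b₂`
      obtain ⟨D, hDdef⟩ : ∃ D : Subgroup G,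
        D = B ⊓ Subgroup.centralizer ({(g : G)} : Set G) := ⟨_, rfl⟩
      have hCD : C ≤ D := by
        rw [hDdef]
        refine le_inf hlt.le ?_
        intro t ht
        rw [Subgroup.mem_centralizer_iff]
        intro x hx
        rw [Set.mem_singleton_iff] at hx
        subst hx
        exact hcomm t ht _ g.2
      have hbD : b₂ ∈ D := by
        rw [hDdef]
        refine Subgroup.mem_inf.2 ⟨hb₂B, ?_⟩
        rw [Subgroup.mem_centralizer_iff]
        intro x hx
        rw [Set.mem_singleton_iff] at hx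
        subst hx
        exact hgb
      have hCltD : C < D := by
        refine lt_of_le_of_ne hCD ?_
        intro h
        apply hb₂c
        apply hCcent
        rw [h]; exact hbD
      have hDB : D ≤ B := by rw [hDdef]; exact inf_le_left
      obtain ⟨d, hd⟩ := IsPGroup.iff_card.1 (hP.to_le (hDB.trans hBP))
      have h1 := card_lt_of_lt23 hCltD
      rw [hc, hd] at h1
      have h2 : 1 < d := by
        have h3 : p ^ 1 < p ^ d := by rw [pow_one]; exact h1
        exact (Nat.pow_lt_pow_iff_right hp1).1 h3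
      have hDeq : D = B := by
        apply Subgroup.eq_of_le_of_card_ge hDB
        rw [hB, hd]
        exact Nat.pow_le_pow_right hp.out.pos h2
      show (g : G) ∈ Subgroup.centralizer (B : Set G)
      rw [Subgroup.mem_centralizer_iff]
      intro b hb
      have hbD' : b ∈ D := by rw [hDeq]; exact hb
      rw [hDdef] at hbD'
      exact (Subgroup.mem_centralizer_iff.1 (Subgroup.mem_inf.1 hbD').2 (g : G) rfl).symm
    have hcard : Nat.card ↥P = Nat.card f.ker * f.ker.index := (Subgroup.card_mul_index f.ker).symm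
    have hkcard : Nat.card f.ker ≤ Nat.card (P ⊓ Subgroup.centralizer (B : Set G) : Subgroup G) := by
      rw [← card_map_subtype f.ker]
      exact Subgroup.card_le_of_le hker
    calc Nat.card ↥P = Nat.card f.ker * f.ker.index := hcard
      _ ≤ Nat.card (P ⊓ Subgroup.centralizer (B : Set G) : Subgroup G) * p :=
          Nat.mul_le_mul hkcard hidx
      _ = p * Nat.card (P ⊓ Subgroup.centralizer (B : Set G) : Subgroup G) := mul_comm _ _

/-- The normal subgroup of type `(p,p)` in a noncyclic abelian normal subgroup of a `p`-group. -/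
theorem exists_normal_pp {p : ℕ} [hp : Fact p.Prime] (P A : Subgroup G) (hP : IsPGroup p P)
    (hAP : A ≤ P) (hPA : P ≤ Subgroup.normalizer (A : Set G)) (hAc : IsMulCommutative A)
    (hr : ¬ Cfsg.PRankLE p 1 A) :
    ∃ B : Subgroup G, B ≤ A ∧ P ≤ Subgroup.normalizer (B : Set G) ∧ (∀ b ∈ B, b ^ p = 1) ∧
      Nat.card B = p ^ 2 ∧
      Nat.card P ≤ p * Nat.card (P ⊓ Subgroup.centralizer (B : Set G) : Subgroup G) := by
  have hp1 : 1 < p := hp.out.one_lt
  unfold Cfsg.PRankLE at hr
  push Not at hr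
  obtain ⟨E', hE'c, hE'e, hlt⟩ := hr
  obtain ⟨W, hWdef⟩ : ∃ W : Subgroup G, W = omegaAb p A hAc := ⟨_, rfl⟩
  have hWA : W ≤ A := by
    rw [hWdef]; intro a ha; exact (mem_omegaAb.1 ha).1
  have hWexp : ∀ w ∈ W, w ^ p = 1 := by
    rw [hWdef]; intro a ha; exact (mem_omegaAb.1 ha).2
  have hEW : E'.map A.subtype ≤ W := by
    rintro _ ⟨a, ha, rfl⟩
    rw [hWdef, mem_omegaAb]
    refine ⟨a.2, ?_⟩
    have h1 := hE'e a ha
    have h2 := congrArg Subtype.val h1
    rw [Subgroup.coe_pow, Subgroup.coe_one] at h2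
    exact h2
  have hPW : P ≤ Subgroup.normalizer (W : Set G) := by
    intro g hg
    apply mem_normalizer_of_cj_le
    intro y hy
    rw [mem_cj] at hy
    rw [hWdef, mem_omegaAb] at hy ⊢
    have hgA := hPA hg
    constructor
    · have h1 := (Subgroup.mem_normalizer_iff.1 hgA (g⁻¹ * y * g)).1 hy.1
      have h2 : g * (g⁻¹ * y * g) * g⁻¹ = y := by group
      rw [h2] at h1
      exact h1
    · have h3 : y = g * (g⁻¹ * y * g) * g⁻¹ := by group
      rw [h3, conj_pow, hy.2]; group
  have hWcard : p ^ 2 ≤ Nat.card W := by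
    obtain ⟨w, hw⟩ := IsPGroup.iff_card.1 (hP.to_le (hWA.trans hAP))
    have h1 : p < Nat.card W := by
      calc p = p ^ 1 := (pow_one p).symm
        _ < Nat.card E' := hlt
        _ = Nat.card (E'.map A.subtype) := (card_map_subtype E').symm
        _ ≤ Nat.card W := Subgroup.card_le_of_le hEW
    rw [hw] at h1 ⊢
    have h2 : p ^ 1 < p ^ w := by rw [pow_one]; exact h1
    have h3 : 1 < w := (Nat.pow_lt_pow_iff_right hp1).1 h2
    exact Nat.pow_le_pow_right hp.out.pos h3
  obtain ⟨B, hBW, hPB, hBcard⟩ := exists_inv_card_sq P hP W (hWA.trans hAP) hPW hWcard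
  exact ⟨B, hBW.trans hWA, hPB, fun b hb => hWexp b (hBW hb), hBcard,
    card_le_mul_centralizer_sq P B hP (hBW.trans (hWA.trans hAP)) hPB hBcard⟩

end Cfsg.Agent.helper23
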