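import Mathlib
import Cfsg.Prelude.Def_OddOrder
import Cfsg.Prelude.Def_OddOrderLocal
import Cfsg.Prelude.Def_CaseTheorems
import Cfsg.Agent.Lib_helper23_Tr11
import Cfsg.Agent.Lib_helper23_Tr12
import Cfsg.Agent.Lib_helper15_Gen5

set_option autoImplicit false
set_option linter.style.haveILetI false
set_option linter.unusedSectionVars false
set_option maxHeartbeats 1600000

namespace Cfsg.Agent.helper23

open Cfsg.Agent.helper7
open scoped commutatorElement Pointwise

universe u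

variable {G : Type u} [Group G] [Finite G]

/-- If `A ∈ SCN(P)` for a Sylow `p`-subgroup `P`, every `p`-element of `C_G(A)` lies in `A`. -/
theorem pelement_centralizer_mem {p : ℕ} [hp : Fact p.Prime] (P : Sylow p G) (A : Subgroup G)
    (hPA : (P : Subgroup G) ≤ Subgroup.normalizer (A : Set G))
    (hPC : (P : Subgroup G) ⊓ Subgroup.centralizer (A : Set G) = A)
    (c : G) (hc : c ∈ Subgroup.centralizer (A : Set G)) (hcp : ∃ k : ℕ, c ^ p ^ k = 1) :
    c ∈ A := by
  obtain ⟨N, hNdef⟩ : ∃ N : Subgroup G, N = Subgroup.normalizer (A : Set G) := ⟨_, rfl⟩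
  have hPN : (P : Subgroup G) ≤ N := by rw [hNdef]; exact hPA
  have hcN : c ∈ N := by rw [hNdef]; exact Subgroup.centralizer_le_normalizer _ hc
  obtain ⟨k, hk⟩ := hcp
  have hz : IsPGroup p ↥(Subgroup.zpowers (⟨c, hcN⟩ : ↥N)) := by
    have h1 : orderOf (⟨c, hcN⟩ : ↥N) ∣ p ^ k := by
      apply orderOf_dvd_of_pow_eq_one
      apply Subtype.ext
      rw [Subgroup.coe_pow, Subgroup.coe_one]; exact hk
    obtain ⟨j, -, hj⟩ := (Nat.dvd_prime_pow hp.out).1 h1
    apply IsPGroup.of_card (n := j)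
    rw [Nat.card_zpowers, hj]
  obtain ⟨S', hS'⟩ := hz.exists_le_sylow
  obtain ⟨g, hg⟩ := MulAction.exists_smul_eq ↥N (P.subtype hPN) S'
  have h1 : (⟨c, hcN⟩ : ↥N) ∈ ((g • P.subtype hPN : Sylow p ↥N) : Subgroup ↥N) := by
    rw [hg]; exact hS' (Subgroup.mem_zpowers _)
  rw [Sylow.coe_subgroup_smul, Cfsg.Agent.lead.smul_eq_cj, mem_cj, Sylow.coe_subtype,
    Subgroup.mem_subgroupOf] at h1
  have h2 : (g : G)⁻¹ * c * (g : G) ∈ (P : Subgroup G) := by simpa using h1
  have hgA : (g : G) ∈ Subgroup.normalizer (A : Set G) := by rw [← hNdef]; exact g.2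
  have h3 : (g : G)⁻¹ * c * (g : G) ∈ Subgroup.centralizer (A : Set G) := by
    rw [Subgroup.mem_centralizer_iff]
    intro a ha
    have ha' : (g : G) * a * (g : G)⁻¹ ∈ A := (Subgroup.mem_normalizer_iff.1 hgA a).1 ha
    have h4 := Subgroup.mem_centralizer_iff.1 hc _ ha'
    calc a * ((g : G)⁻¹ * c * (g : G))
        = (g : G)⁻¹ * ((g : G) * a * (g : G)⁻¹ * c) * (g : G) := by group
      _ = (g : G)⁻¹ * (c * ((g : G) * a * (g : G)⁻¹)) * (g : G) := by rw [h4]
      _ = (g : G)⁻¹ * c * (g : G) * a := by group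
  have h5 : (g : G)⁻¹ * c * (g : G) ∈ A := by rw [← hPC]; exact ⟨h2, h3⟩
  have h6 := (Subgroup.mem_normalizer_iff.1 hgA _).1 h5
  have h7 : (g : G) * ((g : G)⁻¹ * c * (g : G)) * (g : G)⁻¹ = c := by group
  rw [h7] at h6; exact h6

/-- `[Y, B] ≤ O_{p'}(M)` for a `B`-invariant `p'`-subgroup `Y` of `M` and `B ≤ O_{p',p}(M)`. -/
theorem comm_le_relO {p : ℕ} [hp : Fact p.Prime] (M B Y : Subgroup G) (hYM : Y ≤ M)
    (hY : (Nat.card Y).Coprime p) (hBD : B ≤ relD p M)
    (hBY : B ≤ Subgroup.normalizer (Y : Set G)) : ⁅Y, B⁆ ≤ relO p M := by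
  have hDn : M ≤ Subgroup.normalizer ((relD p M : Subgroup G) : Set G) := relD_normal p M
  rw [Subgroup.commutator_le]
  intro y hy a ha
  rw [commutatorElement_def]
  have h1 : y * a * y⁻¹ * a⁻¹ ∈ Y := by
    have h2 : a * y⁻¹ * a⁻¹ ∈ Y :=
      (Subgroup.mem_normalizer_iff.1 (hBY ha) y⁻¹).1 (Y.inv_mem hy)
    have h3 : y * a * y⁻¹ * a⁻¹ = y * (a * y⁻¹ * a⁻¹) := by group
    rw [h3]; exact Y.mul_mem hy h2
  have h4 : y * a * y⁻¹ * a⁻¹ ∈ relD p M := by
    have h5 : y * a * y⁻¹ ∈ relD p M :=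
      (Subgroup.mem_normalizer_iff.1 (hDn (hYM hy)) a).1 (hBD ha)
    exact Subgroup.mul_mem _ h5 (Subgroup.inv_mem _ (hBD ha))
  have h6 : (orderOf (y * a * y⁻¹ * a⁻¹)).Coprime p :=
    Nat.Coprime.coprime_dvd_left (Y.orderOf_dvd_natCard h1) hY
  exact mem_relO_of_coprime hp.out M h4 h6

/-- A subgroup of index at most `p` in a `p`-group is normal. -/
theorem le_normalizer_of_card_le {p : ℕ} [hp : Fact p.Prime] (T S : Subgroup G) (hS : IsPGroup p S)
    (hTS : T ≤ S) (hcard : Nat.card S ≤ p * Nat.card T) :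
    S ≤ Subgroup.normalizer (T : Set G) := by
  have hp1 : 1 < p := hp.out.one_lt
  have h1 := Subgroup.relIndex_mul_relIndex ⊥ T S bot_le hTS
  rw [Subgroup.relIndex_bot_left, Subgroup.relIndex_bot_left] at h1
  obtain ⟨s, hs⟩ := IsPGroup.iff_card.1 hS
  have hdvd : T.relIndex S ∣ p ^ s := by rw [← hs]; exact Subgroup.relIndex_dvd_card T S
  obtain ⟨j, -, hj⟩ := (Nat.dvd_prime_pow hp.out).1 hdvd
  have hTpos : 0 < Nat.card T := Nat.card_pos
  have hj1 : j ≤ 1 := by
    by_contra hlt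
    push Not at hlt
    have h2 : p ^ 2 ≤ p ^ j := Nat.pow_le_pow_right hp.out.pos hlt
    have h3 : Nat.card T * p ^ 2 ≤ p * Nat.card T := by
      calc Nat.card T * p ^ 2 ≤ Nat.card T * p ^ j := Nat.mul_le_mul_left _ h2
        _ = Nat.card S := by rw [← hj]; exact h1
        _ ≤ p * Nat.card T := hcard
    have h4 : p * Nat.card T < Nat.card T * p ^ 2 := by
      rw [pow_two, ← mul_assoc, mul_comm (Nat.card ↥T) p]
      have : p * Nat.card ↥T * 1 < p * Nat.card ↥T * p :=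
        Nat.mul_lt_mul_of_pos_left hp1 (Nat.mul_pos hp.out.pos hTpos)
      rwa [mul_one] at this
    omega
  rcases Nat.eq_zero_or_pos j with h0 | h0
  · rw [h0, pow_zero] at hj
    have h5 : S ≤ T := Subgroup.relIndex_eq_one.1 hj
    exact h5.trans Subgroup.le_normalizer
  · have hj' : j = 1 := by omega
    rw [hj', pow_one] at hj
    have hsne : s ≠ 0 := by
      intro h0'
      rw [h0', pow_zero] at hs
      rw [hs, hj] at h1
      have : Nat.card T * p = 1 := h1
      have := Nat.eq_one_of_mul_eq_one_left this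
      omega
    have hidx : (T.subgroupOf S).index = (Nat.card ↥S).minFac := by
      rw [hs, Nat.Prime.pow_minFac hp.out hsne]
      exact hj
    have hn : (T.subgroupOf S).Normal := Subgroup.normal_of_index_eq_minFac_card hidx
    exact (Subgroup.normal_subgroupOf_iff_le_normalizer hTS).1 hn

end Cfsg.Agent.helper23
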