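import Mathlib
import Cfsg.Prelude.Def_OddOrder
import Cfsg.Prelude.Def_OddOrderLocal
import Cfsg.Prelude.Def_CaseTheorems
import Cfsg.Agent.Lib_helper23_Tr13

set_option autoImplicit false
set_option linter.style.haveILetI false
set_option linter.unusedSectionVars false
set_option maxHeartbeats 1600000

namespace Cfsg.Agent.helper23

open Cfsg.Agent.helper7
open scoped commutatorElement Pointwise

universe u

variable {G : Type u} [Group G] [Finite G]

theorem normalizer_le_normalizer_centralizer (T : Subgroup G) :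
    Subgroup.normalizer (T : Set G) ≤
      Subgroup.normalizer ((Subgroup.centralizer (T : Set G) : Subgroup G) : Set G) := by
  intro g hg
  apply mem_normalizer_of_cj_eq
  rw [cj_centralizer, cj_eq_of_mem_normalizer hg]

/-- `B ≤ O_{p',p}(M)` whenever `M ≥ C_G(B)` is proper and `|P : C_P(B)| ≤ p`. -/
theorem pp_le_relD (hG : Cfsg.IsMinSimpleOddOrder G) {p : ℕ} [hp : Fact p.Prime] (P : Sylow p G)
    (B : Subgroup G) (hBP : B ≤ (P : Subgroup G))
    (hBc : B ≤ Subgroup.centralizer (B : Set G))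
    (hidx : Nat.card (P : Subgroup G) ≤
      p * Nat.card ((P : Subgroup G) ⊓ Subgroup.centralizer (B : Set G) : Subgroup G))
    (M : Subgroup G) (hM : M ≠ ⊤) (hCM : Subgroup.centralizer (B : Set G) ≤ M) :
    B ≤ relD p M := by
  have hMs := mso_solvable hG M hM
  obtain ⟨T, hTdef⟩ : ∃ T : Subgroup G,
    T = (P : Subgroup G) ⊓ Subgroup.centralizer (B : Set G) := ⟨_, rfl⟩
  rw [← hTdef] at hidx
  have hTP : T ≤ (P : Subgroup G) := by rw [hTdef]; exact inf_le_left
  have hTC : T ≤ Subgroup.centralizer (B : Set G) := by rw [hTdef]; exact inf_le_right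
  have hTM : T ≤ M := hTC.trans hCM
  have hTp : IsPGroup p T := P.isPGroup'.to_le hTP
  have hTp' : IsPGroup p (T.subgroupOf M) :=
    hTp.comap_of_injective _ (Subgroup.subtype_injective M)
  obtain ⟨S', hS'⟩ := hTp'.exists_le_sylow
  obtain ⟨S, hSdef⟩ : ∃ S : Subgroup G, S = (S' : Subgroup ↥M).map M.subtype := ⟨_, rfl⟩
  have hSp : IsPGroup p S := by rw [hSdef]; exact S'.isPGroup'.map _
  have hTS : T ≤ S := by
    intro t ht
    rw [hSdef]
    exact ⟨⟨t, hTM ht⟩, hS' (by rw [Subgroup.mem_subgroupOf]; exact ht), rfl⟩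
  have hScard : Nat.card S ≤ Nat.card (P : Subgroup G) := by
    obtain ⟨Q, hQ⟩ := hSp.exists_le_sylow
    calc Nat.card S ≤ Nat.card (Q : Subgroup G) := Subgroup.card_le_of_le hQ
      _ = Nat.card (P : Subgroup G) := by
          rw [Sylow.card_eq_multiplicity, Sylow.card_eq_multiplicity]
  have hSN : S ≤ Subgroup.normalizer (T : Set G) :=
    le_normalizer_of_card_le T S hSp hTS (hScard.trans hidx)
  obtain ⟨Bs, hBsdef⟩ : ∃ Bs : Subgroup G, Bs = T ⊓ Subgroup.centralizer (T : Set G) :=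
    ⟨_, rfl⟩
  have hBsT : Bs ≤ T := by rw [hBsdef]; exact inf_le_left
  have hBBs : B ≤ Bs := by
    rw [hBsdef]
    refine le_inf ?_ (Subgroup.le_centralizer_iff.1 hTC)
    rw [hTdef]
    exact le_inf hBP hBc
  have hBsc : IsMulCommutative ↥Bs := by
    refine ⟨⟨fun x y => ?_⟩⟩
    apply Subtype.ext
    have hBsCT : Bs ≤ Subgroup.centralizer (T : Set G) := by rw [hBsdef]; exact inf_le_right
    have hy : (y : G) ∈ Subgroup.centralizer (T : Set G) := hBsCT y.2
    exact Subgroup.mem_centralizer_iff.1 hy (x : G) (hBsT x.2)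
  have hSBs : ∀ s ∈ (S' : Subgroup ↥M), (s : G) ∈ Subgroup.normalizer (Bs : Set G) := by
    intro s hs
    have hsS : (s : G) ∈ S := by rw [hSdef]; exact ⟨s, hs, rfl⟩
    have h1 := hSN hsS
    have h2 := normalizer_le_normalizer_centralizer T h1
    rw [hBsdef]
    exact Subgroup.inf_normalizer_le_normalizer_inf ⟨h1, h2⟩
  have hBsS : Bs.subgroupOf M ≤ (S' : Subgroup ↥M) := by
    intro x hx
    rw [Subgroup.mem_subgroupOf] at hx
    exact hS' (by rw [Subgroup.mem_subgroupOf]; exact hBsT hx)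
  have key := abelian_le_relD hG.1 M hMs S' Bs (hBsT.trans hTM) hBsS hBsc hSBs
  exact hBBs.trans key

/-- Invariant `p'`-subgroups of `C_G(x)`, `x ∈ B^#`, lie in `O_{p'}(C_G(x))`. -/
theorem case2_cent (hG : Cfsg.IsMinSimpleOddOrder G) {p : ℕ} [hp : Fact p.Prime] (P : Sylow p G)
    (A : Subgroup G) (hAP : A ≤ (P : Subgroup G))
    (hPA : (P : Subgroup G) ≤ Subgroup.normalizer (A : Set G))
    (hPC : (P : Subgroup G) ⊓ Subgroup.centralizer (A : Set G) = A) (hAc : IsMulCommutative A)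
    (B : Subgroup G) (hBA : B ≤ A) (hPB : (P : Subgroup G) ≤ Subgroup.normalizer (B : Set G))
    (hBcard : Nat.card B = p ^ 2)
    (hidx : Nat.card (P : Subgroup G) ≤
      p * Nat.card ((P : Subgroup G) ⊓ Subgroup.centralizer (B : Set G) : Subgroup G))
    (x : G) (hxB : x ∈ B) (hx1 : x ≠ 1) (X₁ : Subgroup G)
    (hX₁M : X₁ ≤ Subgroup.centralizer ({x} : Set G)) (hX₁ : (Nat.card X₁).Coprime p)
    (hAX₁ : A ≤ Subgroup.normalizer (X₁ : Set G)) :
    X₁ ≤ relO p (Subgroup.centralizer ({x} : Set G)) := by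
  have hp1 : 1 < p := hp.out.one_lt
  obtain ⟨M, hMdef⟩ : ∃ M : Subgroup G, M = Subgroup.centralizer ({x} : Set G) := ⟨_, rfl⟩
  rw [← hMdef] at hX₁M ⊢
  have hAcent : A ≤ Subgroup.centralizer (A : Set G) := by
    intro a ha
    rw [Subgroup.mem_centralizer_iff]
    intro b hb
    have h0 := hAc.is_comm.comm ⟨b, hb⟩ ⟨a, ha⟩
    have h3 := congrArg Subtype.val h0
    exact h3
  have hAB : A ≤ Subgroup.centralizer (B : Set G) :=
    hAcent.trans (Subgroup.centralizer_le (by exact_mod_cast hBA))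
  have hBcent : B ≤ Subgroup.centralizer (B : Set G) := hBA.trans hAB
  have hCBM : Subgroup.centralizer (B : Set G) ≤ M := by
    rw [hMdef]
    exact Subgroup.centralizer_le (Set.singleton_subset_iff.2 hxB)
  have hAM : A ≤ M := hAB.trans hCBM
  have hBM : B ≤ M := hBA.trans hAM
  have hM : M ≠ ⊤ := by rw [hMdef]; exact mso_centralizer_ne_top hG x hx1
  have hMs := mso_solvable hG M hM
  have hAp : IsPGroup p A := P.isPGroup'.to_le hAP
  have hBp : IsPGroup p B := hAp.to_le hBA
  have hBD : B ≤ relD p M := pp_le_relD hG P B (hBA.trans hAP) hBcent hidx M hM hCBM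
  have hBX₁ : B ≤ Subgroup.normalizer (X₁ : Set G) := hBA.trans hAX₁
  have hcop : (Nat.card B).Coprime (Nat.card X₁) := by
    rw [hBcard]; exact Nat.Coprime.pow_left 2 hX₁.symm
  have hsolvB : Group.IsSolvable ↥B := Cfsg.Agent.lead.solvable_of_le hBM hMs
  have dec := Cfsg.Agent.lead.coprime_commutator_sup_fixed B X₁ hBX₁ hcop (Or.inl hsolvB)
  rw [← dec]
  apply sup_le
  · exact comm_le_relO M B X₁ hX₁M hX₁ hBD hBX₁
  · obtain ⟨X₃, hX₃def⟩ : ∃ X₃ : Subgroup G,
      X₃ = X₁ ⊓ Subgroup.centralizer (B : Set G) := ⟨_, rfl⟩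
    rw [← hX₃def]
    have hX₃X₁ : X₃ ≤ X₁ := by rw [hX₃def]; exact inf_le_left
    have hX₃C : X₃ ≤ Subgroup.centralizer (B : Set G) := by rw [hX₃def]; exact inf_le_right
    obtain ⟨N, hNdef⟩ : ∃ N : Subgroup G, N = Subgroup.normalizer (B : Set G) := ⟨_, rfl⟩
    have hBne : B ≠ ⊥ := by
      intro h
      rw [h, Subgroup.card_bot] at hBcard
      have : 1 < p ^ 2 := Nat.one_lt_pow (by omega) hp1
      omega
    have hBtop : B ≠ ⊤ := by
      intro h
      apply hM
      rw [eq_top_iff, ← h]; exact hBM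
    have hN : N ≠ ⊤ := by rw [hNdef]; exact mso_normalizer_ne_top hG B hBne hBtop
    have hNs := mso_solvable hG N hN
    have hPN : (P : Subgroup G) ≤ N := by rw [hNdef]; exact hPB
    have hAN : A ≤ N := hAP.trans hPN
    have hCN : Subgroup.centralizer (B : Set G) ≤ N := by
      rw [hNdef]; exact Subgroup.centralizer_le_normalizer _
    have hAD : A ≤ relD p N := by
      apply abelian_le_relD hG.1 N hNs (P.subtype hPN) A hAN _ hAc
      · intro s hs
        rw [Sylow.coe_subtype, Subgroup.mem_subgroupOf] at hs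
        exact hPA hs
      · rw [Sylow.coe_subtype]
        intro a ha
        rw [Subgroup.mem_subgroupOf] at ha ⊢
        exact hAP ha
    have hX₃cop : (Nat.card X₃).Coprime p :=
      Nat.Coprime.coprime_dvd_left (Subgroup.card_dvd_of_le hX₃X₁) hX₁
    have hAX₃ : A ≤ Subgroup.normalizer (X₃ : Set G) := by
      intro a ha
      rw [hX₃def]
      exact Subgroup.inf_normalizer_le_normalizer_inf
        ⟨hAX₁ ha, Subgroup.le_normalizer (hAB ha)⟩
    have k1 : X₃ ≤ relO p N :=
      inv_le_relO_of_le_relD N hNs A hAN hAp hAD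
        (fun c hc h => pelement_centralizer_mem P A hPA hPC c hc.2 h) X₃ (hX₃C.trans hCN)
        hX₃cop hAX₃
    obtain ⟨X₄, hX₄def⟩ : ∃ X₄ : Subgroup G,
      X₄ = relO p N ⊓ M ⊓ Subgroup.centralizer (B : Set G) := ⟨_, rfl⟩
    have k2 : X₃ ≤ X₄ := by
      rw [hX₄def]
      exact le_inf (le_inf k1 (hX₃X₁.trans hX₁M)) hX₃C
    have k3 : X₄ ≤ relO p M := by
      apply balance_pprime_sub' hp.out (pLayer_eq_bot_of_solvable p hMs) hBM _ hBp _ _ _
      · rw [hX₄def]; exact inf_le_left.trans inf_le_right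
      · rw [hX₄def]
        exact Nat.Coprime.coprime_dvd_left
          (Subgroup.card_dvd_of_le (inf_le_left.trans inf_le_left)) (relO_coprime hp.out N)
      · rw [hX₄def]; exact inf_le_right
      · rintro y ⟨⟨hyM, hyC⟩, -⟩
        have hyN : y ∈ N := hCN hyC
        have n1 : y ∈ Subgroup.normalizer ((relO p N : Subgroup G) : Set G) :=
          relO_normal p N hyN
        have n2 : y ∈ Subgroup.normalizer (M : Set G) := Subgroup.le_normalizer hyM
        have n3 : y ∈ Subgroup.normalizer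
            ((Subgroup.centralizer (B : Set G) : Subgroup G) : Set G) :=
          Subgroup.le_normalizer hyC
        rw [hX₄def]
        exact Subgroup.inf_normalizer_le_normalizer_inf
          ⟨Subgroup.inf_normalizer_le_normalizer_inf ⟨n1, n2⟩, n3⟩
    exact k2.trans k3

/-- Case (2): `A ∈ SCN(P)` noncyclic. -/
theorem case2_main (hG : Cfsg.IsMinSimpleOddOrder G) {p : ℕ} [hp : Fact p.Prime] (P : Sylow p G)
    (A : Subgroup G) (hAP : A ≤ (P : Subgroup G))
    (hPA : (P : Subgroup G) ≤ Subgroup.normalizer (A : Set G))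
    (hPC : (P : Subgroup G) ⊓ Subgroup.centralizer (A : Set G) = A) (hAc : IsMulCommutative A)
    (hr : ¬ Cfsg.PRankLE p 1 A)
    (H : Subgroup G) (hH : H ≠ ⊤) (hAH : A ≤ H) (R : Subgroup G) (hRH : R ≤ H)
    (hR : (Nat.card R).Coprime p) (hAR : A ≤ Subgroup.normalizer (R : Set G)) :
    R ≤ relO p H := by
  have hp1 : 1 < p := hp.out.one_lt
  obtain ⟨B, hBA, hPB, hBexp, hBcard, hidx⟩ :=
    exists_normal_pp (P : Subgroup G) A P.isPGroup' hAP hPA hAc hr
  have hAp : IsPGroup p A := P.isPGroup'.to_le hAP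
  haveI hBc : IsMulCommutative ↥B := by
    refine ⟨⟨fun x y => ?_⟩⟩
    apply Subtype.ext
    have h0 := hAc.is_comm.comm ⟨x, hBA x.2⟩ ⟨y, hBA y.2⟩
    have h3 := congrArg Subtype.val h0
    exact h3
  have hBnc : ¬ IsCyclic ↥B := by
    apply ea_not_cyclic B ⟨hBc, hBexp⟩
    rw [hBcard]
    calc p = p ^ 1 := (pow_one p).symm
      _ < p ^ 2 := Nat.pow_lt_pow_right hp1 (by omega)
  have hcopBR : (Nat.card B).Coprime (Nat.card R) := by
    rw [hBcard]; exact Nat.Coprime.pow_left 2 hR.symm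
  have gen := Cfsg.Agent.helper15.iSup_centralizer_eq_of_not_isCyclic B R hBnc
    (hBA.trans hAR) hcopBR
  rw [← gen]
  apply iSup₂_le
  rintro x ⟨hxB, hx1⟩
  obtain ⟨M, hMdef⟩ : ∃ M : Subgroup G, M = Subgroup.centralizer ({x} : Set G) := ⟨_, rfl⟩
  have hxA : x ∈ A := hBA hxB
  have hAM : A ≤ M := by
    intro a ha
    rw [hMdef, Subgroup.mem_centralizer_iff]
    intro y hy
    rw [Set.mem_singleton_iff] at hy
    subst hy
    have h0 := hAc.is_comm.comm ⟨y, hxA⟩ ⟨a, ha⟩
    have h3 := congrArg Subtype.val h0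
    exact h3
  have hAX₁ : A ≤ Subgroup.normalizer ((R ⊓ M : Subgroup G) : Set G) := by
    intro a ha
    exact Subgroup.inf_normalizer_le_normalizer_inf ⟨hAR ha, Subgroup.le_normalizer (hAM ha)⟩
  have hX₁cop : (Nat.card (R ⊓ M : Subgroup G)).Coprime p :=
    Nat.Coprime.coprime_dvd_left (Subgroup.card_dvd_of_le inf_le_left) hR
  have c1 : R ⊓ M ≤ relO p M := by
    rw [hMdef] at hAX₁ hX₁cop ⊢
    exact case2_cent hG P A hAP hPA hPC hAc B hBA hPB hBcard hidx x hxB hx1 _ inf_le_right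
      hX₁cop hAX₁
  rw [← hMdef]
  have c2 : R ⊓ M ≤ relO p M ⊓ H := le_inf c1 (inf_le_left.trans hRH)
  have hHs := mso_solvable hG H hH
  have hzc : Subgroup.centralizer ((Subgroup.zpowers x : Subgroup G) : Set G) = M := by
    rw [hMdef, Subgroup.zpowers_eq_closure, Subgroup.centralizer_closure]
  have c3 : relO p M ⊓ H ≤ relO p H := by
    apply balance_pprime_sub' hp.out (pLayer_eq_bot_of_solvable p hHs)
      (P₁ := Subgroup.zpowers x) _ inf_le_right _ _ _ _
    · rw [Subgroup.zpowers_le]; exact hAH hxA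
    · exact hAp.to_le (by rw [Subgroup.zpowers_le]; exact hxA)
    · exact Nat.Coprime.coprime_dvd_left (Subgroup.card_dvd_of_le inf_le_left)
        (relO_coprime hp.out M)
    · rw [hzc]; exact inf_le_left.trans (relO_le p M)
    · rintro y ⟨⟨hyH, hyC⟩, -⟩
      rw [hzc] at hyC
      have n1 : y ∈ Subgroup.normalizer ((relO p M : Subgroup G) : Set G) :=
        relO_normal p M hyC
      have n2 : y ∈ Subgroup.normalizer (H : Set G) := Subgroup.le_normalizer hyH
      exact Subgroup.inf_normalizer_le_normalizer_inf ⟨n1, n2⟩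
  exact c2.trans c3

end Cfsg.Agent.helper23
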