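import Cfsg.Statements.S1396
import Cfsg.Agent.Lib_helper23_Tr14

set_option autoImplicit false
open Cfsg

namespace Cfsg.Agent.S1396

/-- Let G be a minimal simple group of odd order, p a prime dividing the order of G and A an abelian p-subgroup. Suppose either (1) A consists exactly of the elements x of C_G(A) with x^p = 1, and every proper subgroup of G has p-length at most one, or (2) A is normal and self-centralizing in some Sylow p-subgroup of G and has rank at least 2. Then A satisfies the transitivity hypothesis. -/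
theorem result {G : Type*} [Group G] [Finite G] (hG : Cfsg.IsMinSimpleOddOrder G)
    (p : ℕ) [Fact p.Prime] (hp : p ∣ Nat.card G) (A : Subgroup G) (hAp : IsPGroup p A) (hAc : IsMulCommutative A)
    (h : (∀ x ∈ Subgroup.centralizer (A : Set G), x ^ p = 1 ↔ x ∈ A) ∧ (∀ H : Subgroup G, H ≠ ⊤ → Cfsg.PLengthLE p 1 H) ∨
      ∃ P : Sylow p G, Cfsg.IsSCN (P : Subgroup G) A ∧ ¬ Cfsg.PRankLE p 1 A) :
    Cfsg.TransitivityHypothesis A := by
  have hp2 : p ≠ 2 := by
    intro h2
    have h3 := hG.1
    rw [h2] at hp
    rw [Nat.odd_iff] at h3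
    omega
  have hA2 : A ≠ ⊤ := by
    intro h
    have hGp : IsPGroup p G := by
      intro g
      obtain ⟨k, hk⟩ := hAp ⟨g, h ▸ Subgroup.mem_top g⟩
      refine ⟨k, ?_⟩
      have h3 := congrArg Subtype.val hk
      rw [Subgroup.coe_pow, Subgroup.coe_one] at h3
      exact h3
    haveI := hG.2.1
    haveI : Nontrivial G := IsSimpleGroup.toNontrivial
    have hc := hGp.bot_lt_center
    rcases (inferInstance : (Subgroup.center G).Normal).eq_bot_or_eq_top with h1 | h1
    · exact hc.ne h1.symm
    · apply hG.2.2.1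
      refine ⟨⟨fun x y => ?_⟩⟩
      have hy : y ∈ Subgroup.center G := h1 ▸ Subgroup.mem_top y
      exact Subgroup.mem_center_iff.1 hy x
  rcases h with ⟨h1, h2⟩ | ⟨P, hscn, hr⟩
  · have hA1 : A ≠ ⊥ := by
      intro hb
      obtain ⟨x, hx⟩ := exists_prime_orderOf_dvd_card' (G := G) p hp
      have hxc : x ∈ Subgroup.centralizer (A : Set G) := by
        rw [hb, Subgroup.mem_centralizer_iff]
        intro y hy
        have : y = 1 := hy
        rw [this, one_mul, mul_one]
      have hxp : x ^ p = 1 := by rw [← hx]; exact pow_orderOf_eq_one x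
      have hxA := (h1 x hxc).1 hxp
      rw [hb, Subgroup.mem_bot] at hxA
      rw [hxA, orderOf_one] at hx
      exact (Fact.out : p.Prime).one_lt.ne hx
    apply Cfsg.Agent.helper23.transHyp_of_main A hA1 hA2 hAp
    intro X hX hAX Y hYX hY hAY
    exact Cfsg.Agent.helper23.case1_main hG hp2 A hAc h1 h2 X hX hAX Y hYX hY hAY
  · have hA1 : A ≠ ⊥ := by
      intro hb
      apply hr
      intro E _ _
      have h3 : Nat.card ↥A = 1 := by rw [hb]; exact Subgroup.card_bot
      have h4 : Nat.card E ≤ Nat.card ↥A := Subgroup.card_le_card_group E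
      rw [pow_one]
      have := (Fact.out : p.Prime).one_lt
      omega
    obtain ⟨hAP, hPA, hPC⟩ := hscn
    apply Cfsg.Agent.helper23.transHyp_of_main A hA1 hA2 hAp
    intro X hX hAX Y hYX hY hAY
    exact Cfsg.Agent.helper23.case2_main hG P A hAP hPA hPC hAc hr X hX hAX Y hYX hY hAY

end Cfsg.Agent.S1396
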