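import Mathlib
import Cfsg.Agent.Lib_helper15_BL10
import Cfsg.Agent.S1396

set_option autoImplicit false
set_option linter.style.haveILetI false
set_option linter.unusedSectionVars false
set_option maxHeartbeats 3200000

/-! B&G Theorem 8.1(b): `F(M)` a `p`-group. -/

namespace Cfsg.Agent.helper15.BL

open Cfsg.Agent.helper7 Cfsg.Agent.helper15
open scoped commutatorElement

universe u

variable {G : Type u} [Group G] [Finite G]

/-- No nontrivial `A`-invariant `π(F(M))'`-subgroups, from the transitivity theorems. -/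
theorem no_inv (hG : Cfsg.IsMinSimpleOddOrder G) (M : Subgroup G) (hM : IsCoatom M)
    (A : Subgroup G) (hAF : A ≤ fitOf M)
    (hCA : fitOf M ⊓ Subgroup.centralizer (A : Set G) ≤ A)
    (hTH : Cfsg.TransitivityHypothesis A)
    (hZ : ¬ Cfsg.RankLE 2 ↥(A ⊓ Subgroup.centralizer (A : Set G)))
    (hprimes : ∀ q : ℕ, q.Prime → q ∣ Nat.card (fitOf M) → q ∣ Nat.card A) :
    ∀ Y ∈ Cfsg.invSubgroups ⊤ A (Cfsg.primesNotDvd (Nat.card (fitOf M))), Y = ⊥ := by
  haveI : IsSimpleGroup G := hG.2.1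
  have hna := hG.2.2.1
  have hMs : Group.IsSolvable ↥M := hG.2.2.2 M hM.1
  have hAne : A ≠ ⊥ := hTH.1
  obtain ⟨p, hpp, hpA⟩ : ∃ p : ℕ, p.Prime ∧ p ∣ Nat.card A := by
    apply Nat.exists_prime_and_dvd
    intro h1
    exact hAne (Subgroup.eq_bot_of_card_eq _ h1)
  haveI hp : Fact p.Prime := ⟨hpp⟩
  have hpF : p ∣ Nat.card (fitOf M) := hpA.trans (Subgroup.card_dvd_of_le hAF)
  have hFp : piCoreIn {p} M ≠ ⊥ := core_ne_bot_of_dvd M p hpF
  have hZA : fitOf M ⊓ Subgroup.centralizer ((fitOf M : Subgroup G) : Set G) ≤ A :=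
    (le_inf inf_le_left (inf_le_right.trans (Subgroup.centralizer_le hAF))).trans hCA
  have hmax : MaxLoc M A := maxLoc_of_coatom hna M A hM hAF hCA
  have hAM : A ≤ M := hAF.trans (fitOf_le M)
  have hσ : Cfsg.primesNotDvd (Nat.card A) = Cfsg.primesNotDvd (Nat.card (fitOf M)) := by
    ext q
    constructor
    · rintro ⟨hq, hqA⟩
      exact ⟨hq, fun hqF => hqA (hprimes q hq hqF)⟩
    · rintro ⟨hq, hqF⟩
      exact ⟨hq, fun hqA => hqF (hqA.trans (Subgroup.card_dvd_of_le hAF))⟩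
  have hcopY : ∀ Y : Subgroup G,
      (∀ t : ℕ, t.Prime → t ∣ Nat.card Y → t ∈ Cfsg.primesNotDvd (Nat.card (fitOf M))) →
      (Nat.card A).Coprime (Nat.card Y) := by
    intro Y hY
    apply Nat.coprime_of_dvd
    intro k hk hkA hkY
    exact (hY k hk hkY).2 (hkA.trans (Subgroup.card_dvd_of_le hAF))
  -- `O_{π'}(C_G(A)) = 1`
  have hK : piCoreIn (Cfsg.primesNotDvd (Nat.card (fitOf M)))
      (Subgroup.centralizer (A : Set G)) = ⊥ := by
    obtain ⟨K, hKdef⟩ : ∃ K : Subgroup G, K = piCoreIn (Cfsg.primesNotDvd (Nat.card (fitOf M)))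
      (Subgroup.centralizer (A : Set G)) := ⟨_, rfl⟩
    rw [← hKdef]
    have hKC : K ≤ Subgroup.centralizer (A : Set G) := by rw [hKdef]; exact piCoreIn_le _ _
    have hAK : A ≤ Subgroup.normalizer (K : Set G) := by
      rw [hKdef]
      exact (Subgroup.le_normalizer.trans (normalizer_le_normalizer_centralizer A)).trans
        (normalizer_le_normalizer_radOf (fun g _ h => h.conj g) _)
    have hKσ : ∀ t : ℕ, t.Prime → t ∣ Nat.card K →
        t ∈ Cfsg.primesNotDvd (Nat.card (fitOf M)) := by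
      rw [hKdef]; exact piGrp_iff_card.1 (piCoreIn_piGrp _ _)
    have hcopK : (Nat.card K).Coprime (Nat.card (fitOf M)) := by
      apply Nat.coprime_of_dvd
      intro k hk hkK hkF
      exact (hKσ k hk hkK).2 hkF
    have h1 := hmax.inf_centralizer_le p hFp K hAK hcopK
    have h2 : K ≤ K ⊓ Subgroup.centralizer ((A ⊓ piCoreIn {p} M : Subgroup G) : Set G) :=
      le_inf le_rfl (hKC.trans (Subgroup.centralizer_le inf_le_left))
    have h3 : K ≤ fitOf M := (h2.trans h1).trans (inf_centralizer_fitOf_le M hMs)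
    have h4 : K ⊓ fitOf M = ⊥ := Subgroup.inf_eq_bot_of_coprime hcopK
    rw [eq_bot_iff, ← h4]
    exact le_inf le_rfl h3
  -- uniqueness of the maximal invariant `q`-subgroup
  have huniq : ∀ q : ℕ, q.Prime → ¬ q ∣ Nat.card (fitOf M) →
      ∀ Q₁ ∈ Cfsg.maxInvSubgroups ⊤ A {q}, ∀ Q₂ ∈ Cfsg.maxInvSubgroups ⊤ A {q}, Q₂ = Q₁ := by
    intro q hq hqF Q₁ h₁ Q₂ h₂
    have hqA : ¬ q ∣ Nat.card A := fun h => hqF (h.trans (Subgroup.card_dvd_of_le hAF))
    obtain ⟨k, hk, hkQ⟩ := Cfsg.Agent.S1393.result hG A hTH hZ q hq hqA Q₁ h₁ Q₂ h₂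
    rw [hσ, Cfsg.Agent.helper23.piCoreOf_eq_piCoreIn, hK, Subgroup.mem_bot] at hk
    rw [hkQ, hk]
    exact cj_one Q₁
  -- the unique one is trivial
  have hbot : ∀ q : ℕ, q.Prime → ¬ q ∣ Nat.card (fitOf M) →
      ∀ Q ∈ Cfsg.maxInvSubgroups ⊤ A {q}, Q = ⊥ := by
    intro q hq hqF Q₀ hQ₀
    haveI : Fact q.Prime := ⟨hq⟩
    have hqA : ¬ q ∣ Nat.card A := fun h => hqF (h.trans (Subgroup.card_dvd_of_le hAF))
    have hFtop : fitOf M ≠ ⊤ := fun h => hM.1 (top_le_iff.1 (h ▸ fitOf_le M))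
    have hsn : (A.subgroupOf (fitOf M)).IsSubnormal :=
      sn_comap_subtype (sn_of_le_nilpotent (fitOf_nilpotent M) _ A rfl hAF)
    have h95 := Cfsg.Agent.S1395.result hG A hTH q hq hqA (fitOf M) hFtop hprimes hAF hsn
      (fun Q₁ h₁ Q₂ h₂ => Cfsg.Agent.S1393.result hG A hTH hZ q hq hqA Q₁ h₁ Q₂ h₂)
    have hsub := h95.2.2.1
    have hbotinv : (⊥ : Subgroup G) ∈ Cfsg.invSubgroups ⊤ (fitOf M) {q} := by
      refine ⟨le_top, ?_, ?_⟩
      · intro t ht htd
        rw [Subgroup.card_bot] at htd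
        exact absurd (Nat.dvd_one.1 htd) ht.ne_one
      · rw [Subgroup.normalizer_eq_top]; exact le_top
    obtain ⟨Q, hQ, -⟩ := Cfsg.Agent.helper23.exists_max_ge (fitOf M) q ⊥ hbotinv
    have hQA : Q ∈ Cfsg.maxInvSubgroups ⊤ A {q} := hsub hQ
    have hMQ : M ≤ Subgroup.normalizer (Q : Set G) := by
      intro m hm
      have h1 := cj_mem_maxInv_of_normalizer (fitOf M) q m (fitOf_normal M hm) Q hQ
      have h2 := huniq q hq hqF Q hQA _ (hsub h1)
      exact mem_normalizer_of_cj_eq h2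
    have hQq : IsPGroup q Q := Cfsg.Agent.helper23.isPGroup_of_primes q Q hQ.1.2.1
    have hQbot : Q = ⊥ := by
      by_contra hQne
      have hQtop : Q ≠ ⊤ := by
        intro h
        obtain ⟨k, hk⟩ := hQq.exists_card_eq
        rw [h, Subgroup.card_top] at hk
        have h1 : p ∣ q ^ k := by
          rw [← hk]; exact hpF.trans (Subgroup.card_subgroup_dvd_card _)
        have h2 := (Nat.prime_dvd_prime_iff_eq hp.out hq).1 (hp.out.dvd_of_dvd_pow h1)
        exact hqF (h2 ▸ hpF)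
      have hNtop := Cfsg.Agent.helper23.mso_normalizer_ne_top hG Q hQne hQtop
      have hNM : Subgroup.normalizer (Q : Set G) = M := by
        by_contra hne
        exact hNtop (hM.2 _ (lt_of_le_of_ne hMQ (Ne.symm hne)))
      have hQM : Q ≤ M := hNM ▸ Subgroup.le_normalizer
      have h3 : Q ≤ piCoreIn {q} M :=
        le_radOf hQM hMQ ((isPGroup_iff_piGrp hq).1 hQq)
      rw [core_eq_bot_of_not_dvd M q hqF, le_bot_iff] at h3
      exact hQne h3
    rw [huniq q hq hqF Q hQA Q₀ hQ₀, hQbot]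
  -- no nontrivial invariant `π'`-subgroups
  rintro Y ⟨-, hYσ, hAY⟩
  have hYtop : Y ≠ ⊤ := by
    intro h
    have h1 : p ∣ Nat.card Y := by
      rw [h, Subgroup.card_top]; exact hpF.trans (Subgroup.card_subgroup_dvd_card _)
    exact (hYσ p hp.out h1).2 hpF
  rw [eq_bot_iff]
  apply le_of_invariant_pgroups_le A Y _ hAY (hcopY Y hYσ) (Or.inr (hG.2.2.2 Y hYtop))
  intro q S hq hSY hSq hAS
  haveI : Fact q.Prime := ⟨hq⟩
  by_cases hS : S = ⊥
  · rw [hS]
  · have hqY : q ∣ Nat.card Y :=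
      (prime_dvd_card_of_isPGroup_ne_bot S hSq hS).trans (Subgroup.card_dvd_of_le hSY)
    have hqF := (hYσ q hq hqY).2
    have hSinv : S ∈ Cfsg.invSubgroups ⊤ A {q} :=
      ⟨le_top, Cfsg.Agent.helper23.primes_of_isPGroup q S hSq, hAS⟩
    obtain ⟨Q, hQ, hSQ⟩ := Cfsg.Agent.helper23.exists_max_ge A q S hSinv
    rw [hbot q hq hqF Q hQ] at hSQ
    exact hSQ

end Cfsg.Agent.helper15.BL
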