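import Mathlib
import Cfsg.Agent.Lib_helper15_BL11

set_option autoImplicit false
set_option linter.style.haveILetI false
set_option linter.unusedSectionVars false
set_option maxHeartbeats 3200000

/-! B&G Theorem 8.1(b): the `ZJ`-argument. -/

namespace Cfsg.Agent.helper15.BL

open Cfsg.Agent.helper7 Cfsg.Agent.helper15
open scoped commutatorElement

universe u

variable {G : Type u} [Group G] [Finite G] {p : ℕ} [hp : Fact p.Prime]

theorem fit_eq_core (X : Subgroup G) (hFX : IsPGroup p ↥(fitOf X)) :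
    fitOf X = piCoreIn {p} X :=
  le_antisymm (pgroup_le_core X (fitOf X) le_rfl hFX) (piCoreIn_le_fitOf hp.out X)

theorem core_cent_of_pgroup_fit (X : Subgroup G) (hXs : Group.IsSolvable ↥X)
    (hFX : IsPGroup p ↥(fitOf X)) :
    X ⊓ Subgroup.centralizer ((piCoreIn {p} X : Subgroup G) : Set G) ≤ piCoreIn {p} X := by
  rw [← fit_eq_core X hFX]
  exact inf_centralizer_fitOf_le X hXs

theorem isPGroup_of_only_prime (K : Subgroup G)
    (h : ∀ r : ℕ, r.Prime → r ∣ Nat.card K → r = p) : IsPGroup p ↥K := by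
  have h1 : Nat.card K = p ^ (Nat.card K).primeFactorsList.length := by
    apply Nat.eq_prime_pow_of_unique_prime_dvd Nat.card_pos.ne'
    intro d hd hdF
    exact h d hd hdF
  exact IsPGroup.of_card h1

theorem normal_pgroup_le_sylIn {X T Q : Subgroup G} (hT : SylIn p X T) (hQX : Q ≤ X)
    (hQ : IsPGroup p Q) (hN : X ≤ Subgroup.normalizer (Q : Set G)) : Q ≤ T := by
  have h1 : IsPGroup p ↥(T ⊔ Q) :=
    IsPGroup.to_sup_of_normal_right' (sylIn_isPGroup hT) hQ (hT.1.trans hN)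
  have h2 := sylIn_eq_of_le hT h1 le_sup_left (sup_le hT.1 hQX)
  rw [← h2]; exact le_sup_right

theorem coatom_zj (hG : Cfsg.IsMinSimpleOddOrder G) (hp2 : p ≠ 2) (X : Subgroup G)
    (hX : IsCoatom X) (hFX : IsPGroup p ↥(fitOf X)) (T : Subgroup G) (hT : SylIn p X T)
    (hT1 : T ≠ ⊥) :
    Subgroup.normalizer ((Cfsg.centerThompsonAOf T : Subgroup G) : Set G) = X := by
  have hXs : Group.IsSolvable ↥X := hG.2.2.2 X hX.1
  have h1 := zj_normal_rel hG.1 hp2 X (core_cent_of_pgroup_fit X hXs hFX) T hT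
  have h2 : Cfsg.centerThompsonAOf T ≠ ⊥ := zj_ne_bot (sylIn_isPGroup hT) hT1
  have h3 : Cfsg.centerThompsonAOf T ≠ ⊤ := by
    intro h
    apply hX.1
    rw [eq_top_iff, ← h]
    exact (zj_le T).trans hT.1
  have h4 := Cfsg.Agent.helper23.mso_normalizer_ne_top hG _ h2 h3
  by_contra hne
  exact h4 (hX.2 _ (lt_of_le_of_ne h1 (Ne.symm hne)))

theorem coatom_sylow_global (hG : Cfsg.IsMinSimpleOddOrder G) (hp2 : p ≠ 2) (X : Subgroup G)
    (hX : IsCoatom X) (hFX : IsPGroup p ↥(fitOf X)) (T : Subgroup G) (hT : SylIn p X T)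
    (hT1 : T ≠ ⊥) : SylIn p ⊤ T := by
  apply sylIn_of_normalizer_le hT le_top
  rw [top_inf_eq]
  have h1 := coatom_zj hG hp2 X hX hFX T hT hT1
  rw [← h1]
  exact normalizer_le_normalizer_zj T

/-- The uniqueness argument. -/
theorem uniq_of_cores (hG : Cfsg.IsMinSimpleOddOrder G) (hp2 : p ≠ 2) (M : Subgroup G)
    (hM : IsCoatom M) (A : Subgroup G) (hAp : IsPGroup p A) (hAne : A ≠ ⊥) (hAM : A ≤ M)
    (hcores : ∀ H : Subgroup G, IsCoatom H → A ≤ H → IsPGroup p ↥(fitOf H)) :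
    ∀ H : Subgroup G, IsCoatom H → A ≤ H → H = M := by
  by_contra hcon
  push_neg at hcon
  obtain ⟨H₀, hH₀, hAH₀, hH₀M⟩ := hcon
  haveI : Nonempty {H : Subgroup G // IsCoatom H ∧ A ≤ H ∧ H ≠ M} := ⟨⟨H₀, hH₀, hAH₀, hH₀M⟩⟩
  obtain ⟨⟨H, hH, hAH, hHM⟩, hmax⟩ := Finite.exists_max
    (fun H : {H : Subgroup G // IsCoatom H ∧ A ≤ H ∧ H ≠ M} =>
      (Nat.card ↥(H.1 ⊓ M)).factorization p)
  obtain ⟨T, hT, hAT⟩ := exists_sylIn_ge (p := p) (H ⊓ M) A (le_inf hAH hAM) hAp
  have hT1 : T ≠ ⊥ := fun h => hAne (le_bot_iff.1 (h ▸ hAT))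
  have hTH : T ≤ H := hT.1.trans inf_le_left
  have hTM : T ≤ M := hT.1.trans inf_le_right
  have hTtop : T ≠ ⊤ := fun h => hM.1 (top_le_iff.1 (h ▸ hTM))
  have hFM := hcores M hM hAM
  have hFH := hcores H hH hAH
  by_cases hTS : SylIn p M T
  · have h1 := coatom_zj hG hp2 M hM hFM T hTS hT1
    have h2 := coatom_sylow_global hG hp2 M hM hFM T hTS hT1
    have h3 : SylIn p H T := sylIn_mono h2 hTH le_top
    have h4 := coatom_zj hG hp2 H hH hFH T h3 hT1
    exact hHM (h4.symm.trans h1)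
  · obtain ⟨P₁, hP₁, hTP₁⟩ := exists_sylIn_ge (p := p) M T hTM (sylIn_isPGroup hT)
    have hne : T ≠ P₁ := fun h => hTS (h ▸ hP₁)
    obtain ⟨x, hxP, hxN, hxT⟩ :=
      exists_mem_normalizer_not_mem_of_pgroup (sylIn_isPGroup hP₁) hTP₁ hne
    obtain ⟨Q, hQdef⟩ : ∃ Q : Subgroup G, Q = P₁ ⊓ Subgroup.normalizer (T : Set G) := ⟨_, rfl⟩
    have hQp : IsPGroup p Q := by rw [hQdef]; exact (sylIn_isPGroup hP₁).to_le inf_le_left
    have hTQ : T ≤ Q := by rw [hQdef]; exact le_inf hTP₁ Subgroup.le_normalizer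
    have hQM : Q ≤ M := by rw [hQdef]; exact inf_le_left.trans hP₁.1
    have hQN : Q ≤ Subgroup.normalizer (T : Set G) := by rw [hQdef]; exact inf_le_right
    have hxQ : x ∈ Q := by rw [hQdef]; exact ⟨hxP, hxN⟩
    have hQT : Q ≠ T := fun h => hxT (h ▸ hxQ)
    have hNtop := Cfsg.Agent.helper23.mso_normalizer_ne_top hG T hT1 hTtop
    obtain ⟨L, hL, hNL⟩ := (eq_top_or_exists_le_coatom _).resolve_left hNtop
    have hAL : A ≤ L := (hAT.trans Subgroup.le_normalizer).trans hNL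
    have hLM : L = M := by
      by_contra hLM
      have h1 := hmax ⟨L, hL, hAL, hLM⟩
      simp only at h1
      have h2 := card_dvd_of_pgroup_le (p := p) (L ⊓ M) Q (le_inf (hQN.trans hNL) hQM) hQp
      have h3 : Nat.card Q ≤ Nat.card T := by
        rw [hT.2]
        exact (Nat.le_of_dvd (pow_pos hp.out.pos _) h2).trans
          (Nat.pow_le_pow_right hp.out.pos h1)
      exact hQT (Subgroup.eq_of_le_of_card_ge hTQ h3).symm
    have hNM : Subgroup.normalizer (T : Set G) ≤ M := hLM ▸ hNL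
    have h3 : SylIn p H T :=
      sylIn_of_normalizer_le hT inf_le_left (inf_le_inf_left H hNM)
    have h4 := coatom_zj hG hp2 H hH hFH T h3 hT1
    have hNH : Subgroup.normalizer (T : Set G) ≤ H := by
      rw [← h4]; exact normalizer_le_normalizer_zj T
    exact hQT (sylIn_eq_of_le hT hQp hTQ (le_inf (hQN.trans hNH) hQM))

end Cfsg.Agent.helper15.BL
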