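import Mathlib
import Cfsg.Agent.Lib_helper15_BL12

set_option autoImplicit false
set_option linter.style.haveILetI false
set_option linter.unusedSectionVars false
set_option maxHeartbeats 3200000

/-! B&G Theorem 8.1(b): assembly. -/

namespace Cfsg.Agent.helper15.BL

open Cfsg.Agent.helper7 Cfsg.Agent.helper15
open scoped commutatorElement

universe u

variable {G : Type u} [Group G] [Finite G]

theorem prime_eq_of_dvd_card_pgroup {p r : ℕ} (hp : p.Prime) (hr : r.Prime) (K : Subgroup G)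
    (hK : IsPGroup p K) (h : r ∣ Nat.card K) : r = p := by
  haveI : Fact p.Prime := ⟨hp⟩
  obtain ⟨k, hk⟩ := hK.exists_card_eq
  rw [hk] at h
  exact (Nat.prime_dvd_prime_iff_eq hr hp).1 (hr.dvd_of_dvd_pow h)

theorem part_b (hG : Cfsg.IsMinSimpleOddOrder G) (M : Subgroup G) (hM : IsCoatom M) (p : ℕ)
    [hp : Fact p.Prime] (A₀ : Subgroup G) (hA₀ : A₀ ≤ fitOf M)
    (hA₀e : Cfsg.IsElementaryAbelian p A₀) (hA₀3 : p ^ 3 ≤ Nat.card A₀)
    (hF : IsPGroup p ↥(fitOf M)) (P : Sylow p M) :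
    ¬ p ∣ ((P : Subgroup M).map M.subtype).index ∧
      ∀ A : Subgroup G, Cfsg.IsSCN ((P : Subgroup M).map M.subtype) A →
        ¬ Cfsg.PRankLE p 2 ↥A → A ≤ fitOf M ∧ Cfsg.InUniqueMaximal A := by
  haveI : IsSimpleGroup G := hG.2.1
  have hodd := hG.1
  have hMs : Group.IsSolvable ↥M := hG.2.2.2 M hM.1
  have hA₀p : IsPGroup p A₀ := isPGroup_of_exponent A₀ hA₀e.2
  have hA₀ne : A₀ ≠ ⊥ := by
    intro h
    rw [h, Subgroup.card_bot] at hA₀3
    have := hp.out.one_lt
    have h2 : 1 < p ^ 3 := Nat.one_lt_pow (by norm_num) this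
    omega
  have hpF : p ∣ Nat.card (fitOf M) :=
    (prime_dvd_card_of_isPGroup_ne_bot A₀ hA₀p hA₀ne).trans (Subgroup.card_dvd_of_le hA₀)
  have hpG : p ∣ Nat.card G := hpF.trans (Subgroup.card_subgroup_dvd_card _)
  have hp2 : p ≠ 2 := by
    intro h
    rw [h] at hpG
    exact (Nat.not_even_iff_odd.2 hodd) (even_iff_two_dvd.2 hpG)
  obtain ⟨P₀, hP₀def⟩ : ∃ P₀ : Subgroup G, P₀ = (P : Subgroup M).map M.subtype := ⟨_, rfl⟩
  rw [← hP₀def]
  have hP₀ : SylIn p M P₀ := hP₀def ▸ sylIn_map M P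
  have hFP : fitOf M ≤ P₀ := normal_pgroup_le_sylIn hP₀ (fitOf_le M) hF (fitOf_normal M)
  have hP₀1 : P₀ ≠ ⊥ := fun h => hA₀ne (le_bot_iff.1 (h ▸ hA₀.trans hFP))
  have hglob : SylIn p ⊤ P₀ := coatom_sylow_global hG hp2 M hM hF P₀ hP₀ hP₀1
  have hcardP : Nat.card P₀ = p ^ (Nat.card G).factorization p := by
    rw [hglob.2, Subgroup.card_top]
  have hScoe : ((Sylow.ofCard P₀ hcardP : Sylow p G) : Subgroup G) = P₀ := Sylow.coe_ofCard _ _
  refine ⟨?_, ?_⟩
  · have := (Sylow.ofCard P₀ hcardP : Sylow p G).not_dvd_index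
    rwa [hScoe] at this
  · intro A hA hr
    have hAab := scn_abelian hA
    have hfc := fit_eq_core M hF
    have hAF : A ≤ fitOf M := by
      rw [hfc]
      exact scn_le_core hodd hp2 M (core_cent_of_pgroup_fit M hMs hF) P₀ A hP₀.1
        (hfc ▸ hFP) hA
    refine ⟨hAF, ?_⟩
    have hAM : A ≤ M := hAF.trans (fitOf_le M)
    have hCA : fitOf M ⊓ Subgroup.centralizer (A : Set G) ≤ A := by
      refine (inf_le_inf_right _ hFP).trans ?_
      rw [hA.2.2]
    have hAp : IsPGroup p A := (sylIn_isPGroup hP₀).to_le hA.1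
    have hAne : A ≠ ⊥ := by
      intro h
      apply hr
      intro E _ _
      have h1 : Nat.card E ≤ Nat.card ↥A := Subgroup.card_le_card_group E
      have hcardA : Nat.card ↥A = 1 := by rw [h, Subgroup.card_bot]
      rw [hcardA] at h1
      exact h1.trans (Nat.one_le_pow _ _ hp.out.pos)
    have hAc : IsMulCommutative ↥A := by
      refine ⟨⟨fun a b => ?_⟩⟩
      apply Subtype.ext
      have := Subgroup.mem_centralizer_iff.1 (hAab b.2) _ a.2
      exact this
    have h1 : ¬ Cfsg.PRankLE p 1 ↥A := by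
      intro h
      apply hr
      intro E hE1 hE2
      exact (h E hE1 hE2).trans (Nat.pow_le_pow_right hp.out.pos (by norm_num))
    have hTH : Cfsg.TransitivityHypothesis A := by
      apply Cfsg.Agent.S1396.result hG p hpG A hAp hAc
      right
      refine ⟨Sylow.ofCard P₀ hcardP, ?_, h1⟩
      rw [hScoe]; exact hA
    have hAA : A ⊓ Subgroup.centralizer (A : Set G) = A := inf_eq_left.2 hAab
    have hZ : ¬ Cfsg.RankLE 2 ↥(A ⊓ Subgroup.centralizer (A : Set G)) := by
      intro hrank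
      rw [hAA] at hrank
      exact hr (hrank p hp.out)
    have hprimes : ∀ q : ℕ, q.Prime → q ∣ Nat.card (fitOf M) → q ∣ Nat.card A := by
      intro q hq hqF
      rw [prime_eq_of_dvd_card_pgroup hp.out hq _ hF hqF]
      exact prime_dvd_card_of_isPGroup_ne_bot A hAp hAne
    have hinv := no_inv hG M hM A hAF hCA hTH hZ hprimes
    have hcores : ∀ H : Subgroup G, IsCoatom H → A ≤ H → IsPGroup p ↥(fitOf H) := by
      intro H hH hAH
      apply isPGroup_of_only_prime
      intro r hr' hrH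
      by_contra hrp
      haveI : Fact r.Prime := ⟨hr'⟩
      apply core_ne_bot_of_dvd H r hrH
      apply hinv
      refine ⟨le_top, ?_, hAH.trans (piCoreIn_normal _ H)⟩
      intro t ht htd
      have htr : t = r := prime_eq_of_dvd_card_pgroup hr' ht _ (core_isPGroup H) htd
      rw [htr]
      exact ⟨hr', fun h => hrp (prime_eq_of_dvd_card_pgroup hp.out hr' _ hF h)⟩
    have huq := uniq_of_cores hG hp2 M hM A hAp hAne hAM hcores
    exact ⟨M, ⟨hM, hAM⟩, fun L hL => huq L hL.1 hL.2⟩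

end Cfsg.Agent.helper15.BL
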