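import Cfsg.Agent.Lib_helper23_BG5a

set_option autoImplicit false
open Cfsg

namespace Cfsg.Agent.helper23

section
variable {R : Type*} [Group R] [Finite R]

theorem sq_le_of_cube_le {p a b : ℕ} (hp : 0 < p) (hb : b ≤ p) (h : p ^ 3 ≤ b * a) : p ^ 2 ≤ a := by
  have h1 : p ^ 3 ≤ p * a := h.trans (Nat.mul_le_mul_right _ hb)
  have h2 : p * p ^ 2 ≤ p * a := by
    have : p * p ^ 2 = p ^ 3 := by ring
    rw [this]; exact h1
  exact Nat.le_of_mul_le_mul_left h2 hp

/-- a maximal elementary abelian subgroup of order `p²` of a `p`-group of rank `≥ 3` is not normal -/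
theorem no_normal_max {p : ℕ} [hp : Fact p.Prime] (hR : IsPGroup p R) (hr : ¬ PRankLE p 2 R)
    (E : Subgroup R) [E.Normal] (hE : IsElementaryAbelian p E) (hE2 : Nat.card E = p ^ 2)
    (hEmax : ∀ B : Subgroup R, IsElementaryAbelian p B → E ≤ B → B = E) : False := by
  unfold PRankLE at hr
  push_neg at hr
  obtain ⟨B, hBc, hBe, hBcard⟩ := hr
  have hB : IsElementaryAbelian p B := ⟨hBc, hBe⟩
  have hidx' : (Subgroup.centralizer (E : Set R)).index ≤ p :=
    Nat.le_of_dvd hp.out.pos (index_centralizer_dvd hR E hE2)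
  have h1 := card_le_index_mul_inf B (Subgroup.centralizer (E : Set R))
  have hD : IsElementaryAbelian p (B ⊓ Subgroup.centralizer (E : Set R)) :=
    helper3.ea_mono hB inf_le_left
  have hDE : B ⊓ Subgroup.centralizer (E : Set R) ≤ E := by
    apply ea_absorb hE hEmax hD
    intro a ha b hb
    exact (Subgroup.mem_centralizer_iff.1 hb.2) a ha
  obtain ⟨n, hn⟩ := (hR.to_subgroup B).exists_card_eq
  have hn3 : 3 ≤ n := by
    by_contra h
    push_neg at h
    have : p ^ n ≤ p ^ 2 := Nat.pow_le_pow_right hp.out.pos (by omega)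
    omega
  have h3 : p ^ 3 ≤ Nat.card B := by rw [hn]; exact Nat.pow_le_pow_right hp.out.pos hn3
  have h4 : p ^ 2 ≤ Nat.card (B ⊓ Subgroup.centralizer (E : Set R) : Subgroup R) :=
    sq_le_of_cube_le hp.out.pos hidx' (h3.trans h1)
  have hDeq : B ⊓ Subgroup.centralizer (E : Set R) = E :=
    Subgroup.eq_of_le_of_card_ge hDE (by rw [hE2]; exact h4)
  have hEB : E ≤ B := by rw [← hDeq]; exact inf_le_left
  have := hEmax B hB hEB
  rw [this, hE2] at hBcard
  exact lt_irrefl _ hBcard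

/-- BG: a normal elementary abelian subgroup of order `p²` of a `p`-group of rank `≥ 3` (`p` odd) lies
in a normal self-centralizing subgroup of rank `≥ 3`. -/
theorem bg_scn3 {p : ℕ} [hp : Fact p.Prime] (hp2 : p ≠ 2) (hR : IsPGroup p R) (hr : ¬ PRankLE p 2 R)
    (E : Subgroup R) [E.Normal] (hE : IsElementaryAbelian p E) (hE2 : Nat.card E = p ^ 2) :
    ∃ A : Subgroup R, E ≤ A ∧ A.Normal ∧ Subgroup.centralizer (A : Set R) = A ∧ ¬ PRankLE p 2 A := by
  have hU : ∃ U : Subgroup R, U.Normal ∧ IsMulCommutative U ∧ (∀ a ∈ U, a ^ p = 1) ∧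
      Nat.card U = p ^ 3 := by
    by_contra hcon
    push_neg at hcon
    apply hr
    intro B hBc hBe
    exact S0100.result hp2 hR (fun A hAn hAc hAe => hcon A hAn hAc hAe) B hBc hBe
  obtain ⟨U, hUn, hUc, hUe, hU3⟩ := hU
  haveI := hUn
  have hUea : IsElementaryAbelian p U := ⟨hUc, hUe⟩
  have hidx' : (Subgroup.centralizer (E : Set R)).index ≤ p :=
    Nat.le_of_dvd hp.out.pos (index_centralizer_dvd hR E hE2)
  have h1 := card_le_index_mul_inf U (Subgroup.centralizer (E : Set R))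
  have h4 : p ^ 2 ≤ Nat.card (U ⊓ Subgroup.centralizer (E : Set R) : Subgroup R) :=
    sq_le_of_cube_le hp.out.pos hidx' (by rw [← hU3]; exact h1)
  have hDea : IsElementaryAbelian p (U ⊓ Subgroup.centralizer (E : Set R)) :=
    helper3.ea_mono hUea inf_le_left
  have hcomm : ∀ a ∈ E, ∀ b ∈ U ⊓ Subgroup.centralizer (E : Set R), a * b = b * a :=
    fun a ha b hb => (Subgroup.mem_centralizer_iff.1 hb.2) a ha
  obtain ⟨V, hVn, hVea, hEV, hVcard⟩ : ∃ V : Subgroup R, V.Normal ∧ IsElementaryAbelian p V ∧ E ≤ V ∧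
      p ^ 2 < Nat.card V := by
    by_cases hDE : U ⊓ Subgroup.centralizer (E : Set R) ≤ E
    · have hDeq : U ⊓ Subgroup.centralizer (E : Set R) = E :=
        Subgroup.eq_of_le_of_card_ge hDE (by rw [hE2]; exact h4)
      refine ⟨U, hUn, hUea, by rw [← hDeq]; exact inf_le_left, ?_⟩
      rw [hU3]
      exact Nat.pow_lt_pow_right hp.out.one_lt (by norm_num)
    · refine ⟨E ⊔ (U ⊓ Subgroup.centralizer (E : Set R)), inferInstance,
        helper3.ea_sup hE hDea hcomm, le_sup_left, ?_⟩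
      by_contra hle
      push_neg at hle
      have heq : E = E ⊔ (U ⊓ Subgroup.centralizer (E : Set R)) :=
        Subgroup.eq_of_le_of_card_ge le_sup_left (by rw [hE2]; exact hle)
      apply hDE
      calc U ⊓ Subgroup.centralizer (E : Set R) ≤ E ⊔ (U ⊓ Subgroup.centralizer (E : Set R)) :=
            le_sup_right
        _ = E := heq.symm
  obtain ⟨A, hVA, hAmax⟩ := Finite.exists_le_maximal
    (p := fun A : Subgroup R => A.Normal ∧ IsMulCommutative A ∧ V ≤ A) (a := V)
    ⟨hVn, hVea.1, le_refl V⟩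
  obtain ⟨hAn, hAc, -⟩ := hAmax.prop
  haveI := hAn
  have hcent : Subgroup.centralizer (A : Set R) = A := by
    apply S0129.centralizer_eq hR A hAc
    intro B hBn hBc hAB
    exact le_antisymm (hAmax.2 ⟨hBn, hBc, hVA.trans hAB⟩ hAB) hAB
  refine ⟨A, hEV.trans hVA, hAn, hcent, ?_⟩
  intro hrank
  have hsub := hrank (V.subgroupOf A)
    (helper3.ea_subgroupOf hVea A).1 (helper3.ea_subgroupOf hVea A).2
  rw [Nat.card_congr (Subgroup.subgroupOfEquivOfLe hVA).toEquiv] at hsub
  omega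

end

end Cfsg.Agent.helper23
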