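import Mathlib
import Cfsg.Agent.Lib_helper15_BL13
import Cfsg.Agent.Lib_helper7_Balance2
import Cfsg.Agent.Lib_helper7_Balance
import Cfsg.Agent.S1456
import Cfsg.Agent.S0126
import Cfsg.Agent.S1452

set_option autoImplicit false
set_option linter.style.haveILetI false
set_option linter.unusedSectionVars false
set_option maxHeartbeats 3200000

/-! Tools for B&G Theorem 9.1. -/

namespace Cfsg.Agent.helper15.BL

open Cfsg.Agent.helper7 Cfsg.Agent.helper15
open scoped commutatorElement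

universe u

section transfer

variable {X Y : Type*} [Group X] [Group Y]

theorem pRankLE_of_injective {p k : ℕ} (f : X →* Y) (hf : Function.Injective f)
    (h : Cfsg.PRankLE p k Y) : Cfsg.PRankLE p k X := by
  intro A hA hAe
  have h1 := h (A.map f) (by haveI := hA; exact Subgroup.map_isMulCommutative _ _) (by
    rintro _ ⟨a, ha, rfl⟩
    rw [← map_pow, hAe a ha, map_one])
  rwa [Subgroup.card_map_of_injective hf] at h1

theorem rankLE_of_injective {k : ℕ} (f : X →* Y) (hf : Function.Injective f)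
    (h : Cfsg.RankLE k Y) : Cfsg.RankLE k X :=
  fun p hp => pRankLE_of_injective f hf (h p hp)

end transfer

section typelevel

variable {Y : Type u} [Group Y] [Finite Y] {p : ℕ} [hp : Fact p.Prime]

/-- A `p'`-subgroup normalized by a Sylow `p`-subgroup of a solvable group lies in `O_{p'}`. -/
theorem inv_pprime_le_core_type (hs : Group.IsSolvable Y) (P : Sylow p Y) (Q : Subgroup Y)
    (hQ : (Nat.card Q).Coprime p)
    (hPQ : (P : Subgroup Y) ≤ Subgroup.normalizer (Q : Set Y)) :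
    Q ≤ Cfsg.pPrimeCore p Y := by
  obtain ⟨π, hπ⟩ : ∃ π : Y →* Y ⧸ Cfsg.pPrimeCore p Y,
    π = QuotientGroup.mk' (Cfsg.pPrimeCore p Y) := ⟨_, rfl⟩
  have hsurj : Function.Surjective π := by rw [hπ]; exact QuotientGroup.mk'_surjective _
  have hVp : IsPGroup p ↥(Cfsg.pCore p (Y ⧸ Cfsg.pPrimeCore p Y)) :=
    Cfsg.Agent.helper1.pCore_isPGroup p
  haveI hVn : (Cfsg.pCore p (Y ⧸ Cfsg.pPrimeCore p Y)).Normal :=
    Cfsg.Agent.helper1.pCore_normal p
  have hcent := centralizer_pCore_quot_le (G := Y) hp.out (pLayer_eq_bot_of_solvable p hs)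
  have hVT : Cfsg.pCore p (Y ⧸ Cfsg.pPrimeCore p Y) ≤ (P : Subgroup Y).map π := by
    have := Cfsg.Agent.helper1.pCore_le_sylow (P.mapSurjective hsurj)
    rwa [Sylow.coe_mapSurjective] at this
  have hQbar : (Nat.card ↥(Q.map π)).Coprime p :=
    Nat.Coprime.coprime_dvd_left (Subgroup.card_map_dvd Q π) hQ
  have hdisj : Q.map π ⊓ Cfsg.pCore p (Y ⧸ Cfsg.pPrimeCore p Y) = ⊥ := by
    apply Subgroup.inf_eq_bot_of_coprime
    obtain ⟨n, hn⟩ := IsPGroup.iff_card.1 hVp
    rw [hn]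
    exact Nat.Coprime.pow_right n hQbar
  have hQC : Q.map π ≤ Subgroup.centralizer
      ((Cfsg.pCore p (Y ⧸ Cfsg.pPrimeCore p Y) : Subgroup _) : Set _) := by
    rintro _ ⟨q, hq, rfl⟩
    refine Subgroup.mem_centralizer_iff.2 ?_
    intro v hv
    obtain ⟨t, ht, rfl⟩ := hVT hv
    have htN := hPQ ht
    have h1 : π (t * q * t⁻¹ * q⁻¹) ∈ Q.map π ⊓ Cfsg.pCore p (Y ⧸ Cfsg.pPrimeCore p Y) := by
      constructor
      · apply Subgroup.mem_map_of_mem
        exact Q.mul_mem ((Subgroup.mem_normalizer_iff.1 htN q).1 hq) (Q.inv_mem hq)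
      · have : π (t * q * t⁻¹ * q⁻¹) = π t * (π q * (π t)⁻¹ * (π q)⁻¹) := by
          simp only [map_mul, map_inv]; group
        rw [this]
        exact Subgroup.mul_mem _ hv (hVn.conj_mem _ (Subgroup.inv_mem _ hv) _)
    rw [hdisj, Subgroup.mem_bot] at h1
    have h2 : π t * π q * (π t)⁻¹ * (π q)⁻¹ = 1 := by
      rw [← h1]; simp only [map_mul, map_inv]
    calc π t * π q = (π t * π q * (π t)⁻¹ * (π q)⁻¹) * (π q * π t) := by group
      _ = π q * π t := by rw [h2, one_mul]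
  have h3 : Q.map π ≤ ⊥ := by
    rw [← hdisj]
    exact le_inf le_rfl (hQC.trans hcent)
  apply le_pPrimeCore_of_map_eq_bot
  rw [← hπ]
  exact le_bot_iff.1 h3

end typelevel

variable {G : Type u} [Group G] [Finite G] {p : ℕ} [hp : Fact p.Prime]

theorem inv_pprime_le_core (X : Subgroup G) (hXs : Group.IsSolvable ↥X) (T : Subgroup G)
    (hT : SylIn p X T) (Q : Subgroup G) (hQX : Q ≤ X) (hQ : (Nat.card Q).Coprime p)
    (hTQ : T ≤ Subgroup.normalizer (Q : Set G)) :
    Q ≤ piCoreIn {q | q ≠ p} X := by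
  obtain ⟨S, hS⟩ := exists_sylow_of_sylIn X T hT
  rw [← map_pPrimeCore_eq hp.out X]
  have hcard : Nat.card (Q.subgroupOf X) = Nat.card Q :=
    Nat.card_congr (Subgroup.subgroupOfEquivOfLe hQX).toEquiv
  have h1 := inv_pprime_le_core_type hXs S (Q.subgroupOf X) (by rw [hcard]; exact hQ) (by
    have h2 : (S : Subgroup ↥X) = T.subgroupOf X := by
      rw [← hS]
      exact (Subgroup.comap_map_eq_self_of_injective X.subtype_injective _).symm
    rw [h2]
    exact subgroupOf_le_normalizer X hTQ)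
  intro x hx
  exact ⟨⟨x, hQX hx⟩, h1 (show (⟨x, hQX hx⟩ : ↥X) ∈ Q.subgroupOf X from hx), rfl⟩

/-- Rank at most `2` of the Fitting subgroup forces `H' ≤ F(H)`. -/
theorem derived_le_fit_of_rank2 (hodd : Odd (Nat.card G)) (H : Subgroup G)
    (hHs : Group.IsSolvable ↥H) (hr : Cfsg.RankLE 2 ↥(fitOf H)) : ⁅H, H⁆ ≤ fitOf H := by
  haveI := hHs
  have hoddH : Odd (Nat.card ↥H) := hodd.of_dvd_nat (Subgroup.card_subgroup_dvd_card H)
  haveI : Fact (Nat.Prime 3) := ⟨by norm_num⟩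
  have hfit : (Cfsg.fittingSubgroup ↥H).map H.subtype = fitOf H := map_fittingSubgroup_eq H
  have hE : Cfsg.IsElementaryAbelian 3 (⊥ : Subgroup ↥H) := by
    refine ⟨⟨⟨fun a b => ?_⟩⟩, ?_⟩
    · apply Subtype.ext
      have ha := Subgroup.mem_bot.1 a.2
      have hb := Subgroup.mem_bot.1 b.2
      rw [Subgroup.coe_mul, Subgroup.coe_mul, ha, hb]
    · intro a ha
      rw [Subgroup.mem_bot.1 ha, one_pow]
  have hr' : Cfsg.RankLE 2 ↥(Cfsg.fittingSubgroup ↥H ⊓
      Subgroup.centralizer (((⊥ : Subgroup ↥H) : Subgroup ↥H) : Set ↥H)) := by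
    have hmem : ∀ x : ↥(Cfsg.fittingSubgroup ↥H ⊓
        Subgroup.centralizer (((⊥ : Subgroup ↥H) : Subgroup ↥H) : Set ↥H)),
        (((x : ↥H) : G)) ∈ fitOf H := by
      intro x
      rw [← hfit]
      exact ⟨(x : ↥H), x.2.1, rfl⟩
    let f : ↥(Cfsg.fittingSubgroup ↥H ⊓
        Subgroup.centralizer (((⊥ : Subgroup ↥H) : Subgroup ↥H) : Set ↥H)) →* ↥(fitOf H) :=
      { toFun := fun x => ⟨((x : ↥H) : G), hmem x⟩
        map_one' := rfl
        map_mul' := fun _ _ => rfl }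
    apply rankLE_of_injective f _ hr
    intro a b hab
    apply Subtype.ext
    apply Subtype.ext
    have h5 : ((f a : ↥(fitOf H)) : G) = ((f b : ↥(fitOf H)) : G) := congrArg Subtype.val hab
    exact h5
  have h1 := Cfsg.Agent.S1456.result hoddH 3 (⊥ : Subgroup ↥H) bot_le hE hr'
  rw [Subgroup.commutator_le]
  intro a ha b hb
  have h2 : ⁅(⟨a, ha⟩ : ↥H), ⟨b, hb⟩⁆ ∈ commutator ↥H :=
    Subgroup.commutator_mem_commutator (Subgroup.mem_top _) (Subgroup.mem_top _)
  have h3 := h1 h2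
  rw [← hfit]
  exact ⟨_, h3, rfl⟩

end Cfsg.Agent.helper15.BL
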