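import Mathlib
import Cfsg.Agent.Lib_helper15_BL14

set_option autoImplicit false
set_option linter.style.haveILetI false
set_option linter.unusedSectionVars false
set_option maxHeartbeats 3200000

/-! Uniqueness for Fitting subgroups of rank at least `3` (B&G, consequence of Theorem 8.1). -/

namespace Cfsg.Agent.helper15.BL

open Cfsg.Agent.helper7 Cfsg.Agent.helper15
open scoped commutatorElement

universe u

theorem card_le_of_cyclic_exponent {X : Type*} [Group X] [Finite X] (hc : IsCyclic X) (q : ℕ)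
    (hq : 0 < q) (E : Subgroup X) (hE : ∀ a ∈ E, a ^ q = 1) : Nat.card E ≤ q := by
  haveI : IsCyclic ↥E := Subgroup.isCyclic E
  obtain ⟨g, hg⟩ := IsCyclic.exists_generator (α := ↥E)
  rw [← orderOf_eq_card_of_forall_mem_zpowers hg]
  apply Nat.le_of_dvd hq
  apply orderOf_dvd_of_pow_eq_one
  apply Subtype.ext
  rw [Subgroup.coe_pow]
  exact hE _ g.2

variable {G : Type u} [Group G] [Finite G]

theorem fit_rank3_unique (hG : Cfsg.IsMinSimpleOddOrder G) (H : Subgroup G) (hH : IsCoatom H)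
    (hr : ¬ Cfsg.RankLE 2 ↥(fitOf H)) :
    ∀ L : Subgroup G, IsCoatom L → fitOf H ≤ L → L = H := by
  unfold Cfsg.RankLE at hr
  push_neg at hr
  obtain ⟨q, hq, hrq⟩ := hr
  haveI hqf : Fact q.Prime := ⟨hq⟩
  unfold Cfsg.PRankLE at hrq
  push_neg at hrq
  obtain ⟨E, hE1, hE2, hE3⟩ := hrq
  obtain ⟨E₀, hE₀def⟩ : ∃ E₀ : Subgroup G, E₀ = E.map (fitOf H).subtype := ⟨_, rfl⟩
  have hE₀F : E₀ ≤ fitOf H := by rw [hE₀def]; exact Subgroup.map_subtype_le _
  have hE₀e : Cfsg.IsElementaryAbelian q E₀ := by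
    rw [hE₀def]
    refine ⟨by haveI := hE1; exact Subgroup.map_isMulCommutative _ _, ?_⟩
    rintro _ ⟨a, ha, rfl⟩
    rw [← map_pow, hE2 a ha, map_one]
  have hE₀c : Nat.card E₀ = Nat.card E := by
    rw [hE₀def]; exact Subgroup.card_map_of_injective (Subgroup.subtype_injective _)
  have hE₀3 : q ^ 3 ≤ Nat.card E₀ := by
    obtain ⟨k, hk⟩ := (isPGroup_of_exponent E₀ hE₀e.2).exists_card_eq
    rw [← hE₀c, hk] at hE3
    have h2 : 2 < k := (Nat.pow_lt_pow_iff_right hq.one_lt).1 hE3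
    rw [hk]
    exact Nat.pow_le_pow_right hq.pos h2
  have hE₀p : IsPGroup q E₀ := isPGroup_of_exponent E₀ hE₀e.2
  have hE₀ne : E₀ ≠ ⊥ := by
    intro h
    rw [h, Subgroup.card_bot] at hE₀3
    have h2 : 1 < q ^ 3 := Nat.one_lt_pow (by norm_num) hq.one_lt
    omega
  have hqG : q ∣ Nat.card G :=
    (prime_dvd_card_of_isPGroup_ne_bot E₀ hE₀p hE₀ne).trans (Subgroup.card_subgroup_dvd_card _)
  have hq2 : q ≠ 2 := by
    intro h
    rw [h] at hqG
    exact (Nat.not_even_iff_odd.2 hG.1) (even_iff_two_dvd.2 hqG)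
  by_cases hF : IsPGroup q ↥(fitOf H)
  · obtain ⟨P⟩ : Nonempty (Sylow q ↥H) := inferInstance
    have hb := part_b hG H hH q E₀ hE₀F hE₀e hE₀3 hF P
    obtain ⟨P₀, hP₀def⟩ : ∃ P₀ : Subgroup G, P₀ = (P : Subgroup H).map H.subtype := ⟨_, rfl⟩
    rw [← hP₀def] at hb
    have hP₀ : SylIn q H P₀ := hP₀def ▸ sylIn_map H P
    have hFP : fitOf H ≤ P₀ := normal_pgroup_le_sylIn hP₀ (fitOf_le H) hF (fitOf_normal H)
    have hP₀p : IsPGroup q ↥P₀ := sylIn_isPGroup hP₀
    have hE₀P : E₀ ≤ P₀ := hE₀F.trans hFP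
    have hsubc : Nat.card (E₀.subgroupOf P₀) = Nat.card E₀ :=
      Nat.card_congr (Subgroup.subgroupOfEquivOfLe hE₀P).toEquiv
    have hsube : ∀ a ∈ E₀.subgroupOf P₀, a ^ q = 1 := by
      intro a ha
      apply Subtype.ext
      rw [Subgroup.coe_pow]
      exact hE₀e.2 _ ha
    have hlt : q ^ 2 < q ^ 3 := Nat.pow_lt_pow_right hq.one_lt (by norm_num)
    have hrP : ¬ Cfsg.PRankLE q 2 ↥P₀ := by
      intro h
      have h1 := h (E₀.subgroupOf P₀) (by
        refine ⟨⟨fun a b => ?_⟩⟩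
        apply Subtype.ext
        apply Subtype.ext
        have ha' : ((a : ↥P₀) : G) ∈ E₀ := a.2
        have hb' : ((b : ↥P₀) : G) ∈ E₀ := b.2
        show ((a : ↥P₀) : G) * ((b : ↥P₀) : G) = ((b : ↥P₀) : G) * ((a : ↥P₀) : G)
        exact congrArg Subtype.val (hE₀e.1.is_comm.comm (⟨_, ha'⟩ : ↥E₀) ⟨_, hb'⟩)) hsube
      rw [hsubc] at h1
      omega
    have hncP : ¬ IsCyclic ↥P₀ := by
      intro hc
      have h1 := card_le_of_cyclic_exponent hc q hq.pos (E₀.subgroupOf P₀) hsube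
      rw [hsubc] at h1
      have h2 : q < q ^ 3 := by
        calc q = q ^ 1 := (pow_one q).symm
          _ < q ^ 3 := Nat.pow_lt_pow_right hq.one_lt (by norm_num)
      omega
    obtain ⟨E2, hE2n, hE2e, hE2c⟩ := Cfsg.Agent.S0126.result hq2 hP₀p hncP
    haveI := hE2n
    obtain ⟨A', -, hA'n, hA'c, hA'r⟩ :=
      Cfsg.Agent.S1452.result q hq2 hP₀p hrP E2 hE2e hE2c
    have hSCN : Cfsg.IsSCN P₀ (A'.map P₀.subtype) := by
      refine ⟨Subgroup.map_subtype_le _, ?_, ?_⟩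
      · apply le_normalizer_map_subtype P₀ le_rfl
        rw [Subgroup.normalizer_eq_top_iff.2 hA'n]
        exact le_top
      · ext x
        constructor
        · rintro ⟨hxP, hxC⟩
          have h1 : (⟨x, hxP⟩ : ↥P₀) ∈ Subgroup.centralizer (A' : Set ↥P₀) := by
            refine Subgroup.mem_centralizer_iff.2 ?_
            intro a ha
            apply Subtype.ext
            exact Subgroup.mem_centralizer_iff.1 hxC (a : G) ⟨a, ha, rfl⟩
          rw [hA'c] at h1
          exact ⟨⟨x, hxP⟩, h1, rfl⟩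
        · rintro ⟨a, ha, rfl⟩
          refine ⟨a.2, ?_⟩
          refine Subgroup.mem_centralizer_iff.2 ?_
          rintro _ ⟨b, hb', rfl⟩
          have ha' : a ∈ Subgroup.centralizer (A' : Set ↥P₀) := by rw [hA'c]; exact ha
          exact congrArg Subtype.val (Subgroup.mem_centralizer_iff.1 ha' b hb')
    have hAr : ¬ Cfsg.PRankLE q 2 ↥(A'.map P₀.subtype) := by
      intro h
      apply hA'r
      exact pRankLE_of_injective
        (A'.equivMapOfInjective P₀.subtype (Subgroup.subtype_injective _)).toMonoidHom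
        (A'.equivMapOfInjective P₀.subtype (Subgroup.subtype_injective _)).injective h
    obtain ⟨hAF, M', -, huniq⟩ := hb.2 _ hSCN hAr
    intro L hL hFL
    have h1 := huniq L ⟨hL, hAF.trans hFL⟩
    have h2 := huniq H ⟨hH, hAF.trans (fitOf_le H)⟩
    rw [h1, h2]
  · obtain ⟨M', -, huniq⟩ := part_a hG H hH q E₀ hE₀F hE₀e hE₀3 hF
    intro L hL hFL
    have h1 := huniq L ⟨hL, inf_le_left.trans hFL⟩
    have h2 := huniq H ⟨hH, inf_le_left.trans (fitOf_le H)⟩
    rw [h1, h2]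

end Cfsg.Agent.helper15.BL
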