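import Mathlib
import Cfsg.Agent.Lib_helper15_BL15

set_option autoImplicit false
set_option linter.style.haveILetI false
set_option linter.unusedSectionVars false
set_option maxHeartbeats 3200000

/-! B&G Theorem 9.1(b). -/

namespace Cfsg.Agent.helper15.BL

open Cfsg.Agent.helper7 Cfsg.Agent.helper15
open scoped commutatorElement

universe u

variable {G : Type u} [Group G] [Finite G] {p : ℕ} [hp : Fact p.Prime]

theorem core_pprime_coprime (X : Subgroup G) :
    (Nat.card (piCoreIn {q | q ≠ p} X)).Coprime p :=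
  (coprime_card_iff_piGrp hp.out).2 (piCoreIn_piGrp _ X)

theorem thm91b (hG : Cfsg.IsMinSimpleOddOrder G) (M : Subgroup G) (hM : IsCoatom M)
    (B : Subgroup G) (hBM : B ≤ M) (hBp : IsPGroup p B) (hBne : B ≠ ⊥)
    (hb : ∀ Y : Subgroup G, (Nat.card Y).Coprime p → B ≤ Subgroup.normalizer (Y : Set G) →
      Y ≤ M) :
    ∀ L : Subgroup G, IsCoatom L → B ≤ L → L = M := by
  haveI : IsSimpleGroup G := hG.2.1
  have hodd := hG.1
  have hpG : p ∣ Nat.card G :=
    (prime_dvd_card_of_isPGroup_ne_bot B hBp hBne).trans (Subgroup.card_subgroup_dvd_card _)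
  have hp2 : p ≠ 2 := by
    intro h
    rw [h] at hpG
    exact (Nat.not_even_iff_odd.2 hodd) (even_iff_two_dvd.2 hpG)
  by_contra hcon
  push_neg at hcon
  obtain ⟨H₀, hH₀, hBH₀, hH₀M⟩ := hcon
  haveI : Nonempty {H : Subgroup G // IsCoatom H ∧ B ≤ H ∧ H ≠ M} := ⟨⟨H₀, hH₀, hBH₀, hH₀M⟩⟩
  obtain ⟨⟨H, hH, hBH, hHM⟩, hmax⟩ := Finite.exists_max
    (fun H : {H : Subgroup G // IsCoatom H ∧ B ≤ H ∧ H ≠ M} =>
      (Nat.card ↥(H.1 ⊓ M)).factorization p)
  obtain ⟨R, hR, hBR⟩ := exists_sylIn_ge (p := p) (H ⊓ M) B (le_inf hBH hBM) hBp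
  have hR1 : R ≠ ⊥ := fun h => hBne (le_bot_iff.1 (h ▸ hBR))
  have hRH : R ≤ H := hR.1.trans inf_le_left
  have hRM : R ≤ M := hR.1.trans inf_le_right
  have hRtop : R ≠ ⊤ := fun h => hM.1 (top_le_iff.1 (h ▸ hRM))
  obtain ⟨P, hP, hRP⟩ := exists_sylIn_ge (p := p) M R hRM (sylIn_isPGroup hR)
  have hP1 : P ≠ ⊥ := fun h => hR1 (le_bot_iff.1 (h ▸ hRP))
  have hMs : Group.IsSolvable ↥M := hG.2.2.2 M hM.1
  have hHs : Group.IsSolvable ↥H := hG.2.2.2 H hH.1
  obtain ⟨KM, hKMdef⟩ : ∃ KM : Subgroup G, KM = piCoreIn {q | q ≠ p} M := ⟨_, rfl⟩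
  have hKMcop : (Nat.card KM).Coprime p := by rw [hKMdef]; exact core_pprime_coprime M
  have hKMM : KM ≤ M := by rw [hKMdef]; exact piCoreIn_le _ _
  have hMKM : M ≤ Subgroup.normalizer (KM : Set G) := by
    rw [hKMdef]; exact piCoreIn_normal _ _
  -- `P`-invariant `p'`-subgroups lie in `O_{p'}(M)`
  have h3 : ∀ Y : Subgroup G, (Nat.card Y).Coprime p →
      P ≤ Subgroup.normalizer (Y : Set G) → Y ≤ KM := by
    intro Y hY hPY
    rw [hKMdef]
    exact inv_pprime_le_core M hMs P hP Y (hb Y hY ((hBR.trans hRP).trans hPY)) hY hPY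
  -- `N_G(P) ≤ M`
  have hNP : Subgroup.normalizer (P : Set G) ≤ M := by
    by_cases hK1 : KM = ⊥
    · have hFM : IsPGroup p ↥(fitOf M) := by
        apply isPGroup_of_only_prime
        intro r hr hrF
        by_contra hrp
        haveI : Fact r.Prime := ⟨hr⟩
        apply core_ne_bot_of_dvd M r hrF
        rw [eq_bot_iff, ← hK1, hKMdef]
        apply le_radOf (piCoreIn_le _ _) (piCoreIn_normal _ _)
        rw [← coprime_card_iff_piGrp hp.out]
        obtain ⟨k, hk⟩ := (core_isPGroup (p := r) M).exists_card_eq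
        rw [hk]
        exact Nat.Coprime.pow_left k ((Nat.coprime_primes hr hp.out).2 hrp)
      rw [← coatom_zj hG hp2 M hM hFM P hP hP1]
      exact normalizer_le_normalizer_zj P
    · have hKtop : KM ≠ ⊤ := fun h => hM.1 (top_le_iff.1 (h ▸ hKMM))
      have hNtop := Cfsg.Agent.helper23.mso_normalizer_ne_top hG KM hK1 hKtop
      have hNK : Subgroup.normalizer (KM : Set G) = M := by
        by_contra hne
        exact hNtop (hM.2 _ (lt_of_le_of_ne hMKM (Ne.symm hne)))
      intro x hx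
      rw [← hNK]
      apply mem_normalizer_of_cj_eq
      have h1 : cj x KM ≤ KM := by
        apply h3
        · rw [card_cj]; exact hKMcop
        · rw [← cj_normalizer]
          have h2 : cj x P ≤ cj x (Subgroup.normalizer (KM : Set G)) :=
            cj_mono ((hP.1.trans hMKM))
          rwa [cj_eq_of_mem_normalizer hx] at h2
      exact Subgroup.eq_of_le_of_card_ge h1 (by rw [card_cj])
  have hPG : SylIn p ⊤ P := sylIn_of_normalizer_le hP le_top (by rw [top_inf_eq]; exact hNP)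
  -- `N_G(R) ≤ M` and `R` is a Sylow subgroup of `H`
  have h6 : Subgroup.normalizer (R : Set G) ≤ M ∧ SylIn p H R := by
    by_cases hRP' : R = P
    · refine ⟨hRP' ▸ hNP, ?_⟩
      rw [hRP']
      exact sylIn_mono hPG (hRP' ▸ hRH) le_top
    · obtain ⟨x, hxP, hxN, hxR⟩ :=
        exists_mem_normalizer_not_mem_of_pgroup (sylIn_isPGroup hP) hRP hRP'
      obtain ⟨Q, hQdef⟩ : ∃ Q : Subgroup G, Q = P ⊓ Subgroup.normalizer (R : Set G) := ⟨_, rfl⟩
      have hQp : IsPGroup p Q := by rw [hQdef]; exact (sylIn_isPGroup hP).to_le inf_le_left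
      have hRQ : R ≤ Q := by rw [hQdef]; exact le_inf hRP Subgroup.le_normalizer
      have hQM : Q ≤ M := by rw [hQdef]; exact inf_le_left.trans hP.1
      have hQN : Q ≤ Subgroup.normalizer (R : Set G) := by rw [hQdef]; exact inf_le_right
      have hxQ : x ∈ Q := by rw [hQdef]; exact ⟨hxP, hxN⟩
      have hQR : Q ≠ R := fun h => hxR (h ▸ hxQ)
      have hNtop := Cfsg.Agent.helper23.mso_normalizer_ne_top hG R hR1 hRtop
      obtain ⟨L, hL, hNL⟩ := (eq_top_or_exists_le_coatom _).resolve_left hNtop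
      have hBL : B ≤ L := (hBR.trans Subgroup.le_normalizer).trans hNL
      have hLM : L = M := by
        by_contra hLM
        have h1 := hmax ⟨L, hL, hBL, hLM⟩
        simp only at h1
        have h2 := card_dvd_of_pgroup_le (p := p) (L ⊓ M) Q (le_inf (hQN.trans hNL) hQM) hQp
        have h4 : Nat.card Q ≤ Nat.card R := by
          rw [hR.2]
          exact (Nat.le_of_dvd (pow_pos hp.out.pos _) h2).trans
            (Nat.pow_le_pow_right hp.out.pos h1)
        exact hQR (Subgroup.eq_of_le_of_card_ge hRQ h4).symm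
      have hNM : Subgroup.normalizer (R : Set G) ≤ M := hLM ▸ hNL
      exact ⟨hNM, sylIn_of_normalizer_le hR inf_le_left (inf_le_inf_left H hNM)⟩
  obtain ⟨hNRM, hRH'⟩ := h6
  obtain ⟨KH, hKHdef⟩ : ∃ KH : Subgroup G, KH = piCoreIn {q | q ≠ p} H := ⟨_, rfl⟩
  have hKHH : KH ≤ H := by rw [hKHdef]; exact piCoreIn_le _ _
  have hKHM : KH ≤ M := by
    apply hb
    · rw [hKHdef]; exact core_pprime_coprime H
    · rw [hKHdef]; exact hBH.trans (piCoreIn_normal _ _)
  have hFH : fitOf H ≤ R ⊔ KH := by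
    refine (fitOf_le_sup (p := p) H).trans (sup_le ?_ ?_)
    · rw [hKHdef]; exact inf_le_right.trans le_sup_right
    · exact (normal_pgroup_le_sylIn hRH' (piCoreIn_le _ _) (core_isPGroup H)
        (piCoreIn_normal _ _)).trans le_sup_left
  have hFHM : fitOf H ≤ M := hFH.trans (sup_le hRM hKHM)
  by_cases hr : Cfsg.RankLE 2 ↥(fitOf H)
  · have hder := derived_le_fit_of_rank2 hodd H hHs hr
    have hNH : R ⊔ KH ≤ H := sup_le hRH hKHH
    have hNM' : R ⊔ KH ≤ M := sup_le hRM hKHM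
    have hRN : SylIn p (R ⊔ KH) R := sylIn_mono hRH' le_sup_left hNH
    have hle : H ≤ M := by
      intro h hh
      have h1 : cj h R ≤ R ⊔ KH := by
        rintro _ ⟨r, hr', rfl⟩
        show h * r * h⁻¹ ∈ R ⊔ KH
        have h2 : ⁅h, r⁆ ∈ R ⊔ KH :=
          hFH (hder (Subgroup.commutator_mem_commutator hh (hRH hr')))
        have h3 : h * r * h⁻¹ = ⁅h, r⁆ * r := by
          rw [commutatorElement_def]; group
        rw [h3]
        exact (R ⊔ KH).mul_mem h2 (le_sup_left (a := R) (b := KH) hr')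
      obtain ⟨k, hkN, hk⟩ := Cfsg.Agent.helper23.sylow_order_conj (R ⊔ KH) R (cj h R) p
        le_sup_left h1 hRN.2 (by rw [card_cj]; exact hRN.2)
      have h2 : k⁻¹ * h ∈ Subgroup.normalizer (R : Set G) := by
        apply mem_normalizer_of_cj_eq
        rw [← cj_cj, ← hk, cj_inv_cj]
      have h3 : h = k * (k⁻¹ * h) := by group
      rw [h3]
      exact M.mul_mem (hNM' hkN) (hNRM h2)
    rcases eq_or_lt_of_le hle with h | h
    · exact hHM h
    · exact hM.1 (hH.2 _ h)
  · exact hHM (fit_rank3_unique hG H hH hr M hM hFHM).symm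

end Cfsg.Agent.helper15.BL
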