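import Mathlib
import Cfsg.Agent.Lib_helper15_BL16
import Cfsg.Agent.Lib_helper15_Gen5

set_option autoImplicit false
set_option linter.style.haveILetI false
set_option linter.unusedSectionVars false
set_option maxHeartbeats 3200000

/-! B&G Theorem 9.1 (both forms) and 9.2. -/

namespace Cfsg.Agent.helper15.BL

open Cfsg.Agent.helper7 Cfsg.Agent.helper15
open scoped commutatorElement

universe u

variable {G : Type u} [Group G] [Finite G]

theorem thm91 (hG : Cfsg.IsMinSimpleOddOrder G)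
    (M : Subgroup G) (hM : IsCoatom M) (p : ℕ) [Fact p.Prime] (B : Subgroup G) (hBM : B ≤ M)
    (hBe : Cfsg.IsElementaryAbelian p B) (hBnc : ¬ IsCyclic B)
    (h : (∀ b ∈ B, b ≠ 1 → Subgroup.centralizer ({b} : Set G) ≤ M) ∨
      ∀ Y ∈ Cfsg.invSubgroups ⊤ B (Cfsg.primesNotDvd p), Y ≤ M) :
    ∀ L : Subgroup G, IsCoatom L → B ≤ L → L = M := by
  have hBp : IsPGroup p B := isPGroup_of_exponent B hBe.2
  have hBne : B ≠ ⊥ := by
    intro h0
    apply hBnc
    rw [h0]
    exact isCyclic_of_subsingleton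
  have hb : ∀ Y : Subgroup G, (Nat.card Y).Coprime p →
      B ≤ Subgroup.normalizer (Y : Set G) → Y ≤ M := by
    rcases h with ha | hb'
    · intro Y hY hBY
      haveI := hBe.1
      have hcop : (Nat.card B).Coprime (Nat.card Y) := by
        obtain ⟨k, hk⟩ := hBp.exists_card_eq
        rw [hk]
        exact Nat.Coprime.pow_left k hY.symm
      have h1 := Cfsg.Agent.helper15.iSup_centralizer_eq_of_not_isCyclic B Y hBnc hBY hcop
      rw [← h1]
      apply iSup₂_le
      intro a ha'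
      exact inf_le_right.trans (ha a ha'.1 ha'.2)
    · intro Y hY hBY
      apply hb' Y
      refine ⟨le_top, ?_, hBY⟩
      intro t ht htd
      refine ⟨ht, fun htp => ?_⟩
      have h1 : t = p := (Nat.prime_dvd_prime_iff_eq ht (Fact.out : p.Prime)).1 htp
      rw [h1] at htd
      have h2 : p ∣ Nat.gcd (Nat.card Y) p := Nat.dvd_gcd htd dvd_rfl
      rw [hY] at h2
      exact (Fact.out : p.Prime).one_lt.ne' (Nat.dvd_one.1 h2)
  exact thm91b hG M hM B hBM hBp hBne hb

theorem centralizer_singleton_ne_top (hG : Cfsg.IsMinSimpleOddOrder G) (b : G) (hb : b ≠ 1) :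
    Subgroup.centralizer ({b} : Set G) ≠ ⊤ := by
  haveI : IsSimpleGroup G := hG.2.1
  intro h
  have hbc : b ∈ Subgroup.center G := by
    rw [Subgroup.mem_center_iff]
    intro g
    have hg : g ∈ Subgroup.centralizer ({b} : Set G) := h ▸ Subgroup.mem_top g
    exact (Subgroup.mem_centralizer_iff.1 hg b rfl).symm
  rcases (inferInstance : (Subgroup.center G).Normal).eq_bot_or_eq_top with h1 | h1
  · rw [h1, Subgroup.mem_bot] at hbc
    exact hb hbc
  · apply hG.2.2.1
    refine ⟨⟨fun x y => ?_⟩⟩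
    have hy : y ∈ Subgroup.center G := h1 ▸ Subgroup.mem_top y
    exact Subgroup.mem_center_iff.1 hy x

/-- B&G Theorem 9.2. -/
theorem thm92 (hG : Cfsg.IsMinSimpleOddOrder G) (L K : Subgroup G)
    (hL : Cfsg.InUniqueMaximal L) (hK : K ≤ Subgroup.centralizer (L : Set G))
    (hKr : ¬ Cfsg.RankLE 1 K) : Cfsg.InUniqueMaximal K := by
  haveI : IsSimpleGroup G := hG.2.1
  obtain ⟨M, ⟨hM, hLM⟩, huniq⟩ := hL
  unfold Cfsg.RankLE at hKr
  push_neg at hKr
  obtain ⟨p, hp, hrp⟩ := hKr
  haveI hpf : Fact p.Prime := ⟨hp⟩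
  unfold Cfsg.PRankLE at hrp
  push_neg at hrp
  obtain ⟨E, hE1, hE2, hE3⟩ := hrp
  rw [pow_one] at hE3
  obtain ⟨B, hBdef⟩ : ∃ B : Subgroup G, B = E.map K.subtype := ⟨_, rfl⟩
  have hBK : B ≤ K := by rw [hBdef]; exact Subgroup.map_subtype_le _
  have hBe : Cfsg.IsElementaryAbelian p B := by
    rw [hBdef]
    refine ⟨by haveI := hE1; exact Subgroup.map_isMulCommutative _ _, ?_⟩
    rintro _ ⟨a, ha, rfl⟩
    rw [← map_pow, hE2 a ha, map_one]
  have hBc : Nat.card B = Nat.card E := by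
    rw [hBdef]; exact Subgroup.card_map_of_injective (Subgroup.subtype_injective _)
  have hBnc : ¬ IsCyclic ↥B := by
    intro hc
    have h1 := card_le_of_cyclic_exponent hc p hp.pos (⊤ : Subgroup ↥B) (by
      intro a _
      apply Subtype.ext
      rw [Subgroup.coe_pow]
      exact hBe.2 _ a.2)
    rw [Subgroup.card_top, hBc] at h1
    omega
  have hcent : ∀ b ∈ B, b ≠ 1 → Subgroup.centralizer ({b} : Set G) ≤ M := by
    intro b hb hb1
    have hne := centralizer_singleton_ne_top hG b hb1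
    obtain ⟨M', hM', hCM'⟩ := (eq_top_or_exists_le_coatom _).resolve_left hne
    have hLM' : L ≤ M' := by
      refine le_trans ?_ hCM'
      intro l hl
      refine Subgroup.mem_centralizer_iff.2 ?_
      intro y hy
      rw [Set.mem_singleton_iff.1 hy]
      exact (Subgroup.mem_centralizer_iff.1 (hK (hBK hb)) l hl).symm
    rw [← huniq M' ⟨hM', hLM'⟩]
    exact hCM'
  have hBne : B ≠ ⊥ := by
    intro h0
    apply hBnc
    rw [h0]
    exact isCyclic_of_subsingleton
  obtain ⟨b₀, hb₀, hb₀1⟩ : ∃ b ∈ B, b ≠ 1 := by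
    by_contra hcon
    push_neg at hcon
    apply hBne
    rw [eq_bot_iff]
    intro x hx
    rw [Subgroup.mem_bot]
    exact hcon x hx
  have hBM : B ≤ M := by
    refine le_trans ?_ (hcent b₀ hb₀ hb₀1)
    intro x hx
    refine Subgroup.mem_centralizer_iff.2 ?_
    intro y hy
    rw [Set.mem_singleton_iff.1 hy]
    exact congrArg Subtype.val (hBe.1.is_comm.comm (⟨b₀, hb₀⟩ : ↥B) ⟨x, hx⟩)
  have h91 := thm91 hG M hM p B hBM hBe hBnc (Or.inl hcent)
  -- `K ≤ N(M) = M`
  have hKN : K ≤ Subgroup.normalizer (M : Set G) := by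
    intro k hk
    apply mem_normalizer_of_cj_eq
    apply huniq
    refine ⟨?_, ?_⟩
    · exact (OrderIso.isCoatom_iff (MulAut.conj k).mapSubgroup M).2 hM
    · intro l hl
      rw [mem_cj]
      have h1 := Subgroup.mem_centralizer_iff.1 (hK hk) l hl
      have h2 : k⁻¹ * l * k = l := by rw [mul_assoc, h1]; group
      rw [h2]; exact hLM hl
  have hNM : Subgroup.normalizer (M : Set G) = M := by
    by_contra hne
    have htop := hM.2 _ (lt_of_le_of_ne Subgroup.le_normalizer (Ne.symm hne))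
    have hn : M.Normal := Subgroup.normalizer_eq_top_iff.1 htop
    rcases hn.eq_bot_or_eq_top with h1 | h1
    · exact hBne (le_bot_iff.1 (h1 ▸ hBM))
    · exact hM.1 h1
  have hKM : K ≤ M := hNM ▸ hKN
  exact ⟨M, ⟨hM, hKM⟩, fun M' hM' => h91 M' hM'.1 (hBK.trans hM'.2)⟩

end Cfsg.Agent.helper15.BL
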