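import Mathlib

set_option autoImplicit false

namespace Cfsg.Agent.helper25

variable {G : Type*} [Group G]

/-- `H` (intersected with `K`) is a Sylow `p`-subgroup of `K`. -/
def IsSylowIn (p : ℕ) (H K : Subgroup G) : Prop :=
  ∃ R : Sylow p ↥K, (R : Subgroup ↥K) = H.subgroupOf K

theorem card_subgroupOf_of_le {H K : Subgroup G} (h : H ≤ K) :
    Nat.card (H.subgroupOf K) = Nat.card H :=
  Nat.card_congr (Subgroup.subgroupOfEquivOfLe h).toEquiv

theorem isSylowIn_iff_card [Finite G] {p : ℕ} [Fact p.Prime] {H K : Subgroup G} (h : H ≤ K) :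
    IsSylowIn p H K ↔ Nat.card H = p ^ (Nat.card K).factorization p := by
  constructor
  · rintro ⟨R, hR⟩
    have := R.card_eq_multiplicity
    rw [← card_subgroupOf_of_le h, ← hR]
    exact this
  · intro hc
    have hc' : Nat.card (H.subgroupOf K) = p ^ (Nat.card K).factorization p := by
      rw [card_subgroupOf_of_le h]; exact hc
    exact ⟨Sylow.ofCard (H.subgroupOf K) hc', Sylow.coe_ofCard _ hc'⟩

theorem card_le_of_isPGroup_le [Finite G] {p : ℕ} [Fact p.Prime] {H K : Subgroup G} (h : H ≤ K)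
    (hp : IsPGroup p H) : Nat.card H ≤ p ^ (Nat.card K).factorization p := by
  obtain ⟨n, hn⟩ := IsPGroup.iff_card.mp hp
  have hdvd : Nat.card H ∣ Nat.card K := Subgroup.card_dvd_of_le h
  rw [hn] at hdvd ⊢
  have hK : Nat.card K ≠ 0 := Nat.card_pos.ne'
  have := (Nat.Prime.pow_dvd_iff_le_factorization (Fact.out : p.Prime) hK).mp hdvd
  exact Nat.pow_le_pow_right (Fact.out : p.Prime).pos this

theorem IsSylowIn.isPGroup {p : ℕ} {H K : Subgroup G} (h : H ≤ K) (hs : IsSylowIn p H K) :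
    IsPGroup p H := by
  obtain ⟨R, hR⟩ := hs
  have h1 : IsPGroup p (H.subgroupOf K) := hR ▸ R.isPGroup'
  exact h1.of_equiv (Subgroup.subgroupOfEquivOfLe h)

/-- conjugation as a map on subgroups -/
abbrev cj (g : G) (H : Subgroup G) : Subgroup G := H.map (MulAut.conj g).toMonoidHom

theorem mem_cj_iff (g : G) (H : Subgroup G) (x : G) : x ∈ cj g H ↔ g⁻¹ * x * g ∈ H := by
  constructor
  · rintro ⟨y, hy, rfl⟩
    have : g⁻¹ * (g * y * g⁻¹) * g = y := by group
    show g⁻¹ * (g * y * g⁻¹) * g ∈ H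
    rw [this]; exact hy
  · intro h
    refine ⟨g⁻¹ * x * g, h, ?_⟩
    show g * (g⁻¹ * x * g) * g⁻¹ = x
    group

theorem conj_mem_cj (g : G) (H : Subgroup G) {y : G} (hy : y ∈ H) : g * y * g⁻¹ ∈ cj g H :=
  ⟨y, hy, rfl⟩

theorem cj_one (H : Subgroup G) : cj 1 H = H := by
  ext x; rw [mem_cj_iff]; simp

theorem cj_cj (g h : G) (H : Subgroup G) : cj h (cj g H) = cj (h * g) H := by
  ext x
  rw [mem_cj_iff, mem_cj_iff, mem_cj_iff]
  have : g⁻¹ * (h⁻¹ * x * h) * g = (h * g)⁻¹ * x * (h * g) := by group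
  rw [this]

theorem cj_mono (g : G) {H K : Subgroup G} (h : H ≤ K) : cj g H ≤ cj g K := Subgroup.map_mono h

theorem cj_inf (g : G) (H K : Subgroup G) : cj g (H ⊓ K) = cj g H ⊓ cj g K :=
  Subgroup.map_inf_eq H K _ (MulAut.conj g).injective

theorem card_cj (g : G) (H : Subgroup G) : Nat.card (cj g H) = Nat.card H :=
  Subgroup.card_map_of_injective (MulAut.conj g).injective

theorem cj_of_mem {H : Subgroup G} {g : G} (hg : g ∈ H) : cj g H = H := by
  ext x
  rw [mem_cj_iff]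
  constructor
  · intro h
    have := H.mul_mem (H.mul_mem hg h) (H.inv_mem hg)
    have e : g * (g⁻¹ * x * g) * g⁻¹ = x := by group
    rwa [e] at this
  · intro h
    exact H.mul_mem (H.mul_mem (H.inv_mem hg) h) hg

theorem cj_le_of_mem {H K : Subgroup G} {g : G} (hH : H ≤ K) (hg : g ∈ K) : cj g H ≤ K := by
  rintro _ ⟨y, hy, rfl⟩
  exact K.mul_mem (K.mul_mem hg (hH hy)) (K.inv_mem hg)

theorem cj_normalizer (g : G) (H : Subgroup G) :
    cj g (Subgroup.normalizer (H : Set G)) = Subgroup.normalizer ((cj g H : Subgroup G) : Set G) :=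
  Subgroup.map_equiv_normalizer_eq H (MulAut.conj g)

theorem cj_centralizer (g : G) (H : Subgroup G) :
    cj g (Subgroup.centralizer (H : Set G)) = Subgroup.centralizer ((cj g H : Subgroup G) : Set G) := by
  ext x
  rw [mem_cj_iff, Subgroup.mem_centralizer_iff, Subgroup.mem_centralizer_iff]
  constructor
  · intro h y hy
    have hy' : g⁻¹ * y * g ∈ H := (mem_cj_iff g H y).mp hy
    have := h _ hy'
    have e1 : y * x = g * ((g⁻¹ * y * g) * (g⁻¹ * x * g)) * g⁻¹ := by group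
    have e2 : x * y = g * ((g⁻¹ * x * g) * (g⁻¹ * y * g)) * g⁻¹ := by group
    rw [e1, e2, this]
  · intro h y hy
    have hy' : g * y * g⁻¹ ∈ cj g H := conj_mem_cj g H hy
    have := h _ hy'
    have e1 : y * (g⁻¹ * x * g) = g⁻¹ * ((g * y * g⁻¹) * x) * g := by group
    have e2 : (g⁻¹ * x * g) * y = g⁻¹ * (x * (g * y * g⁻¹)) * g := by group
    rw [e1, e2, this]

theorem cj_eq_iff (g : G) (H K : Subgroup G) : cj g H = K ↔ H = cj g⁻¹ K := by
  constructor
  · rintro rfl
    rw [cj_cj, inv_mul_cancel, cj_one]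
  · intro h
    rw [h, cj_cj, mul_inv_cancel, cj_one]

theorem IsPGroup_cj {p : ℕ} (g : G) {H : Subgroup G} (h : IsPGroup p H) : IsPGroup p (cj g H) :=
  h.map _

/-- Sylow: a `p`-subgroup can be conjugated into a given Sylow subgroup. -/
theorem exists_cj_le_sylow [Finite G] {p : ℕ} [Fact p.Prime] (S : Sylow p G) {R : Subgroup G}
    (hR : IsPGroup p R) : ∃ g : G, cj g R ≤ S := by
  obtain ⟨S₁, hS₁⟩ := hR.exists_le_sylow
  obtain ⟨g, hg⟩ := MulAction.exists_smul_eq G S₁ S
  refine ⟨g, ?_⟩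
  have h1 : cj g R ≤ cj g (S₁ : Subgroup G) := cj_mono g hS₁
  have h2 : cj g (S₁ : Subgroup G) = (S : Subgroup G) := by
    rw [← hg]
    rfl
  rw [← h2]
  exact h1

end Cfsg.Agent.helper25

namespace Cfsg.Agent.helper25

variable {G : Type*} [Group G]

theorem isPGroup_subgroupOf {p : ℕ} {X : Subgroup G} (K : Subgroup G) (hX : IsPGroup p X) :
    IsPGroup p (X.subgroupOf K) :=
  hX.comap_of_injective K.subtype K.subtype_injective

/-- T1: Sylow conjugacy inside a subgroup `K`. -/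
theorem exists_cj_le_of_isSylowIn [Finite G] {p : ℕ} [Fact p.Prime] {H K X : Subgroup G}
    (hs : IsSylowIn p H K) (hXK : X ≤ K) (hX : IsPGroup p X) : ∃ k ∈ K, cj k X ≤ H := by
  obtain ⟨R, hR⟩ := hs
  obtain ⟨k, hk⟩ := exists_cj_le_sylow R (isPGroup_subgroupOf K hX)
  refine ⟨k, k.2, ?_⟩
  rintro _ ⟨x, hx, rfl⟩
  have h1 : (⟨x, hXK hx⟩ : K) ∈ X.subgroupOf K := Subgroup.mem_subgroupOf.mpr hx
  have h2 : k * ⟨x, hXK hx⟩ * k⁻¹ ∈ (R : Subgroup K) := hk (conj_mem_cj k _ h1)
  rw [hR] at h2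
  exact Subgroup.mem_subgroupOf.mp h2

/-- the order of a Sylow subgroup of `K` (as a subgroup of `G`). -/
theorem exists_sylow_ge [Finite G] {p : ℕ} [Fact p.Prime] {X K : Subgroup G} (hXK : X ≤ K)
    (hX : IsPGroup p X) :
    ∃ R : Subgroup G, X ≤ R ∧ R ≤ K ∧ IsPGroup p R ∧ Nat.card R = p ^ (Nat.card K).factorization p := by
  obtain ⟨R₀, hR₀⟩ := (isPGroup_subgroupOf K hX).exists_le_sylow
  refine ⟨(R₀ : Subgroup K).map K.subtype, ?_, Subgroup.map_subtype_le _, R₀.isPGroup'.map _, ?_⟩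
  · intro x hx
    exact ⟨⟨x, hXK hx⟩, hR₀ (Subgroup.mem_subgroupOf.mpr hx), rfl⟩
  · rw [Subgroup.card_subtype]
    exact R₀.card_eq_multiplicity

/-- T2: a Sylow subgroup of `K` meets a normal subgroup `M` of `K` in a Sylow subgroup of `M`. -/
theorem isSylowIn_inf_of_normal [Finite G] {p : ℕ} [Fact p.Prime] {H K M : Subgroup G} (hHK : H ≤ K)
    (hs : IsSylowIn p H K) (hMK : M ≤ K) (hn : K ≤ Subgroup.normalizer (M : Set G)) :
    IsSylowIn p (H ⊓ M) M := by
  have hHp : IsPGroup p H := hs.isPGroup hHK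
  have hHMp : IsPGroup p (H ⊓ M : Subgroup G) := hHp.to_le inf_le_left
  obtain ⟨R, hle, hRM, hRp, hRc⟩ := exists_sylow_ge (inf_le_right : H ⊓ M ≤ M) hHMp
  obtain ⟨k, hk, hkR⟩ := exists_cj_le_of_isSylowIn hs (hRM.trans hMK) hRp
  have h1 : cj k R ≤ M := by
    have : cj k M = M := by
      have := (Subgroup.mem_normalizer_iff_map_conj_eq (H := M)).mp (hn hk)
      exact this
    rw [← this]
    exact cj_mono k hRM
  have h2 : cj k R ≤ H ⊓ M := le_inf hkR h1
  rw [isSylowIn_iff_card inf_le_right]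
  apply le_antisymm (card_le_of_isPGroup_le inf_le_right hHMp)
  rw [← hRc, ← card_cj k R]
  exact Subgroup.card_le_of_le h2

/-- the key Sylow lemma: every `P ≤ S` has a conjugate `Q ≤ S` with `N_S(Q)` Sylow in `N_G(Q)`. -/
theorem exists_cj_normalizer_sylow [Finite G] {p : ℕ} [Fact p.Prime] (S : Sylow p G) {P : Subgroup G}
    (hP : P ≤ S) : ∃ g : G, cj g P ≤ S ∧
      IsSylowIn p ((S : Subgroup G) ⊓ Subgroup.normalizer ((cj g P : Subgroup G) : Set G))
        (Subgroup.normalizer ((cj g P : Subgroup G) : Set G)) := by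
  have hNSp : IsPGroup p ((S : Subgroup G) ⊓ Subgroup.normalizer (P : Set G) : Subgroup G) :=
    S.isPGroup'.to_le inf_le_left
  obtain ⟨R, hle, hRN, hRp, hRc⟩ :=
    exists_sylow_ge (inf_le_right : (S : Subgroup G) ⊓ Subgroup.normalizer (P : Set G) ≤ _) hNSp
  obtain ⟨g, hg⟩ := exists_cj_le_sylow S hRp
  have hPR : P ≤ R := (le_inf hP Subgroup.le_normalizer).trans hle
  refine ⟨g, (cj_mono g hPR).trans hg, ?_⟩
  have h1 : cj g R ≤ Subgroup.normalizer ((cj g P : Subgroup G) : Set G) := by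
    rw [← cj_normalizer]; exact cj_mono g hRN
  have h2 : cj g R ≤ (S : Subgroup G) ⊓ Subgroup.normalizer ((cj g P : Subgroup G) : Set G) :=
    le_inf hg h1
  have hp' : IsPGroup p ((S : Subgroup G) ⊓ Subgroup.normalizer ((cj g P : Subgroup G) : Set G) : Subgroup G) :=
    S.isPGroup'.to_le inf_le_left
  rw [isSylowIn_iff_card inf_le_right]
  apply le_antisymm (card_le_of_isPGroup_le inf_le_right hp')
  have hcN : Nat.card (Subgroup.normalizer ((cj g P : Subgroup G) : Set G)) =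
      Nat.card (Subgroup.normalizer (P : Set G)) := by
    rw [← cj_normalizer, card_cj]
  rw [hcN, ← hRc, ← card_cj g R]
  exact Subgroup.card_le_of_le h2

end Cfsg.Agent.helper25

namespace Cfsg.Agent.helper25

variable {G : Type*} [Group G]

theorem cj_eq_self_iff (g : G) (H : Subgroup G) :
    cj g H = H ↔ g ∈ Subgroup.normalizer (H : Set G) :=
  (Subgroup.mem_normalizer_iff_map_conj_eq (H := H)).symm

theorem normalizer_le_normalizer_centralizer (Q : Subgroup G) :
    Subgroup.normalizer (Q : Set G) ≤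
      Subgroup.normalizer ((Subgroup.centralizer (Q : Set G) : Subgroup G) : Set G) := by
  intro n hn
  rw [← cj_eq_self_iff, cj_centralizer, (cj_eq_self_iff n Q).mpr hn]

/-- if `N_S(Q)` is Sylow in `N_G(Q)` then `C_S(Q)` is Sylow in `C_G(Q)`. -/
theorem isSylowIn_centralizer_of_normalizer [Finite G] {p : ℕ} [Fact p.Prime] {S Q : Subgroup G}
    (hs : IsSylowIn p (S ⊓ Subgroup.normalizer (Q : Set G)) (Subgroup.normalizer (Q : Set G))) :
    IsSylowIn p (S ⊓ Subgroup.centralizer (Q : Set G)) (Subgroup.centralizer (Q : Set G)) := by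
  have h := isSylowIn_inf_of_normal inf_le_right hs (Subgroup.centralizer_le_normalizer (Q : Set G))
    (normalizer_le_normalizer_centralizer Q)
  have e : S ⊓ Subgroup.normalizer (Q : Set G) ⊓ Subgroup.centralizer (Q : Set G) =
      S ⊓ Subgroup.centralizer (Q : Set G) := by
    rw [inf_assoc, inf_eq_right.mpr (Subgroup.centralizer_le_normalizer (Q : Set G))]
  rwa [e] at h

theorem exists_cj_centralizer_sylow [Finite G] {p : ℕ} [Fact p.Prime] (S : Sylow p G) {P : Subgroup G}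
    (hP : P ≤ S) : ∃ g : G, cj g P ≤ S ∧
      IsSylowIn p ((S : Subgroup G) ⊓ Subgroup.centralizer ((cj g P : Subgroup G) : Set G))
        (Subgroup.centralizer ((cj g P : Subgroup G) : Set G)) := by
  obtain ⟨g, hg, hs⟩ := exists_cj_normalizer_sylow S hP
  exact ⟨g, hg, isSylowIn_centralizer_of_normalizer hs⟩

end Cfsg.Agent.helper25
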