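import Mathlib.GroupTheory.Sylow
import Mathlib.GroupTheory.SpecificGroups.Cyclic
import Mathlib.NumberTheory.Basic
import Mathlib.RingTheory.PrincipalIdealDomain
import Mathlib.RingTheory.Int.Basic

set_option autoImplicit false

namespace Cfsg.Agent.helper15

/-- An automorphism of a finite cyclic `p`-group fixing a nontrivial element has `p`-power order. -/
theorem mulAut_cyclic_pgroup_pow_eq_one {P : Type*} [Group P] [Finite P] [IsCyclic P] {p : ℕ}
    [hp : Fact p.Prime] (hP : IsPGroup p P) (σ : MulAut P) (x : P) (hx1 : x ≠ 1) (hσx : σ x = x) :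
    ∃ k : ℕ, σ ^ (p ^ k) = 1 := by
  obtain ⟨a, ha⟩ := IsCyclic.exists_generator (α := P)
  obtain ⟨n, hn⟩ := hP.exists_card_eq
  have hoa : orderOf a = p ^ n := by rw [orderOf_eq_card_of_forall_mem_zpowers ha, hn]
  obtain ⟨r, hr⟩ : ∃ r : ℕ, a ^ r = σ a := by
    have := ha (σ a)
    rw [← mem_powers_iff_mem_zpowers] at this
    exact (Submonoid.mem_powers_iff _ _).1 this
  obtain ⟨m, hm⟩ : ∃ m : ℕ, a ^ m = x := by
    have := ha x
    rw [← mem_powers_iff_mem_zpowers] at this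
    exact (Submonoid.mem_powers_iff _ _).1 this
  have h1 : a ^ (r * m) = a ^ m := by
    rw [pow_mul, hr, ← map_pow, hm, hσx]
  have h2 : r * m ≡ m [MOD p ^ n] := by rw [← hoa]; exact pow_eq_pow_iff_modEq.1 h1
  have h3 : ¬ p ^ n ∣ m := by
    intro hd
    apply hx1
    rw [← hm]
    rw [← hoa] at hd
    exact orderOf_dvd_iff_pow_eq_one.1 hd
  have hn0 : n ≠ 0 := by
    rintro rfl
    exact h3 (by simp)
  have hpZ : Prime (p : ℤ) := Nat.prime_iff_prime_int.1 hp.out
  have h4 : (p : ℤ) ∣ (r : ℤ) - 1 := by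
    by_contra hnd
    have hcop : IsCoprime ((p : ℤ) ^ n) ((r : ℤ) - 1) :=
      IsCoprime.pow_left (hpZ.coprime_iff_not_dvd.2 hnd)
    have hdvd : ((p : ℤ) ^ n) ∣ (m : ℤ) * ((r : ℤ) - 1) := by
      have := (Nat.modEq_iff_dvd.1 h2.symm)
      push_cast at this
      have e : (r : ℤ) * m - m = (m : ℤ) * ((r : ℤ) - 1) := by ring
      rw [e] at this
      exact this
    have := hcop.dvd_of_dvd_mul_right hdvd
    apply h3
    exact_mod_cast this
  have h5 : ((p : ℤ) ^ n) ∣ (r : ℤ) ^ (p ^ (n - 1)) - 1 := by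
    have := dvd_sub_pow_of_dvd_sub (R := ℤ) (p := p) (a := (r : ℤ)) (b := 1) h4 (n - 1)
    rw [Nat.sub_add_cancel (Nat.one_le_iff_ne_zero.2 hn0), one_pow] at this
    exact this
  have h6 : 1 ≡ r ^ (p ^ (n - 1)) [MOD p ^ n] := by
    rw [Nat.modEq_iff_dvd]
    push_cast
    exact h5
  have h7 : ∀ j : ℕ, (σ ^ j) a = a ^ (r ^ j) := by
    intro j
    induction j with
    | zero => simp
    | succ j ih =>
      rw [pow_succ', MulAut.mul_apply, ih, map_pow, ← hr, ← pow_mul, pow_succ']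
  refine ⟨n - 1, ?_⟩
  have h8 : (σ ^ (p ^ (n - 1))) a = a := by
    rw [h7]
    have : a ^ (r ^ (p ^ (n - 1))) = a ^ 1 := by
      rw [pow_eq_pow_iff_modEq, hoa]
      exact h6.symm
    rw [this, pow_one]
  ext y
  obtain ⟨k, rfl⟩ := Subgroup.mem_zpowers_iff.1 (ha y)
  rw [map_zpow, h8]
  rfl

end Cfsg.Agent.helper15
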