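import Mathlib
import Cfsg.Agent.Lib_helper15_CyclicAut

set_option autoImplicit false

namespace Cfsg.Agent.helper21

open Subgroup

/-- Burnside-type criterion for a cyclic Sylow subgroup: if every element of `N(P)` fixes some
nontrivial element of `P`, then `N(P) ≤ C(P)`. -/
theorem normalizer_le_centralizer_of_fix {X : Type*} [Group X] [Finite X] {p : ℕ} [Fact p.Prime]
    (P : Sylow p X) (hP : IsCyclic (P : Subgroup X))
    (h : ∀ x ∈ normalizer ((P : Subgroup X) : Set X),
      ∃ g ∈ (P : Subgroup X), g ≠ 1 ∧ x * g * x⁻¹ = g) :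
    normalizer ((P : Subgroup X) : Set X) ≤ centralizer ((P : Subgroup X) : Set X) := by
  have hTC : (P : Subgroup X) ≤ centralizer ((P : Subgroup X) : Set X) := by
    intro x hx
    rw [mem_centralizer_iff]
    intro y hy
    have hc : IsMulCommutative (P : Subgroup X) := inferInstance
    have := hc.is_comm.comm ⟨y, hy⟩ ⟨x, hx⟩
    exact congrArg Subtype.val this
  have key : Nat.card (P : Subgroup X).normalizerMonoidHom.range =
      (centralizer ((P : Subgroup X) : Set X)).relIndex (normalizer ((P : Subgroup X) : Set X)) := by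
    rw [← Subgroup.index_ker, normalizerMonoidHom_ker]
    rfl
  refine relIndex_eq_one.mp ?_
  rw [← key, Nat.eq_one_iff_not_exists_prime_dvd]
  intro q hq hqd
  have := Fact.mk hq
  obtain ⟨φ, hφ⟩ := exists_prime_orderOf_dvd_card' q hqd
  have hφ' : orderOf (φ : MulAut (P : Subgroup X)) = q := by
    rw [← hφ]; exact Subgroup.orderOf_coe φ
  obtain ⟨⟨x, hx⟩, hxφ⟩ := φ.2
  obtain ⟨g, hgP, hg1, hgx⟩ := h x hx
  have hfix : (φ : MulAut (P : Subgroup X)) ⟨g, hgP⟩ = ⟨g, hgP⟩ := by
    rw [← hxφ]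
    apply Subtype.ext
    exact hgx
  have hne : (⟨g, hgP⟩ : (P : Subgroup X)) ≠ 1 := by
    intro h1
    exact hg1 (congrArg Subtype.val h1)
  obtain ⟨k, hk⟩ := Cfsg.Agent.helper15.mulAut_cyclic_pgroup_pow_eq_one P.isPGroup'
    (φ : MulAut (P : Subgroup X)) ⟨g, hgP⟩ hne hfix
  have hqpk : q ∣ p ^ k := by
    rw [← hφ']; exact orderOf_dvd_of_pow_eq_one hk
  have hqp : q = p := (Nat.prime_dvd_prime_iff_eq hq Fact.out).mp (hq.dvd_of_dvd_pow hqpk)
  have hodd : ¬ (p ∣ (centralizer ((P : Subgroup X) : Set X)).relIndex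
      (normalizer ((P : Subgroup X) : Set X))) := by
    intro h2
    have h2' := h2.trans ((relIndex_dvd_of_le_left _ hTC).trans
      (relIndex_dvd_index_of_le P.le_normalizer))
    exact P.not_dvd_index h2'
  rw [key, hqp] at hqd
  exact hodd hqd

theorem mem_of_pow_mem_of_coprime {G : Type*} [Group G] (F : Subgroup G) (y : G) (a b : ℕ)
    (hab : Nat.Coprime a b) (ha : y ^ a ∈ F) (hb : y ^ b ∈ F) : y ∈ F := by
  have h := Nat.gcd_eq_gcd_ab a b
  rw [hab] at h
  have : y = (y ^ a) ^ (Nat.gcdA a b) * (y ^ b) ^ (Nat.gcdB a b) := by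
    rw [← zpow_natCast y a, ← zpow_natCast y b, ← zpow_mul, ← zpow_mul, ← zpow_add, ← h]
    simp
  rw [this]
  exact F.mul_mem (F.zpow_mem ha _) (F.zpow_mem hb _)

/-- A normal `p`-complement `K` of a normal subgroup `N` of `G` is normal in `G`. -/
theorem normal_of_pcomplement_of_normal {G : Type*} [Group G] [Finite G] {p : ℕ} [Fact p.Prime]
    (N K : Subgroup G) [hN : N.Normal] (hKN : K ≤ N) (hNK : N ≤ normalizer (K : Set G))
    (hK : (Nat.card K).Coprime p) (j : ℕ) (hj : K.relIndex N = p ^ j) : K.Normal := by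
  constructor
  intro k hk g
  have hyN : g * k * g⁻¹ ∈ N := hN.conj_mem k (hKN hk) g
  have hnorm : (K.subgroupOf N).Normal := (Subgroup.normal_subgroupOf_iff_le_normalizer hKN).mpr hNK
  have h1 := Subgroup.pow_index_mem (K.subgroupOf N) (⟨g * k * g⁻¹, hyN⟩ : N)
  rw [Subgroup.mem_subgroupOf] at h1
  have h1' : (g * k * g⁻¹) ^ (p ^ j) ∈ K := by
    rw [← hj]; exact h1
  have h2 : (g * k * g⁻¹) ^ (Nat.card K) = 1 := by
    rw [conj_pow]
    have : (⟨k, hk⟩ : K) ^ Nat.card K = 1 := pow_card_eq_one'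
    have hk' : k ^ Nat.card K = 1 := congrArg Subtype.val this
    rw [hk']; group
  apply mem_of_pow_mem_of_coprime K _ (p ^ j) (Nat.card K) _ h1' (by rw [h2]; exact K.one_mem)
  exact (Nat.Coprime.pow_left j hK.symm)

/-- In `HP` with `H` normal, `P` an abelian Sylow subgroup not contained in `H`, every element
normalizing `P` fixes a nontrivial element of `P`. -/
theorem exists_fixed_of_mem_normalizer {G : Type*} [Group G] [Finite G] {p : ℕ} [Fact p.Prime]
    (P : Sylow p G) (hP : IsMulCommutative (P : Subgroup G)) (H : Subgroup G) [hH : H.Normal]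
    (hPH : ¬ (P : Subgroup G) ≤ H) (x : G) (hxL : x ∈ H ⊔ (P : Subgroup G))
    (hxN : x ∈ normalizer ((P : Subgroup G) : Set G)) :
    ∃ g ∈ (P : Subgroup G), g ≠ 1 ∧ x * g * x⁻¹ = g := by
  have hxL' : x ∈ ((H ⊔ (P : Subgroup G) : Subgroup G) : Set G) := hxL
  rw [Subgroup.normal_mul] at hxL'
  obtain ⟨h, hh, y, hy, rfl⟩ := Set.mem_mul.mp hxL'
  have hcomm : ∀ a ∈ (P : Subgroup G), ∀ b ∈ (P : Subgroup G), a * b = b * a := by
    intro a ha b hb
    exact congrArg Subtype.val (hP.is_comm.comm ⟨a, ha⟩ ⟨b, hb⟩)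
  have hc : ∀ g ∈ (P : Subgroup G), (h * y) * g * (h * y)⁻¹ * g⁻¹ ∈ (P : Subgroup G) ⊓ H := by
    intro g hg
    constructor
    · have := (Subgroup.mem_normalizer_iff.mp hxN g).mp hg
      exact Subgroup.mul_mem _ this (Subgroup.inv_mem _ hg)
    · have e : (h * y) * g * (h * y)⁻¹ * g⁻¹ = h * (g * h⁻¹ * g⁻¹) := by
        have : y * g = g * y := hcomm y hy g hg
        calc (h * y) * g * (h * y)⁻¹ * g⁻¹ = h * (y * g) * y⁻¹ * h⁻¹ * g⁻¹ := by group
          _ = h * (g * y) * y⁻¹ * h⁻¹ * g⁻¹ := by rw [this]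
          _ = h * (g * h⁻¹ * g⁻¹) := by group
      rw [e]
      exact H.mul_mem hh (hH.conj_mem _ (H.inv_mem hh) g)
  have hlt : Nat.card ((P : Subgroup G) ⊓ H : Subgroup G) < Nat.card (P : Subgroup G) := by
    by_contra hge
    push Not at hge
    have := Subgroup.eq_of_le_of_card_ge (inf_le_left : (P : Subgroup G) ⊓ H ≤ P) hge
    exact hPH (this ▸ inf_le_right)
  have hninj : ¬ Function.Injective (fun g : (P : Subgroup G) =>
      (⟨(h * y) * g * (h * y)⁻¹ * g⁻¹, hc g g.2⟩ : ((P : Subgroup G) ⊓ H : Subgroup G))) := by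
    intro hinj
    have := Nat.card_le_card_of_injective _ hinj
    omega
  rw [Function.Injective] at hninj
  push Not at hninj
  obtain ⟨g₁, g₂, heq, hne⟩ := hninj
  have heq' : (h * y) * g₁ * (h * y)⁻¹ * (g₁ : G)⁻¹ = (h * y) * g₂ * (h * y)⁻¹ * (g₂ : G)⁻¹ :=
    congrArg Subtype.val heq
  refine ⟨(g₂ : G)⁻¹ * g₁, Subgroup.mul_mem _ (Subgroup.inv_mem _ g₂.2) g₁.2, ?_, ?_⟩
  · intro h1
    apply hne
    apply Subtype.ext
    have : (g₁ : G) = g₂ := by
      have := congrArg (fun t => (g₂ : G) * t) h1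
      simpa using this
    exact this
  · have e1 : (h * y) * g₁ * (h * y)⁻¹ = ((h * y) * g₂ * (h * y)⁻¹ * (g₂ : G)⁻¹) * g₁ := by
      rw [← heq']; group
    calc (h * y) * ((g₂ : G)⁻¹ * g₁) * (h * y)⁻¹
        = ((h * y) * g₂ * (h * y)⁻¹)⁻¹ * ((h * y) * g₁ * (h * y)⁻¹) := by group
      _ = ((h * y) * g₂ * (h * y)⁻¹)⁻¹ * (((h * y) * g₂ * (h * y)⁻¹ * (g₂ : G)⁻¹) * g₁) := by rw [e1]
      _ = (g₂ : G)⁻¹ * g₁ := by group

/-- If `P ≤ L` is a cyclic Sylow subgroup and every element of `L ∩ N(P)` fixes a nontrivial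
element of `P`, then `L` has a normal `p`-complement `K`. -/
theorem exists_pcomplement_in {G : Type*} [Group G] [Finite G] {p : ℕ} [Fact p.Prime]
    (P : Sylow p G) (hP : IsCyclic (P : Subgroup G)) (L : Subgroup G) (hPL : (P : Subgroup G) ≤ L)
    (h : ∀ x ∈ L, x ∈ normalizer ((P : Subgroup G) : Set G) →
      ∃ g ∈ (P : Subgroup G), g ≠ 1 ∧ x * g * x⁻¹ = g) :
    ∃ K : Subgroup G, K ≤ L ∧ L ≤ normalizer (K : Set G) ∧ (Nat.card K).Coprime p ∧
      K.relIndex L = Nat.card (P : Subgroup G) := by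
  have hcyc : IsCyclic ((P.subtype hPL : Sylow p L) : Subgroup L) := by
    rw [Sylow.coe_subtype]
    exact isCyclic_of_surjective (Subgroup.subgroupOfEquivOfLe hPL).symm
      (Subgroup.subgroupOfEquivOfLe hPL).symm.surjective
  have hyp : ∀ x ∈ normalizer (((P.subtype hPL : Sylow p L) : Subgroup L) : Set L),
      ∃ g ∈ ((P.subtype hPL : Sylow p L) : Subgroup L), g ≠ 1 ∧ x * g * x⁻¹ = g := by
    intro x hx
    have hx' : x ∈ (normalizer ((P : Subgroup G) : Set G)).subgroupOf L := by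
      rw [Subgroup.subgroupOf_normalizer_eq hPL]
      exact hx
    rw [Subgroup.mem_subgroupOf] at hx'
    obtain ⟨g, hg, hg1, hgx⟩ := h x.1 x.2 hx'
    refine ⟨⟨g, hPL hg⟩, ?_, ?_, ?_⟩
    · rw [Sylow.coe_subtype, Subgroup.mem_subgroupOf]; exact hg
    · intro h1; exact hg1 (congrArg Subtype.val h1)
    · apply Subtype.ext; exact hgx
  have hNC := normalizer_le_centralizer_of_fix (P.subtype hPL) hcyc hyp
  have hcompl := MonoidHom.ker_transferSylow_isComplement' (P.subtype hPL) hNC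
  have hnd := MonoidHom.not_dvd_card_ker_transferSylow (P.subtype hPL) hNC
  refine ⟨(MonoidHom.transferSylow (P.subtype hPL) hNC).ker.map L.subtype,
    Subgroup.map_subtype_le _, ?_, ?_, ?_⟩
  · have hsub : ((MonoidHom.transferSylow (P.subtype hPL) hNC).ker.map L.subtype).subgroupOf L =
        (MonoidHom.transferSylow (P.subtype hPL) hNC).ker :=
      Subgroup.comap_map_eq_self_of_injective L.subtype_injective _
    rw [← Subgroup.normal_subgroupOf_iff_le_normalizer (Subgroup.map_subtype_le _), hsub]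
    infer_instance
  · rw [Subgroup.card_map_of_injective L.subtype_injective]
    exact (Nat.Coprime.symm ((Nat.Prime.coprime_iff_not_dvd Fact.out).mpr hnd))
  · have hsub : ((MonoidHom.transferSylow (P.subtype hPL) hNC).ker.map L.subtype).subgroupOf L =
        (MonoidHom.transferSylow (P.subtype hPL) hNC).ker :=
      Subgroup.comap_map_eq_self_of_injective L.subtype_injective _
    rw [Subgroup.relIndex, hsub, hcompl.symm.index_eq_card]
    rw [Sylow.coe_subtype]
    exact Nat.card_congr (Subgroup.subgroupOfEquivOfLe hPL).toEquiv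

/-- The quotient by the centralizer of a cyclic normal subgroup is commutative. -/
theorem comm_quotient_centralizer_of_cyclic {G : Type*} [Group G] (A : Subgroup G) [hA : A.Normal]
    (hc : IsCyclic A) :
    ∀ x y : G ⧸ centralizer (A : Set G), x * y = y * x := by
  obtain ⟨t, ht⟩ := IsCyclic.exists_generator (α := A)
  have key : ∀ a : G, ∃ i : ℤ, a * (t : G) * a⁻¹ = (t : G) ^ i := by
    intro a
    have hmem : a * (t : G) * a⁻¹ ∈ A := hA.conj_mem _ t.2 a
    obtain ⟨i, hi⟩ := Subgroup.mem_zpowers_iff.mp (ht ⟨_, hmem⟩)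
    refine ⟨i, ?_⟩
    have := congrArg Subtype.val hi
    simpa using this.symm
  have hcent : ∀ c : G, c * (t : G) * c⁻¹ = t → c ∈ centralizer (A : Set G) := by
    intro c hct
    rw [mem_centralizer_iff]
    intro h hh
    obtain ⟨z, hz⟩ := Subgroup.mem_zpowers_iff.mp (ht ⟨h, hh⟩)
    have hz' : (t : G) ^ z = h := by
      have := congrArg Subtype.val hz
      simpa using this
    have : c * h * c⁻¹ = h := by
      rw [← hz', ← conj_zpow, hct]
    calc h * c = (c * h * c⁻¹) * c := by rw [this]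
      _ = c * h := by group
  intro x y
  induction x using QuotientGroup.induction_on with
  | H a =>
    induction y using QuotientGroup.induction_on with
    | H b =>
      rw [← QuotientGroup.mk_mul, ← QuotientGroup.mk_mul, QuotientGroup.eq]
      apply hcent
      obtain ⟨i, hi⟩ := key a
      obtain ⟨j, hj⟩ := key b
      have e1 : (b * a) * (t : G) * (b * a)⁻¹ = (t : G) ^ (j * i) := by
        calc (b * a) * (t : G) * (b * a)⁻¹ = b * (a * (t : G) * a⁻¹) * b⁻¹ := by group
          _ = b * (t : G) ^ i * b⁻¹ := by rw [hi]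
          _ = (b * (t : G) * b⁻¹) ^ i := by rw [conj_zpow]
          _ = (t : G) ^ (j * i) := by rw [hj, ← zpow_mul]
      have e2 : (a * b) * (t : G) * (a * b)⁻¹ = (t : G) ^ (j * i) := by
        calc (a * b) * (t : G) * (a * b)⁻¹ = a * (b * (t : G) * b⁻¹) * a⁻¹ := by group
          _ = a * (t : G) ^ j * a⁻¹ := by rw [hj]
          _ = (a * (t : G) * a⁻¹) ^ j := by rw [conj_zpow]
          _ = (t : G) ^ (j * i) := by rw [hi, ← zpow_mul, mul_comm]
      calc ((a * b)⁻¹ * (b * a)) * (t : G) * ((a * b)⁻¹ * (b * a))⁻¹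
          = (a * b)⁻¹ * ((b * a) * (t : G) * (b * a)⁻¹) * (a * b) := by group
        _ = (a * b)⁻¹ * ((a * b) * (t : G) * (a * b)⁻¹) * (a * b) := by rw [e1, e2]
        _ = t := by group

end Cfsg.Agent.helper21
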