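import Mathlib
import Cfsg.Prelude.Def_Transfer
import Cfsg.Prelude.Def_CaseTheorems
import Cfsg.Agent.Lib_helper3_EA
import Cfsg.Agent.Lib_helper21_CyclicSylow
import Cfsg.Agent.Lib_helper7_Gen3

/-! A `p`-group of `p`-rank at least 3 has a normal elementary abelian subgroup of order `p²`
(helper7). -/

set_option autoImplicit false

namespace Cfsg.Agent.helper7

section NormalE2

variable {P : Type*} [Group P] [Finite P] {p : ℕ} [hp : Fact p.Prime]

/-- A nontrivial normal subgroup of a `p`-group contains a nontrivial central element. -/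
theorem exists_central_of_normal (hP : IsPGroup p P) (V : Subgroup P) [V.Normal]
    (hV : V ≠ ⊥) : ∃ b ∈ V, b ≠ 1 ∧ ∀ u : P, u * b = b * u := by
  have hdvd : p ∣ Nat.card V := by
    obtain ⟨e, he⟩ := (hP.to_subgroup V).exists_card_eq
    rw [he]
    rcases Nat.eq_zero_or_pos e with h0 | hpos
    · exfalso
      rw [h0, pow_zero] at he
      exact hV (Subgroup.card_eq_one.mp he)
    · exact dvd_pow_self p hpos.ne'
  obtain ⟨b, hb, hne⟩ :=
    (hP.of_equiv ConjAct.toConjAct).exists_fixed_point_of_prime_dvd_card_of_fixed_point ↥V hdvd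
      (a := (1 : ↥V)) (by intro g; exact smul_one g)
  refine ⟨b, b.2, ?_, ?_⟩
  · intro h; apply hne; exact Subtype.ext h.symm
  · intro u
    have h1 := hb (ConjAct.toConjAct u)
    have h2 := congrArg Subtype.val h1
    rw [ConjAct.Subgroup.val_conj_smul, ConjAct.smul_def, ConjAct.ofConjAct_toConjAct] at h2
    exact mul_inv_eq_iff_eq_mul.mp h2

/-- A finite `p`-group has a normal abelian subgroup containing its own centralizer. -/
theorem exists_normal_abelian_selfcent (hP : IsPGroup p P) :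
    ∃ A : Subgroup P, A.Normal ∧ (∀ x ∈ A, ∀ y ∈ A, x * y = y * x) ∧
      Subgroup.centralizer (A : Set P) ≤ A := by
  classical
  let s : Set (Subgroup P) := {A | A.Normal ∧ ∀ x ∈ A, ∀ y ∈ A, x * y = y * x}
  have hsne : s.Nonempty := ⟨⊥, inferInstance, by
    intro x hx y hy
    rw [Subgroup.mem_bot] at hx hy
    rw [hx, hy]⟩
  obtain ⟨A, hAmax⟩ := (Set.toFinite s).exists_maximal hsne
  obtain ⟨⟨hAn, hAab⟩, hmax⟩ := hAmax
  refine ⟨A, hAn, hAab, ?_⟩
  by_contra hnot
  obtain ⟨c₀, hc₀C, hc₀A⟩ := SetLike.not_le_iff_exists.mp hnot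
  have hCn : (Subgroup.centralizer (A : Set P)).Normal := Subgroup.normal_centralizer
  have hVn : ((Subgroup.centralizer (A : Set P)).map (QuotientGroup.mk' A)).Normal :=
    Subgroup.Normal.map hCn _ (QuotientGroup.mk'_surjective A)
  have hVne : (Subgroup.centralizer (A : Set P)).map (QuotientGroup.mk' A) ≠ ⊥ := by
    intro e
    have h1 : QuotientGroup.mk' A c₀ ∈ (Subgroup.centralizer (A : Set P)).map (QuotientGroup.mk' A) :=
      Subgroup.mem_map_of_mem _ hc₀C
    rw [e, Subgroup.mem_bot, QuotientGroup.mk'_apply, QuotientGroup.eq_one_iff] at h1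
    exact hc₀A h1
  have hQ : IsPGroup p (P ⧸ A) := hP.to_quotient A
  obtain ⟨b, hbV, hb1, hbc⟩ := exists_central_of_normal hQ _ hVne
  obtain ⟨c, hcC, rfl⟩ := hbV
  have hcA : c ∉ A := by
    intro h
    apply hb1
    rw [QuotientGroup.mk'_apply, QuotientGroup.eq_one_iff]
    exact h
  -- commutators of `c` lie in `A`
  have hcomm : ∀ g : P, g * c * g⁻¹ * c⁻¹ ∈ A := by
    intro g
    have h := hbc (QuotientGroup.mk' A g)
    have h3 : (QuotientGroup.mk' A) (g * c * g⁻¹ * c⁻¹) = 1 := by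
      rw [map_mul, map_mul, map_mul, map_inv, map_inv, h]
      group
    rw [QuotientGroup.mk'_apply, QuotientGroup.eq_one_iff] at h3
    exact h3
  -- `c` commutes with `A`
  have hcA' : ∀ x ∈ A, ∀ y ∈ Subgroup.zpowers c, x * y = y * x := by
    intro x hx y hy
    obtain ⟨i, rfl⟩ := Subgroup.mem_zpowers_iff.mp hy
    have h1 : Commute x c := (Subgroup.mem_centralizer_iff.mp hcC x hx)
    exact (h1.zpow_right i).eq
  have hBmem : ∀ x ∈ A ⊔ Subgroup.zpowers c, ∃ a ∈ A, ∃ y ∈ Subgroup.zpowers c, x = a * y := by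
    intro x hx
    have h1 : x ∈ ((A ⊔ Subgroup.zpowers c : Subgroup P) : Set P) := hx
    rw [Subgroup.normal_mul] at h1
    obtain ⟨a, ha, y, hy, rfl⟩ := Set.mem_mul.mp h1
    exact ⟨a, ha, y, hy, rfl⟩
  have hBab : ∀ x ∈ A ⊔ Subgroup.zpowers c, ∀ y ∈ A ⊔ Subgroup.zpowers c, x * y = y * x := by
    intro x hx y hy
    obtain ⟨a₁, ha₁, c₁, hc₁, rfl⟩ := hBmem x hx
    obtain ⟨a₂, ha₂, c₂, hc₂, rfl⟩ := hBmem y hy
    have e1 := hAab a₁ ha₁ a₂ ha₂
    have e2 := hcA' a₂ ha₂ c₁ hc₁
    have e3 := hcA' a₁ ha₁ c₂ hc₂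
    have e4 : c₁ * c₂ = c₂ * c₁ := by
      obtain ⟨i, rfl⟩ := Subgroup.mem_zpowers_iff.mp hc₁
      obtain ⟨j, rfl⟩ := Subgroup.mem_zpowers_iff.mp hc₂
      rw [← zpow_add, ← zpow_add, add_comm]
    calc a₁ * c₁ * (a₂ * c₂) = a₁ * (c₁ * a₂) * c₂ := by group
      _ = a₁ * (a₂ * c₁) * c₂ := by rw [e2]
      _ = (a₁ * a₂) * (c₁ * c₂) := by group
      _ = (a₂ * a₁) * (c₂ * c₁) := by rw [e1, e4]
      _ = a₂ * (a₁ * c₂) * c₁ := by group
      _ = a₂ * (c₂ * a₁) * c₁ := by rw [e3]
      _ = a₂ * c₂ * (a₁ * c₁) := by group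
  have hBn : (A ⊔ Subgroup.zpowers c).Normal := by
    constructor
    intro x hx g
    obtain ⟨a₁, ha₁, c₁, hc₁, rfl⟩ := hBmem x hx
    obtain ⟨i, rfl⟩ := Subgroup.mem_zpowers_iff.mp hc₁
    have h1 : g * a₁ * g⁻¹ ∈ A ⊔ Subgroup.zpowers c :=
      (le_sup_left : A ≤ _) (hAn.conj_mem a₁ ha₁ g)
    have h2 : g * c * g⁻¹ ∈ A ⊔ Subgroup.zpowers c := by
      have : g * c * g⁻¹ = (g * c * g⁻¹ * c⁻¹) * c := by group
      rw [this]
      exact Subgroup.mul_mem _ ((le_sup_left : A ≤ _) (hcomm g))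
        ((le_sup_right : Subgroup.zpowers c ≤ _) (Subgroup.mem_zpowers c))
    have h3 : g * (a₁ * c ^ i) * g⁻¹ = (g * a₁ * g⁻¹) * (g * c * g⁻¹) ^ i := by
      rw [conj_zpow]; group
    rw [h3]
    exact Subgroup.mul_mem _ h1 (Subgroup.zpow_mem _ h2 i)
  have hle : A ⊔ Subgroup.zpowers c ≤ A := hmax ⟨hBn, hBab⟩ le_sup_left
  exact hcA (hle ((le_sup_right : Subgroup.zpowers c ≤ _) (Subgroup.mem_zpowers c)))

/-- cardinality of the preimage of a subgroup under the quotient map -/
theorem card_comap_mk' (Z : Subgroup P) [Z.Normal] (H : Subgroup (P ⧸ Z)) :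
    Nat.card ↥(H.comap (QuotientGroup.mk' Z)) = Nat.card ↥Z * Nat.card ↥H := by
  have h1 : (H.comap (QuotientGroup.mk' Z)).index = H.index :=
    Subgroup.index_comap_of_surjective H (QuotientGroup.mk'_surjective Z)
  have h2 := Subgroup.index_mul_card (H.comap (QuotientGroup.mk' Z))
  have h3 := Subgroup.index_mul_card H
  have h4 := Subgroup.card_eq_card_quotient_mul_card_subgroup Z
  have h5 : H.index ≠ 0 := Subgroup.index_ne_zero_of_finite
  rw [h1] at h2
  have h6 : H.index * Nat.card ↥(H.comap (QuotientGroup.mk' Z)) =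
      H.index * (Nat.card ↥Z * Nat.card ↥H) := by
    rw [h2, h4, ← h3]; ring
  exact Nat.eq_of_mul_eq_mul_left (Nat.pos_of_ne_zero h5) h6

/-- A normal elementary abelian subgroup of order at least `p²` of a `p`-group contains a normal
subgroup of order `p²`. -/
theorem exists_normal_card_sq_le (hP : IsPGroup p P) (N : Subgroup P) [hNn : N.Normal]
    (hN : Cfsg.IsElementaryAbelian p N) (hcard : p ^ 2 ≤ Nat.card ↥N) :
    ∃ U : Subgroup P, U ≤ N ∧ U.Normal ∧ Nat.card ↥U = p ^ 2 := by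
  have hp1 : 1 < p := hp.out.one_lt
  have hNne : N ≠ ⊥ := by
    intro h
    rw [h, Subgroup.card_bot] at hcard
    nlinarith
  obtain ⟨z, hzN, hz1, hzc⟩ := exists_central_of_normal hP N hNne
  have hzp : z ^ p = 1 := hN.2 z hzN
  have hzo : orderOf z = p := orderOf_eq_prime hzp hz1
  have hZn : (Subgroup.zpowers z).Normal := by
    constructor
    intro x hx g
    obtain ⟨i, rfl⟩ := Subgroup.mem_zpowers_iff.mp hx
    have : g * z ^ i * g⁻¹ = z ^ i := by
      rw [← conj_zpow]
      congr 1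
      rw [hzc g]; group
    rw [this]
    exact Subgroup.zpow_mem _ (Subgroup.mem_zpowers z) i
  have hZcard : Nat.card ↥(Subgroup.zpowers z) = p := by rw [Nat.card_zpowers, hzo]
  have hZN : Subgroup.zpowers z ≤ N := Subgroup.zpowers_le.mpr hzN
  have hVn : (N.map (QuotientGroup.mk' (Subgroup.zpowers z))).Normal :=
    Subgroup.Normal.map hNn _ (QuotientGroup.mk'_surjective _)
  have hVne : N.map (QuotientGroup.mk' (Subgroup.zpowers z)) ≠ ⊥ := by
    intro e
    have h1 : N ≤ Subgroup.zpowers z := by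
      intro x hx
      have h2 : QuotientGroup.mk' (Subgroup.zpowers z) x ∈
          N.map (QuotientGroup.mk' (Subgroup.zpowers z)) := Subgroup.mem_map_of_mem _ hx
      rw [e, Subgroup.mem_bot, QuotientGroup.mk'_apply, QuotientGroup.eq_one_iff] at h2
      exact h2
    have h3 := Subgroup.card_le_of_le h1
    rw [hZcard] at h3
    nlinarith
  have hQ : IsPGroup p (P ⧸ Subgroup.zpowers z) := hP.to_quotient _
  obtain ⟨b, hbV, hb1, hbc⟩ := exists_central_of_normal hQ _ hVne
  obtain ⟨u, huN, rfl⟩ := hbV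
  have hbp : (QuotientGroup.mk' (Subgroup.zpowers z) u) ^ p = 1 := by
    rw [← map_pow, hN.2 u huN, map_one]
  have hbo : orderOf (QuotientGroup.mk' (Subgroup.zpowers z) u) = p := orderOf_eq_prime hbp hb1
  have hBn : (Subgroup.zpowers (QuotientGroup.mk' (Subgroup.zpowers z) u)).Normal := by
    constructor
    intro x hx g
    obtain ⟨i, rfl⟩ := Subgroup.mem_zpowers_iff.mp hx
    have : g * (QuotientGroup.mk' (Subgroup.zpowers z) u) ^ i * g⁻¹ =
        (QuotientGroup.mk' (Subgroup.zpowers z) u) ^ i := by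
      rw [← conj_zpow]
      congr 1
      rw [hbc g]; group
    rw [this]
    exact Subgroup.zpow_mem _ (Subgroup.mem_zpowers _) i
  refine ⟨(Subgroup.zpowers (QuotientGroup.mk' (Subgroup.zpowers z) u)).comap
    (QuotientGroup.mk' (Subgroup.zpowers z)), ?_, ?_, ?_⟩
  · intro x hx
    rw [Subgroup.mem_comap] at hx
    obtain ⟨i, hi⟩ := Subgroup.mem_zpowers_iff.mp hx
    rw [← map_zpow] at hi
    have h1 : (u ^ i)⁻¹ * x ∈ Subgroup.zpowers z := by
      rw [← QuotientGroup.eq]
      exact hi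
    have h2 : x = u ^ i * ((u ^ i)⁻¹ * x) := by group
    rw [h2]
    exact N.mul_mem (N.zpow_mem huN i) (hZN h1)
  · exact Subgroup.Normal.comap hBn _
  · rw [card_comap_mk', hZcard, Nat.card_zpowers, hbo]; ring

/-- A finite abelian `p`-group with at most `p` solutions of `x ^ p = 1` is cyclic. -/
theorem isCyclic_of_card_omega_le {A : Type*} [Group A] [Finite A]
    (hcomm : ∀ a b : A, a * b = b * a) (hA : IsPGroup p A)
    (h : Nat.card {a : A // a ^ p = 1} ≤ p) : IsCyclic A := by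
  classical
  let _ : CommGroup A := { ‹Group A› with mul_comm := hcomm }
  have : Fintype A := Fintype.ofFinite A
  have h' : (Finset.univ.filter (fun a : A => a ^ p = 1)).card ≤ p := by
    rw [Nat.card_eq_fintype_card, Fintype.card_subtype] at h
    exact h
  have key : ∀ j : ℕ, (Finset.univ.filter (fun a : A => a ^ (p ^ j) = 1)).card ≤ p ^ j := by
    intro j
    induction j with
    | zero =>
      have : (Finset.univ.filter (fun a : A => a ^ (p ^ 0) = 1)) = {1} := by
        ext a; simp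
      rw [this]; simp
    | succ j ih =>
      have himg : (Finset.univ.filter (fun a : A => a ^ (p ^ (j + 1)) = 1)).image (fun a => a ^ p) ⊆
          Finset.univ.filter (fun a : A => a ^ (p ^ j) = 1) := by
        intro b hb
        rw [Finset.mem_image] at hb
        obtain ⟨a, ha, rfl⟩ := hb
        rw [Finset.mem_filter] at ha ⊢
        refine ⟨Finset.mem_univ _, ?_⟩
        rw [← pow_mul, ← pow_succ']
        exact ha.2
      have hfib : ∀ b ∈ (Finset.univ.filter (fun a : A => a ^ (p ^ (j + 1)) = 1)).image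
          (fun a => a ^ p),
          ((Finset.univ.filter (fun a : A => a ^ (p ^ (j + 1)) = 1)).filter
            (fun x => x ^ p = b)).card ≤ p := by
        intro b hb
        rw [Finset.mem_image] at hb
        obtain ⟨x₀, _, rfl⟩ := hb
        refine le_trans ?_ h'
        apply Finset.card_le_card_of_injOn (fun x => x * x₀⁻¹)
        · intro x hx
          have hx' := (Finset.mem_filter.mp (Finset.mem_coe.mp hx)).2
          simp only [Finset.coe_filter, Finset.mem_univ, true_and, Set.mem_setOf_eq]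
          rw [mul_pow, inv_pow, hx', mul_inv_cancel]
        · intro x _ y _ hxy
          exact mul_right_cancel hxy
      have h1 := Finset.card_le_mul_card_image
        (Finset.univ.filter (fun a : A => a ^ (p ^ (j + 1)) = 1)) p hfib
      have h2 := Finset.card_le_card himg
      calc _ ≤ p * _ := h1
        _ ≤ p * p ^ j := Nat.mul_le_mul_left p (h2.trans ih)
        _ = p ^ (j + 1) := by ring
  apply isCyclic_of_card_pow_eq_one_le
  intro n hn
  obtain ⟨e, he⟩ := hA.exists_card_eq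
  have hd : Nat.gcd n (p ^ e) ∣ p ^ e := Nat.gcd_dvd_right _ _
  obtain ⟨j, _, hj⟩ := (Nat.dvd_prime_pow hp.out).mp hd
  have hsub : Finset.univ.filter (fun a : A => a ^ n = 1) ⊆
      Finset.univ.filter (fun a : A => a ^ (p ^ j) = 1) := by
    intro a ha
    rw [Finset.mem_filter] at ha ⊢
    refine ⟨Finset.mem_univ _, ?_⟩
    rw [← hj]
    have h1 : a ^ (p ^ e) = 1 := by
      rw [← he]; exact pow_card_eq_one'
    exact pow_gcd_eq_one.mpr ⟨ha.2, h1⟩
  calc _ ≤ _ := Finset.card_le_card hsub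
    _ ≤ p ^ j := key j
    _ = Nat.gcd n (p ^ e) := hj.symm
    _ ≤ n := Nat.gcd_le_left _ hn

omit [Finite P] in
theorem index_centralizer_singleton (u : P) :
    (Subgroup.centralizer ({u} : Set P)).index = (MulAction.orbit (ConjAct P) u).ncard := by
  have h := MulAction.index_stabilizer (G := ConjAct P) (x := u)
  rw [ConjAct.stabilizer_eq_centralizer] at h
  exact h

/-- In a `p`-group, the centralizer of a normal subgroup of order dividing `p²` has index
dividing `p`. -/
theorem index_centralizer_dvd_of_card_dvd_sq (hP : IsPGroup p P) (N : Subgroup P) [hNn : N.Normal]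
    (hN : Nat.card ↥N ∣ p ^ 2) : (Subgroup.centralizer (N : Set P)).index ∣ p := by
  have hp1 : 1 < p := hp.out.one_lt
  by_cases hNc : N ≤ Subgroup.center P
  · have : Subgroup.centralizer (N : Set P) = ⊤ := Subgroup.centralizer_eq_top_iff_subset.mpr hNc
    rw [this, Subgroup.index_top]
    exact one_dvd p
  obtain ⟨u, huN, huc⟩ := SetLike.not_le_iff_exists.mp hNc
  have hu1 : u ≠ 1 := fun h => huc (h ▸ Subgroup.one_mem _)
  have hNle : Nat.card ↥N ≤ p ^ 2 := Nat.le_of_dvd (by positivity) hN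
  -- the index of the centralizer of `u` is less than `p ^ 2`
  have h1 : (Subgroup.centralizer ({u} : Set P)).index < p ^ 2 := by
    rw [index_centralizer_singleton]
    have hsub : MulAction.orbit (ConjAct P) u ⊆ (N : Set P) \ {1} := by
      intro x hx
      rw [ConjAct.mem_orbit_conjAct, isConj_comm, isConj_iff] at hx
      obtain ⟨c, rfl⟩ := hx
      refine ⟨hNn.conj_mem u huN c, ?_⟩
      intro h
      rw [Set.mem_singleton_iff] at h
      apply hu1
      have : u = c⁻¹ * (c * u * c⁻¹) * c := by group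
      rw [this, h]; group
    have h2 := Set.ncard_le_ncard hsub (Set.toFinite _)
    have h3 : ((N : Set P) \ {1}).ncard = (N : Set P).ncard - 1 := by
      rw [Set.ncard_diff_singleton_of_mem (N.one_mem)]
    have h4 : (N : Set P).ncard = Nat.card ↥N := (Nat.card_coe_set_eq (N : Set P)).symm
    have h5 : 0 < Nat.card ↥N := Nat.card_pos
    omega
  -- `N` is generated by its central part and `u`
  have hN0 : N ⊓ Subgroup.center P ≠ ⊥ := by
    have hNne : N ≠ ⊥ := fun h => hu1 (by rw [h, Subgroup.mem_bot] at huN; exact huN)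
    obtain ⟨b, hbN, hb1, hbc⟩ := exists_central_of_normal hP N hNne
    intro h
    apply hb1
    have : b ∈ N ⊓ Subgroup.center P := by
      refine ⟨hbN, ?_⟩
      show b ∈ Subgroup.center P
      rw [Subgroup.mem_center_iff]
      exact hbc
    rw [h, Subgroup.mem_bot] at this
    exact this
  have hMN : (N ⊓ Subgroup.center P) ⊔ Subgroup.zpowers u = N := by
    have hle : (N ⊓ Subgroup.center P) ⊔ Subgroup.zpowers u ≤ N :=
      sup_le inf_le_left (Subgroup.zpowers_le.mpr huN)
    apply Subgroup.eq_of_le_of_card_ge hle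
    obtain ⟨a, ha⟩ := (hP.to_subgroup (N ⊓ Subgroup.center P)).exists_card_eq
    obtain ⟨b, hb⟩ := (hP.to_subgroup ((N ⊓ Subgroup.center P) ⊔ Subgroup.zpowers u)).exists_card_eq
    have ha1 : a ≠ 0 := by
      intro h
      rw [h, pow_zero] at ha
      exact hN0 (Subgroup.card_eq_one.mp ha)
    have hlt : N ⊓ Subgroup.center P < (N ⊓ Subgroup.center P) ⊔ Subgroup.zpowers u := by
      refine lt_of_le_of_ne le_sup_left ?_
      intro h
      apply huc
      have : u ∈ N ⊓ Subgroup.center P := by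
        rw [h]; exact (le_sup_right : Subgroup.zpowers u ≤ _) (Subgroup.mem_zpowers u)
      exact this.2
    have hclt : Nat.card ↥(N ⊓ Subgroup.center P) <
        Nat.card ↥((N ⊓ Subgroup.center P) ⊔ Subgroup.zpowers u) := by
      by_contra hge
      push Not at hge
      exact hlt.ne (Subgroup.eq_of_le_of_card_ge hlt.le hge)
    rw [ha, hb] at hclt
    have hab : a < b := (Nat.pow_lt_pow_iff_right hp1).mp hclt
    rw [hb]
    calc Nat.card ↥N ≤ p ^ 2 := hNle
      _ ≤ p ^ b := Nat.pow_le_pow_right (by omega) (by omega)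
  have hcent : Subgroup.centralizer ({u} : Set P) ≤ Subgroup.centralizer (N : Set P) := by
    intro g hg
    have hle : N ≤ Subgroup.centralizer ({g} : Set P) := by
      rw [← hMN]
      apply sup_le
      · intro x hx
        rw [Subgroup.mem_centralizer_singleton_iff]
        exact ((Subgroup.mem_center_iff.mp hx.2) g).symm
      · rw [Subgroup.zpowers_le, Subgroup.mem_centralizer_singleton_iff]
        exact (Subgroup.mem_centralizer_singleton_iff.mp hg).symm
    rw [Subgroup.mem_centralizer_iff]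
    intro x hx
    exact (Subgroup.mem_centralizer_singleton_iff.mp (hle hx))
  have hidx : (Subgroup.centralizer (N : Set P)).index ∣ (Subgroup.centralizer ({u} : Set P)).index :=
    Subgroup.index_dvd_of_le hcent
  obtain ⟨n, hn⟩ := hP.index (Subgroup.centralizer ({u} : Set P))
  rw [hn] at h1 hidx
  have hn1 : n < 2 := (Nat.pow_lt_pow_iff_right hp1).mp h1
  have : p ^ n ∣ p := by
    interval_cases n
    · simp
    · simp
  exact hidx.trans this

/-- The norm argument: `A` abelian normal, `x` of order dividing `p` centralizing `Ω₂(A)`;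
if `(u x) ^ p = 1` with `u ∈ A` then `u ^ p = 1`. -/
theorem pow_prime_eq_one_of_mul_pow (hP : IsPGroup p P) (A : Subgroup P) [hAn : A.Normal]
    (hAab : ∀ x ∈ A, ∀ y ∈ A, x * y = y * x) (x : P) (hxp : x ^ p = 1)
    (hx2 : ∀ v ∈ A, v ^ (p ^ 2) = 1 → x * v = v * x) (u : P) (hu : u ∈ A)
    (h : (u * x) ^ p = 1) : u ^ p = 1 := by
  have hp1 : 1 < p := hp.out.one_lt
  obtain ⟨m, hm⟩ := (IsPGroup.iff_orderOf.mp hP) u
  by_cases hm1 : m ≤ 1
  · have : orderOf u ∣ p := by
      rw [hm]
      interval_cases m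
      · simp
      · simp
    exact orderOf_dvd_iff_pow_eq_one.mp this
  exfalso
  push Not at hm1
  obtain ⟨j, rfl⟩ : ∃ j, m = j + 2 := ⟨m - 2, by omega⟩
  set M := p ^ j with hM
  have huM : (u ^ M) ^ (p ^ 2) = 1 := by
    rw [← pow_mul, hM, ← pow_add, ← hm]
    exact pow_orderOf_eq_one u
  have hxuM : x * u ^ M = u ^ M * x := hx2 _ (A.pow_mem hu M) huM
  let W : Subgroup P :=
    { carrier := {w | w ∈ A ∧ w ^ M = 1}
      one_mem' := ⟨A.one_mem, one_pow M⟩
      mul_mem' := by
        rintro a b ⟨ha, ha'⟩ ⟨hb, hb'⟩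
        refine ⟨A.mul_mem ha hb, ?_⟩
        have hc : Commute a b := hAab a ha b hb
        rw [hc.mul_pow, ha', hb', one_mul]
      inv_mem' := by
        rintro a ⟨ha, ha'⟩
        exact ⟨A.inv_mem ha, by rw [inv_pow, ha', inv_one]⟩ }
  have hWmem : ∀ w, w ∈ W ↔ w ∈ A ∧ w ^ M = 1 := fun w => Iff.rfl
  have hWA : ∀ w ∈ W, w ∈ A := fun w hw => ((hWmem w).mp hw).1
  have c1 : ∀ w ∈ W, x * w * x⁻¹ ∈ W := by
    intro w hw
    obtain ⟨hwA, hwM⟩ := (hWmem w).mp hw
    refine (hWmem _).mpr ⟨hAn.conj_mem w hwA x, ?_⟩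
    rw [conj_pow, hwM]; group
  have c2 : x * u * x⁻¹ * u⁻¹ ∈ W := by
    refine (hWmem _).mpr ⟨A.mul_mem (hAn.conj_mem u hu x) (A.inv_mem hu), ?_⟩
    have hc : Commute (x * u * x⁻¹) u⁻¹ := hAab _ (hAn.conj_mem u hu x) _ (A.inv_mem hu)
    rw [hc.mul_pow, conj_pow, inv_pow, hxuM]
    group
  have c3 : ∀ k : ℕ, ∃ w ∈ W, x ^ k * u * (x ^ k)⁻¹ = u * w := by
    intro k
    induction k with
    | zero => exact ⟨1, W.one_mem, by simp⟩
    | succ k ih =>
      obtain ⟨w, hw, hk⟩ := ih
      refine ⟨(x * u * x⁻¹ * u⁻¹) * (x * w * x⁻¹), W.mul_mem c2 (c1 w hw), ?_⟩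
      have e1 : x ^ (k + 1) * u * (x ^ (k + 1))⁻¹ = x * (x ^ k * u * (x ^ k)⁻¹) * x⁻¹ := by
        rw [pow_succ']; group
      have hcu : (x * u * x⁻¹ * u⁻¹) * u = u * (x * u * x⁻¹ * u⁻¹) :=
        hAab _ (hWA _ c2) _ hu
      rw [e1, hk]
      calc x * (u * w) * x⁻¹ = ((x * u * x⁻¹ * u⁻¹) * u) * (x * w * x⁻¹) := by group
        _ = (u * (x * u * x⁻¹ * u⁻¹)) * (x * w * x⁻¹) := by rw [hcu]
        _ = u * (x * u * x⁻¹ * u⁻¹ * (x * w * x⁻¹)) := by group
  have c4 : ∀ k : ℕ, ∃ w ∈ W, (u * x) ^ k = u ^ k * w * x ^ k := by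
    intro k
    induction k with
    | zero => exact ⟨1, W.one_mem, by simp⟩
    | succ k ih =>
      obtain ⟨w, hw, hk⟩ := ih
      obtain ⟨w', hw', hk'⟩ := c3 k
      refine ⟨w * w', W.mul_mem hw hw', ?_⟩
      have hcw : w * u = u * w := hAab _ (hWA _ hw) _ hu
      rw [pow_succ, hk]
      calc u ^ k * w * x ^ k * (u * x) = u ^ k * w * (x ^ k * u * (x ^ k)⁻¹) * x ^ (k + 1) := by
            rw [pow_succ]; group
        _ = u ^ k * w * (u * w') * x ^ (k + 1) := by rw [hk']
        _ = u ^ k * (w * u) * w' * x ^ (k + 1) := by group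
        _ = u ^ k * (u * w) * w' * x ^ (k + 1) := by rw [hcw]
        _ = u ^ (k + 1) * (w * w') * x ^ (k + 1) := by rw [pow_succ]; group
  obtain ⟨w, hw, hk⟩ := c4 p
  rw [h, hxp, mul_one] at hk
  have hup : u ^ p = w⁻¹ := by
    rw [eq_inv_iff_mul_eq_one]; exact hk.symm
  have hupM : (u ^ p) ^ M = 1 := by
    rw [hup, inv_pow, ((hWmem w).mp hw).2, inv_one]
  rw [← pow_mul, hM, ← pow_succ'] at hupM
  have hdvd := orderOf_dvd_of_pow_eq_one hupM
  rw [hm] at hdvd
  have := (Nat.pow_dvd_pow_iff_le_right hp1).mp hdvd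
  omega

omit [Finite P] hp in
theorem card_inf_mul_relIndex (H K : Subgroup P) :
    Nat.card ↥(H ⊓ K) * H.relIndex K = Nat.card ↥K := by
  have h1 := Subgroup.relIndex_mul_relIndex (⊥ : Subgroup P) (H ⊓ K) K bot_le inf_le_right
  rw [Subgroup.relIndex_bot_left, Subgroup.relIndex_bot_left, Subgroup.inf_relIndex_right] at h1
  exact h1

/-- the subgroup of elements of `A` (abelian) killed by `n` -/
def torsionOf (A : Subgroup P) (hAab : ∀ x ∈ A, ∀ y ∈ A, x * y = y * x) (n : ℕ) : Subgroup P :=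
  { carrier := {w | w ∈ A ∧ w ^ n = 1}
    one_mem' := ⟨A.one_mem, one_pow n⟩
    mul_mem' := by
      rintro a b ⟨ha, ha'⟩ ⟨hb, hb'⟩
      refine ⟨A.mul_mem ha hb, ?_⟩
      have hc : Commute a b := hAab a ha b hb
      rw [hc.mul_pow, ha', hb', one_mul]
    inv_mem' := by
      rintro a ⟨ha, ha'⟩
      exact ⟨A.inv_mem ha, by rw [inv_pow, ha', inv_one]⟩ }

omit [Finite P] hp in
theorem mem_torsionOf {A : Subgroup P} {hAab : ∀ x ∈ A, ∀ y ∈ A, x * y = y * x} {n : ℕ} {w : P} :
    w ∈ torsionOf A hAab n ↔ w ∈ A ∧ w ^ n = 1 := Iff.rfl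

omit [Finite P] hp in
theorem torsionOf_normal {A : Subgroup P} [hAn : A.Normal]
    {hAab : ∀ x ∈ A, ∀ y ∈ A, x * y = y * x} {n : ℕ} : (torsionOf A hAab n).Normal := by
  constructor
  intro w hw g
  obtain ⟨h1, h2⟩ := mem_torsionOf.mp hw
  refine mem_torsionOf.mpr ⟨hAn.conj_mem w h1 g, ?_⟩
  rw [conj_pow, h2]; group

/-- A finite `p`-group with an elementary abelian subgroup of order at least `p³` has a normal
elementary abelian subgroup of order `p²`. -/
theorem exists_normal_elemAb_sq (hP : IsPGroup p P) (E : Subgroup P)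
    (hE : Cfsg.IsElementaryAbelian p E) (hEc : p ^ 3 ≤ Nat.card ↥E) :
    ∃ U : Subgroup P, U.Normal ∧ Cfsg.IsElementaryAbelian p U ∧ Nat.card ↥U = p ^ 2 := by
  have hp1 : 1 < p := hp.out.one_lt
  by_contra hno
  push Not at hno
  -- normal elementary abelian subgroups have order at most p
  have K1 : ∀ N : Subgroup P, N.Normal → Cfsg.IsElementaryAbelian p N → Nat.card ↥N ≤ p := by
    intro N hNn hN
    by_contra hlt
    push Not at hlt
    have hpg : IsPGroup p ↥N := isPGroup_of_elemAb hN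
    obtain ⟨k, hk⟩ := hpg.exists_card_eq
    have hk2 : 2 ≤ k := by
      by_contra h
      push Not at h
      have : p ^ k ≤ p ^ 1 := Nat.pow_le_pow_right (by omega) (by omega)
      rw [pow_one] at this
      omega
    have hc : p ^ 2 ≤ Nat.card ↥N := by rw [hk]; exact Nat.pow_le_pow_right (by omega) hk2
    obtain ⟨U, hUN, hUn, hUc⟩ := exists_normal_card_sq_le hP N hN hc
    exact hno U hUn (helper3.ea_mono hN hUN) hUc
  obtain ⟨A, hAn, hAab, hCA⟩ := exists_normal_abelian_selfcent hP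
  -- Ω₁(A)
  have hΩn : (torsionOf A hAab p).Normal := torsionOf_normal
  have hΩea : Cfsg.IsElementaryAbelian p (torsionOf A hAab p) := by
    refine ⟨⟨⟨?_⟩⟩, fun a ha => (mem_torsionOf.mp ha).2⟩
    rintro ⟨a, ha⟩ ⟨b, hb⟩
    exact Subtype.ext (hAab a (mem_torsionOf.mp ha).1 b (mem_torsionOf.mp hb).1)
  have hΩc : Nat.card ↥(torsionOf A hAab p) ≤ p := K1 _ hΩn hΩea
  -- A is cyclic
  have hAcyc : IsCyclic ↥A := by
    apply isCyclic_of_card_omega_le (p := p)
    · rintro ⟨a, ha⟩ ⟨b, hb⟩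
      exact Subtype.ext (hAab a ha b hb)
    · exact hP.to_subgroup A
    · refine le_trans ?_ hΩc
      apply Nat.card_le_card_of_injective
        (fun a : {a : ↥A // a ^ p = 1} =>
          (⟨a.1.1, mem_torsionOf.mpr ⟨a.1.2, by
            have := congrArg Subtype.val a.2
            simpa using this⟩⟩ : ↥(torsionOf A hAab p)))
      intro a b hab
      have h := congrArg (fun x : ↥(torsionOf A hAab p) => (x : P)) hab
      dsimp only at h
      exact Subtype.ext (Subtype.ext h)
  -- Ω₂(A)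
  have hBn : (torsionOf A hAab (p ^ 2)).Normal := torsionOf_normal
  have hBA : torsionOf A hAab (p ^ 2) ≤ A := fun x hx => (mem_torsionOf.mp hx).1
  have hBcyc : IsCyclic ↥(torsionOf A hAab (p ^ 2)) :=
    isCyclic_of_injective (Subgroup.inclusion hBA) (Subgroup.inclusion_injective hBA)
  have hBcard : Nat.card ↥(torsionOf A hAab (p ^ 2)) ∣ p ^ 2 := by
    rw [← IsCyclic.exponent_eq_card]
    apply Monoid.exponent_dvd_of_forall_pow_eq_one
    rintro ⟨x, hx⟩
    apply Subtype.ext
    simpa using (mem_torsionOf.mp hx).2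
  have hidx := index_centralizer_dvd_of_card_dvd_sq hP (torsionOf A hAab (p ^ 2)) hBcard
  have hCn : (Subgroup.centralizer ((torsionOf A hAab (p ^ 2) : Subgroup P) : Set P)).Normal :=
    Subgroup.normal_centralizer
  -- E₁ = C_E(Ω₂(A)) has order at least p²
  have hE1 : p ^ 2 ≤ Nat.card ↥(Subgroup.centralizer ((torsionOf A hAab (p ^ 2) : Subgroup P) : Set P) ⊓ E) := by
    have h1 := card_inf_mul_relIndex
      (Subgroup.centralizer ((torsionOf A hAab (p ^ 2) : Subgroup P) : Set P)) E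
    have h2 : (Subgroup.centralizer ((torsionOf A hAab (p ^ 2) : Subgroup P) : Set P)).relIndex E ∣ p :=
      (Subgroup.relIndex_dvd_index_of_normal _ _).trans hidx
    have h3 := Nat.le_of_dvd hp.out.pos h2
    have h4 : p ^ 3 ≤
        Nat.card ↥(Subgroup.centralizer ((torsionOf A hAab (p ^ 2) : Subgroup P) : Set P) ⊓ E) * p := by
      calc p ^ 3 ≤ Nat.card ↥E := hEc
        _ = _ := h1.symm
        _ ≤ _ := Nat.mul_le_mul_left _ h3
    have h5 : p ^ 3 = p ^ 2 * p := by ring
    rw [h5] at h4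
    exact Nat.le_of_mul_le_mul_right h4 hp.out.pos
  -- an element e of E₁ outside A
  obtain ⟨e, he1, heA⟩ : ∃ e ∈ Subgroup.centralizer ((torsionOf A hAab (p ^ 2) : Subgroup P) : Set P) ⊓ E,
      e ∉ A := by
    by_contra hcon
    push Not at hcon
    have hle : Subgroup.centralizer ((torsionOf A hAab (p ^ 2) : Subgroup P) : Set P) ⊓ E ≤
        torsionOf A hAab p := by
      intro x hx
      exact mem_torsionOf.mpr ⟨hcon x hx, hE.2 x hx.2⟩
    have := Subgroup.card_le_of_le hle
    nlinarith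
  have heE : e ∈ E := he1.2
  have hep : e ^ p = 1 := hE.2 e heE
  have he_ne : e ≠ 1 := fun h => heA (h ▸ A.one_mem)
  have heB : ∀ v ∈ A, v ^ (p ^ 2) = 1 → e * v = v * e := by
    intro v hv hv2
    have := Subgroup.mem_centralizer_iff.mp he1.1 v (mem_torsionOf.mpr ⟨hv, hv2⟩)
    exact this.symm
  -- conjugates of e
  have hconj : ∀ g : P, ∃ c ∈ torsionOf A hAab p, g * e * g⁻¹ = c * e := by
    intro g
    have hq := helper21.comm_quotient_centralizer_of_cyclic A hAcyc
      (QuotientGroup.mk g) (QuotientGroup.mk e)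
    have hc : g * e * g⁻¹ * e⁻¹ ∈ Subgroup.centralizer (A : Set P) := by
      have h1 : ((g * e * g⁻¹ * e⁻¹ : P) : P ⧸ Subgroup.centralizer (A : Set P)) = 1 := by
        rw [QuotientGroup.mk_mul, QuotientGroup.mk_mul, QuotientGroup.mk_mul, hq,
          QuotientGroup.mk_inv, QuotientGroup.mk_inv]
        group
      exact (QuotientGroup.eq_one_iff _).mp h1
    have hcA : g * e * g⁻¹ * e⁻¹ ∈ A := hCA hc
    have hpow : (g * e * g⁻¹ * e⁻¹ * e) ^ p = 1 := by
      have : g * e * g⁻¹ * e⁻¹ * e = g * e * g⁻¹ := by group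
      rw [this, conj_pow, hep]; group
    have hcp := pow_prime_eq_one_of_mul_pow hP A hAab e hep heB _ hcA hpow
    exact ⟨g * e * g⁻¹ * e⁻¹, mem_torsionOf.mpr ⟨hcA, hcp⟩, by group⟩
  -- U = Ω₁(A) ⟨e⟩
  have hUmem : ∀ x ∈ torsionOf A hAab p ⊔ Subgroup.zpowers e,
      ∃ a ∈ torsionOf A hAab p, ∃ y ∈ Subgroup.zpowers e, x = a * y := by
    intro x hx
    have h1 : x ∈ ((torsionOf A hAab p ⊔ Subgroup.zpowers e : Subgroup P) : Set P) := hx
    rw [Subgroup.normal_mul] at h1
    obtain ⟨a, ha, y, hy, rfl⟩ := Set.mem_mul.mp h1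
    exact ⟨a, ha, y, hy, rfl⟩
  have hUn : (torsionOf A hAab p ⊔ Subgroup.zpowers e).Normal := by
    constructor
    intro x hx g
    obtain ⟨a, ha, y, hy, rfl⟩ := hUmem x hx
    obtain ⟨i, rfl⟩ := Subgroup.mem_zpowers_iff.mp hy
    obtain ⟨c, hc, hce⟩ := hconj g
    have h3 : g * (a * e ^ i) * g⁻¹ = (g * a * g⁻¹) * (g * e * g⁻¹) ^ i := by
      rw [conj_zpow]; group
    rw [h3, hce]
    refine Subgroup.mul_mem _ ((le_sup_left : torsionOf A hAab p ≤ _) (hΩn.conj_mem a ha g)) ?_
    refine Subgroup.zpow_mem _ ?_ i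
    exact Subgroup.mul_mem _ ((le_sup_left : torsionOf A hAab p ≤ _) hc)
      ((le_sup_right : Subgroup.zpowers e ≤ _) (Subgroup.mem_zpowers e))
  have hUea : Cfsg.IsElementaryAbelian p (torsionOf A hAab p ⊔ Subgroup.zpowers e) := by
    apply helper3.ea_sup hΩea (helper3.ea_zpowers e hep)
    intro a ha b hb
    obtain ⟨i, rfl⟩ := Subgroup.mem_zpowers_iff.mp hb
    obtain ⟨haA, hap⟩ := mem_torsionOf.mp ha
    have h1 : e * a = a * e := heB a haA (by rw [pow_two, pow_mul, hap, one_pow])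
    have h2 : Commute a e := h1.symm
    exact (h2.zpow_right i).eq
  have hUc := K1 _ hUn hUea
  -- but U is strictly larger than Ω₁(A), which is nontrivial
  have hΩne : torsionOf A hAab p ≠ ⊥ := by
    intro hbot
    have hAne : A ≠ ⊥ := by
      intro h
      apply heA
      apply hCA
      rw [h, Subgroup.mem_centralizer_iff]
      intro x hx
      have : x = 1 := Subgroup.mem_bot.mp hx
      rw [this]; simp
    obtain ⟨k, hk⟩ := (hP.to_subgroup A).exists_card_eq
    have hk0 : k ≠ 0 := by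
      intro h
      rw [h, pow_zero] at hk
      exact hAne (Subgroup.card_eq_one.mp hk)
    have hdvd : p ∣ Nat.card ↥A := by rw [hk]; exact dvd_pow_self p hk0
    obtain ⟨x, hx⟩ := exists_prime_orderOf_dvd_card' p hdvd
    have hx1 : (x : P) ∈ torsionOf A hAab p := by
      refine mem_torsionOf.mpr ⟨x.2, ?_⟩
      have h1 : x ^ p = 1 := by rw [← hx]; exact pow_orderOf_eq_one x
      have := congrArg Subtype.val h1
      simpa using this
    rw [hbot, Subgroup.mem_bot] at hx1
    have hx2 : x = 1 := Subtype.ext hx1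
    rw [hx2, orderOf_one] at hx
    omega
  have hlt : torsionOf A hAab p < torsionOf A hAab p ⊔ Subgroup.zpowers e := by
    refine lt_of_le_of_ne le_sup_left ?_
    intro h
    apply heA
    have : e ∈ torsionOf A hAab p := by
      rw [h]; exact (le_sup_right : Subgroup.zpowers e ≤ _) (Subgroup.mem_zpowers e)
    exact (mem_torsionOf.mp this).1
  have hclt : Nat.card ↥(torsionOf A hAab p) <
      Nat.card ↥(torsionOf A hAab p ⊔ Subgroup.zpowers e) := by
    by_contra hge
    push Not at hge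
    exact hlt.ne (Subgroup.eq_of_le_of_card_ge hlt.le hge)
  obtain ⟨a, ha⟩ := (hP.to_subgroup (torsionOf A hAab p)).exists_card_eq
  have ha0 : a ≠ 0 := by
    intro h
    rw [h, pow_zero] at ha
    exact hΩne (Subgroup.card_eq_one.mp ha)
  have : p ≤ Nat.card ↥(torsionOf A hAab p) := by
    rw [ha]
    calc p = p ^ 1 := (pow_one p).symm
      _ ≤ p ^ a := Nat.pow_le_pow_right (by omega) (by omega)
  omega

end NormalE2

end Cfsg.Agent.helper7
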