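import Mathlib
import Cfsg.Prelude.Def_Balance
import Cfsg.Agent.Lib_helper7_NormalE2
import Cfsg.Agent.Lib_helper7_Fitting

/-! `p`-rank of centralizers and the commuting graph of a `p`-group (helper7). -/

set_option autoImplicit false

namespace Cfsg.Agent.helper7

section RankConn

variable {P : Type*} [Group P] [Finite P] {p : ℕ} [hp : Fact p.Prime]

/-- an elementary abelian subgroup of order greater than `p²` has order at least `p³` -/
theorem cube_le_card_of_sq_lt {E : Subgroup P} (hE : Cfsg.IsElementaryAbelian p E)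
    (h : p ^ 2 < Nat.card ↥E) : p ^ 3 ≤ Nat.card ↥E := by
  have hp1 : 1 < p := hp.out.one_lt
  obtain ⟨k, hk⟩ := (isPGroup_of_elemAb hE).exists_card_eq
  rw [hk] at h ⊢
  have : 2 < k := (Nat.pow_lt_pow_iff_right hp1).mp h
  exact Nat.pow_le_pow_right (by omega) this

omit [Finite P] hp in
theorem exists_of_not_pRankLE {G : Type*} [Group G] {k : ℕ} (h : ¬ Cfsg.PRankLE p k G) :
    ∃ E : Subgroup G, Cfsg.IsElementaryAbelian p E ∧ p ^ k < Nat.card ↥E := by
  unfold Cfsg.PRankLE at h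
  push Not at h
  obtain ⟨E, h1, h2, h3⟩ := h
  exact ⟨E, ⟨h1, h2⟩, h3⟩

omit [Finite P] hp in
theorem not_pRankLE_of {G : Type*} [Group G] {k : ℕ} (E : Subgroup G)
    (hE : Cfsg.IsElementaryAbelian p E) (h : p ^ k < Nat.card ↥E) : ¬ Cfsg.PRankLE p k G := by
  intro hle
  have := hle E hE.1 hE.2
  omega

omit [Finite P] hp in
theorem not_pRankLE_subgroup_of {k : ℕ} (C E : Subgroup P)
    (hE : Cfsg.IsElementaryAbelian p E) (hle : E ≤ C) (h : p ^ k < Nat.card ↥E) :
    ¬ Cfsg.PRankLE p k ↥C := by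
  apply not_pRankLE_of (E.subgroupOf C)
  · refine ⟨⟨⟨?_⟩⟩, ?_⟩
    · rintro ⟨a, ha⟩ ⟨b, hb⟩
      apply Subtype.ext
      apply Subtype.ext
      exact helper3.ea_comm hE (Subgroup.mem_subgroupOf.mp ha) (Subgroup.mem_subgroupOf.mp hb)
    · intro a ha
      apply Subtype.ext
      have := hE.2 (a : P) (Subgroup.mem_subgroupOf.mp ha)
      simpa using this
  · rw [Nat.card_congr (Subgroup.subgroupOfEquivOfLe hle).toEquiv]
    exact h

omit [Finite P] hp in
theorem exists_of_not_pRankLE_subgroup {k : ℕ} (C : Subgroup P) (h : ¬ Cfsg.PRankLE p k ↥C) :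
    ∃ E : Subgroup P, Cfsg.IsElementaryAbelian p E ∧ E ≤ C ∧ p ^ k < Nat.card ↥E := by
  obtain ⟨E', hE', hc⟩ := exists_of_not_pRankLE h
  refine ⟨E'.map C.subtype, ⟨⟨⟨?_⟩⟩, ?_⟩, ?_, ?_⟩
  · rintro ⟨a, ha⟩ ⟨b, hb⟩
    obtain ⟨a', ha', rfl⟩ := ha
    obtain ⟨b', hb', rfl⟩ := hb
    apply Subtype.ext
    have := helper3.ea_comm hE' ha' hb'
    show (C.subtype a' : P) * C.subtype b' = C.subtype b' * C.subtype a'
    rw [← map_mul, ← map_mul, this]
  · rintro a ⟨a', ha', rfl⟩
    rw [← map_pow, hE'.2 a' ha', map_one]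
  · rintro a ⟨a', _, rfl⟩
    exact a'.2
  · rw [card_map_subtype]
    exact hc

/-- In a `p`-group, a normal subgroup of order `p²` is centralized by a subgroup of index at
most `p` of any subgroup. -/
theorem sq_le_card_inf_centralizer (hP : IsPGroup p P) (U : Subgroup P) [hUn : U.Normal]
    (hUc : Nat.card ↥U = p ^ 2) (E : Subgroup P) (hEc : p ^ 3 ≤ Nat.card ↥E) :
    p ^ 2 ≤ Nat.card ↥(Subgroup.centralizer (U : Set P) ⊓ E) := by
  have hidx := index_centralizer_dvd_of_card_dvd_sq hP U (by rw [hUc])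
  have hCn : (Subgroup.centralizer (U : Set P)).Normal := Subgroup.normal_centralizer
  have h1 := card_inf_mul_relIndex (Subgroup.centralizer (U : Set P)) E
  have h2 : (Subgroup.centralizer (U : Set P)).relIndex E ∣ p :=
    (Subgroup.relIndex_dvd_index_of_normal _ _).trans hidx
  have h3 := Nat.le_of_dvd hp.out.pos h2
  have h4 : p ^ 3 ≤ Nat.card ↥(Subgroup.centralizer (U : Set P) ⊓ E) * p := by
    calc p ^ 3 ≤ Nat.card ↥E := hEc
      _ = _ := h1.symm
      _ ≤ _ := Nat.mul_le_mul_left _ h3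
  have h5 : p ^ 3 = p ^ 2 * p := by ring
  rw [h5] at h4
  exact Nat.le_of_mul_le_mul_right h4 hp.out.pos

omit [Finite P] hp in
theorem elemAb_le_centralizer {X : Subgroup P} (hX : Cfsg.IsElementaryAbelian p X) :
    X ≤ Subgroup.centralizer (X : Set P) := by
  intro a ha
  rw [Subgroup.mem_centralizer_iff]
  intro b hb
  exact helper3.ea_comm hX hb ha

/-- The centralizer of a normal elementary abelian subgroup of order `p²` in a `p`-group of rank at
least 3 has rank at least 3. -/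
theorem not_pRankLE_centralizer_normal (hP : IsPGroup p P) (hrk : ¬ Cfsg.PRankLE p 2 P)
    (U : Subgroup P) [hUn : U.Normal] (hU : Cfsg.IsElementaryAbelian p U)
    (hUc : Nat.card ↥U = p ^ 2) : ¬ Cfsg.PRankLE p 2 ↥(Subgroup.centralizer (U : Set P)) := by
  have hp1 : 1 < p := hp.out.one_lt
  obtain ⟨E, hE, hEc⟩ := exists_of_not_pRankLE hrk
  have hEc3 := cube_le_card_of_sq_lt hE hEc
  have hF := sq_le_card_inf_centralizer hP U hUc E hEc3
  have hFea : Cfsg.IsElementaryAbelian p (Subgroup.centralizer (U : Set P) ⊓ E) :=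
    helper3.ea_mono hE inf_le_right
  have hcomm : ∀ a ∈ Subgroup.centralizer (U : Set P) ⊓ E, ∀ b ∈ U, a * b = b * a := by
    intro a ha b hb
    exact (Subgroup.mem_centralizer_iff.mp ha.1 b hb).symm
  have hFU : Cfsg.IsElementaryAbelian p ((Subgroup.centralizer (U : Set P) ⊓ E) ⊔ U) :=
    helper3.ea_sup hFea hU hcomm
  have hle : (Subgroup.centralizer (U : Set P) ⊓ E) ⊔ U ≤ Subgroup.centralizer (U : Set P) :=
    sup_le inf_le_left (elemAb_le_centralizer hU)
  apply not_pRankLE_subgroup_of _ _ hFU hle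
  by_contra hcon
  push Not at hcon
  have e1 : Subgroup.centralizer (U : Set P) ⊓ E = (Subgroup.centralizer (U : Set P) ⊓ E) ⊔ U :=
    Subgroup.eq_of_le_of_card_ge le_sup_left (hcon.trans hF)
  have e2 : U = (Subgroup.centralizer (U : Set P) ⊓ E) ⊔ U :=
    Subgroup.eq_of_le_of_card_ge le_sup_right (by rw [hUc]; exact hcon)
  have hUE : U ≤ E := by
    rw [e2, ← e1]; exact inf_le_right
  have hEC : E ≤ Subgroup.centralizer (U : Set P) := by
    intro a ha
    rw [Subgroup.mem_centralizer_iff]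
    intro b hb
    exact helper3.ea_comm hE (hUE hb) ha
  have e3 : Subgroup.centralizer (U : Set P) ⊓ E = E := inf_eq_right.mpr hEC
  rw [← e1, e3] at hcon
  have : p ^ 2 < p ^ 3 := Nat.pow_lt_pow_right hp1 (by omega)
  omega

/-- The connectivity criterion. -/
theorem reach_iff_not_pRankLE (hP : IsPGroup p P) (hrk : ¬ Cfsg.PRankLE p 2 P)
    (U : Subgroup P) [hUn : U.Normal] (hU : Cfsg.IsElementaryAbelian p U)
    (hUc : Nat.card ↥U = p ^ 2) (X : Subgroup P) (hX : Cfsg.IsElementaryAbelian p X)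
    (hXc : p ^ 2 ≤ Nat.card ↥X) :
    Relation.ReflTransGen (fun A B : Subgroup P => Cfsg.IsElementaryAbelian p A ∧
      p ^ 2 ≤ Nat.card ↥A ∧ Cfsg.IsElementaryAbelian p B ∧ p ^ 2 ≤ Nat.card ↥B ∧
      ∀ a ∈ A, ∀ b ∈ B, a * b = b * a) X U ↔
    ¬ Cfsg.PRankLE p 2 ↥(Subgroup.centralizer (X : Set P)) := by
  constructor
  · intro h
    refine Relation.ReflTransGen.head_induction_on
      (motive := fun (X : Subgroup P) _ => ¬ Cfsg.PRankLE p 2 ↥(Subgroup.centralizer (X : Set P))) h ?_ ?_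
    · exact not_pRankLE_centralizer_normal hP hrk U hU hUc
    · intro A B h' _ ih
      obtain ⟨hA, hAc, hB, hBc, hAB⟩ := h'
      have hABea : Cfsg.IsElementaryAbelian p (A ⊔ B) := helper3.ea_sup hA hB hAB
      have hle : A ⊔ B ≤ Subgroup.centralizer (A : Set P) := by
        apply sup_le (elemAb_le_centralizer hA)
        intro b hb
        rw [Subgroup.mem_centralizer_iff]
        intro a ha
        exact hAB a ha b hb
      by_cases hc : p ^ 2 < Nat.card ↥(A ⊔ B)
      · exact not_pRankLE_subgroup_of _ _ hABea hle hc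
      · push Not at hc
        have e1 : A = A ⊔ B := Subgroup.eq_of_le_of_card_ge le_sup_left (hc.trans hAc)
        have e2 : B = A ⊔ B := Subgroup.eq_of_le_of_card_ge le_sup_right (hc.trans hBc)
        have : A = B := e1.trans e2.symm
        rw [this]
        exact ih
  · intro h
    obtain ⟨E, hE, hEC, hEc⟩ := exists_of_not_pRankLE_subgroup _ h
    have hcomm : ∀ a ∈ X, ∀ b ∈ E, a * b = b * a := by
      intro a ha b hb
      exact Subgroup.mem_centralizer_iff.mp (hEC hb) a ha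
    have hXE : Cfsg.IsElementaryAbelian p (X ⊔ E) := helper3.ea_sup hX hE hcomm
    have hXEc : p ^ 2 < Nat.card ↥(X ⊔ E) :=
      lt_of_lt_of_le hEc (Subgroup.card_le_of_le le_sup_right)
    have hXEc3 := cube_le_card_of_sq_lt hXE hXEc
    have hF := sq_le_card_inf_centralizer hP U hUc (X ⊔ E) hXEc3
    have hFea : Cfsg.IsElementaryAbelian p (Subgroup.centralizer (U : Set P) ⊓ (X ⊔ E)) :=
      helper3.ea_mono hXE inf_le_right
    refine Relation.ReflTransGen.head (b := X ⊔ E) ?_
      (Relation.ReflTransGen.head (b := Subgroup.centralizer (U : Set P) ⊓ (X ⊔ E)) ?_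
        (Relation.ReflTransGen.single ?_))
    · refine ⟨hX, hXc, hXE, hXEc.le, ?_⟩
      intro a ha b hb
      exact helper3.ea_comm hXE ((le_sup_left : X ≤ X ⊔ E) ha) hb
    · refine ⟨hXE, hXEc.le, hFea, hF, ?_⟩
      intro a ha b hb
      exact helper3.ea_comm hXE ha hb.2
    · refine ⟨hFea, hF, hU, hUc.ge, ?_⟩
      intro a ha b hb
      exact (Subgroup.mem_centralizer_iff.mp ha.1 b hb).symm

end RankConn

end Cfsg.Agent.helper7
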