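import Mathlib
import Cfsg.Agent.Lib_helper15_BL17
import Cfsg.Agent.Lib_helper25_Sylow
import Cfsg.Agent.S1337

set_option autoImplicit false
set_option linter.style.haveILetI false
set_option linter.unusedSectionVars false
set_option maxHeartbeats 3200000

/-! B&G Theorem 9.3. -/

namespace Cfsg.Agent.helper15.BL

open Cfsg.Agent.helper7 Cfsg.Agent.helper15
open scoped commutatorElement

universe u

variable {G : Type u} [Group G] [Finite G]

theorem isCoatom_cj (g : G) {M : Subgroup G} (hM : IsCoatom M) : IsCoatom (cj g M) :=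
  (OrderIso.isCoatom_iff (MulAut.conj g).mapSubgroup M).2 hM

theorem inUniqueMaximal_cj (g : G) {X : Subgroup G} (h : Cfsg.InUniqueMaximal X) :
    Cfsg.InUniqueMaximal (cj g X) := by
  obtain ⟨M, ⟨hM, hXM⟩, huniq⟩ := h
  refine ⟨cj g M, ⟨isCoatom_cj g hM, cj_mono hXM⟩, ?_⟩
  rintro M' ⟨hM', hXM'⟩
  have h1 : cj g⁻¹ M' = M := by
    apply huniq
    refine ⟨isCoatom_cj g⁻¹ hM', ?_⟩
    have := cj_mono (g := g⁻¹) hXM'
    rwa [cj_inv_cj] at this
  rw [← h1, cj_cj_inv]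

theorem not_rankLE_one_of_elab {p : ℕ} [hp : Fact p.Prime] (K : Subgroup G)
    (hKe : Cfsg.IsElementaryAbelian p K) (hc : p ^ 2 ≤ Nat.card K) : ¬ Cfsg.RankLE 1 ↥K := by
  intro h
  have h1 := h p hp.out (⊤ : Subgroup ↥K) (by
    refine ⟨⟨fun a b => ?_⟩⟩
    apply Subtype.ext
    apply Subtype.ext
    show (((a : ↥K)) : G) * ((b : ↥K) : G) = ((b : ↥K) : G) * ((a : ↥K) : G)
    exact congrArg Subtype.val (hKe.1.is_comm.comm (a : ↥K) (b : ↥K))) (by
    intro a _
    apply Subtype.ext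
    rw [Subgroup.coe_pow]
    exact hKe.2 _ a.2)
  rw [Subgroup.card_top, pow_one] at h1
  have h2 : p < p ^ 2 := by
    calc p = p ^ 1 := (pow_one p).symm
      _ < p ^ 2 := Nat.pow_lt_pow_right hp.out.one_lt (by norm_num)
  omega

/-- One step along a commuting chain. -/
theorem unique_step (hG : Cfsg.IsMinSimpleOddOrder G) {p : ℕ} [hp : Fact p.Prime]
    (S : Subgroup G) (T₁ T₂ : Subgroup ↥S)
    (h2e : Cfsg.IsElementaryAbelian p T₂) (h2c : p ^ 2 ≤ Nat.card T₂)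
    (hcomm : ∀ a ∈ T₁, ∀ b ∈ T₂, a * b = b * a)
    (h : Cfsg.InUniqueMaximal (T₁.map S.subtype)) :
    Cfsg.InUniqueMaximal (T₂.map S.subtype) := by
  apply thm92 hG (T₁.map S.subtype) (T₂.map S.subtype) h
  · rintro _ ⟨b, hb, rfl⟩
    refine Subgroup.mem_centralizer_iff.2 ?_
    rintro _ ⟨a, ha, rfl⟩
    exact congrArg Subtype.val (hcomm a ha b hb)
  · apply not_rankLE_one_of_elab (p := p)
    · refine ⟨by haveI := h2e.1; exact Subgroup.map_isMulCommutative _ _, ?_⟩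
      rintro _ ⟨a, ha, rfl⟩
      rw [← map_pow, h2e.2 a ha, map_one]
    · rw [Subgroup.card_map_of_injective (Subgroup.subtype_injective _)]
      exact h2c

theorem unique_chain (hG : Cfsg.IsMinSimpleOddOrder G) {p : ℕ} [hp : Fact p.Prime]
    (S : Subgroup G) (X U : Subgroup ↥S)
    (h : Relation.ReflTransGen (fun A B : Subgroup ↥S => Cfsg.IsElementaryAbelian p A ∧
      p ^ 2 ≤ Nat.card ↥A ∧ Cfsg.IsElementaryAbelian p B ∧ p ^ 2 ≤ Nat.card ↥B ∧
      ∀ a ∈ A, ∀ b ∈ B, a * b = b * a) X U) :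
    Cfsg.InUniqueMaximal (X.map S.subtype) ↔ Cfsg.InUniqueMaximal (U.map S.subtype) := by
  induction h with
  | refl => exact Iff.rfl
  | tail _ hbc ih =>
    refine ih.trans ⟨?_, ?_⟩
    · exact unique_step hG S _ _ hbc.2.2.1 hbc.2.2.2.1 hbc.2.2.2.2
    · exact unique_step hG S _ _ hbc.1 hbc.2.1 (fun a ha b hb => (hbc.2.2.2.2 b hb a ha).symm)

/-- Elementary abelian subgroups of order at least `p ^ 3` of a `p`-group `S` containing one in
`𝓤` are in `𝓤`. -/
theorem unique_of_rank3_in_sylow (hG : Cfsg.IsMinSimpleOddOrder G) {p : ℕ} [hp : Fact p.Prime]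
    (S : Subgroup G) (hS : IsPGroup p S) (A₀ X : Subgroup G) (hA₀S : A₀ ≤ S) (hXS : X ≤ S)
    (hA₀e : Cfsg.IsElementaryAbelian p A₀) (hA₀3 : p ^ 2 < Nat.card A₀)
    (hXe : Cfsg.IsElementaryAbelian p X) (hX3 : p ^ 2 < Nat.card X)
    (hA₀U : Cfsg.InUniqueMaximal A₀) : Cfsg.InUniqueMaximal X := by
  have key : ∀ Y : Subgroup G, Y ≤ S → Cfsg.IsElementaryAbelian p Y → p ^ 2 < Nat.card Y →
      Cfsg.IsElementaryAbelian p (Y.subgroupOf S) ∧ p ^ 2 < Nat.card (Y.subgroupOf S) ∧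
      ¬ Cfsg.PRankLE p 2 ↥(Subgroup.centralizer ((Y.subgroupOf S : Subgroup ↥S) : Set ↥S)) := by
    intro Y hYS hYe hY3
    have hcard : Nat.card (Y.subgroupOf S) = Nat.card Y :=
      Nat.card_congr (Subgroup.subgroupOfEquivOfLe hYS).toEquiv
    have hYcomm : ∀ a ∈ Y.subgroupOf S, ∀ b ∈ Y.subgroupOf S, a * b = b * a := by
      intro a ha b hb
      apply Subtype.ext
      have ha' : (a : G) ∈ Y := ha
      have hb' : (b : G) ∈ Y := hb
      have h5 : (⟨(a : G), ha'⟩ : ↥Y) * ⟨(b : G), hb'⟩ = ⟨(b : G), hb'⟩ * ⟨(a : G), ha'⟩ :=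
        hYe.1.is_comm.comm _ _
      have h6 := congrArg Subtype.val h5
      exact h6
    have he : Cfsg.IsElementaryAbelian p (Y.subgroupOf S) := by
      refine ⟨⟨⟨fun a b => Subtype.ext (hYcomm a a.2 b b.2)⟩⟩, ?_⟩
      intro a ha
      apply Subtype.ext
      rw [Subgroup.coe_pow]
      exact hYe.2 _ ha
    refine ⟨he, by rw [hcard]; exact hY3, ?_⟩
    intro hr
    have hle : Y.subgroupOf S ≤
        Subgroup.centralizer ((Y.subgroupOf S : Subgroup ↥S) : Set ↥S) := by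
      intro a ha
      refine Subgroup.mem_centralizer_iff.2 ?_
      intro b hb
      exact hYcomm b hb a ha
    have h1 := hr ((Y.subgroupOf S).subgroupOf _) (by
      refine ⟨⟨fun a b => ?_⟩⟩
      apply Subtype.ext
      apply Subtype.ext
      have h7 := hYcomm _ a.2 _ b.2
      exact h7) (by
      intro a ha
      apply Subtype.ext
      rw [Subgroup.coe_pow]
      exact he.2 _ ha)
    rw [Nat.card_congr (Subgroup.subgroupOfEquivOfLe hle).toEquiv, hcard] at h1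
    omega
  obtain ⟨hAe', hA3', hAr⟩ := key A₀ hA₀S hA₀e hA₀3
  obtain ⟨hXe', hX3', hXr⟩ := key X hXS hXe hX3
  have hrS : ¬ Cfsg.PRankLE p 2 ↥S := by
    intro h
    have := h (A₀.subgroupOf S) hAe'.1 hAe'.2
    omega
  obtain ⟨U, -, -, -, hU⟩ := Cfsg.Agent.S1337.result p hS hrS
  have hcA := (hU _ hAe' hA3'.le).2 hAr
  have hcX := (hU _ hXe' hX3'.le).2 hXr
  have h1 := unique_chain hG S _ U hcA
  have h2 := unique_chain hG S _ U hcX
  rw [Subgroup.map_subgroupOf_eq_of_le hA₀S] at h1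
  rw [Subgroup.map_subgroupOf_eq_of_le hXS] at h2
  exact h2.2 (h1.1 hA₀U)

end Cfsg.Agent.helper15.BL
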