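import Mathlib
import Cfsg.Agent.Lib_helper15_BL18

set_option autoImplicit false
set_option linter.style.haveILetI false
set_option linter.unusedSectionVars false
set_option maxHeartbeats 3200000

/-! B&G Theorem 9.3 and 9.4. -/

namespace Cfsg.Agent.helper15.BL

open Cfsg.Agent.helper7 Cfsg.Agent.helper15
open scoped commutatorElement

universe u

variable {G : Type u} [Group G] [Finite G]

theorem elab_map {X Y : Type*} [Group X] [Group Y] {p : ℕ} (f : X →* Y) {E : Subgroup X}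
    (hE : Cfsg.IsElementaryAbelian p E) : Cfsg.IsElementaryAbelian p (E.map f) := by
  refine ⟨by haveI := hE.1; exact Subgroup.map_isMulCommutative _ _, ?_⟩
  rintro _ ⟨a, ha, rfl⟩
  rw [← map_pow, hE.2 a ha, map_one]

/-- Extract an elementary abelian subgroup of order `> p ^ 2` from a rank hypothesis. -/
theorem exists_elab_of_not_pRankLE {p : ℕ} (K : Subgroup G) (h : ¬ Cfsg.PRankLE p 2 ↥K) :
    ∃ E : Subgroup G, E ≤ K ∧ Cfsg.IsElementaryAbelian p E ∧ p ^ 2 < Nat.card E := by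
  unfold Cfsg.PRankLE at h
  push_neg at h
  obtain ⟨E, hE1, hE2, hE3⟩ := h
  refine ⟨E.map K.subtype, Subgroup.map_subtype_le _, elab_map K.subtype ⟨hE1, hE2⟩, ?_⟩
  rw [Subgroup.card_map_of_injective (Subgroup.subtype_injective _)]
  exact hE3

theorem odd_prime_of_dvd (hG : Cfsg.IsMinSimpleOddOrder G) {p : ℕ} (hpG : p ∣ Nat.card G) :
    p ≠ 2 := by
  intro h
  rw [h] at hpG
  exact (Nat.not_even_iff_odd.2 hG.1) (even_iff_two_dvd.2 hpG)

theorem not_rankLE_one_of_noncyclic (hG : Cfsg.IsMinSimpleOddOrder G) {p : ℕ} [hp : Fact p.Prime]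
    (B : Subgroup G) (hBp : IsPGroup p B) (hBnc : ¬ IsCyclic B) : ¬ Cfsg.RankLE 1 ↥B := by
  have hBne : B ≠ ⊥ := by
    intro h0
    apply hBnc
    rw [h0]
    exact isCyclic_of_subsingleton
  have hpG : p ∣ Nat.card G :=
    (prime_dvd_card_of_isPGroup_ne_bot B hBp hBne).trans (Subgroup.card_subgroup_dvd_card _)
  have hp2 := odd_prime_of_dvd hG hpG
  obtain ⟨A₂, -, hA₂e, hA₂c⟩ := Cfsg.Agent.S0126.result hp2 hBp hBnc
  intro h
  have h1 := h p hp.out A₂ hA₂e.1 hA₂e.2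
  rw [hA₂c, pow_one] at h1
  have h2 : p < p ^ 2 := by
    calc p = p ^ 1 := (pow_one p).symm
      _ < p ^ 2 := Nat.pow_lt_pow_right hp.out.one_lt (by norm_num)
  omega

/-- B&G Theorem 9.3. -/
theorem thm93 (hG : Cfsg.IsMinSimpleOddOrder G) (p : ℕ) [hp : Fact p.Prime] (A B : Subgroup G)
    (hAp : IsPGroup p A) (hAc : IsMulCommutative A) (hA3 : ¬ Cfsg.PRankLE p 2 ↥A)
    (hAU : Cfsg.InUniqueMaximal A) (hBp : IsPGroup p B) (hBnc : ¬ IsCyclic B)
    (hB3 : ¬ Cfsg.PRankLE p 2 ↥(Subgroup.centralizer (B : Set G))) :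
    Cfsg.InUniqueMaximal B := by
  obtain ⟨A₀, hA₀A, hA₀e, hA₀3⟩ := exists_elab_of_not_pRankLE A hA3
  have hAab : A ≤ Subgroup.centralizer (A : Set G) := by
    intro x hx
    refine Subgroup.mem_centralizer_iff.2 ?_
    intro y hy
    exact congrArg Subtype.val (hAc.is_comm.comm (⟨y, hy⟩ : ↥A) ⟨x, hx⟩)
  have hA₀U : Cfsg.InUniqueMaximal A₀ :=
    thm92 hG A A₀ hAU (hA₀A.trans hAab) (not_rankLE_one_of_elab A₀ hA₀e hA₀3.le)
  obtain ⟨X, hXC, hXe, hX3⟩ := exists_elab_of_not_pRankLE _ hB3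
  have hA₀p : IsPGroup p A₀ := isPGroup_of_exponent A₀ hA₀e.2
  have hXp : IsPGroup p X := isPGroup_of_exponent X hXe.2
  have hXN : X ≤ Subgroup.normalizer (B : Set G) :=
    hXC.trans (Subgroup.centralizer_le_normalizer _)
  have hXB : IsPGroup p ↥(X ⊔ B) := IsPGroup.to_sup_of_normal_right' hXp hBp hXN
  obtain ⟨S, hS⟩ := hA₀p.exists_le_sylow
  obtain ⟨g, hg⟩ := Cfsg.Agent.helper25.exists_cj_le_sylow S hXB
  have hX₁S : cj g X ≤ S := (cj_mono (g := g) (le_sup_left : X ≤ X ⊔ B)).trans hg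
  have hX₁U : Cfsg.InUniqueMaximal (cj g X) :=
    unique_of_rank3_in_sylow hG S S.isPGroup' A₀ (cj g X) hS hX₁S hA₀e hA₀3
      (elab_map _ hXe) (by rw [card_cj]; exact hX3) hA₀U
  have hXU : Cfsg.InUniqueMaximal X := by
    have := inUniqueMaximal_cj g⁻¹ hX₁U
    rwa [cj_inv_cj] at this
  exact thm92 hG X B hXU (Subgroup.le_centralizer_iff.1 hXC)
    (not_rankLE_one_of_noncyclic hG B hBp hBnc)

end Cfsg.Agent.helper15.BL
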