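import Mathlib
import Cfsg.Agent.Lib_helper15_BL19

set_option autoImplicit false
set_option linter.style.haveILetI false
set_option linter.unusedSectionVars false
set_option maxHeartbeats 3200000

/-! B&G Theorem 9.4. -/

namespace Cfsg.Agent.helper15.BL

open Cfsg.Agent.helper7 Cfsg.Agent.helper15
open scoped commutatorElement

universe u

variable {G : Type u} [Group G] [Finite G]

theorem not_pRankLE_of_elab {q : ℕ} (K E : Subgroup G) (hEK : E ≤ K)
    (hEe : Cfsg.IsElementaryAbelian q E) (hE3 : q ^ 2 < Nat.card E) :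
    ¬ Cfsg.PRankLE q 2 ↥K := by
  intro h
  have h1 := h (E.subgroupOf K) (by
    refine ⟨⟨fun a b => ?_⟩⟩
    apply Subtype.ext
    apply Subtype.ext
    have ha' : ((a : ↥K) : G) ∈ E := a.2
    have hb' : ((b : ↥K) : G) ∈ E := b.2
    have h5 : (⟨_, ha'⟩ : ↥E) * ⟨_, hb'⟩ = ⟨_, hb'⟩ * ⟨_, ha'⟩ := hEe.1.is_comm.comm _ _
    have h6 := congrArg Subtype.val h5
    exact h6) (by
    intro a ha
    apply Subtype.ext
    rw [Subgroup.coe_pow]
    exact hEe.2 _ ha)
  rw [Nat.card_congr (Subgroup.subgroupOfEquivOfLe hEK).toEquiv] at h1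
  omega

/-- An abelian `q`-subgroup of rank at least `3` in `𝓤`, when `F(H)` has `q`-rank at least `3`. -/
theorem exists_unique_abelian_rank3 (hG : Cfsg.IsMinSimpleOddOrder G) (H : Subgroup G)
    (hH : IsCoatom H) (q : ℕ) [hqf : Fact q.Prime] (hrq : ¬ Cfsg.PRankLE q 2 ↥(fitOf H)) :
    ∃ A : Subgroup G, IsPGroup q A ∧ IsMulCommutative A ∧ ¬ Cfsg.PRankLE q 2 ↥A ∧
      Cfsg.InUniqueMaximal A := by
  have hq := hqf.out
  obtain ⟨E₀, hE₀F, hE₀e, hE₀lt⟩ := exists_elab_of_not_pRankLE _ hrq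
  have hE₀p : IsPGroup q E₀ := isPGroup_of_exponent E₀ hE₀e.2
  have hE₀3 : q ^ 3 ≤ Nat.card E₀ := by
    obtain ⟨k, hk⟩ := hE₀p.exists_card_eq
    rw [hk] at hE₀lt
    have h2 : 2 < k := (Nat.pow_lt_pow_iff_right hq.one_lt).1 hE₀lt
    rw [hk]
    exact Nat.pow_le_pow_right hq.pos h2
  have hE₀ne : E₀ ≠ ⊥ := by
    intro h
    rw [h, Subgroup.card_bot] at hE₀3
    have h2 : 1 < q ^ 3 := Nat.one_lt_pow (by norm_num) hq.one_lt
    omega
  have hqG : q ∣ Nat.card G :=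
    (prime_dvd_card_of_isPGroup_ne_bot E₀ hE₀p hE₀ne).trans (Subgroup.card_subgroup_dvd_card _)
  have hq2 : q ≠ 2 := odd_prime_of_dvd hG hqG
  by_cases hF : IsPGroup q ↥(fitOf H)
  · obtain ⟨P⟩ : Nonempty (Sylow q ↥H) := inferInstance
    have hb := part_b hG H hH q E₀ hE₀F hE₀e hE₀3 hF P
    obtain ⟨P₀, hP₀def⟩ : ∃ P₀ : Subgroup G, P₀ = (P : Subgroup H).map H.subtype := ⟨_, rfl⟩
    rw [← hP₀def] at hb
    have hP₀ : SylIn q H P₀ := hP₀def ▸ sylIn_map H P
    have hFP : fitOf H ≤ P₀ := normal_pgroup_le_sylIn hP₀ (fitOf_le H) hF (fitOf_normal H)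
    have hP₀p : IsPGroup q ↥P₀ := sylIn_isPGroup hP₀
    have hE₀P : E₀ ≤ P₀ := hE₀F.trans hFP
    have hrP : ¬ Cfsg.PRankLE q 2 ↥P₀ := not_pRankLE_of_elab P₀ E₀ hE₀P hE₀e hE₀lt
    have hncP : ¬ IsCyclic ↥P₀ := by
      intro hc
      have hsube : ∀ a ∈ E₀.subgroupOf P₀, a ^ q = 1 := by
        intro a ha
        apply Subtype.ext
        rw [Subgroup.coe_pow]
        exact hE₀e.2 _ ha
      have h1 := card_le_of_cyclic_exponent hc q hq.pos (E₀.subgroupOf P₀) hsube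
      rw [Nat.card_congr (Subgroup.subgroupOfEquivOfLe hE₀P).toEquiv] at h1
      have h2 : q < q ^ 3 := by
        calc q = q ^ 1 := (pow_one q).symm
          _ < q ^ 3 := Nat.pow_lt_pow_right hq.one_lt (by norm_num)
      omega
    obtain ⟨E2, hE2n, hE2e, hE2c⟩ := Cfsg.Agent.S0126.result hq2 hP₀p hncP
    haveI := hE2n
    obtain ⟨A', -, hA'n, hA'c, hA'r⟩ :=
      Cfsg.Agent.S1452.result q hq2 hP₀p hrP E2 hE2e hE2c
    have hSCN : Cfsg.IsSCN P₀ (A'.map P₀.subtype) := by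
      refine ⟨Subgroup.map_subtype_le _, ?_, ?_⟩
      · apply le_normalizer_map_subtype P₀ le_rfl
        rw [Subgroup.normalizer_eq_top_iff.2 hA'n]
        exact le_top
      · ext x
        constructor
        · rintro ⟨hxP, hxC⟩
          have h1 : (⟨x, hxP⟩ : ↥P₀) ∈ Subgroup.centralizer (A' : Set ↥P₀) := by
            refine Subgroup.mem_centralizer_iff.2 ?_
            intro a ha
            apply Subtype.ext
            exact Subgroup.mem_centralizer_iff.1 hxC (a : G) ⟨a, ha, rfl⟩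
          rw [hA'c] at h1
          exact ⟨⟨x, hxP⟩, h1, rfl⟩
        · rintro ⟨a, ha, rfl⟩
          refine ⟨a.2, ?_⟩
          refine Subgroup.mem_centralizer_iff.2 ?_
          rintro _ ⟨b, hb', rfl⟩
          have ha' : a ∈ Subgroup.centralizer (A' : Set ↥P₀) := by rw [hA'c]; exact ha
          exact congrArg Subtype.val (Subgroup.mem_centralizer_iff.1 ha' b hb')
    have hAr : ¬ Cfsg.PRankLE q 2 ↥(A'.map P₀.subtype) := by
      intro h
      apply hA'r
      exact pRankLE_of_injective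
        (A'.equivMapOfInjective P₀.subtype (Subgroup.subtype_injective _)).toMonoidHom
        (A'.equivMapOfInjective P₀.subtype (Subgroup.subtype_injective _)).injective h
    have hAab := scn_abelian hSCN
    refine ⟨A'.map P₀.subtype, hP₀p.to_le hSCN.1, ?_, hAr, (hb.2 _ hSCN hAr).2⟩
    refine ⟨⟨fun a b => ?_⟩⟩
    apply Subtype.ext
    exact Subgroup.mem_centralizer_iff.1 (hAab b.2) _ a.2
  · have hD := part_a hG H hH q E₀ hE₀F hE₀e hE₀3 hF
    refine ⟨E₀, hE₀p, hE₀e.1, ?_, ?_⟩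
    · exact not_pRankLE_of_elab E₀ E₀ le_rfl hE₀e hE₀lt
    · apply thm92 hG _ E₀ hD
      · rw [Subgroup.le_centralizer_iff]
        exact inf_le_right
      · exact not_rankLE_one_of_elab E₀ hE₀e hE₀lt.le

/-- B&G Theorem 9.4. -/
theorem thm94 (hG : Cfsg.IsMinSimpleOddOrder G) (M : Subgroup G) (hM : IsCoatom M) (p : ℕ)
    [hp : Fact p.Prime] (hF : ¬ Cfsg.PRankLE p 2 ↥(fitOf M))
    (A : Subgroup G) (hAp : IsPGroup p A) (hAc : IsMulCommutative A)
    (hA3 : ¬ Cfsg.PRankLE p 2 ↥A) : Cfsg.InUniqueMaximal A := by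
  obtain ⟨A₁, hA₁p, hA₁c, hA₁3, hA₁U⟩ := exists_unique_abelian_rank3 hG M hM p hF
  have hAab : A ≤ Subgroup.centralizer (A : Set G) := by
    intro x hx
    refine Subgroup.mem_centralizer_iff.2 ?_
    intro y hy
    exact congrArg Subtype.val (hAc.is_comm.comm (⟨y, hy⟩ : ↥A) ⟨x, hx⟩)
  apply thm93 hG p A₁ A hA₁p hA₁c hA₁3 hA₁U hAp
  · intro hc
    unfold Cfsg.PRankLE at hA3
    push_neg at hA3
    obtain ⟨E, -, hE2, hE3⟩ := hA3
    have h1 := card_le_of_cyclic_exponent hc p hp.out.pos E hE2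
    have h2 : p < p ^ 2 := by
      calc p = p ^ 1 := (pow_one p).symm
        _ < p ^ 2 := Nat.pow_lt_pow_right hp.out.one_lt (by norm_num)
    omega
  · intro h
    exact hA3 (pRankLE_of_injective (Subgroup.inclusion hAab)
      (Subgroup.inclusion_injective hAab) h)

end Cfsg.Agent.helper15.BL
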