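import Mathlib

set_option autoImplicit false
set_option linter.unusedSectionVars false
set_option linter.style.haveILetI false

/-!
The Baer trick: a group of odd order and class at most two carries a commutative group structure
with the same automorphisms.  Application: a generalized `A × B` lemma for odd primes.
-/

namespace Cfsg.Agent.helper15.Baer

open scoped commutatorElement

section alg

variable {U : Type*} [Group U]

/-- All commutators are central. -/
def Cl2 (U : Type*) [Group U] : Prop := ∀ a b : U, ⁅a, b⁆ ∈ Subgroup.center U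

theorem cmm {z : U} (hz : z ∈ Subgroup.center U) (g : U) : g * z = z * g :=
  Subgroup.mem_center_iff.mp hz g

theorem comm_mul_left (hc : Cl2 U) (x y z : U) : ⁅x * y, z⁆ = ⁅x, z⁆ * ⁅y, z⁆ := by
  have hb := cmm (hc y z)
  have h : ⁅x * y, z⁆ = x * ⁅y, z⁆ * x⁻¹ * ⁅x, z⁆ := by
    simp only [commutatorElement_def]; group
  rw [h, hb x, mul_inv_cancel_right, hb]

theorem comm_mul_right (hc : Cl2 U) (z x y : U) : ⁅z, x * y⁆ = ⁅z, x⁆ * ⁅z, y⁆ := by
  have h := cmm (hc z y)
  have h1 : ⁅z, x * y⁆ = ⁅z, x⁆ * (x * ⁅z, y⁆ * x⁻¹) := by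
    simp only [commutatorElement_def]; group
  rw [h1, h x, mul_inv_cancel_right]

theorem comm_central_right {c : U} (hcc : c ∈ Subgroup.center U) (y : U) : ⁅y, c⁆ = 1 :=
  commutatorElement_eq_one_iff_mul_comm.mpr (cmm hcc y)

theorem comm_central_left {c : U} (hcc : c ∈ Subgroup.center U) (y : U) : ⁅c, y⁆ = 1 :=
  commutatorElement_eq_one_iff_mul_comm.mpr (cmm hcc y).symm

/-- The half commutator. -/
def hf (m : ℕ) (x y : U) : U := ⁅y, x⁆ ^ m

theorem hf_central (hc : Cl2 U) (m : ℕ) (x y : U) : hf m x y ∈ Subgroup.center U :=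
  Subgroup.pow_mem _ (hc y x) m

theorem hf_swap (m : ℕ) (x y : U) : hf m y x = (hf m x y)⁻¹ := by
  unfold hf
  rw [← commutatorElement_inv y x, inv_pow]

theorem hf_mul_left (hc : Cl2 U) (m : ℕ) (x x' y : U) :
    hf m (x * x') y = hf m x y * hf m x' y := by
  unfold hf
  rw [comm_mul_right hc]
  have hcm : Commute ⁅y, x⁆ ⁅y, x'⁆ := cmm (hc y x') ⁅y, x⁆
  exact hcm.mul_pow m

theorem hf_mul_right (hc : Cl2 U) (m : ℕ) (x y y' : U) :
    hf m x (y * y') = hf m x y * hf m x y' := by
  unfold hf
  rw [comm_mul_left hc]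
  have hcm : Commute ⁅y, x⁆ ⁅y', x⁆ := cmm (hc y' x) ⁅y, x⁆
  exact hcm.mul_pow m

theorem hf_central_left (hc : Cl2 U) (m : ℕ) {c : U} (hcc : c ∈ Subgroup.center U) (x y : U) :
    hf m (x * c) y = hf m x y := by
  rw [hf_mul_left hc]
  unfold hf
  rw [comm_central_right hcc, one_pow, mul_one]

theorem hf_central_right (hc : Cl2 U) (m : ℕ) {c : U} (hcc : c ∈ Subgroup.center U) (x y : U) :
    hf m x (y * c) = hf m x y := by
  rw [hf_mul_right hc]
  unfold hf
  rw [comm_central_left hcc, one_pow, mul_one]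

/-- The Baer multiplication. -/
def bmul (m : ℕ) (x y : U) : U := x * y * hf m x y

theorem bmul_comm (hc : Cl2 U) (m : ℕ) (hm : ∀ a b : U, ⁅a, b⁆ ^ (2 * m) = ⁅a, b⁆) (x y : U) :
    bmul m x y = bmul m y x := by
  unfold bmul
  rw [hf_swap m x y]
  have hz := cmm (hf_central hc m x y)
  have hsq : hf m x y * hf m x y = ⁅y, x⁆ := by
    unfold hf
    rw [← pow_add, ← two_mul, hm]
  have hyx : y * x = ⁅y, x⁆ * (x * y) := by rw [commutatorElement_def]; group
  generalize hf m x y = z at hz hsq
  rw [eq_mul_inv_iff_mul_eq, hyx, ← hsq, mul_assoc]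
  rw [← mul_assoc, hz (x * y), mul_assoc z, hz (x * y), ← mul_assoc]

theorem bmul_assoc (hc : Cl2 U) (m : ℕ) (x y z : U) :
    bmul m (bmul m x y) z = bmul m x (bmul m y z) := by
  unfold bmul
  rw [hf_central_left hc m (hf_central hc m x y), hf_mul_left hc,
    hf_central_right hc m (hf_central hc m y z), hf_mul_right hc]
  have ha := cmm (hf_central hc m x y)
  have hcc := cmm (hf_central hc m y z)
  generalize hf m x y = a at ha
  generalize hf m x z = b
  generalize hf m y z = c at hcc
  calc x * y * a * z * (b * c) = x * y * (a * z) * (b * c) := by simp only [mul_assoc]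
    _ = x * y * (z * a) * (b * c) := by rw [ha z]
    _ = x * y * z * (a * b * c) := by simp only [mul_assoc]
    _ = x * y * z * (c * (a * b)) := by rw [hcc (a * b)]
    _ = x * (y * z * c) * (a * b) := by simp only [mul_assoc]

theorem bmul_one_left (m : ℕ) (x : U) : bmul m 1 x = x := by
  unfold bmul hf
  rw [commutatorElement_one_right, one_pow, one_mul, mul_one]

theorem bmul_one_right (m : ℕ) (x : U) : bmul m x 1 = x := by
  unfold bmul hf
  rw [commutatorElement_one_left, one_pow, mul_one, mul_one]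

theorem bmul_inv_left (m : ℕ) (x : U) : bmul m x⁻¹ x = 1 := by
  unfold bmul hf
  have : ⁅x, x⁻¹⁆ = 1 := by rw [commutatorElement_def]; group
  rw [this, one_pow, inv_mul_cancel, mul_one]

theorem bmul_map {V : Type*} [Group V] (f : U →* V) (m : ℕ) (x y : U) :
    f (bmul m x y) = bmul m (f x) (f y) := by
  unfold bmul hf
  rw [map_mul, map_mul, map_pow, map_commutatorElement]

end alg

/-- Type synonym carrying the Baer group structure. -/
def Br (U : Type*) : Type _ := U

section br

variable {U : Type*} [Group U]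

/-- The Baer commutative group. -/
@[reducible] def brGroup (m : ℕ) (hc : Cl2 U) (hm : ∀ a b : U, ⁅a, b⁆ ^ (2 * m) = ⁅a, b⁆) :
    CommGroup (Br U) where
  mul := fun x y => @bmul U _ m x y
  one := (1 : U)
  inv := fun x => @Inv.inv U _ x
  mul_assoc := fun x y z => @bmul_assoc U _ hc m x y z
  one_mul := fun x => @bmul_one_left U _ m x
  mul_one := fun x => @bmul_one_right U _ m x
  inv_mul_cancel := fun x => @bmul_inv_left U _ m x
  mul_comm := fun x y => @bmul_comm U _ hc m hm x y

end br

end Cfsg.Agent.helper15.Baer
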