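import Mathlib
import Cfsg.Agent.Lib_helper15_Baer

set_option autoImplicit false
set_option linter.unusedSectionVars false
set_option linter.style.haveILetI false

/-!
Core of the generalized `A × B` lemma for odd primes (via the Baer trick).
-/

namespace Cfsg.Agent.helper15.Baer

open scoped commutatorElement

section core

variable {U H : Type*} [Group U] [Finite U] [Group H]

/-- Let `U` be a `p`-group of odd order and class at most two, acted on by `H`.  Let `R` be a
`p'`-subgroup of `H` normalized by a `p`-subgroup `B`.  If every `B`-fixed point of `U` is fixed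
by `R`, then `R` acts trivially on `U`. -/
theorem gab_core {p : ℕ} [hp : Fact p.Prime] (hU : IsPGroup p U) (hodd : Odd (Nat.card U))
    (hc : Cl2 U) (ρ : H →* MulAut U) (R B : Subgroup H) [Finite R]
    (hR : (Nat.card R).Coprime p) (hB : IsPGroup p B)
    (hBR : B ≤ Subgroup.normalizer (R : Set H))
    (hfix : ∀ u : U, (∀ b ∈ B, ρ b u = u) → ∀ k ∈ R, ρ k u = u) :
    ∀ k ∈ R, ∀ u : U, ρ k u = u := by
  classical
  obtain ⟨n, hn⟩ := hodd
  have hm : ∀ a b : U, ⁅a, b⁆ ^ (2 * (n + 1)) = ⁅a, b⁆ := by
    intro a b
    have : 2 * (n + 1) = Nat.card U + 1 := by omega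
    rw [this, pow_succ, pow_card_eq_one', one_mul]
  letI inst : CommGroup (Br U) := brGroup (n + 1) hc hm
  haveI : Fintype R := Fintype.ofFinite R
  haveI hfinBr : Finite (Br U) := (inferInstance : Finite U)
  have hcardBr : Nat.card (Br U) = Nat.card U := rfl
  -- the action on `Br U`
  let actHom : H → (Br U →* Br U) := fun h =>
    { toFun := fun x => ρ h x
      map_one' := map_one (ρ h)
      map_mul' := fun x y => bmul_map (ρ h).toMonoidHom (n + 1) x y }
  have act_comp : ∀ (h h' : H) (x : Br U), actHom (h * h') x = actHom h (actHom h' x) := by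
    intro h h' x
    show ρ (h * h') x = ρ h (ρ h' x)
    rw [map_mul]; rfl
  have act_one : ∀ x : Br U, actHom 1 x = x := by
    intro x
    show ρ 1 x = x
    rw [map_one]; rfl
  let e : Br U →* Br U :=
    { toFun := fun x => ∏ k : R, actHom (k : H) x
      map_one' := by
        simp only [map_one]
        exact Finset.prod_const_one
      map_mul' := fun x y => by
        simp only [map_mul]
        exact Finset.prod_mul_distrib }
  have he_apply : ∀ x : Br U, e x = ∏ k : R, actHom (k : H) x := fun _ => rfl
  -- equivariance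
  have hequiv : ∀ b ∈ B, ∀ x : Br U, e (actHom b x) = actHom b (e x) := by
    intro b hb x
    rw [he_apply, he_apply, map_prod]
    have hbn := hBR hb
    let σ : R ≃ R :=
      { toFun := fun k => ⟨b * k * b⁻¹, (Subgroup.mem_normalizer_iff.mp hbn k).mp k.2⟩
        invFun := fun k => ⟨b⁻¹ * k * b, by
          have := (Subgroup.mem_normalizer_iff.mp (Subgroup.inv_mem _ hbn) k).mp k.2
          simpa using this⟩
        left_inv := fun k => by apply Subtype.ext; simp [mul_assoc]
        right_inv := fun k => by apply Subtype.ext; simp [mul_assoc] }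
    symm
    apply Fintype.prod_equiv σ
    intro k
    have hk : b * (k : H) = ((σ k : R) : H) * b := by
      show b * (k : H) = b * (k : H) * b⁻¹ * b
      group
    rw [← act_comp, ← act_comp, hk]
  -- the kernel
  by_cases hT : e.ker = ⊥
  · -- `e` injective
    intro k₀ hk₀ u
    have hinj : Function.Injective e := (MonoidHom.ker_eq_bot_iff e).mp hT
    have h1 : e (actHom k₀ u) = e u := by
      show ∏ k : R, actHom (k : H) (actHom k₀ u) = ∏ k : R, actHom (k : H) u
      apply Fintype.prod_equiv (Equiv.mulRight (⟨k₀, hk₀⟩ : R))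
      intro k
      exact (act_comp (k : H) k₀ u).symm
    exact hinj h1
  · exfalso
    have hBrp : IsPGroup p (Br U) := by
      obtain ⟨j, hj⟩ := hU.exists_card_eq
      exact IsPGroup.of_card (n := j) (hcardBr.trans hj)
    have hTp : IsPGroup p e.ker := hBrp.to_subgroup _
    -- the action of `B` on the kernel
    letI actB : MulAction B e.ker :=
      { smul := fun b t => ⟨actHom (b : H) t.1, by
          rw [MonoidHom.mem_ker, hequiv b b.2, (MonoidHom.mem_ker).mp t.2, map_one]⟩
        one_smul := fun t => Subtype.ext (act_one t.1)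
        mul_smul := fun b b' t => Subtype.ext (act_comp b b' t.1) }
    have hsmul : ∀ (b : B) (t : e.ker), ((b • t : e.ker) : Br U) = actHom (b : H) t.1 :=
      fun _ _ => rfl
    have hdvd : p ∣ Nat.card e.ker := by
      obtain ⟨j, hj⟩ := hTp.exists_card_eq
      rw [hj]
      have hj0 : j ≠ 0 := by
        intro h0
        rw [h0, pow_zero] at hj
        exact hT (Subgroup.card_eq_one.mp hj)
      exact dvd_pow_self p hj0
    have hone : (1 : e.ker) ∈ MulAction.fixedPoints B e.ker := by
      intro b
      apply Subtype.ext
      rw [hsmul]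
      exact map_one _
    obtain ⟨t, ht, hne⟩ := hB.exists_fixed_point_of_prime_dvd_card_of_fixed_point e.ker hdvd hone
    apply hne
    have hfixB : ∀ b ∈ B, ρ b (t.1 : U) = (t.1 : U) := by
      intro b hb
      have := congrArg Subtype.val (ht ⟨b, hb⟩)
      exact this
    have hfixR := hfix t.1 hfixB
    have het : e t.1 = t.1 ^ Fintype.card R := by
      rw [he_apply]
      have : ∀ k : R, actHom (k : H) t.1 = t.1 := fun k => hfixR k k.2
      rw [Finset.prod_congr rfl (fun k _ => this k), Finset.prod_const, Finset.card_univ]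
    have hker : t.1 ^ Fintype.card R = 1 := by
      rw [← het]; exact (MonoidHom.mem_ker).mp t.2
    have ho1 : orderOf t.1 ∣ Fintype.card R := orderOf_dvd_of_pow_eq_one hker
    have ho2 : orderOf t.1 ∣ Nat.card (Br U) := orderOf_dvd_natCard _
    obtain ⟨j, hj⟩ := hBrp.exists_card_eq
    rw [hj] at ho2
    have hcop : (Fintype.card R).Coprime (p ^ j) := by
      rw [← Nat.card_eq_fintype_card]
      exact Nat.Coprime.pow_right j hR
    have ho3 : orderOf t.1 = 1 := Nat.eq_one_of_dvd_coprimes hcop ho1 ho2
    have ht1 : t.1 = 1 := orderOf_eq_one_iff.mp ho3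
    exact (Subtype.ext ht1).symm

end core

end Cfsg.Agent.helper15.Baer
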