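import Cfsg.Agent.Lib_helper15_CD

set_option autoImplicit false

namespace Cfsg.Agent.helper15

open Pointwise

variable {G : Type*} [Group G]

theorem cdMeasure_le_map_equiv [Finite G] (φ : G ≃* G) (H : Subgroup G) :
    cdMeasure H ≤ cdMeasure (H.map φ.toMonoidHom) := by
  unfold cdMeasure
  have h1 : Nat.card ↥(H.map φ.toMonoidHom) = Nat.card ↥H :=
    Subgroup.card_map_of_injective φ.injective
  have h2 : (Subgroup.centralizer (H : Set G)).map φ.toMonoidHom
      ≤ Subgroup.centralizer ((H.map φ.toMonoidHom : Subgroup G) : Set G) := by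
    have := Subgroup.map_centralizer_le_centralizer_image (H : Set G) φ.toMonoidHom
    rw [Subgroup.coe_map]
    exact this
  have h3 : Nat.card ↥((Subgroup.centralizer (H : Set G)).map φ.toMonoidHom)
      = Nat.card ↥(Subgroup.centralizer (H : Set G)) :=
    Subgroup.card_map_of_injective φ.injective
  rw [h1]
  exact Nat.mul_le_mul_left _ (h3 ▸ Subgroup.card_le_of_le h2)

theorem cdMeasure_map_equiv [Finite G] (φ : G ≃* G) (H : Subgroup G) :
    cdMeasure (H.map φ.toMonoidHom) = cdMeasure H := by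
  apply le_antisymm _ (cdMeasure_le_map_equiv φ H)
  have := cdMeasure_le_map_equiv φ.symm (H.map φ.toMonoidHom)
  have e : (H.map φ.toMonoidHom).map φ.symm.toMonoidHom = H := by
    ext x
    simp [Subgroup.mem_map]
  rw [e] at this
  exact this

theorem IsCDMax.map_equiv [Finite G] {H : Subgroup G} (hH : IsCDMax H) (φ : G ≃* G) :
    IsCDMax (H.map φ.toMonoidHom) :=
  hH.of_measure_eq (cdMeasure_map_equiv φ H)

theorem cdMeasure_bot [Finite G] : cdMeasure (⊥ : Subgroup G) = Nat.card G := by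
  unfold cdMeasure
  have h : Subgroup.centralizer (((⊥ : Subgroup G) : Subgroup G) : Set G) = ⊤ := by
    rw [Subgroup.centralizer_eq_top_iff_subset]
    intro x hx
    have : x = 1 := by simpa using hx
    rw [this]
    exact (Subgroup.center G).one_mem
  rw [h]
  simp

theorem cdMeasure_top [Finite G] :
    cdMeasure (⊤ : Subgroup G) = Nat.card G * Nat.card ↥(Subgroup.center G) := by
  unfold cdMeasure
  rw [Subgroup.coe_top, Subgroup.centralizer_univ]
  simp

/-- If `G = H * H^g` as sets then `H = G`. -/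
theorem eq_top_of_mul_conj_eq_univ (H : Subgroup G) (g : G)
    (h : (H : Set G) * ((H.map (MulAut.conj g).toMonoidHom : Subgroup G) : Set G) = Set.univ) :
    H = ⊤ := by
  have hg : g ∈ H := by
    have : g⁻¹ ∈ (H : Set G) * ((H.map (MulAut.conj g).toMonoidHom : Subgroup G) : Set G) := by
      rw [h]; exact Set.mem_univ _
    obtain ⟨h₁, hh₁, y, ⟨h₂, hh₂, rfl⟩, he⟩ := Set.mem_mul.1 this
    have e : g = h₁⁻¹ * h₂⁻¹ := by
      have he' : h₁ * (g * h₂ * g⁻¹) = g⁻¹ := he
      have : h₁ * g * h₂ = 1 := by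
        calc h₁ * g * h₂ = h₁ * (g * h₂ * g⁻¹) * g := by group
          _ = g⁻¹ * g := by rw [he']
          _ = 1 := by group
      calc g = h₁⁻¹ * (h₁ * g * h₂) * h₂⁻¹ := by group
        _ = h₁⁻¹ * h₂⁻¹ := by rw [this]; group
    rw [e]
    exact H.mul_mem (H.inv_mem hh₁) (H.inv_mem hh₂)
  rw [eq_top_iff]
  intro x _
  have : x ∈ (H : Set G) * ((H.map (MulAut.conj g).toMonoidHom : Subgroup G) : Set G) := by
    rw [h]; exact Set.mem_univ _
  obtain ⟨h₁, hh₁, y, ⟨h₂, hh₂, rfl⟩, rfl⟩ := Set.mem_mul.1 this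
  exact H.mul_mem hh₁ (H.mul_mem (H.mul_mem hg hh₂) (H.inv_mem hg))

end Cfsg.Agent.helper15
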