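import Cfsg.Agent.Lib_helper15_CD

set_option autoImplicit false

namespace Cfsg.Agent.helper15

open Pointwise

variable {G : Type*} [Group G]

/-- For two subgroups of largest Chermak–Delgado measure the product formula is tight. -/
theorem IsCDMax.card_mul_card_eq [Finite G] {H K : Subgroup G} (hH : IsCDMax H) (hK : IsCDMax K) :
    Nat.card ↥H * Nat.card ↥K = Nat.card ↥(H ⊔ K) * Nat.card ↥(H ⊓ K) := by
  obtain ⟨hs, hi, -, -, -⟩ := hH.sup_inf hK
  have hs_eq : cdMeasure (H ⊔ K) = cdMeasure H := hs.measure_eq hH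
  have hi_eq : cdMeasure (H ⊓ K) = cdMeasure H := hi.measure_eq hH
  have hM := hH.measure_eq hK
  have h1 := card_mul_card_le_sup_inf H K
  have h2 := card_mul_card_le_sup_inf (Subgroup.centralizer (H : Set G))
    (Subgroup.centralizer (K : Set G))
  have h3 : Nat.card ↥(Subgroup.centralizer (H : Set G) ⊔ Subgroup.centralizer (K : Set G))
      ≤ Nat.card ↥(Subgroup.centralizer ((H ⊓ K : Subgroup G) : Set G)) :=
    Subgroup.card_le_of_le (centralizer_sup_le_centralizer_inf H K)
  have htot : cdMeasure (H ⊔ K) * cdMeasure (H ⊓ K) = cdMeasure H * cdMeasure K := by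
    rw [hs_eq, hi_eq, ← hM]
  unfold cdMeasure at htot
  rw [centralizer_sup_eq] at htot
  set a := Nat.card ↥H
  set b := Nat.card ↥K
  set c := Nat.card ↥(Subgroup.centralizer (H : Set G))
  set d := Nat.card ↥(Subgroup.centralizer (K : Set G))
  set s := Nat.card ↥(H ⊔ K)
  set i := Nat.card ↥(H ⊓ K)
  set cs := Nat.card ↥(Subgroup.centralizer (H : Set G) ⊔ Subgroup.centralizer (K : Set G))
  set ci := Nat.card ↥(Subgroup.centralizer (H : Set G) ⊓ Subgroup.centralizer (K : Set G))
  set ch := Nat.card ↥(Subgroup.centralizer ((H ⊓ K : Subgroup G) : Set G))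
  have hcs : 0 < cs := Nat.card_pos
  have hci : 0 < ci := Nat.card_pos
  apply le_antisymm h1
  by_contra hlt
  push Not at hlt
  have hx : (a * b) * (c * d) < (s * i) * (cs * ci) :=
    Nat.mul_lt_mul_of_lt_of_le hlt h2 (Nat.mul_pos hcs hci)
  have hy : (s * i) * (cs * ci) ≤ (s * i) * (ch * ci) := by gcongr
  have hz : (s * i) * (ch * ci) = (a * b) * (c * d) := by
    calc (s * i) * (ch * ci) = s * ci * (i * ch) := by ring
      _ = a * c * (b * d) := htot
      _ = _ := by ring
  omega

end Cfsg.Agent.helper15
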