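import Cfsg.Agent.Lib_helper15_CD
import Cfsg.Prelude.Def_BaumannBlocks

set_option autoImplicit false

namespace Cfsg.Agent.helper15

open Pointwise

variable {G : Type*} [Group G]

theorem maxCentralizerProduct_spec [Finite G] :
    (∃ R : Subgroup G, cdMeasure R = Cfsg.maxCentralizerProduct G) ∧
      ∀ K : Subgroup G, cdMeasure K ≤ Cfsg.maxCentralizerProduct G := by
  set T : Set ℕ := {k : ℕ | ∃ R : Subgroup G,
    Nat.card ↥R * Nat.card ↥(Subgroup.centralizer (R : Set G)) = k} with hTdef
  have hT : T = Set.range (fun R : Subgroup G => cdMeasure R) := by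
    ext k
    simp [hTdef, cdMeasure]
  have hfin : T.Finite := hT ▸ Set.finite_range _
  have hne : T.Nonempty := ⟨_, ⊥, rfl⟩
  have hmem : sSup T ∈ T := Nat.sSup_mem hne hfin.bddAbove
  exact ⟨hmem, fun K => le_csSup hfin.bddAbove ⟨K, rfl⟩⟩

theorem isCentralizerLarge_iff_isCDMax [Finite G] (R : Subgroup G) :
    Cfsg.IsCentralizerLarge R ↔ IsCDMax R := by
  obtain ⟨⟨R₀, hR₀⟩, hle⟩ := maxCentralizerProduct_spec (G := G)
  constructor
  · intro h K
    have h' : cdMeasure R = Cfsg.maxCentralizerProduct G := h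
    rw [h']
    exact hle K
  · intro h
    have h1 := h R₀
    have h2 := hle R
    show cdMeasure R = Cfsg.maxCentralizerProduct G
    omega

end Cfsg.Agent.helper15
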