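import Cfsg.Agent.Lib_helper15_CL
import Cfsg.Prelude.Def_PLocal

set_option autoImplicit false

namespace Cfsg.Agent.helper15

open Pointwise

variable {G : Type*} [Group G]

/-- The join of two commuting abelian subgroups is abelian (centralizer form). -/
theorem sup_le_centralizer_sup {H K : Subgroup G} (hH : H ≤ Subgroup.centralizer (H : Set G))
    (hK : K ≤ Subgroup.centralizer (K : Set G)) (hHK : K ≤ Subgroup.centralizer (H : Set G)) :
    H ⊔ K ≤ Subgroup.centralizer ((H ⊔ K : Subgroup G) : Set G) := by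
  rw [centralizer_sup_eq]
  exact sup_le (le_inf hH (Subgroup.le_centralizer_iff.1 hHK)) (le_inf hHK hK)

theorem mem_maxAbelian_le_centralizer {A : Subgroup G} (hA : A ∈ Cfsg.maxAbelianSubgroups G) :
    A ≤ Subgroup.centralizer (A : Set G) :=
  Subgroup.le_centralizer_iff_isMulCommutative.2 hA.1

/-- A largest abelian subgroup is self-centralizing. -/
theorem centralizer_eq_of_mem_maxAbelian [Finite G] {A : Subgroup G}
    (hA : A ∈ Cfsg.maxAbelianSubgroups G) : Subgroup.centralizer (A : Set G) = A := by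
  have hAab := mem_maxAbelian_le_centralizer hA
  apply le_antisymm _ hAab
  intro x hx
  have hxab : Subgroup.zpowers x ≤ Subgroup.centralizer ((Subgroup.zpowers x : Subgroup G) : Set G) :=
    Subgroup.le_centralizer_iff_isMulCommutative.2 inferInstance
  have hxA : Subgroup.zpowers x ≤ Subgroup.centralizer (A : Set G) := Subgroup.zpowers_le.2 hx
  have hsup := sup_le_centralizer_sup hAab hxab hxA
  have hcard := hA.2 (A ⊔ Subgroup.zpowers x) (Subgroup.le_centralizer_iff_isMulCommutative.1 hsup)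
  have heq : A = A ⊔ Subgroup.zpowers x := Subgroup.eq_of_le_of_card_ge le_sup_left hcard
  rw [heq]
  exact (le_sup_right : Subgroup.zpowers x ≤ A ⊔ Subgroup.zpowers x) (Subgroup.mem_zpowers x)

theorem exists_mem_maxAbelian [Finite G] : ∃ A : Subgroup G, A ∈ Cfsg.maxAbelianSubgroups G := by
  have hfin : {A : Subgroup G | IsMulCommutative A}.Finite := Set.toFinite _
  have hne : {A : Subgroup G | IsMulCommutative A}.Nonempty :=
    ⟨⊥, Subgroup.le_centralizer_iff_isMulCommutative.1 bot_le⟩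
  obtain ⟨A, hA, hmax⟩ := Set.exists_max_image _ (fun A : Subgroup G => Nat.card ↥A) hfin hne
  exact ⟨A, hA, fun B hB => hmax B hB⟩

/-- Glauberman: for `Q` centrally large and `A` a largest abelian subgroup, `Q A` is centrally
large; all the tight equalities are recorded. -/
theorem IsCLMax.sup_maxAbelian [Finite G] {Q A : Subgroup G} (hQ : IsCLMax Q)
    (hA : A ∈ Cfsg.maxAbelianSubgroups G) :
    IsCLMax (Q ⊔ A) ∧ ((Q ⊔ A : Subgroup G) : Set G) = (Q : Set G) * (A : Set G) ∧
    ((Q ⊓ A) ⊔ (Q ⊓ Subgroup.centralizer (Q : Set G))) ∈ Cfsg.maxAbelianSubgroups G ∧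
    (((Q ⊓ A) ⊔ (Q ⊓ Subgroup.centralizer (Q : Set G)) : Subgroup G) : Set G)
      = ((Q ⊓ A : Subgroup G) : Set G) * ((Q ⊓ Subgroup.centralizer (Q : Set G) : Subgroup G) : Set G) := by
  have hAab := mem_maxAbelian_le_centralizer hA
  set Z : Subgroup G := Q ⊓ Subgroup.centralizer (Q : Set G) with hZ
  set D : Subgroup G := Q ⊓ A with hD
  have hZQ : Z ≤ Q := inf_le_left
  have hZC : Z ≤ Subgroup.centralizer (Q : Set G) := inf_le_right
  have hDQ : D ≤ Q := inf_le_left
  have hDA : D ≤ A := inf_le_right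
  have hCQD : Subgroup.centralizer (Q : Set G) ≤ Subgroup.centralizer (D : Set G) :=
    Subgroup.centralizer_le (SetLike.coe_subset_coe.2 hDQ)
  have hCAD : Subgroup.centralizer (A : Set G) ≤ Subgroup.centralizer (D : Set G) :=
    Subgroup.centralizer_le (SetLike.coe_subset_coe.2 hDA)
  have hCQZ : Subgroup.centralizer (Q : Set G) ≤ Subgroup.centralizer (Z : Set G) :=
    Subgroup.centralizer_le (SetLike.coe_subset_coe.2 hZQ)
  have hDab : D ≤ Subgroup.centralizer (D : Set G) := hDA.trans (hAab.trans hCAD)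
  have hZab : Z ≤ Subgroup.centralizer (Z : Set G) := hZC.trans hCQZ
  have hZD : Z ≤ Subgroup.centralizer (D : Set G) := hZC.trans hCQD
  have hDZab := sup_le_centralizer_sup hDab hZab hZD
  have hDZcomm : IsMulCommutative ↥(D ⊔ Z) := Subgroup.le_centralizer_iff_isMulCommutative.1 hDZab
  have ht_le : Nat.card ↥(D ⊔ Z) ≤ Nat.card ↥A := hA.2 (D ⊔ Z) hDZcomm
  have i1 := card_mul_card_le_sup_inf Q A
  have i2 := card_mul_card_le_sup_inf D Z
  have i3 : D ⊓ Z ≤ (Q ⊔ A) ⊓ Subgroup.centralizer ((Q ⊔ A : Subgroup G) : Set G) := by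
    apply le_inf ((inf_le_left.trans hDQ).trans le_sup_left)
    rw [centralizer_sup_eq]
    exact le_inf (inf_le_right.trans hZC) (inf_le_left.trans (hDA.trans hAab))
  have i3' := Subgroup.card_le_of_le i3
  have hmaxle := hQ (Q ⊔ A)
  unfold clMeasure at hmaxle
  rw [← hZ] at hmaxle
  rw [← hD] at i1
  set s := Nat.card ↥(Q ⊔ A)
  set q := Nat.card ↥Q
  set a := Nat.card ↥A
  set d := Nat.card ↥D
  set z := Nat.card ↥Z
  set e := Nat.card ↥(D ⊓ Z)
  set t := Nat.card ↥(D ⊔ Z)
  set c := Nat.card ↥((Q ⊔ A) ⊓ Subgroup.centralizer ((Q ⊔ A : Subgroup G) : Set G))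
  have hs : 0 < s := Nat.card_pos
  have hq : 0 < q := Nat.card_pos
  have ha : 0 < a := Nat.card_pos
  have hd : 0 < d := Nat.card_pos
  have hz : 0 < z := Nat.card_pos
  have he : 0 < e := Nat.card_pos
  have ht : 0 < t := Nat.card_pos
  have hc : 0 < c := Nat.card_pos
  -- i1 : q * a ≤ s * d ; i2 : d * z ≤ t * e ; ht_le : t ≤ a ; i3' : e ≤ c ; hmaxle : s * c ≤ q * z
  have hchain1 : (q * a) * (d * z) ≤ (s * d) * (t * e) := Nat.mul_le_mul i1 i2
  have hchain2 : (s * d) * (t * e) ≤ (s * d) * (a * c) :=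
    Nat.mul_le_mul_left _ (Nat.mul_le_mul ht_le i3')
  have hchain3 : (s * d) * (a * c) ≤ (q * a) * (d * z) := by
    calc (s * d) * (a * c) = (s * c) * (a * d) := by ring
      _ ≤ (q * z) * (a * d) := Nat.mul_le_mul_right _ hmaxle
      _ = _ := by ring
  have hE1 : (q * a) * (d * z) = (s * d) * (t * e) :=
    le_antisymm hchain1 (hchain2.trans hchain3)
  have hE2 : (s * d) * (t * e) = (s * d) * (a * c) :=
    le_antisymm hchain2 (hchain3.trans hchain1)
  have e_qa : q * a = s * d := by
    apply le_antisymm i1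
    by_contra hlt
    push Not at hlt
    have : (q * a) * (d * z) < (s * d) * (t * e) :=
      Nat.mul_lt_mul_of_lt_of_le hlt i2 (Nat.mul_pos ht he)
    omega
  have e_dz : d * z = t * e := by
    rw [e_qa] at hE1
    exact Nat.eq_of_mul_eq_mul_left (Nat.mul_pos hs hd) hE1
  have e_te : t * e = a * c := Nat.eq_of_mul_eq_mul_left (Nat.mul_pos hs hd) hE2
  have e_t : t = a := by
    apply le_antisymm ht_le
    by_contra hlt
    push Not at hlt
    have : t * e < a * c := Nat.mul_lt_mul_of_lt_of_le hlt i3' hc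
    omega
  have e_sc : s * c = q * z := by
    apply le_antisymm hmaxle
    have : (q * z) * (a * d) ≤ (s * c) * (a * d) := by
      calc (q * z) * (a * d) = (q * a) * (d * z) := by ring
        _ ≤ (s * d) * (a * c) := hchain1.trans hchain2
        _ = _ := by ring
    exact Nat.le_of_mul_le_mul_right this (Nat.mul_pos ha hd)
  refine ⟨?_, sup_eq_mul_of_card_eq Q A e_qa, ⟨hDZcomm, ?_⟩, sup_eq_mul_of_card_eq D Z e_dz⟩
  · intro K
    have hK := hQ K
    have : clMeasure (Q ⊔ A) = clMeasure Q := by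
      unfold clMeasure
      exact e_sc
    rw [this]
    exact hK
  · intro B hB
    have := hA.2 B hB
    omega

end Cfsg.Agent.helper15
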