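import Mathlib
import Cfsg.Agent.Lib_helper10_CSa
import Cfsg.Agent.Lib_helper20_Class

/-!
# Class-size prime graph: connected implies diameter at most 3 (helper15), part 1

Basic notions, the dichotomy and the abelian normal subgroup `AA`.
-/

set_option autoImplicit false

namespace Cfsg.Agent.helper15.CSD

open Subgroup
open Cfsg.Agent.helper18.CG
open Cfsg.Agent.helper10.CS

/-- `r` is a prime equal to `p` or adjacent to `p` -/
def Nb (G : Type*) [Group G] (p r : ℕ) : Prop :=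
  r.Prime ∧ (r = p ∨ ∃ g : G, p ∣ idx g ∧ r ∣ idx g)

/-- all prime divisors of `n` are in the closed neighbourhood of `p` -/
def PNum (G : Type*) [Group G] (p n : ℕ) : Prop :=
  ∀ r : ℕ, r.Prime → r ∣ n → Nb G p r

/-- the standing hypothesis: no class size is divisible by a prime near `p` and a prime near `q` -/
structure Hyp (G : Type*) [Group G] (p q : ℕ) : Prop where
  hp : p.Prime
  hq : q.Prime
  hX : ∃ x : G, p ∣ idx x
  hY : ∃ y : G, q ∣ idx y
  h0 : ∀ (g : G) (r s : ℕ), Nb G p r → Nb G q s → r ∣ idx g → s ∣ idx g → False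

variable {G : Type*} [Group G]

theorem PNum.of_dvd {p m n : ℕ} (h : PNum G p n) (hd : m ∣ n) : PNum G p m :=
  fun r hr hrm => h r hr (hrm.trans hd)

theorem PNum.one (p : ℕ) : PNum G p 1 := by
  intro r hr h1
  exact absurd (Nat.dvd_one.mp h1) hr.ne_one

theorem PNum.mul {p m n : ℕ} (hm : PNum G p m) (hn : PNum G p n) : PNum G p (m * n) := by
  intro r hr h
  rcases (Nat.Prime.dvd_mul hr).mp h with h | h
  · exact hm r hr h
  · exact hn r hr h

theorem Hyp.symm {p q : ℕ} (H : Hyp G p q) : Hyp G q p :=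
  ⟨H.hq, H.hp, H.hY, H.hX, fun g r s hr hs h1 h2 => H.h0 g s r hs hr h2 h1⟩

theorem Nb_self {p : ℕ} (hp : p.Prime) : Nb G p p := ⟨hp, Or.inl rfl⟩

theorem Hyp.disj {p q : ℕ} (H : Hyp G p q) {r : ℕ} (h1 : Nb G p r) (h2 : Nb G q r) : False := by
  rcases h1.2 with h | ⟨g, hg1, hg2⟩
  · subst h
    rcases h2.2 with h | ⟨g, hg1, hg2⟩
    · obtain ⟨x, hx⟩ := H.hX
      exact H.h0 x r r h1 h2 hx hx
    · exact H.h0 g r q h1 (Nb_self H.hq) hg2 hg1
  · exact H.h0 g p r (Nb_self H.hp) h2 hg1 hg2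

theorem Hyp.coprime {p q : ℕ} (H : Hyp G p q) {a b : ℕ} (ha : PNum G p a) (hb : PNum G q b) :
    a.Coprime b := by
  by_contra hc
  obtain ⟨r, hr, h1, h2⟩ := Nat.Prime.not_coprime_iff_dvd.mp hc
  exact H.disj (ha r hr h1) (hb r hr h2)

theorem pnum_idx {p : ℕ} {x : G} (hx : p ∣ idx x) : PNum G p (idx x) :=
  fun r hr h => ⟨hr, Or.inr ⟨x, hx, h⟩⟩

theorem Cn_mul_central (a : G) {z : G} (hz : z ∈ center G) : Cn (a * z) = Cn a := by
  ext c
  rw [mem_Cn, mem_Cn]
  have hzc : ∀ g : G, g * z = z * g := fun g => (Subgroup.mem_center_iff.mp hz g)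
  constructor
  · intro h
    have : c * a * z = a * c * z := by
      calc c * a * z = c * (a * z) := by group
        _ = a * z * c := h
        _ = a * (z * c) := by group
        _ = a * (c * z) := by rw [hzc c]
        _ = a * c * z := by group
    exact mul_right_cancel this
  · intro h
    calc c * (a * z) = (c * a) * z := by group
      _ = (a * c) * z := by rw [h]
      _ = a * (c * z) := by group
      _ = a * (z * c) := by rw [hzc c]
      _ = a * z * c := by group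

theorem idx_mul_central (a : G) {z : G} (hz : z ∈ center G) : idx (a * z) = idx a := by
  unfold idx
  exact congrArg Subgroup.index (Cn_mul_central a hz)

variable [Finite G]

theorem idx_mul_comm (x y : G) : idx (x * y) = idx (y * x) := by
  have : x * y = x * (y * x) * x⁻¹ := by group
  rw [this, idx_conj]

/-- the dichotomy -/
theorem Hyp.dich {p q : ℕ} (H : Hyp G p q) {y x : G} (hy : q ∣ idx y) (hx : p ∣ idx x) :
    idx (y * x) ≤ idx y ∨ idx (y * x) ≤ idx x := by
  have hcop : (idx y).Coprime (idx x) := (H.coprime (pnum_idx hx) (pnum_idx hy)).symm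
  have hdvd : idx (y * x) ∣ idx y * idx x := idx_mul_dvd y x hcop
  by_cases hs : ∃ s : ℕ, Nb G q s ∧ s ∣ idx (y * x)
  · left
    obtain ⟨s, hs1, hs2⟩ := hs
    have hc2 : (idx (y * x)).Coprime (idx x) := by
      by_contra hc
      obtain ⟨r, hr, h1, h2⟩ := Nat.Prime.not_coprime_iff_dvd.mp hc
      exact H.h0 (y * x) r s (pnum_idx hx r hr h2) hs1 h1 hs2
    exact Nat.le_of_dvd (idx_pos' y) (hc2.dvd_of_dvd_mul_right hdvd)
  · right
    have hc2 : (idx (y * x)).Coprime (idx y) := by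
      by_contra hc
      obtain ⟨r, hr, h1, h2⟩ := Nat.Prime.not_coprime_iff_dvd.mp hc
      exact hs ⟨r, pnum_idx hy r hr h2, h1⟩
    exact Nat.le_of_dvd (idx_pos' x) (hc2.dvd_of_dvd_mul_left hdvd)

/-- case A hypothesis -/
def CaseA (G : Type*) [Group G] (p q : ℕ) : Prop :=
  ∀ y : G, q ∣ idx y → ∃ x : G, p ∣ idx x ∧ idx (y * x) ≤ idx x

theorem caseA_or {p q : ℕ} (H : Hyp G p q) : CaseA G p q ∨ CaseA G q p := by
  by_cases hA : CaseA G p q
  · exact Or.inl hA
  · right
    unfold CaseA at hA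
    push Not at hA
    obtain ⟨y₀, hy₀, hno⟩ := hA
    intro x hx
    refine ⟨y₀, hy₀, ?_⟩
    rcases H.dich hy₀ hx with h | h
    · rw [idx_mul_comm]; exact h
    · exact absurd h (not_le.mpr (hno x hx))

theorem step1 {p q : ℕ} (H : Hyp G p q) (hA : CaseA G p q) {y : G} (hy : q ∣ idx y) :
    ∃ N : Subgroup G, N.Normal ∧ PNum G p (Nat.card N) ∧ ∀ g : G, y⁻¹ * (g * y * g⁻¹) ∈ N := by
  obtain ⟨x, hx, hle⟩ := hA y hy
  have hcop : (idx y).Coprime (idx x) := (H.coprime (pnum_idx hx) (pnum_idx hy)).symm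
  exact ⟨St x, St_normal x, (pnum_idx hx).of_dvd (card_St_dvd x),
    fun g => comm_mem_St y x hcop hle g⟩

theorem le_Cn_of_pnum {p q : ℕ} (H : Hyp G p q) (N : Subgroup G) [N.Normal]
    (hN : PNum G p (Nat.card N)) {g : G} (hg : q ∣ idx g) : N ≤ Cn g :=
  normal_le_Cn N g (H.coprime hN (pnum_idx hg))

theorem le_Cn_of_relIndex (N M : Subgroup G) [N.Normal] (g : G) (hM : M ≤ Cn g)
    (hcop : (M.relIndex N).Coprime (idx g)) : N ≤ Cn g := by
  rw [← Subgroup.relIndex_eq_one]
  have h1 : (Cn g).relIndex N ∣ idx g := relIndex_dvd_index_of_normal_right (Cn g) N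
  have h2 : (Cn g).relIndex N ∣ M.relIndex N := Subgroup.relIndex_dvd_of_le_left N hM
  exact Nat.eq_one_of_dvd_coprimes hcop h2 h1

theorem pow_card_mem_center {y : G} (N : Subgroup G) (hN : N ≤ Cn y)
    (hg : ∀ g : G, y⁻¹ * (g * y * g⁻¹) ∈ N) : y ^ Nat.card N ∈ center G := by
  apply mem_center_of_conj
  intro g
  have hκN : y⁻¹ * (g * y * g⁻¹) ∈ N := hg g
  have hcomm : (y⁻¹ * (g * y * g⁻¹)) * y = y * (y⁻¹ * (g * y * g⁻¹)) := mem_Cn.mp (hN hκN)
  have h1 : g * y * g⁻¹ = y * (y⁻¹ * (g * y * g⁻¹)) := by group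
  have h2 : (y⁻¹ * (g * y * g⁻¹)) ^ Nat.card N = 1 := by
    have h : ((⟨y⁻¹ * (g * y * g⁻¹), hκN⟩ : N) ^ Nat.card N : N) = 1 := pow_card_eq_one'
    have h3 := congrArg (fun t : N => (t : G)) h
    simp only [Subgroup.coe_pow, Subgroup.coe_one] at h3
    exact h3
  calc g * y ^ Nat.card N * g⁻¹ = (g * y * g⁻¹) ^ Nat.card N := by rw [conj_pow]
    _ = (y * (y⁻¹ * (g * y * g⁻¹))) ^ Nat.card N := by rw [← h1]
    _ = y ^ Nat.card N * (y⁻¹ * (g * y * g⁻¹)) ^ Nat.card N :=
        (show Commute y (y⁻¹ * (g * y * g⁻¹)) from hcomm.symm).mul_pow _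
    _ = y ^ Nat.card N := by rw [h2, mul_one]

theorem pnum_orderOf_closure {p : ℕ} (T : Set G) (hT : ∀ a ∈ T, ∀ b ∈ T, a * b = b * a)
    (hP : ∀ t ∈ T, PNum G p (orderOf t)) : ∀ a ∈ closure T, PNum G p (orderOf a) := by
  have hcomm := closure_comm T hT
  intro a ha
  induction ha using Subgroup.closure_induction with
  | mem t ht => exact hP t ht
  | one => rw [orderOf_one]; exact PNum.one p
  | mul a b ha hb iha ihb =>
    have hc : Commute a b := hcomm a ha b hb
    exact (iha.mul ihb).of_dvd ((hc.orderOf_mul_dvd_lcm).trans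
      (Nat.lcm_dvd (dvd_mul_right _ _) (dvd_mul_left _ _)))
  | inv a _ iha => rw [orderOf_inv]; exact iha

theorem pnum_card_of_orderOf {p : ℕ} (A : Subgroup G) (h : ∀ a ∈ A, PNum G p (orderOf a)) :
    PNum G p (Nat.card A) := by
  intro r hr hd
  haveI : Fact r.Prime := ⟨hr⟩
  obtain ⟨x, hx⟩ := exists_prime_orderOf_dvd_card' (G := A) r hd
  have h1 : orderOf (x : G) = r := by rw [Subgroup.orderOf_coe]; exact hx
  exact h (x : G) x.2 r hr (by rw [h1])

/-- splitting an element of `Y` into a `π₁`-element and a central element -/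
theorem split {p q : ℕ} (H : Hyp G p q) (hA : CaseA G p q) {y : G} (hy : q ∣ idx y) :
    ∃ y₁ z : G, y = y₁ * z ∧ z ∈ center G ∧ PNum G p (orderOf y₁) := by
  obtain ⟨N, hNn, hNp, hNg⟩ := step1 H hA hy
  haveI := hNn
  have hNC : N ≤ Cn y := le_Cn_of_pnum H N hNp hy
  have hk : y ^ Nat.card N ∈ center G := pow_card_mem_center N hNC hNg
  have hTc : ∀ a ∈ {t : G | t ∈ zpowers y ∧ PNum G p (orderOf t)},
      ∀ b ∈ {t : G | t ∈ zpowers y ∧ PNum G p (orderOf t)}, a * b = b * a := by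
    rintro a ⟨⟨i, rfl⟩, _⟩ b ⟨⟨j, rfl⟩, _⟩
    exact ((Commute.refl y).zpow_zpow i j).eq
  have hD : y ∈ closure {t : G | t ∈ zpowers y ∧ PNum G p (orderOf t)} ⊔ center G := by
    refine primary_induction (closure {t : G | t ∈ zpowers y ∧ PNum G p (orderOf t)} ⊔ center G)
      (fun h => h ∈ zpowers y) ?_ ?_ y (mem_zpowers y)
    · intro g h hg hh
      exact (zpowers_le.mpr hg) hh
    · intro g hg s j hs hord
      by_cases hsn : Nb G p s
      · apply mem_sup_left
        apply Subgroup.subset_closure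
        refine ⟨hg, ?_⟩
        intro r hr hrd
        rw [hord] at hrd
        have : r = s := (Nat.prime_dvd_prime_iff_eq hr hs).mp (hr.dvd_of_dvd_pow hrd)
        rw [this]; exact hsn
      · apply mem_sup_right
        have hsk : ¬ s ∣ Nat.card N := fun h => hsn (hNp s hs h)
        have hcop : (Nat.card N).Coprime (orderOf g) := by
          rw [hord]
          exact ((hs.coprime_iff_not_dvd.mpr hsk).pow_left j).symm
        obtain ⟨m, hm⟩ := exists_pow_eq_self_of_coprime hcop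
        have hgk : g ^ Nat.card N ∈ center G := by
          obtain ⟨i, rfl⟩ := hg
          have : (y ^ i) ^ Nat.card N = (y ^ Nat.card N) ^ i := by
            rw [← zpow_natCast, ← zpow_mul, mul_comm, zpow_mul, zpow_natCast]
          rw [this]; exact zpow_mem hk i
        rw [← hm]; exact pow_mem hgk m
  rw [← SetLike.mem_coe, Subgroup.mul_normal] at hD
  obtain ⟨t, ht, z, hz, he⟩ := Set.mem_mul.mp hD
  exact ⟨t, z, he.symm, hz, pnum_orderOf_closure _ hTc (fun t ht => ht.2) t ht⟩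

/-- the `π₁`-elements of `Y` -/
def Y1 (G : Type*) [Group G] (p q : ℕ) : Set G := {y | q ∣ idx y ∧ PNum G p (orderOf y)}

/-- the abelian normal subgroup generated by `Y1` -/
def AA (G : Type*) [Group G] (p q : ℕ) : Subgroup G := closure (Y1 G p q)

theorem Y1_conj {p q : ℕ} {y : G} (hy : y ∈ Y1 G p q) (g : G) : g * y * g⁻¹ ∈ Y1 G p q := by
  refine ⟨by rw [idx_conj]; exact hy.1, ?_⟩
  have : orderOf (g * y * g⁻¹) = orderOf y := by
    rw [← MulAut.conj_apply]; exact (MulAut.conj g).orderOf_eq y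
  rw [this]; exact hy.2

theorem AA_normal (p q : ℕ) : (AA G p q).Normal :=
  normal_closure_of_conj _ (fun _ ht g => Y1_conj ht g)

theorem exists_Y1 {p q : ℕ} (H : Hyp G p q) (hA : CaseA G p q) {y : G} (hy : q ∣ idx y) :
    ∃ y₁ ∈ Y1 G p q, ∃ z ∈ center G, y = y₁ * z := by
  obtain ⟨y₁, z, he, hz, hp1⟩ := split H hA hy
  refine ⟨y₁, ⟨?_, hp1⟩, z, hz, he⟩
  have : idx y₁ = idx y := by rw [he]; exact (idx_mul_central y₁ hz).symm
  rw [this]; exact hy

theorem Y1_comm {p q : ℕ} (H : Hyp G p q) (hA : CaseA G p q) {y y' : G}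
    (hy : y ∈ Y1 G p q) (hy' : y' ∈ Y1 G p q) : y' * y = y * y' := by
  obtain ⟨N, hNn, hNp, hNg⟩ := step1 H hA hy'.1
  haveI := hNn
  have hNC : N ≤ Cn y := le_Cn_of_pnum H N hNp hy.1
  have hle : normalClosure ({y'} : Set G) ≤ N ⊔ zpowers y' := by
    unfold normalClosure
    rw [closure_le]
    intro w hw
    obtain ⟨b, hb, hc⟩ := Group.mem_conjugatesOfSet_iff.mp hw
    rw [Set.mem_singleton_iff] at hb; subst hb
    obtain ⟨g, rfl⟩ := isConj_iff.mp hc
    have : g * b * g⁻¹ = b * (b⁻¹ * (g * b * g⁻¹)) := by group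
    rw [SetLike.mem_coe, this]
    exact mul_mem (mem_sup_right (mem_zpowers b)) (mem_sup_left (hNg g))
  have heq : N ⊔ zpowers y' = N ⊔ normalClosure ({y'} : Set G) := by
    apply le_antisymm
    · apply sup_le le_sup_left
      apply le_sup_of_le_right
      rw [zpowers_le]; exact subset_normalClosure (Set.mem_singleton y')
    · exact sup_le le_sup_left hle
  haveI : (N ⊔ zpowers y').Normal := by rw [heq]; infer_instance
  have hrel : N.relIndex (N ⊔ zpowers y') ∣ orderOf y' := by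
    rw [Subgroup.relIndex_sup_left, ← Nat.card_zpowers]
    exact Subgroup.relIndex_dvd_card _ _
  have hcop : (N.relIndex (N ⊔ zpowers y')).Coprime (idx y) :=
    H.coprime (hy'.2.of_dvd hrel) (pnum_idx hy.1)
  have := le_Cn_of_relIndex (N ⊔ zpowers y') N y hNC hcop
  exact mem_Cn.mp (this (mem_sup_right (mem_zpowers y')))

theorem AA_comm {p q : ℕ} (H : Hyp G p q) (hA : CaseA G p q) :
    ∀ a ∈ AA G p q, ∀ b ∈ AA G p q, a * b = b * a :=
  closure_comm _ (fun _ ha _ hb => Y1_comm H hA hb ha)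

theorem AA_pnum {p q : ℕ} (H : Hyp G p q) (hA : CaseA G p q) : PNum G p (Nat.card (AA G p q)) :=
  pnum_card_of_orderOf _ (pnum_orderOf_closure _ (fun _ ha _ hb => Y1_comm H hA hb ha)
    (fun _ ht => ht.2))

theorem AA_q {p q : ℕ} (H : Hyp G p q) (hA : CaseA G p q) : ¬ q ∣ Nat.card (AA G p q) :=
  fun h => H.disj (AA_pnum H hA q H.hq h) (Nb_self H.hq)

end Cfsg.Agent.helper15.CSD
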