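import Mathlib
import Cfsg.Agent.Lib_helper15_CSD1

/-!
# Class-size prime graph: connected implies diameter at most 3 (helper15), part 2

Case A: the Sylow `q`-subgroup, `G = C_G(Q) A`, and the conclusion that a class size divisible
by a prime near `q` is divisible by `q`.
-/

set_option autoImplicit false

namespace Cfsg.Agent.helper15.CSD

open Subgroup
open Cfsg.Agent.helper18.CG
open Cfsg.Agent.helper10.CS

variable {G : Type*} [Group G] [Finite G]

/-- index via a normal supplement -/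
theorem index_eq_relIndex_of_sup (K A : Subgroup G) [A.Normal] (h : K ⊔ A = ⊤) :
    K.index = K.relIndex A := by
  have key : K.relIndex (K ⊔ A) = K.relIndex A := by
    have e1 := Cfsg.Agent.helper18.PG.card_eq_card_mul_relIndex K (K ⊔ A) le_sup_left
    have e2 := Cfsg.Agent.helper18.PG.card_eq_card_mul_relIndex A (K ⊔ A) le_sup_right
    rw [Subgroup.relIndex_sup_right] at e2
    have e3 := Cfsg.Agent.helper18.PG.card_eq_card_mul_relIndex (K ⊓ A) K inf_le_left
    rw [Subgroup.inf_relIndex_left] at e3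
    have e4 := Cfsg.Agent.helper18.PG.card_eq_card_mul_relIndex (K ⊓ A) A inf_le_right
    rw [Subgroup.inf_relIndex_right] at e4
    have hpos : 0 < Nat.card K := Nat.card_pos
    have : Nat.card K * K.relIndex (K ⊔ A) = Nat.card K * K.relIndex A := by
      rw [← e1, e2, e4, e3]; ring
    exact Nat.eq_of_mul_eq_mul_left hpos this
  rw [← key, h, Subgroup.relIndex_top_right]

section sylow

variable {p q : ℕ} [hqf : Fact q.Prime] (Q : Sylow q G)

theorem orderOf_mem_sylow {u : G} (hu : u ∈ (Q : Subgroup G)) : ∃ k, orderOf u = q ^ k := by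
  obtain ⟨k, hk⟩ := (Q.2 ⟨u, hu⟩)
  have h1 : u ^ q ^ k = 1 := by
    have h3 := congrArg (fun t : (Q : Subgroup G) => (t : G)) hk
    simp only [Subgroup.coe_pow, Subgroup.coe_one] at h3
    exact h3
  exact ((Nat.dvd_prime_pow hqf.out).mp (orderOf_dvd_of_pow_eq_one h1)).imp fun j hj => hj.2

theorem not_dvd_idx_of_mem_cent {g : G} (hg : g ∈ centralizer (Q : Set G)) : ¬ q ∣ idx g := by
  intro h
  have hle : (Q : Subgroup G) ≤ Cn g := by
    intro u hu
    rw [mem_Cn]
    exact mem_centralizer_iff.mp hg u hu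
  have : idx g ∣ (Q : Subgroup G).index := Subgroup.index_dvd_of_le hle
  exact Q.not_dvd_index (h.trans this)

theorem exists_conj_cent {g : G} (hg : ¬ q ∣ idx g) :
    ∃ h : G, h * g * h⁻¹ ∈ centralizer (Q : Set G) :=
  exists_conj_mem_centralizer (Q : Subgroup G) Q.2 g hg

theorem cover_AA (H : Hyp G p q) (hA : CaseA G p q) :
    centralizer (Q : Set G) ⊔ AA G p q = ⊤ := by
  apply Cfsg.Agent.helper20.eq_top_of_forall_conj_mem
  intro g
  by_cases hg : q ∣ idx g
  · obtain ⟨y₁, hy₁, z, hz, he⟩ := exists_Y1 H hA hg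
    refine ⟨1, ?_⟩
    rw [inv_one, one_mul, mul_one, he]
    apply mul_mem
    · exact mem_sup_right (Subgroup.subset_closure hy₁)
    · apply mem_sup_left
      exact Subgroup.center_le_centralizer _ hz
  · obtain ⟨h, hh⟩ := exists_conj_cent Q hg
    refine ⟨h⁻¹, ?_⟩
    rw [inv_inv]
    exact mem_sup_left hh

theorem exists_decomp (H : Hyp G p q) (hA : CaseA G p q) (g : G) :
    ∃ c ∈ centralizer (Q : Set G), ∃ a ∈ AA G p q, g = c * a := by
  haveI := AA_normal (G := G) p q
  have hg : g ∈ (↑(centralizer (Q : Set G) ⊔ AA G p q) : Set G) := by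
    rw [cover_AA Q H hA]; trivial
  rw [Subgroup.mul_normal] at hg
  obtain ⟨c, hc, a, ha, he⟩ := Set.mem_mul.mp hg
  exact ⟨c, hc, a, ha, he.symm⟩

theorem mem_cent_of_not_dvd (H : Hyp G p q) (hA : CaseA G p q) {a : G} (ha : a ∈ AA G p q)
    (hq : ¬ q ∣ idx a) : a ∈ centralizer (Q : Set G) := by
  obtain ⟨h, hh⟩ := exists_conj_cent Q hq
  obtain ⟨c, hc, a', ha', he⟩ := exists_decomp Q H hA h
  have h1 : a' * a = a * a' := AA_comm H hA a' ha' a ha
  have h2 : h * a * h⁻¹ = c * a * c⁻¹ := by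
    rw [he]
    calc c * a' * a * (c * a')⁻¹ = c * (a' * a) * a'⁻¹ * c⁻¹ := by group
      _ = c * (a * a') * a'⁻¹ * c⁻¹ := by rw [h1]
      _ = c * a * c⁻¹ := by group
  rw [h2] at hh
  have : a = c⁻¹ * (c * a * c⁻¹) * c := by group
  rw [this]
  exact mul_mem (mul_mem (inv_mem hc) hh) hc

theorem exists_noncentral (H : Hyp G p q) : ∃ u ∈ (Q : Subgroup G), u ∉ center G := by
  by_contra hno
  push Not at hno
  obtain ⟨y, hy⟩ := H.hY
  refine not_dvd_idx_of_mem_cent Q (g := y) ?_ hy
  rw [mem_centralizer_iff]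
  intro u hu
  exact ((Subgroup.mem_center_iff.mp (hno u hu)) y).symm

theorem mem_cent_of_comm (H : Hyp G p q) (hA : CaseA G p q) {u : G}
    (hu : u ∈ (Q : Subgroup G)) (huZ : u ∉ center G)
    {b : G} (hb : b ∈ AA G p q) (hbu : b * u = u * b) : b ∈ centralizer (Q : Set G) := by
  by_contra hbC
  have hqb : q ∣ idx b := by
    by_contra h
    exact hbC (mem_cent_of_not_dvd Q H hA hb h)
  have hob : orderOf b ∣ Nat.card (AA G p q) := by
    have := orderOf_dvd_natCard (⟨b, hb⟩ : AA G p q)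
    rwa [Subgroup.orderOf_mk] at this
  obtain ⟨k, hk⟩ := orderOf_mem_sylow Q hu
  have hqA : ¬ q ∣ Nat.card (AA G p q) := AA_q H hA
  have hcop : (orderOf b).Coprime (orderOf u) := by
    rw [hk]
    apply Nat.Coprime.pow_right
    apply Nat.Coprime.symm
    exact (hqf.out.coprime_iff_not_dvd).mpr (fun h => hqA (h.trans hob))
  have h1 : Cn (b * u) ≤ Cn b ⊓ Cn u := Cn_mul_le_of_coprime hbu hcop
  have h2 : idx b ∣ idx (b * u) := Subgroup.index_dvd_of_le (h1.trans inf_le_left)
  obtain ⟨y₁, hy₁, z, hz, he⟩ := exists_Y1 H hA (hqb.trans h2)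
  have haA : b⁻¹ * y₁ ∈ AA G p q := mul_mem (inv_mem hb) (Subgroup.subset_closure hy₁)
  have hu_eq : u = (b⁻¹ * y₁) * z := by rw [mul_assoc, ← he]; group
  have han : (b⁻¹ * y₁) ^ Nat.card (AA G p q) = 1 := by
    have h : ((⟨b⁻¹ * y₁, haA⟩ : AA G p q) ^ Nat.card (AA G p q) : AA G p q) = 1 :=
      pow_card_eq_one'
    have h3 := congrArg (fun t : AA G p q => (t : G)) h
    simp only [Subgroup.coe_pow, Subgroup.coe_one] at h3
    exact h3
  have hzc : Commute (b⁻¹ * y₁) z := (Subgroup.mem_center_iff.mp hz (b⁻¹ * y₁))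
  have hun : u ^ Nat.card (AA G p q) ∈ center G := by
    rw [hu_eq, hzc.mul_pow, han, one_mul]
    exact pow_mem hz _
  have hcop2 : (Nat.card (AA G p q)).Coprime (orderOf u) := by
    rw [hk]
    apply Nat.Coprime.pow_right
    exact ((hqf.out.coprime_iff_not_dvd).mpr hqA).symm
  obtain ⟨m, hm⟩ := exists_pow_eq_self_of_coprime hcop2
  apply huZ
  rw [← hm]
  exact pow_mem hun m

theorem Cn_eq_cent (H : Hyp G p q) (hA : CaseA G p q) {u : G}
    (hu : u ∈ (Q : Subgroup G)) (huZ : u ∉ center G) :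
    Cn u = centralizer (Q : Set G) := by
  apply le_antisymm
  · intro g hg
    obtain ⟨c, hc, a, ha, he⟩ := exists_decomp Q H hA g
    have hcu : c * u = u * c := (mem_centralizer_iff.mp hc u hu).symm
    have hgu : g * u = u * g := mem_Cn.mp hg
    have hciu : c⁻¹ * u = u * c⁻¹ := by
      calc c⁻¹ * u = c⁻¹ * (u * c) * c⁻¹ := by group
        _ = c⁻¹ * (c * u) * c⁻¹ := by rw [hcu]
        _ = u * c⁻¹ := by group
    have hau : a * u = u * a := by
      have : a = c⁻¹ * g := by rw [he]; group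
      rw [this]
      calc c⁻¹ * g * u = c⁻¹ * (g * u) := by group
        _ = c⁻¹ * (u * g) := by rw [hgu]
        _ = (c⁻¹ * u) * g := by group
        _ = (u * c⁻¹) * g := by rw [hciu]
        _ = u * (c⁻¹ * g) := by group
    have haC := mem_cent_of_comm Q H hA hu huZ ha hau
    rw [he]; exact mul_mem hc haC
  · intro c hc
    rw [mem_Cn]
    exact (mem_centralizer_iff.mp hc u hu).symm

theorem index_cent_pnum (H : Hyp G p q) (hA : CaseA G p q) :
    PNum G p (centralizer (Q : Set G)).index := by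
  haveI := AA_normal (G := G) p q
  rw [index_eq_relIndex_of_sup _ _ (cover_AA Q H hA)]
  exact (AA_pnum H hA).of_dvd (Subgroup.relIndex_dvd_card _ _)

theorem exists_prime_index_cent (H : Hyp G p q) (hA : CaseA G p q) :
    ∃ r, Nb G p r ∧ r ∣ (centralizer (Q : Set G)).index := by
  obtain ⟨u, hu, huZ⟩ := exists_noncentral Q H
  have h1 : (centralizer (Q : Set G)).index ≠ 1 := by
    rw [← Cn_eq_cent Q H hA hu huZ]
    intro h
    exact huZ ((idx_eq_one_iff u).mp h)
  obtain ⟨r, hr, hrd⟩ := Nat.exists_prime_and_dvd h1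
  exact ⟨r, index_cent_pnum Q H hA r hr hrd, hrd⟩

theorem mem_sylow_of_cent {v : G} (hv : v ∈ centralizer (Q : Set G)) {k : ℕ}
    (hk : orderOf v = q ^ k) : v ∈ (Q : Subgroup G) := by
  have hK : IsPGroup q (zpowers v) := by
    rintro ⟨w, hw⟩
    refine ⟨k, ?_⟩
    obtain ⟨i, rfl⟩ := hw
    apply Subtype.ext
    simp only [Subgroup.coe_pow, Subgroup.coe_one]
    rw [← zpow_natCast, ← zpow_mul, mul_comm, zpow_mul, zpow_natCast, ← hk, pow_orderOf_eq_one,
      one_zpow]
  have hnorm : (Q : Subgroup G) ≤ Subgroup.normalizer ((zpowers v : Subgroup G) : Set G) := by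
    intro u hu
    rw [mem_normalizer_iff]
    intro w
    have huv : u * v = v * u := mem_centralizer_iff.mp hv u hu
    constructor
    · rintro ⟨i, rfl⟩
      have hc : Commute u (v ^ i) := (show Commute u v from huv).zpow_right i
      have : u * v ^ i * u⁻¹ = v ^ i := by rw [hc.eq, mul_inv_cancel_right]
      rw [this]; exact ⟨i, rfl⟩
    · rintro ⟨i, hi⟩
      have hc : Commute u (v ^ i) := (show Commute u v from huv).zpow_right i
      have hw : w = v ^ i := by
        have h0 : w = u⁻¹ * (u * w * u⁻¹) * u := by group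
        rw [h0, ← hi]
        calc u⁻¹ * v ^ i * u = u⁻¹ * (v ^ i * u) := by group
          _ = u⁻¹ * (u * v ^ i) := by rw [hc.eq]
          _ = v ^ i := by group
      rw [hw]; exact ⟨i, rfl⟩
  have hP : IsPGroup q ((Q : Subgroup G) ⊔ zpowers v : Subgroup G) :=
    IsPGroup.to_sup_of_normal_right' Q.2 hK hnorm
  have heq := Q.is_maximal' hP le_sup_left
  have : v ∈ (Q : Subgroup G) ⊔ zpowers v := mem_sup_right (mem_zpowers v)
  rw [heq] at this
  exact this

theorem no_pi2_of_qprime (H : Hyp G p q) (hA : CaseA G p q) {c : G}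
    (hc : c ∈ centralizer (Q : Set G)) (hqc : ¬ q ∣ orderOf c) {s : ℕ} (hs : Nb G q s) :
    ¬ s ∣ (centralizer (Q : Set G) ⊓ Cn c).index := by
  intro hsd
  obtain ⟨u, hu, huZ⟩ := exists_noncentral Q H
  obtain ⟨r, hr, hrd⟩ := exists_prime_index_cent Q H hA
  have hCn := Cn_eq_cent Q H hA hu huZ
  have huc : u * c = c * u := mem_centralizer_iff.mp hc u hu
  have hle : centralizer (Q : Set G) ⊓ Cn c ≤ Cn (u * c) := by
    intro g hg
    have hg1 : g ∈ Cn u := by rw [hCn]; exact hg.1
    have h1 : g * u = u * g := mem_Cn.mp hg1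
    have h2 : g * c = c * g := mem_Cn.mp hg.2
    rw [mem_Cn]
    calc g * (u * c) = (g * u) * c := by group
      _ = (u * g) * c := by rw [h1]
      _ = u * (g * c) := by group
      _ = u * (c * g) := by rw [h2]
      _ = u * c * g := by group
  obtain ⟨k, hk⟩ := orderOf_mem_sylow Q hu
  have hcop : (orderOf u).Coprime (orderOf c) := by
    rw [hk]; exact ((hqf.out.coprime_iff_not_dvd).mpr hqc).pow_left k
  have hge : Cn (u * c) ≤ centralizer (Q : Set G) ⊓ Cn c := by
    have := Cn_mul_le_of_coprime huc hcop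
    rwa [hCn] at this
  have heq : Cn (u * c) = centralizer (Q : Set G) ⊓ Cn c := le_antisymm hge hle
  have hidx : idx (u * c) = (centralizer (Q : Set G) ⊓ Cn c).index := by
    show (Cn (u * c)).index = _
    rw [heq]
  have h1 : s ∣ idx (u * c) := by rw [hidx]; exact hsd
  have h2 : r ∣ idx (u * c) := by
    rw [hidx]; exact hrd.trans (Subgroup.index_dvd_of_le inf_le_left)
  exact H.h0 (u * c) r s hr hs h2 h1

theorem no_pi2_of_mem_cent (H : Hyp G p q) (hA : CaseA G p q) {g : G}
    (hg : g ∈ centralizer (Q : Set G)) {s : ℕ} (hs : Nb G q s) : ¬ s ∣ idx g := by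
  intro hsd
  obtain ⟨g₁, g₂, he, hg1, hg2, ⟨k, hk⟩, hnd⟩ := exists_split g q hqf.out
  have hzp : zpowers g ≤ centralizer (Q : Set G) := zpowers_le.mpr hg
  have hg1C := hzp hg1
  have hg2C := hzp hg2
  have hg1Q : g₁ ∈ (Q : Subgroup G) := mem_sylow_of_cent Q hg1C hk
  have hle : centralizer (Q : Set G) ⊓ Cn g₂ ≤ Cn g := by
    intro h hh
    have h1 : h * g₁ = g₁ * h := (mem_centralizer_iff.mp hh.1 g₁ hg1Q).symm
    have h2 : h * g₂ = g₂ * h := mem_Cn.mp hh.2
    rw [mem_Cn]
    calc h * g = h * (g₁ * g₂) := by rw [← he]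
      _ = (h * g₁) * g₂ := by group
      _ = (g₁ * h) * g₂ := by rw [h1]
      _ = g₁ * (h * g₂) := by group
      _ = g₁ * (g₂ * h) := by rw [h2]
      _ = g₁ * g₂ * h := by group
      _ = g * h := by rw [← he]
  have : idx g ∣ (centralizer (Q : Set G) ⊓ Cn g₂).index := Subgroup.index_dvd_of_le hle
  exact no_pi2_of_qprime Q H hA hg2C hnd hs (hsd.trans this)

end sylow

/-- case A: a class size divisible by a prime near `q` is divisible by `q` -/
theorem caseA_main {p q : ℕ} (H : Hyp G p q) (hA : CaseA G p q) {g : G} {s : ℕ}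
    (hs : Nb G q s) (hsd : s ∣ idx g) : q ∣ idx g := by
  haveI : Fact q.Prime := ⟨H.hq⟩
  obtain ⟨Q⟩ : Nonempty (Sylow q G) := inferInstance
  by_contra hq
  obtain ⟨h, hh⟩ := exists_conj_cent Q hq
  have := no_pi2_of_mem_cent Q H hA hh hs
  rw [idx_conj] at this
  exact this hsd

end Cfsg.Agent.helper15.CSD
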