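import Mathlib
import Cfsg.Agent.Lib_helper15_S4a
import Cfsg.Agent.Lib_helper15_BaerSuzuki
import Cfsg.Agent.Lib_helper3_ThompsonOf
import Cfsg.Agent.Lib_helper3_EA
import Cfsg.Agent.Lib_helper1_Core

/-! Constrained `S₄`-free groups with Sylow `2`-subgroups of class two: conjugation invariant
forms of the hypotheses and the inductive consequence for proper subgroups (helper15). -/

set_option autoImplicit false
set_option linter.style.haveILetI false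

namespace Cfsg.Agent.helper15.ConJ

open Cfsg

universe u

variable {X : Type u} [Group X]

/-- an elementary abelian `2`-subgroup of largest order in the whole group -/
def IsGMaxEA (A : Subgroup X) : Prop :=
  Cfsg.IsElementaryAbelian 2 A ∧
    ∀ B : Subgroup X, Cfsg.IsElementaryAbelian 2 B → Nat.card B ≤ Nat.card A

/-- every `2`-subgroup has class at most two -/
def Cl2 (X : Type u) [Group X] : Prop :=
  ∀ P : Subgroup X, IsPGroup 2 ↥P → ∀ a ∈ P, ∀ b ∈ P, ∀ c ∈ P,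
    (a * b * a⁻¹ * b⁻¹) * c = c * (a * b * a⁻¹ * b⁻¹)

theorem cl2_subgroup (Y : Subgroup X) (h : Cl2 X) : Cl2 ↥Y := by
  intro P hP a ha b hb c hc
  have h1 := h (P.map Y.subtype) (hP.map _) a ⟨a, ha, rfl⟩ b ⟨b, hb, rfl⟩ c ⟨c, hc, rfl⟩
  apply Subtype.ext
  simpa using h1

theorem gmax_subgroupOf {A : Subgroup X} (Y : Subgroup X) (hA : IsGMaxEA A) (hAY : A ≤ Y) :
    IsGMaxEA (A.subgroupOf Y) := by
  refine ⟨helper3.ea_subgroupOf hA.1 Y, fun B hB => ?_⟩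
  have h1 : Nat.card (A.subgroupOf Y) = Nat.card A :=
    Nat.card_congr (Subgroup.subgroupOfEquivOfLe hAY).toEquiv
  rw [h1, ← Subgroup.card_subtype Y B]
  exact hA.2 _ (helper3.ea_map hB _)

theorem gmax_conj {A : Subgroup X} (hA : IsGMaxEA A) (g : X) :
    IsGMaxEA (A.map (MulAut.conj g).toMonoidHom) := by
  refine ⟨helper3.ea_map hA.1 _, fun B hB => ?_⟩
  rw [Subgroup.card_map_of_injective (MulAut.conj g).injective]
  exact hA.2 B hB

theorem gmax_card_eq {A B : Subgroup X} (hA : IsGMaxEA A) (hB : IsGMaxEA B) :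
    Nat.card A = Nat.card B :=
  le_antisymm (hB.2 A hA.1) (hA.2 B hB.1)

theorem isPGroup_zpowers_of_pow {t : X} {j : ℕ} (ht : t ^ 2 ^ j = 1) :
    IsPGroup 2 ↥(Subgroup.zpowers t) := by
  have h1 : orderOf t ∣ 2 ^ j := orderOf_dvd_of_pow_eq_one ht
  obtain ⟨i, _, hi⟩ := (Nat.dvd_prime_pow Nat.prime_two).1 h1
  apply IsPGroup.of_card (n := i)
  rw [Nat.card_zpowers, hi]

section sylow

variable [Finite X]

theorem exists_conj_mem_sylow (S : Sylow 2 X) {P : Subgroup X} (hP : IsPGroup 2 ↥P) :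
    ∃ g : X, ∀ x ∈ P, g * x * g⁻¹ ∈ (S : Subgroup X) := by
  haveI : Fact (Nat.Prime 2) := ⟨Nat.prime_two⟩
  obtain ⟨Q, hQ⟩ := hP.exists_le_sylow
  obtain ⟨g, hg⟩ := MulAction.exists_smul_eq X Q S
  refine ⟨g, fun x hx => ?_⟩
  rw [← hg, Cfsg.Agent.helper15.coe_smul_sylow']
  exact Subgroup.mem_map.2 ⟨x, hQ hx, by simp only [MulEquiv.coe_toMonoidHom, MulAut.conj_apply]⟩

theorem gmax_of_sylow (S : Sylow 2 X) {A : Subgroup X} (hA : helper3.IsMaxEAIn 2 (S : Subgroup X) A) :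
    IsGMaxEA A := by
  refine ⟨hA.2.1, fun B hB => ?_⟩
  obtain ⟨g, hg⟩ := exists_conj_mem_sylow S (helper3.ea_isPGroup hB)
  have h1 : B.map (MulAut.conj g).toMonoidHom ≤ (S : Subgroup X) := by
    rintro _ ⟨b, hb, rfl⟩
    simp only [MulEquiv.coe_toMonoidHom, MulAut.conj_apply]
    exact hg b hb
  have h2 := hA.2.2 _ h1 (helper3.ea_map hB _)
  rwa [Subgroup.card_map_of_injective (MulAut.conj g).injective] at h2

theorem cl2_of_sylow (S : Sylow 2 X)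
    (hcl : ∀ a ∈ (S : Subgroup X), ∀ b ∈ (S : Subgroup X), ∀ c ∈ (S : Subgroup X),
      (a * b * a⁻¹ * b⁻¹) * c = c * (a * b * a⁻¹ * b⁻¹)) : Cl2 X := by
  intro P hP a ha b hb c hc
  obtain ⟨g, hg⟩ := exists_conj_mem_sylow S hP
  have h1 := hcl _ (hg a ha) _ (hg b hb) _ (hg c hc)
  have e1 : g * a * g⁻¹ * (g * b * g⁻¹) * (g * a * g⁻¹)⁻¹ * (g * b * g⁻¹)⁻¹ * (g * c * g⁻¹) =
      g * ((a * b * a⁻¹ * b⁻¹) * c) * g⁻¹ := by group
  have e2 : g * c * g⁻¹ * (g * a * g⁻¹ * (g * b * g⁻¹) * (g * a * g⁻¹)⁻¹ * (g * b * g⁻¹)⁻¹) =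
      g * (c * (a * b * a⁻¹ * b⁻¹)) * g⁻¹ := by group
  rw [e1, e2] at h1
  exact mul_left_cancel (mul_right_cancel h1)

/-- the inductive hypothesis, applied to a proper subgroup containing `O₂` -/
theorem exists_core_of_lt
    (IH : ∀ (Y : Type u) [Group Y] [Finite Y], Nat.card Y < Nat.card X →
      Subgroup.centralizer (Cfsg.pCore 2 Y : Set Y) ≤ Cfsg.pCore 2 Y →
      ¬ Cfsg.Involves (Equiv.Perm (Fin 4)) Y → Cl2 Y →
      ∀ A : Subgroup Y, IsGMaxEA A → A ≤ Cfsg.pCore 2 Y)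
    (hcon : Subgroup.centralizer (Cfsg.pCore 2 X : Set X) ≤ Cfsg.pCore 2 X)
    (hfree : ¬ Cfsg.Involves (Equiv.Perm (Fin 4)) X) (hcl2 : Cl2 X)
    (Y : Subgroup X) (hHY : Cfsg.pCore 2 X ≤ Y) (hY : Y ≠ ⊤) :
    ∃ P : Subgroup X, IsPGroup 2 ↥P ∧ Cfsg.pCore 2 X ≤ P ∧
      (∀ y ∈ Y, ∀ x ∈ P, y * x * y⁻¹ ∈ P) ∧
      ∀ A : Subgroup X, IsGMaxEA A → A ≤ Y → A ≤ P := by
  have hlt : Nat.card ↥Y < Nat.card X := by
    apply lt_of_le_of_ne (Subgroup.card_le_card_group Y)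
    intro h
    exact hY ((Subgroup.card_eq_iff_eq_top Y).1 h)
  haveI hHn : (Cfsg.pCore 2 X).Normal := helper1.pCore_normal 2
  have hHsub : (Cfsg.pCore 2 X).subgroupOf Y ≤ Cfsg.pCore 2 ↥Y :=
    helper1.le_pCore (hHn.subgroupOf Y) (helper1.pCore_isPGroup 2).comap_subtype
  have hconY : Subgroup.centralizer (Cfsg.pCore 2 ↥Y : Set ↥Y) ≤ Cfsg.pCore 2 ↥Y := by
    intro y hy
    apply hHsub
    rw [Subgroup.mem_subgroupOf]
    apply hcon
    rw [Subgroup.mem_centralizer_iff]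
    intro h hh
    have h1 := Subgroup.mem_centralizer_iff.mp hy ⟨h, hHY hh⟩
      (hHsub (Subgroup.mem_subgroupOf.2 hh))
    exact congrArg Subtype.val h1
  have hfreeY : ¬ Cfsg.Involves (Equiv.Perm (Fin 4)) ↥Y :=
    fun h => hfree (Cfsg.Agent.helper15.S4F.involves_of_subgroup Y h)
  have key := IH ↥Y hlt hconY hfreeY (cl2_subgroup Y hcl2)
  haveI hPn : (Cfsg.pCore 2 ↥Y).Normal := helper1.pCore_normal 2
  refine ⟨(Cfsg.pCore 2 ↥Y).map Y.subtype, (helper1.pCore_isPGroup 2).map _, ?_, ?_, ?_⟩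
  · intro h hh
    exact ⟨⟨h, hHY hh⟩, hHsub (Subgroup.mem_subgroupOf.2 hh), rfl⟩
  · rintro y hy _ ⟨x, hx, rfl⟩
    exact ⟨⟨y, hy⟩ * x * ⟨y, hy⟩⁻¹, hPn.conj_mem x hx ⟨y, hy⟩, rfl⟩
  · intro A hA hAY a ha
    exact ⟨⟨a, hAY ha⟩, key _ (gmax_subgroupOf Y hA hAY) (Subgroup.mem_subgroupOf.2 ha), rfl⟩

end sylow

end Cfsg.Agent.helper15.ConJ
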