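import Mathlib
import Cfsg.Prelude.Def_Local
import Cfsg.Agent.Lib_helper1_Core
import Cfsg.Agent.Lib_helper23_PSolv

set_option autoImplicit false
open Cfsg

namespace Cfsg.Agent.helper15.DualHH

variable {G : Type*} [Group G]

/-- General central splitting: a central normal subgroup `L₀` of `L` whose order is prime to
its index has a complement in `L` that is normal in `G`. -/
theorem central_split_general [Finite G]
    {L L₀ : Subgroup G} (hL : L.Normal) (hL₀ : L₀.Normal) (hle : L₀ ≤ L)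
    (hcent : ∀ a ∈ L₀, ∀ b ∈ L, a * b = b * a)
    (hcop : (Nat.card L₀).Coprime (L₀.relIndex L)) :
    ∃ K : Subgroup G, K.Normal ∧ K ≤ L ∧ Nat.card K = L₀.relIndex L ∧
      ∀ y ∈ L, ∃ a ∈ L₀, ∃ b ∈ K, a * b = y := by
  haveI hNn : (L₀.subgroupOf L).Normal := hL₀.subgroupOf L
  have hNcard : Nat.card (L₀.subgroupOf L) = Nat.card L₀ :=
    Nat.card_congr (Subgroup.subgroupOfEquivOfLe hle).toEquiv
  have hNidx : (L₀.subgroupOf L).index = L₀.relIndex L := rfl
  have hcop' : (Nat.card (L₀.subgroupOf L)).Coprime (L₀.subgroupOf L).index := by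
    rw [hNcard, hNidx]
    exact hcop
  obtain ⟨K', hK'⟩ := Subgroup.exists_right_complement'_of_coprime hcop'
  have hcardK' : Nat.card K' = (L₀.subgroupOf L).index := by
    have h1 := hK'.card_mul_card
    have h2 := (L₀.subgroupOf L).card_mul_index
    exact Nat.eq_of_mul_eq_mul_left Nat.card_pos (h1.trans h2.symm)
  have hKcL : K'.map L.subtype ≤ L := Subgroup.map_subtype_le K'
  have hKccard : Nat.card (K'.map L.subtype) = Nat.card K' := Subgroup.card_subtype L K'
  have hKn : Nat.card (K'.map L.subtype) = L₀.relIndex L := by rw [hKccard, hcardK', hNidx]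
  have hi : ∀ x ∈ L, x ^ (L₀.relIndex L) = 1 → x ∈ K'.map L.subtype := by
    intro x hx hox
    obtain ⟨⟨⟨⟨a, haL⟩, haN⟩, ⟨⟨b, hbL⟩, hbK⟩⟩, hnk⟩ := hK'.2 (⟨x, hx⟩ : L)
    have hab : a * b = x := congrArg Subtype.val hnk
    have haL₀ : a ∈ L₀ := haN
    have hbKc : b ∈ K'.map L.subtype := ⟨⟨b, hbL⟩, hbK, rfl⟩
    have hcomm : Commute a b := hcent a haL₀ b hbL
    have hb : b ^ (L₀.relIndex L) = 1 := by
      have h1 : orderOf b ∣ Nat.card (K'.map L.subtype) :=
        (K'.map L.subtype).orderOf_dvd_natCard hbKc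
      rw [hKn] at h1
      exact orderOf_dvd_iff_pow_eq_one.1 h1
    have ha1 : a ^ (L₀.relIndex L) = 1 := by
      have hax : a = x * b⁻¹ := by rw [← hab]; group
      have hxb : Commute x b⁻¹ := by
        rw [← hab]
        exact (hcomm.mul_left (Commute.refl b)).inv_right
      rw [hax, hxb.mul_pow, hox, inv_pow, hb, inv_one, one_mul]
    have ha2 : a ^ (Nat.card L₀) = 1 := by
      have h1 : orderOf a ∣ Nat.card L₀ := L₀.orderOf_dvd_natCard haL₀
      exact orderOf_dvd_iff_pow_eq_one.1 h1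
    have ha : a = 1 := by
      have h1 : orderOf a ∣ L₀.relIndex L := orderOf_dvd_of_pow_eq_one ha1
      have h2 : orderOf a ∣ Nat.card L₀ := orderOf_dvd_of_pow_eq_one ha2
      have h3 : orderOf a ∣ 1 := by
        have h4 := Nat.dvd_gcd h2 h1
        rwa [Nat.Coprime.gcd_eq_one hcop] at h4
      exact orderOf_eq_one_iff.1 (Nat.dvd_one.1 h3)
    have hxb : x = b := by rw [← hab, ha, one_mul]
    rw [hxb]
    exact hbKc
  have hKcn : (K'.map L.subtype).Normal := by
    constructor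
    intro x hx g
    apply hi
    · exact hL.conj_mem x (hKcL hx) g
    · have h1 : x ^ (L₀.relIndex L) = 1 := by
        have h2 : orderOf x ∣ Nat.card (K'.map L.subtype) :=
          (K'.map L.subtype).orderOf_dvd_natCard hx
        rw [hKn] at h2
        exact orderOf_dvd_iff_pow_eq_one.1 h2
      rw [conj_pow, h1, mul_one, mul_inv_cancel]
  refine ⟨K'.map L.subtype, hKcn, hKcL, hKn, ?_⟩
  intro y hy
  obtain ⟨⟨⟨⟨a, haL⟩, haN⟩, ⟨⟨b, hbL⟩, hbK⟩⟩, hnk⟩ := hK'.2 (⟨y, hy⟩ : L)
  have hab : a * b = y := congrArg Subtype.val hnk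
  exact ⟨a, haN, b, ⟨⟨b, hbL⟩, hbK, rfl⟩, hab⟩

/-- Dual central splitting: if `O_p(G) = 1`, a normal subgroup `L` with a central normal
`p'`-subgroup `L₀` of `p`-power index equals `L₀`. -/
theorem central_split_dual [Finite G] {p : ℕ} [hp : Fact p.Prime]
    (hO : Cfsg.pCore p G = ⊥)
    {L L₀ : Subgroup G} (hL : L.Normal) (hL₀ : L₀.Normal) (hle : L₀ ≤ L)
    (hpg : (Nat.card L₀).Coprime p)
    (hcent : ∀ a ∈ L₀, ∀ b ∈ L, a * b = b * a) (hidx : ∃ m : ℕ, L₀.relIndex L = p ^ m) :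
    L ≤ L₀ := by
  obtain ⟨m, hm⟩ := hidx
  have hcop : (Nat.card L₀).Coprime (L₀.relIndex L) := by
    rw [hm]; exact Nat.Coprime.pow_right m hpg
  obtain ⟨K, hKn, hKL, hKc, hdec⟩ := central_split_general hL hL₀ hle hcent hcop
  have hKbot : K = ⊥ := by
    have h1 := helper1.le_pCore hKn (IsPGroup.of_card (hKc.trans hm))
    rwa [hO, le_bot_iff] at h1
  intro y hy
  obtain ⟨a, ha, b, hb, hab⟩ := hdec y hy
  rw [hKbot, Subgroup.mem_bot] at hb
  rw [← hab, hb, mul_one]
  exact ha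

/-- Dual Hall–Higman Lemma 1.2.3: in a `p`-solvable group with `O_p(G) = 1`,
`C_G(O_{p'}(G)) ≤ O_{p'}(G)`. -/
theorem hall_higman_dual [Finite G] {p : ℕ} [hp : Fact p.Prime]
    (hps : helper23.PSReach p (⊤ : Subgroup G))
    (hO : Cfsg.pCore p G = ⊥) :
    Subgroup.centralizer ((Cfsg.pPrimeCore p G : Subgroup G) : Set G) ≤ Cfsg.pPrimeCore p G := by
  haveI hVn : (Cfsg.pPrimeCore p G).Normal := helper1.pPrimeCore_normal p
  obtain ⟨D, hD⟩ : ∃ D : Subgroup G,
      D = Subgroup.centralizer ((Cfsg.pPrimeCore p G : Subgroup G) : Set G) := ⟨_, rfl⟩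
  rw [← hD]
  have hDn : D.Normal := by rw [hD]; exact Subgroup.normal_centralizer
  have hDc : ∀ b ∈ D, ∀ a ∈ Cfsg.pPrimeCore p G, a * b = b * a := by
    intro b hb a ha
    rw [hD, Subgroup.mem_centralizer_iff] at hb
    exact hb a ha
  have key : ∀ X : Subgroup G, helper23.PSReach p X → X ⊓ D ≤ Cfsg.pPrimeCore p G := by
    intro X hX
    induction hX with
    | bot => rw [bot_inf_eq]; exact bot_le
    | step K L hK hKL hLn hfac ih =>
      have hKn := hK.normal
      have hL'n : (L ⊓ D).Normal := @Subgroup.normal_inf_normal _ _ L D hLn hDn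
      have hL₀n : (K ⊓ D).Normal := @Subgroup.normal_inf_normal _ _ K D hKn hDn
      have hle : K ⊓ D ≤ L ⊓ D := inf_le_inf_right _ hKL
      have hd := helper23.relIndex_inf_dvd (D := D) hKn hKL
      have hpg : (Nat.card (K ⊓ D : Subgroup G)).Coprime p :=
        Nat.Coprime.coprime_dvd_left (Subgroup.card_dvd_of_le ih) (helper1.pPrimeCore_coprime p)
      rcases hfac with ⟨m, hm⟩ | hc
      · rw [hm] at hd
        obtain ⟨j, _, hj⟩ := (Nat.dvd_prime_pow hp.out).1 hd
        have h1 : L ⊓ D ≤ K ⊓ D := by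
          refine central_split_dual hO hL'n hL₀n hle hpg ?_ ⟨j, hj⟩
          intro a ha b hb
          exact hDc b (Subgroup.mem_inf.1 hb).2 a (ih ha)
        exact h1.trans ih
      · have hcop : ((K ⊓ D).relIndex (L ⊓ D)).Coprime p := Nat.Coprime.coprime_dvd_left hd hc
        have hcard : (Nat.card (L ⊓ D : Subgroup G)).Coprime p := by
          have h1 := Subgroup.relIndex_mul_relIndex ⊥ (K ⊓ D) (L ⊓ D) bot_le hle
          rw [Subgroup.relIndex_bot_left, Subgroup.relIndex_bot_left] at h1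
          rw [← h1]
          exact Nat.Coprime.mul_left hpg hcop
        exact helper1.le_pPrimeCore hL'n hcard
  have h2 := key ⊤ hps
  rwa [top_inf_eq] at h2

end Cfsg.Agent.helper15.DualHH
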