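import Mathlib
import Cfsg.Agent.Lib_helper15_S4e
import Cfsg.Agent.Lib_helper15_S4b
import Cfsg.Agent.Lib_helper15_CD

/-! From a "transvection on a hyperplane's fixed points" to a four-group with `S₃` action
(helper15). -/

set_option autoImplicit false

namespace Cfsg.Agent.helper15.S4F

variable {X : Type*} [Group X]

/-- an element `v k v k⁻¹` (with `v² = 1`) fixed by `k` of odd order is trivial, provided it is
an involution -/
theorem fixed_comm_eq_one {k v : X} {N : ℕ} (hN : Odd N) (hk : k ^ N = 1) (hv : v * v = 1)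
    (hfix : k * (v * (k * v * k⁻¹)) * k⁻¹ = v * (k * v * k⁻¹))
    (hw2 : (v * (k * v * k⁻¹)) * (v * (k * v * k⁻¹)) = 1) : v * (k * v * k⁻¹) = 1 := by
  obtain ⟨w, hw⟩ : ∃ w, w = v * (k * v * k⁻¹) := ⟨_, rfl⟩
  rw [← hw] at hfix hw2 ⊢
  have hcomm : Commute k w := by
    show k * w = w * k
    calc k * w = (k * w * k⁻¹) * k := by group
      _ = w * k := by rw [hfix]
  have hcm : ∀ m : ℕ, k ^ m * w * (k ^ m)⁻¹ = w := by
    intro m
    have := (hcomm.pow_left m).eq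
    rw [this]; group
  have key : ∀ m : ℕ, w ^ m = v * (k ^ m * v * (k ^ m)⁻¹) := by
    intro m
    induction m with
    | zero => simp [hv]
    | succ m ih =>
      have e1 : w = (k ^ m * v * (k ^ m)⁻¹) * (k ^ (m + 1) * v * (k ^ (m + 1))⁻¹) := by
        conv_lhs => rw [← hcm m, hw]
        rw [pow_succ]; group
      have e2 : (k ^ m * v * (k ^ m)⁻¹) * (k ^ m * v * (k ^ m)⁻¹) = 1 := by
        have : (k ^ m * v * (k ^ m)⁻¹) * (k ^ m * v * (k ^ m)⁻¹) = k ^ m * (v * v) * (k ^ m)⁻¹ := by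
          group
        rw [this, hv]; group
      rw [pow_succ, ih]
      conv_lhs => rw [e1]
      calc v * (k ^ m * v * (k ^ m)⁻¹) *
            ((k ^ m * v * (k ^ m)⁻¹) * (k ^ (m + 1) * v * (k ^ (m + 1))⁻¹))
          = v * ((k ^ m * v * (k ^ m)⁻¹) * (k ^ m * v * (k ^ m)⁻¹)) *
              (k ^ (m + 1) * v * (k ^ (m + 1))⁻¹) := by simp only [mul_assoc]
        _ = v * (k ^ (m + 1) * v * (k ^ (m + 1))⁻¹) := by rw [e2, mul_one]
  have h1 : w ^ N = 1 := by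
    rw [key N, hk]; simp [hv]
  obtain ⟨c, hc⟩ := hN
  have h2 : w ^ N = w := by
    rw [hc, pow_succ, pow_mul, pow_two, hw2, one_pow, one_mul]
  rw [← h2, h1]

/-- the main step: a four-group with an `S₃`-action -/
theorem exists_four_of_data [Finite X]
    (H V : Subgroup X) [hHn : H.Normal] [hVn : V.Normal]
    (hV2 : ∀ v ∈ V, v * v = 1) (hVc : ∀ v ∈ V, ∀ w ∈ V, v * w = w * v)
    (hHV : H ≤ Subgroup.centralizer (V : Set X)) (Nn : Subgroup X)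
    (hVH : Nn ⊓ Subgroup.centralizer (V : Set X) ≤ H)
    (B B' : Subgroup X) (hB'B : B' ≤ B) (hBc : ∀ a ∈ B, ∀ b ∈ B, a * b = b * a)
    (hB2 : IsPGroup 2 ↥B)
    (k : X) (hkNn : k ∈ Nn) {N : ℕ} (hN : Odd N) (hkN : k ^ N = 1) (hkH : k ∉ H)
    (b₀ : X) (hb₀ : b₀ ∈ B) (hb₀2 : b₀ * b₀ ∈ H) (hb₀k : b₀ * k * b₀⁻¹ * k ∈ H)
    (hB'k : ∀ a ∈ B', a * k * a⁻¹ * k⁻¹ ∈ H)
    (hcard : Nat.card ↥(V ⊓ Subgroup.centralizer (B' : Set X)) ≤
      2 * Nat.card ↥(V ⊓ Subgroup.centralizer (B : Set X))) :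
    ∃ U : Subgroup X, U ≤ V ∧ Nat.card U = 4 ∧
      k ∈ Subgroup.normalizer (U : Set X) ∧ k ∉ Subgroup.centralizer (U : Set X) ∧
      b₀ ∈ Subgroup.normalizer (U : Set X) ∧ b₀ ∉ Subgroup.centralizer (U : Set X) := by
  haveI : Fact (Nat.Prime 2) := ⟨Nat.prime_two⟩
  have hHc : ∀ h ∈ H, ∀ v ∈ V, h * v = v * h := by
    intro h hh v hv
    exact (Subgroup.mem_centralizer_iff.mp (hHV hh) v hv).symm
  have hVinv : ∀ v ∈ V, v⁻¹ = v := fun v hv => inv_eq_of_mul_eq_one_left (hV2 v hv)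
  have hact : ∀ g g' : X, g * g'⁻¹ ∈ H → ∀ v ∈ V, g * v * g⁻¹ = g' * v * g'⁻¹ := by
    intro g g' hgg v hv
    have h1 := hHc _ hgg _ (hVn.conj_mem v hv g')
    calc g * v * g⁻¹ = (g * g'⁻¹) * (g' * v * g'⁻¹) * (g * g'⁻¹)⁻¹ := by group
      _ = (g' * v * g'⁻¹) * (g * g'⁻¹) * (g * g'⁻¹)⁻¹ := by rw [h1]
      _ = g' * v * g'⁻¹ := by group
  obtain ⟨W, hW⟩ : ∃ W : Subgroup X, W = V ⊓ Subgroup.centralizer (B' : Set X) := ⟨_, rfl⟩
  obtain ⟨C₁, hC₁⟩ : ∃ C₁ : Subgroup X, C₁ = V ⊓ Subgroup.centralizer (B : Set X) := ⟨_, rfl⟩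
  rw [← hW, ← hC₁] at hcard
  have hWmem : ∀ w, w ∈ W ↔ w ∈ V ∧ ∀ a ∈ B', a * w = w * a := by
    intro w; rw [hW, Subgroup.mem_inf, Subgroup.mem_centralizer_iff]; rfl
  have hC₁mem : ∀ w, w ∈ C₁ ↔ w ∈ V ∧ ∀ a ∈ B, a * w = w * a := by
    intro w; rw [hC₁, Subgroup.mem_inf, Subgroup.mem_centralizer_iff]; rfl
  have hWV : W ≤ V := fun w hw => ((hWmem w).mp hw).1
  have hC₁W : C₁ ≤ W := by
    intro w hw
    rw [hWmem]; rw [hC₁mem] at hw
    exact ⟨hw.1, fun a ha => hw.2 a (hB'B ha)⟩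
  -- invariance of `W`
  have hWinv : ∀ g : X, (∀ a ∈ B', a * g * a⁻¹ * g⁻¹ ∈ H) → ∀ w ∈ W, g * w * g⁻¹ ∈ W := by
    intro g hg w hw
    rw [hWmem] at hw ⊢
    refine ⟨hVn.conj_mem w hw.1 g, fun a ha => ?_⟩
    have h1 : a * w * a⁻¹ = w := by rw [hw.2 a ha]; group
    have h2 : a * (g * w * g⁻¹) * a⁻¹ = g * w * g⁻¹ := by
      calc a * (g * w * g⁻¹) * a⁻¹ = (a * g * a⁻¹) * (a * w * a⁻¹) * (a * g * a⁻¹)⁻¹ := by group
        _ = (a * g * a⁻¹) * w * (a * g * a⁻¹)⁻¹ := by rw [h1]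
        _ = g * w * g⁻¹ := hact _ _ (hg a ha) w hw.1
    calc a * (g * w * g⁻¹) = (a * (g * w * g⁻¹) * a⁻¹) * a := by group
      _ = g * w * g⁻¹ * a := by rw [h2]
  have hWk : ∀ w ∈ W, k * w * k⁻¹ ∈ W := hWinv k hB'k
  have hWk' : ∀ w ∈ W, k⁻¹ * w * k⁻¹⁻¹ ∈ W := by
    apply hWinv
    intro a ha
    have h1 := hB'k a ha
    have e : a * k⁻¹ * a⁻¹ * k⁻¹⁻¹ = k⁻¹ * (a * k * a⁻¹ * k⁻¹)⁻¹ * k⁻¹⁻¹ := by group
    rw [e]
    exact hHn.conj_mem _ (H.inv_mem h1) _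
  have hWb : ∀ w ∈ W, b₀ * w * b₀⁻¹ ∈ W := by
    apply hWinv
    intro a ha
    have : a * b₀ = b₀ * a := hBc a (hB'B ha) b₀ hb₀
    have e : a * b₀ * a⁻¹ * b₀⁻¹ = 1 := by rw [this]; group
    rw [e]; exact H.one_mem
  -- the commutator map on `V`
  have hδmul : ∀ v ∈ V, ∀ w ∈ V,
      (v * w) * (k * (v * w) * k⁻¹) = (v * (k * v * k⁻¹)) * (w * (k * w * k⁻¹)) := by
    intro v hv w hw
    have h1 : w * (k * v * k⁻¹) = (k * v * k⁻¹) * w := hVc w hw _ (hVn.conj_mem v hv k)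
    calc (v * w) * (k * (v * w) * k⁻¹) = v * (w * (k * v * k⁻¹)) * (k * w * k⁻¹) := by group
      _ = v * ((k * v * k⁻¹) * w) * (k * w * k⁻¹) := by rw [h1]
      _ = (v * (k * v * k⁻¹)) * (w * (k * w * k⁻¹)) := by group
  let δV : ↥V →* X :=
    { toFun := fun v => (v : X) * (k * (v : X) * k⁻¹)
      map_one' := by simp
      map_mul' := fun v w => hδmul v v.2 w w.2 }
  let δW : ↥W →* X :=
    { toFun := fun v => (v : X) * (k * (v : X) * k⁻¹)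
      map_one' := by simp
      map_mul' := fun v w => hδmul v (hWV v.2) w (hWV w.2) }
  obtain ⟨V₁, hV₁⟩ : ∃ V₁ : Subgroup X, V₁ = δV.range := ⟨_, rfl⟩
  obtain ⟨U, hU⟩ : ∃ U : Subgroup X, U = δW.range := ⟨_, rfl⟩
  have hV₁mem : ∀ x, x ∈ V₁ ↔ ∃ v ∈ V, x = v * (k * v * k⁻¹) := by
    intro x
    rw [hV₁, MonoidHom.mem_range]
    constructor
    · rintro ⟨v, rfl⟩; exact ⟨v, v.2, rfl⟩
    · rintro ⟨v, hv, rfl⟩; exact ⟨⟨v, hv⟩, rfl⟩
  have hUmem : ∀ x, x ∈ U ↔ ∃ w ∈ W, x = w * (k * w * k⁻¹) := by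
    intro x
    rw [hU, MonoidHom.mem_range]
    constructor
    · rintro ⟨v, rfl⟩; exact ⟨v, v.2, rfl⟩
    · rintro ⟨v, hv, rfl⟩; exact ⟨⟨v, hv⟩, rfl⟩
  have hV₁V : V₁ ≤ V := by
    intro x hx
    obtain ⟨v, hv, rfl⟩ := (hV₁mem x).mp hx
    exact V.mul_mem hv (hVn.conj_mem v hv k)
  have hUV₁ : U ≤ V₁ := by
    intro x hx
    obtain ⟨w, hw, rfl⟩ := (hUmem x).mp hx
    exact (hV₁mem _).mpr ⟨w, hWV hw, rfl⟩
  have hUV : U ≤ V := hUV₁.trans hV₁V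
  have hUW : U ≤ W := by
    intro x hx
    obtain ⟨w, hw, rfl⟩ := (hUmem x).mp hx
    exact W.mul_mem hw (hWk w hw)
  -- fixed points of `k` in `V₁` are trivial
  have hCF : ∀ x ∈ V₁, k * x * k⁻¹ = x → x = 1 := by
    intro x hx hfix
    obtain ⟨v, hv, rfl⟩ := (hV₁mem x).mp hx
    exact fixed_comm_eq_one hN hkN (hV2 v hv) hfix (hV2 _ (hV₁V hx))
  -- `V₁` is nontrivial
  have hV₁ne : V₁ ≠ ⊥ := by
    intro hbot
    apply hkH
    apply hVH
    refine Subgroup.mem_inf.2 ⟨hkNn, ?_⟩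
    rw [Subgroup.mem_centralizer_iff]
    intro v hv
    have h1 : v * (k * v * k⁻¹) ∈ V₁ := (hV₁mem _).mpr ⟨v, hv, rfl⟩
    rw [hbot, Subgroup.mem_bot] at h1
    have h2 : k * v * k⁻¹ = v := by
      have : k * v * k⁻¹ = v⁻¹ := by
        rw [eq_comm, inv_eq_iff_mul_eq_one]; exact h1
      rw [this, hVinv v hv]
    calc v * k = (k * v * k⁻¹) * k := by rw [h2]
      _ = k * v := by group
  -- `V₁` is `B'`-invariant
  have hV₁inv : ∀ a ∈ B', ∀ x ∈ V₁, a * x * a⁻¹ ∈ V₁ := by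
    intro a ha x hx
    obtain ⟨v, hv, rfl⟩ := (hV₁mem x).mp hx
    rw [hV₁mem]
    refine ⟨a * v * a⁻¹, hVn.conj_mem v hv a, ?_⟩
    have h1 := hact (a * k * a⁻¹) k (hB'k a ha) (a * v * a⁻¹) (hVn.conj_mem v hv a)
    rw [← h1]; group
  have hV2grp : IsPGroup 2 ↥V := by
    intro v
    refine ⟨1, ?_⟩
    apply Subtype.ext
    rw [pow_one, Subgroup.coe_pow, Subgroup.coe_one, pow_two]
    exact hV2 v v.2
  obtain ⟨x, hxV₁, hx1, hxfix⟩ := exists_fixed_ne_one (hB2.to_le hB'B) (hV2grp.to_le hV₁V)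
    hV₁ne hV₁inv
  have hxW : x ∈ W := by
    rw [hWmem]
    refine ⟨hV₁V hxV₁, fun a ha => ?_⟩
    calc a * x = (a * x * a⁻¹) * a := by group
      _ = x * a := by rw [hxfix a ha]
  have hxk : k * x * k⁻¹ ≠ x := fun h => hx1 (hCF x hxV₁ h)
  -- `U` is nontrivial
  have hUne : U ≠ ⊥ := by
    intro hbot
    have h1 : x * (k * x * k⁻¹) ∈ U := (hUmem _).mpr ⟨x, hxW, rfl⟩
    rw [hbot, Subgroup.mem_bot] at h1
    apply hxk
    have : k * x * k⁻¹ = x⁻¹ := by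
      rw [eq_comm, inv_eq_iff_mul_eq_one]; exact h1
    rw [this, hVinv x (hV₁V hxV₁)]
  -- `k` and `b₀` normalize `U`
  have hkU : ∀ y ∈ U, k * y * k⁻¹ ∈ U := by
    intro y hy
    obtain ⟨w, hw, rfl⟩ := (hUmem y).mp hy
    rw [hUmem]
    exact ⟨k * w * k⁻¹, hWk w hw, by group⟩
  have hbU : ∀ y ∈ U, b₀ * y * b₀⁻¹ ∈ U := by
    intro y hy
    obtain ⟨w, hw, rfl⟩ := (hUmem y).mp hy
    rw [hUmem]
    have hw' : b₀ * w * b₀⁻¹ ∈ W := hWb w hw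
    have hw'' : k⁻¹ * (b₀ * w * b₀⁻¹) * k⁻¹⁻¹ ∈ W := hWk' _ hw'
    refine ⟨k⁻¹ * (b₀ * w * b₀⁻¹) * k⁻¹⁻¹, hw'', ?_⟩
    have h1 := hact (b₀ * k * b₀⁻¹) k⁻¹ (by rw [inv_inv]; exact hb₀k) (b₀ * w * b₀⁻¹) (hWV hw')
    have e1 : b₀ * (w * (k * w * k⁻¹)) * b₀⁻¹ =
        (b₀ * w * b₀⁻¹) * ((b₀ * k * b₀⁻¹) * (b₀ * w * b₀⁻¹) * (b₀ * k * b₀⁻¹)⁻¹) := by group
    rw [e1, h1]
    have e2 : k * (k⁻¹ * (b₀ * w * b₀⁻¹) * k⁻¹⁻¹) * k⁻¹ = b₀ * w * b₀⁻¹ := by group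
    rw [e2]
    exact hVc _ (hWV hw') _ (hWV hw'')
  have hkNU : k ∈ Subgroup.normalizer (U : Set X) := Subgroup.mem_normalizer_fintype hkU
  have hbNU : b₀ ∈ Subgroup.normalizer (U : Set X) := Subgroup.mem_normalizer_fintype hbU
  obtain ⟨u, huU, hu1⟩ : ∃ u ∈ U, u ≠ 1 := by
    by_contra hcon
    push Not at hcon
    apply hUne
    rw [eq_bot_iff]
    intro y hy
    rw [Subgroup.mem_bot]; exact hcon y hy
  have huk : k * u * k⁻¹ ≠ u := fun h => hu1 (hCF u (hUV₁ huU) h)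
  have hkCU : k ∉ Subgroup.centralizer (U : Set X) := by
    intro h
    apply huk
    rw [Subgroup.mem_centralizer_iff] at h
    rw [← h u huU]; group
  have hbCU : b₀ ∉ Subgroup.centralizer (U : Set X) := by
    intro h
    rw [Subgroup.mem_centralizer_iff] at h
    apply huk
    have hku : k * u * k⁻¹ ∈ U := hkU u huU
    have h1 : b₀ * (k * u * k⁻¹) * b₀⁻¹ = k * u * k⁻¹ := by rw [← h _ hku]; group
    have h2 : b₀ * u * b₀⁻¹ = u := by rw [← h _ huU]; group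
    have h3 := hact (b₀ * k * b₀⁻¹) k⁻¹ (by rw [inv_inv]; exact hb₀k) u (hUV huU)
    have h4 : k * u * k⁻¹ = k⁻¹ * u * k⁻¹⁻¹ := by
      rw [← h3, ← h1]
      conv_rhs => rw [← h2]
      group
    have h5 : k ^ 2 * u = u * k ^ 2 := by
      have e : k ^ 2 * u = k * (k * u * k⁻¹) * k := by rw [pow_two]; group
      rw [e, h4, pow_two]; group
    have h6 := commute_of_sq_commute hN hkN h5
    rw [h6]; group
  -- the order of `U`
  have hker : ∀ w : ↥W, w ∈ δW.ker ↔ k * (w : X) = (w : X) * k := by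
    intro w
    rw [MonoidHom.mem_ker]
    show (w : X) * (k * (w : X) * k⁻¹) = 1 ↔ _
    constructor
    · intro h
      have h1 : k * (w : X) * k⁻¹ = (w : X)⁻¹ := by
        rw [eq_comm, inv_eq_iff_mul_eq_one]; exact h
      rw [hVinv _ (hWV w.2)] at h1
      calc k * (w : X) = (k * (w : X) * k⁻¹) * k := by group
        _ = (w : X) * k := by rw [h1]
    · intro h
      have h1 : k * (w : X) * k⁻¹ = (w : X) := by rw [h]; group
      rw [h1]; exact hV2 _ (hWV w.2)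
  obtain ⟨C₂, hC₂⟩ : ∃ C₂ : Subgroup X, C₂ = C₁.map (MulAut.conj k).toMonoidHom := ⟨_, rfl⟩
  have hC₂W : C₂ ≤ W := by
    rw [hC₂]
    rintro _ ⟨c, hc, rfl⟩
    exact hWk c (hC₁W hc)
  have hcardC₂ : Nat.card C₂ = Nat.card C₁ := by
    rw [hC₂]; exact Subgroup.card_map_of_injective (MulAut.conj k).injective
  have hr₁ : C₁.relIndex W ≤ 2 := by
    have h1 := Cfsg.Agent.helper15.card_mul_relIndex_of_le hC₁W
    have hpos : 0 < Nat.card C₁ := Nat.card_pos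
    have : Nat.card C₁ * C₁.relIndex W ≤ Nat.card C₁ * 2 := by rw [h1, mul_comm]; exact hcard
    exact Nat.le_of_mul_le_mul_left this hpos
  have hr₂ : C₂.relIndex W ≤ 2 := by
    have h1 := Cfsg.Agent.helper15.card_mul_relIndex_of_le hC₂W
    have hpos : 0 < Nat.card C₂ := Nat.card_pos
    have : Nat.card C₂ * C₂.relIndex W ≤ Nat.card C₂ * 2 := by
      rw [h1, hcardC₂, mul_comm]; exact hcard
    exact Nat.le_of_mul_le_mul_left this hpos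
  have hIW : C₁ ⊓ C₂ ≤ W := inf_le_left.trans hC₁W
  have hrI : (C₁ ⊓ C₂).relIndex W ≤ 4 := by
    have := Subgroup.relIndex_inf_le (H := C₁) (K := C₂) (L := W)
    calc (C₁ ⊓ C₂).relIndex W ≤ C₁.relIndex W * C₂.relIndex W := this
      _ ≤ 2 * 2 := Nat.mul_le_mul hr₁ hr₂
  have hcardI : Nat.card W ≤ 4 * Nat.card ↥(C₁ ⊓ C₂) := by
    have h1 := Cfsg.Agent.helper15.card_mul_relIndex_of_le hIW
    rw [← h1, mul_comm]
    exact Nat.mul_le_mul_right _ hrI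
  have hIker : (C₁ ⊓ C₂).subgroupOf W ≤ δW.ker := by
    intro w hw
    rw [Subgroup.mem_subgroupOf] at hw
    rw [hker]
    obtain ⟨hw1, hw2⟩ := Subgroup.mem_inf.mp hw
    rw [hC₂] at hw2
    obtain ⟨c, hc, hcw⟩ := hw2
    have hcw' : k * c * k⁻¹ = (w : X) := hcw
    have hb1 : b₀ * (w : X) = (w : X) * b₀ := ((hC₁mem _).mp hw1).2 b₀ hb₀
    have hb2 : b₀ * c = c * b₀ := ((hC₁mem _).mp hc).2 b₀ hb₀
    have hb3 : (k * b₀ * k⁻¹) * (w : X) = (w : X) * (k * b₀ * k⁻¹) := by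
      rw [← hcw']
      calc k * b₀ * k⁻¹ * (k * c * k⁻¹) = k * (b₀ * c) * k⁻¹ := by group
        _ = k * (c * b₀) * k⁻¹ := by rw [hb2]
        _ = k * c * k⁻¹ * (k * b₀ * k⁻¹) := by group
    have hg : (b₀ * (k * b₀ * k⁻¹)) * k ^ 2 ∈ H := by
      have e : (b₀ * (k * b₀ * k⁻¹)) * k ^ 2 = (b₀ * k * b₀⁻¹ * k) * (k⁻¹ * (b₀ * b₀) * k⁻¹⁻¹) := by
        rw [pow_two]; group
      rw [e]
      exact H.mul_mem hb₀k (hHn.conj_mem _ hb₀2 _)
    have hg2 := hHc _ hg _ (hWV w.2)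
    have hg3 : (b₀ * (k * b₀ * k⁻¹)) * (w : X) = (w : X) * (b₀ * (k * b₀ * k⁻¹)) := by
      rw [mul_assoc, hb3, ← mul_assoc, hb1, mul_assoc]
    have h5 : k ^ 2 * (w : X) = (w : X) * k ^ 2 := by
      have e : k ^ 2 = (b₀ * (k * b₀ * k⁻¹))⁻¹ * ((b₀ * (k * b₀ * k⁻¹)) * k ^ 2) := by group
      have hg4 : (b₀ * (k * b₀ * k⁻¹))⁻¹ * (w : X) = (w : X) * (b₀ * (k * b₀ * k⁻¹))⁻¹ := by
        have hc : Commute (b₀ * (k * b₀ * k⁻¹)) (w : X) := hg3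
        exact hc.inv_left.eq
      rw [e, mul_assoc, hg2, ← mul_assoc, hg4, mul_assoc]
    exact commute_of_sq_commute hN hkN h5
  have hcardker : Nat.card ↥(C₁ ⊓ C₂) ≤ Nat.card δW.ker := by
    have h1 : Nat.card ↥((C₁ ⊓ C₂).subgroupOf W) = Nat.card ↥(C₁ ⊓ C₂) :=
      Nat.card_congr (Subgroup.subgroupOfEquivOfLe hIW).toEquiv
    rw [← h1]
    exact Subgroup.card_le_of_le hIker
  have hcardU : Nat.card δW.ker * Nat.card U = Nat.card W := by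
    rw [hU, ← Subgroup.index_ker]
    exact Subgroup.card_mul_index _
  have hUle : Nat.card U ≤ 4 := by
    have hposW : 0 < Nat.card W := Nat.card_pos
    have hposU : 0 < Nat.card U := Nat.card_pos
    have h1 : Nat.card W * Nat.card U ≤ Nat.card W * 4 := by
      calc Nat.card W * Nat.card U ≤ (4 * Nat.card ↥(C₁ ⊓ C₂)) * Nat.card U :=
            Nat.mul_le_mul_right _ hcardI
        _ ≤ (4 * Nat.card δW.ker) * Nat.card U :=
            Nat.mul_le_mul_right _ (Nat.mul_le_mul_left _ hcardker)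
        _ = 4 * (Nat.card δW.ker * Nat.card U) := by ring
        _ = Nat.card W * 4 := by rw [hcardU]; ring
    exact Nat.le_of_mul_le_mul_left h1 hposW
  obtain ⟨i, hi⟩ := IsPGroup.iff_card.mp (hV2grp.to_le hUV)
  have hU4 : Nat.card U = 4 := by
    have hi0 : i ≠ 0 := by
      intro h0
      rw [h0, pow_zero, Subgroup.card_eq_one] at hi
      exact hUne hi
    have hi1 : i ≠ 1 := by
      intro h1
      rw [h1, pow_one] at hi
      obtain ⟨y, hy1, hyu⟩ := (Nat.card_eq_two_iff' (1 : ↥U)).mp hi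
      have e1 : (⟨u, huU⟩ : ↥U) = y := hyu _ (fun h => hu1 (congrArg Subtype.val h))
      have e2 : (⟨k * u * k⁻¹, hkU u huU⟩ : ↥U) = y := by
        apply hyu
        intro h
        have h1 : k * u * k⁻¹ = 1 := congrArg Subtype.val h
        apply hu1
        have : u = k⁻¹ * (k * u * k⁻¹) * k := by group
        rw [this, h1]; group
      apply huk
      have := e2.trans e1.symm
      exact congrArg Subtype.val this
    have hi2 : i ≤ 2 := by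
      by_contra h
      push Not at h
      have : 2 ^ 3 ≤ 2 ^ i := Nat.pow_le_pow_right (by norm_num) h
      omega
    interval_cases i
    · exact absurd rfl hi0
    · exact absurd rfl hi1
    · rw [hi]; norm_num
  exact ⟨U, hUV, hU4, hkNU, hkCU, hbNU, hbCU⟩

end Cfsg.Agent.helper15.S4F
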