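import Mathlib
import Cfsg.Agent.Lib_helper15_S4f
import Cfsg.Agent.Lib_helper15_Gen4

/-! A best offender `B` (elementary abelian modulo `H`) on `V`, acting faithfully on a normal
subgroup of odd order of `X/H`, gives a four-group with `S₃`-action (helper15).  General form
of `exists_four_of_offender`. -/

set_option autoImplicit false

namespace Cfsg.Agent.helper15.S4F

universe u

variable {X : Type u} [Group X]

theorem exists_four_of_offender' [Finite X]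
    (H V : Subgroup X) [hHn : H.Normal] [hVn : V.Normal]
    (hV2 : ∀ v ∈ V, v * v = 1) (hVc : ∀ v ∈ V, ∀ w ∈ V, v * w = w * v)
    (hHV : H ≤ Subgroup.centralizer (V : Set X)) (Nn : Subgroup X)
    (hVH : Nn ⊓ Subgroup.centralizer (V : Set X) ≤ H)
    (hH2 : IsPGroup 2 ↥H)
    (Kb : Subgroup (X ⧸ H)) [hKbn : Kb.Normal] (hKbN : Kb ≤ Nn.map (QuotientGroup.mk' H))
    (hKbodd : (Nat.card Kb).Coprime 2)
    (B : Subgroup X) (hBc : ∀ a ∈ B, ∀ b ∈ B, a * b = b * a) (hB2 : IsPGroup 2 ↥B)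
    (hBsq : ∀ b ∈ B, b * b ∈ H) (hBH : ¬ B ≤ H)
    (hfaith : ∀ b ∈ B, (∀ y ∈ Kb, (QuotientGroup.mk' H b) * y = y * (QuotientGroup.mk' H b)) →
      b ∈ H)
    (hbest : ∀ B' : Subgroup X, B' ≤ B →
      Nat.card B' * Nat.card ↥(V ⊓ Subgroup.centralizer (B' : Set X)) ≤
        Nat.card B * Nat.card ↥(V ⊓ Subgroup.centralizer (B : Set X))) :
    ∃ U : Subgroup X, U ≤ V ∧ Nat.card U = 4 ∧
      ∃ k, k ∈ Subgroup.normalizer (U : Set X) ∧ k ∉ Subgroup.centralizer (U : Set X) ∧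
        (∃ N, Odd N ∧ k ^ N = 1) ∧
        ∃ b ∈ B, b ∈ Subgroup.normalizer (U : Set X) ∧ b ∉ Subgroup.centralizer (U : Set X) := by
  haveI : Fact (Nat.Prime 2) := ⟨Nat.prime_two⟩
  obtain ⟨mk, hmk⟩ : ∃ mk : X →* X ⧸ H, mk = QuotientGroup.mk' H := ⟨_, rfl⟩
  rw [← hmk] at hfaith hKbN
  have hsurj : Function.Surjective mk := by rw [hmk]; exact QuotientGroup.mk'_surjective _
  have hmk1 : ∀ x, x ∈ H ↔ mk x = 1 := fun x => by
    have h0 : x ∈ mk.ker ↔ mk x = 1 := MonoidHom.mem_ker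
    rw [hmk, QuotientGroup.ker_mk'] at h0
    rw [hmk]
    exact h0
  obtain ⟨Bb, hBb⟩ : ∃ Bb : Subgroup (X ⧸ H), Bb = B.map mk := ⟨_, rfl⟩
  have hBbc : ∀ a ∈ Bb, ∀ b ∈ Bb, a * b = b * a := by
    rw [hBb]
    rintro _ ⟨a, ha, rfl⟩ _ ⟨b, hb, rfl⟩
    rw [← map_mul, ← map_mul, hBc a ha b hb]
  have hBb2 : ∀ a ∈ Bb, a * a = 1 := by
    rw [hBb]
    rintro _ ⟨a, ha, rfl⟩
    rw [← map_mul, ← hmk1]
    exact hBsq a ha
  have hBbinv : ∀ a ∈ Bb, a⁻¹ = a := fun a ha => inv_eq_of_mul_eq_one_left (hBb2 a ha)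
  -- the minimal invariant subgroup with nontrivial action
  let T := {K₁ : Subgroup (X ⧸ H) // K₁ ≤ Kb ∧ (∀ a ∈ Bb, ∀ y ∈ K₁, a * y * a⁻¹ ∈ K₁) ∧
    ∃ a ∈ Bb, ∃ y ∈ K₁, a * y ≠ y * a}
  have hT : Nonempty T := by
    obtain ⟨b₁, hb₁, hb₁H⟩ : ∃ b₁ ∈ B, b₁ ∉ H := by
      by_contra hcon
      push Not at hcon
      exact hBH hcon
    obtain ⟨y₀, hy₀, hne⟩ : ∃ y₀ ∈ Kb, mk b₁ * y₀ ≠ y₀ * mk b₁ := by
      by_contra hcon
      push Not at hcon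
      exact hb₁H (hfaith b₁ hb₁ hcon)
    exact ⟨⟨Kb, le_rfl, fun a _ y hy => hKbn.conj_mem y hy a,
      mk b₁, by rw [hBb]; exact ⟨b₁, hb₁, rfl⟩, y₀, hy₀, hne⟩⟩
  haveI : Finite T := Subtype.finite
  obtain ⟨⟨K₁, hK₁K, hK₁inv, β, hβ, y, hyK₁, hβy⟩, hmin⟩ :=
    Finite.exists_min (fun K : T => Nat.card ↥K.1)
  have hK₁odd : ¬ 2 ∣ Nat.card K₁ := by
    intro h
    have h1 : 2 ∣ Nat.card Kb := dvd_trans h (Subgroup.card_dvd_of_le hK₁K)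
    have h2 : Nat.gcd (Nat.card Kb) 2 = 2 := Nat.gcd_eq_right h1
    rw [hKbodd] at h2
    omega
  -- proper invariant subgroups are centralized
  have hprop : ∀ K' : Subgroup (X ⧸ H), K' ≤ K₁ → (∀ a ∈ Bb, ∀ y ∈ K', a * y * a⁻¹ ∈ K') →
      K' ≠ K₁ → ∀ a ∈ Bb, ∀ y ∈ K', a * y = y * a := by
    intro K' hK'K₁ hK'inv hne a ha y hy
    by_contra hay
    apply hne
    have := hmin ⟨K', hK'K₁.trans hK₁K, hK'inv, a, ha, y, hy, hay⟩
    exact Subgroup.eq_of_le_of_card_ge hK'K₁ this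
  -- centralizers of elements of `Bb` in `K₁`
  have hcent : ∀ c ∈ Bb, (∃ y ∈ K₁, c * y ≠ y * c) →
      ∀ a ∈ Bb, ∀ y ∈ K₁ ⊓ Subgroup.centralizer ({c} : Set (X ⧸ H)), a * y = y * a := by
    intro c hc hcy
    apply hprop _ inf_le_left
    · intro a ha y hy
      refine Subgroup.mem_inf.2 ⟨hK₁inv a ha y hy.1, ?_⟩
      rw [Subgroup.mem_centralizer_iff]
      intro z hz
      rw [Set.mem_singleton_iff.mp hz]
      have h1 : c * y = y * c := Subgroup.mem_centralizer_iff.mp hy.2 c rfl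
      have h2 : c * a = a * c := hBbc c hc a ha
      calc c * (a * y * a⁻¹) = (c * a) * y * a⁻¹ := by group
        _ = a * (c * y) * a⁻¹ := by rw [h2]; group
        _ = a * (y * c) * a⁻¹ := by rw [h1]
        _ = a * y * (c * a⁻¹) := by group
        _ = a * y * (a⁻¹ * c) := by
            have h3 : c * a⁻¹ = a⁻¹ * c := by
              rw [hBbinv a ha]; exact h2
            rw [h3]
        _ = a * y * a⁻¹ * c := by group
    · intro heq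
      obtain ⟨y', hy', hcy'⟩ := hcy
      apply hcy'
      have : y' ∈ K₁ ⊓ Subgroup.centralizer ({c} : Set (X ⧸ H)) := by rw [heq]; exact hy'
      exact Subgroup.mem_centralizer_iff.mp this.2 c rfl
  have hnorm : ∀ c ∈ Bb, c ∈ Subgroup.normalizer (K₁ : Set (X ⧸ H)) := fun c hc =>
    Subgroup.mem_normalizer_fintype (fun y hy => hK₁inv c hc y hy)
  -- the kernel of the action
  obtain ⟨B₁, hB₁⟩ : ∃ B₁ : Subgroup X,
      B₁ = B ⊓ (Subgroup.centralizer (K₁ : Set (X ⧸ H))).comap mk := ⟨_, rfl⟩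
  have hB₁mem : ∀ a, a ∈ B₁ ↔ a ∈ B ∧ ∀ y ∈ K₁, mk a * y = y * mk a := by
    intro a
    rw [hB₁, Subgroup.mem_inf, Subgroup.mem_comap, Subgroup.mem_centralizer_iff]
    constructor
    · rintro ⟨h1, h2⟩
      exact ⟨h1, fun y hy => (h2 y hy).symm⟩
    · rintro ⟨h1, h2⟩
      exact ⟨h1, fun y hy => (h2 y hy).symm⟩
  have hB₁B : B₁ ≤ B := fun a ha => ((hB₁mem a).mp ha).1
  have hpair : ∀ b₁ ∈ B, ∀ b₂ ∈ B, b₁ ∉ B₁ → b₂ ∉ B₁ → b₁ * b₂ ∈ B₁ := by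
    intro b₁ hb₁ b₂ hb₂ h1 h2
    by_contra h3
    have hnc : ∀ b ∈ B, b ∉ B₁ → ∃ y ∈ K₁, mk b * y ≠ y * mk b := by
      intro b hb hb'
      by_contra hcon
      push Not at hcon
      exact hb' ((hB₁mem b).mpr ⟨hb, hcon⟩)
    have hc₁ : mk b₁ ∈ Bb := by rw [hBb]; exact ⟨b₁, hb₁, rfl⟩
    have hc₂ : mk b₂ ∈ Bb := by rw [hBb]; exact ⟨b₂, hb₂, rfl⟩
    have hc₁₂ : mk b₁ * mk b₂ ∈ Bb := Bb.mul_mem hc₁ hc₂
    have hgen := Cfsg.Agent.helper15.le_iSup_centralizer_of_pair (p := 2)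
      (x := mk b₁) (y := mk b₂) (hBbc _ hc₁ _ hc₂)
      (by rw [pow_two]; exact hBb2 _ hc₁) (by rw [pow_two]; exact hBb2 _ hc₂) K₁
      (hnorm _ hc₁) (hnorm _ hc₂) hK₁odd
    have hle : (K₁ ⊓ Subgroup.centralizer ({mk b₂} : Set (X ⧸ H))) ⊔
        ⨆ k : ℕ, K₁ ⊓ Subgroup.centralizer ({mk b₁ * mk b₂ ^ k} : Set (X ⧸ H)) ≤
        Subgroup.centralizer ((Bb : Subgroup (X ⧸ H)) : Set (X ⧸ H)) := by
      apply sup_le
      · intro y hy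
        rw [Subgroup.mem_centralizer_iff]
        intro a ha
        exact hcent (mk b₂) hc₂ (hnc b₂ hb₂ h2) a ha y hy
      · apply iSup_le
        intro k y hy
        rw [Subgroup.mem_centralizer_iff]
        intro a ha
        rcases Nat.even_or_odd k with hk | hk
        · obtain ⟨r, rfl⟩ := hk
          have e : mk b₂ ^ (r + r) = 1 := by
            rw [← two_mul, pow_mul, pow_two, hBb2 _ hc₂, one_pow]
          rw [e, mul_one] at hy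
          exact hcent (mk b₁) hc₁ (hnc b₁ hb₁ h1) a ha y hy
        · obtain ⟨r, rfl⟩ := hk
          have e : mk b₂ ^ (2 * r + 1) = mk b₂ := by
            rw [pow_succ, pow_mul, pow_two, hBb2 _ hc₂, one_pow, one_mul]
          rw [e] at hy
          have h4 : ∃ y ∈ K₁, (mk b₁ * mk b₂) * y ≠ y * (mk b₁ * mk b₂) := by
            have := hnc (b₁ * b₂) (B.mul_mem hb₁ hb₂) h3
            rwa [map_mul] at this
          exact hcent (mk b₁ * mk b₂) hc₁₂ h4 a ha y hy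
    have h5 := Subgroup.mem_centralizer_iff.mp (hle (hgen hyK₁)) β hβ
    exact hβy h5
  -- the element `b₀`
  obtain ⟨b₀, hb₀, rfl⟩ : ∃ b₀ ∈ B, mk b₀ = β := by rw [hBb] at hβ; exact hβ
  have hb₀B₁ : b₀ ∉ B₁ := by
    intro h
    exact hβy (((hB₁mem b₀).mp h).2 y hyK₁)
  have hidx : B₁.relIndex B = 2 := by
    rw [Subgroup.relIndex_eq_two_iff_exists_notMem_and']
    refine ⟨b₀, hb₀, hb₀B₁, ?_⟩
    intro b hb
    by_cases hbB₁ : b ∈ B₁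
    · right; exact hbB₁
    · left; exact hpair b₀ hb₀ b hb hb₀B₁ hbB₁
  -- the inverted element
  have hβ2 : mk b₀ * mk b₀ = 1 := hBb2 _ hβ
  obtain ⟨kb, hkb⟩ : ∃ kb, kb = y * (mk b₀ * y * (mk b₀)⁻¹)⁻¹ := ⟨_, rfl⟩
  have hkbK₁ : kb ∈ K₁ := by
    rw [hkb]; exact K₁.mul_mem hyK₁ (K₁.inv_mem (hK₁inv _ hβ y hyK₁))
  have hkb1 : kb ≠ 1 := by
    intro h
    rw [hkb, mul_inv_eq_one] at h
    apply hβy
    calc mk b₀ * y = (mk b₀ * y * (mk b₀)⁻¹) * mk b₀ := by group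
      _ = y * mk b₀ := by rw [← h]
  have hkbβ : mk b₀ * kb * (mk b₀)⁻¹ = kb⁻¹ := by
    rw [hkb]
    have e : mk b₀ * (y * (mk b₀ * y * (mk b₀)⁻¹)⁻¹) * (mk b₀)⁻¹ =
        (mk b₀ * y * (mk b₀)⁻¹) * ((mk b₀ * mk b₀) * y * (mk b₀ * mk b₀)⁻¹)⁻¹ := by group
    rw [e, hβ2]; group
  obtain ⟨N, hNdef⟩ : ∃ N, N = Nat.card Kb := ⟨_, rfl⟩
  have hNodd : Odd N := by rw [hNdef]; exact Nat.Coprime.odd_of_right hKbodd
  have hkbN : kb ^ N = 1 := by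
    rw [hNdef, ← orderOf_dvd_iff_pow_eq_one]
    exact Subgroup.orderOf_dvd_natCard Kb (hK₁K hkbK₁)
  obtain ⟨k₀, hk₀Nn, hk₀⟩ := hKbN (hK₁K hkbK₁)
  have hk₀N : k₀ ^ N ∈ H := by rw [hmk1, map_pow, hk₀, hkbN]
  obtain ⟨j, hj⟩ := hH2 ⟨k₀ ^ N, hk₀N⟩
  have hj' : (k₀ ^ N) ^ 2 ^ j = 1 := by
    have := congrArg Subtype.val hj
    rwa [Subgroup.coe_pow, Subgroup.coe_one] at this
  obtain ⟨k, hk⟩ : ∃ k, k = k₀ ^ 2 ^ j := ⟨_, rfl⟩
  have hkNn : k ∈ Nn := by rw [hk]; exact Nn.pow_mem hk₀Nn _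
  have hkN : k ^ N = 1 := by
    rw [hk, ← pow_mul, mul_comm, pow_mul]; exact hj'
  obtain ⟨y', hy'⟩ : ∃ y', y' = kb ^ 2 ^ j := ⟨_, rfl⟩
  have hmkk : mk k = y' := by rw [hk, map_pow, hk₀, hy']
  have hoddK : ∀ z ∈ Kb, ∀ i : ℕ, z ^ 2 ^ i = 1 → z = 1 := by
    intro z hz i hzi
    have h1 : orderOf z ∣ 2 ^ i := orderOf_dvd_of_pow_eq_one hzi
    have h2 : orderOf z ∣ Nat.card Kb := Subgroup.orderOf_dvd_natCard Kb hz
    have h3 : Nat.Coprime (Nat.card Kb) (2 ^ i) := Nat.Coprime.pow_right i hKbodd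
    have h4 : orderOf z ∣ Nat.gcd (Nat.card Kb) (2 ^ i) := Nat.dvd_gcd h2 h1
    rw [h3] at h4
    exact orderOf_eq_one_iff.mp (Nat.dvd_one.mp h4)
  have hy'K₁ : y' ∈ K₁ := by rw [hy']; exact K₁.pow_mem hkbK₁ _
  have hy'1 : y' ≠ 1 := by
    intro h
    rw [hy'] at h
    exact hkb1 (hoddK kb (hK₁K hkbK₁) j h)
  have hy'β : mk b₀ * y' * (mk b₀)⁻¹ = y'⁻¹ := by
    rw [hy', ← conj_pow, hkbβ, inv_pow]
  have hkH : k ∉ H := by
    rw [hmk1, hmkk]; exact hy'1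
  have hb₀k : b₀ * k * b₀⁻¹ * k ∈ H := by
    rw [hmk1, map_mul, map_mul, map_mul, map_inv, hmkk, hy'β, inv_mul_cancel]
  have hB'k : ∀ a ∈ B₁, a * k * a⁻¹ * k⁻¹ ∈ H := by
    intro a ha
    have h1 := ((hB₁mem a).mp ha).2 y' hy'K₁
    have h2 : mk a * y' * (mk a)⁻¹ = y' := by rw [h1]; group
    rw [hmk1, map_mul, map_mul, map_mul, map_inv, map_inv, hmkk, h2, mul_inv_cancel]
  have hcardB : Nat.card B = Nat.card B₁ * 2 := by
    rw [← hidx]; exact (Cfsg.Agent.helper15.card_mul_relIndex_of_le hB₁B).symm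
  have hcard : Nat.card ↥(V ⊓ Subgroup.centralizer (B₁ : Set X)) ≤
      2 * Nat.card ↥(V ⊓ Subgroup.centralizer (B : Set X)) := by
    have h1 := hbest B₁ hB₁B
    rw [hcardB, mul_assoc] at h1
    exact Nat.le_of_mul_le_mul_left h1 Nat.card_pos
  obtain ⟨U, hUV, hU4, hkNU, hkCU, hbNU, hbCU⟩ := exists_four_of_data H V hV2 hVc hHV Nn hVH B B₁
    hB₁B hBc hB2 k hkNn hNodd hkN hkH b₀ hb₀ (hBsq b₀ hb₀) hb₀k hB'k hcard
  exact ⟨U, hUV, hU4, k, hkNU, hkCU, ⟨N, hNodd, hkN⟩, b₀, hb₀, hbNU, hbCU⟩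

end Cfsg.Agent.helper15.S4F
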