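import Cfsg.Statements.S0444
import Cfsg.Agent.Lib_helper1_Dihedral
import Mathlib

set_option autoImplicit false
open Cfsg

namespace Cfsg.Agent.S0444

theorem equiv_of_dihedral {A B : Type*} [Group A] [Group B] (n m : ℕ) (h : n = m)
    (a : DihedralGroup n ≃* A) (b : DihedralGroup m ≃* B) : Nonempty (A ≃* B) := by
  subst h
  exact ⟨a.symm.trans b⟩

theorem perm3_equiv :
    Nonempty (DihedralGroup (orderOf (Equiv.swap (0 : Fin 3) 1 * Equiv.swap 1 2)) ≃*
      Equiv.Perm (Fin 3)) := by
  have hx : Equiv.swap (0 : Fin 3) 1 * Equiv.swap (0 : Fin 3) 1 = 1 := by decide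
  have hy : Equiv.swap (1 : Fin 3) 2 * Equiv.swap (1 : Fin 3) 2 = 1 := by decide
  have hx1 : Equiv.swap (0 : Fin 3) 1 ≠ 1 := by decide
  have hy1 : Equiv.swap (1 : Fin 3) 2 ≠ 1 := by decide
  have ho : orderOf (Equiv.swap (0 : Fin 3) 1 * Equiv.swap 1 2) = 3 := by
    haveI : Fact (Nat.Prime 3) := ⟨Nat.prime_three⟩
    exact orderOf_eq_prime (by decide) (by decide)
  have hinj := helper1.dihedralHom_injective (Equiv.swap (0 : Fin 3) 1) (Equiv.swap 1 2) hx hy hx1 hy1
  have hbij : Function.Bijective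
      (helper1.dihedralHom (Equiv.swap (0 : Fin 3) 1) (Equiv.swap 1 2) hx hy) := by
    apply hinj.bijective_of_nat_card_le
    rw [DihedralGroup.nat_card, ho, Nat.card_perm, Nat.card_eq_fintype_card, Fintype.card_fin]
    decide
  exact ⟨MulEquiv.ofBijective _ hbij⟩


/-- Two members of a set of 3-transpositions which do not commute generate a subgroup isomorphic to the symmetric group on three letters. -/
theorem result {G : Type*} [Group G] {E : Set G} (hE : Cfsg.IsThreeTranspositionSet E) {d e : G} (hd : d ∈ E) (he : e ∈ E) (h : ¬ Commute d e) : Nonempty (Subgroup.closure ({d, e} : Set G) ≃* Equiv.Perm (Fin 3)) := by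
  have hd2 : orderOf d = 2 := hE.1 d hd
  have he2 : orderOf e = 2 := hE.1 e he
  have hdd : d * d = 1 := helper1.sq_eq_one_of_orderOf_eq_two hd2
  have hee : e * e = 1 := helper1.sq_eq_one_of_orderOf_eq_two he2
  have hd1 : d ≠ 1 := helper1.ne_one_of_orderOf_eq_two hd2
  have he1 : e ≠ 1 := helper1.ne_one_of_orderOf_eq_two he2
  have hdinv : d⁻¹ = d := inv_eq_of_mul_eq_one_left hdd
  have heinv : e⁻¹ = e := inv_eq_of_mul_eq_one_left hee
  have h3 : (d * e) ^ 3 = 1 := by
    rcases hE.2 d hd e he with h2 | h3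
    · exfalso
      apply h
      -- (de)^2 = 1 gives de = ed
      have h4 : d * e * (d * e) = 1 := by rw [← pow_two]; exact h2
      have h5 : d * e = (d * e)⁻¹ := eq_inv_of_mul_eq_one_left h4
      rw [mul_inv_rev, hdinv, heinv] at h5
      exact h5
    · exact h3
  have hne : d * e ≠ 1 := by
    intro h1
    apply h
    have : d = e⁻¹ := eq_inv_of_mul_eq_one_left h1
    rw [heinv] at this
    rw [this]
  have ho : orderOf (d * e) = 3 := by
    haveI : Fact (Nat.Prime 3) := ⟨Nat.prime_three⟩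
    exact orderOf_eq_prime h3 hne
  have ho' : orderOf (Equiv.swap (0 : Fin 3) 1 * Equiv.swap 1 2) = 3 := by
    haveI : Fact (Nat.Prime 3) := ⟨Nat.prime_three⟩
    exact orderOf_eq_prime (by decide) (by decide)
  obtain ⟨b⟩ := perm3_equiv
  exact equiv_of_dihedral _ _ (ho.trans ho'.symm) (helper1.dihedralEquiv d e hdd hee hd1 he1) b

end Cfsg.Agent.S0444
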