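import Cfsg.Statements.S3755
import Mathlib
import Cfsg.Agent.Lib_helper7_Gen4
import Cfsg.Agent.Lib_helper7_Coprime
import Cfsg.Agent.Lib_helper7_Quot
import Cfsg.Agent.Lib_helper1_Core
import Cfsg.Agent.S0444
-- import your own Cfsg.Agent.* helpers here

set_option autoImplicit false
open Cfsg

namespace Cfsg.Agent.S3755


open Cfsg.Agent.helper7

theorem involves_s3 {M' : Type*} [Group M'] {a y : M'} (ha1 : a ≠ 1) (ha2 : a * a = 1)
    (hy : orderOf y = 3) (hay : a * y * a⁻¹ = y⁻¹) : Cfsg.Involves (Equiv.Perm (Fin 3)) M' := by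
  have hainv : a⁻¹ = a := inv_eq_of_mul_eq_one_left ha2
  have h1 : a * y * a = y⁻¹ := by rw [← hay, hainv]
  have hee : (a * y) * (a * y) = 1 := by
    calc (a * y) * (a * y) = (a * y * a) * y := by group
      _ = 1 := by rw [h1]; group
  have he1 : a * y ≠ 1 := by
    intro h
    have hya : y = a := by
      have : y = a⁻¹ := by
        rw [eq_inv_iff_mul_eq_one]
        have h2 : y * a = a⁻¹ * (a * y) * a := by group
        rw [h2, h, hainv]; simpa using ha2
      rw [this, hainv]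
    have : orderOf y ∣ 2 := by
      apply orderOf_dvd_of_pow_eq_one
      rw [pow_two, hya, ha2]
    rw [hy] at this
    omega
  have hprod : a * (a * y) = y := by rw [← mul_assoc, ha2, one_mul]
  have ho : orderOf (a * (a * y)) = 3 := by rw [hprod, hy]
  have ho' : orderOf (Equiv.swap (0 : Fin 3) 1 * Equiv.swap 1 2) = 3 := by
    haveI : Fact (Nat.Prime 3) := ⟨Nat.prime_three⟩
    exact orderOf_eq_prime (by decide) (by decide)
  obtain ⟨b⟩ := Cfsg.Agent.S0444.perm3_equiv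
  obtain ⟨φ⟩ := Cfsg.Agent.S0444.equiv_of_dihedral _ _ (ho.trans ho'.symm)
    (Cfsg.Agent.helper1.dihedralEquiv a (a * y) ha2 hee ha1 he1) b
  have hbot : (⊥ : Subgroup M').subgroupOf (Subgroup.closure ({a, a * y} : Set M')) = ⊥ :=
    Subgroup.bot_subgroupOf _
  have hn : ((⊥ : Subgroup M').subgroupOf (Subgroup.closure ({a, a * y} : Set M'))).Normal := by
    rw [hbot]; infer_instance
  refine ⟨Subgroup.closure ({a, a * y} : Set M'), ⊥, hn, ⟨?_⟩⟩
  exact (QuotientGroup.quotientMulEquivOfEq hbot).trans (QuotientGroup.quotientBot.trans φ)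

theorem conj_pow_of_commute {G : Type*} [Group G] {g u c : G} (h : g * u * g⁻¹ = u * c)
    (hc : g * c = c * g) (n : ℕ) : g ^ n * u * (g ^ n)⁻¹ = u * c ^ n := by
  induction n with
  | zero => simp
  | succ n ih =>
    have hcn : g * c ^ n = c ^ n * g := by
      have h0 : Commute g c := hc
      exact (h0.pow_right n).eq
    calc g ^ (n + 1) * u * (g ^ (n + 1))⁻¹ = g * (g ^ n * u * (g ^ n)⁻¹) * g⁻¹ := by
          rw [pow_succ']; group
      _ = g * (u * c ^ n) * g⁻¹ := by rw [ih]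
      _ = (g * u * g⁻¹) * (g * c ^ n * g⁻¹) := by group
      _ = (u * c) * (c ^ n) := by rw [h, hcn]; group
      _ = u * c ^ (n + 1) := by rw [pow_succ']; group

theorem relIndex_pos' {X : Type*} [Group X] [Finite X] (H K : Subgroup X) : 0 < H.relIndex K :=
  Nat.pos_of_dvd_of_pos (H.relIndex_dvd_card K) Nat.card_pos

theorem card_mul_relIndex'' {X : Type*} [Group X] {A B : Subgroup X} (h : A ≤ B) :
    Nat.card A * A.relIndex B = Nat.card B := by
  have := Subgroup.relIndex_mul_relIndex (⊥ : Subgroup X) A B bot_le h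
  rwa [Subgroup.relIndex_bot_left, Subgroup.relIndex_bot_left] at this

theorem dihedral_index {X : Type*} [Group X] [Finite X] {U : Subgroup X} (hU : IsPGroup 2 ↥U)
    {a y : X} {r : ℕ} (hr : r.Prime) (hr5 : 5 ≤ r) (ha2 : a * a = 1) (hay : a * y * a⁻¹ = y⁻¹)
    (hy : orderOf y = r) (hyU : y ∈ Subgroup.normalizer (U : Set X))
    {u : X} (hu : u ∈ U) (hyu : y * u * y⁻¹ ≠ u) :
    4 ≤ (U ⊓ Subgroup.centralizer ({a} : Set X)).relIndex U := by
  haveI : Fact (Nat.Prime 2) := ⟨Nat.prime_two⟩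
  by_contra hlt
  push Not at hlt
  obtain ⟨C₀, hC₀⟩ : ∃ C₀, C₀ = U ⊓ Subgroup.centralizer ({a} : Set X) := ⟨_, rfl⟩
  rw [← hC₀] at hlt
  have hC₀U : C₀ ≤ U := hC₀ ▸ inf_le_left
  have hainv : a⁻¹ = a := inv_eq_of_mul_eq_one_left ha2
  have h1 : a * y * a = y⁻¹ := by rw [← hay, hainv]
  have hyr : y ^ r = 1 := by rw [← hy]; exact pow_orderOf_eq_one y
  -- relIndex ≤ 2
  have h2 : C₀.relIndex U ≤ 2 := by
    have hdvd : C₀.relIndex U ∣ Nat.card U := Subgroup.relIndex_dvd_card _ _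
    obtain ⟨n, hn⟩ := hU.exists_card_eq
    rw [hn] at hdvd
    obtain ⟨k, hk, hk2⟩ := (Nat.dvd_prime_pow Nat.prime_two).1 hdvd
    rw [hk2] at hlt ⊢
    have hk' : k < 2 := by
      by_contra h; push Not at h
      have : 2 ^ 2 ≤ 2 ^ k := Nat.pow_le_pow_right (by norm_num) h
      omega
    interval_cases k <;> simp
  obtain ⟨C₁, hC₁⟩ : ∃ C₁, C₁ = cj y C₀ := ⟨_, rfl⟩
  have hC₁U : C₁ ≤ U := by
    rw [hC₁]; rintro _ ⟨c, hc, rfl⟩
    exact (Subgroup.mem_normalizer_iff.mp hyU c).mp (hC₀U hc)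
  have hcard : Nat.card C₁ = Nat.card C₀ := by rw [hC₁]; exact card_cj y C₀
  have h2' : C₁.relIndex U ≤ 2 := by
    have e1 := card_mul_relIndex'' hC₀U
    have e2 := card_mul_relIndex'' hC₁U
    rw [hcard, ← e1] at e2
    have hpos : 0 < Nat.card C₀ := Nat.card_pos
    have := Nat.eq_of_mul_eq_mul_left hpos e2
    omega
  obtain ⟨Cy, hCy⟩ : ∃ Cy, Cy = U ⊓ Subgroup.centralizer ({y} : Set X) := ⟨_, rfl⟩
  have hCyU : Cy ≤ U := hCy ▸ inf_le_left
  have hr2 : ¬ 2 ∣ r := by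
    intro h
    rcases (Nat.dvd_prime hr).1 h with h | h <;> omega
  obtain ⟨t, ht⟩ : ∃ t, r = 2 * t + 1 := ⟨r / 2, by omega⟩
  have hle : C₀ ⊓ C₁ ≤ Cy := by
    intro c hc
    have hc0 : c ∈ C₀ := hc.1
    have hc1 : c ∈ C₁ := hc.2
    rw [hCy]
    refine ⟨hC₀U hc0, ?_⟩
    rw [hC₀] at hc0
    have hca : Commute a c := by
      have := Subgroup.mem_centralizer_iff.1 hc0.2 a (Set.mem_singleton a)
      exact this
    have hcb : Commute (y * a * y⁻¹) c := by
      rw [hC₁] at hc1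
      obtain ⟨c', hc', hcc'⟩ := hc1
      rw [hC₀] at hc'
      have hac' : a * c' = c' * a :=
        Subgroup.mem_centralizer_iff.1 hc'.2 a (Set.mem_singleton a)
      have hcc : c = y * c' * y⁻¹ := by rw [← hcc']; rfl
      show y * a * y⁻¹ * c = c * (y * a * y⁻¹)
      rw [hcc]
      calc y * a * y⁻¹ * (y * c' * y⁻¹) = y * (a * c') * y⁻¹ := by group
        _ = y * (c' * a) * y⁻¹ := by rw [hac']
        _ = y * c' * y⁻¹ * (y * a * y⁻¹) := by group
    have hz : a * (y * a * y⁻¹) = (y ^ 2)⁻¹ := by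
      calc a * (y * a * y⁻¹) = (a * y * a) * y⁻¹ := by group
        _ = (y ^ 2)⁻¹ := by rw [h1]; group
    have hcz : Commute ((y ^ 2)⁻¹) c := by
      rw [← hz]; exact hca.mul_left hcb
    have hcz2 : Commute (y ^ 2) c := by
      have := hcz.inv_left
      rwa [inv_inv] at this
    have hcy : Commute ((y ^ 2) ^ (t + 1)) c := hcz2.pow_left (t + 1)
    have hyy : (y ^ 2) ^ (t + 1) = y := by
      rw [← pow_mul, show 2 * (t + 1) = r + 1 by omega, pow_succ, hyr, one_mul]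
    rw [hyy] at hcy
    show c ∈ Subgroup.centralizer ({y} : Set X)
    rw [Subgroup.mem_centralizer_iff]
    intro h hh
    rw [Set.mem_singleton_iff.1 hh]
    exact hcy.eq
  have h4 : Cy.relIndex U ≤ 4 := by
    have e1 : (C₀ ⊓ C₁).relIndex U ≤ C₀.relIndex U * C₁.relIndex U := Subgroup.relIndex_inf_le
    have e2 : Cy.relIndex U ∣ (C₀ ⊓ C₁).relIndex U := Subgroup.relIndex_dvd_of_le_left U hle
    have e3 := Nat.le_of_dvd (relIndex_pos' _ _) e2
    have e4 : C₀.relIndex U * C₁.relIndex U ≤ 2 * 2 := Nat.mul_le_mul h2 h2'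
    omega
  -- y^i normalizes U
  have hpowN : ∀ i : ℕ, y ^ i * u * (y ^ i)⁻¹ ∈ U := fun i =>
    (Subgroup.mem_normalizer_iff.mp (Subgroup.pow_mem _ hyU i) u).mp hu
  -- key: no two distinct conjugates in the same coset
  have key : ∀ i j : ℕ, i < j → j < 5 →
      (y ^ i * u * (y ^ i)⁻¹)⁻¹ * (y ^ j * u * (y ^ j)⁻¹) ∈ Cy → False := by
    intro i j hij hj5 hw
    obtain ⟨d, hd⟩ : ∃ d, j = i + d := ⟨j - i, by omega⟩
    have hd1 : 1 ≤ d := by omega
    have hd4 : d ≤ 4 := by omega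
    obtain ⟨w, hwdef⟩ : ∃ w, w = (y ^ i * u * (y ^ i)⁻¹)⁻¹ * (y ^ j * u * (y ^ j)⁻¹) := ⟨_, rfl⟩
    rw [← hwdef] at hw
    have hwy : Commute y w := by
      rw [hCy] at hw
      exact Subgroup.mem_centralizer_iff.1 hw.2 y (Set.mem_singleton y)
    have hwyi : Commute (y ^ i) w := hwy.pow_left i
    have hc_eq : u⁻¹ * (y ^ d * u * (y ^ d)⁻¹) = w := by
      have e1 : (y ^ i)⁻¹ * w * y ^ i = w := by
        have := hwyi.eq
        calc (y ^ i)⁻¹ * w * y ^ i = (y ^ i)⁻¹ * (w * y ^ i) := by group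
          _ = (y ^ i)⁻¹ * (y ^ i * w) := by rw [this]
          _ = w := by group
      rw [← e1, hwdef, hd, pow_add]
      group
    have hcU : w ∈ U := hCyU hw
    have hconj : y ^ d * u * (y ^ d)⁻¹ = u * w := by rw [← hc_eq]; group
    have hcomm : y ^ d * w = w * y ^ d := (hwy.pow_left d).eq
    have hcop : Nat.Coprime d r := by
      rw [Nat.coprime_comm, Nat.Prime.coprime_iff_not_dvd hr]
      intro h
      have := Nat.le_of_dvd (by omega) h
      omega
    obtain ⟨m, -, hm⟩ := Nat.exists_mul_mod_eq_one_of_coprime hcop (by omega : 1 < r)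
    have hym : (y ^ d) ^ m = y := by
      rw [← pow_mul, ← pow_mod_orderOf, hy, hm, pow_one]
    have h5 := conj_pow_of_commute hconj hcomm m
    rw [hym] at h5
    have hcomm' : y * w ^ m = w ^ m * y := (hwy.pow_right m).eq
    have h6 := conj_pow_of_commute h5 hcomm' r
    rw [hyr] at h6
    have h7 : (w ^ m) ^ r = 1 := by
      have : u = u * (w ^ m) ^ r := by simpa using h6
      exact (mul_eq_left).1 this.symm
    obtain ⟨k, hk⟩ := hU ⟨w ^ m, Subgroup.pow_mem _ hcU m⟩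
    have h8 : (w ^ m) ^ (2 ^ k) = 1 := by
      have := congrArg Subtype.val hk
      simpa using this
    have hcop2 : Nat.Coprime (2 ^ k) r :=
      Nat.Coprime.pow_left k ((Nat.coprime_primes Nat.prime_two hr).2 (by omega))
    have h9 : w ^ m = 1 := (pow_eq_one_iff_of_coprime hcop2).1 ⟨h8, h7⟩
    rw [h9, mul_one] at h5
    exact hyu h5
  -- pigeonhole
  let f : Fin 5 → ↥U ⧸ Cy.subgroupOf U := fun i =>
    QuotientGroup.mk ⟨y ^ (i : ℕ) * u * (y ^ (i : ℕ))⁻¹, hpowN i⟩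
  haveI : Finite (↥U ⧸ Cy.subgroupOf U) := inferInstance
  have hcardQ : Nat.card (↥U ⧸ Cy.subgroupOf U) < Nat.card (Fin 5) := by
    have : Nat.card (↥U ⧸ Cy.subgroupOf U) = Cy.relIndex U := rfl
    rw [this, Nat.card_fin]; omega
  haveI : Fintype (↥U ⧸ Cy.subgroupOf U) := Fintype.ofFinite _
  obtain ⟨i, j, hij, hfij⟩ := Fintype.exists_ne_map_eq_of_card_lt f (by
    rw [← Nat.card_eq_fintype_card, ← Nat.card_eq_fintype_card]; exact hcardQ)
  have hmem : ∀ i j : Fin 5, f i = f j →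
      (y ^ (i : ℕ) * u * (y ^ (i : ℕ))⁻¹)⁻¹ * (y ^ (j : ℕ) * u * (y ^ (j : ℕ))⁻¹) ∈ Cy := by
    intro i j h
    have := QuotientGroup.eq.1 h
    rw [Subgroup.mem_subgroupOf] at this
    exact this
  rcases lt_or_gt_of_ne hij with h | h
  · exact key i j h j.2 (hmem i j hfij)
  · exact key j i h i.2 (hmem j i hfij.symm)

theorem inverted_commutator {G : Type*} [Group G] {a x : G} (ha2 : a * a = 1) :
    a * (x⁻¹ * (a * x * a⁻¹)) * a⁻¹ = (x⁻¹ * (a * x * a⁻¹))⁻¹ := by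
  have hainv : a⁻¹ = a := inv_eq_of_mul_eq_one_left ha2
  have h3 : ∀ z, a * (a * z) = z := fun z => by rw [← mul_assoc, ha2, one_mul]
  rw [hainv, eq_inv_iff_mul_eq_one]
  simp [mul_assoc, h3, ha2]

theorem mem_normalizer_inf_centralizer {G : Type*} [Group G] {V B : Subgroup G} {g : G}
    (hgV : g ∈ Subgroup.normalizer (V : Set G)) (hgB : g ∈ Subgroup.centralizer (B : Set G)) :
    g ∈ Subgroup.normalizer ((V ⊓ Subgroup.centralizer (B : Set G) : Subgroup G) : Set G) := by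
  rw [Subgroup.mem_normalizer_iff]
  intro h
  constructor
  · rintro ⟨h1, h2⟩
    exact ⟨(Subgroup.mem_normalizer_iff.mp hgV h).mp h1,
      Subgroup.mul_mem _ (Subgroup.mul_mem _ hgB h2) (Subgroup.inv_mem _ hgB)⟩
  · rintro ⟨h1, h2⟩
    refine ⟨(Subgroup.mem_normalizer_iff.mp hgV h).mpr h1, ?_⟩
    have : h = g⁻¹ * (g * h * g⁻¹) * g := by group
    rw [this]
    exact Subgroup.mul_mem _ (Subgroup.mul_mem _ (Subgroup.inv_mem _ hgB) h2) hgB

theorem bound {X : Type*} [Group X] [Finite X] (M V K : Subgroup X)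
    (hV : Cfsg.IsElementaryAbelian 2 V) (hMV : M ≤ Subgroup.normalizer (V : Set X))
    (hfaith : M ⊓ Subgroup.centralizer (V : Set X) = ⊥)
    (hKM : K ≤ M) (hMK : M ≤ Subgroup.normalizer (K : Set X)) (hKodd : ¬ 2 ∣ Nat.card ↥K)
    (hCK : M ⊓ Subgroup.centralizer (K : Set X) ≤ K)
    (hno : ∀ a ∈ M, ∀ y ∈ K, a ≠ 1 → a * a = 1 → orderOf y = 3 → a * y * a⁻¹ = y⁻¹ → False) :
    ∀ (n : ℕ) (A : Subgroup X), Nat.card ↥A = n → A ≤ M → Cfsg.IsElementaryAbelian 2 A →
      Nat.card ↥A ^ 2 ≤ (V ⊓ Subgroup.centralizer (A : Set X)).relIndex V := by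
  haveI : Fact (Nat.Prime 2) := ⟨Nat.prime_two⟩
  intro n
  induction n using Nat.strong_induction_on with
  | _ n ih =>
  intro A hn hAM hA
  by_cases hA1 : A = ⊥
  · subst hA1
    rw [Subgroup.card_bot, one_pow]
    exact relIndex_pos' _ _
  have hA2g : IsPGroup 2 ↥A := isPGroup_of_elemAb hA
  have hAK : A ≤ Subgroup.normalizer (K : Set X) := hAM.trans hMK
  obtain ⟨k, hk⟩ := hA2g.exists_card_eq
  have hk0 : k ≠ 0 := by
    rintro rfl
    exact hA1 (Subgroup.eq_bot_of_card_eq _ (by simpa using hk))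
  have hAnot : ¬ K ≤ Subgroup.centralizer (A : Set X) := by
    intro h
    have hAC : A ≤ Subgroup.centralizer (K : Set X) := Subgroup.le_centralizer_iff.1 h
    have hAK' : A ≤ K := (le_inf hAM hAC).trans hCK
    have hdvd : Nat.card ↥A ∣ Nat.card ↥K := Subgroup.card_dvd_of_le hAK'
    apply hKodd
    refine dvd_trans ?_ hdvd
    rw [hk]
    exact dvd_pow_self 2 hk0
  have hB : ∃ B : Subgroup X, B ≤ A ∧ B.relIndex A = 2 ∧
      ¬ K ⊓ Subgroup.centralizer (B : Set X) ≤ Subgroup.centralizer (A : Set X) := by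
    by_cases h4 : 2 ^ 2 ≤ Nat.card ↥A
    · exact exists_hyperplane_not_le hA h4 hKodd hAK hAnot
    · refine ⟨⊥, bot_le, ?_, ?_⟩
      · have hk1 : k = 1 := by
          rw [hk] at h4
          by_contra hne
          have : 2 ≤ k := by omega
          exact h4 (Nat.pow_le_pow_right (by norm_num) this)
        rw [Subgroup.relIndex_bot_left, hk, hk1]; norm_num
      · intro h
        apply hAnot
        intro x hx
        apply h
        refine ⟨hx, ?_⟩
        show x ∈ Subgroup.centralizer (((⊥ : Subgroup X) : Subgroup X) : Set X)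
        rw [Subgroup.mem_centralizer_iff]
        intro b hb
        have hb1 : b = 1 := Subgroup.mem_bot.1 hb
        rw [hb1, one_mul, mul_one]
  obtain ⟨B, hBA, hBidx, hBnot⟩ := hB
  obtain ⟨x, hx, hxA⟩ := SetLike.not_le_iff_exists.1 hBnot
  have hxK : x ∈ K := hx.1
  have hxB : x ∈ Subgroup.centralizer (B : Set X) := hx.2
  rw [Subgroup.mem_centralizer_iff] at hxA
  push Not at hxA
  obtain ⟨a₀, ha₀, hax⟩ := hxA
  have ha₀A : a₀ ∈ A := ha₀
  have ha2 : a₀ * a₀ = 1 := by rw [← pow_two]; exact hA.2 a₀ ha₀A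
  have hainv : a₀⁻¹ = a₀ := inv_eq_of_mul_eq_one_left ha2
  have ha1 : a₀ ≠ 1 := by
    rintro rfl
    exact hax (by rw [one_mul, mul_one])
  have ha₀B : a₀ ∈ Subgroup.centralizer (B : Set X) := by
    rw [Subgroup.mem_centralizer_iff]
    intro b hb
    exact comm_of_isMulCommutative hA.1 (hBA hb) ha₀A
  have hconjK : a₀ * x * a₀⁻¹ ∈ K := (Subgroup.mem_normalizer_iff.mp (hAK ha₀A) x).mp hxK
  have hconjB : a₀ * x * a₀⁻¹ ∈ Subgroup.centralizer (B : Set X) :=
    Subgroup.mul_mem _ (Subgroup.mul_mem _ ha₀B hxB) (Subgroup.inv_mem _ ha₀B)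
  obtain ⟨y₀, hy₀⟩ : ∃ y₀, y₀ = x⁻¹ * (a₀ * x * a₀⁻¹) := ⟨_, rfl⟩
  have hy₀K : y₀ ∈ K := by rw [hy₀]; exact K.mul_mem (K.inv_mem hxK) hconjK
  have hy₀B : y₀ ∈ Subgroup.centralizer (B : Set X) := by
    rw [hy₀]; exact Subgroup.mul_mem _ (Subgroup.inv_mem _ hxB) hconjB
  have hy₀1 : y₀ ≠ 1 := by
    intro h
    rw [hy₀] at h
    apply hax
    have h' : a₀ * x * a₀⁻¹ = x := by
      have := congrArg (fun z => x * z) h
      simpa using this
    calc a₀ * x = (a₀ * x * a₀⁻¹) * a₀ := by group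
      _ = x * a₀ := by rw [h']
  have hinv₀ : a₀ * y₀ * a₀⁻¹ = y₀⁻¹ := by rw [hy₀]; exact inverted_commutator ha2
  have hord0 : orderOf y₀ ≠ 0 := (orderOf_pos y₀).ne'
  have hord1 : orderOf y₀ ≠ 1 := by rwa [Ne, orderOf_eq_one_iff]
  obtain ⟨r, hr, hrd⟩ : ∃ r, r.Prime ∧ r ∣ orderOf y₀ :=
    ⟨_, Nat.minFac_prime hord1, Nat.minFac_dvd _⟩
  obtain ⟨y, hydef⟩ : ∃ y, y = y₀ ^ (orderOf y₀ / r) := ⟨_, rfl⟩
  have hyr : orderOf y = r := by rw [hydef]; exact orderOf_pow_orderOf_div hord0 hrd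
  have hyK : y ∈ K := by rw [hydef]; exact K.pow_mem hy₀K _
  have hyB : y ∈ Subgroup.centralizer (B : Set X) := by
    rw [hydef]; exact Subgroup.pow_mem _ hy₀B _
  have hay : a₀ * y * a₀⁻¹ = y⁻¹ := by
    rw [hydef, ← conj_pow, hinv₀, inv_pow]
  have hy1 : y ≠ 1 := by
    intro h
    rw [h, orderOf_one] at hyr
    exact hr.one_lt.ne hyr
  have hrK : r ∣ Nat.card ↥K := hrd.trans (Subgroup.orderOf_dvd_natCard K hy₀K)
  have hr2 : r ≠ 2 := by
    rintro rfl
    exact hKodd hrK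
  have hr3 : r ≠ 3 := by
    intro h
    exact hno a₀ (hAM ha₀A) y hyK ha1 ha2 (hyr.trans h) hay
  have hr4 : r ≠ 4 := by
    intro h
    rw [h] at hr
    exact absurd hr (by norm_num)
  have hr5 : 5 ≤ r := by
    have := hr.two_le
    omega
  haveI : Fact r.Prime := ⟨hr⟩
  obtain ⟨U, hUdef⟩ : ∃ U, U = V ⊓ Subgroup.centralizer (B : Set X) := ⟨_, rfl⟩
  have hV2 : IsPGroup 2 ↥V := isPGroup_of_elemAb hV
  have hU2 : IsPGroup 2 ↥U := by rw [hUdef]; exact hV2.to_le inf_le_left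
  have hyM : y ∈ M := hKM hyK
  have hyU : y ∈ Subgroup.normalizer (U : Set X) := by
    rw [hUdef]; exact mem_normalizer_inf_centralizer (hMV hyM) hyB
  have hex : ∃ u ∈ U, y * u * y⁻¹ ≠ u := by
    by_contra hall
    push Not at hall
    have hzB : Subgroup.zpowers y ≤ Subgroup.centralizer (B : Set X) :=
      (Subgroup.zpowers_le).2 hyB
    have hQ : IsPGroup r ↥(Subgroup.zpowers y) := by
      apply IsPGroup.of_card (n := 1)
      rw [Nat.card_zpowers, hyr, pow_one]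
    have hQV : Subgroup.zpowers y ≤ Subgroup.normalizer (V : Set X) :=
      (Subgroup.zpowers_le).2 (hMV hyM)
    have hzU : Subgroup.zpowers y ≤ Subgroup.centralizer (U : Set X) := by
      rw [Subgroup.zpowers_le, Subgroup.mem_centralizer_iff]
      intro u hu
      have := hall u hu
      calc u * y = (y * u * y⁻¹) * y := by rw [this]
        _ = y * u := by group
    have hC : V ⊓ Subgroup.centralizer (B : Set X) ≤
        Subgroup.centralizer ((Subgroup.zpowers y : Subgroup X) : Set X) := by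
      rw [← hUdef]; exact Subgroup.le_centralizer_iff.1 hzU
    have hth := thompson_PxQ_prime (p := 2) (q := r) hr2 (hA2g.to_le hBA) hQ hV2
      (Subgroup.le_centralizer_iff.1 hzB) ((hBA.trans hAM).trans hMV) hQV hC
    have hyCV : y ∈ Subgroup.centralizer (V : Set X) := hth (Subgroup.mem_zpowers y)
    have : y ∈ M ⊓ Subgroup.centralizer (V : Set X) := ⟨hyM, hyCV⟩
    rw [hfaith] at this
    exact hy1 (Subgroup.mem_bot.1 this)
  obtain ⟨u, hu, hyu⟩ := hex
  have hidx : 4 ≤ (U ⊓ Subgroup.centralizer ({a₀} : Set X)).relIndex U :=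
    dihedral_index hU2 hr hr5 ha2 hay hyr hyU hu hyu
  have hle : V ⊓ Subgroup.centralizer (A : Set X) ≤ U ⊓ Subgroup.centralizer ({a₀} : Set X) := by
    intro z hz
    refine ⟨?_, ?_⟩
    · rw [hUdef]
      exact ⟨hz.1, Subgroup.centralizer_le (show (B : Set X) ⊆ (A : Set X) from hBA) hz.2⟩
    · exact Subgroup.centralizer_le
        (show ({a₀} : Set X) ⊆ (A : Set X) from Set.singleton_subset_iff.2 ha₀A) hz.2
  have hidx' : 4 ≤ (V ⊓ Subgroup.centralizer (A : Set X)).relIndex U := by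
    have e2 : (U ⊓ Subgroup.centralizer ({a₀} : Set X)).relIndex U ∣
        (V ⊓ Subgroup.centralizer (A : Set X)).relIndex U :=
      Subgroup.relIndex_dvd_of_le_left U hle
    have e3 := Nat.le_of_dvd (relIndex_pos' _ _) e2
    omega
  have hUV : U ≤ V := hUdef ▸ inf_le_left
  have hCAU : V ⊓ Subgroup.centralizer (A : Set X) ≤ U := hle.trans inf_le_left
  have hmul := Subgroup.relIndex_mul_relIndex (V ⊓ Subgroup.centralizer (A : Set X)) U V hCAU hUV
  have hcardA : Nat.card ↥B * 2 = Nat.card ↥A := by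
    have := card_mul_relIndex'' hBA
    rwa [hBidx] at this
  have hBlt : Nat.card ↥B < n := by
    have : 0 < Nat.card ↥B := Nat.card_pos
    omega
  have hIH := ih (Nat.card ↥B) hBlt B rfl (hBA.trans hAM) (elemAb_of_le hA hBA)
  rw [← hUdef] at hIH
  rw [← hmul, ← hcardA]
  calc (Nat.card ↥B * 2) ^ 2 = 4 * Nat.card ↥B ^ 2 := by ring
    _ ≤ (V ⊓ Subgroup.centralizer (A : Set X)).relIndex U * U.relIndex V :=
        Nat.mul_le_mul hidx' hIH

/-- Let M and V be subgroups of a finite group with V an elementary abelian 2-group, M normalizing V and acting faithfully on it (M ∩ C(V) = 1), and C_M(O_{2'}(M)) ≤ O_{2'}(M). If some elementary abelian 2-subgroup A of M satisfies |V : C_V(A)| < |A|², then M has a section isomorphic to the symmetric group of degree 3. -/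
theorem result {X : Type*} [Group X] [Finite X] (M V : Subgroup X) (hV : Cfsg.IsElementaryAbelian 2 V) (hMV : M ≤ Subgroup.normalizer (V : Set X)) (hfaith : M ⊓ Subgroup.centralizer (V : Set X) = ⊥) (hcon : Subgroup.centralizer (Cfsg.pPrimeCore 2 ↥M : Set ↥M) ≤ Cfsg.pPrimeCore 2 ↥M) (A : Subgroup X) (hAM : A ≤ M) (hA : Cfsg.IsElementaryAbelian 2 A) (hsmall : (V ⊓ Subgroup.centralizer (A : Set X)).relIndex V < Nat.card A ^ 2) : Cfsg.Involves (Equiv.Perm (Fin 3)) ↥M := by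
  haveI : Fact (Nat.Prime 2) := ⟨Nat.prime_two⟩
  by_contra hInv
  obtain ⟨K, hKdef⟩ : ∃ K, K = (Cfsg.pPrimeCore 2 ↥M).map M.subtype := ⟨_, rfl⟩
  haveI hOn : (Cfsg.pPrimeCore 2 ↥M).Normal := Cfsg.Agent.helper1.pPrimeCore_normal 2
  have hKM : K ≤ M := by rw [hKdef]; exact Subgroup.map_subtype_le _
  have hconjK : ∀ m ∈ M, ∀ h ∈ K, m * h * m⁻¹ ∈ K := by
    intro m hm h hh
    rw [hKdef] at hh ⊢
    obtain ⟨o, ho, rfl⟩ := hh
    exact ⟨⟨m, hm⟩ * o * ⟨m, hm⟩⁻¹, hOn.conj_mem o ho ⟨m, hm⟩, rfl⟩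
  have hMK : M ≤ Subgroup.normalizer (K : Set X) := by
    intro m hm
    rw [Subgroup.mem_normalizer_iff]
    intro h
    constructor
    · exact hconjK m hm h
    · intro hh
      have := hconjK m⁻¹ (M.inv_mem hm) _ hh
      have e : m⁻¹ * (m * h * m⁻¹) * m⁻¹⁻¹ = h := by group
      rwa [e] at this
  have hKodd : ¬ 2 ∣ Nat.card ↥K := by
    rw [hKdef, card_map_subtype]
    have := Cfsg.Agent.helper7.pPrimeCore_coprime (G := ↥M) Nat.prime_two
    exact (Nat.Prime.coprime_iff_not_dvd Nat.prime_two).1 this.symm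
  have hCK : M ⊓ Subgroup.centralizer (K : Set X) ≤ K := by
    intro x hx
    have hxM : x ∈ M := hx.1
    have hxC : x ∈ Subgroup.centralizer (K : Set X) := hx.2
    have : (⟨x, hxM⟩ : ↥M) ∈ Subgroup.centralizer (Cfsg.pPrimeCore 2 ↥M : Set ↥M) := by
      rw [Subgroup.mem_centralizer_iff]
      intro o ho
      apply Subtype.ext
      have hoK : (o : X) ∈ K := by rw [hKdef]; exact ⟨o, ho, rfl⟩
      exact Subgroup.mem_centralizer_iff.1 hxC _ hoK
    have h2 := hcon this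
    rw [hKdef]
    exact ⟨⟨x, hxM⟩, h2, rfl⟩
  have hno : ∀ a ∈ M, ∀ y ∈ K, a ≠ 1 → a * a = 1 → orderOf y = 3 → a * y * a⁻¹ = y⁻¹ → False := by
    intro a ha y hy ha1 ha2 hy3 hay
    apply hInv
    apply involves_s3 (M' := ↥M) (a := ⟨a, ha⟩) (y := ⟨y, hKM hy⟩)
    · intro h
      exact ha1 (congrArg Subtype.val h)
    · exact Subtype.ext ha2
    · rw [Subgroup.orderOf_mk]; exact hy3
    · exact Subtype.ext hay
  have hb := bound M V K hV hMV hfaith hKM hMK hKodd hCK hno (Nat.card ↥A) A rfl hAM hA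
  exact absurd hsmall (not_lt.mpr hb)

end Cfsg.Agent.S3755
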