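import Mathlib
import Cfsg.Agent.Lib_helper15_S4d
import Cfsg.Agent.Lib_helper15_S4h
import Cfsg.Agent.Lib_helper15_DualHH
import Cfsg.Agent.Lib_helper15_Replace
import Cfsg.Agent.Lib_helper23_ThompsonJZ
import Cfsg.Agent.Lib_helper3_ThompsonOf
import Cfsg.Agent.Lib_helper3_PAP
import Cfsg.Agent.S3755

/-! In a `2`-solvable `S₄`-free group with `O_{2'} = 1` whose Sylow `2`-subgroups have class at
most two, the elementary Thompson subgroup lies in `O_2` (helper15). -/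

set_option autoImplicit false
set_option linter.style.haveILetI false

namespace Cfsg.Agent.helper15.SolvJ

open Cfsg

universe u

variable {X : Type u} [Group X]

/-- `C_X(H/V)` for normal subgroups `H`, `V`. -/
def centQuot (H V : Subgroup X) [hH : H.Normal] [hV : V.Normal] : Subgroup X where
  carrier := {g | ∀ h ∈ H, g * h * g⁻¹ * h⁻¹ ∈ V}
  one_mem' := by
    intro h _
    have e : (1 : X) * h * 1⁻¹ * h⁻¹ = 1 := by group
    rw [e]; exact V.one_mem
  mul_mem' := by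
    intro a b ha hb h hh
    have e : a * b * h * (a * b)⁻¹ * h⁻¹ =
        a * (b * h * b⁻¹ * h⁻¹) * a⁻¹ * (a * h * a⁻¹ * h⁻¹) := by group
    rw [e]
    exact V.mul_mem (hV.conj_mem _ (hb h hh) a) (ha h hh)
  inv_mem' := by
    intro a ha h hh
    have h1 : a⁻¹ * h * a ∈ H := by
      have := hH.conj_mem h hh a⁻¹
      simpa using this
    have h2 := ha _ h1
    have e : a⁻¹ * h * a⁻¹⁻¹ * h⁻¹ = (a * (a⁻¹ * h * a) * a⁻¹ * (a⁻¹ * h * a)⁻¹)⁻¹ := by group
    rw [e]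
    exact V.inv_mem h2

theorem mem_centQuot (H V : Subgroup X) [hH : H.Normal] [hV : V.Normal] (g : X) :
    g ∈ centQuot H V ↔ ∀ h ∈ H, g * h * g⁻¹ * h⁻¹ ∈ V := Iff.rfl

theorem centQuot_normal (H V : Subgroup X) [hH : H.Normal] [hV : V.Normal] :
    (centQuot H V).Normal := by
  constructor
  intro n hn g h hh
  have h1 : g⁻¹ * h * g ∈ H := by
    have := hH.conj_mem h hh g⁻¹
    simpa using this
  have h2 := hn _ h1
  have e : g * n * g⁻¹ * h * (g * n * g⁻¹)⁻¹ * h⁻¹ =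
      g * (n * (g⁻¹ * h * g) * n⁻¹ * (g⁻¹ * h * g)⁻¹) * g⁻¹ := by group
  rw [e]; exact hV.conj_mem _ h2 g

theorem eq_one_of_sq_of_odd {Y : Type*} [Group Y] {c : Y} (h2 : c * c = 1) {m : ℕ} (hm : Odd m)
    (hcm : c ^ m = 1) : c = 1 := by
  obtain ⟨r, rfl⟩ := hm
  rw [pow_succ, pow_mul, pow_two, h2, one_pow, one_mul] at hcm
  exact hcm

theorem eq_one_of_sq_of_mem_odd {Y : Type*} [Group Y] [Finite Y] {K : Subgroup Y}
    (hK : (Nat.card K).Coprime 2) {c : Y} (hc : c ∈ K) (h2 : c * c = 1) : c = 1 := by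
  have h1 : c ^ Nat.card K = 1 := by
    rw [← orderOf_dvd_iff_pow_eq_one]
    exact Subgroup.orderOf_dvd_natCard K hc
  exact eq_one_of_sq_of_odd h2 (Nat.Coprime.odd_of_right hK) h1

theorem thompson_le_pCore [Finite X] (hps : helper23.PSReach 2 (⊤ : Subgroup X))
    (hO : Cfsg.pPrimeCore 2 X = ⊥)
    (hfree : ¬ Cfsg.Involves (Equiv.Perm (Fin 4)) X) (S : Sylow 2 X)
    (hcl : ∀ a ∈ (S : Subgroup X), ∀ b ∈ (S : Subgroup X), ∀ c ∈ (S : Subgroup X),
      (a * b * a⁻¹ * b⁻¹) * c = c * (a * b * a⁻¹ * b⁻¹)) :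
    Cfsg.thompsonSubgroupOf 2 (S : Subgroup X) ≤ Cfsg.pCore 2 X := by
  haveI : Fact (Nat.Prime 2) := ⟨Nat.prime_two⟩
  obtain ⟨H, hHdef⟩ : ∃ H : Subgroup X, H = Cfsg.pCore 2 X := ⟨_, rfl⟩
  rw [← hHdef]
  haveI hHn : H.Normal := by rw [hHdef]; exact helper1.pCore_normal 2
  have hHS : H ≤ (S : Subgroup X) := by rw [hHdef]; exact helper1.pCore_le_sylow S
  have hH2 : IsPGroup 2 ↥H := by rw [hHdef]; exact helper1.pCore_isPGroup 2
  have hSp : IsPGroup 2 ↥(S : Subgroup X) := S.isPGroup'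
  have hcon : Subgroup.centralizer (H : Set X) ≤ H := by
    rw [hHdef]; exact helper23.hall_higman_123 hps hO
  have hpc : Cfsg.pCore 2 (X ⧸ H) = ⊥ := by
    subst hHdef
    exact helper3.pCore_quotient_pCore_eq_bot
  by_contra hJH
  obtain ⟨A, hAfam, hAH⟩ : ∃ A, helper3.IsMaxEAIn 2 (S : Subgroup X) A ∧ ¬ A ≤ H := by
    by_contra hcon2
    push Not at hcon2
    apply hJH
    rw [helper3.thompsonSubgroupOf_eq_sSup]
    exact sSup_le hcon2
  have hAS : A ≤ (S : Subgroup X) := hAfam.1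
  have hAea : Cfsg.IsElementaryAbelian 2 A := hAfam.2.1
  have hAcomm : ∀ a ∈ A, ∀ b ∈ A, a * b = b * a := fun a ha b hb => helper3.ea_comm hAea ha hb
  have hAsq : ∀ a ∈ A, a * a = 1 := by
    intro a ha
    have := hAea.2 a ha
    rwa [pow_two] at this
  -- `V = Ω₁(Z(H))`
  obtain ⟨V, hV⟩ : ∃ V : Subgroup X, V = helper23.omegaZ 2 H := ⟨_, rfl⟩
  haveI hVn : V.Normal := by rw [hV]; exact helper23.omegaZ_normal 2 H
  have hVH : V ≤ H := by rw [hV]; exact helper23.omegaZ_le 2 H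
  have hHcV : H ≤ Subgroup.centralizer (V : Set X) := by
    rw [hV]; exact helper23.le_centralizer_omegaZ 2 H
  have hVea : Cfsg.IsElementaryAbelian 2 V := by rw [hV]; exact helper23.omegaZ_ea 2 H
  have hV2 : ∀ v ∈ V, v * v = 1 := by
    intro v hv
    have := hVea.2 v hv
    rwa [pow_two] at this
  have hVc : ∀ v ∈ V, ∀ w ∈ V, v * w = w * v := fun v hv w hw => helper3.ea_comm hVea hv hw
  have hVS : V ≤ (S : Subgroup X) := hVH.trans hHS
  -- `Nn = C_X(H/V)`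
  obtain ⟨Nn, hNn⟩ : ∃ Nn : Subgroup X, Nn = centQuot H V := ⟨_, rfl⟩
  haveI hNnn : Nn.Normal := by rw [hNn]; exact centQuot_normal H V
  have hNnmem : ∀ g, g ∈ Nn ↔ ∀ h ∈ H, g * h * g⁻¹ * h⁻¹ ∈ V := fun g => by
    rw [hNn]; exact mem_centQuot H V g
  have hAN : A ≤ Nn := by
    intro a ha
    rw [hNnmem]
    intro h hh
    obtain ⟨c, hc⟩ : ∃ c, c = a * h * a⁻¹ * h⁻¹ := ⟨_, rfl⟩
    rw [← hc]
    have hcH : c ∈ H := by
      rw [hc]; exact H.mul_mem (hHn.conj_mem h hh a) (H.inv_mem hh)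
    have hcS : ∀ x ∈ (S : Subgroup X), c * x = x * c := by
      intro x hx
      rw [hc]; exact hcl a (hAS ha) h (hHS hh) x hx
    have hca : a * c * a⁻¹ = c := by
      rw [← hcS a (hAS ha)]; group
    have hcc : c * c = 1 := by
      calc c * c = (a * c * a⁻¹) * c := by rw [hca]
        _ = (a * a) * h * (a * a)⁻¹ * h⁻¹ := by rw [hc]; group
        _ = 1 := by rw [hAsq a ha]; group
    rw [hV, helper23.mem_omegaZ]
    refine ⟨hcH, ?_, by rw [pow_two]; exact hcc⟩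
    rw [Subgroup.mem_centralizer_iff]
    intro x hx
    exact (hcS x (hHS hx)).symm
  have hNV : Nn ⊓ Subgroup.centralizer (V : Set X) ≤ H := by
    haveI hn : (Nn ⊓ Subgroup.centralizer (V : Set X)).Normal := inferInstance
    have hp2 : IsPGroup 2 ↥(Nn ⊓ Subgroup.centralizer (V : Set X) : Subgroup X) := by
      rintro ⟨g, hg⟩
      obtain ⟨a, m, hmodd, hgm⟩ := Nat.exists_eq_two_pow_mul_odd (orderOf_pos g).ne'
      obtain ⟨g', hg'⟩ : ∃ g', g' = g ^ 2 ^ a := ⟨_, rfl⟩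
      have hg'm : g' ^ m = 1 := by
        rw [hg', ← pow_mul, ← hgm]; exact pow_orderOf_eq_one g
      have hg'N : g' ∈ Nn := by rw [hg']; exact Nn.pow_mem hg.1 _
      have hg'V : g' ∈ Subgroup.centralizer (V : Set X) := by
        rw [hg']; exact Subgroup.pow_mem _ hg.2 _
      have hg'H : g' ∈ Subgroup.centralizer (H : Set X) := by
        rw [Subgroup.mem_centralizer_iff]
        intro h hh
        obtain ⟨c, hc⟩ : ∃ c, c = h⁻¹ * (g' * h * g'⁻¹) := ⟨_, rfl⟩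
        have hcV : c ∈ V := by
          have h1 := (hNnmem g').mp hg'N h hh
          have h2 := hVn.conj_mem _ h1 h⁻¹
          have e : h⁻¹ * (g' * h * g'⁻¹ * h⁻¹) * h⁻¹⁻¹ = c := by rw [hc]; group
          rwa [e] at h2
        have hgc : g' * c = c * g' := (Subgroup.mem_centralizer_iff.mp hg'V c hcV).symm
        have hconj : g' * h * g'⁻¹ = h * c := by rw [hc]; group
        have h3 := Cfsg.Agent.S3755.conj_pow_of_commute hconj hgc m
        rw [hg'm] at h3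
        have h4 : c ^ m = 1 := by
          have : h * c ^ m = h * 1 := by rw [← h3]; group
          exact mul_left_cancel this
        have hc1 : c = 1 := eq_one_of_sq_of_odd (hV2 c hcV) hmodd h4
        rw [hc1, mul_one] at hconj
        calc h * g' = (g' * h * g'⁻¹) * g' := by rw [hconj]
          _ = g' * h := by group
      have hg'H' : g' ∈ H := hcon hg'H
      obtain ⟨i, hi⟩ := hH2 ⟨g', hg'H'⟩
      have hi' : g' ^ 2 ^ i = 1 := by
        have := congrArg Subtype.val hi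
        rwa [Subgroup.coe_pow, Subgroup.coe_one] at this
      refine ⟨a + i, ?_⟩
      apply Subtype.ext
      rw [Subgroup.coe_pow, Subgroup.coe_one]
      show g ^ 2 ^ (a + i) = 1
      rw [pow_add, pow_mul, ← hg']
      exact hi'
    rw [hHdef]
    exact helper1.le_pCore hn hp2
  -- the quotient
  obtain ⟨mk, hmk⟩ : ∃ mk : X →* X ⧸ H, mk = QuotientGroup.mk' H := ⟨_, rfl⟩
  have hsurj : Function.Surjective mk := by rw [hmk]; exact QuotientGroup.mk'_surjective _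
  have hmk1 : ∀ x, x ∈ H ↔ mk x = 1 := fun x => by
    have h0 : x ∈ mk.ker ↔ mk x = 1 := MonoidHom.mem_ker
    rw [hmk, QuotientGroup.ker_mk'] at h0
    rw [hmk]
    exact h0
  obtain ⟨Ob, hOb⟩ : ∃ Ob : Subgroup (X ⧸ H), Ob = Cfsg.pPrimeCore 2 (X ⧸ H) := ⟨_, rfl⟩
  haveI hObn : Ob.Normal := by rw [hOb]; exact helper1.pPrimeCore_normal 2
  have hObodd : (Nat.card Ob).Coprime 2 := by rw [hOb]; exact helper1.pPrimeCore_coprime 2
  obtain ⟨Nb, hNb⟩ : ∃ Nb : Subgroup (X ⧸ H), Nb = Nn.map mk := ⟨_, rfl⟩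
  haveI hNbn : Nb.Normal := by rw [hNb]; exact Subgroup.Normal.map hNnn mk hsurj
  obtain ⟨Kb, hKb⟩ : ∃ Kb : Subgroup (X ⧸ H), Kb = Ob ⊓ Nb := ⟨_, rfl⟩
  haveI hKbn : Kb.Normal := by rw [hKb]; infer_instance
  have hKbO : Kb ≤ Ob := by rw [hKb]; exact inf_le_left
  have hKbN : Kb ≤ Nn.map (QuotientGroup.mk' H) := by
    rw [hKb, ← hmk, ← hNb]; exact inf_le_right
  have hKbodd : (Nat.card Kb).Coprime 2 :=
    Nat.Coprime.coprime_dvd_left (Subgroup.card_dvd_of_le hKbO) hObodd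
  have hpsq : helper23.PSReach 2 (⊤ : Subgroup (X ⧸ H)) := by
    have h1 := hps.map Nat.prime_two mk hsurj
    rwa [← MonoidHom.range_eq_map, MonoidHom.range_eq_top.2 hsurj] at h1
  have hdual : Subgroup.centralizer (Ob : Set (X ⧸ H)) ≤ Ob := by
    rw [hOb]; exact DualHH.hall_higman_dual hpsq hpc
  have hfaith : ∀ b ∈ A, (∀ y ∈ Kb, mk b * y = y * mk b) → b ∈ H := by
    intro b hb hcent
    obtain ⟨β, hβ⟩ : ∃ β, β = mk b := ⟨_, rfl⟩
    rw [← hβ] at hcent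
    have hββ : β * β = 1 := by rw [hβ, ← map_mul, hAsq b hb, map_one]
    have hβNb : β ∈ Nb := by rw [hNb, hβ]; exact ⟨b, hAN hb, rfl⟩
    have hβO : β ∈ Subgroup.centralizer (Ob : Set (X ⧸ H)) := by
      rw [Subgroup.mem_centralizer_iff]
      intro y hy
      obtain ⟨c, hc⟩ : ∃ c, c = y * β * y⁻¹ * β⁻¹ := ⟨_, rfl⟩
      have hcO : c ∈ Ob := by
        have e : c = y * (β * y⁻¹ * β⁻¹) := by rw [hc]; group
        rw [e]; exact Ob.mul_mem hy (hObn.conj_mem _ (Ob.inv_mem hy) _)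
      have hcN : c ∈ Nb := by
        rw [hc]; exact Nb.mul_mem (hNbn.conj_mem _ hβNb y) (Nb.inv_mem hβNb)
      have hcK : c ∈ Kb := by rw [hKb]; exact ⟨hcO, hcN⟩
      have h1 := hcent c hcK
      have h2 : β * c * β⁻¹ = c⁻¹ := by
        rw [hc]
        calc β * (y * β * y⁻¹ * β⁻¹) * β⁻¹ = β * y * (β * β) * β⁻¹ * y⁻¹ * (β * β)⁻¹ := by group
          _ = β * y * β⁻¹ * y⁻¹ := by rw [hββ]; group
          _ = (y * β * y⁻¹ * β⁻¹)⁻¹ := by group
      have h3 : c = c⁻¹ := by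
        rw [← h2, h1]; group
      have h4 : c * c = 1 := by
        nth_rewrite 1 [h3]; group
      have hc1 : c = 1 := eq_one_of_sq_of_mem_odd hKbodd hcK h4
      rw [hc] at hc1
      calc y * β = (y * β * y⁻¹ * β⁻¹) * β * y := by group
        _ = β * y := by rw [hc1, one_mul]
    have hβ1 : β = 1 := eq_one_of_sq_of_mem_odd hObodd (hdual hβO) hββ
    rw [hmk1, ← hβ]; exact hβ1
  -- the offender inequality
  have hcentH : ∀ B : Subgroup X, B ≤ H → V ⊓ Subgroup.centralizer (B : Set X) = V := by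
    intro B hBH
    apply inf_eq_left.2
    intro v hv
    rw [Subgroup.mem_centralizer_iff]
    intro b hb
    exact (Subgroup.mem_centralizer_iff.mp (hHcV (hBH hb)) v hv).symm
  obtain ⟨m, hm⟩ : ∃ m : Subgroup X → ℕ, m = fun B : Subgroup X =>
    Nat.card B * Nat.card ↥(V ⊓ Subgroup.centralizer (B : Set X)) := ⟨_, rfl⟩
  have hmdef : ∀ B : Subgroup X,
      m B = Nat.card B * Nat.card ↥(V ⊓ Subgroup.centralizer (B : Set X)) := fun B => by rw [hm]
  have hmH : ∀ B : Subgroup X, B ≤ A → B ≤ H → m B ≤ m A := by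
    intro B hBA hBH
    obtain ⟨A₀, hA₀⟩ : ∃ A₀ : Subgroup X, A₀ = A ⊓ H := ⟨_, rfl⟩
    have hA₀A : A₀ ≤ A := hA₀ ▸ inf_le_left
    have hA₀H : A₀ ≤ H := hA₀ ▸ inf_le_right
    have hA₀ea : Cfsg.IsElementaryAbelian 2 A₀ := helper3.ea_mono hAea hA₀A
    have h1 : Cfsg.IsElementaryAbelian 2 (A₀ ⊔ V) := by
      apply helper3.ea_sup hA₀ea hVea
      intro x hx c hc
      exact (Subgroup.mem_centralizer_iff.mp (hHcV (hA₀H hx)) c hc).symm
    have h2 : A₀ ⊔ V ≤ (S : Subgroup X) := sup_le (hA₀A.trans hAS) hVS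
    have h3 : Nat.card ↥(A₀ ⊔ V) ≤ Nat.card A := hAfam.2.2 _ h2 h1
    have h4 := Cfsg.Agent.helper15.card_sup_mul_card_inf_of_le_normalizer A₀ V
      (by rw [Subgroup.normalizer_eq_top]; exact le_top)
    have h5 : A₀ ⊓ V ≤ V ⊓ Subgroup.centralizer (A : Set X) := by
      intro x hx
      refine Subgroup.mem_inf.2 ⟨hx.2, ?_⟩
      rw [Subgroup.mem_centralizer_iff]
      intro a ha
      exact hAcomm a ha x (hA₀A hx.1)
    have h6 : Nat.card ↥(A₀ ⊓ V) ≤ Nat.card ↥(V ⊓ Subgroup.centralizer (A : Set X)) :=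
      Subgroup.card_le_of_le h5
    have h7 : Nat.card B ≤ Nat.card A₀ := Subgroup.card_le_of_le (hA₀ ▸ le_inf hBA hBH)
    rw [hmdef, hmdef, hcentH B hBH]
    calc Nat.card B * Nat.card V ≤ Nat.card A₀ * Nat.card V := Nat.mul_le_mul_right _ h7
      _ = Nat.card ↥(A₀ ⊔ V) * Nat.card ↥(A₀ ⊓ V) := h4.symm
      _ ≤ Nat.card A * Nat.card ↥(V ⊓ Subgroup.centralizer (A : Set X)) := Nat.mul_le_mul h3 h6
  -- the choice of `B`
  let T := {B : Subgroup X // B ≤ A ∧ ¬ B ≤ H}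
  haveI : Nonempty T := ⟨⟨A, le_rfl, hAH⟩⟩
  haveI : Finite T := Subtype.finite
  obtain ⟨⟨B, hBA, hBH⟩, hBmax⟩ := Finite.exists_max (fun B : T => m B.1)
  have hbest : ∀ B' : Subgroup X, B' ≤ B → m B' ≤ m B := by
    intro B' hB'
    by_cases hB'H : B' ≤ H
    · exact (hmH B' (hB'.trans hBA) hB'H).trans (hBmax ⟨A, le_rfl, hAH⟩)
    · exact hBmax ⟨B', hB'.trans hBA, hB'H⟩
  have hBcomm : ∀ a ∈ B, ∀ b ∈ B, a * b = b * a :=
    fun a ha b hb => hAcomm a (hBA ha) b (hBA hb)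
  have hB2 : IsPGroup 2 ↥B := hSp.to_le (hBA.trans hAS)
  have hBsq : ∀ b ∈ B, b * b ∈ H := by
    intro b hb
    rw [hAsq b (hBA hb)]; exact H.one_mem
  obtain ⟨U, hUV, hU4, k, hkNU, hkCU, ⟨n, hnodd, hkn⟩, b, hbB, hbNU, hbCU⟩ :=
    Cfsg.Agent.helper15.S4F.exists_four_of_offender' H V hV2 hVc hHcV Nn hNV hH2 Kb hKbN hKbodd
      B hBcomm hB2 hBsq hBH
      (fun b hb h => hfaith b (hBA hb) (by rw [hmk]; exact h))
      (fun B' hB' => by
        have := hbest B' hB'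
        rw [hmdef, hmdef] at this
        exact this)
  obtain ⟨j, hj⟩ := hB2 ⟨b, hbB⟩
  have hbj : b ^ 2 ^ j = 1 := by
    have := congrArg Subtype.val hj
    rwa [Subgroup.coe_pow, Subgroup.coe_one] at this
  exact hfree (Cfsg.Agent.helper15.S4F.involves_S4_of_four U hU4 (fun x hx => hV2 x (hUV hx))
    hkNU hkCU hnodd hkn hbNU hbCU hbj)

end Cfsg.Agent.helper15.SolvJ
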