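import Mathlib
import Cfsg.Agent.Lib_helper15_ConJ1
import Cfsg.Agent.Lib_helper15_SolvJ

/-! The configuration `(X, H = O₂(X), V = Ω₁Z(H))` of a minimal counterexample: basic
consequences (helper15). -/

set_option autoImplicit false
set_option linter.style.haveILetI false

namespace Cfsg.Agent.helper15.ConJ

open Cfsg

universe u

variable {X : Type u} [Group X]

structure Ctx (H V : Subgroup X) : Prop where
  hHn : H.Normal
  hVn : V.Normal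
  hH2 : IsPGroup 2 ↥H
  hcore : ∀ N : Subgroup X, N.Normal → IsPGroup 2 ↥N → N ≤ H
  hcon : Subgroup.centralizer (H : Set X) ≤ H
  hVH : V ≤ H
  hHV : ∀ h ∈ H, ∀ v ∈ V, h * v = v * h
  hV2 : ∀ v ∈ V, v * v = 1
  hVmem : ∀ c ∈ H, (∀ h ∈ H, c * h = h * c) → c * c = 1 → c ∈ V
  hcl2 : Cl2 X
  hF1 : ∀ Y : Subgroup X, H ≤ Y → Y ≠ ⊤ → ∃ P : Subgroup X, IsPGroup 2 ↥P ∧ H ≤ P ∧
      (∀ y ∈ Y, ∀ x ∈ P, y * x * y⁻¹ ∈ P) ∧
      ∀ A : Subgroup X, IsGMaxEA A → A ≤ Y → A ≤ P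

variable {H V : Subgroup X}

theorem Ctx.hVc (c : Ctx H V) : ∀ v ∈ V, ∀ w ∈ V, v * w = w * v :=
  fun v hv w hw => c.hHV v (c.hVH hv) w hw

theorem Ctx.hVinv (c : Ctx H V) : ∀ v ∈ V, v⁻¹ = v :=
  fun v hv => inv_eq_of_mul_eq_one_left (c.hV2 v hv)

theorem gmax_sq {A : Subgroup X} (hA : IsGMaxEA A) : ∀ a ∈ A, a * a = 1 := by
  intro a ha
  have := hA.1.2 a ha
  rwa [pow_two] at this

theorem gmax_comm {A : Subgroup X} (hA : IsGMaxEA A) : ∀ a ∈ A, ∀ b ∈ A, a * b = b * a :=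
  fun a ha b hb => helper3.ea_comm hA.1 ha hb

theorem gmax_inv {A : Subgroup X} (hA : IsGMaxEA A) : ∀ a ∈ A, a⁻¹ = a :=
  fun a ha => inv_eq_of_mul_eq_one_left (gmax_sq hA a ha)

theorem Ctx.isPGroup_sup (c : Ctx H V) {A : Subgroup X} (hA : IsGMaxEA A) :
    IsPGroup 2 ↥(H ⊔ A) := by
  haveI := c.hHn
  exact IsPGroup.to_sup_of_normal_left c.hH2 (helper3.ea_isPGroup hA.1)

/-- quadratic action on `V` -/
theorem Ctx.quad (c : Ctx H V) {A : Subgroup X} (hA : IsGMaxEA A) {a : X} (ha : a ∈ A) {v : X}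
    (hv : v ∈ V) : a * v * a⁻¹ * v⁻¹ ∈ V ∧ ∀ b ∈ A, b * (a * v * a⁻¹ * v⁻¹) = (a * v * a⁻¹ * v⁻¹) * b := by
  haveI := c.hVn
  refine ⟨V.mul_mem (c.hVn.conj_mem v hv a) (V.inv_mem hv), fun b hb => ?_⟩
  have h1 := c.hcl2 (H ⊔ A) (c.isPGroup_sup hA) a ((le_sup_right : A ≤ H ⊔ A) ha) v
    ((le_sup_left : H ≤ H ⊔ A) (c.hVH hv)) b ((le_sup_right : A ≤ H ⊔ A) hb)
  exact h1.symm

/-- `A` centralizes `H/V` -/
theorem Ctx.comm_mem_V (c : Ctx H V) {A : Subgroup X} (hA : IsGMaxEA A) {a : X} (ha : a ∈ A)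
    {h : X} (hh : h ∈ H) : a * h * a⁻¹ * h⁻¹ ∈ V := by
  haveI := c.hHn
  obtain ⟨d, hd⟩ : ∃ d, d = a * h * a⁻¹ * h⁻¹ := ⟨_, rfl⟩
  rw [← hd]
  have hdH : d ∈ H := by
    rw [hd]; exact H.mul_mem (c.hHn.conj_mem h hh a) (H.inv_mem hh)
  have hdP : ∀ x ∈ H ⊔ A, d * x = x * d := by
    intro x hx
    rw [hd]
    exact c.hcl2 (H ⊔ A) (c.isPGroup_sup hA) a ((le_sup_right : A ≤ H ⊔ A) ha) h
      ((le_sup_left : H ≤ H ⊔ A) hh) x hx
  have hda : a * d * a⁻¹ = d := by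
    rw [← hdP a ((le_sup_right : A ≤ H ⊔ A) ha)]; group
  have hdd : d * d = 1 := by
    calc d * d = (a * d * a⁻¹) * d := by rw [hda]
      _ = (a * a) * h * (a * a)⁻¹ * h⁻¹ := by rw [hd]; group
      _ = 1 := by rw [gmax_sq hA a ha]; group
  exact c.hVmem d hdH (fun x hx => hdP x ((le_sup_left : H ≤ H ⊔ A) hx)) hdd

theorem Ctx.le_centQuot (c : Ctx H V) {A : Subgroup X} (hA : IsGMaxEA A) :
    haveI := c.hHn; haveI := c.hVn; A ≤ SolvJ.centQuot H V := by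
  intro a ha
  rw [SolvJ.mem_centQuot]
  intro h hh
  exact c.comm_mem_V hA ha hh

/-- `C_X(H/V) ∩ C_X(V) ≤ H` -/
theorem Ctx.inf_le [Finite X] (c : Ctx H V) :
    haveI := c.hHn; haveI := c.hVn;
    SolvJ.centQuot H V ⊓ Subgroup.centralizer (V : Set X) ≤ H := by
  haveI := c.hHn
  haveI := c.hVn
  haveI hNnn : (SolvJ.centQuot H V).Normal := SolvJ.centQuot_normal H V
  haveI hn : (SolvJ.centQuot H V ⊓ Subgroup.centralizer (V : Set X)).Normal := inferInstance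
  have hp2 : IsPGroup 2 ↥(SolvJ.centQuot H V ⊓ Subgroup.centralizer (V : Set X) : Subgroup X) := by
    rintro ⟨g, hg⟩
    obtain ⟨a, m, hmodd, hgm⟩ := Nat.exists_eq_two_pow_mul_odd (orderOf_pos g).ne'
    obtain ⟨g', hg'⟩ : ∃ g', g' = g ^ 2 ^ a := ⟨_, rfl⟩
    have hg'm : g' ^ m = 1 := by
      rw [hg', ← pow_mul, ← hgm]; exact pow_orderOf_eq_one g
    have hg'N : g' ∈ SolvJ.centQuot H V := by rw [hg']; exact Subgroup.pow_mem _ hg.1 _
    have hg'V : g' ∈ Subgroup.centralizer (V : Set X) := by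
      rw [hg']; exact Subgroup.pow_mem _ hg.2 _
    have hg'H : g' ∈ Subgroup.centralizer (H : Set X) := by
      rw [Subgroup.mem_centralizer_iff]
      intro h hh
      obtain ⟨d, hd⟩ : ∃ d, d = h⁻¹ * (g' * h * g'⁻¹) := ⟨_, rfl⟩
      have hdV : d ∈ V := by
        have h1 := (SolvJ.mem_centQuot H V g').mp hg'N h hh
        have h2 := c.hVn.conj_mem _ h1 h⁻¹
        have e : h⁻¹ * (g' * h * g'⁻¹ * h⁻¹) * h⁻¹⁻¹ = d := by rw [hd]; group
        rwa [e] at h2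
      have hgd : g' * d = d * g' := (Subgroup.mem_centralizer_iff.mp hg'V d hdV).symm
      have hconj : g' * h * g'⁻¹ = h * d := by rw [hd]; group
      have h3 := Cfsg.Agent.S3755.conj_pow_of_commute hconj hgd m
      rw [hg'm] at h3
      have h4 : d ^ m = 1 := by
        have : h * d ^ m = h * 1 := by rw [← h3]; group
        exact mul_left_cancel this
      have hd1 : d = 1 := SolvJ.eq_one_of_sq_of_odd (c.hV2 d hdV) hmodd h4
      rw [hd1, mul_one] at hconj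
      calc h * g' = (g' * h * g'⁻¹) * g' := by rw [hconj]
        _ = g' * h := by group
    have hg'H' : g' ∈ H := c.hcon hg'H
    obtain ⟨i, hi⟩ := c.hH2 ⟨g', hg'H'⟩
    have hi' : g' ^ 2 ^ i = 1 := by
      have := congrArg Subtype.val hi
      rwa [Subgroup.coe_pow, Subgroup.coe_one] at this
    refine ⟨a + i, ?_⟩
    apply Subtype.ext
    rw [Subgroup.coe_pow, Subgroup.coe_one]
    show g ^ 2 ^ (a + i) = 1
    rw [pow_add, pow_mul, ← hg']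
    exact hi'
  exact c.hcore _ hn hp2

/-- consequence of the inductive hypothesis: commutators into `H` -/
theorem Ctx.comm_mem_H (c : Ctx H V) (Y : Subgroup X) (hHY : H ≤ Y) (hY : Y ≠ ⊤)
    {A : Subgroup X} (hA : IsGMaxEA A) (hAY : A ≤ Y) {t : X} (htY : t ∈ Y) {j : ℕ}
    (ht : t ^ 2 ^ j = 1) : ∀ a ∈ A, a * t * a⁻¹ * t⁻¹ ∈ H := by
  obtain ⟨P, hP2, hHP, hPn, hPA⟩ := c.hF1 Y hHY hY
  have hzn : Subgroup.zpowers t ≤ Subgroup.normalizer (P : Set X) := by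
    rw [Subgroup.zpowers_le]
    rw [Subgroup.mem_normalizer_iff]
    intro x
    constructor
    · intro hx
      exact hPn t htY x hx
    · intro hx
      have := hPn t⁻¹ (Y.inv_mem htY) _ hx
      have e : t⁻¹ * (t * x * t⁻¹) * t⁻¹⁻¹ = x := by group
      rwa [e] at this
  have hP' : IsPGroup 2 ↥(Subgroup.zpowers t ⊔ P) :=
    IsPGroup.to_sup_of_normal_right' (isPGroup_zpowers_of_pow ht) hP2 hzn
  intro a ha
  apply c.hcon
  rw [Subgroup.mem_centralizer_iff]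
  intro h hh
  have h1 := c.hcl2 _ hP' a ((le_sup_right : P ≤ Subgroup.zpowers t ⊔ P) (hPA _ hA hAY ha)) t
    ((le_sup_left : Subgroup.zpowers t ≤ Subgroup.zpowers t ⊔ P) (Subgroup.mem_zpowers t)) h
    ((le_sup_right : P ≤ Subgroup.zpowers t ⊔ P) (hHP hh))
  exact h1.symm

/-- the offender inequality -/
theorem Ctx.offender [Finite X] (c : Ctx H V) {A : Subgroup X} (hA : IsGMaxEA A) :
    Nat.card V * Nat.card ↥(A ⊓ H) ≤
      Nat.card A * Nat.card ↥(V ⊓ Subgroup.centralizer (A : Set X)) := by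
  haveI := c.hVn
  obtain ⟨A₀, hA₀⟩ : ∃ A₀ : Subgroup X, A₀ = A ⊓ H := ⟨_, rfl⟩
  rw [← hA₀]
  have hA₀A : A₀ ≤ A := hA₀ ▸ inf_le_left
  have hA₀H : A₀ ≤ H := hA₀ ▸ inf_le_right
  have hA₀ea : Cfsg.IsElementaryAbelian 2 A₀ := helper3.ea_mono hA.1 hA₀A
  have hVea : Cfsg.IsElementaryAbelian 2 V := by
    refine ⟨⟨⟨?_⟩⟩, ?_⟩
    · rintro ⟨v, hv⟩ ⟨w, hw⟩
      exact Subtype.ext (c.hVc v hv w hw)
    · intro v hv
      rw [pow_two]; exact c.hV2 v hv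
  have h1 : Cfsg.IsElementaryAbelian 2 (A₀ ⊔ V) := by
    apply helper3.ea_sup hA₀ea hVea
    intro x hx d hd
    exact c.hHV x (hA₀H hx) d hd
  have h3 : Nat.card ↥(A₀ ⊔ V) ≤ Nat.card A := hA.2 _ h1
  have h4 := Cfsg.Agent.helper15.card_sup_mul_card_inf_of_le_normalizer A₀ V
    (by rw [Subgroup.normalizer_eq_top]; exact le_top)
  have h5 : A₀ ⊓ V ≤ V ⊓ Subgroup.centralizer (A : Set X) := by
    intro x hx
    refine Subgroup.mem_inf.2 ⟨hx.2, ?_⟩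
    rw [Subgroup.mem_centralizer_iff]
    intro a ha
    exact gmax_comm hA a ha x (hA₀A hx.1)
  have h6 : Nat.card ↥(A₀ ⊓ V) ≤ Nat.card ↥(V ⊓ Subgroup.centralizer (A : Set X)) :=
    Subgroup.card_le_of_le h5
  calc Nat.card V * Nat.card A₀ = Nat.card A₀ * Nat.card V := mul_comm _ _
    _ = Nat.card ↥(A₀ ⊔ V) * Nat.card ↥(A₀ ⊓ V) := h4.symm
    _ ≤ Nat.card A * Nat.card ↥(V ⊓ Subgroup.centralizer (A : Set X)) := Nat.mul_le_mul h3 h6

end Cfsg.Agent.helper15.ConJ
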