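import Mathlib
import Cfsg.Agent.Lib_helper15_ConJ2

/-! Two conjugate members of `𝒜` generating `X` modulo `H`: faithfulness and the key
injectivity lemma (helper15). -/

set_option autoImplicit false
set_option linter.style.haveILetI false

namespace Cfsg.Agent.helper15.ConJ

open Cfsg

universe u

variable {X : Type u} [Group X]

/-- `{x | [x, t] ∈ N}` for a normal subgroup `N` -/
def commInto (N : Subgroup X) [N.Normal] (t : X) : Subgroup X :=
  (Subgroup.centralizer ({(QuotientGroup.mk' N t)} : Set (X ⧸ N))).comap (QuotientGroup.mk' N)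

theorem mem_commInto (N : Subgroup X) [N.Normal] (t x : X) :
    x ∈ commInto N t ↔ x * t * x⁻¹ * t⁻¹ ∈ N := by
  obtain ⟨mk, hmk⟩ : ∃ mk : X →* X ⧸ N, mk = QuotientGroup.mk' N := ⟨_, rfl⟩
  have hmk1 : ∀ y, y ∈ N ↔ mk y = 1 := fun y => by
    have h0 : y ∈ mk.ker ↔ mk y = 1 := MonoidHom.mem_ker
    rw [hmk, QuotientGroup.ker_mk'] at h0
    rw [hmk]
    exact h0
  unfold commInto
  rw [← hmk, Subgroup.mem_comap, Subgroup.mem_centralizer_iff, hmk1]
  constructor
  · intro h
    have h1 : mk t * mk x = mk x * mk t := h _ (Set.mem_singleton _)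
    rw [map_mul, map_mul, map_mul, map_inv, map_inv, ← h1]
    group
  · intro h y hy
    rw [Set.mem_singleton_iff] at hy
    rw [hy]
    rw [map_mul, map_mul, map_mul, map_inv, map_inv] at h
    calc mk t * mk x = (mk x * mk t * (mk x)⁻¹ * (mk t)⁻¹)⁻¹ * (mk x * mk t) := by group
      _ = mk x * mk t := by rw [h]; group

structure Pair (H A₁ A₂ : Subgroup X) (g : X) : Prop where
  h₁ : IsGMaxEA A₁
  h₂ : IsGMaxEA A₂
  hc₁ : ∀ a ∈ A₁, g * a * g⁻¹ ∈ A₂
  hc₂ : ∀ a ∈ A₂, g⁻¹ * a * g ∈ A₁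
  htop : H ⊔ A₁ ⊔ A₂ = ⊤

variable {H V A₁ A₂ : Subgroup X} {g : X}

theorem Pair.symm (p : Pair H A₁ A₂ g) : Pair H A₂ A₁ g⁻¹ := by
  refine ⟨p.h₂, p.h₁, fun a ha => ?_, fun a ha => ?_, ?_⟩
  · have := p.hc₂ a ha
    rwa [inv_inv]
  · have := p.hc₁ a ha
    rwa [inv_inv]
  · rw [sup_assoc, sup_comm A₂ A₁, ← sup_assoc]; exact p.htop

theorem Pair.eq_top (p : Pair H A₁ A₂ g) {K : Subgroup X} (hH : H ≤ K) (h1 : A₁ ≤ K)
    (h2 : A₂ ≤ K) : K = ⊤ := by
  rw [eq_top_iff, ← p.htop]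
  exact sup_le (sup_le hH h1) h2

/-- faithfulness of `X/H` on `V` -/
theorem Pair.centralizer_le [Finite X] (p : Pair H A₁ A₂ g) (c : Ctx H V) :
    Subgroup.centralizer (V : Set X) ≤ H := by
  haveI := c.hHn
  haveI := c.hVn
  intro x hx
  have hx1 : x ∈ ((H ⊔ (A₁ ⊔ A₂) : Subgroup X) : Set X) := by
    rw [← sup_assoc, p.htop]; exact Subgroup.mem_top x
  rw [Subgroup.normal_mul, Set.mem_mul] at hx1
  obtain ⟨h, hh, n, hn, rfl⟩ := hx1
  have hh' : h ∈ H := hh
  have hnN : n ∈ SolvJ.centQuot H V :=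
    (sup_le (c.le_centQuot p.h₁) (c.le_centQuot p.h₂) : A₁ ⊔ A₂ ≤ SolvJ.centQuot H V) hn
  have hhV : h ∈ Subgroup.centralizer (V : Set X) := by
    rw [Subgroup.mem_centralizer_iff]
    intro v hv
    exact (c.hHV h hh' v hv).symm
  have hnV : n ∈ Subgroup.centralizer (V : Set X) := by
    have e : n = h⁻¹ * (h * n) := by group
    rw [e]
    exact Subgroup.mul_mem _ (Subgroup.inv_mem _ hhV) hx
  exact H.mul_mem hh' (c.inf_le (Subgroup.mem_inf.2 ⟨hnN, hnV⟩))

/-- elements of `V` centralized by `A₁` and `A₂` are central -/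
theorem Pair.central (p : Pair H A₁ A₂ g) (c : Ctx H V) {z : X} (hz : z ∈ V)
    (h1 : ∀ a ∈ A₁, a * z = z * a) (h2 : ∀ a ∈ A₂, a * z = z * a) : ∀ x : X, x * z = z * x := by
  have hK : Subgroup.centralizer ({z} : Set X) = ⊤ := by
    apply p.eq_top
    · intro h hh
      rw [Subgroup.mem_centralizer_iff]
      intro y hy
      rw [Set.mem_singleton_iff] at hy
      rw [hy]
      exact (c.hHV h hh z hz).symm
    · intro a ha
      rw [Subgroup.mem_centralizer_iff]
      intro y hy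
      rw [Set.mem_singleton_iff] at hy
      rw [hy]
      exact (h1 a ha).symm
    · intro a ha
      rw [Subgroup.mem_centralizer_iff]
      intro y hy
      rw [Set.mem_singleton_iff] at hy
      rw [hy]
      exact (h2 a ha).symm
  intro x
  have hx : x ∈ Subgroup.centralizer ({z} : Set X) := by rw [hK]; exact Subgroup.mem_top x
  exact (Subgroup.mem_centralizer_iff.mp hx z (Set.mem_singleton z)).symm

/-- the key lemma: an element of `A₂ \ H` moving `w ∈ C_V(A₁)` by a central element forces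
`w ∈ C_V(A₂)` -/
theorem Pair.key [Finite X] (p : Pair H A₁ A₂ g) (c : Ctx H V) {w : X} (hw : w ∈ V)
    (hw₁ : ∀ a ∈ A₁, a * w = w * a) {a' : X} (ha' : a' ∈ A₂) (ha'H : a' ∉ H)
    (hz : ∀ x : X, x * (a' * w * a'⁻¹ * w⁻¹) = (a' * w * a'⁻¹ * w⁻¹) * x) :
    ∀ a ∈ A₂, a * w = w * a := by
  haveI := c.hHn
  haveI := c.hVn
  by_cases hY : H ⊔ A₁ ⊔ Subgroup.zpowers a' = ⊤
  · -- every element moves `w` by a central element
    have hK : commInto (Subgroup.center X) w = ⊤ := by
      rw [eq_top_iff, ← hY]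
      refine sup_le (sup_le ?_ ?_) ?_
      · intro h hh
        rw [mem_commInto]
        have e : h * w * h⁻¹ * w⁻¹ = 1 := by rw [c.hHV h hh w hw]; group
        rw [e]; exact Subgroup.one_mem _
      · intro a ha
        rw [mem_commInto]
        have e : a * w * a⁻¹ * w⁻¹ = 1 := by rw [hw₁ a ha]; group
        rw [e]; exact Subgroup.one_mem _
      · rw [Subgroup.zpowers_le, mem_commInto, Subgroup.mem_center_iff]
        exact hz
    have hg : g⁻¹ ∈ commInto (Subgroup.center X) w := by rw [hK]; exact Subgroup.mem_top _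
    rw [mem_commInto, Subgroup.mem_center_iff, inv_inv] at hg
    intro a ha
    obtain ⟨a₁, ha₁⟩ : ∃ a₁, a₁ = g⁻¹ * a * g := ⟨_, rfl⟩
    have ha₁A : a₁ ∈ A₁ := by rw [ha₁]; exact p.hc₂ a ha
    obtain ⟨z, hzd⟩ : ∃ z, z = g⁻¹ * w * g * w⁻¹ := ⟨_, rfl⟩
    rw [← hzd] at hg
    have h1 : a₁ * (g⁻¹ * w * g) = (g⁻¹ * w * g) * a₁ := by
      have e : g⁻¹ * w * g = z * w := by rw [hzd]; group
      rw [e]
      calc a₁ * (z * w) = (a₁ * z) * w := by rw [mul_assoc]
        _ = z * (a₁ * w) := by rw [hg a₁, mul_assoc]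
        _ = z * w * a₁ := by rw [hw₁ a₁ ha₁A, mul_assoc]
    have e1 : a = g * a₁ * g⁻¹ := by rw [ha₁]; group
    calc a * w = g * (a₁ * (g⁻¹ * w * g)) * g⁻¹ := by rw [e1]; group
      _ = g * ((g⁻¹ * w * g) * a₁) * g⁻¹ := by rw [h1]
      _ = w * a := by rw [e1]; group
  · exfalso
    apply ha'H
    have ha'2 : a' ^ 2 ^ 1 = 1 := by
      rw [pow_one, pow_two]; exact gmax_sq p.h₂ a' ha'
    have hYH : H ≤ H ⊔ A₁ ⊔ Subgroup.zpowers a' := le_sup_left.trans le_sup_left
    have hYA : A₁ ≤ H ⊔ A₁ ⊔ Subgroup.zpowers a' := le_sup_right.trans le_sup_left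
    have hYa : a' ∈ H ⊔ A₁ ⊔ Subgroup.zpowers a' :=
      (le_sup_right : Subgroup.zpowers a' ≤ _) (Subgroup.mem_zpowers a')
    have hcomm := c.comm_mem_H _ hYH hY p.h₁ hYA hYa ha'2
    have hK : commInto H a' = ⊤ := by
      apply p.eq_top
      · intro h hh
        rw [mem_commInto]
        have e : h * a' * h⁻¹ * a'⁻¹ = h * (a' * h⁻¹ * a'⁻¹) := by group
        rw [e]
        exact H.mul_mem hh (c.hHn.conj_mem _ (H.inv_mem hh) _)
      · intro a ha
        rw [mem_commInto]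
        exact hcomm a ha
      · intro a ha
        rw [mem_commInto]
        have e : a * a' * a⁻¹ * a'⁻¹ = 1 := by rw [gmax_comm p.h₂ a ha a' ha']; group
        rw [e]; exact H.one_mem
    have hM2 : IsPGroup 2 ↥(H ⊔ Subgroup.zpowers a') :=
      IsPGroup.to_sup_of_normal_left c.hH2 (isPGroup_zpowers_of_pow ha'2)
    have hMn : (H ⊔ Subgroup.zpowers a').Normal := by
      constructor
      intro n hn x
      have h1 : (H ⊔ Subgroup.zpowers a').map (MulAut.conj x).toMonoidHom ≤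
          H ⊔ Subgroup.zpowers a' := by
        rw [Subgroup.map_sup, MonoidHom.map_zpowers]
        refine sup_le ?_ ?_
        · rintro _ ⟨h, hh, rfl⟩
          simp only [MulEquiv.coe_toMonoidHom, MulAut.conj_apply]
          exact (le_sup_left : H ≤ H ⊔ Subgroup.zpowers a') (c.hHn.conj_mem h hh x)
        · rw [Subgroup.zpowers_le]
          simp only [MulEquiv.coe_toMonoidHom, MulAut.conj_apply]
          have hx : x ∈ commInto H a' := by rw [hK]; exact Subgroup.mem_top x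
          rw [mem_commInto] at hx
          have e : x * a' * x⁻¹ = (x * a' * x⁻¹ * a'⁻¹) * a' := by group
          rw [e]
          exact Subgroup.mul_mem _ ((le_sup_left : H ≤ H ⊔ Subgroup.zpowers a') hx)
            ((le_sup_right : Subgroup.zpowers a' ≤ H ⊔ Subgroup.zpowers a')
              (Subgroup.mem_zpowers a'))
      have h2 : (MulAut.conj x).toMonoidHom n ∈
          (H ⊔ Subgroup.zpowers a').map (MulAut.conj x).toMonoidHom :=
        Subgroup.mem_map_of_mem _ hn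
      have h3 := h1 h2
      simpa only [MulEquiv.coe_toMonoidHom, MulAut.conj_apply] using h3
    exact c.hcore _ hMn hM2
      ((le_sup_right : Subgroup.zpowers a' ≤ H ⊔ Subgroup.zpowers a') (Subgroup.mem_zpowers a'))

end Cfsg.Agent.helper15.ConJ
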