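import Mathlib
import Cfsg.Agent.Lib_helper15_ConJ3

/-! Two conjugate members of `𝒜` generating `X` modulo `H`: the fixed point spaces differ,
and the commutator maps are bijective modulo the common fixed points (helper15). -/

set_option autoImplicit false
set_option linter.style.haveILetI false

namespace Cfsg.Agent.helper15.ConJ

open Cfsg

universe u

variable {X : Type u} [Group X] {H V A₁ A₂ : Subgroup X} {g : X}

theorem Pair.inj [Finite X] (p : Pair H A₁ A₂ g) (c : Ctx H V) {v : X} (hv : v ∈ V)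
    (hv₂ : ∀ a ∈ A₂, a * v = v * a) (hv₁ : ¬ ∀ a ∈ A₁, a * v = v * a) {a : X} (ha : a ∈ A₁)
    (haH : a ∉ H) : ¬ ∀ x : X, x * (a * v * a⁻¹ * v⁻¹) = (a * v * a⁻¹ * v⁻¹) * x :=
  fun hz => hv₁ (p.symm.key c hv hv₂ ha haH hz)

/-- the two fixed point spaces cannot coincide -/
theorem Pair.false_of_eq [Finite X] (p : Pair H A₁ A₂ g) (c : Ctx H V) (hne : ¬ A₁ ≤ H)
    (heq : ∀ v ∈ V, (∀ a ∈ A₁, a * v = v * a) ↔ (∀ a ∈ A₂, a * v = v * a)) : False := by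
  haveI := c.hHn
  haveI := c.hVn
  have h1 : ∀ v ∈ V, ∀ x : X, x * v * x⁻¹ * v⁻¹ ∈ Subgroup.center X := by
    intro v hv x
    have hK : commInto (Subgroup.center X) v = ⊤ := by
      apply p.eq_top
      · intro h hh
        rw [mem_commInto]
        have e : h * v * h⁻¹ * v⁻¹ = 1 := by rw [c.hHV h hh v hv]; group
        rw [e]; exact Subgroup.one_mem _
      · intro a ha
        rw [mem_commInto, Subgroup.mem_center_iff]
        obtain ⟨hd, hd1⟩ := c.quad p.h₁ ha hv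
        exact p.central c hd hd1 ((heq _ hd).1 hd1)
      · intro a ha
        rw [mem_commInto, Subgroup.mem_center_iff]
        obtain ⟨hd, hd2⟩ := c.quad p.h₂ ha hv
        exact p.central c hd ((heq _ hd).2 hd2) hd2
    have hx : x ∈ commInto (Subgroup.center X) v := by rw [hK]; exact Subgroup.mem_top x
    rwa [mem_commInto] at hx
  have h2 : ∀ x : X, ∀ m : ℕ, Odd m → x ^ m = 1 → x = 1 := by
    intro x m hm hxm
    have hxV : x ∈ Subgroup.centralizer (V : Set X) := by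
      rw [Subgroup.mem_centralizer_iff]
      intro v hv
      obtain ⟨d, hd⟩ : ∃ d, d = x * v * x⁻¹ * v⁻¹ := ⟨_, rfl⟩
      have hdc : ∀ y : X, y * d = d * y := by
        have := h1 v hv x
        rw [← hd, Subgroup.mem_center_iff] at this
        exact this
      have hdV : d ∈ V := by
        rw [hd]; exact V.mul_mem (c.hVn.conj_mem v hv x) (V.inv_mem hv)
      have hconj : x * v * x⁻¹ = v * d := by
        rw [hdc v, hd]; group
      have h3 := Cfsg.Agent.S3755.conj_pow_of_commute hconj (hdc x) m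
      rw [hxm] at h3
      have h4 : d ^ m = 1 := by
        have : v * d ^ m = v * 1 := by rw [← h3]; group
        exact mul_left_cancel this
      have hd1 : d = 1 := SolvJ.eq_one_of_sq_of_odd (c.hV2 d hdV) hm h4
      rw [hd1, mul_one] at hconj
      calc v * x = (x * v * x⁻¹) * x := by rw [hconj]
        _ = x * v := by group
    have hxH : x ∈ H := p.centralizer_le c hxV
    obtain ⟨i, hi⟩ := c.hH2 ⟨x, hxH⟩
    have hi' : x ^ 2 ^ i = 1 := by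
      have := congrArg Subtype.val hi
      rwa [Subgroup.coe_pow, Subgroup.coe_one] at this
    have hd1 : orderOf x ∣ 2 ^ i := orderOf_dvd_of_pow_eq_one hi'
    have hd2 : orderOf x ∣ m := orderOf_dvd_of_pow_eq_one hxm
    have hcop : Nat.Coprime (2 ^ i) m := Nat.Coprime.pow_left i (Nat.coprime_two_left.2 hm)
    have hd3 : orderOf x ∣ 1 := by
      have := Nat.dvd_gcd hd1 hd2
      rwa [hcop] at this
    exact orderOf_eq_one_iff.1 (Nat.dvd_one.1 hd3)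
  have h3 : IsPGroup 2 ↥(⊤ : Subgroup X) := by
    rintro ⟨x, hx⟩
    obtain ⟨a, m, hmodd, hord⟩ := Nat.exists_eq_two_pow_mul_odd (orderOf_pos x).ne'
    have hx' : (x ^ 2 ^ a) ^ m = 1 := by
      rw [← pow_mul, ← hord]; exact pow_orderOf_eq_one x
    have := h2 _ m hmodd hx'
    refine ⟨a, ?_⟩
    apply Subtype.ext
    rw [Subgroup.coe_pow, Subgroup.coe_one]
    exact this
  have h4 : (⊤ : Subgroup X) ≤ H := c.hcore ⊤ inferInstance h3
  exact hne (le_top.trans h4)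

theorem le_normalizer_of_comm {V K L : Subgroup X} (hVc : ∀ v ∈ V, ∀ w ∈ V, v * w = w * v)
    (hK : K ≤ V) (hL : L ≤ V) : K ≤ Subgroup.normalizer (L : Set X) := by
  intro f hf
  rw [Subgroup.mem_normalizer_iff]
  intro n
  constructor
  · intro hn
    have e : f * n * f⁻¹ = n := by rw [hVc f (hK hf) n (hL hn)]; group
    rw [e]; exact hn
  · intro hn
    have h1 := hVc f (hK hf) _ (hL hn)
    have e : n = f * n * f⁻¹ := by
      calc n = f⁻¹ * ((f * n * f⁻¹) * f) := by group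
        _ = f⁻¹ * (f * (f * n * f⁻¹)) := by rw [h1]
        _ = f * n * f⁻¹ := by group
    rw [e]; exact hn

/-- surjectivity of the commutator map modulo central elements -/
theorem Pair.surj [Finite X] (p : Pair H A₁ A₂ g) (c : Ctx H V) {v : X} (hv : v ∈ V)
    (hv₂ : ∀ a ∈ A₂, a * v = v * a) (hv₁ : ¬ ∀ a ∈ A₁, a * v = v * a) :
    ∀ d ∈ V, (∀ a ∈ A₁, a * d = d * a) →
      ∃ a ∈ A₁, ∃ z ∈ V, (∀ x : X, x * z = z * x) ∧ d = (a * v * a⁻¹ * v⁻¹) * z := by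
  haveI := c.hHn
  haveI := c.hVn
  obtain ⟨C₁, hC₁⟩ : ∃ C₁ : Subgroup X, C₁ = V ⊓ Subgroup.centralizer (A₁ : Set X) := ⟨_, rfl⟩
  obtain ⟨C₂, hC₂⟩ : ∃ C₂ : Subgroup X, C₂ = V ⊓ Subgroup.centralizer (A₂ : Set X) := ⟨_, rfl⟩
  obtain ⟨V₀, hV₀⟩ : ∃ V₀ : Subgroup X, V₀ = C₁ ⊓ C₂ := ⟨_, rfl⟩
  have hC₁mem : ∀ x, x ∈ C₁ ↔ x ∈ V ∧ ∀ a ∈ A₁, a * x = x * a := by
    intro x; rw [hC₁, Subgroup.mem_inf, Subgroup.mem_centralizer_iff]; rfl
  have hC₂mem : ∀ x, x ∈ C₂ ↔ x ∈ V ∧ ∀ a ∈ A₂, a * x = x * a := by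
    intro x; rw [hC₂, Subgroup.mem_inf, Subgroup.mem_centralizer_iff]; rfl
  have hC₁V : C₁ ≤ V := hC₁ ▸ inf_le_left
  have hC₂V : C₂ ≤ V := hC₂ ▸ inf_le_left
  have hV₀C₁ : V₀ ≤ C₁ := hV₀ ▸ inf_le_left
  have hV₀C₂ : V₀ ≤ C₂ := hV₀ ▸ inf_le_right
  have hV₀V : V₀ ≤ V := hV₀C₁.trans hC₁V
  have hV₀c : ∀ z ∈ V₀, ∀ x : X, x * z = z * x := by
    intro z hz
    exact p.central c (hV₀V hz) ((hC₁mem z).1 (hV₀C₁ hz)).2 ((hC₂mem z).1 (hV₀C₂ hz)).2
  haveI hV₀n : V₀.Normal := by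
    constructor
    intro n hn x
    have e : x * n * x⁻¹ = n := by rw [hV₀c n hn x]; group
    rw [e]; exact hn
  -- the commutator homomorphism
  let φ : ↥A₁ →* X :=
    { toFun := fun a => (a : X) * v * (a : X)⁻¹ * v⁻¹
      map_one' := by simp
      map_mul' := by
        rintro ⟨a, ha⟩ ⟨b, hb⟩
        show a * b * v * (a * b)⁻¹ * v⁻¹ = (a * v * a⁻¹ * v⁻¹) * (b * v * b⁻¹ * v⁻¹)
        obtain ⟨hfb, hfb1⟩ := c.quad p.h₁ hb hv
        obtain ⟨hfa, _⟩ := c.quad p.h₁ ha hv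
        have h1 : a * (b * v * b⁻¹ * v⁻¹) * a⁻¹ = b * v * b⁻¹ * v⁻¹ := by
          rw [hfb1 a ha]; group
        calc a * b * v * (a * b)⁻¹ * v⁻¹
            = (a * (b * v * b⁻¹ * v⁻¹) * a⁻¹) * (a * v * a⁻¹ * v⁻¹) := by group
          _ = (b * v * b⁻¹ * v⁻¹) * (a * v * a⁻¹ * v⁻¹) := by rw [h1]
          _ = (a * v * a⁻¹ * v⁻¹) * (b * v * b⁻¹ * v⁻¹) := c.hVc _ hfb _ hfa }
  have hφ : ∀ a : ↥A₁, φ a = (a : X) * v * (a : X)⁻¹ * v⁻¹ := fun _ => rfl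
  obtain ⟨F, hF⟩ : ∃ F : Subgroup X, F = φ.range := ⟨_, rfl⟩
  have hFC₁ : F ≤ C₁ := by
    rw [hF]
    rintro _ ⟨⟨a, ha⟩, rfl⟩
    rw [hφ, hC₁mem]
    exact c.quad p.h₁ ha hv
  have hker : ∀ a : ↥A₁, φ a = 1 ↔ (a : X) ∈ H := by
    rintro ⟨a, ha⟩
    rw [hφ]
    constructor
    · intro h1
      by_contra haH
      apply p.inj c hv hv₂ hv₁ ha haH
      intro x
      show x * (a * v * a⁻¹ * v⁻¹) = (a * v * a⁻¹ * v⁻¹) * x
      have h1' : a * v * a⁻¹ * v⁻¹ = 1 := h1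
      rw [h1', mul_one, one_mul]
    · intro haH
      show a * v * a⁻¹ * v⁻¹ = 1
      rw [c.hHV a haH v hv]; group
  have hcardA : Nat.card A₁ = Nat.card ↥(A₁ ⊓ H) * Nat.card F := by
    have e1 := Subgroup.card_eq_card_quotient_mul_card_subgroup φ.ker
    have e2 : Nat.card (↥A₁ ⧸ φ.ker) = Nat.card F := by
      rw [hF]; exact Nat.card_congr (QuotientGroup.quotientKerEquivRange φ).toEquiv
    have e3 : φ.ker = (A₁ ⊓ H).subgroupOf A₁ := by
      ext a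
      rw [MonoidHom.mem_ker, hker, Subgroup.mem_subgroupOf, Subgroup.mem_inf]
      exact ⟨fun h => ⟨a.2, h⟩, fun h => h.2⟩
    have e4 : Nat.card φ.ker = Nat.card ↥(A₁ ⊓ H) := by
      rw [e3]
      exact Nat.card_congr (Subgroup.subgroupOfEquivOfLe inf_le_left).toEquiv
    rw [e1, e2, e4, mul_comm]
  have hFV₀ : F ⊓ V₀ = ⊥ := by
    rw [eq_bot_iff]
    rintro x ⟨hxF, hx0⟩
    rw [hF] at hxF
    obtain ⟨⟨a, ha⟩, rfl⟩ := hxF
    rw [Subgroup.mem_bot]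
    by_cases haH : a ∈ H
    · exact (hker ⟨a, ha⟩).2 haH
    · exfalso
      apply p.inj c hv hv₂ hv₁ ha haH
      exact hV₀c _ hx0
  have hp1 := Cfsg.Agent.helper15.card_sup_mul_card_inf_of_le_normalizer F V₀
    (le_normalizer_of_comm c.hVc (hFC₁.trans hC₁V) hV₀V)
  rw [hFV₀, Subgroup.card_bot, mul_one] at hp1
  have hp2 := Cfsg.Agent.helper15.card_sup_mul_card_inf_of_le_normalizer C₁ C₂
    (le_normalizer_of_comm c.hVc hC₁V hC₂V)
  rw [← hV₀] at hp2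
  have hle : Nat.card ↥(C₁ ⊔ C₂) ≤ Nat.card V := Subgroup.card_le_of_le (sup_le hC₁V hC₂V)
  have hoff := c.offender p.h₂
  rw [← hC₂] at hoff
  have hA12 : Nat.card A₁ = Nat.card A₂ := gmax_card_eq p.h₁ p.h₂
  have hconjH : Nat.card ↥(A₁ ⊓ H) ≤ Nat.card ↥(A₂ ⊓ H) := by
    have h1 : (A₁ ⊓ H).map (MulAut.conj g).toMonoidHom ≤ A₂ ⊓ H := by
      rintro _ ⟨a, ⟨ha1, haH⟩, rfl⟩
      simp only [MulEquiv.coe_toMonoidHom, MulAut.conj_apply]
      exact ⟨p.hc₁ a ha1, c.hHn.conj_mem a haH g⟩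
    have h2 := Subgroup.card_le_of_le h1
    rwa [Subgroup.card_map_of_injective (MulAut.conj g).injective] at h2
  have hpos1 : 0 < Nat.card C₂ := Nat.card_pos
  have hpos2 : 0 < Nat.card ↥(A₁ ⊓ H) := Nat.card_pos
  have hcard : Nat.card C₁ ≤ Nat.card F * Nat.card V₀ := by
    have hmain : Nat.card C₁ * (Nat.card C₂ * Nat.card ↥(A₁ ⊓ H)) ≤
        (Nat.card F * Nat.card V₀) * (Nat.card C₂ * Nat.card ↥(A₁ ⊓ H)) := by
      calc Nat.card C₁ * (Nat.card C₂ * Nat.card ↥(A₁ ⊓ H))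
          = (Nat.card C₁ * Nat.card C₂) * Nat.card ↥(A₁ ⊓ H) := by ring
        _ ≤ (Nat.card C₁ * Nat.card C₂) * Nat.card ↥(A₂ ⊓ H) := Nat.mul_le_mul_left _ hconjH
        _ = (Nat.card ↥(C₁ ⊔ C₂) * Nat.card V₀) * Nat.card ↥(A₂ ⊓ H) := by rw [hp2]
        _ ≤ (Nat.card V * Nat.card V₀) * Nat.card ↥(A₂ ⊓ H) :=
            Nat.mul_le_mul_right _ (Nat.mul_le_mul_right _ hle)
        _ = (Nat.card V * Nat.card ↥(A₂ ⊓ H)) * Nat.card V₀ := by ring
        _ ≤ (Nat.card A₂ * Nat.card C₂) * Nat.card V₀ := Nat.mul_le_mul_right _ hoff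
        _ = (Nat.card F * Nat.card V₀) * (Nat.card C₂ * Nat.card ↥(A₁ ⊓ H)) := by
            rw [← hA12, hcardA]; ring
    exact Nat.le_of_mul_le_mul_right hmain (Nat.mul_pos hpos1 hpos2)
  have hsup : F ⊔ V₀ = C₁ := by
    apply Subgroup.eq_of_le_of_card_ge (sup_le hFC₁ hV₀C₁)
    rw [hp1]; exact hcard
  intro d hdV hd1
  have hdC : d ∈ ((F ⊔ V₀ : Subgroup X) : Set X) := by
    rw [hsup]; exact (hC₁mem d).2 ⟨hdV, hd1⟩
  rw [Subgroup.mul_normal, Set.mem_mul] at hdC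
  obtain ⟨f, hf, z, hz, rfl⟩ := hdC
  have hf' : f ∈ F := hf
  rw [hF] at hf'
  obtain ⟨⟨a, ha⟩, rfl⟩ := hf'
  exact ⟨a, ha, z, hV₀V hz, hV₀c z hz, rfl⟩

end Cfsg.Agent.helper15.ConJ
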