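import Mathlib
import Cfsg.Agent.Lib_helper15_ConJ4
import Cfsg.Agent.Lib_helper15_S4d

/-! The four-group with `S₃`-action in the `SL₂`-like configuration (helper15). -/

set_option autoImplicit false
set_option linter.style.haveILetI false

namespace Cfsg.Agent.helper15.ConJ

open Cfsg

universe u

variable {X : Type u} [Group X]

theorem mem_zpowers_of_sq {x z : X} (hx : x * x = 1) (hz : z ∈ Subgroup.zpowers x) :
    z = 1 ∨ z = x := by
  obtain ⟨i, rfl⟩ := Subgroup.mem_zpowers_iff.1 hz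
  have hx2 : x ^ (2 : ℤ) = 1 := by
    rw [show (2 : ℤ) = ((2 : ℕ) : ℤ) from rfl, zpow_natCast, pow_two]; exact hx
  rcases Int.even_or_odd' i with ⟨k, hk | hk⟩
  · left
    rw [hk, zpow_mul, hx2, one_zpow]
  · right
    rw [hk, zpow_add, zpow_mul, hx2, one_zpow, one_mul, zpow_one]

theorem card_zpowers_sup [Finite X] {x y : X} (hx : x * x = 1) (hy : y * y = 1)
    (hxy : x * y = y * x) (hx1 : x ≠ 1) (hy1 : y ≠ 1) (hne : x ≠ y) :
    Nat.card ↥(Subgroup.zpowers x ⊔ Subgroup.zpowers y) = 4 := by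
  haveI : Fact (Nat.Prime 2) := ⟨Nat.prime_two⟩
  have hox : orderOf x = 2 := orderOf_eq_prime (by rw [pow_two]; exact hx) hx1
  have hoy : orderOf y = 2 := orderOf_eq_prime (by rw [pow_two]; exact hy) hy1
  have hinf : Subgroup.zpowers x ⊓ Subgroup.zpowers y = ⊥ := by
    rw [eq_bot_iff]
    rintro z ⟨hzx, hzy⟩
    rw [Subgroup.mem_bot]
    rcases mem_zpowers_of_sq hx hzx with h | h
    · exact h
    · rcases mem_zpowers_of_sq hy hzy with h' | h'
      · exact h'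
      · exact absurd (h.symm.trans h') hne
  have hnorm : Subgroup.zpowers x ≤ Subgroup.normalizer ((Subgroup.zpowers y : Subgroup X) : Set X) := by
    rw [Subgroup.zpowers_le, Subgroup.mem_normalizer_iff]
    have hc : ∀ n ∈ Subgroup.zpowers y, x * n * x⁻¹ = n := by
      intro n hn
      obtain ⟨i, rfl⟩ := Subgroup.mem_zpowers_iff.1 hn
      have h1 : Commute x (y ^ i) := (show Commute x y from hxy).zpow_right i
      rw [h1.eq]; group
    intro n
    constructor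
    · intro hn
      rw [hc n hn]; exact hn
    · intro hn
      have h1 := hc _ hn
      have e : n = x * n * x⁻¹ := by
        calc n = x⁻¹ * (x * n * x⁻¹) * x := by group
          _ = x⁻¹ * (x * (x * n * x⁻¹) * x⁻¹) * x := by rw [h1]
          _ = x * n * x⁻¹ := by group
      rw [e]; exact hn
  have h1 := Cfsg.Agent.helper15.card_sup_mul_card_inf_of_le_normalizer _ _ hnorm
  rw [hinf, Subgroup.card_bot, mul_one, Nat.card_zpowers, Nat.card_zpowers, hox, hoy] at h1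
  exact h1


variable {H V A₁ A₂ : Subgroup X} {g : X}

/-- the final configuration: a four-group with an `S₃`-action -/
theorem Pair.involves [Finite X] (p : Pair H A₁ A₂ g) (c : Ctx H V) {v : X} (hv : v ∈ V)
    (hv₂ : ∀ a ∈ A₂, a * v = v * a) (hv₁ : ¬ ∀ a ∈ A₁, a * v = v * a) {a : X} (ha : a ∈ A₁)
    (haH : a ∉ H) : Cfsg.Involves (Equiv.Perm (Fin 4)) X := by
  haveI := c.hHn
  haveI := c.hVn
  obtain ⟨w, hw⟩ : ∃ w, w = a * v * a⁻¹ * v⁻¹ := ⟨_, rfl⟩
  obtain ⟨hwV, hw₁⟩ := c.quad p.h₁ ha hv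
  have hwnc := p.inj c hv hv₂ hv₁ ha haH
  rw [← hw] at hwV hw₁ hwnc
  have hw₂ : ¬ ∀ a' ∈ A₂, a' * w = w * a' := fun h => hwnc (p.central c hwV hw₁ h)
  obtain ⟨a', ha', z, hzV, hzc, hvz⟩ := p.symm.surj c hwV hw₁ hw₂ v hv hv₂
  obtain ⟨v', hv'⟩ : ∃ v', v' = a' * w * a'⁻¹ * w⁻¹ := ⟨_, rfl⟩
  obtain ⟨hv'V, hv'₂⟩ := c.quad p.h₂ ha' hwV
  rw [← hv'] at hvz hv'V hv'₂
  have hzinv : ∀ x : X, x * z⁻¹ = z⁻¹ * x := by
    intro x
    have h1 : Commute x z := hzc x
    exact h1.inv_right.eq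
  have ev' : v' = v * z⁻¹ := by rw [hvz]; group
  -- the action
  have hav' : a * v' * a⁻¹ = w * v' := by
    rw [ev']
    calc a * (v * z⁻¹) * a⁻¹ = a * v * (z⁻¹ * a⁻¹) := by group
      _ = a * v * (a⁻¹ * z⁻¹) := by rw [hzinv a⁻¹]
      _ = w * (v * z⁻¹) := by rw [hw]; group
  have haw : a * w * a⁻¹ = w := by rw [hw₁ a ha]; group
  have ha'w : a' * w * a'⁻¹ = v' * w := by rw [hv']; group
  have ha'v' : a' * v' * a'⁻¹ = v' := by rw [hv'₂ a' ha']; group
  have hw1 : w ≠ 1 := by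
    intro h
    apply hwnc
    intro x
    rw [h, mul_one, one_mul]
  have hv'1 : v' ≠ 1 := by
    intro h
    apply hv₁
    intro b _
    rw [hvz, h, one_mul]
    exact hzc b
  have hne : v' ≠ w := by
    intro h
    apply hw₂
    rw [← h]
    exact hv'₂
  have hv'w : v' * w = w * v' := c.hVc v' hv'V w hwV
  have hv'2 : v' * v' = 1 := c.hV2 v' hv'V
  have hw2 : w * w = 1 := c.hV2 w hwV
  obtain ⟨U, hU⟩ : ∃ U : Subgroup X, U = Subgroup.zpowers v' ⊔ Subgroup.zpowers w := ⟨_, rfl⟩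
  have hU4 : Nat.card U = 4 := by
    rw [hU]; exact card_zpowers_sup hv'2 hw2 hv'w hv'1 hw1 hne
  have hv'U : v' ∈ U := by
    rw [hU]; exact (le_sup_left : Subgroup.zpowers v' ≤ _) (Subgroup.mem_zpowers v')
  have hwU : w ∈ U := by
    rw [hU]; exact (le_sup_right : Subgroup.zpowers w ≤ _) (Subgroup.mem_zpowers w)
  have hUV : U ≤ V := by
    rw [hU]
    exact sup_le ((Subgroup.zpowers_le).2 hv'V) ((Subgroup.zpowers_le).2 hwV)
  have hU2 : ∀ x ∈ U, x * x = 1 := fun x hx => c.hV2 x (hUV hx)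
  have hconjU : ∀ t : X, t * v' * t⁻¹ ∈ U → t * w * t⁻¹ ∈ U → ∀ u ∈ U, t * u * t⁻¹ ∈ U := by
    intro t h1 h2 u hu
    have h3 : U.map (MulAut.conj t).toMonoidHom ≤ U := by
      nth_rewrite 1 [hU]
      rw [Subgroup.map_sup, MonoidHom.map_zpowers, MonoidHom.map_zpowers]
      refine sup_le ?_ ?_
      · rw [Subgroup.zpowers_le]
        simpa only [MulEquiv.coe_toMonoidHom, MulAut.conj_apply] using h1
      · rw [Subgroup.zpowers_le]
        simpa only [MulEquiv.coe_toMonoidHom, MulAut.conj_apply] using h2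
    have h4 : (MulAut.conj t).toMonoidHom u ∈ U.map (MulAut.conj t).toMonoidHom :=
      Subgroup.mem_map_of_mem _ hu
    have h5 := h3 h4
    simpa only [MulEquiv.coe_toMonoidHom, MulAut.conj_apply] using h5
  have hnorm : ∀ t : X, t⁻¹ = t → (∀ u ∈ U, t * u * t⁻¹ ∈ U) →
      t ∈ Subgroup.normalizer (U : Set X) := by
    intro t ht h
    rw [Subgroup.mem_normalizer_iff]
    intro u
    constructor
    · exact h u
    · intro hu
      have h1 := h _ hu
      have ht2 : t * t = 1 := by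
        nth_rewrite 1 [← ht]
        group
      have e : t * (t * u * t⁻¹) * t⁻¹ = u := by
        calc t * (t * u * t⁻¹) * t⁻¹ = (t * t) * u * (t * t)⁻¹ := by group
          _ = u := by rw [ht2]; group
      rwa [e] at h1
  have haN : a ∈ Subgroup.normalizer (U : Set X) := by
    apply hnorm a (gmax_inv p.h₁ a ha)
    apply hconjU
    · rw [hav']; exact U.mul_mem hwU hv'U
    · rw [haw]; exact hwU
  have ha'N : a' ∈ Subgroup.normalizer (U : Set X) := by
    apply hnorm a' (gmax_inv p.h₂ a' ha')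
    apply hconjU
    · rw [ha'v']; exact hv'U
    · rw [ha'w]; exact U.mul_mem hv'U hwU
  have haC : a ∉ Subgroup.centralizer (U : Set X) := by
    intro h
    have h1 := Subgroup.mem_centralizer_iff.mp h v' hv'U
    have h2 : a * v' * a⁻¹ = v' := by rw [← h1]; group
    rw [hav'] at h2
    apply hw1
    calc w = (w * v') * v'⁻¹ := by group
      _ = v' * v'⁻¹ := by rw [h2]
      _ = 1 := by group
  obtain ⟨g₀, hg₀⟩ : ∃ g₀, g₀ = a * a' := ⟨_, rfl⟩
  have hg₀N : g₀ ∈ Subgroup.normalizer (U : Set X) := by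
    rw [hg₀]; exact Subgroup.mul_mem _ haN ha'N
  have hc1 : g₀ * v' * g₀⁻¹ = w * v' := by
    calc g₀ * v' * g₀⁻¹ = a * (a' * v' * a'⁻¹) * a⁻¹ := by rw [hg₀]; group
      _ = w * v' := by rw [ha'v', hav']
  have hc2 : g₀ * w * g₀⁻¹ = v' := by
    calc g₀ * w * g₀⁻¹ = a * (a' * w * a'⁻¹) * a⁻¹ := by rw [hg₀]; group
      _ = (a * v' * a⁻¹) * (a * w * a⁻¹) := by rw [ha'w]; group
      _ = w * v' * w := by rw [hav', haw]
      _ = v' * (w * w) := by rw [← hv'w]; group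
      _ = v' := by rw [hw2, mul_one]
  have hc3 : g₀ * (w * v') * g₀⁻¹ = w := by
    calc g₀ * (w * v') * g₀⁻¹ = (g₀ * w * g₀⁻¹) * (g₀ * v' * g₀⁻¹) := by group
      _ = v' * (w * v') := by rw [hc1, hc2]
      _ = (v' * v') * w := by rw [← hv'w]; group
      _ = w := by rw [hv'2, one_mul]
  have hg₀C : g₀ ∉ Subgroup.centralizer (U : Set X) := by
    intro h
    have h1 := Subgroup.mem_centralizer_iff.mp h v' hv'U
    have h2 : g₀ * v' * g₀⁻¹ = v' := by rw [← h1]; group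
    rw [hc1] at h2
    apply hw1
    calc w = (w * v') * v'⁻¹ := by group
      _ = v' * v'⁻¹ := by rw [h2]
      _ = 1 := by group
  have hcube : g₀ ^ 3 ∈ Subgroup.centralizer (U : Set X) := by
    have e3 : ∀ x : X, g₀ ^ 3 * x * (g₀ ^ 3)⁻¹ =
        g₀ * (g₀ * (g₀ * x * g₀⁻¹) * g₀⁻¹) * g₀⁻¹ := by
      intro x
      have e0 : g₀ ^ 3 = g₀ * g₀ * g₀ := by rw [pow_succ, pow_succ, pow_one]
      rw [e0]; group
    have h1 : g₀ ^ 3 * v' * (g₀ ^ 3)⁻¹ = v' := by rw [e3, hc1, hc3, hc2]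
    have h2 : g₀ ^ 3 * w * (g₀ ^ 3)⁻¹ = w := by rw [e3, hc2, hc1, hc3]
    have hle : U ≤ Subgroup.centralizer ({g₀ ^ 3} : Set X) := by
      rw [hU]
      refine sup_le ?_ ?_
      · rw [Subgroup.zpowers_le, Subgroup.mem_centralizer_iff]
        intro y hy
        rw [Set.mem_singleton_iff] at hy
        rw [hy]
        calc g₀ ^ 3 * v' = (g₀ ^ 3 * v' * (g₀ ^ 3)⁻¹) * g₀ ^ 3 := by group
          _ = v' * g₀ ^ 3 := by rw [h1]
      · rw [Subgroup.zpowers_le, Subgroup.mem_centralizer_iff]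
        intro y hy
        rw [Set.mem_singleton_iff] at hy
        rw [hy]
        calc g₀ ^ 3 * w = (g₀ ^ 3 * w * (g₀ ^ 3)⁻¹) * g₀ ^ 3 := by group
          _ = w * g₀ ^ 3 := by rw [h2]
    rw [Subgroup.mem_centralizer_iff]
    intro u hu
    exact (Subgroup.mem_centralizer_iff.mp (hle hu) _ (Set.mem_singleton _)).symm
  obtain ⟨i, m, hmodd, hord⟩ := Nat.exists_eq_two_pow_mul_odd (orderOf_pos g₀).ne'
  obtain ⟨k, hk⟩ : ∃ k, k = g₀ ^ 2 ^ i := ⟨_, rfl⟩
  have hkm : k ^ m = 1 := by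
    rw [hk, ← pow_mul, ← hord]; exact pow_orderOf_eq_one g₀
  have hkN : k ∈ Subgroup.normalizer (U : Set X) := by
    rw [hk]; exact Subgroup.pow_mem _ hg₀N _
  have hkC : k ∉ Subgroup.centralizer (U : Set X) := by
    intro h
    apply hg₀C
    have hcop : Nat.gcd (2 ^ i) 3 = 1 := Nat.Coprime.pow_left i (by norm_num)
    have hbez := Nat.gcd_eq_gcd_ab (2 ^ i) 3
    rw [hcop] at hbez
    have e : g₀ = (g₀ ^ 2 ^ i) ^ (Nat.gcdA (2 ^ i) 3) * (g₀ ^ 3) ^ (Nat.gcdB (2 ^ i) 3) := by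
      rw [← zpow_natCast g₀ (2 ^ i), ← zpow_natCast g₀ 3, ← zpow_mul, ← zpow_mul, ← zpow_add,
        ← hbez]
      simp
    rw [e]
    rw [hk] at h
    exact Subgroup.mul_mem _ (Subgroup.zpow_mem _ h _) (Subgroup.zpow_mem _ hcube _)
  have ha2 : a ^ 2 ^ 1 = 1 := by
    rw [pow_one, pow_two]; exact gmax_sq p.h₁ a ha
  exact Cfsg.Agent.helper15.S4F.involves_S4_of_four U hU4 hU2 hkN hkC hmodd hkm haN haC ha2

end Cfsg.Agent.helper15.ConJ
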