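import Mathlib
import Cfsg.Agent.Lib_helper15_ConJ5
import Cfsg.Agent.Lib_helper23_ThompsonJZ

/-! In a finite `S₄`-free group `X` with `C_X(O₂(X)) ≤ O₂(X)` whose Sylow `2`-subgroups have
class at most two, the elementary Thompson subgroup lies in `O₂(X)` (helper15). -/

set_option autoImplicit false
set_option linter.style.haveILetI false

namespace Cfsg.Agent.helper15.ConJ

open Cfsg

universe u

theorem gmax_le_pCore_aux (n : ℕ) : ∀ (X : Type u) [Group X] [Finite X], Nat.card X = n →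
    Subgroup.centralizer (Cfsg.pCore 2 X : Set X) ≤ Cfsg.pCore 2 X →
    ¬ Cfsg.Involves (Equiv.Perm (Fin 4)) X → Cl2 X →
    ∀ A : Subgroup X, IsGMaxEA A → A ≤ Cfsg.pCore 2 X := by
  induction n using Nat.strong_induction_on with
  | _ n ih =>
    intro X _ _ hn hcon hfree hcl2 A hA
    by_contra hAH
    haveI : Fact (Nat.Prime 2) := ⟨Nat.prime_two⟩
    have IH : ∀ (Y : Type u) [Group Y] [Finite Y], Nat.card Y < Nat.card X →
        Subgroup.centralizer (Cfsg.pCore 2 Y : Set Y) ≤ Cfsg.pCore 2 Y →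
        ¬ Cfsg.Involves (Equiv.Perm (Fin 4)) Y → Cl2 Y →
        ∀ A : Subgroup Y, IsGMaxEA A → A ≤ Cfsg.pCore 2 Y := by
      intro Y _ _ hlt
      exact ih (Nat.card Y) (hn ▸ hlt) Y rfl
    have hF1 := exists_core_of_lt IH hcon hfree hcl2
    obtain ⟨H, hHdef⟩ : ∃ H : Subgroup X, H = Cfsg.pCore 2 X := ⟨_, rfl⟩
    rw [← hHdef] at hcon hAH hF1
    haveI hHn : H.Normal := by rw [hHdef]; exact helper1.pCore_normal 2
    obtain ⟨V, hV⟩ : ∃ V : Subgroup X, V = helper23.omegaZ 2 H := ⟨_, rfl⟩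
    have ctx : Ctx H V := by
      refine ⟨hHn, ?_, ?_, ?_, hcon, ?_, ?_, ?_, ?_, hcl2, hF1⟩
      · rw [hV]; exact helper23.omegaZ_normal 2 H
      · rw [hHdef]; exact helper1.pCore_isPGroup 2
      · intro N hN h2
        rw [hHdef]; exact helper1.le_pCore hN h2
      · rw [hV]; exact helper23.omegaZ_le 2 H
      · intro h hh v hv
        rw [hV] at hv
        exact (Subgroup.mem_centralizer_iff.mp (helper23.le_centralizer_omegaZ 2 H hh) v hv).symm
      · intro v hv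
        rw [hV] at hv
        have := hv.2.2
        rwa [pow_two] at this
      · intro d hdH hdc hdd
        rw [hV, helper23.mem_omegaZ]
        refine ⟨hdH, ?_, by rw [pow_two]; exact hdd⟩
        rw [Subgroup.mem_centralizer_iff]
        intro h hh
        exact (hdc h hh).symm
    obtain ⟨a, haA, haH⟩ : ∃ a ∈ A, a ∉ H := by
      by_contra hcon2
      push Not at hcon2
      exact hAH hcon2
    have hnot : ¬ ∀ g : X, IsPGroup 2 ↥(Subgroup.closure ({a, g * a * g⁻¹} : Set X)) := by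
      intro h
      have h1 := Cfsg.Agent.helper15.mem_iInf_sylow_of_baer_suzuki a h
      rw [← helper1.pCore_eq_iInf_sylow, ← hHdef] at h1
      exact haH h1
    push Not at hnot
    obtain ⟨g, hg⟩ := hnot
    obtain ⟨A₂, hA₂⟩ : ∃ A₂ : Subgroup X, A₂ = A.map (MulAut.conj g).toMonoidHom := ⟨_, rfl⟩
    have hA₂g : IsGMaxEA A₂ := by rw [hA₂]; exact gmax_conj hA g
    have hc₁ : ∀ x ∈ A, g * x * g⁻¹ ∈ A₂ := by
      intro x hx
      rw [hA₂]
      exact ⟨x, hx, by simp only [MulEquiv.coe_toMonoidHom, MulAut.conj_apply]⟩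
    have hc₂ : ∀ x ∈ A₂, g⁻¹ * x * g ∈ A := by
      intro x hx
      rw [hA₂] at hx
      obtain ⟨y, hy, rfl⟩ := hx
      simp only [MulEquiv.coe_toMonoidHom, MulAut.conj_apply]
      have e : g⁻¹ * (g * y * g⁻¹) * g = y := by group
      rw [e]; exact hy
    have htop : H ⊔ A ⊔ A₂ = ⊤ := by
      by_contra hY
      obtain ⟨P, hP2, hHP, hPn, hPA⟩ := ctx.hF1 _ (le_sup_left.trans le_sup_left) hY
      apply hg
      apply hP2.to_le
      rw [Subgroup.closure_le]
      intro x hx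
      rcases hx with rfl | hx
      · exact hPA A hA (le_sup_right.trans le_sup_left) haA
      · rw [Set.mem_singleton_iff] at hx
        rw [hx]
        exact hPA A₂ hA₂g le_sup_right (hc₁ a haA)
    have pr : Pair H A A₂ g := ⟨hA, hA₂g, hc₁, hc₂, htop⟩
    by_cases h1 : ∃ v ∈ V, (∀ b ∈ A₂, b * v = v * b) ∧ ¬ ∀ b ∈ A, b * v = v * b
    · obtain ⟨v, hv, hv₂, hv₁⟩ := h1
      exact hfree (pr.involves ctx hv hv₂ hv₁ haA haH)
    · by_cases h2 : ∃ v ∈ V, (∀ b ∈ A, b * v = v * b) ∧ ¬ ∀ b ∈ A₂, b * v = v * b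
      · obtain ⟨v, hv, hv₁, hv₂⟩ := h2
        have ha₂H : g * a * g⁻¹ ∉ H := by
          intro h
          apply haH
          have h3 := hHn.conj_mem _ h g⁻¹
          have e : g⁻¹ * (g * a * g⁻¹) * g⁻¹⁻¹ = a := by group
          rwa [e] at h3
        exact hfree (pr.symm.involves ctx hv hv₁ hv₂ (hc₁ a haA) ha₂H)
      · push Not at h1 h2
        exact pr.false_of_eq ctx hAH (fun v hv => ⟨fun h => h2 v hv h, fun h => h1 v hv h⟩)

/-- **Constrained version**: if `C_X(O₂(X)) ≤ O₂(X)`, `X` is `S₄`-free and a Sylow `2`-subgroup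
`S` has class at most two, then `J(S) ≤ O₂(X)`. -/
theorem thompson_le_pCore_of_constrained {X : Type u} [Group X] [Finite X]
    (hcon : Subgroup.centralizer (Cfsg.pCore 2 X : Set X) ≤ Cfsg.pCore 2 X)
    (hfree : ¬ Cfsg.Involves (Equiv.Perm (Fin 4)) X) (S : Sylow 2 X)
    (hcl : ∀ a ∈ (S : Subgroup X), ∀ b ∈ (S : Subgroup X), ∀ c ∈ (S : Subgroup X),
      (a * b * a⁻¹ * b⁻¹) * c = c * (a * b * a⁻¹ * b⁻¹)) :
    Cfsg.thompsonSubgroupOf 2 (S : Subgroup X) ≤ Cfsg.pCore 2 X := by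
  rw [helper3.thompsonSubgroupOf_eq_sSup]
  apply sSup_le
  intro A hA
  exact gmax_le_pCore_aux _ X rfl hcon hfree (cl2_of_sylow S hcl) A (gmax_of_sylow S hA)

end Cfsg.Agent.helper15.ConJ
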