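import Mathlib
import Cfsg.Agent.Lib_helper7_Comp

/-! The diagonal map `l ↦ ∏ x^i l x^-i` for an element `x` with `x^p = 1` permuting pairwise
commuting conjugates of a subgroup `L` (helper7). -/

set_option autoImplicit false

namespace Cfsg.Agent.helper7

section Diag

variable {G : Type*} [Group G]

/-- the `i`-th conjugation map `L → G`, `l ↦ x^i l x^-i` -/
def conjPow (x : G) (L : Subgroup G) (i : ℕ) : ↥L →* G :=
  (MulAut.conj (x ^ i)).toMonoidHom.comp L.subtype

theorem conjPow_apply (x : G) (L : Subgroup G) (i : ℕ) (l : ↥L) :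
    conjPow x L i l = x ^ i * (l : G) * (x ^ i)⁻¹ := rfl

theorem conjPow_mem_cj (x : G) (L : Subgroup G) (i : ℕ) (l : ↥L) :
    conjPow x L i l ∈ cj (x ^ i) L := ⟨l, l.2, rfl⟩

theorem exists_diag {p : ℕ} [NeZero p] (x : G) (hxp : x ^ p = 1) (L : Subgroup G)
    (hcomm : ∀ i j : Fin p, i ≠ j → ∀ a b : ↥L, Commute (conjPow x L i a) (conjPow x L j b)) :
    ∃ δ : ↥L →* G,
      (∀ l, x * δ l * x⁻¹ = δ l) ∧
      (∀ k : G, k * x = x * k → ∀ hk : (∀ l ∈ L, k * l * k⁻¹ ∈ L), ∀ l : ↥L,
          k * δ l * k⁻¹ = δ ⟨k * l * k⁻¹, hk l l.2⟩) ∧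
      (∀ l : ↥L, ∃ r : G, δ l = l * r ∧ ∀ m ∈ L, r * m = m * r) ∧
      (∀ l : ↥L, δ l ∈ ⨆ i : Fin p, cj (x ^ (i : ℕ)) L) ∧
      (∀ m : G, (∀ i : Fin p, ∀ a : ↥L, Commute m (conjPow x L i a)) → ∀ l, Commute m (δ l)) := by
  classical
  let φ : Fin p → (↥L →* G) := fun i => conjPow x L i
  have hc : Pairwise fun i j => ∀ a b, Commute (φ i a) (φ j b) := fun i j hij => hcomm i j hij
  let Φ : (Fin p → ↥L) →* G := MonoidHom.noncommPiCoprod φ hc
  have hΦs : ∀ i y, Φ (Pi.mulSingle i y) = φ i y := fun i y =>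
    MonoidHom.noncommPiCoprod_mulSingle φ i y
  let diag : ↥L →* (Fin p → ↥L) := Pi.constMonoidHom (Fin p) ↥L
  refine ⟨Φ.comp diag, ?_, ?_, ?_, ?_, ?_⟩
  · -- invariance under x
    let σ : (Fin p → ↥L) →* (Fin p → ↥L) :=
      { toFun := fun u i => u (i - 1)
        map_one' := rfl
        map_mul' := fun _ _ => rfl }
    have hF : (MulAut.conj x).toMonoidHom.comp Φ = Φ.comp σ := by
      apply MonoidHom.pi_ext
      intro i y
      have hσ : σ (Pi.mulSingle i y) = Pi.mulSingle (i + 1) y := by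
        funext j
        show (Pi.mulSingle i y : Fin p → ↥L) (j - 1) = (Pi.mulSingle (i + 1) y : Fin p → ↥L) j
        by_cases hj : j = i + 1
        · subst hj
          rw [add_sub_cancel_right, Pi.mulSingle_eq_same, Pi.mulSingle_eq_same]
        · have hj' : j - 1 ≠ i := fun h => hj (sub_eq_iff_eq_add.mp h)
          rw [Pi.mulSingle_eq_of_ne hj', Pi.mulSingle_eq_of_ne hj]
      rw [MonoidHom.comp_apply, MonoidHom.comp_apply, hσ, hΦs, hΦs]
      show x * (x ^ (i : ℕ) * (y : G) * (x ^ (i : ℕ))⁻¹) * x⁻¹ =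
        x ^ ((i + 1 : Fin p) : ℕ) * (y : G) * (x ^ ((i + 1 : Fin p) : ℕ))⁻¹
      have hpow : x ^ ((i + 1 : Fin p) : ℕ) = x ^ ((i : ℕ) + 1) := by
        rw [Fin.val_add, ← pow_eq_pow_mod _ hxp, pow_add, pow_add, Fin.val_one',
          ← pow_eq_pow_mod _ hxp]
      rw [hpow, pow_succ']
      group
    intro l
    have h1 := DFunLike.congr_fun hF (diag l)
    have h2 : σ (diag l) = diag l := rfl
    rw [MonoidHom.comp_apply, MonoidHom.comp_apply, h2] at h1
    exact h1
  · -- equivariance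
    intro k hkx hk l
    let κ : (Fin p → ↥L) →* (Fin p → ↥L) :=
      { toFun := fun u i => ⟨k * (u i : G) * k⁻¹, hk _ (u i).2⟩
        map_one' := by
          funext i
          apply Subtype.ext
          show k * ((1 : ↥L) : G) * k⁻¹ = ((1 : ↥L) : G)
          rw [Subgroup.coe_one]; group
        map_mul' := by
          intro u v
          funext i
          apply Subtype.ext
          show k * ((u i * v i : ↥L) : G) * k⁻¹ = (k * (u i : G) * k⁻¹) * (k * (v i : G) * k⁻¹)
          rw [Subgroup.coe_mul]; group }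
    have hkpow : ∀ n : ℕ, k * x ^ n = x ^ n * k := by
      intro n
      induction n with
      | zero => simp
      | succ n ih => rw [pow_succ, ← mul_assoc, ih, mul_assoc, hkx, ← mul_assoc]
    have hF : (MulAut.conj k).toMonoidHom.comp Φ = Φ.comp κ := by
      apply MonoidHom.pi_ext
      intro i y
      have hκ : κ (Pi.mulSingle i y) = Pi.mulSingle i (⟨k * (y : G) * k⁻¹, hk _ y.2⟩ : ↥L) := by
        funext j
        by_cases hj : j = i
        · subst hj
          rw [Pi.mulSingle_eq_same]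
          apply Subtype.ext
          show k * ((Pi.mulSingle j y : Fin p → ↥L) j : G) * k⁻¹ = k * (y : G) * k⁻¹
          rw [Pi.mulSingle_eq_same]
        · rw [Pi.mulSingle_eq_of_ne hj]
          apply Subtype.ext
          show k * ((Pi.mulSingle i y : Fin p → ↥L) j : G) * k⁻¹ = ((1 : ↥L) : G)
          rw [Pi.mulSingle_eq_of_ne hj, Subgroup.coe_one]; group
      rw [MonoidHom.comp_apply, MonoidHom.comp_apply, hκ, hΦs, hΦs]
      show k * (x ^ (i : ℕ) * (y : G) * (x ^ (i : ℕ))⁻¹) * k⁻¹ =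
        x ^ (i : ℕ) * (k * (y : G) * k⁻¹) * (x ^ (i : ℕ))⁻¹
      have h1 := hkpow (i : ℕ)
      have h2 : (x ^ (i : ℕ))⁻¹ * k⁻¹ = k⁻¹ * (x ^ (i : ℕ))⁻¹ := by
        rw [← mul_inv_rev, ← mul_inv_rev, h1]
      calc k * (x ^ (i : ℕ) * (y : G) * (x ^ (i : ℕ))⁻¹) * k⁻¹
          = (k * x ^ (i : ℕ)) * (y : G) * ((x ^ (i : ℕ))⁻¹ * k⁻¹) := by group
        _ = (x ^ (i : ℕ) * k) * (y : G) * (k⁻¹ * (x ^ (i : ℕ))⁻¹) := by rw [h1, h2]
        _ = x ^ (i : ℕ) * (k * (y : G) * k⁻¹) * (x ^ (i : ℕ))⁻¹ := by group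
    have h1 := DFunLike.congr_fun hF (diag l)
    have h2 : κ (diag l) = diag ⟨k * (l : G) * k⁻¹, hk l l.2⟩ := rfl
    rw [MonoidHom.comp_apply, MonoidHom.comp_apply, h2] at h1
    exact h1
  · -- δ l = l * r
    intro l
    have hdec : diag l = Pi.mulSingle 0 l * Function.update (diag l) 0 1 := by
      funext j
      by_cases hj : j = 0
      · subst hj
        rw [Pi.mul_apply, Pi.mulSingle_eq_same, Function.update_self, mul_one]
        rfl
      · rw [Pi.mul_apply, Pi.mulSingle_eq_of_ne hj, Function.update_of_ne hj, one_mul]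
    refine ⟨Φ (Function.update (diag l) 0 1), ?_, ?_⟩
    · rw [MonoidHom.comp_apply]
      conv_lhs => rw [hdec]
      rw [map_mul, hΦs]
      show x ^ ((0 : Fin p) : ℕ) * (l : G) * (x ^ ((0 : Fin p) : ℕ))⁻¹ * _ = _
      rw [Fin.val_zero, pow_zero, one_mul, inv_one, mul_one]
    · intro m hm
      have hmem : Φ (Function.update (diag l) 0 1) ∈ Subgroup.centralizer (L : Set G) := by
        rw [show Φ (Function.update (diag l) 0 1) = _ from
          MonoidHom.noncommPiCoprod_apply φ (Function.update (diag l) 0 1)]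
        apply Subgroup.noncommProd_mem
        intro i _
        by_cases hi : i = 0
        · subst hi
          rw [Function.update_self, map_one]
          exact Subgroup.one_mem _
        · rw [Function.update_of_ne hi, Subgroup.mem_centralizer_iff]
          intro m' hm'
          have := hcomm 0 i (Ne.symm hi) ⟨m', hm'⟩ (diag l i)
          have e : conjPow x L ((0 : Fin p) : ℕ) ⟨m', hm'⟩ = m' := by
            rw [conjPow_apply, Fin.val_zero, pow_zero, one_mul, inv_one, mul_one]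
          rw [e] at this
          exact this.eq
      exact (Subgroup.mem_centralizer_iff.mp hmem m hm).symm
  · intro l
    rw [MonoidHom.comp_apply, show Φ (diag l) = _ from MonoidHom.noncommPiCoprod_apply φ (diag l)]
    apply Subgroup.noncommProd_mem
    intro i _
    exact (le_iSup (fun i : Fin p => cj (x ^ (i : ℕ)) L) i) (conjPow_mem_cj x L i _)
  · intro m hm l
    rw [MonoidHom.comp_apply]
    exact MonoidHom.commute_noncommPiCoprod φ (fun i y => hm i y) (diag l)

end Diag

end Cfsg.Agent.helper7
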