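import Mathlib
import Cfsg.Agent.Lib_helper7_Diag
import Cfsg.Agent.Lib_helper7_Signalizer

/-! Auxiliary lemmas on quasisimple groups: images, central Sylow subgroups (helper7). -/

set_option autoImplicit false

open scoped commutatorElement

namespace Cfsg.Agent.helper7

section Diag2

/-- A nontrivial homomorphic image of a quasisimple group is quasisimple. -/
theorem qs_of_surjective {H H' : Type*} [Group H] [Group H'] (f : H →* H')
    (hf : Function.Surjective f) (hH : Cfsg.IsQuasisimple H) (hnt : Nontrivial H') :
    Cfsg.IsQuasisimple H' := by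
  rw [qs_iff] at hH ⊢
  obtain ⟨h1, _, h3⟩ := hH
  refine ⟨?_, hnt, ?_⟩
  · rw [commutator_def] at h1 ⊢
    have := Subgroup.map_commutator (⊤ : Subgroup H) ⊤ f
    rw [h1, Subgroup.map_top_of_surjective f hf] at this
    exact this.symm
  · intro N' hN'
    have hN : (N'.comap f).Normal := hN'.comap f
    rcases h3 _ hN with h | h
    · left
      rw [← Subgroup.map_comap_eq_self_of_surjective hf N', h, Subgroup.map_top_of_surjective f hf]
    · right
      intro y hy
      obtain ⟨z, rfl⟩ := hf y
      have hz : z ∈ N'.comap f := hy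
      have hzc := h hz
      rw [Subgroup.mem_center_iff] at hzc ⊢
      intro g'
      obtain ⟨g, rfl⟩ := hf g'
      rw [← map_mul, ← map_mul, hzc g]

/-- A perfect finite group whose Sylow `p`-subgroups are central has order prime to `p`. -/
theorem not_dvd_card_of_perfect_central {H : Type*} [Group H] [Finite H] {p : ℕ} [Fact p.Prime]
    (hperf : commutator H = ⊤) (hcen : ∀ P : Sylow p H, (P : Subgroup H) ≤ Subgroup.center H) :
    ¬ p ∣ Nat.card H := by
  let P : Sylow p H := default
  have hP : Subgroup.normalizer ((P : Subgroup H) : Set H) ≤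
      Subgroup.centralizer ((P : Subgroup H) : Set H) := by
    intro g _
    rw [Subgroup.mem_centralizer_iff]
    intro h hh
    exact (Subgroup.mem_center_iff.mp (hcen P hh)) g |>.symm
  have hker : (MonoidHom.transferSylow P hP).ker = ⊤ := by
    rw [eq_top_iff, ← hperf, commutator_def, Subgroup.commutator_le]
    intro a _ b _
    rw [MonoidHom.mem_ker, map_commutatorElement, commutatorElement_eq_one_iff_commute]
    apply Subtype.ext
    have hb := (MonoidHom.transferSylow P hP b).2
    rw [Subgroup.coe_mul, Subgroup.coe_mul]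
    exact (Subgroup.mem_center_iff.mp (hcen P hb)) _
  have := MonoidHom.not_dvd_card_ker_transferSylow P hP
  rw [hker] at this
  rwa [Subgroup.card_top] at this

variable {G : Type*} [Group G]

/-- `H` normalizes `⁅H, K⁆`. -/
theorem le_normalizer_commutator_left (H K : Subgroup G) :
    H ≤ Subgroup.normalizer ((⁅H, K⁆ : Subgroup G) : Set G) := by
  apply le_normalizer_of_conj_mem
  intro a ha w hw
  rw [Subgroup.commutator_def] at hw
  induction hw using Subgroup.closure_induction with
  | mem w hw =>
    obtain ⟨h, hh, k, hk, rfl⟩ := hw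
    have e : a * ⁅h, k⁆ * a⁻¹ = ⁅a * h, k⁆ * ⁅a, k⁆⁻¹ := by
      rw [commutatorElement_def, commutatorElement_def, commutatorElement_def]; group
    rw [e]
    exact Subgroup.mul_mem _ (Subgroup.commutator_mem_commutator (H.mul_mem ha hh) hk)
      (Subgroup.inv_mem _ (Subgroup.commutator_mem_commutator ha hk))
  | one =>
    have : a * 1 * a⁻¹ = 1 := by group
    rw [this]; exact Subgroup.one_mem _
  | mul u v _ _ hu hv =>
    have : a * (u * v) * a⁻¹ = (a * u * a⁻¹) * (a * v * a⁻¹) := by group
    rw [this]; exact Subgroup.mul_mem _ hu hv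
  | inv u _ hu =>
    have : a * u⁻¹ * a⁻¹ = (a * u * a⁻¹)⁻¹ := by group
    rw [this]; exact Subgroup.inv_mem _ hu

end Diag2

end Cfsg.Agent.helper7
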