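import Mathlib
import Cfsg.Statements.S1280
import Cfsg.Agent.Lib_helper7_Signalizer

set_option autoImplicit false
open Cfsg

namespace Cfsg.Agent.S1280

open Cfsg.Agent.helper7

/-- Let θ be a solvable A-signalizer functor (A a noncyclic elementary abelian p-subgroup of the finite group G), and X, Y members of its family with Y ≤ N_G(X). Then X ⊔ Y (= XY) is again in the family. -/
theorem result {G : Type*} [Group G] [Finite G] (p : ℕ) [Fact p.Prime] (A : Subgroup G) (hA : Cfsg.IsElementaryAbelian p A) (hA2 : p ^ 2 ≤ Nat.card ↥A) (θ : G → Subgroup G) (hθ : Cfsg.IsSolvableSignalizerFunctor p A θ) (X Y : Subgroup G) (hX : X ∈ Cfsg.signalizerFamily p A θ) (hY : Y ∈ Cfsg.signalizerFamily p A θ) (hn : Y ≤ Subgroup.normalizer (X : Set G)) : X ⊔ Y ∈ Cfsg.signalizerFamily p A θ := by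
  have hp : p.Prime := Fact.out
  obtain ⟨hXs, hXp, hXA, hXθ⟩ := hX
  obtain ⟨hYs, hYp, hYA, hYθ⟩ := hY
  have hXpi : PiGrp {q | q ≠ p} X := by
    rw [← coprime_card_iff_piGrp hp, Nat.coprime_comm, Nat.Prime.coprime_iff_not_dvd hp]; exact hXp
  have hYpi : PiGrp {q | q ≠ p} Y := by
    rw [← coprime_card_iff_piGrp hp, Nat.coprime_comm, Nat.Prime.coprime_iff_not_dvd hp]; exact hYp
  have hXYp : ¬ p ∣ Nat.card ↥(X ⊔ Y) := by
    have := (coprime_card_iff_piGrp hp).2 (hXpi.sup hYpi hn)
    rwa [Nat.coprime_comm, Nat.Prime.coprime_iff_not_dvd hp] at this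
  have hnorm : ∀ {U : Subgroup G}, (∀ b ∈ A, ∀ u ∈ U, b * u * b⁻¹ ∈ U) →
      A ≤ Subgroup.normalizer (U : Set G) := by
    intro U hU b hb
    rw [Subgroup.mem_normalizer_iff]
    intro u
    constructor
    · exact hU b hb u
    · intro h
      have := hU b⁻¹ (A.inv_mem hb) _ h
      simpa [mul_assoc] using this
  have hXN := hnorm hXA
  have hYN := hnorm hYA
  refine ⟨solvable_sup hXs hYs hn, hXYp, ?_, ?_⟩
  · intro b hb u hu
    have h1 : A ≤ Subgroup.normalizer ((X ⊔ Y : Subgroup G) : Set G) := by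
      intro c hc
      rw [Subgroup.mem_normalizer_iff]
      intro u
      have key : ∀ c ∈ A, ∀ u ∈ X ⊔ Y, c * u * c⁻¹ ∈ X ⊔ Y := by
        intro c hc u hu
        obtain ⟨x, hx, y, hy, rfl⟩ := mem_sup_of_normalizer hn hu
        have : c * (x * y) * c⁻¹ = (c * x * c⁻¹) * (c * y * c⁻¹) := by group
        rw [this]
        exact (X ⊔ Y).mul_mem (le_sup_left (b := Y) (hXA c hc x hx))
          (le_sup_right (a := X) (hYA c hc y hy))
      constructor
      · exact key c hc u
      · intro h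
        have := key c⁻¹ (A.inv_mem hc) _ h
        simpa [mul_assoc] using this
    exact (Subgroup.mem_normalizer_iff.1 (h1 hb) u).1 hu
  · intro a ha ha1 g hg
    obtain ⟨hg1, hg2⟩ := hg
    have hQ : IsPGroup p ↥(Subgroup.zpowers a) := by
      rw [IsPGroup.iff_orderOf]
      intro x
      obtain ⟨x, hx⟩ := x
      obtain ⟨k, rfl⟩ := Subgroup.mem_zpowers_iff.1 hx
      have h1 : (a ^ k) ^ p = 1 := by
        rw [← zpow_natCast, ← zpow_mul, mul_comm, zpow_mul, zpow_natCast, hA.2 a ha, one_zpow]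
      have h2 : orderOf (a ^ k) ∣ p := orderOf_dvd_of_pow_eq_one h1
      rw [Subgroup.orderOf_mk]
      rcases (Nat.dvd_prime hp).1 h2 with h | h
      · exact ⟨0, by rw [h, pow_zero]⟩
      · exact ⟨1, by rw [h, pow_one]⟩
    have hQA : Subgroup.zpowers a ≤ A := by
      rw [Subgroup.zpowers_le]; exact ha
    have hcop : ¬ p ∣ Nat.card ↥(X ⊓ Y) := by
      intro h
      exact hXp (h.trans (Subgroup.card_dvd_of_le inf_le_left))
    have hgQ : ∀ c ∈ Subgroup.zpowers a, c * g * c⁻¹ = g := by
      intro c hc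
      obtain ⟨k, rfl⟩ := Subgroup.mem_zpowers_iff.1 hc
      have hcomm : Commute a g := by
        have := Subgroup.mem_centralizer_iff.1 hg2 a (Set.mem_singleton a)
        exact this
      have : Commute (a ^ k) g := hcomm.zpow_left k
      rw [this.eq]; group
    obtain ⟨x, hx, y, hy, e, hxf, hyf⟩ := fixed_decomp_sup hQ (hQA.trans hXN) (hQA.trans hYN) hcop hn
      hg1 hgQ
    have hxa : x ∈ Subgroup.centralizer ({a} : Set G) := by
      rw [Subgroup.mem_centralizer_iff]
      intro c hc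
      rw [Set.mem_singleton_iff] at hc; subst hc
      have := hxf c (Subgroup.mem_zpowers c)
      calc c * x = c * x * c⁻¹ * c := by group
        _ = x * c := by rw [this]
    have hya : y ∈ Subgroup.centralizer ({a} : Set G) := by
      rw [Subgroup.mem_centralizer_iff]
      intro c hc
      rw [Set.mem_singleton_iff] at hc; subst hc
      have := hyf c (Subgroup.mem_zpowers c)
      calc c * y = c * y * c⁻¹ * c := by group
        _ = y * c := by rw [this]
    rw [e]
    exact (θ a).mul_mem (hXθ a ha ha1 ⟨hx, hxa⟩) (hYθ a ha ha1 ⟨hy, hya⟩)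

end Cfsg.Agent.S1280
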