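import Mathlib
import Cfsg.Statements.S1282
import Cfsg.Agent.Lib_helper7_Gen4

set_option autoImplicit false
open Cfsg

namespace Cfsg.Agent.S1282

open Cfsg.Agent.helper7

/-- Let A be an elementary abelian p-subgroup of rank at least 3 of the finite group G, q ≠ p a prime, and Q₁, Q₂ q-subgroups normalized by A with D = Q₁ ∩ Q₂ different from both. Then there is a non-identity a ∈ A such that, for i = 1 and i = 2, N_{Q_i}(D) ∩ C_G(a) is not contained in D. -/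
theorem result {G : Type*} [Group G] [Finite G] (p : ℕ) [Fact p.Prime] (A : Subgroup G) (hA : Cfsg.IsElementaryAbelian p A) (hA3 : p ^ 3 ≤ Nat.card ↥A) (q : ℕ) [Fact q.Prime] (hqp : q ≠ p) (Q₁ Q₂ : Subgroup G) (h₁ : IsPGroup q ↥Q₁) (h₂ : IsPGroup q ↥Q₂) (hA₁ : A ≤ Subgroup.normalizer (Q₁ : Set G)) (hA₂ : A ≤ Subgroup.normalizer (Q₂ : Set G)) (hD₁ : Q₁ ⊓ Q₂ ≠ Q₁) (hD₂ : Q₁ ⊓ Q₂ ≠ Q₂) : ∃ a ∈ A, a ≠ 1 ∧ ¬ (Subgroup.normalizer ((Q₁ ⊓ Q₂ : Subgroup G) : Set G) ⊓ Q₁ ⊓ Subgroup.centralizer {a} ≤ Q₁ ⊓ Q₂) ∧ ¬ (Subgroup.normalizer ((Q₁ ⊓ Q₂ : Subgroup G) : Set G) ⊓ Q₂ ⊓ Subgroup.centralizer {a} ≤ Q₁ ⊓ Q₂) := by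
  have hp : p.Prime := Fact.out
  have hq : q.Prime := Fact.out
  have hA2 : p ^ 2 ≤ Nat.card ↥A := le_trans (Nat.pow_le_pow_right hp.pos (by norm_num)) hA3
  have hAD : A ≤ Subgroup.normalizer ((Q₁ ⊓ Q₂ : Subgroup G) : Set G) := le_normalizer_inf hA₁ hA₂
  have hAND : A ≤ Subgroup.normalizer ((Subgroup.normalizer ((Q₁ ⊓ Q₂ : Subgroup G) : Set G) :
      Subgroup G) : Set G) :=
    hAD.trans (Subgroup.le_normalizer (H := Subgroup.normalizer ((Q₁ ⊓ Q₂ : Subgroup G) : Set G)))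
  -- coprimality for `q`-groups
  have hcop : ∀ Q : Subgroup G, IsPGroup q ↥Q → ¬ p ∣ Nat.card ↥Q := by
    intro Q hQ
    obtain ⟨k, hk⟩ := IsPGroup.iff_card.1 hQ
    rw [hk]
    intro h
    have := (Nat.prime_dvd_prime_iff_eq hp hq).1 (hp.dvd_of_dvd_pow h)
    exact hqp this.symm
  -- the two normalizers
  have key : ∀ Q : Subgroup G, IsPGroup q ↥Q → A ≤ Subgroup.normalizer (Q : Set G) →
      Q₁ ⊓ Q₂ ≤ Q → Q₁ ⊓ Q₂ ≠ Q →
      ∃ B : Subgroup G, B ≤ A ∧ B.relIndex A = p ∧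
        ¬ (Subgroup.normalizer ((Q₁ ⊓ Q₂ : Subgroup G) : Set G) ⊓ Q) ⊓
          Subgroup.centralizer (B : Set G) ≤ Q₁ ⊓ Q₂ := by
    intro Q hQ hAQ hDQ hne
    obtain ⟨x, hxQ, hxN, hxD⟩ := exists_mem_normalizer_not_mem hQ hDQ hne
    apply exists_hyperplane_not_le hA hA2
    · exact hcop _ (hQ.to_le inf_le_right)
    · exact le_normalizer_inf hAND hAQ
    · intro h
      exact hxD (h ⟨hxN, hxQ⟩)
  obtain ⟨B₁, hB₁A, hB₁, hn₁⟩ := key Q₁ h₁ hA₁ inf_le_left hD₁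
  obtain ⟨B₂, hB₂A, hB₂, hn₂⟩ := key Q₂ h₂ hA₂ inf_le_right hD₂
  -- `B₁ ⊓ B₂` is nontrivial
  have hne : B₁ ⊓ B₂ ≠ ⊥ := by
    intro h
    have h1 := Subgroup.relIndex_inf_le (H := B₁) (K := B₂) (L := A)
    rw [h, Subgroup.relIndex_bot_left, hB₁, hB₂] at h1
    have : p ^ 3 ≤ p * p := hA3.trans h1
    have h2 : p * p < p ^ 3 := by
      have := hp.two_le
      have : p ^ 3 = p * p * p := by ring
      nlinarith
    omega
  obtain ⟨⟨a, haB⟩, ha1⟩ := (Subgroup.ne_bot_iff_exists_ne_one).1 hne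
  have ha1' : a ≠ 1 := fun h => ha1 (Subtype.ext h)
  refine ⟨a, hB₁A haB.1, ha1', ?_, ?_⟩
  · intro h
    apply hn₁
    refine le_trans (inf_le_inf_left _ (Subgroup.centralizer_le ?_)) h
    intro x hx
    rw [Set.mem_singleton_iff] at hx
    rw [hx]; exact haB.1
  · intro h
    apply hn₂
    refine le_trans (inf_le_inf_left _ (Subgroup.centralizer_le ?_)) h
    intro x hx
    rw [Set.mem_singleton_iff] at hx
    rw [hx]; exact haB.2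

end Cfsg.Agent.S1282
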