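import Mathlib
import Cfsg.Agent.Lib_helper7_CoprimeSylow
import Cfsg.Agent.S1280
import Cfsg.Agent.S1282

set_option autoImplicit false

namespace Cfsg.Agent.helper7

variable {G : Type*} [Group G]

section Family

variable {p : ℕ} {A : Subgroup G} {θ : G → Subgroup G}

theorem theta_mem_family (hθ : Cfsg.IsSolvableSignalizerFunctor p A θ) {a : G} (ha : a ∈ A)
    (ha1 : a ≠ 1) : θ a ∈ Cfsg.signalizerFamily p A θ :=
  ⟨hθ.2 a ha ha1, hθ.1.2.1 a ha ha1, hθ.1.2.2.1 a ha ha1,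
    fun b hb hb1 => hθ.1.2.2.2 a ha ha1 b hb hb1⟩

theorem family_of_le {U V : Subgroup G} (hU : U ∈ Cfsg.signalizerFamily p A θ) (hVU : V ≤ U)
    (hAV : ∀ b ∈ A, ∀ v ∈ V, b * v * b⁻¹ ∈ V) : V ∈ Cfsg.signalizerFamily p A θ := by
  obtain ⟨h1, h2, h3, h4⟩ := hU
  refine ⟨?_, fun h => h2 (h.trans (Subgroup.card_dvd_of_le hVU)), hAV,
    fun a ha ha1 => (inf_le_inf_right _ hVU).trans (h4 a ha ha1)⟩
  haveI := h1
  exact Group.isSolvable_of_isSolvable_injective (f := Subgroup.inclusion hVU)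
    (Subgroup.inclusion_injective hVU)

theorem family_normalizer {U : Subgroup G} (hU : U ∈ Cfsg.signalizerFamily p A θ) :
    A ≤ Subgroup.normalizer (U : Set G) := le_normalizer_of_conj_mem hU.2.2.1

theorem conj_mem_of_le_normalizer {U : Subgroup G} (h : A ≤ Subgroup.normalizer (U : Set G)) :
    ∀ b ∈ A, ∀ u ∈ U, b * u * b⁻¹ ∈ U :=
  fun b hb u hu => (Subgroup.mem_normalizer_iff.1 (h hb) u).1 hu

theorem mem_signalizerInf {c : G} :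
    c ∈ Cfsg.signalizerInf A θ ↔ ∀ a ∈ A, a ≠ 1 → c ∈ θ a := by
  unfold Cfsg.signalizerInf
  rw [Subgroup.mem_iInf]
  constructor
  · intro h a ha ha1
    exact h ⟨a, ha, ha1⟩
  · rintro h ⟨a, ha, ha1⟩
    exact h a ha ha1

theorem comm_of_mem_signalizerInf (hθ : Cfsg.IsSolvableSignalizerFunctor p A θ) {c : G}
    (hc : c ∈ Cfsg.signalizerInf A θ) {a : G} (ha : a ∈ A) : a * c = c * a := by
  by_cases ha1 : a = 1
  · subst ha1; simp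
  · have h1 := hθ.1.1 a ha ha1 (mem_signalizerInf.1 hc a ha ha1)
    exact Subgroup.mem_centralizer_iff.1 h1 a (Set.mem_singleton a)

theorem family_conj (hθ : Cfsg.IsSolvableSignalizerFunctor p A θ) {U : Subgroup G}
    (hU : U ∈ Cfsg.signalizerFamily p A θ) {c : G} (hc : c ∈ Cfsg.signalizerInf A θ) :
    cj c U ∈ Cfsg.signalizerFamily p A θ := by
  obtain ⟨h1, h2, h3, h4⟩ := hU
  refine ⟨?_, ?_, ?_, ?_⟩
  · haveI := h1
    exact Group.isSolvable_of_surjective (f := (MulAut.conj c).toMonoidHom.subgroupMap U)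
      (MonoidHom.subgroupMap_surjective _ _)
  · unfold cj
    rw [Subgroup.card_map_of_injective (MulAut.conj c).injective]
    exact h2
  · rintro b hb _ ⟨u, hu, rfl⟩
    refine ⟨b * u * b⁻¹, h3 b hb u hu, ?_⟩
    have hbc := comm_of_mem_signalizerInf hθ hc hb
    simp only [MulEquiv.coe_toMonoidHom, MulAut.conj_apply]
    calc c * (b * u * b⁻¹) * c⁻¹ = (c * b) * u * (c * b)⁻¹ := by group
      _ = (b * c) * u * (b * c)⁻¹ := by rw [hbc]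
      _ = b * (c * u * c⁻¹) * b⁻¹ := by group
  · rintro a ha ha1 x ⟨⟨u, hu, rfl⟩, hxa⟩
    have hca := mem_signalizerInf.1 hc a ha ha1
    have hac := comm_of_mem_signalizerInf hθ hc ha
    simp only [MulEquiv.coe_toMonoidHom, MulAut.conj_apply] at hxa ⊢
    have hxa' : a * (c * u * c⁻¹) = (c * u * c⁻¹) * a :=
      Subgroup.mem_centralizer_iff.1 hxa a (Set.mem_singleton a)
    have hua : u ∈ Subgroup.centralizer ({a} : Set G) := by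
      rw [Subgroup.mem_centralizer_iff]
      intro y hy
      rw [Set.mem_singleton_iff] at hy; subst hy
      have hac' : y * c⁻¹ = c⁻¹ * y := by
        calc y * c⁻¹ = c⁻¹ * (c * y) * c⁻¹ := by group
          _ = c⁻¹ * (y * c) * c⁻¹ := by rw [hac]
          _ = c⁻¹ * y := by group
      calc y * u = c⁻¹ * ((c * y) * u * c⁻¹) * c := by group
        _ = c⁻¹ * ((y * c) * u * c⁻¹) * c := by rw [hac]
        _ = c⁻¹ * (y * (c * u * c⁻¹)) * c := by group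
        _ = c⁻¹ * ((c * u * c⁻¹) * y) * c := by rw [hxa']
        _ = u * (c⁻¹ * (y * c)) := by group
        _ = u * (c⁻¹ * (c * y)) := by rw [hac]
        _ = u * y := by group
    have h5 := h4 a ha ha1 ⟨hu, hua⟩
    exact Subgroup.mul_mem _ (Subgroup.mul_mem _ hca h5) (Subgroup.inv_mem _ hca)

theorem centralizer_le_signalizerInf {U : Subgroup G} (hU : U ∈ Cfsg.signalizerFamily p A θ) :
    U ⊓ Subgroup.centralizer (A : Set G) ≤ Cfsg.signalizerInf A θ := by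
  intro x hx
  rw [mem_signalizerInf]
  intro a ha ha1
  apply hU.2.2.2 a ha ha1
  refine ⟨hx.1, Subgroup.centralizer_le ?_ hx.2⟩
  intro y hy
  rw [Set.mem_singleton_iff] at hy
  rw [hy]; exact ha

/-- `Q` is maximal among the `q`-subgroups in the family -/
def IsMaxQ (p : ℕ) (A : Subgroup G) (θ : G → Subgroup G) (q : ℕ) (Q : Subgroup G) : Prop :=
  Q ∈ Cfsg.signalizerFamily p A θ ∧ IsPGroup q ↥Q ∧
    ∀ R ∈ Cfsg.signalizerFamily p A θ, IsPGroup q ↥R → Q ≤ R → R = Q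

theorem IsMaxQ.conj (hθ : Cfsg.IsSolvableSignalizerFunctor p A θ) {q : ℕ} {Q : Subgroup G}
    (hQ : IsMaxQ p A θ q Q) {c : G} (hc : c ∈ Cfsg.signalizerInf A θ) :
    IsMaxQ p A θ q (cj c Q) := by
  refine ⟨family_conj hθ hQ.1 hc, hQ.2.1.map _, ?_⟩
  intro R hR hRq hle
  have hc' : c⁻¹ ∈ Cfsg.signalizerInf A θ := Subgroup.inv_mem _ hc
  have h1 : Q ≤ cj c⁻¹ R := cj_le_iff.1 hle
  have h2 := hQ.2.2 (cj c⁻¹ R) (family_conj hθ hR hc') (hRq.map _) h1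
  rw [← h2, cj_cj_inv]

theorem exists_isMaxQ_ge [Finite G] {q : ℕ} {S : Subgroup G}
    (hS : S ∈ Cfsg.signalizerFamily p A θ) (hSq : IsPGroup q ↥S) :
    ∃ Q, IsMaxQ p A θ q Q ∧ S ≤ Q := by
  have hfin : {R : Subgroup G | R ∈ Cfsg.signalizerFamily p A θ ∧ IsPGroup q ↥R ∧ S ≤ R}.Finite :=
    Set.toFinite _
  obtain ⟨Q, ⟨hQ1, hQ2, hQ3⟩, hmax⟩ := Set.exists_max_image _ (fun R : Subgroup G => Nat.card ↥R)
    hfin ⟨S, hS, hSq, le_rfl⟩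
  refine ⟨Q, ⟨hQ1, hQ2, ?_⟩, hQ3⟩
  intro R hR hRq hle
  exact (Subgroup.eq_of_le_of_card_ge hle (hmax R ⟨hR, hRq, hQ3.trans hle⟩)).symm

end Family

/-- **Transitivity theorem** for solvable signalizer functors. -/
theorem transitivity [Finite G] {p : ℕ} [Fact p.Prime] {A : Subgroup G}
    (hA : Cfsg.IsElementaryAbelian p A) (hA3 : p ^ 3 ≤ Nat.card ↥A) {θ : G → Subgroup G}
    (hθ : Cfsg.IsSolvableSignalizerFunctor p A θ) {q : ℕ} [Fact q.Prime] :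
    ∀ m : ℕ, ∀ Q₁ Q₂ : Subgroup G, IsMaxQ p A θ q Q₁ → IsMaxQ p A θ q Q₂ →
      Nat.card G - Nat.card ↥(Q₁ ⊓ Q₂ : Subgroup G) = m →
      ∃ c ∈ Cfsg.signalizerInf A θ, cj c Q₁ = Q₂ := by
  have hp : p.Prime := Fact.out
  have hq : q.Prime := Fact.out
  have hA2 : p ^ 2 ≤ Nat.card ↥A := le_trans (Nat.pow_le_pow_right hp.pos (by norm_num)) hA3
  have hAp := isPGroup_of_elemAb hA
  intro m
  induction m using Nat.strong_induction_on with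
  | _ m ih =>
  intro Q₁ Q₂ hQ₁ hQ₂ hm
  by_cases hqp : q = p
  · -- trivial case
    have htriv : ∀ Q : Subgroup G, IsMaxQ p A θ q Q → Q = ⊥ := by
      intro Q hQ
      obtain ⟨k, hk⟩ := IsPGroup.iff_card.1 hQ.2.1
      have h2 := hQ.1.2.1
      rw [hk, hqp] at h2
      have hk0 : k = 0 := by
        by_contra hk0
        exact h2 (dvd_pow_self p hk0)
      rw [hk0, pow_zero] at hk
      exact Subgroup.eq_bot_of_card_eq Q hk
    refine ⟨1, Subgroup.one_mem _, ?_⟩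
    rw [htriv Q₁ hQ₁, htriv Q₂ hQ₂, cj_bot]
  by_cases hD₁ : Q₁ ⊓ Q₂ = Q₁
  · have h1 := hQ₁.2.2 Q₂ hQ₂.1 hQ₂.2.1 (inf_eq_left.1 hD₁)
    exact ⟨1, Subgroup.one_mem _, by rw [cj_one, h1]⟩
  by_cases hD₂ : Q₁ ⊓ Q₂ = Q₂
  · have h1 := hQ₂.2.2 Q₁ hQ₁.1 hQ₁.2.1 (inf_eq_right.1 hD₂)
    exact ⟨1, Subgroup.one_mem _, by rw [cj_one, h1]⟩
  have hA₁ := family_normalizer hQ₁.1
  have hA₂ := family_normalizer hQ₂.1
  obtain ⟨a, ha, ha1, hn₁, hn₂⟩ := Cfsg.Agent.S1282.result p A hA hA3 q hqp Q₁ Q₂ hQ₁.2.1 hQ₂.2.1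
    hA₁ hA₂ hD₁ hD₂
  have hAD : A ≤ Subgroup.normalizer ((Q₁ ⊓ Q₂ : Subgroup G) : Set G) := le_normalizer_inf hA₁ hA₂
  have hAND : A ≤ Subgroup.normalizer ((Subgroup.normalizer ((Q₁ ⊓ Q₂ : Subgroup G) : Set G) :
      Subgroup G) : Set G) :=
    hAD.trans (Subgroup.le_normalizer (H := Subgroup.normalizer ((Q₁ ⊓ Q₂ : Subgroup G) : Set G)))
  have hACa : A ≤ Subgroup.normalizer ((Subgroup.centralizer ({a} : Set G) : Subgroup G) : Set G) := by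
    refine le_trans ?_ (Subgroup.le_normalizer (H := Subgroup.centralizer ({a} : Set G)))
    intro b hb
    rw [Subgroup.mem_centralizer_iff]
    intro y hy
    rw [Set.mem_singleton_iff] at hy; subst hy
    exact comm_of_isMulCommutative hA.1 ha hb
  -- members of the family
  have hDfam : Q₁ ⊓ Q₂ ∈ Cfsg.signalizerFamily p A θ :=
    family_of_le hQ₁.1 inf_le_left (conj_mem_of_le_normalizer hAD)
  have hθa := theta_mem_family hθ ha ha1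
  have hAT : A ≤ Subgroup.normalizer ((θ a ⊓ Subgroup.normalizer ((Q₁ ⊓ Q₂ : Subgroup G) : Set G) :
      Subgroup G) : Set G) := le_normalizer_inf (family_normalizer hθa) hAND
  have hTfam : θ a ⊓ Subgroup.normalizer ((Q₁ ⊓ Q₂ : Subgroup G) : Set G) ∈
      Cfsg.signalizerFamily p A θ :=
    family_of_le hθa inf_le_left (conj_mem_of_le_normalizer hAT)
  have hDTfam := Cfsg.Agent.S1280.result p A hA hA2 θ hθ _ _ hDfam hTfam inf_le_right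
  have hADT := family_normalizer hDTfam
  have hDTp := hDTfam.2.1
  -- the two `q`-subgroups `R₁`, `R₂`
  have key : ∀ Q : Subgroup G, IsMaxQ p A θ q Q → Q₁ ⊓ Q₂ ≤ Q →
      ¬ (Subgroup.normalizer ((Q₁ ⊓ Q₂ : Subgroup G) : Set G) ⊓ Q ⊓
        Subgroup.centralizer ({a} : Set G) ≤ Q₁ ⊓ Q₂) →
      ∃ S : Subgroup G, S ≤ (Q₁ ⊓ Q₂) ⊔ (θ a ⊓ Subgroup.normalizer ((Q₁ ⊓ Q₂ : Subgroup G) : Set G)) ∧
        IsPGroup q ↥S ∧ Nat.card ↥S = q ^ (Nat.card ↥((Q₁ ⊓ Q₂) ⊔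
          (θ a ⊓ Subgroup.normalizer ((Q₁ ⊓ Q₂ : Subgroup G) : Set G)) : Subgroup G)).factorization q ∧
        A ≤ Subgroup.normalizer (S : Set G) ∧
        ∀ Q' : Subgroup G, S ≤ Q' → Nat.card ↥(Q₁ ⊓ Q₂ : Subgroup G) < Nat.card ↥(Q ⊓ Q' : Subgroup G) := by
    intro Q hQ hDQ hn
    have hAQ := family_normalizer hQ.1
    have hRQ : (Q₁ ⊓ Q₂) ⊔ (Subgroup.normalizer ((Q₁ ⊓ Q₂ : Subgroup G) : Set G) ⊓ Q ⊓
        Subgroup.centralizer ({a} : Set G)) ≤ Q :=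
      sup_le hDQ (inf_le_left.trans inf_le_right)
    have hRq : IsPGroup q ↥((Q₁ ⊓ Q₂) ⊔ (Subgroup.normalizer ((Q₁ ⊓ Q₂ : Subgroup G) : Set G) ⊓ Q ⊓
        Subgroup.centralizer ({a} : Set G)) : Subgroup G) := hQ.2.1.to_le hRQ
    have hAR : A ≤ Subgroup.normalizer (((Q₁ ⊓ Q₂) ⊔ (Subgroup.normalizer
        ((Q₁ ⊓ Q₂ : Subgroup G) : Set G) ⊓ Q ⊓ Subgroup.centralizer ({a} : Set G)) : Subgroup G) : Set G) :=
      le_normalizer_sup hAD (le_normalizer_inf (le_normalizer_inf hAND hAQ) hACa)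
    have hRDT : (Q₁ ⊓ Q₂) ⊔ (Subgroup.normalizer ((Q₁ ⊓ Q₂ : Subgroup G) : Set G) ⊓ Q ⊓
        Subgroup.centralizer ({a} : Set G)) ≤
        (Q₁ ⊓ Q₂) ⊔ (θ a ⊓ Subgroup.normalizer ((Q₁ ⊓ Q₂ : Subgroup G) : Set G)) := by
      apply sup_le_sup_left
      intro x hx
      exact ⟨hQ.1.2.2.2 a ha ha1 ⟨hx.1.2, hx.2⟩, hx.1.1⟩
    obtain ⟨S, hRS, hSDT, hSq, hScard, hAS⟩ :=
      exists_invariant_sylow_ge hAp hDTp hADT hRDT hRq hAR
    refine ⟨S, hSDT, hSq, hScard, hAS, ?_⟩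
    intro Q' hSQ'
    have h1 : Nat.card ↥(Q₁ ⊓ Q₂ : Subgroup G) < Nat.card ↥((Q₁ ⊓ Q₂) ⊔
        (Subgroup.normalizer ((Q₁ ⊓ Q₂ : Subgroup G) : Set G) ⊓ Q ⊓
        Subgroup.centralizer ({a} : Set G)) : Subgroup G) := by
      apply card_lt_of_lt le_sup_left
      intro h
      exact hn (le_sup_right.trans (le_of_eq h.symm))
    exact lt_of_lt_of_le h1 (Nat.le_of_dvd Nat.card_pos
      (Subgroup.card_dvd_of_le (le_inf hRQ (hRS.trans hSQ'))))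
  obtain ⟨S₁, hS₁DT, hS₁q, hS₁card, hAS₁, hS₁lt⟩ := key Q₁ hQ₁ inf_le_left hn₁
  obtain ⟨S₂, hS₂DT, hS₂q, hS₂card, hAS₂, hS₂lt⟩ := key Q₂ hQ₂ inf_le_right hn₂
  obtain ⟨c₀, hc₀DT, hc₀A, hc₀⟩ := invariant_sylow_conj hAp hDTp hADT hS₁DT hS₂DT hS₁card hS₂card
    hAS₁ hAS₂
  have hc₀C : c₀ ∈ Cfsg.signalizerInf A θ := centralizer_le_signalizerInf hDTfam ⟨hc₀DT, hc₀A⟩
  -- maximal members containing `S₁`, `S₂`
  obtain ⟨Q₁', hQ₁', hSQ₁'⟩ := exists_isMaxQ_ge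
    (family_of_le hDTfam hS₁DT (conj_mem_of_le_normalizer hAS₁)) hS₁q
  obtain ⟨Q₂', hQ₂', hSQ₂'⟩ := exists_isMaxQ_ge
    (family_of_le hDTfam hS₂DT (conj_mem_of_le_normalizer hAS₂)) hS₂q
  have hcardle : ∀ X : Subgroup G, Nat.card ↥X ≤ Nat.card G := fun X => Subgroup.card_le_card_group X
  -- first application
  obtain ⟨c₁, hc₁C, hc₁⟩ := ih (Nat.card G - Nat.card ↥(Q₁ ⊓ Q₁' : Subgroup G)) (by
    have := hS₁lt Q₁' hSQ₁'
    have := hcardle (Q₁ ⊓ Q₁')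
    omega) Q₁ Q₁' hQ₁ hQ₁' rfl
  -- second application
  obtain ⟨c₂, hc₂C, hc₂⟩ := ih (Nat.card G - Nat.card ↥(Q₂' ⊓ Q₂ : Subgroup G)) (by
    have := hS₂lt Q₂' hSQ₂'
    rw [inf_comm Q₂ Q₂'] at this
    have := hcardle (Q₂' ⊓ Q₂)
    omega) Q₂' Q₂ hQ₂' hQ₂ rfl
  -- third application
  have hS₂le : S₂ ≤ cj c₀ Q₁' := by rw [← hc₀]; exact cj_mono hSQ₁'
  obtain ⟨c₃, hc₃C, hc₃⟩ := ih (Nat.card G - Nat.card ↥(cj c₀ Q₁' ⊓ Q₂' : Subgroup G)) (by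
    have h1 := hS₂lt S₂ le_rfl
    have h2 : Nat.card ↥(Q₂ ⊓ S₂ : Subgroup G) ≤ Nat.card ↥(cj c₀ Q₁' ⊓ Q₂' : Subgroup G) :=
      Nat.le_of_dvd Nat.card_pos (Subgroup.card_dvd_of_le
        (inf_le_right.trans (le_inf hS₂le hSQ₂')))
    have := hcardle (cj c₀ Q₁' ⊓ Q₂')
    omega) (cj c₀ Q₁') Q₂' (hQ₁'.conj hθ hc₀C) hQ₂' rfl
  refine ⟨c₂ * c₃ * c₀ * c₁, Subgroup.mul_mem _ (Subgroup.mul_mem _ (Subgroup.mul_mem _ hc₂C hc₃C)
    hc₀C) hc₁C, ?_⟩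
  rw [← cj_cj, ← cj_cj, ← cj_cj, hc₁, hc₃, hc₂]

end Cfsg.Agent.helper7
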