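import Mathlib
import Cfsg.Statements.S1270
import Cfsg.Agent.Lib_helper7_Diag2
import Cfsg.Agent.Lib_helper7_Fitting
import Cfsg.Agent.Lib_helper7_Gen
import Cfsg.Agent.Lib_helper7_Coprime
import Cfsg.Agent.Lib_helper7_Transitivity

set_option autoImplicit false
open Cfsg

open scoped commutatorElement

namespace Cfsg.Agent.helper7

section S1270aux

variable {G : Type*} [Group G]

theorem comp_top_conj {L : Subgroup G} (h : Comp L ⊤) (g : G) : Comp (cj g L) ⊤ := by
  have := h.conj g
  have e : cj g (⊤ : Subgroup G) = ⊤ :=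
    Subgroup.map_top_of_surjective _ (MulAut.conj g).surjective
  rwa [e] at this

theorem commute_of_comm_eq_bot {A B : Subgroup G} (h : ⁅A, B⁆ = ⊥) {a b : G} (ha : a ∈ A)
    (hb : b ∈ B) : a * b = b * a := by
  have := Subgroup.commutator_eq_bot_iff_le_centralizer.mp h ha
  exact (Subgroup.mem_centralizer_iff.mp this b hb).symm

theorem comm_eq_bot_of_three {L D : Subgroup G} (hperf : ⁅L, L⁆ = L)
    (h : ⁅L, D⁆ ≤ Subgroup.centralizer (L : Set G)) : ⁅L, D⁆ = ⊥ := by
  have h1 : ⁅⁅L, D⁆, L⁆ = ⊥ := Subgroup.commutator_eq_bot_iff_le_centralizer.mpr h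
  have h2 : ⁅⁅D, L⁆, L⁆ = ⊥ := by rw [Subgroup.commutator_comm D L]; exact h1
  have h3 : ⁅⁅L, L⁆, D⁆ = ⊥ := Subgroup.commutator_commutator_eq_bot_of_rotate h1 h2
  rwa [hperf] at h3

/-- **Component vs. `O_{p'}(C_G(x))`.** -/
theorem comp_comm_pprime_core [Finite G] {p : ℕ} [Fact p.Prime]
    (hO : piCoreIn {q | q ≠ p} (⊤ : Subgroup G) = ⊥) (x : G) (hx : orderOf x = p)
    {L : Subgroup G} (hL : Comp L ⊤) (hne : ⁅L, Subgroup.zpowers x⁆ ≠ L) :
    ⁅L, piCoreIn {q | q ≠ p} (Subgroup.centralizer ({x} : Set G))⁆ = ⊥ := by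
  classical
  have hp : p.Prime := Fact.out
  set C := Subgroup.centralizer ({x} : Set G) with hCdef
  set D := piCoreIn {q | q ≠ p} C with hDdef
  have hDC : D ≤ C := piCoreIn_le _ _
  have hDn : C ≤ Subgroup.normalizer (D : Set G) := piCoreIn_normal _ _
  have hDsn : SN D C := SN.of_normal hDC hDn
  have hDpi : PiGrp {q | q ≠ p} D := piCoreIn_piGrp _ _
  have hLne : L ≠ ⊥ := hL.2.2.1
  have hLperf : ⁅L, L⁆ = L := hL.2.1
  have hLnotp' : ¬ PiGrp {q | q ≠ p} L := by
    intro h
    have := le_piCoreIn_of_sn hL.1 h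
    rw [hO] at this
    exact hLne (le_bot_iff.mp this)
  have hmemC : ∀ g, g ∈ C ↔ g * x = x * g := fun g => Subgroup.mem_centralizer_singleton_iff
  by_cases hxN : x ∈ Subgroup.normalizer (L : Set G)
  · -- Case A: x normalizes L, hence centralizes it
    have hXn : Subgroup.zpowers x ≤ Subgroup.normalizer (L : Set G) := by
      rw [Subgroup.zpowers_le]; exact hxN
    have hN1 : ⁅L, Subgroup.zpowers x⁆ ≤ L := commutator_le_of_normalizer hXn
    have hN2 := le_normalizer_commutator_left L (Subgroup.zpowers x)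
    rcases hL.2.2.2 _ hN1 hN2 with h | h
    · exact absurd h hne
    · have h0 : ⁅L, Subgroup.zpowers x⁆ = ⊥ := comm_eq_bot_of_three hLperf h
      have hLC : L ≤ C := by
        intro l hl
        rw [hmemC]
        exact commute_of_comm_eq_bot h0 hl (Subgroup.mem_zpowers x)
      have hLcompC : Comp L C := hL.of_le hLC le_top
      rcases comp_le_or_comm hLcompC.1 hLcompC.2 hDsn with h1 | h1
      · exact absurd (hDpi.mono h1) hLnotp'
      · exact h1
  · -- Case B: x moves L
    have hxp : x ^ p = 1 := by rw [← hx]; exact pow_orderOf_eq_one x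
    haveI : NeZero p := ⟨hp.ne_zero⟩
    have hnorm : ∀ n : ℕ, x ^ n ∈ Subgroup.normalizer (L : Set G) → p ∣ n := by
      intro n hn
      by_contra hpn
      have hcop : Nat.Coprime n p := (Nat.Prime.coprime_iff_not_dvd hp).mpr hpn |>.symm
      obtain ⟨m, -, hm⟩ := Nat.exists_mul_mod_eq_one_of_coprime hcop hp.one_lt
      apply hxN
      have h1 : x ^ (n * m) = x := by
        rw [pow_eq_pow_mod (n * m) hxp, hm, pow_one]
      rw [← h1, pow_mul]
      exact Subgroup.pow_mem _ hn m
    have hLi_inj : ∀ i j : Fin p, i ≠ j → cj (x ^ (i : ℕ)) L ≠ cj (x ^ (j : ℕ)) L := by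
      intro i j hij h
      have h1 : cj ((x ^ (j : ℕ))⁻¹ * x ^ (i : ℕ)) L = L := by
        rw [← cj_cj, h, cj_inv_cj]
      have h2 : (x ^ (j : ℕ))⁻¹ = x ^ (p - (j : ℕ)) := by
        apply inv_eq_of_mul_eq_one_right
        rw [← pow_add, Nat.add_sub_cancel' j.2.le, hxp]
      rw [h2, ← pow_add] at h1
      have h3 := hnorm _ (mem_normalizer_of_cj_eq h1)
      have hi := i.2
      have hj := j.2
      obtain ⟨c, hc⟩ := h3
      have hc1 : c = 1 := by
        have h4 : p * c < p * 2 := by omega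
        have h5 : 0 < p * c := by omega
        have h6 : c < 2 := Nat.lt_of_mul_lt_mul_left h4
        have h7 : 0 < c := Nat.pos_of_ne_zero (fun h0 => by rw [h0] at h5; simp at h5)
        omega
      apply hij
      apply Fin.ext
      rw [hc1] at hc
      omega
    have hcomm : ∀ i j : Fin p, i ≠ j → ∀ a b : ↥L,
        Commute (conjPow x L i a) (conjPow x L j b) := by
      intro i j hij a b
      have h := Comp.comm_of_ne (comp_top_conj hL (x ^ (i : ℕ))) (comp_top_conj hL (x ^ (j : ℕ)))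
        (hLi_inj i j hij)
      exact commute_of_comm_eq_bot h (conjPow_mem_cj x L i a) (conjPow_mem_cj x L j b)
    obtain ⟨δ, hδx, hδk, hδr, hδK, hδc⟩ := exists_diag x hxp L hcomm
    -- basic consequences of δ l = l * r
    have hker : ∀ l : ↥L, δ l = 1 → ∀ m ∈ L, (l : G) * m = m * (l : G) := by
      intro l hl m hm
      obtain ⟨r, hr, hrm⟩ := hδr l
      rw [hl] at hr
      have hlr : (l : G) = r⁻¹ := eq_inv_of_mul_eq_one_left hr.symm
      rw [hlr]
      have := hrm m hm
      calc r⁻¹ * m = r⁻¹ * (m * r) * r⁻¹ := by group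
        _ = r⁻¹ * (r * m) * r⁻¹ := by rw [this]
        _ = m * r⁻¹ := by group
    have hact : ∀ l : ↥L, ∀ m ∈ L, δ l * m * (δ l)⁻¹ = (l : G) * m * (l : G)⁻¹ := by
      intro l m hm
      obtain ⟨r, hr, hrm⟩ := hδr l
      rw [hr]
      have := hrm m hm
      calc (l : G) * r * m * ((l : G) * r)⁻¹ = (l : G) * (r * m) * r⁻¹ * (l : G)⁻¹ := by group
        _ = (l : G) * (m * r) * r⁻¹ * (l : G)⁻¹ := by rw [this]
        _ = (l : G) * m * (l : G)⁻¹ := by group
    have hLnab : ¬ ∀ l ∈ L, ∀ m ∈ L, l * m = m * l := by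
      intro h
      apply hL.2.not_abelian
      intro l hl
      rw [Subgroup.mem_centralizer_iff]
      intro m hm
      exact h m hm l hl
    -- the diagonal subgroup
    have hΔC : δ.range ≤ C := by
      rintro _ ⟨l, rfl⟩
      rw [hmemC]
      have := hδx l
      calc δ l * x = (x * δ l * x⁻¹) * x := by rw [this]
        _ = x * δ l := by group
    have hΔK : δ.range ≤ ⨆ i : Fin p, cj (x ^ (i : ℕ)) L := by
      rintro _ ⟨l, rfl⟩
      exact hδK l
    have hKsn : SN (⨆ i : Fin p, cj (x ^ (i : ℕ)) L) ⊤ := by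
      have hKE : (⨆ i : Fin p, cj (x ^ (i : ℕ)) L) ≤ layerOf (⊤ : Subgroup G) :=
        iSup_le fun i => comp_le_layerOf (comp_top_conj hL _)
      have hEK : layerOf (⊤ : Subgroup G) ≤
          Subgroup.normalizer ((⨆ i : Fin p, cj (x ^ (i : ℕ)) L : Subgroup G) : Set G) :=
        le_normalizer_iSup fun i => (comp_top_conj hL _).layerOf_le_normalizer
      exact (SN.of_normal hKE hEK).trans (layerOf_sn ⊤)
    have hKCsn : SN ((⨆ i : Fin p, cj (x ^ (i : ℕ)) L) ⊓ C) C := by
      have := hKsn.inf_right C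
      rwa [top_inf_eq] at this
    have hKnormL : (⨆ i : Fin p, cj (x ^ (i : ℕ)) L) ≤ Subgroup.normalizer (L : Set G) := by
      apply iSup_le
      intro i
      by_cases h : cj (x ^ (i : ℕ)) L = L
      · rw [h]; exact Subgroup.le_normalizer
      · have h1 := Comp.comm_of_ne (comp_top_conj hL (x ^ (i : ℕ))) hL h
        exact (Subgroup.commutator_eq_bot_iff_le_centralizer.mp h1).trans
          (Subgroup.centralizer_le_normalizer _)
    have hΔnormal : (⨆ i : Fin p, cj (x ^ (i : ℕ)) L) ⊓ C ≤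
        Subgroup.normalizer ((δ.range : Subgroup G) : Set G) := by
      apply le_normalizer_of_conj_mem
      rintro k ⟨hkK, hkC⟩ _ ⟨l, rfl⟩
      have hk : ∀ l ∈ L, k * l * k⁻¹ ∈ L := conj_mem_of_le_normalizer hKnormL k hkK
      rw [hδk k ((hmemC k).mp hkC) hk l]
      exact ⟨_, rfl⟩
    have hΔsn : SN δ.range C := (SN.of_normal (le_inf hΔK hΔC) hΔnormal).trans hKCsn
    have hΔnt : Nontrivial ↥δ.range := by
      by_contra hnt
      rw [not_nontrivial_iff_subsingleton] at hnt
      apply hLnab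
      intro l hl m hm
      have h1 : δ ⟨l, hl⟩ = 1 := by
        have := Subsingleton.elim (⟨δ ⟨l, hl⟩, ⟨_, rfl⟩⟩ : ↥δ.range) 1
        exact congrArg Subtype.val this
      exact hker ⟨l, hl⟩ h1 m hm
    have hΔqs : QS δ.range := by
      rw [← qs_iff_QS]
      exact qs_of_surjective δ.rangeRestrict δ.rangeRestrict_surjective
        ((qs_iff_QS L).mpr hL.2) hΔnt
    rcases comp_le_or_comm hΔsn hΔqs hDsn with h1 | h1
    · -- Δ ≤ D is impossible
      exfalso
      have hcen : ∀ P : Sylow p ↥L, (P : Subgroup ↥L) ≤ Subgroup.center ↥L := by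
        intro P l hlP
        obtain ⟨k, hk⟩ := P.isPGroup' ⟨l, hlP⟩
        have hk' : l ^ p ^ k = 1 := by
          have := congrArg Subtype.val hk
          simpa using this
        have hδ1 : δ l = 1 := by
          by_contra hne1
          have hpow : (δ l) ^ p ^ k = 1 := by rw [← map_pow, hk', map_one]
          have hdvd : orderOf (δ l) ∣ p ^ k := orderOf_dvd_of_pow_eq_one hpow
          have hne1' : orderOf (δ l) ≠ 1 := fun h => hne1 (orderOf_eq_one_iff.mp h)
          obtain ⟨q, hq, hqd⟩ := Nat.exists_prime_and_dvd hne1'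
          have hqp : q = p := (Nat.prime_dvd_prime_iff_eq hq hp).mp
            (hq.dvd_of_dvd_pow (hqd.trans hdvd))
          have := hDpi (δ l) (h1 ⟨l, rfl⟩) q hq hqd
          exact this hqp
        rw [Subgroup.mem_center_iff]
        intro m
        apply Subtype.ext
        rw [Subgroup.coe_mul, Subgroup.coe_mul]
        exact (hker l hδ1 m m.2).symm
      have hperf' : commutator ↥L = ⊤ := ((qs_iff ↥L).mp ((qs_iff_QS L).mpr hL.2)).1
      have hnd := not_dvd_card_of_perfect_central hperf' hcen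
      apply hLnotp'
      rw [piGrp_iff_card]
      intro q hq hqd hqp
      exact hnd (hqp ▸ hqd)
    · -- Δ commutes with D
      have hΔD : ∀ d ∈ D, ∀ l : ↥L, d * δ l * d⁻¹ = δ l := by
        intro d hd l
        have := commute_of_comm_eq_bot h1 (⟨l, rfl⟩ : δ l ∈ δ.range) hd
        rw [← this]; group
      apply comm_eq_bot_of_three hLperf
      rw [Subgroup.commutator_le]
      intro l₀ hl₀ d hd
      have hdx : d * x = x * d := (hmemC d).mp (hDC hd)
      -- Step 1: d permutes the conjugates of L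
      have hstep1 : ∃ i : Fin p, cj d L = cj (x ^ (i : ℕ)) L := by
        by_contra hcon
        push Not at hcon
        apply hLnab
        intro l hl l' hl'
        have hm : ∀ i : Fin p, ∀ a : ↥L, Commute (d * l' * d⁻¹) (conjPow x L i a) := by
          intro i a
          have h := Comp.comm_of_ne (comp_top_conj hL d) (comp_top_conj hL (x ^ (i : ℕ))) (hcon i)
          exact commute_of_comm_eq_bot h (cj_mem_cj hl') (conjPow_mem_cj x L i a)
        have h2 : (d * l' * d⁻¹) * δ ⟨l, hl⟩ = δ ⟨l, hl⟩ * (d * l' * d⁻¹) := (hδc _ hm ⟨l, hl⟩).eq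
        have h3 := hΔD d hd ⟨l, hl⟩
        have h4 : l' * δ ⟨l, hl⟩ = δ ⟨l, hl⟩ * l' := by
          have e1 : l' * δ ⟨l, hl⟩ = d⁻¹ * ((d * l' * d⁻¹) * (d * δ ⟨l, hl⟩ * d⁻¹)) * d := by group
          have e2 : δ ⟨l, hl⟩ * l' = d⁻¹ * ((d * δ ⟨l, hl⟩ * d⁻¹) * (d * l' * d⁻¹)) * d := by group
          rw [e1, e2, h3, h2]
        have h5 := hact ⟨l, hl⟩ l' hl'
        have h6 : δ ⟨l, hl⟩ * l' * (δ ⟨l, hl⟩)⁻¹ = l' := by
          rw [← h4]; group
        rw [h6] at h5
        calc l * l' = (l * l' * l⁻¹) * l := by group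
          _ = l' * l := by rw [← h5]
      obtain ⟨i, hi⟩ := hstep1
      -- Step 2: d normalizes L
      have hpowcomm : ∀ n : ℕ, d ^ n * x ^ (i : ℕ) = x ^ (i : ℕ) * d ^ n := by
        intro n
        have : Commute d x := hdx
        exact (this.pow_pow n (i : ℕ)).eq
      have hiter : ∀ n : ℕ, cj (d ^ n) L = cj (x ^ (n * (i : ℕ))) L := by
        intro n
        induction n with
        | zero => rw [pow_zero, Nat.zero_mul, pow_zero]
        | succ n ih =>
          rw [pow_succ, ← cj_cj, hi, cj_cj, hpowcomm n, ← cj_cj, ih, cj_cj, ← pow_add]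
          congr 2
          ring
      have hi0 : (i : ℕ) = 0 := by
        have h1 := hiter (orderOf d)
        rw [pow_orderOf_eq_one, cj_one] at h1
        have h2 := hnorm _ (mem_normalizer_of_cj_eq h1.symm)
        rcases (Nat.Prime.dvd_mul hp).mp h2 with h3 | h3
        · exact absurd rfl (hDpi d hd p hp h3)
        · exact Nat.eq_zero_of_dvd_of_lt h3 i.2
      have hdL : cj d L = L := by
        rw [hi, hi0, pow_zero, cj_one]
      have hk : ∀ l ∈ L, d * l * d⁻¹ ∈ L := by
        intro l hl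
        have := cj_mem_cj (g := d) hl
        rwa [hdL] at this
      -- Step 3: [l, d] is central in L
      have hcentral : ∀ l : ↥L, ∀ m ∈ L,
          ((l : G)⁻¹ * (d * (l : G) * d⁻¹)) * m = m * ((l : G)⁻¹ * (d * (l : G) * d⁻¹)) := by
        intro l m hm
        have h1 := hδk d hdx hk l
        rw [hΔD d hd l] at h1
        have h2 : δ (l⁻¹ * ⟨d * (l : G) * d⁻¹, hk l l.2⟩) = 1 := by
          rw [map_mul, map_inv, ← h1, inv_mul_cancel]
        exact hker _ h2 m hm
      rw [Subgroup.mem_centralizer_iff]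
      intro m hm
      have e : ⁅l₀, d⁆ = (l₀⁻¹)⁻¹ * (d * l₀⁻¹ * d⁻¹) := by
        rw [commutatorElement_def]; group
      rw [e]
      exact (hcentral ⟨l₀⁻¹, L.inv_mem hl₀⟩ m hm).symm

end S1270aux

end Cfsg.Agent.helper7

namespace Cfsg.Agent.S1270

open Cfsg.Agent.helper7 in
/-- Let G be finite with O_{p'}(G) = 1, x of order p, and L a component with ⁅L, ⟨x⟩⁆ ≠ L. Then ⁅L, O_{p'}(C_G(x))⁆ = 1. -/
theorem result {G : Type*} [Group G] [Finite G] (p : ℕ) [Fact p.Prime] (hO : Cfsg.pPrimeCore p G = ⊥) (x : G) (hx : orderOf x = p) (L : Subgroup G) (hL : Cfsg.IsComponent L) (hne : ⁅L, Subgroup.zpowers x⁆ ≠ L) : ⁅L, Cfsg.centralizerPPrimeCore p x⁆ = ⊥ := by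
  have hp : p.Prime := Fact.out
  unfold Cfsg.centralizerPPrimeCore
  rw [map_pPrimeCore_eq hp]
  rw [pPrimeCore_eq hp] at hO
  exact comp_comm_pprime_core hO x hx (isComponent_iff.mp hL) hne

end Cfsg.Agent.S1270
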