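import Mathlib
import Cfsg.Agent.S1270
import Cfsg.Agent.S1247
import Cfsg.Agent.Lib_helper7_Bender5
import Cfsg.Agent.Lib_helper7_Local
import Cfsg.Agent.Lib_helper7_Quot
import Cfsg.Agent.Lib_helper7_Signalizer
import Cfsg.Agent.Lib_helper7_PQ

set_option autoImplicit false
open Cfsg

open scoped commutatorElement

namespace Cfsg.Agent.helper7

section Bal1

variable {G : Type*} [Group G]

theorem isPGroup_zpowers_of_pow' {H : Type*} [Group H] {p : ℕ} [Fact p.Prime] {g : H} {k : ℕ}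
    (h : g ^ p ^ k = 1) : IsPGroup p ↥(Subgroup.zpowers g) := by
  have hp : p.Prime := Fact.out
  obtain ⟨j, -, hj⟩ := (Nat.dvd_prime_pow hp).1 (orderOf_dvd_of_pow_eq_one h)
  exact IsPGroup.of_card (n := j) (by rw [Nat.card_zpowers, hj])

theorem mem_normalizer_of_conj_mem_fin [Finite G] {K : Subgroup G} {w : G}
    (h : ∀ c ∈ K, w * c * w⁻¹ ∈ K) : w ∈ Subgroup.normalizer (K : Set G) := by
  have hle : cj w K ≤ K := by
    rintro _ ⟨c, hc, rfl⟩
    simpa [MulAut.conj_apply] using h c hc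
  have : cj w K = K := Subgroup.eq_of_le_of_card_ge hle (by rw [card_cj])
  exact mem_normalizer_of_cj_eq this

theorem mem_of_pow_mem_coprime {K : Subgroup G} {g : G} {a b : ℕ} (hab : Nat.Coprime a b)
    (ha : g ^ a ∈ K) (hb : g ^ b ∈ K) : g ∈ K := by
  have h1 : (1 : ℤ) = (a : ℤ) * Nat.gcdA a b + (b : ℤ) * Nat.gcdB a b := by
    have := Nat.gcd_eq_gcd_ab a b
    rw [hab] at this
    exact_mod_cast this
  have h2 : g = g ^ ((a : ℤ) * Nat.gcdA a b + (b : ℤ) * Nat.gcdB a b) := by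
    rw [← h1, zpow_one]
  rw [h2, zpow_add, zpow_mul, zpow_mul, zpow_natCast, zpow_natCast]
  exact K.mul_mem (K.zpow_mem ha _) (K.zpow_mem hb _)

theorem comp_le_normalizer_comp [Finite G] {K M : Subgroup G} (hK : Comp K ⊤) (hM : Comp M ⊤) :
    K ≤ Subgroup.normalizer (M : Set G) := by
  by_cases hKM : K = M
  · subst hKM; exact Subgroup.le_normalizer
  · have h1 : ⁅M, K⁆ = ⊥ := Comp.comm_of_ne hM hK (Ne.symm hKM)
    exact (le_centralizer_of_comm_eq_bot h1).trans (Subgroup.centralizer_le_normalizer _)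

/-- A quasisimple group of order divisible by `p` has a noncentral `p`-element. -/
theorem exists_noncentral_pelt [Finite G] {p : ℕ} [Fact p.Prime] {L : Subgroup G} (hL : QS L)
    (hLp : ¬ PiGrp {q | q ≠ p} L) :
    ∃ l ∈ L, l ∉ Subgroup.centralizer (L : Set G) ∧ ∃ k : ℕ, l ^ p ^ k = 1 := by
  classical
  have hp : p.Prime := Fact.out
  by_contra hcon
  push_neg at hcon
  have hcen : ∀ l ∈ L, (∃ k : ℕ, l ^ p ^ k = 1) → l ∈ Subgroup.centralizer (L : Set G) := by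
    intro l hl ⟨k, hk⟩
    by_contra h
    exact hcon l hl h k hk
  obtain ⟨P⟩ := (inferInstance : Nonempty (Sylow p ↥L))
  have hPle : (P : Subgroup ↥L) ≤ Subgroup.center ↥L := by
    intro g hg
    obtain ⟨k, hk⟩ := P.isPGroup' ⟨g, hg⟩
    have hk' : (g : G) ^ p ^ k = 1 := by
      have h1 : g ^ p ^ k = 1 := by
        have := congrArg Subtype.val hk
        simpa using this
      have := congrArg Subtype.val h1
      simpa using this
    have h1 := hcen g.1 g.2 ⟨k, hk'⟩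
    rw [Subgroup.mem_center_iff]
    intro h
    apply Subtype.ext
    have := Subgroup.mem_centralizer_iff.1 h1 h.1 h.2
    simpa using this
  have hidx : (Subgroup.center ↥L).index ∣ (P : Subgroup ↥L).index :=
    Subgroup.index_dvd_of_le hPle
  have hnd : ¬ p ∣ (P : Subgroup ↥L).index := P.not_dvd_index
  have hperf : Group.IsPerfect ↥L := Subgroup.isPerfect_iff.2 hL.1
  have hcomm : _root_.commutator ↥L = ⊤ := Group.isPerfect_def.1 hperf
  have hschur := Subgroup.card_commutator_dvd_index_center_pow ↥L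
  rw [hcomm, Subgroup.card_top] at hschur
  have hpL : p ∣ Nat.card ↥L := by
    unfold PiGrp at hLp
    push_neg at hLp
    obtain ⟨y, hy, q, hq, hdvd, hqn⟩ := hLp
    have hqp : q = p := by
      by_contra h
      exact hqn h
    subst hqp
    have := orderOf_dvd_natCard (⟨y, hy⟩ : ↥L)
    rw [Subgroup.orderOf_mk] at this
    exact hdvd.trans this
  have := hp.dvd_of_dvd_pow (hpL.trans hschur)
  exact hnd (this.trans hidx)

/-- A `p`-element `x` normalizing a quasisimple `L` of order divisible by `p` fixes, modulo the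
center, some noncentral `p`-element of `L`. -/
theorem exists_pelt_fixed_mod_center [Finite G] {p : ℕ} [Fact p.Prime] {L : Subgroup G}
    (hL : QS L) (hLp : ¬ PiGrp {q | q ≠ p} L) {x : G}
    (hxN : x ∈ Subgroup.normalizer (L : Set G)) (hxp : x ^ p = 1) :
    ∃ l ∈ L, l ∉ Subgroup.centralizer (L : Set G) ∧ (∃ k : ℕ, l ^ p ^ k = 1) ∧
      l⁻¹ * x * l * x⁻¹ ∈ Subgroup.centralizer (L : Set G) := by
  classical
  have hp : p.Prime := Fact.out
  obtain ⟨l₀, hl₀L, hl₀c, k₀, hl₀p⟩ := exists_noncentral_pelt hL hLp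
  set CL := Subgroup.centralizer (L : Set G) with hCL
  have hNC : Subgroup.normalizer (L : Set G) ≤ Subgroup.normalizer (CL : Set G) :=
    normalizer_le_normalizer_centralizer L
  set M := L ⊔ Subgroup.zpowers x with hM
  have hLM : L ≤ M := le_sup_left
  have hxM : x ∈ M := (le_sup_right : Subgroup.zpowers x ≤ M) (Subgroup.mem_zpowers x)
  have hMN : M ≤ Subgroup.normalizer (L : Set G) :=
    sup_le Subgroup.le_normalizer (by rw [Subgroup.zpowers_le]; exact hxN)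
  have hxM' : (⟨x, hxM⟩ : ↥M) ^ p ^ 1 = 1 := Subtype.ext (by simpa using hxp)
  have hl₀M : l₀ ∈ M := hLM hl₀L
  have hl₀M' : (⟨l₀, hl₀M⟩ : ↥M) ^ p ^ k₀ = 1 := Subtype.ext (by simpa using hl₀p)
  obtain ⟨S₀, hS₀⟩ := (isPGroup_zpowers_of_pow' hxM').exists_le_sylow
  obtain ⟨S₁, hS₁⟩ := (isPGroup_zpowers_of_pow' hl₀M').exists_le_sylow
  obtain ⟨g, hg⟩ := MulAction.exists_smul_eq ↥M S₁ S₀
  have hgl : g * ⟨l₀, hl₀M⟩ * g⁻¹ ∈ (S₀ : Subgroup ↥M) := by
    rw [← hg, Sylow.coe_subgroup_smul, Subgroup.mem_pointwise_smul_iff_inv_smul_mem]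
    have : (MulAut.conj g)⁻¹ • (g * ⟨l₀, hl₀M⟩ * g⁻¹) = (⟨l₀, hl₀M⟩ : ↥M) := by
      rw [MulAut.smul_def, MulAut.conj_inv_apply]; group
    rw [this]
    exact hS₁ (Subgroup.mem_zpowers _)
  set S : Subgroup G := (S₀ : Subgroup ↥M).map M.subtype with hS
  have hSp : IsPGroup p ↥S := S₀.isPGroup'.map M.subtype
  have hSnil : Group.IsNilpotent ↥S := hSp.isNilpotent
  have hxS : x ∈ S := ⟨⟨x, hxM⟩, hS₀ (Subgroup.mem_zpowers _), rfl⟩
  set l₁ : G := (g : G) * l₀ * (g : G)⁻¹ with hl₁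
  have hl₁S : l₁ ∈ S := ⟨g * ⟨l₀, hl₀M⟩ * g⁻¹, hgl, by simp [hl₁]⟩
  have hgN : (g : G) ∈ Subgroup.normalizer (L : Set G) := hMN g.2
  have hl₁L : l₁ ∈ L := (Subgroup.mem_normalizer_iff.1 hgN l₀).1 hl₀L
  have hl₁c : l₁ ∉ CL := by
    intro h
    apply hl₀c
    have hg' : (g : G)⁻¹ ∈ Subgroup.normalizer (CL : Set G) := Subgroup.inv_mem _ (hNC hgN)
    have := (Subgroup.mem_normalizer_iff.1 hg' l₁).1 h
    have e : (g : G)⁻¹ * l₁ * (g : G)⁻¹⁻¹ = l₀ := by rw [hl₁]; group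
    rwa [e] at this
  by_contra hcon
  push_neg at hcon
  have hind : ∀ n : ℕ, ∃ s ∈ S.lowerCentralSeries n, s ∈ L ∧ s ∉ CL := by
    intro n
    induction n with
    | zero => exact ⟨l₁, hl₁S, hl₁L, hl₁c⟩
    | succ n ih =>
      obtain ⟨s, hs, hsL, hsc⟩ := ih
      have hsS : s ∈ S := Subgroup.lowerCentralSeries_antitone S (Nat.zero_le n) hs
      obtain ⟨k, hk⟩ := hSp ⟨s, hsS⟩
      have hk' : s ^ p ^ k = 1 := by simpa using congrArg Subtype.val hk
      refine ⟨s⁻¹ * x * s * x⁻¹, ?_, ?_, hcon s hsL hsc ⟨k, hk'⟩⟩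
      · rw [Subgroup.lowerCentralSeries_succ]
        have := Subgroup.commutator_mem_commutator (Subgroup.inv_mem _ hs) hxS
        rwa [commutatorElement_def, inv_inv] at this
      · have h1 : x * s * x⁻¹ ∈ L := (Subgroup.mem_normalizer_iff.1 hxN s).1 hsL
        have : s⁻¹ * x * s * x⁻¹ = s⁻¹ * (x * s * x⁻¹) := by group
        rw [this]
        exact L.mul_mem (L.inv_mem hsL) h1
  obtain ⟨n, hn⟩ := (Subgroup.isNilpotent_iff_lowerCentralSeries S).1 hSnil
  obtain ⟨s, hs, -, hsc⟩ := hind n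
  rw [hn, Subgroup.mem_bot] at hs
  rw [hs] at hsc
  exact hsc (Subgroup.one_mem _)

/-- The balance hypothesis for the automizer of `L` in `H`, converted into a statement inside `G`:
a `p'`-subgroup `Q` of `H` whose image is subnormal (in two steps, through `B`) in the centralizer
of the image of `x` centralizes `L`. -/
theorem bal_key [Finite G] {p : ℕ} [Fact p.Prime] {L H Q B : Subgroup G} (hL : QS L)
    (hLp : ¬ PiGrp {q | q ≠ p} L) (hLH : L ≤ H) (hHN : H ≤ Subgroup.normalizer (L : Set G))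
    [hn : ((Subgroup.centralizer (L : Set G)).subgroupOf H).Normal]
    (hbal : Cfsg.IsBalancedFor p (↥H ⧸ (Subgroup.centralizer (L : Set G)).subgroupOf H))
    {x : G} (hxH : x ∈ H) (hxp : x ^ p = 1) (hxL : x ∉ Subgroup.centralizer (L : Set G))
    (hQB : Q ≤ B) (hBH : B ≤ H) (hQp : PiGrp {q | q ≠ p} Q)
    (hBx : ∀ b ∈ B, b * x = x * b)
    (hQn : ∀ b ∈ B, ∀ q ∈ Q, ∃ q' ∈ Q, q'⁻¹ * (b * q * b⁻¹) ∈ Subgroup.centralizer (L : Set G))
    (hBn : ∀ w ∈ H, w⁻¹ * x⁻¹ * w * x ∈ Subgroup.centralizer (L : Set G) → ∀ b ∈ B,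
      w * b * w⁻¹ ∈ B) :
    Q ≤ Subgroup.centralizer (L : Set G) := by
  classical
  have hp : p.Prime := Fact.out
  set CL := Subgroup.centralizer (L : Set G) with hCL
  set N' := CL.subgroupOf H with hN'
  set π : ↥H →* ↥H ⧸ N' := QuotientGroup.mk' N' with hπ
  have hπ1 : ∀ h : ↥H, π h = 1 ↔ (h : G) ∈ CL := by
    intro h
    rw [hπ, QuotientGroup.mk'_apply, QuotientGroup.eq_one_iff, hN', Subgroup.mem_subgroupOf]
  have hπeq : ∀ a b : ↥H, π a = π b ↔ (a : G)⁻¹ * (b : G) ∈ CL := by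
    intro a b
    rw [hπ, QuotientGroup.mk'_apply, QuotientGroup.mk'_apply, QuotientGroup.eq, hN',
      Subgroup.mem_subgroupOf]
    simp
  set xh : ↥H := ⟨x, hxH⟩ with hxh
  set xb : ↥H ⧸ N' := π xh with hxb
  have hxb_ord : orderOf xb = p := by
    apply orderOf_eq_prime
    · rw [hxb, ← map_pow]
      have : xh ^ p = 1 := Subtype.ext (by simpa using hxp)
      rw [this, map_one]
    · intro h1
      exact hxL ((hπ1 xh).1 h1)
  have hb := hbal xb hxb_ord
  unfold Cfsg.centralizerPPrimeCore at hb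
  rw [map_pPrimeCore_eq hp, pPrimeCore_eq hp] at hb
  set Kb := Subgroup.centralizer ({xb} : Set (↥H ⧸ N')) with hKb
  set Qb := (Q.subgroupOf H).map π with hQb
  set Bb := (B.subgroupOf H).map π with hBb
  have hQBb : Qb ≤ Bb := Subgroup.map_mono (by
    intro y hy
    rw [Subgroup.mem_subgroupOf] at hy ⊢
    exact hQB hy)
  have hBK : Bb ≤ Kb := by
    rintro _ ⟨b, hb', rfl⟩
    rw [SetLike.mem_coe, Subgroup.mem_subgroupOf] at hb'
    rw [hKb, Subgroup.mem_centralizer_singleton_iff, hxb, ← map_mul, ← map_mul]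
    congr 1
    apply Subtype.ext
    simpa using hBx _ hb'
  have hKw : ∀ w : ↥H, π w ∈ Kb → (w : G)⁻¹ * x⁻¹ * (w : G) * x ∈ CL := by
    intro w hw
    rw [hKb, Subgroup.mem_centralizer_singleton_iff, hxb, ← map_mul, ← map_mul] at hw
    have h2 := (hπeq _ _).1 hw.symm
    have e : ((xh * w : ↥H) : G)⁻¹ * ((w * xh : ↥H) : G) = (w : G)⁻¹ * x⁻¹ * (w : G) * x := by
      simp only [hxh, Subgroup.coe_mul]
      group
    rwa [e] at h2
  have hBnorm : Kb ≤ Subgroup.normalizer (Bb : Set (↥H ⧸ N')) := by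
    apply le_normalizer_of_conj_mem
    intro wb hwb bb hbb
    obtain ⟨w, hw⟩ : ∃ w, π w = wb := QuotientGroup.mk'_surjective N' wb
    subst hw
    obtain ⟨b, hb', rfl⟩ := hbb
    rw [SetLike.mem_coe, Subgroup.mem_subgroupOf] at hb'
    have h1 := hBn w w.2 (hKw w hwb) b hb'
    refine ⟨w * b * w⁻¹, ?_, by rw [map_mul, map_mul, map_inv]⟩
    rw [SetLike.mem_coe, Subgroup.mem_subgroupOf]
    simpa using h1
  have hQnorm : Bb ≤ Subgroup.normalizer (Qb : Set (↥H ⧸ N')) := by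
    apply le_normalizer_of_conj_mem
    rintro _ ⟨b, hb', rfl⟩ _ ⟨q, hq', rfl⟩
    rw [SetLike.mem_coe, Subgroup.mem_subgroupOf] at hb' hq'
    obtain ⟨q', hq'Q, hq'c⟩ := hQn b hb' q hq'
    refine ⟨⟨q', hBH (hQB hq'Q)⟩, ?_, ?_⟩
    · rw [SetLike.mem_coe, Subgroup.mem_subgroupOf]; exact hq'Q
    · rw [← map_inv, ← map_mul, ← map_mul, hπeq]
      simpa using hq'c
  have hQbp : PiGrp {q | q ≠ p} Qb := by
    apply PiGrp.map
    intro y hy q hq hdvd
    rw [Subgroup.mem_subgroupOf] at hy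
    apply hQp y.1 hy q hq
    rwa [Subgroup.orderOf_coe]
  have hsn : SN Qb Kb := SN.step Qb Bb Kb hQBb hQnorm (SN.of_normal hBK hBnorm)
  have hQb1 : Qb ≤ piCoreIn {q | q ≠ p} (⊤ : Subgroup (↥H ⧸ N')) :=
    (le_piCoreIn_of_sn hsn hQbp).trans hb
  set Ob := piCoreIn {q | q ≠ p} (⊤ : Subgroup (↥H ⧸ N')) with hOb
  have hObn : ∀ a : ↥H ⧸ N', ∀ o ∈ Ob, a * o * a⁻¹ ∈ Ob := by
    intro a o ho
    have := piCoreIn_normal {q | q ≠ p} (⊤ : Subgroup (↥H ⧸ N')) (Subgroup.mem_top a)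
    exact (Subgroup.mem_normalizer_iff.1 this o).1 ho
  set O : Subgroup G := (Ob.comap π).map H.subtype with hO
  have hmemO : ∀ g : G, g ∈ O ↔ ∃ hg : g ∈ H, π ⟨g, hg⟩ ∈ Ob := by
    intro g
    constructor
    · rintro ⟨y, hy, rfl⟩
      exact ⟨y.2, hy⟩
    · rintro ⟨hg, h⟩
      exact ⟨⟨g, hg⟩, h, rfl⟩
  have hQO : Q ≤ O := by
    intro q hq
    rw [hmemO]
    refine ⟨hBH (hQB hq), hQb1 ⟨⟨q, hBH (hQB hq)⟩, ?_, rfl⟩⟩
    rw [SetLike.mem_coe, Subgroup.mem_subgroupOf]; exact hq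
  have hOH : O ≤ H := by
    intro g hg
    obtain ⟨h, -⟩ := (hmemO g).1 hg
    exact h
  have hHO : H ≤ Subgroup.normalizer (O : Set G) := by
    apply le_normalizer_of_conj_mem
    intro h hh o ho
    obtain ⟨hoH, ho'⟩ := (hmemO o).1 ho
    rw [hmemO]
    refine ⟨H.mul_mem (H.mul_mem hh hoH) (H.inv_mem hh), ?_⟩
    have e : (⟨h * o * h⁻¹, H.mul_mem (H.mul_mem hh hoH) (H.inv_mem hh)⟩ : ↥H) =
        ⟨h, hh⟩ * ⟨o, hoH⟩ * (⟨h, hh⟩ : ↥H)⁻¹ := rfl
    rw [e, map_mul, map_mul, map_inv]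
    exact hObn _ _ ho'
  have hN0 : L ≤ Subgroup.normalizer ((O ⊓ L : Subgroup G) : Set G) :=
    le_normalizer_inf (hLH.trans hHO) Subgroup.le_normalizer
  rcases hL.2.2 (O ⊓ L) inf_le_right hN0 with h1 | h1
  · exfalso
    obtain ⟨l, hlL, hlc, k, hlk⟩ := exists_noncentral_pelt hL hLp
    have hlO : l ∈ O := by
      have : l ∈ O ⊓ L := by rw [h1]; exact hlL
      exact this.1
    obtain ⟨hlH, hl'⟩ := (hmemO l).1 hlO
    apply hlc
    apply (hπ1 ⟨l, hlH⟩).1
    have hcop := coprime_orderOf_of_piGrp hp (piCoreIn_piGrp {q | q ≠ p} ⊤) hl'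
    have hdvd : orderOf (π ⟨l, hlH⟩) ∣ p ^ k := by
      apply orderOf_dvd_of_pow_eq_one
      rw [← map_pow]
      have : (⟨l, hlH⟩ : ↥H) ^ p ^ k = 1 := Subtype.ext (by simpa using hlk)
      rw [this, map_one]
    have : orderOf (π ⟨l, hlH⟩) = 1 :=
      Nat.eq_one_of_dvd_coprimes (Nat.Coprime.pow_right k hcop) dvd_rfl hdvd
    exact orderOf_eq_one_iff.1 this
  · have h2 : ⁅L, O⁆ ≤ O ⊓ L := by
      apply le_inf
      · rw [Subgroup.commutator_comm]
        exact comm_le_of_normal le_rfl (hLH.trans hHO)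
      · exact comm_le_of_normal le_rfl (hOH.trans hHN)
    have h3 : ⁅L, O⁆ = ⊥ := comm_eq_bot_of_three hL.1 (h2.trans h1)
    exact hQO.trans (le_centralizer_of_comm_eq_bot h3)

end Bal1

end Cfsg.Agent.helper7
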