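import Mathlib
import Cfsg.Agent.Lib_helper7_Bal1

set_option autoImplicit false
open Cfsg

open scoped commutatorElement

namespace Cfsg.Agent.helper7

section Bal2

variable {G : Type*} [Group G]

theorem centralizer_zpowers_eq' (x : G) :
    Subgroup.centralizer ((Subgroup.zpowers x : Subgroup G) : Set G) =
      Subgroup.centralizer ({x} : Set G) := by
  apply le_antisymm
  · intro g hg
    rw [Subgroup.mem_centralizer_singleton_iff]
    exact (Subgroup.mem_centralizer_iff.1 hg x (Subgroup.mem_zpowers x)).symm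
  · intro g hg
    rw [Subgroup.mem_centralizer_singleton_iff] at hg
    rw [Subgroup.mem_centralizer_iff]
    intro y hy
    obtain ⟨i, rfl⟩ := Subgroup.mem_zpowers_iff.1 hy
    have hc : Commute x g := hg.symm
    exact (hc.zpow_left i).eq

set_option maxHeartbeats 1600000 in
/-- If `x` normalizes but does not centralize the component `L`, then `O_{p'}(C_G(x)) ∩ N_G(L)`
centralizes `L`, provided the automizers of `L` are balanced. -/
theorem bal_normalizer_le_centralizer [Finite G] {p : ℕ} [Fact p.Prime] {x : G} (hxp : x ^ p = 1)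
    {L : Subgroup G} (hL : QS L) (hLp : ¬ PiGrp {q | q ≠ p} L)
    (hxN : x ∈ Subgroup.normalizer (L : Set G)) (hxL : x ∉ Subgroup.centralizer (L : Set G))
    (hbal : ∀ H : Subgroup G, L ≤ H → H ≤ Subgroup.normalizer (L : Set G) →
      ∀ [((Subgroup.centralizer (L : Set G)).subgroupOf H).Normal],
        Cfsg.IsBalancedFor p (↥H ⧸ (Subgroup.centralizer (L : Set G)).subgroupOf H))
    {D : Subgroup G} (hDC : D ≤ Subgroup.centralizer ({x} : Set G))
    (hCD : Subgroup.centralizer ({x} : Set G) ≤ Subgroup.normalizer (D : Set G))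
    (hDpi : PiGrp {q | q ≠ p} D)
    (hDZ : ∀ d ∈ D, ∀ z ∈ L ⊓ Subgroup.centralizer (L : Set G), d * z = z * d) :
    D ⊓ Subgroup.normalizer (L : Set G) ≤ Subgroup.centralizer (L : Set G) := by
  classical
  have hp : p.Prime := Fact.out
  set C := Subgroup.centralizer ({x} : Set G) with hCdef
  set CL := Subgroup.centralizer (L : Set G) with hCL
  set NL := Subgroup.normalizer (L : Set G) with hNL
  have hmemC : ∀ g, g ∈ C ↔ g * x = x * g := fun g => Subgroup.mem_centralizer_singleton_iff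
  have hDconj : ∀ c ∈ C, ∀ d ∈ D, c * d * c⁻¹ ∈ D := fun c hc d hd =>
    (Subgroup.mem_normalizer_iff.1 (hCD hc) d).1 hd
  have hNC : NL ≤ Subgroup.normalizer (CL : Set G) := normalizer_le_normalizer_centralizer L
  have hNLconj : ∀ n ∈ NL, ∀ l ∈ L, n * l * n⁻¹ ∈ L := fun n hn l hl =>
    (Subgroup.mem_normalizer_iff.1 hn l).1 hl
  have hNCconj : ∀ n ∈ NL, ∀ c ∈ CL, n * c * n⁻¹ ∈ CL := fun n hn c hc =>
    (Subgroup.mem_normalizer_iff.1 (hNC hn) c).1 hc
  have hCLcomm : ∀ u ∈ CL, ∀ l ∈ L, u * l = l * u := fun u hu l hl =>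
    (Subgroup.mem_centralizer_iff.1 hu l hl).symm
  set R := C ⊓ NL with hR
  set H := L ⊔ R with hH
  have hRN : R ≤ NL := inf_le_right
  have hRC : R ≤ C := inf_le_left
  have hHN : H ≤ NL := sup_le Subgroup.le_normalizer hRN
  have hLH : L ≤ H := le_sup_left
  have hRH : R ≤ H := le_sup_right
  have hxC : x ∈ C := (hmemC x).2 rfl
  have hxH : x ∈ H := hRH ⟨hxC, hxN⟩
  haveI hnorm : (CL.subgroupOf H).Normal :=
    Subgroup.normal_subgroupOf_of_le_normalizer (hHN.trans hNC)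
  have hb := hbal H hLH hHN
  have hdecomp : ∀ w ∈ H, ∃ l ∈ L, ∃ r ∈ R, w = l * r := fun w hw =>
    mem_sup_of_normalizer hRN hw
  have hW : ∀ l ∈ L, ∀ r ∈ R, (l * r)⁻¹ * x⁻¹ * (l * r) * x ∈ CL →
      l⁻¹ * x⁻¹ * l * x ∈ L ⊓ CL := by
    intro l hl r hr hu
    have hrx : r * x = x * r := (hmemC r).1 (hRC hr)
    have e : l⁻¹ * x⁻¹ * l * x = r * ((l * r)⁻¹ * x⁻¹ * (l * r) * x) * r⁻¹ := by
      have : (l * r)⁻¹ * x⁻¹ * (l * r) * x = r⁻¹ * (l⁻¹ * x⁻¹ * l) * (r * x) := by group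
      rw [this, hrx]; group
    refine ⟨?_, ?_⟩
    · have h1 : x⁻¹ * l * x⁻¹⁻¹ ∈ L := hNLconj x⁻¹ (Subgroup.inv_mem _ hxN) l hl
      have : l⁻¹ * x⁻¹ * l * x = l⁻¹ * (x⁻¹ * l * x⁻¹⁻¹) := by group
      rw [this]; exact L.mul_mem (L.inv_mem hl) h1
    · rw [e]; exact hNCconj r (hRN hr) _ hu
  have hWc : ∀ w ∈ H, w⁻¹ * x⁻¹ * w * x ∈ CL → ∀ c ∈ L ⊓ C, w * c * w⁻¹ ∈ L ⊓ C := by
    intro w hw hu c hc
    refine ⟨hNLconj w (hHN hw) c hc.1, ?_⟩
    apply (hmemC _).2
    set u := w⁻¹ * x⁻¹ * w * x with hudef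
    have huc : u * c = c * u := hCLcomm u hu c hc.1
    have hcx : c * x = x * c := (hmemC c).1 hc.2
    have e1 : w⁻¹ * x * w = x * u⁻¹ := by rw [hudef]; group
    have huc' : c * u⁻¹ = u⁻¹ * c := by
      calc c * u⁻¹ = u⁻¹ * (u * c) * u⁻¹ := by group
        _ = u⁻¹ * (c * u) * u⁻¹ := by rw [huc]
        _ = u⁻¹ * c := by group
    calc w * c * w⁻¹ * x = w * c * (w⁻¹ * x * w) * w⁻¹ := by group
      _ = w * (c * x) * u⁻¹ * w⁻¹ := by rw [e1]; group
      _ = w * x * (c * u⁻¹) * w⁻¹ := by rw [hcx]; group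
      _ = w * (x * u⁻¹) * c * w⁻¹ := by rw [huc']; group
      _ = w * (w⁻¹ * x * w) * c * w⁻¹ := by rw [e1]
      _ = x * (w * c * w⁻¹) := by group
  -- Part (i)
  set Q₁ := piCoreIn {q | q ≠ p} (L ⊓ C) with hQ₁
  have hQ₁le : Q₁ ≤ L ⊓ C := piCoreIn_le _ _
  have hQ₁CL : Q₁ ≤ CL := by
    apply bal_key (hn := hnorm) hL hLp hLH hHN hb hxH hxp hxL (le_refl Q₁)
      (hQ₁le.trans (inf_le_left.trans hLH)) (piCoreIn_piGrp _ _)
    · intro b hb'; exact (hmemC b).1 (hQ₁le hb').2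
    · intro b hb' q hq
      refine ⟨b * q * b⁻¹, ?_, by rw [inv_mul_cancel]; exact Subgroup.one_mem _⟩
      have := piCoreIn_normal {q | q ≠ p} (L ⊓ C) (hQ₁le hb')
      exact (Subgroup.mem_normalizer_iff.1 this q).1 hq
    · intro w hw hu b hb'
      have h1 : w ∈ Subgroup.normalizer ((L ⊓ C : Subgroup G) : Set G) :=
        mem_normalizer_of_conj_mem_fin (hWc w hw hu)
      have h2 := normalizer_le_normalizer_radOf (P := PiGrp {q | q ≠ p})
        (fun g _ h => h.conj g) (L ⊓ C) h1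
      exact (Subgroup.mem_normalizer_iff.1 h2 b).1 hb'
  have hDL : D ⊓ L ≤ CL := by
    refine le_trans ?_ hQ₁CL
    apply le_piCoreIn_of_sn _ (hDpi.mono inf_le_left)
    apply SN.of_normal
    · exact le_inf inf_le_right (inf_le_left.trans hDC)
    · exact le_normalizer_inf (inf_le_right.trans hCD) (inf_le_left.trans Subgroup.le_normalizer)
  -- Part (ii)
  set Q := D ⊓ NL with hQ
  have hQR : Q ≤ R := fun q hq => ⟨hDC hq.1, hq.2⟩
  have hQnLC : Q ≤ Subgroup.normalizer ((L ⊓ C : Subgroup G) : Set G) :=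
    le_normalizer_inf inf_le_right ((hQR.trans hRC).trans Subgroup.le_normalizer)
  set B := (L ⊓ C) ⊔ Q with hB
  have hBdecomp : ∀ b ∈ B, ∃ c ∈ L ⊓ C, ∃ q₀ ∈ Q, b = c * q₀ := fun b hb' =>
    mem_sup_of_normalizer hQnLC hb'
  have hRQ : ∀ r ∈ R, ∀ q ∈ Q, r * q * r⁻¹ ∈ Q := by
    intro r hr q hq
    refine ⟨hDconj r (hRC hr) q hq.1, ?_⟩
    exact NL.mul_mem (NL.mul_mem (hRN hr) hq.2) (NL.inv_mem (hRN hr))
  have key : ∀ q₁ ∈ Q, ∀ c ∈ L ⊓ C, q₁⁻¹ * (c * q₁ * c⁻¹) ∈ CL := by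
    intro q₁ hq₁ c hc
    apply hDL
    refine ⟨D.mul_mem (D.inv_mem hq₁.1) (hDconj c hc.2 q₁ hq₁.1), ?_⟩
    have h1 : q₁⁻¹ * c * q₁⁻¹⁻¹ ∈ L := hNLconj q₁⁻¹ (NL.inv_mem hq₁.2) c hc.1
    have : q₁⁻¹ * (c * q₁ * c⁻¹) = (q₁⁻¹ * c * q₁⁻¹⁻¹) * c⁻¹ := by group
    rw [this]; exact L.mul_mem h1 (L.inv_mem hc.1)
  apply bal_key (hn := hnorm) hL hLp hLH hHN hb hxH hxp hxL (le_sup_right : Q ≤ B)
      (sup_le (inf_le_left.trans hLH) (hQR.trans hRH)) (hDpi.mono inf_le_left)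
  · intro b hb'
    have : B ≤ C := sup_le inf_le_right (hQR.trans hRC)
    exact (hmemC b).1 (this hb')
  · intro b hb' q hq
    obtain ⟨c, hc, q₀, hq₀, rfl⟩ := hBdecomp b hb'
    refine ⟨q₀ * q * q₀⁻¹, Q.mul_mem (Q.mul_mem hq₀ hq) (Q.inv_mem hq₀), ?_⟩
    have := key (q₀ * q * q₀⁻¹) (Q.mul_mem (Q.mul_mem hq₀ hq) (Q.inv_mem hq₀)) c hc
    have e : (q₀ * q * q₀⁻¹)⁻¹ * (c * q₀ * q * (c * q₀)⁻¹) =
        (q₀ * q * q₀⁻¹)⁻¹ * (c * (q₀ * q * q₀⁻¹) * c⁻¹) := by group
    rw [e]; exact this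
  · intro w hw hu b hb'
    obtain ⟨c, hc, q₀, hq₀, rfl⟩ := hBdecomp b hb'
    have h1 : w * c * w⁻¹ ∈ B := (le_sup_left : L ⊓ C ≤ B) (hWc w hw hu c hc)
    have h2 : w * q₀ * w⁻¹ ∈ B := by
      obtain ⟨l, hl, r, hr, rfl⟩ := hdecomp w hw
      have hz := hW l hl r hr hu
      set z' := l⁻¹ * x⁻¹ * l * x with hz'def
      set q₂ := r * q₀ * r⁻¹ with hq₂def
      have hq₂ : q₂ ∈ Q := hRQ r hr q₀ hq₀
      have hq₂x : q₂ * x = x * q₂ := (hmemC q₂).1 (hRC (hQR hq₂))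
      have hq₂z : q₂ * z' = z' * q₂ := hDZ q₂ hq₂.1 z' hz
      set t := l * q₂ * l⁻¹ * q₂⁻¹ with htdef
      have htL : t ∈ L := by
        have h3 : q₂ * l⁻¹ * q₂⁻¹ ∈ L := hNLconj q₂ hq₂.2 _ (L.inv_mem hl)
        have : t = l * (q₂ * l⁻¹ * q₂⁻¹) := by rw [htdef]; group
        rw [this]; exact L.mul_mem hl h3
      have htC : t ∈ C := by
        apply (hmemC _).2
        have e1 : x⁻¹ * l * x = l * z' := by rw [hz'def]; group
        have e2 : x⁻¹ * q₂ * x = q₂ := by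
          calc x⁻¹ * q₂ * x = x⁻¹ * (q₂ * x) := by group
            _ = x⁻¹ * (x * q₂) := by rw [hq₂x]
            _ = q₂ := by group
        have e3 : z' * q₂ * z'⁻¹ = q₂ := by
          calc z' * q₂ * z'⁻¹ = (z' * q₂) * z'⁻¹ := by group
            _ = (q₂ * z') * z'⁻¹ := by rw [hq₂z]
            _ = q₂ := by group
        have e4 : x⁻¹ * t * x = t := by
          calc x⁻¹ * t * x
              = (x⁻¹ * l * x) * (x⁻¹ * q₂ * x) * (x⁻¹ * l * x)⁻¹ * (x⁻¹ * q₂ * x)⁻¹ := by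
                rw [htdef]; group
            _ = (l * z') * q₂ * (l * z')⁻¹ * q₂⁻¹ := by rw [e1, e2]
            _ = l * (z' * q₂ * z'⁻¹) * l⁻¹ * q₂⁻¹ := by group
            _ = t := by rw [e3]
        calc t * x = x * (x⁻¹ * t * x) := by group
          _ = x * t := by rw [e4]
      have : l * r * q₀ * (l * r)⁻¹ = t * q₂ := by rw [htdef, hq₂def]; group
      rw [this]
      exact B.mul_mem ((le_sup_left : L ⊓ C ≤ B) ⟨htL, htC⟩) ((le_sup_right : Q ≤ B) hq₂)
    have : w * (c * q₀) * w⁻¹ = (w * c * w⁻¹) * (w * q₀ * w⁻¹) := by group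
    rw [this]; exact B.mul_mem h1 h2

set_option maxHeartbeats 1600000 in
/-- `O_{p'}(C_G(x))` normalizes every component normalized by `x`. -/
theorem bal_le_normalizer [Finite G] {p : ℕ} [Fact p.Prime] {x : G} (hxp : x ^ p = 1)
    {L : Subgroup G} (hL : Comp L ⊤) (hLp : ¬ PiGrp {q | q ≠ p} L)
    (hxN : x ∈ Subgroup.normalizer (L : Set G))
    {D : Subgroup G} (hDC : D ≤ Subgroup.centralizer ({x} : Set G))
    (hCD : Subgroup.centralizer ({x} : Set G) ≤ Subgroup.normalizer (D : Set G))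
    (hDpi : PiGrp {q | q ≠ p} D)
    (hDZ : ∀ d ∈ D, ∀ z ∈ L ⊓ Subgroup.centralizer (L : Set G), d * z = z * d)
    (hF5 : ∀ K : Subgroup G, Comp K ⊤ →
      D ⊓ Subgroup.normalizer (K : Set G) ≤ Subgroup.centralizer (K : Set G)) :
    D ≤ Subgroup.normalizer (L : Set G) := by
  classical
  have hp : p.Prime := Fact.out
  by_contra hcon
  obtain ⟨d, hdD, hdN⟩ := SetLike.not_le_iff_exists.1 hcon
  set C := Subgroup.centralizer ({x} : Set G) with hCdef
  set CL := Subgroup.centralizer (L : Set G) with hCL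
  have hmemC : ∀ g, g ∈ C ↔ g * x = x * g := fun g => Subgroup.mem_centralizer_singleton_iff
  have hDconj : ∀ c ∈ C, ∀ d ∈ D, c * d * c⁻¹ ∈ D := fun c hc d hd =>
    (Subgroup.mem_normalizer_iff.1 (hCD hc) d).1 hd
  set L' := cj d L with hL'def
  have hL' : Comp L' ⊤ := comp_top_conj hL d
  have hLL' : L ≠ L' := by
    intro h
    exact hdN (mem_normalizer_of_cj_eq h.symm)
  have hcomm : ⁅L, L'⁆ = ⊥ := Comp.comm_of_ne hL hL' hLL'
  obtain ⟨l, hlL, hlc, ⟨k, hlk⟩, hlz⟩ := exists_pelt_fixed_mod_center hL.2 hLp hxN hxp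
  set z := l⁻¹ * x * l * x⁻¹ with hzdef
  have hzL : z ∈ L := by
    have h1 : x * l * x⁻¹ ∈ L := (Subgroup.mem_normalizer_iff.1 hxN l).1 hlL
    have : z = l⁻¹ * (x * l * x⁻¹) := by rw [hzdef]; group
    rw [this]; exact L.mul_mem (L.inv_mem hlL) h1
  have hdz : d * z = z * d := hDZ d hdD z ⟨hzL, hlz⟩
  have hdx : d * x = x * d := (hmemC d).1 (hDC hdD)
  set l' := d * l * d⁻¹ with hl'def
  have hl'L' : l' ∈ L' := cj_mem_cj hlL
  set L'' := cj d L' with hL''def
  have hL'' : Comp L'' ⊤ := comp_top_conj hL' d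
  set l'' := d * l' * d⁻¹ with hl''def
  have hl''L'' : l'' ∈ L'' := cj_mem_cj hl'L'
  have hzl : z * l = l * z := (Subgroup.mem_centralizer_iff.1 hlz l hlL).symm
  have hlz' : l⁻¹ * z = z * l⁻¹ := by
    calc l⁻¹ * z = l⁻¹ * (z * l) * l⁻¹ := by group
      _ = l⁻¹ * (l * z) * l⁻¹ := by rw [hzl]
      _ = z * l⁻¹ := by group
  have hzl' : z * l' = l' * z := commute_of_comm_eq_bot hcomm hzL hl'L'
  have hll' : l * l' = l' * l := commute_of_comm_eq_bot hcomm hlL hl'L'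
  have hc1 : l * l'⁻¹ = l'⁻¹ * l := by
    calc l * l'⁻¹ = l'⁻¹ * (l' * l) * l'⁻¹ := by group
      _ = l'⁻¹ * (l * l') * l'⁻¹ := by rw [hll']
      _ = l'⁻¹ * l := by group
  have hxl : x * l * x⁻¹ = l * z := by rw [hzdef]; group
  have hxl' : x * l' * x⁻¹ = l' * z := by
    have e1 : x * l' * x⁻¹ = d * (x * l * x⁻¹) * d⁻¹ := by
      calc x * l' * x⁻¹ = (x * d) * l * (x * d)⁻¹ := by rw [hl'def]; group
        _ = (d * x) * l * (d * x)⁻¹ := by rw [hdx]
        _ = d * (x * l * x⁻¹) * d⁻¹ := by group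
    rw [e1, hxl]
    calc d * (l * z) * d⁻¹ = (d * l * d⁻¹) * ((d * z) * d⁻¹) := by group
      _ = (d * l * d⁻¹) * ((z * d) * d⁻¹) := by rw [hdz]
      _ = l' * z := by rw [hl'def]; group
  set c := l⁻¹ * l' with hcdef
  have hcC : c ∈ C := by
    apply (hmemC _).2
    have e : x * c * x⁻¹ = c := by
      calc x * c * x⁻¹ = (x * l * x⁻¹)⁻¹ * (x * l' * x⁻¹) := by rw [hcdef]; group
        _ = (l * z)⁻¹ * (l' * z) := by rw [hxl, hxl']
        _ = z⁻¹ * l⁻¹ * (l' * z) := by group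
        _ = z⁻¹ * l⁻¹ * (z * l') := by rw [hzl']
        _ = z⁻¹ * (l⁻¹ * z) * l' := by group
        _ = z⁻¹ * (z * l⁻¹) * l' := by rw [hlz']
        _ = c := by rw [hcdef]; group
    calc c * x = (x * c * x⁻¹) * x := by rw [e]
      _ = x * c := by group
  set e := c⁻¹ * (d * c * d⁻¹) with hedef
  have heD : e ∈ D := by
    have h1 : c⁻¹ * d * c⁻¹⁻¹ ∈ D := hDconj c⁻¹ (C.inv_mem hcC) d hdD
    have : e = (c⁻¹ * d * c⁻¹⁻¹) * d⁻¹ := by rw [hedef]; group
    rw [this]; exact D.mul_mem h1 (D.inv_mem hdD)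
  have he_expr : e = l'⁻¹ * l * l'⁻¹ * l'' := by
    rw [hedef, hcdef, hl''def, hl'def]; group
  have he_mem : ∀ M : Subgroup G, Comp M ⊤ → e ∈ Subgroup.normalizer (M : Set G) := by
    intro M hM
    rw [he_expr]
    have a1 := comp_le_normalizer_comp hL hM hlL
    have a2 := comp_le_normalizer_comp hL' hM hl'L'
    have a3 := comp_le_normalizer_comp hL'' hM hl''L''
    exact Subgroup.mul_mem _ (Subgroup.mul_mem _ (Subgroup.mul_mem _ (Subgroup.inv_mem _ a2) a1)
      (Subgroup.inv_mem _ a2)) a3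
  have heCL : e ∈ CL := hF5 L hL ⟨heD, he_mem L hL⟩
  have heCL' : e ∈ Subgroup.centralizer (L' : Set G) := hF5 L' hL' ⟨heD, he_mem L' hL'⟩
  have hL'CL : L' ≤ CL := le_centralizer_of_comm_eq_bot hcomm
  have hLCL' : L ≤ Subgroup.centralizer (L' : Set G) :=
    le_centralizer_of_comm_eq_bot (by rw [Subgroup.commutator_comm]; exact hcomm)
  by_cases h2 : L'' = L
  · have hl''L : l'' ∈ L := by rw [← h2]; exact hl''L''
    have h3 : l'⁻¹ * l'⁻¹ ∈ Subgroup.centralizer (L' : Set G) := by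
      have e1 : l'⁻¹ * l'⁻¹ = e * (l * l'')⁻¹ := by
        rw [he_expr]
        calc l'⁻¹ * l'⁻¹ = l'⁻¹ * (l'⁻¹ * l) * l⁻¹ := by group
          _ = l'⁻¹ * (l * l'⁻¹) * l⁻¹ := by rw [hc1]
          _ = l'⁻¹ * l * l'⁻¹ * l'' * (l * l'')⁻¹ := by group
      rw [e1]
      exact Subgroup.mul_mem _ heCL' (Subgroup.inv_mem _ (hLCL' (L.mul_mem hlL hl''L)))
    have h4 : l' ^ 2 ∈ Subgroup.centralizer (L' : Set G) := by
      have : l' ^ 2 = (l'⁻¹ * l'⁻¹)⁻¹ := by group
      rw [this]; exact Subgroup.inv_mem _ h3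
    have h5 : l ^ 2 ∈ CL := by
      have e1 : l' ^ 2 = d * l ^ 2 * d⁻¹ := by rw [hl'def, pow_two, pow_two]; group
      rw [e1, hL'def, ← cj_centralizer, mem_cj] at h4
      have e2 : d⁻¹ * (d * l ^ 2 * d⁻¹) * d = l ^ 2 := by group
      rwa [e2] at h4
    have hp2 : p ≠ 2 := by
      intro hp2
      apply hdN
      have hddN : d * d ∈ Subgroup.normalizer (L : Set G) := by
        apply mem_normalizer_of_cj_eq
        rw [← cj_cj]; exact h2
      have hcop : (orderOf d).Coprime p := coprime_orderOf_of_piGrp hp hDpi hdD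
      rw [hp2] at hcop
      have hodd : ¬ 2 ∣ orderOf d := (Nat.Prime.coprime_iff_not_dvd Nat.prime_two).1 hcop.symm
      obtain ⟨m, hm⟩ : ∃ m, orderOf d + 1 = 2 * m := ⟨(orderOf d + 1) / 2, by omega⟩
      have hd : d = (d * d) ^ m := by
        have : (d * d) ^ m = d ^ (2 * m) := by rw [← pow_two, ← pow_mul]
        rw [this, ← hm, pow_succ, pow_orderOf_eq_one, one_mul]
      rw [hd]; exact Subgroup.pow_mem _ hddN m
    have hcop2 : Nat.Coprime 2 (p ^ k) := by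
      apply Nat.Coprime.pow_right
      rw [Nat.coprime_primes Nat.prime_two hp]
      exact Ne.symm hp2
    apply hlc
    exact mem_of_pow_mem_coprime hcop2 h5 (by rw [hlk]; exact Subgroup.one_mem _)
  · have hcomm2 : ⁅L, L''⁆ = ⊥ := Comp.comm_of_ne hL hL'' (Ne.symm h2)
    have hL''CL : L'' ≤ CL := le_centralizer_of_comm_eq_bot hcomm2
    apply hlc
    have e1 : l = e * (l'⁻¹ * l'⁻¹ * l'')⁻¹ := by
      rw [he_expr]
      calc l = (l * l'⁻¹) * l'⁻¹ * l'' * (l'⁻¹ * l'⁻¹ * l'')⁻¹ := by group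
        _ = (l'⁻¹ * l) * l'⁻¹ * l'' * (l'⁻¹ * l'⁻¹ * l'')⁻¹ := by rw [hc1]
        _ = l'⁻¹ * l * l'⁻¹ * l'' * (l'⁻¹ * l'⁻¹ * l'')⁻¹ := by group
    have h3 : e * (l'⁻¹ * l'⁻¹ * l'')⁻¹ ∈ CL := by
      apply Subgroup.mul_mem _ heCL
      apply Subgroup.inv_mem
      exact Subgroup.mul_mem _ (Subgroup.mul_mem _ (Subgroup.inv_mem _ (hL'CL hl'L'))
        (Subgroup.inv_mem _ (hL'CL hl'L'))) (hL''CL hl''L'')
    exact e1 ▸ h3

/-- **Balance from balanced component automizers**, internal form. -/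
theorem balanced_of_comp_balanced [Finite G] {p : ℕ} [Fact p.Prime]
    (hO : piCoreIn {q | q ≠ p} (⊤ : Subgroup G) = ⊥)
    (h : ∀ L : Subgroup G, Comp L ⊤ → ∀ H : Subgroup G, L ≤ H →
      H ≤ Subgroup.normalizer (L : Set G) →
      ∀ [((Subgroup.centralizer (L : Set G)).subgroupOf H).Normal],
        Cfsg.IsBalancedFor p (↥H ⧸ (Subgroup.centralizer (L : Set G)).subgroupOf H))
    (x : G) (hx : orderOf x = p) :
    piCoreIn {q | q ≠ p} (Subgroup.centralizer ({x} : Set G)) = ⊥ := by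
  classical
  have hp : p.Prime := Fact.out
  set C := Subgroup.centralizer ({x} : Set G) with hCdef
  set D := piCoreIn {q | q ≠ p} C with hDdef
  have hDC : D ≤ C := piCoreIn_le _ _
  have hCD : C ≤ Subgroup.normalizer (D : Set G) := piCoreIn_normal _ _
  have hDpi : PiGrp {q | q ≠ p} D := piCoreIn_piGrp _ _
  have hmemC : ∀ g, g ∈ C ↔ g * x = x * g := fun g => Subgroup.mem_centralizer_singleton_iff
  have hxp : x ^ p = 1 := by rw [← hx]; exact pow_orderOf_eq_one x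
  set U := piCoreIn {p} (⊤ : Subgroup G) with hUdef
  have hUpi : PiGrp {p} U := piCoreIn_piGrp _ _
  have hUp : IsPGroup p ↥U := (isPGroup_iff_piGrp hp).2 hUpi
  have hUn : ∀ g : G, g ∈ Subgroup.normalizer (U : Set G) := fun g =>
    piCoreIn_normal {p} ⊤ (Subgroup.mem_top g)
  have hfit : fitOf (⊤ : Subgroup G) = U := by
    rw [fitOf_eq_iSup]
    apply le_antisymm
    · apply iSup_le
      rintro ⟨q, hq⟩
      by_cases hqp : q = p
      · subst hqp; exact le_rfl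
      · have h1 : piCoreIn {q} (⊤ : Subgroup G) ≤ piCoreIn {r | r ≠ p} ⊤ := by
          apply le_piCoreIn_of_sn (SN.of_normal (piCoreIn_le _ _) (piCoreIn_normal _ _))
          exact piGrp_ne_of_piGrp_singleton hqp (piCoreIn_piGrp _ _)
        rw [hO] at h1
        exact h1.trans bot_le
    · exact le_iSup (fun q : {q : ℕ // q.Prime} => piCoreIn {q.1} (⊤ : Subgroup G)) ⟨p, hp⟩
  have hDU : D ≤ Subgroup.centralizer (U : Set G) := by
    have hX : IsPGroup p ↥(Subgroup.zpowers x) :=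
      isPGroup_zpowers_of_pow' (k := 1) (by simpa using hxp)
    have hDcop : (Nat.card ↥D).Coprime p := (coprime_card_iff_piGrp hp).2 hDpi
    apply thompson_PxQ hX hDcop hUp
    · rw [Subgroup.zpowers_le, Subgroup.mem_centralizer_iff]
      intro d hd
      exact (hmemC d).1 (hDC hd)
    · intro g _; exact hUn g
    · intro g _; exact hUn g
    · rw [centralizer_zpowers_eq']
      set V := U ⊓ C with hV
      have hVC : V ≤ C := inf_le_right
      have hCV : C ≤ Subgroup.normalizer (V : Set G) :=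
        le_normalizer_inf (fun g _ => hUn g) Subgroup.le_normalizer
      have h1 : ⁅V, D⁆ ≤ V ⊓ D := by
        apply le_inf
        · exact comm_le_of_normal le_rfl (hDC.trans hCV)
        · rw [Subgroup.commutator_comm]
          exact comm_le_of_normal le_rfl (hVC.trans hCD)
      have h2 : V ⊓ D = ⊥ :=
        piGrp_inf_eq_bot (π := {p}) (π' := {q | q ≠ p})
          (fun q h1 h2 => h2 (Set.mem_singleton_iff.1 h1)) (hUpi.mono inf_le_left) hDpi
      rw [h2, le_bot_iff] at h1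
      exact Subgroup.commutator_eq_bot_iff_le_centralizer.1 h1
  have hZU : ∀ L : Subgroup G, Comp L ⊤ → L ⊓ Subgroup.centralizer (L : Set G) ≤ U := by
    intro L hL
    rw [← hfit]
    set ZL := L ⊓ Subgroup.centralizer (L : Set G) with hZL
    have h1 : ZL ≤ Subgroup.centralizer (ZL : Set G) :=
      inf_le_right.trans (Subgroup.centralizer_le inf_le_left)
    have h2 : ⁅ZL, ZL⁆ = ⊥ := Subgroup.commutator_eq_bot_iff_le_centralizer.2 h1
    have hnil : Group.IsNilpotent ↥ZL :=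
      nilpotent_of_comm_le_centralizer (by rw [h2]; exact bot_le)
    have hsn : SN ZL ⊤ := (SN.of_normal inf_le_left
      (le_normalizer_inf Subgroup.le_normalizer
        (Subgroup.le_normalizer.trans (normalizer_le_normalizer_centralizer L)))).trans hL.1
    exact nilpotent_sn_le_fitOf hsn hnil
  have hDZ : ∀ L : Subgroup G, Comp L ⊤ → ∀ d ∈ D,
      ∀ z ∈ L ⊓ Subgroup.centralizer (L : Set G), d * z = z * d := by
    intro L hL d hd z hz
    exact (Subgroup.mem_centralizer_iff.1 (hDU hd) z (hZU L hL hz)).symm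
  have hnotp : ∀ L : Subgroup G, Comp L ⊤ → ¬ PiGrp {q | q ≠ p} L := by
    intro L hL hpi
    have := le_piCoreIn_of_sn hL.1 hpi
    rw [hO] at this
    exact hL.2.2.1 (le_bot_iff.mp this)
  have hxNL : ∀ L : Subgroup G, ⁅L, Subgroup.zpowers x⁆ = L →
      x ∈ Subgroup.normalizer (L : Set G) := by
    intro L hne
    have h1 := le_normalizer_commutator_left (Subgroup.zpowers x) L
    rw [Subgroup.commutator_comm, hne] at h1
    exact h1 (Subgroup.mem_zpowers x)
  have hF5 : ∀ L : Subgroup G, Comp L ⊤ →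
      D ⊓ Subgroup.normalizer (L : Set G) ≤ Subgroup.centralizer (L : Set G) := by
    intro L hL
    by_cases hne : ⁅L, Subgroup.zpowers x⁆ = L
    · have hxL : x ∉ Subgroup.centralizer (L : Set G) := by
        intro hxc
        have h1 : ⁅L, Subgroup.zpowers x⁆ = ⊥ :=
          comm_eq_bot_of_le_centralizer (by rw [Subgroup.zpowers_le]; exact hxc)
        rw [hne] at h1
        exact hL.2.2.1 h1
      exact bal_normalizer_le_centralizer hxp hL.2 (hnotp L hL) (hxNL L hne) hxL (h L hL)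
        hDC hCD hDpi (hDZ L hL)
    · have := comp_comm_pprime_core hO x hx hL hne
      exact inf_le_left.trans (le_centralizer_of_comm_eq_bot this)
  have hF6 : ∀ L : Subgroup G, Comp L ⊤ → D ≤ Subgroup.centralizer (L : Set G) := by
    intro L hL
    by_cases hne : ⁅L, Subgroup.zpowers x⁆ = L
    · have hDN : D ≤ Subgroup.normalizer (L : Set G) :=
        bal_le_normalizer hxp hL (hnotp L hL) (hxNL L hne) hDC hCD hDpi (hDZ L hL) hF5
      exact (le_inf le_rfl hDN).trans (hF5 L hL)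
    · exact le_centralizer_of_comm_eq_bot (comp_comm_pprime_core hO x hx hL hne)
  have hDE : D ≤ Subgroup.centralizer ((layerOf (⊤ : Subgroup G) : Subgroup G) : Set G) := by
    unfold layerOf
    apply le_centralizer_sSup
    intro L hL
    exact hF6 L hL
  have hDF : D ≤ Subgroup.centralizer ((fstarOf (⊤ : Subgroup G) : Subgroup G) : Set G) := by
    intro d hd
    unfold fstarOf
    apply mem_centralizer_sup (hDE hd)
    rw [hfit]; exact hDU hd
  have h1 : D ≤ fstarOf (⊤ : Subgroup G) := by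
    refine le_trans ?_ (centralizer_fstarOf_le (⊤ : Subgroup G))
    exact le_inf le_top hDF
  have h2 : D ≤ U := by
    rw [← hfit]
    exact (le_inf h1 hDF).trans (center_fstarOf_le_fitOf ⊤)
  have h3 : U ⊓ D = ⊥ :=
    piGrp_inf_eq_bot (π := {p}) (π' := {q | q ≠ p})
      (fun q h1 h2 => h2 (Set.mem_singleton_iff.1 h1)) hUpi hDpi
  rw [eq_bot_iff, ← h3]
  exact le_inf h2 le_rfl

end Bal2

end Cfsg.Agent.helper7
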