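import Mathlib
import Cfsg.Agent.Lib_helper7_Bal2
import Cfsg.Agent.Lib_helper7_Balance
import Cfsg.Agent.Lib_helper7_Diag2
import Cfsg.Agent.Lib_helper7_Derived
import Cfsg.Agent.Lib_helper7_PConstr
import Cfsg.Agent.Lib_helper7_Gen

/-! Coprime operator groups and cores of centralizers (helper15):
relative `F*`-arguments in a quotient by the `q'`-core. -/

set_option autoImplicit false
open Cfsg
open scoped commutatorElement

namespace Cfsg.Agent.helper15.CopCore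

open Cfsg.Agent.helper7

variable {Γ : Type*} [Group Γ]

/-- With `O_{q'}(Hb) = 1`, `F(Hb) = O_q(Hb)` (relative version). -/
theorem fitOf_eq_of_core_bot [Finite Γ] {q : ℕ} [Fact q.Prime] {Hb : Subgroup Γ}
    (hO : piCoreIn {r | r ≠ q} Hb = ⊥) : fitOf Hb = piCoreIn {q} Hb := by
  have hq : q.Prime := Fact.out
  rw [fitOf_eq_iSup]
  apply le_antisymm
  · apply iSup_le
    rintro ⟨s, hs⟩
    by_cases hsq : s = q
    · subst hsq; exact le_rfl
    · have h1 : piCoreIn {s} Hb ≤ piCoreIn {r | r ≠ q} Hb := by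
        apply le_piCoreIn_of_sn (SN.of_normal (piCoreIn_le _ _) (piCoreIn_normal _ _))
        exact piGrp_ne_of_piGrp_singleton hsq (piCoreIn_piGrp _ _)
      rw [hO] at h1
      exact h1.trans bot_le
  · exact le_iSup (fun s : {s : ℕ // s.Prime} => piCoreIn {s.1} Hb) ⟨q, hq⟩

/-- A `q'`-subgroup of `C_H(z)` normalized by `C_H(z)`, `z` a `q`-element, centralizes `O_q(H)`. -/
theorem le_centralizer_pCore [Finite Γ] {q : ℕ} [Fact q.Prime] {Hb Kb : Subgroup Γ} {zb : Γ}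
    {k : ℕ} (hz : zb ^ q ^ k = 1) (hzH : zb ∈ Hb)
    (hKH : Kb ≤ Hb) (hKz : Kb ≤ Subgroup.centralizer ({zb} : Set Γ))
    (hKpi : PiGrp {r | r ≠ q} Kb)
    (hKn : Hb ⊓ Subgroup.centralizer ({zb} : Set Γ) ≤ Subgroup.normalizer (Kb : Set Γ)) :
    Kb ≤ Subgroup.centralizer ((piCoreIn {q} Hb : Subgroup Γ) : Set Γ) := by
  have hq : q.Prime := Fact.out
  set U := piCoreIn {q} Hb with hUdef
  have hUpi : PiGrp {q} U := piCoreIn_piGrp _ _
  have hUp : IsPGroup q ↥U := (isPGroup_iff_piGrp hq).2 hUpi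
  have hUn : Hb ≤ Subgroup.normalizer (U : Set Γ) := piCoreIn_normal _ _
  have hX : IsPGroup q ↥(Subgroup.zpowers zb) := isPGroup_zpowers_of_pow' hz
  have hKcop : (Nat.card ↥Kb).Coprime q := (coprime_card_iff_piGrp hq).2 hKpi
  apply thompson_PxQ hX hKcop hUp
  · rw [Subgroup.zpowers_le, Subgroup.mem_centralizer_iff]
    intro d hd
    have := hKz hd
    rw [Subgroup.mem_centralizer_singleton_iff] at this
    exact this
  · rw [Subgroup.zpowers_le]; exact hUn hzH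
  · exact hKH.trans hUn
  · rw [centralizer_zpowers_eq']
    set C := Subgroup.centralizer ({zb} : Set Γ) with hC
    set V := U ⊓ C with hV
    have hVK : V ≤ Subgroup.normalizer (Kb : Set Γ) :=
      fun v hv => hKn ⟨piCoreIn_le _ _ hv.1, hv.2⟩
    have hCV : Hb ⊓ C ≤ Subgroup.normalizer (V : Set Γ) :=
      le_normalizer_inf (inf_le_left.trans hUn) (inf_le_right.trans Subgroup.le_normalizer)
    have h1 : ⁅V, Kb⁆ ≤ V ⊓ Kb := by
      apply le_inf
      · exact commutator_le_of_normalizer ((le_inf hKH hKz).trans hCV)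
      · rw [Subgroup.commutator_comm]
        exact commutator_le_of_normalizer hVK
    have h2 : V ⊓ Kb = ⊥ :=
      piGrp_inf_eq_bot (π := {q}) (π' := {r | r ≠ q})
        (fun r h1 h2 => h2 (Set.mem_singleton_iff.1 h1)) (hUpi.mono inf_le_left) hKpi
    rw [h2, le_bot_iff] at h1
    exact Subgroup.commutator_eq_bot_iff_le_centralizer.1 h1

/-- A solvable `[H, P]` centralizes the layer of `H`. -/
theorem comm_le_centralizer_layer [Finite Γ] {Hb Pb : Subgroup Γ}
    (hPn : Pb ≤ Subgroup.normalizer (Hb : Set Γ))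
    (hsol : Group.IsSolvable ↥⁅Hb, Pb⁆) :
    ⁅Hb, Pb⁆ ≤ Subgroup.centralizer ((layerOf Hb : Subgroup Γ) : Set Γ) := by
  have hLH : ⁅Hb, Pb⁆ ≤ Hb := commutator_le_of_normalizer hPn
  have hsn : SN ⁅Hb, Pb⁆ Hb := SN.of_normal hLH (le_normalizer_commutator_left Hb Pb)
  have : layerOf Hb ≤ Subgroup.centralizer ((⁅Hb, Pb⁆ : Subgroup Γ) : Set Γ) := by
    apply sSup_le
    intro J hJ
    exact Subgroup.commutator_eq_bot_iff_le_centralizer.1 (hJ.comm_solvable hsn hsol)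
  exact Subgroup.le_centralizer_iff.1 this

/-- If `[H, P]` is solvable then `P` centralizes the layer of `H`. -/
theorem le_centralizer_layer_of_solvable [Finite Γ] {Hb Pb : Subgroup Γ}
    (hPn : Pb ≤ Subgroup.normalizer (Hb : Set Γ))
    (hsol : Group.IsSolvable ↥⁅Hb, Pb⁆) :
    Pb ≤ Subgroup.centralizer ((layerOf Hb : Subgroup Γ) : Set Γ) := by
  set E := layerOf Hb with hE
  have hL := comm_le_centralizer_layer hPn hsol
  have hEH : E ≤ Hb := layerOf_le Hb
  have h1 : ⁅⁅E, Pb⁆, E⁆ = ⊥ := by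
    rw [Subgroup.commutator_eq_bot_iff_le_centralizer]
    exact (Subgroup.commutator_mono hEH le_rfl).trans hL
  have h2 : ⁅⁅Pb, E⁆, E⁆ = ⊥ := by rw [Subgroup.commutator_comm Pb E]; exact h1
  have h3 : ⁅⁅E, E⁆, Pb⁆ = ⊥ := Subgroup.commutator_commutator_eq_bot_of_rotate h1 h2
  rw [hE, layerOf_perfect] at h3
  exact Subgroup.le_centralizer_iff.1 (Subgroup.commutator_eq_bot_iff_le_centralizer.1 h3)

/-- A `q'`-subgroup of `H` normalized by the layer centralizes the layer, if `O_{q'}(H) = 1`. -/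
theorem le_centralizer_layer_of_normalized [Finite Γ] {q : ℕ} [Fact q.Prime] {Hb Db : Subgroup Γ}
    (hO : piCoreIn {r | r ≠ q} Hb = ⊥) (hDH : Db ≤ Hb) (hDpi : PiGrp {r | r ≠ q} Db)
    (hEn : layerOf Hb ≤ Subgroup.normalizer (Db : Set Γ)) :
    Db ≤ Subgroup.centralizer ((layerOf Hb : Subgroup Γ) : Set Γ) := by
  set E := layerOf Hb with hE
  have hDE : Db ≤ Subgroup.normalizer (E : Set Γ) := hDH.trans (layerOf_normal Hb)
  have h1 : ⁅E, Db⁆ ≤ E ⊓ Db := by
    apply le_inf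
    · exact commutator_le_of_normalizer hDE
    · rw [Subgroup.commutator_comm]; exact commutator_le_of_normalizer hEn
  have hsn : SN (E ⊓ Db) Hb := by
    apply SN.step (E ⊓ Db) E Hb inf_le_left _ (layerOf_sn Hb)
    exact le_normalizer_inf Subgroup.le_normalizer hEn
  have h2 : E ⊓ Db ≤ piCoreIn {r | r ≠ q} Hb :=
    le_piCoreIn_of_sn hsn (hDpi.mono inf_le_right)
  rw [hO] at h2
  have h3 : ⁅E, Db⁆ = ⊥ := le_bot_iff.1 (h1.trans h2)
  exact Subgroup.le_centralizer_iff.1 (Subgroup.commutator_eq_bot_iff_le_centralizer.1 h3)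

/-- A `q'`-subgroup of `H` centralizing `O_q(H)` and `E(H)` is trivial, if `O_{q'}(H) = 1`. -/
theorem eq_bot_of_centralizes_fstar [Finite Γ] {q : ℕ} [Fact q.Prime] {Hb X : Subgroup Γ}
    (hO : piCoreIn {r | r ≠ q} Hb = ⊥) (hXH : X ≤ Hb) (hXpi : PiGrp {r | r ≠ q} X)
    (hXU : X ≤ Subgroup.centralizer ((piCoreIn {q} Hb : Subgroup Γ) : Set Γ))
    (hXE : X ≤ Subgroup.centralizer ((layerOf Hb : Subgroup Γ) : Set Γ)) : X = ⊥ := by
  have hfit := fitOf_eq_of_core_bot hO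
  set U := piCoreIn {q} Hb with hU
  have hXF : X ≤ Subgroup.centralizer ((fstarOf Hb : Subgroup Γ) : Set Γ) := by
    intro x hx
    unfold fstarOf
    rw [hfit]
    exact mem_centralizer_sup (hXE hx) (hXU hx)
  have h1 : X ≤ fstarOf Hb := (le_inf hXH hXF).trans (centralizer_fstarOf_le Hb)
  set Z := fstarOf Hb ⊓ Subgroup.centralizer ((fstarOf Hb : Subgroup Γ) : Set Γ) with hZ
  have hZab : Z ≤ Subgroup.centralizer (Z : Set Γ) :=
    inf_le_right.trans (Subgroup.centralizer_le inf_le_left)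
  have hZnil : Group.IsNilpotent ↥Z := nilpotent_of_comm_le_centralizer (by
    rw [Subgroup.commutator_eq_bot_iff_le_centralizer.2 hZab]; exact bot_le)
  have hZsn : SN Z Hb := SN.of_normal (inf_le_left.trans (fstarOf_le Hb))
    (le_normalizer_inf (fstarOf_normal Hb)
      ((fstarOf_normal Hb).trans (normalizer_le_normalizer_centralizer _)))
  have hZU : Z ≤ U := by rw [← hfit]; exact nilpotent_sn_le_fitOf hZsn hZnil
  have hXU' : X ≤ U ⊓ X := le_inf ((le_inf h1 hXF).trans hZU) le_rfl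
  have : U ⊓ X = ⊥ :=
    piGrp_inf_eq_bot (π := {q}) (π' := {r | r ≠ q})
      (fun r h1 h2 => h2 (Set.mem_singleton_iff.1 h1)) (piCoreIn_piGrp _ _) hXpi
  rw [this] at hXU'
  exact le_bot_iff.1 hXU'

/-- Main abstract statement, in a group with `O_{q'}(H) = 1`. -/
theorem core_main [Finite Γ] {q : ℕ} [Fact q.Prime] {Hb Pb Kb Db : Subgroup Γ} {zb : Γ} {k : ℕ}
    (hO : piCoreIn {r | r ≠ q} Hb = ⊥)
    (hPn : Pb ≤ Subgroup.normalizer (Hb : Set Γ))
    (hsol : Group.IsSolvable ↥⁅Hb, Pb⁆)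
    (hz : zb ^ q ^ k = 1) (hzH : zb ∈ Hb)
    (hKH : Kb ≤ Hb) (hKz : Kb ≤ Subgroup.centralizer ({zb} : Set Γ))
    (hKpi : PiGrp {r | r ≠ q} Kb)
    (hKn : Hb ⊓ Subgroup.centralizer ({zb} : Set Γ) ≤ Subgroup.normalizer (Kb : Set Γ))
    (hPK : Pb ≤ Subgroup.normalizer (Kb : Set Γ))
    (hDH : Db ≤ Hb) (hDpi : PiGrp {r | r ≠ q} Db)
    (hDn : Hb ⊓ Subgroup.centralizer (Pb : Set Γ) ≤ Subgroup.normalizer (Db : Set Γ)) :
    Kb ⊓ Db = ⊥ ∧ ⁅Kb, Pb⁆ = ⊥ := by
  have hKU := le_centralizer_pCore hz hzH hKH hKz hKpi hKn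
  have hPE := le_centralizer_layer_of_solvable hPn hsol
  have hEn : layerOf Hb ≤ Subgroup.normalizer (Db : Set Γ) :=
    fun e he => hDn ⟨layerOf_le Hb he, (Subgroup.le_centralizer_iff.1 hPE) he⟩
  have hDE := le_centralizer_layer_of_normalized hO hDH hDpi hEn
  constructor
  · exact eq_bot_of_centralizes_fstar hO (inf_le_left.trans hKH) (hKpi.mono inf_le_left)
      (inf_le_left.trans hKU) (inf_le_right.trans hDE)
  · have hXK : ⁅Kb, Pb⁆ ≤ Kb := commutator_le_of_normalizer hPK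
    exact eq_bot_of_centralizes_fstar hO (hXK.trans hKH) (hKpi.mono hXK) (hXK.trans hKU)
      ((Subgroup.commutator_mono hKH le_rfl).trans (comm_le_centralizer_layer hPn hsol))

end Cfsg.Agent.helper15.CopCore
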