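import Mathlib
import Cfsg.Agent.Lib_helper15_CopCore

/-! Passing to the quotient by the `q'`-core (helper15). -/

set_option autoImplicit false
open Cfsg
open scoped commutatorElement

namespace Cfsg.Agent.helper15.CopCore

open Cfsg.Agent.helper7

variable {G : Type*} [Group G]

/-- `O_π(H / O_π(H)) = 1`, relative version. -/
theorem piCoreIn_map_mk_eq_bot [Finite G] {π : Set ℕ} {H : Subgroup G}
    [hN : (piCoreIn π H).Normal] :
    piCoreIn π (H.map (QuotientGroup.mk' (piCoreIn π H))) = ⊥ := by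
  set N := piCoreIn π H with hNdef
  set φ := QuotientGroup.mk' N with hφ
  set T := piCoreIn π (H.map φ) with hT
  set M := T.comap φ ⊓ H with hM
  have hMpi : PiGrp π M :=
    (PiGrp.comap φ (piCoreIn_piGrp π _)
      (by rw [hφ, QuotientGroup.ker_mk']; exact piCoreIn_piGrp π H)).mono inf_le_left
  have hHn : H ≤ Subgroup.normalizer ((T.comap φ : Subgroup G) : Set G) := by
    intro h hh
    apply Subgroup.le_normalizer_comap φ
    rw [Subgroup.mem_comap]
    exact piCoreIn_normal π (H.map φ) (Subgroup.mem_map_of_mem φ hh)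
  have hMn : H ≤ Subgroup.normalizer (M : Set G) :=
    le_normalizer_inf hHn Subgroup.le_normalizer
  have hMN : M ≤ N := le_radOf inf_le_right hMn hMpi
  rw [eq_bot_iff]
  intro t ht
  obtain ⟨x, hx, rfl⟩ := piCoreIn_le π _ ht
  have hxM : x ∈ M := ⟨ht, hx⟩
  rw [Subgroup.mem_bot]
  exact (QuotientGroup.eq_one_iff x).2 (hMN hxM)

/-- Lifting normalizing elements: if `C_H(P₀)` normalizes `W` then `C_{H̄}(P̄₀)` normalizes `W̄`
in the quotient by a normal `s'`-subgroup `N ≤ H`, for an `s`-group `P₀`. -/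
theorem lift_normalizer [Finite G] {s : ℕ} (hs : s.Prime) {N : Subgroup G} [N.Normal]
    (hN : (Nat.card ↥N).Coprime s) {P₀ H W : Subgroup G} (hP₀ : IsPGroup s ↥P₀) (hNH : N ≤ H)
    (hW : H ⊓ Subgroup.centralizer (P₀ : Set G) ≤ Subgroup.normalizer (W : Set G)) :
    H.map (QuotientGroup.mk' N) ⊓
        Subgroup.centralizer ((P₀.map (QuotientGroup.mk' N) : Subgroup (G ⧸ N)) : Set (G ⧸ N)) ≤
      Subgroup.normalizer ((W.map (QuotientGroup.mk' N) : Subgroup (G ⧸ N)) : Set (G ⧸ N)) := by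
  rintro u ⟨⟨x, hx, rfl⟩, hc⟩
  have hc : ∀ h ∈ (P₀.map (QuotientGroup.mk' N) : Subgroup (G ⧸ N)),
      h * QuotientGroup.mk' N x = QuotientGroup.mk' N x * h := Subgroup.mem_centralizer_iff.1 hc
  obtain ⟨y, hy, o, ho, rfl⟩ := exists_lift_centralizer hs hN hP₀ x (by
    intro a ha
    rw [← QuotientGroup.ker_mk' N, MonoidHom.mem_ker, map_mul, map_mul, map_mul, map_inv, map_inv]
    have := hc _ (Subgroup.mem_map_of_mem _ ha)
    rw [this]; group)
  have hyN : o * x ∈ Subgroup.normalizer (W : Set G) := hW ⟨H.mul_mem (hNH ho) hx, hy⟩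
  have h5 : QuotientGroup.mk' N (o * x) = QuotientGroup.mk' N x := by
    rw [map_mul]
    have : QuotientGroup.mk' N o = 1 := (QuotientGroup.eq_one_iff o).2 ho
    rw [this, one_mul]
  rw [← h5]
  exact Subgroup.le_normalizer_map _ (Subgroup.mem_map_of_mem _ hyN)

theorem solvable_map {G' : Type*} [Group G'] (f : G →* G') {L : Subgroup G}
    (h : Group.IsSolvable ↥L) : Group.IsSolvable ↥(L.map f) :=
  solvable_of_surjective (f.subgroupMap_surjective L)

/-- The main statement in relative form. -/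
theorem main_rel [Finite G] {p q : ℕ} [Fact p.Prime] [Fact q.Prime] {H P : Subgroup G}
    [hHn : H.Normal] (hHp : (Nat.card ↥H).Coprime p) (hP : IsPGroup p ↥P)
    (hsol : Group.IsSolvable ↥⁅H, P⁆)
    (z : G) (hzH : z ∈ H) (hzP : z ∈ Subgroup.centralizer (P : Set G))
    {k : ℕ} (hz : orderOf z = q ^ k) :
    (piCoreIn {r | r ≠ q} (H ⊓ Subgroup.centralizer ({z} : Set G)) ⊓
      piCoreIn {r | r ≠ q} (H ⊓ Subgroup.centralizer (P : Set G))) ⊔
    ⁅piCoreIn {r | r ≠ q} (H ⊓ Subgroup.centralizer ({z} : Set G)), P⁆ ≤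
      piCoreIn {r | r ≠ q} H := by
  have hp : p.Prime := Fact.out
  have hq : q.Prime := Fact.out
  set π' : Set ℕ := {r | r ≠ q} with hπ'
  set N := piCoreIn π' H with hNdef
  set K := piCoreIn π' (H ⊓ Subgroup.centralizer ({z} : Set G)) with hK
  set D := piCoreIn π' (H ⊓ Subgroup.centralizer (P : Set G)) with hD
  have hNH : N ≤ H := piCoreIn_le _ _
  haveI hNn : N.Normal := by
    rw [← Subgroup.normalizer_eq_top_iff]
    have h1 : Subgroup.normalizer (H : Set G) ≤ Subgroup.normalizer (N : Set G) :=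
      normalizer_le_normalizer_radOf (fun g _ h => h.conj g) H
    rw [Subgroup.normalizer_eq_top_iff.2 hHn] at h1
    exact top_le_iff.1 h1
  set φ := QuotientGroup.mk' N with hφ
  have hker : φ.ker = N := QuotientGroup.ker_mk' N
  have hNpi : PiGrp π' N := piCoreIn_piGrp _ _
  have hNq : (Nat.card ↥N).Coprime q := (coprime_card_iff_piGrp hq).2 hNpi
  have hNp : (Nat.card ↥N).Coprime p :=
    Nat.Coprime.coprime_dvd_left (Subgroup.card_dvd_of_le hNH) hHp
  -- hypotheses of the abstract statement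
  have hO : piCoreIn π' (H.map φ) = ⊥ := piCoreIn_map_mk_eq_bot
  have hPn : P.map φ ≤ Subgroup.normalizer ((H.map φ : Subgroup (G ⧸ N)) : Set (G ⧸ N)) := by
    haveI : (H.map φ).Normal := hHn.map φ (QuotientGroup.mk'_surjective N)
    rw [Subgroup.normalizer_eq_top_iff.2 inferInstance]
    exact le_top
  have hsolb : Group.IsSolvable ↥⁅H.map φ, P.map φ⁆ := by
    rw [← Subgroup.map_commutator]
    exact solvable_map φ hsol
  have hzb : (φ z) ^ q ^ k = 1 := by
    rw [← map_pow, ← hz, pow_orderOf_eq_one, map_one]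
  have hzHb : φ z ∈ H.map φ := Subgroup.mem_map_of_mem φ hzH
  have hKH : K ≤ H := (piCoreIn_le _ _).trans inf_le_left
  have hKz : K ≤ Subgroup.centralizer ({z} : Set G) := (piCoreIn_le _ _).trans inf_le_right
  have hKzb : K.map φ ≤ Subgroup.centralizer ({φ z} : Set (G ⧸ N)) := by
    rintro _ ⟨x, hx, rfl⟩
    have := hKz hx
    rw [Subgroup.mem_centralizer_singleton_iff] at this ⊢
    rw [← map_mul, ← map_mul, this]
  have hKpi : PiGrp π' (K.map φ) := (piCoreIn_piGrp π' _).map φ
  have hzpow : IsPGroup q ↥(Subgroup.zpowers z) :=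
    isPGroup_zpowers_of_pow' (k := k) (by rw [← hz, pow_orderOf_eq_one])
  have hcz : Subgroup.centralizer ((Subgroup.zpowers z : Subgroup G) : Set G) =
      Subgroup.centralizer ({z} : Set G) := centralizer_zpowers_eq' z
  have hKn : H.map φ ⊓ Subgroup.centralizer ({φ z} : Set (G ⧸ N)) ≤
      Subgroup.normalizer ((K.map φ : Subgroup (G ⧸ N)) : Set (G ⧸ N)) := by
    have h1 := lift_normalizer (N := N) (s := q) hq hNq (P₀ := Subgroup.zpowers z) (H := H)
      (W := K) hzpow hNH (by rw [hcz]; exact piCoreIn_normal π' _)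
    rw [MonoidHom.map_zpowers, centralizer_zpowers_eq'] at h1
    exact h1
  have hPz : P ≤ Subgroup.centralizer ({z} : Set G) := by
    intro g hg
    rw [Subgroup.mem_centralizer_singleton_iff]
    exact ((Subgroup.mem_centralizer_iff.1 hzP) g hg)
  have hPK : P ≤ Subgroup.normalizer (K : Set G) := by
    have h1 : P ≤ Subgroup.normalizer ((H ⊓ Subgroup.centralizer ({z} : Set G) : Subgroup G) : Set G) := by
      apply le_normalizer_inf
      · rw [Subgroup.normalizer_eq_top_iff.2 hHn]; exact le_top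
      · exact hPz.trans Subgroup.le_normalizer
    exact h1.trans (normalizer_le_normalizer_radOf (fun g _ h => h.conj g) _)
  have hPKb : P.map φ ≤ Subgroup.normalizer ((K.map φ : Subgroup (G ⧸ N)) : Set (G ⧸ N)) :=
    (Subgroup.map_mono hPK).trans (Subgroup.le_normalizer_map φ)
  have hDH : D ≤ H := (piCoreIn_le _ _).trans inf_le_left
  have hDpi : PiGrp π' (D.map φ) := (piCoreIn_piGrp π' _).map φ
  have hDn : H.map φ ⊓ Subgroup.centralizer ((P.map φ : Subgroup (G ⧸ N)) : Set (G ⧸ N)) ≤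
      Subgroup.normalizer ((D.map φ : Subgroup (G ⧸ N)) : Set (G ⧸ N)) :=
    lift_normalizer (N := N) (s := p) hp hNp (P₀ := P) (H := H) (W := D) hP hNH
      (piCoreIn_normal π' _)
  obtain ⟨h1, h2⟩ := core_main (q := q) hO hPn hsolb hzb hzHb (Subgroup.map_mono hKH) hKzb hKpi hKn
    hPKb (Subgroup.map_mono hDH) hDpi hDn
  apply sup_le
  · rw [← hker, ← Subgroup.map_eq_bot_iff, eq_bot_iff, ← h1]
    exact le_inf (Subgroup.map_mono inf_le_left) (Subgroup.map_mono inf_le_right)
  · rw [← hker, ← Subgroup.map_eq_bot_iff, Subgroup.map_commutator]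
    exact h2

end Cfsg.Agent.helper15.CopCore
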