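import Mathlib
import Cfsg.Prelude.Def_DStar

set_option autoImplicit false

namespace Cfsg.Agent.helper15

open scoped commutatorElement

variable {G : Type*} [Group G]

/-- A nilpotent group whose second centre equals its centre is abelian. -/
theorem center_eq_top_of_second_center_le [Group.IsNilpotent G]
    (h : ∀ x : G, (∀ y : G, ⁅x, y⁆ ∈ Subgroup.center G) → x ∈ Subgroup.center G) :
    Subgroup.center G = ⊤ := by
  have h12 : upperCentralSeries G 1 = upperCentralSeries G 2 := by
    apply le_antisymm (upperCentralSeries_mono G (by norm_num))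
    intro x hx
    rw [upperCentralSeries_one]
    apply h
    intro y
    have := mem_upperCentralSeries_succ_iff.1 hx y
    rwa [upperCentralSeries_one] at this
  have := Subgroup.upperCentralSeries.eq_top (G := G) (a := 1) (b := 2) (by norm_num) h12
  rwa [upperCentralSeries_one] at this

/-- Subgroup version: a nilpotent subgroup `H` such that every element of `H` whose commutators
with `H` are central in `H` is itself central in `H`, is abelian. -/
theorem le_centralizer_of_second_center_le (H : Subgroup G) [Group.IsNilpotent ↥H]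
    (h : ∀ x ∈ H, (∀ y ∈ H, ⁅x, y⁆ ∈ H ⊓ Subgroup.centralizer (H : Set G)) →
      x ∈ Subgroup.centralizer (H : Set G)) :
    H ≤ Subgroup.centralizer (H : Set G) := by
  have hc : Subgroup.center ↥H = ⊤ := by
    apply center_eq_top_of_second_center_le
    intro x hx
    have hx' : (x : G) ∈ Subgroup.centralizer (H : Set G) := by
      apply h (x : G) x.2
      intro y hy
      refine Subgroup.mem_inf.2 ⟨?_, ?_⟩
      · exact H.mul_mem (H.mul_mem (H.mul_mem x.2 hy) (H.inv_mem x.2)) (H.inv_mem hy)
      · have h1 := hx ⟨y, hy⟩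
        rw [Subgroup.mem_centralizer_iff]
        intro z hz
        have h2 := Subgroup.mem_center_iff.1 h1 ⟨z, hz⟩
        have h3 := congrArg Subtype.val h2
        simpa [commutatorElement_def] using h3
    rw [Subgroup.mem_center_iff]
    intro z
    apply Subtype.ext
    simp only [Subgroup.coe_mul]
    exact Subgroup.mem_centralizer_iff.1 hx' (z : G) z.2
  intro x hx
  rw [Subgroup.mem_centralizer_iff]
  intro y hy
  have h1 : (⟨x, hx⟩ : ↥H) ∈ Subgroup.center ↥H := by rw [hc]; trivial
  have h2 := Subgroup.mem_center_iff.1 h1 ⟨y, hy⟩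
  exact congrArg Subtype.val h2

/-- If the generators `T ⊆ M` pairwise have commutators in `Z`, where `Z` commutes with `M`, then
all pairs of elements of `closure T` have commutators in `Z`. -/
theorem commutator_mem_of_closure {M Z : Subgroup G} (hZ : ∀ z ∈ Z, ∀ m ∈ M, z * m = m * z)
    (T : Set G) (hTM : T ⊆ M) (hT : ∀ s ∈ T, ∀ t ∈ T, ⁅s, t⁆ ∈ Z) :
    ∀ k₁ ∈ Subgroup.closure T, ∀ k₂ ∈ Subgroup.closure T, ⁅k₁, k₂⁆ ∈ Z := by
  have hcl : Subgroup.closure T ≤ M := (Subgroup.closure_le M).2 hTM
  -- for `g ∈ M`, the elements `h ∈ M` with `[h, g] ∈ Z` form a subgroup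
  have key : ∀ g ∈ M, (∀ t ∈ T, ⁅t, g⁆ ∈ Z) → ∀ k ∈ Subgroup.closure T, ⁅k, g⁆ ∈ Z := by
    intro g hg htg k hk
    have : k ∈ M ∧ ⁅k, g⁆ ∈ Z := by
      induction hk using Subgroup.closure_induction with
      | mem x hx => exact ⟨hTM hx, htg x hx⟩
      | one => exact ⟨M.one_mem, by simp [commutatorElement_def, Z.one_mem]⟩
      | mul x y _ _ ihx ihy =>
        refine ⟨M.mul_mem ihx.1 ihy.1, ?_⟩
        have hc := hZ _ ihy.2 x ihx.1
        have e : ⁅x * y, g⁆ = ⁅y, g⁆ * ⁅x, g⁆ := by
          have e1 : ⁅x * y, g⁆ = x * ⁅y, g⁆ * x⁻¹ * ⁅x, g⁆ := by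
            simp only [commutatorElement_def]; group
          rw [e1, ← hc, mul_inv_cancel_right]
        rw [e]
        exact Z.mul_mem ihy.2 ihx.2
      | inv x _ ihx =>
        refine ⟨M.inv_mem ihx.1, ?_⟩
        have hc := hZ _ (Z.inv_mem ihx.2) x ihx.1
        have e : ⁅x⁻¹, g⁆ = (⁅x, g⁆)⁻¹ := by
          have e1 : ⁅x⁻¹, g⁆ = x⁻¹ * ((⁅x, g⁆)⁻¹ * x) := by
            simp only [commutatorElement_def]; group
          rw [e1, hc, inv_mul_cancel_left]
        rw [e]
        exact Z.inv_mem ihx.2
    exact this.2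
  have hswap : ∀ a b : G, ⁅a, b⁆ = (⁅b, a⁆)⁻¹ := by
    intro a b; simp only [commutatorElement_def]; group
  -- stage 1
  have s1 : ∀ t ∈ T, ∀ k ∈ Subgroup.closure T, ⁅k, t⁆ ∈ Z :=
    fun t ht k hk => key t (hTM ht) (fun s hs => hT s hs t ht) k hk
  -- stage 2
  intro k₁ hk₁ k₂ hk₂
  apply key k₂ (hcl hk₂) _ k₁ hk₁
  intro t ht
  rw [hswap]
  exact Z.inv_mem (s1 t ht k₂ hk₂)

/-- Two members of the `D*`-family of a finite `p`-group commute. -/
theorem dStarFamily_commute {S : Type*} [Group S] [Finite S] {p : ℕ} [Fact p.Prime]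
    (hS : IsPGroup p S) {A B : Subgroup S} (hA : A ∈ Cfsg.dStarFamily S)
    (hB : B ∈ Cfsg.dStarFamily S) : ∀ a ∈ A, ∀ b ∈ B, a * b = b * a := by
  set H : Subgroup S := A ⊔ B with hH
  haveI : Group.IsNilpotent ↥H := (hS.to_subgroup H).isNilpotent
  have hab : H ≤ Subgroup.centralizer (H : Set S) := by
    apply le_centralizer_of_second_center_le
    intro x hxH hx
    -- `x` commutes with every member `C ≤ H` of the family
    have hmem : ∀ C : Subgroup S, C ∈ Cfsg.dStarFamily S → C ≤ H → ∀ c ∈ C, c * x = x * c := by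
      intro C hC hCH
      obtain ⟨hCc, hCx⟩ := hC
      apply hCx x
      have hZ : ∀ z ∈ H ⊓ Subgroup.centralizer (H : Set S), ∀ m ∈ H, z * m = m * z :=
        fun z hz m hm => (Subgroup.mem_centralizer_iff.1 hz.2 m hm).symm
      have hK : C ⊔ Subgroup.zpowers x = Subgroup.closure ((C : Set S) ∪ {x}) := by
        rw [Subgroup.closure_union, Subgroup.closure_eq, Subgroup.zpowers_eq_closure]
      have hTM : ((C : Set S) ∪ {x}) ⊆ (H : Set S) := by
        rintro y (hy | hy)
        · exact hCH hy
        · rw [Set.mem_singleton_iff] at hy; rw [hy]; exact hxH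
      have hswap : ∀ a b : S, ⁅a, b⁆ = (⁅b, a⁆)⁻¹ := by
        intro a b; simp only [commutatorElement_def]; group
      have hT : ∀ s ∈ ((C : Set S) ∪ {x}), ∀ t ∈ ((C : Set S) ∪ {x}),
          ⁅s, t⁆ ∈ H ⊓ Subgroup.centralizer (H : Set S) := by
        rintro s (hs | hs) t (ht | ht)
        · have : s * t = t * s := by
            have := hCc.is_comm.comm (⟨s, hs⟩ : ↥C) ⟨t, ht⟩
            exact congrArg Subtype.val this
          have e : ⁅s, t⁆ = 1 := by
            rw [commutatorElement_def, this]; group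
          rw [e]; exact Subgroup.one_mem _
        · rw [Set.mem_singleton_iff] at ht
          rw [ht, hswap]
          exact Subgroup.inv_mem _ (hx s (hCH hs))
        · rw [Set.mem_singleton_iff] at hs
          rw [hs]
          exact hx t (hCH ht)
        · rw [Set.mem_singleton_iff] at hs ht
          rw [hs, ht]
          have e : ⁅x, x⁆ = 1 := by rw [commutatorElement_def]; group
          rw [e]; exact Subgroup.one_mem _
      have hcomm := commutator_mem_of_closure hZ _ hTM hT
      rw [← hK] at hcomm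
      have hKH : C ⊔ Subgroup.zpowers x ≤ H := by
        rw [hK]; exact (Subgroup.closure_le H).2 hTM
      have h1 : ⁅C ⊔ Subgroup.zpowers x, C ⊔ Subgroup.zpowers x⁆ ≤
          H ⊓ Subgroup.centralizer (H : Set S) :=
        Subgroup.commutator_le.2 hcomm
      have h2 : H ⊓ Subgroup.centralizer (H : Set S) ≤
          Subgroup.centralizer ((C ⊔ Subgroup.zpowers x : Subgroup S) : Set S) :=
        inf_le_right.trans (Subgroup.centralizer_le (SetLike.coe_subset_coe.2 hKH))
      rw [Subgroup.commutator_eq_bot_iff_le_centralizer]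
      exact h1.trans h2
    rw [Subgroup.mem_centralizer_iff]
    intro y hy
    have hle : H ≤ Subgroup.centralizer ({x} : Set S) := by
      apply sup_le
      · intro a ha
        rw [Subgroup.mem_centralizer_singleton_iff]
        exact hmem A hA le_sup_left a ha
      · intro b hb
        rw [Subgroup.mem_centralizer_singleton_iff]
        exact hmem B hB le_sup_right b hb
    have := hle hy
    rw [Subgroup.mem_centralizer_singleton_iff] at this
    exact this
  intro a ha b hb
  have h1 : a ∈ H := Subgroup.mem_sup_left ha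
  have h2 : b ∈ H := Subgroup.mem_sup_right hb
  exact (Subgroup.mem_centralizer_iff.1 (hab h2) a h1)

/-- `D*(S)` belongs to its defining family. -/
theorem dStar_mem_dStarFamily {S : Type*} [Group S] [Finite S] {p : ℕ} [Fact p.Prime]
    (hS : IsPGroup p S) : Cfsg.dStar S ∈ Cfsg.dStarFamily S := by
  have hsup : Cfsg.dStar S = Subgroup.closure (⋃ A ∈ Cfsg.dStarFamily S, (A : Set S)) := by
    unfold Cfsg.dStar
    rw [sSup_eq_iSup, Subgroup.closure_iUnion]
    congr 1
    funext A
    rw [Subgroup.closure_iUnion]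
    congr 1
    funext _
    rw [Subgroup.closure_eq]
  refine ⟨?_, ?_⟩
  · -- commutative
    have hcomm : ∀ x ∈ (⋃ A ∈ Cfsg.dStarFamily S, (A : Set S)),
        ∀ y ∈ (⋃ A ∈ Cfsg.dStarFamily S, (A : Set S)), x * y = y * x := by
      intro x hx y hy
      simp only [Set.mem_iUnion, SetLike.mem_coe] at hx hy
      obtain ⟨A, hA, hxA⟩ := hx
      obtain ⟨B, hB, hyB⟩ := hy
      exact dStarFamily_commute hS hA hB x hxA y hyB
    rw [hsup]
    exact Subgroup.isMulCommutative_closure hcomm
  · intro x hx
    have hle : Cfsg.dStar S ≤ Subgroup.centralizer ({x} : Set S) := by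
      unfold Cfsg.dStar
      apply sSup_le
      intro A hA a ha
      rw [Subgroup.mem_centralizer_singleton_iff]
      have hAD : A ≤ sSup (Cfsg.dStarFamily S) := le_sSup hA
      apply hA.2 x _ a ha
      rw [eq_bot_iff, ← hx]
      have hm : A ⊔ Subgroup.zpowers x ≤ Cfsg.dStar S ⊔ Subgroup.zpowers x :=
        sup_le_sup_right hAD _
      exact Subgroup.commutator_mono (Subgroup.commutator_mono hm hm) hm
    intro a ha
    have := hle ha
    rwa [Subgroup.mem_centralizer_singleton_iff] at this

end Cfsg.Agent.helper15
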