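import Mathlib
import Cfsg.Agent.Lib_helper15_DStar
import Cfsg.Agent.Lib_helper15_Replace

set_option autoImplicit false

namespace Cfsg.Agent.helper15

open scoped commutatorElement

variable {S : Type*} [Group S]

/-- The `D*`-family is invariant under conjugation. -/
theorem dStarFamily_map_conj {A : Subgroup S} (hA : A ∈ Cfsg.dStarFamily S) (g : S) :
    A.map (MulAut.conj g).toMonoidHom ∈ Cfsg.dStarFamily S := by
  obtain ⟨hAc, hAx⟩ := hA
  refine ⟨Subgroup.map_isMulCommutative A _, ?_⟩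
  intro x hx
  set φ : S →* S := (MulAut.conj g).toMonoidHom with hφ
  set y : S := g⁻¹ * x * g with hy
  have hxy : φ y = x := by
    simp only [hφ, hy, MulEquiv.coe_toMonoidHom, MulAut.conj_apply]; group
  have hK : A.map φ ⊔ Subgroup.zpowers x = (A ⊔ Subgroup.zpowers y).map φ := by
    rw [Subgroup.map_sup, MonoidHom.map_zpowers, hxy]
  rw [hK, ← Subgroup.map_commutator, ← Subgroup.map_commutator,
    Subgroup.map_eq_bot_iff_of_injective _ (MulAut.conj g).injective] at hx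
  have h1 := hAx y hx
  rintro _ ⟨a, ha, rfl⟩
  have h2 := h1 a ha
  rw [← hxy]
  simp only [hφ, MulEquiv.coe_toMonoidHom, MulAut.conj_apply]
  calc g * a * g⁻¹ * (g * y * g⁻¹) = g * (a * y) * g⁻¹ := by group
    _ = g * (y * a) * g⁻¹ := by rw [h2]
    _ = g * y * g⁻¹ * (g * a * g⁻¹) := by group

/-- `D*(S)` is a normal subgroup. -/
theorem dStar_normal : (Cfsg.dStar S).Normal := by
  constructor
  intro d hd g
  have hle : Cfsg.dStar S ≤ (Cfsg.dStar S).comap (MulAut.conj g).toMonoidHom := by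
    unfold Cfsg.dStar
    apply sSup_le
    intro A hA
    rw [← Subgroup.map_le_iff_le_comap]
    exact le_sSup (dStarFamily_map_conj hA g)
  have := hle hd
  rw [Subgroup.mem_comap] at this
  simpa using this

/-- An abelian subgroup normalized by `D*(S)` centralizes `D*(S)`. -/
theorem dStar_commute_of_le_normalizer [Finite S] {p : ℕ} [Fact p.Prime] (hS : IsPGroup p S)
    (A : Subgroup S) (hA : IsMulCommutative ↥A)
    (hDA : Cfsg.dStar S ≤ Subgroup.normalizer (A : Set S)) :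
    ∀ d ∈ Cfsg.dStar S, ∀ a ∈ A, d * a = a * d := by
  obtain ⟨hDc, hDx⟩ := dStar_mem_dStarFamily hS
  have hDn : (Cfsg.dStar S).Normal := dStar_normal
  have hDcomm : ∀ x ∈ Cfsg.dStar S, ∀ y ∈ Cfsg.dStar S, x * y = y * x := fun x hx y hy =>
    congrArg Subtype.val (hDc.is_comm.comm (⟨x, hx⟩ : ↥(Cfsg.dStar S)) ⟨y, hy⟩)
  have hAcomm : ∀ x ∈ A, ∀ y ∈ A, x * y = y * x := fun x hx y hy =>
    congrArg Subtype.val (hA.is_comm.comm (⟨x, hx⟩ : ↥A) ⟨y, hy⟩)
  intro d hd a ha
  apply hDx a _ d hd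
  set K : Subgroup S := Cfsg.dStar S ⊔ Subgroup.zpowers a with hK
  have hKcl : K = Subgroup.closure (((Cfsg.dStar S : Subgroup S) : Set S) ∪ {a}) := by
    rw [hK, Subgroup.closure_union, Subgroup.closure_eq, Subgroup.zpowers_eq_closure]
  have hZ : ∀ z ∈ Cfsg.dStar S ⊓ A, ∀ m ∈ K, z * m = m * z := by
    intro z hz m hm
    have hle : K ≤ Subgroup.centralizer ({z} : Set S) := by
      apply sup_le
      · intro x hx
        rw [Subgroup.mem_centralizer_singleton_iff]
        exact hDcomm x hx z hz.1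
      · rw [Subgroup.zpowers_le, Subgroup.mem_centralizer_singleton_iff]
        exact hAcomm a ha z hz.2
    have := hle hm
    rw [Subgroup.mem_centralizer_singleton_iff] at this
    exact this.symm
  have hTM : (((Cfsg.dStar S : Subgroup S) : Set S) ∪ {a}) ⊆ (K : Set S) := by
    rintro y (hy | hy)
    · exact Subgroup.mem_sup_left hy
    · rw [Set.mem_singleton_iff] at hy
      rw [hy]; exact Subgroup.mem_sup_right (Subgroup.mem_zpowers a)
  have hswap : ∀ u v : S, ⁅u, v⁆ = (⁅v, u⁆)⁻¹ := by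
    intro u v; simp only [commutatorElement_def]; group
  have hda : ∀ e ∈ Cfsg.dStar S, ⁅e, a⁆ ∈ Cfsg.dStar S ⊓ A := by
    intro e he
    refine Subgroup.mem_inf.2 ⟨?_, ?_⟩
    · have h1 : a * e⁻¹ * a⁻¹ ∈ Cfsg.dStar S := hDn.conj_mem _ (Subgroup.inv_mem _ he) a
      have e1 : ⁅e, a⁆ = e * (a * e⁻¹ * a⁻¹) := by rw [commutatorElement_def]; group
      rw [e1]; exact Subgroup.mul_mem _ he h1
    · have h1 : e * a * e⁻¹ ∈ A := (Subgroup.mem_normalizer_iff.1 (hDA he) a).1 ha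
      rw [commutatorElement_def]
      exact A.mul_mem h1 (A.inv_mem ha)
  have hT : ∀ s ∈ (((Cfsg.dStar S : Subgroup S) : Set S) ∪ {a}),
      ∀ t ∈ (((Cfsg.dStar S : Subgroup S) : Set S) ∪ {a}), ⁅s, t⁆ ∈ Cfsg.dStar S ⊓ A := by
    rintro s (hs | hs) t (ht | ht)
    · have e : ⁅s, t⁆ = 1 := by
        rw [commutatorElement_def, hDcomm s hs t ht]; group
      rw [e]; exact Subgroup.one_mem _
    · rw [Set.mem_singleton_iff] at ht
      rw [ht]; exact hda s hs
    · rw [Set.mem_singleton_iff] at hs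
      rw [hs, hswap]
      exact Subgroup.inv_mem _ (hda t ht)
    · rw [Set.mem_singleton_iff] at hs ht
      rw [hs, ht]
      have e : ⁅a, a⁆ = 1 := by rw [commutatorElement_def]; group
      rw [e]; exact Subgroup.one_mem _
  have hcomm := commutator_mem_of_closure hZ _ hTM hT
  rw [← hKcl] at hcomm
  have h1 : ⁅K, K⁆ ≤ Cfsg.dStar S ⊓ A := Subgroup.commutator_le.2 hcomm
  have h2 : Cfsg.dStar S ⊓ A ≤ Subgroup.centralizer (K : Set S) := by
    intro z hz
    rw [Subgroup.mem_centralizer_iff]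
    intro m hm
    exact (hZ z hz m hm).symm
  rw [Subgroup.commutator_eq_bot_iff_le_centralizer]
  exact h1.trans h2

/-- `D*(S)` lies in every abelian subgroup of largest order. -/
theorem dStar_le_of_mem_maxAbelianSubgroups [Finite S] {p : ℕ} [Fact p.Prime] (hS : IsPGroup p S)
    (A : Subgroup S) (hA : A ∈ Cfsg.maxAbelianSubgroups S) : Cfsg.dStar S ≤ A := by
  classical
  by_contra hne
  obtain ⟨hDc, -⟩ := dStar_mem_dStarFamily hS
  haveI hDn : (Cfsg.dStar S).Normal := dStar_normal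
  obtain ⟨A₀, ⟨hA₀, hA₀D⟩, hA₀max⟩ := Set.exists_max_image
    {A : Subgroup S | A ∈ Cfsg.maxAbelianSubgroups S ∧ ¬ Cfsg.dStar S ≤ A}
    (fun A => Nat.card ↥(A ⊓ Cfsg.dStar S)) (Set.toFinite _) ⟨A, hA, hne⟩
  by_cases hN : Cfsg.dStar S ≤ Subgroup.normalizer (A₀ : Set S)
  · have hcomm := dStar_commute_of_le_normalizer hS A₀ hA₀.1 hN
    have hsup : IsMulCommutative ↥(Cfsg.dStar S ⊔ A₀) := isMulCommutative_sup hDc hA₀.1 hcomm
    have hcard := hA₀.2 _ hsup
    have heq : A₀ = Cfsg.dStar S ⊔ A₀ := Subgroup.eq_of_le_of_card_ge le_sup_right hcard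
    apply hA₀D
    rw [heq]; exact le_sup_left
  · obtain ⟨A', hA', hlt, hA'N⟩ := thompson_replacement hS A₀ hA₀ (Cfsg.dStar S) hDc hN
    by_cases hDA' : Cfsg.dStar S ≤ A'
    · exact hN (hDA'.trans hA'N)
    · have h1 := hA₀max A' ⟨hA', hDA'⟩
      have h2 : A₀ ⊓ Cfsg.dStar S = A' ⊓ Cfsg.dStar S :=
        Subgroup.eq_of_le_of_card_ge hlt.le h1
      exact hlt.ne h2

end Cfsg.Agent.helper15
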