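import Mathlib
import Cfsg.Agent.Lib_helper15_DStar2
import Cfsg.Agent.Lib_helper15_ExtClosed
import Cfsg.Agent.Lib_helper1_Core
import Cfsg.Agent.S0542

set_option autoImplicit false

namespace Cfsg.Agent.helper15

open scoped commutatorElement

section DF

variable {G : Type*} [Group G]

/-- The `D*`-family of the subgroup `T`, phrased inside the ambient group `G`. -/
def DF (T A : Subgroup G) : Prop :=
  A ≤ T ∧ (∀ a ∈ A, ∀ b ∈ A, a * b = b * a) ∧
    ∀ x ∈ T, ⁅⁅A ⊔ Subgroup.zpowers x, A ⊔ Subgroup.zpowers x⁆, A ⊔ Subgroup.zpowers x⁆ = ⊥ →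
      ∀ a ∈ A, a * x = x * a

theorem class_two_map_subtype (T : Subgroup G) (A' : Subgroup ↥T) (x : ↥T) :
    ⁅⁅A'.map T.subtype ⊔ Subgroup.zpowers (x : G), A'.map T.subtype ⊔ Subgroup.zpowers (x : G)⁆,
        A'.map T.subtype ⊔ Subgroup.zpowers (x : G)⁆ = ⊥ ↔
      ⁅⁅A' ⊔ Subgroup.zpowers x, A' ⊔ Subgroup.zpowers x⁆, A' ⊔ Subgroup.zpowers x⁆ = ⊥ := by
  have hK : A'.map T.subtype ⊔ Subgroup.zpowers (x : G) =
      (A' ⊔ Subgroup.zpowers x).map T.subtype := by
    rw [Subgroup.map_sup, MonoidHom.map_zpowers]; rfl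
  rw [hK, ← Subgroup.map_commutator, ← Subgroup.map_commutator,
    Subgroup.map_eq_bot_iff_of_injective _ T.subtype_injective]

theorem mem_dStarFamily_iff (T : Subgroup G) (A' : Subgroup ↥T) :
    A' ∈ Cfsg.dStarFamily ↥T ↔ DF T (A'.map T.subtype) := by
  constructor
  · rintro ⟨hc, h⟩
    refine ⟨Subgroup.map_subtype_le _, ?_, ?_⟩
    · rintro _ ⟨a, ha, rfl⟩ _ ⟨b, hb, rfl⟩
      have h1 := hc.is_comm.comm ⟨a, ha⟩ ⟨b, hb⟩
      have h2 := congrArg (fun z : ↥A' => ((z : ↥T) : G)) h1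
      simpa using h2
    · intro x hx hcl
      have hcl' := (class_two_map_subtype T A' ⟨x, hx⟩).1 hcl
      rintro _ ⟨a, ha, rfl⟩
      have h1 := h ⟨x, hx⟩ hcl' a ha
      have h2 := congrArg (fun z : ↥T => (z : G)) h1
      simpa using h2
  · rintro ⟨-, hc, h⟩
    refine ⟨⟨⟨fun a b => ?_⟩⟩, ?_⟩
    · have h1 := hc _ ⟨a.1, a.2, rfl⟩ _ ⟨b.1, b.2, rfl⟩
      apply Subtype.ext; apply Subtype.ext
      simpa using h1
    · intro x hcl a ha
      have hcl' := (class_two_map_subtype T A' x).2 hcl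
      have h1 := h x.1 x.2 hcl' _ ⟨a, ha, rfl⟩
      apply Subtype.ext
      simpa using h1

theorem DF.restrict {S T A : Subgroup G} (h : DF S A) (hAT : A ≤ T) (hTS : T ≤ S) : DF T A :=
  ⟨hAT, h.2.1, fun x hx => h.2.2 x (hTS hx)⟩

theorem DF.le_dStarOf {T A : Subgroup G} (h : DF T A) : A ≤ Cfsg.dStarOf T := by
  have h1 : (A.subgroupOf T).map T.subtype = A := by
    rw [Subgroup.map_subgroupOf_eq_of_le h.1]
  have h2 : A.subgroupOf T ∈ Cfsg.dStarFamily ↥T := by
    rw [mem_dStarFamily_iff, h1]; exact h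
  have h3 : A.subgroupOf T ≤ Cfsg.dStar ↥T := le_sSup h2
  rw [← h1]
  exact Subgroup.map_mono h3

theorem DF_dStarOf [Finite G] {p : ℕ} [Fact p.Prime] {T : Subgroup G} (hT : IsPGroup p ↥T) :
    DF T (Cfsg.dStarOf T) :=
  (mem_dStarFamily_iff T _).1 (dStar_mem_dStarFamily hT)

theorem DF.map {T A : Subgroup G} (h : DF T A) (φ : G ≃* G) :
    DF (T.map φ.toMonoidHom) (A.map φ.toMonoidHom) := by
  refine ⟨Subgroup.map_mono h.1, ?_, ?_⟩
  · rintro _ ⟨a, ha, rfl⟩ _ ⟨b, hb, rfl⟩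
    simp only [MulEquiv.coe_toMonoidHom]
    rw [← map_mul, ← map_mul, h.2.1 a ha b hb]
  · rintro _ ⟨y, hy, rfl⟩ hcl
    simp only [MulEquiv.coe_toMonoidHom] at hcl ⊢
    have hK : A.map φ.toMonoidHom ⊔ Subgroup.zpowers (φ y) =
        (A ⊔ Subgroup.zpowers y).map φ.toMonoidHom := by
      rw [Subgroup.map_sup, MonoidHom.map_zpowers]; rfl
    rw [hK, ← Subgroup.map_commutator, ← Subgroup.map_commutator,
      Subgroup.map_eq_bot_iff_of_injective _ φ.injective] at hcl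
    rintro _ ⟨a, ha, rfl⟩
    simp only [MulEquiv.coe_toMonoidHom]
    rw [← map_mul, ← map_mul, h.2.2 y hy hcl a ha]

theorem dStarOf_map_le [Finite G] {p : ℕ} [Fact p.Prime] {T : Subgroup G} (hT : IsPGroup p ↥T)
    (φ : G ≃* G) (hφ : T.map φ.toMonoidHom = T) :
    (Cfsg.dStarOf T).map φ.toMonoidHom ≤ Cfsg.dStarOf T := by
  have h := (DF_dStarOf hT).map φ
  rw [hφ] at h
  exact h.le_dStarOf

theorem normalizer_le_normalizer_dStarOf [Finite G] {p : ℕ} [Fact p.Prime] {T : Subgroup G}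
    (hT : IsPGroup p ↥T) :
    Subgroup.normalizer (T : Set G) ≤ Subgroup.normalizer (Cfsg.dStarOf T : Set G) := by
  intro g hg
  apply mem_normalizer_of_map_conj_le
  apply dStarOf_map_le hT (MulAut.conj g)
  ext x
  constructor
  · rintro ⟨y, hy, rfl⟩
    exact (Subgroup.mem_normalizer_iff.1 hg y).1 hy
  · intro hx
    refine ⟨g⁻¹ * x * g, ?_, by simp [mul_assoc]⟩
    have := (Subgroup.mem_normalizer_iff.1 hg (g⁻¹ * x * g)).2
    apply this
    have e : g * (g⁻¹ * x * g) * g⁻¹ = x := by group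
    rw [e]; exact hx

end DF

section Rk

open Cfsg.Agent.helper1 (pCore_isPGroup le_pCore)

variable {G : Type*} [Group G]

/-- The preimage in `G` of `O_p(G / C_G(K))`. -/
def Rk (p : ℕ) (K : Subgroup G) [K.Normal] : Subgroup G :=
  (Cfsg.pCore p (G ⧸ Subgroup.centralizer (K : Set G))).comap
    (QuotientGroup.mk' (Subgroup.centralizer (K : Set G)))

theorem mem_Rk {p : ℕ} {K : Subgroup G} [K.Normal] {x : G} :
    x ∈ Rk p K ↔ (QuotientGroup.mk x : G ⧸ Subgroup.centralizer (K : Set G)) ∈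
      Cfsg.pCore p (G ⧸ Subgroup.centralizer (K : Set G)) := Iff.rfl

theorem Rk_normal (p : ℕ) (K : Subgroup G) [K.Normal] : (Rk p K).Normal :=
  (Cfsg.pCore_normal p _).comap _

theorem centralizer_le_Rk (p : ℕ) (K : Subgroup G) [K.Normal] :
    Subgroup.centralizer (K : Set G) ≤ Rk p K := by
  intro c hc
  rw [mem_Rk]
  have : (QuotientGroup.mk c : G ⧸ Subgroup.centralizer (K : Set G)) = 1 :=
    (QuotientGroup.eq_one_iff c).2 hc
  rw [this]; exact one_mem _

theorem Rk_mono (p : ℕ) {K K' : Subgroup G} [K.Normal] [K'.Normal] (h : K' ≤ K) :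
    Rk p K ≤ Rk p K' := by
  intro x hx
  rw [mem_Rk] at hx ⊢
  have hle : Subgroup.centralizer (K : Set G) ≤
      (Subgroup.centralizer (K' : Set G)).comap (MonoidHom.id G) := by
    intro c hc
    exact Subgroup.centralizer_le (by exact_mod_cast h) hc
  set f := QuotientGroup.map (Subgroup.centralizer (K : Set G)) (Subgroup.centralizer (K' : Set G))
    (MonoidHom.id G) hle with hf
  have hsurj : Function.Surjective f := by
    intro y
    obtain ⟨g, rfl⟩ := QuotientGroup.mk_surjective y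
    exact ⟨QuotientGroup.mk g, by simp [hf]⟩
  have hN : ((Cfsg.pCore p (G ⧸ Subgroup.centralizer (K : Set G))).map f).Normal :=
    (Cfsg.pCore_normal p _).map f hsurj
  have hP : IsPGroup p ((Cfsg.pCore p (G ⧸ Subgroup.centralizer (K : Set G))).map f) :=
    (pCore_isPGroup p).map f
  have h1 := le_pCore hN hP
  have h2 : f (QuotientGroup.mk x) ∈ (Cfsg.pCore p (G ⧸ Subgroup.centralizer (K : Set G))).map f :=
    ⟨_, hx, rfl⟩
  have h3 := h1 h2
  simpa [hf] using h3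

theorem relIndex_centralizer_Rk [Finite G] (p : ℕ) [Fact p.Prime] (K : Subgroup G) [K.Normal] :
    ∃ k : ℕ, (Subgroup.centralizer (K : Set G)).relIndex (Rk p K) = p ^ k := by
  have h1 : Subgroup.centralizer (K : Set G) =
      (⊥ : Subgroup (G ⧸ Subgroup.centralizer (K : Set G))).comap
        (QuotientGroup.mk' (Subgroup.centralizer (K : Set G))) := by
    rw [MonoidHom.comap_bot, QuotientGroup.ker_mk']
  have h2 : (Rk p K).map (QuotientGroup.mk' (Subgroup.centralizer (K : Set G))) =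
      Cfsg.pCore p (G ⧸ Subgroup.centralizer (K : Set G)) :=
    Subgroup.map_comap_eq_self_of_surjective (QuotientGroup.mk'_surjective _) _
  obtain ⟨k, hk⟩ := (IsPGroup.iff_card (p := p)).1
    (pCore_isPGroup (G := G ⧸ Subgroup.centralizer (K : Set G)) p)
  refine ⟨k, ?_⟩
  conv_lhs => rw [h1]
  rw [Subgroup.relIndex_comap, h2, Subgroup.relIndex_bot_left, hk]

/-- If `C_G(K)` is a `p`-group, then so is the preimage of `O_p(G / C_G(K))`. -/
theorem Rk_isPGroup [Finite G] (p : ℕ) [Fact p.Prime] (K : Subgroup G) [K.Normal]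
    (hC : IsPGroup p ↥(Subgroup.centralizer (K : Set G))) : IsPGroup p ↥(Rk p K) := by
  rintro ⟨x, hx⟩
  rw [mem_Rk] at hx
  obtain ⟨k, hk⟩ := (pCore_isPGroup (G := G ⧸ Subgroup.centralizer (K : Set G)) p) ⟨_, hx⟩
  have hk' : (QuotientGroup.mk x : G ⧸ Subgroup.centralizer (K : Set G)) ^ (p ^ k) = 1 := by
    have := congrArg Subtype.val hk
    simpa using this
  rw [← QuotientGroup.mk_pow, QuotientGroup.eq_one_iff] at hk'
  obtain ⟨j, hj⟩ := hC ⟨_, hk'⟩
  have hj' : (x ^ p ^ k) ^ p ^ j = 1 := by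
    have := congrArg Subtype.val hj
    simpa using this
  refine ⟨k + j, ?_⟩
  apply Subtype.ext
  simp only [Subgroup.coe_pow, Subgroup.coe_one]
  rw [pow_add, pow_mul]; exact hj'

theorem pCore_le_Rk (p : ℕ) (K : Subgroup G) [K.Normal] : Cfsg.pCore p G ≤ Rk p K := by
  intro x hx
  rw [mem_Rk]
  have hN : ((Cfsg.pCore p G).map
      (QuotientGroup.mk' (Subgroup.centralizer (K : Set G)))).Normal :=
    (Cfsg.pCore_normal p _).map _ (QuotientGroup.mk'_surjective _)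
  have hP : IsPGroup p ↥((Cfsg.pCore p G).map
      (QuotientGroup.mk' (Subgroup.centralizer (K : Set G)))) := (pCore_isPGroup p).map _
  exact le_pCore hN hP ⟨x, hx, rfl⟩

end Rk

section Main

open Cfsg.Agent.helper1 (pCore_isPGroup le_pCore pCore_le_sylow)

variable {G : Type*} [Group G] [Finite G] {p : ℕ} [Fact p.Prime]

/-- Abelian subgroups of `S` normalized by `S` lie in `O_p(G)` (for `p`-stable `G` with
`C_G(O_p(G)) ≤ O_p(G)`). -/
theorem le_pCore_of_abelian_normal_in_sylow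
    (hc : Subgroup.centralizer (Cfsg.pCore p G : Set G) ≤ Cfsg.pCore p G)
    (hst : Cfsg.IsPStableOn p (Cfsg.pCore p G))
    (S : Sylow p G) (B : Subgroup G) (hB : ∀ a ∈ B, ∀ b ∈ B, a * b = b * a)
    (hN : (S : Subgroup G) ≤ Subgroup.normalizer (B : Set G)) : B ≤ Cfsg.pCore p G := by
  intro a ha
  have hQS : Cfsg.pCore p G ≤ S := pCore_le_sylow S
  have h1 : ⁅Cfsg.pCore p G, Subgroup.zpowers a⁆ ≤ B := by
    rw [Subgroup.commutator_le]
    intro q hq z hz
    have hzB : z ∈ B := (Subgroup.zpowers_le.2 ha) hz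
    have := (Subgroup.mem_normalizer_iff.1 (hN (hQS hq)) z).1 hzB
    rw [commutatorElement_def]
    exact B.mul_mem this (B.inv_mem hzB)
  have h2 : ⁅⁅Cfsg.pCore p G, Subgroup.zpowers a⁆, Subgroup.zpowers a⁆ = ⊥ := by
    rw [eq_bot_iff]
    calc ⁅⁅Cfsg.pCore p G, Subgroup.zpowers a⁆, Subgroup.zpowers a⁆
        ≤ ⁅B, B⁆ := Subgroup.commutator_mono h1 (Subgroup.zpowers_le.2 ha)
      _ = ⊥ := by
        rw [Subgroup.commutator_eq_bot_iff_le_centralizer]
        intro b hb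
        rw [Subgroup.mem_centralizer_iff]
        intro c hc'
        exact hB c hc' b hb
  have h4 : a ∈ Rk p (Cfsg.pCore p G) := hst a h2
  have hRp : IsPGroup p ↥(Rk p (Cfsg.pCore p G)) :=
    Rk_isPGroup p _ ((pCore_isPGroup p).to_le hc)
  exact le_pCore (Rk_normal p _) hRp h4

theorem sylow_le_normalizer_inf_normal (S : Sylow p G) (R : Subgroup G) [hR : R.Normal] :
    (S : Subgroup G) ≤ Subgroup.normalizer (((S : Subgroup G) ⊓ R : Subgroup G) : Set G) := by
  intro s hs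
  apply mem_normalizer_of_map_conj_le
  rintro _ ⟨x, ⟨hx1, hx2⟩, rfl⟩
  simp only [MulEquiv.coe_toMonoidHom, MulAut.conj_apply]
  exact ⟨(S : Subgroup G).mul_mem ((S : Subgroup G).mul_mem hs hx1) ((S : Subgroup G).inv_mem hs),
    hR.conj_mem x hx2 s⟩

/-- The `D*`-theorem. -/
theorem dStarOf_sylow_normal
    (hc : Subgroup.centralizer (Cfsg.pCore p G : Set G) ≤ Cfsg.pCore p G)
    (hst : ∀ (P : Subgroup G) [P.Normal], IsPGroup p P → Cfsg.IsPStableOn p P) (S : Sylow p G) :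
    (Cfsg.dStarOf (S : Subgroup G)).Normal := by
  have hQS : Cfsg.pCore p G ≤ S := pCore_le_sylow S
  have hQp : IsPGroup p ↥(Cfsg.pCore p G) := pCore_isPGroup p
  have hstQ : Cfsg.IsPStableOn p (Cfsg.pCore p G) := hst _ hQp
  let Φ : Set (Subgroup G) := {T | Cfsg.pCore p G ≤ T ∧ T ≤ S ∧ Cfsg.dStarOf T ≤ Cfsg.pCore p G ∧
    ∃ _ : (Cfsg.dStarOf T).Normal, T ≤ Rk p (Cfsg.dStarOf T)}
  have hΦQ : Cfsg.pCore p G ∈ Φ := by
    have hn : (Cfsg.dStarOf (Cfsg.pCore p G)).Normal := by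
      rw [← Subgroup.normalizer_eq_top_iff, eq_top_iff]
      refine le_trans ?_ (normalizer_le_normalizer_dStarOf hQp)
      rw [Subgroup.normalizer_eq_top]
    refine ⟨le_rfl, hQS, Subgroup.map_subtype_le _, hn, ?_⟩
    exact pCore_le_Rk p _
  obtain ⟨T, ⟨hQT, hTS, hKQ, hKn, hTR⟩, hmax⟩ := (Set.toFinite Φ).exists_maximal ⟨_, hΦQ⟩
  haveI := hKn
  have hTp : IsPGroup p ↥T := S.isPGroup'.to_le hTS
  have hRn : (Rk p (Cfsg.dStarOf T)).Normal := Rk_normal p _
  have hT'p : IsPGroup p ↥((S : Subgroup G) ⊓ Rk p (Cfsg.dStarOf T)) :=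
    S.isPGroup'.to_le inf_le_left
  have hTT' : T ≤ (S : Subgroup G) ⊓ Rk p (Cfsg.dStarOf T) := le_inf hTS hTR
  have hSN' : (S : Subgroup G) ≤ Subgroup.normalizer
      ((Cfsg.dStarOf ((S : Subgroup G) ⊓ Rk p (Cfsg.dStarOf T)) : Subgroup G) : Set G) :=
    (sylow_le_normalizer_inf_normal S _).trans (normalizer_le_normalizer_dStarOf hT'p)
  have hDF' := DF_dStarOf hT'p
  have hK'Q : Cfsg.dStarOf ((S : Subgroup G) ⊓ Rk p (Cfsg.dStarOf T)) ≤ Cfsg.pCore p G :=
    le_pCore_of_abelian_normal_in_sylow hc hstQ S _ hDF'.2.1 hSN'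
  have hK'K : Cfsg.dStarOf ((S : Subgroup G) ⊓ Rk p (Cfsg.dStarOf T)) ≤ Cfsg.dStarOf T :=
    (hDF'.restrict (hK'Q.trans hQT) hTT').le_dStarOf
  -- Frattini argument
  have hK'n : (Cfsg.dStarOf ((S : Subgroup G) ⊓ Rk p (Cfsg.dStarOf T))).Normal := by
    rw [← Subgroup.normalizer_eq_top_iff, eq_top_iff]
    obtain ⟨P, hP⟩ := Cfsg.Agent.S0542.result p (Rk p (Cfsg.dStarOf T)) hRn.isSubnormal S
    have hfr := Sylow.normalizer_sup_eq_top P
    rw [hP, Subgroup.subgroupOf_map_subtype] at hfr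
    rw [← hfr]
    have hCle : Subgroup.centralizer ((Cfsg.dStarOf T : Subgroup G) : Set G) ≤ Subgroup.normalizer
        ((Cfsg.dStarOf ((S : Subgroup G) ⊓ Rk p (Cfsg.dStarOf T)) : Subgroup G) : Set G) := by
      intro c hc'
      apply mem_normalizer_of_map_conj_le
      rintro _ ⟨k, hk, rfl⟩
      simp only [MulEquiv.coe_toMonoidHom, MulAut.conj_apply]
      have := Subgroup.mem_centralizer_iff.1 hc' k (hK'K hk)
      have e : c * k * c⁻¹ = k := by rw [← this]; group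
      rw [e]; exact hk
    have hRle : Rk p (Cfsg.dStarOf T) ≤ Subgroup.centralizer ((Cfsg.dStarOf T : Subgroup G) : Set G) ⊔
        ((S : Subgroup G) ⊓ Rk p (Cfsg.dStarOf T)) := by
      rw [← Subgroup.relIndex_eq_one]
      have h1 := Subgroup.relIndex_dvd_of_le_left (Rk p (Cfsg.dStarOf T))
        (le_sup_left : Subgroup.centralizer ((Cfsg.dStarOf T : Subgroup G) : Set G) ≤
          Subgroup.centralizer ((Cfsg.dStarOf T : Subgroup G) : Set G) ⊔
          ((S : Subgroup G) ⊓ Rk p (Cfsg.dStarOf T)))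
      have h2 := Subgroup.relIndex_dvd_of_le_left (Rk p (Cfsg.dStarOf T))
        (le_sup_right : ((S : Subgroup G) ⊓ Rk p (Cfsg.dStarOf T)) ≤
          Subgroup.centralizer ((Cfsg.dStarOf T : Subgroup G) : Set G) ⊔
          ((S : Subgroup G) ⊓ Rk p (Cfsg.dStarOf T)))
      obtain ⟨k, hk⟩ := relIndex_centralizer_Rk p (Cfsg.dStarOf T)
      rw [hk] at h1
      obtain ⟨j, -, hj⟩ := (Nat.dvd_prime_pow (Fact.out : p.Prime)).1 h1
      rw [hj] at h2 ⊢
      rcases Nat.eq_zero_or_pos j with rfl | hjpos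
      · rw [pow_zero]
      · exfalso
        have h3 : p ∣ ((S : Subgroup G) ⊓ Rk p (Cfsg.dStarOf T)).relIndex (Rk p (Cfsg.dStarOf T)) :=
          (dvd_pow_self p hjpos.ne').trans h2
        rw [Subgroup.inf_relIndex_right] at h3
        have h4 : ((S : Subgroup G)).relIndex (Rk p (Cfsg.dStarOf T)) =
            (P : Subgroup ↥(Rk p (Cfsg.dStarOf T))).index := by
          rw [hP]; rfl
        rw [h4] at h3
        exact P.not_dvd_index h3
    apply sup_le
    · exact normalizer_le_normalizer_dStarOf hT'p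
    · refine hRle.trans (sup_le hCle ?_)
      exact Subgroup.le_normalizer.trans (normalizer_le_normalizer_dStarOf hT'p)
  have hΦT' : ((S : Subgroup G) ⊓ Rk p (Cfsg.dStarOf T)) ∈ Φ := by
    refine ⟨hQT.trans hTT', inf_le_left, hK'Q, hK'n, ?_⟩
    haveI := hK'n
    exact inf_le_right.trans (Rk_mono p hK'K)
  have hT'T : (S : Subgroup G) ⊓ Rk p (Cfsg.dStarOf T) ≤ T := hmax hΦT' hTT'
  -- conclusion
  have hDFT := DF_dStarOf hTp
  have hKp : IsPGroup p ↥(Cfsg.dStarOf T) := hTp.to_le hDFT.1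
  have hDFS : DF (S : Subgroup G) (Cfsg.dStarOf T) := by
    refine ⟨hDFT.1.trans hTS, hDFT.2.1, ?_⟩
    intro x hx hcl
    have hquad : ⁅⁅Cfsg.dStarOf T, Subgroup.zpowers x⁆, Subgroup.zpowers x⁆ = ⊥ := by
      rw [eq_bot_iff, ← hcl]
      exact Subgroup.commutator_mono (Subgroup.commutator_mono le_sup_left le_sup_right)
        le_sup_right
    have hxR : x ∈ Rk p (Cfsg.dStarOf T) := hst _ hKp x hquad
    exact hDFT.2.2 x (hT'T ⟨hx, hxR⟩) hcl
  have hDFD := DF_dStarOf S.isPGroup'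
  have hDQ : Cfsg.dStarOf (S : Subgroup G) ≤ Cfsg.pCore p G :=
    le_pCore_of_abelian_normal_in_sylow hc hstQ S _ hDFD.2.1
      (Subgroup.le_normalizer.trans (normalizer_le_normalizer_dStarOf S.isPGroup'))
  have hDK : Cfsg.dStarOf (S : Subgroup G) ≤ Cfsg.dStarOf T :=
    (hDFD.restrict (hDQ.trans hQT) hTS).le_dStarOf
  have heq : Cfsg.dStarOf (S : Subgroup G) = Cfsg.dStarOf T := le_antisymm hDK hDFS.le_dStarOf
  rw [heq]; exact hKn

end Main

end Cfsg.Agent.helper15
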