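import Mathlib
import Cfsg.Agent.Lib_lead_Coprime3
import Cfsg.Agent.Lib_helper15_ExtClosed

set_option autoImplicit false

namespace Cfsg.Agent.helper15

open scoped commutatorElement

universe u

variable {G : Type u} [Group G]

/-- In a nilpotent subgroup `H`, a subgroup `W ≤ H` with `[W, H] = W` is trivial. -/
theorem eq_bot_of_commutator_eq_self (W H : Subgroup G) [hH : Group.IsNilpotent ↥H]
    (hWH : W ≤ H) (h : ⁅W, H⁆ = W) : W = ⊥ := by
  obtain ⟨n, hn⟩ := (Subgroup.isNilpotent_iff_lowerCentralSeries H).1 hH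
  have key : ∀ k : ℕ, W ≤ H.lowerCentralSeries k := by
    intro k
    induction k with
    | zero => simpa using hWH
    | succ k ih =>
      rw [Subgroup.lowerCentralSeries_succ]
      calc W = ⁅W, H⁆ := h.symm
        _ ≤ ⁅H.lowerCentralSeries k, H⁆ := Subgroup.commutator_mono ih le_rfl
  rw [eq_bot_iff, ← hn]
  exact key n

/-- If `b` normalizes `P` and `A` then it normalizes `P ⊔ A`. -/
theorem mem_normalizer_sup [Finite G] {P A : Subgroup G} {b : G}
    (hP : b ∈ Subgroup.normalizer (P : Set G)) (hA : b ∈ Subgroup.normalizer (A : Set G)) :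
    b ∈ Subgroup.normalizer ((P ⊔ A : Subgroup G) : Set G) := by
  apply mem_normalizer_of_map_conj_le
  rw [Subgroup.map_sup]
  apply sup_le_sup
  · rintro _ ⟨x, hx, rfl⟩
    simp only [MulEquiv.coe_toMonoidHom, MulAut.conj_apply]
    exact (Subgroup.mem_normalizer_iff.1 hP x).1 hx
  · rintro _ ⟨x, hx, rfl⟩
    simp only [MulEquiv.coe_toMonoidHom, MulAut.conj_apply]
    exact (Subgroup.mem_normalizer_iff.1 hA x).1 hx

/-- Conjugation-invariance of a commutator subgroup. -/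
theorem conj_mem_commutator_of_mem_normalizer {W H : Subgroup G} {b : G}
    (hW : b ∈ Subgroup.normalizer (W : Set G)) (hH : b ∈ Subgroup.normalizer (H : Set G))
    {x : G} (hx : x ∈ ⁅W, H⁆) : b * x * b⁻¹ ∈ ⁅W, H⁆ := by
  have hle : ⁅W, H⁆ ≤ (⁅W, H⁆ : Subgroup G).comap (MulAut.conj b).toMonoidHom := by
    rw [Subgroup.commutator_le]
    intro w hw h hh
    rw [Subgroup.mem_comap]
    simp only [MulEquiv.coe_toMonoidHom, MulAut.conj_apply]
    have e : b * ⁅w, h⁆ * b⁻¹ = ⁅b * w * b⁻¹, b * h * b⁻¹⁆ := by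
      simp only [commutatorElement_def]; group
    rw [e]
    exact Subgroup.commutator_mem_commutator ((Subgroup.mem_normalizer_iff.1 hW w).1 hw)
      ((Subgroup.mem_normalizer_iff.1 hH h).1 hh)
  have := hle hx
  rw [Subgroup.mem_comap] at this
  simpa using this

/-- Dual of Thompson's `P × Q` lemma. -/
theorem dual_PxQ [Finite G] {p : ℕ} [Fact p.Prime] (P A B : Subgroup G)
    (hP : IsPGroup p ↥P) (hA : IsPGroup p ↥A) (hB : ¬ p ∣ Nat.card ↥B)
    (hnA : A ≤ Subgroup.normalizer (P : Set G)) (hnB : B ≤ Subgroup.normalizer (P : Set G))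
    (hAB : ⁅A, B⁆ = ⊥) (hcomm : ⁅P, B⁆ ≤ ⁅P, A⁆) : ⁅P, B⁆ = ⊥ := by
  have hp : p.Prime := Fact.out
  by_contra hW
  set W : Subgroup G := ⁅P, B⁆ with hWdef
  have hWP : W ≤ P := Cfsg.Agent.helper7.commutator_le_of_normalizer hnB
  -- coprimality
  have hcop : (Nat.card ↥B).Coprime (Nat.card ↥P) := by
    obtain ⟨k, hk⟩ := IsPGroup.iff_card.1 hP
    rw [hk]
    exact Nat.Coprime.pow_right k ((Nat.Prime.coprime_iff_not_dvd hp).2 hB).symm
  haveI : Group.IsNilpotent ↥P := hP.isNilpotent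
  have hsolv : Group.IsSolvable ↥B ∨ Group.IsSolvable ↥P := Or.inr inferInstance
  have hWW : ⁅W, B⁆ = W := Cfsg.Agent.lead.coprime_commutator_commutator B P hnB hcop hsolv
  -- `A` and `B` commute elementwise
  have hABc : ∀ a ∈ A, ∀ b ∈ B, a * b = b * a := by
    intro a ha b hb
    have := (Subgroup.commutator_eq_bot_iff_le_centralizer.1 hAB) ha
    exact (Subgroup.mem_centralizer_iff.1 this b hb).symm
  -- normalizers of `W`
  have hPW : P ≤ Subgroup.normalizer (W : Set G) :=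
    Cfsg.Agent.lead.le_normalizer_commutator_left P B
  have hBW : B ≤ Subgroup.normalizer (W : Set G) := by
    rw [hWdef, Subgroup.commutator_comm]
    exact Cfsg.Agent.lead.le_normalizer_commutator_left B P
  have hBA : B ≤ Subgroup.normalizer (A : Set G) := by
    intro b hb
    apply mem_normalizer_of_map_conj_le
    rintro _ ⟨a, ha, rfl⟩
    simp only [MulEquiv.coe_toMonoidHom, MulAut.conj_apply]
    rw [← hABc a ha b hb, mul_inv_cancel_right]
    exact ha
  have hAB' : A ≤ Subgroup.normalizer (B : Set G) := by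
    intro a ha
    apply mem_normalizer_of_map_conj_le
    rintro _ ⟨b, hb, rfl⟩
    simp only [MulEquiv.coe_toMonoidHom, MulAut.conj_apply]
    rw [hABc a ha b hb, mul_inv_cancel_right]
    exact hb
  have hAW : A ≤ Subgroup.normalizer (W : Set G) := by
    intro a ha
    apply mem_normalizer_of_map_conj_le
    rintro _ ⟨x, hx, rfl⟩
    simp only [MulEquiv.coe_toMonoidHom, MulAut.conj_apply]
    exact conj_mem_commutator_of_mem_normalizer (hnA ha) (hAB' ha) hx
  -- the `p`-group `H = P A`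
  set H : Subgroup G := P ⊔ A with hHdef
  have hHp : IsPGroup p ↥H := IsPGroup.to_sup_of_normal_left' hP hA hnA
  haveI : Group.IsNilpotent ↥H := hHp.isNilpotent
  have hHW : H ≤ Subgroup.normalizer (W : Set G) := sup_le hPW hAW
  have hWH : W ≤ H := hWP.trans le_sup_left
  set N : Subgroup G := ⁅W, H⁆ with hNdef
  have hNW : N ≤ W := Cfsg.Agent.helper7.commutator_le_of_normalizer hHW
  have hNne : N ≠ W := fun h => hW (eq_bot_of_commutator_eq_self W H hWH h)
  have hHN : H ≤ Subgroup.normalizer (N : Set G) := by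
    rw [hNdef, Subgroup.commutator_comm]
    exact Cfsg.Agent.lead.le_normalizer_commutator_left H W
  have hBH : B ≤ Subgroup.normalizer (H : Set G) := fun b hb =>
    mem_normalizer_sup (hnB hb) (hBA hb)
  have hBN : ∀ b ∈ B, ∀ n ∈ N, b * n * b⁻¹ ∈ N := fun b hb n hn =>
    conj_mem_commutator_of_mem_normalizer (hBW hb) (hBH hb) hn
  have hPN : ∀ x ∈ P, ∀ n ∈ N, x * n * x⁻¹ ∈ N := fun x hx n hn =>
    (Subgroup.mem_normalizer_iff.1 (hHN (Subgroup.mem_sup_left hx)) n).1 hn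
  -- the subgroup of elements of `P` centralizing `B` modulo `N`
  let Y : Subgroup G :=
    { carrier := {y | y ∈ P ∧ ∀ b ∈ B, ⁅y, b⁆ ∈ N}
      one_mem' := ⟨P.one_mem, fun b _ => by simp [commutatorElement_def, N.one_mem]⟩
      mul_mem' := fun {x y} hx hy => ⟨P.mul_mem hx.1 hy.1, fun b hb => by
        have e : ⁅x * y, b⁆ = (x * ⁅y, b⁆ * x⁻¹) * ⁅x, b⁆ := by
          simp only [commutatorElement_def]; group
        rw [e]
        exact N.mul_mem (hPN x hx.1 _ (hy.2 b hb)) (hx.2 b hb)⟩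
      inv_mem' := fun {x} hx => ⟨P.inv_mem hx.1, fun b hb => by
        have e : ⁅x⁻¹, b⁆ = x⁻¹ * (⁅x, b⁆)⁻¹ * x⁻¹⁻¹ := by
          simp only [commutatorElement_def]; group
        rw [e]
        exact hPN x⁻¹ (P.inv_mem hx.1) _ (N.inv_mem (hx.2 b hb))⟩ }
  have hYmem : ∀ y, y ∈ Y ↔ y ∈ P ∧ ∀ b ∈ B, ⁅y, b⁆ ∈ N := fun y => Iff.rfl
  have hNY : N ≤ Y := by
    intro n hn
    refine ⟨hWP (hNW hn), fun b hb => ?_⟩
    have e : ⁅n, b⁆ = n * (b * n⁻¹ * b⁻¹) := by simp only [commutatorElement_def]; group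
    rw [e]
    exact N.mul_mem hn (hBN b hb _ (N.inv_mem hn))
  have hCY : P ⊓ Subgroup.centralizer (B : Set G) ≤ Y := by
    intro c hc
    refine ⟨hc.1, fun b hb => ?_⟩
    have := Subgroup.mem_centralizer_iff.1 hc.2 b hb
    have e : ⁅c, b⁆ = 1 := by
      rw [commutatorElement_def, ← this]; group
    rw [e]; exact N.one_mem
  -- `[P, A] ≤ Y`
  have hPAY : ⁅P, A⁆ ≤ Y := by
    rw [Subgroup.commutator_le]
    intro x hx a ha
    obtain ⟨s, hs, c, hc, rfl⟩ := Cfsg.Agent.lead.coprime_decomp B P hnB hcop hsolv x hx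
    -- `[c, a] ∈ C`
    have hca : ⁅c, a⁆ ∈ P ⊓ Subgroup.centralizer (B : Set G) := by
      have h1 : a * c⁻¹ * a⁻¹ ∈ P ⊓ Subgroup.centralizer (B : Set G) := by
        refine Subgroup.mem_inf.2 ⟨(Subgroup.mem_normalizer_iff.1 (hnA ha) c⁻¹).1 (P.inv_mem hc.1), ?_⟩
        rw [Subgroup.mem_centralizer_iff]
        intro b hb
        have h2 := Subgroup.mem_centralizer_iff.1 hc.2 b hb
        have h3 := hABc a ha b hb
        have h4 : b * c⁻¹ = c⁻¹ * b := by
          calc b * c⁻¹ = c⁻¹ * (c * b) * c⁻¹ := by group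
            _ = c⁻¹ * (b * c) * c⁻¹ := by rw [h2]
            _ = c⁻¹ * b := by group
        have h5 : b * a⁻¹ = a⁻¹ * b := by
          calc b * a⁻¹ = a⁻¹ * (a * b) * a⁻¹ := by group
            _ = a⁻¹ * (b * a) * a⁻¹ := by rw [h3]
            _ = a⁻¹ * b := by group
        calc b * (a * c⁻¹ * a⁻¹) = (b * a) * c⁻¹ * a⁻¹ := by group
          _ = (a * b) * c⁻¹ * a⁻¹ := by rw [h3]
          _ = a * (b * c⁻¹) * a⁻¹ := by group
          _ = a * (c⁻¹ * b) * a⁻¹ := by rw [h4]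
          _ = a * c⁻¹ * (b * a⁻¹) := by group
          _ = a * c⁻¹ * (a⁻¹ * b) := by rw [h5]
          _ = a * c⁻¹ * a⁻¹ * b := by group
      have e : ⁅c, a⁆ = c * (a * c⁻¹ * a⁻¹) := by simp only [commutatorElement_def]; group
      rw [e]
      exact Subgroup.mul_mem _ hc h1
    have hsa : ⁅s, a⁆ ∈ N :=
      Subgroup.commutator_mem_commutator hs (Subgroup.mem_sup_right ha)
    have hsc : ⁅s, ⁅c, a⁆⁆ ∈ N :=
      Subgroup.commutator_mem_commutator hs (Subgroup.mem_sup_left hca.1)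
    have e : ⁅s * c, a⁆ = (⁅s, ⁅c, a⁆⁆ * ⁅c, a⁆) * ⁅s, a⁆ := by
      simp only [commutatorElement_def]; group
    rw [e]
    exact Y.mul_mem (Y.mul_mem (hNY hsc) (hCY hca)) (hNY hsa)
  -- conclusion
  have hWN : W ≤ N := by
    rw [← hWW, Subgroup.commutator_le]
    intro w hw b hb
    exact ((hYmem w).1 (hPAY (hcomm hw))).2 b hb
  exact hNne (le_antisymm hNW hWN)

end Cfsg.Agent.helper15
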