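import Mathlib
import Cfsg.Statements.S0120
import Cfsg.Agent.Lib_helper1_PGroup

set_option autoImplicit false
open Cfsg

namespace Cfsg.Agent.S0120

open scoped commutatorElement
open Cfsg.Agent.helper1

universe u

section Class2

variable {G : Type*} [Group G]

theorem pow_mul_comm_class2 (x d c : G) (h : d * x = x * d * c) (hcd : Commute c d) (n : ℕ) :
    d ^ n * x = x * d ^ n * c ^ n := by
  induction n with
  | zero => simp
  | succ n ih =>
    have h1 : Commute (c ^ n) d := hcd.pow_left n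
    calc d ^ (n + 1) * x = d ^ n * (d * x) := by rw [pow_succ, mul_assoc]
      _ = d ^ n * x * d * c := by rw [h]; simp only [mul_assoc]
      _ = x * d ^ n * (c ^ n * d) * c := by rw [ih]; simp only [mul_assoc]
      _ = x * d ^ n * (d * c ^ n) * c := by rw [h1.eq]
      _ = x * d ^ (n + 1) * c ^ (n + 1) := by rw [pow_succ, pow_succ]; simp only [mul_assoc]

theorem mul_pow_comm_class2 (x d c : G) (h : d * x = x * d * c) (hcx : Commute c x) (n : ℕ) :
    d * x ^ n = x ^ n * d * c ^ n := by
  induction n with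
  | zero => simp
  | succ n ih =>
    have h1 : Commute (c ^ n) x := hcx.pow_left n
    calc d * x ^ (n + 1) = d * x ^ n * x := by rw [pow_succ, mul_assoc]
      _ = x ^ n * d * (c ^ n * x) := by rw [ih]; simp only [mul_assoc]
      _ = x ^ n * d * (x * c ^ n) := by rw [h1.eq]
      _ = x ^ n * (d * x) * c ^ n := by simp only [mul_assoc]
      _ = x ^ n * (x * d * c) * c ^ n := by rw [h]
      _ = x ^ n * x * d * (c * c ^ n) := by simp only [mul_assoc]
      _ = x ^ (n + 1) * d * c ^ (n + 1) := by rw [← pow_succ, ← pow_succ']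

theorem mul_pow_class2 (x d c : G) (h : d * x = x * d * c) (hcx : Commute c x)
    (hcd : Commute c d) (n : ℕ) :
    (x * d) ^ n = x ^ n * d ^ n * c ^ (∑ i ∈ Finset.range n, i) := by
  induction n with
  | zero => simp
  | succ n ih =>
    obtain ⟨t, ht⟩ : ∃ t, t = ∑ i ∈ Finset.range n, i := ⟨_, rfl⟩
    rw [Finset.sum_range_succ, ← ht]
    rw [← ht] at ih
    have h1 : Commute (c ^ t) x := hcx.pow_left t
    have h2 : Commute (c ^ t) d := hcd.pow_left t
    have h3 := pow_mul_comm_class2 x d c h hcd n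
    have h4 : Commute (c ^ n) d := hcd.pow_left n
    calc (x * d) ^ (n + 1) = (x * d) ^ n * (x * d) := pow_succ _ _
      _ = x ^ n * d ^ n * (c ^ t * x) * d := by rw [ih]; simp only [mul_assoc]
      _ = x ^ n * d ^ n * (x * c ^ t) * d := by rw [h1.eq]
      _ = x ^ n * (d ^ n * x) * (c ^ t * d) := by simp only [mul_assoc]
      _ = x ^ n * (x * d ^ n * c ^ n) * (d * c ^ t) := by rw [h3, h2.eq]
      _ = x ^ n * x * d ^ n * (c ^ n * d) * c ^ t := by simp only [mul_assoc]
      _ = x ^ n * x * d ^ n * (d * c ^ n) * c ^ t := by rw [h4.eq]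
      _ = x ^ (n + 1) * d ^ (n + 1) * (c ^ n * c ^ t) := by
          rw [pow_succ, pow_succ]; simp only [mul_assoc]
      _ = x ^ (n + 1) * d ^ (n + 1) * c ^ (t + n) := by rw [← pow_add, add_comm n t]

end Class2

section Aut

variable {G : Type u} [Group G]

/-- restriction of an automorphism to an invariant subgroup -/
def resAut (a : MulAut G) (H : Subgroup G) (h1 : ∀ x ∈ H, a x ∈ H)
    (h2 : ∀ x ∈ H, a.symm x ∈ H) : MulAut ↥H where
  toFun x := ⟨a x, h1 x x.2⟩
  invFun x := ⟨a.symm x, h2 x x.2⟩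
  left_inv x := by apply Subtype.ext; simp
  right_inv x := by apply Subtype.ext; simp
  map_mul' x y := by apply Subtype.ext; simp

theorem resAut_pow (a : MulAut G) (H : Subgroup G) (h1 : ∀ x ∈ H, a x ∈ H)
    (h2 : ∀ x ∈ H, a.symm x ∈ H) (j : ℕ) (x : ↥H) :
    (((resAut a H h1 h2) ^ j) x : G) = (a ^ j) (x : G) := by
  induction j generalizing x with
  | zero => simp
  | succ j ih =>
    rw [pow_succ, MulAut.mul_apply, ih, pow_succ, MulAut.mul_apply]
    rfl

theorem pow_mem_of_invariant (a : MulAut G) (H : Subgroup G) (h1 : ∀ x ∈ H, a x ∈ H) (j : ℕ) :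
    ∀ x ∈ H, (a ^ j) x ∈ H := by
  induction j with
  | zero => intro x hx; simpa using hx
  | succ j ih =>
    intro x hx
    rw [pow_succ, MulAut.mul_apply]
    exact ih _ (h1 x hx)

theorem symm_mem_of_invariant (a : MulAut G) (k : ℕ) (hk : k ≠ 0) (hak : a ^ k = 1)
    (H : Subgroup G) (h1 : ∀ x ∈ H, a x ∈ H) : ∀ x ∈ H, a.symm x ∈ H := by
  intro x hx
  obtain ⟨j, rfl⟩ : ∃ j, k = j + 1 := Nat.exists_eq_succ_of_ne_zero hk
  have h2 : a.symm x = (a ^ j) x := by
    rw [MulEquiv.symm_apply_eq, ← MulAut.mul_apply, ← pow_succ', hak]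
    rfl
  rw [h2]
  exact pow_mem_of_invariant a H h1 j x hx

/-- if `a x = x * d` and `a d = d` then `a ^ j x = x * d ^ j` -/
theorem pow_apply_of_fixed (a : MulAut G) (x d : G) (hx : a x = x * d) (hd : a d = d) (j : ℕ) :
    (a ^ j) x = x * d ^ j := by
  induction j with
  | zero => simp
  | succ j ih =>
    rw [pow_succ', MulAut.mul_apply, ih, map_mul, map_pow, hx, hd, pow_succ, mul_assoc]
    congr 1
    rw [← pow_succ, ← pow_succ']

theorem eq_one_of_pow_coprime [Finite G] {p : ℕ} [hp : Fact p.Prime] (hG : IsPGroup p G)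
    (k : ℕ) (hk : Nat.Coprime k p) (d : G) (hd : d ^ k = 1) : d = 1 := by
  obtain ⟨m, hm⟩ := hG d
  have h1 : orderOf d ∣ k := orderOf_dvd_of_pow_eq_one hd
  have h2 : orderOf d ∣ p ^ m := orderOf_dvd_of_pow_eq_one hm
  have h3 : Nat.Coprime k (p ^ m) := Nat.Coprime.pow_right m hk
  have h4 : orderOf d = 1 := Nat.eq_one_of_dvd_coprimes h3 h1 h2
  exact orderOf_eq_one_iff.mp h4

/-- if `x⁻¹ * a x` is fixed by `a` then `x` is fixed -/
theorem fixed_of_comm_fixed [Finite G] {p : ℕ} [hp : Fact p.Prime] (hG : IsPGroup p G)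
    (a : MulAut G) (k : ℕ) (hk : Nat.Coprime k p) (hak : a ^ k = 1) (x : G)
    (hd : a (x⁻¹ * a x) = x⁻¹ * a x) : a x = x := by
  have hx : a x = x * (x⁻¹ * a x) := by group
  have h1 := pow_apply_of_fixed a x (x⁻¹ * a x) hx hd k
  rw [hak] at h1
  have h2 : (x⁻¹ * a x) ^ k = 1 := by
    have : x * 1 = x * (x⁻¹ * a x) ^ k := by rw [mul_one]; exact h1
    exact (mul_left_cancel this).symm
  have h3 := eq_one_of_pow_coprime hG k hk _ h2
  rw [hx, h3, mul_one]

end Aut

theorem main (p : ℕ) [hp : Fact p.Prime] (hp2 : p ≠ 2) : ∀ (n : ℕ) (G : Type u) [Group G]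
    [Finite G], Nat.card G = n → IsPGroup p G → ∀ (a : MulAut G) (k : ℕ), Nat.Coprime k p →
    a ^ k = 1 → (∀ x : G, x ^ p = 1 → a x = x) → ∀ x : G, a x = x := by
  intro n
  induction n using Nat.strong_induction_on with
  | _ n ih =>
  intro G _ _ hn hG a k hk hak hfix
  have hk0 : k ≠ 0 := by
    rintro rfl
    rw [Nat.coprime_zero_left] at hk
    exact hp.out.one_lt.ne' hk
  -- invariant proper subgroups are fixed pointwise
  have hA : ∀ H : Subgroup G, H ≠ ⊤ → (∀ x ∈ H, a x ∈ H) → ∀ x ∈ H, a x = x := by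
    intro H hH h1 x hx
    have h2 := symm_mem_of_invariant a k hk0 hak H h1
    have hlt : Nat.card H < n := by
      rw [← hn]
      exact lt_of_le_of_ne (Subgroup.card_le_card_group H)
        (fun h => hH (Subgroup.eq_top_of_card_eq H h))
    have h3 := ih _ hlt ↥H rfl (hG.to_subgroup H) (resAut a H h1 h2) k hk
      (by
        ext y
        rw [resAut_pow, hak]
        rfl)
      (by
        intro y hy
        apply Subtype.ext
        have : (y : G) ^ p = 1 := by
          have := congrArg (fun z : ↥H => (z : G)) hy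
          simpa using this
        exact hfix _ this) ⟨x, hx⟩
    exact congrArg (fun z : ↥H => (z : G)) h3
  obtain ⟨D, hD⟩ : ∃ D : Subgroup G, D = Subgroup.closure {d : G | ∃ x : G, d = x⁻¹ * a x} :=
    ⟨_, rfl⟩
  have hDgen : ∀ x : G, x⁻¹ * a x ∈ D := fun x => hD ▸ Subgroup.subset_closure ⟨x, rfl⟩
  have hDinv : ∀ x ∈ D, a x ∈ D := by
    have h1 : D ≤ D.comap a.toMonoidHom := by
      rw [hD, Subgroup.closure_le]
      rintro d ⟨x, rfl⟩
      rw [← hD]
      show a (x⁻¹ * a x) ∈ D
      rw [map_mul, map_inv]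
      exact hDgen (a x)
    exact fun x hx => h1 hx
  by_cases hDtop : D = ⊤
  swap
  · intro x
    have h1 := hA D hDtop hDinv _ (hDgen x)
    exact fixed_of_comm_fixed hG a k hk hak x h1
  -- now `D = ⊤`
  intro x
  by_cases hsub : Subsingleton G
  · exact Subsingleton.elim _ _
  rw [not_subsingleton_iff_nontrivial] at hsub
  have hΦtop : frattini G ≠ ⊤ := by
    obtain ⟨M, hM⟩ := (eq_top_or_exists_le_coatom (⊥ : Subgroup G)).resolve_left bot_ne_top
    intro h
    have := frattini_le_coatom hM.1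
    rw [h, top_le_iff] at this
    exact hM.1.1 this
  have hΦinv : ∀ z ∈ frattini G, a z ∈ frattini G := by
    intro z hz
    have := (frattini_characteristic (G := G)).fixed a
    rw [← this] at hz
    exact hz
  have hΦfix := hA (frattini G) hΦtop hΦinv
  have hΦcent : ∀ z ∈ frattini G, ∀ y : G, z * y = y * z := by
    have h1 : D ≤ Subgroup.centralizer ((frattini G : Subgroup G) : Set G) := by
      rw [hD, Subgroup.closure_le]
      rintro d ⟨y, rfl⟩
      rw [SetLike.mem_coe, Subgroup.mem_centralizer_iff]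
      intro z hz
      have h2 : y * z * y⁻¹ ∈ frattini G :=
        (inferInstance : (frattini G).Normal).conj_mem z hz y
      have h3 := hΦfix _ h2
      rw [map_mul, map_mul, map_inv, hΦfix z hz] at h3
      calc z * (y⁻¹ * a y) = y⁻¹ * (y * z * y⁻¹) * a y := by group
        _ = y⁻¹ * (a y * z * (a y)⁻¹) * a y := by rw [h3]
        _ = y⁻¹ * a y * z := by group
    intro z hz y
    have h2 : y ∈ Subgroup.centralizer ((frattini G : Subgroup G) : Set G) := h1 (hDtop ▸ Subgroup.mem_top y)
    rw [Subgroup.mem_centralizer_iff] at h2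
    exact h2 z hz
  obtain ⟨d, hd⟩ : ∃ d : G, d = x⁻¹ * a x := ⟨_, rfl⟩
  obtain ⟨c, hc⟩ : ∃ c : G, c = ⁅d⁻¹, x⁻¹⁆ := ⟨_, rfl⟩
  have hcΦ : c ∈ frattini G := by
    apply commutator_le_frattini_of_isPGroup hG
    rw [hc, commutator_def]
    exact Subgroup.commutator_mem_commutator (Subgroup.mem_top _) (Subgroup.mem_top _)
  have hcx : Commute c x := hΦcent c hcΦ x
  have hcd : Commute c d := hΦcent c hcΦ d
  have hdx : d * x = x * d * c := by
    rw [hc, commutatorElement_def]; group
  have hxpΦ : x ^ p ∈ frattini G := pow_mem_frattini_of_isPGroup hG x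
  have hcp : c ^ p = 1 := by
    have h1 := mul_pow_comm_class2 x d c hdx hcx p
    have h2 : d * x ^ p = x ^ p * d := (hΦcent _ hxpΦ d).symm
    rw [h2] at h1
    have h3 : x ^ p * d * 1 = x ^ p * d * c ^ p := by rw [mul_one]; exact h1
    exact (mul_left_cancel h3).symm
  have hsum : c ^ (∑ i ∈ Finset.range p, i) = 1 := by
    have h1 : p ∣ ∑ i ∈ Finset.range p, i := by
      have h2 := Finset.sum_range_id_mul_two p
      have h3 : p ∣ (∑ i ∈ Finset.range p, i) * 2 := by rw [h2]; exact Dvd.intro _ rfl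
      have h4 : Nat.Coprime p 2 := (Nat.coprime_primes hp.out Nat.prime_two).mpr hp2
      exact h4.dvd_of_dvd_mul_right h3
    obtain ⟨t, ht⟩ := h1
    rw [ht, pow_mul, hcp, one_pow]
  have hax : a x = x * d := by rw [hd]; group
  have hdp : d ^ p = 1 := by
    have h1 := mul_pow_class2 x d c hdx hcx hcd p
    rw [hsum, mul_one, ← hax, ← map_pow, hΦfix _ hxpΦ] at h1
    have h2 : x ^ p * 1 = x ^ p * d ^ p := by rw [mul_one]; exact h1
    exact (mul_left_cancel h2).symm
  have hdfix : a d = d := hfix d hdp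
  rw [hd] at hdfix
  exact fixed_of_comm_fixed hG a k hk hak x hdfix

/-- For odd p, a p'-automorphism of a p-group acting trivially on the elements of order dividing p is trivial. -/
theorem result {G : Type*} [Group G] [Finite G] {p : ℕ} [Fact p.Prime] (hp : p ≠ 2) (hG : IsPGroup p G) (a : MulAut G) (ha : Nat.Coprime (orderOf a) p) (h : ∀ x : G, x ^ p = 1 → a x = x) : a = 1 := by
  ext x
  exact main p hp _ G rfl hG a (orderOf a) ha (pow_orderOf_eq_one a) h x

end Cfsg.Agent.S0120
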