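import Mathlib
import Cfsg.Prelude.Def_Transfer
import Cfsg.Agent.Lib_helper1_PGroup
import Cfsg.Agent.S0120

set_option autoImplicit false

namespace Cfsg.Agent.helper15

open scoped commutatorElement

/-- Data of an extraspecial subgroup `P` of order `p ^ 3` and exponent `p ^ 2` with centre `Z`. -/
structure ES3 {G : Type*} [Group G] (p : ℕ) (P Z : Subgroup G) : Prop where
  hZP : Z ≤ P
  hcent : ∀ z ∈ Z, ∀ x ∈ P, z * x = x * z
  hZcard : Nat.card Z = p
  hPcard : Nat.card P = p ^ 3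
  hcomm : ∀ x ∈ P, ∀ y ∈ P, x * y * x⁻¹ * y⁻¹ ∈ Z
  hpow : ∀ x ∈ P, x ^ p ∈ Z
  hexp : ∃ a ∈ P, a ^ p ≠ 1
  hfull : ∀ x ∈ P, (∀ y ∈ P, x * y = y * x) → x ∈ Z

theorem es3_of_isExtraspecial {G : Type*} [Group G] [Finite G] {p : ℕ} [Fact p.Prime]
    (P : Subgroup G) (hE : Cfsg.IsExtraspecial p ↥P) (hcard : Nat.card P = p ^ 3)
    (hexp : Monoid.exponent ↥P = p ^ 2) :
    ES3 p P ((Subgroup.center ↥P).map P.subtype) := by
  obtain ⟨⟨hPp, hfr, hcm⟩, hZc⟩ := hE
  have hp : p.Prime := Fact.out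
  refine ⟨Subgroup.map_subtype_le _, ?_, ?_, hcard, ?_, ?_, ?_, ?_⟩
  · rintro _ ⟨z, hz, rfl⟩ x hx
    have := Subgroup.mem_center_iff.1 hz ⟨x, hx⟩
    exact (congrArg Subtype.val this).symm
  · rw [Subgroup.card_map_of_injective P.subtype_injective, hZc]
  · intro x hx y hy
    have h1 : ⁅(⟨x, hx⟩ : ↥P), ⟨y, hy⟩⁆ ∈ commutator ↥P :=
      Subgroup.commutator_mem_commutator (Subgroup.mem_top _) (Subgroup.mem_top _)
    rw [hcm] at h1
    refine ⟨_, h1, ?_⟩
    simp [commutatorElement_def]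
  · intro x hx
    have h1 := Cfsg.Agent.helper1.pow_mem_frattini_of_isPGroup hPp (⟨x, hx⟩ : ↥P)
    rw [hfr] at h1
    exact ⟨_, h1, by simp⟩
  · by_contra hcon
    push Not at hcon
    have h1 : Monoid.exponent ↥P ∣ p := by
      apply Monoid.exponent_dvd_of_forall_pow_eq_one
      intro x
      apply Subtype.ext
      simpa using hcon x.1 x.2
    rw [hexp] at h1
    have := Nat.le_of_dvd hp.pos h1
    have h2 : p < p ^ 2 := by
      calc p = p ^ 1 := (pow_one p).symm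
        _ < p ^ 2 := Nat.pow_lt_pow_right hp.one_lt (by norm_num)
    omega
  · intro x hx hxc
    refine ⟨⟨x, hx⟩, ?_, rfl⟩
    rw [SetLike.mem_coe, Subgroup.mem_center_iff]
    intro y
    apply Subtype.ext
    exact (hxc y.1 y.2).symm

section

variable {G : Type*} [Group G] [Finite G] {p : ℕ} [hp : Fact p.Prime] {P Z : Subgroup G}

theorem ES3.pow_eq_one_of_mem (h : ES3 p P Z) {z : G} (hz : z ∈ Z) : z ^ p = 1 := by
  have h1 : (⟨z, hz⟩ : ↥Z) ^ Nat.card ↥Z = 1 := pow_card_eq_one'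
  rw [h.hZcard] at h1
  have := congrArg Subtype.val h1
  simpa using this

/-- The `p`-th power map is multiplicative on `P` (for odd `p`). -/
theorem ES3.mul_pow (h : ES3 p P Z) (hp2 : p ≠ 2) {x y : G} (hx : x ∈ P) (hy : y ∈ P) :
    (x * y) ^ p = x ^ p * y ^ p := by
  set c := (x * y)⁻¹ * (y * x) with hc
  have hcZ : c ∈ Z := by
    have h1 := h.hcomm y⁻¹ (P.inv_mem hy) x⁻¹ (P.inv_mem hx)
    have e : c = y⁻¹ * x⁻¹ * y⁻¹⁻¹ * x⁻¹⁻¹ := by rw [hc]; group
    rw [e]; exact h1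
  have hyx : y * x = x * y * c := by rw [hc]; group
  have hcx : Commute c x := h.hcent c hcZ x hx
  have hcy : Commute c y := h.hcent c hcZ y hy
  have h2 := Cfsg.Agent.S0120.mul_pow_class2 x y c hyx hcx hcy p
  rw [h2]
  have hsum : p ∣ ∑ i ∈ Finset.range p, i := by
    rw [Finset.sum_range_id]
    have hodd : Odd p := hp.out.odd_of_ne_two hp2
    obtain ⟨k, hk⟩ := hodd
    have : p * (p - 1) / 2 = p * k := by
      rw [hk]
      have : (2 * k + 1) * (2 * k + 1 - 1) = 2 * ((2 * k + 1) * k) := by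
        rw [Nat.add_sub_cancel]; ring
      rw [this, Nat.mul_div_cancel_left _ (by norm_num : 0 < 2)]
    rw [this]
    exact dvd_mul_right p k
  obtain ⟨k, hk⟩ := hsum
  rw [hk, pow_mul, h.pow_eq_one_of_mem hcZ, one_pow, mul_one]

/-- The `p`-power endomorphism of `P`. -/
def ES3.pw (h : ES3 p P Z) (hp2 : p ≠ 2) : ↥P →* ↥P where
  toFun x := x ^ p
  map_one' := one_pow p
  map_mul' x y := Subtype.ext (by simpa using h.mul_pow hp2 x.2 y.2)

/-- `Ω₁(P)`: the elements of `P` of order dividing `p`. -/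
def ES3.omega (h : ES3 p P Z) (hp2 : p ≠ 2) : Subgroup G := (h.pw hp2).ker.map P.subtype

theorem ES3.mem_omega (h : ES3 p P Z) (hp2 : p ≠ 2) {x : G} :
    x ∈ h.omega hp2 ↔ x ∈ P ∧ x ^ p = 1 := by
  constructor
  · rintro ⟨y, hy, rfl⟩
    refine ⟨y.2, ?_⟩
    have h1 : (h.pw hp2) y = 1 := hy
    have h2 := congrArg Subtype.val h1
    simpa [ES3.pw] using h2
  · rintro ⟨hx, hxp⟩
    refine ⟨⟨x, hx⟩, ?_, rfl⟩
    show (h.pw hp2) ⟨x, hx⟩ = 1
    apply Subtype.ext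
    simpa [ES3.pw] using hxp

theorem ES3.omega_le (h : ES3 p P Z) (hp2 : p ≠ 2) : h.omega hp2 ≤ P :=
  fun _ hx => ((h.mem_omega hp2).1 hx).1

theorem ES3.le_omega (h : ES3 p P Z) (hp2 : p ≠ 2) : Z ≤ h.omega hp2 :=
  fun _ hz => (h.mem_omega hp2).2 ⟨h.hZP hz, h.pow_eq_one_of_mem hz⟩

theorem ES3.card_omega (h : ES3 p P Z) (hp2 : p ≠ 2) : Nat.card ↥(h.omega hp2) = p ^ 2 := by
  have hpp : p.Prime := hp.out
  unfold ES3.omega
  rw [Subgroup.card_map_of_injective P.subtype_injective]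
  have h1 : Nat.card ↥(h.pw hp2).ker * Nat.card ↥(h.pw hp2).range = p ^ 3 := by
    rw [← Subgroup.index_ker, Subgroup.card_mul_index, h.hPcard]
  have hle : (h.pw hp2).range.map P.subtype ≤ Z := by
    rintro _ ⟨_, ⟨x, rfl⟩, rfl⟩
    exact h.hpow x.1 x.2
  have hdvd : Nat.card ↥(h.pw hp2).range ∣ p := by
    have h2 := Subgroup.card_dvd_of_le hle
    rw [Subgroup.card_map_of_injective P.subtype_injective, h.hZcard] at h2
    exact h2
  have hne : Nat.card ↥(h.pw hp2).range ≠ 1 := by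
    intro hone
    obtain ⟨a, ha, hap⟩ := h.hexp
    have h2 : (h.pw hp2).range = ⊥ := Subgroup.card_eq_one.1 hone
    have h3 : (h.pw hp2) ⟨a, ha⟩ ∈ (h.pw hp2).range := ⟨_, rfl⟩
    rw [h2, Subgroup.mem_bot] at h3
    apply hap
    have := congrArg Subtype.val h3
    simpa [ES3.pw] using this
  have hr : Nat.card ↥(h.pw hp2).range = p := by
    rcases (Nat.dvd_prime hpp).1 hdvd with h2 | h2
    · exact absurd h2 hne
    · exact h2
  rw [hr] at h1
  have : Nat.card ↥(h.pw hp2).ker * p = p ^ 2 * p := by rw [h1]; ring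
  exact Nat.eq_of_mul_eq_mul_right hpp.pos this

theorem ES3.omega_comm (h : ES3 p P Z) (hp2 : p ≠ 2) {a b : G} (ha : a ∈ h.omega hp2)
    (hb : b ∈ h.omega hp2) : a * b = b * a := by
  have hc := IsPGroup.isMulCommutative_of_card_eq_prime_sq (h.card_omega hp2)
  have := hc.is_comm.comm (⟨a, ha⟩ : ↥(h.omega hp2)) ⟨b, hb⟩
  exact congrArg Subtype.val this

theorem ES3.conj_mem_omega (h : ES3 p P Z) (hp2 : p ≠ 2) {y x : G} (hy : y ∈ P)
    (hx : x ∈ h.omega hp2) : y * x * y⁻¹ ∈ h.omega hp2 := by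
  obtain ⟨hxP, hxp⟩ := (h.mem_omega hp2).1 hx
  refine (h.mem_omega hp2).2 ⟨P.mul_mem (P.mul_mem hy hxP) (P.inv_mem hy), ?_⟩
  rw [← MulAut.conj_apply, ← map_pow, hxp, map_one]

/-- `E ⊔ ⟨u⟩ = P` for `u ∈ P` outside `E = Ω₁(P)`. -/
theorem ES3.omega_sup_zpowers (h : ES3 p P Z) (hp2 : p ≠ 2) {u : G} (hu : u ∈ P)
    (huE : u ∉ h.omega hp2) : h.omega hp2 ⊔ Subgroup.zpowers u = P := by
  have hpp : p.Prime := hp.out
  have hle : h.omega hp2 ⊔ Subgroup.zpowers u ≤ P :=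
    sup_le (h.omega_le hp2) (Subgroup.zpowers_le.2 hu)
  apply Subgroup.eq_of_le_of_card_ge hle
  have h1 : p ^ 2 ∣ Nat.card ↥(h.omega hp2 ⊔ Subgroup.zpowers u) := by
    rw [← h.card_omega hp2]; exact Subgroup.card_dvd_of_le le_sup_left
  have h2 : Nat.card ↥(h.omega hp2 ⊔ Subgroup.zpowers u) ∣ p ^ 3 := by
    rw [← h.hPcard]; exact Subgroup.card_dvd_of_le hle
  obtain ⟨j, hj3, hj⟩ := (Nat.dvd_prime_pow hpp).1 h2
  rw [hj] at h1 ⊢
  rw [h.hPcard]
  have hj2 : 2 ≤ j := (Nat.pow_dvd_pow_iff_le_right hpp.one_lt).1 h1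
  have hjne : j ≠ 2 := by
    intro hj2'
    rw [hj2'] at hj
    apply huE
    have : h.omega hp2 = h.omega hp2 ⊔ Subgroup.zpowers u := by
      apply Subgroup.eq_of_le_of_card_ge le_sup_left
      rw [hj, h.card_omega hp2]
    rw [this]
    exact Subgroup.mem_sup_right (Subgroup.mem_zpowers u)
  have : j = 3 := by omega
  rw [this]

/-- An element of `P` commuting with `E` and with some `u ∉ E` is central. -/
theorem ES3.mem_center_of_commute (h : ES3 p P Z) (hp2 : p ≠ 2) {u y : G} (hu : u ∈ P)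
    (huE : u ∉ h.omega hp2) (hy : y ∈ P) (hyE : ∀ e ∈ h.omega hp2, y * e = e * y)
    (hyu : y * u = u * y) : y ∈ Z := by
  apply h.hfull y hy
  have hle : P ≤ Subgroup.centralizer ({y} : Set G) := by
    rw [← h.omega_sup_zpowers hp2 hu huE]
    apply sup_le
    · intro e he
      rw [Subgroup.mem_centralizer_singleton_iff]
      exact (hyE e he).symm
    · rw [Subgroup.zpowers_le, Subgroup.mem_centralizer_singleton_iff]
      exact hyu.symm
  intro x hx
  have := Subgroup.mem_centralizer_singleton_iff.1 (hle hx)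
  exact this.symm

theorem ES3.not_commute (h : ES3 p P Z) (hp2 : p ≠ 2) {u w : G} (hu : u ∈ P)
    (huE : u ∉ h.omega hp2) (hw : w ∈ h.omega hp2) (hwZ : w ∉ Z) : u * w ≠ w * u := by
  intro hc
  apply hwZ
  exact h.mem_center_of_commute hp2 hu huE (h.omega_le hp2 hw)
    (fun e he => h.omega_comm hp2 hw he) hc.symm

theorem ES3.mem_omega_of_centralizes (h : ES3 p P Z) (hp2 : p ≠ 2) {x : G} (hx : x ∈ P)
    (hxE : ∀ e ∈ h.omega hp2, x * e = e * x) : x ∈ h.omega hp2 := by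
  by_contra hxn
  have hpp : p.Prime := hp.out
  have hle : h.omega hp2 ≤ Z := by
    intro e he
    exact h.mem_center_of_commute hp2 hx hxn (h.omega_le hp2 he)
      (fun e' he' => h.omega_comm hp2 he he') (hxE e he).symm
  have := Subgroup.card_le_of_le hle
  rw [h.card_omega hp2, h.hZcard] at this
  have h2 : p < p ^ 2 := by
    calc p = p ^ 1 := (pow_one p).symm
      _ < p ^ 2 := Nat.pow_lt_pow_right hpp.one_lt (by norm_num)
  omega


end

end Cfsg.Agent.helper15
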