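import Mathlib
import Cfsg.Agent.Lib_helper15_ES3
import Cfsg.Agent.Lib_helper15_Sylow
import Cfsg.Agent.Lib_helper15_ExtClosed
import Cfsg.Agent.Lib_helper15_SylGraph2

set_option autoImplicit false
set_option linter.unusedSectionVars false

namespace Cfsg.Agent.helper15

open scoped Pointwise

/-- Power lemma: if `a x a⁻¹ = c x` with `a` commuting with `c`, then `aⁿ x a⁻ⁿ = cⁿ x`. -/
theorem conj_pow_eq_pow_mul {G : Type*} [Group G] {a x c : G} (h : a * x * a⁻¹ = c * x)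
    (hac : a * c = c * a) (n : ℕ) : a ^ n * x * (a ^ n)⁻¹ = c ^ n * x := by
  induction n with
  | zero => simp
  | succ n ih =>
    have hcomm : Commute a c := hac
    have h1 : a * c ^ n = c ^ n * a := (hcomm.pow_right n).eq
    calc a ^ (n + 1) * x * (a ^ (n + 1))⁻¹ = a * (a ^ n * x * (a ^ n)⁻¹) * a⁻¹ := by
          rw [pow_succ']; group
      _ = a * (c ^ n * x) * a⁻¹ := by rw [ih]
      _ = (a * c ^ n) * x * a⁻¹ := by group
      _ = (c ^ n * a) * x * a⁻¹ := by rw [h1]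
      _ = c ^ n * (a * x * a⁻¹) := by group
      _ = c ^ n * (c * x) := by rw [h]
      _ = c ^ (n + 1) * x := by rw [pow_succ]; group

theorem conj_pow_eq_self {G : Type*} [Group G] {a x : G} (h : a * x * a⁻¹ = x) (n : ℕ) :
    a ^ n * x * (a ^ n)⁻¹ = x := by
  have h1 : a * x * a⁻¹ = 1 * x := by rw [one_mul]; exact h
  have := conj_pow_eq_pow_mul h1 (by rw [mul_one, one_mul]) n
  rwa [one_pow, one_mul] at this

/-- A nontrivial element of a subgroup of prime order generates it. -/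
theorem zpowers_eq_of_card_prime {G : Type*} [Group G] [Finite G] {p : ℕ} (hp : p.Prime)
    (Z : Subgroup G) (hZ : Nat.card Z = p) {c : G} (hc : c ∈ Z) (hc1 : c ≠ 1) :
    Subgroup.zpowers c = Z := by
  apply Subgroup.eq_of_le_of_card_ge (Subgroup.zpowers_le.2 hc)
  rw [Nat.card_zpowers, hZ]
  have h1 : orderOf c ∣ p := by
    have : orderOf (⟨c, hc⟩ : ↥Z) ∣ Nat.card Z := orderOf_dvd_natCard _
    rwa [hZ, ← Subgroup.orderOf_coe] at this
  rcases (Nat.dvd_prime hp).1 h1 with h | h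
  · exact absurd (orderOf_eq_one_iff.1 h) hc1
  · exact h.ge

theorem exists_pow_eq_of_mem_zpowers {G : Type*} [Group G] [Finite G] {c z : G}
    (h : z ∈ Subgroup.zpowers c) : ∃ n : ℕ, c ^ n = z := by
  rw [← mem_powers_iff_mem_zpowers] at h
  exact (Submonoid.mem_powers_iff _ _).1 h

section

variable {G : Type*} [Group G] [Finite G] {p : ℕ} [hp : Fact p.Prime]

/-- Step A/B: the fusing element can be chosen in `N_G(Ω₁(P))`. -/
theorem ES3.exists_normalizing_conj (P : Sylow p G) {Z : Subgroup G}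
    (h : ES3 p (P : Subgroup G) Z) (hp2 : p ≠ 2) {z : G} (hz : z ∈ Z) (g : G)
    (hw : g * z * g⁻¹ ∈ (P : Subgroup G)) :
    ∃ g' : G, g' * z * g'⁻¹ = g * z * g⁻¹ ∧
      (h.omega hp2).map (MulAut.conj g').toMonoidHom = h.omega hp2 := by
  set w := g * z * g⁻¹ with hwdef
  have hwE : w ∈ h.omega hp2 := by
    refine (h.mem_omega hp2).2 ⟨hw, ?_⟩
    rw [hwdef, ← MulAut.conj_apply, ← map_pow, h.pow_eq_one_of_mem hz, map_one]
  have hPgC : ((g • P : Sylow p G) : Subgroup G) ≤ Subgroup.centralizer ({w} : Set G) := by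
    rw [coe_smul_sylow']
    rintro _ ⟨y, hy, rfl⟩
    rw [Subgroup.mem_centralizer_singleton_iff]
    simp only [MulEquiv.coe_toMonoidHom, MulAut.conj_apply]
    have h1 := h.hcent z hz y hy
    calc g * y * g⁻¹ * w = g * (y * z) * g⁻¹ := by rw [hwdef]; group
      _ = g * (z * y) * g⁻¹ := by rw [h1]
      _ = w * (g * y * g⁻¹) := by rw [hwdef]; group
  have hEC : h.omega hp2 ≤ Subgroup.centralizer ({w} : Set G) := by
    intro e he
    rw [Subgroup.mem_centralizer_singleton_iff]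
    exact h.omega_comm hp2 he hwE
  have hEp : IsPGroup p ↥(h.omega hp2) := P.isPGroup'.to_le (h.omega_le hp2)
  obtain ⟨m, hmC, hm⟩ := exists_conj_mem_sylow_of_le (g • P) _ hPgC (h.omega hp2) hEp hEC
  have hmw : m * w = w * m := Subgroup.mem_centralizer_singleton_iff.1 hmC
  refine ⟨m⁻¹ * g, ?_, ?_⟩
  · calc m⁻¹ * g * z * (m⁻¹ * g)⁻¹ = m⁻¹ * w * m := by rw [hwdef]; group
      _ = m⁻¹ * (w * m) := by group
      _ = m⁻¹ * (m * w) := by rw [hmw]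
      _ = w := by group
  · symm
    apply Subgroup.eq_of_le_of_card_ge
    · intro e he
      have h1 := hm e he
      rw [coe_smul_sylow'] at h1
      obtain ⟨y, hy, hye⟩ := h1
      simp only [MulEquiv.coe_toMonoidHom, MulAut.conj_apply] at hye
      have hey : e = (m⁻¹ * g) * y * (m⁻¹ * g)⁻¹ := by
        calc e = m⁻¹ * (m * e * m⁻¹) * m := by group
          _ = m⁻¹ * (g * y * g⁻¹) * m := by rw [hye]
          _ = (m⁻¹ * g) * y * (m⁻¹ * g)⁻¹ := by group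
      have hyp : y ^ p = 1 := by
        have hy' : y = (MulAut.conj (m⁻¹ * g)⁻¹) e := by
          rw [MulAut.conj_apply, hey]; group
        rw [hy', ← map_pow, ((h.mem_omega hp2).1 he).2, map_one]
      refine ⟨y, (h.mem_omega hp2).2 ⟨hy, hyp⟩, ?_⟩
      simp only [MulEquiv.coe_toMonoidHom, MulAut.conj_apply]
      exact hey.symm
    · rw [Subgroup.card_map_of_injective (MulAut.conj (m⁻¹ * g)).injective]

end

section

variable {G : Type*} [Group G] [Finite G] {p : ℕ} [hp : Fact p.Prime]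

/-- Step C: if a central element `z` of `P` is fused to a noncentral element by some `g ∈ N_G(E)`,
`E = Ω₁(P)`, then some element of `G` inverts `E`. -/
theorem ES3.exists_inverting {P Z : Subgroup G}
    (h : ES3 p P Z) (hp2 : p ≠ 2) {z : G} (hz : z ∈ Z) (g : G)
    (hwP : g * z * g⁻¹ ∈ P) (hwZ : g * z * g⁻¹ ∉ Z)
    (hgE : (h.omega hp2).map (MulAut.conj g).toMonoidHom = h.omega hp2) :
    ∃ t : G, ∀ e ∈ h.omega hp2, t * e * t⁻¹ = e⁻¹ := by
  have hpp : p.Prime := hp.out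
  set w := g * z * g⁻¹ with hwdef
  have hz1 : z ≠ 1 := by
    rintro rfl
    apply hwZ
    have : g * 1 * g⁻¹ = 1 := by group
    rw [hwdef, this]; exact Z.one_mem
  have hzE : z ∈ h.omega hp2 := h.le_omega hp2 hz
  have hwE : w ∈ h.omega hp2 := by
    refine (h.mem_omega hp2).2 ⟨hwP, ?_⟩
    rw [hwdef, ← MulAut.conj_apply, ← map_pow, h.pow_eq_one_of_mem hz, map_one]
  have hZz : Subgroup.zpowers z = Z := zpowers_eq_of_card_prime hpp Z h.hZcard hz hz1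
  obtain ⟨u, huP, hup⟩ := h.hexp
  have huE : u ∉ h.omega hp2 := fun hu => hup ((h.mem_omega hp2).1 hu).2
  -- the commutator `c₁ = [u, w]`
  obtain ⟨c₁, hc₁⟩ : ∃ c₁, c₁ = u * w * u⁻¹ * w⁻¹ := ⟨_, rfl⟩
  have hc₁Z : c₁ ∈ Z := by rw [hc₁]; exact h.hcomm u huP w hwP
  have hc₁1 : c₁ ≠ 1 := by
    intro h1
    apply h.not_commute hp2 huP huE hwE hwZ
    calc u * w = c₁ * (w * u) := by rw [hc₁]; group
      _ = w * u := by rw [h1, one_mul]
  have hZc₁ : Subgroup.zpowers c₁ = Z := zpowers_eq_of_card_prime hpp Z h.hZcard hc₁Z hc₁1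
  obtain ⟨n₁, hn₁⟩ : ∃ n : ℕ, c₁ ^ n = z :=
    exists_pow_eq_of_mem_zpowers (by rw [hZc₁]; exact hz)
  have hu_w : u * w * u⁻¹ = c₁ * w := by rw [hc₁]; group
  have hu_c₁ : u * c₁ = c₁ * u := (h.hcent c₁ hc₁Z u huP).symm
  have hu_z : u * z * u⁻¹ = z := by
    rw [← h.hcent z hz u huP]; group
  have hu'w : u ^ n₁ * w * (u ^ n₁)⁻¹ = z * w := by
    rw [conj_pow_eq_pow_mul hu_w hu_c₁ n₁, hn₁]
  have hu'z : u ^ n₁ * z * (u ^ n₁)⁻¹ = z := conj_pow_eq_self hu_z n₁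
  -- `e₀ = g⁻¹ z g`
  have hzmap : z ∈ (h.omega hp2).map (MulAut.conj g).toMonoidHom := by rw [hgE]; exact hzE
  obtain ⟨e₀, he₀E, he₀⟩ := hzmap
  simp only [MulEquiv.coe_toMonoidHom, MulAut.conj_apply] at he₀
  have hoz : orderOf z = p := by
    rw [← Nat.card_zpowers, hZz, h.hZcard]
  have how : orderOf w = p := by
    rw [hwdef, ← MulAut.conj_apply, (MulAut.conj g).orderOf_eq, hoz]
  have hWcard : Nat.card ↥(Subgroup.zpowers w) = p := by rw [Nat.card_zpowers, how]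
  have he₀Z : e₀ ∉ Z := by
    intro he
    rw [← hZz] at he
    obtain ⟨k, hk⟩ := Subgroup.mem_zpowers_iff.1 he
    have hzw : z ∈ Subgroup.zpowers w := by
      refine Subgroup.mem_zpowers_iff.2 ⟨k, ?_⟩
      rw [hwdef, ← MulAut.conj_apply, ← map_zpow, hk, MulAut.conj_apply, he₀]
    have h1 := zpowers_eq_of_card_prime hpp _ hWcard hzw hz1
    apply hwZ
    rw [← hZz, h1]
    exact Subgroup.mem_zpowers w
  obtain ⟨c₂, hc₂⟩ : ∃ c₂, c₂ = u * e₀ * u⁻¹ * e₀⁻¹ := ⟨_, rfl⟩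
  have he₀P : e₀ ∈ P := h.omega_le hp2 he₀E
  have hc₂Z : c₂ ∈ Z := by rw [hc₂]; exact h.hcomm u huP e₀ he₀P
  have hc₂1 : c₂ ≠ 1 := by
    intro h1
    apply h.not_commute hp2 huP huE he₀E he₀Z
    calc u * e₀ = c₂ * (e₀ * u) := by rw [hc₂]; group
      _ = e₀ * u := by rw [h1, one_mul]
  obtain ⟨d, hd⟩ : ∃ d, d = g * c₂ * g⁻¹ := ⟨_, rfl⟩
  obtain ⟨v, hv⟩ : ∃ v, v = g * u * g⁻¹ := ⟨_, rfl⟩
  have hv_z : v * z * v⁻¹ = d * z := by
    calc v * z * v⁻¹ = g * (u * e₀ * u⁻¹) * g⁻¹ := by rw [hv, ← he₀]; group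
      _ = g * (c₂ * e₀) * g⁻¹ := by rw [hc₂]; group
      _ = d * z := by rw [hd, ← he₀]; group
  have hv_d : v * d = d * v := by
    have h1 := h.hcent c₂ hc₂Z u huP
    calc v * d = g * (u * c₂) * g⁻¹ := by rw [hv, hd]; group
      _ = g * (c₂ * u) * g⁻¹ := by rw [h1]
      _ = d * v := by rw [hv, hd]; group
  have hv_w : v * w * v⁻¹ = w := by
    calc v * w * v⁻¹ = g * (u * z * u⁻¹) * g⁻¹ := by rw [hv, hwdef]; group
      _ = w := by rw [hu_z]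
  have hdW : d ∈ Subgroup.zpowers w := by
    have h1 : c₂ ∈ Subgroup.zpowers z := by rw [hZz]; exact hc₂Z
    obtain ⟨k, hk⟩ := Subgroup.mem_zpowers_iff.1 h1
    refine Subgroup.mem_zpowers_iff.2 ⟨k, ?_⟩
    rw [hwdef, ← MulAut.conj_apply, ← map_zpow, hk, MulAut.conj_apply, hd]
  have hd1 : d ≠ 1 := by
    intro h1
    apply hc₂1
    have : c₂ = g⁻¹ * d * g := by rw [hd]; group
    rw [this, h1]; group
  have hWd : Subgroup.zpowers d = Subgroup.zpowers w :=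
    zpowers_eq_of_card_prime hpp _ hWcard hdW hd1
  obtain ⟨n₂, hn₂⟩ : ∃ n : ℕ, d ^ n = w⁻¹ :=
    exists_pow_eq_of_mem_zpowers (by rw [hWd]; exact inv_mem (Subgroup.mem_zpowers w))
  have hv'z : v ^ n₂ * z * (v ^ n₂)⁻¹ = w⁻¹ * z := by
    rw [conj_pow_eq_pow_mul hv_z hv_d n₂, hn₂]
  have hv'w : v ^ n₂ * w * (v ^ n₂)⁻¹ = w := conj_pow_eq_self hv_w n₂
  -- the elements `s` and `t = s²`
  obtain ⟨u', hu'⟩ : ∃ u', u' = u ^ n₁ := ⟨_, rfl⟩
  obtain ⟨v', hv'⟩ : ∃ v', v' = v ^ n₂ := ⟨_, rfl⟩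
  rw [← hu'] at hu'w hu'z
  rw [← hv'] at hv'z hv'w
  obtain ⟨s, hs⟩ : ∃ s, s = u' * v' * u' := ⟨_, rfl⟩
  have hs_z : s * z * s⁻¹ = w⁻¹ := by
    calc s * z * s⁻¹ = u' * (v' * (u' * z * u'⁻¹) * v'⁻¹) * u'⁻¹ := by rw [hs]; group
      _ = u' * (v' * z * v'⁻¹) * u'⁻¹ := by rw [hu'z]
      _ = u' * (w⁻¹ * z) * u'⁻¹ := by rw [hv'z]
      _ = (u' * w * u'⁻¹)⁻¹ * (u' * z * u'⁻¹) := by group
      _ = (z * w)⁻¹ * z := by rw [hu'w, hu'z]
      _ = w⁻¹ * (z⁻¹ * z) := by group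
      _ = w⁻¹ := by group
  have hwzw : w⁻¹ * z * w = z := by
    have := h.omega_comm hp2 hzE hwE
    calc w⁻¹ * z * w = w⁻¹ * (z * w) := by group
      _ = w⁻¹ * (w * z) := by rw [this]
      _ = z := by group
  have hs_w : s * w * s⁻¹ = z := by
    calc s * w * s⁻¹ = u' * (v' * (u' * w * u'⁻¹) * v'⁻¹) * u'⁻¹ := by rw [hs]; group
      _ = u' * (v' * (z * w) * v'⁻¹) * u'⁻¹ := by rw [hu'w]
      _ = u' * ((v' * z * v'⁻¹) * (v' * w * v'⁻¹)) * u'⁻¹ := by group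
      _ = u' * ((w⁻¹ * z) * w) * u'⁻¹ := by rw [hv'z, hv'w]
      _ = u' * z * u'⁻¹ := by rw [hwzw]
      _ = z := hu'z
  have ht_z : (s * s) * z * (s * s)⁻¹ = z⁻¹ := by
    calc (s * s) * z * (s * s)⁻¹ = s * (s * z * s⁻¹) * s⁻¹ := by group
      _ = s * w⁻¹ * s⁻¹ := by rw [hs_z]
      _ = (s * w * s⁻¹)⁻¹ := by group
      _ = z⁻¹ := by rw [hs_w]
  have ht_w : (s * s) * w * (s * s)⁻¹ = w⁻¹ := by
    calc (s * s) * w * (s * s)⁻¹ = s * (s * w * s⁻¹) * s⁻¹ := by group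
      _ = s * z * s⁻¹ := by rw [hs_w]
      _ = w⁻¹ := hs_z
  obtain ⟨t, ht⟩ : ∃ t, t = s * s := ⟨_, rfl⟩
  rw [← ht] at ht_z ht_w
  -- the subgroup of inverted elements
  let I : Subgroup G :=
    { carrier := {e | e ∈ h.omega hp2 ∧ t * e * t⁻¹ = e⁻¹}
      mul_mem' := by
        rintro a b ⟨ha, hta⟩ ⟨hb, htb⟩
        refine ⟨(h.omega hp2).mul_mem ha hb, ?_⟩
        have hab : a⁻¹ * b⁻¹ = (a * b)⁻¹ := by
          rw [mul_inv_rev]
          exact h.omega_comm hp2 (inv_mem ha) (inv_mem hb)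
        calc t * (a * b) * t⁻¹ = (t * a * t⁻¹) * (t * b * t⁻¹) := by group
          _ = a⁻¹ * b⁻¹ := by rw [hta, htb]
          _ = (a * b)⁻¹ := hab
      one_mem' := ⟨(h.omega hp2).one_mem, by group⟩
      inv_mem' := by
        rintro a ⟨ha, hta⟩
        refine ⟨inv_mem ha, ?_⟩
        calc t * a⁻¹ * t⁻¹ = (t * a * t⁻¹)⁻¹ := by group
          _ = a⁻¹⁻¹ := by rw [hta] }
  have hIE : I ≤ h.omega hp2 := fun e he => he.1
  have hzI : z ∈ I := ⟨hzE, ht_z⟩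
  have hwI : w ∈ I := ⟨hwE, ht_w⟩
  have hZI : Z ≤ I := by rw [← hZz]; exact Subgroup.zpowers_le.2 hzI
  have hIeq : I = h.omega hp2 := by
    apply Subgroup.eq_of_le_of_card_ge hIE
    have h1 : Nat.card ↥I ∣ p ^ 2 := by
      rw [← h.card_omega hp2]; exact Subgroup.card_dvd_of_le hIE
    obtain ⟨j, hj2, hj⟩ := (Nat.dvd_prime_pow hpp).1 h1
    have h2 : p ∣ Nat.card ↥I := by
      have := Subgroup.card_dvd_of_le hZI
      rwa [h.hZcard] at this
    have hj0 : j ≠ 0 := by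
      rintro rfl
      rw [hj, pow_zero] at h2
      exact hpp.one_lt.ne' (Nat.dvd_one.1 h2)
    have hj1 : j ≠ 1 := by
      rintro rfl
      rw [pow_one] at hj
      have : Z = I := Subgroup.eq_of_le_of_card_ge hZI (by rw [hj, h.hZcard])
      apply hwZ
      rw [this]; exact hwI
    have : j = 2 := by omega
    rw [h.card_omega hp2, hj, this]
  refine ⟨t, fun e he => ?_⟩
  have : e ∈ I := by rw [hIeq]; exact he
  exact this.2

end

section

variable {G : Type*} [Group G] [Finite G] {p : ℕ} [hp : Fact p.Prime]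

/-- Step D: an element inverting `E = Ω₁(P)` can be chosen in `N_G(P)`. -/
theorem ES3.exists_inverting_normalizer (P : Sylow p G) {Z : Subgroup G}
    (h : ES3 p (P : Subgroup G) Z) (hp2 : p ≠ 2) (t : G)
    (ht : ∀ e ∈ h.omega hp2, t * e * t⁻¹ = e⁻¹) :
    ∃ t₁ ∈ Subgroup.normalizer ((P : Subgroup G) : Set G),
      ∀ e ∈ h.omega hp2, t₁ * e * t₁⁻¹ = e⁻¹ := by
  have ht' : ∀ e ∈ h.omega hp2, t⁻¹ * e * t = e⁻¹ := by
    intro e he
    have h1 := ht e⁻¹ (inv_mem he)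
    rw [inv_inv] at h1
    calc t⁻¹ * e * t = t⁻¹ * (t * e⁻¹ * t⁻¹) * t := by rw [h1]
      _ = e⁻¹ := by group
  have hPN : (P : Subgroup G) ≤
      Subgroup.normalizer ((Subgroup.centralizer (h.omega hp2 : Set G) : Subgroup G) : Set G) := by
    intro y hy
    apply mem_normalizer_of_map_conj_le
    rintro _ ⟨c, hc, rfl⟩
    simp only [MulEquiv.coe_toMonoidHom, MulAut.conj_apply]
    rw [Subgroup.mem_centralizer_iff]
    intro e he
    have he₁ : y⁻¹ * e * y⁻¹⁻¹ ∈ h.omega hp2 := h.conj_mem_omega hp2 (inv_mem hy) he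
    have h1 := Subgroup.mem_centralizer_iff.1 hc _ he₁
    calc e * (y * c * y⁻¹) = y * ((y⁻¹ * e * y⁻¹⁻¹) * c) * y⁻¹ := by group
      _ = y * (c * (y⁻¹ * e * y⁻¹⁻¹)) * y⁻¹ := by rw [h1]
      _ = y * c * y⁻¹ * e := by group
  have hQle : (P : Subgroup G).map (MulAut.conj t).toMonoidHom ≤
      (P : Subgroup G) ⊔ Subgroup.centralizer (h.omega hp2 : Set G) := by
    rintro _ ⟨y, hy, rfl⟩
    simp only [MulEquiv.coe_toMonoidHom, MulAut.conj_apply]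
    have hk : t * y * t⁻¹ * y⁻¹ ∈ Subgroup.centralizer (h.omega hp2 : Set G) := by
      rw [Subgroup.mem_centralizer_iff]
      intro e he
      have he₁ : y⁻¹ * e * y⁻¹⁻¹ ∈ h.omega hp2 := h.conj_mem_omega hp2 (inv_mem hy) he
      have h1 : (t * y * t⁻¹ * y⁻¹) * e * (t * y * t⁻¹ * y⁻¹)⁻¹ = e := by
        calc (t * y * t⁻¹ * y⁻¹) * e * (t * y * t⁻¹ * y⁻¹)⁻¹
            = t * (y * (t⁻¹ * (y⁻¹ * e * y⁻¹⁻¹) * t) * y⁻¹) * t⁻¹ := by group
          _ = t * (y * (y⁻¹ * e * y⁻¹⁻¹)⁻¹ * y⁻¹) * t⁻¹ := by rw [ht' _ he₁]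
          _ = (t * e * t⁻¹)⁻¹ := by group
          _ = e := by rw [ht e he, inv_inv]
      calc e * (t * y * t⁻¹ * y⁻¹)
          = ((t * y * t⁻¹ * y⁻¹) * e * (t * y * t⁻¹ * y⁻¹)⁻¹) * (t * y * t⁻¹ * y⁻¹) := by rw [h1]
        _ = (t * y * t⁻¹ * y⁻¹) * e := by group
    have e1 : t * y * t⁻¹ = (t * y * t⁻¹ * y⁻¹) * y := by group
    rw [e1, sup_comm]
    exact Subgroup.mul_mem_sup hk hy
  have hQp : IsPGroup p ↥((P : Subgroup G).map (MulAut.conj t).toMonoidHom) := P.isPGroup'.map _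
  obtain ⟨m, hmM, hm⟩ := exists_conj_mem_sylow_of_le P _ le_sup_left _ hQp hQle
  have hset := Subgroup.coe_mul_of_left_le_normalizer_right (P : Subgroup G) _ hPN
  have hmM' : m ∈ ((P : Subgroup G) : Set G) *
      ((Subgroup.centralizer (h.omega hp2 : Set G) : Subgroup G) : Set G) := by
    rw [← hset]; exact hmM
  obtain ⟨y, hy, c, hc, rfl⟩ := Set.mem_mul.1 hmM'
  refine ⟨c * t, ?_, ?_⟩
  · apply mem_normalizer_of_map_conj_le
    rintro _ ⟨x, hx, rfl⟩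
    simp only [MulEquiv.coe_toMonoidHom, MulAut.conj_apply]
    have h1 := hm (t * x * t⁻¹) ⟨x, hx, by simp⟩
    have e1 : c * t * x * (c * t)⁻¹ = y⁻¹ * (y * c * (t * x * t⁻¹) * (y * c)⁻¹) * y := by group
    rw [e1]
    exact mul_mem (mul_mem (inv_mem hy) h1) hy
  · intro e he
    have h1 := Subgroup.mem_centralizer_iff.1 hc e⁻¹ (inv_mem he)
    calc c * t * e * (c * t)⁻¹ = c * (t * e * t⁻¹) * c⁻¹ := by group
      _ = c * e⁻¹ * c⁻¹ := by rw [ht e he]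
      _ = e⁻¹ * c * c⁻¹ := by rw [h1]
      _ = e⁻¹ := by group

/-- Step E: no element of `N_G(P)` inverts `E = Ω₁(P)`. -/
theorem ES3.false_of_inverting {P Z : Subgroup G} (h : ES3 p P Z) (hp2 : p ≠ 2) (t : G)
    (hN : t ∈ Subgroup.normalizer (P : Set G))
    (ht : ∀ e ∈ h.omega hp2, t * e * t⁻¹ = e⁻¹) : False := by
  have hpp : p.Prime := hp.out
  have ht' : ∀ e ∈ h.omega hp2, t⁻¹ * e * t = e⁻¹ := by
    intro e he
    have h1 := ht e⁻¹ (inv_mem he)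
    rw [inv_inv] at h1
    calc t⁻¹ * e * t = t⁻¹ * (t * e⁻¹ * t⁻¹) * t := by rw [h1]
      _ = e⁻¹ := by group
  obtain ⟨a, haP, hap⟩ := h.hexp
  have hbP : t * a * t⁻¹ ∈ P := (Subgroup.mem_normalizer_iff.1 hN a).1 haP
  have hapZ : a ^ p ∈ Z := h.hpow a haP
  have hapE : a ^ p ∈ h.omega hp2 := h.le_omega hp2 hapZ
  have hbp : (t * a * t⁻¹) ^ p = (a ^ p)⁻¹ := by
    rw [← MulAut.conj_apply, ← map_pow, MulAut.conj_apply, ht _ hapE]
  have hbaE : t * a * t⁻¹ * a ∈ h.omega hp2 := by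
    refine (h.mem_omega hp2).2 ⟨P.mul_mem hbP haP, ?_⟩
    rw [h.mul_pow hp2 hbP haP, hbp, inv_mul_cancel]
  have key1 : ∀ e ∈ h.omega hp2, (t * a * t⁻¹) * e * (t * a * t⁻¹)⁻¹ = a * e * a⁻¹ := by
    intro e he
    have h2 : a * e * a⁻¹ ∈ h.omega hp2 := h.conj_mem_omega hp2 haP he
    calc (t * a * t⁻¹) * e * (t * a * t⁻¹)⁻¹ = t * (a * (t⁻¹ * e * t) * a⁻¹) * t⁻¹ := by group
      _ = t * (a * e⁻¹ * a⁻¹) * t⁻¹ := by rw [ht' e he]
      _ = (t * (a * e * a⁻¹) * t⁻¹)⁻¹ := by group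
      _ = a * e * a⁻¹ := by rw [ht _ h2, inv_inv]
  have key2 : ∀ e ∈ h.omega hp2, (t * a * t⁻¹) * e * (t * a * t⁻¹)⁻¹ = a⁻¹ * e * a := by
    intro e he
    have h2 : a⁻¹ * e * a⁻¹⁻¹ ∈ h.omega hp2 := h.conj_mem_omega hp2 (inv_mem haP) he
    rw [inv_inv] at h2
    have h3 := h.omega_comm hp2 hbaE h2
    calc (t * a * t⁻¹) * e * (t * a * t⁻¹)⁻¹
        = ((t * a * t⁻¹ * a) * (a⁻¹ * e * a)) * (t * a * t⁻¹ * a)⁻¹ := by group
      _ = ((a⁻¹ * e * a) * (t * a * t⁻¹ * a)) * (t * a * t⁻¹ * a)⁻¹ := by rw [h3]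
      _ = a⁻¹ * e * a := by group
  have hcent : ∀ e ∈ h.omega hp2, (a * a) * e = e * (a * a) := by
    intro e he
    have h1 : a * e * a⁻¹ = a⁻¹ * e * a := (key1 e he).symm.trans (key2 e he)
    calc (a * a) * e = a * (a * e * a⁻¹) * a := by group
      _ = a * (a⁻¹ * e * a) * a := by rw [h1]
      _ = e * (a * a) := by group
  have haaE := h.mem_omega_of_centralizes hp2 (P.mul_mem haP haP) hcent
  have h1 : (a * a) ^ p = 1 := ((h.mem_omega hp2).1 haaE).2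
  rw [(Commute.refl a).mul_pow] at h1
  have h2 : (a ^ p) ^ 2 = 1 := by rw [sq]; exact h1
  have h3 : (a ^ p) ^ p = 1 := h.pow_eq_one_of_mem hapZ
  have h4 : orderOf (a ^ p) ∣ Nat.gcd 2 p :=
    Nat.dvd_gcd (orderOf_dvd_of_pow_eq_one h2) (orderOf_dvd_of_pow_eq_one h3)
  have h5 : Nat.gcd 2 p = 1 := by
    rw [← Nat.coprime_iff_gcd_eq_one]
    exact (Nat.coprime_primes Nat.prime_two hpp).2 (Ne.symm hp2)
  rw [h5, Nat.dvd_one, orderOf_eq_one_iff] at h4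
  exact hap h4

/-- The centre of an extraspecial Sylow `p`-subgroup of order `p ^ 3` and exponent `p ^ 2`
(`p` odd) is strongly closed. -/
theorem ES3.strongly_closed (P : Sylow p G) {Z : Subgroup G}
    (h : ES3 p (P : Subgroup G) Z) (hp2 : p ≠ 2) {z : G} (hz : z ∈ Z) (g : G)
    (hw : g * z * g⁻¹ ∈ (P : Subgroup G)) : g * z * g⁻¹ ∈ Z := by
  by_contra hwZ
  obtain ⟨g', hg', hg'E⟩ := h.exists_normalizing_conj P hp2 hz g hw
  rw [← hg'] at hw hwZ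
  obtain ⟨t, ht⟩ := h.exists_inverting hp2 hz g' hw hwZ hg'E
  obtain ⟨t₁, ht₁N, ht₁⟩ := h.exists_inverting_normalizer P hp2 t ht
  exact h.false_of_inverting hp2 t₁ ht₁N ht₁

end

end Cfsg.Agent.helper15
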