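import Mathlib
import Cfsg.Agent.Lib_helper15_ESRep1

set_option autoImplicit false

/-! Norm maps and the decomposition of a module under an elementary abelian group of order `p²`. -/

namespace Cfsg.Agent.helper15.ESRep

open scoped commutatorElement

variable {G V₀ : Type*} [Group G] [CommGroup V₀] (φ : G →* MulAut V₀)

theorem act_mul (g h : G) (v : V₀) : φ (g * h) v = φ g (φ h v) := by
  rw [map_mul, MulAut.mul_apply]

theorem act_one (v : V₀) : φ 1 v = v := by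
  rw [map_one, MulAut.one_apply]

theorem act_inv_act (g : G) (v : V₀) : φ g⁻¹ (φ g v) = v := by
  rw [← act_mul, inv_mul_cancel, act_one]

theorem act_act_inv (g : G) (v : V₀) : φ g (φ g⁻¹ v) = v := by
  rw [← act_mul, mul_inv_cancel, act_one]

/-- the fixed points of `g` -/
def fixSub (g : G) : Subgroup V₀ where
  carrier := {v | φ g v = v}
  mul_mem' := by
    intro a b ha hb
    simp only [Set.mem_setOf_eq] at *
    rw [map_mul, ha, hb]
  one_mem' := map_one _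
  inv_mem' := by
    intro a ha
    simp only [Set.mem_setOf_eq] at *
    rw [map_inv, ha]

theorem mem_fixSub {φ : G →* MulAut V₀} {g : G} {v : V₀} : v ∈ fixSub φ g ↔ φ g v = v := Iff.rfl

theorem act_pow_fixed {h : G} {v : V₀} (hfix : φ h v = v) (k : ℕ) : φ (h ^ k) v = v := by
  induction k with
  | zero => rw [pow_zero, act_one]
  | succ k ih => rw [pow_succ, act_mul, hfix, ih]

theorem act_pow_mem {h : G} {W : Subgroup V₀} (hW : ∀ v ∈ W, φ h v ∈ W) (k : ℕ) :
    ∀ v ∈ W, φ (h ^ k) v ∈ W := by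
  induction k with
  | zero => intro v hv; rw [pow_zero, act_one]; exact hv
  | succ k ih => intro v hv; rw [pow_succ, act_mul]; exact ih _ (hW v hv)

/-- the norm map -/
def nm (p : ℕ) (h : G) (v : V₀) : V₀ := ∏ k ∈ Finset.range p, φ (h ^ k) v

theorem nm_mul (p : ℕ) (h : G) (v w : V₀) : nm φ p h (v * w) = nm φ p h v * nm φ p h w := by
  unfold nm
  rw [← Finset.prod_mul_distrib]
  apply Finset.prod_congr rfl
  intro k _
  rw [map_mul]

theorem nm_one (p : ℕ) (h : G) : nm φ p h (1 : V₀) = 1 := by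
  unfold nm
  apply Finset.prod_eq_one
  intro k _
  rw [map_one]

/-- the norm map as a homomorphism -/
def nmHom (p : ℕ) (h : G) : V₀ →* V₀ where
  toFun := nm φ p h
  map_one' := nm_one φ p h
  map_mul' := nm_mul φ p h

theorem nm_mem (p : ℕ) {h : G} {W : Subgroup V₀} (hW : ∀ v ∈ W, φ h v ∈ W) {v : V₀} (hv : v ∈ W) :
    nm φ p h v ∈ W := by
  unfold nm
  apply Subgroup.prod_mem
  intro k _
  exact act_pow_mem φ hW k v hv

theorem nm_fixed {p : ℕ} {h : G} (hp : h ^ p = 1) (v : V₀) : φ h (nm φ p h v) = nm φ p h v := by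
  unfold nm
  rw [map_prod]
  have h1 : ∀ k, φ h (φ (h ^ k) v) = φ (h ^ (k + 1)) v := by
    intro k
    rw [← act_mul, ← pow_succ']
  simp only [h1]
  have h2 := Finset.prod_range_succ' (fun k => φ (h ^ k) v) p
  have h3 := Finset.prod_range_succ (fun k => φ (h ^ k) v) p
  rw [h3] at h2
  simp only [hp, pow_zero] at h2
  exact (mul_right_cancel h2).symm

theorem nm_of_fixed (p : ℕ) {h : G} {v : V₀} (hfix : φ h v = v) : nm φ p h v = v ^ p := by
  unfold nm
  rw [Finset.prod_congr rfl (fun k _ => act_pow_fixed φ hfix k), Finset.prod_const,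
    Finset.card_range]

theorem nm_equivariant (p : ℕ) {g h : G} (hgh : g * h = h * g) (v : V₀) :
    φ g (nm φ p h v) = nm φ p h (φ g v) := by
  unfold nm
  rw [map_prod]
  apply Finset.prod_congr rfl
  intro k _
  have : Commute g h := hgh
  rw [← act_mul, (this.pow_right k).eq, act_mul]

theorem nm_comm_mul (p : ℕ) {g d : G} {u : V₀} (hg : φ g u = u) (hgd : Commute g d) :
    nm φ p (g * d) u = nm φ p d u := by
  unfold nm
  apply Finset.prod_congr rfl
  intro k _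
  rw [hgd.mul_pow, ((hgd.pow_left k).pow_right k).eq, act_mul, act_pow_fixed φ hg]

/-- the hypotheses on the module -/
structure Hyp (p r : ℕ) (D Z : Subgroup G) (W : Subgroup V₀) : Prop where
  c2 : C2 p D Z
  hinv : ∀ d ∈ D, ∀ v ∈ W, φ d v ∈ W
  hexp : ∀ v ∈ W, v ^ r = 1
  hne : W ≠ ⊥
  hfpf : ∀ u ∈ Z, u ≠ 1 → ∀ v ∈ W, φ u v = v → v = 1

variable {φ} {p r : ℕ} {D Z : Subgroup G} {W : Subgroup V₀}

theorem eq_one_of_pow_pow [hp : Fact p.Prime] [hr : Fact r.Prime] (hpr : p ≠ r) {v : V₀}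
    (h1 : v ^ p = 1) (h2 : v ^ r = 1) : v = 1 := by
  have hcop : Nat.gcd p r = 1 := (Nat.coprime_primes hp.out hr.out).2 hpr
  have := (pow_gcd_eq_one (a := v) (m := p) (n := r)).2 ⟨h1, h2⟩
  rwa [hcop, pow_one] at this

theorem Hyp.nm_Z_eq_one (hy : Hyp φ p r D Z W) {u : G} (hu : u ∈ Z) (hu1 : u ≠ 1) {v : V₀}
    (hv : v ∈ W) : nm φ p u v = 1 :=
  hy.hfpf u hu hu1 _ (nm_mem φ p (hy.hinv u (hy.c2.hZD hu)) hv) (nm_fixed φ (hy.c2.Z_pow hu) v)

theorem pow_ne_one_of_lt [hp : Fact p.Prime] {c : G} (hcp : c ^ p = 1) (hc1 : c ≠ 1) {k : ℕ}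
    (hk0 : k ≠ 0) (hkp : k < p) : c ^ k ≠ 1 := by
  intro h
  have h1 : orderOf c = p := orderOf_eq_prime hcp hc1
  have h2 : p ∣ k := by
    have := orderOf_dvd_of_pow_eq_one h
    rwa [h1] at this
  have := Nat.le_of_dvd (Nat.pos_of_ne_zero hk0) h2
  omega

/-- the key identity -/
theorem Hyp.key_identity [hp : Fact p.Prime] (hy : Hyp φ p r D Z W) {x c : G} (hx : x ∈ D)
    (hc : c ∈ Z) (hc1 : c ≠ 1) {v : V₀} (hv : v ∈ W) :
    ∏ i ∈ Finset.range p, nm φ p (x * c ^ i) v = v ^ p := by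
  have hxc : Commute x c := hy.c2.hcent x hx c hc
  have h1 : ∀ i k : ℕ, φ ((x * c ^ i) ^ k) v = φ (x ^ k) (φ ((c ^ k) ^ i) v) := by
    intro i k
    rw [(hxc.pow_right i).mul_pow, ← pow_mul, mul_comm i k, pow_mul, act_mul]
  unfold nm
  simp only [h1]
  rw [Finset.prod_comm]
  have h2 : ∀ k ∈ Finset.range p, ∏ i ∈ Finset.range p, φ (x ^ k) (φ ((c ^ k) ^ i) v) =
      φ (x ^ k) (nm φ p (c ^ k) v) := by
    intro k _
    unfold nm
    rw [map_prod]
  rw [Finset.prod_congr rfl h2]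
  rw [Finset.prod_eq_single 0]
  · rw [pow_zero, pow_zero, act_one]
    apply nm_of_fixed
    exact act_one φ v
  · intro k hk hk0
    rw [hy.nm_Z_eq_one (Z.pow_mem hc k)
      (pow_ne_one_of_lt (hy.c2.Z_pow hc) hc1 hk0 (Finset.mem_range.1 hk)) hv, map_one]
  · intro h0
    exact absurd (Finset.mem_range.2 hp.out.pos) h0

/-- conjugation relation -/
theorem C2.conj_pow_rel (h : C2 p D Z) {x y : G} (hx : x ∈ D) (hy : y ∈ D) (i : ℕ) :
    y ^ i * (x * ⁅x, y⁆ ^ i) = x * y ^ i := by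
  set c := ⁅x, y⁆ with hc
  have hcZ : c ∈ Z := h.hcomm x hx y hy
  have hc' : ⁅y, x⁆ = c⁻¹ := by rw [hc, commutatorElement_inv]
  have h1 := pow_mul_comm_aux (a := x) (b := y) (c := ⁅y, x⁆)
    (h.hcent x hx _ (h.hcomm y hy x hx)).symm (h.hcent y hy _ (h.hcomm y hy x hx)).symm
    (by rw [commutatorElement_def]; group) i
  have hcy : Commute (y ^ i) (c ^ i) := by
    have : Commute y c := h.hcent y hy c hcZ
    exact (this.pow_left i).pow_right i
  have hcx : Commute x (c ^ i) := by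
    have : Commute x c := h.hcent x hx c hcZ
    exact this.pow_right i
  calc y ^ i * (x * c ^ i) = (y ^ i * x) * c ^ i := by group
    _ = (⁅y, x⁆ ^ i * x * y ^ i) * c ^ i := by rw [h1]
    _ = (c⁻¹) ^ i * x * (y ^ i * c ^ i) := by rw [hc']; group
    _ = (c⁻¹) ^ i * x * (c ^ i * y ^ i) := by rw [hcy.eq]
    _ = (c⁻¹) ^ i * (x * c ^ i) * y ^ i := by group
    _ = (c⁻¹) ^ i * (c ^ i * x) * y ^ i := by rw [hcx.eq]
    _ = x * y ^ i := by rw [inv_pow]; group

/-- independence of the fixed-point subgroups -/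
theorem Hyp.indep [hp : Fact p.Prime] [hr : Fact r.Prime] (hpr : p ≠ r) (hy : Hyp φ p r D Z W)
    {x c : G} (hx : x ∈ D) (hc : c ∈ Z) (hc1 : c ≠ 1) (u : Fin p → V₀)
    (hu : ∀ i : Fin p, u i ∈ W ∧ φ (x * c ^ (i : ℕ)) (u i) = u i) (hprod : ∏ i, u i = 1) :
    ∀ j : Fin p, u j = 1 := by
  intro j
  have h1 : nmHom φ p (x * c ^ (j : ℕ)) (∏ i, u i) = 1 := by rw [hprod, map_one]
  rw [map_prod, Finset.prod_eq_single j] at h1
  · have h2 : nm φ p (x * c ^ (j : ℕ)) (u j) = u j ^ p := nm_of_fixed φ p (hu j).2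
    have h3 : u j ^ p = 1 := h2 ▸ h1
    exact eq_one_of_pow_pow hpr h3 (hy.hexp _ (hu j).1)
  · intro i _ hij
    show nm φ p (x * c ^ (j : ℕ)) (u i) = 1
    set d := c ^ (p + (j : ℕ) - (i : ℕ)) with hd
    have hdZ : d ∈ Z := Z.pow_mem hc _
    have hcp : c ^ p = 1 := hy.c2.Z_pow hc
    have hd1 : d ≠ 1 := by
      intro h
      have h1 : orderOf c = p := orderOf_eq_prime hcp hc1
      have h2 : p ∣ p + (j : ℕ) - (i : ℕ) := by
        have := orderOf_dvd_of_pow_eq_one h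
        rwa [h1] at this
      obtain ⟨m, hm⟩ := h2
      have hi := i.2
      have hj := j.2
      have hne : (i : ℕ) ≠ (j : ℕ) := fun h' => hij (Fin.ext h')
      rcases Nat.lt_or_ge m 1 with h0 | h0
      · have : m = 0 := by omega
        rw [this, mul_zero] at hm
        omega
      · rcases Nat.lt_or_ge m 2 with h0' | h0'
        · have : m = 1 := by omega
          rw [this, mul_one] at hm
          omega
        · have : p * 2 ≤ p * m := Nat.mul_le_mul_left p h0'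
          omega
    have heq : x * c ^ (j : ℕ) = (x * c ^ (i : ℕ)) * d := by
      rw [hd, mul_assoc, ← pow_add]
      have : (i : ℕ) + (p + (j : ℕ) - (i : ℕ)) = (j : ℕ) + p := by
        have := i.2
        omega
      rw [this, pow_add, hcp, mul_one]
    have hcomm : Commute (x * c ^ (i : ℕ)) d :=
      hy.c2.hcent _ (D.mul_mem hx (D.pow_mem (hy.c2.hZD hc) _)) d hdZ
    rw [heq, nm_comm_mul φ p (hu i).2 hcomm]
    exact hy.nm_Z_eq_one hdZ hd1 (hu i).1
  · intro hj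
    exact absurd (Finset.mem_univ j) hj

/-- the inductive step -/
theorem Hyp.step [hp : Fact p.Prime] [hr : Fact r.Prime] [Finite G] [Finite V₀] (hpr : p ≠ r)
    (hy : Hyp φ p r D Z W) {x y : G} (hx : x ∈ D) (hy' : y ∈ D) (hxp : x ^ p = 1)
    (hxy : ⁅x, y⁆ ≠ 1) :
    Hyp φ p r (D ⊓ Subgroup.centralizer ({x} : Set G)) Z (W ⊓ fixSub φ x) ∧
      Nat.card ↥(W ⊓ fixSub φ x) ^ p ≤ Nat.card ↥W := by
  set c := ⁅x, y⁆ with hc
  have hcZ : c ∈ Z := hy.c2.hcomm x hx y hy'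
  have hrel : ∀ i : ℕ, y ^ i * (x * c ^ i) = x * y ^ i := hy.c2.conj_pow_rel hx hy'
  have hxcD : ∀ i : ℕ, x * c ^ i ∈ D := fun i => D.mul_mem hx (D.pow_mem (hy.c2.hZD hcZ) i)
  have hxcp : ∀ i : ℕ, (x * c ^ i) ^ p = 1 := by
    intro i
    have : Commute x (c ^ i) := (show Commute x c from hy.c2.hcent x hx c hcZ).pow_right i
    rw [this.mul_pow, hxp, hy.c2.Z_pow (Z.pow_mem hcZ i), one_mul]
  -- transport between the fixed-point subgroups
  have hb : ∀ (i : ℕ) (v : V₀), v ∈ W → φ (x * c ^ i) v = v → φ (y ^ i) v ∈ W ⊓ fixSub φ x := by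
    intro i v hv hfix
    refine Subgroup.mem_inf.2 ⟨hy.hinv _ (D.pow_mem hy' i) v hv, ?_⟩
    rw [mem_fixSub, ← act_mul, ← hrel i, act_mul, hfix]
  have hc' : ∀ (i : ℕ) (v : V₀), v ∈ W ⊓ fixSub φ x →
      φ (y ^ i)⁻¹ v ∈ W ∧ φ (x * c ^ i) (φ (y ^ i)⁻¹ v) = φ (y ^ i)⁻¹ v := by
    intro i v hv
    refine ⟨hy.hinv _ (D.inv_mem (D.pow_mem hy' i)) v (Subgroup.mem_inf.1 hv).1, ?_⟩
    have h1 : (x * c ^ i) * (y ^ i)⁻¹ = (y ^ i)⁻¹ * x := by
      rw [eq_inv_mul_iff_mul_eq, ← mul_assoc, hrel i, mul_assoc, mul_inv_cancel, mul_one]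
    rw [← act_mul, h1, act_mul, mem_fixSub.1 (Subgroup.mem_inf.1 hv).2]
  -- the fixed points of `x` are nontrivial
  have hU : W ⊓ fixSub φ x ≠ ⊥ := by
    intro hbot
    apply hy.hne
    rw [Subgroup.eq_bot_iff_forall]
    intro v hv
    have hkey := hy.key_identity hx hcZ hxy hv
    have h1 : ∀ i ∈ Finset.range p, nm φ p (x * c ^ i) v = 1 := by
      intro i _
      have h2 := hb i _ (nm_mem φ p (hy.hinv _ (hxcD i)) hv) (nm_fixed φ (hxcp i) v)
      rw [hbot, Subgroup.mem_bot] at h2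
      have h3 := act_inv_act φ (y ^ i) (nm φ p (x * c ^ i) v)
      rw [h2, map_one] at h3
      exact h3.symm
    rw [Finset.prod_eq_one h1] at hkey
    exact eq_one_of_pow_pow hpr hkey.symm (hy.hexp v hv)
  have hZcent : Z ≤ Subgroup.centralizer ({x} : Set G) := by
    intro u hu
    rw [Subgroup.mem_centralizer_singleton_iff]
    exact (hy.c2.hcent x hx u hu).symm
  refine ⟨⟨hy.c2.mono inf_le_left (le_inf hy.c2.hZD hZcent), ?_, ?_, hU, ?_⟩, ?_⟩
  · intro d hd v hv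
    have hdD := (Subgroup.mem_inf.1 hd).1
    have hdx : d * x = x * d := Subgroup.mem_centralizer_singleton_iff.1 (Subgroup.mem_inf.1 hd).2
    refine Subgroup.mem_inf.2 ⟨hy.hinv d hdD v (Subgroup.mem_inf.1 hv).1, ?_⟩
    rw [mem_fixSub, ← act_mul, ← hdx, act_mul, mem_fixSub.1 (Subgroup.mem_inf.1 hv).2]
  · intro v hv
    exact hy.hexp v (Subgroup.mem_inf.1 hv).1
  · intro u hu hu1 v hv hfix
    exact hy.hfpf u hu hu1 v (Subgroup.mem_inf.1 hv).1 hfix
  · -- the cardinality estimate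
    let F : (Fin p → ↥(W ⊓ fixSub φ x)) → ↥W := fun f =>
      ⟨∏ i : Fin p, φ (y ^ (i : ℕ))⁻¹ (f i : V₀), by
        apply Subgroup.prod_mem
        intro i _
        exact (hc' i _ (f i).2).1⟩
    have hF : Function.Injective F := by
      intro f g hfg
      have h1 : ∏ i : Fin p, φ (y ^ (i : ℕ))⁻¹ (f i : V₀) =
          ∏ i : Fin p, φ (y ^ (i : ℕ))⁻¹ (g i : V₀) := congrArg Subtype.val hfg
      set u : Fin p → V₀ := fun i =>
        φ (y ^ (i : ℕ))⁻¹ (f i : V₀) * (φ (y ^ (i : ℕ))⁻¹ (g i : V₀))⁻¹ with hu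
      have hu1 : ∀ i : Fin p, u i ∈ W ∧ φ (x * c ^ (i : ℕ)) (u i) = u i := by
        intro i
        obtain ⟨a1, a2⟩ := hc' i _ (f i).2
        obtain ⟨b1, b2⟩ := hc' i _ (g i).2
        refine ⟨W.mul_mem a1 (W.inv_mem b1), ?_⟩
        rw [hu]
        simp only
        rw [map_mul, map_inv (φ (x * c ^ (i : ℕ))), a2, b2]
      have hprod : ∏ i, u i = 1 := by
        rw [hu]
        simp only
        rw [Finset.prod_mul_distrib, Finset.prod_inv_distrib, h1, mul_inv_cancel]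
      have h2 := hy.indep hpr hx hcZ hxy u hu1 hprod
      funext i
      have h3 := h2 i
      rw [hu] at h3
      simp only at h3
      rw [mul_inv_eq_one] at h3
      have h4 := (φ (y ^ (i : ℕ))⁻¹).injective h3
      exact Subtype.ext h4
    have h5 := Nat.card_le_card_of_injective F hF
    rwa [Nat.card_fun, Nat.card_fin] at h5

/-- the base case -/
theorem Hyp.base [hp : Fact p.Prime] [hr : Fact r.Prime] [Finite V₀]
    (hy : Hyp φ p r D Z W) (n : ℕ) (hmin : ∀ k : ℕ, 1 ≤ k → p ∣ r ^ k - 1 → n ≤ k) :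
    r ^ n ≤ Nat.card ↥W := by
  have hWp : IsPGroup r ↥W := by
    intro v
    refine ⟨1, ?_⟩
    rw [pow_one]
    apply Subtype.ext
    simpa using hy.hexp v v.2
  obtain ⟨k, hk⟩ := (IsPGroup.iff_card).1 hWp
  have hk0 : 1 ≤ k := by
    by_contra h0
    have : k = 0 := by omega
    rw [this, pow_zero] at hk
    exact hy.hne (Subgroup.eq_bot_of_card_eq _ hk)
  letI : MulAction ↥Z ↥W :=
    { smul := fun u v => ⟨φ (u : G) (v : V₀), hy.hinv u (hy.c2.hZD u.2) v v.2⟩
      one_smul := by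
        intro v
        apply Subtype.ext
        show φ ((1 : ↥Z) : G) (v : V₀) = v
        rw [Subgroup.coe_one, act_one]
      mul_smul := by
        intro a b v
        apply Subtype.ext
        show φ ((a * b : ↥Z) : G) (v : V₀) = φ (a : G) (φ (b : G) (v : V₀))
        rw [Subgroup.coe_mul, act_mul] }
  have hZp : IsPGroup p ↥Z := IsPGroup.of_card (n := 1) (by rw [hy.c2.hZcard, pow_one])
  have hmod := hZp.card_modEq_card_fixedPoints ↥W
  have hfix : Nat.card ↥(MulAction.fixedPoints ↥Z ↥W) = 1 := by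
    rw [Nat.card_eq_one_iff_unique]
    obtain ⟨u, hu, hu1⟩ := hy.c2.exists_ne_one
    refine ⟨⟨?_⟩, ⟨⟨1, ?_⟩⟩⟩
    · rintro ⟨a, ha⟩ ⟨b, hb⟩
      have ha1 : (a : V₀) = 1 := hy.hfpf u hu hu1 a a.2 (congrArg Subtype.val (ha ⟨u, hu⟩))
      have hb1 : (b : V₀) = 1 := hy.hfpf u hu hu1 b b.2 (congrArg Subtype.val (hb ⟨u, hu⟩))
      apply Subtype.ext
      apply Subtype.ext
      rw [ha1, hb1]
    · intro u
      apply Subtype.ext
      show φ (u : G) ((1 : ↥W) : V₀) = ((1 : ↥W) : V₀)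
      rw [Subgroup.coe_one, map_one]
  rw [hfix, hk] at hmod
  have h1 : 1 ≤ r ^ k := Nat.one_le_pow _ _ hr.out.pos
  have hdvd : p ∣ r ^ k - 1 := (Nat.modEq_iff_dvd' h1).1 hmod.symm
  rw [hk]
  exact Nat.pow_le_pow_right hr.out.pos (hmin k hk0 hdvd)

/-- the second base case: a noncommuting pair forces rank at least two -/
theorem Hyp.base_two [hp : Fact p.Prime] [hr : Fact r.Prime] [Finite V₀]
    (hy : Hyp φ p r D Z W) {x y : G} (hx : x ∈ D) (hy' : y ∈ D) (hxy : ⁅x, y⁆ ≠ 1) :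
    r ^ 2 ≤ Nat.card ↥W := by
  have hWp : IsPGroup r ↥W := by
    intro v
    refine ⟨1, ?_⟩
    rw [pow_one]
    apply Subtype.ext
    simpa using hy.hexp v v.2
  obtain ⟨k, hk⟩ := (IsPGroup.iff_card).1 hWp
  rw [hk]
  apply Nat.pow_le_pow_right hr.out.pos
  by_contra hk2
  have hk0 : k ≠ 0 := by
    intro h0
    rw [h0, pow_zero] at hk
    exact hy.hne (Subgroup.eq_bot_of_card_eq _ hk)
  have hk1 : k = 1 := by omega
  rw [hk1, pow_one] at hk
  haveI : IsCyclic ↥W := isCyclic_of_prime_card hk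
  obtain ⟨g, hg⟩ := IsCyclic.exists_generator (α := ↥W)
  have hg1 : (g : V₀) ≠ 1 := by
    intro h1
    apply hy.hne
    rw [Subgroup.eq_bot_iff_forall]
    intro v hv
    obtain ⟨m, hm⟩ := Subgroup.mem_zpowers_iff.1 (hg ⟨v, hv⟩)
    have := congrArg Subtype.val hm
    simp only [Subgroup.coe_zpow] at this
    rw [← this, h1, one_zpow]
  obtain ⟨a, ha⟩ := Subgroup.mem_zpowers_iff.1 (hg ⟨φ x g, hy.hinv x hx g g.2⟩)
  obtain ⟨b, hb⟩ := Subgroup.mem_zpowers_iff.1 (hg ⟨φ y g, hy.hinv y hy' g g.2⟩)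
  have ha' : φ x (g : V₀) = (g : V₀) ^ a := by
    have := congrArg Subtype.val ha
    simpa using this.symm
  have hb' : φ y (g : V₀) = (g : V₀) ^ b := by
    have := congrArg Subtype.val hb
    simpa using this.symm
  have h1 : φ (x * y) (g : V₀) = φ (y * x) (g : V₀) := by
    rw [act_mul, act_mul, hb', ha', map_zpow, map_zpow, ha', hb', ← zpow_mul, ← zpow_mul, mul_comm]
  set c := ⁅x, y⁆ with hc
  have h2 : x * y = c * (y * x) := by rw [hc, commutatorElement_def]; group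
  rw [h2, act_mul] at h1
  have h3 := hy.hfpf c (hy.c2.hcomm x hx y hy') hxy _ (hy.hinv _ (D.mul_mem hy' hx) g g.2) h1
  have h4 : (g : V₀) = 1 := by
    have := act_inv_act φ (y * x) (g : V₀)
    rw [h3, map_one] at this
    exact this.symm
  exact hg1 h4

end Cfsg.Agent.helper15.ESRep
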