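import Mathlib
import Cfsg.Prelude.Def_Transfer
import Cfsg.Agent.Lib_helper15_ESRep2
import Cfsg.Agent.Lib_helper1_PGroup

set_option autoImplicit false

/-! The main induction: a faithful module for an extraspecial group of order `p^(2w+1)` over the
field with `r` elements has order at least `r^(n p^w)`. -/

namespace Cfsg.Agent.helper15.ESRep

open scoped commutatorElement

variable {G V₀ : Type*} [Group G] [CommGroup V₀] {φ : G →* MulAut V₀} {p r : ℕ} {Z : Subgroup G}

theorem main_ind [Finite G] [Finite V₀] [hp : Fact p.Prime] [hr : Fact r.Prime] (hpr : p ≠ r)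
    (n : ℕ) (hn : 1 ≤ n) (hmin : ∀ k : ℕ, 1 ≤ k → p ∣ r ^ k - 1 → n ≤ k) :
    ∀ (N : ℕ) (D : Subgroup G) (W : Subgroup V₀), Nat.card ↥D ≤ N → Hyp φ p r D Z W →
      ∀ k : ℕ, p ^ (2 * k) * Nat.card ↥(Zc D) ≤ Nat.card ↥D → r ^ (n * p ^ k) ≤ Nat.card ↥W := by
  intro N
  induction N with
  | zero =>
    intro D W hN
    exfalso
    have := Nat.card_pos (α := ↥D)
    omega
  | succ N ih =>
    intro D W hN hy k hk
    rcases Nat.eq_zero_or_pos k with rfl | hkpos
    · simpa using hy.base n hmin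
    obtain ⟨k', rfl⟩ : ∃ k', k = k' + 1 := ⟨k - 1, by omega⟩
    have hppos := hp.out.pos
    have hp2le := hp.out.two_le
    have hzpos : 0 < Nat.card ↥(Zc D) := Nat.card_pos
    have hdpos : 0 < Nat.card ↥D := Nat.card_pos
    have hnonab : ∃ x ∈ D, ∃ y ∈ D, ⁅x, y⁆ ≠ 1 := by
      by_contra hcon
      push Not at hcon
      have hZcD : Zc D = D := by
        apply le_antisymm (fun u hu => (mem_Zc.1 hu).1)
        intro u hu
        refine mem_Zc.2 ⟨hu, fun d hd => ?_⟩
        exact commutatorElement_eq_one_iff_mul_comm.1 (hcon d hd u hu)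
      rw [hZcD] at hk
      have h4 : 1 < p ^ (2 * (k' + 1)) := Nat.one_lt_pow (by omega) hp.out.one_lt
      have h5 : p ^ (2 * (k' + 1)) * Nat.card ↥D ≤ 1 * Nat.card ↥D := by simpa using hk
      have := Nat.le_of_mul_le_mul_right h5 hdpos
      omega
    by_cases hgood : ∃ x ∈ D, ∃ y ∈ D, x ^ p = 1 ∧ ⁅x, y⁆ ≠ 1
    · obtain ⟨x, hx, y, hy', hxp, hxy⟩ := hgood
      obtain ⟨hy₁, hcard⟩ := hy.step hpr hx hy' hxp hxy
      have hD : Nat.card ↥D = p * Nat.card ↥(D ⊓ Subgroup.centralizer ({x} : Set G)) :=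
        hy.c2.card_eq_mul le_rfl hx ⟨y, hy', comm_ne_one_symm hxy⟩
      have hZ₁ := hy.c2.card_Zc_le hx hy' hxy
      have hd₁pos : 0 < Nat.card ↥(D ⊓ Subgroup.centralizer ({x} : Set G)) := Nat.card_pos
      have hle : Nat.card ↥(D ⊓ Subgroup.centralizer ({x} : Set G)) ≤ N := by
        have : 2 * Nat.card ↥(D ⊓ Subgroup.centralizer ({x} : Set G)) ≤
            p * Nat.card ↥(D ⊓ Subgroup.centralizer ({x} : Set G)) := Nat.mul_le_mul_right _ hp2le
        omega
      have hk' : p ^ (2 * k') * Nat.card ↥(Zc (D ⊓ Subgroup.centralizer ({x} : Set G))) ≤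
          Nat.card ↥(D ⊓ Subgroup.centralizer ({x} : Set G)) := by
        have e : p ^ (2 * (k' + 1)) * Nat.card ↥(Zc D) =
            p * (p ^ (2 * k') * p * Nat.card ↥(Zc D)) := by ring
        rw [e, hD] at hk
        have h5 := Nat.le_of_mul_le_mul_left hk hppos
        calc p ^ (2 * k') * Nat.card ↥(Zc (D ⊓ Subgroup.centralizer ({x} : Set G)))
            ≤ p ^ (2 * k') * (p * Nat.card ↥(Zc D)) := Nat.mul_le_mul_left _ hZ₁
          _ = p ^ (2 * k') * p * Nat.card ↥(Zc D) := by ring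
          _ ≤ Nat.card ↥(D ⊓ Subgroup.centralizer ({x} : Set G)) := h5
      have h6 := ih _ _ hle hy₁ k' hk'
      calc r ^ (n * p ^ (k' + 1)) = (r ^ (n * p ^ k')) ^ p := by rw [← pow_mul]; ring_nf
        _ ≤ (Nat.card ↥(W ⊓ fixSub φ x)) ^ p := Nat.pow_le_pow_left h6 p
        _ ≤ Nat.card ↥W := hcard
    · push Not at hgood
      obtain ⟨x, hx, y, hy', hxy⟩ := hnonab
      by_cases hp2 : p = 2
      · subst hp2
        have hno : ∀ x ∈ D, ∀ y ∈ D, x ^ 2 = 1 → ⁅x, y⁆ = 1 :=
          fun a ha b hb h2 => hgood a ha b hb h2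
        have h4 := hy.c2.card_le_of_no_good hno hx hy' hxy
        have hk0 : k' = 0 := by
          by_contra hne
          have h16 : 2 ^ 4 ≤ 2 ^ (2 * (k' + 1)) := Nat.pow_le_pow_right (by norm_num) (by omega)
          have : 16 * Nat.card ↥(Zc D) ≤ 2 ^ (2 * (k' + 1)) * Nat.card ↥(Zc D) :=
            Nat.mul_le_mul_right _ (by simpa using h16)
          omega
        subst hk0
        have hn1 : n = 1 := by
          have : n ≤ 1 := hmin 1 le_rfl (by
            rw [pow_one]
            rcases hr.out.eq_two_or_odd' with h2 | hodd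
            · exact absurd h2.symm hpr
            · obtain ⟨m, hm⟩ := hodd
              exact ⟨m, by omega⟩)
          omega
        subst hn1
        simpa using hy.base_two hx hy' hxy
      · obtain ⟨x', hx', y', hy'', h1, h2⟩ := hy.c2.exists_good_of_odd hp2 hx hy' hxy
        exact absurd (hgood x' hx' y' hy'' h1) h2

/-- the abstract form of the theorem -/
theorem esrep_main {G V₀ : Type*} [Group G] [Finite G] [CommGroup V₀] [Finite V₀] {p r : ℕ}
    [hp : Fact p.Prime] [hr : Fact r.Prime] (hpr : p ≠ r) (φ : G →* MulAut V₀)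
    (hexp : ∀ v : V₀, v ^ r = 1) (hfaith : ∀ g : G, (∀ v, φ g v = v) → g = 1)
    (hE : Cfsg.IsExtraspecial p G) (w : ℕ) (hcard : Nat.card G = p ^ (2 * w + 1)) (n : ℕ)
    (hn : 1 ≤ n) (hmin : ∀ k : ℕ, 1 ≤ k → p ∣ r ^ k - 1 → n ≤ k) :
    r ^ (n * p ^ w) ≤ Nat.card V₀ := by
  obtain ⟨⟨hPp, hfr, hcm⟩, hZc⟩ := hE
  set Z := Subgroup.center G with hZ
  have hc2 : C2 p (⊤ : Subgroup G) Z := by
    refine ⟨le_top, hZc, fun d _ u hu => Subgroup.mem_center_iff.1 hu d, ?_, ?_⟩
    · intro a _ b _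
      rw [← hcm, commutator_def]
      exact Subgroup.commutator_mem_commutator (Subgroup.mem_top a) (Subgroup.mem_top b)
    · intro a _
      rw [← hfr]
      exact Cfsg.Agent.helper1.pow_mem_frattini_of_isPGroup hPp a
  obtain ⟨z, hzZ, hz1⟩ := hc2.exists_ne_one
  set W : Subgroup V₀ := (nmHom φ p z).ker with hW
  have hzp : z ^ p = 1 := hc2.Z_pow hzZ
  have hmemW : ∀ v, v ∈ W ↔ nm φ p z v = 1 := fun v => MonoidHom.mem_ker
  have hy : Hyp φ p r ⊤ Z W := by
    refine ⟨hc2, ?_, fun v _ => hexp v, ?_, ?_⟩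
    · intro d _ v hv
      rw [hmemW] at hv ⊢
      rw [← nm_equivariant φ p (Subgroup.mem_center_iff.1 hzZ d), hv, map_one]
    · intro hbot
      have hinj : Function.Injective (nmHom φ p z) := (MonoidHom.ker_eq_bot_iff _).1 hbot
      have hle : Nat.card V₀ ≤ Nat.card ↥(fixSub φ z) :=
        Nat.card_le_card_of_injective
          (fun v => (⟨nmHom φ p z v, nm_fixed φ hzp v⟩ : ↥(fixSub φ z)))
          (fun a b hab => hinj (congrArg Subtype.val hab))
      have htop := Subgroup.eq_top_of_le_card _ hle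
      apply hz1
      apply hfaith
      intro v
      have : v ∈ fixSub φ z := htop ▸ Subgroup.mem_top v
      exact this
    · intro u hu hu1 v hv hfix
      obtain ⟨j, hj⟩ := hc2.Z_gen hu hu1 hzZ
      have hfz : φ z v = v := by rw [← hj]; exact act_pow_fixed φ hfix j
      rw [hmemW, nm_of_fixed φ p hfz] at hv
      exact eq_one_of_pow_pow hpr hv (hexp v)
  have hZcTop : Zc (⊤ : Subgroup G) = Z := by
    ext u
    rw [mem_Zc, Subgroup.mem_center_iff]
    constructor
    · rintro ⟨-, h⟩ g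
      exact h g (Subgroup.mem_top g)
    · intro h
      exact ⟨Subgroup.mem_top u, fun d _ => h d⟩
  have hcardtop : Nat.card ↥(⊤ : Subgroup G) = Nat.card G := Subgroup.card_top
  have key := main_ind (φ := φ) (Z := Z) hpr n hn hmin (Nat.card G) ⊤ W (by rw [hcardtop]) hy w
    (by rw [hZcTop, hZc, hcardtop, hcard, pow_succ])
  exact key.trans (Subgroup.card_le_card_group W)

end Cfsg.Agent.helper15.ESRep
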