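import Mathlib
import Cfsg.Agent.Lib_helper15_ExtClosed

set_option autoImplicit false

namespace Cfsg.Agent.helper15

open MulAction

section Transfer

variable {G : Type*} [Group G] [Finite G] {A : Type*} [CommGroup A]

theorem phi_conj_eq {M : Subgroup G} (ϕ : ↥M →* A) (m t : G) (hm : m ∈ M) (ht : t ∈ M) (n : ℕ)
    (hn : n = 1) (hy : t⁻¹ * m ^ n * t ∈ M) : ϕ ⟨t⁻¹ * m ^ n * t, hy⟩ = ϕ ⟨m, hm⟩ := by
  subst hn
  have : (⟨t⁻¹ * m ^ 1 * t, hy⟩ : ↥M) = (⟨t, ht⟩ : ↥M)⁻¹ * ⟨m, hm⟩ * ⟨t, ht⟩ :=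
    Subtype.ext (by simp)
  rw [this, map_mul, map_mul, map_inv]
  rw [mul_comm ((ϕ ⟨t, ht⟩)⁻¹), mul_assoc, inv_mul_cancel, mul_one]

/-- If elements of `M \ H` fix a single point of `G / M`, the transfer into `M / H` restricts
to `ϕ` on `M \ H`. -/
theorem transfer_eq_of_unique_fixed_point (M H : Subgroup G) (ϕ : ↥M →* A)
    (hϕ : ∀ y : ↥M, (y : G) ∈ H → ϕ y = 1)
    (hfix : ∀ x ∈ M, x ∉ H → ∀ t : G, t * x * t⁻¹ ∈ M → t ∈ M)
    (m : G) (hm : m ∈ M) (hmH : m ∉ H) :
    MonoidHom.transfer ϕ m = ϕ ⟨m, hm⟩ := by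
  classical
  letI : Fintype (Quotient (orbitRel (Subgroup.zpowers m) (G ⧸ M))) := Fintype.ofFinite _
  rw [MonoidHom.transfer_eq_prod_quotient_orbitRel_zpowers_quot]
  set q₀ : Quotient (orbitRel (Subgroup.zpowers m) (G ⧸ M)) :=
    Quotient.mk'' ((1 : G) : G ⧸ M) with hq₀
  -- the orbit of the base point is trivial
  have hfixpt : ∀ z : Subgroup.zpowers m, z • (((1 : G) : G ⧸ M)) = ((1 : G) : G ⧸ M) := by
    rintro ⟨z, hz⟩
    have hzM : z ∈ M := (Subgroup.zpowers_le.2 hm) hz
    change ((z * 1 : G) : G ⧸ M) = ((1 : G) : G ⧸ M)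
    rw [QuotientGroup.eq]
    simpa using hzM
  have hout₀ : q₀.out = ((1 : G) : G ⧸ M) := by
    have h1 : (orbitRel (Subgroup.zpowers m) (G ⧸ M)) q₀.out ((1 : G) : G ⧸ M) :=
      Quotient.mk_out' _
    rw [orbitRel_apply] at h1
    obtain ⟨z, hz⟩ := h1
    rw [← hz]; exact hfixpt z
  rw [Finset.prod_eq_single q₀]
  · -- the base orbit
    have ht : Quotient.out q₀.out ∈ M := by
      have h1 : ((Quotient.out q₀.out : G) : G ⧸ M) = ((1 : G) : G ⧸ M) := by
        rw [QuotientGroup.out_eq', hout₀]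
      rw [QuotientGroup.eq] at h1
      have h2 := M.inv_mem h1
      simpa using h2
    have hper : Function.minimalPeriod (fun x => m • x) q₀.out = 1 := by
      rw [Function.minimalPeriod_eq_one_iff_isFixedPt, hout₀]
      exact hfixpt ⟨m, Subgroup.mem_zpowers m⟩
    exact phi_conj_eq ϕ m _ hm ht _ hper _
  · intro q _ hq
    apply hϕ
    by_contra hnot
    apply hq
    have hyM := QuotientGroup.out_conj_pow_minimalPeriod_mem M m q.out
    have ht : Quotient.out q.out ∈ M := by
      apply hfix _ hyM hnot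
      have e : Quotient.out q.out *
          ((Quotient.out q.out)⁻¹ * m ^ Function.minimalPeriod (fun x => m • x) q.out *
            Quotient.out q.out) * (Quotient.out q.out)⁻¹ =
          m ^ Function.minimalPeriod (fun x => m • x) q.out := by group
      rw [e]; exact M.pow_mem hm _
    have h1 : q.out = ((1 : G) : G ⧸ M) := by
      rw [← QuotientGroup.out_eq' q.out, QuotientGroup.eq]
      simpa using M.inv_mem ht
    rw [← Quotient.out_eq' q, h1]
  · intro h; exact absurd (Finset.mem_univ _) h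

end Transfer

section Main

variable {G : Type*} [Group G] [Finite G]

/-- Flavell: `H < M < G` maximal in each other, `⟨H, H^g⟩ ∩ M = H` for all `g`; then the normal
closure of `H` meets `M` in `H`. -/
theorem flavell_normalClosure_inf (H M : Subgroup G) (hHM : H ≤ M)
    (hcl : ∀ g : G, (H ⊔ H.map (MulAut.conj g).toMonoidHom) ⊓ M = H)
    (hmaxH : IsCoatom (H.subgroupOf M)) (hmaxM : IsCoatom M) :
    Subgroup.normalClosure (H : Set G) ⊓ M = H := by
  classical
  -- weak closure
  have hWC : ∀ g : G, H.map (MulAut.conj g).toMonoidHom ≤ M →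
      g ∈ Subgroup.normalizer (H : Set G) := by
    intro g hg
    apply mem_normalizer_of_map_conj_le
    have h1 : H ⊔ H.map (MulAut.conj g).toMonoidHom ≤ M := sup_le hHM hg
    have h2 := hcl g
    rw [inf_eq_left.2 h1] at h2
    exact le_sup_right.trans (le_of_eq h2)
  have hMN : M ≤ Subgroup.normalizer (H : Set G) := by
    intro m hm
    apply hWC
    rintro _ ⟨h, hh, rfl⟩
    simp only [MulEquiv.coe_toMonoidHom, MulAut.conj_apply]
    exact M.mul_mem (M.mul_mem hm (hHM hh)) (M.inv_mem hm)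
  have hge : H ≤ Subgroup.normalClosure (H : Set G) ⊓ M :=
    le_inf Subgroup.subset_normalClosure hHM
  by_cases hN : Subgroup.normalizer (H : Set G) = ⊤
  · haveI : H.Normal := Subgroup.normalizer_eq_top_iff.1 hN
    rw [Subgroup.normalClosure_eq_self]
    exact inf_eq_left.2 hHM
  have hNM : Subgroup.normalizer (H : Set G) = M := by
    rcases eq_or_lt_of_le hMN with h | h
    · exact h.symm
    · exact absurd (hmaxM.2 _ h) hN
  -- a subgroup of `M` containing `H` and an element outside `H` contains `M`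
  have hgen : ∀ (N : Subgroup G), H ≤ N → ∀ x ∈ M, x ∉ H → x ∈ N → M ≤ N := by
    intro N hHN x hxM hxH hxN
    have h1 : H.subgroupOf M < N.subgroupOf M := by
      refine lt_of_le_of_ne (fun y hy => Subgroup.mem_subgroupOf.2
        (hHN (Subgroup.mem_subgroupOf.1 hy))) ?_
      · intro e
        have : (⟨x, hxM⟩ : ↥M) ∈ N.subgroupOf M := Subgroup.mem_subgroupOf.2 hxN
        rw [← e] at this
        exact hxH (Subgroup.mem_subgroupOf.1 this)
    have h2 := hmaxH.2 _ h1
    intro y hy
    have : (⟨y, hy⟩ : ↥M) ∈ N.subgroupOf M := by rw [h2]; trivial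
    exact Subgroup.mem_subgroupOf.1 this
  refine le_antisymm ?_ hge
  by_cases hcase : ∃ x ∈ M, x ∉ H ∧ ∃ t : G, t ∉ M ∧ t * x * t⁻¹ ∈ M
  · -- Case 1: `T = ⟨H, H^{t⁻¹}⟩` is normal
    obtain ⟨x, hxM, hxH, t, htM, htx⟩ := hcase
    set T : Subgroup G := H ⊔ H.map (MulAut.conj t⁻¹).toMonoidHom with hT
    have hTM : T ⊓ M = H := hcl t⁻¹
    have hxT : x ∈ Subgroup.normalizer (T : Set G) := by
      apply mem_normalizer_of_map_conj_le
      rw [hT, Subgroup.map_sup]
      apply sup_le
      · refine le_trans ?_ le_sup_left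
        rintro _ ⟨h, hh, rfl⟩
        simp only [MulEquiv.coe_toMonoidHom, MulAut.conj_apply]
        exact (Subgroup.mem_normalizer_iff.1 (hMN hxM) h).1 hh
      · refine le_trans ?_ le_sup_right
        rintro _ ⟨_, ⟨h, hh, rfl⟩, rfl⟩
        simp only [MulEquiv.coe_toMonoidHom, MulAut.conj_apply]
        refine ⟨(t * x * t⁻¹) * h * (t * x * t⁻¹)⁻¹,
          (Subgroup.mem_normalizer_iff.1 (hMN htx) h).1 hh, ?_⟩
        simp only [MulEquiv.coe_toMonoidHom, MulAut.conj_apply]
        group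
    have hMT : M ≤ Subgroup.normalizer (T : Set G) :=
      hgen _ (le_sup_left.trans Subgroup.le_normalizer) x hxM hxH hxT
    have hTn : Subgroup.normalizer (T : Set G) = ⊤ := by
      rcases eq_or_lt_of_le hMT with h | h
      · exfalso
        have h1 : H.map (MulAut.conj t⁻¹).toMonoidHom ≤ M := by
          rw [h]; exact le_sup_right.trans Subgroup.le_normalizer
        have h2 := hWC t⁻¹ h1
        rw [hNM] at h2
        exact htM (by simpa using M.inv_mem h2)
      · exact hmaxM.2 _ h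
    haveI : T.Normal := Subgroup.normalizer_eq_top_iff.1 hTn
    have hKT : Subgroup.normalClosure (H : Set G) ≤ T :=
      Subgroup.normalClosure_le_normal (by exact_mod_cast (le_sup_left : H ≤ T))
    exact (inf_le_inf_right M hKT).trans (le_of_eq hTM)
  · -- Case 2: transfer
    push Not at hcase
    have hfix : ∀ x ∈ M, x ∉ H → ∀ t : G, t * x * t⁻¹ ∈ M → t ∈ M := by
      intro x hxM hxH t ht
      by_contra htM
      exact hcase x hxM hxH t htM ht
    haveI hHn : (H.subgroupOf M).Normal :=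
      (Subgroup.normal_subgroupOf_iff_le_normalizer hHM).2 hMN
    -- the quotient `M / H` is commutative
    have hcomm : ∀ a b : ↥M ⧸ H.subgroupOf M, a * b = b * a := by
      intro a b
      by_cases ha : a = 1
      · rw [ha, one_mul, mul_one]
      have h1 : H.subgroupOf M <
          (Subgroup.zpowers a).comap (QuotientGroup.mk' (H.subgroupOf M)) := by
        refine lt_of_le_of_ne ?_ ?_
        · intro y hy
          rw [Subgroup.mem_comap]
          have : QuotientGroup.mk' (H.subgroupOf M) y = 1 :=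
            (QuotientGroup.eq_one_iff y).2 hy
          rw [this]; exact one_mem _
        · intro e
          obtain ⟨y, rfl⟩ := QuotientGroup.mk_surjective a
          have : y ∈ (Subgroup.zpowers (QuotientGroup.mk y : ↥M ⧸ H.subgroupOf M)).comap
              (QuotientGroup.mk' (H.subgroupOf M)) := by
            rw [Subgroup.mem_comap]; exact Subgroup.mem_zpowers _
          rw [← e] at this
          exact ha ((QuotientGroup.eq_one_iff y).2 this)
      have h2 := hmaxH.2 _ h1
      obtain ⟨y, rfl⟩ := QuotientGroup.mk_surjective b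
      have h3 : y ∈ (Subgroup.zpowers a).comap (QuotientGroup.mk' (H.subgroupOf M)) := by
        rw [h2]; trivial
      rw [Subgroup.mem_comap] at h3
      obtain ⟨k, hk⟩ := Subgroup.mem_zpowers_iff.1 h3
      have : (QuotientGroup.mk y : ↥M ⧸ H.subgroupOf M) = a ^ k := hk.symm
      rw [this]
      exact ((Commute.refl a).zpow_right k).eq
    letI : CommGroup (↥M ⧸ H.subgroupOf M) :=
      { (inferInstance : Group (↥M ⧸ H.subgroupOf M)) with mul_comm := hcomm }
    set ϕ : ↥M →* ↥M ⧸ H.subgroupOf M := QuotientGroup.mk' (H.subgroupOf M) with hϕ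
    have hϕ1 : ∀ y : ↥M, (y : G) ∈ H → ϕ y = 1 := by
      intro y hy
      exact (QuotientGroup.eq_one_iff y).2 (Subgroup.mem_subgroupOf.2 hy)
    have hϕ2 : ∀ y : ↥M, ϕ y = 1 → (y : G) ∈ H := by
      intro y hy
      exact Subgroup.mem_subgroupOf.1 ((QuotientGroup.eq_one_iff y).1 hy)
    have hV : ∀ (m : G) (hm : m ∈ M), m ∉ H → MonoidHom.transfer ϕ m = ϕ ⟨m, hm⟩ :=
      fun m hm hmH => transfer_eq_of_unique_fixed_point M H ϕ hϕ1 hfix m hm hmH
    -- an element of `M` outside `H`
    obtain ⟨m₀, hm₀M, hm₀H⟩ : ∃ m₀ ∈ M, m₀ ∉ H := by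
      by_contra hno
      push Not at hno
      apply hmaxH.1
      rw [eq_top_iff]
      intro y _
      exact Subgroup.mem_subgroupOf.2 (hno y y.2)
    have hHker : H ≤ (MonoidHom.transfer ϕ).ker := by
      intro h hh
      rw [MonoidHom.mem_ker]
      have hhm : h * m₀ ∉ H := by
        intro hcon
        apply hm₀H
        have := H.mul_mem (H.inv_mem hh) hcon
        simpa using this
      have h1 := hV (h * m₀) (M.mul_mem (hHM hh) hm₀M) hhm
      have h2 := hV m₀ hm₀M hm₀H
      have h3 : (⟨h * m₀, M.mul_mem (hHM hh) hm₀M⟩ : ↥M) = ⟨h, hHM hh⟩ * ⟨m₀, hm₀M⟩ := rfl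
      rw [map_mul, h3, map_mul, hϕ1 ⟨h, hHM hh⟩ hh, one_mul, h2] at h1
      exact mul_right_cancel (h1.trans (one_mul _).symm)
    have hKker : Subgroup.normalClosure (H : Set G) ≤ (MonoidHom.transfer ϕ).ker :=
      Subgroup.normalClosure_le_normal (by exact_mod_cast hHker)
    intro x hx
    obtain ⟨hxK, hxM⟩ := Subgroup.mem_inf.1 hx
    by_contra hxH
    have h1 := hV x hxM hxH
    have h2 : MonoidHom.transfer ϕ x = 1 := MonoidHom.mem_ker.1 (hKker hxK)
    rw [h2] at h1
    exact hxH (hϕ2 ⟨x, hxM⟩ h1.symm)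

end Main

end Cfsg.Agent.helper15
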