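import Mathlib
import Cfsg.Agent.Lib_helper15_Flavell

set_option autoImplicit false

namespace Cfsg.Agent.helper15

section Basics

variable {G : Type*} [Group G]

theorem mem_map_conj_iff' (H : Subgroup G) (g x : G) :
    x ∈ H.map (MulAut.conj g).toMonoidHom ↔ g⁻¹ * x * g ∈ H := by
  constructor
  · rintro ⟨h, hh, rfl⟩
    simp only [MulEquiv.coe_toMonoidHom, MulAut.conj_apply]
    have e : g⁻¹ * (g * h * g⁻¹) * g = h := by group
    rw [e]; exact hh
  · intro hx
    refine ⟨g⁻¹ * x * g, hx, ?_⟩
    simp only [MulEquiv.coe_toMonoidHom, MulAut.conj_apply]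
    group

theorem card_map_conj' (H : Subgroup G) (g : G) :
    Nat.card ↥(H.map (MulAut.conj g).toMonoidHom) = Nat.card ↥H :=
  Subgroup.card_map_of_injective (MulAut.conj g).injective

/-- A subgroup contained in the union of two subgroups lies in one of them. -/
theorem le_or_le_of_forall_mem_or {K A B : Subgroup G} (h : ∀ x ∈ K, x ∈ A ∨ x ∈ B) :
    K ≤ A ∨ K ≤ B := by
  by_contra hcon
  push Not at hcon
  obtain ⟨hA, hB⟩ := hcon
  obtain ⟨x₁, hx₁K, hx₁A⟩ := SetLike.not_le_iff_exists.1 hA
  obtain ⟨x₂, hx₂K, hx₂B⟩ := SetLike.not_le_iff_exists.1 hB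
  have hx₁B : x₁ ∈ B := (h x₁ hx₁K).resolve_left hx₁A
  have hx₂A : x₂ ∈ A := (h x₂ hx₂K).resolve_right hx₂B
  rcases h (x₁ * x₂) (K.mul_mem hx₁K hx₂K) with h12 | h12
  · apply hx₁A
    have := A.mul_mem h12 (A.inv_mem hx₂A)
    simpa using this
  · apply hx₂B
    have := B.mul_mem (B.inv_mem hx₁B) h12
    simpa using this

/-- If `H.subgroupOf M` is a coatom, a subgroup containing `H` and an element of `M \ H`
contains `M`. -/
theorem le_of_isCoatom_subgroupOf {H M : Subgroup G} (hmaxH : IsCoatom (H.subgroupOf M))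
    (N : Subgroup G) (hHN : H ≤ N) {x : G} (hxM : x ∈ M) (hxH : x ∉ H) (hxN : x ∈ N) : M ≤ N := by
  have h1 : H.subgroupOf M < N.subgroupOf M := by
    refine lt_of_le_of_ne (fun y hy => Subgroup.mem_subgroupOf.2
      (hHN (Subgroup.mem_subgroupOf.1 hy))) ?_
    intro e
    have : (⟨x, hxM⟩ : ↥M) ∈ N.subgroupOf M := Subgroup.mem_subgroupOf.2 hxN
    rw [← e] at this
    exact hxH (Subgroup.mem_subgroupOf.1 this)
  have h2 := hmaxH.2 _ h1
  intro y hy
  have : (⟨y, hy⟩ : ↥M) ∈ N.subgroupOf M := by rw [h2]; trivial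
  exact Subgroup.mem_subgroupOf.1 this

theorem isCoatom_subgroupOf_of_prime_relIndex {H M : Subgroup G}
    (hidx : (H.relIndex M).Prime) : IsCoatom (H.subgroupOf M) := by
  constructor
  · intro htop
    have : H.relIndex M = 1 := by
      unfold Subgroup.relIndex; rw [htop]; exact Subgroup.index_top
    rw [this] at hidx
    exact Nat.not_prime_one hidx
  · intro K hK
    have h1 := Subgroup.relIndex_mul_index hK.le
    have h2 : (H.subgroupOf M).index = H.relIndex M := rfl
    rw [h2] at h1
    have h3 : K.index ∣ H.relIndex M := Dvd.intro_left _ h1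
    rcases (Nat.dvd_prime hidx).1 h3 with h4 | h4
    · exact Subgroup.index_eq_one.1 h4
    · exfalso
      rw [h4] at h1
      have h5 : (H.subgroupOf M).relIndex K = 1 := by
        have hpos : 0 < H.relIndex M := hidx.pos
        exact Nat.eq_of_mul_eq_mul_right hpos (by rw [h1, one_mul])
      have h6 := Subgroup.relIndex_eq_one.1 h5
      exact absurd (lt_of_lt_of_le hK h6) (lt_irrefl _)

end Basics

section Gen

variable {G : Type*} [Group G] [Finite G]

theorem map_conj_eq_of_mem_normalizer (H : Subgroup G) {b : G}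
    (hb : b ∈ Subgroup.normalizer (H : Set G)) : H.map (MulAut.conj b).toMonoidHom = H := by
  apply map_conj_eq_of_le
  rintro _ ⟨h, hh, rfl⟩
  simp only [MulEquiv.coe_toMonoidHom, MulAut.conj_apply]
  exact (Subgroup.mem_normalizer_iff.1 hb h).1 hh

/-- A nonabelian simple group has no maximal subgroup of prime order. -/
theorem false_of_prime_order_coatom [IsSimpleGroup G] (hG : ¬ IsMulCommutative G) (M : Subgroup G)
    (hmaxM : IsCoatom M) (hNM : Subgroup.normalizer (M : Set G) = M)
    (hcard : (Nat.card ↥M).Prime) : False := by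
  classical
  haveI : Fact (Nat.card ↥M).Prime := ⟨hcard⟩
  haveI : IsCyclic ↥M := isCyclic_of_prime_card rfl
  have hcomm : ∀ a b : ↥M, a * b = b * a := fun a b =>
    (IsCyclic.commGroup (α := ↥M)).mul_comm a b
  letI : CommGroup ↥M := { (inferInstance : Group ↥M) with mul_comm := hcomm }
  have hfix : ∀ x ∈ M, x ∉ (⊥ : Subgroup G) → ∀ t : G, t * x * t⁻¹ ∈ M → t ∈ M := by
    intro x hxM hx1 t ht
    have hx1' : x ≠ 1 := fun h => hx1 (Subgroup.mem_bot.2 h)
    have hz : Subgroup.zpowers x = M := by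
      apply Subgroup.eq_of_le_of_card_ge (Subgroup.zpowers_le.2 hxM)
      rw [Nat.card_zpowers]
      have h1 := M.orderOf_dvd_natCard hxM
      rcases (Nat.dvd_prime hcard).1 h1 with h2 | h2
      · exact absurd (orderOf_eq_one_iff.1 h2) hx1'
      · exact h2.ge
    rw [← hNM]
    apply mem_normalizer_of_map_conj_le
    rintro _ ⟨m, hm, rfl⟩
    simp only [MulEquiv.coe_toMonoidHom, MulAut.conj_apply]
    rw [← hz] at hm
    obtain ⟨k, rfl⟩ := Subgroup.mem_zpowers_iff.1 hm
    have : t * x ^ k * t⁻¹ = (t * x * t⁻¹) ^ k := by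
      rw [← MulAut.conj_apply, map_zpow, MulAut.conj_apply]
    rw [this]; exact M.zpow_mem ht k
  set ϕ : ↥M →* ↥M := MonoidHom.id ↥M with hϕ
  have hV := transfer_eq_of_unique_fixed_point M ⊥ ϕ
    (by
      intro y hy
      have : (y : G) = 1 := Subgroup.mem_bot.1 hy
      have hy1 : y = 1 := Subtype.ext this
      rw [hy1, map_one]) hfix
  have hMbot : M ≠ ⊥ := by
    rintro rfl
    have : Nat.card ↥(⊥ : Subgroup G) = 1 := Subgroup.card_bot
    rw [this] at hcard
    exact Nat.not_prime_one hcard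
  obtain ⟨x, hxM, hx1⟩ : ∃ x ∈ M, x ≠ 1 := by
    by_contra hcon
    push Not at hcon
    apply hMbot
    rw [eq_bot_iff]
    intro x hx
    exact Subgroup.mem_bot.2 (hcon x hx)
  have h1 := hV x hxM (fun h => hx1 (Subgroup.mem_bot.1 h))
  have hker : (MonoidHom.transfer ϕ).ker = ⊥ := by
    rcases Subgroup.Normal.eq_bot_or_eq_top (MonoidHom.normal_ker (MonoidHom.transfer ϕ))
      with h | h
    · exact h
    · exfalso
      have h2 : x ∈ (MonoidHom.transfer ϕ).ker := by rw [h]; trivial
      rw [MonoidHom.mem_ker, h1] at h2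
      exact hx1 (congrArg Subtype.val h2)
  have hinj := (MonoidHom.ker_eq_bot_iff _).1 hker
  apply hG
  exact ⟨⟨fun a b => hinj (by rw [map_mul, map_mul, mul_comm])⟩⟩

/-- Flavell's generation theorem: a nonabelian finite simple group is generated by two conjugates
of any normal subgroup of prime index of a maximal subgroup. -/
theorem flavell_generation [IsSimpleGroup G] (hG : ¬ IsMulCommutative G) (M H : Subgroup G)
    (hmaxM : IsCoatom M) (hHM : H ≤ M) (hHn : (H.subgroupOf M).Normal)
    (hidx : (H.relIndex M).Prime) : ∃ g : G, H ⊔ H.map (MulAut.conj g).toMonoidHom = ⊤ := by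
  classical
  by_contra hno
  push Not at hno
  have hMN : M ≤ Subgroup.normalizer (H : Set G) :=
    (Subgroup.normal_subgroupOf_iff_le_normalizer hHM).1 hHn
  have hmaxH := isCoatom_subgroupOf_of_prime_relIndex hidx
  have hMbot : M ≠ ⊥ := by
    rintro rfl
    have : H.relIndex ⊥ = 1 := Subgroup.relIndex_bot_right H
    rw [this] at hidx; exact Nat.not_prime_one hidx
  have hNM : Subgroup.normalizer (M : Set G) = M := by
    rcases eq_or_lt_of_le (Subgroup.le_normalizer : M ≤ Subgroup.normalizer (M : Set G)) with h | h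
    · exact h.symm
    · exfalso
      have h0 := hmaxM.2 _ h
      have hn : M.Normal := Subgroup.normalizer_eq_top_iff.1 h0
      rcases Subgroup.Normal.eq_bot_or_eq_top hn with h1 | h1
      · exact hMbot h1
      · exact hmaxM.1 h1
  by_cases hH : H = ⊥
  · subst hH
    rw [Subgroup.relIndex_bot_left] at hidx
    exact false_of_prime_order_coatom hG M hmaxM hNM hidx
  have hNH : Subgroup.normalizer (H : Set G) = M := by
    rcases eq_or_lt_of_le hMN with h | h
    · exact h.symm
    · exfalso
      have h0 := hmaxM.2 _ h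
      have hn : H.Normal := Subgroup.normalizer_eq_top_iff.1 h0
      rcases Subgroup.Normal.eq_bot_or_eq_top hn with h1 | h1
      · exact hH h1
      · apply hmaxM.1; rw [eq_top_iff, ← h1]; exact hHM
  -- (★)
  have star : ∀ x ∈ M, x ∉ H → ∀ t : G, t⁻¹ * x * t ∈ M →
      H.map (MulAut.conj t).toMonoidHom ≤ M := by
    intro x hxM hxH t ht
    have hxT : x ∈ Subgroup.normalizer
        ((H ⊔ H.map (MulAut.conj t).toMonoidHom : Subgroup G) : Set G) := by
      apply mem_normalizer_of_map_conj_le
      rw [Subgroup.map_sup]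
      apply sup_le
      · refine le_trans ?_ le_sup_left
        rintro _ ⟨h, hh, rfl⟩
        simp only [MulEquiv.coe_toMonoidHom, MulAut.conj_apply]
        exact (Subgroup.mem_normalizer_iff.1 (hMN hxM) h).1 hh
      · refine le_trans ?_ le_sup_right
        rintro _ ⟨_, ⟨h, hh, rfl⟩, rfl⟩
        simp only [MulEquiv.coe_toMonoidHom, MulAut.conj_apply]
        refine ⟨(t⁻¹ * x * t) * h * (t⁻¹ * x * t)⁻¹,
          (Subgroup.mem_normalizer_iff.1 (hMN ht) h).1 hh, ?_⟩
        simp only [MulEquiv.coe_toMonoidHom, MulAut.conj_apply]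
        group
    have hMT : M ≤ Subgroup.normalizer
        ((H ⊔ H.map (MulAut.conj t).toMonoidHom : Subgroup G) : Set G) :=
      le_of_isCoatom_subgroupOf hmaxH _ (le_sup_left.trans Subgroup.le_normalizer) hxM hxH hxT
    rcases eq_or_lt_of_le hMT with h | h
    · exact (le_sup_right.trans Subgroup.le_normalizer).trans (le_of_eq h.symm)
    · exfalso
      have h0 := hmaxM.2 _ h
      have hn : (H ⊔ H.map (MulAut.conj t).toMonoidHom).Normal :=
        Subgroup.normalizer_eq_top_iff.1 h0
      rcases Subgroup.Normal.eq_bot_or_eq_top hn with h1 | h1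
      · apply hH; rw [eq_bot_iff, ← h1]; exact le_sup_left
      · exact hno t h1
  -- (★★)
  have star2 : ∀ t : G, t ∉ M → ∀ x ∈ M, t⁻¹ * x * t ∈ M →
      x ∈ H ∨ x ∈ H.map (MulAut.conj t).toMonoidHom := by
    intro t htM x hxM hxt
    by_contra hcon
    push Not at hcon
    obtain ⟨hxH, hxHt⟩ := hcon
    have h1 : H.map (MulAut.conj t).toMonoidHom ≤ M := star x hxM hxH t hxt
    have hx'H : t⁻¹ * x * t ∉ H := fun h => hxHt ((mem_map_conj_iff' H t x).2 h)
    have h2 : H.map (MulAut.conj t⁻¹).toMonoidHom ≤ M := by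
      apply star (t⁻¹ * x * t) hxt hx'H t⁻¹
      have e : t⁻¹⁻¹ * (t⁻¹ * x * t) * t⁻¹ = x := by group
      rw [e]; exact hxM
    have h3 : H ≤ M.map (MulAut.conj t).toMonoidHom := by
      intro h hh
      rw [mem_map_conj_iff']
      apply h2
      rw [mem_map_conj_iff']
      have e : t⁻¹⁻¹ * (t⁻¹ * h * t) * t⁻¹ = h := by group
      rw [e]; exact hh
    have hne : ¬ H.map (MulAut.conj t).toMonoidHom ≤ H := by
      intro hle
      have := mem_normalizer_of_map_conj_le H t hle
      rw [hNH] at this; exact htM this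
    obtain ⟨y, hyHt, hyH⟩ := SetLike.not_le_iff_exists.1 hne
    have hyMt : y ∈ M.map (MulAut.conj t).toMonoidHom := Subgroup.map_mono hHM hyHt
    have h4 : M ≤ M.map (MulAut.conj t).toMonoidHom :=
      le_of_isCoatom_subgroupOf hmaxH _ h3 (h1 hyHt) hyH hyMt
    have h5 : M = M.map (MulAut.conj t).toMonoidHom :=
      Subgroup.eq_of_le_of_card_ge h4 (by rw [card_map_conj'])
    have h6 : t ∈ Subgroup.normalizer (M : Set G) :=
      mem_normalizer_of_map_conj_le M t (le_of_eq h5.symm)
    rw [hNM] at h6; exact htM h6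
  by_cases hwc : ∀ g : G, H.map (MulAut.conj g).toMonoidHom ≤ M →
      H.map (MulAut.conj g).toMonoidHom = H
  · -- weakly closed case
    have hcl : ∀ g : G, (H ⊔ H.map (MulAut.conj g).toMonoidHom) ⊓ M = H := by
      intro g
      by_contra hne
      have hle : H ≤ (H ⊔ H.map (MulAut.conj g).toMonoidHom) ⊓ M := le_inf le_sup_left hHM
      have hnle : ¬ (H ⊔ H.map (MulAut.conj g).toMonoidHom) ⊓ M ≤ H :=
        fun h => hne (le_antisymm h hle)
      obtain ⟨x, hx, hxH⟩ := SetLike.not_le_iff_exists.1 hnle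
      obtain ⟨hxT, hxM⟩ := Subgroup.mem_inf.1 hx
      have hMT : M ≤ H ⊔ H.map (MulAut.conj g).toMonoidHom :=
        le_of_isCoatom_subgroupOf hmaxH _ le_sup_left hxM hxH hxT
      rcases eq_or_lt_of_le hMT with h | h
      · have h1 : H.map (MulAut.conj g).toMonoidHom ≤ M := le_sup_right.trans (le_of_eq h.symm)
        have h2 := hwc g h1
        rw [h2, sup_idem] at h
        apply hmaxH.1
        rw [eq_top_iff]
        intro y _
        exact Subgroup.mem_subgroupOf.2 (by rw [← h]; exact y.2)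
      · exact hno g (hmaxM.2 _ h)
    have h1 := flavell_normalClosure_inf H M hHM hcl hmaxH hmaxM
    rcases Subgroup.Normal.eq_bot_or_eq_top
      (Subgroup.normalClosure_normal (s := (H : Set G))) with h2 | h2
    · apply hH; rw [eq_bot_iff, ← h2]; exact Subgroup.subset_normalClosure
    · rw [h2, top_inf_eq] at h1
      apply hmaxH.1
      rw [eq_top_iff]
      intro y _
      exact Subgroup.mem_subgroupOf.2 (by rw [← h1]; exact y.2)
  · push Not at hwc
    obtain ⟨b, hbM, hbne⟩ := hwc
    have hbnM : b ∉ M := by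
      intro hb
      exact hbne (map_conj_eq_of_mem_normalizer H (hMN hb))
    have hMb : ¬ M.map (MulAut.conj b).toMonoidHom ≤ M := by
      intro hle
      have := mem_normalizer_of_map_conj_le M b hle
      rw [hNM] at this; exact hbnM this
    obtain ⟨y, hyMb, hyM⟩ := SetLike.not_le_iff_exists.1 hMb
    have hyb : b⁻¹ * y * b ∈ M := (mem_map_conj_iff' M b y).1 hyMb
    have hHb_le : H.map (MulAut.conj b).toMonoidHom ≤ M.map (MulAut.conj y).toMonoidHom := by
      intro z hz
      rw [mem_map_conj_iff']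
      apply hbM
      rw [mem_map_conj_iff'] at hz ⊢
      have e : b⁻¹ * (y⁻¹ * z * y) * b =
          (b⁻¹ * y * b)⁻¹ * (b⁻¹ * z * b) * (b⁻¹ * y * b)⁻¹⁻¹ := by group
      rw [e]
      exact (Subgroup.mem_normalizer_iff.1 (hMN (M.inv_mem hyb)) (b⁻¹ * z * b)).1 hz
    have hall : ∀ x ∈ H.map (MulAut.conj b).toMonoidHom,
        x ∈ H ∨ x ∈ H.map (MulAut.conj y).toMonoidHom := by
      intro x hx
      exact star2 y hyM x (hbM hx) ((mem_map_conj_iff' M y x).1 (hHb_le hx))
    rcases le_or_le_of_forall_mem_or hall with h | h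
    · exact hbne (Subgroup.eq_of_le_of_card_ge h (by rw [card_map_conj']))
    · have heq : H.map (MulAut.conj b).toMonoidHom = H.map (MulAut.conj y).toMonoidHom :=
        Subgroup.eq_of_le_of_card_ge h (by rw [card_map_conj', card_map_conj'])
      have h1 : y⁻¹ * b ∈ Subgroup.normalizer (H : Set G) := by
        apply mem_normalizer_of_map_conj_le
        rintro _ ⟨h, hh, rfl⟩
        simp only [MulEquiv.coe_toMonoidHom, MulAut.conj_apply]
        have h2 : b * h * b⁻¹ ∈ H.map (MulAut.conj y).toMonoidHom := by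
          rw [← heq]; exact ⟨h, hh, by simp⟩
        rw [mem_map_conj_iff'] at h2
        have e : y⁻¹ * b * h * (y⁻¹ * b)⁻¹ = y⁻¹ * (b * h * b⁻¹) * y := by group
        rw [e]; exact h2
      rw [hNH] at h1
      apply hbnM
      have e : b = (y⁻¹ * b) * (b⁻¹ * y * b) := by group
      rw [e]; exact M.mul_mem h1 hyb

end Gen

end Cfsg.Agent.helper15
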