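import Mathlib
import Cfsg.Agent.Lib_helper15_Baer2
import Cfsg.Agent.Lib_lead_Coprime3

set_option autoImplicit false
set_option linter.unusedSectionVars false
set_option linter.style.haveILetI false

/-!
Generalized `A × B` lemma for odd primes: if a `p'`-group `R` normalized by a `p`-group `B`
centralizes the `B`-fixed points of an `RB`-invariant `p`-group `W` (`p` odd), then `R`
centralizes `W`.
-/

namespace Cfsg.Agent.helper15.Baer

open Cfsg.Agent.helper7 Cfsg.Agent.lead
open scoped commutatorElement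

universe u

variable {Γ : Type u} [Group Γ] [Finite Γ]

theorem commutator_self_lt {p : ℕ} [hp : Fact p.Prime] (P : Subgroup Γ) (hP : IsPGroup p P)
    (hb : P ≠ ⊥) : ⁅P, P⁆ < P := by
  have hle : ⁅P, P⁆ ≤ P := Subgroup.commutator_le_self P
  refine lt_of_le_of_ne hle ?_
  intro heq
  apply hb
  haveI : Group.IsNilpotent ↥P := hP.isNilpotent
  obtain ⟨n, hn⟩ := (Subgroup.isNilpotent_iff_lowerCentralSeries P).mp inferInstance
  have hall : ∀ m, P ≤ P.lowerCentralSeries m := by
    intro m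
    induction m with
    | zero => exact le_of_eq (Subgroup.lowerCentralSeries_zero P).symm
    | succ m ih =>
      rw [Subgroup.lowerCentralSeries_succ]
      calc P = ⁅P, P⁆ := heq.symm
        _ ≤ ⁅P.lowerCentralSeries m, P⁆ := Subgroup.commutator_mono ih le_rfl
  rw [eq_bot_iff, ← hn]
  exact hall n

theorem le_normalizer_commutator (X H K : Subgroup Γ)
    (hH : X ≤ Subgroup.normalizer (H : Set Γ)) (hK : X ≤ Subgroup.normalizer (K : Set Γ)) :
    X ≤ Subgroup.normalizer ((⁅H, K⁆ : Subgroup Γ) : Set Γ) := by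
  intro g hg
  apply mem_normalizer_of_cj_eq
  rw [cj_commutator, cj_eq_of_mem_normalizer (hH hg), cj_eq_of_mem_normalizer (hK hg)]

/-- Generalized `A × B` lemma, `p` odd. -/
theorem gab {p : ℕ} [hp : Fact p.Prime] (hp2 : p ≠ 2) (B R : Subgroup Γ) (hB : IsPGroup p B)
    (hR : (Nat.card R).Coprime p) (hBR : B ≤ Subgroup.normalizer (R : Set Γ))
    (W : Subgroup Γ) (hW : IsPGroup p W) (hBW : B ≤ Subgroup.normalizer (W : Set Γ))
    (hRW : R ≤ Subgroup.normalizer (W : Set Γ))
    (hC : W ⊓ Subgroup.centralizer (B : Set Γ) ≤ Subgroup.centralizer (R : Set Γ)) :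
    R ≤ Subgroup.centralizer (W : Set Γ) := by
  by_contra hcon
  let 𝒮 : Set (Subgroup Γ) := {U | IsPGroup p U ∧ B ≤ Subgroup.normalizer (U : Set Γ) ∧
    R ≤ Subgroup.normalizer (U : Set Γ) ∧
    U ⊓ Subgroup.centralizer (B : Set Γ) ≤ Subgroup.centralizer (R : Set Γ) ∧
    ¬ R ≤ Subgroup.centralizer (U : Set Γ)}
  have hne : 𝒮.Nonempty := ⟨W, hW, hBW, hRW, hC, hcon⟩
  obtain ⟨U, ⟨hUp, hBU, hRU, hCU, hnU⟩, hUmin⟩ := (Set.toFinite 𝒮).exists_minimal hne
  have hmin : ∀ U' : Subgroup Γ, U' < U → B ≤ Subgroup.normalizer (U' : Set Γ) →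
      R ≤ Subgroup.normalizer (U' : Set Γ) → R ≤ Subgroup.centralizer (U' : Set Γ) := by
    intro U' hlt hB' hR'
    by_contra h
    have hmem : U' ∈ 𝒮 :=
      ⟨hUp.to_le hlt.le, hB', hR', (inf_le_inf_right _ hlt.le).trans hCU, h⟩
    exact absurd (hUmin hmem hlt.le) (not_le_of_gt hlt)
  have hUbot : U ≠ ⊥ := by
    intro h
    apply hnU
    rw [h]
    intro r _
    rw [Subgroup.mem_centralizer_iff]
    intro x hx
    have : x = 1 := hx
    rw [this, one_mul, mul_one]
  obtain ⟨j, hj⟩ := hUp.exists_card_eq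
  have hcopRU : (Nat.card R).Coprime (Nat.card U) := by
    rw [hj]; exact Nat.Coprime.pow_right j hR
  haveI : Group.IsNilpotent ↥U := hUp.isNilpotent
  have solvU : Group.IsSolvable ↥U := inferInstance
  -- (a) `[U, R] = U`
  have hUR_le : ⁅U, R⁆ ≤ U := commutator_le_of_normalizer hRU
  have hUR : ⁅U, R⁆ = U := by
    by_contra hne'
    have hlt : ⁅U, R⁆ < U := lt_of_le_of_ne hUR_le hne'
    have h1 := hmin ⁅U, R⁆ hlt (le_normalizer_commutator B U R hBU hBR)
      (le_normalizer_commutator R U R hRU Subgroup.le_normalizer)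
    have h2 : ⁅⁅U, R⁆, R⁆ = ⊥ :=
      Subgroup.commutator_eq_bot_iff_le_centralizer.mpr (Subgroup.le_centralizer_iff.mp h1)
    rw [coprime_commutator_commutator R U hRU hcopRU (Or.inr solvU)] at h2
    apply hnU
    exact Subgroup.le_centralizer_iff.mp (Subgroup.commutator_eq_bot_iff_le_centralizer.mp h2)
  -- (b) `R` centralizes `U'`
  have hder : ⁅U, U⁆ < U := commutator_self_lt U hUp hUbot
  have hRder : R ≤ Subgroup.centralizer ((⁅U, U⁆ : Subgroup Γ) : Set Γ) :=
    hmin ⁅U, U⁆ hder (le_normalizer_commutator B U U hBU hBU)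
      (le_normalizer_commutator R U U hRU hRU)
  -- (c) `Z₀ = C_U(R)` is central in `U`
  set Z₀ : Subgroup Γ := U ⊓ Subgroup.centralizer (R : Set Γ) with hZ₀
  have hderZ : ⁅U, U⁆ ≤ Z₀ := le_inf hder.le (Subgroup.le_centralizer_iff.mp hRder)
  have hZ₀c : Z₀ ≤ Subgroup.centralizer (U : Set Γ) := by
    have h1 : ⁅⁅U, Z₀⁆, R⁆ = ⊥ := by
      rw [Subgroup.commutator_eq_bot_iff_le_centralizer]
      exact (Subgroup.commutator_mono le_rfl inf_le_left).trans
        (Subgroup.le_centralizer_iff.mp hRder)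
    have h2 : ⁅⁅Z₀, R⁆, U⁆ = ⊥ := by
      have : ⁅Z₀, R⁆ = ⊥ := Subgroup.commutator_eq_bot_iff_le_centralizer.mpr inf_le_right
      rw [this, Subgroup.commutator_bot_left]
    have h3 : ⁅⁅R, U⁆, Z₀⁆ = ⊥ := Subgroup.commutator_commutator_eq_bot_of_rotate h1 h2
    rw [Subgroup.commutator_comm R U, hUR] at h3
    exact Subgroup.le_centralizer_iff.mp (Subgroup.commutator_eq_bot_iff_le_centralizer.mp h3)
  -- (d) class two
  have hcl : Cl2 ↥U := by
    intro a b
    rw [Subgroup.mem_center_iff]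
    intro g
    apply Subtype.ext
    have hmem : ⁅(a : Γ), (b : Γ)⁆ ∈ Z₀ :=
      hderZ (Subgroup.commutator_mem_commutator a.2 b.2)
    have h1 := Subgroup.mem_centralizer_iff.mp (hZ₀c hmem) g g.2
    have e1 : ((⁅a, b⁆ : ↥U) : Γ) = ⁅(a : Γ), (b : Γ)⁆ := by
      simp [commutatorElement_def]
    rw [Subgroup.coe_mul, Subgroup.coe_mul, e1]
    exact h1
  -- (e) apply the core
  have hodd : Odd (Nat.card ↥U) := by
    rw [hj]
    exact Odd.pow (hp.out.odd_of_ne_two hp2)
  set N : Subgroup Γ := Subgroup.normalizer (U : Set Γ) with hN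
  have hρ : ∀ (n : ↥N) (u : ↥U), ((U.normalizerMonoidHom n u : ↥U) : Γ) = (n : Γ) * u * (n : Γ)⁻¹ := by
    intro n u
    rw [Subgroup.normalizerMonoidHom_apply_apply_coe]
  have hcardR : Nat.card ↥(R.subgroupOf N) = Nat.card R :=
    Nat.card_congr (Subgroup.subgroupOfEquivOfLe hRU).toEquiv
  have hcore := gab_core (U := ↥U) (H := ↥N) hUp hodd hcl U.normalizerMonoidHom
    (R.subgroupOf N) (B.subgroupOf N) (by rw [hcardR]; exact hR) (hB.comap_subtype)
    (by
      intro b hb
      rw [Subgroup.mem_subgroupOf] at hb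
      rw [Subgroup.mem_normalizer_iff]
      intro k
      rw [Subgroup.mem_subgroupOf, Subgroup.mem_subgroupOf]
      have := Subgroup.mem_normalizer_iff.mp (hBR hb) (k : Γ)
      simpa using this)
    (by
      intro u hu k hk
      rw [Subgroup.mem_subgroupOf] at hk
      apply Subtype.ext
      rw [hρ]
      have huB : (u : Γ) ∈ U ⊓ Subgroup.centralizer (B : Set Γ) := by
        refine Subgroup.mem_inf.mpr ⟨u.2, ?_⟩
        refine Subgroup.mem_centralizer_iff.2 ?_
        intro b hb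
        have h1 := hu ⟨b, hBU hb⟩ (Subgroup.mem_subgroupOf.mpr hb)
        have h2 := congrArg Subtype.val h1
        rw [hρ] at h2
        have h3 : b * (u : Γ) * b⁻¹ = u := h2
        calc b * (u : Γ) = b * u * b⁻¹ * b := by group
          _ = u * b := by rw [h3]
      have h4 := Subgroup.mem_centralizer_iff.mp (hCU huB) (k : Γ) hk
      calc (k : Γ) * u * (k : Γ)⁻¹ = (k * u) * (k : Γ)⁻¹ := by group
        _ = (u * k) * (k : Γ)⁻¹ := by rw [h4]
        _ = u := by group)
  apply hnU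
  intro r hr
  rw [Subgroup.mem_centralizer_iff]
  intro x hx
  have h1 := hcore ⟨r, hRU hr⟩ (Subgroup.mem_subgroupOf.mpr hr) ⟨x, hx⟩
  have h2 := congrArg Subtype.val h1
  rw [hρ] at h2
  have h3 : r * x * r⁻¹ = x := h2
  calc x * r = r * x * r⁻¹ * r := by rw [h3]
    _ = r * x := by group

end Cfsg.Agent.helper15.Baer
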