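import Mathlib
import Cfsg.Prelude.Def_PLocal
import Cfsg.Agent.Lib_helper15_Replace

set_option autoImplicit false

namespace Cfsg.Agent.helper15

open scoped commutatorElement

variable {S : Type*} [Group S]

/-- Counting lemma behind Gillam's theorem. -/
theorem gillam_key [Finite S] (Gp A₁ A₂ X : Subgroup S)
    (hcard : Nat.card ↥A₂ = Nat.card ↥A₁)
    (h12 : A₂ ≤ Subgroup.normalizer (A₁ : Set S)) (hXG : X ≤ Gp) (hsup : A₁ ⊔ X = A₁ ⊔ A₂)
    (hle : Nat.card ↥(((A₁ ⊓ A₂) ⊔ X) ⊓ Gp) ≤ Nat.card ↥(A₁ ⊓ Gp)) :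
    A₁ = (A₁ ⊓ Gp) ⊔ (A₁ ⊓ A₂) := by
  have hXN : X ≤ Subgroup.normalizer (A₁ : Set S) := by
    calc X ≤ A₁ ⊔ X := le_sup_right
      _ = A₁ ⊔ A₂ := hsup
      _ ≤ Subgroup.normalizer (A₁ : Set S) := sup_le Subgroup.le_normalizer h12
  have e2 := card_sup_mul_card_inf_of_le_normalizer X A₁ hXN
  have e3 := card_sup_mul_card_inf_of_le_normalizer A₂ A₁ h12
  rw [sup_comm, hsup] at e2
  rw [sup_comm, hcard, inf_comm] at e3
  have e1 := card_mul_card_le_sup_inf X ((A₁ ⊓ A₂) ⊓ Gp)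
  have hi : Nat.card ↥(X ⊓ ((A₁ ⊓ A₂) ⊓ Gp)) ≤ Nat.card ↥(X ⊓ A₁) :=
    Subgroup.card_le_of_le (inf_le_inf_left _ (inf_le_left.trans inf_le_left))
  have hv : Nat.card ↥(X ⊔ ((A₁ ⊓ A₂) ⊓ Gp)) ≤ Nat.card ↥(((A₁ ⊓ A₂) ⊔ X) ⊓ Gp) := by
    apply Subgroup.card_le_of_le
    apply sup_le
    · exact le_inf le_sup_right hXG
    · exact inf_le_inf_right _ le_sup_left
  have e5 := card_mul_card_le_sup_inf (A₁ ⊓ Gp) (A₁ ⊓ A₂)
  have hw : Nat.card ↥((A₁ ⊓ Gp) ⊓ (A₁ ⊓ A₂)) ≤ Nat.card ↥((A₁ ⊓ A₂) ⊓ Gp) := by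
    apply Subgroup.card_le_of_le
    exact le_inf inf_le_right (inf_le_left.trans inf_le_right)
  have hle' : (A₁ ⊓ Gp) ⊔ (A₁ ⊓ A₂) ≤ A₁ := sup_le inf_le_left inf_le_left
  symm
  apply Subgroup.eq_of_le_of_card_ge hle'
  -- arithmetic
  set a := Nat.card ↥A₁
  set x := Nat.card ↥X
  set z := Nat.card ↥(A₁ ⊓ A₂)
  set w := Nat.card ↥((A₁ ⊓ A₂) ⊓ Gp)
  set s := Nat.card ↥(A₁ ⊔ A₂)
  set i := Nat.card ↥(X ⊓ A₁)
  set d := Nat.card ↥(A₁ ⊓ Gp)
  set e := Nat.card ↥((A₁ ⊓ Gp) ⊔ (A₁ ⊓ A₂))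
  have hxpos : 0 < x := Nat.card_pos
  have hwpos : 0 < w := Nat.card_pos
  have hapos : 0 < a := Nat.card_pos
  have f1 : x * w ≤ d * i := by
    calc x * w ≤ Nat.card ↥(X ⊔ ((A₁ ⊓ A₂) ⊓ Gp)) * Nat.card ↥(X ⊓ ((A₁ ⊓ A₂) ⊓ Gp)) := e1
      _ ≤ d * i := Nat.mul_le_mul (hv.trans hle) hi
  have f2 : w * s ≤ d * a := by
    apply Nat.le_of_mul_le_mul_left _ hxpos
    calc x * (w * s) = (x * w) * s := by ring
      _ ≤ (d * i) * s := Nat.mul_le_mul_right _ f1
      _ = d * (s * i) := by ring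
      _ = d * (x * a) := by rw [e2]
      _ = x * (d * a) := by ring
  have f3 : w * a ≤ d * z := by
    apply Nat.le_of_mul_le_mul_right _ hapos
    calc w * a * a = w * (a * a) := by ring
      _ = w * (s * z) := by rw [e3]
      _ = (w * s) * z := by ring
      _ ≤ (d * a) * z := Nat.mul_le_mul_right _ f2
      _ = d * z * a := by ring
  have f4 : w * a ≤ w * e := by
    calc w * a ≤ d * z := f3
      _ ≤ e * Nat.card ↥((A₁ ⊓ Gp) ⊓ (A₁ ⊓ A₂)) := e5
      _ ≤ e * w := Nat.mul_le_mul_left _ hw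
      _ = w * e := by ring
  exact Nat.le_of_mul_le_mul_left f4 hwpos

/-- Gillam's theorem: in a finite metabelian `p`-group, any normal subgroup `N` containing an
abelian subgroup of largest order contains a normal one. -/
theorem gillam [Finite S] {p : ℕ} [Fact p.Prime] (hS : IsPGroup p S)
    (hmeta : IsMulCommutative ↥(commutator S)) (N : Subgroup S) [hN : N.Normal]
    (A : Subgroup S) (hA : A ∈ Cfsg.maxAbelianSubgroups S) (hAN : A ≤ N) :
    ∃ B ∈ Cfsg.maxAbelianSubgroups S, B.Normal ∧ B ≤ N := by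
  classical
  obtain ⟨B, ⟨hB, hBN⟩, hBmax⟩ := Set.exists_max_image
    {B : Subgroup S | B ∈ Cfsg.maxAbelianSubgroups S ∧ B ≤ N}
    (fun B => Nat.card ↥(B ⊓ commutator S)) (Set.toFinite _) ⟨A, hA, hAN⟩
  refine ⟨B, hB, ?_, hBN⟩
  rw [← Subgroup.normalizer_eq_top_iff]
  by_contra hne
  haveI : Group.IsNilpotent S := hS.isNilpotent
  have hnc := Group.normalizerCondition_of_isNilpotent (G := S) _ (lt_top_iff_ne_top.2 hne)
  obtain ⟨g, hgNN, hgN⟩ := SetLike.exists_of_lt hnc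
  have hGpcomm : ∀ u ∈ commutator S, ∀ v ∈ commutator S, u * v = v * u := fun u hu v hv =>
    congrArg Subtype.val (hmeta.is_comm.comm (⟨u, hu⟩ : ↥(commutator S)) ⟨v, hv⟩)
  have hBcomm : ∀ u ∈ B, ∀ v ∈ B, u * v = v * u := fun u hu v hv =>
    congrArg Subtype.val (hB.1.is_comm.comm (⟨u, hu⟩ : ↥B) ⟨v, hv⟩)
  set Bg : Subgroup S := B.map (MulAut.conj g).toMonoidHom with hBg
  have hBgmem : ∀ b ∈ B, g * b * g⁻¹ ∈ Bg := fun b hb => ⟨b, hb, by simp⟩
  have hBgcomm : ∀ u ∈ Bg, ∀ v ∈ Bg, u * v = v * u := by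
    rintro _ ⟨u, hu, rfl⟩ _ ⟨v, hv, rfl⟩
    simp only [MulEquiv.coe_toMonoidHom, MulAut.conj_apply]
    have := hBcomm u hu v hv
    calc g * u * g⁻¹ * (g * v * g⁻¹) = g * (u * v) * g⁻¹ := by group
      _ = g * (v * u) * g⁻¹ := by rw [this]
      _ = g * v * g⁻¹ * (g * u * g⁻¹) := by group
  haveI hBc : IsMulCommutative ↥B := hB.1
  have hBgc : IsMulCommutative ↥Bg := Subgroup.map_isMulCommutative B _
  have hBgcard : Nat.card ↥Bg = Nat.card ↥B :=
    Subgroup.card_map_of_injective (MulAut.conj g).injective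
  have hBgN : Bg ≤ N := by
    rintro _ ⟨b, hb, rfl⟩
    simp only [MulEquiv.coe_toMonoidHom, MulAut.conj_apply]
    exact hN.conj_mem b (hBN hb) g
  -- `Bg` and `B` normalize each other
  have h12 : Bg ≤ Subgroup.normalizer (B : Set S) := by
    rintro _ ⟨b, hb, rfl⟩
    simp only [MulEquiv.coe_toMonoidHom, MulAut.conj_apply]
    exact (Subgroup.mem_normalizer_iff.1 hgNN b).1 (Subgroup.le_normalizer hb)
  have h21 : B ≤ Subgroup.normalizer (Bg : Set S) := by
    intro b hb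
    have hb' : g⁻¹ * b * g⁻¹⁻¹ ∈ Subgroup.normalizer (B : Set S) :=
      (Subgroup.mem_normalizer_iff.1 (Subgroup.inv_mem _ hgNN) b).1 (Subgroup.le_normalizer hb)
    apply mem_normalizer_of_map_conj_le
    rintro _ ⟨_, ⟨c, hc, rfl⟩, rfl⟩
    simp only [MulEquiv.coe_toMonoidHom, MulAut.conj_apply]
    have h1 : (g⁻¹ * b * g⁻¹⁻¹) * c * (g⁻¹ * b * g⁻¹⁻¹)⁻¹ ∈ B :=
      (Subgroup.mem_normalizer_iff.1 hb' c).1 hc
    have e : b * (g * c * g⁻¹) * b⁻¹ = g * ((g⁻¹ * b * g⁻¹⁻¹) * c * (g⁻¹ * b * g⁻¹⁻¹)⁻¹) * g⁻¹ := by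
      group
    rw [e]
    exact hBgmem _ h1
  -- the commutator subgroup `X = [B, g]`
  set X : Subgroup S := Subgroup.closure {y : S | ∃ b ∈ B, y = b⁻¹ * (g * b * g⁻¹)} with hX
  have hXG : X ≤ commutator S := by
    rw [hX, Subgroup.closure_le]
    rintro _ ⟨b, hb, rfl⟩
    have : ⁅b⁻¹, g⁆ ∈ ⁅(⊤ : Subgroup S), (⊤ : Subgroup S)⁆ :=
      Subgroup.commutator_mem_commutator (Subgroup.mem_top _) (Subgroup.mem_top _)
    rw [commutatorElement_def, inv_inv] at this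
    have e : b⁻¹ * (g * b * g⁻¹) = b⁻¹ * g * b * g⁻¹ := by group
    rw [e]
    exact this
  have hXle : X ≤ B ⊔ Bg := by
    rw [hX, Subgroup.closure_le]
    rintro _ ⟨b, hb, rfl⟩
    exact Subgroup.mul_mem _ (Subgroup.mem_sup_left (B.inv_mem hb))
      (Subgroup.mem_sup_right (hBgmem b hb))
  have hsup1 : B ⊔ X = B ⊔ Bg := by
    apply le_antisymm (sup_le le_sup_left hXle)
    apply sup_le le_sup_left
    rintro _ ⟨b, hb, rfl⟩
    simp only [MulEquiv.coe_toMonoidHom, MulAut.conj_apply]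
    have e : g * b * g⁻¹ = b * (b⁻¹ * (g * b * g⁻¹)) := by group
    rw [e]
    exact Subgroup.mul_mem _ (Subgroup.mem_sup_left hb)
      (Subgroup.mem_sup_right (Subgroup.subset_closure ⟨b, hb, rfl⟩))
  have hsup2 : Bg ⊔ X = Bg ⊔ B := by
    apply le_antisymm (sup_le le_sup_left (hXle.trans (le_of_eq (sup_comm _ _))))
    apply sup_le le_sup_left
    intro b hb
    have e : b = (g * b * g⁻¹) * (b⁻¹ * (g * b * g⁻¹))⁻¹ := by group
    rw [e]
    exact Subgroup.mul_mem _ (Subgroup.mem_sup_left (hBgmem b hb))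
      (Subgroup.inv_mem _ (Subgroup.mem_sup_right (Subgroup.subset_closure ⟨b, hb, rfl⟩)))
  -- `Z = B ∩ Bg` is central in `B ⊔ Bg`
  have hZcent : ∀ z ∈ B ⊓ Bg, ∀ h ∈ B ⊔ Bg, z * h = h * z := by
    intro z hz h hh
    have hle : B ⊔ Bg ≤ Subgroup.centralizer ({z} : Set S) := by
      apply sup_le
      · intro b hb
        rw [Subgroup.mem_centralizer_singleton_iff]
        exact hBcomm b hb z hz.1
      · intro b hb
        rw [Subgroup.mem_centralizer_singleton_iff]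
        exact hBgcomm b hb z hz.2
    have := hle hh
    rw [Subgroup.mem_centralizer_singleton_iff] at this
    exact this.symm
  -- `Bstar = Z ⊔ X` is abelian of largest order
  have hXc : IsMulCommutative ↥X := ⟨⟨fun u v => by
    apply Subtype.ext
    simp only [Subgroup.coe_mul]
    exact hGpcomm u (hXG u.2) v (hXG v.2)⟩⟩
  have hZc : IsMulCommutative ↥(B ⊓ Bg) := ⟨⟨fun u v => by
    apply Subtype.ext
    simp only [Subgroup.coe_mul]
    exact hBcomm u u.2.1 v v.2.1⟩⟩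
  have hstarc : IsMulCommutative ↥((B ⊓ Bg) ⊔ X) :=
    isMulCommutative_sup hZc hXc (fun z hz x hx => hZcent z hz x (hXle hx))
  have hstarN : (B ⊓ Bg) ⊔ X ≤ N :=
    sup_le (inf_le_left.trans hBN) (hXle.trans (sup_le hBN hBgN))
  -- cardinality: `|B| ≤ |Z ⊔ X|`
  have hstarcard : Nat.card ↥B ≤ Nat.card ↥((B ⊓ Bg) ⊔ X) := by
    have hXN : X ≤ Subgroup.normalizer (B : Set S) :=
      hXle.trans (sup_le Subgroup.le_normalizer h12)
    have e2 := card_sup_mul_card_inf_of_le_normalizer X B hXN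
    have e3 := card_sup_mul_card_inf_of_le_normalizer Bg B h12
    rw [sup_comm, hsup1] at e2
    rw [sup_comm, hBgcard, inf_comm] at e3
    have e1 := card_mul_card_le_sup_inf (B ⊓ Bg) X
    have hi : Nat.card ↥((B ⊓ Bg) ⊓ X) ≤ Nat.card ↥(X ⊓ B) :=
      Subgroup.card_le_of_le (le_inf inf_le_right (inf_le_left.trans inf_le_left))
    set a := Nat.card ↥B
    set x := Nat.card ↥X
    set i := Nat.card ↥(X ⊓ B)
    set s := Nat.card ↥(B ⊔ Bg)
    set z := Nat.card ↥(B ⊓ Bg)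
    set t := Nat.card ↥((B ⊓ Bg) ⊔ X)
    have hxpos : 0 < x := Nat.card_pos
    have hapos : 0 < a := Nat.card_pos
    have f1 : z * x ≤ t * i := e1.trans (Nat.mul_le_mul_left _ hi)
    have f2 : z * s ≤ t * a := by
      apply Nat.le_of_mul_le_mul_left _ hxpos
      calc x * (z * s) = (z * x) * s := by ring
        _ ≤ (t * i) * s := Nat.mul_le_mul_right _ f1
        _ = t * (s * i) := by ring
        _ = t * (x * a) := by rw [e2]
        _ = x * (t * a) := by ring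
    apply Nat.le_of_mul_le_mul_right _ hapos
    calc a * a = s * z := e3.symm
      _ = z * s := by ring
      _ ≤ t * a := f2
  -- the new subgroup is admissible
  have hstar : (B ⊓ Bg) ⊔ X ∈ Cfsg.maxAbelianSubgroups S :=
    ⟨hstarc, fun C hC => (hB.2 C hC).trans hstarcard⟩
  have hle1 : Nat.card ↥(((B ⊓ Bg) ⊔ X) ⊓ commutator S) ≤ Nat.card ↥(B ⊓ commutator S) :=
    hBmax _ ⟨hstar, hstarN⟩
  have key1 := gillam_key (commutator S) B Bg X hBgcard h12 hXG hsup1 hle1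
  have hconj : Nat.card ↥(B ⊓ commutator S) ≤ Nat.card ↥(Bg ⊓ commutator S) := by
    have h1 : (B ⊓ commutator S).map (MulAut.conj g).toMonoidHom ≤ Bg ⊓ commutator S := by
      rintro _ ⟨b, hb, rfl⟩
      simp only [MulEquiv.coe_toMonoidHom, MulAut.conj_apply]
      refine Subgroup.mem_inf.2 ⟨hBgmem b hb.1, ?_⟩
      have hn : (commutator S).Normal := inferInstance
      exact hn.conj_mem b hb.2 g
    rw [← Subgroup.card_map_of_injective (f := (MulAut.conj g).toMonoidHom)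
      (K := B ⊓ commutator S) (MulAut.conj g).injective]
    exact Subgroup.card_le_of_le h1
  have hle2 : Nat.card ↥(((Bg ⊓ B) ⊔ X) ⊓ commutator S) ≤ Nat.card ↥(Bg ⊓ commutator S) := by
    rw [inf_comm Bg B]
    exact hle1.trans hconj
  have key2 := gillam_key (commutator S) Bg B X hBgcard.symm h21 hXG hsup2 hle2
  -- `B` and `Bg` commute
  have hcommAll : ∀ u ∈ B, ∀ v ∈ Bg, u * v = v * u := by
    have step1 : ∀ v ∈ Bg ⊓ commutator S, ∀ u ∈ B, u * v = v * u := by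
      intro v hv u hu
      have hle : (B ⊓ commutator S) ⊔ (B ⊓ Bg) ≤ Subgroup.centralizer ({v} : Set S) := by
        apply sup_le
        · intro y hy
          rw [Subgroup.mem_centralizer_singleton_iff]
          exact hGpcomm y hy.2 v hv.2
        · intro y hy
          rw [Subgroup.mem_centralizer_singleton_iff]
          exact hZcent y hy v (Subgroup.mem_sup_right hv.1)
      have hu' : u ∈ (B ⊓ commutator S) ⊔ (B ⊓ Bg) := by rw [← key1]; exact hu
      have := hle hu'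
      rwa [Subgroup.mem_centralizer_singleton_iff] at this
    intro u hu v hv
    have hle : (Bg ⊓ commutator S) ⊔ (Bg ⊓ B) ≤ Subgroup.centralizer ({u} : Set S) := by
      apply sup_le
      · intro y hy
        rw [Subgroup.mem_centralizer_singleton_iff]
        exact (step1 y hy u hu).symm
      · intro y hy
        rw [Subgroup.mem_centralizer_singleton_iff]
        exact hZcent y (Subgroup.mem_inf.2 ⟨hy.2, hy.1⟩) u (Subgroup.mem_sup_left hu)
    have hv' : v ∈ (Bg ⊓ commutator S) ⊔ (Bg ⊓ B) := by rw [← key2]; exact hv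
    have := hle hv'
    rw [Subgroup.mem_centralizer_singleton_iff] at this
    exact this.symm
  have hsupc : IsMulCommutative ↥(B ⊔ Bg) := isMulCommutative_sup hBc hBgc hcommAll
  have hcard2 := hB.2 _ hsupc
  have heq : B = B ⊔ Bg := Subgroup.eq_of_le_of_card_ge le_sup_left hcard2
  apply hgN
  apply mem_normalizer_of_map_conj_le
  show Bg ≤ B
  rw [heq]; exact le_sup_right

end Cfsg.Agent.helper15
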