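import Mathlib
import Cfsg.Agent.Lib_helper1_FrobThm
import Cfsg.Agent.Lib_helper21_FrobCount
import Cfsg.Agent.Lib_helper15_SylGraph2

set_option autoImplicit false

universe u

namespace Cfsg.Agent.helper15

/-- Hypotheses of the "isolated element centralizing `p'`-subgroups" lemma. -/
def IsoHyp {G : Type u} [Group G] (p : ℕ) (S : Subgroup G) (x : G) : Prop :=
  x ∈ S ∧ (∀ g : G, g⁻¹ * x * g ∈ S → g⁻¹ * x * g = x) ∧
    (∀ H : Subgroup G, (Nat.card H).Coprime p → (∀ h ∈ H, x * h * x⁻¹ ∈ H) →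
      ∀ h ∈ H, x * h = h * x)

section

variable {G : Type u} [Group G] [Finite G] {p : ℕ} [Fact p.Prime]

/-- Any `p`-subgroup containing `x` contains no other conjugate of `x`. -/
theorem IsoHyp.conj_eq_of_mem_pgroup {S : Sylow p G} {x : G} (h : IsoHyp p (S : Subgroup G) x)
    (Q : Subgroup G) (hQ : IsPGroup p ↥Q) (hxQ : x ∈ Q) (g : G) (hg : g * x * g⁻¹ ∈ Q) :
    g * x * g⁻¹ = x := by
  obtain ⟨S', hS'⟩ := hQ.exists_le_sylow
  obtain ⟨k, hk⟩ := MulAction.exists_smul_eq G S' S
  have hmem : ∀ q ∈ Q, k * q * k⁻¹ ∈ (S : Subgroup G) := by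
    intro q hq
    rw [← hk, coe_smul_sylow']
    exact ⟨q, hS' hq, rfl⟩
  have h1 : k * x * k⁻¹ = x := by
    have := h.2.1 k⁻¹ (by rw [inv_inv]; exact hmem x hxQ)
    rwa [inv_inv] at this
  have h2 : k * (g * x * g⁻¹) * k⁻¹ = x := by
    have e : k * (g * x * g⁻¹) * k⁻¹ = ((k * g)⁻¹)⁻¹ * x * (k * g)⁻¹ := by group
    have := h.2.1 (k * g)⁻¹ (by rw [← e]; exact hmem _ hg)
    rw [← e] at this
    exact this
  have h3 : k * (g * x * g⁻¹) * k⁻¹ = k * x * k⁻¹ := h2.trans h1.symm
  have h4 := mul_left_cancel (mul_right_cancel h3)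
  exact h4

/-- `x` commutes with none of its other conjugates. -/
theorem IsoHyp.eq_of_commute {S : Sylow p G} {x : G} (h : IsoHyp p (S : Subgroup G) x) (g : G)
    (hc : x * (g * x * g⁻¹) = (g * x * g⁻¹) * x) : g * x * g⁻¹ = x := by
  have hx : IsPGroup p ↥(Subgroup.zpowers x) := S.isPGroup'.to_le (Subgroup.zpowers_le.2 h.1)
  have hy : IsPGroup p ↥(Subgroup.zpowers (g * x * g⁻¹)) := by
    have : Subgroup.zpowers (g * x * g⁻¹) =
        (Subgroup.zpowers x).map (MulAut.conj g).toMonoidHom := by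
      rw [MonoidHom.map_zpowers]; rfl
    rw [this]; exact hx.map _
  have hnorm : Subgroup.zpowers x ≤
      Subgroup.normalizer ((Subgroup.zpowers (g * x * g⁻¹) : Subgroup G) : Set G) := by
    rw [Subgroup.zpowers_le]
    rw [Subgroup.mem_normalizer_iff]
    intro z
    have hcz : ∀ z ∈ Subgroup.zpowers (g * x * g⁻¹), x * z * x⁻¹ = z := by
      intro z hz
      obtain ⟨n, rfl⟩ := Subgroup.mem_zpowers_iff.1 hz
      have hcomm : Commute x (g * x * g⁻¹) := hc
      have := (hcomm.zpow_right n).eq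
      rw [this]; group
    constructor
    · intro hz; rw [hcz z hz]; exact hz
    · intro hz
      have h1 : x⁻¹ * (x * z * x⁻¹) * x = z := by group
      have h2 : x⁻¹ * (x * z * x⁻¹) * x = x * z * x⁻¹ := by
        have := hcz _ hz
        calc x⁻¹ * (x * z * x⁻¹) * x = x⁻¹ * (x * (x * z * x⁻¹) * x⁻¹) * x := by rw [this]
          _ = x * z * x⁻¹ := by group
      rw [← h1, h2]; exact hz
  have hQ := IsPGroup.to_sup_of_normal_right' hx hy hnorm
  exact h.conj_eq_of_mem_pgroup _ hQ (Subgroup.mem_sup_left (Subgroup.mem_zpowers x)) g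
    (Subgroup.mem_sup_right (Subgroup.mem_zpowers _))

/-- The hypotheses pass to subgroups containing `x`. -/
theorem IsoHyp.subgroup {S : Sylow p G} {x : G} (h : IsoHyp p (S : Subgroup G) x)
    (D : Subgroup G) (hxD : x ∈ D) :
    ∃ P : Sylow p ↥D, IsoHyp p (P : Subgroup ↥D) (⟨x, hxD⟩ : ↥D) := by
  have hxp : IsPGroup p ↥(Subgroup.zpowers x) := S.isPGroup'.to_le (Subgroup.zpowers_le.2 h.1)
  have hx'p : IsPGroup p ↥(Subgroup.zpowers (⟨x, hxD⟩ : ↥D)) := by
    have hinj : Function.Injective D.subtype := D.subtype_injective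
    have : (Subgroup.zpowers (⟨x, hxD⟩ : ↥D)).map D.subtype = Subgroup.zpowers x := by
      rw [MonoidHom.map_zpowers]; rfl
    have h2 : IsPGroup p ↥((Subgroup.zpowers (⟨x, hxD⟩ : ↥D)).map D.subtype) := by
      rw [this]; exact hxp
    exact h2.of_equiv ((Subgroup.zpowers (⟨x, hxD⟩ : ↥D)).equivMapOfInjective D.subtype hinj).symm
  obtain ⟨P, hP⟩ := hx'p.exists_le_sylow
  refine ⟨P, hP (Subgroup.mem_zpowers _), ?_, ?_⟩
  · intro d hd
    have hQ : IsPGroup p ↥((P : Subgroup ↥D).map D.subtype) := P.isPGroup'.map _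
    have hxQ : x ∈ (P : Subgroup ↥D).map D.subtype :=
      ⟨⟨x, hxD⟩, hP (Subgroup.mem_zpowers _), rfl⟩
    have hg : (d : G)⁻¹ * x * ((d : G)⁻¹)⁻¹ ∈ (P : Subgroup ↥D).map D.subtype := by
      refine ⟨_, hd, ?_⟩
      simp
    have := h.conj_eq_of_mem_pgroup _ hQ hxQ (d : G)⁻¹ hg
    apply Subtype.ext
    simpa using this
  · intro H hH hnorm k hk
    have h1 : (Nat.card ↥(H.map D.subtype)).Coprime p := by
      rw [Subgroup.card_map_of_injective D.subtype_injective]; exact hH
    have h2 : ∀ y ∈ H.map D.subtype, x * y * x⁻¹ ∈ H.map D.subtype := by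
      rintro _ ⟨y, hy, rfl⟩
      exact ⟨_, hnorm y hy, by simp⟩
    have h3 := h.2.2 _ h1 h2 (k : G) ⟨k, hk, rfl⟩
    apply Subtype.ext
    simpa using h3

/-- The inductive step: if `x` is central in every proper subgroup containing it, it is central. -/
theorem IsoHyp.central_of_proper {S : Sylow p G} {x : G} (h : IsoHyp p (S : Subgroup G) x)
    (IH : ∀ D : Subgroup G, D ≠ ⊤ → x ∈ D → ∀ d ∈ D, x * d = d * x) :
    x ∈ Subgroup.center G := by
  classical
  by_contra hxZ
  have hpp : p.Prime := Fact.out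
  -- the centralizer of `x`
  have hCmem : ∀ g : G, g ∈ Subgroup.centralizer ({x} : Set G) ↔ g * x = x * g := by
    intro g
    rw [Subgroup.mem_centralizer_iff]
    constructor
    · intro hg; exact (hg x rfl).symm
    · rintro hg _ rfl; exact hg.symm
  have hCtop : Subgroup.centralizer ({x} : Set G) ≠ ⊤ := by
    intro htop
    apply hxZ
    rw [Subgroup.mem_center_iff]
    intro g
    have : g ∈ Subgroup.centralizer ({x} : Set G) := by rw [htop]; trivial
    exact (hCmem g).1 this
  have hSC : (S : Subgroup G) ≤ Subgroup.centralizer ({x} : Set G) := by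
    intro s hs
    rw [hCmem]
    have h1 : s⁻¹ * x * s ∈ (S : Subgroup G) :=
      (S : Subgroup G).mul_mem ((S : Subgroup G).mul_mem ((S : Subgroup G).inv_mem hs) h.1) hs
    have h2 := h.2.1 s h1
    calc s * x = s * (s⁻¹ * x * s) := by rw [h2]
      _ = x * s := by group
  have hgen : ∀ g : G, g ∉ Subgroup.centralizer ({x} : Set G) →
      Subgroup.closure ({x, g * x * g⁻¹} : Set G) = ⊤ := by
    intro g hg
    by_contra hne
    apply hg
    have hxD : x ∈ Subgroup.closure ({x, g * x * g⁻¹} : Set G) :=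
      Subgroup.subset_closure (by simp)
    have hyD : g * x * g⁻¹ ∈ Subgroup.closure ({x, g * x * g⁻¹} : Set G) :=
      Subgroup.subset_closure (by simp)
    have h1 := IH _ hne hxD _ hyD
    have h2 := h.eq_of_commute g h1
    rw [hCmem]
    calc g * x = (g * x * g⁻¹) * g := by group
      _ = x * g := by rw [h2]
  have hTIG : ∀ g : G, g ∉ Subgroup.centralizer ({x} : Set G) →
      ∀ t ∈ Subgroup.centralizer ({x} : Set G), g * t * g⁻¹ ∈ Subgroup.centralizer ({x} : Set G) →
      t ∈ Subgroup.center G := by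
    intro g hg t ht hgt
    have hg' : g⁻¹ ∉ Subgroup.centralizer ({x} : Set G) := fun hc => hg (by simpa using inv_mem hc)
    have hcl := hgen g⁻¹ hg'
    rw [hCmem] at ht hgt
    have hle : Subgroup.closure ({x, g⁻¹ * x * g⁻¹⁻¹} : Set G) ≤
        Subgroup.centralizer ({t} : Set G) := by
      rw [Subgroup.closure_le]
      intro y hy
      simp only [Set.mem_insert_iff, Set.mem_singleton_iff] at hy
      rw [SetLike.mem_coe, Subgroup.mem_centralizer_iff]
      intro t' ht'
      have ht'' : t' = t := ht'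
      rw [ht'']
      rcases hy with hy | hy
      · rw [hy]; exact ht
      · rw [hy, inv_inv]
        calc t * (g⁻¹ * x * g) = g⁻¹ * ((g * t * g⁻¹) * x) * g := by group
          _ = g⁻¹ * (x * (g * t * g⁻¹)) * g := by rw [hgt]
          _ = g⁻¹ * x * g * t := by group
    rw [hcl] at hle
    rw [Subgroup.mem_center_iff]
    intro y
    have := hle (Subgroup.mem_top y)
    rw [Subgroup.mem_centralizer_iff] at this
    exact (this t rfl).symm
  -- the quotient by the centre
  have hZC : Subgroup.center G ≤ Subgroup.centralizer ({x} : Set G) := by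
    intro z hz
    rw [hCmem]
    exact (Subgroup.mem_center_iff.1 hz x).symm
  have hmemC : ∀ g : G, (QuotientGroup.mk' (Subgroup.center G)) g ∈
      (Subgroup.centralizer ({x} : Set G)).map (QuotientGroup.mk' (Subgroup.center G)) ↔
      g ∈ Subgroup.centralizer ({x} : Set G) := by
    intro g
    constructor
    · rintro ⟨c, hc, hcg⟩
      have h1 : c⁻¹ * g ∈ Subgroup.center G := by
        have := QuotientGroup.eq.1 hcg
        exact this
      have h2 := Subgroup.mul_mem _ hc (hZC h1)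
      simpa using h2
    · intro hg; exact ⟨g, hg, rfl⟩
  have hTI : ∀ g : G ⧸ Subgroup.center G,
      g ∉ (Subgroup.centralizer ({x} : Set G)).map (QuotientGroup.mk' (Subgroup.center G)) →
      ∀ t ∈ (Subgroup.centralizer ({x} : Set G)).map (QuotientGroup.mk' (Subgroup.center G)),
      g * t * g⁻¹ ∈ (Subgroup.centralizer ({x} : Set G)).map
        (QuotientGroup.mk' (Subgroup.center G)) → t = 1 := by
    intro g hg t ht hgt
    obtain ⟨g, rfl⟩ := QuotientGroup.mk'_surjective _ g
    obtain ⟨t, ht', rfl⟩ := ht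
    rw [hmemC] at hg
    have h1 : (QuotientGroup.mk' (Subgroup.center G)) (g * t * g⁻¹) ∈
        (Subgroup.centralizer ({x} : Set G)).map (QuotientGroup.mk' (Subgroup.center G)) := by
      simpa using hgt
    rw [hmemC] at h1
    have h2 := hTIG g hg t ht' h1
    exact (QuotientGroup.eq_one_iff t).2 h2
  obtain ⟨Nb, hNn, hNC, hNmem⟩ := Cfsg.Agent.helper1.frobenius_kernel_exists _ hTI
  -- the order of the kernel
  have hCbot : (Subgroup.centralizer ({x} : Set G)).map (QuotientGroup.mk' (Subgroup.center G)) ≠ ⊥ := by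
    intro hbot
    apply hxZ
    have : (QuotientGroup.mk' (Subgroup.center G)) x ∈
        (Subgroup.centralizer ({x} : Set G)).map (QuotientGroup.mk' (Subgroup.center G)) :=
      ⟨x, (hCmem x).2 rfl, rfl⟩
    rw [hbot, Subgroup.mem_bot] at this
    exact (QuotientGroup.eq_one_iff x).1 this
  have hCtop' : (Subgroup.centralizer ({x} : Set G)).map (QuotientGroup.mk' (Subgroup.center G)) ≠ ⊤ := by
    intro htop
    apply hCtop
    rw [eq_top_iff]
    intro g _
    rw [← hmemC, htop]; trivial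
  have hFC : Cfsg.IsFrobeniusComplement
      ((Subgroup.centralizer ({x} : Set G)).map (QuotientGroup.mk' (Subgroup.center G))) := by
    refine ⟨hCbot, hCtop', ?_⟩
    intro g hg
    rw [eq_bot_iff]
    intro t ht
    obtain ⟨ht1, ht2⟩ := Subgroup.mem_inf.1 ht
    rw [Subgroup.mem_smul_pointwise_iff_exists] at ht2
    obtain ⟨s, hs, rfl⟩ := ht2
    have : s = 1 := hTI g hg s hs (by simpa [MulAut.smul_def] using ht1)
    rw [this]
    simp
  have hcardN : Nat.card ↥Nb = (Subgroup.centralizer ({x} : Set G)).index := by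
    have h1 := Cfsg.Agent.helper21.frobc_kernel_card _ hFC
    rw [Subgroup.index_map_eq _ (QuotientGroup.mk'_surjective _)
      (by rw [QuotientGroup.ker_mk']; exact hZC)] at h1
    rw [← h1]
    exact Nat.card_congr (Equiv.subtypeEquivRight hNmem)
  have hidx1 : (Subgroup.centralizer ({x} : Set G)).index ≠ 1 := by
    intro h1; exact hCtop (Subgroup.index_eq_one.1 h1)
  have hidxp : ¬ p ∣ (Subgroup.centralizer ({x} : Set G)).index := by
    intro hdvd
    exact S.not_dvd_index (hdvd.trans (Subgroup.index_dvd_of_le hSC))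
  have hNcop : (Nat.card ↥Nb).Coprime p := by
    rw [hcardN]
    exact ((Nat.Prime.coprime_iff_not_dvd hpp).2 hidxp).symm
  -- the preimage of the kernel
  set N : Subgroup G := Nb.comap (QuotientGroup.mk' (Subgroup.center G)) with hN
  haveI hNnorm : N.Normal := hNn.comap _
  obtain ⟨P⟩ := (inferInstance : Nonempty (Sylow p ↥N))
  have hPZ : ∀ s : ↥N, s ∈ P → (s : G) ∈ Subgroup.center G := by
    intro s hs
    have hsN : (QuotientGroup.mk' (Subgroup.center G)) (s : G) ∈ Nb := s.2
    have h1 : orderOf ((QuotientGroup.mk' (Subgroup.center G)) (s : G)) ∣ Nat.card ↥Nb :=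
      Subgroup.orderOf_dvd_natCard Nb hsN
    have h2 : orderOf ((QuotientGroup.mk' (Subgroup.center G)) (s : G)) ∣ orderOf (s : G) :=
      orderOf_map_dvd _ _
    obtain ⟨k, hk⟩ := P.isPGroup' ⟨s, hs⟩
    have hk' : (s : G) ^ p ^ k = 1 := by
      have := congrArg (fun z : ↥(P : Subgroup ↥N) => ((z : ↥N) : G)) hk
      simpa using this
    have h3 : orderOf (s : G) ∣ p ^ k := orderOf_dvd_of_pow_eq_one hk'
    have h4 : orderOf ((QuotientGroup.mk' (Subgroup.center G)) (s : G)) ∣
        Nat.gcd (Nat.card ↥Nb) (p ^ k) := Nat.dvd_gcd h1 (h2.trans h3)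
    have h5 : Nat.gcd (Nat.card ↥Nb) (p ^ k) = 1 := Nat.Coprime.pow_right k hNcop
    rw [h5, Nat.dvd_one, orderOf_eq_one_iff] at h4
    exact (QuotientGroup.eq_one_iff _).1 h4
  have hP : Subgroup.normalizer ((P : Subgroup ↥N) : Set ↥N) ≤
      Subgroup.centralizer ((P : Subgroup ↥N) : Set ↥N) := by
    intro n _
    rw [Subgroup.mem_centralizer_iff]
    intro s hs
    apply Subtype.ext
    have := Subgroup.mem_center_iff.1 (hPZ s hs) (n : G)
    simpa using this.symm
  have hcompl := MonoidHom.ker_transferSylow_isComplement' P hP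
  set K : Subgroup ↥N := (MonoidHom.transferSylow P hP).ker with hK
  have hKcard : (Nat.card ↥K).Coprime p := by
    have h1 := hcompl.card_mul_card
    have h2 := (P : Subgroup ↥N).card_mul_index
    have h3 : Nat.card ↥K = (P : Subgroup ↥N).index := by
      have hpos : 0 < Nat.card ↥(P : Subgroup ↥N) := Nat.card_pos
      apply Nat.eq_of_mul_eq_mul_right hpos
      rw [h1, mul_comm, h2]
    rw [h3]
    exact ((Nat.Prime.coprime_iff_not_dvd hpp).2 P.not_dvd_index).symm
  -- `K` contains every element of `N` of order prime to `p`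
  have hKmem : ∀ n : ↥N, (orderOf n).Coprime p → n ∈ K := by
    intro n hn
    rw [hK, MonoidHom.mem_ker]
    have h1 : orderOf (MonoidHom.transferSylow P hP n) ∣ orderOf n := orderOf_map_dvd _ _
    obtain ⟨k, hk⟩ := P.isPGroup' (MonoidHom.transferSylow P hP n)
    have h2 : orderOf (MonoidHom.transferSylow P hP n) ∣ p ^ k := orderOf_dvd_of_pow_eq_one hk
    have h3 : orderOf (MonoidHom.transferSylow P hP n) ∣ Nat.gcd (orderOf n) (p ^ k) :=
      Nat.dvd_gcd h1 h2
    have h4 : Nat.gcd (orderOf n) (p ^ k) = 1 := Nat.Coprime.pow_right k hn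
    rw [h4, Nat.dvd_one, orderOf_eq_one_iff] at h3
    exact h3
  -- `x` centralizes the image of `K`
  have hH₀cop : (Nat.card ↥(K.map N.subtype)).Coprime p := by
    rw [Subgroup.card_map_of_injective N.subtype_injective]; exact hKcard
  have hH₀norm : ∀ y ∈ K.map N.subtype, x * y * x⁻¹ ∈ K.map N.subtype := by
    rintro _ ⟨k, hk, rfl⟩
    have hmemN : x * (k : G) * x⁻¹ ∈ N := hNnorm.conj_mem _ k.2 x
    refine ⟨⟨_, hmemN⟩, ?_, rfl⟩
    apply hKmem
    have h1 : orderOf (⟨x * (k : G) * x⁻¹, hmemN⟩ : ↥N) = orderOf k := by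
      rw [← Subgroup.orderOf_coe, ← Subgroup.orderOf_coe k]
      change orderOf (x * (k : G) * x⁻¹) = orderOf (k : G)
      rw [← MulAut.conj_apply, MulEquiv.orderOf_eq]
    rw [h1]
    have h2 : orderOf k ∣ Nat.card ↥K := Subgroup.orderOf_dvd_natCard K hk
    exact Nat.Coprime.coprime_dvd_left h2 hKcard
  have hcent := h.2.2 _ hH₀cop hH₀norm
  have hNC' : N ≤ Subgroup.centralizer ({x} : Set G) := by
    intro n hn
    obtain ⟨⟨k, s⟩, hks⟩ := (Subgroup.isComplement'_def.1 hcompl).2 ⟨n, hn⟩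
    have hks' : ((k : ↥N) : G) * ((s : ↥N) : G) = n := by
      have := congrArg (fun z : ↥N => (z : G)) hks
      simpa using this
    rw [hCmem, ← hks']
    have h1 : x * ((k : ↥N) : G) = ((k : ↥N) : G) * x := hcent _ ⟨k, k.2, rfl⟩
    have h2 : ((s : ↥N) : G) * x = x * ((s : ↥N) : G) :=
      (Subgroup.mem_center_iff.1 (hPZ s s.2) x).symm
    calc ((k : ↥N) : G) * ((s : ↥N) : G) * x = ((k : ↥N) : G) * (((s : ↥N) : G) * x) := by group
      _ = ((k : ↥N) : G) * (x * ((s : ↥N) : G)) := by rw [h2]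
      _ = (((k : ↥N) : G) * x) * ((s : ↥N) : G) := by group
      _ = (x * ((k : ↥N) : G)) * ((s : ↥N) : G) := by rw [h1]
      _ = x * (((k : ↥N) : G) * ((s : ↥N) : G)) := by group
  -- contradiction
  have hNbot : Nb = ⊥ := by
    rw [eq_bot_iff, ← hNC]
    intro nb hnb
    refine Subgroup.mem_inf.2 ⟨hnb, ?_⟩
    obtain ⟨n, rfl⟩ := QuotientGroup.mk'_surjective _ nb
    exact ⟨n, hNC' hnb, rfl⟩
  rw [hNbot, Subgroup.card_bot] at hcardN
  exact hidx1 hcardN.symm

end

/-- An element `x` of a Sylow `p`-subgroup `S` which is its only conjugate in `S` and which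
centralizes every `p'`-subgroup it normalizes is central. -/
theorem isoCentral : ∀ (n : ℕ) (G : Type u) [Group G] [Finite G], Nat.card G = n →
    ∀ (p : ℕ) [Fact p.Prime] (S : Sylow p G) (x : G), IsoHyp p (S : Subgroup G) x →
      x ∈ Subgroup.center G := by
  intro n
  induction n using Nat.strong_induction_on with
  | _ n ih =>
    intro G _ _ hn p _ S x h
    apply h.central_of_proper
    intro D hD hxD d hd
    obtain ⟨P, hP⟩ := h.subgroup D hxD
    have hlt : Nat.card ↥D < n := by
      rw [← hn]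
      refine lt_of_le_of_ne (Subgroup.card_le_card_group D) ?_
      intro heq
      exact hD (Subgroup.eq_top_of_card_eq D heq)
    have h1 := ih _ hlt ↥D rfl p P ⟨x, hxD⟩ hP
    have h2 := Subgroup.mem_center_iff.1 h1 ⟨d, hd⟩
    exact (congrArg Subtype.val h2).symm

end Cfsg.Agent.helper15
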