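import Mathlib
import Cfsg.Prelude.Def_Local
import Cfsg.Prelude.Def_CaseTheorems
import Cfsg.Agent.Lib_helper15_GAB
import Cfsg.Agent.Lib_helper7_PConstr
import Cfsg.Agent.Lib_helper7_Balance

set_option autoImplicit false
set_option linter.unusedSectionVars false
set_option linter.style.haveILetI false

/-!
In a `p`-constrained group (`p` odd), if `E` is a `p`-subgroup containing every `p`-element of its
centralizer, then every `E`-invariant `p'`-subgroup lies in `O_{p'}`.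
-/

namespace Cfsg.Agent.helper15.Baer

open Cfsg.Agent.helper7
open scoped commutatorElement

universe u

variable {N : Type u} [Group N] [Finite N]

/-- `p`-constraint in the quotient by `O_{p'}`. -/
theorem centralizer_pCore_quot_le {p : ℕ} [hp : Fact p.Prime] (hc : Cfsg.IsPConstrained p N) :
    Subgroup.centralizer ((Cfsg.pCore p (N ⧸ Cfsg.pPrimeCore p N) : Subgroup _) : Set _) ≤
      Cfsg.pCore p (N ⧸ Cfsg.pPrimeCore p N) := by
  intro xb hxb
  obtain ⟨x, rfl⟩ := QuotientGroup.mk'_surjective (Cfsg.pPrimeCore p N) xb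
  obtain ⟨P⟩ : Nonempty (Sylow p ↥(Cfsg.pPrimePCore p N)) := inferInstance
  have hPmap := map_sylow_pPrimePCore hp.out P
  rw [← hPmap, Subgroup.mem_centralizer_iff] at hxb
  obtain ⟨y, hy, o, ho, rfl⟩ := exists_lift_centralizer hp.out (pPrimeCore_coprime hp.out)
    (P.isPGroup'.map (Cfsg.pPrimePCore p N).subtype) x (by
      intro a ha
      rw [← ker_mk_pPrimeCore p, MonoidHom.mem_ker, map_mul, map_mul, map_mul, map_inv, map_inv]
      have := hxb _ (Subgroup.mem_map_of_mem _ ha)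
      rw [this]; group)
  have hyT := hc P hy
  have h5 : QuotientGroup.mk' (Cfsg.pPrimeCore p N) (o * x) =
      QuotientGroup.mk' (Cfsg.pPrimeCore p N) x := by
    rw [map_mul]
    have : QuotientGroup.mk' (Cfsg.pPrimeCore p N) o = 1 := by
      rw [← MonoidHom.mem_ker, ker_mk_pPrimeCore]; exact ho
    rw [this, one_mul]
  rw [← h5, ← map_pPrimePCore_eq]
  exact Subgroup.mem_map_of_mem _ hyT

/-- Lifting: a `p`-element of the quotient centralizing the image of `E` lies in the image of `E`,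
when `E` contains all `p`-elements of its centralizer. -/
theorem mem_map_of_centralizes {p : ℕ} [hp : Fact p.Prime] (E : Subgroup N) (hEp : IsPGroup p E)
    (hEfull : ∀ x ∈ Subgroup.centralizer (E : Set N), IsPGroup p (Subgroup.zpowers x) → x ∈ E)
    (vb : N ⧸ Cfsg.pPrimeCore p N) (k : ℕ) (hvk : vb ^ p ^ k = 1)
    (hvc : vb ∈ Subgroup.centralizer
      ((E.map (QuotientGroup.mk' (Cfsg.pPrimeCore p N)) : Subgroup _) : Set _)) :
    vb ∈ E.map (QuotientGroup.mk' (Cfsg.pPrimeCore p N)) := by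
  obtain ⟨v, hv⟩ := QuotientGroup.mk'_surjective (Cfsg.pPrimeCore p N) vb
  rw [Subgroup.mem_centralizer_iff] at hvc
  obtain ⟨y, hy, o, ho, hyo⟩ := exists_lift_centralizer hp.out (pPrimeCore_coprime hp.out)
    hEp v (by
      intro a ha
      rw [← ker_mk_pPrimeCore p, MonoidHom.mem_ker, map_mul, map_mul, map_mul, map_inv, map_inv]
      have := hvc _ (Subgroup.mem_map_of_mem _ ha)
      rw [hv, this]; group)
  have hπy : QuotientGroup.mk' (Cfsg.pPrimeCore p N) y = vb := by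
    rw [hyo, map_mul]
    have : QuotientGroup.mk' (Cfsg.pPrimeCore p N) o = 1 := by
      rw [← MonoidHom.mem_ker, ker_mk_pPrimeCore]; exact ho
    rw [this, one_mul, hv]
  have hcop : Nat.Coprime (Nat.card ↥(Cfsg.pPrimeCore p N)) (p ^ k) :=
    Nat.Coprime.pow_right k (pPrimeCore_coprime hp.out)
  -- `y ^ (p ^ k) ∈ O`
  have hyO : y ^ p ^ k ∈ Cfsg.pPrimeCore p N := by
    rw [← ker_mk_pPrimeCore p, MonoidHom.mem_ker, map_pow, hπy]
    exact hvk
  have hy1 : y ^ (p ^ k * Nat.card ↥(Cfsg.pPrimeCore p N)) = 1 := by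
    rw [pow_mul]
    have := pow_card_eq_one' (G := ↥(Cfsg.pPrimeCore p N)) (x := ⟨y ^ p ^ k, hyO⟩)
    have h2 := congrArg Subtype.val this
    rw [Subgroup.coe_pow, Subgroup.coe_one] at h2
    exact h2
  -- Bezout
  obtain ⟨m, hm⟩ : ∃ m : ℕ, m = Nat.card ↥(Cfsg.pPrimeCore p N) := ⟨_, rfl⟩
  rw [← hm] at hcop hy1
  have hbez : (1 : ℤ) = (m : ℤ) * Nat.gcdA m (p ^ k) + ((p ^ k : ℕ) : ℤ) * Nat.gcdB m (p ^ k) := by
    have := Nat.gcd_eq_gcd_ab m (p ^ k)
    rw [hcop.gcd_eq_one] at this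
    exact_mod_cast this
  obtain ⟨a, ha⟩ : ∃ a : ℤ, a = Nat.gcdA m (p ^ k) := ⟨_, rfl⟩
  obtain ⟨b, hb⟩ : ∃ b : ℤ, b = Nat.gcdB m (p ^ k) := ⟨_, rfl⟩
  rw [← ha, ← hb] at hbez
  have hzC : y ^ ((m : ℤ) * a) ∈ Subgroup.centralizer (E : Set N) := Subgroup.zpow_mem _ hy _
  have hzp : (y ^ ((m : ℤ) * a)) ^ p ^ k = 1 := by
    rw [← zpow_natCast, ← zpow_mul]
    have e1 : (m : ℤ) * a * ((p ^ k : ℕ) : ℤ) = (((p ^ k * m : ℕ)) : ℤ) * a := by
      push_cast; ring
    rw [e1, zpow_mul, zpow_natCast, hy1, one_zpow]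
  have hzE : y ^ ((m : ℤ) * a) ∈ E := by
    apply hEfull _ hzC
    have hord : orderOf (y ^ ((m : ℤ) * a)) ∣ p ^ k := orderOf_dvd_of_pow_eq_one hzp
    obtain ⟨j, _, hj⟩ := (Nat.dvd_prime_pow hp.out).1 hord
    apply IsPGroup.of_card (n := j)
    rw [Nat.card_zpowers, hj]
  refine ⟨y ^ ((m : ℤ) * a), hzE, ?_⟩
  rw [map_zpow, hπy]
  have e2 : (m : ℤ) * a = 1 - ((p ^ k : ℕ) : ℤ) * b := by rw [hbez]; ring
  rw [e2, zpow_sub, zpow_one, zpow_mul, zpow_natCast, hvk, one_zpow, inv_one, mul_one]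

/-- The key lemma, `p` odd. -/
theorem kl_odd {p : ℕ} [hp : Fact p.Prime] (hp2 : p ≠ 2)
    (hc : Cfsg.IsPConstrained p N) (E R : Subgroup N) (hEp : IsPGroup p E)
    (hEfull : ∀ x ∈ Subgroup.centralizer (E : Set N), IsPGroup p (Subgroup.zpowers x) → x ∈ E)
    (hR : (Nat.card R).Coprime p) (hER : E ≤ Subgroup.normalizer (R : Set N)) :
    R ≤ Cfsg.pPrimeCore p N := by
  set O := Cfsg.pPrimeCore p N with hO
  set π := QuotientGroup.mk' O with hπ
  set Vb := Cfsg.pCore p (N ⧸ O) with hVb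
  have hVp : IsPGroup p Vb := pCore_isPGroup hp.out
  have hEbp : IsPGroup p (E.map π) := hEp.map π
  have hRb : (Nat.card (R.map π)).Coprime p :=
    Nat.Coprime.coprime_dvd_left (Subgroup.card_map_dvd R π) hR
  have hEbRb : E.map π ≤ Subgroup.normalizer ((R.map π : Subgroup _) : Set _) :=
    (Subgroup.map_mono hER).trans (Subgroup.le_normalizer_map π)
  have hVtop : Subgroup.normalizer ((Vb : Subgroup (N ⧸ O)) : Set (N ⧸ O)) = ⊤ :=
    Subgroup.normalizer_eq_top Vb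
  obtain ⟨j, hj⟩ := hVp.exists_card_eq
  have hdisj : Vb ⊓ R.map π = ⊥ := by
    apply Subgroup.inf_eq_bot_of_coprime
    rw [hj]
    exact (Nat.Coprime.pow_right j hRb).symm
  have hCE : Vb ⊓ Subgroup.centralizer ((E.map π : Subgroup _) : Set _) ≤
      Subgroup.centralizer ((R.map π : Subgroup _) : Set _) := by
    intro vb hvb
    obtain ⟨hvV, hvC⟩ := Subgroup.mem_inf.mp hvb
    have hvk : vb ^ p ^ j = 1 := by
      have := pow_card_eq_one' (G := ↥Vb) (x := ⟨vb, hvV⟩)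
      rw [hj] at this
      have h2 := congrArg Subtype.val this
      simpa using h2
    have hvE : vb ∈ E.map π := mem_map_of_centralizes E hEp hEfull vb j hvk hvC
    refine Subgroup.mem_centralizer_iff.2 ?_
    intro r hr
    have h1 : vb * r * vb⁻¹ * r⁻¹ ∈ Vb ⊓ R.map π := by
      refine Subgroup.mem_inf.mpr ⟨?_, ?_⟩
      · have hn : r * vb⁻¹ * r⁻¹ ∈ Vb :=
          (inferInstance : Vb.Normal).conj_mem _ (Vb.inv_mem hvV) r
        have e : vb * r * vb⁻¹ * r⁻¹ = vb * (r * vb⁻¹ * r⁻¹) := by group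
        rw [e]; exact Vb.mul_mem hvV hn
      · have hn : vb * r * vb⁻¹ ∈ R.map π :=
          (Subgroup.mem_normalizer_iff.mp (hEbRb hvE) r).mp hr
        exact Subgroup.mul_mem _ hn (Subgroup.inv_mem _ hr)
    rw [hdisj, Subgroup.mem_bot] at h1
    calc r * vb = (vb * r * vb⁻¹ * r⁻¹)⁻¹ * (vb * r) := by group
      _ = vb * r := by rw [h1, inv_one, one_mul]
  have hgab := gab hp2 (E.map π) (R.map π) hEbp hRb hEbRb Vb hVp
    (by rw [hVtop]; exact le_top) (by rw [hVtop]; exact le_top) hCE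
  have hRV : R.map π ≤ Vb := hgab.trans (centralizer_pCore_quot_le hc)
  have hbot : R.map π = ⊥ := by
    rw [eq_bot_iff, ← hdisj]
    exact le_inf hRV le_rfl
  exact le_pPrimeCore_of_map_eq_bot hbot

end Cfsg.Agent.helper15.Baer
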