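import Mathlib
import Cfsg.Prelude.Def_Local
import Cfsg.Prelude.Def_CaseTheorems
import Cfsg.Agent.Lib_helper15_KL
import Cfsg.Agent.Lib_helper7_PQ
import Cfsg.Agent.Lib_helper10_ChainStab
import Cfsg.Agent.Lib_helper1_Core

set_option autoImplicit false
set_option linter.unusedSectionVars false
set_option linter.style.haveILetI false
set_option maxHeartbeats 800000

/-!
The key lemma when the Sylow `p`-subgroups have class at most two (used for `p = 2`).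
-/

namespace Cfsg.Agent.helper15.Baer

open Cfsg.Agent.helper7
open scoped commutatorElement

universe u

variable {N : Type u} [Group N] [Finite N]

/-- A `p'`-element stabilizing a chain `V₁ ≥ E₀ ≥ 1` of `p`-groups centralizes `V₁`. -/
theorem centralizes_of_stab_two {M : Type u} [Group M] [Finite M] {p : ℕ} [hp : Fact p.Prime]
    (y : M) (hy : (orderOf y).Coprime p)
    (V₁ E₀ : Subgroup M) (hV₁ : IsPGroup p V₁) (hle : E₀ ≤ V₁)
    (h1 : ∀ t ∈ V₁, y * t * y⁻¹ * t⁻¹ ∈ E₀) (h0 : ∀ t ∈ E₀, y * t * y⁻¹ * t⁻¹ = 1) :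
    ∀ t ∈ V₁, y * t * y⁻¹ = t := by
  obtain ⟨m, hm⟩ := Cfsg.Agent.helper10.pow_centralizes_of_stabilizes_chain (p := p) y 2
    (fun i => match i with
      | 0 => V₁
      | 1 => E₀
      | _ => ⊥)
    (by
      intro i
      match i with
      | 0 => exact hV₁
      | 1 => exact hV₁.to_le hle
      | (n + 2) => exact IsPGroup.of_bot)
    rfl
    (by
      intro i
      match i with
      | 0 => exact hle
      | 1 => exact bot_le
      | (n + 2) => exact le_rfl)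
    (by
      intro i
      match i with
      | 0 => exact h1
      | 1 =>
        intro t ht
        show y * t * y⁻¹ * t⁻¹ ∈ (⊥ : Subgroup M)
        rw [Subgroup.mem_bot]; exact h0 t ht
      | (n + 2) =>
        intro t ht
        have ht' : t ∈ (⊥ : Subgroup M) := ht
        rw [Subgroup.mem_bot] at ht'
        show y * t * y⁻¹ * t⁻¹ ∈ (⊥ : Subgroup M)
        rw [Subgroup.mem_bot, ht']; group)
  have hm' : ∀ t ∈ V₁, y ^ (p ^ m) * t * (y ^ (p ^ m))⁻¹ = t := hm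
  have hcop : Nat.Coprime (p ^ m) (orderOf y) := (Nat.Coprime.pow_right m hy).symm
  obtain ⟨k, hk⟩ := exists_pow_eq_self_of_coprime hcop
  intro t ht
  have hpow : ∀ j : ℕ, (y ^ (p ^ m)) ^ j * t * ((y ^ (p ^ m)) ^ j)⁻¹ = t := by
    intro j
    induction j with
    | zero => group
    | succ j ih =>
      calc (y ^ (p ^ m)) ^ (j + 1) * t * ((y ^ (p ^ m)) ^ (j + 1))⁻¹
          = (y ^ (p ^ m)) * ((y ^ (p ^ m)) ^ j * t * ((y ^ (p ^ m)) ^ j)⁻¹) * (y ^ (p ^ m))⁻¹ := by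
            rw [pow_succ']; group
        _ = t := by rw [ih, hm' t ht]
  have := hpow k
  rw [hk] at this
  exact this


/-- The key lemma when commutators of a Sylow `p`-subgroup are central in it. -/
theorem kl_quad {p : ℕ} [hp : Fact p.Prime]
    (hc : Cfsg.IsPConstrained p N) (E R : Subgroup N) (hEp : IsPGroup p E)
    (hEc : ∀ x ∈ E, ∀ y ∈ E, x * y = y * x)
    (hEfull : ∀ x ∈ Subgroup.centralizer (E : Set N), IsPGroup p (Subgroup.zpowers x) → x ∈ E)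
    (hcl : ∀ P : Sylow p N, ∀ x ∈ P, ∀ y ∈ P, ∀ z ∈ P, ⁅⁅x, y⁆, z⁆ = 1)
    (hR : (Nat.card R).Coprime p) (hER : E ≤ Subgroup.normalizer (R : Set N)) :
    R ≤ Cfsg.pPrimeCore p N := by
  set O := Cfsg.pPrimeCore p N with hO
  set π := QuotientGroup.mk' O with hπ
  set Vb := Cfsg.pCore p (N ⧸ O) with hVb
  have hπs : Function.Surjective π := QuotientGroup.mk'_surjective O
  have hVp : IsPGroup p Vb := pCore_isPGroup hp.out
  haveI hVn : Vb.Normal := pCore_normal' hp.out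
  have hEbp : IsPGroup p (E.map π) := hEp.map π
  have hRb : (Nat.card (R.map π)).Coprime p :=
    Nat.Coprime.coprime_dvd_left (Subgroup.card_map_dvd R π) hR
  have hEbRb : E.map π ≤ Subgroup.normalizer ((R.map π : Subgroup _) : Set _) :=
    (Subgroup.map_mono hER).trans (Subgroup.le_normalizer_map π)
  have hVtop : Subgroup.normalizer ((Vb : Subgroup (N ⧸ O)) : Set (N ⧸ O)) = ⊤ :=
    Subgroup.normalizer_eq_top Vb
  obtain ⟨j, hj⟩ := hVp.exists_card_eq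
  have hdisj : Vb ⊓ R.map π = ⊥ := by
    apply Subgroup.inf_eq_bot_of_coprime
    rw [hj]
    exact (Nat.Coprime.pow_right j hRb).symm
  have hpowV : ∀ vb ∈ Vb, vb ^ p ^ j = 1 := by
    intro vb hvV
    have := pow_card_eq_one' (G := ↥Vb) (x := ⟨vb, hvV⟩)
    rw [hj] at this
    have h2 := congrArg Subtype.val this
    simpa using h2
  -- the image of `E` is abelian
  have hEbc : ∀ x ∈ E.map π, ∀ y ∈ E.map π, x * y = y * x := by
    rintro _ ⟨x, hx, rfl⟩ _ ⟨y, hy, rfl⟩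
    rw [← map_mul, ← map_mul, hEc x hx y hy]
  -- `C_V(E) ≤ E`
  have hCVE : ∀ vb ∈ Vb, vb ∈ Subgroup.centralizer ((E.map π : Subgroup _) : Set _) →
      vb ∈ E.map π := fun vb hvV hvC =>
    mem_map_of_centralizes E hEp hEfull vb j (hpowV vb hvV) hvC
  have hCE : Vb ⊓ Subgroup.centralizer ((E.map π : Subgroup _) : Set _) ≤
      Subgroup.centralizer ((R.map π : Subgroup _) : Set _) := by
    intro vb hvb
    obtain ⟨hvV, hvC⟩ := Subgroup.mem_inf.mp hvb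
    have hvE : vb ∈ E.map π := hCVE vb hvV hvC
    refine Subgroup.mem_centralizer_iff.2 ?_
    intro r hr
    have h1 : vb * r * vb⁻¹ * r⁻¹ ∈ Vb ⊓ R.map π := by
      refine Subgroup.mem_inf.mpr ⟨?_, ?_⟩
      · have hn : r * vb⁻¹ * r⁻¹ ∈ Vb :=
          (inferInstance : Vb.Normal).conj_mem _ (Vb.inv_mem hvV) r
        have e : vb * r * vb⁻¹ * r⁻¹ = vb * (r * vb⁻¹ * r⁻¹) := by group
        rw [e]; exact Vb.mul_mem hvV hn
      · have hn : vb * r * vb⁻¹ ∈ R.map π :=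
          (Subgroup.mem_normalizer_iff.mp (hEbRb hvE) r).mp hr
        exact Subgroup.mul_mem _ hn (Subgroup.inv_mem _ hr)
    rw [hdisj, Subgroup.mem_bot] at h1
    calc r * vb = (vb * r * vb⁻¹ * r⁻¹)⁻¹ * (vb * r) := by group
      _ = vb * r := by rw [h1, inv_one, one_mul]
  -- quadratic action, from the class two hypothesis
  obtain ⟨P, hEP⟩ := hEp.exists_le_sylow
  have hVP : Vb ≤ P.map π := by
    have h1 : Vb ≤ ((P.mapSurjective hπs : Sylow p (N ⧸ O)) : Subgroup (N ⧸ O)) :=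
      IsPGroup.le_sylow_of_normal hVp _
    rw [Sylow.coe_mapSurjective] at h1
    exact h1
  obtain ⟨E₀, hE₀⟩ : ∃ E₀ : Subgroup (N ⧸ O), E₀ = Vb ⊓ E.map π := ⟨_, rfl⟩
  have hquad : ∀ v ∈ Vb, ∀ e ∈ E.map π, v * e * v⁻¹ * e⁻¹ ∈ E₀ := by
    intro v hv e he
    obtain ⟨s, hs, rfl⟩ := hVP hv
    obtain ⟨e', he', rfl⟩ := he
    have hcomm : π s * π e' * (π s)⁻¹ * (π e')⁻¹ = π ⁅s, e'⁆ := by
      rw [commutatorElement_def, map_mul, map_mul, map_mul, map_inv, map_inv]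
    have hinV : π s * π e' * (π s)⁻¹ * (π e')⁻¹ ∈ Vb := by
      have hn : π e' * (π s)⁻¹ * (π e')⁻¹ ∈ Vb := hVn.conj_mem _ (Vb.inv_mem hv) _
      have e : π s * π e' * (π s)⁻¹ * (π e')⁻¹ = π s * (π e' * (π s)⁻¹ * (π e')⁻¹) := by group
      rw [e]; exact Vb.mul_mem hv hn
    rw [hE₀]
    refine Subgroup.mem_inf.mpr ⟨hinV, ?_⟩
    apply hCVE _ hinV
    refine Subgroup.mem_centralizer_iff.2 ?_
    rintro _ ⟨f, hf, rfl⟩
    rw [hcomm, ← map_mul, ← map_mul]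
    have h3 := hcl P s hs e' (hEP he') f (hEP hf)
    have h4 : ⁅s, e'⁆ * f = f * ⁅s, e'⁆ := commutatorElement_eq_one_iff_mul_comm.mp h3
    rw [h4]
  have hE₀V : E₀ ≤ Vb := by rw [hE₀]; exact inf_le_left
  have hE₀E : E₀ ≤ E.map π := by rw [hE₀]; exact inf_le_right
  have hE₀p : IsPGroup p E₀ := hVp.to_le hE₀V
  -- `R` centralizes `E₀`
  have hRE₀ : ∀ r ∈ R.map π, ∀ z ∈ E₀, r * z * r⁻¹ = z := by
    intro r hr z hz
    have h1 : z ∈ Vb ⊓ Subgroup.centralizer ((E.map π : Subgroup _) : Set _) := by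
      refine Subgroup.mem_inf.mpr ⟨hE₀V hz, Subgroup.mem_centralizer_iff.2 ?_⟩
      intro x hx
      exact hEbc x hx z (hE₀E hz)
    have h2 : r * z = z * r := Subgroup.mem_centralizer_iff.1 (hCE h1) r hr
    rw [h2]; group
  have hEE₀ : ∀ e ∈ E.map π, ∀ z ∈ E₀, e * z * e⁻¹ = z := by
    intro e he z hz
    rw [hEbc e he z (hE₀E hz)]; group
  obtain ⟨V₁, hV₁⟩ : ∃ V₁ : Subgroup (N ⧸ O),
    V₁ = Vb ⊓ Subgroup.centralizer ((E₀ : Subgroup _) : Set _) := ⟨_, rfl⟩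
  have hV₁V : V₁ ≤ Vb := by rw [hV₁]; exact inf_le_left
  have hV₁p : IsPGroup p V₁ := hVp.to_le hV₁V
  have hE₀V₁ : E₀ ≤ V₁ := by
    rw [hV₁]
    refine le_inf hE₀V ?_
    intro z hz
    refine Subgroup.mem_centralizer_iff.2 ?_
    intro w hw
    exact hEbc w (hE₀E hw) z (hE₀E hz)
  have hV₁cent : ∀ t ∈ V₁, ∀ z ∈ E₀, z * t = t * z := by
    intro t ht z hz
    rw [hV₁] at ht
    exact Subgroup.mem_centralizer_iff.1 (Subgroup.mem_inf.mp ht).2 z hz
  -- facts (A), (B)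
  have hA : ∀ e ∈ E.map π, ∀ t ∈ V₁, ∃ z ∈ E₀, e * t * e⁻¹ = z * t := by
    intro e he t ht
    refine ⟨(t * e * t⁻¹ * e⁻¹)⁻¹, E₀.inv_mem (hquad t (hV₁V ht) e he), ?_⟩
    group
  have hB : ∀ r ∈ R.map π, ∀ t ∈ V₁, r * t * r⁻¹ ∈ V₁ := by
    intro r hr t ht
    rw [hV₁]
    refine Subgroup.mem_inf.mpr ⟨hVn.conj_mem _ (hV₁V ht) _, Subgroup.mem_centralizer_iff.2 ?_⟩
    intro z hz
    have hz' : r⁻¹ * z * r⁻¹⁻¹ = z := hRE₀ r⁻¹ (Subgroup.inv_mem _ hr) z hz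
    have h1 := hV₁cent t ht z hz
    calc z * (r * t * r⁻¹) = r * ((r⁻¹ * z * r⁻¹⁻¹) * t) * r⁻¹ := by group
      _ = r * (t * (r⁻¹ * z * r⁻¹⁻¹)) * r⁻¹ := by rw [hz', h1]
      _ = r * t * r⁻¹ * z := by group
  -- commutators `[r, e]` stabilize the chain, hence centralize `V₁`
  have hkey : ∀ r ∈ R.map π, ∀ e ∈ E.map π, ∀ t ∈ V₁,
      ⁅r, e⁆ * t * ⁅r, e⁆⁻¹ * t⁻¹ ∈ E₀ := by
    intro r hr e he t ht
    obtain ⟨z₁, hz₁, h1⟩ := hA e⁻¹ (Subgroup.inv_mem _ he) t ht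
    obtain ⟨t', ht'def⟩ : ∃ t' : N ⧸ O, t' = r⁻¹ * t * r⁻¹⁻¹ := ⟨_, rfl⟩
    have ht' : t' ∈ V₁ := by rw [ht'def]; exact hB r⁻¹ (Subgroup.inv_mem _ hr) t ht
    obtain ⟨z₂, hz₂, h2⟩ := hA e he t' ht'
    have e1 : ⁅r, e⁆ * t * ⁅r, e⁆⁻¹ * t⁻¹ = z₁ * z₂ := by
      have s1 : ⁅r, e⁆ * t * ⁅r, e⁆⁻¹ =
          r * (e * (r⁻¹ * (e⁻¹ * t * e⁻¹⁻¹) * r⁻¹⁻¹) * e⁻¹) * r⁻¹ := by
        rw [commutatorElement_def]; group
      have s2 : r⁻¹ * (z₁ * t) * r⁻¹⁻¹ = (r⁻¹ * z₁ * r⁻¹⁻¹) * t' := by rw [ht'def]; group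
      have s3 : e * (z₁ * t') * e⁻¹ = (e * z₁ * e⁻¹) * (e * t' * e⁻¹) := by group
      have s4 : r * (z₁ * (z₂ * t')) * r⁻¹ = (r * z₁ * r⁻¹) * (r * z₂ * r⁻¹) * (r * t' * r⁻¹) := by
        group
      have s5 : r * t' * r⁻¹ = t := by rw [ht'def]; group
      rw [s1, h1, s2, hRE₀ r⁻¹ (Subgroup.inv_mem _ hr) z₁ hz₁, s3, hEE₀ e he z₁ hz₁, h2, s4,
        hRE₀ r hr z₁ hz₁, hRE₀ r hr z₂ hz₂, s5]
      group
    rw [e1]; exact E₀.mul_mem hz₁ hz₂
  have hcommR : ∀ r ∈ R.map π, ∀ e ∈ E.map π, ⁅r, e⁆ ∈ R.map π := by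
    intro r hr e he
    have hn : e * r⁻¹ * e⁻¹ ∈ R.map π :=
      (Subgroup.mem_normalizer_iff.mp (hEbRb he) r⁻¹).mp (Subgroup.inv_mem _ hr)
    have e1 : ⁅r, e⁆ = r * (e * r⁻¹ * e⁻¹) := by rw [commutatorElement_def]; group
    rw [e1]; exact Subgroup.mul_mem _ hr hn
  have hcoprime_elt : ∀ y ∈ R.map π, (orderOf y).Coprime p := fun y hy =>
    Nat.Coprime.coprime_dvd_left (Subgroup.orderOf_dvd_natCard _ hy) hRb
  have hcent1 : ∀ r ∈ R.map π, ∀ e ∈ E.map π, ∀ t ∈ V₁, ⁅r, e⁆ * t * ⁅r, e⁆⁻¹ = t := by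
    intro r hr e he
    apply centralizes_of_stab_two ⁅r, e⁆ (hcoprime_elt _ (hcommR r hr e he)) V₁ E₀ hV₁p hE₀V₁
      (hkey r hr e he)
    intro z hz
    rw [hRE₀ _ (hcommR r hr e he) z hz, mul_inv_cancel]
  -- the commutator subgroup `[R, E]`
  obtain ⟨Q, hQ⟩ : ∃ Q : Subgroup (N ⧸ O), Q = ⁅R.map π, E.map π⁆ := ⟨_, rfl⟩
  have hQR : Q ≤ R.map π := by
    rw [hQ, Subgroup.commutator_le]
    exact hcommR
  have hQV₁ : Q ≤ Subgroup.centralizer ((V₁ : Subgroup _) : Set _) := by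
    rw [hQ, Subgroup.commutator_le]
    intro r hr e he
    refine Subgroup.mem_centralizer_iff.2 ?_
    intro t ht
    have := hcent1 r hr e he t ht
    calc t * ⁅r, e⁆ = (⁅r, e⁆ * t * ⁅r, e⁆⁻¹) * ⁅r, e⁆ := by rw [this]
      _ = ⁅r, e⁆ * t := by group
  have hQcop : (Nat.card Q).Coprime p :=
    Nat.Coprime.coprime_dvd_left (Subgroup.card_dvd_of_le hQR) hRb
  have hQbot : Q = ⊥ := by
    have h1 : Q ≤ Subgroup.centralizer ((Vb : Subgroup _) : Set _) := by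
      apply thompson_PxQ (P := E₀) hE₀p hQcop hVp
      · intro z hz
        refine Subgroup.mem_centralizer_iff.2 ?_
        intro y hy
        have := hRE₀ y (hQR hy) z hz
        calc y * z = (y * z * y⁻¹) * y := by group
          _ = z * y := by rw [this]
      · rw [hVtop]; exact le_top
      · rw [hVtop]; exact le_top
      · intro t ht
        have htV₁ : t ∈ V₁ := by rw [hV₁]; exact ht
        refine Subgroup.mem_centralizer_iff.2 ?_
        intro y hy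
        exact (Subgroup.mem_centralizer_iff.1 (hQV₁ hy) t htV₁).symm
    have h2 : Q ≤ Vb ⊓ R.map π := le_inf (h1.trans (centralizer_pCore_quot_le hc)) hQR
    rw [hdisj] at h2
    exact le_bot_iff.1 h2
  have hEcentR : E.map π ≤ Subgroup.centralizer ((R.map π : Subgroup _) : Set _) := by
    intro e he
    refine Subgroup.mem_centralizer_iff.2 ?_
    intro r hr
    have h1 : ⁅r, e⁆ ∈ Q := by
      rw [hQ]; exact Subgroup.commutator_mem_commutator hr he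
    rw [hQbot, Subgroup.mem_bot] at h1
    exact commutatorElement_eq_one_iff_mul_comm.mp h1
  have hRV : R.map π ≤ Vb := by
    have h1 : R.map π ≤ Subgroup.centralizer ((Vb : Subgroup _) : Set _) := by
      apply thompson_PxQ (P := E.map π) hEbp hRb hVp hEcentR
      · rw [hVtop]; exact le_top
      · rw [hVtop]; exact le_top
      · exact hCE
    exact h1.trans (centralizer_pCore_quot_le hc)
  have hbot : R.map π = ⊥ := by
    rw [eq_bot_iff, ← hdisj]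
    exact le_inf hRV le_rfl
  exact le_pPrimeCore_of_map_eq_bot hbot

end Cfsg.Agent.helper15.Baer
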