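import Mathlib

set_option autoImplicit false

open scoped commutatorElement

namespace Cfsg.Agent.helper15.LinSep

/-- Linear characters separate the elements outside the commutator subgroup. -/
theorem exists_linear_ne_one {P : Type*} [Group P] [Finite P] (x : P) (hx : x ∉ commutator P) :
    ∃ φ : P →* ℂˣ, φ x ≠ 1 := by
  have hne : (Abelianization.of x : Abelianization P) ≠ 1 := by
    intro h
    apply hx
    exact (QuotientGroup.eq_one_iff x).mp h
  haveI : NeZero (Monoid.exponent (Abelianization P)) := ⟨Monoid.exponent_ne_zero_of_finite⟩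
  haveI : NeZero ((Monoid.exponent (Abelianization P) : ℕ) : ℂ) :=
    ⟨Nat.cast_ne_zero.mpr (NeZero.ne _)⟩
  obtain ⟨ψ, hψ⟩ :=
    CommGroup.exists_apply_ne_one_of_hasEnoughRootsOfUnity (Abelianization P) ℂ hne
  exact ⟨ψ.comp Abelianization.of, hψ⟩

/-- Subgroup version: an element of `P` on which every linear character of `P` is trivial lies in
`⁅P, P⁆`. -/
theorem mem_commutator_of_forall_linear {G : Type*} [Group G] [Finite G] (P : Subgroup G) (x : G)
    (hxP : x ∈ P) (h : ∀ φ : P →* ℂˣ, φ ⟨x, hxP⟩ = 1) : x ∈ ⁅P, P⁆ := by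
  by_contra hx
  have hx' : (⟨x, hxP⟩ : P) ∉ commutator P := by
    intro hmem
    apply hx
    rw [← Subgroup.map_subtype_commutator]
    exact ⟨⟨x, hxP⟩, hmem, rfl⟩
  obtain ⟨φ, hφ⟩ := exists_linear_ne_one (⟨x, hxP⟩ : P) hx'
  exact hφ (h φ)

end Cfsg.Agent.helper15.LinSep
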