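import Cfsg.Agent.Lib_helper15_CL2
import Cfsg.Agent.Lib_helper15_CD3
import Mathlib.GroupTheory.Commutator.Basic

set_option autoImplicit false

namespace Cfsg.Agent.helper15

open Pointwise
open scoped commutatorElement

variable {G : Type*} [Group G]

/-- Minimal among the subgroups with largest `|R| |Z(R)|`. -/
def IsMinCLMax (Q : Subgroup G) : Prop :=
  IsCLMax Q ∧ ∀ R' : Subgroup G, R' ≤ Q → IsCLMax R' → R' = Q

theorem isMinimalCentrallyLarge_iff [Finite G] (Q : Subgroup G) :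
    Cfsg.IsMinimalCentrallyLarge Q ↔ IsMinCLMax Q := by
  unfold Cfsg.IsMinimalCentrallyLarge IsMinCLMax
  simp only [isCentrallyLarge_iff_isCLMax]

theorem IsMinCLMax.inf_sup_centralizer [Finite G] {Q R : Subgroup G} (hQ : IsMinCLMax Q)
    (hR : IsCLMax R) : (Q ⊓ R) ⊔ Subgroup.centralizer (Q : Set G) = Q := by
  have hCQ := hQ.1.centralizer_le
  have hCR := hR.centralizer_le
  have hD : IsCDMax (Q ⊓ R) := (hQ.1.isCDMax.sup_inf hR.isCDMax).2.1
  have hZ : IsCDMax (Subgroup.centralizer (Q : Set G)) := hQ.1.isCDMax.centralizer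
  obtain ⟨h1, -, -, -, -⟩ := hD.sup_inf hZ
  obtain ⟨-, -, -, h4, h5⟩ := hQ.1.isCDMax.sup_inf hR.isCDMax
  apply hQ.2 _ (sup_le inf_le_left hCQ)
  apply h1.isCLMax
  rw [centralizer_sup_eq, h4, ← hQ.1.isCDMax.eq_centralizer_centralizer]
  intro x hx
  obtain ⟨hx1, hxQ⟩ := Subgroup.mem_inf.1 hx
  have hx1' : x ∈ ((Subgroup.centralizer (Q : Set G) ⊔ Subgroup.centralizer (R : Set G) :
      Subgroup G) : Set G) := hx1
  rw [h5] at hx1'
  obtain ⟨z₁, hz₁, z₂, hz₂, rfl⟩ := Set.mem_mul.1 hx1'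
  have hz₂Q : z₂ ∈ Q := by
    have : z₂ = z₁⁻¹ * (z₁ * z₂) := by group
    rw [this]
    exact Q.mul_mem (Q.inv_mem (hCQ hz₁)) hxQ
  rw [sup_comm]
  exact Subgroup.mul_mem_sup hz₁ (Subgroup.mem_inf.2 ⟨hz₂Q, hCR hz₂⟩)

theorem IsMinCLMax.inf_mul_centralizer [Finite G] {Q R : Subgroup G} (hQ : IsMinCLMax Q)
    (hR : IsCLMax R) : ∀ x ∈ Q, ∃ d ∈ Q ⊓ R, ∃ z ∈ Subgroup.centralizer (Q : Set G), x = d * z := by
  have hD : IsCDMax (Q ⊓ R) := (hQ.1.isCDMax.sup_inf hR.isCDMax).2.1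
  have hZ : IsCDMax (Subgroup.centralizer (Q : Set G)) := hQ.1.isCDMax.centralizer
  obtain ⟨-, -, h3, -, -⟩ := hD.sup_inf hZ
  rw [hQ.inf_sup_centralizer hR] at h3
  intro x hx
  have hx' : x ∈ (Q : Set G) := hx
  rw [h3] at hx'
  obtain ⟨d, hd, z, hz, rfl⟩ := Set.mem_mul.1 hx'
  exact ⟨d, hd, z, hz, rfl⟩

theorem commutatorElement_mul_left_of_commute {g₁ g₂ z : G} (h : Commute z g₂) :
    ⁅g₁ * z, g₂⁆ = ⁅g₁, g₂⁆ := by
  have h' : z * g₂ = g₂ * z := h.eq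
  rw [commutatorElement_def, commutatorElement_def]
  calc g₁ * z * g₂ * (g₁ * z)⁻¹ * g₂⁻¹ = g₁ * (z * g₂) * z⁻¹ * g₁⁻¹ * g₂⁻¹ := by group
    _ = g₁ * (g₂ * z) * z⁻¹ * g₁⁻¹ * g₂⁻¹ := by rw [h']
    _ = g₁ * g₂ * g₁⁻¹ * g₂⁻¹ := by group

theorem commutatorElement_mul_right_of_commute {g₁ g₂ z : G} (h : Commute z g₁) :
    ⁅g₁, g₂ * z⁆ = ⁅g₁, g₂⁆ := by
  have h' : z * g₁⁻¹ = g₁⁻¹ * z := h.inv_right.eq
  rw [commutatorElement_def, commutatorElement_def]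
  calc g₁ * (g₂ * z) * g₁⁻¹ * (g₂ * z)⁻¹ = g₁ * g₂ * (z * g₁⁻¹) * z⁻¹ * g₂⁻¹ := by group
    _ = g₁ * g₂ * (g₁⁻¹ * z) * z⁻¹ * g₂⁻¹ := by rw [h']
    _ = g₁ * g₂ * g₁⁻¹ * g₂⁻¹ := by group

theorem commutator_eq_of_mul_central {Q D Z : Subgroup G} (hDQ : D ≤ Q) (hZQ : Z ≤ Q)
    (hZ : Z ≤ Subgroup.centralizer (Q : Set G))
    (hQ : ∀ x ∈ Q, ∃ d ∈ D, ∃ z ∈ Z, x = d * z) : ⁅Q, Q⁆ = ⁅D, D⁆ := by
  apply le_antisymm _ (Subgroup.commutator_mono hDQ hDQ)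
  rw [Subgroup.commutator_le]
  intro g₁ hg₁ g₂ hg₂
  obtain ⟨d₁, hd₁, z₁, hz₁, rfl⟩ := hQ g₁ hg₁
  obtain ⟨d₂, hd₂, z₂, hz₂, rfl⟩ := hQ g₂ hg₂
  have c1 : Commute z₁ (d₂ * z₂) :=
    (Subgroup.mem_centralizer_iff.1 (hZ hz₁) _ (Q.mul_mem (hDQ hd₂) (hZQ hz₂))).symm
  have c2 : Commute z₂ d₁ := (Subgroup.mem_centralizer_iff.1 (hZ hz₂) _ (hDQ hd₁)).symm
  rw [commutatorElement_mul_left_of_commute c1, commutatorElement_mul_right_of_commute c2]
  exact Subgroup.commutator_mem_commutator hd₁ hd₂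

theorem IsMinCLMax.commutator_eq [Finite G] {Q R : Subgroup G} (hQ : IsMinCLMax Q)
    (hR : IsCLMax R) : ⁅Q, Q⁆ = ⁅Q ⊓ R, Q ⊓ R⁆ :=
  commutator_eq_of_mul_central inf_le_left hQ.1.centralizer_le le_rfl (hQ.inf_mul_centralizer hR)

theorem IsMinCLMax.card_eq_aux [Finite G] {Q R : Subgroup G} (hQ : IsMinCLMax Q)
    (hR : IsCLMax R) :
    Nat.card ↥(Q ⊓ R) * Nat.card ↥(Subgroup.centralizer (Q : Set G))
      = Nat.card ↥Q * Nat.card ↥((Q ⊓ R) ⊓ Subgroup.centralizer ((Q ⊓ R : Subgroup G) : Set G)) := by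
  have hD : IsCDMax (Q ⊓ R) := (hQ.1.isCDMax.sup_inf hR.isCDMax).2.1
  have hZ : IsCDMax (Subgroup.centralizer (Q : Set G)) := hQ.1.isCDMax.centralizer
  have h := hD.card_mul_card_eq hZ
  have hsup := hQ.inf_sup_centralizer hR
  have hC : Subgroup.centralizer (Q : Set G)
      = Subgroup.centralizer ((Q ⊓ R : Subgroup G) : Set G) ⊓ Q := by
    conv_lhs => rw [← hsup]
    rw [centralizer_sup_eq, ← hQ.1.isCDMax.eq_centralizer_centralizer]
  have hinf : (Q ⊓ R) ⊓ Subgroup.centralizer (Q : Set G)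
      = (Q ⊓ R) ⊓ Subgroup.centralizer ((Q ⊓ R : Subgroup G) : Set G) := by
    conv_lhs => rw [hC]
    apply le_antisymm
    · exact le_inf inf_le_left (inf_le_right.trans inf_le_left)
    · exact le_inf inf_le_left (le_inf inf_le_right (inf_le_left.trans inf_le_left))
  rw [hsup, hinf] at h
  exact h

/-- Two minimal centrally large subgroups have the same order and centres of the same order. -/
theorem IsMinCLMax.card_eq [Finite G] {Q R : Subgroup G} (hQ : IsMinCLMax Q)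
    (hR : IsMinCLMax R) :
    Nat.card ↥Q = Nat.card ↥R ∧
    Nat.card ↥(Subgroup.centralizer (Q : Set G)) = Nat.card ↥(Subgroup.centralizer (R : Set G)) := by
  have h1 := hQ.card_eq_aux hR.1
  have h2 := hR.card_eq_aux hQ.1
  rw [inf_comm R Q] at h2
  have hM : clMeasure Q = clMeasure R := le_antisymm (hR.1 Q) (hQ.1 R)
  unfold clMeasure at hM
  rw [inf_eq_right.2 hQ.1.centralizer_le, inf_eq_right.2 hR.1.centralizer_le] at hM
  set q := Nat.card ↥Q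
  set r := Nat.card ↥R
  set zq := Nat.card ↥(Subgroup.centralizer (Q : Set G))
  set zr := Nat.card ↥(Subgroup.centralizer (R : Set G))
  set d := Nat.card ↥(Q ⊓ R)
  set w := Nat.card ↥((Q ⊓ R) ⊓ Subgroup.centralizer ((Q ⊓ R : Subgroup G) : Set G))
  have hq : 0 < q := Nat.card_pos
  have hr : 0 < r := Nat.card_pos
  have hzq : 0 < zq := Nat.card_pos
  have hzr : 0 < zr := Nat.card_pos
  have hd : 0 < d := Nat.card_pos
  have hw : 0 < w := Nat.card_pos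
  -- h1 : d * zq = q * w ; h2 : d * zr = r * w ; hM : q * zq = r * zr
  have e1 : q * zr = r * zq := by
    have : (q * zr) * (w * d) = (r * zq) * (w * d) := by
      calc (q * zr) * (w * d) = (q * w) * (d * zr) := by ring
        _ = (d * zq) * (r * w) := by rw [h1, h2]
        _ = _ := by ring
    exact Nat.eq_of_mul_eq_mul_right (Nat.mul_pos hw hd) this
  have e2 : q * q = r * r := by
    have : (q * q) * (zq * zr) = (r * r) * (zq * zr) := by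
      calc (q * q) * (zq * zr) = (q * zq) * (q * zr) := by ring
        _ = (r * zr) * (r * zq) := by rw [hM, e1]
        _ = _ := by ring
    exact Nat.eq_of_mul_eq_mul_right (Nat.mul_pos hzq hzr) this
  have e3 : q = r := Nat.mul_self_inj.1 e2
  refine ⟨e3, ?_⟩
  rw [e3] at hM
  exact Nat.eq_of_mul_eq_mul_left hr hM

end Cfsg.Agent.helper15
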