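import Cfsg.Statements.S3203
import Mathlib

set_option autoImplicit false
open Cfsg

namespace Cfsg.Agent.S3203

variable {G : Type*} [Group G]

theorem mem_cj (H : Subgroup G) (g z : G) :
    z ∈ H.map (MulAut.conj g).toMonoidHom ↔ g⁻¹ * z * g ∈ H := by
  constructor
  · rintro ⟨h, hh, rfl⟩
    have : g⁻¹ * ((MulAut.conj g).toMonoidHom h) * g = h := by
      simp [mul_assoc]
    rw [this]; exact hh
  · intro hz
    refine ⟨g⁻¹ * z * g, hz, ?_⟩
    simp [mul_assoc]

theorem cj_mem (H : Subgroup G) (g x : G) (hx : x ∈ H) :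
    g * x * g⁻¹ ∈ H.map (MulAut.conj g).toMonoidHom := ⟨x, hx, by simp⟩

theorem cj_le_iff (H K : Subgroup G) (g : G) :
    H.map (MulAut.conj g).toMonoidHom ≤ K ↔ ∀ x ∈ H, g * x * g⁻¹ ∈ K := by
  constructor
  · intro h x hx; exact h (cj_mem H g x hx)
  · rintro h _ ⟨x, hx, rfl⟩
    simpa using h x hx

theorem card_cj (H : Subgroup G) (g : G) :
    Nat.card (H.map (MulAut.conj g).toMonoidHom) = Nat.card H :=
  Subgroup.card_map_of_injective (MulAut.conj g).injective

theorem cj_eq_of_le [Finite G] (H : Subgroup G) (g : G)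
    (h : H.map (MulAut.conj g).toMonoidHom ≤ H) : H.map (MulAut.conj g).toMonoidHom = H :=
  Subgroup.eq_of_le_of_card_ge h (by rw [card_cj])

theorem mem_normalizer_of_forall [Finite G] (H : Subgroup G) (g : G)
    (h : ∀ x ∈ H, g * x * g⁻¹ ∈ H) : g ∈ Subgroup.normalizer (H : Set G) := by
  have h1 := cj_eq_of_le H g ((cj_le_iff H H g).2 h)
  rw [Subgroup.mem_normalizer_iff]
  intro z
  constructor
  · intro hz; exact h z hz
  · intro hz
    have : g * z * g⁻¹ ∈ H.map (MulAut.conj g).toMonoidHom := by rw [h1]; exact hz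
    rw [mem_cj] at this
    simpa [mul_assoc] using this

theorem conj_mem_of_mem_normalizer (H : Subgroup G) (g : G)
    (hg : g ∈ Subgroup.normalizer (H : Set G)) (x : G) (hx : x ∈ H) : g * x * g⁻¹ ∈ H :=
  (Subgroup.mem_normalizer_iff.mp hg x).mp hx

theorem elemAb_map {H : Type*} [Group H] (f : H →* G) (A : Subgroup H) (hA : IsElementaryAbelian 2 A) :
    IsElementaryAbelian 2 (A.map f) := by
  obtain ⟨h1, h2⟩ := hA
  refine ⟨inferInstance, ?_⟩
  rintro _ ⟨a, ha, rfl⟩
  rw [← map_pow, h2 a ha, map_one]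

theorem oddpow [Finite G] (S : Sylow 2 G) (n : G)
    (hn : n ∈ Subgroup.normalizer ((S : Subgroup G) : Set G)) :
    ∃ m : ℕ, Odd m ∧ n ^ m ∈ (S : Subgroup G) := by
  have : Fact (Nat.Prime 2) := ⟨Nat.prime_two⟩
  refine ⟨(S : Subgroup G).relIndex (Subgroup.normalizer ((S : Subgroup G) : Set G)), ?_, ?_⟩
  · rw [← Nat.not_even_iff_odd, even_iff_two_dvd]
    intro h2
    apply S.not_dvd_index
    have := Subgroup.relIndex_mul_index
      (Subgroup.le_normalizer : (S : Subgroup G) ≤ Subgroup.normalizer ((S : Subgroup G) : Set G))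
    rw [← this]
    exact dvd_mul_of_dvd_left h2 _
  · have := Subgroup.pow_index_mem
      ((S : Subgroup G).subgroupOf (Subgroup.normalizer ((S : Subgroup G) : Set G)))
      (⟨n, hn⟩ : ↥(Subgroup.normalizer ((S : Subgroup G) : Set G)))
    rw [Subgroup.mem_subgroupOf] at this
    simpa [Subgroup.relIndex] using this

theorem mem_smul_sylow {p : ℕ} (S : Sylow p G) (g z : G) :
    z ∈ ((g • S : Sylow p G) : Subgroup G) ↔ g⁻¹ * z * g ∈ (S : Subgroup G) := by
  rw [Sylow.coe_subgroup_smul, Subgroup.mem_pointwise_smul_iff_inv_smul_mem]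
  simp [MulAut.smul_def]

theorem sylow_conj_in [Finite G] {p : ℕ} [Fact p.Prime]
    (P : Sylow p G) (N : Subgroup G) (hPN : (P : Subgroup G) ≤ N) (Q : Subgroup G)
    (hQ : IsPGroup p Q) (hQN : Q ≤ N) :
    ∃ h ∈ N, ∀ q ∈ Q, h * q * h⁻¹ ∈ (P : Subgroup G) := by
  obtain ⟨Q1, hQ1⟩ := (hQ.comap_subtype (K := N)).exists_le_sylow
  obtain ⟨h, hh⟩ := MulAction.exists_smul_eq (↥N) (P.subtype hPN) Q1
  refine ⟨(h : G)⁻¹, inv_mem h.2, ?_⟩
  intro q hq
  have h1 : (⟨q, hQN hq⟩ : ↥N) ∈ (Q1 : Subgroup ↥N) := by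
    apply hQ1
    rw [Subgroup.mem_comap]
    exact hq
  rw [← hh, Sylow.coe_subgroup_smul, Subgroup.mem_pointwise_smul_iff_inv_smul_mem] at h1
  have h2 : h⁻¹ * (⟨q, hQN hq⟩ : ↥N) * h ∈ ((P.subtype hPN : Sylow p ↥N) : Subgroup ↥N) := by
    simpa [MulAut.smul_def] using h1
  rw [Sylow.coe_subtype, Subgroup.mem_subgroupOf] at h2
  simpa using h2

theorem par [Finite G] (S : Sylow 2 G) (A B : Subgroup G)
    (hBS : B ≤ (S : Subgroup G))
    (hBe : IsElementaryAbelian 2 B)
    (hAB : ¬ A ≤ B)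
    (hsub : ∀ E : Subgroup G, E ≤ (S : Subgroup G) → IsElementaryAbelian 2 E → E ≤ A ∨ E ≤ B)
    (hnA : (S : Subgroup G) ≤ Subgroup.normalizer (A : Set G))
    (n : G) (hn : n ∈ Subgroup.normalizer ((S : Subgroup G) : Set G))
    (hnAB : ∀ a ∈ A, n * a * n⁻¹ ∈ B) : False := by
  have h1 : B.map (MulAut.conj n).toMonoidHom ≤ (S : Subgroup G) := by
    rw [cj_le_iff]
    intro b hb
    exact conj_mem_of_mem_normalizer _ n hn b (hBS hb)
  rcases hsub _ h1 (elemAb_map _ B hBe) with h2 | h2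
  · rw [cj_le_iff] at h2
    have hnn : n * n ∈ Subgroup.normalizer (A : Set G) := by
      apply mem_normalizer_of_forall
      intro a ha
      have := h2 _ (hnAB a ha)
      have e : n * n * a * (n * n)⁻¹ = n * (n * a * n⁻¹) * n⁻¹ := by group
      rw [e]; exact this
    obtain ⟨m, hm, hmS⟩ := oddpow S n hn
    obtain ⟨j, rfl⟩ := hm
    have hmA := hnA hmS
    have hpow : n ^ (2 * j + 1) = (n * n) ^ j * n := by
      rw [pow_succ, pow_mul, pow_two]
    have hnN : n ∈ Subgroup.normalizer (A : Set G) := by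
      have h3 : ((n * n) ^ j)⁻¹ * n ^ (2 * j + 1) ∈ Subgroup.normalizer (A : Set G) :=
        mul_mem (inv_mem (pow_mem hnn j)) hmA
      rw [hpow] at h3
      simpa using h3
    apply hAB
    intro a ha
    have h4 : n⁻¹ * a * n⁻¹⁻¹ ∈ A := conj_mem_of_mem_normalizer _ _ (inv_mem hnN) a ha
    have h5 := hnAB _ h4
    have e : n * (n⁻¹ * a * n⁻¹⁻¹) * n⁻¹ = a := by group
    rwa [e] at h5
  · have h3 := cj_eq_of_le B n h2
    apply hAB
    intro a ha
    have h4 := hnAB a ha
    rw [← h3, mem_cj] at h4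
    have e : n⁻¹ * (n * a * n⁻¹) * n = a := by group
    rwa [e] at h4

theorem core [Finite G] (S : Sylow 2 G) (A B : Subgroup G)
    (hAS : A ≤ (S : Subgroup G)) (hBS : B ≤ (S : Subgroup G))
    (hAe : IsElementaryAbelian 2 A) (hBe : IsElementaryAbelian 2 B)
    (hAB : ¬ A ≤ B)
    (hsub : ∀ E : Subgroup G, E ≤ (S : Subgroup G) → IsElementaryAbelian 2 E → E ≤ A ∨ E ≤ B)
    (hnA : (S : Subgroup G) ≤ Subgroup.normalizer (A : Set G))
    (hnB : (S : Subgroup G) ≤ Subgroup.normalizer (B : Set G)) :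
    IsWeaklyClosed A (S : Subgroup G) := by
  have : Fact (Nat.Prime 2) := ⟨Nat.prime_two⟩
  refine ⟨hAS, fun g hg => ?_⟩
  rcases hsub _ hg (elemAb_map _ A hAe) with h | h
  · exact cj_eq_of_le A g h
  · exfalso
    have hX : ∀ a ∈ A, g * a * g⁻¹ ∈ A.map (MulAut.conj g).toMonoidHom := fun a ha => cj_mem A g a ha
    have hBN : B ≤ Subgroup.normalizer ((A.map (MulAut.conj g).toMonoidHom : Subgroup G) : Set G) := by
      intro b hb
      apply mem_normalizer_of_forall
      intro x hx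
      have hc : b * x = x * b := by
        have := hBe.1
        exact setLike_mul_comm hb (h hx)
      have e : b * x * b⁻¹ = x := by rw [hc]; group
      rw [e]; exact hx
    have hgSN : ((g • S : Sylow 2 G) : Subgroup G) ≤
        Subgroup.normalizer ((A.map (MulAut.conj g).toMonoidHom : Subgroup G) : Set G) := by
      intro z hz
      rw [mem_smul_sylow] at hz
      apply mem_normalizer_of_forall
      intro x hx
      rw [mem_cj] at hx ⊢
      have := conj_mem_of_mem_normalizer _ _ (hnA hz) _ hx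
      have e : g⁻¹ * (z * x * z⁻¹) * g = (g⁻¹ * z * g) * (g⁻¹ * x * g) * (g⁻¹ * z * g)⁻¹ := by group
      rw [e]; exact this
    obtain ⟨k, hkN, hk⟩ := sylow_conj_in (g • S) _ hgSN B (S.2.to_le hBS) hBN
    have h1 : B.map (MulAut.conj (g⁻¹ * k)).toMonoidHom ≤ (S : Subgroup G) := by
      rw [cj_le_iff]
      intro b hb
      have := hk b hb
      rw [mem_smul_sylow] at this
      have e : g⁻¹ * k * b * (g⁻¹ * k)⁻¹ = g⁻¹ * (k * b * k⁻¹) * g := by group
      rw [e]; exact this
    rcases hsub _ h1 (elemAb_map _ B hBe) with h2 | h2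
    · have hc1 : Nat.card B ≤ Nat.card A := by
        rw [← card_cj B (g⁻¹ * k)]
        exact Subgroup.card_le_of_le h2
      have hXB : A.map (MulAut.conj g).toMonoidHom = B :=
        Subgroup.eq_of_le_of_card_ge h (by rw [card_cj]; exact hc1)
      have hSN : (S : Subgroup G) ≤
          Subgroup.normalizer ((A.map (MulAut.conj g).toMonoidHom : Subgroup G) : Set G) := by
        rw [hXB]; exact hnB
      obtain ⟨l, hlN, hl⟩ := sylow_conj_in S _ hSN (g • S : Sylow 2 G) (g • S : Sylow 2 G).2 hgSN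
      apply par S A B hBS hBe hAB hsub hnA (l * g)
      · apply mem_normalizer_of_forall
        intro s hs
        have hz : g * s * g⁻¹ ∈ ((g • S : Sylow 2 G) : Subgroup G) := by
          rw [mem_smul_sylow]
          have e : g⁻¹ * (g * s * g⁻¹) * g = s := by group
          rw [e]; exact hs
        have := hl _ hz
        have e : l * g * s * (l * g)⁻¹ = l * (g * s * g⁻¹) * l⁻¹ := by group
        rw [e]; exact this
      · intro a ha
        have := conj_mem_of_mem_normalizer _ _ hlN _ (hX a ha)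
        have e : l * g * a * (l * g)⁻¹ = l * (g * a * g⁻¹) * l⁻¹ := by group
        rw [e]; exact h this
    · apply hAB
      intro a ha
      have hy := conj_mem_of_mem_normalizer _ _ (inv_mem hkN) _ (hX a ha)
      have hyB := h hy
      have := h2 (cj_mem B (g⁻¹ * k) _ hyB)
      have e : g⁻¹ * k * (k⁻¹ * (g * a * g⁻¹) * k⁻¹⁻¹) * (g⁻¹ * k)⁻¹ = a := by group
      rwa [e] at this

theorem normalizes [Finite G] (S : Sylow 2 G) (A B : Subgroup G)
    (hAS : A ≤ (S : Subgroup G)) (hBS : B ≤ (S : Subgroup G))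
    (hAe : IsElementaryAbelian 2 A)
    (hAB : ¬ A ≤ B)
    (hsub : ∀ E : Subgroup G, E ≤ (S : Subgroup G) → IsElementaryAbelian 2 E → E ≤ A ∨ E ≤ B) :
    B ≤ Subgroup.normalizer (A : Set G) := by
  intro b hb
  have h1 : A.map (MulAut.conj b).toMonoidHom ≤ (S : Subgroup G) := by
    rw [cj_le_iff]
    intro a ha
    exact mul_mem (mul_mem (hBS hb) (hAS ha)) (inv_mem (hBS hb))
  rcases hsub _ h1 (elemAb_map _ A hAe) with h | h
  · exact mem_normalizer_of_forall A b ((cj_le_iff A A b).1 h)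
  · exfalso; apply hAB
    intro a ha
    have := h (cj_mem A b a ha)
    have h2 := mul_mem (mul_mem (inv_mem hb) this) hb
    have e : b⁻¹ * (b * a * b⁻¹) * b = a := by group
    rwa [e] at h2

/-- Let S be a Sylow 2-subgroup of a finite group G having exactly two subgroups A ≠ B that are maximal among its elementary abelian subgroups, with S = AB. Then A and B are each weakly closed in S with respect to G, and the normalizer of S normalizes both A and B. -/
theorem result {G : Type*} [Group G] [Finite G] (S : Sylow 2 G)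
    (A B : Subgroup ↥(S : Subgroup G)) (hAB : A ≠ B)
    (hA : Cfsg.IsElementaryAbelian 2 A ∧ ∀ C : Subgroup ↥(S : Subgroup G), Cfsg.IsElementaryAbelian 2 C → A ≤ C → C = A)
    (hB : Cfsg.IsElementaryAbelian 2 B ∧ ∀ C : Subgroup ↥(S : Subgroup G), Cfsg.IsElementaryAbelian 2 C → B ≤ C → C = B)
    (honly : ∀ C : Subgroup ↥(S : Subgroup G), Cfsg.IsElementaryAbelian 2 C →
      (∀ D : Subgroup ↥(S : Subgroup G), Cfsg.IsElementaryAbelian 2 D → C ≤ D → D = C) → C = A ∨ C = B)
    (hprod : ∀ s : ↥(S : Subgroup G), ∃ a ∈ A, ∃ b ∈ B, a * b = s)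
    (A' B' : Subgroup G) (hA' : A' = A.map (S : Subgroup G).subtype) (hB' : B' = B.map (S : Subgroup G).subtype) :
    Cfsg.IsWeaklyClosed A' (S : Subgroup G) ∧ Cfsg.IsWeaklyClosed B' (S : Subgroup G) ∧
      Subgroup.normalizer ((S : Subgroup G) : Set G) ≤ Subgroup.normalizer (A' : Set G) ⊓ Subgroup.normalizer (B' : Set G) := by
  have hAS : A' ≤ (S : Subgroup G) := by rw [hA']; exact Subgroup.map_subtype_le A
  have hBS : B' ≤ (S : Subgroup G) := by rw [hB']; exact Subgroup.map_subtype_le B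
  have hAe : IsElementaryAbelian 2 A' := by rw [hA']; exact elemAb_map _ A hA.1
  have hBe : IsElementaryAbelian 2 B' := by rw [hB']; exact elemAb_map _ B hB.1
  have hAB' : ¬ A' ≤ B' := by
    intro h
    rw [hA', hB'] at h
    have h1 : A ≤ B := (Subgroup.map_le_map_iff_of_injective (S : Subgroup G).subtype_injective).mp h
    exact hAB (hA.2 B hB.1 h1).symm
  have hBA' : ¬ B' ≤ A' := by
    intro h
    rw [hA', hB'] at h
    have h1 : B ≤ A := (Subgroup.map_le_map_iff_of_injective (S : Subgroup G).subtype_injective).mp h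
    exact hAB (hB.2 A hA.1 h1)
  have hsub : ∀ E : Subgroup G, E ≤ (S : Subgroup G) → IsElementaryAbelian 2 E → E ≤ A' ∨ E ≤ B' := by
    intro E hET hE
    have hE0 : IsElementaryAbelian 2 (E.subgroupOf (S : Subgroup G)) := by
      constructor
      · have := hE.1
        infer_instance
      · intro x hx
        have := hE.2 _ (Subgroup.mem_subgroupOf.mp hx)
        ext
        simpa using this
    obtain ⟨D, hED, hD⟩ := Finite.exists_le_maximal
      (p := fun D : Subgroup ↥(S : Subgroup G) => IsElementaryAbelian 2 D) hE0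
    have := honly D hD.1 (fun D' hD' hle => le_antisymm (hD.2 hD' hle) hle)
    rcases this with h | h
    · left
      intro e he
      rw [hA']
      refine ⟨⟨e, hET he⟩, ?_, rfl⟩
      rw [← h]
      exact hED (Subgroup.mem_subgroupOf.mpr he)
    · right
      intro e he
      rw [hB']
      refine ⟨⟨e, hET he⟩, ?_, rfl⟩
      rw [← h]
      exact hED (Subgroup.mem_subgroupOf.mpr he)
  have hsub' : ∀ E : Subgroup G, E ≤ (S : Subgroup G) → IsElementaryAbelian 2 E → E ≤ B' ∨ E ≤ A' :=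
    fun E h1 h2 => (hsub E h1 h2).symm
  have hprod' : ∀ s ∈ (S : Subgroup G), ∃ a ∈ A', ∃ b ∈ B', a * b = s := by
    intro s hs
    obtain ⟨a, ha, b, hb, h⟩ := hprod ⟨s, hs⟩
    refine ⟨a, ?_, b, ?_, ?_⟩
    · rw [hA']; exact ⟨a, ha, rfl⟩
    · rw [hB']; exact ⟨b, hb, rfl⟩
    · exact congrArg Subtype.val h
  have hBnA : B' ≤ Subgroup.normalizer (A' : Set G) := normalizes S A' B' hAS hBS hAe hAB' hsub
  have hAnB : A' ≤ Subgroup.normalizer (B' : Set G) := normalizes S B' A' hBS hAS hBe hBA' hsub'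
  have hnA : (S : Subgroup G) ≤ Subgroup.normalizer (A' : Set G) := by
    intro s hs
    obtain ⟨a, ha, b, hb, rfl⟩ := hprod' s hs
    exact mul_mem (Subgroup.le_normalizer ha) (hBnA hb)
  have hnB : (S : Subgroup G) ≤ Subgroup.normalizer (B' : Set G) := by
    intro s hs
    obtain ⟨a, ha, b, hb, rfl⟩ := hprod' s hs
    exact mul_mem (hAnB ha) (Subgroup.le_normalizer hb)
  have wA := core S A' B' hAS hBS hAe hBe hAB' hsub hnA hnB
  have wB := core S B' A' hBS hAS hBe hAe hBA' hsub' hnB hnA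
  refine ⟨wA, wB, ?_⟩
  intro n hn
  have key : ∀ W : Subgroup G, IsWeaklyClosed W (S : Subgroup G) → n ∈ Subgroup.normalizer (W : Set G) := by
    intro W hW
    have h1 : W.map (MulAut.conj n).toMonoidHom ≤ (S : Subgroup G) := by
      rw [cj_le_iff]
      intro w hw
      exact conj_mem_of_mem_normalizer _ n hn w (hW.1 hw)
    have h2 := hW.2 n h1
    exact mem_normalizer_of_forall W n ((cj_le_iff W W n).1 h2.le)
  exact ⟨key A' wA, key B' wB⟩

end Cfsg.Agent.S3203
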