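import Cfsg.Statements.S3178
import Mathlib
import Cfsg.Agent.S3225
import Cfsg.Agent.S3203
import Cfsg.Agent.Lib_helper19_Sylow
import Cfsg.Agent.Lib_helper10_PResidual

set_option autoImplicit false
open Cfsg

namespace Cfsg.Agent.S3178

/-- Data of a modular 2-group `S = ⟨a, b⟩` inside `G`; the exponent is `n = m + 3`. -/
structure ModData {G : Type*} [Group G] (S : Subgroup G) (a b : G) (m : ℕ) : Prop where
  card : Nat.card ↥S = 2 ^ (m + 4)
  ha : a ∈ S
  hb : b ∈ S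
  hao : orderOf a = 2 ^ (m + 3)
  hbo : orderOf b = 2
  hrel : b * a * b⁻¹ = a ^ (2 ^ (m + 2) + 1)

namespace ModData

variable {G : Type*} [Group G] {S : Subgroup G} {a b : G} {m : ℕ}

theorem bb (h : ModData S a b m) : b * b = 1 := by
  rw [← pow_two, ← h.hbo]; exact pow_orderOf_eq_one b

theorem binv (h : ModData S a b m) : b⁻¹ = b := inv_eq_of_mul_eq_one_right h.bb

theorem pow_N (h : ModData S a b m) : a ^ (2 ^ (m + 3)) = 1 := by
  rw [← h.hao]; exact pow_orderOf_eq_one a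

theorem conj_pow' (h : ModData S a b m) (i : ℕ) : b * a ^ i * b⁻¹ = a ^ (i * (2 ^ (m + 2) + 1)) := by
  rw [← conj_pow, h.hrel, ← pow_mul, mul_comm]

theorem pow_eq_one_iff (h : ModData S a b m) (k : ℕ) : a ^ k = 1 ↔ 2 ^ (m + 3) ∣ k := by
  rw [← h.hao]; exact (orderOf_dvd_iff_pow_eq_one).symm

/-- `a ^ i` commutes with `b` iff `i` is even. -/
theorem comm_pow_iff (h : ModData S a b m) (i : ℕ) : a ^ i * b = b * a ^ i ↔ 2 ∣ i := by
  have h1 : a ^ i * b = b * a ^ i ↔ b * a ^ i * b⁻¹ = a ^ i := by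
    constructor
    · intro e; rw [← e]; group
    · intro e
      have : b * a ^ i = a ^ i * b := by
        calc b * a ^ i = (b * a ^ i * b⁻¹) * b := by group
          _ = a ^ i * b := by rw [e]
      exact this.symm
  rw [h1, h.conj_pow', pow_eq_pow_iff_modEq, h.hao]
  have e : i * (2 ^ (m + 2) + 1) = i + i * 2 ^ (m + 2) := by ring
  rw [e]
  constructor
  · intro hmod
    have h2 : 2 ^ (m + 3) ∣ i * 2 ^ (m + 2) := by
      have := (Nat.modEq_iff_dvd' (Nat.le_add_right i (i * 2 ^ (m + 2)))).mp hmod.symm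
      simpa using this
    have e2 : (2 : ℕ) ^ (m + 3) = 2 * 2 ^ (m + 2) := by ring
    rw [e2] at h2
    exact (Nat.mul_dvd_mul_iff_right (by positivity)).mp h2
  · rintro ⟨j, rfl⟩
    have e2 : 2 * j + 2 * j * 2 ^ (m + 2) = 2 * j + j * 2 ^ (m + 3) := by ring
    rw [e2]
    exact (Nat.modEq_iff_dvd' (Nat.le_add_right _ _)).mpr (by simp) |>.symm

theorem sq_ab (h : ModData S a b m) (i : ℕ) :
    (a ^ i * b) * (a ^ i * b) = a ^ (i * (2 ^ (m + 2) + 2)) := by
  have h1 := h.conj_pow' i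
  rw [h.binv] at h1
  calc (a ^ i * b) * (a ^ i * b) = a ^ i * (b * a ^ i * b) := by group
    _ = a ^ i * a ^ (i * (2 ^ (m + 2) + 1)) := by rw [h1]
    _ = a ^ (i * (2 ^ (m + 2) + 2)) := by rw [← pow_add]; congr 1; ring

theorem b_not_mem (h : ModData S a b m) : b ∉ Subgroup.zpowers a := by
  intro hmem
  obtain ⟨c, hc⟩ := Subgroup.mem_zpowers_iff.mp hmem
  have hcomm : a ^ 1 * b = b * a ^ 1 := by
    rw [pow_one, ← hc]
    exact ((Commute.refl a).zpow_right c).eq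
  have := (h.comm_pow_iff 1).mp hcomm
  omega

theorem zpowers_le (h : ModData S a b m) : Subgroup.zpowers a ≤ S :=
  Subgroup.zpowers_le.mpr h.ha

theorem relIndex_zpowers (h : ModData S a b m) : (Subgroup.zpowers a).relIndex S = 2 := by
  have h1 := Subgroup.relIndex_mul_relIndex ⊥ (Subgroup.zpowers a) S bot_le h.zpowers_le
  rw [Subgroup.relIndex_bot_left, Subgroup.relIndex_bot_left, Nat.card_zpowers, h.hao, h.card] at h1
  have e : (2 : ℕ) ^ (m + 4) = 2 ^ (m + 3) * 2 := by ring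
  rw [e] at h1
  exact Nat.eq_of_mul_eq_mul_left (by positivity) h1

/-- Every element of `S` is `a ^ i` or `a ^ i * b`. -/
theorem elements [Finite G] (h : ModData S a b m) (s : G) (hs : s ∈ S) :
    ∃ i : ℕ, s = a ^ i ∨ s = a ^ i * b := by
  have hnat : ∀ g : G, g ∈ Subgroup.zpowers a → ∃ i : ℕ, g = a ^ i := by
    intro g hg
    rw [← mem_powers_iff_mem_zpowers, Submonoid.mem_powers_iff] at hg
    obtain ⟨i, hi⟩ := hg
    exact ⟨i, hi.symm⟩
  by_cases hsA : s ∈ Subgroup.zpowers a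
  · obtain ⟨i, hi⟩ := hnat s hsA
    exact ⟨i, Or.inl hi⟩
  · have hidx : ((Subgroup.zpowers a).subgroupOf S).index = 2 := h.relIndex_zpowers
    have h1 := Subgroup.mul_mem_iff_of_index_two hidx (a := (⟨s, hs⟩ : ↥S)) (b := (⟨b⁻¹, S.inv_mem h.hb⟩ : ↥S))
    simp only [Subgroup.mem_subgroupOf] at h1
    have h2 : s * b⁻¹ ∈ Subgroup.zpowers a := by
      apply h1.mpr
      constructor
      · intro h3; exact absurd h3 hsA
      · intro h3
        exfalso
        apply h.b_not_mem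
        have := inv_mem h3
        simpa using this
    obtain ⟨i, hi⟩ := hnat _ h2
    refine ⟨i, Or.inr ?_⟩
    rw [← hi]; group


/-- even powers of `a` are central in `S`. -/
theorem central_sq [Finite G] (h : ModData S a b m) (l : ℕ) (s : G) (hs : s ∈ S) :
    a ^ (2 * l) * s = s * a ^ (2 * l) := by
  have hb : a ^ (2 * l) * b = b * a ^ (2 * l) := (h.comm_pow_iff (2 * l)).mpr ⟨l, rfl⟩
  obtain ⟨i, rfl | rfl⟩ := h.elements s hs
  · rw [← pow_add, ← pow_add, add_comm]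
  · calc a ^ (2 * l) * (a ^ i * b) = a ^ i * (a ^ (2 * l) * b) := by
          rw [← mul_assoc, ← mul_assoc, ← pow_add, ← pow_add, add_comm]
      _ = a ^ i * b * a ^ (2 * l) := by rw [hb, mul_assoc]

/-- Every element of `S` is `c`, `c * a`, `c * b` or `c * (a * b)` with `c` an even power of `a`. -/
theorem elements' [Finite G] (h : ModData S a b m) (s : G) (hs : s ∈ S) :
    ∃ l : ℕ, s = a ^ (2 * l) ∨ s = a ^ (2 * l) * a ∨ s = a ^ (2 * l) * b ∨
      s = a ^ (2 * l) * (a * b) := by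
  obtain ⟨i, hi⟩ := h.elements s hs
  rcases Nat.even_or_odd' i with ⟨l, rfl | rfl⟩
  · rcases hi with rfl | rfl
    · exact ⟨l, Or.inl rfl⟩
    · exact ⟨l, Or.inr (Or.inr (Or.inl rfl))⟩
  · rcases hi with rfl | rfl
    · exact ⟨l, Or.inr (Or.inl (by rw [pow_succ]))⟩
    · exact ⟨l, Or.inr (Or.inr (Or.inr (by rw [pow_succ, mul_assoc])))⟩

theorem pow_mem (h : ModData S a b m) (i : ℕ) : a ^ i ∈ S := S.pow_mem h.ha i

theorem a_not_comm (h : ModData S a b m) : a * b ≠ b * a := by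
  intro e
  have := (h.comm_pow_iff 1).mp (by simpa using e)
  omega


/-- The maximal subgroup `⟨a², b⟩ = C_S(b)`. -/
def Msub (S : Subgroup G) (b : G) : Subgroup G := S ⊓ Subgroup.centralizer {b}

theorem mem_Msub (s : G) : s ∈ Msub S b ↔ s ∈ S ∧ b * s = s * b := by
  simp [Msub, Subgroup.mem_centralizer_iff]

theorem c_pow_q (h : ModData S a b m) (l : ℕ) : (a ^ (2 * l)) ^ (2 ^ (m + 2)) = 1 := by
  rw [← pow_mul]
  have e : 2 * l * 2 ^ (m + 2) = 2 ^ (m + 3) * l := by ring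
  rw [e, pow_mul, h.pow_N, one_pow]

theorem b_pow_q (h : ModData S a b m) : b ^ (2 ^ (m + 2)) = 1 := by
  have e : (2 : ℕ) ^ (m + 2) = 2 * 2 ^ (m + 1) := by ring
  rw [e, pow_mul, pow_two, h.bb, one_pow]

theorem ab_pow_q (h : ModData S a b m) : (a * b) ^ (2 ^ (m + 2)) = a ^ (2 ^ (m + 2)) := by
  have e : (2 : ℕ) ^ (m + 2) = 2 * 2 ^ (m + 1) := by ring
  have h1 := h.sq_ab 1
  rw [pow_one, one_mul] at h1
  conv_lhs => rw [e, pow_mul, pow_two, h1, ← pow_mul]
  have e2 : (2 ^ (m + 2) + 2) * 2 ^ (m + 1) = 2 ^ (m + 3) * 2 ^ m + 2 ^ (m + 2) := by ring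
  rw [e2, pow_add, pow_mul, h.pow_N, one_pow, one_mul]

theorem z_ne_one (h : ModData S a b m) : a ^ (2 ^ (m + 2)) ≠ 1 := by
  intro e
  have := (h.pow_eq_one_iff _).mp e
  have h2 : (2 : ℕ) ^ (m + 3) = 2 * 2 ^ (m + 2) := by ring
  rw [h2] at this
  have h3 : 0 < 2 ^ (m + 2) := by positivity
  have := Nat.le_of_dvd h3 this
  omega

theorem z_sq (h : ModData S a b m) : a ^ (2 ^ (m + 2)) * a ^ (2 ^ (m + 2)) = 1 := by
  rw [← pow_add]
  have e : 2 ^ (m + 2) + 2 ^ (m + 2) = 2 ^ (m + 3) := by ring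
  rw [e, h.pow_N]

/-- Elements of `M` are killed by `2^(m+2)`; those of `S \ M` are not. -/
theorem cases_M [Finite G] (h : ModData S a b m) (s : G) (hs : s ∈ S) :
    (s ∈ Msub S b ∧ s ^ (2 ^ (m + 2)) = 1) ∨
      (s ∉ Msub S b ∧ s ^ (2 ^ (m + 2)) = a ^ (2 ^ (m + 2))) := by
  obtain ⟨l, hl⟩ := h.elements' s hs
  have hcb : a ^ (2 * l) * b = b * a ^ (2 * l) := h.central_sq l b h.hb
  have hcS : a ^ (2 * l) ∈ S := h.pow_mem _
  have hpow : ∀ r ∈ S, (a ^ (2 * l) * r) ^ (2 ^ (m + 2)) = r ^ (2 ^ (m + 2)) := by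
    intro r hr
    have hc : Commute (a ^ (2 * l)) r := h.central_sq l r hr
    rw [hc.mul_pow, h.c_pow_q, one_mul]
  have hmem : ∀ r ∈ S, (a ^ (2 * l) * r ∈ Msub S b ↔ b * r = r * b) := by
    intro r hr
    rw [mem_Msub]
    constructor
    · rintro ⟨-, e⟩
      have e1 : a ^ (2 * l) * (b * r) = a ^ (2 * l) * (r * b) := by
        calc a ^ (2 * l) * (b * r) = b * (a ^ (2 * l) * r) := by
              rw [← mul_assoc, hcb, mul_assoc]
          _ = a ^ (2 * l) * r * b := e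
          _ = a ^ (2 * l) * (r * b) := by rw [mul_assoc]
      exact mul_left_cancel e1
    · intro e
      refine ⟨S.mul_mem hcS hr, ?_⟩
      calc b * (a ^ (2 * l) * r) = a ^ (2 * l) * (b * r) := by
            rw [← mul_assoc, ← hcb, mul_assoc]
        _ = a ^ (2 * l) * r * b := by rw [e, mul_assoc]
  rcases hl with rfl | rfl | rfl | rfl
  · left
    have h1 := hmem 1 S.one_mem
    have h2 := hpow 1 S.one_mem
    rw [mul_one] at h1 h2
    exact ⟨h1.mpr (by rw [mul_one, one_mul]), by rw [h2, one_pow]⟩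
  · right
    refine ⟨fun hm => h.a_not_comm ((hmem a h.ha).mp hm).symm, hpow a h.ha⟩
  · left
    exact ⟨(hmem b h.hb).mpr rfl, by rw [hpow b h.hb, h.b_pow_q]⟩
  · right
    have habS : a * b ∈ S := S.mul_mem h.ha h.hb
    refine ⟨fun hm => ?_, by rw [hpow _ habS, h.ab_pow_q]⟩
    have e := (hmem _ habS).mp hm
    apply h.a_not_comm
    have : b * a * b = a * b * b := by rw [← mul_assoc] at e; exact e
    exact (mul_right_cancel this).symm


theorem even_mem_M [Finite G] (h : ModData S a b m) (l : ℕ) :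
    a ^ (2 * l) ∈ Msub S b ∧ a ^ (2 * l) * b ∈ Msub S b := by
  have hcb : a ^ (2 * l) * b = b * a ^ (2 * l) := h.central_sq l b h.hb
  constructor
  · rw [mem_Msub]; exact ⟨h.pow_mem _, hcb.symm⟩
  · rw [mem_Msub]
    refine ⟨S.mul_mem (h.pow_mem _) h.hb, ?_⟩
    rw [← mul_assoc, ← hcb]

theorem relIndex_M [Finite G] (h : ModData S a b m) : (Msub S b).relIndex S = 2 := by
  rw [Subgroup.relIndex_eq_two_iff_exists_notMem_and']
  refine ⟨a, h.ha, ?_, ?_⟩
  · rw [mem_Msub]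
    rintro ⟨-, e⟩
    exact h.a_not_comm e.symm
  · intro s hs
    obtain ⟨l, rfl | rfl | rfl | rfl⟩ := h.elements' s hs
    · exact Or.inr (h.even_mem_M l).1
    · left
      have e : a * (a ^ (2 * l) * a) = a ^ (2 * (l + 1)) := by
        rw [← pow_succ, ← pow_succ']; rfl
      rw [e]
      exact (h.even_mem_M (l + 1)).1
    · exact Or.inr (h.even_mem_M l).2
    · left
      have e : a * (a ^ (2 * l) * (a * b)) = a ^ (2 * (l + 1)) * b := by
        rw [← mul_assoc, ← mul_assoc, ← pow_succ', ← pow_succ]; rfl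
      rw [e]
      exact (h.even_mem_M (l + 1)).2


theorem pow_of_dvd (h : ModData S a b m) (i : ℕ) (hi : 2 ^ (m + 2) ∣ i) :
    a ^ i = 1 ∨ a ^ i = a ^ (2 ^ (m + 2)) := by
  obtain ⟨l, rfl⟩ := hi
  rcases Nat.even_or_odd' l with ⟨j, rfl | rfl⟩
  · left
    have e : 2 ^ (m + 2) * (2 * j) = 2 ^ (m + 3) * j := by ring
    rw [e, pow_mul, h.pow_N, one_pow]
  · right
    have e : 2 ^ (m + 2) * (2 * j + 1) = 2 ^ (m + 3) * j + 2 ^ (m + 2) := by ring
    rw [e, pow_add, pow_mul, h.pow_N, one_pow, one_mul]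

/-- The involutions of `S`. -/
theorem invol [Finite G] (h : ModData S a b m) (s : G) (hs : s ∈ S) (hss : s * s = 1) :
    s = 1 ∨ s = a ^ (2 ^ (m + 2)) ∨ s = b ∨ s = a ^ (2 ^ (m + 2)) * b := by
  have e : (2 : ℕ) ^ (m + 3) = 2 * 2 ^ (m + 2) := by ring
  obtain ⟨i, rfl | rfl⟩ := h.elements s hs
  · rw [← pow_add, h.pow_eq_one_iff] at hss
    have hd : 2 ^ (m + 2) ∣ i := by
      rw [e, ← two_mul] at hss
      exact (Nat.mul_dvd_mul_iff_left (by norm_num)).mp hss
    rcases h.pow_of_dvd i hd with e1 | e1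
    · exact Or.inl e1
    · exact Or.inr (Or.inl e1)
  · rw [h.sq_ab, h.pow_eq_one_iff] at hss
    have hd : 2 ^ (m + 2) ∣ i := by
      have e2 : i * (2 ^ (m + 2) + 2) = 2 * (i * (2 ^ (m + 1) + 1)) := by ring
      rw [e, e2] at hss
      have h3 := (Nat.mul_dvd_mul_iff_left (by norm_num)).mp hss
      have hcop : Nat.Coprime (2 ^ (m + 2)) (2 ^ (m + 1) + 1) := by
        apply Nat.Coprime.pow_left
        rw [Nat.coprime_two_left]
        exact ⟨2 ^ m, by ring⟩
      exact hcop.dvd_of_dvd_mul_right h3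
    rcases h.pow_of_dvd i hd with e1 | e1
    · rw [e1, one_mul]; exact Or.inr (Or.inr (Or.inl rfl))
    · rw [e1]; exact Or.inr (Or.inr (Or.inr rfl))

theorem sq_mem_zpowers [Finite G] (h : ModData S a b m) (s : G) (hs : s ∈ S) :
    s * s ∈ Subgroup.zpowers a := by
  obtain ⟨i, rfl | rfl⟩ := h.elements s hs
  · rw [← pow_add]; exact Subgroup.npow_mem_zpowers a _
  · rw [h.sq_ab]; exact Subgroup.npow_mem_zpowers a _

theorem zb_not_mem (h : ModData S a b m) : a ^ (2 ^ (m + 2)) * b ∉ Subgroup.zpowers a := by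
  intro hm
  apply h.b_not_mem
  exact (Subgroup.mul_mem_cancel_left _ (Subgroup.npow_mem_zpowers a (2 ^ (m + 2)))).mp hm

theorem sq_invol [Finite G] (h : ModData S a b m) (s : G) (hs : s ∈ S)
    (h1 : (s * s) * (s * s) = 1) (h2 : s * s ≠ 1) : s * s = a ^ (2 ^ (m + 2)) := by
  have hm := h.sq_mem_zpowers s hs
  rcases h.invol (s * s) (S.mul_mem hs hs) h1 with e | e | e | e
  · exact absurd e h2
  · exact e
  · rw [e] at hm; exact absurd hm h.b_not_mem
  · rw [e] at hm; exact absurd hm h.zb_not_mem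

theorem elements'' [Finite G] (h : ModData S a b m) (s : G) (hs : s ∈ S) :
    ∃ (l : ℕ) (r : G), s = a ^ (2 * l) * r ∧ (r = 1 ∨ r = a ∨ r = b ∨ r = a * b) := by
  obtain ⟨l, hl | hl | hl | hl⟩ := h.elements' s hs
  · exact ⟨l, 1, by rw [mul_one]; exact hl, Or.inl rfl⟩
  · exact ⟨l, a, hl, Or.inr (Or.inl rfl)⟩
  · exact ⟨l, b, hl, Or.inr (Or.inr (Or.inl rfl))⟩
  · exact ⟨l, a * b, hl, Or.inr (Or.inr (Or.inr rfl))⟩

/-- `S ⊓ K` is abelian when `K` contains the even powers of `a` but not both of `a`, `b`. -/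
theorem inf_comm' [Finite G] (h : ModData S a b m) (K : Subgroup G) (hab : ¬ (a ∈ K ∧ b ∈ K))
    (hcK : ∀ l : ℕ, a ^ (2 * l) ∈ K) :
    ∀ x ∈ S ⊓ K, ∀ y ∈ S ⊓ K, x * y = y * x := by
  intro x hx y hy
  obtain ⟨l, r, rfl, hr⟩ := h.elements'' x hx.1
  obtain ⟨l', r', rfl, hr'⟩ := h.elements'' y hy.1
  have hrS : r ∈ S := (Subgroup.mul_mem_cancel_left S (h.pow_mem (2 * l))).mp hx.1
  have hr'S : r' ∈ S := (Subgroup.mul_mem_cancel_left S (h.pow_mem (2 * l'))).mp hy.1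
  have hrK : r ∈ K := (Subgroup.mul_mem_cancel_left K (hcK l)).mp hx.2
  have hr'K : r' ∈ K := (Subgroup.mul_mem_cancel_left K (hcK l')).mp hy.2
  have c1 := h.central_sq l' r hrS
  have c2 := h.central_sq l r' hr'S
  have c3 : a ^ (2 * l) * a ^ (2 * l') = a ^ (2 * l') * a ^ (2 * l) := by
    rw [← pow_add, ← pow_add, add_comm]
  have hcomm : r * r' = r' * r →
      (a ^ (2 * l) * r) * (a ^ (2 * l') * r') = (a ^ (2 * l') * r') * (a ^ (2 * l) * r) := by
    intro e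
    calc a ^ (2 * l) * r * (a ^ (2 * l') * r') = a ^ (2 * l) * (r * a ^ (2 * l')) * r' := by
          simp only [mul_assoc]
      _ = a ^ (2 * l) * (a ^ (2 * l') * r) * r' := by rw [c1]
      _ = (a ^ (2 * l) * a ^ (2 * l')) * (r * r') := by simp only [mul_assoc]
      _ = (a ^ (2 * l') * a ^ (2 * l)) * (r' * r) := by rw [c3, e]
      _ = a ^ (2 * l') * (a ^ (2 * l) * r') * r := by simp only [mul_assoc]
      _ = a ^ (2 * l') * (r' * a ^ (2 * l)) * r := by rw [c2]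
      _ = a ^ (2 * l') * r' * (a ^ (2 * l) * r) := by simp only [mul_assoc]
  apply hcomm
  have f1 : a ∈ K → a * b ∈ K → b ∈ K := fun h1 h2 => (Subgroup.mul_mem_cancel_left K h1).mp h2
  have f2 : b ∈ K → a * b ∈ K → a ∈ K := fun h1 h2 => (Subgroup.mul_mem_cancel_right K h1).mp h2
  rcases hr with rfl | rfl | rfl | rfl <;> rcases hr' with rfl | rfl | rfl | rfl
  · rfl
  · rw [one_mul, mul_one]
  · rw [one_mul, mul_one]
  · rw [one_mul, mul_one]
  · rw [one_mul, mul_one]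
  · rfl
  · exact absurd ⟨hrK, hr'K⟩ hab
  · exact absurd ⟨hrK, f1 hrK hr'K⟩ hab
  · rw [one_mul, mul_one]
  · exact absurd ⟨hr'K, hrK⟩ hab
  · rfl
  · exact absurd ⟨f2 hrK hr'K, hrK⟩ hab
  · rw [one_mul, mul_one]
  · exact absurd ⟨hr'K, f1 hr'K hrK⟩ hab
  · exact absurd ⟨f2 hr'K hrK, hr'K⟩ hab
  · rfl

end ModData

theorem fix_of_sq_of_odd {G : Type*} [Group G] (φ : MulAut G) (t : G) (h2 : φ (φ t) = t)
    {k : ℕ} (hk : Odd k) (hφk : (φ ^ k) t = t) : φ t = t := by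
  obtain ⟨j, rfl⟩ := hk
  have h3 : ∀ j : ℕ, (φ ^ (2 * j)) t = t := by
    intro j
    induction j with
    | zero => simp
    | succ j ih =>
      have e : 2 * (j + 1) = 2 * j + 2 := by ring
      rw [e, pow_add, MulAut.mul_apply, pow_two, MulAut.mul_apply, h2, ih]
  rw [pow_succ', MulAut.mul_apply, h3 j] at hφk
  exact hφk

theorem odd_aut_trivial {G : Type*} [Group G] (T : Subgroup G)
    (hTab : ∀ x ∈ T, ∀ y ∈ T, x * y = y * x) (h2 : ∀ t ∈ T, ∃ e : ℕ, t ^ (2 ^ e) = 1)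
    (φ : MulAut G) (hφ : ∀ t ∈ T, φ t ∈ T) (k : ℕ) (hk : Odd k) (hφk : ∀ t ∈ T, (φ ^ k) t = t)
    (hinv : ∀ t ∈ T, t * t = 1 → φ t = t) : ∀ t ∈ T, φ t = t := by
  have key : ∀ e : ℕ, ∀ t ∈ T, t ^ (2 ^ (e + 1)) = 1 → φ t = t := by
    intro e
    induction e with
    | zero =>
      intro t ht h
      exact hinv t ht (by simpa [pow_two] using h)
    | succ e ih =>
      intro t ht h
      have htt : φ (t * t) = t * t := by
        apply ih (t * t) (T.mul_mem ht ht)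
        rw [← pow_two, ← pow_mul]
        have e2 : 2 * 2 ^ (e + 1) = 2 ^ (e + 1 + 1) := by ring
        rw [e2]; exact h
      have hδT : φ t * t⁻¹ ∈ T := T.mul_mem (hφ t ht) (T.inv_mem ht)
      have hδδ : (φ t * t⁻¹) * (φ t * t⁻¹) = 1 := by
        have hc : t⁻¹ * φ t = φ t * t⁻¹ := hTab _ (T.inv_mem ht) _ (hφ t ht)
        calc (φ t * t⁻¹) * (φ t * t⁻¹) = φ t * (t⁻¹ * φ t) * t⁻¹ := by group
          _ = φ t * (φ t * t⁻¹) * t⁻¹ := by rw [hc]
          _ = φ (t * t) * (t * t)⁻¹ := by rw [map_mul]; group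
          _ = 1 := by rw [htt]; group
      have hδfix : φ (φ t * t⁻¹) = φ t * t⁻¹ := hinv _ hδT hδδ
      have h2' : φ (φ t) = t := by
        have e1 : φ (φ t) = φ (φ t * t⁻¹) * φ t := by
          rw [← map_mul]; congr 1; group
        rw [e1, hδfix]
        calc φ t * t⁻¹ * φ t = (φ t * t⁻¹) * (φ t * t⁻¹) * t := by group
          _ = t := by rw [hδδ, one_mul]
      exact fix_of_sq_of_odd φ t h2' hk (hφk t ht)
  intro t ht
  obtain ⟨e, he⟩ := h2 t ht
  apply key e t ht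
  rw [pow_succ, pow_mul, he, one_pow]

theorem burnside_in {G : Type*} [Group G] [Finite G] (S : Sylow 2 G) (K : Subgroup G) [K.Normal]
    (hNC : ∀ g ∈ K, (∀ t ∈ (S : Subgroup G) ⊓ K, g * t * g⁻¹ ∈ (S : Subgroup G) ⊓ K) →
      (∃ k : ℕ, Odd k ∧ g ^ k ∈ (S : Subgroup G) ⊓ K) →
      ∀ t ∈ (S : Subgroup G) ⊓ K, g * t * g⁻¹ = t)
    (hodd : ∀ g : G, Nat.Coprime (orderOf g) 2 → g ∈ K) : Cfsg.HasNormalPComplement 2 G := by
  have : Fact (Nat.Prime 2) := ⟨Nat.prime_two⟩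
  have hTp : IsPGroup 2 ↥((((S : Subgroup G) ⊓ K)).subgroupOf K) := by
    have h1 : IsPGroup 2 ↥((S : Subgroup G) ⊓ K) := S.2.to_le inf_le_left
    exact h1.comap_subtype
  have hidx : ¬ 2 ∣ (((S : Subgroup G) ⊓ K).subgroupOf K).index :=
    Cfsg.Agent.helper19.sylow_inf_normal_not_dvd S K
  obtain ⟨P, hPc⟩ : ∃ P : Sylow 2 ↥K, (P : Subgroup ↥K) = ((S : Subgroup G) ⊓ K).subgroupOf K :=
    ⟨hTp.toSylow hidx, IsPGroup.toSylow_coe _ _⟩
  have hmemP : ∀ y : ↥K, y ∈ (P : Subgroup ↥K) ↔ (y : G) ∈ (S : Subgroup G) ⊓ K := by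
    intro y; rw [hPc, Subgroup.mem_subgroupOf]
  have hP : Subgroup.normalizer ((P : Subgroup ↥K) : Set ↥K) ≤
      Subgroup.centralizer ((P : Subgroup ↥K) : Set ↥K) := by
    intro x hx
    have hconj : ∀ t ∈ (S : Subgroup G) ⊓ K, (x : G) * t * (x : G)⁻¹ ∈ (S : Subgroup G) ⊓ K := by
      intro t ht
      have htK : t ∈ K := ht.2
      have h1 := (Subgroup.mem_normalizer_iff.mp hx ⟨t, htK⟩).mp ((hmemP _).mpr ht)
      exact (hmemP _).mp h1
    obtain ⟨k, hk, hxk⟩ := Cfsg.Agent.S3203.oddpow P x hx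
    have hk' : ∃ k : ℕ, Odd k ∧ (x : G) ^ k ∈ (S : Subgroup G) ⊓ K :=
      ⟨k, hk, by have := (hmemP _).mp hxk; simpa using this⟩
    have hfix := hNC x x.2 hconj hk'
    rw [Subgroup.mem_centralizer_iff]
    intro y hy
    have h1 := hfix y ((hmemP y).mp hy)
    apply Subtype.ext
    simp only [Subgroup.coe_mul]
    calc (y : G) * x = ((x : G) * y * (x : G)⁻¹) * x := by rw [h1]
      _ = x * y := by group
  have hnd := MonoidHom.not_dvd_card_ker_transferSylow P hP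
  apply Cfsg.Agent.helper10.hasNormalPComplement_of_pResidual_coprime
  have hle : Cfsg.pResidual 2 G ≤ (MonoidHom.transferSylow P hP).ker.map K.subtype := by
    unfold Cfsg.pResidual
    rw [Subgroup.closure_le]
    intro g hg
    have hgK := hodd g hg
    refine ⟨⟨g, hgK⟩, ?_, rfl⟩
    rw [SetLike.mem_coe, MonoidHom.mem_ker]
    obtain ⟨e, he⟩ := (IsPGroup.iff_orderOf.mp P.2) (MonoidHom.transferSylow P hP ⟨g, hgK⟩)
    have h1 : orderOf (MonoidHom.transferSylow P hP ⟨g, hgK⟩) ∣ orderOf (⟨g, hgK⟩ : ↥K) :=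
      orderOf_map_dvd _ _
    have h1' : orderOf (⟨g, hgK⟩ : ↥K) = orderOf g := Subgroup.orderOf_mk g hgK
    rw [h1'] at h1
    have h3 : Nat.Coprime (orderOf (MonoidHom.transferSylow P hP ⟨g, hgK⟩)) 2 :=
      Nat.Coprime.coprime_dvd_left h1 hg
    rw [he] at h3
    have he0 : e = 0 := by
      by_contra hne
      have := (Nat.coprime_pow_left_iff (Nat.pos_of_ne_zero hne) 2 2).mp h3
      norm_num at this
    rw [he0, pow_zero, orderOf_eq_one_iff] at he
    exact he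
  have hcard : Nat.card ↥((MonoidHom.transferSylow P hP).ker.map K.subtype) =
      Nat.card (MonoidHom.transferSylow P hP).ker :=
    Nat.card_congr ((MonoidHom.transferSylow P hP).ker.equivMapOfInjective K.subtype
      K.subtype_injective).symm.toEquiv
  have hdvd : Nat.card ↥(Cfsg.pResidual 2 G) ∣ Nat.card (MonoidHom.transferSylow P hP).ker :=
    hcard ▸ Subgroup.card_dvd_of_le hle
  rw [Nat.coprime_comm, Nat.Prime.coprime_iff_not_dvd Nat.prime_two]
  intro h2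
  exact hnd (h2.trans hdvd)


theorem exists_index_two {G : Type*} [Group G] [Finite G] (S : Sylow 2 G) {a b : G} {m : ℕ}
    (h : ModData (S : Subgroup G) a b m) : ∃ K : Subgroup G, K.index = 2 := by
  by_contra hno
  push Not at hno
  have hev : Even (Nat.card G) := by
    rw [even_iff_two_dvd]
    have h1 : Nat.card ↥(S : Subgroup G) ∣ Nat.card G := Subgroup.card_subgroup_dvd_card _
    rw [h.card] at h1
    exact (dvd_pow_self 2 (by omega)).trans h1
  have hord : ∀ y ∈ (S : Subgroup G), y ∉ ModData.Msub (S : Subgroup G) b →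
      2 ^ (m + 3 - 1) < orderOf y := by
    intro y hy hyM
    rcases h.cases_M y hy with ⟨h1, -⟩ | ⟨-, h2⟩
    · exact absurd h1 hyM
    · obtain ⟨e, he⟩ := (IsPGroup.iff_orderOf.mp S.2) ⟨y, hy⟩
      rw [Subgroup.orderOf_mk] at he
      rw [he]
      apply Nat.pow_lt_pow_right (by norm_num)
      by_contra hle
      push Not at hle
      have hdvd : orderOf y ∣ 2 ^ (m + 2) := by
        rw [he]; exact pow_dvd_pow 2 (by omega)
      have := orderOf_dvd_iff_pow_eq_one.mp hdvd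
      rw [h2] at this
      exact h.z_ne_one this
  obtain ⟨g, hg⟩ := Cfsg.Agent.S3225.result hev hno S (ModData.Msub (S : Subgroup G) b)
    inf_le_left h.relIndex_M (m + 3) (by omega) hord a h.ha h.hao
  have hgS : g * a * g⁻¹ ∈ (S : Subgroup G) := (ModData.mem_Msub _).mp hg |>.1
  rcases h.cases_M _ hgS with ⟨-, h1⟩ | ⟨h2, -⟩
  · rw [conj_pow] at h1
    have : a ^ (2 ^ (m + 2)) = 1 := by
      have h3 : g⁻¹ * (g * a ^ 2 ^ (m + 2) * g⁻¹) * g = g⁻¹ * 1 * g := by rw [h1]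
      simpa [mul_assoc] using h3
    exact h.z_ne_one this
  · exact h2 hg


namespace ModData

variable {G : Type*} [Group G] {S : Subgroup G} {a b : G} {m : ℕ}

/-- An automorphism of odd order of a subgroup `T ≤ S` containing the even powers of `a`
fixes every involution of `T`. -/
theorem invol_fixed [Finite G] (h : ModData S a b m) (T : Subgroup G) (hTS : T ≤ S)
    (hcT : ∀ l : ℕ, a ^ (2 * l) ∈ T) (φ : MulAut G) (hφ : ∀ t ∈ T, φ t ∈ T) {k : ℕ}
    (hk : Odd k) (hφk : ∀ t ∈ T, (φ ^ k) t = t) : ∀ t ∈ T, t * t = 1 → φ t = t := by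
  have hzfix : φ (a ^ (2 ^ (m + 2))) = a ^ (2 ^ (m + 2)) := by
    have hy : a ^ (2 * 2 ^ m) ∈ T := hcT _
    have hyy : a ^ (2 * 2 ^ m) * a ^ (2 * 2 ^ m) = a ^ (2 ^ (m + 2)) := by
      rw [← pow_add]; congr 1; ring
    have h1 : φ (a ^ (2 ^ (m + 2))) = φ (a ^ (2 * 2 ^ m)) * φ (a ^ (2 * 2 ^ m)) := by
      rw [← map_mul, hyy]
    rw [h1]
    apply h.sq_invol _ (hTS (hφ _ hy))
    · rw [← h1, ← map_mul, h.z_sq, map_one]
    · rw [← h1]
      intro e
      exact h.z_ne_one ((map_eq_one_iff φ φ.injective).mp e)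
  have hb1 : b ≠ 1 := fun e => h.b_not_mem (e ▸ Subgroup.one_mem _)
  have hbz : b ≠ a ^ (2 ^ (m + 2)) := fun e => h.b_not_mem (e ▸ Subgroup.npow_mem_zpowers a _)
  intro t ht htt
  rcases h.invol t (hTS ht) htt with e0 | e0 | e0 | e0
  · rw [e0]; exact map_one φ
  · rw [e0]; exact hzfix
  · rw [e0] at ht htt ⊢
    have h3 := h.invol (φ b) (hTS (hφ b ht)) (by rw [← map_mul, htt, map_one])
    rcases h3 with e | e | e | e
    · exact absurd ((map_eq_one_iff φ φ.injective).mp e) hb1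
    · exfalso
      rw [← hzfix] at e
      exact hbz (φ.injective e)
    · exact e
    · apply fix_of_sq_of_odd φ b _ hk (hφk b ht)
      rw [e, map_mul, hzfix, e, ← mul_assoc, h.z_sq, one_mul]
  · rw [e0] at ht htt ⊢
    have h3 := h.invol (φ (a ^ (2 ^ (m + 2)) * b)) (hTS (hφ _ ht)) (by rw [← map_mul, htt, map_one])
    rcases h3 with e | e | e | e
    · exfalso
      have := (map_eq_one_iff φ φ.injective).mp e
      exact h.zb_not_mem (this ▸ Subgroup.one_mem _)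
    · exfalso
      rw [map_mul, hzfix] at e
      have : φ b = 1 := by
        have e' : a ^ (2 ^ (m + 2)) * φ b = a ^ (2 ^ (m + 2)) * 1 := by rw [e, mul_one]
        exact mul_left_cancel e'
      exact hb1 ((map_eq_one_iff φ φ.injective).mp this)
    · apply fix_of_sq_of_odd φ _ _ hk (hφk _ ht)
      rw [e]
      have e' := e
      rw [map_mul, hzfix] at e'
      calc φ b = (a ^ (2 ^ (m + 2)) * a ^ (2 ^ (m + 2))) * φ b := by rw [h.z_sq, one_mul]
        _ = a ^ (2 ^ (m + 2)) * (a ^ (2 ^ (m + 2)) * φ b) := mul_assoc _ _ _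
        _ = a ^ (2 ^ (m + 2)) * b := by rw [e']
    · exact e

end ModData

theorem main {G : Type*} [Group G] [Finite G] (S : Sylow 2 G) {a b : G} {m : ℕ}
    (h : ModData (S : Subgroup G) a b m) : Cfsg.HasNormalPComplement 2 G := by
  have : Fact (Nat.Prime 2) := ⟨Nat.prime_two⟩
  obtain ⟨K, hK⟩ := exists_index_two S h
  have : K.Normal := Subgroup.normal_of_index_eq_two hK
  have hsq : ∀ g : G, g * g ∈ K := fun g => by
    have := Subgroup.sq_mem_of_index_two hK g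
    rwa [pow_two] at this
  have hSK : ¬ (S : Subgroup G) ≤ K := by
    intro hle
    have h1 : K.index ∣ (S : Subgroup G).index := Subgroup.index_dvd_of_le hle
    rw [hK] at h1
    exact S.not_dvd_index h1
  have hab : ¬ (a ∈ K ∧ b ∈ K) := by
    rintro ⟨haK, hbK⟩
    apply hSK
    intro s hs
    obtain ⟨i, rfl | rfl⟩ := h.elements s hs
    · exact K.pow_mem haK i
    · exact K.mul_mem (K.pow_mem haK i) hbK
  have hcK : ∀ l : ℕ, a ^ (2 * l) ∈ K := by
    intro l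
    rw [pow_mul, pow_two]
    exact K.pow_mem (hsq a) l
  apply burnside_in S K
  · intro g hgK hconj hk'
    obtain ⟨k, hk, hgk⟩ := hk'
    have hTab := h.inf_comm' K hab hcK
    have h2 : ∀ t ∈ (S : Subgroup G) ⊓ K, ∃ e : ℕ, t ^ (2 ^ e) = 1 := by
      intro t ht
      obtain ⟨e, he⟩ := (IsPGroup.iff_orderOf.mp S.2) ⟨t, ht.1⟩
      rw [Subgroup.orderOf_mk] at he
      exact ⟨e, by rw [← he]; exact pow_orderOf_eq_one t⟩
    have hφ : ∀ t ∈ (S : Subgroup G) ⊓ K, (MulAut.conj g) t ∈ (S : Subgroup G) ⊓ K := by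
      intro t ht
      rw [MulAut.conj_apply]
      exact hconj t ht
    have hφk : ∀ t ∈ (S : Subgroup G) ⊓ K, ((MulAut.conj g) ^ k) t = t := by
      intro t ht
      rw [← map_pow, MulAut.conj_apply]
      have := hTab _ hgk t ht
      rw [this]
      group
    have hcT : ∀ l : ℕ, a ^ (2 * l) ∈ (S : Subgroup G) ⊓ K := fun l => ⟨h.pow_mem _, hcK l⟩
    have hinv := h.invol_fixed _ inf_le_left hcT (MulAut.conj g) hφ hk hφk
    have hfix := odd_aut_trivial _ hTab h2 (MulAut.conj g) hφ k hk hφk hinv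
    intro t ht
    have := hfix t ht
    rwa [MulAut.conj_apply] at this
  · intro g hg
    rw [Nat.coprime_two_right] at hg
    obtain ⟨j, hj⟩ := hg
    have : g = (g * g) ^ (j + 1) := by
      rw [← pow_two, ← pow_mul]
      have e : 2 * (j + 1) = orderOf g + 1 := by omega
      rw [e, pow_succ, pow_orderOf_eq_one, one_mul]
    rw [this]
    exact K.pow_mem (hsq g) _

theorem result {G : Type*} [Group G] [Finite G]
    (S : Sylow 2 G) (n : ℕ) (hn : 3 ≤ n) (hS : Nat.card ↥(S : Subgroup G) = 2 ^ (n + 1))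
    (a b : G) (ha : a ∈ (S : Subgroup G)) (hb : b ∈ (S : Subgroup G))
    (hao : orderOf a = 2 ^ n) (hbo : orderOf b = 2) (hrel : b * a * b⁻¹ = a ^ (2 ^ (n - 1) + 1)) :
    Cfsg.HasNormalPComplement 2 G := by
  obtain ⟨m, rfl⟩ : ∃ m, n = m + 3 := ⟨n - 3, by omega⟩
  have e : m + 3 - 1 = m + 2 := by omega
  rw [e] at hrel
  exact main S ⟨hS, ha, hb, hao, hbo, hrel⟩

end Cfsg.Agent.S3178
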