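import Mathlib
import Cfsg.Agent.H16UniqueInvol
import Cfsg.Agent.S3178

set_option autoImplicit false

namespace Cfsg.Agent.helper15.OneInv

open Cfsg.Agent.H16UniqueInvol

variable {G : Type*} [Group G]

/-- The subgroup `Q` contains at most one involution. -/
def OneI (Q : Subgroup G) : Prop :=
  ∀ x ∈ Q, ∀ y ∈ Q, orderOf x = 2 → orderOf y = 2 → x = y

theorem OneI.mono {Q R : Subgroup G} (h : OneI Q) (hRQ : R ≤ Q) : OneI R :=
  fun x hx y hy hx2 hy2 => h x (hRQ hx) y (hRQ hy) hx2 hy2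

theorem conj_mem_of_mem_normalizer {Q : Subgroup G} {e : G}
    (he : e ∈ Subgroup.normalizer (Q : Set G)) {t : G} (ht : t ∈ Q) : e * t * e⁻¹ ∈ Q :=
  (Subgroup.mem_normalizer_iff.1 he t).1 ht

theorem orderOf_conj_eq (e t : G) : orderOf (e * t * e⁻¹) = orderOf t := by
  have : e * t * e⁻¹ = MulAut.conj e t := by simp [MulAut.conj_apply]
  rw [this]
  exact MulEquiv.orderOf_eq (MulAut.conj e) t

theorem orderOf_two_of_sq {t : G} (h1 : t ≠ 1) (h2 : t * t = 1) : orderOf t = 2 := by
  haveI : Fact (Nat.Prime 2) := ⟨Nat.prime_two⟩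
  exact orderOf_eq_prime (by rw [pow_two]; exact h2) h1

/-- An element normalizing `Q` fixes every involution of `Q` when `Q` has at most one. -/
theorem conj_invol_eq {Q : Subgroup G} (hQ : OneI Q) {e : G}
    (he : e ∈ Subgroup.normalizer (Q : Set G)) {t : G} (ht : t ∈ Q) (h2 : t * t = 1) :
    e * t * e⁻¹ = t := by
  by_cases h1 : t = 1
  · rw [h1]; group
  · have ho : orderOf t = 2 := orderOf_two_of_sq h1 h2
    exact hQ _ (conj_mem_of_mem_normalizer he ht) _ ht (by rw [orderOf_conj_eq, ho]) ho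

/-- Abelian case: an odd-order element normalizing an abelian `2`-subgroup with at most one
involution centralizes it. -/
theorem conj_eq_of_abelian {Q : Subgroup G} (hQ2 : IsPGroup 2 Q) (hQ : OneI Q)
    (hab : ∀ x ∈ Q, ∀ y ∈ Q, x * y = y * x) {e : G}
    (he : e ∈ Subgroup.normalizer (Q : Set G)) {k : ℕ} (hk : Odd k) (hek : e ^ k = 1) :
    ∀ t ∈ Q, e * t * e⁻¹ = t := by
  have h2 : ∀ t ∈ Q, ∃ n : ℕ, t ^ (2 ^ n) = 1 := by
    intro t ht
    obtain ⟨n, hn⟩ := hQ2 ⟨t, ht⟩
    refine ⟨n, ?_⟩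
    have := congrArg Subtype.val hn
    simpa using this
  have key := Cfsg.Agent.S3178.odd_aut_trivial Q hab h2 (MulAut.conj e)
    (fun t ht => by
      rw [MulAut.conj_apply]; exact conj_mem_of_mem_normalizer he ht) k hk
    (fun t _ => by
      rw [← map_pow, hek, map_one]; rfl)
    (fun t ht htt => by
      rw [MulAut.conj_apply]; exact conj_invol_eq hQ he ht htt)
  intro t ht
  have := key t ht
  rwa [MulAut.conj_apply] at this

theorem conj_pow_right {a x c : G} (h : a * x * a⁻¹ = x * c) (hac : a * c = c * a) (n : ℕ) :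
    a ^ n * x * (a ^ n)⁻¹ = x * c ^ n := by
  induction n with
  | zero => simp
  | succ n ih =>
    have hcomm : Commute a c := hac
    have h1 : a * c ^ n = c ^ n * a := (hcomm.pow_right n).eq
    calc a ^ (n + 1) * x * (a ^ (n + 1))⁻¹ = a * (a ^ n * x * (a ^ n)⁻¹) * a⁻¹ := by
          rw [pow_succ']; group
      _ = a * (x * c ^ n) * a⁻¹ := by rw [ih]
      _ = (a * x * a⁻¹) * (a * c ^ n) * a⁻¹ := by group
      _ = (x * c) * (c ^ n * a) * a⁻¹ := by rw [h, h1]
      _ = x * c ^ (n + 1) := by rw [pow_succ']; group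

/-- An element killed by an odd power and by a power of two is trivial. -/
theorem eq_one_of_pow_odd_of_pow_two {c : G} {k n : ℕ} (hk : Odd k) (h1 : c ^ k = 1)
    (h2 : c ^ (2 ^ n) = 1) : c = 1 := by
  have hd1 : orderOf c ∣ k := orderOf_dvd_of_pow_eq_one h1
  have hd2 : orderOf c ∣ 2 ^ n := orderOf_dvd_of_pow_eq_one h2
  have hcop : Nat.Coprime k (2 ^ n) := by
    apply Nat.Coprime.pow_right
    exact Nat.coprime_two_right.mpr hk
  have : orderOf c = 1 := Nat.eq_one_of_dvd_coprimes hcop hd1 hd2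
  exact orderOf_eq_one_iff.1 this

theorem exists_uinv {Q : Subgroup G} [Finite Q] (hQ2 : IsPGroup 2 Q) (hQ : OneI Q)
    (hne : ∃ g ∈ Q, g ≠ 1) : ∃ z : ↥Q, UInv z := by
  haveI : Fact (Nat.Prime 2) := ⟨Nat.prime_two⟩
  have h2 : 2 ∣ Nat.card ↥Q := by
    obtain ⟨g, hg, hg1⟩ := hne
    obtain ⟨n, hn⟩ := hQ2.exists_card_eq
    have hn0 : n ≠ 0 := by
      rintro rfl
      rw [pow_zero] at hn
      have hsub : Subsingleton ↥Q := (Nat.card_eq_one_iff_unique.1 hn).1
      exact hg1 (by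
        have := Subsingleton.elim (⟨g, hg⟩ : ↥Q) 1
        exact congrArg Subtype.val this)
    rw [hn]
    exact dvd_pow_self 2 hn0
  obtain ⟨z, hz⟩ := exists_prime_orderOf_dvd_card' 2 h2
  refine ⟨z, ?_, ?_, ?_⟩
  · intro e
    rw [e, orderOf_one] at hz
    norm_num at hz
  · rw [← pow_two, ← hz]; exact pow_orderOf_eq_one z
  · intro g hg
    by_cases h1 : g = 1
    · exact Or.inl h1
    · right
      have hog : orderOf g = 2 := orderOf_two_of_sq h1 hg
      apply Subtype.ext
      apply hQ _ g.2 _ z.2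
      · rw [Subgroup.orderOf_coe]; exact hog
      · rw [Subgroup.orderOf_coe]; exact hz

theorem card_of_GQ {P : Type*} [Group P] [Finite P] {z x y : P} {k : ℕ} (h : GQ z x y k) :
    Nat.card P = 2 ^ (k + 1) := by
  have hidx : (Subgroup.zpowers x).index = 2 := by
    rw [Subgroup.index_eq_two_iff]
    refine ⟨y, fun b => ?_⟩
    by_cases hb : b ∈ Subgroup.zpowers x
    · refine Or.inr ⟨hb, ?_⟩
      intro hby
      apply h.hy
      have : y = b⁻¹ * (b * y) := by group
      rw [this]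
      exact Subgroup.mul_mem _ (Subgroup.inv_mem _ hb) hby
    · refine Or.inl ⟨?_, hb⟩
      rcases h.idx b with h1 | h1
      · exact absurd h1 hb
      · have h2 := h.conj_mem _ h1
        have e : b * y = (y * (y⁻¹ * b) * y⁻¹) * (y * y) := by group
        rw [e, h2, h.yy]
        exact Subgroup.mul_mem _ (Subgroup.inv_mem _ h1) h.z_mem
  have := Subgroup.card_mul_index (Subgroup.zpowers x)
  rw [hidx, Nat.card_zpowers, h.ord] at this
  rw [← this, pow_succ]

/-- Main local lemma: an odd-order element normalizing a `2`-subgroup `Q` with at most one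
involution centralizes `Q`, unless `Q` has order `8`. -/
theorem conj_eq_or_card_eight {Q : Subgroup G} [Finite Q] (hQ2 : IsPGroup 2 Q) (hQ : OneI Q)
    {e : G} (he : e ∈ Subgroup.normalizer (Q : Set G)) {k : ℕ} (hk : Odd k) (hek : e ^ k = 1) :
    (∀ t ∈ Q, e * t * e⁻¹ = t) ∨ Nat.card Q = 8 := by
  by_cases hab : ∀ x ∈ Q, ∀ y ∈ Q, x * y = y * x
  · exact Or.inl (conj_eq_of_abelian hQ2 hQ hab he hk hek)
  push Not at hab
  obtain ⟨g0, hg0, h0, hh0, hne⟩ := hab
  have hne1 : ∃ g ∈ Q, g ≠ 1 := by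
    refine ⟨g0, hg0, ?_⟩
    rintro rfl
    exact hne (by rw [one_mul, mul_one])
  obtain ⟨z, hz⟩ := exists_uinv hQ2 hQ hne1
  have hna : ∃ g h : ↥Q, g * h ≠ h * g := by
    refine ⟨⟨g0, hg0⟩, ⟨h0, hh0⟩, ?_⟩
    intro hc
    exact hne (congrArg Subtype.val hc)
  obtain ⟨x, y, n, hgq⟩ := exists_GQ hQ2 hz hna
  have hcard := card_of_GQ hgq
  by_cases hn2 : n = 2
  · right
    rw [hcard, hn2]; norm_num
  left
  have hn3 : 3 ≤ n := by
    have := hgq.hk
    omega
  -- conjugation by `e` preserves `⟨x⟩`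
  have hxQ : (x : G) ∈ Q := x.2
  have hconjx : ∀ i : ℤ, e * ((x : G) ^ i) * e⁻¹ ∈ Subgroup.zpowers (x : G) := by
    have hw : e * (x : G) * e⁻¹ ∈ Subgroup.zpowers (x : G) := by
      set w : ↥Q := ⟨e * (x : G) * e⁻¹, conj_mem_of_mem_normalizer he hxQ⟩ with hwdef
      have how : orderOf w = 2 ^ n := by
        rw [← Subgroup.orderOf_coe, hwdef]
        simp only
        rw [orderOf_conj_eq, Subgroup.orderOf_coe, hgq.ord]
      have hwm : w ∈ Subgroup.zpowers x := by
        by_contra hnot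
        have hsq := hgq.sq_of_not_mem w hnot
        have h4 : w ^ 4 = 1 := by
          have : w ^ 4 = (w * w) * (w * w) := by
            rw [show (4 : ℕ) = 2 + 2 from rfl, pow_add, pow_two]
          rw [this, hsq, hz.sq]
        have hd : orderOf w ∣ 4 := orderOf_dvd_of_pow_eq_one h4
        rw [how] at hd
        have h8 : 2 ^ 3 ≤ 2 ^ n := Nat.pow_le_pow_right (by norm_num) hn3
        have := Nat.le_of_dvd (by norm_num) hd
        omega
      obtain ⟨i, hi⟩ := Subgroup.mem_zpowers_iff.1 hwm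
      rw [Subgroup.mem_zpowers_iff]
      refine ⟨i, ?_⟩
      have := congrArg Subtype.val hi
      simpa [hwdef] using this
    intro i
    have : e * ((x : G) ^ i) * e⁻¹ = (e * (x : G) * e⁻¹) ^ i := by
      rw [conj_zpow]
    rw [this]
    exact Subgroup.zpow_mem _ hw i
  have hXQ : Subgroup.zpowers (x : G) ≤ Q := by
    rw [Subgroup.zpowers_le]; exact hxQ
  have hXab : ∀ a ∈ Subgroup.zpowers (x : G), ∀ b ∈ Subgroup.zpowers (x : G), a * b = b * a := by
    intro a ha b hb
    obtain ⟨i, rfl⟩ := Subgroup.mem_zpowers_iff.1 ha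
    obtain ⟨j, rfl⟩ := Subgroup.mem_zpowers_iff.1 hb
    rw [← zpow_add, ← zpow_add, add_comm]
  have hX2 : ∀ t ∈ Subgroup.zpowers (x : G), ∃ m : ℕ, t ^ (2 ^ m) = 1 := by
    intro t ht
    obtain ⟨m, hm⟩ := hQ2 ⟨t, hXQ ht⟩
    exact ⟨m, by simpa using congrArg Subtype.val hm⟩
  have hcX : ∀ t ∈ Subgroup.zpowers (x : G), e * t * e⁻¹ = t := by
    have key := Cfsg.Agent.S3178.odd_aut_trivial (Subgroup.zpowers (x : G)) hXab hX2 (MulAut.conj e)
      (fun t ht => by
        obtain ⟨i, rfl⟩ := Subgroup.mem_zpowers_iff.1 ht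
        rw [MulAut.conj_apply]; exact hconjx i) k hk
      (fun t _ => by rw [← map_pow, hek, map_one]; rfl)
      (fun t ht htt => by
        rw [MulAut.conj_apply]; exact conj_invol_eq hQ he (hXQ ht) htt)
    intro t ht
    have := key t ht
    rwa [MulAut.conj_apply] at this
  -- the element `y`
  have hyQ : (y : G) ∈ Q := y.2
  have hmemX : ∀ u : ↥Q, u ∈ Subgroup.zpowers x ↔ (u : G) ∈ Subgroup.zpowers (x : G) := by
    intro u
    constructor
    · intro hu
      obtain ⟨i, hi⟩ := Subgroup.mem_zpowers_iff.1 hu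
      rw [Subgroup.mem_zpowers_iff]
      exact ⟨i, by simpa using congrArg Subtype.val hi⟩
    · intro hu
      obtain ⟨i, hi⟩ := Subgroup.mem_zpowers_iff.1 hu
      rw [Subgroup.mem_zpowers_iff]
      exact ⟨i, Subtype.ext (by simpa using hi)⟩
  have hyc : e * (y : G) * e⁻¹ = y := by
    set v : ↥Q := ⟨e * (y : G) * e⁻¹, conj_mem_of_mem_normalizer he hyQ⟩ with hvdef
    have hvX : v ∉ Subgroup.zpowers x := by
      intro hv
      have hv' := (hmemX v).1 hv
      have h1 := hcX _ hv'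
      have h2 : (y : G) = e * (y : G) * e⁻¹ := by
        have h3 : e * (e * (y : G) * e⁻¹) * e⁻¹ = e * (y : G) * e⁻¹ := h1
        have h4 : e * (y : G) * e⁻¹ = (y : G) := by
          calc e * (y : G) * e⁻¹ = e⁻¹ * (e * (e * (y : G) * e⁻¹) * e⁻¹) * e := by group
            _ = e⁻¹ * (e * (y : G) * e⁻¹) * e := by rw [h3]
            _ = (y : G) := by group
        exact h4.symm
      apply hgq.hy
      rw [hmemX, h2]
      exact hv'
    have hc : y⁻¹ * v ∈ Subgroup.zpowers x := by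
      rcases hgq.idx v with h1 | h1
      · exact absurd h1 hvX
      · exact h1
    have hc' : (y : G)⁻¹ * (e * (y : G) * e⁻¹) ∈ Subgroup.zpowers (x : G) := by
      have := (hmemX _).1 hc
      simpa [hvdef] using this
    set c : G := (y : G)⁻¹ * (e * (y : G) * e⁻¹) with hcdef
    have hey : e * (y : G) * e⁻¹ = (y : G) * c := by rw [hcdef]; group
    have hec : e * c = c * e := by
      have := hcX c hc'
      calc e * c = (e * c * e⁻¹) * e := by group
        _ = c * e := by rw [this]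
    have hpow := conj_pow_right hey hec k
    rw [hek] at hpow
    have hck : c ^ k = 1 := by
      have : (y : G) = (y : G) * c ^ k := by
        calc (y : G) = 1 * (y : G) * (1 : G)⁻¹ := by group
          _ = (y : G) * c ^ k := hpow
      have h5 : (y : G) * 1 = (y : G) * c ^ k := by rw [mul_one]; exact this
      exact (mul_left_cancel h5).symm
    obtain ⟨m, hm⟩ := hX2 c hc'
    have hc1 : c = 1 := eq_one_of_pow_odd_of_pow_two hk hck hm
    rw [hey, hc1, mul_one]
  intro t ht
  rcases hgq.idx ⟨t, ht⟩ with h1 | h1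
  · exact hcX t ((hmemX _).1 h1)
  · have h2 := (hmemX _).1 h1
    have h3 : ((y⁻¹ * ⟨t, ht⟩ : ↥Q) : G) = (y : G)⁻¹ * t := by simp
    rw [h3] at h2
    have h4 := hcX _ h2
    calc e * t * e⁻¹ = (e * (y : G) * e⁻¹) * (e * ((y : G)⁻¹ * t) * e⁻¹) := by group
      _ = (y : G) * ((y : G)⁻¹ * t) := by rw [hyc, h4]
      _ = t := by group

end Cfsg.Agent.helper15.OneInv
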