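import Mathlib
import Cfsg.Agent.Lib_helper15_OneInv1

set_option autoImplicit false

namespace Cfsg.Agent.helper15.OneInv

open Cfsg.Agent.H16UniqueInvol

variable {G : Type*} [Group G]

theorem mem_centralizer_singleton_iff' {e q : G} :
    q ∈ Subgroup.centralizer ({e} : Set G) ↔ e * q * e⁻¹ = q := by
  rw [Subgroup.mem_centralizer_iff]
  constructor
  · intro h
    have := h e (Set.mem_singleton e)
    calc e * q * e⁻¹ = q * e * e⁻¹ := by rw [this]
      _ = q := by group
  · intro h x hx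
    rw [Set.mem_singleton_iff] at hx
    subst hx
    calc x * q = (x * q * x⁻¹) * x := by group
      _ = q * x := by rw [h]

/-- The conjugation map of `e` on a subgroup it normalizes, as an endofunction. -/
def conjEnd (R : Subgroup G) (e : G) (he : e ∈ Subgroup.normalizer (R : Set G)) :
    Function.End ↥R :=
  fun q => ⟨e * q * e⁻¹, conj_mem_of_mem_normalizer he q.2⟩

theorem conjEnd_pow (R : Subgroup G) (e : G) (he : e ∈ Subgroup.normalizer (R : Set G)) (m : ℕ)
    (q : ↥R) : (((conjEnd R e he) ^ m) q : G) = e ^ m * q * (e ^ m)⁻¹ := by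
  induction m generalizing q with
  | zero =>
    rw [pow_zero, pow_zero]
    show (q : G) = 1 * q * 1⁻¹
    group
  | succ m ih =>
    rw [pow_succ]
    show (((conjEnd R e he) ^ m) ((conjEnd R e he) q) : G) = _
    rw [ih]
    show e ^ m * (e * q * e⁻¹) * (e ^ m)⁻¹ = _
    rw [pow_succ]; group

/-- Fixed-point congruence for a `p`-element normalizing a finite subgroup. -/
theorem card_modEq_card_centralizer {p : ℕ} [hp : Fact p.Prime] (R : Subgroup G) [Finite R] (e : G)
    (he : e ∈ Subgroup.normalizer (R : Set G)) {j : ℕ} (hej : e ^ (p ^ j) = 1) :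
    Nat.card R ≡ Nat.card ↥(R ⊓ Subgroup.centralizer ({e} : Set G)) [MOD p] := by
  classical
  haveI : Fintype ↥R := Fintype.ofFinite _
  have hf : (conjEnd R e he) ^ (p ^ j) = 1 := by
    funext q
    apply Subtype.ext
    rw [conjEnd_pow, hej]
    show 1 * (q : G) * 1⁻¹ = (q : G)
    group
  have h := Equiv.Perm.card_fixedPoints_modEq (p := p) (n := j) hf
  rw [Fintype.card_eq_nat_card, Fintype.card_eq_nat_card] at h
  have hcongr : Nat.card ↑(Function.fixedPoints (conjEnd R e he)) =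
      Nat.card ↥(R ⊓ Subgroup.centralizer ({e} : Set G)) := by
    apply Nat.card_congr
    refine ⟨fun q => ⟨(q : ↥R), ⟨(q : ↥R).2, ?_⟩⟩, fun q => ⟨⟨q, q.2.1⟩, ?_⟩, ?_, ?_⟩
    · show ((q : ↥R) : G) ∈ Subgroup.centralizer ({e} : Set G)
      rw [mem_centralizer_singleton_iff']
      have := q.2
      have h2 : conjEnd R e he (q : ↥R) = (q : ↥R) := this
      exact congrArg Subtype.val h2
    · show conjEnd R e he ⟨q, q.2.1⟩ = ⟨q, q.2.1⟩
      apply Subtype.ext
      exact mem_centralizer_singleton_iff'.1 q.2.2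
    · intro q; rfl
    · intro q; rfl
  rw [hcongr] at h
  exact h

theorem isPGroup_of_card_eight {Q : Subgroup G} (hcard : Nat.card Q = 8) : IsPGroup 2 Q := by
  haveI : Fact (Nat.Prime 2) := ⟨Nat.prime_two⟩
  exact IsPGroup.of_card (n := 3) (by rw [hcard]; norm_num)

theorem finite_of_card_eight {Q : Subgroup G} (hcard : Nat.card Q = 8) : Finite Q :=
  Nat.finite_of_card_ne_zero (by rw [hcard]; norm_num)

/-- An order-`8` subgroup with at most one involution has an involution, fixed by every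
normalizing element. -/
theorem exists_invol_of_card {Q : Subgroup G} [Finite Q] {n : ℕ} (hn : n ≠ 0)
    (hcard : Nat.card Q = 2 ^ n) : ∃ z ∈ Q, z ≠ 1 ∧ z * z = 1 := by
  haveI : Fact (Nat.Prime 2) := ⟨Nat.prime_two⟩
  have h2 : 2 ∣ Nat.card ↥Q := by rw [hcard]; exact dvd_pow_self 2 hn
  obtain ⟨z, hz⟩ := exists_prime_orderOf_dvd_card' 2 h2
  refine ⟨z, z.2, ?_, ?_⟩
  · intro e
    have : z = 1 := Subtype.ext e
    rw [this, orderOf_one] at hz
    norm_num at hz
  · have : z ^ 2 = 1 := by rw [← hz]; exact pow_orderOf_eq_one z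
    have h3 := congrArg Subtype.val this
    simpa [pow_two] using h3

theorem card_dvd_eight_cases {c : ℕ} (h : c ∣ 8) : c = 1 ∨ c = 2 ∨ c = 4 ∨ c = 8 := by
  have hle : c ≤ 8 := Nat.le_of_dvd (by norm_num) h
  interval_cases c <;> simp_all

/-- Order-`8` facts: a `p`-element (`p` odd) acting nontrivially forces `p = 3` and exactly two
fixed points. -/
theorem eight_facts {p : ℕ} [hp : Fact p.Prime] (hp2 : p ≠ 2) {Q : Subgroup G}
    (hcard : Nat.card Q = 8) (hQ : OneI Q) {e : G}
    (he : e ∈ Subgroup.normalizer (Q : Set G)) {j : ℕ} (hej : e ^ (p ^ j) = 1)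
    (hne : ∃ t ∈ Q, e * t * e⁻¹ ≠ t) :
    p = 3 ∧ Nat.card ↥(Q ⊓ Subgroup.centralizer ({e} : Set G)) = 2 := by
  haveI := finite_of_card_eight hcard
  have hmod := card_modEq_card_centralizer (p := p) Q e he hej
  set c := Nat.card ↥(Q ⊓ Subgroup.centralizer ({e} : Set G)) with hc
  have hdvd : c ∣ 8 := by
    rw [← hcard]; exact Subgroup.card_dvd_of_le inf_le_left
  have hc8 : c ≠ 8 := by
    intro h8
    have heq : Q ⊓ Subgroup.centralizer ({e} : Set G) = Q :=
      Subgroup.eq_of_le_of_card_ge inf_le_left (by rw [hcard]; exact h8.ge)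
    obtain ⟨t, ht, hte⟩ := hne
    apply hte
    have : t ∈ Q ⊓ Subgroup.centralizer ({e} : Set G) := by rw [heq]; exact ht
    exact mem_centralizer_singleton_iff'.1 this.2
  have hc1 : c ≠ 1 := by
    intro h1
    obtain ⟨z, hzQ, hz1, hzz⟩ := exists_invol_of_card (n := 3) (by norm_num) (by rw [hcard]; norm_num)
    have hzc : z ∈ Q ⊓ Subgroup.centralizer ({e} : Set G) :=
      ⟨hzQ, mem_centralizer_singleton_iff'.2 (conj_invol_eq hQ he hzQ hzz)⟩
    have hbot : Q ⊓ Subgroup.centralizer ({e} : Set G) = ⊥ := Subgroup.card_eq_one.1 h1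
    rw [hbot, Subgroup.mem_bot] at hzc
    exact hz1 hzc
  rw [hcard] at hmod
  have hp1 := hp.out
  rcases card_dvd_eight_cases hdvd with h | h | h | h
  · exact absurd h hc1
  · rw [h] at hmod
    have hd : p ∣ 8 - 2 := (Nat.modEq_iff_dvd' (by norm_num)).1 hmod.symm
    have hp6 : p ∣ 2 * 3 := by simpa using hd
    rcases (Nat.Prime.dvd_mul hp1).1 hp6 with h2 | h3
    · exact absurd ((Nat.prime_dvd_prime_iff_eq hp1 Nat.prime_two).1 h2) hp2
    · exact ⟨(Nat.prime_dvd_prime_iff_eq hp1 Nat.prime_three).1 h3, h⟩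
  · rw [h] at hmod
    have hd : p ∣ 8 - 4 := (Nat.modEq_iff_dvd' (by norm_num)).1 hmod.symm
    have hp4 : p ∣ 2 * 2 := by simpa using hd
    rcases (Nat.Prime.dvd_mul hp1).1 hp4 with h2 | h2
    · exact absurd ((Nat.prime_dvd_prime_iff_eq hp1 Nat.prime_two).1 h2) hp2
    · exact absurd ((Nat.prime_dvd_prime_iff_eq hp1 Nat.prime_two).1 h2) hp2
  · exact absurd h hc8

end Cfsg.Agent.helper15.OneInv
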