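import Mathlib
import Cfsg.Agent.Lib_helper15_OneInv2

set_option autoImplicit false

namespace Cfsg.Agent.helper15.OneInv

open Cfsg.Agent.H16UniqueInvol

variable {G : Type*} [Group G]

/-- Conjugation as a plain function. -/
def conjFun (R : Subgroup G) (e : G) (he : e ∈ Subgroup.normalizer (R : Set G)) : ↥R → ↥R :=
  fun q => ⟨e * q * e⁻¹, conj_mem_of_mem_normalizer he q.2⟩

theorem conjEnd_iterate (R : Subgroup G) (e : G) (he : e ∈ Subgroup.normalizer (R : Set G)) (m : ℕ)
    (q : ↥R) : (((conjFun R e he)^[m]) q : G) = e ^ m * q * (e ^ m)⁻¹ := by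
  induction m generalizing q with
  | zero =>
    rw [pow_zero]
    show (q : G) = 1 * q * 1⁻¹
    group
  | succ m ih =>
    rw [Function.iterate_succ_apply, ih]
    show e ^ m * (e * q * e⁻¹) * (e ^ m)⁻¹ = _
    rw [pow_succ]; group

/-- A `3`-element normalizing a subgroup of order `8`: its cube centralizes the subgroup. -/
theorem cube_fixes {Q : Subgroup G} (hcard : Nat.card Q = 8) {e : G}
    (he : e ∈ Subgroup.normalizer (Q : Set G)) {j : ℕ} (hej : e ^ (3 ^ j) = 1) :
    ∀ t ∈ Q, e ^ 3 * t * (e ^ 3)⁻¹ = t := by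
  intro t ht
  haveI := finite_of_card_eight hcard
  haveI : Fintype ↥Q := Fintype.ofFinite _
  have hper : Function.IsPeriodicPt (conjFun Q e he) (3 ^ j) ⟨t, ht⟩ := by
    show (conjFun Q e he)^[3 ^ j] ⟨t, ht⟩ = ⟨t, ht⟩
    apply Subtype.ext
    rw [conjEnd_iterate, hej]
    show 1 * t * 1⁻¹ = t
    group
  have hdvd := hper.minimalPeriod_dvd
  have hle : Function.minimalPeriod (conjFun Q e he) ⟨t, ht⟩ ≤ 8 := by
    have := Function.minimalPeriod_le_card (f := conjFun Q e he) (x := ⟨t, ht⟩)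
    rwa [Fintype.card_eq_nat_card, hcard] at this
  obtain ⟨i, hi, hi2⟩ := (Nat.dvd_prime_pow Nat.prime_three).1 hdvd
  have hi1 : i ≤ 1 := by
    by_contra h
    push Not at h
    have : 3 ^ 2 ≤ 3 ^ i := Nat.pow_le_pow_right (by norm_num) h
    rw [hi2] at hle
    omega
  have h3 : Function.minimalPeriod (conjFun Q e he) ⟨t, ht⟩ ∣ 3 := by
    rw [hi2]
    calc 3 ^ i ∣ 3 ^ 1 := pow_dvd_pow 3 hi1
      _ = 3 := by norm_num
  have hper3 : Function.IsPeriodicPt (conjFun Q e he) 3 ⟨t, ht⟩ :=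
    Function.isPeriodicPt_iff_minimalPeriod_dvd.2 h3
  have h4 : (conjFun Q e he)^[3] ⟨t, ht⟩ = ⟨t, ht⟩ := hper3
  have h5 := congrArg Subtype.val h4
  rw [conjEnd_iterate] at h5
  exact h5

/-- Invariant subgroups of an order-`8` subgroup on which a `3`-element has exactly two fixed
points. -/
theorem invariant_le_or_eq {Q R : Subgroup G} (hcard : Nat.card Q = 8) (hQ : OneI Q) {e : G}
    {j : ℕ} (hej : e ^ (3 ^ j) = 1)
    (hfix : Nat.card ↥(Q ⊓ Subgroup.centralizer ({e} : Set G)) = 2)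
    (hRQ : R ≤ Q) (heR : e ∈ Subgroup.normalizer (R : Set G)) :
    R ≤ Q ⊓ Subgroup.centralizer ({e} : Set G) ∨ R = Q := by
  haveI := finite_of_card_eight hcard
  haveI : Fact (Nat.Prime 3) := ⟨Nat.prime_three⟩
  haveI : Finite ↥R := Finite.of_injective (Subgroup.inclusion hRQ) (Subgroup.inclusion_injective hRQ)
  have hmod := card_modEq_card_centralizer (p := 3) R e heR hej
  have hle2 : R ⊓ Subgroup.centralizer ({e} : Set G) ≤ Q ⊓ Subgroup.centralizer ({e} : Set G) :=
    inf_le_inf_right _ hRQ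
  have hd2 : Nat.card ↥(R ⊓ Subgroup.centralizer ({e} : Set G)) ∣ 2 := by
    rw [← hfix]; exact Subgroup.card_dvd_of_le hle2
  have hd8 : Nat.card ↥R ∣ 8 := by
    rw [← hcard]; exact Subgroup.card_dvd_of_le hRQ
  have heq_case : Nat.card ↥(R ⊓ Subgroup.centralizer ({e} : Set G)) = Nat.card ↥R →
      R ≤ Q ⊓ Subgroup.centralizer ({e} : Set G) := by
    intro h
    have : R ⊓ Subgroup.centralizer ({e} : Set G) = R :=
      Subgroup.eq_of_le_of_card_ge inf_le_left h.ge
    rw [← this]; exact hle2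
  have hc2 : Nat.card ↥(R ⊓ Subgroup.centralizer ({e} : Set G)) = 1 ∨
      Nat.card ↥(R ⊓ Subgroup.centralizer ({e} : Set G)) = 2 :=
    (Nat.dvd_prime Nat.prime_two).1 hd2
  rcases card_dvd_eight_cases hd8 with h | h | h | h
  · left
    have : R = ⊥ := Subgroup.card_eq_one.1 h
    rw [this]; exact bot_le
  · rcases hc2 with h1 | h1
    · rw [h, h1] at hmod
      exact absurd hmod (by decide)
    · left; exact heq_case (by rw [h, h1])
  · exfalso
    rcases hc2 with h1 | h1
    · obtain ⟨z, hzR, hz1, hzz⟩ := exists_invol_of_card (Q := R) (n := 2) (by norm_num)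
        (by rw [h]; norm_num)
      have hzc : z ∈ R ⊓ Subgroup.centralizer ({e} : Set G) :=
        ⟨hzR, mem_centralizer_singleton_iff'.2 (conj_invol_eq (hQ.mono hRQ) heR hzR hzz)⟩
      have hbot : R ⊓ Subgroup.centralizer ({e} : Set G) = ⊥ := Subgroup.card_eq_one.1 h1
      rw [hbot, Subgroup.mem_bot] at hzc
      exact hz1 hzc
    · rw [h, h1] at hmod
      exact absurd hmod (by decide)
  · right
    exact Subgroup.eq_of_le_of_card_ge hRQ (by rw [hcard, h])

/-- A subgroup normalizes `H` as soon as its elements conjugate `H` into itself. -/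
theorem le_normalizer_of_conj_mem {A H : Subgroup G}
    (h : ∀ e ∈ A, ∀ t ∈ H, e * t * e⁻¹ ∈ H) : A ≤ Subgroup.normalizer (H : Set G) := by
  intro e he
  rw [Subgroup.mem_normalizer_iff]
  intro t
  constructor
  · exact h e he t
  · intro ht
    have := h e⁻¹ (A.inv_mem he) _ ht
    have h2 : e⁻¹ * (e * t * e⁻¹) * e⁻¹⁻¹ = t := by group
    rwa [h2] at this

theorem conj_mem_centralizer {M : Subgroup G} {e : G}
    (he : e ∈ Subgroup.normalizer (M : Set G)) {c : G}
    (hc : c ∈ Subgroup.centralizer (M : Set G)) :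
    e * c * e⁻¹ ∈ Subgroup.centralizer (M : Set G) := by
  rw [Subgroup.mem_centralizer_iff] at hc ⊢
  intro m hm
  have hm' : e⁻¹ * m * e ∈ M := by
    have := (Subgroup.mem_normalizer_iff.1 he (e⁻¹ * m * e)).2
    apply this
    have h2 : e * (e⁻¹ * m * e) * e⁻¹ = m := by group
    rw [h2]; exact hm
  have h3 := hc _ hm'
  calc m * (e * c * e⁻¹) = e * ((e⁻¹ * m * e) * c) * e⁻¹ := by group
    _ = e * (c * (e⁻¹ * m * e)) * e⁻¹ := by rw [h3]
    _ = e * c * e⁻¹ * m := by group

end Cfsg.Agent.helper15.OneInv
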