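import Mathlib
import Cfsg.Agent.Lib_helper15_OneInv3
import Cfsg.Agent.Lib_helper15_Gen5

set_option autoImplicit false

namespace Cfsg.Agent.helper15.OneInv

universe u

variable {G : Type u} [Group G]

/-- Fixed points of `a` in `N`. -/
abbrev Qc (N : Subgroup G) (a : G) : Subgroup G := N ⊓ Subgroup.centralizer ({a} : Set G)

/-- Fixed points of `A` in `N`. -/
abbrev CA (N A : Subgroup G) : Subgroup G := N ⊓ Subgroup.centralizer (A : Set G)

/-- The standing hypotheses, inside an ambient group. -/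
structure Hyp (N A : Subgroup G) (p : ℕ) : Prop where
  hp : p.Prime
  hp2 : p ≠ 2
  hN : IsPGroup 2 N
  hA : IsPGroup p A
  comm : ∀ a ∈ A, ∀ b ∈ A, a * b = b * a
  nc : ¬ IsCyclic A
  norm : A ≤ Subgroup.normalizer (N : Set G)
  faith : ∀ a ∈ A, (∀ t ∈ N, a * t * a⁻¹ = t) → a = 1
  one : ∀ a ∈ A, a ≠ 1 → OneI (Qc N a)

/-- `a` has a quaternion-like fixed-point group of order `8` on which `A` acts nontrivially. -/
def T8 (N A : Subgroup G) (a : G) : Prop :=
  a ∈ A ∧ a ≠ 1 ∧ Nat.card ↥(Qc N a) = 8 ∧ ∃ e ∈ A, ∃ t ∈ Qc N a, e * t * e⁻¹ ≠ t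

variable {N A : Subgroup G} {p : ℕ}

theorem mem_normalizer_inf {H K : Subgroup G} {e : G}
    (hH : e ∈ Subgroup.normalizer (H : Set G)) (hK : e ∈ Subgroup.normalizer (K : Set G)) :
    e ∈ Subgroup.normalizer ((H ⊓ K : Subgroup G) : Set G) := by
  rw [Subgroup.mem_normalizer_iff] at hH hK ⊢
  intro t
  exact ⟨fun ⟨a, b⟩ => ⟨(hH t).1 a, (hK t).1 b⟩, fun ⟨a, b⟩ => ⟨(hH t).2 a, (hK t).2 b⟩⟩

theorem Hyp.norm_Qc (h : Hyp N A p) {a : G} (ha : a ∈ A) :
    A ≤ Subgroup.normalizer ((Qc N a : Subgroup G) : Set G) := by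
  apply le_normalizer_of_conj_mem
  intro e he t ht
  refine ⟨conj_mem_of_mem_normalizer (h.norm he) ht.1, ?_⟩
  refine mem_centralizer_singleton_iff'.2 ?_
  have h1 := mem_centralizer_singleton_iff'.1 ht.2
  have hc := h.comm a ha e he
  have e1 : a * (e * t * e⁻¹) * a⁻¹ = (a * e) * t * (a * e)⁻¹ := by group
  have e2 : (e * a) * t * (e * a)⁻¹ = e * (a * t * a⁻¹) * e⁻¹ := by group
  rw [e1, hc, e2, h1]

theorem Hyp.exp (h : Hyp N A p) {e : G} (he : e ∈ A) : ∃ j : ℕ, e ^ (p ^ j) = 1 := by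
  obtain ⟨j, hj⟩ := h.hA ⟨e, he⟩
  exact ⟨j, by simpa using congrArg Subtype.val hj⟩

theorem Hyp.odd_pow (h : Hyp N A p) (j : ℕ) : Odd (p ^ j) :=
  (h.hp.odd_of_ne_two h.hp2).pow

theorem Hyp.dichotomy [Finite G] (h : Hyp N A p) {a : G} (ha : a ∈ A) (ha1 : a ≠ 1) :
    Qc N a ≤ CA N A ∨ T8 N A a := by
  by_cases hex : ∃ e ∈ A, ∃ t ∈ Qc N a, e * t * e⁻¹ ≠ t
  · right
    obtain ⟨e, he, t, ht, hne⟩ := hex
    obtain ⟨j, hj⟩ := h.exp he
    have h2 : IsPGroup 2 ↥(Qc N a) := h.hN.to_le inf_le_left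
    rcases conj_eq_or_card_eight h2 (h.one a ha ha1) (h.norm_Qc ha he) (h.odd_pow j) hj with
      h3 | h3
    · exact absurd (h3 t ht) hne
    · exact ⟨ha, ha1, h3, e, he, t, ht, hne⟩
  · left
    push Not at hex
    intro t ht
    refine ⟨ht.1, ?_⟩
    refine Subgroup.mem_centralizer_iff.2 ?_
    intro e he
    have := hex e he t ht
    calc e * t = (e * t * e⁻¹) * e := by group
      _ = t * e := by rw [this]

theorem Hyp.gen [Finite G] (h : Hyp N A p) {M : Subgroup G}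
    (hAM : A ≤ Subgroup.normalizer (M : Set G)) (hMN : M ≤ N) :
    (⨆ a ∈ {a : G | a ∈ A ∧ a ≠ 1}, M ⊓ Subgroup.centralizer ({a} : Set G)) = M := by
  haveI : IsMulCommutative ↥A := ⟨⟨fun a b => Subtype.ext (h.comm a a.2 b b.2)⟩⟩
  haveI : Fact p.Prime := ⟨h.hp⟩
  haveI : Fact (Nat.Prime 2) := ⟨Nat.prime_two⟩
  apply iSup_centralizer_eq_of_not_isCyclic A M h.nc hAM
  obtain ⟨n, hn⟩ := IsPGroup.iff_card.1 h.hA
  obtain ⟨m, hm⟩ := IsPGroup.iff_card.1 (h.hN.to_le hMN)
  rw [hn, hm]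
  apply Nat.Coprime.pow
  exact (Nat.coprime_primes h.hp Nat.prime_two).2 h.hp2

theorem Hyp.exists_T8 [Finite G] (h : Hyp N A p) : ∃ a, T8 N A a := by
  by_contra hcon
  push Not at hcon
  have hle : N ≤ CA N A := by
    conv_lhs => rw [← h.gen h.norm le_rfl]
    apply iSup₂_le
    intro a ha
    rcases h.dichotomy ha.1 ha.2 with h1 | h1
    · exact h1
    · exact absurd h1 (hcon a)
  apply h.nc
  have hbot : ∀ a ∈ A, a = 1 := by
    intro a ha
    apply h.faith a ha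
    intro t ht
    have := (Subgroup.mem_centralizer_iff.1 (hle ht).2) a ha
    calc a * t * a⁻¹ = t * a * a⁻¹ := by rw [this]
      _ = t := by group
  haveI : Subsingleton ↥A := ⟨fun a b => Subtype.ext (by rw [hbot a a.2, hbot b b.2])⟩
  exact isCyclic_of_subsingleton

theorem Hyp.p_eq_three [Finite G] (h : Hyp N A p) : p = 3 := by
  obtain ⟨a, ha, ha1, hc, e, he, t, ht, hne⟩ := h.exists_T8
  obtain ⟨j, hj⟩ := h.exp he
  haveI : Fact p.Prime := ⟨h.hp⟩
  exact (eight_facts h.hp2 hc (h.one a ha ha1) (h.norm_Qc ha he) hj ⟨t, ht, hne⟩).1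

theorem Hyp.T8_fix [Finite G] (h : Hyp N A 3) {b : G} (hb : T8 N A b) {e : G} (he : e ∈ A) :
    (∀ t ∈ Qc N b, e * t * e⁻¹ = t) ∨
      Nat.card ↥(Qc N b ⊓ Subgroup.centralizer ({e} : Set G)) = 2 := by
  by_cases hall : ∀ t ∈ Qc N b, e * t * e⁻¹ = t
  · exact Or.inl hall
  · push Not at hall
    obtain ⟨t, ht, hne⟩ := hall
    obtain ⟨j, hj⟩ := h.exp he
    haveI : Fact (Nat.Prime 3) := ⟨Nat.prime_three⟩
    exact Or.inr (eight_facts (p := 3) (by norm_num) hb.2.2.1 (h.one b hb.1 hb.2.1)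
      (h.norm_Qc hb.1 he) hj ⟨t, ht, hne⟩).2

theorem Hyp.cube_eq_one [Finite G] (h : Hyp N A 3) {e : G} (he : e ∈ A) : e ^ 3 = 1 := by
  apply h.faith _ (A.pow_mem he 3)
  have hle : N ≤ Subgroup.centralizer ({e ^ 3} : Set G) := by
    conv_lhs => rw [← h.gen h.norm le_rfl]
    apply iSup₂_le
    intro b hb t ht
    refine mem_centralizer_singleton_iff'.2 ?_
    rcases h.dichotomy hb.1 hb.2 with h1 | h1
    · have htc := (h1 ht).2
      replace htc := Subgroup.mem_centralizer_iff.1 htc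
      have := htc (e ^ 3) (A.pow_mem he 3)
      calc e ^ 3 * t * (e ^ 3)⁻¹ = t * e ^ 3 * (e ^ 3)⁻¹ := by rw [this]
        _ = t := by group
    · obtain ⟨j, hj⟩ := h.exp he
      exact cube_fixes h1.2.2.1 (h.norm_Qc h1.1 he) hj t ht
  intro t ht
  exact mem_centralizer_singleton_iff'.1 (hle ht)

theorem Hyp.inf_eq_CA [Finite G] (h : Hyp N A 3) {b : G} (hb : T8 N A b) {e : G} (he : e ∈ A)
    (hne : ∃ t ∈ Qc N b, e * t * e⁻¹ ≠ t) :
    Qc N b ⊓ Subgroup.centralizer ({e} : Set G) = CA N A ∧ Nat.card ↥(CA N A) = 2 := by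
  have hc2 : Nat.card ↥(Qc N b ⊓ Subgroup.centralizer ({e} : Set G)) = 2 := by
    rcases h.T8_fix hb he with h1 | h1
    · obtain ⟨t, ht, hn⟩ := hne; exact absurd (h1 t ht) hn
    · exact h1
  have hle : CA N A ≤ Qc N b ⊓ Subgroup.centralizer ({e} : Set G) := by
    intro t ht
    refine ⟨⟨ht.1, ?_⟩, ?_⟩
    · exact Subgroup.centralizer_le (Set.singleton_subset_iff.2 hb.1) ht.2
    · exact Subgroup.centralizer_le (Set.singleton_subset_iff.2 he) ht.2
  haveI := finite_of_card_eight hb.2.2.1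
  obtain ⟨z, hzQ, hz1, hzz⟩ := exists_invol_of_card (Q := Qc N b) (n := 3) (by norm_num)
    (by rw [hb.2.2.1]; norm_num)
  have hzC : z ∈ CA N A := by
    refine ⟨hzQ.1, ?_⟩
    refine Subgroup.mem_centralizer_iff.2 ?_
    intro a ha
    have := conj_invol_eq (h.one b hb.1 hb.2.1) (h.norm_Qc hb.1 ha) hzQ hzz
    calc a * z = (a * z * a⁻¹) * a := by group
      _ = z * a := by rw [this]
  have hcard : Nat.card ↥(CA N A) = 2 := by
    have hd : Nat.card ↥(CA N A) ∣ 2 := by rw [← hc2]; exact Subgroup.card_dvd_of_le hle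
    rcases (Nat.dvd_prime Nat.prime_two).1 hd with h1 | h1
    · have hbot : CA N A = ⊥ := Subgroup.card_eq_one.1 h1
      rw [hbot, Subgroup.mem_bot] at hzC
      exact absurd hzC hz1
    · exact h1
  exact ⟨(Subgroup.eq_of_le_of_card_ge hle (by rw [hc2, hcard])).symm, hcard⟩

theorem Hyp.card_CA [Finite G] (h : Hyp N A 3) : Nat.card ↥(CA N A) = 2 := by
  obtain ⟨b, hb⟩ := h.exists_T8
  obtain ⟨e, he, t, ht, hne⟩ := hb.2.2.2
  exact (h.inf_eq_CA hb he ⟨t, ht, hne⟩).2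

theorem Hyp.CA_sq [Finite G] (h : Hyp N A 3) {c : G} (hc : c ∈ CA N A) : c * c = 1 := by
  have h1 := orderOf_dvd_natCard (⟨c, hc⟩ : ↥(CA N A))
  rw [h.card_CA] at h1
  have h2 : (⟨c, hc⟩ : ↥(CA N A)) ^ 2 = 1 := orderOf_dvd_iff_pow_eq_one.1 h1
  have h3 := congrArg Subtype.val h2
  simpa [pow_two] using h3

theorem Hyp.CA_le_Qc (h : Hyp N A p) {b : G} (hb : b ∈ A) : CA N A ≤ Qc N b :=
  fun _ ht => ⟨ht.1, Subgroup.centralizer_le (Set.singleton_subset_iff.2 hb) ht.2⟩

theorem Hyp.CA_central [Finite G] (h : Hyp N A 3) :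
    CA N A ≤ Subgroup.centralizer (N : Set G) := by
  intro c hc
  have hcc := h.CA_sq hc
  have hle : N ≤ Subgroup.centralizer ({c} : Set G) := by
    conv_lhs => rw [← h.gen h.norm le_rfl]
    apply iSup₂_le
    intro b hb t ht
    have hcQ : c ∈ Qc N b := h.CA_le_Qc hb.1 hc
    have htn : t ∈ Subgroup.normalizer ((Qc N b : Subgroup G) : Set G) :=
      Subgroup.le_normalizer ht
    have := conj_invol_eq (h.one b hb.1 hb.2) htn hcQ hcc
    refine Subgroup.mem_centralizer_iff.2 ?_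
    intro x hx
    rw [Set.mem_singleton_iff] at hx
    subst hx
    calc x * t = (t * x * t⁻¹) * t := by rw [this]
      _ = t * x := by group
  refine Subgroup.mem_centralizer_iff.2 ?_
  intro t ht
  have := hle ht
  replace this := Subgroup.mem_centralizer_iff.1 this
  exact (this c rfl).symm

theorem Hyp.inv_sub [Finite G] (h : Hyp N A 3) {M : Subgroup G}
    (hAM : A ≤ Subgroup.normalizer (M : Set G)) {b : G} (hb : b ∈ A) (hb1 : b ≠ 1) :
    M ⊓ Qc N b ≤ CA N A ∨ (T8 N A b ∧ Qc N b ≤ M) := by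
  rcases h.dichotomy hb hb1 with h1 | h1
  · left; exact inf_le_right.trans h1
  · obtain ⟨e, he, t, ht, hne⟩ := h1.2.2.2
    obtain ⟨j, hj⟩ := h.exp he
    have hfix := h.inf_eq_CA h1 he ⟨t, ht, hne⟩
    have hc2 : Nat.card ↥(Qc N b ⊓ Subgroup.centralizer ({e} : Set G)) = 2 := by
      rw [hfix.1]; exact hfix.2
    have heR : e ∈ Subgroup.normalizer ((M ⊓ Qc N b : Subgroup G) : Set G) :=
      mem_normalizer_inf (hAM he) (h.norm_Qc hb he)
    rcases invariant_le_or_eq h1.2.2.1 (h.one b hb hb1) hj hc2 inf_le_right heR with h2 | h2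
    · left; rw [hfix.1] at h2; exact h2
    · right; exact ⟨h1, by rw [← h2]; exact inf_le_left⟩

theorem Hyp.GEN [Finite G] (h : Hyp N A 3) {M : Subgroup G}
    (hAM : A ≤ Subgroup.normalizer (M : Set G)) (hMN : M ≤ N) (hM : ¬ M ≤ CA N A) :
    ∃ b, T8 N A b ∧ Qc N b ≤ M := by
  by_contra hcon
  push Not at hcon
  apply hM
  conv_lhs => rw [← h.gen hAM hMN]
  apply iSup₂_le
  intro b hb
  have hle : M ⊓ Subgroup.centralizer ({b} : Set G) ≤ M ⊓ Qc N b :=
    fun t ht => ⟨ht.1, hMN ht.1, ht.2⟩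
  rcases h.inv_sub hAM hb.1 hb.2 with h1 | h1
  · exact hle.trans h1
  · exact absurd h1.2 (hcon b h1.1)

theorem Hyp.T8_nonab [Finite G] (h : Hyp N A 3) {b : G} (hb : T8 N A b) :
    ∃ x ∈ Qc N b, ∃ y ∈ Qc N b, x * y ≠ y * x := by
  by_contra hcon
  push Not at hcon
  obtain ⟨e, he, t, ht, hne⟩ := hb.2.2.2
  obtain ⟨j, hj⟩ := h.exp he
  exact hne (conj_eq_of_abelian (h.hN.to_le inf_le_left) (h.one b hb.1 hb.2.1) hcon
    (h.norm_Qc hb.1 he) (h.odd_pow j) hj t ht)

theorem Hyp.center_le [Finite G] (h : Hyp N A 3) {M : Subgroup G}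
    (hAM : A ≤ Subgroup.normalizer (M : Set G)) (hMN : M ≤ N) :
    M ⊓ Subgroup.centralizer (M : Set G) ≤ CA N A := by
  by_contra hcon
  have hAZ : A ≤ Subgroup.normalizer ((M ⊓ Subgroup.centralizer (M : Set G) : Subgroup G) : Set G) := by
    apply le_normalizer_of_conj_mem
    intro e he t ht
    exact ⟨conj_mem_of_mem_normalizer (hAM he) ht.1, conj_mem_centralizer (hAM he) ht.2⟩
  obtain ⟨b, hb, hle⟩ := h.GEN hAZ (inf_le_left.trans hMN) hcon
  obtain ⟨x, hx, y, hy, hxy⟩ := h.T8_nonab hb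
  apply hxy
  have := (hle hy).2
  replace this := Subgroup.mem_centralizer_iff.1 this
  exact this x (hle hx).1

theorem card_le_of_fibres {α β : Type*} [Finite α] [Finite β] (f : α → β) (n : ℕ)
    (h : ∀ b, Nat.card {a // f a = b} ≤ n) : Nat.card α ≤ n * Nat.card β := by
  classical
  haveI : Fintype β := Fintype.ofFinite β
  rw [← Nat.card_congr (Equiv.sigmaFiberEquiv f), Nat.card_sigma]
  calc ∑ b, Nat.card {a // f a = b} ≤ ∑ _b : β, n := Finset.sum_le_sum (fun b _ => h b)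
    _ = n * Nat.card β := by
      rw [Finset.sum_const, Finset.card_univ, smul_eq_mul, Nat.card_eq_fintype_card, mul_comm]

theorem Hyp.card_A [Finite G] (h : Hyp N A 3) : Nat.card ↥A = 9 := by
  haveI : Fact (Nat.Prime 3) := ⟨Nat.prime_three⟩
  haveI : Fact (Nat.Prime 2) := ⟨Nat.prime_two⟩
  obtain ⟨a₀, ha₀⟩ := h.exists_T8
  obtain ⟨e₀, he₀, u, hu, hne⟩ := ha₀.2.2.2
  have hK1 : ∀ k ∈ A ⊓ Subgroup.centralizer ((Qc N a₀ : Subgroup G) : Set G), k ≠ 1 →
      Qc N k = Qc N a₀ := by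
    intro k hk hk1
    have hQle : Qc N a₀ ≤ Qc N k := by
      intro t ht
      refine ⟨ht.1, ?_⟩
      refine Subgroup.mem_centralizer_iff.2 ?_
      intro x hx
      rw [Set.mem_singleton_iff] at hx
      subst hx
      exact ((Subgroup.mem_centralizer_iff.1 hk.2) t ht).symm
    rcases h.dichotomy hk.1 hk1 with h1 | h1
    · exfalso
      have huc := (h1 (hQle hu)).2
      have := (Subgroup.mem_centralizer_iff.1 huc) e₀ he₀
      apply hne
      calc e₀ * u * e₀⁻¹ = u * e₀ * e₀⁻¹ := by rw [this]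
        _ = u := by group
    · exact (Subgroup.eq_of_le_of_card_ge hQle (by rw [h1.2.2.1, ha₀.2.2.1])).symm
  have hKc : IsCyclic ↥(A ⊓ Subgroup.centralizer ((Qc N a₀ : Subgroup G) : Set G)) := by
    by_contra hnc
    haveI : IsMulCommutative ↥(A ⊓ Subgroup.centralizer ((Qc N a₀ : Subgroup G) : Set G)) :=
      ⟨⟨fun a b => Subtype.ext (h.comm a a.2.1 b b.2.1)⟩⟩
    have hKN : A ⊓ Subgroup.centralizer ((Qc N a₀ : Subgroup G) : Set G) ≤
        Subgroup.normalizer (N : Set G) := inf_le_left.trans h.norm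
    have hcop : (Nat.card ↥(A ⊓ Subgroup.centralizer ((Qc N a₀ : Subgroup G) : Set G))).Coprime
        (Nat.card ↥N) := by
      obtain ⟨n, hn⟩ := IsPGroup.iff_card.1 (h.hA.to_le
        (inf_le_left : A ⊓ Subgroup.centralizer ((Qc N a₀ : Subgroup G) : Set G) ≤ A))
      obtain ⟨m, hm⟩ := IsPGroup.iff_card.1 h.hN
      rw [hn, hm]
      exact Nat.Coprime.pow _ _ (by norm_num)
    have hg := iSup_centralizer_eq_of_not_isCyclic _ N hnc hKN hcop
    have hNQ : N ≤ Qc N a₀ := by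
      conv_lhs => rw [← hg]
      apply iSup₂_le
      intro k hk
      exact (hK1 k hk.1 hk.2).le
    apply ha₀.2.1
    apply h.faith a₀ ha₀.1
    intro t ht
    exact mem_centralizer_singleton_iff'.1 (hNQ ht).2
  have hK3 : Nat.card ↥(A ⊓ Subgroup.centralizer ((Qc N a₀ : Subgroup G) : Set G)) ≤ 3 := by
    obtain ⟨g, hg⟩ := hKc.exists_generator
    have h3 : g ^ 3 = 1 := Subtype.ext (by simpa using h.cube_eq_one g.2.1)
    have := orderOf_dvd_of_pow_eq_one h3
    rw [← orderOf_eq_card_of_forall_mem_zpowers hg]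
    exact Nat.le_of_dvd (by norm_num) this
  have hstab : ∀ e ∈ A, e * u * e⁻¹ = u →
      e ∈ A ⊓ Subgroup.centralizer ((Qc N a₀ : Subgroup G) : Set G) := by
    intro e he heu
    refine ⟨he, ?_⟩
    rcases h.T8_fix ha₀ he with h1 | h1
    · refine Subgroup.mem_centralizer_iff.2 ?_
      intro t ht
      have := h1 t ht
      calc t * e = (e * t * e⁻¹) * e := by rw [this]
        _ = e * t := by group
    · exfalso
      have hle : CA N A ≤ Qc N a₀ ⊓ Subgroup.centralizer ({e} : Set G) := by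
        intro t ht
        exact ⟨h.CA_le_Qc ha₀.1 ht,
          Subgroup.centralizer_le (Set.singleton_subset_iff.2 he) ht.2⟩
      have heq : CA N A = Qc N a₀ ⊓ Subgroup.centralizer ({e} : Set G) :=
        Subgroup.eq_of_le_of_card_ge hle (by rw [h1, h.card_CA])
      have hu2 : u ∈ CA N A := by
        rw [heq]; exact ⟨hu, mem_centralizer_singleton_iff'.2 heu⟩
      have := (Subgroup.mem_centralizer_iff.1 hu2.2) e₀ he₀
      apply hne
      calc e₀ * u * e₀⁻¹ = u * e₀ * e₀⁻¹ := by rw [this]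
        _ = u := by group
  have hcount : Nat.card ↥A ≤ 3 * 8 := by
    let φ : ↥A → ↥(Qc N a₀) := fun e =>
      ⟨e * u * (e : G)⁻¹, conj_mem_of_mem_normalizer (h.norm_Qc ha₀.1 e.2) hu⟩
    have hfib : ∀ q : ↥(Qc N a₀), Nat.card {e // φ e = q} ≤ 3 := by
      intro q
      by_cases hemp : IsEmpty {e // φ e = q}
      · rw [Nat.card_of_isEmpty]; norm_num
      · rw [not_isEmpty_iff] at hemp
        obtain ⟨⟨e', he'⟩⟩ := hemp
        have hfixed : ∀ e : {e // φ e = q},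
            ((e' : G)⁻¹ * (e.1 : G)) * u * ((e' : G)⁻¹ * (e.1 : G))⁻¹ = u := by
          intro e
          have h1 : (e.1 : G) * u * (e.1 : G)⁻¹ = (e' : G) * u * (e' : G)⁻¹ := by
            have := e.2.trans he'.symm
            exact congrArg Subtype.val this
          calc ((e' : G)⁻¹ * (e.1 : G)) * u * ((e' : G)⁻¹ * (e.1 : G))⁻¹
              = (e' : G)⁻¹ * ((e.1 : G) * u * (e.1 : G)⁻¹) * (e' : G) := by group
            _ = u := by rw [h1]; group
        let ψ : {e // φ e = q} → ↥(A ⊓ Subgroup.centralizer ((Qc N a₀ : Subgroup G) : Set G)) :=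
          fun e => ⟨(e' : G)⁻¹ * (e.1 : G),
            hstab _ (A.mul_mem (A.inv_mem e'.2) e.1.2) (hfixed e)⟩
        have hinj : Function.Injective ψ := by
          intro e1 e2 h12
          have := congrArg Subtype.val h12
          apply Subtype.ext
          apply Subtype.ext
          exact mul_left_cancel this
        exact (Nat.card_le_card_of_injective ψ hinj).trans hK3
    have := card_le_of_fibres φ 3 hfib
    rwa [ha₀.2.2.1] at this
  obtain ⟨n, hn⟩ := IsPGroup.iff_card.1 h.hA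
  have hn2 : n = 2 := by
    rcases Nat.lt_or_ge n 2 with hlt | hge
    · exfalso
      apply h.nc
      interval_cases n
      · have h1 : Nat.card ↥A = 1 := by simpa using hn
        haveI : Subsingleton ↥A := (Nat.card_eq_one_iff_unique.1 h1).1
        exact isCyclic_of_subsingleton
      · exact isCyclic_of_prime_card (p := 3) (by simpa using hn)
    · rcases Nat.lt_or_ge 2 n with hgt | hle
      · exfalso
        have : 3 ^ 3 ≤ 3 ^ n := Nat.pow_le_pow_right (by norm_num) hgt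
        rw [hn] at hcount
        omega
      · omega
  rw [hn, hn2]; norm_num

end Cfsg.Agent.helper15.OneInv
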