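import Mathlib
import Cfsg.Agent.Lib_helper15_OneInv4

set_option autoImplicit false

namespace Cfsg.Agent.helper15.OneInv

universe u

variable {G : Type u} [Group G]

/-- `{y ∈ M | x y x⁻¹ y⁻¹ ∈ Z}` for `Z` central in `M`. -/
def commSub (M : Subgroup G) (x : G) (Z : Subgroup G)
    (hZ : Z ≤ Subgroup.centralizer (M : Set G)) : Subgroup G where
  carrier := {y | y ∈ M ∧ x * y * x⁻¹ * y⁻¹ ∈ Z}
  one_mem' := ⟨M.one_mem, by
    have : x * 1 * x⁻¹ * (1 : G)⁻¹ = 1 := by group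
    rw [this]; exact Z.one_mem⟩
  mul_mem' := by
    rintro y y' ⟨hy, hyZ⟩ ⟨hy', hyZ'⟩
    refine ⟨M.mul_mem hy hy', ?_⟩
    have hc : y * (x * y' * x⁻¹ * y'⁻¹) * y⁻¹ = x * y' * x⁻¹ * y'⁻¹ := by
      have := Subgroup.mem_centralizer_iff.1 (hZ hyZ') y hy
      rw [this]; group
    have e1 : x * (y * y') * x⁻¹ * (y * y')⁻¹ =
        (x * y * x⁻¹ * y⁻¹) * (y * (x * y' * x⁻¹ * y'⁻¹) * y⁻¹) := by group
    rw [e1, hc]
    exact Z.mul_mem hyZ hyZ'
  inv_mem' := by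
    rintro y ⟨hy, hyZ⟩
    refine ⟨M.inv_mem hy, ?_⟩
    have hc : y⁻¹ * (x * y * x⁻¹ * y⁻¹)⁻¹ * y = (x * y * x⁻¹ * y⁻¹)⁻¹ := by
      have := Subgroup.mem_centralizer_iff.1 (hZ (Z.inv_mem hyZ)) y⁻¹ (M.inv_mem hy)
      rw [this]; group
    have e1 : x * y⁻¹ * x⁻¹ * y⁻¹⁻¹ = y⁻¹ * (x * y * x⁻¹ * y⁻¹)⁻¹ * y := by group
    rw [e1, hc]
    exact Z.inv_mem hyZ

theorem mem_commSub {M : Subgroup G} {x : G} {Z : Subgroup G}
    {hZ : Z ≤ Subgroup.centralizer (M : Set G)} {y : G} :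
    y ∈ commSub M x Z hZ ↔ y ∈ M ∧ x * y * x⁻¹ * y⁻¹ ∈ Z := Iff.rfl

/-- The second centre of `M`, as a subgroup of the ambient group. -/
def Z2 (M : Subgroup G) : Subgroup G :=
  ⨅ m ∈ M, commSub M m (Subgroup.centralizer (M : Set G)) le_rfl

theorem mem_Z2 {M : Subgroup G} {t : G} :
    t ∈ Z2 M ↔ t ∈ M ∧ ∀ m ∈ M, m * t * m⁻¹ * t⁻¹ ∈ Subgroup.centralizer (M : Set G) := by
  unfold Z2
  simp only [Subgroup.mem_iInf, mem_commSub]
  constructor
  · intro h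
    exact ⟨(h 1 M.one_mem).1, fun m hm => (h m hm).2⟩
  · intro h m hm
    exact ⟨h.1, h.2 m hm⟩

theorem Z2_le (M : Subgroup G) : Z2 M ≤ M := fun _ ht => (mem_Z2.1 ht).1

theorem Z2_invariant {A M : Subgroup G} (hAM : A ≤ Subgroup.normalizer (M : Set G)) :
    A ≤ Subgroup.normalizer ((Z2 M : Subgroup G) : Set G) := by
  apply le_normalizer_of_conj_mem
  intro e he t ht
  rw [mem_Z2] at ht ⊢
  refine ⟨conj_mem_of_mem_normalizer (hAM he) ht.1, ?_⟩
  intro m hm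
  have hm' : e⁻¹ * m * e ∈ M := by
    have := conj_mem_of_mem_normalizer (hAM (A.inv_mem he)) hm
    simpa using this
  have h1 := ht.2 _ hm'
  have h2 := conj_mem_centralizer (hAM he) h1
  have e1 : m * (e * t * e⁻¹) * m⁻¹ * (e * t * e⁻¹)⁻¹ =
      e * ((e⁻¹ * m * e) * t * (e⁻¹ * m * e)⁻¹ * t⁻¹) * e⁻¹ := by group
  rw [e1]; exact h2

/-- A nonabelian finite `p`-subgroup has a second-centre element outside its centre. -/
theorem exists_mem_Z2_not_central {M : Subgroup G} [Finite M] {p : ℕ} [Fact p.Prime]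
    (hM : IsPGroup p M) (hna : ∃ x ∈ M, ∃ y ∈ M, x * y ≠ y * x) :
    ∃ t ∈ Z2 M, t ∉ Subgroup.centralizer (M : Set G) := by
  obtain ⟨x, hx, y, hy, hxy⟩ := hna
  have hxc : (⟨x, hx⟩ : ↥M) ∉ Subgroup.center ↥M := by
    intro hc
    rw [Subgroup.mem_center_iff] at hc
    have := hc ⟨y, hy⟩
    apply hxy
    exact (congrArg Subtype.val this).symm
  haveI : Nontrivial (↥M ⧸ Subgroup.center ↥M) := by
    refine ⟨⟨(QuotientGroup.mk (⟨x, hx⟩ : ↥M) : ↥M ⧸ Subgroup.center ↥M), 1, ?_⟩⟩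
    intro h1
    exact hxc ((QuotientGroup.eq_one_iff _).1 h1)
  have hQ : IsPGroup p (↥M ⧸ Subgroup.center ↥M) := hM.to_quotient _
  haveI := hQ.center_nontrivial
  obtain ⟨⟨q, hq⟩, hq1⟩ := exists_ne (1 : Subgroup.center (↥M ⧸ Subgroup.center ↥M))
  obtain ⟨t, rfl⟩ := QuotientGroup.mk_surjective q
  refine ⟨(t : G), ?_, ?_⟩
  · rw [mem_Z2]
    refine ⟨t.2, ?_⟩
    intro m hm
    have hcen : (⟨m, hm⟩ : ↥M) * t * (⟨m, hm⟩ : ↥M)⁻¹ * t⁻¹ ∈ Subgroup.center ↥M := by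
      rw [← QuotientGroup.eq_one_iff]
      rw [Subgroup.mem_center_iff] at hq
      have := hq (QuotientGroup.mk (⟨m, hm⟩ : ↥M))
      simp only [QuotientGroup.mk_mul, QuotientGroup.mk_inv]
      rw [this]
      group
    refine Subgroup.mem_centralizer_iff.2 ?_
    intro y hy
    rw [Subgroup.mem_center_iff] at hcen
    have := hcen ⟨y, hy⟩
    exact congrArg Subtype.val this
  · intro hc
    apply hq1
    apply Subtype.ext
    show (QuotientGroup.mk t : ↥M ⧸ Subgroup.center ↥M) = 1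
    rw [QuotientGroup.eq_one_iff, Subgroup.mem_center_iff]
    intro g
    apply Subtype.ext
    exact Subgroup.mem_centralizer_iff.1 hc g g.2

theorem mem_normalizer_of_conj_mem {H : Subgroup G} {e : G}
    (h1 : ∀ t ∈ H, e * t * e⁻¹ ∈ H) (h2 : ∀ t ∈ H, e⁻¹ * t * e ∈ H) :
    e ∈ Subgroup.normalizer (H : Set G) := by
  rw [Subgroup.mem_normalizer_iff]
  intro t
  constructor
  · exact h1 t
  · intro ht
    have := h2 _ ht
    have e1 : e⁻¹ * (e * t * e⁻¹) * e = t := by group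
    rwa [e1] at this

variable {N A : Subgroup G}

/-- Key lemma: two distinct order-`8` fixed-point groups, one normalizing the other, commute. -/
theorem Hyp.KL1 [Finite G] (h : Hyp N A 3) {a b : G} (ha : T8 N A a) (hb : T8 N A b)
    (hne : Qc N a ≠ Qc N b)
    (hnorm : Qc N b ≤ Subgroup.normalizer ((Qc N a : Subgroup G) : Set G)) :
    ∀ x ∈ Qc N a, ∀ y ∈ Qc N b, x * y = y * x := by
  intro x hx
  have hax : a * x * a⁻¹ = x := mem_centralizer_singleton_iff'.1 (Subgroup.mem_inf.1 hx).2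
  have hax' : a⁻¹ * x * a = x := by
    calc a⁻¹ * x * a = a⁻¹ * (a * x * a⁻¹) * a := by rw [hax]
      _ = x := by group
  -- `a` acts nontrivially on `Qc N b`
  have hact : ∃ t ∈ Qc N b, a * t * a⁻¹ ≠ t := by
    by_contra hcon
    push Not at hcon
    apply hne
    have hle : Qc N b ≤ Qc N a := fun t ht =>
      Subgroup.mem_inf.2 ⟨(Subgroup.mem_inf.1 ht).1, mem_centralizer_singleton_iff'.2 (hcon t ht)⟩
    exact (Subgroup.eq_of_le_of_card_ge hle (by rw [ha.2.2.1, hb.2.2.1])).symm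
  have hfix := h.inf_eq_CA hb ha.1 hact
  have hc2 : Nat.card ↥(Qc N b ⊓ Subgroup.centralizer ({a} : Set G)) = 2 := by
    rw [hfix.1]; exact hfix.2
  obtain ⟨j, hj⟩ := h.exp ha.1
  have haR : a ∈ Subgroup.normalizer
      ((Qc N b ⊓ Subgroup.centralizer ({x} : Set G) : Subgroup G) : Set G) := by
    apply mem_normalizer_inf (h.norm_Qc hb.1 ha.1)
    apply mem_normalizer_of_conj_mem
    · intro t ht
      refine mem_centralizer_singleton_iff'.2 ?_
      have h1 := mem_centralizer_singleton_iff'.1 ht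
      calc x * (a * t * a⁻¹) * x⁻¹ = a * ((a⁻¹ * x * a) * t * (a⁻¹ * x * a)⁻¹) * a⁻¹ := by group
        _ = a * t * a⁻¹ := by rw [hax', h1]
    · intro t ht
      refine mem_centralizer_singleton_iff'.2 ?_
      have h1 := mem_centralizer_singleton_iff'.1 ht
      calc x * (a⁻¹ * t * a) * x⁻¹ = a⁻¹ * ((a * x * a⁻¹) * t * (a * x * a⁻¹)⁻¹) * a := by group
        _ = a⁻¹ * t * a := by rw [hax, h1]
  rcases invariant_le_or_eq hb.2.2.1 (h.one b hb.1 hb.2.1) hj hc2 inf_le_left haR with h2 | h2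
  · exfalso
    rw [hfix.1] at h2
    obtain ⟨t, ht, htne⟩ := hact
    apply htne
    -- w := t⁻¹ * (a t a⁻¹) lies in `R`, hence in `CA`
    have hat : a * t * a⁻¹ ∈ Qc N b := conj_mem_of_mem_normalizer (h.norm_Qc hb.1 ha.1) ht
    have htx : t * x * t⁻¹ ∈ Qc N a := conj_mem_of_mem_normalizer (hnorm ht) hx
    have h3 : a * (t * x * t⁻¹) * a⁻¹ = t * x * t⁻¹ :=
      mem_centralizer_singleton_iff'.1 (Subgroup.mem_inf.1 htx).2
    have h4 : (a * t * a⁻¹) * x * (a * t * a⁻¹)⁻¹ = t * x * t⁻¹ := by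
      calc (a * t * a⁻¹) * x * (a * t * a⁻¹)⁻¹
          = a * (t * (a⁻¹ * x * a) * t⁻¹) * a⁻¹ := by group
        _ = t * x * t⁻¹ := by rw [hax', h3]
    have hwR : t⁻¹ * (a * t * a⁻¹) ∈ Qc N b ⊓ Subgroup.centralizer ({x} : Set G) := by
      refine Subgroup.mem_inf.2 ⟨(Qc N b).mul_mem ((Qc N b).inv_mem ht) hat, ?_⟩
      refine mem_centralizer_singleton_iff'.2 ?_
      -- x * w * x⁻¹ = w  where w = t⁻¹ * (a t a⁻¹)
      have h7 : (t⁻¹ * (a * t * a⁻¹)) * x * (t⁻¹ * (a * t * a⁻¹))⁻¹ = x := by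
        calc (t⁻¹ * (a * t * a⁻¹)) * x * (t⁻¹ * (a * t * a⁻¹))⁻¹
            = t⁻¹ * ((a * t * a⁻¹) * x * (a * t * a⁻¹)⁻¹) * t := by group
          _ = t⁻¹ * (t * x * t⁻¹) * t := by rw [h4]
          _ = x := by group
      calc x * (t⁻¹ * (a * t * a⁻¹)) * x⁻¹
          = ((t⁻¹ * (a * t * a⁻¹)) * x * (t⁻¹ * (a * t * a⁻¹))⁻¹) * (t⁻¹ * (a * t * a⁻¹)) * x⁻¹ := by
            rw [h7]
        _ = t⁻¹ * (a * t * a⁻¹) := by group
    have hwC := h2 hwR
    have hw2 := h.CA_sq hwC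
    have hwa : a * (t⁻¹ * (a * t * a⁻¹)) = (t⁻¹ * (a * t * a⁻¹)) * a :=
      (Subgroup.mem_centralizer_iff.1 (Subgroup.mem_inf.1 hwC).2) a ha.1
    have hconj : a * t * a⁻¹ = t * (t⁻¹ * (a * t * a⁻¹)) := by group
    have h8 := conj_pow_right hconj hwa 3
    rw [h.cube_eq_one ha.1] at h8
    have h9 : (t⁻¹ * (a * t * a⁻¹)) ^ 3 = 1 := by
      have : t = t * (t⁻¹ * (a * t * a⁻¹)) ^ 3 := by
        calc t = 1 * t * 1⁻¹ := by group
          _ = _ := h8
      exact (mul_eq_left.1 this.symm)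
    have h10 : t⁻¹ * (a * t * a⁻¹) = 1 := by
      have : (t⁻¹ * (a * t * a⁻¹)) ^ 3 =
          (t⁻¹ * (a * t * a⁻¹)) * ((t⁻¹ * (a * t * a⁻¹)) * (t⁻¹ * (a * t * a⁻¹))) := by
        rw [pow_succ, pow_two, mul_assoc]
      rw [this, hw2, mul_one] at h9
      exact h9
    calc a * t * a⁻¹ = t * (t⁻¹ * (a * t * a⁻¹)) := hconj
      _ = t := by rw [h10, mul_one]
  · intro y hy
    have hy' : y ∈ Qc N b ⊓ Subgroup.centralizer ({x} : Set G) := by rw [h2]; exact hy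
    have := mem_centralizer_singleton_iff'.1 (Subgroup.mem_inf.1 hy').2
    calc x * y = (x * y * x⁻¹) * x := by group
      _ = y * x := by rw [this]

/-- Distinct order-`8` fixed-point groups commute elementwise. -/
theorem Hyp.KL [Finite G] (h : Hyp N A 3) : ∀ (n : ℕ) (M : Subgroup G), Nat.card ↥M = n →
    A ≤ Subgroup.normalizer (M : Set G) → M ≤ N →
    ∀ a b, T8 N A a → T8 N A b → Qc N a ≤ M → Qc N b ≤ M → Qc N a ≠ Qc N b →
      ∀ x ∈ Qc N a, ∀ y ∈ Qc N b, x * y = y * x := by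
  intro n
  induction n using Nat.strong_induction_on with
  | _ n ih =>
    intro M hcard hAM hMN a b ha hb haM hbM hab
    haveI : Fact (Nat.Prime 2) := ⟨Nat.prime_two⟩
    obtain ⟨x0, hx0, y0, hy0, hxy0⟩ := h.T8_nonab ha
    have hna : ∃ x ∈ M, ∃ y ∈ M, x * y ≠ y * x := ⟨x0, haM hx0, y0, haM hy0, hxy0⟩
    obtain ⟨t, htZ, htc⟩ := exists_mem_Z2_not_central (p := 2) (h.hN.to_le hMN) hna
    have hAZ2 := Z2_invariant hAM
    have hZ2N : Z2 M ≤ N := (Z2_le M).trans hMN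
    have hZ2C : ¬ Z2 M ≤ CA N A := fun hle =>
      htc (Subgroup.centralizer_le (fun _ hm => hMN hm) (h.CA_central (hle htZ)))
    obtain ⟨f, hf, hfZ⟩ := h.GEN hAZ2 hZ2N hZ2C
    have hfM : Qc N f ≤ M := hfZ.trans (Z2_le M)
    have hMnorm : M ≤ Subgroup.normalizer ((Qc N f : Subgroup G) : Set G) := by
      apply le_normalizer_of_conj_mem
      intro m hm x hx
      have h1 := (mem_Z2.1 (hfZ hx)).2 m hm
      have h2 : m * x * m⁻¹ * x⁻¹ ∈ M :=
        M.mul_mem (M.mul_mem (M.mul_mem hm (hfM hx)) (M.inv_mem hm)) (M.inv_mem (hfM hx))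
      have h3 : m * x * m⁻¹ * x⁻¹ ∈ CA N A := h.center_le hAM hMN (Subgroup.mem_inf.2 ⟨h2, h1⟩)
      have h4 := h.CA_le_Qc hf.1 h3
      have e1 : m * x * m⁻¹ = (m * x * m⁻¹ * x⁻¹) * x := by group
      rw [e1]; exact (Qc N f).mul_mem h4 hx
    have hcomm : ∀ c, T8 N A c → Qc N c ≤ M → Qc N f ≠ Qc N c →
        ∀ x ∈ Qc N f, ∀ y ∈ Qc N c, x * y = y * x :=
      fun c hc hcM hne => h.KL1 hf hc hne (hcM.trans hMnorm)
    by_cases hfa : Qc N f = Qc N a
    · intro x hx y hy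
      rw [← hfa] at hx
      exact hcomm b hb hbM (hfa ▸ hab) x hx y hy
    by_cases hfb : Qc N f = Qc N b
    · intro x hx y hy
      rw [← hfb] at hy
      exact (hcomm a ha haM hfa y hy x hx).symm
    have hAM' : A ≤ Subgroup.normalizer
        ((M ⊓ Subgroup.centralizer ((Qc N f : Subgroup G) : Set G) : Subgroup G) : Set G) := by
      intro e he
      apply mem_normalizer_inf (hAM he)
      have hAc : A ≤ Subgroup.normalizer
          ((Subgroup.centralizer ((Qc N f : Subgroup G) : Set G) : Subgroup G) : Set G) := by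
        apply le_normalizer_of_conj_mem
        intro e he t ht
        exact conj_mem_centralizer (h.norm_Qc hf.1 he) ht
      exact hAc he
    have hM'lt : Nat.card ↥(M ⊓ Subgroup.centralizer ((Qc N f : Subgroup G) : Set G)) <
        Nat.card ↥M := by
      apply lt_of_le_of_ne (Subgroup.card_le_of_le inf_le_left)
      intro heq
      have hM' : M ⊓ Subgroup.centralizer ((Qc N f : Subgroup G) : Set G) = M :=
        Subgroup.eq_of_le_of_card_ge inf_le_left heq.ge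
      obtain ⟨x1, hx1, y1, hy1, hxy1⟩ := h.T8_nonab hf
      apply hxy1
      have : y1 ∈ M ⊓ Subgroup.centralizer ((Qc N f : Subgroup G) : Set G) := by
        rw [hM']; exact hfM hy1
      exact Subgroup.mem_centralizer_iff.1 (Subgroup.mem_inf.1 this).2 x1 hx1
    have haM' : Qc N a ≤ M ⊓ Subgroup.centralizer ((Qc N f : Subgroup G) : Set G) :=
      fun x hx => Subgroup.mem_inf.2 ⟨haM hx,
        Subgroup.mem_centralizer_iff.2 (fun q hq => hcomm a ha haM hfa q hq x hx)⟩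
    have hbM' : Qc N b ≤ M ⊓ Subgroup.centralizer ((Qc N f : Subgroup G) : Set G) :=
      fun x hx => Subgroup.mem_inf.2 ⟨hbM hx,
        Subgroup.mem_centralizer_iff.2 (fun q hq => hcomm b hb hbM hfb q hq x hx)⟩
    exact ih _ (hcard ▸ hM'lt) _ rfl hAM' (inf_le_left.trans hMN) a b ha hb haM' hbM' hab

end Cfsg.Agent.helper15.OneInv
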