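import Mathlib
import Cfsg.Agent.Lib_helper15_OneInv5

set_option autoImplicit false

namespace Cfsg.Agent.helper15.OneInv

universe u

variable {G : Type u} [Group G] {N A : Subgroup G}

theorem Hyp.KL' [Finite G] (h : Hyp N A 3) {a b : G} (ha : T8 N A a) (hb : T8 N A b)
    (hab : Qc N a ≠ Qc N b) : ∀ x ∈ Qc N a, ∀ y ∈ Qc N b, x * y = y * x :=
  h.KL _ N rfl h.norm le_rfl a b ha hb inf_le_left inf_le_left hab

theorem Hyp.center_eq [Finite G] (h : Hyp N A 3) :
    N ⊓ Subgroup.centralizer (N : Set G) = CA N A :=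
  le_antisymm (h.center_le h.norm le_rfl) (le_inf inf_le_left h.CA_central)

theorem Hyp.CA_fixed {p : ℕ} (_h : Hyp N A p) {c : G} (hc : c ∈ CA N A) {e : G} (he : e ∈ A) :
    e * c * e⁻¹ = c := by
  have := Subgroup.mem_centralizer_iff.1 (Subgroup.mem_inf.1 hc).2 e he
  calc e * c * e⁻¹ = c * e * e⁻¹ := by rw [this]
    _ = c := by group

theorem Hyp.comm_T8 [Finite G] (h : Hyp N A 3) {b : G} (hb : T8 N A b) :
    ∀ x ∈ Qc N b, ∀ y ∈ Qc N b, x * y * x⁻¹ * y⁻¹ ∈ CA N A := by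
  haveI : Fact (Nat.Prime 2) := ⟨Nat.prime_two⟩
  have hQN : Qc N b ≤ N := inf_le_left
  have hAQ := h.norm_Qc hb.1
  obtain ⟨t, htZ, htc⟩ := exists_mem_Z2_not_central (p := 2) (h.hN.to_le hQN) (h.T8_nonab hb)
  have hZ2C : ¬ Z2 (Qc N b) ≤ CA N A := fun hle =>
    htc (Subgroup.centralizer_le (fun _ hm => hQN hm) (h.CA_central (hle htZ)))
  obtain ⟨c, hc, hcZ⟩ := h.GEN (Z2_invariant hAQ) ((Z2_le _).trans hQN) hZ2C
  have hcb : Qc N c = Qc N b :=
    Subgroup.eq_of_le_of_card_ge (hcZ.trans (Z2_le _)) (by rw [hc.2.2.1, hb.2.2.1])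
  rw [hcb] at hcZ
  intro x hx y hy
  have h1 := (mem_Z2.1 (hcZ hy)).2 x hx
  have h2 : x * y * x⁻¹ * y⁻¹ ∈ Qc N b :=
    mul_mem (mul_mem (mul_mem hx hy) (inv_mem hx)) (inv_mem hy)
  exact h.center_le hAQ hQN (Subgroup.mem_inf.2 ⟨h2, h1⟩)

theorem Hyp.comm_Qc [Finite G] (h : Hyp N A 3) {b c : G} (hb : b ∈ A ∧ b ≠ 1)
    (hc : c ∈ A ∧ c ≠ 1) :
    ∀ x ∈ Qc N b, ∀ y ∈ Qc N c, x * y * x⁻¹ * y⁻¹ ∈ CA N A := by
  intro x hx y hy
  have hxN : x ∈ N := (Subgroup.mem_inf.1 hx).1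
  have hyN : y ∈ N := (Subgroup.mem_inf.1 hy).1
  have triv : x * y = y * x → x * y * x⁻¹ * y⁻¹ ∈ CA N A := by
    intro hxy
    have : x * y * x⁻¹ * y⁻¹ = 1 := by rw [hxy]; group
    rw [this]; exact one_mem _
  rcases h.dichotomy hb.1 hb.2 with h1 | h1
  · apply triv
    exact (Subgroup.mem_centralizer_iff.1 (h.CA_central (h1 hx)) y hyN).symm
  rcases h.dichotomy hc.1 hc.2 with h2 | h2
  · apply triv
    exact Subgroup.mem_centralizer_iff.1 (h.CA_central (h2 hy)) x hxN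
  by_cases heq : Qc N b = Qc N c
  · rw [← heq] at hy
    exact h.comm_T8 h1 x hx y hy
  · exact triv (h.KL' h1 h2 heq x hx y hy)

theorem Hyp.comm_N [Finite G] (h : Hyp N A 3) :
    ∀ x ∈ N, ∀ y ∈ N, x * y * x⁻¹ * y⁻¹ ∈ CA N A := by
  have step1 : ∀ b, (b ∈ A ∧ b ≠ 1) → ∀ x ∈ Qc N b, ∀ y ∈ N,
      x * y * x⁻¹ * y⁻¹ ∈ CA N A := by
    intro b hb x hx
    have hle : N ≤ commSub N x (CA N A) h.CA_central := by
      conv_lhs => rw [← h.gen h.norm le_rfl]
      apply iSup₂_le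
      intro c hc y hy
      exact mem_commSub.2 ⟨(Subgroup.mem_inf.1 hy).1, h.comm_Qc hb hc x hx y hy⟩
    intro y hy
    exact (mem_commSub.1 (hle hy)).2
  intro x hx y hy
  have hle : N ≤ commSub N y (CA N A) h.CA_central := by
    conv_lhs => rw [← h.gen h.norm le_rfl]
    apply iSup₂_le
    intro b hb x' hx'
    refine mem_commSub.2 ⟨(Subgroup.mem_inf.1 hx').1, ?_⟩
    have := step1 b hb x' hx' y hy
    have e1 : y * x' * y⁻¹ * x'⁻¹ = (x' * y * x'⁻¹ * y⁻¹)⁻¹ := by group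
    rw [e1]; exact inv_mem this
  have := (mem_commSub.1 (hle hx)).2
  have e1 : x * y * x⁻¹ * y⁻¹ = (y * x * y⁻¹ * x⁻¹)⁻¹ := by group
  rw [e1]; exact inv_mem this

/-- `{x ∈ N | x² ∈ C}` when commutators of `N` lie in `C`. -/
def sqSub (N C : Subgroup G) (hcomm : ∀ x ∈ N, ∀ y ∈ N, x * y * x⁻¹ * y⁻¹ ∈ C) : Subgroup G where
  carrier := {x | x ∈ N ∧ x * x ∈ C}
  one_mem' := ⟨N.one_mem, by rw [one_mul]; exact C.one_mem⟩
  mul_mem' := by
    rintro x y ⟨hx, hxC⟩ ⟨hy, hyC⟩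
    refine ⟨N.mul_mem hx hy, ?_⟩
    have e1 : x * y * (x * y) = (x * x) * (x⁻¹ * y * x⁻¹⁻¹ * y⁻¹) * (y * y) := by group
    rw [e1]
    exact C.mul_mem (C.mul_mem hxC (hcomm _ (N.inv_mem hx) _ hy)) hyC
  inv_mem' := by
    rintro x ⟨hx, hxC⟩
    refine ⟨N.inv_mem hx, ?_⟩
    have e1 : x⁻¹ * x⁻¹ = (x * x)⁻¹ := by group
    rw [e1]; exact C.inv_mem hxC

theorem Hyp.sq_N [Finite G] (h : Hyp N A 3) : ∀ x ∈ N, x * x ∈ CA N A := by
  have hmemS : ∀ x, x ∈ sqSub N (CA N A) h.comm_N ↔ x ∈ N ∧ x * x ∈ CA N A := fun x => Iff.rfl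
  have hAS : A ≤ Subgroup.normalizer ((sqSub N (CA N A) h.comm_N : Subgroup G) : Set G) := by
    apply le_normalizer_of_conj_mem
    intro e he x hx
    rw [hmemS] at hx ⊢
    refine ⟨conj_mem_of_mem_normalizer (h.norm he) hx.1, ?_⟩
    have e1 : e * x * e⁻¹ * (e * x * e⁻¹) = e * (x * x) * e⁻¹ := by group
    rw [e1, h.CA_fixed hx.2 he]; exact hx.2
  have hle : N ≤ sqSub N (CA N A) h.comm_N := by
    conv_lhs => rw [← h.gen h.norm le_rfl]
    apply iSup₂_le
    intro b hb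
    rcases h.inv_sub hAS hb.1 hb.2 with h1 | h1
    · rcases h.dichotomy hb.1 hb.2 with h2 | h2
      · intro x hx
        have hxC := h2 hx
        exact (hmemS x).2 ⟨(Subgroup.mem_inf.1 hx).1, by rw [h.CA_sq hxC]; exact one_mem _⟩
      · exfalso
        obtain ⟨e, he, t, ht, hne⟩ := h2.2.2.2
        have key : ∀ x ∈ Qc N b, x ∉ CA N A → x * x ∉ CA N A := by
          intro x hx hxC hxx
          exact hxC (h1 (Subgroup.mem_inf.2
            ⟨(hmemS x).2 ⟨(Subgroup.mem_inf.1 hx).1, hxx⟩, hx⟩))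
        have ht0 : t ∉ CA N A := fun htC => hne (h.CA_fixed htC he)
        have ht1 := key t ht ht0
        have ht2 := key (t * t) (mul_mem ht ht) ht1
        have ht3 := key (t * t * (t * t)) (mul_mem (mul_mem ht ht) (mul_mem ht ht)) ht2
        apply ht3
        have h8 : t ^ 8 = 1 := by
          have := pow_card_eq_one' (G := ↥(Qc N b)) (x := ⟨t, ht⟩)
          rw [h2.2.2.1] at this
          have h9 := congrArg Subtype.val this
          simpa using h9
        have e1 : t * t * (t * t) * (t * t * (t * t)) = t ^ 8 := by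
          simp only [pow_succ, pow_zero, one_mul, mul_assoc]
        rw [e1, h8]; exact one_mem _
    · exact h1.2
  intro x hx
  exact ((hmemS x).1 (hle hx)).2

/-- Product formula for two elementwise-commuting subgroups. -/
theorem card_sup_mul_card_inf' {H K : Subgroup G} (hc : ∀ x ∈ H, ∀ y ∈ K, x * y = y * x) :
    Nat.card ↥(H ⊔ K) * Nat.card ↥(H ⊓ K) = Nat.card ↥H * Nat.card ↥K := by
  have hrange : (MonoidHom.noncommCoprod H.subtype K.subtype
      (fun x y => (show Commute (H.subtype x) (K.subtype y) from hc x x.2 y y.2))).range = H ⊔ K := by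
    rw [MonoidHom.noncommCoprod_range, Subgroup.range_subtype, Subgroup.range_subtype]
  have h1 := Subgroup.card_mul_index (MonoidHom.noncommCoprod H.subtype K.subtype
      (fun x y => (show Commute (H.subtype x) (K.subtype y) from hc x x.2 y y.2))).ker
  rw [Subgroup.index_ker, hrange, Nat.card_prod] at h1
  have h2 : Nat.card ↥(MonoidHom.noncommCoprod H.subtype K.subtype
      (fun x y => (show Commute (H.subtype x) (K.subtype y) from hc x x.2 y y.2))).ker = Nat.card ↥(H ⊓ K) := by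
    apply Nat.card_congr
    refine ⟨fun w => ⟨(w.1.1 : G), ?_⟩,
      fun z => ⟨(⟨z, (Subgroup.mem_inf.1 z.2).1⟩,
        ⟨(z : G)⁻¹, K.inv_mem (Subgroup.mem_inf.1 z.2).2⟩), ?_⟩, ?_, ?_⟩
    · have hw' : (w.1.1 : G) * (w.1.2 : G) = 1 := w.2
      refine Subgroup.mem_inf.2 ⟨w.1.1.2, ?_⟩
      have : (w.1.1 : G) = (w.1.2 : G)⁻¹ := eq_inv_of_mul_eq_one_left hw'
      rw [this]; exact K.inv_mem w.1.2.2
    · show (z : G) * (z : G)⁻¹ = 1
      exact mul_inv_cancel _
    · intro w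
      apply Subtype.ext
      apply Prod.ext
      · rfl
      · apply Subtype.ext
        have hw' : (w.1.1 : G) * (w.1.2 : G) = 1 := w.2
        show ((w.1.1 : G))⁻¹ = (w.1.2 : G)
        exact inv_eq_of_mul_eq_one_right hw'
    · intro z; rfl
  rw [h2] at h1
  rw [mul_comm]; exact h1

theorem Hyp.card_prod [Finite G] (h : Hyp N A 3) (S : Finset (Subgroup G))
    (hS : ∀ X ∈ S, ∃ b, T8 N A b ∧ X = Qc N b) :
    Nat.card ↥(CA N A ⊔ ⨆ X ∈ S, X) = 2 * 4 ^ S.card := by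
  classical
  induction S using Finset.induction_on with
  | empty =>
    have hbot : (⨆ X ∈ (∅ : Finset (Subgroup G)), X) = ⊥ := by simp
    rw [hbot, sup_bot_eq, Finset.card_empty, pow_zero, mul_one]
    exact h.card_CA
  | insert X₀ S hX₀ ih =>
    have ih' := ih (fun X hX => hS X (Finset.mem_insert_of_mem hX))
    obtain ⟨f, hf, rfl⟩ := hS _ (Finset.mem_insert_self _ _)
    rw [Finset.iSup_insert, Finset.card_insert_of_notMem hX₀]
    have hre : CA N A ⊔ (Qc N f ⊔ ⨆ X ∈ S, X) = (CA N A ⊔ ⨆ X ∈ S, X) ⊔ Qc N f := by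
      rw [sup_left_comm, sup_comm]
    rw [hre]
    have hcomm : ∀ x ∈ CA N A ⊔ ⨆ X ∈ S, X, ∀ y ∈ Qc N f, x * y = y * x := by
      have hPle : (CA N A ⊔ ⨆ X ∈ S, X) ≤
          Subgroup.centralizer ((Qc N f : Subgroup G) : Set G) := by
        apply sup_le
        · exact h.CA_central.trans
            (Subgroup.centralizer_le (fun _ hm => (Subgroup.mem_inf.1 hm).1))
        · apply iSup₂_le
          intro X hX
          obtain ⟨c, hc, rfl⟩ := hS X (Finset.mem_insert_of_mem hX)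
          have hne : Qc N f ≠ Qc N c := fun heq => hX₀ (by rw [heq]; exact hX)
          intro x hx
          exact Subgroup.mem_centralizer_iff.2 (fun y hy => h.KL' hf hc hne y hy x hx)
      intro x hx y hy
      exact (Subgroup.mem_centralizer_iff.1 (hPle hx) y hy).symm
    have hinf : (CA N A ⊔ ⨆ X ∈ S, X) ⊓ Qc N f = CA N A := by
      apply le_antisymm
      · intro t ht
        have ht1 := (Subgroup.mem_inf.1 ht).1
        have ht2 := (Subgroup.mem_inf.1 ht).2
        apply h.center_le (h.norm_Qc hf.1) inf_le_left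
        refine Subgroup.mem_inf.2 ⟨ht2, Subgroup.mem_centralizer_iff.2 (fun y hy => ?_)⟩
        exact (hcomm t ht1 y hy).symm
      · exact le_inf le_sup_left (h.CA_le_Qc hf.1)
    have hpf := card_sup_mul_card_inf' hcomm
    rw [hinf, h.card_CA, ih', hf.2.2.1] at hpf
    rw [pow_succ]
    generalize 4 ^ S.card = m at *
    omega

theorem Qc_inv (N : Subgroup G) (b : G) : Qc N b⁻¹ = Qc N b := by
  ext t
  simp only [Subgroup.mem_inf, mem_centralizer_singleton_iff']
  constructor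
  · rintro ⟨h1, h2⟩
    refine ⟨h1, ?_⟩
    calc b * t * b⁻¹ = b * (b⁻¹ * t * b⁻¹⁻¹) * b⁻¹ := by rw [h2]
      _ = t := by group
  · rintro ⟨h1, h2⟩
    refine ⟨h1, ?_⟩
    calc b⁻¹ * t * b⁻¹⁻¹ = b⁻¹ * (b * t * b⁻¹) * b⁻¹⁻¹ := by rw [h2]
      _ = t := by group

theorem Hyp.card_N [Finite G] (h : Hyp N A 3) :
    Nat.card ↥N = 2 ^ 5 ∨ Nat.card ↥N = 2 ^ 7 ∨ Nat.card ↥N = 2 ^ 9 := by
  classical
  have hfin : {X : Subgroup G | ∃ b, T8 N A b ∧ X = Qc N b}.Finite := Set.toFinite _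
  have hT : ∀ X, X ∈ hfin.toFinset ↔ ∃ b, T8 N A b ∧ X = Qc N b := fun X => by
    rw [Set.Finite.mem_toFinset]; rfl
  have hNeq : N = CA N A ⊔ ⨆ X ∈ hfin.toFinset, X := by
    apply le_antisymm
    · conv_lhs => rw [← h.gen h.norm le_rfl]
      apply iSup₂_le
      intro b hb
      rcases h.dichotomy hb.1 hb.2 with h1 | h1
      · exact h1.trans le_sup_left
      · exact le_sup_of_le_right (le_iSup₂_of_le (Qc N b) ((hT _).2 ⟨b, h1, rfl⟩) le_rfl)
    · apply sup_le inf_le_left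
      apply iSup₂_le
      intro X hX
      obtain ⟨b, hb, rfl⟩ := (hT X).1 hX
      exact inf_le_left
  have hcard := h.card_prod hfin.toFinset (fun X hX => (hT X).1 hX)
  rw [← hNeq] at hcard
  obtain ⟨f, hf⟩ := h.exists_T8
  have hgt : 8 < Nat.card ↥N := by
    by_contra hle
    push Not at hle
    have hNQ : Qc N f = N :=
      Subgroup.eq_of_le_of_card_ge inf_le_left (by rw [hf.2.2.1]; exact hle)
    apply hf.2.1
    apply h.faith f hf.1
    intro t ht
    have : t ∈ Qc N f := by rw [hNQ]; exact ht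
    exact mem_centralizer_singleton_iff'.1 (Subgroup.mem_inf.1 this).2
  have hk4 : hfin.toFinset.card ≤ 4 := by
    have hch : ∀ X : ↥hfin.toFinset, ∃ b, T8 N A b ∧ (X : Subgroup G) = Qc N b :=
      fun X => (hT X).1 X.2
    choose β hβ using hch
    have hβA : ∀ X, β X ∈ A := fun X => (hβ X).1.1
    have F1 : ∀ X, β X ≠ 1 := fun X => (hβ X).1.2.1
    have F2 : ∀ X Y, β X = β Y → X = Y := by
      intro X Y hXY
      apply Subtype.ext
      rw [(hβ X).2, (hβ Y).2, hXY]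
    have F3 : ∀ X Y, β X ≠ (β Y)⁻¹ := by
      intro X Y hXY
      have hXY' : X = Y := by
        apply Subtype.ext
        rw [(hβ X).2, (hβ Y).2, hXY, Qc_inv]
      subst hXY'
      have h2 : β X * β X = 1 := by
        calc β X * β X = (β X)⁻¹ * β X := by rw [← hXY]
          _ = 1 := by group
      have h3 := h.cube_eq_one (hβA X)
      apply F1 X
      calc β X = β X ^ 3 * (β X * β X)⁻¹ := by group
        _ = 1 := by rw [h3, h2]; group
    let g : Option (↥hfin.toFinset × Bool) → ↥A := fun o => match o with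
      | none => 1
      | some (X, false) => ⟨β X, hβA X⟩
      | some (X, true) => ⟨(β X)⁻¹, A.inv_mem (hβA X)⟩
    have hinj : Function.Injective g := by
      rintro (_ | ⟨X, (_ | _)⟩) (_ | ⟨Y, (_ | _)⟩) h12
      · rfl
      · have h' : (1 : G) = β Y := congrArg Subtype.val h12
        exact absurd h'.symm (F1 Y)
      · have h' : (1 : G) = (β Y)⁻¹ := congrArg Subtype.val h12
        exact absurd (inv_eq_one.1 h'.symm) (F1 Y)
      · have h' : β X = (1 : G) := congrArg Subtype.val h12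
        exact absurd h' (F1 X)
      · have h' : β X = β Y := congrArg Subtype.val h12
        rw [F2 X Y h']
      · have h' : β X = (β Y)⁻¹ := congrArg Subtype.val h12
        exact absurd h' (F3 X Y)
      · have h' : (β X)⁻¹ = (1 : G) := congrArg Subtype.val h12
        exact absurd (inv_eq_one.1 h') (F1 X)
      · have h' : (β X)⁻¹ = β Y := congrArg Subtype.val h12
        exact absurd h'.symm (F3 Y X)
      · have h' : (β X)⁻¹ = (β Y)⁻¹ := congrArg Subtype.val h12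
        rw [F2 X Y (inv_injective h')]
    have hle := Nat.card_le_card_of_injective g hinj
    rw [h.card_A, Nat.card_eq_fintype_card, Fintype.card_option, Fintype.card_prod,
      Fintype.card_coe, Fintype.card_bool] at hle
    omega
  have hk2 : 2 ≤ hfin.toFinset.card := by
    by_contra hlt
    push Not at hlt
    have : hfin.toFinset.card = 0 ∨ hfin.toFinset.card = 1 := by omega
    rcases this with h0 | h0 <;> rw [hcard, h0] at hgt <;> norm_num at hgt
  have : hfin.toFinset.card = 2 ∨ hfin.toFinset.card = 3 ∨ hfin.toFinset.card = 4 := by omega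
  rcases this with h0 | h0 | h0 <;> rw [hcard, h0] <;> norm_num

/-- The abstract main theorem. -/
theorem Hyp.main [Finite G] {p : ℕ} (h : Hyp N A p) :
    Nat.card ↥A = 9 ∧ (Nat.card ↥N = 2 ^ 5 ∨ Nat.card ↥N = 2 ^ 7 ∨ Nat.card ↥N = 2 ^ 9) ∧
    N ⊓ Subgroup.centralizer (N : Set G) = CA N A ∧ Nat.card ↥(CA N A) = 2 ∧
    (∀ x ∈ N, ∀ y ∈ N, x * y * x⁻¹ * y⁻¹ ∈ CA N A) ∧ (∀ x ∈ N, x * x ∈ CA N A) ∧
    ∃ x ∈ N, ∃ y ∈ N, x * y ≠ y * x := by
  have hp3 := h.p_eq_three
  subst hp3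
  obtain ⟨f, hf⟩ := h.exists_T8
  obtain ⟨x, hx, y, hy, hxy⟩ := h.T8_nonab hf
  exact ⟨h.card_A, h.card_N, h.center_eq, h.card_CA, h.comm_N, h.sq_N,
    x, (Subgroup.mem_inf.1 hx).1, y, (Subgroup.mem_inf.1 hy).1, hxy⟩

end Cfsg.Agent.helper15.OneInv
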