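import Mathlib
import Cfsg.Prelude.Def_PLocal
import Cfsg.Agent.Lib_helper4_Glaub2

set_option autoImplicit false

/-! Rank comparison in Glauberman's replacement theorem (on top of `Lib_helper4_Glaub`). -/

namespace Cfsg.Agent.helper15.Repl

open scoped commutatorElement
open Cfsg.Agent.helper4.Glaub

variable {S : Type*} [Group S]

theorem comm_pow_right_of_commute {x y : S} (hz : Commute ⁅x, y⁆ y) (n : ℕ) :
    ⁅x, y ^ n⁆ = ⁅x, y⁆ ^ n := by
  induction n with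
  | zero => simp
  | succ n ih =>
    rw [pow_succ, Cfsg.Agent.S0648.cmr, ih]
    have : y ^ n * ⁅x, y⁆ * (y ^ n)⁻¹ = ⁅x, y⁆ := by
      rw [← (hz.pow_right n).eq]; group
    rw [this, pow_succ]

theorem mem_omegaOne_iff {p : ℕ} {H : Subgroup S} (hH : ∀ x ∈ H, ∀ y ∈ H, x * y = y * x) (x : S) :
    x ∈ Cfsg.omegaOne p H ↔ x ∈ H ∧ x ^ p = 1 := by
  constructor
  · intro hx
    unfold Cfsg.omegaOne at hx
    induction hx using Subgroup.closure_induction with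
    | mem x hx => exact hx
    | one => exact ⟨H.one_mem, one_pow p⟩
    | mul x y _ _ ihx ihy =>
      refine ⟨H.mul_mem ihx.1 ihy.1, ?_⟩
      have hc : Commute x y := hH x ihx.1 y ihy.1
      rw [hc.mul_pow, ihx.2, ihy.2, one_mul]
    | inv x _ ihx => exact ⟨H.inv_mem ihx.1, by rw [inv_pow, ihx.2, inv_one]⟩
  · intro hx
    exact Subgroup.subset_closure hx

theorem omegaOne_map_subtype {G : Type*} [Group G] (p : ℕ) (N : Subgroup G) (H : Subgroup ↥N) :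
    (Cfsg.omegaOne p H).map N.subtype = Cfsg.omegaOne p (H.map N.subtype) := by
  unfold Cfsg.omegaOne
  rw [MonoidHom.map_closure]
  congr 1
  ext g
  constructor
  · rintro ⟨x, ⟨hx, hxp⟩, rfl⟩
    refine ⟨⟨x, hx, rfl⟩, ?_⟩
    have := congrArg Subtype.val hxp
    simpa using this
  · rintro ⟨⟨x, hx, rfl⟩, hxp⟩
    refine ⟨x, ⟨hx, ?_⟩, rfl⟩
    apply Subtype.ext
    simpa using hxp

variable {B A : Subgroup S} {b : S}

theorem gen_pow_p {p : ℕ} [hp : Fact p.Prime] (h : GSetup B A b) (hp2 : p ≠ 2) {a : S}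
    (ha : a ∈ A) (hap : a ^ p = 1) : (a * b⁻¹ * a⁻¹ * b) ^ p = 1 := by
  obtain ⟨m, hm⟩ : Odd p := hp.out.odd_of_ne_two hp2
  have hc : b⁻¹ * a⁻¹ * b ∈ cj A b := GSetup.cj_mem (inv_mem ha)
  have hzD : ⁅(b⁻¹ * a⁻¹ * b)⁻¹, a⁻¹⁆ ∈ DD A b := h.comm_mem_DD (inv_mem hc) (inv_mem ha)
  obtain ⟨z, hz⟩ : ∃ z, z = ⁅(b⁻¹ * a⁻¹ * b)⁻¹, a⁻¹⁆ := ⟨_, rfl⟩
  rw [← hz] at hzD
  have h1 : (b⁻¹ * a⁻¹ * b) * a = a * (b⁻¹ * a⁻¹ * b) * z := by
    rw [hz, commutatorElement_def]; group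
  have h2 : z * a = a * z := h.DD_comm_A hzD ha
  have h3 : z * (b⁻¹ * a⁻¹ * b) = (b⁻¹ * a⁻¹ * b) * z := h.DD_comm_cj hzD hc
  have hzp : z ^ p = 1 := by
    have hcomm : Commute ⁅(b⁻¹ * a⁻¹ * b)⁻¹, a⁻¹⁆ a⁻¹ := by
      rw [← hz]
      have : Commute z a := h2
      exact this.inv_right
    have := comm_pow_right_of_commute hcomm p
    rw [inv_pow, hap, inv_one, ← hz] at this
    rw [← this]
    simp
  rw [GSetup.gens_eq, mul_pow_class2 h1 h2 h3, hap]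
  have h4 : (b⁻¹ * a⁻¹ * b) ^ p = 1 := by
    have : (b⁻¹ * a⁻¹ * b) ^ p = b⁻¹ * (a⁻¹) ^ p * b := by
      have := map_pow (MulAut.conj b⁻¹) a⁻¹ p
      simpa using this.symm
    rw [this, inv_pow, hap]; group
  have h5 : z ^ (∑ i ∈ Finset.range p, i) = 1 := by
    have e2 : (∑ i ∈ Finset.range p, i) = p * m := by
      have := Finset.sum_range_id_mul_two p
      have h6 : p - 1 = 2 * m := by omega
      rw [h6] at this
      have : (∑ i ∈ Finset.range p, i) * 2 = (p * m) * 2 := by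
        rw [this]; ring
      exact Nat.eq_of_mul_eq_mul_right (by norm_num) this
    rw [e2, pow_mul, hzp, one_pow]
  rw [h4, h5]; simp

theorem card_omegaOne_le [Finite S] {p : ℕ} [Fact p.Prime] (h : GSetup B A b) (hp2 : p ≠ 2)
    (hX : ∀ x ∈ XX A b, ∀ y ∈ XX A b, x * y = y * x) :
    Nat.card ↥(Cfsg.omegaOne p A) ≤ Nat.card ↥(Cfsg.omegaOne p (Astar A b)) := by
  classical
  have hTcomm : ∀ x ∈ Astar A b, ∀ y ∈ Astar A b, x * y = y * x :=
    fun x hx y hy => h.Astar_comm hX hx hy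
  haveI hnorm : ((DD A b).subgroupOf (Astar A b)).Normal := by
    refine ⟨fun n hn g => ?_⟩
    rw [Subgroup.mem_subgroupOf] at hn ⊢
    have e : ((g * n * g⁻¹ : Astar A b) : S) = (n : S) := by
      simp only [Subgroup.coe_mul, Subgroup.coe_inv]
      rw [h.Astar_comm hX g.2 n.2]; group
    rw [e]; exact hn
  have hmemg : ∀ a : A, (a : S) * b⁻¹ * (a : S)⁻¹ * b ∈ Astar A b :=
    fun a => GSetup.XX_le_Astar (GSetup.gen_mem_XX a.2)
  let f : A →* (Astar A b) ⧸ (DD A b).subgroupOf (Astar A b) :=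
    MonoidHom.mk' (fun a => QuotientGroup.mk ⟨(a : S) * b⁻¹ * (a : S)⁻¹ * b, hmemg a⟩) (by
      intro a a'
      rw [← QuotientGroup.mk_mul, QuotientGroup.eq, Subgroup.mem_subgroupOf]
      simp only [Subgroup.coe_mul, Subgroup.coe_inv]
      have hga := GSetup.gen_mem_XX (b := b) a.2
      have hga' := GSetup.gen_mem_XX (b := b) a'.2
      have hδ := h.XX_comm_A_mem_DD hga' a.2
      have e1 : (a : S) * (a' : S) * b⁻¹ * ((a : S) * (a' : S))⁻¹ * b
          = ⁅(a' : S) * b⁻¹ * (a' : S)⁻¹ * b, (a : S)⁆⁻¹ *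
            (((a : S) * b⁻¹ * (a : S)⁻¹ * b) * ((a' : S) * b⁻¹ * (a' : S)⁻¹ * b)) := by
        rw [hX _ hga _ hga', commutatorElement_def]; group
      rw [e1, mul_inv_rev, inv_inv]
      have e2 := h.XX_comm_DD (mul_mem hga hga') hδ
      rw [mul_assoc, e2, ← mul_assoc, inv_mul_cancel, one_mul]
      exact hδ)
  have hf : ∀ a : A, f a = QuotientGroup.mk ⟨(a : S) * b⁻¹ * (a : S)⁻¹ * b, hmemg a⟩ := fun _ => rfl
  have hker : f.ker = (DD A b).subgroupOf A := by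
    ext a
    rw [MonoidHom.mem_ker, Subgroup.mem_subgroupOf]
    change (QuotientGroup.mk _ : (Astar A b) ⧸ (DD A b).subgroupOf (Astar A b)) = 1 ↔ _
    rw [QuotientGroup.eq_one_iff, Subgroup.mem_subgroupOf]
    exact h.gen_mem_DD_iff a.2
  let π : ↥(Astar A b) →* (Astar A b) ⧸ (DD A b).subgroupOf (Astar A b) := QuotientGroup.mk' _
  have hkerπ : π.ker = (DD A b).subgroupOf (Astar A b) := QuotientGroup.ker_mk' _
  have hΩA : ∀ x, x ∈ Cfsg.omegaOne p A ↔ x ∈ A ∧ x ^ p = 1 := mem_omegaOne_iff h.comm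
  have hΩT : ∀ x, x ∈ Cfsg.omegaOne p (Astar A b) ↔ x ∈ Astar A b ∧ x ^ p = 1 :=
    mem_omegaOne_iff hTcomm
  have hΩA_le : Cfsg.omegaOne p A ≤ A := fun x hx => ((hΩA x).1 hx).1
  have hΩT_le : Cfsg.omegaOne p (Astar A b) ≤ Astar A b := fun x hx => ((hΩT x).1 hx).1
  let f' : ↥(Cfsg.omegaOne p A) →* (Astar A b) ⧸ (DD A b).subgroupOf (Astar A b) :=
    f.comp (Subgroup.inclusion hΩA_le)
  let π' : ↥(Cfsg.omegaOne p (Astar A b)) →* (Astar A b) ⧸ (DD A b).subgroupOf (Astar A b) :=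
    π.comp (Subgroup.inclusion hΩT_le)
  have hkf : f'.ker = (DD A b ⊓ Cfsg.omegaOne p A).subgroupOf (Cfsg.omegaOne p A) := by
    ext x
    rw [MonoidHom.mem_ker, Subgroup.mem_subgroupOf, Subgroup.mem_inf]
    have e : f' x = f (Subgroup.inclusion hΩA_le x) := rfl
    rw [e, ← MonoidHom.mem_ker, hker, Subgroup.mem_subgroupOf]
    constructor
    · intro hx; exact ⟨hx, x.2⟩
    · intro hx; exact hx.1
  have hkπ : π'.ker = (DD A b ⊓ Cfsg.omegaOne p (Astar A b)).subgroupOf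
      (Cfsg.omegaOne p (Astar A b)) := by
    ext x
    rw [MonoidHom.mem_ker, Subgroup.mem_subgroupOf, Subgroup.mem_inf]
    have e : π' x = π (Subgroup.inclusion hΩT_le x) := rfl
    rw [e, ← MonoidHom.mem_ker, hkerπ, Subgroup.mem_subgroupOf]
    constructor
    · intro hx; exact ⟨hx, x.2⟩
    · intro hx; exact hx.1
  have hDeq : DD A b ⊓ Cfsg.omegaOne p A = DD A b ⊓ Cfsg.omegaOne p (Astar A b) := by
    ext x
    rw [Subgroup.mem_inf, Subgroup.mem_inf, hΩA, hΩT]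
    constructor
    · rintro ⟨hd, -, hx⟩; exact ⟨hd, GSetup.DD_le_Astar hd, hx⟩
    · rintro ⟨hd, -, hx⟩; exact ⟨hd, h.DD_le_A hd, hx⟩
  have hrange : f'.range ≤ π'.range := by
    rintro _ ⟨x, rfl⟩
    have hx := (hΩA x).1 x.2
    have hmem : (x : S) * b⁻¹ * (x : S)⁻¹ * b ∈ Cfsg.omegaOne p (Astar A b) :=
      (hΩT _).2 ⟨GSetup.XX_le_Astar (GSetup.gen_mem_XX hx.1), gen_pow_p h hp2 hx.1 hx.2⟩
    exact ⟨⟨_, hmem⟩, rfl⟩
  have c1 : Nat.card ↥(Cfsg.omegaOne p A) =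
      Nat.card ↥(DD A b ⊓ Cfsg.omegaOne p A) * Nat.card ↥f'.range := by
    rw [← Subgroup.card_mul_index f'.ker, Subgroup.index_ker, hkf]
    congr 1
    exact Nat.card_congr (Subgroup.subgroupOfEquivOfLe
      (inf_le_right : DD A b ⊓ Cfsg.omegaOne p A ≤ Cfsg.omegaOne p A)).toEquiv
  have c2 : Nat.card ↥(Cfsg.omegaOne p (Astar A b)) =
      Nat.card ↥(DD A b ⊓ Cfsg.omegaOne p (Astar A b)) * Nat.card ↥π'.range := by
    rw [← Subgroup.card_mul_index π'.ker, Subgroup.index_ker, hkπ]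
    congr 1
    exact Nat.card_congr (Subgroup.subgroupOfEquivOfLe
      (inf_le_right : DD A b ⊓ Cfsg.omegaOne p (Astar A b) ≤
        Cfsg.omegaOne p (Astar A b))).toEquiv
  rw [c1, c2, hDeq]
  exact Nat.mul_le_mul_left _ (Subgroup.card_le_of_le hrange)

end Cfsg.Agent.helper15.Repl
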