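import Mathlib

set_option autoImplicit false

namespace Cfsg.Agent.helper15.S2531x

open Finset

theorem ncard_setOf_eq_card_filter {α : Type*} [Fintype α] (p : α → Prop) [DecidablePred p] :
    Set.ncard {x : α | p x} = (Finset.univ.filter p).card := by
  rw [Set.ncard_eq_toFinset_card', Set.toFinset_ofPred]

theorem arith_cancel (h h2 m1 m0 R1 R2 t : ℕ) (hh : h2 < h)
    (k1 : m1 * h + h2 * R1 = h * h) (k2 : m0 * h + h2 * R2 = h * h)
    (t1 : m1 + R1 = t) (t2 : m0 + R2 = t) : m1 = m0 := by
  zify at hh k1 k2 t1 t2 ⊢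
  have hne : ((h : ℤ) - h2) ≠ 0 := by
    intro h0
    linarith
  have key : ((m1 : ℤ) - m0) * ((h : ℤ) - h2) = 0 := by
    linear_combination k1 - k2 - (h2 : ℤ) * (t1 - t2)
  rcases mul_eq_zero.mp key with h' | h'
  · linarith
  · exact absurd h' hne

/-- Abstract combinatorial core of S2531: a sharply 2-transitive set of permutations of the
points preserving a "hyperplane" structure forces `N * mu = h`. -/
theorem core {P Q : Type*} [Finite P] [Finite Q] (I : P → Q → Prop) (S : Set (Equiv.Perm P))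
    (h h2 N : ℕ) (hh : h2 < h)
    (ha : ∀ H : Q, Set.ncard {x : P | I x H} = h)
    (hb : ∀ H H'' : Q, H ≠ H'' → Set.ncard {x : P | I x H ∧ I x H''} = h2)
    (hc : ∀ a b : P, a ≠ b → Set.ncard {H : Q | I b H ∧ ¬ I a H} = N)
    (hd : ∀ s ∈ S, ∀ H : Q, ∃ H'' : Q, ∀ x, I (s x) H'' ↔ I x H)
    (he : ∀ a b c d : P, a ≠ b → c ≠ d → ∃! s, s ∈ S ∧ s a = c ∧ s b = d)
    (a b : P) (hab : a ≠ b) (H0 : Q) (haH : ¬ I a H0) : ∃ mu : ℕ, N * mu = h := by
  classical
  haveI : Fintype P := Fintype.ofFinite P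
  haveI : Fintype Q := Fintype.ofFinite Q
  have ha' : ∀ H : Q, (univ.filter (fun x : P => I x H)).card = h := by
    intro H
    rw [← ncard_setOf_eq_card_filter]
    exact ha H
  have hb' : ∀ H H'' : Q, H ≠ H'' →
      (univ.filter (fun x : P => I x H ∧ I x H'')).card = h2 := by
    intro H H'' hne
    rw [← ncard_setOf_eq_card_filter]
    exact hb H H'' hne
  have hc' : ∀ a b : P, a ≠ b → (univ.filter (fun H : Q => I b H ∧ ¬ I a H)).card = N := by
    intro a b hab
    rw [← ncard_setOf_eq_card_filter]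
    exact hc a b hab
  haveI : Nonempty Q := ⟨H0⟩
  obtain ⟨img, himg⟩ : ∃ img : Equiv.Perm P → Q, ∀ s ∈ S, ∀ x, I (s x) (img s) ↔ I x H0 :=
    ⟨fun s => Classical.epsilon (fun H'' => ∀ x, I (s x) H'' ↔ I x H0),
      fun s hs => Classical.epsilon_spec (hd s hs H0)⟩
  obtain ⟨T, hT⟩ : ∃ T : Finset (Equiv.Perm P), ∀ s, s ∈ T ↔ s ∈ S ∧ s a = a :=
    ⟨univ.filter (fun s => s ∈ S ∧ s a = a), fun s => by simp⟩
  obtain ⟨Miss, hMiss⟩ : ∃ Miss : Finset Q, ∀ H, H ∈ Miss ↔ ¬ I a H :=
    ⟨univ.filter (fun H => ¬ I a H), fun H => by simp⟩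
  obtain ⟨mm, hmm⟩ : ∃ mm : Q → ℕ, ∀ H, mm H = (T.filter (fun s => img s = H)).card :=
    ⟨_, fun _ => rfl⟩
  have himgMiss : ∀ s ∈ T, img s ∈ Miss := by
    intro s hs
    obtain ⟨hsS, hsa⟩ := (hT s).mp hs
    rw [hMiss]
    intro hI
    have h1 := (himg s hsS a).mp (by rw [hsa]; exact hI)
    exact haH h1
  have htot : T.card = ∑ H ∈ Miss, mm H := by
    rw [Finset.card_eq_sum_card_fiberwise himgMiss]
    exact Finset.sum_congr rfl (fun H _ => (hmm H).symm)
  -- (*)
  have hstar : ∀ b' : P, b' ≠ a → ∑ H ∈ Miss.filter (fun H => I b' H), mm H = h := by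
    intro b' hb'a
    obtain ⟨A, hA⟩ : ∃ A : Finset (Equiv.Perm P), ∀ s, s ∈ A ↔ s ∈ T ∧ I b' (img s) :=
      ⟨T.filter (fun s => I b' (img s)), fun s => by simp⟩
    have hA1 : A.card =
        ∑ H ∈ Miss.filter (fun H => I b' H), (A.filter (fun s => img s = H)).card := by
      apply Finset.card_eq_sum_card_fiberwise
      intro s hs
      rw [Finset.mem_coe] at hs
      rw [Finset.mem_coe, Finset.mem_filter]
      exact ⟨himgMiss s ((hA s).mp hs).1, ((hA s).mp hs).2⟩
    have hA2 : ∀ H ∈ Miss.filter (fun H => I b' H),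
        (A.filter (fun s => img s = H)).card = mm H := by
      intro H hH
      rw [Finset.mem_filter] at hH
      rw [hmm H]
      congr 1
      ext s
      simp only [Finset.mem_filter, hA]
      constructor
      · rintro ⟨⟨h1, _⟩, h3⟩
        exact ⟨h1, h3⟩
      · rintro ⟨h1, h3⟩
        exact ⟨⟨h1, by rw [h3]; exact hH.2⟩, h3⟩
    have hA3 : A.card = h := by
      rw [← ha' H0]
      apply Finset.card_bij (fun s _ => s.symm b')
      · intro s hs
        obtain ⟨hsT, hsI⟩ := (hA s).mp hs
        obtain ⟨hsS, hsa⟩ := (hT s).mp hsT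
        rw [Finset.mem_filter]
        refine ⟨Finset.mem_univ _, ?_⟩
        have h1 := himg s hsS (s.symm b')
        rw [Equiv.apply_symm_apply] at h1
        exact h1.mp hsI
      · intro s hs s' hs' heq
        obtain ⟨hsT, hsI⟩ := (hA s).mp hs
        obtain ⟨hsS, hsa⟩ := (hT s).mp hsT
        obtain ⟨hs'T, hs'I⟩ := (hA s').mp hs'
        obtain ⟨hs'S, hs'a⟩ := (hT s').mp hs'T
        have hx : I (s.symm b') H0 := by
          have h1 := himg s hsS (s.symm b')
          rw [Equiv.apply_symm_apply] at h1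
          exact h1.mp hsI
        have hxa : a ≠ s.symm b' := by
          intro hax
          rw [← hax] at hx
          exact haH hx
        obtain ⟨s0, _, huniq⟩ := he a (s.symm b') a b' hxa (Ne.symm hb'a)
        have e1 : s = s0 := huniq s ⟨hsS, hsa, Equiv.apply_symm_apply s b'⟩
        have e2 : s' = s0 :=
          huniq s' ⟨hs'S, hs'a, by rw [heq]; exact Equiv.apply_symm_apply s' b'⟩
        rw [e1, e2]
      · intro x hx
        rw [Finset.mem_filter] at hx
        have hxa : a ≠ x := by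
          intro hax
          rw [← hax] at hx
          exact haH hx.2
        obtain ⟨s0, ⟨hs0S, hs0a, hs0x⟩, _⟩ := he a x a b' hxa (Ne.symm hb'a)
        refine ⟨s0, ?_, ?_⟩
        · rw [hA]
          refine ⟨(hT s0).mpr ⟨hs0S, hs0a⟩, ?_⟩
          rw [← hs0x]
          exact (himg s0 hs0S x).mpr hx.2
        · rw [← hs0x, Equiv.symm_apply_apply]
    rw [← hA3, hA1]
    exact (Finset.sum_congr rfl hA2).symm
  -- (**)
  have hkey : ∀ H ∈ Miss, mm H * h + h2 * ∑ H'' ∈ Miss.erase H, mm H'' = h * h := by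
    intro H hH
    have hHa : ¬ I a H := (hMiss H).mp hH
    have hpts : (univ.filter (fun x : P => I x H)).card = h := ha' H
    have h1 : ∑ b' ∈ univ.filter (fun x : P => I x H),
        ∑ H'' ∈ Miss.filter (fun H'' => I b' H''), mm H'' = h * h := by
      have h5 : ∀ b' ∈ univ.filter (fun x : P => I x H),
          ∑ H'' ∈ Miss.filter (fun H'' => I b' H''), mm H'' = h := by
        intro b' hb'
        apply hstar
        intro hEq
        rw [hEq] at hb'
        exact hHa (Finset.mem_filter.mp hb').2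
      rw [Finset.sum_congr rfl h5, Finset.sum_const, hpts, smul_eq_mul]
    have h2' : ∑ b' ∈ univ.filter (fun x : P => I x H),
        ∑ H'' ∈ Miss.filter (fun H'' => I b' H''), mm H''
        = ∑ H'' ∈ Miss, ((univ.filter (fun x : P => I x H)).filter
            (fun x => I x H'')).card * mm H'' := by
      have h6 : ∀ b' ∈ univ.filter (fun x : P => I x H),
          ∑ H'' ∈ Miss.filter (fun H'' => I b' H''), mm H''
          = ∑ H'' ∈ Miss, if I b' H'' then mm H'' else 0 := by
        intro b' _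
        rw [Finset.sum_filter]
      rw [Finset.sum_congr rfl h6, Finset.sum_comm]
      apply Finset.sum_congr rfl
      intro H'' _
      rw [← Finset.sum_filter, Finset.sum_const, smul_eq_mul]
    have hcard1 : ((univ.filter (fun x : P => I x H)).filter (fun x => I x H)).card = h := by
      rw [Finset.filter_filter, ← hpts]
      congr 1
      ext x
      simp
    have hcard2 : ∀ H'' ∈ Miss.erase H,
        ((univ.filter (fun x : P => I x H)).filter (fun x => I x H'')).card * mm H''
          = h2 * mm H'' := by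
      intro H'' hH''
      rw [Finset.filter_filter, hb' H H'' (Ne.symm (Finset.ne_of_mem_erase hH''))]
    rw [← h1, h2', ← Finset.add_sum_erase Miss _ hH, hcard1, Finset.sum_congr rfl hcard2,
      ← Finset.mul_sum, mul_comm h (mm H)]
  have hH0 : H0 ∈ Miss := (hMiss H0).mpr haH
  have hconst : ∀ H ∈ Miss, mm H = mm H0 := by
    intro H hH
    have k1 := hkey H hH
    have k2 := hkey H0 hH0
    have t1 : mm H + ∑ H'' ∈ Miss.erase H, mm H'' = T.card := by
      rw [htot]
      exact Finset.add_sum_erase Miss mm hH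
    have t2 : mm H0 + ∑ H'' ∈ Miss.erase H0, mm H'' = T.card := by
      rw [htot]
      exact Finset.add_sum_erase Miss mm hH0
    exact arith_cancel h h2 _ _ _ _ _ hh k1 k2 t1 t2
  refine ⟨mm H0, ?_⟩
  have hfin := hstar b (Ne.symm hab)
  rw [Finset.sum_congr rfl (fun H hH => hconst H (Finset.mem_filter.mp hH).1), Finset.sum_const,
    smul_eq_mul] at hfin
  have hN : (Miss.filter (fun H => I b H)).card = N := by
    rw [← hc' a b hab]
    congr 1
    ext H
    simp only [Finset.mem_filter, Finset.mem_univ, true_and, hMiss]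
    tauto
  rw [hN] at hfin
  exact hfin

end Cfsg.Agent.helper15.S2531x
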