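import Mathlib

set_option autoImplicit false

open Polynomial

namespace Cfsg.Agent.helper15.S2645x

variable {F : Type*} [Field F]

/-- The monic reciprocal of a polynomial. -/
noncomputable def rho (g : F[X]) : F[X] := C (g.coeff 0)⁻¹ * g.reverse

theorem c2_reverse_one : (1 : F[X]).reverse = 1 := by
  have h2 := reverse_C (1 : F)
  rwa [C_1] at h2

theorem c2_reverse_X_sub_one : (X - 1 : F[X]).reverse = -(X - 1) := by
  have h1 : (X - 1 : F[X]) = X + C (-1 : F) := by
    rw [C_neg, C_1, sub_eq_add_neg]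
  have hX : (X : F[X]).reverse = 1 := by
    have h3 := reverse_mul_X (1 : F[X])
    rw [one_mul] at h3
    rw [h3]
    exact c2_reverse_one
  rw [h1, reverse_add_C, hX, natDegree_X, pow_one, C_neg, C_1]
  ring

theorem c2_reverse_pow (p : F[X]) (n : ℕ) : (p ^ n).reverse = p.reverse ^ n := by
  induction n with
  | zero =>
    rw [pow_zero, pow_zero]
    exact c2_reverse_one
  | succ n ih => rw [pow_succ, reverse_mul_of_domain, ih, pow_succ]

theorem c2_eval_one_reverse (p : F[X]) : p.reverse.eval 1 = p.eval 1 := by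
  haveI : Invertible (1 : F) := invertibleOne
  have h := eval₂_reverse_mul_pow (RingHom.id F) (1 : F) p
  rw [invOf_one, one_pow, mul_one] at h
  exact h

theorem c2_eval_one_ne_zero {g : F[X]} (hm : g.Monic) (hirr : Irreducible g)
    (hne : g ≠ X - 1) : g.eval 1 ≠ 0 := by
  intro h
  have hd : (X - C (1 : F)) ∣ g := dvd_iff_isRoot.mpr h
  have ha : Associated (X - C (1 : F)) g :=
    (irreducible_X_sub_C 1).associated_of_dvd hirr hd
  have h3 := eq_of_monic_of_associated (monic_X_sub_C 1) hm ha
  apply hne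
  rw [← h3, C_1]

theorem c2_prod_monic_deg (i : ℕ) (M : Multiset F[X])
    (hM : ∀ g ∈ M, g.Monic ∧ g.natDegree = i) :
    M.prod.Monic ∧ M.prod.natDegree = i * Multiset.card M := by
  induction M using Multiset.induction_on with
  | empty => simp
  | cons a s ih =>
    have ha := hM a (Multiset.mem_cons_self a s)
    have hs := ih (fun g hg => hM g (Multiset.mem_cons_of_mem hg))
    rw [Multiset.prod_cons, Multiset.card_cons]
    refine ⟨ha.1.mul hs.1, ?_⟩
    rw [ha.1.natDegree_mul hs.1, ha.2, hs.2]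
    ring

theorem c2_reverse_prod (M : Multiset F[X]) (hM : ∀ g ∈ M, g.coeff 0 ≠ 0) :
    M.prod.reverse = C ((M.map fun g => g.coeff 0).prod) * (M.map rho).prod := by
  induction M using Multiset.induction_on with
  | empty =>
    simp [c2_reverse_one]
  | cons a s ih =>
    have ha := hM a (Multiset.mem_cons_self a s)
    have hs := ih (fun g hg => hM g (Multiset.mem_cons_of_mem hg))
    rw [Multiset.prod_cons, reverse_mul_of_domain, hs, Multiset.map_cons, Multiset.prod_cons,
      Multiset.map_cons, Multiset.prod_cons, C_mul]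
    have hra : a.reverse = C (a.coeff 0) * rho a := by
      unfold rho
      rw [← mul_assoc, ← C_mul, mul_inv_cancel₀ ha, C_1, one_mul]
    rw [hra]
    ring

theorem c2_card_even {α : Type*} [DecidableEq α] (ρ : α → α) (M : Multiset α)
    (hinv : ∀ a ∈ M, ρ (ρ a) = a) (hfix : ∀ a ∈ M, ρ a ≠ a) (hM : M.map ρ = M) :
    Even (Multiset.card M) := by
  have hmem : ∀ a ∈ M, ρ a ∈ M := by
    intro a ha
    have h1 : ρ a ∈ M.map ρ := Multiset.mem_map_of_mem ρ ha
    rwa [hM] at h1
  have hcount : ∀ a ∈ M, M.count (ρ a) = M.count a := by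
    intro a ha
    have hinj : Set.InjOn ρ {x | x ∈ M} := by
      intro x hx y hy hxy
      have h2 := congrArg ρ hxy
      rwa [hinv x hx, hinv y hy] at h2
    have h3 := Multiset.count_map_eq_count ρ M hinj a ha
    rwa [hM] at h3
  have hsum : ((Multiset.card M : ℕ) : ZMod 2) = 0 := by
    rw [← Multiset.toFinset_sum_count_eq M, Nat.cast_sum]
    refine Finset.sum_involution (fun a _ => ρ a) ?_ ?_ ?_ ?_
    · intro a ha
      rw [hcount a (Multiset.mem_toFinset.mp ha)]
      exact CharTwo.add_self_eq_zero _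
    · intro a ha _
      exact hfix a (Multiset.mem_toFinset.mp ha)
    · intro a ha
      exact Multiset.mem_toFinset.mpr (hmem a (Multiset.mem_toFinset.mp ha))
    · intro a ha
      exact hinv a (Multiset.mem_toFinset.mp ha)
  exact ZMod.natCast_eq_zero_iff_even.mp hsum

theorem pieceC2 {F : Type*} [Field F] (r m i : ℕ) (hr : r.Prime) (hr2 : r ≠ 2) (hi : 0 < i)
    (S : Finset F[X]) (hS : ∀ g ∈ S, g.Monic ∧ Irreducible g ∧ g.natDegree = i)
    (hX : (X - 1 : F[X]) ∉ S) (hprod : (X ^ r - 1 : F[X]) = (X - 1) * ∏ g ∈ S, g)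
    (hrec : ∀ g ∈ S, C (g.coeff 0)⁻¹ * g.reverse ∈ S)
    (hinv : ∀ g ∈ S, C ((C (g.coeff 0)⁻¹ * g.reverse).coeff 0)⁻¹ *
      (C (g.coeff 0)⁻¹ * g.reverse).reverse = g)
    (hpar : ∀ g ∈ S, C (g.coeff 0)⁻¹ * g.reverse = g → Even i)
    (M : Multiset F[X]) (hM : ∀ g ∈ M, g ∈ S) (hMi : i * Multiset.card M ≤ m + m) :
    (∀ k, k ≤ m + m →
      ((X - 1) ^ (m + m - i * Multiset.card M) * M.prod : F[X]).coeff (m + m - k) =
      ((X - 1) ^ (m + m - i * Multiset.card M) * M.prod : F[X]).coeff k) ↔
    M.map (fun g => C (g.coeff 0)⁻¹ * g.reverse) = M := by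
  classical
  change _ ↔ M.map rho = M
  have hρS : ∀ g ∈ S, rho g ∈ S := hrec
  have hρρ : ∀ g ∈ S, rho (rho g) = g := hinv
  have hρfix : ∀ g ∈ S, rho g = g → Even i := hpar
  have h0 : ∀ g ∈ S, g.coeff 0 ≠ 0 := by
    intro g hg h
    have hmon := (hS g hg).1
    have e1 : C (g.coeff 0)⁻¹ * g.reverse = 0 := by rw [h, inv_zero, C_0, zero_mul]
    have e2 := hinv g hg
    rw [e1, reverse_zero, mul_zero] at e2
    exact hmon.ne_zero e2.symm
  have h1 : ∀ g ∈ S, g.eval 1 ≠ 0 := by
    intro g hg
    refine c2_eval_one_ne_zero (hS g hg).1 (hS g hg).2.1 ?_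
    rintro rfl
    exact hX hg
  set e := m + m - i * Multiset.card M with he
  have hMmd : ∀ g ∈ M, g.Monic ∧ g.natDegree = i :=
    fun g hg => ⟨(hS g (hM g hg)).1, (hS g (hM g hg)).2.2⟩
  obtain ⟨hPm, hPd⟩ := c2_prod_monic_deg i M hMmd
  have hM' : ∀ g ∈ M.map rho, g ∈ S := by
    intro g hg
    obtain ⟨a, ha, rfl⟩ := Multiset.mem_map.mp hg
    exact hρS a (hM a ha)
  have hM'md : ∀ g ∈ M.map rho, g.Monic ∧ g.natDegree = i :=
    fun g hg => ⟨(hS g (hM' g hg)).1, (hS g (hM' g hg)).2.2⟩
  obtain ⟨hP'm, hP'd⟩ := c2_prod_monic_deg i (M.map rho) hM'md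
  have hXm : ((X - 1 : F[X]) ^ e).Monic := by
    have h2 := (monic_X_sub_C (1 : F)).pow e
    rwa [C_1] at h2
  have hXd : ((X - 1 : F[X]) ^ e).natDegree = e := by
    have h3 := (monic_X_sub_C (1 : F)).natDegree_pow e
    rw [natDegree_X_sub_C, mul_one, C_1] at h3
    exact h3
  set f := (X - 1 : F[X]) ^ e * M.prod with hf
  have hfm : f.Monic := hXm.mul hPm
  have hfd : f.natDegree = m + m := by
    rw [hf, hXm.natDegree_mul hPm, hXd, hPd, he]
    exact Nat.sub_add_cancel hMi
  set c0 := (M.map fun g => g.coeff 0).prod with hc0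
  have hrev : f.reverse = C ((-1) ^ e * c0) * ((X - 1) ^ e * (M.map rho).prod) := by
    rw [hf, reverse_mul_of_domain, c2_reverse_pow, c2_reverse_X_sub_one,
      c2_reverse_prod M (fun g hg => h0 g (hM g hg)), neg_pow, C_mul, C_pow, C_neg, C_1]
    ring
  have hpal : (∀ k, k ≤ m + m → f.coeff (m + m - k) = f.coeff k) ↔ f.reverse = f := by
    constructor
    · intro h
      ext n
      rw [coeff_reverse, hfd]
      by_cases hn : n ≤ m + m
      · rw [revAt_le hn]
        exact h n hn
      · rw [revAt_eq_self_of_lt (Nat.lt_of_not_le hn)]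
    · intro h k hk
      have h5 : f.reverse.coeff (m + m - k) = f.coeff k := by
        rw [coeff_reverse, hfd, revAt_le (Nat.sub_le _ _)]
        congr 1
        omega
      rw [← h5, h]
  refine hpal.trans ?_
  rw [hrev]
  have hf'm : ((X - 1 : F[X]) ^ e * (M.map rho).prod).Monic := hXm.mul hP'm
  constructor
  · intro h
    have hc : (-1 : F) ^ e * c0 = 1 := by
      have h6 := congrArg leadingCoeff h
      rw [leadingCoeff_mul, leadingCoeff_C, hf'm.leadingCoeff, hfm.leadingCoeff, mul_one] at h6
      exact h6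
    rw [hc, C_1, one_mul, hf] at h
    have hPP : (M.map rho).prod = M.prod := mul_left_cancel₀ hXm.ne_zero h
    have hrel : Multiset.Rel Associated (M.map rho) M :=
      UniqueFactorizationMonoid.factors_unique (fun x hx => (hS x (hM' x hx)).2.1)
        (fun x hx => (hS x (hM x hx)).2.1) (hPP ▸ Associated.refl _)
    have hrel2 : Multiset.Rel (· = ·) (M.map rho) M :=
      hrel.mono (fun a ha b hb hab =>
        eq_of_monic_of_associated (hS a (hM' a ha)).1 (hS b (hM b hb)).1 hab)
    exact Multiset.rel_eq.mp hrel2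
  · intro h
    have hPP : (M.map rho).prod = M.prod := by rw [h]
    have hc0' : c0 = 1 := by
      have h7 := c2_reverse_prod M (fun g hg => h0 g (hM g hg))
      rw [hPP] at h7
      have h8 := congrArg (eval 1) h7
      rw [c2_eval_one_reverse, eval_mul, eval_C] at h8
      have hne : M.prod.eval 1 ≠ 0 := by
        rw [eval_multiset_prod]
        apply Multiset.prod_ne_zero
        intro h9
        obtain ⟨g, hg, hg0⟩ := Multiset.mem_map.mp h9
        exact h1 g (hM g hg) hg0
      have h11 : (c0 - 1) * M.prod.eval 1 = 0 := by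
        rw [sub_mul, one_mul, ← h8, sub_self]
      rcases mul_eq_zero.mp h11 with h10 | h10
      · exact sub_eq_zero.mp h10
      · exact absurd h10 hne
    have hsign : (-1 : F) ^ e = 1 := by
      have hev : Even e := by
        have hprodEven : Even (i * Multiset.card M) := by
          rcases Nat.even_or_odd i with hi2 | hi2
          · exact hi2.mul_right _
          · have hcard : Even (Multiset.card M) := by
              apply c2_card_even rho M
              · intro a ha
                exact hρρ a (hM a ha)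
              · intro a ha hfix
                exact (Nat.not_even_iff_odd.mpr hi2) (hρfix a (hM a ha) hfix)
              · exact h
            exact hcard.mul_left _
        rw [he]
        exact (Nat.even_sub hMi).mpr ⟨fun _ => hprodEven, fun _ => ⟨m, rfl⟩⟩
      exact hev.neg_one_pow
    rw [hsign, hc0', one_mul, C_1, one_mul, hPP]

end Cfsg.Agent.helper15.S2645x
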