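import Mathlib
import Cfsg.Agent.Lib_helper25_SSimple

set_option autoImplicit false

open Polynomial

namespace Cfsg.Agent.helper15.S2670g

open Cfsg.Agent.helper25.SSimple

section general
variable {F : Type*} [Field F] {n : ℕ}

/-- scaling of a polynomial: `f(X) ↦ μ ^ n * f(X / μ)`. -/
noncomputable def scl (n : ℕ) (μ : F) (f : F[X]) : F[X] := C (μ ^ n) * f.comp (C μ⁻¹ * X)

theorem mapMatrix_smul_one (c : F) :
    (C.mapMatrix (c • (1 : Matrix (Fin n) (Fin n) F))) = Matrix.scalar (Fin n) (C c) := by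
  ext i j
  by_cases h : i = j
  · subst h
    simp
  · simp [h]

/-- if `A ^ r = c • 1` then the characteristic polynomial of `A` divides `(X ^ r - c) ^ n`. -/
theorem charpoly_dvd_of_pow_eq_smul (A : Matrix (Fin n) (Fin n) F) (r : ℕ) (c : F)
    (hA : A ^ r = c • 1) : A.charpoly ∣ (X ^ r - C c) ^ n := by
  have hcomm : Commute (Matrix.scalar (Fin n) (X : F[X])) (C.mapMatrix A) :=
    Matrix.scalar_commute _ (fun _ => Commute.all _ _) _
  have h1 := hcomm.geom_sum₂_mul r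
  have h2 : (C.mapMatrix A) ^ r = Matrix.scalar (Fin n) (C c) := by
    rw [← map_pow, hA, mapMatrix_smul_one]
  have h3 : (Matrix.scalar (Fin n) (X : F[X])) ^ r - (C.mapMatrix A) ^ r =
      Matrix.scalar (Fin n) (X ^ r - C c : F[X]) := by
    rw [h2, ← map_pow, map_sub]
  rw [h3] at h1
  have h4 := congrArg Matrix.det h1
  have hdet : (Matrix.scalar (Fin n) (X ^ r - C c : F[X])).det = (X ^ r - C c) ^ n := by
    rw [Matrix.scalar_apply, Matrix.det_diagonal, Finset.prod_const, Finset.card_univ,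
      Fintype.card_fin]
  rw [Matrix.det_mul, hdet] at h4
  have hcp : A.charpoly = (Matrix.scalar (Fin n) (X : F[X]) - C.mapMatrix A).det := rfl
  rw [← h4, hcp]
  exact Dvd.intro_left _ rfl

theorem val_pow_GL (g : GL (Fin n) F) (k : ℕ) :
    ((g ^ k : GL (Fin n) F) : Matrix (Fin n) (Fin n) F) = (g : Matrix (Fin n) (Fin n) F) ^ k :=
  Units.val_pow_eq_pow_val g k

/-- for a `p`-regular element, `charpoly ∣ (X ^ r - c) ^ n` forces `g ^ r = c`. -/
theorem pow_eq_smul_of_charpoly_dvd (p : ℕ) [Fact p.Prime] [CharP F p] (hn : 0 < n) (r : ℕ) (c : F)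
    (g : GL (Fin n) F) (hg : (orderOf g).Coprime p)
    (h : (g : Matrix (Fin n) (Fin n) F).charpoly ∣ (X ^ r - C c) ^ n) :
    (g : Matrix (Fin n) (Fin n) F) ^ r = c • 1 := by
  obtain ⟨A, hAdef⟩ : ∃ A : Matrix (Fin n) (Fin n) F, A = (g : Matrix (Fin n) (Fin n) F) :=
    ⟨_, rfl⟩
  obtain ⟨N, hNdef⟩ : ∃ N : ℕ, N = orderOf g := ⟨_, rfl⟩
  have hN : A ^ N = 1 := by
    rw [hAdef, ← val_pow_GL, hNdef, pow_orderOf_eq_one]
    rfl
  have hNF : ((N : ℕ) : F) ≠ 0 := by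
    intro h0
    rw [CharP.cast_eq_zero_iff F p] at h0
    rw [hNdef] at h0
    have h4 : p = 1 := Nat.Coprime.eq_one_of_dvd hg.symm h0
    exact (Fact.out : p.Prime).one_lt.ne' h4
  have hsep : (X ^ N - C (1 : F) : F[X]).Separable :=
    Polynomial.separable_X_pow_sub_C 1 hNF one_ne_zero
  have hdvd : minpoly F A ∣ X ^ N - C (1 : F) := by
    apply minpoly.dvd
    rw [map_sub, map_pow, aeval_X, aeval_C, map_one, hN, sub_self]
  have hsq : Squarefree (minpoly F A) := hsep.squarefree.squarefree_of_dvd hdvd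
  have h1 : minpoly F A ∣ (X ^ r - C c : F[X]) ^ n :=
    dvd_trans (Matrix.minpoly_dvd_charpoly A) (hAdef ▸ h)
  have h2 : minpoly F A ∣ (X ^ r - C c : F[X]) :=
    (hsq.dvd_pow_iff_dvd (by omega)).mp h1
  obtain ⟨d, hd⟩ := h2
  have h3 : aeval A (X ^ r - C c : F[X]) = 0 := by
    rw [hd, map_mul, minpoly.aeval, zero_mul]
  rw [map_sub, map_pow, aeval_X, aeval_C, sub_eq_zero] at h3
  rw [← hAdef, h3, Algebra.algebraMap_eq_smul_one]

/-- squarefreeness of the minimal polynomial of a `p`-regular element. -/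
theorem squarefree_minpoly (p : ℕ) [Fact p.Prime] [CharP F p]
    (g : GL (Fin n) F) (hg : (orderOf g).Coprime p) :
    Squarefree (minpoly F (g : Matrix (Fin n) (Fin n) F)) := by
  obtain ⟨N, hNdef⟩ : ∃ N : ℕ, N = orderOf g := ⟨_, rfl⟩
  have hN : (g : Matrix (Fin n) (Fin n) F) ^ N = 1 := by
    rw [← val_pow_GL, hNdef, pow_orderOf_eq_one]
    rfl
  have hNF : ((N : ℕ) : F) ≠ 0 := by
    intro h0
    rw [CharP.cast_eq_zero_iff F p] at h0
    rw [hNdef] at h0
    have h4 : p = 1 := Nat.Coprime.eq_one_of_dvd hg.symm h0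
    exact (Fact.out : p.Prime).one_lt.ne' h4
  have hsep : (X ^ N - C (1 : F) : F[X]).Separable :=
    Polynomial.separable_X_pow_sub_C 1 hNF one_ne_zero
  have hdvd : minpoly F (g : Matrix (Fin n) (Fin n) F) ∣ X ^ N - C (1 : F) := by
    apply minpoly.dvd
    rw [map_sub, map_pow, aeval_X, aeval_C, map_one, hN, sub_self]
  exact hsep.squarefree.squarefree_of_dvd hdvd

/-- a `p`-regular element whose characteristic polynomial is `(X - a) ^ n` is the scalar `a`. -/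
theorem eq_smul_of_charpoly_eq_pow (p : ℕ) [Fact p.Prime] [CharP F p] (hn : 0 < n) (a : F)
    (g : GL (Fin n) F) (hg : (orderOf g).Coprime p)
    (h : (g : Matrix (Fin n) (Fin n) F).charpoly = (X - C a) ^ n) :
    (g : Matrix (Fin n) (Fin n) F) = a • 1 := by
  have hsq := squarefree_minpoly p g hg
  have h1 : minpoly F (g : Matrix (Fin n) (Fin n) F) ∣ (X - C a : F[X]) ^ n := by
    rw [← h]
    exact Matrix.minpoly_dvd_charpoly _
  have h2 : minpoly F (g : Matrix (Fin n) (Fin n) F) ∣ (X - C a : F[X]) :=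
    (hsq.dvd_pow_iff_dvd (by omega)).mp h1
  obtain ⟨d, hd⟩ := h2
  have h3 : aeval (g : Matrix (Fin n) (Fin n) F) (X - C a : F[X]) = 0 := by
    rw [hd, map_mul, minpoly.aeval, zero_mul]
  rw [map_sub, aeval_X, aeval_C, sub_eq_zero] at h3
  rw [h3, Algebra.algebraMap_eq_smul_one]

end general


section pgl
variable {F : Type*} [Field F] {n : ℕ}

theorem charpoly_smul_one (a : F) :
    (a • (1 : Matrix (Fin n) (Fin n) F)).charpoly = (X - C a) ^ n := by
  have hcp : (a • (1 : Matrix (Fin n) (Fin n) F)).charpoly =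
      (Matrix.scalar (Fin n) (X : F[X]) - C.mapMatrix (a • (1 : Matrix (Fin n) (Fin n) F))).det :=
    rfl
  rw [hcp, mapMatrix_smul_one, ← map_sub, Matrix.scalar_apply, Matrix.det_diagonal,
    Finset.prod_const, Finset.card_univ, Fintype.card_fin]

variable [NeZero n]

theorem mem_center_iff' {x : GL (Fin n) F} :
    x ∈ Subgroup.center (GL (Fin n) F) ↔ ∃ c : F, (x : Matrix (Fin n) (Fin n) F) = c • 1 := by
  rw [Matrix.GeneralLinearGroup.mem_center_iff_val_mem_range_scalar]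
  constructor
  · rintro ⟨c, hc⟩
    refine ⟨c, ?_⟩
    rw [← hc, Matrix.scalar_apply, Matrix.smul_one_eq_diagonal]
  · rintro ⟨c, hc⟩
    refine ⟨c, ?_⟩
    rw [hc, Matrix.scalar_apply, Matrix.smul_one_eq_diagonal]

theorem isConj_iff' (A B : GL (Fin n) F) :
    IsConj (QuotientGroup.mk A : GL (Fin n) F ⧸ Subgroup.center (GL (Fin n) F)) (QuotientGroup.mk B) ↔
      ∃ P : GL (Fin n) F, ∃ c : F, c ≠ 0 ∧ (B : Matrix (Fin n) (Fin n) F) =
        c • ((P : Matrix (Fin n) (Fin n) F) * (A : Matrix (Fin n) (Fin n) F) *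
          ((P⁻¹ : GL (Fin n) F) : Matrix (Fin n) (Fin n) F)) := by
  rw [isConj_iff]
  constructor
  · rintro ⟨g, hg⟩
    obtain ⟨P, rfl⟩ := QuotientGroup.mk_surjective g
    rw [← QuotientGroup.mk_inv, ← QuotientGroup.mk_mul, ← QuotientGroup.mk_mul,
      QuotientGroup.eq, mem_center_iff'] at hg
    obtain ⟨c, hc⟩ := hg
    set s : GL (Fin n) F := (P * A * P⁻¹)⁻¹ * B with hs
    have hB : B = P * A * P⁻¹ * s := by rw [hs]; group
    refine ⟨P, c, ?_, ?_⟩
    · rintro rfl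
      rw [zero_smul] at hc
      have h2 := s.mul_inv
      rw [hc, zero_mul] at h2
      exact zero_ne_one h2
    · have h3 := congrArg (fun x : GL (Fin n) F => (x : Matrix (Fin n) (Fin n) F)) hB
      simp only [Units.val_mul] at h3
      rw [h3, hc, Matrix.mul_smul, Matrix.mul_one]
  · rintro ⟨P, c, hc, hB⟩
    refine ⟨QuotientGroup.mk P, ?_⟩
    rw [← QuotientGroup.mk_inv, ← QuotientGroup.mk_mul, ← QuotientGroup.mk_mul,
      QuotientGroup.eq, mem_center_iff']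
    refine ⟨c, ?_⟩
    have h1 : (B : Matrix (Fin n) (Fin n) F) =
        ((P * A * P⁻¹ : GL (Fin n) F) : Matrix (Fin n) (Fin n) F) * (c • 1) := by
      rw [hB, Matrix.mul_smul, Matrix.mul_one]
      rfl
    rw [Units.val_mul, h1, ← mul_assoc, Units.inv_mul, one_mul]

theorem orderOf_eq_iff (r : ℕ) (hr : r.Prime) (A : GL (Fin n) F) :
    orderOf (QuotientGroup.mk A : GL (Fin n) F ⧸ Subgroup.center (GL (Fin n) F)) = r ↔
      (∃ c : F, c ≠ 0 ∧ (A : Matrix (Fin n) (Fin n) F) ^ r = c • 1) ∧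
        ∀ c : F, (A : Matrix (Fin n) (Fin n) F) ≠ c • 1 := by
  haveI : Fact r.Prime := ⟨hr⟩
  rw [orderOf_eq_prime_iff, ← QuotientGroup.mk_pow, QuotientGroup.eq_one_iff, Ne,
    QuotientGroup.eq_one_iff, mem_center_iff', mem_center_iff']
  constructor
  · rintro ⟨⟨z, hz⟩, hns⟩
    rw [val_pow_GL] at hz
    refine ⟨⟨z, ?_, hz⟩, fun c hc => hns ⟨c, hc⟩⟩
    rintro rfl
    rw [zero_smul] at hz
    have h2 := (A ^ r).mul_inv
    rw [val_pow_GL, hz, zero_mul] at h2
    exact zero_ne_one h2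
  · rintro ⟨⟨z, _, hz⟩, hns⟩
    refine ⟨⟨z, ?_⟩, fun ⟨c, hc⟩ => hns c hc⟩
    rw [val_pow_GL]
    exact hz

theorem coprime_of_pow_eq_smul [Fintype F] (p : ℕ) [Fact p.Prime] [CharP F p] (r : ℕ)
    (hrq : r ∣ Fintype.card F - 1) (g : GL (Fin n) F) (c : F) (hc : c ≠ 0)
    (h : (g : Matrix (Fin n) (Fin n) F) ^ r = c • 1) : (orderOf g).Coprime p := by
  have hp := (Fact.out : p.Prime)
  obtain ⟨q, hq⟩ : ∃ q : ℕ, q = Fintype.card F := ⟨_, rfl⟩
  rw [← hq] at hrq
  have h1 : g ^ (r * (q - 1)) = 1 := by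
    apply Units.ext
    rw [val_pow_GL, pow_mul, h, _root_.smul_pow, one_pow, hq, FiniteField.pow_card_sub_one_eq_one c hc,
      one_smul]
    rfl
  have h2 : orderOf g ∣ r * (q - 1) := orderOf_dvd_of_pow_eq_one h1
  have h3 : ¬ p ∣ q - 1 := by
    intro hdvd
    obtain ⟨k, _, hqk⟩ := FiniteField.card F p
    have hpq : p ∣ q := by
      rw [hq, hqk]
      exact dvd_pow_self p k.ne_zero
    have hq1 : 1 ≤ q := by
      rw [hq]
      exact Fintype.card_pos
    have h5 : p ∣ (q - 1) + 1 := by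
      rw [Nat.sub_add_cancel hq1]
      exact hpq
    have h6 : p ∣ 1 := (Nat.dvd_add_right hdvd).mp h5
    exact hp.one_lt.ne' (Nat.dvd_one.mp h6)
  have h4 : (q - 1).Coprime p := ((Nat.Prime.coprime_iff_not_dvd hp).mpr h3).symm
  have h5 : r.Coprime p := Nat.Coprime.coprime_dvd_left hrq h4
  exact Nat.Coprime.coprime_dvd_left h2 (Nat.Coprime.mul_left h5 h4)

end pgl


section gs
variable {F : Type*} [Field F] [Fintype F] {n : ℕ} [NeZero n]

/-- (i) the characteristic polynomial of a lift of an element of order `r`. -/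
theorem gs1 (p : ℕ) [Fact p.Prime] [CharP F p] (r : ℕ) (hr : r.Prime)
    (hrq : r ∣ Fintype.card F - 1) (A : GL (Fin n) F)
    (hA : orderOf (QuotientGroup.mk A : GL (Fin n) F ⧸ Subgroup.center (GL (Fin n) F)) = r) :
    (orderOf A).Coprime p ∧
    (∃ c : F, c ≠ 0 ∧ (A : Matrix (Fin n) (Fin n) F).charpoly ∣ (X ^ r - C c) ^ n) ∧
    ¬ ∃ a : F, (A : Matrix (Fin n) (Fin n) F).charpoly = (X - C a) ^ n := by
  obtain ⟨⟨c, hc, hAr⟩, hns⟩ := (orderOf_eq_iff r hr A).mp hA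
  have hreg := coprime_of_pow_eq_smul p r hrq A c hc hAr
  refine ⟨hreg, ⟨c, hc, charpoly_dvd_of_pow_eq_smul _ r c hAr⟩, ?_⟩
  rintro ⟨a, ha⟩
  exact hns a (eq_smul_of_charpoly_eq_pow p (Nat.pos_of_ne_zero (NeZero.ne n)) a A hreg ha)

/-- (ii) every admissible polynomial occurs. -/
theorem gs2 (p : ℕ) [Fact p.Prime] [CharP F p] (r : ℕ) (hr : r.Prime)
    (f : F[X]) (hf : f.Monic) (hd : f.natDegree = n) (c : F) (hc : c ≠ 0)
    (hdvd : f ∣ (X ^ r - C c) ^ n) (hns : ¬ ∃ a : F, f = (X - C a) ^ n) :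
    ∃ A : GL (Fin n) F,
      orderOf (QuotientGroup.mk A : GL (Fin n) F ⧸ Subgroup.center (GL (Fin n) F)) = r ∧
      (A : Matrix (Fin n) (Fin n) F).charpoly = f := by
  have hn : 0 < n := Nat.pos_of_ne_zero (NeZero.ne n)
  have h0 : f.coeff 0 ≠ 0 := by
    intro h0
    have h1 : (X : F[X]) ∣ f := X_dvd_iff.mpr h0
    have h2 : (X : F[X]) ∣ (X ^ r - C c) := prime_X.dvd_of_dvd_pow (dvd_trans h1 hdvd)
    have h3 := X_dvd_iff.mp h2
    rw [coeff_sub, coeff_X_pow, coeff_C_zero, if_neg hr.pos.ne, zero_sub, neg_eq_zero] at h3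
    exact hc h3
  obtain ⟨A, hAreg, hAc⟩ := exists_GL_of_charpoly p f hf hd h0
  refine ⟨A, ?_, hAc⟩
  have hAr : (A : Matrix (Fin n) (Fin n) F) ^ r = c • 1 :=
    pow_eq_smul_of_charpoly_dvd p hn r c A hAreg (hAc ▸ hdvd)
  rw [orderOf_eq_iff r hr A]
  refine ⟨⟨c, hc, hAr⟩, ?_⟩
  intro a ha
  apply hns
  refine ⟨a, ?_⟩
  rw [← hAc, ha, charpoly_smul_one]

/-- (iii) conjugacy in the projective group in terms of characteristic polynomials. -/
theorem gs3 (p : ℕ) [Fact p.Prime] [CharP F p] (r : ℕ) (hr : r.Prime)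
    (hrq : r ∣ Fintype.card F - 1)
    (hS1 : ∀ (M : Matrix (Fin n) (Fin n) F) (μ : F), μ ≠ 0 →
      (μ • M).charpoly = C (μ ^ n) * M.charpoly.comp (C μ⁻¹ * X))
    (A B : GL (Fin n) F)
    (hA : orderOf (QuotientGroup.mk A : GL (Fin n) F ⧸ Subgroup.center (GL (Fin n) F)) = r)
    (hB : orderOf (QuotientGroup.mk B : GL (Fin n) F ⧸ Subgroup.center (GL (Fin n) F)) = r) :
    IsConj (QuotientGroup.mk A : GL (Fin n) F ⧸ Subgroup.center (GL (Fin n) F))
        (QuotientGroup.mk B) ↔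
      ∃ μ : F, μ ≠ 0 ∧ (B : Matrix (Fin n) (Fin n) F).charpoly =
        C (μ ^ n) * (A : Matrix (Fin n) (Fin n) F).charpoly.comp (C μ⁻¹ * X) := by
  rw [isConj_iff']
  constructor
  · rintro ⟨P, c, hc, hB'⟩
    refine ⟨c, hc, ?_⟩
    rw [hB', hS1 _ c hc, Matrix.coe_units_inv, Matrix.charpoly_units_conj]
  · rintro ⟨μ, hμ, hch⟩
    obtain ⟨⟨c, hc, hAr⟩, _⟩ := (orderOf_eq_iff r hr A).mp hA
    obtain ⟨⟨c', hc', hBr⟩, _⟩ := (orderOf_eq_iff r hr B).mp hB
    have hBreg := coprime_of_pow_eq_smul p r hrq B c' hc' hBr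
    -- the scaled element
    let A' : GL (Fin n) F :=
      ⟨μ • (A : Matrix (Fin n) (Fin n) F), μ⁻¹ • ((A⁻¹ : GL (Fin n) F) : Matrix (Fin n) (Fin n) F),
        by rw [Matrix.smul_mul, Matrix.mul_smul, smul_smul, mul_inv_cancel₀ hμ, one_smul,
          Units.mul_inv],
        by rw [Matrix.smul_mul, Matrix.mul_smul, smul_smul, inv_mul_cancel₀ hμ, one_smul,
          Units.inv_mul]⟩
    have hA'val : (A' : Matrix (Fin n) (Fin n) F) = μ • (A : Matrix (Fin n) (Fin n) F) := rfl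
    have hA'r : (A' : Matrix (Fin n) (Fin n) F) ^ r = (μ ^ r * c) • 1 := by
      rw [hA'val, _root_.smul_pow, hAr, smul_smul]
    have hA'reg := coprime_of_pow_eq_smul p r hrq A' (μ ^ r * c)
      (mul_ne_zero (pow_ne_zero r hμ) hc) hA'r
    have hcp : (A' : Matrix (Fin n) (Fin n) F).charpoly = (B : Matrix (Fin n) (Fin n) F).charpoly := by
      rw [hA'val, hS1 _ μ hμ, hch]
    have hconj := isConj_of_charpoly_eq p A' B hA'reg hBreg hcp
    obtain ⟨P, hP⟩ := isConj_iff.mp hconj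
    refine ⟨P, μ, hμ, ?_⟩
    have h3 := congrArg (fun x : GL (Fin n) F => (x : Matrix (Fin n) (Fin n) F)) hP
    simp only [Units.val_mul] at h3
    rw [← h3, hA'val, Matrix.mul_smul, Matrix.smul_mul]

end gs

end Cfsg.Agent.helper15.S2670g
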