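import Mathlib

set_option autoImplicit false
open Polynomial

namespace Cfsg.Agent.helper6.S2670x

/-- PIECE S4: `c` not an `r`-th power -/
theorem pieceS4 {F : Type*} [Field F] (n r : ℕ) (hr : r.Prime) (c : F) (hc : ∀ b : F, b ^ r ≠ c)
    (f : F[X]) (hf : f.Monic) (hd : f.natDegree = n) (h : f ∣ (X ^ r - C c) ^ n) :
    r ∣ n ∧ f = (X ^ r - C c) ^ (n / r) := by
  have hirr : Irreducible (X ^ r - C c : F[X]) := X_pow_sub_C_irreducible_of_prime hr hc
  have hmon : (X ^ r - C c : F[X]).Monic := monic_X_pow_sub_C c hr.ne_zero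
  have hdeg : (X ^ r - C c : F[X]).natDegree = r := natDegree_X_pow_sub_C
  obtain ⟨i, -, hi⟩ := (dvd_prime_pow hirr.prime n).mp h
  have hfi : f = (X ^ r - C c) ^ i := eq_of_monic_of_associated hf (hmon.pow i) hi
  have hn : n = i * r := by
    rw [← hd, hfi, hmon.natDegree_pow, hdeg]
  have hi' : n / r = i := by
    rw [hn, Nat.mul_div_cancel _ hr.pos]
  exact ⟨⟨i, by rw [hn, mul_comm]⟩, by rw [hi', hfi]⟩

end Cfsg.Agent.helper6.S2670x
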