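import Mathlib
import Cfsg.Agent.Lib_helper15_S2670g
import Cfsg.Agent.Lib_helper3_S2670x
import Cfsg.Agent.Lib_helper9_S2670x
import Cfsg.Agent.Lib_helper6_S2670x
import Cfsg.Agent.Lib_helper6_S2670y
import Cfsg.Agent.Lib_helper16_S2670x

set_option autoImplicit false

open Polynomial

namespace Cfsg.Agent.helper15.S2670p

open Cfsg.Agent.helper15.S2670g

section basic
variable {F : Type*} [Field F]

/-- the admissible polynomials. -/
def Pred (n r : ℕ) (f : F[X]) : Prop :=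
  f.Monic ∧ f.natDegree = n ∧ (∃ c : F, c ≠ 0 ∧ f ∣ (X ^ r - C c) ^ n) ∧
    ¬ ∃ a : F, f = (X - C a) ^ n

theorem scl_def (n : ℕ) (μ : F) (f : F[X]) : scl n μ f = C (μ ^ n) * f.comp (C μ⁻¹ * X) := rfl

theorem scl_one (n : ℕ) (f : F[X]) : scl n (1 : F) f = f :=
  (Cfsg.Agent.helper9.S2670x.pieceS2b n f).1

theorem scl_mul (n : ℕ) (μ ν : F) (hμ : μ ≠ 0) (hν : ν ≠ 0) (f : F[X]) :
    scl n (μ * ν) f = scl n μ (scl n ν f) :=
  (Cfsg.Agent.helper9.S2670x.pieceS2b n f).2 μ ν hμ hν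

theorem scl_inv_scl (n : ℕ) (μ : F) (hμ : μ ≠ 0) (f : F[X]) : scl n μ⁻¹ (scl n μ f) = f := by
  rw [← scl_mul n μ⁻¹ μ (inv_ne_zero hμ) hμ, inv_mul_cancel₀ hμ, scl_one]

theorem scl_scl_inv (n : ℕ) (μ : F) (hμ : μ ≠ 0) (f : F[X]) : scl n μ (scl n μ⁻¹ f) = f := by
  rw [← scl_mul n μ μ⁻¹ hμ (inv_ne_zero hμ), mul_inv_cancel₀ hμ, scl_one]

theorem scl_monic (n r : ℕ) (μ : F) (hμ : μ ≠ 0) (f : F[X]) (hf : f.Monic) (hd : f.natDegree = n) :
    (scl n μ f).Monic := (Cfsg.Agent.helper3.S2670x.pieceS2 n r μ hμ f hf hd).1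

theorem scl_natDegree (n r : ℕ) (μ : F) (hμ : μ ≠ 0) (f : F[X]) (hf : f.Monic)
    (hd : f.natDegree = n) : (scl n μ f).natDegree = n :=
  (Cfsg.Agent.helper3.S2670x.pieceS2 n r μ hμ f hf hd).2.1

theorem scl_dvd (n r : ℕ) (μ : F) (hμ : μ ≠ 0) (f : F[X]) (hf : f.Monic) (hd : f.natDegree = n)
    (c : F) (h : f ∣ (X ^ r - C c) ^ n) : scl n μ f ∣ (X ^ r - C (μ ^ r * c)) ^ n :=
  (Cfsg.Agent.helper3.S2670x.pieceS2 n r μ hμ f hf hd).2.2.1 c h

theorem scl_lin (n r : ℕ) (μ : F) (hμ : μ ≠ 0) (f : F[X]) (hf : f.Monic) (hd : f.natDegree = n)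
    (a : F) (h : f = (X - C a) ^ n) : scl n μ f = (X - C (μ * a)) ^ n :=
  (Cfsg.Agent.helper3.S2670x.pieceS2 n r μ hμ f hf hd).2.2.2.1 a h

theorem scl_pow (n r : ℕ) (μ : F) (hμ : μ ≠ 0) (f : F[X]) (hf : f.Monic) (hd : f.natDegree = n)
    (c : F) (k : ℕ) (h : f = (X ^ r - C c) ^ k) (hk : r * k = n) :
    scl n μ f = (X ^ r - C (μ ^ r * c)) ^ k :=
  (Cfsg.Agent.helper3.S2670x.pieceS2 n r μ hμ f hf hd).2.2.2.2 c k h hk

theorem pred_scl (n r : ℕ) (μ : F) (hμ : μ ≠ 0) (f : F[X]) (hf : Pred n r f) :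
    Pred n r (scl n μ f) := by
  obtain ⟨hm, hd, ⟨c, hc, hdvd⟩, hns⟩ := hf
  have h1 := scl_monic n r μ hμ f hm hd
  have h2 := scl_natDegree n r μ hμ f hm hd
  refine ⟨h1, h2, ⟨μ ^ r * c, mul_ne_zero (pow_ne_zero r hμ) hc, scl_dvd n r μ hμ f hm hd c hdvd⟩, ?_⟩
  rintro ⟨a, ha⟩
  apply hns
  refine ⟨μ⁻¹ * a, ?_⟩
  have h3 := scl_lin n r μ⁻¹ (inv_ne_zero hμ) (scl n μ f) h1 h2 a ha
  rw [scl_inv_scl n μ hμ] at h3
  exact h3

/-- the action of the scalars on the admissible polynomials. -/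
noncomputable instance actionPP (n r : ℕ) : MulAction Fˣ {f : F[X] // Pred n r f} where
  smul μ f := ⟨scl n (μ : F) f.1, pred_scl n r (μ : F) μ.ne_zero f.1 f.2⟩
  one_smul f := Subtype.ext (by
    show scl n ((1 : Fˣ) : F) f.1 = f.1
    rw [Units.val_one]
    exact scl_one n f.1)
  mul_smul μ ν f := Subtype.ext (by
    show scl n ((μ * ν : Fˣ) : F) f.1 = scl n (μ : F) (scl n (ν : F) f.1)
    rw [Units.val_mul]
    exact scl_mul n (μ : F) (ν : F) μ.ne_zero ν.ne_zero f.1)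

theorem smul_val (n r : ℕ) (μ : Fˣ) (f : {f : F[X] // Pred n r f}) :
    (μ • f).1 = scl n (μ : F) f.1 := rfl

theorem finite_PP [Finite F] (n r : ℕ) : Finite {f : F[X] // Pred n r f} := by
  apply Finite.of_injective
    (fun f : {f : F[X] // Pred n r f} => fun i : Fin (n + 1) => f.1.coeff i)
  intro f g h
  apply Subtype.ext
  ext k
  by_cases hk : k < n + 1
  · exact congrFun h ⟨k, hk⟩
  · rw [coeff_eq_zero_of_natDegree_lt, coeff_eq_zero_of_natDegree_lt]
    · rw [g.2.2.1]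
      omega
    · rw [f.2.2.1]
      omega

end basic


section count
variable {F : Type*} [Field F] [Fintype F]

/-- the fibre over `c` (non-scalar polynomials). -/
abbrev Xns (F : Type*) [Field F] (n r : ℕ) (c : F) : Type _ :=
  {f : F[X] // f.Monic ∧ f.natDegree = n ∧ f ∣ (X ^ r - C c) ^ n ∧ ¬ ∃ a : F, f = (X - C a) ^ n}

/-- the scalar attached to an admissible polynomial. -/
noncomputable def cF (n r : ℕ) (f : {f : F[X] // Pred n r f}) : F := Classical.choose f.2.2.2.1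

theorem cF_spec (n r : ℕ) (f : {f : F[X] // Pred n r f}) :
    cF n r f ≠ 0 ∧ f.1 ∣ (X ^ r - C (cF n r f)) ^ n := Classical.choose_spec f.2.2.2.1

/-- the scalar as a unit. -/
noncomputable def cU (n r : ℕ) (f : {f : F[X] // Pred n r f}) : Fˣ :=
  Units.mk0 (cF n r f) (cF_spec n r f).1

theorem cF_unique (n r : ℕ) (hn : 1 ≤ n) (hr : r.Prime) (f : {f : F[X] // Pred n r f}) (c : F)
    (h : f.1 ∣ (X ^ r - C c) ^ n) : cF n r f = c :=
  Cfsg.Agent.helper9.S2670x.pieceS3 n r hn hr.one_lt.le f.1 f.2.1 f.2.2.1 _ _ (cF_spec n r f).2 h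

theorem card_fibre (n r : ℕ) (hn : 1 ≤ n) (hr : r.Prime) (c : Fˣ) :
    Nat.card {f : {f : F[X] // Pred n r f} // cU n r f = c} = Nat.card (Xns F n r (c : F)) := by
  apply Nat.card_congr
  refine Equiv.ofBijective
    (fun f => ⟨f.1.1, f.1.2.1, f.1.2.2.1, ?_, f.1.2.2.2.2⟩) ⟨?_, ?_⟩
  · have h1 := (cF_spec n r f.1).2
    have h2 : cF n r f.1 = (c : F) := by
      have := congrArg (fun u : Fˣ => (u : F)) f.2
      exact this
    rw [h2] at h1
    exact h1
  · intro f g h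
    apply Subtype.ext
    apply Subtype.ext
    have h' := congrArg Subtype.val h
    exact h'
  · rintro ⟨g, hm, hd, hdvd, hns⟩
    have hP : Pred n r g := ⟨hm, hd, ⟨c, c.ne_zero, hdvd⟩, hns⟩
    refine ⟨⟨⟨g, hP⟩, ?_⟩, rfl⟩
    apply Units.ext
    exact cF_unique n r hn hr ⟨g, hP⟩ c hdvd

theorem sum_three {α : Type*} [DecidableEq α] [Fintype α] (S : Finset α) (one : α) (h1 : one ∈ S)
    (g : α → ℕ) (A B : ℕ) (hg1 : g one = A) (hgS : ∀ x ∈ S, x ≠ one → g x = B)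
    (hg0 : ∀ x, x ∉ S → g x = 0) : ∑ x, g x = A + (S.card - 1) * B := by
  have h2 : ∑ x, g x = ∑ x ∈ S, g x := by
    symm
    apply Finset.sum_subset (Finset.subset_univ S)
    intro x _ hx
    exact hg0 x hx
  rw [h2, ← Finset.add_sum_erase S g h1, hg1]
  congr 1
  rw [Finset.sum_congr rfl (fun x hx => hgS x (Finset.mem_of_mem_erase hx)
    (Finset.ne_of_mem_erase hx)), Finset.sum_const, Finset.card_erase_of_mem h1, smul_eq_mul]

theorem sum_two {α : Type*} [Fintype α] (P : α → Prop) [DecidablePred P]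
    (g : α → ℕ) (A B : ℕ) (hgP : ∀ x, P x → g x = A) (hgN : ∀ x, ¬ P x → g x = B) :
    ∑ x, g x = (Finset.univ.filter P).card * A + (Fintype.card α - (Finset.univ.filter P).card) * B := by
  rw [← Finset.sum_filter_add_sum_filter_not Finset.univ P g]
  rw [Finset.sum_congr rfl (fun x hx => hgP x (Finset.mem_filter.mp hx).2), Finset.sum_const,
    Finset.sum_congr rfl (fun x hx => hgN x (Finset.mem_filter.mp hx).2), Finset.sum_const,
    smul_eq_mul, smul_eq_mul]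
  congr 2
  have := Finset.card_filter_add_card_filter_not (s := (Finset.univ : Finset α)) P
  rw [Finset.card_univ] at this
  omega


theorem card_units_filter [DecidableEq F] (P : F → Prop) [DecidablePred P] (hP : ∀ x, P x → x ≠ 0) :
    (Finset.univ.filter (fun μ : Fˣ => P (μ : F))).card = Nat.card {x : F // P x} := by
  rw [← Fintype.card_subtype, ← Nat.card_eq_fintype_card]
  apply Nat.card_congr
  exact
    { toFun := fun μ => ⟨(μ.1 : F), μ.2⟩
      invFun := fun x => ⟨Units.mk0 x.1 (hP x.1 x.2), x.2⟩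
      left_inv := fun μ => by
        apply Subtype.ext
        apply Units.ext
        rfl
      right_inv := fun x => by
        apply Subtype.ext
        rfl }

theorem fixed_empty (n r : ℕ) (hn : 1 ≤ n) (hr : r.Prime) (μ : F) (hμ0 : μ ≠ 0) (hμ : μ ^ r ≠ 1)
    (f : F[X]) (hf : Pred n r f) (hfix : scl n μ f = f) : False := by
  obtain ⟨hm, hd, ⟨c, hc, hdvd⟩, _⟩ := hf
  have h1 := scl_dvd n r μ hμ0 f hm hd c hdvd
  rw [hfix] at h1
  have h2 := Cfsg.Agent.helper9.S2670x.pieceS3 n r hn hr.one_lt.le f hm hd _ _ hdvd h1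
  apply hμ
  have h3 : (μ ^ r - 1) * c = 0 := by rw [sub_mul, one_mul, ← h2, sub_self]
  rcases mul_eq_zero.mp h3 with h4 | h4
  · exact sub_eq_zero.mp h4
  · exact absurd h4 hc

theorem polyCount (n r : ℕ) (hn : 1 ≤ n) (hr : r.Prime) (hrq : r ∣ Fintype.card F - 1)
    (hT1 : ∀ μ : F, μ ^ r = 1 → μ ≠ 1 →
      Nat.card {f : F[X] // Pred n r f ∧ scl n μ f = f} =
        (Fintype.card F - 1) * (if r ∣ n then 1 else 0))
    (hT2 : ∀ ν : F, ν ≠ 0 → Nat.card (Xns F n r (ν ^ r)) = Nat.card (Xns F n r 1))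
    (hT3 : Nat.card (Xns F n r 1) + r = Nat.choose (n + r - 1) (r - 1))
    (hT4 : ∀ c : F, c ≠ 0 → (∀ b : F, b ^ r ≠ c) →
      Nat.card (Xns F n r c) = if r ∣ n then 1 else 0)
    (hT6 : ∀ (orb X q1 R N1 C r e : ℕ), 2 ≤ r → R * r = q1 → 0 < q1 → e ≤ 1 →
      orb * q1 = X + (r - 1) * q1 * e → X = R * N1 + (q1 - R) * e → N1 + r = C → q1 * e ≤ X →
      orb = (C - r - e) / r + r * e) :
    Nat.card (MulAction.orbitRel.Quotient Fˣ {f : F[X] // Pred n r f}) =
      (Nat.choose (n + r - 1) (r - 1) - r - (if r ∣ n then 1 else 0)) / r +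
        r * (if r ∣ n then 1 else 0) := by
  classical
  obtain ⟨hS7a, hS7b, ω, hω, hω1⟩ := Cfsg.Agent.helper16.S2670x.pieceS7 r hr hrq
  obtain ⟨e, he⟩ : ∃ e : ℕ, e = if r ∣ n then 1 else 0 := ⟨_, rfl⟩
  rw [← he] at hT1 hT4 ⊢
  have he1 : e ≤ 1 := by
    rw [he]
    split_ifs <;> omega
  obtain ⟨q1, hq1⟩ : ∃ q1 : ℕ, q1 = Fintype.card F - 1 := ⟨_, rfl⟩
  rw [← hq1] at hT1 hS7a
  have hq1pos : 0 < q1 := by
    have := Fintype.one_lt_card (α := F)
    omega
  haveI hfin : Finite {f : F[X] // Pred n r f} := finite_PP n r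
  letI : Fintype {f : F[X] // Pred n r f} := Fintype.ofFinite _
  letI : ∀ μ : Fˣ, Fintype (MulAction.fixedBy {f : F[X] // Pred n r f} μ) :=
    fun μ => Fintype.ofFinite _
  letI : Fintype (MulAction.orbitRel.Quotient Fˣ {f : F[X] // Pred n r f}) := Fintype.ofFinite _
  have hB := MulAction.sum_card_fixedBy_eq_card_orbits_mul_card_group Fˣ {f : F[X] // Pred n r f}
  have hU : Fintype.card Fˣ = q1 := by rw [Fintype.card_units, hq1]
  -- r-th roots of unity
  have hScard : (Finset.univ.filter (fun μ : Fˣ => (μ : F) ^ r = 1)).card = r := by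
    rw [card_units_filter (fun x : F => x ^ r = 1)]
    · exact hS7b
    · intro x hx h0
      rw [h0, zero_pow hr.ne_zero] at hx
      exact zero_ne_one hx
  -- r-th powers
  have hRcard : (Finset.univ.filter (fun c : Fˣ => (c : F) ≠ 0 ∧ ∃ b : F, b ^ r = (c : F))).card * r
      = q1 := by
    rw [card_units_filter (fun x : F => x ≠ 0 ∧ ∃ b : F, b ^ r = x) (fun x hx => hx.1)]
    exact hS7a
  -- fixed points
  have hfixcard : ∀ μ : Fˣ, Fintype.card (MulAction.fixedBy {f : F[X] // Pred n r f} μ) =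
      Nat.card {f : F[X] // Pred n r f ∧ scl n (μ : F) f = f} := by
    intro μ
    rw [← Nat.card_eq_fintype_card]
    apply Nat.card_congr
    exact
      { toFun := fun f => ⟨f.1.1, f.1.2, congrArg Subtype.val f.2⟩
        invFun := fun g => ⟨⟨g.1, g.2.1⟩, Subtype.ext g.2.2⟩
        left_inv := fun f => rfl
        right_inv := fun g => rfl }
  have hg1 : Fintype.card (MulAction.fixedBy {f : F[X] // Pred n r f} (1 : Fˣ)) =
      Nat.card {f : F[X] // Pred n r f} := by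
    rw [hfixcard]
    apply Nat.card_congr
    exact Equiv.subtypeEquivRight (fun f => ⟨fun h => h.1, fun h => ⟨h, by
      rw [Units.val_one]
      exact scl_one n f⟩⟩)
  have hgS : ∀ μ ∈ Finset.univ.filter (fun μ : Fˣ => (μ : F) ^ r = 1), μ ≠ 1 →
      Fintype.card (MulAction.fixedBy {f : F[X] // Pred n r f} μ) = q1 * e := by
    intro μ hμ hμ1
    rw [hfixcard]
    apply hT1 (μ : F) (Finset.mem_filter.mp hμ).2
    intro h
    apply hμ1
    apply Units.ext
    rw [h, Units.val_one]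
  have hg0 : ∀ μ : Fˣ, μ ∉ Finset.univ.filter (fun μ : Fˣ => (μ : F) ^ r = 1) →
      Fintype.card (MulAction.fixedBy {f : F[X] // Pred n r f} μ) = 0 := by
    intro μ hμ
    rw [hfixcard]
    have hμ' : (μ : F) ^ r ≠ 1 := fun h => hμ (Finset.mem_filter.mpr ⟨Finset.mem_univ _, h⟩)
    haveI : IsEmpty {f : F[X] // Pred n r f ∧ scl n (μ : F) f = f} :=
      ⟨fun f => fixed_empty n r hn hr (μ : F) μ.ne_zero hμ' f.1 f.2.1 f.2.2⟩
    exact Nat.card_of_isEmpty
  have hsum := sum_three (Finset.univ.filter (fun μ : Fˣ => (μ : F) ^ r = 1)) (1 : Fˣ)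
    (Finset.mem_filter.mpr ⟨Finset.mem_univ _, by rw [Units.val_one, one_pow]⟩)
    (fun μ => Fintype.card (MulAction.fixedBy {f : F[X] // Pred n r f} μ)) _ _ hg1 hgS hg0
  rw [hsum, hScard, hU, ← Nat.card_eq_fintype_card] at hB
  -- the cardinality of X
  have hXsum : Nat.card {f : F[X] // Pred n r f} = ∑ c : Fˣ, Nat.card (Xns F n r (c : F)) := by
    rw [← Nat.card_congr (Equiv.sigmaFiberEquiv (cU n r)), Nat.card_sigma]
    apply Finset.sum_congr rfl
    intro c _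
    exact card_fibre n r hn hr c
  have hXval := sum_two (fun c : Fˣ => (c : F) ≠ 0 ∧ ∃ b : F, b ^ r = (c : F))
    (fun c : Fˣ => Nat.card (Xns F n r (c : F))) (Nat.card (Xns F n r 1)) e
    (by
      rintro c ⟨_, b, hb⟩
      have hb0 : b ≠ 0 := by
        rintro rfl
        rw [zero_pow hr.ne_zero] at hb
        exact c.ne_zero hb.symm
      show Nat.card (Xns F n r (c : F)) = _
      rw [← hb]
      exact hT2 b hb0)
    (by
      intro c hc
      exact hT4 (c : F) c.ne_zero (fun b hb => hc ⟨c.ne_zero, b, hb⟩))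
  rw [← hXsum, hU] at hXval
  -- lower bound from the fixed points of ω
  have hfix : q1 * e ≤ Nat.card {f : F[X] // Pred n r f} := by
    rw [← hT1 ω hω hω1]
    apply Nat.card_le_card_of_injective
      (fun f : {f : F[X] // Pred n r f ∧ scl n ω f = f} => (⟨f.1, f.2.1⟩ : {f : F[X] // Pred n r f}))
    intro f g h
    apply Subtype.ext
    have h' := congrArg Subtype.val h
    exact h'
  exact hT6 _ _ q1 _ _ _ r e hr.two_le hRcard hq1pos he1
    (by rw [mul_assoc]; exact hB.symm) hXval hT3 hfix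

end count

end Cfsg.Agent.helper15.S2670p
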