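import Mathlib
import Cfsg.Agent.Lib_helper15_S2670g
import Cfsg.Agent.Lib_helper15_S2670p
import Cfsg.Agent.Lib_helper13_S2670x

set_option autoImplicit false

open Polynomial

namespace Cfsg.Agent.helper15.S2670c

open Cfsg.Agent.helper15.S2670g Cfsg.Agent.helper15.S2670p

variable {F : Type*} [Field F] [Fintype F]

/-- classes of elements of order `r` in `PGL_n(F)` correspond to the orbits of the scalars on the
admissible polynomials. -/
theorem classCount (p : ℕ) [Fact p.Prime] [CharP F p] (n r : ℕ) [NeZero n] (hr : r.Prime)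
    (hrq : r ∣ Fintype.card F - 1) :
    Nat.card {C : ConjClasses (GL (Fin n) F ⧸ Subgroup.center (GL (Fin n) F)) //
      ∃ g : GL (Fin n) F ⧸ Subgroup.center (GL (Fin n) F), ConjClasses.mk g = C ∧ orderOf g = r} =
    Nat.card (MulAction.orbitRel.Quotient Fˣ {f : F[X] // Pred n r f}) := by
  classical
  have hS1 : ∀ (M : Matrix (Fin n) (Fin n) F) (μ : F), μ ≠ 0 →
      (μ • M).charpoly = C (μ ^ n) * M.charpoly.comp (C μ⁻¹ * X) :=
    fun M μ hμ => Cfsg.Agent.helper13.S2670x.pieceS1 M μ hμ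
  have hrepex : ∀ C : {C : ConjClasses (GL (Fin n) F ⧸ Subgroup.center (GL (Fin n) F)) //
      ∃ g : GL (Fin n) F ⧸ Subgroup.center (GL (Fin n) F), ConjClasses.mk g = C ∧ orderOf g = r},
      ∃ A : GL (Fin n) F,
        ConjClasses.mk (QuotientGroup.mk A : GL (Fin n) F ⧸ Subgroup.center (GL (Fin n) F)) = C.1 ∧
        orderOf (QuotientGroup.mk A : GL (Fin n) F ⧸ Subgroup.center (GL (Fin n) F)) = r := by
    intro C
    obtain ⟨g, hg1, hg2⟩ := C.2
    obtain ⟨A, rfl⟩ := QuotientGroup.mk_surjective g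
    exact ⟨A, hg1, hg2⟩
  choose rep hrep1 hrep2 using hrepex
  have hpred : ∀ A : GL (Fin n) F,
      orderOf (QuotientGroup.mk A : GL (Fin n) F ⧸ Subgroup.center (GL (Fin n) F)) = r →
      Pred n r (A : Matrix (Fin n) (Fin n) F).charpoly := by
    intro A hA
    obtain ⟨_, h2, h3⟩ := gs1 p r hr hrq A hA
    exact ⟨Matrix.charpoly_monic _, by rw [Matrix.charpoly_natDegree_eq_dim, Fintype.card_fin],
      h2, h3⟩
  apply Nat.card_congr
  refine Equiv.ofBijective (fun C => Quotient.mk''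
    (⟨((rep C : GL (Fin n) F) : Matrix (Fin n) (Fin n) F).charpoly, hpred (rep C) (hrep2 C)⟩ :
      {f : F[X] // Pred n r f})) ⟨?_, ?_⟩
  · intro C C' h
    have h1 := Quotient.exact h
    change (⟨_, hpred (rep C) (hrep2 C)⟩ : {f : F[X] // Pred n r f}) ∈
      MulAction.orbit Fˣ (⟨_, hpred (rep C') (hrep2 C')⟩ : {f : F[X] // Pred n r f}) at h1
    obtain ⟨μ, hμ⟩ := h1
    have h2 : scl n (μ : F) ((rep C' : GL (Fin n) F) : Matrix (Fin n) (Fin n) F).charpoly =
        ((rep C : GL (Fin n) F) : Matrix (Fin n) (Fin n) F).charpoly := congrArg Subtype.val hμ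
    have hconj := (gs3 p r hr hrq hS1 (rep C') (rep C) (hrep2 C') (hrep2 C)).mpr
      ⟨(μ : F), μ.ne_zero, h2.symm⟩
    apply Subtype.ext
    rw [← hrep1 C, ← hrep1 C', ConjClasses.mk_eq_mk_iff_isConj]
    exact hconj.symm
  · intro ω
    obtain ⟨x, rfl⟩ := Quotient.exists_rep ω
    obtain ⟨f, hm, hd, ⟨c, hc, hdvd⟩, hns⟩ := x
    obtain ⟨A, hA, hAc⟩ := gs2 p r hr f hm hd c hc hdvd hns
    refine ⟨⟨ConjClasses.mk (QuotientGroup.mk A), QuotientGroup.mk A, rfl, hA⟩, ?_⟩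
    apply Quotient.sound
    change (⟨_, _⟩ : {f : F[X] // Pred n r f}) ∈
      MulAction.orbit Fˣ (⟨f, _⟩ : {f : F[X] // Pred n r f})
    have hconj : IsConj (QuotientGroup.mk A : GL (Fin n) F ⧸ Subgroup.center (GL (Fin n) F))
        (QuotientGroup.mk (rep ⟨ConjClasses.mk (QuotientGroup.mk A), QuotientGroup.mk A, rfl, hA⟩)) := by
      rw [← ConjClasses.mk_eq_mk_iff_isConj]
      exact (hrep1 ⟨ConjClasses.mk (QuotientGroup.mk A), QuotientGroup.mk A, rfl, hA⟩).symm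
    obtain ⟨μ, hμ0, hμ⟩ := (gs3 p r hr hrq hS1 A _ hA (hrep2 _)).mp hconj
    refine ⟨Units.mk0 μ hμ0, Subtype.ext ?_⟩
    rw [hAc] at hμ
    exact hμ.symm

end Cfsg.Agent.helper15.S2670c
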