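import Mathlib
import Cfsg.Agent.Lib_helper15_S2645x

set_option autoImplicit false

open Polynomial

namespace Cfsg.Agent.helper15.S2671x

open Cfsg.Agent.helper15.S2645x

theorem pieceC2u {K : Type*} [Field K] (σ : K ≃+* K) (hσσ : ∀ a, σ (σ a) = a) (r n i : ℕ)
    (hr : r.Prime) (hr2 : r ≠ 2) (hi : 0 < i)
    (S : Finset K[X]) (hS : ∀ g ∈ S, g.Monic ∧ Irreducible g ∧ g.natDegree = i)
    (hX : (X - 1 : K[X]) ∉ S) (hprod : (X ^ r - 1 : K[X]) = (X - 1) * ∏ g ∈ S, g)
    (hrec : ∀ g ∈ S, (C (g.coeff 0)⁻¹ * g.reverse).map (σ : K →+* K) ∈ S)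
    (hinv : ∀ g ∈ S, (C (((C (g.coeff 0)⁻¹ * g.reverse).map (σ : K →+* K)).coeff 0)⁻¹ *
      ((C (g.coeff 0)⁻¹ * g.reverse).map (σ : K →+* K)).reverse).map (σ : K →+* K) = g)
    (M : Multiset K[X]) (hM : ∀ g ∈ M, g ∈ S) (hMi : i * Multiset.card M ≤ n) :
    (∀ k, k ≤ n →
      ((X - 1) ^ (n - i * Multiset.card M) * M.prod : K[X]).coeff (n - k) =
      ((X - 1) ^ (n - i * Multiset.card M) * M.prod : K[X]).coeff 0 *
        σ (((X - 1) ^ (n - i * Multiset.card M) * M.prod : K[X]).coeff k)) ↔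
    M.map (fun g => (C (g.coeff 0)⁻¹ * g.reverse).map (σ : K →+* K)) = M := by
  classical
  set τ : K →+* K := (σ : K →+* K) with hτ
  have hτa : ∀ a, τ a = σ a := fun a => rfl
  have hττ : τ.comp τ = RingHom.id K := by
    ext a
    rw [RingHom.comp_apply, hτa, hτa, hσσ, RingHom.id_apply]
  have hmm : ∀ p : K[X], (p.map τ).map τ = p := by
    intro p
    rw [Polynomial.map_map, hττ, Polynomial.map_id]
  change _ ↔ M.map (fun g => (rho g).map τ) = M
  have hρS : ∀ g ∈ S, (rho g).map τ ∈ S := hrec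
  have h0 : ∀ g ∈ S, g.coeff 0 ≠ 0 := by
    intro g hg h
    have hmon := (hS g hg).1
    have e1 : (C (g.coeff 0)⁻¹ * g.reverse).map τ = 0 := by
      rw [h, inv_zero, C_0, zero_mul, Polynomial.map_zero]
    have e2 := hinv g hg
    rw [e1, reverse_zero, mul_zero, Polynomial.map_zero] at e2
    exact hmon.ne_zero e2.symm
  set e := n - i * Multiset.card M with he
  have hMmd : ∀ g ∈ M, g.Monic ∧ g.natDegree = i :=
    fun g hg => ⟨(hS g (hM g hg)).1, (hS g (hM g hg)).2.2⟩
  obtain ⟨hPm, hPd⟩ := c2_prod_monic_deg i M hMmd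
  have hM' : ∀ g ∈ M.map (fun g => (rho g).map τ), g ∈ S := by
    intro g hg
    obtain ⟨a, ha, rfl⟩ := Multiset.mem_map.mp hg
    exact hρS a (hM a ha)
  have hXm : ((X - 1 : K[X]) ^ e).Monic := by
    have h2 := (monic_X_sub_C (1 : K)).pow e
    rwa [C_1] at h2
  have hXd : ((X - 1 : K[X]) ^ e).natDegree = e := by
    have h3 := (monic_X_sub_C (1 : K)).natDegree_pow e
    rw [natDegree_X_sub_C, mul_one, C_1] at h3
    exact h3
  set f := (X - 1 : K[X]) ^ e * M.prod with hf
  have hfm : f.Monic := hXm.mul hPm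
  have hfd : f.natDegree = n := by
    rw [hf, hXm.natDegree_mul hPm, hXd, hPd, he]
    exact Nat.sub_add_cancel hMi
  set c0 := (M.map fun g => g.coeff 0).prod with hc0
  have hc0ne : c0 ≠ 0 := by
    rw [hc0]
    apply Multiset.prod_ne_zero
    intro h9
    obtain ⟨g, hg, hg0⟩ := Multiset.mem_map.mp h9
    exact h0 g (hM g hg) hg0
  have hrev : f.reverse = C ((-1) ^ e * c0) * ((X - 1) ^ e * (M.map rho).prod) := by
    rw [hf, reverse_mul_of_domain, c2_reverse_pow, c2_reverse_X_sub_one,
      c2_reverse_prod M (fun g hg => h0 g (hM g hg)), neg_pow, C_mul, C_pow, C_neg, C_1]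
    ring
  have hf0 : f.coeff 0 = (-1) ^ e * c0 := by
    have h3 : M.map (eval 0) = M.map (fun g => g.coeff 0) :=
      Multiset.map_congr rfl (fun g _ => (coeff_zero_eq_eval_zero g).symm)
    rw [hf, coeff_zero_eq_eval_zero, eval_mul, eval_pow, eval_sub, eval_X, eval_one, zero_sub,
      eval_multiset_prod, h3]
  have hcne : (-1 : K) ^ e * c0 ≠ 0 :=
    mul_ne_zero (pow_ne_zero _ (neg_ne_zero.mpr one_ne_zero)) hc0ne
  have hfmap : f.map τ = (X - 1) ^ e * (M.map (Polynomial.map τ)).prod := by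
    rw [hf, Polynomial.map_mul, Polynomial.map_pow, Polynomial.map_sub, Polynomial.map_X,
      Polynomial.map_one, Polynomial.map_multiset_prod]
  have hpal : (∀ k, k ≤ n → f.coeff (n - k) = f.coeff 0 * σ (f.coeff k)) ↔
      f.reverse = C (f.coeff 0) * f.map τ := by
    constructor
    · intro h
      ext k
      rw [coeff_reverse, hfd, coeff_C_mul, coeff_map]
      by_cases hk : k ≤ n
      · rw [revAt_le hk]
        exact h k hk
      · rw [revAt_eq_self_of_lt (Nat.lt_of_not_le hk)]
        have h4 : f.coeff k = 0 :=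
          coeff_eq_zero_of_natDegree_lt (by rw [hfd]; exact Nat.lt_of_not_le hk)
        rw [h4, map_zero, mul_zero]
    · intro h k hk
      have h5 := congrArg (fun p => p.coeff k) h
      beta_reduce at h5
      rw [coeff_reverse, hfd, revAt_le hk, coeff_C_mul, coeff_map] at h5
      exact h5
  refine hpal.trans ?_
  rw [hrev, hf0, hfmap]
  constructor
  · intro h
    have hCne : (C ((-1 : K) ^ e * c0)) ≠ 0 := by
      rw [Ne, C_eq_zero]
      exact hcne
    have h1 := mul_left_cancel₀ hCne h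
    have h2 := mul_left_cancel₀ hXm.ne_zero h1
    have h3 := congrArg (Polynomial.map τ) h2
    rw [Polynomial.map_multiset_prod, Polynomial.map_multiset_prod, Multiset.map_map,
      Multiset.map_map] at h3
    have h4 : M.map (Polynomial.map τ ∘ Polynomial.map τ) = M := by
      conv_rhs => rw [← Multiset.map_id M]
      apply Multiset.map_congr rfl
      intro g _
      exact hmm g
    rw [h4] at h3
    have hPP : (M.map (fun g => (rho g).map τ)).prod = M.prod := h3
    have hrel : Multiset.Rel Associated (M.map (fun g => (rho g).map τ)) M :=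
      UniqueFactorizationMonoid.factors_unique (fun x hx => (hS x (hM' x hx)).2.1)
        (fun x hx => (hS x (hM x hx)).2.1) (hPP ▸ Associated.refl _)
    have hrel2 : Multiset.Rel (· = ·) (M.map (fun g => (rho g).map τ)) M :=
      hrel.mono (fun a ha b hb hab =>
        eq_of_monic_of_associated (hS a (hM' a ha)).1 (hS b (hM b hb)).1 hab)
    exact Multiset.rel_eq.mp hrel2
  · intro h
    have h7 : M.map (Polynomial.map τ) = M.map rho := by
      conv_lhs => rw [← h]
      rw [Multiset.map_map]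
      apply Multiset.map_congr rfl
      intro g _
      exact hmm (rho g)
    rw [h7]

end Cfsg.Agent.helper15.S2671x
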