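import Mathlib
import Cfsg.Prelude.Def_Local

set_option autoImplicit false

open scoped commutatorElement

universe u

namespace Cfsg.Agent.helper15.S4885x

/-- PIECE G3: above a proper normal subgroup of a p-solvable group there is a normal subgroup with
p-power or p'-index over it. -/
theorem existsR {G : Type u} [Group G] [Finite G] (p : ℕ) [Fact p.Prime]
    (hps : Cfsg.IsPSolvable p G) (L : Subgroup G) [L.Normal] (hL : L ≠ ⊤) :
    ∃ R : Subgroup G, R.Normal ∧ L ≤ R ∧ ¬ R ≤ L ∧
      ((∃ m : ℕ, L.relIndex R = p ^ m) ∨ (L.relIndex R).Coprime p) := by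
  obtain ⟨n, H, h0, hn, _, hnorm, hstep⟩ := hps
  have hstep' : ∃ i : Fin n, H i.castSucc ≤ L ∧ ¬ H i.succ ≤ L := by
    by_contra hcon
    push Not at hcon
    have hall : ∀ i : Fin (n + 1), H i ≤ L := by
      intro i
      induction i using Fin.induction with
      | zero =>
        rw [h0]
        exact bot_le
      | succ i ih => exact hcon i ih
    apply hL
    rw [eq_top_iff, ← hn]
    exact hall (Fin.last n)
  obtain ⟨i, hiL, hiL'⟩ := hstep'
  haveI := hnorm i.succ
  refine ⟨H i.succ ⊔ L, inferInstance, le_sup_right, ?_, ?_⟩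
  · intro hle
    exact hiL' (le_sup_left.trans hle)
  · have h1 : L.relIndex (H i.succ ⊔ L) = L.relIndex (H i.succ) := Subgroup.relIndex_sup_right _ _
    have h2 : L.relIndex (H i.succ) ∣ (H i.castSucc).relIndex (H i.succ) :=
      Subgroup.relIndex_dvd_of_le_left (H i.succ) hiL
    rw [h1]
    rcases hstep i with ⟨m, hm⟩ | hcop
    · left
      rw [hm] at h2
      obtain ⟨m', _, hm'⟩ := (Nat.dvd_prime_pow Fact.out).mp h2
      exact ⟨m', hm'⟩
    · right
      exact Nat.Coprime.coprime_dvd_left h2 hcop

/-- PIECE G4: a Sylow p-subgroup contained in its own commutator subgroup is trivial. -/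
theorem sylow_bot {G : Type u} [Group G] [Finite G] (p : ℕ) [Fact p.Prime] (P : Sylow p G)
    (h : (P : Subgroup G) ≤ ⁅(P : Subgroup G), (P : Subgroup G)⁆) : ¬ p ∣ Nat.card G := by
  intro hp
  -- P is nontrivial
  have hPne : (P : Subgroup G) ≠ ⊥ := by
    intro hbot
    have hcard := P.card_eq_multiplicity
    rw [hbot, Subgroup.card_bot] at hcard
    have hfac : 0 < (Nat.card G).factorization p := by
      apply Nat.Prime.factorization_pos_of_dvd Fact.out Nat.card_pos.ne' hp
    have : 1 < p ^ (Nat.card G).factorization p := Nat.one_lt_pow hfac.ne' (Fact.out : p.Prime).one_lt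
    omega
  -- P is nilpotent hence solvable, so the commutator subgroup is proper
  have hnil : Group.IsNilpotent (P : Subgroup G) := P.isPGroup'.isNilpotent
  haveI : Group.IsSolvable (P : Subgroup G) := inferInstance
  haveI : Nontrivial (P : Subgroup G) := by
    rw [Subgroup.nontrivial_iff_ne_bot]
    exact hPne
  have hlt : commutator (P : Subgroup G) < ⊤ := Group.IsSolvable.commutator_lt_top_of_nontrivial _
  -- but the hypothesis says the commutator is everything
  apply hlt.ne
  rw [eq_top_iff]
  intro x _
  have hx : (x : G) ∈ ⁅(P : Subgroup G), (P : Subgroup G)⁆ := h x.2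
  rw [← Subgroup.map_subtype_commutator] at hx
  obtain ⟨y, hy, hyx⟩ := hx
  have hyx' : y = x := Subtype.ext hyx
  rw [← hyx']
  exact hy

end Cfsg.Agent.helper15.S4885x
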