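import Mathlib
import Cfsg.Agent.Lib_helper15_S4f

/-! A quadratic best offender on `V = Ω₁Z(O₂)` in a group `X` with `X/O₂(X)` having an abelian
normal `2`-complement gives a four-group with `S₃`-action (helper15). -/

set_option autoImplicit false

namespace Cfsg.Agent.helper15.S4F

variable {X : Type*} [Group X]

theorem exists_four_of_offender [Finite X]
    (H V : Subgroup X) [hHn : H.Normal] [hVn : V.Normal]
    (hV2 : ∀ v ∈ V, v * v = 1) (hVc : ∀ v ∈ V, ∀ w ∈ V, v * w = w * v)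
    (hHV : H ≤ Subgroup.centralizer (V : Set X)) (hVH : Subgroup.centralizer (V : Set X) ≤ H)
    (hH2 : IsPGroup 2 ↥H)
    (Kb : Subgroup (X ⧸ H)) [hKbn : Kb.Normal] (hKbc : ∀ y ∈ Kb, ∀ z ∈ Kb, y * z = z * y)
    (hKbodd : (Nat.card Kb).Coprime 2)
    (B : Subgroup X) (hBc : ∀ a ∈ B, ∀ b ∈ B, a * b = b * a) (hB2 : IsPGroup 2 ↥B)
    (hBsq : ∀ b ∈ B, b * b ∈ H) (hBH : ¬ B ≤ H)
    (hfaith : ∀ b ∈ B, (∀ y ∈ Kb, (QuotientGroup.mk' H b) * y = y * (QuotientGroup.mk' H b)) →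
      b ∈ H)
    (hbest : ∀ B' : Subgroup X, B' ≤ B →
      Nat.card B' * Nat.card ↥(V ⊓ Subgroup.centralizer (B' : Set X)) ≤
        Nat.card B * Nat.card ↥(V ⊓ Subgroup.centralizer (B : Set X))) :
    ∃ U : Subgroup X, U ≤ V ∧ Nat.card U = 4 ∧
      ∃ k, k ∈ Subgroup.normalizer (U : Set X) ∧ k ∉ Subgroup.centralizer (U : Set X) ∧
        (∃ N, Odd N ∧ k ^ N = 1) ∧
        ∃ b ∈ B, b ∈ Subgroup.normalizer (U : Set X) ∧ b ∉ Subgroup.centralizer (U : Set X) := by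
  obtain ⟨mk, hmk⟩ : ∃ mk : X →* X ⧸ H, mk = QuotientGroup.mk' H := ⟨_, rfl⟩
  rw [← hmk] at hfaith
  have hsurj : Function.Surjective mk := by rw [hmk]; exact QuotientGroup.mk'_surjective _
  have hmk1 : ∀ x, x ∈ H ↔ mk x = 1 := fun x => by
    have h0 : x ∈ mk.ker ↔ mk x = 1 := MonoidHom.mem_ker
    rw [hmk, QuotientGroup.ker_mk'] at h0
    rw [hmk]
    exact h0
  obtain ⟨b₀, hb₀, hb₀H⟩ : ∃ b₀ ∈ B, b₀ ∉ H := by
    by_contra hcon
    push Not at hcon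
    exact hBH hcon
  obtain ⟨y₀, hy₀, hne⟩ : ∃ y₀ ∈ Kb, mk b₀ * y₀ ≠ y₀ * mk b₀ := by
    by_contra hcon
    push Not at hcon
    exact hb₀H (hfaith b₀ hb₀ hcon)
  obtain ⟨Bb, hBb⟩ : ∃ Bb : Subgroup (X ⧸ H), Bb = B.map mk := ⟨_, rfl⟩
  have hBbc : ∀ a ∈ Bb, ∀ b ∈ Bb, a * b = b * a := by
    rw [hBb]
    rintro _ ⟨a, ha, rfl⟩ _ ⟨b, hb, rfl⟩
    rw [← map_mul, ← map_mul, hBc a ha b hb]
  have hBb2 : ∀ a ∈ Bb, a * a = 1 := by
    rw [hBb]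
    rintro _ ⟨a, ha, rfl⟩
    rw [← map_mul, ← hmk1]
    exact hBsq a ha
  have hβ : mk b₀ ∈ Bb := by rw [hBb]; exact ⟨b₀, hb₀, rfl⟩
  obtain ⟨y, hyK, hy1, hyβ, hydich⟩ := exists_eigen Kb hKbc hKbodd Bb hBbc hBb2 (mk b₀) hβ y₀ hy₀ hne
  obtain ⟨N, hNdef⟩ : ∃ N, N = Nat.card Kb := ⟨_, rfl⟩
  have hNodd : Odd N := by rw [hNdef]; exact Nat.Coprime.odd_of_right hKbodd
  have hyN : y ^ N = 1 := by
    rw [hNdef, ← orderOf_dvd_iff_pow_eq_one]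
    exact Subgroup.orderOf_dvd_natCard Kb hyK
  obtain ⟨k₀, hk₀⟩ := hsurj y
  have hk₀N : k₀ ^ N ∈ H := by rw [hmk1, map_pow, hk₀, hyN]
  obtain ⟨j, hj⟩ := hH2 ⟨k₀ ^ N, hk₀N⟩
  have hj' : (k₀ ^ N) ^ 2 ^ j = 1 := by
    have := congrArg Subtype.val hj
    rwa [Subgroup.coe_pow, Subgroup.coe_one] at this
  obtain ⟨k, hk⟩ : ∃ k, k = k₀ ^ 2 ^ j := ⟨_, rfl⟩
  have hkN : k ^ N = 1 := by
    rw [hk, ← pow_mul, mul_comm, pow_mul]; exact hj'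
  obtain ⟨y', hy'⟩ : ∃ y', y' = y ^ 2 ^ j := ⟨_, rfl⟩
  have hmkk : mk k = y' := by rw [hk, map_pow, hk₀, hy']
  -- elements of `Kb` of order dividing a power of two are trivial
  have hoddK : ∀ z ∈ Kb, ∀ i : ℕ, z ^ 2 ^ i = 1 → z = 1 := by
    intro z hz i hzi
    have h1 : orderOf z ∣ 2 ^ i := orderOf_dvd_of_pow_eq_one hzi
    have h2 : orderOf z ∣ Nat.card Kb := Subgroup.orderOf_dvd_natCard Kb hz
    have h3 : Nat.Coprime (Nat.card Kb) (2 ^ i) := Nat.Coprime.pow_right i hKbodd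
    have h4 : orderOf z ∣ Nat.gcd (Nat.card Kb) (2 ^ i) := Nat.dvd_gcd h2 h1
    rw [h3] at h4
    exact orderOf_eq_one_iff.mp (Nat.dvd_one.mp h4)
  have hy'K : y' ∈ Kb := by rw [hy']; exact Kb.pow_mem hyK _
  have hy'1 : y' ≠ 1 := by
    intro h
    rw [hy'] at h
    exact hy1 (hoddK y hyK j h)
  have hy'inv : y'⁻¹ ≠ y' := by
    intro h
    apply hy'1
    apply hoddK y' hy'K 1
    rw [pow_one, pow_two]
    calc y' * y' = y'⁻¹ * y' := by rw [h]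
      _ = 1 := inv_mul_cancel y'
  have hy'β : mk b₀ * y' * (mk b₀)⁻¹ = y'⁻¹ := by
    rw [hy', ← conj_pow, hyβ, inv_pow]
  have hy'dich : ∀ a ∈ B, mk a * y' * (mk a)⁻¹ = y' ∨ mk a * y' * (mk a)⁻¹ = y'⁻¹ := by
    intro a ha
    have haB : mk a ∈ Bb := by rw [hBb]; exact ⟨a, ha, rfl⟩
    rcases hydich (mk a) haB with h | h
    · left; rw [hy', ← conj_pow, h]
    · right; rw [hy', ← conj_pow, h, inv_pow]
  have hkH : k ∉ H := by
    rw [hmk1, hmkk]; exact hy'1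
  have hb₀k : b₀ * k * b₀⁻¹ * k ∈ H := by
    rw [hmk1, map_mul, map_mul, map_mul, map_inv, hmkk, hy'β, inv_mul_cancel]
  -- the hyperplane
  obtain ⟨B', hB'⟩ : ∃ B' : Subgroup X,
      B' = B ⊓ (Subgroup.centralizer ({y'} : Set (X ⧸ H))).comap mk := ⟨_, rfl⟩
  have hB'mem : ∀ a, a ∈ B' ↔ a ∈ B ∧ mk a * y' * (mk a)⁻¹ = y' := by
    intro a
    rw [hB', Subgroup.mem_inf, Subgroup.mem_comap, Subgroup.mem_centralizer_iff]
    constructor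
    · rintro ⟨h1, h2⟩
      refine ⟨h1, ?_⟩
      have := h2 y' rfl
      rw [← this]; group
    · rintro ⟨h1, h2⟩
      refine ⟨h1, ?_⟩
      intro z hz
      rw [Set.mem_singleton_iff.mp hz]
      calc y' * mk a = (mk a * y' * (mk a)⁻¹) * mk a := by rw [h2]
        _ = mk a * y' := by group
  have hB'B : B' ≤ B := fun a ha => ((hB'mem a).mp ha).1
  have hB'k : ∀ a ∈ B', a * k * a⁻¹ * k⁻¹ ∈ H := by
    intro a ha
    rw [hmk1, map_mul, map_mul, map_mul, map_inv, map_inv, hmkk, ((hB'mem a).mp ha).2,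
      mul_inv_cancel]
  have hb₀B' : b₀ ∉ B' := by
    intro h
    have := ((hB'mem b₀).mp h).2
    rw [hy'β] at this
    exact hy'inv this
  have hidx : B'.relIndex B = 2 := by
    rw [Subgroup.relIndex_eq_two_iff_exists_notMem_and']
    refine ⟨b₀, hb₀, hb₀B', ?_⟩
    intro b hb
    rcases hy'dich b hb with h | h
    · right; exact (hB'mem b).mpr ⟨hb, h⟩
    · left
      rw [hB'mem]
      refine ⟨B.mul_mem hb₀ hb, ?_⟩
      have e : mk (b₀ * b) * y' * (mk (b₀ * b))⁻¹ =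
          mk b₀ * (mk b * y' * (mk b)⁻¹) * (mk b₀)⁻¹ := by
        rw [map_mul]; group
      rw [e, h]
      have e2 : mk b₀ * y'⁻¹ * (mk b₀)⁻¹ = (mk b₀ * y' * (mk b₀)⁻¹)⁻¹ := by group
      rw [e2, hy'β, inv_inv]
  have hcardB : Nat.card B = Nat.card B' * 2 := by
    rw [← hidx]; exact (Cfsg.Agent.helper15.card_mul_relIndex_of_le hB'B).symm
  have hcard : Nat.card ↥(V ⊓ Subgroup.centralizer (B' : Set X)) ≤
      2 * Nat.card ↥(V ⊓ Subgroup.centralizer (B : Set X)) := by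
    have h1 := hbest B' hB'B
    rw [hcardB, mul_assoc] at h1
    exact Nat.le_of_mul_le_mul_left h1 Nat.card_pos
  obtain ⟨U, hUV, hU4, hkNU, hkCU, hbNU, hbCU⟩ := exists_four_of_data H V hV2 hVc hHV ⊤
    (inf_le_right.trans hVH) B B'
    hB'B hBc hB2 k (Subgroup.mem_top k) hNodd hkN hkH b₀ hb₀ (hBsq b₀ hb₀) hb₀k hB'k hcard
  exact ⟨U, hUV, hU4, k, hkNU, hkCU, ⟨N, hNodd, hkN⟩, b₀, hb₀, hbNU, hbCU⟩

end Cfsg.Agent.helper15.S4F
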