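import Mathlib
import Cfsg.Agent.Lib_helper15_SylGraph2
import Cfsg.Agent.Lib_helper15_Gen5
import Cfsg.Agent.Lib_helper1_PCenter
import Cfsg.Agent.Lib_helper1_Core
import Cfsg.Agent.Lib_helper23_PSolv
import Cfsg.Agent.S0542
import Cfsg.Agent.Lib_helper15_ExtClosed

set_option autoImplicit false

namespace Cfsg.Agent.helper15

/-- `S` has "a unique subgroup of order `p`", elementwise form. -/
def UniqP {G : Type*} [Group G] (p : ℕ) (S : Subgroup G) : Prop :=
  ∀ x ∈ S, ∀ y ∈ S, orderOf x = p → y ^ p = 1 → y ∈ Subgroup.zpowers x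

theorem UniqP.conj {G : Type*} [Group G] {p : ℕ} {S : Subgroup G} (h : UniqP p S) (k : G) :
    UniqP p (S.map (MulAut.conj k).toMonoidHom) := by
  rintro _ ⟨x, hx, rfl⟩ _ ⟨y, hy, rfl⟩ hox hyp
  simp only [MulEquiv.coe_toMonoidHom] at hox hyp ⊢
  have h1 : orderOf x = p := by rw [← hox]; exact ((MulAut.conj k).orderOf_eq x).symm
  have h2 : y ^ p = 1 := by
    have : (MulAut.conj k) (y ^ p) = 1 := by rw [map_pow]; exact hyp
    simpa using this
  obtain ⟨n, hn⟩ := Subgroup.mem_zpowers_iff.1 (h x hx y hy h1 h2)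
  exact Subgroup.mem_zpowers_iff.2 ⟨n, by rw [← map_zpow, hn]⟩

theorem uniqP_of_isCyclic {G : Type*} [Group G] [Finite G] {p : ℕ} [Fact p.Prime] (S : Subgroup G)
    (hS : IsCyclic ↥S) : UniqP p S := by
  intro x hx y hy hox hyp
  have h1 : orderOf (⟨x, hx⟩ : ↥S) = p := by rw [← hox, ← Subgroup.orderOf_coe]
  have h2 : (⟨y, hy⟩ : ↥S) ^ p = 1 := Subtype.ext (by simpa using hyp)
  have h3 := Cfsg.Agent.helper1.mem_zpowers_of_orderOf_eq_prime (Fact.out : p.Prime)
    (⟨x, hx⟩ : ↥S) ⟨y, hy⟩ h1 h2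
  obtain ⟨n, hn⟩ := Subgroup.mem_zpowers_iff.1 h3
  refine Subgroup.mem_zpowers_iff.2 ⟨n, ?_⟩
  have := congrArg Subtype.val hn
  simpa using this

theorem quaternion_sq_eq_one {m : ℕ} [NeZero m] (z : QuaternionGroup m) (hz : z ^ 2 = 1) :
    z = 1 ∨ z = QuaternionGroup.a (m : ZMod (2 * m)) := by
  rcases z with i | i
  · rw [sq, QuaternionGroup.a_mul_a, QuaternionGroup.one_def] at hz
    have h0 : i + i = 0 := by
      injection hz
    have hv := congrArg ZMod.val h0
    rw [ZMod.val_add, ZMod.val_zero] at hv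
    have hlt := ZMod.val_lt i
    have hm : 0 < m := Nat.pos_of_ne_zero (NeZero.ne m)
    have hcases : i.val = 0 ∨ i.val = m := by
      have h2 : (i.val + i.val) % (2 * m) = 0 := hv
      rcases Nat.lt_or_ge (i.val + i.val) (2 * m) with h | h
      · rw [Nat.mod_eq_of_lt h] at h2; left; omega
      · have h3 : (i.val + i.val) % (2 * m) = i.val + i.val - 2 * m := by
          rw [Nat.mod_eq_sub_mod h, Nat.mod_eq_of_lt (by omega)]
        rw [h3] at h2; right; omega
    rcases hcases with h | h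
    · left
      rw [QuaternionGroup.one_def]
      congr 1
      exact (ZMod.val_eq_zero i).1 h
    · right
      congr 1
      rw [← ZMod.natCast_zmod_val i, h]
  · exfalso
    rw [QuaternionGroup.xa_sq, QuaternionGroup.one_def] at hz
    have h0 : (m : ZMod (2 * m)) = 0 := by injection hz
    rw [ZMod.natCast_eq_zero_iff] at h0
    have hm : 0 < m := Nat.pos_of_ne_zero (NeZero.ne m)
    have := Nat.le_of_dvd hm h0
    omega

theorem uniqP_of_quaternion {G : Type*} [Group G] (S : Subgroup G) (m : ℕ) [NeZero m]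
    (e : ↥S ≃* QuaternionGroup m) : UniqP 2 S := by
  intro x hx y hy hox hyp
  have hx2 : x ^ 2 = 1 := by rw [← hox]; exact pow_orderOf_eq_one x
  have hx1 : x ≠ 1 := by
    intro h; rw [h, orderOf_one] at hox; omega
  have ex : e ⟨x, hx⟩ ^ 2 = 1 := by
    rw [← map_pow]
    have : (⟨x, hx⟩ : ↥S) ^ 2 = 1 := Subtype.ext (by simpa using hx2)
    rw [this, map_one]
  have ey : e ⟨y, hy⟩ ^ 2 = 1 := by
    rw [← map_pow]
    have : (⟨y, hy⟩ : ↥S) ^ 2 = 1 := Subtype.ext (by simpa using hyp)
    rw [this, map_one]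
  have ex1 : e ⟨x, hx⟩ ≠ 1 := by
    intro h
    have := e.injective (h.trans (map_one e).symm)
    exact hx1 (congrArg Subtype.val this)
  have hxa := (quaternion_sq_eq_one _ ex).resolve_left ex1
  rcases quaternion_sq_eq_one _ ey with h | h
  · have := e.injective (h.trans (map_one e).symm)
    have hy1 : y = 1 := congrArg Subtype.val this
    rw [hy1]; exact Subgroup.one_mem _
  · have := e.injective (h.trans hxa.symm)
    have hyx : y = x := congrArg Subtype.val this
    rw [hyx]; exact Subgroup.mem_zpowers x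

/-- An element of order `p` normalizing `⟨x⟩` (with `x` of order `p` in a Sylow subgroup with a unique
subgroup of order `p`) lies in `⟨x⟩`. -/
theorem mem_zpowers_of_mem_normalizer {G : Type*} [Group G] [Finite G] {p : ℕ} [Fact p.Prime]
    (P : Sylow p G) (hP : UniqP p (P : Subgroup G)) (x : G) (hox : orderOf x = p) (y : G)
    (hy : y ∈ Subgroup.normalizer ((Subgroup.zpowers x : Subgroup G) : Set G)) (hyp : y ^ p = 1) :
    y ∈ Subgroup.zpowers x := by
  have hZ : IsPGroup p ↥(Subgroup.zpowers x) :=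
    isPGroup_zpowers_of_orderOf x ⟨1, by rw [hox, pow_one]⟩
  have hY : IsPGroup p ↥(Subgroup.zpowers y) := by
    have h1 : orderOf y ∣ p ^ 1 := by rw [pow_one]; exact orderOf_dvd_of_pow_eq_one hyp
    obtain ⟨j, _, hj⟩ := (Nat.dvd_prime_pow (Fact.out : p.Prime)).1 h1
    exact isPGroup_zpowers_of_orderOf y ⟨j, hj⟩
  have hYN : Subgroup.zpowers y ≤ Subgroup.normalizer ((Subgroup.zpowers x : Subgroup G) : Set G) :=
    Subgroup.zpowers_le.2 hy
  have hZY : IsPGroup p ↥(Subgroup.zpowers x ⊔ Subgroup.zpowers y) :=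
    IsPGroup.to_sup_of_normal_left' hZ hY hYN
  obtain ⟨P', hP'⟩ := hZY.exists_le_sylow
  obtain ⟨k, hk⟩ := MulAction.exists_smul_eq G P P'
  have hP'eq : (P' : Subgroup G) = (P : Subgroup G).map (MulAut.conj k).toMonoidHom := by
    rw [← hk]; exact coe_smul_sylow' _ _
  have hU := hP.conj k
  rw [← hP'eq] at hU
  exact hU x (hP' (Subgroup.mem_sup_left (Subgroup.mem_zpowers x))) y
    (hP' (Subgroup.mem_sup_right (Subgroup.mem_zpowers y))) hox hyp

/-- If `O_p(G) = 1` and a Sylow `p`-subgroup has a unique subgroup of order `p`, then `G` has a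
strongly `p`-embedded subgroup. -/
theorem exists_isClassicalSPE_of_uniqP {G : Type*} [Group G] [Finite G] {p : ℕ} [Fact p.Prime]
    (hdiv : p ∣ Nat.card G) (hO : Cfsg.pCore p G = ⊥) (P : Sylow p G)
    (hP : UniqP p (P : Subgroup G)) : ∃ H : Subgroup G, IsClassicalSPE p H := by
  have hp : p.Prime := Fact.out
  obtain ⟨x, hox⟩ := exists_prime_orderOf_dvd_card' p hdiv
  have hx1 : x ≠ 1 := by
    intro h; rw [h, orderOf_one] at hox; exact hp.one_lt.ne hox
  have hZ : IsPGroup p ↥(Subgroup.zpowers x) :=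
    isPGroup_zpowers_of_orderOf x ⟨1, by rw [hox, pow_one]⟩
  refine ⟨Subgroup.normalizer ((Subgroup.zpowers x : Subgroup G) : Set G), ?_, ?_, ?_⟩
  · intro htop
    have hn : (Subgroup.zpowers x).Normal := Subgroup.normalizer_eq_top_iff.1 htop
    have h1 := Cfsg.Agent.helper1.le_pCore hn hZ
    rw [hO] at h1
    exact hx1 (Subgroup.mem_bot.1 (h1 (Subgroup.mem_zpowers x)))
  · have h1 : Subgroup.zpowers x ≤ Subgroup.normalizer ((Subgroup.zpowers x : Subgroup G) : Set G) :=
      Subgroup.le_normalizer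
    have h2 := Subgroup.card_dvd_of_le h1
    rw [Nat.card_zpowers, hox] at h2
    exact h2
  · intro g hg hdvd
    apply hg
    obtain ⟨⟨y, hyI⟩, hoy⟩ := exists_prime_orderOf_dvd_card' p hdvd
    have hoy' : orderOf y = p := by rw [← hoy, ← Subgroup.orderOf_coe]
    have hyp : y ^ p = 1 := by rw [← hoy']; exact pow_orderOf_eq_one y
    obtain ⟨hy1, hy2⟩ := Subgroup.mem_inf.1 hyI
    have hyZ := mem_zpowers_of_mem_normalizer P hP x hox y hy1 hyp
    obtain ⟨w, hw, hwy⟩ := Subgroup.mem_map.1 hy2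
    simp only [MulEquiv.coe_toMonoidHom, MulAut.conj_apply] at hwy
    have hwp : w ^ p = 1 := by
      have e : w = (MulAut.conj g⁻¹) y := by
        rw [MulAut.conj_apply, inv_inv, ← hwy]; group
      rw [e, ← map_pow, hyp, map_one]
    have hwZ := mem_zpowers_of_mem_normalizer P hP x hox w hw hwp
    -- `zpowers y = zpowers x`
    have hzy : Subgroup.zpowers y = Subgroup.zpowers x := by
      apply Subgroup.eq_of_le_of_card_ge (Subgroup.zpowers_le.2 hyZ)
      rw [Nat.card_zpowers, Nat.card_zpowers, hox, hoy']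
    have hw1 : orderOf w = p := by
      have e : w = (MulAut.conj g⁻¹) y := by
        rw [MulAut.conj_apply, inv_inv, ← hwy]; group
      rw [e, (MulAut.conj g⁻¹).orderOf_eq, hoy']
    have hzw : Subgroup.zpowers w = Subgroup.zpowers x := by
      apply Subgroup.eq_of_le_of_card_ge (Subgroup.zpowers_le.2 hwZ)
      rw [Nat.card_zpowers, Nat.card_zpowers, hox, hw1]
    -- conj g maps zpowers w onto zpowers y
    have hmap : (Subgroup.zpowers w).map (MulAut.conj g).toMonoidHom = Subgroup.zpowers y := by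
      rw [MonoidHom.map_zpowers]
      congr 1
    rw [hzw, hzy] at hmap
    apply mem_normalizer_of_map_conj_le
    rw [hmap]


end Cfsg.Agent.helper15
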