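import Mathlib
import Cfsg.Agent.Lib_helper15_SPE

set_option autoImplicit false

namespace Cfsg.Agent.helper15

open Cfsg.Agent.helper23

/-- In a group with a strongly `p`-embedded subgroup `H`, normalizers of nontrivial `p`-subgroups
of `H` lie in `H`. -/
theorem normalizer_le_of_isClassicalSPE {G : Type*} [Group G] [Finite G] {p : ℕ} [Fact p.Prime]
    (H : Subgroup G) (hH : IsClassicalSPE p H) (Q : Subgroup G) (hQ : IsPGroup p ↥Q) (hQne : Q ≠ ⊥)
    (hQH : Q ≤ H) : Subgroup.normalizer (Q : Set G) ≤ H := by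
  intro c hc
  by_contra hcH
  apply hH.2.2 c hcH
  apply dvd_card_of_le_of_isPGroup Q _ hQ hQne
  refine le_inf hQH ?_
  intro q hq
  have h1 := (Subgroup.mem_normalizer_iff.1 (inv_mem hc) q).1 hq
  rw [inv_inv] at h1
  refine Subgroup.mem_map.2 ⟨c⁻¹ * q * c, hQH h1, ?_⟩
  simp only [MulEquiv.coe_toMonoidHom, MulAut.conj_apply]
  group

/-- In a `p`-solvable group of order divisible by `p`, `O_{p'}(G)` is properly contained in a normal
subgroup `L` with `L / O_{p'}(G)` a `p`-group. -/
theorem exists_normal_p_step {G : Type*} [Group G] [Finite G] {p : ℕ} [hp : Fact p.Prime]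
    (hps : PSReach p (⊤ : Subgroup G)) (hdiv : p ∣ Nat.card G) :
    ∃ L : Subgroup G, L.Normal ∧ Cfsg.pPrimeCore p G ≤ L ∧ L ≠ Cfsg.pPrimeCore p G ∧
      ∃ m : ℕ, (Cfsg.pPrimeCore p G).relIndex L = p ^ m := by
  set K := Cfsg.pPrimeCore p G with hK
  haveI hKn : K.Normal := Cfsg.Agent.helper1.pPrimeCore_normal p
  have hKc : (Nat.card K).Coprime p := Cfsg.Agent.helper1.pPrimeCore_coprime p
  have key : ∀ X : Subgroup G, PSReach p X → X ≤ K ∨
      ∃ L : Subgroup G, L.Normal ∧ K ≤ L ∧ L ≠ K ∧ ∃ m : ℕ, K.relIndex L = p ^ m := by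
    intro X hX
    induction hX with
    | bot => exact Or.inl bot_le
    | step K' L' hK' hKL hLn hfac ih =>
      rcases ih with ih | ih
      · by_cases hL'K : L' ≤ K
        · exact Or.inl hL'K
        right
        rcases hfac with ⟨m, hm⟩ | hc
        · haveI := hLn
          refine ⟨K ⊔ L', inferInstance, le_sup_left, ?_, ?_⟩
          · intro h
            apply hL'K
            rw [← h]; exact le_sup_right
          · have h1 : K.relIndex (K ⊔ L') = K.relIndex L' := Subgroup.relIndex_sup_left L' K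
            have h2 : K.relIndex L' ∣ K'.relIndex L' := Subgroup.relIndex_dvd_of_le_left L' ih
            rw [hm] at h2
            obtain ⟨j, _, hj⟩ := (Nat.dvd_prime_pow hp.out).1 h2
            exact ⟨j, by rw [h1, hj]⟩
        · exfalso
          apply hL'K
          apply Cfsg.Agent.helper1.le_pPrimeCore hLn
          have h1 := Subgroup.relIndex_mul_relIndex ⊥ K' L' bot_le hKL
          rw [Subgroup.relIndex_bot_left, Subgroup.relIndex_bot_left] at h1
          rw [← h1]
          apply Nat.Coprime.mul_left _ hc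
          exact Nat.Coprime.coprime_dvd_left (Subgroup.card_dvd_of_le ih) hKc
      · exact Or.inr ih
  rcases key ⊤ hps with h | h
  · exfalso
    have h1 : K = ⊤ := top_le_iff.1 h
    rw [h1, Subgroup.card_top] at hKc
    exact (Nat.Prime.coprime_iff_not_dvd hp.out).1 hKc.symm hdiv
  · exact h

/-- A subgroup of prime order is generated by any of its elements of that order. -/
theorem exists_zpowers_eq_of_card_prime {P : Type*} [Group P] [Finite P] {p : ℕ} [Fact p.Prime]
    (X : Subgroup P) (hX : Nat.card X = p) : ∃ x : P, orderOf x = p ∧ Subgroup.zpowers x = X := by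
  have hp : p.Prime := Fact.out
  have hne : X ≠ ⊥ := by
    intro h; rw [h, Subgroup.card_bot] at hX; exact hp.one_lt.ne hX
  obtain ⟨⟨x, hxX⟩, hx1'⟩ := Subgroup.ne_bot_iff_exists_ne_one.1 hne
  have hx1 : x ≠ 1 := fun h => hx1' (Subtype.ext h)
  have h1 : orderOf x ∣ p := by
    have : orderOf (⟨x, hxX⟩ : ↥X) ∣ Nat.card X := orderOf_dvd_natCard _
    rwa [hX, ← Subgroup.orderOf_coe] at this
  have h2 : orderOf x = p := by
    rcases (Nat.dvd_prime hp).1 h1 with h | h
    · exact absurd (orderOf_eq_one_iff.1 h) hx1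
    · exact h
  refine ⟨x, h2, ?_⟩
  apply Subgroup.eq_of_le_of_card_ge (Subgroup.zpowers_le.2 hxX)
  rw [Nat.card_zpowers, h2, hX]

/-- A strongly `p`-embedded subgroup of a `p`-solvable group forces the Sylow `p`-subgroups to have a
unique subgroup of order `p`. -/
theorem uniq_of_isClassicalSPE {G : Type*} [Group G] [Finite G] {p : ℕ} [hp : Fact p.Prime]
    (hps : PSReach p (⊤ : Subgroup G)) (H : Subgroup G) (hH : IsClassicalSPE p H)
    (S : Sylow p G) (hSH : (S : Subgroup G) ≤ H) :
    ∀ X Y : Subgroup ↥(S : Subgroup G), Nat.card X = p → Nat.card Y = p → X = Y := by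
  intro X Y hX hY
  by_contra hXY
  have hdiv : p ∣ Nat.card G := hH.2.1.trans (Subgroup.card_dvd_of_le le_top |>.trans (by rw [Subgroup.card_top]))
  obtain ⟨x, hox, hxX⟩ := exists_zpowers_eq_of_card_prime X hX
  obtain ⟨y, hoy, hyY⟩ := exists_zpowers_eq_of_card_prime Y hY
  -- a central element of order `p`
  have hSp : IsPGroup p ↥(S : Subgroup G) := S.isPGroup'
  haveI : Nontrivial ↥(S : Subgroup G) := by
    refine ⟨⟨x, 1, ?_⟩⟩
    intro h; rw [h, orderOf_one] at hox; exact hp.out.one_lt.ne hox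
  haveI := hSp.center_nontrivial
  have hcdvd : p ∣ Nat.card (Subgroup.center ↥(S : Subgroup G)) := by
    obtain ⟨k, hk⟩ := IsPGroup.iff_card.1 (hSp.to_subgroup (Subgroup.center ↥(S : Subgroup G)))
    rw [hk]
    have hk0 : k ≠ 0 := by
      rintro rfl
      rw [pow_zero] at hk
      have := Subgroup.card_eq_one.1 hk
      exact (Subgroup.nontrivial_iff_ne_bot _).1 inferInstance this
    exact dvd_pow_self p hk0
  obtain ⟨⟨z, hzc⟩, hoz⟩ := exists_prime_orderOf_dvd_card' p hcdvd
  have hoz' : orderOf z = p :=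
    (Subgroup.orderOf_coe (⟨z, hzc⟩ : ↥(Subgroup.center ↥(S : Subgroup G)))).trans hoz
  -- choose `w ∈ {x, y}` outside `⟨z⟩`
  obtain ⟨w, how, hwz⟩ : ∃ w : ↥(S : Subgroup G), orderOf w = p ∧ w ∉ Subgroup.zpowers z := by
    by_cases hxz : x ∈ Subgroup.zpowers z
    · refine ⟨y, hoy, ?_⟩
      intro hyz
      apply hXY
      have e1 : Subgroup.zpowers x = Subgroup.zpowers z := by
        apply Subgroup.eq_of_le_of_card_ge (Subgroup.zpowers_le.2 hxz)
        rw [Nat.card_zpowers, Nat.card_zpowers, hox, hoz']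
      have e2 : Subgroup.zpowers y = Subgroup.zpowers z := by
        apply Subgroup.eq_of_le_of_card_ge (Subgroup.zpowers_le.2 hyz)
        rw [Nat.card_zpowers, Nat.card_zpowers, hoy, hoz']
      rw [← hxX, ← hyY, e1, e2]
    · exact ⟨x, hox, hxz⟩
  -- the noncyclic abelian subgroup `A`
  set A : Subgroup G := Subgroup.closure {(z : G), (w : G)} with hA
  have hzw : (z : G) * (w : G) = (w : G) * (z : G) := by
    have := (Subgroup.mem_center_iff.1 hzc w)
    exact (congrArg Subtype.val this).symm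
  haveI hAc : IsMulCommutative ↥A := by
    apply Subgroup.isMulCommutative_closure
    intro a ha b hb
    simp only [Set.mem_insert_iff, Set.mem_singleton_iff] at ha hb
    rcases ha with rfl | rfl <;> rcases hb with rfl | rfl
    · rfl
    · exact hzw
    · exact hzw.symm
    · rfl
  have hAS : A ≤ (S : Subgroup G) := by
    rw [hA, Subgroup.closure_le]
    intro a ha
    simp only [Set.mem_insert_iff, Set.mem_singleton_iff] at ha
    rcases ha with rfl | rfl
    · exact z.2
    · exact w.2
  have hzA : (z : G) ∈ A := Subgroup.subset_closure (by simp)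
  have hwA : (w : G) ∈ A := Subgroup.subset_closure (by simp)
  have hAnc : ¬ IsCyclic ↥A := by
    intro hcyc
    have h1 : orderOf (⟨(z : G), hzA⟩ : ↥A) = p :=
      (Subgroup.orderOf_coe (⟨(z : G), hzA⟩ : ↥A)).symm.trans ((Subgroup.orderOf_coe z).trans hoz')
    have hwp : w ^ p = 1 := by
      have hd : orderOf w ∣ p := by rw [how]
      exact orderOf_dvd_iff_pow_eq_one.1 hd
    have h2 : (⟨(w : G), hwA⟩ : ↥A) ^ p = 1 := by
      apply Subtype.ext
      simp only [Subgroup.coe_pow, Subgroup.coe_one]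
      rw [← Subgroup.coe_pow, hwp, Subgroup.coe_one]
    have h3 := Cfsg.Agent.helper1.mem_zpowers_of_orderOf_eq_prime hp.out
      (⟨(z : G), hzA⟩ : ↥A) ⟨(w : G), hwA⟩ h1 h2
    obtain ⟨n, hn⟩ := Subgroup.mem_zpowers_iff.1 h3
    apply hwz
    refine Subgroup.mem_zpowers_iff.2 ⟨n, ?_⟩
    apply Subtype.ext
    have := congrArg Subtype.val hn
    simpa using this
  -- `K = O_{p'}(G) ≤ H`
  set K := Cfsg.pPrimeCore p G with hK
  haveI hKn : K.Normal := Cfsg.Agent.helper1.pPrimeCore_normal p
  have hKc : (Nat.card K).Coprime p := Cfsg.Agent.helper1.pPrimeCore_coprime p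
  have hAK : A ≤ Subgroup.normalizer (K : Set G) := by
    rw [Subgroup.normalizer_eq_top]; exact le_top
  have hcopAK : (Nat.card A).Coprime (Nat.card K) := by
    obtain ⟨k, hk⟩ := IsPGroup.iff_card.1 (hSp.to_le hAS)
    rw [hk]
    exact Nat.Coprime.pow_left k hKc.symm
  have hKH : K ≤ H := by
    rw [← iSup_centralizer_eq_of_not_isCyclic A K hAnc hAK hcopAK]
    apply iSup₂_le
    rintro a ⟨haA, ha1⟩
    have hQp : IsPGroup p ↥(Subgroup.zpowers a) :=
      hSp.to_le (Subgroup.zpowers_le.2 (hAS haA))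
    have hQne : Subgroup.zpowers a ≠ ⊥ := by
      intro h; exact ha1 (Subgroup.zpowers_eq_bot.1 h)
    have hQH : Subgroup.zpowers a ≤ H := Subgroup.zpowers_le.2 (hSH (hAS haA))
    have hN := normalizer_le_of_isClassicalSPE H hH _ hQp hQne hQH
    intro c hc
    apply hN
    apply mem_normalizer_zpowers_of_commute
    exact (Subgroup.mem_centralizer_singleton_iff.1 (Subgroup.mem_inf.1 hc).2)
  -- the next step `L`
  obtain ⟨L, hLn, hKL, hLK, m, hm⟩ := exists_normal_p_step hps hdiv
  haveI := hLn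
  have hLcard : Nat.card L = Nat.card K * p ^ m := by
    have h1 := Subgroup.relIndex_mul_relIndex ⊥ K L bot_le hKL
    rw [Subgroup.relIndex_bot_left, Subgroup.relIndex_bot_left, hm] at h1
    exact h1.symm
  have hm0 : m ≠ 0 := by
    rintro rfl
    apply hLK
    apply (Subgroup.eq_of_le_of_card_ge hKL _).symm
    rw [hLcard, pow_zero, mul_one]
  obtain ⟨Q, hQ⟩ := Cfsg.Agent.S0542.result p L hLn.isSubnormal S
  set D : Subgroup G := (Q : Subgroup ↥L).map L.subtype with hD
  have hDS : D ≤ (S : Subgroup G) := by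
    rintro _ ⟨q, hq, rfl⟩
    have : q ∈ (Q : Subgroup ↥L) := hq
    rw [hQ, Subgroup.mem_subgroupOf] at this
    exact this
  have hDL : D ≤ L := Subgroup.map_subtype_le _
  have hDcard : Nat.card D = p ^ m := by
    rw [hD, Subgroup.card_map_of_injective L.subtype_injective, Sylow.card_eq_multiplicity, hLcard]
    congr 1
    rw [Nat.factorization_mul Nat.card_pos.ne' (pow_ne_zero _ hp.out.ne_zero)]
    simp only [Finsupp.coe_add, Pi.add_apply]
    rw [Nat.factorization_eq_zero_of_not_dvd ((Nat.Prime.coprime_iff_not_dvd hp.out).1 hKc.symm),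
      hp.out.factorization_pow]
    simp
  have hDne : D ≠ ⊥ := by
    intro h
    rw [h, Subgroup.card_bot] at hDcard
    exact hm0 (by
      by_contra hne
      have : 1 < p ^ m := Nat.one_lt_pow hne hp.out.one_lt
      omega)
  have hDp : IsPGroup p ↥D := hSp.to_le hDS
  have hND : Subgroup.normalizer (D : Set G) ≤ H :=
    normalizer_le_of_isClassicalSPE H hH D hDp hDne (hDS.trans hSH)
  have hLH : L ≤ H := by
    have h1 : K ⊔ D ≤ L := sup_le hKL hDL
    have h2 : Nat.card L ≤ Nat.card ↥(K ⊔ D) := by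
      apply Nat.le_of_dvd Nat.card_pos
      rw [hLcard]
      apply Nat.Coprime.mul_dvd_of_dvd_of_dvd (Nat.Coprime.pow_right m hKc)
      · exact Subgroup.card_dvd_of_le le_sup_left
      · rw [← hDcard]; exact Subgroup.card_dvd_of_le le_sup_right
    rw [← Subgroup.eq_of_le_of_card_ge h1 h2]
    exact sup_le hKH (hDS.trans hSH)
  have hfr := Sylow.normalizer_sup_eq_top Q
  have htop : (⊤ : Subgroup G) ≤ H := by
    rw [← hfr]
    exact sup_le hND hLH
  exact hH.1 (top_le_iff.1 htop)


end Cfsg.Agent.helper15
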