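import Cfsg.Statements.S3012

set_option autoImplicit false
open Cfsg

namespace Cfsg.Agent.S3012

/-- Let G be a finite group, V a nontrivial elementary abelian 2-subgroup of G satisfying the Sidki pair condition (every odd-order element inverted by an element of V commutes with a nontrivial element of V), and K a normal subgroup of G with V ∩ K = 1. Then the image of V in G/K satisfies the Sidki pair condition in G/K. -/
theorem result {G : Type*} [Group G] [Finite G] (V K : Subgroup G) [K.Normal] (hV : Cfsg.IsElementaryAbelian 2 V) (hV1 : V ≠ ⊥) (hS : Cfsg.IsSidkiPair V) (hVK : V ⊓ K = ⊥) : Cfsg.IsSidkiPair (V.map (QuotientGroup.mk' K)) := by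
  intro hbar vbar hvbar hodd hinv
  obtain ⟨v, hvV, rfl⟩ := hvbar
  obtain ⟨h, rfl⟩ := QuotientGroup.mk'_surjective K hbar
  have hv2 : v ^ 2 = 1 := hV.2 v hvV
  have hvinv : v⁻¹ = v := by
    rw [inv_eq_iff_mul_eq_one, ← pow_two, hv2]
  set c : G := v * h * v⁻¹ * h⁻¹ with hc
  have hvc : v * c * v⁻¹ = c⁻¹ := by
    rw [hc, hvinv]
    have e1 : (v * h * v * h⁻¹)⁻¹ = h * v⁻¹ * h⁻¹ * v⁻¹ := by group
    rw [e1, hvinv]
    have e2 : v * (v * h * v * h⁻¹) * v = (v * v) * h * v * h⁻¹ * v := by group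
    rw [e2, ← pow_two, hv2]
    group
  obtain ⟨a, m, hm, hn⟩ := Nat.exists_eq_two_pow_mul_odd (n := orderOf c) (orderOf_pos c).ne'
  set c' : G := c ^ (2 ^ a) with hc'
  have hc'odd : Odd (orderOf c') := by
    have : c' ^ m = 1 := by
      rw [hc', ← pow_mul, ← hn, pow_orderOf_eq_one]
    exact Odd.of_dvd_nat hm (orderOf_dvd_of_pow_eq_one this)
  have hvc' : v * c' * v⁻¹ = c'⁻¹ := by
    have : v * c' * v⁻¹ = (v * c * v⁻¹) ^ (2 ^ a) := by
      rw [hc', conj_pow]
    rw [this, hvc, inv_pow]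
  obtain ⟨w, hwV, hw1, hwc⟩ := hS c' v hvV hc'odd hvc'
  refine ⟨QuotientGroup.mk' K w, Subgroup.mem_map_of_mem _ hwV, ?_, ?_⟩
  · intro h1
    have hwK : w ∈ K := by
      rwa [QuotientGroup.mk'_apply, QuotientGroup.eq_one_iff] at h1
    have : w ∈ V ⊓ K := ⟨hwV, hwK⟩
    rw [hVK, Subgroup.mem_bot] at this
    exact hw1 this
  · set q := QuotientGroup.mk' K with hq
    have hqc : q c = (q h ^ 2)⁻¹ := by
      have : q c = q v * q h * (q v)⁻¹ * (q h)⁻¹ := by
        rw [hc]; simp
      rw [this, hinv, pow_two, mul_inv_rev]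
    have hqc' : q c' = ((q h) ^ (2 ^ (a + 1)))⁻¹ := by
      rw [hc', map_pow, hqc, inv_pow, ← pow_mul, pow_succ, mul_comm]
    have hcomm1 : Commute (q w) (q c') := by
      show q w * q c' = q c' * q w
      rw [← map_mul, ← map_mul, hwc]
    have hcomm2 : Commute (q w) ((q h) ^ (2 ^ (a + 1))) := by
      rw [hqc'] at hcomm1
      simpa using hcomm1.inv_right
    have hcop : (2 ^ (a + 1)).Coprime (orderOf (q h)) := by
      apply Nat.Coprime.pow_left
      rw [Nat.coprime_two_left]
      exact hodd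
    obtain ⟨t, ht⟩ := exists_pow_eq_self_of_coprime hcop
    have := hcomm2.pow_right t
    rw [ht] at this
    exact this

end Cfsg.Agent.S3012
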