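import Mathlib
import Cfsg.Prelude.Def_SubgroupEmbedding
import Cfsg.Agent.Lib_helper1_Core
import Cfsg.Agent.Lib_helper7_Comp
import Cfsg.Agent.S3012

set_option autoImplicit false
set_option linter.style.haveILetI false
set_option linter.unusedSectionVars false
set_option linter.unusedVariables false

open Cfsg Cfsg.Agent.helper7

namespace Cfsg.Agent.helper15.Sid

universe u

/-- The minimal counterexample package for the Sidki pair problem. -/
structure MinCE (G : Type u) [Group G] [Finite G] (V : Subgroup G) : Prop where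
  ea : Cfsg.IsElementaryAbelian 2 V
  ne : V ≠ ⊥
  sidki : Cfsg.IsSidkiPair V
  vo : V ⊓ Cfsg.pCore 2 G = ⊥
  minG : ∀ (H : Type u) [Group H] [Finite H] (W : Subgroup H), Nat.card H < Nat.card G →
    Cfsg.IsElementaryAbelian 2 W → W ≠ ⊥ → Cfsg.IsSidkiPair W → W ⊓ Cfsg.pCore 2 H ≠ ⊥
  minV : ∀ W : Subgroup G, Nat.card W < Nat.card V → Cfsg.IsElementaryAbelian 2 W → W ≠ ⊥ →
    Cfsg.IsSidkiPair W → W ⊓ Cfsg.pCore 2 G ≠ ⊥

section general

variable {G : Type u} [Group G]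

theorem ea_subgroupOf {W : Subgroup G} (H : Subgroup G) (h : Cfsg.IsElementaryAbelian 2 W) :
    Cfsg.IsElementaryAbelian 2 (W.subgroupOf H) := by
  refine ⟨⟨⟨fun a b => ?_⟩⟩, ?_⟩
  · have h1 := h.1.is_comm.comm ⟨((a : ↥H) : G), Subgroup.mem_subgroupOf.1 a.2⟩
      ⟨((b : ↥H) : G), Subgroup.mem_subgroupOf.1 b.2⟩
    have h2 : ((a : ↥H) : G) * ((b : ↥H) : G) = ((b : ↥H) : G) * ((a : ↥H) : G) :=
      congrArg Subtype.val h1
    exact Subtype.ext (Subtype.ext h2)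
  · intro a ha
    have h1 := h.2 (a : G) (Subgroup.mem_subgroupOf.1 ha)
    exact Subtype.ext (by rw [Subgroup.coe_pow, h1]; rfl)

theorem ea_of_le {W W' : Subgroup G} (hle : W' ≤ W) (h : Cfsg.IsElementaryAbelian 2 W) :
    Cfsg.IsElementaryAbelian 2 W' := by
  refine ⟨⟨⟨fun a b => ?_⟩⟩, fun a ha => h.2 a (hle ha)⟩
  have h1 := h.1.is_comm.comm ⟨(a : G), hle a.2⟩ ⟨(b : G), hle b.2⟩
  have h2 : (a : G) * (b : G) = (b : G) * (a : G) := congrArg Subtype.val h1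
  exact Subtype.ext h2

theorem ea_comm {W : Subgroup G} (h : Cfsg.IsElementaryAbelian 2 W) {a b : G} (ha : a ∈ W)
    (hb : b ∈ W) : a * b = b * a :=
  congrArg Subtype.val (h.1.is_comm.comm ⟨a, ha⟩ ⟨b, hb⟩)

theorem ea_inv {W : Subgroup G} (h : Cfsg.IsElementaryAbelian 2 W) {a : G} (ha : a ∈ W) :
    a⁻¹ = a := by
  rw [inv_eq_iff_mul_eq_one, ← pow_two]; exact h.2 a ha

theorem ea_mul_self {W : Subgroup G} (h : Cfsg.IsElementaryAbelian 2 W) {a : G} (ha : a ∈ W) :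
    a * a = 1 := by
  rw [← pow_two]; exact h.2 a ha

theorem eq_one_of_odd_of_inv_eq {x : G} (hodd : Odd (orderOf x)) (h : x⁻¹ = x) : x = 1 := by
  have h2 : x ^ 2 = 1 := by
    rw [pow_two]
    calc x * x = x⁻¹ * x := by rw [h]
      _ = 1 := inv_mul_cancel x
  have h3 : orderOf x ∣ 2 := orderOf_dvd_of_pow_eq_one h2
  have h4 : orderOf x = 1 := by
    rcases (Nat.dvd_prime Nat.prime_two).1 h3 with h | h
    · exact h
    · rw [h] at hodd; exact absurd hodd (by decide)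
  exact orderOf_eq_one_iff.1 h4

/-- An odd-order element whose square lies in a subgroup lies in that subgroup. -/
theorem mem_of_sq_mem_of_odd {M : Subgroup G} {h : G} (hodd : Odd (orderOf h)) (hsq : h * h ∈ M) :
    h ∈ M := by
  obtain ⟨m, hm⟩ := hodd
  have h1 : (h * h) ^ (m + 1) = h := by
    rw [← pow_two, ← pow_mul]
    have : 2 * (m + 1) = orderOf h + 1 := by omega
    rw [this, pow_succ, pow_orderOf_eq_one, one_mul]
  rw [← h1]
  exact M.pow_mem hsq _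

theorem odd_mul_of_commute {a b : G} (hab : a * b = b * a) (ha : Odd (orderOf a))
    (hb : Odd (orderOf b)) : Odd (orderOf (a * b)) := by
  have hc : Commute a b := hab
  have h1 := hc.orderOf_mul_dvd_lcm
  have h2 : Odd (Nat.lcm (orderOf a) (orderOf b)) := by
    have h3 : Nat.lcm (orderOf a) (orderOf b) ∣ orderOf a * orderOf b := Nat.lcm_dvd_mul _ _
    exact (Odd.mul ha hb).of_dvd_nat h3
  exact h2.of_dvd_nat h1

/-- Elements of `L ⊔ W` when `W` normalizes `L`. -/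
theorem exists_mul_of_mem_sup {L W : Subgroup G} (hn : ∀ v ∈ W, ∀ l ∈ L, v * l * v⁻¹ ∈ L)
    {x : G} (hx : x ∈ L ⊔ W) : ∃ l ∈ L, ∃ v ∈ W, x = l * v := by
  rw [Subgroup.sup_eq_closure] at hx
  induction hx using Subgroup.closure_induction with
  | mem y hy =>
    rcases hy with hy | hy
    · exact ⟨y, hy, 1, W.one_mem, by rw [mul_one]⟩
    · exact ⟨1, L.one_mem, y, hy, by rw [one_mul]⟩
  | one => exact ⟨1, L.one_mem, 1, W.one_mem, by rw [mul_one]⟩
  | mul y z _ _ hy hz =>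
    obtain ⟨l, hl, v, hv, rfl⟩ := hy
    obtain ⟨l', hl', v', hv', rfl⟩ := hz
    refine ⟨l * (v * l' * v⁻¹), L.mul_mem hl (hn v hv l' hl'), v * v', W.mul_mem hv hv', ?_⟩
    group
  | inv y _ hy =>
    obtain ⟨l, hl, v, hv, rfl⟩ := hy
    refine ⟨v⁻¹ * l⁻¹ * v⁻¹⁻¹, hn v⁻¹ (W.inv_mem hv) l⁻¹ (L.inv_mem hl), v⁻¹, W.inv_mem hv, ?_⟩
    group

/-- Odd-order elements of `L ⊔ W` lie in `L` when `W` has exponent two and normalizes `L`. -/
theorem odd_mem_of_sup {L W : Subgroup G} (hn : ∀ v ∈ W, ∀ l ∈ L, v * l * v⁻¹ ∈ L)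
    (hW : ∀ v ∈ W, v * v = 1) {h : G} (hh : h ∈ L ⊔ W) (hodd : Odd (orderOf h)) : h ∈ L := by
  obtain ⟨l, hl, v, hv, rfl⟩ := exists_mul_of_mem_sup hn hh
  apply mem_of_sq_mem_of_odd hodd
  have : l * v * (l * v) = l * (v * l * v⁻¹) * (v * v) := by group
  rw [this, hW v hv, mul_one]
  exact L.mul_mem hl (hn v hv l hl)

/-- Relative Sidki condition gives a Sidki pair in the subgroup. -/
theorem sidki_sub (H W : Subgroup G)
    (hS : ∀ h ∈ H, ∀ v ∈ W, Odd (orderOf h) → v * h * v⁻¹ = h⁻¹ →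
      ∃ w ∈ W, w ≠ 1 ∧ w * h = h * w) (hWH : W ≤ H) :
    Cfsg.IsSidkiPair (W.subgroupOf H) := by
  intro h v hv hodd hinv
  have h1 : (v : G) * (h : G) * (v : G)⁻¹ = (h : G)⁻¹ := by
    have := congrArg Subtype.val hinv
    simpa using this
  have h2 : Odd (orderOf (h : G)) := by rwa [Subgroup.orderOf_coe]
  obtain ⟨w, hw, hw1, hwc⟩ := hS (h : G) h.2 (v : G) (Subgroup.mem_subgroupOf.1 hv) h2 h1
  refine ⟨⟨w, hWH hw⟩, Subgroup.mem_subgroupOf.2 hw, ?_, Subtype.ext hwc⟩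
  intro h0
  exact hw1 (congrArg Subtype.val h0)

end general

section fin

variable {G : Type u} [Group G] [Finite G]

/-- `O₂(G / O₂(G)) = 1`. -/
theorem core_quotient_core (Q : Subgroup G) [Q.Normal] (hQ : Q = Cfsg.pCore 2 G) :
    Cfsg.pCore 2 (G ⧸ Q) = ⊥ := by
  haveI : Fact (Nat.Prime 2) := ⟨Nat.prime_two⟩
  set R : Subgroup G := (Cfsg.pCore 2 (G ⧸ Q)).comap (QuotientGroup.mk' Q) with hR
  haveI : (Cfsg.pCore 2 (G ⧸ Q)).Normal := Cfsg.Agent.helper1.pCore_normal 2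
  have hRn : R.Normal := Subgroup.Normal.comap inferInstance _
  have hRp : IsPGroup 2 R := by
    apply IsPGroup.comap_of_ker_isPGroup (Cfsg.Agent.helper1.pCore_isPGroup 2)
    rw [QuotientGroup.ker_mk', hQ]
    exact Cfsg.Agent.helper1.pCore_isPGroup 2
  have hRQ : R ≤ Q := by
    rw [hQ]; exact Cfsg.Agent.helper1.le_pCore hRn hRp
  rw [eq_bot_iff]
  intro x hx
  obtain ⟨g, rfl⟩ := QuotientGroup.mk'_surjective Q x
  have hg : g ∈ R := hx
  have : g ∈ Q := hRQ hg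
  rw [Subgroup.mem_bot]
  exact (QuotientGroup.eq_one_iff g).2 this

/-- No nontrivial normal 2-subgroup inside a normal subgroup when `O₂(G) = 1`. -/
theorem no_two_sub_of_normal (hO : Cfsg.pCore 2 G = ⊥) (X : Subgroup G) [hXn : X.Normal] :
    ∀ T : Subgroup G, T ≤ X → IsPGroup 2 T → (∀ x ∈ X, ∀ t ∈ T, x * t * x⁻¹ ∈ T) → T = ⊥ := by
  intro T hTX hTp hTn
  haveI : Fact (Nat.Prime 2) := ⟨Nat.prime_two⟩
  set R : Subgroup G := (Cfsg.pCore 2 ↥X).map X.subtype with hR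
  have hRp : IsPGroup 2 R := (Cfsg.Agent.helper1.pCore_isPGroup 2).map _
  have hconj : ∀ g : G, ∀ t ∈ T, g * t * g⁻¹ ∈ R := by
    intro g t ht
    obtain ⟨Tg, hTg⟩ : ∃ Tg : Subgroup G, Tg = cj g T := ⟨_, rfl⟩
    have hTgX : Tg ≤ X := by
      rw [hTg]
      rintro _ ⟨s, hs, rfl⟩
      exact hXn.conj_mem s (hTX hs) g
    have hTgp : IsPGroup 2 Tg := by rw [hTg]; exact hTp.map _
    have hTgn : (Tg.subgroupOf X).Normal := by
      constructor
      intro a ha b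
      rw [Subgroup.mem_subgroupOf] at ha ⊢
      rw [hTg, mem_cj] at ha ⊢
      have hb : g⁻¹ * (b : G) * g ∈ X := by
        have := hXn.conj_mem (b : G) b.2 g⁻¹
        simpa using this
      have := hTn _ hb _ ha
      have e : g⁻¹ * ((b * a * b⁻¹ : ↥X) : G) * g =
          g⁻¹ * (b : G) * g * (g⁻¹ * (a : G) * g) * (g⁻¹ * (b : G) * g)⁻¹ := by
        simp only [Subgroup.coe_mul, Subgroup.coe_inv]
        group
      rw [e]; exact this
    have hle : Tg.subgroupOf X ≤ Cfsg.pCore 2 ↥X :=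
      Cfsg.Agent.helper1.le_pCore hTgn (IsPGroup.comap_subtype hTgp)
    have hmem : g * t * g⁻¹ ∈ Tg := by rw [hTg]; exact cj_mem_cj ht
    exact ⟨⟨g * t * g⁻¹, hTgX hmem⟩, hle (Subgroup.mem_subgroupOf.2 hmem), rfl⟩
  have hK : Subgroup.normalClosure (T : Set G) ≤ R := by
    unfold Subgroup.normalClosure
    rw [Subgroup.closure_le]
    intro x hx
    rw [Group.mem_conjugatesOfSet_iff] at hx
    obtain ⟨t, ht, hc⟩ := hx
    rw [isConj_iff] at hc
    obtain ⟨c, rfl⟩ := hc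
    exact hconj c t ht
  have hKp : IsPGroup 2 (Subgroup.normalClosure (T : Set G)) := hRp.to_le hK
  have hKle : Subgroup.normalClosure (T : Set G) ≤ Cfsg.pCore 2 G :=
    Cfsg.Agent.helper1.le_pCore Subgroup.normalClosure_normal hKp
  rw [hO] at hKle
  rw [eq_bot_iff]
  exact Subgroup.le_normalClosure.trans hKle

/-- An element of `O₂(H)` centralizes a normal subgroup `X` of `H` without normal 2-subgroups. -/
theorem cent_of_core (H X : Subgroup G) (hXH : X ≤ H)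
    (hHX : ∀ h ∈ H, ∀ x ∈ X, h * x * h⁻¹ ∈ X)
    (hX : ∀ T : Subgroup G, T ≤ X → IsPGroup 2 T → (∀ x ∈ X, ∀ t ∈ T, x * t * x⁻¹ ∈ T) → T = ⊥)
    (u : G) (hu : u ∈ H) (huc : (⟨u, hu⟩ : ↥H) ∈ Cfsg.pCore 2 ↥H) :
    ∀ x ∈ X, u * x = x * u := by
  haveI : Fact (Nat.Prime 2) := ⟨Nat.prime_two⟩
  have hcn : (Cfsg.pCore 2 ↥H).Normal := Cfsg.Agent.helper1.pCore_normal 2
  set R : Subgroup G := (Cfsg.pCore 2 ↥H).map H.subtype with hR
  have hRp : IsPGroup 2 R := (Cfsg.Agent.helper1.pCore_isPGroup 2).map _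
  have hRn : ∀ h ∈ H, ∀ r ∈ R, h * r * h⁻¹ ∈ R := by
    rintro h hh _ ⟨r, hr, rfl⟩
    exact ⟨⟨h, hh⟩ * r * ⟨h, hh⟩⁻¹, hcn.conj_mem r hr ⟨h, hh⟩, rfl⟩
  have hT : R ⊓ X = ⊥ :=
    hX _ inf_le_right (hRp.to_le inf_le_left)
      (fun x hx t ht => ⟨hRn x (hXH hx) t ht.1, X.mul_mem (X.mul_mem hx ht.2) (X.inv_mem hx)⟩)
  intro x hx
  have huR : u ∈ R := ⟨⟨u, hu⟩, huc, rfl⟩
  have hc : u * x * u⁻¹ * x⁻¹ ∈ R ⊓ X := by
    refine ⟨?_, ?_⟩
    · have h1 : x * u⁻¹ * x⁻¹ ∈ R := hRn x (hXH hx) _ (R.inv_mem huR)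
      have h2 := R.mul_mem huR h1
      have e : u * x * u⁻¹ * x⁻¹ = u * (x * u⁻¹ * x⁻¹) := by group
      rw [e]; exact h2
    · exact X.mul_mem (hHX u hu x hx) (X.inv_mem hx)
  rw [hT, Subgroup.mem_bot] at hc
  calc u * x = (u * x * u⁻¹ * x⁻¹) * (x * u) := by group
    _ = x * u := by rw [hc, one_mul]

/-- A central involution-type element of a normal subgroup is trivial when `O₂(G) = 1`. -/
theorem two_torsion_center_bot (hO : Cfsg.pCore 2 G = ⊥) (M : Subgroup G) [hMn : M.Normal]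
    (u : G) (huM : u ∈ M) (huc : ∀ m ∈ M, u * m = m * u) (hu2 : u * u = 1) : u = 1 := by
  let T : Subgroup G :=
    { carrier := {z | z ∈ M ∧ (∀ m ∈ M, z * m = m * z) ∧ z * z = 1}
      one_mem' := ⟨M.one_mem, fun m _ => by rw [one_mul, mul_one], by rw [one_mul]⟩
      mul_mem' := by
        rintro a b ⟨ha, hac, ha2⟩ ⟨hb, hbc, hb2⟩
        refine ⟨M.mul_mem ha hb, fun m hm => ?_, ?_⟩
        · calc a * b * m = a * (b * m) := by group
            _ = a * (m * b) := by rw [hbc m hm]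
            _ = (a * m) * b := by group
            _ = (m * a) * b := by rw [hac m hm]
            _ = m * (a * b) := by group
        · calc a * b * (a * b) = a * (b * a) * b := by group
            _ = a * (a * b) * b := by rw [hbc a ha]
            _ = (a * a) * (b * b) := by group
            _ = 1 := by rw [ha2, hb2, one_mul]
      inv_mem' := by
        rintro a ⟨ha, hac, ha2⟩
        have hinv : a⁻¹ = a := by rw [inv_eq_iff_mul_eq_one]; exact ha2
        rw [Set.mem_setOf_eq, hinv]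
        exact ⟨ha, hac, ha2⟩ }
  have hTn : T.Normal := by
    constructor
    rintro a ⟨ha, hac, ha2⟩ g
    refine ⟨hMn.conj_mem a ha g, fun m hm => ?_, ?_⟩
    · have hm' : g⁻¹ * m * g ∈ M := by
        have := hMn.conj_mem m hm g⁻¹
        simpa using this
      calc g * a * g⁻¹ * m = g * (a * (g⁻¹ * m * g)) * g⁻¹ := by group
        _ = g * ((g⁻¹ * m * g) * a) * g⁻¹ := by rw [hac _ hm']
        _ = m * (g * a * g⁻¹) := by group
    · calc g * a * g⁻¹ * (g * a * g⁻¹) = g * (a * a) * g⁻¹ := by group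
        _ = 1 := by rw [ha2]; group
  have hTp : IsPGroup 2 T := by
    intro a
    refine ⟨1, ?_⟩
    apply Subtype.ext
    rw [pow_one, Subgroup.coe_pow, pow_two]
    exact a.2.2.2
  have hle : T ≤ Cfsg.pCore 2 G := Cfsg.Agent.helper1.le_pCore hTn hTp
  rw [hO] at hle
  have : u ∈ T := ⟨huM, huc, hu2⟩
  exact Subgroup.mem_bot.1 (hle this)

end fin

end Cfsg.Agent.helper15.Sid
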