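import Mathlib
import Cfsg.Agent.Lib_helper15_Sid1
import Cfsg.Agent.Lib_helper15_BaerSuzuki2

set_option autoImplicit false
set_option linter.style.haveILetI false
set_option linter.unusedSectionVars false
set_option linter.unusedVariables false

open Cfsg Cfsg.Agent.helper7

namespace Cfsg.Agent.helper15.Sid

universe u

variable {G : Type u} [Group G] [Finite G] {V : Subgroup G}

theorem mem_cent_single {g k : G} :
    k ∈ Subgroup.centralizer ({g} : Set G) ↔ g * k = k * g := by
  rw [Subgroup.mem_centralizer_iff]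
  constructor
  · intro h; exact h g (Set.mem_singleton g)
  · intro h y hy
    rw [Set.mem_singleton_iff] at hy
    subst hy
    exact h

/-- Apply the minimality hypothesis to a proper subgroup. -/
theorem MinCE.apply_min (hm : MinCE G V) (H W : Subgroup G) (hH : H ≠ ⊤) (hWH : W ≤ H)
    (hWe : Cfsg.IsElementaryAbelian 2 W) (hW1 : W ≠ ⊥)
    (hS : ∀ h ∈ H, ∀ v ∈ W, Odd (orderOf h) → v * h * v⁻¹ = h⁻¹ →
      ∃ w ∈ W, w ≠ 1 ∧ w * h = h * w) :
    ∃ u : G, u ∈ W ∧ u ≠ 1 ∧ ∃ hu : u ∈ H, (⟨u, hu⟩ : ↥H) ∈ Cfsg.pCore 2 ↥H := by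
  have hcard : Nat.card ↥H < Nat.card G := by
    have := card_lt_of_lt (le_top : H ≤ ⊤) hH
    rwa [Subgroup.card_top] at this
  have hne : W.subgroupOf H ≠ ⊥ := by
    intro h0
    apply hW1
    rw [eq_bot_iff]
    intro x hx
    have h1 : (⟨x, hWH hx⟩ : ↥H) ∈ W.subgroupOf H := Subgroup.mem_subgroupOf.2 hx
    rw [h0, Subgroup.mem_bot] at h1
    exact Subgroup.mem_bot.2 (congrArg Subtype.val h1)
  have h1 := hm.minG ↥H (W.subgroupOf H) hcard (ea_subgroupOf H hWe) hne (sidki_sub H W hS hWH)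
  obtain ⟨⟨x, hx⟩, hx1⟩ := (Subgroup.ne_bot_iff_exists_ne_one).1 h1
  refine ⟨(x : G), Subgroup.mem_subgroupOf.1 hx.1, ?_, x.2, ?_⟩
  · intro h0
    apply hx1
    apply Subtype.ext
    exact Subtype.ext h0
  · exact hx.2

/-- `O₂(G) = 1` in a minimal counterexample. -/
theorem MinCE.core_bot (hm : MinCE G V) : Cfsg.pCore 2 G = ⊥ := by
  by_contra hne
  obtain ⟨Q, hQ⟩ : ∃ Q : Subgroup G, Q = Cfsg.pCore 2 G := ⟨_, rfl⟩
  haveI hQn : Q.Normal := by rw [hQ]; exact Cfsg.Agent.helper1.pCore_normal 2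
  have hcard : Nat.card (G ⧸ Q) < Nat.card G := by
    have h1 := Subgroup.card_eq_card_quotient_mul_card_subgroup Q
    have h2 : 1 < Nat.card Q := (Subgroup.one_lt_card_iff_ne_bot _).2 (by rw [hQ]; exact hne)
    have h3 : 0 < Nat.card (G ⧸ Q) := Nat.card_pos
    nlinarith
  have hVQ : V ⊓ Q = ⊥ := by rw [hQ]; exact hm.vo
  have hS := Cfsg.Agent.S3012.result V Q hm.ea hm.ne hm.sidki hVQ
  have hne' : V.map (QuotientGroup.mk' Q) ≠ ⊥ := by
    intro h0
    have h1 : V ≤ (QuotientGroup.mk' Q).ker := (Subgroup.map_eq_bot_iff _).1 h0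
    rw [QuotientGroup.ker_mk'] at h1
    apply hm.ne
    rw [← hVQ]
    exact (inf_eq_left.2 h1).symm
  have hea : Cfsg.IsElementaryAbelian 2 (V.map (QuotientGroup.mk' Q)) := by
    refine ⟨by haveI := hm.ea.1; exact Subgroup.map_isMulCommutative _ _, ?_⟩
    rintro _ ⟨a, ha, rfl⟩
    rw [← map_pow, hm.ea.2 a ha, map_one]
  have h1 := hm.minG (G ⧸ Q) _ hcard hea hne' hS
  apply h1
  rw [core_quotient_core Q hQ]
  exact inf_bot_eq _

/-- A normal subgroup `N` with `N V ≠ G` is centralized by a nontrivial element of `V`. -/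
theorem MinCE.dagger (hm : MinCE G V) (N : Subgroup G) [hNn : N.Normal] (hNV : N ⊔ V ≠ ⊤) :
    ∃ u ∈ V, u ≠ 1 ∧ ∀ n ∈ N, u * n = n * u := by
  have hO := hm.core_bot
  obtain ⟨u, huV, hu1, huH, huc⟩ := hm.apply_min (N ⊔ V) V hNV le_sup_right hm.ea hm.ne
    (fun h _ v hv ho hi => hm.sidki h v hv ho hi)
  refine ⟨u, huV, hu1, ?_⟩
  exact cent_of_core (N ⊔ V) N le_sup_left (fun h _ x hx => hNn.conj_mem x hx h)
    (no_two_sub_of_normal hO N) u huH huc

theorem centralizer_normal_of_normal (N : Subgroup G) [hNn : N.Normal] :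
    (Subgroup.centralizer (N : Set G)).Normal := by
  constructor
  intro m hm g
  rw [Subgroup.mem_centralizer_iff] at hm ⊢
  intro n hn
  have hn' : g⁻¹ * n * g ∈ N := by
    have := hNn.conj_mem n hn g⁻¹
    simpa using this
  have := hm _ hn'
  calc n * (g * m * g⁻¹) = g * ((g⁻¹ * n * g) * m) * g⁻¹ := by group
    _ = g * (m * (g⁻¹ * n * g)) * g⁻¹ := by rw [this]
    _ = g * m * g⁻¹ * n := by group

/-- In a minimal counterexample every abelian normal subgroup is trivial. -/
theorem MinCE.no_abelian_normal (hm : MinCE G V) (N : Subgroup G) [hNn : N.Normal]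
    (hNab : ∀ a ∈ N, ∀ b ∈ N, a * b = b * a) : N = ⊥ := by
  by_contra hN
  have hO := hm.core_bot
  -- no involutions in `N`
  have hinv : ∀ n ∈ N, n * n = 1 → n = 1 := fun n hn h2 =>
    two_torsion_center_bot hO N n hn (fun m hm' => hNab n hn m hm') h2
  obtain ⟨M, hMdef⟩ : ∃ M : Subgroup G, M = Subgroup.centralizer (N : Set G) := ⟨_, rfl⟩
  haveI hMn : M.Normal := by rw [hMdef]; exact centralizer_normal_of_normal N
  have hNM : N ≤ M := by
    rw [hMdef]
    intro a ha
    rw [Subgroup.mem_centralizer_iff]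
    intro b hb
    exact hNab b hb a ha
  have hMc : ∀ m ∈ M, ∀ n ∈ N, m * n = n * m := by
    intro m hm' n hn
    rw [hMdef, Subgroup.mem_centralizer_iff] at hm'
    exact (hm' n hn).symm
  -- `G = M V`
  have hMV : M ⊔ V = ⊤ := by
    by_contra hne
    obtain ⟨u, huV, hu1, huc⟩ := hm.dagger M hne
    have huM : u ∈ M := by
      rw [hMdef, Subgroup.mem_centralizer_iff]
      intro n hn
      exact (huc n (hNM hn)).symm
    exact hu1 (two_torsion_center_bot hO M u huM huc (ea_mul_self hm.ea huV))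
  -- odd order elements centralize `N`
  have hoddM : ∀ h : G, Odd (orderOf h) → h ∈ M := by
    intro h hodd
    apply odd_mem_of_sup (L := M) (W := V) (fun v _ l hl => hMn.conj_mem l hl v)
      (fun v hv => ea_mul_self hm.ea hv) _ hodd
    rw [hMV]; trivial
  -- orders in `N` are odd
  have hNodd : ∀ n ∈ N, Odd (orderOf n) := by
    intro n hn
    by_contra hev
    rw [Nat.not_odd_iff_even] at hev
    obtain ⟨k, hk⟩ := hev
    have hpos : 0 < orderOf n := orderOf_pos n
    have h1 : (n ^ k) * (n ^ k) = 1 := by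
      rw [← pow_add, ← hk, pow_orderOf_eq_one]
    have h2 := hinv _ (N.pow_mem hn k) h1
    have h3 : orderOf n ∣ k := orderOf_dvd_of_pow_eq_one h2
    have h4 := Nat.le_of_dvd (by omega) h3
    omega
  -- a minimal `V`-invariant subgroup of `N`
  let S : Set (Subgroup G) := {K | K ≤ N ∧ K ≠ ⊥ ∧ ∀ v ∈ V, ∀ k ∈ K, v * k * v⁻¹ ∈ K}
  have hSne : S.Nonempty := ⟨N, le_rfl, hN, fun v _ k hk => hNn.conj_mem k hk v⟩
  obtain ⟨N₁, hN₁S, hN₁min⟩ := WellFounded.has_min (wellFounded_lt (α := Subgroup G)) S hSne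
  obtain ⟨hN₁N, hN₁ne, hN₁V⟩ := hN₁S
  have hdich : ∀ v ∈ V, (∀ k ∈ N₁, v * k * v⁻¹ = k) ∨ (∀ k ∈ N₁, v * k * v⁻¹ = k⁻¹) := by
    intro v hv
    by_cases hC : N₁ ⊓ Subgroup.centralizer {v} = ⊥
    · right
      intro k hk
      have hz : k * (v * k * v⁻¹) ∈ N₁ ⊓ Subgroup.centralizer {v} := by
        refine Subgroup.mem_inf.2 ⟨N₁.mul_mem hk (hN₁V v hv k hk), ?_⟩
        rw [mem_cent_single]
        have hvv : v * v = 1 := ea_mul_self hm.ea hv
        have hvi : v⁻¹ = v := ea_inv hm.ea hv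
        have hcomm : k * (v * k * v⁻¹) = (v * k * v⁻¹) * k :=
          hNab k (hN₁N hk) _ (hN₁N (hN₁V v hv k hk))
        calc v * (k * (v * k * v⁻¹)) = (v * k * v⁻¹) * (v * v) * k * v⁻¹ := by group
          _ = (v * k * v⁻¹) * k * v⁻¹ := by rw [hvv, mul_one]
          _ = k * (v * k * v⁻¹) * v⁻¹ := by rw [← hcomm]
          _ = k * (v * k * v⁻¹) * v := by rw [hvi]
      rw [hC, Subgroup.mem_bot] at hz
      exact (eq_inv_of_mul_eq_one_right hz)
    · left
      have hCS : N₁ ⊓ Subgroup.centralizer {v} ∈ S := by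
        refine ⟨inf_le_left.trans hN₁N, hC, ?_⟩
        intro w hw k hk
        obtain ⟨hk1, hk2⟩ := Subgroup.mem_inf.1 hk
        refine Subgroup.mem_inf.2 ⟨hN₁V w hw k hk1, ?_⟩
        rw [mem_cent_single] at hk2 ⊢
        have h2 : v * w = w * v := ea_comm hm.ea hv hw
        have h3 : v * w⁻¹ = w⁻¹ * v := by
          rw [ea_inv hm.ea hw]; exact h2
        calc v * (w * k * w⁻¹) = (v * w) * k * w⁻¹ := by group
          _ = (w * v) * k * w⁻¹ := by rw [h2]
          _ = w * (v * k) * w⁻¹ := by group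
          _ = w * (k * v) * w⁻¹ := by rw [hk2]
          _ = w * k * (v * w⁻¹) := by group
          _ = w * k * (w⁻¹ * v) := by rw [h3]
          _ = w * k * w⁻¹ * v := by group
      have hnot := hN₁min _ hCS
      have heq : N₁ ⊓ Subgroup.centralizer {v} = N₁ := by
        by_contra hne
        exact hnot (lt_of_le_of_ne inf_le_left hne)
      intro k hk
      have : k ∈ N₁ ⊓ Subgroup.centralizer {v} := by rw [heq]; exact hk
      have h3 := (Subgroup.mem_inf.1 this).2
      rw [mem_cent_single] at h3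
      calc v * k * v⁻¹ = (v * k) * v⁻¹ := by group
        _ = (k * v) * v⁻¹ := by rw [h3]
        _ = k := by group
  obtain ⟨n, hnN₁, hn1⟩ : ∃ n ∈ N₁, n ≠ 1 := by
    by_contra hno
    push_neg at hno
    apply hN₁ne
    rw [eq_bot_iff]
    intro x hx
    exact Subgroup.mem_bot.2 (hno x hx)
  have hnN : n ∈ N := hN₁N hnN₁
  have hnodd := hNodd n hnN
  have hninv : n⁻¹ ≠ n := fun h => hn1 (eq_one_of_odd_of_inv_eq hnodd h)
  by_cases hA : ∀ v ∈ V, v * n * v⁻¹ = n
  · -- `n` is central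
    have hcen : ∀ g : G, g * n * g⁻¹ = n := by
      intro g
      have hg : g ∈ M ⊔ V := by rw [hMV]; trivial
      obtain ⟨m, hm', v, hv, rfl⟩ :=
        exists_mul_of_mem_sup (L := M) (W := V) (fun v _ l hl => hMn.conj_mem l hl v) hg
      calc m * v * n * (m * v)⁻¹ = m * (v * n * v⁻¹) * m⁻¹ := by group
        _ = m * n * m⁻¹ := by rw [hA v hv]
        _ = n * m * m⁻¹ := by rw [hMc m hm' n hnN]
        _ = n := by group
    obtain ⟨Z, hZdef⟩ : ∃ Z : Subgroup G, Z = Subgroup.zpowers n := ⟨_, rfl⟩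
    have hZcen : ∀ z ∈ Z, ∀ g : G, g * z * g⁻¹ = z := by
      intro z hz g
      rw [hZdef] at hz
      obtain ⟨k, rfl⟩ := hz
      have := hcen g
      rw [← MulAut.conj_apply, map_zpow, MulAut.conj_apply, this]
    haveI hZn : Z.Normal := ⟨fun z hz g => by rw [hZcen z hz g]; exact hz⟩
    have hZN : Z ≤ N := by
      rw [hZdef, Subgroup.zpowers_le]; exact hnN
    have hVZ : V ⊓ Z = ⊥ := by
      rw [eq_bot_iff]
      intro x hx
      exact Subgroup.mem_bot.2 (hinv x (hZN hx.2) (ea_mul_self hm.ea hx.1))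
    have hZne : Z ≠ ⊥ := by
      intro h0
      apply hn1
      have : n ∈ Z := by rw [hZdef]; exact Subgroup.mem_zpowers n
      rw [h0] at this
      exact Subgroup.mem_bot.1 this
    have hcard : Nat.card (G ⧸ Z) < Nat.card G := by
      have h1 := Subgroup.card_eq_card_quotient_mul_card_subgroup Z
      have h2 : 1 < Nat.card Z := (Subgroup.one_lt_card_iff_ne_bot _).2 hZne
      have h3 : 0 < Nat.card (G ⧸ Z) := Nat.card_pos
      nlinarith
    have hS := Cfsg.Agent.S3012.result V Z hm.ea hm.ne hm.sidki hVZ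
    have hne' : V.map (QuotientGroup.mk' Z) ≠ ⊥ := by
      intro h0
      have h1 : V ≤ (QuotientGroup.mk' Z).ker := (Subgroup.map_eq_bot_iff _).1 h0
      rw [QuotientGroup.ker_mk'] at h1
      apply hm.ne
      rw [← hVZ]
      exact (inf_eq_left.2 h1).symm
    have hea : Cfsg.IsElementaryAbelian 2 (V.map (QuotientGroup.mk' Z)) := by
      refine ⟨by haveI := hm.ea.1; exact Subgroup.map_isMulCommutative _ _, ?_⟩
      rintro _ ⟨a, ha, rfl⟩
      rw [← map_pow, hm.ea.2 a ha, map_one]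
    have h1 := hm.minG (G ⧸ Z) _ hcard hea hne' hS
    obtain ⟨⟨x, hx⟩, hx1⟩ := (Subgroup.ne_bot_iff_exists_ne_one).1 h1
    obtain ⟨⟨u, huV, rfl⟩, hxc⟩ := hx
    have hu1 : u ≠ 1 := by
      rintro rfl
      apply hx1
      apply Subtype.ext
      simp
    -- `u` inverts a nontrivial odd-order element
    have huO : u ∉ (⨅ P : Sylow 2 G, (P : Subgroup G)) := by
      rw [← Cfsg.Agent.helper1.pCore_eq_iInf_sylow, hO, Subgroup.mem_bot]
      exact hu1
    obtain ⟨h, hh1, hhodd, hhinv⟩ :=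
      Cfsg.Agent.helper15.exists_inverted_odd_of_not_mem_iInf_sylow u (hm.ea.2 u huV) huO
    -- the image of `h⁻²` lies in `O₂(G/Z)`
    haveI hcn : (Cfsg.pCore 2 (G ⧸ Z)).Normal := Cfsg.Agent.helper1.pCore_normal 2
    have hc : (QuotientGroup.mk' Z) (u * (h * u⁻¹ * h⁻¹)) ∈ Cfsg.pCore 2 (G ⧸ Z) := by
      have h1 := hcn.conj_mem _ (Subgroup.inv_mem _ hxc) ((QuotientGroup.mk' Z) h)
      have h2 := Subgroup.mul_mem _ hxc h1
      have e : (QuotientGroup.mk' Z) (u * (h * u⁻¹ * h⁻¹)) = (QuotientGroup.mk' Z) u *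
          ((QuotientGroup.mk' Z) h * ((QuotientGroup.mk' Z) u)⁻¹ *
            ((QuotientGroup.mk' Z) h)⁻¹) := by
        simp only [map_mul, map_inv]
      rw [e]; exact h2
    have he : u * (h * u⁻¹ * h⁻¹) = (h * h)⁻¹ := by
      calc u * (h * u⁻¹ * h⁻¹) = (u * h * u⁻¹) * h⁻¹ := by group
        _ = h⁻¹ * h⁻¹ := by rw [hhinv]
        _ = (h * h)⁻¹ := by group
    rw [he] at hc
    have hp2 : IsPGroup 2 (Cfsg.pCore 2 (G ⧸ Z)) := Cfsg.Agent.helper1.pCore_isPGroup 2
    obtain ⟨k, hk⟩ := hp2 ⟨_, hc⟩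
    have hk' : ((QuotientGroup.mk' Z) ((h * h)⁻¹)) ^ (2 ^ k) = 1 := by
      have := congrArg Subtype.val hk
      simpa using this
    have ho : ((QuotientGroup.mk' Z) ((h * h)⁻¹)) ^ (orderOf h) = 1 := by
      have e : ((h * h)⁻¹) ^ (orderOf h) = 1 := by
        rw [inv_pow, ← pow_two, ← pow_mul, mul_comm, pow_mul, pow_orderOf_eq_one, one_pow,
          inv_one]
      rw [← map_pow, e, map_one]
    have hcop : Nat.Coprime (2 ^ k) (orderOf h) :=
      Nat.Coprime.pow_left k (Nat.coprime_two_left.2 hhodd)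
    have hq1 : (QuotientGroup.mk' Z) ((h * h)⁻¹) = 1 := by
      have h3 := orderOf_dvd_of_pow_eq_one hk'
      have h4 := orderOf_dvd_of_pow_eq_one ho
      have h5 := Nat.dvd_gcd h3 h4
      rw [hcop, Nat.dvd_one] at h5
      exact orderOf_eq_one_iff.1 h5
    have hsqZ : h * h ∈ Z := by
      have := (QuotientGroup.eq_one_iff _).1 hq1
      have h2 := Z.inv_mem this
      rwa [inv_inv] at h2
    have hhZ : h ∈ Z := mem_of_sq_mem_of_odd hhodd hsqZ
    have h5 := hZcen h hhZ u
    rw [hhinv] at h5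
    exact hh1 (eq_one_of_odd_of_inv_eq hhodd h5)
  · -- some `t ∈ V` inverts `n`
    push_neg at hA
    obtain ⟨t, htV, htn⟩ := hA
    have htinv : t * n * t⁻¹ = n⁻¹ := by
      rcases hdich t htV with h | h
      · exact absurd (h n hnN₁) htn
      · exact h n hnN₁
    obtain ⟨V₁, hV₁def⟩ : ∃ V₁ : Subgroup G, V₁ = V ⊓ Subgroup.centralizer {n} := ⟨_, rfl⟩
    have hV₁V : V₁ ≤ V := by rw [hV₁def]; exact inf_le_left
    have hV₁c : ∀ v ∈ V₁, v * n = n * v := by
      intro v hv
      rw [hV₁def] at hv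
      have := (Subgroup.mem_inf.1 hv).2
      rw [mem_cent_single] at this
      exact this.symm
    have hmemV₁ : ∀ v ∈ V, v * n = n * v → v ∈ V₁ := by
      intro v hv hc
      rw [hV₁def]
      refine Subgroup.mem_inf.2 ⟨hv, ?_⟩
      rw [mem_cent_single]
      exact hc.symm
    have hcases : ∀ v ∈ V, v ∈ V₁ ∨ v * n * v⁻¹ = n⁻¹ := by
      intro v hv
      rcases hdich v hv with h | h
      · left
        apply hmemV₁ v hv
        have := h n hnN₁
        calc v * n = (v * n * v⁻¹) * v := by group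
          _ = n * v := by rw [this]
      · right; exact h n hnN₁
    have hn4 : n * n * (n * n) ≠ 1 := by
      intro h4
      have h2 := hinv (n * n) (N.mul_mem hnN hnN) h4
      exact hn1 (hinv n hnN h2)
    -- `V₁` is a Sidki pair in `G`
    have hV₁S : Cfsg.IsSidkiPair V₁ := by
      intro h' v hv hodd hi
      have hvV := hV₁V hv
      have hh'n : h' * n = n * h' := hMc h' (hoddM h' hodd) n hnN
      obtain ⟨w, hwV, hw1, hwc⟩ := hm.sidki h' v hvV hodd hi
      rcases hcases w hwV with hw | hw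
      · exact ⟨w, hw, hw1, hwc⟩
      · -- `v w` inverts `h' n`
        have hoddp : Odd (orderOf (h' * n)) := odd_mul_of_commute hh'n hodd hnodd
        have hvn : v * n * v⁻¹ = n := by
          calc v * n * v⁻¹ = (v * n) * v⁻¹ := by group
            _ = (n * v) * v⁻¹ := by rw [hV₁c v hv]
            _ = n := by group
        have hwh : w * h' * w⁻¹ = h' := by
          calc w * h' * w⁻¹ = (w * h') * w⁻¹ := by group
            _ = (h' * w) * w⁻¹ := by rw [hwc]
            _ = h' := by group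
        have hi2 : (v * w) * (h' * n) * (v * w)⁻¹ = (h' * n)⁻¹ := by
          calc (v * w) * (h' * n) * (v * w)⁻¹
              = v * (w * h' * w⁻¹) * v⁻¹ * (v * (w * n * w⁻¹) * v⁻¹) := by group
            _ = v * h' * v⁻¹ * (v * n⁻¹ * v⁻¹) := by rw [hwh, hw]
            _ = h'⁻¹ * (v * n * v⁻¹)⁻¹ := by rw [hi]; group
            _ = h'⁻¹ * n⁻¹ := by rw [hvn]
            _ = (n * h')⁻¹ := by group
            _ = (h' * n)⁻¹ := by rw [hh'n]
        obtain ⟨w', hw'V, hw'1, hw'c⟩ := hm.sidki (h' * n) (v * w) (V.mul_mem hvV hwV) hoddp hi2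
        rcases hcases w' hw'V with hw' | hw'
        · refine ⟨w', hw', hw'1, ?_⟩
          have h1 := hV₁c w' hw'
          have h2 : w' * h' * n = h' * w' * n := by
            calc w' * h' * n = w' * (h' * n) := by group
              _ = (h' * n) * w' := hw'c
              _ = h' * (n * w') := by group
              _ = h' * (w' * n) := by rw [h1]
              _ = h' * w' * n := by group
          exact mul_right_cancel h2
        · exfalso
          -- `w' h' w'⁻¹ = h' n²`
          have h1 : w' * h' * w'⁻¹ = h' * (n * n) := by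
            have e : w' * (h' * n) * w'⁻¹ = h' * n := by
              calc w' * (h' * n) * w'⁻¹ = ((h' * n) * w') * w'⁻¹ := by rw [hw'c]
                _ = h' * n := by group
            have e2 : w' * (h' * n) * w'⁻¹ = (w' * h' * w'⁻¹) * (w' * n * w'⁻¹) := by group
            rw [e2, hw'] at e
            calc w' * h' * w'⁻¹ = (w' * h' * w'⁻¹ * n⁻¹) * n := by group
              _ = h' * n * n := by rw [e]
              _ = h' * (n * n) := by group
          -- `z = w w'`
          have hz1 : (w * w') * h' * (w * w')⁻¹ = h' * (n * n)⁻¹ := by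
            calc (w * w') * h' * (w * w')⁻¹ = w * (w' * h' * w'⁻¹) * w⁻¹ := by group
              _ = w * (h' * (n * n)) * w⁻¹ := by rw [h1]
              _ = (w * h' * w⁻¹) * ((w * n * w⁻¹) * (w * n * w⁻¹)) := by group
              _ = h' * (n⁻¹ * n⁻¹) := by rw [hwh, hw]
              _ = h' * (n * n)⁻¹ := by group
          have hz2 : (w * w') * n * (w * w')⁻¹ = n := by
            calc (w * w') * n * (w * w')⁻¹ = w * (w' * n * w'⁻¹) * w⁻¹ := by group
              _ = w * n⁻¹ * w⁻¹ := by rw [hw']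
              _ = (w * n * w⁻¹)⁻¹ := by group
              _ = n := by rw [hw, inv_inv]
          have hzz : (w * w') * (w * w') = 1 := ea_mul_self hm.ea (V.mul_mem hwV hw'V)
          have hzi : (w * w')⁻¹ = w * w' := ea_inv hm.ea (V.mul_mem hwV hw'V)
          have hfin : h' = h' * ((n * n)⁻¹ * (n * n)⁻¹) := by
            calc h' = ((w * w') * (w * w')) * h' * ((w * w') * (w * w'))⁻¹ := by
                  rw [hzz]; group
              _ = (w * w') * ((w * w') * h' * (w * w')⁻¹) * (w * w')⁻¹ := by group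
              _ = (w * w') * (h' * (n * n)⁻¹) * (w * w')⁻¹ := by rw [hz1]
              _ = ((w * w') * h' * (w * w')⁻¹) *
                    (((w * w') * n * (w * w')⁻¹) * ((w * w') * n * (w * w')⁻¹))⁻¹ := by group
              _ = h' * (n * n)⁻¹ * (n * n)⁻¹ := by rw [hz1, hz2]
              _ = h' * ((n * n)⁻¹ * (n * n)⁻¹) := by group
          have h5 : (n * n)⁻¹ * (n * n)⁻¹ = 1 := by
            have := mul_left_cancel (a := h') (b := 1) (c := (n * n)⁻¹ * (n * n)⁻¹)
              (by rw [mul_one]; exact hfin)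
            exact this.symm
          apply hn4
          have : (n * n * (n * n))⁻¹ = 1 := by
            rw [mul_inv_rev]; exact h5
          rwa [inv_eq_one] at this
    have hV₁ne : V₁ ≠ ⊥ := by
      intro h0
      obtain ⟨w, hwV, hw1, hwc⟩ := hm.sidki n t htV hnodd htinv
      have := hmemV₁ w hwV hwc
      rw [h0, Subgroup.mem_bot] at this
      exact hw1 this
    have htV₁ : t ∉ V₁ := by
      intro ht
      have h1 := hV₁c t ht
      have h2 : t * n * t⁻¹ = n := by
        calc t * n * t⁻¹ = (t * n) * t⁻¹ := by group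
          _ = (n * t) * t⁻¹ := by rw [h1]
          _ = n := by group
      rw [htinv] at h2
      exact hninv h2
    have hlt : Nat.card V₁ < Nat.card V := by
      apply card_lt_of_lt hV₁V
      intro h0
      apply htV₁
      rw [h0]; exact htV
    have h1 := hm.minV V₁ hlt (ea_of_le hV₁V hm.ea) hV₁ne hV₁S
    apply h1
    rw [hO]; exact inf_bot_eq _

end Cfsg.Agent.helper15.Sid
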