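import Cfsg.Statements.S3013

set_option autoImplicit false
open Cfsg

namespace Cfsg.Agent.S3013

theorem comm_of_mem {G : Type*} [Group G] {V : Subgroup G} (hV : IsMulCommutative ↥V) {a b : G}
    (ha : a ∈ V) (hb : b ∈ V) : a * b = b * a := by
  have := hV.is_comm.comm (⟨a, ha⟩ : V) ⟨b, hb⟩
  exact congrArg Subtype.val this

theorem comm_of_comm_sq {G : Type*} [Group G] {w x : G} (hx : Odd (orderOf x))
    (h : w * (x * x) = (x * x) * w) : w * x = x * w := by
  obtain ⟨k, hk⟩ := hx
  have hc : Commute w (x * x) := h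
  have h2 : Commute w ((x * x) ^ (k + 1)) := hc.pow_right (k + 1)
  have hx1 : (x * x) ^ (k + 1) = x := by
    have : (x * x) ^ (k + 1) = x ^ (2 * k + 1) * x := by
      rw [← pow_two, ← pow_mul, ← pow_succ]
      congr 1
    rw [this, ← hk, pow_orderOf_eq_one, one_mul]
  rw [hx1] at h2
  exact h2

/-- Let G be a finite group and V a nontrivial elementary abelian 2-subgroup of G satisfying the Sidki pair condition. Let v ∈ V and let x be an element of odd order inverted by v, and put C = C_G(v) ∩ C_G(x), the centralizer of the dihedral subgroup generated by v and x. Then C ∩ V is nontrivial and satisfies the Sidki pair condition inside C: every odd-order element of C inverted by an element of C ∩ V commutes with a nontrivial element of C ∩ V. -/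
theorem result {G : Type*} [Group G] [Finite G] (V : Subgroup G) (hV : Cfsg.IsElementaryAbelian 2 V) (hV1 : V ≠ ⊥) (hS : Cfsg.IsSidkiPair V) (v x : G) (hv : v ∈ V) (hx : Odd (orderOf x)) (hinv : v * x * v⁻¹ = x⁻¹) (C : Subgroup G) (hC : C = Subgroup.centralizer ({v} : Set G) ⊓ Subgroup.centralizer ({x} : Set G)) : C ⊓ V ≠ ⊥ ∧ Cfsg.IsSidkiPair ((C ⊓ V).subgroupOf C) := by
  have hmemC : ∀ w : G, w ∈ C ↔ (v * w = w * v ∧ x * w = w * x) := by
    intro w
    rw [hC, Subgroup.mem_inf, Subgroup.mem_centralizer_iff, Subgroup.mem_centralizer_iff]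
    simp
  constructor
  · obtain ⟨w, hwV, hw1, hwx⟩ := hS x v hv hx hinv
    intro hbot
    have hw : w ∈ C ⊓ V := by
      refine Subgroup.mem_inf.2 ⟨?_, hwV⟩
      exact (hmemC w).2 ⟨comm_of_mem hV.1 hv hwV, hwx.symm⟩
    rw [hbot, Subgroup.mem_bot] at hw
    exact hw1 hw
  · intro h u hu hodd hinvh
    rw [Subgroup.mem_subgroupOf] at hu
    have huV : (u : G) ∈ V := hu.2
    have huC := (hmemC (u : G)).1 u.2
    have hhC := (hmemC (h : G)).1 h.2
    have hoddG : Odd (orderOf (h : G)) := by
      rwa [Subgroup.orderOf_coe]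
    have hinvG : (u : G) * (h : G) * (u : G)⁻¹ = (h : G)⁻¹ := by
      have := congrArg Subtype.val hinvh
      simpa using this
    set u' : G := (u : G) with hu'
    set h' : G := (h : G) with hh'
    have hvh : v * h' = h' * v := hhC.1
    have hxh : x * h' = h' * x := hhC.2
    have hux : x * u' = u' * x := huC.2
    -- order of x * h' is odd
    have hodd2 : Odd (orderOf (x * h')) := by
      have hcomm : Commute x h' := hxh
      have hpow : (x * h') ^ (orderOf x * orderOf h') = 1 := by
        rw [hcomm.mul_pow, pow_mul, pow_orderOf_eq_one, one_pow, mul_comm (orderOf x), pow_mul,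
          pow_orderOf_eq_one, one_pow, one_mul]
      exact Odd.of_dvd_nat (hx.mul hoddG) (orderOf_dvd_of_pow_eq_one hpow)
    have huvV : u' * v ∈ V := V.mul_mem huV hv
    have hinv2 : (u' * v) * (x * h') * (u' * v)⁻¹ = (x * h')⁻¹ := by
      have e1 : (u' * v) * (x * h') * (u' * v)⁻¹
          = u' * ((v * x * v⁻¹) * (v * h' * v⁻¹)) * u'⁻¹ := by group
      have e2 : v * h' * v⁻¹ = h' := by rw [hvh]; group
      rw [e1, hinv, e2]
      have e3 : u' * (x⁻¹ * h') * u'⁻¹ = (u' * x * u'⁻¹)⁻¹ * (u' * h' * u'⁻¹) := by group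
      rw [e3, hinvG, ← hux]
      have e4 : x * u' * u'⁻¹ = x := by group
      rw [e4, hxh, mul_inv_rev]
    obtain ⟨w, hwV, hw1, hwxh⟩ := hS (x * h') (u' * v) huvV hodd2 hinv2
    have hwu : w * u' = u' * w := comm_of_mem hV.1 hwV huV
    have hwv : w * v = v * w := comm_of_mem hV.1 hwV hv
    -- w commutes with u (x h) u⁻¹ = x h⁻¹
    have hconj : u' * (x * h') * u'⁻¹ = x * h'⁻¹ := by
      have e : u' * (x * h') * u'⁻¹ = (u' * x * u'⁻¹) * (u' * h' * u'⁻¹) := by group
      rw [e, hinvG, ← hux]
      have e4 : x * u' * u'⁻¹ = x := by group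
      rw [e4]
    have hw2 : w * (x * h'⁻¹) = (x * h'⁻¹) * w := by
      rw [← hconj]
      have c1 : Commute w u' := hwu
      have c2 : Commute w (x * h') := hwxh
      exact (c1.mul_right c2).mul_right c1.inv_right
    have hwxx : w * (x * x) = (x * x) * w := by
      have e : x * x = (x * h') * (x * h'⁻¹) := by
        have : (x * h') * (x * h'⁻¹) = x * (h' * x) * h'⁻¹ := by group
        rw [this, ← hxh]
        group
      rw [e]
      have c2 : Commute w (x * h') := hwxh
      have c3 : Commute w (x * h'⁻¹) := hw2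
      exact c2.mul_right c3
    have hwx : w * x = x * w := comm_of_comm_sq hx hwxx
    have hwh : w * h' = h' * w := by
      have c2 : Commute w (x * h') := hwxh
      have c1 : Commute w x := hwx
      have : Commute w (x⁻¹ * (x * h')) := c1.inv_right.mul_right c2
      rw [inv_mul_cancel_left] at this
      exact this
    have hwC : w ∈ C := by
      rw [hmemC]
      exact ⟨hwv.symm, hwx.symm⟩
    refine ⟨⟨w, hwC⟩, ?_, ?_, ?_⟩
    · rw [Subgroup.mem_subgroupOf]
      exact ⟨hwC, hwV⟩
    · intro h1
      apply hw1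
      exact congrArg Subtype.val h1
    · apply Subtype.ext
      simpa using hwh

end Cfsg.Agent.S3013
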