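import Mathlib
import Cfsg.Agent.Lib_helper15_Sid2
import Cfsg.Agent.S3013

set_option autoImplicit false
set_option linter.style.haveILetI false
set_option linter.unusedSectionVars false
set_option linter.unusedVariables false

open Cfsg Cfsg.Agent.helper7

namespace Cfsg.Agent.helper15.Sid

universe u

variable {G : Type u} [Group G] [Finite G] {V : Subgroup G}

/-- Apply the minimality hypothesis to a proper subgroup (Sidki pair form). -/
theorem MinCE.apply_min' (hm : MinCE G V) (H W : Subgroup G) (hH : H ≠ ⊤) (hWH : W ≤ H)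
    (hWe : Cfsg.IsElementaryAbelian 2 W) (hW1 : W ≠ ⊥)
    (hS : Cfsg.IsSidkiPair (W.subgroupOf H)) :
    ∃ u : G, u ∈ W ∧ u ≠ 1 ∧ ∃ hu : u ∈ H, (⟨u, hu⟩ : ↥H) ∈ Cfsg.pCore 2 ↥H := by
  have hcard : Nat.card ↥H < Nat.card G := by
    have := card_lt_of_lt (le_top : H ≤ ⊤) hH
    rwa [Subgroup.card_top] at this
  have hne : W.subgroupOf H ≠ ⊥ := by
    intro h0
    apply hW1
    rw [eq_bot_iff]
    intro x hx
    have h1 : (⟨x, hWH hx⟩ : ↥H) ∈ W.subgroupOf H := Subgroup.mem_subgroupOf.2 hx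
    rw [h0, Subgroup.mem_bot] at h1
    exact Subgroup.mem_bot.2 (congrArg Subtype.val h1)
  have h1 := hm.minG ↥H (W.subgroupOf H) hcard (ea_subgroupOf H hWe) hne hS
  obtain ⟨⟨x, hx⟩, hx1⟩ := (Subgroup.ne_bot_iff_exists_ne_one).1 h1
  refine ⟨(x : G), Subgroup.mem_subgroupOf.1 hx.1, ?_, x.2, ?_⟩
  · intro h0
    apply hx1
    apply Subtype.ext
    exact Subtype.ext h0
  · exact hx.2

theorem exists_ne_one_of_ne_bot {W : Subgroup G} (h : W ≠ ⊥) : ∃ w ∈ W, w ≠ 1 := by
  by_contra hno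
  push_neg at hno
  apply h
  rw [eq_bot_iff]
  intro x hx
  exact Subgroup.mem_bot.2 (hno x hx)

/-- A normal subgroup `N` and its centralizer cannot both fail to supplement `V`. -/
theorem MinCE.b1 (hm : MinCE G V) (N : Subgroup G) [hNn : N.Normal]
    (hNV : N ⊔ V ≠ ⊤) (hMV : Subgroup.centralizer (N : Set G) ⊔ V ≠ ⊤) : False := by
  have hO := hm.core_bot
  obtain ⟨M, hMdef⟩ : ∃ M : Subgroup G, M = Subgroup.centralizer (N : Set G) := ⟨_, rfl⟩
  haveI hMn : M.Normal := by rw [hMdef]; exact centralizer_normal_of_normal N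
  have hMc : ∀ m ∈ M, ∀ n ∈ N, m * n = n * m := by
    intro m hm' n hn
    rw [hMdef, Subgroup.mem_centralizer_iff] at hm'
    exact (hm' n hn).symm
  obtain ⟨V₂, hV₂def⟩ : ∃ V₂ : Subgroup G, V₂ = V ⊓ Subgroup.centralizer (M : Set G) := ⟨_, rfl⟩
  have hV₂V : V₂ ≤ V := by rw [hV₂def]; exact inf_le_left
  have hV₂c : ∀ v ∈ V₂, ∀ m ∈ M, v * m = m * v := by
    intro v hv m hm'
    rw [hV₂def] at hv
    have := (Subgroup.mem_inf.1 hv).2
    rw [Subgroup.mem_centralizer_iff] at this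
    exact (this m hm').symm
  have hmemV₂ : ∀ v ∈ V, (∀ m ∈ M, v * m = m * v) → v ∈ V₂ := by
    intro v hv hc
    rw [hV₂def]
    refine Subgroup.mem_inf.2 ⟨hv, ?_⟩
    rw [Subgroup.mem_centralizer_iff]
    intro m hm'
    exact (hc m hm').symm
  have hV₂ne : V₂ ≠ ⊥ := by
    obtain ⟨u, huV, hu1, huc⟩ := hm.dagger M (by rw [hMdef]; exact hMV)
    intro h0
    have := hmemV₂ u huV huc
    rw [h0, Subgroup.mem_bot] at this
    exact hu1 this
  have hHne : N ⊔ V₂ ≠ ⊤ := by
    intro h0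
    apply hNV
    rw [eq_top_iff, ← h0]
    exact sup_le_sup_left hV₂V N
  have hnormN : ∀ v ∈ V₂, ∀ l ∈ N, v * l * v⁻¹ ∈ N := fun v _ l hl => hNn.conj_mem l hl v
  have hS : ∀ h ∈ N ⊔ V₂, ∀ t ∈ V₂, Odd (orderOf h) → t * h * t⁻¹ = h⁻¹ →
      ∃ w ∈ V₂, w ≠ 1 ∧ w * h = h * w := by
    intro h hh t ht hodd hi
    have hhN : h ∈ N :=
      odd_mem_of_sup hnormN (fun v hv => ea_mul_self hm.ea (hV₂V hv)) hh hodd
    by_cases hh1 : h = 1
    · obtain ⟨w, hw, hw1⟩ := exists_ne_one_of_ne_bot hV₂ne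
      exact ⟨w, hw, hw1, by rw [hh1, mul_one, one_mul]⟩
    · obtain ⟨C, hCdef⟩ : ∃ C : Subgroup G,
          C = Subgroup.centralizer ({t} : Set G) ⊓ Subgroup.centralizer ({h} : Set G) := ⟨_, rfl⟩
      obtain ⟨hCV, hCS⟩ :=
        Cfsg.Agent.S3013.result V hm.ea hm.ne hm.sidki t h (hV₂V ht) hodd hi C hCdef
      have hCne : C ≠ ⊤ := by
        intro h0
        have h1 : t ∈ C := by rw [h0]; trivial
        rw [hCdef] at h1
        have h2 := (Subgroup.mem_inf.1 h1).2
        rw [mem_cent_single] at h2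
        have h3 : t * h * t⁻¹ = h := by
          calc t * h * t⁻¹ = (t * h) * t⁻¹ := by group
            _ = (h * t) * t⁻¹ := by rw [h2]
            _ = h := by group
        rw [hi] at h3
        exact hh1 (eq_one_of_odd_of_inv_eq hodd h3)
      obtain ⟨u, huW, hu1, huC, huc⟩ := hm.apply_min' C (C ⊓ V) hCne inf_le_left
        (ea_of_le inf_le_right hm.ea) hCV hCS
      have hMC : M ≤ C := by
        intro m hm'
        rw [hCdef]
        refine Subgroup.mem_inf.2 ⟨?_, ?_⟩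
        · rw [mem_cent_single]; exact hV₂c t ht m hm'
        · rw [mem_cent_single]; exact (hMc m hm' h hhN).symm
      have hucM := cent_of_core C M hMC (fun c _ x hx => hMn.conj_mem x hx c)
        (no_two_sub_of_normal hO M) u huC huc
      have huV : u ∈ V := (Subgroup.mem_inf.1 huW).2
      have huh : u * h = h * u := by
        have h1 : u ∈ C := huC
        rw [hCdef] at h1
        have h2 := (Subgroup.mem_inf.1 h1).2
        rw [mem_cent_single] at h2
        exact h2.symm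
      exact ⟨u, hmemV₂ u huV hucM, hu1, huh⟩
  obtain ⟨u, huV₂, hu1, huH, huc⟩ := hm.apply_min (N ⊔ V₂) V₂ hHne le_sup_right
    (ea_of_le hV₂V hm.ea) hV₂ne hS
  have hucN := cent_of_core (N ⊔ V₂) N le_sup_left (fun h _ x hx => hNn.conj_mem x hx h)
    (no_two_sub_of_normal hO N) u huH huc
  have huM : u ∈ M := by
    rw [hMdef, Subgroup.mem_centralizer_iff]
    intro n hn
    exact (hucN n hn).symm
  exact hu1 (two_torsion_center_bot hO M u huM (hV₂c u huV₂) (ea_mul_self hm.ea (hV₂V huV₂)))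

/-- The centralizer of a nontrivial normal subgroup does not supplement `V`. -/
theorem MinCE.cent_sup_ne_top (hm : MinCE G V) (N : Subgroup G) [hNn : N.Normal] (hN : N ≠ ⊥) :
    Subgroup.centralizer (N : Set G) ⊔ V ≠ ⊤ := by
  intro hMV
  have hO := hm.core_bot
  obtain ⟨M, hMdef⟩ : ∃ M : Subgroup G, M = Subgroup.centralizer (N : Set G) := ⟨_, rfl⟩
  haveI hMn : M.Normal := by rw [hMdef]; exact centralizer_normal_of_normal N
  rw [← hMdef] at hMV
  have hZ : N ⊓ M = ⊥ := by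
    apply hm.no_abelian_normal (N ⊓ M)
    intro a ha b hb
    have h1 := (Subgroup.mem_inf.1 ha).2
    rw [hMdef, Subgroup.mem_centralizer_iff] at h1
    exact (h1 b (Subgroup.mem_inf.1 hb).1).symm
  have hsq : ∀ n ∈ N, n * n = 1 := by
    intro n hn
    have hg : n ∈ M ⊔ V := by rw [hMV]; trivial
    obtain ⟨m, hm', v, hv, hnmv⟩ :=
      exists_mul_of_mem_sup (L := M) (W := V) (fun v _ l hl => hMn.conj_mem l hl v) hg
    have h1 : n * n ∈ M := by
      have e : n * n = m * (v * m * v⁻¹) * (v * v) := by rw [hnmv]; group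
      rw [e, ea_mul_self hm.ea hv, mul_one]
      exact M.mul_mem hm' (hMn.conj_mem m hm' v)
    have h2 : n * n ∈ N ⊓ M := Subgroup.mem_inf.2 ⟨N.mul_mem hn hn, h1⟩
    rw [hZ] at h2
    exact Subgroup.mem_bot.1 h2
  have hNp : IsPGroup 2 N := by
    intro a
    refine ⟨1, ?_⟩
    apply Subtype.ext
    rw [pow_one, Subgroup.coe_pow, pow_two]
    exact hsq a a.2
  have hle := Cfsg.Agent.helper1.le_pCore hNn hNp
  rw [hO] at hle
  exact hN (eq_bot_iff.2 hle)

/-- Every nontrivial normal subgroup has trivial centralizer and supplements `V`. -/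
theorem MinCE.p1 (hm : MinCE G V) (N : Subgroup G) [hNn : N.Normal] (hN : N ≠ ⊥) :
    Subgroup.centralizer (N : Set G) = ⊥ ∧ N ⊔ V = ⊤ := by
  have h1 := hm.cent_sup_ne_top N hN
  have h2 : N ⊔ V = ⊤ := by
    by_contra hne
    exact hm.b1 N hne h1
  refine ⟨?_, h2⟩
  by_contra hM
  haveI hMn : (Subgroup.centralizer (N : Set G)).Normal := centralizer_normal_of_normal N
  have h3 := hm.cent_sup_ne_top (Subgroup.centralizer (N : Set G)) hM
  exact hm.b1 (Subgroup.centralizer (N : Set G)) h1 h3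

end Cfsg.Agent.helper15.Sid
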