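import Mathlib
import Cfsg.Agent.Lib_helper15_Sid3

set_option autoImplicit false
set_option linter.style.haveILetI false
set_option linter.unusedSectionVars false
set_option linter.unusedVariables false
set_option maxHeartbeats 1000000

open Cfsg Cfsg.Agent.helper7

namespace Cfsg.Agent.helper15.Sid

universe u

variable {G : Type u} [Group G] [Finite G] {V : Subgroup G}

/-- A minimal normal subgroup of a minimal counterexample has no proper nontrivial
subgroup invariant under itself. -/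
theorem MinCE.b2 (hm : MinCE G V) (N : Subgroup G) [hNn : N.Normal] (hN : N ≠ ⊥)
    (hmin : ∀ K : Subgroup G, K.Normal → K ≤ N → K ≠ ⊥ → K = N) :
    ∀ L₀ : Subgroup G, L₀ ≤ N → (∀ n ∈ N, ∀ l ∈ L₀, n * l * n⁻¹ ∈ L₀) → L₀ = ⊥ ∨ L₀ = N := by
  intro L₀ hL₀N hL₀inv
  by_contra hcon
  push_neg at hcon
  obtain ⟨hL₀ne, hL₀N'⟩ := hcon
  have hO := hm.core_bot
  obtain ⟨hcentN, hNVtop⟩ := hm.p1 N hN
  let S : Set (Subgroup G) := {L | L ≤ N ∧ L ≠ ⊥ ∧ ∀ n ∈ N, ∀ l ∈ L, n * l * n⁻¹ ∈ L}
  have hSne : S.Nonempty := ⟨L₀, hL₀N, hL₀ne, hL₀inv⟩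
  obtain ⟨L, hLS, hLmin⟩ := WellFounded.has_min (wellFounded_lt (α := Subgroup G)) S hSne
  obtain ⟨hLN, hLne, hLinv⟩ := hLS
  have hLneN : L ≠ N := by
    intro h0
    apply hLmin L₀ ⟨hL₀N, hL₀ne, hL₀inv⟩
    rw [h0]
    exact lt_of_le_of_ne hL₀N hL₀N'
  -- conjugates of `L`
  have hcjN : ∀ g : G, cj g L ≤ N := by
    intro g x hx
    rw [mem_cj] at hx
    have := hNn.conj_mem _ (hLN hx) g
    have e : g * (g⁻¹ * x * g) * g⁻¹ = x := by group
    rwa [e] at this
  have hinvc : ∀ g : G, ∀ n ∈ N, ∀ x ∈ cj g L, n * x * n⁻¹ ∈ cj g L := by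
    intro g n hn x hx
    rw [mem_cj] at hx ⊢
    have hn' : g⁻¹ * n * g ∈ N := by
      have := hNn.conj_mem n hn g⁻¹
      simpa using this
    have := hLinv _ hn' _ hx
    have e : g⁻¹ * (n * x * n⁻¹) * g = g⁻¹ * n * g * (g⁻¹ * x * g) * (g⁻¹ * n * g)⁻¹ := by group
    rw [e]; exact this
  have hf1 : ∀ g : G, cj g L = L ∨
      (L ⊓ cj g L = ⊥ ∧ ∀ a ∈ L, ∀ b ∈ cj g L, a * b = b * a) := by
    intro g
    by_cases hD : L ⊓ cj g L = ⊥
    · right
      refine ⟨hD, ?_⟩
      intro a ha b hb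
      have hc : a * b * a⁻¹ * b⁻¹ ∈ L ⊓ cj g L := by
        refine Subgroup.mem_inf.2 ⟨?_, ?_⟩
        · have h1 := hLinv b (hcjN g hb) a⁻¹ (L.inv_mem ha)
          have e : a * b * a⁻¹ * b⁻¹ = a * (b * a⁻¹ * b⁻¹) := by group
          rw [e]; exact L.mul_mem ha h1
        · have h1 := hinvc g a (hLN ha) b hb
          exact Subgroup.mul_mem _ h1 (Subgroup.inv_mem _ hb)
      rw [hD, Subgroup.mem_bot] at hc
      calc a * b = (a * b * a⁻¹ * b⁻¹) * (b * a) := by group
        _ = b * a := by rw [hc, one_mul]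
    · left
      have hDS : L ⊓ cj g L ∈ S := by
        refine ⟨inf_le_left.trans hLN, hD, ?_⟩
        intro n hn l hl
        obtain ⟨hl1, hl2⟩ := Subgroup.mem_inf.1 hl
        exact Subgroup.mem_inf.2 ⟨hLinv n hn l hl1, hinvc g n hn l hl2⟩
      have hnot := hLmin _ hDS
      have heq : L ⊓ cj g L = L := by
        by_contra hne
        exact hnot (lt_of_le_of_ne inf_le_left hne)
      have hle : L ≤ cj g L := by
        intro x hx
        have h9 : x ∈ L ⊓ cj g L := by rw [heq]; exact hx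
        exact (Subgroup.mem_inf.1 h9).2
      exact (Subgroup.eq_of_le_of_card_ge hle (by rw [card_cj])).symm
  -- `N` is the normal closure of `L`
  have hNle : ∀ Y : Subgroup G, (∀ g : G, ∀ l ∈ L, g * l * g⁻¹ ∈ Y) → N ≤ Y := by
    intro Y hY
    have hK : Subgroup.normalClosure (L : Set G) = N := by
      apply hmin _ Subgroup.normalClosure_normal (Subgroup.normalClosure_le_normal hLN)
      intro h0
      apply hLne
      rw [eq_bot_iff, ← h0]
      exact Subgroup.le_normalClosure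
    rw [← hK]
    unfold Subgroup.normalClosure
    rw [Subgroup.closure_le]
    intro x hx
    rw [Group.mem_conjugatesOfSet_iff] at hx
    obtain ⟨l, hl, hc⟩ := hx
    rw [isConj_iff] at hc
    obtain ⟨c, rfl⟩ := hc
    exact hY c l hl
  -- elements of `L` centralizing `L` are trivial
  have hcentL : ∀ x ∈ L, (∀ l ∈ L, x * l = l * x) → x = 1 := by
    intro x hx hxc
    have h1 : N ≤ Subgroup.centralizer ({x} : Set G) := by
      apply hNle
      intro g l hl
      rw [mem_cent_single]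
      rcases hf1 g with h | ⟨_, h⟩
      · have : g * l * g⁻¹ ∈ L := by rw [← h]; exact cj_mem_cj hl
        exact hxc _ this
      · exact h x hx _ (cj_mem_cj hl)
    have h2 : x ∈ Subgroup.centralizer (N : Set G) := by
      rw [Subgroup.mem_centralizer_iff]
      intro n hn
      have := h1 hn
      rw [mem_cent_single] at this
      exact this.symm
    rw [hcentN] at h2
    exact Subgroup.mem_bot.1 h2
  -- no normal 2-subgroups in `L`
  have hXL : ∀ T : Subgroup G, T ≤ L → IsPGroup 2 T → (∀ x ∈ L, ∀ t ∈ T, x * t * x⁻¹ ∈ T) →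
      T = ⊥ := by
    intro T hTL hTp hTn
    have h1 : N ≤ Subgroup.normalizer (T : Set G) := by
      apply hNle
      intro g l hl
      rw [Subgroup.mem_normalizer_iff]
      intro t
      rcases hf1 g with h | ⟨_, h⟩
      · have hc : g * l * g⁻¹ ∈ L := by rw [← h]; exact cj_mem_cj hl
        constructor
        · intro ht; exact hTn _ hc t ht
        · intro ht
          have := hTn _ (L.inv_mem hc) _ ht
          have e : (g * l * g⁻¹)⁻¹ * (g * l * g⁻¹ * t * (g * l * g⁻¹)⁻¹) * (g * l * g⁻¹)⁻¹⁻¹ = t := by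
            group
          rwa [e] at this
      · have hc : g * l * g⁻¹ ∈ cj g L := cj_mem_cj hl
        constructor
        · intro ht
          have h2 := h t (hTL ht) _ hc
          have e : g * l * g⁻¹ * t * (g * l * g⁻¹)⁻¹ = t := by
            calc g * l * g⁻¹ * t * (g * l * g⁻¹)⁻¹ = (t * (g * l * g⁻¹)) * (g * l * g⁻¹)⁻¹ := by
                  rw [h2]
              _ = t := by group
          rw [e]; exact ht
        · intro ht
          have h2 := h _ (hTL ht) _ hc
          have e : t = g * l * g⁻¹ * t * (g * l * g⁻¹)⁻¹ := by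
            calc t = (g * l * g⁻¹)⁻¹ * ((g * l * g⁻¹ * t * (g * l * g⁻¹)⁻¹) * (g * l * g⁻¹)) := by
                  group
              _ = (g * l * g⁻¹)⁻¹ * ((g * l * g⁻¹) * (g * l * g⁻¹ * t * (g * l * g⁻¹)⁻¹)) := by
                  rw [h2]
              _ = g * l * g⁻¹ * t * (g * l * g⁻¹)⁻¹ := by group
          rw [e]; exact ht
    apply no_two_sub_of_normal hO N T (hTL.trans hLN) hTp
    intro n hn t ht
    exact ((Subgroup.mem_normalizer_iff.1 (h1 hn)) t).1 ht
  -- a nontrivial odd-order element of `L`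
  obtain ⟨x₁, hx₁L, hx₁1, hx₁odd⟩ : ∃ x ∈ L, x ≠ 1 ∧ Odd (orderOf x) := by
    by_contra hno
    push_neg at hno
    apply hLne
    apply hXL L le_rfl _ (fun x hx t ht => L.mul_mem (L.mul_mem hx ht) (L.inv_mem hx))
    intro a
    obtain ⟨k, m, hmodd, ho⟩ := Nat.exists_eq_two_pow_mul_odd (orderOf_pos (a : G)).ne'
    refine ⟨k, ?_⟩
    have hy : Odd (orderOf ((a : G) ^ (2 ^ k))) := by
      have h1 : ((a : G) ^ (2 ^ k)) ^ m = 1 := by
        rw [← pow_mul, ← ho, pow_orderOf_eq_one]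
      exact hmodd.of_dvd_nat (orderOf_dvd_of_pow_eq_one h1)
    have h2 : (a : G) ^ (2 ^ k) = 1 := by
      by_contra hne
      exact hno _ (L.pow_mem a.2 _) hne hy
    apply Subtype.ext
    rw [Subgroup.coe_pow, h2]; rfl
  -- `V_K`
  obtain ⟨VK, hVKdef⟩ : ∃ VK : Subgroup G, VK = V ⊓ Subgroup.normalizer (L : Set G) := ⟨_, rfl⟩
  have hVKV : VK ≤ V := by rw [hVKdef]; exact inf_le_left
  have hVKn : VK ≤ Subgroup.normalizer (L : Set G) := by rw [hVKdef]; exact inf_le_right
  have hVKnorm : ∀ v ∈ VK, ∀ l ∈ L, v * l * v⁻¹ ∈ L := by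
    intro v hv l hl
    exact ((Subgroup.mem_normalizer_iff.1 (hVKn hv)) l).1 hl
  have hmemVK : ∀ v ∈ V, cj v L = L → v ∈ VK := by
    intro v hv h
    rw [hVKdef]
    exact Subgroup.mem_inf.2 ⟨hv, mem_normalizer_of_cj_eq h⟩
  -- Step (i): `V_K ≠ ⊥`
  have hVKne : VK ≠ ⊥ := by
    obtain ⟨t, htV, ht1⟩ := exists_ne_one_of_ne_bot hm.ne
    rcases hf1 t with h | ⟨hD, hcomm⟩
    · intro h0
      have := hmemVK t htV h
      rw [h0, Subgroup.mem_bot] at this
      exact ht1 this
    · obtain ⟨y, hydef⟩ : ∃ y : G, y = t * x₁⁻¹ * t⁻¹ := ⟨_, rfl⟩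
      have hy : y ∈ cj t L := by rw [hydef]; exact cj_mem_cj (L.inv_mem hx₁L)
      have hxy : x₁ * y = y * x₁ := hcomm x₁ hx₁L y hy
      have hyodd : Odd (orderOf y) := by
        have : orderOf y = orderOf x₁ := by
          rw [hydef, ← MulAut.conj_apply, MulEquiv.orderOf_eq, orderOf_inv]
        rw [this]; exact hx₁odd
      have hodd : Odd (orderOf (x₁ * y)) := odd_mul_of_commute hxy hx₁odd hyodd
      have htt : t * t = 1 := ea_mul_self hm.ea htV
      have hti : t * (x₁ * y) * t⁻¹ = (x₁ * y)⁻¹ := by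
        calc t * (x₁ * y) * t⁻¹ = (t * x₁ * t⁻¹) * ((t * t) * x₁⁻¹ * (t * t)⁻¹) := by
              rw [hydef]; group
          _ = (t * x₁ * t⁻¹) * x₁⁻¹ := by rw [htt]; group
          _ = (x₁ * y)⁻¹ := by rw [hydef]; group
      obtain ⟨w, hwV, hw1, hwc⟩ := hm.sidki (x₁ * y) t htV hodd hti
      have hclaim : cj w L = L ∨ cj (w * t) L = L := by
        by_contra hcon
        push_neg at hcon
        obtain ⟨hne1, hne2⟩ := hcon
        have hc1 : ∀ a ∈ L, ∀ b ∈ cj w L, a * b = b * a := by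
          rcases hf1 w with h | ⟨_, h⟩
          · exact absurd h hne1
          · exact h
        have hc2 : ∀ a ∈ L, ∀ b ∈ cj (w * t) L, a * b = b * a := by
          rcases hf1 (w * t) with h | ⟨_, h⟩
          · exact absurd h hne2
          · exact h
        apply hx₁1
        apply hcentL x₁ hx₁L
        intro l hl
        have hp : w * x₁ * w⁻¹ ∈ cj w L := cj_mem_cj hx₁L
        have hq : w * y * w⁻¹ ∈ cj (w * t) L := by
          have e : w * y * w⁻¹ = (w * t) * x₁⁻¹ * (w * t)⁻¹ := by rw [hydef]; group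
          rw [e]; exact cj_mem_cj (L.inv_mem hx₁L)
        have h1 := hc1 l hl _ hp
        have h2 := hc2 l hl _ hq
        have hpq : (w * x₁ * w⁻¹) * (w * y * w⁻¹) = x₁ * y := by
          calc (w * x₁ * w⁻¹) * (w * y * w⁻¹) = (w * (x₁ * y)) * w⁻¹ := by group
            _ = ((x₁ * y) * w) * w⁻¹ := by rw [hwc]
            _ = x₁ * y := by group
        have h3 : l * (x₁ * y) = (x₁ * y) * l := by
          rw [← hpq]
          calc l * ((w * x₁ * w⁻¹) * (w * y * w⁻¹)) = (l * (w * x₁ * w⁻¹)) * (w * y * w⁻¹) := by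
                group
            _ = ((w * x₁ * w⁻¹) * l) * (w * y * w⁻¹) := by rw [h1]
            _ = (w * x₁ * w⁻¹) * (l * (w * y * w⁻¹)) := by group
            _ = (w * x₁ * w⁻¹) * ((w * y * w⁻¹) * l) := by rw [h2]
            _ = (w * x₁ * w⁻¹) * (w * y * w⁻¹) * l := by group
        have h4 : l * y = y * l := hcomm l hl y hy
        have h5 : l * y⁻¹ = y⁻¹ * l := by
          calc l * y⁻¹ = y⁻¹ * (y * l) * y⁻¹ := by group
            _ = y⁻¹ * (l * y) * y⁻¹ := by rw [h4]
            _ = y⁻¹ * l := by group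
        calc x₁ * l = (x₁ * y) * (y⁻¹ * l) := by group
          _ = (x₁ * y) * (l * y⁻¹) := by rw [h5]
          _ = ((x₁ * y) * l) * y⁻¹ := by group
          _ = (l * (x₁ * y)) * y⁻¹ := by rw [h3]
          _ = l * x₁ := by group
      rcases hclaim with h | h
      · intro h0
        have := hmemVK w hwV h
        rw [h0, Subgroup.mem_bot] at this
        exact hw1 this
      · intro h0
        have := hmemVK (w * t) (V.mul_mem hwV htV) h
        rw [h0, Subgroup.mem_bot] at this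
        -- `w = t`
        have hwt : w = t := by
          have : w = t⁻¹ := eq_inv_of_mul_eq_one_left this
          rw [this, ea_inv hm.ea htV]
        rw [hwt] at hwc
        have h6 : t * (x₁ * y) * t⁻¹ = x₁ * y := by
          calc t * (x₁ * y) * t⁻¹ = ((x₁ * y) * t) * t⁻¹ := by rw [hwc]
            _ = x₁ * y := by group
        rw [hti] at h6
        have h7 : x₁ * y = 1 := eq_one_of_odd_of_inv_eq hodd h6
        have h8 : x₁ = y⁻¹ := eq_inv_of_mul_eq_one_left h7
        have h9 : x₁ ∈ L ⊓ cj t L :=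
          Subgroup.mem_inf.2 ⟨hx₁L, by rw [h8]; exact Subgroup.inv_mem _ hy⟩
        rw [hD, Subgroup.mem_bot] at h9
        exact hx₁1 h9
  -- Step (ii): the relative Sidki condition
  have hS : ∀ h ∈ L ⊔ VK, ∀ u ∈ VK, Odd (orderOf h) → u * h * u⁻¹ = h⁻¹ →
      ∃ w ∈ VK, w ≠ 1 ∧ w * h = h * w := by
    intro h hh u hu hodd hi
    have hhL : h ∈ L :=
      odd_mem_of_sup hVKnorm (fun v hv => ea_mul_self hm.ea (hVKV hv)) hh hodd
    by_cases hh1 : h = 1
    · obtain ⟨w, hw, hw1⟩ := exists_ne_one_of_ne_bot hVKne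
      exact ⟨w, hw, hw1, by rw [hh1, mul_one, one_mul]⟩
    · obtain ⟨C, hCdef⟩ : ∃ C : Subgroup G,
          C = Subgroup.centralizer ({u} : Set G) ⊓ Subgroup.centralizer ({h} : Set G) := ⟨_, rfl⟩
      obtain ⟨hCV, _⟩ :=
        Cfsg.Agent.S3013.result V hm.ea hm.ne hm.sidki u h (hVKV hu) hodd hi C hCdef
      obtain ⟨w, hw, hw1⟩ := exists_ne_one_of_ne_bot hCV
      obtain ⟨hwC, hwV⟩ := Subgroup.mem_inf.1 hw
      rw [hCdef] at hwC
      have hwh := (Subgroup.mem_inf.1 hwC).2
      rw [mem_cent_single] at hwh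
      have hcjw : cj w L = L := by
        rcases hf1 w with e | ⟨hD, _⟩
        · exact e
        · exfalso
          have h9 : h ∈ L ⊓ cj w L := by
            refine Subgroup.mem_inf.2 ⟨hhL, ?_⟩
            rw [mem_cj]
            have e : w⁻¹ * h * w = h := by
              calc w⁻¹ * h * w = w⁻¹ * (h * w) := by group
                _ = w⁻¹ * (w * h) := by rw [hwh]
                _ = h := by group
            rw [e]; exact hhL
          rw [hD, Subgroup.mem_bot] at h9
          exact hh1 h9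
      exact ⟨w, hmemVK w hwV hcjw, hw1, hwh.symm⟩
  -- Step (iii)
  have hle : L ⊔ VK ≤ Subgroup.normalizer (L : Set G) := sup_le Subgroup.le_normalizer hVKn
  have hHne : L ⊔ VK ≠ ⊤ := by
    intro h0
    rw [h0, top_le_iff] at hle
    have hLn : L.Normal := Subgroup.normalizer_eq_top_iff.1 hle
    exact hLneN (hmin L hLn hLN hLne)
  obtain ⟨u, huVK, hu1, huH, huc⟩ := hm.apply_min (L ⊔ VK) VK hHne le_sup_right
    (ea_of_le hVKV hm.ea) hVKne hS
  -- Step (iv)
  have hucL := cent_of_core (L ⊔ VK) L le_sup_left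
    (fun h hh x hx => ((Subgroup.mem_normalizer_iff.1 (hle hh)) x).1 hx) hXL u huH huc
  -- Step (v)
  have huV : u ∈ V := hVKV huVK
  have h1 : N ≤ Subgroup.centralizer ({u} : Set G) := by
    apply hNle
    intro g l hl
    rw [mem_cent_single]
    have hg : g ∈ N ⊔ V := by rw [hNVtop]; trivial
    obtain ⟨n, hn, v, hv, rfl⟩ :=
      exists_mul_of_mem_sup (L := N) (W := V) (fun v _ l hl => hNn.conj_mem l hl v) hg
    have hb : n * v * l * (n * v)⁻¹ ∈ cj v L := by
      have := hinvc v n hn _ (cj_mem_cj (g := v) hl)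
      have e : n * v * l * (n * v)⁻¹ = n * (v * l * v⁻¹) * n⁻¹ := by group
      rw [e]; exact this
    obtain ⟨b, hbdef⟩ : ∃ b : G, b = n * v * l * (n * v)⁻¹ := ⟨_, rfl⟩
    rw [← hbdef] at hb ⊢
    rw [mem_cj] at hb
    have huv : u * v = v * u := ea_comm hm.ea huV hv
    have huv' : u * v⁻¹ = v⁻¹ * u := by rw [ea_inv hm.ea hv]; exact huv
    have hul := hucL _ hb
    calc u * b = u * (v * (v⁻¹ * b * v) * v⁻¹) := by group
      _ = (u * v) * (v⁻¹ * b * v) * v⁻¹ := by group
      _ = (v * u) * (v⁻¹ * b * v) * v⁻¹ := by rw [huv]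
      _ = v * (u * (v⁻¹ * b * v)) * v⁻¹ := by group
      _ = v * ((v⁻¹ * b * v) * u) * v⁻¹ := by rw [hul]
      _ = v * (v⁻¹ * b * v) * (u * v⁻¹) := by group
      _ = v * (v⁻¹ * b * v) * (v⁻¹ * u) := by rw [huv']
      _ = b * u := by group
  have h2 : u ∈ Subgroup.centralizer (N : Set G) := by
    rw [Subgroup.mem_centralizer_iff]
    intro n hn
    have := h1 hn
    rw [mem_cent_single] at this
    exact this.symm
  rw [hcentN] at h2
  exact hu1 (Subgroup.mem_bot.1 h2)

end Cfsg.Agent.helper15.Sid
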