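import Mathlib
import Cfsg.Prelude.Def_OddOrderLocal
import Cfsg.Agent.Lib_helper23_Tr4
import Cfsg.Agent.Lib_lead_Coprime4
import Cfsg.Agent.Lib_helper10_Alperin
import Cfsg.Agent.Lib_helper7_Gen2
import Cfsg.Agent.Lib_helper15_Gen5
import Cfsg.Agent.Lib_helper15_Gen6

set_option autoImplicit false
set_option linter.style.haveILetI false
set_option linter.unusedSectionVars false
set_option maxHeartbeats 800000

/-! Thompson transitivity, abstract form: the "key lemma" is an hypothesis. -/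

namespace Cfsg.Agent.helper15.TT

open Cfsg.Agent.helper7 Cfsg.Agent.helper23
open scoped commutatorElement Pointwise

universe u

variable {G : Type u} [Group G] [Finite G]

/-- Conjugacy under a subgroup `K`. -/
def KR (K : Subgroup G) (Q Q' : Subgroup G) : Prop := ∃ k ∈ K, Q' = cj k Q

theorem KR.symm {K Q Q' : Subgroup G} (h : KR K Q Q') : KR K Q' Q := by
  obtain ⟨k, hk, rfl⟩ := h
  exact ⟨k⁻¹, Subgroup.inv_mem _ hk, (cj_inv_cj k Q).symm⟩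

theorem KR.trans {K Q Q' Q'' : Subgroup G} (h : KR K Q Q') (h' : KR K Q' Q'') :
    KR K Q Q'' := by
  obtain ⟨k, hk, rfl⟩ := h
  obtain ⟨k', hk', rfl⟩ := h'
  exact ⟨k' * k, Subgroup.mul_mem _ hk' hk, by rw [cj_cj]⟩

theorem not_dvd_card_of_isPGroup {p q : ℕ} [hp : Fact p.Prime] [hq : Fact q.Prime] (hqp : q ≠ p)
    (R : Subgroup G) (hR : IsPGroup q R) : ¬ p ∣ Nat.card R := by
  intro hd
  obtain ⟨j, hj⟩ := hR.exists_card_eq
  rw [hj] at hd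
  exact hqp ((Nat.prime_dvd_prime_iff_eq hp.out hq.out).1 (hp.out.dvd_of_dvd_pow hd)).symm

theorem coprime_card_of_isPGroup {p q : ℕ} [hp : Fact p.Prime] [hq : Fact q.Prime] (hqp : q ≠ p)
    (R : Subgroup G) (hR : IsPGroup q R) : (Nat.card R).Coprime p := by
  rw [Nat.coprime_comm, Nat.Prime.coprime_iff_not_dvd hp.out]
  exact not_dvd_card_of_isPGroup hqp R hR

theorem card_lt_of_lt {D U : Subgroup G} (h : D < U) : Nat.card D < Nat.card U := by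
  refine lt_of_le_of_ne (Subgroup.card_le_of_le h.le) ?_
  intro heq
  exact h.ne (Subgroup.eq_of_le_of_card_ge h.le heq.ge)


/-- The inductive step. -/
theorem tt_step {p q : ℕ} [hp : Fact p.Prime] [hq : Fact q.Prime] (hqp : q ≠ p)
    (E E₁ K : Subgroup G) (hEp : IsPGroup p E) (hEc : IsMulCommutative E)
    (hE₁E : E₁ ≤ E) (hE₁ : Cfsg.IsElementaryAbelian p E₁) (hE₁c : p ^ 2 < Nat.card E₁)
    (hKC : K ≤ Subgroup.centralizer (E : Set G))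
    (hK : ∀ c ∈ Subgroup.centralizer (E : Set G), (orderOf c).Coprime p → c ∈ K)
    (hKL : ∀ a ∈ E, a ≠ 1 → ∃ L : Subgroup G, (Nat.card L).Coprime p ∧
      E ≤ Subgroup.normalizer (L : Set G) ∧
      ∀ T : Subgroup G, IsPGroup q T → E ≤ Subgroup.normalizer (T : Set G) →
        T ≤ Subgroup.centralizer ({a} : Set G) → T ≤ L)
    (Q₁ Q₂ : Subgroup G) (hQ₁ : Q₁ ∈ Cfsg.maxInvSubgroups ⊤ E {q})
    (hQ₂ : Q₂ ∈ Cfsg.maxInvSubgroups ⊤ E {q})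
    (h12 : ¬ Q₁ ≤ Q₂) (h21 : ¬ Q₂ ≤ Q₁)
    (IH : ∀ Q ∈ Cfsg.maxInvSubgroups ⊤ E {q}, ∀ Q' ∈ Cfsg.maxInvSubgroups ⊤ E {q},
      Nat.card ↥(Q₁ ⊓ Q₂) < Nat.card ↥(Q ⊓ Q') → KR K Q Q') :
    KR K Q₁ Q₂ := by
  obtain ⟨D, hD⟩ : ∃ D : Subgroup G, D = Q₁ ⊓ Q₂ := ⟨_, rfl⟩
  rw [← hD] at IH
  have hDQ₁ : D < Q₁ := by
    refine lt_of_le_of_ne (by rw [hD]; exact inf_le_left) ?_
    intro h
    apply h12
    rw [← h, hD]; exact inf_le_right
  have hDQ₂ : D < Q₂ := by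
    refine lt_of_le_of_ne (by rw [hD]; exact inf_le_right) ?_
    intro h
    apply h21
    rw [← h, hD]; exact inf_le_left
  have hQ₁p : IsPGroup q Q₁ := isPGroup_of_primes q Q₁ hQ₁.1.2.1
  have hQ₂p : IsPGroup q Q₂ := isPGroup_of_primes q Q₂ hQ₂.1.2.1
  have hED : E ≤ Subgroup.normalizer (D : Set G) := by
    rw [hD]
    exact (le_inf hQ₁.1.2.2 hQ₂.1.2.2).trans Subgroup.inf_normalizer_le_normalizer_inf
  obtain ⟨R₁, hR₁⟩ : ∃ R : Subgroup G, R = Q₁ ⊓ Subgroup.normalizer (D : Set G) := ⟨_, rfl⟩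
  obtain ⟨R₂, hR₂⟩ : ∃ R : Subgroup G, R = Q₂ ⊓ Subgroup.normalizer (D : Set G) := ⟨_, rfl⟩
  have hlt₁ : D < R₁ := by rw [hR₁]; exact Cfsg.Agent.helper10.lt_inf_normalizer_of_lt hQ₁p hDQ₁
  have hlt₂ : D < R₂ := by rw [hR₂]; exact Cfsg.Agent.helper10.lt_inf_normalizer_of_lt hQ₂p hDQ₂
  have hR₁Q : R₁ ≤ Q₁ := by rw [hR₁]; exact inf_le_left
  have hR₂Q : R₂ ≤ Q₂ := by rw [hR₂]; exact inf_le_left
  have hR₁N : R₁ ≤ Subgroup.normalizer (D : Set G) := by rw [hR₁]; exact inf_le_right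
  have hR₂N : R₂ ≤ Subgroup.normalizer (D : Set G) := by rw [hR₂]; exact inf_le_right
  have hER₁ : E ≤ Subgroup.normalizer (R₁ : Set G) := by
    rw [hR₁]
    exact Cfsg.Agent.lead.le_normalizer_inf_normalizer E Q₁ D hQ₁.1.2.2 hED
  have hER₂ : E ≤ Subgroup.normalizer (R₂ : Set G) := by
    rw [hR₂]
    exact Cfsg.Agent.lead.le_normalizer_inf_normalizer E Q₂ D hQ₂.1.2.2 hED
  have hR₁p : IsPGroup q R₁ := hQ₁p.to_le hR₁Q
  have hR₂p : IsPGroup q R₂ := hQ₂p.to_le hR₂Q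
  -- a hyperplane `B₀` of `E₁` whose centralizer in `R₁` is not inside `D`
  have hgen := gen_coprime hE₁ (not_dvd_card_of_isPGroup hqp R₁ hR₁p) (hE₁E.trans hER₁)
  obtain ⟨B₀, hB₀B, hB₀idx, hB₀ne⟩ : ∃ B₀ : Subgroup G, B₀ ≤ E₁ ∧ B₀.relIndex E₁ ≤ p ∧
      ¬ R₁ ⊓ Subgroup.centralizer (B₀ : Set G) ≤ D := by
    by_contra hno
    push Not at hno
    apply not_le_of_gt hlt₁
    rw [hgen]
    unfold genC
    apply iSup_le
    rintro ⟨B₀, hB₀B, hB₀idx⟩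
    exact hno B₀ hB₀B hB₀idx
  have hB₀card : p < Nat.card B₀ := by
    have e1 : Nat.card (B₀.subgroupOf E₁) = Nat.card B₀ :=
      Nat.card_congr (Subgroup.subgroupOfEquivOfLe hB₀B).toEquiv
    have e2 := Subgroup.card_mul_index (B₀.subgroupOf E₁)
    rw [e1] at e2
    have e3 : (B₀.subgroupOf E₁).index ≤ p := hB₀idx
    have e4 : Nat.card E₁ ≤ Nat.card B₀ * p := by
      rw [← e2]; exact Nat.mul_le_mul_left _ e3
    have hp1 := hp.out.one_lt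
    by_contra hle
    push Not at hle
    have : Nat.card B₀ * p ≤ p * p := Nat.mul_le_mul_right _ hle
    nlinarith
  have hB₀ea := ea_mono hE₁ hB₀B
  have hB₀nc : ¬ IsCyclic ↥B₀ := ea_not_cyclic B₀ hB₀ea hB₀card
  have hB₀E : B₀ ≤ E := hB₀B.trans hE₁E
  haveI : IsMulCommutative B₀ := hB₀ea.1
  have hB₀p : IsPGroup p B₀ := hEp.to_le hB₀E
  have hcopB : (Nat.card B₀).Coprime (Nat.card R₂) := by
    obtain ⟨j, hj⟩ := hB₀p.exists_card_eq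
    rw [hj]
    exact Nat.Coprime.pow_left j (coprime_card_of_isPGroup hqp R₂ hR₂p).symm
  have hgen₂ := Cfsg.Agent.helper15.iSup_centralizer_eq_of_not_isCyclic B₀ R₂ hB₀nc
    (hB₀E.trans hER₂) hcopB
  obtain ⟨a, haB₀, ha1, hane⟩ : ∃ a : G, a ∈ B₀ ∧ a ≠ 1 ∧
      ¬ R₂ ⊓ Subgroup.centralizer ({a} : Set G) ≤ D := by
    by_contra hno
    push Not at hno
    apply not_le_of_gt hlt₂
    rw [← hgen₂]
    apply iSup₂_le
    intro a ha
    exact hno a ha.1 ha.2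
  have haE : a ∈ E := hB₀E haB₀
  have hcc : Subgroup.centralizer (B₀ : Set G) ≤ Subgroup.centralizer ({a} : Set G) :=
    Subgroup.centralizer_le (by
      intro y hy
      rw [Set.mem_singleton_iff] at hy
      subst hy
      exact haB₀)
  have hECa : E ≤ Subgroup.centralizer ({a} : Set G) := by
    intro x hx
    rw [Subgroup.mem_centralizer_iff]
    intro y hy
    rw [Set.mem_singleton_iff] at hy
    subst hy
    have h0 := hEc.is_comm.comm ⟨y, haE⟩ ⟨x, hx⟩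
    exact congrArg Subtype.val h0
  have hENCa : E ≤ Subgroup.normalizer ((Subgroup.centralizer ({a} : Set G) : Subgroup G) : Set G) :=
    hECa.trans Subgroup.le_normalizer
  obtain ⟨T₁, hT₁⟩ : ∃ T : Subgroup G, T = R₁ ⊓ Subgroup.centralizer ({a} : Set G) := ⟨_, rfl⟩
  obtain ⟨T₂, hT₂⟩ : ∃ T : Subgroup G, T = R₂ ⊓ Subgroup.centralizer ({a} : Set G) := ⟨_, rfl⟩
  have hT₁D : ¬ T₁ ≤ D := by
    intro h
    apply hB₀ne
    refine le_trans ?_ h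
    rw [hT₁]
    exact inf_le_inf_left _ hcc
  have hT₂D : ¬ T₂ ≤ D := by rw [hT₂]; exact hane
  have hT₁R : T₁ ≤ R₁ := by rw [hT₁]; exact inf_le_left
  have hT₂R : T₂ ≤ R₂ := by rw [hT₂]; exact inf_le_left
  have hT₁C : T₁ ≤ Subgroup.centralizer ({a} : Set G) := by rw [hT₁]; exact inf_le_right
  have hT₂C : T₂ ≤ Subgroup.centralizer ({a} : Set G) := by rw [hT₂]; exact inf_le_right
  have hET₁ : E ≤ Subgroup.normalizer (T₁ : Set G) := by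
    rw [hT₁]
    exact (le_inf hER₁ hENCa).trans Subgroup.inf_normalizer_le_normalizer_inf
  have hET₂ : E ≤ Subgroup.normalizer (T₂ : Set G) := by
    rw [hT₂]
    exact (le_inf hER₂ hENCa).trans Subgroup.inf_normalizer_le_normalizer_inf
  obtain ⟨L, hLcop, hEL, hLmax⟩ := hKL a haE ha1
  have hT₁L : T₁ ≤ L := hLmax T₁ (hR₁p.to_le hT₁R) hET₁ hT₁C
  have hT₂L : T₂ ≤ L := hLmax T₂ (hR₂p.to_le hT₂R) hET₂ hT₂C
  obtain ⟨M, hM⟩ : ∃ M : Subgroup G, M = L ⊓ Subgroup.normalizer (D : Set G) := ⟨_, rfl⟩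
  have hEM : E ≤ Subgroup.normalizer (M : Set G) := by
    rw [hM]; exact Cfsg.Agent.lead.le_normalizer_inf_normalizer E L D hEL hED
  have hMN : M ≤ Subgroup.normalizer (D : Set G) := by rw [hM]; exact inf_le_right
  have hT₁M : T₁ ≤ M := by rw [hM]; exact le_inf hT₁L (hT₁R.trans hR₁N)
  have hT₂M : T₂ ≤ M := by rw [hM]; exact le_inf hT₂L (hT₂R.trans hR₂N)
  have hMcop : (Nat.card M).Coprime p :=
    Nat.Coprime.coprime_dvd_left (Subgroup.card_dvd_of_le (by rw [hM]; exact inf_le_left)) hLcop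
  obtain ⟨Y, hY⟩ : ∃ Y : Subgroup G, Y = D ⊔ M := ⟨_, rfl⟩
  have hEY : E ≤ Subgroup.normalizer (Y : Set G) := by
    rw [hY]
    exact (le_inf hED hEM).trans (Subgroup.normalizer_inf_normalizer_le_normalizer_sup D M)
  have hDp : IsPGroup q D := hQ₁p.to_le hDQ₁.le
  have hYcop : (Nat.card Y).Coprime p := by
    rw [hY]
    exact Nat.Coprime.coprime_dvd_left (Cfsg.Agent.helper15.card_sup_dvd_of_le_normalizer D M hMN)
      (Nat.Coprime.mul_left (coprime_card_of_isPGroup hqp D hDp) hMcop)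
  have hcop : (Nat.card E).Coprime (Nat.card Y) := by
    obtain ⟨j, hj⟩ := hEp.exists_card_eq
    rw [hj]
    exact Nat.Coprime.pow_left j hYcop.symm
  have hsolv : Group.IsSolvable E ∨ Group.IsSolvable Y := by
    left
    haveI := hEp.isNilpotent
    exact IsNilpotent.to_isSolvable
  obtain ⟨U₁, hU₁⟩ : ∃ U : Subgroup G, U = D ⊔ T₁ := ⟨_, rfl⟩
  obtain ⟨U₂, hU₂⟩ : ∃ U : Subgroup G, U = D ⊔ T₂ := ⟨_, rfl⟩
  have hU₁Y : U₁ ≤ Y := by rw [hU₁, hY]; exact sup_le_sup_left hT₁M D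
  have hU₂Y : U₂ ≤ Y := by rw [hU₂, hY]; exact sup_le_sup_left hT₂M D
  have hU₁R : U₁ ≤ R₁ := by rw [hU₁]; exact sup_le hlt₁.le hT₁R
  have hU₂R : U₂ ≤ R₂ := by rw [hU₂]; exact sup_le hlt₂.le hT₂R
  have hU₁p : IsPGroup q U₁ := hR₁p.to_le hU₁R
  have hU₂p : IsPGroup q U₂ := hR₂p.to_le hU₂R
  have hEU₁ : E ≤ Subgroup.normalizer (U₁ : Set G) := by
    rw [hU₁]
    exact (le_inf hED hET₁).trans (Subgroup.normalizer_inf_normalizer_le_normalizer_sup D T₁)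
  have hEU₂ : E ≤ Subgroup.normalizer (U₂ : Set G) := by
    rw [hU₂]
    exact (le_inf hED hET₂).trans (Subgroup.normalizer_inf_normalizer_le_normalizer_sup D T₂)
  have hDU₁ : D < U₁ := by
    refine lt_of_le_of_ne (by rw [hU₁]; exact le_sup_left) ?_
    intro h
    apply hT₁D
    rw [h, hU₁]; exact le_sup_right
  have hDU₂ : D < U₂ := by
    refine lt_of_le_of_ne (by rw [hU₂]; exact le_sup_left) ?_
    intro h
    apply hT₂D
    rw [h, hU₂]; exact le_sup_right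
  obtain ⟨S₁, hU₁S, hS₁Y, hS₁c, hS₁E⟩ := Cfsg.Agent.lead.invariant_pgroup_le_invariant_sylow
    E Y hEY hcop hsolv q U₁ hU₁Y hU₁p hEU₁
  obtain ⟨S₂, hU₂S, hS₂Y, hS₂c, hS₂E⟩ := Cfsg.Agent.lead.invariant_pgroup_le_invariant_sylow
    E Y hEY hcop hsolv q U₂ hU₂Y hU₂p hEU₂
  obtain ⟨k, hk, hkS⟩ := sylow_order_conj Y S₁ S₂ q hS₁Y hS₂Y hS₁c hS₂c
  obtain ⟨c, hc, hcS⟩ := Cfsg.Agent.lead.invariant_sylow_conj E Y hEY hcop hsolv S₁ S₂ k hk hkS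
    hS₁E hS₂E
  have hcC : c ∈ Subgroup.centralizer (E : Set G) := hc.2
  have hcK : c ∈ K := by
    apply hK c hcC
    have h1 : orderOf c ∣ Nat.card Y := by
      have h2 : orderOf (⟨c, hc.1⟩ : ↥Y) = orderOf c := Subgroup.orderOf_mk c hc.1
      rw [← h2]
      exact orderOf_dvd_natCard _
    exact Nat.Coprime.coprime_dvd_left h1 hYcop
  have hS₁inv : S₁ ∈ Cfsg.invSubgroups ⊤ E {q} :=
    ⟨le_top, primes_of_isPGroup q S₁ (IsPGroup.of_card hS₁c), hS₁E⟩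
  have hS₂inv : S₂ ∈ Cfsg.invSubgroups ⊤ E {q} :=
    ⟨le_top, primes_of_isPGroup q S₂ (IsPGroup.of_card hS₂c), hS₂E⟩
  obtain ⟨Q₁', hQ₁', hS₁Q⟩ := exists_max_ge E q S₁ hS₁inv
  obtain ⟨Q₂', hQ₂', hS₂Q⟩ := exists_max_ge E q S₂ hS₂inv
  have hbig : ∀ (U V : Subgroup G), D < U → U ≤ V → Nat.card D < Nat.card V := fun U V h1 h2 =>
    lt_of_lt_of_le (card_lt_of_lt h1) (Subgroup.card_le_of_le h2)
  have R1 : KR K Q₁ Q₁' :=
    IH Q₁ hQ₁ Q₁' hQ₁' (hbig U₁ _ hDU₁ (le_inf (hU₁R.trans hR₁Q) (hU₁S.trans hS₁Q)))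
  have R2 : KR K Q₂ Q₂' :=
    IH Q₂ hQ₂ Q₂' hQ₂' (hbig U₂ _ hDU₂ (le_inf (hU₂R.trans hR₂Q) (hU₂S.trans hS₂Q)))
  have hS₂cj : S₂ ≤ cj c Q₁' := by rw [← hcS]; exact cj_mono hS₁Q
  have R3 : KR K (cj c Q₁') Q₂' :=
    IH (cj c Q₁') (cj_mem_maxInv E q c hcC Q₁' hQ₁') Q₂' hQ₂'
      (hbig U₂ _ hDU₂ (le_inf (hU₂S.trans hS₂cj) (hU₂S.trans hS₂Q)))
  have R4 : KR K Q₁' (cj c Q₁') := ⟨c, hcK, rfl⟩
  exact ((R1.trans R4).trans R3).trans R2.symm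


/-- Thompson transitivity, abstract form. -/
theorem tt_main {p q : ℕ} [hp : Fact p.Prime] [hq : Fact q.Prime] (hqp : q ≠ p)
    (E E₁ K : Subgroup G) (hEp : IsPGroup p E) (hEc : IsMulCommutative E)
    (hE₁E : E₁ ≤ E) (hE₁ : Cfsg.IsElementaryAbelian p E₁) (hE₁c : p ^ 2 < Nat.card E₁)
    (hKC : K ≤ Subgroup.centralizer (E : Set G))
    (hK : ∀ c ∈ Subgroup.centralizer (E : Set G), (orderOf c).Coprime p → c ∈ K)
    (hKL : ∀ a ∈ E, a ≠ 1 → ∃ L : Subgroup G, (Nat.card L).Coprime p ∧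
      E ≤ Subgroup.normalizer (L : Set G) ∧
      ∀ T : Subgroup G, IsPGroup q T → E ≤ Subgroup.normalizer (T : Set G) →
        T ≤ Subgroup.centralizer ({a} : Set G) → T ≤ L) :
    ∀ (n : ℕ) (Q₁ Q₂ : Subgroup G), Q₁ ∈ Cfsg.maxInvSubgroups ⊤ E {q} →
      Q₂ ∈ Cfsg.maxInvSubgroups ⊤ E {q} → Nat.card G - Nat.card ↥(Q₁ ⊓ Q₂) = n →
      KR K Q₁ Q₂ := by
  intro n
  induction n using Nat.strong_induction_on with
  | _ n ih =>
  intro Q₁ Q₂ hQ₁ hQ₂ hn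
  by_cases h12 : Q₁ ≤ Q₂
  · have := hQ₁.2 Q₂ hQ₂.1 h12
    exact ⟨1, Subgroup.one_mem _, by rw [cj_one, this]⟩
  by_cases h21 : Q₂ ≤ Q₁
  · have := hQ₂.2 Q₁ hQ₁.1 h21
    exact ⟨1, Subgroup.one_mem _, by rw [cj_one, this]⟩
  apply tt_step hqp E E₁ K hEp hEc hE₁E hE₁ hE₁c hKC hK hKL Q₁ Q₂ hQ₁ hQ₂ h12 h21
  intro Q hQ Q' hQ' hlt
  have hle : Nat.card ↥(Q ⊓ Q') ≤ Nat.card G := Subgroup.card_le_card_group _
  exact ih (Nat.card G - Nat.card ↥(Q ⊓ Q')) (by omega) Q Q' hQ hQ' rfl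

end Cfsg.Agent.helper15.TT
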