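import Mathlib
import Cfsg.Prelude.Def_OddOrderLocal
import Cfsg.Agent.Lib_helper23_Tr1

set_option autoImplicit false
set_option linter.style.haveILetI false
set_option linter.unusedSectionVars false
set_option maxHeartbeats 800000

/-! `p'`-elements of `C_G(E)` lie in `O_{p'}(C_G(E))` when `E` contains all `p`-elements of its
centralizer. -/

namespace Cfsg.Agent.helper15.TT

open Cfsg.Agent.helper23

universe u

variable {G : Type u} [Group G] [Finite G]

theorem pprime_mem_core {p : ℕ} [hp : Fact p.Prime] (E : Subgroup G) (hEp : IsPGroup p E)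
    (hEc : IsMulCommutative E)
    (hEfull : ∀ x ∈ Subgroup.centralizer (E : Set G), IsPGroup p (Subgroup.zpowers x) → x ∈ E)
    (c : G) (hc : c ∈ Subgroup.centralizer (E : Set G)) (hco : (orderOf c).Coprime p) :
    c ∈ Cfsg.piCoreOf (Cfsg.primesNotDvd p) (Subgroup.centralizer (E : Set G)) := by
  have hpp : p.Prime := hp.out
  obtain ⟨C, hC⟩ : ∃ C : Subgroup G, C = Subgroup.centralizer (E : Set G) := ⟨_, rfl⟩
  rw [← hC] at hc ⊢
  have hEC : E ≤ C := by
    intro x hx
    rw [hC, Subgroup.mem_centralizer_iff]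
    intro y hy
    have h0 := hEc.is_comm.comm ⟨y, hy⟩ ⟨x, hx⟩
    exact congrArg Subtype.val h0
  have hEsp : IsPGroup p (E.subgroupOf C) := hEp.comap_subtype
  obtain ⟨P, hP⟩ := hEsp.exists_le_sylow
  have hPE : ∀ s : ↥C, s ∈ P → (s : G) ∈ E := by
    intro s hs
    apply hEfull (s : G) (by rw [← hC]; exact s.2)
    obtain ⟨k, hk⟩ := P.isPGroup' ⟨s, hs⟩
    have hk' : (s : G) ^ p ^ k = 1 := by
      have := congrArg (fun z : ↥(P : Subgroup ↥C) => ((z : ↥C) : G)) hk
      simpa using this
    have h3 : orderOf (s : G) ∣ p ^ k := orderOf_dvd_of_pow_eq_one hk'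
    obtain ⟨j, -, hj⟩ := (Nat.dvd_prime_pow hpp).1 h3
    apply IsPGroup.of_card (n := j)
    rw [Nat.card_zpowers, hj]
  have hPn : Subgroup.normalizer ((P : Subgroup ↥C) : Set ↥C) ≤
      Subgroup.centralizer ((P : Subgroup ↥C) : Set ↥C) := by
    intro n _
    rw [Subgroup.mem_centralizer_iff]
    intro s hs
    apply Subtype.ext
    have hn : (n : G) ∈ Subgroup.centralizer (E : Set G) := by rw [← hC]; exact n.2
    have := Subgroup.mem_centralizer_iff.1 hn (s : G) (hPE s hs)
    simpa using this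
  have hcompl := MonoidHom.ker_transferSylow_isComplement' P hPn
  obtain ⟨K, hK⟩ : ∃ K : Subgroup ↥C, K = (MonoidHom.transferSylow P hPn).ker := ⟨_, rfl⟩
  rw [← hK] at hcompl
  have hKcard : (Nat.card ↥K).Coprime p := by
    have h1 := hcompl.card_mul_card
    have h2 := (P : Subgroup ↥C).card_mul_index
    have h3 : Nat.card ↥K = (P : Subgroup ↥C).index := by
      have hpos : 0 < Nat.card ↥(P : Subgroup ↥C) := Nat.card_pos
      apply Nat.eq_of_mul_eq_mul_right hpos
      rw [h1, mul_comm, h2]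
    rw [h3]
    exact ((Nat.Prime.coprime_iff_not_dvd hpp).2 P.not_dvd_index).symm
  have hKmem : ∀ n : ↥C, (orderOf n).Coprime p → n ∈ K := by
    intro n hn
    rw [hK, MonoidHom.mem_ker]
    have h1 : orderOf (MonoidHom.transferSylow P hPn n) ∣ orderOf n := orderOf_map_dvd _ _
    obtain ⟨k, hk⟩ := P.isPGroup' (MonoidHom.transferSylow P hPn n)
    have h2 : orderOf (MonoidHom.transferSylow P hPn n) ∣ p ^ k := orderOf_dvd_of_pow_eq_one hk
    have h3 : orderOf (MonoidHom.transferSylow P hPn n) ∣ Nat.gcd (orderOf n) (p ^ k) :=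
      Nat.dvd_gcd h1 h2
    have h4 : Nat.gcd (orderOf n) (p ^ k) = 1 := Nat.Coprime.pow_right k hn
    rw [h4, Nat.dvd_one, orderOf_eq_one_iff] at h3
    exact h3
  have hKn : K.Normal := by rw [hK]; infer_instance
  have hle : K.map C.subtype ≤ Cfsg.piCoreOf (Cfsg.primesNotDvd p) C := by
    apply le_piCoreOf _ C (K.map C.subtype) (Subgroup.map_subtype_le K)
    · have h := Subgroup.le_normalizer_map (H := K) C.subtype
      rw [Subgroup.normalizer_eq_top K, ← MonoidHom.range_eq_map, Subgroup.range_subtype] at h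
      exact h
    · intro r hr hrd
      refine ⟨hr, ?_⟩
      intro hrp
      have hrp' : r = p := (Nat.prime_dvd_prime_iff_eq hr hpp).1 hrp
      rw [Subgroup.card_map_of_injective C.subtype_injective, hrp'] at hrd
      have := Nat.Coprime.eq_one_of_dvd hKcard.symm hrd
      exact hpp.one_lt.ne' this
  apply hle
  refine ⟨⟨c, hc⟩, hKmem _ ?_, rfl⟩
  rw [Subgroup.orderOf_mk]
  exact hco

end Cfsg.Agent.helper15.TT
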