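import Mathlib
import Cfsg.Prelude.Def_OddOrderLocal
import Cfsg.Prelude.Def_Local
import Cfsg.Agent.Lib_helper1_Core
import Cfsg.Agent.Lib_helper15_TT

set_option autoImplicit false
set_option linter.style.haveILetI false
set_option linter.unusedSectionVars false
set_option maxHeartbeats 800000

/-! Passing the "key lemma" from the local subgroup `N_G(⟨a⟩)` to `G`. -/

namespace Cfsg.Agent.helper15.TT

universe u

variable {G : Type u} [Group G] [Finite G]

/-- The "fullness" hypothesis passes to any subgroup containing `E`. -/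
theorem full_subgroupOf {p : ℕ} (E N : Subgroup G) (hEN : E ≤ N)
    (hEfull : ∀ x ∈ Subgroup.centralizer (E : Set G), IsPGroup p (Subgroup.zpowers x) → x ∈ E) :
    ∀ x ∈ Subgroup.centralizer ((E.subgroupOf N : Subgroup ↥N) : Set ↥N),
      IsPGroup p (Subgroup.zpowers x) → x ∈ E.subgroupOf N := by
  intro x hx hxp
  rw [Subgroup.mem_subgroupOf]
  apply hEfull
  · rw [Subgroup.mem_centralizer_iff]
    intro e he
    have h1 := Subgroup.mem_centralizer_iff.1 hx ⟨e, hEN he⟩
      (by rw [SetLike.mem_coe, Subgroup.mem_subgroupOf]; exact he)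
    exact congrArg Subtype.val h1
  · have h2 : IsPGroup p ((Subgroup.zpowers x).map N.subtype) := hxp.map N.subtype
    rw [MonoidHom.map_zpowers] at h2
    exact h2

theorem normalizer_subgroupOf_of_le (E T N : Subgroup G)
    (hET : E ≤ Subgroup.normalizer (T : Set G)) :
    E.subgroupOf N ≤ Subgroup.normalizer ((T.subgroupOf N : Subgroup ↥N) : Set ↥N) := by
  intro e he
  rw [Subgroup.mem_subgroupOf] at he
  rw [Subgroup.mem_normalizer_iff]
  intro h
  rw [Subgroup.mem_subgroupOf, Subgroup.mem_subgroupOf]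
  have := Subgroup.mem_normalizer_iff.1 (hET he) (h : G)
  simpa using this

/-- The key lemma in `G`, from the key lemma in the local subgroup `N_G(⟨a⟩)`. -/
theorem hKL_of_local {p q : ℕ} [hp : Fact p.Prime] [hq : Fact q.Prime] (hqp : q ≠ p)
    (E : Subgroup G) (hEc : IsMulCommutative E) (a : G) (haE : a ∈ E)
    (hkl : ∀ R : Subgroup ↥(Subgroup.normalizer ((Subgroup.zpowers a : Subgroup G) : Set G)),
      (Nat.card R).Coprime p →
      E.subgroupOf (Subgroup.normalizer ((Subgroup.zpowers a : Subgroup G) : Set G)) ≤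
        Subgroup.normalizer (R : Set _) →
      R ≤ Cfsg.pPrimeCore p ↥(Subgroup.normalizer ((Subgroup.zpowers a : Subgroup G) : Set G))) :
    ∃ L : Subgroup G, (Nat.card L).Coprime p ∧ E ≤ Subgroup.normalizer (L : Set G) ∧
      ∀ T : Subgroup G, IsPGroup q T → E ≤ Subgroup.normalizer (T : Set G) →
        T ≤ Subgroup.centralizer ({a} : Set G) → T ≤ L := by
  obtain ⟨N, hN⟩ : ∃ N : Subgroup G,
    N = Subgroup.normalizer ((Subgroup.zpowers a : Subgroup G) : Set G) := ⟨_, rfl⟩
  rw [← hN] at hkl
  have hCN : Subgroup.centralizer ({a} : Set G) ≤ N := by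
    rw [hN]
    intro x hx
    have hxa : a * x = x * a := Subgroup.mem_centralizer_iff.1 hx a (Set.mem_singleton a)
    have hxc : x ∈ Subgroup.centralizer ((Subgroup.zpowers a : Subgroup G) : Set G) := by
      rw [Subgroup.mem_centralizer_iff]
      intro y hy
      obtain ⟨n, rfl⟩ := Subgroup.mem_zpowers_iff.1 hy
      exact ((Commute.zpow_left (show Commute a x from hxa) n)).eq
    exact Subgroup.centralizer_le_normalizer _ hxc
  have hECa : E ≤ Subgroup.centralizer ({a} : Set G) := by
    intro x hx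
    rw [Subgroup.mem_centralizer_iff]
    intro y hy
    rw [Set.mem_singleton_iff] at hy
    subst hy
    have h0 := hEc.is_comm.comm ⟨y, haE⟩ ⟨x, hx⟩
    exact congrArg Subtype.val h0
  have hEN : E ≤ N := hECa.trans hCN
  haveI hOn : (Cfsg.pPrimeCore p ↥N).Normal := Cfsg.Agent.helper1.pPrimeCore_normal p
  refine ⟨(Cfsg.pPrimeCore p ↥N).map N.subtype, ?_, ?_, ?_⟩
  · rw [Subgroup.card_map_of_injective N.subtype_injective]
    exact Cfsg.Agent.helper1.pPrimeCore_coprime p
  · have h := Subgroup.le_normalizer_map (H := Cfsg.pPrimeCore p ↥N) N.subtype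
    rw [Subgroup.normalizer_eq_top (Cfsg.pPrimeCore p ↥N), ← MonoidHom.range_eq_map,
      Subgroup.range_subtype] at h
    exact hEN.trans h
  · intro T hTq hET hTC
    have hTN : T ≤ N := hTC.trans hCN
    have hcard : (Nat.card (T.subgroupOf N)).Coprime p := by
      rw [Nat.card_congr (Subgroup.subgroupOfEquivOfLe hTN).toEquiv]
      exact coprime_card_of_isPGroup hqp T hTq
    have h1 := hkl (T.subgroupOf N) hcard (normalizer_subgroupOf_of_le E T N hET)
    intro t ht
    exact ⟨⟨t, hTN ht⟩, h1 (by rw [Subgroup.mem_subgroupOf]; exact ht), rfl⟩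

end Cfsg.Agent.helper15.TT
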