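import Mathlib

set_option autoImplicit false
set_option linter.style.haveILetI false
set_option linter.unusedSectionVars false

/-! Class two Sylow subgroups: elementwise form for `p`-subgroups of subgroups. -/

namespace Cfsg.Agent.helper15.TT

open scoped commutatorElement

universe u

variable {G : Type u} [Group G] [Finite G]

theorem class_two_elts {p : ℕ} [hp : Fact p.Prime]
    (h : ∀ S : Sylow p G, Group.IsNilpotent (S : Subgroup G) ∧
      Group.nilpotencyClass (S : Subgroup G) ≤ 2)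
    (T : Subgroup G) (hT : IsPGroup p T) :
    ∀ x ∈ T, ∀ y ∈ T, ∀ z ∈ T, ⁅⁅x, y⁆, z⁆ = 1 := by
  obtain ⟨S, hTS⟩ := hT.exists_le_sylow
  obtain ⟨hnil, hcl⟩ := h S
  haveI := hnil
  have hlcs : (⊤ : Subgroup ↥(S : Subgroup G)).lowerCentralSeries 2 = ⊥ :=
    _root_.lowerCentralSeries_eq_bot_iff_nilpotencyClass_le.mpr hcl
  intro x hx y hy z hz
  obtain ⟨x', hx'⟩ : ∃ x' : ↥(S : Subgroup G), (x' : G) = x := ⟨⟨x, hTS hx⟩, rfl⟩
  obtain ⟨y', hy'⟩ : ∃ y' : ↥(S : Subgroup G), (y' : G) = y := ⟨⟨y, hTS hy⟩, rfl⟩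
  obtain ⟨z', hz'⟩ : ∃ z' : ↥(S : Subgroup G), (z' : G) = z := ⟨⟨z, hTS hz⟩, rfl⟩
  have h1 : ⁅⁅x', y'⁆, z'⁆ ∈ (⊤ : Subgroup ↥(S : Subgroup G)).lowerCentralSeries 2 := by
    rw [Subgroup.lowerCentralSeries_succ]
    apply Subgroup.commutator_mem_commutator _ (Subgroup.mem_top _)
    rw [Subgroup.top_lowerCentralSeries_one, _root_.commutator_def]
    exact Subgroup.commutator_mem_commutator (Subgroup.mem_top _) (Subgroup.mem_top _)
  rw [hlcs, Subgroup.mem_bot] at h1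
  have h2 := congrArg Subtype.val h1
  rw [← hx', ← hy', ← hz']
  simpa [commutatorElement_def] using h2

/-- The same inside a subgroup `N`. -/
theorem class_two_elts_sub {p : ℕ} [hp : Fact p.Prime]
    (h : ∀ S : Sylow p G, Group.IsNilpotent (S : Subgroup G) ∧
      Group.nilpotencyClass (S : Subgroup G) ≤ 2)
    (N : Subgroup G) (P : Sylow p ↥N) :
    ∀ x ∈ P, ∀ y ∈ P, ∀ z ∈ P, ⁅⁅x, y⁆, z⁆ = 1 := by
  intro x hx y hy z hz
  have hT : IsPGroup p ((P : Subgroup ↥N).map N.subtype) := P.isPGroup'.map N.subtype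
  have h1 := class_two_elts h _ hT (x : G) (Subgroup.mem_map_of_mem _ hx) (y : G)
    (Subgroup.mem_map_of_mem _ hy) (z : G) (Subgroup.mem_map_of_mem _ hz)
  apply Subtype.ext
  simpa [commutatorElement_def] using h1

end Cfsg.Agent.helper15.TT
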