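import Mathlib
import Cfsg.Agent.Lib_helper23_Thompson

/-! Thompson's reduction with two functors, threading a property of groups inherited by
subgroups and quotients (helper15; adapted from helper23's `thompson_two`). -/

set_option autoImplicit false

namespace Cfsg.Agent.helper15.ThA

open Cfsg.Agent.helper10 Cfsg.Agent.lead Cfsg.Agent.helper23

universe u

variable {p : ℕ} [hp : Fact p.Prime] {W₁ W₂ : ∀ (Q : Type u) [Group Q], Subgroup Q}

theorem thompson_two_inv (Pr : ∀ (X : Type u) [Group X], Prop)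
    (hPsub : ∀ (X : Type u) [Group X] (H : Subgroup X), Pr X → Pr ↥H)
    (hPquot : ∀ (X : Type u) [Group X] (N : Subgroup X) [N.Normal], Pr X → Pr (X ⧸ N))
    (hW₁ : Cfsg.IsCharPFunctor.{u} p W₁) (hW₂ : Cfsg.IsCharPFunctor.{u} p W₂)
    (final : ∀ (X : Type u) [Group X] [Finite X] (S : Sylow p X), Pr X → Constrained p X →
      Cfsg.pPrimeCore p X = ⊥ → Cfsg.HasNormalPComplement p (X ⧸ Cfsg.pCore p X) →
      IsCoatom (S : Subgroup X) → HypNC p W₁ W₂ X (S : Subgroup X) →
      Cfsg.HasNormalPComplement p X) :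
    ∀ (n : ℕ) (X : Type u) [Group X] [Finite X], Nat.card X = n → Pr X →
      ∀ S : Sylow p X, HypNC p W₁ W₂ X (S : Subgroup X) → Cfsg.HasNormalPComplement p X := by
  intro n
  induction n using Nat.strong_induction_on with
  | _ n IH =>
    intro X _ _ hn hPX S hN
    have IHsub : ∀ H : Subgroup X, H ≠ ⊤ → ∀ S₁ : Sylow p H,
        HypNC p W₁ W₂ H (S₁ : Subgroup H) → Cfsg.HasNormalPComplement p H := by
      intro H hH
      have hlt : Nat.card H < n := by
        rw [← hn]
        have h1 : H < ⊤ := lt_top_iff_ne_top.2 hH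
        have h2 := card_lt_card_of_lt h1
        rwa [Subgroup.card_top] at h2
      exact IH _ hlt H rfl (hPsub X H hPX)
    have IHquot : ∀ (N : Subgroup X) [N.Normal], N ≠ ⊥ → ∀ S' : Sylow p (X ⧸ N),
        HypNC p W₁ W₂ (X ⧸ N) (S' : Subgroup (X ⧸ N)) →
        Cfsg.HasNormalPComplement p (X ⧸ N) := by
      intro N _ hN1
      have hlt : Nat.card (X ⧸ N) < n := by
        rw [← hn, ← Subgroup.index_eq_card, ← Subgroup.card_mul_index N]
        have h1 : 1 < Nat.card N := by
          rw [Subgroup.one_lt_card_iff_ne_bot]; exact hN1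
        have h2 : 0 < N.index := Nat.pos_of_ne_zero Subgroup.index_ne_zero_of_finite
        nlinarith
      exact IH _ hlt (X ⧸ N) rfl (hPquot X N hPX)
    by_contra hnot
    obtain ⟨H, hHp, hH1, hHbad, hM1, hM2⟩ := exists_extremal_bad hnot
    have htop := normalizer_eq_top_of_extremal2 hW₁ hW₂ S hN IHsub H hHp hH1 hHbad hM1
    have hHP := eq_pCore_of_extremal hnot H hHp htop hM2
    subst hHP
    have hM2' : ∀ U : Subgroup X, IsPGroup p U →
        (S : Subgroup X) ≤ Subgroup.normalizer (U : Set X) →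
        Nat.card (Cfsg.pCore p X) < Nat.card U →
        Cfsg.HasNormalPComplement p ↥(Subgroup.normalizer (U : Set X)) := by
      intro U hUp hSU hlt
      apply hM2 U hUp _ hlt
      have h1 : Nat.card (S : Subgroup X) ∣ Nat.card ↥(Subgroup.normalizer (U : Set X)) :=
        Subgroup.card_dvd_of_le hSU
      rw [htop, Subgroup.card_top, ← Sylow.card_eq_multiplicity S]
      exact h1
    have hquot := npc_quotient_pCore2 hW₁ hW₂ S IHquot hH1 hM2'
    have hD := pPrimeCore_eq_bot_of_minimal2 hW₁ hW₂ S hN hnot IHquot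
    have hcon := constrained_of_quotient_npc hD hquot
    have hprop := npc_of_sylow_le_of_ne_top2 hW₁ hW₂ S hN IHsub
    have hcoatom := sylow_isCoatom_of_constrained S hcon hnot hprop
    exact hnot (final X S hPX hcon hD hquot hcoatom hN)

end Cfsg.Agent.helper15.ThA
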