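import Mathlib
import Cfsg.Agent.Lib_helper3_EA

/-! Quadratic action on an abelian normalized subgroup: basic computations (helper3). -/

set_option autoImplicit false

namespace Cfsg.Agent.helper3

open Cfsg
open scoped commutatorElement

/-- `[v, a] ∈ V` when `a` normalizes `V`. -/
theorem comm_mem_of_normalizer {G : Type*} [Group G] {V : Subgroup G} {v a : G} (hv : v ∈ V)
    (ha : a ∈ Subgroup.normalizer (V : Set G)) : ⁅v, a⁆ ∈ V := by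
  rw [commutatorElement_def]
  have h1 : a * v⁻¹ * a⁻¹ ∈ V := (Subgroup.mem_normalizer_iff.mp ha v⁻¹).mp (V.inv_mem hv)
  have h2 : v * a * v⁻¹ * a⁻¹ = v * (a * v⁻¹ * a⁻¹) := by group
  rw [h2]
  exact V.mul_mem hv h1

/-- In a quadratic action `[V,H,H] = 1`, commutators `[v,a]` commute with `H`. -/
theorem quad_commute {G : Type*} [Group G] {V H : Subgroup G} (hq : ⁅⁅V, H⁆, H⁆ = ⊥)
    {v a b : G} (hv : v ∈ V) (ha : a ∈ H) (hb : b ∈ H) : Commute b ⁅v, a⁆ := by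
  have h1 : ⁅⁅v, a⁆, b⁆ ∈ ⁅⁅V, H⁆, H⁆ :=
    Subgroup.commutator_mem_commutator (Subgroup.commutator_mem_commutator hv ha) hb
  rw [hq, Subgroup.mem_bot, commutatorElement_eq_one_iff_mul_comm] at h1
  exact h1.symm

/-- conjugation by `a` moves `v` to `v * [v⁻¹, a]`. -/
theorem semiconj_comm {G : Type*} [Group G] (v a : G) : SemiconjBy a v (v * ⁅v⁻¹, a⁆) := by
  unfold SemiconjBy
  rw [commutatorElement_def]
  group

/-- In a quadratic action of `H` on an abelian `V` with `H ≤ N(V)`: `a^n v a^-n = v [v⁻¹,a]^n`. -/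
theorem quad_pow {G : Type*} [Group G] {V H : Subgroup G} (hq : ⁅⁅V, H⁆, H⁆ = ⊥)
    {v a : G} (hv : v ∈ V) (ha : a ∈ H) (n : ℕ) : SemiconjBy (a ^ n) v (v * ⁅v⁻¹, a⁆ ^ n) := by
  induction n with
  | zero => simp
  | succ n ih =>
    rw [pow_succ' a n, pow_succ' ⁅v⁻¹, a⁆ n, ← mul_assoc]
    refine SemiconjBy.mul_left ?_ ih
    refine SemiconjBy.mul_right (semiconj_comm v a) ?_
    exact ((quad_commute hq (V.inv_mem hv) ha ha).pow_right n)

/-- In a quadratic action on an elementary abelian `V`, `p`-th powers centralize `V`. -/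
theorem quad_pow_p {G : Type*} [Group G] {p : ℕ} {V H : Subgroup G}
    (hV : Cfsg.IsElementaryAbelian p V) (hHV : H ≤ Subgroup.normalizer (V : Set G))
    (hq : ⁅⁅V, H⁆, H⁆ = ⊥) {a : G} (ha : a ∈ H) : a ^ p ∈ Subgroup.centralizer (V : Set G) := by
  rw [Subgroup.mem_centralizer_iff]
  intro v hv
  have h1 := quad_pow hq hv ha p
  have h2 : ⁅v⁻¹, a⁆ ∈ V := comm_mem_of_normalizer (V.inv_mem hv) (hHV ha)
  rw [hV.2 _ h2, mul_one] at h1
  exact h1.eq.symm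

/-- In a quadratic action on an abelian `V`, `a b` and `b a` act the same way on `V`. -/
theorem quad_mul {G : Type*} [Group G] {p : ℕ} {V H : Subgroup G}
    (hV : Cfsg.IsElementaryAbelian p V) (hHV : H ≤ Subgroup.normalizer (V : Set G))
    (hq : ⁅⁅V, H⁆, H⁆ = ⊥) {a b v : G} (ha : a ∈ H) (hb : b ∈ H) (hv : v ∈ V) :
    SemiconjBy (a * b) v (v * ⁅v⁻¹, a⁆ * ⁅v⁻¹, b⁆) := by
  refine SemiconjBy.mul_left (y := v * ⁅v⁻¹, b⁆) ?_ (semiconj_comm v b)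
  refine SemiconjBy.mul_right (semiconj_comm v a) ?_
  exact quad_commute hq (V.inv_mem hv) hb ha

theorem quad_comm_mem {G : Type*} [Group G] {p : ℕ} {V H : Subgroup G}
    (hV : Cfsg.IsElementaryAbelian p V) (hHV : H ≤ Subgroup.normalizer (V : Set G))
    (hq : ⁅⁅V, H⁆, H⁆ = ⊥) {a b : G} (ha : a ∈ H) (hb : b ∈ H) :
    ⁅a, b⁆ ∈ Subgroup.centralizer (V : Set G) := by
  rw [Subgroup.mem_centralizer_iff]
  intro v hv
  have h1 := quad_mul hV hHV hq (H.inv_mem ha) (H.inv_mem hb) hv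
  have h2 := quad_mul hV hHV hq (H.inv_mem hb) (H.inv_mem ha) hv
  have hwa : ⁅v⁻¹, a⁻¹⁆ ∈ V := comm_mem_of_normalizer (V.inv_mem hv) (hHV (H.inv_mem ha))
  have hwb : ⁅v⁻¹, b⁻¹⁆ ∈ V := comm_mem_of_normalizer (V.inv_mem hv) (hHV (H.inv_mem hb))
  have h3 : v * ⁅v⁻¹, b⁻¹⁆ * ⁅v⁻¹, a⁻¹⁆ = v * ⁅v⁻¹, a⁻¹⁆ * ⁅v⁻¹, b⁻¹⁆ := by
    rw [mul_assoc, mul_assoc, ea_comm hV hwb hwa]
  rw [h3] at h2
  have h4 : SemiconjBy ((b⁻¹ * a⁻¹)⁻¹ * (a⁻¹ * b⁻¹)) v v := h2.inv_symm_left.mul_left h1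
  have h5 : (b⁻¹ * a⁻¹)⁻¹ * (a⁻¹ * b⁻¹) = ⁅a, b⁆ := by
    rw [commutatorElement_def]; group
  rw [h5] at h4
  exact h4.eq.symm

end Cfsg.Agent.helper3
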