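import Mathlib
import Cfsg.Agent.Lib_helper3_EA
import Cfsg.Agent.Lib_helper3_Quad
import Cfsg.Agent.Lib_helper3_PLocal

/-! Timmesfeld replacement: counting core (helper3). -/

set_option autoImplicit false

namespace Cfsg.Agent.helper3

open Cfsg
open scoped commutatorElement

variable {G : Type*} [Group G]

/-- `C_V(B)` -/
def cv (V B : Subgroup G) : Subgroup G := V ⊓ Subgroup.centralizer (B : Set G)

/-- the product `|B| |C_V(B)|` -/
noncomputable def om (V B : Subgroup G) : ℕ := Nat.card B * Nat.card (cv V B)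

/-- the commutators `[u,a]`, `u ∈ T`, `a ∈ A` -/
def gensT (A : Subgroup G) (T : Set G) : Set G := {g | ∃ u ∈ T, ∃ a ∈ A, ⁅u, a⁆ = g}

/-- `C_A([T,A])` -/
def bT (A : Subgroup G) (T : Set G) : Subgroup G := A ⊓ Subgroup.centralizer (gensT A T)

/-- `[T,A]` -/
def wT (A : Subgroup G) (T : Set G) : Subgroup G := Subgroup.closure (gensT A T)

theorem card_mul_relIndex_of_le'' {H K : Subgroup G} (h : H ≤ K) :
    Nat.card H * H.relIndex K = Nat.card K := by
  have := Subgroup.relIndex_mul_relIndex (⊥ : Subgroup G) H K bot_le h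
  rwa [Subgroup.relIndex_bot_left, Subgroup.relIndex_bot_left] at this

/-- `|H| |K| ≤ |H ⊔ K| |H ⊓ K|` for subgroups of a finite group. -/
theorem card_mul_card_le_sup_inf [Finite G] (H K : Subgroup G) :
    Nat.card H * Nat.card K ≤ Nat.card (H ⊔ K : Subgroup G) * Nat.card (H ⊓ K : Subgroup G) := by
  have h1 : K.relIndex H ≤ K.relIndex (H ⊔ K) :=
    Subgroup.relIndex_le_of_le_right le_sup_left
      (fun h0 => by
        have h4 := card_mul_relIndex_of_le'' (le_sup_right : K ≤ H ⊔ K)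
        rw [h0, mul_zero] at h4
        exact Nat.card_pos.ne' h4.symm)
  have h2 : (H ⊓ K).relIndex H = K.relIndex H := Subgroup.inf_relIndex_left H K
  have h3 : (H ⊓ K).relIndex H * Nat.card (H ⊓ K : Subgroup G) = Nat.card H := by
    rw [mul_comm]
    exact card_mul_relIndex_of_le'' inf_le_left
  have h4 : K.relIndex (H ⊔ K) * Nat.card K = Nat.card (H ⊔ K : Subgroup G) := by
    rw [mul_comm]
    exact card_mul_relIndex_of_le'' le_sup_right
  calc Nat.card H * Nat.card K = (H ⊓ K).relIndex H * Nat.card (H ⊓ K : Subgroup G) * Nat.card K := by rw [h3]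
    _ = K.relIndex H * Nat.card K * Nat.card (H ⊓ K : Subgroup G) := by rw [h2]; ring
    _ ≤ K.relIndex (H ⊔ K) * Nat.card K * Nat.card (H ⊓ K : Subgroup G) :=
        Nat.mul_le_mul_right _ (Nat.mul_le_mul_right _ h1)
    _ = Nat.card (H ⊔ K : Subgroup G) * Nat.card (H ⊓ K : Subgroup G) := by rw [h4]

/-- index comparison from a map which is injective modulo the subgroups -/
theorem index_le_index_of_map {X Y : Type*} [Group X] [Group Y] [Finite Y] (B : Subgroup X)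
    (C : Subgroup Y) (f : X → Y) (h : ∀ a a', (f a)⁻¹ * f a' ∈ C → a⁻¹ * a' ∈ B) :
    B.index ≤ C.index := by
  unfold Subgroup.index
  apply Nat.card_le_card_of_injective (fun q : X ⧸ B => (QuotientGroup.mk (f q.out) : Y ⧸ C))
  intro q q' hqq
  have h1 : (f q.out)⁻¹ * f q'.out ∈ C := QuotientGroup.eq.mp hqq
  have h2 := h _ _ h1
  have h3 : (QuotientGroup.mk q.out : X ⧸ B) = QuotientGroup.mk q'.out := QuotientGroup.eq.mpr h2
  rwa [QuotientGroup.out_eq', QuotientGroup.out_eq'] at h3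

theorem conj_mem_of_normalizer {V : Subgroup G} {a v : G} (ha : a ∈ Subgroup.normalizer (V : Set G))
    (hv : v ∈ V) : a * v * a⁻¹ ∈ V := (Subgroup.mem_normalizer_iff.mp ha v).mp hv

/-- `A` acts as an abelian group on `V`. -/
theorem conj_comm_on {V A : Subgroup G} (hVn : A ≤ Subgroup.normalizer (V : Set G))
    (hab : ⁅A, A⁆ ≤ Subgroup.centralizer (V : Set G)) {a b v : G} (ha : a ∈ A) (hb : b ∈ A)
    (hv : v ∈ V) : a * b * v * (a * b)⁻¹ = b * a * v * (b * a)⁻¹ := by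
  have hc : ⁅a, b⁆ ∈ Subgroup.centralizer (V : Set G) :=
    hab (Subgroup.commutator_mem_commutator ha hb)
  have hx : b * a * v * (b * a)⁻¹ ∈ V := conj_mem_of_normalizer (hVn (A.mul_mem hb ha)) hv
  have h1 : b * a * v * (b * a)⁻¹ * ⁅a, b⁆ = ⁅a, b⁆ * (b * a * v * (b * a)⁻¹) :=
    Subgroup.mem_centralizer_iff.mp hc _ hx
  have h2 : a * b * v * (a * b)⁻¹ = ⁅a, b⁆ * (b * a * v * (b * a)⁻¹) * ⁅a, b⁆⁻¹ := by
    rw [commutatorElement_def]; group
  rw [h2, ← h1]; group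

/-- if `a` centralizes `[u,b]` then `b` centralizes `[u,a]` -/
theorem comm_swap {p : ℕ} {V A : Subgroup G} (hV : Cfsg.IsElementaryAbelian p V)
    (hVn : A ≤ Subgroup.normalizer (V : Set G))
    (hab : ⁅A, A⁆ ≤ Subgroup.centralizer (V : Set G)) {a b u : G} (ha : a ∈ A) (hb : b ∈ A)
    (hu : u ∈ V) (h : a * ⁅u, b⁆ = ⁅u, b⁆ * a) : b * ⁅u, a⁆ = ⁅u, a⁆ * b := by
  have hz' : b * a * u * (b * a)⁻¹ = a * b * u * (a * b)⁻¹ := (conj_comm_on hVn hab ha hb hu).symm
  have hqV : a * u * a⁻¹ ∈ V := conj_mem_of_normalizer (hVn ha) hu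
  have hrV : b * u * b⁻¹ ∈ V := conj_mem_of_normalizer (hVn hb) hu
  have hzV : a * b * u * (a * b)⁻¹ ∈ V := conj_mem_of_normalizer (hVn (A.mul_mem ha hb)) hu
  have h1 : (a * u * a⁻¹) * (a * b * u * (a * b)⁻¹)⁻¹ = u * (b * u * b⁻¹)⁻¹ := by
    have e1 : (a * u * a⁻¹) * (a * b * u * (a * b)⁻¹)⁻¹ = a * ⁅u, b⁆ * a⁻¹ := by
      rw [commutatorElement_def]; group
    have e2 : u * (b * u * b⁻¹)⁻¹ = ⁅u, b⁆ := by rw [commutatorElement_def]; group
    rw [e1, h, e2]; group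
  have h2 : (b * u * b⁻¹) * (a * b * u * (a * b)⁻¹)⁻¹ = u * (a * u * a⁻¹)⁻¹ := by
    calc (b * u * b⁻¹) * (a * b * u * (a * b)⁻¹)⁻¹
        = (a * b * u * (a * b)⁻¹)⁻¹ * (b * u * b⁻¹) := ea_comm hV hrV (V.inv_mem hzV)
      _ = ((a * b * u * (a * b)⁻¹)⁻¹ * (b * u * b⁻¹)) * (a * u * a⁻¹) * (a * u * a⁻¹)⁻¹ := by group
      _ = (a * u * a⁻¹) * ((a * b * u * (a * b)⁻¹)⁻¹ * (b * u * b⁻¹)) * (a * u * a⁻¹)⁻¹ := by
          rw [ea_comm hV (V.mul_mem (V.inv_mem hzV) hrV) hqV]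
      _ = ((a * u * a⁻¹) * (a * b * u * (a * b)⁻¹)⁻¹) * (b * u * b⁻¹) * (a * u * a⁻¹)⁻¹ := by group
      _ = (u * (b * u * b⁻¹)⁻¹) * (b * u * b⁻¹) * (a * u * a⁻¹)⁻¹ := by rw [h1]
      _ = u * (a * u * a⁻¹)⁻¹ := by group
  have e3 : b * ⁅u, a⁆ * b⁻¹ = (b * u * b⁻¹) * (a * b * u * (a * b)⁻¹)⁻¹ := by
    rw [← hz', commutatorElement_def]; group
  have e4 : u * (a * u * a⁻¹)⁻¹ = ⁅u, a⁆ := by rw [commutatorElement_def]; group
  have h5 : b * ⁅u, a⁆ * b⁻¹ = ⁅u, a⁆ := by rw [e3, h2, e4]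
  calc b * ⁅u, a⁆ = (b * ⁅u, a⁆ * b⁻¹) * b := by group
    _ = ⁅u, a⁆ * b := by rw [h5]

theorem mem_centralizer_gens_of {p : ℕ} {V A : Subgroup G} (hV : Cfsg.IsElementaryAbelian p V)
    (hVn : A ≤ Subgroup.normalizer (V : Set G))
    (hab : ⁅A, A⁆ ≤ Subgroup.centralizer (V : Set G)) {b u : G} (hb : b ∈ A)
    (hu : u ∈ V) (h : ⁅u, b⁆ ∈ Subgroup.centralizer (A : Set G)) :
    b ∈ Subgroup.centralizer (gensT A {u}) := by
  rw [Subgroup.mem_centralizer_iff]
  rintro t ⟨u', hu', a, ha, rfl⟩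
  rw [Set.mem_singleton_iff] at hu'
  subst hu'
  have h1 : a * ⁅u', b⁆ = ⁅u', b⁆ * a := Subgroup.mem_centralizer_iff.mp h a ha
  exact (comm_swap hV hVn hab ha hb hu h1).symm

theorem conj_inv_mem_centralizer {A : Subgroup G} {a x : G} (ha : a ∈ A)
    (hx : x ∈ Subgroup.centralizer (A : Set G)) : a⁻¹ * x * a ∈ Subgroup.centralizer (A : Set G) := by
  rw [Subgroup.mem_centralizer_iff] at hx ⊢
  intro h hh
  have h1 : a * h * a⁻¹ * x = x * (a * h * a⁻¹) :=
    hx _ (A.mul_mem (A.mul_mem ha hh) (A.inv_mem ha))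
  calc h * (a⁻¹ * x * a) = a⁻¹ * (a * h * a⁻¹ * x) * a := by group
    _ = a⁻¹ * (x * (a * h * a⁻¹)) * a := by rw [h1]
    _ = a⁻¹ * x * a * h := by group

/-- The case of a single element `u` of the replacement theorem. -/
theorem single_case [Finite G] {p : ℕ} {V A : Subgroup G} (hV : Cfsg.IsElementaryAbelian p V)
    (hVn : A ≤ Subgroup.normalizer (V : Set G))
    (hab : ⁅A, A⁆ ≤ Subgroup.centralizer (V : Set G))
    (hbest : ∀ B : Subgroup G, B ≤ A → om V B ≤ om V A) {u : G} (hu : u ∈ V) :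
    om V (bT A {u}) = om V A ∧ cv V (bT A {u}) = wT A {u} ⊔ cv V A := by
  have hBA : bT A {u} ≤ A := inf_le_left
  have hgV : ∀ a ∈ A, ⁅u, a⁆ ∈ V := fun a ha => comm_mem_of_normalizer hu (hVn ha)
  have hWV : wT A {u} ≤ V := by
    unfold wT
    rw [Subgroup.closure_le]
    rintro t ⟨u', hu', a, ha, rfl⟩
    rw [Set.mem_singleton_iff] at hu'
    subst hu'
    exact hgV a ha
  have hWC : wT A {u} ≤ Subgroup.centralizer (bT A {u} : Set G) := by
    rw [Subgroup.le_centralizer_iff]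
    unfold wT bT
    rw [Subgroup.centralizer_closure]
    exact inf_le_right
  have hYle : wT A {u} ⊔ cv V A ≤ cv V (bT A {u}) := by
    apply sup_le
    · exact le_inf hWV hWC
    · exact inf_le_inf_left V (Subgroup.centralizer_le hBA)
  have hgW : ∀ a ∈ A, ⁅u, a⁆ ∈ wT A {u} ⊔ cv V A := fun a ha =>
    (le_sup_left : wT A {u} ≤ wT A {u} ⊔ cv V A) (Subgroup.subset_closure ⟨u, rfl, a, ha, rfl⟩)
  have hidx : (bT A {u}).relIndex A ≤ (cv V A).relIndex (wT A {u} ⊔ cv V A) := by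
    apply index_le_index_of_map ((bT A {u}).subgroupOf A) ((cv V A).subgroupOf (wT A {u} ⊔ cv V A))
      (fun a : A => (⟨⁅u, (a : G)⁆, hgW a a.2⟩ : ↥(wT A {u} ⊔ cv V A)))
    intro a a' haa
    rw [Subgroup.mem_subgroupOf] at haa ⊢
    have h1 : ⁅u, (a : G)⁆⁻¹ * ⁅u, (a' : G)⁆ ∈ cv V A := haa
    have h2 : ⁅u, (a : G)⁻¹ * (a' : G)⁆ = (a : G)⁻¹ * (⁅u, (a : G)⁆⁻¹ * ⁅u, (a' : G)⁆) * (a : G) := by
      rw [commutatorElement_def, commutatorElement_def, commutatorElement_def]; group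
    have h3 : ⁅u, (a : G)⁻¹ * (a' : G)⁆ ∈ Subgroup.centralizer (A : Set G) := by
      rw [h2]
      exact conj_inv_mem_centralizer a.2 h1.2
    have h4 : (a : G)⁻¹ * (a' : G) ∈ A := A.mul_mem (A.inv_mem a.2) a'.2
    exact ⟨h4, mem_centralizer_gens_of hV hVn hab h4 hu h3⟩
  have hA := card_mul_relIndex_of_le'' hBA
  have hY := card_mul_relIndex_of_le'' (le_sup_right : cv V A ≤ wT A {u} ⊔ cv V A)
  have hYc : Nat.card (wT A {u} ⊔ cv V A : Subgroup G) ≤ Nat.card (cv V (bT A {u})) :=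
    Subgroup.card_le_of_le hYle
  have c1 : Nat.card A * Nat.card (cv V A) ≤
      Nat.card (bT A {u}) * Nat.card (wT A {u} ⊔ cv V A : Subgroup G) := by
    calc Nat.card A * Nat.card (cv V A)
        = Nat.card (bT A {u}) * (bT A {u}).relIndex A * Nat.card (cv V A) := by rw [hA]
      _ ≤ Nat.card (bT A {u}) * (cv V A).relIndex (wT A {u} ⊔ cv V A) * Nat.card (cv V A) :=
          Nat.mul_le_mul_right _ (Nat.mul_le_mul_left _ hidx)
      _ = Nat.card (bT A {u}) * (Nat.card (cv V A) * (cv V A).relIndex (wT A {u} ⊔ cv V A)) := by ring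
      _ = Nat.card (bT A {u}) * Nat.card (wT A {u} ⊔ cv V A : Subgroup G) := by rw [hY]
  have c2 : Nat.card (bT A {u}) * Nat.card (wT A {u} ⊔ cv V A : Subgroup G) ≤
      Nat.card (bT A {u}) * Nat.card (cv V (bT A {u})) := Nat.mul_le_mul_left _ hYc
  have c3 : Nat.card (bT A {u}) * Nat.card (cv V (bT A {u})) ≤ Nat.card A * Nat.card (cv V A) :=
    hbest _ hBA
  refine ⟨le_antisymm c3 (c1.trans c2), ?_⟩
  have c4 : Nat.card (bT A {u}) * Nat.card (cv V (bT A {u})) =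
      Nat.card (bT A {u}) * Nat.card (wT A {u} ⊔ cv V A : Subgroup G) :=
    le_antisymm (c3.trans c1) c2
  have c5 : Nat.card (cv V (bT A {u})) = Nat.card (wT A {u} ⊔ cv V A : Subgroup G) :=
    Nat.eq_of_mul_eq_mul_left Nat.card_pos c4
  exact (Subgroup.eq_of_le_of_card_ge hYle c5.le).symm

theorem cv_sup_le (V B₁ B₂ : Subgroup G) : cv V B₁ ⊓ cv V B₂ ≤ cv V (B₁ ⊔ B₂) := by
  intro x hx
  refine ⟨hx.1.1, ?_⟩
  have h1 : B₁ ≤ Subgroup.centralizer (Subgroup.zpowers x : Set G) := by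
    rw [Subgroup.le_centralizer_iff, Subgroup.zpowers_le]; exact hx.1.2
  have h2 : B₂ ≤ Subgroup.centralizer (Subgroup.zpowers x : Set G) := by
    rw [Subgroup.le_centralizer_iff, Subgroup.zpowers_le]; exact hx.2.2
  have h3 : B₁ ⊔ B₂ ≤ Subgroup.centralizer (Subgroup.zpowers x : Set G) := sup_le h1 h2
  rw [Subgroup.le_centralizer_iff, Subgroup.zpowers_le] at h3
  exact h3

/-- Intersections of subgroups attaining the maximal product again attain it. -/
theorem inter_case [Finite G] {V A B₁ B₂ : Subgroup G}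
    (hbest : ∀ B : Subgroup G, B ≤ A → om V B ≤ om V A) (h1 : B₁ ≤ A) (h2 : B₂ ≤ A)
    (e1 : om V B₁ = om V A) (e2 : om V B₂ = om V A) :
    om V (B₁ ⊓ B₂) = om V A ∧ cv V (B₁ ⊓ B₂) = cv V B₁ ⊔ cv V B₂ := by
  have hle : cv V B₁ ⊔ cv V B₂ ≤ cv V (B₁ ⊓ B₂) :=
    sup_le (inf_le_inf_left V (Subgroup.centralizer_le (inf_le_left : B₁ ⊓ B₂ ≤ B₁)))
      (inf_le_inf_left V (Subgroup.centralizer_le (inf_le_right : B₁ ⊓ B₂ ≤ B₂)))
  have hM : 0 < om V A := Nat.mul_pos Nat.card_pos Nat.card_pos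
  have k1 := card_mul_card_le_sup_inf B₁ B₂
  have k2 := card_mul_card_le_sup_inf (cv V B₁) (cv V B₂)
  have k3 : Nat.card (cv V B₁ ⊓ cv V B₂ : Subgroup G) ≤ Nat.card (cv V (B₁ ⊔ B₂)) :=
    Subgroup.card_le_of_le (cv_sup_le V B₁ B₂)
  have k4 : om V (B₁ ⊔ B₂) ≤ om V A := hbest _ (sup_le h1 h2)
  have k5 : Nat.card (cv V B₁ ⊔ cv V B₂ : Subgroup G) ≤ Nat.card (cv V (B₁ ⊓ B₂)) :=
    Subgroup.card_le_of_le hle
  have k6 : om V (B₁ ⊓ B₂) ≤ om V A := hbest _ (le_trans inf_le_left h1)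
  unfold om at *
  -- abbreviations
  set n1 := Nat.card B₁
  set n2 := Nat.card B₂
  set x := Nat.card (cv V B₁)
  set y := Nat.card (cv V B₂)
  set s := Nat.card (B₁ ⊔ B₂ : Subgroup G)
  set i := Nat.card (B₁ ⊓ B₂ : Subgroup G)
  set xs := Nat.card (cv V B₁ ⊔ cv V B₂ : Subgroup G)
  set xi := Nat.card (cv V B₁ ⊓ cv V B₂ : Subgroup G)
  set c := Nat.card (cv V (B₁ ⊓ B₂))
  set d := Nat.card (cv V (B₁ ⊔ B₂))
  set M := Nat.card A * Nat.card (cv V A)
  have hi : 0 < i := Nat.card_pos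
  have t1 : M * M ≤ M * (i * xs) := by
    calc M * M = (n1 * x) * (n2 * y) := by rw [e1, e2]
      _ = (n1 * n2) * (x * y) := by ring
      _ ≤ (s * i) * (xs * xi) := Nat.mul_le_mul k1 k2
      _ ≤ (s * i) * (xs * d) := Nat.mul_le_mul_left _ (Nat.mul_le_mul_left _ k3)
      _ = (s * d) * (i * xs) := by ring
      _ ≤ M * (i * xs) := Nat.mul_le_mul_right _ k4
  have t2 : M ≤ i * xs := Nat.le_of_mul_le_mul_left t1 hM
  have t3 : i * xs ≤ i * c := Nat.mul_le_mul_left _ k5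
  have t4 : i * c = M := le_antisymm k6 (t2.trans t3)
  refine ⟨t4, ?_⟩
  have t5 : i * xs = i * c := le_antisymm t3 (t4 ▸ t2)
  have t6 : xs = c := Nat.eq_of_mul_eq_mul_left hi t5
  exact (Subgroup.eq_of_le_of_card_ge hle t6.ge).symm

theorem gensT_insert (A : Subgroup G) (u : G) (T : Set G) :
    gensT A (insert u T) = gensT A {u} ∪ gensT A T := by
  ext g
  constructor
  · rintro ⟨u', hu', a, ha, rfl⟩
    rcases hu' with rfl | hu'
    · exact Or.inl ⟨u', rfl, a, ha, rfl⟩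
    · exact Or.inr ⟨u', hu', a, ha, rfl⟩
  · rintro (⟨u', hu', a, ha, rfl⟩ | ⟨u', hu', a, ha, rfl⟩)
    · rw [Set.mem_singleton_iff] at hu'
      subst hu'
      exact ⟨u', Set.mem_insert _ _, a, ha, rfl⟩
    · exact ⟨u', Set.mem_insert_of_mem _ hu', a, ha, rfl⟩

theorem centralizer_union' (S T : Set G) :
    Subgroup.centralizer (S ∪ T) = Subgroup.centralizer S ⊓ Subgroup.centralizer T := by
  ext x
  simp only [Subgroup.mem_inf, Subgroup.mem_centralizer_iff, Set.mem_union]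
  constructor
  · intro h
    exact ⟨fun t ht => h t (Or.inl ht), fun t ht => h t (Or.inr ht)⟩
  · rintro ⟨h1, h2⟩ t (ht | ht)
    · exact h1 t ht
    · exact h2 t ht

theorem bT_insert (A : Subgroup G) (u : G) (T : Set G) :
    bT A (insert u T) = bT A {u} ⊓ bT A T := by
  unfold bT
  rw [gensT_insert, centralizer_union', inf_inf_distrib_left]

theorem wT_insert (A : Subgroup G) (u : G) (T : Set G) :
    wT A (insert u T) = wT A {u} ⊔ wT A T := by
  unfold wT
  rw [gensT_insert, Subgroup.closure_union]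

/-- The replacement theorem for finite subsets of `V`. -/
theorem finset_case [Finite G] {p : ℕ} {V A : Subgroup G} (hV : Cfsg.IsElementaryAbelian p V)
    (hVn : A ≤ Subgroup.normalizer (V : Set G))
    (hab : ⁅A, A⁆ ≤ Subgroup.centralizer (V : Set G))
    (hbest : ∀ B : Subgroup G, B ≤ A → om V B ≤ om V A) (T : Finset G) (hT : ∀ u ∈ T, u ∈ V) :
    om V (bT A (T : Set G)) = om V A ∧ cv V (bT A (T : Set G)) = wT A (T : Set G) ⊔ cv V A := by
  classical
  induction T using Finset.induction_on with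
  | empty =>
    have h1 : gensT A ((∅ : Finset G) : Set G) = ∅ := by
      ext g
      simp [gensT]
    have h2 : bT A ((∅ : Finset G) : Set G) = A := by
      unfold bT
      rw [h1]
      have : Subgroup.centralizer (∅ : Set G) = ⊤ := by
        ext x; simp [Subgroup.mem_centralizer_iff]
      rw [this, inf_top_eq]
    have h3 : wT A ((∅ : Finset G) : Set G) = ⊥ := by
      unfold wT
      rw [h1, Subgroup.closure_empty]
    rw [h2, h3, bot_sup_eq]
    exact ⟨rfl, rfl⟩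
  | insert u T hu ih =>
    have ih' := ih (fun v hv => hT v (Finset.mem_insert_of_mem hv))
    have hs := single_case hV hVn hab hbest (hT u (Finset.mem_insert_self u T))
    rw [Finset.coe_insert, bT_insert, wT_insert]
    have hb1 : bT A {u} ≤ A := inf_le_left
    have hb2 : bT A (T : Set G) ≤ A := inf_le_left
    have hi : om V (bT A {u} ⊓ bT A (T : Set G)) = om V A ∧
        cv V (bT A {u} ⊓ bT A (T : Set G)) = cv V (bT A {u}) ⊔ cv V (bT A (T : Set G)) :=
      inter_case hbest hb1 hb2 hs.1 ih'.1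
    refine ⟨hi.1, ?_⟩
    rw [hi.2, hs.2, ih'.2]
    apply le_antisymm
    · apply sup_le
      · exact sup_le (le_sup_of_le_left le_sup_left) le_sup_right
      · exact sup_le (le_sup_of_le_left le_sup_right) le_sup_right
    · apply sup_le
      · exact sup_le (le_sup_of_le_left le_sup_left) (le_sup_of_le_right le_sup_left)
      · exact le_sup_of_le_left le_sup_right

/-- Timmesfeld replacement for a subgroup `U ≤ V` when `A` maximizes `|B||C_V(B)|` among its subgroups. -/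
theorem timmesfeld_core [Finite G] {p : ℕ} {V A : Subgroup G} (hV : Cfsg.IsElementaryAbelian p V)
    (hVn : A ≤ Subgroup.normalizer (V : Set G))
    (hab : ⁅A, A⁆ ≤ Subgroup.centralizer (V : Set G))
    (hbest : ∀ B : Subgroup G, B ≤ A →
      Nat.card B * Nat.card ↥(V ⊓ Subgroup.centralizer (B : Set G)) ≤
        Nat.card A * Nat.card ↥(V ⊓ Subgroup.centralizer (A : Set G)))
    (U : Subgroup G) (hU : U ≤ V) :
    Nat.card ↥(A ⊓ Subgroup.centralizer ((⁅U, A⁆ : Subgroup G) : Set G)) *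
        Nat.card ↥(V ⊓ Subgroup.centralizer
          ((A ⊓ Subgroup.centralizer ((⁅U, A⁆ : Subgroup G) : Set G) : Subgroup G) : Set G)) =
      Nat.card A * Nat.card ↥(V ⊓ Subgroup.centralizer (A : Set G)) ∧
    V ⊓ Subgroup.centralizer
          ((A ⊓ Subgroup.centralizer ((⁅U, A⁆ : Subgroup G) : Set G) : Subgroup G) : Set G) =
      ⁅U, A⁆ ⊔ (V ⊓ Subgroup.centralizer (A : Set G)) := by
  classical
  have hfin : (U : Set G).Finite := Set.toFinite _
  have key := finset_case hV hVn hab hbest hfin.toFinset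
    (fun u hu => hU ((Set.Finite.mem_toFinset hfin).mp hu))
  rw [Set.Finite.coe_toFinset] at key
  have h1 : wT A (U : Set G) = ⁅U, A⁆ := by
    unfold wT gensT
    rw [Subgroup.commutator_def]
    rfl
  have h2 : bT A (U : Set G) = A ⊓ Subgroup.centralizer ((⁅U, A⁆ : Subgroup G) : Set G) := by
    rw [← h1]
    unfold bT wT
    rw [Subgroup.centralizer_closure]
  rw [h1, h2] at key
  exact key

end Cfsg.Agent.helper3
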