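import Mathlib
import Cfsg.Agent.Lib_helper15_ThA1
import Cfsg.Agent.Lib_helper15_S4d
import Cfsg.Agent.Lib_helper15_S4g
import Cfsg.Agent.Lib_helper3_Timmesfeld
import Cfsg.Agent.Lib_helper7_Cores

/-! Thompson's normal `p`-complement theorem for the abelian-version Thompson subgroup: the final
step for `p = 2` in `S₄`-free groups (helper15; the first part follows helper23's `final_JZ_aux`). -/

set_option autoImplicit false
set_option linter.style.haveILetI false
open scoped commutatorElement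

namespace Cfsg.Agent.helper15.ThA

open Cfsg
open Cfsg.Agent.helper3 Cfsg.Agent.helper10 Cfsg.Agent.helper23 Cfsg.Agent.lead

universe u

variable {p : ℕ} [hp : Fact p.Prime]

theorem final_two_aux (hp2 : p = 2) (X : Type u) [Group X] [Finite X]
    (S : Sylow p X) (H : Subgroup X) [hHn : H.Normal] (hHdef : H = Cfsg.pCore p X)
    (hfree : ¬ Cfsg.Involves (Equiv.Perm (Fin 4)) X)
    (hcon : Constrained p X)
    (hquot : Cfsg.HasNormalPComplement p (X ⧸ H))
    (hcoatom : IsCoatom (S : Subgroup X))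
    (hN : HypNC p jaFunctor (fun Q _ => Subgroup.center Q) X (S : Subgroup X)) :
    Cfsg.HasNormalPComplement p X := by
  by_contra hnot
  have hHS : H ≤ (S : Subgroup X) := by rw [hHdef]; exact Cfsg.Agent.helper1.pCore_le_sylow S
  have hHp : IsPGroup p H := by rw [hHdef]; exact Cfsg.Agent.helper1.pCore_isPGroup p
  have hSp : IsPGroup p (S : Subgroup X) := S.isPGroup'
  have hcon' : Subgroup.centralizer (H : Set X) ≤ H := by rw [hHdef]; exact hcon
  -- F1
  have hJ : Cfsg.inducedFunctor jaFunctor (S : Subgroup X)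
      = Cfsg.thompsonSubgroupAOf (S : Subgroup X) := rfl
  have hZ : Cfsg.inducedFunctor (fun Q _ => Subgroup.center Q) (S : Subgroup X)
      = (S : Subgroup X) ⊓ Subgroup.centralizer ((S : Subgroup X) : Set X) :=
    Cfsg.Agent.helper19.map_center_eq_inf_centralizer _
  obtain ⟨hN1, hN2⟩ := hN
  rw [hJ] at hN1
  rw [hZ] at hN2
  have htopnpc : ∀ U : Subgroup X, U = ⊤ → Cfsg.HasNormalPComplement p U → False := by
    intro U hU h
    subst hU
    exact hnot (npc_of_surjective (⊤ : Subgroup X).subtype (fun x => ⟨⟨x, trivial⟩, rfl⟩) h)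
  have hNJ : Subgroup.normalizer
      ((Cfsg.thompsonSubgroupAOf (S : Subgroup X) : Subgroup X) : Set X) ≠ ⊤ :=
    fun h => htopnpc _ h hN1
  have hCZ : Subgroup.centralizer ((((S : Subgroup X) ⊓
      Subgroup.centralizer ((S : Subgroup X) : Set X) : Subgroup X)) : Set X) ≠ ⊤ :=
    fun h => htopnpc _ h hN2
  -- F2
  obtain ⟨Sb, Kb, hKbn, hKbS⟩ := hquot
  haveI := hKbn
  have hKbcop : (Nat.card Kb).Coprime p := card_coprime_of_isComplement' Sb Kb hKbS
  obtain ⟨mk, hmk⟩ : ∃ mk : X →* X ⧸ H, mk = QuotientGroup.mk' H := ⟨_, rfl⟩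
  have hsurj : Function.Surjective mk := by rw [hmk]; exact QuotientGroup.mk'_surjective _
  have hker : mk.ker = H := by rw [hmk]; exact QuotientGroup.ker_mk' H
  obtain ⟨K, hK⟩ : ∃ K : Subgroup X, K = Kb.comap mk := ⟨_, rfl⟩
  haveI hKn : K.Normal := by rw [hK]; exact Subgroup.Normal.comap hKbn mk
  have hKmem : ∀ x, x ∈ K ↔ mk x ∈ Kb := fun x => by rw [hK, Subgroup.mem_comap]
  have hKmap : K.map mk = Kb := by
    rw [hK]; exact Subgroup.map_comap_eq_self_of_surjective hsurj Kb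
  have hmk1 : ∀ x, x ∈ H ↔ mk x = 1 := fun x => by
    have h0 : x ∈ mk.ker ↔ mk x = 1 := MonoidHom.mem_ker
    rw [hker] at h0
    exact h0
  have hKp : ∀ k ∈ K, ∀ j : ℕ, k ^ (p ^ j) ∈ H → k ∈ H := by
    intro k hk j hkj
    have h1 : mk k ∈ Kb := (hKmem k).mp hk
    have h2 : (mk k) ^ (p ^ j) = 1 := by rw [← map_pow]; exact (hmk1 _).mp hkj
    have h3 : orderOf (mk k) ∣ p ^ j := orderOf_dvd_of_pow_eq_one h2
    have h4 : orderOf (mk k) ∣ Nat.card Kb := Subgroup.orderOf_dvd_natCard Kb h1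
    have h5 : Nat.Coprime (p ^ j) (Nat.card Kb) := (Nat.Coprime.pow_right j hKbcop).symm
    have h6 : orderOf (mk k) ∣ Nat.gcd (p ^ j) (Nat.card Kb) := Nat.dvd_gcd h3 h4
    rw [h5] at h6
    exact (hmk1 k).mpr (orderOf_eq_one_iff.mp (Nat.dvd_one.mp h6))
  have hKS_le : ∀ L : Subgroup X, L ≤ K → L ≤ (S : Subgroup X) → L ≤ H := by
    intro L hLK hLS x hx
    obtain ⟨j, hj⟩ := hSp ⟨x, hLS hx⟩
    have hj' : x ^ (p ^ j) = 1 := by
      have := congrArg Subtype.val hj
      simpa using this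
    exact hKp x (hLK hx) j (by rw [hj']; exact H.one_mem)
  have hKidx : ∃ j, K.index = p ^ j := by
    rw [hK, Subgroup.index_comap_of_surjective _ hsurj, hKbS.symm.index_eq_card]
    exact IsPGroup.iff_card.mp Sb.isPGroup'
  have hKS : K ⊔ (S : Subgroup X) = ⊤ := by
    by_contra hne
    have h1 : K ⊔ (S : Subgroup X) = S := by
      by_contra h2
      exact hne (hcoatom.2 _ (lt_of_le_of_ne le_sup_right (Ne.symm h2)))
    have h3 : K ≤ (S : Subgroup X) := by rw [← h1]; exact le_sup_left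
    have h4 : K ≤ H := hKS_le K le_rfl h3
    apply hnot
    apply npc_of_isPGroup
    intro x
    obtain ⟨j, hj⟩ := hKidx
    have h5 : x ^ (p ^ j) ∈ K := by rw [← hj]; exact Subgroup.pow_index_mem K x
    obtain ⟨i, hi⟩ := hHp ⟨x ^ (p ^ j), h4 h5⟩
    refine ⟨j + i, ?_⟩
    have := congrArg Subtype.val hi
    rw [pow_add, pow_mul]
    simpa using this
  -- F3 : K/H is abelian
  have hKbc : ∀ y ∈ Kb, ∀ z ∈ Kb, y * z = z * y := by
    obtain ⟨Sbar, hSbar⟩ : ∃ Sbar : Subgroup (X ⧸ H), Sbar = (S : Subgroup X).map mk := ⟨_, rfl⟩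
    have hSbarp : IsPGroup p Sbar := by rw [hSbar]; exact hSp.map mk
    have hmaptop : (⊤ : Subgroup X).map mk = ⊤ := by
      rw [← MonoidHom.range_eq_map, MonoidHom.range_eq_top]; exact hsurj
    have hsup : Kb ⊔ Sbar = ⊤ := by
      rw [← hKmap, hSbar, ← Subgroup.map_sup, hKS, hmaptop]
    have hinf : ∀ y, y ∈ Sbar → y ∈ Kb → y = 1 := fun y h1 h2 =>
      eq_one_of_mem_of_coprime Sbar Kb hSbarp hKbcop y h1 h2
    have hcardY : Nat.card (X ⧸ H) = Nat.card Sbar * Nat.card Kb := by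
      have h1 := Cfsg.Agent.helper15.card_sup_mul_card_inf_of_le_normalizer Sbar Kb
        (by rw [Subgroup.normalizer_eq_top]; exact le_top)
      have h2 : Sbar ⊓ Kb = ⊥ := by
        rw [eq_bot_iff]; intro y hy; rw [Subgroup.mem_bot]; exact hinf y hy.1 hy.2
      rw [sup_comm, hsup, h2, Subgroup.card_bot, mul_one, Subgroup.card_top] at h1
      exact h1
    have hmin : ∀ Lb : Subgroup (X ⧸ H), Lb ≤ Kb →
        Sbar ≤ Subgroup.normalizer (Lb : Set (X ⧸ H)) → Lb = ⊥ ∨ Lb = Kb := by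
      intro Lb hLK hLN
      have hM : (S : Subgroup X) ≤ (Lb ⊔ Sbar).comap mk := by
        intro s hs
        rw [Subgroup.mem_comap]
        exact Subgroup.mem_sup_right (by rw [hSbar]; exact ⟨s, hs, rfl⟩)
      have hinfL : Sbar ⊓ Lb = ⊥ := by
        rw [eq_bot_iff]; intro y hy; rw [Subgroup.mem_bot]; exact hinf y hy.1 (hLK hy.2)
      by_cases hMS : (Lb ⊔ Sbar).comap mk = S
      · left
        have h1 : Lb ⊔ Sbar = Sbar := by
          rw [← Subgroup.map_comap_eq_self_of_surjective hsurj (Lb ⊔ Sbar), hMS, hSbar]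
        have h2 : Lb ≤ Sbar := by rw [← h1]; exact le_sup_left
        rw [eq_bot_iff]; intro y hy; rw [Subgroup.mem_bot]; exact hinf y (h2 hy) (hLK hy)
      · right
        have h1 : (Lb ⊔ Sbar).comap mk = ⊤ :=
          hcoatom.2 _ (lt_of_le_of_ne hM (Ne.symm hMS))
        have h2 : Lb ⊔ Sbar = ⊤ := by
          rw [← Subgroup.map_comap_eq_self_of_surjective hsurj (Lb ⊔ Sbar), h1, hmaptop]
        have h3 := Cfsg.Agent.helper15.card_sup_mul_card_inf_of_le_normalizer Sbar Lb hLN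
        rw [sup_comm, h2, hinfL, Subgroup.card_bot, mul_one, Subgroup.card_top, hcardY] at h3
        have h4 : Nat.card Kb = Nat.card Lb := Nat.eq_of_mul_eq_mul_left Nat.card_pos h3
        exact Subgroup.eq_of_le_of_card_ge hLK h4.le
    have hKbcomm : ∀ y ∈ Kb, ∀ z ∈ Kb, y * z = z * y := by
      by_cases hKb1 : Kb = ⊥
      · intro y hy z hz
        rw [hKb1, Subgroup.mem_bot] at hy hz
        rw [hy, hz]
      have hcardne : Nat.card Kb ≠ 1 := by rw [Ne, Subgroup.card_eq_one]; exact hKb1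
      obtain ⟨q, hq⟩ : ∃ q, q = (Nat.card Kb).minFac := ⟨_, rfl⟩
      have hqp : q.Prime := by rw [hq]; exact Nat.minFac_prime hcardne
      haveI : Fact q.Prime := ⟨hqp⟩
      have hqdvd : q ∣ Nat.card Kb := by rw [hq]; exact Nat.minFac_dvd _
      have hSbarsolv : Group.IsSolvable Sbar := by
        haveI := hSbarp.isNilpotent
        infer_instance
      obtain ⟨Qb, hQK, hQcard, hQN⟩ := Cfsg.Agent.lead.exists_invariant_sylow Sbar Kb
        (by rw [Subgroup.normalizer_eq_top]; exact le_top)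
        (by
          obtain ⟨k, hk⟩ := IsPGroup.iff_card.mp hSbarp
          rw [hk]; exact (Nat.Coprime.pow_right k hKbcop).symm)
        (Or.inl hSbarsolv) q
      have hQp : IsPGroup q Qb := IsPGroup.of_card hQcard
      have hQne : Qb ≠ ⊥ := by
        intro h
        rw [h, Subgroup.card_bot] at hQcard
        have hpos : 0 < (Nat.card Kb).factorization q :=
          hqp.factorization_pos_of_dvd Nat.card_pos.ne' hqdvd
        have := Nat.one_lt_pow hpos.ne' hqp.one_lt
        omega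
      obtain ⟨Zb, hZb⟩ : ∃ Zb : Subgroup (X ⧸ H),
        Zb = Qb ⊓ Subgroup.centralizer (Qb : Set (X ⧸ H)) := ⟨_, rfl⟩
      have hZbne : Zb ≠ ⊥ := by
        haveI : Nontrivial Qb := (Subgroup.nontrivial_iff_ne_bot Qb).mpr hQne
        have h1 := hQp.center_nontrivial
        have h2 : Subgroup.center ↥Qb ≠ ⊥ := (Subgroup.nontrivial_iff_ne_bot _).mp h1
        rw [hZb, ← Cfsg.Agent.helper19.map_center_eq_inf_centralizer Qb]
        intro h3
        exact h2 ((Subgroup.map_eq_bot_iff_of_injective _ Qb.subtype_injective).mp h3)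
      have hZbN : Sbar ≤ Subgroup.normalizer (Zb : Set (X ⧸ H)) := by
        apply Cfsg.Agent.helper4.Glaub.le_normalizer_of_conj
        intro t ht z hz
        rw [hZb] at hz ⊢
        have htN := hQN ht
        have hz := Subgroup.mem_inf.mp hz
        refine Subgroup.mem_inf.mpr ⟨(Subgroup.mem_normalizer_iff.mp htN z).mp hz.1, ?_⟩
        rw [Subgroup.mem_centralizer_iff]
        intro w hw
        have hw' : t⁻¹ * w * t ∈ Qb := by
          apply (Subgroup.mem_normalizer_iff.mp htN (t⁻¹ * w * t)).mpr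
          have e : t * (t⁻¹ * w * t) * t⁻¹ = w := by group
          rw [e]; exact hw
        have h1 := Subgroup.mem_centralizer_iff.mp hz.2 _ hw'
        calc w * (t * z * t⁻¹) = t * ((t⁻¹ * w * t) * z) * t⁻¹ := by group
          _ = t * (z * (t⁻¹ * w * t)) * t⁻¹ := by rw [h1]
          _ = t * z * t⁻¹ * w := by group
      rcases hmin Zb (by rw [hZb]; exact inf_le_left.trans hQK) hZbN with h | h
      · exact absurd h hZbne
      · intro y hy z hz
        rw [← h, hZb] at hy hz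
        exact Subgroup.mem_centralizer_iff.mp hz.2 y hy.1
    exact hKbcomm
  -- F4
  obtain ⟨V, hV⟩ : ∃ V : Subgroup X, V = omegaZ p H := ⟨_, rfl⟩
  haveI hVn : V.Normal := by rw [hV]; exact omegaZ_normal p H
  have hVea : Cfsg.IsElementaryAbelian p V := by rw [hV]; exact omegaZ_ea p H
  have hVH : V ≤ H := by rw [hV]; exact omegaZ_le p H
  have hHcV : H ≤ Subgroup.centralizer (V : Set X) := by rw [hV]; exact le_centralizer_omegaZ p H
  have hA : Subgroup.centralizer (V : Set X) ⊓ K ≤ H := by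
    by_contra hne
    obtain ⟨D, hDdef⟩ : ∃ D : Subgroup X, D = Subgroup.centralizer (V : Set X) ⊓ K := ⟨_, rfl⟩
    rw [← hDdef] at hne
    have hDK : D ≤ K := by rw [hDdef]; exact inf_le_right
    have hDS : ¬ D ≤ (S : Subgroup X) := fun h => hne (hKS_le D hDK h)
    have hDStop : D ⊔ (S : Subgroup X) = ⊤ := by
      apply hcoatom.2
      refine lt_of_le_of_ne le_sup_right ?_
      intro h
      apply hDS
      rw [h]; exact le_sup_left
    apply hCZ
    rw [eq_top_iff, ← hDStop]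
    haveI hZHn : (H ⊓ Subgroup.centralizer (H : Set X)).Normal := inferInstance
    have hZle : (S : Subgroup X) ⊓ Subgroup.centralizer ((S : Subgroup X) : Set X) ≤
        H ⊓ Subgroup.centralizer (H : Set X) := by
      intro z hz
      have h1 : z ∈ Subgroup.centralizer (H : Set X) := Subgroup.centralizer_le hHS hz.2
      exact ⟨hcon' h1, h1⟩
    apply sup_le
    · intro c hc
      apply Subgroup.centralizer_le hZle
      rw [hDdef] at hc
      obtain ⟨a, m, hm, hcm⟩ :=
        Nat.exists_eq_pow_mul_and_not_dvd (orderOf_pos c).ne' p hp.out.ne_one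
      have hmcop : Nat.Coprime m p := by
        rw [Nat.coprime_comm, hp.out.coprime_iff_not_dvd]; exact hm
      have hc1 : (c ^ p ^ a) ^ m = 1 := by
        rw [← pow_mul, ← hcm]; exact pow_orderOf_eq_one c
      have hc2 : (c ^ m) ^ p ^ a = 1 := by
        rw [← pow_mul, mul_comm, ← hcm]; exact pow_orderOf_eq_one c
      have hc2H : c ^ m ∈ H := hKp _ (K.pow_mem hc.2 m) a (by rw [hc2]; exact H.one_mem)
      have hc1V : c ^ p ^ a ∈ Subgroup.centralizer (V : Set X) := Subgroup.pow_mem _ hc.1 _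
      have h1 : c ^ p ^ a ∈ Subgroup.centralizer
          ((H ⊓ Subgroup.centralizer (H : Set X) : Subgroup X) : Set X) := by
        have key := centralize_of_omega (p := p) (H ⊓ Subgroup.centralizer (H : Set X))
          (fun a ha b hb => Subgroup.mem_centralizer_iff.mp hb.2 a ha.1)
          (hHp.to_le inf_le_left) (c ^ p ^ a)
          (fun w hw => hZHn.conj_mem w hw _) m hc1 hmcop
          (fun w hw hwp => by
            have hwV : w ∈ V := by rw [hV]; exact ⟨hw.1, hw.2, hwp⟩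
            have := Subgroup.mem_centralizer_iff.mp hc1V w hwV
            rw [← this, mul_inv_cancel_right])
        rw [Subgroup.mem_centralizer_iff]
        intro w hw
        have := key w hw
        calc w * c ^ p ^ a = (c ^ p ^ a * w * (c ^ p ^ a)⁻¹) * c ^ p ^ a := by rw [this]
          _ = c ^ p ^ a * w := by rw [inv_mul_cancel_right]
      have h2 : c ^ m ∈ Subgroup.centralizer
          ((H ⊓ Subgroup.centralizer (H : Set X) : Subgroup X) : Set X) := by
        rw [Subgroup.mem_centralizer_iff]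
        intro w hw
        exact (Subgroup.mem_centralizer_iff.mp hw.2 _ hc2H).symm
      have hcop' : Nat.Coprime (p ^ a) m := Nat.Coprime.pow_left a hmcop.symm
      obtain ⟨u, v, huv⟩ := Nat.isCoprime_iff_coprime.mpr hcop'
      have hcz : c = (c ^ p ^ a) ^ u * (c ^ m) ^ v := by
        rw [← zpow_natCast c (p ^ a), ← zpow_natCast c m, ← zpow_mul, ← zpow_mul, ← zpow_add,
          mul_comm _ u, mul_comm _ v, huv, zpow_one]
      rw [hcz]
      exact Subgroup.mul_mem _ (Subgroup.zpow_mem _ h1 u) (Subgroup.zpow_mem _ h2 v)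
    · intro s hs
      rw [Subgroup.mem_centralizer_iff]
      intro z hz
      exact (Subgroup.mem_centralizer_iff.mp hz.2 s hs).symm
  have hCVH : Subgroup.centralizer (V : Set X) ≤ H := by
    have hCVp : IsPGroup p (Subgroup.centralizer (V : Set X)) := by
      rintro ⟨e, he⟩
      obtain ⟨j, hj⟩ := hKidx
      have h1 : e ^ (p ^ j) ∈ K := by rw [← hj]; exact Subgroup.pow_index_mem K e
      have h2 : e ^ (p ^ j) ∈ H := hA ⟨Subgroup.pow_mem _ he _, h1⟩
      obtain ⟨i, hi⟩ := hHp ⟨_, h2⟩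
      refine ⟨j + i, ?_⟩
      apply Subtype.ext
      have := congrArg Subtype.val hi
      rw [pow_add, pow_mul]
      simpa using this
    rw [hHdef]
    exact Cfsg.Agent.helper1.le_pCore inferInstance hCVp
  -- faithful action on `Kb`
  have hfaithS : ∀ b ∈ (S : Subgroup X), (∀ y ∈ Kb, mk b * y = y * mk b) → b ∈ H := by
    intro b hbS hb
    obtain ⟨C', hC'⟩ : ∃ C' : Subgroup X,
      C' = (Subgroup.centralizer (Kb : Set (X ⧸ H))).comap mk := ⟨_, rfl⟩
    haveI hC'n : C'.Normal := by rw [hC']; exact Subgroup.Normal.comap inferInstance mk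
    have hC'mem : ∀ g, g ∈ C' ↔ ∀ y ∈ Kb, y * mk g = mk g * y := fun g => by
      rw [hC', Subgroup.mem_comap, Subgroup.mem_centralizer_iff]
      rfl
    obtain ⟨R, hR⟩ : ∃ R : Subgroup X, R = (S : Subgroup X) ⊓ C' := ⟨_, rfl⟩
    have hRp : IsPGroup p R := by rw [hR]; exact hSp.to_le inf_le_left
    have hRN : Subgroup.normalizer (R : Set X) = ⊤ := by
      rw [eq_top_iff, ← hKS]
      apply sup_le
      · apply Cfsg.Agent.helper4.Glaub.le_normalizer_of_conj
        intro k hk r hr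
        rw [hR] at hr ⊢
        refine ⟨?_, hC'n.conj_mem r hr.2 k⟩
        have h3 : k * r * k⁻¹ * r⁻¹ ∈ H := by
          rw [hmk1]
          have h4 := (hC'mem r).mp hr.2 (mk k) ((hKmem k).mp hk)
          simp only [map_mul, map_inv]
          rw [h4]; group
        have e : k * r * k⁻¹ = (k * r * k⁻¹ * r⁻¹) * r := by group
        rw [e]
        exact (S : Subgroup X).mul_mem (hHS h3) hr.1
      · apply Cfsg.Agent.helper4.Glaub.le_normalizer_of_conj
        intro s hs r hr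
        rw [hR] at hr ⊢
        exact ⟨(S : Subgroup X).mul_mem ((S : Subgroup X).mul_mem hs hr.1)
          ((S : Subgroup X).inv_mem hs), hC'n.conj_mem r hr.2 s⟩
    have := le_pCore_of_normalizer_eq_top R hRp hRN
    rw [hHdef]
    apply this
    rw [hR]
    exact ⟨hbS, (hC'mem b).mpr (fun y hy => (hb y hy).symm)⟩
  -- `J(S)` is not contained in `H`
  have hJH : ¬ Cfsg.thompsonSubgroupAOf (S : Subgroup X) ≤ H := by
    intro hJH
    have hJeq := thompsonSubgroupAOf_eq_of_le hHS hJH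
    apply hNJ
    rw [← hJeq, eq_top_iff]
    have h1 := normalizer_le_normalizer_thompsonSubgroupAOf H
    rw [Subgroup.normalizer_eq_top] at h1
    exact h1
  obtain ⟨A, hAfam, hAH⟩ : ∃ A, A ∈ famAb (S : Subgroup X) ∧ ¬ A ≤ H := by
    by_contra hcon2
    push Not at hcon2
    apply hJH
    rw [thompsonSubgroupAOf_eq_sSup]
    exact sSup_le hcon2
  have hAS : A ≤ (S : Subgroup X) := hAfam.1
  have hAcomm : ∀ a ∈ A, ∀ b ∈ A, a * b = b * a := by
    intro a ha b hb
    have := hAfam.2.1.is_comm.comm (⟨a, ha⟩ : A) ⟨b, hb⟩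
    exact congrArg Subtype.val this
  have hV2 : ∀ v ∈ V, v * v = 1 := by
    intro v hv
    have := hVea.2 v hv
    rw [hp2, pow_two] at this
    exact this
  have hVc : ∀ v ∈ V, ∀ w ∈ V, v * w = w * v := by
    intro v hv w hw
    have := hVea.1.is_comm.comm (⟨v, hv⟩ : V) ⟨w, hw⟩
    exact congrArg Subtype.val this
  have hVcomm : IsMulCommutative ↥V := hVea.1
  have hVS : V ≤ (S : Subgroup X) := hVH.trans hHS
  have hcentH : ∀ B : Subgroup X, B ≤ H → V ⊓ Subgroup.centralizer (B : Set X) = V := by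
    intro B hBH
    apply inf_eq_left.2
    intro v hv
    rw [Subgroup.mem_centralizer_iff]
    intro b hb
    exact (Subgroup.mem_centralizer_iff.mp (hHcV (hBH hb)) v hv).symm
  -- the offender inequality
  obtain ⟨m, hm⟩ : ∃ m : Subgroup X → ℕ, m = fun B : Subgroup X =>
    Nat.card B * Nat.card ↥(V ⊓ Subgroup.centralizer (B : Set X)) := ⟨_, rfl⟩
  have hmdef : ∀ B : Subgroup X,
      m B = Nat.card B * Nat.card ↥(V ⊓ Subgroup.centralizer (B : Set X)) := fun B => by rw [hm]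
  have hmH : ∀ B : Subgroup X, B ≤ A → B ≤ H → m B ≤ m A := by
    intro B hBA hBH
    obtain ⟨A₀, hA₀⟩ : ∃ A₀ : Subgroup X, A₀ = A ⊓ H := ⟨_, rfl⟩
    have hA₀A : A₀ ≤ A := hA₀ ▸ inf_le_left
    have hA₀H : A₀ ≤ H := hA₀ ▸ inf_le_right
    have hA₀comm : IsMulCommutative ↥A₀ :=
      ⟨⟨fun a b => Subtype.ext (hAcomm _ (hA₀A a.2) _ (hA₀A b.2))⟩⟩
    have h1 : IsMulCommutative ↥(A₀ ⊔ V) := by
      apply isMulCommutative_sup' hA₀comm hVcomm
      intro x hx c hc
      exact (Subgroup.mem_centralizer_iff.mp (hHcV (hA₀H hx)) c hc).symm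
    have h2 : A₀ ⊔ V ≤ (S : Subgroup X) := sup_le (hA₀A.trans hAS) hVS
    have h3 : Nat.card ↥(A₀ ⊔ V) ≤ Nat.card A := hAfam.2.2 _ h2 h1
    have h4 := Cfsg.Agent.helper15.card_sup_mul_card_inf_of_le_normalizer A₀ V
      (by rw [Subgroup.normalizer_eq_top]; exact le_top)
    have h5 : A₀ ⊓ V ≤ V ⊓ Subgroup.centralizer (A : Set X) := by
      intro x hx
      refine Subgroup.mem_inf.2 ⟨hx.2, ?_⟩
      rw [Subgroup.mem_centralizer_iff]
      intro a ha
      exact hAcomm a ha x (hA₀A hx.1)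
    have h6 : Nat.card ↥(A₀ ⊓ V) ≤ Nat.card ↥(V ⊓ Subgroup.centralizer (A : Set X)) :=
      Subgroup.card_le_of_le h5
    have h7 : Nat.card B ≤ Nat.card A₀ := Subgroup.card_le_of_le (hA₀ ▸ le_inf hBA hBH)
    rw [hmdef, hmdef, hcentH B hBH]
    calc Nat.card B * Nat.card V ≤ Nat.card A₀ * Nat.card V := Nat.mul_le_mul_right _ h7
      _ = Nat.card ↥(A₀ ⊔ V) * Nat.card ↥(A₀ ⊓ V) := h4.symm
      _ ≤ Nat.card A * Nat.card ↥(V ⊓ Subgroup.centralizer (A : Set X)) := Nat.mul_le_mul h3 h6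
  -- the choice of `B`
  let T := {B : Subgroup X // B ≤ A ∧ ¬ B ≤ H}
  haveI : Nonempty T := ⟨⟨A, le_rfl, hAH⟩⟩
  haveI : Finite T := Subtype.finite
  obtain ⟨⟨B₁, hB₁A, hB₁H⟩, hB₁max⟩ := Finite.exists_max (fun B : T => m B.1)
  have hmax : ∀ B : Subgroup X, B ≤ A → m B ≤ m B₁ := by
    intro B hBA
    by_cases hBH : B ≤ H
    · exact (hmH B hBA hBH).trans (hB₁max ⟨A, le_rfl, hAH⟩)
    · exact hB₁max ⟨B, hBA, hBH⟩
  let T' := {B : Subgroup X // B ≤ A ∧ ¬ B ≤ H ∧ m B = m B₁}
  haveI : Nonempty T' := ⟨⟨B₁, hB₁A, hB₁H, rfl⟩⟩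
  haveI : Finite T' := Subtype.finite
  obtain ⟨⟨B, hBA, hBH, hBm⟩, hBmin⟩ := Finite.exists_min (fun B : T' => Nat.card ↥B.1)
  have hbest : ∀ B' : Subgroup X, B' ≤ B → m B' ≤ m B := by
    intro B' hB'
    rw [hBm]
    exact hmax B' (hB'.trans hBA)
  have hBcomm : ∀ a ∈ B, ∀ b ∈ B, a * b = b * a :=
    fun a ha b hb => hAcomm a (hBA ha) b (hBA hb)
  have hBp : IsPGroup p ↥B := hSp.to_le (hBA.trans hAS)
  have hBV : B ≤ Subgroup.normalizer (V : Set X) := by
    rw [Subgroup.normalizer_eq_top]; exact le_top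
  have hBab : ⁅B, B⁆ ≤ Subgroup.centralizer (V : Set X) := by
    have : ⁅B, B⁆ = ⊥ := by
      rw [Subgroup.commutator_eq_bot_iff_le_centralizer]
      intro a ha
      rw [Subgroup.mem_centralizer_iff]
      intro b hb
      exact hBcomm b hb a ha
    rw [this]; exact bot_le
  obtain ⟨ht1, ht2⟩ := Cfsg.Agent.helper3.timmesfeld_core hVea hBV hBab
    (fun B' hB' => by
      have := hbest B' hB'
      rw [hmdef, hmdef] at this
      exact this) V le_rfl
  obtain ⟨Bs, hBs⟩ : ∃ Bs : Subgroup X,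
    Bs = B ⊓ Subgroup.centralizer ((⁅V, B⁆ : Subgroup X) : Set X) := ⟨_, rfl⟩
  rw [← hBs] at ht1 ht2
  have hBsB : Bs ≤ B := hBs ▸ inf_le_left
  have hBsH : ¬ Bs ≤ H := by
    intro hle
    rw [hcentH Bs hle] at ht2
    obtain ⟨Nn, hNn⟩ : ∃ Nn : Subgroup X, Nn = ⁅V, B⁆ := ⟨_, rfl⟩
    rw [← hNn] at ht2
    have hNV : Nn ≤ V := by rw [hNn]; exact Subgroup.commutator_le_left V B
    have hBNn : B ≤ Subgroup.normalizer (Nn : Set X) := by
      intro b hb
      rw [hNn]
      exact Cfsg.Agent.helper7.mem_normalizer_commutator (hBV hb) (Subgroup.le_normalizer hb)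
    have hCN : V ⊓ Subgroup.centralizer (B : Set X) ≤ Subgroup.normalizer (Nn : Set X) := by
      apply Cfsg.Agent.helper4.Glaub.le_normalizer_of_conj
      intro c hc n hn
      have : c * n = n * c := hVc c hc.1 n (hNV hn)
      rw [this, mul_inv_cancel_right]
      exact hn
    have h1 : ⁅V, B⁆ ≤ ⁅Nn, B⁆ := by
      rw [Subgroup.commutator_le]
      intro v hv b hb
      have hv' : v ∈ Nn ⊔ (V ⊓ Subgroup.centralizer (B : Set X)) := by rw [← ht2]; exact hv
      obtain ⟨n, hn, c, hc, rfl⟩ := Cfsg.Agent.helper7.mem_sup_of_normalizer hCN hv'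
      have hcb : b * c = c * b := Subgroup.mem_centralizer_iff.mp hc.2 b hb
      have e : ⁅n * c, b⁆ = ⁅n, b⁆ := by
        rw [commutatorElement_def, commutatorElement_def]
        calc n * c * b * (n * c)⁻¹ * b⁻¹ = n * (c * b) * c⁻¹ * n⁻¹ * b⁻¹ := by group
          _ = n * (b * c) * c⁻¹ * n⁻¹ * b⁻¹ := by rw [hcb]
          _ = n * b * n⁻¹ * b⁻¹ := by group
      rw [e]
      exact Subgroup.commutator_mem_commutator hn hb
    have h2 : ⁅Nn, B⁆ = Nn := by
      apply le_antisymm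
      · rw [Subgroup.commutator_le]
        intro n hn b hb
        have h3 : b * n⁻¹ * b⁻¹ ∈ Nn :=
          (Subgroup.mem_normalizer_iff.mp (hBNn hb) n⁻¹).mp (Nn.inv_mem hn)
        have e : ⁅n, b⁆ = n * (b * n⁻¹ * b⁻¹) := by rw [commutatorElement_def]; group
        rw [e]
        exact Nn.mul_mem hn h3
      · rw [hNn] at h1 ⊢
        exact h1
    have hVp : IsPGroup p ↥V := hHp.to_le hVH
    have h3 := Cfsg.Agent.helper7.commutator_ne_self_of_pGroup (hVp.to_le hNV) hBp hBNn h2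
    apply hBH
    rw [hNn, Subgroup.commutator_eq_bot_iff_le_centralizer] at h3
    intro b hb
    apply hCVH
    rw [Subgroup.mem_centralizer_iff]
    intro v hv
    exact (Subgroup.mem_centralizer_iff.mp (h3 hv) b hb).symm
  have hBsm : m Bs = m B₁ := by rw [hmdef, ht1, ← hmdef, hBm]
  have hBseq : Bs = B := by
    have := hBmin ⟨Bs, hBsB.trans hBA, hBsH, hBsm⟩
    exact Subgroup.eq_of_le_of_card_ge hBsB this
  have hquad : B ≤ Subgroup.centralizer ((⁅V, B⁆ : Subgroup X) : Set X) := by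
    intro b hb
    have : b ∈ Bs := by rw [hBseq]; exact hb
    rw [hBs] at this
    exact this.2
  have hBsq : ∀ b ∈ B, b * b ∈ H := by
    intro b hb
    apply hCVH
    rw [Subgroup.mem_centralizer_iff]
    intro v hv
    have hc : ⁅v⁻¹, b⁆ ∈ ⁅V, B⁆ := Subgroup.commutator_mem_commutator (V.inv_mem hv) hb
    have hcV : ⁅v⁻¹, b⁆ ∈ V := Subgroup.commutator_le_left V B hc
    have hcb : ⁅v⁻¹, b⁆ * b = b * ⁅v⁻¹, b⁆ := Subgroup.mem_centralizer_iff.mp (hquad hb) _ hc
    have hc2 : ⁅v⁻¹, b⁆ * ⁅v⁻¹, b⁆ = 1 := hV2 _ hcV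
    have e1 : b * v * b⁻¹ = v * ⁅v⁻¹, b⁆ := by rw [commutatorElement_def]; group
    have e2 : b * ⁅v⁻¹, b⁆ * b⁻¹ = ⁅v⁻¹, b⁆ := by rw [← hcb]; group
    have e3 : (b * b) * v * (b * b)⁻¹ = v := by
      calc (b * b) * v * (b * b)⁻¹ = b * (b * v * b⁻¹) * b⁻¹ := by group
        _ = b * (v * ⁅v⁻¹, b⁆) * b⁻¹ := by rw [e1]
        _ = (b * v * b⁻¹) * (b * ⁅v⁻¹, b⁆ * b⁻¹) := by group
        _ = v * (⁅v⁻¹, b⁆ * ⁅v⁻¹, b⁆) := by rw [e1, e2, mul_assoc]
        _ = v := by rw [hc2, mul_one]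
    calc v * (b * b) = ((b * b) * v * (b * b)⁻¹) * (b * b) := by rw [e3]
      _ = (b * b) * v := by group
  -- the four-group and the section
  have hH2 : IsPGroup 2 ↥H := by rw [← hp2]; exact hHp
  have hB2 : IsPGroup 2 ↥B := by rw [← hp2]; exact hBp
  have hKbodd : (Nat.card Kb).Coprime 2 := by rw [← hp2]; exact hKbcop
  obtain ⟨U, hUV, hU4, k, hkNU, hkCU, ⟨n, hnodd, hkn⟩, b, hbB, hbNU, hbCU⟩ :=
    Cfsg.Agent.helper15.S4F.exists_four_of_offender H V hV2 hVc hHcV hCVH hH2 Kb hKbc hKbodd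
      B hBcomm hB2 hBsq hBH
      (fun b hb h => hfaithS b (hAS (hBA hb)) (by rw [hmk]; exact h))
      (fun B' hB' => by
        have := hbest B' hB'
        rw [hmdef, hmdef] at this
        exact this)
  obtain ⟨j, hj⟩ := hB2 ⟨b, hbB⟩
  have hbj : b ^ 2 ^ j = 1 := by
    have := congrArg Subtype.val hj
    rwa [Subgroup.coe_pow, Subgroup.coe_one] at this
  exact hfree (Cfsg.Agent.helper15.S4F.involves_S4_of_four U hU4 (fun x hx => hV2 x (hUV hx))
    hkNU hkCU hnodd hkn hbNU hbCU hbj)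

theorem final_two (hp2 : p = 2) (X : Type u) [Group X] [Finite X]
    (S : Sylow p X) (hfree : ¬ Cfsg.Involves (Equiv.Perm (Fin 4)) X)
    (hcon : Constrained p X) (_hD : Cfsg.pPrimeCore p X = ⊥)
    (hquot : Cfsg.HasNormalPComplement p (X ⧸ Cfsg.pCore p X))
    (hcoatom : IsCoatom (S : Subgroup X))
    (hN : HypNC p jaFunctor (fun Q _ => Subgroup.center Q) X (S : Subgroup X)) :
    Cfsg.HasNormalPComplement p X := by
  haveI hHn : (Cfsg.pCore p X).Normal := Cfsg.Agent.helper1.pCore_normal p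
  exact final_two_aux hp2 X S (Cfsg.pCore p X) rfl hfree hcon hquot hcoatom hN

end Cfsg.Agent.helper15.ThA
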