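import Mathlib

set_option autoImplicit false

namespace Cfsg.Agent.helper16.Aniso

open scoped BigOperators

variable {P : Type*} [Group P]

/-- commutator `u t u⁻¹ t⁻¹`. -/
def cm (u t : P) : P := u * t * u⁻¹ * t⁻¹

theorem sq_mul_sq (u t : P) : u * u * ((u⁻¹ * t) * (u⁻¹ * t)) = cm u t * (t * t) := by
  unfold cm; group

theorem sq_mul (s t : P) : (s * t) * (s * t) = s * s * cm s⁻¹ t * (t * t) := by
  unfold cm; group

/-- Standing algebraic hypotheses. -/
structure Hyp (Z : Subgroup P) : Prop where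
  central : ∀ z ∈ Z, ∀ u : P, z * u = u * z
  sq_one : ∀ z ∈ Z, z * z = 1
  sq_mem : ∀ u : P, u * u ∈ Z

namespace Hyp

variable {Z : Subgroup P} (h : Hyp Z)
include h

theorem inv_eq {z : P} (hz : z ∈ Z) : z⁻¹ = z := by
  have := h.sq_one z hz
  exact inv_eq_of_mul_eq_one_left this

theorem cm_mem (u t : P) : cm u t ∈ Z := by
  have h1 : cm u t = (u * t) * (u * t) * ((u * u)⁻¹ * (t * t)⁻¹) := by
    have hc : (u * u)⁻¹ * t⁻¹ = t⁻¹ * (u * u)⁻¹ := h.central _ (Z.inv_mem (h.sq_mem u)) _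
    unfold cm
    calc u * t * u⁻¹ * t⁻¹ = (u * t) * (u * t) * (t⁻¹ * (u * u)⁻¹ * t⁻¹) := by group
      _ = (u * t) * (u * t) * ((u * u)⁻¹ * t⁻¹ * t⁻¹) := by rw [hc]
      _ = (u * t) * (u * t) * ((u * u)⁻¹ * (t * t)⁻¹) := by group
  rw [h1]
  exact Z.mul_mem (h.sq_mem _) (Z.mul_mem (Z.inv_mem (h.sq_mem _)) (Z.inv_mem (h.sq_mem _)))

theorem cm_mul_left (u u' t : P) : cm (u * u') t = cm u t * cm u' t := by
  have hc := h.central _ (h.cm_mem u' t) u
  have hc2 := h.central _ (h.cm_mem u' t) (cm u t)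
  have : cm (u * u') t = u * cm u' t * u⁻¹ * cm u t := by unfold cm; group
  rw [this, ← hc]
  calc cm u' t * u * u⁻¹ * cm u t = cm u' t * cm u t := by group
    _ = cm u t * cm u' t := hc2

theorem cm_mul_right (u t t' : P) : cm u (t * t') = cm u t * cm u t' := by
  have hc := h.central _ (h.cm_mem u t') t
  have : cm u (t * t') = cm u t * (t * cm u t' * t⁻¹) := by unfold cm; group
  rw [this, ← hc]; group

theorem cm_inv_right (u t : P) : cm u t⁻¹ = cm u t := by
  have hc := h.central _ (h.cm_mem t u) t⁻¹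
  have h1 : cm u t⁻¹ = t⁻¹ * cm t u * t := by unfold cm; group
  have h2 : cm t u = (cm u t)⁻¹ := by unfold cm; group
  rw [h1, ← hc, h2, h.inv_eq (h.cm_mem u t)]; group

theorem cm_one_right (u : P) : cm u 1 = 1 := by unfold cm; group

end Hyp

/-- the sign function attached to a subgroup `K`. -/
noncomputable def lam (K : Subgroup P) (z : P) : ℤ := by
  classical exact if z ∈ K then 1 else -1

theorem lam_of_mem {K : Subgroup P} {z : P} (hz : z ∈ K) : lam K z = 1 := by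
  classical unfold lam; simp [hz]

theorem lam_of_not_mem {K : Subgroup P} {z : P} (hz : z ∉ K) : lam K z = -1 := by
  classical unfold lam; simp [hz]

theorem lam_cases (K : Subgroup P) (z : P) : lam K z = 1 ∨ lam K z = -1 := by
  by_cases hz : z ∈ K
  · exact Or.inl (lam_of_mem hz)
  · exact Or.inr (lam_of_not_mem hz)

theorem lam_one (K : Subgroup P) : lam K 1 = 1 := lam_of_mem K.one_mem

theorem lam_mul {Z K : Subgroup P}
    (hK : ∀ a ∈ Z, ∀ b ∈ Z, (a * b ∈ K ↔ (a ∈ K ↔ b ∈ K))) {a b : P} (ha : a ∈ Z) (hb : b ∈ Z) :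
    lam K (a * b) = lam K a * lam K b := by
  have := hK a ha b hb
  by_cases h1 : a ∈ K <;> by_cases h2 : b ∈ K
  · rw [lam_of_mem h1, lam_of_mem h2, lam_of_mem (this.2 (by tauto))]; norm_num
  · rw [lam_of_mem h1, lam_of_not_mem h2, lam_of_not_mem (fun hh => by have := this.1 hh; tauto)]; norm_num
  · rw [lam_of_not_mem h1, lam_of_mem h2, lam_of_not_mem (fun hh => by have := this.1 hh; tauto)]; norm_num
  · rw [lam_of_not_mem h1, lam_of_not_mem h2, lam_of_mem (this.2 (by tauto))]; norm_num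


section Sums

open Classical

variable [Fintype P] {Z K : Subgroup P} (h : Hyp Z)
  (hKZ : K ≤ Z) (hK : ∀ a ∈ Z, ∀ b ∈ Z, (a * b ∈ K ↔ (a ∈ K ↔ b ∈ K)))

/-- the subgroup `R` of elements whose commutators all lie in `K`. -/
def Rsub (h : Hyp Z) (K : Subgroup P) : Subgroup P where
  carrier := {t | ∀ u : P, cm u t ∈ K}
  one_mem' := fun u => by rw [h.cm_one_right]; exact K.one_mem
  mul_mem' := fun {a b} ha hb u => by rw [h.cm_mul_right]; exact K.mul_mem (ha u) (hb u)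
  inv_mem' := fun {a} ha u => by rw [h.cm_inv_right]; exact ha u

theorem mem_Rsub {t : P} : t ∈ Rsub h K ↔ ∀ u : P, cm u t ∈ K := Iff.rfl

include hK in
theorem sum_cm (t : P) :
    ∑ u : P, lam K (cm u t) = if t ∈ Rsub h K then (Fintype.card P : ℤ) else 0 := by
  classical
  by_cases ht : t ∈ Rsub h K
  · rw [if_pos ht]
    have : ∀ u : P, lam K (cm u t) = 1 := fun u => lam_of_mem (ht u)
    simp [this]
  · rw [if_neg ht]
    have ht' : ∃ u₀ : P, cm u₀ t ∉ K := by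
      by_contra hh; push Not at hh; exact ht hh
    obtain ⟨u₀, hu₀⟩ := ht'
    have h1 : ∑ u : P, lam K (cm u t) = ∑ u : P, lam K (cm (u₀ * u) t) :=
      (Equiv.sum_comp (Equiv.mulLeft u₀) (fun u => lam K (cm u t))).symm
    have h2 : ∀ u : P, lam K (cm (u₀ * u) t) = - lam K (cm u t) := by
      intro u
      rw [h.cm_mul_left, lam_mul hK (h.cm_mem _ _) (h.cm_mem _ _), lam_of_not_mem hu₀]; ring
    have h3 : ∑ u : P, lam K (cm u t) = - ∑ u : P, lam K (cm u t) := by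
      conv_lhs => rw [h1]
      rw [← Finset.sum_neg_distrib]
      exact Finset.sum_congr rfl (fun u _ => h2 u)
    linarith

include hK in
theorem T_sq :
    (∑ u : P, lam K (u * u)) * (∑ u : P, lam K (u * u)) =
      (Fintype.card P : ℤ) * ∑ t : P, (if t ∈ Rsub h K then lam K (t * t) else (0:ℤ)) := by
  classical
  have e1 : (∑ u : P, lam K (u * u)) * (∑ v : P, lam K (v * v)) =
      ∑ u : P, ∑ v : P, lam K (u * u) * lam K (v * v) := Finset.sum_mul_sum _ _ _ _
  rw [e1]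
  have e2 : ∀ u : P, ∑ v : P, lam K (u * u) * lam K (v * v) =
      ∑ t : P, lam K (cm u t) * lam K (t * t) := by
    intro u
    have := (Equiv.sum_comp (Equiv.mulLeft u⁻¹) (fun v => lam K (u * u) * lam K (v * v))).symm
    rw [this]
    apply Finset.sum_congr rfl
    intro t _
    simp only [Equiv.coe_mulLeft]
    rw [← lam_mul hK (h.sq_mem _) (h.sq_mem _), sq_mul_sq, lam_mul hK (h.cm_mem _ _) (h.sq_mem _)]
  rw [Finset.sum_congr rfl (fun u _ => e2 u), Finset.sum_comm]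
  rw [Finset.mul_sum]
  apply Finset.sum_congr rfl
  intro t _
  rw [← Finset.sum_mul, sum_cm h hK t]
  split_ifs <;> ring

include hK in
theorem sum_R :
    (∑ t : P, (if t ∈ Rsub h K then lam K (t * t) else (0:ℤ))) = 0 ∨
    (∑ t : P, (if t ∈ Rsub h K then lam K (t * t) else (0:ℤ))) = (Nat.card (Rsub h K) : ℤ) := by
  classical
  by_cases hall : ∀ t ∈ Rsub h K, lam K (t * t) = 1
  · right
    have : ∀ t : P, (if t ∈ Rsub h K then lam K (t * t) else (0:ℤ)) = if t ∈ Rsub h K then 1 else 0 := by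
      intro t; split_ifs with ht
      · exact hall t ht
      · rfl
    rw [Finset.sum_congr rfl (fun t _ => this t), Finset.sum_boole, Nat.card_eq_fintype_card,
      Fintype.card_subtype]
  · left
    push Not at hall
    obtain ⟨t₀, ht₀, hne⟩ := hall
    have hm : lam K (t₀ * t₀) = -1 := (lam_cases K _).resolve_left hne
    set f : P → ℤ := fun t => if t ∈ Rsub h K then lam K (t * t) else (0:ℤ) with hf
    have h1 : ∑ t : P, f t = ∑ t : P, f (t₀ * t) := (Equiv.sum_comp (Equiv.mulLeft t₀) f).symm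
    have h2 : ∀ t : P, f (t₀ * t) = - f t := by
      intro t
      simp only [hf]
      have hiff : t₀ * t ∈ Rsub h K ↔ t ∈ Rsub h K := (Rsub h K).mul_mem_cancel_left ht₀
      by_cases ht : t ∈ Rsub h K
      · rw [if_pos (hiff.2 ht), if_pos ht, sq_mul,
          lam_mul hK (Z.mul_mem (h.sq_mem _) (h.cm_mem _ _)) (h.sq_mem _),
          lam_mul hK (h.sq_mem _) (h.cm_mem _ _), hm, lam_of_mem (ht t₀⁻¹)]
        ring
      · rw [if_neg (fun hh => ht (hiff.1 hh)), if_neg ht]; ring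
    have h3 : ∑ t : P, f t = - ∑ t : P, f t := by
      conv_lhs => rw [h1]
      rw [← Finset.sum_neg_distrib]
      exact Finset.sum_congr rfl (fun t _ => h2 t)
    linarith

end Sums

section Count

open Classical

variable [Fintype P]

/-- number of square roots of `w`. -/
noncomputable def cnt (w : P) : ℕ := (Finset.univ.filter (fun u : P => u * u = w)).card

theorem cnt_equiv (δ : P ≃* P) (w : P) : cnt (δ w) = cnt w := by
  unfold cnt
  symm
  apply Finset.card_bij (fun u _ => δ u)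
  · intro u hu
    simp only [Finset.mem_filter, Finset.mem_univ, true_and] at hu ⊢
    rw [← map_mul, hu]
  · intro a _ b _ hab
    exact δ.injective hab
  · intro b hb
    simp only [Finset.mem_filter, Finset.mem_univ, true_and] at hb
    refine ⟨δ.symm b, ?_, by simp⟩
    simp only [Finset.mem_filter, Finset.mem_univ, true_and]
    apply δ.injective
    rw [map_mul]; simp [hb]

theorem three_dvd_cnt (ξ : P ≃* P) (hξ3 : ∀ u : P, ξ (ξ (ξ u)) = u) (w : P) (hξw : ξ w = w)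
    (hfix : ∀ u : P, ξ u = u → u * u ≠ w) : 3 ∣ cnt w := by
  have hcard : cnt w = Fintype.card {u : P // u * u = w} := by
    unfold cnt; rw [Fintype.card_subtype]
  rw [hcard]
  let f : Function.End {u : P // u * u = w} :=
    fun u => ⟨ξ u.1, by rw [← map_mul, u.2, hξw]⟩
  have hf : f ^ 3 ^ 1 = 1 := by
    rw [pow_one]
    funext u
    apply Subtype.ext
    have : (f ^ 3) u = f (f (f u)) := by
      rw [pow_succ, pow_succ, pow_one]; rfl
    rw [this]
    exact hξ3 u.1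
  haveI : Fact (Nat.Prime 3) := ⟨Nat.prime_three⟩
  have hmod := Equiv.Perm.card_fixedPoints_modEq (p := 3) (n := 1) hf
  have h0 : Fintype.card (Function.fixedPoints f) = 0 := by
    rw [Fintype.card_eq_zero_iff]
    constructor
    rintro ⟨u, hu⟩
    have : ξ u.1 = u.1 := congrArg Subtype.val hu
    exact hfix u.1 this u.2
  rw [h0] at hmod
  exact (Nat.modEq_zero_iff_dvd).1 hmod

end Count

/-- the arithmetic end-game. -/
theorem arith (X Y N : ℕ) (T S : ℤ) (hX : X = 4 + 3 * N) (hT : T = 4 - (N : ℤ)) (h3 : 3 ∣ N)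
    (hTS : T * T = (X : ℤ) * S) (hS : S = 0 ∨ S = (Y : ℤ)) (hYX : Y ∣ X) : X = 4 := by
  obtain ⟨M, rfl⟩ := h3
  rcases hS with hS | hS
  · rw [hS, mul_zero] at hTS
    have hT0 : T = 0 := mul_self_eq_zero.1 hTS
    omega
  · subst hS
    have hXZ : (X : ℤ) = 4 + 9 * (M : ℤ) := by rw [hX]; push_cast; ring
    have hTZ : T = 4 - 3 * (M : ℤ) := by rw [hT]; push_cast; ring
    have hdvdZ : (X : ℤ) ∣ 256 := by
      refine ⟨9 * (Y : ℤ) + 32 - (X : ℤ), ?_⟩
      have h9 : 9 * (T * T) = 9 * ((X : ℤ) * (Y : ℤ)) := by rw [hTS]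
      rw [hTZ] at h9
      have hM : 9 * (M : ℤ) = (X : ℤ) - 4 := by linarith
      have h3M : 3 * (4 - 3 * (M : ℤ)) = 16 - (X : ℤ) := by linarith
      have : (16 - (X : ℤ)) * (16 - (X : ℤ)) = 9 * ((X : ℤ) * (Y : ℤ)) := by
        rw [← h3M]; linarith
      linarith
    have hdvd : X ∣ 256 := by exact_mod_cast hdvdZ
    have h256 : (256 : ℕ) = 2 ^ 8 := by norm_num
    rw [h256] at hdvd
    obtain ⟨k, hk, hXk⟩ := (Nat.dvd_prime_pow Nat.prime_two).1 hdvd
    interval_cases k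
    · omega
    · omega
    · omega
    · omega
    · omega
    · omega
    · omega
    · omega
    · exfalso
      have hM28 : M = 28 := by omega
      subst hM28
      have hY : (Y : ℤ) = 25 := by
        rw [hTZ, hXZ] at hTS
        push_cast at hTS
        linarith
      have hY' : Y = 25 := by exact_mod_cast hY
      rw [hY', hXk] at hYX
      revert hYX
      decide

/-- the two-element subgroup `{1, w}`. -/
def K2 (w : P) (hw : w * w = 1) : Subgroup P where
  carrier := {z | z = 1 ∨ z = w}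
  one_mem' := Or.inl rfl
  mul_mem' := by
    rintro a b (rfl | rfl) (rfl | rfl)
    · left; simp
    · right; simp
    · right; simp
    · left; exact hw
  inv_mem' := by
    rintro a (rfl | rfl)
    · left; simp
    · right; exact inv_eq_of_mul_eq_one_left hw

theorem mem_K2 {w : P} (hw : w * w = 1) {z : P} : z ∈ K2 w hw ↔ z = 1 ∨ z = w := Iff.rfl

theorem card_K2 {w : P} (hw : w * w = 1) (hw1 : w ≠ 1) : Nat.card (K2 w hw) = 2 := by
  rw [Nat.card_eq_two_iff]
  refine ⟨⟨1, Or.inl rfl⟩, ⟨w, Or.inr rfl⟩, ?_, ?_⟩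
  · intro h; exact hw1 (congrArg Subtype.val h).symm
  · ext ⟨z, hz⟩
    simp only [Set.mem_insert_iff, Set.mem_singleton_iff, Set.mem_univ, iff_true]
    rcases hz with rfl | rfl
    · left; rfl
    · right; rfl

theorem K2_iff {Z : Subgroup P} (hZ4 : Nat.card Z = 4) {w : P} (hw : w * w = 1)
    (hw1 : w ≠ 1) (hwZ : w ∈ Z) :
    ∀ a ∈ Z, ∀ b ∈ Z, (a * b ∈ K2 w hw ↔ (a ∈ K2 w hw ↔ b ∈ K2 w hw)) := by
  have hKZ : K2 w hw ≤ Z := by
    rintro z (rfl | rfl)
    · exact Z.one_mem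
    · exact hwZ
  have hidx : ((K2 w hw).subgroupOf Z).index = 2 := by
    have h1 := Subgroup.card_mul_index ((K2 w hw).subgroupOf Z)
    rw [Nat.card_congr (Subgroup.subgroupOfEquivOfLe hKZ).toEquiv, card_K2 hw hw1, hZ4] at h1
    omega
  intro a ha b hb
  have := Subgroup.mul_mem_iff_of_index_two hidx (a := ⟨a, ha⟩) (b := ⟨b, hb⟩)
  simpa [Subgroup.mem_subgroupOf] using this

section Count2

open Classical

variable [Fintype P] {Z : Subgroup P}

theorem sum_fiber (hsq : ∀ u : P, u * u ∈ Z) (F : P → ℤ) :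
    ∑ u : P, F (u * u) =
      ∑ w ∈ Finset.univ.filter (fun z : P => z ∈ Z), (cnt w : ℤ) * F w := by
  rw [← Finset.sum_fiberwise_of_maps_to (s := Finset.univ)
    (t := Finset.univ.filter (fun z : P => z ∈ Z)) (g := fun u : P => u * u)
    (fun u _ => by simp [hsq u]) (fun u => F (u * u))]
  apply Finset.sum_congr rfl
  intro w _
  have : ∀ x ∈ Finset.univ.filter (fun u : P => u * u = w), F (x * x) = F w := by
    intro x hx
    rw [(Finset.mem_filter.1 hx).2]
  rw [Finset.sum_congr rfl this, Finset.sum_const, nsmul_eq_mul]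
  rfl

theorem card_Zf (hZ4 : Nat.card Z = 4) :
    (Finset.univ.filter (fun z : P => z ∈ Z)).card = 4 := by
  rw [← hZ4, Nat.card_eq_fintype_card, Fintype.card_subtype]

theorem cnt_one (hZ4 : Nat.card Z = 4) (hZ2 : ∀ z ∈ Z, z * z = 1)
    (haniso : ∀ u : P, u * u = 1 → u ∈ Z) : cnt (1 : P) = 4 := by
  unfold cnt
  rw [← card_Zf hZ4]
  congr 1
  apply Finset.filter_congr
  intro u _
  exact ⟨haniso u, hZ2 u⟩

theorem sum_eval (hZ4 : Nat.card Z = 4) (hsq : ∀ u : P, u * u ∈ Z) (w₁ w₂ w₃ : P)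
    (hw₁Z : w₁ ∈ Z) (hw₂Z : w₂ ∈ Z) (hw₃Z : w₃ ∈ Z)
    (hw₁ : w₁ ≠ 1) (hw₂ : w₂ ≠ 1) (hw₃ : w₃ ≠ 1)
    (h21 : w₂ ≠ w₁) (h32 : w₃ ≠ w₂) (h31 : w₃ ≠ w₁) (F : P → ℤ) :
    ∑ u : P, F (u * u) =
      (cnt (1 : P) : ℤ) * F 1 + ((cnt w₁ : ℤ) * F w₁ +
        ((cnt w₂ : ℤ) * F w₂ + (cnt w₃ : ℤ) * F w₃)) := by
  have h1n : (1 : P) ∉ ({w₁, w₂, w₃} : Finset P) := by
    simp [hw₁.symm, hw₂.symm, hw₃.symm]
  have h2n : w₁ ∉ ({w₂, w₃} : Finset P) := by
    simp [h21.symm, h31.symm]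
  have h3n : w₂ ∉ ({w₃} : Finset P) := by
    simp [h32.symm]
  have hZf : (Finset.univ.filter (fun z : P => z ∈ Z)) = {1, w₁, w₂, w₃} := by
    symm
    apply Finset.eq_of_subset_of_card_le
    · intro z hz
      simp only [Finset.mem_insert, Finset.mem_singleton] at hz
      simp only [Finset.mem_filter, Finset.mem_univ, true_and]
      rcases hz with rfl | rfl | rfl | rfl
      · exact Z.one_mem
      · exact hw₁Z
      · exact hw₂Z
      · exact hw₃Z
    · rw [card_Zf hZ4, Finset.card_insert_of_notMem h1n, Finset.card_insert_of_notMem h2n,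
        Finset.card_insert_of_notMem h3n, Finset.card_singleton]
  rw [sum_fiber hsq F, hZf, Finset.sum_insert h1n, Finset.sum_insert h2n,
    Finset.sum_insert h3n, Finset.sum_singleton]

end Count2

/-- **End-game lemma.** A finite group `P` with a central elementary abelian subgroup `Z` of
order `4` containing all squares and all involutions, with an automorphism `δ` moving every
nontrivial element of `Z`, and an automorphism `ξ` of order dividing `3` fixing `Z` pointwise and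
nothing else, has order `4`. -/
theorem card_eq_four {P : Type*} [Group P] [Finite P] (Z : Subgroup P)
    (hZc : Z ≤ Subgroup.center P) (hZ4 : Nat.card Z = 4) (hZ2 : ∀ z ∈ Z, z * z = 1)
    (hsq : ∀ u : P, u * u ∈ Z) (haniso : ∀ u : P, u * u = 1 → u ∈ Z)
    (δ ξ : P ≃* P) (hδZ : ∀ z ∈ Z, δ z ∈ Z) (hδ : ∀ z ∈ Z, z ≠ 1 → δ z ≠ z)
    (hξ3 : ∀ u : P, ξ (ξ (ξ u)) = u) (hξZ : ∀ z ∈ Z, ξ z = z)
    (hξfix : ∀ u : P, ξ u = u → u ∈ Z) :
    Nat.card P = 4 := by
  classical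
  haveI : Fintype P := Fintype.ofFinite P
  have h : Hyp Z :=
    { central := fun z hz u => ((Subgroup.mem_center_iff.1 (hZc hz)) u).symm
      sq_one := hZ2
      sq_mem := hsq }
  have hex : ∃ w₁ ∈ Z, w₁ ≠ 1 := by
    by_contra hh
    push Not at hh
    have : Z = ⊥ := (Subgroup.eq_bot_iff_forall Z).2 hh
    rw [this, Subgroup.card_bot] at hZ4
    omega
  obtain ⟨w₁, hw₁Z, hw₁⟩ := hex
  obtain ⟨w₂, hw₂def⟩ : ∃ w₂, w₂ = δ w₁ := ⟨_, rfl⟩
  obtain ⟨w₃, hw₃def⟩ : ∃ w₃, w₃ = δ w₂ := ⟨_, rfl⟩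
  have hw₂Z : w₂ ∈ Z := hw₂def ▸ hδZ _ hw₁Z
  have hw₃Z : w₃ ∈ Z := hw₃def ▸ hδZ _ hw₂Z
  have hw₂ : w₂ ≠ 1 := by
    intro hh
    apply hw₁
    apply δ.injective
    rw [← hw₂def, hh, map_one]
  have hw₃ : w₃ ≠ 1 := by
    intro hh
    apply hw₂
    apply δ.injective
    rw [← hw₃def, hh, map_one]
  have h21 : w₂ ≠ w₁ := hw₂def ▸ hδ _ hw₁Z hw₁
  have h32 : w₃ ≠ w₂ := hw₃def ▸ hδ _ hw₂Z hw₂
  have h31 : w₃ ≠ w₁ := by
    intro hh
    have hs : δ (w₁ * w₂) = w₁ * w₂ := by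
      rw [map_mul, ← hw₂def, ← hw₃def, hh]
      exact h.central w₂ hw₂Z w₁
    have hs1 : w₁ * w₂ = 1 := by
      by_contra hne
      exact hδ _ (Z.mul_mem hw₁Z hw₂Z) hne hs
    have : w₂ = w₁ := by
      have h1 : w₂ = w₁⁻¹ := eq_inv_of_mul_eq_one_right hs1
      rw [h1, h.inv_eq hw₁Z]
    exact h21 this
  have hw₁sq : w₁ * w₁ = 1 := hZ2 w₁ hw₁Z
  have hK := K2_iff hZ4 hw₁sq hw₁ hw₁Z
  have hTsq := T_sq h hK
  have hSR := sum_R h hK
  have hc1 : cnt (1 : P) = 4 := cnt_one hZ4 hZ2 haniso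
  have hc2 : cnt w₂ = cnt w₁ := hw₂def ▸ cnt_equiv δ w₁
  have hc3 : cnt w₃ = cnt w₁ := by rw [hw₃def, cnt_equiv δ w₂, hc2]
  have hl1 : lam (K2 w₁ hw₁sq) 1 = 1 := lam_one _
  have hl2 : lam (K2 w₁ hw₁sq) w₁ = 1 := lam_of_mem (Or.inr rfl)
  have hl3 : lam (K2 w₁ hw₁sq) w₂ = -1 := lam_of_not_mem (by
    rintro (hh | hh)
    · exact hw₂ hh
    · exact h21 hh)
  have hl4 : lam (K2 w₁ hw₁sq) w₃ = -1 := lam_of_not_mem (by
    rintro (hh | hh)
    · exact hw₃ hh
    · exact h31 hh)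
  have hT : ∑ u : P, lam (K2 w₁ hw₁sq) (u * u) = 4 - (cnt w₁ : ℤ) := by
    rw [sum_eval hZ4 hsq w₁ w₂ w₃ hw₁Z hw₂Z hw₃Z hw₁ hw₂ hw₃ h21 h32 h31
      (lam (K2 w₁ hw₁sq)), hl1, hl2, hl3, hl4, hc1, hc2, hc3]
    push_cast; ring
  have hX : Fintype.card P = 4 + 3 * cnt w₁ := by
    have := sum_eval hZ4 hsq w₁ w₂ w₃ hw₁Z hw₂Z hw₃Z hw₁ hw₂ hw₃ h21 h32 h31 (fun _ => (1 : ℤ))
    rw [hc1, hc2, hc3] at this
    simp only [Finset.sum_const, Finset.card_univ, nsmul_eq_mul, mul_one] at this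
    have h2 : (Fintype.card P : ℤ) = ((4 + 3 * cnt w₁ : ℕ) : ℤ) := by
      rw [this]; push_cast; ring
    exact_mod_cast h2
  have h3 : 3 ∣ cnt w₁ :=
    three_dvd_cnt ξ hξ3 w₁ (hξZ w₁ hw₁Z)
      (fun u hu huw => hw₁ (by rw [← huw]; exact hZ2 u (hξfix u hu)))
  have hYX : Nat.card (Rsub h (K2 w₁ hw₁sq)) ∣ Fintype.card P := by
    have := Subgroup.card_subgroup_dvd_card (Rsub h (K2 w₁ hw₁sq))
    rwa [Nat.card_eq_fintype_card (α := P)] at this
  rw [Nat.card_eq_fintype_card]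
  exact arith (Fintype.card P) (Nat.card (Rsub h (K2 w₁ hw₁sq))) (cnt w₁) _ _ hX hT h3 hTsq hSR hYX

end Cfsg.Agent.helper16.Aniso
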