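import Cfsg.Agent.Lib_helper16_Aniso

set_option autoImplicit false

namespace Cfsg.Agent.helper16.AnisoB

variable {G : Type*} [Group G] [Finite G]

/-- conjugation by `d` on a `d`-invariant subgroup of a finite group, as a `MulEquiv`. -/
noncomputable def conjEquiv (P : Subgroup G) (d : G) (hdP : ∀ u ∈ P, d * u * d⁻¹ ∈ P) :
    P ≃* P :=
  MulEquiv.ofBijective
    ({ toFun := fun u => ⟨d * u.1 * d⁻¹, hdP u.1 u.2⟩
       map_one' := by ext; simp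
       map_mul' := fun a b => by ext; simp [mul_assoc] } : P →* P)
    (Finite.injective_iff_bijective.1 (fun a b hab => by
        have := congrArg Subtype.val hab
        simp only [MonoidHom.coe_mk, OneHom.coe_mk, mul_left_inj, mul_right_inj] at this
        exact Subtype.ext this))

theorem conjEquiv_coe (P : Subgroup G) (d : G) (hdP : ∀ u ∈ P, d * u * d⁻¹ ∈ P) (u : P) :
    ((conjEquiv P d hdP u : P) : G) = d * u.1 * d⁻¹ := rfl

/-- Subgroup form of `Aniso.card_eq_four`. -/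
theorem card_eq_four_sub (P W : Subgroup G) (hWP : W ≤ P)
    (hW4 : Nat.card W = 4) (hWel : ∀ w ∈ W, w * w = 1)
    (hWc : ∀ w ∈ W, ∀ u ∈ P, w * u = u * w)
    (hsq : ∀ u ∈ P, u * u ∈ W) (han : ∀ u ∈ P, u * u = 1 → u ∈ W)
    (x d : G) (hxP : ∀ u ∈ P, x * u * x⁻¹ ∈ P) (hdP : ∀ u ∈ P, d * u * d⁻¹ ∈ P)
    (hx3 : x ^ 3 = 1) (hxW : ∀ w ∈ W, x * w = w * x) (hdW : ∀ w ∈ W, d * w * d⁻¹ ∈ W)
    (hdfree : ∀ w ∈ W, w ≠ 1 → d * w * d⁻¹ ≠ w)
    (hfree : ∀ u ∈ P, x * u = u * x → u ∈ W) : Nat.card P = 4 := by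
  refine Aniso.card_eq_four (P := P) (W.subgroupOf P) ?_ ?_ ?_ ?_ ?_
    (conjEquiv P d hdP) (conjEquiv P x hxP) ?_ ?_ ?_ ?_ ?_
  · intro z hz
    rw [Subgroup.mem_center_iff]
    intro u
    apply Subtype.ext
    exact (hWc z.1 (Subgroup.mem_subgroupOf.1 hz) u.1 u.2).symm
  · rw [Nat.card_congr (Subgroup.subgroupOfEquivOfLe hWP).toEquiv, hW4]
  · intro z hz
    apply Subtype.ext
    exact hWel z.1 (Subgroup.mem_subgroupOf.1 hz)
  · intro u
    rw [Subgroup.mem_subgroupOf]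
    exact hsq u.1 u.2
  · intro u hu
    rw [Subgroup.mem_subgroupOf]
    exact han u.1 u.2 (congrArg Subtype.val hu)
  · intro z hz
    rw [Subgroup.mem_subgroupOf] at hz ⊢
    exact hdW z.1 hz
  · intro z hz hz1 hfix
    rw [Subgroup.mem_subgroupOf] at hz
    have h1 : z.1 ≠ 1 := fun hh => hz1 (Subtype.ext hh)
    exact hdfree z.1 hz h1 (congrArg Subtype.val hfix)
  · intro u
    apply Subtype.ext
    rw [conjEquiv_coe, conjEquiv_coe, conjEquiv_coe]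
    have hx3' : x⁻¹ * x⁻¹ * x⁻¹ = 1 := by
      have : (x ^ 3)⁻¹ = 1 := by rw [hx3, inv_one]
      rw [← this]; group
    have hx3'' : x * x * x = 1 := by rw [← hx3, pow_succ, pow_succ, pow_one]
    calc x * (x * (x * u.1 * x⁻¹) * x⁻¹) * x⁻¹ = (x * x * x) * u.1 * (x⁻¹ * x⁻¹ * x⁻¹) := by group
      _ = u.1 := by rw [hx3', hx3'']; group
  · intro z hz
    rw [Subgroup.mem_subgroupOf] at hz
    apply Subtype.ext
    rw [conjEquiv_coe, hxW z.1 hz]; group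
  · intro u hu
    rw [Subgroup.mem_subgroupOf]
    apply hfree u.1 u.2
    have := congrArg Subtype.val hu
    rw [conjEquiv_coe] at this
    calc x * u.1 = (x * u.1 * x⁻¹) * x := by group
      _ = u.1 * x := by rw [this]

/-- Same hypotheses: `P = W`. -/
theorem eq_of_aniso (P W : Subgroup G) (hWP : W ≤ P)
    (hW4 : Nat.card W = 4) (hWel : ∀ w ∈ W, w * w = 1)
    (hWc : ∀ w ∈ W, ∀ u ∈ P, w * u = u * w)
    (hsq : ∀ u ∈ P, u * u ∈ W) (han : ∀ u ∈ P, u * u = 1 → u ∈ W)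
    (x d : G) (hxP : ∀ u ∈ P, x * u * x⁻¹ ∈ P) (hdP : ∀ u ∈ P, d * u * d⁻¹ ∈ P)
    (hx3 : x ^ 3 = 1) (hxW : ∀ w ∈ W, x * w = w * x) (hdW : ∀ w ∈ W, d * w * d⁻¹ ∈ W)
    (hdfree : ∀ w ∈ W, w ≠ 1 → d * w * d⁻¹ ≠ w)
    (hfree : ∀ u ∈ P, x * u = u * x → u ∈ W) : W = P := by
  have h4 := card_eq_four_sub P W hWP hW4 hWel hWc hsq han x d hxP hdP hx3 hxW hdW hdfree hfree
  exact Subgroup.eq_of_le_of_card_ge hWP (by rw [h4, hW4])

end Cfsg.Agent.helper16.AnisoB
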