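import Mathlib
import Cfsg.Agent.Lib_helper6_S2670y
import Cfsg.Agent.Lib_helper16_S2670x

set_option autoImplicit false
open Polynomial

namespace Cfsg.Agent.helper16.S2670t

variable {F : Type*} [Field F]

theorem X_sub_C_pow_inj (n : ℕ) (hn : 1 ≤ n) (a b : F)
    (h : (X - C a : F[X]) ^ n = (X - C b) ^ n) : a = b := by
  have h1 := congrArg (fun p : F[X] => p.eval a) h
  simp only [eval_pow, eval_sub, eval_X, eval_C, sub_self] at h1
  rw [zero_pow (by omega)] at h1
  have := pow_eq_zero_iff (n := n) (by omega) |>.1 h1.symm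
  exact sub_eq_zero.1 this

theorem X_sub_C_pow_dvd_iff (n r : ℕ) (hn : 1 ≤ n) (a : F) :
    (X - C a : F[X]) ^ n ∣ (X ^ r - C 1) ^ n ↔ a ^ r = 1 := by
  constructor
  · intro h
    have h1 : (X - C a : F[X]) ∣ (X ^ r - C 1) ^ n :=
      (dvd_pow_self _ (by omega)).trans h
    have h2 : (X - C a : F[X]) ∣ X ^ r - C 1 := (prime_X_sub_C a).dvd_of_dvd_pow h1
    rw [dvd_iff_isRoot] at h2
    simp only [IsRoot.def, eval_sub, eval_pow, eval_X, eval_C] at h2
    exact sub_eq_zero.1 h2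
  · intro h
    apply pow_dvd_pow_of_dvd
    rw [dvd_iff_isRoot]
    simp [h]

/-- PIECE T3. -/
theorem pieceT3 {F : Type*} [Field F] [Fintype F] (n r : ℕ) (hn : 1 ≤ n) (hr : r.Prime)
    (hrq : r ∣ Fintype.card F - 1) :
    Nat.card {f : F[X] // f.Monic ∧ f.natDegree = n ∧ f ∣ (X ^ r - C 1) ^ n ∧
        ¬ ∃ a : F, f = (X - C a) ^ n} + r = Nat.choose (n + r - 1) (r - 1) := by
  classical
  have hS5 := Cfsg.Agent.helper6.S2670y.pieceS5 (F := F) n r hr hrq
  obtain ⟨-, hS7, -⟩ := Cfsg.Agent.helper16.S2670x.pieceS7 (F := F) r hr hrq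
  set A := {f : F[X] // f.Monic ∧ f.natDegree = n ∧ f ∣ (X ^ r - C 1) ^ n} with hA
  have hpos : 0 < Nat.choose (n + r - 1) (r - 1) := Nat.choose_pos (by omega)
  haveI : Finite A := Nat.finite_of_card_ne_zero (by rw [hS5]; omega)
  haveI : Fintype A := Fintype.ofFinite A
  -- the scalar part
  have hSc : Nat.card {x : A // ∃ a : F, x.1 = (X - C a) ^ n} = r := by
    refine Eq.trans (Eq.symm ?_) hS7
    refine Nat.card_congr (Equiv.ofBijective
      (fun a : {μ : F // μ ^ r = 1} =>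
        (⟨⟨(X - C a.1) ^ n, (monic_X_sub_C a.1).pow n, by
            rw [natDegree_pow, natDegree_X_sub_C, mul_one],
            (X_sub_C_pow_dvd_iff n r hn a.1).2 a.2⟩, ⟨a.1, rfl⟩⟩ :
          {x : A // ∃ a : F, x.1 = (X - C a) ^ n})) ⟨?_, ?_⟩)
    · intro a b hab
      have h1 : (X - C a.1 : F[X]) ^ n = (X - C b.1) ^ n :=
        congrArg (fun x : {x : A // ∃ a : F, x.1 = (X - C a) ^ n} => x.1.1) hab
      exact Subtype.ext (X_sub_C_pow_inj n hn _ _ h1)
    · rintro ⟨⟨f, hf1, hf2, hf3⟩, a, ha⟩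
      have ha' : f = (X - C a) ^ n := ha
      have har : a ^ r = 1 := by
        rw [ha'] at hf3
        exact (X_sub_C_pow_dvd_iff n r hn a).1 hf3
      refine ⟨⟨a, har⟩, ?_⟩
      apply Subtype.ext; apply Subtype.ext
      exact ha'.symm
  -- the complement
  have hB : Nat.card {f : F[X] // f.Monic ∧ f.natDegree = n ∧ f ∣ (X ^ r - C 1) ^ n ∧
        ¬ ∃ a : F, f = (X - C a) ^ n} = Nat.card {x : A // ¬ ∃ a : F, x.1 = (X - C a) ^ n} := by
    refine Nat.card_congr ?_
    refine (Equiv.subtypeEquivRight (fun f => ?_)).trans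
      (Equiv.subtypeSubtypeEquivSubtypeInter
        (fun f : F[X] => f.Monic ∧ f.natDegree = n ∧ f ∣ (X ^ r - C 1) ^ n)
        (fun f : F[X] => ¬ ∃ a : F, f = (X - C a) ^ n)).symm
    tauto
  rw [hB, Nat.card_eq_fintype_card, Fintype.card_subtype_compl, ← Nat.card_eq_fintype_card,
    ← Nat.card_eq_fintype_card, hSc, hS5]
  have hle : r ≤ Nat.choose (n + r - 1) (r - 1) := by
    rw [← hS5, ← hSc]
    exact Nat.card_le_card_of_injective _ Subtype.val_injective
  omega

end Cfsg.Agent.helper16.S2670t
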