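import Mathlib
import Cfsg.Agent.Lib_helper16_S2670t

set_option autoImplicit false
open Polynomial

namespace Cfsg.Agent.helper16.S2670b

/-- PIECE B1 (the `∀ a, f ≠ _` form of T3). -/
theorem pieceB1 {F : Type*} [Field F] [Fintype F] (n r : ℕ) (hn : 1 ≤ n) (hr : r.Prime)
    (hrq : r ∣ Fintype.card F - 1) :
    Nat.card {f : F[X] // f.Monic ∧ f.natDegree = n ∧ f ∣ (X ^ r - C 1) ^ n ∧
      ∀ a : F, f ≠ (X - C a) ^ n} + r = Nat.choose (n + r - 1) (r - 1) := by
  rw [← Cfsg.Agent.helper16.S2670t.pieceT3 (F := F) n r hn hr hrq]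
  congr 1
  refine Nat.card_congr (Equiv.subtypeEquivRight (fun f => ?_))
  simp only [not_exists, ne_eq]

end Cfsg.Agent.helper16.S2670b
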