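import Mathlib
import Cfsg.Agent.Lib_helper6_S2670x

set_option autoImplicit false
open Polynomial

namespace Cfsg.Agent.helper16.S2670c

/-- PIECE B3: `c` not an `r`-th power. -/
theorem pieceB3 {F : Type*} [Field F] [Fintype F] (n r : ℕ) (hn : 1 ≤ n) (hr : r.Prime) (c : F)
    (hc : ∀ b : F, b ^ r ≠ c) :
    Nat.card {f : F[X] // f.Monic ∧ f.natDegree = n ∧ f ∣ (X ^ r - C c) ^ n ∧
      ∀ a : F, f ≠ (X - C a) ^ n} = if r ∣ n then 1 else 0 := by
  have key : ∀ f : F[X], f.Monic → f.natDegree = n → f ∣ (X ^ r - C c) ^ n →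
      r ∣ n ∧ f = (X ^ r - C c) ^ (n / r) :=
    fun f hf hd h => Cfsg.Agent.helper6.S2670x.pieceS4 n r hr c hc f hf hd h
  by_cases hrn : r ∣ n
  · rw [if_pos hrn]
    have hmon : (X ^ r - C c : F[X]).Monic := monic_X_pow_sub_C c hr.ne_zero
    have hdeg : (X ^ r - C c : F[X]).natDegree = r := natDegree_X_pow_sub_C
    have hpos : 1 ≤ n / r := by
      obtain ⟨k, rfl⟩ := hrn
      rw [Nat.mul_div_cancel_left _ hr.pos]
      rcases Nat.eq_zero_or_pos k with rfl | hk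
      · omega
      · exact hk
    have hmem : ((X ^ r - C c : F[X]) ^ (n / r)).Monic ∧
        ((X ^ r - C c : F[X]) ^ (n / r)).natDegree = n ∧
        (X ^ r - C c : F[X]) ^ (n / r) ∣ (X ^ r - C c) ^ n ∧
        ∀ a : F, (X ^ r - C c : F[X]) ^ (n / r) ≠ (X - C a) ^ n := by
      refine ⟨hmon.pow _, ?_, pow_dvd_pow _ (Nat.div_le_self n r), ?_⟩
      · rw [hmon.natDegree_pow, hdeg, Nat.div_mul_cancel hrn]
      · intro a h
        have h1 := congrArg (fun p : F[X] => p.eval a) h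
        simp only [eval_pow, eval_sub, eval_X, eval_C, sub_self] at h1
        rw [zero_pow (by omega)] at h1
        have h2 := pow_eq_zero_iff (n := n / r) (by omega) |>.1 h1
        exact hc a (sub_eq_zero.1 h2)
    rw [Nat.card_eq_one_iff_unique]
    refine ⟨⟨?_⟩, ⟨⟨_, hmem⟩⟩⟩
    rintro ⟨f, hf1, hf2, hf3, -⟩ ⟨g, hg1, hg2, hg3, -⟩
    apply Subtype.ext
    show f = g
    rw [(key f hf1 hf2 hf3).2, (key g hg1 hg2 hg3).2]
  · rw [if_neg hrn]
    haveI : IsEmpty {f : F[X] // f.Monic ∧ f.natDegree = n ∧ f ∣ (X ^ r - C c) ^ n ∧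
        ∀ a : F, f ≠ (X - C a) ^ n} := by
      refine ⟨?_⟩
      rintro ⟨f, hf1, hf2, hf3, -⟩
      exact hrn (key f hf1 hf2 hf3).1
    exact Nat.card_of_isEmpty

end Cfsg.Agent.helper16.S2670c
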