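import Mathlib

set_option autoImplicit false
open Polynomial

namespace Cfsg.Agent.helper16.S2670x

variable {F : Type*} [Field F]

theorem lin_natDegree (μ : F) (hμ : μ ≠ 0) : (C μ⁻¹ * X : F[X]).natDegree = 1 := by
  rw [natDegree_C_mul (inv_ne_zero hμ), natDegree_X]

theorem lin_leadingCoeff (μ : F) : (C μ⁻¹ * X : F[X]).leadingCoeff = μ⁻¹ := by
  rw [leadingCoeff_mul, leadingCoeff_C, leadingCoeff_X, mul_one]

theorem comp_X_sub_C (μ : F) (hμ : μ ≠ 0) (a : F) :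
    (X - C a : F[X]).comp (C μ⁻¹ * X) = C μ⁻¹ * (X - C (μ * a)) := by
  rw [sub_comp, X_comp, C_comp, mul_sub, ← C_mul, ← mul_assoc, inv_mul_cancel₀ hμ, one_mul]

theorem comp_X_pow_sub_C (μ : F) (hμ : μ ≠ 0) (r : ℕ) (c : F) :
    (X ^ r - C c : F[X]).comp (C μ⁻¹ * X) = C (μ⁻¹ ^ r) * (X ^ r - C (μ ^ r * c)) := by
  rw [sub_comp, pow_comp, X_comp, C_comp, mul_sub, ← C_mul, ← mul_assoc, mul_pow, ← C_pow,
    ← mul_pow, inv_mul_cancel₀ hμ, one_pow, one_mul]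

/-- PIECE S2. -/
theorem pieceS2 {F : Type*} [Field F] (n r : ℕ) (μ : F) (hμ : μ ≠ 0) (f : F[X]) (hf : f.Monic)
    (hd : f.natDegree = n) :
    (C (μ ^ n) * f.comp (C μ⁻¹ * X)).Monic ∧ (C (μ ^ n) * f.comp (C μ⁻¹ * X)).natDegree = n ∧
    (∀ c : F, f ∣ (X ^ r - C c) ^ n →
      (C (μ ^ n) * f.comp (C μ⁻¹ * X)) ∣ (X ^ r - C (μ ^ r * c)) ^ n) ∧
    (∀ a : F, f = (X - C a) ^ n → C (μ ^ n) * f.comp (C μ⁻¹ * X) = (X - C (μ * a)) ^ n) ∧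
    (∀ (c : F) (k : ℕ), f = (X ^ r - C c) ^ k → r * k = n →
      C (μ ^ n) * f.comp (C μ⁻¹ * X) = (X ^ r - C (μ ^ r * c)) ^ k) := by
  have hμn : μ ^ n ≠ 0 := pow_ne_zero n hμ
  have hlin1 : (C μ⁻¹ * X : F[X]).natDegree ≠ 0 := by rw [lin_natDegree μ hμ]; exact one_ne_zero
  have hdeg : (f.comp (C μ⁻¹ * X)).natDegree = n := by
    rw [natDegree_comp, hd, lin_natDegree μ hμ, mul_one]
  have hlc : (f.comp (C μ⁻¹ * X)).leadingCoeff = μ⁻¹ ^ n := by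
    rw [leadingCoeff_comp hlin1, hf.leadingCoeff, one_mul, lin_leadingCoeff, hd]
  refine ⟨?_, ?_, ?_, ?_, ?_⟩
  · rw [Monic, leadingCoeff_mul, leadingCoeff_C, hlc, ← mul_pow, mul_inv_cancel₀ hμ, one_pow]
  · rw [natDegree_C_mul hμn, hdeg]
  · intro c hc
    obtain ⟨g, hg⟩ := hc
    have h1 := congrArg (fun p : F[X] => p.comp (C μ⁻¹ * X)) hg
    simp only [mul_comp, pow_comp] at h1
    rw [comp_X_pow_sub_C μ hμ r c, mul_pow] at h1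
    -- (C (μ⁻¹^r))^n * (X^r - C (μ^r c))^n = f.comp * g.comp
    have hunit : (μ⁻¹ ^ r) ^ n ≠ 0 := pow_ne_zero _ (pow_ne_zero _ (inv_ne_zero hμ))
    refine ⟨C (((μ⁻¹ ^ r) ^ n)⁻¹ * (μ ^ n)⁻¹) * g.comp (C μ⁻¹ * X), ?_⟩
    have h2 : (X ^ r - C (μ ^ r * c) : F[X]) ^ n =
        C (((μ⁻¹ ^ r) ^ n)⁻¹) * (f.comp (C μ⁻¹ * X) * g.comp (C μ⁻¹ * X)) := by
      rw [← h1, ← mul_assoc, ← C_pow, ← C_mul, inv_mul_cancel₀ hunit, C_1, one_mul]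
    rw [h2]
    have h3 : C (μ ^ n) * f.comp (C μ⁻¹ * X) *
        (C (((μ⁻¹ ^ r) ^ n)⁻¹ * (μ ^ n)⁻¹) * g.comp (C μ⁻¹ * X)) =
        C (μ ^ n * (((μ⁻¹ ^ r) ^ n)⁻¹ * (μ ^ n)⁻¹)) *
          (f.comp (C μ⁻¹ * X) * g.comp (C μ⁻¹ * X)) := by
      rw [C_mul (a := μ ^ n)]; ring
    rw [h3]
    congr 2
    field_simp
  · intro a ha
    rw [ha, pow_comp, comp_X_sub_C μ hμ a, mul_pow, ← mul_assoc, ← C_pow, ← C_mul, ← mul_pow,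
      mul_inv_cancel₀ hμ, one_pow, C_1, one_mul]
  · intro c k hk hrk
    rw [hk, pow_comp, comp_X_pow_sub_C μ hμ r c, mul_pow, ← mul_assoc, ← C_pow, ← C_mul,
      ← pow_mul, hrk, ← mul_pow, mul_inv_cancel₀ hμ, one_pow, C_1, one_mul]

end Cfsg.Agent.helper16.S2670x
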