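import Mathlib

set_option autoImplicit false
set_option linter.unusedSectionVars false
set_option linter.unusedVariables false
set_option linter.style.haveILetI false

/-!
Group-theoretic lemmas for `p`-groups with cyclic centre and derived subgroup of order `p`
(helper22, for S4845).
-/

namespace Cfsg.Agent.helper22

universe u

section GT
variable {G : Type u} [Group G]

/-- a nontrivial normal subgroup of a finite `p`-group meets the centre nontrivially -/
theorem gd_exists_central_of_normal [Finite G] {p : ℕ} [Fact p.Prime] (hG : IsPGroup p G)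
    (N : Subgroup G) [N.Normal] (hN : N ≠ ⊥) :
    ∃ z ∈ N, z ∈ Subgroup.center G ∧ z ≠ 1 := by
  have hG' : IsPGroup p (ConjAct G) := hG.of_equiv ConjAct.toConjAct
  have hNp : IsPGroup p N := hG.to_subgroup N
  have hdvd : p ∣ Nat.card N := by
    rcases hNp.card_eq_or_dvd with h | h
    · exfalso
      apply hN
      exact (Subgroup.card_eq_one).mp h
    · exact h
  have h1 : (1 : N) ∈ MulAction.fixedPoints (ConjAct G) N := by
    intro g
    exact smul_one g
  obtain ⟨b, hb, hne⟩ :=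
    hG'.exists_fixed_point_of_prime_dvd_card_of_fixed_point (α := N) hdvd h1
  refine ⟨b, b.2, ?_, ?_⟩
  · rw [Subgroup.mem_center_iff]
    intro g
    have h2 := hb (ConjAct.toConjAct g)
    have h3 := congrArg Subtype.val h2
    rw [ConjAct.Subgroup.val_conj_smul, ConjAct.smul_def, ConjAct.ofConjAct_toConjAct] at h3
    calc g * (b : G) = g * (b : G) * g⁻¹ * g := by group
      _ = (b : G) * g := by rw [h3]
  · intro h
    apply hne
    apply Subtype.ext
    exact h.symm

theorem gd_pow_comm_central {c x m : G} (hm : m ∈ Subgroup.center G) (h : c * x = x * c * m)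
    (n : ℕ) : c ^ n * x = x * c ^ n * m ^ n := by
  induction n with
  | zero => simp
  | succ k ih =>
    have hmc : ∀ y : G, y * m = m * y := fun y => Subgroup.mem_center_iff.mp hm y
    have hmk : ∀ y : G, y * m ^ k = m ^ k * y := fun y =>
      Subgroup.mem_center_iff.mp (Subgroup.pow_mem _ hm k) y
    calc c ^ (k + 1) * x = c ^ k * (c * x) := by rw [pow_succ, mul_assoc]
      _ = c ^ k * (x * c * m) := by rw [h]
      _ = (c ^ k * x) * c * m := by simp only [mul_assoc]
      _ = x * c ^ k * m ^ k * c * m := by rw [ih]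
      _ = x * c ^ k * (m ^ k * c) * m := by simp only [mul_assoc]
      _ = x * c ^ k * (c * m ^ k) * m := by rw [hmk c]
      _ = x * (c ^ k * c) * (m ^ k * m) := by simp only [mul_assoc]
      _ = x * c ^ (k + 1) * m ^ (k + 1) := by rw [← pow_succ, ← pow_succ]

/-- if `G' ≤ Z(G)` has exponent `p` then `p`-th powers are central -/
theorem gd_pow_mem_center (p : ℕ) (hcomm : commutator G ≤ Subgroup.center G)
    (hexp : ∀ c ∈ commutator G, c ^ p = 1) (q : G) : q ^ p ∈ Subgroup.center G := by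
  rw [Subgroup.mem_center_iff]
  intro x
  have hm : q⁻¹ * x⁻¹ * q * x ∈ commutator G := by
    rw [commutator_def]
    have := Subgroup.commutator_mem_commutator (Subgroup.mem_top q⁻¹) (Subgroup.mem_top x⁻¹)
    rw [commutatorElement_def] at this
    simpa using this
  have h1 : q * x = x * q * (q⁻¹ * x⁻¹ * q * x) := by group
  have h2 := gd_pow_comm_central (hcomm hm) h1 p
  rw [hexp _ hm, mul_one] at h2
  exact h2.symm

theorem gd_pow_card_eq_one [Finite G] (H : Subgroup G) {z : G} (hz : z ∈ H) :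
    z ^ Nat.card H = 1 := by
  have h1 : (⟨z, hz⟩ : H) ^ Nat.card H = 1 := pow_card_eq_one'
  have h2 := congrArg Subtype.val h1
  rw [Subgroup.coe_pow, Subgroup.coe_one] at h2
  exact h2

/-- a subgroup of prime order is generated by any nontrivial element -/
theorem gd_le_zpowers_of_prime_card [Finite G] {p : ℕ} (hp : p.Prime) (H : Subgroup G)
    (hH : Nat.card H = p) {z : G} (hz : z ∈ H) (hz1 : z ≠ 1) : H ≤ Subgroup.zpowers z := by
  have h1 : orderOf z ∣ p := by
    rw [← hH]
    exact Subgroup.orderOf_dvd_natCard H hz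
  have h2 : orderOf z = p := by
    rcases (Nat.dvd_prime hp).mp h1 with h | h
    · exact absurd (orderOf_eq_one_iff.mp h) hz1
    · exact h
  have hle : Subgroup.zpowers z ≤ H := (Subgroup.zpowers_le).mpr hz
  have hcard : Nat.card H ≤ Nat.card (Subgroup.zpowers z) := by
    rw [Nat.card_zpowers, h2, hH]
  exact (Subgroup.eq_of_le_of_card_ge hle hcard).ge

/-- in a `p`-group, a derived subgroup of order `p` is central -/
theorem gd_commutator_le_center [Finite G] {p : ℕ} [hp : Fact p.Prime] (hG : IsPGroup p G)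
    (hc : Nat.card (commutator G) = p) : commutator G ≤ Subgroup.center G := by
  have hne : commutator G ≠ ⊥ := by
    intro h
    rw [h, Subgroup.card_bot] at hc
    exact hp.out.one_lt.ne hc
  obtain ⟨z, hzN, hzc, hz1⟩ := gd_exists_central_of_normal hG (commutator G) hne
  exact (gd_le_zpowers_of_prime_card hp.out _ hc hzN hz1).trans ((Subgroup.zpowers_le).mpr hzc)

/-- existence of a central subgroup of order `p` inside the derived subgroup -/
theorem gd_exists_central_subgroup [Finite G] {p : ℕ} [hp : Fact p.Prime] (hG : IsPGroup p G)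
    (hne : commutator G ≠ ⊥) :
    ∃ M : Subgroup G, M ≤ commutator G ∧ M ≤ Subgroup.center G ∧ Nat.card M = p := by
  obtain ⟨z, hzN, hzc, hz1⟩ := gd_exists_central_of_normal hG (commutator G) hne
  obtain ⟨K, hK⟩ : ∃ K : Subgroup G, K = commutator G ⊓ Subgroup.center G := ⟨_, rfl⟩
  have hzK : z ∈ K := by rw [hK]; exact ⟨hzN, hzc⟩
  have hKp : IsPGroup p K := hG.to_subgroup K
  have hdvd : p ∣ Nat.card K := by
    rcases hKp.card_eq_or_dvd with h | h
    · exfalso
      have h2 : K = ⊥ := (Subgroup.card_eq_one).mp h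
      rw [h2, Subgroup.mem_bot] at hzK
      exact hz1 hzK
    · exact h
  obtain ⟨w, hwK, hw⟩ : ∃ w : G, w ∈ K ∧ orderOf w = p := by
    obtain ⟨y, hy⟩ := exists_prime_orderOf_dvd_card' (G := K) p hdvd
    exact ⟨(y : G), y.2, by rw [Subgroup.orderOf_coe, hy]⟩
  rw [hK] at hwK
  refine ⟨Subgroup.zpowers w, (Subgroup.zpowers_le).mpr hwK.1,
    (Subgroup.zpowers_le).mpr hwK.2, ?_⟩
  rw [Nat.card_zpowers, hw]

/-- the centre of `G / M` is no larger than the centre of `G` when it is cyclic and `M` is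
central of order `p` -/
theorem gd_card_center_le [Finite G] {p : ℕ} (hp : p.Prime) (M : Subgroup G) [M.Normal]
    (hMc : M ≤ Subgroup.center G) (hM : Nat.card M = p)
    (hcyc : IsCyclic (Subgroup.center (G ⧸ M))) :
    Nat.card (Subgroup.center (G ⧸ M)) ≤ Nat.card (Subgroup.center G) := by
  obtain ⟨g, hg⟩ := hcyc.exists_generator
  obtain ⟨c, hc⟩ := QuotientGroup.mk_surjective (g : G ⧸ M)
  have hcp : c ^ p ∈ Subgroup.center G := by
    rw [Subgroup.mem_center_iff]
    intro x
    have hm : c⁻¹ * x⁻¹ * c * x ∈ M := by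
      rw [← QuotientGroup.eq_one_iff]
      simp only [QuotientGroup.mk_mul, QuotientGroup.mk_inv]
      rw [hc]
      have h1 := Subgroup.mem_center_iff.mp g.2 (x : G ⧸ M)
      calc ((g : G ⧸ M))⁻¹ * ((x : G ⧸ M))⁻¹ * (g : G ⧸ M) * (x : G ⧸ M)
          = ((g : G ⧸ M))⁻¹ * ((x : G ⧸ M))⁻¹ * ((g : G ⧸ M) * (x : G ⧸ M)) := by group
        _ = ((g : G ⧸ M))⁻¹ * ((x : G ⧸ M))⁻¹ * ((x : G ⧸ M) * (g : G ⧸ M)) := by rw [h1]
        _ = 1 := by group
    have h1 : c * x = x * c * (c⁻¹ * x⁻¹ * c * x) := by group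
    have h2 := gd_pow_comm_central (hMc hm) h1 p
    have h3 : (c⁻¹ * x⁻¹ * c * x) ^ p = 1 := by
      have := gd_pow_card_eq_one M hm
      rwa [hM] at this
    rw [h3, mul_one] at h2
    exact h2.symm
  obtain ⟨Z, hZ⟩ : ∃ Z : Subgroup G, Z = Subgroup.center G := ⟨_, rfl⟩
  obtain ⟨f, hf⟩ : ∃ f : G →* G ⧸ M, f = QuotientGroup.mk' M := ⟨_, rfl⟩
  have hMZ : M ≤ Z := by rw [hZ]; exact hMc
  have hidx : (Z.map f).index = Z.index := by
    rw [Subgroup.index_map, hf, QuotientGroup.ker_mk', sup_eq_left.mpr hMZ,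
      MonoidHom.range_eq_top.mpr (QuotientGroup.mk'_surjective M), Subgroup.index_top, mul_one]
  have hcard1 : Nat.card Z = p * Nat.card (Z.map f) := by
    have h1 := Subgroup.card_mul_index Z
    have h2 := Subgroup.card_mul_index (Z.map f)
    have h3 := Subgroup.card_mul_index M
    rw [Subgroup.index_eq_card] at h3
    rw [hidx] at h2
    have hpos : 0 < Z.index := Nat.pos_of_ne_zero Subgroup.index_ne_zero_of_finite
    have h4 : Nat.card Z * Z.index = p * Nat.card (Z.map f) * Z.index := by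
      rw [h1, ← h3, hM, ← h2, mul_assoc]
    exact Nat.eq_of_mul_eq_mul_right hpos h4
  have hmem : (g : G ⧸ M) ^ p ∈ Z.map f := by
    refine ⟨c ^ p, by rw [hZ]; exact hcp, ?_⟩
    rw [hf, map_pow, QuotientGroup.mk'_apply, hc]
  have hord : orderOf ((g : G ⧸ M) ^ p) ≤ Nat.card (Z.map f) :=
    Nat.le_of_dvd Nat.card_pos (Subgroup.orderOf_dvd_natCard _ hmem)
  have hr : Nat.card (Subgroup.center (G ⧸ M)) = orderOf (g : G ⧸ M) := by
    rw [Subgroup.orderOf_coe, orderOf_eq_card_of_forall_mem_zpowers hg]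
  rw [hr, ← hZ, hcard1]
  rw [orderOf_pow' _ hp.ne_zero] at hord
  have hgcd : Nat.gcd (orderOf (g : G ⧸ M)) p ≤ p := Nat.gcd_le_right _ hp.pos
  have hdv : Nat.gcd (orderOf (g : G ⧸ M)) p ∣ orderOf (g : G ⧸ M) := Nat.gcd_dvd_left _ _
  calc orderOf (g : G ⧸ M)
      = Nat.gcd (orderOf (g : G ⧸ M)) p *
          (orderOf (g : G ⧸ M) / Nat.gcd (orderOf (g : G ⧸ M)) p) :=
        (Nat.mul_div_cancel' hdv).symm
    _ ≤ p * (orderOf (g : G ⧸ M) / Nat.gcd (orderOf (g : G ⧸ M)) p) :=
        Nat.mul_le_mul_right _ hgcd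
    _ ≤ p * Nat.card (Z.map f) := Nat.mul_le_mul_left _ hord

/-- a bound for the exponent of `G` -/
theorem gd_pow_eq_one [Finite G] {p : ℕ} (hp : p.Prime) (M : Subgroup G) [M.Normal]
    (hM : Nat.card M = p)
    (hcomm : commutator (G ⧸ M) ≤ Subgroup.center (G ⧸ M))
    (hc : Nat.card (commutator (G ⧸ M)) = p) (g : G) :
    g ^ (p * Nat.card (Subgroup.center (G ⧸ M)) * p) = 1 := by
  have h1 : ((g : G ⧸ M)) ^ p ∈ Subgroup.center (G ⧸ M) :=
    gd_pow_mem_center p hcomm (fun c hcm => by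
      have := gd_pow_card_eq_one _ hcm
      rwa [hc] at this) _
  have h2 := gd_pow_card_eq_one _ h1
  have h3 : g ^ (p * Nat.card (Subgroup.center (G ⧸ M))) ∈ M := by
    rw [← QuotientGroup.eq_one_iff, QuotientGroup.mk_pow, pow_mul]
    exact h2
  have h4 := gd_pow_card_eq_one M h3
  rw [hM, ← pow_mul] at h4
  exact h4

end GT

/-- a homomorphism from a cyclic `p`-group to `ℂ` that is nontrivial on an element of order
dividing `p` is injective -/
theorem gd_injective_of_cyclic {C : Type u} [Group C] [Finite C] [IsCyclic C] {p : ℕ}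
    [hp : Fact p.Prime] (hC : IsPGroup p C) (f : C →* ℂ) (c : C) (hcp : c ^ p = 1)
    (hfc : f c ≠ 1) : Function.Injective f := by
  rw [injective_iff_map_eq_one]
  intro y hy
  by_contra hy1
  obtain ⟨z₀, hz₀⟩ := IsCyclic.exists_generator (α := C)
  have hn : orderOf z₀ = Nat.card C := orderOf_eq_card_of_forall_mem_zpowers hz₀
  obtain ⟨N, hN⟩ := IsPGroup.iff_card.mp hC
  obtain ⟨a, ha⟩ : ∃ a : ℕ, z₀ ^ a = y := by
    have h1 := hz₀ y
    rw [← mem_powers_iff_mem_zpowers] at h1
    exact h1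
  obtain ⟨b, hb⟩ : ∃ b : ℕ, z₀ ^ b = c := by
    have h1 := hz₀ c
    rw [← mem_powers_iff_mem_zpowers] at h1
    exact h1
  obtain ⟨ξ, hξ⟩ : ∃ ξ : ℂ, ξ = f z₀ := ⟨_, rfl⟩
  have hξa : ξ ^ a = 1 := by rw [hξ, ← map_pow, ha, hy]
  have hξn : ξ ^ (p ^ N) = 1 := by rw [hξ, ← map_pow, ← hN, ← hn, pow_orderOf_eq_one, map_one]
  have ho1 : orderOf ξ ∣ a := orderOf_dvd_of_pow_eq_one hξa
  have ho2 : orderOf ξ ∣ p ^ N := orderOf_dvd_of_pow_eq_one hξn
  obtain ⟨e, heN, he⟩ := (Nat.dvd_prime_pow hp.out).mp ho2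
  have hlt : e < N := by
    rcases lt_or_eq_of_le heN with h | h
    · exact h
    · exfalso
      apply hy1
      rw [← ha]
      have h5 : orderOf z₀ ∣ a := by
        rw [hn, hN, ← h, ← he]
        exact ho1
      exact orderOf_dvd_iff_pow_eq_one.mp h5
  have h1 : z₀ ^ (b * p) = 1 := by rw [pow_mul, hb, hcp]
  have h2 : p ^ N ∣ b * p := by
    rw [← hN, ← hn]
    exact orderOf_dvd_of_pow_eq_one h1
  have h3 : p ^ (N - 1) ∣ b := by
    obtain ⟨N', rfl⟩ : ∃ N', N = N' + 1 := ⟨N - 1, by omega⟩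
    rw [pow_succ] at h2
    simp only [Nat.add_sub_cancel]
    exact Nat.dvd_of_mul_dvd_mul_right hp.out.pos h2
  have h4 : orderOf ξ ∣ b := by
    rw [he]
    exact (pow_dvd_pow p (by omega)).trans h3
  apply hfc
  rw [← hb, map_pow, ← hξ]
  exact orderOf_dvd_iff_pow_eq_one.mp h4

end Cfsg.Agent.helper22
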