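import Mathlib
import Cfsg.Prelude.Def_Transfer
import Cfsg.Agent.Lib_helper22_GalDegA

set_option autoImplicit false
set_option maxHeartbeats 1000000

/-!
helper17: PIECE C of the S3739 swarm (lead note 916): `C1` and `C2`.
-/

namespace Cfsg.Agent.helper17.S3739x

variable {G : Type*} [Group G]

/-- adjoin to `W` an involution `t` centralizing `W`: the subgroup `W ∪ W t`. -/
def adj (W : Subgroup G) (t : G) (ht2 : t * t = 1) (htc : ∀ w ∈ W, t * w = w * t) :
    Subgroup G where
  carrier := {g | g ∈ W ∨ g * t ∈ W}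
  one_mem' := Or.inl W.one_mem
  mul_mem' := by
    intro a b ha hb
    rcases ha with ha | ha <;> rcases hb with hb | hb
    · left
      exact W.mul_mem ha hb
    · right
      show a * b * t ∈ W
      rw [mul_assoc]
      exact W.mul_mem ha hb
    · right
      show a * b * t ∈ W
      have : a * b * t = (a * t) * b := by
        rw [mul_assoc, ← htc b hb, ← mul_assoc]
      rw [this]
      exact W.mul_mem ha hb
    · left
      have : a * b = (a * t) * (b * t) := by
        rw [mul_assoc a t, htc (b * t) hb, mul_assoc b t t, ht2, mul_one]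
      rw [this]
      exact W.mul_mem ha hb
  inv_mem' := by
    intro a ha
    rcases ha with ha | ha
    · left
      exact W.inv_mem ha
    · right
      show a⁻¹ * t ∈ W
      have h1 : a = (a * t) * t := by rw [mul_assoc, ht2, mul_one]
      have h2 : a⁻¹ * t = (a * t)⁻¹ := by
        have h3 : t * (a * t)⁻¹ = (a * t)⁻¹ * t := htc _ (W.inv_mem ha)
        calc a⁻¹ * t = ((a * t) * t)⁻¹ * t := by rw [← h1]
          _ = t⁻¹ * (a * t)⁻¹ * t := by rw [mul_inv_rev]
          _ = t⁻¹ * ((a * t)⁻¹ * t) := by rw [mul_assoc]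
          _ = t⁻¹ * (t * (a * t)⁻¹) := by rw [h3]
          _ = (a * t)⁻¹ := by rw [← mul_assoc, inv_mul_cancel, one_mul]
      rw [h2]
      exact W.inv_mem ha

theorem mem_adj {W : Subgroup G} {t : G} {ht2 : t * t = 1} {htc : ∀ w ∈ W, t * w = w * t}
    {g : G} : g ∈ adj W t ht2 htc ↔ g ∈ W ∨ g * t ∈ W := Iff.rfl

theorem card_adj [Finite G] (W : Subgroup G) (t : G) (ht2 : t * t = 1)
    (htc : ∀ w ∈ W, t * w = w * t) (htW : t ∉ W) :
    Nat.card (adj W t ht2 htc) = 2 * Nat.card W := by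
  classical
  have h1 : Nat.card (adj W t ht2 htc) = ((adj W t ht2 htc : Subgroup G) : Set G).ncard :=
    Nat.card_coe_set_eq _
  have h2 : Nat.card W = ((W : Subgroup G) : Set G).ncard := Nat.card_coe_set_eq _
  have h3 : ((adj W t ht2 htc : Subgroup G) : Set G) =
      (W : Set G) ∪ (fun g => g * t) '' (W : Set G) := by
    ext g
    constructor
    · intro hg
      rcases hg with hg | hg
      · exact Or.inl hg
      · right
        refine ⟨g * t, hg, ?_⟩
        show g * t * t = g
        rw [mul_assoc, ht2, mul_one]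
    · intro hg
      rcases hg with hg | ⟨w, hw, rfl⟩
      · exact Or.inl hg
      · right
        show w * t * t ∈ W
        rw [mul_assoc, ht2, mul_one]
        exact hw
  have h4 : Disjoint (W : Set G) ((fun g => g * t) '' (W : Set G)) := by
    rw [Set.disjoint_left]
    rintro g hg ⟨w, hw, hwg⟩
    apply htW
    have h5 : t = w⁻¹ * g := by
      rw [← hwg]
      group
    rw [h5]
    exact W.mul_mem (W.inv_mem hw) hg
  have h5 : ((fun g => g * t) '' (W : Set G)).ncard = (W : Set G).ncard :=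
    Set.ncard_image_of_injective _ (mul_left_injective t)
  rw [h1, h3, Set.ncard_union_eq h4 (Set.toFinite _) (Set.toFinite _), h5, ← h2]
  ring

theorem elemAb_adj (W : Subgroup G) (hW : Cfsg.IsElementaryAbelian 2 W) (t : G) (ht2 : t * t = 1)
    (htc : ∀ w ∈ W, t * w = w * t) : Cfsg.IsElementaryAbelian 2 (adj W t ht2 htc) := by
  obtain ⟨hWc, hW2⟩ := hW
  have hcomm : ∀ a ∈ W, ∀ b ∈ W, a * b = b * a := by
    intro a ha b hb
    have := hWc.is_comm.comm ⟨a, ha⟩ ⟨b, hb⟩
    exact congrArg Subtype.val this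
  -- every element of adj is `w` or `w * t` with `w ∈ W`
  have hform : ∀ g ∈ adj W t ht2 htc, ∃ w ∈ W, g = w ∨ g = w * t := by
    intro g hg
    rcases hg with hg | hg
    · exact ⟨g, hg, Or.inl rfl⟩
    · refine ⟨g * t, hg, Or.inr ?_⟩
      rw [mul_assoc, ht2, mul_one]
  have hcomm2 : ∀ a ∈ adj W t ht2 htc, ∀ b ∈ adj W t ht2 htc, a * b = b * a := by
    intro a ha b hb
    obtain ⟨w, hw, h | h⟩ := hform a ha <;> obtain ⟨v, hv, h' | h'⟩ := hform b hb
    · rw [h, h']; exact hcomm w hw v hv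
    · rw [h, h']
      calc w * (v * t) = (w * v) * t := by rw [mul_assoc]
        _ = (v * w) * t := by rw [hcomm w hw v hv]
        _ = v * (w * t) := by rw [mul_assoc]
        _ = v * (t * w) := by rw [htc w hw]
        _ = v * t * w := by rw [mul_assoc]
    · rw [h, h']
      calc w * t * v = w * (t * v) := by rw [mul_assoc]
        _ = w * (v * t) := by rw [htc v hv]
        _ = (w * v) * t := by rw [mul_assoc]
        _ = (v * w) * t := by rw [hcomm w hw v hv]
        _ = v * (w * t) := by rw [mul_assoc]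
    · rw [h, h']
      calc w * t * (v * t) = w * (t * v) * t := by simp only [mul_assoc]
        _ = w * (v * t) * t := by rw [htc v hv]
        _ = (w * v) * t * t := by simp only [mul_assoc]
        _ = (v * w) * t * t := by rw [hcomm w hw v hv]
        _ = v * (w * t) * t := by simp only [mul_assoc]
        _ = v * (t * w) * t := by rw [htc w hw]
        _ = v * t * (w * t) := by simp only [mul_assoc]
  refine ⟨⟨⟨?_⟩⟩, ?_⟩
  · rintro ⟨a, ha⟩ ⟨b, hb⟩
    exact Subtype.ext (hcomm2 a ha b hb)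
  · intro a ha
    obtain ⟨w, hw, h | h⟩ := hform a ha
    · rw [h]; exact hW2 w hw
    · rw [h, sq]
      calc w * t * (w * t) = w * (t * w) * t := by simp only [mul_assoc]
        _ = w * (w * t) * t := by rw [htc w hw]
        _ = (w * w) * (t * t) := by simp only [mul_assoc]
        _ = 1 := by rw [ht2, mul_one, ← sq, hW2 w hw]


theorem conj_comm {x t v : G} (hxt : x * t = t * x) :
    t * (x * v * x⁻¹) * t⁻¹ = x * (t * v * t⁻¹) * x⁻¹ := by
  have h1 : t * x = x * t := hxt.symm
  have h2 : x⁻¹ * t⁻¹ = t⁻¹ * x⁻¹ := by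
    rw [← mul_inv_rev, ← mul_inv_rev, hxt]
  calc t * (x * v * x⁻¹) * t⁻¹ = (t * x) * v * (x⁻¹ * t⁻¹) := by simp only [mul_assoc]
    _ = (x * t) * v * (t⁻¹ * x⁻¹) := by rw [h1, h2]
    _ = x * (t * v * t⁻¹) * x⁻¹ := by simp only [mul_assoc]

/-- PIECE C1. -/
theorem C1 [Finite G]
    (hno : ¬ ∃ E : Subgroup G, Cfsg.IsElementaryAbelian 2 E ∧ Nat.card E = 8)
    (W : Subgroup G) (hW : Cfsg.IsElementaryAbelian 2 W) (hW4 : Nat.card W = 4)
    (hWn : ∀ g : G, ∀ w ∈ W, g * w * g⁻¹ ∈ W) (hsix : ∃ g : G, orderOf g = 6) :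
    ∃ x : G, orderOf x = 3 ∧ ∀ w ∈ W, x * w = w * x := by
  classical
  obtain ⟨g, hg⟩ := hsix
  have hg6 : g ^ 6 = 1 := by rw [← hg]; exact pow_orderOf_eq_one g
  have hx3 : orderOf (g ^ 2) = 3 := by
    rw [orderOf_pow' g (by norm_num : (2 : ℕ) ≠ 0), hg]
    rfl
  have ht2o : orderOf (g ^ 3) = 2 := by
    rw [orderOf_pow' g (by norm_num : (3 : ℕ) ≠ 0), hg]
    rfl
  set x := g ^ 2 with hxdef
  set t := g ^ 3 with htdef
  have hxxx : x ^ 3 = 1 := by rw [← hx3]; exact pow_orderOf_eq_one x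
  have ht2 : t * t = 1 := by
    rw [← sq, ← ht2o]; exact pow_orderOf_eq_one t
  have ht1 : t ≠ 1 := by
    intro h
    rw [h, orderOf_one] at ht2o
    omega
  have htinv : t⁻¹ = t := inv_eq_of_mul_eq_one_right ht2
  have hxt : x * t = t * x := ((Commute.refl g).pow_pow 2 3).eq
  refine ⟨x, hx3, ?_⟩
  by_contra hcon
  obtain ⟨w1, hw1'⟩ := not_forall.mp hcon
  obtain ⟨hw1, hmove⟩ := Classical.not_imp.mp hw1'
  -- the orbit
  set w2 := x * w1 * x⁻¹ with hw2def
  set w3 := x * w2 * x⁻¹ with hw3def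
  have hw2 : w2 ∈ W := hWn x w1 hw1
  have hw3 : w3 ∈ W := hWn x w2 hw2
  have hback : x * w3 * x⁻¹ = w1 := by
    have : x * w3 * x⁻¹ = x ^ 3 * w1 * (x ^ 3)⁻¹ := by
      rw [hw3def, hw2def]
      simp only [pow_succ, pow_zero, one_mul, mul_inv_rev, mul_assoc]
    rw [this, hxxx]
    group
  have h12 : w1 ≠ w2 := by
    intro h
    apply hmove
    calc x * w1 = (x * w1 * x⁻¹) * x := by group
      _ = w1 * x := by rw [← hw2def, ← h]
  have h23 : w2 ≠ w3 := by
    intro h
    apply h12
    -- conj by x⁻¹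
    have e1 : w1 = x⁻¹ * w2 * x := by rw [hw2def]; group
    have e2 : w2 = x⁻¹ * w3 * x := by rw [hw3def]; group
    calc w1 = x⁻¹ * w2 * x := e1
      _ = x⁻¹ * w3 * x := by rw [← h]
      _ = w2 := e2.symm
  have h31 : w3 ≠ w1 := by
    intro h
    apply h12
    -- conj by x: x w3 x⁻¹ = w1, x w1 x⁻¹ = w2
    calc w1 = x * w3 * x⁻¹ := hback.symm
      _ = x * w1 * x⁻¹ := by rw [h]
      _ = w2 := rfl
  have hw1ne : w1 ≠ 1 := by
    intro h
    apply hmove
    rw [h, mul_one, one_mul]
  have hw2ne : w2 ≠ 1 := by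
    intro h
    apply hw1ne
    have e1 : w1 = x⁻¹ * w2 * x := by rw [hw2def]; group
    rw [e1, h]
    group
  have hw3ne : w3 ≠ 1 := by
    intro h
    apply hw2ne
    have e2 : w2 = x⁻¹ * w3 * x := by rw [hw3def]; group
    rw [e2, h]
    group
  -- W = {1, w1, w2, w3}
  have hWset : ∀ v ∈ W, v = 1 ∨ v = w1 ∨ v = w2 ∨ v = w3 := by
    have hsub : ({1, w1, w2, w3} : Set G) ⊆ (W : Set G) := by
      intro v hv
      simp only [Set.mem_insert_iff, Set.mem_singleton_iff] at hv
      rcases hv with rfl | rfl | rfl | rfl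
      · exact W.one_mem
      · exact hw1
      · exact hw2
      · exact hw3
    have hcard : ({1, w1, w2, w3} : Set G).ncard = 4 := by
      rw [Set.ncard_insert_of_notMem, Set.ncard_insert_of_notMem, Set.ncard_insert_of_notMem,
        Set.ncard_singleton]
      · simp only [Set.mem_singleton_iff]; exact h23
      · simp only [Set.mem_insert_iff, Set.mem_singleton_iff, not_or]
        exact ⟨h12, h31.symm⟩
      · simp only [Set.mem_insert_iff, Set.mem_singleton_iff, not_or]
        exact ⟨hw1ne.symm, hw2ne.symm, hw3ne.symm⟩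
    have hWc : (W : Set G).ncard = 4 := by
      rw [← hW4]; exact (Nat.card_coe_set_eq _).symm
    have heq : ({1, w1, w2, w3} : Set G) = (W : Set G) :=
      Set.eq_of_subset_of_ncard_le hsub (by rw [hcard, hWc]) (Set.toFinite _)
    intro v hv
    have : v ∈ ({1, w1, w2, w3} : Set G) := by rw [heq]; exact hv
    simpa only [Set.mem_insert_iff, Set.mem_singleton_iff] using this
  -- action of t
  have hv : t * w1 * t⁻¹ ∈ W := hWn t w1 hw1
  have htt_conj : ∀ v : G, t * (t * v * t⁻¹) * t⁻¹ = v := by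
    intro v
    calc t * (t * v * t⁻¹) * t⁻¹ = (t * t) * v * (t * t)⁻¹ := by
          simp only [mul_inv_rev, mul_assoc]
      _ = v := by rw [ht2]; group
  have hv1 : t * w1 * t⁻¹ ≠ 1 := by
    intro h
    apply hw1ne
    have := htt_conj w1
    rw [h] at this
    rw [← this]
    group
  rcases hWset _ hv with h | h | h | h
  · exact hv1 h
  · -- t centralizes w1, hence W
    have hc1 : t * w1 * t⁻¹ = w1 := h
    have hc2 : t * w2 * t⁻¹ = w2 := by
      rw [hw2def, conj_comm hxt, hc1]
    have hc3 : t * w3 * t⁻¹ = w3 := by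
      rw [hw3def, conj_comm hxt, hc2]
    have htc : ∀ w ∈ W, t * w = w * t := by
      intro w hw
      have key : t * w * t⁻¹ = w := by
        rcases hWset w hw with rfl | rfl | rfl | rfl
        · group
        · exact hc1
        · exact hc2
        · exact hc3
      calc t * w = (t * w * t⁻¹) * t := by group
        _ = w * t := by rw [key]
    have hxtc : x * t * x⁻¹ = t := by
      calc x * t * x⁻¹ = (x * t) * x⁻¹ := by group
        _ = (t * x) * x⁻¹ := by rw [hxt]
        _ = t := by group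
    have htW : t ∉ W := by
      intro htW
      rcases hWset t htW with h' | h' | h' | h'
      · exact ht1 h'
      · apply h12
        calc w1 = t := h'.symm
          _ = x * t * x⁻¹ := hxtc.symm
          _ = x * w1 * x⁻¹ := by rw [h']
          _ = w2 := rfl
      · apply h23
        calc w2 = t := h'.symm
          _ = x * t * x⁻¹ := hxtc.symm
          _ = x * w2 * x⁻¹ := by rw [h']
          _ = w3 := rfl
      · apply h31
        calc w3 = t := h'.symm
          _ = x * t * x⁻¹ := hxtc.symm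
          _ = x * w3 * x⁻¹ := by rw [h']
          _ = w1 := hback
    apply hno
    refine ⟨adj W t ht2 htc, elemAb_adj W hW t ht2 htc, ?_⟩
    rw [card_adj W t ht2 htc htW, hW4]
  · -- t w1 t⁻¹ = w2
    have e1 : t * w2 * t⁻¹ = w3 := by
      rw [hw2def, conj_comm hxt, h]
    have := htt_conj w1
    rw [h, e1] at this
    exact h31 this
  · -- t w1 t⁻¹ = w3
    have e2 : t * w2 * t⁻¹ = w1 := by
      rw [hw2def, conj_comm hxt, h]
      exact hback
    have e3 : t * w3 * t⁻¹ = w2 := by
      rw [hw3def, conj_comm hxt, e2]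
    have := htt_conj w1
    rw [h, e3] at this
    exact h12 this.symm


/-- PIECE C2. -/
theorem C2 [Finite G] (W : Subgroup G) (hWn : ∀ g : G, ∀ w ∈ W, g * w * g⁻¹ ∈ W) (x0 : G)
    (hx0 : orderOf x0 = 3) (hx0W : ∀ w ∈ W, x0 * w = w * x0) (d : G)
    (hd : IsPGroup 3 ↥(Subgroup.zpowers d)) :
    ∃ x : G, orderOf x = 3 ∧ (∀ w ∈ W, x * w = w * x) ∧ x * d = d * x := by
  haveI : Fact (Nat.Prime 3) := ⟨Nat.prime_three⟩
  haveI hWnormal : W.Normal := ⟨fun w hw g => hWn g w hw⟩
  set C := Subgroup.centralizer (W : Set G) with hC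
  have hCn : C.Normal := Subgroup.normal_centralizer
  obtain ⟨T, hT⟩ := hd.exists_le_sylow
  have hdT : d ∈ (T : Subgroup G) := hT (Subgroup.mem_zpowers d)
  have h3 : IsPGroup 3 (Subgroup.zpowers x0) :=
    IsPGroup.of_card (n := 1) (by rw [Nat.card_zpowers, hx0]; norm_num)
  obtain ⟨T', hT'⟩ := h3.exists_le_sylow
  obtain ⟨g, hgT⟩ := MulAction.exists_smul_eq G T T'
  have hx0T' : x0 ∈ (T' : Subgroup G) := hT' (Subgroup.mem_zpowers x0)
  have hx1T : g⁻¹ * x0 * g ∈ (T : Subgroup G) := by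
    rw [← hgT, Sylow.coe_subgroup_smul, Subgroup.mem_pointwise_smul_iff_inv_smul_mem] at hx0T'
    have e : (MulAut.conj g)⁻¹ • x0 = g⁻¹ * x0 * g := by
      rw [MulAut.smul_def, ← map_inv, MulAut.conj_apply, inv_inv]
    rw [e] at hx0T'
    exact hx0T'
  have hx0C : x0 ∈ C := by
    rw [hC, Subgroup.mem_centralizer_iff]
    intro w hw
    exact (hx0W w hw).symm
  have hx1C : g⁻¹ * x0 * g ∈ C := by
    have := hCn.conj_mem x0 hx0C g⁻¹
    rwa [inv_inv] at this
  have hx1ne : g⁻¹ * x0 * g ≠ 1 := by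
    intro h
    have : x0 = g * (g⁻¹ * x0 * g) * g⁻¹ := by group
    rw [h] at this
    have h1 : x0 = 1 := by rw [this]; group
    rw [h1, orderOf_one] at hx0
    omega
  -- the normal subgroup C ∩ T of T
  have hN : C.subgroupOf (T : Subgroup G) ≠ ⊥ := by
    intro h
    apply hx1ne
    have hmem : (⟨g⁻¹ * x0 * g, hx1T⟩ : (T : Subgroup G)) ∈ C.subgroupOf (T : Subgroup G) :=
      Subgroup.mem_subgroupOf.mpr hx1C
    rw [h, Subgroup.mem_bot] at hmem
    exact congrArg Subtype.val hmem
  obtain ⟨z, hzN, hzc, hz1⟩ :=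
    Cfsg.Agent.helper22.gd_exists_central_of_normal (p := 3) T.isPGroup'
      (C.subgroupOf (T : Subgroup G)) hN
  -- Cauchy in the 3-group N ⊓ Z(T)
  set Zc : Subgroup (T : Subgroup G) :=
    C.subgroupOf (T : Subgroup G) ⊓ Subgroup.center (T : Subgroup G) with hZc
  have hZc3 : IsPGroup 3 Zc := T.isPGroup'.to_subgroup Zc
  have hZcne : Nat.card Zc ≠ 1 := by
    intro h
    have hbot : Zc = ⊥ := Subgroup.card_eq_one.mp h
    have hz : z ∈ Zc := ⟨hzN, hzc⟩
    rw [hbot, Subgroup.mem_bot] at hz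
    exact hz1 hz
  have hdvd : 3 ∣ Nat.card Zc := by
    rcases hZc3.card_eq_or_dvd with h | h
    · exact absurd h hZcne
    · exact h
  obtain ⟨y, hy⟩ := exists_prime_orderOf_dvd_card' 3 hdvd
  refine ⟨((y : (T : Subgroup G)) : G), ?_, ?_, ?_⟩
  · rw [Subgroup.orderOf_coe, Subgroup.orderOf_coe]
    exact hy
  · intro w hw
    have h1 : ((y : (T : Subgroup G)) : G) ∈ C := Subgroup.mem_subgroupOf.mp y.2.1
    rw [hC, Subgroup.mem_centralizer_iff] at h1
    exact (h1 w hw).symm
  · have h1 : (y : (T : Subgroup G)) ∈ Subgroup.center (T : Subgroup G) := y.2.2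
    rw [Subgroup.mem_center_iff] at h1
    have h2 := h1 ⟨d, hdT⟩
    have h3 := congrArg Subtype.val h2
    exact h3.symm

end Cfsg.Agent.helper17.S3739x
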