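import Mathlib
import Cfsg.Prelude.Def_Transfer

set_option autoImplicit false

namespace Cfsg.Agent.helper3.S3739x

variable {G : Type*} [Group G] [Finite G]

/-- A subgroup of order 4 is `{1, a, b, a * b}` for any two distinct non-identity elements `a, b`
with `b * b = 1`. -/
theorem enum_four (W : Subgroup G) (h4 : Nat.card W = 4) (a b : G) (ha : a ∈ W) (hb : b ∈ W)
    (ha1 : a ≠ 1) (hb1 : b ≠ 1) (hab : a ≠ b) (hbb : b * b = 1) :
    ∀ x ∈ W, x = 1 ∨ x = a ∨ x = b ∨ x = a * b := by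
  classical
  have h3 : (1 : G) ≠ a * b := by
    intro h
    apply hab
    have h1 : a = b⁻¹ := eq_inv_of_mul_eq_one_left h.symm
    rw [h1]
    exact inv_eq_of_mul_eq_one_right hbb
  have h5 : a ≠ a * b := by
    intro h
    apply hb1
    have := mul_left_cancel (a := a) (b := 1) (c := b) (by rw [mul_one]; exact h)
    exact this.symm
  have h6 : b ≠ a * b := by
    intro h
    apply ha1
    have := mul_right_cancel (a := 1) (b := b) (c := a) (by rw [one_mul]; exact h)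
    exact this.symm
  have hn1 : (1 : G) ∉ ({a, b, a * b} : Finset G) := by
    simp only [Finset.mem_insert, Finset.mem_singleton, not_or]
    exact ⟨ha1.symm, hb1.symm, h3⟩
  have hn2 : a ∉ ({b, a * b} : Finset G) := by
    simp only [Finset.mem_insert, Finset.mem_singleton, not_or]
    exact ⟨hab, h5⟩
  have hn3 : b ∉ ({a * b} : Finset G) := by
    simp only [Finset.mem_singleton]
    exact h6
  have hS : ({1, a, b, a * b} : Finset G).card = 4 := by
    rw [Finset.card_insert_of_notMem hn1, Finset.card_insert_of_notMem hn2,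
      Finset.card_insert_of_notMem hn3, Finset.card_singleton]
  have hsub : (↑({1, a, b, a * b} : Finset G) : Set G) ⊆ (W : Set G) := by
    intro x hx
    simp only [Finset.coe_insert, Finset.coe_singleton, Set.mem_insert_iff,
      Set.mem_singleton_iff] at hx
    rcases hx with rfl | rfl | rfl | rfl
    · exact one_mem W
    · exact ha
    · exact hb
    · exact mul_mem ha hb
  have hW : (W : Set G).ncard = 4 := by
    rw [← h4]
    exact (Nat.card_coe_set_eq _).symm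
  have heq : (↑({1, a, b, a * b} : Finset G) : Set G) = (W : Set G) :=
    Set.eq_of_subset_of_ncard_le hsub (by rw [hW, Set.ncard_coe_finset, hS]) (Set.toFinite _)
  intro x hx
  have hx' : x ∈ (↑({1, a, b, a * b} : Finset G) : Set G) := by rw [heq]; exact hx
  simpa using hx'

/-- PIECE A0. -/
theorem card_le_four
    (hno : ¬ ∃ E : Subgroup G, Cfsg.IsElementaryAbelian 2 E ∧ Nat.card E = 8)
    (E : Subgroup G) (hE : Cfsg.IsElementaryAbelian 2 E) : Nat.card E ≤ 4 := by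
  haveI : Fact (Nat.Prime 2) := ⟨Nat.prime_two⟩
  have hE2 : IsPGroup 2 E := by
    intro g
    refine ⟨1, ?_⟩
    have h1 := hE.2 g.1 g.2
    apply Subtype.ext
    simpa using h1
  obtain ⟨k, hk⟩ := hE2.exists_card_eq
  by_contra hlt
  push Not at hlt
  have hk3 : 3 ≤ k := by
    by_contra h
    have h2 : k ≤ 2 := by omega
    have h3 : 2 ^ k ≤ 2 ^ 2 := Nat.pow_le_pow_right (by norm_num) h2
    omega
  have hdvd : 2 ^ 3 ∣ Nat.card E := by
    rw [hk]
    exact pow_dvd_pow 2 hk3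
  obtain ⟨K, hK⟩ := Sylow.exists_subgroup_card_pow_prime 2 hdvd
  apply hno
  refine ⟨K.map E.subtype, ⟨?_, ?_⟩, ?_⟩
  · refine ⟨⟨fun x y => ?_⟩⟩
    obtain ⟨x, hx⟩ := x
    obtain ⟨y, hy⟩ := y
    apply Subtype.ext
    obtain ⟨x', _, rfl⟩ := hx
    obtain ⟨y', _, rfl⟩ := hy
    have h1 := hE.1.is_comm.comm x' y'
    show E.subtype x' * E.subtype y' = E.subtype y' * E.subtype x'
    rw [← map_mul, ← map_mul, h1]
  · intro a ha
    obtain ⟨a', _, rfl⟩ := ha
    exact hE.2 _ a'.2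
  · rw [Subgroup.card_map_of_injective E.subtype_injective, hK]
    norm_num

theorem fixed_eq_one (d : G) (W : Subgroup G)
    (hfpf : W ⊓ Subgroup.centralizer {d} = ⊥) {w : G} (hw : w ∈ W) (h : d * w * d⁻¹ = w) :
    w = 1 := by
  have h1 : w ∈ Subgroup.centralizer ({d} : Set G) := by
    rw [Subgroup.mem_centralizer_singleton_iff]
    have h2 : d * w = w * d := mul_inv_eq_iff_eq_mul.mp h
    exact h2.symm
  have h3 : w ∈ W ⊓ Subgroup.centralizer {d} := ⟨hw, h1⟩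
  rw [hfpf] at h3
  exact Subgroup.mem_bot.mp h3

theorem conj_mem (d : G) (W : Subgroup G) (hdW : d ∈ Subgroup.normalizer (W : Set G))
    {w : G} (hw : w ∈ W) : d * w * d⁻¹ ∈ W :=
  (Subgroup.mem_normalizer_iff.mp hdW w).mp hw

theorem sq_eq_one (W : Subgroup G) (hW : Cfsg.IsElementaryAbelian 2 W) {w : G} (hw : w ∈ W) :
    w * w = 1 := by
  have := hW.2 w hw
  rwa [pow_two] at this

theorem comm_of_mem (W : Subgroup G) (hW : Cfsg.IsElementaryAbelian 2 W) {a b : G} (ha : a ∈ W)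
    (hb : b ∈ W) : a * b = b * a :=
  congrArg Subtype.val (hW.1.is_comm.comm ⟨a, ha⟩ ⟨b, hb⟩)

/-- PIECE A1. -/
theorem card_eq_four
    (hno : ¬ ∃ E : Subgroup G, Cfsg.IsElementaryAbelian 2 E ∧ Nat.card E = 8)
    (d : G) (W : Subgroup G) (hW : Cfsg.IsElementaryAbelian 2 W) (hW1 : W ≠ ⊥)
    (hdW : d ∈ Subgroup.normalizer (W : Set G))
    (hfpf : W ⊓ Subgroup.centralizer {d} = ⊥) : Nat.card W = 4 := by
  haveI : Fact (Nat.Prime 2) := ⟨Nat.prime_two⟩
  have hle := card_le_four hno W hW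
  have hW2 : IsPGroup 2 W := by
    intro g
    refine ⟨1, ?_⟩
    have h1 := hW.2 g.1 g.2
    apply Subtype.ext
    simpa using h1
  obtain ⟨k, hk⟩ := hW2.exists_card_eq
  obtain ⟨w, hwW, hw1⟩ := (Subgroup.ne_bot_iff_exists_ne_one.mp hW1 |> fun ⟨a, ha⟩ =>
    (⟨a.1, a.2, fun h => ha (Subtype.ext h)⟩ : ∃ w : G, w ∈ W ∧ w ≠ 1))
  have hk0 : k ≠ 0 := by
    intro h
    rw [h, pow_zero] at hk
    have := Subgroup.card_eq_one.mp hk
    exact hW1 this
  have hk1 : k ≠ 1 := by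
    intro h
    rw [h, pow_one] at hk
    obtain ⟨y, _, hy⟩ := (Nat.card_eq_two_iff' (1 : W)).mp hk
    have e1 := hy ⟨w, hwW⟩ (fun h => hw1 (congrArg Subtype.val h))
    have hw' : d * w * d⁻¹ ∈ W := conj_mem d W hdW hwW
    have hw'1 : d * w * d⁻¹ ≠ 1 := fun h => hw1 (conj_eq_one_iff.mp h)
    have e2 := hy ⟨d * w * d⁻¹, hw'⟩ (fun h => hw'1 (congrArg Subtype.val h))
    have e3 : d * w * d⁻¹ = w := by
      have := e2.trans e1.symm
      exact congrArg Subtype.val this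
    exact hw1 (fixed_eq_one d W hfpf hwW e3)
  have hk2 : k ≤ 2 := by
    by_contra h
    have h3 : 3 ≤ k := by omega
    have : 2 ^ 3 ≤ 2 ^ k := Nat.pow_le_pow_right (by norm_num) h3
    omega
  have : k = 2 := by omega
  rw [hk, this]
  norm_num

/-- PIECE A2. -/
theorem invariant_eq_bot_or
    (hno : ¬ ∃ E : Subgroup G, Cfsg.IsElementaryAbelian 2 E ∧ Nat.card E = 8)
    (d : G) (W : Subgroup G) (hW : Cfsg.IsElementaryAbelian 2 W) (hW1 : W ≠ ⊥)
    (hdW : d ∈ Subgroup.normalizer (W : Set G))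
    (hfpf : W ⊓ Subgroup.centralizer {d} = ⊥)
    (Y : Subgroup G) (hYW : Y ≤ W) (hdY : ∀ y ∈ Y, d * y * d⁻¹ ∈ Y) : Y = ⊥ ∨ Y = W := by
  by_cases hY : Y = ⊥
  · exact Or.inl hY
  · right
    obtain ⟨⟨y, hyY⟩, hy1'⟩ := Subgroup.ne_bot_iff_exists_ne_one.mp hY
    have hy1 : y ≠ 1 := fun h => hy1' (Subtype.ext h)
    have h4 := card_eq_four hno d W hW hW1 hdW hfpf
    have hy'Y : d * y * d⁻¹ ∈ Y := hdY y hyY
    have hy'1 : d * y * d⁻¹ ≠ 1 := fun h => hy1 (conj_eq_one_iff.mp h)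
    have hne : y ≠ d * y * d⁻¹ := fun h => hy1 (fixed_eq_one d W hfpf (hYW hyY) h.symm)
    apply le_antisymm hYW
    intro x hx
    rcases enum_four W h4 y (d * y * d⁻¹) (hYW hyY) (hYW hy'Y) hy1 hy'1 hne
      (sq_eq_one W hW (hYW hy'Y)) x hx with rfl | rfl | rfl | rfl
    · exact one_mem Y
    · exact hyY
    · exact hy'Y
    · exact mul_mem hyY hy'Y

/-- PIECE A3. -/
theorem transitive
    (hno : ¬ ∃ E : Subgroup G, Cfsg.IsElementaryAbelian 2 E ∧ Nat.card E = 8)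
    (d : G) (W : Subgroup G) (hW : Cfsg.IsElementaryAbelian 2 W) (hW1 : W ≠ ⊥)
    (hdW : d ∈ Subgroup.normalizer (W : Set G))
    (hfpf : W ⊓ Subgroup.centralizer {d} = ⊥) :
    ∀ w ∈ W, w ≠ 1 → ∀ w' ∈ W, w' ≠ 1 → ∃ k : ℕ, d ^ k * w * (d ^ k)⁻¹ = w' := by
  intro w hw hw1 w' hw' hw'1
  have h4 := card_eq_four hno d W hW hW1 hdW hfpf
  have hw1W : d * w * d⁻¹ ∈ W := conj_mem d W hdW hw
  have hw11 : d * w * d⁻¹ ≠ 1 := fun h => hw1 (conj_eq_one_iff.mp h)
  have hne : w ≠ d * w * d⁻¹ := fun h => hw1 (fixed_eq_one d W hfpf hw h.symm)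
  have henum := enum_four W h4 w (d * w * d⁻¹) hw hw1W hw1 hw11 hne (sq_eq_one W hW hw1W)
  rcases henum w' hw' with h | h | h | h
  · exact absurd h hw'1
  · exact ⟨0, by rw [h]; simp⟩
  · exact ⟨1, by rw [h]; simp⟩
  · refine ⟨2, ?_⟩
    have hw2W : d * (d * w * d⁻¹) * d⁻¹ ∈ W := conj_mem d W hdW hw1W
    have hw21 : d * (d * w * d⁻¹) * d⁻¹ ≠ 1 := fun h => hw11 (conj_eq_one_iff.mp h)
    have e : d ^ 2 * w * (d ^ 2)⁻¹ = d * (d * w * d⁻¹) * d⁻¹ := by
      rw [pow_two, mul_inv_rev]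
      simp only [mul_assoc]
    rw [e, h]
    rcases henum _ hw2W with h2 | h2 | h2 | h2
    · exact absurd h2 hw21
    · exfalso
      -- then w * (d w d⁻¹) is fixed
      have hprod : d * (w * (d * w * d⁻¹)) * d⁻¹ = w * (d * w * d⁻¹) := by
        have e1 : d * (w * (d * w * d⁻¹)) * d⁻¹ = (d * w * d⁻¹) * (d * (d * w * d⁻¹) * d⁻¹) := by
          group
        rw [e1, h2]
        exact comm_of_mem W hW hw1W hw
      have h3 := fixed_eq_one d W hfpf (mul_mem hw hw1W) hprod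
      -- w * w1 = 1 → w1 = w⁻¹ = w
      apply hne
      have h5 : d * w * d⁻¹ = w⁻¹ := (inv_eq_of_mul_eq_one_right h3).symm
      rw [h5]
      exact (inv_eq_of_mul_eq_one_right (sq_eq_one W hW hw)).symm
    · exfalso
      exact hw11 (fixed_eq_one d W hfpf hw1W h2)
    · exact h2

end Cfsg.Agent.helper3.S3739x
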