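import Mathlib
import Cfsg.Prelude.Def_Transfer
import Cfsg.Prelude.Def_Solvable
import Cfsg.Agent.Lib_helper1_Core
import Cfsg.Agent.Lib_helper3_S3739x
import Cfsg.Agent.Lib_helper17_S3739x
import Cfsg.Agent.Lib_helper22_GalDegA

set_option autoImplicit false

namespace Cfsg.Agent.helper16.S3739B

variable {G : Type*} [Group G]

/-- An involution centralizing an elementary abelian `W` of order `4` lies in `W`, when there
is no elementary abelian subgroup of order `8`. -/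
theorem inv_mem_of_comm [Finite G]
    (hno : ¬ ∃ E : Subgroup G, Cfsg.IsElementaryAbelian 2 E ∧ Nat.card E = 8)
    (W : Subgroup G) (hW : Cfsg.IsElementaryAbelian 2 W) (hW4 : Nat.card W = 4)
    (t : G) (ht2 : t * t = 1) (htc : ∀ w ∈ W, t * w = w * t) : t ∈ W := by
  by_contra htW
  apply hno
  refine ⟨Cfsg.Agent.helper17.S3739x.adj W t ht2 htc,
    Cfsg.Agent.helper17.S3739x.elemAb_adj W hW t ht2 htc, ?_⟩
  rw [Cfsg.Agent.helper17.S3739x.card_adj W t ht2 htc htW, hW4]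

/-- `Ω₁(Z(Q))` as a subgroup of the ambient group. -/
def omegaZ (Q : Subgroup G) : Subgroup G where
  carrier := {z | z ∈ Q ∧ (∀ q ∈ Q, z * q = q * z) ∧ z * z = 1}
  one_mem' := ⟨Q.one_mem, fun q _ => by simp, by simp⟩
  mul_mem' := by
    rintro a b ⟨haQ, hac, ha2⟩ ⟨hbQ, hbc, hb2⟩
    refine ⟨Q.mul_mem haQ hbQ, ?_, ?_⟩
    · intro q hq
      calc a * b * q = a * (b * q) := by group
        _ = a * (q * b) := by rw [hbc q hq]
        _ = (a * q) * b := by group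
        _ = (q * a) * b := by rw [hac q hq]
        _ = q * (a * b) := by group
    · calc a * b * (a * b) = a * (b * a) * b := by group
        _ = a * (a * b) * b := by rw [hbc a haQ]
        _ = (a * a) * (b * b) := by group
        _ = 1 := by rw [ha2, hb2, one_mul]
  inv_mem' := by
    rintro a ⟨haQ, hac, ha2⟩
    refine ⟨Q.inv_mem haQ, ?_, ?_⟩
    · intro q hq
      have := hac q hq
      calc a⁻¹ * q = a⁻¹ * (q * a) * a⁻¹ := by group
        _ = a⁻¹ * (a * q) * a⁻¹ := by rw [this]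
        _ = q * a⁻¹ := by group
    · rw [← mul_inv_rev, ha2, inv_one]

theorem mem_omegaZ {Q : Subgroup G} {z : G} :
    z ∈ omegaZ Q ↔ z ∈ Q ∧ (∀ q ∈ Q, z * q = q * z) ∧ z * z = 1 := Iff.rfl

theorem omegaZ_conj (Q : Subgroup G) [hQn : Q.Normal] (g : G) {z : G} (hz : z ∈ omegaZ Q) :
    g * z * g⁻¹ ∈ omegaZ Q := by
  obtain ⟨hzQ, hzc, hz2⟩ := hz
  refine ⟨hQn.conj_mem z hzQ g, ?_, ?_⟩
  · intro q hq
    have hq' : g⁻¹ * q * g ∈ Q := by
      have := hQn.conj_mem q hq g⁻¹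
      rwa [inv_inv] at this
    have := hzc _ hq'
    calc g * z * g⁻¹ * q = g * (z * (g⁻¹ * q * g)) * g⁻¹ := by group
      _ = g * ((g⁻¹ * q * g) * z) * g⁻¹ := by rw [this]
      _ = q * (g * z * g⁻¹) := by group
  · calc g * z * g⁻¹ * (g * z * g⁻¹) = g * (z * z) * g⁻¹ := by group
      _ = 1 := by rw [hz2]; group

instance omegaZ_normal (Q : Subgroup G) [Q.Normal] : (omegaZ Q).Normal :=
  ⟨fun z hz g => omegaZ_conj Q g hz⟩

theorem omegaZ_ne_bot [Finite G] (Q : Subgroup G) (hQ2 : IsPGroup 2 Q) (hQ1 : Q ≠ ⊥) :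
    omegaZ Q ≠ ⊥ := by
  haveI : Fact (Nat.Prime 2) := ⟨Nat.prime_two⟩
  haveI : Nontrivial ↥Q := (Subgroup.nontrivial_iff_ne_bot Q).2 hQ1
  haveI hcn : Nontrivial (Subgroup.center ↥Q) := hQ2.center_nontrivial
  have hc2 : IsPGroup 2 (Subgroup.center ↥Q) := hQ2.to_subgroup _
  have hdvd : 2 ∣ Nat.card (Subgroup.center ↥Q) := by
    rcases hc2.card_eq_or_dvd with h | h
    · exfalso
      have := Finite.one_lt_card (α := Subgroup.center ↥Q)
      omega
    · exact h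
  obtain ⟨y, hy⟩ := exists_prime_orderOf_dvd_card' 2 hdvd
  intro hbot
  have hmem : ((y : ↥Q) : G) ∈ omegaZ Q := by
    refine ⟨(y : ↥Q).2, ?_, ?_⟩
    · intro q hq
      have h1 := Subgroup.mem_center_iff.1 y.2 ⟨q, hq⟩
      exact (congrArg Subtype.val h1).symm
    · have h1 : y ^ 2 = 1 := by rw [← hy]; exact pow_orderOf_eq_one y
      have h2 : (((y ^ 2 : Subgroup.center ↥Q) : ↥Q) : G) = 1 := by rw [h1]; rfl
      rw [← pow_two]
      exact_mod_cast h2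
  rw [hbot, Subgroup.mem_bot] at hmem
  have hy1 : y = 1 := by
    apply Subtype.ext; apply Subtype.ext; exact hmem
  rw [hy1, orderOf_one] at hy
  omega

/-- **Piece B of S3739**: all involutions of `O₂(G)` lie in `W`, and `W` is normal. -/
theorem B_main [Finite G]
    (hno : ¬ ∃ E : Subgroup G, Cfsg.IsElementaryAbelian 2 E ∧ Nat.card E = 8)
    (hchar : Subgroup.centralizer (Cfsg.pCore 2 G : Set G) ≤ Cfsg.pCore 2 G)
    (d : G) (W : Subgroup G) (hW : Cfsg.IsElementaryAbelian 2 W) (hW1 : W ≠ ⊥)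
    (hdW : d ∈ Subgroup.normalizer (W : Set G))
    (hfpf : W ⊓ Subgroup.centralizer {d} = ⊥) :
    W ≤ Cfsg.pCore 2 G ∧ (∀ w ∈ W, ∀ q ∈ Cfsg.pCore 2 G, w * q = q * w) ∧
      (∀ i ∈ Cfsg.pCore 2 G, i * i = 1 → i ∈ W) ∧ (∀ g : G, ∀ w ∈ W, g * w * g⁻¹ ∈ W) := by
  haveI : Fact (Nat.Prime 2) := ⟨Nat.prime_two⟩
  obtain ⟨Q, hQdef⟩ : ∃ Q : Subgroup G, Q = Cfsg.pCore 2 G := ⟨_, rfl⟩
  rw [← hQdef] at hchar ⊢
  haveI hQn : Q.Normal := hQdef ▸ Cfsg.Agent.helper1.pCore_normal 2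
  have hQ2 : IsPGroup 2 Q := hQdef ▸ Cfsg.Agent.helper1.pCore_isPGroup 2
  have hW4 : Nat.card W = 4 := Cfsg.Agent.helper3.S3739x.card_eq_four hno d W hW hW1 hdW hfpf
  have hirr := Cfsg.Agent.helper3.S3739x.invariant_eq_bot_or hno d W hW hW1 hdW hfpf
  have hL := inv_mem_of_comm hno W hW hW4
  have hWsq : ∀ w ∈ W, w * w = 1 := fun w hw => Cfsg.Agent.helper3.S3739x.sq_eq_one W hW hw
  have hdconj : ∀ w ∈ W, d * w * d⁻¹ ∈ W := fun w hw =>
    Cfsg.Agent.helper3.S3739x.conj_mem d W hdW hw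
  -- Q ≠ ⊥
  have hQ1 : Q ≠ ⊥ := by
    intro hQ
    apply hW1
    rw [eq_bot_iff]
    intro w _
    have : w ∈ Subgroup.centralizer (Q : Set G) := by
      rw [Subgroup.mem_centralizer_iff]
      intro q hq
      rw [hQ] at hq
      have : q = 1 := Subgroup.mem_bot.1 hq
      rw [this]; simp
    have := hchar this
    rwa [hQ] at this
  have hZ1 : omegaZ Q ≠ ⊥ := omegaZ_ne_bot Q hQ2 hQ1
  -- a nontrivial element of Z1 centralizing W
  have hW2 : IsPGroup 2 W := by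
    intro g
    refine ⟨1, ?_⟩
    apply Subtype.ext
    have := hW.2 g.1 g.2
    simpa using this
  have hZ12 : IsPGroup 2 (omegaZ Q) := hQ2.to_le (fun z hz => hz.1)
  have hH2 : IsPGroup 2 (W ⊔ omegaZ Q : Subgroup G) := hW2.to_sup_of_normal_right hZ12
  have hN : (omegaZ Q).subgroupOf (W ⊔ omegaZ Q) ≠ ⊥ := by
    intro h
    apply hZ1
    rw [eq_bot_iff]
    intro z hz
    have hmem : (⟨z, (le_sup_right : omegaZ Q ≤ W ⊔ omegaZ Q) hz⟩ : ↥(W ⊔ omegaZ Q)) ∈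
        (omegaZ Q).subgroupOf (W ⊔ omegaZ Q) := Subgroup.mem_subgroupOf.2 hz
    rw [h, Subgroup.mem_bot] at hmem
    exact Subgroup.mem_bot.2 (congrArg Subtype.val hmem)
  obtain ⟨z, hzN, hzc, hz1⟩ :=
    Cfsg.Agent.helper22.gd_exists_central_of_normal (p := 2) hH2
      ((omegaZ Q).subgroupOf (W ⊔ omegaZ Q)) hN
  have hzZ : (z : G) ∈ omegaZ Q := Subgroup.mem_subgroupOf.1 hzN
  have hzW : (z : G) ∈ W := by
    apply hL (z : G) hzZ.2.2
    intro w hw
    have h1 := Subgroup.mem_center_iff.1 hzc ⟨w, (le_sup_left : W ≤ W ⊔ omegaZ Q) hw⟩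
    exact (congrArg Subtype.val h1).symm
  have hz1' : (z : G) ≠ 1 := fun h => hz1 (Subtype.ext h)
  -- W ≤ Q
  have hWQ : W ≤ Q := by
    have hinv : ∀ y ∈ W ⊓ Q, d * y * d⁻¹ ∈ W ⊓ Q := fun y hy =>
      ⟨hdconj y hy.1, hQn.conj_mem y hy.2 d⟩
    rcases hirr (W ⊓ Q) inf_le_left hinv with h | h
    · exfalso
      have : (z : G) ∈ W ⊓ Q := ⟨hzW, hzZ.1⟩
      rw [h, Subgroup.mem_bot] at this
      exact hz1' this
    · rw [← h]; exact inf_le_right
  -- Z1 ≤ W, hence Z1 = W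
  have hZ1W : omegaZ Q ≤ W := by
    intro y hy
    apply hL y hy.2.2
    intro w hw
    exact hy.2.1 w (hWQ hw)
  have hZW : omegaZ Q = W := by
    rcases hirr (omegaZ Q) hZ1W (fun y hy => omegaZ_conj Q d hy) with h | h
    · exact absurd h hZ1
    · exact h
  refine ⟨hWQ, ?_, ?_, ?_⟩
  · intro w hw q hq
    have : w ∈ omegaZ Q := hZW ▸ hw
    exact this.2.1 q hq
  · intro i hi hi2
    apply hL i hi2
    intro w hw
    have : w ∈ omegaZ Q := hZW ▸ hw
    exact (this.2.1 i hi).symm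
  · intro g w hw
    have : w ∈ omegaZ Q := hZW ▸ hw
    have := omegaZ_conj Q g this
    rwa [hZW] at this

end Cfsg.Agent.helper16.S3739B
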