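import Mathlib
import Cfsg.Prelude.Def_Transfer
import Cfsg.Agent.Lib_helper19_HH2

set_option autoImplicit false

namespace Cfsg.Agent.helper16.S3739D

open scoped commutatorElement
open Cfsg.Agent.helper19 Cfsg.Agent.helper1

variable {G : Type*} [Group G]

/-- In a finite group, elementwise conjugation-invariance gives normalizer membership. -/
theorem mem_normalizer_of_conj_mem [Finite G] (H : Subgroup G) (g : G)
    (h : ∀ u ∈ H, g * u * g⁻¹ ∈ H) : g ∈ Subgroup.normalizer (H : Set G) := by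
  have hpow : ∀ n : ℕ, ∀ u ∈ H, g ^ n * u * (g ^ n)⁻¹ ∈ H := by
    intro n
    induction n with
    | zero => intro u hu; simpa using hu
    | succ n ih =>
      intro u hu
      have := h _ (ih u hu)
      have e : g ^ (n + 1) * u * (g ^ (n + 1))⁻¹ = g * (g ^ n * u * (g ^ n)⁻¹) * g⁻¹ := by
        rw [pow_succ']; group
      rw [e]; exact this
  rw [Subgroup.mem_normalizer_iff]
  intro u
  refine ⟨h u, fun hu => ?_⟩
  have hg : g⁻¹ = g ^ (orderOf g - 1) := by
    have hpos := orderOf_pos g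
    have : g * g ^ (orderOf g - 1) = 1 := by
      rw [← pow_succ', Nat.sub_add_cancel hpos, pow_orderOf_eq_one]
    exact inv_eq_of_mul_eq_one_right this
  have := hpow (orderOf g - 1) _ hu
  rw [← hg] at this
  simpa [mul_assoc] using this

/-- a subgroup all of whose elements commute with `x` has trivial commutator with `zpowers x`. -/
theorem comm_zpowers_eq_bot (U : Subgroup G) (x : G) (h : ∀ u ∈ U, x * u = u * x) :
    ⁅U, Subgroup.zpowers x⁆ = ⊥ := by
  rw [Subgroup.commutator_eq_bot_iff_le_centralizer]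
  intro u hu
  rw [Subgroup.mem_centralizer_iff]
  intro a ha
  obtain ⟨k, rfl⟩ := Subgroup.mem_zpowers_iff.1 ha
  have hc : Commute x u := h u hu
  exact (hc.zpow_left k).eq

/-- **Piece D of S3739** (via the Hall–Higman reduction). -/
theorem exists_P [Finite G] (Q W : Subgroup G) (hQ2 : IsPGroup 2 Q)
    (x d : G) (hx : orderOf x = 3) (hxd : x * d = d * x)
    (hxQ : ∀ q ∈ Q, x * q * x⁻¹ ∈ Q) (hdQ : ∀ q ∈ Q, d * q * d⁻¹ ∈ Q)
    (hnt : ∃ q ∈ Q, x * q ≠ q * x)
    (hinv : ∀ i ∈ Q, i * i = 1 → i ∈ W)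
    (hxW : ∀ w ∈ W, x * w = w * x)
    (hirr : ∀ Y : Subgroup G, Y ≤ W → (∀ y ∈ Y, d * y * d⁻¹ ∈ Y) → Y = ⊥ ∨ Y = W) :
    ∃ P : Subgroup G, P ≤ Q ∧ W ≤ P ∧ (∀ u ∈ P, x * u * x⁻¹ ∈ P) ∧
      (∀ u ∈ P, d * u * d⁻¹ ∈ P) ∧ (∃ u ∈ P, x * u ≠ u * x) ∧ (∀ u ∈ P, u * u ∈ W) ∧
      (∀ u ∈ P, x * u = u * x → u ∈ W) := by
  classical
  haveI : Fact (Nat.Prime 2) := ⟨Nat.prime_two⟩
  obtain ⟨A, hA⟩ : ∃ A : Subgroup G, A = Subgroup.zpowers x := ⟨_, rfl⟩
  obtain ⟨B, hB⟩ : ∃ B : Subgroup G, B = Subgroup.closure {x, d} := ⟨_, rfl⟩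
  have hxB : x ∈ B := by rw [hB]; exact Subgroup.subset_closure (by simp)
  have hdB : d ∈ B := by rw [hB]; exact Subgroup.subset_closure (by simp)
  have hxA : x ∈ A := by rw [hA]; exact Subgroup.mem_zpowers x
  have hAB : A ≤ B := by
    rw [hA, Subgroup.zpowers_le]; exact hxB
  have hBx : ∀ b ∈ B, b * x = x * b := by
    intro b hb
    rw [hB] at hb
    refine Subgroup.closure_induction (p := fun b _ => b * x = x * b) ?_ ?_ ?_ ?_ hb
    · rintro y (rfl | hy)
      · rfl
      · rw [Set.mem_singleton_iff] at hy; rw [hy]; exact hxd.symm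
    · simp
    · intro a b _ _ ha hb; rw [mul_assoc, hb, ← mul_assoc, ha, mul_assoc]
    · intro a _ ha
      have : a⁻¹ * x = a⁻¹ * (x * a) * a⁻¹ := by group
      rw [this, ← ha]; group
  have key : ∀ b ∈ B, ∀ a ∈ A, b * a * b⁻¹ = a := by
    intro b hb a ha
    rw [hA] at ha
    obtain ⟨k, rfl⟩ := Subgroup.mem_zpowers_iff.1 ha
    have hc : Commute b x := hBx b hb
    have := (hc.zpow_right k).eq
    rw [this]; group
  have hAn : B ≤ Subgroup.normalizer (A : Set G) := fun b hb =>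
    mem_normalizer_of_conj_mem A b (fun a ha => by rw [key b hb a ha]; exact ha)
  have hAp : (Nat.card A).Coprime 2 := by
    rw [hA, Nat.card_zpowers, hx]; norm_num
  have hBQ : B ≤ Subgroup.normalizer (Q : Set G) := by
    rw [hB, Subgroup.closure_le]
    rintro y (rfl | hy)
    · exact mem_normalizer_of_conj_mem Q _ hxQ
    · rw [Set.mem_singleton_iff] at hy; rw [hy]; exact mem_normalizer_of_conj_mem Q _ hdQ
  have hcent : ∀ U : Subgroup G, (∀ u ∈ U, x * u = u * x) → ⁅U, A⁆ = ⊥ := by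
    intro U hU; rw [hA]; exact comm_zpowers_eq_bot U x hU
  have hQnt : ⁅Q, A⁆ ≠ ⊥ := by
    intro h0
    obtain ⟨q, hq, hqx⟩ := hnt
    rw [Subgroup.commutator_eq_bot_iff_le_centralizer] at h0
    exact hqx (Subgroup.mem_centralizer_iff.1 (h0 hq) x hxA)
  let 𝒮 : Set (Subgroup G) :=
    {U | U ≤ Q ∧ B ≤ Subgroup.normalizer (U : Set G) ∧ ⁅U, A⁆ ≠ ⊥}
  have hQS : Q ∈ 𝒮 := ⟨le_rfl, hBQ, hQnt⟩
  obtain ⟨P, hPS, hPmin⟩ := WellFounded.has_min
    (InvImage.wf (fun U : Subgroup G => Nat.card U) Nat.lt_wfRel.wf) 𝒮 ⟨Q, hQS⟩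
  obtain ⟨hPQ, hBP, hPnt⟩ := hPS
  have hmin : ∀ U : Subgroup G, U < P → B ≤ Subgroup.normalizer (U : Set G) → ⁅U, A⁆ = ⊥ := by
    intro U hUP hBU
    by_contra hne
    have hUS : U ∈ 𝒮 := ⟨hUP.le.trans hPQ, hBU, hne⟩
    have h1 := hPmin U hUS
    have h2 : Nat.card P ≤ Nat.card U := not_lt.1 h1
    have : U = P := Subgroup.eq_of_le_of_card_ge hUP.le h2
    exact hUP.ne this
  have hP2 : IsPGroup 2 P := hQ2.to_le hPQ
  obtain ⟨h1, h2, -, -⟩ := hall_higman_reduction B A P hP2 hBP hAB hAn hAp hPnt hmin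
  -- if all elements of P are involutions we are done
  have hallinv : ¬ ∀ u ∈ P, u * u = 1 := by
    intro hall
    apply hPnt
    apply hcent
    intro u hu
    exact hxW u (hinv u (hPQ hu) (hall u hu))
  rcases h2 with hEA | hsp
  · exfalso
    apply hallinv
    intro u hu
    rw [← pow_two]; exact hEA.2 u hu
  · obtain ⟨hP2', hfc, hcc⟩ := hsp
    obtain ⟨Φ, hΦ⟩ : ∃ Φ : Subgroup G, Φ = (frattini ↥P).map P.subtype := ⟨_, rfl⟩
    have hΦP : Φ ≤ P := by rw [hΦ]; exact Subgroup.map_subtype_le _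
    have hNΦ : Subgroup.normalizer (P : Set G) ≤ Subgroup.normalizer (Φ : Set G) := by
      rw [hΦ]; exact le_normalizer_map_characteristic P (frattini ↥P)
    have hsqΦ : ∀ u ∈ P, u * u ∈ Φ := by
      intro u hu
      rw [hΦ]
      refine ⟨⟨u, hu⟩ ^ 2, pow_mem_frattini_of_isPGroup hP2' ⟨u, hu⟩, ?_⟩
      simp [pow_two]
    -- the subgroup of central involutions of P
    let S : Subgroup ↥P :=
      { carrier := {z | z ∈ Subgroup.center ↥P ∧ z * z = 1}
        one_mem' := ⟨one_mem _, by simp⟩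
        mul_mem' := by
          rintro a b ⟨ha, ha1⟩ ⟨hb, hb1⟩
          refine ⟨mul_mem ha hb, ?_⟩
          have := Subgroup.mem_center_iff.1 ha b
          calc a * b * (a * b) = a * (b * a) * b := by group
            _ = a * (a * b) * b := by rw [this]
            _ = (a * a) * (b * b) := by group
            _ = 1 := by rw [ha1, hb1, one_mul]
        inv_mem' := by
          rintro a ⟨ha, ha1⟩
          refine ⟨inv_mem ha, ?_⟩
          rw [← mul_inv_rev, ha1, inv_one] }
    have hcS : commutator ↥P ≤ S := by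
      rw [commutator_def, Subgroup.commutator_le]
      intro a _ b _
      have hc : ⁅a, b⁆ ∈ Subgroup.center ↥P := by
        rw [← hcc, commutator_def]
        exact Subgroup.commutator_mem_commutator (Subgroup.mem_top a) (Subgroup.mem_top b)
      refine ⟨hc, ?_⟩
      have hcomm : Commute ⁅a, b⁆ a := (Subgroup.mem_center_iff.1 hc a).symm
      have hpw := commutatorElement_pow_left a b hcomm 2
      rw [← pow_two, ← hpw]
      have ha2 : a ^ 2 ∈ Subgroup.center ↥P := by
        rw [← hfc]; exact pow_mem_frattini_of_isPGroup hP2' a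
      rw [commutatorElement_eq_one_iff_commute]
      exact (Subgroup.mem_center_iff.1 ha2 b).symm
    have hΦ2 : ∀ z ∈ Φ, z * z = 1 := by
      intro z hz
      rw [hΦ] at hz
      obtain ⟨z', hz', rfl⟩ := hz
      have : z' ∈ S := hcS (by rw [hcc, ← hfc]; exact hz')
      have h2 := this.2
      have := congrArg Subtype.val h2
      simpa using this
    have hΦW : Φ ≤ W := fun z hz => hinv z (hPQ (hΦP hz)) (hΦ2 z hz)
    have hdΦ : ∀ y ∈ Φ, d * y * d⁻¹ ∈ Φ := fun y hy =>
      (Subgroup.mem_normalizer_iff.1 (hNΦ (hBP hdB)) y).1 hy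
    rcases hirr Φ hΦW hdΦ with h0 | hΦW'
    · exfalso
      apply hallinv
      intro u hu
      have := hsqΦ u hu
      rw [h0, Subgroup.mem_bot] at this
      exact this
    · refine ⟨P, hPQ, hΦW' ▸ hΦP, fun u hu => (Subgroup.mem_normalizer_iff.1 (hBP hxB) u).1 hu,
        fun u hu => (Subgroup.mem_normalizer_iff.1 (hBP hdB) u).1 hu, ?_, ?_, ?_⟩
      · by_contra hh
        push Not at hh
        exact hPnt (hcent P hh)
      · intro u hu; rw [← hΦW']; exact hsqΦ u hu
      · intro u hu hxu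
        rw [← hΦW']
        have hAP : A ≤ Subgroup.normalizer (P : Set G) := hAB.trans hBP
        have hDΦ : ⁅P, P⁆ ≤ Φ := by
          rw [hΦ, ← Subgroup.map_subtype_commutator]
          exact Subgroup.map_mono (commutator_le_frattini_of_isPGroup hP2')
        refine coprime_fixed_mem P Φ A hP2 hΦP (Subgroup.le_normalizer.trans hNΦ) hAP
          (hAP.trans hNΦ) hDΦ hAp u hu ?_ ?_
        · rw [h1]; exact le_sup_left (a := P) hu
        · intro a ha
          rw [hA] at ha
          obtain ⟨k, rfl⟩ := Subgroup.mem_zpowers_iff.1 ha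
          have hc : Commute x u := hxu
          have := (hc.zpow_left k).eq
          rw [this]
          have : u * x ^ k * (x ^ k)⁻¹ * u⁻¹ = 1 := by group
          rw [this]; exact Φ.one_mem

end Cfsg.Agent.helper16.S3739D
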