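import Mathlib

set_option autoImplicit false

namespace Cfsg.Agent.helper17.A4GL

open Matrix

section zmod

variable (k : ℕ)

lemma two_pow_eq_zero : (2 : ZMod (2 ^ k)) ^ k = 0 := by
  have := ZMod.natCast_self (2 ^ k)
  push_cast at this
  exact this

lemma isUnit_one_add_two_mul (y : ZMod (2 ^ k)) : IsUnit (1 + 2 * y) := by
  apply IsNilpotent.isUnit_one_add
  refine ⟨k, ?_⟩
  rw [mul_pow, two_pow_eq_zero, zero_mul]

lemma isUnit_three : IsUnit (3 : ZMod (2 ^ k)) := by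
  have : (3 : ZMod (2 ^ k)) = 1 + 2 * 1 := by norm_num
  rw [this]
  exact isUnit_one_add_two_mul k 1

/-- reduction modulo 2 -/
noncomputable def phi (hk : 1 ≤ k) : ZMod (2 ^ k) →+* ZMod 2 :=
  ZMod.castHom (dvd_pow_self 2 (by omega)) (ZMod 2)

lemma phi_cases (hk : 1 ≤ k) (x : ZMod (2 ^ k)) : phi k hk x = 0 ∨ phi k hk x = 1 := by
  have : ∀ z : ZMod 2, z = 0 ∨ z = 1 := by decide
  exact this _

lemma exists_two_mul (hk : 1 ≤ k) (x : ZMod (2 ^ k)) (h : phi k hk x = 0) : ∃ y, x = 2 * y := by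
  haveI : NeZero (2 ^ k) := ⟨pow_ne_zero _ (by norm_num)⟩
  have h1 : phi k hk x = ((x.val : ℕ) : ZMod 2) := by
    conv_lhs => rw [← ZMod.natCast_zmod_val x]
    rw [map_natCast]
  rw [h1, ZMod.natCast_eq_zero_iff] at h
  obtain ⟨m, hm⟩ := h
  refine ⟨(m : ZMod (2 ^ k)), ?_⟩
  rw [← ZMod.natCast_zmod_val x, hm]
  push_cast
  ring

lemma isUnit_of_phi_one (hk : 1 ≤ k) (x : ZMod (2 ^ k)) (h : phi k hk x = 1) : IsUnit x := by
  have h1 : phi k hk (x - 1) = 0 := by rw [map_sub, h, map_one, sub_self]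
  obtain ⟨y, hy⟩ := exists_two_mul k hk _ h1
  have : x = 1 + 2 * y := by rw [← hy]; ring
  rw [this]
  exact isUnit_one_add_two_mul k y

lemma eq_of_two_mul_eq_zero (hk : 1 ≤ k) (x : ZMod (2 ^ k)) (h : 2 * x = 0) :
    x = 0 ∨ x = 2 ^ (k - 1) := by
  haveI : NeZero (2 ^ k) := ⟨pow_ne_zero _ (by norm_num)⟩
  have h1 : ((2 * x.val : ℕ) : ZMod (2 ^ k)) = 0 := by
    push_cast
    rw [ZMod.natCast_zmod_val]
    exact h
  rw [ZMod.natCast_eq_zero_iff] at h1
  have hlt : x.val < 2 ^ k := ZMod.val_lt x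
  have hk' : 2 ^ k = 2 * 2 ^ (k - 1) := by
    rw [← pow_succ']
    congr 1
    omega
  have h1' : 2 * 2 ^ (k - 1) ∣ 2 * x.val := hk' ▸ h1
  have hlt' : x.val < 2 * 2 ^ (k - 1) := hk' ▸ hlt
  have h2 : 2 ^ (k - 1) ∣ x.val := Nat.dvd_of_mul_dvd_mul_left (by norm_num) h1'
  obtain ⟨m, hm⟩ := h2
  have hm2 : m < 2 := by
    by_contra hcon
    push Not at hcon
    have : 2 ^ (k - 1) * 2 ≤ 2 ^ (k - 1) * m := Nat.mul_le_mul_left _ hcon
    omega
  rw [← ZMod.natCast_zmod_val x, hm]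
  interval_cases m
  · left; simp
  · right; simp

end zmod

section matrices

variable {k : ℕ}

/-- the companion matrix of `X² + X + 1` -/
def Cm (R : Type*) [Ring R] : Matrix (Fin 2) (Fin 2) R := !![0, -1; 1, -1]

/-- its inverse -/
def Ci (R : Type*) [Ring R] : Matrix (Fin 2) (Fin 2) R := !![-1, 1; -1, 0]

lemma Cm_mul_Ci (R : Type*) [Ring R] : Cm R * Ci R = 1 := by
  unfold Cm Ci
  ext i j
  fin_cases i <;> fin_cases j <;> simp [Matrix.mul_apply, Fin.sum_univ_two]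

lemma Ci_mul_Cm (R : Type*) [Ring R] : Ci R * Cm R = 1 := by
  unfold Cm Ci
  ext i j
  fin_cases i <;> fin_cases j <;> simp [Matrix.mul_apply, Fin.sum_univ_two]

lemma Cm_mul_Cm (R : Type*) [Ring R] : Cm R * Cm R = Ci R := by
  unfold Cm Ci
  ext i j
  fin_cases i <;> fin_cases j <;> simp [Matrix.mul_apply, Fin.sum_univ_two]

lemma eta {R : Type*} (a : Matrix (Fin 2) (Fin 2) R) : a = !![a 0 0, a 0 1; a 1 0, a 1 1] := by
  ext i j
  fin_cases i <;> fin_cases j <;> rfl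

lemma conj_formula {R : Type*} [CommRing R] (p q r s : R) :
    Cm R * !![p, q; r, s] * Ci R = !![r + s, -r; r + s - p - q, p - r] := by
  unfold Cm Ci
  ext i j
  fin_cases i <;> fin_cases j <;> simp [Matrix.mul_apply, Fin.sum_univ_two] <;> ring

/-- key algebraic lemma: the relations of a Klein four group normalized by `Cm` -/
lemma key_rel {R : Type*} [CommRing R] (h3 : IsUnit (3 : R)) (p q r s : R)
    (ha2 : !![p, q; r, s] * !![p, q; r, s] = (1 : Matrix (Fin 2) (Fin 2) R))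
    (hrel : !![p, q; r, s] * (Cm R * !![p, q; r, s] * Ci R) =
      Cm R * (Cm R * !![p, q; r, s] * Ci R) * Ci R) :
    p + s = 2 ∧ q = r - p + 1 ∧ 2 * (p - 1) = 0 ∧ 2 * r = 0 := by
  rw [conj_formula, conj_formula] at hrel
  have h1 := congrFun (congrFun ha2 0) 0
  have h2 := congrFun (congrFun ha2 0) 1
  have h3' := congrFun (congrFun ha2 1) 0
  have h4 := congrFun (congrFun ha2 1) 1
  have e1 := congrFun (congrFun hrel 0) 0
  have e2 := congrFun (congrFun hrel 0) 1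
  have e3 := congrFun (congrFun hrel 1) 0
  have e4 := congrFun (congrFun hrel 1) 1
  simp [Matrix.mul_apply, Fin.sum_univ_two] at h1 h2 h3' h4 e1 e2 e3 e4
  have c1 : 3 * (p + s - 2) = 0 := by grind
  have c2 : 3 * (q - r + p - 1) = 0 := by grind
  have c3 : 3 * (2 * (p - 1)) = 0 := by grind
  have c4 : 3 * (2 * r) = 0 := by grind
  have k1 := (h3.mul_right_eq_zero).mp c1
  have k2 := (h3.mul_right_eq_zero).mp c2
  have k3 := (h3.mul_right_eq_zero).mp c3
  have k4 := (h3.mul_right_eq_zero).mp c4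
  refine ⟨?_, ?_, k3, k4⟩
  · linear_combination k1
  · linear_combination k2

end matrices

end Cfsg.Agent.helper17.A4GL
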