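import Mathlib
import Cfsg.Agent.Lib_helper17_A4a

set_option autoImplicit false

namespace Cfsg.Agent.helper17.A4GL

open Matrix

variable {k : ℕ}

/-- the standard involution -/
def A1 (k : ℕ) : Matrix (Fin 2) (Fin 2) (ZMod (2 ^ k)) :=
  !![1 + 2 ^ (k - 1), 2 ^ (k - 1); 0, 1 + 2 ^ (k - 1)]

lemma two_mul_h (hk : 1 ≤ k) : (2 : ZMod (2 ^ k)) * 2 ^ (k - 1) = 0 := by
  rw [← pow_succ']
  have : k - 1 + 1 = k := by omega
  rw [this]
  exact two_pow_eq_zero k

lemma h_mul_h (hk : 2 ≤ k) : (2 : ZMod (2 ^ k)) ^ (k - 1) * 2 ^ (k - 1) = 0 := by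
  rw [← pow_add]
  have : k - 1 + (k - 1) = k + (k - 2) := by omega
  rw [this, pow_add, two_pow_eq_zero, zero_mul]

lemma neg_h (hk : 1 ≤ k) : -(2 : ZMod (2 ^ k)) ^ (k - 1) = 2 ^ (k - 1) := by
  have := two_mul_h hk
  linear_combination -this

lemma A1_det (hk : 2 ≤ k) : (A1 k).det = 1 := by
  unfold A1
  rw [Matrix.det_fin_two_of]
  have h1 := two_mul_h (k := k) (by omega)
  have h2 := h_mul_h hk
  linear_combination h1 + h2

/-- classification of the involutions -/
lemma involution_classify (hk : 2 ≤ k) (a : Matrix (Fin 2) (Fin 2) (ZMod (2 ^ k)))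
    (ha2 : a * a = 1)
    (hrel : a * (Cm _ * a * Ci _) = Cm _ * (Cm _ * a * Ci _) * Ci _) (ha1 : a ≠ 1) :
    a = A1 k ∨ a = Cm _ * A1 k * Ci _ ∨ a = Cm _ * (Cm _ * A1 k * Ci _) * Ci _ := by
  have hk1 : 1 ≤ k := by omega
  rw [eta a] at ha2 hrel
  obtain ⟨c1, c2, c3, c4⟩ := key_rel (isUnit_three k) _ _ _ _ ha2 hrel
  have hnh := neg_h hk1
  have h2h := two_mul_h hk1
  unfold A1
  rw [conj_formula, conj_formula]
  rcases eq_of_two_mul_eq_zero k hk1 _ c3 with hp | hp <;>
  rcases eq_of_two_mul_eq_zero k hk1 _ c4 with hr | hr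
  · exfalso
    apply ha1
    rw [eta a]
    have e00 : a 0 0 = 1 := by linear_combination hp
    have e11 : a 1 1 = 1 := by linear_combination c1 - hp
    have e01 : a 0 1 = 0 := by linear_combination c2 + hr - hp
    rw [e00, e11, e01, hr]
    exact Matrix.one_fin_two.symm
  · -- p = 1, r = h : A2
    right; right
    rw [eta a]
    have e00 : a 0 0 = 1 := by linear_combination hp
    have e11 : a 1 1 = 1 := by linear_combination c1 - hp
    have e01 : a 0 1 = 2 ^ (k - 1) := by linear_combination c2 + hr - hp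
    rw [e00, e11, e01, hr]
    ext i j
    fin_cases i <;> fin_cases j <;> simp <;>
      first
      | ring1
      | linear_combination h2h
      | linear_combination (-1 : ZMod (2 ^ k)) * h2h
      | linear_combination (2 : ZMod (2 ^ k)) * h2h
      | linear_combination (-2 : ZMod (2 ^ k)) * h2h
  · -- p = 1 + h, r = 0 : A1
    left
    rw [eta a]
    have e00 : a 0 0 = 1 + 2 ^ (k - 1) := by linear_combination hp
    have e11 : a 1 1 = 1 + 2 ^ (k - 1) := by linear_combination c1 - hp - h2h
    have e01 : a 0 1 = 2 ^ (k - 1) := by linear_combination c2 + hr - hp - h2h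
    rw [e00, e11, e01, hr]
  · -- p = 1 + h, r = h : A3
    right; left
    rw [eta a]
    have e00 : a 0 0 = 1 + 2 ^ (k - 1) := by linear_combination hp
    have e11 : a 1 1 = 1 + 2 ^ (k - 1) := by linear_combination c1 - hp - h2h
    have e01 : a 0 1 = 0 := by linear_combination c2 + hr - hp
    rw [e00, e11, e01, hr]
    ext i j
    fin_cases i <;> fin_cases j <;> simp <;>
      first
      | ring1
      | linear_combination h2h
      | linear_combination (-1 : ZMod (2 ^ k)) * h2h
      | linear_combination (2 : ZMod (2 ^ k)) * h2h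
      | linear_combination (-2 : ZMod (2 ^ k)) * h2h

end Cfsg.Agent.helper17.A4GL
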