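import Mathlib
import Cfsg.Agent.Lib_helper17_A4a

set_option autoImplicit false

namespace Cfsg.Agent.helper17.A4GL

open Matrix

variable {k : ℕ}

lemma mat_z2_cube : ∀ M : Matrix (Fin 2) (Fin 2) (ZMod 2), M * M * M = 1 → M 1 0 = 0 → M = 1 := by
  decide

lemma z2_mul_pred : ∀ z : ZMod 2, z * (z - 1) = 0 := by decide

/-- a matrix congruent to `1` mod `2` with cube `1` is `1` -/
lemma eq_one_of_cube (N : Matrix (Fin 2) (Fin 2) (ZMod (2 ^ k)))
    (hN : ∀ i j, ∃ y, N i j = 2 * y) (h3 : (1 + N) * (1 + N) * (1 + N) = 1) : N = 0 := by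
  -- N * (N² + 3N + 3) = 0
  have h1 : N * (N * N + 3 • N + 3 • (1 : Matrix (Fin 2) (Fin 2) (ZMod (2 ^ k)))) = 0 := by
    have : (1 + N) * (1 + N) * (1 + N) - 1 =
        N * (N * N + 3 • N + 3 • (1 : Matrix (Fin 2) (Fin 2) (ZMod (2 ^ k)))) := by
      noncomm_ring
    rw [← this, h3, sub_self]
  set U := N * N + 3 • N + 3 • (1 : Matrix (Fin 2) (Fin 2) (ZMod (2 ^ k))) with hU
  have hUdet : IsUnit U.det := by
    obtain ⟨y00, h00⟩ := hN 0 0
    obtain ⟨y01, h01⟩ := hN 0 1
    obtain ⟨y10, h10⟩ := hN 1 0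
    obtain ⟨y11, h11⟩ := hN 1 1
    have u00 : U 0 0 = N 0 0 * N 0 0 + N 0 1 * N 1 0 + 3 * N 0 0 + 3 := by
      rw [hU]
      simp only [Matrix.add_apply, Matrix.smul_apply, Matrix.mul_apply, Fin.sum_univ_two,
        Matrix.one_apply_eq]
      simp only [nsmul_eq_mul]
      push_cast
      ring
    have u01 : U 0 1 = N 0 0 * N 0 1 + N 0 1 * N 1 1 + 3 * N 0 1 := by
      rw [hU]
      simp only [Matrix.add_apply, Matrix.smul_apply, Matrix.mul_apply, Fin.sum_univ_two,
        Matrix.one_apply_ne (show (0 : Fin 2) ≠ 1 by decide)]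
      simp only [nsmul_eq_mul]
      push_cast
      ring
    have u10 : U 1 0 = N 1 0 * N 0 0 + N 1 1 * N 1 0 + 3 * N 1 0 := by
      rw [hU]
      simp only [Matrix.add_apply, Matrix.smul_apply, Matrix.mul_apply, Fin.sum_univ_two,
        Matrix.one_apply_ne (show (1 : Fin 2) ≠ 0 by decide)]
      simp only [nsmul_eq_mul]
      push_cast
      ring
    have u11 : U 1 1 = N 1 0 * N 0 1 + N 1 1 * N 1 1 + 3 * N 1 1 + 3 := by
      rw [hU]
      simp only [Matrix.add_apply, Matrix.smul_apply, Matrix.mul_apply, Fin.sum_univ_two,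
        Matrix.one_apply_eq]
      simp only [nsmul_eq_mul]
      push_cast
      ring
    have hdet : U.det = 1 + 2 * (4 +
        (2 * y00 * y00 + 2 * y01 * y10 + 3 * y00) * 3 + (2 * y10 * y01 + 2 * y11 * y11 + 3 * y11) * 3
        + 2 * (2 * y00 * y00 + 2 * y01 * y10 + 3 * y00) * (2 * y10 * y01 + 2 * y11 * y11 + 3 * y11)
        - 2 * (2 * y00 * y01 + 2 * y01 * y11 + 3 * y01) * (2 * y10 * y00 + 2 * y11 * y10 + 3 * y10)) := by
      rw [Matrix.det_fin_two, u00, u01, u10, u11, h00, h01, h10, h11]
      ring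
    rw [hdet]
    exact isUnit_one_add_two_mul k _
  have hUunit : IsUnit U := (Matrix.isUnit_iff_isUnit_det U).mpr hUdet
  exact (hUunit.mul_left_eq_zero).mp h1

/-- every element of order 3 is conjugate to the companion matrix -/
lemma conj_to_Cm (hk : 1 ≤ k) (t : Matrix (Fin 2) (Fin 2) (ZMod (2 ^ k))) (h3 : t * t * t = 1)
    (h1 : t ≠ 1) :
    ∃ g : Matrix (Fin 2) (Fin 2) (ZMod (2 ^ k)), IsUnit g.det ∧ t * g = g * Cm _ := by
  -- the entry `t 1 0` is a unit
  have hr : IsUnit (t 1 0) := by
    rcases phi_cases k hk (t 1 0) with h0 | h0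
    · exfalso
      have hmap : (t.map (phi k hk)) * (t.map (phi k hk)) * (t.map (phi k hk)) = 1 := by
        rw [← Matrix.map_mul, ← Matrix.map_mul, h3]
        exact Matrix.map_one _ (map_zero _) (map_one _)
      have hbar := mat_z2_cube _ hmap (by rw [Matrix.map_apply]; exact h0)
      apply h1
      have hN : ∀ i j, ∃ y, (t - 1) i j = 2 * y := by
        intro i j
        apply exists_two_mul k hk
        have := congrFun (congrFun hbar i) j
        rw [Matrix.map_apply] at this
        rw [Matrix.sub_apply, map_sub, this]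
        by_cases hij : i = j
        · subst hij
          rw [Matrix.one_apply_eq, Matrix.one_apply_eq, map_one, sub_self]
        · rw [Matrix.one_apply_ne hij, Matrix.one_apply_ne hij, map_zero, sub_self]
      have := eq_one_of_cube (t - 1) hN (by rw [add_sub_cancel]; exact h3)
      exact sub_eq_zero.mp this
    · exact isUnit_of_phi_one k hk _ h0
  set p := t 0 0 with hp
  set q := t 0 1 with hq
  set r := t 1 0 with hr'
  set s := t 1 1 with hs
  have ht : t = !![p, q; r, s] := eta t
  rw [ht] at h3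
  have e00 := congrFun (congrFun h3 0) 0
  have e10 := congrFun (congrFun h3 1) 0
  simp [Matrix.mul_apply, Fin.sum_univ_two] at e00 e10
  -- trace and determinant
  have c1 : r * ((p + s) ^ 2 - (p * s - q * r)) = 0 := by linear_combination e10
  have c2 : (p + s) ^ 2 = p * s - q * r := by
    have := (hr.mul_right_eq_zero).mp c1
    linear_combination this
  have c3 : (p + s) ^ 3 = -1 := by
    have : ((p + s) ^ 2 - (p * s - q * r)) * p - (p + s) * (p * s - q * r) = 1 := by
      linear_combination e00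
    rw [c2] at this
    linear_combination (p + s) * c2 - this
  have c4 : p + s = -1 := by
    have hev : phi k hk ((p + s) * ((p + s) - 1)) = 0 := by
      rw [map_mul, map_sub, map_one]
      exact z2_mul_pred _
    obtain ⟨y, hy⟩ := exists_two_mul k hk _ hev
    have hu : IsUnit (1 + 2 * y) := isUnit_one_add_two_mul k y
    have : (1 + 2 * y) * (p + s + 1) = 0 := by
      rw [← hy]
      linear_combination c3
    have := (hu.mul_right_eq_zero).mp this
    linear_combination this
  have c5 : p * s - q * r = 1 := by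
    rw [← c2, c4]
    ring
  refine ⟨!![1, p; 0, r], ?_, ?_⟩
  · rw [Matrix.det_fin_two_of]
    simpa using hr
  · rw [ht]
    unfold Cm
    ext i j
    fin_cases i <;> fin_cases j <;> simp [Matrix.mul_apply, Fin.sum_univ_two]
    · linear_combination p * c4 - c5
    · linear_combination r * c4

end Cfsg.Agent.helper17.A4GL
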