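import Mathlib

set_option autoImplicit false

namespace Cfsg.Agent.helper17

section
variable {K V : Type*} [Field K] [AddCommGroup V] [Module K V]

/-- A permutation of a vector space (char ≠ 2) which agrees on every triple of points with an
affine map is affine. -/
theorem affine_of_triples (h2 : (2 : K) ≠ 0) (σ : Equiv.Perm V)
    (h : ∀ x y z : V, ∃ (A : V ≃ₗ[K] V) (b : V), σ x = A x + b ∧ σ y = A y + b ∧ σ z = A z + b) :
    ∃ (A : V ≃ₗ[K] V) (b : V), ∀ x, σ x = A x + b := by
  have key : ∀ (x y : V) (c : K), σ (x + c • (y - x)) = σ x + c • (σ y - σ x) := by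
    intro x y c
    obtain ⟨A, b, h1, h2, h3⟩ := h x y (x + c • (y - x))
    rw [h3, h1, h2]
    simp only [map_add, map_smul, map_sub]
    rw [add_sub_add_right_eq_sub]; abel
  have hL0 : ∀ (c : K) (v : V), σ (c • v) = σ 0 + c • (σ v - σ 0) := by
    intro c v
    have := key 0 v c
    rwa [zero_add, sub_zero] at this
  have hadd : ∀ u v : V, σ (u + v) - σ 0 = (σ u - σ 0) + (σ v - σ 0) := by
    intro u v
    have e1 : σ (u + v) = σ ((2:K) • u) + (2⁻¹:K) • (σ ((2:K) • v) - σ ((2:K) • u)) := by
      have := key ((2:K) • u) ((2:K) • v) (2⁻¹:K)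
      have harg : (2:K) • u + (2⁻¹:K) • ((2:K) • v - (2:K) • u) = u + v := by
        rw [← smul_sub, smul_smul, inv_mul_cancel₀ h2, one_smul, two_smul]; abel
      rwa [harg] at this
    rw [e1, hL0 2 u, hL0 2 v, add_sub_add_left_eq_sub, ← smul_sub, smul_smul,
      inv_mul_cancel₀ h2, one_smul, two_smul]
    abel
  let L : V →ₗ[K] V :=
    { toFun := fun v => σ v - σ 0
      map_add' := hadd
      map_smul' := fun c v => by
        simp only [RingHom.id_apply]
        rw [hL0 c v, add_sub_cancel_left] }
  have hLapp : ∀ v, L v = σ v - σ 0 := fun v => rfl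
  have hinj : Function.Injective L := by
    intro u v huv
    rw [hLapp, hLapp, sub_left_inj] at huv
    exact σ.injective huv
  have hsurj : Function.Surjective L := by
    intro w
    refine ⟨σ.symm (w + σ 0), ?_⟩
    rw [hLapp, Equiv.apply_symm_apply, add_sub_cancel_right]
  have hbij : Function.Bijective L := ⟨hinj, hsurj⟩
  refine ⟨LinearEquiv.ofBijective L hbij, σ 0, fun x => ?_⟩
  change σ x = L x + σ 0
  rw [hLapp, sub_add_cancel]

/-- Two linear maps out of `ι → K` agreeing on the standard basis vectors are equal. -/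
theorem linearMap_ext_single {ι : Type*} [Finite ι] [DecidableEq ι] (f g : (ι → K) →ₗ[K] V)
    (h : ∀ i, f (Pi.single i 1) = g (Pi.single i 1)) : f = g := by
  apply LinearMap.pi_ext
  intro i x
  have : (Pi.single i x : ι → K) = x • Pi.single i 1 := by
    rw [← Pi.single_smul, smul_eq_mul, mul_one]
  rw [this, map_smul, map_smul, h i]

end

theorem two_ne_zero_zmod {p : ℕ} [Fact p.Prime] (hp : p ≠ 2) : (2 : ZMod p) ≠ 0 := by
  intro h
  have h' : ((2 : ℕ) : ZMod p) = 0 := by exact_mod_cast h
  rw [ZMod.natCast_eq_zero_iff] at h'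
  have hp' : p.Prime := Fact.out
  have := (Nat.prime_dvd_prime_iff_eq hp' Nat.prime_two).mp h'
  exact hp this

end Cfsg.Agent.helper17
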