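import Mathlib
import Cfsg.Agent.Lib_helper11_HermCount

set_option autoImplicit false

namespace Cfsg.Agent.helper17.CenU

open QuadraticAlgebra

variable {F : Type*} [Field F] [Fintype F]

lemma three_ne_zero (hq : Fintype.card F % 3 = 2) : (3 : F) ≠ 0 := by
  intro h3
  have h1 : ((Fintype.card F : ℕ) : F) = 0 := FiniteField.cast_card_eq_zero F
  have h2 : Fintype.card F = 3 * (Fintype.card F / 3) + 2 := by omega
  rw [h2] at h1
  push_cast at h1
  rw [h3, zero_mul, zero_add] at h1
  have : (1 : F) = 0 := by linear_combination h3 - h1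
  exact one_ne_zero this

lemma no_root (hq : Fintype.card F % 3 = 2) : ∀ r : F, r ^ 2 ≠ -1 + (-1) * r := by
  intro r hr
  have h3 : r ^ 3 = 1 := by linear_combination (r - 1) * hr
  have hr0 : r ≠ 0 := by
    rintro rfl
    norm_num at h3
  have h1 : r ^ (Fintype.card F - 1) = 1 := FiniteField.pow_card_sub_one_eq_one r hr0
  have h2 : Fintype.card F - 1 = 3 * (Fintype.card F / 3) + 1 := by omega
  rw [h2, pow_add, pow_mul, h3, one_pow, one_mul, pow_one] at h1
  rw [h1] at hr
  apply three_ne_zero hq
  linear_combination hr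

/-- the quadratic extension `F[ω]`, `ω² + ω + 1 = 0` -/
abbrev KK (F : Type*) [Field F] := QuadraticAlgebra F (-1) (-1)

noncomputable instance : Fintype (KK F) :=
  Fintype.ofEquiv (F × F) (QuadraticAlgebra.equivProd (-1 : F) (-1)).symm

lemma card_KK : Fintype.card (KK F) = Fintype.card F ^ 2 := by
  rw [Fintype.card_congr (QuadraticAlgebra.equivProd (-1 : F) (-1)), Fintype.card_prod, sq]

lemma omega_cube : (ω : KK F) ^ 3 = 1 := by
  have h : (ω : KK F) * ω = ⟨-1, -1⟩ := omega_mul_omega_eq_mk
  have h2 : (ω : KK F) ^ 3 = ω * ω * ω := by ring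
  rw [h2, h]
  ext <;> simp

lemma omega_pow_card (hq : Fintype.card F % 3 = 2) :
    (ω : KK F) ^ Fintype.card F = star (ω : KK F) := by
  have h2 : Fintype.card F = 3 * (Fintype.card F / 3) + 2 := by omega
  rw [h2, pow_add, pow_mul, omega_cube, one_pow, one_mul, sq, omega_mul_omega_eq_mk]
  ext <;> simp

lemma pow_card_eq_star (hq : Fintype.card F % 3 = 2) (z : KK F) :
    z ^ Fintype.card F = star z := by
  have h1 : z = algebraMap F (KK F) z.re + z.im • (ω : KK F) := by
    rw [← mk_eq_add_smul_omega]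
  have h2 : FiniteField.frobeniusAlgHom F (KK F) z = z ^ Fintype.card F := rfl
  rw [← h2]
  conv_lhs => rw [h1]
  rw [map_add, map_smul, AlgHom.commutes]
  have h3 : FiniteField.frobeniusAlgHom F (KK F) (ω : KK F) = star (ω : KK F) :=
    omega_pow_card hq
  rw [h3]
  ext <;> simp

variable [Fact (∀ r : F, r ^ 2 ≠ -1 + (-1) * r)]

/-- the norm form `a² - ab + b²` represents every nonzero element -/
lemma exists_norm_form (t : F) (ht : t ≠ 0) (hq : Fintype.card F % 3 = 2) :
    ∃ a b : F, a * a - a * b + b * b = t := by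
  have hK : Fintype.card (KK F) = Fintype.card F ^ 2 := card_KK
  have hd0 : algebraMap F (KK F) t ≠ 0 := by
    intro h
    apply ht
    exact (algebraMap F (KK F)).injective (by rw [h, map_zero])
  have hd1 : (Units.mk0 (algebraMap F (KK F) t) hd0) ^ (Fintype.card F - 1) = 1 := by
    apply Units.ext
    rw [Units.val_pow_eq_pow_val, Units.val_mk0, ← map_pow,
      FiniteField.pow_card_sub_one_eq_one t ht, map_one]
    rfl
  obtain ⟨u, hu⟩ := Cfsg.Agent.helper11.HermCount.exists_norm_eq hK _ hd1
  have h1 : (u : KK F) ^ (Fintype.card F + 1) = algebraMap F (KK F) t := by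
    have := congrArg Units.val hu
    rw [Units.val_pow_eq_pow_val, Units.val_mk0] at this
    exact this
  rw [pow_succ, pow_card_eq_star hq, mul_comm, ← algebraMap_norm_eq_mul_star] at h1
  have h2 : norm (u : KK F) = t := (algebraMap F (KK F)).injective h1
  rw [norm_def] at h2
  refine ⟨(u : KK F).re, (u : KK F).im, ?_⟩
  rw [← h2]
  ring

end Cfsg.Agent.helper17.CenU
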