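import Mathlib
import Cfsg.Agent.Lib_helper17_CenU1

set_option autoImplicit false

namespace Cfsg.Agent.helper17.CenU

open QuadraticAlgebra Matrix

variable {F : Type*} [Field F] {m : ℕ}

/-- real part, additive -/
def reHom : KK F →+ F where
  toFun z := z.re
  map_zero' := rfl
  map_add' _ _ := rfl

/-- imaginary part, additive -/
def imHom : KK F →+ F where
  toFun z := z.im
  map_zero' := rfl
  map_add' _ _ := rfl

/-- matrix of real parts -/
def reM (G : Matrix (Fin m) (Fin m) (KK F)) : Matrix (Fin m) (Fin m) F := fun i j => (G i j).re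

/-- matrix of imaginary parts -/
def imM (G : Matrix (Fin m) (Fin m) (KK F)) : Matrix (Fin m) (Fin m) F := fun i j => (G i j).im

lemma reM_mul (G H : Matrix (Fin m) (Fin m) (KK F)) :
    reM (G * H) = reM G * reM H - imM G * imM H := by
  ext i j
  simp only [reM, imM, Matrix.mul_apply, Matrix.sub_apply]
  have : (∑ k, G i k * H k j).re = ∑ k, (G i k * H k j).re := map_sum reHom _ _
  rw [this, ← Finset.sum_sub_distrib]
  apply Finset.sum_congr rfl
  intro k _
  rw [re_mul]
  ring

lemma imM_mul (G H : Matrix (Fin m) (Fin m) (KK F)) :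
    imM (G * H) = reM G * imM H + imM G * reM H - imM G * imM H := by
  ext i j
  simp only [reM, imM, Matrix.mul_apply, Matrix.sub_apply, Matrix.add_apply]
  have : (∑ k, G i k * H k j).im = ∑ k, (G i k * H k j).im := map_sum imHom _ _
  rw [this, ← Finset.sum_add_distrib, ← Finset.sum_sub_distrib]
  apply Finset.sum_congr rfl
  intro k _
  rw [im_mul]
  ring

lemma reM_one : reM (1 : Matrix (Fin m) (Fin m) (KK F)) = 1 := by
  ext i j
  simp only [reM, Matrix.one_apply]
  split_ifs <;> rfl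

lemma imM_one : imM (1 : Matrix (Fin m) (Fin m) (KK F)) = 0 := by
  ext i j
  simp only [imM, Matrix.one_apply, Matrix.zero_apply]
  split_ifs <;> rfl

lemma reM_conjTranspose (G : Matrix (Fin m) (Fin m) (KK F)) :
    reM Gᴴ = (reM G)ᵀ - (imM G)ᵀ := by
  ext i j
  simp [reM, imM, Matrix.conjTranspose_apply]
  ring

lemma imM_conjTranspose (G : Matrix (Fin m) (Fin m) (KK F)) :
    imM Gᴴ = -(imM G)ᵀ := by
  ext i j
  simp [imM, Matrix.conjTranspose_apply]

lemma eq_of_reM_imM (G H : Matrix (Fin m) (Fin m) (KK F)) (h1 : reM G = reM H) (h2 : imM G = imM H) :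
    G = H := by
  ext i j
  · exact congrFun (congrFun h1 i) j
  · exact congrFun (congrFun h2 i) j

/-- restriction of scalars, blockwise -/
def Phi (G : Matrix (Fin m) (Fin m) (KK F)) : Matrix (Fin m ⊕ Fin m) (Fin m ⊕ Fin m) F :=
  fromBlocks (reM G) (-imM G) (imM G) (reM G - imM G)

lemma Phi_one : Phi (1 : Matrix (Fin m) (Fin m) (KK F)) = 1 := by
  unfold Phi
  rw [reM_one, imM_one, neg_zero, sub_zero, fromBlocks_one]

lemma Phi_mul (G H : Matrix (Fin m) (Fin m) (KK F)) : Phi (G * H) = Phi G * Phi H := by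
  unfold Phi
  rw [fromBlocks_multiply, reM_mul, imM_mul]
  congr 1 <;> noncomm_ring

lemma Phi_injective : Function.Injective (Phi (F := F) (m := m)) := by
  intro G H h
  unfold Phi at h
  rw [Matrix.fromBlocks_inj] at h
  exact eq_of_reM_imM G H h.1 h.2.2.1

/-- the standard element of order 3 -/
def X0 (m : ℕ) (F : Type*) [Field F] : Matrix (Fin m ⊕ Fin m) (Fin m ⊕ Fin m) F :=
  fromBlocks 0 (-1) 1 (-1)

lemma X0_mem : X0 m F ∈ symplecticGroup (Fin m) F := by
  rw [SymplecticGroup.mem_iff]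
  unfold X0 Matrix.J
  rw [fromBlocks_transpose, fromBlocks_multiply, fromBlocks_multiply]
  simp

lemma commute_X0_iff (M : Matrix (Fin m ⊕ Fin m) (Fin m ⊕ Fin m) F) :
    M * X0 m F = X0 m F * M ↔ ∃ G, M = Phi G := by
  constructor
  · intro h
    rw [← Matrix.fromBlocks_toBlocks M] at h
    unfold X0 at h
    rw [fromBlocks_multiply, fromBlocks_multiply, Matrix.fromBlocks_inj] at h
    simp only [Matrix.mul_zero, Matrix.mul_one, zero_add, Matrix.mul_neg, Matrix.zero_mul,
      Matrix.neg_mul, Matrix.one_mul] at h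
    obtain ⟨h1, h2, h3, h4⟩ := h
    refine ⟨fun i j => ⟨M.toBlocks₁₁ i j, M.toBlocks₂₁ i j⟩, ?_⟩
    conv_lhs => rw [← Matrix.fromBlocks_toBlocks M]
    unfold Phi
    congr 1
    rw [h3, ← sub_eq_add_neg]
    rfl
  · rintro ⟨G, rfl⟩
    unfold Phi X0
    rw [fromBlocks_multiply, fromBlocks_multiply]
    congr 1 <;> simp <;> abel

lemma Phi_conjTranspose (G : Matrix (Fin m) (Fin m) (KK F)) :
    J (Fin m) F * (Phi G)ᵀ * (-J (Fin m) F) = Phi Gᴴ := by
  unfold Phi Matrix.J
  rw [fromBlocks_transpose, Matrix.fromBlocks_neg, fromBlocks_multiply, fromBlocks_multiply,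
    reM_conjTranspose, imM_conjTranspose]
  congr 1 <;> simp

lemma Phi_mem_iff (G : Matrix (Fin m) (Fin m) (KK F)) :
    Phi G ∈ symplecticGroup (Fin m) F ↔ G * Gᴴ = 1 := by
  rw [SymplecticGroup.mem_iff]
  have hJ : J (Fin m) F * (-J (Fin m) F) = 1 := by
    rw [Matrix.mul_neg, Matrix.J_squared, neg_neg]
  have hJ' : (-J (Fin m) F) * J (Fin m) F = 1 := by
    rw [Matrix.neg_mul, Matrix.J_squared, neg_neg]
  constructor
  · intro h
    apply Phi_injective
    rw [Phi_mul, Phi_one, ← Phi_conjTranspose, ← Matrix.mul_assoc, ← Matrix.mul_assoc, h, hJ]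
  · intro h
    have h1 : Phi G * (J (Fin m) F * (Phi G)ᵀ * (-J (Fin m) F)) = 1 := by
      rw [Phi_conjTranspose, ← Phi_mul, h, Phi_one]
    calc Phi G * J (Fin m) F * (Phi G)ᵀ
        = Phi G * J (Fin m) F * (Phi G)ᵀ * ((-J (Fin m) F) * J (Fin m) F) := by
          rw [hJ', Matrix.mul_one]
      _ = (Phi G * (J (Fin m) F * (Phi G)ᵀ * (-J (Fin m) F))) * J (Fin m) F := by
          simp only [Matrix.mul_assoc]
      _ = J (Fin m) F := by rw [h1, Matrix.one_mul]

end Cfsg.Agent.helper17.CenU
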