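import Mathlib

set_option autoImplicit false

namespace Cfsg.Agent.helper17.CenU

universe u

variable {F : Type*} [Field F]

/-- hypotheses: `B` alternating nondegenerate, `x` an isometry with `x² + x + 1 = 0` -/
structure Hyp {V : Type u} [AddCommGroup V] [Module F V] (B : LinearMap.BilinForm F V)
    (x : V →ₗ[F] V) : Prop where
  nondeg : ∀ u, (∀ v, B u v = 0) → u = 0
  alt : ∀ v, B v v = 0
  inv : ∀ u v, B (x u) (x v) = B u v
  quad : ∀ v, x (x v) + x v + v = 0

namespace Hyp

variable {V : Type u} [AddCommGroup V] [Module F V] {B : LinearMap.BilinForm F V}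
  {x : V →ₗ[F] V} (h : Hyp B x)

include h

lemma skew (u v : V) : B u v = -B v u := by
  have h1 := h.alt (u + v)
  simp only [map_add, LinearMap.add_apply] at h1
  rw [h.alt u, h.alt v] at h1
  linear_combination h1

lemma nondeg_right (v : V) (hv : ∀ u, B u v = 0) : v = 0 := by
  apply h.nondeg
  intro u
  rw [h.skew, hv, neg_zero]

lemma xx (v : V) : x (x v) = -x v - v := by
  have := h.quad v
  rw [← sub_eq_zero]
  rw [← this]
  abel

lemma cube (v : V) : x (x (x v)) = v := by
  rw [h.xx v, map_sub, map_neg, h.xx v]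
  abel

lemma adj (u v : V) : B (x u) v = B u (x (x v)) := by
  rw [← h.inv u (x (x v)), h.cube]

lemma exists_nonisotropic (h3 : (3 : F) ≠ 0) (hV : ∃ v : V, v ≠ 0) : ∃ e : V, B e (x e) ≠ 0 := by
  by_contra hcon
  push Not at hcon
  obtain ⟨v₀, hv₀⟩ := hV
  apply hv₀
  have hpol : ∀ u v : V, B u (x v) + B v (x u) = 0 := by
    intro u v
    have h1 := hcon (u + v)
    simp only [map_add, LinearMap.add_apply] at h1
    rw [hcon u, hcon v] at h1
    linear_combination h1
  have hfix : ∀ v : V, x v = x (x v) := by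
    intro v
    rw [← sub_eq_zero]
    apply h.nondeg_right
    intro u
    rw [map_sub, ← h.adj u v, h.skew (x u) v]
    linear_combination hpol u v
  have hx0 : ∀ v : V, x v = 0 := by
    intro v
    have h1 := h.quad (x v)
    rw [← hfix (x v), ← hfix v] at h1
    have h2 : (3 : F) • x v = 0 := by
      rw [← h1]
      module
    rcases smul_eq_zero.mp h2 with h4 | h4
    · exact absurd h4 h3
    · exact h4
  have := h.cube v₀
  rw [hx0 v₀, map_zero, map_zero] at this
  exact this.symm

lemma exists_normalized (h3 : (3 : F) ≠ 0)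
    (hnorm : ∀ t : F, t ≠ 0 → ∃ a b : F, a * a - a * b + b * b = t) (hV : ∃ v : V, v ≠ 0) :
    ∃ e : V, B e (x e) = -1 := by
  obtain ⟨e₀, he₀⟩ := h.exists_nonisotropic h3 hV
  set c := B e₀ (x e₀) with hc
  obtain ⟨a, b, hab⟩ := hnorm (-c⁻¹) (neg_ne_zero.mpr (inv_ne_zero he₀))
  refine ⟨a • e₀ + b • x e₀, ?_⟩
  have h1 : B e₀ e₀ = 0 := h.alt e₀
  have h2 : B (x e₀) (x e₀) = 0 := h.alt _
  have h4 : B (x e₀) e₀ = -c := by rw [h.skew, ← hc]
  have h5 : x (a • e₀ + b • x e₀) = (-b) • e₀ + (a - b) • x e₀ := by
    rw [map_add, map_smul, map_smul, h.xx]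
    module
  rw [h5]
  simp only [map_add, map_smul, LinearMap.add_apply, LinearMap.smul_apply, smul_eq_mul, h1, h2, h4,
    ← hc]
  have : c * (a * a - a * b + b * b) = -1 := by
    rw [hab]
    field_simp
  linear_combination this

end Hyp

/-- existence of an adapted family -/
theorem exists_adapted (h3 : (3 : F) ≠ 0)
    (hnorm : ∀ t : F, t ≠ 0 → ∃ a b : F, a * a - a * b + b * b = t) :
    ∀ (d : ℕ) (V : Type u) [AddCommGroup V] [Module F V] [FiniteDimensional F V]
      (B : LinearMap.BilinForm F V) (x : V →ₗ[F] V), Hyp B x → Module.finrank F V = d →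
      ∃ (n : ℕ) (e : Fin n → V), 2 * n = d ∧ (∀ i j, B (e i) (e j) = 0) ∧
        (∀ i j, B (e i) (x (e j)) = if i = j then -1 else 0) := by
  intro d
  induction d using Nat.strong_induction_on with
  | _ d ih =>
  intro V _ _ _ B x h hd
  rcases Nat.eq_zero_or_pos d with hd0 | hdpos
  · subst hd0
    refine ⟨0, Fin.elim0, rfl, fun i => i.elim0, fun i => i.elim0⟩
  · have hV : ∃ v : V, v ≠ 0 := by
      have : 0 < Module.finrank F V := by omega
      rw [Module.finrank_pos_iff_exists_ne_zero] at this
      exact this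
    obtain ⟨e₀, he₀⟩ := h.exists_normalized h3 hnorm hV
    -- the complement
    let φ : V →ₗ[F] (F × F) := (B e₀).prod (B (x e₀))
    let W : Submodule F V := LinearMap.ker φ
    have hW : ∀ w : V, w ∈ W ↔ B e₀ w = 0 ∧ B (x e₀) w = 0 := by
      intro w
      show ((B e₀ w, B (x e₀) w) : F × F) = 0 ↔ _
      exact Prod.mk_eq_zero
    have h00 : B e₀ e₀ = 0 := h.alt e₀
    have h11 : B (x e₀) (x e₀) = 0 := h.alt _
    have h10 : B (x e₀) e₀ = 1 := by rw [h.skew, he₀, neg_neg]
    have hφsurj : Function.Surjective φ := by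
      intro ⟨s, t⟩
      refine ⟨t • e₀ + (-s) • x e₀, ?_⟩
      show ((B e₀) (t • e₀ + (-s) • x e₀), (B (x e₀)) (t • e₀ + (-s) • x e₀)) = (s, t)
      simp only [map_add, map_smul, smul_eq_mul, h00, h11, h10, he₀]
      ext <;> simp
    have hdimW : Module.finrank F W + 2 = d := by
      have h1 := LinearMap.finrank_range_add_finrank_ker φ
      rw [LinearMap.range_eq_top.mpr hφsurj, finrank_top, Module.finrank_prod,
        Module.finrank_self, hd] at h1
      have : Module.finrank F W = Module.finrank F (LinearMap.ker φ) := rfl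
      omega
    have hxW : ∀ w ∈ W, x w ∈ W := by
      intro w hw
      rw [hW] at hw ⊢
      constructor
      · have : B e₀ (x w) = B (x (x e₀)) w := by
          rw [← h.inv (x (x e₀)) w, h.cube]
        rw [this, h.xx, map_sub, map_neg, LinearMap.sub_apply, LinearMap.neg_apply, hw.1, hw.2]
        simp
      · rw [h.inv, hw.1]
    -- decomposition
    have hdec : ∀ v : V, ∃ w ∈ W, v = (B (x e₀) v) • e₀ + (-(B e₀ v)) • x e₀ + w := by
      intro v
      refine ⟨v - ((B (x e₀) v) • e₀ + (-(B e₀ v)) • x e₀), ?_, by abel⟩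
      rw [hW]
      constructor
      · simp only [map_sub, map_add, map_smul, smul_eq_mul, h00, he₀]
        ring
      · simp only [map_sub, map_add, map_smul, smul_eq_mul, h11, h10]
        ring
    let BW : LinearMap.BilinForm F W := B.restrict W
    let xW : W →ₗ[F] W := x.restrict hxW
    have hHW : Hyp BW xW := by
      refine ⟨?_, ?_, ?_, ?_⟩
      · intro w hw
        apply Subtype.ext
        apply h.nondeg
        intro v
        obtain ⟨w', hw', hv⟩ := hdec v
        have hwW := (hW w.1).mp w.2
        rw [hv, map_add, map_add, map_smul, map_smul, h.skew (w : V) e₀, h.skew (w : V) (x e₀),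
          hwW.1, hwW.2]
        have := hw ⟨w', hw'⟩
        simp only [BW, LinearMap.BilinForm.restrict_apply, LinearMap.domRestrict_apply] at this
        rw [this]
        simp
      · intro w
        exact h.alt w.1
      · intro w w'
        exact h.inv w.1 w'.1
      · intro w
        apply Subtype.ext
        exact h.quad w.1
    obtain ⟨n', e', hn', he1, he2⟩ := ih (Module.finrank F W) (by omega) W BW xW hHW rfl
    refine ⟨n' + 1, Fin.cons e₀ (fun i => (e' i : V)), by omega, ?_, ?_⟩
    · intro i j
      refine Fin.cases ?_ (fun i' => ?_) i <;> refine Fin.cases ?_ (fun j' => ?_) j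
      · simp only [Fin.cons_zero]; exact h00
      · simp only [Fin.cons_zero, Fin.cons_succ]
        exact ((hW _).mp (e' j').2).1
      · simp only [Fin.cons_zero, Fin.cons_succ]
        rw [h.skew, ((hW _).mp (e' i').2).1, neg_zero]
      · simp only [Fin.cons_succ]
        exact he1 i' j'
    · intro i j
      refine Fin.cases ?_ (fun i' => ?_) i <;> refine Fin.cases ?_ (fun j' => ?_) j
      · simp only [Fin.cons_zero, if_true]; exact he₀
      · simp only [Fin.cons_zero, Fin.cons_succ]
        rw [if_neg (Fin.succ_ne_zero j').symm]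
        exact ((hW _).mp (hxW _ (e' j').2)).1
      · simp only [Fin.cons_zero, Fin.cons_succ]
        rw [if_neg (Fin.succ_ne_zero i'), h.skew, ((hW _).mp (e' i').2).2, neg_zero]
      · simp only [Fin.cons_succ]
        have := he2 i' j'
        simp only [Fin.succ_inj]
        exact this

end Cfsg.Agent.helper17.CenU
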