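import Mathlib
import Cfsg.Agent.Lib_helper17_CenU2
import Cfsg.Agent.Lib_helper17_CenU3
import Cfsg.Agent.Lib_helper11_Unitary

set_option autoImplicit false

namespace Cfsg.Agent.helper17.CenU

open QuadraticAlgebra Matrix

variable {F : Type*} [Field F] {m : ℕ}

section unitary

variable [Fintype F] [Fact (∀ r : F, r ^ 2 ≠ -1 + (-1) * r)]

lemma herm_eq (hq : Fintype.card F % 3 = 2) (u v : Fin m → KK F) :
    Cfsg.hermForm m (KK F) (Fintype.card F) u v = u ⬝ᵥ star v := by
  unfold Cfsg.hermForm dotProduct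
  apply Finset.sum_congr rfl
  intro i _
  rw [pow_card_eq_star hq]
  rfl

lemma preserves_iff (hq : Fintype.card F % 3 = 2) (G : Matrix (Fin m) (Fin m) (KK F)) :
    (∀ u v, Cfsg.hermForm m (KK F) (Fintype.card F) (G *ᵥ u) (G *ᵥ v) =
      Cfsg.hermForm m (KK F) (Fintype.card F) u v) ↔ G * Gᴴ = 1 := by
  constructor
  · intro h
    rw [mul_eq_one_comm]
    apply Matrix.ext
    intro i j
    have := h (Pi.single j 1) (Pi.single i 1)
    rw [herm_eq hq, herm_eq hq, Matrix.mulVec_single_one, Matrix.mulVec_single_one] at this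
    rw [Matrix.mul_apply]
    simp only [Matrix.conjTranspose_apply]
    have h2 : (Pi.single j (1 : KK F) : Fin m → KK F) ⬝ᵥ star (Pi.single i (1 : KK F)) =
        (1 : Matrix (Fin m) (Fin m) (KK F)) i j := by
      rw [single_dotProduct, one_mul, Pi.star_apply, Matrix.one_apply]
      by_cases hij : i = j
      · subst hij; simp
      · rw [if_neg hij, Pi.single_apply, if_neg (Ne.symm hij), star_zero]
    rw [← h2, ← this]
    unfold dotProduct
    apply Finset.sum_congr rfl
    intro k _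
    rw [mul_comm]
    rfl
  · intro h u v
    have h' : Gᴴ * G = 1 := mul_eq_one_comm.mp h
    rw [herm_eq hq, herm_eq hq, Matrix.star_mulVec, dotProduct_comm, ← Matrix.dotProduct_mulVec,
      Matrix.mulVec_mulVec, h', Matrix.one_mulVec, dotProduct_comm]

end unitary

section conj

/-- the symplectic form as a bilinear form -/
noncomputable def BJ (m : ℕ) (F : Type*) [Field F] : LinearMap.BilinForm F (Fin m ⊕ Fin m → F) :=
  Matrix.toBilin' (J (Fin m) F)

lemma BJ_apply (u v : Fin m ⊕ Fin m → F) : BJ m F u v = u ⬝ᵥ J (Fin m) F *ᵥ v :=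
  Matrix.toBilin'_apply' _ _ _

lemma BJ_self (v : Fin m ⊕ Fin m → F) : BJ m F v v = 0 := by
  rw [BJ_apply]
  simp only [dotProduct, Matrix.mulVec, Matrix.J, Fintype.sum_sum_type, Matrix.fromBlocks_apply₁₁,
    Matrix.fromBlocks_apply₁₂, Matrix.fromBlocks_apply₂₁, Matrix.fromBlocks_apply₂₂,
    Matrix.zero_apply, zero_mul, Finset.sum_const_zero, zero_add, add_zero, Matrix.neg_apply,
    Matrix.one_apply, neg_mul, ite_mul, one_mul, Finset.sum_neg_distrib, Finset.sum_ite_eq,
    Finset.mem_univ, if_true, mul_neg]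
  rw [neg_add_eq_zero]
  apply Finset.sum_congr rfl
  intro i _
  ring

lemma hyp_of_mem (X : Matrix (Fin m ⊕ Fin m) (Fin m ⊕ Fin m) F)
    (hX : X ∈ symplecticGroup (Fin m) F) (hquad : X * X + X + 1 = 0) :
    Hyp (BJ m F) (Matrix.mulVecLin X) := by
  have hJ : J (Fin m) F * (-J (Fin m) F) = 1 := by
    rw [Matrix.mul_neg, Matrix.J_squared, neg_neg]
  refine ⟨?_, BJ_self, ?_, ?_⟩
  · intro u hu
    have h1 : u ᵥ* J (Fin m) F = 0 := by
      funext k
      have := hu (Pi.single k 1)
      rw [BJ_apply, Matrix.dotProduct_mulVec, dotProduct_single, mul_one] at this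
      exact this
    have h2 : u = (u ᵥ* J (Fin m) F) ᵥ* (-J (Fin m) F) := by
      rw [Matrix.vecMul_vecMul, hJ, Matrix.vecMul_one]
    rw [h2, h1, Matrix.zero_vecMul]
  · intro u v
    have hA := SymplecticGroup.mem_iff'.mp hX
    rw [BJ_apply, BJ_apply, Matrix.mulVecLin_apply, Matrix.mulVecLin_apply, Matrix.mulVec_mulVec,
      ← Matrix.vecMul_transpose, Matrix.dotProduct_mulVec, Matrix.vecMul_vecMul,
      ← Matrix.mul_assoc, hA, ← Matrix.dotProduct_mulVec]
  · intro v
    rw [Matrix.mulVecLin_apply, Matrix.mulVecLin_apply, Matrix.mulVec_mulVec]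
    have : (X * X) *ᵥ v + X *ᵥ v + v = (X * X + X + 1) *ᵥ v := by
      rw [Matrix.add_mulVec, Matrix.add_mulVec, Matrix.one_mulVec]
    rw [this, hquad, Matrix.zero_mulVec]

lemma gram_apply (A M : Matrix (Fin m ⊕ Fin m) (Fin m ⊕ Fin m) F) (k l : Fin m ⊕ Fin m) :
    (Aᵀ * M * A) k l = (fun s => A s k) ⬝ᵥ M *ᵥ (fun t => A t l) := by
  rw [Matrix.mul_apply]
  simp only [Matrix.mul_apply, Matrix.transpose_apply, dotProduct, Matrix.mulVec, Finset.sum_mul,
    Finset.mul_sum]
  rw [Finset.sum_comm]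
  apply Finset.sum_congr rfl
  intro s _
  apply Finset.sum_congr rfl
  intro t _
  ring

/-- every fixed-point-free element of order 3 is conjugate to the standard one -/
theorem conj_to_X0 (h3 : (3 : F) ≠ 0)
    (hnorm : ∀ t : F, t ≠ 0 → ∃ a b : F, a * a - a * b + b * b = t)
    (X : Matrix (Fin m ⊕ Fin m) (Fin m ⊕ Fin m) F)
    (hX : X ∈ symplecticGroup (Fin m) F) (hquad : X * X + X + 1 = 0) :
    ∃ P : Matrix (Fin m ⊕ Fin m) (Fin m ⊕ Fin m) F, P ∈ symplecticGroup (Fin m) F ∧
      X * P = P * X0 m F := by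
  have hH := hyp_of_mem X hX hquad
  have hfr : Module.finrank F (Fin m ⊕ Fin m → F) = 2 * m := by
    rw [Module.finrank_fintype_fun_eq_card, Fintype.card_sum, Fintype.card_fin]
    ring
  obtain ⟨n, e, hn, he1, he2⟩ := exists_adapted h3 hnorm (2 * m) _ (BJ m F) (Matrix.mulVecLin X) hH hfr
  have hnm : n = m := by omega
  subst hnm
  -- the basis vectors
  let bm : Fin n ⊕ Fin n → (Fin n ⊕ Fin n → F) := Sum.elim e (fun i => X *ᵥ e i)
  let P : Matrix (Fin n ⊕ Fin n) (Fin n ⊕ Fin n) F := Matrix.of (fun k l => bm l k)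
  have hgram : ∀ k l, BJ n F (bm k) (bm l) = J (Fin n) F k l := by
    rintro (i | i) (j | j)
    · simp only [bm, Sum.elim_inl, Matrix.J, Matrix.fromBlocks_apply₁₁, Matrix.zero_apply]
      exact he1 i j
    · simp only [bm, Sum.elim_inl, Sum.elim_inr, Matrix.J, Matrix.fromBlocks_apply₁₂,
        Matrix.neg_apply, Matrix.one_apply]
      have := he2 i j
      rw [Matrix.mulVecLin_apply] at this
      rw [this]
      split_ifs <;> simp
    · simp only [bm, Sum.elim_inl, Sum.elim_inr, Matrix.J, Matrix.fromBlocks_apply₂₁,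
        Matrix.one_apply]
      have := he2 j i
      rw [Matrix.mulVecLin_apply] at this
      rw [hH.skew, this]
      by_cases hij : i = j
      · subst hij; simp
      · rw [if_neg hij, if_neg (Ne.symm hij), neg_zero]
    · simp only [bm, Sum.elim_inr, Matrix.J, Matrix.fromBlocks_apply₂₂, Matrix.zero_apply]
      have := hH.inv (e i) (e j)
      rw [Matrix.mulVecLin_apply, Matrix.mulVecLin_apply] at this
      rw [this]
      exact he1 i j
  have hPmem : P ∈ symplecticGroup (Fin n) F := by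
    rw [SymplecticGroup.mem_iff']
    ext k l
    rw [gram_apply, ← BJ_apply]
    exact hgram k l
  refine ⟨P, hPmem, ?_⟩
  ext k l
  have hXP : (X * P) k l = (X *ᵥ bm l) k := by
    rw [Matrix.mul_apply]
    rfl
  rw [hXP, Matrix.mul_apply, Fintype.sum_sum_type]
  rcases l with j | j
  · simp only [X0, Matrix.fromBlocks_apply₁₁, Matrix.fromBlocks_apply₂₁, Matrix.zero_apply,
      mul_zero, Finset.sum_const_zero, zero_add, Matrix.one_apply, mul_ite, mul_one,
      Finset.sum_ite_eq', Finset.mem_univ, if_true]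
    rfl
  · simp only [X0, Matrix.fromBlocks_apply₁₂, Matrix.fromBlocks_apply₂₂, Matrix.neg_apply,
      Matrix.one_apply, mul_neg, mul_ite, mul_one, mul_zero, Finset.sum_neg_distrib,
      Finset.sum_ite_eq', Finset.mem_univ, if_true]
    have hxx := hH.xx (e j)
    rw [Matrix.mulVecLin_apply, Matrix.mulVecLin_apply] at hxx
    show (X *ᵥ (X *ᵥ e j)) k = -(e j k) + -((X *ᵥ e j) k)
    rw [hxx]
    simp only [Pi.sub_apply, Pi.neg_apply]
    ring

end conj

end Cfsg.Agent.helper17.CenU
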