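import Mathlib

/-! Automorphisms of a group of order `p^3` with a characteristic chain (helper17). -/

set_option autoImplicit false

namespace Cfsg.Agent.helper17.Chain

variable {Γ : Type*} [Group Γ]

/-- restriction of automorphisms to a characteristic subgroup -/
def res (M : Subgroup Γ) (hM : ∀ α : MulAut Γ, ∀ x ∈ M, α x ∈ M) : MulAut Γ →* MulAut ↥M where
  toFun α :=
    { toFun := fun x => ⟨α x, hM α x x.2⟩
      invFun := fun x => ⟨α⁻¹ x, hM α⁻¹ x x.2⟩
      left_inv := fun x => Subtype.ext (by simp)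
      right_inv := fun x => Subtype.ext (by simp)
      map_mul' := fun x y => Subtype.ext (by simp) }
  map_one' := by ext x; rfl
  map_mul' := fun α β => by ext x; rfl

theorem res_apply (M : Subgroup Γ) (hM : ∀ α : MulAut Γ, ∀ x ∈ M, α x ∈ M) (α : MulAut Γ) (x : M) :
    ((res M hM α x : M) : Γ) = α x := rfl

theorem map_res (M N : Subgroup Γ) (hM : ∀ α : MulAut Γ, ∀ x ∈ M, α x ∈ M)
    (hN : ∀ α : MulAut Γ, ∀ x ∈ N, α x ∈ N) (α : MulAut Γ) :
    (N.subgroupOf M).map ((res M hM α : ↥M ≃* ↥M) : ↥M →* ↥M) = N.subgroupOf M := by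
  ext y
  constructor
  · rintro ⟨x, hx, rfl⟩
    rw [Subgroup.mem_subgroupOf]
    exact hN α _ (Subgroup.mem_subgroupOf.mp hx)
  · intro hy
    refine ⟨res M hM α⁻¹ y, ?_, ?_⟩
    · rw [SetLike.mem_coe, Subgroup.mem_subgroupOf]
      exact hN α⁻¹ _ (Subgroup.mem_subgroupOf.mp hy)
    · apply Subtype.ext
      show α (α⁻¹ (y : Γ)) = y
      simp

/-- action on a factor `M / N` of characteristic subgroups -/
noncomputable def fac (M N : Subgroup Γ) (hM : ∀ α : MulAut Γ, ∀ x ∈ M, α x ∈ M)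
    (hN : ∀ α : MulAut Γ, ∀ x ∈ N, α x ∈ N) [(N.subgroupOf M).Normal] :
    MulAut Γ →* MulAut (↥M ⧸ N.subgroupOf M) where
  toFun α := QuotientGroup.congr (N.subgroupOf M) (N.subgroupOf M) (res M hM α) (map_res M N hM hN α)
  map_one' := by
    apply MulEquiv.ext
    intro q
    induction q using QuotientGroup.induction_on with
    | H x => rfl
  map_mul' := fun α β => by
    apply MulEquiv.ext
    intro q
    induction q using QuotientGroup.induction_on with
    | H x => rfl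

theorem fac_eq_one_iff (M N : Subgroup Γ) (hM : ∀ α : MulAut Γ, ∀ x ∈ M, α x ∈ M)
    (hN : ∀ α : MulAut Γ, ∀ x ∈ N, α x ∈ N) [(N.subgroupOf M).Normal] (α : MulAut Γ) :
    fac M N hM hN α = 1 ↔ ∀ x ∈ M, x⁻¹ * α x ∈ N := by
  constructor
  · intro h x hx
    have h1 : fac M N hM hN α (QuotientGroup.mk ⟨x, hx⟩) = QuotientGroup.mk ⟨x, hx⟩ := by
      rw [h]; rfl
    have h2 : (QuotientGroup.mk (res M hM α ⟨x, hx⟩) : ↥M ⧸ N.subgroupOf M) =
        QuotientGroup.mk ⟨x, hx⟩ := h1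
    rw [eq_comm, QuotientGroup.eq, Subgroup.mem_subgroupOf] at h2
    exact h2
  · intro h
    apply MulEquiv.ext
    intro q
    induction q using QuotientGroup.induction_on with
    | H x =>
      show (QuotientGroup.mk (res M hM α x) : ↥M ⧸ N.subgroupOf M) = QuotientGroup.mk x
      rw [eq_comm, QuotientGroup.eq, Subgroup.mem_subgroupOf]
      exact h x x.2

theorem res_eq_one_iff (M : Subgroup Γ) (hM : ∀ α : MulAut Γ, ∀ x ∈ M, α x ∈ M) (α : MulAut Γ) :
    res M hM α = 1 ↔ ∀ x ∈ M, α x = x := by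
  constructor
  · intro h x hx
    have : res M hM α ⟨x, hx⟩ = ⟨x, hx⟩ := by rw [h]; rfl
    exact congrArg Subtype.val this
  · intro h
    apply MulEquiv.ext
    intro x
    exact Subtype.ext (h x x.2)

/-- automorphisms of a group of prime order -/
theorem aut_pow_eq_one {Q : Type*} [Group Q] {p : ℕ} [hp : Fact p.Prime] (hQ : Nat.card Q = p)
    (σ : MulAut Q) : σ ^ (p - 1) = 1 := by
  haveI : Finite Q := Nat.finite_of_card_ne_zero (hQ ▸ hp.out.ne_zero)
  haveI : IsCyclic Q := isCyclic_of_prime_card hQ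
  have h1 : Nat.card (MulAut Q) = Nat.totient (Nat.card Q) := IsCyclic.card_mulAut (G := Q)
  rw [hQ, Nat.totient_prime hp.out] at h1
  rw [← h1]
  exact pow_card_eq_one'

theorem move_pow (α : MulAut Γ) (N M : Subgroup Γ) (hN : ∀ x ∈ N, α x ∈ N)
    (hmove : ∀ x ∈ M, x⁻¹ * α x ∈ N) : ∀ j : ℕ, ∀ x ∈ M, x⁻¹ * (α ^ j) x ∈ N := by
  intro j
  induction j with
  | zero => intro x _; simp [N.one_mem]
  | succ j ih =>
    intro x hx
    rw [pow_succ']
    show x⁻¹ * α ((α ^ j) x) ∈ N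
    have h1 : (α ^ j) x = x * (x⁻¹ * (α ^ j) x) := by group
    rw [h1, map_mul]
    have h2 : x⁻¹ * (α x * α (x⁻¹ * (α ^ j) x)) = (x⁻¹ * α x) * α (x⁻¹ * (α ^ j) x) := by group
    rw [h2]
    exact N.mul_mem (hmove x hx) (hN _ (ih x hx))

theorem pow_fix (α : MulAut Γ) (N M : Subgroup Γ) [Finite N] (hfix : ∀ n ∈ N, α n = n)
    (hmove : ∀ x ∈ M, x⁻¹ * α x ∈ N) : ∀ x ∈ M, (α ^ Nat.card N) x = x := by
  intro x hx
  set n := x⁻¹ * α x with hn
  have hnN : n ∈ N := hmove x hx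
  have hax : α x = x * n := by rw [hn]; group
  have key : ∀ j : ℕ, (α ^ j) x = x * n ^ j := by
    intro j
    induction j with
    | zero => simp
    | succ j ih =>
      rw [pow_succ']
      show α ((α ^ j) x) = _
      rw [ih, map_mul, hax, map_pow, hfix n hnN, pow_succ']
      group
  rw [key]
  have : (⟨n, hnN⟩ : N) ^ Nat.card N = 1 := pow_card_eq_one'
  have h2 : n ^ Nat.card N = 1 := by
    have h3 := congrArg Subtype.val this
    rw [Subgroup.coe_pow, Subgroup.coe_one] at h3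
    exact h3
  rw [h2, mul_one]

theorem normal_of_char (M : Subgroup Γ) (hM : ∀ α : MulAut Γ, ∀ x ∈ M, α x ∈ M) : M.Normal := by
  constructor
  intro n hn g
  have := hM (MulAut.conj g) n hn
  simpa using this

/-- main theorem on characteristic chains of a group of order `p^3` -/
theorem chain_main {H : Type*} [Group H] [Finite H] {p : ℕ} [hp : Fact p.Prime] (H1 H2 : Subgroup H)
    (h12 : H1 ≤ H2) (hc1 : Nat.card H1 = p) (hc2 : Nat.card H2 = p ^ 2) (hc : Nat.card H = p ^ 3)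
    (hch1 : ∀ α : MulAut H, ∀ x ∈ H1, α x ∈ H1) (hch2 : ∀ α : MulAut H, ∀ x ∈ H2, α x ∈ H2) :
    ∃ Kst : Subgroup (MulAut H), Kst.Normal ∧ IsPGroup p Kst ∧ ∀ α : MulAut H, α ^ (p - 1) ∈ Kst := by
  have hpp : p.Prime := hp.out
  haveI hn1 : H1.Normal := normal_of_char H1 hch1
  haveI hn2 : H2.Normal := normal_of_char H2 hch2
  haveI : (H1.subgroupOf H2).Normal := inferInstance
  haveI : (H2.subgroupOf ⊤).Normal := inferInstance
  have htop : ∀ α : MulAut H, ∀ x ∈ (⊤ : Subgroup H), α x ∈ (⊤ : Subgroup H) :=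
    fun _ _ _ => Subgroup.mem_top _
  let φ1 := res H1 hch1
  let φ2 := fac H2 H1 hch2 hch1
  let φ3 := fac ⊤ H2 htop hch2
  -- cardinalities of the factors
  have hq2 : Nat.card (↥H2 ⧸ H1.subgroupOf H2) = p := by
    have h1 := (H1.subgroupOf H2).card_mul_index
    rw [hc2] at h1
    have h2 : Nat.card (H1.subgroupOf H2) = p := by
      rw [← hc1]
      exact Nat.card_congr (Subgroup.subgroupOfEquivOfLe h12).toEquiv
    rw [h2] at h1
    have h3 : (H1.subgroupOf H2).index = p := by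
      have : p * (H1.subgroupOf H2).index = p * p := by rw [h1]; ring
      exact Nat.eq_of_mul_eq_mul_left hpp.pos this
    exact h3
  have hq3 : Nat.card (↥(⊤ : Subgroup H) ⧸ H2.subgroupOf ⊤) = p := by
    have h1 := (H2.subgroupOf ⊤).card_mul_index
    have h2 : Nat.card (H2.subgroupOf ⊤) = p ^ 2 := by
      rw [← hc2]
      exact Nat.card_congr (Subgroup.subgroupOfEquivOfLe le_top).toEquiv
    have h0 : Nat.card ↥(⊤ : Subgroup H) = p ^ 3 := by
      rw [← hc]; exact Nat.card_congr Subgroup.topEquiv.toEquiv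
    rw [h2, h0] at h1
    have h3 : (H2.subgroupOf ⊤).index = p := by
      have : p ^ 2 * (H2.subgroupOf ⊤).index = p ^ 2 * p := by rw [h1]; ring
      exact Nat.eq_of_mul_eq_mul_left (pow_pos hpp.pos 2) this
    exact h3
  refine ⟨φ1.ker ⊓ (φ2.ker ⊓ φ3.ker), inferInstance, ?_, ?_⟩
  · -- p-group
    intro ⟨α, hα⟩
    obtain ⟨h1, h2, h3⟩ : α ∈ φ1.ker ∧ α ∈ φ2.ker ∧ α ∈ φ3.ker :=
      ⟨(Subgroup.mem_inf.mp hα).1, (Subgroup.mem_inf.mp (Subgroup.mem_inf.mp hα).2).1,
        (Subgroup.mem_inf.mp (Subgroup.mem_inf.mp hα).2).2⟩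
    rw [MonoidHom.mem_ker] at h1 h2 h3
    have e1 : ∀ x ∈ H1, α x = x := (res_eq_one_iff H1 hch1 α).mp h1
    have e2 : ∀ x ∈ H2, x⁻¹ * α x ∈ H1 := (fac_eq_one_iff H2 H1 hch2 hch1 α).mp h2
    have e3 : ∀ x ∈ (⊤ : Subgroup H), x⁻¹ * α x ∈ H2 := (fac_eq_one_iff ⊤ H2 htop hch2 α).mp h3
    refine ⟨3, ?_⟩
    apply Subtype.ext
    show α ^ p ^ 3 = 1
    have f2 : ∀ x ∈ H2, (α ^ p) x = x := by
      have := pow_fix α H1 H2 e1 e2
      rwa [hc1] at this
    have g3 : ∀ x ∈ (⊤ : Subgroup H), x⁻¹ * (α ^ p) x ∈ H2 :=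
      move_pow α H2 ⊤ (hch2 α) e3 p
    have f3 : ∀ x ∈ (⊤ : Subgroup H), ((α ^ p) ^ (p ^ 2)) x = x := by
      have := pow_fix (α ^ p) H2 ⊤ f2 g3
      rwa [hc2] at this
    apply MulEquiv.ext
    intro x
    have := f3 x (Subgroup.mem_top x)
    rw [← pow_mul] at this
    have h3 : p * p ^ 2 = p ^ 3 := by ring
    rw [h3] at this
    exact this
  · intro α
    refine Subgroup.mem_inf.mpr ⟨?_, Subgroup.mem_inf.mpr ⟨?_, ?_⟩⟩
    · rw [MonoidHom.mem_ker, map_pow]
      exact aut_pow_eq_one hc1 _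
    · rw [MonoidHom.mem_ker, map_pow]
      exact aut_pow_eq_one hq2 _
    · rw [MonoidHom.mem_ker, map_pow]
      exact aut_pow_eq_one hq3 _

end Cfsg.Agent.helper17.Chain
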