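import Mathlib

set_option autoImplicit false

/-!
# Dedekind groups: a noncommuting pair of minimal order generates a quaternion group
-/

namespace Cfsg.Agent.helper17.Ded

variable {G : Type*} [Group G]

/-- `h^n * g = e^n * (g * h^n)` when `h * g = e * (g * h)` and `e` commutes with `g`, `h`. -/
theorem pow_mul_comm_of {g h e : G} (he : h * g = e * (g * h)) (heh : Commute e h) (n : ℕ) :
    h ^ n * g = e ^ n * (g * h ^ n) := by
  induction n with
  | zero => simp
  | succ n ih =>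
    have h1 : Commute (e ^ n) h := heh.pow_left n
    calc h ^ (n + 1) * g = h * (h ^ n * g) := by rw [pow_succ', mul_assoc]
      _ = h * (e ^ n * (g * h ^ n)) := by rw [ih]
      _ = e ^ n * ((h * g) * h ^ n) := by
          rw [← mul_assoc h, ← h1.eq]; simp only [mul_assoc]
      _ = e ^ n * ((e * (g * h)) * h ^ n) := by rw [he]
      _ = e ^ (n + 1) * (g * h ^ (n + 1)) := by
          rw [pow_succ e, pow_succ' h]; simp only [mul_assoc]

/-- `(g h)^n = e^(0+1+...+(n-1)) g^n h^n` in class two. -/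
theorem mul_pow_of {g h e : G} (he : h * g = e * (g * h)) (heg : Commute e g) (heh : Commute e h)
    (n : ℕ) : (g * h) ^ n = e ^ (∑ i ∈ Finset.range n, i) * (g ^ n * h ^ n) := by
  induction n with
  | zero => simp
  | succ n ih =>
    have h1 : Commute (e ^ n) (g ^ n) := (heg.pow_left n).pow_right n
    have h2 := pow_mul_comm_of he heh n
    calc (g * h) ^ (n + 1)
        = e ^ (∑ i ∈ Finset.range n, i) * (g ^ n * h ^ n) * (g * h) := by rw [pow_succ, ih]
      _ = e ^ (∑ i ∈ Finset.range n, i) * (g ^ n * ((h ^ n * g) * h)) := by simp only [mul_assoc]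
      _ = e ^ (∑ i ∈ Finset.range n, i) * (g ^ n * ((e ^ n * (g * h ^ n)) * h)) := by rw [h2]
      _ = e ^ (∑ i ∈ Finset.range n, i) * ((g ^ n * e ^ n) * ((g * h ^ n) * h)) := by
          simp only [mul_assoc]
      _ = e ^ (∑ i ∈ Finset.range n, i) * ((e ^ n * g ^ n) * ((g * h ^ n) * h)) := by rw [h1.eq]
      _ = e ^ (∑ i ∈ Finset.range (n + 1), i) * (g ^ (n + 1) * h ^ (n + 1)) := by
          rw [Finset.sum_range_succ, pow_add, pow_succ g, pow_succ h]; simp only [mul_assoc]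

theorem exists_pow_lt_of_mem_zpowers [Finite G] {x y : G} (h : y ∈ Subgroup.zpowers x) :
    ∃ k < orderOf x, x ^ k = y := by
  classical
  rw [mem_zpowers_iff_mem_range_orderOf] at h
  simpa [Finset.mem_image, Finset.mem_range] using h

theorem exists_pow_of_pow_prime_eq_one [Finite G] {p k : ℕ} (hp : p.Prime) (hk : 1 ≤ k) {g w : G}
    (hg : orderOf g = p ^ k) (hw : w ∈ Subgroup.zpowers g) (hwp : w ^ p = 1) :
    ∃ j : ℕ, w = g ^ (p ^ (k - 1) * j) := by
  obtain ⟨i, -, hi⟩ := exists_pow_lt_of_mem_zpowers hw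
  rw [← hi, ← pow_mul] at hwp
  have h1 := orderOf_dvd_of_pow_eq_one hwp
  rw [hg] at h1
  have h2 : p ^ k = p ^ (k - 1) * p := by
    rw [← pow_succ]; congr 1; omega
  rw [h2] at h1
  obtain ⟨j, hj⟩ := Nat.dvd_of_mul_dvd_mul_right hp.pos h1
  exact ⟨j, by rw [← hj, hi]⟩

/-- arithmetic: the exponent is divisible by `p` except in the quaternion case -/
theorem arith {p a b t : ℕ} (hp : p.Prime) (hb : 1 ≤ b) (hba : b ≤ a)
    (hne : ¬ (p = 2 ∧ a = 2 ∧ b = 2)) :
    p ∣ p ^ (a - b) * t * ∑ i ∈ Finset.range (p ^ (b - 1)), i := by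
  rcases Nat.lt_or_ge b a with hlt | hge
  · have h1 : p ∣ p ^ (a - b) := dvd_pow_self p (by omega)
    exact Dvd.dvd.mul_right (Dvd.dvd.mul_right h1 t) _
  · have hab : a = b := le_antisymm hge hba
    subst hab
    apply Dvd.dvd.mul_left
    rcases Nat.eq_or_lt_of_le hb with hb1 | hb2
    · rw [← hb1]; simp
    · have hT := Finset.sum_range_id_mul_two (p ^ (a - 1))
      by_cases hp2 : p = 2
      · subst hp2
        have ha3 : 3 ≤ a := by
          by_contra h
          apply hne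
          refine ⟨rfl, ?_, ?_⟩ <;> omega
        have h4 : (2 : ℕ) ^ (a - 1) = 4 * 2 ^ (a - 3) := by
          rw [show (4 : ℕ) = 2 ^ 2 by norm_num, ← pow_add]; congr 1; omega
        rw [h4] at hT
        have : (∑ i ∈ Finset.range (2 ^ (a - 1)), i) = 2 * (2 ^ (a - 3) * (4 * 2 ^ (a - 3) - 1)) := by
          have h5 : (∑ i ∈ Finset.range (2 ^ (a - 1)), i) * 2
              = 2 * (2 ^ (a - 3) * (4 * 2 ^ (a - 3) - 1)) * 2 := by
            rw [h4, hT]; ring
          exact Nat.eq_of_mul_eq_mul_right (by norm_num) h5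
        rw [this]
        exact dvd_mul_right 2 _
      · have hcop : Nat.Coprime p 2 := (Nat.coprime_primes hp Nat.prime_two).mpr hp2
        have h1 : p ∣ p ^ (a - 1) := dvd_pow_self p (by omega)
        have h2 : p ∣ (∑ i ∈ Finset.range (p ^ (a - 1)), i) * 2 := by
          rw [hT]; exact Dvd.dvd.mul_right h1 _
        exact hcop.dvd_of_dvd_mul_right h2

theorem exists_min_pair [Finite G] (C : Subgroup G) (hC : ∃ x ∈ C, ∃ y ∈ C, x * y ≠ y * x) :
    ∃ x ∈ C, ∃ y ∈ C, x * y ≠ y * x ∧ orderOf y ≤ orderOf x ∧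
      ∀ x' ∈ C, ∀ y' ∈ C, x' * y' ≠ y' * x' →
        orderOf x + orderOf y ≤ orderOf x' + orderOf y' := by
  classical
  have hP : ∃ n, ∃ x ∈ C, ∃ y ∈ C, x * y ≠ y * x ∧ orderOf x + orderOf y = n := by
    obtain ⟨x, hx, y, hy, hxy⟩ := hC
    exact ⟨_, x, hx, y, hy, hxy, rfl⟩
  obtain ⟨x, hx, y, hy, hxy, hsum⟩ := Nat.find_spec hP
  have hmin : ∀ x' ∈ C, ∀ y' ∈ C, x' * y' ≠ y' * x' →
      orderOf x + orderOf y ≤ orderOf x' + orderOf y' := by
    intro x' hx' y' hy' h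
    rw [hsum]
    exact Nat.find_min' hP ⟨x', hx', y', hy', h, rfl⟩
  by_cases hle : orderOf y ≤ orderOf x
  · exact ⟨x, hx, y, hy, hxy, hle, hmin⟩
  · refine ⟨y, hy, x, hx, fun h => hxy h.symm, by omega, ?_⟩
    intro x' hx' y' hy' h
    have := hmin x' hx' y' hy' h
    omega

theorem key [Finite G] (hn : ∀ H : Subgroup G, H.Normal) (C : Subgroup G) {x y : G}
    (hx : x ∈ C) (hy : y ∈ C) (hxy : x * y ≠ y * x) (hle : orderOf y ≤ orderOf x)
    (hmin : ∀ x' ∈ C, ∀ y' ∈ C, x' * y' ≠ y' * x' →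
      orderOf x + orderOf y ≤ orderOf x' + orderOf y') :
    orderOf x = 4 ∧ y ^ 2 = x ^ 2 ∧ y * x * y⁻¹ = x⁻¹ := by
  obtain ⟨c, hc⟩ : ∃ c, c = x * y * x⁻¹ * y⁻¹ := ⟨_, rfl⟩
  have hcx_mem : c ∈ Subgroup.zpowers x := by
    have h1 : y * x⁻¹ * y⁻¹ ∈ Subgroup.zpowers x :=
      (hn (Subgroup.zpowers x)).conj_mem _ (inv_mem (Subgroup.mem_zpowers x)) y
    have h2 : c = x * (y * x⁻¹ * y⁻¹) := by rw [hc]; group
    rw [h2]; exact mul_mem (Subgroup.mem_zpowers x) h1
  have hcy_mem : c ∈ Subgroup.zpowers y := by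
    have h1 : x * y * x⁻¹ ∈ Subgroup.zpowers y :=
      (hn (Subgroup.zpowers y)).conj_mem _ (Subgroup.mem_zpowers y) x
    rw [hc]
    exact mul_mem h1 (inv_mem (Subgroup.mem_zpowers y))
  have hcx : Commute c x := by
    obtain ⟨k, hk⟩ := Subgroup.mem_zpowers_iff.mp hcx_mem
    rw [← hk]; exact (Commute.refl x).zpow_left k
  have hcy : Commute c y := by
    obtain ⟨k, hk⟩ := Subgroup.mem_zpowers_iff.mp hcy_mem
    rw [← hk]; exact (Commute.refl y).zpow_left k
  have hc1 : c ≠ 1 := by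
    intro h
    apply hxy
    rw [hc] at h
    have h1 : x * y * x⁻¹ = y := mul_inv_eq_one.mp h
    exact mul_inv_eq_iff_eq_mul.mp h1
  have hconj_y : x * y * x⁻¹ = c * y := by rw [hc]; group
  have hconj_x : y * x * y⁻¹ = c⁻¹ * x := by rw [hc]; group
  have hpow_y : ∀ n : ℕ, x * y ^ n = y ^ n * x → c ^ n = 1 := by
    intro n h
    have h1 : x * y ^ n * x⁻¹ = c ^ n * y ^ n := by rw [← conj_pow, hconj_y, hcy.mul_pow]
    have h2 : x * y ^ n * x⁻¹ = y ^ n := by rw [h, mul_inv_cancel_right]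
    rw [h2] at h1
    have h3 : c ^ n * y ^ n = 1 * y ^ n := by rw [one_mul]; exact h1.symm
    exact mul_right_cancel h3
  have hpow_x : ∀ n : ℕ, y * x ^ n = x ^ n * y → c ^ n = 1 := by
    intro n h
    have h1 : y * x ^ n * y⁻¹ = (c⁻¹) ^ n * x ^ n := by
      rw [← conj_pow, hconj_x, hcx.inv_left.mul_pow]
    have h2 : y * x ^ n * y⁻¹ = x ^ n := by rw [h, mul_inv_cancel_right]
    rw [h2] at h1
    have h3 : (c⁻¹) ^ n * x ^ n = 1 * x ^ n := by rw [one_mul]; exact h1.symm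
    have h4 : (c⁻¹) ^ n = 1 := mul_right_cancel h3
    rwa [inv_pow, inv_eq_one] at h4
  have hox_pos : 0 < orderOf x := orderOf_pos x
  have hoy_pos : 0 < orderOf y := orderOf_pos y
  have hq_y : ∀ q : ℕ, q.Prime → q ∣ orderOf y → c ^ q = 1 := by
    intro q hq hqd
    apply hpow_y
    by_contra hne
    have h1 : orderOf (y ^ q) = orderOf y / q := orderOf_pow_of_dvd hq.ne_zero hqd
    have h2 : orderOf y / q < orderOf y := Nat.div_lt_self hoy_pos hq.one_lt
    have h3 := hmin x hx (y ^ q) (pow_mem hy q) hne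
    omega
  have hq_x : ∀ q : ℕ, q.Prime → q ∣ orderOf x → c ^ q = 1 := by
    intro q hq hqd
    apply hpow_x
    by_contra hne
    have h1 : orderOf (x ^ q) = orderOf x / q := orderOf_pow_of_dvd hq.ne_zero hqd
    have h2 : orderOf x / q < orderOf x := Nat.div_lt_self hox_pos hq.one_lt
    have h3 := hmin (x ^ q) (pow_mem hx q) y hy (fun h => hne h.symm)
    omega
  have hoc_ne : orderOf c ≠ 1 := by rwa [Ne, orderOf_eq_one_iff]
  have hq_eq : ∀ q : ℕ, q.Prime → c ^ q = 1 → orderOf c = q := by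
    intro q hq h
    have := orderOf_dvd_of_pow_eq_one h
    rcases (Nat.dvd_prime hq).mp this with h1 | h1
    · exact absurd h1 hoc_ne
    · exact h1
  have hx1 : orderOf x ≠ 1 := by
    intro h; rw [orderOf_eq_one_iff] at h; apply hxy; rw [h, one_mul, mul_one]
  have hy1 : orderOf y ≠ 1 := by
    intro h; rw [orderOf_eq_one_iff] at h; apply hxy; rw [h, one_mul, mul_one]
  obtain ⟨p, hp, hpx⟩ := Nat.exists_prime_and_dvd hx1
  have hcp : orderOf c = p := hq_eq p hp (hq_x p hp hpx)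
  obtain ⟨a, ha⟩ : ∃ a, orderOf x = p ^ a :=
    ⟨_, Nat.eq_prime_pow_of_unique_prime_dvd hox_pos.ne'
      (fun {d} hd hdx => (hq_eq d hd (hq_x d hd hdx)).symm.trans hcp)⟩
  obtain ⟨b, hb⟩ : ∃ b, orderOf y = p ^ b :=
    ⟨_, Nat.eq_prime_pow_of_unique_prime_dvd hoy_pos.ne'
      (fun {d} hd hdy => (hq_eq d hd (hq_y d hd hdy)).symm.trans hcp)⟩
  have ha1 : 1 ≤ a := by
    rcases Nat.eq_zero_or_pos a with h | h
    · rw [h, pow_zero] at ha; exact absurd ha hx1
    · exact h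
  have hb1 : 1 ≤ b := by
    rcases Nat.eq_zero_or_pos b with h | h
    · rw [h, pow_zero] at hb; exact absurd hb hy1
    · exact h
  have hba : b ≤ a := by
    rw [ha, hb] at hle
    exact (Nat.pow_le_pow_iff_right hp.one_lt).mp hle
  have hcp1 : c ^ p = 1 := by rw [← hcp]; exact pow_orderOf_eq_one c
  obtain ⟨i', hi'⟩ := exists_pow_of_pow_prime_eq_one hp ha1 ha hcx_mem hcp1
  obtain ⟨j', hj'⟩ := exists_pow_of_pow_prime_eq_one hp hb1 hb hcy_mem hcp1
  by_cases hex : p = 2 ∧ a = 2 ∧ b = 2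
  · obtain ⟨rfl, rfl, rfl⟩ := hex
    norm_num at ha hb hi' hj'
    have hx4 : x ^ 4 = 1 := by rw [← ha]; exact pow_orderOf_eq_one x
    have hy4 : y ^ 4 = 1 := by rw [← hb]; exact pow_orderOf_eq_one y
    have hcx2 : c = x ^ 2 := by
      rcases Nat.even_or_odd' i' with ⟨k, rfl | rfl⟩
      · exfalso
        rw [show 2 * (2 * k) = 4 * k by ring, pow_mul, hx4, one_pow] at hi'
        exact hc1 hi'
      · rw [show 2 * (2 * k + 1) = 4 * k + 2 by ring, pow_add, pow_mul, hx4, one_pow,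
          one_mul] at hi'
        exact hi'
    have hcy2 : c = y ^ 2 := by
      rcases Nat.even_or_odd' j' with ⟨k, rfl | rfl⟩
      · exfalso
        rw [show 2 * (2 * k) = 4 * k by ring, pow_mul, hy4, one_pow] at hj'
        exact hc1 hj'
      · rw [show 2 * (2 * k + 1) = 4 * k + 2 by ring, pow_add, pow_mul, hy4, one_pow,
          one_mul] at hj'
        exact hj'
    refine ⟨ha, hcy2.symm.trans hcx2, ?_⟩
    rw [hconj_x, hcx2]; group
  · exfalso
    obtain ⟨n, hn'⟩ : ∃ n, n = p ^ (b - 1) := ⟨_, rfl⟩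
    have hnpos : 0 < n := by rw [hn']; exact pow_pos hp.pos _
    obtain ⟨v, hv⟩ : ∃ v, v = y ^ n := ⟨_, rfl⟩
    have hv_ord : orderOf v = p := by
      rw [hv, orderOf_pow_of_dvd hnpos.ne' (by rw [hb, hn']; exact pow_dvd_pow p (Nat.sub_le b 1)),
        hb, hn', Nat.pow_div (Nat.sub_le b 1) hp.pos, show b - (b - 1) = 1 by omega, pow_one]
    have hcv : c ∈ Subgroup.zpowers v := by
      rw [hj', hn'.symm, pow_mul, ← hv]
      exact pow_mem (Subgroup.mem_zpowers v) _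
    have hzp : Subgroup.zpowers c = Subgroup.zpowers v :=
      Subgroup.eq_of_le_of_card_ge (Subgroup.zpowers_le.mpr hcv)
        (by rw [Nat.card_zpowers, Nat.card_zpowers, hcp, hv_ord])
    have hv_mem_x : v ∈ Subgroup.zpowers x := by
      have h1 : v ∈ Subgroup.zpowers c := hzp ▸ Subgroup.mem_zpowers v
      exact (Subgroup.zpowers_le.mpr hcx_mem) h1
    have hvp : v ^ p = 1 := by rw [← hv_ord]; exact pow_orderOf_eq_one v
    obtain ⟨t', ht'⟩ := exists_pow_of_pow_prime_eq_one hp ha1 ha hv_mem_x hvp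
    obtain ⟨t, ht⟩ : ∃ t, t = p ^ (a - b) * t' := ⟨_, rfl⟩
    have hvx : y ^ n = x ^ (n * t) := by
      rw [← hv, ht', ht, hn', ← mul_assoc, ← pow_add, show b - 1 + (a - b) = a - 1 by omega]
    have harith : p ∣ t * ∑ i ∈ Finset.range n, i := by
      rw [ht, hn']; exact arith hp hb1 hba hex
    have h1 : y * x ^ t * y⁻¹ = (c⁻¹) ^ t * x ^ t := by
      rw [← conj_pow, hconj_x, hcx.inv_left.mul_pow]
    have heg : Commute (c ^ t) ((x ^ t)⁻¹) := ((hcx.pow_left t).pow_right t).inv_right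
    have heh : Commute (c ^ t) y := hcy.pow_left t
    have h3 : y * (x ^ t)⁻¹ * y⁻¹ = c ^ t * (x ^ t)⁻¹ := by
      rw [← conj_inv, h1, mul_inv_rev, inv_pow, inv_inv]
      exact heg.eq.symm
    have he : y * (x ^ t)⁻¹ = c ^ t * ((x ^ t)⁻¹ * y) := by
      rw [← mul_assoc]; exact mul_inv_eq_iff_eq_mul.mp h3
    have hB := mul_pow_of he heg heh n
    have h4 : ((x ^ t)⁻¹) ^ n * y ^ n = 1 := by
      rw [inv_pow, ← pow_mul, hvx, mul_comm t n]; exact inv_mul_cancel _
    have h5 : (c ^ t) ^ (∑ i ∈ Finset.range n, i) = 1 := by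
      rw [← pow_mul]; exact orderOf_dvd_iff_pow_eq_one.mp (hcp ▸ harith)
    rw [h4, h5, one_mul] at hB
    have hy1C : (x ^ t)⁻¹ * y ∈ C := mul_mem (inv_mem (pow_mem hx t)) hy
    have hy1 : x * ((x ^ t)⁻¹ * y) ≠ ((x ^ t)⁻¹ * y) * x := by
      intro hcomm
      apply hxy
      have hyy : y = x ^ t * ((x ^ t)⁻¹ * y) := by rw [mul_inv_cancel_left]
      have h6 : Commute x (x ^ t * ((x ^ t)⁻¹ * y)) :=
        ((Commute.refl x).pow_right t).mul_right hcomm
      rw [← hyy] at h6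
      exact h6.eq
    have h6 := hmin x hx _ hy1C hy1
    have h7 : orderOf ((x ^ t)⁻¹ * y) ∣ n := orderOf_dvd_of_pow_eq_one hB
    have h8 : orderOf ((x ^ t)⁻¹ * y) ≤ n := Nat.le_of_dvd hnpos h7
    have h9 : n < orderOf y := by
      rw [hb, hn']; exact Nat.pow_lt_pow_right hp.one_lt (by omega)
    omega

/-- In a finite group all of whose subgroups are normal, a subgroup containing a noncommuting pair
contains a quaternion pair. -/
theorem exists_quat_pair [Finite G] (hn : ∀ H : Subgroup G, H.Normal) (C : Subgroup G)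
    (hC : ∃ x ∈ C, ∃ y ∈ C, x * y ≠ y * x) :
    ∃ x ∈ C, ∃ y ∈ C, orderOf x = 4 ∧ y ^ 2 = x ^ 2 ∧ y * x * y⁻¹ = x⁻¹ := by
  obtain ⟨x, hx, y, hy, hxy, hle, hmin⟩ := exists_min_pair C hC
  exact ⟨x, hx, y, hy, key hn C hx hy hxy hle hmin⟩

end Cfsg.Agent.helper17.Ded
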