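import Mathlib
import Cfsg.Agent.Lib_helper17_Dedekind
import Cfsg.Agent.Lib_helper1_PCenter

set_option autoImplicit false

/-!
# p-groups with a cyclic normal self-centralizing subgroup: basic lemmas
-/

namespace Cfsg.Agent.helper17.CSC

open Cfsg.Agent.helper17.Ded

variable {G : Type*} [Group G]

/-- cyclic normal self-centralizing subgroup `⟨u⟩` of order `p^n` -/
structure Setting (p n : ℕ) (u : G) : Prop where
  ord : orderOf u = p ^ n
  normal : (Subgroup.zpowers u).Normal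
  cent : ∀ g : G, g * u = u * g → g ∈ Subgroup.zpowers u

variable {p n : ℕ} {u : G}

/-- the element of order `p` of `⟨u⟩` -/
def zz (p n : ℕ) (u : G) : G := u ^ (p ^ (n - 1))

/-- the commutator `g u g⁻¹ u⁻¹` -/
def ww (u g : G) : G := g * u * g⁻¹ * u⁻¹

/-- triangular numbers -/
def tri (m : ℕ) : ℕ := ∑ i ∈ Finset.range m, i

theorem comm_of_mem {x y : G} (hx : x ∈ Subgroup.zpowers u) (hy : y ∈ Subgroup.zpowers u) :
    x * y = y * x := by
  obtain ⟨i, rfl⟩ := Subgroup.mem_zpowers_iff.mp hx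
  obtain ⟨j, rfl⟩ := Subgroup.mem_zpowers_iff.mp hy
  rw [← zpow_add, ← zpow_add, add_comm]

theorem zz_mem : zz p n u ∈ Subgroup.zpowers u := Subgroup.npow_mem_zpowers u _

theorem conj_eq (g : G) : g * u * g⁻¹ = ww u g * u := by unfold ww; group

theorem ww_one : ww u 1 = 1 := by unfold ww; group

theorem tri_prime_odd (hp : p.Prime) (hp2 : p ≠ 2) : p ∣ tri p := by
  have hT := Finset.sum_range_id_mul_two p
  have hcop : Nat.Coprime p 2 := (Nat.coprime_primes hp Nat.prime_two).mpr hp2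
  have h2 : p ∣ tri p * 2 := by
    unfold tri; rw [hT]; exact dvd_mul_right p _
  exact hcop.dvd_of_dvd_mul_right h2

theorem tri_two : tri 2 = 1 := by
  unfold tri; simp [Finset.sum_range_succ]

namespace Setting

theorem conj_mem (S : Setting p n u) (g : G) {x : G} (hx : x ∈ Subgroup.zpowers u) :
    g * x * g⁻¹ ∈ Subgroup.zpowers u :=
  S.normal.conj_mem x hx g

theorem ww_mem (S : Setting p n u) (g : G) : ww u g ∈ Subgroup.zpowers u :=
  mul_mem (S.conj_mem g (Subgroup.mem_zpowers u)) (inv_mem (Subgroup.mem_zpowers u))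

theorem orderOf_zz [hp : Fact p.Prime] (S : Setting p n u) (hn : 1 ≤ n) :
    orderOf (zz p n u) = p := by
  unfold zz
  rw [orderOf_pow_of_dvd (pow_pos hp.out.pos _).ne'
    (by rw [S.ord]; exact pow_dvd_pow p (Nat.sub_le n 1)), S.ord,
    Nat.pow_div (Nat.sub_le n 1) hp.out.pos, show n - (n - 1) = 1 by omega, pow_one]

theorem zz_pow [hp : Fact p.Prime] (S : Setting p n u) (hn : 1 ≤ n) : zz p n u ^ p = 1 := by
  have h := pow_orderOf_eq_one (zz p n u)
  rwa [S.orderOf_zz hn] at h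

theorem zz_ne_one [hp : Fact p.Prime] (S : Setting p n u) (hn : 1 ≤ n) : zz p n u ≠ 1 := by
  intro h
  have h1 := S.orderOf_zz hn
  rw [h, orderOf_one] at h1
  exact hp.out.one_lt.ne h1

/-- elements of `⟨u⟩` killed by `p` are powers of `z` -/
theorem mem_zpowers_zz [Finite G] [hp : Fact p.Prime] (S : Setting p n u) (hn : 1 ≤ n) {x : G}
    (hx : x ∈ Subgroup.zpowers u) (hxp : x ^ p = 1) : x ∈ Subgroup.zpowers (zz p n u) := by
  obtain ⟨j, hj⟩ := exists_pow_of_pow_prime_eq_one hp.out hn S.ord hx hxp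
  rw [hj, pow_mul]
  exact Subgroup.npow_mem_zpowers _ j

theorem zz_central [Finite G] [hp : Fact p.Prime] (S : Setting p n u) (hG : IsPGroup p G)
    (hn : 1 ≤ n) (g : G) : g * zz p n u = zz p n u * g := by
  haveI := S.normal
  have hne : Subgroup.zpowers u ≠ ⊥ := by
    intro h
    have h1 : u = 1 := Subgroup.zpowers_eq_bot.mp h
    have h2 := S.ord
    rw [h1, orderOf_one] at h2
    have h3 : p ∣ 1 := by rw [h2]; exact dvd_pow_self p (by omega)
    exact hp.out.one_lt.ne' (Nat.dvd_one.mp h3)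
  obtain ⟨c, hcU, hcZ, hc1⟩ :=
    Cfsg.Agent.helper1.exists_central_of_normal_ne_bot hG (Subgroup.zpowers u) hne
  obtain ⟨k, hk⟩ : ∃ k, orderOf c = p ^ k := by
    obtain ⟨k, hk⟩ := hG c
    obtain ⟨m, -, hm⟩ := (Nat.dvd_prime_pow hp.out).mp (orderOf_dvd_of_pow_eq_one hk)
    exact ⟨m, hm⟩
  have hk1 : 1 ≤ k := by
    rcases Nat.eq_zero_or_pos k with h | h
    · rw [h, pow_zero, orderOf_eq_one_iff] at hk; exact absurd hk hc1
    · exact h
  obtain ⟨c', hc'⟩ : ∃ c', c' = c ^ (p ^ (k - 1)) := ⟨_, rfl⟩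
  have hc'ord : orderOf c' = p := by
    rw [hc', orderOf_pow_of_dvd (pow_pos hp.out.pos _).ne'
      (by rw [hk]; exact pow_dvd_pow p (Nat.sub_le k 1)), hk,
      Nat.pow_div (Nat.sub_le k 1) hp.out.pos, show k - (k - 1) = 1 by omega, pow_one]
  have hc'U : c' ∈ Subgroup.zpowers u := by rw [hc']; exact pow_mem hcU _
  have hc'Z : c' ∈ Subgroup.center G := by rw [hc']; exact pow_mem hcZ _
  have hc'z : c' ∈ Subgroup.zpowers (zz p n u) :=
    S.mem_zpowers_zz hn hc'U (by rw [← hc'ord]; exact pow_orderOf_eq_one c')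
  have heq : Subgroup.zpowers c' = Subgroup.zpowers (zz p n u) :=
    Subgroup.eq_of_le_of_card_ge (Subgroup.zpowers_le.mpr hc'z)
      (by rw [Nat.card_zpowers, Nat.card_zpowers, hc'ord, S.orderOf_zz hn])
  have hz : zz p n u ∈ Subgroup.zpowers c' := heq ▸ Subgroup.mem_zpowers _
  have hzZ : zz p n u ∈ Subgroup.center G := (Subgroup.zpowers_le.mpr hc'Z) hz
  exact Subgroup.mem_center_iff.mp hzZ g

/-- powers of `z` are central -/
theorem central_of_mem_zz [Finite G] [hp : Fact p.Prime] (S : Setting p n u) (hG : IsPGroup p G)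
    (hn : 1 ≤ n) {c : G} (hc : c ∈ Subgroup.zpowers (zz p n u)) (g : G) : g * c = c * g := by
  obtain ⟨k, rfl⟩ := Subgroup.mem_zpowers_iff.mp hc
  have h1 : Commute g (zz p n u) := S.zz_central hG hn g
  exact (h1.zpow_right k).eq

theorem pow_p_of_mem_zz [hp : Fact p.Prime] (S : Setting p n u) (hn : 1 ≤ n) {c : G}
    (hc : c ∈ Subgroup.zpowers (zz p n u)) : c ^ p = 1 := by
  obtain ⟨k, rfl⟩ := Subgroup.mem_zpowers_iff.mp hc
  rw [← zpow_natCast, ← zpow_mul, mul_comm, zpow_mul, zpow_natCast, S.zz_pow hn, one_zpow]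

/-- a nontrivial element of `⟨z⟩` generates it -/
theorem zpowers_eq_of_ne_one [Finite G] [hp : Fact p.Prime] (S : Setting p n u) (hn : 1 ≤ n)
    {c : G} (hc : c ∈ Subgroup.zpowers (zz p n u)) (hc1 : c ≠ 1) :
    Subgroup.zpowers c = Subgroup.zpowers (zz p n u) := by
  have h1 : orderOf c = p := by
    have h2 := orderOf_dvd_of_pow_eq_one (S.pow_p_of_mem_zz hn hc)
    rcases (Nat.dvd_prime hp.out).mp h2 with h3 | h3
    · rw [orderOf_eq_one_iff] at h3; exact absurd h3 hc1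
    · exact h3
  exact Subgroup.eq_of_le_of_card_ge (Subgroup.zpowers_le.mpr hc)
    (by rw [Nat.card_zpowers, Nat.card_zpowers, h1, S.orderOf_zz hn])

theorem ww_pow_p (S : Setting p n u) {g : G} (hg : g * u ^ p = u ^ p * g) : (ww u g) ^ p = 1 := by
  have h1 : Commute (g * u * g⁻¹) u⁻¹ :=
    comm_of_mem (S.conj_mem g (Subgroup.mem_zpowers u)) (inv_mem (Subgroup.mem_zpowers u))
  unfold ww
  rw [h1.mul_pow, conj_pow, inv_pow, hg, mul_inv_cancel_right, mul_inv_cancel]

theorem ww_mem_zz [Finite G] [hp : Fact p.Prime] (S : Setting p n u) (hn : 1 ≤ n) {g : G}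
    (hg : g * u ^ p = u ^ p * g) : ww u g ∈ Subgroup.zpowers (zz p n u) :=
  S.mem_zpowers_zz hn (S.ww_mem g) (S.ww_pow_p hg)

theorem mem_of_ww_eq (S : Setting p n u) {x x' : G} (h : ww u x = ww u x') :
    x'⁻¹ * x ∈ Subgroup.zpowers u := by
  apply S.cent
  have h1 : x * u * x⁻¹ = x' * u * x'⁻¹ := by rw [conj_eq x, conj_eq x', h]
  have h2 : x * u = x' * u * x'⁻¹ * x := mul_inv_eq_iff_eq_mul.mp h1
  rw [mul_assoc, h2]; group

theorem mem_of_ww_eq_one (S : Setting p n u) {x : G} (h : ww u x = 1) :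
    x ∈ Subgroup.zpowers u := by
  have h1 := S.mem_of_ww_eq (x := x) (x' := 1) (by rw [h, ww_one])
  simpa using h1

theorem ww_eq_one_of_mem {x : G} (hx : x ∈ Subgroup.zpowers u) : ww u x = 1 := by
  have h1 : x * u = u * x := comm_of_mem hx (Subgroup.mem_zpowers u)
  unfold ww
  rw [h1, mul_inv_cancel_right, mul_inv_cancel]

end Setting

/-- `ww` is multiplicative when the values are central -/
theorem ww_mul {g h : G} (hc : ∀ x : G, x * ww u h = ww u h * x) :
    ww u (g * h) = ww u g * ww u h := by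
  have h1 : h * u * h⁻¹ = ww u h * u := conj_eq h
  calc ww u (g * h) = g * (h * u * h⁻¹) * g⁻¹ * u⁻¹ := by unfold ww; group
    _ = g * (ww u h * u) * g⁻¹ * u⁻¹ := by rw [h1]
    _ = (g * ww u h) * u * g⁻¹ * u⁻¹ := by simp only [mul_assoc]
    _ = (ww u h * g) * u * g⁻¹ * u⁻¹ := by rw [hc g]
    _ = ww u h * (g * u * g⁻¹ * u⁻¹) := by simp only [mul_assoc]
    _ = ww u g * ww u h := (hc (ww u g)).symm

theorem ww_pow {g : G} (hc : ∀ x : G, x * ww u g = ww u g * x) (k : ℕ) :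
    ww u (g ^ k) = ww u g ^ k := by
  induction k with
  | zero => rw [pow_zero, pow_zero, ww_one]
  | succ k ih => rw [pow_succ, ww_mul hc, ih, pow_succ]

/-- conjugation of a power of `u` by an element whose `ww` is central -/
theorem conj_pow_u {a : G} (hc : ∀ x : G, x * ww u a = ww u a * x) (j : ℕ) :
    a * u ^ j * a⁻¹ = ww u a ^ j * u ^ j := by
  have h1 : Commute (ww u a) u := (hc u).symm
  rw [← conj_pow, conj_eq a, h1.mul_pow]

/-- the commutator `y a y⁻¹ a⁻¹` for `y = u^j` -/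
theorem comm_elt {a : G} (hc : ∀ x : G, x * ww u a = ww u a * x) (j : ℕ) :
    u ^ j * a = (ww u a ^ j)⁻¹ * (a * u ^ j) := by
  have h1 := conj_pow_u hc j
  have h2 : a * u ^ j = ww u a ^ j * u ^ j * a := mul_inv_eq_iff_eq_mul.mp h1
  rw [h2, ← mul_assoc, ← mul_assoc, inv_mul_cancel, one_mul]

/-- power formula for `a * u^j` -/
theorem mul_pow_u {a : G} (hc : ∀ x : G, x * ww u a = ww u a * x) (j m : ℕ) :
    (a * u ^ j) ^ m = ((ww u a ^ j)⁻¹) ^ tri m * (a ^ m * (u ^ j) ^ m) := by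
  have he := comm_elt hc j
  have hce : ∀ x : G, Commute ((ww u a ^ j)⁻¹) x := by
    intro x
    have h1 : Commute (ww u a) x := (hc x).symm
    exact (h1.pow_left j).inv_left
  exact mul_pow_of he (hce a) (hce (u ^ j)) m

end Cfsg.Agent.helper17.CSC
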