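import Mathlib
import Cfsg.Statements.S4023
import Cfsg.Agent.S0016
import Cfsg.Agent.Lib_helper1_PCenter
import Cfsg.Agent.Lib_helper11_QuatPres

set_option autoImplicit false

open Cfsg

namespace Cfsg.Agent.S4023

open scoped Pointwise

variable {T : Type*} [Group T]

theorem card_sup_le (A B : Subgroup T)
    (h : ((A ⊔ B : Subgroup T) : Set T) = (A : Set T) * (B : Set T)) :
    Nat.card (A ⊔ B : Subgroup T) ≤ Nat.card A * Nat.card B := by
  calc Nat.card (A ⊔ B : Subgroup T) = Nat.card (((A ⊔ B : Subgroup T) : Set T)) := rfl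
    _ = Nat.card ((A : Set T) * (B : Set T) : Set T) := by rw [h]
    _ ≤ Nat.card (A : Set T) * Nat.card (B : Set T) := Set.natCard_mul_le
    _ = Nat.card A * Nat.card B := rfl

theorem pgroup_card_lt [Finite T] {p : ℕ} [Fact p.Prime] (hT : IsPGroup p T) {A B : Subgroup T}
    (hlt : A < B) : p * Nat.card A ≤ Nat.card B := by
  have hpp : p.Prime := Fact.out
  obtain ⟨a, ha⟩ := IsPGroup.iff_card.1 (hT.to_subgroup A)
  obtain ⟨b, hb⟩ := IsPGroup.iff_card.1 (hT.to_subgroup B)
  have hne : Nat.card A ≠ Nat.card B := by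
    intro heq
    exact hlt.ne (Subgroup.eq_of_le_of_card_ge hlt.le heq.symm.le)
  have hle : Nat.card A ≤ Nat.card B := Subgroup.card_le_of_le hlt.le
  rw [ha, hb] at hne hle ⊢
  have hab : a < b := by
    rcases Nat.lt_or_ge a b with h | h
    · exact h
    · exfalso
      have h2 : p ^ b ≤ p ^ a := Nat.pow_le_pow_right hpp.pos h
      exact hne (le_antisymm hle h2)
  calc p * p ^ a = p ^ (a + 1) := by rw [pow_succ, mul_comm]
    _ ≤ p ^ b := Nat.pow_le_pow_right hpp.pos hab

theorem exists_central_order_p {H : Type*} [Group H] [Finite H] {p : ℕ} [Fact p.Prime]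
    (hP : IsPGroup p H) [Nontrivial H] :
    ∃ z : H, z ∈ Subgroup.center H ∧ orderOf z = p := by
  have h1 : Nontrivial (Subgroup.center H) := hP.center_nontrivial
  obtain ⟨k, hk, hcard⟩ :=
    (IsPGroup.nontrivial_iff_card (hP.to_subgroup (Subgroup.center H))).1 h1
  have hdvd : p ∣ Nat.card (Subgroup.center H) := by rw [hcard]; exact dvd_pow_self p hk.ne'
  obtain ⟨x, hx⟩ := exists_prime_orderOf_dvd_card' p hdvd
  exact ⟨x.1, x.2, by rw [← hx]; exact Subgroup.orderOf_coe x⟩

theorem zpowers_normal_of_central (z : T) (hz : z ∈ Subgroup.center T) :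
    (Subgroup.zpowers z).Normal := by
  constructor
  intro n hn g
  obtain ⟨i, rfl⟩ := Subgroup.mem_zpowers_iff.1 hn
  have h1 : g * z ^ i * g⁻¹ = z ^ i := by
    have h2 : z ^ i ∈ Subgroup.center T := Subgroup.zpow_mem _ hz i
    have h3 := Subgroup.mem_center_iff.1 h2 g
    rw [h3, mul_assoc, mul_inv_cancel, mul_one]
  rw [h1]; exact Subgroup.zpow_mem _ (Subgroup.mem_zpowers z) i

/-- A subgroup of order `p` is generated by each of its nontrivial elements. -/
theorem exists_gen_of_card_prime {p : ℕ} [Fact p.Prime] (H : Subgroup T) (hH : Nat.card H = p) :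
    ∃ h : T, h ∈ H ∧ orderOf h = p ∧ H = Subgroup.zpowers h := by
  have hpp : p.Prime := Fact.out
  haveI : Finite H := Nat.finite_of_card_ne_zero (by rw [hH]; exact hpp.ne_zero)
  obtain ⟨x, hx⟩ := exists_prime_orderOf_dvd_card' (G := H) p (by rw [hH])
  have hx' : orderOf (x : T) = p := by rw [Subgroup.orderOf_coe]; exact hx
  refine ⟨x.1, x.2, hx', ?_⟩
  symm
  apply Subgroup.eq_of_le_of_card_ge
  · rw [Subgroup.zpowers_le]; exact x.2
  · rw [Nat.card_zpowers, hx', hH]

/-- In a `p`-group with an element of order `p²` in which subgroups of equal order are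
isomorphic, there is only one subgroup of order `p`. -/
theorem unique_of_not_exponent [Finite T] {p : ℕ} [Fact p.Prime] (hT : IsPGroup p T)
    (hI : ∀ H K : Subgroup T, Nat.card H = Nat.card K → Nonempty (H ≃* K))
    (x : T) (hx : x ^ p ≠ 1) :
    ∀ H K : Subgroup T, Nat.card H = p → Nat.card K = p → H = K := by
  have hpp : p.Prime := Fact.out
  -- an element of order p²
  obtain ⟨j, hj⟩ := (IsPGroup.iff_orderOf.1 hT) x
  have hj2 : 2 ≤ j := by
    by_contra hlt
    apply hx
    have h1 : orderOf x ∣ p := by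
      rw [hj]
      have : j ≤ 1 := by omega
      calc p ^ j ∣ p ^ 1 := pow_dvd_pow p this
        _ = p := pow_one p
    exact orderOf_dvd_iff_pow_eq_one.1 h1
  have hx' : orderOf (x ^ (p ^ (j - 2))) = p ^ 2 := by
    rw [orderOf_pow_of_dvd (pow_ne_zero _ hpp.ne_zero)
      (by rw [hj]; exact pow_dvd_pow p (by omega)), hj]
    have : p ^ j = p ^ 2 * p ^ (j - 2) := by rw [← pow_add]; congr 1; omega
    rw [this]
    exact Nat.mul_div_cancel _ (pow_pos hpp.pos _)
  set C := Subgroup.zpowers (x ^ (p ^ (j - 2))) with hC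
  have hCcard : Nat.card C = p ^ 2 := by rw [Nat.card_zpowers, hx']
  have hcyc : ∀ V : Subgroup T, Nat.card V = p ^ 2 → IsCyclic V := by
    intro V hV
    obtain ⟨e⟩ := hI V C (by rw [hV, hCcard])
    exact isCyclic_of_surjective e.symm e.symm.surjective
  haveI : Nontrivial T := by
    refine ⟨⟨x, 1, ?_⟩⟩
    intro h
    apply hx
    rw [h, one_pow]
  obtain ⟨z, hzc, hzo⟩ := exists_central_order_p hT
  have hZn : (Subgroup.zpowers z).Normal := zpowers_normal_of_central z hzc
  have hZcard : Nat.card (Subgroup.zpowers z) = p := by rw [Nat.card_zpowers, hzo]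
  -- every subgroup of order p equals Z0
  have hkey : ∀ H : Subgroup T, Nat.card H = p → H = Subgroup.zpowers z := by
    intro H hH
    by_contra hne
    obtain ⟨h, hhH, hho, hHeq⟩ := exists_gen_of_card_prime H hH
    have hlt : H < H ⊔ Subgroup.zpowers z := by
      refine lt_of_le_of_ne le_sup_left ?_
      intro heq
      have hle : Subgroup.zpowers z ≤ H := by rw [heq]; exact le_sup_right
      apply hne
      exact (Subgroup.eq_of_le_of_card_ge hle (by rw [hH, hZcard])).symm
    have h1 := pgroup_card_lt hT hlt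
    have h2 := card_sup_le H (Subgroup.zpowers z) (Subgroup.mul_normal H (Subgroup.zpowers z))
    rw [hH, hZcard] at h2
    rw [hH] at h1
    have hVcard : Nat.card (H ⊔ Subgroup.zpowers z : Subgroup T) = p ^ 2 := by
      rw [pow_two]; exact le_antisymm h2 h1
    haveI := hcyc _ hVcard
    haveI : Finite (H ⊔ Subgroup.zpowers z : Subgroup T) := inferInstance
    have hh' : h ∈ H ⊔ Subgroup.zpowers z := le_sup_left (a := H) hhH
    have hz' : z ∈ H ⊔ Subgroup.zpowers z :=
      le_sup_right (a := H) (Subgroup.mem_zpowers z)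
    have h3 := Cfsg.Agent.helper1.mem_zpowers_of_orderOf_eq_prime hpp
      (⟨h, hh'⟩ : (H ⊔ Subgroup.zpowers z : Subgroup T)) ⟨z, hz'⟩
      (by rw [← hho, ← Subgroup.orderOf_coe])
      (by
        apply Subtype.ext
        rw [Subgroup.coe_pow, Subgroup.coe_one, ← hzo]
        exact pow_orderOf_eq_one z)
    obtain ⟨i, hi⟩ := Subgroup.mem_zpowers_iff.1 h3
    have hi' : h ^ i = z := by
      have := congrArg Subtype.val hi
      simpa using this
    have hle : Subgroup.zpowers z ≤ H := by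
      rw [Subgroup.zpowers_le, ← hi']
      exact H.zpow_mem hhH i
    apply hne
    exact (Subgroup.eq_of_le_of_card_ge hle (by rw [hH, hZcard])).symm
  intro H K hH hK
  rw [hkey H hH, hkey K hK]


theorem quat_rel (m : ℕ) : (QuaternionGroup.xa (0 : ZMod (2 * m))) * QuaternionGroup.a 1 *
    (QuaternionGroup.xa 0)⁻¹ = (QuaternionGroup.a 1 : QuaternionGroup m)⁻¹ := by
  have h : (QuaternionGroup.a 1 : QuaternionGroup m) *
      (QuaternionGroup.xa 0 * QuaternionGroup.a 1) = QuaternionGroup.xa 0 := by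
    rw [QuaternionGroup.xa_mul_a, QuaternionGroup.a_mul_xa]; simp
  calc (QuaternionGroup.xa (0 : ZMod (2 * m))) * QuaternionGroup.a 1 * (QuaternionGroup.xa 0)⁻¹
      = (QuaternionGroup.a 1)⁻¹ * (QuaternionGroup.a 1 *
          (QuaternionGroup.xa 0 * QuaternionGroup.a 1)) * (QuaternionGroup.xa 0)⁻¹ := by group
    _ = (QuaternionGroup.a 1)⁻¹ := by rw [h]; group

theorem case_not_exponent [Finite T] {p : ℕ} [Fact p.Prime] (hT : IsPGroup p T)
    (hI : ∀ H K : Subgroup T, Nat.card H = Nat.card K → Nonempty (H ≃* K))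
    (x : T) (hx : x ^ p ≠ 1) :
    IsCyclic T ∨ (p = 2 ∧ Nonempty (T ≃* QuaternionGroup 2)) := by
  have huniq := unique_of_not_exponent hT hI x hx
  rcases Cfsg.Agent.S0016.result p hT huniq with hc | ⟨hp2, n, ⟨e⟩⟩
  · exact Or.inl hc
  · rcases n with _ | _ | k
    · left
      haveI : IsCyclic (QuaternionGroup (2 ^ 0)) := QuaternionGroup.quaternionGroup_one_isCyclic
      exact isCyclic_of_surjective e.symm e.symm.surjective
    · right; exact ⟨hp2, ⟨e⟩⟩
    · exfalso
      set a' : T := e.symm (QuaternionGroup.a 1) with ha'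
      set y : T := e.symm (QuaternionGroup.xa 0) with hy
      have ha_ord : orderOf a' = 2 * 2 ^ (k + 1 + 1) := by
        rw [ha', MulEquiv.orderOf_eq, QuaternionGroup.orderOf_a_one]
      have hy2 : y ^ 2 = a' ^ (2 ^ (k + 1 + 1)) := by
        rw [ha', hy, ← map_pow, ← map_pow, QuaternionGroup.xa_sq, QuaternionGroup.a_one_pow]
      have hyx : y * a' * y⁻¹ = a'⁻¹ := by
        have h1 := congrArg e.symm (quat_rel (2 ^ (k + 1 + 1)))
        rw [map_mul, map_mul, map_inv, map_inv] at h1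
        exact h1
      have hpow2 : 2 ^ (k + 1 + 1) = 2 ^ (k + 1) * 2 := pow_succ 2 (k + 1)
      have hpow1 : 2 ^ (k + 1) = 2 ^ k * 2 := pow_succ 2 k
      -- element of order 4
      have hord4 : orderOf (a' ^ (2 ^ (k + 1))) = 2 * 2 := by
        rw [orderOf_pow_of_dvd (by positivity)
          (by rw [ha_ord, hpow2]; exact ⟨4, by ring⟩), ha_ord, hpow2]
        have : 2 * (2 ^ (k + 1) * 2) = 2 * 2 * 2 ^ (k + 1) := by ring
        rw [this]
        exact Nat.mul_div_cancel _ (by positivity)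
      have hy2' : y ^ 2 = (a' ^ (2 ^ (k + 1))) ^ 2 := by
        rw [hy2, ← pow_mul, ← hpow2]
      have hyx' : y * (a' ^ (2 ^ (k + 1))) * y⁻¹ = (a' ^ (2 ^ (k + 1)))⁻¹ := by
        rw [← conj_pow, hyx, inv_pow]
      obtain ⟨Hq, hHq, ⟨eq⟩⟩ := Cfsg.Agent.helper11.QuatPres.exists_subgroup_mulEquiv
        (n := 2) le_rfl hord4 hy2' hyx'
      -- element of order 8
      have hord8 : orderOf (a' ^ (2 ^ k)) = 8 := by
        rw [orderOf_pow_of_dvd (by positivity)
          (by rw [ha_ord, hpow2, hpow1]; exact ⟨8, by ring⟩), ha_ord, hpow2, hpow1]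
        have : 2 * (2 ^ k * 2 * 2) = 8 * 2 ^ k := by ring
        rw [this]
        exact Nat.mul_div_cancel _ (by positivity)
      have hC8 : Nat.card (Subgroup.zpowers (a' ^ (2 ^ k))) = 8 := by
        rw [Nat.card_zpowers, hord8]
      obtain ⟨e2⟩ := hI Hq (Subgroup.zpowers (a' ^ (2 ^ k))) (by rw [hHq, hC8])
      have f : QuaternionGroup 2 ≃* Subgroup.zpowers (a' ^ (2 ^ k)) := eq.symm.trans e2
      have hcomm : ∀ u v : QuaternionGroup 2, u * v = v * u := by
        intro u v
        apply f.injective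
        rw [map_mul, map_mul]
        exact (IsCyclic.isMulCommutative
          (α := Subgroup.zpowers (a' ^ (2 ^ k)))).is_comm.comm (f u) (f v)
      have hne : (QuaternionGroup.a 1 : QuaternionGroup 2) * QuaternionGroup.xa 0 ≠
          QuaternionGroup.xa 0 * QuaternionGroup.a 1 := by decide
      exact hne (hcomm _ _)


/-! ### the Heisenberg-type subgroup generated by `x`, `y` with central commutator -/

theorem heis_comm (x y c : T) (hc : ∀ g : T, g * c = c * g) (hxy : x * y = c * y * x)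
    (j k : ℤ) : y ^ k * x ^ j = c ^ (-(k * j)) * x ^ j * y ^ k := by
  have hcy : Commute c y := (hc y).symm
  have h1 : SemiconjBy x y (c * y) := hxy
  have h2 : SemiconjBy x (y ^ k) ((c * y) ^ k) := h1.zpow_right k
  rw [hcy.mul_zpow] at h2
  have h2' : x * y ^ k = c ^ k * y ^ k * x := h2
  have hck : ∀ g : T, g * c ^ (-k) = c ^ (-k) * g := fun g =>
    (Commute.zpow_right (hc g) (-k)).eq
  have h3 : SemiconjBy (y ^ k) x (c ^ (-k) * x) := by
    show y ^ k * x = c ^ (-k) * x * y ^ k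
    rw [mul_assoc, h2', ← mul_assoc, ← mul_assoc, ← zpow_add]
    simp
  have hcx : Commute (c ^ (-k)) x := (hck x).symm
  have h4 := h3.zpow_right j
  rw [hcx.mul_zpow, ← zpow_mul] at h4
  have h5 : y ^ k * x ^ j = c ^ (-k * j) * x ^ j * y ^ k := h4
  rw [h5, neg_mul]

theorem heis_mul_aux (C1 C2 C3 X1 X2 Y1 Y2 : T) (h2 : ∀ g : T, g * C2 = C2 * g)
    (h3 : ∀ g : T, g * C3 = C3 * g) (hyx : Y1 * X2 = C3 * X2 * Y1) :
    C1 * X1 * Y1 * (C2 * X2 * Y2) = C1 * C2 * C3 * (X1 * X2) * (Y1 * Y2) := by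
  calc C1 * X1 * Y1 * (C2 * X2 * Y2) = C1 * X1 * (Y1 * C2) * X2 * Y2 := by
        simp only [mul_assoc]
    _ = C1 * X1 * (C2 * Y1) * X2 * Y2 := by rw [h2 Y1]
    _ = C1 * (X1 * C2) * (Y1 * X2) * Y2 := by simp only [mul_assoc]
    _ = C1 * (C2 * X1) * (C3 * X2 * Y1) * Y2 := by rw [h2 X1, hyx]
    _ = C1 * C2 * (X1 * C3) * X2 * Y1 * Y2 := by simp only [mul_assoc]
    _ = C1 * C2 * (C3 * X1) * X2 * Y1 * Y2 := by rw [h3 X1]
    _ = C1 * C2 * C3 * (X1 * X2) * (Y1 * Y2) := by simp only [mul_assoc]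

def heis (x y c : T) (hc : ∀ g : T, g * c = c * g) (hxy : x * y = c * y * x) : Subgroup T where
  carrier := {g | ∃ i j k : ℤ, g = c ^ i * x ^ j * y ^ k}
  one_mem' := ⟨0, 0, 0, by simp⟩
  mul_mem' := by
    rintro _ _ ⟨i1, j1, k1, rfl⟩ ⟨i2, j2, k2, rfl⟩
    refine ⟨i1 + i2 + -(k1 * j2), j1 + j2, k1 + k2, ?_⟩
    rw [zpow_add, zpow_add, zpow_add, zpow_add]
    exact heis_mul_aux _ _ _ _ _ _ _ (fun g => (Commute.zpow_right (hc g) i2).eq)
      (fun g => (Commute.zpow_right (hc g) _).eq) (heis_comm x y c hc hxy j2 k1)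
  inv_mem' := by
    rintro _ ⟨i, j, k, rfl⟩
    refine ⟨-i + -((-k) * (-j)), -j, -k, ?_⟩
    have h1 := heis_comm x y c hc hxy (-j) (-k)
    have hci : ∀ g : T, g * c ^ (-i) = c ^ (-i) * g := fun g =>
      (Commute.zpow_right (hc g) (-i)).eq
    rw [mul_inv_rev, mul_inv_rev, ← zpow_neg, ← zpow_neg, ← zpow_neg, hci (x ^ (-j)),
      ← mul_assoc, hci (y ^ (-k)), mul_assoc, h1, zpow_add]
    simp only [mul_assoc]

theorem mem_heis (x y c : T) (hc : ∀ g : T, g * c = c * g) (hxy : x * y = c * y * x) (g : T) :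
    g ∈ heis x y c hc hxy ↔ ∃ i j k : ℤ, g = c ^ i * x ^ j * y ^ k := Iff.rfl

theorem card_zpowers_le {p : ℕ} (hp : p.Prime) (g : T) (hg : g ^ p = 1) :
    Nat.card (Subgroup.zpowers g) ≤ p := by
  rw [Nat.card_zpowers]
  exact Nat.le_of_dvd hp.pos (orderOf_dvd_of_pow_eq_one hg)

theorem card_heis_le [Finite T] {p : ℕ} (hp : p.Prime) (x y c : T) (hc : ∀ g : T, g * c = c * g)
    (hxy : x * y = c * y * x) (hx : x ^ p = 1) (hy : y ^ p = 1) (hcp : c ^ p = 1) :
    Nat.card (heis x y c hc hxy) ≤ p ^ 3 := by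
  have hsub : ((heis x y c hc hxy : Subgroup T) : Set T) ⊆
      (Subgroup.zpowers c : Set T) * (Subgroup.zpowers x : Set T) *
        (Subgroup.zpowers y : Set T) := by
    rintro g ⟨i, j, k, rfl⟩
    exact Set.mul_mem_mul (Set.mul_mem_mul (zpow_mem (Subgroup.mem_zpowers c) i)
      (zpow_mem (Subgroup.mem_zpowers x) j)) (zpow_mem (Subgroup.mem_zpowers y) k)
  have h1 : Nat.card (heis x y c hc hxy) ≤ Nat.card
      ((Subgroup.zpowers c : Set T) * (Subgroup.zpowers x : Set T) *
        (Subgroup.zpowers y : Set T) : Set T) := Nat.card_mono (Set.toFinite _) hsub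
  have h2 : Nat.card ((Subgroup.zpowers c : Set T) * (Subgroup.zpowers x : Set T) *
        (Subgroup.zpowers y : Set T) : Set T) ≤
      Nat.card ((Subgroup.zpowers c : Set T) * (Subgroup.zpowers x : Set T) : Set T) *
        Nat.card (Subgroup.zpowers y : Set T) := Set.natCard_mul_le
  have h3 : Nat.card ((Subgroup.zpowers c : Set T) * (Subgroup.zpowers x : Set T) : Set T) ≤
      Nat.card (Subgroup.zpowers c : Set T) * Nat.card (Subgroup.zpowers x : Set T) :=
    Set.natCard_mul_le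
  have hc' : Nat.card (Subgroup.zpowers c : Set T) ≤ p := card_zpowers_le hp c hcp
  have hx' : Nat.card (Subgroup.zpowers x : Set T) ≤ p := card_zpowers_le hp x hx
  have hy' : Nat.card (Subgroup.zpowers y : Set T) ≤ p := card_zpowers_le hp y hy
  calc Nat.card (heis x y c hc hxy) ≤ _ := h1
    _ ≤ _ := h2
    _ ≤ (Nat.card (Subgroup.zpowers c : Set T) * Nat.card (Subgroup.zpowers x : Set T)) *
        Nat.card (Subgroup.zpowers y : Set T) := Nat.mul_le_mul_right _ h3
    _ ≤ (p * p) * p := Nat.mul_le_mul (Nat.mul_le_mul hc' hx') hy'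
    _ = p ^ 3 := by ring

/-- groups of order `p^b`, `b ≤ 2`, are commutative -/
theorem comm_of_card_le_sq {H : Type*} [Group H] {p : ℕ} [Fact p.Prime] (b : ℕ) (hb : b ≤ 2)
    (hH : Nat.card H = p ^ b) : ∀ u v : H, u * v = v * u := by
  interval_cases b
  · rw [pow_zero] at hH
    haveI : Subsingleton H := (Nat.card_eq_one_iff_unique.1 hH).1
    intro u v; exact Subsingleton.elim _ _
  · rw [pow_one] at hH
    haveI : IsCyclic H := isCyclic_of_prime_card hH
    exact fun u v => (IsCyclic.isMulCommutative (α := H)).is_comm.comm u v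
  · exact fun u v => (IsPGroup.isMulCommutative_of_card_eq_prime_sq (p := p) hH).is_comm.comm u v

theorem comm_sup {A B : Subgroup T} (hA : ∀ a ∈ A, ∀ a' ∈ A, a * a' = a' * a)
    (hB : ∀ b ∈ B, ∀ b' ∈ B, b * b' = b' * b) (hAB : ∀ a ∈ A, ∀ b ∈ B, a * b = b * a) :
    ∀ u ∈ A ⊔ B, ∀ v ∈ A ⊔ B, u * v = v * u := by
  have h1 : A ⊔ B ≤ Subgroup.centralizer (A : Set T) := by
    refine sup_le ?_ ?_
    · intro a ha
      rw [Subgroup.mem_centralizer_iff]
      intro a' ha'
      exact hA a' ha' a ha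
    · intro b hb
      rw [Subgroup.mem_centralizer_iff]
      intro a ha
      exact hAB a ha b hb
  have h2 : A ⊔ B ≤ Subgroup.centralizer (B : Set T) := by
    refine sup_le ?_ ?_
    · intro a ha
      rw [Subgroup.mem_centralizer_iff]
      intro b hb
      exact (hAB a ha b hb).symm
    · intro b hb
      rw [Subgroup.mem_centralizer_iff]
      intro b' hb'
      exact hB b' hb' b hb
  have h3 : A ⊔ B ≤ Subgroup.centralizer ((A ⊔ B : Subgroup T) : Set T) := by
    rw [Subgroup.le_centralizer_iff]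
    refine sup_le ?_ ?_
    · rw [Subgroup.le_centralizer_iff]; exact h1
    · rw [Subgroup.le_centralizer_iff]; exact h2
  intro u hu v hv
  exact (Subgroup.mem_centralizer_iff.1 (h3 hv) u hu)


theorem exists_second_center [Finite T] {p : ℕ} [Fact p.Prime] (hT : IsPGroup p T)
    (hna : ∃ a b : T, a * b ≠ b * a) :
    ∃ x : T, x ∉ Subgroup.center T ∧ ∀ g : T, g * x * g⁻¹ * x⁻¹ ∈ Subgroup.center T := by
  have hZne : Subgroup.center T ≠ ⊤ := by
    intro h
    obtain ⟨a, b, hab⟩ := hna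
    apply hab
    have hb : b ∈ Subgroup.center T := by rw [h]; exact Subgroup.mem_top b
    exact Subgroup.mem_center_iff.1 hb a
  haveI : Nontrivial (T ⧸ Subgroup.center T) := QuotientGroup.nontrivial_iff.2 hZne
  have hQ : IsPGroup p (T ⧸ Subgroup.center T) := hT.to_quotient _
  obtain ⟨q, hqc, hqo⟩ := exists_central_order_p hQ
  obtain ⟨x, rfl⟩ := QuotientGroup.mk_surjective q
  refine ⟨x, ?_, ?_⟩
  · intro hx
    have h1 : (x : T ⧸ Subgroup.center T) = 1 := (QuotientGroup.eq_one_iff x).2 hx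
    rw [h1, orderOf_one] at hqo
    exact (Fact.out : p.Prime).one_lt.ne hqo
  · intro g
    rw [← QuotientGroup.eq_one_iff]
    have h1 := Subgroup.mem_center_iff.1 hqc (g : T ⧸ Subgroup.center T)
    rw [QuotientGroup.mk_mul, QuotientGroup.mk_mul, QuotientGroup.mk_mul, QuotientGroup.mk_inv,
      QuotientGroup.mk_inv, h1]
    group

theorem exists_abelian_p3 [Finite T] {p : ℕ} [Fact p.Prime] (hT : IsPGroup p T) (n : ℕ)
    (hn : 4 ≤ n) (hcard : Nat.card T = p ^ n) (x : T) (hxZ : x ∉ Subgroup.center T)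
    (hx : ∀ g : T, g * x * g⁻¹ * x⁻¹ ∈ Subgroup.center T) :
    ∃ A : Subgroup T, Nat.card A = p ^ 3 ∧ ∀ a ∈ A, ∀ b ∈ A, a * b = b * a := by
  have hpp : p.Prime := Fact.out
  -- it is enough to find an abelian subgroup of order at least p^3
  suffices hsuff : ∃ A0 : Subgroup T, p ^ 3 ≤ Nat.card A0 ∧ ∀ a ∈ A0, ∀ b ∈ A0, a * b = b * a by
    obtain ⟨A0, hA0card, hA0⟩ := hsuff
    obtain ⟨a0, ha0⟩ := IsPGroup.iff_card.1 (hT.to_subgroup A0)
    have h3 : 3 ≤ a0 := by
      by_contra hlt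
      have : a0 ≤ 2 := by omega
      have h2 : p ^ a0 ≤ p ^ 2 := Nat.pow_le_pow_right hpp.pos this
      have h4 : p ^ 2 < p ^ 3 := Nat.pow_lt_pow_right hpp.one_lt (by norm_num)
      omega
    obtain ⟨K', hK'⟩ := Sylow.exists_subgroup_card_pow_prime (G := A0) p
      (n := 3) (by rw [ha0]; exact pow_dvd_pow p h3)
    refine ⟨K'.map A0.subtype, ?_, ?_⟩
    · rw [Subgroup.card_map_of_injective (Subgroup.subtype_injective A0)]; exact hK'
    · rintro _ ⟨a, _, rfl⟩ _ ⟨b, _, rfl⟩
      exact hA0 _ a.2 _ b.2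
  set Z := Subgroup.center T with hZ
  have hZcomm : ∀ a ∈ Z, ∀ g : T, a * g = g * a := fun a ha g =>
    (Subgroup.mem_center_iff.1 ha g).symm
  have hXcomm : ∀ a ∈ Subgroup.zpowers x, ∀ b ∈ Subgroup.zpowers x, a * b = b * a := by
    intro a ha b hb
    obtain ⟨i, rfl⟩ := Subgroup.mem_zpowers_iff.1 ha
    obtain ⟨j, rfl⟩ := Subgroup.mem_zpowers_iff.1 hb
    exact ((Commute.refl x).zpow_zpow i j).eq
  have hA1comm : ∀ a ∈ Z ⊔ Subgroup.zpowers x, ∀ b ∈ Z ⊔ Subgroup.zpowers x, a * b = b * a :=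
    comm_sup (fun a ha a' _ => hZcomm a ha a') hXcomm (fun a ha b _ => hZcomm a ha b)
  have hlt1 : Z < Z ⊔ Subgroup.zpowers x := by
    refine lt_of_le_of_ne le_sup_left ?_
    intro heq
    apply hxZ
    rw [heq]
    exact le_sup_right (a := Z) (Subgroup.mem_zpowers x)
  have hc1 := pgroup_card_lt hT hlt1
  obtain ⟨z, hz⟩ := IsPGroup.iff_card.1 (hT.to_subgroup Z)
  haveI : Nontrivial T := by
    refine ⟨⟨x, 1, ?_⟩⟩
    intro h
    apply hxZ
    rw [h]; exact Subgroup.one_mem _
  have hz1 : 1 ≤ z := by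
    by_contra hlt
    have hz0 : z = 0 := by omega
    rw [hz0, pow_zero] at hz
    have hbot : Z = ⊥ := Subgroup.card_eq_one.1 hz
    have h1 : Nontrivial (Subgroup.center T) := hT.center_nontrivial
    rw [Subgroup.nontrivial_iff_ne_bot] at h1
    exact h1 hbot
  by_cases hz2 : 2 ≤ z
  · refine ⟨Z ⊔ Subgroup.zpowers x, ?_, hA1comm⟩
    have h1 : p ^ 2 ≤ p ^ z := Nat.pow_le_pow_right hpp.pos hz2
    calc p ^ 3 = p * p ^ 2 := by ring
      _ ≤ p * p ^ z := Nat.mul_le_mul_left p h1
      _ = p * Nat.card Z := by rw [hz]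
      _ ≤ _ := hc1
  · have hz' : z = 1 := by omega
    rw [hz', pow_one] at hz
    -- the commutator homomorphism
    let φ : T →* Z := MonoidHom.mk' (fun g => ⟨g * x * g⁻¹ * x⁻¹, hx g⟩) (by
      intro g h
      apply Subtype.ext
      have hu := hZcomm _ (hx h)
      show g * h * x * (g * h)⁻¹ * x⁻¹ = (g * x * g⁻¹ * x⁻¹) * (h * x * h⁻¹ * x⁻¹)
      calc g * h * x * (g * h)⁻¹ * x⁻¹
          = g * (h * x * h⁻¹ * x⁻¹) * (x * g⁻¹ * x⁻¹) := by group
        _ = (h * x * h⁻¹ * x⁻¹) * g * (x * g⁻¹ * x⁻¹) := by rw [← hu g]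
        _ = (h * x * h⁻¹ * x⁻¹) * (g * x * g⁻¹ * x⁻¹) := by group
        _ = (g * x * g⁻¹ * x⁻¹) * (h * x * h⁻¹ * x⁻¹) := hu _)
    have hφ : ∀ g : T, ((φ g : Z) : T) = g * x * g⁻¹ * x⁻¹ := fun g => rfl
    have hidx : φ.ker.index ≤ p := by
      rw [Subgroup.index_ker, ← hz]
      exact Subgroup.card_le_card_group _
    have hkc := φ.ker.card_mul_index
    rw [hcard] at hkc
    have hKcard : p ^ 3 ≤ Nat.card φ.ker := by
      have h1 : p ^ n ≤ Nat.card φ.ker * p := by
        rw [← hkc]; exact Nat.mul_le_mul_left _ hidx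
      have h2 : p ^ 4 ≤ p ^ n := Nat.pow_le_pow_right hpp.pos hn
      have h3 : p ^ 4 = p ^ 3 * p := by ring
      have h4 : p ^ 3 * p ≤ Nat.card φ.ker * p := by omega
      exact Nat.le_of_mul_le_mul_right h4 hpp.pos
    have hker : ∀ g : T, g ∈ φ.ker ↔ g * x = x * g := by
      intro g
      rw [MonoidHom.mem_ker]
      constructor
      · intro h
        have h1 := congrArg Subtype.val h
        rw [hφ, Subgroup.coe_one] at h1
        have h2 : g * x * g⁻¹ = x := by rw [← mul_inv_eq_one]; exact h1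
        calc g * x = (g * x * g⁻¹) * g := by group
          _ = x * g := by rw [h2]
      · intro h
        apply Subtype.ext
        rw [hφ, Subgroup.coe_one, h]
        group
    have hA1K : Z ⊔ Subgroup.zpowers x ≤ φ.ker := by
      refine sup_le ?_ ?_
      · intro a ha
        rw [hker]; exact hZcomm a ha x
      · rw [Subgroup.zpowers_le, hker]
    by_cases hA1big : p ^ 3 ≤ Nat.card (Z ⊔ Subgroup.zpowers x : Subgroup T)
    · exact ⟨_, hA1big, hA1comm⟩
    · push Not at hA1big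
      have hne : Z ⊔ Subgroup.zpowers x ≠ φ.ker := by
        intro heq
        rw [heq] at hA1big
        omega
      obtain ⟨w, hwK, hwA⟩ : ∃ w ∈ φ.ker, w ∉ Z ⊔ Subgroup.zpowers x := by
        by_contra hcon
        push Not at hcon
        exact hne (le_antisymm hA1K hcon)
      have hwx : w * x = x * w := (hker w).1 hwK
      have hwA1 : ∀ a ∈ Z ⊔ Subgroup.zpowers x, ∀ b ∈ Subgroup.zpowers w, a * b = b * a := by
        have h1 : Z ⊔ Subgroup.zpowers x ≤
            Subgroup.centralizer ((Subgroup.zpowers w : Subgroup T) : Set T) := by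
          refine sup_le ?_ ?_
          · intro a ha
            rw [Subgroup.mem_centralizer_iff]
            intro b _
            exact (hZcomm a ha b).symm
          · rw [Subgroup.zpowers_le, Subgroup.mem_centralizer_iff]
            intro b hb
            obtain ⟨i, rfl⟩ := Subgroup.mem_zpowers_iff.1 hb
            exact (Commute.zpow_left hwx i).eq
        intro a ha b hb
        exact (Subgroup.mem_centralizer_iff.1 (h1 ha) b hb).symm
      have hWcomm : ∀ a ∈ Subgroup.zpowers w, ∀ b ∈ Subgroup.zpowers w, a * b = b * a := by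
        intro a ha b hb
        obtain ⟨i, rfl⟩ := Subgroup.mem_zpowers_iff.1 ha
        obtain ⟨j, rfl⟩ := Subgroup.mem_zpowers_iff.1 hb
        exact ((Commute.refl w).zpow_zpow i j).eq
      have hA0comm := comm_sup hA1comm hWcomm hwA1
      have hlt2 : Z ⊔ Subgroup.zpowers x < (Z ⊔ Subgroup.zpowers x) ⊔ Subgroup.zpowers w := by
        refine lt_of_le_of_ne le_sup_left ?_
        intro heq
        apply hwA
        rw [heq]
        exact le_sup_right (a := Z ⊔ Subgroup.zpowers x) (Subgroup.mem_zpowers w)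
      have hc2 := pgroup_card_lt hT hlt2
      refine ⟨_, ?_, hA0comm⟩
      rw [hz] at hc1
      calc p ^ 3 = p * (p * p) := by ring
        _ ≤ p * Nat.card (Z ⊔ Subgroup.zpowers x : Subgroup T) := Nat.mul_le_mul_left p hc1
        _ ≤ _ := hc2

theorem sq_comm (hexp : ∀ a : T, a ^ 2 = 1) (a b : T) : a * b = b * a := by
  have ha : a * a = 1 := by rw [← pow_two]; exact hexp a
  have hb : b * b = 1 := by rw [← pow_two]; exact hexp b
  have hab : a * b * (a * b) = 1 := by rw [← pow_two]; exact hexp (a * b)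
  have h : b * a = a * b := by
    calc b * a = (a * a) * (b * a) * (b * b) := by rw [ha, hb, one_mul, mul_one]
      _ = a * (a * b * (a * b)) * b := by simp only [mul_assoc]
      _ = a * b := by rw [hab, mul_one]
  exact h.symm

theorem core [Finite T] {p : ℕ} [Fact p.Prime] (hT : IsPGroup p T)
    (hI : ∀ H K : Subgroup T, Nat.card H = Nat.card K → Nonempty (H ≃* K)) :
    IsCyclic T ∨ ((∀ a b : T, a * b = b * a) ∧ ∀ a : T, a ^ p = 1) ∨
      (p = 2 ∧ Nonempty (T ≃* QuaternionGroup 2)) ∨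
      (p ≠ 2 ∧ (∃ a b : T, a * b ≠ b * a) ∧ Nat.card T = p ^ 3 ∧ ∀ a : T, a ^ p = 1) := by
  have hpp : p.Prime := Fact.out
  by_cases hexp : ∀ a : T, a ^ p = 1
  · by_cases hcomm : ∀ a b : T, a * b = b * a
    · exact Or.inr (Or.inl ⟨hcomm, hexp⟩)
    · push Not at hcomm
      have hp2 : p ≠ 2 := by
        intro h2
        subst h2
        obtain ⟨a, b, hab⟩ := hcomm
        exact hab (sq_comm hexp a b)
      refine Or.inr (Or.inr (Or.inr ⟨hp2, hcomm, ?_, hexp⟩))
      obtain ⟨n, hn⟩ := IsPGroup.iff_card.1 hT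
      obtain ⟨x, hxZ, hx⟩ := exists_second_center hT hcomm
      obtain ⟨y, hy⟩ : ∃ y : T, y * x ≠ x * y := by
        by_contra hcon
        push Not at hcon
        exact hxZ (Subgroup.mem_center_iff.2 hcon)
      have hcZ : x * y * x⁻¹ * y⁻¹ ∈ Subgroup.center T := by
        have h1 := Subgroup.inv_mem _ (hx y)
        have e : (y * x * y⁻¹ * x⁻¹)⁻¹ = x * y * x⁻¹ * y⁻¹ := by group
        rwa [e] at h1
      have hc : ∀ g : T, g * (x * y * x⁻¹ * y⁻¹) = (x * y * x⁻¹ * y⁻¹) * g :=
        fun g => Subgroup.mem_center_iff.1 hcZ g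
      have hxy : x * y = (x * y * x⁻¹ * y⁻¹) * y * x := by group
      set B := heis x y (x * y * x⁻¹ * y⁻¹) hc hxy with hB
      have hxB : x ∈ B := (mem_heis _ _ _ hc hxy x).2 ⟨0, 1, 0, by simp⟩
      have hyB : y ∈ B := (mem_heis _ _ _ hc hxy y).2 ⟨0, 0, 1, by simp⟩
      have hBle : Nat.card B ≤ p ^ 3 :=
        card_heis_le hpp x y _ hc hxy (hexp x) (hexp y) (hexp _)
      obtain ⟨b, hb⟩ := IsPGroup.iff_card.1 (hT.to_subgroup B)
      have hb3 : b = 3 := by
        have hle : b ≤ 3 := by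
          by_contra hgt
          have : p ^ 4 ≤ p ^ b := Nat.pow_le_pow_right hpp.pos (by omega)
          have h4 : p ^ 3 < p ^ 4 := Nat.pow_lt_pow_right hpp.one_lt (by norm_num)
          omega
        by_contra hne
        have hb2 : b ≤ 2 := by omega
        have h1 := comm_of_card_le_sq (p := p) b hb2 hb ⟨y, hyB⟩ ⟨x, hxB⟩
        exact hy (congrArg Subtype.val h1)
      rw [hb3] at hb
      have hn3 : 3 ≤ n := by
        have h1 : p ^ 3 ∣ p ^ n := by rw [← hb, ← hn]; exact Subgroup.card_subgroup_dvd_card B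
        exact (Nat.pow_dvd_pow_iff_le_right hpp.one_lt).1 h1
      by_contra hne
      have hn4 : 4 ≤ n := by
        rcases Nat.lt_or_ge n 4 with h | h
        · exfalso
          apply hne
          rw [hn]
          congr 1
          omega
        · exact h
      obtain ⟨A, hAcard, hAcomm⟩ := exists_abelian_p3 hT n hn4 hn x hxZ hx
      obtain ⟨e⟩ := hI A B (by rw [hAcard, hb])
      have h1 : e.symm ⟨y, hyB⟩ * e.symm ⟨x, hxB⟩ = e.symm ⟨x, hxB⟩ * e.symm ⟨y, hyB⟩ := by
        apply Subtype.ext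
        exact hAcomm _ (e.symm ⟨y, hyB⟩).2 _ (e.symm ⟨x, hxB⟩).2
      rw [← map_mul, ← map_mul] at h1
      have h2 := e.symm.injective h1
      exact hy (congrArg Subtype.val h2)
  · push Not at hexp
    obtain ⟨x, hx⟩ := hexp
    rcases case_not_exponent hT hI x hx with h | h
    · exact Or.inl h
    · exact Or.inr (Or.inr (Or.inl h))

theorem result {G : Type*} [Group G] [Finite G]
    {p : ℕ} [Fact p.Prime] (hC : ∀ H K : Subgroup G, IsPGroup p H → IsPGroup p K → Nat.card H = Nat.card K →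
      ∃ g : G, K = H.map (MulAut.conj g).toMonoidHom) (P : Sylow p G) :
    IsCyclic P ∨ Cfsg.IsElementaryAbelian p (P : Subgroup G) ∨
      (p = 2 ∧ Nonempty ((P : Subgroup G) ≃* QuaternionGroup 2)) ∨
      (p ≠ 2 ∧ ¬ IsMulCommutative P ∧ Nat.card P = p ^ 3 ∧ Monoid.exponent P = p) := by
  have hpp : p.Prime := Fact.out
  have hI : ∀ H K : Subgroup (P : Subgroup G), Nat.card H = Nat.card K → Nonempty (H ≃* K) := by
    intro H K hHK
    have hinj := Subgroup.subtype_injective (P : Subgroup G)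
    have hH : IsPGroup p (H.map (P : Subgroup G).subtype) := (P.isPGroup'.to_subgroup H).map _
    have hK : IsPGroup p (K.map (P : Subgroup G).subtype) := (P.isPGroup'.to_subgroup K).map _
    have hc : Nat.card (H.map (P : Subgroup G).subtype) =
        Nat.card (K.map (P : Subgroup G).subtype) := by
      rw [Subgroup.card_map_of_injective hinj, Subgroup.card_map_of_injective hinj, hHK]
    obtain ⟨g, hg⟩ := hC _ _ hH hK hc
    have e1 := Subgroup.equivMapOfInjective H _ hinj
    have e2 := Subgroup.equivMapOfInjective (H.map (P : Subgroup G).subtype)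
      (MulAut.conj g).toMonoidHom (MulAut.conj g).injective
    have e3 := Subgroup.equivMapOfInjective K _ hinj
    have e4 : ↥((H.map (P : Subgroup G).subtype).map (MulAut.conj g).toMonoidHom) ≃*
        ↥(K.map (P : Subgroup G).subtype) := MulEquiv.subgroupCongr hg.symm
    exact ⟨e1.trans (e2.trans (e4.trans e3.symm))⟩
  rcases core P.isPGroup' hI with h | ⟨hc, he⟩ | ⟨h2, hq⟩ | ⟨hp2, hna, hcard, hexp⟩
  · exact Or.inl h
  · right; left
    refine ⟨⟨⟨hc⟩⟩, fun a ha => ?_⟩
    have h1 := he ⟨a, ha⟩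
    have h2 := congrArg Subtype.val h1
    simpa using h2
  · right; right; left; exact ⟨h2, hq⟩
  · right; right; right
    refine ⟨hp2, ?_, hcard, ?_⟩
    · intro hcm
      obtain ⟨a, b, hab⟩ := hna
      exact hab (hcm.is_comm.comm a b)
    · have h1 : Monoid.exponent (P : Subgroup G) ∣ p :=
        Monoid.exponent_dvd_of_forall_pow_eq_one hexp
      rcases (Nat.dvd_prime hpp).1 h1 with h | h
      · exfalso
        rw [Monoid.exp_eq_one_iff] at h
        obtain ⟨a, b, hab⟩ := hna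
        exact hab (Subsingleton.elim _ _)
      · exact h

end Cfsg.Agent.S4023
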