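import Mathlib
import Cfsg.Agent.Lib_helper17_CycSelfCent
import Cfsg.Agent.S4023

set_option autoImplicit false

/-!
# p-groups with a cyclic normal self-centralizing subgroup: the case `C(U^p) ≠ U`
-/

namespace Cfsg.Agent.helper17.CSC

open Cfsg.Agent.helper17.Ded

variable {G : Type*} [Group G] {p n : ℕ} {u : G}

namespace Setting

/-- elements of `U` centralize `u^p` -/
theorem mem_M_of_mem {y : G} (hy : y ∈ Subgroup.zpowers u) : y * u ^ p = u ^ p * y :=
  comm_of_mem hy (Subgroup.npow_mem_zpowers u p)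

/-- `M` is closed under conjugation -/
theorem conj_mem_M (S : Setting p n u) {x : G} (hx : x * u ^ p = u ^ p * x) (a : G) :
    (a * x * a⁻¹) * u ^ p = u ^ p * (a * x * a⁻¹) := by
  obtain ⟨b, hb⟩ : ∃ b, b = a⁻¹ := ⟨_, rfl⟩
  have hab : a = b⁻¹ := by rw [hb, inv_inv]
  have h1 : b * u * b⁻¹ ∈ Subgroup.zpowers u := S.conj_mem b (Subgroup.mem_zpowers u)
  obtain ⟨k, hk⟩ := Subgroup.mem_zpowers_iff.mp h1
  have h2 : b * u ^ p * b⁻¹ = (u ^ p) ^ k := by
    rw [← conj_pow, ← hk, ← zpow_natCast, ← zpow_natCast, ← zpow_mul, ← zpow_mul, mul_comm]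
  have h4 : Commute x ((u ^ p) ^ k) := (show Commute x (u ^ p) from hx).zpow_right k
  have h5 : x * (b * u ^ p * b⁻¹) = (b * u ^ p * b⁻¹) * x := by rw [h2]; exact h4.eq
  rw [hab]
  calc b⁻¹ * x * b⁻¹⁻¹ * u ^ p = b⁻¹ * (x * (b * u ^ p * b⁻¹)) * b := by group
    _ = b⁻¹ * ((b * u ^ p * b⁻¹) * x) * b := by rw [h5]
    _ = u ^ p * (b⁻¹ * x * b⁻¹⁻¹) := by group

variable [Finite G] [hp : Fact p.Prime]

theorem ww_central (S : Setting p n u) (hG : IsPGroup p G) (hn : 1 ≤ n) {g : G}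
    (hg : g * u ^ p = u ^ p * g) (x : G) : x * ww u g = ww u g * x :=
  S.central_of_mem_zz hG hn (S.ww_mem_zz hn hg) x

/-- powers of an element of `M` lie in `M` -/
theorem pow_mem_M {g : G} (hg : g * u ^ p = u ^ p * g) (k : ℕ) : g ^ k * u ^ p = u ^ p * g ^ k :=
  ((show Commute g (u ^ p) from hg).pow_left k).eq

theorem mul_mem_M {g h : G} (hg : g * u ^ p = u ^ p * g) (hh : h * u ^ p = u ^ p * h) :
    (g * h) * u ^ p = u ^ p * (g * h) :=
  ((show Commute g (u ^ p) from hg).mul_left (show Commute h (u ^ p) from hh)).eq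

/-- coset representatives of `U` in `M` -/
theorem exists_rep (S : Setting p n u) (hG : IsPGroup p G) (hn : 1 ≤ n) {g : G}
    (hg : g * u ^ p = u ^ p * g) (hgU : g ∉ Subgroup.zpowers u) {x : G}
    (hx : x * u ^ p = u ^ p * x) :
    ∃ i < p, ∃ y ∈ Subgroup.zpowers u, x = g ^ i * y := by
  have hwg1 : ww u g ≠ 1 := fun h => hgU (S.mem_of_ww_eq_one h)
  have hwgz := S.ww_mem_zz hn hg
  have hwxz := S.ww_mem_zz hn hx
  have heq := S.zpowers_eq_of_ne_one hn hwgz hwg1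
  have hwx : ww u x ∈ Subgroup.zpowers (ww u g) := by rw [heq]; exact hwxz
  obtain ⟨i, hi, hix⟩ := exists_pow_lt_of_mem_zpowers hwx
  have hord : orderOf (ww u g) = p := by
    have h1 := Nat.card_zpowers (ww u g)
    rw [heq, Nat.card_zpowers, S.orderOf_zz hn] at h1
    exact h1.symm
  rw [hord] at hi
  refine ⟨i, hi, (g ^ i)⁻¹ * x, ?_, by rw [mul_inv_cancel_left]⟩
  apply S.mem_of_ww_eq
  rw [ww_pow (S.ww_central hG hn hg), hix]

/-- an element of order `p` in `M ∖ U` -/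
theorem exists_t (S : Setting p n u) (hG : IsPGroup p G) (hn : 1 ≤ n) (hpn : p ≠ 2 ∨ 3 ≤ n)
    {g : G} (hg : g * u ^ p = u ^ p * g) (hgU : g ∉ Subgroup.zpowers u) :
    ∃ t : G, t * u ^ p = u ^ p * t ∧ t ∉ Subgroup.zpowers u ∧ t ^ p = 1 := by
  have hc := S.ww_central hG hn hg
  have hwg1 : ww u g ≠ 1 := fun h => hgU (S.mem_of_ww_eq_one h)
  have hwgz := S.ww_mem_zz hn hg
  have hwgp : ww u g ^ p = 1 := S.pow_p_of_mem_zz hn hwgz
  have hord : orderOf (ww u g) = p := by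
    rcases (Nat.dvd_prime hp.out).mp (orderOf_dvd_of_pow_eq_one hwgp) with h | h
    · rw [orderOf_eq_one_iff] at h; exact absurd h hwg1
    · exact h
  have hgpU : g ^ p ∈ Subgroup.zpowers u := by
    apply S.mem_of_ww_eq_one
    rw [ww_pow hc, hwgp]
  obtain ⟨s, -, hs⟩ := exists_pow_lt_of_mem_zpowers hgpU
  have hps : p ∣ s := by
    have h1 : g * u ^ s * g⁻¹ = u ^ s := by
      rw [hs, ← pow_succ', pow_succ, mul_inv_cancel_right]
    rw [conj_pow_u hc s] at h1
    have h2 : ww u g ^ s * u ^ s = 1 * u ^ s := by rw [one_mul]; exact h1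
    have h3 : ww u g ^ s = 1 := mul_right_cancel h2
    rw [← hord]; exact orderOf_dvd_of_pow_eq_one h3
  obtain ⟨s', hs'⟩ := hps
  have hyU : (u ^ s')⁻¹ ∈ Subgroup.zpowers u := inv_mem (Subgroup.npow_mem_zpowers u s')
  obtain ⟨j, -, hj⟩ := exists_pow_lt_of_mem_zpowers hyU
  have hpow := mul_pow_u hc j p
  have h4 : g ^ p * (u ^ j) ^ p = 1 := by
    rw [hj, inv_pow, ← pow_mul, mul_comm s' p, ← hs', hs, mul_inv_cancel]
  rw [h4, mul_one] at hpow
  have ht1M : (g * u ^ j) * u ^ p = u ^ p * (g * u ^ j) :=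
    mul_mem_M hg (mem_M_of_mem (Subgroup.npow_mem_zpowers u j))
  have ht1U : g * u ^ j ∉ Subgroup.zpowers u := by
    intro h
    apply hgU
    have h5 : g = g * u ^ j * (u ^ j)⁻¹ := by rw [mul_inv_cancel_right]
    rw [h5]
    exact mul_mem h (inv_mem (Subgroup.npow_mem_zpowers u j))
  have hez : (ww u g ^ j)⁻¹ ∈ Subgroup.zpowers (zz p n u) := inv_mem (pow_mem hwgz j)
  have hep : ((ww u g ^ j)⁻¹) ^ p = 1 := S.pow_p_of_mem_zz hn hez
  by_cases hp2 : p = 2
  · subst hp2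
    have hn3 : 3 ≤ n := by
      rcases hpn with h | h
      · exact absurd rfl h
      · exact h
    rw [tri_two, pow_one] at hpow
    by_cases hc1 : (ww u g ^ j)⁻¹ = 1
    · exact ⟨g * u ^ j, ht1M, ht1U, by rw [hpow, hc1]⟩
    · -- t1^2 = z
      have hcz : (ww u g ^ j)⁻¹ = zz 2 n u := by
        obtain ⟨k, hk, hkz⟩ := exists_pow_lt_of_mem_zpowers hez
        rw [S.orderOf_zz hn] at hk
        interval_cases k
        · rw [pow_zero] at hkz; exact absurd hkz.symm hc1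
        · rw [pow_one] at hkz; exact hkz.symm
      rw [hcz] at hpow
      -- y0 = u^(2^(n-2))
      have hct1 := S.ww_central hG hn ht1M
      have hwt1 : ww u (g * u ^ j) ^ 2 = 1 := S.pow_p_of_mem_zz hn (S.ww_mem_zz hn ht1M)
      have hcomm : (g * u ^ j) * u ^ (2 ^ (n - 2)) * (g * u ^ j)⁻¹ = u ^ (2 ^ (n - 2)) := by
        rw [conj_pow_u hct1, show 2 ^ (n - 2) = 2 * 2 ^ (n - 3) by
          rw [← pow_succ']; congr 1; omega, pow_mul, hwt1, one_pow, one_mul]
      have hcomm' : Commute (g * u ^ j) (u ^ (2 ^ (n - 2))) := by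
        have h6 := mul_inv_eq_iff_eq_mul.mp hcomm
        exact h6
      refine ⟨g * u ^ j * u ^ (2 ^ (n - 2)),
        mul_mem_M ht1M (mem_M_of_mem (Subgroup.npow_mem_zpowers u _)), ?_, ?_⟩
      · intro h
        apply ht1U
        have h5 : g * u ^ j = g * u ^ j * u ^ (2 ^ (n - 2)) * (u ^ (2 ^ (n - 2)))⁻¹ := by
          rw [mul_inv_cancel_right]
        rw [h5]
        exact mul_mem h (inv_mem (Subgroup.npow_mem_zpowers u _))
      · rw [hcomm'.mul_pow, hpow, ← pow_mul, show 2 ^ (n - 2) * 2 = 2 ^ (n - 1) by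
          rw [← pow_succ]; congr 1; omega]
        have h7 : zz 2 n u * zz 2 n u = 1 := by rw [← pow_two]; exact S.zz_pow hn
        exact h7
  · have hdvd := tri_prime_odd hp.out hp2
    obtain ⟨m, hm⟩ := hdvd
    refine ⟨g * u ^ j, ht1M, ht1U, ?_⟩
    rw [hpow, hm, pow_mul, hep, one_pow]

/-- elements of order dividing `p` in `M` -/
theorem mem_W (S : Setting p n u) (hG : IsPGroup p G) (hn : 1 ≤ n) (hpn : p ≠ 2 ∨ 3 ≤ n)
    {t : G} (ht : t * u ^ p = u ^ p * t) (htU : t ∉ Subgroup.zpowers u) (htp : t ^ p = 1)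
    {x : G} (hx : x * u ^ p = u ^ p * x) (hxp : x ^ p = 1) :
    x ∈ Subgroup.zpowers t ⊔ Subgroup.zpowers (zz p n u) := by
  obtain ⟨i, -, y, hy, rfl⟩ := S.exists_rep hG hn ht htU hx
  obtain ⟨j, -, rfl⟩ := exists_pow_lt_of_mem_zpowers hy
  have htiM := pow_mem_M ht i
  have hc := S.ww_central hG hn htiM
  have hpow := mul_pow_u hc j p
  rw [hxp, ← pow_mul t, mul_comm i p, pow_mul, htp, one_pow, one_mul] at hpow
  have hwz := S.ww_mem_zz hn htiM
  have hez : (ww u (t ^ i) ^ j)⁻¹ ∈ Subgroup.zpowers (zz p n u) := inv_mem (pow_mem hwz j)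
  have hep : ((ww u (t ^ i) ^ j)⁻¹) ^ p = 1 := S.pow_p_of_mem_zz hn hez
  have hgoal : u ^ j ∈ Subgroup.zpowers (zz p n u) → 
      t ^ i * u ^ j ∈ Subgroup.zpowers t ⊔ Subgroup.zpowers (zz p n u) := fun h =>
    mul_mem (Subgroup.mem_sup_left (Subgroup.npow_mem_zpowers t i)) (Subgroup.mem_sup_right h)
  apply hgoal
  by_cases hp2 : p = 2
  · subst hp2
    have hn3 : 3 ≤ n := by
      rcases hpn with h | h
      · exact absurd rfl h
      · exact h
    rw [tri_two, pow_one] at hpow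
    -- (u^j)^2 = ww^j
    have hsq : (u ^ j) ^ 2 = ww u (t ^ i) ^ j := by
      have h1 : ww u (t ^ i) ^ j * 1 = ww u (t ^ i) ^ j * ((ww u (t ^ i) ^ j)⁻¹ * (u ^ j) ^ 2) := by
        rw [← hpow]
      rw [mul_one, mul_inv_cancel_left] at h1
      exact h1.symm
    by_cases hy2 : (u ^ j) ^ 2 = 1
    · exact S.mem_zpowers_zz hn (Subgroup.npow_mem_zpowers u j) hy2
    · exfalso
      have hw2 : ww u (t ^ i) ^ 2 = 1 := S.pow_p_of_mem_zz hn hwz
      have hodd : Odd j := by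
        rcases Nat.even_or_odd j with he | ho
        · exfalso
          obtain ⟨k, hk⟩ := he
          apply hy2
          rw [hsq, hk, ← two_mul, pow_mul, hw2, one_pow]
        · exact ho
      have hcop : Nat.Coprime (orderOf u) j := by
        rw [S.ord]
        exact Nat.Coprime.pow_left n (Nat.coprime_two_left.mpr hodd)
      have hordy : orderOf (u ^ j) = 2 ^ n := by
        rw [hcop.orderOf_pow, S.ord]
      have h4 : (u ^ j) ^ 4 = 1 := by
        rw [show 4 = 2 * 2 by norm_num, pow_mul, hsq, ← pow_mul, mul_comm, pow_mul, hw2, one_pow]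
      have h5 := orderOf_dvd_of_pow_eq_one h4
      rw [hordy] at h5
      have h6 : 2 ^ n ≤ 4 := Nat.le_of_dvd (by norm_num) h5
      have h7 : 2 ^ 3 ≤ 2 ^ n := Nat.pow_le_pow_right (by norm_num) hn3
      omega
  · obtain ⟨m, hm⟩ := tri_prime_odd hp.out hp2
    rw [hm, pow_mul, hep, one_pow, one_mul] at hpow
    exact S.mem_zpowers_zz hn (Subgroup.npow_mem_zpowers u j) hpow.symm

end Setting

end Cfsg.Agent.helper17.CSC
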