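import Mathlib
import Cfsg.Prelude.Def_Transfer
import Cfsg.Prelude.Def_PLocal
import Cfsg.Agent.Lib_helper17_CycSelfCentA

set_option autoImplicit false

/-!
# p-groups with a cyclic normal self-centralizing subgroup: the case `C(U^p) ≠ U`, conclusion
-/

namespace Cfsg.Agent.helper17.CSC

open Cfsg.Agent.helper17.Ded

variable {G : Type*} [Group G] {p n : ℕ} {u : G}

namespace Setting

variable [Finite G] [hp : Fact p.Prime]

theorem relIndex_eq (S : Setting p n u) (hG : IsPGroup p G) (hn : 1 ≤ n)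
    (M : Subgroup G) (hM : ∀ g, g ∈ M ↔ g * u ^ p = u ^ p * g)
    {g : G} (hg : g ∈ M) (hgU : g ∉ Subgroup.zpowers u) :
    (Subgroup.zpowers u).relIndex M = p := by
  let φ : M →* G := MonoidHom.mk' (fun x => ww u (x : G)) (fun a b => by
    show ww u ((a : G) * (b : G)) = _
    exact ww_mul (S.ww_central hG hn ((hM b).mp b.2)))
  have hφ : ∀ x : M, φ x = ww u (x : G) := fun x => rfl
  have hker : (Subgroup.zpowers u).subgroupOf M = φ.ker := by
    ext x
    rw [Subgroup.mem_subgroupOf, MonoidHom.mem_ker, hφ]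
    constructor
    · intro h; exact Setting.ww_eq_one_of_mem h
    · intro h; exact S.mem_of_ww_eq_one h
  have hrange_le : φ.range ≤ Subgroup.zpowers (zz p n u) := by
    rintro _ ⟨x, rfl⟩
    rw [hφ]
    exact S.ww_mem_zz hn ((hM x).mp x.2)
  have hdvd : Nat.card φ.range ∣ p := by
    have h1 := Subgroup.card_dvd_of_le hrange_le
    rwa [Nat.card_zpowers, S.orderOf_zz hn] at h1
  have hne1 : Nat.card φ.range ≠ 1 := by
    intro h
    have h1 := Subgroup.eq_bot_of_card_eq _ h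
    have h2 : φ ⟨g, hg⟩ ∈ φ.range := ⟨_, rfl⟩
    rw [h1, Subgroup.mem_bot, hφ] at h2
    exact hgU (S.mem_of_ww_eq_one h2)
  have hcard : Nat.card φ.range = p := by
    rcases (Nat.dvd_prime hp.out).mp hdvd with h | h
    · exact absurd h hne1
    · exact h
  show ((Subgroup.zpowers u).subgroupOf M).index = p
  rw [hker, Subgroup.index_ker, hcard]

theorem caseA (S : Setting p n u) (hG : IsPGroup p G) (hn : 1 ≤ n) (hpn : p ≠ 2 ∨ 3 ≤ n)
    (M : Subgroup G) (hM : ∀ g, g ∈ M ↔ g * u ^ p = u ^ p * g)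
    {g : G} (hg : g ∈ M) (hgU : g ∉ Subgroup.zpowers u) :
    (Subgroup.zpowers u).relIndex M = p ∧ Cfsg.IsElementaryAbelian p (Cfsg.omegaOne p M) ∧
      Nat.card (Cfsg.omegaOne p M) = p ^ 2 ∧ (Cfsg.omegaOne p M).Characteristic := by
  refine ⟨S.relIndex_eq hG hn M hM hg hgU, ?_⟩
  obtain ⟨t, htM, htU, htp⟩ := S.exists_t hG hn hpn ((hM g).mp hg) hgU
  have hzM : zz p n u * u ^ p = u ^ p * zz p n u := (S.zz_central hG hn (u ^ p)).symm
  have hzp := S.zz_pow hn
  -- Ω₁(M) = W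
  have hΩ : Cfsg.omegaOne p M = Subgroup.zpowers t ⊔ Subgroup.zpowers (zz p n u) := by
    apply le_antisymm
    · unfold Cfsg.omegaOne
      rw [Subgroup.closure_le]
      rintro x ⟨hxM, hxp⟩
      exact S.mem_W hG hn hpn htM htU htp ((hM x).mp hxM) hxp
    · unfold Cfsg.omegaOne
      apply sup_le
      · rw [Subgroup.zpowers_le]
        exact Subgroup.subset_closure ⟨(hM t).mpr htM, htp⟩
      · rw [Subgroup.zpowers_le]
        exact Subgroup.subset_closure ⟨(hM _).mpr hzM, hzp⟩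
  haveI hzn : (Subgroup.zpowers (zz p n u)).Normal := ⟨fun x hx a => by
    have h1 := S.central_of_mem_zz hG hn hx a
    rw [h1, mul_inv_cancel_right]; exact hx⟩
  have hWmem : ∀ a ∈ Subgroup.zpowers t ⊔ Subgroup.zpowers (zz p n u),
      ∃ i : ℕ, ∃ k ∈ Subgroup.zpowers (zz p n u), a = t ^ i * k := by
    intro a ha
    have ha' : a ∈ ((Subgroup.zpowers t ⊔ Subgroup.zpowers (zz p n u) : Subgroup G) : Set G) := ha
    rw [Subgroup.mul_normal] at ha'
    obtain ⟨h, hh, k, hk, rfl⟩ := Set.mem_mul.mp ha'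
    obtain ⟨i, -, rfl⟩ := exists_pow_lt_of_mem_zpowers hh
    exact ⟨i, k, hk, rfl⟩
  have hWexp : ∀ a ∈ Subgroup.zpowers t ⊔ Subgroup.zpowers (zz p n u), a ^ p = 1 := by
    intro a ha
    obtain ⟨i, k, hk, rfl⟩ := hWmem a ha
    have h1 : Commute (t ^ i) k := S.central_of_mem_zz hG hn hk (t ^ i)
    rw [h1.mul_pow, ← pow_mul, mul_comm i p, pow_mul, htp, one_pow, one_mul,
      S.pow_p_of_mem_zz hn hk]
  have hWcomm : ∀ a ∈ Subgroup.zpowers t ⊔ Subgroup.zpowers (zz p n u),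
      ∀ b ∈ Subgroup.zpowers t ⊔ Subgroup.zpowers (zz p n u), a * b = b * a := by
    intro a ha b hb
    obtain ⟨i, k, hk, rfl⟩ := hWmem a ha
    obtain ⟨i', k', hk', rfl⟩ := hWmem b hb
    have hk_all : ∀ x : G, Commute k x := fun x => (S.central_of_mem_zz hG hn hk x).symm
    have hk'_all : ∀ x : G, Commute x k' := fun x => S.central_of_mem_zz hG hn hk' x
    have h1 : Commute (t ^ i) (t ^ i') := Commute.pow_pow_self t i i'
    exact ((h1.mul_right (hk'_all _)).mul_left (hk_all _)).eq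
  have hWM : ∀ a ∈ Subgroup.zpowers t ⊔ Subgroup.zpowers (zz p n u), a * u ^ p = u ^ p * a := by
    intro a ha
    obtain ⟨i, k, hk, rfl⟩ := hWmem a ha
    exact mul_mem_M (pow_mem_M htM i) (S.central_of_mem_zz hG hn hk (u ^ p)).symm
  have hWconj : ∀ a ∈ Subgroup.zpowers t ⊔ Subgroup.zpowers (zz p n u), ∀ b : G,
      b * a * b⁻¹ ∈ Subgroup.zpowers t ⊔ Subgroup.zpowers (zz p n u) := by
    intro a ha b
    apply S.mem_W hG hn hpn htM htU htp (S.conj_mem_M (hWM a ha) b)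
    rw [conj_pow, hWexp a ha, mul_one, mul_inv_cancel]
  refine ⟨?_, ?_, ?_⟩
  · rw [hΩ]
    exact ⟨⟨⟨fun a b => Subtype.ext (hWcomm a.1 a.2 b.1 b.2)⟩⟩, hWexp⟩
  · rw [hΩ]
    have ht1 : t ≠ 1 := fun h => htU (h ▸ one_mem _)
    have hordt : orderOf t = p := orderOf_eq_prime htp ht1
    have hle : Nat.card (Subgroup.zpowers t ⊔ Subgroup.zpowers (zz p n u) : Subgroup G) ≤ p * p := by
      have h1 := Cfsg.Agent.S4023.card_sup_le (Subgroup.zpowers t) (Subgroup.zpowers (zz p n u))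
        (Subgroup.mul_normal _ _)
      rwa [Nat.card_zpowers, Nat.card_zpowers, hordt, S.orderOf_zz hn] at h1
    have hlt : Subgroup.zpowers (zz p n u) < Subgroup.zpowers t ⊔ Subgroup.zpowers (zz p n u) := by
      refine lt_of_le_of_ne le_sup_right ?_
      intro h
      apply htU
      have h1 : t ∈ Subgroup.zpowers t ⊔ Subgroup.zpowers (zz p n u) :=
        Subgroup.mem_sup_left (Subgroup.mem_zpowers t)
      rw [← h] at h1
      exact (Subgroup.zpowers_le.mpr zz_mem) h1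
    have hge := Cfsg.Agent.S4023.pgroup_card_lt hG hlt
    rw [Nat.card_zpowers, S.orderOf_zz hn] at hge
    rw [pow_two]
    exact le_antisymm hle hge
  · rw [Subgroup.characteristic_iff_le_comap]
    intro ϕ x hx
    rw [Subgroup.mem_comap]
    show ϕ x ∈ Cfsg.omegaOne p M
    have hxW : x ∈ Subgroup.zpowers t ⊔ Subgroup.zpowers (zz p n u) := hΩ ▸ hx
    have hXp : (ϕ x) ^ p = 1 := by rw [← map_pow, hWexp x hxW, map_one]
    -- c = u X u⁻¹ X⁻¹
    have hc0 : ϕ.symm u * x * (ϕ.symm u)⁻¹ * x⁻¹ ∈ Subgroup.zpowers t ⊔ Subgroup.zpowers (zz p n u) :=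
      mul_mem (hWconj x hxW _) (inv_mem hxW)
    have hcp : (u * ϕ x * u⁻¹ * (ϕ x)⁻¹) ^ p = 1 := by
      have h1 : u * ϕ x * u⁻¹ * (ϕ x)⁻¹ = ϕ (ϕ.symm u * x * (ϕ.symm u)⁻¹ * x⁻¹) := by
        simp only [map_mul, map_inv, MulEquiv.apply_symm_apply]
      rw [h1, ← map_pow, hWexp _ hc0, map_one]
    have hcU : u * ϕ x * u⁻¹ * (ϕ x)⁻¹ ∈ Subgroup.zpowers u := by
      have h1 : u * ϕ x * u⁻¹ * (ϕ x)⁻¹ = u * (ϕ x * u⁻¹ * (ϕ x)⁻¹) := by group
      rw [h1]
      exact mul_mem (Subgroup.mem_zpowers u) (S.conj_mem _ (inv_mem (Subgroup.mem_zpowers u)))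
    have hcz := S.mem_zpowers_zz hn hcU hcp
    have hww : ww u (ϕ x) = (u * ϕ x * u⁻¹ * (ϕ x)⁻¹)⁻¹ := by unfold ww; group
    have hwwz : ww u (ϕ x) ∈ Subgroup.zpowers (zz p n u) := by rw [hww]; exact inv_mem hcz
    have hcen : ∀ y : G, y * ww u (ϕ x) = ww u (ϕ x) * y := S.central_of_mem_zz hG hn hwwz
    have hXM : ϕ x * u ^ p = u ^ p * ϕ x := by
      have h1 := conj_pow_u hcen p
      rw [S.pow_p_of_mem_zz hn hwwz, one_mul] at h1
      exact mul_inv_eq_iff_eq_mul.mp h1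
    exact Subgroup.subset_closure ⟨(hM _).mpr hXM, hXp⟩

end Setting

end Cfsg.Agent.helper17.CSC
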