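import Mathlib
import Cfsg.Prelude.Def_CaseTheorems
import Cfsg.Agent.Lib_helper17_CycSelfCent
import Cfsg.Agent.Lib_helper11_DihPres
import Cfsg.Agent.Lib_helper11_QuatPres

set_option autoImplicit false

/-!
# p-groups with a cyclic normal self-centralizing subgroup: the case `C(U^p) = U`
-/

namespace Cfsg.Agent.helper17.CSC

open Cfsg.Agent.helper17.Ded

variable {G : Type*} [Group G] {p n : ℕ} {u : G}

theorem tri_succ (k : ℕ) : tri (k + 1) = tri k + k := Finset.sum_range_succ _ _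

theorem ac_lemma {M : Type*} [Monoid M] (v y f : M) (hvy : Commute v y) (hf : ∀ x : M, Commute f x)
    (k T : ℕ) : y * v * (f * y) ^ k * f ^ T = v * y ^ (k + 1) * f ^ (T + k) := by
  calc y * v * (f * y) ^ k * f ^ T
      = y * v * (f ^ k * y ^ k) * f ^ T := by rw [(hf y).mul_pow]
    _ = v * y * (f ^ k * y ^ k) * f ^ T := by rw [← hvy.eq]
    _ = v * (y * f ^ k) * y ^ k * f ^ T := by simp only [mul_assoc]
    _ = v * (f ^ k * y) * y ^ k * f ^ T := by rw [← ((hf y).pow_left k).eq]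
    _ = v * f ^ k * (y * y ^ k) * f ^ T := by simp only [mul_assoc]
    _ = v * f ^ k * y ^ (k + 1) * f ^ T := by rw [← pow_succ']
    _ = v * (f ^ k * y ^ (k + 1)) * f ^ T := by simp only [mul_assoc]
    _ = v * (y ^ (k + 1) * f ^ k) * f ^ T := by rw [((hf (y ^ (k + 1))).pow_left k).eq]
    _ = v * y ^ (k + 1) * (f ^ k * f ^ T) := by simp only [mul_assoc]
    _ = v * y ^ (k + 1) * f ^ (T + k) := by rw [← pow_add, add_comm k T]

theorem iter_conj {g v y f : G} (hv : g * v * g⁻¹ = y * v) (hy : g * y * g⁻¹ = f * y)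
    (hf : ∀ x : G, Commute f x) (hvy : Commute v y) (k : ℕ) :
    g ^ k * v * (g ^ k)⁻¹ = v * y ^ k * f ^ tri k := by
  induction k with
  | zero => simp [tri]
  | succ k ih =>
    have hfg : g * f * g⁻¹ = f := by rw [← (hf g).eq, mul_inv_cancel_right]
    calc g ^ (k + 1) * v * (g ^ (k + 1))⁻¹ = g * (g ^ k * v * (g ^ k)⁻¹) * g⁻¹ := by
          rw [pow_succ', mul_inv_rev]; simp only [mul_assoc]
      _ = g * (v * y ^ k * f ^ tri k) * g⁻¹ := by rw [ih]
      _ = (g * v * g⁻¹) * (g * y * g⁻¹) ^ k * (g * f * g⁻¹) ^ tri k := by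
          rw [← conj_mul, ← conj_mul, conj_pow, conj_pow]
      _ = y * v * (f * y) ^ k * f ^ tri k := by rw [hv, hy, hfg]
      _ = v * y ^ (k + 1) * f ^ (tri k + k) := ac_lemma v y f hvy hf k (tri k)
      _ = v * y ^ (k + 1) * f ^ tri (k + 1) := by rw [tri_succ]

namespace Setting

variable [Finite G]

/-- elements of `⟨z⟩` when `p = 2` -/
theorem eq_one_or_zz (S : Setting 2 n u) (hn : 1 ≤ n) {c : G}
    (hc : c ∈ Subgroup.zpowers (zz 2 n u)) : c = 1 ∨ c = zz 2 n u := by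
  obtain ⟨k, hk, hkz⟩ := exists_pow_lt_of_mem_zpowers hc
  rw [S.orderOf_zz hn] at hk
  interval_cases k
  · left; rw [← hkz, pow_zero]
  · right; rw [← hkz, pow_one]

theorem caseB [hp : Fact p.Prime] (S : Setting p n u) (hG : IsPGroup p G)
    (hMU : ∀ g : G, g * u ^ p = u ^ p * g → g ∈ Subgroup.zpowers u)
    (hne : ∃ g : G, g ∉ Subgroup.zpowers u) :
    p = 2 ∧ 3 ≤ n ∧
      ∀ g : G, g * u ^ (2 ^ (n - 2)) = u ^ (2 ^ (n - 2)) * g → g ∈ Subgroup.zpowers u := by
  classical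
  obtain ⟨g0, hg0⟩ := hne
  have hn1 : 1 ≤ n := by
    by_contra h
    have h0 : n = 0 := by omega
    have h1 := S.ord
    rw [h0, pow_zero, orderOf_eq_one_iff] at h1
    apply hg0
    apply S.cent
    rw [h1, mul_one, one_mul]
  have hzc := S.zz_central hG hn1
  have hn3 : 3 ≤ n := by
    by_contra h
    have h12 : n = 1 ∨ n = 2 := by omega
    rcases h12 with h1 | h2
    · apply hg0
      apply S.cent
      have h3 := hzc g0
      unfold zz at h3
      rw [h1] at h3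
      simpa using h3
    · apply hg0
      apply hMU
      have h3 := hzc g0
      unfold zz at h3
      rw [h2] at h3
      simpa using h3
  have hP : ∃ i, ∃ g : G, g * u ^ (p ^ i) = u ^ (p ^ i) * g ∧ g ∉ Subgroup.zpowers u :=
    ⟨n - 1, g0, hzc g0, hg0⟩
  obtain ⟨i0, ⟨g, hgi, hgU⟩, hmin'⟩ : ∃ i0,
      (∃ g : G, g * u ^ (p ^ i0) = u ^ (p ^ i0) * g ∧ g ∉ Subgroup.zpowers u) ∧
      ∀ j < i0, ¬ ∃ g : G, g * u ^ (p ^ j) = u ^ (p ^ j) * g ∧ g ∉ Subgroup.zpowers u :=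
    ⟨Nat.find hP, Nat.find_spec hP, fun j hj => Nat.find_min hP hj⟩
  have hmin : ∀ j < i0, ∀ g' : G, g' * u ^ (p ^ j) = u ^ (p ^ j) * g' →
      g' ∈ Subgroup.zpowers u := by
    intro j hj g' hg'
    by_contra hcon
    exact hmin' j hj ⟨g', hg', hcon⟩
  have hi0_le : i0 ≤ n - 1 := by
    by_contra h
    exact hmin' (n - 1) (by omega) ⟨g0, hzc g0, hg0⟩
  have hi0_ge : 2 ≤ i0 := by
    by_contra h
    have h01 : i0 = 0 ∨ i0 = 1 := by omega
    rcases h01 with h0 | h1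
    · rw [h0, pow_zero, pow_one] at hgi; exact hgU (S.cent g hgi)
    · rw [h1, pow_one] at hgi; exact hgU (hMU g hgi)
  obtain ⟨v', hv'⟩ : ∃ v', v' = u ^ (p ^ (i0 - 2)) := ⟨_, rfl⟩
  obtain ⟨v, hv⟩ : ∃ v, v = u ^ (p ^ (i0 - 1)) := ⟨_, rfl⟩
  have hv'U : v' ∈ Subgroup.zpowers u := by rw [hv']; exact Subgroup.npow_mem_zpowers u _
  have hvU : v ∈ Subgroup.zpowers u := by rw [hv]; exact Subgroup.npow_mem_zpowers u _
  have hv'p : v' ^ p = v := by
    rw [hv', hv, ← pow_mul, ← pow_succ]; congr 2; omega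
  have hvp : v ^ p = u ^ (p ^ i0) := by
    rw [hv, ← pow_mul, ← pow_succ]; congr 2; omega
  have hgv : ¬ (g * v = v * g) := by
    intro h
    rw [hv] at h
    exact hgU (hmin (i0 - 1) (by omega) g h)
  -- d = ww v g
  have hdU : ww v g ∈ Subgroup.zpowers u :=
    mul_mem (S.conj_mem g hvU) (inv_mem hvU)
  have hdp : ww v g ^ p = 1 := by
    have h1 : Commute (g * v * g⁻¹) v⁻¹ := comm_of_mem (S.conj_mem g hvU) (inv_mem hvU)
    unfold ww
    rw [h1.mul_pow, conj_pow, inv_pow, hvp, hgi, mul_inv_cancel_right, mul_inv_cancel]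
  have hdz := S.mem_zpowers_zz hn1 hdU hdp
  have hdc : ∀ x : G, x * ww v g = ww v g * x := S.central_of_mem_zz hG hn1 hdz
  have hd1 : ww v g ≠ 1 := by
    intro h
    apply hgv
    have h1 : g * v * g⁻¹ = ww v g * v := conj_eq g
    rw [h, one_mul] at h1
    exact mul_inv_eq_iff_eq_mul.mp h1
  -- y = ww v' g
  have hyU : ww v' g ∈ Subgroup.zpowers u :=
    mul_mem (S.conj_mem g hv'U) (inv_mem hv'U)
  have hyp : ww v' g ^ p = ww v g := by
    have h1 : Commute (g * v' * g⁻¹) v'⁻¹ := comm_of_mem (S.conj_mem g hv'U) (inv_mem hv'U)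
    unfold ww
    rw [h1.mul_pow, conj_pow, inv_pow, hv'p]
  -- f = ww y g
  have hfU : ww (ww v' g) g ∈ Subgroup.zpowers u :=
    mul_mem (S.conj_mem g hyU) (inv_mem hyU)
  have hfp : ww (ww v' g) g ^ p = 1 := by
    have h1 : Commute (g * ww v' g * g⁻¹) (ww v' g)⁻¹ :=
      comm_of_mem (S.conj_mem g hyU) (inv_mem hyU)
    have h2 : ww (ww v' g) g = g * ww v' g * g⁻¹ * (ww v' g)⁻¹ := rfl
    rw [h2, h1.mul_pow, conj_pow, inv_pow, hyp, hdc g, mul_inv_cancel_right, mul_inv_cancel]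
  have hfz := S.mem_zpowers_zz hn1 hfU hfp
  have hfc : ∀ x : G, Commute (ww (ww v' g) g) x := fun x =>
    (S.central_of_mem_zz hG hn1 hfz x).symm
  have hform := iter_conj (g := g) (v := v') (y := ww v' g) (f := ww (ww v' g) g)
    (conj_eq g) (conj_eq g) hfc (comm_of_mem hv'U hyU) p
  rw [hyp] at hform
  -- g^p commutes with v
  have hgpv : g ^ p * v = v * g ^ p := by
    have h1 : ww v (g ^ p) = 1 := by rw [ww_pow hdc, hdp]
    have h2 : g ^ p * v * (g ^ p)⁻¹ = ww v (g ^ p) * v := conj_eq (g ^ p)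
    rw [h1, one_mul] at h2
    exact mul_inv_eq_iff_eq_mul.mp h2
  have hgpU : g ^ p ∈ Subgroup.zpowers u := by
    rw [hv] at hgpv
    exact hmin (i0 - 1) (by omega) (g ^ p) hgpv
  have hgpv' : g ^ p * v' * (g ^ p)⁻¹ = v' := by
    rw [comm_of_mem hgpU hv'U, mul_inv_cancel_right]
  rw [hgpv'] at hform
  have hdf : ww v g * ww (ww v' g) g ^ tri p = 1 := by
    have h1 : v' * 1 = v' * (ww v g * ww (ww v' g) g ^ tri p) := by
      rw [mul_one, ← mul_assoc]; exact hform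
    exact (mul_left_cancel h1).symm
  have hp2 : p = 2 := by
    by_contra hp2
    obtain ⟨m, hm⟩ := tri_prime_odd hp.out hp2
    rw [hm, pow_mul, hfp, one_pow, mul_one] at hdf
    exact hd1 hdf
  subst hp2
  refine ⟨rfl, hn3, ?_⟩
  rw [tri_two, pow_one] at hdf
  have hf1 : ww (ww v' g) g ≠ 1 := by
    intro h
    rw [h, mul_one] at hdf
    exact hd1 hdf
  -- g does not commute with y
  have hgy : ¬ (g * ww v' g = ww v' g * g) := by
    intro h
    apply hf1
    have h1 : g * ww v' g * g⁻¹ = ww (ww v' g) g * ww v' g := conj_eq g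
    rw [h, mul_inv_cancel_right] at h1
    have h2 : 1 * ww v' g = ww (ww v' g) g * ww v' g := by rw [one_mul]; exact h1
    exact (mul_right_cancel h2).symm
  -- y^4 = 1
  have hy4 : ww v' g ^ 4 = 1 := by
    rw [show 4 = 2 * 2 by norm_num, pow_mul, hyp, hdp]
  -- y is a power of u^(2^(n-2))
  obtain ⟨b, -, hb⟩ := exists_pow_lt_of_mem_zpowers hyU
  have hb4 : 2 ^ (n - 2) ∣ b := by
    have h1 : u ^ (b * 4) = 1 := by rw [pow_mul, hb, hy4]
    have h2 := orderOf_dvd_of_pow_eq_one h1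
    rw [S.ord, show 2 ^ n = 2 ^ (n - 2) * 4 by
      rw [show (4 : ℕ) = 2 ^ 2 by norm_num, ← pow_add]; congr 1; omega] at h2
    exact Nat.dvd_of_mul_dvd_mul_right (by norm_num) h2
  obtain ⟨b', hb'⟩ := hb4
  have hi0 : i0 = n - 1 := by
    by_contra hne'
    have hlt : i0 ≤ n - 2 := by omega
    apply hgy
    have h1 : Commute g (u ^ (2 ^ i0)) := hgi
    have h2 : u ^ (2 ^ (n - 2)) = (u ^ (2 ^ i0)) ^ (2 ^ (n - 2 - i0)) := by
      rw [← pow_mul, ← pow_add]; congr 2; omega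
    have h3 : Commute g (u ^ (2 ^ (n - 2))) := by rw [h2]; exact h1.pow_right _
    have h4 : Commute g (ww v' g) := by
      rw [← hb, hb', pow_mul]; exact h3.pow_right _
    exact h4.eq
  intro g' hg'
  exact hmin (n - 2) (by omega) g' hg'

end Setting

end Cfsg.Agent.helper17.CSC
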