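import Mathlib
import Cfsg.Prelude.Def_CaseTheorems
import Cfsg.Agent.Lib_helper17_CycSelfCentB

set_option autoImplicit false

/-!
# p-groups with a cyclic normal self-centralizing subgroup: dihedral, quaternion, semidihedral
-/

namespace Cfsg.Agent.helper17.CSC

open Cfsg.Agent.helper17.Ded

variable {G : Type*} [Group G] {n : ℕ} {u : G}

namespace Setting

variable [Finite G]

theorem caseB_final (S : Setting 2 n u) (hG : IsPGroup 2 G) (hn2 : 2 ≤ n)
    (hy0 : ∀ g : G, g * u ^ (2 ^ (n - 2)) = u ^ (2 ^ (n - 2)) * g → g ∈ Subgroup.zpowers u)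
    (hne : ∃ g : G, g ∉ Subgroup.zpowers u) :
    Nat.card G = 2 ^ (n + 1) ∧ ((∃ m : ℕ, Nonempty (G ≃* DihedralGroup m)) ∨
      (∃ m : ℕ, Nonempty (G ≃* QuaternionGroup m)) ∨ Cfsg.IsQuasiDihedral G) := by
  have hn1 : 1 ≤ n := by omega
  obtain ⟨y0, hy0def⟩ : ∃ y0, y0 = u ^ (2 ^ (n - 2)) := ⟨_, rfl⟩
  rw [← hy0def] at hy0
  have hy0U : y0 ∈ Subgroup.zpowers u := by rw [hy0def]; exact Subgroup.npow_mem_zpowers u _
  have hzc := S.zz_central hG hn1
  have hz2 : zz 2 n u ^ 2 = 1 := S.zz_pow hn1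
  have hz1 : zz 2 n u ≠ 1 := S.zz_ne_one hn1
  have hy0sq : y0 ^ 2 = zz 2 n u := by
    rw [hy0def, ← pow_mul, ← pow_succ]; unfold zz; congr 2; omega
  have hy04 : y0 ^ 4 = 1 := by
    rw [show 4 = 2 * 2 by norm_num, pow_mul, hy0sq, hz2]
  have hy0ord : orderOf y0 = 4 := by
    have h1 := orderOf_eq_prime_pow (p := 2) (n := 1) (x := y0)
      (by rw [pow_one, hy0sq]; exact hz1) (by norm_num; exact hy04)
    rw [h1]; norm_num
  have hy03 : y0 ^ 3 = y0⁻¹ := eq_inv_of_mul_eq_one_left (by rw [← pow_succ, hy04])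
  have mem4 : ∀ x ∈ Subgroup.zpowers u, x ^ 4 = 1 → x ∈ Subgroup.zpowers y0 := by
    intro x hx hx4
    obtain ⟨b, -, hb⟩ := exists_pow_lt_of_mem_zpowers hx
    have h1 : u ^ (b * 4) = 1 := by rw [pow_mul, hb, hx4]
    have h2 := orderOf_dvd_of_pow_eq_one h1
    rw [S.ord, show 2 ^ n = 2 ^ (n - 2) * 4 by
      rw [show (4 : ℕ) = 2 ^ 2 by norm_num, ← pow_add]; congr 1; omega] at h2
    obtain ⟨b', hb'⟩ := Nat.dvd_of_mul_dvd_mul_right (by norm_num) h2
    rw [← hb, hb', pow_mul, ← hy0def]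
    exact Subgroup.npow_mem_zpowers _ _
  have F1 : ∀ g : G, g ∉ Subgroup.zpowers u → g * y0 * g⁻¹ = y0⁻¹ := by
    intro g hg
    have hxU : g * y0 * g⁻¹ ∈ Subgroup.zpowers u := S.conj_mem g hy0U
    have hx4 : (g * y0 * g⁻¹) ^ 4 = 1 := by rw [conj_pow, hy04, mul_one, mul_inv_cancel]
    obtain ⟨j, hj, hjx⟩ := exists_pow_lt_of_mem_zpowers (mem4 _ hxU hx4)
    rw [hy0ord] at hj
    interval_cases j
    · exfalso
      rw [pow_zero] at hjx
      have h1 : y0 = 1 := conj_eq_one_iff.mp hjx.symm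
      apply hz1; rw [← hy0sq, h1, one_pow]
    · exfalso
      rw [pow_one] at hjx
      exact hg (hy0 g (mul_inv_eq_iff_eq_mul.mp hjx.symm))
    · exfalso
      rw [hy0sq] at hjx
      have h1 : g * y0 = zz 2 n u * g := mul_inv_eq_iff_eq_mul.mp hjx.symm
      rw [← hzc g] at h1
      have h2 : y0 = zz 2 n u := mul_left_cancel h1
      apply hz1; rw [← hy0sq, h2, hz2]
    · rw [← hjx, hy03]
  have F2 : ∀ g h : G, g ∉ Subgroup.zpowers u → h ∉ Subgroup.zpowers u →
      g * h ∈ Subgroup.zpowers u := by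
    intro g h hg hh
    apply hy0
    have h1 : (g * h) * y0 * (g * h)⁻¹ = y0 := by
      calc (g * h) * y0 * (g * h)⁻¹ = g * (h * y0 * h⁻¹) * g⁻¹ := by group
        _ = g * y0⁻¹ * g⁻¹ := by rw [F1 h hh]
        _ = (g * y0 * g⁻¹)⁻¹ := by group
        _ = y0 := by rw [F1 g hg, inv_inv]
    exact mul_inv_eq_iff_eq_mul.mp h1
  obtain ⟨g, hg⟩ := hne
  have hcard : Nat.card G = 2 ^ (n + 1) := by
    have hidx : (Subgroup.zpowers u).index = 2 := by
      rw [Subgroup.index_eq_two_iff]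
      refine ⟨g, fun b => ?_⟩
      by_cases hb : b ∈ Subgroup.zpowers u
      · refine Or.inr ⟨hb, fun hbg => hg ?_⟩
        have h1 : g = b⁻¹ * (b * g) := by rw [inv_mul_cancel_left]
        rw [h1]; exact mul_mem (inv_mem hb) hbg
      · exact Or.inl ⟨F2 b g hb hg, hb⟩
    have h1 := (Subgroup.zpowers u).card_mul_index
    rw [hidx, Nat.card_zpowers, S.ord] at h1
    rw [← h1, pow_succ]
  refine ⟨hcard, ?_⟩
  have F4 : ∀ x ∈ Subgroup.zpowers u, g * x = x * g → x ∈ Subgroup.zpowers (zz 2 n u) := by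
    intro x hx hgx
    by_contra hcon
    have hx2 : x ^ 2 ≠ 1 := fun h => hcon (S.mem_zpowers_zz hn1 hx h)
    obtain ⟨k, hk⟩ : ∃ k, orderOf x = 2 ^ k := by
      have h1 : x ^ (2 ^ n) = 1 := by
        obtain ⟨b, -, hb⟩ := exists_pow_lt_of_mem_zpowers hx
        rw [← hb, ← pow_mul, mul_comm, pow_mul, ← S.ord, pow_orderOf_eq_one, one_pow]
      obtain ⟨m, -, hm⟩ := (Nat.dvd_prime_pow Nat.prime_two).mp (orderOf_dvd_of_pow_eq_one h1)
      exact ⟨m, hm⟩
    have hk2 : 2 ≤ k := by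
      by_contra h
      have h01 : k = 0 ∨ k = 1 := by omega
      apply hx2
      rcases h01 with h0 | h1
      · rw [h0, pow_zero, orderOf_eq_one_iff] at hk; rw [hk, one_pow]
      · rw [h1, pow_one] at hk; rw [← hk]; exact pow_orderOf_eq_one x
    have hx'4 : (x ^ (2 ^ (k - 2))) ^ 4 = 1 := by
      rw [← pow_mul, show 2 ^ (k - 2) * 4 = 2 ^ k by
        rw [show (4 : ℕ) = 2 ^ 2 by norm_num, ← pow_add]; congr 1; omega, ← hk]
      exact pow_orderOf_eq_one x
    have hx'2 : (x ^ (2 ^ (k - 2))) ^ 2 ≠ 1 := by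
      rw [← pow_mul, show 2 ^ (k - 2) * 2 = 2 ^ (k - 1) by
        rw [← pow_succ]; congr 1; omega]
      intro h
      have h1 := orderOf_dvd_of_pow_eq_one h
      rw [hk] at h1
      have h2 := Nat.le_of_dvd (pow_pos (by norm_num) _) h1
      have h3 : 2 ^ (k - 1) < 2 ^ k := Nat.pow_lt_pow_right (by norm_num) (by omega)
      omega
    have hx'g : Commute g (x ^ (2 ^ (k - 2))) := (show Commute g x from hgx).pow_right _
    obtain ⟨j, hj, hjx⟩ := exists_pow_lt_of_mem_zpowers (mem4 _ (pow_mem hx _) hx'4)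
    rw [hy0ord] at hj
    interval_cases j
    · apply hx'2; rw [← hjx, pow_zero, one_pow]
    · rw [pow_one] at hjx
      rw [← hjx] at hx'g
      exact hg (hy0 g hx'g.eq)
    · apply hx'2; rw [← hjx, hy0sq, hz2]
    · rw [← hjx, hy03] at hx'g
      exact hg (hy0 g (Commute.inv_right_iff.mp hx'g).eq)
  have hggU : g * g ∈ Subgroup.zpowers u := F2 g g hg hg
  have hcU : g * u * g⁻¹ * u ∈ Subgroup.zpowers u :=
    mul_mem (S.conj_mem g (Subgroup.mem_zpowers u)) (Subgroup.mem_zpowers u)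
  have hgc : g * (g * u * g⁻¹ * u) = (g * u * g⁻¹ * u) * g := by
    have h1 : (g * g) * u * (g * g)⁻¹ = u := by
      rw [comm_of_mem hggU (Subgroup.mem_zpowers u), mul_inv_cancel_right]
    have h2 : g * (g * u * g⁻¹ * u) * g⁻¹ = (g * g) * u * (g * g)⁻¹ * (g * u * g⁻¹) := by group
    rw [h1, comm_of_mem (Subgroup.mem_zpowers u) (S.conj_mem g (Subgroup.mem_zpowers u))] at h2
    exact mul_inv_eq_iff_eq_mul.mp h2
  have hcz := F4 _ hcU hgc
  have hggz := F4 _ hggU (by rw [mul_assoc])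
  have hx : u ^ (2 ^ n) = 1 := by rw [← S.ord]; exact pow_orderOf_eq_one u
  rcases S.eq_one_or_zz hn1 hcz with hc | hc
  · -- g u g⁻¹ = u⁻¹
    have hconj : g * u * g⁻¹ = u⁻¹ := eq_inv_of_mul_eq_one_left hc
    rcases S.eq_one_or_zz hn1 hggz with hgg | hgg
    · -- dihedral
      left
      haveI : NeZero (2 ^ n) := ⟨(pow_pos (by norm_num) n).ne'⟩
      have hinj := Cfsg.Agent.helper11.DihPres.dihHom_injective (n := 2 ^ n) hx S.ord hgg hconj hg
      have hbij := hinj.bijective_of_nat_card_le (by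
        rw [DihedralGroup.nat_card, hcard, pow_succ, mul_comm])
      exact ⟨2 ^ n, ⟨(MulEquiv.ofBijective _ hbij).symm⟩⟩
    · -- quaternion
      right; left
      haveI : NeZero (2 ^ (n - 1)) := ⟨(pow_pos (by norm_num) _).ne'⟩
      have hord : orderOf u = 2 * 2 ^ (n - 1) := by
        rw [S.ord, ← pow_succ']; congr 1; omega
      have hy : g ^ 2 = u ^ (2 ^ (n - 1)) := by rw [pow_two, hgg]; rfl
      have hle : 2 ≤ 2 ^ (n - 1) := by
        calc 2 = 2 ^ 1 := by norm_num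
          _ ≤ 2 ^ (n - 1) := Nat.pow_le_pow_right (by norm_num) (by omega)
      have hinj := Cfsg.Agent.helper11.QuatPres.quatHom_injective (n := 2 ^ (n - 1)) hle hord hy hconj
      have hbij := hinj.bijective_of_nat_card_le (by
        rw [Nat.card_eq_fintype_card (α := QuaternionGroup (2 ^ (n - 1))), QuaternionGroup.card,
          hcard, show (4 : ℕ) = 2 ^ 2 by norm_num, ← pow_add]
        exact Nat.pow_le_pow_right (by norm_num) (by omega))
      exact ⟨2 ^ (n - 1), ⟨(MulEquiv.ofBijective _ hbij).symm⟩⟩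
  · -- g u g⁻¹ = z u⁻¹
    right; right
    have hconj : g * u * g⁻¹ = zz 2 n u * u⁻¹ := eq_mul_inv_of_mul_eq hc
    have hn3 : 3 ≤ n := by
      by_contra h
      have hn2' : n = 2 := by omega
      apply hg
      apply S.cent
      have h1 : zz 2 n u * u⁻¹ = u := by
        unfold zz
        rw [hn2']
        norm_num
        rw [pow_two, mul_inv_cancel_right]
      rw [h1] at hconj
      exact mul_inv_eq_iff_eq_mul.mp hconj
    have hpow : u ^ (2 ^ (n - 1) - 1) = zz 2 n u * u⁻¹ := by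
      apply eq_mul_inv_of_mul_eq
      rw [← pow_succ, Nat.sub_add_cancel (Nat.one_le_two_pow)]
      rfl
    rcases S.eq_one_or_zz hn1 hggz with hgg | hgg
    · refine ⟨n, hn3, hcard, u, g, S.ord, ?_, by rw [hconj, hpow]⟩
      have hg1 : g ≠ 1 := fun h => hg (h ▸ one_mem _)
      exact orderOf_eq_prime (by rw [pow_two]; exact hgg) hg1
    · have hgu2 : (g * u) ^ 2 = 1 := by
        have h1 : (g * u) ^ 2 = (g * u * g⁻¹) * (g * g) * u := by rw [pow_two]; group
        rw [h1, hconj, hgg]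
        have h2 : zz 2 n u * u⁻¹ * zz 2 n u * u = zz 2 n u * (u⁻¹ * zz 2 n u) * u := by
          simp only [mul_assoc]
        rw [h2, hzc u⁻¹, ← mul_assoc, ← pow_two, hz2, one_mul, inv_mul_cancel]
      have hgu1 : g * u ≠ 1 := by
        intro h
        apply hg
        have h1 : g = u⁻¹ := eq_inv_of_mul_eq_one_left h
        rw [h1]; exact inv_mem (Subgroup.mem_zpowers u)
      refine ⟨n, hn3, hcard, u, g * u, S.ord, orderOf_eq_prime hgu2 hgu1, ?_⟩
      have h1 : g * u * u * (g * u)⁻¹ = g * u * g⁻¹ := by group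
      rw [h1, hconj, hpow]

end Setting

end Cfsg.Agent.helper17.CSC
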