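import Mathlib

set_option autoImplicit false
open scoped commutatorElement

namespace Cfsg.Agent.helper17.E4

variable {K : Type*} [Group K]

/-- The 2-Engel condition: every element commutes with all its conjugates. -/
def Engel2 (K : Type*) [Group K] : Prop := ∀ x g : K, Commute x (g * x * g⁻¹)

theorem comm_of_closure {S : Set K} (hS : ∀ a ∈ S, ∀ b ∈ S, a * b = b * a) :
    ∀ a ∈ Subgroup.closure S, ∀ b ∈ Subgroup.closure S, a * b = b * a := by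
  have h1 : Subgroup.closure S ≤ Subgroup.centralizer S := by
    rw [Subgroup.closure_le]
    intro a ha
    rw [SetLike.mem_coe, Subgroup.mem_centralizer_iff]
    intro b hb
    exact hS b hb a ha
  have h2 : Subgroup.closure S ≤ Subgroup.centralizer (Subgroup.closure S : Set K) := by
    rw [Subgroup.closure_le]
    intro a ha
    rw [SetLike.mem_coe, Subgroup.mem_centralizer_iff]
    intro b hb
    have := h1 hb
    rw [Subgroup.mem_centralizer_iff] at this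
    exact (this a ha).symm
  intro a ha b hb
  have := h2 ha
  rw [Subgroup.mem_centralizer_iff] at this
  exact (this b hb).symm

/-- the normal closure of `x` -/
def nc (x : K) : Subgroup K := Subgroup.normalClosure ({x} : Set K)

theorem self_mem_nc (x : K) : x ∈ nc x :=
  Subgroup.subset_normalClosure (Set.mem_singleton x)

theorem conj_mem_nc (x : K) {a : K} (ha : a ∈ nc x) (g : K) : g * a * g⁻¹ ∈ nc x :=
  (Subgroup.normalClosure_normal (s := ({x} : Set K))).conj_mem a ha g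

theorem Engel2.nc_comm (h : Engel2 K) (x : K) :
    ∀ a ∈ nc x, ∀ b ∈ nc x, a * b = b * a := by
  unfold nc Subgroup.normalClosure
  apply comm_of_closure
  intro a ha b hb
  rw [Group.mem_conjugatesOfSet_iff] at ha hb
  obtain ⟨x1, hx1, ha⟩ := ha
  obtain ⟨x2, hx2, hb⟩ := hb
  rw [Set.mem_singleton_iff] at hx1 hx2
  rw [hx1] at ha
  rw [hx2] at hb
  rw [isConj_iff] at ha hb
  obtain ⟨g, rfl⟩ := ha
  obtain ⟨k, rfl⟩ := hb
  have h1 := h x (g⁻¹ * k)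
  have h2 : g * x * g⁻¹ * (k * x * k⁻¹) = g * (x * (g⁻¹ * k * x * (g⁻¹ * k)⁻¹)) * g⁻¹ := by
    group
  have h3 : k * x * k⁻¹ * (g * x * g⁻¹) = g * ((g⁻¹ * k * x * (g⁻¹ * k)⁻¹) * x) * g⁻¹ := by
    group
  rw [h2, h3, h1.eq]

theorem comm_left_mem_nc (x g : K) : ⁅x, g⁆ ∈ nc x := by
  have e : ⁅x, g⁆ = x * (g * x * g⁻¹)⁻¹ := by
    rw [commutatorElement_def]; group
  rw [e]
  exact (nc x).mul_mem (self_mem_nc x) ((nc x).inv_mem (conj_mem_nc x (self_mem_nc x) g))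

theorem comm_right_mem_nc (x g : K) : ⁅g, x⁆ ∈ nc x := by
  have e : ⁅g, x⁆ = (g * x * g⁻¹) * x⁻¹ := by
    rw [commutatorElement_def]
  rw [e]
  exact (nc x).mul_mem (conj_mem_nc x (self_mem_nc x) g) ((nc x).inv_mem (self_mem_nc x))

theorem comm_mem_nc_of_mem (x : K) {a : K} (ha : a ∈ nc x) (g : K) : ⁅a, g⁆ ∈ nc x := by
  have e : ⁅a, g⁆ = a * (g * a * g⁻¹)⁻¹ := by
    rw [commutatorElement_def]; group
  rw [e]
  exact (nc x).mul_mem ha ((nc x).inv_mem (conj_mem_nc x ha g))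

/-- `T x y z = [[x,y],z]`. -/
def T (x y z : K) : K := ⁅⁅x, y⁆, z⁆

theorem T_mem1 (x y z : K) : T x y z ∈ nc x := comm_mem_nc_of_mem x (comm_left_mem_nc x y) z
theorem T_mem2 (x y z : K) : T x y z ∈ nc y := comm_mem_nc_of_mem y (comm_right_mem_nc y x) z
theorem T_mem3 (x y z : K) : T x y z ∈ nc z := comm_right_mem_nc z _

theorem Engel2.T_comm1 (h : Engel2 K) (x y z : K) : T x y z * x = x * T x y z :=
  h.nc_comm x _ (T_mem1 x y z) _ (self_mem_nc x)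
theorem Engel2.T_comm2 (h : Engel2 K) (x y z : K) : T x y z * y = y * T x y z :=
  h.nc_comm y _ (T_mem2 x y z) _ (self_mem_nc y)
theorem Engel2.T_comm3 (h : Engel2 K) (x y z : K) : T x y z * z = z * T x y z :=
  h.nc_comm z _ (T_mem3 x y z) _ (self_mem_nc z)

theorem Engel2.comm_inv_left (h : Engel2 K) (c z : K) : ⁅c⁻¹, z⁆ = ⁅c, z⁆⁻¹ := by
  have h1 : c⁻¹ * (z * c * z⁻¹) = (z * c * z⁻¹) * c⁻¹ := ((h c z).inv_left).eq
  rw [commutatorElement_def, commutatorElement_def]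
  calc c⁻¹ * z * c⁻¹⁻¹ * z⁻¹ = c⁻¹ * (z * c * z⁻¹) := by group
    _ = (z * c * z⁻¹) * c⁻¹ := h1
    _ = (c * z * c⁻¹ * z⁻¹)⁻¹ := by group

theorem Engel2.anti12 (h : Engel2 K) (x y z : K) : T y x z = (T x y z)⁻¹ := by
  unfold T
  rw [← commutatorElement_inv x y, h.comm_inv_left]

/-- `[x,g]` commutes with `g`. -/
theorem Engel2.comm_comm_right (h : Engel2 K) (x g : K) : ⁅x, g⁆ * g = g * ⁅x, g⁆ :=
  h.nc_comm g _ (comm_right_mem_nc g x) _ (self_mem_nc g)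

theorem Engel2.comm_comm_left (h : Engel2 K) (x g : K) : ⁅x, g⁆ * x = x * ⁅x, g⁆ :=
  h.nc_comm x _ (comm_left_mem_nc x g) _ (self_mem_nc x)

theorem Engel2.anti23 (h : Engel2 K) (x y z : K) : T x y z * T x z y = 1 := by
  set a := ⁅x, y⁆ with ha
  set b := ⁅x, z⁆ with hb
  set d1 := T x y z with hd1
  set d2 := T x z y with hd2
  have had1 : d1 = ⁅a, z⁆ := rfl
  have hbd2 : d2 = ⁅b, y⁆ := rfl
  -- memberships in nc x
  have ma : a ∈ nc x := comm_left_mem_nc x y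
  have mb : b ∈ nc x := comm_left_mem_nc x z
  have md1 : d1 ∈ nc x := T_mem1 x y z
  have md2 : d2 ∈ nc x := T_mem1 x z y
  have cx := h.nc_comm x
  -- E = [x, y z]
  have hE : ⁅x, y * z⁆ = a * d2⁻¹ * b := by
    have e1 : ⁅x, y * z⁆ = a * (y * b * y⁻¹) := by
      rw [ha, hb, commutatorElement_def, commutatorElement_def, commutatorElement_def]; group
    have e2 : y * b * y⁻¹ = d2⁻¹ * b := by
      rw [hbd2, commutatorElement_def]; group
    rw [e1, e2, mul_assoc]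
  have hEc : (y * z) * ⁅x, y * z⁆ * (y * z)⁻¹ = ⁅x, y * z⁆ := by
    have := h.comm_comm_right x (y * z)
    rw [← this]; group
  -- conjugation by z
  have hz_a : z * a * z⁻¹ = d1⁻¹ * a := by
    rw [had1, commutatorElement_def]; group
  have hz_d2 : z * d2⁻¹ * z⁻¹ = d2⁻¹ := by
    have := h.T_comm2 x z y
    rw [← hd2] at this
    calc z * d2⁻¹ * z⁻¹ = (z * d2 * z⁻¹)⁻¹ := by group
      _ = (d2 * z * z⁻¹)⁻¹ := by rw [this]
      _ = d2⁻¹ := by group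
  have hz_b : z * b * z⁻¹ = b := by
    have := h.comm_comm_right x z
    rw [← hb] at this
    rw [← this]; group
  have hy_d1 : y * d1⁻¹ * y⁻¹ = d1⁻¹ := by
    have := h.T_comm2 x y z
    rw [← hd1] at this
    calc y * d1⁻¹ * y⁻¹ = (y * d1 * y⁻¹)⁻¹ := by group
      _ = (d1 * y * y⁻¹)⁻¹ := by rw [this]
      _ = d1⁻¹ := by group
  have hy_a : y * a * y⁻¹ = a := by
    have := h.comm_comm_right x y
    rw [← ha] at this
    rw [← this]; group
  have hy_d2 : y * d2⁻¹ * y⁻¹ = d2⁻¹ := by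
    have := h.T_comm3 x z y
    rw [← hd2] at this
    calc y * d2⁻¹ * y⁻¹ = (y * d2 * y⁻¹)⁻¹ := by group
      _ = (d2 * y * y⁻¹)⁻¹ := by rw [this]
      _ = d2⁻¹ := by group
  have hy_b : y * b * y⁻¹ = d2⁻¹ * b := by
    rw [hbd2, commutatorElement_def]; group
  have key : d1⁻¹ * a * d2⁻¹ * (d2⁻¹ * b) = a * d2⁻¹ * b := by
    calc d1⁻¹ * a * d2⁻¹ * (d2⁻¹ * b)
        = (y * d1⁻¹ * y⁻¹) * (y * a * y⁻¹) * (y * d2⁻¹ * y⁻¹) * (y * b * y⁻¹) := by
          rw [hy_d1, hy_a, hy_d2, hy_b]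
      _ = y * ((z * a * z⁻¹) * (z * d2⁻¹ * z⁻¹) * (z * b * z⁻¹)) * y⁻¹ := by
          rw [hz_a, hz_d2, hz_b]; group
      _ = (y * z) * (a * d2⁻¹ * b) * (y * z)⁻¹ := by group
      _ = a * d2⁻¹ * b := by rw [← hE, hEc]
  -- commutativity in nc x
  have c1 : d1⁻¹ * a = a * d1⁻¹ := cx _ ((nc x).inv_mem md1) _ ma
  have c2 : d1⁻¹ * d2⁻¹ = d2⁻¹ * d1⁻¹ := cx _ ((nc x).inv_mem md1) _ ((nc x).inv_mem md2)
  have key2 : (a * d2⁻¹) * (d1⁻¹ * d2⁻¹) * b = (a * d2⁻¹) * 1 * b := by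
    rw [mul_one, ← key]
    calc a * d2⁻¹ * (d1⁻¹ * d2⁻¹) * b = a * (d2⁻¹ * d1⁻¹) * d2⁻¹ * b := by group
      _ = a * (d1⁻¹ * d2⁻¹) * d2⁻¹ * b := by rw [c2]
      _ = (a * d1⁻¹) * d2⁻¹ * d2⁻¹ * b := by group
      _ = (d1⁻¹ * a) * d2⁻¹ * d2⁻¹ * b := by rw [c1]
      _ = d1⁻¹ * a * d2⁻¹ * (d2⁻¹ * b) := by group
  have key3 : d1⁻¹ * d2⁻¹ = 1 := by
    have := mul_right_cancel key2
    exact mul_left_cancel this
  have : d2 * d1 = 1 := by
    have e : d2 * d1 = (d1⁻¹ * d2⁻¹)⁻¹ := by group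
    rw [e, key3, inv_one]
  have c3 : d1 * d2 = d2 * d1 := cx _ md1 _ md2
  rw [c3, this]

theorem Engel2.cyc (h : Engel2 K) (x y z : K) : T y z x = T x y z := by
  have h1 := h.anti23 y z x
  have h2 := h.anti12 x y z
  rw [h2] at h1
  exact mul_inv_eq_one.mp h1

/-- **Levi's theorem**: in a 2-Engel group `[[x,y],z]^3 = 1`. -/
theorem Engel2.levi (h : Engel2 K) (x y z : K) : ⁅⁅x, y⁆, z⁆ ^ 3 = 1 := by
  have hw : (y * ⁅⁅y⁻¹, x⁆, z⁆ * y⁻¹) * (z * ⁅⁅z⁻¹, y⁆, x⁆ * z⁻¹) * (x * ⁅⁅x⁻¹, z⁆, y⁆ * x⁻¹) = 1 := by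
    simp only [commutatorElement_def]
    group
  have f1 : ⁅⁅y⁻¹, x⁆, z⁆ = T x y z := by
    rw [h.comm_inv_left y x, h.comm_inv_left]
    show (T y x z)⁻¹ = T x y z
    rw [h.anti12, inv_inv]
  have f2 : ⁅⁅z⁻¹, y⁆, x⁆ = T x y z := by
    rw [h.comm_inv_left z y, h.comm_inv_left]
    show (T z y x)⁻¹ = T x y z
    rw [h.anti12, inv_inv, h.cyc]
  have f3 : ⁅⁅x⁻¹, z⁆, y⁆ = T x y z := by
    rw [h.comm_inv_left x z, h.comm_inv_left]
    show (T x z y)⁻¹ = T x y z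
    have := h.anti23 x y z
    exact (eq_inv_of_mul_eq_one_left this).symm
  rw [f1, f2, f3] at hw
  have g1 : y * T x y z * y⁻¹ = T x y z := by
    rw [← h.T_comm2 x y z]; group
  have g2 : z * T x y z * z⁻¹ = T x y z := by
    rw [← h.T_comm3 x y z]; group
  have g3 : x * T x y z * x⁻¹ = T x y z := by
    rw [← h.T_comm1 x y z]; group
  rw [g1, g2, g3] at hw
  show T x y z ^ 3 = 1
  rw [pow_succ, pow_two]
  exact hw

end Cfsg.Agent.helper17.E4
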