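import Mathlib
import Cfsg.Agent.Lib_helper17_E4a

set_option autoImplicit false
open scoped commutatorElement

namespace Cfsg.Agent.helper17.E4

variable {G : Type*} [Group G]

theorem cube_expand (x g : G) :
    (x * g) ^ 3 = x * (g * x * g⁻¹) * (g ^ 2 * x * (g ^ 2)⁻¹) * g ^ 3 := by
  simp only [pow_succ, pow_zero, one_mul]
  group

theorem comm_of_cube {x g : G} (hg : g ^ 3 = 1) (h1 : (x * g) ^ 3 = 1) (h2 : (x⁻¹ * g) ^ 3 = 1) :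
    Commute x (g * x * g⁻¹) := by
  have e1 : x * (g * x * g⁻¹) * (g ^ 2 * x * (g ^ 2)⁻¹) = 1 := by
    have := cube_expand x g
    rw [h1, hg, mul_one] at this
    exact this.symm
  have e2 : (g ^ 2 * x * (g ^ 2)⁻¹) * (g * x * g⁻¹) * x = 1 := by
    have := cube_expand x⁻¹ g
    rw [h2, hg, mul_one] at this
    have h : (g ^ 2 * x * (g ^ 2)⁻¹) * (g * x * g⁻¹) * x
        = (x⁻¹ * (g * x⁻¹ * g⁻¹) * (g ^ 2 * x⁻¹ * (g ^ 2)⁻¹))⁻¹ := by group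
    rw [h, ← this, inv_one]
  -- u w = x⁻¹ = w u
  have f1 : (g * x * g⁻¹) * (g ^ 2 * x * (g ^ 2)⁻¹) = x⁻¹ := by
    calc (g * x * g⁻¹) * (g ^ 2 * x * (g ^ 2)⁻¹)
        = x⁻¹ * (x * (g * x * g⁻¹) * (g ^ 2 * x * (g ^ 2)⁻¹)) := by group
      _ = x⁻¹ := by rw [e1, mul_one]
  have f2 : (g ^ 2 * x * (g ^ 2)⁻¹) * (g * x * g⁻¹) = x⁻¹ := by
    calc (g ^ 2 * x * (g ^ 2)⁻¹) * (g * x * g⁻¹)
        = ((g ^ 2 * x * (g ^ 2)⁻¹) * (g * x * g⁻¹) * x) * x⁻¹ := by group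
      _ = x⁻¹ := by rw [e2, one_mul]
  have f3 : (g * x * g⁻¹) * (g ^ 2 * x * (g ^ 2)⁻¹) = (g ^ 2 * x * (g ^ 2)⁻¹) * (g * x * g⁻¹) := by
    rw [f1, f2]
  show x * (g * x * g⁻¹) = g * x * g⁻¹ * x
  calc x * (g * x * g⁻¹) = g⁻¹ * ((g * x * g⁻¹) * (g ^ 2 * x * (g ^ 2)⁻¹)) * g := by group
    _ = g⁻¹ * ((g ^ 2 * x * (g ^ 2)⁻¹) * (g * x * g⁻¹)) * g := by rw [f3]
    _ = g * x * g⁻¹ * x := by group

theorem commute_conj_of_cubes (N : Subgroup G) [hN : N.Normal] (s : G)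
    (h3 : ∀ n ∈ N, (n * s) ^ 3 = 1 ∧ (n * s⁻¹) ^ 3 = 1) :
    ∀ x ∈ N, ∀ g ∈ N, Commute x (g * x * g⁻¹) := by
  -- coset elements
  have hs3 : s ^ 3 = 1 := by
    have := (h3 1 N.one_mem).1
    rwa [one_mul] at this
  have C1 : ∀ h ∈ N, ∀ x ∈ N, Commute x ((h * s) * x * (h * s)⁻¹) := by
    intro h hh x hx
    apply comm_of_cube (h3 h hh).1
    · have : x * (h * s) = (x * h) * s := by group
      rw [this]; exact (h3 _ (N.mul_mem hx hh)).1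
    · have : x⁻¹ * (h * s) = (x⁻¹ * h) * s := by group
      rw [this]; exact (h3 _ (N.mul_mem (N.inv_mem hx) hh)).1
  have C2 : ∀ h ∈ N, ∀ x ∈ N, Commute x ((h * s⁻¹) * x * (h * s⁻¹)⁻¹) := by
    intro h hh x hx
    apply comm_of_cube (h3 h hh).2
    · have : x * (h * s⁻¹) = (x * h) * s⁻¹ := by group
      rw [this]; exact (h3 _ (N.mul_mem hx hh)).2
    · have : x⁻¹ * (h * s⁻¹) = (x⁻¹ * h) * s⁻¹ := by group
      rw [this]; exact (h3 _ (N.mul_mem (N.inv_mem hx) hh)).2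
  intro x hx g hg
  -- x * sxs⁻¹ * s²xs⁻² = 1
  have hs2 : s ^ 2 = s⁻¹ := by
    rw [eq_inv_iff_mul_eq_one, ← pow_succ]; exact hs3
  have e1 : x * (s * x * s⁻¹) * (s⁻¹ * x * s) = 1 := by
    have h1 : (x * s) ^ 3 = 1 := (h3 x hx).1
    have := cube_expand x s
    rw [h1, hs3, mul_one, hs2, inv_inv] at this
    exact this.symm
  have e2 : x⁻¹ = (s * x * s⁻¹) * (s⁻¹ * x * s) := by
    calc x⁻¹ = x⁻¹ * (x * (s * x * s⁻¹) * (s⁻¹ * x * s)) := by rw [e1, mul_one]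
      _ = (s * x * s⁻¹) * (s⁻¹ * x * s) := by group
  have e3 : g * x⁻¹ * g⁻¹ = ((g * s) * x * (g * s)⁻¹) * ((g * s⁻¹) * x * (g * s⁻¹)⁻¹) := by
    rw [e2]; group
  have c1 := C1 g hg x hx
  have c2 := C2 g hg x hx
  have c3 : Commute x (g * x⁻¹ * g⁻¹) := by
    rw [e3]; exact c1.mul_right c2
  have e4 : g * x * g⁻¹ = (g * x⁻¹ * g⁻¹)⁻¹ := by group
  rw [e4]
  exact c3.inv_right

theorem engel2_of_cubes (N : Subgroup G) [hN : N.Normal] (s : G)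
    (h3 : ∀ n ∈ N, (n * s) ^ 3 = 1 ∧ (n * s⁻¹) ^ 3 = 1) : Engel2 ↥N := by
  intro x g
  have := commute_conj_of_cubes N s h3 x.1 x.2 g.1 g.2
  show x * (g * x * g⁻¹) = g * x * g⁻¹ * x
  apply Subtype.ext
  simpa using this.eq

theorem class_two_of_engel2 {K : Type*} [Group K] (hK : IsPGroup 2 K) (h : Engel2 K)
    (x y z : K) : ⁅⁅x, y⁆, z⁆ = 1 := by
  have h1 := h.levi x y z
  obtain ⟨k, hk⟩ := hK ⁅⁅x, y⁆, z⁆
  have d1 : orderOf ⁅⁅x, y⁆, z⁆ ∣ 3 := orderOf_dvd_of_pow_eq_one h1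
  have d2 : orderOf ⁅⁅x, y⁆, z⁆ ∣ 2 ^ k := orderOf_dvd_of_pow_eq_one hk
  have d3 : orderOf ⁅⁅x, y⁆, z⁆ ∣ Nat.gcd 3 (2 ^ k) := Nat.dvd_gcd d1 d2
  have : Nat.gcd 3 (2 ^ k) = 1 := Nat.Coprime.pow_right k (by norm_num)
  rw [this, Nat.dvd_one] at d3
  exact orderOf_eq_one_iff.mp d3

theorem nilpotencyClass_le_two {K : Type*} [Group K] [Group.IsNilpotent K]
    (h : ∀ x y z : K, ⁅⁅x, y⁆, z⁆ = 1) : Group.nilpotencyClass K ≤ 2 := by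
  rw [← Subgroup.upperCentralSeries_eq_top_iff_nilpotencyClass_le]
  rw [eq_top_iff]
  intro x _
  have e2 : (2 : ℕ) = 1 + 1 := rfl
  rw [e2, Subgroup.mem_upperCentralSeries_succ_iff]
  intro y
  rw [Subgroup.upperCentralSeries_one, Subgroup.mem_center_iff]
  intro z
  have := h x y z
  rw [commutatorElement_eq_one_iff_mul_comm] at this
  exact this.symm

end Cfsg.Agent.helper17.E4
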