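import Mathlib

set_option autoImplicit false
open scoped commutatorElement

namespace Cfsg.Agent.helper17.E4

variable {N : Type*} [Group N]

/-- the hypotheses of the `S₃`-case -/
structure B2Hyp (σ τ : MulAut N) : Prop where
  h1 : ∀ x, x * σ x * σ (σ x) = 1
  h2 : ∀ x, σ x = x → x = 1
  h3 : ∀ x, τ (τ x) = x
  h4 : ∀ x, σ (τ (σ (τ x))) = x
  h5 : ∀ x, (τ x * x) ^ 2 = 1
  h6 : ∀ x y z : N, ⁅⁅x, y⁆, z⁆ = 1
  h7 : ∀ x : N, x ^ 4 = 1

namespace B2Hyp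

variable {σ τ : MulAut N}

theorem comm_central (h : B2Hyp σ τ) (a b g : N) : g * ⁅a, b⁆ = ⁅a, b⁆ * g := by
  have := h.h6 a b g
  rw [commutatorElement_eq_one_iff_mul_comm] at this
  exact this.symm

theorem s3 (h : B2Hyp σ τ) (x : N) : σ (σ (σ x)) = x := by
  have e1 := h.h1 x
  have e2 := h.h1 (σ x)
  have f1 : σ (σ (σ x)) = (σ x * σ (σ x))⁻¹ := eq_inv_of_mul_eq_one_right e2
  have f2 : x = (σ x * σ (σ x))⁻¹ := by
    apply eq_inv_of_mul_eq_one_left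
    rw [← mul_assoc]; exact e1
  rw [f1, ← f2]

/-- `σ x` and `σ² x` commute -/
theorem comm12 (h : B2Hyp σ τ) (x : N) : σ x * σ (σ x) = σ (σ x) * σ x := by
  have e1 := h.h1 x
  have e2 := h.h1 x⁻¹
  simp only [map_inv] at e2
  have f1 : σ x * σ (σ x) = x⁻¹ := by
    calc σ x * σ (σ x) = x⁻¹ * (x * σ x * σ (σ x)) := by group
      _ = x⁻¹ := by rw [e1, mul_one]
  have f2 : σ (σ x) * σ x = x⁻¹ := by
    calc σ (σ x) * σ x = (x⁻¹ * (σ x)⁻¹ * (σ (σ x))⁻¹)⁻¹ * x⁻¹ := by group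
      _ = x⁻¹ := by rw [e2, inv_one, one_mul]
  rw [f1, f2]

theorem comm01 (h : B2Hyp σ τ) (x : N) : x * σ x = σ x * x := by
  have := h.comm12 (σ (σ x))
  simp only [h.s3] at this
  exact this

theorem comm02 (h : B2Hyp σ τ) (x : N) : x * σ (σ x) = σ (σ x) * x := by
  have := h.comm12 (σ x)
  simp only [h.s3] at this
  exact this.symm

/-- `τ σ = σ² τ` -/
theorem tau_sigma (h : B2Hyp σ τ) (y : N) : τ (σ y) = σ (σ (τ y)) := by
  have e := h.h4 (τ y)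
  rw [h.h3] at e
  -- e : σ (τ (σ y)) = τ y
  have : σ (σ (σ (τ (σ y)))) = σ (σ (τ y)) := by rw [e]
  rw [h.s3] at this
  exact this

/-- the second reflection `σ τ` also satisfies `h5` -/
theorem h5' (h : B2Hyp σ τ) (x : N) : (σ (τ x) * x) ^ 2 = 1 := by
  have e := h.h5 (σ x)
  have e2 : σ (σ ((τ (σ x) * σ x) ^ 2)) = 1 := by rw [e, map_one, map_one]
  rw [map_pow, map_pow, map_mul, map_mul, h.s3, h.tau_sigma, h.s3] at e2
  exact e2

theorem st_invol (h : B2Hyp σ τ) (x : N) : σ (τ (σ (τ x))) = x := h.h4 x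

/-- an involutive automorphism `ρ` with `(ρ x * x)^2 = 1` fixes squares of central elements -/
theorem fix_sq_of_central (h : B2Hyp σ τ) (ρ : N → N) (hmul : ∀ a b, ρ (a * b) = ρ a * ρ b)
    (hinv : ∀ x, ρ (ρ x) = x) (hsq : ∀ x, (ρ x * x) ^ 2 = 1) (v : N)
    (hv : ∀ g, g * v = v * g) : ρ (v * v) = v * v := by
  have hρv : ∀ g, g * ρ v = ρ v * g := by
    intro g
    have := congrArg ρ (hv (ρ g))
    rw [hmul, hmul, hinv] at this
    exact this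
  have e := hsq v
  rw [pow_two] at e
  have e1 : (ρ v * ρ v) * (v * v) = 1 := by
    calc (ρ v * ρ v) * (v * v) = ρ v * (ρ v * v) * v := by group
      _ = ρ v * (v * ρ v) * v := by rw [hρv v]
      _ = ρ v * v * (ρ v * v) := by group
      _ = 1 := e
  have e2 : v * v * (v * v) = 1 := by
    have := h.h7 v
    rw [show (4 : ℕ) = 2 + 2 from rfl, pow_add, pow_two] at this
    exact this
  rw [hmul]
  calc ρ v * ρ v = (ρ v * ρ v) * (v * v) * (v * v)⁻¹ := by group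
    _ = (v * v)⁻¹ := by rw [e1, one_mul]
    _ = (v * v)⁻¹ * (v * v * (v * v)) := by rw [e2, mul_one]
    _ = v * v := inv_mul_cancel_left _ _

/-- Step 1: central elements are involutions -/
theorem central_sq (h : B2Hyp σ τ) (v : N) (hv : ∀ g, g * v = v * g) : v * v = 1 := by
  have e1 : τ (v * v) = v * v :=
    h.fix_sq_of_central τ (fun a b => map_mul τ a b) h.h3 h.h5 v hv
  have e2 : σ (τ (v * v)) = v * v :=
    h.fix_sq_of_central (fun x => σ (τ x)) (fun a b => by simp only [map_mul]) h.h4 h.h5' v hv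
  rw [e1] at e2
  exact h.h2 _ e2

theorem comm_sq (h : B2Hyp σ τ) (a b : N) : ⁅a, b⁆ * ⁅a, b⁆ = 1 :=
  h.central_sq _ (fun g => h.comm_central a b g)

theorem comm_inv (h : B2Hyp σ τ) (a b : N) : ⁅a, b⁆⁻¹ = ⁅a, b⁆ :=
  inv_eq_of_mul_eq_one_left (h.comm_sq a b)

theorem comm_symm (h : B2Hyp σ τ) (a b : N) : ⁅a, b⁆ = ⁅b, a⁆ := by
  rw [← commutatorElement_inv b a, h.comm_inv]

theorem comm_mul_right (h : B2Hyp σ τ) (a b c : N) : ⁅a, b * c⁆ = ⁅a, b⁆ * ⁅a, c⁆ := by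
  have e : ⁅a, b * c⁆ = ⁅a, b⁆ * (b * ⁅a, c⁆ * b⁻¹) := by
    simp only [commutatorElement_def]; group
  rw [e, h.comm_central a c b]; group

theorem comm_mul_left (h : B2Hyp σ τ) (a b c : N) : ⁅a * b, c⁆ = ⁅a, c⁆ * ⁅b, c⁆ := by
  rw [h.comm_symm (a * b) c, h.comm_mul_right, h.comm_symm c a, h.comm_symm c b]

theorem comm_central_left (h : B2Hyp σ τ) (a b z : N) (hz : ∀ g, g * z = z * g) :
    ⁅a * z, b⁆ = ⁅a, b⁆ := by
  rw [h.comm_mul_left]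
  have : ⁅z, b⁆ = 1 := by
    rw [commutatorElement_eq_one_iff_mul_comm]; exact (hz b).symm
  rw [this, mul_one]

theorem comm_central_right (h : B2Hyp σ τ) (a b z : N) (hz : ∀ g, g * z = z * g) :
    ⁅a, b * z⁆ = ⁅a, b⁆ := by
  rw [h.comm_symm, h.comm_central_left _ _ _ hz, h.comm_symm]

theorem mul_sq (h : B2Hyp σ τ) (a b : N) : (a * b) ^ 2 = a ^ 2 * b ^ 2 * ⁅b, a⁆ := by
  have hc : ∀ g, g * ⁅b, a⁆ = ⁅b, a⁆ * g := fun g => h.comm_central b a g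
  have e0 : b * a = ⁅b, a⁆ * a * b := by simp only [commutatorElement_def]; group
  calc (a * b) ^ 2 = a * (b * a) * b := by rw [pow_two]; group
    _ = a * (⁅b, a⁆ * a * b) * b := by rw [e0]
    _ = (a * ⁅b, a⁆) * (a * b * b) := by group
    _ = (⁅b, a⁆ * a) * (a * b * b) := by rw [hc a]
    _ = ⁅b, a⁆ * (a * a * (b * b)) := by group
    _ = (a * a * (b * b)) * ⁅b, a⁆ := (hc _).symm
    _ = a ^ 2 * b ^ 2 * ⁅b, a⁆ := by rw [pow_two, pow_two]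

theorem sq_central (h : B2Hyp σ τ) (a g : N) : g * (a * a) = (a * a) * g := by
  have e : a * a * g = ⁅a, g⁆ * (⁅a, g⁆ * g * a * a) := by
    have e1 : a * g = ⁅a, g⁆ * g * a := by simp only [commutatorElement_def]; group
    calc a * a * g = a * (a * g) := by group
      _ = a * (⁅a, g⁆ * g * a) := by rw [e1]
      _ = (a * ⁅a, g⁆) * g * a := by group
      _ = (⁅a, g⁆ * a) * g * a := by rw [h.comm_central a g a]
      _ = ⁅a, g⁆ * (a * g) * a := by group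
      _ = ⁅a, g⁆ * (⁅a, g⁆ * g * a) * a := by rw [e1]
      _ = ⁅a, g⁆ * (⁅a, g⁆ * g * a * a) := by group
  rw [e]
  calc g * (a * a) = (⁅a, g⁆ * ⁅a, g⁆) * (g * (a * a)) := by rw [h.comm_sq, one_mul]
    _ = ⁅a, g⁆ * (⁅a, g⁆ * g * a * a) := by group

/-- the set `W = {τ a * a}` -/
def W (τ : MulAut N) : Set N := {A | ∃ a, A = τ a * a}

theorem W_sq (h : B2Hyp σ τ) {A : N} (hA : A ∈ W τ) : A ^ 2 = 1 := by
  obtain ⟨a, rfl⟩ := hA
  exact h.h5 a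

/-- isotropy of `W` -/
theorem W_iso (h : B2Hyp σ τ) {A B : N} (hA : A ∈ W τ) (hB : B ∈ W τ) : ⁅A, B⁆ = 1 := by
  obtain ⟨a, rfl⟩ := hA
  obtain ⟨b, rfl⟩ := hB
  have e := h.h5 (a * b)
  have e1 : τ (a * b) * (a * b) = ⁅τ b, a⁆ * ((τ a * a) * (τ b * b)) := by
    rw [map_mul]
    have e2 : τ b * a = ⁅τ b, a⁆ * a * τ b := by simp only [commutatorElement_def]; group
    calc τ a * τ b * (a * b) = τ a * (τ b * a) * b := by group
      _ = τ a * (⁅τ b, a⁆ * a * τ b) * b := by rw [e2]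
      _ = (τ a * ⁅τ b, a⁆) * a * τ b * b := by group
      _ = (⁅τ b, a⁆ * τ a) * a * τ b * b := by rw [h.comm_central (τ b) a (τ a)]
      _ = ⁅τ b, a⁆ * ((τ a * a) * (τ b * b)) := by group
  rw [e1, pow_two] at e
  have e3 : ⁅τ b, a⁆ * ((τ a * a) * (τ b * b)) * (⁅τ b, a⁆ * ((τ a * a) * (τ b * b)))
      = ((τ a * a) * (τ b * b)) ^ 2 := by
    rw [pow_two]
    calc ⁅τ b, a⁆ * ((τ a * a) * (τ b * b)) * (⁅τ b, a⁆ * ((τ a * a) * (τ b * b)))
        = ⁅τ b, a⁆ * (((τ a * a) * (τ b * b)) * ⁅τ b, a⁆) * ((τ a * a) * (τ b * b)) := by group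
      _ = ⁅τ b, a⁆ * (⁅τ b, a⁆ * ((τ a * a) * (τ b * b))) * ((τ a * a) * (τ b * b)) := by
          rw [h.comm_central (τ b) a ((τ a * a) * (τ b * b))]
      _ = (⁅τ b, a⁆ * ⁅τ b, a⁆) * ((τ a * a) * (τ b * b)) * ((τ a * a) * (τ b * b)) := by group
      _ = (τ a * a) * (τ b * b) * ((τ a * a) * (τ b * b)) := by rw [h.comm_sq, one_mul]
  rw [e3, h.mul_sq, h.h5 a, h.h5 b, one_mul, one_mul] at e
  rw [h.comm_symm]
  exact e

/-- the cross term -/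
theorem W_cross (h : B2Hyp σ τ) {A B : N} (hA : A ∈ W τ) (hB : B ∈ W τ) : ⁅A, σ B⁆ = 1 := by
  have key : ∀ {A B : N}, A ∈ W τ → B ∈ W τ → σ ⁅A, σ B⁆ = ⁅B, σ A⁆ := by
    intro A B hA hB
    rw [map_commutatorElement]
    have e1 : σ (σ B) = (B * σ B)⁻¹ := by
      rw [eq_inv_iff_mul_eq_one]
      have := h.h1 B
      calc σ (σ B) * (B * σ B) = (B * σ B)⁻¹ * (B * σ B * σ (σ B)) * (B * σ B) := by group
        _ = 1 := by rw [this]; group
    rw [e1]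
    have e2 : ⁅σ A, (B * σ B)⁻¹⁆ = ⁅σ A, B * σ B⁆ := by
      have := h.comm_mul_right (σ A) (B * σ B) (B * σ B)⁻¹
      rw [mul_inv_cancel] at this
      have h0 : ⁅σ A, (1 : N)⁆ = 1 := by simp [commutatorElement_def]
      rw [h0] at this
      have := eq_inv_of_mul_eq_one_right this.symm
      rw [this, h.comm_inv]
    rw [e2, h.comm_mul_right, ← map_commutatorElement, h.W_iso hA hB, map_one, mul_one,
      h.comm_symm]
  have k1 := key hA hB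
  have k2 := key hB hA
  have k3 : σ (σ ⁅A, σ B⁆) = ⁅A, σ B⁆ := by rw [k1, k2]
  have k4 : σ ⁅A, σ B⁆ = ⁅A, σ B⁆ := by
    have := congrArg σ k3
    rw [h.s3] at this
    exact this.symm
  exact h.h2 _ k4

/-- decomposition modulo the centre -/
theorem decomp (h : B2Hyp σ τ) (x : N) :
    ∃ A A' z : N, A ∈ W τ ∧ A' ∈ W τ ∧ (∀ g, g * z = z * g) ∧ σ x = A * σ (σ A') * z := by
  refine ⟨τ (σ (τ x)) * σ (τ x), τ (σ x) * σ x, ?_, ⟨_, rfl⟩, ⟨_, rfl⟩, ?_, ?_⟩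
  · exact (σ (τ x) * σ (τ x))⁻¹ * (σ x * σ x)
  · intro g
    have c1 := h.sq_central (σ (τ x)) g
    have c2 := h.sq_central (σ x) g
    have c1' : g * (σ (τ x) * σ (τ x))⁻¹ = (σ (τ x) * σ (τ x))⁻¹ * g := by
      calc g * (σ (τ x) * σ (τ x))⁻¹
          = (σ (τ x) * σ (τ x))⁻¹ * ((σ (τ x) * σ (τ x)) * g) * (σ (τ x) * σ (τ x))⁻¹ := by group
        _ = (σ (τ x) * σ (τ x))⁻¹ * (g * (σ (τ x) * σ (τ x))) * (σ (τ x) * σ (τ x))⁻¹ := by
            rw [c1]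
        _ = (σ (τ x) * σ (τ x))⁻¹ * g := by group
    calc g * ((σ (τ x) * σ (τ x))⁻¹ * (σ x * σ x))
        = (g * (σ (τ x) * σ (τ x))⁻¹) * (σ x * σ x) := by group
      _ = ((σ (τ x) * σ (τ x))⁻¹ * g) * (σ x * σ x) := by rw [c1']
      _ = (σ (τ x) * σ (τ x))⁻¹ * (g * (σ x * σ x)) := by group
      _ = (σ (τ x) * σ (τ x))⁻¹ * ((σ x * σ x) * g) := by rw [c2]
      _ = (σ (τ x) * σ (τ x))⁻¹ * (σ x * σ x) * g := by group
  · -- compute
    have e1 : τ (σ (τ x)) = σ (σ x) := by rw [h.tau_sigma, h.h3]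
    have e2 : σ (σ (τ (σ x) * σ x)) = σ (τ x) * x := by
      rw [map_mul, map_mul, h.s3, h.tau_sigma, h.s3]
    rw [e1, e2]
    -- σ x = σσx * στx * (στx * x) * ((στx)^2)⁻¹ * (σx)^2
    have c := h.sq_central (σ (τ x))
    have r1 : x * σ x * σ (σ x) = 1 := h.h1 x
    have r2 : σ (σ x) * x = (σ x)⁻¹ := by
      rw [eq_inv_iff_mul_eq_one]
      calc σ (σ x) * x * σ x = σ (σ x) * (x * σ x) := by group
        _ = σ (σ x) * (σ x * x) := by rw [h.comm01]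
        _ = (σ (σ x) * σ x) * x := by group
        _ = (σ x * σ (σ x)) * x := by rw [h.comm12]
        _ = σ x * (σ (σ x) * x) := by group
        _ = σ x * (x * σ (σ x)) := by rw [h.comm02]
        _ = x⁻¹ * (x * σ x * (x * σ (σ x))) := by group
        _ = x⁻¹ * (x * (σ x * x) * σ (σ x)) := by group
        _ = x⁻¹ * (x * (x * σ x) * σ (σ x)) := by rw [h.comm01]
        _ = x⁻¹ * (x * (x * σ x * σ (σ x))) := by group
        _ = 1 := by rw [r1]; group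
    calc σ x = (σ (σ x) * x)⁻¹ := by rw [r2, inv_inv]
      _ = (σ (σ x) * x)⁻¹ * ((σ (τ x) * σ (τ x)) * (σ (τ x) * σ (τ x))⁻¹) := by group
      _ = σ (σ x) * ((σ (τ x) * σ (τ x)) * x) * ((σ (τ x) * σ (τ x))⁻¹ * ((σ (σ x) * x)⁻¹ * (σ (σ x) * x)⁻¹)) := by
          rw [← c x]; group
      _ = σ (σ x) * σ (τ x) * (σ (τ x) * x) * ((σ (τ x) * σ (τ x))⁻¹ * (σ x * σ x)) := by
          rw [r2, inv_inv]; group

/-- `N` is commutative -/
theorem comm_all (h : B2Hyp σ τ) (y₁ y₂ : N) : y₁ * y₂ = y₂ * y₁ := by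
  have hy : ∀ y : N, ∃ x, y = σ x := fun y => ⟨σ (σ y), (h.s3 y).symm⟩
  obtain ⟨x₁, rfl⟩ := hy y₁
  obtain ⟨x₂, rfl⟩ := hy y₂
  obtain ⟨A₁, A₁', z₁, hA₁, hA₁', hz₁, e₁⟩ := h.decomp x₁
  obtain ⟨A₂, A₂', z₂, hA₂, hA₂', hz₂, e₂⟩ := h.decomp x₂
  rw [← commutatorElement_eq_one_iff_mul_comm, e₁, e₂,
    h.comm_central_left _ _ _ hz₁, h.comm_central_right _ _ _ hz₂,
    h.comm_mul_left, h.comm_mul_right, h.comm_mul_right]
  have t1 : ⁅A₁, A₂⁆ = 1 := h.W_iso hA₁ hA₂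
  have t4 : ⁅σ (σ A₁'), σ (σ A₂')⁆ = 1 := by
    rw [← map_commutatorElement, ← map_commutatorElement, h.W_iso hA₁' hA₂', map_one, map_one]
  have cross : ∀ {A B : N}, A ∈ W τ → B ∈ W τ → ⁅A, σ (σ B)⁆ = 1 := by
    intro A B hA hB
    have : ⁅A, σ (σ B)⁆ = σ (σ ⁅σ A, B⁆) := by
      rw [map_commutatorElement, map_commutatorElement, h.s3]
    rw [this, h.comm_symm, h.W_cross hB hA, map_one, map_one]
  have t2 : ⁅A₁, σ (σ A₂')⁆ = 1 := cross hA₁ hA₂'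
  have t3 : ⁅σ (σ A₁'), A₂⁆ = 1 := by
    rw [h.comm_symm]; exact cross hA₂ hA₁'
  rw [t1, t2, t3, t4]; simp

/-- conclusion: `N` has exponent 2 -/
theorem sq_eq_one (h : B2Hyp σ τ) (x : N) : x ^ 2 = 1 := by
  rw [pow_two]
  exact h.central_sq x (fun g => h.comm_all g x)

end B2Hyp

end Cfsg.Agent.helper17.E4
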