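import Mathlib
import Cfsg.Agent.S0144
import Cfsg.Agent.Lib_helper8_CN2

set_option autoImplicit false

namespace Cfsg.Agent.helper17.E4

variable {G : Type*} [Group G]

/-- all element orders are between 1 and 4 -/
def LE4 (G : Type*) [Group G] : Prop := ∀ g : G, 1 ≤ orderOf g ∧ orderOf g ≤ 4

theorem LE4.cases (h : LE4 G) (g : G) :
    orderOf g = 1 ∨ orderOf g = 2 ∨ orderOf g = 3 ∨ orderOf g = 4 := by
  obtain ⟨h1, h2⟩ := h g
  interval_cases orderOf g <;> simp

theorem LE4.quotient (h : LE4 G) (N : Subgroup G) [N.Normal] : LE4 (G ⧸ N) := by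
  intro q
  obtain ⟨g, rfl⟩ := QuotientGroup.mk_surjective q
  have hd : orderOf (QuotientGroup.mk g : G ⧸ N) ∣ orderOf g :=
    orderOf_map_dvd (QuotientGroup.mk' N) g
  obtain ⟨h1, h2⟩ := h g
  have hpos : 0 < orderOf (QuotientGroup.mk g : G ⧸ N) := Nat.pos_of_dvd_of_pos hd h1
  exact ⟨hpos, (Nat.le_of_dvd h1 hd).trans h2⟩

theorem LE4.no_six (h : LE4 G) {x y : G} (hc : Commute x y) (hx4 : x ^ 4 = 1) (hx1 : x ≠ 1)
    (hy3 : y ^ 3 = 1) (hy1 : y ≠ 1) : False := by
  have ox : orderOf x ∣ 4 := orderOf_dvd_of_pow_eq_one hx4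
  have oy : orderOf y = 3 := by
    have : Fact (Nat.Prime 3) := ⟨by norm_num⟩
    exact orderOf_eq_prime hy3 hy1
  have ox1 : orderOf x ≠ 1 := fun e => hx1 (orderOf_eq_one_iff.mp e)
  have ox2 : 2 ≤ orderOf x := by
    have := (h x).1
    omega
  have hcop : Nat.Coprime (orderOf x) (orderOf y) := by
    rw [oy]
    have : Nat.Coprime 4 3 := by norm_num
    exact Nat.Coprime.coprime_dvd_left ox this
  have := hc.orderOf_mul_eq_mul_orderOf_of_coprime hcop
  have h4 := (h (x * y)).2
  rw [this, oy] at h4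
  omega

theorem LE4.pow_three_of_dvd (h : LE4 G) {g : G} (hd : 3 ∣ orderOf g) : g ^ 3 = 1 := by
  rcases h.cases g with e | e | e | e <;> rw [e] at hd
  · omega
  · omega
  · rw [← e]; exact pow_orderOf_eq_one g
  · omega

theorem LE4.pow_four_of_dvd (h : LE4 G) {g : G} (hd : 2 ∣ orderOf g) : g ^ 4 = 1 := by
  rcases h.cases g with e | e | e | e <;> rw [e] at hd
  · omega
  · have := pow_orderOf_eq_one g
    rw [e] at this
    rw [show (4 : ℕ) = 2 * 2 from rfl, pow_mul, this, one_pow]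
  · omega
  · rw [← e]; exact pow_orderOf_eq_one g

theorem LE4.pow_twelve (h : LE4 G) (g : G) : g ^ 12 = 1 := by
  rcases h.cases g with e | e | e | e
  · rw [orderOf_eq_one_iff.mp e, one_pow]
  · have := pow_orderOf_eq_one g
    rw [e] at this
    rw [show (12 : ℕ) = 2 * 6 from rfl, pow_mul, this, one_pow]
  · have := pow_orderOf_eq_one g
    rw [e] at this
    rw [show (12 : ℕ) = 3 * 4 from rfl, pow_mul, this, one_pow]
  · have := pow_orderOf_eq_one g
    rw [e] at this
    rw [show (12 : ℕ) = 4 * 3 from rfl, pow_mul, this, one_pow]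

/-- elements of a `3`-subgroup have cube one -/
theorem LE4.cube_of_three_group (h : LE4 G) {K : Subgroup G} (hK : IsPGroup 3 K) {n : G}
    (hn : n ∈ K) : n ^ 3 = 1 := by
  obtain ⟨k, hk⟩ := hK ⟨n, hn⟩
  have hk' : n ^ (3 ^ k) = 1 := by
    have := congrArg Subtype.val hk
    simpa using this
  have hd : orderOf n ∣ 3 ^ k := orderOf_dvd_of_pow_eq_one hk'
  rcases h.cases n with e | e | e | e
  · rw [orderOf_eq_one_iff.mp e, one_pow]
  · exfalso
    rw [e] at hd
    have := (Nat.Prime.dvd_of_dvd_pow Nat.prime_two hd)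
    omega
  · rw [← e]; exact pow_orderOf_eq_one n
  · exfalso
    rw [e] at hd
    have h2 : 2 ∣ 3 ^ k := dvd_trans (by norm_num) hd
    have := (Nat.Prime.dvd_of_dvd_pow Nat.prime_two h2)
    omega

/-- elements of a `2`-subgroup have fourth power one -/
theorem LE4.pow_four_of_two_group (h : LE4 G) {K : Subgroup G} (hK : IsPGroup 2 K) {n : G}
    (hn : n ∈ K) : n ^ 4 = 1 := by
  obtain ⟨k, hk⟩ := hK ⟨n, hn⟩
  have hk' : n ^ (2 ^ k) = 1 := by
    have := congrArg Subtype.val hk
    simpa using this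
  have hd : orderOf n ∣ 2 ^ k := orderOf_dvd_of_pow_eq_one hk'
  rcases h.cases n with e | e | e | e
  · rw [orderOf_eq_one_iff.mp e, one_pow]
  · have := pow_orderOf_eq_one n
    rw [e] at this
    rw [show (4 : ℕ) = 2 * 2 from rfl, pow_mul, this, one_pow]
  · exfalso
    rw [e] at hd
    have := (Nat.Prime.dvd_of_dvd_pow Nat.prime_three hd)
    omega
  · rw [← e]; exact pow_orderOf_eq_one n

/-- a `2`-element that is also a `3`-element is trivial -/
theorem eq_one_of_pow {g : G} (h4 : g ^ 4 = 1) (h3 : g ^ 3 = 1) : g = 1 := by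
  have : g ^ 4 = g ^ 3 * g := pow_succ g 3
  rw [h4, h3, one_mul] at this
  exact this.symm

theorem LE4.card [Finite G] (h : LE4 G) : ∃ a b : ℕ, Nat.card G = 2 ^ a * 3 ^ b := by
  have hpos : Nat.card G ≠ 0 := Nat.card_pos.ne'
  have hprime : ∀ p : ℕ, p.Prime → p ∣ Nat.card G → p = 2 ∨ p = 3 := by
    intro p hp hd
    haveI : Fact p.Prime := ⟨hp⟩
    obtain ⟨g, hg⟩ := exists_prime_orderOf_dvd_card' p hd
    have := (h g).2
    rw [hg] at this
    have h2 := hp.two_le
    interval_cases p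
    · left; rfl
    · right; rfl
    · exfalso; exact absurd hp (by norm_num)
  set n := Nat.card G with hn
  have e1 : n = ordProj[2] n * ordCompl[2] n := (Nat.ordProj_mul_ordCompl_eq_self n 2).symm
  set m := ordCompl[2] n with hm
  have hm0 : m ≠ 0 := by
    intro e
    rw [e, mul_zero] at e1
    exact hpos e1
  have hmdvd : m ∣ n := Nat.ordCompl_dvd n 2
  have hm2 : ¬ 2 ∣ m := Nat.not_dvd_ordCompl Nat.prime_two hpos
  have hm3 : m = 3 ^ m.primeFactorsList.length := by
    apply Nat.eq_prime_pow_of_unique_prime_dvd hm0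
    intro d hd hdm
    rcases hprime d hd (dvd_trans hdm hmdvd) with e | e
    · exfalso; rw [e] at hdm; exact hm2 hdm
    · exact e
  refine ⟨n.factorization 2, m.primeFactorsList.length, ?_⟩
  rw [← hm3]
  exact e1

theorem LE4.solvable [Finite G] (h : LE4 G) : Group.IsSolvable G := by
  obtain ⟨a, b, hab⟩ := h.card
  exact Cfsg.Agent.S0144.result 2 3 a b Nat.prime_two Nat.prime_three hab

/-- a maximal normal `p`-subgroup -/
theorem exists_max_normal_pgroup [Finite G] (p : ℕ) [Fact p.Prime] :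
    ∃ N : Subgroup G, N.Normal ∧ IsPGroup p N ∧
      ∀ K : Subgroup G, K.Normal → IsPGroup p K → K ≤ N := by
  classical
  let S : Set (Subgroup G) := {K | K.Normal ∧ IsPGroup p K}
  have hSfin : S.Finite := Set.toFinite S
  have hSne : S.Nonempty := ⟨⊥, inferInstance, IsPGroup.of_bot⟩
  obtain ⟨N, hNS, hNmax⟩ := Set.Finite.exists_maximalFor (fun K : Subgroup G => Nat.card K) S hSfin hSne
  refine ⟨N, hNS.1, hNS.2, ?_⟩
  intro K hKn hKp
  haveI := hNS.1
  haveI := hKn
  have hsup : N ⊔ K ∈ S := ⟨inferInstance, IsPGroup.to_sup_of_normal_right hNS.2 hKp⟩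
  have hle : Nat.card N ≤ Nat.card (N ⊔ K : Subgroup G) :=
    Subgroup.card_le_of_le le_sup_left
  have hge := hNmax hsup hle
  have heq : N = N ⊔ K := Subgroup.eq_of_le_of_card_ge le_sup_left hge
  rw [heq]
  exact le_sup_right

/-- four subgroups of order three acting "norm-trivially" on a commutative group force exponent three -/
theorem cube_of_four {V : Type*} [Group V] [IsMulCommutative V] (α β : MulAut V)
    (hαβ : ∀ v, α (β v) = β (α v)) (hβ3 : ∀ v, β (β (β v)) = v)
    (h1 : ∀ v, v * α v * α (α v) = 1)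
    (h2 : ∀ v, v * β v * β (β v) = 1)
    (h3 : ∀ v, v * α (β v) * α (β (α (β v))) = 1)
    (h4 : ∀ v, v * α (β (β v)) * α (β (β (α (β (β v))))) = 1) (v : V) : v ^ 3 = 1 := by
  have e1 := h1 v
  have e2 := h1 (β v)
  have e3 := h1 (β (β v))
  have e4 := h2 v
  have e5 := h3 v
  have e6 := h4 v
  have r5 : α (β (α (β v))) = α (α (β (β v))) := by simp only [← hαβ]
  have r6 : α (β (β (α (β (β v))))) = α (α (β v)) := by simp only [← hαβ, hβ3]
  rw [r5] at e5
  rw [r6] at e6
  have key : v * v * v * ((v * α v * α (α v)) * (β v * α (β v) * α (α (β v))) *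
      (β (β v) * α (β (β v)) * α (α (β (β v))))) =
      (v * α v * α (α v)) * (v * β v * β (β v)) * (v * α (β v) * α (α (β (β v)))) *
      (v * α (β (β v)) * α (α (β v))) := by
    ac_rfl
  rw [e1, e2, e3, e4, e5, e6] at key
  simpa [pow_succ] using key

end Cfsg.Agent.helper17.E4
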