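import Mathlib
import Cfsg.Prelude.Def_Transfer
import Cfsg.Agent.Lib_helper17_E4d
import Cfsg.Agent.S0016

set_option autoImplicit false

namespace Cfsg.Agent.helper17.E4

variable {G : Type*} [Group G]

section CaseA

/-- an involution inverts a normal `3`-subgroup -/
theorem inverts_of_invol [Finite G] (h : LE4 G) (N : Subgroup G) [hNn : N.Normal]
    (hN3 : IsPGroup 3 N) (u : G) (hu : orderOf u = 2) : ∀ n ∈ N, u * n * u⁻¹ = n⁻¹ := by
  have hu2 : u ^ 2 = 1 := by rw [← hu]; exact pow_orderOf_eq_one u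
  have hu1 : u ≠ 1 := by
    intro e; rw [e, orderOf_one] at hu; omega
  have hu4 : u ^ 4 = 1 := by
    rw [show (4 : ℕ) = 2 * 2 from rfl, pow_mul, hu2, one_pow]
  have huu : u * u = 1 := by rw [← pow_two]; exact hu2
  have hui : u⁻¹ = u := inv_eq_of_mul_eq_one_left huu
  let f : ↥N → ↥N := fun n => ⟨(n : G)⁻¹ * (u * n * u⁻¹),
    N.mul_mem (N.inv_mem n.2) (hNn.conj_mem n n.2 u)⟩
  have hinj : Function.Injective f := by
    intro n m hnm
    have e : (n : G)⁻¹ * (u * n * u⁻¹) = (m : G)⁻¹ * (u * m * u⁻¹) := congrArg Subtype.val hnm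
    have hk : u * ((m : G) * (n : G)⁻¹) * u⁻¹ = (m : G) * (n : G)⁻¹ := by
      have e2 : (m : G) * (n : G)⁻¹ = (u * m * u⁻¹) * (u * n * u⁻¹)⁻¹ := by
        have : (m : G) * ((n : G)⁻¹ * (u * n * u⁻¹)) = u * m * u⁻¹ := by
          rw [e]; group
        calc (m : G) * (n : G)⁻¹ = ((m : G) * ((n : G)⁻¹ * (u * n * u⁻¹))) * (u * n * u⁻¹)⁻¹ := by
              group
          _ = (u * m * u⁻¹) * (u * n * u⁻¹)⁻¹ := by rw [this]
      conv_rhs => rw [e2]
      group
    have hkN : (m : G) * (n : G)⁻¹ ∈ N := N.mul_mem m.2 (N.inv_mem n.2)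
    have hk3 : ((m : G) * (n : G)⁻¹) ^ 3 = 1 := h.cube_of_three_group hN3 hkN
    have hc : Commute u ((m : G) * (n : G)⁻¹) := by
      show u * ((m : G) * (n : G)⁻¹) = (m : G) * (n : G)⁻¹ * u
      calc u * ((m : G) * (n : G)⁻¹) = (u * ((m : G) * (n : G)⁻¹) * u⁻¹) * u := by group
        _ = (m : G) * (n : G)⁻¹ * u := by rw [hk]
    by_contra hne
    have hk1 : (m : G) * (n : G)⁻¹ ≠ 1 := by
      intro e1
      apply hne
      apply Subtype.ext
      have := mul_inv_eq_one.mp e1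
      exact this.symm
    exact h.no_six hc hu4 hu1 hk3 hk1
  have hsurj : Function.Surjective f := Finite.injective_iff_surjective.mp hinj
  intro n hn
  obtain ⟨m, hm⟩ := hsurj ⟨n, hn⟩
  have e : (m : G)⁻¹ * (u * m * u⁻¹) = n := congrArg Subtype.val hm
  rw [← e]
  have r1 : u * ((m : G)⁻¹ * (u * m * u⁻¹)) * u⁻¹ = u * (m : G)⁻¹ * u * m * (u * u)⁻¹ := by group
  have r2 : ((m : G)⁻¹ * (u * m * u⁻¹))⁻¹ = u * (m : G)⁻¹ * u⁻¹ * m := by group
  rw [r1, r2, huu, hui, inv_one, mul_one]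

/-- the centralizer of a maximal normal `3`-subgroup is contained in it -/
theorem centralizer_le [Finite G] (h : LE4 G) (N : Subgroup G) [hNn : N.Normal]
    (hNne : N ≠ ⊥) (hN3 : IsPGroup 3 N)
    (hmax : ∀ K : Subgroup G, K.Normal → IsPGroup 3 K → K ≤ N) :
    Subgroup.centralizer (N : Set G) ≤ N := by
  obtain ⟨n₀, hn₀, hn₀1⟩ : ∃ n₀ : G, n₀ ∈ N ∧ n₀ ≠ 1 := by
    by_contra hcon
    push Not at hcon
    apply hNne
    rw [eq_bot_iff]
    intro x hx
    rw [Subgroup.mem_bot]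
    exact hcon x hx
  have hn₀3 : n₀ ^ 3 = 1 := h.cube_of_three_group hN3 hn₀
  apply hmax _ inferInstance
  have hc3 : ∀ c ∈ Subgroup.centralizer (N : Set G), c ^ 3 = 1 := by
    intro c hc
    rw [Subgroup.mem_centralizer_iff] at hc
    have hcomm : Commute c n₀ := (hc n₀ hn₀).symm
    rcases h.cases c with e | e | e | e
    · rw [orderOf_eq_one_iff.mp e, one_pow]
    · exfalso
      have h2 : c ^ 2 = 1 := by rw [← e]; exact pow_orderOf_eq_one c
      have h4 : c ^ 4 = 1 := by rw [show (4 : ℕ) = 2 * 2 from rfl, pow_mul, h2, one_pow]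
      have h1 : c ≠ 1 := by intro e1; rw [e1, orderOf_one] at e; omega
      exact h.no_six hcomm h4 h1 hn₀3 hn₀1
    · rw [← e]; exact pow_orderOf_eq_one c
    · exfalso
      have h4 : c ^ 4 = 1 := by rw [← e]; exact pow_orderOf_eq_one c
      have h1 : c ≠ 1 := by intro e1; rw [e1, orderOf_one] at e; omega
      exact h.no_six hcomm h4 h1 hn₀3 hn₀1
  intro c
  refine ⟨1, ?_⟩
  apply Subtype.ext
  have := hc3 c.1 c.2
  simpa using this

theorem caseA [Finite G] (h : LE4 G) (N : Subgroup G) [hNn : N.Normal]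
    (hN3 : IsPGroup 3 N) (hNne : N ≠ ⊥)
    (hmax : ∀ K : Subgroup G, K.Normal → IsPGroup 3 K → K ≤ N)
    (z : G) (hz : orderOf z = 2) (w : G) (hw : orderOf w = 4) :
    Cfsg.IsElementaryAbelian 3 N ∧
      ((IsCyclic (G ⧸ N) ∧ N.index = 4) ∨ Nonempty (G ⧸ N ≃* QuaternionGroup 2)) := by
  have hcube : ∀ n ∈ N, n ^ 3 = 1 := fun n hn => h.cube_of_three_group hN3 hn
  have hinv := inverts_of_invol h N hN3
  have hz2 : z ^ 2 = 1 := by rw [← hz]; exact pow_orderOf_eq_one z
  have hzz : z * z = 1 := by rw [← pow_two]; exact hz2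
  have hzi : z⁻¹ = z := inv_eq_of_mul_eq_one_left hzz
  have hz1 : z ≠ 1 := by intro e; rw [e, orderOf_one] at hz; omega
  have habel : ∀ a ∈ N, ∀ b ∈ N, a * b = b * a := by
    intro a ha b hb
    have e1 := hinv z hz (a * b) (N.mul_mem ha hb)
    have e2 := hinv z hz a ha
    have e3 := hinv z hz b hb
    have e4 : z * (a * b) * z⁻¹ = (z * a * z⁻¹) * (z * b * z⁻¹) := by group
    rw [e4, e2, e3] at e1
    have : (a⁻¹ * b⁻¹)⁻¹ = ((a * b)⁻¹)⁻¹ := by rw [e1]
    rw [inv_inv, mul_inv_rev, inv_inv, inv_inv] at this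
    exact this.symm
  refine ⟨⟨⟨⟨fun a b => Subtype.ext (habel a a.2 b b.2)⟩⟩, hcube⟩, ?_⟩
  have hCN := centralizer_le h N hNne hN3 hmax
  have hnotin : ∀ g ∈ N, g ^ 2 = 1 → g = 1 := by
    intro g hg hg2
    have h3 := hcube g hg
    have : g ^ 3 = g ^ 2 * g := pow_succ g 2
    rw [h3, hg2, one_mul] at this
    exact this.symm
  have hzN : z ∉ N := fun hzN => hz1 (hnotin z hzN hz2)
  have hLQ : LE4 (G ⧸ N) := h.quotient N
  set zbar : G ⧸ N := (z : G ⧸ N) with hzbar
  have hzbar1 : zbar ≠ 1 := by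
    intro e
    exact hzN ((QuotientGroup.eq_one_iff z).mp e)
  have hzbar2 : zbar * zbar = 1 := by
    rw [hzbar, ← QuotientGroup.mk_mul, hzz]; rfl
  have huniqQ : ∀ q : G ⧸ N, q * q = 1 → q ≠ 1 → q = zbar := by
    intro q hq2 hq1
    obtain ⟨g, rfl⟩ := QuotientGroup.mk_surjective q
    have hggN : g * g ∈ N := by
      rw [← QuotientGroup.mk_mul] at hq2
      exact (QuotientGroup.eq_one_iff _).mp hq2
    have hgN : g ∉ N := fun hgN => hq1 ((QuotientGroup.eq_one_iff g).mpr hgN)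
    have hg6 : g ^ 6 = 1 := by
      have := hcube _ hggN
      rw [← pow_two, ← pow_mul] at this
      exact this
    have hd6 : orderOf g ∣ 6 := orderOf_dvd_of_pow_eq_one hg6
    have hg2 : orderOf g = 2 := by
      rcases h.cases g with e | e | e | e
      · exfalso; apply hgN; rw [orderOf_eq_one_iff.mp e]; exact N.one_mem
      · exact e
      · exfalso
        apply hgN
        have h3 : g ^ 3 = 1 := by rw [← e]; exact pow_orderOf_eq_one g
        have : g = (g * g)⁻¹ := by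
          apply eq_inv_of_mul_eq_one_left
          rw [← h3]; simp only [pow_succ, pow_zero, one_mul]; group
        rw [this]
        exact N.inv_mem hggN
      · exfalso; rw [e] at hd6; omega
    -- g * z⁻¹ centralizes N
    have hcen : g * z⁻¹ ∈ Subgroup.centralizer (N : Set G) := by
      rw [Subgroup.mem_centralizer_iff]
      intro n hn
      have e1 := hinv z hz n hn
      have e2 := hinv g hg2 n⁻¹ (N.inv_mem hn)
      rw [inv_inv] at e2
      have e3 : z⁻¹ * n * z = n⁻¹ := by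
        rw [hzi]
        have : z * n * z = z * n * z⁻¹ := by rw [hzi]
        rw [this, e1]
      calc n * (g * z⁻¹) = (g * n⁻¹ * g⁻¹) * (g * z⁻¹) := by rw [e2]
        _ = g * n⁻¹ * z⁻¹ := by group
        _ = g * (z⁻¹ * n * z) * z⁻¹ := by rw [e3]
        _ = g * z⁻¹ * n := by group
    have hgz : g * z⁻¹ ∈ N := hCN hcen
    have : (g : G ⧸ N) = ((g * z⁻¹ : G) : G ⧸ N) * (z : G ⧸ N) := by
      rw [← QuotientGroup.mk_mul]; congr 1; group
    rw [this, (QuotientGroup.eq_one_iff _).mpr hgz, one_mul]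
  have hcentral : ∀ q : G ⧸ N, q * zbar = zbar * q := by
    intro q
    obtain ⟨g, rfl⟩ := QuotientGroup.mk_surjective q
    have ho : orderOf (g * z * g⁻¹) = 2 := by
      rw [← hz]
      have := (MulAut.conj g).orderOf_eq z
      rwa [MulAut.conj_apply] at this
    have ho2 : (g * z * g⁻¹) ^ 2 = 1 := by rw [← ho]; exact pow_orderOf_eq_one _
    have hnN : g * z * g⁻¹ ∉ N := by
      intro hin
      have := hnotin _ hin ho2
      rw [this, orderOf_one] at ho
      omega
    have e := huniqQ ((g * z * g⁻¹ : G) : G ⧸ N)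
      (by rw [← QuotientGroup.mk_mul, ← pow_two, ho2]; rfl)
      (fun e => hnN ((QuotientGroup.eq_one_iff _).mp e))
    rw [QuotientGroup.mk_mul, QuotientGroup.mk_mul, QuotientGroup.mk_inv, ← hzbar] at e
    calc (g : G ⧸ N) * zbar = ((g : G ⧸ N) * zbar * (g : G ⧸ N)⁻¹) * (g : G ⧸ N) := by group
      _ = zbar * (g : G ⧸ N) := by rw [e]
  have hzbar4 : zbar ^ 4 = 1 := by
    rw [show (4 : ℕ) = 2 * 2 from rfl, pow_mul, pow_two zbar, hzbar2, one_pow]
  have hno3 : ∀ q : G ⧸ N, q ^ 3 = 1 → q = 1 := by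
    intro q hq3
    by_contra hq1
    exact hLQ.no_six (hcentral q).symm hzbar4 hzbar1 hq3 hq1
  have hQ4 : ∀ q : G ⧸ N, q ^ 4 = 1 := by
    intro q
    rcases hLQ.cases q with e | e | e | e
    · rw [orderOf_eq_one_iff.mp e, one_pow]
    · have := pow_orderOf_eq_one q
      rw [e] at this
      rw [show (4 : ℕ) = 2 * 2 from rfl, pow_mul, this, one_pow]
    · have h3 : q ^ 3 = 1 := by rw [← e]; exact pow_orderOf_eq_one q
      rw [hno3 q h3, one_pow]
    · rw [← e]; exact pow_orderOf_eq_one q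
  have hQ2 : IsPGroup 2 (G ⧸ N) := fun q => ⟨2, hQ4 q⟩
  have hozbar : orderOf zbar = 2 := by
    have : Fact (Nat.Prime 2) := ⟨Nat.prime_two⟩
    exact orderOf_eq_prime (by rw [pow_two]; exact hzbar2) hzbar1
  have hsub : ∀ H : Subgroup (G ⧸ N), Nat.card H = 2 → H = Subgroup.zpowers zbar := by
    intro H hH
    have hne : H ≠ ⊥ := by
      intro e
      rw [e, Subgroup.card_bot] at hH
      omega
    obtain ⟨x, hxH, hx1⟩ : ∃ x : G ⧸ N, x ∈ H ∧ x ≠ 1 := by
      by_contra hcon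
      push Not at hcon
      apply hne
      rw [eq_bot_iff]
      intro y hy
      rw [Subgroup.mem_bot]
      exact hcon y hy
    have hx2 : x * x = 1 := by
      have hd : orderOf (⟨x, hxH⟩ : H) ∣ Nat.card H := orderOf_dvd_natCard _
      rw [hH] at hd
      have := orderOf_dvd_iff_pow_eq_one.mp hd
      have := congrArg Subtype.val this
      simpa [pow_two] using this
    have hxz : x = zbar := huniqQ x hx2 hx1
    have hle : Subgroup.zpowers zbar ≤ H := by
      rw [Subgroup.zpowers_le, ← hxz]; exact hxH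
    have hc : Nat.card (Subgroup.zpowers zbar) = 2 := by rw [Nat.card_zpowers, hozbar]
    exact (Subgroup.eq_of_le_of_card_ge hle (by rw [hH, hc])).symm
  have huniqSub : ∀ H K : Subgroup (G ⧸ N), Nat.card H = 2 → Nat.card K = 2 → H = K := by
    intro H K hH hK
    rw [hsub H hH, hsub K hK]
  -- image of w
  have hw4 : w ^ 4 = 1 := by rw [← hw]; exact pow_orderOf_eq_one w
  have hw2 : w ^ 2 ≠ 1 := pow_ne_one_of_lt_orderOf (by norm_num) (by rw [hw]; norm_num)
  have hw2N : w ^ 2 ∉ N := by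
    intro hin
    apply hw2
    apply hnotin _ hin
    rw [← pow_mul]; exact hw4
  have howbar : orderOf ((w : G) : G ⧸ N) = 4 := by
    have : Fact (Nat.Prime 2) := ⟨Nat.prime_two⟩
    have := orderOf_eq_prime_pow (x := ((w : G) : G ⧸ N)) (p := 2) (n := 1) (by
      intro e
      apply hw2N
      rw [← QuotientGroup.mk_pow] at e
      have := (QuotientGroup.eq_one_iff _).mp e
      simpa using this) (hQ4 _)
    simpa using this
  have hcyc_case : IsCyclic (G ⧸ N) → IsCyclic (G ⧸ N) ∧ N.index = 4 := by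
    intro hc
    refine ⟨hc, ?_⟩
    rw [Subgroup.index_eq_card, ← IsCyclic.exponent_eq_card]
    apply Nat.dvd_antisymm
    · exact Monoid.exponent_dvd_of_forall_pow_eq_one hQ4
    · rw [← howbar]; exact Monoid.order_dvd_exponent _
  haveI : Fact (Nat.Prime 2) := ⟨Nat.prime_two⟩
  rcases Cfsg.Agent.S0016.result 2 hQ2 huniqSub with hc | ⟨-, n, ⟨e⟩⟩
  · exact Or.inl (hcyc_case hc)
  · rcases n with _ | _ | k
    · left
      apply hcyc_case
      haveI : IsCyclic (QuaternionGroup (2 ^ 0)) := QuaternionGroup.quaternionGroup_one_isCyclic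
      exact isCyclic_of_surjective e.symm e.symm.surjective
    · right; exact ⟨e⟩
    · exfalso
      have ho : orderOf (e.symm (QuaternionGroup.a 1)) = 2 * 2 ^ (k + 1 + 1) := by
        rw [MulEquiv.orderOf_eq, QuaternionGroup.orderOf_a_one]
      have hd : orderOf (e.symm (QuaternionGroup.a 1)) ∣ 4 := orderOf_dvd_of_pow_eq_one (hQ4 _)
      rw [ho] at hd
      have : 2 * 2 ^ (k + 1 + 1) ≤ 4 := Nat.le_of_dvd (by norm_num) hd
      have h2 : 2 ^ (k + 1 + 1) = 4 * 2 ^ k := by ring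
      have h3 : 0 < 2 ^ k := by positivity
      omega

end CaseA

end Cfsg.Agent.helper17.E4
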