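import Mathlib
import Cfsg.Agent.Lib_helper17_E4b
import Cfsg.Agent.Lib_helper17_E4d

set_option autoImplicit false

namespace Cfsg.Agent.helper17.E4

variable {G : Type*} [Group G]

theorem not_mem_of_cube (h : LE4 G) (N : Subgroup G) (hN2 : IsPGroup 2 N) {s : G}
    (hs3 : s ^ 3 = 1) (hs1 : s ≠ 1) : s ∉ N := by
  intro hsN
  exact hs1 (eq_one_of_pow (h.pow_four_of_two_group hN2 hsN) hs3)

/-- elements of the coset `N s` of an element of order three have order three -/
theorem cube_coset (h : LE4 G) (N : Subgroup G) [hNn : N.Normal] (hN2 : IsPGroup 2 N) {s : G}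
    (hs3 : s ^ 3 = 1) (hs1 : s ≠ 1) : ∀ n ∈ N, (n * s) ^ 3 = 1 := by
  intro n hn
  have hsN : s ∉ N := not_mem_of_cube h N hN2 hs3 hs1
  have e1 : ((n * s : G) : G ⧸ N) = (s : G ⧸ N) := by
    rw [QuotientGroup.mk_mul, (QuotientGroup.eq_one_iff n).mpr hn, one_mul]
  have o3 : orderOf (s : G ⧸ N) = 3 := by
    have : Fact (Nat.Prime 3) := ⟨Nat.prime_three⟩
    apply orderOf_eq_prime
    · rw [← QuotientGroup.mk_pow, hs3]; rfl
    · intro e
      exact hsN ((QuotientGroup.eq_one_iff s).mp e)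
  have hd : orderOf ((n * s : G) : G ⧸ N) ∣ orderOf (n * s) :=
    orderOf_map_dvd (QuotientGroup.mk' N) (n * s)
  rw [e1, o3] at hd
  exact h.pow_three_of_dvd hd

theorem cubes_hyp (h : LE4 G) (N : Subgroup G) [hNn : N.Normal] (hN2 : IsPGroup 2 N) {s : G}
    (hs3 : s ^ 3 = 1) (hs1 : s ≠ 1) : ∀ n ∈ N, (n * s) ^ 3 = 1 ∧ (n * s⁻¹) ^ 3 = 1 := by
  intro n hn
  refine ⟨cube_coset h N hN2 hs3 hs1 n hn, cube_coset h N hN2 ?_ ?_ n hn⟩
  · rw [inv_pow, hs3, inv_one]
  · intro e
    exact hs1 (inv_eq_one.mp e)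

/-- conjugation by an element of order three is "norm-trivial" on a normal 2-subgroup of `N` -/
theorem norm_trivial (h : LE4 G) (N : Subgroup G) [hNn : N.Normal] (hN2 : IsPGroup 2 N)
    (W : Subgroup G) [hWn : W.Normal] (hWN : W ≤ N) {c : G}
    (hc3 : c ^ 3 = 1) (hc1 : c ≠ 1) (v : ↥W) :
    v * (MulAut.conjNormal c) v * (MulAut.conjNormal c) ((MulAut.conjNormal c) v) = 1 := by
  apply Subtype.ext
  have e := cube_coset h N hN2 hc3 hc1 (v : G) (hWN v.2)
  rw [cube_expand, hc3, mul_one] at e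
  simp only [Subgroup.coe_mul, MulAut.conjNormal_apply, Subgroup.coe_one]
  rw [← e]
  group

/-- two commuting elements of order three generate a cyclic group -/
theorem comm3 [Finite G] (h : LE4 G) (N : Subgroup G) [hNn : N.Normal] (hN2 : IsPGroup 2 N)
    (hNne : N ≠ ⊥) {a b : G} (ha3 : a ^ 3 = 1) (hb3 : b ^ 3 = 1) (hab : Commute a b)
    (ha1 : a ≠ 1) : b ∈ Subgroup.zpowers a := by
  by_contra hb
  -- the centre of N as a subgroup of G
  let W : Subgroup G := N ⊓ Subgroup.centralizer (N : Set G)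
  haveI hWn : W.Normal := inferInstance
  have hWN : W ≤ N := inf_le_left
  haveI hWc : IsMulCommutative ↥W := by
    refine ⟨⟨fun x y => ?_⟩⟩
    apply Subtype.ext
    have hx : (x : G) ∈ N ⊓ Subgroup.centralizer (N : Set G) := x.2
    have hy : (y : G) ∈ N ⊓ Subgroup.centralizer (N : Set G) := y.2
    rw [Subgroup.mem_inf] at hx hy
    obtain ⟨-, hxC⟩ := hx
    rw [Subgroup.mem_centralizer_iff] at hxC
    exact (hxC y hy.1).symm
  -- W nontrivial
  haveI : Nontrivial ↥N := (Subgroup.nontrivial_iff_ne_bot N).mpr hNne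
  haveI : Fact (Nat.Prime 2) := ⟨Nat.prime_two⟩
  have hcen : Nontrivial (Subgroup.center ↥N) := hN2.center_nontrivial
  obtain ⟨c, hc⟩ := exists_ne (1 : Subgroup.center ↥N)
  have hcW : ((c : ↥N) : G) ∈ W := by
    refine Subgroup.mem_inf.mpr ⟨(c : ↥N).2, ?_⟩
    rw [Subgroup.mem_centralizer_iff]
    intro n hn
    have := (Subgroup.mem_center_iff.mp c.2) ⟨n, hn⟩
    exact congrArg Subtype.val this
  have hc1 : ((c : ↥N) : G) ≠ 1 := by
    intro e
    apply hc
    apply Subtype.ext
    apply Subtype.ext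
    exact e
  -- elements
  have hb1 : b ≠ 1 := by
    intro e; apply hb; rw [e]; exact Subgroup.one_mem _
  have hab3 : (a * b) ^ 3 = 1 := by rw [hab.mul_pow, ha3, hb3, one_mul]
  have hab1 : a * b ≠ 1 := by
    intro e
    apply hb
    have : b = a⁻¹ := (eq_inv_of_mul_eq_one_right e)
    rw [this]
    exact Subgroup.inv_mem _ (Subgroup.mem_zpowers a)
  have habb3 : (a * b * b) ^ 3 = 1 := by
    have hc2 : Commute (a * b) b := hab.mul_left (Commute.refl b)
    rw [hc2.mul_pow, hab3, hb3, one_mul]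
  have habb1 : a * b * b ≠ 1 := by
    intro e
    apply hb
    have e2 : b * b = a⁻¹ := by
      have : a * (b * b) = 1 := by rw [← mul_assoc]; exact e
      exact eq_inv_of_mul_eq_one_right this
    have e3 : b = a⁻¹ * a⁻¹ := by
      calc b = b ^ 3 * b := by rw [hb3, one_mul]
        _ = (b * b) * (b * b) := by simp only [pow_succ, pow_zero, one_mul]; group
        _ = a⁻¹ * a⁻¹ := by rw [e2]
    rw [e3]
    exact Subgroup.mul_mem _ (Subgroup.inv_mem _ (Subgroup.mem_zpowers a))
      (Subgroup.inv_mem _ (Subgroup.mem_zpowers a))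
  let α : MulAut ↥W := MulAut.conjNormal a
  let β : MulAut ↥W := MulAut.conjNormal b
  have hmulab : ∀ v : ↥W, (MulAut.conjNormal (a * b) : MulAut ↥W) v = α (β v) := by
    intro v
    rw [map_mul]; rfl
  have hmulabb : ∀ v : ↥W, (MulAut.conjNormal (a * b * b) : MulAut ↥W) v = α (β (β v)) := by
    intro v
    rw [map_mul, map_mul]; rfl
  have key := cube_of_four α β
    (by
      intro v
      have e1 : (MulAut.conjNormal (a * b) : MulAut ↥W) v = α (β v) := hmulab v
      have e2 : (MulAut.conjNormal (b * a) : MulAut ↥W) v = β (α v) := by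
        rw [map_mul]; rfl
      rw [← e1, ← e2, hab.eq])
    (by
      intro v
      have e1 : (MulAut.conjNormal (b * b * b) : MulAut ↥W) v = β (β (β v)) := by
        rw [map_mul, map_mul]; rfl
      rw [← e1]
      have : b * b * b = 1 := by rw [← hb3]; simp only [pow_succ, pow_zero, one_mul]
      rw [this, map_one]; rfl)
    (fun v => norm_trivial h N hN2 W hWN ha3 ha1 v)
    (fun v => norm_trivial h N hN2 W hWN hb3 hb1 v)
    (by
      intro v
      have := norm_trivial h N hN2 W hWN hab3 hab1 v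
      rw [hmulab, hmulab] at this
      exact this)
    (by
      intro v
      have := norm_trivial h N hN2 W hWN habb3 habb1 v
      rw [hmulabb, hmulabb] at this
      exact this)
  have k3 := key ⟨_, hcW⟩
  have k3' : ((c : ↥N) : G) ^ 3 = 1 := by
    have := congrArg Subtype.val k3
    simpa using this
  have k4 : ((c : ↥N) : G) ^ 4 = 1 := h.pow_four_of_two_group hN2 (c : ↥N).2
  exact hc1 (eq_one_of_pow k4 k3')

end Cfsg.Agent.helper17.E4
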