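import Mathlib
import Cfsg.Agent.Lib_helper17_E4f
import Cfsg.Agent.Lib_helper2_PermIso

set_option autoImplicit false

namespace Cfsg.Agent.helper17.E4

variable {G : Type*} [Group G]

theorem not_nine_dvd [Finite G] (h : LE4 G) (N : Subgroup G) [hNn : N.Normal]
    (hN2 : IsPGroup 2 N) (hNne : N ≠ ⊥) : ¬ 9 ∣ Nat.card G := by
  intro h9
  haveI : Fact (Nat.Prime 3) := ⟨Nat.prime_three⟩
  obtain ⟨P⟩ : Nonempty (Sylow 3 G) := inferInstance
  have hPcard : 9 ∣ Nat.card P := by
    rw [Sylow.card_eq_multiplicity]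
    have h2 : 2 ≤ (Nat.card G).factorization 3 :=
      (Nat.Prime.pow_dvd_iff_le_factorization Nat.prime_three Nat.card_pos.ne').mp
        (by norm_num; exact h9)
    exact dvd_trans (by norm_num : 9 ∣ 3 ^ 2) (pow_dvd_pow 3 h2)
  have h9le : 9 ≤ Nat.card P := Nat.le_of_dvd Nat.card_pos hPcard
  haveI hPnt : Nontrivial P := by
    rw [← Finite.one_lt_card_iff_nontrivial]; omega
  have hcen : Nontrivial (Subgroup.center P) := (P.isPGroup').center_nontrivial
  obtain ⟨c, hc⟩ := exists_ne (1 : Subgroup.center P)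
  have ha1 : ((c : P) : G) ≠ 1 := by
    intro e
    apply hc
    apply Subtype.ext
    apply Subtype.ext
    exact e
  have ha3 : ((c : P) : G) ^ 3 = 1 := h.cube_of_three_group P.isPGroup' (c : P).2
  have hle : (P : Subgroup G) ≤ Subgroup.zpowers ((c : P) : G) := by
    intro g hg
    have hg3 : g ^ 3 = 1 := h.cube_of_three_group P.isPGroup' hg
    have hcomm : Commute ((c : P) : G) g := by
      have := (Subgroup.mem_center_iff.mp c.2) ⟨g, hg⟩
      exact (congrArg Subtype.val this).symm
    exact comm3 h N hN2 hNne ha3 hg3 hcomm ha1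
  have h3 : Nat.card P ≤ 3 := by
    calc Nat.card P ≤ Nat.card (Subgroup.zpowers ((c : P) : G)) := Subgroup.card_le_of_le hle
      _ = orderOf ((c : P) : G) := Nat.card_zpowers _
      _ = 3 := orderOf_eq_prime ha3 ha1
  omega

theorem card_three_group {Q : Type*} [Group Q] [Finite Q] (h9 : ¬ 9 ∣ Nat.card Q)
    (H : Subgroup Q) (hH : IsPGroup 3 H) (hne : H ≠ ⊥) : Nat.card H = 3 := by
  haveI : Fact (Nat.Prime 3) := ⟨Nat.prime_three⟩
  obtain ⟨j, hj⟩ := hH.exists_card_eq
  rcases j with _ | _ | j
  · exfalso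
    apply hne
    rw [pow_zero] at hj
    exact Subgroup.eq_bot_of_card_eq H hj
  · rw [hj]; norm_num
  · exfalso
    apply h9
    have : 9 ∣ Nat.card H := by
      rw [hj]
      exact ⟨3 ^ j, by ring⟩
    exact dvd_trans this (Subgroup.card_subgroup_dvd_card H)

theorem caseB_index [Finite G] (h : LE4 G) (hsol : Group.IsSolvable G) (N : Subgroup G)
    [hNn : N.Normal] (hN2 : IsPGroup 2 N) (hNne : N ≠ ⊥)
    (hmax : ∀ K : Subgroup G, K.Normal → IsPGroup 2 K → K ≤ N) (s : G) (hs : orderOf s = 3) :
    Nat.card (G ⧸ N) = 3 ∨ Nat.card (G ⧸ N) = 6 := by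
  have hLQ : LE4 (G ⧸ N) := h.quotient N
  have hs3 : s ^ 3 = 1 := by rw [← hs]; exact pow_orderOf_eq_one s
  have hs1 : s ≠ 1 := by intro e; rw [e, orderOf_one] at hs; omega
  have hsN : s ∉ N := not_mem_of_cube h N hN2 hs3 hs1
  have h9 : ¬ 9 ∣ Nat.card (G ⧸ N) := by
    intro hd
    apply not_nine_dvd h N hN2 hNne
    exact dvd_trans hd (Subgroup.card_quotient_dvd_card N)
  have htop : (⊤ : Subgroup (G ⧸ N)) ≠ ⊥ := by
    intro e
    apply hsN
    have : (s : G ⧸ N) ∈ (⊤ : Subgroup (G ⧸ N)) := Subgroup.mem_top _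
    rw [e, Subgroup.mem_bot] at this
    exact (QuotientGroup.eq_one_iff s).mp this
  have hsolT : Group.IsSolvable ↥(⊤ : Subgroup (G ⧸ N)) := inferInstance
  obtain ⟨p, hp, D, hDn, -, hDne, -, hDp⟩ :=
    Cfsg.Agent.helper8.CN.exists_normal_abelian_pgroup (⊤ : Subgroup (G ⧸ N)) hsolT htop
  obtain ⟨x, hxD, hx1⟩ : ∃ x : G ⧸ N, x ∈ D ∧ x ≠ 1 := by
    by_contra hcon
    push Not at hcon
    apply hDne
    rw [eq_bot_iff]
    intro y hy
    rw [Subgroup.mem_bot]
    exact hcon y hy
  -- p = 2 or 3
  have hp23 : p = 2 ∨ p = 3 := by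
    obtain ⟨k, hk⟩ := hDp ⟨x, hxD⟩
    have hk' : x ^ (p ^ k) = 1 := by
      have := congrArg Subtype.val hk
      simpa using this
    have hd : orderOf x ∣ p ^ k := orderOf_dvd_of_pow_eq_one hk'
    have hox1 : orderOf x ≠ 1 := fun e => hx1 (orderOf_eq_one_iff.mp e)
    rcases hLQ.cases x with e | e | e | e
    · exact absurd e hox1
    · left
      rw [e] at hd
      exact ((Nat.prime_dvd_prime_iff_eq Nat.prime_two hp).mp
        (Nat.Prime.dvd_of_dvd_pow Nat.prime_two hd)).symm
    · right
      rw [e] at hd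
      exact ((Nat.prime_dvd_prime_iff_eq Nat.prime_three hp).mp
        (Nat.Prime.dvd_of_dvd_pow Nat.prime_three hd)).symm
    · left
      rw [e] at hd
      have h2 : 2 ∣ p ^ k := dvd_trans (by norm_num) hd
      exact ((Nat.prime_dvd_prime_iff_eq Nat.prime_two hp).mp
        (Nat.Prime.dvd_of_dvd_pow Nat.prime_two h2)).symm
  rcases hp23 with rfl | rfl
  · -- p = 2 : contradiction with maximality
    exfalso
    have hK2 : IsPGroup 2 (D.comap (QuotientGroup.mk' N)) := by
      intro k
      have hkD : ((k : G) : G ⧸ N) ∈ D := k.2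
      obtain ⟨i, hi⟩ := hDp ⟨_, hkD⟩
      have hi' : ((k : G) : G ⧸ N) ^ (2 ^ i) = 1 := by
        have := congrArg Subtype.val hi
        simpa using this
      have hkN : (k : G) ^ (2 ^ i) ∈ N := by
        rw [← QuotientGroup.mk_pow] at hi'
        exact (QuotientGroup.eq_one_iff _).mp hi'
      obtain ⟨j, hj⟩ := hN2 ⟨_, hkN⟩
      have hj' : ((k : G) ^ (2 ^ i)) ^ (2 ^ j) = 1 := by
        have := congrArg Subtype.val hj
        simpa using this
      refine ⟨i + j, ?_⟩
      apply Subtype.ext
      rw [Subgroup.coe_pow, pow_add, pow_mul, hj']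
      rfl
    have hKN := hmax _ inferInstance hK2
    apply hx1
    obtain ⟨g, rfl⟩ := QuotientGroup.mk_surjective x
    have : g ∈ D.comap (QuotientGroup.mk' N) := hxD
    exact (QuotientGroup.eq_one_iff g).mpr (hKN this)
  · -- p = 3
    have hx3 : x ^ 3 = 1 := hLQ.cube_of_three_group hDp hxD
    have hox : orderOf x = 3 := by
      have : Fact (Nat.Prime 3) := ⟨Nat.prime_three⟩
      exact orderOf_eq_prime hx3 hx1
    have hDcard : Nat.card D = 3 := card_three_group h9 D hDp hDne
    have hDz : D = Subgroup.zpowers x := by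
      have hle : Subgroup.zpowers x ≤ D := by rw [Subgroup.zpowers_le]; exact hxD
      have : Nat.card (Subgroup.zpowers x) = 3 := by rw [Nat.card_zpowers, hox]
      exact (Subgroup.eq_of_le_of_card_ge hle (by rw [hDcard, this])).symm
    have hconj : ∀ q : G ⧸ N, q * x * q⁻¹ = x ∨ q * x * q⁻¹ = x⁻¹ := by
      intro q
      have hm : q * x * q⁻¹ ∈ D := hDn.conj_mem x hxD q
      rw [hDz, Subgroup.mem_zpowers_iff] at hm
      obtain ⟨k, hk⟩ := hm
      have hne1 : q * x * q⁻¹ ≠ 1 := by
        intro e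
        apply hx1
        have : x = q⁻¹ * (q * x * q⁻¹) * q := by group
        rw [this, e]; group
      rw [← zpow_mod_orderOf, hox] at hk
      push_cast at hk
      have hk0 : 0 ≤ k % 3 := Int.emod_nonneg k (by norm_num)
      have hk3 : k % 3 < 3 := Int.emod_lt_of_pos k (by norm_num)
      have hcases : k % 3 = 0 ∨ k % 3 = 1 ∨ k % 3 = 2 := by omega
      rcases hcases with e | e | e
      · rw [e, zpow_zero] at hk
        exact absurd hk.symm hne1
      · left; rw [e, zpow_one] at hk; exact hk.symm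
      · right
        rw [e] at hk
        rw [← hk]
        have : x ^ (2 : ℤ) * x = 1 := by
          have : x ^ (2 : ℤ) * x = x ^ 3 := by
            rw [show (2 : ℤ) = ((2 : ℕ) : ℤ) from rfl, zpow_natCast]
            exact (pow_succ x 2).symm
          rw [this, hx3]
        exact eq_inv_of_mul_eq_one_left this
    -- centralizer
    set C : Subgroup (G ⧸ N) := Subgroup.centralizer {x} with hC
    have hxC : x ∈ C := by
      rw [hC, Subgroup.mem_centralizer_singleton_iff]
    have hC3 : IsPGroup 3 C := by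
      intro c
      refine ⟨1, ?_⟩
      apply Subtype.ext
      have hcx : Commute (c : G ⧸ N) x :=
        Subgroup.mem_centralizer_singleton_iff.mp c.2
      rw [pow_one, Subgroup.coe_pow]
      show (c : G ⧸ N) ^ 3 = 1
      rcases hLQ.cases (c : G ⧸ N) with e | e | e | e
      · rw [orderOf_eq_one_iff.mp e, one_pow]
      · exfalso
        have h2 : (c : G ⧸ N) ^ 2 = 1 := by rw [← e]; exact pow_orderOf_eq_one _
        have h4 : (c : G ⧸ N) ^ 4 = 1 := by
          rw [show (4 : ℕ) = 2 * 2 from rfl, pow_mul, h2, one_pow]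
        have h1 : (c : G ⧸ N) ≠ 1 := by intro e1; rw [e1, orderOf_one] at e; omega
        exact hLQ.no_six hcx h4 h1 hx3 hx1
      · rw [← e]; exact pow_orderOf_eq_one _
      · exfalso
        have h4 : (c : G ⧸ N) ^ 4 = 1 := by rw [← e]; exact pow_orderOf_eq_one _
        have h1 : (c : G ⧸ N) ≠ 1 := by intro e1; rw [e1, orderOf_one] at e; omega
        exact hLQ.no_six hcx h4 h1 hx3 hx1
    have hCne : C ≠ ⊥ := by
      intro e
      rw [e, Subgroup.mem_bot] at hxC
      exact hx1 hxC
    have hCcard : Nat.card C = 3 := card_three_group h9 C hC3 hCne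
    have hidx : C.index = 1 ∨ C.index = 2 := by
      by_cases htop : C = ⊤
      · left; rw [htop, Subgroup.index_top]
      · right
        obtain ⟨a, ha⟩ : ∃ a : G ⧸ N, a ∉ C := by
          by_contra hcon
          push Not at hcon
          exact htop (eq_top_iff.mpr fun y _ => hcon y)
        have hnot : ∀ q : G ⧸ N, q ∉ C → q * x * q⁻¹ = x⁻¹ := by
          intro q hq
          rcases hconj q with e | e
          · exfalso
            apply hq
            rw [hC, Subgroup.mem_centralizer_singleton_iff]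
            symm
            calc x * q = (q * x * q⁻¹)⁻¹⁻¹ * q := by rw [e, inv_inv]
              _ = q * x := by group
          · exact e
        have hin : ∀ q : G ⧸ N, q * x * q⁻¹ = x → q ∈ C := by
          intro q e
          rw [hC, Subgroup.mem_centralizer_singleton_iff]
          symm
          calc x * q = (q * x * q⁻¹) * q := by rw [e]
            _ = q * x := by group
        rw [Subgroup.index_eq_two_iff]
        refine ⟨a, fun b => ?_⟩
        by_cases hb : b ∈ C
        · refine Or.inr ⟨hb, ?_⟩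
          intro hba
          apply ha
          have : a = b⁻¹ * (b * a) := by group
          rw [this]
          exact C.mul_mem (C.inv_mem hb) hba
        · refine Or.inl ⟨?_, hb⟩
          apply hin
          have e1 := hnot a ha
          have e2 := hnot b hb
          calc b * a * x * (b * a)⁻¹ = b * (a * x * a⁻¹) * b⁻¹ := by group
            _ = b * x⁻¹ * b⁻¹ := by rw [e1]
            _ = (b * x * b⁻¹)⁻¹ := by group
            _ = x := by rw [e2, inv_inv]
    have hmul := C.card_mul_index
    rcases hidx with e | e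
    · left; rw [← hmul, hCcard, e]
    · right; rw [← hmul, hCcard, e]

end Cfsg.Agent.helper17.E4
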