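import Mathlib
import Cfsg.Prelude.Def_Transfer
import Cfsg.Agent.Lib_helper17_E4c
import Cfsg.Agent.Lib_helper17_E4g

set_option autoImplicit false

namespace Cfsg.Agent.helper17.E4

variable {G : Type*} [Group G]

theorem conj_mem_zpowers_three {Q : Type*} [Group Q] {x q : Q} (hx3 : x ^ 3 = 1) (hx1 : x ≠ 1)
    (hm : q * x * q⁻¹ ∈ Subgroup.zpowers x) : q * x * q⁻¹ = x ∨ q * x * q⁻¹ = x⁻¹ := by
  have hox : orderOf x = 3 := by
    have : Fact (Nat.Prime 3) := ⟨Nat.prime_three⟩
    exact orderOf_eq_prime hx3 hx1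
  rw [Subgroup.mem_zpowers_iff] at hm
  obtain ⟨k, hk⟩ := hm
  have hne1 : q * x * q⁻¹ ≠ 1 := by
    intro e
    apply hx1
    have : x = q⁻¹ * (q * x * q⁻¹) * q := by group
    rw [this, e]; group
  rw [← zpow_mod_orderOf, hox] at hk
  push_cast at hk
  have hk0 : 0 ≤ k % 3 := Int.emod_nonneg k (by norm_num)
  have hk3 : k % 3 < 3 := Int.emod_lt_of_pos k (by norm_num)
  have hcases : k % 3 = 0 ∨ k % 3 = 1 ∨ k % 3 = 2 := by omega
  rcases hcases with e | e | e
  · rw [e, zpow_zero] at hk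
    exact absurd hk.symm hne1
  · left; rw [e, zpow_one] at hk; exact hk.symm
  · right
    rw [e] at hk
    rw [← hk]
    have : x ^ (2 : ℤ) * x = 1 := by
      have : x ^ (2 : ℤ) * x = x ^ 3 := by
        rw [show (2 : ℤ) = ((2 : ℕ) : ℤ) from rfl, zpow_natCast]
        exact (pow_succ x 2).symm
      rw [this, hx3]
    exact eq_inv_of_mul_eq_one_left this

theorem mem_zpowers_two {Q : Type*} [Group Q] {u x : Q} (huu : u * u = 1)
    (hm : x ∈ Subgroup.zpowers u) : x = 1 ∨ x = u := by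
  rw [Subgroup.mem_zpowers_iff] at hm
  obtain ⟨k, rfl⟩ := hm
  rcases Int.even_or_odd' k with ⟨m, e | e⟩
  · left
    rw [e, zpow_mul, zpow_two, huu, one_zpow]
  · right
    rw [e, zpow_add, zpow_mul, zpow_two, huu, one_zpow, one_mul, zpow_one]

theorem caseB_S3_iso [Finite G] (h : LE4 G) (N : Subgroup G) [hNn : N.Normal]
    (hN2 : IsPGroup 2 N) (hcard : Nat.card (G ⧸ N) = 6) (s : G) (hs : orderOf s = 3) :
    (∃ u : G, u ∉ N ∧ u * u ∈ N ∧ (u * s * u⁻¹) * s ∈ N) ∧
      Nonempty (G ⧸ N ≃* Equiv.Perm (Fin 3)) := by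
  classical
  have hLQ : LE4 (G ⧸ N) := h.quotient N
  have hs3 : s ^ 3 = 1 := by rw [← hs]; exact pow_orderOf_eq_one s
  have hs1 : s ≠ 1 := by intro e; rw [e, orderOf_one] at hs; omega
  have hsN : s ∉ N := not_mem_of_cube h N hN2 hs3 hs1
  set sbar : G ⧸ N := (s : G ⧸ N) with hsbar
  have hsb3 : sbar ^ 3 = 1 := by rw [hsbar, ← QuotientGroup.mk_pow, hs3]; rfl
  have hsb1 : sbar ≠ 1 := fun e => hsN ((QuotientGroup.eq_one_iff s).mp e)
  have hosb : orderOf sbar = 3 := by
    have : Fact (Nat.Prime 3) := ⟨Nat.prime_three⟩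
    exact orderOf_eq_prime hsb3 hsb1
  haveI : Fact (Nat.Prime 2) := ⟨Nat.prime_two⟩
  obtain ⟨ubar, hub⟩ := exists_prime_orderOf_dvd_card' (G := G ⧸ N) 2 (by rw [hcard]; norm_num)
  have hub2 : ubar * ubar = 1 := by rw [← pow_two, ← hub]; exact pow_orderOf_eq_one ubar
  have hub1 : ubar ≠ 1 := by intro e; rw [e, orderOf_one] at hub; omega
  have hub4 : ubar ^ 4 = 1 := by
    rw [show (4 : ℕ) = 2 * 2 from rfl, pow_mul, pow_two ubar, hub2, one_pow]
  -- ⟨sbar⟩ is normal of index 2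
  have hScard : Nat.card (Subgroup.zpowers sbar) = 3 := by rw [Nat.card_zpowers, hosb]
  have hSidx : (Subgroup.zpowers sbar).index = 2 := by
    have := (Subgroup.zpowers sbar).card_mul_index
    rw [hScard, hcard] at this
    omega
  have hSn : (Subgroup.zpowers sbar).Normal := Subgroup.normal_of_index_eq_two hSidx
  have hconj : ubar * sbar * ubar⁻¹ = sbar⁻¹ := by
    rcases conj_mem_zpowers_three hsb3 hsb1 (hSn.conj_mem sbar (Subgroup.mem_zpowers sbar) ubar)
      with e | e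
    · exfalso
      have hc : Commute ubar sbar := by
        show ubar * sbar = sbar * ubar
        calc ubar * sbar = (ubar * sbar * ubar⁻¹) * ubar := by group
          _ = sbar * ubar := by rw [e]
      exact hLQ.no_six hc hub4 hub1 hsb3 hsb1
    · exact e
  obtain ⟨u, rfl⟩ := QuotientGroup.mk_surjective ubar
  refine ⟨⟨u, ?_, ?_, ?_⟩, ?_⟩
  · intro hu
    exact hub1 ((QuotientGroup.eq_one_iff u).mpr hu)
  · rw [← QuotientGroup.mk_mul] at hub2
    exact (QuotientGroup.eq_one_iff _).mp hub2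
  · apply (QuotientGroup.eq_one_iff _).mp
    rw [QuotientGroup.mk_mul, QuotientGroup.mk_mul, QuotientGroup.mk_mul, QuotientGroup.mk_inv,
      ← hsbar, hconj, inv_mul_cancel]
  · -- the isomorphism
    set ubar : G ⧸ N := (u : G ⧸ N) with hubar
    set K : Subgroup (G ⧸ N) := Subgroup.zpowers ubar with hK
    have hKcard : Nat.card K = 2 := by rw [hK, Nat.card_zpowers, hub]
    have hKidx : K.index = 3 := by
      have := K.card_mul_index
      rw [hKcard, hcard] at this
      omega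
    have hcore : K.normalCore = ⊥ := by
      rw [eq_bot_iff]
      intro x hx
      rw [Subgroup.mem_bot]
      by_contra hx1
      have hxK : x ∈ K := Subgroup.normalCore_le K hx
      rcases mem_zpowers_two hub2 hxK with e | e
      · exact hx1 e
      · rw [e] at hx
        have hn : (K.normalCore).Normal := Subgroup.normalCore_normal K
        have h1 : sbar * ubar * sbar⁻¹ ∈ K := Subgroup.normalCore_le K (hn.conj_mem ubar hx sbar)
        rcases mem_zpowers_two hub2 h1 with e1 | e1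
        · apply hub1
          have : ubar = sbar⁻¹ * (sbar * ubar * sbar⁻¹) * sbar := by group
          rw [this, e1]; group
        · have hc : Commute ubar sbar := by
            show ubar * sbar = sbar * ubar
            calc ubar * sbar = (sbar * ubar * sbar⁻¹)⁻¹⁻¹ * sbar := by rw [e1, inv_inv]
              _ = sbar * ubar := by group
          exact hLQ.no_six hc hub4 hub1 hsb3 hsb1
    let φ : (G ⧸ N) →* Equiv.Perm ((G ⧸ N) ⧸ K) := MulAction.toPermHom (G ⧸ N) ((G ⧸ N) ⧸ K)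
    have hφ : Function.Injective φ := by
      rw [← MonoidHom.ker_eq_bot_iff, ← Subgroup.normalCore_eq_ker]
      exact hcore
    haveI : Fintype ((G ⧸ N) ⧸ K) := Fintype.ofFinite _
    have hX : Fintype.card ((G ⧸ N) ⧸ K) = 3 := by
      rw [← Nat.card_eq_fintype_card, ← Subgroup.index_eq_card]
      exact hKidx
    exact Cfsg.Agent.helper2.mulEquiv_perm_of_injective 3 hX φ hφ (by rw [hcard]; rfl)

theorem caseB_S3_t [Finite G] (h : LE4 G) (N : Subgroup G) [hNn : N.Normal]
    (hN2 : IsPGroup 2 N) {s u : G} (hs3 : s ^ 3 = 1) (hs1 : s ≠ 1) (huN : u ∉ N)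
    (huu : u * u ∈ N) (hus : (u * s * u⁻¹) * s ∈ N) :
    ∃ t : G, t * t = 1 ∧ t ∉ N ∧ t * s * t⁻¹ = s⁻¹ := by
  let f : ↥N → ↥N := fun n => ⟨(n : G) * (s⁻¹ * (n : G)⁻¹ * s),
    N.mul_mem n.2 (by
      have := hNn.conj_mem _ (N.inv_mem n.2) s⁻¹
      rwa [inv_inv] at this)⟩
  have hinj : Function.Injective f := by
    intro n m hnm
    have e : (n : G) * (s⁻¹ * (n : G)⁻¹ * s) = (m : G) * (s⁻¹ * (m : G)⁻¹ * s) :=
      congrArg Subtype.val hnm
    have hk : s⁻¹ * ((m : G)⁻¹ * (n : G)) * s = (m : G)⁻¹ * (n : G) := by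
      have e2 : (m : G)⁻¹ * (n : G) = (s⁻¹ * (m : G)⁻¹ * s) * (s⁻¹ * (n : G)⁻¹ * s)⁻¹ := by
        calc (m : G)⁻¹ * (n : G)
            = (m : G)⁻¹ * ((n : G) * (s⁻¹ * (n : G)⁻¹ * s)) * (s⁻¹ * (n : G)⁻¹ * s)⁻¹ := by group
          _ = (m : G)⁻¹ * ((m : G) * (s⁻¹ * (m : G)⁻¹ * s)) * (s⁻¹ * (n : G)⁻¹ * s)⁻¹ := by rw [e]
          _ = (s⁻¹ * (m : G)⁻¹ * s) * (s⁻¹ * (n : G)⁻¹ * s)⁻¹ := by group
      conv_rhs => rw [e2]
      group
    have hkN : (m : G)⁻¹ * (n : G) ∈ N := N.mul_mem (N.inv_mem m.2) n.2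
    have hk4 : ((m : G)⁻¹ * (n : G)) ^ 4 = 1 := h.pow_four_of_two_group hN2 hkN
    have hc : Commute ((m : G)⁻¹ * (n : G)) s := by
      show (m : G)⁻¹ * (n : G) * s = s * ((m : G)⁻¹ * (n : G))
      calc (m : G)⁻¹ * (n : G) * s = s * (s⁻¹ * ((m : G)⁻¹ * (n : G)) * s) := by group
        _ = s * ((m : G)⁻¹ * (n : G)) := by rw [hk]
    by_contra hne
    have hk1 : (m : G)⁻¹ * (n : G) ≠ 1 := by
      intro e1
      apply hne
      apply Subtype.ext
      have := inv_mul_eq_one.mp e1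
      exact this.symm
    exact h.no_six hc hk4 hk1 hs3 hs1
  have hsurj : Function.Surjective f := Finite.injective_iff_surjective.mp hinj
  obtain ⟨n, hn⟩ := hsurj ⟨_, hus⟩
  have e : (n : G) * (s⁻¹ * (n : G)⁻¹ * s) = (u * s * u⁻¹) * s := congrArg Subtype.val hn
  have e' : (n : G) * s⁻¹ * (n : G)⁻¹ = u * s * u⁻¹ := by
    calc (n : G) * s⁻¹ * (n : G)⁻¹ = ((n : G) * (s⁻¹ * (n : G)⁻¹ * s)) * s⁻¹ := by group
      _ = ((u * s * u⁻¹) * s) * s⁻¹ := by rw [e]
      _ = u * s * u⁻¹ := by group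
  have hts : ((n : G)⁻¹ * u) * s * ((n : G)⁻¹ * u)⁻¹ = s⁻¹ := by
    calc ((n : G)⁻¹ * u) * s * ((n : G)⁻¹ * u)⁻¹ = (n : G)⁻¹ * (u * s * u⁻¹) * (n : G) := by group
      _ = (n : G)⁻¹ * ((n : G) * s⁻¹ * (n : G)⁻¹) * (n : G) := by rw [e']
      _ = s⁻¹ := by group
  have htN : (n : G)⁻¹ * u ∉ N := by
    intro hin
    apply huN
    have : u = (n : G) * ((n : G)⁻¹ * u) := by group
    rw [this]
    exact N.mul_mem n.2 hin
  have httN : ((n : G)⁻¹ * u) * ((n : G)⁻¹ * u) ∈ N := by
    have : ((n : G)⁻¹ * u) * ((n : G)⁻¹ * u) = (n : G)⁻¹ * (u * (n : G)⁻¹ * u⁻¹) * (u * u) := by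
      group
    rw [this]
    exact N.mul_mem (N.mul_mem (N.inv_mem n.2) (hNn.conj_mem _ (N.inv_mem n.2) u)) huu
  refine ⟨(n : G)⁻¹ * u, ?_, htN, hts⟩
  set t := (n : G)⁻¹ * u with ht
  have hc : Commute (t * t) s := by
    show t * t * s = s * (t * t)
    have e1 : t * s = s⁻¹ * t := by
      calc t * s = (t * s * t⁻¹) * t := by group
        _ = s⁻¹ * t := by rw [hts]
    have e2 : t * s⁻¹ = s * t := by
      calc t * s⁻¹ = (t * s * t⁻¹)⁻¹ * t := by group
        _ = s * t := by rw [hts, inv_inv]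
    calc t * t * s = t * (t * s) := by group
      _ = t * (s⁻¹ * t) := by rw [e1]
      _ = (t * s⁻¹) * t := by group
      _ = (s * t) * t := by rw [e2]
      _ = s * (t * t) := by group
  by_contra hne
  exact h.no_six hc (h.pow_four_of_two_group hN2 httN) hne hs3 hs1

theorem caseB_S3_elem [Finite G] (h : LE4 G) (N : Subgroup G) [hNn : N.Normal]
    (hN2 : IsPGroup 2 N) {s t : G} (hs3 : s ^ 3 = 1) (hs1 : s ≠ 1) (htt : t * t = 1)
    (htN : t ∉ N) (hts : t * s * t⁻¹ = s⁻¹) : Cfsg.IsElementaryAbelian 2 N := by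
  have hti : t⁻¹ = t := inv_eq_of_mul_eq_one_left htt
  have hB : B2Hyp (MulAut.conjNormal s : MulAut ↥N) (MulAut.conjNormal t : MulAut ↥N) := by
    refine ⟨?_, ?_, ?_, ?_, ?_, ?_, ?_⟩
    · intro x
      exact norm_trivial h N hN2 N le_rfl hs3 hs1 x
    · intro x hx
      have e : s * (x : G) * s⁻¹ = x := by
        have := congrArg Subtype.val hx
        simpa [MulAut.conjNormal_apply] using this
      by_contra hx1
      have hc : Commute (x : G) s := by
        show (x : G) * s = s * x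
        calc (x : G) * s = (s * (x : G) * s⁻¹) * s := by rw [e]
          _ = s * x := by group
      exact h.no_six hc (h.pow_four_of_two_group hN2 x.2)
        (fun e1 => hx1 (Subtype.ext e1)) hs3 hs1
    · intro x
      apply Subtype.ext
      simp only [MulAut.conjNormal_apply]
      calc t * (t * (x : G) * t⁻¹) * t⁻¹ = (t * t) * x * (t * t)⁻¹ := by group
        _ = x := by rw [htt]; group
    · intro x
      apply Subtype.ext
      simp only [MulAut.conjNormal_apply]
      have e1 : s * t * s * t = 1 := by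
        have : t * s * t = s⁻¹ := by
          have := hts
          rwa [hti] at this
        calc s * t * s * t = s * (t * s * t) := by group
          _ = 1 := by rw [this]; group
      calc s * (t * (s * (t * (x : G) * t⁻¹) * s⁻¹) * t⁻¹) * s⁻¹
          = (s * t * s * t) * x * (s * t * s * t)⁻¹ := by group
        _ = x := by rw [e1]; group
    · intro x
      apply Subtype.ext
      simp only [Subgroup.coe_pow, Subgroup.coe_mul, MulAut.conjNormal_apply, Subgroup.coe_one]
      -- (t x)^4 = 1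
      have hLQ : LE4 (G ⧸ N) := h.quotient N
      have e1 : ((t * (x : G) : G) : G ⧸ N) = (t : G ⧸ N) := by
        rw [QuotientGroup.mk_mul, (QuotientGroup.eq_one_iff (x : G)).mpr x.2, mul_one]
      have o2 : orderOf (t : G ⧸ N) = 2 := by
        have : Fact (Nat.Prime 2) := ⟨Nat.prime_two⟩
        apply orderOf_eq_prime
        · rw [← QuotientGroup.mk_pow, pow_two, htt]; rfl
        · intro e
          exact htN ((QuotientGroup.eq_one_iff t).mp e)
      have hd : orderOf ((t * (x : G) : G) : G ⧸ N) ∣ orderOf (t * (x : G)) :=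
        orderOf_map_dvd (QuotientGroup.mk' N) (t * (x : G))
      rw [e1, o2] at hd
      have h4 := h.pow_four_of_dvd hd
      have e2 : (t * (x : G) * t⁻¹ * x) = (t * x) ^ 2 := by
        rw [pow_two]
        calc t * (x : G) * t⁻¹ * x = t * x * (t * t)⁻¹ * t * x := by group
          _ = t * x * (t * x) := by rw [htt]; group
      rw [e2, ← pow_mul]
      exact h4
    · intro x y z
      exact class_two_of_engel2 hN2 (engel2_of_cubes N s (cubes_hyp h N hN2 hs3 hs1)) x y z
    · intro x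
      apply Subtype.ext
      rw [Subgroup.coe_pow]
      exact h.pow_four_of_two_group hN2 x.2
  refine ⟨⟨⟨fun a b => hB.comm_all a b⟩⟩, ?_⟩
  intro a ha
  have := hB.sq_eq_one ⟨a, ha⟩
  have := congrArg Subtype.val this
  simpa using this

end Cfsg.Agent.helper17.E4
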