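import Mathlib
import Cfsg.Agent.Lib_helper17_ES5

/-! Abelian and elementary abelian subgroups of central type 2-groups (helper17). -/

set_option autoImplicit false

namespace Cfsg.Agent.helper17.ES

open scoped commutatorElement

universe u

variable {E : Type u} [Group E]

/-- commutativity of a subgroup, elementwise -/
def Ab (A : Subgroup E) : Prop := ∀ a ∈ A, ∀ b ∈ A, a * b = b * a

/-- exponent two -/
def Ex2 (A : Subgroup E) : Prop := ∀ a ∈ A, a ^ 2 = 1

theorem Ab.subgroupOf {A : Subgroup E} (hA : Ab A) (C : Subgroup E) : Ab (A.subgroupOf C) := by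
  intro a ha b hb
  apply Subtype.ext
  exact hA _ (Subgroup.mem_subgroupOf.mp ha) _ (Subgroup.mem_subgroupOf.mp hb)

theorem Ex2.subgroupOf {A : Subgroup E} (hA : Ex2 A) (C : Subgroup E) : Ex2 (A.subgroupOf C) := by
  intro a ha
  apply Subtype.ext
  have := hA _ (Subgroup.mem_subgroupOf.mp ha)
  simpa using this

theorem two_mul_card_le_of_lt [Finite E] {B A : Subgroup E} (hlt : B < A) :
    2 * Nat.card B ≤ Nat.card A := by
  obtain ⟨k, hk⟩ := Subgroup.card_dvd_of_le hlt.le
  have hpos : 0 < Nat.card A := Nat.card_pos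
  have hk0 : k ≠ 0 := by
    intro h0
    rw [h0, mul_zero] at hk
    omega
  have hk1 : k ≠ 1 := by
    intro h1
    rw [h1, mul_one] at hk
    exact hlt.ne (Subgroup.eq_of_le_of_card_ge hlt.le hk.le)
  have h4 : 2 ≤ k := by omega
  rw [hk]
  calc 2 * Nat.card B ≤ k * Nat.card B := Nat.mul_le_mul_right _ h4
    _ = Nat.card B * k := mul_comm _ _

section

variable [Finite E] {z : E} (h : Z2 E z)

include h

theorem card_le_two_mul_subgroupOf (A : Subgroup E) (hA : Ab A) (a y : E) (ha : a ∈ A) :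
    Nat.card A ≤ 2 * Nat.card (A.subgroupOf (pairCent a y)) := by
  let f : A →* Subgroup.center E := (commHom h.cl y).comp A.subtype
  have h1 : Nat.card f.ker ≤ Nat.card (A.subgroupOf (pairCent a y)) := by
    have hmem : ∀ g : f.ker, ((g : A) : E) ∈ pairCent a y := by
      intro g
      rw [mem_pairCent]
      refine ⟨hA _ (g : A).2 _ ha, ?_⟩
      have h2 : f (g : A) = 1 := g.2
      have h3 : ⁅((g : A) : E), y⁆ = 1 := congrArg Subtype.val h2
      exact commutatorElement_eq_one_iff_mul_comm.mp h3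
    apply Nat.card_le_card_of_injective
      (fun g : f.ker => (⟨⟨((g : A) : E), hmem g⟩, (g : A).2⟩ : A.subgroupOf (pairCent a y)))
    intro g g' hgg
    have h2 : ((g : A) : E) = ((g' : A) : E) := by
      have := congrArg (fun t : A.subgroupOf (pairCent a y) => ((t : pairCent a y) : E)) hgg
      exact this
    exact Subtype.ext (Subtype.ext h2)
  have h2 : Nat.card f.range ≤ 2 := by
    have := Subgroup.card_le_card_group f.range
    rw [h.ct.1] at this
    exact this
  have h3 := Subgroup.card_mul_index f.ker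
  rw [Subgroup.index_ker] at h3
  calc Nat.card A = Nat.card f.ker * Nat.card f.range := h3.symm
    _ ≤ Nat.card (A.subgroupOf (pairCent a y)) * 2 := Nat.mul_le_mul h1 h2
    _ = 2 * Nat.card (A.subgroupOf (pairCent a y)) := by ring

end

/-- abelian subgroups have order at most `2^(n+1)`. -/
theorem abelian_bound : ∀ (n : ℕ) (E : Type u) [Group E] [Finite E], CT 2 E →
    Nat.card E = 2 ^ (2 * n + 1) → ∀ A : Subgroup E, Ab A → Nat.card A ≤ 2 ^ (n + 1) := by
  intro n
  induction n with
  | zero =>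
    intro E _ _ hE hcard A _
    have := Subgroup.card_le_card_group A
    rw [hcard] at this
    simpa using this
  | succ n ih =>
    intro E _ _ hE hcard A hA
    haveI : Fact (Nat.Prime 2) := ⟨Nat.prime_two⟩
    obtain ⟨z, hz⟩ := exists_Z2 hE
    by_cases hAZ : A ≤ Subgroup.center E
    · have := Subgroup.card_le_of_le hAZ
      rw [hE.1] at this
      calc Nat.card A ≤ 2 := this
        _ = 2 ^ 1 := by norm_num
        _ ≤ 2 ^ (n + 1 + 1) := Nat.pow_le_pow_right (by norm_num) (by omega)
    · rw [SetLike.not_le_iff_exists] at hAZ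
      obtain ⟨a, haA, haZ⟩ := hAZ
      obtain ⟨y, hy⟩ := exists_comm_ne_of_not_mem_center haZ
      obtain ⟨hc1, _, hC, _⟩ := split hE a y hy
      have e1 : (2 : ℕ) ^ (2 * (n + 1) + 1) = 2 ^ (2 * n + 1) * 2 ^ 2 := by
        rw [← pow_add]; congr 1
      have hcC : Nat.card (pairCent a y) = 2 ^ (2 * n + 1) := by
        rw [hcard, e1] at hc1
        exact (Nat.eq_of_mul_eq_mul_right (by norm_num) hc1).symm
      have h1 := ih (pairCent a y) hC hcC _ (hA.subgroupOf _)
      have h2 := card_le_two_mul_subgroupOf hz A hA a y haA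
      calc Nat.card A ≤ 2 * Nat.card (A.subgroupOf (pairCent a y)) := h2
        _ ≤ 2 * 2 ^ (n + 1) := Nat.mul_le_mul_left _ h1
        _ = 2 ^ (n + 1 + 1) := by rw [pow_succ 2 (n + 1)]; ring

/-- an elementary abelian subgroup of the largest conceivable order forces plus type. -/
theorem plus_of_big : ∀ (n : ℕ) (E : Type u) [Group E] [Finite E], CT 2 E →
    Nat.card E = 2 ^ (2 * n + 1) → ∀ A : Subgroup E, Ab A → Ex2 A → Nat.card A = 2 ^ (n + 1) →
    sCount E = 2 ^ (2 * n) + 2 ^ n := by
  intro n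
  induction n with
  | zero =>
    intro E _ _ hE hcard A _ _ _
    simp only [mul_zero, zero_add, pow_one] at hcard
    rw [sCount_of_card_two hcard]
    norm_num
  | succ n ih =>
    intro E _ _ hE hcard A hA hA2 hAc
    haveI : Fact (Nat.Prime 2) := ⟨Nat.prime_two⟩
    obtain ⟨z, hz⟩ := exists_Z2 hE
    have hAZ : ¬ A ≤ Subgroup.center E := by
      intro hle
      have := Subgroup.card_le_of_le hle
      rw [hE.1, hAc] at this
      have h4 : (2 : ℕ) ^ 2 ≤ 2 ^ (n + 1 + 1) := Nat.pow_le_pow_right (by norm_num) (by omega)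
      omega
    rw [SetLike.not_le_iff_exists] at hAZ
    obtain ⟨t, htA, htZ⟩ := hAZ
    have ht : t ^ 2 = 1 := hA2 t htA
    obtain ⟨y, hy⟩ := exists_comm_ne_of_not_mem_center htZ
    obtain ⟨hc1, _, hC, _⟩ := split hE t y hy
    have e1 : (2 : ℕ) ^ (2 * (n + 1) + 1) = 2 ^ (2 * n + 1) * 2 ^ 2 := by
      rw [← pow_add]; congr 1
    have hcC : Nat.card (pairCent t y) = 2 ^ (2 * n + 1) := by
      rw [hcard, e1] at hc1
      exact (Nat.eq_of_mul_eq_mul_right (by norm_num) hc1).symm
    have h1 := abelian_bound n (pairCent t y) hC hcC _ (hA.subgroupOf _)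
    have h2 := card_le_two_mul_subgroupOf hz A hA t y htA
    have e5 : (2 : ℕ) ^ (n + 1 + 1) = 2 * 2 ^ (n + 1) := by rw [pow_succ 2 (n + 1)]; ring
    have h3 : Nat.card (A.subgroupOf (pairCent t y)) = 2 ^ (n + 1) := by
      rw [hAc, e5] at h2
      omega
    have h4 := ih (pairCent t y) hC hcC _ (hA.subgroupOf _) (hA2.subgroupOf _) h3
    rw [s_of_invol hz t y hy ht, h4, hcC]
    have e2 : (2 : ℕ) ^ (2 * n + 1) = 2 * 2 ^ (2 * n) := by rw [pow_succ]; ring
    have e3 : (2 : ℕ) ^ (2 * (n + 1)) = 4 * 2 ^ (2 * n) := by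
      rw [show 2 * (n + 1) = 2 * n + 2 by ring, pow_add]; ring
    have e4 : (2 : ℕ) ^ (n + 1) = 2 * 2 ^ n := by rw [pow_succ]; ring
    rw [e2, e3, e4]; ring

end Cfsg.Agent.helper17.ES
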