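import Mathlib
import Cfsg.Agent.Lib_helper17_ES6

/-! Existence of large elementary abelian subgroups in central type 2-groups (helper17). -/

set_option autoImplicit false

namespace Cfsg.Agent.helper17.ES

open scoped commutatorElement

universe u

variable {E : Type u} [Group E]

theorem adjoin_aux {B : Subgroup E} {t : E} (ht : t * t = 1) (hc : ∀ b ∈ B, t * b = b * t)
    {g : E} (hg : t * g ∈ B) : t * g = g * t := by
  have h2 := hc _ hg
  have h3 : g = t * g * t := by rw [← h2, ← mul_assoc, ht, one_mul]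
  have h4 : g * t = t * g * t * t := congrArg (· * t) h3
  rw [mul_assoc (t * g), ht, mul_one] at h4
  exact h4.symm

/-- adjoin a commuting involution to a subgroup -/
def adjoin (B : Subgroup E) (t : E) (ht : t * t = 1) (hc : ∀ b ∈ B, t * b = b * t) : Subgroup E where
  carrier := {g | g ∈ B ∨ t * g ∈ B}
  one_mem' := Or.inl B.one_mem
  mul_mem' := by
    rintro g₁ g₂ (h1 | h1) (h2 | h2)
    · exact Or.inl (B.mul_mem h1 h2)
    · right
      have : t * (g₁ * g₂) = g₁ * (t * g₂) := by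
        rw [← mul_assoc, hc g₁ h1, mul_assoc]
      rw [this]
      exact B.mul_mem h1 h2
    · right
      rw [← mul_assoc]
      exact B.mul_mem h1 h2
    · left
      have h3 := adjoin_aux ht hc h1
      have : g₁ * g₂ = (t * g₁) * (t * g₂) := by
        rw [h3, mul_assoc, ← mul_assoc t t, ht, one_mul]
      rw [this]
      exact B.mul_mem h1 h2
  inv_mem' := by
    rintro g (h1 | h1)
    · exact Or.inl (B.inv_mem h1)
    · right
      have h3 := adjoin_aux ht hc h1
      have hti : t⁻¹ = t := inv_eq_of_mul_eq_one_left ht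
      have : t * g⁻¹ = (t * g)⁻¹ := by
        rw [h3, mul_inv_rev, hti]
      rw [this]
      exact B.inv_mem h1

section adjoin

variable (B : Subgroup E) (t : E) (ht : t * t = 1) (hc : ∀ b ∈ B, t * b = b * t)

theorem le_adjoin : B ≤ adjoin B t ht hc := fun _ hb => Or.inl hb

theorem mem_adjoin_self : t ∈ adjoin B t ht hc := Or.inr (by rw [ht]; exact B.one_mem)

theorem mem_adjoin_cases {g : E} (hg : g ∈ adjoin B t ht hc) :
    ∃ b ∈ B, g = b ∨ g = t * b := by
  rcases hg with h1 | h1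
  · exact ⟨g, h1, Or.inl rfl⟩
  · exact ⟨t * g, h1, Or.inr (by rw [← mul_assoc, ht, one_mul])⟩

theorem adjoin_ab (hB : Ab B) : Ab (adjoin B t ht hc) := by
  intro g₁ hg₁ g₂ hg₂
  obtain ⟨b₁, hb₁, h1⟩ := mem_adjoin_cases B t ht hc hg₁
  obtain ⟨b₂, hb₂, h2⟩ := mem_adjoin_cases B t ht hc hg₂
  have c12 : Commute b₁ b₂ := hB _ hb₁ _ hb₂
  have ct1 : Commute t b₁ := hc _ hb₁
  have ct2 : Commute t b₂ := hc _ hb₂
  rcases h1 with rfl | rfl <;> rcases h2 with rfl | rfl
  · exact c12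
  · exact (Commute.mul_right ct1.symm c12).eq
  · exact (Commute.mul_left ct2 c12).eq
  · exact (Commute.mul_left (Commute.mul_right (Commute.refl t) ct2)
      (Commute.mul_right ct1.symm c12)).eq

theorem adjoin_ex2 (hB : Ex2 B) : Ex2 (adjoin B t ht hc) := by
  intro g hg
  obtain ⟨b, hb, h1⟩ := mem_adjoin_cases B t ht hc hg
  have ct : Commute t b := hc _ hb
  rcases h1 with rfl | rfl
  · exact hB _ hb
  · rw [ct.mul_pow, hB _ hb, pow_two, ht, one_mul]

theorem two_mul_card_le_adjoin [Finite E] (htB : t ∉ B) :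
    2 * Nat.card B ≤ Nat.card (adjoin B t ht hc) := by
  apply two_mul_card_le_of_lt
  refine lt_of_le_of_ne (le_adjoin B t ht hc) ?_
  intro h
  apply htB
  rw [h]
  exact mem_adjoin_self B t ht hc

end adjoin

/-- adjoining the involution `t` to an elementary abelian subgroup of `C_E(t, y)`. -/
theorem EA_step [Finite E] (t y : E) (hty : ⁅t, y⁆ ≠ 1) (ht : t ^ 2 = 1)
    (B : Subgroup (pairCent t y)) (hB : Ab B) (hB2 : Ex2 B) :
    ∃ A : Subgroup E, Ab A ∧ Ex2 A ∧ 2 * Nat.card B ≤ Nat.card A := by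
  set B' : Subgroup E := B.map (pairCent t y).subtype with hB'
  have hcard : Nat.card B' = Nat.card B :=
    Subgroup.card_map_of_injective (Subgroup.subtype_injective _)
  have hBC : B' ≤ pairCent t y := Subgroup.map_subtype_le _
  have hab : Ab B' := by
    rintro _ ⟨a, ha, rfl⟩ _ ⟨b, hb, rfl⟩
    have := hB a ha b hb
    have h2 := congrArg Subtype.val this
    simpa using h2
  have hex : Ex2 B' := by
    rintro _ ⟨a, ha, rfl⟩
    have := hB2 a ha
    have h2 := congrArg Subtype.val this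
    simpa using h2
  have htt : t * t = 1 := by rw [← pow_two]; exact ht
  have hc : ∀ b ∈ B', t * b = b * t := by
    intro b hb
    exact ((mem_pairCent.mp (hBC hb)).1).symm
  have htB : t ∉ B' := by
    intro h1
    have h2 := (mem_pairCent.mp (hBC h1)).2
    apply hty
    rw [commutatorElement_eq_one_iff_mul_comm]
    exact h2
  refine ⟨adjoin B' t htt hc, adjoin_ab B' t htt hc hab, adjoin_ex2 B' t htt hc hex, ?_⟩
  rw [← hcard]
  exact two_mul_card_le_adjoin B' t htt hc htB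

theorem center_ab : Ab (Subgroup.center E) := by
  intro a ha b _
  exact ((Subgroup.mem_center_iff.mp ha) b).symm

theorem center_ex2 {z : E} (h : Z2 E z) : Ex2 (Subgroup.center E) := by
  intro a ha
  rcases h.only a ha with rfl | rfl
  · simp
  · rw [pow_two]; exact h.sq

/-- plus type groups have an elementary abelian subgroup of order `2^(n+1)`. -/
theorem exists_EA_plus : ∀ (n : ℕ) (E : Type u) [Group E] [Finite E], CT 2 E → IsPlus E n →
    ∃ A : Subgroup E, Ab A ∧ Ex2 A ∧ 2 ^ (n + 1) ≤ Nat.card A := by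
  intro n
  induction n with
  | zero =>
    intro E _ _ hE _
    obtain ⟨z, hz⟩ := exists_Z2 hE
    refine ⟨Subgroup.center E, center_ab, center_ex2 hz, ?_⟩
    rw [hE.1]; norm_num
  | succ n ih =>
    intro E _ _ hE hp
    haveI : Fact (Nat.Prime 2) := ⟨Nat.prime_two⟩
    obtain ⟨z, hz⟩ := exists_Z2 hE
    obtain ⟨hcard, hs⟩ := hp
    have e1 : (2 : ℕ) ^ (2 * (n + 1) + 1) = 2 ^ (2 * n + 1) * 2 ^ 2 := by
      rw [← pow_add]; congr 1
    have e2 : (2 : ℕ) ^ (2 * n + 1) = 2 * 2 ^ (2 * n) := by rw [pow_succ]; ring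
    have e3 : (2 : ℕ) ^ (2 * (n + 1)) = 4 * 2 ^ (2 * n) := by
      rw [show 2 * (n + 1) = 2 * n + 2 by ring, pow_add]; ring
    have e4 : (2 : ℕ) ^ (n + 1) = 2 * 2 ^ n := by rw [pow_succ]; ring
    have hpos : 0 < 2 ^ n := Nat.pos_of_ne_zero (by positivity)
    have hpos2 : 0 < 2 ^ (2 * n) := Nat.pos_of_ne_zero (by positivity)
    have hs2 : 2 < sCount E := by rw [hs, e3, e4]; omega
    obtain ⟨t, htc, ht⟩ := exists_noncentral_invol hz hs2
    obtain ⟨y, hy⟩ := exists_comm_ne_of_not_mem_center htc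
    obtain ⟨hc1, _, hC, _⟩ := split hE t y hy
    have hcC : Nat.card (pairCent t y) = 2 ^ (2 * n + 1) := by
      rw [hcard, e1] at hc1
      exact (Nat.eq_of_mul_eq_mul_right (by norm_num) hc1).symm
    have hsC : sCount (pairCent t y) = 2 ^ (2 * n) + 2 ^ n := by
      have h1 := s_of_invol hz t y hy ht
      rw [hs, hcC, e2, e3, e4] at h1
      omega
    obtain ⟨B, hB, hB2, hBc⟩ := ih (pairCent t y) hC ⟨hcC, hsC⟩
    obtain ⟨A, hA, hA2, hAc⟩ := EA_step t y hy ht B hB hB2
    refine ⟨A, hA, hA2, ?_⟩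
    calc 2 ^ (n + 1 + 1) = 2 * 2 ^ (n + 1) := by rw [pow_succ 2 (n + 1)]; ring
      _ ≤ 2 * Nat.card B := Nat.mul_le_mul_left _ hBc
      _ ≤ Nat.card A := hAc

/-- minus type groups have an elementary abelian subgroup of order `2^n`. -/
theorem exists_EA_minus : ∀ (n : ℕ) (E : Type u) [Group E] [Finite E], CT 2 E → IsMinus E n →
    ∃ A : Subgroup E, Ab A ∧ Ex2 A ∧ 2 ^ n ≤ Nat.card A := by
  intro n
  induction n with
  | zero =>
    intro E _ _ _ hm
    exact absurd hm.2.1 (by norm_num)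
  | succ n ih =>
    intro E _ _ hE hm
    haveI : Fact (Nat.Prime 2) := ⟨Nat.prime_two⟩
    obtain ⟨z, hz⟩ := exists_Z2 hE
    obtain ⟨hcard, _, hs⟩ := hm
    rcases Nat.eq_zero_or_pos n with hn0 | hn1
    · subst hn0
      refine ⟨Subgroup.center E, center_ab, center_ex2 hz, ?_⟩
      rw [hE.1]; norm_num
    have e1 : (2 : ℕ) ^ (2 * (n + 1) + 1) = 2 ^ (2 * n + 1) * 2 ^ 2 := by
      rw [← pow_add]; congr 1
    have e2 : (2 : ℕ) ^ (2 * n + 1) = 2 * 2 ^ (2 * n) := by rw [pow_succ]; ring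
    have e3 : (2 : ℕ) ^ (2 * (n + 1)) = 4 * 2 ^ (2 * n) := by
      rw [show 2 * (n + 1) = 2 * n + 2 by ring, pow_add]; ring
    have e4 : (2 : ℕ) ^ (n + 1) = 2 * 2 ^ n := by rw [pow_succ]; ring
    have e6 : (2 : ℕ) ^ (2 * n) = 2 ^ n * 2 ^ n := by rw [two_mul, pow_add]
    have hpos : 2 ≤ 2 ^ n := by
      calc 2 = 2 ^ 1 := by norm_num
        _ ≤ 2 ^ n := Nat.pow_le_pow_right (by norm_num) hn1
    have hsq : 2 * 2 ^ n ≤ 2 ^ (2 * n) := by
      rw [e6]; exact Nat.mul_le_mul_right _ hpos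
    have hs2 : 2 < sCount E := by
      rw [e3, e4] at hs
      omega
    obtain ⟨t, htc, ht⟩ := exists_noncentral_invol hz hs2
    obtain ⟨y, hy⟩ := exists_comm_ne_of_not_mem_center htc
    obtain ⟨hc1, _, hC, _⟩ := split hE t y hy
    have hcC : Nat.card (pairCent t y) = 2 ^ (2 * n + 1) := by
      rw [hcard, e1] at hc1
      exact (Nat.eq_of_mul_eq_mul_right (by norm_num) hc1).symm
    have hsC : sCount (pairCent t y) + 2 ^ n = 2 ^ (2 * n) := by
      have h1 := s_of_invol hz t y hy ht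
      rw [hcC, e2] at h1
      rw [e3, e4] at hs
      omega
    obtain ⟨B, hB, hB2, hBc⟩ := ih (pairCent t y) hC ⟨hcC, hn1, hsC⟩
    obtain ⟨A, hA, hA2, hAc⟩ := EA_step t y hy ht B hB hB2
    refine ⟨A, hA, hA2, ?_⟩
    calc 2 ^ (n + 1) = 2 * 2 ^ n := e4
      _ ≤ 2 * Nat.card B := Nat.mul_le_mul_left _ hBc
      _ ≤ Nat.card A := hAc

end Cfsg.Agent.helper17.ES
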