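import Mathlib

set_option autoImplicit false

/-! Class-two groups with centre of order two: `|C_Q(H)| * |H| = 2 * |Q|` for `Z(Q) ≤ H`. -/

namespace Cfsg.Agent.helper9

open scoped commutatorElement

section Class2

variable {Q : Type*} [Group Q]

theorem comm_mul_left_of_class2 (hcl : ∀ x y : Q, ⁅x, y⁆ ∈ Subgroup.center Q) (a b x : Q) :
    ⁅a * b, x⁆ = ⁅a, x⁆ * ⁅b, x⁆ := by
  have h1 : ⁅a * b, x⁆ = a * ⁅b, x⁆ * a⁻¹ * ⁅a, x⁆ := by
    simp only [commutatorElement_def]; group
  have h2 : a * ⁅b, x⁆ = ⁅b, x⁆ * a := Subgroup.mem_center_iff.mp (hcl b x) a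
  have h3 : ⁅a, x⁆ * ⁅b, x⁆ = ⁅b, x⁆ * ⁅a, x⁆ := Subgroup.mem_center_iff.mp (hcl b x) _
  rw [h1, h2, mul_assoc ⁅b, x⁆ a a⁻¹, mul_inv_cancel, mul_one, h3]

/-- commutation with `x`, as a hom `K →* Z(Q)`. -/
def commHom (hcl : ∀ x y : Q, ⁅x, y⁆ ∈ Subgroup.center Q) (K : Subgroup Q) (x : Q) :
    K →* Subgroup.center Q :=
  MonoidHom.mk' (fun k => ⟨⁅(k : Q), x⁆, hcl _ _⟩) (by
    intro a b
    apply Subtype.ext
    simp only [Subgroup.coe_mul]
    exact comm_mul_left_of_class2 hcl a b x)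

theorem mem_ker_commHom (hcl : ∀ x y : Q, ⁅x, y⁆ ∈ Subgroup.center Q) (K : Subgroup Q) (x : Q)
    (k : K) : k ∈ (commHom hcl K x).ker ↔ (k : Q) * x = x * k := by
  rw [MonoidHom.mem_ker]
  constructor
  · intro h
    have h1 : ⁅(k : Q), x⁆ = 1 := congrArg Subtype.val h
    exact commutatorElement_eq_one_iff_mul_comm.mp h1
  · intro h
    apply Subtype.ext
    exact commutatorElement_eq_one_iff_mul_comm.mpr h

/-- If some element of `K` does not commute with `x`, exactly half of `K` does. -/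
theorem card_commuting_mul_two [Finite Q] (hcl : ∀ x y : Q, ⁅x, y⁆ ∈ Subgroup.center Q)
    (hZ : Nat.card (Subgroup.center Q) = 2) (K : Subgroup Q) (x : Q)
    (hx : ∃ k ∈ K, k * x ≠ x * k) :
    Nat.card {k : K // (k : Q) * x = x * k} * 2 = Nat.card K := by
  haveI : Fact (Nat.card (Subgroup.center Q)).Prime := ⟨by rw [hZ]; exact Nat.prime_two⟩
  have hr : (commHom hcl K x).range = ⊤ := by
    rcases Subgroup.eq_bot_or_eq_top_of_prime_card (commHom hcl K x).range with h | h
    · exfalso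
      obtain ⟨k, hk, hne⟩ := hx
      have h1 : (commHom hcl K x) ⟨k, hk⟩ ∈ (commHom hcl K x).range := ⟨_, rfl⟩
      rw [h, Subgroup.mem_bot] at h1
      exact hne ((mem_ker_commHom hcl K x ⟨k, hk⟩).mp h1)
    · exact h
  have hidx : (commHom hcl K x).ker.index = 2 := by
    rw [Subgroup.index_ker, hr, Subgroup.card_top, hZ]
  have h2 := Subgroup.card_mul_index (commHom hcl K x).ker
  rw [hidx] at h2
  rw [← h2]
  congr 1
  apply Nat.card_congr
  exact Equiv.subtypeEquivRight (fun k => (mem_ker_commHom hcl K x k).symm)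

/-- counting form over `Q`: the number of elements of `K` commuting with `x`. -/
theorem card_comm_all [Finite Q] (K : Subgroup Q) (x : Q) (hx : ∀ k ∈ K, k * x = x * k) :
    Nat.card {k : Q // k ∈ K ∧ k * x = x * k} = Nat.card K := by
  apply Nat.card_congr
  exact Equiv.subtypeEquivRight (fun k => ⟨fun h => h.1, fun h => ⟨h, hx k h⟩⟩)

theorem card_comm_half [Finite Q] (hcl : ∀ x y : Q, ⁅x, y⁆ ∈ Subgroup.center Q)
    (hZ : Nat.card (Subgroup.center Q) = 2) (K : Subgroup Q) (x : Q)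
    (hx : ¬ ∀ k ∈ K, k * x = x * k) :
    Nat.card {k : Q // k ∈ K ∧ k * x = x * k} * 2 = Nat.card K := by
  push Not at hx
  rw [← card_commuting_mul_two hcl hZ K x hx]
  congr 1
  apply Nat.card_congr
  exact (Equiv.subtypeSubtypeEquivSubtypeInter (fun k : Q => k ∈ K)
    (fun k : Q => k * x = x * k)).symm

/-- **Duality** in a class-two group with centre of order two:
`|C_Q(H)| * |H| = 2 * |Q|` whenever `Z(Q) ≤ H`. -/
theorem card_centralizer_mul_card [Finite Q] (hcl : ∀ x y : Q, ⁅x, y⁆ ∈ Subgroup.center Q)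
    (hZ : Nat.card (Subgroup.center Q) = 2) (H : Subgroup Q) (hZH : Subgroup.center Q ≤ H) :
    Nat.card (Subgroup.centralizer (H : Set Q)) * Nat.card H = 2 * Nat.card Q := by
  classical
  haveI : Fintype Q := Fintype.ofFinite Q
  -- counting functions
  have hcnt : ∀ (K : Subgroup Q) (x : Q),
      Nat.card {k : Q // k ∈ K ∧ k * x = x * k} =
        ∑ k : Q, if (k ∈ K ∧ k * x = x * k) then 1 else 0 := by
    intro K x
    rw [Nat.card_eq_fintype_card, Fintype.card_subtype, Finset.card_filter]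
  -- double counting
  have hdc : ∑ h : Q, (if h ∈ H then Nat.card {q : Q // q ∈ (⊤ : Subgroup Q) ∧ q * h = h * q} else 0)
      = ∑ q : Q, Nat.card {h : Q // h ∈ H ∧ h * q = q * h} := by
    simp_rw [hcnt]
    rw [Finset.sum_comm]
    apply Finset.sum_congr rfl
    intro h _
    by_cases hh : h ∈ H
    · rw [if_pos hh]
      apply Finset.sum_congr rfl
      intro q _
      simp only [Subgroup.mem_top, true_and, hh]
      by_cases hc : q * h = h * q
      · rw [if_pos hc, if_pos hc.symm]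
      · rw [if_neg hc, if_neg (fun h' => hc h'.symm)]
    · rw [if_neg hh]
      symm
      apply Finset.sum_eq_zero
      intro q _
      rw [if_neg (fun h' => hh h'.1)]
  -- evaluate the left side, doubled
  have hL : ∀ h : Q, (if h ∈ H then Nat.card {q : Q // q ∈ (⊤ : Subgroup Q) ∧ q * h = h * q}
      else 0) * 2 =
      (if h ∈ H then Nat.card Q else 0) + (if h ∈ Subgroup.center Q then Nat.card Q else 0) := by
    intro h
    by_cases hh : h ∈ H
    · rw [if_pos hh, if_pos hh]
      by_cases hz : h ∈ Subgroup.center Q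
      · rw [if_pos hz, card_comm_all ⊤ h (fun k _ => Subgroup.mem_center_iff.mp hz k),
          Subgroup.card_top]
        ring
      · rw [if_neg hz, add_zero]
        have hne : ¬ ∀ k ∈ (⊤ : Subgroup Q), k * h = h * k := by
          intro hall
          exact hz (Subgroup.mem_center_iff.mpr (fun k => hall k (Subgroup.mem_top k)))
        rw [card_comm_half hcl hZ ⊤ h hne, Subgroup.card_top]
    · rw [if_neg hh, if_neg hh, if_neg (fun hz => hh (hZH hz))]
  have hR : ∀ q : Q, Nat.card {h : Q // h ∈ H ∧ h * q = q * h} * 2 =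
      Nat.card H + (if q ∈ Subgroup.centralizer (H : Set Q) then Nat.card H else 0) := by
    intro q
    by_cases hq : q ∈ Subgroup.centralizer (H : Set Q)
    · rw [if_pos hq, card_comm_all H q (fun k hk => (Subgroup.mem_centralizer_iff.mp hq k hk))]
      ring
    · rw [if_neg hq, add_zero]
      have hne : ¬ ∀ k ∈ H, k * q = q * k := by
        intro hall
        exact hq (Subgroup.mem_centralizer_iff.mpr (fun k hk => hall k hk))
      exact card_comm_half hcl hZ H q hne
  have hsumind : ∀ (K : Subgroup Q) [DecidablePred (fun h => h ∈ K)] (n : ℕ),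
      (∑ h : Q, if h ∈ K then n else 0) = Nat.card K * n := by
    intro K _ n
    rw [← Finset.sum_filter, Finset.sum_const, smul_eq_mul]
    congr 1
    symm
    exact Nat.subtype_card _ (by simp)
  have h2 := congrArg (· * 2) hdc
  simp only [Finset.sum_mul] at h2
  simp_rw [hL, hR] at h2
  rw [Finset.sum_add_distrib, Finset.sum_add_distrib, hsumind, hsumind, hsumind,
    Finset.sum_const, Finset.card_univ, smul_eq_mul, hZ, ← Nat.card_eq_fintype_card] at h2
  nlinarith [h2]

theorem eq_of_ne_one_of_card_two {Z : Type*} [Group Z] (h : Nat.card Z = 2) {a b : Z}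
    (ha : a ≠ 1) (hb : b ≠ 1) : a = b := by
  by_contra hab
  haveI : Finite Z := Nat.finite_of_card_ne_zero (by omega)
  haveI := Fintype.ofFinite Z
  have h3 : 2 < Fintype.card Z := Fintype.two_lt_card_iff.mpr ⟨1, a, b, ha.symm, hb.symm, hab⟩
  rw [← Nat.card_eq_fintype_card] at h3
  omega

/-- two non-identity central elements coincide when the centre has order two -/
theorem eq_of_mem_center_of_card_two (hZ : Nat.card (Subgroup.center Q) = 2) {a b : Q}
    (ha : a ∈ Subgroup.center Q) (hb : b ∈ Subgroup.center Q) (ha1 : a ≠ 1) (hb1 : b ≠ 1) :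
    a = b := by
  have h := eq_of_ne_one_of_card_two hZ (a := (⟨a, ha⟩ : Subgroup.center Q)) (b := ⟨b, hb⟩)
    (fun h => ha1 (congrArg Subtype.val h)) (fun h => hb1 (congrArg Subtype.val h))
  exact congrArg Subtype.val h

/-- An involutory automorphism of a class-two 2-group with centre of order two whose fixed
points have index two is inner. -/
theorem inner_of_index_two [Finite Q] (hcl : ∀ x y : Q, ⁅x, y⁆ ∈ Subgroup.center Q)
    (hZ : Nat.card (Subgroup.center Q) = 2) (hp : IsPGroup 2 Q)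
    (τ : Q ≃* Q) (hτ : ∀ q, τ (τ q) = q) (F : Subgroup Q) (hF : ∀ q, q ∈ F ↔ τ q = q)
    (hidx : F.index = 2) : ∃ c : Q, ∀ q, τ q = c * q * c⁻¹ := by
  -- τ fixes the centre
  have hτZ : ∀ z ∈ Subgroup.center Q, τ z = z := by
    intro z hz
    have hτz : τ z ∈ Subgroup.center Q := by
      rw [Subgroup.mem_center_iff]
      intro g
      have h1 := Subgroup.mem_center_iff.mp hz (τ.symm g)
      have h2 := congrArg τ h1
      simpa using h2
    by_cases h1 : z = 1
    · rw [h1, map_one]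
    · have h2 : τ z ≠ 1 := fun h => h1 ((map_eq_one_iff τ τ.injective).mp h)
      exact eq_of_mem_center_of_card_two hZ hτz hz h2 h1
  have hZF : Subgroup.center Q ≤ F := fun z hz => (hF z).mpr (hτZ z hz)
  -- duality
  have hdual := card_centralizer_mul_card hcl hZ F hZF
  have hFcard : Nat.card F * 2 = Nat.card Q := by rw [← hidx]; exact F.card_mul_index
  have hC4 : Nat.card (Subgroup.centralizer (F : Set Q)) = 4 := by
    have hpos : 0 < Nat.card F := Nat.card_pos
    nlinarith
  obtain ⟨c, hcC, hcZ⟩ : ∃ c ∈ Subgroup.centralizer (F : Set Q), c ∉ Subgroup.center Q := by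
    by_contra hcon
    push Not at hcon
    have hle : Subgroup.centralizer (F : Set Q) ≤ Subgroup.center Q := hcon
    have h3 := Subgroup.card_le_of_le hle
    omega
  -- y outside F
  obtain ⟨y, hy⟩ : ∃ y, y ∉ F := by
    by_contra hcon
    push Not at hcon
    have h3 : F = ⊤ := (Subgroup.eq_top_iff' F).mpr hcon
    rw [h3, Subgroup.index_top] at hidx
    omega
  have hyinv : y⁻¹ ∉ F := fun h => hy (by simpa using F.inv_mem h)
  -- every element is in F or F*y
  have hcover : ∀ q, q ∉ F → q * y⁻¹ ∈ F := by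
    intro q hq
    rw [Subgroup.mul_mem_iff_of_index_two hidx]
    exact ⟨fun h => absurd h hq, fun h => absurd h hyinv⟩
  -- an element commuting with F and y is central
  have hcentral : ∀ a, (∀ r ∈ F, a * r = r * a) → a * y = y * a → a ∈ Subgroup.center Q := by
    intro a haF hay
    rw [Subgroup.mem_center_iff]
    intro q
    by_cases hq : q ∈ F
    · exact (haF q hq).symm
    · have h1 := haF _ (hcover q hq)
      calc q * a = q * y⁻¹ * (y * a) := by group
        _ = q * y⁻¹ * (a * y) := by rw [hay]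
        _ = (q * y⁻¹ * a) * y := by group
        _ = (a * (q * y⁻¹)) * y := by rw [h1]
        _ = a * q := by group
  -- w = y⁻¹ τ(y)
  obtain ⟨w, hw⟩ : ∃ w, w = y⁻¹ * τ y := ⟨_, rfl⟩
  have hτy : τ y = y * w := by rw [hw]; group
  have hw1 : w ≠ 1 := by
    intro h
    rw [h, mul_one] at hτy
    exact hy ((hF y).mpr hτy)
  have hwF : ∀ r ∈ F, w * r = r * w := by
    intro r hr
    have h1 : τ ⁅y, r⁆ = ⁅y, r⁆ := hτZ _ (hcl y r)
    have h2 : τ ⁅y, r⁆ = ⁅y * w, r⁆ := by
      rw [map_commutatorElement, hτy, (hF r).mp hr]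
    rw [h2, comm_mul_left_of_class2 hcl] at h1
    have h3 : ⁅w, r⁆ = 1 := by
      have := mul_left_cancel (a := ⁅y, r⁆) (b := ⁅w, r⁆) (c := 1) (by rw [mul_one]; exact h1)
      exact this
    exact commutatorElement_eq_one_iff_mul_comm.mp h3
  have hτw : τ w = w⁻¹ := by
    have h1 : τ (τ y) = y := hτ y
    rw [hτy, map_mul, hτy] at h1
    -- y * w * τ w = y
    have h2 : w * τ w = 1 := by
      have h3 : y * (w * τ w) = y * 1 := by rw [mul_one, ← mul_assoc]; exact h1
      exact mul_left_cancel h3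
    exact eq_inv_of_mul_eq_one_right h2
  have hwZ : w ∈ Subgroup.center Q := by
    by_cases hwFm : w ∈ F
    · have h1 : w = w⁻¹ := by rw [← hτw]; exact ((hF w).mp hwFm).symm
      have hyy : τ (y * y) = y * y := (hF _).mp (Subgroup.mul_self_mem_of_index_two hidx y)
      rw [map_mul, hτy] at hyy
      -- y w y w = y y
      have h2 : w * y * w = y := by
        have h3 : y * (w * y * w) = y * y := by rw [← hyy]; group
        exact mul_left_cancel h3
      have h4 : w * y = y * w := by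
        calc w * y = w * y * w * w⁻¹ := by group
          _ = y * w⁻¹ := by rw [h2]
          _ = y * w := by rw [← h1]
      exact hcentral w hwF h4
    · exfalso
      have hwinv : w⁻¹ ∉ F := fun h => hwFm (by simpa using F.inv_mem h)
      have hr : y * w⁻¹ ∈ F := by
        rw [Subgroup.mul_mem_iff_of_index_two hidx]
        exact ⟨fun h => absurd h hy, fun h => absurd h hwinv⟩
      have h1 : τ (y * w⁻¹) = y * w⁻¹ := (hF _).mp hr
      rw [map_mul, map_inv, hτw, hτy, inv_inv] at h1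
      -- y * w * w = y * w⁻¹
      have h2 : w * w * w = 1 := by
        have h3 : y * (w * w * w) = y * 1 := by
          calc y * (w * w * w) = (y * w * w) * w := by group
            _ = y * w⁻¹ * w := by rw [h1]
            _ = y * 1 := by group
        exact mul_left_cancel h3
      have h3 : w ^ 3 = 1 := by rw [pow_succ, pow_two]; exact h2
      obtain ⟨k, hk⟩ := hp w
      have h4 : orderOf w ∣ 3 := orderOf_dvd_of_pow_eq_one h3
      have h5 : orderOf w ∣ 2 ^ k := orderOf_dvd_of_pow_eq_one hk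
      have h6 : orderOf w ∣ Nat.gcd 3 (2 ^ k) := Nat.dvd_gcd h4 h5
      have h7 : Nat.gcd 3 (2 ^ k) = 1 := by
        apply Nat.Coprime.pow_right
        norm_num
      rw [h7, Nat.dvd_one, orderOf_eq_one_iff] at h6
      exact hw1 h6
  -- c acts on y like τ
  have hcy : ⁅c, y⁆ ≠ 1 := by
    intro h
    have h1 : c * y = y * c := commutatorElement_eq_one_iff_mul_comm.mp h
    apply hcZ
    apply hcentral c _ h1
    intro r hr
    exact ((Subgroup.mem_centralizer_iff.mp hcC) r hr).symm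
  have hcw : ⁅c, y⁆ = w := eq_of_mem_center_of_card_two hZ (hcl c y) hwZ hcy hw1
  have hcy2 : c * y * c⁻¹ = τ y := by
    rw [hτy]
    have h1 : c * y * c⁻¹ = ⁅c, y⁆ * y := by rw [commutatorElement_def]; group
    rw [h1, hcw]
    exact (Subgroup.mem_center_iff.mp hwZ y).symm
  refine ⟨c, fun q => ?_⟩
  by_cases hq : q ∈ F
  · rw [(hF q).mp hq]
    have h1 := (Subgroup.mem_centralizer_iff.mp hcC) q hq
    calc q = q * c * c⁻¹ := by group
      _ = c * q * c⁻¹ := by rw [h1]
  · have h1 : q * y⁻¹ ∈ F := hcover q hq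
    have h2 := (Subgroup.mem_centralizer_iff.mp hcC) _ h1
    have h3 : τ q = (q * y⁻¹) * τ y := by
      have : q = (q * y⁻¹) * y := by group
      conv_lhs => rw [this]
      rw [map_mul, (hF _).mp h1]
    rw [h3, ← hcy2]
    calc q * y⁻¹ * (c * y * c⁻¹) = (q * y⁻¹ * c) * y * c⁻¹ := by group
      _ = (c * (q * y⁻¹)) * y * c⁻¹ := by rw [h2]
      _ = c * q * c⁻¹ := by group

theorem comm_inv_left_of_class2 (hcl : ∀ x y : Q, ⁅x, y⁆ ∈ Subgroup.center Q) (a x : Q) :
    ⁅a⁻¹, x⁆ = ⁅a, x⁆⁻¹ := by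
  have h1 := comm_mul_left_of_class2 hcl a a⁻¹ x
  rw [mul_inv_cancel, commutatorElement_one_left] at h1
  exact eq_inv_of_mul_eq_one_right h1.symm

theorem comm_mul_right_of_class2 (hcl : ∀ x y : Q, ⁅x, y⁆ ∈ Subgroup.center Q) (x a b : Q) :
    ⁅x, a * b⁆ = ⁅x, a⁆ * ⁅x, b⁆ := by
  rw [← commutatorElement_inv (a * b) x, comm_mul_left_of_class2 hcl, mul_inv_rev,
    commutatorElement_inv, commutatorElement_inv]
  exact Subgroup.mem_center_iff.mp (hcl x a) _

/-- an automorphism fixes the centre pointwise when the centre has order two -/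
theorem aut_fix_center (hZ : Nat.card (Subgroup.center Q) = 2) (τ : Q ≃* Q) :
    ∀ z ∈ Subgroup.center Q, τ z = z := by
  intro z hz
  have hτz : τ z ∈ Subgroup.center Q := by
    rw [Subgroup.mem_center_iff]
    intro g
    have h1 := Subgroup.mem_center_iff.mp hz (τ.symm g)
    have h2 := congrArg τ h1
    simpa using h2
  by_cases h1 : z = 1
  · rw [h1, map_one]
  · have h2 : τ z ≠ 1 := fun h => h1 ((map_eq_one_iff τ τ.injective).mp h)
    exact eq_of_mem_center_of_card_two hZ hτz hz h2 h1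

/-- `[Q, τ] = Z(C_Q(τ mod Z))` for an involutory automorphism `τ ≠ 1` of an extraspecial
2-group `Q` (class two, centre of order two, squares central). -/
theorem comm_closure_eq [Finite Q] (hcl : ∀ x y : Q, ⁅x, y⁆ ∈ Subgroup.center Q)
    (hZ : Nat.card (Subgroup.center Q) = 2) (hsq : ∀ x : Q, x * x ∈ Subgroup.center Q)
    (τ : Q ≃* Q) (hτ : ∀ q, τ (τ q) = q) (hne : ∃ q, τ q ≠ q)
    (Q₀ : Subgroup Q) (hQ₀ : ∀ q, q ∈ Q₀ ↔ τ q * q⁻¹ ∈ Subgroup.center Q) :
    Subgroup.closure (Set.range (fun q => τ q * q⁻¹)) =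
      Q₀ ⊓ Subgroup.centralizer (Q₀ : Set Q) := by
  have hτZ := aut_fix_center hZ τ
  obtain ⟨W, hW⟩ : ∃ W, W = Subgroup.closure (Set.range (fun q => τ q * q⁻¹)) := ⟨_, rfl⟩
  rw [← hW]
  have hgen : ∀ q, τ q * q⁻¹ ∈ W := fun q => by
    rw [hW]; exact Subgroup.subset_closure ⟨q, rfl⟩
  -- τ-invariance of the commutator pairing
  have hinv : ∀ a b, ⁅τ a, τ b⁆ = ⁅a, b⁆ := by
    intro a b
    rw [← map_commutatorElement]
    exact hτZ _ (hcl a b)
  -- Z ≤ Q₀
  have hZQ₀ : Subgroup.center Q ≤ Q₀ := by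
    intro z hz
    rw [hQ₀, hτZ z hz, mul_inv_cancel]
    exact Subgroup.one_mem _
  -- W ≤ Q₀ ⊓ C(Q₀)
  have hWle : W ≤ Q₀ ⊓ Subgroup.centralizer (Q₀ : Set Q) := by
    rw [hW, Subgroup.closure_le]
    rintro _ ⟨q, rfl⟩
    constructor
    · -- in Q₀
      show τ q * q⁻¹ ∈ Q₀
      rw [hQ₀]
      have h1 : τ (τ q * q⁻¹) * (τ q * q⁻¹)⁻¹ = (q * (τ q)⁻¹) * (q * (τ q)⁻¹) := by
        rw [map_mul, hτ, map_inv]; group
      rw [h1]
      exact hsq _
    · -- centralizes Q₀
      show τ q * q⁻¹ ∈ Subgroup.centralizer (Q₀ : Set Q)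
      rw [Subgroup.mem_centralizer_iff]
      intro y hy
      have hy' : τ y * y⁻¹ ∈ Subgroup.center Q := (hQ₀ y).mp hy
      -- ⁅τ q, y⁆ = ⁅q, y⁆
      have h1 : ⁅τ q, y⁆ = ⁅q, y⁆ := by
        have h2 : ⁅τ q, τ y⁆ = ⁅τ q, τ y * y⁻¹⁆ * ⁅τ q, y⁆ := by
          rw [← comm_mul_right_of_class2 hcl]
          congr 1; group
        have h3 : ⁅τ q, τ y * y⁻¹⁆ = 1 := by
          rw [commutatorElement_eq_one_iff_mul_comm]
          exact Subgroup.mem_center_iff.mp hy' _
        rw [h3, one_mul, hinv] at h2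
        exact h2.symm
      have h4 : ⁅τ q * q⁻¹, y⁆ = 1 := by
        rw [comm_mul_left_of_class2 hcl, comm_inv_left_of_class2 hcl, h1, mul_inv_cancel]
      exact (commutatorElement_eq_one_iff_mul_comm.mp h4).symm
  -- W is normalized by Q
  have hWn : ∀ x g, g ∈ W → x * g * x⁻¹ ∈ W := by
    intro x
    have hle : W ≤ W.comap (MulAut.conj x).toMonoidHom := by
      conv_lhs => rw [hW]
      rw [Subgroup.closure_le]
      rintro _ ⟨q, rfl⟩
      show (MulAut.conj x) (τ q * q⁻¹) ∈ W
      have h1 : (MulAut.conj x) (τ q * q⁻¹) =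
          (τ x * x⁻¹)⁻¹ * (τ (x * q) * (x * q)⁻¹) := by
        rw [MulAut.conj_apply, map_mul]; group
      rw [h1]
      exact W.mul_mem (W.inv_mem (hgen x)) (hgen (x * q))
    intro g hg
    have := hle hg
    simpa [MulAut.conj_apply] using this
  -- Z ≤ W
  have hZW : Subgroup.center Q ≤ W := by
    obtain ⟨q, hq⟩ := hne
    have hg1 : τ q * q⁻¹ ≠ 1 := by
      intro h
      apply hq
      calc τ q = τ q * q⁻¹ * q := by group
        _ = q := by rw [h, one_mul]
    -- a nonidentity central element in W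
    obtain ⟨ζ, hζW, hζZ, hζ1⟩ : ∃ ζ, ζ ∈ W ∧ ζ ∈ Subgroup.center Q ∧ ζ ≠ 1 := by
      by_cases hgz : τ q * q⁻¹ ∈ Subgroup.center Q
      · exact ⟨_, hgen q, hgz, hg1⟩
      · rw [Subgroup.mem_center_iff] at hgz
        push Not at hgz
        obtain ⟨a, ha⟩ := hgz
        refine ⟨⁅a, τ q * q⁻¹⁆, ?_, hcl _ _, ?_⟩
        · rw [commutatorElement_def]
          exact W.mul_mem (hWn a _ (hgen q)) (W.inv_mem (hgen q))
        · intro h
          exact ha (commutatorElement_eq_one_iff_mul_comm.mp h)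
    intro z hz
    by_cases hz1 : z = 1
    · rw [hz1]; exact W.one_mem
    · rw [eq_of_mem_center_of_card_two hZ hz hζZ hz1 hζ1]; exact hζW
  -- C(W) ≤ Q₀
  have hCW : Subgroup.centralizer (W : Set Q) ≤ Q₀ := by
    intro a ha
    rw [hQ₀, Subgroup.mem_center_iff]
    intro q
    -- ⁅a, τ q⁆ = ⁅a, q⁆ for all q
    have h1 : ∀ q, ⁅a, τ q⁆ = ⁅a, q⁆ := by
      intro q
      have h2 : ⁅a, τ q * q⁻¹⁆ = 1 := by
        rw [commutatorElement_eq_one_iff_mul_comm]
        exact ((Subgroup.mem_centralizer_iff.mp ha) _ (hgen q)).symm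
      have h3 : ⁅a, τ q⁆ = ⁅a, τ q * q⁻¹⁆ * ⁅a, q⁆ := by
        rw [← comm_mul_right_of_class2 hcl]
        congr 1; group
      rw [h3, h2, one_mul]
    have h4 : ⁅τ a, q⁆ = ⁅a, q⁆ := by
      calc ⁅τ a, q⁆ = ⁅τ a, τ (τ q)⁆ := by rw [hτ]
        _ = ⁅a, τ q⁆ := hinv a (τ q)
        _ = ⁅a, q⁆ := h1 q
    have h5 : ⁅τ a * a⁻¹, q⁆ = 1 := by
      rw [comm_mul_left_of_class2 hcl, comm_inv_left_of_class2 hcl, h4, mul_inv_cancel]
    exact (commutatorElement_eq_one_iff_mul_comm.mp h5).symm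
  -- cardinalities
  have hd1 := card_centralizer_mul_card hcl hZ W hZW
  have hd2 := card_centralizer_mul_card hcl hZ Q₀ hZQ₀
  have hc1 : Nat.card (Subgroup.centralizer (W : Set Q)) ≤ Nat.card Q₀ := Subgroup.card_le_of_le hCW
  have hc2 : Nat.card (Q₀ ⊓ Subgroup.centralizer (Q₀ : Set Q) : Subgroup Q) ≤
      Nat.card (Subgroup.centralizer (Q₀ : Set Q)) := Subgroup.card_le_of_le inf_le_right
  have hpos : 0 < Nat.card Q₀ := Nat.card_pos
  have hge : Nat.card (Q₀ ⊓ Subgroup.centralizer (Q₀ : Set Q) : Subgroup Q) ≤ Nat.card W := by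
    refine le_trans hc2 ?_
    by_contra hlt
    push Not at hlt
    have h6 : Nat.card (Subgroup.centralizer (W : Set Q)) * Nat.card W <
        Nat.card (Subgroup.centralizer (Q₀ : Set Q)) * Nat.card Q₀ := by
      calc Nat.card (Subgroup.centralizer (W : Set Q)) * Nat.card W
          ≤ Nat.card Q₀ * Nat.card W := Nat.mul_le_mul_right _ hc1
        _ < Nat.card Q₀ * Nat.card (Subgroup.centralizer (Q₀ : Set Q)) :=
            Nat.mul_lt_mul_of_pos_left hlt hpos
        _ = Nat.card (Subgroup.centralizer (Q₀ : Set Q)) * Nat.card Q₀ := Nat.mul_comm _ _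
    omega
  exact Subgroup.eq_of_le_of_card_ge hWle hge

end Class2

end Cfsg.Agent.helper9
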