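import Mathlib
import Cfsg.Statements.S0095
import Cfsg.Agent.Lib_helper9_Extraspecial

set_option autoImplicit false
open Cfsg

namespace Cfsg.Agent.S0095

open scoped commutatorElement
open Cfsg.Agent.helper9

universe u

/-- commutation with `x`, as a hom `Q →* Z(Q)`, for class-2 groups. -/
def commHomTop {Q : Type*} [Group Q] (hcl : ∀ x y : Q, ⁅x, y⁆ ∈ Subgroup.center Q) (x : Q) :
    Q →* Subgroup.center Q :=
  MonoidHom.mk' (fun k => ⟨⁅k, x⁆, hcl _ _⟩) (by
    intro a b
    apply Subtype.ext
    simp only [Subgroup.coe_mul]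
    exact comm_mul_left_of_class2 hcl a b x)

/-- A finite `p`-group of class at most two with centre of order `p` has order `p^(2n+1)`. -/
theorem card_of_central_type (p : ℕ) [hp : Fact p.Prime] : ∀ (m : ℕ) (E : Type u) [Group E] [Finite E],
    Nat.card E = m → Nat.card (Subgroup.center E) = p →
    (∀ a b : E, ⁅a, b⁆ ∈ Subgroup.center E) → ∃ n : ℕ, Nat.card E = p ^ (2 * n + 1) := by
  intro m
  induction m using Nat.strong_induction_on with
  | _ m ih =>
  intro E _ _ hm hZ hcl
  by_cases htop : ∀ x : E, x ∈ Subgroup.center E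
  · refine ⟨0, ?_⟩
    have : Subgroup.center E = ⊤ := by
      ext x; simp [htop x]
    rw [this, Subgroup.card_top] at hZ
    rw [hZ]; simp
  rw [not_forall] at htop
  obtain ⟨x, hx⟩ := htop
  rw [Subgroup.mem_center_iff, not_forall] at hx
  obtain ⟨y, hxy⟩ := hx
  -- z = [x, y] ≠ 1
  set z : Subgroup.center E := ⟨⁅x, y⁆, hcl x y⟩ with hz
  have hz1 : z ≠ 1 := by
    intro h
    have h1 : ⁅x, y⁆ = 1 := congrArg Subtype.val h
    rw [commutatorElement_eq_one_iff_mul_comm] at h1
    exact hxy h1.symm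
  have hzgen : ∀ w : Subgroup.center E, w ∈ Subgroup.zpowers z := by
    intro w
    have := zpowers_eq_top_of_prime_card (G := Subgroup.center E) hZ hz1
    rw [this]; exact Subgroup.mem_top w
  let φ : E →* Subgroup.center E × Subgroup.center E :=
    (commHomTop hcl x).prod (commHomTop hcl y)
  have hφx : φ x = (1, z) := by
    apply Prod.ext
    · apply Subtype.ext
      show ⁅x, x⁆ = 1
      simp
    · rfl
  have hφy : φ y = (z⁻¹, 1) := by
    apply Prod.ext
    · apply Subtype.ext
      show ⁅y, x⁆ = ((z⁻¹ : Subgroup.center E) : E)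
      rw [hz]
      simp only [InvMemClass.coe_inv]
      exact (commutatorElement_inv x y).symm
    · apply Subtype.ext
      show ⁅y, y⁆ = 1
      simp
  -- every g is w * c with w ∈ ⟨x,y⟩ and c ∈ ker φ
  have hdecomp : ∀ g : E, ∃ a b : ℤ, (y ^ (-a) * x ^ b)⁻¹ * g ∈ φ.ker := by
    intro g
    obtain ⟨a, ha⟩ := Subgroup.mem_zpowers_iff.mp (hzgen (φ g).1)
    obtain ⟨b, hb⟩ := Subgroup.mem_zpowers_iff.mp (hzgen (φ g).2)
    refine ⟨a, b, ?_⟩
    rw [MonoidHom.mem_ker, map_mul, map_inv, map_mul, map_zpow, map_zpow, hφx, hφy]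
    apply Prod.ext
    · simp only [Prod.pow_mk, Prod.mk_mul_mk, Prod.inv_mk, Prod.fst_mul, Prod.fst_one, one_zpow,
        mul_one]
      rw [inv_zpow, zpow_neg, inv_inv, ha]
      simp
    · simp only [Prod.pow_mk, Prod.mk_mul_mk, Prod.inv_mk, Prod.snd_mul, Prod.snd_one, one_zpow,
        one_mul]
      rw [hb]
      simp
  have hsurj : Function.Surjective φ := by
    rintro ⟨u, v⟩
    obtain ⟨a, ha⟩ := Subgroup.mem_zpowers_iff.mp (hzgen u)
    obtain ⟨b, hb⟩ := Subgroup.mem_zpowers_iff.mp (hzgen v)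
    refine ⟨y ^ (-a) * x ^ b, ?_⟩
    rw [map_mul, map_zpow, map_zpow, hφx, hφy]
    apply Prod.ext
    · simp only [Prod.pow_mk, Prod.mk_mul_mk, one_zpow, mul_one]
      rw [inv_zpow, zpow_neg, inv_inv, ha]
    · simp only [Prod.pow_mk, Prod.mk_mul_mk, one_zpow, one_mul]
      rw [hb]
  set C : Subgroup E := φ.ker with hC
  have hcardE : Nat.card E = Nat.card C * p ^ 2 := by
    rw [← Subgroup.card_mul_index C, hC, Subgroup.index_ker,
      MonoidHom.range_eq_top.mpr hsurj, Subgroup.card_top, Nat.card_prod, hZ, sq]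
  have hmemC : ∀ c : E, c ∈ C ↔ c * x = x * c ∧ c * y = y * c := by
    intro c
    rw [hC, MonoidHom.mem_ker]
    constructor
    · intro h
      have h1 : ⁅c, x⁆ = 1 := congrArg (fun t => (t.1 : E)) h
      have h2 : ⁅c, y⁆ = 1 := congrArg (fun t => (t.2 : E)) h
      exact ⟨commutatorElement_eq_one_iff_mul_comm.mp h1,
        commutatorElement_eq_one_iff_mul_comm.mp h2⟩
    · rintro ⟨h1, h2⟩
      apply Prod.ext
      · apply Subtype.ext
        exact commutatorElement_eq_one_iff_mul_comm.mpr h1
      · apply Subtype.ext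
        exact commutatorElement_eq_one_iff_mul_comm.mpr h2
  have hZC : Subgroup.center E ≤ C := by
    intro c hc
    rw [hmemC]
    rw [Subgroup.mem_center_iff] at hc
    exact ⟨(hc x).symm, (hc y).symm⟩
  have hcenterC : Subgroup.center C = (Subgroup.center E).subgroupOf C := by
    ext c
    rw [Subgroup.mem_subgroupOf, Subgroup.mem_center_iff, Subgroup.mem_center_iff]
    constructor
    · intro h g
      obtain ⟨a, b, hab⟩ := hdecomp g
      have hc := (hmemC c).mp c.2
      have hcx : Commute (c : E) x := hc.1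
      have hcy : Commute (c : E) y := hc.2
      have hcw : Commute (c : E) (y ^ (-a) * x ^ b) :=
        (hcy.zpow_right _).mul_right (hcx.zpow_right _)
      have hcc : Commute (c : E) ((y ^ (-a) * x ^ b)⁻¹ * g) := by
        have := h ⟨_, hab⟩
        have h2 := congrArg Subtype.val this
        simp only [Subgroup.coe_mul] at h2
        exact h2.symm
      have : g = (y ^ (-a) * x ^ b) * ((y ^ (-a) * x ^ b)⁻¹ * g) := by group
      rw [this]
      exact ((hcw.mul_right hcc).eq).symm
    · intro h g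
      apply Subtype.ext
      simp only [Subgroup.coe_mul]
      exact h g
  have hZC' : Nat.card (Subgroup.center C) = p := by
    rw [hcenterC, ← hZ]
    exact Nat.card_congr (Subgroup.subgroupOfEquivOfLe hZC).toEquiv
  have hclC : ∀ a b : C, ⁅a, b⁆ ∈ Subgroup.center C := by
    intro a b
    rw [hcenterC, Subgroup.mem_subgroupOf]
    have h2 : ((⁅a, b⁆ : C) : E) = ⁅(a : E), (b : E)⁆ := by
      simp [commutatorElement_def]
    rw [h2]
    exact hcl _ _
  have hp2 : 1 < p ^ 2 := Nat.one_lt_pow (by norm_num) hp.out.one_lt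
  have hlt : Nat.card C < m := by
    rw [← hm, hcardE]
    have : 0 < Nat.card C := Nat.card_pos
    nlinarith
  obtain ⟨n, hn⟩ := ih (Nat.card C) hlt C rfl hZC' hclC
  refine ⟨n + 1, ?_⟩
  rw [hcardE, hn]
  ring

/-- The order of an extraspecial p-group is an odd power p^(2n+1) of p with n ≥ 1. -/
theorem result {P : Type*} [Group P] [Finite P] {p : ℕ} [Fact p.Prime] (h : Cfsg.IsExtraspecial p P) : ∃ n : ℕ, 1 ≤ n ∧ Nat.card P = p ^ (2 * n + 1) := by
  obtain ⟨⟨hpP, hfr, hcomm⟩, hcard⟩ := h
  have hp : p.Prime := Fact.out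
  have hcl : ∀ a b : P, ⁅a, b⁆ ∈ Subgroup.center P := by
    intro a b
    rw [← hcomm, commutator_def]
    exact Subgroup.commutator_mem_commutator (Subgroup.mem_top a) (Subgroup.mem_top b)
  obtain ⟨n, hn⟩ := card_of_central_type p (Nat.card P) P rfl hcard hcl
  refine ⟨n, ?_, hn⟩
  by_contra h0
  have hn0 : n = 0 := by omega
  rw [hn0] at hn
  simp only [mul_zero, zero_add, pow_one] at hn
  -- then P is cyclic of prime order hence abelian, so commutator trivial, but center has order p
  haveI := isCyclic_of_prime_card hn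
  have hab : commutator P = ⊥ := by
    rw [commutator_def, Subgroup.commutator_eq_bot_iff_le_centralizer]
    intro a _
    rw [Subgroup.mem_centralizer_iff]
    intro b _
    exact (IsCyclic.commutative (α := P)).is_comm.comm b a
  rw [hab] at hcomm
  rw [← hcomm, Subgroup.card_bot] at hcard
  exact hp.one_lt.ne hcard

end Cfsg.Agent.S0095
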