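import Mathlib
import Cfsg.Agent.Lib_helper17_ES7
import Cfsg.Agent.Lib_helper1_ElemAb
import Cfsg.Agent.Lib_helper1_PGroup
import Cfsg.Agent.S0095

/-! Central type 2-groups of order > 2 are extraspecial; the twisted product construction
(central product with D8 or Q8) (helper17). -/

set_option autoImplicit false

namespace Cfsg.Agent.helper17.ES

open scoped commutatorElement

universe u

theorem extraspecial_of_CT {E : Type u} [Group E] [Finite E] (hE : CT 2 E) (hbig : 2 < Nat.card E) :
    Cfsg.IsExtraspecial 2 E := by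
  haveI : Fact (Nat.Prime 2) := ⟨Nat.prime_two⟩
  obtain ⟨z, hz⟩ := exists_Z2 hE
  obtain ⟨n, hn⟩ := Cfsg.Agent.S0095.card_of_central_type 2 (Nat.card E) E rfl hE.1 hE.2
  have hG : IsPGroup 2 E := IsPGroup.of_card hn
  have hle : commutator E ≤ Subgroup.center E := by
    rw [commutator_def, Subgroup.commutator_le]
    intro a _ b _
    exact hE.2 a b
  obtain ⟨x, y, hxy⟩ := exists_pair hE hbig
  have hne : commutator E ≠ ⊥ := by
    intro h
    apply hxy
    have : ⁅x, y⁆ ∈ commutator E := by
      rw [commutator_def]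
      exact Subgroup.commutator_mem_commutator (Subgroup.mem_top x) (Subgroup.mem_top y)
    rw [h, Subgroup.mem_bot] at this
    exact this
  have heq : commutator E = Subgroup.center E := by
    apply Subgroup.eq_of_le_of_card_ge hle
    rw [hE.1]
    have h1 : Nat.card (commutator E) ≠ 1 := by
      intro h
      exact hne (Subgroup.eq_bot_of_card_eq _ h)
    have h2 : 0 < Nat.card (commutator E) := Nat.card_pos
    omega
  have hfr : frattini E = Subgroup.center E := by
    apply le_antisymm
    · exact Cfsg.Agent.helper1.frattini_le_of_elemAb_quot (p := 2) (Subgroup.center E) hle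
        (fun x => hz.sq_mem_center x)
    · rw [← heq]
      exact Cfsg.Agent.helper1.commutator_le_frattini_of_isPGroup hG
  exact ⟨⟨hG, hfr, heq⟩, hE.1⟩

/-- a chosen central involution -/
class CInv (E : Type) [Group E] where
  z : E
  cen : ∀ g : E, g * z = z * g
  sq : z * z = 1

/-- the twisted product: underlying type -/
structure Tw (E : Type) (ε : ZMod 2) where
  a : ZMod 2
  b : ZMod 2
  e : E

namespace Tw

variable {E : Type} [Group E] [CInv E] {ε : ZMod 2}

/-- `z ^ c` for `c : ZMod 2` -/
def zp (E : Type) [Group E] [CInv E] (c : ZMod 2) : E := (CInv.z : E) ^ c.val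

theorem zp_zero : zp E 0 = 1 := by simp [zp]

theorem zp_one : zp E 1 = CInv.z := by
  unfold zp
  have : (1 : ZMod 2).val = 1 := by decide
  rw [this, pow_one]

theorem z_sq : (CInv.z : E) ^ 2 = 1 := by rw [pow_two]; exact CInv.sq

theorem zp_add (c c' : ZMod 2) : zp E (c + c') = zp E c * zp E c' := by
  unfold zp
  rw [ZMod.val_add, ← pow_add]
  exact (pow_eq_pow_mod _ z_sq).symm

theorem zp_cen (c : ZMod 2) (g : E) : g * zp E c = zp E c * g := by
  unfold zp
  have h : Commute g (CInv.z : E) := CInv.cen g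
  exact (h.pow_right _).eq

theorem zp_sq (c : ZMod 2) : zp E c * zp E c = 1 := by
  rw [← zp_add, CharTwo.add_self_eq_zero, zp_zero]

/-- the cocycle -/
def coc (ε : ZMod 2) (a b a' b' : ZMod 2) : ZMod 2 := b * a' + ε * (a * a' + b * b')

instance : Mul (Tw E ε) := ⟨fun u v => ⟨u.a + v.a, u.b + v.b, u.e * v.e * zp E (coc ε u.a u.b v.a v.b)⟩⟩
instance : One (Tw E ε) := ⟨⟨0, 0, 1⟩⟩
instance : Inv (Tw E ε) := ⟨fun u => ⟨u.a, u.b, u.e⁻¹ * zp E (coc ε u.a u.b u.a u.b)⟩⟩

theorem mul_def (u v : Tw E ε) :
    u * v = ⟨u.a + v.a, u.b + v.b, u.e * v.e * zp E (coc ε u.a u.b v.a v.b)⟩ := rfl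

omit [CInv E] in
theorem one_def : (1 : Tw E ε) = ⟨0, 0, 1⟩ := rfl

theorem inv_def (u : Tw E ε) : u⁻¹ = ⟨u.a, u.b, u.e⁻¹ * zp E (coc ε u.a u.b u.a u.b)⟩ := rfl

omit [Group E] [CInv E] in
theorem ext' {u v : Tw E ε} (ha : u.a = v.a) (hb : u.b = v.b) (he : u.e = v.e) : u = v := by
  cases u; cases v; simp_all

instance : Group (Tw E ε) := Group.ofLeftAxioms
  (by
    intro u v w
    apply ext'
    · simp only [mul_def]; ring
    · simp only [mul_def]; ring
    · simp only [mul_def]
      have h1 : u.e * v.e * zp E (coc ε u.a u.b v.a v.b) * w.e *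
          zp E (coc ε (u.a + v.a) (u.b + v.b) w.a w.b)
          = u.e * v.e * w.e * (zp E (coc ε u.a u.b v.a v.b) *
            zp E (coc ε (u.a + v.a) (u.b + v.b) w.a w.b)) := by
        rw [mul_assoc (u.e * v.e), ← zp_cen, ← mul_assoc, mul_assoc]
      have h2 : u.e * (v.e * w.e * zp E (coc ε v.a v.b w.a w.b)) *
          zp E (coc ε u.a u.b (v.a + w.a) (v.b + w.b))
          = u.e * v.e * w.e * (zp E (coc ε v.a v.b w.a w.b) *
            zp E (coc ε u.a u.b (v.a + w.a) (v.b + w.b))) := by
        simp only [mul_assoc]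
      rw [h1, h2, ← zp_add, ← zp_add]
      congr 2
      unfold coc
      ring)
  (by
    intro u
    apply ext'
    · simp [mul_def, one_def]
    · simp [mul_def, one_def]
    · simp [mul_def, one_def, coc, zp_zero])
  (by
    intro u
    apply ext'
    · simp only [mul_def, inv_def, one_def]
      exact CharTwo.add_self_eq_zero _
    · simp only [mul_def, inv_def, one_def]
      exact CharTwo.add_self_eq_zero _
    · simp only [mul_def, inv_def, one_def]
      have h1 : u.e⁻¹ * zp E (coc ε u.a u.b u.a u.b) * u.e * zp E (coc ε u.a u.b u.a u.b)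
          = u.e⁻¹ * (zp E (coc ε u.a u.b u.a u.b) * u.e) * zp E (coc ε u.a u.b u.a u.b) := by
        simp only [mul_assoc]
      rw [h1, ← zp_cen, inv_mul_cancel_left, zp_sq])

end Tw

end Cfsg.Agent.helper17.ES
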