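import Mathlib
import Cfsg.Agent.Lib_helper17_ES8

/-! Properties of the twisted product construction (helper17). -/

set_option autoImplicit false

namespace Cfsg.Agent.helper17.ES

open scoped commutatorElement

namespace Tw

variable {E : Type} [Group E] [CInv E] {ε : ZMod 2}

/-- the underlying equivalence -/
def equivProd (E : Type) (ε : ZMod 2) : Tw E ε ≃ ZMod 2 × ZMod 2 × E where
  toFun u := (u.a, u.b, u.e)
  invFun p := ⟨p.1, p.2.1, p.2.2⟩
  left_inv u := by cases u; rfl
  right_inv p := by rfl

instance [Finite E] : Finite (Tw E ε) := Finite.of_equiv _ (equivProd E ε).symm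

omit [Group E] [CInv E] in
theorem card_eq [Finite E] : Nat.card (Tw E ε) = 4 * Nat.card E := by
  rw [Nat.card_congr (equivProd E ε), Nat.card_prod, Nat.card_prod, Nat.card_zmod]
  ring

/-- the embedding of `E` -/
def iota (E : Type) [Group E] [CInv E] (ε : ZMod 2) : E →* Tw E ε where
  toFun e := ⟨0, 0, e⟩
  map_one' := rfl
  map_mul' e e' := by
    apply ext'
    · simp [mul_def]
    · simp [mul_def]
    · simp [mul_def, coc, zp_zero]

theorem iota_injective : Function.Injective (iota E ε) := by
  intro e e' h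
  exact congrArg Tw.e h

/-- the new central involution -/
def zhat (E : Type) [Group E] [CInv E] (ε : ZMod 2) : Tw E ε := iota E ε CInv.z

/-- first generator -/
def gx (E : Type) [Group E] (ε : ZMod 2) : Tw E ε := ⟨1, 0, 1⟩

/-- second generator -/
def gy (E : Type) [Group E] (ε : ZMod 2) : Tw E ε := ⟨0, 1, 1⟩

theorem iota_mem_center {w : E} (hw : w ∈ Subgroup.center E) :
    iota E ε w ∈ Subgroup.center (Tw E ε) := by
  rw [Subgroup.mem_center_iff]
  intro t
  rw [Subgroup.mem_center_iff] at hw
  apply ext'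
  · simp [mul_def, iota]
  · simp [mul_def, iota]
  · simp [mul_def, iota, coc, zp_zero, hw t.e]

theorem zp_eq_one_iff (hz : (CInv.z : E) ≠ 1) (c : ZMod 2) : zp E c = 1 ↔ c = 0 := by
  constructor
  · intro h
    fin_cases c
    · rfl
    · exfalso
      apply hz
      rw [← zp_one]
      exact h
  · rintro rfl
    exact zp_zero

theorem zp_injective (hz : (CInv.z : E) ≠ 1) {c c' : ZMod 2} (h : zp E c = zp E c') : c = c' := by
  have h1 : zp E (c + c') = 1 := by rw [zp_add, h, zp_sq]
  have h2 := (zp_eq_one_iff hz _).mp h1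
  calc c = c + (c' + c') := by rw [CharTwo.add_self_eq_zero, add_zero]
    _ = (c + c') + c' := by ring
    _ = c' := by rw [h2, zero_add]

theorem comm_gx_iff (hz : (CInv.z : E) ≠ 1) (u : Tw E ε) :
    u * gx E ε = gx E ε * u ↔ u.b = 0 := by
  constructor
  · intro h
    have h1 := congrArg Tw.e h
    simp only [mul_def, gx, mul_one, one_mul] at h1
    have h2 := zp_injective hz (mul_left_cancel h1)
    unfold coc at h2
    have : u.b + ε * u.a = ε * u.a := by
      have := h2
      ring_nf at this ⊢
      exact this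
    exact add_eq_right.mp this
  · intro h
    apply ext'
    · simp only [mul_def, gx]; ring
    · simp only [mul_def, gx]; ring
    · simp only [mul_def, gx, mul_one, one_mul]
      congr 2
      unfold coc
      rw [h]; ring

theorem comm_gy_iff (hz : (CInv.z : E) ≠ 1) (u : Tw E ε) :
    u * gy E ε = gy E ε * u ↔ u.a = 0 := by
  constructor
  · intro h
    have h1 := congrArg Tw.e h
    simp only [mul_def, gy, mul_one, one_mul] at h1
    have h2 := zp_injective hz (mul_left_cancel h1)
    unfold coc at h2
    have : u.a + ε * u.b = ε * u.b := by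
      have := h2
      ring_nf at this ⊢
      exact this.symm
    exact add_eq_right.mp this
  · intro h
    apply ext'
    · simp only [mul_def, gy]; ring
    · simp only [mul_def, gy]; ring
    · simp only [mul_def, gy, mul_one, one_mul]
      congr 2
      unfold coc
      rw [h]; ring

theorem exists_comm_factor (hcl : ∀ a b : E, ⁅a, b⁆ ∈ Subgroup.center E) (u v : Tw E ε) :
    ∃ w ∈ Subgroup.center E, u * v = iota E ε w * (v * u) := by
  have hzc : ∀ c : ZMod 2, zp E c ∈ Subgroup.center E := by
    intro c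
    rw [Subgroup.mem_center_iff]
    intro g
    exact zp_cen c g
  refine ⟨⁅u.e, v.e⁆ * zp E (coc ε u.a u.b v.a v.b + coc ε v.a v.b u.a u.b),
    Subgroup.mul_mem _ (hcl _ _) (hzc _), ?_⟩
  apply ext'
  · simp only [mul_def, iota, MonoidHom.coe_mk, OneHom.coe_mk]; ring
  · simp only [mul_def, iota, MonoidHom.coe_mk, OneHom.coe_mk]; ring
  · simp only [mul_def, iota, MonoidHom.coe_mk, OneHom.coe_mk]
    have h0 : coc ε 0 0 (v.a + u.a) (v.b + u.b) = 0 := by unfold coc; ring
    rw [h0, zp_zero, mul_one, zp_add]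
    set A := zp E (coc ε u.a u.b v.a v.b)
    set B := zp E (coc ε v.a v.b u.a u.b)
    have hB : ∀ g : E, g * B = B * g := fun g => zp_cen _ g
    have hA : ∀ g : E, g * A = A * g := fun g => zp_cen _ g
    have hBB : B * B = 1 := zp_sq _
    calc u.e * v.e * A = ⁅u.e, v.e⁆ * (v.e * u.e) * A := by
          simp only [commutatorElement_def]; group
      _ = ⁅u.e, v.e⁆ * (v.e * u.e) * A * (B * B) := by rw [hBB, mul_one]
      _ = ⁅u.e, v.e⁆ * ((v.e * u.e) * A) * B * B := by simp only [mul_assoc]
      _ = ⁅u.e, v.e⁆ * (A * (v.e * u.e)) * B * B := by rw [hA (v.e * u.e)]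
      _ = ⁅u.e, v.e⁆ * A * ((v.e * u.e) * B) * B := by simp only [mul_assoc]
      _ = ⁅u.e, v.e⁆ * A * (B * (v.e * u.e)) * B := by rw [hB (v.e * u.e)]
      _ = ⁅u.e, v.e⁆ * (A * B) * (v.e * u.e * B) := by simp only [mul_assoc]

end Tw

end Cfsg.Agent.helper17.ES
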