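import Mathlib
import Cfsg.Agent.Lib_helper17_ES9

/-! Existence of central type 2-groups of both types in every order (helper17). -/

set_option autoImplicit false

namespace Cfsg.Agent.helper17.ES

open scoped commutatorElement

namespace Tw

variable {E : Type} [Group E] [CInv E] {ε : ZMod 2}

theorem tw_Z2 (h : Z2 E (CInv.z : E)) : Z2 (Tw E ε) (zhat E ε) := by
  have hzc : zhat E ε ∈ Subgroup.center (Tw E ε) := iota_mem_center h.mem_center
  refine ⟨Subgroup.mem_center_iff.mp hzc, ?_, ?_, ?_, ?_⟩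
  · intro h1
    apply h.ne
    apply iota_injective (ε := ε)
    rw [map_one]
    exact h1
  · unfold zhat
    rw [← map_mul, h.sq, map_one]
  · intro w hw
    rw [Subgroup.mem_center_iff] at hw
    have hb := (comm_gx_iff h.ne w).mp (hw _).symm
    have ha := (comm_gy_iff h.ne w).mp (hw _).symm
    have he : w.e ∈ Subgroup.center E := by
      rw [Subgroup.mem_center_iff]
      intro g
      have h1 := congrArg Tw.e (hw (iota E ε g))
      simp only [mul_def, iota, MonoidHom.coe_mk, OneHom.coe_mk, coc] at h1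
      rw [ha, hb] at h1
      simpa [zp_zero] using h1
    rcases h.only _ he with h1 | h1
    · left
      apply ext' ha hb h1
    · right
      apply ext' ha hb h1
  · intro u v
    obtain ⟨w, hw, huv⟩ := exists_comm_factor h.cl u v
    have : ⁅u, v⁆ = iota E ε w := by
      rw [commutatorElement_def, huv]
      group
    rw [this]
    exact iota_mem_center hw

theorem gx_gy_ne (h : Z2 E (CInv.z : E)) : ⁅gx E ε, gy E ε⁆ ≠ 1 := by
  intro h1
  rw [commutatorElement_eq_one_iff_mul_comm] at h1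
  have := (comm_gy_iff h.ne (gx E ε)).mp h1
  simp [gx] at this

theorem pairCent_eq (h : Z2 E (CInv.z : E)) : pairCent (gx E ε) (gy E ε) = (iota E ε).range := by
  ext u
  rw [mem_pairCent, comm_gx_iff h.ne, comm_gy_iff h.ne, MonoidHom.mem_range]
  constructor
  · rintro ⟨hb, ha⟩
    refine ⟨u.e, ?_⟩
    apply ext'
    · exact ha.symm
    · exact hb.symm
    · rfl
  · rintro ⟨e, rfl⟩
    exact ⟨rfl, rfl⟩

/-- `E` is isomorphic to the centraliser of the new pair. -/
noncomputable def equivPairCent (h : Z2 E (CInv.z : E)) : E ≃* pairCent (gx E ε) (gy E ε) :=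
  (MonoidHom.ofInjective (iota_injective (E := E) (ε := ε))).trans
    (MulEquiv.subgroupCongr (pairCent_eq h).symm)

theorem gx_sq : (gx E ε) ^ 2 = iota E ε (zp E ε) := by
  rw [pow_two]
  apply ext'
  · simp only [mul_def, gx, iota, MonoidHom.coe_mk, OneHom.coe_mk]; decide
  · simp only [mul_def, gx, iota, MonoidHom.coe_mk, OneHom.coe_mk]; decide
  · simp only [mul_def, gx, iota, MonoidHom.coe_mk, OneHom.coe_mk, coc]
    simp

theorem gy_sq : (gy E ε) ^ 2 = iota E ε (zp E ε) := by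
  rw [pow_two]
  apply ext'
  · simp only [mul_def, gy, iota, MonoidHom.coe_mk, OneHom.coe_mk]; decide
  · simp only [mul_def, gy, iota, MonoidHom.coe_mk, OneHom.coe_mk]; decide
  · simp only [mul_def, gy, iota, MonoidHom.coe_mk, OneHom.coe_mk, coc]
    simp

end Tw

open Tw

theorem pow_facts (n : ℕ) : (2 : ℕ) ^ (2 * (n + 1) + 1) = 4 * 2 ^ (2 * n + 1) ∧
    (2 : ℕ) ^ (2 * n + 1) = 2 * 2 ^ (2 * n) ∧ (2 : ℕ) ^ (2 * (n + 1)) = 4 * 2 ^ (2 * n) ∧
    (2 : ℕ) ^ (n + 1) = 2 * 2 ^ n := by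
  refine ⟨?_, ?_, ?_, ?_⟩
  · rw [show 2 * (n + 1) + 1 = 2 * n + 1 + 2 by ring, pow_add]; ring
  · rw [pow_succ]; ring
  · rw [show 2 * (n + 1) = 2 * n + 2 by ring, pow_add]; ring
  · rw [pow_succ]; ring

theorem tw_plus (E : Type) [Group E] [Finite E] (hE : CT 2 E) (n : ℕ) (hp : IsPlus E n) :
    ∃ (T : Type) (_ : Group T) (_ : Finite T), CT 2 T ∧ IsPlus T (n + 1) := by
  obtain ⟨z, h⟩ := exists_Z2 hE
  letI : CInv E := ⟨z, h.cen, h.sq⟩
  have h' : Z2 E (CInv.z : E) := h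
  have hT : Z2 (Tw E 0) (zhat E 0) := tw_Z2 h'
  have hxy := gx_gy_ne (ε := 0) h'
  have hx : (gx E 0) ^ 2 = 1 := by rw [gx_sq, zp_zero, map_one]
  have hs := s_of_invol hT _ _ hxy hx
  rw [← sCount_congr (equivPairCent (ε := 0) h'),
    ← Nat.card_congr (equivPairCent (ε := 0) h').toEquiv] at hs
  obtain ⟨e1, e2, e3, e4⟩ := pow_facts n
  refine ⟨Tw E 0, inferInstance, inferInstance, hT.ct, ?_, ?_⟩
  · rw [card_eq, hp.1, e1]
  · rw [hs, hp.2, hp.1, e2, e3, e4]; ring

theorem tw_minus (E : Type) [Group E] [Finite E] (hE : CT 2 E) (n : ℕ) (hp : IsPlus E n) :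
    ∃ (T : Type) (_ : Group T) (_ : Finite T), CT 2 T ∧ IsMinus T (n + 1) := by
  obtain ⟨z, h⟩ := exists_Z2 hE
  letI : CInv E := ⟨z, h.cen, h.sq⟩
  have h' : Z2 E (CInv.z : E) := h
  have hT : Z2 (Tw E 1) (zhat E 1) := tw_Z2 h'
  have hxy := gx_gy_ne (ε := 1) h'
  have hx : (gx E 1) ^ 2 ≠ 1 := by
    rw [gx_sq, zp_one]
    exact hT.ne
  have hy : (gy E 1) ^ 2 ≠ 1 := by
    rw [gy_sq, zp_one]
    exact hT.ne
  have hs := s_of_quat hT _ _ hxy hx hy
  rw [← sCount_congr (equivPairCent (ε := 1) h'),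
    ← Nat.card_congr (equivPairCent (ε := 1) h').toEquiv] at hs
  obtain ⟨e1, e2, e3, e4⟩ := pow_facts n
  refine ⟨Tw E 1, inferInstance, inferInstance, hT.ct, ?_, by omega, ?_⟩
  · rw [card_eq, hp.1, e1]
  · rw [hp.2, hp.1, e2] at hs
    rw [e3, e4]
    omega

theorem exists_plus : ∀ n : ℕ, ∃ (T : Type) (_ : Group T) (_ : Finite T), CT 2 T ∧ IsPlus T n := by
  intro n
  induction n with
  | zero =>
    have hc : Nat.card (Multiplicative (ZMod 2)) = 2 := by
      rw [Nat.card_congr Multiplicative.toAdd, Nat.card_zmod]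
    refine ⟨Multiplicative (ZMod 2), inferInstance, inferInstance, ⟨?_, ?_⟩, ?_, ?_⟩
    · rw [CommGroup.center_eq_top, Subgroup.card_top, hc]
    · intro a b
      rw [CommGroup.center_eq_top]
      exact Subgroup.mem_top _
    · simp [hc]
    · rw [sCount_of_card_two hc]; norm_num
  | succ n ih =>
    obtain ⟨E, _, _, hE, hp⟩ := ih
    exact tw_plus E hE n hp

theorem exists_minus (n : ℕ) (hn : 1 ≤ n) :
    ∃ (T : Type) (_ : Group T) (_ : Finite T), CT 2 T ∧ IsMinus T n := by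
  obtain ⟨m, rfl⟩ : ∃ m, n = m + 1 := ⟨n - 1, by omega⟩
  obtain ⟨E, _, _, hE, hp⟩ := exists_plus m
  exact tw_minus E hE m hp

end Cfsg.Agent.helper17.ES
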