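import Mathlib
import Cfsg.Agent.Lib_helper17_ES1
import Cfsg.Agent.Lib_helper11_DihPres

/-! The Heisenberg group over `ZMod p` and homomorphisms out of it; common covers (helper17). -/

set_option autoImplicit false

namespace Cfsg.Agent.helper17.ES

open scoped commutatorElement
open Cfsg.Agent.helper11.DihPres (e e_add e_zero' e_neg)

universe u v

/-- isomorphism from a common cover, tracking images -/
theorem equiv_of_common_cover' {P : Type*} {E : Type*} {E' : Type*} [Group P] [Group E] [Group E']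
    (μ : P →* E) (μ' : P →* E') (hμ : Function.Surjective μ) (hμ' : Function.Surjective μ')
    (hker : ∀ q, μ q = 1 ↔ μ' q = 1) : ∃ φ : E ≃* E', ∀ q, φ (μ q) = μ' q := by
  have hk : μ.ker ≤ μ'.ker := by
    intro q hq
    rw [MonoidHom.mem_ker] at hq ⊢
    exact (hker q).mp hq
  let φ : E →* E' := μ.liftOfRightInverse (Function.surjInv hμ) (Function.rightInverse_surjInv hμ)
    ⟨μ', hk⟩
  have hφ : ∀ q, φ (μ q) = μ' q := fun q =>
    μ.liftOfRightInverse_comp_apply (Function.surjInv hμ) (Function.rightInverse_surjInv hμ)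
      ⟨μ', hk⟩ q
  have hbij : Function.Bijective φ := by
    constructor
    · rw [injective_iff_map_eq_one]
      intro g hg
      obtain ⟨q, rfl⟩ := hμ g
      rw [hφ] at hg
      exact (hker q).mpr hg
    · intro g'
      obtain ⟨q, rfl⟩ := hμ' g'
      exact ⟨μ q, hφ q⟩
  exact ⟨MulEquiv.ofBijective φ hbij, hφ⟩

/-- the Heisenberg group over `ZMod p` -/
structure Heis (p : ℕ) where
  a : ZMod p
  b : ZMod p
  c : ZMod p

namespace Heis

variable {p : ℕ}

instance : Mul (Heis p) := ⟨fun u v => ⟨u.a + v.a, u.b + v.b, u.c + v.c + u.b * v.a⟩⟩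
instance : One (Heis p) := ⟨⟨0, 0, 0⟩⟩
instance : Inv (Heis p) := ⟨fun u => ⟨-u.a, -u.b, -u.c + u.b * u.a⟩⟩

theorem mul_def (u v : Heis p) : u * v = ⟨u.a + v.a, u.b + v.b, u.c + v.c + u.b * v.a⟩ := rfl
theorem one_def : (1 : Heis p) = ⟨0, 0, 0⟩ := rfl
theorem inv_def (u : Heis p) : u⁻¹ = ⟨-u.a, -u.b, -u.c + u.b * u.a⟩ := rfl

theorem ext' {u v : Heis p} (ha : u.a = v.a) (hb : u.b = v.b) (hc : u.c = v.c) : u = v := by
  cases u; cases v; simp_all

instance : Group (Heis p) := Group.ofLeftAxioms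
  (by
    intro u v w
    apply ext' <;> simp only [mul_def] <;> ring)
  (by
    intro u
    apply ext' <;> simp [mul_def, one_def])
  (by
    intro u
    apply ext' <;> simp only [mul_def, inv_def, one_def] <;> ring)

end Heis

section heisHom

variable {T : Type*} [Group T] {p : ℕ} [NeZero p] (x y z : T)
  (hx : x ^ p = 1) (hy : y ^ p = 1) (hz : z ^ p = 1) (hzc : ∀ g : T, g * z = z * g)
  (hyx : y * x = x * y * z)

include hzc hyx in
theorem pow_comm_rel (i j : ℕ) : y ^ i * x ^ j = x ^ j * y ^ i * z ^ (i * j) := by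
  have hzc' : ∀ (k : ℕ) (g : T), g * z ^ k = z ^ k * g := fun k g =>
    ((show Commute g z from hzc g).pow_right k).eq
  -- first: y * x^j = x^j * y * z^j
  have h1 : ∀ j : ℕ, y * x ^ j = x ^ j * y * z ^ j := by
    intro j
    induction j with
    | zero => simp
    | succ j ih =>
      calc y * x ^ (j + 1) = (y * x ^ j) * x := by rw [pow_succ, mul_assoc]
        _ = x ^ j * y * z ^ j * x := by rw [ih]
        _ = x ^ j * (y * x) * z ^ j := by
            rw [mul_assoc (x ^ j * y), ← hzc' j x]; simp only [mul_assoc]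
        _ = x ^ j * (x * y * z) * z ^ j := by rw [hyx]
        _ = x ^ (j + 1) * y * z ^ (j + 1) := by
            rw [pow_succ, pow_succ' z j]; simp only [mul_assoc]
  induction i with
  | zero => simp
  | succ i ih =>
    calc y ^ (i + 1) * x ^ j = y * (y ^ i * x ^ j) := by rw [pow_succ', mul_assoc]
      _ = y * (x ^ j * y ^ i * z ^ (i * j)) := by rw [ih]
      _ = (y * x ^ j) * y ^ i * z ^ (i * j) := by simp only [mul_assoc]
      _ = x ^ j * y * z ^ j * y ^ i * z ^ (i * j) := by rw [h1 j]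
      _ = x ^ j * (y * y ^ i) * (z ^ j * z ^ (i * j)) := by
          rw [mul_assoc (x ^ j * y), hzc' j (y ^ i) |>.symm]; simp only [mul_assoc]
      _ = x ^ j * y ^ (i + 1) * z ^ ((i + 1) * j) := by
          rw [← pow_succ', ← pow_add]; congr 2; ring

include hz in
theorem e_mul_val (i j : ZMod p) : e z (i * j) = z ^ (i.val * j.val) := by
  unfold e
  rw [ZMod.val_mul]
  exact (pow_eq_pow_mod _ hz).symm

omit [NeZero p] in
theorem heis_aux (X1 X2 Y1 Y2 C1 C2 C3 : T) (h1c : ∀ g : T, g * C1 = C1 * g)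
    (h3c : ∀ g : T, g * C3 = C3 * g) (h : Y1 * X2 = X2 * Y1 * C3) :
    X1 * X2 * (Y1 * Y2) * (C1 * C2 * C3) = (X1 * Y1 * C1) * (X2 * Y2 * C2) := by
  symm
  calc (X1 * Y1 * C1) * (X2 * Y2 * C2)
      = X1 * Y1 * (C1 * (X2 * Y2 * C2)) := by simp only [mul_assoc]
    _ = X1 * Y1 * ((X2 * Y2 * C2) * C1) := by rw [h1c]
    _ = X1 * (Y1 * X2) * (Y2 * C2 * C1) := by simp only [mul_assoc]
    _ = X1 * (X2 * Y1 * C3) * (Y2 * C2 * C1) := by rw [h]
    _ = X1 * X2 * Y1 * (C3 * (Y2 * C2 * C1)) := by simp only [mul_assoc]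
    _ = X1 * X2 * Y1 * ((Y2 * C2 * C1) * C3) := by rw [h3c]
    _ = X1 * X2 * (Y1 * Y2) * (C2 * C1 * C3) := by simp only [mul_assoc]
    _ = X1 * X2 * (Y1 * Y2) * (C1 * C2 * C3) := by rw [h1c C2]

include hx hy hz hzc hyx in
theorem heis_mul (u v : Heis p) :
    e x (u * v).a * e y (u * v).b * e z (u * v).c =
      (e x u.a * e y u.b * e z u.c) * (e x v.a * e y v.b * e z v.c) := by
  have hzc' : ∀ (k : ZMod p) (g : T), g * e z k = e z k * g := fun k g =>
    ((show Commute g z from hzc g).pow_right _).eq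
  have h1 : e y u.b * e x v.a = e x v.a * e y u.b * e z (u.b * v.a) := by
    rw [e_mul_val z hz]
    exact pow_comm_rel x y z hzc hyx _ _
  simp only [Heis.mul_def]
  rw [e_add hx, e_add hy, e_add hz, e_add hz]
  exact (heis_aux _ _ _ _ _ _ _ (hzc' u.c) (hzc' (u.b * v.a)) h1)

/-- the homomorphism from the Heisenberg group -/
def heisHom : Heis p →* T :=
  MonoidHom.mk' (fun u => e x u.a * e y u.b * e z u.c) (heis_mul x y z hx hy hz hzc hyx)

theorem heisHom_apply (u : Heis p) :
    heisHom x y z hx hy hz hzc hyx u = x ^ u.a.val * y ^ u.b.val * z ^ u.c.val := rfl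

end heisHom

end Cfsg.Agent.helper17.ES
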