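import Mathlib
import Cfsg.Agent.Lib_helper17_ES11

/-! Central type `p`-groups of exponent `p` are determined by their order (helper17). -/

set_option autoImplicit false

namespace Cfsg.Agent.helper17.ES

open scoped commutatorElement
open Cfsg.Agent.helper11.DihPres (e e_add e_zero' e_neg e_natCast)

universe u v

section

variable {T : Type*} [Group T] {p : ℕ} [hp : Fact p.Prime]

theorem orderOf_eq_of_pow {z : T} (hz : z ^ p = 1) (hz1 : z ≠ 1) : orderOf z = p :=
  orderOf_eq_prime hz hz1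

theorem pow_val_eq_one_iff {z : T} (hz : z ^ p = 1) (hz1 : z ≠ 1) (c : ZMod p) :
    z ^ c.val = 1 ↔ c = 0 := by
  haveI : NeZero p := ⟨hp.out.ne_zero⟩
  constructor
  · intro h
    have h1 := orderOf_dvd_of_pow_eq_one h
    rw [orderOf_eq_of_pow hz hz1] at h1
    have h2 : c.val < p := ZMod.val_lt c
    have h3 : c.val = 0 := Nat.eq_zero_of_dvd_of_lt h1 h2
    exact (ZMod.val_eq_zero c).mp h3
  · rintro rfl
    simp

/-- the homomorphism from the cyclic group of order `p` -/
def cycHom (z : T) (hz : z ^ p = 1) : Multiplicative (ZMod p) →* T :=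
  haveI : NeZero p := ⟨hp.out.ne_zero⟩
  MonoidHom.mk' (fun c => e z (Multiplicative.toAdd c)) (by
    intro a b
    exact e_add hz _ _)

theorem cycHom_apply (z : T) (hz : z ^ p = 1) (c : Multiplicative (ZMod p)) :
    cycHom z hz c = z ^ (Multiplicative.toAdd c).val := rfl

theorem cycHom_eq_one_iff (z : T) (hz : z ^ p = 1) (hz1 : z ≠ 1) (c : Multiplicative (ZMod p)) :
    cycHom z hz c = 1 ↔ c = 1 := by
  rw [cycHom_apply, pow_val_eq_one_iff hz hz1]
  rfl

theorem cycHom_surjective [Finite T] (z : T) (hz : z ^ p = 1) (hz1 : z ≠ 1) (hcard : Nat.card T = p) :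
    Function.Surjective (cycHom z hz) := by
  haveI : NeZero p := ⟨hp.out.ne_zero⟩
  intro g
  have h1 : g ∈ Subgroup.zpowers z := by
    rw [zpowers_eq_top_of_prime_card hcard hz1]
    exact Subgroup.mem_top g
  rw [← mem_powers_iff_mem_zpowers] at h1
  obtain ⟨k, rfl⟩ := h1
  refine ⟨Multiplicative.ofAdd (k : ZMod p), ?_⟩
  show e z ((k : ℕ) : ZMod p) = z ^ k
  exact e_natCast hz k

end

section step

variable {E : Type u} [Group E] {p : ℕ} [hp : Fact p.Prime]

theorem exists_heis_pair [Finite E] (hE : CT p E) (hbig : p < Nat.card E) {z : E}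
    (hz : z ∈ Subgroup.center E) : ∃ x y : E, ⁅y, x⁆ = z := by
  have : ∃ x : E, x ∉ Subgroup.center E := by
    by_contra hcon
    push Not at hcon
    have : Subgroup.center E = ⊤ := by
      ext x; simp [hcon x]
    have h2 := hE.1
    rw [this, Subgroup.card_top] at h2
    omega
  obtain ⟨y₀, hy₀⟩ := this
  rw [Subgroup.mem_center_iff, not_forall] at hy₀
  obtain ⟨x₀, hx₀⟩ := hy₀
  have hw1 : ⁅y₀, x₀⁆ ≠ 1 := by
    intro h
    exact hx₀ (commutatorElement_eq_one_iff_mul_comm.mp h).symm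
  set w : Subgroup.center E := ⟨⁅y₀, x₀⁆, hE.2 _ _⟩ with hw
  have hw1' : w ≠ 1 := fun h => hw1 (congrArg Subtype.val h)
  have hgen := zpowers_eq_top_of_prime_card (G := Subgroup.center E) hE.1 hw1'
  have hzmem : (⟨z, hz⟩ : Subgroup.center E) ∈ Subgroup.zpowers w := by
    rw [hgen]; exact Subgroup.mem_top _
  obtain ⟨k, hk⟩ := Subgroup.mem_zpowers_iff.mp hzmem
  refine ⟨x₀, y₀ ^ k, ?_⟩
  rw [comm_zpow_left hE.2]
  have := congrArg Subtype.val hk
  simpa using this

variable [Finite E] (hE : CT p E) (hexp : ∀ g : E, g ^ p = 1) (x y z : E)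
  (hzc : z ∈ Subgroup.center E) (hz1 : z ≠ 1) (hyx : ⁅y, x⁆ = z)

omit [Finite E] in
include hzc hyx in
theorem heis_rel : y * x = x * y * z := by
  have h1 := Subgroup.mem_center_iff.mp hzc
  rw [h1 (x * y), ← hyx]
  simp only [commutatorElement_def]
  group

omit [Finite E] in
include hyx hz1 in
theorem comm_xy_ne : ⁅x, y⁆ ≠ 1 := by
  intro h
  apply hz1
  rw [← hyx, ← commutatorElement_inv, h, inv_one]

/-- the cover `Heis p × C → E` -/
noncomputable def hcover : Heis p × pairCent x y →* E :=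
  haveI : NeZero p := ⟨hp.out.ne_zero⟩
  MonoidHom.noncommCoprod
    (heisHom x y z (hexp x) (hexp y) (hexp z) (Subgroup.mem_center_iff.mp hzc)
      (heis_rel x y z hzc hyx))
    (pairCent x y).subtype
    (by
      intro u c
      have hc := mem_pairCent.mp c.2
      have h1 : Commute x (c : E) := hc.1.symm
      have h2 : Commute y (c : E) := hc.2.symm
      have h3 : Commute z (c : E) := (Subgroup.mem_center_iff.mp hzc (c : E)).symm
      rw [heisHom_apply]
      exact ((h1.pow_left _).mul_left (h2.pow_left _)).mul_left (h3.pow_left _))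

theorem hcover_apply (u : Heis p) (c : pairCent x y) :
    hcover hexp x y z hzc hyx (u, c) = x ^ u.a.val * y ^ u.b.val * z ^ u.c.val * (c : E) := rfl

include hE hz1 in
theorem hcover_surjective : Function.Surjective (hcover hexp x y z hzc hyx) := by
  haveI : NeZero p := ⟨hp.out.ne_zero⟩
  haveI : Fact (1 < p) := ⟨hp.out.one_lt⟩
  intro g
  obtain ⟨_, _, _, hdec⟩ := split hE x y (comm_xy_ne x y z hz1 hyx)
  obtain ⟨a, b, hab⟩ := hdec g
  set H := heisHom x y z (hexp x) (hexp y) (hexp z) (Subgroup.mem_center_iff.mp hzc)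
      (heis_rel x y z hzc hyx) with hH
  have hHx : H ⟨1, 0, 0⟩ = x := by
    rw [hH, heisHom_apply]
    simp [ZMod.val_one]
  have hHy : H ⟨0, 1, 0⟩ = y := by
    rw [hH, heisHom_apply]
    simp [ZMod.val_one]
  refine ⟨((⟨0, 1, 0⟩ : Heis p) ^ a * (⟨1, 0, 0⟩ : Heis p) ^ b, ⟨_, hab⟩), ?_⟩
  show H ((⟨0, 1, 0⟩ : Heis p) ^ a * (⟨1, 0, 0⟩ : Heis p) ^ b) * ((y ^ a * x ^ b)⁻¹ * g) = g
  rw [map_mul, map_zpow, map_zpow, hHx, hHy]
  group

include hE hz1 in
theorem hcover_eq_one_iff (u : Heis p) (c : pairCent x y) :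
    hcover hexp x y z hzc hyx (u, c) = 1 ↔
      u.a = 0 ∧ u.b = 0 ∧ (c : E) * z ^ u.c.val = 1 := by
  haveI : NeZero p := ⟨hp.out.ne_zero⟩
  have hcen := Subgroup.mem_center_iff.mp hzc
  have hxy' : ⁅x, y⁆ = z⁻¹ := by rw [← hyx, commutatorElement_inv]
  rw [hcover_apply]
  constructor
  · intro h1
    set w := x ^ u.a.val * y ^ u.b.val * z ^ u.c.val with hw
    have h2 : w = (c : E)⁻¹ := eq_inv_of_mul_eq_one_left h1
    have hc := mem_pairCent.mp (Subgroup.inv_mem _ c.2)
    rw [← h2] at hc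
    have hzk : ∀ (k : ℕ) (g : E), ⁅z ^ k, g⁆ = 1 := by
      intro k g
      rw [commutatorElement_eq_one_iff_mul_comm]
      exact ((show Commute g z from hcen g).pow_right k).eq.symm
    have hwx : ⁅w, x⁆ = z ^ u.b.val := by
      rw [hw, comm_mul_left hE.2, comm_mul_left hE.2, comm_pow_left hE.2, comm_pow_left hE.2,
        commutatorElement_self, one_pow, one_mul, hyx, hzk, mul_one]
    have hwy : ⁅w, y⁆ = (z⁻¹) ^ u.a.val := by
      rw [hw, comm_mul_left hE.2, comm_mul_left hE.2, comm_pow_left hE.2, comm_pow_left hE.2,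
        commutatorElement_self, one_pow, mul_one, hxy', hzk, mul_one]
    have hb : u.b = 0 := by
      rw [← pow_val_eq_one_iff (hexp z) hz1, ← hwx, commutatorElement_eq_one_iff_mul_comm]
      exact hc.1
    have ha : u.a = 0 := by
      rw [← pow_val_eq_one_iff (hexp z) hz1]
      have : (z⁻¹) ^ u.a.val = 1 := by
        rw [← hwy, commutatorElement_eq_one_iff_mul_comm]
        exact hc.2
      rw [inv_pow, inv_eq_one] at this
      exact this
    refine ⟨ha, hb, ?_⟩
    rw [hw, ha, hb] at h1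
    simp only [ZMod.val_zero, pow_zero, one_mul] at h1
    rw [((show Commute (c : E) z from hcen (c : E)).pow_right _).eq]
    exact h1
  · rintro ⟨ha, hb, h1⟩
    rw [ha, hb]
    simp only [ZMod.val_zero, pow_zero, one_mul]
    rw [← ((show Commute (c : E) z from hcen (c : E)).pow_right _).eq]
    exact h1

end step

end Cfsg.Agent.helper17.ES
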