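import Mathlib
import Cfsg.Agent.Lib_helper17_ES12

/-! Central type `p`-groups of exponent `p` of the same order are isomorphic (helper17). -/

set_option autoImplicit false

namespace Cfsg.Agent.helper17.ES

open scoped commutatorElement

universe u v

theorem classify_exp (p : ℕ) [hp : Fact p.Prime] : ∀ (n : ℕ) (E : Type u) (E' : Type v)
    [Group E] [Group E'] [Finite E] [Finite E'],
    CT p E → CT p E' → (∀ g : E, g ^ p = 1) → (∀ g : E', g ^ p = 1) →
    Nat.card E = p ^ (2 * n + 1) → Nat.card E' = p ^ (2 * n + 1) →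
    ∀ z ∈ Subgroup.center E, z ≠ 1 → ∀ z' ∈ Subgroup.center E', z' ≠ 1 →
    ∃ φ : E ≃* E', φ z = z' := by
  intro n
  induction n with
  | zero =>
    intro E E' _ _ _ _ _ _ hexp hexp' hc hc' z _ hz1 z' _ hz1'
    simp only [mul_zero, zero_add, pow_one] at hc hc'
    obtain ⟨φ, hφ⟩ := equiv_of_common_cover' (cycHom z (hexp z)) (cycHom z' (hexp' z'))
      (cycHom_surjective z (hexp z) hz1 hc) (cycHom_surjective z' (hexp' z') hz1' hc')
      (fun q => by rw [cycHom_eq_one_iff z (hexp z) hz1, cycHom_eq_one_iff z' (hexp' z') hz1'])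
    refine ⟨φ, ?_⟩
    haveI : Fact (1 < p) := ⟨hp.out.one_lt⟩
    have h1 := hφ (Multiplicative.ofAdd (1 : ZMod p))
    rw [cycHom_apply, cycHom_apply] at h1
    simpa [ZMod.val_one] using h1
  | succ n ih =>
    intro E E' _ _ _ _ hE hE' hexp hexp' hc hc' z hzc hz1 z' hzc' hz1'
    haveI : Fact (1 < p) := ⟨hp.out.one_lt⟩
    have hbig : p < p ^ (2 * (n + 1) + 1) := by
      calc p = p ^ 1 := (pow_one p).symm
        _ < p ^ (2 * (n + 1) + 1) := Nat.pow_lt_pow_right hp.out.one_lt (by omega)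
    obtain ⟨x, y, hyx⟩ := exists_heis_pair hE (by rw [hc]; exact hbig) hzc
    obtain ⟨x', y', hyx'⟩ := exists_heis_pair hE' (by rw [hc']; exact hbig) hzc'
    obtain ⟨hc1, hcen, hC, _⟩ := split hE x y (comm_xy_ne x y z hz1 hyx)
    obtain ⟨hc1', hcen', hC', _⟩ := split hE' x' y' (comm_xy_ne x' y' z' hz1' hyx')
    have e1 : p ^ (2 * (n + 1) + 1) = p ^ (2 * n + 1) * p ^ 2 := by
      rw [← pow_add]; congr 1
    have hp2 : 0 < p ^ 2 := Nat.pos_of_ne_zero (by have := hp.out.ne_zero; positivity)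
    have hcC : Nat.card (pairCent x y) = p ^ (2 * n + 1) := by
      rw [hc, e1] at hc1
      exact (Nat.eq_of_mul_eq_mul_right hp2 hc1).symm
    have hcC' : Nat.card (pairCent x' y') = p ^ (2 * n + 1) := by
      rw [hc', e1] at hc1'
      exact (Nat.eq_of_mul_eq_mul_right hp2 hc1').symm
    have hzC : z ∈ pairCent x y := center_le_pairCent x y hzc
    have hzC' : z' ∈ pairCent x' y' := center_le_pairCent x' y' hzc'
    have hexpC : ∀ g : pairCent x y, g ^ p = 1 := fun g => by
      apply Subtype.ext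
      simpa using hexp (g : E)
    have hexpC' : ∀ g : pairCent x' y', g ^ p = 1 := fun g => by
      apply Subtype.ext
      simpa using hexp' (g : E')
    obtain ⟨ψ, hψ⟩ := ih (pairCent x y) (pairCent x' y') hC hC' hexpC hexpC' hcC hcC'
      ⟨z, hzC⟩ (by rw [hcen, Subgroup.mem_subgroupOf]; exact hzc)
      (fun h => hz1 (congrArg Subtype.val h))
      ⟨z', hzC'⟩ (by rw [hcen', Subgroup.mem_subgroupOf]; exact hzc')
      (fun h => hz1' (congrArg Subtype.val h))
    let μ := hcover hexp x y z hzc hyx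
    let μ' : Heis p × pairCent x y →* E' :=
      (hcover hexp' x' y' z' hzc' hyx').comp
        (MonoidHom.prodMap (MonoidHom.id (Heis p)) ψ.toMonoidHom)
    have hμ : Function.Surjective μ := hcover_surjective hE hexp x y z hzc hz1 hyx
    have hμ' : Function.Surjective μ' := by
      intro g
      obtain ⟨⟨d, c'⟩, hdc⟩ := hcover_surjective hE' hexp' x' y' z' hzc' hz1' hyx' g
      refine ⟨(d, ψ.symm c'), ?_⟩
      show hcover hexp' x' y' z' hzc' hyx' (d, ψ (ψ.symm c')) = g
      rw [ψ.apply_symm_apply]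
      exact hdc
    have hker : ∀ q, μ q = 1 ↔ μ' q = 1 := by
      rintro ⟨d, c⟩
      show hcover hexp x y z hzc hyx (d, c) = 1 ↔ hcover hexp' x' y' z' hzc' hyx' (d, ψ c) = 1
      rw [hcover_eq_one_iff hE hexp x y z hzc hz1 hyx,
        hcover_eq_one_iff hE' hexp' x' y' z' hzc' hz1' hyx']
      have key : (c : E) * z ^ d.c.val = 1 ↔ ((ψ c : pairCent x' y') : E') * z' ^ d.c.val = 1 := by
        have h1 : (c : E) * z ^ d.c.val = ((c * (⟨z, hzC⟩ : pairCent x y) ^ d.c.val :
            pairCent x y) : E) := by simp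
        have h2 : ((ψ c : pairCent x' y') : E') * z' ^ d.c.val =
            ((ψ (c * (⟨z, hzC⟩ : pairCent x y) ^ d.c.val) : pairCent x' y') : E') := by
          rw [map_mul, map_pow, hψ]; simp
        rw [h1, h2]
        constructor
        · intro h
          have h3 : c * (⟨z, hzC⟩ : pairCent x y) ^ d.c.val = 1 := Subtype.ext h
          rw [h3, map_one]; rfl
        · intro h
          have h3 : ψ (c * (⟨z, hzC⟩ : pairCent x y) ^ d.c.val) = 1 := Subtype.ext h
          have h4 : c * (⟨z, hzC⟩ : pairCent x y) ^ d.c.val = 1 := by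
            apply ψ.injective
            rw [h3, map_one]
          rw [h4]; rfl
      rw [key]
    obtain ⟨φ, hφ⟩ := equiv_of_common_cover' μ μ' hμ hμ' hker
    refine ⟨φ, ?_⟩
    have h1 := hφ ((⟨0, 0, 1⟩ : Heis p), 1)
    have h2 : μ ((⟨0, 0, 1⟩ : Heis p), 1) = z := by
      show hcover hexp x y z hzc hyx ((⟨0, 0, 1⟩ : Heis p), 1) = z
      rw [hcover_apply]
      simp [ZMod.val_one]
    have h3 : μ' ((⟨0, 0, 1⟩ : Heis p), 1) = z' := by
      show hcover hexp' x' y' z' hzc' hyx' ((⟨0, 0, 1⟩ : Heis p), ψ 1) = z'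
      rw [hcover_apply, map_one]
      simp [ZMod.val_one]
    rw [h2, h3] at h1
    exact h1

end Cfsg.Agent.helper17.ES
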