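import Mathlib
import Cfsg.Prelude.Def_FischerSpaces
import Cfsg.Agent.Lib_helper26_S4

set_option autoImplicit false

/-!
# The Fischer space of a set of 3-transpositions (helper17)

* `iso_of_param`: a general criterion for `restrict L (span L U)` to be isomorphic to a model.
* `tri_*`: the three involutions of the `S₃` generated by two non-commuting 3-transpositions.
-/

namespace Cfsg.Agent.helper17.Fischer

open Cfsg

/-- General criterion: a parametrisation `f` of a set of points by a model line system. -/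
theorem iso_of_param {X M : Type*} (L : Set (Set X)) (Lm : Set (Set M)) (f : M → X)
    (hf : Function.Injective f) (U : Set X)
    (hpl : LineSystem.IsPartialLinear L)
    (h2 : ∀ l ∈ L, ∃ x ∈ l, ∃ y ∈ l, x ≠ y)
    (hi : ∀ lam ∈ Lm, f '' lam ∈ L)
    (hii : ∀ μ ν : M, μ ≠ ν → (∃ l ∈ L, f μ ∈ l ∧ f ν ∈ l) → ∃ lam ∈ Lm, μ ∈ lam ∧ ν ∈ lam)
    (hU : U ⊆ Set.range f)
    (hgen : ∀ μ : M, f μ ∈ LineSystem.span L U) :
    LineSystem.Isomorphic (LineSystem.restrict L (LineSystem.span L U)) Lm := by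
  classical
  have hline : ∀ l ∈ L, ∀ μ ν : M, μ ≠ ν → f μ ∈ l → f ν ∈ l → ∃ lam ∈ Lm, l = f '' lam := by
    intro l hl μ ν hμν hμ hν
    obtain ⟨lam, hlam, hμ', hν'⟩ := hii μ ν hμν ⟨l, hl, hμ, hν⟩
    refine ⟨lam, hlam, ?_⟩
    exact hpl l hl (f '' lam) (hi lam hlam) (f μ) (f ν) (fun h => hμν (hf h)) hμ hν
      ⟨μ, hμ', rfl⟩ ⟨ν, hν', rfl⟩
  have hsub : LineSystem.IsSubspace L (Set.range f) := by
    intro l hl x hx y hy hxy hxl hyl
    obtain ⟨μ, rfl⟩ := hx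
    obtain ⟨ν, rfl⟩ := hy
    have hμν : μ ≠ ν := fun h => hxy (by rw [h])
    obtain ⟨lam, _, hleq⟩ := hline l hl μ ν hμν hxl hyl
    rw [hleq]
    rintro _ ⟨ρ, _, rfl⟩
    exact ⟨ρ, rfl⟩
  have hspan : LineSystem.span L U = Set.range f := by
    apply Set.Subset.antisymm
    · exact Set.sInter_subset_of_mem ⟨hU, hsub⟩
    · rintro _ ⟨μ, rfl⟩
      exact hgen μ
  let e0 : M → ↥(LineSystem.span L U) := fun μ => ⟨f μ, hgen μ⟩
  have he0 : Function.Bijective e0 := by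
    constructor
    · intro μ ν h
      exact hf (congrArg Subtype.val h)
    · intro x
      have hx : (x : X) ∈ Set.range f := by rw [← hspan]; exact x.2
      obtain ⟨μ, hμ⟩ := hx
      exact ⟨μ, Subtype.ext hμ⟩
  let E : M ≃ ↥(LineSystem.span L U) := Equiv.ofBijective e0 he0
  have hE : ∀ μ, ((E μ : ↥(LineSystem.span L U)) : X) = f μ := fun μ => rfl
  have hEs : ∀ x : ↥(LineSystem.span L U), f (E.symm x) = (x : X) := by
    intro x
    rw [← hE (E.symm x), Equiv.apply_symm_apply]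
  refine ⟨E.symm, ?_⟩
  intro t
  constructor
  · rintro ⟨l', hl', hsub', rfl⟩
    obtain ⟨x, hx, y, hy, hxy⟩ := h2 l' hl'
    have hx' : x ∈ Set.range f := by rw [← hspan]; exact hsub' hx
    have hy' : y ∈ Set.range f := by rw [← hspan]; exact hsub' hy
    obtain ⟨μ, rfl⟩ := hx'
    obtain ⟨ν, rfl⟩ := hy'
    have hμν : μ ≠ ν := fun h => hxy (by rw [h])
    obtain ⟨lam, hlam, hleq⟩ := hline l' hl' μ ν hμν hx hy
    have hset : E.symm '' {x : ↥(LineSystem.span L U) | (x : X) ∈ l'} = lam := by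
      ext ρ
      constructor
      · rintro ⟨x, hx, rfl⟩
        have hx2 : (x : X) ∈ f '' lam := by rw [← hleq]; exact hx
        obtain ⟨ρ', hρ', hρ'x⟩ := hx2
        have : E.symm x = ρ' := by
          apply hf
          rw [hEs, hρ'x]
        rw [this]
        exact hρ'
      · intro hρ
        refine ⟨E ρ, ?_, E.symm_apply_apply ρ⟩
        show ((E ρ : ↥(LineSystem.span L U)) : X) ∈ l'
        rw [hE, hleq]
        exact ⟨ρ, hρ, rfl⟩
    rw [hset]
    exact hlam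
  · intro ht
    refine ⟨f '' (E.symm '' t), hi _ ht, ?_, ?_⟩
    · rintro _ ⟨ρ, _, rfl⟩
      exact hgen ρ
    · ext x
      constructor
      · intro hx
        exact ⟨E.symm x, ⟨x, hx, rfl⟩, hEs x⟩
      · rintro ⟨ρ, ⟨y, hy, rfl⟩, hρ⟩
        rw [hEs] at hρ
        have : y = x := Subtype.ext hρ
        rw [← this]
        exact hy

section tri

variable {G : Type*} [Group G] {D : Set G}

open Cfsg.Agent.h26S4

theorem braid (hD : IsThreeTranspositionSet D) {x y : G} (hx : x ∈ D) (hy : y ∈ D)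
    (h : ¬ Commute x y) : x * y * x = y * x * y := by
  have h3 := cube_of_not_commute hD hx hy h
  have hxx : x * x = 1 := by rw [← sq]; exact sq_eq_one_of_mem hD hx
  have hyy : y * y = 1 := by rw [← sq]; exact sq_eq_one_of_mem hD hy
  have h4 : x * y * x * (y * x * y) = 1 := by
    have : (x * y) ^ 3 = x * y * x * (y * x * y) := by rw [pow_three']; group
    rw [← this]; exact h3
  have h5 : y * x * y * (y * x * y) = 1 := by
    calc y * x * y * (y * x * y) = y * x * (y * y) * x * y := by group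
      _ = y * (x * x) * y := by rw [hyy]; group
      _ = 1 := by rw [hxx, mul_one, hyy]
  have h6 : x * y * x * (y * x * y) = y * x * y * (y * x * y) := by rw [h4, h5]
  exact mul_right_cancel h6

/-- the table of the three involutions `x, y, w = y x y⁻¹` of an `S₃`. -/
theorem tri_table (hD : IsThreeTranspositionSet D) {x y : G} (hx : x ∈ D) (hy : y ∈ D)
    (h : ¬ Commute x y) :
    x * y * x⁻¹ = y * x * y⁻¹ ∧ (y * x * y⁻¹) * x * (y * x * y⁻¹)⁻¹ = y ∧
    x * (y * x * y⁻¹) * x⁻¹ = y ∧ (y * x * y⁻¹) * y * (y * x * y⁻¹)⁻¹ = x ∧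
    y * (y * x * y⁻¹) * y⁻¹ = x ∧ x ≠ y ∧ x ≠ y * x * y⁻¹ ∧ y ≠ y * x * y⁻¹ := by
  have hxi := inv_eq_of_mem hD hx
  have hyi := inv_eq_of_mem hD hy
  have hxx : x * x = 1 := by rw [← sq]; exact sq_eq_one_of_mem hD hx
  have hyy : y * y = 1 := by rw [← sq]; exact sq_eq_one_of_mem hD hy
  have hb := braid hD hx hy h
  have hwi : (y * x * y⁻¹)⁻¹ = y * x * y := by rw [hyi]; rw [mul_inv_rev, mul_inv_rev, hxi, hyi, mul_assoc]
  have h1 : x * y * x⁻¹ = y * x * y⁻¹ := by rw [hxi, hyi]; exact hb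
  have h3 : x * (y * x * y⁻¹) * x⁻¹ = y := by
    rw [hxi, hyi]
    calc x * (y * x * y) * x = (x * y * x) * y * x := by group
      _ = y * x * (y * y) * x := by rw [hb]; group
      _ = y := by rw [hyy, mul_one, mul_assoc, hxx, mul_one]
  have h2 : (y * x * y⁻¹) * x * (y * x * y⁻¹)⁻¹ = y := by
    rw [hwi, hyi]
    calc y * x * y * x * (y * x * y) = y * (x * y * x) * (y * x * y) := by group
      _ = y * (y * x * y) * (y * x * y) := by rw [hb]
      _ = (y * y) * x * (y * y) * x * y := by group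
      _ = y := by rw [hyy, one_mul, mul_one, hxx, one_mul]
  have h4 : (y * x * y⁻¹) * y * (y * x * y⁻¹)⁻¹ = x := by
    rw [hwi, hyi]
    calc y * x * y * y * (y * x * y) = y * x * (y * y) * (y * x * y) := by group
      _ = y * x * (y * x * y) := by rw [hyy, mul_one]
      _ = y * (x * y * x) * y := by group
      _ = (y * y) * x * (y * y) := by rw [hb]; group
      _ = x := by rw [hyy, one_mul, mul_one]
  have h5 : y * (y * x * y⁻¹) * y⁻¹ = x := by
    rw [hyi]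
    calc y * (y * x * y) * y = (y * y) * x * (y * y) := by group
      _ = x := by rw [hyy, one_mul, mul_one]
  have hne1 : x ≠ y := by
    intro he; apply h; rw [he]
  have hne2 : x ≠ y * x * y⁻¹ := by
    intro he
    apply h
    have : x * y = y * x := by
      calc x * y = (y * x * y⁻¹) * y := by rw [← he]
        _ = y * x := by group
    exact this
  have hne3 : y ≠ y * x * y⁻¹ := by
    intro he
    apply hne1
    have : y * x = y * y := by
      calc y * x = (y * x * y⁻¹) * y := by group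
        _ = y * y := by rw [← he]
    exact mul_left_cancel this
  exact ⟨h1, h2, h3, h4, h5, hne1, hne2, hne3⟩

/-- the point set of the line through `x, y`. -/
def triSet (x y : G) : Set G := {z | z = x ∨ z = y ∨ z = y * x * y⁻¹}

theorem tri_two (hD : IsThreeTranspositionSet D) (hc : ∀ g : G, ∀ d ∈ D, g * d * g⁻¹ ∈ D)
    {x y : G} (hx : x ∈ D) (hy : y ∈ D)
    (h : ¬ Commute x y) {p q : G} (hp : p ∈ triSet x y) (hq : q ∈ triSet x y) (hpq : p ≠ q) :
    p ∈ D ∧ q ∈ D ∧ ¬ Commute p q ∧ triSet p q = triSet x y := by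
  obtain ⟨h1, h2, h3, h4, h5, hne1, hne2, hne3⟩ := tri_table hD hx hy h
  have hw : y * x * y⁻¹ ∈ D := hc y x hx
  have key : ∀ p q r : G, p ∈ D → q ∈ D → p ≠ q → p ≠ r → q * p * q⁻¹ = r →
      ((∀ z, (z = p ∨ z = q ∨ z = r) ↔ (z = x ∨ z = y ∨ z = y * x * y⁻¹))) →
      p ∈ D ∧ q ∈ D ∧ ¬ Commute p q ∧ triSet p q = triSet x y := by
    intro p q r hp hq hpq hpr hr hz
    refine ⟨hp, hq, ?_, ?_⟩
    · intro hcomm
      apply hpr
      rw [← hr]
      have : q * p = p * q := hcomm.eq.symm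
      rw [this]; group
    · ext z
      show (z = p ∨ z = q ∨ z = q * p * q⁻¹) ↔ _
      rw [hr]
      exact hz z
  rcases hp with rfl | rfl | rfl <;> rcases hq with rfl | rfl | rfl
  · exact (hpq rfl).elim
  · exact key _ _ _ hx hy hne1 hne2 rfl (fun z => Iff.rfl)
  · exact key _ _ _ hx hw hne2 hne1 h2 (fun z => by tauto)
  · exact key _ _ _ hy hx hne1.symm hne3 h1 (fun z => by tauto)
  · exact (hpq rfl).elim
  · exact key _ _ _ hy hw hne3 hne1.symm h4 (fun z => by tauto)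
  · exact key _ _ _ hw hx hne2.symm hne3.symm h3 (fun z => by tauto)
  · exact key _ _ _ hw hy hne3.symm hne2.symm h5 (fun z => by tauto)
  · exact (hpq rfl).elim

end tri


section aff

variable {G : Type*} [Group G]

/-- the relations satisfied by `a`, `u = a b`, `v = a d` in the affine case. -/
structure AffData (a u v : G) : Prop where
  ha : a * a = 1
  hau : a * u * a⁻¹ = u⁻¹
  hav : a * v * a⁻¹ = v⁻¹
  hu : u ^ 3 = 1
  hv : v ^ 3 = 1
  huv : (u * v) ^ 3 = 1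
  huv' : (u * v⁻¹) ^ 3 = 1
  hu1 : u ≠ 1
  hv1 : v ≠ 1
  hne : u ≠ v
  hne' : u * v ≠ 1

theorem cube_facts {x : G} (hx : x ^ 3 = 1) : x * x * x = 1 ∧ x⁻¹ * x⁻¹ = x ∧ x * x = x⁻¹ := by
  have h3 : x * x * x = 1 := by rw [← pow_three']; exact hx
  refine ⟨h3, ?_, ?_⟩
  · calc x⁻¹ * x⁻¹ = x⁻¹ * x⁻¹ * (x * x * x) := by rw [h3, mul_one]
      _ = x := by group
  · calc x * x = x * x * x * x⁻¹ := by group
      _ = x⁻¹ := by rw [h3, one_mul]

/-- the central element. -/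
theorem exists_central {a u v : G} (h : AffData a u v) :
    ∃ ζ : G, Commute ζ u ∧ Commute ζ v ∧ Commute ζ a ∧ v * u = u * v * ζ := by
  obtain ⟨hu3, hu2, huu⟩ := cube_facts h.hu
  obtain ⟨hv3, hv2, hvv⟩ := cube_facts h.hv
  have hA1 : (u * v * u⁻¹) * (u⁻¹ * v * u) * v = 1 := by
    calc (u * v * u⁻¹) * (u⁻¹ * v * u) * v = u * v * (u⁻¹ * u⁻¹) * v * u * v := by group
      _ = u * v * u * v * u * v := by rw [hu2]
      _ = (u * v) ^ 3 := by rw [pow_three']; group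
      _ = 1 := h.huv
  have hA2 : v * ((u⁻¹ * v * u) * (u * v * u⁻¹)) = 1 := by
    calc v * ((u⁻¹ * v * u) * (u * v * u⁻¹)) = v * u⁻¹ * v * (u * u) * v * u⁻¹ := by group
      _ = v * u⁻¹ * v * u⁻¹ * v * u⁻¹ := by rw [huu]
      _ = ((u * v⁻¹) ^ 3)⁻¹ := by rw [pow_three']; group
      _ = 1 := by rw [h.huv', inv_one]
  have comm12 : (u * v * u⁻¹) * (u⁻¹ * v * u) = (u⁻¹ * v * u) * (u * v * u⁻¹) := by
    rw [eq_inv_of_mul_eq_one_left hA1, eq_inv_of_mul_eq_one_right hA2]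
  have hc1 : u * (u * v * u⁻¹) * u⁻¹ = u⁻¹ * v * u := by
    calc u * (u * v * u⁻¹) * u⁻¹ = (u * u) * v * (u⁻¹ * u⁻¹) := by group
      _ = u⁻¹ * v * u := by rw [huu, hu2]
  have hc2 : u * (u⁻¹ * v * u) * u⁻¹ = v := by group
  have comm20 : (u⁻¹ * v * u) * v = v * (u⁻¹ * v * u) := by
    calc (u⁻¹ * v * u) * v = (u * (u * v * u⁻¹) * u⁻¹) * (u * (u⁻¹ * v * u) * u⁻¹) := by
          rw [hc1, hc2]
      _ = u * ((u * v * u⁻¹) * (u⁻¹ * v * u)) * u⁻¹ := by group
      _ = u * ((u⁻¹ * v * u) * (u * v * u⁻¹)) * u⁻¹ := by rw [comm12]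
      _ = (u * (u⁻¹ * v * u) * u⁻¹) * (u * (u * v * u⁻¹) * u⁻¹) := by group
      _ = v * (u⁻¹ * v * u) := by rw [hc1, hc2]
  have comm01 : v * (u * v * u⁻¹) = (u * v * u⁻¹) * v := by
    calc v * (u * v * u⁻¹) = (u * (u⁻¹ * v * u) * u⁻¹) * (u * v * u⁻¹) := by rw [hc2]
      _ = u * ((u⁻¹ * v * u) * v) * u⁻¹ := by group
      _ = u * (v * (u⁻¹ * v * u)) * u⁻¹ := by rw [comm20]
      _ = (u * v * u⁻¹) * (u * (u⁻¹ * v * u) * u⁻¹) := by group
      _ = (u * v * u⁻¹) * v := by rw [hc2]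
  have c01 : Commute v (u * v * u⁻¹) := comm01
  -- z = u v u⁻¹ v⁻¹
  have hzv : Commute (u * v * u⁻¹ * v⁻¹) v := by
    show (u * v * u⁻¹ * v⁻¹) * v = v * (u * v * u⁻¹ * v⁻¹)
    calc (u * v * u⁻¹ * v⁻¹) * v = (u * v * u⁻¹) * v * v⁻¹ := by group
      _ = v * (u * v * u⁻¹) * v⁻¹ := by rw [comm01]
      _ = v * (u * v * u⁻¹ * v⁻¹) := by group
  have hw13 : (u * v * u⁻¹) * (u * v * u⁻¹) * (u * v * u⁻¹) = 1 := by
    calc (u * v * u⁻¹) * (u * v * u⁻¹) * (u * v * u⁻¹) = u * (v * v * v) * u⁻¹ := by group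
      _ = 1 := by rw [hv3]; group
  have hw1ii : (u * v * u⁻¹)⁻¹ * (u * v * u⁻¹)⁻¹ = u * v * u⁻¹ := by
    calc (u * v * u⁻¹)⁻¹ * (u * v * u⁻¹)⁻¹
        = (u * v * u⁻¹)⁻¹ * (u * v * u⁻¹)⁻¹ * ((u * v * u⁻¹) * (u * v * u⁻¹) * (u * v * u⁻¹)) := by
          rw [hw13, mul_one]
      _ = u * v * u⁻¹ := by group
  have hw2 : u⁻¹ * v * u = (u * v * u⁻¹)⁻¹ * v⁻¹ := by
    calc u⁻¹ * v * u = (u * v * u⁻¹)⁻¹ * ((u * v * u⁻¹) * (u⁻¹ * v * u) * v) * v⁻¹ := by group
      _ = (u * v * u⁻¹)⁻¹ * v⁻¹ := by rw [hA1, mul_one]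
  have hzu' : u * (u * v * u⁻¹ * v⁻¹) * u⁻¹ = u * v * u⁻¹ * v⁻¹ := by
    calc u * (u * v * u⁻¹ * v⁻¹) * u⁻¹ = (u * (u * v * u⁻¹) * u⁻¹) * (u * v * u⁻¹)⁻¹ := by group
      _ = (u⁻¹ * v * u) * (u * v * u⁻¹)⁻¹ := by rw [hc1]
      _ = (u * v * u⁻¹)⁻¹ * v⁻¹ * (u * v * u⁻¹)⁻¹ := by rw [hw2]
      _ = (u * v * u⁻¹)⁻¹ * (v⁻¹ * (u * v * u⁻¹)⁻¹) := by group
      _ = (u * v * u⁻¹)⁻¹ * ((u * v * u⁻¹)⁻¹ * v⁻¹) := by rw [c01.inv_inv.eq]
      _ = ((u * v * u⁻¹)⁻¹ * (u * v * u⁻¹)⁻¹) * v⁻¹ := by group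
      _ = (u * v * u⁻¹) * v⁻¹ := by rw [hw1ii]
  have hzu : Commute (u * v * u⁻¹ * v⁻¹) u := by
    show (u * v * u⁻¹ * v⁻¹) * u = u * (u * v * u⁻¹ * v⁻¹)
    calc (u * v * u⁻¹ * v⁻¹) * u = (u * (u * v * u⁻¹ * v⁻¹) * u⁻¹) * u := by rw [hzu']
      _ = u * (u * v * u⁻¹ * v⁻¹) := by group
  have hzvu : (u * v * u⁻¹ * v⁻¹) * v * u = u * v := by group
  have hza' : a * (u * v * u⁻¹ * v⁻¹) * a⁻¹ = u * v * u⁻¹ * v⁻¹ := by
    have czuv : Commute (u⁻¹ * v⁻¹) (u * v * u⁻¹ * v⁻¹) :=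
      ((hzu.inv_right).mul_right (hzv.inv_right)).symm
    calc a * (u * v * u⁻¹ * v⁻¹) * a⁻¹
        = (a * u * a⁻¹) * (a * v * a⁻¹) * (a * u * a⁻¹)⁻¹ * (a * v * a⁻¹)⁻¹ := by group
      _ = u⁻¹ * v⁻¹ * u * v := by rw [h.hau, h.hav, inv_inv, inv_inv]
      _ = u⁻¹ * v⁻¹ * (u * v) := by group
      _ = u⁻¹ * v⁻¹ * ((u * v * u⁻¹ * v⁻¹) * v * u) := by rw [hzvu]
      _ = (u⁻¹ * v⁻¹) * (u * v * u⁻¹ * v⁻¹) * (v * u) := by group
      _ = (u * v * u⁻¹ * v⁻¹) * (u⁻¹ * v⁻¹) * (v * u) := by rw [czuv.eq]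
      _ = u * v * u⁻¹ * v⁻¹ := by group
  have hza : Commute (u * v * u⁻¹ * v⁻¹) a := by
    show (u * v * u⁻¹ * v⁻¹) * a = a * (u * v * u⁻¹ * v⁻¹)
    calc (u * v * u⁻¹ * v⁻¹) * a = (a * (u * v * u⁻¹ * v⁻¹) * a⁻¹) * a := by rw [hza']
      _ = a * (u * v * u⁻¹ * v⁻¹) := by group
  refine ⟨(u * v * u⁻¹ * v⁻¹)⁻¹, hzu.inv_left, hzv.inv_left, hza.inv_left, ?_⟩
  have czuv2 : Commute (u * v * u⁻¹ * v⁻¹)⁻¹ (u * v) := (hzu.mul_right hzv).inv_left
  calc v * u = (u * v * u⁻¹ * v⁻¹)⁻¹ * ((u * v * u⁻¹ * v⁻¹) * v * u) := by group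
    _ = (u * v * u⁻¹ * v⁻¹)⁻¹ * (u * v) := by rw [hzvu]
    _ = u * v * (u * v * u⁻¹ * v⁻¹)⁻¹ := czuv2.eq

theorem comm_pow1 {u v ζ : G} (hζu : Commute ζ u) (hvu : v * u = u * v * ζ) (t : ℕ) :
    v * u ^ t = u ^ t * v * ζ ^ t := by
  induction t with
  | zero => simp
  | succ t ih =>
    have c1 : Commute (ζ ^ t) u := hζu.pow_left t
    calc v * u ^ (t + 1) = (v * u ^ t) * u := by rw [pow_succ, mul_assoc]
      _ = u ^ t * v * ζ ^ t * u := by rw [ih]
      _ = u ^ t * v * (ζ ^ t * u) := by simp only [mul_assoc]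
      _ = u ^ t * v * (u * ζ ^ t) := by rw [c1.eq]
      _ = u ^ t * (v * u) * ζ ^ t := by simp only [mul_assoc]
      _ = u ^ t * (u * v * ζ) * ζ ^ t := by rw [hvu]
      _ = u ^ (t + 1) * v * ζ ^ (t + 1) := by rw [pow_succ, pow_succ']; simp only [mul_assoc]

theorem comm_pow2 {u v ζ : G} (hζu : Commute ζ u) (hζv : Commute ζ v)
    (hvu : v * u = u * v * ζ) (s t : ℕ) :
    v ^ s * u ^ t = u ^ t * v ^ s * ζ ^ (s * t) := by
  induction s with
  | zero => simp
  | succ s ih =>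
    have c1 : Commute (ζ ^ (s * t)) v := hζv.pow_left _
    calc v ^ (s + 1) * u ^ t = v ^ s * (v * u ^ t) := by rw [pow_succ, mul_assoc]
      _ = v ^ s * (u ^ t * v * ζ ^ t) := by rw [comm_pow1 hζu hvu]
      _ = (v ^ s * u ^ t) * v * ζ ^ t := by simp only [mul_assoc]
      _ = u ^ t * v ^ s * ζ ^ (s * t) * v * ζ ^ t := by rw [ih]
      _ = u ^ t * v ^ s * (ζ ^ (s * t) * v) * ζ ^ t := by simp only [mul_assoc]
      _ = u ^ t * v ^ s * (v * ζ ^ (s * t)) * ζ ^ t := by rw [c1.eq]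
      _ = u ^ t * (v ^ s * v) * (ζ ^ (s * t) * ζ ^ t) := by simp only [mul_assoc]
      _ = u ^ t * v ^ (s + 1) * ζ ^ ((s + 1) * t) := by
          rw [← pow_succ, ← pow_add]; congr 2; ring

/-- the nine points. -/
def Pt (a u v : G) (i j : ℕ) : G := u ^ i * v ^ j * a * (u ^ i * v ^ j)⁻¹

theorem Pt_mod {a u v : G} (h : AffData a u v) (i j : ℕ) :
    Pt a u v i j = Pt a u v (i % 3) (j % 3) := by
  unfold Pt
  rw [← pow_eq_pow_mod i h.hu, ← pow_eq_pow_mod j h.hv]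

theorem conj_central {a y c : G} (hc : Commute c a) : (y * c) * a * (y * c)⁻¹ = y * a * y⁻¹ := by
  calc (y * c) * a * (y * c)⁻¹ = y * (c * a) * c⁻¹ * y⁻¹ := by group
    _ = y * (a * c) * c⁻¹ * y⁻¹ := by rw [hc.eq]
    _ = y * a * y⁻¹ := by group

theorem inv_pow_eq {x : G} (hx : x ^ 3 = 1) (k : ℕ) : (x ^ k)⁻¹ = x ^ (2 * k) := by
  apply inv_eq_of_mul_eq_one_right
  rw [← pow_add, show k + 2 * k = 3 * k by ring, pow_mul, hx, one_pow]

theorem conj_a_word {a u v : G} (h : AffData a u v) (i j k l : ℕ) :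
    a * ((u ^ i * v ^ j)⁻¹ * (u ^ k * v ^ l)) = (v ^ j * u ^ i * (u ^ k)⁻¹ * (v ^ l)⁻¹) * a := by
  have hu : ∀ n : ℕ, a * u ^ n * a⁻¹ = (u ^ n)⁻¹ := by
    intro n; rw [← conj_pow, h.hau, inv_pow]
  have hv : ∀ n : ℕ, a * v ^ n * a⁻¹ = (v ^ n)⁻¹ := by
    intro n; rw [← conj_pow, h.hav, inv_pow]
  have key : a * ((u ^ i * v ^ j)⁻¹ * (u ^ k * v ^ l)) * a⁻¹
      = v ^ j * u ^ i * (u ^ k)⁻¹ * (v ^ l)⁻¹ := by
    calc a * ((u ^ i * v ^ j)⁻¹ * (u ^ k * v ^ l)) * a⁻¹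
        = (a * v ^ j * a⁻¹)⁻¹ * (a * u ^ i * a⁻¹)⁻¹ * (a * u ^ k * a⁻¹) * (a * v ^ l * a⁻¹) := by
          group
      _ = v ^ j * u ^ i * (u ^ k)⁻¹ * (v ^ l)⁻¹ := by rw [hu, hu, hv, hv, inv_inv, inv_inv]
  rw [← key]; group

theorem Pt_formula {a u v : G} (h : AffData a u v) (i j k l : ℕ) :
    Pt a u v i j * Pt a u v k l * (Pt a u v i j)⁻¹ = Pt a u v (2 * i + 2 * k) (2 * j + 2 * l) := by
  obtain ⟨ζ, hζu, hζv, hζa, hvu⟩ := exists_central h
  have h1 : Pt a u v i j * Pt a u v k l * (Pt a u v i j)⁻¹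
      = (u ^ i * v ^ j * (a * ((u ^ i * v ^ j)⁻¹ * (u ^ k * v ^ l)))) * a *
        (u ^ i * v ^ j * (a * ((u ^ i * v ^ j)⁻¹ * (u ^ k * v ^ l))))⁻¹ := by
    unfold Pt
    generalize u ^ i * v ^ j = x
    generalize u ^ k * v ^ l = y
    group
  rw [h1, conj_a_word h]
  have h2 : u ^ i * v ^ j * ((v ^ j * u ^ i * (u ^ k)⁻¹ * (v ^ l)⁻¹) * a)
      = (u ^ i * v ^ j * (v ^ j * u ^ i * (u ^ k)⁻¹ * (v ^ l)⁻¹)) * a := by
    simp only [mul_assoc]
  rw [h2]
  have h3 : ∀ g' : G, (g' * a) * a * (g' * a)⁻¹ = g' * a * g'⁻¹ := by intro g'; group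
  rw [h3]
  have h4 : u ^ i * v ^ j * (v ^ j * u ^ i * (u ^ k)⁻¹ * (v ^ l)⁻¹)
      = (u ^ (2 * i + 2 * k) * v ^ (2 * j + 2 * l)) * ζ ^ (2 * j * (i + 2 * k)) := by
    have c1 : Commute (ζ ^ (2 * j * (i + 2 * k))) (v ^ (2 * l)) := (hζv.pow_left _).pow_right _
    calc u ^ i * v ^ j * (v ^ j * u ^ i * (u ^ k)⁻¹ * (v ^ l)⁻¹)
        = u ^ i * (v ^ j * v ^ j) * (u ^ i * (u ^ k)⁻¹) * (v ^ l)⁻¹ := by simp only [mul_assoc]
      _ = u ^ i * v ^ (2 * j) * u ^ (i + 2 * k) * v ^ (2 * l) := by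
          rw [inv_pow_eq h.hu, inv_pow_eq h.hv, ← pow_add, ← pow_add, ← two_mul]
      _ = u ^ i * (v ^ (2 * j) * u ^ (i + 2 * k)) * v ^ (2 * l) := by simp only [mul_assoc]
      _ = u ^ i * (u ^ (i + 2 * k) * v ^ (2 * j) * ζ ^ (2 * j * (i + 2 * k))) * v ^ (2 * l) := by
          rw [comm_pow2 hζu hζv hvu]
      _ = (u ^ i * u ^ (i + 2 * k)) * v ^ (2 * j) * (ζ ^ (2 * j * (i + 2 * k)) * v ^ (2 * l)) := by
          simp only [mul_assoc]
      _ = (u ^ i * u ^ (i + 2 * k)) * v ^ (2 * j) * (v ^ (2 * l) * ζ ^ (2 * j * (i + 2 * k))) := by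
          rw [c1.eq]
      _ = (u ^ (2 * i + 2 * k) * v ^ (2 * j + 2 * l)) * ζ ^ (2 * j * (i + 2 * k)) := by
          rw [← pow_add, show i + (i + 2 * k) = 2 * i + 2 * k by ring, pow_add v]
          simp only [mul_assoc]
  rw [h4, conj_central (hζa.pow_left _)]
  rfl

theorem comm_a_small {a u v : G} (h : AffData a u v) (s t : ℕ) (hs : s < 3) (ht : t < 3)
    (hc : Commute a (u ^ s * v ^ t)) : s = 0 ∧ t = 0 := by
  obtain ⟨hu3, hu2, huu⟩ := cube_facts h.hu
  obtain ⟨hv3, hv2, hvv⟩ := cube_facts h.hv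
  have hu : ∀ n : ℕ, a * u ^ n * a⁻¹ = (u ^ n)⁻¹ := by
    intro n; rw [← conj_pow, h.hau, inv_pow]
  have hv : ∀ n : ℕ, a * v ^ n * a⁻¹ = (v ^ n)⁻¹ := by
    intro n; rw [← conj_pow, h.hav, inv_pow]
  have h1 : (u ^ s)⁻¹ * (v ^ t)⁻¹ = u ^ s * v ^ t := by
    calc (u ^ s)⁻¹ * (v ^ t)⁻¹ = (a * u ^ s * a⁻¹) * (a * v ^ t * a⁻¹) := by rw [hu, hv]
      _ = a * (u ^ s * v ^ t) * a⁻¹ := by group
      _ = (u ^ s * v ^ t) * a * a⁻¹ := by rw [hc.eq]
      _ = u ^ s * v ^ t := by group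
  have hE : u ^ s * (u ^ s * v ^ t) * v ^ t = 1 := by
    calc u ^ s * (u ^ s * v ^ t) * v ^ t = u ^ s * ((u ^ s)⁻¹ * (v ^ t)⁻¹) * v ^ t := by rw [h1]
      _ = 1 := by group
  have hu1 := h.hu1
  have hv1 := h.hv1
  have hne := h.hne
  have hne' := h.hne'
  interval_cases s <;> interval_cases t
  · exact ⟨rfl, rfl⟩
  · exfalso
    simp only [pow_zero, pow_one, one_mul] at hE
    -- v * v = 1
    apply hv1
    have : v⁻¹ = 1 := by rw [← hvv]; exact hE
    rw [← inv_inv v, this, inv_one]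
  · exfalso
    simp only [pow_zero, one_mul] at hE
    -- v^2 * v^2 = 1
    apply hv1
    have : v ^ 2 * v ^ 2 = v := by
      calc v ^ 2 * v ^ 2 = (v * v * v) * v := by rw [pow_two]; group
        _ = v := by rw [hv3, one_mul]
    rw [← this]; exact hE
  · exfalso
    simp only [pow_zero, pow_one, mul_one] at hE
    apply hu1
    have : u⁻¹ = 1 := by rw [← huu]; exact hE
    rw [← inv_inv u, this, inv_one]
  · exfalso
    simp only [pow_one] at hE
    -- u * (u * v) * v = 1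
    apply hne'
    have h2 : u⁻¹ * v⁻¹ = 1 := by
      calc u⁻¹ * v⁻¹ = (u * u) * (v * v) := by rw [huu, hvv]
        _ = u * (u * v) * v := by group
        _ = 1 := hE
    calc u * v = (v⁻¹ * (u⁻¹ * v⁻¹)⁻¹ * v) := by group
      _ = 1 := by rw [h2]; group
  · exfalso
    simp only [pow_one] at hE
    -- u * (u * v^2) * v^2 = 1
    apply hne
    have h2 : u⁻¹ * v = 1 := by
      calc u⁻¹ * v = (u * u) * ((v * v * v) * v) := by rw [huu, hv3, one_mul]
        _ = u * (u * v ^ 2) * v ^ 2 := by rw [pow_two]; group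
        _ = 1 := hE
    calc u = u * (u⁻¹ * v) := by rw [h2, mul_one]
      _ = v := by group
  · exfalso
    simp only [pow_zero, mul_one] at hE
    apply hu1
    have : u ^ 2 * u ^ 2 = u := by
      calc u ^ 2 * u ^ 2 = (u * u * u) * u := by rw [pow_two]; group
        _ = u := by rw [hu3, one_mul]
    rw [← this]; exact hE
  · exfalso
    simp only [pow_one] at hE
    -- u^2 * (u^2 * v) * v = 1
    apply hne
    have h2 : u * v⁻¹ = 1 := by
      calc u * v⁻¹ = ((u * u * u) * u) * (v * v) := by rw [hu3, one_mul, hvv]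
        _ = u ^ 2 * (u ^ 2 * v) * v := by rw [pow_two]; group
        _ = 1 := hE
    calc u = (u * v⁻¹) * v := by group
      _ = v := by rw [h2, one_mul]
  · exfalso
    -- u^2 * (u^2 * v^2) * v^2 = 1
    apply hne'
    calc u * v = ((u * u * u) * u) * ((v * v * v) * v) := by rw [hu3, hv3, one_mul, one_mul]
      _ = u ^ 2 * (u ^ 2 * v ^ 2) * v ^ 2 := by rw [pow_two, pow_two]; group
      _ = 1 := hE

theorem comm_a_word {a u v : G} (h : AffData a u v) (s t : ℕ)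
    (hc : Commute a (u ^ s * v ^ t)) : s % 3 = 0 ∧ t % 3 = 0 := by
  rw [pow_eq_pow_mod s h.hu, pow_eq_pow_mod t h.hv] at hc
  exact comm_a_small h (s % 3) (t % 3) (Nat.mod_lt _ (by norm_num)) (Nat.mod_lt _ (by norm_num)) hc

theorem Pt_inj {a u v : G} (h : AffData a u v) (i j k l : ℕ)
    (he : Pt a u v i j = Pt a u v k l) : i % 3 = k % 3 ∧ j % 3 = l % 3 := by
  obtain ⟨ζ, hζu, hζv, hζa, hvu⟩ := exists_central h
  unfold Pt at he
  have h1 : Commute a ((u ^ k * v ^ l)⁻¹ * (u ^ i * v ^ j)) := by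
    show a * ((u ^ k * v ^ l)⁻¹ * (u ^ i * v ^ j)) = ((u ^ k * v ^ l)⁻¹ * (u ^ i * v ^ j)) * a
    calc a * ((u ^ k * v ^ l)⁻¹ * (u ^ i * v ^ j))
        = (u ^ k * v ^ l)⁻¹ * ((u ^ k * v ^ l) * a * (u ^ k * v ^ l)⁻¹) * (u ^ i * v ^ j) := by group
      _ = (u ^ k * v ^ l)⁻¹ * ((u ^ i * v ^ j) * a * (u ^ i * v ^ j)⁻¹) * (u ^ i * v ^ j) := by
          rw [he]
      _ = ((u ^ k * v ^ l)⁻¹ * (u ^ i * v ^ j)) * a := by group
  have h2 : (u ^ k * v ^ l)⁻¹ * (u ^ i * v ^ j)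
      = (u ^ (2 * k + i) * v ^ (2 * l + j)) * ζ ^ (2 * l * (2 * k + i)) := by
    have c1 : Commute (ζ ^ (2 * l * (2 * k + i))) (v ^ j) := (hζv.pow_left _).pow_right _
    calc (u ^ k * v ^ l)⁻¹ * (u ^ i * v ^ j)
        = (v ^ l)⁻¹ * ((u ^ k)⁻¹ * u ^ i) * v ^ j := by group
      _ = v ^ (2 * l) * u ^ (2 * k + i) * v ^ j := by
          rw [inv_pow_eq h.hu, inv_pow_eq h.hv, ← pow_add]
      _ = u ^ (2 * k + i) * v ^ (2 * l) * ζ ^ (2 * l * (2 * k + i)) * v ^ j := by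
          rw [comm_pow2 hζu hζv hvu]
      _ = u ^ (2 * k + i) * v ^ (2 * l) * (ζ ^ (2 * l * (2 * k + i)) * v ^ j) := by
          simp only [mul_assoc]
      _ = u ^ (2 * k + i) * v ^ (2 * l) * (v ^ j * ζ ^ (2 * l * (2 * k + i))) := by rw [c1.eq]
      _ = (u ^ (2 * k + i) * v ^ (2 * l + j)) * ζ ^ (2 * l * (2 * k + i)) := by
          rw [pow_add v]; simp only [mul_assoc]
  rw [h2] at h1
  have h3 : Commute a (u ^ (2 * k + i) * v ^ (2 * l + j)) := by
    have c2 : Commute a (ζ ^ (2 * l * (2 * k + i)))⁻¹ := ((hζa.pow_left _).symm).inv_right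
    have := h1.mul_right c2
    rwa [mul_inv_cancel_right] at this
  obtain ⟨h4, h5⟩ := comm_a_word h _ _ h3
  constructor <;> omega

theorem Pt_comm {a u v : G} (h : AffData a u v) (i j k l : ℕ)
    (hc : Commute (Pt a u v i j) (Pt a u v k l)) : i % 3 = k % 3 ∧ j % 3 = l % 3 := by
  have h1 : Pt a u v i j * Pt a u v k l * (Pt a u v i j)⁻¹ = Pt a u v k l := by
    rw [hc.eq]; group
  rw [Pt_formula h] at h1
  obtain ⟨h2, h3⟩ := Pt_inj h _ _ _ _ h1
  constructor <;> omega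

end aff

section lines

variable {G : Type*} [Group G] {D : Set G}

open Cfsg.Agent.h26S4

theorem mem_lines_iff (l : Set D) : l ∈ threeTranspositionLines D ↔
    ∃ x y : D, ¬ Commute (x : G) (y : G) ∧ l = {z : D | (z : G) ∈ triSet (x : G) (y : G)} :=
  Iff.rfl

theorem line_two (hD : IsThreeTranspositionSet D) (hc : ∀ g : G, ∀ d ∈ D, g * d * g⁻¹ ∈ D)
    {l : Set D} (hl : l ∈ threeTranspositionLines D) {p q : D} (hp : p ∈ l) (hq : q ∈ l)
    (hpq : p ≠ q) :
    ¬ Commute (p : G) (q : G) ∧ l = {z : D | (z : G) ∈ triSet (p : G) (q : G)} := by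
  obtain ⟨x, y, hxy, rfl⟩ := (mem_lines_iff l).mp hl
  have hpq' : (p : G) ≠ (q : G) := fun h => hpq (Subtype.ext h)
  obtain ⟨_, _, h1, h2⟩ := tri_two hD hc x.2 y.2 hxy hp hq hpq'
  refine ⟨h1, ?_⟩
  rw [h2]

theorem partial_linear (hD : IsThreeTranspositionSet D) (hc : ∀ g : G, ∀ d ∈ D, g * d * g⁻¹ ∈ D) :
    LineSystem.IsPartialLinear (threeTranspositionLines D) := by
  intro l hl m hm x y hxy hxl hyl hxm hym
  rw [(line_two hD hc hl hxl hyl hxy).2, (line_two hD hc hm hxm hym hxy).2]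

theorem line_pts (hD : IsThreeTranspositionSet D) (hc : ∀ g : G, ∀ d ∈ D, g * d * g⁻¹ ∈ D)
    {l : Set D} (hl : l ∈ threeTranspositionLines D) :
    ∃ x y w : D, x ≠ y ∧ x ≠ w ∧ y ≠ w ∧ l = {x, y, w} ∧ (w : G) = (y : G) * (x : G) * (y : G)⁻¹ ∧
      ¬ Commute (x : G) (y : G) := by
  obtain ⟨x, y, hxy, rfl⟩ := (mem_lines_iff l).mp hl
  obtain ⟨h1, h2, h3, h4, h5, hne1, hne2, hne3⟩ := tri_table hD x.2 y.2 hxy
  refine ⟨x, y, ⟨(y : G) * (x : G) * (y : G)⁻¹, hc _ _ x.2⟩, ?_, ?_, ?_, ?_, rfl, hxy⟩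
  · exact fun h => hne1 (congrArg Subtype.val h)
  · exact fun h => hne2 (congrArg Subtype.val h)
  · exact fun h => hne3 (congrArg Subtype.val h)
  · ext z
    simp only [Set.mem_setOf_eq, triSet, Set.mem_insert_iff, Set.mem_singleton_iff]
    constructor
    · rintro (h | h | h)
      · left; exact Subtype.ext h
      · right; left; exact Subtype.ext h
      · right; right; exact Subtype.ext h
    · rintro (h | h | h)
      · left; rw [h]
      · right; left; rw [h]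
      · right; right; rw [h]

theorem card_three (hD : IsThreeTranspositionSet D) (hc : ∀ g : G, ∀ d ∈ D, g * d * g⁻¹ ∈ D) :
    ∀ l ∈ threeTranspositionLines D, l.ncard = 3 := by
  intro l hl
  obtain ⟨x, y, w, h1, h2, h3, h4, _, _⟩ := line_pts hD hc hl
  exact Set.ncard_eq_three.mpr ⟨x, y, w, h1, h2, h3, h4⟩

theorem exists_other (hD : IsThreeTranspositionSet D) (hc : ∀ g : G, ∀ d ∈ D, g * d * g⁻¹ ∈ D)
    {l : Set D} (hl : l ∈ threeTranspositionLines D) (p : D) :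
    ∃ q ∈ l, q ≠ p := by
  obtain ⟨x, y, w, h1, h2, h3, h4, _, _⟩ := line_pts hD hc hl
  by_cases hpx : p = x
  · exact ⟨y, by rw [h4]; simp, by rw [hpx]; exact h1.symm⟩
  · exact ⟨x, by rw [h4]; simp, fun h => hpx h.symm⟩

theorem two_pts (hD : IsThreeTranspositionSet D) (hc : ∀ g : G, ∀ d ∈ D, g * d * g⁻¹ ∈ D) :
    ∀ l ∈ threeTranspositionLines D, ∃ x ∈ l, ∃ y ∈ l, x ≠ y := by
  intro l hl
  obtain ⟨x, y, w, h1, h2, h3, h4, _, _⟩ := line_pts hD hc hl
  exact ⟨x, by rw [h4]; simp, y, by rw [h4]; simp, h1⟩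

theorem line_mem (hD : IsThreeTranspositionSet D) (hc : ∀ g : G, ∀ d ∈ D, g * d * g⁻¹ ∈ D)
    {x y : D} (h : ¬ Commute (x : G) (y : G)) :
    {z : D | (z : G) ∈ triSet (x : G) (y : G)} ∈ threeTranspositionLines D :=
  (mem_lines_iff _).mpr ⟨x, y, h, rfl⟩

theorem zmod3_key : ∀ x y : ZMod 3, (-x - y).val = (2 * y.val + 2 * x.val) % 3 := by decide

theorem zmod3_key2 : ∀ x y : ZMod 3, -x - (x + y) = x + 2 * y := by decide

theorem fin2_ext {μ ν : Fin 2 → ZMod 3} (h0 : μ 0 = ν 0) (h1 : μ 1 = ν 1) : μ = ν := by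
  funext i
  fin_cases i
  · exact h0
  · exact h1

theorem affine_case (hD : IsThreeTranspositionSet D) (hc : ∀ g : G, ∀ d ∈ D, g * d * g⁻¹ ∈ D)
    (l m : Set D) (hl : l ∈ threeTranspositionLines D) (hm : m ∈ threeTranspositionLines D)
    (p : D) (hpl : p ∈ l) (hpm : p ∈ m)
    (hno : ∀ x ∈ l, x ≠ p → ∀ y ∈ m, y ≠ p → ¬ Commute (x : G) (y : G)) :
    LineSystem.Isomorphic
      (LineSystem.restrict (threeTranspositionLines D)
        (LineSystem.span (threeTranspositionLines D) (l ∪ m))) affinePlaneThree := by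
  obtain ⟨b, hbl, hbp⟩ := exists_other hD hc hl p
  obtain ⟨d, hdm, hdp⟩ := exists_other hD hc hm p
  obtain ⟨hab, hleq⟩ := line_two hD hc hl hpl hbl hbp.symm
  obtain ⟨had, hmeq⟩ := line_two hD hc hm hpm hdm hdp.symm
  obtain ⟨tb1, tb2, tb3, tb4, tb5, tbne1, tbne2, tbne3⟩ := tri_table hD p.2 b.2 hab
  obtain ⟨td1, td2, td3, td4, td5, tdne1, tdne2, tdne3⟩ := tri_table hD p.2 d.2 had
  -- third points
  let cD : D := ⟨(b : G) * (p : G) * (b : G)⁻¹, hc _ _ p.2⟩
  let eD : D := ⟨(d : G) * (p : G) * (d : G)⁻¹, hc _ _ p.2⟩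
  have hcl : cD ∈ l := by rw [hleq]; right; right; rfl
  have hem : eD ∈ m := by rw [hmeq]; right; right; rfl
  have hcp : cD ≠ p := fun h => tbne2 (congrArg Subtype.val h).symm
  have hep : eD ≠ p := fun h => tdne2 (congrArg Subtype.val h).symm
  have hbd := hno b hbl hbp d hdm hdp
  have hcd := hno cD hcl hcp d hdm hdp
  have hce := hno cD hcl hcp eD hem hep
  -- names
  set a : G := (p : G) with ha_def
  set b' : G := (b : G) with hb_def
  set d' : G := (d : G) with hd_def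
  have haa : a * a = 1 := by rw [← sq]; exact sq_eq_one_of_mem hD p.2
  have hbb : b' * b' = 1 := by rw [← sq]; exact sq_eq_one_of_mem hD b.2
  have hdd : d' * d' = 1 := by rw [← sq]; exact sq_eq_one_of_mem hD d.2
  have hai : a⁻¹ = a := inv_eq_of_mem hD p.2
  have hbi : b'⁻¹ = b' := inv_eq_of_mem hD b.2
  have hdi : d'⁻¹ = d' := inv_eq_of_mem hD d.2
  have hbrb : a * b' * a = b' * a * b' := braid hD p.2 b.2 hab
  have hbrd : a * d' * a = d' * a * d' := braid hD p.2 d.2 had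
  have hcval : (cD : G) = a * b' * a := by
    show b' * a * b'⁻¹ = a * b' * a
    rw [hbi, hbrb]
  have heval : (eD : G) = a * d' * a := by
    show d' * a * d'⁻¹ = a * d' * a
    rw [hdi, hbrd]
  have hdata : AffData a (a * b') (a * d') := by
    refine ⟨haa, ?_, ?_, cube_of_not_commute hD p.2 b.2 hab, cube_of_not_commute hD p.2 d.2 had,
      ?_, ?_, ?_, ?_, ?_, ?_⟩
    · calc a * (a * b') * a⁻¹ = (a * a) * b' * a⁻¹ := by group
        _ = (a * b')⁻¹ := by rw [haa, one_mul, mul_inv_rev, hbi]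
    · calc a * (a * d') * a⁻¹ = (a * a) * d' * a⁻¹ := by group
        _ = (a * d')⁻¹ := by rw [haa, one_mul, mul_inv_rev, hdi]
    · have : a * b' * (a * d') = (cD : G) * d' := by rw [hcval]; group
      rw [this]
      exact cube_of_not_commute hD cD.2 d.2 hcd
    · have : a * b' * (a * d')⁻¹ = (cD : G) * (eD : G) := by
        rw [hcval, heval, mul_inv_rev, hai, hdi]
        calc a * b' * (d' * a) = a * b' * (a * a) * d' * a := by rw [haa]; group
          _ = a * b' * a * (a * d' * a) := by group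
      rw [this]
      exact cube_of_not_commute hD cD.2 eD.2 hce
    · intro h
      apply hab
      have : b' = a := by
        calc b' = a⁻¹ * (a * b') := by group
          _ = a := by rw [h, mul_one, hai]
      rw [this]
    · intro h
      apply had
      have : d' = a := by
        calc d' = a⁻¹ * (a * d') := by group
          _ = a := by rw [h, mul_one, hai]
      rw [this]
    · intro h
      apply hbd
      have : b' = d' := mul_left_cancel h
      rw [this]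
    · intro h
      apply hcd
      have h2 : (cD : G) * d' = 1 := by rw [hcval, ← h]; group
      have : (cD : G) = d' := by
        calc (cD : G) = ((cD : G) * d') * d'⁻¹ := by group
          _ = d' := by rw [h2, one_mul, hdi]
      rw [this]
  -- the parametrisation
  have hPD : ∀ i j : ℕ, Pt a (a * b') (a * d') i j ∈ D := fun i j => hc _ _ p.2
  let f : (Fin 2 → ZMod 3) → D := fun μ => ⟨Pt a (a * b') (a * d') (μ 0).val (μ 1).val, hPD _ _⟩
  have hP00 : Pt a (a * b') (a * d') 0 0 = a := by unfold Pt; simp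
  have hP10 : Pt a (a * b') (a * d') 1 0 = b' := by
    unfold Pt
    simp only [pow_one, pow_zero, mul_one, mul_inv_rev, hai, hbi]
    calc a * b' * a * (b' * a) = (a * b' * a) * b' * a := by group
      _ = b' * a * (b' * b') * a := by rw [hbrb]; group
      _ = b' := by rw [hbb, mul_one, mul_assoc, haa, mul_one]
  have hP01 : Pt a (a * b') (a * d') 0 1 = d' := by
    unfold Pt
    simp only [pow_one, pow_zero, one_mul, mul_inv_rev, hai, hdi]
    calc a * d' * a * (d' * a) = (a * d' * a) * d' * a := by group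
      _ = d' * a * (d' * d') * a := by rw [hbrd]; group
      _ = d' := by rw [hdd, mul_one, mul_assoc, haa, mul_one]
  have hP20 : Pt a (a * b') (a * d') 2 0 = b' * a * b'⁻¹ := by
    have := Pt_formula hdata 1 0 0 0
    rw [hP10, hP00] at this
    rw [this]
  have hP02 : Pt a (a * b') (a * d') 0 2 = d' * a * d'⁻¹ := by
    have := Pt_formula hdata 0 1 0 0
    rw [hP01, hP00] at this
    rw [this]
  have hval : ∀ x : ZMod 3, x.val % 3 = x.val := fun x => Nat.mod_eq_of_lt (ZMod.val_lt x)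
  have f_inj : Function.Injective f := by
    intro μ ν h
    have h1 : Pt a (a * b') (a * d') (μ 0).val (μ 1).val = Pt a (a * b') (a * d') (ν 0).val (ν 1).val :=
      congrArg Subtype.val h
    obtain ⟨h2, h3⟩ := Pt_inj hdata _ _ _ _ h1
    rw [hval, hval] at h2 h3
    exact fin2_ext (ZMod.val_injective 3 h2) (ZMod.val_injective 3 h3)
  have f_nc : ∀ μ ν, μ ≠ ν → ¬ Commute (f μ : G) (f ν : G) := by
    intro μ ν hμν hcomm
    apply hμν
    obtain ⟨h2, h3⟩ := Pt_comm hdata _ _ _ _ hcomm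
    rw [hval, hval] at h2 h3
    exact fin2_ext (ZMod.val_injective 3 h2) (ZMod.val_injective 3 h3)
  have f_third : ∀ μ ν, (f ν : G) * (f μ : G) * (f ν : G)⁻¹ = (f (-μ - ν) : G) := by
    intro μ ν
    show Pt a (a * b') (a * d') (ν 0).val (ν 1).val * Pt a (a * b') (a * d') (μ 0).val (μ 1).val *
      (Pt a (a * b') (a * d') (ν 0).val (ν 1).val)⁻¹
      = Pt a (a * b') (a * d') ((-μ - ν) 0).val ((-μ - ν) 1).val
    rw [Pt_formula hdata, Pt_mod hdata]
    congr 1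
    · exact (zmod3_key (μ 0) (ν 0)).symm
    · exact (zmod3_key (μ 1) (ν 1)).symm
  have f_line : ∀ μ ν, μ ≠ ν → ∀ T : Set D,
      LineSystem.IsSubspace (threeTranspositionLines D) T → f μ ∈ T → f ν ∈ T → f (-μ - ν) ∈ T := by
    intro μ ν hμν T hT hμ hν
    have hline := line_mem hD hc (f_nc μ ν hμν)
    have hsub := hT _ hline (f μ) hμ (f ν) hν (fun h => hμν (f_inj h)) (Or.inl rfl) (Or.inr (Or.inl rfl))
    apply hsub
    right; right
    exact (f_third μ ν).symm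
  have hfl : ∀ i : ZMod 3, f ![i, 0] ∈ l := by
    intro i
    rw [hleq]
    show Pt a (a * b') (a * d') (i.val) ((0 : ZMod 3).val) ∈ triSet a b'
    have h0 : (0 : ZMod 3).val = 0 := rfl
    rw [h0]
    have hi := ZMod.val_lt i
    interval_cases i.val
    · left; exact hP00
    · right; left; exact hP10
    · right; right; exact hP20
  have hfm : ∀ j : ZMod 3, f ![0, j] ∈ m := by
    intro j
    rw [hmeq]
    show Pt a (a * b') (a * d') ((0 : ZMod 3).val) (j.val) ∈ triSet a d'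
    have h0 : (0 : ZMod 3).val = 0 := rfl
    rw [h0]
    have hj := ZMod.val_lt j
    interval_cases j.val
    · left; exact hP00
    · right; left; exact hP01
    · right; right; exact hP02
  apply iso_of_param (threeTranspositionLines D) affinePlaneThree f f_inj (l ∪ m)
    (partial_linear hD hc) (two_pts hD hc)
  · -- model lines map to lines
    rintro lam ⟨v0, w, hw, rfl⟩
    have hne : v0 ≠ v0 + w := by
      intro h
      apply hw
      have : v0 + w = v0 + 0 := by rw [add_zero]; exact h.symm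
      exact add_left_cancel this
    refine (mem_lines_iff _).mpr ⟨f v0, f (v0 + w), f_nc _ _ hne, ?_⟩
    have h3 : -v0 - (v0 + w) = v0 + (2 : ZMod 3) • w := by
      apply fin2_ext
      · simp only [Pi.sub_apply, Pi.neg_apply, Pi.add_apply, Pi.smul_apply, smul_eq_mul]
        exact zmod3_key2 _ _
      · simp only [Pi.sub_apply, Pi.neg_apply, Pi.add_apply, Pi.smul_apply, smul_eq_mul]
        exact zmod3_key2 _ _
    ext z
    constructor
    · rintro ⟨x, ⟨c, rfl⟩, rfl⟩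
      have hc3 : c = 0 ∨ c = 1 ∨ c = 2 := by revert c; decide
      rcases hc3 with rfl | rfl | rfl
      · left; rw [zero_smul, add_zero]
      · right; left; rw [one_smul]
      · right; right
        rw [f_third, h3]
    · rintro (h | h | h)
      · exact ⟨v0, ⟨0, by rw [zero_smul, add_zero]⟩, (Subtype.ext h).symm⟩
      · exact ⟨v0 + w, ⟨1, by rw [one_smul]⟩, (Subtype.ext h).symm⟩
      · refine ⟨v0 + (2 : ZMod 3) • w, ⟨2, rfl⟩, ?_⟩
        apply Subtype.ext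
        rw [h, f_third, h3]
  · -- any two model points are collinear
    intro μ ν hμν _
    refine ⟨{x | ∃ c : ZMod 3, x = μ + c • (ν - μ)}, ⟨μ, ν - μ, sub_ne_zero.mpr hμν.symm, rfl⟩,
      ⟨0, by rw [zero_smul, add_zero]⟩, ⟨1, by rw [one_smul]; abel⟩⟩
  · -- l ∪ m in the range
    rintro z (hz | hz)
    · rw [hleq] at hz
      rcases hz with h | h | h
      · exact ⟨![0, 0], Subtype.ext (by rw [h]; exact hP00)⟩
      · exact ⟨![1, 0], Subtype.ext (by rw [h]; exact hP10)⟩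
      · exact ⟨![2, 0], Subtype.ext (by rw [h]; exact hP20)⟩
    · rw [hmeq] at hz
      rcases hz with h | h | h
      · exact ⟨![0, 0], Subtype.ext (by rw [h]; exact hP00)⟩
      · exact ⟨![0, 1], Subtype.ext (by rw [h]; exact hP01)⟩
      · exact ⟨![0, 2], Subtype.ext (by rw [h]; exact hP02)⟩
  · -- generation
    intro μ
    rintro T ⟨hUT, hTsub⟩
    by_cases h1 : μ 1 = 0
    · have : μ = ![μ 0, 0] := fin2_ext rfl h1
      rw [this]
      exact hUT (Or.inl (hfl _))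
    · by_cases h0 : μ 0 = 0
      · have : μ = ![0, μ 1] := fin2_ext h0 rfl
        rw [this]
        exact hUT (Or.inr (hfm _))
      · have hμ : μ = -(![-(μ 0), 0]) - ![0, -(μ 1)] := by
          apply fin2_ext
          · simp
          · simp
        rw [hμ]
        apply f_line _ _ _ T hTsub (hUT (Or.inl (hfl _))) (hUT (Or.inr (hfm _)))
        intro h
        apply h0
        have := congrFun h 0
        simpa using this

end lines

section dual

/-- the transposition attached to a two-element subset of `Fin 4`. -/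
def trp (s : Finset (Fin 4)) : Equiv.Perm (Fin 4) :=
  if s = {0,1} then Equiv.swap 0 1 else if s = {0,2} then Equiv.swap 0 2
  else if s = {0,3} then Equiv.swap 0 3 else if s = {1,2} then Equiv.swap 1 2
  else if s = {1,3} then Equiv.swap 1 3 else if s = {2,3} then Equiv.swap 2 3 else 1

/-- the three points of the `i`-th line of the dual affine plane. -/
def lineTriple (i : Fin 4) : Finset (Fin 4) × Finset (Fin 4) × Finset (Fin 4) :=
  if i = 0 then ({1,2}, {2,3}, {1,3}) else if i = 1 then ({0,2}, {2,3}, {0,3})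
  else if i = 2 then ({0,1}, {1,3}, {0,3}) else ({0,1}, {1,2}, {0,2})

set_option maxRecDepth 100000 in
theorem S0 : ∀ s : Finset (Fin 4), s.card = 2 →
    s = {0,1} ∨ s = {0,2} ∨ s = {0,3} ∨ s = {1,2} ∨ s = {1,3} ∨ s = {2,3} := by decide

set_option maxRecDepth 100000 in
theorem S1 : ∀ s : Finset (Fin 4), s.card = 2 →
    ∃ τ : Equiv.Perm (Fin 4), trp s = τ * Equiv.swap 0 1 * τ⁻¹ := by decide

set_option maxRecDepth 100000 in
theorem S2 : ∀ s s' : Finset (Fin 4), s.card = 2 → s'.card = 2 → trp s = trp s' → s = s' := by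
  decide

set_option maxRecDepth 100000 in
theorem S3 : ∀ s s' : Finset (Fin 4), s.card = 2 → s'.card = 2 → s ≠ s' → (∀ i, i ∈ s ∨ i ∈ s') →
    trp s * trp s' = trp s' * trp s := by decide

set_option maxRecDepth 100000 in
theorem S4 : ∀ i : Fin 4, (lineTriple i).1.card = 2 ∧ (lineTriple i).2.1.card = 2 ∧
    (lineTriple i).2.2.card = 2 ∧
    (∀ s : Finset (Fin 4), s.card = 2 →
      (i ∉ s ↔ s = (lineTriple i).1 ∨ s = (lineTriple i).2.1 ∨ s = (lineTriple i).2.2)) ∧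
    trp (lineTriple i).2.1 * trp (lineTriple i).1 * (trp (lineTriple i).2.1)⁻¹
      = trp (lineTriple i).2.2 ∧
    trp (lineTriple i).1 * trp (lineTriple i).2.1 ≠ trp (lineTriple i).2.1 * trp (lineTriple i).1 := by
  decide

set_option maxRecDepth 100000 in
theorem S5 : trp {0,1} = Equiv.swap 0 1 ∧ trp {1,2} = Equiv.swap 1 2 ∧ trp {2,3} = Equiv.swap 2 3 ∧
    Equiv.swap (0 : Fin 4) 1 * Equiv.swap 1 2 * (Equiv.swap 0 1)⁻¹ = trp {0,2} ∧
    Equiv.swap (2 : Fin 4) 3 * Equiv.swap 1 2 * (Equiv.swap 2 3)⁻¹ = trp {1,3} := by decide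

variable {G : Type*} [Group G] {D : Set G}

open Cfsg.Agent.h26S4

theorem dual_case (hD : IsThreeTranspositionSet D) (hc : ∀ g : G, ∀ d ∈ D, g * d * g⁻¹ ∈ D)
    (l m : Set D) (hl : l ∈ threeTranspositionLines D) (hm : m ∈ threeTranspositionLines D)
    (hlm : l ≠ m) (p : D) (hpl : p ∈ l) (hpm : p ∈ m)
    (x : D) (hxl : x ∈ l) (hxp : x ≠ p) (y : D) (hym : y ∈ m) (hyp : y ≠ p)
    (hxy : Commute (x : G) (y : G)) :
    LineSystem.Isomorphic
      (LineSystem.restrict (threeTranspositionLines D)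
        (LineSystem.span (threeTranspositionLines D) (l ∪ m))) dualAffinePlaneTwo := by
  obtain ⟨hpx, hleq⟩ := line_two hD hc hl hpl hxl hxp.symm
  obtain ⟨hpy, hmeq⟩ := line_two hD hc hm hpm hym hyp.symm
  have hxy_ne : (x : G) ≠ (y : G) := by
    intro h
    apply hlm
    have hxy' : x = y := Subtype.ext h
    have hxm : x ∈ m := by rw [hxy']; exact hym
    exact partial_linear hD hc l hl m hm p x hxp.symm hpl hxl hpm hxm
  have hxp' : ¬ Commute (x : G) (p : G) := fun h => hpx h.symm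
  obtain ⟨φ, hφ, hφ01, hφ12, hφ23⟩ := exists_S4_of_string hD x.2 p.2 y.2 hxy_ne hxy hxp' hpy
  obtain ⟨e01, e12, e23, e02, e13⟩ := S5
  have hmem : ∀ s : DualAffinePoint, φ (trp s.1) ∈ D := by
    intro s
    obtain ⟨τ, hτ⟩ := S1 s.1 s.2
    rw [hτ, map_mul, map_mul, map_inv, hφ01]
    exact hc _ _ x.2
  let f : DualAffinePoint → D := fun s => ⟨φ (trp s.1), hmem s⟩
  have f_inj : Function.Injective f := by
    intro s s' h
    have h1 : φ (trp s.1) = φ (trp s'.1) := congrArg Subtype.val h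
    exact Subtype.ext (S2 s.1 s'.1 s.2 s'.2 (hφ h1))
  have hi : ∀ lam ∈ dualAffinePlaneTwo, f '' lam ∈ threeTranspositionLines D := by
    rintro lam ⟨i, rfl⟩
    obtain ⟨c1, c2, c3, hiff, hthird, hnc⟩ := S4 i
    refine (mem_lines_iff _).mpr ⟨f ⟨(lineTriple i).1, c1⟩, f ⟨(lineTriple i).2.1, c2⟩, ?_, ?_⟩
    · intro hcomm
      apply hnc
      apply hφ
      rw [map_mul, map_mul]
      exact hcomm.eq
    · have hth : (f ⟨(lineTriple i).2.1, c2⟩ : G) * (f ⟨(lineTriple i).1, c1⟩ : G) *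
          (f ⟨(lineTriple i).2.1, c2⟩ : G)⁻¹ = φ (trp (lineTriple i).2.2) := by
        show φ (trp (lineTriple i).2.1) * φ (trp (lineTriple i).1) * (φ (trp (lineTriple i).2.1))⁻¹ = _
        rw [← map_inv, ← map_mul, ← map_mul, hthird]
      ext z
      constructor
      · rintro ⟨s, hs, rfl⟩
        have hs' : i ∉ s.1 := hs
        rcases (hiff s.1 s.2).mp hs' with h | h | h
        · left; show φ (trp s.1) = φ (trp (lineTriple i).1); rw [h]
        · right; left; show φ (trp s.1) = φ (trp (lineTriple i).2.1); rw [h]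
        · right; right
          show φ (trp s.1) = _
          rw [hth, h]
      · rintro (h | h | h)
        · refine ⟨⟨(lineTriple i).1, c1⟩, ?_, (Subtype.ext h).symm⟩
          exact (hiff _ c1).mpr (Or.inl rfl)
        · refine ⟨⟨(lineTriple i).2.1, c2⟩, ?_, (Subtype.ext h).symm⟩
          exact (hiff _ c2).mpr (Or.inr (Or.inl rfl))
        · refine ⟨⟨(lineTriple i).2.2, c3⟩, ?_, ?_⟩
          · exact (hiff _ c3).mpr (Or.inr (Or.inr rfl))
          · apply Subtype.ext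
            rw [h, hth]
  -- the special points
  have hP12 : ∀ h : ({1,2} : Finset (Fin 4)).card = 2, (f ⟨{1,2}, h⟩ : G) = (p : G) := by
    intro h; show φ (trp {1,2}) = _; rw [e12, hφ12]
  have hP01 : ∀ h : ({0,1} : Finset (Fin 4)).card = 2, (f ⟨{0,1}, h⟩ : G) = (x : G) := by
    intro h; show φ (trp {0,1}) = _; rw [e01, hφ01]
  have hP23 : ∀ h : ({2,3} : Finset (Fin 4)).card = 2, (f ⟨{2,3}, h⟩ : G) = (y : G) := by
    intro h; show φ (trp {2,3}) = _; rw [e23, hφ23]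
  have hP02 : ∀ h : ({0,2} : Finset (Fin 4)).card = 2,
      (f ⟨{0,2}, h⟩ : G) = (x : G) * (p : G) * (x : G)⁻¹ := by
    intro h; show φ (trp {0,2}) = _; rw [← e02, map_mul, map_mul, map_inv, hφ01, hφ12]
  have hP13 : ∀ h : ({1,3} : Finset (Fin 4)).card = 2,
      (f ⟨{1,3}, h⟩ : G) = (y : G) * (p : G) * (y : G)⁻¹ := by
    intro h; show φ (trp {1,3}) = _; rw [← e13, map_mul, map_mul, map_inv, hφ23, hφ12]
  have k01 : ({0,1} : Finset (Fin 4)).card = 2 := by decide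
  have k02 : ({0,2} : Finset (Fin 4)).card = 2 := by decide
  have k03 : ({0,3} : Finset (Fin 4)).card = 2 := by decide
  have k12 : ({1,2} : Finset (Fin 4)).card = 2 := by decide
  have k13 : ({1,3} : Finset (Fin 4)).card = 2 := by decide
  have k23 : ({2,3} : Finset (Fin 4)).card = 2 := by decide
  have h12l : f ⟨{1,2}, k12⟩ ∈ l := by rw [hleq]; left; exact hP12 _
  have h01l : f ⟨{0,1}, k01⟩ ∈ l := by rw [hleq]; right; left; exact hP01 _
  have h02l : f ⟨{0,2}, k02⟩ ∈ l := by rw [hleq]; right; right; exact hP02 _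
  have h12m : f ⟨{1,2}, k12⟩ ∈ m := by rw [hmeq]; left; exact hP12 _
  have h23m : f ⟨{2,3}, k23⟩ ∈ m := by rw [hmeq]; right; left; exact hP23 _
  have h13m : f ⟨{1,3}, k13⟩ ∈ m := by rw [hmeq]; right; right; exact hP13 _
  apply iso_of_param (threeTranspositionLines D) dualAffinePlaneTwo f f_inj (l ∪ m)
    (partial_linear hD hc) (two_pts hD hc) hi
  · -- collinear in D implies collinear in the model
    intro μ ν hμν ⟨l', hl', hμl, hνl⟩
    by_contra hcon
    have hall : ∀ i : Fin 4, i ∈ μ.1 ∨ i ∈ ν.1 := by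
      intro i
      by_contra hi2
      rw [not_or] at hi2
      exact hcon ⟨{s | i ∉ s.val}, ⟨i, rfl⟩, hi2.1, hi2.2⟩
    have hne : μ.1 ≠ ν.1 := fun h => hμν (Subtype.ext h)
    have hcomm := S3 μ.1 ν.1 μ.2 ν.2 hne hall
    have hfne : f μ ≠ f ν := fun h => hμν (f_inj h)
    obtain ⟨hnc, _⟩ := line_two hD hc hl' hμl hνl hfne
    apply hnc
    show φ (trp μ.1) * φ (trp ν.1) = φ (trp ν.1) * φ (trp μ.1)
    rw [← map_mul, ← map_mul, hcomm]
  · -- l ∪ m in the range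
    rintro z (hz | hz)
    · rw [hleq] at hz
      rcases hz with h | h | h
      · exact ⟨⟨{1,2}, k12⟩, Subtype.ext (by rw [h]; exact hP12 _)⟩
      · exact ⟨⟨{0,1}, k01⟩, Subtype.ext (by rw [h]; exact hP01 _)⟩
      · exact ⟨⟨{0,2}, k02⟩, Subtype.ext (by rw [h]; exact hP02 _)⟩
    · rw [hmeq] at hz
      rcases hz with h | h | h
      · exact ⟨⟨{1,2}, k12⟩, Subtype.ext (by rw [h]; exact hP12 _)⟩
      · exact ⟨⟨{2,3}, k23⟩, Subtype.ext (by rw [h]; exact hP23 _)⟩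
      · exact ⟨⟨{1,3}, k13⟩, Subtype.ext (by rw [h]; exact hP13 _)⟩
  · -- generation
    intro μ
    rintro T ⟨hUT, hTsub⟩
    obtain ⟨s, hs⟩ := μ
    rcases S0 s hs with rfl | rfl | rfl | rfl | rfl | rfl
    · exact hUT (Or.inl h01l)
    · exact hUT (Or.inl h02l)
    · -- the sixth point, on the line avoiding 1
      have hline := hi {s | (1 : Fin 4) ∉ s.val} ⟨1, rfl⟩
      have d1 : (1 : Fin 4) ∉ ({0,2} : Finset (Fin 4)) := by decide
      have d2 : (1 : Fin 4) ∉ ({2,3} : Finset (Fin 4)) := by decide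
      have d3 : (1 : Fin 4) ∉ ({0,3} : Finset (Fin 4)) := by decide
      have d4 : ({0,2} : Finset (Fin 4)) ≠ {2,3} := by decide
      have h1 : f ⟨{0,2}, k02⟩ ∈ f '' {s : DualAffinePoint | (1 : Fin 4) ∉ s.val} :=
        ⟨_, d1, rfl⟩
      have h2 : f ⟨{2,3}, k23⟩ ∈ f '' {s : DualAffinePoint | (1 : Fin 4) ∉ s.val} :=
        ⟨_, d2, rfl⟩
      have h3 : f ⟨{0,3}, hs⟩ ∈ f '' {s : DualAffinePoint | (1 : Fin 4) ∉ s.val} :=
        ⟨_, d3, rfl⟩
      have hne : f ⟨{0,2}, k02⟩ ≠ f ⟨{2,3}, k23⟩ := by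
        intro h
        exact d4 (congrArg Subtype.val (f_inj h))
      exact hTsub _ hline _ (hUT (Or.inl h02l)) _ (hUT (Or.inr h23m)) hne h1 h2 h3
    · exact hUT (Or.inl h12l)
    · exact hUT (Or.inr h13m)
    · exact hUT (Or.inr h23m)

end dual

end Cfsg.Agent.helper17.Fischer
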