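import Mathlib
import Cfsg.Prelude.Def_FischerSpaces

set_option autoImplicit false

/-!
# The involutions `t(x)` of a Fischer space (helper17)
-/

namespace Cfsg.Agent.helper17.Fischer2

open Cfsg

section basics

variable {X : Type*}

/-- `z` is the third point of a line through `x ≠ y`. -/
def Tr (L : Set (Set X)) (x y z : X) : Prop :=
  z ≠ x ∧ z ≠ y ∧ x ≠ y ∧ ({x, y, z} : Set X) ∈ L

theorem lineMap_spec (L : Set (Set X)) (x y : X) :
    (∃ z, Tr L x y z ∧ LineSystem.lineMap L x y = z) ∨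
      ((¬ ∃ z, Tr L x y z) ∧ LineSystem.lineMap L x y = y) := by
  classical
  unfold LineSystem.lineMap
  by_cases h : ∃ z : X, z ≠ x ∧ z ≠ y ∧ x ≠ y ∧ ({x, y, z} : Set X) ∈ L
  · left
    refine ⟨h.choose, h.choose_spec, ?_⟩
    simp only [dif_pos h]
  · right
    refine ⟨h, ?_⟩
    simp only [dif_neg h]

theorem Tr_unique {L : Set (Set X)} (hpl : LineSystem.IsPartialLinear L) {x y z z' : X}
    (h1 : Tr L x y z) (h2 : Tr L x y z') : z = z' := by
  obtain ⟨a1, a2, a3, a4⟩ := h1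
  obtain ⟨b1, b2, _, b4⟩ := h2
  have heq : ({x, y, z} : Set X) = {x, y, z'} :=
    hpl _ a4 _ b4 x y a3 (by simp) (by simp) (by simp) (by simp)
  have : z' ∈ ({x, y, z} : Set X) := by rw [heq]; simp
  simp only [Set.mem_insert_iff, Set.mem_singleton_iff] at this
  rcases this with h | h | h
  · exact (b1 h).elim
  · exact (b2 h).elim
  · exact h.symm

theorem Tr_swap23 {L : Set (Set X)} {x y z : X} (h : Tr L x y z) : Tr L x z y := by
  obtain ⟨a1, a2, a3, a4⟩ := h
  refine ⟨a3.symm, a2.symm, a1.symm, ?_⟩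
  have : ({x, z, y} : Set X) = {x, y, z} := by
    ext w; simp only [Set.mem_insert_iff, Set.mem_singleton_iff]; tauto
  rw [this]; exact a4

theorem Tr_swap12 {L : Set (Set X)} {x y z : X} (h : Tr L x y z) : Tr L y x z := by
  obtain ⟨a1, a2, a3, a4⟩ := h
  refine ⟨a2, a1, a3.symm, ?_⟩
  have : ({y, x, z} : Set X) = {x, y, z} := by
    ext w; simp only [Set.mem_insert_iff, Set.mem_singleton_iff]; tauto
  rw [this]; exact a4

theorem lineMap_of_Tr {L : Set (Set X)} (hpl : LineSystem.IsPartialLinear L) {x y z : X}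
    (h : Tr L x y z) : LineSystem.lineMap L x y = z := by
  rcases lineMap_spec L x y with ⟨z', hz', he⟩ | ⟨hno, _⟩
  · rw [he]; exact Tr_unique hpl hz' h
  · exact (hno ⟨z, h⟩).elim

theorem lineMap_of_not {L : Set (Set X)} {x y : X}
    (h : ¬ ∃ z, Tr L x y z) : LineSystem.lineMap L x y = y := by
  rcases lineMap_spec L x y with ⟨z', hz', _⟩ | ⟨_, he⟩
  · exact (h ⟨z', hz'⟩).elim
  · exact he

theorem lineMap_self {L : Set (Set X)} (x : X) : LineSystem.lineMap L x x = x := by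
  apply lineMap_of_not
  rintro ⟨z, _, _, h, _⟩
  exact h rfl

theorem lineMap_invol {L : Set (Set X)} (hpl : LineSystem.IsPartialLinear L) (x : X) :
    Function.Involutive (LineSystem.lineMap L x) := by
  intro y
  by_cases h : ∃ z, Tr L x y z
  · obtain ⟨z, hz⟩ := h
    rw [lineMap_of_Tr hpl hz, lineMap_of_Tr hpl (Tr_swap23 hz)]
  · rw [lineMap_of_not h, lineMap_of_not h]

theorem exists_Tr_of_line {L : Set (Set X)} (h3 : ∀ l ∈ L, l.ncard = 3) {l : Set X} (hl : l ∈ L)
    {x y : X} (hx : x ∈ l) (hy : y ∈ l) (hxy : x ≠ y) : ∃ z, Tr L x y z ∧ l = {x, y, z} := by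
  obtain ⟨a, b, c, hab, hac, hbc, rfl⟩ := Set.ncard_eq_three.mp (h3 l hl)
  have key : ∀ x y z : X, z ≠ x → z ≠ y → x ≠ y → ({x, y, z} : Set X) = {a, b, c} →
      ∃ z, Tr L x y z ∧ ({a, b, c} : Set X) = {x, y, z} := by
    intro x y z h1 h2 h3' he
    exact ⟨z, ⟨h1, h2, h3', by rw [he]; exact hl⟩, he.symm⟩
  simp only [Set.mem_insert_iff, Set.mem_singleton_iff] at hx hy
  rcases hx with rfl | rfl | rfl <;> rcases hy with rfl | rfl | rfl
  · exact (hxy rfl).elim
  · exact key _ _ c hac.symm hbc.symm hab rfl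
  · exact key _ _ b hab.symm hbc hac
      (by ext w; simp only [Set.mem_insert_iff, Set.mem_singleton_iff]; tauto)
  · exact key _ _ c hbc.symm hac.symm hab.symm
      (by ext w; simp only [Set.mem_insert_iff, Set.mem_singleton_iff]; tauto)
  · exact (hxy rfl).elim
  · exact key _ _ a hab hac hbc
      (by ext w; simp only [Set.mem_insert_iff, Set.mem_singleton_iff]; tauto)
  · exact key _ _ b hbc hab.symm hac.symm
      (by ext w; simp only [Set.mem_insert_iff, Set.mem_singleton_iff]; tauto)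
  · exact key _ _ a hac hab hbc.symm
      (by ext w; simp only [Set.mem_insert_iff, Set.mem_singleton_iff]; tauto)
  · exact (hxy rfl).elim

theorem exists_ne_on_line {L : Set (Set X)} (h3 : ∀ l ∈ L, l.ncard = 3) {l : Set X} (hl : l ∈ L)
    (x : X) : ∃ y ∈ l, y ≠ x := by
  obtain ⟨a, b, c, hab, hac, hbc, rfl⟩ := Set.ncard_eq_three.mp (h3 l hl)
  by_cases h : x = a
  · exact ⟨b, by simp, by rw [h]; exact hab.symm⟩
  · exact ⟨a, by simp, fun h' => h h'.symm⟩

theorem Tr_line {L : Set (Set X)} {x y z : X} (h : Tr L x y z) :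
    ∃ l ∈ L, x ∈ l ∧ y ∈ l ∧ z ∈ l :=
  ⟨_, h.2.2.2, by simp, by simp, by simp⟩

theorem span_subspace (L : Set (Set X)) (S : Set X) :
    LineSystem.IsSubspace L (LineSystem.span L S) := by
  intro l hl x hx y hy hxy hxl hyl w hw
  rintro T ⟨hST, hT⟩
  exact hT l hl x (hx T ⟨hST, hT⟩) y (hy T ⟨hST, hT⟩) hxy hxl hyl hw

theorem subset_span (L : Set (Set X)) (S : Set X) : S ⊆ LineSystem.span L S := by
  intro x hx
  rintro T ⟨hST, _⟩
  exact hST hx

end basics

section transport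

variable {X : Type*}

/-- a model line system with an explicit description `τ` of its line maps. -/
structure NiceModel {M : Type*} (Lm : Set (Set M)) (τ : M → M → M) : Prop where
  spec1 : ∀ μ ν ρ, Tr Lm μ ν ρ → τ μ ν = ρ
  spec2 : ∀ μ ν, (¬ ∃ ρ, Tr Lm μ ν ρ) → τ μ ν = ν
  lines : ∀ μ, ∀ lam ∈ Lm, (τ μ) '' lam ∈ Lm
  cube : ∀ μ μ' ν, μ ≠ μ' → (∃ lam ∈ Lm, μ ∈ lam ∧ μ' ∈ lam) →
      τ μ (τ μ' (τ μ (τ μ' (τ μ (τ μ' ν))))) = ν
  comm : ∀ μ μ' ν, μ ≠ μ' → (¬ ∃ lam ∈ Lm, μ ∈ lam ∧ μ' ∈ lam) →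
      τ μ (τ μ' ν) = τ μ' (τ μ ν)

variable {L : Set (Set X)} {π : Set X} {M : Type*} {Lm : Set (Set M)} {τ : M → M → M}

theorem E4a (e : ↥π ≃ M) (he : LineSystem.IsIso (LineSystem.restrict L π) Lm e)
    {l : Set X} (hl : l ∈ L) (hlπ : l ⊆ π) : e '' {w : ↥π | (w : X) ∈ l} ∈ Lm :=
  (he _).mp ⟨l, hl, hlπ, rfl⟩

theorem E4b (e : ↥π ≃ M) (he : LineSystem.IsIso (LineSystem.restrict L π) Lm e)
    {lam : Set M} (hlam : lam ∈ Lm) : Subtype.val '' (e.symm '' lam) ∈ L := by
  have h1 : e '' (e.symm '' lam) = lam := by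
    rw [Set.image_image]
    simp
  have h2 : e.symm '' lam ∈ LineSystem.restrict L π := (he _).mpr (by rw [h1]; exact hlam)
  obtain ⟨l', hl', hl'π, heq⟩ := h2
  have : Subtype.val '' (e.symm '' lam) = l' := by
    rw [heq]
    ext y
    constructor
    · rintro ⟨w, hw, rfl⟩; exact hw
    · intro hy; exact ⟨⟨y, hl'π hy⟩, hy, rfl⟩
  rw [this]; exact hl'

theorem E1 (hπ : LineSystem.IsSubspace L π) (e : ↥π ≃ M)
    (he : LineSystem.IsIso (LineSystem.restrict L π) Lm e) (p q : ↥π) {z : X}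
    (h : Tr L (p : X) (q : X) z) : ∃ hz : z ∈ π, Tr Lm (e p) (e q) (e ⟨z, hz⟩) := by
  obtain ⟨a1, a2, a3, a4⟩ := h
  have hsub : ({(p : X), (q : X), z} : Set X) ⊆ π :=
    hπ _ a4 p p.2 q q.2 a3 (by simp) (by simp)
  have hz : z ∈ π := hsub (by simp)
  refine ⟨hz, ?_, ?_, ?_, ?_⟩
  · intro h; apply a1; exact congrArg Subtype.val (e.injective h)
  · intro h; apply a2; exact congrArg Subtype.val (e.injective h)
  · intro h; apply a3; exact congrArg Subtype.val (e.injective h)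
  · have := E4a e he a4 hsub
    have h2 : e '' {w : ↥π | (w : X) ∈ ({(p : X), (q : X), z} : Set X)}
        = {e p, e q, e ⟨z, hz⟩} := by
      ext μ
      simp only [Set.mem_image, Set.mem_ofPred_eq, Set.mem_insert_iff, Set.mem_singleton_iff]
      constructor
      · rintro ⟨w, hw, rfl⟩
        rcases hw with h | h | h
        · left; rw [show w = p from Subtype.ext h]
        · right; left; rw [show w = q from Subtype.ext h]
        · right; right; rw [show w = ⟨z, hz⟩ from Subtype.ext h]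
      · rintro (h | h | h)
        · exact ⟨p, Or.inl rfl, h.symm⟩
        · exact ⟨q, Or.inr (Or.inl rfl), h.symm⟩
        · exact ⟨⟨z, hz⟩, Or.inr (Or.inr rfl), h.symm⟩
    rw [h2] at this
    exact this

theorem E2 (e : ↥π ≃ M) (he : LineSystem.IsIso (LineSystem.restrict L π) Lm e) (p q : ↥π) {ρ : M}
    (h : Tr Lm (e p) (e q) ρ) : Tr L (p : X) (q : X) ((e.symm ρ : ↥π) : X) := by
  obtain ⟨a1, a2, a3, a4⟩ := h
  refine ⟨?_, ?_, ?_, ?_⟩
  · intro h; apply a1
    have : e.symm ρ = p := Subtype.ext h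
    rw [← this, Equiv.apply_symm_apply]
  · intro h; apply a2
    have : e.symm ρ = q := Subtype.ext h
    rw [← this, Equiv.apply_symm_apply]
  · intro h; apply a3
    rw [show p = q from Subtype.ext h]
  · have := E4b e he a4
    have h2 : Subtype.val '' (e.symm '' ({e p, e q, ρ} : Set M))
        = {(p : X), (q : X), ((e.symm ρ : ↥π) : X)} := by
      simp only [Set.image_insert_eq, Set.image_singleton, Equiv.symm_apply_apply]
    rw [h2] at this
    exact this

/-- the line map inside a plane corresponds to the model's `τ`. -/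
theorem E3 (hpl : LineSystem.IsPartialLinear L) (hπ : LineSystem.IsSubspace L π) (e : ↥π ≃ M)
    (he : LineSystem.IsIso (LineSystem.restrict L π) Lm e) (hM : NiceModel Lm τ) (p q : ↥π) :
    LineSystem.lineMap L (p : X) (q : X) = ((e.symm (τ (e p) (e q)) : ↥π) : X) := by
  by_cases h : ∃ z, Tr L (p : X) (q : X) z
  · obtain ⟨z, hz⟩ := h
    obtain ⟨hzπ, hT⟩ := E1 hπ e he p q hz
    rw [lineMap_of_Tr hpl hz, hM.spec1 _ _ _ hT, Equiv.symm_apply_apply]
  · have h2 : ¬ ∃ ρ, Tr Lm (e p) (e q) ρ := by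
      rintro ⟨ρ, hρ⟩
      exact h ⟨_, E2 e he p q hρ⟩
    rw [lineMap_of_not h, hM.spec2 _ _ h2, Equiv.symm_apply_apply]

/-- the restricted line map as a self-map of the plane. -/
def sig (e : ↥π ≃ M) (τ : M → M → M) (p q : ↥π) : ↥π := e.symm (τ (e p) (e q))

theorem sig_spec (hpl : LineSystem.IsPartialLinear L) (hπ : LineSystem.IsSubspace L π) (e : ↥π ≃ M)
    (he : LineSystem.IsIso (LineSystem.restrict L π) Lm e) (hM : NiceModel Lm τ) (p q : ↥π) :
    LineSystem.lineMap L (p : X) (q : X) = ((sig e τ p q : ↥π) : X) := E3 hpl hπ e he hM p q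

theorem e_sig (e : ↥π ≃ M) (p q : ↥π) : e (sig e τ p q) = τ (e p) (e q) := by
  unfold sig; rw [Equiv.apply_symm_apply]

theorem plane_lines (hpl : LineSystem.IsPartialLinear L) (hπ : LineSystem.IsSubspace L π)
    (e : ↥π ≃ M) (he : LineSystem.IsIso (LineSystem.restrict L π) Lm e) (hM : NiceModel Lm τ)
    {x : X} (hx : x ∈ π) {l : Set X} (hl : l ∈ L) (hlπ : l ⊆ π) :
    (LineSystem.lineMap L x) '' l ∈ L := by
  have h1 := E4a e he hl hlπ
  have h2 := hM.lines (e ⟨x, hx⟩) _ h1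
  have h3 := E4b e he h2
  have : Subtype.val '' (e.symm '' (τ (e ⟨x, hx⟩) '' (e '' {w : ↥π | (w : X) ∈ l})))
      = (LineSystem.lineMap L x) '' l := by
    ext y
    constructor
    · rintro ⟨w, ⟨μ, ⟨ν, ⟨w0, hw0, rfl⟩, rfl⟩, rfl⟩, rfl⟩
      refine ⟨(w0 : X), hw0, ?_⟩
      exact E3 hpl hπ e he hM ⟨x, hx⟩ w0
    · rintro ⟨y0, hy0, rfl⟩
      refine ⟨e.symm (τ (e ⟨x, hx⟩) (e ⟨y0, hlπ hy0⟩)), ⟨_, ⟨_, ⟨⟨y0, hlπ hy0⟩, hy0, rfl⟩, rfl⟩, rfl⟩, ?_⟩
      exact (E3 hpl hπ e he hM ⟨x, hx⟩ ⟨y0, hlπ hy0⟩).symm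
  rw [← this]; exact h3

theorem plane_cube (hpl : LineSystem.IsPartialLinear L) (hπ : LineSystem.IsSubspace L π)
    (e : ↥π ≃ M) (he : LineSystem.IsIso (LineSystem.restrict L π) Lm e) (hM : NiceModel Lm τ)
    {x x' y : X} (hx : x ∈ π) (hx' : x' ∈ π) (hy : y ∈ π) (hne : x ≠ x')
    {k : Set X} (hk : k ∈ L) (hxk : x ∈ k) (hx'k : x' ∈ k) :
    LineSystem.lineMap L x (LineSystem.lineMap L x' (LineSystem.lineMap L x
      (LineSystem.lineMap L x' (LineSystem.lineMap L x (LineSystem.lineMap L x' y))))) = y := by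
  have hkπ : k ⊆ π := hπ k hk x hx x' hx' hne hxk hx'k
  set p : ↥π := ⟨x, hx⟩
  set p' : ↥π := ⟨x', hx'⟩
  set q : ↥π := ⟨y, hy⟩
  have s := fun a b => sig_spec hpl hπ e he hM (τ := τ) a b
  have h1 : LineSystem.lineMap L x' y = (sig e τ p' q : X) := s p' q
  rw [h1]
  have h2 := s p (sig e τ p' q)
  rw [show (p : X) = x from rfl] at h2
  rw [h2]
  have h3 := s p' (sig e τ p (sig e τ p' q))
  rw [show (p' : X) = x' from rfl] at h3
  rw [h3]
  have h4 := s p (sig e τ p' (sig e τ p (sig e τ p' q)))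
  rw [show (p : X) = x from rfl] at h4
  rw [h4]
  have h5 := s p' (sig e τ p (sig e τ p' (sig e τ p (sig e τ p' q))))
  rw [show (p' : X) = x' from rfl] at h5
  rw [h5]
  have h6 := s p (sig e τ p' (sig e τ p (sig e τ p' (sig e τ p (sig e τ p' q)))))
  rw [show (p : X) = x from rfl] at h6
  rw [h6]
  have hfin : sig e τ p (sig e τ p' (sig e τ p (sig e τ p' (sig e τ p (sig e τ p' q))))) = q := by
    apply e.injective
    simp only [e_sig]
    apply hM.cube
    · intro h; apply hne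
      exact congrArg Subtype.val (e.injective h)
    · exact ⟨_, E4a e he hk hkπ, ⟨p, hxk, rfl⟩, ⟨p', hx'k, rfl⟩⟩
  rw [hfin]

theorem plane_comm (hpl : LineSystem.IsPartialLinear L) (hπ : LineSystem.IsSubspace L π)
    (e : ↥π ≃ M) (he : LineSystem.IsIso (LineSystem.restrict L π) Lm e) (hM : NiceModel Lm τ)
    {x x' y : X} (hx : x ∈ π) (hx' : x' ∈ π) (hy : y ∈ π) (hne : x ≠ x')
    (hnc : ¬ ∃ k ∈ L, x ∈ k ∧ x' ∈ k) :
    LineSystem.lineMap L x (LineSystem.lineMap L x' y)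
      = LineSystem.lineMap L x' (LineSystem.lineMap L x y) := by
  set p : ↥π := ⟨x, hx⟩
  set p' : ↥π := ⟨x', hx'⟩
  set q : ↥π := ⟨y, hy⟩
  have s := fun a b => sig_spec hpl hπ e he hM (τ := τ) a b
  have h1 : LineSystem.lineMap L x' y = (sig e τ p' q : X) := s p' q
  have h1' : LineSystem.lineMap L x y = (sig e τ p q : X) := s p q
  rw [h1, h1']
  have h2 := s p (sig e τ p' q)
  rw [show (p : X) = x from rfl] at h2
  have h2' := s p' (sig e τ p q)
  rw [show (p' : X) = x' from rfl] at h2'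
  rw [h2, h2']
  have hfin : sig e τ p (sig e τ p' q) = sig e τ p' (sig e τ p q) := by
    apply e.injective
    simp only [e_sig]
    apply hM.comm
    · intro h; apply hne
      exact congrArg Subtype.val (e.injective h)
    · rintro ⟨lam, hlam, hp, hp'⟩
      apply hnc
      refine ⟨_, E4b e he hlam, ?_, ?_⟩
      · exact ⟨p, ⟨e p, hp, by rw [Equiv.symm_apply_apply]⟩, rfl⟩
      · exact ⟨p', ⟨e p', hp', by rw [Equiv.symm_apply_apply]⟩, rfl⟩
  rw [hfin]

end transport

section affmodel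

theorem z1 : ∀ a b : ZMod 3, -a - b = a → a = b := by decide
theorem z2 : ∀ a b : ZMod 3, -a - b = b → a = b := by decide
theorem z3 : ∀ c₁ c₂ c₃ : ZMod 3, c₁ ≠ c₂ → c₁ ≠ c₃ → c₂ ≠ c₃ → c₁ + c₂ + c₃ = 0 := by decide
theorem z4 : ∀ a b : ZMod 3, a + 2 * (b - a) = -a - b := by decide
theorem z5 : ∀ a : ZMod 3, -a - a = a := by decide
theorem z6 : ∀ a b c : ZMod 3, -a - (-b - (-a - (-b - (-a - (-b - c))))) = c := by decide
theorem z7 : ∀ c : ZMod 3, c = 0 ∨ c = 1 ∨ c = 2 := by decide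
theorem z8 : ∀ v w c₁ c₂ c₃ : ZMod 3, c₁ + c₂ + c₃ = 0 →
    v + c₃ * w = -(v + c₁ * w) - (v + c₂ * w) := by decide

theorem aff_Tr {μ ν ρ : Fin 2 → ZMod 3} (h : Tr affinePlaneThree μ ν ρ) : ρ = -μ - ν := by
  obtain ⟨h1, h2, h3, v, w, hw, hset⟩ := h
  have hμ : μ ∈ {x : Fin 2 → ZMod 3 | ∃ c : ZMod 3, x = v + c • w} := by rw [← hset]; simp
  have hν : ν ∈ {x : Fin 2 → ZMod 3 | ∃ c : ZMod 3, x = v + c • w} := by rw [← hset]; simp
  have hρ : ρ ∈ {x : Fin 2 → ZMod 3 | ∃ c : ZMod 3, x = v + c • w} := by rw [← hset]; simp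
  obtain ⟨c₁, hc₁⟩ := hμ
  obtain ⟨c₂, hc₂⟩ := hν
  obtain ⟨c₃, hc₃⟩ := hρ
  have d12 : c₁ ≠ c₂ := by
    intro h; apply h3; rw [hc₁, hc₂, h]
  have d13 : c₁ ≠ c₃ := by
    intro h; apply h1; rw [hc₁, hc₃, h]
  have d23 : c₂ ≠ c₃ := by
    intro h; apply h2; rw [hc₂, hc₃, h]
  funext i
  rw [hc₁, hc₂, hc₃]
  simp only [Pi.add_apply, Pi.smul_apply, smul_eq_mul, Pi.sub_apply, Pi.neg_apply]
  exact z8 _ _ _ _ _ (z3 _ _ _ d12 d13 d23)

theorem aff_Tr_mk {μ ν : Fin 2 → ZMod 3} (hμν : μ ≠ ν) : Tr affinePlaneThree μ ν (-μ - ν) := by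
  refine ⟨?_, ?_, hμν, μ, ν - μ, sub_ne_zero.mpr hμν.symm, ?_⟩
  · intro h
    apply hμν
    funext i
    have := congrFun h i
    simp only [Pi.sub_apply, Pi.neg_apply] at this
    exact z1 _ _ this
  · intro h
    apply hμν
    funext i
    have := congrFun h i
    simp only [Pi.sub_apply, Pi.neg_apply] at this
    exact z2 _ _ this
  · ext x
    simp only [Set.mem_insert_iff, Set.mem_singleton_iff, Set.mem_setOf_eq]
    constructor
    · rintro (rfl | rfl | rfl)
      · exact ⟨0, by rw [zero_smul, add_zero]⟩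
      · exact ⟨1, by rw [one_smul]; abel⟩
      · refine ⟨2, ?_⟩
        funext i
        simp only [Pi.add_apply, Pi.smul_apply, smul_eq_mul, Pi.sub_apply, Pi.neg_apply]
        exact (z4 _ _).symm
    · rintro ⟨c, rfl⟩
      rcases z7 c with rfl | rfl | rfl
      · left; rw [zero_smul, add_zero]
      · right; left; rw [one_smul]; abel
      · right; right
        funext i
        simp only [Pi.add_apply, Pi.smul_apply, smul_eq_mul, Pi.sub_apply, Pi.neg_apply]
        exact z4 _ _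

theorem aff_nice : NiceModel affinePlaneThree (fun μ ν : Fin 2 → ZMod 3 => -μ - ν) := by
  refine ⟨?_, ?_, ?_, ?_, ?_⟩
  · intro μ ν ρ h
    exact (aff_Tr h).symm
  · intro μ ν h
    have : μ = ν := by
      by_contra hne
      exact h ⟨_, aff_Tr_mk hne⟩
    subst this
    funext i
    simp only [Pi.sub_apply, Pi.neg_apply]
    exact z5 _
  · rintro μ lam ⟨v, w, hw, rfl⟩
    refine ⟨-μ - v, -w, neg_ne_zero.mpr hw, ?_⟩
    ext x
    constructor
    · rintro ⟨y, ⟨c, rfl⟩, rfl⟩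
      refine ⟨c, ?_⟩
      show -μ - (v + c • w) = -μ - v + c • -w
      rw [smul_neg]; abel
    · rintro ⟨c, rfl⟩
      refine ⟨v + c • w, ⟨c, rfl⟩, ?_⟩
      show -μ - (v + c • w) = -μ - v + c • -w
      rw [smul_neg]; abel
  · intro μ μ' ν _ _
    funext i
    simp only [Pi.sub_apply, Pi.neg_apply]
    exact z6 _ _ _
  · intro μ μ' ν hne hnc
    exfalso
    apply hnc
    exact ⟨_, (aff_Tr_mk hne).2.2.2, by simp, by simp⟩

end affmodel

section dualmodel

/-- the action of the transposition `s` on two-element subsets. -/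
def tauF (s s' : Finset (Fin 4)) : Finset (Fin 4) :=
  if (s ∩ s').card = 1 then symmDiff s s' else s'

set_option maxRecDepth 100000 in
theorem tauF_card : ∀ s s' : Finset (Fin 4), s.card = 2 → s'.card = 2 → (tauF s s').card = 2 := by
  decide

/-- the line map of the dual affine plane. -/
def taud (s s' : DualAffinePoint) : DualAffinePoint :=
  ⟨tauF s.1 s'.1, tauF_card s.1 s'.1 s.2 s'.2⟩

set_option maxRecDepth 1000000 in
set_option synthInstance.maxHeartbeats 400000 in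
set_option synthInstance.maxSize 4096 in
theorem DD1 : ∀ s s' s'' : DualAffinePoint, s'' ≠ s → s'' ≠ s' → s ≠ s' →
    (∃ i : Fin 4, ∀ t : DualAffinePoint, (t = s ∨ t = s' ∨ t = s'') ↔ i ∉ t.val) →
    taud s s' = s'' := by decide

set_option maxRecDepth 1000000 in
set_option synthInstance.maxHeartbeats 400000 in
set_option synthInstance.maxSize 4096 in
theorem DD2 : ∀ s s' : DualAffinePoint, (¬ ∃ s'' : DualAffinePoint, s'' ≠ s ∧ s'' ≠ s' ∧ s ≠ s' ∧
    ∃ i : Fin 4, ∀ t : DualAffinePoint, (t = s ∨ t = s' ∨ t = s'') ↔ i ∉ t.val) →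
    taud s s' = s' := by decide

set_option maxRecDepth 1000000 in
theorem DD3 : ∀ (s : DualAffinePoint) (i : Fin 4), ∃ j : Fin 4, ∀ t' : DualAffinePoint,
    (j ∉ t'.val ↔ ∃ t : DualAffinePoint, i ∉ t.val ∧ taud s t = t') := by decide

set_option maxRecDepth 1000000 in
theorem DD4 : ∀ s s' ν : DualAffinePoint, s ≠ s' → (∃ i : Fin 4, i ∉ s.val ∧ i ∉ s'.val) →
    taud s (taud s' (taud s (taud s' (taud s (taud s' ν))))) = ν := by decide

set_option maxRecDepth 1000000 in
theorem DD5 : ∀ s s' ν : DualAffinePoint, s ≠ s' → (¬ ∃ i : Fin 4, i ∉ s.val ∧ i ∉ s'.val) →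
    taud s (taud s' ν) = taud s' (taud s ν) := by decide

theorem dual_Tr_iff (s s' s'' : DualAffinePoint) : Tr dualAffinePlaneTwo s s' s'' ↔
    (s'' ≠ s ∧ s'' ≠ s' ∧ s ≠ s' ∧
      ∃ i : Fin 4, ∀ t : DualAffinePoint, (t = s ∨ t = s' ∨ t = s'') ↔ i ∉ t.val) := by
  unfold Tr
  constructor
  · rintro ⟨h1, h2, h3, i, hi⟩
    refine ⟨h1, h2, h3, i, fun t => ?_⟩
    have := Set.ext_iff.mp hi t
    simp only [Set.mem_insert_iff, Set.mem_singleton_iff, Set.mem_setOf_eq] at this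
    exact this
  · rintro ⟨h1, h2, h3, i, hi⟩
    refine ⟨h1, h2, h3, i, ?_⟩
    ext t
    simp only [Set.mem_insert_iff, Set.mem_singleton_iff, Set.mem_setOf_eq]
    exact hi t

theorem dual_nice : NiceModel dualAffinePlaneTwo taud := by
  refine ⟨?_, ?_, ?_, ?_, ?_⟩
  · intro μ ν ρ h
    obtain ⟨h1, h2, h3, h4⟩ := (dual_Tr_iff μ ν ρ).mp h
    exact DD1 μ ν ρ h1 h2 h3 h4
  · intro μ ν h
    apply DD2
    rintro ⟨ρ, hρ⟩
    exact h ⟨ρ, (dual_Tr_iff μ ν ρ).mpr hρ⟩
  · rintro μ lam ⟨i, rfl⟩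
    obtain ⟨j, hj⟩ := DD3 μ i
    refine ⟨j, ?_⟩
    ext t'
    constructor
    · rintro ⟨t, ht, rfl⟩
      exact (hj _).mpr ⟨t, ht, rfl⟩
    · intro ht'
      obtain ⟨t, ht, he⟩ := (hj t').mp ht'
      exact ⟨t, ht, he⟩
  · rintro μ μ' ν hne ⟨lam, ⟨i, rfl⟩, h1, h2⟩
    exact DD4 μ μ' ν hne ⟨i, h1, h2⟩
  · intro μ μ' ν hne hnc
    apply DD5 μ μ' ν hne
    rintro ⟨i, h1, h2⟩
    exact hnc ⟨{s | i ∉ s.val}, ⟨i, rfl⟩, h1, h2⟩

end dualmodel

section main

variable {X : Type*} {L : Set (Set X)}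

theorem exists_plane (hL : IsFischerSpace L) {k n : Set X} (hk : k ∈ L) (hn : n ∈ L) (hkn : k ≠ n)
    (hmeet : (k ∩ n).Nonempty) :
    ∃ π : Set X, k ⊆ π ∧ n ⊆ π ∧ LineSystem.IsSubspace L π ∧
      ∃ (M : Type) (Lm : Set (Set M)) (τ : M → M → M) (e : ↥π ≃ M),
        NiceModel Lm τ ∧ LineSystem.IsIso (LineSystem.restrict L π) Lm e := by
  refine ⟨LineSystem.span L (k ∪ n), ?_, ?_, span_subspace L _, ?_⟩
  · exact fun x hx => subset_span L _ (Or.inl hx)
  · exact fun x hx => subset_span L _ (Or.inr hx)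
  · rcases hL.2.2 k hk n hn hkn hmeet with ⟨e, he⟩ | ⟨e, he⟩
    · exact ⟨_, _, _, e, dual_nice, he⟩
    · exact ⟨_, _, _, e, aff_nice, he⟩

theorem auto_line (hL : IsFischerSpace L) (x : X) {l : Set X} (hl : l ∈ L) :
    (LineSystem.lineMap L x) '' l ∈ L := by
  have hpl := hL.1
  have h3 := hL.2.1
  by_cases hx : x ∈ l
  · obtain ⟨y, hy, hyx⟩ := exists_ne_on_line h3 hl x
    obtain ⟨z, hz, hleq⟩ := exists_Tr_of_line h3 hl hx hy hyx.symm
    rw [hleq]
    simp only [Set.image_insert_eq, Set.image_singleton, lineMap_self, lineMap_of_Tr hpl hz,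
      lineMap_of_Tr hpl (Tr_swap23 hz)]
    exact (Tr_swap23 hz).2.2.2
  · by_cases hcol : ∃ p ∈ l, ∃ k ∈ L, x ∈ k ∧ p ∈ k
    · obtain ⟨p, hp, k, hk, hxk, hpk⟩ := hcol
      have hkl : k ≠ l := by
        intro h; apply hx; rw [← h]; exact hxk
      obtain ⟨π, hkπ, hlπ, hπ, M, Lm, τ, e, hM, he⟩ := exists_plane hL hk hl hkl ⟨p, hpk, hp⟩
      exact plane_lines hpl hπ e he hM (hkπ hxk) hl hlπ
    · have hfix : ∀ y ∈ l, LineSystem.lineMap L x y = y := by
        intro y hy
        apply lineMap_of_not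
        rintro ⟨z, hz⟩
        exact hcol ⟨y, hy, _, hz.2.2.2, by simp, by simp⟩
      have : (LineSystem.lineMap L x) '' l = l := by
        ext y
        constructor
        · rintro ⟨w, hw, rfl⟩
          rw [hfix w hw]; exact hw
        · intro hy
          exact ⟨y, hy, hfix y hy⟩
      rw [this]; exact hl

theorem cube_main (hL : IsFischerSpace L) {x x' : X} (hne : x ≠ x') {k : Set X} (hk : k ∈ L)
    (hxk : x ∈ k) (hx'k : x' ∈ k) (y : X) :
    LineSystem.lineMap L x (LineSystem.lineMap L x' (LineSystem.lineMap L x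
      (LineSystem.lineMap L x' (LineSystem.lineMap L x (LineSystem.lineMap L x' y))))) = y := by
  have hpl := hL.1
  have h3 := hL.2.1
  obtain ⟨x'', hT, hkeq⟩ := exists_Tr_of_line h3 hk hxk hx'k hne
  have f1 : LineSystem.lineMap L x x = x := lineMap_self x
  have f2 : LineSystem.lineMap L x x' = x'' := lineMap_of_Tr hpl hT
  have f3 : LineSystem.lineMap L x x'' = x' := lineMap_of_Tr hpl (Tr_swap23 hT)
  have g1 : LineSystem.lineMap L x' x' = x' := lineMap_self x'
  have g2 : LineSystem.lineMap L x' x = x'' := lineMap_of_Tr hpl (Tr_swap12 hT)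
  have g3 : LineSystem.lineMap L x' x'' = x := lineMap_of_Tr hpl (Tr_swap23 (Tr_swap12 hT))
  by_cases hyk : y ∈ k
  · rw [hkeq] at hyk
    rcases hyk with hy | hy | hy
    · rw [hy, g2, f3, g1, f2, g3, f1]
    · rw [hy, g1, f2, g3, f1, g2, f3]
    · have hy' : y = x'' := hy
      rw [hy', g3, f1, g2, f3, g1, f2]
  · by_cases hcol : ∃ q ∈ k, ∃ n ∈ L, q ∈ n ∧ y ∈ n
    · obtain ⟨q, hqk, n, hn, hqn, hyn⟩ := hcol
      have hkn : k ≠ n := by
        intro h; apply hyk; rw [h]; exact hyn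
      obtain ⟨π, hkπ, hnπ, hπ, M, Lm, τ, e, hM, he⟩ := exists_plane hL hk hn hkn ⟨q, hqk, hqn⟩
      exact plane_cube hpl hπ e he hM (hkπ hxk) (hkπ hx'k) (hnπ hyn) hne hk hxk hx'k
    · have hfx : LineSystem.lineMap L x y = y := by
        apply lineMap_of_not
        rintro ⟨z, hz⟩
        exact hcol ⟨x, hxk, _, hz.2.2.2, by simp, by simp⟩
      have hfx' : LineSystem.lineMap L x' y = y := by
        apply lineMap_of_not
        rintro ⟨z, hz⟩
        exact hcol ⟨x', hx'k, _, hz.2.2.2, by simp, by simp⟩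
      rw [hfx', hfx, hfx', hfx, hfx', hfx]

theorem comm_main (hL : IsFischerSpace L) {x x' : X} (hne : x ≠ x')
    (hnc : ¬ ∃ k ∈ L, x ∈ k ∧ x' ∈ k) (y : X) :
    LineSystem.lineMap L x (LineSystem.lineMap L x' y)
      = LineSystem.lineMap L x' (LineSystem.lineMap L x y) := by
  have hpl := hL.1
  have planeArg : ∀ n n' : Set X, n ∈ L → n' ∈ L → n ≠ n' → (n ∩ n').Nonempty →
      x ∈ n ∪ n' → x' ∈ n ∪ n' → y ∈ n ∪ n' →
      LineSystem.lineMap L x (LineSystem.lineMap L x' y)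
        = LineSystem.lineMap L x' (LineSystem.lineMap L x y) := by
    intro n n' hn hn' hnn' hmeet hx hx' hy
    obtain ⟨π, hnπ, hn'π, hπ, M, Lm, τ, e, hM, he⟩ := exists_plane hL hn hn' hnn' hmeet
    have hsub : n ∪ n' ⊆ π := Set.union_subset hnπ hn'π
    exact plane_comm hpl hπ e he hM (hsub hx) (hsub hx') (hsub hy) hne hnc
  by_cases h1 : ∃ z, Tr L x y z
  · obtain ⟨z, hz⟩ := h1
    by_cases h2 : ∃ z', Tr L x' y z'
    · obtain ⟨z', hz'⟩ := h2
      apply planeArg _ _ hz.2.2.2 hz'.2.2.2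
      · intro h
        apply hnc
        refine ⟨_, hz.2.2.2, by simp, ?_⟩
        rw [h]; simp
      · exact ⟨y, by simp, by simp⟩
      · left; simp
      · right; simp
      · left; simp
    · by_cases h3 : ∃ w, Tr L x' z w
      · obtain ⟨w, hw⟩ := h3
        apply planeArg _ _ hz.2.2.2 hw.2.2.2
        · intro h
          apply hnc
          refine ⟨_, hz.2.2.2, by simp, ?_⟩
          rw [h]; simp
        · exact ⟨z, by simp, by simp⟩
        · left; simp
        · right; simp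
        · left; simp
      · rw [lineMap_of_not h2, lineMap_of_Tr hpl hz, lineMap_of_not h3]
  · by_cases h2 : ∃ z', Tr L x' y z'
    · obtain ⟨z', hz'⟩ := h2
      by_cases h3 : ∃ w, Tr L x z' w
      · obtain ⟨w, hw⟩ := h3
        apply planeArg _ _ hz'.2.2.2 hw.2.2.2
        · intro h
          apply hnc
          refine ⟨_, hw.2.2.2, by simp, ?_⟩
          rw [← h]; simp
        · exact ⟨z', by simp, by simp⟩
        · right; simp
        · left; simp
        · left; simp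
      · rw [lineMap_of_not h1, lineMap_of_Tr hpl hz', lineMap_of_not h3]
    · rw [lineMap_of_not h2, lineMap_of_not h1, lineMap_of_not h2]

theorem perm_order (hL : IsFischerSpace L) (hnd : LineSystem.IsNondegenerate L) {x : X}
    (σ : Equiv.Perm X) (hσ : ⇑σ = LineSystem.lineMap L x) : orderOf σ = 2 := by
  have hpl := hL.1
  have h3 := hL.2.1
  have hσ' : ∀ z, σ z = LineSystem.lineMap L x z := congrFun hσ
  apply orderOf_eq_prime
  · ext y
    rw [pow_two, Equiv.Perm.mul_apply, hσ', hσ', lineMap_invol hpl x y, Equiv.Perm.one_apply]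
  · intro h1
    obtain ⟨l, hl, hxl⟩ := hnd x
    obtain ⟨y, hy, hyx⟩ := exists_ne_on_line h3 hl x
    obtain ⟨z, hz, _⟩ := exists_Tr_of_line h3 hl hxl hy hyx.symm
    have h2 : σ y = z := by rw [hσ', lineMap_of_Tr hpl hz]
    rw [h1, Equiv.Perm.one_apply] at h2
    exact hz.2.1 h2.symm

theorem main (hL : IsFischerSpace L) (hnd : LineSystem.IsNondegenerate L) :
    (∀ x : X, ∃ σ : Equiv.Perm X, ⇑σ = LineSystem.lineMap L x ∧ orderOf σ = 2 ∧
      LineSystem.IsIso L L σ) ∧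
    IsThreeTranspositionSet {σ : Equiv.Perm X | ∃ x : X, ⇑σ = LineSystem.lineMap L x} := by
  have hpl := hL.1
  constructor
  · intro x
    refine ⟨(lineMap_invol hpl x).toPerm, Function.Involutive.coe_toPerm _, ?_, ?_⟩
    · exact perm_order hL hnd _ (Function.Involutive.coe_toPerm _)
    · intro l
      rw [Function.Involutive.coe_toPerm]
      constructor
      · exact fun hl => auto_line hL x hl
      · intro h
        have h2 := auto_line hL x h
        have : (LineSystem.lineMap L x) '' ((LineSystem.lineMap L x) '' l) = l := by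
          ext y
          constructor
          · rintro ⟨_, ⟨w, hw, rfl⟩, rfl⟩
            rw [lineMap_invol hpl x w]; exact hw
          · intro hy
            exact ⟨_, ⟨y, hy, rfl⟩, lineMap_invol hpl x y⟩
        rw [this] at h2
        exact h2
  · constructor
    · rintro d ⟨x, hd⟩
      exact perm_order hL hnd d hd
    · rintro d ⟨x, hd⟩ e ⟨x', he⟩
      have hd' : ∀ z, d z = LineSystem.lineMap L x z := congrFun hd
      have he' : ∀ z, e z = LineSystem.lineMap L x' z := congrFun he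
      by_cases hxx : x = x'
      · left
        have : d = e := by
          ext z; rw [hd', he', hxx]
        rw [this]
        ext z
        rw [pow_two, Equiv.Perm.mul_apply, Equiv.Perm.mul_apply, Equiv.Perm.mul_apply, he', he', he',
          he', lineMap_invol hpl x' z, lineMap_invol hpl x' z, Equiv.Perm.one_apply]
      · by_cases hcol : ∃ k ∈ L, x ∈ k ∧ x' ∈ k
        · right
          obtain ⟨k, hk, hxk, hx'k⟩ := hcol
          ext y
          rw [pow_three', Equiv.Perm.mul_apply, Equiv.Perm.mul_apply, Equiv.Perm.mul_apply,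
            Equiv.Perm.mul_apply, Equiv.Perm.mul_apply, Equiv.Perm.one_apply]
          simp only [hd', he']
          exact cube_main hL hxx hk hxk hx'k y
        · left
          ext y
          rw [pow_two, Equiv.Perm.mul_apply, Equiv.Perm.mul_apply, Equiv.Perm.mul_apply,
            Equiv.Perm.one_apply]
          simp only [hd', he']
          rw [← comm_main hL hxx hcol (LineSystem.lineMap L x' y), lineMap_invol hpl x' y,
            lineMap_invol hpl x y]

end main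

end Cfsg.Agent.helper17.Fischer2
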