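import Mathlib

set_option autoImplicit false

/-!
# Abstract group theory for identifying `[G,G]/Z([G,G])`
-/

namespace Cfsg.Agent.helper17.O4

variable {G G' H : Type*} [Group G] [Group G'] [Group H]

/-- membership in the commutator subgroup of a subgroup, in the ambient group -/
theorem mem_commutator_subtype_iff (K : Subgroup G) (x : K) :
    x ∈ commutator K ↔ (x : G) ∈ ⁅K, K⁆ := by
  rw [commutator_def, ← Subgroup.mem_map_iff_mem K.subtype_injective, Subgroup.map_commutator,
    ← MonoidHom.range_eq_map, Subgroup.range_subtype]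
  rfl

/-- the commutator subgroup is transported by a group isomorphism -/
noncomputable def commutatorCongr (t : G ≃* G') : commutator G ≃* commutator G' :=
  (t.subgroupMap (commutator G)).trans (MulEquiv.subgroupCongr (by
    rw [commutator_def, commutator_def, Subgroup.map_commutator]
    have : (⊤ : Subgroup G).map (t : G →* G') = ⊤ :=
      Subgroup.map_top_of_surjective _ t.surjective
    rw [this]))

theorem map_center_equiv (t : G ≃* G') :
    (Subgroup.center G).map t.toMonoidHom = Subgroup.center G' := by
  ext x
  constructor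
  · rintro ⟨y, hy, rfl⟩
    rw [Subgroup.mem_center_iff]
    intro g
    obtain ⟨g', rfl⟩ := t.surjective g
    have := (Subgroup.mem_center_iff.mp hy) g'
    change t g' * t y = t y * t g'
    rw [← map_mul, ← map_mul, this]
  · intro hx
    refine ⟨t.symm x, ?_, by simp⟩
    change t.symm x ∈ Subgroup.center G
    rw [Subgroup.mem_center_iff]
    intro g
    apply t.injective
    rw [map_mul, map_mul, t.apply_symm_apply]
    exact (Subgroup.mem_center_iff.mp hx) (t g)

/-- `[G,G]/Z([G,G])` is transported by a group isomorphism -/
theorem commQuot_congr (t : G ≃* G') :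
    Nonempty ((commutator G ⧸ Subgroup.center (commutator G)) ≃*
      (commutator G' ⧸ Subgroup.center (commutator G'))) :=
  ⟨QuotientGroup.congr _ _ (commutatorCongr t) (map_center_equiv (commutatorCongr t))⟩

/-- If `ψ : H → G` has image `[G,G]` and `N` is the set of `h` with `ψ h` central in the image,
then `[G,G]/Z([G,G]) ≃ H/N`. -/
theorem commQuot_of_range (ψ : H →* G) (hrange : ψ.range = commutator G)
    (N : Subgroup H) [N.Normal] (hN : ∀ h, h ∈ N ↔ ∀ h', ψ h' * ψ h = ψ h * ψ h') :
    Nonempty ((commutator G ⧸ Subgroup.center (commutator G)) ≃* H ⧸ N) := by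
  have hmem : ∀ h, ψ h ∈ commutator G := fun h => by
    rw [← hrange]; exact ⟨h, rfl⟩
  let ψ' : H →* commutator G := ψ.codRestrict _ hmem
  have hsurj' : Function.Surjective ψ' := by
    rintro ⟨x, hx⟩
    rw [← hrange] at hx
    obtain ⟨h, rfl⟩ := hx
    exact ⟨h, rfl⟩
  let f₁ : H →* commutator G ⧸ Subgroup.center (commutator G) :=
    (QuotientGroup.mk' _).comp ψ'
  have hsurj : Function.Surjective f₁ :=
    (QuotientGroup.mk'_surjective _).comp hsurj'
  have hker : f₁.ker = N := by
    ext h
    rw [MonoidHom.mem_ker, hN]
    change QuotientGroup.mk' (Subgroup.center (commutator G)) (ψ' h) = 1 ↔ _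
    rw [QuotientGroup.mk'_apply, QuotientGroup.eq_one_iff, Subgroup.mem_center_iff]
    constructor
    · intro hc h'
      have := hc (ψ' h')
      exact congrArg Subtype.val this
    · intro hc g
      obtain ⟨h', rfl⟩ := hsurj' g
      exact Subtype.ext (hc h')
  exact ⟨((QuotientGroup.quotientMulEquivOfEq hker.symm).trans
    (QuotientGroup.quotientKerEquivOfSurjective f₁ hsurj)).symm⟩

end Cfsg.Agent.helper17.O4
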