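import Mathlib
import Cfsg.Prelude.Def_Classical
import Cfsg.Agent.S0287
import Cfsg.Agent.Lib_helper17_O4a

set_option autoImplicit false

/-!
# The model `(M₂(F), det)` of the hyperbolic quadratic space of dimension 4
-/

namespace Cfsg.Agent.helper17.O4

open Matrix

variable {F : Type*} [Field F]

/-- the linear equivalence `F⁴ ≃ M₂(F)` carrying `quadFormPlus 2` to `det` -/
def eVW : (Fin 2 ⊕ Fin 2 → F) ≃ₗ[F] Matrix (Fin 2) (Fin 2) F where
  toFun v := !![v (.inl 0), v (.inl 1); -v (.inr 1), v (.inr 0)]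
  invFun X := Sum.elim ![X 0 0, X 0 1] ![X 1 1, -X 1 0]
  map_add' u v := by
    ext i j
    fin_cases i <;> fin_cases j <;> simp [add_comm]
  map_smul' c v := by
    ext i j
    fin_cases i <;> fin_cases j <;> simp
  left_inv v := by
    ext i
    rcases i with i | i <;> fin_cases i <;> simp
  right_inv X := by
    ext i j
    fin_cases i <;> fin_cases j <;> simp

theorem det_eVW (v : Fin 2 ⊕ Fin 2 → F) : (eVW v).det = Cfsg.quadFormPlus 2 F v := by
  simp [eVW, det_fin_two, Cfsg.quadFormPlus, Fin.sum_univ_two]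

/-- the basis of `M₂(F)` -/
noncomputable def bW : Module.Basis (Fin 2 ⊕ Fin 2) F (Matrix (Fin 2) (Fin 2) F) :=
  Module.Basis.ofEquivFun (eVW (F := F)).symm

/-- `GL₄(F) ≃ GL(M₂(F))` -/
noncomputable def TT : GL (Fin 2 ⊕ Fin 2) F ≃* (Matrix (Fin 2) (Fin 2) F ≃ₗ[F] Matrix (Fin 2) (Fin 2) F) :=
  (Matrix.GeneralLinearGroup.toLin' bW).trans
    (LinearMap.GeneralLinearGroup.generalLinearEquiv F (Matrix (Fin 2) (Fin 2) F))

theorem TT_apply (g : GL (Fin 2 ⊕ Fin 2) F) (X : Matrix (Fin 2) (Fin 2) F) :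
    TT g X = eVW ((g : Matrix (Fin 2 ⊕ Fin 2) (Fin 2 ⊕ Fin 2) F) *ᵥ eVW.symm X) := by
  have h := Matrix.GeneralLinearGroup.toLin'_apply (bW (F := F)) g X
  change ((Matrix.GeneralLinearGroup.toLin' bW) g).toLinearEquiv X = _
  rw [h]
  have h2 : ∀ w : Fin 2 ⊕ Fin 2 → F, Fintype.linearCombination F (⇑(bW (F := F))) w = eVW w := by
    intro w
    have := (bW (F := F)).equivFun_symm_apply w
    rw [Fintype.linearCombination_apply, ← this]
    simp [bW, Module.Basis.equivFun_ofEquivFun]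
  rw [h2]
  congr 2

/-- the isometry group of `(M₂(F), det)` -/
def OW (F : Type*) [Field F] :
    Subgroup (Matrix (Fin 2) (Fin 2) F ≃ₗ[F] Matrix (Fin 2) (Fin 2) F) where
  carrier := {f | ∀ X, (f X).det = X.det}
  mul_mem' := by
    intro f g hf hg X
    rw [LinearEquiv.mul_apply, hf, hg]
  one_mem' := by
    intro X
    rfl
  inv_mem' := by
    intro f hf X
    have h := hf (f⁻¹ X)
    rw [← h]
    congr 1
    change f (f.symm X) = X
    simp

theorem mem_OW_iff (f : Matrix (Fin 2) (Fin 2) F ≃ₗ[F] Matrix (Fin 2) (Fin 2) F) :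
    f ∈ OW F ↔ ∀ X, (f X).det = X.det := Iff.rfl

theorem mem_iso_iff (g : GL (Fin 2 ⊕ Fin 2) F) :
    g ∈ Cfsg.isometryGroup F (Cfsg.quadFormPlus 2 F) ↔ TT g ∈ OW F := by
  constructor
  · intro hg X
    rw [TT_apply, det_eVW]
    have := hg (eVW.symm X) 0
    simp only [Units.coeHom_apply] at this
    rw [this, ← det_eVW]
    simp
  · intro hf u v
    simp only [Units.coeHom_apply]
    have := hf (eVW u)
    rw [TT_apply, det_eVW, det_eVW] at this
    simpa using this

theorem map_TT_iso :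
    (Cfsg.isometryGroup F (Cfsg.quadFormPlus 2 F)).map (TT (F := F)).toMonoidHom = OW F := by
  ext f
  constructor
  · rintro ⟨g, hg, rfl⟩
    exact (mem_iso_iff g).mp hg
  · intro hf
    refine ⟨TT.symm f, ?_, by simp⟩
    apply (mem_iso_iff _).mpr
    simpa using hf

/-- the isometry group is isomorphic to `OW` -/
noncomputable def isoEquiv :
    ↥(Cfsg.isometryGroup F (Cfsg.quadFormPlus 2 F)) ≃* ↥(OW F) :=
  ((TT (F := F)).subgroupMap _).trans (MulEquiv.subgroupCongr map_TT_iso)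

theorem card_OW [Fintype F] :
    Nat.card (OW F) = 2 * (Fintype.card F ^ 2 * (Fintype.card F ^ 2 - 1) ^ 2) := by
  rw [← Nat.card_congr (isoEquiv (F := F)).toEquiv,
    Cfsg.Agent.S0287.result (F := F) rfl 2 (by norm_num)]
  simp
  ring

end Cfsg.Agent.helper17.O4
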