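import Mathlib
import Cfsg.Agent.Lib_helper17_O4b

set_option autoImplicit false

/-!
# The maps `X ↦ A X B⁻¹` and transpose on `(M₂(F), det)`
-/

namespace Cfsg.Agent.helper17.O4

open Matrix

variable {F : Type*} [Field F]

/-- `X ↦ A X B⁻¹` -/
def phiLin (A B : GL (Fin 2) F) :
    Matrix (Fin 2) (Fin 2) F ≃ₗ[F] Matrix (Fin 2) (Fin 2) F where
  toFun X := (A : Matrix (Fin 2) (Fin 2) F) * X * ((B⁻¹ : GL (Fin 2) F) : Matrix (Fin 2) (Fin 2) F)
  invFun X := ((A⁻¹ : GL (Fin 2) F) : Matrix (Fin 2) (Fin 2) F) * X * (B : Matrix (Fin 2) (Fin 2) F)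
  map_add' X Y := by simp [mul_add, add_mul]
  map_smul' c X := by simp
  left_inv X := by
    simp only
    rw [← mul_assoc, ← mul_assoc, Units.inv_mul, one_mul, mul_assoc, Units.inv_mul, mul_one]
  right_inv X := by
    simp only
    rw [← mul_assoc, ← mul_assoc, Units.mul_inv, one_mul, mul_assoc, Units.mul_inv, mul_one]

theorem phiLin_apply (A B : GL (Fin 2) F) (X : Matrix (Fin 2) (Fin 2) F) :
    phiLin A B X = (A : Matrix (Fin 2) (Fin 2) F) * X *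
      ((B⁻¹ : GL (Fin 2) F) : Matrix (Fin 2) (Fin 2) F) := rfl

/-- the homomorphism `(A, B) ↦ (X ↦ A X B⁻¹)` -/
def phi : GL (Fin 2) F × GL (Fin 2) F →*
    (Matrix (Fin 2) (Fin 2) F ≃ₗ[F] Matrix (Fin 2) (Fin 2) F) where
  toFun p := phiLin p.1 p.2
  map_one' := by
    ext X : 1
    simp [phiLin_apply]
  map_mul' p r := by
    ext X : 1
    rw [LinearEquiv.mul_apply, phiLin_apply, phiLin_apply, phiLin_apply]
    simp only [Prod.fst_mul, Prod.snd_mul, _root_.mul_inv_rev, Units.val_mul]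
    simp only [mul_assoc]

theorem phi_apply (p : GL (Fin 2) F × GL (Fin 2) F) (X : Matrix (Fin 2) (Fin 2) F) :
    phi p X = (p.1 : Matrix (Fin 2) (Fin 2) F) * X *
      ((p.2⁻¹ : GL (Fin 2) F) : Matrix (Fin 2) (Fin 2) F) := rfl

/-- the "determinant quotient" `(A, B) ↦ det A / det B` -/
def dq : GL (Fin 2) F × GL (Fin 2) F →* Fˣ :=
  (Matrix.GeneralLinearGroup.det.comp (MonoidHom.fst _ _)) /
    (Matrix.GeneralLinearGroup.det.comp (MonoidHom.snd _ _))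

theorem dq_apply (p : GL (Fin 2) F × GL (Fin 2) F) :
    dq p = Matrix.GeneralLinearGroup.det p.1 / Matrix.GeneralLinearGroup.det p.2 := rfl

/-- pairs with equal determinant -/
def Gam (F : Type*) [Field F] : Subgroup (GL (Fin 2) F × GL (Fin 2) F) := dq.ker

theorem mem_Gam_iff (p : GL (Fin 2) F × GL (Fin 2) F) :
    p ∈ Gam F ↔ Matrix.GeneralLinearGroup.det p.1 = Matrix.GeneralLinearGroup.det p.2 := by
  change dq p = 1 ↔ _
  rw [dq_apply, div_eq_one]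

theorem det_phi (p : GL (Fin 2) F × GL (Fin 2) F) (X : Matrix (Fin 2) (Fin 2) F) :
    (phi p X).det = (Matrix.GeneralLinearGroup.det p.1 : F) * X.det *
      ((Matrix.GeneralLinearGroup.det p.2)⁻¹ : Fˣ) := by
  rw [phi_apply, det_mul, det_mul]
  simp

theorem phi_mem_OW {p : GL (Fin 2) F × GL (Fin 2) F} (hp : p ∈ Gam F) : phi p ∈ OW F := by
  intro X
  rw [det_phi, (mem_Gam_iff p).mp hp, mul_comm _ X.det, mul_assoc, Units.mul_inv, mul_one]

/-- transpose -/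
def tau : Matrix (Fin 2) (Fin 2) F ≃ₗ[F] Matrix (Fin 2) (Fin 2) F :=
  Matrix.transposeLinearEquiv (Fin 2) (Fin 2) F F

theorem tau_apply (X : Matrix (Fin 2) (Fin 2) F) : tau X = Xᵀ := rfl

theorem tau_mem_OW : (tau : Matrix (Fin 2) (Fin 2) F ≃ₗ[F] Matrix (Fin 2) (Fin 2) F) ∈ OW F := by
  intro X
  rw [tau_apply, det_transpose]

theorem tau_mul_tau :
    (tau : Matrix (Fin 2) (Fin 2) F ≃ₗ[F] Matrix (Fin 2) (Fin 2) F) * tau = 1 := by
  ext X : 1
  rw [LinearEquiv.mul_apply, tau_apply, tau_apply, transpose_transpose]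
  rfl

theorem tau_inv :
    (tau : Matrix (Fin 2) (Fin 2) F ≃ₗ[F] Matrix (Fin 2) (Fin 2) F)⁻¹ = tau :=
  inv_eq_of_mul_eq_one_right tau_mul_tau

/-- transpose on `GL₂` -/
def gT (A : GL (Fin 2) F) : GL (Fin 2) F :=
  ⟨(A : Matrix (Fin 2) (Fin 2) F)ᵀ, ((A⁻¹ : GL (Fin 2) F) : Matrix (Fin 2) (Fin 2) F)ᵀ,
    by rw [← transpose_mul, Units.inv_mul, transpose_one],
    by rw [← transpose_mul, Units.mul_inv, transpose_one]⟩

theorem coe_gT (A : GL (Fin 2) F) :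
    ((gT A : GL (Fin 2) F) : Matrix (Fin 2) (Fin 2) F) = (A : Matrix (Fin 2) (Fin 2) F)ᵀ := rfl

theorem coe_gT_inv (A : GL (Fin 2) F) :
    (((gT A)⁻¹ : GL (Fin 2) F) : Matrix (Fin 2) (Fin 2) F) =
      ((A⁻¹ : GL (Fin 2) F) : Matrix (Fin 2) (Fin 2) F)ᵀ := rfl

theorem det_gT (A : GL (Fin 2) F) :
    Matrix.GeneralLinearGroup.det (gT A) = Matrix.GeneralLinearGroup.det A := by
  ext
  simp [coe_gT]

/-- the twist `σ(A,B) = (B⁻ᵀ, A⁻ᵀ)` -/
def sig (p : GL (Fin 2) F × GL (Fin 2) F) : GL (Fin 2) F × GL (Fin 2) F :=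
  ((gT p.2)⁻¹, (gT p.1)⁻¹)

theorem tau_phi_tau (p : GL (Fin 2) F × GL (Fin 2) F) :
    tau * phi p * tau = phi (sig p) := by
  ext X : 1
  rw [LinearEquiv.mul_apply, LinearEquiv.mul_apply, tau_apply, tau_apply, phi_apply, phi_apply]
  simp only [sig, inv_inv, coe_gT, coe_gT_inv]
  rw [transpose_mul, transpose_mul, transpose_transpose, mul_assoc]

theorem sig_mem_Gam {p : GL (Fin 2) F × GL (Fin 2) F} (hp : p ∈ Gam F) : sig p ∈ Gam F := by
  rw [mem_Gam_iff] at hp ⊢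
  simp only [sig, map_inv, det_gT, hp]

end Cfsg.Agent.helper17.O4
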