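import Mathlib
import Cfsg.Agent.Lib_helper17_O4c

set_option autoImplicit false

/-!
# Structure of `O(M₂(F), det)` by counting
-/

namespace Cfsg.Agent.helper17.O4

open Matrix

variable {F : Type*} [Field F]

theorem fst_eq_snd_of_phi_one {p : GL (Fin 2) F × GL (Fin 2) F}
    (h : ∀ X, phi p X = X) : p.1 = p.2 := by
  have h1 := h 1
  rw [phi_apply, mul_one] at h1
  have : p.1 * p.2⁻¹ = 1 := Units.ext (by rw [Units.val_mul, h1]; rfl)
  exact mul_inv_eq_one.mp this

theorem scalar_of_phi_one {p : GL (Fin 2) F × GL (Fin 2) F}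
    (h : ∀ X, phi p X = X) :
    ∃ c : F, (p.1 : Matrix (Fin 2) (Fin 2) F) = Matrix.scalar (Fin 2) c := by
  have h12 := fst_eq_snd_of_phi_one h
  have hcomm : ∀ X : Matrix (Fin 2) (Fin 2) F, Commute X (p.1 : Matrix (Fin 2) (Fin 2) F) := by
    intro X
    have hX := h X
    rw [phi_apply, ← h12] at hX
    have : (p.1 : Matrix (Fin 2) (Fin 2) F) * X = X * (p.1 : Matrix (Fin 2) (Fin 2) F) := by
      conv_rhs => rw [← hX]
      rw [mul_assoc, Units.inv_mul, mul_one]
    exact this.symm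
  obtain ⟨c, hc⟩ := Matrix.mem_range_scalar_of_commute_single (fun i j _ => hcomm (single i j 1))
  exact ⟨c, hc.symm⟩

theorem tau_ne_phi (p : GL (Fin 2) F × GL (Fin 2) F) : tau ≠ phi p := by
  intro h
  have hX : ∀ X, Xᵀ = phi p X := fun X => by rw [← h]; rfl
  have h1 := hX 1
  rw [phi_apply, mul_one, transpose_one] at h1
  have h12' : p.1 * p.2⁻¹ = 1 := Units.ext (by rw [Units.val_mul, ← h1]; rfl)
  have h12 : p.1 = p.2 := mul_inv_eq_one.mp h12'
  have hmul : ∀ X Y, phi p (X * Y) = phi p X * phi p Y := by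
    intro X Y
    rw [phi_apply, phi_apply, phi_apply, ← h12]
    have hAi' : ((p.1⁻¹ : GL (Fin 2) F) : Matrix (Fin 2) (Fin 2) F) * (p.1 : Matrix (Fin 2) (Fin 2) F) = 1 :=
      Units.inv_mul _
    generalize ((p.1⁻¹ : GL (Fin 2) F) : Matrix (Fin 2) (Fin 2) F) = Ai at hAi' ⊢
    have hAi : Ai * (p.1 : Matrix (Fin 2) (Fin 2) F) = 1 := hAi'
    have : (p.1 : Matrix (Fin 2) (Fin 2) F) * X * Ai * ((p.1 : Matrix (Fin 2) (Fin 2) F) * Y * Ai)
        = (p.1 : Matrix (Fin 2) (Fin 2) F) * X * (Ai * (p.1 : Matrix (Fin 2) (Fin 2) F)) * Y * Ai := by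
      simp only [mul_assoc]
    rw [this, hAi, mul_one, mul_assoc _ X Y]
  have := hmul !![0, 1; 0, 0] !![0, 0; 1, 0]
  rw [← hX, ← hX, ← hX] at this
  have h00 := congrFun (congrFun this 0) 0
  simp [Matrix.mul_apply, Fin.sum_univ_two] at h00

section count

variable [Fintype F]

theorem card_GL2 :
    Nat.card (GL (Fin 2) F) =
      (Fintype.card F ^ 2 - 1) * (Fintype.card F ^ 2 - Fintype.card F) := by
  rw [Matrix.card_GL_field, Fin.prod_univ_two]
  simp

theorem dq_surjective : Function.Surjective (dq (F := F)) := by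
  intro u
  obtain ⟨A, hA⟩ := Matrix.GeneralLinearGroup.det_surjective (n := Fin 2) (R := F) u
  exact ⟨(A, 1), by rw [dq_apply]; simp [hA]⟩

theorem card_Gam :
    Nat.card (Gam F) * (Fintype.card F - 1) = Nat.card (GL (Fin 2) F) ^ 2 := by
  have h1 := Subgroup.card_mul_index (Gam F)
  have h2 : (Gam F).index = Nat.card (dq (F := F)).range := Subgroup.index_ker _
  have h3 : (dq (F := F)).range = ⊤ := MonoidHom.range_eq_top.mpr dq_surjective
  classical
  rw [h2, h3, Subgroup.card_top, Nat.card_eq_fintype_card (α := Fˣ), Fintype.card_units,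
    Nat.card_prod] at h1
  rw [h1, sq]

/-- the kernel of `phi` has at most `q - 1` elements -/
theorem card_le_of_phi_one {G : Type*} [Group G] (f : G →* GL (Fin 2) F × GL (Fin 2) F)
    (hf : Function.Injective f) (hphi : ∀ x, ∀ X, phi (f x) X = X) :
    Nat.card G ≤ Fintype.card F - 1 := by
  classical
  have hne : ∀ x : G, ((f x).1 : Matrix (Fin 2) (Fin 2) F) 0 0 ≠ 0 := by
    intro x h0
    obtain ⟨c, hc⟩ := scalar_of_phi_one (hphi x)
    have hc0 : c = 0 := by
      rw [hc] at h0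
      simpa using h0
    have hdet := Matrix.GeneralLinearGroup.det_ne_zero (f x).1
    rw [hc, hc0] at hdet
    simp at hdet
  let κ : G → Fˣ := fun x => Units.mk0 _ (hne x)
  have hκ : Function.Injective κ := by
    intro x y hxy
    have hxy' : ((f x).1 : Matrix (Fin 2) (Fin 2) F) 0 0 = ((f y).1 : Matrix (Fin 2) (Fin 2) F) 0 0 :=
      congrArg Units.val hxy
    obtain ⟨c, hc⟩ := scalar_of_phi_one (hphi x)
    obtain ⟨d, hd⟩ := scalar_of_phi_one (hphi y)
    have hcd : c = d := by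
      rw [hc, hd] at hxy'
      simpa using hxy'
    have h1 : (f x).1 = (f y).1 := Units.ext (by rw [hc, hd, hcd])
    have h2 : (f x).2 = (f y).2 := by
      rw [← fst_eq_snd_of_phi_one (hphi x), ← fst_eq_snd_of_phi_one (hphi y), h1]
    exact hf (Prod.ext h1 h2)
  have := Nat.card_le_card_of_injective κ hκ
  rwa [Nat.card_eq_fintype_card (α := Fˣ), Fintype.card_units] at this

/-- `Γ → O(W)` -/
def phiG (F : Type*) [Field F] : Gam F →* OW F :=
  (phi.comp (Gam F).subtype).codRestrict (OW F) (fun p => phi_mem_OW p.2)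

theorem coe_phiG (p : Gam F) : ((phiG F p : OW F) :
    Matrix (Fin 2) (Fin 2) F ≃ₗ[F] Matrix (Fin 2) (Fin 2) F) = phi p.1 := rfl

theorem card_range_phiG_ge :
    Fintype.card F ^ 2 * (Fintype.card F ^ 2 - 1) ^ 2 ≤ Nat.card (phiG F).range := by
  have h1 := Subgroup.card_mul_index (phiG F).ker
  rw [Subgroup.index_ker] at h1
  have h2 : Nat.card (phiG F).ker ≤ Fintype.card F - 1 := by
    apply card_le_of_phi_one ((Gam F).subtype.comp (phiG F).ker.subtype)
    · exact (Subtype.val_injective).comp Subtype.val_injective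
    · intro x X
      have hx : phiG F x.1 = 1 := x.2
      have := congrArg (fun g : OW F => (g : Matrix (Fin 2) (Fin 2) F ≃ₗ[F] Matrix (Fin 2) (Fin 2) F) X) hx
      simpa [coe_phiG] using this
  have h3 := card_Gam (F := F)
  rw [card_GL2] at h3
  have hq : 2 ≤ Fintype.card F := Fintype.one_lt_card
  obtain ⟨q, hq'⟩ : ∃ q, Fintype.card F = q + 2 := ⟨Fintype.card F - 2, by omega⟩
  rw [hq'] at h2 h3 ⊢
  have e1 : (q + 2) ^ 2 - 1 = q ^ 2 + 4 * q + 3 := by
    have : (q + 2) ^ 2 = q ^ 2 + 4 * q + 3 + 1 := by ring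
    omega
  have e2 : (q + 2) ^ 2 - (q + 2) = (q + 2) * (q + 1) := by
    have : (q + 2) ^ 2 = (q + 2) * (q + 1) + (q + 2) := by ring
    omega
  have e3 : q + 2 - 1 = q + 1 := by omega
  rw [e1, e2, e3] at h3
  rw [e3] at h2
  rw [e1]
  set k := Nat.card (phiG F).ker with hk
  set r := Nat.card (phiG F).range with hr
  set γ := Nat.card (Gam F) with hγ
  -- γ = k * r, k ≤ q+1, γ (q+1) = ((q²+4q+3)(q+2)(q+1))²
  have h4 : k * r * (q + 1) = ((q ^ 2 + 4 * q + 3) * ((q + 2) * (q + 1))) ^ 2 := by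
    rw [h1]; exact h3
  have h5 : k * r * (q + 1) ≤ (q + 1) * r * (q + 1) := by
    apply Nat.mul_le_mul_right
    apply Nat.mul_le_mul_right
    exact h2
  rw [h4] at h5
  have h6 : ((q ^ 2 + 4 * q + 3) * ((q + 2) * (q + 1))) ^ 2
      = ((q + 2) ^ 2 * (q ^ 2 + 4 * q + 3) ^ 2) * ((q + 1) * (q + 1)) := by ring
  have h7 : (q + 1) * r * (q + 1) = r * ((q + 1) * (q + 1)) := by ring
  rw [h6, h7] at h5
  exact Nat.le_of_mul_le_mul_right h5 (by positivity)

/-- `τ` as an element of `O(W)` -/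
def tauO (F : Type*) [Field F] : OW F := ⟨tau, tau_mem_OW⟩

theorem tauO_not_mem : tauO F ∉ (phiG F).range := by
  rintro ⟨p, hp⟩
  have := congrArg (Subtype.val) hp
  rw [coe_phiG] at this
  exact tau_ne_phi p.1 this.symm

theorem finite_OW : Finite (OW F) := by
  apply Nat.finite_of_card_ne_zero
  rw [card_OW]
  have hq : 2 ≤ Fintype.card F := Fintype.one_lt_card
  have : 4 ≤ Fintype.card F ^ 2 := by nlinarith
  have : 0 < Fintype.card F ^ 2 - 1 := by omega
  positivity

theorem index_range_phiG : (phiG F).range.index = 2 := by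
  haveI := finite_OW (F := F)
  have h1 := Subgroup.card_mul_index (phiG F).range
  rw [card_OW] at h1
  have h2 := card_range_phiG_ge (F := F)
  have hpos : 0 < Fintype.card F ^ 2 * (Fintype.card F ^ 2 - 1) ^ 2 := by
    have hq : 2 ≤ Fintype.card F := Fintype.one_lt_card
    have : 4 ≤ Fintype.card F ^ 2 := by nlinarith
    have : 0 < Fintype.card F ^ 2 - 1 := by omega
    positivity
  set N := Fintype.card F ^ 2 * (Fintype.card F ^ 2 - 1) ^ 2 with hN
  set r := Nat.card (phiG F).range with hr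
  have h3 : (phiG F).range.index ≠ 1 := by
    intro h
    rw [Subgroup.index_eq_one] at h
    exact tauO_not_mem (F := F) (by rw [h]; trivial)
  have h4 : (phiG F).range.index ≠ 0 := Subgroup.index_ne_zero_of_finite
  have h5 : (phiG F).range.index ≤ 2 := by
    by_contra hcon
    push Not at hcon
    have : 3 * N ≤ r * (phiG F).range.index := Nat.mul_le_mul h2 hcon |>.trans' (by omega)
    omega
  omega

end count

end Cfsg.Agent.helper17.O4
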