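import Mathlib
import Cfsg.Prelude.Def_G2
import Cfsg.Agent.Lib_helper17_O4d

set_option autoImplicit false
set_option linter.unusedSectionVars false

/-!
# The split octonions as a Cayley–Dickson double of `M₂(F)`
-/

namespace Cfsg.Agent.helper17.G2S

open Matrix Cfsg.Lie

variable {F : Type*} [Field F]

/-- the coordinates of `x + y ℓ` -/
def PhiFun (p : Matrix (Fin 2) (Fin 2) F × Matrix (Fin 2) (Fin 2) F) : Fin 8 → F :=
  ![p.1 0 0, p.1 0 1, p.2 0 0, p.2 1 0, p.1 1 0, -p.2 1 1, p.2 0 1, p.1 1 1]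

/-- the inverse of `PhiFun` -/
def PhiInv (v : Fin 8 → F) : Matrix (Fin 2) (Fin 2) F × Matrix (Fin 2) (Fin 2) F :=
  (!![v 0, v 1; v 4, v 7], !![v 2, v 6; v 3, -v 5])

theorem PhiInv_PhiFun (p : Matrix (Fin 2) (Fin 2) F × Matrix (Fin 2) (Fin 2) F) :
    PhiInv (PhiFun p) = p := by
  apply Prod.ext
  · ext i j
    fin_cases i <;> fin_cases j <;> simp [PhiInv, PhiFun]
  · ext i j
    fin_cases i <;> fin_cases j <;> simp [PhiInv, PhiFun]

theorem PhiFun_PhiInv (v : Fin 8 → F) : PhiFun (PhiInv v) = v := by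
  ext i
  fin_cases i <;> simp [PhiInv, PhiFun]

/-- `Φ` as a linear equivalence -/
def Phi : (Matrix (Fin 2) (Fin 2) F × Matrix (Fin 2) (Fin 2) F) ≃ₗ[F] (Fin 8 → F) where
  toFun := PhiFun
  invFun := PhiInv
  map_add' p r := by
    ext i
    fin_cases i <;> simp [PhiFun] <;> ring
  map_smul' c p := by
    ext i
    fin_cases i <;> simp [PhiFun]
  left_inv := PhiInv_PhiFun
  right_inv := PhiFun_PhiInv

theorem Phi_apply (p : Matrix (Fin 2) (Fin 2) F × Matrix (Fin 2) (Fin 2) F) :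
    Phi p = PhiFun p := rfl

theorem Phi_symm_apply (v : Fin 8 → F) : Phi.symm v = PhiInv v := rfl

/-- the Cayley–Dickson product -/
def dmul (p r : Matrix (Fin 2) (Fin 2) F × Matrix (Fin 2) (Fin 2) F) :
    Matrix (Fin 2) (Fin 2) F × Matrix (Fin 2) (Fin 2) F :=
  (p.1 * r.1 - adjugate r.2 * p.2, r.2 * p.1 + p.2 * adjugate r.1)

theorem zornMul_Phi (p r : Matrix (Fin 2) (Fin 2) F × Matrix (Fin 2) (Fin 2) F) :
    zornMul (Phi p) (Phi r) = Phi (dmul p r) := by
  ext i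
  fin_cases i <;>
    simp [Phi_apply, PhiFun, zornMul, dmul, dot3, cross3, Matrix.mul_apply, Fin.sum_univ_two,
      adjugate_fin_two, vecMul, dotProduct] <;> ring

end Cfsg.Agent.helper17.G2S
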