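import Mathlib
import Cfsg.Agent.Lib_helper17_G2a

set_option autoImplicit false
set_option linter.unusedSectionVars false

/-!
# The automorphisms `(x, y) ↦ (A x A⁻¹, B y A⁻¹)` of the split octonions
-/

namespace Cfsg.Agent.helper17.G2S

open Matrix Cfsg.Lie Cfsg.Agent.helper17.O4

variable {F : Type*} [Field F]

local notation "M2" => Matrix (Fin 2) (Fin 2) F

/-- `θ(A,B) : (x,y) ↦ (A x A⁻¹, B y A⁻¹)` -/
def theta : GL (Fin 2) F × GL (Fin 2) F →* ((M2 × M2) ≃ₗ[F] (M2 × M2)) where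
  toFun p := (phi (p.1, p.1)).prodCongr (phi (p.2, p.1))
  map_one' := by
    apply LinearEquiv.ext
    intro z
    have h1 : ((1 : GL (Fin 2) F × GL (Fin 2) F).1, (1 : GL (Fin 2) F × GL (Fin 2) F).1) =
      (1 : GL (Fin 2) F × GL (Fin 2) F) := rfl
    have h2 : ((1 : GL (Fin 2) F × GL (Fin 2) F).2, (1 : GL (Fin 2) F × GL (Fin 2) F).1) =
      (1 : GL (Fin 2) F × GL (Fin 2) F) := rfl
    rw [h1, h2, map_one]
    rfl
  map_mul' p r := by
    apply LinearEquiv.ext
    intro z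
    have h1 : ((p * r).1, (p * r).1) = ((p.1, p.1) : GL (Fin 2) F × GL (Fin 2) F) * (r.1, r.1) := rfl
    have h2 : ((p * r).2, (p * r).1) = ((p.2, p.1) : GL (Fin 2) F × GL (Fin 2) F) * (r.2, r.1) := rfl
    rw [h1, h2, map_mul, map_mul]
    rfl

theorem theta_apply (p : GL (Fin 2) F × GL (Fin 2) F) (z : M2 × M2) :
    theta p z = ((p.1 : M2) * z.1 * ((p.1⁻¹ : GL (Fin 2) F) : M2),
      (p.2 : M2) * z.2 * ((p.1⁻¹ : GL (Fin 2) F) : M2)) := rfl

theorem adj_of_inv {A Ai : M2} (h : Ai * A = 1) : adjugate Ai = Ai.det • A := by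
  calc adjugate Ai = adjugate Ai * (Ai * A) := by rw [h, mul_one]
    _ = (adjugate Ai * Ai) * A := by rw [mul_assoc]
    _ = Ai.det • A := by rw [adjugate_mul, smul_mul_assoc, one_mul]

theorem adj_conj {A Ai : M2} (h1 : Ai * A = 1) (h2 : A * Ai = 1) (X : M2) :
    adjugate (A * X * Ai) = A * adjugate X * Ai := by
  have hd : Ai.det * A.det = 1 := by rw [← det_mul, h1, det_one]
  rw [adjugate_mul_distrib, adjugate_mul_distrib, adj_of_inv h1, adj_of_inv h2]
  rw [smul_mul_assoc, Matrix.mul_smul, Matrix.mul_smul, smul_smul, hd, one_smul, mul_assoc]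

theorem adj_mul_conj {A Ai B : M2} (h1 : Ai * A = 1) (hAB : A.det = B.det) (Y Z : M2) :
    adjugate (B * Y * Ai) * (B * Z * Ai) = A * (adjugate Y * Z) * Ai := by
  have hd : Ai.det * A.det = 1 := by rw [← det_mul, h1, det_one]
  rw [adjugate_mul_distrib, adjugate_mul_distrib, adj_of_inv h1]
  have e : Ai.det • A * (adjugate Y * adjugate B) * (B * Z * Ai)
      = Ai.det • (A * adjugate Y * (adjugate B * B) * Z * Ai) := by
    rw [smul_mul_assoc, smul_mul_assoc]
    simp only [mul_assoc]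
  rw [e, adjugate_mul, Matrix.mul_smul, smul_mul_assoc, smul_mul_assoc, smul_smul, ← hAB, hd,
    one_smul, mul_one]
  simp only [mul_assoc]

theorem theta_dmul {p : GL (Fin 2) F × GL (Fin 2) F} (hp : p ∈ Gam F) (a b : M2 × M2) :
    theta p (dmul a b) = dmul (theta p a) (theta p b) := by
  have hdet : (p.1 : M2).det = (p.2 : M2).det := by
    have := (mem_Gam_iff p).mp hp
    have h := congrArg (fun u : Fˣ => (u : F)) this
    simpa using h
  have h1 : ((p.1⁻¹ : GL (Fin 2) F) : M2) * (p.1 : M2) = 1 := Units.inv_mul _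
  have h2 : (p.1 : M2) * ((p.1⁻¹ : GL (Fin 2) F) : M2) = 1 := Units.mul_inv _
  rw [theta_apply, theta_apply, theta_apply]
  simp only [dmul]
  generalize ((p.1⁻¹ : GL (Fin 2) F) : M2) = Ai at h1 h2 ⊢
  generalize (p.1 : M2) = A at h1 h2 hdet ⊢
  generalize (p.2 : M2) = B at hdet ⊢
  apply Prod.ext
  · simp only
    rw [adj_mul_conj h1 hdet]
    have e : A * a.1 * Ai * (A * b.1 * Ai) = A * (a.1 * b.1) * Ai := by
      calc A * a.1 * Ai * (A * b.1 * Ai) = A * a.1 * (Ai * A) * b.1 * Ai := by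
            simp only [mul_assoc]
        _ = A * (a.1 * b.1) * Ai := by rw [h1, mul_one]; simp only [mul_assoc]
    rw [e, mul_sub, sub_mul]
  · simp only
    rw [adj_conj h1 h2]
    have e1 : B * b.2 * Ai * (A * a.1 * Ai) = B * (b.2 * a.1) * Ai := by
      calc B * b.2 * Ai * (A * a.1 * Ai) = B * b.2 * (Ai * A) * a.1 * Ai := by
            simp only [mul_assoc]
        _ = B * (b.2 * a.1) * Ai := by rw [h1, mul_one]; simp only [mul_assoc]
    have e2 : B * a.2 * Ai * (A * adjugate b.1 * Ai) = B * (a.2 * adjugate b.1) * Ai := by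
      calc B * a.2 * Ai * (A * adjugate b.1 * Ai) = B * a.2 * (Ai * A) * adjugate b.1 * Ai := by
            simp only [mul_assoc]
        _ = B * (a.2 * adjugate b.1) * Ai := by rw [h1, mul_one]; simp only [mul_assoc]
    rw [e1, e2, mul_add, add_mul]

/-- linear automorphisms of `F⁸` as elements of `GL₈(F)` -/
def toGL8 : ((Fin 8 → F) ≃ₗ[F] (Fin 8 → F)) →* GL (Fin 8) F where
  toFun e := ⟨LinearMap.toMatrix' (e : (Fin 8 → F) →ₗ[F] (Fin 8 → F)),
    LinearMap.toMatrix' (e.symm : (Fin 8 → F) →ₗ[F] (Fin 8 → F)),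
    by rw [← LinearMap.toMatrix'_comp]; simp,
    by rw [← LinearMap.toMatrix'_comp]; simp⟩
  map_one' := by
    apply Units.ext
    simp
  map_mul' e f := by
    apply Units.ext
    show LinearMap.toMatrix' ((e * f : (Fin 8 → F) ≃ₗ[F] (Fin 8 → F)) : (Fin 8 → F) →ₗ[F] (Fin 8 → F))
      = LinearMap.toMatrix' (e : (Fin 8 → F) →ₗ[F] (Fin 8 → F)) *
        LinearMap.toMatrix' (f : (Fin 8 → F) →ₗ[F] (Fin 8 → F))
    rw [← LinearMap.toMatrix'_comp]
    rfl

theorem toGL8_mulVec (e : (Fin 8 → F) ≃ₗ[F] (Fin 8 → F)) (v : Fin 8 → F) :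
    (Units.coeHom (Matrix (Fin 8) (Fin 8) F) (toGL8 e)) *ᵥ v = e v := by
  show LinearMap.toMatrix' (e : (Fin 8 → F) →ₗ[F] (Fin 8 → F)) *ᵥ v = e v
  rw [LinearMap.toMatrix'_mulVec]
  rfl

/-- the conjugate of `θ p` by `Φ` -/
def piLin : GL (Fin 2) F × GL (Fin 2) F →* ((Fin 8 → F) ≃ₗ[F] (Fin 8 → F)) where
  toFun p := (Phi.symm.trans (theta p)).trans Phi
  map_one' := by
    apply LinearEquiv.ext
    intro v
    rw [map_one]
    show Phi (Phi.symm v) = v
    rw [LinearEquiv.apply_symm_apply]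
  map_mul' p r := by
    apply LinearEquiv.ext
    intro v
    rw [map_mul]
    show Phi ((theta p * theta r) (Phi.symm v)) = Phi (theta p (Phi.symm (Phi (theta r (Phi.symm v)))))
    rw [LinearEquiv.symm_apply_apply]
    rfl

theorem piLin_Phi (p : GL (Fin 2) F × GL (Fin 2) F) (z : M2 × M2) :
    piLin p (Phi z) = Phi (theta p z) := by
  show Phi (theta p (Phi.symm (Phi z))) = _
  rw [LinearEquiv.symm_apply_apply]

/-- the homomorphism to `GL₈(F)` -/
def pi0 : GL (Fin 2) F × GL (Fin 2) F →* GL (Fin 8) F := toGL8.comp piLin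

theorem pi0_mulVec (p : GL (Fin 2) F × GL (Fin 2) F) (z : M2 × M2) :
    (Units.coeHom (Matrix (Fin 8) (Fin 8) F) (pi0 p)) *ᵥ (Phi z) = Phi (theta p z) := by
  show (Units.coeHom (Matrix (Fin 8) (Fin 8) F) (toGL8 (piLin p))) *ᵥ (Phi z) = _
  rw [toGL8_mulVec, piLin_Phi]

theorem pi0_mem_G2 {p : GL (Fin 2) F × GL (Fin 2) F} (hp : p ∈ Gam F) : pi0 p ∈ G2 F := by
  intro u v
  obtain ⟨a, rfl⟩ := (Phi (F := F)).surjective u
  obtain ⟨b, rfl⟩ := (Phi (F := F)).surjective v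
  rw [zornMul_Phi, pi0_mulVec, pi0_mulVec, pi0_mulVec, zornMul_Phi, theta_dmul hp]

/-- the homomorphism `Γ → G₂(F)` -/
def piG (F : Type*) [Field F] : Gam F →* G2 F :=
  (pi0.comp (Gam F).subtype).codRestrict (G2 F) (fun p => pi0_mem_G2 p.2)

theorem coe_piG (p : Gam F) : ((piG F p : G2 F) : GL (Fin 8) F) = pi0 p.1 := rfl

end Cfsg.Agent.helper17.G2S
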