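import Mathlib

set_option autoImplicit false
set_option linter.unusedSectionVars false

/-!
# Multiplicative linear bijections of a matrix algebra are inner
-/

namespace Cfsg.Agent.helper17.G2S

open Matrix

variable {F : Type*} [Field F] {n : Type*} [Fintype n] [DecidableEq n]

theorem skolem_noether (φ : Matrix n n F →ₗ[F] Matrix n n F)
    (hmul : ∀ x y, φ (x * y) = φ x * φ y) (hinj : Function.Injective φ) :
    ∃ A : GL n F, ∀ x, φ x = (A : Matrix n n F) * x * ((A⁻¹ : GL n F) : Matrix n n F) := by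
  have hsurj : Function.Surjective φ := LinearMap.surjective_of_injective hinj
  have hone : φ 1 = 1 := by
    obtain ⟨e, he⟩ := hsurj 1
    calc φ 1 = φ 1 * φ e := by rw [he, mul_one]
      _ = φ (1 * e) := (hmul 1 e).symm
      _ = 1 := by rw [one_mul, he]
  let φA : Matrix n n F ≃ₐ[F] Matrix n n F :=
    AlgEquiv.ofBijective (AlgHom.ofLinearMap φ hone hmul) ⟨hinj, hsurj⟩
  have hφA : ∀ x, φA x = φ x := fun x => rfl
  let f : Module.End F (n → F) ≃ₐ[F] Module.End F (n → F) :=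
    (Matrix.toLinAlgEquiv'.symm.trans φA).trans Matrix.toLinAlgEquiv'
  obtain ⟨T, hT⟩ := f.eq_linearEquivConjAlgEquiv
  have key : ∀ x : Matrix n n F, φ x =
      LinearMap.toMatrix' (T : (n → F) →ₗ[F] (n → F)) * x *
        LinearMap.toMatrix' (T.symm : (n → F) →ₗ[F] (n → F)) := by
    intro x
    have h1 : f (Matrix.toLinAlgEquiv' x) = Matrix.toLinAlgEquiv' (φ x) := by
      show Matrix.toLinAlgEquiv' (φA (Matrix.toLinAlgEquiv'.symm (Matrix.toLinAlgEquiv' x))) = _
      rw [AlgEquiv.symm_apply_apply, hφA]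
    rw [hT, LinearEquiv.conjAlgEquiv_apply] at h1
    have h2 := congrArg LinearMap.toMatrixAlgEquiv' h1
    rw [LinearMap.toMatrixAlgEquiv'_toLinAlgEquiv', LinearMap.toMatrixAlgEquiv'_comp,
      LinearMap.toMatrixAlgEquiv'_comp, LinearMap.toMatrixAlgEquiv'_toLinAlgEquiv'] at h2
    rw [← h2, mul_assoc]
    rfl
  have hinv1 : LinearMap.toMatrix' (T : (n → F) →ₗ[F] (n → F)) *
      LinearMap.toMatrix' (T.symm : (n → F) →ₗ[F] (n → F)) = 1 := by
    rw [← LinearMap.toMatrix'_comp]; simp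
  have hinv2 : LinearMap.toMatrix' (T.symm : (n → F) →ₗ[F] (n → F)) *
      LinearMap.toMatrix' (T : (n → F) →ₗ[F] (n → F)) = 1 := by
    rw [← LinearMap.toMatrix'_comp]; simp
  exact ⟨⟨_, _, hinv1, hinv2⟩, key⟩

end Cfsg.Agent.helper17.G2S
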