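import Mathlib
import Cfsg.Agent.Lib_helper17_G2b
import Cfsg.Agent.Lib_helper17_G2c

set_option autoImplicit false
set_option linter.unusedSectionVars false

/-!
# Kernel of `π` and the centralizer of the involution `t₀`
-/

namespace Cfsg.Agent.helper17.G2S

open Matrix Cfsg.Lie Cfsg.Agent.helper17.O4

variable {F : Type*} [Field F]

local notation "M2" => Matrix (Fin 2) (Fin 2) F

theorem pi0_eq_iff (p r : GL (Fin 2) F × GL (Fin 2) F) :
    pi0 p = pi0 r ↔ ∀ z, theta p z = theta r z := by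
  constructor
  · intro h z
    apply (Phi (F := F)).injective
    rw [← pi0_mulVec, ← pi0_mulVec, h]
  · intro h
    apply Units.ext
    apply Matrix.toLin'.injective
    apply LinearMap.ext
    intro v
    obtain ⟨z, rfl⟩ := (Phi (F := F)).surjective v
    rw [Matrix.toLin'_apply, Matrix.toLin'_apply]
    have h1 := pi0_mulVec p z
    have h2 := pi0_mulVec r z
    rw [Units.coeHom_apply] at h1 h2
    rw [h1, h2, h]

theorem pi0_eq_one_iff (p : GL (Fin 2) F × GL (Fin 2) F) :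
    pi0 p = 1 ↔ p.1 = p.2 ∧ ∃ c : F, (p.1 : M2) = Matrix.scalar (Fin 2) c := by
  rw [← map_one pi0, pi0_eq_iff]
  constructor
  · intro h
    have h1 : ∀ X, phi (p.1, p.1) X = X := by
      intro X
      have := congrArg Prod.fst (h (X, 0))
      rw [map_one] at this
      exact this
    have h2 : ∀ X, phi (p.2, p.1) X = X := by
      intro X
      have := congrArg Prod.snd (h (0, X))
      rw [map_one] at this
      exact this
    refine ⟨(fst_eq_snd_of_phi_one h2).symm, ?_⟩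
    exact scalar_of_phi_one (p := (p.1, p.1)) h1
  · rintro ⟨h12, c, hc⟩ z
    rw [map_one, theta_apply, ← h12]
    have hcomm : ∀ X : M2, (p.1 : M2) * X = X * (p.1 : M2) := by
      intro X
      rw [hc]
      exact (Matrix.scalar_commute c (fun r' => mul_comm _ _) X).eq
    apply Prod.ext
    · show (p.1 : M2) * z.1 * ((p.1⁻¹ : GL (Fin 2) F) : M2) = z.1
      rw [hcomm, mul_assoc, Units.mul_inv, mul_one]
    · show (p.1 : M2) * z.2 * ((p.1⁻¹ : GL (Fin 2) F) : M2) = z.2
      rw [hcomm, mul_assoc, Units.mul_inv, mul_one]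

/-- the pair `(1, -1)` -/
def k0 (F : Type*) [Field F] : Gam F :=
  ⟨(1, -1), by rw [mem_Gam_iff]; ext; simp [Matrix.det_neg]⟩

/-- the involution `t₀` -/
def t0 (F : Type*) [Field F] : G2 F := piG F (k0 F)

theorem theta_k0 (z : M2 × M2) : theta (k0 F).1 z = (z.1, -z.2) := by
  rw [theta_apply]
  simp [k0]

/-- the converse: everything commuting with `t₀` comes from `Γ` -/
theorem mem_range_of_commute (h2 : (2 : F) ≠ 0) (g : G2 F) (hg : g * t0 F = t0 F * g) :
    g ∈ (piG F).range := by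
  set gM : Matrix (Fin 8) (Fin 8) F := ((g : GL (Fin 8) F) : Matrix (Fin 8) (Fin 8) F) with hgM
  -- the conjugated linear map
  let ψ : (M2 × M2) →ₗ[F] (M2 × M2) :=
    (Phi (F := F)).symm.toLinearMap ∘ₗ (Matrix.toLin' gM) ∘ₗ (Phi (F := F)).toLinearMap
  have hψ : ∀ z, Phi (ψ z) = gM *ᵥ Phi z := by
    intro z
    show Phi (Phi.symm (Matrix.toLin' gM (Phi z))) = _
    rw [LinearEquiv.apply_symm_apply, Matrix.toLin'_apply]
  have hψmul : ∀ a b, ψ (dmul a b) = dmul (ψ a) (ψ b) := by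
    intro a b
    apply (Phi (F := F)).injective
    rw [hψ, ← zornMul_Phi, ← zornMul_Phi, hψ, hψ]
    exact g.2 (Phi a) (Phi b)
  have hψinj : Function.Injective ψ := by
    intro a b hab
    have h1 : gM *ᵥ Phi a = gM *ᵥ Phi b := by rw [← hψ, ← hψ, hab]
    have h3 : ((g⁻¹ : G2 F) : GL (Fin 8) F).1 * gM = 1 := by
      rw [Subgroup.coe_inv]
      exact Units.inv_mul _
    have h4 := congrArg (fun v => ((g⁻¹ : G2 F) : GL (Fin 8) F).1 *ᵥ v) h1
    simp only [Matrix.mulVec_mulVec, h3, Matrix.one_mulVec] at h4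
    exact (Phi (F := F)).injective h4
  -- commutation with `t₀`
  have hcomm : ∀ z : M2 × M2, ψ (z.1, -z.2) = ((ψ z).1, -(ψ z).2) := by
    intro z
    apply (Phi (F := F)).injective
    have e1 : ((g * t0 F : G2 F) : GL (Fin 8) F).1 *ᵥ Phi z = Phi (ψ (z.1, -z.2)) := by
      rw [hψ, ← theta_k0, ← pi0_mulVec]
      rw [Subgroup.coe_mul, Units.val_mul, ← Matrix.mulVec_mulVec]
      rfl
    have e2 : ((t0 F * g : G2 F) : GL (Fin 8) F).1 *ᵥ Phi z = Phi ((ψ z).1, -(ψ z).2) := by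
      rw [← theta_k0, ← pi0_mulVec, hψ]
      rw [Subgroup.coe_mul, Units.val_mul, ← Matrix.mulVec_mulVec]
      rfl
    rw [← e1, ← e2, hg]
  have hx2 : ∀ x : M2, (ψ (x, 0)).2 = 0 := by
    intro x
    have h := congrArg Prod.snd (hcomm (x, 0))
    simp only [neg_zero] at h
    have h3 : (2 : F) • (ψ (x, 0)).2 = 0 := by
      rw [two_smul]
      nth_rewrite 1 [h]
      exact neg_add_cancel _
    exact (smul_eq_zero.mp h3).resolve_left h2
  have hy1 : ∀ y : M2, (ψ (0, y)).1 = 0 := by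
    intro y
    have h := congrArg Prod.fst (hcomm (0, y))
    simp only at h
    have h4 : ψ (0, -y) = -ψ (0, y) := by
      rw [← map_neg]
      congr 1
      ext <;> simp
    rw [h4] at h
    have h5 : (-ψ (0, y)).1 = -(ψ (0, y)).1 := rfl
    rw [h5] at h
    have h3 : (2 : F) • (ψ (0, y)).1 = 0 := by
      rw [two_smul]
      nth_rewrite 1 [← h]
      exact neg_add_cancel _
    exact (smul_eq_zero.mp h3).resolve_left h2
  -- the two components
  let φ₁ : M2 →ₗ[F] M2 := (LinearMap.fst F M2 M2) ∘ₗ ψ ∘ₗ (LinearMap.inl F M2 M2)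
  let φ₂ : M2 →ₗ[F] M2 := (LinearMap.snd F M2 M2) ∘ₗ ψ ∘ₗ (LinearMap.inr F M2 M2)
  have hφ₁ : ∀ x, ψ (x, 0) = (φ₁ x, 0) := by
    intro x
    apply Prod.ext
    · rfl
    · exact hx2 x
  have hφ₂ : ∀ y, ψ (0, y) = (0, φ₂ y) := by
    intro y
    apply Prod.ext
    · exact hy1 y
    · rfl
  have hψz : ∀ z : M2 × M2, ψ z = (φ₁ z.1, φ₂ z.2) := by
    intro z
    have : z = (z.1, 0) + (0, z.2) := by ext <;> simp
    rw [this, map_add, hφ₁, hφ₂]
    simp
  have hφ₁mul : ∀ x x', φ₁ (x * x') = φ₁ x * φ₁ x' := by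
    intro x x'
    have h := hψmul (x, 0) (x', 0)
    rw [hφ₁, hφ₁] at h
    have h' : dmul ((x, 0) : M2 × M2) (x', 0) = (x * x', 0) := by
      simp [dmul]
    rw [h', hφ₁] at h
    have := congrArg Prod.fst h
    simpa [dmul] using this
  have hφ₁inj : Function.Injective φ₁ := by
    intro x x' hxx
    have : ψ (x, 0) = ψ (x', 0) := by rw [hφ₁, hφ₁, hxx]
    have := hψinj this
    exact congrArg Prod.fst this
  have hφ₂mul : ∀ x y', φ₂ (y' * x) = φ₂ y' * φ₁ x := by
    intro x y'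
    have h := hψmul (x, 0) (0, y')
    rw [hφ₁, hφ₂] at h
    have h' : dmul ((x, 0) : M2 × M2) (0, y') = (0, y' * x) := by
      simp [dmul]
    rw [h', hφ₂] at h
    have := congrArg Prod.snd h
    simpa [dmul] using this
  have hφ₁adj : ∀ y y', φ₁ (-(adjugate y' * y)) = -(adjugate (φ₂ y') * φ₂ y) := by
    intro y y'
    have h := hψmul (0, y) (0, y')
    rw [hφ₂, hφ₂] at h
    have h' : dmul ((0, y) : M2 × M2) (0, y') = (-(adjugate y' * y), 0) := by
      simp [dmul]
    rw [h', hφ₁] at h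
    have := congrArg Prod.fst h
    simpa [dmul] using this
  obtain ⟨A, hA⟩ := skolem_noether φ₁ hφ₁mul hφ₁inj
  have hφ₁one : φ₁ 1 = 1 := by rw [hA, mul_one, Units.mul_inv]
  set D₀ : M2 := φ₂ 1 with hD₀
  have hφ₂eq : ∀ y, φ₂ y = D₀ * φ₁ y := by
    intro y
    have := hφ₂mul y 1
    rwa [one_mul] at this
  have hD₀det : D₀.det = 1 := by
    have h := hφ₁adj 1 1
    rw [adjugate_one, one_mul, map_neg, hφ₁one, neg_inj, adjugate_mul] at h
    have h00 := congrFun (congrFun h 0) 0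
    simpa using h00.symm
  have hBunit : IsUnit (D₀ * (A : M2)).det := by
    rw [det_mul, hD₀det, one_mul]
    exact (Matrix.isUnits_det_units A)
  let B : GL (Fin 2) F := (Matrix.isUnit_iff_isUnit_det _).mpr hBunit |>.unit
  have hB : (B : M2) = D₀ * (A : M2) := IsUnit.unit_spec _
  have hAB : (A, B) ∈ Gam F := by
    rw [mem_Gam_iff]
    ext
    show (A : M2).det = (B : M2).det
    rw [hB, det_mul, hD₀det, one_mul]
  refine ⟨⟨(A, B), hAB⟩, ?_⟩
  apply Subtype.ext
  rw [coe_piG]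
  apply Units.ext
  apply Matrix.toLin'.injective
  apply LinearMap.ext
  intro v
  obtain ⟨z, rfl⟩ := (Phi (F := F)).surjective v
  rw [Matrix.toLin'_apply, Matrix.toLin'_apply]
  have h1 := pi0_mulVec (A, B) z
  rw [Units.coeHom_apply] at h1
  rw [h1]
  show _ = gM *ᵥ Phi z
  rw [← hψ, hψz, theta_apply]
  congr 1
  apply Prod.ext
  · show (A : M2) * z.1 * ((A⁻¹ : GL (Fin 2) F) : M2) = φ₁ z.1
    rw [hA]
  · show (B : M2) * z.2 * ((A⁻¹ : GL (Fin 2) F) : M2) = φ₂ z.2
    rw [hφ₂eq, hA, hB]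
    simp only [mul_assoc]

end Cfsg.Agent.helper17.G2S
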