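import Mathlib
import Cfsg.Agent.Lib_helper17_G2d
import Cfsg.Agent.Lib_helper12_Card

set_option autoImplicit false
set_option linter.unusedSectionVars false

/-!
# The order of the image of `Γ` in `G₂(F)`
-/

namespace Cfsg.Agent.helper17.G2S

open Matrix Cfsg.Lie Cfsg.Agent.helper17.O4

variable {F : Type*} [Field F]

local notation "M2" => Matrix (Fin 2) (Fin 2) F

/-- scalar matrices -/
def sc : Fˣ →* GL (Fin 2) F := Units.map (Matrix.scalar (Fin 2)).toMonoidHom

theorem coe_sc (u : Fˣ) : ((sc u : GL (Fin 2) F) : M2) = Matrix.scalar (Fin 2) (u : F) := rfl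

/-- the diagonal scalar pairs -/
def zdiag (F : Type*) [Field F] : Fˣ →* Gam F where
  toFun u := ⟨(sc u, sc u), by rw [mem_Gam_iff]⟩
  map_one' := by
    apply Subtype.ext
    simp
  map_mul' u v := by
    apply Subtype.ext
    simp

theorem zdiag_injective : Function.Injective (zdiag F) := by
  intro u v h
  have h1 : ((sc u : GL (Fin 2) F) : M2) = ((sc v : GL (Fin 2) F) : M2) := by
    have := congrArg (fun p : Gam F => ((p.1.1 : GL (Fin 2) F) : M2)) h
    exact this
  rw [coe_sc, coe_sc] at h1
  have h2 := congrFun (congrFun h1 0) 0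
  simp at h2
  exact Units.ext h2

theorem piG_eq_one_iff (p : Gam F) :
    piG F p = 1 ↔ p.1.1 = p.1.2 ∧ ∃ c : F, (p.1.1 : M2) = Matrix.scalar (Fin 2) c := by
  rw [← pi0_eq_one_iff]
  constructor
  · intro h
    have := congrArg (fun g : G2 F => (g : GL (Fin 8) F)) h
    simpa [coe_piG] using this
  · intro h
    apply Subtype.ext
    rw [coe_piG, h]
    rfl

theorem ker_piG : (piG F).ker = (zdiag F).range := by
  ext p
  rw [MonoidHom.mem_ker, piG_eq_one_iff]
  constructor
  · rintro ⟨h12, c, hc⟩
    have hc0 : c ≠ 0 := by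
      intro h0
      have hdet := Matrix.GeneralLinearGroup.det_ne_zero p.1.1
      rw [hc, h0] at hdet
      simp at hdet
    refine ⟨Units.mk0 c hc0, ?_⟩
    apply Subtype.ext
    have e1 : sc (Units.mk0 c hc0) = p.1.1 := by
      apply Units.ext
      rw [coe_sc, hc]
      rfl
    apply Prod.ext
    · exact e1
    · show sc (Units.mk0 c hc0) = p.1.2
      rw [e1, h12]
  · rintro ⟨u, rfl⟩
    exact ⟨rfl, (u : F), rfl⟩

variable [Fintype F]

theorem card_ker_piG : Nat.card (piG F).ker = Fintype.card F - 1 := by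
  classical
  rw [ker_piG, Nat.card_congr (MonoidHom.ofInjective zdiag_injective).symm.toEquiv,
    Nat.card_eq_fintype_card, Fintype.card_units]

theorem card_range_piG :
    Nat.card (piG F).range = Nat.card (Matrix.SpecialLinearGroup (Fin 2) F) ^ 2 := by
  have h1 := Subgroup.card_mul_index (piG F).ker
  rw [Subgroup.index_ker, card_ker_piG] at h1
  have h2 := card_Gam (F := F)
  have h3 := Cfsg.Agent.helper12.card_GL_eq_card_SL_mul (F := F) 2 (by norm_num)
  rw [h3, ← h1] at h2
  have hq : 0 < Fintype.card F - 1 := by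
    have : 2 ≤ Fintype.card F := Fintype.one_lt_card
    omega
  have h4 : Nat.card (piG F).range * ((Fintype.card F - 1) * (Fintype.card F - 1)) =
      Nat.card (Matrix.SpecialLinearGroup (Fin 2) F) ^ 2 * ((Fintype.card F - 1) * (Fintype.card F - 1)) := by
    have : Nat.card (Matrix.SpecialLinearGroup (Fin 2) F) ^ 2 * ((Fintype.card F - 1) * (Fintype.card F - 1))
        = (Nat.card (Matrix.SpecialLinearGroup (Fin 2) F) * (Fintype.card F - 1)) ^ 2 := by ring
    rw [this, ← h2]; ring
  exact Nat.eq_of_mul_eq_mul_right (Nat.mul_pos hq hq) h4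

end Cfsg.Agent.helper17.G2S
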