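import Mathlib
import Cfsg.Agent.S0245
import Cfsg.Agent.Lib_helper12_Card

set_option autoImplicit false

/-!
# 2-adic valuation of `|Sp_{2n}(q)|`, `q` odd
-/

namespace Cfsg.Agent.helper17.SpR

instance fact_two_prime : Fact (Nat.Prime 2) := ⟨Nat.prime_two⟩

/-- the constant `v₂(q²-1)` -/
def cc (q : ℕ) : ℕ := padicValNat 2 (q + 1) + padicValNat 2 (q - 1)

theorem val_pow {q : ℕ} (hq : Odd q) (hq1 : 1 < q) {k : ℕ} (hk : k ≠ 0) :
    padicValNat 2 (q ^ (2 * k) - 1) = cc q + padicValNat 2 k := by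
  have h2 : ¬ 2 ∣ q := by
    intro h
    rcases hq with ⟨m, hm⟩
    omega
  have h3 : 2 ∣ q - 1 := by
    rcases hq with ⟨m, hm⟩
    omega
  have h := padicValNat.pow_two_sub_pow hq1 h3 h2 (n := 2 * k) (by omega) ⟨k, by ring⟩
  rw [one_pow, padicValNat.mul (by norm_num) hk, padicValNat_self] at h
  unfold cc
  omega

theorem pow_sub_one_ne_zero {q : ℕ} (hq1 : 1 < q) {k : ℕ} (hk : k ≠ 0) : q ^ k - 1 ≠ 0 := by
  have := Nat.one_lt_pow hk hq1
  omega

theorem val_prod {q : ℕ} (hq : Odd q) (hq1 : 1 < q) (n : ℕ) :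
    padicValNat 2 (∏ i ∈ Finset.range n, (q ^ (2 * (i + 1)) - 1)) =
      n * cc q + padicValNat 2 (n.factorial) := by
  induction n with
  | zero => simp
  | succ n ih =>
    have hne : (∏ i ∈ Finset.range n, (q ^ (2 * (i + 1)) - 1)) ≠ 0 := by
      rw [Finset.prod_ne_zero_iff]
      intro i _
      exact pow_sub_one_ne_zero hq1 (by omega)
    rw [Finset.prod_range_succ, padicValNat.mul hne (pow_sub_one_ne_zero hq1 (by omega)), ih,
      val_pow hq hq1 (by omega), Nat.factorial_succ,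
      padicValNat.mul (by omega) (Nat.factorial_ne_zero n)]
    ring

theorem val_Sp {F : Type*} [Field F] [Fintype F] (hF : Odd (Fintype.card F)) (n : ℕ) :
    (Nat.card (Matrix.symplecticGroup (Fin n) F)).factorization 2 =
      n * cc (Fintype.card F) + padicValNat 2 (n.factorial) := by
  have hq1 : 1 < Fintype.card F := Fintype.one_lt_card
  have h2 : ¬ 2 ∣ Fintype.card F := by
    intro h
    rcases hF with ⟨m, hm⟩
    omega
  have hne : (∏ i ∈ Finset.range n, (Fintype.card F ^ (2 * (i + 1)) - 1)) ≠ 0 := by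
    rw [Finset.prod_ne_zero_iff]
    intro i _
    exact pow_sub_one_ne_zero hq1 (by omega)
  rw [Cfsg.Agent.S0245.result rfl n, Nat.factorization_def _ Nat.prime_two,
    padicValNat.mul (pow_ne_zero _ (by omega)) hne, padicValNat.pow,
    padicValNat.eq_zero_of_not_dvd h2, mul_zero, zero_add, val_prod hF hq1]

theorem val_SL2 {F : Type*} [Field F] [Fintype F] (hF : Odd (Fintype.card F)) (n : ℕ) :
    (Nat.card (Matrix.SpecialLinearGroup (Fin 2) F) ^ n * n.factorial).factorization 2 =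
      n * cc (Fintype.card F) + padicValNat 2 (n.factorial) := by
  have hq1 : 1 < Fintype.card F := Fintype.one_lt_card
  have h2 : ¬ 2 ∣ Fintype.card F := by
    intro h
    rcases hF with ⟨m, hm⟩
    omega
  have h3 : Fintype.card F ^ 2 - 1 ≠ 0 := pow_sub_one_ne_zero hq1 (by norm_num)
  have h4 := val_pow hF hq1 (k := 1) one_ne_zero
  rw [mul_one, padicValNat.one, add_zero] at h4
  rw [Cfsg.Agent.helper12.card_SL2, Nat.factorization_def _ Nat.prime_two,
    padicValNat.mul (pow_ne_zero _ (mul_ne_zero (by omega) h3)) (Nat.factorial_ne_zero n),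
    padicValNat.pow, padicValNat.mul (by omega) h3, padicValNat.eq_zero_of_not_dvd h2, zero_add, h4]

/-- a number sandwiched between `|SL₂|^n n!` and `|Sp_{2n}|` has the same 2-part -/
theorem val_sandwich {F : Type*} [Field F] [Fintype F] (hF : Odd (Fintype.card F)) (n m : ℕ)
    (h1 : Nat.card (Matrix.SpecialLinearGroup (Fin 2) F) ^ n * n.factorial ∣ m)
    (h2 : m ∣ Nat.card (Matrix.symplecticGroup (Fin n) F)) :
    m.factorization 2 = (Nat.card (Matrix.symplecticGroup (Fin n) F)).factorization 2 := by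
  have hG : Nat.card (Matrix.symplecticGroup (Fin n) F) ≠ 0 := Nat.card_pos.ne'
  have hm : m ≠ 0 := fun h => hG (by rw [h] at h2; exact Nat.eq_zero_of_zero_dvd h2)
  have ha : Nat.card (Matrix.SpecialLinearGroup (Fin 2) F) ^ n * n.factorial ≠ 0 :=
    mul_ne_zero (pow_ne_zero _ Nat.card_pos.ne') (Nat.factorial_ne_zero n)
  have h3 := (Nat.factorization_le_iff_dvd ha hm).mpr h1 2
  have h4 := (Nat.factorization_le_iff_dvd hm hG).mpr h2 2
  rw [val_SL2 hF] at h3
  rw [val_Sp hF] at h4 ⊢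
  omega

end Cfsg.Agent.helper17.SpR
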