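import Mathlib
import Cfsg.Agent.Lib_helper17_SpR2

set_option autoImplicit false

/-!
# 2-adic valuation of `|GL_n(q)|`, `q` odd
-/

namespace Cfsg.Agent.helper17.GLR

open Cfsg.Agent.helper17.SpR (cc val_pow pow_sub_one_ne_zero fact_two_prime)

theorem geom (r i : ℕ) : r * ∑ j ∈ Finset.range i, (r + 1) ^ j + 1 = (r + 1) ^ i := by
  induction i with
  | zero => simp
  | succ i ih =>
    rw [Finset.sum_range_succ, mul_add, pow_succ]
    linear_combination ih

theorem geom_parity {q : ℕ} (hq : q % 2 = 1) (i : ℕ) :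
    (∑ j ∈ Finset.range i, q ^ j) % 2 = i % 2 := by
  induction i with
  | zero => simp
  | succ i ih =>
    have h1 : q ^ i % 2 = 1 := by rw [Nat.pow_mod, hq, one_pow]; rfl
    rw [Finset.sum_range_succ, Nat.add_mod, ih, h1]
    omega

theorem val_odd_pow {q : ℕ} (hq : Odd q) (hq1 : 1 < q) {i : ℕ} (hi : Odd i) :
    padicValNat 2 (q ^ i - 1) = padicValNat 2 (q - 1) := by
  obtain ⟨r, rfl⟩ : ∃ r, q = r + 1 := ⟨q - 1, by omega⟩
  have h1 := geom r i
  have h2 : (r + 1) ^ i - 1 = r * ∑ j ∈ Finset.range i, (r + 1) ^ j := by omega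
  have hq2 : (r + 1) % 2 = 1 := Nat.odd_iff.mp hq
  have h3 := geom_parity hq2 i
  rw [Nat.odd_iff.mp hi] at h3
  have h4 : ¬ 2 ∣ ∑ j ∈ Finset.range i, (r + 1) ^ j := by omega
  have h5 : ∑ j ∈ Finset.range i, (r + 1) ^ j ≠ 0 := by
    intro h; rw [h] at h4; exact h4 (dvd_zero _)
  rw [h2, padicValNat.mul (by omega) h5, padicValNat.eq_zero_of_not_dvd h4, add_zero,
    Nat.add_sub_cancel]

/-- `g q j = v₂(q^(j+1) - 1)` -/
def gg (q j : ℕ) : ℕ := padicValNat 2 (q ^ (j + 1) - 1)

/-- `ff q n = v₂ |GL_n(q)|` -/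
def ff (q n : ℕ) : ℕ := ∑ j ∈ Finset.range n, gg q j

theorem val_GL {F : Type*} [Field F] [Fintype F] (hF : Odd (Fintype.card F)) (n : ℕ) :
    (Nat.card (Matrix.GeneralLinearGroup (Fin n) F)).factorization 2 = ff (Fintype.card F) n := by
  have hq1 : 1 < Fintype.card F := Fintype.one_lt_card
  have h2 : ¬ 2 ∣ Fintype.card F := by
    intro h
    rcases hF with ⟨m, hm⟩
    omega
  rw [Matrix.card_GL_field, Fin.prod_univ_eq_prod_range (fun i => Fintype.card F ^ n -
    Fintype.card F ^ i) n]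
  have hfac : ∀ i ∈ Finset.range n, Fintype.card F ^ n - Fintype.card F ^ i =
      Fintype.card F ^ i * (Fintype.card F ^ ((n - 1 - i) + 1) - 1) := by
    intro i hi
    have hi' := Finset.mem_range.mp hi
    rw [Nat.mul_sub, mul_one, ← pow_add]
    congr 2
    omega
  have hne : ∀ i ∈ Finset.range n, Fintype.card F ^ n - Fintype.card F ^ i ≠ 0 := by
    intro i hi
    rw [hfac i hi]
    exact mul_ne_zero (pow_ne_zero _ (by omega)) (pow_sub_one_ne_zero hq1 (by omega))
  rw [Nat.factorization_prod_apply hne]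
  unfold ff
  rw [← Finset.sum_range_reflect (gg (Fintype.card F)) n]
  apply Finset.sum_congr rfl
  intro i hi
  rw [hfac i hi, Nat.factorization_def _ Nat.prime_two,
    padicValNat.mul (pow_ne_zero _ (by omega)) (pow_sub_one_ne_zero hq1 (by omega)),
    padicValNat.pow, padicValNat.eq_zero_of_not_dvd h2, mul_zero, zero_add]
  rfl

theorem sum_val_succ (n : ℕ) :
    ∑ j ∈ Finset.range n, padicValNat 2 (j + 1) = padicValNat 2 n.factorial := by
  induction n with
  | zero => simp
  | succ n ih =>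
    rw [Finset.sum_range_succ, ih, Nat.factorial_succ,
      padicValNat.mul (by omega) (Nat.factorial_ne_zero n)]
    ring

theorem val_two_mul_odd {x : ℕ} (h : x % 4 = 2) : padicValNat 2 x = 1 := by
  obtain ⟨y, rfl⟩ : ∃ y, x = 2 * y := ⟨x / 2, by omega⟩
  have hy : ¬ 2 ∣ y := by omega
  have hy0 : y ≠ 0 := by omega
  rw [padicValNat.mul (by norm_num) hy0, padicValNat_self, padicValNat.eq_zero_of_not_dvd hy]

/-- case `q ≡ 1 (mod 4)` -/
theorem gg_one {q : ℕ} (hq : q % 4 = 1) (hq1 : 1 < q) (j : ℕ) :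
    gg q j = padicValNat 2 (q - 1) + padicValNat 2 (j + 1) := by
  have hodd : Odd q := Nat.odd_iff.mpr (by omega)
  unfold gg
  rcases Nat.even_or_odd (j + 1) with ⟨k, hk⟩ | hj
  · have hk0 : k ≠ 0 := by omega
    have h1 : j + 1 = 2 * k := by omega
    rw [h1, val_pow hodd hq1 hk0, padicValNat.mul (by norm_num) hk0, padicValNat_self]
    unfold cc
    rw [val_two_mul_odd (x := q + 1) (by omega)]
    ring
  · rw [val_odd_pow hodd hq1 hj]
    have : ¬ 2 ∣ j + 1 := by
      rcases hj with ⟨k, hk⟩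
      omega
    rw [padicValNat.eq_zero_of_not_dvd this, add_zero]

theorem ff_one {q : ℕ} (hq : q % 4 = 1) (hq1 : 1 < q) (n : ℕ) :
    ff q n = n * padicValNat 2 (q - 1) + padicValNat 2 n.factorial := by
  unfold ff
  rw [Finset.sum_congr rfl (fun j _ => gg_one hq hq1 j), Finset.sum_add_distrib, sum_val_succ,
    Finset.sum_const, Finset.card_range, smul_eq_mul]

/-- case `q ≡ 3 (mod 4)` -/
theorem gg_three_even {q : ℕ} (hq : q % 4 = 3) (j : ℕ) (hj : Even j) : gg q j = 1 := by
  have hodd : Odd q := Nat.odd_iff.mpr (by omega)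
  unfold gg
  rw [val_odd_pow hodd (by omega) (Even.add_one hj)]
  exact val_two_mul_odd (by omega)

theorem gg_three_odd {q : ℕ} (hq : q % 4 = 3) (k : ℕ) :
    gg q (2 * k + 1) = cc q + padicValNat 2 (k + 1) := by
  have hodd : Odd q := Nat.odd_iff.mpr (by omega)
  unfold gg
  have : 2 * k + 1 + 1 = 2 * (k + 1) := by ring
  rw [this, val_pow hodd (by omega) (by omega)]

theorem ff_three {q : ℕ} (hq : q % 4 = 3) (m e : ℕ) (he : e ≤ 1) :
    ff q (2 * m + e) = m * (1 + cc q) + padicValNat 2 m.factorial + e := by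
  induction m with
  | zero =>
    interval_cases e
    · simp [ff]
    · simp [ff, gg_three_even hq 0 (by decide)]
  | succ m ih =>
    have h1 : 2 * (m + 1) + e = (2 * m + e) + 1 + 1 := by ring
    have h2 : ff q (2 * (m + 1) + e) = ff q (2 * m + e) + gg q (2 * m + e) +
        gg q (2 * m + e + 1) := by
      rw [h1]
      unfold ff
      rw [Finset.sum_range_succ, Finset.sum_range_succ]
    rw [h2, ih, Nat.factorial_succ, padicValNat.mul (by omega) (Nat.factorial_ne_zero m)]
    interval_cases e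
    · simp only [add_zero]
      rw [gg_three_even hq (2 * m) ⟨m, by ring⟩, gg_three_odd hq m]
      ring
    · rw [gg_three_odd hq m, gg_three_even hq (2 * m + 1 + 1) ⟨m + 1, by ring⟩]
      ring

theorem cc_ge_three {q : ℕ} (hq : q % 4 = 3) : 3 ≤ cc q := by
  unfold cc
  have h1 : padicValNat 2 (q - 1) = 1 := val_two_mul_odd (by omega)
  have h2 : 2 ≤ padicValNat 2 (q + 1) := by
    have h3 : 2 ^ 2 ∣ q + 1 := by
      norm_num
      omega
    exact (padicValNat_dvd_iff_le (by omega)).mp h3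
  omega

end Cfsg.Agent.helper17.GLR
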