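import Mathlib
import Cfsg.Agent.H16UniqueInvol

set_option autoImplicit false
set_option linter.unusedSectionVars false

/-!
# Squares lie in the derived subgroup: generic tools and the Sylow 2-subgroups of `SL₂(q)`, `q` odd
-/

namespace Cfsg.Agent.helper17.SylPC

open Subgroup
open scoped commutatorElement

/-- all squares of `W` lie in `[W, W]` -/
def PC {G : Type*} [Group G] (W : Subgroup G) : Prop := ∀ x ∈ W, x ^ 2 ∈ ⁅W, W⁆

theorem sq_mul_eq {G : Type*} [Group G] (x y : G) : (x * y) ^ 2 = x ^ 2 * ⁅x⁻¹, y⁆ * y ^ 2 := by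
  rw [pow_two, pow_two, pow_two, commutatorElement_def]
  group

theorem pc_of_closure {G : Type*} [Group G] (W : Subgroup G) (S : Set G) (hSW : S ⊆ W)
    (hW : W ≤ closure S) (hS : ∀ s ∈ S, s ^ 2 ∈ ⁅W, W⁆) : PC W := by
  intro x hx
  have key : ∀ y ∈ closure S, y ∈ W ∧ y ^ 2 ∈ ⁅W, W⁆ := by
    intro y hy
    induction hy using Subgroup.closure_induction with
    | mem s hs => exact ⟨hSW hs, hS s hs⟩
    | one => exact ⟨W.one_mem, by rw [one_pow]; exact Subgroup.one_mem _⟩
    | mul a b _ _ ha hb =>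
      refine ⟨W.mul_mem ha.1 hb.1, ?_⟩
      rw [sq_mul_eq]
      exact Subgroup.mul_mem _ (Subgroup.mul_mem _ ha.2
        (Subgroup.commutator_mem_commutator (W.inv_mem ha.1) hb.1)) hb.2
    | inv a _ ha =>
      refine ⟨W.inv_mem ha.1, ?_⟩
      rw [inv_pow]
      exact Subgroup.inv_mem _ ha.2
  exact (key x (hW hx)).2

theorem pc_sup {G : Type*} [Group G] (B H : Subgroup G) (hB : PC B)
    (hH : H ≤ closure {x | x ∈ H ∧ x ^ 2 = 1}) : PC (B ⊔ H) := by
  apply pc_of_closure (B ⊔ H) ((B : Set G) ∪ {x | x ∈ H ∧ x ^ 2 = 1})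
  · rintro x (hx | hx)
    · exact (le_sup_left : B ≤ B ⊔ H) hx
    · exact (le_sup_right : H ≤ B ⊔ H) hx.1
  · apply sup_le
    · intro x hx
      exact Subgroup.subset_closure (Or.inl hx)
    · refine hH.trans (Subgroup.closure_mono ?_)
      intro x hx
      exact Or.inr hx
  · rintro s (hs | hs)
    · exact Subgroup.commutator_mono le_sup_left le_sup_left (hB s hs)
    · rw [hs.2]; exact Subgroup.one_mem _

theorem pc_map {G G' : Type*} [Group G] [Group G'] (W : Subgroup G) (f : G →* G') (h : PC W) :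
    PC (W.map f) := by
  rintro _ ⟨w, hw, rfl⟩
  rw [← map_pow, ← Subgroup.map_commutator]
  exact Subgroup.mem_map_of_mem f (h w hw)

theorem pc_to_type {G : Type*} [Group G] (W : Subgroup G) (h : PC W) (x : W) :
    x ^ 2 ∈ commutator W := by
  have h1 := h x x.2
  rw [← Subgroup.map_subtype_commutator] at h1
  obtain ⟨y, hy, hyx⟩ := h1
  have : y = x ^ 2 := by
    apply Subtype.ext
    rw [Subgroup.coe_pow]
    exact hyx
  rw [← this]; exact hy

theorem pc_range {K G : Type*} [Group K] [Group G] (f : K →* G)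
    (h : ∀ x : K, x ^ 2 ∈ commutator K) : PC f.range := by
  rintro _ ⟨k, rfl⟩
  rw [← map_pow, MonoidHom.range_eq_map, ← Subgroup.map_commutator]
  exact Subgroup.mem_map_of_mem f (h k)

theorem pct_pi {ι : Type*} [Finite ι] {K : Type*} [Group K] (h : ∀ x : K, x ^ 2 ∈ commutator K)
    (f : ι → K) : f ^ 2 ∈ commutator (ι → K) := by
  have h1 : commutator (ι → K) = Subgroup.pi Set.univ (fun _ : ι => commutator K) := by
    rw [commutator_def, ← Subgroup.pi_top (Set.univ : Set ι), Subgroup.commutator_pi_pi_of_finite]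
    rfl
  rw [h1, Subgroup.mem_pi]
  intro i _
  exact h (f i)

/-- every Sylow `2`-subgroup has `PC` as soon as one `2`-subgroup of full order does -/
theorem sylow_of_pc {G : Type*} [Group G] [Finite G] (W : Subgroup G)
    (hW : IsPGroup 2 W) (hG : PC W) (hc : 2 ^ (Nat.card G).factorization 2 ≤ Nat.card W)
    (P : Sylow 2 G) (x : (P : Subgroup G)) : x ^ 2 ∈ commutator (P : Subgroup G) := by
  have : Fact (Nat.Prime 2) := ⟨Nat.prime_two⟩
  obtain ⟨P0, hP0⟩ := hW.exists_le_sylow
  have hWP0 : W = (P0 : Subgroup G) := by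
    apply Subgroup.eq_of_le_of_card_ge hP0
    rw [Sylow.card_eq_multiplicity]; exact hc
  obtain ⟨g, hg⟩ := MulAction.exists_smul_eq G P0 P
  have hP : (P : Subgroup G) = (P0 : Subgroup G).map (MulAut.conj g).toMonoidHom := by
    rw [← hg, Sylow.coe_subgroup_smul, Subgroup.pointwise_smul_def]
    rfl
  have hgen : PC (P : Subgroup G) := by
    rw [hP, ← hWP0]; exact pc_map W _ hG
  exact pc_to_type _ hgen x

/-! ### `SL₂(F)` -/

section SLsec

open Matrix

variable {F : Type*} [Field F]

local notation "SL2" => Matrix.SpecialLinearGroup (Fin 2) F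

/-- the central involution `-1` -/
def zz : SL2 := ⟨!![-1, 0; 0, -1], by simp [Matrix.det_fin_two]⟩

/-- an element of order four -/
def xx : SL2 := ⟨!![0, 1; -1, 0], by simp [Matrix.det_fin_two]⟩

/-- a second element of order four -/
def yy (u v : F) (h : u ^ 2 + v ^ 2 + 1 = 0) : SL2 :=
  ⟨!![u, v; v, -u], by
    rw [Matrix.det_fin_two]
    simp only [Matrix.of_apply, Matrix.cons_val', Matrix.cons_val_zero, Matrix.cons_val_one,
      Matrix.empty_val', Matrix.cons_val_fin_one]
    linear_combination -h⟩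

theorem zz_val : (zz : SL2).1 = !![-1, 0; 0, -1] := rfl

theorem xx_val : (xx : SL2).1 = !![0, 1; -1, 0] := rfl

theorem yy_val (u v : F) (h : u ^ 2 + v ^ 2 + 1 = 0) : (yy u v h).1 = !![u, v; v, -u] := rfl

theorem sl_ext (a b : SL2) (h00 : a.1 0 0 = b.1 0 0) (h01 : a.1 0 1 = b.1 0 1)
    (h10 : a.1 1 0 = b.1 1 0) (h11 : a.1 1 1 = b.1 1 1) : a = b := by
  apply Subtype.ext
  ext i j
  fin_cases i <;> fin_cases j
  · exact h00
  · exact h01
  · exact h10
  · exact h11

theorem zz_mul_zz : (zz : SL2) * zz = 1 := by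
  apply sl_ext <;> simp [zz_val, Matrix.mul_apply, Fin.sum_univ_two]

theorem xx_mul_xx : (xx : SL2) * xx = zz := by
  apply sl_ext <;> simp [xx_val, zz_val, Matrix.mul_apply, Fin.sum_univ_two]

theorem zz_ne_one (h2 : (2 : F) ≠ 0) : (zz : SL2) ≠ 1 := by
  intro h
  have h1 := congrArg (fun a : SL2 => a.1 0 0) h
  simp [zz_val] at h1
  apply h2
  linear_combination -h1

theorem zz_comm (g : SL2) : g * zz = zz * g := by
  apply sl_ext <;> simp [zz_val, Matrix.mul_apply, Fin.sum_univ_two]

theorem yy_mul_yy (u v : F) (h : u ^ 2 + v ^ 2 + 1 = 0) : yy u v h * yy u v h = zz := by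
  apply sl_ext <;> simp [yy_val, zz_val, Matrix.mul_apply, Fin.sum_univ_two]
  · linear_combination h
  · ring
  · ring
  · linear_combination h

theorem sl2_invol (h2 : (2 : F) ≠ 0) (g : SL2) (hg : g * g = 1) : g = 1 ∨ g = zz := by
  have h1 : g = g⁻¹ := eq_inv_of_mul_eq_one_left hg
  have h3 : g.1 = (g⁻¹ : SL2).1 := congrArg Subtype.val h1
  rw [Matrix.SpecialLinearGroup.coe_inv, Matrix.adjugate_fin_two] at h3
  have e00 : g.1 0 0 = g.1 1 1 := by
    have := congrFun (congrFun h3 0) 0
    simpa using this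
  have e01 : g.1 0 1 = 0 := by
    have := congrFun (congrFun h3 0) 1
    simp at this
    have h4 : (2 : F) * g.1 0 1 = 0 := by linear_combination this
    rcases mul_eq_zero.mp h4 with h5 | h5
    · exact absurd h5 h2
    · exact h5
  have e10 : g.1 1 0 = 0 := by
    have := congrFun (congrFun h3 1) 0
    simp at this
    have h4 : (2 : F) * g.1 1 0 = 0 := by linear_combination this
    rcases mul_eq_zero.mp h4 with h5 | h5
    · exact absurd h5 h2
    · exact h5
  have hdet := g.2
  rw [Matrix.det_fin_two, e01, ← e00] at hdet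
  have h6 : (g.1 0 0 - 1) * (g.1 0 0 + 1) = 0 := by linear_combination hdet
  rcases mul_eq_zero.mp h6 with h7 | h7
  · left
    have h8 : g.1 0 0 = 1 := by linear_combination h7
    apply sl_ext
    · simpa using h8
    · simpa using e01
    · simpa using e10
    · rw [← e00]; simpa using h8
  · right
    have h8 : g.1 0 0 = -1 := by linear_combination h7
    apply sl_ext
    · simpa [zz_val] using h8
    · simpa [zz_val] using e01
    · simpa [zz_val] using e10
    · rw [← e00]; simpa [zz_val] using h8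

theorem yy_conj (u v : F) (h : u ^ 2 + v ^ 2 + 1 = 0) :
    yy u v h * xx * (yy u v h)⁻¹ = (xx : SL2)⁻¹ := by
  rw [mul_inv_eq_iff_eq_mul]
  have h1 : (xx : SL2)⁻¹ = zz * xx := by
    rw [inv_eq_iff_mul_eq_one, ← zz_comm, ← mul_assoc, xx_mul_xx, zz_mul_zz]
  rw [h1]
  apply sl_ext <;> simp [yy_val, xx_val, zz_val, Matrix.mul_apply, Fin.sum_univ_two]

theorem xx_yy_ne (h2 : (2 : F) ≠ 0) (u v : F) (h : u ^ 2 + v ^ 2 + 1 = 0) :
    (xx : SL2) * yy u v h ≠ yy u v h * xx := by
  intro he
  have h00 := congrArg (fun a : SL2 => a.1 0 0) he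
  have h01 := congrArg (fun a : SL2 => a.1 0 1) he
  simp [yy_val, xx_val, Matrix.mul_apply, Fin.sum_univ_two] at h00 h01
  have hv : v = 0 := by
    have h4 : (2 : F) * v = 0 := by linear_combination h00
    rcases mul_eq_zero.mp h4 with h5 | h5
    · exact absurd h5 h2
    · exact h5
  have hu : u = 0 := by
    have h4 : (2 : F) * u = 0 := by linear_combination -h01
    rcases mul_eq_zero.mp h4 with h5 | h5
    · exact absurd h5 h2
    · exact h5
  rw [hu, hv] at h
  simp at h

end SLsec

end Cfsg.Agent.helper17.SylPC
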