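import Mathlib
import Cfsg.Agent.Lib_helper17_SylPC1

set_option autoImplicit false
set_option linter.unusedSectionVars false

/-!
# A Sylow 2-subgroup of `SL₂(q)`, `q` odd, has all squares in its derived subgroup
-/

namespace Cfsg.Agent.helper17.SylPC

open Subgroup Cfsg.Agent.H16UniqueInvol
open scoped commutatorElement

section SLsec

open Matrix

variable {F : Type*} [Field F]

local notation "SL2" => Matrix.SpecialLinearGroup (Fin 2) F

theorem xx_pow_four : (xx : SL2) ^ 4 = 1 := by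
  have : (xx : SL2) ^ 4 = (xx * xx) * (xx * xx) := by
    rw [show (4 : ℕ) = 2 + 2 from rfl, pow_add, pow_two]
  rw [this, xx_mul_xx, zz_mul_zz]

/-- the quaternion group of order 8 inside `SL₂` -/
def Q8 (u v : F) (h : u ^ 2 + v ^ 2 + 1 = 0) : Subgroup SL2 :=
  quat (xx : SL2) (yy u v h) (yy_conj u v h) (by
    rw [yy_mul_yy, ← xx_mul_xx]
    exact Subgroup.mul_mem _ (Subgroup.mem_zpowers _) (Subgroup.mem_zpowers _))

theorem xx_mem_Q8 (u v : F) (h : u ^ 2 + v ^ 2 + 1 = 0) : (xx : SL2) ∈ Q8 u v h :=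
  Or.inl (Subgroup.mem_zpowers _)

theorem yy_mem_Q8 (u v : F) (h : u ^ 2 + v ^ 2 + 1 = 0) : yy u v h ∈ Q8 u v h := by
  right
  rw [inv_mul_cancel]
  exact Subgroup.one_mem _

theorem Q8_pow_four (u v : F) (h : u ^ 2 + v ^ 2 + 1 = 0) (s : SL2) (hs : s ∈ Q8 u v h) :
    s ^ 4 = 1 := by
  rcases hs with hs | hs
  · obtain ⟨i, rfl⟩ := Subgroup.mem_zpowers_iff.mp hs
    rw [← zpow_natCast, ← _root_.zpow_mul, mul_comm, _root_.zpow_mul, zpow_natCast, xx_pow_four, _root_.one_zpow]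
  · obtain ⟨i, hi⟩ := Subgroup.mem_zpowers_iff.mp hs
    have hs' : s = yy u v h * xx ^ i := by rw [hi]; group
    have h1 : yy u v h * xx ^ i * (yy u v h)⁻¹ = ((xx : SL2) ^ i)⁻¹ := by
      rw [← conj_zpow, yy_conj, _root_.inv_zpow]
    have h2 : s * s = zz := by
      calc s * s = (yy u v h * xx ^ i * (yy u v h)⁻¹) * (yy u v h * yy u v h) * xx ^ i := by
            rw [hs']; group
        _ = ((xx : SL2) ^ i)⁻¹ * zz * xx ^ i := by rw [h1, yy_mul_yy]
        _ = zz := by rw [mul_assoc, ← zz_comm, ← mul_assoc, inv_mul_cancel, one_mul]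
    have : s ^ 4 = (s * s) * (s * s) := by
      rw [show (4 : ℕ) = 2 + 2 from rfl, pow_add, pow_two]
    rw [this, h2, zz_mul_zz]

theorem Q8_isPGroup (u v : F) (h : u ^ 2 + v ^ 2 + 1 = 0) : IsPGroup 2 (Q8 u v h) := by
  intro g
  refine ⟨2, ?_⟩
  apply Subtype.ext
  rw [Subgroup.coe_pow]
  exact Q8_pow_four u v h g.1 g.2

theorem exists_sq_add_sq [Fintype F] (hF : Odd (Fintype.card F)) :
    ∃ u v : F, u ^ 2 + v ^ 2 + 1 = 0 := by
  have h1 : (Polynomial.X ^ 2 : Polynomial F).degree = 2 := Polynomial.degree_X_pow 2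
  have h2 : (Polynomial.X ^ 2 + 1 : Polynomial F).degree = 2 := by
    rw [Polynomial.degree_add_eq_left_of_degree_lt]
    · exact h1
    · rw [h1, Polynomial.degree_one]; norm_num
  obtain ⟨a, b, hab⟩ := FiniteField.exists_root_sum_quadratic h1 h2 (Nat.odd_iff.mp hF)
  refine ⟨a, b, ?_⟩
  simp at hab
  linear_combination hab

/-- a Sylow 2-subgroup of `SL₂(F)`, `|F|` odd, with all squares in the derived subgroup -/
theorem exists_sylow_SL2 [Fintype F] (hF : Odd (Fintype.card F)) (h2 : (2 : F) ≠ 0) :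
    ∃ Q : Sylow 2 SL2, ∀ g : (Q : Subgroup SL2), g ^ 2 ∈ commutator (Q : Subgroup SL2) := by
  obtain ⟨u, v, h⟩ := exists_sq_add_sq hF
  obtain ⟨Q, hQ⟩ := (Q8_isPGroup u v h).exists_le_sylow
  refine ⟨Q, ?_⟩
  have hx : (xx : SL2) ∈ (Q : Subgroup SL2) := hQ (xx_mem_Q8 u v h)
  have hy : yy u v h ∈ (Q : Subgroup SL2) := hQ (yy_mem_Q8 u v h)
  have hz : (zz : SL2) ∈ (Q : Subgroup SL2) := by
    rw [← xx_mul_xx]; exact Subgroup.mul_mem _ hx hx
  have huinv : UInv (⟨zz, hz⟩ : (Q : Subgroup SL2)) := by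
    refine ⟨?_, ?_, ?_⟩
    · intro e
      exact zz_ne_one h2 (congrArg Subtype.val e)
    · apply Subtype.ext
      exact zz_mul_zz
    · intro g hg
      have hg' : (g : SL2) * (g : SL2) = 1 := congrArg Subtype.val hg
      rcases sl2_invol h2 _ hg' with e | e
      · left; exact Subtype.ext e
      · right; exact Subtype.ext e
  have hna : ∃ a b : (Q : Subgroup SL2), a * b ≠ b * a := by
    refine ⟨⟨xx, hx⟩, ⟨yy u v h, hy⟩, ?_⟩
    intro e
    exact xx_yy_ne h2 u v h (congrArg Subtype.val e)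
  obtain ⟨x, y, k, hk, hord, hy', hidx, hinv, hyy, hxz⟩ := structure_thm Q.isPGroup' huinv hna
  have hgq : GQ (⟨zz, hz⟩ : (Q : Subgroup SL2)) x y k := ⟨hk, hord, hy', hidx, hinv, hyy, hxz⟩
  -- `x²` is a commutator
  have hxx : x ^ 2 ∈ commutator (Q : Subgroup SL2) := by
    have h1 : x ^ 2 = ⁅x, y⁆ := by
      rw [commutatorElement_def, pow_two]
      have h3 : y * x⁻¹ * y⁻¹ = x := by
        have : y * x⁻¹ * y⁻¹ = (y * x * y⁻¹)⁻¹ := by group
        rw [this, hinv, inv_inv]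
      calc x * x = x * (y * x⁻¹ * y⁻¹) := by rw [h3]
        _ = x * y * x⁻¹ * y⁻¹ := by group
    rw [h1, commutator_def]
    exact Subgroup.commutator_mem_commutator (Subgroup.mem_top _) (Subgroup.mem_top _)
  intro g
  by_cases hg : g ∈ Subgroup.zpowers x
  · obtain ⟨i, rfl⟩ := Subgroup.mem_zpowers_iff.mp hg
    have : (x ^ i) ^ 2 = (x ^ 2) ^ i := by
      rw [← zpow_natCast, ← _root_.zpow_mul, mul_comm, _root_.zpow_mul, zpow_natCast]
    rw [this]
    exact Subgroup.zpow_mem _ hxx i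
  · have h1 := hgq.sq_of_not_mem g hg
    rw [pow_two, h1, ← hxz]
    obtain ⟨k', rfl⟩ : ∃ k', k = k' + 2 := ⟨k - 2, by omega⟩
    have : x ^ 2 ^ (k' + 2 - 1) = (x ^ 2) ^ (2 ^ k') := by
      rw [← pow_mul]
      congr 1
      have : k' + 2 - 1 = k' + 1 := by omega
      rw [this, pow_succ]; ring
    rw [this]
    exact Subgroup.pow_mem _ hxx _

end SLsec

end Cfsg.Agent.helper17.SylPC
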