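import Mathlib
import Cfsg.Agent.Lib_helper17_SylPC2
import Cfsg.Agent.Lib_helper17_SpR2
import Cfsg.Agent.Lib_helper17_GLR1

set_option autoImplicit false
set_option linter.unusedSectionVars false

/-!
# `GL` versus `SL`; a Sylow 2-subgroup of `GL₂(q)`, `q ≡ 3 (mod 4)`
-/

namespace Cfsg.Agent.helper17.SylPC

open Subgroup Cfsg.Agent.helper17.SpR Cfsg.Agent.helper17.GLR
open scoped commutatorElement

theorem pc_of_type {G : Type*} [Group G] (W : Subgroup G) (h : ∀ x : W, x ^ 2 ∈ commutator W) :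
    PC W := by
  intro x hx
  rw [← Subgroup.map_subtype_commutator]
  refine ⟨⟨x, hx⟩ ^ 2, h ⟨x, hx⟩, ?_⟩
  simp

theorem pc_of_map_injective {G G' : Type*} [Group G] [Group G'] (V : Subgroup G) (f : G →* G')
    (hf : Function.Injective f) (h : PC (V.map f)) : PC V := by
  intro x hx
  have h1 := h (f x) (Subgroup.mem_map_of_mem f hx)
  rw [← map_pow, ← Subgroup.map_commutator] at h1
  obtain ⟨y, hy, hyx⟩ := h1
  rw [← hf hyx]; exact hy

section GLSL

variable {n : Type*} [Fintype n] [DecidableEq n] {F : Type*} [Field F]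

/-- the determinant-one subgroup of `GL` -/
def SLr (n : Type*) [Fintype n] [DecidableEq n] (F : Type*) [Field F] : Subgroup (GL n F) :=
  (Matrix.GeneralLinearGroup.det (n := n) (R := F)).ker

instance : (SLr n F).Normal := by unfold SLr; infer_instance

theorem mem_SLr (g : GL n F) : g ∈ SLr n F ↔ (g : Matrix n n F).det = 1 := by
  unfold SLr
  rw [MonoidHom.mem_ker, Units.ext_iff]
  rfl

theorem range_toGL :
    (Matrix.SpecialLinearGroup.toGL : Matrix.SpecialLinearGroup n F →* GL n F).range = SLr n F := by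
  ext g
  rw [mem_SLr]
  constructor
  · rintro ⟨s, rfl⟩
    exact s.2
  · intro h
    refine ⟨⟨g.1, h⟩, ?_⟩
    apply Units.ext
    rfl

/-- transfer from `GL` to `SL`: if a full-order 2-subgroup `W` of `GL` has `PC (W ⊓ SL)`, then every
Sylow 2-subgroup of `SL` has all squares in its derived subgroup. -/
theorem sylow_SL_of_GL [Fintype F] (W : Subgroup (GL n F)) (hW : IsPGroup 2 W)
    (hc : 2 ^ (Nat.card (GL n F)).factorization 2 ≤ Nat.card W) (hPC : PC (W ⊓ SLr n F))
    (P : Sylow 2 (Matrix.SpecialLinearGroup n F)) (x : (P : Subgroup (Matrix.SpecialLinearGroup n F))) :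
    x ^ 2 ∈ commutator (P : Subgroup (Matrix.SpecialLinearGroup n F)) := by
  have : Fact (Nat.Prime 2) := ⟨Nat.prime_two⟩
  set f : Matrix.SpecialLinearGroup n F →* GL n F := Matrix.SpecialLinearGroup.toGL with hf
  have hfi : Function.Injective f := Matrix.SpecialLinearGroup.toGL_injective
  obtain ⟨W0, hW0⟩ := hW.exists_le_sylow
  have hWW0 : W = (W0 : Subgroup (GL n F)) := by
    apply Subgroup.eq_of_le_of_card_ge hW0
    rw [Sylow.card_eq_multiplicity]; exact hc
  have hP' : IsPGroup 2 ((P : Subgroup (Matrix.SpecialLinearGroup n F)).map f) := P.isPGroup'.map f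
  obtain ⟨P0, hP0⟩ := hP'.exists_le_sylow
  obtain ⟨g, hg⟩ := MulAction.exists_smul_eq (GL n F) W0 P0
  have hP0eq : (P0 : Subgroup (GL n F)) = W.map (MulAut.conj g).toMonoidHom := by
    rw [← hg, Sylow.coe_subgroup_smul, Subgroup.pointwise_smul_def, hWW0]
    rfl
  -- the conjugate of `W ⊓ SL`
  set V' : Subgroup (GL n F) := (W ⊓ SLr n F).map (MulAut.conj g).toMonoidHom with hV'
  have hV'PC : PC V' := pc_map _ _ hPC
  have hV'le : V' ≤ f.range := by
    rw [hf, range_toGL]
    rintro _ ⟨w, hw, rfl⟩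
    exact (inferInstance : (SLr n F).Normal).conj_mem w hw.2 g
  have hV'p : IsPGroup 2 V' := (hW.to_le inf_le_left).map _
  set V : Subgroup (Matrix.SpecialLinearGroup n F) := V'.comap f with hV
  have hVp : IsPGroup 2 V := hV'p.comap_of_injective f hfi
  have hPV : (P : Subgroup (Matrix.SpecialLinearGroup n F)) ≤ V := by
    intro y hy
    rw [hV, Subgroup.mem_comap]
    have h1 : f y ∈ (P0 : Subgroup (GL n F)) := hP0 (Subgroup.mem_map_of_mem f hy)
    rw [hP0eq] at h1
    obtain ⟨w, hw, hwy⟩ := h1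
    refine ⟨w, ⟨hw, ?_⟩, hwy⟩
    have h2 : f y ∈ SLr n F := by
      rw [← range_toGL]; exact ⟨y, rfl⟩
    have h3 : w = (MulAut.conj g⁻¹).toMonoidHom (f y) := by
      rw [← hwy]
      simp [MulAut.conj_apply, mul_assoc]
    rw [h3]
    exact (inferInstance : (SLr n F).Normal).conj_mem _ h2 g⁻¹
  have hVP : V = (P : Subgroup (Matrix.SpecialLinearGroup n F)) := P.is_maximal' hVp hPV
  have hVPC : PC V := by
    apply pc_of_map_injective V f hfi
    rw [hV, Subgroup.map_comap_eq_self hV'le]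
    exact hV'PC
  rw [hVP] at hVPC
  exact pc_to_type _ hVPC x

end GLSL

end Cfsg.Agent.helper17.SylPC
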