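import Mathlib
import Cfsg.Agent.Lib_helper17_SylPC4

set_option autoImplicit false
set_option linter.unusedSectionVars false

/-!
# A Sylow 2-subgroup of `GL₂(q)`, `q ≡ 3 (mod 4)`
-/

namespace Cfsg.Agent.helper17.SylPC

open Subgroup Cfsg.Agent.helper17.SpR Cfsg.Agent.helper17.GLR
open scoped commutatorElement

section GL2

variable {F : Type*} [Field F]

/-- the reflection `diag(1,-1)` -/
noncomputable def r0 : GL (Fin 2) F :=
  Matrix.GeneralLinearGroup.mkOfDetNeZero !![1, 0; 0, -1] (by simp [Matrix.det_fin_two])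

theorem r0_val : (r0 : GL (Fin 2) F).1 = !![1, 0; 0, -1] := rfl

theorem r0_mul_r0 : (r0 : GL (Fin 2) F) * r0 = 1 := by
  apply Units.ext
  rw [Units.val_mul, r0_val, Units.val_one]
  ext i j
  fin_cases i <;> fin_cases j <;> simp [Matrix.mul_apply, Fin.sum_univ_two]

theorem det_r0 : ((r0 : GL (Fin 2) F) : Matrix (Fin 2) (Fin 2) F).det = -1 := by
  rw [r0_val, Matrix.det_fin_two]
  simp

theorem r0_ne_one (h2 : (2 : F) ≠ 0) : (r0 : GL (Fin 2) F) ≠ 1 := by
  intro h
  have h1 := congrArg (fun g : GL (Fin 2) F => (g : Matrix (Fin 2) (Fin 2) F).det) h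
  simp only [det_r0, Units.val_one, Matrix.det_one] at h1
  apply h2
  linear_combination -h1

variable [Fintype F]

theorem det_pm_one {n : Type*} [Fintype n] [DecidableEq n] (hq : Fintype.card F % 4 = 3)
    (g : GL n F) (k : ℕ) (hg : g ^ (2 ^ k) = 1) :
    (g : Matrix n n F).det = 1 ∨ (g : Matrix n n F).det = -1 := by
  set d : Fˣ := Matrix.GeneralLinearGroup.det g with hd
  have h1 : d ^ (2 ^ k) = 1 := by rw [hd, ← map_pow, hg, map_one]
  have h2 : orderOf d ∣ 2 ^ k := orderOf_dvd_of_pow_eq_one h1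
  have h3 : orderOf d ∣ Fintype.card F - 1 := by
    have := orderOf_dvd_natCard d
    rwa [Nat.card_units, Nat.card_eq_fintype_card] at this
  obtain ⟨j, hj, hjd⟩ := (Nat.dvd_prime_pow Nat.prime_two).mp h2
  have hj1 : j ≤ 1 := by
    by_contra hcon
    have h4 : 2 ^ 2 ∣ orderOf d := by
      rw [hjd]; exact pow_dvd_pow 2 (by omega)
    have h5 := h4.trans h3
    omega
  have h6 : d ^ 2 = 1 := by
    apply orderOf_dvd_iff_pow_eq_one.mp
    rw [hjd]
    interval_cases j <;> norm_num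
  have h7 : (d : F) * (d : F) = 1 := by
    have := congrArg Units.val h6
    rw [Units.val_pow_eq_pow_val, pow_two] at this
    simpa using this
  have h8 : (d : F) = (g : Matrix n n F).det := rfl
  rw [← h8]
  exact mul_self_eq_one_iff.mp h7

theorem val_SL2' (hF : Odd (Fintype.card F)) :
    (Nat.card (Matrix.SpecialLinearGroup (Fin 2) F)).factorization 2 = cc (Fintype.card F) := by
  have h3 := val_SL2 hF 1
  rw [pow_one, Nat.factorial_one, mul_one, one_mul] at h3
  rw [h3]
  simp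

/-- every 2-subgroup of `SL₂` of full order has `PC` -/
theorem pc_SL2_of_card (hF : Odd (Fintype.card F)) (h2 : (2 : F) ≠ 0)
    (Q : Subgroup (Matrix.SpecialLinearGroup (Fin 2) F)) (hQ : IsPGroup 2 Q)
    (hc : 2 ^ cc (Fintype.card F) ≤ Nat.card Q) : PC Q := by
  have : Fact (Nat.Prime 2) := ⟨Nat.prime_two⟩
  obtain ⟨Q₁, hQ₁⟩ := exists_sylow_SL2 hF h2
  obtain ⟨P0, hP0⟩ := hQ.exists_le_sylow
  have hQP0 : Q = (P0 : Subgroup (Matrix.SpecialLinearGroup (Fin 2) F)) := by
    apply Subgroup.eq_of_le_of_card_ge hP0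
    rw [Sylow.card_eq_multiplicity, val_SL2' hF]; exact hc
  rw [hQP0]
  apply pc_of_type
  intro x
  apply sylow_of_pc (Q₁ : Subgroup (Matrix.SpecialLinearGroup (Fin 2) F)) Q₁.isPGroup'
    (pc_of_type _ hQ₁) _ P0 x
  rw [Sylow.card_eq_multiplicity]

theorem exists_sylow_GL2 (hq : Fintype.card F % 4 = 3) :
    ∃ S : Sylow 2 (GL (Fin 2) F), r0 ∈ (S : Subgroup (GL (Fin 2) F)) ∧
      PC ((S : Subgroup (GL (Fin 2) F)) ⊓ SLr (Fin 2) F) ∧
      Nat.card (S : Subgroup (GL (Fin 2) F)) = 2 ^ (1 + cc (Fintype.card F)) := by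
  have : Fact (Nat.Prime 2) := ⟨Nat.prime_two⟩
  have hF : Odd (Fintype.card F) := Nat.odd_iff.mpr (by omega)
  have h2 : (2 : F) ≠ 0 := by
    apply Ring.two_ne_zero
    intro h
    have := (FiniteField.even_card_iff_char_two).mp h
    obtain ⟨k, hk⟩ := hF
    omega
  have hr : IsPGroup 2 (Subgroup.zpowers (r0 : GL (Fin 2) F)) := by
    apply IsPGroup.of_card (n := 1)
    rw [Nat.card_zpowers, pow_one]
    exact orderOf_eq_prime (by rw [pow_two]; exact r0_mul_r0) (r0_ne_one h2)
  obtain ⟨S, hS⟩ := hr.exists_le_sylow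
  have hr0 : r0 ∈ (S : Subgroup (GL (Fin 2) F)) := hS (Subgroup.mem_zpowers _)
  have hcS : Nat.card (S : Subgroup (GL (Fin 2) F)) = 2 ^ (1 + cc (Fintype.card F)) := by
    rw [Sylow.card_eq_multiplicity, val_GL hF 2]
    have := ff_three hq 1 0 (by omega)
    simp only [mul_one, add_zero, one_mul, Nat.factorial_one, padicValNat_one_right] at this
    rw [this]
  refine ⟨S, hr0, ?_, hcS⟩
  set Q' : Subgroup (GL (Fin 2) F) := (S : Subgroup (GL (Fin 2) F)) ⊓ SLr (Fin 2) F with hQ'
  -- `|S| ≤ 2 |Q'|`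
  have hdet : ∀ s ∈ (S : Subgroup (GL (Fin 2) F)),
      (s : Matrix (Fin 2) (Fin 2) F).det = 1 ∨ (s : Matrix (Fin 2) (Fin 2) F).det = -1 := by
    intro s hs
    obtain ⟨k, hk⟩ := S.isPGroup' ⟨s, hs⟩
    apply det_pm_one hq s k
    have := congrArg Subtype.val hk
    simpa using this
  classical
  have hmem : ∀ s : (S : Subgroup (GL (Fin 2) F)),
      (if ((s : GL (Fin 2) F) : Matrix (Fin 2) (Fin 2) F).det = 1 then (s : GL (Fin 2) F)
        else (s : GL (Fin 2) F) * r0) ∈ Q' := by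
    intro s
    split_ifs with h
    · exact ⟨s.2, (mem_SLr _).mpr h⟩
    · refine ⟨Subgroup.mul_mem _ s.2 hr0, (mem_SLr _).mpr ?_⟩
      rcases hdet s s.2 with h1 | h1
      · exact absurd h1 h
      · rw [Units.val_mul, Matrix.det_mul, h1, det_r0]; ring
  let φ : ↥(S : Subgroup (GL (Fin 2) F)) → Q' × Bool := fun s =>
    (⟨_, hmem s⟩, decide (((s : GL (Fin 2) F) : Matrix (Fin 2) (Fin 2) F).det = 1))
  have hφ : Function.Injective φ := by
    intro s t hst
    have h1 := congrArg Prod.snd hst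
    have h0 := congrArg (fun p => (p.1 : GL (Fin 2) F)) hst
    simp only [φ] at h1 h0
    apply Subtype.ext
    by_cases hs : ((s : GL (Fin 2) F) : Matrix (Fin 2) (Fin 2) F).det = 1
    · have ht : ((t : GL (Fin 2) F) : Matrix (Fin 2) (Fin 2) F).det = 1 := by
        simpa [hs] using h1
      simpa [hs, ht] using h0
    · have ht : ¬ ((t : GL (Fin 2) F) : Matrix (Fin 2) (Fin 2) F).det = 1 := by
        simpa [hs] using h1
      simpa [hs, ht] using h0
  have hcard : Nat.card (S : Subgroup (GL (Fin 2) F)) ≤ Nat.card Q' * 2 := by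
    have := Nat.card_le_card_of_injective φ hφ
    rwa [Nat.card_prod, Nat.card_eq_fintype_card (α := Bool), Fintype.card_bool] at this
  -- back to `SL₂`
  set f : Matrix.SpecialLinearGroup (Fin 2) F →* GL (Fin 2) F :=
    Matrix.SpecialLinearGroup.toGL with hf
  have hfi : Function.Injective f := Matrix.SpecialLinearGroup.toGL_injective
  have hQ'le : Q' ≤ f.range := by
    rw [hf, range_toGL]; exact inf_le_right
  set Q : Subgroup (Matrix.SpecialLinearGroup (Fin 2) F) := Q'.comap f with hQ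
  have hQ'p : IsPGroup 2 Q' := S.isPGroup'.to_le inf_le_left
  have hQp : IsPGroup 2 Q := hQ'p.comap_of_injective f hfi
  have hmap : Q.map f = Q' := Subgroup.map_comap_eq_self hQ'le
  have hcQ : Nat.card Q = Nat.card Q' := by
    rw [← hmap, Subgroup.card_map_of_injective hfi]
  have hc : 2 ^ cc (Fintype.card F) ≤ Nat.card Q := by
    rw [hcQ]
    rw [hcS, pow_add, pow_one] at hcard
    have : 2 * 2 ^ cc (Fintype.card F) ≤ 2 * Nat.card Q' := by rw [mul_comm 2 (Nat.card _)]; exact hcard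
    exact Nat.le_of_mul_le_mul_left this (by norm_num)
  have hPCQ : PC Q := pc_SL2_of_card hF h2 Q hQp hc
  rw [← hmap]
  exact pc_map Q f hPCQ

end GL2

end Cfsg.Agent.helper17.SylPC
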