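import Mathlib
import Cfsg.Agent.Lib_helper17_G2e
import Cfsg.Agent.Lib_helper17_SylPC5

set_option autoImplicit false
set_option linter.unusedSectionVars false

/-!
# `SL₂ × SL₂` inside the centralizer of `t₀`, and the extra involution `w`
-/

namespace Cfsg.Agent.helper17.G2S

open Matrix Cfsg.Lie Cfsg.Agent.helper17.O4 Cfsg.Agent.helper17.SylPC

variable {F : Type*} [Field F]

local notation "M2" => Matrix (Fin 2) (Fin 2) F
local notation "SL2" => Matrix.SpecialLinearGroup (Fin 2) F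

theorem det_toGL (s : SL2) :
    Matrix.GeneralLinearGroup.det (SpecialLinearGroup.toGL s) = 1 := by
  ext
  simp

/-- `SL₂ × SL₂ → Γ` -/
def iotaSL (F : Type*) [Field F] :
    Matrix.SpecialLinearGroup (Fin 2) F × Matrix.SpecialLinearGroup (Fin 2) F →* Gam F where
  toFun s := ⟨(SpecialLinearGroup.toGL s.1, SpecialLinearGroup.toGL s.2), by
    rw [mem_Gam_iff, det_toGL, det_toGL]⟩
  map_one' := by
    apply Subtype.ext
    simp
  map_mul' a b := by
    apply Subtype.ext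
    simp

theorem iotaSL_fst (s : SL2 × SL2) : ((iotaSL F s).1.1 : GL (Fin 2) F) = SpecialLinearGroup.toGL s.1 := rfl
theorem iotaSL_snd (s : SL2 × SL2) : ((iotaSL F s).1.2 : GL (Fin 2) F) = SpecialLinearGroup.toGL s.2 := rfl

/-- `SL₂ × SL₂ → G₂(F)` -/
def rho (F : Type*) [Field F] :
    Matrix.SpecialLinearGroup (Fin 2) F × Matrix.SpecialLinearGroup (Fin 2) F →* G2 F :=
  (piG F).comp (iotaSL F)

theorem rho_apply (s : SL2 × SL2) : rho F s = piG F (iotaSL F s) := rfl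

/-- the matrix `[[0,1],[-ν,0]]` -/
def c1 (ν : F) (hν : ν ≠ 0) : GL (Fin 2) F :=
  Matrix.GeneralLinearGroup.mkOfDetNeZero !![0, 1; -ν, 0] (by simpa [det_fin_two] using hν)

theorem coe_c1 (ν : F) (hν : ν ≠ 0) : ((c1 ν hν : GL (Fin 2) F) : M2) = !![0, 1; -ν, 0] := rfl

theorem det_c1 (ν : F) (hν : ν ≠ 0) : ((c1 ν hν : GL (Fin 2) F) : M2).det = ν := by
  rw [coe_c1]; simp [det_fin_two]

theorem c1_sq (ν : F) (hν : ν ≠ 0) :
    ((c1 ν hν * c1 ν hν : GL (Fin 2) F) : M2) = Matrix.scalar (Fin 2) (-ν) := by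
  rw [Units.val_mul, coe_c1]
  ext i j
  fin_cases i <;> fin_cases j <;> simp [Matrix.mul_apply, Fin.sum_univ_two]

/-- the pair `(c₁, c₁)` -/
def k1 (ν : F) (hν : ν ≠ 0) : Gam F := ⟨(c1 ν hν, c1 ν hν), by rw [mem_Gam_iff]⟩

/-- the involution `w` -/
def ww (ν : F) (hν : ν ≠ 0) : G2 F := piG F (k1 ν hν)

theorem ww_mul_ww (ν : F) (hν : ν ≠ 0) : ww ν hν * ww ν hν = 1 := by
  rw [ww, ← map_mul, piG_eq_one_iff]
  exact ⟨rfl, -ν, c1_sq ν hν⟩

/-- conjugation by an element of `GL₂` on `SL₂` -/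
def alpha (A : GL (Fin 2) F) : SL2 ≃* SL2 where
  toFun s := ⟨(A : M2) * s.1 * ((A⁻¹ : GL (Fin 2) F) : M2), by
    rw [det_mul, det_mul, s.2, mul_one, ← det_mul, Units.mul_inv, det_one]⟩
  invFun s := ⟨((A⁻¹ : GL (Fin 2) F) : M2) * s.1 * (A : M2), by
    rw [det_mul, det_mul, s.2, mul_one, ← det_mul, Units.inv_mul, det_one]⟩
  left_inv s := by
    apply Subtype.ext
    show ((A⁻¹ : GL (Fin 2) F) : M2) * ((A : M2) * s.1 * ((A⁻¹ : GL (Fin 2) F) : M2)) * (A : M2) = s.1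
    rw [← mul_assoc, ← mul_assoc, Units.inv_mul, one_mul, mul_assoc, Units.inv_mul, mul_one]
  right_inv s := by
    apply Subtype.ext
    show (A : M2) * (((A⁻¹ : GL (Fin 2) F) : M2) * s.1 * (A : M2)) * ((A⁻¹ : GL (Fin 2) F) : M2) = s.1
    rw [← mul_assoc, ← mul_assoc, Units.mul_inv, one_mul, mul_assoc, Units.mul_inv, mul_one]
  map_mul' s t := by
    apply Subtype.ext
    show (A : M2) * (s.1 * t.1) * ((A⁻¹ : GL (Fin 2) F) : M2) =
      (A : M2) * s.1 * ((A⁻¹ : GL (Fin 2) F) : M2) * ((A : M2) * t.1 * ((A⁻¹ : GL (Fin 2) F) : M2))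
    have : (A : M2) * s.1 * ((A⁻¹ : GL (Fin 2) F) : M2) * ((A : M2) * t.1 * ((A⁻¹ : GL (Fin 2) F) : M2))
        = (A : M2) * s.1 * (((A⁻¹ : GL (Fin 2) F) : M2) * (A : M2)) * t.1 * ((A⁻¹ : GL (Fin 2) F) : M2) := by
      simp only [mul_assoc]
    rw [this, Units.inv_mul, mul_one]
    simp only [mul_assoc]

theorem toGL_alpha (A : GL (Fin 2) F) (s : SL2) :
    SpecialLinearGroup.toGL (alpha A s) = A * SpecialLinearGroup.toGL s * A⁻¹ := by
  apply Units.ext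
  rfl

theorem iotaSL_alpha (ν : F) (hν : ν ≠ 0) (s : SL2 × SL2) :
    iotaSL F (alpha (c1 ν hν) s.1, alpha (c1 ν hν) s.2) = k1 ν hν * iotaSL F s * (k1 ν hν)⁻¹ := by
  apply Subtype.ext
  apply Prod.ext
  · exact toGL_alpha _ _
  · exact toGL_alpha _ _

theorem ww_conj (ν : F) (hν : ν ≠ 0) (s : SL2 × SL2) :
    ww ν hν * rho F s * (ww ν hν)⁻¹ = rho F (alpha (c1 ν hν) s.1, alpha (c1 ν hν) s.2) := by
  rw [rho_apply, rho_apply, iotaSL_alpha, map_mul, map_mul, map_inv]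
  rfl

theorem alpha_alpha (ν : F) (hν : ν ≠ 0) (s : SL2) :
    alpha (c1 ν hν) (alpha (c1 ν hν) s) = s := by
  apply SpecialLinearGroup.toGL_injective
  rw [toGL_alpha, toGL_alpha]
  have h1 : c1 ν hν * (c1 ν hν * SpecialLinearGroup.toGL s * (c1 ν hν)⁻¹) * (c1 ν hν)⁻¹
      = (c1 ν hν * c1 ν hν) * SpecialLinearGroup.toGL s * (c1 ν hν * c1 ν hν)⁻¹ := by group
  rw [h1]
  have h2 : (c1 ν hν * c1 ν hν) * SpecialLinearGroup.toGL s =
      SpecialLinearGroup.toGL s * (c1 ν hν * c1 ν hν) := by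
    apply Units.ext
    rw [Units.val_mul, Units.val_mul (SpecialLinearGroup.toGL s), c1_sq]
    exact (Matrix.scalar_commute (-ν) (fun r' => mul_comm _ _) _).eq
  rw [h2, mul_assoc, mul_inv_cancel, mul_one]

theorem coe_inv_toGL_det (a : SL2) :
    (((SpecialLinearGroup.toGL a)⁻¹ : GL (Fin 2) F) : M2).det = 1 := by
  have h := congrArg Matrix.det (Units.inv_mul (SpecialLinearGroup.toGL a))
  rw [det_mul, det_one] at h
  have h2 : ((SpecialLinearGroup.toGL a : GL (Fin 2) F) : M2).det = 1 := a.2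
  rwa [h2, mul_one] at h

theorem ww_not_mem (ν : F) (hν : ν ≠ 0) (hsq : ¬ IsSquare ν) : ww ν hν ∉ (rho F).range := by
  rintro ⟨s, hs⟩
  have h1 : piG F (k1 ν hν * (iotaSL F s)⁻¹) = 1 := by
    rw [map_mul, map_inv, ← rho_apply, hs]
    exact mul_inv_cancel _
  obtain ⟨_, c, hc⟩ := (piG_eq_one_iff _).mp h1
  have h2 : ((k1 ν hν * (iotaSL F s)⁻¹ : Gam F).1.1 : GL (Fin 2) F) =
      c1 ν hν * (SpecialLinearGroup.toGL s.1)⁻¹ := rfl
  rw [h2, Units.val_mul] at hc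
  have h3 := congrArg Matrix.det hc
  rw [det_mul, det_c1, coe_inv_toGL_det, mul_one] at h3
  apply hsq
  refine ⟨c, ?_⟩
  rw [h3]
  simp [det_fin_two]
  ring

theorem rho_eq_one (h2 : (2 : F) ≠ 0) (s : SL2 × SL2) (hs : rho F s = 1) :
    s = 1 ∨ s = (zz, zz) := by
  obtain ⟨h12, c, hc⟩ := (piG_eq_one_iff _).mp hs
  rw [iotaSL_fst, iotaSL_snd] at h12
  have h12' : s.1 = s.2 := SpecialLinearGroup.toGL_injective h12
  rw [iotaSL_fst] at hc
  have hc' : s.1.1 = Matrix.scalar (Fin 2) c := hc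
  have hdet : c = 1 ∨ c = -1 := by
    have := s.1.2
    rw [hc'] at this
    simpa [det_fin_two] using this
  rcases hdet with h | h
  · left
    have : s.1 = 1 := by
      apply Subtype.ext
      rw [hc', h]
      simp
    apply Prod.ext
    · exact this
    · rw [← h12', this]; rfl
  · right
    have : s.1 = zz := by
      apply Subtype.ext
      rw [hc', h, zz_val]
      ext i j
      fin_cases i <;> fin_cases j <;> simp
    apply Prod.ext
    · exact this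
    · show s.2 = zz
      rw [← h12', this]

theorem commute_of_commute_left (p : Gam F) (x : SL2)
    (h : piG F p * rho F (x, 1) = rho F (x, 1) * piG F p) :
    (p.1.1 : M2) * x.1 = x.1 * (p.1.1 : M2) := by
  have h1 : piG F (p * iotaSL F (x, 1) * p⁻¹ * (iotaSL F (x, 1))⁻¹) = 1 := by
    rw [map_mul, map_mul, map_mul, map_inv, map_inv, ← rho_apply, h]
    group
  obtain ⟨h12, _⟩ := (piG_eq_one_iff _).mp h1
  have e1 : ((p * iotaSL F (x, 1) * p⁻¹ * (iotaSL F (x, 1))⁻¹ : Gam F).1.1 : GL (Fin 2) F) =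
      p.1.1 * SpecialLinearGroup.toGL x * (p.1.1)⁻¹ * (SpecialLinearGroup.toGL x)⁻¹ := rfl
  have e2 : ((p * iotaSL F (x, 1) * p⁻¹ * (iotaSL F (x, 1))⁻¹ : Gam F).1.2 : GL (Fin 2) F) =
      p.1.2 * SpecialLinearGroup.toGL (1 : SL2) * (p.1.2)⁻¹ * (SpecialLinearGroup.toGL (1 : SL2))⁻¹ := rfl
  rw [e1, e2, map_one] at h12
  have h3 : p.1.1 * SpecialLinearGroup.toGL x = SpecialLinearGroup.toGL x * p.1.1 := by
    have h4 : p.1.1 * SpecialLinearGroup.toGL x * (p.1.1)⁻¹ * (SpecialLinearGroup.toGL x)⁻¹ = 1 := by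
      rw [h12]; group
    calc p.1.1 * SpecialLinearGroup.toGL x
        = (p.1.1 * SpecialLinearGroup.toGL x * (p.1.1)⁻¹ * (SpecialLinearGroup.toGL x)⁻¹) *
          (SpecialLinearGroup.toGL x * p.1.1) := by group
      _ = SpecialLinearGroup.toGL x * p.1.1 := by rw [h4, one_mul]
  have := congrArg (fun u : GL (Fin 2) F => (u : M2)) h3
  exact this

theorem commute_of_commute_right (p : Gam F) (x : SL2)
    (h : piG F p * rho F (1, x) = rho F (1, x) * piG F p) :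
    (p.1.2 : M2) * x.1 = x.1 * (p.1.2 : M2) := by
  have h1 : piG F (p * iotaSL F (1, x) * p⁻¹ * (iotaSL F (1, x))⁻¹) = 1 := by
    rw [map_mul, map_mul, map_mul, map_inv, map_inv, ← rho_apply, h]
    group
  obtain ⟨h12, _⟩ := (piG_eq_one_iff _).mp h1
  have e1 : ((p * iotaSL F (1, x) * p⁻¹ * (iotaSL F (1, x))⁻¹ : Gam F).1.1 : GL (Fin 2) F) =
      p.1.1 * SpecialLinearGroup.toGL (1 : SL2) * (p.1.1)⁻¹ * (SpecialLinearGroup.toGL (1 : SL2))⁻¹ := rfl
  have e2 : ((p * iotaSL F (1, x) * p⁻¹ * (iotaSL F (1, x))⁻¹ : Gam F).1.2 : GL (Fin 2) F) =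
      p.1.2 * SpecialLinearGroup.toGL x * (p.1.2)⁻¹ * (SpecialLinearGroup.toGL x)⁻¹ := rfl
  rw [e1, e2, map_one] at h12
  have h3 : p.1.2 * SpecialLinearGroup.toGL x = SpecialLinearGroup.toGL x * p.1.2 := by
    have h4 : p.1.2 * SpecialLinearGroup.toGL x * (p.1.2)⁻¹ * (SpecialLinearGroup.toGL x)⁻¹ = 1 := by
      rw [← h12]; group
    calc p.1.2 * SpecialLinearGroup.toGL x
        = (p.1.2 * SpecialLinearGroup.toGL x * (p.1.2)⁻¹ * (SpecialLinearGroup.toGL x)⁻¹) *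
          (SpecialLinearGroup.toGL x * p.1.2) := by group
      _ = SpecialLinearGroup.toGL x * p.1.2 := by rw [h4, one_mul]
  have := congrArg (fun u : GL (Fin 2) F => (u : M2)) h3
  exact this

end Cfsg.Agent.helper17.G2S
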