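import Mathlib
import Cfsg.Agent.Lib_helper17_G2f

set_option autoImplicit false
set_option linter.unusedSectionVars false

/-!
# Elements of the image of `Γ` centralizing two non-commuting pairs
-/

namespace Cfsg.Agent.helper17.G2S

open Matrix Cfsg.Lie Cfsg.Agent.helper17.O4 Cfsg.Agent.helper17.SylPC

variable {F : Type*} [Field F]

local notation "M2" => Matrix (Fin 2) (Fin 2) F
local notation "SL2" => Matrix.SpecialLinearGroup (Fin 2) F

theorem scalar_of_commute_two (A X Y : M2) (hX : A * X = X * A) (hY : A * Y = Y * A)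
    (hXY : X * Y ≠ Y * X) : A = Matrix.scalar (Fin 2) (A 0 0) := by
  have EX1 := congrFun (congrFun hX 0) 0
  have EX2 := congrFun (congrFun hX 0) 1
  have EX3 := congrFun (congrFun hX 1) 0
  have EY1 := congrFun (congrFun hY 0) 0
  have EY2 := congrFun (congrFun hY 0) 1
  have EY3 := congrFun (congrFun hY 1) 0
  simp only [Matrix.mul_apply, Fin.sum_univ_two] at EX1 EX2 EX3 EY1 EY2 EY3
  have comm_of : (X 0 1 * Y 1 0 - Y 0 1 * X 1 0 = 0) →
      (X 0 0 * Y 0 1 + X 0 1 * Y 1 1 - Y 0 0 * X 0 1 - Y 0 1 * X 1 1 = 0) →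
      (X 1 0 * Y 0 0 + X 1 1 * Y 1 0 - Y 1 0 * X 0 0 - Y 1 1 * X 1 0 = 0) → X * Y = Y * X := by
    intro g1 g2 g3
    ext i j
    fin_cases i <;> fin_cases j <;> simp [Matrix.mul_apply, Fin.sum_univ_two]
    · linear_combination g1
    · linear_combination g2
    · linear_combination g3
    · linear_combination -g1
  have hb : A 0 1 = 0 := by
    by_contra hb
    apply hXY
    have g1 : A 0 1 * (X 0 1 * Y 1 0 - Y 0 1 * X 1 0) = 0 := by
      linear_combination X 0 1 * EY1 - Y 0 1 * EX1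
    have g2 : A 0 1 * (X 0 0 * Y 0 1 + X 0 1 * Y 1 1 - Y 0 0 * X 0 1 - Y 0 1 * X 1 1) = 0 := by
      linear_combination (-Y 0 1) * EX2 + X 0 1 * EY2
    have g3 : (A 0 1 * A 0 1) * (X 1 0 * Y 0 0 + X 1 1 * Y 1 0 - Y 1 0 * X 0 0 - Y 1 1 * X 1 0) = 0 := by
      linear_combination (Y 0 1 * A 1 0) * EX2 + (A 0 1 * (X 1 1 - X 0 0)) * EY1
        - (X 0 1 * A 1 0) * EY2 - (A 0 1 * (Y 1 1 - Y 0 0)) * EX1
    exact comm_of ((mul_eq_zero.mp g1).resolve_left hb) ((mul_eq_zero.mp g2).resolve_left hb)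
      ((mul_eq_zero.mp g3).resolve_left (mul_ne_zero hb hb))
  have hc : A 1 0 = 0 := by
    by_contra hc
    apply hXY
    have g1 : A 1 0 * (X 0 1 * Y 1 0 - Y 0 1 * X 1 0) = 0 := by
      linear_combination (-Y 1 0) * EX1 + X 1 0 * EY1
    have g3 : A 1 0 * (X 1 0 * Y 0 0 + X 1 1 * Y 1 0 - Y 1 0 * X 0 0 - Y 1 1 * X 1 0) = 0 := by
      linear_combination (-Y 1 0) * EX3 + X 1 0 * EY3
    have g2 : (A 1 0 * A 1 0) * (X 0 0 * Y 0 1 + X 0 1 * Y 1 1 - Y 0 0 * X 0 1 - Y 0 1 * X 1 1) = 0 := by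
      linear_combination (A 0 1 * Y 1 0) * EX3 - (A 1 0 * (X 0 0 - X 1 1)) * EY1
        - (A 0 1 * X 1 0) * EY3 + (A 1 0 * (Y 0 0 - Y 1 1)) * EX1
    exact comm_of ((mul_eq_zero.mp g1).resolve_left hc)
      ((mul_eq_zero.mp g2).resolve_left (mul_ne_zero hc hc)) ((mul_eq_zero.mp g3).resolve_left hc)
  have had : A 0 0 = A 1 1 := by
    by_contra had
    have he : A 0 0 - A 1 1 ≠ 0 := sub_ne_zero.mpr had
    apply hXY
    have g1 : ((A 0 0 - A 1 1) * (A 0 0 - A 1 1)) * (X 0 1 * Y 1 0 - Y 0 1 * X 1 0) = 0 := by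
      linear_combination ((A 0 0 - A 1 1) * Y 1 0) * EX2 - (A 0 1 * (X 0 0 - X 1 1)) * EY3
        + (A 0 1 * (Y 0 0 - Y 1 1)) * EX3 - ((A 0 0 - A 1 1) * X 1 0) * EY2
    have g2 : (A 0 0 - A 1 1) * (X 0 0 * Y 0 1 + X 0 1 * Y 1 1 - Y 0 0 * X 0 1 - Y 0 1 * X 1 1) = 0 := by
      linear_combination (X 0 0 - X 1 1) * EY2 - (Y 0 0 - Y 1 1) * EX2
    have g3 : (A 0 0 - A 1 1) * (X 1 0 * Y 0 0 + X 1 1 * Y 1 0 - Y 1 0 * X 0 0 - Y 1 1 * X 1 0) = 0 := by
      linear_combination (X 0 0 - X 1 1) * EY3 - (Y 0 0 - Y 1 1) * EX3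
    exact comm_of ((mul_eq_zero.mp g1).resolve_left (mul_ne_zero he he))
      ((mul_eq_zero.mp g2).resolve_left he) ((mul_eq_zero.mp g3).resolve_left he)
  ext i j
  fin_cases i <;> fin_cases j <;> simp [hb, hc, had]

theorem k0_central (p : Gam F) : p * k0 F = k0 F * p := by
  apply Subtype.ext
  apply Prod.ext
  · show p.1.1 * 1 = 1 * p.1.1
    rw [mul_one, one_mul]
  · show p.1.2 * (-1) = (-1) * p.1.2
    rw [mul_neg, neg_mul, mul_one, one_mul]

theorem t0_central (p : Gam F) : piG F p * t0 F = t0 F * piG F p := by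
  rw [t0, ← map_mul, ← map_mul, k0_central]

theorem t0_ne_one (h2 : (2 : F) ≠ 0) : t0 F ≠ 1 := by
  intro h
  obtain ⟨h12, _⟩ := (piG_eq_one_iff _).mp h
  have h3 : (1 : GL (Fin 2) F) = -1 := h12
  have h4 := congrArg (fun u : GL (Fin 2) F => (u : M2) 0 0) h3
  simp at h4
  apply h2
  have : (2 : F) = 1 + 1 := by norm_num
  rw [this]
  nth_rewrite 1 [h4]
  ring

theorem t0_mul_t0 : t0 F * t0 F = 1 := by
  rw [t0, ← map_mul, piG_eq_one_iff]
  refine ⟨?_, 1, ?_⟩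
  · show (1 : GL (Fin 2) F) * 1 = (-1) * (-1)
    simp
  · show ((1 * 1 : GL (Fin 2) F) : M2) = _
    simp

theorem t0_eq_rho : t0 F = rho F (1, zz) := by
  rw [rho_apply, t0]
  congr 1
  apply Subtype.ext
  apply Prod.ext
  · show (1 : GL (Fin 2) F) = SpecialLinearGroup.toGL (1 : SL2)
    rw [map_one]
  · show (-1 : GL (Fin 2) F) = SpecialLinearGroup.toGL (zz : SL2)
    apply Units.ext
    rw [SpecialLinearGroup.coe_GL_coe_matrix, zz_val]
    ext i j
    fin_cases i <;> fin_cases j <;> simp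

/-- an element of the image of `Γ` both of whose components are scalar is `1` or `t₀` -/
theorem eq_one_or_t0_of_scalar (p : Gam F) (a b : F)
    (ha : (p.1.1 : M2) = Matrix.scalar (Fin 2) a) (hb : (p.1.2 : M2) = Matrix.scalar (Fin 2) b) :
    piG F p = 1 ∨ piG F p = t0 F := by
  have hdet : a ^ 2 = b ^ 2 := by
    have h1 := (mem_Gam_iff p.1).mp p.2
    have h2 := congrArg (fun u : Fˣ => (u : F)) h1
    simp only [Matrix.GeneralLinearGroup.val_det_apply] at h2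
    rw [ha, hb] at h2
    simpa [det_fin_two] using h2
  rcases sq_eq_sq_iff_eq_or_eq_neg.mp hdet with h | h
  · left
    rw [piG_eq_one_iff]
    refine ⟨?_, a, ha⟩
    apply Units.ext
    rw [ha, hb, h]
  · right
    have h1 : piG F (p * (k0 F)⁻¹) = 1 := by
      rw [piG_eq_one_iff]
      have e1 : ((p * (k0 F)⁻¹ : Gam F).1.1 : GL (Fin 2) F) = p.1.1 * 1⁻¹ := rfl
      have e2 : ((p * (k0 F)⁻¹ : Gam F).1.2 : GL (Fin 2) F) = p.1.2 * (-1)⁻¹ := rfl
      rw [e1, e2]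
      refine ⟨?_, a, ?_⟩
      · apply Units.ext
        rw [inv_one, mul_one, inv_neg, inv_one, mul_neg, mul_one, Units.val_neg, ha, hb, h]
        simp
      · rw [inv_one, mul_one, ha]
    rw [map_mul, map_inv, mul_inv_eq_one] at h1
    exact h1

end Cfsg.Agent.helper17.G2S
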