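import Mathlib
import Cfsg.Agent.Lib_helper17_G2g

set_option autoImplicit false
set_option linter.unusedSectionVars false

/-!
# Generic group theory for the Sylow 2-subgroup of `G₂(q)`
-/

namespace Cfsg.Agent.helper17.G2S

open Subgroup Cfsg.Agent.helper17.SylPC
open scoped commutatorElement Pointwise

theorem pc_prod {G₁ G₂ : Type*} [Group G₁] [Group G₂] (H₁ : Subgroup G₁) (H₂ : Subgroup G₂)
    (h₁ : PC H₁) (h₂ : PC H₂) : PC (H₁.prod H₂) := by
  intro z hz
  have hz1 : z.1 ∈ H₁ := (Subgroup.mem_prod.mp hz).1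
  have hz2 : z.2 ∈ H₂ := (Subgroup.mem_prod.mp hz).2
  have e : z ^ 2 = MonoidHom.inl G₁ G₂ (z.1 ^ 2) * MonoidHom.inr G₁ G₂ (z.2 ^ 2) := by
    apply Prod.ext <;> simp
  rw [e]
  apply Subgroup.mul_mem
  · have h := Subgroup.mem_map_of_mem (MonoidHom.inl G₁ G₂) (h₁ z.1 hz1)
    rw [Subgroup.map_commutator] at h
    refine Subgroup.commutator_mono ?_ ?_ h
    · rintro _ ⟨x, hx, rfl⟩
      exact Subgroup.mem_prod.mpr ⟨hx, H₂.one_mem⟩
    · rintro _ ⟨x, hx, rfl⟩
      exact Subgroup.mem_prod.mpr ⟨hx, H₂.one_mem⟩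
  · have h := Subgroup.mem_map_of_mem (MonoidHom.inr G₁ G₂) (h₂ z.2 hz2)
    rw [Subgroup.map_commutator] at h
    refine Subgroup.commutator_mono ?_ ?_ h
    · rintro _ ⟨x, hx, rfl⟩
      exact Subgroup.mem_prod.mpr ⟨H₁.one_mem, hx⟩
    · rintro _ ⟨x, hx, rfl⟩
      exact Subgroup.mem_prod.mpr ⟨H₁.one_mem, hx⟩

theorem isPGroup_zpowers_of_sq {G : Type*} [Group G] (w : G) (hw : w * w = 1) :
    IsPGroup 2 (Subgroup.zpowers w) := by
  rintro ⟨g, hg⟩
  refine ⟨1, ?_⟩
  apply Subtype.ext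
  obtain ⟨k, rfl⟩ := Subgroup.mem_zpowers_iff.mp hg
  show (w ^ k) ^ 2 ^ 1 = 1
  rw [pow_one, ← zpow_natCast, ← zpow_mul, mul_comm, zpow_mul, zpow_natCast, pow_two, hw, one_zpow]

theorem isPGroup_prod {G₁ G₂ : Type*} [Group G₁] [Group G₂] (H₁ : Subgroup G₁) (H₂ : Subgroup G₂)
    (h₁ : IsPGroup 2 H₁) (h₂ : IsPGroup 2 H₂) : IsPGroup 2 (H₁.prod H₂) := by
  rintro ⟨z, hz⟩
  obtain ⟨a, ha⟩ := h₁ ⟨z.1, (Subgroup.mem_prod.mp hz).1⟩
  obtain ⟨b, hb⟩ := h₂ ⟨z.2, (Subgroup.mem_prod.mp hz).2⟩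
  have ha' : z.1 ^ 2 ^ a = 1 := congrArg Subtype.val ha
  have hb' : z.2 ^ 2 ^ b = 1 := congrArg Subtype.val hb
  refine ⟨a + b, ?_⟩
  apply Subtype.ext
  show z ^ 2 ^ (a + b) = 1
  apply Prod.ext
  · show z.1 ^ 2 ^ (a + b) = 1
    rw [pow_add, pow_mul, ha', one_pow]
  · show z.2 ^ 2 ^ (a + b) = 1
    rw [pow_add, mul_comm, pow_mul, hb', one_pow]

/-- an involutory automorphism fixes some Sylow `2`-subgroup -/
theorem exists_fixed_sylow {K : Type*} [Group K] [Finite K] (α : K ≃* K)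
    (hα : ∀ s, α (α s) = s) :
    ∃ S : Sylow 2 K, ∀ s ∈ (S : Subgroup K), α s ∈ (S : Subgroup K) := by
  have : Fact (Nat.Prime 2) := ⟨Nat.prime_two⟩
  let A : MulAut K := α
  have hAA : A * A = 1 := by
    ext s
    exact hα s
  have hH : IsPGroup 2 (Subgroup.zpowers A) := isPGroup_zpowers_of_sq A hAA
  have hodd : ¬ 2 ∣ Nat.card (Sylow 2 K) := by
    have h1 := card_sylow_modEq_one 2 K
    intro h2
    have h3 : Nat.card (Sylow 2 K) % 2 = 0 := Nat.mod_eq_zero_of_dvd h2
    have h4 : Nat.card (Sylow 2 K) % 2 = 1 % 2 := h1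
    omega
  obtain ⟨S, hS⟩ := hH.nonempty_fixed_point_of_prime_not_dvd_card (Sylow 2 K) hodd
  refine ⟨S, ?_⟩
  intro s hs
  have h1 : (⟨A, Subgroup.mem_zpowers A⟩ : Subgroup.zpowers A) • S = S := hS _
  have h2 : A • S = S := h1
  have h3 : A • s ∈ (A • S : Sylow 2 K) := by
    show A • s ∈ ((A • S : Sylow 2 K) : Subgroup K)
    rw [Sylow.pointwise_smul_def]
    exact Subgroup.smul_mem_pointwise_smul s A _ hs
  rw [h2] at h3
  exact h3

/-- index-two type bound -/
theorem two_mul_card_le {G : Type*} [Group G] [Finite G] (V W : Subgroup G) (hVW : V ≤ W)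
    (w : G) (hw : w ∈ W) (hwV : w ∉ V) : 2 * Nat.card V ≤ Nat.card W := by
  obtain ⟨k, hk⟩ := Subgroup.card_dvd_of_le hVW
  have hk0 : k ≠ 0 := by
    intro h
    rw [h, mul_zero] at hk
    exact Nat.card_pos.ne' hk
  have hk1 : k ≠ 1 := by
    intro h
    rw [h, mul_one] at hk
    have : V = W := Subgroup.eq_of_le_of_card_ge hVW hk.le
    exact hwV (this ▸ hw)
  rw [hk, mul_comm]
  apply Nat.mul_le_mul_left
  omega

/-- a `p`-subgroup which is Sylow in a subgroup containing its normalizer is Sylow -/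
theorem card_eq_of_normalizer_le {G : Type*} [Group G] [Finite G] (W C : Subgroup G)
    (hW : IsPGroup 2 W) (hN : Subgroup.normalizer (W : Set G) ≤ C)
    (hcard : 2 ^ (Nat.card C).factorization 2 ≤ Nat.card W) :
    Nat.card W = 2 ^ (Nat.card G).factorization 2 := by
  have : Fact (Nat.Prime 2) := ⟨Nat.prime_two⟩
  obtain ⟨P, hP⟩ := hW.exists_le_sylow
  have hWP : W = (P : Subgroup G) := by
    by_contra hne
    have hlt : W < (P : Subgroup G) := lt_of_le_of_ne hP hne
    -- normalizer condition in the nilpotent group `P`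
    haveI : Group.IsNilpotent (P : Subgroup G) := P.isPGroup'.isNilpotent
    have hnc := Group.normalizerCondition_of_isNilpotent (G := (P : Subgroup G))
    have hlt' : W.subgroupOf (P : Subgroup G) < ⊤ := by
      rw [lt_top_iff_ne_top]
      intro h
      rw [Subgroup.subgroupOf_eq_top] at h
      exact hne (le_antisymm hP h)
    have h1 := hnc _ hlt'
    obtain ⟨y, hyN0, hyW⟩ := Set.exists_of_ssubset h1
    have hyN : y ∈ Subgroup.normalizer ((W.subgroupOf (P : Subgroup G) : Subgroup (P : Subgroup G)) : Set (P : Subgroup G)) := hyN0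
    have hyW' : (y : G) ∉ W := fun h => hyW (Subgroup.mem_subgroupOf.mpr h)
    have hyNG : (y : G) ∈ Subgroup.normalizer (W : Set G) := by
      rw [Subgroup.mem_normalizer_iff]
      intro h
      rw [Subgroup.mem_normalizer_iff] at hyN
      constructor
      · intro hh
        have := (hyN ⟨h, hP hh⟩).mp (Subgroup.mem_subgroupOf.mpr hh)
        exact Subgroup.mem_subgroupOf.mp this
      · intro hh
        have hhP : h ∈ (P : Subgroup G) := by
          have h2 : (y : G) * h * (y : G)⁻¹ ∈ (P : Subgroup G) := hP hh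
          have h3 : h = (y : G)⁻¹ * ((y : G) * h * (y : G)⁻¹) * (y : G) := by group
          rw [h3]
          exact Subgroup.mul_mem _ (Subgroup.mul_mem _ (Subgroup.inv_mem _ y.2) h2) y.2
        have := (hyN ⟨h, hhP⟩).mpr (Subgroup.mem_subgroupOf.mpr hh)
        exact Subgroup.mem_subgroupOf.mp this
    have hyC : (y : G) ∈ C := hN hyNG
    -- the bigger 2-group
    set W' : Subgroup G := W ⊔ Subgroup.zpowers (y : G) with hW'
    have hW'P : W' ≤ (P : Subgroup G) := by
      apply sup_le hP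
      rw [Subgroup.zpowers_le]
      exact y.2
    have hW'C : W' ≤ C := by
      apply sup_le
      · exact le_trans Subgroup.le_normalizer hN
      · rw [Subgroup.zpowers_le]
        exact hyC
    have hW'p : IsPGroup 2 W' := P.isPGroup'.to_le hW'P
    obtain ⟨n, hn⟩ := IsPGroup.iff_card.mp hW'p
    have hdvd : Nat.card W' ∣ Nat.card C := Subgroup.card_dvd_of_le hW'C
    rw [hn] at hdvd
    have hn' : n ≤ (Nat.card C).factorization 2 :=
      (Nat.Prime.pow_dvd_iff_le_factorization Nat.prime_two Nat.card_pos.ne').mp hdvd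
    have h2 : Nat.card W' ≤ Nat.card W := by
      rw [hn]
      exact le_trans (Nat.pow_le_pow_right (by norm_num) hn') hcard
    have h3 : W = W' := Subgroup.eq_of_le_of_card_ge le_sup_left h2
    apply hyW'
    rw [h3]
    exact (le_sup_right : Subgroup.zpowers (y : G) ≤ W') (Subgroup.mem_zpowers _)
  rw [hWP, Sylow.card_eq_multiplicity]

end Cfsg.Agent.helper17.G2S
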