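import Mathlib
import Cfsg.Agent.Lib_helper17_G2h

set_option autoImplicit false
set_option linter.unusedSectionVars false

/-!
# The Sylow 2-subgroups of `G₂(q)`, `q` odd
-/

namespace Cfsg.Agent.helper17.G2S

open Matrix Subgroup Cfsg.Lie Cfsg.Agent.helper17.O4 Cfsg.Agent.helper17.SylPC
open scoped commutatorElement Pointwise

variable {F : Type*} [Field F] [Fintype F]

local notation "M2" => Matrix (Fin 2) (Fin 2) F
local notation "SL2" => Matrix.SpecialLinearGroup (Fin 2) F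

theorem pc_sylow_SL2 (hF : Odd (Fintype.card F)) (h2 : (2 : F) ≠ 0) (S : Sylow 2 SL2) :
    PC (S : Subgroup SL2) := by
  obtain ⟨Q₁, hQ₁⟩ := exists_sylow_SL2 hF h2
  apply pc_of_type
  intro x
  apply sylow_of_pc (Q₁ : Subgroup SL2) Q₁.isPGroup' (pc_of_type _ hQ₁) _ S x
  have : Fact (Nat.Prime 2) := ⟨Nat.prime_two⟩
  rw [Sylow.card_eq_multiplicity]

/-- non-commuting elements and the central involution in any Sylow 2-subgroup of `SL₂` -/
theorem exists_noncomm (hF : Odd (Fintype.card F)) (h2 : (2 : F) ≠ 0) (S : Sylow 2 SL2) :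
    ∃ x y : SL2, x ∈ (S : Subgroup SL2) ∧ y ∈ (S : Subgroup SL2) ∧ x.1 * y.1 ≠ y.1 * x.1 ∧
      (zz : SL2) ∈ (S : Subgroup SL2) := by
  have : Fact (Nat.Prime 2) := ⟨Nat.prime_two⟩
  obtain ⟨u, v, huv⟩ := exists_sq_add_sq hF
  obtain ⟨P', hP'⟩ := (Q8_isPGroup u v huv).exists_le_sylow
  obtain ⟨g, hg⟩ := MulAction.exists_smul_eq SL2 P' S
  have hS : (S : Subgroup SL2) = (P' : Subgroup SL2).map (MulAut.conj g).toMonoidHom := by
    rw [← hg, Sylow.coe_subgroup_smul, Subgroup.pointwise_smul_def]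
    rfl
  have hx : g * xx * g⁻¹ ∈ (S : Subgroup SL2) := by
    rw [hS]
    exact ⟨xx, hP' (xx_mem_Q8 u v huv), rfl⟩
  have hy : g * yy u v huv * g⁻¹ ∈ (S : Subgroup SL2) := by
    rw [hS]
    exact ⟨yy u v huv, hP' (yy_mem_Q8 u v huv), rfl⟩
  refine ⟨g * xx * g⁻¹, g * yy u v huv * g⁻¹, hx, hy, ?_, ?_⟩
  · intro h
    have h' : (g * xx * g⁻¹) * (g * yy u v huv * g⁻¹) = (g * yy u v huv * g⁻¹) * (g * xx * g⁻¹) :=
      Subtype.ext h
    apply xx_yy_ne h2 u v huv
    have e1 : (g * xx * g⁻¹) * (g * yy u v huv * g⁻¹) = g * (xx * yy u v huv) * g⁻¹ := by group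
    have e2 : (g * yy u v huv * g⁻¹) * (g * xx * g⁻¹) = g * (yy u v huv * xx) * g⁻¹ := by group
    rw [e1, e2] at h'
    exact mul_left_cancel (mul_right_cancel h')
  · have e : (zz : SL2) = (g * xx * g⁻¹) * (g * xx * g⁻¹) := by
      have e1 : (g * xx * g⁻¹) * (g * xx * g⁻¹) = g * (xx * xx) * g⁻¹ := by group
      rw [e1, xx_mul_xx, zz_comm g, mul_assoc, mul_inv_cancel, mul_one]
    rw [e]
    exact Subgroup.mul_mem _ hx hx

section main

/-- the image of `S × S` -/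
def VV (S : Sylow 2 (Matrix.SpecialLinearGroup (Fin 2) F)) : Subgroup (G2 F) :=
  ((S : Subgroup (Matrix.SpecialLinearGroup (Fin 2) F)).prod
    (S : Subgroup (Matrix.SpecialLinearGroup (Fin 2) F))).map (rho F)

/-- the candidate Sylow subgroup -/
def WW (ν : F) (hν : ν ≠ 0) (S : Sylow 2 (Matrix.SpecialLinearGroup (Fin 2) F)) : Subgroup (G2 F) :=
  VV S ⊔ Subgroup.zpowers (ww ν hν)

theorem pc_VV (hF : Odd (Fintype.card F)) (h2 : (2 : F) ≠ 0) (S : Sylow 2 SL2) : PC (VV S) :=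
  pc_map _ _ (pc_prod _ _ (pc_sylow_SL2 hF h2 S) (pc_sylow_SL2 hF h2 S))

theorem isPGroup_VV (S : Sylow 2 SL2) : IsPGroup 2 (VV S) :=
  (isPGroup_prod _ _ S.isPGroup' S.isPGroup').map _

theorem VV_le_range (S : Sylow 2 SL2) : VV S ≤ (rho F).range := by
  rintro _ ⟨s, _, rfl⟩
  exact ⟨s, rfl⟩

theorem rho_range_le : (rho F).range ≤ (piG F).range := by
  rintro _ ⟨s, rfl⟩
  exact ⟨iotaSL F s, rfl⟩

theorem ww_normalizes (ν : F) (hν : ν ≠ 0) (S : Sylow 2 SL2)
    (hS : ∀ s ∈ (S : Subgroup SL2), alpha (c1 ν hν) s ∈ (S : Subgroup SL2)) :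
    Subgroup.zpowers (ww ν hν) ≤ Subgroup.normalizer (VV S : Set (G2 F)) := by
  rw [Subgroup.zpowers_le]
  have key : ∀ h ∈ VV S, ww ν hν * h * (ww ν hν)⁻¹ ∈ VV S := by
    rintro _ ⟨s, hs, rfl⟩
    rw [ww_conj]
    refine ⟨_, ?_, rfl⟩
    have hs' := Subgroup.mem_prod.mp hs
    exact Subgroup.mem_prod.mpr ⟨hS _ hs'.1, hS _ hs'.2⟩
  rw [Subgroup.mem_normalizer_iff]
  intro h
  constructor
  · exact key h
  · intro hh
    have h1 := key _ hh
    have hwi : (ww ν hν)⁻¹ = ww ν hν := inv_eq_of_mul_eq_one_right (ww_mul_ww ν hν)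
    have e : ww ν hν * (ww ν hν * h * (ww ν hν)⁻¹) * (ww ν hν)⁻¹ = h := by
      rw [hwi]
      calc ww ν hν * (ww ν hν * h * ww ν hν) * ww ν hν
          = (ww ν hν * ww ν hν) * h * (ww ν hν * ww ν hν) := by group
        _ = h := by rw [ww_mul_ww, one_mul, mul_one]
    rwa [e] at h1

theorem pc_WW (hF : Odd (Fintype.card F)) (h2 : (2 : F) ≠ 0) (ν : F) (hν : ν ≠ 0) (S : Sylow 2 SL2) :
    PC (WW ν hν S) := by
  apply pc_sup _ _ (pc_VV hF h2 S)
  rw [Subgroup.zpowers_le]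
  apply Subgroup.subset_closure
  refine ⟨Subgroup.mem_zpowers _, ?_⟩
  rw [pow_two, ww_mul_ww]

theorem isPGroup_WW (ν : F) (hν : ν ≠ 0) (S : Sylow 2 SL2)
    (hS : ∀ s ∈ (S : Subgroup SL2), alpha (c1 ν hν) s ∈ (S : Subgroup SL2)) : IsPGroup 2 (WW ν hν S) :=
  (isPGroup_VV S).to_sup_of_normal_left' (isPGroup_zpowers_of_sq _ (ww_mul_ww ν hν))
    (ww_normalizes ν hν S hS)

theorem WW_le_range (ν : F) (hν : ν ≠ 0) (S : Sylow 2 SL2) : WW ν hν S ≤ (piG F).range := by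
  apply sup_le
  · exact le_trans (VV_le_range S) rho_range_le
  · rw [Subgroup.zpowers_le]
    exact ⟨k1 ν hν, rfl⟩

theorem card_VV (h2 : (2 : F) ≠ 0) (S : Sylow 2 SL2) :
    Nat.card (S : Subgroup SL2) ^ 2 ≤ 2 * Nat.card (VV S) := by
  classical
  set H : Subgroup (SL2 × SL2) := (S : Subgroup SL2).prod (S : Subgroup SL2) with hH
  let f : H →* G2 F := (rho F).domRestrict H
  have hrange : f.range = VV S := MonoidHom.domRestrict_range _ _
  have h1 := Subgroup.card_mul_index f.ker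
  rw [Subgroup.index_ker, hrange] at h1
  have h3 : Nat.card H = Nat.card (S : Subgroup SL2) ^ 2 := by
    rw [Nat.card_congr (Subgroup.prodEquiv _ _).toEquiv, Nat.card_prod, sq]
  have hk : Nat.card f.ker ≤ 2 := by
    let κ : f.ker → Bool := fun x => decide ((x.1.1 : SL2 × SL2) = 1)
    have hκ : Function.Injective κ := by
      intro x y hxy
      have hx : rho F (x.1.1 : SL2 × SL2) = 1 := x.2
      have hy : rho F (y.1.1 : SL2 × SL2) = 1 := y.2
      have hz : ((zz, zz) : SL2 × SL2) ≠ 1 := by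
        intro h
        exact zz_ne_one h2 (congrArg Prod.fst h)
      apply Subtype.ext
      apply Subtype.ext
      rcases rho_eq_one h2 _ hx with h | h <;> rcases rho_eq_one h2 _ hy with h' | h'
      · rw [h, h']
      · exfalso
        have hκx : κ x = true := decide_eq_true h
        have hκy : κ y = false := decide_eq_false (by rw [h']; exact hz)
        rw [hκx, hκy] at hxy
        exact Bool.noConfusion hxy
      · exfalso
        have hκx : κ x = false := decide_eq_false (by rw [h]; exact hz)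
        have hκy : κ y = true := decide_eq_true h'
        rw [hκx, hκy] at hxy
        exact Bool.noConfusion hxy
      · rw [h, h']
    have := Nat.card_le_card_of_injective κ hκ
    simpa using this
  rw [← h3, ← h1]
  exact Nat.mul_le_mul_right _ hk

theorem card_WW (h2 : (2 : F) ≠ 0) (ν : F) (hν : ν ≠ 0) (hsq : ¬ IsSquare ν) (S : Sylow 2 SL2) :
    Nat.card (S : Subgroup SL2) ^ 2 ≤ Nat.card (WW ν hν S) := by
  have h1 := card_VV h2 S
  have h3 : 2 * Nat.card (VV S) ≤ Nat.card (WW ν hν S) := by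
    apply two_mul_card_le (VV S) (WW ν hν S) le_sup_left (ww ν hν)
    · exact (le_sup_right : Subgroup.zpowers (ww ν hν) ≤ WW ν hν S) (Subgroup.mem_zpowers _)
    · intro h
      exact ww_not_mem ν hν hsq (VV_le_range S h)
  exact le_trans h1 h3

theorem central_WW (hF : Odd (Fintype.card F)) (h2 : (2 : F) ≠ 0) (ν : F) (hν : ν ≠ 0) (S : Sylow 2 SL2)
    (z : G2 F) (hz : z ∈ WW ν hν S)
    (hc : ∀ x ∈ WW ν hν S, z * x = x * z) : z = 1 ∨ z = t0 F := by
  obtain ⟨x₁, y₁, hx₁, hy₁, hxy, _⟩ := exists_noncomm hF h2 S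
  obtain ⟨p, rfl⟩ := WW_le_range ν hν S hz
  have hmemL : ∀ s ∈ (S : Subgroup SL2), rho F (s, 1) ∈ WW ν hν S := by
    intro s hs
    apply (le_sup_left : VV S ≤ WW ν hν S)
    exact ⟨(s, 1), Subgroup.mem_prod.mpr ⟨hs, Subgroup.one_mem _⟩, rfl⟩
  have hmemR : ∀ s ∈ (S : Subgroup SL2), rho F (1, s) ∈ WW ν hν S := by
    intro s hs
    apply (le_sup_left : VV S ≤ WW ν hν S)
    exact ⟨(1, s), Subgroup.mem_prod.mpr ⟨Subgroup.one_mem _, hs⟩, rfl⟩
  have a1 := commute_of_commute_left p x₁ (hc _ (hmemL x₁ hx₁))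
  have a2 := commute_of_commute_left p y₁ (hc _ (hmemL y₁ hy₁))
  have b1 := commute_of_commute_right p x₁ (hc _ (hmemR x₁ hx₁))
  have b2 := commute_of_commute_right p y₁ (hc _ (hmemR y₁ hy₁))
  exact eq_one_or_t0_of_scalar p _ _ (scalar_of_commute_two _ _ _ a1 a2 hxy)
    (scalar_of_commute_two _ _ _ b1 b2 hxy)

theorem t0_mem_WW (hF : Odd (Fintype.card F)) (h2 : (2 : F) ≠ 0) (ν : F) (hν : ν ≠ 0) (S : Sylow 2 SL2) :
    t0 F ∈ WW ν hν S := by
  obtain ⟨_, _, _, _, _, hzz⟩ := exists_noncomm hF h2 S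
  apply (le_sup_left : VV S ≤ WW ν hν S)
  rw [t0_eq_rho]
  exact ⟨(1, zz), Subgroup.mem_prod.mpr ⟨Subgroup.one_mem _, hzz⟩, rfl⟩

theorem normalizer_WW_le (hF : Odd (Fintype.card F)) (h2 : (2 : F) ≠ 0) (ν : F) (hν : ν ≠ 0) (S : Sylow 2 SL2) :
    Subgroup.normalizer (WW ν hν S : Set (G2 F)) ≤ (piG F).range := by
  intro g hg
  rw [Subgroup.mem_normalizer_iff] at hg
  have ht := t0_mem_WW hF h2 ν hν S
  have h1 : g * t0 F * g⁻¹ ∈ WW ν hν S := (hg _).mp ht
  have h2' : ∀ x ∈ WW ν hν S, (g * t0 F * g⁻¹) * x = x * (g * t0 F * g⁻¹) := by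
    intro x hx
    have hx' : g⁻¹ * x * g ∈ WW ν hν S := by
      rw [hg]
      have : g * (g⁻¹ * x * g) * g⁻¹ = x := by group
      rwa [this]
    obtain ⟨p, hp⟩ := WW_le_range ν hν S hx'
    have h3 : (g⁻¹ * x * g) * t0 F = t0 F * (g⁻¹ * x * g) := by
      rw [← hp]
      exact t0_central p
    calc (g * t0 F * g⁻¹) * x = g * (t0 F * (g⁻¹ * x * g)) * g⁻¹ := by group
      _ = g * ((g⁻¹ * x * g) * t0 F) * g⁻¹ := by rw [h3]
      _ = x * (g * t0 F * g⁻¹) := by group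
  rcases central_WW hF h2 ν hν S _ h1 h2' with h | h
  · exfalso
    apply t0_ne_one (F := F) h2
    have : t0 F = g⁻¹ * (g * t0 F * g⁻¹) * g := by group
    rw [this, h]
    group
  · apply mem_range_of_commute h2
    calc g * t0 F = (g * t0 F * g⁻¹) * g := by group
      _ = t0 F * g := by rw [h]

theorem main_G2 (hF : Odd (Fintype.card F)) (h2 : (2 : F) ≠ 0) (ν : F) (hν : ν ≠ 0) (hsq : ¬ IsSquare ν)
    (S : Sylow 2 SL2) (hS : ∀ s ∈ (S : Subgroup SL2), alpha (c1 ν hν) s ∈ (S : Subgroup SL2))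
    (P : Sylow 2 (G2 F)) (x : (P : Subgroup (G2 F))) :
    x ^ 2 ∈ commutator (P : Subgroup (G2 F)) := by
  have : Fact (Nat.Prime 2) := ⟨Nat.prime_two⟩
  apply sylow_of_pc (WW ν hν S) (isPGroup_WW ν hν S hS) (pc_WW hF h2 ν hν S) _ P x
  apply le_of_eq
  symm
  apply card_eq_of_normalizer_le (WW ν hν S) (piG F).range (isPGroup_WW ν hν S hS)
    (normalizer_WW_le hF h2 ν hν S)
  rw [card_range_piG, Nat.factorization_pow]
  have h3 : Nat.card (S : Subgroup SL2) = 2 ^ (Nat.card SL2).factorization 2 :=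
    Sylow.card_eq_multiplicity S
  have h4 := card_WW h2 ν hν hsq S
  rw [h3, ← pow_mul] at h4
  simpa [mul_comm] using h4

end main

/-- all Sylow 2-subgroups of `G₂(F)`, `|F|` odd, have their squares in the derived subgroup -/
theorem sylow_G2 (hF : Odd (Fintype.card F)) (P : Sylow 2 (G2 F)) (x : (P : Subgroup (G2 F))) :
    x ^ 2 ∈ commutator (P : Subgroup (G2 F)) := by
  have h2 : (2 : F) ≠ 0 := by
    apply Ring.two_ne_zero
    intro h
    have := (FiniteField.even_card_iff_char_two).mp h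
    obtain ⟨k, hk⟩ := hF
    omega
  have hchar : ringChar F ≠ 2 := by
    intro h
    have := (FiniteField.even_card_iff_char_two).mp h
    obtain ⟨k, hk⟩ := hF
    omega
  obtain ⟨ν, hsq⟩ := FiniteField.exists_nonsquare hchar
  have hν : ν ≠ 0 := by
    rintro rfl
    exact hsq ⟨0, by simp⟩
  obtain ⟨S, hS⟩ := exists_fixed_sylow (alpha (c1 ν hν)) (alpha_alpha ν hν)
  exact main_G2 hF h2 ν hν hsq S hS P x

end Cfsg.Agent.helper17.G2S
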