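import Mathlib

set_option autoImplicit false
set_option linter.unusedSectionVars false

/-!
# Block monomial subgroups of `GL`: index type `(bt × o) ⊕ x`
-/

namespace Cfsg.Agent.helper17.GLR

open Matrix

variable {F : Type*} [Field F]
variable {o : Type*} [Fintype o] [DecidableEq o]
variable {bt : Type*} [Fintype bt] [DecidableEq bt]
variable {x : Type*} [Fintype x] [DecidableEq x]

/-- block diagonal embedding on matrices -/
def beta0 : ((o → Matrix bt bt F) × (x → F)) →* Matrix ((bt × o) ⊕ x) ((bt × o) ⊕ x) F where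
  toFun g := fromBlocks (blockDiagonal g.1) 0 0 (diagonal g.2)
  map_one' := by
    show fromBlocks (blockDiagonal (1 : o → Matrix bt bt F)) 0 0 (diagonal (1 : x → F)) = 1
    have h1 : diagonal (1 : x → F) = 1 := diagonal_one
    rw [blockDiagonal_one, h1, fromBlocks_one]
  map_mul' g h := by
    show fromBlocks (blockDiagonal (g.1 * h.1)) 0 0 (diagonal (g.2 * h.2)) =
      fromBlocks (blockDiagonal g.1) 0 0 (diagonal g.2) *
        fromBlocks (blockDiagonal h.1) 0 0 (diagonal h.2)
    have e1 : blockDiagonal (g.1 * h.1) = blockDiagonal g.1 * blockDiagonal h.1 :=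
      blockDiagonal_mul g.1 h.1
    have e2 : diagonal (g.2 * h.2) = diagonal g.2 * diagonal h.2 :=
      (diagonal_mul_diagonal g.2 h.2).symm
    rw [fromBlocks_multiply, e1, e2]
    simp

theorem beta0_injective : Function.Injective (beta0 (F := F) (o := o) (bt := bt) (x := x)) := by
  intro g h hgh
  have h1 : fromBlocks (blockDiagonal g.1) 0 0 (diagonal g.2) =
      fromBlocks (blockDiagonal h.1) 0 0 (diagonal h.2) := hgh
  rw [fromBlocks_inj] at h1
  exact Prod.ext (blockDiagonal_injective h1.1) (diagonal_injective h1.2.2.2)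

/-- the domain group -/
abbrev BB (F : Type*) [Field F] (o bt x : Type*) [Fintype bt] [DecidableEq bt] : Type _ :=
  ((o → Matrix bt bt F) × (x → F))ˣ

/-- block diagonal embedding into `GL` -/
def beta : BB F o bt x →* GL ((bt × o) ⊕ x) F := Units.map beta0

theorem beta_injective : Function.Injective (beta (F := F) (o := o) (bt := bt) (x := x)) :=
  Units.map_injective beta0_injective

/-- signs on matrices -/
def delta1 : ((o ⊕ x) → ℤˣ) →* ((o → Matrix bt bt F) × (x → F)) where
  toFun e := (fun k => (((e (Sum.inl k) : ℤˣ) : ℤ) : F) • (1 : Matrix bt bt F),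
    fun i => (((e (Sum.inr i) : ℤˣ) : ℤ) : F))
  map_one' := by
    apply Prod.ext
    · funext k
      simp
    · funext i
      simp
  map_mul' e e' := by
    apply Prod.ext
    · funext k
      simp [smul_smul, mul_comm]
    · funext i
      simp

/-- signs into `GL` -/
def delta : ((o ⊕ x) → ℤˣ) →* GL ((bt × o) ⊕ x) F :=
  (beta (F := F) (o := o) (bt := bt) (x := x)).comp delta1.toHomUnits

theorem delta1_injective [Nonempty bt] (h2 : (2 : F) ≠ 0) :
    Function.Injective (delta1 (F := F) (o := o) (bt := bt) (x := x)) := by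
  have key : ∀ a b : ℤˣ, (((a : ℤˣ) : ℤ) : F) = (((b : ℤˣ) : ℤ) : F) → a = b := by
    intro a b hab
    rcases Int.units_eq_one_or a with ha | ha <;> rcases Int.units_eq_one_or b with hb | hb
    · rw [ha, hb]
    · exfalso
      rw [ha, hb] at hab
      apply h2
      simp at hab
      linear_combination hab
    · exfalso
      rw [ha, hb] at hab
      apply h2
      simp at hab
      linear_combination -hab
    · rw [ha, hb]
  intro e e' h
  have h1 := congrArg Prod.fst h
  have h2' := congrArg Prod.snd h
  funext k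
  rcases k with k | i
  · have h3 := congrFun h1 k
    simp only [delta1, MonoidHom.coe_mk, OneHom.coe_mk] at h3
    obtain ⟨j⟩ := ‹Nonempty bt›
    have h4 := congrFun (congrFun h3 j) j
    simp only [Matrix.smul_apply, one_apply_eq, smul_eq_mul, mul_one] at h4
    exact key _ _ h4
  · have h3 := congrFun h2' i
    simp only [delta1, MonoidHom.coe_mk, OneHom.coe_mk] at h3
    exact key _ _ h3

theorem delta_injective [Nonempty bt] (h2 : (2 : F) ≠ 0) :
    Function.Injective (delta (F := F) (o := o) (bt := bt) (x := x)) := by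
  intro e e' h
  have h1 := beta_injective h
  have h3 := congrArg Units.val h1
  exact delta1_injective h2 h3

theorem delta_sq (e : (o ⊕ x) → ℤˣ) :
    delta (F := F) (bt := bt) e * delta e = 1 := by
  rw [← map_mul]
  have : e * e = 1 := by
    funext i
    exact Int.units_mul_self (e i)
  rw [this, map_one]

theorem delta_comm_beta (e : (o ⊕ x) → ℤˣ) (g : BB F o bt x) :
    beta g * delta e = delta e * beta g := by
  unfold delta
  rw [MonoidHom.comp_apply, ← map_mul, ← map_mul]
  congr 1
  apply Units.ext
  apply Prod.ext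
  · funext k
    simp [delta1]
  · funext i
    simp [delta1, mul_comm]

/-- block permutation matrices -/
def pmB (σ : Equiv.Perm o) : Matrix (bt × o) (bt × o) F :=
  Matrix.of fun p p' => if p.1 = p'.1 ∧ p.2 = σ p'.2 then 1 else 0

theorem pmB_mul_blockDiagonal (σ : Equiv.Perm o) (A : o → Matrix bt bt F) :
    pmB σ * blockDiagonal A = blockDiagonal (fun k => A (σ⁻¹ k)) * pmB σ := by
  ext ⟨i, k⟩ ⟨j, k'⟩
  simp only [Matrix.mul_apply, pmB, of_apply, blockDiagonal_apply, Fintype.sum_prod_type]
  by_cases h : k = σ k'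
  · subst h
    rw [Finset.sum_eq_single i, Finset.sum_eq_single k']
    · rw [Finset.sum_eq_single j, Finset.sum_eq_single (σ k')]
      · simp
      · intro b _ hb
        simp [Ne.symm hb]
      · simp
      · intro b _ hb
        apply Finset.sum_eq_zero
        intro c _
        simp [hb]
      · simp
    · intro b _ hb
      simp [hb]
    · simp
    · intro b _ hb
      apply Finset.sum_eq_zero
      intro c _
      simp [Ne.symm hb]
    · simp
  · rw [Finset.sum_eq_zero, Finset.sum_eq_zero]
    · intro b _
      apply Finset.sum_eq_zero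
      intro c _
      by_cases h1 : k = c
      · subst h1
        simp [h]
      · simp [h1]
    · intro b _
      apply Finset.sum_eq_zero
      intro c _
      by_cases h1 : c = k'
      · subst h1
        simp [h]
      · simp [h1]

theorem pmB_one : pmB (F := F) (bt := bt) (1 : Equiv.Perm o) = 1 := by
  ext ⟨i, k⟩ ⟨j, k'⟩
  simp only [pmB, of_apply, one_apply]
  split_ifs with h1 h2 h2
  · rfl
  · exact absurd (Prod.ext h1.1 (by simpa using h1.2)) h2
  · exfalso
    apply h1
    have := Prod.mk.inj h2
    exact ⟨this.1, by simpa using this.2⟩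
  · rfl

theorem pmB_mul (σ τ : Equiv.Perm o) :
    pmB (F := F) (bt := bt) (σ * τ) = pmB σ * pmB τ := by
  ext ⟨i, k⟩ ⟨j, k'⟩
  simp only [Matrix.mul_apply, pmB, of_apply, Fintype.sum_prod_type, Equiv.Perm.coe_mul,
    Function.comp_apply]
  rw [Finset.sum_eq_single i, Finset.sum_eq_single (τ k')]
  · by_cases h1 : i = j <;> by_cases h2 : k = σ (τ k') <;> simp [h1, h2]
  · intro b _ hb
    simp [hb]
  · simp
  · intro b _ hb
    apply Finset.sum_eq_zero
    intro c _
    simp [Ne.symm hb]
  · simp

/-- block permutations as a monoid hom to matrices -/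
def perm0 : Equiv.Perm o →* Matrix ((bt × o) ⊕ x) ((bt × o) ⊕ x) F where
  toFun σ := fromBlocks (pmB σ) 0 0 1
  map_one' := by
    rw [pmB_one, fromBlocks_one]
  map_mul' σ τ := by
    rw [fromBlocks_multiply, pmB_mul]
    simp

/-- block permutations in `GL` -/
def perm : Equiv.Perm o →* GL ((bt × o) ⊕ x) F := perm0.toHomUnits

/-- reindexing the blocks -/
def reidx (σ : Equiv.Perm o) :
    ((o → Matrix bt bt F) × (x → F)) →* ((o → Matrix bt bt F) × (x → F)) where
  toFun g := (fun k => g.1 (σ⁻¹ k), g.2)
  map_one' := rfl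
  map_mul' _ _ := rfl

theorem perm_mul_beta (σ : Equiv.Perm o) (g : BB F o bt x) :
    perm (F := F) (bt := bt) (x := x) σ * beta g = beta (Units.map (reidx σ) g) * perm σ := by
  apply Units.ext
  show fromBlocks (pmB σ) 0 0 1 * fromBlocks (blockDiagonal g.1.1) 0 0 (diagonal g.1.2) =
    fromBlocks (blockDiagonal (fun k => g.1.1 (σ⁻¹ k))) 0 0 (diagonal g.1.2) *
      fromBlocks (pmB σ) 0 0 1
  rw [fromBlocks_multiply, fromBlocks_multiply, pmB_mul_blockDiagonal]
  simp

theorem perm_mul_delta (σ : Equiv.Perm o) (e : (o ⊕ x) → ℤˣ) :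
    perm (F := F) (bt := bt) (x := x) σ * delta e =
      delta (fun i => e (Sum.map (⇑σ⁻¹) id i)) * perm σ := by
  have h1 := perm_mul_beta (F := F) (bt := bt) (x := x) σ (delta1.toHomUnits e)
  have h2 : Units.map (reidx σ) (delta1.toHomUnits e) =
      (delta1 (F := F) (bt := bt)).toHomUnits (fun i => e (Sum.map (⇑σ⁻¹) id i)) := by
    apply Units.ext
    rfl
  unfold delta
  rw [MonoidHom.comp_apply, MonoidHom.comp_apply, h1, h2]

end Cfsg.Agent.helper17.GLR
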