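import Mathlib

set_option autoImplicit false
set_option linter.unusedSectionVars false

/-!
# Simultaneous sign-eigenspaces of commuting involutions (general index type)
-/

namespace Cfsg.Agent.helper17.GLR

open Matrix

variable {F : Type*} [Field F] {m : Type*} [Fintype m] [DecidableEq m]

/-- signs -/
def sgn (F : Type*) [Field F] (b : Bool) : F := if b then 1 else -1

theorem sgn_mul_of_ne {b b' : Bool} (h : b ≠ b') : sgn F b * sgn F b' = -1 := by
  cases b <;> cases b' <;> simp [sgn] at h ⊢

section family

variable {ι : Type*} (M : ι → Matrix m m F)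

/-- simultaneous sign spaces -/
def W (T : Finset ι) (s : ι → Bool) : Submodule F (m → F) where
  carrier := {v | ∀ i ∈ T, M i *ᵥ v = sgn F (s i) • v}
  add_mem' := by
    intro a b ha hb i hi
    rw [Matrix.mulVec_add, ha i hi, hb i hi, smul_add]
  zero_mem' := by
    intro i _
    simp
  smul_mem' := by
    intro c a ha i hi
    rw [Matrix.mulVec_smul, ha i hi, smul_comm]

theorem mem_W (T : Finset ι) (s : ι → Bool) (v : m → F) :
    v ∈ W M T s ↔ ∀ i ∈ T, M i *ᵥ v = sgn F (s i) • v := Iff.rfl

variable [DecidableEq ι]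

theorem iSup_W_eq_top (h2 : (2 : F) ≠ 0) (hinv : ∀ i, M i * M i = 1)
    (hcomm : ∀ i j, M i * M j = M j * M i) (T : Finset ι) : ⨆ s, W M T s = ⊤ := by
  induction T using Finset.induction_on with
  | empty =>
    rw [eq_top_iff]
    refine le_trans ?_ (le_iSup _ (fun _ => true))
    intro v _ i hi
    simp at hi
  | insert a T ha ih =>
    rw [eq_top_iff, ← ih]
    apply iSup_le
    intro s v hv
    have hdecomp : v = ((2 : F)⁻¹ • (v + M a *ᵥ v)) + ((2 : F)⁻¹ • (v - M a *ᵥ v)) := by
      rw [← smul_add]
      have : v + M a *ᵥ v + (v - M a *ᵥ v) = (2 : F) • v := by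
        rw [two_smul]; abel
      rw [this, smul_smul, inv_mul_cancel₀ h2, one_smul]
    rw [hdecomp]
    apply Submodule.add_mem
    · apply Submodule.mem_iSup_of_mem (Function.update s a true)
      intro i hi
      rw [Matrix.mulVec_smul, Matrix.mulVec_add, Matrix.mulVec_mulVec]
      by_cases hia : i = a
      · subst hia
        rw [hinv, Matrix.one_mulVec, Function.update_self]
        simp only [sgn, if_true, one_smul]
        rw [add_comm]
      · have hiT : i ∈ T := by
          rcases Finset.mem_insert.mp hi with h | h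
          · exact absurd h hia
          · exact h
        rw [Function.update_of_ne hia, hcomm, ← Matrix.mulVec_mulVec, hv i hiT,
          Matrix.mulVec_smul, ← smul_add, smul_comm]
    · apply Submodule.mem_iSup_of_mem (Function.update s a false)
      intro i hi
      rw [Matrix.mulVec_smul, Matrix.mulVec_sub, Matrix.mulVec_mulVec]
      by_cases hia : i = a
      · subst hia
        rw [hinv, Matrix.one_mulVec, Function.update_self]
        simp only [sgn, Bool.false_eq_true, if_false, neg_smul, one_smul, ← smul_neg, neg_sub]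
      · have hiT : i ∈ T := by
          rcases Finset.mem_insert.mp hi with h | h
          · exact absurd h hia
          · exact h
        rw [Function.update_of_ne hia, hcomm, ← Matrix.mulVec_mulVec, hv i hiT,
          Matrix.mulVec_smul, ← smul_sub, smul_comm]

end family


theorem sgn_sub_of_ne (h2 : (2 : F) ≠ 0) {b b' : Bool} (h : b ≠ b') : sgn F b - sgn F b' ≠ 0 := by
  cases b <;> cases b' <;> simp [sgn] at h ⊢
  · intro h3
    apply h2
    linear_combination -h3
  · intro h3
    apply h2
    linear_combination h3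

section indep

variable {ι : Type*} [Fintype ι] [DecidableEq ι] (M : ι → Matrix m m F)

/-- eigenvectors for distinct sign patterns are independent -/
theorem indep (h2 : (2 : F) ≠ 0) (T : Finset (ι → Bool)) :
    ∀ (x : (ι → Bool) → (m → F)), (∀ s ∈ T, x s ∈ W M Finset.univ s) → ∑ s ∈ T, x s = 0 →
      ∀ s ∈ T, x s = 0 := by
  induction T using Finset.induction_on with
  | empty =>
    intro x _ _ s hs
    simp at hs
  | insert s₀ T hs₀ ih =>
    intro x hx hsum
    rw [Finset.sum_insert hs₀] at hsum
    have key : ∀ s₁ ∈ T, x s₁ = 0 := by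
      intro s₁ hs₁
      have hne : s₀ ≠ s₁ := fun h => hs₀ (h ▸ hs₁)
      obtain ⟨e, he⟩ := Function.ne_iff.mp hne
      have h3 : ∑ s ∈ T, (sgn F (s e) - sgn F (s₀ e)) • x s = 0 := by
        have h4 := congrArg (fun v => M e *ᵥ v) hsum
        simp only [Matrix.mulVec_add, Matrix.mulVec_zero, Matrix.mulVec_sum] at h4
        rw [hx s₀ (Finset.mem_insert_self _ _) e (Finset.mem_univ _)] at h4
        have h5 : ∑ s ∈ T, M e *ᵥ x s = ∑ s ∈ T, sgn F (s e) • x s := by
          apply Finset.sum_congr rfl
          intro s hs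
          exact hx s (Finset.mem_insert_of_mem hs) e (Finset.mem_univ _)
        rw [h5] at h4
        have h6 : ∑ s ∈ T, (sgn F (s e) - sgn F (s₀ e)) • x s =
            ∑ s ∈ T, sgn F (s e) • x s - sgn F (s₀ e) • ∑ s ∈ T, x s := by
          rw [Finset.smul_sum, ← Finset.sum_sub_distrib]
          apply Finset.sum_congr rfl
          intro s _
          rw [sub_smul]
        rw [h6]
        have h7 : ∑ s ∈ T, x s = - x s₀ := by
          rw [eq_neg_iff_add_eq_zero, add_comm]; exact hsum
        rw [h7, smul_neg, sub_neg_eq_add, add_comm]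
        exact h4
      have h8 := ih (fun s => (sgn F (s e) - sgn F (s₀ e)) • x s)
        (fun s hs => Submodule.smul_mem _ _ (hx s (Finset.mem_insert_of_mem hs))) h3 s₁ hs₁
      rcases smul_eq_zero.mp h8 with h9 | h9
      · exact absurd h9 (sgn_sub_of_ne h2 (Ne.symm he))
      · exact h9
    intro s hs
    rcases Finset.mem_insert.mp hs with rfl | h
    · rw [Finset.sum_eq_zero key, add_zero] at hsum
      exact hsum
    · exact key s h

open Classical in
/-- the sign patterns that occur -/
noncomputable def Xs : Finset (ι → Bool) :=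
  Finset.univ.filter (fun s => W M Finset.univ s ≠ ⊥)

/-- the eigenspace is a line -/
def IsLine (s : ι → Bool) : Prop := ∃ v, W M Finset.univ s = Submodule.span F {v}

open Classical in
/-- the line patterns -/
noncomputable def Xl : Finset (ι → Bool) := (Xs M).filter (fun s => IsLine M s)

theorem mem_Xs (s : ι → Bool) : s ∈ Xs M ↔ W M Finset.univ s ≠ ⊥ := by
  unfold Xs
  simp

theorem card_le_two_pow (h2 : (2 : F) ≠ 0) (hinv : ∀ i, M i * M i = 1)
    (hcomm : ∀ i j, M i * M j = M j * M i) (hinj : Function.Injective M) :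
    Fintype.card ι ≤ 2 ^ (Xs M).card := by
  classical
  have hsup := iSup_W_eq_top M h2 hinv hcomm Finset.univ
  have hinj2 : Function.Injective (fun (i : ι) (s : Xs M) => s.1 i) := by
    intro i j hij
    apply hinj
    have heq : ∀ v, M i *ᵥ v = M j *ᵥ v := by
      intro v
      have hv : v ∈ (⨆ s, W M Finset.univ s) := by rw [hsup]; trivial
      have hle : (⨆ s, W M Finset.univ s) ≤
          LinearMap.eqLocus (Matrix.mulVecLin (M i)) (Matrix.mulVecLin (M j)) := by
        apply iSup_le
        intro s w hw
        by_cases hs : W M Finset.univ s = ⊥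
        · rw [hs] at hw; rw [(Submodule.mem_bot F).mp hw]; exact Submodule.zero_mem _
        · have hsX : s ∈ Xs M := (mem_Xs M s).mpr hs
          have h3 := congrFun hij ⟨s, hsX⟩
          simp only at h3
          rw [LinearMap.mem_eqLocus]
          show M i *ᵥ w = M j *ᵥ w
          rw [hw i (Finset.mem_univ _), hw j (Finset.mem_univ _), h3]
      exact LinearMap.mem_eqLocus.mp (hle hv)
    exact Matrix.ext_iff_mulVec.mpr heq
  have h3 := Fintype.card_le_of_injective _ hinj2
  simpa using h3

theorem two_mul_card_Xs_le (h2 : (2 : F) ≠ 0) :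
    2 * (Xs M).card ≤ Fintype.card m + (Xl M).card := by
  classical
  -- choose vectors
  have hv : ∀ s : ι → Bool, ∃ v, v ∈ W M Finset.univ s ∧ (s ∈ Xs M → v ≠ 0) := by
    intro s
    by_cases hs : s ∈ Xs M
    · obtain ⟨v, hv, hv0⟩ := (Submodule.ne_bot_iff _).mp ((mem_Xs M s).mp hs)
      exact ⟨v, hv, fun _ => hv0⟩
    · exact ⟨0, Submodule.zero_mem _, fun h => absurd h hs⟩
  choose v hvW hv0 using hv
  have hw : ∀ s : ι → Bool, ∃ w, w ∈ W M Finset.univ s ∧
      (s ∈ Xs M → ¬ IsLine M s → w ∉ Submodule.span F {v s}) := by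
    intro s
    by_cases hs : s ∈ Xs M ∧ ¬ IsLine M s
    · have h3 : ¬ (W M Finset.univ s ≤ Submodule.span F {v s}) := by
        intro hle
        apply hs.2
        refine ⟨v s, le_antisymm hle ?_⟩
        rw [Submodule.span_singleton_le_iff_mem]
        exact hvW s
      obtain ⟨w, hw1, hw2⟩ := SetLike.not_le_iff_exists.mp h3
      exact ⟨w, hw1, fun _ _ => hw2⟩
    · exact ⟨0, Submodule.zero_mem _, fun h1 h2' => absurd ⟨h1, h2'⟩ hs⟩
  choose w hwW hw0 using hw
  set Xn : Finset (ι → Bool) := (Xs M).filter (fun s => ¬ IsLine M s) with hXn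
  have hli : LinearIndependent F
      (Sum.elim (fun s : Xs M => v s.1) (fun s : Xn => w s.1)) := by
    rw [Fintype.linearIndependent_iff]
    intro g hg
    rw [Fintype.sum_sum_type] at hg
    simp only [Sum.elim_inl, Sum.elim_inr] at hg
    -- extend coefficient functions
    set a : (ι → Bool) → F := fun s => if h : s ∈ Xs M then g (Sum.inl ⟨s, h⟩) else 0 with ha
    set b : (ι → Bool) → F := fun s => if h : s ∈ Xn then g (Sum.inr ⟨s, h⟩) else 0 with hb
    have h1 : ∑ s : Xs M, g (Sum.inl s) • v s.1 = ∑ s ∈ Xs M, a s • v s := by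
      rw [← Finset.sum_coe_sort (Xs M) (fun s => a s • v s)]
      apply Finset.sum_congr rfl
      intro s _
      simp only [ha, s.2, dif_pos]
    have h2' : ∑ s : Xn, g (Sum.inr s) • w s.1 = ∑ s ∈ Xs M, b s • w s := by
      have h3 : ∑ s : Xn, g (Sum.inr s) • w s.1 = ∑ s ∈ Xn, b s • w s := by
        rw [← Finset.sum_coe_sort Xn (fun s => b s • w s)]
        apply Finset.sum_congr rfl
        intro s _
        simp only [hb, s.2, dif_pos]
      rw [h3, hXn, Finset.sum_filter]
      apply Finset.sum_congr rfl
      intro s hs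
      by_cases hl : IsLine M s
      · have : s ∉ Xn := by rw [hXn, Finset.mem_filter]; exact fun h => h.2 hl
        simp [hl, hb, this]
      · simp [hl]
    rw [h1, h2', ← Finset.sum_add_distrib] at hg
    have h4 := indep M h2 (Xs M) (fun s => a s • v s + b s • w s)
      (fun s _ => Submodule.add_mem _ (Submodule.smul_mem _ _ (hvW s))
        (Submodule.smul_mem _ _ (hwW s))) hg
    -- each coefficient vanishes
    have hb0 : ∀ s (hs : s ∈ Xn), b s = 0 := by
      intro s hs
      have hsX : s ∈ Xs M := (Finset.mem_filter.mp hs).1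
      have hnl : ¬ IsLine M s := (Finset.mem_filter.mp hs).2
      have h5 := h4 s hsX
      by_contra hbne
      apply hw0 s hsX hnl
      have h6 : w s = (-(b s)⁻¹ * a s) • v s := by
        have h7 : b s • w s = -(a s • v s) := by
          rw [eq_neg_iff_add_eq_zero, add_comm]; exact h5
        calc w s = (b s)⁻¹ • (b s • w s) := by rw [smul_smul, inv_mul_cancel₀ hbne, one_smul]
          _ = (-(b s)⁻¹ * a s) • v s := by rw [h7, smul_neg, smul_smul]; simp
      rw [h6]
      exact Submodule.smul_mem _ _ (Submodule.mem_span_singleton_self _)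
    have ha0 : ∀ s (hs : s ∈ Xs M), a s = 0 := by
      intro s hs
      have h5 := h4 s hs
      have hbs : b s • w s = 0 := by
        by_cases hsn : s ∈ Xn
        · rw [hb0 s hsn, zero_smul]
        · simp [hb, hsn]
      rw [hbs, add_zero] at h5
      rcases smul_eq_zero.mp h5 with h6 | h6
      · exact h6
      · exact absurd h6 (hv0 s hs)
    rintro (s | s)
    · have := ha0 s.1 s.2
      simpa [ha, s.2] using this
    · have := hb0 s.1 s.2
      simpa [hb, s.2] using this
  have h5 := hli.fintype_card_le_finrank
  rw [Module.finrank_fintype_fun_eq_card, Fintype.card_sum, Fintype.card_coe,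
    Fintype.card_coe] at h5
  have h6 : (Xl M).card + Xn.card = (Xs M).card := by
    rw [hXn]
    unfold Xl
    exact Finset.card_filter_add_card_filter_not _
  omega

end indep

end Cfsg.Agent.helper17.GLR
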