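import Mathlib
import Cfsg.Prelude.Def_Transfer

set_option autoImplicit false
set_option linter.unusedSectionVars false

/-!
# Abstract Sylow argument: a 2-subgroup `D` whose normalizer has full 2-part
-/

namespace Cfsg.Agent.helper17.SpR

open Subgroup Pointwise

theorem card_dvd_normalizer {G : Type*} [Group G] [Finite G] (D : Subgroup G)
    {B Q : Type*} [Group B] [Group Q] [Finite B] [Finite Q]
    (β : B →* G) (hβ : Function.Injective β) (hβD : ∀ b, β b ∈ centralizer (D : Set G))
    (π : Q →* G) (hπN : ∀ σ, π σ ∈ normalizer (D : Set G))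
    (hπC : ∀ σ, π σ ∈ centralizer (D : Set G) → σ = 1) :
    Nat.card B * Nat.card Q ∣ Nat.card (normalizer (D : Set G)) := by
  have hCN : centralizer (D : Set G) ≤ normalizer (D : Set G) := centralizer_le_normalizer _
  have h1 := Subgroup.card_mul_index ((centralizer (D : Set G)).subgroupOf (normalizer (D : Set G)))
  rw [← h1]
  apply mul_dvd_mul
  · rw [Nat.card_congr (Subgroup.subgroupOfEquivOfLe hCN).toEquiv]
    exact Subgroup.card_dvd_of_injective (β.codRestrict (centralizer (D : Set G)) hβD)
      (fun a b h => hβ (by simpa using congrArg Subtype.val h))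
  · rw [Subgroup.index_eq_card]
    let π' : Q →* normalizer (D : Set G) := π.codRestrict (normalizer (D : Set G)) hπN
    let f : Q →* (normalizer (D : Set G)) ⧸
        ((centralizer (D : Set G)).subgroupOf (normalizer (D : Set G))) :=
      (QuotientGroup.mk' _).comp π'
    apply Subgroup.card_dvd_of_injective f
    rw [injective_iff_map_eq_one]
    intro σ hσ
    apply hπC
    have h2 : π' σ ∈ (centralizer (D : Set G)).subgroupOf (normalizer (D : Set G)) :=
      (QuotientGroup.eq_one_iff _).mp hσ
    exact h2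

instance fact_two_prime' : Fact (Nat.Prime 2) := ⟨Nat.prime_two⟩

theorem exists_conj_sylow {G : Type*} [Group G] [Finite G] (D : Subgroup G)
    (hsq : ∀ a ∈ D, a ^ 2 = 1)
    (hval : (Nat.card (normalizer (D : Set G))).factorization 2 = (Nat.card G).factorization 2)
    (S : Sylow 2 G) :
    ∃ g : G, (∀ d ∈ D, g * d * g⁻¹ ∈ S) ∧ (∀ s ∈ S, g⁻¹ * s * g ∈ normalizer (D : Set G)) := by
  have hD : IsPGroup 2 D := by
    intro a
    refine ⟨1, ?_⟩
    apply Subtype.ext
    have := hsq a.1 a.2
    simpa using this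
  obtain ⟨T⟩ : Nonempty (Sylow 2 (normalizer (D : Set G))) := inferInstance
  haveI hnorm : (D.subgroupOf (normalizer (D : Set G))).Normal := normal_in_normalizer
  have hDT : D.subgroupOf (normalizer (D : Set G)) ≤ T :=
    IsPGroup.le_sylow_of_normal (N := D.subgroupOf (normalizer (D : Set G)))
      (hD.comap_subtype) T
  have hcard : Nat.card ((T : Subgroup (normalizer (D : Set G))).map
      (normalizer (D : Set G)).subtype) = 2 ^ (Nat.card G).factorization 2 := by
    rw [Subgroup.card_subtype, Sylow.card_eq_multiplicity, hval]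
  obtain ⟨g, hg⟩ := MulAction.exists_smul_eq G (Sylow.ofCard _ hcard) S
  have hmem : ∀ x, x ∈ S ↔ g⁻¹ * x * g ∈ (T : Subgroup (normalizer (D : Set G))).map
      (normalizer (D : Set G)).subtype := by
    intro x
    rw [← hg, Sylow.smul_def]
    show x ∈ MulAut.conj g • (Sylow.ofCard _ hcard : Subgroup G) ↔ _
    rw [Subgroup.mem_pointwise_smul_iff_inv_smul_mem, MulAut.smul_def, ← map_inv,
      MulAut.conj_apply, inv_inv, Sylow.coe_ofCard]
  refine ⟨g, ?_, ?_⟩
  · intro d hd
    rw [hmem]
    have hdN : d ∈ normalizer (D : Set G) := le_normalizer hd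
    refine ⟨⟨d, hdN⟩, hDT (by exact hd), ?_⟩
    simp [mul_assoc]
  · intro s hs
    obtain ⟨t, -, ht⟩ := (hmem s).mp hs
    rw [← ht]
    exact t.2

theorem exists_normal_sub {G : Type*} [Group G] [Finite G] (D : Subgroup G)
    (hcomm : ∀ a ∈ D, ∀ b ∈ D, a * b = b * a) (hsq : ∀ a ∈ D, a ^ 2 = 1)
    (hval : (Nat.card (normalizer (D : Set G))).factorization 2 = (Nat.card G).factorization 2)
    (S : Sylow 2 G) :
    ∃ E : Subgroup ↥(S : Subgroup G), E.Normal ∧ Cfsg.IsElementaryAbelian 2 E ∧
      Nat.card D ≤ Nat.card E := by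
  obtain ⟨g, hg1, hg2⟩ := exists_conj_sylow D hsq hval S
  let φ : ↥(S : Subgroup G) →* G := (MulAut.conj g⁻¹).toMonoidHom.comp (S : Subgroup G).subtype
  have hφ : ∀ s, φ s = g⁻¹ * s.1 * g := by
    intro s
    simp [φ, MulAut.conj_apply]
  have hφinj : Function.Injective φ := by
    intro a b hab
    rw [hφ, hφ] at hab
    apply Subtype.ext
    have := mul_left_cancel (mul_right_cancel hab)
    exact this
  refine ⟨D.comap φ, ?_, ⟨?_, ?_⟩, ?_⟩
  · constructor
    intro e he s
    rw [Subgroup.mem_comap] at he ⊢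
    rw [map_mul, map_mul, map_inv]
    have hs : φ s ∈ normalizer (D : Set G) := by
      rw [hφ]; exact hg2 s.1 s.2
    exact (mem_set_normalizer_iff.mp hs (φ e)).mp he
  · refine ⟨⟨fun a b => ?_⟩⟩
    apply Subtype.ext
    apply hφinj
    show φ (a.1 * b.1) = φ (b.1 * a.1)
    rw [map_mul, map_mul]
    exact hcomm _ a.2 _ b.2
  · intro a ha
    apply hφinj
    rw [map_pow, map_one]
    exact hsq _ ha
  · let ψ : D → D.comap φ := fun d => ⟨⟨g * d.1 * g⁻¹, hg1 d.1 d.2⟩, by
      rw [Subgroup.mem_comap, hφ]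
      simp only [mul_assoc, inv_mul_cancel_left, inv_mul_cancel, mul_one]
      exact d.2⟩
    apply Nat.card_le_card_of_injective ψ
    intro a b hab
    have h1 := congrArg (fun x => (x.1.1 : G)) hab
    simp only [ψ] at h1
    apply Subtype.ext
    exact mul_left_cancel (mul_right_cancel h1)

end Cfsg.Agent.helper17.SpR
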