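import Mathlib
import Cfsg.Agent.Lib_helper17_SpR4
import Cfsg.Agent.Lib_helper17_GLR2

set_option autoImplicit false
set_option linter.unusedSectionVars false

/-!
# Normalizer of the sign subgroup: divisibility of its order
-/

namespace Cfsg.Agent.helper17.GLR

open Matrix Subgroup

/-- general: three homs with the wreath relations -/
theorem card_dvd_normalizer_range {G Δ B Q : Type*} [Group G] [Finite G] [Group Δ] [Group B]
    [Group Q] [Finite B] [Finite Q] (δ : Δ →* G) (β : B →* G) (π : Q →* G)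
    (hβ : Function.Injective β)
    (R1 : ∀ g e, β g * δ e = δ e * β g)
    (R2 : ∀ σ e, ∃ e', π σ * δ e = δ e' * π σ)
    (R3 : ∀ σ, (∀ e, π σ * δ e = δ e * π σ) → σ = 1) :
    Nat.card B * Nat.card Q ∣ Nat.card (normalizer (δ.range : Set G)) := by
  apply Cfsg.Agent.helper17.SpR.card_dvd_normalizer δ.range β hβ _ π
  · intro σ
    rw [mem_set_normalizer_iff]
    intro h
    constructor
    · rintro ⟨e, rfl⟩
      obtain ⟨e', he'⟩ := R2 σ e
      rw [he', mul_assoc, mul_inv_cancel, mul_one]
      exact ⟨e', rfl⟩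
    · rintro ⟨e, he⟩
      obtain ⟨e', he'⟩ := R2 σ⁻¹ e
      have h3 : h = π σ⁻¹ * δ e * (π σ⁻¹)⁻¹ := by
        rw [he, map_inv, inv_inv]
        simp only [mul_assoc, inv_mul_cancel_left, inv_mul_cancel, mul_one]
      rw [h3, he', mul_assoc, mul_inv_cancel, mul_one]
      exact ⟨e', rfl⟩
  · intro σ hσ
    apply R3
    intro e
    rw [Subgroup.mem_centralizer_iff] at hσ
    exact (hσ (δ e) ⟨e, rfl⟩).symm
  · intro b
    rw [Subgroup.mem_centralizer_iff]
    rintro _ ⟨e, rfl⟩
    exact (R1 b e).symm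

variable {F : Type*} [Field F]
variable {o : Type*} [Fintype o] [DecidableEq o]
variable {bt : Type*} [Fintype bt] [DecidableEq bt]
variable {x : Type*} [Fintype x] [DecidableEq x]

/-- the domain group as a product of `GL`'s -/
def toBB : ((o → GL bt F) × (x → Fˣ)) ≃* BB F o bt x :=
  (MulEquiv.prodCongr MulEquiv.piUnits.symm MulEquiv.piUnits.symm).trans MulEquiv.prodUnits.symm

theorem card_BB [Fintype F] :
    Nat.card (BB F o bt x) =
      Nat.card (GL bt F) ^ Fintype.card o * (Fintype.card F - 1) ^ Fintype.card x := by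
  rw [← Nat.card_congr (toBB (F := F) (o := o) (bt := bt) (x := x)).toEquiv, Nat.card_prod,
    Nat.card_fun, Nat.card_fun, Nat.card_units, Nat.card_eq_fintype_card (α := o),
    Nat.card_eq_fintype_card (α := x), Nat.card_eq_fintype_card (α := F)]

theorem R3_GL [Nonempty bt] (h2 : (2 : F) ≠ 0) (σ : Equiv.Perm o)
    (h : ∀ e : (o ⊕ x) → ℤˣ, perm (F := F) (bt := bt) (x := x) σ * delta e = delta e * perm σ) :
    σ = 1 := by
  have h1 : ∀ e : (o ⊕ x) → ℤˣ, (fun i => e (Sum.map (⇑σ⁻¹) id i)) = e := by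
    intro e
    apply delta_injective (F := F) (bt := bt) h2
    have h3 := h e
    rw [perm_mul_delta] at h3
    exact mul_right_cancel h3
  have h4 : σ⁻¹ = 1 := by
    ext i
    by_contra hne
    have hne' : σ⁻¹ i ≠ i := hne
    have h5 := congrFun (h1 (Function.update 1 (Sum.inl i) (-1))) (Sum.inl i)
    simp only [Function.update_self, Sum.map_inl] at h5
    have hne2 : (Sum.inl (σ⁻¹ i) : o ⊕ x) ≠ Sum.inl i := fun h => hne' (Sum.inl_injective h)
    rw [Function.update_of_ne hne2] at h5
    have h6 : (1 : ℤˣ) = -1 := h5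
    exact absurd h6 (by decide)
  exact inv_eq_one.mp h4

theorem card_dvd_normalizer_GL [Fintype F] [Nonempty bt] (h2 : (2 : F) ≠ 0)
    {G : Type*} [Group G] [Finite G] (φ : GL ((bt × o) ⊕ x) F ≃* G) :
    Nat.card (GL bt F) ^ Fintype.card o * (Fintype.card F - 1) ^ Fintype.card x *
      (Fintype.card o).factorial ∣
      Nat.card (normalizer ((φ.toMonoidHom.comp
        (delta (F := F) (o := o) (bt := bt) (x := x))).range : Set G)) := by
  have h1 := card_dvd_normalizer_range
    (φ.toMonoidHom.comp (delta (F := F) (o := o) (bt := bt) (x := x)))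
    (φ.toMonoidHom.comp (beta (F := F) (o := o) (bt := bt) (x := x)))
    (φ.toMonoidHom.comp (perm (F := F) (o := o) (bt := bt) (x := x)))
    (φ.injective.comp beta_injective)
    (fun g e => by
      simp only [MonoidHom.comp_apply, MulEquiv.coe_toMonoidHom, ← map_mul]
      rw [delta_comm_beta])
    (fun σ e => ⟨_, by
      simp only [MonoidHom.comp_apply, MulEquiv.coe_toMonoidHom, ← map_mul]
      rw [perm_mul_delta]⟩)
    (fun σ h => R3_GL (F := F) (bt := bt) (x := x) h2 σ (fun e => by
      have h3 := h e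
      simp only [MonoidHom.comp_apply, MulEquiv.coe_toMonoidHom, ← map_mul] at h3
      exact φ.injective h3))
  rw [card_BB, Nat.card_eq_fintype_card (α := Equiv.Perm o), Fintype.card_perm] at h1
  exact h1

theorem card_range_delta [Nonempty bt] (h2 : (2 : F) ≠ 0)
    {G : Type*} [Group G] (φ : GL ((bt × o) ⊕ x) F ≃* G) :
    Nat.card (φ.toMonoidHom.comp (delta (F := F) (o := o) (bt := bt) (x := x))).range =
      2 ^ (Fintype.card o + Fintype.card x) := by
  have hinj : Function.Injective (φ.toMonoidHom.comp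
      (delta (F := F) (o := o) (bt := bt) (x := x))) :=
    φ.injective.comp (delta_injective h2)
  rw [← Nat.card_congr (MonoidHom.ofInjective hinj).toEquiv, Nat.card_eq_fintype_card,
    Fintype.card_fun, Fintype.card_units_int, Fintype.card_sum]

theorem range_delta_comm {G : Type*} [Group G] (φ : GL ((bt × o) ⊕ x) F ≃* G) :
    ∀ a ∈ (φ.toMonoidHom.comp (delta (F := F) (o := o) (bt := bt) (x := x))).range,
    ∀ b ∈ (φ.toMonoidHom.comp (delta (F := F) (o := o) (bt := bt) (x := x))).range,
      a * b = b * a := by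
  rintro _ ⟨e, rfl⟩ _ ⟨e', rfl⟩
  rw [← map_mul, ← map_mul, mul_comm]

theorem range_delta_sq {G : Type*} [Group G] (φ : GL ((bt × o) ⊕ x) F ≃* G) :
    ∀ a ∈ (φ.toMonoidHom.comp (delta (F := F) (o := o) (bt := bt) (x := x))).range,
      a ^ 2 = 1 := by
  rintro _ ⟨e, rfl⟩
  rw [pow_two, ← map_mul]
  have : e * e = 1 := by
    funext i
    exact Int.units_mul_self (e i)
  rw [this, map_one]

end Cfsg.Agent.helper17.GLR
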