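import Mathlib
import Cfsg.Agent.Lib_helper17_GLR2
import Cfsg.Agent.Lib_helper17_GLR3

set_option autoImplicit false
set_option linter.unusedSectionVars false

/-!
# Elementary abelian 2-subgroups of `GL_n(q)`, `q ≡ 3 (mod 4)`, normalized by block elements of order 8
-/

namespace Cfsg.Agent.helper17.GLR

open Matrix Subgroup

variable {F : Type*} [Field F]
variable {o : Type*} [Fintype o] [DecidableEq o]
variable {bt : Type*} [Fintype bt] [DecidableEq bt]
variable {x : Type*} [Fintype x] [DecidableEq x]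

/-- family version of independence -/
theorem indep_fam {m : Type*} [Fintype m] [DecidableEq m] {ι : Type*} [Fintype ι] [DecidableEq ι]
    (M : ι → Matrix m m F) (h2 : (2 : F) ≠ 0) {k : ℕ} (p : Fin k → (ι → Bool))
    (hp : Function.Injective p) (y : Fin k → (m → F))
    (hy : ∀ t, y t ∈ W M Finset.univ (p t)) (hsum : ∑ t, y t = 0) : ∀ t, y t = 0 := by
  classical
  set xx : (ι → Bool) → (m → F) := fun s => if h : ∃ t, p t = s then y h.choose else 0 with hxx
  have hxp : ∀ t, xx (p t) = y t := by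
    intro t
    have h : ∃ t', p t' = p t := ⟨t, rfl⟩
    simp only [hxx, dif_pos h]
    rw [hp h.choose_spec]
  have h1 := indep M h2 (Finset.univ.image p) xx (by
    intro s hs
    obtain ⟨t, -, rfl⟩ := Finset.mem_image.mp hs
    rw [hxp]
    exact hy t) (by
    rw [Finset.sum_image (fun a _ b _ h => hp h)]
    simp only [hxp]
    exact hsum)
  intro t
  rw [← hxp]
  exact h1 (p t) (Finset.mem_image_of_mem _ (Finset.mem_univ _))

/-- matrix acting as `A` on block `j` and as the identity elsewhere -/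
def zM (j : o) (A : Matrix bt bt F) : Matrix ((bt × o) ⊕ x) ((bt × o) ⊕ x) F :=
  beta0 (Function.update (1 : o → Matrix bt bt F) j A, (1 : x → F))

theorem zM_mul (j : o) (A B : Matrix bt bt F) :
    zM (x := x) j A * zM j B = zM j (A * B) := by
  unfold zM
  rw [← map_mul]
  congr 1
  apply Prod.ext
  · funext k
    by_cases hk : k = j
    · subst hk; simp
    · simp [Function.update_of_ne hk]
  · simp

theorem zM_one (j : o) : zM (F := F) (bt := bt) (x := x) j 1 = 1 := by
  unfold zM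
  have : Function.update (1 : o → Matrix bt bt F) j 1 = 1 := by
    funext k
    by_cases hk : k = j
    · subst hk; simp
    · simp [Function.update_of_ne hk]
  rw [this]
  exact map_one _

theorem zM_mulVec_inl (j : o) (A : Matrix bt bt F) (v : (bt × o) ⊕ x → F) (i : bt) (k : o) :
    (zM j A *ᵥ v) (Sum.inl (i, k)) =
      if k = j then (A *ᵥ (fun i' => v (Sum.inl (i', j)))) i else v (Sum.inl (i, k)) := by
  unfold zM beta0
  simp only [MonoidHom.coe_mk, OneHom.coe_mk]
  rw [fromBlocks_mulVec]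
  simp only [Sum.elim_inl, Matrix.zero_mulVec, add_zero]
  rw [Matrix.mulVec, dotProduct, Fintype.sum_prod_type]
  simp only [blockDiagonal_apply, ite_mul, zero_mul, Function.comp_apply]
  simp only [Finset.sum_ite_eq, Finset.mem_univ, if_true]
  by_cases hk : k = j
  · subst hk
    simp only [Function.update_self, if_true]
    rfl
  · simp only [Function.update_of_ne hk, if_neg hk, Pi.one_apply, one_apply, ite_mul, one_mul,
      zero_mul, Finset.sum_ite_eq, Finset.mem_univ, if_true]

theorem zM_mulVec_inr (j : o) (A : Matrix bt bt F) (v : (bt × o) ⊕ x → F) (t : x) :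
    (zM j A *ᵥ v) (Sum.inr t) = v (Sum.inr t) := by
  unfold zM beta0
  simp only [MonoidHom.coe_mk, OneHom.coe_mk]
  rw [fromBlocks_mulVec]
  simp only [Sum.elim_inr, Matrix.zero_mulVec, zero_add]
  have : diagonal (1 : x → F) = 1 := diagonal_one
  rw [this, Matrix.one_mulVec]
  rfl

/-- the block element as a unit, multiplicative in `A` -/
def zU (j : o) : GL bt F →* GL ((bt × o) ⊕ x) F where
  toFun A := ⟨zM j A.val, zM j A.inv, by rw [zM_mul, A.val_inv, zM_one],
    by rw [zM_mul, A.inv_val, zM_one]⟩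
  map_one' := by
    apply Units.ext
    exact zM_one j
  map_mul' A B := by
    apply Units.ext
    exact (zM_mul j A.val B.val).symm

theorem zU_val (j : o) (A : GL bt F) : (zU (x := x) j A).val = zM j A.val := rfl

section transport

variable {m : Type*} [Fintype m] [DecidableEq m] (E : Subgroup (GL m F))

/-- matrices of the elements of `E` -/
def ME : ↥E → Matrix m m F := fun e => (e.1 : Matrix m m F)

/-- transport of a sign pattern by a normalizing element -/
def tr (g : GL m F) (hg : g ∈ normalizer (E : Set (GL m F))) (s : ↥E → Bool) : ↥E → Bool :=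
  fun e => s ⟨g⁻¹ * e.1 * g, (mem_set_normalizer_iff''.mp hg e.1).mp e.2⟩

theorem tr_mem [Fintype E] (g : GL m F) (hg : g ∈ normalizer (E : Set (GL m F)))
    (s : ↥E → Bool) (v : m → F) (hv : v ∈ W (ME E) Finset.univ s) :
    g.val *ᵥ v ∈ W (ME E) Finset.univ (tr E g hg s) := by
  intro e _
  have h1 := hv ⟨g⁻¹ * e.1 * g, (mem_set_normalizer_iff''.mp hg e.1).mp e.2⟩ (Finset.mem_univ _)
  have h2 : (e.1 : Matrix m m F) * g.val = g.val * ((g⁻¹ * e.1 * g : GL m F) : Matrix m m F) := by
    rw [← Units.val_mul, ← Units.val_mul]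
    congr 1
    group
  show (e.1 : Matrix m m F) *ᵥ (g.val *ᵥ v) = sgn F (tr E g hg s e) • (g.val *ᵥ v)
  rw [Matrix.mulVec_mulVec, h2, ← Matrix.mulVec_mulVec]
  have h3 : ((g⁻¹ * e.1 * g : GL m F) : Matrix m m F) *ᵥ v =
      sgn F (s ⟨g⁻¹ * e.1 * g, (mem_set_normalizer_iff''.mp hg e.1).mp e.2⟩) • v := h1
  rw [h3, Matrix.mulVec_smul]
  rfl

theorem tr_inv (g : GL m F) (hg : g ∈ normalizer (E : Set (GL m F))) (s : ↥E → Bool) :
    tr E g⁻¹ (inv_mem hg) (tr E g hg s) = s := by
  funext e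
  unfold tr
  congr 1
  apply Subtype.ext
  simp only [inv_inv]
  group

theorem exists_of_mem_tr [Fintype E] (g : GL m F) (hg : g ∈ normalizer (E : Set (GL m F)))
    (s : ↥E → Bool) (y : m → F) (hy : y ∈ W (ME E) Finset.univ (tr E g hg s)) :
    ∃ w ∈ W (ME E) Finset.univ s, g.val *ᵥ w = y := by
  refine ⟨(g⁻¹).val *ᵥ y, ?_, ?_⟩
  · have := tr_mem E g⁻¹ (inv_mem hg) (tr E g hg s) y hy
    rw [tr_inv] at this
    exact this
  · rw [Matrix.mulVec_mulVec, ← Units.val_mul, mul_inv_cancel, Units.val_one, Matrix.one_mulVec]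

end transport

section c8

variable (a b : F)

/-- an element of order 8 -/
def cM : Matrix (Fin 2) (Fin 2) F := !![a, -b; b, a]

/-- `J` -/
def jM (F : Type*) [Field F] : Matrix (Fin 2) (Fin 2) F := !![0, -1; 1, 0]

theorem cM_sq (hab1 : a * a = b * b) (hab2 : 2 * a * b = 1) : cM a b * cM a b = jM F := by
  unfold cM jM
  ext i j
  fin_cases i <;> fin_cases j <;> simp [Matrix.mul_apply, Fin.sum_univ_two]
  · linear_combination hab1
  · linear_combination -hab2
  · linear_combination hab2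
  · linear_combination hab1

theorem jM_sq : jM F * jM F = -1 := by
  unfold jM
  ext i j
  fin_cases i <;> fin_cases j <;> simp [Matrix.mul_apply, Fin.sum_univ_two]

theorem cM_pow2 (hab1 : a * a = b * b) (hab2 : 2 * a * b = 1) : cM a b ^ 2 = jM F := by
  rw [pow_two, cM_sq a b hab1 hab2]

theorem cM_pow8 (hab1 : a * a = b * b) (hab2 : 2 * a * b = 1) : cM a b ^ 8 = 1 := by
  have h1 : cM a b ^ 8 = (cM a b ^ 2) ^ 2 * (cM a b ^ 2) ^ 2 := by
    rw [← pow_mul, ← pow_add]
  rw [h1, cM_pow2 a b hab1 hab2, pow_two, jM_sq]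
  simp

/-- `c` as a unit -/
def cU (hab1 : a * a = b * b) (hab2 : 2 * a * b = 1) : GL (Fin 2) F :=
  ⟨cM a b, cM a b ^ 7, by rw [← pow_succ', cM_pow8 a b hab1 hab2],
    by rw [← pow_succ, cM_pow8 a b hab1 hab2]⟩

theorem cU_pow8 (hab1 : a * a = b * b) (hab2 : 2 * a * b = 1) : cU a b hab1 hab2 ^ 8 = 1 := by
  apply Units.ext
  rw [Units.val_pow_eq_pow_val]
  exact cM_pow8 a b hab1 hab2

theorem cM_quad (hab1 : a * a = b * b) :
    cM a b * cM a b - (2 * a) • cM a b + (2 * a * a) • (1 : Matrix (Fin 2) (Fin 2) F) = 0 := by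
  unfold cM
  ext i j
  fin_cases i <;> fin_cases j <;> simp [Matrix.mul_apply, Fin.sum_univ_two]
  · linear_combination hab1
  · ring
  · ring
  · linear_combination hab1

theorem cM_cubic (hab1 : a * a = b * b) :
    cM a b ^ 3 - (2 * a + 1) • cM a b ^ 2 + (2 * a * a + 2 * a) • cM a b ^ 1 -
      (2 * a * a) • cM a b ^ 0 = 0 := by
  have h := cM_quad a b hab1
  have h1 : cM a b * cM a b = (2 * a) • cM a b - (2 * a * a) • (1 : Matrix (Fin 2) (Fin 2) F) := by
    rw [← sub_eq_zero]
    rw [← h]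
    abel
  rw [pow_succ, pow_two, pow_one, pow_zero, h1]
  simp only [sub_mul, smul_mul_assoc, one_mul, h1, smul_sub, smul_smul]
  module

theorem noeig_J (hsq : ¬ IsSquare (-1 : F)) (u : Fin 2 → F) (μ : F)
    (h : jM F *ᵥ u = μ • u) : u = 0 := by
  have h0 := congrFun h 0
  have h1 := congrFun h 1
  simp [jM, Matrix.mulVec, dotProduct, Fin.sum_univ_two] at h0 h1
  -- h0 : -u 1 = μ * u 0 ; h1 : u 0 = μ * u 1
  have h3 : (μ * μ + 1) * u 1 = 0 := by
    rw [h1] at h0
    linear_combination -h0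
  have h4 : μ * μ + 1 ≠ 0 := by
    intro h5
    apply hsq
    exact ⟨μ, by linear_combination -h5⟩
  have h5 : u 1 = 0 := by
    rcases mul_eq_zero.mp h3 with h6 | h6
    · exact absurd h6 h4
    · exact h6
  have h6 : u 0 = 0 := by rw [h1, h5, mul_zero]
  funext i
  fin_cases i
  · exact h6
  · exact h5

theorem eig_sq {A : Matrix (Fin 2) (Fin 2) F} {u : Fin 2 → F} {l : F} (h : A *ᵥ u = l • u) :
    (A * A) *ᵥ u = (l * l) • u := by
  rw [← Matrix.mulVec_mulVec, h, Matrix.mulVec_smul, h, smul_smul]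

theorem noeig_c (hsq : ¬ IsSquare (-1 : F)) (hab1 : a * a = b * b) (hab2 : 2 * a * b = 1)
    (d : ℕ) (hd1 : 1 ≤ d) (hd3 : d ≤ 3) (u : Fin 2 → F) (l : F)
    (h : (cM a b ^ d) *ᵥ u = l • u) : u = 0 := by
  interval_cases d
  · rw [pow_one] at h
    have h1 := eig_sq h
    rw [cM_sq a b hab1 hab2] at h1
    exact noeig_J hsq u _ h1
  · rw [cM_pow2 a b hab1 hab2] at h
    exact noeig_J hsq u _ h
  · have h1 := eig_sq h
    have h2 : cM a b ^ 3 * cM a b ^ 3 = - jM F := by
      have : cM a b ^ 3 * cM a b ^ 3 = (cM a b ^ 2) ^ 2 * cM a b ^ 2 := by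
        rw [← pow_mul, ← pow_add, ← pow_add]
      rw [this, cM_pow2 a b hab1 hab2, pow_two, jM_sq]
      simp
    rw [h2, Matrix.neg_mulVec] at h1
    have h3 : jM F *ᵥ u = (-(l * l)) • u := by
      rw [neg_smul, ← h1, neg_neg]
    exact noeig_J hsq u _ h3

end c8

end Cfsg.Agent.helper17.GLR
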