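import Mathlib
import Cfsg.Agent.Lib_helper17_GLR5

set_option autoImplicit false
set_option linter.unusedSectionVars false

/-!
# The key lemma: no eigenline meets a block
-/

namespace Cfsg.Agent.helper17.GLR

open Matrix Subgroup

variable {F : Type*} [Field F]
variable {o : Type*} [Fintype o] [DecidableEq o]
variable {x : Type*} [Fintype x] [DecidableEq x]

theorem no_line (hsq : ¬ IsSquare (-1 : F)) (h2 : (2 : F) ≠ 0) (a b : F)
    (hab1 : a * a = b * b) (hab2 : 2 * a * b = 1)
    (E : Subgroup (GL ((Fin 2 × o) ⊕ x) F)) [Fintype E] (j : o)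
    (hz : zU (x := x) j (cU a b hab1 hab2) ∈ normalizer (E : Set (GL ((Fin 2 × o) ⊕ x) F)))
    (s : ↥E → Bool) (v : (Fin 2 × o) ⊕ x → F)
    (hW : W (ME E) Finset.univ s = Submodule.span F {v}) (hv : v ≠ 0) :
    ∀ i, v (Sum.inl (i, j)) = 0 := by
  classical
  by_contra hcon
  push Not at hcon
  obtain ⟨i₀, hi₀⟩ := hcon
  set z := zU (x := x) j (cU a b hab1 hab2) with hzdef
  set u : Fin 2 → F := fun i => v (Sum.inl (i, j)) with hu
  have hu0 : u ≠ 0 := fun h => hi₀ (congrFun h i₀)
  have hzt : ∀ t : ℕ, z ^ t ∈ normalizer (E : Set (GL ((Fin 2 × o) ⊕ x) F)) :=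
    fun t => pow_mem hz t
  have hval : ∀ t : ℕ, (z ^ t).val = zM j (cM a b ^ t) := by
    intro t
    rw [hzdef, ← map_pow, zU_val, Units.val_pow_eq_pow_val]
    rfl
  have hvW : v ∈ W (ME E) Finset.univ s := by
    rw [hW]; exact Submodule.mem_span_singleton_self v
  have hmem : ∀ t, (z ^ t).val *ᵥ v ∈ W (ME E) Finset.univ (tr E (z ^ t) (hzt t) s) :=
    fun t => tr_mem E (z ^ t) (hzt t) s v hvW
  have hdist : ∀ t t', t < t' → t' ≤ 3 →
      tr E (z ^ t) (hzt t) s ≠ tr E (z ^ t') (hzt t') s := by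
    intro t t' htt ht3 heq
    have h1 : (z ^ t').val *ᵥ v ∈ W (ME E) Finset.univ (tr E (z ^ t) (hzt t) s) := by
      rw [heq]; exact hmem t'
    obtain ⟨w, hw, hw2⟩ := exists_of_mem_tr E (z ^ t) (hzt t) s _ h1
    rw [hW, Submodule.mem_span_singleton] at hw
    obtain ⟨l, rfl⟩ := hw
    have h3 : (z ^ (t' - t)).val *ᵥ v = l • v := by
      have h4 : z ^ t' = z ^ t * z ^ (t' - t) := by
        rw [← pow_add]; congr 1; omega
      rw [h4, Units.val_mul, ← Matrix.mulVec_mulVec] at hw2
      have h5 := congrArg (fun y => ((z ^ t)⁻¹).val *ᵥ y) hw2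
      simp only [Matrix.mulVec_mulVec, ← Units.val_mul, inv_mul_cancel, Units.val_one,
        Matrix.one_mulVec] at h5
      rw [inv_mul_cancel_left] at h5
      exact h5.symm
    have h6 : (cM a b ^ (t' - t)) *ᵥ u = l • u := by
      funext i
      have h7 := congrFun h3 (Sum.inl (i, j))
      rw [hval, zM_mulVec_inl, if_pos rfl] at h7
      exact h7
    exact hu0 (noeig_c a b hsq hab1 hab2 (t' - t) (by omega) (by omega) u l h6)
  -- the cubic relation
  have hrel : (z ^ 3).val *ᵥ v - (2 * a + 1) • ((z ^ 2).val *ᵥ v) +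
      (2 * a * a + 2 * a) • ((z ^ 1).val *ᵥ v) - (2 * a * a) • ((z ^ 0).val *ᵥ v) = 0 := by
    have hc := cM_cubic a b hab1
    funext c
    rcases c with ⟨i, k⟩ | t
    · simp only [Pi.sub_apply, Pi.add_apply, Pi.smul_apply, Pi.zero_apply, hval, zM_mulVec_inl]
      by_cases hk : k = j
      · subst hk
        simp only [if_true]
        have h8 := congrFun (congrArg (fun A => A *ᵥ u) hc) i
        simp only [Matrix.sub_mulVec, Matrix.add_mulVec, Matrix.smul_mulVec, Matrix.zero_mulVec,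
          Pi.sub_apply, Pi.add_apply, Pi.smul_apply, Pi.zero_apply] at h8
        exact h8
      · simp only [if_neg hk, smul_eq_mul]
        ring
    · simp only [Pi.sub_apply, Pi.add_apply, Pi.smul_apply, Pi.zero_apply, hval, zM_mulVec_inr,
        smul_eq_mul]
      ring
  -- apply independence
  let p : Fin 4 → (↥E → Bool) := fun t => tr E (z ^ t.val) (hzt t.val) s
  have hp : Function.Injective p := by
    intro t t' h
    by_contra hne
    rcases lt_or_gt_of_ne hne with hlt | hgt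
    · exact hdist t.val t'.val hlt (by omega) h
    · exact hdist t'.val t.val hgt (by omega) h.symm
  let y : Fin 4 → ((Fin 2 × o) ⊕ x → F) :=
    ![(-(2 * a * a)) • ((z ^ 0).val *ᵥ v), (2 * a * a + 2 * a) • ((z ^ 1).val *ᵥ v),
      (-(2 * a + 1)) • ((z ^ 2).val *ᵥ v), (z ^ 3).val *ᵥ v]
  have hy : ∀ t, y t ∈ W (ME E) Finset.univ (p t) := by
    intro t
    fin_cases t
    · exact Submodule.smul_mem _ _ (hmem 0)
    · exact Submodule.smul_mem _ _ (hmem 1)
    · exact Submodule.smul_mem _ _ (hmem 2)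
    · exact hmem 3
  have hsum : ∑ t, y t = 0 := by
    rw [Fin.sum_univ_four]
    simp only [y, Matrix.cons_val_zero, Matrix.cons_val_one, Matrix.cons_val]
    rw [← hrel]
    module
  have h9 := indep_fam (ME E) h2 p hp y hy hsum 3
  have h10 : (z ^ 3).val *ᵥ v = 0 := h9
  apply hv
  have h11 := congrArg (fun y => ((z ^ 3)⁻¹).val *ᵥ y) h10
  simp only [Matrix.mulVec_mulVec, ← Units.val_mul, inv_mul_cancel, Units.val_one,
    Matrix.one_mulVec, Matrix.mulVec_zero] at h11
  exact h11

end Cfsg.Agent.helper17.GLR
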