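import Mathlib
import Cfsg.Agent.Lib_helper17_GLR6

set_option autoImplicit false
set_option linter.unusedSectionVars false

/-!
# Bounds for elementary abelian 2-subgroups of `GL`
-/

namespace Cfsg.Agent.helper17.GLR

open Matrix Subgroup

variable {F : Type*} [Field F]

section general

variable {m : Type*} [Fintype m] [DecidableEq m] (E : Subgroup (GL m F))

theorem ME_inv (hsq : ∀ a ∈ E, a ^ 2 = 1) (e : ↥E) : ME E e * ME E e = 1 := by
  have h := hsq e.1 e.2
  have h1 := congrArg Units.val h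
  rw [pow_two, Units.val_mul, Units.val_one] at h1
  exact h1

theorem ME_comm (hcomm : ∀ a ∈ E, ∀ b ∈ E, a * b = b * a) (e e' : ↥E) :
    ME E e * ME E e' = ME E e' * ME E e := by
  have h := hcomm e.1 e.2 e'.1 e'.2
  have h1 := congrArg Units.val h
  rw [Units.val_mul, Units.val_mul] at h1
  exact h1

theorem ME_inj : Function.Injective (ME E) := by
  intro e e' h
  exact Subtype.ext (Units.ext h)

/-- any elementary abelian 2-subgroup of `GL m F` has order at most `2 ^ |m|` -/
theorem card_le_A (h2 : (2 : F) ≠ 0) [Finite E]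
    (hcomm : ∀ a ∈ E, ∀ b ∈ E, a * b = b * a) (hsq : ∀ a ∈ E, a ^ 2 = 1) :
    Nat.card E ≤ 2 ^ Fintype.card m := by
  classical
  have : Fintype ↥E := Fintype.ofFinite _
  have h1 := card_le_two_pow (ME E) h2 (ME_inv E hsq) (ME_comm E hcomm) (ME_inj E)
  have h3 := two_mul_card_Xs_le (ME E) h2
  have h4 : (Xl (ME E)).card ≤ (Xs (ME E)).card := by
    apply Finset.card_le_card
    unfold Xl
    exact Finset.filter_subset _ _
  have h5 : (Xs (ME E)).card ≤ Fintype.card m := by omega
  rw [Nat.card_eq_fintype_card]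
  exact le_trans h1 (Nat.pow_le_pow_right (by norm_num) h5)

end general

section B

variable {o : Type*} [Fintype o] [DecidableEq o]
variable {x : Type*} [Fintype x] [DecidableEq x]

theorem card_le_B (hsq : ¬ IsSquare (-1 : F)) (h2 : (2 : F) ≠ 0) (a b : F)
    (hab1 : a * a = b * b) (hab2 : 2 * a * b = 1) [Subsingleton x]
    (E : Subgroup (GL ((Fin 2 × o) ⊕ x) F)) [Finite E]
    (hcomm : ∀ a ∈ E, ∀ b ∈ E, a * b = b * a) (hsq' : ∀ a ∈ E, a ^ 2 = 1)
    (hz : ∀ j : o, zU (x := x) j (cU a b hab1 hab2) ∈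
      normalizer (E : Set (GL ((Fin 2 × o) ⊕ x) F))) :
    Nat.card E ≤ 2 ^ ((Fintype.card ((Fin 2 × o) ⊕ x) + 1) / 2) := by
  classical
  have : Fintype ↥E := Fintype.ofFinite _
  have h1 := card_le_two_pow (ME E) h2 (ME_inv E hsq') (ME_comm E hcomm) (ME_inj E)
  have h3 := two_mul_card_Xs_le (ME E) h2
  have h4 : (Xl (ME E)).card ≤ 1 := by
    rw [Finset.card_le_one]
    intro s hs s' hs'
    unfold Xl at hs hs'
    obtain ⟨hsX, v, hv⟩ := Finset.mem_filter.mp hs
    obtain ⟨hsX', v', hv'⟩ := Finset.mem_filter.mp hs'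
    have hv0 : v ≠ 0 := by
      intro h
      apply (mem_Xs (ME E) s).mp hsX
      rw [hv, h]
      simp
    have hv0' : v' ≠ 0 := by
      intro h
      apply (mem_Xs (ME E) s').mp hsX'
      rw [hv', h]
      simp
    have hl : ∀ j i, v (Sum.inl (i, j)) = 0 := fun j =>
      no_line hsq h2 a b hab1 hab2 E j (hz j) s v hv hv0
    have hl' : ∀ j i, v' (Sum.inl (i, j)) = 0 := fun j =>
      no_line hsq h2 a b hab1 hab2 E j (hz j) s' v' hv' hv0'
    -- a coordinate where v is nonzero
    have hex : ∃ t : x, v (Sum.inr t) ≠ 0 := by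
      by_contra hcon
      push Not at hcon
      apply hv0
      funext c
      rcases c with ⟨i, j⟩ | t
      · exact hl j i
      · exact hcon t
    obtain ⟨t₀, ht₀⟩ := hex
    have hvv : v' = (v' (Sum.inr t₀) / v (Sum.inr t₀)) • v := by
      funext c
      rcases c with ⟨i, j⟩ | t
      · simp [hl j i, hl' j i]
      · rw [Subsingleton.elim t t₀]
        simp only [Pi.smul_apply, smul_eq_mul]
        field_simp
    have hvW : v' ∈ W (ME E) Finset.univ s := by
      rw [hv, hvv]
      exact Submodule.smul_mem _ _ (Submodule.mem_span_singleton_self v)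
    have hvW' : v' ∈ W (ME E) Finset.univ s' := by
      rw [hv']
      exact Submodule.mem_span_singleton_self v'
    by_contra hne
    obtain ⟨e, he⟩ := Function.ne_iff.mp hne
    have h5 := hvW e (Finset.mem_univ _)
    have h6 := hvW' e (Finset.mem_univ _)
    rw [h5] at h6
    have h7 : (sgn F (s e) - sgn F (s' e)) • v' = 0 := by
      rw [sub_smul, h6, sub_self]
    rcases smul_eq_zero.mp h7 with h8 | h8
    · exact sgn_sub_of_ne h2 he h8
    · exact hv0' h8
  have h5 : (Xs (ME E)).card ≤ (Fintype.card ((Fin 2 × o) ⊕ x) + 1) / 2 := by omega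
  rw [Nat.card_eq_fintype_card]
  exact le_trans h1 (Nat.pow_le_pow_right (by norm_num) h5)

end B

theorem exists_ab [Fintype F] (hq : Fintype.card F % 4 = 3) :
    ¬ IsSquare (-1 : F) ∧ ∃ a b : F, a * a = b * b ∧ 2 * a * b = 1 := by
  have hns : ¬ IsSquare (-1 : F) := by
    rw [FiniteField.isSquare_neg_one_iff]
    omega
  refine ⟨hns, ?_⟩
  have hchar : ringChar F ≠ 2 := by
    intro h
    have := FiniteField.even_card_iff_char_two.mp h
    omega
  have h2 : (2 : F) ≠ 0 := Ring.two_ne_zero hchar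
  have hy : (2 : F)⁻¹ ≠ 0 := inv_ne_zero h2
  have hoddexp : Odd (Fintype.card F / 2) := by
    rw [Nat.odd_iff]
    omega
  rcases FiniteField.pow_dichotomy hchar hy with h | h
  · obtain ⟨r, hr⟩ := (FiniteField.isSquare_iff hchar hy).mpr h
    refine ⟨r, r, rfl, ?_⟩
    rw [mul_assoc, ← hr, mul_inv_cancel₀ h2]
  · have h3 : (-(2 : F)⁻¹) ^ (Fintype.card F / 2) = 1 := by
      rw [Odd.neg_pow hoddexp, h, neg_neg]
    obtain ⟨r, hr⟩ := (FiniteField.isSquare_iff hchar (neg_ne_zero.mpr hy)).mpr h3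
    refine ⟨r, -r, by ring, ?_⟩
    have : 2 * r * -r = 2 * (-(r * r)) := by ring
    rw [this, ← hr, neg_neg, mul_inv_cancel₀ h2]

end Cfsg.Agent.helper17.GLR
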