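import Mathlib
import Cfsg.Agent.Lib_helper17_GLR1
import Cfsg.Agent.Lib_helper17_GLR4
import Cfsg.Agent.Lib_helper17_GLR7
import Cfsg.Prelude.Def_Transfer

set_option autoImplicit false
set_option linter.unusedSectionVars false

/-!
# Normal 2-rank of `GL_n(q)`: assembly
-/

namespace Cfsg.Agent.helper17.GLR

open Matrix Subgroup
open Cfsg.Agent.helper17.SpR (cc fact_two_prime exists_normal_sub)

theorem val_eq_of_dvd {a m b : ℕ} (ha : a ≠ 0) (hb : b ≠ 0) (h1 : a ∣ m) (h2 : m ∣ b)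
    (h : a.factorization 2 = b.factorization 2) : m.factorization 2 = b.factorization 2 := by
  have hm : m ≠ 0 := fun h0 => hb (by rw [h0] at h2; exact Nat.eq_zero_of_zero_dvd h2)
  have h3 := (Nat.factorization_le_iff_dvd ha hm).mpr h1 2
  have h4 := (Nat.factorization_le_iff_dvd hm hb).mpr h2 2
  omega

theorem val_div {F : Type*} [Field F] [Fintype F] (hF : Odd (Fintype.card F)) (bsz m' e : ℕ) :
    (Nat.card (GL (Fin bsz) F) ^ m' * (Fintype.card F - 1) ^ e * m'.factorial).factorization 2 =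
      m' * ff (Fintype.card F) bsz + e * padicValNat 2 (Fintype.card F - 1) +
        padicValNat 2 m'.factorial := by
  have hq1 : 1 < Fintype.card F := Fintype.one_lt_card
  have h1 : Nat.card (GL (Fin bsz) F) ≠ 0 := Nat.card_pos.ne'
  have h2 : Fintype.card F - 1 ≠ 0 := by omega
  rw [Nat.factorization_mul (mul_ne_zero (pow_ne_zero _ h1) (pow_ne_zero _ h2))
    (Nat.factorial_ne_zero _), Nat.factorization_mul (pow_ne_zero _ h1) (pow_ne_zero _ h2),
    Nat.factorization_pow, Nat.factorization_pow]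
  simp only [Finsupp.coe_add, Finsupp.coe_smul, Pi.add_apply, Pi.smul_apply, smul_eq_mul]
  rw [val_GL hF, Nat.factorization_def _ Nat.prime_two, Nat.factorization_def _ Nat.prime_two]

theorem div_ne_zero' {F : Type*} [Field F] [Fintype F] (bsz m' e : ℕ) :
    Nat.card (GL (Fin bsz) F) ^ m' * (Fintype.card F - 1) ^ e * m'.factorial ≠ 0 := by
  have hq1 : 1 < Fintype.card F := Fintype.one_lt_card
  have h1 : Nat.card (GL (Fin bsz) F) ≠ 0 := Nat.card_pos.ne'
  have h2 : Fintype.card F - 1 ≠ 0 := by omega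
  exact mul_ne_zero (mul_ne_zero (pow_ne_zero _ h1) (pow_ne_zero _ h2)) (Nat.factorial_ne_zero _)

/-- reindexing `GL` -/
def reindexGL {F : Type*} [Field F] {ι κ : Type*} [Fintype ι] [DecidableEq ι] [Fintype κ]
    [DecidableEq κ] (e : ι ≃ κ) : GL ι F ≃* GL κ F :=
  Units.mapEquiv (Matrix.reindexAlgEquiv F F e).toRingEquiv.toMulEquiv

theorem ff_one_eq (q : ℕ) : ff q 1 = padicValNat 2 (q - 1) := by
  simp [ff, gg]

/-- lower bound, uniform: block size `bsz`, `m'` blocks, `e` extra coordinates -/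
theorem lower {F : Type*} [Field F] [Fintype F] (hF : Odd (Fintype.card F)) (h2 : (2 : F) ≠ 0)
    (n bsz m' e : ℕ) (hb : 0 < bsz) (hn : bsz * m' + e = n)
    (hval : m' * ff (Fintype.card F) bsz + e * padicValNat 2 (Fintype.card F - 1) +
        padicValNat 2 m'.factorial = ff (Fintype.card F) n)
    (S : Sylow 2 (GL (Fin n) F)) :
    ∃ E : Subgroup ↥(S : Subgroup (GL (Fin n) F)), E.Normal ∧ Cfsg.IsElementaryAbelian 2 E ∧
      2 ^ (m' + e) ≤ Nat.card ↥E := by
  have hcard : Fintype.card ((Fin bsz × Fin m') ⊕ Fin e) = n := by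
    rw [Fintype.card_sum, Fintype.card_prod, Fintype.card_fin, Fintype.card_fin, Fintype.card_fin]
    exact hn
  haveI : Nonempty (Fin bsz) := ⟨⟨0, hb⟩⟩
  let φ : GL ((Fin bsz × Fin m') ⊕ Fin e) F ≃* GL (Fin n) F :=
    reindexGL (Fintype.equivFinOfCardEq hcard)
  have h1 := card_dvd_normalizer_GL (F := F) (o := Fin m') (bt := Fin bsz) (x := Fin e) h2 φ
  rw [Fintype.card_fin, Fintype.card_fin] at h1
  have h3 : (Nat.card (normalizer ((φ.toMonoidHom.comp
      (delta (F := F) (o := Fin m') (bt := Fin bsz) (x := Fin e))).range :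
        Set (GL (Fin n) F)))).factorization 2 = (Nat.card (GL (Fin n) F)).factorization 2 := by
    apply val_eq_of_dvd (div_ne_zero' bsz m' e) Nat.card_pos.ne' h1
      (Subgroup.card_subgroup_dvd_card _)
    rw [val_div hF, val_GL hF, hval]
  obtain ⟨E, hE1, hE2, hE3⟩ := exists_normal_sub _ (range_delta_comm φ) (range_delta_sq φ) h3 S
  refine ⟨E, hE1, hE2, ?_⟩
  rw [card_range_delta h2 φ, Fintype.card_fin, Fintype.card_fin] at hE3
  exact hE3

/-- upper bound, case A -/
theorem upperA {F : Type*} [Field F] [Fintype F] (h2 : (2 : F) ≠ 0) (n : ℕ)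
    (S : Subgroup (GL (Fin n) F)) (E : Subgroup ↥S) (hE : Cfsg.IsElementaryAbelian 2 E) :
    Nat.card ↥E ≤ 2 ^ n := by
  have h1 := card_le_A (F := F) (m := Fin n) (E.map S.subtype) h2 (by
    rintro _ ⟨a, ha, rfl⟩ _ ⟨b, hb, rfl⟩
    rw [← map_mul, ← map_mul]
    congr 1
    have := hE.1.is_comm.comm ⟨a, ha⟩ ⟨b, hb⟩
    exact congrArg Subtype.val this) (by
    rintro _ ⟨a, ha, rfl⟩
    rw [← map_pow, hE.2 a ha, map_one])
  rw [Subgroup.card_map_of_injective S.subtype_injective, Fintype.card_fin] at h1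
  exact h1

end Cfsg.Agent.helper17.GLR
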