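import Mathlib
import Cfsg.Agent.Lib_helper17_GLR8

set_option autoImplicit false
set_option linter.unusedSectionVars false

/-!
# Normal 2-rank of `GL_n(q)`, `q ≡ 3 (mod 4)`: the upper bound
-/

namespace Cfsg.Agent.helper17.GLR

open Matrix Subgroup Pointwise
open Cfsg.Agent.helper17.SpR (cc fact_two_prime exists_normal_sub)

section zall

variable {F : Type*} [Field F]
variable {o : Type*} [Fintype o] [DecidableEq o]
variable {x : Type*} [Fintype x] [DecidableEq x]

/-- all block elements at once -/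
def zAll : (o → GL (Fin 2) F) →* GL ((Fin 2 × o) ⊕ x) F :=
  (beta (F := F) (o := o) (bt := Fin 2) (x := x)).comp
    ((toBB (F := F) (o := o) (bt := Fin 2) (x := x)).toMonoidHom.comp (MonoidHom.inl _ _))

theorem zAll_mulSingle (j : o) (A : GL (Fin 2) F) :
    zAll (x := x) (Pi.mulSingle j A) = zU j A := by
  apply Units.ext
  show beta0 ((fun k => ((Pi.mulSingle j A : o → GL (Fin 2) F) k).val),
    fun i => ((1 : x → Fˣ) i).val) = zM j A.val
  unfold zM
  congr 1
  apply Prod.ext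
  · funext k
    by_cases hk : k = j
    · subst hk; simp
    · simp [hk]
  · rfl

end zall

theorem upperB {F : Type*} [Field F] [Fintype F] (hq : Fintype.card F % 4 = 3) (n : ℕ)
    (S : Sylow 2 (GL (Fin n) F)) (E : Subgroup ↥(S : Subgroup (GL (Fin n) F))) (hEn : E.Normal)
    (hE : Cfsg.IsElementaryAbelian 2 E) : Nat.card ↥E ≤ 2 ^ ((n + 1) / 2) := by
  obtain ⟨hsq, a, b, hab1, hab2⟩ := exists_ab (F := F) hq
  have hchar : ringChar F ≠ 2 := by
    intro h
    have := FiniteField.even_card_iff_char_two.mp h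
    omega
  have h2 : (2 : F) ≠ 0 := Ring.two_ne_zero hchar
  have hcard : Fintype.card ((Fin 2 × Fin (n / 2)) ⊕ Fin (n % 2)) = n := by
    rw [Fintype.card_sum, Fintype.card_prod, Fintype.card_fin, Fintype.card_fin, Fintype.card_fin]
    omega
  haveI : Subsingleton (Fin (n % 2)) := by
    rw [Fin.subsingleton_iff_le_one]
    omega
  let φ : GL ((Fin 2 × Fin (n / 2)) ⊕ Fin (n % 2)) F ≃* GL (Fin n) F :=
    reindexGL (Fintype.equivFinOfCardEq hcard)
  let cu := cU a b hab1 hab2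
  let P : Subgroup (Fin (n / 2) → GL (Fin 2) F) :=
    Subgroup.pi Set.univ (fun _ => Subgroup.zpowers cu)
  have hP : IsPGroup 2 P := by
    intro g
    refine ⟨3, ?_⟩
    apply Subtype.ext
    funext i
    have hgi : g.1 i ∈ Subgroup.zpowers cu := g.2 i (Set.mem_univ _)
    obtain ⟨r, hr⟩ := Subgroup.mem_zpowers_iff.mp hgi
    show (g.1 ^ (2 ^ 3)) i = 1
    rw [Pi.pow_apply, ← hr, ← zpow_natCast, ← _root_.zpow_mul, mul_comm, _root_.zpow_mul, zpow_natCast]
    have : cu ^ (2 ^ 3) = 1 := cU_pow8 a b hab1 hab2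
    rw [this, _root_.one_zpow]
  let ζ : (Fin (n / 2) → GL (Fin 2) F) →* GL (Fin n) F :=
    φ.toMonoidHom.comp (zAll (x := Fin (n % 2)))
  have hZ : IsPGroup 2 (P.map ζ) := hP.map ζ
  obtain ⟨Q, hQ⟩ := hZ.exists_le_sylow
  obtain ⟨g, hg⟩ := MulAction.exists_smul_eq (GL (Fin n) F) Q S
  have hmemS : ∀ y ∈ P.map ζ, g * y * g⁻¹ ∈ (S : Subgroup (GL (Fin n) F)) := by
    intro y hy
    rw [← hg, Sylow.smul_def]
    have h3 := Subgroup.smul_mem_pointwise_smul y (MulAut.conj g) (Q : Subgroup (GL (Fin n) F))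
      (hQ hy)
    rw [MulAut.smul_def, MulAut.conj_apply] at h3
    exact h3
  let ψ : ↥(S : Subgroup (GL (Fin n) F)) →* GL ((Fin 2 × Fin (n / 2)) ⊕ Fin (n % 2)) F :=
    φ.symm.toMonoidHom.comp ((MulAut.conj g⁻¹).toMonoidHom.comp
      (S : Subgroup (GL (Fin n) F)).subtype)
  have hψ : ∀ s, ψ s = φ.symm (g⁻¹ * s.1 * g) := by
    intro s
    simp [ψ, MulAut.conj_apply]
  have hψinj : Function.Injective ψ := by
    intro s s' h
    rw [hψ, hψ] at h
    have h3 := φ.symm.injective h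
    exact Subtype.ext (mul_left_cancel (mul_right_cancel h3))
  have hz : ∀ j : Fin (n / 2), zU (x := Fin (n % 2)) j cu ∈
      normalizer ((E.map ψ : Subgroup _) : Set (GL ((Fin 2 × Fin (n / 2)) ⊕ Fin (n % 2)) F)) := by
    intro j
    have hyP : (Pi.mulSingle j cu : Fin (n / 2) → GL (Fin 2) F) ∈ P := by
      intro i _
      by_cases hi : i = j
      · subst hi
        simp only [Pi.mulSingle_eq_same]
        exact Subgroup.mem_zpowers cu
      · simp only [Pi.mulSingle_eq_of_ne hi]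
        exact Subgroup.one_mem _
    have hyZ : ζ (Pi.mulSingle j cu) ∈ P.map ζ := Subgroup.mem_map_of_mem ζ hyP
    let sj : ↥(S : Subgroup (GL (Fin n) F)) :=
      ⟨g * ζ (Pi.mulSingle j cu) * g⁻¹, hmemS _ hyZ⟩
    have hsj : ψ sj = zU (x := Fin (n % 2)) j cu := by
      rw [hψ]
      show φ.symm (g⁻¹ * (g * ζ (Pi.mulSingle j cu) * g⁻¹) * g) = _
      have h5 : g⁻¹ * (g * ζ (Pi.mulSingle j cu) * g⁻¹) * g = ζ (Pi.mulSingle j cu) := by group
      rw [h5]
      show φ.symm (φ (zAll (x := Fin (n % 2)) (Pi.mulSingle j cu))) = _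
      rw [MulEquiv.symm_apply_apply, zAll_mulSingle]
    rw [← hsj, mem_set_normalizer_iff]
    intro h
    constructor
    · rintro ⟨e, he, rfl⟩
      refine ⟨sj * e * sj⁻¹, hEn.conj_mem e he sj, ?_⟩
      rw [map_mul, map_mul, map_inv]
    · rintro ⟨e', he', h6⟩
      refine ⟨sj⁻¹ * e' * sj, ?_, ?_⟩
      · have := hEn.conj_mem e' he' sj⁻¹
        rwa [inv_inv] at this
      · rw [map_mul, map_mul, map_inv, h6]
        group
  have h7 := card_le_B hsq h2 a b hab1 hab2 (E.map ψ) (by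
    rintro _ ⟨a', ha', rfl⟩ _ ⟨b', hb', rfl⟩
    rw [← map_mul, ← map_mul]
    congr 1
    exact hE.1.is_comm.comm ⟨a', ha'⟩ ⟨b', hb'⟩ |> congrArg Subtype.val) (by
    rintro _ ⟨a', ha', rfl⟩
    rw [← map_pow, hE.2 a' ha', map_one]) hz
  rw [Subgroup.card_map_of_injective hψinj, hcard] at h7
  exact h7

end Cfsg.Agent.helper17.GLR
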