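import Mathlib

set_option autoImplicit false

namespace Cfsg.Agent.helper17.LS

open Matrix

variable {V : Type*} [AddCommGroup V] [Fintype V] [DecidableEq V]
variable {L : Type*} [Field L] {d : ℕ}

/-- data for the Fourier decomposition of a representation of a finite abelian group -/
structure FData (V : Type*) [AddCommGroup V] [Fintype V] [DecidableEq V] (L : Type*) [Field L] (d : ℕ) where
  R : V → Matrix (Fin d) (Fin d) L
  R_zero : R 0 = 1
  R_add : ∀ v v', R (v + v') = R v * R v'
  χ : V → V → L
  χ_zero : ∀ w, χ w 0 = 1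
  χ_add : ∀ w v v', χ w (v + v') = χ w v * χ w v'
  N_ne : (Fintype.card V : L) ≠ 0
  orth1 : ∀ v, ∑ w, χ w v = if v = 0 then (Fintype.card V : L) else 0
  orth2 : ∀ w w', ∑ v, χ w v * χ w' (-v) = if w = w' then (Fintype.card V : L) else 0

namespace FData

variable (D : FData V L d)

/-- the isotypic idempotents -/
noncomputable def e (w : V) : Matrix (Fin d) (Fin d) L :=
  (Fintype.card V : L)⁻¹ • ∑ v, D.χ w (-v) • D.R v

lemma sum_e : ∑ w, D.e w = 1 := by
  unfold e
  rw [← Finset.smul_sum, Finset.sum_comm]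
  have h1 : ∀ v, ∑ w, D.χ w (-v) • D.R v = (if v = 0 then (Fintype.card V : L) else 0) • D.R v := by
    intro v
    rw [← Finset.sum_smul, D.orth1 (-v)]
    simp only [neg_eq_zero]
  simp_rw [h1]
  rw [Finset.sum_eq_single 0]
  · rw [if_pos rfl, D.R_zero, smul_smul, inv_mul_cancel₀ D.N_ne, one_smul]
  · intro v _ hv
    rw [if_neg hv, zero_smul]
  · intro h; exact absurd (Finset.mem_univ _) h

lemma e_mul (w w' : V) : D.e w * D.e w' = if w = w' then D.e w else 0 := by
  have key : (∑ v, D.χ w (-v) • D.R v) * (∑ v', D.χ w' (-v') • D.R v') =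
      (if w = w' then (Fintype.card V : L) else 0) • ∑ u, D.χ w' (-u) • D.R u := by
    rw [Finset.sum_mul_sum]
    have h1 : ∀ v, ∑ v', (D.χ w (-v) • D.R v) * (D.χ w' (-v') • D.R v') =
        ∑ u, (D.χ w (-v) * D.χ w' v * D.χ w' (-u)) • D.R u := by
      intro v
      rw [← Equiv.sum_comp (Equiv.subRight v)]
      apply Finset.sum_congr rfl
      intro u _
      simp only [Equiv.subRight_apply, smul_mul_smul_comm, ← D.R_add, add_sub_cancel]
      congr 1
      rw [mul_assoc, ← D.χ_add]
      congr 2
      abel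
    simp_rw [h1]
    rw [Finset.sum_comm, Finset.smul_sum]
    apply Finset.sum_congr rfl
    intro u _
    rw [← Finset.sum_smul, smul_smul]
    congr 1
    rw [← Finset.sum_mul]
    congr 1
    rw [← D.orth2 w w']
    rw [← Equiv.sum_comp (Equiv.neg V)]
    apply Finset.sum_congr rfl
    intro v _
    simp only [Equiv.neg_apply, neg_neg]
  unfold e
  rw [smul_mul_smul_comm, key]
  split_ifs with h
  · subst h
    rw [smul_smul, mul_assoc, inv_mul_cancel₀ D.N_ne, mul_one]
  · rw [zero_smul, smul_zero]

lemma R_mul_e (v w : V) : D.R v * D.e w = D.χ w v • D.e w := by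
  unfold e
  rw [Matrix.mul_smul, smul_comm]
  congr 1
  rw [Finset.mul_sum, Finset.smul_sum]
  rw [← Equiv.sum_comp (Equiv.subRight v)]
  apply Finset.sum_congr rfl
  intro u _
  simp only [Equiv.subRight_apply, Matrix.mul_smul, ← D.R_add, add_sub_cancel, smul_smul]
  congr 1
  rw [← D.χ_add]
  congr 1
  abel

/-- if all non-trivial isotypic components vanish then the representation is trivial -/
lemma R_eq_one (h0 : ∀ v, D.χ 0 v = 1) (h : ∀ w, w ≠ 0 → D.e w = 0) (v : V) : D.R v = 1 := by
  have h1 : D.e 0 = 1 := by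
    rw [← D.sum_e]
    rw [Finset.sum_eq_single 0]
    · intro w _ hw; exact h w hw
    · intro h; exact absurd (Finset.mem_univ _) h
  have := D.R_mul_e v 0
  rw [h1, h0, one_smul, mul_one] at this
  exact this

lemma e_idem (w : V) : D.e w * D.e w = D.e w := by
  rw [e_mul, if_pos rfl]

lemma e_orth {w w' : V} (h : w ≠ w') : D.e w * D.e w' = 0 := by
  rw [e_mul, if_neg h]

/-- the number of non-zero isotypic components is at most the degree -/
lemma card_le (S : Finset V) (hS : ∀ w ∈ S, D.e w ≠ 0) : S.card ≤ d := by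
  classical
  have hx : ∀ w : S, ∃ x : Fin d → L, x ≠ 0 ∧ (D.e w.1) *ᵥ x = x := by
    intro w
    have hne := hS w.1 w.2
    obtain ⟨y, hy⟩ : ∃ y : Fin d → L, (D.e w.1) *ᵥ y ≠ 0 := by
      by_contra hcon
      push Not at hcon
      apply hne
      ext i j
      have := congrFun (hcon (Pi.single j 1)) i
      simpa using this
    refine ⟨(D.e w.1) *ᵥ y, hy, ?_⟩
    rw [Matrix.mulVec_mulVec, e_idem]
  choose x hx0 hxe using hx
  have hli : LinearIndependent L x := by
    rw [linearIndependent_iff']
    intro T c hc w hw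
    have h1 := congrArg (fun z => (D.e w.1) *ᵥ z) hc
    simp only [Matrix.mulVec_sum, Matrix.mulVec_smul, Matrix.mulVec_zero] at h1
    rw [Finset.sum_eq_single w] at h1
    · rw [hxe] at h1
      rcases smul_eq_zero.mp h1 with h | h
      · exact h
      · exact absurd h (hx0 w)
    · intro w' _ hne
      rw [← hxe w', Matrix.mulVec_mulVec, e_orth D (fun h => hne (Subtype.ext h.symm)), Matrix.zero_mulVec,
        smul_zero]
    · intro h; exact absurd hw h
  have := hli.fintype_card_le_finrank
  simpa using this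

end FData

end Cfsg.Agent.helper17.LS
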