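import Mathlib
import Cfsg.Agent.Lib_helper17_LS1

set_option autoImplicit false

namespace Cfsg.Agent.helper17.LS

open Matrix

variable {F : Type*} [Field F] [Fintype F] [DecidableEq F]
variable {m : ℕ}

/-- orthogonality for the characters `v ↦ ψ (v ⬝ u)` of `F^m` -/
lemma sum_psi_dot {L : Type*} [Field L] (ψ : AddChar F L) (hψ : ∃ a, ψ a ≠ 1) (u : Fin m → F) :
    ∑ v : Fin m → F, ψ (v ⬝ᵥ u) = if u = 0 then (Fintype.card (Fin m → F) : L) else 0 := by
  split_ifs with h
  · subst h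
    simp
  · obtain ⟨a, ha⟩ := hψ
    obtain ⟨i, hi⟩ : ∃ i, u i ≠ 0 := by
      by_contra hcon
      push Not at hcon
      exact h (funext hcon)
    let φ : AddChar (Fin m → F) L := ψ.compAddMonoidHom
      { toFun := fun v => v ⬝ᵥ u
        map_zero' := by simp
        map_add' := fun v v' => by simp [add_dotProduct] }
    have hφ : φ ≠ 1 := by
      rw [AddChar.ne_one_iff]
      refine ⟨Pi.single i (a / u i), ?_⟩
      show ψ (Pi.single i (a / u i) ⬝ᵥ u) ≠ 1
      rw [single_dotProduct, div_mul_cancel₀ _ hi]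
      exact ha
    exact AddChar.sum_eq_zero_of_ne_one hφ

/-- the root subgroup elements -/
def X (v : Fin m → F) : SpecialLinearGroup (Unit ⊕ Fin m) F :=
  ⟨fromBlocks 1 (replicateRow Unit v) 0 1, by simp [det_fromBlocks_zero₂₁]⟩

/-- the Levi elements -/
def Lv (g : SpecialLinearGroup (Fin m) F) : SpecialLinearGroup (Unit ⊕ Fin m) F :=
  ⟨fromBlocks 1 0 0 g.1, by simp [det_fromBlocks_zero₂₁, g.2]⟩

lemma X_zero : X (0 : Fin m → F) = 1 := by
  apply Subtype.ext
  show fromBlocks 1 (replicateRow Unit (0 : Fin m → F)) 0 1 = 1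
  rw [← fromBlocks_one]
  congr 1

lemma X_add (v v' : Fin m → F) : X (v + v') = X v * X v' := by
  apply Subtype.ext
  show fromBlocks 1 (replicateRow Unit (v + v')) 0 1 =
    fromBlocks 1 (replicateRow Unit v) 0 1 * fromBlocks 1 (replicateRow Unit v') 0 1
  rw [fromBlocks_multiply]
  simp [replicateRow_add, add_comm]

lemma X_Lv (v : Fin m → F) (g : SpecialLinearGroup (Fin m) F) :
    X v * Lv g = Lv g * X (v ᵥ* g.1) := by
  apply Subtype.ext
  show fromBlocks 1 (replicateRow Unit v) 0 1 * fromBlocks 1 0 0 g.1 =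
    fromBlocks 1 0 0 g.1 * fromBlocks 1 (replicateRow Unit (v ᵥ* g.1)) 0 1
  rw [fromBlocks_multiply, fromBlocks_multiply]
  simp [replicateRow_vecMul]

lemma X_apply (v : Fin m → F) (j : Fin m) : (X v).1 (Sum.inl ()) (Sum.inr j) = v j := by
  show fromBlocks 1 (replicateRow Unit v) 0 1 (Sum.inl ()) (Sum.inr j) = v j
  simp

end Cfsg.Agent.helper17.LS
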