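import Mathlib
import Cfsg.Agent.Lib_helper17_LS2

set_option autoImplicit false

namespace Cfsg.Agent.helper17.LS

open Matrix

variable {F : Type*} [Field F]
variable {m : ℕ}

/-- a linear functional on `F^m` is a dot product -/
lemma dual_eq_dot (f : Module.Dual F (Fin m → F)) :
    ∀ v, f v = (fun i => f (Pi.single i 1)) ⬝ᵥ v := by
  intro v
  conv_lhs => rw [← Finset.univ_sum_single v]
  rw [map_sum, dotProduct]
  apply Finset.sum_congr rfl
  intro i _
  have : (Pi.single i (v i) : Fin m → F) = v i • Pi.single i 1 := by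
    ext j
    simp [Pi.single_apply]
  rw [this, map_smul, smul_eq_mul, mul_comm]

lemma trans_step {w w' : Fin m → F} (hw : w ≠ 0) (h : w' ∉ Submodule.span F {w}) :
    ∃ g : SpecialLinearGroup (Fin m) F, g.1 *ᵥ w = w' := by
  have hnot : w ∉ Submodule.span F {w' - w} := by
    intro hmem
    obtain ⟨c, hc⟩ := Submodule.mem_span_singleton.mp hmem
    by_cases hc0 : c = 0
    · subst hc0
      rw [zero_smul] at hc
      exact hw hc.symm
    · apply h
      rw [Submodule.mem_span_singleton]
      refine ⟨c⁻¹ * (1 + c), ?_⟩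
      have h1 : c • w' = (1 + c) • w := by
        rw [smul_sub] at hc
        rw [add_smul, one_smul]
        nth_rewrite 1 [← hc]
        abel
      rw [mul_smul, ← h1, smul_smul, inv_mul_cancel₀ hc0, one_smul]
  obtain ⟨f, hf1, hf2⟩ := Submodule.exists_dual_map_eq_bot_of_notMem hnot inferInstance
  have hfu : f (w' - w) = 0 := by
    have : f (w' - w) ∈ (Submodule.span F {w' - w}).map f :=
      Submodule.mem_map_of_mem (Submodule.mem_span_singleton_self _)
    rw [hf2] at this
    exact (Submodule.mem_bot F).mp this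
  set r : Fin m → F := fun i => f (Pi.single i 1) / f w with hr
  have hrd : ∀ v, r ⬝ᵥ v = f v / f w := by
    intro v
    rw [dual_eq_dot f v]
    simp only [dotProduct, hr, Finset.sum_div]
    apply Finset.sum_congr rfl
    intro i _
    ring
  refine ⟨⟨1 + vecMulVec (w' - w) r, ?_⟩, ?_⟩
  · rw [vecMulVec_eq Unit, det_one_add_replicateCol_mul_replicateRow, hrd, hfu, zero_div, add_zero]
  · show (1 + vecMulVec (w' - w) r) *ᵥ w = w'
    rw [add_mulVec, one_mulVec, vecMulVec_mulVec, hrd, div_self hf1]
    simp

lemma exists_not_mem_span (hm : 2 ≤ m) (w : Fin m → F) : ∃ z : Fin m → F, z ∉ Submodule.span F {w} := by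
  by_contra hcon
  push Not at hcon
  have htop : Submodule.span F {w} = ⊤ := by
    rw [eq_top_iff]
    intro z _
    exact hcon z
  have h1 : Module.finrank F (Submodule.span F {w}) ≤ 1 := by
    have := finrank_span_le_card (R := F) ({w} : Set (Fin m → F))
    simpa using this
  rw [htop, finrank_top, Module.finrank_fin_fun] at h1
  omega

/-- `SL_m` is transitive on the non-zero vectors for `m ≥ 2` -/
lemma SL_transitive (hm : 2 ≤ m) {w w' : Fin m → F} (hw : w ≠ 0) (hw' : w' ≠ 0) :
    ∃ g : SpecialLinearGroup (Fin m) F, g.1 *ᵥ w = w' := by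
  by_cases h : w' ∈ Submodule.span F {w}
  · obtain ⟨z, hz⟩ := exists_not_mem_span hm w
    have hz0 : z ≠ 0 := by
      rintro rfl
      exact hz (Submodule.zero_mem _)
    obtain ⟨g1, hg1⟩ := trans_step hw hz
    have h2 : w' ∉ Submodule.span F {z} := by
      intro hmem
      obtain ⟨c, hc⟩ := Submodule.mem_span_singleton.mp hmem
      have hc0 : c ≠ 0 := by
        rintro rfl
        rw [zero_smul] at hc
        exact hw' hc.symm
      apply hz
      have : z = c⁻¹ • w' := by
        rw [← hc, smul_smul, inv_mul_cancel₀ hc0, one_smul]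
      rw [this]
      exact Submodule.smul_mem _ _ h
    obtain ⟨g2, hg2⟩ := trans_step hz0 h2
    refine ⟨g2 * g1, ?_⟩
    show (g2.1 * g1.1) *ᵥ w = w'
    rw [← mulVec_mulVec, hg1, hg2]
  · exact trans_step hw h

end Cfsg.Agent.helper17.LS
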