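import Mathlib
import Cfsg.Agent.Lib_helper17_LS3

set_option autoImplicit false

namespace Cfsg.Agent.helper17.LS

open Matrix

variable {F : Type*} [Field F] [Fintype F] [DecidableEq F]
variable {m : ℕ}

/-- the Fourier data attached to a representation of `SL_{1+m}` restricted to the root subgroup -/
noncomputable def mkD {L : Type*} [Field L] (ψ : AddChar F L) (hψ : ∃ a, ψ a ≠ 1)
    (hN : (Fintype.card F : L) ≠ 0) {d : ℕ}
    (σ : SpecialLinearGroup (Unit ⊕ Fin m) F →* GL (Fin d) L) : FData (Fin m → F) L d where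
  R := fun v => (σ (X v)).1
  R_zero := by rw [X_zero, map_one]; rfl
  R_add := fun v v' => by rw [X_add, map_mul]; rfl
  χ := fun w v => ψ (v ⬝ᵥ w)
  χ_zero := fun w => by simp
  χ_add := fun w v v' => by rw [add_dotProduct, AddChar.map_add_eq_mul]
  N_ne := by
    rw [Fintype.card_fun, Fintype.card_fin, Nat.cast_pow]
    exact pow_ne_zero _ hN
  orth1 := fun v => by
    have := sum_psi_dot ψ hψ v
    rw [← this]
    apply Finset.sum_congr rfl
    intro w _
    rw [dotProduct_comm]
  orth2 := fun w w' => by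
    have := sum_psi_dot ψ hψ (w - w')
    simp only [sub_eq_zero] at this
    rw [← this]
    apply Finset.sum_congr rfl
    intro v _
    rw [← AddChar.map_add_eq_mul, neg_dotProduct, dotProduct_sub, sub_eq_add_neg]

theorem main {L : Type*} [Field L] (ψ : AddChar F L) (hψ : ∃ a, ψ a ≠ 1)
    (hN : (Fintype.card F : L) ≠ 0) {d : ℕ}
    (σ : SpecialLinearGroup (Unit ⊕ Fin m) F →* GL (Fin d) L) (hm : 2 ≤ m)
    (hker : ∀ v : Fin m → F, σ (X v) = 1 → v = 0) : Fintype.card F ^ m - 1 ≤ d := by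
  set D := mkD ψ hψ hN σ with hD
  have hR : ∀ v, D.R v = (σ (X v)).1 := fun v => rfl
  have hχ : ∀ w v, D.χ w v = ψ (v ⬝ᵥ w) := fun w v => rfl
  -- equivariance
  have hequiv : ∀ (g : SpecialLinearGroup (Fin m) F) (w : Fin m → F),
      D.e (g.1 *ᵥ w) * (σ (Lv g)).1 = (σ (Lv g)).1 * D.e w := by
    intro g w
    unfold FData.e
    rw [Matrix.smul_mul, Matrix.mul_smul]
    congr 1
    rw [Finset.sum_mul, Finset.mul_sum]
    have hbij : Function.Bijective (fun v : Fin m → F => v ᵥ* g.1) := by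
      refine Function.bijective_iff_has_inverse.mpr ⟨fun v => v ᵥ* (g⁻¹).1, ?_, ?_⟩
      · intro v
        show (v ᵥ* g.1) ᵥ* (g⁻¹).1 = v
        have h1 : g.1 * (g⁻¹).1 = 1 := by
          show (g * g⁻¹).1 = 1
          rw [mul_inv_cancel]; rfl
        rw [vecMul_vecMul, h1, vecMul_one]
      · intro v
        show (v ᵥ* (g⁻¹).1) ᵥ* g.1 = v
        have h1 : (g⁻¹).1 * g.1 = 1 := by
          show (g⁻¹ * g).1 = 1
          rw [inv_mul_cancel]; rfl
        rw [vecMul_vecMul, h1, vecMul_one]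
    rw [← Function.Bijective.sum_comp hbij (fun u => (σ (Lv g)).1 * D.χ w (-u) • D.R u)]
    apply Finset.sum_congr rfl
    intro v _
    rw [Matrix.smul_mul, Matrix.mul_smul]
    congr 1
    · rw [hχ, hχ, neg_dotProduct, neg_dotProduct, dotProduct_mulVec]
    · rw [hR, hR, ← Units.val_mul, ← Units.val_mul, ← map_mul, ← map_mul, X_Lv]
  -- some non-trivial component
  have hex : ∃ w, w ≠ 0 ∧ D.e w ≠ 0 := by
    by_contra hcon
    push Not at hcon
    have h0 : ∀ v, D.χ 0 v = 1 := by
      intro v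
      rw [hχ]
      simp
    obtain ⟨z, hz⟩ : ∃ z : Fin m → F, z ≠ 0 := by
      refine ⟨Pi.single ⟨0, by omega⟩ 1, ?_⟩
      intro h
      have := congrFun h ⟨0, by omega⟩
      simp at this
    apply hz
    apply hker
    apply Units.ext
    have := D.R_eq_one h0 hcon z
    rw [hR] at this
    exact this
  obtain ⟨w₀, hw₀, he₀⟩ := hex
  have hall : ∀ w, w ≠ 0 → D.e w ≠ 0 := by
    intro w hw h0
    obtain ⟨g, hg⟩ := SL_transitive hm hw₀ hw
    have h1 := hequiv g w₀
    rw [hg, h0, Matrix.zero_mul] at h1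
    apply he₀
    have h2 : ((σ (Lv g))⁻¹).1 * ((σ (Lv g)).1 * D.e w₀) = 0 := by
      rw [← h1, Matrix.mul_zero]
    rw [← Matrix.mul_assoc, ← Units.val_mul, inv_mul_cancel, Units.val_one, Matrix.one_mul] at h2
    exact h2
  have := D.card_le (Finset.univ.erase 0) (fun w hw => hall w (Finset.ne_of_mem_erase hw))
  rw [Finset.card_erase_of_mem (Finset.mem_univ _), Finset.card_univ, Fintype.card_fun,
    Fintype.card_fin] at this
  exact this

end Cfsg.Agent.helper17.LS
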