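import Mathlib
import Cfsg.Prelude.Def_Local
import Cfsg.Agent.Lib_lead_Coprime
import Cfsg.Agent.Lib_helper1_PGroup

set_option autoImplicit false

namespace Cfsg.Agent.helper17.LemmaA

open Cfsg.Agent.helper7 Cfsg.Agent.lead
open scoped commutatorElement Pointwise

universe u

/-- In a finite `p`-group, a subgroup generating together with the commutator subgroup is everything. -/
theorem eq_top_of_sup_commutator {P : Type*} [Group P] [Finite P] {p : ℕ} [Fact p.Prime]
    (hP : IsPGroup p P) (R : Subgroup P) (h : R ⊔ commutator P = ⊤) : R = ⊤ := by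
  apply frattini_nongenerating
  apply le_antisymm le_top
  rw [← h]
  exact sup_le_sup_left (Cfsg.Agent.helper1.commutator_le_frattini_of_isPGroup hP) _

/-- The nilpotent step: if every element of the `p`-group `P₂` is, modulo `⁅P₂, P₂⁆`, in `P₁ ≤ P₂`,
then `P₂ ≤ P₁`. -/
theorem nil_step {H : Type*} [Group H] [Finite H] {p : ℕ} [Fact p.Prime] (P₂ P₁ : Subgroup H)
    (hP₂ : IsPGroup p P₂) (h12 : P₁ ≤ P₂)
    (hdec : ∀ x ∈ P₂, ∃ d ∈ ⁅P₂, P₂⁆, d * x ∈ P₁) : P₂ ≤ P₁ := by
  have hR : P₁.subgroupOf P₂ = ⊤ := by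
    apply eq_top_of_sup_commutator hP₂
    rw [eq_top_iff]
    intro x _
    obtain ⟨d, hd, hdx⟩ := hdec x x.2
    rw [← Subgroup.map_subtype_commutator] at hd
    obtain ⟨d', hd', hdd⟩ := hd
    have hx : x = d'⁻¹ * (d' * x) := by group
    rw [hx]
    refine Subgroup.mul_mem _ (Subgroup.mem_sup_right (Subgroup.inv_mem _ hd'))
      (Subgroup.mem_sup_left ?_)
    rw [Subgroup.mem_subgroupOf]
    have : ((d' * x : ↥P₂) : H) = d * x := by
      rw [Subgroup.coe_mul, ← hdd]; rfl
    rw [this]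
    exact hdx
  intro x hx
  have : (⟨x, hx⟩ : ↥P₂) ∈ P₁.subgroupOf P₂ := by rw [hR]; exact Subgroup.mem_top _
  exact Subgroup.mem_subgroupOf.mp this

/-- Core step. `U ≤ T` normal in `H`, `U` a `p`-group inside the derived subgroup of every Sylow
`p`-subgroup, `|T : U|` prime to `p`, and `H` has no nontrivial normal `p'`-subgroup: then `T = U`. -/
theorem core {H : Type u} [Group H] [Finite H] (p : ℕ) [hp : Fact p.Prime]
    (hO : ∀ Q : Subgroup H, Q.Normal → (Nat.card Q).Coprime p → Q = ⊥)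
    (U T : Subgroup H) [hUn : U.Normal] [hTn : T.Normal] (hUT : U ≤ T) (hU : IsPGroup p U)
    (hcop : (U.relIndex T).Coprime p)
    (hUP : ∀ P : Sylow p H, U ≤ ⁅(P : Subgroup H), (P : Subgroup H)⁆) : T ≤ U := by
  classical
  obtain ⟨k, hk⟩ := hU.exists_card_eq
  -- Schur–Zassenhaus complement inside T
  set N : Subgroup ↥T := U.subgroupOf T with hN
  haveI : N.Normal := Subgroup.normal_subgroupOf
  have hNcard : Nat.card N = Nat.card U :=
    Nat.card_congr (Subgroup.subgroupOfEquivOfLe hUT).toEquiv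
  have hNidx : N.index = U.relIndex T := rfl
  have hcopN : (Nat.card N).Coprime N.index := by
    rw [hNcard, hk, hNidx]
    exact Nat.Coprime.pow_left k hcop.symm
  obtain ⟨K, hK⟩ := Subgroup.exists_right_complement'_of_coprime hcopN
  set Q : Subgroup H := K.map T.subtype with hQ
  have hQT : Q ≤ T := Subgroup.map_subtype_le K
  have hQcard : Nat.card Q = U.relIndex T := by
    have h1 : Nat.card Q = Nat.card K := Subgroup.card_map_of_injective T.subtype_injective
    have h2 := hK.card_mul_card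
    have h3 := N.card_mul_index
    have h4 : Nat.card K = N.index := by
      have hpos : 0 < Nat.card N := Nat.card_pos
      exact Nat.eq_of_mul_eq_mul_left hpos (h2.trans h3.symm)
    rw [h1, h4, hNidx]
  have hQcop : (Nat.card Q).Coprime (Nat.card U) := by
    rw [hQcard, hk]
    exact Nat.Coprime.pow_right k hcop
  have hsup : T ≤ U ⊔ Q := by
    have h1 : (N ⊔ K).map T.subtype = T := by
      rw [hK.sup_eq_top, ← MonoidHom.range_eq_map, Subgroup.range_subtype]
    rw [Subgroup.map_sup, hN, Subgroup.subgroupOf_map_subtype] at h1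
    calc T = U ⊓ T ⊔ Q := h1.symm
      _ ≤ U ⊔ Q := sup_le_sup_right inf_le_left _
  -- Frattini argument
  haveI : Group.IsNilpotent ↥U := hU.isNilpotent
  have hUsolv : Group.IsSolvable ↥U := inferInstance
  have hQU : Q ≤ Subgroup.normalizer (U : Set H) := by
    rw [Subgroup.normalizer_eq_top]; exact le_top
  have hfr : ∀ h : H, ∃ d ∈ U, d * h ∈ Subgroup.normalizer (Q : Set H) := by
    intro h
    have hB : cj h Q ≤ U ⊔ Q := by
      refine le_trans ?_ hsup
      intro y hy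
      rw [mem_cj] at hy
      have h1 : h⁻¹ * y * h ∈ T := hQT hy
      have h2 := hTn.conj_mem _ h1 h
      have h3 : h * (h⁻¹ * y * h) * h⁻¹ = y := by group
      rwa [h3] at h2
    obtain ⟨d, hd, hdQ⟩ := sz_conj_semidirect Q U hQU hQcop (Or.inr hUsolv) (cj h Q) hB
      (card_cj h Q)
    rw [cj_cj] at hdQ
    exact ⟨d, hd, mem_normalizer_of_cj_eq hdQ⟩
  -- Sylow subgroups
  set N₀ : Subgroup H := Subgroup.normalizer (Q : Set H) with hN₀
  obtain ⟨P₁'⟩ : Nonempty (Sylow p ↥N₀) := inferInstance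
  set P₁ : Subgroup H := (P₁' : Subgroup ↥N₀).map N₀.subtype with hP₁
  have hP₁p : IsPGroup p P₁ := P₁'.isPGroup'.map _
  have hP₁N : P₁ ≤ N₀ := Subgroup.map_subtype_le _
  obtain ⟨P₂, h12⟩ := hP₁p.exists_le_sylow
  have hUP₂ : U ≤ (P₂ : Subgroup H) := hU.le_sylow_of_normal P₂
  have hdec : ∀ x ∈ (P₂ : Subgroup H), ∃ d ∈ ⁅(P₂ : Subgroup H), (P₂ : Subgroup H)⁆, d * x ∈ P₁ := by
    intro x hx
    obtain ⟨d, hdU, hdn⟩ := hfr x
    refine ⟨d, hUP P₂ hdU, ?_⟩
    have hdx2 : d * x ∈ (P₂ : Subgroup H) := Subgroup.mul_mem _ (hUP₂ hdU) hx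
    set R : Subgroup ↥N₀ := ((P₂ : Subgroup H) ⊓ N₀).subgroupOf N₀ with hR
    have hRp : IsPGroup p R := by
      have h1 : IsPGroup p ((P₂ : Subgroup H) ⊓ N₀ : Subgroup H) := P₂.isPGroup'.to_le inf_le_left
      exact h1.comap_subtype
    have hle : (P₁' : Subgroup ↥N₀) ≤ R := by
      intro y hy
      rw [hR, Subgroup.mem_subgroupOf]
      refine Subgroup.mem_inf.mpr ⟨h12 ?_, y.2⟩
      exact ⟨y, hy, rfl⟩
    have hRe : R = (P₁' : Subgroup ↥N₀) := P₁'.is_maximal' hRp hle
    have hmem : (⟨d * x, hdn⟩ : ↥N₀) ∈ R := by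
      rw [hR, Subgroup.mem_subgroupOf]
      exact Subgroup.mem_inf.mpr ⟨hdx2, hdn⟩
    rw [hRe] at hmem
    exact ⟨⟨d * x, hdn⟩, hmem, rfl⟩
  have hP₂le : (P₂ : Subgroup H) ≤ P₁ := nil_step (P₂ : Subgroup H) P₁ P₂.isPGroup' h12 hdec
  have hUN₀ : U ≤ N₀ := hUP₂.trans (hP₂le.trans hP₁N)
  -- Q is normal
  have hQn : Q.Normal := by
    rw [← Subgroup.normalizer_eq_top_iff, eq_top_iff]
    intro h _
    obtain ⟨d, hdU, hdn⟩ := hfr h
    have h1 : h = d⁻¹ * (d * h) := by group
    rw [h1]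
    exact Subgroup.mul_mem _ (Subgroup.inv_mem _ (hUN₀ hdU)) hdn
  have hQbot : Q = ⊥ := hO Q hQn (by rw [hQcard]; exact hcop)
  have h1 : U.relIndex T = 1 := by
    rw [← hQcard, hQbot]; exact Subgroup.card_bot
  exact Subgroup.relIndex_eq_one.mp h1

/-- Divisibility of relative indices along a normal series intersected with `L`. -/
theorem relIndex_inf_dvd {H : Type*} [Group H] (L A B : Subgroup H) [A.Normal] (hAB : A ≤ B) :
    (L ⊓ A).relIndex (L ⊓ B) ∣ A.relIndex B := by
  have h1 : (L ⊓ A) = A ⊓ (L ⊓ B) := by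
    apply le_antisymm
    · exact le_inf inf_le_right (le_inf inf_le_left (inf_le_right.trans hAB))
    · exact le_inf (inf_le_right.trans inf_le_left) inf_le_left
  rw [h1, Subgroup.inf_relIndex_right]
  have hTB : L ⊓ B ≤ B := inf_le_right
  rw [← Subgroup.relIndex_subgroupOf hTB]
  haveI : (A.subgroupOf B).Normal := Subgroup.normal_subgroupOf
  exact Subgroup.relIndex_dvd_index_of_normal (A.subgroupOf B) ((L ⊓ B).subgroupOf B)

theorem card_mul_relIndex' {H : Type*} [Group H] {U T : Subgroup H} (h : U ≤ T) :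
    Nat.card U * U.relIndex T = Nat.card T := by
  have h1 := (U.subgroupOf T).card_mul_index
  rw [Nat.card_congr (Subgroup.subgroupOfEquivOfLe h).toEquiv] at h1
  exact h1

/-- **Lemma A (the `p`-group part).** `H` finite `p`-solvable with no nontrivial normal `p'`-subgroup,
`L` normal in `H` with `L ∩ P ≤ P'` for every Sylow `p`-subgroup `P`. Then `L` is a `p`-group. -/
theorem isPGroup_of_inf_sylow_le_commutator {H : Type u} [Group H] [Finite H] (p : ℕ)
    [hp : Fact p.Prime] (hps : Cfsg.IsPSolvable p H)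
    (hO : ∀ Q : Subgroup H, Q.Normal → (Nat.card Q).Coprime p → Q = ⊥)
    (L : Subgroup H) [hLn : L.Normal]
    (hLP : ∀ P : Sylow p H, L ⊓ (P : Subgroup H) ≤ ⁅(P : Subgroup H), (P : Subgroup H)⁆) :
    IsPGroup p L := by
  obtain ⟨n, Hs, h0, hlast, hmono, hnorm, hstep⟩ := hps
  have key : ∀ i : ℕ, ∀ hi : i ≤ n,
      IsPGroup p (L ⊓ Hs ⟨i, Nat.lt_succ_of_le hi⟩ : Subgroup H) := by
    intro i
    induction i with
    | zero =>
      intro hi
      have : (⟨0, Nat.lt_succ_of_le hi⟩ : Fin (n + 1)) = 0 := rfl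
      rw [this, h0, inf_bot_eq]
      exact IsPGroup.of_bot
    | succ i ih =>
      intro hi
      have hi' : i ≤ n := Nat.le_of_succ_le hi
      have hUp := ih hi'
      set A : Subgroup H := Hs ⟨i, Nat.lt_succ_of_le hi'⟩ with hA
      set B : Subgroup H := Hs ⟨i + 1, Nat.lt_succ_of_le hi⟩ with hB
      haveI hAn : A.Normal := hnorm _
      haveI hBn : B.Normal := hnorm _
      have hAB : A ≤ B := hmono (by
        rw [Fin.le_def]; exact Nat.le_succ i)
      have hs := hstep ⟨i, hi⟩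
      have e1 : (⟨i, hi⟩ : Fin n).castSucc = ⟨i, Nat.lt_succ_of_le hi'⟩ := rfl
      have e2 : (⟨i, hi⟩ : Fin n).succ = ⟨i + 1, Nat.lt_succ_of_le hi⟩ := rfl
      rw [e1, e2] at hs
      have hdvd := relIndex_inf_dvd L A B hAB
      have hUT : L ⊓ A ≤ L ⊓ B := inf_le_inf_left L hAB
      rcases hs with ⟨m, hm⟩ | hc
      · -- p-power step
        rw [hm] at hdvd
        obtain ⟨j, _, hj⟩ := (Nat.dvd_prime_pow hp.out).mp hdvd
        obtain ⟨k, hk⟩ := hUp.exists_card_eq
        have hcard : Nat.card (L ⊓ B : Subgroup H) = p ^ (k + j) := by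
          have h1 := card_mul_relIndex' hUT
          rw [pow_add, ← hk, ← hj]
          exact h1.symm
        exact IsPGroup.of_card hcard
      · -- p'-step: use the core
        have hcop : ((L ⊓ A).relIndex (L ⊓ B)).Coprime p :=
          Nat.Coprime.coprime_dvd_left hdvd hc
        have hUP : ∀ P : Sylow p H, (L ⊓ A) ≤ ⁅(P : Subgroup H), (P : Subgroup H)⁆ := by
          intro P
          have h1 : (L ⊓ A) ≤ (P : Subgroup H) := hUp.le_sylow_of_normal P
          exact (le_inf inf_le_left h1).trans (hLP P)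
        have hTU := core p hO (L ⊓ A) (L ⊓ B) hUT hUp hcop hUP
        have : L ⊓ B = L ⊓ A := le_antisymm hTU hUT
        rw [this]
        exact hUp
  have hfin := key n le_rfl
  have e3 : (⟨n, Nat.lt_succ_of_le le_rfl⟩ : Fin (n + 1)) = Fin.last n := rfl
  rw [e3, hlast, inf_top_eq] at hfin
  exact hfin

/-- Variant with the hypothesis for a single Sylow `p`-subgroup. -/
theorem isPGroup_of_inf_sylow_le_commutator' {H : Type u} [Group H] [Finite H] (p : ℕ)
    [hp : Fact p.Prime] (hps : Cfsg.IsPSolvable p H)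
    (hO : ∀ Q : Subgroup H, Q.Normal → (Nat.card Q).Coprime p → Q = ⊥)
    (L : Subgroup H) [hLn : L.Normal] (P : Sylow p H)
    (hLP : L ⊓ (P : Subgroup H) ≤ ⁅(P : Subgroup H), (P : Subgroup H)⁆) :
    IsPGroup p L := by
  apply isPGroup_of_inf_sylow_le_commutator p hps hO L
  intro P'
  obtain ⟨g, hg⟩ := MulAction.exists_smul_eq H P P'
  have hP' : (P' : Subgroup H) = cj g (P : Subgroup H) := by
    rw [← hg, Sylow.coe_subgroup_smul]
    rfl
  rw [hP', ← cj_commutator]
  intro x hx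
  have hx1 : x ∈ L := hx.1
  have hx2 : g⁻¹ * x * g ∈ (P : Subgroup H) := mem_cj.mp hx.2
  have hgx : g⁻¹ * x * g ∈ L := by
    have := hLn.conj_mem x hx1 g⁻¹
    rwa [inv_inv] at this
  have hc := hLP ⟨hgx, hx2⟩
  exact mem_cj.mpr hc

end Cfsg.Agent.helper17.LemmaA
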