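import Cfsg.Statements.S0233
import Mathlib

set_option autoImplicit false
set_option linter.style.haveILetI false
open Cfsg

namespace Cfsg.Agent.S0233

variable {G : Type*} [Group G]

/-- The extended centralizer: elements centralizing or inverting `x`. -/
def cstar (x : G) : Subgroup G where
  carrier := {g | g * x * g⁻¹ = x ∨ g * x * g⁻¹ = x⁻¹}
  mul_mem' := by
    intro a b ha hb
    have e : a * b * x * (a * b)⁻¹ = a * (b * x * b⁻¹) * a⁻¹ := by group
    show a * b * x * (a * b)⁻¹ = x ∨ a * b * x * (a * b)⁻¹ = x⁻¹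
    rw [e]
    rcases hb with hb | hb
    · rw [hb]; exact ha
    · rw [hb]
      have e2 : a * x⁻¹ * a⁻¹ = (a * x * a⁻¹)⁻¹ := by group
      rw [e2]
      rcases ha with ha | ha
      · right; rw [ha]
      · left; rw [ha, inv_inv]
  one_mem' := Or.inl (by group)
  inv_mem' := by
    intro a ha
    show a⁻¹ * x * a⁻¹⁻¹ = x ∨ a⁻¹ * x * a⁻¹⁻¹ = x⁻¹
    rcases ha with ha | ha
    · left
      calc a⁻¹ * x * a⁻¹⁻¹ = a⁻¹ * (a * x * a⁻¹) * a := by rw [ha, inv_inv]
        _ = x := by group
    · right
      have h1 : x = a⁻¹ * x⁻¹ * a := by rw [← ha]; group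
      calc a⁻¹ * x * a⁻¹⁻¹ = (a⁻¹ * x⁻¹ * a)⁻¹ := by group
        _ = x⁻¹ := by rw [← h1]

theorem mem_cstar (x g : G) : g ∈ cstar x ↔ g * x * g⁻¹ = x ∨ g * x * g⁻¹ = x⁻¹ := Iff.rfl

theorem inv_eq_self_of_orderOf_two {u : G} (hu : orderOf u = 2) : u⁻¹ = u := by
  have hu2 : u * u = 1 := by rw [← sq, ← hu]; exact pow_orderOf_eq_one u
  exact inv_eq_of_mul_eq_one_left hu2

theorem inverts {u v : G} (hu : orderOf u = 2) (hv : orderOf v = 2) :
    u * (u * v) * u⁻¹ = (u * v)⁻¹ := by
  have hu2 : u * u = 1 := by rw [← sq, ← hu]; exact pow_orderOf_eq_one u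
  have hui : u⁻¹ = u := inv_eq_self_of_orderOf_two hu
  have hvi : v⁻¹ = v := inv_eq_self_of_orderOf_two hv
  rw [mul_inv_rev, hui, hvi, ← mul_assoc, hu2, one_mul]

theorem card_filter_mem [Fintype G] (H : Subgroup G) [DecidablePred (· ∈ H)] :
    (Finset.univ.filter (· ∈ H)).card = Nat.card H := by
  rw [Nat.card_eq_fintype_card, Fintype.card_subtype]

/-- The counting core of Brauer–Fowler.  `r` is a lower bound for the index of every proper
subgroup, and `G` has no subgroup of index two. -/
theorem count_core [Finite G] (hZ : Odd (Nat.card (Subgroup.center G)))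
    (h2 : ∀ H : Subgroup G, H.index ≠ 2) (r : ℕ) (hr : 0 < r)
    (hmin : ∀ K : Subgroup G, K ≠ ⊤ → r ≤ K.index) (t₀ : G) (ht₀ : orderOf t₀ = 2) :
    2 * r * (Nat.card {t : G // orderOf t = 2}) ^ 2 <
      Nat.card G * (Nat.card G + Nat.card {t : G // orderOf t = 2}) := by
  classical
  have : Fintype G := Fintype.ofFinite G
  set N := Nat.card G with hN
  have hNF : N = Fintype.card G := Nat.card_eq_fintype_card
  have hNpos : 0 < N := Nat.card_pos
  set I : Finset G := Finset.univ.filter (fun t => orderOf t = 2) with hI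
  have hIn : Nat.card {t : G // orderOf t = 2} = I.card := by
    rw [Nat.card_eq_fintype_card, Fintype.card_subtype]
  rw [hIn]
  set n := I.card with hn
  have hmemI : ∀ x : G, x ∈ I ↔ orderOf x = 2 := by
    intro x; rw [hI, Finset.mem_filter]; simp
  have hnpos : 0 < n := Finset.card_pos.mpr ⟨t₀, (hmemI t₀).mpr ht₀⟩
  -- F1
  have hF1 : ∀ K : Subgroup G, K ≠ ⊤ → r * Nat.card K ≤ N := by
    intro K hK
    calc r * Nat.card K ≤ K.index * Nat.card K := Nat.mul_le_mul_right _ (hmin K hK)
      _ = N := Subgroup.index_mul_card K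
  -- F2
  have hF2 : ∀ x : G, orderOf x = 2 → Subgroup.centralizer ({x} : Set G) ≠ ⊤ := by
    intro x hx htop
    have hxc : x ∈ Subgroup.center G := by
      rw [Subgroup.mem_center_iff]
      intro g
      have : g ∈ Subgroup.centralizer ({x} : Set G) := by rw [htop]; exact Subgroup.mem_top g
      exact Subgroup.mem_centralizer_singleton_iff.mp this
    have h1 : orderOf (⟨x, hxc⟩ : Subgroup.center G) = 2 := by
      rw [← Subgroup.orderOf_coe]; exact hx
    have h3 : 2 ∣ Nat.card (Subgroup.center G) := by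
      rw [← h1]; exact orderOf_dvd_natCard _
    rcases hZ with ⟨k, hk⟩
    omega
  -- fibres
  set fib : G → Finset (G × G) := fun x => (I ×ˢ I).filter (fun p => p.1 * p.2 = x) with hfib
  have hmemfib : ∀ (x : G) (p : G × G), p ∈ fib x ↔
      (orderOf p.1 = 2 ∧ orderOf p.2 = 2) ∧ p.1 * p.2 = x := by
    intro x p
    rw [hfib]
    simp only [Finset.mem_filter, Finset.mem_product, hmemI]
  have hsum : n ^ 2 = ∑ x : G, (fib x).card := by
    have := Finset.card_eq_sum_card_fiberwise (f := fun p : G × G => p.1 * p.2) (s := I ×ˢ I)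
      (t := Finset.univ) (fun p _ => Finset.mem_coe.mpr (Finset.mem_univ _))
    rw [Finset.card_product, ← sq] at this
    exact this
  have hfst_inj : ∀ x : G, Set.InjOn (fun p : G × G => p.1) (fib x : Set (G × G)) := by
    intro x p hp q hq hpq
    rw [Finset.mem_coe, hmemfib] at hp hq
    have h1 : p.1 * p.2 = q.1 * q.2 := by rw [hp.2, hq.2]
    have hpq' : p.1 = q.1 := hpq
    rw [hpq'] at h1
    exact Prod.ext hpq' (mul_left_cancel h1)
  -- bound (i)
  have hB1 : ∀ x : G, (fib x).card ≤ n := by
    intro x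
    apply Finset.card_le_card_of_injOn (fun p : G × G => p.1)
    · intro p hp
      rw [Finset.mem_coe, hmemfib] at hp
      exact Finset.mem_coe.mpr ((hmemI _).mpr hp.1.1)
    · exact hfst_inj x
  have hinv : ∀ (x : G) (p : G × G), p ∈ fib x → p.1 * x * p.1⁻¹ = x⁻¹ := by
    intro x p hp
    rw [hmemfib] at hp
    rw [← hp.2]
    exact inverts hp.1.1 hp.1.2
  -- bound (ii)
  have hB2 : ∀ x : G, orderOf x = 2 →
      (fib x).card + 2 ≤ Nat.card (Subgroup.centralizer ({x} : Set G)) := by
    intro x hx
    rw [← card_filter_mem]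
    set U := (fib x).image (fun p : G × G => p.1) with hU
    have hUcard : U.card = (fib x).card := Finset.card_image_of_injOn (hfst_inj x)
    have hx1 : x ≠ 1 := by
      rintro rfl
      rw [orderOf_one] at hx; omega
    have h1U : (1 : G) ∉ U := by
      intro h
      rw [hU, Finset.mem_image] at h
      obtain ⟨p, hp, hp1⟩ := h
      rw [hmemfib] at hp
      have : orderOf p.1 = 2 := hp.1.1
      rw [show p.1 = 1 from hp1, orderOf_one] at this; omega
    have hxU : x ∉ U := by
      intro h
      rw [hU, Finset.mem_image] at h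
      obtain ⟨p, hp, hp1⟩ := h
      rw [hmemfib] at hp
      have h3 : p.1 * p.2 = x := hp.2
      rw [show p.1 = x from hp1] at h3
      have h4 : p.2 = 1 := by
        have : x * p.2 = x * 1 := by rw [h3, mul_one]
        exact mul_left_cancel this
      have : orderOf p.2 = 2 := hp.1.2
      rw [h4, orderOf_one] at this; omega
    have hsub : insert 1 (insert x U) ⊆
        Finset.univ.filter (· ∈ Subgroup.centralizer ({x} : Set G)) := by
      intro g hg
      rw [Finset.mem_filter]
      refine ⟨Finset.mem_univ _, ?_⟩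
      rw [Finset.mem_insert, Finset.mem_insert] at hg
      rcases hg with rfl | rfl | hg
      · exact Subgroup.one_mem _
      · exact Subgroup.mem_centralizer_singleton_iff.mpr rfl
      · rw [hU, Finset.mem_image] at hg
        obtain ⟨p, hp, rfl⟩ := hg
        have h5 := hinv x p hp
        rw [inv_eq_self_of_orderOf_two hx] at h5
        rw [Subgroup.mem_centralizer_singleton_iff]
        exact mul_inv_eq_iff_eq_mul.mp h5
    have hcard : (insert 1 (insert x U)).card = U.card + 2 := by
      rw [Finset.card_insert_of_notMem, Finset.card_insert_of_notMem hxU]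
      rw [Finset.mem_insert]
      push Not
      exact ⟨fun h => hx1 h.symm, h1U⟩
    rw [← hUcard, ← hcard]
    exact Finset.card_le_card hsub
  -- bound (iii)
  have hB3 : ∀ x : G, x ≠ 1 → orderOf x ≠ 2 → (fib x).Nonempty →
      2 * r * (fib x).card ≤ N := by
    intro x hx1 hx2 hne
    obtain ⟨p₀, hp₀⟩ := hne
    have hinv₀ := hinv x p₀ hp₀
    have hxx : x⁻¹ ≠ x := by
      intro h
      have h1 : x ^ 2 = 1 := by
        rw [sq]
        calc x * x = x⁻¹ * x := by rw [h]
          _ = 1 := inv_mul_cancel x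
      have h2 : orderOf x ∣ 2 := orderOf_dvd_of_pow_eq_one h1
      rcases (Nat.dvd_prime Nat.prime_two).mp h2 with h3 | h3
      · exact hx1 (orderOf_eq_one_iff.mp h3)
      · exact hx2 h3
    have hle : (fib x).card ≤ Nat.card (Subgroup.centralizer ({x} : Set G)) := by
      rw [← card_filter_mem]
      apply Finset.card_le_card_of_injOn (fun p : G × G => p₀.1⁻¹ * p.1)
      · intro p hp
        rw [Finset.mem_coe] at hp
        rw [Finset.mem_coe, Finset.mem_filter]
        refine ⟨Finset.mem_univ _, ?_⟩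
        have h5 := hinv x p hp
        rw [Subgroup.mem_centralizer_singleton_iff]
        have h6 : p.1 * x = x⁻¹ * p.1 := mul_inv_eq_iff_eq_mul.mp h5
        have h7 : p₀.1 * x = x⁻¹ * p₀.1 := mul_inv_eq_iff_eq_mul.mp hinv₀
        have h8 : p₀.1⁻¹ * x⁻¹ = x * p₀.1⁻¹ := by
          have : x⁻¹ = p₀.1 * x * p₀.1⁻¹ := hinv₀.symm
          rw [this]; group
        calc p₀.1⁻¹ * p.1 * x = p₀.1⁻¹ * (p.1 * x) := by rw [mul_assoc]
          _ = p₀.1⁻¹ * (x⁻¹ * p.1) := by rw [h6]
          _ = (p₀.1⁻¹ * x⁻¹) * p.1 := by rw [mul_assoc]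
          _ = x * p₀.1⁻¹ * p.1 := by rw [h8]
          _ = x * (p₀.1⁻¹ * p.1) := by rw [mul_assoc]
      · intro p hp q hq hpq
        apply hfst_inj x hp hq
        exact mul_left_cancel hpq
    -- the extended centralizer
    have hCD : Subgroup.centralizer ({x} : Set G) ≤ cstar x := by
      intro g hg
      rw [Subgroup.mem_centralizer_singleton_iff] at hg
      rw [mem_cstar]
      left
      rw [hg, mul_inv_cancel_right]
    have hp₀D : p₀.1 ∈ cstar x := (mem_cstar x p₀.1).mpr (Or.inr hinv₀)
    have hp₀C : p₀.1 ∉ Subgroup.centralizer ({x} : Set G) := by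
      intro h
      rw [Subgroup.mem_centralizer_singleton_iff] at h
      apply hxx
      rw [← hinv₀, h, mul_inv_cancel_right]
    have hDtop : cstar x ≠ ⊤ := by
      intro htop
      apply h2 (Subgroup.centralizer ({x} : Set G))
      rw [Subgroup.index_eq_two_iff]
      refine ⟨p₀.1, fun b => ?_⟩
      have hb : b ∈ cstar x := by rw [htop]; exact Subgroup.mem_top b
      rw [mem_cstar] at hb
      have hbp : b * p₀.1 * x * (b * p₀.1)⁻¹ = (b * x * b⁻¹)⁻¹ := by
        calc b * p₀.1 * x * (b * p₀.1)⁻¹ = b * (p₀.1 * x * p₀.1⁻¹) * b⁻¹ := by group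
          _ = b * x⁻¹ * b⁻¹ := by rw [hinv₀]
          _ = (b * x * b⁻¹)⁻¹ := by group
      rcases hb with hb | hb
      · -- b centralizes, b * p₀.1 inverts
        right
        refine ⟨?_, ?_⟩
        · rw [Subgroup.mem_centralizer_singleton_iff]
          exact mul_inv_eq_iff_eq_mul.mp hb
        · intro h
          rw [Subgroup.mem_centralizer_singleton_iff] at h
          have : b * p₀.1 * x * (b * p₀.1)⁻¹ = x := by rw [h, mul_inv_cancel_right]
          rw [hbp, hb] at this
          exact hxx this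
      · left
        refine ⟨?_, ?_⟩
        · rw [Subgroup.mem_centralizer_singleton_iff]
          apply mul_inv_eq_iff_eq_mul.mp
          rw [hbp, hb, inv_inv]
        · intro h
          rw [Subgroup.mem_centralizer_singleton_iff] at h
          have : b * x * b⁻¹ = x := by rw [h, mul_inv_cancel_right]
          rw [hb] at this
          exact hxx this
    have h2C : 2 * Nat.card (Subgroup.centralizer ({x} : Set G)) ≤ Nat.card (cstar x) := by
      obtain ⟨k, hk⟩ := Subgroup.card_dvd_of_le hCD
      have hk0 : k ≠ 0 := by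
        rintro rfl
        rw [mul_zero] at hk
        have : 0 < Nat.card (cstar x) := Nat.card_pos
        omega
      have hk1 : k ≠ 1 := by
        rintro rfl
        rw [mul_one] at hk
        have := Subgroup.eq_of_le_of_card_ge hCD hk.le
        apply hp₀C
        rw [this]; exact hp₀D
      have hk2 : 2 ≤ k := by omega
      rw [hk, mul_comm]
      exact Nat.mul_le_mul_left _ hk2
    calc 2 * r * (fib x).card = r * (2 * (fib x).card) := by ring
      _ ≤ r * (2 * Nat.card (Subgroup.centralizer ({x} : Set G))) :=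
        Nat.mul_le_mul_left _ (Nat.mul_le_mul_left _ hle)
      _ ≤ r * Nat.card (cstar x) := Nat.mul_le_mul_left _ h2C
      _ ≤ N := hF1 _ hDtop
  -- pointwise bound
  have hpt : ∀ x : G, 2 * r * (fib x).card + (if x ∈ I then 4 * r else 0) ≤
      N + (if x ∈ I then N else 0) + (if x = 1 then 2 * r * n else 0) := by
    intro x
    by_cases hx1 : x = 1
    · have h1I : x ∉ I := by
        rw [hmemI, hx1, orderOf_one]; omega
      rw [if_neg h1I, if_neg h1I, if_pos hx1]
      have := hB1 x
      have : 2 * r * (fib x).card ≤ 2 * r * n := Nat.mul_le_mul_left _ this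
      omega
    · rw [if_neg hx1]
      by_cases hxI : x ∈ I
      · rw [if_pos hxI, if_pos hxI]
        have hx2 := (hmemI x).mp hxI
        have h3 := hB2 x hx2
        have h4 := hF1 _ (hF2 x hx2)
        have h5 : r * ((fib x).card + 2) ≤ N :=
          le_trans (Nat.mul_le_mul_left _ h3) h4
        have h6 : 2 * r * (fib x).card + 4 * r = 2 * (r * ((fib x).card + 2)) := by ring
        rw [h6]; omega
      · rw [if_neg hxI, if_neg hxI]
        have hx2 : orderOf x ≠ 2 := fun h => hxI ((hmemI x).mpr h)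
        rcases Finset.eq_empty_or_nonempty (fib x) with he | hne
        · rw [he, Finset.card_empty]; omega
        · have := hB3 x hx1 hx2 hne
          omega
  have hS := Finset.sum_le_sum (fun x (_ : x ∈ (Finset.univ : Finset G)) => hpt x)
  rw [Finset.sum_add_distrib, Finset.sum_add_distrib, Finset.sum_add_distrib, ← Finset.mul_sum,
    ← hsum, Finset.sum_const, Finset.card_univ, ← hNF, smul_eq_mul,
    Finset.sum_ite_mem, Finset.sum_ite_mem, Finset.univ_inter, Finset.sum_const, Finset.sum_const,
    smul_eq_mul, smul_eq_mul, Finset.sum_ite_eq' Finset.univ (1 : G) (fun _ => 2 * r * n),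
    if_pos (Finset.mem_univ _)] at hS
  -- 2 r n² + n (4r) ≤ N N + n N + 2 r n
  have h9 : 0 < r * n := Nat.mul_pos hr hnpos
  nlinarith [hS, h9]

/-- Let G be a finite group of even order with exactly n involutions whose centre has odd order, and put a = |G|/n. Then G has a proper subgroup H with |G : H| = 2 or |G : H| < a(a+1)/2; over ℕ the latter reads 2·|G:H|·n² < |G|·(|G| + n). -/
theorem result {G : Type*} [Group G] [Finite G] (heven : Even (Nat.card G)) (hZ : Odd (Nat.card (Subgroup.center G))) : ∃ H : Subgroup G, H ≠ ⊤ ∧ (H.index = 2 ∨ 2 * H.index * (Nat.card {t : G // orderOf t = 2}) ^ 2 < Nat.card G * (Nat.card G + Nat.card {t : G // orderOf t = 2})) := by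
  classical
  by_cases h2 : ∃ H : Subgroup G, H.index = 2
  · obtain ⟨H, hH⟩ := h2
    refine ⟨H, ?_, Or.inl hH⟩
    rintro rfl
    rw [Subgroup.index_top] at hH; omega
  push Not at h2
  haveI : Fact (Nat.Prime 2) := ⟨Nat.prime_two⟩
  obtain ⟨t, ht⟩ := exists_prime_orderOf_dvd_card' (G := G) 2 heven.two_dvd
  have ht1 : t ≠ 1 := by
    rintro rfl
    rw [orderOf_one] at ht; omega
  haveI : Nontrivial G := ⟨⟨t, 1, ht1⟩⟩
  have hex : ∃ k, ∃ K : Subgroup G, K ≠ ⊤ ∧ K.index = k := ⟨_, ⊥, bot_ne_top, rfl⟩
  obtain ⟨H, hHne, hHr⟩ := Nat.find_spec hex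
  have hmin : ∀ K : Subgroup G, K ≠ ⊤ → Nat.find hex ≤ K.index :=
    fun K hK => Nat.find_min' hex ⟨K, hK, rfl⟩
  refine ⟨H, hHne, Or.inr ?_⟩
  rw [hHr]
  have hr : 0 < Nat.find hex := by
    rw [← hHr]
    exact Nat.pos_of_ne_zero Subgroup.index_ne_zero_of_finite
  exact count_core hZ h2 _ hr hmin t ht

end Cfsg.Agent.S0233
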