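import Cfsg.Statements.S0213
import Mathlib
import Cfsg.Agent.S0233

set_option autoImplicit false
set_option linter.style.haveILetI false
open Cfsg

namespace Cfsg.Agent.S0213

variable {G : Type*} [Group G]

/-- Two non-conjugate involutions generate a dihedral group whose rotation subgroup has even
order: the cyclic group of their product contains an involution. -/
theorem exists_invol [Finite G] {u v : G} (hu : orderOf u = 2) (hv : orderOf v = 2)
    (hnc : ¬ IsConj u v) : ∃ z ∈ Subgroup.zpowers (u * v), orderOf z = 2 := by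
  set w := u * v with hw
  have hm : 0 < orderOf w := orderOf_pos w
  rcases Nat.even_or_odd (orderOf w) with he | ho
  · refine ⟨w ^ (orderOf w / 2), Subgroup.pow_mem _ (Subgroup.mem_zpowers w) _, ?_⟩
    exact orderOf_pow_orderOf_div hm.ne' he.two_dvd
  · exfalso
    apply hnc
    obtain ⟨k, hk⟩ := ho
    have hinv : u * w * u⁻¹ = w⁻¹ := S0233.inverts hu hv
    have hui : u⁻¹ = u := S0233.inv_eq_self_of_orderOf_two hu
    have hvi : v⁻¹ = v := S0233.inv_eq_self_of_orderOf_two hv
    have hsc : SemiconjBy u w w⁻¹ := by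
      show u * w = w⁻¹ * u
      exact mul_inv_eq_iff_eq_mul.mp hinv
    have hsc' : u * w ^ (k + 1) = (w⁻¹) ^ (k + 1) * u := (hsc.pow_right (k + 1)).eq
    rw [isConj_iff]
    refine ⟨(w⁻¹) ^ (k + 1), ?_⟩
    have h1 : ((w⁻¹) ^ (k + 1))⁻¹ = w ^ (k + 1) := by rw [inv_pow, inv_inv]
    have h2 : (w⁻¹) ^ (k + 1) * (w⁻¹) ^ (k + 1) = w⁻¹ := by
      rw [← pow_add, inv_pow]
      have : k + 1 + (k + 1) = orderOf w + 1 := by omega
      rw [this, pow_succ, pow_orderOf_eq_one, one_mul]
    calc (w⁻¹) ^ (k + 1) * u * ((w⁻¹) ^ (k + 1))⁻¹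
        = (w⁻¹) ^ (k + 1) * (u * w ^ (k + 1)) := by rw [h1, mul_assoc]
      _ = (w⁻¹) ^ (k + 1) * ((w⁻¹) ^ (k + 1) * u) := by rw [hsc']
      _ = w⁻¹ * u := by rw [← mul_assoc, h2]
      _ = v := by rw [hw, mul_inv_rev, hui, hvi, mul_assoc]
                  have : u * u = 1 := by rw [← sq, ← hu]; exact pow_orderOf_eq_one u
                  rw [this, mul_one]

/-- A cyclic group has at most one involution. -/
theorem unique_invol [Finite G] (w : G) {a b : G} (ha : a ∈ Subgroup.zpowers w)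
    (hb : b ∈ Subgroup.zpowers w) (hao : orderOf a = 2) (hbo : orderOf b = 2) : a = b := by
  classical
  by_contra hab
  have : Fintype ↥(Subgroup.zpowers w) := Fintype.ofFinite _
  have h1 : (Finset.univ.filter (fun c : ↥(Subgroup.zpowers w) => c ^ 2 = 1)).card ≤ 2 :=
    IsCyclic.card_pow_eq_one_le (by norm_num)
  have h2 : 2 < (Finset.univ.filter (fun c : ↥(Subgroup.zpowers w) => c ^ 2 = 1)).card := by
    rw [Finset.two_lt_card]
    have ha2 : a ^ 2 = 1 := by rw [← hao]; exact pow_orderOf_eq_one a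
    have hb2 : b ^ 2 = 1 := by rw [← hbo]; exact pow_orderOf_eq_one b
    have ha1 : a ≠ 1 := by rintro rfl; rw [orderOf_one] at hao; omega
    have hb1 : b ≠ 1 := by rintro rfl; rw [orderOf_one] at hbo; omega
    refine ⟨1, ?_, ⟨a, ha⟩, ?_, ⟨b, hb⟩, ?_, ?_, ?_, ?_⟩
    · rw [Finset.mem_filter]; exact ⟨Finset.mem_univ _, one_pow 2⟩
    · rw [Finset.mem_filter]; exact ⟨Finset.mem_univ _, Subtype.ext ha2⟩
    · rw [Finset.mem_filter]; exact ⟨Finset.mem_univ _, Subtype.ext hb2⟩
    · intro h; exact ha1 (congrArg Subtype.val h).symm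
    · intro h; exact hb1 (congrArg Subtype.val h).symm
    · intro h; exact hab (congrArg Subtype.val h)
  omega

theorem orderOf_of_isConj {x u : G} (h : IsConj x u) : orderOf u = orderOf x := by
  rw [isConj_iff] at h
  obtain ⟨c, rfl⟩ := h
  have := MulEquiv.orderOf_eq (MulAut.conj c) x
  rw [MulAut.conj_apply] at this
  exact this

/-- Class size times centralizer order. -/
theorem card_class_mul [Fintype G] [DecidableEq G] (t : G) [DecidablePred (IsConj t ·)] :
    (Finset.univ.filter (IsConj t ·)).card * Nat.card (Subgroup.centralizer ({t} : Set G)) =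
      Nat.card G := by
  classical
  have hmaps : ((Finset.univ : Finset G) : Set G).MapsTo (fun g => g * t * g⁻¹)
      (Finset.univ.filter (IsConj t ·)) := by
    intro g _
    rw [Finset.mem_coe, Finset.mem_filter]
    exact ⟨Finset.mem_univ _, isConj_iff.mpr ⟨g, rfl⟩⟩
  have h1 := Finset.card_eq_sum_card_fiberwise hmaps
  rw [Finset.card_univ, ← Nat.card_eq_fintype_card] at h1
  rw [h1]
  have h2 : ∀ s ∈ Finset.univ.filter (IsConj t ·),
      ((Finset.univ : Finset G).filter (fun g => g * t * g⁻¹ = s)).card =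
      Nat.card (Subgroup.centralizer ({t} : Set G)) := by
    intro s hs
    rw [Finset.mem_filter, isConj_iff] at hs
    obtain ⟨g₀, hg₀⟩ := hs.2
    rw [← S0233.card_filter_mem]
    apply Finset.card_nbij' (fun g => g₀⁻¹ * g) (fun g => g₀ * g)
    · intro g hg
      rw [Finset.mem_coe, Finset.mem_filter] at hg
      rw [Finset.mem_coe, Finset.mem_filter]
      refine ⟨Finset.mem_univ _, ?_⟩
      rw [Subgroup.mem_centralizer_singleton_iff]
      have h3 : g * t * g⁻¹ = g₀ * t * g₀⁻¹ := by rw [hg.2, hg₀]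
      have h4 : g * t = g₀ * t * g₀⁻¹ * g := by rw [← h3]; group
      calc g₀⁻¹ * g * t = g₀⁻¹ * (g * t) := by rw [mul_assoc]
        _ = g₀⁻¹ * (g₀ * t * g₀⁻¹ * g) := by rw [h4]
        _ = t * (g₀⁻¹ * g) := by group
    · intro g hg
      rw [Finset.mem_coe, Finset.mem_filter, Subgroup.mem_centralizer_singleton_iff] at hg
      rw [Finset.mem_coe, Finset.mem_filter]
      refine ⟨Finset.mem_univ _, ?_⟩
      rw [← hg₀]
      calc g₀ * g * t * (g₀ * g)⁻¹ = g₀ * (g * t) * g⁻¹ * g₀⁻¹ := by group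
        _ = g₀ * (t * g) * g⁻¹ * g₀⁻¹ := by rw [hg.2]
        _ = g₀ * t * g₀⁻¹ := by group
    · intro g _; simp
    · intro g _; simp
  rw [Finset.sum_congr rfl h2, Finset.sum_const, smul_eq_mul]

theorem mem_zpowers_conj (g w x : G) (h : x ∈ Subgroup.zpowers w) :
    g * x * g⁻¹ ∈ Subgroup.zpowers (g * w * g⁻¹) := by
  obtain ⟨k, rfl⟩ := Subgroup.mem_zpowers_iff.mp h
  rw [← conj_zpow]
  exact Subgroup.zpow_mem _ (Subgroup.mem_zpowers _) k

/-- Thompson Order Formula, two-class case: if every involution of the finite group G is conjugate to exactly one of the non-conjugate involutions x₁, x₂, and nᵢ is the number of pairs (u, v) with u conjugate to x₁, v conjugate to x₂ and xᵢ in the cyclic group generated by uv, then |G| = |C(x₂)| n₁ + |C(x₁)| n₂. -/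
theorem result {G : Type*} [Group G] [Finite G] (x₁ x₂ : G) (h₁ : orderOf x₁ = 2) (h₂ : orderOf x₂ = 2) (hnc : ¬ IsConj x₁ x₂) (hall : ∀ t : G, orderOf t = 2 → IsConj x₁ t ∨ IsConj x₂ t) : Nat.card G = Nat.card (Subgroup.centralizer ({x₂} : Set G)) * Nat.card {p : G × G // IsConj x₁ p.1 ∧ IsConj x₂ p.2 ∧ x₁ ∈ Subgroup.zpowers (p.1 * p.2)} + Nat.card (Subgroup.centralizer ({x₁} : Set G)) * Nat.card {p : G × G // IsConj x₁ p.1 ∧ IsConj x₂ p.2 ∧ x₂ ∈ Subgroup.zpowers (p.1 * p.2)} := by
  classical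
  have : Fintype G := Fintype.ofFinite G
  set K₁ : Finset G := Finset.univ.filter (IsConj x₁ ·) with hK₁
  set K₂ : Finset G := Finset.univ.filter (IsConj x₂ ·) with hK₂
  have hmK₁ : ∀ u, u ∈ K₁ ↔ IsConj x₁ u := by intro u; rw [hK₁, Finset.mem_filter]; simp
  have hmK₂ : ∀ u, u ∈ K₂ ↔ IsConj x₂ u := by intro u; rw [hK₂, Finset.mem_filter]; simp
  set S : Finset (G × G) := K₁ ×ˢ K₂ with hS
  set F : G → Finset (G × G) := fun x => S.filter (fun p => x ∈ Subgroup.zpowers (p.1 * p.2))
    with hF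
  have hmF : ∀ x p, p ∈ F x ↔ (IsConj x₁ p.1 ∧ IsConj x₂ p.2) ∧
      x ∈ Subgroup.zpowers (p.1 * p.2) := by
    intro x p
    rw [hF]
    simp only [Finset.mem_filter, hS, Finset.mem_product, hmK₁, hmK₂]
  -- (1)
  have hn : ∀ x : G, Nat.card {p : G × G // IsConj x₁ p.1 ∧ IsConj x₂ p.2 ∧
      x ∈ Subgroup.zpowers (p.1 * p.2)} = (F x).card := by
    intro x
    rw [Nat.card_eq_fintype_card, Fintype.card_subtype]
    congr 1
    ext p
    rw [hmF, Finset.mem_filter]
    simp [and_assoc]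
  rw [hn x₁, hn x₂]
  -- (2)
  have hconj : ∀ g x : G, (F x).card ≤ (F (g * x * g⁻¹)).card := by
    intro g x
    apply Finset.card_le_card_of_injOn (fun p : G × G => (g * p.1 * g⁻¹, g * p.2 * g⁻¹))
    · intro p hp
      rw [Finset.mem_coe, hmF] at hp
      rw [Finset.mem_coe, hmF]
      refine ⟨⟨?_, ?_⟩, ?_⟩
      · exact hp.1.1.trans (isConj_iff.mpr ⟨g, rfl⟩)
      · exact hp.1.2.trans (isConj_iff.mpr ⟨g, rfl⟩)
      · have := mem_zpowers_conj g _ x hp.2
        have e : g * p.1 * g⁻¹ * (g * p.2 * g⁻¹) = g * (p.1 * p.2) * g⁻¹ := by group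
        show g * x * g⁻¹ ∈ Subgroup.zpowers (g * p.1 * g⁻¹ * (g * p.2 * g⁻¹))
        rw [e]; exact this
    · intro p _ q _ hpq
      have h1 := congrArg Prod.fst hpq
      have h2 := congrArg Prod.snd hpq
      simp only [mul_left_inj, mul_right_inj] at h1 h2
      exact Prod.ext h1 h2
  -- (3)
  have heq : ∀ x₀ x : G, IsConj x₀ x → (F x).card = (F x₀).card := by
    intro x₀ x hx
    rw [isConj_iff] at hx
    obtain ⟨g, rfl⟩ := hx
    apply le_antisymm
    · have := hconj g⁻¹ (g * x₀ * g⁻¹)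
      have e : g⁻¹ * (g * x₀ * g⁻¹) * g⁻¹⁻¹ = x₀ := by group
      rw [e] at this
      exact this
    · exact hconj g x₀
  -- (4)
  have hdc : ∀ K : Finset G, ∑ x ∈ K, (F x).card =
      ∑ p ∈ S, (K.filter (fun x => x ∈ Subgroup.zpowers (p.1 * p.2))).card := by
    intro K
    simp only [hF, Finset.card_filter]
    exact Finset.sum_comm
  -- (5)
  have hone : ∀ p ∈ S, (K₁.filter (fun x => x ∈ Subgroup.zpowers (p.1 * p.2))).card +
      (K₂.filter (fun x => x ∈ Subgroup.zpowers (p.1 * p.2))).card = 1 := by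
    intro p hp
    rw [hS, Finset.mem_product, hmK₁, hmK₂] at hp
    have hpo1 : orderOf p.1 = 2 := (orderOf_of_isConj hp.1).trans h₁
    have hpo2 : orderOf p.2 = 2 := (orderOf_of_isConj hp.2).trans h₂
    have hpnc : ¬ IsConj p.1 p.2 := by
      intro h
      exact hnc ((hp.1.trans h).trans hp.2.symm)
    obtain ⟨z, hz, hzo⟩ := exists_invol hpo1 hpo2 hpnc
    have huniq : ∀ x, x ∈ Subgroup.zpowers (p.1 * p.2) → orderOf x = 2 → x = z :=
      fun x hx hxo => unique_invol _ hx hz hxo hzo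
    rcases hall z hzo with hz1 | hz2
    · have e1 : K₁.filter (fun x => x ∈ Subgroup.zpowers (p.1 * p.2)) = {z} := by
        ext x
        rw [Finset.mem_filter, Finset.mem_singleton, hmK₁]
        constructor
        · rintro ⟨hx1, hx2⟩
          exact huniq x hx2 ((orderOf_of_isConj hx1).trans h₁)
        · rintro rfl
          exact ⟨hz1, hz⟩
      have e2 : K₂.filter (fun x => x ∈ Subgroup.zpowers (p.1 * p.2)) = ∅ := by
        rw [Finset.filter_eq_empty_iff]
        intro x hx hx2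
        rw [hmK₂] at hx
        have := huniq x hx2 ((orderOf_of_isConj hx).trans h₂)
        rw [this] at hx
        exact hnc (hz1.trans hx.symm)
      rw [e1, e2]; simp
    · have e1 : K₂.filter (fun x => x ∈ Subgroup.zpowers (p.1 * p.2)) = {z} := by
        ext x
        rw [Finset.mem_filter, Finset.mem_singleton, hmK₂]
        constructor
        · rintro ⟨hx1, hx2⟩
          exact huniq x hx2 ((orderOf_of_isConj hx1).trans h₂)
        · rintro rfl
          exact ⟨hz2, hz⟩
      have e2 : K₁.filter (fun x => x ∈ Subgroup.zpowers (p.1 * p.2)) = ∅ := by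
        rw [Finset.filter_eq_empty_iff]
        intro x hx hx2
        rw [hmK₁] at hx
        have := huniq x hx2 ((orderOf_of_isConj hx).trans h₁)
        rw [this] at hx
        exact hnc (hx.trans hz2.symm)
      rw [e1, e2]; simp
  -- assemble
  have hScard : K₁.card * K₂.card = K₁.card * (F x₁).card + K₂.card * (F x₂).card := by
    have h1 : S.card = ∑ p ∈ S, 1 := by simp
    rw [← Finset.card_product, ← hS, h1, ← Finset.sum_congr rfl hone, Finset.sum_add_distrib,
      ← hdc K₁, ← hdc K₂]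
    congr 1
    · rw [Finset.sum_congr rfl (fun x hx => heq x₁ x ((hmK₁ x).mp hx)), Finset.sum_const,
        smul_eq_mul]
    · rw [Finset.sum_congr rfl (fun x hx => heq x₂ x ((hmK₂ x).mp hx)), Finset.sum_const,
        smul_eq_mul]
  have hc1 := card_class_mul x₁
  have hc2 := card_class_mul x₂
  rw [← hK₁] at hc1
  rw [← hK₂] at hc2
  set N := Nat.card G
  set c₁ := Nat.card (Subgroup.centralizer ({x₁} : Set G))
  set c₂ := Nat.card (Subgroup.centralizer ({x₂} : Set G))
  have hNpos : 0 < N := Nat.card_pos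
  have h3 : N * N = N * (c₂ * (F x₁).card + c₁ * (F x₂).card) := by
    calc N * N = (K₁.card * c₁) * (K₂.card * c₂) := by rw [hc1, hc2]
      _ = (K₁.card * K₂.card) * (c₁ * c₂) := by ring
      _ = (K₁.card * (F x₁).card + K₂.card * (F x₂).card) * (c₁ * c₂) := by rw [hScard]
      _ = (K₁.card * c₁) * (c₂ * (F x₁).card) + (K₂.card * c₂) * (c₁ * (F x₂).card) := by ring
      _ = N * (c₂ * (F x₁).card + c₁ * (F x₂).card) := by rw [hc1, hc2]; ring
  exact Nat.eq_of_mul_eq_mul_left hNpos h3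

end Cfsg.Agent.S0213
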