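import Cfsg.Statements.S0646
import Mathlib
import Cfsg.Agent.S0213

set_option autoImplicit false
set_option linter.style.haveILetI false
open Cfsg

namespace Cfsg.Agent.S0646

theorem sq_one_mod (m k : ℕ) (hm : 2 ≤ m) (hk : k < 2 ^ m) (h : k * k ≡ 1 [MOD 2 ^ m]) :
    k = 1 ∨ k = 2 ^ m - 1 ∨ (3 ≤ m ∧ (k = 2 ^ (m - 1) + 1 ∨ k = 2 ^ (m - 1) - 1)) := by
  obtain ⟨j, rfl⟩ : ∃ j, m = j + 2 := ⟨m - 2, by omega⟩
  have h4 : 2 ^ (j + 2) = 4 * 2 ^ j := by ring
  have hpos : 0 < 2 ^ j := pow_pos (by norm_num) j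
  have hk0 : k ≠ 0 := by
    rintro rfl
    have := h.symm.dvd
    simp at this
    have h2 : (2 : ℤ) ^ (j + 2) ∣ 1 := by exact_mod_cast this
    have : (2 : ℤ) ∣ 1 := Dvd.dvd.trans (dvd_pow_self 2 (by omega)) h2
    omega
  have hkk : 1 ≤ k * k := Nat.mul_pos (Nat.pos_of_ne_zero hk0) (Nat.pos_of_ne_zero hk0)
  have hdvd : 2 ^ (j + 2) ∣ k * k - 1 := (Nat.modEq_iff_dvd' hkk).mp h.symm
  have hodd : k % 2 = 1 := by
    have h2 : 2 ∣ k * k - 1 := Dvd.dvd.trans (dvd_pow_self 2 (by omega)) hdvd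
    rcases Nat.even_or_odd k with he | ho
    · exfalso
      obtain ⟨t, ht⟩ := he
      have : k * k = 2 * (2 * t * t) := by rw [ht]; ring
      omega
    · obtain ⟨t, ht⟩ := ho; omega
  obtain ⟨u, hu⟩ : ∃ u, k = 2 * u + 1 := ⟨k / 2, by omega⟩
  have hkk1 : k * k - 1 = 4 * (u * (u + 1)) := by
    rw [hu]
    have : (2 * u + 1) * (2 * u + 1) = 4 * (u * (u + 1)) + 1 := by ring
    omega
  rw [hkk1, h4] at hdvd
  have hdvd2 : 2 ^ j ∣ u * (u + 1) := Nat.dvd_of_mul_dvd_mul_left (by norm_num) hdvd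
  have hult : u < 2 * 2 ^ j := by omega
  have h1 : 2 ^ (j + 2) - 1 = 4 * 2 ^ j - 1 := by rw [h4]
  have h2 : 2 ^ (j + 2 - 1) = 2 * 2 ^ j := by
    have : j + 2 - 1 = j + 1 := by omega
    rw [this]; ring
  rw [h1, h2]
  rcases Nat.even_or_odd u with he | ho
  · have hc : Nat.Coprime (2 ^ j) (u + 1) := by
      apply Nat.Coprime.pow_left
      rw [Nat.coprime_two_left]
      exact he.add_one
    have h3 : 2 ^ j ∣ u := hc.dvd_of_dvd_mul_right hdvd2
    obtain ⟨t, ht⟩ := h3
    have ht2 : t < 2 := by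
      by_contra hge
      push Not at hge
      have : 2 * 2 ^ j ≤ 2 ^ j * t := by nlinarith
      omega
    have ht01 : t = 0 ∨ t = 1 := by omega
    rcases ht01 with rfl | rfl
    · left; omega
    · right; right
      refine ⟨?_, Or.inl (by omega)⟩
      by_contra hj
      have hj0 : j = 0 := by omega
      subst hj0
      obtain ⟨e, he⟩ := he
      omega
  · have hc : Nat.Coprime (2 ^ j) u := by
      apply Nat.Coprime.pow_left
      rw [Nat.coprime_two_left]
      exact ho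
    have h3 : 2 ^ j ∣ u + 1 := hc.dvd_of_dvd_mul_left hdvd2
    obtain ⟨t, ht⟩ := h3
    have ht2 : t ≤ 2 := by
      by_contra hge
      push Not at hge
      have : 3 * 2 ^ j ≤ 2 ^ j * t := by nlinarith
      omega
    have ht0 : t ≠ 0 := by rintro rfl; omega
    have ht12 : t = 1 ∨ t = 2 := by omega
    rcases ht12 with rfl | rfl
    · right; right
      refine ⟨?_, Or.inr (by omega)⟩
      by_contra hj
      have hj0 : j = 0 := by omega
      subst hj0
      obtain ⟨e, he⟩ := ho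
      omega
    · right; left; omega

/-- Classification of non-abelian 2-groups with a cyclic maximal subgroup: dihedral, generalized quaternion, and for order at least 16 the modular group and the semidihedral group, each given by generators a (of index 2) and b with the stated relations. -/
theorem result {G : Type*} [Group G] [Finite G] (n : ℕ) (hn : 3 ≤ n) (hG : Nat.card G = 2 ^ n) (C : Subgroup G) (hC : IsCyclic C) (hCi : C.index = 2) (hna : ∃ x y : G, x * y ≠ y * x) : ∃ a b : G, orderOf a = 2 ^ (n - 1) ∧ b ∉ Subgroup.zpowers a ∧ ((b ^ 2 = 1 ∧ b * a * b⁻¹ = a⁻¹) ∨ (b ^ 2 = a ^ (2 ^ (n - 2)) ∧ b * a * b⁻¹ = a⁻¹) ∨ (4 ≤ n ∧ b ^ 2 = 1 ∧ b * a * b⁻¹ = a ^ (1 + 2 ^ (n - 2))) ∨ (4 ≤ n ∧ b ^ 2 = 1 ∧ b * a * b⁻¹ = a ^ (2 ^ (n - 2) - 1))) := by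
  obtain ⟨m, rfl⟩ : ∃ m, n = m + 1 := ⟨n - 1, by omega⟩
  have hm : 2 ≤ m := by omega
  have e1 : m + 1 - 1 = m := by omega
  have e2 : m + 1 - 2 = m - 1 := by omega
  rw [e1, e2]
  have h2m : 2 ^ m = 2 * 2 ^ (m - 1) := by
    rw [← pow_succ']; congr 1; omega
  -- generator of C
  obtain ⟨g, hg⟩ := hC.exists_generator
  set a : G := (g : G) with ha
  have hCz : C = Subgroup.zpowers a := by
    apply le_antisymm
    · intro c hc
      obtain ⟨i, hi⟩ := Subgroup.mem_zpowers_iff.mp (hg ⟨c, hc⟩)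
      rw [Subgroup.mem_zpowers_iff]
      refine ⟨i, ?_⟩
      rw [ha, ← Subgroup.coe_zpow, hi]
    · rw [Subgroup.zpowers_le]; exact g.2
  have hCcard : Nat.card C = 2 ^ m := by
    have h1 := Subgroup.card_mul_index C
    rw [hCi, hG, pow_succ] at h1
    exact Nat.eq_of_mul_eq_mul_right (by norm_num) h1
  have hao : orderOf a = 2 ^ m := by
    rw [← Nat.card_zpowers, ← hCz, hCcard]
  have haC : a ∈ C := g.2
  have hapow : a ^ (2 ^ m) = 1 := by rw [← hao]; exact pow_orderOf_eq_one a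
  haveI hCn : C.Normal := Subgroup.normal_of_index_eq_two hCi
  have hCpow : ∀ c ∈ C, c ^ (2 ^ m) = 1 := by
    intro c hc
    rw [hCz] at hc
    obtain ⟨i, rfl⟩ := Subgroup.mem_zpowers_iff.mp hc
    rw [← zpow_natCast, ← zpow_mul, mul_comm, zpow_mul, zpow_natCast, hapow, one_zpow]
  have hCcomm : ∀ u ∈ C, ∀ v ∈ C, Commute u v := by
    intro u hu v hv
    rw [hCz] at hu hv
    obtain ⟨i, rfl⟩ := Subgroup.mem_zpowers_iff.mp hu
    obtain ⟨j, rfl⟩ := Subgroup.mem_zpowers_iff.mp hv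
    exact (Commute.refl a).zpow_zpow i j
  -- an element outside C
  obtain ⟨b₀, hb₀⟩ : ∃ b₀ : G, b₀ ∉ C := by
    by_contra hcon
    push Not at hcon
    have : C = ⊤ := by rw [eq_top_iff]; intro x _; exact hcon x
    rw [this, Subgroup.index_top] at hCi
    omega
  have hwC : b₀ ^ 2 ∈ C := Subgroup.sq_mem_of_index_two hCi b₀
  -- the action
  have hconjC : b₀ * a * b₀⁻¹ ∈ C := hCn.conj_mem a haC b₀
  obtain ⟨k, hk, hka⟩ : ∃ k, k < 2 ^ m ∧ b₀ * a * b₀⁻¹ = a ^ k := by
    rw [hCz, ← mem_powers_iff_mem_zpowers] at hconjC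
    obtain ⟨i, hi⟩ := (Submonoid.mem_powers_iff _ _).mp hconjC
    refine ⟨i % 2 ^ m, Nat.mod_lt _ (by positivity), ?_⟩
    rw [← hao, pow_mod_orderOf, hi]
  have hconj : ∀ c ∈ C, b₀ * c * b₀⁻¹ = c ^ k := by
    intro c hc
    rw [hCz] at hc
    obtain ⟨i, rfl⟩ := Subgroup.mem_zpowers_iff.mp hc
    rw [← conj_zpow, hka]
    calc (a ^ k) ^ i = (a ^ (k : ℤ)) ^ i := by rw [zpow_natCast]
      _ = a ^ ((k : ℤ) * i) := (zpow_mul a k i).symm
      _ = a ^ (i * (k : ℤ)) := by rw [mul_comm]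
      _ = (a ^ i) ^ (k : ℤ) := zpow_mul a i k
      _ = (a ^ i) ^ k := zpow_natCast _ _
  -- nonabelian
  have hne : a ^ k ≠ a := by
    intro h
    rw [h] at hka
    obtain ⟨x, y, hxy⟩ := hna
    apply hxy
    have hb₀a : b₀ * a = a * b₀ := mul_inv_eq_iff_eq_mul.mp hka
    have hcen : Subgroup.centralizer ({a} : Set G) = ⊤ := by
      have hle : C ≤ Subgroup.centralizer ({a} : Set G) := by
        intro c hc
        rw [Subgroup.mem_centralizer_singleton_iff]
        exact (hCcomm c hc a haC).eq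
      have h1 : C.relIndex (Subgroup.centralizer ({a} : Set G)) *
          (Subgroup.centralizer ({a} : Set G)).index = C.index := Subgroup.relIndex_mul_index hle
      rw [hCi] at h1
      have h2 : (Subgroup.centralizer ({a} : Set G)).index ∣ 2 := Dvd.intro_left _ h1
      rcases (Nat.dvd_prime Nat.prime_two).mp h2 with h3 | h3
      · exact Subgroup.index_eq_one.mp h3
      · exfalso
        rw [h3] at h1
        have h4 : C.relIndex (Subgroup.centralizer ({a} : Set G)) = 1 := by omega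
        rw [Subgroup.relIndex_eq_one] at h4
        apply hb₀
        apply h4
        rw [Subgroup.mem_centralizer_singleton_iff]
        exact hb₀a
    have hCcen : C ≤ Subgroup.center G := by
      intro c hc
      rw [hCz] at hc
      obtain ⟨i, rfl⟩ := Subgroup.mem_zpowers_iff.mp hc
      rw [Subgroup.mem_center_iff]
      intro u
      have hu : u ∈ Subgroup.centralizer ({a} : Set G) := by rw [hcen]; exact Subgroup.mem_top u
      rw [Subgroup.mem_centralizer_singleton_iff] at hu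
      exact ((show Commute u a from hu).zpow_right i).eq
    have hQcard : Nat.card (G ⧸ C) = 2 := hCi
    haveI : Fact (Nat.Prime 2) := ⟨Nat.prime_two⟩
    haveI : IsCyclic (G ⧸ C) := isCyclic_of_prime_card hQcard
    have hker : (QuotientGroup.mk' C).ker ≤ Subgroup.center G := by
      rw [QuotientGroup.ker_mk']; exact hCcen
    exact commutative_of_cyclic_center_quotient (QuotientGroup.mk' C) hker x y
  -- k² ≡ 1
  have hkk : k * k ≡ 1 [MOD 2 ^ m] := by
    rw [← hao, ← pow_eq_pow_iff_modEq, pow_one, pow_mul]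
    have h1 : b₀ ^ 2 * a * (b₀ ^ 2)⁻¹ = a := by
      rw [(hCcomm _ hwC a haC).eq, mul_inv_cancel_right]
    have h2 : b₀ ^ 2 * a * (b₀ ^ 2)⁻¹ = b₀ * (b₀ * a * b₀⁻¹) * b₀⁻¹ := by
      rw [sq]; group
    rw [h2, hka, hconj _ (C.pow_mem haC k)] at h1
    exact h1
  -- the central involution
  set z := a ^ (2 ^ (m - 1)) with hz
  have hzC : z ∈ C := C.pow_mem haC _
  have hzz : z * z = 1 := by
    rw [hz, ← pow_add, ← two_mul, ← h2m, hapow]
  have hzo : orderOf z = 2 := by
    have h1 : orderOf a / 2 = 2 ^ (m - 1) := by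
      rw [hao, h2m, Nat.mul_div_cancel_left _ (by norm_num : 0 < 2)]
    have h2 : 2 ∣ orderOf a := by rw [hao, h2m]; exact Dvd.intro _ rfl
    have := orderOf_pow_orderOf_div (orderOf_pos a).ne' h2
    rw [h1] at this
    exact this
  have hinC2 : ∀ c ∈ C, c ^ 2 = 1 → c = 1 ∨ c = z := by
    intro c hc hc2
    by_cases hc1 : c = 1
    · exact Or.inl hc1
    · right
      have hco : orderOf c = 2 := by
        have h1 : orderOf c ∣ 2 := orderOf_dvd_of_pow_eq_one hc2
        rcases (Nat.dvd_prime Nat.prime_two).mp h1 with h2 | h2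
        · exact absurd (orderOf_eq_one_iff.mp h2) hc1
        · exact h2
      rw [hCz] at hc hzC
      exact S0213.unique_invol a hc hzC hco hzo
  -- w = b₀²
  set w := b₀ ^ 2 with hw
  have hwk : w ^ k = w := by
    rw [← hconj w hwC, hw, sq]; group
  rcases sq_one_mod m k hm hk hkk with rfl | rfl | ⟨hm3, rfl | rfl⟩
  · exact absurd (pow_one a) hne
  · -- inversion
    have hk1 : 2 ^ m - 1 + 1 = 2 ^ m := Nat.sub_add_cancel Nat.one_le_two_pow
    have hinv : ∀ c ∈ C, c ^ (2 ^ m - 1) = c⁻¹ := by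
      intro c hc
      apply eq_inv_of_mul_eq_one_left
      rw [← pow_succ, hk1, hCpow c hc]
    rw [hinv a haC] at hka
    rw [hinv w hwC] at hwk
    have hw2 : w ^ 2 = 1 := by
      rw [sq]
      calc w * w = w⁻¹ * w := by rw [hwk]
        _ = 1 := inv_mul_cancel w
    refine ⟨a, b₀, hao, by rw [← hCz]; exact hb₀, ?_⟩
    rcases hinC2 w hwC hw2 with h | h
    · exact Or.inl ⟨h, hka⟩
    · exact Or.inr (Or.inl ⟨h, hka⟩)
  · -- modular
    obtain ⟨i, rfl⟩ : ∃ i, m = i + 3 := ⟨m - 3, by omega⟩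
    have hX : 2 ^ (i + 3 - 1) = 4 * 2 ^ i := by
      have : i + 3 - 1 = i + 2 := by omega
      rw [this]; ring
    have hX8 : 2 ^ (i + 3) = 8 * 2 ^ i := by ring
    set X := 2 ^ i with hXdef
    have hXpos : 0 < X := pow_pos (by norm_num) i
    rw [hX] at hka hwk hne
    have hw4 : w ^ (4 * X) = 1 := by
      have : w ^ (4 * X) * w = 1 * w := by rw [← pow_succ, hwk, one_mul]
      exact mul_right_cancel this
    -- w = a ^ (2 t)
    obtain ⟨s, hs⟩ : ∃ s : ℕ, a ^ s = w := by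
      have := hwC
      rw [hCz, ← mem_powers_iff_mem_zpowers] at this
      exact (Submonoid.mem_powers_iff _ _).mp this
    have hs2 : 2 ∣ s := by
      rw [← hs, ← pow_mul] at hw4
      have h1 : orderOf a ∣ s * (4 * X) := orderOf_dvd_of_pow_eq_one hw4
      rw [hao, hX8] at h1
      obtain ⟨c, hc⟩ := h1
      have h2 : s = 2 * c := by
        have : (4 * X) * s = (4 * X) * (2 * c) := by rw [mul_comm (4 * X) s, hc]; ring
        exact Nat.eq_of_mul_eq_mul_left (by positivity) this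
      exact ⟨c, h2⟩
    obtain ⟨t, ht⟩ := hs2
    set j : ℤ := -((2 * (X : ℤ) + 1) * (t : ℤ)) with hj
    refine ⟨a, b₀ * a ^ j, hao, ?_, Or.inr (Or.inr (Or.inl ⟨by omega, ?_, ?_⟩))⟩
    · rw [← hCz]
      intro h
      apply hb₀
      have h2 : b₀ = b₀ * a ^ j * (a ^ j)⁻¹ := by group
      rw [h2]
      exact C.mul_mem h (C.inv_mem (C.zpow_mem haC j))
    · -- square
      have h1 : (b₀ * a ^ j) ^ 2 = (b₀ * a ^ j * b₀⁻¹) * b₀ ^ 2 * a ^ j := by
        rw [sq, sq]; group
      rw [h1, ← conj_zpow, hka, ← hw, ← hs, ← zpow_natCast a (4 * X + 1), ← zpow_mul,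
        ← zpow_natCast a s, ← zpow_add, ← zpow_add, ← orderOf_dvd_iff_zpow_eq_one, hao, hX8, ht]
      refine ⟨-((t : ℤ) * ((X : ℤ) + 1)), ?_⟩
      rw [hj]
      push_cast
      ring
    · -- conjugation
      have h1 : b₀ * a ^ j * a * (b₀ * a ^ j)⁻¹ = b₀ * (a ^ j * a * (a ^ j)⁻¹) * b₀⁻¹ := by group
      have h2 : a ^ j * a * (a ^ j)⁻¹ = a := by
        rw [((Commute.refl a).zpow_left j).eq, mul_inv_cancel_right]
      rw [h1, h2, hka, hX, add_comm]
  · -- semidihedral
    obtain ⟨i, rfl⟩ : ∃ i, m = i + 3 := ⟨m - 3, by omega⟩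
    have hX : 2 ^ (i + 3 - 1) = 4 * 2 ^ i := by
      have : i + 3 - 1 = i + 2 := by omega
      rw [this]; ring
    set X := 2 ^ i with hXdef
    have hXpos : 0 < X := pow_pos (by norm_num) i
    have hk1 : 4 * X - 1 = (4 * X - 2) + 1 := by omega
    have hw4 : w ^ (4 * X - 2) = 1 := by
      rw [hX, hk1] at hwk
      have : w ^ (4 * X - 2) * w = 1 * w := by rw [← pow_succ, hwk, one_mul]
      exact mul_right_cancel this
    have hw2 : w ^ 2 = 1 := by
      have h1 : orderOf w ∣ 4 * X - 2 := orderOf_dvd_of_pow_eq_one hw4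
      have h2 : orderOf w ∣ 2 ^ (i + 3) := orderOf_dvd_of_pow_eq_one (hCpow w hwC)
      obtain ⟨e, -, he⟩ := (Nat.dvd_prime_pow Nat.prime_two).mp h2
      have he1 : e ≤ 1 := by
        by_contra hgt
        push Not at hgt
        have h3 : 4 ∣ orderOf w := by
          rw [he]
          exact Dvd.dvd.trans (by norm_num : 4 ∣ 2 ^ 2) (pow_dvd_pow 2 hgt)
        have h4 : 4 ∣ 4 * X - 2 := h3.trans h1
        omega
      have h5 : orderOf w ∣ 2 := by
        rw [he]
        exact Dvd.dvd.trans (pow_dvd_pow 2 he1) (by norm_num)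
      exact orderOf_dvd_iff_pow_eq_one.mp h5
    rcases hinC2 w hwC hw2 with h | h
    · refine ⟨a, b₀, hao, by rw [← hCz]; exact hb₀, Or.inr (Or.inr (Or.inr ⟨by omega, h, hka⟩))⟩
    · refine ⟨a, b₀ * a, hao, ?_, Or.inr (Or.inr (Or.inr ⟨by omega, ?_, ?_⟩))⟩
      · rw [← hCz]
        intro h'
        apply hb₀
        have h2 : b₀ = b₀ * a * a⁻¹ := by group
        rw [h2]
        exact C.mul_mem h' (C.inv_mem haC)
      · have h1 : (b₀ * a) ^ 2 = (b₀ * a * b₀⁻¹) * b₀ ^ 2 * a := by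
          rw [sq, sq]; group
        have hz' : z = a ^ (4 * X) := by rw [hz, hX]
        rw [h1, hka, ← hw, h, hX]
        calc a ^ (4 * X - 1) * z * a = a ^ (4 * X - 1) * (a * z) := by
              rw [mul_assoc, (hCcomm z hzC a haC).eq]
          _ = a ^ (4 * X - 1 + 1) * z := by rw [pow_succ, mul_assoc]
          _ = z * z := by rw [Nat.sub_add_cancel (by omega), ← hz']
          _ = 1 := hzz
      · have h1 : b₀ * a * a * (b₀ * a)⁻¹ = b₀ * a * b₀⁻¹ := by group
        rw [h1, hka]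

end Cfsg.Agent.S0646
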