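import Mathlib
import Cfsg.Agent.S0646
import Cfsg.Agent.Lib_helper19_Pairing
import Cfsg.Agent.Lib_helper1_PGroup

set_option autoImplicit false

namespace Cfsg.Agent.helper17.MC2

universe u

section idx2
variable {X : Type*} [Group X] {H : Subgroup X}

/-- for an abelian normal subgroup `H`, `u ↦ g u g⁻¹ u⁻¹` is a homomorphism `H → X`. -/
def kappa (hN : H.Normal) (hHc : ∀ u ∈ H, ∀ v ∈ H, u * v = v * u) (g : X) : H →* X where
  toFun u := g * u * g⁻¹ * (u : X)⁻¹
  map_one' := by simp
  map_mul' := by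
    intro u v
    have h1 : g * v * g⁻¹ ∈ H := hN.conj_mem v v.2 g
    have h2 : (g * v * g⁻¹ * (v : X)⁻¹) * (u : X)⁻¹ = (u : X)⁻¹ * (g * v * g⁻¹ * (v : X)⁻¹) :=
      hHc _ (H.mul_mem h1 (H.inv_mem v.2)) _ (H.inv_mem u.2)
    calc g * ((u * v : H) : X) * g⁻¹ * ((u * v : H) : X)⁻¹
        = (g * u * g⁻¹) * ((g * v * g⁻¹ * (v : X)⁻¹) * (u : X)⁻¹) := by
          rw [Subgroup.coe_mul]; group
      _ = (g * u * g⁻¹) * ((u : X)⁻¹ * (g * v * g⁻¹ * (v : X)⁻¹)) := by rw [h2]
      _ = g * u * g⁻¹ * (u : X)⁻¹ * (g * v * g⁻¹ * (v : X)⁻¹) := by group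

theorem comm_mem_range_kappa (hN : H.Normal) (hidx : H.index = 2)
    (hHc : ∀ u ∈ H, ∀ v ∈ H, u * v = v * u) (g : X) (hg : g ∉ H) (x y : X) :
    x * y * x⁻¹ * y⁻¹ ∈ (kappa hN hHc g).range := by
  set K := (kappa hN hHc g).range with hK
  have hK1 : ∀ u ∈ H, g * u * g⁻¹ * u⁻¹ ∈ K := fun u hu => ⟨⟨u, hu⟩, rfl⟩
  have hK1' : ∀ u ∈ H, u * g * u⁻¹ * g⁻¹ ∈ K := by
    intro u hu
    have h1 := K.inv_mem (hK1 u hu)
    have e : (g * u * g⁻¹ * u⁻¹)⁻¹ = u * g * u⁻¹ * g⁻¹ := by group
    rwa [e] at h1
  have hdec : ∀ x : X, x ∈ H ∨ ∃ u ∈ H, x = u * g := by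
    intro x
    by_cases hx : x ∈ H
    · exact Or.inl hx
    · right
      refine ⟨x * g⁻¹, ?_, by group⟩
      rw [Subgroup.mul_mem_iff_of_index_two hidx]
      simp [hx, hg]
  have hconj : ∀ u ∈ H, g * u * g⁻¹ ∈ H := fun u hu => hN.conj_mem u hu g
  rcases hdec x with hx | ⟨u, hu, rfl⟩ <;> rcases hdec y with hy | ⟨v, hv, rfl⟩
  · have e : x * y * x⁻¹ * y⁻¹ = 1 := by rw [hHc x hx y hy]; group
    rw [e]; exact K.one_mem
  · have e : x * (v * g) * x⁻¹ * (v * g)⁻¹ = x * (v * (g * x⁻¹ * g⁻¹) * v⁻¹) := by group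
    have hc : v * (g * x⁻¹ * g⁻¹) = (g * x⁻¹ * g⁻¹) * v := hHc v hv _ (hconj _ (H.inv_mem hx))
    rw [e, hc]
    have e2 : x * (g * x⁻¹ * g⁻¹ * v * v⁻¹) = x * g * x⁻¹ * g⁻¹ := by group
    rw [e2]; exact hK1' x hx
  · have e : u * g * y * (u * g)⁻¹ * y⁻¹ = (y * (u * (g * y⁻¹ * g⁻¹) * u⁻¹))⁻¹ := by group
    have hc : u * (g * y⁻¹ * g⁻¹) = (g * y⁻¹ * g⁻¹) * u := hHc u hu _ (hconj _ (H.inv_mem hy))
    rw [e, hc]
    have e2 : y * (g * y⁻¹ * g⁻¹ * u * u⁻¹) = y * g * y⁻¹ * g⁻¹ := by group
    rw [e2]; exact K.inv_mem (hK1' y hy)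
  · have e : u * g * (v * g) * (u * g)⁻¹ * (v * g)⁻¹ =
        u * ((g * v * g⁻¹) * (g * u⁻¹ * g⁻¹)) * v⁻¹ := by group
    have hc : (g * v * g⁻¹) * (g * u⁻¹ * g⁻¹) = (g * u⁻¹ * g⁻¹) * (g * v * g⁻¹) :=
      hHc _ (hconj v hv) _ (hconj _ (H.inv_mem hu))
    rw [e, hc]
    have e2 : u * ((g * u⁻¹ * g⁻¹) * (g * v * g⁻¹)) * v⁻¹ =
        (u * g * u⁻¹ * g⁻¹) * (g * v * g⁻¹ * v⁻¹) := by group
    rw [e2]; exact K.mul_mem (hK1' u hu) (hK1 v hv)

theorem commutator_le_range_kappa (hN : H.Normal) (hidx : H.index = 2)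
    (hHc : ∀ u ∈ H, ∀ v ∈ H, u * v = v * u) (g : X) (hg : g ∉ H) :
    commutator X ≤ (kappa hN hHc g).range := by
  rw [commutator_def, Subgroup.commutator_le]
  intro x _ y _
  rw [commutatorElement_def]
  exact comm_mem_range_kappa hN hidx hHc g hg x y

/-- If `H` is abelian of index 2 and `g ∉ H`, the derived subgroup is contained in any subgroup
containing all `g u g⁻¹ u⁻¹`, `u ∈ H`. -/
theorem commutator_le_of_forall (hidx : H.index = 2)
    (hHc : ∀ u ∈ H, ∀ v ∈ H, u * v = v * u) (g : X) (hg : g ∉ H) (L : Subgroup X)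
    (hL : ∀ u ∈ H, g * u * g⁻¹ * u⁻¹ ∈ L) : commutator X ≤ L := by
  have hN := Subgroup.normal_of_index_eq_two hidx
  refine le_trans (commutator_le_range_kappa hN hidx hHc g hg) ?_
  rintro _ ⟨u, rfl⟩
  exact hL u u.2

theorem card_fixed_mul_card_commutator_le [Finite X] (hidx : H.index = 2)
    (hHc : ∀ u ∈ H, ∀ v ∈ H, u * v = v * u) (g : X) (hg : g ∉ H) (D : Subgroup X)
    (hDH : D ≤ H) (hD : ∀ d ∈ D, g * d * g⁻¹ = d) :
    Nat.card D * Nat.card (commutator X) ≤ Nat.card H := by
  have hN := Subgroup.normal_of_index_eq_two hidx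
  have h1 : Nat.card H = Nat.card (H ⧸ (kappa hN hHc g).ker) * Nat.card (kappa hN hHc g).ker :=
    Subgroup.card_eq_card_quotient_mul_card_subgroup _
  have h2 : Nat.card (H ⧸ (kappa hN hHc g).ker) = Nat.card (kappa hN hHc g).range :=
    Nat.card_congr (QuotientGroup.quotientKerEquivRange (kappa hN hHc g)).toEquiv
  have h3 : Nat.card (commutator X) ≤ Nat.card (kappa hN hHc g).range :=
    Subgroup.card_le_of_le (commutator_le_range_kappa hN hidx hHc g hg)
  have h4 : Nat.card D ≤ Nat.card (kappa hN hHc g).ker := by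
    have hmem : ∀ d : D, (⟨d.1, hDH d.2⟩ : H) ∈ (kappa hN hHc g).ker := by
      intro d
      rw [MonoidHom.mem_ker]
      show g * (d : X) * g⁻¹ * (d : X)⁻¹ = 1
      rw [hD d d.2, mul_inv_cancel]
    have hinj : Function.Injective
        (fun d : D => (⟨⟨d.1, hDH d.2⟩, hmem d⟩ : (kappa hN hHc g).ker)) := by
      intro a b hab
      apply Subtype.ext
      have := congrArg (fun t : (kappa hN hHc g).ker => ((t : H) : X)) hab
      exact this
    exact Nat.card_le_card_of_injective _ hinj
  calc Nat.card D * Nat.card (commutator X)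
      ≤ Nat.card (kappa hN hHc g).ker * Nat.card (kappa hN hHc g).range := Nat.mul_le_mul h4 h3
    _ = Nat.card H := by rw [h1, h2, mul_comm]

end idx2

/-- groups of exponent two are commutative: derived subgroup trivial -/
theorem commutator_eq_bot_of_sq {X : Type*} [Group X] (h : ∀ x : X, x ^ 2 = 1) :
    commutator X = ⊥ := by
  rw [eq_bot_iff, commutator_def, Subgroup.commutator_le]
  intro a _ b _
  rw [commutatorElement_def, Subgroup.mem_bot]
  have ha : a⁻¹ = a := inv_eq_of_mul_eq_one_right (by rw [← pow_two]; exact h a)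
  have hb : b⁻¹ = b := inv_eq_of_mul_eq_one_right (by rw [← pow_two]; exact h b)
  rw [ha, hb]
  have := h (a * b)
  rw [pow_two] at this
  rw [← this]; group

theorem commutator_eq_bot_of_comm {X : Type*} [Group X] (h : ∀ x y : X, x * y = y * x) :
    commutator X = ⊥ := by
  rw [eq_bot_iff, commutator_def, Subgroup.commutator_le]
  intro a _ b _
  rw [commutatorElement_def, Subgroup.mem_bot, h a b]
  group

theorem sq_eq_one_of_mem_zpowers {X : Type*} [Group X] {z : X} (hz : z ^ 2 = 1) {t : X}
    (ht : t ∈ Subgroup.zpowers z) : t = 1 ∨ t = z := by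
  obtain ⟨k, rfl⟩ := Subgroup.mem_zpowers_iff.1 ht
  rcases Int.even_or_odd k with ⟨m, hm⟩ | ⟨m, hm⟩
  · left
    rw [hm, ← two_mul, zpow_mul, zpow_ofNat, hz, one_zpow]
  · right
    rw [hm, zpow_add, zpow_mul, zpow_ofNat, hz, one_zpow, one_mul, zpow_one]

/-- A 2-group whose derived subgroup has index 4 has a cyclic subgroup of index 2. -/
theorem exists_cyclic_index_two : ∀ (n : ℕ) (X : Type u) [Group X] [Finite X], 2 ≤ n →
    Nat.card X = 2 ^ n → (commutator X).index = 4 →
    ∃ C : Subgroup X, IsCyclic C ∧ C.index = 2 := by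
  intro n
  induction n with
  | zero => intro X _ _ h; omega
  | succ n ih =>
    intro X _ _ hn hX hidx
    haveI : Fact (Nat.Prime 2) := ⟨Nat.prime_two⟩
    have hP : IsPGroup 2 X := IsPGroup.of_card hX
    rcases Nat.lt_or_ge n 2 with hn1 | hn2
    · -- |X| = 4
      have hn' : n = 1 := by omega
      subst hn'
      obtain ⟨x, hx⟩ := exists_prime_orderOf_dvd_card' (G := X) 2 (by rw [hX]; norm_num)
      refine ⟨Subgroup.zpowers x, inferInstance, ?_⟩
      have h1 : Nat.card (Subgroup.zpowers x) = 2 := by rw [Nat.card_zpowers, hx]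
      have h2 := (Subgroup.zpowers x).card_mul_index
      rw [h1, hX] at h2
      norm_num at h2
      omega
    rcases Nat.lt_or_ge n 3 with hn3 | hn3
    · -- |X| = 8
      have hn' : n = 2 := by omega
      subst hn'
      have hne : commutator X ≠ ⊥ := by
        intro h
        rw [h, Subgroup.index_bot, hX] at hidx
        norm_num at hidx
      have hex : ∃ x : X, x ^ 2 ≠ 1 := by
        by_contra hall
        push Not at hall
        exact hne (commutator_eq_bot_of_sq hall)
      obtain ⟨x, hx⟩ := hex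
      obtain ⟨k, hk, hxk⟩ := (Nat.dvd_prime_pow Nat.prime_two).1 (hX ▸ orderOf_dvd_natCard x)
      have hk3 : k ≤ 3 := by omega
      have hk2 : k = 2 := by
        interval_cases k
        · exfalso; apply hx
          rw [pow_zero, orderOf_eq_one_iff] at hxk
          rw [hxk, one_pow]
        · exfalso; apply hx
          rw [pow_one] at hxk
          rw [← hxk]; exact pow_orderOf_eq_one x
        · rfl
        · exfalso
          have hcyc : IsCyclic X := isCyclic_of_orderOf_eq_card x (by rw [hxk, hX])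
          apply hne
          apply commutator_eq_bot_of_comm
          intro a b
          obtain ⟨g, hg⟩ := hcyc.exists_generator
          obtain ⟨i, rfl⟩ := Subgroup.mem_zpowers_iff.1 (hg a)
          obtain ⟨j, rfl⟩ := Subgroup.mem_zpowers_iff.1 (hg b)
          exact ((Commute.refl g).zpow_zpow i j).eq
      subst hk2
      refine ⟨Subgroup.zpowers x, inferInstance, ?_⟩
      have h1 : Nat.card (Subgroup.zpowers x) = 4 := by rw [Nat.card_zpowers, hxk]; norm_num
      have h2 := (Subgroup.zpowers x).card_mul_index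
      rw [h1, hX] at h2
      norm_num at h2
      omega
    · -- |X| ≥ 16
      have h16 : 2 ^ (n + 1) ≥ 16 := by
        calc 2 ^ (n + 1) ≥ 2 ^ 4 := Nat.pow_le_pow_right (by norm_num) (by omega)
          _ = 16 := by norm_num
      have h8 : 2 ^ n ≥ 8 := by
        calc 2 ^ n ≥ 2 ^ 3 := Nat.pow_le_pow_right (by norm_num) (by omega)
          _ = 8 := by norm_num
      have hXne : commutator X ≠ ⊥ := by
        intro h
        rw [h, Subgroup.index_bot, hX] at hidx
        omega
      have hNne := Cfsg.Agent.helper19.inf_center_ne_bot_of_normal hP (commutator X) hXne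
      haveI : Nontrivial ↥(commutator X ⊓ Subgroup.center X) :=
        (Subgroup.nontrivial_iff_ne_bot _).2 hNne
      have hN2 : 2 ∣ Nat.card ↥(commutator X ⊓ Subgroup.center X) := by
        obtain ⟨k, hk⟩ := IsPGroup.iff_card.1 (hP.to_subgroup (commutator X ⊓ Subgroup.center X))
        have hk0 : k ≠ 0 := by
          intro h0
          rw [h0, pow_zero] at hk
          exact (Finite.one_lt_card (α := ↥(commutator X ⊓ Subgroup.center X))).ne' hk
        rw [hk]; exact dvd_pow_self 2 hk0
      obtain ⟨⟨z, hzN⟩, hz⟩ := exists_prime_orderOf_dvd_card'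
        (G := ↥(commutator X ⊓ Subgroup.center X)) 2 hN2
      have hz2 : orderOf z = 2 := by rwa [Subgroup.orderOf_mk] at hz
      have hzz : z ^ 2 = 1 := by rw [← hz2]; exact pow_orderOf_eq_one z
      have hzc : z ∈ Subgroup.center X := hzN.2
      have hzX' : z ∈ commutator X := hzN.1
      have hZcard : Nat.card (Subgroup.zpowers z) = 2 := by rw [Nat.card_zpowers, hz2]
      have hZc : Subgroup.zpowers z ≤ Subgroup.center X := Subgroup.zpowers_le.2 hzc
      haveI hZn : (Subgroup.zpowers z).Normal := by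
        refine ⟨fun t ht x => ?_⟩
        have h1 := Subgroup.mem_center_iff.1 (hZc ht) x
        rw [h1, mul_inv_cancel_right]; exact ht
      have hsurj : Function.Surjective (QuotientGroup.mk' (Subgroup.zpowers z)) :=
        QuotientGroup.mk'_surjective _
      have hQcard : Nat.card (X ⧸ Subgroup.zpowers z) = 2 ^ n := by
        have h1 := (Subgroup.zpowers z).card_mul_index
        rw [hZcard, hX, Subgroup.index_eq_card, pow_succ] at h1
        omega
      have hQidx : (commutator (X ⧸ Subgroup.zpowers z)).index = 4 := by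
        have h1 : (commutator X).map (QuotientGroup.mk' (Subgroup.zpowers z)) =
            commutator (X ⧸ Subgroup.zpowers z) := by
          rw [commutator_def, Subgroup.map_commutator, Subgroup.map_top_of_surjective _ hsurj,
            ← commutator_def]
        rw [← h1, Subgroup.index_map_eq _ hsurj
          (by rw [QuotientGroup.ker_mk']; exact Subgroup.zpowers_le.2 hzX')]
        exact hidx
      obtain ⟨Cb, hCb, hCbi⟩ := ih (X ⧸ Subgroup.zpowers z) (by omega) hQcard hQidx
      obtain ⟨⟨cb, hcbC⟩, hcb⟩ := isCyclic_iff_exists_zpowers_eq_top.1 hCb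
      obtain ⟨h, hh⟩ := hsurj cb
      have hHidx : (Cb.comap (QuotientGroup.mk' (Subgroup.zpowers z))).index = 2 := by
        rw [Subgroup.index_comap_of_surjective _ hsurj]; exact hCbi
      have hhH : h ∈ Cb.comap (QuotientGroup.mk' (Subgroup.zpowers z)) := by
        rw [Subgroup.mem_comap, hh]; exact hcbC
      have hzH : z ∈ Cb.comap (QuotientGroup.mk' (Subgroup.zpowers z)) := by
        rw [Subgroup.mem_comap]
        have h1 : (QuotientGroup.mk' (Subgroup.zpowers z)) z = 1 :=
          (QuotientGroup.eq_one_iff z).2 (Subgroup.mem_zpowers z)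
        rw [h1]; exact Cb.one_mem
      have hdec : ∀ u ∈ Cb.comap (QuotientGroup.mk' (Subgroup.zpowers z)),
          ∃ k : ℤ, ∃ t ∈ Subgroup.zpowers z, u = h ^ k * t := by
        intro u hu
        rw [Subgroup.mem_comap] at hu
        have h1 : (⟨QuotientGroup.mk' (Subgroup.zpowers z) u, hu⟩ : Cb) ∈
            Subgroup.zpowers (⟨cb, hcbC⟩ : Cb) := by rw [hcb]; exact Subgroup.mem_top _
        obtain ⟨k, hk⟩ := Subgroup.mem_zpowers_iff.1 h1
        have hk' : cb ^ k = QuotientGroup.mk' (Subgroup.zpowers z) u := by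
          have h2 := congrArg Subtype.val hk
          simpa using h2
        refine ⟨k, (h ^ k)⁻¹ * u, ?_, by group⟩
        apply QuotientGroup.eq.1
        rw [QuotientGroup.mk_zpow]
        rw [← hh] at hk'
        exact hk'
      have hZsq : ∀ t ∈ Subgroup.zpowers z, t * t = 1 := by
        intro t ht
        rcases sq_eq_one_of_mem_zpowers hzz ht with rfl | rfl
        · simp
        · rw [← pow_two]; exact hzz
      have hHc : ∀ u ∈ Cb.comap (QuotientGroup.mk' (Subgroup.zpowers z)),
          ∀ v ∈ Cb.comap (QuotientGroup.mk' (Subgroup.zpowers z)), u * v = v * u := by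
        intro u hu v hv
        obtain ⟨k, t, ht, rfl⟩ := hdec u hu
        obtain ⟨l, s, hs, rfl⟩ := hdec v hv
        have ct : ∀ y, Commute t y := fun y => ((Subgroup.mem_center_iff.1 (hZc ht)) y).symm
        have cs : ∀ y, Commute s y := fun y => ((Subgroup.mem_center_iff.1 (hZc hs)) y).symm
        have c1 : Commute (h ^ k) (h ^ l) := (Commute.refl h).zpow_zpow k l
        have c2 : Commute (h ^ k) s := (cs (h ^ k)).symm
        have c3 : Commute t (h ^ l) := ct _
        have c4 : Commute t s := ct _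
        exact ((c1.mul_right c2).mul_left (c3.mul_right c4)).eq
      obtain ⟨g, hg⟩ : ∃ g, g ∉ Cb.comap (QuotientGroup.mk' (Subgroup.zpowers z)) := by
        by_contra hall
        push Not at hall
        have h1 : Cb.comap (QuotientGroup.mk' (Subgroup.zpowers z)) = ⊤ :=
          eq_top_iff.2 (fun x _ => hall x)
        rw [h1, Subgroup.index_top] at hHidx
        omega
      have hHcard : Nat.card ↥(Cb.comap (QuotientGroup.mk' (Subgroup.zpowers z))) = 2 ^ n := by
        have h1 := (Cb.comap (QuotientGroup.mk' (Subgroup.zpowers z))).card_mul_index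
        rw [hHidx, hX, pow_succ] at h1
        omega
      have hX'card : Nat.card (commutator X) * 2 = 2 ^ n := by
        have h1 := (commutator X).card_mul_index
        rw [hidx, hX, pow_succ] at h1
        omega
      have hfix : ∀ D : Subgroup X, D ≤ Cb.comap (QuotientGroup.mk' (Subgroup.zpowers z)) →
          (∀ d ∈ D, g * d * g⁻¹ = d) → Nat.card D ≤ 2 := by
        intro D hDH hD
        have h1 := card_fixed_mul_card_commutator_le hHidx hHc g hg D hDH hD
        rw [hHcard, ← hX'card] at h1
        have hc0 : 0 < Nat.card (commutator X) := Nat.card_pos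
        rw [mul_comm (Nat.card (commutator X)) 2] at h1
        exact Nat.le_of_mul_le_mul_right h1 hc0
      by_cases hzh : z ∈ Subgroup.zpowers h
      · refine ⟨Subgroup.zpowers h, inferInstance, ?_⟩
        have h1 : Subgroup.zpowers h = Cb.comap (QuotientGroup.mk' (Subgroup.zpowers z)) := by
          apply le_antisymm (Subgroup.zpowers_le.2 hhH)
          intro u hu
          obtain ⟨k, t, ht, rfl⟩ := hdec u hu
          exact mul_mem (zpow_mem (Subgroup.mem_zpowers h) k) ((Subgroup.zpowers_le.2 hzh) ht)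
        rw [h1]; exact hHidx
      · exfalso
        have hord : ∃ j, 2 ≤ j ∧ orderOf h = 2 ^ j := by
          obtain ⟨j, _, hj⟩ := (Nat.dvd_prime_pow Nat.prime_two).1 (hX ▸ orderOf_dvd_natCard h)
          refine ⟨j, ?_, hj⟩
          have hCbcard : Nat.card Cb * 2 = 2 ^ n := by
            have h1 := Cb.card_mul_index
            rw [hCbi, hQcard] at h1
            exact h1
          have h1 : Nat.card Cb = orderOf cb := by
            have h2 : Nat.card Cb = orderOf (⟨cb, hcbC⟩ : Cb) := by
              rw [← Nat.card_zpowers, hcb, Subgroup.card_top]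
            rw [h2, Subgroup.orderOf_mk]
          have h3 : orderOf cb ∣ orderOf h := by
            rw [← hh]; exact orderOf_map_dvd _ h
          rw [← h1, hj] at h3
          by_contra hj2
          have hj1 : j ≤ 1 := by omega
          have h4 : 2 ^ j ≤ 2 := by
            calc 2 ^ j ≤ 2 ^ 1 := Nat.pow_le_pow_right (by norm_num) hj1
              _ = 2 := by norm_num
          have h5 : Nat.card Cb ≤ 2 ^ j := Nat.le_of_dvd (by positivity) h3
          omega
        obtain ⟨j, hj2, hj⟩ := hord
        obtain ⟨j', rfl⟩ : ∃ j', j = j' + 2 := ⟨j - 2, by omega⟩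
        have hw1 : h ^ (2 ^ (j' + 1)) ≠ 1 := by
          intro h1
          have h2 := orderOf_dvd_of_pow_eq_one h1
          rw [hj] at h2
          have h3 := Nat.le_of_dvd (by positivity) h2
          have h4 : 2 ^ (j' + 2) = 2 * 2 ^ (j' + 1) := by ring
          have h5 : 0 < 2 ^ (j' + 1) := by positivity
          omega
        have hw2 : h ^ (2 ^ (j' + 1)) * h ^ (2 ^ (j' + 1)) = 1 := by
          rw [← pow_add, ← two_mul, ← pow_succ', ← hj, pow_orderOf_eq_one]
        have hwH : h ^ (2 ^ (j' + 1)) ∈ Cb.comap (QuotientGroup.mk' (Subgroup.zpowers z)) :=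
          pow_mem hhH _
        have hgw : g * h ^ (2 ^ (j' + 1)) * g⁻¹ = h ^ (2 ^ (j' + 1)) := by
          have hN := Subgroup.normal_of_index_eq_two hHidx
          obtain ⟨k, t, ht, hkt⟩ := hdec (g * h * g⁻¹) (hN.conj_mem h hhH g)
          have ct : ∀ y, Commute t y := fun y => ((Subgroup.mem_center_iff.1 (hZc ht)) y).symm
          have h1 : g * h ^ (2 ^ (j' + 1)) * g⁻¹ = (h ^ k * t) ^ (2 ^ (j' + 1)) := by
            rw [← conj_pow, hkt]
          have h2 : (h ^ k * t) ^ (2 ^ (j' + 1)) = (h ^ (2 ^ (j' + 1))) ^ k := by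
            rw [(ct (h ^ k)).symm.mul_pow]
            have ht2 : t ^ (2 ^ (j' + 1)) = 1 := by
              rw [pow_succ', pow_mul, pow_two, hZsq t ht, one_pow]
            rw [ht2, mul_one, ← zpow_natCast, ← zpow_natCast, ← zpow_mul, ← zpow_mul, mul_comm]
          rcases Int.even_or_odd k with ⟨m, hm⟩ | ⟨m, hm⟩
          · exfalso
            have h3 : (h ^ (2 ^ (j' + 1))) ^ k = 1 := by
              rw [hm, ← two_mul, zpow_mul, zpow_ofNat, pow_two, hw2, one_zpow]
            rw [h2, h3] at h1
            apply hw1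
            have e : h ^ (2 ^ (j' + 1)) = g⁻¹ * (g * h ^ (2 ^ (j' + 1)) * g⁻¹) * g := by group
            rw [e, h1]; group
          · rw [h1, h2, hm, zpow_add, zpow_mul, zpow_ofNat, pow_two, hw2, one_zpow, one_mul,
              zpow_one]
        have hDfix : ∀ d ∈ Cb.comap (QuotientGroup.mk' (Subgroup.zpowers z)) ⊓
            Subgroup.centralizer ({g} : Set X), g * d * g⁻¹ = d := by
          intro d hd
          have h1 := Subgroup.mem_centralizer_iff.1 hd.2 g (Set.mem_singleton g)
          rw [h1, mul_inv_cancel_right]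
        have hDcard := hfix _ inf_le_left hDfix
        have hzD : z ∈ Cb.comap (QuotientGroup.mk' (Subgroup.zpowers z)) ⊓
            Subgroup.centralizer ({g} : Set X) := by
          refine Subgroup.mem_inf.2 ⟨hzH, ?_⟩
          rw [Subgroup.mem_centralizer_iff]
          intro y _
          exact Subgroup.mem_center_iff.1 hzc y
        have hwD : h ^ (2 ^ (j' + 1)) ∈ Cb.comap (QuotientGroup.mk' (Subgroup.zpowers z)) ⊓
            Subgroup.centralizer ({g} : Set X) := by
          refine Subgroup.mem_inf.2 ⟨hwH, ?_⟩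
          rw [Subgroup.mem_centralizer_iff]
          intro y hy
          rw [Set.mem_singleton_iff] at hy
          subst hy
          exact mul_inv_eq_iff_eq_mul.1 hgw
        have hZD : Subgroup.zpowers z = Cb.comap (QuotientGroup.mk' (Subgroup.zpowers z)) ⊓
            Subgroup.centralizer ({g} : Set X) :=
          Subgroup.eq_of_le_of_card_ge (Subgroup.zpowers_le.2 hzD) (by rw [hZcard]; exact hDcard)
        have hwZ : h ^ (2 ^ (j' + 1)) ∈ Subgroup.zpowers z := hZD ▸ hwD
        rcases sq_eq_one_of_mem_zpowers hzz hwZ with h1 | h1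
        · exact hw1 h1
        · apply hzh
          rw [← h1]; exact pow_mem (Subgroup.mem_zpowers h) _

/-- a cyclic subgroup is commutative (elementwise form) -/
theorem comm_of_isCyclic {X : Type*} [Group X] (C : Subgroup X) (hC : IsCyclic C) :
    ∀ u ∈ C, ∀ v ∈ C, u * v = v * u := by
  intro u hu v hv
  obtain ⟨⟨c, hcC⟩, hc⟩ := isCyclic_iff_exists_zpowers_eq_top.1 hC
  have h1 : (⟨u, hu⟩ : C) ∈ Subgroup.zpowers (⟨c, hcC⟩ : C) := by rw [hc]; exact Subgroup.mem_top _
  have h2 : (⟨v, hv⟩ : C) ∈ Subgroup.zpowers (⟨c, hcC⟩ : C) := by rw [hc]; exact Subgroup.mem_top _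
  obtain ⟨i, hi⟩ := Subgroup.mem_zpowers_iff.1 h1
  obtain ⟨j, hj⟩ := Subgroup.mem_zpowers_iff.1 h2
  have hi' : c ^ i = u := by simpa using congrArg Subtype.val hi
  have hj' : c ^ j = v := by simpa using congrArg Subtype.val hj
  rw [← hi', ← hj']
  exact ((Commute.refl c).zpow_zpow i j).eq

theorem exists_not_mem_of_index_two {X : Type*} [Group X] (H : Subgroup X) (h : H.index = 2) :
    ∃ g, g ∉ H := by
  by_contra hall
  push Not at hall
  have h1 : H = ⊤ := eq_top_iff.2 (fun x _ => hall x)
  rw [h1, Subgroup.index_top] at h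
  omega

/-- For a 2-group of order `2^n ≥ 8` whose derived subgroup has index 4, the centre has order 2
and lies in the derived subgroup. -/
theorem card_center_eq_two (n : ℕ) (X : Type u) [Group X] [Finite X] (hn : 3 ≤ n)
    (hX : Nat.card X = 2 ^ n) (hidx : (commutator X).index = 4) :
    Nat.card (Subgroup.center X) = 2 ∧ Subgroup.center X ≤ commutator X := by
  haveI : Fact (Nat.Prime 2) := ⟨Nat.prime_two⟩
  have hP : IsPGroup 2 X := IsPGroup.of_card hX
  have h8 : 2 ^ n ≥ 8 := by
    calc 2 ^ n ≥ 2 ^ 3 := Nat.pow_le_pow_right (by norm_num) hn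
      _ = 8 := by norm_num
  have hXne : commutator X ≠ ⊥ := by
    intro h
    rw [h, Subgroup.index_bot, hX] at hidx
    omega
  obtain ⟨C, hC, hCi⟩ := exists_cyclic_index_two n X (by omega) hX hidx
  have hCc := comm_of_isCyclic C hC
  obtain ⟨g, hg⟩ := exists_not_mem_of_index_two C hCi
  have hcenC : Subgroup.center X ≤ C := by
    intro t ht
    by_contra htC
    apply hXne
    rw [eq_bot_iff]
    apply commutator_le_of_forall hCi hCc t htC ⊥
    intro u _
    rw [Subgroup.mem_bot]
    have h1 := Subgroup.mem_center_iff.1 ht u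
    rw [← h1]; group
  have hfix : ∀ d ∈ Subgroup.center X, g * d * g⁻¹ = d := by
    intro d hd
    have h1 := Subgroup.mem_center_iff.1 hd g
    rw [h1, mul_inv_cancel_right]
  have h1 := card_fixed_mul_card_commutator_le hCi hCc g hg (Subgroup.center X) hcenC hfix
  have hCcard : Nat.card C * 2 = 2 ^ n := by
    have h2 := C.card_mul_index
    rw [hCi, hX] at h2
    exact h2
  have hX'card : Nat.card (commutator X) * 4 = 2 ^ n := by
    have h2 := (commutator X).card_mul_index
    rw [hidx, hX] at h2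
    exact h2
  have hle : Nat.card (Subgroup.center X) ≤ 2 := by
    have hc0 : 0 < Nat.card (commutator X) := Nat.card_pos
    have h2 : Nat.card (Subgroup.center X) * Nat.card (commutator X) ≤
        2 * Nat.card (commutator X) := by omega
    exact Nat.le_of_mul_le_mul_right h2 hc0
  haveI : Nontrivial X := by
    rw [← Finite.one_lt_card_iff_nontrivial, hX]; omega
  have hge : 1 < Nat.card (Subgroup.center X) := by
    haveI := hP.center_nontrivial
    exact Finite.one_lt_card
  have hcard : Nat.card (Subgroup.center X) = 2 := by omega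
  refine ⟨hcard, ?_⟩
  have hNne := Cfsg.Agent.helper19.inf_center_ne_bot_of_normal hP (commutator X) hXne
  have h3 : Nat.card ↥(commutator X ⊓ Subgroup.center X) ∣ 2 := by
    rw [← hcard]; exact Subgroup.card_dvd_of_le inf_le_right
  have h4 : Nat.card ↥(commutator X ⊓ Subgroup.center X) = 2 := by
    rcases (Nat.dvd_prime Nat.prime_two).1 h3 with h5 | h5
    · exact absurd (Subgroup.card_eq_one.1 h5) hNne
    · exact h5
  have h5 : commutator X ⊓ Subgroup.center X = Subgroup.center X :=
    Subgroup.eq_of_le_of_card_ge inf_le_right (by rw [h4, hcard])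
  rw [← h5]; exact inf_le_left

theorem index_commutator_quotient {X : Type*} [Group X] (Z : Subgroup X) [Z.Normal]
    (hZ : Z ≤ commutator X) : (commutator (X ⧸ Z)).index = (commutator X).index := by
  have hsurj : Function.Surjective (QuotientGroup.mk' Z) := QuotientGroup.mk'_surjective _
  have h1 : (commutator X).map (QuotientGroup.mk' Z) = commutator (X ⧸ Z) := by
    rw [commutator_def, Subgroup.map_commutator, Subgroup.map_top_of_surjective _ hsurj,
      ← commutator_def]
  rw [← h1, Subgroup.index_map_eq _ hsurj (by rw [QuotientGroup.ker_mk']; exact hZ)]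

/-- Taussky: a 2-group of order `2^n` whose derived subgroup has index 4 has class `n - 1`. -/
theorem class_eq : ∀ (n : ℕ) (X : Type u) [Group X] [Finite X], 2 ≤ n →
    Nat.card X = 2 ^ n → (commutator X).index = 4 → Group.nilpotencyClass X = n - 1 := by
  intro n
  induction n with
  | zero => intro X _ _ h; omega
  | succ n ih =>
    intro X _ _ hn hX hidx
    haveI : Fact (Nat.Prime 2) := ⟨Nat.prime_two⟩
    have hP : IsPGroup 2 X := IsPGroup.of_card hX
    haveI : Group.IsNilpotent X := hP.isNilpotent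
    rcases Nat.lt_or_ge n 2 with hn1 | hn2
    · have hn' : n = 1 := by omega
      subst hn'
      -- |X| = 4, derived subgroup trivial
      have hX' : commutator X = ⊥ := by
        have h2 := (commutator X).card_mul_index
        rw [hidx, hX] at h2
        have h4 : (2 : ℕ) ^ (1 + 1) = 4 := by norm_num
        rw [h4] at h2
        have h3 : Nat.card (commutator X) = 1 := by omega
        exact Subgroup.card_eq_one.1 h3
      have h1 : Group.nilpotencyClass X ≤ 1 := by
        rw [← Subgroup.lowerCentralSeries_eq_bot_iff_nilpotencyClass_le]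
        show (⊤ : Subgroup X).lowerCentralSeries (0 + 1) = ⊥
        rw [Subgroup.lowerCentralSeries_succ, Subgroup.lowerCentralSeries_zero, ← commutator_def]
        exact hX'
      have h0 : ¬ Group.nilpotencyClass X ≤ 0 := by
        rw [← Subgroup.lowerCentralSeries_eq_bot_iff_nilpotencyClass_le, Subgroup.lowerCentralSeries_zero]
        intro h
        have h2 : Nat.card (⊤ : Subgroup X) = 1 := by rw [h]; exact Subgroup.card_bot
        rw [Subgroup.card_top, hX] at h2
        norm_num at h2
      omega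
    · obtain ⟨hcen, hcenle⟩ := card_center_eq_two (n + 1) X (by omega) hX hidx
      have hQcard : Nat.card (X ⧸ Subgroup.center X) = 2 ^ n := by
        have h1 := (Subgroup.center X).card_mul_index
        rw [hcen, hX, Subgroup.index_eq_card, pow_succ] at h1
        omega
      have hQidx : (commutator (X ⧸ Subgroup.center X)).index = 4 := by
        rw [index_commutator_quotient _ hcenle]; exact hidx
      have h1 := ih (X ⧸ Subgroup.center X) hn2 hQcard hQidx
      rw [Group.nilpotencyClass_quotient_center] at h1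
      omega

/-! ### lower central series of maximal length -/

theorem lcs_strict {X : Type*} [Group X] [hN : Group.IsNilpotent X] (k : ℕ)
    (hk : k < Group.nilpotencyClass X) :
    (⊤ : Subgroup X).lowerCentralSeries (k + 1) < (⊤ : Subgroup X).lowerCentralSeries k := by
  refine lt_of_le_of_ne (Subgroup.lowerCentralSeries_antitone _ (Nat.le_succ k)) ?_
  intro heq
  have hall : ∀ m, (⊤ : Subgroup X).lowerCentralSeries (k + m) =
      (⊤ : Subgroup X).lowerCentralSeries k := by
    intro m
    induction m with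
    | zero => rfl
    | succ m ihm =>
      rw [← add_assoc, Subgroup.lowerCentralSeries_succ, ihm, ← Subgroup.lowerCentralSeries_succ,
        heq]
  have h1 := hall (Group.nilpotencyClass X - k)
  rw [Nat.add_sub_cancel' hk.le, Subgroup.lowerCentralSeries_nilpotencyClass] at h1
  have h2 : Group.nilpotencyClass X ≤ k :=
    Subgroup.lowerCentralSeries_eq_bot_iff_nilpotencyClass_le.1 h1.symm
  omega

theorem lcs_card {X : Type*} [Group X] [Finite X] [Group.IsNilpotent X] :
    ∀ i, i ≤ Group.nilpotencyClass X → 2 ^ i ≤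
      Nat.card ((⊤ : Subgroup X).lowerCentralSeries (Group.nilpotencyClass X - i)) := by
  intro i
  induction i with
  | zero =>
    intro _
    rw [pow_zero]
    exact Nat.card_pos
  | succ i ih =>
    intro hi
    have h1 := ih (by omega)
    have hk : Group.nilpotencyClass X - (i + 1) < Group.nilpotencyClass X := by omega
    have hlt := lcs_strict (X := X) _ hk
    have e : Group.nilpotencyClass X - (i + 1) + 1 = Group.nilpotencyClass X - i := by omega
    rw [e] at hlt
    have hdvd := Subgroup.card_dvd_of_le hlt.le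
    have hne : Nat.card ((⊤ : Subgroup X).lowerCentralSeries (Group.nilpotencyClass X - i)) ≠
        Nat.card ((⊤ : Subgroup X).lowerCentralSeries (Group.nilpotencyClass X - (i + 1))) := by
      intro heq
      exact hlt.ne (Subgroup.eq_of_le_of_card_ge hlt.le heq.symm.le)
    obtain ⟨q, hq⟩ := hdvd
    have hpos : 0 < Nat.card
        ((⊤ : Subgroup X).lowerCentralSeries (Group.nilpotencyClass X - (i + 1))) := Nat.card_pos
    have hq2 : 2 ≤ q := by
      rcases q with _ | _ | q
      · rw [mul_zero] at hq; omega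
      · rw [zero_add, mul_one] at hq; exact absurd hq.symm hne
      · omega
    calc 2 ^ (i + 1) = 2 ^ i * 2 := pow_succ 2 i
      _ ≤ Nat.card ((⊤ : Subgroup X).lowerCentralSeries (Group.nilpotencyClass X - i)) * q :=
          Nat.mul_le_mul h1 hq2
      _ = _ := hq.symm

theorem not_isCyclic_abelianization {X : Type*} [Group X] [Finite X] {p : ℕ} [Fact p.Prime]
    (hP : IsPGroup p X) (hne : commutator X ≠ ⊥) : ¬ IsCyclic (X ⧸ commutator X) := by
  intro hcyc
  obtain ⟨q, hq⟩ := hcyc.exists_generator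
  obtain ⟨g, rfl⟩ := QuotientGroup.mk_surjective q
  have h1 : Subgroup.zpowers g ⊔ commutator X = ⊤ := by
    rw [eq_top_iff]
    intro x _
    obtain ⟨k, hk⟩ := Subgroup.mem_zpowers_iff.1 (hq (x : X ⧸ commutator X))
    have h2 : (g ^ k)⁻¹ * x ∈ commutator X :=
      QuotientGroup.eq.1 (by rw [QuotientGroup.mk_zpow]; exact hk)
    have e : x = g ^ k * ((g ^ k)⁻¹ * x) := by group
    rw [e]
    exact Subgroup.mul_mem_sup (zpow_mem (Subgroup.mem_zpowers g) k) h2
  have h2 : Subgroup.zpowers g ⊔ frattini X = ⊤ := by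
    rw [eq_top_iff, ← h1]
    exact sup_le_sup_left (Cfsg.Agent.helper1.commutator_le_frattini_of_isPGroup hP) _
  have h3 : Subgroup.zpowers g = ⊤ := frattini_nongenerating h2
  apply hne
  apply commutator_eq_bot_of_comm
  intro a b
  have ha : a ∈ Subgroup.zpowers g := h3 ▸ Subgroup.mem_top a
  have hb : b ∈ Subgroup.zpowers g := h3 ▸ Subgroup.mem_top b
  obtain ⟨i, rfl⟩ := Subgroup.mem_zpowers_iff.1 ha
  obtain ⟨j, rfl⟩ := Subgroup.mem_zpowers_iff.1 hb
  exact ((Commute.refl g).zpow_zpow i j).eq

theorem isKleinFour_of_card_four {Q : Type*} [Group Q] (h4 : Nat.card Q = 4)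
    (hnc : ¬ IsCyclic Q) : IsKleinFour Q := by
  haveI : Finite Q := Nat.finite_of_card_ne_zero (by rw [h4]; norm_num)
  have hsq : ∀ q : Q, q ^ 2 = 1 := by
    intro q
    have hd : orderOf q ∣ 2 ^ 2 := by
      rw [show (2 : ℕ) ^ 2 = 4 by norm_num, ← h4]; exact orderOf_dvd_natCard q
    obtain ⟨k, hk, hqk⟩ := (Nat.dvd_prime_pow Nat.prime_two).1 hd
    interval_cases k
    · rw [pow_zero, orderOf_eq_one_iff] at hqk; rw [hqk, one_pow]
    · rw [pow_one] at hqk; rw [← hqk]; exact pow_orderOf_eq_one q
    · exfalso; exact hnc (isCyclic_of_orderOf_eq_card q (by rw [hqk, h4]; norm_num))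
  refine ⟨h4, ?_⟩
  have h1 : Monoid.exponent Q ∣ 2 := Monoid.exponent_dvd_of_forall_pow_eq_one hsq
  rcases (Nat.dvd_prime Nat.prime_two).1 h1 with h | h
  · exfalso
    rw [Monoid.exp_eq_one_iff] at h
    have h5 : Nat.card Q ≤ 1 := Finite.card_le_one_iff_subsingleton.2 h
    omega
  · exact h

/-- maximal class implies abelianization of order 4. -/
theorem index_commutator_of_class (n : ℕ) (X : Type u) [Group X] [Finite X] (hn : 3 ≤ n)
    (hX : Nat.card X = 2 ^ n) (hc : Group.nilpotencyClass X = n - 1) :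
    (commutator X).index = 4 ∧ ¬ IsCyclic (X ⧸ commutator X) := by
  haveI : Fact (Nat.Prime 2) := ⟨Nat.prime_two⟩
  have hP : IsPGroup 2 X := IsPGroup.of_card hX
  haveI : Group.IsNilpotent X := hP.isNilpotent
  have hL1 : (⊤ : Subgroup X).lowerCentralSeries 1 = commutator X := by
    show (⊤ : Subgroup X).lowerCentralSeries (0 + 1) = commutator X
    rw [Subgroup.lowerCentralSeries_succ, Subgroup.lowerCentralSeries_zero, ← commutator_def]
  have hne : commutator X ≠ ⊥ := by
    intro h
    rw [← hL1, Subgroup.lowerCentralSeries_eq_bot_iff_nilpotencyClass_le] at h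
    omega
  have hncyc := not_isCyclic_abelianization hP hne
  refine ⟨?_, hncyc⟩
  have h1 := lcs_card (X := X) (n - 2) (by omega)
  have e : Group.nilpotencyClass X - (n - 2) = 1 := by omega
  rw [e, hL1] at h1
  have h2 := (commutator X).card_mul_index
  rw [hX] at h2
  -- index is a power of two
  have hidx_dvd : (commutator X).index ∣ 2 ^ n := ⟨_, by rw [mul_comm]; exact h2.symm⟩
  obtain ⟨e2, he2, hidx⟩ := (Nat.dvd_prime_pow Nat.prime_two).1 hidx_dvd
  have hpow : 2 ^ n = 2 ^ (n - 2) * 4 := by
    have : n = (n - 2) + 2 := by omega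
    conv_lhs => rw [this, pow_add]
    norm_num
  -- e2 ≤ 2
  have he22 : e2 ≤ 2 := by
    by_contra hgt
    have h8 : 2 ^ 3 ≤ 2 ^ e2 := Nat.pow_le_pow_right (by norm_num) (by omega)
    rw [hidx] at h2
    have h3 : 2 ^ (n - 2) * 8 ≤ Nat.card (commutator X) * 2 ^ e2 :=
      Nat.mul_le_mul h1 (by norm_num at h8; exact h8)
    have hp : 0 < 2 ^ (n - 2) := by positivity
    omega
  have hQcard : Nat.card (X ⧸ commutator X) = 2 ^ e2 := by
    rw [← Subgroup.index_eq_card, hidx]
  interval_cases e2
  · exfalso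
    apply hncyc
    rw [pow_zero] at hQcard
    haveI : Subsingleton (X ⧸ commutator X) :=
      (Nat.card_eq_one_iff_unique.1 hQcard).1
    exact isCyclic_of_subsingleton
  · exfalso
    apply hncyc
    rw [pow_one] at hQcard
    exact isCyclic_of_prime_card hQcard
  · rw [hidx]; norm_num

/-! ### Taussky's classification -/

theorem comm_zpowers {X : Type*} [Group X] (a : X) :
    ∀ u ∈ Subgroup.zpowers a, ∀ v ∈ Subgroup.zpowers a, u * v = v * u := by
  intro u hu v hv
  obtain ⟨i, rfl⟩ := Subgroup.mem_zpowers_iff.1 hu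
  obtain ⟨j, rfl⟩ := Subgroup.mem_zpowers_iff.1 hv
  exact ((Commute.refl a).zpow_zpow i j).eq

theorem index_zpowers_eq_two {X : Type*} [Group X] [Finite X] (n : ℕ) (hn : 1 ≤ n)
    (hX : Nat.card X = 2 ^ n) (a : X) (ha : orderOf a = 2 ^ (n - 1)) :
    (Subgroup.zpowers a).index = 2 := by
  have hHcard : Nat.card (Subgroup.zpowers a) = 2 ^ (n - 1) := by rw [Nat.card_zpowers, ha]
  have h1 := (Subgroup.zpowers a).card_mul_index
  rw [hHcard, hX] at h1
  have h2 : 2 ^ n = 2 ^ (n - 1) * 2 := by
    conv_lhs => rw [show n = (n - 1) + 1 by omega, pow_succ]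
  rw [h2] at h1
  exact Nat.eq_of_mul_eq_mul_left (by positivity) h1

/-- Taussky: a 2-group of order `2^n ≥ 8` with derived subgroup of index 4 is dihedral,
generalized quaternion or semidihedral (given by generators and relations). -/
theorem taussky (n : ℕ) (X : Type u) [Group X] [Finite X] (hn : 3 ≤ n)
    (hX : Nat.card X = 2 ^ n) (hidx : (commutator X).index = 4) :
    ∃ a b : X, orderOf a = 2 ^ (n - 1) ∧ b ∉ Subgroup.zpowers a ∧
      ((b ^ 2 = 1 ∧ b * a * b⁻¹ = a⁻¹) ∨ (b ^ 2 = a ^ (2 ^ (n - 2)) ∧ b * a * b⁻¹ = a⁻¹) ∨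
       (4 ≤ n ∧ b ^ 2 = 1 ∧ b * a * b⁻¹ = a ^ (2 ^ (n - 2) - 1))) := by
  have h8 : 2 ^ n ≥ 8 := by
    calc 2 ^ n ≥ 2 ^ 3 := Nat.pow_le_pow_right (by norm_num) hn
      _ = 8 := by norm_num
  have hXne : commutator X ≠ ⊥ := by
    intro h
    rw [h, Subgroup.index_bot, hX] at hidx
    omega
  obtain ⟨C, hC, hCi⟩ := exists_cyclic_index_two n X (by omega) hX hidx
  have hna : ∃ x y : X, x * y ≠ y * x := by
    by_contra hall
    push Not at hall
    exact hXne (commutator_eq_bot_of_comm hall)
  obtain ⟨a, b, ha, hb, hcases⟩ := Cfsg.Agent.S0646.result n hn hX C hC hCi hna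
  refine ⟨a, b, ha, hb, ?_⟩
  rcases hcases with h | h | ⟨h4, hb2, hba⟩ | h
  · exact Or.inl h
  · exact Or.inr (Or.inl h)
  · exfalso
    have h16 : 2 ^ n ≥ 16 := by
      calc 2 ^ n ≥ 2 ^ 4 := Nat.pow_le_pow_right (by norm_num) h4
        _ = 16 := by norm_num
    have hHidx := index_zpowers_eq_two n (by omega) hX a ha
    have hL : ∀ u ∈ Subgroup.zpowers a,
        b * u * b⁻¹ * u⁻¹ ∈ Subgroup.zpowers (a ^ (2 ^ (n - 2))) := by
      intro u hu
      obtain ⟨k, rfl⟩ := Subgroup.mem_zpowers_iff.1 hu
      have e1 : b * a ^ k * b⁻¹ = (a ^ (1 + 2 ^ (n - 2))) ^ k := by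
        rw [← hba]; exact conj_zpow.symm
      rw [e1]
      have e2 : (a ^ (1 + 2 ^ (n - 2))) ^ k * (a ^ k)⁻¹ = (a ^ (2 ^ (n - 2))) ^ k := by
        rw [← zpow_natCast a (1 + 2 ^ (n - 2)), ← zpow_natCast a (2 ^ (n - 2)), ← zpow_mul,
          ← zpow_mul, ← zpow_neg, ← zpow_add]
        congr 1
        push_cast
        ring
      rw [e2]
      exact zpow_mem (Subgroup.mem_zpowers _) k
    have hle := commutator_le_of_forall hHidx (comm_zpowers a) b hb _ hL
    have hLcard : Nat.card (Subgroup.zpowers (a ^ (2 ^ (n - 2)))) ≤ 2 := by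
      rw [Nat.card_zpowers]
      apply Nat.le_of_dvd (by norm_num)
      apply orderOf_dvd_of_pow_eq_one
      rw [← pow_mul, ← pow_succ, show n - 2 + 1 = n - 1 by omega, ← ha, pow_orderOf_eq_one]
    have h1 := Subgroup.card_le_of_le hle
    have hX'card : Nat.card (commutator X) * 4 = 2 ^ n := by
      have h2 := (commutator X).card_mul_index
      rw [hidx, hX] at h2
      exact h2
    omega
  · exact Or.inr (Or.inr h)

/-- the centre lies in any abelian subgroup of index 2 of a non-abelian group -/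
theorem center_le_of_index_two {X : Type*} [Group X] (H : Subgroup X) (hidx : H.index = 2)
    (hHc : ∀ u ∈ H, ∀ v ∈ H, u * v = v * u) (hne : commutator X ≠ ⊥) :
    Subgroup.center X ≤ H := by
  intro t ht
  by_contra htC
  apply hne
  rw [eq_bot_iff]
  apply commutator_le_of_forall hidx hHc t htC ⊥
  intro u _
  rw [Subgroup.mem_bot]
  have h1 := Subgroup.mem_center_iff.1 ht u
  rw [← h1]; group

end Cfsg.Agent.helper17.MC2
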