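import Mathlib
import Cfsg.Agent.Lib_helper22_GalDegA

set_option autoImplicit false
set_option maxHeartbeats 1000000

/-!
helper17: normal four-subgroups of `2`-groups, basic lemmas (for S4157).
-/

namespace Cfsg.Agent.helper17.N4

variable {G : Type*} [Group G]

theorem inv_eq_self_of_sq {x : G} (hx : x ^ 2 = 1) : x⁻¹ = x := by
  rw [inv_eq_iff_mul_eq_one, ← sq, hx]

theorem mul_self_of_sq {x : G} (hx : x ^ 2 = 1) : x * x = 1 := by
  rw [← sq, hx]

theorem mem_zpowers_iff_of_sq {z x : G} (hz : z ^ 2 = 1) :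
    x ∈ Subgroup.zpowers z ↔ x = 1 ∨ x = z := by
  constructor
  · rintro ⟨k, rfl⟩
    rcases Int.even_or_odd' k with ⟨j, hj | hj⟩
    · left
      show z ^ k = 1
      rw [hj, zpow_mul, zpow_ofNat, hz, one_zpow]
    · right
      show z ^ k = z
      rw [hj, zpow_add, zpow_mul, zpow_ofNat, hz, one_zpow, one_mul, zpow_one]
  · rintro (rfl | rfl)
    · exact Subgroup.one_mem _
    · exact Subgroup.mem_zpowers _

theorem zpowers_normal_of_central {z : G} (hz : z ∈ Subgroup.center G) :
    (Subgroup.zpowers z).Normal := by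
  constructor
  intro n hn g
  have h1 : n ∈ Subgroup.center G := (Subgroup.zpowers_le.mpr hz) hn
  have h2 : g * n = n * g := (Subgroup.mem_center_iff.mp h1 g)
  rw [h2, mul_inv_cancel_right]
  exact hn

/-- the data of a normal four-subgroup `{1, z, a, a z}` with `z` central. -/
def NF (z a : G) : Prop :=
  z ∈ Subgroup.center G ∧ z ^ 2 = 1 ∧ z ≠ 1 ∧ a ^ 2 = 1 ∧ a ≠ 1 ∧ a ≠ z ∧
    ∀ g : G, g * a * g⁻¹ = a ∨ g * a * g⁻¹ = a * z

/-- the four-subgroup generated by two commuting involutions. -/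
def four (x y : G) (hx : x ^ 2 = 1) (hy : y ^ 2 = 1) (hxy : x * y = y * x) : Subgroup G where
  carrier := {1, x, y, x * y}
  one_mem' := by simp
  mul_mem' := by
    have hxx := mul_self_of_sq hx
    have hyy := mul_self_of_sq hy
    intro a b ha hb
    simp only [Set.mem_insert_iff, Set.mem_singleton_iff] at ha hb ⊢
    rcases ha with rfl | rfl | rfl | rfl <;> rcases hb with rfl | rfl | rfl | rfl
    · left; rw [one_mul]
    · right; left; rw [one_mul]
    · right; right; left; rw [one_mul]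
    · right; right; right; rw [one_mul]
    · right; left; rw [mul_one]
    · left; exact hxx
    · right; right; right; rfl
    · right; right; left; rw [← mul_assoc, hxx, one_mul]
    · right; right; left; rw [mul_one]
    · right; right; right; exact hxy.symm
    · left; exact hyy
    · right; left; rw [← mul_assoc, ← hxy, mul_assoc, hyy, mul_one]
    · right; right; right; rw [mul_one]
    · right; right; left; rw [hxy, mul_assoc, hxx, mul_one]
    · right; left; rw [mul_assoc, hyy, mul_one]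
    · left; rw [mul_assoc, ← mul_assoc y, ← hxy, mul_assoc, hyy, mul_one, hxx]
  inv_mem' := by
    intro a ha
    simp only [Set.mem_insert_iff, Set.mem_singleton_iff] at ha ⊢
    rcases ha with rfl | rfl | rfl | rfl
    · left; exact inv_one
    · right; left; exact inv_eq_self_of_sq hx
    · right; right; left; exact inv_eq_self_of_sq hy
    · right; right; right
      rw [mul_inv_rev, inv_eq_self_of_sq hx, inv_eq_self_of_sq hy, hxy]

theorem mem_four {x y : G} (hx : x ^ 2 = 1) (hy : y ^ 2 = 1) (hxy : x * y = y * x) (g : G) :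
    g ∈ four x y hx hy hxy ↔ g = 1 ∨ g = x ∨ g = y ∨ g = x * y := by
  show g ∈ ({1, x, y, x * y} : Set G) ↔ _
  simp only [Set.mem_insert_iff, Set.mem_singleton_iff]

theorem card_four {x y : G} (hx : x ^ 2 = 1) (hy : y ^ 2 = 1) (hxy : x * y = y * x)
    (hx1 : x ≠ 1) (hy1 : y ≠ 1) (hne : x ≠ y) : Nat.card (four x y hx hy hxy) = 4 := by
  classical
  have h1 : Nat.card (four x y hx hy hxy) = ((four x y hx hy hxy : Subgroup G) : Set G).ncard :=
    Nat.card_coe_set_eq _
  rw [h1]
  show ({1, x, y, x * y} : Set G).ncard = 4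
  have hyinv := inv_eq_self_of_sq hy
  rw [Set.ncard_insert_of_notMem, Set.ncard_insert_of_notMem, Set.ncard_insert_of_notMem,
    Set.ncard_singleton]
  · simp only [Set.mem_singleton_iff]
    intro h
    apply hx1
    have : x * y = 1 * y := by rw [one_mul]; exact h.symm
    exact mul_right_cancel this
  · simp only [Set.mem_insert_iff, Set.mem_singleton_iff, not_or]
    refine ⟨hne, ?_⟩
    intro h
    apply hy1
    have : x * y = x * 1 := by rw [mul_one]; exact h.symm
    exact mul_left_cancel this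
  · simp only [Set.mem_insert_iff, Set.mem_singleton_iff, not_or]
    refine ⟨hx1.symm, hy1.symm, ?_⟩
    intro h
    apply hne
    rw [← hyinv]
    exact eq_inv_of_mul_eq_one_left h.symm

theorem four_sq {x y : G} (hx : x ^ 2 = 1) (hy : y ^ 2 = 1) (hxy : x * y = y * x) (g : G)
    (hg : g ∈ four x y hx hy hxy) : g ^ 2 = 1 := by
  rw [mem_four] at hg
  rcases hg with rfl | rfl | rfl | rfl
  · exact one_pow 2
  · exact hx
  · exact hy
  · rw [sq, mul_assoc, ← mul_assoc y, ← hxy, mul_assoc, mul_self_of_sq hy, mul_one,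
      mul_self_of_sq hx]

/-- in a finite `2`-group every nontrivial element has a power which is an involution. -/
theorem exists_pow_invol [Finite G] (hG : IsPGroup 2 G) (w : G) (hw : w ≠ 1) :
    ∃ k : ℕ, (w ^ k) ^ 2 = 1 ∧ w ^ k ≠ 1 := by
  obtain ⟨k, hk⟩ := hG w
  -- orderOf w = 2 ^ j
  obtain ⟨j, hj, hjo⟩ := (Nat.dvd_prime_pow Nat.prime_two).mp (orderOf_dvd_of_pow_eq_one hk)
  have hj0 : j ≠ 0 := by
    intro h
    rw [h, pow_zero, orderOf_eq_one_iff] at hjo
    exact hw hjo
  obtain ⟨i, rfl⟩ : ∃ i, j = i + 1 := ⟨j - 1, by omega⟩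
  refine ⟨2 ^ i, ?_, ?_⟩
  · rw [← pow_mul, ← pow_succ, ← hjo, pow_orderOf_eq_one]
  · intro h
    have h1 := orderOf_dvd_of_pow_eq_one h
    rw [hjo] at h1
    have h2 := Nat.le_of_dvd (by positivity) h1
    rw [pow_succ] at h2
    have : 0 < 2 ^ i := by positivity
    omega

/-- a nontrivial normal subgroup of a finite `2`-group contains a central involution. -/
theorem exists_central_invol [Finite G] (hG : IsPGroup 2 G) (M : Subgroup G) [M.Normal]
    (hM : M ≠ ⊥) : ∃ d ∈ M, d ∈ Subgroup.center G ∧ d ^ 2 = 1 ∧ d ≠ 1 := by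
  haveI : Fact (Nat.Prime 2) := ⟨Nat.prime_two⟩
  obtain ⟨w, hwM, hwc, hw1⟩ := Cfsg.Agent.helper22.gd_exists_central_of_normal hG M hM
  obtain ⟨k, hk2, hk1⟩ := exists_pow_invol hG w hw1
  exact ⟨w ^ k, Subgroup.pow_mem _ hwM k, Subgroup.pow_mem _ hwc k, hk2, hk1⟩

/-- a central involution of `G ⧸ ⟨z⟩` lifts to a `z`-central element. -/
theorem lift_central {z : G} (hz2 : z ^ 2 = 1) (hzc : z ∈ Subgroup.center G)
    [hN : (Subgroup.zpowers z).Normal] (x : G)
    (hx : (QuotientGroup.mk' (Subgroup.zpowers z) x) ∈ Subgroup.center (G ⧸ Subgroup.zpowers z))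
    (g : G) : g * x * g⁻¹ = x ∨ g * x * g⁻¹ = x * z := by
  have h1 := Subgroup.mem_center_iff.mp hx (QuotientGroup.mk' (Subgroup.zpowers z) g)
  have h2 : QuotientGroup.mk' (Subgroup.zpowers z) (x⁻¹ * (g * x * g⁻¹)) = 1 := by
    rw [map_mul, map_mul, map_mul, map_inv, map_inv, h1]
    group
  rw [QuotientGroup.mk'_apply, QuotientGroup.eq_one_iff, mem_zpowers_iff_of_sq hz2] at h2
  rcases h2 with h | h
  · left
    rw [← mul_right_inj x⁻¹, h, inv_mul_cancel]
  · right
    rw [← mul_right_inj x⁻¹, h, inv_mul_cancel_left]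

end Cfsg.Agent.helper17.N4
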