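import Mathlib
import Cfsg.Agent.Lib_helper7_NormalE2

/-! Suzuki's lemma: a `p`-group with a self-centralizing subgroup of order `p²` has maximal class
(helper7). -/

set_option autoImplicit false

namespace Cfsg.Agent.helper7

section MaxClass

universe u

variable {X : Type u} [Group X] [Finite X] {p : ℕ} [hp : Fact p.Prime]

omit hp in
theorem card_map_mk'_center (D : Subgroup X) (hZD : Subgroup.center X ≤ D) :
    Nat.card ↥D = Nat.card ↥(Subgroup.center X) *
      Nat.card ↥(D.map (QuotientGroup.mk' (Subgroup.center X))) := by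
  have h := card_comap_mk' (Subgroup.center X) (D.map (QuotientGroup.mk' (Subgroup.center X)))
  rw [Subgroup.comap_map_eq_self (by rw [QuotientGroup.ker_mk']; exact hZD)] at h
  exact h

omit [Finite X] hp in
theorem centralizer_map_mk'_le (D : Subgroup X)
    (h : ∀ x : X, (∀ d ∈ D, x * d * x⁻¹ * d⁻¹ ∈ Subgroup.center X) → x ∈ D) :
    Subgroup.centralizer ((D.map (QuotientGroup.mk' (Subgroup.center X)) :
      Subgroup (X ⧸ Subgroup.center X)) : Set (X ⧸ Subgroup.center X)) ≤
      D.map (QuotientGroup.mk' (Subgroup.center X)) := by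
  intro y hy
  obtain ⟨x, rfl⟩ := QuotientGroup.mk'_surjective _ y
  apply Subgroup.mem_map_of_mem
  apply h
  intro d hd
  have h1 := Subgroup.mem_centralizer_iff.mp hy _ (Subgroup.mem_map_of_mem _ hd)
  have h2 : (QuotientGroup.mk' (Subgroup.center X)) (x * d * x⁻¹ * d⁻¹) = 1 := by
    rw [map_mul, map_mul, map_mul, map_inv, map_inv, ← h1]
    group
  rw [QuotientGroup.mk'_apply, QuotientGroup.eq_one_iff] at h2
  exact h2

omit [Finite X] hp in
theorem nilpotencyClass_eq_one_of_comm [Nontrivial X] (h : ∀ a b : X, a * b = b * a) :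
    Group.nilpotencyClass X = 1 := by
  have hc : Subgroup.center X = ⊤ := by
    ext a
    simp only [Subgroup.mem_center_iff, Subgroup.mem_top, iff_true]
    intro g; exact h g a
  have hnil : Group.IsNilpotent X := ⟨⟨1, by rw [upperCentralSeries_one, hc]⟩⟩
  apply le_antisymm
  · apply upperCentralSeries_eq_top_iff_nilpotencyClass_le.mp
    rw [upperCentralSeries_one, hc]
  · rw [Nat.one_le_iff_ne_zero]
    intro h0
    rw [Group.nilpotencyClass_zero_iff_subsingleton] at h0
    exact not_subsingleton X h0

/-- **Suzuki's lemma**: a `p`-group of order `p ^ (n + 2)` with a subgroup of order `p²` containing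
its centralizer has nilpotency class `n + 1`. -/
theorem suzuki_maxclass : ∀ (n : ℕ) (X : Type u) [Group X] [Finite X], Nat.card X = p ^ (n + 2) →
    ∀ A : Subgroup X, Nat.card ↥A = p ^ 2 → Subgroup.centralizer (A : Set X) ≤ A →
    Group.nilpotencyClass X = n + 1 := by
  intro n
  induction n with
  | zero =>
    intro X _ _ hX A hA hCA
    have hp1 : 1 < p := hp.out.one_lt
    have hX' : Nat.card X = p ^ 2 := by simpa using hX
    haveI : Nontrivial X := by
      rw [← Finite.one_lt_card_iff_nontrivial, hX']; exact Nat.one_lt_pow (by omega) hp1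
    exact nilpotencyClass_eq_one_of_comm (IsPGroup.commutative_of_card_eq_prime_sq hX')
  | succ n ih =>
    intro X _ _ hX A hA hCA
    have hp1 : 1 < p := hp.out.one_lt
    have hP : IsPGroup p X := IsPGroup.of_card hX
    haveI : Nontrivial X := by
      rw [← Finite.one_lt_card_iff_nontrivial, hX]; exact Nat.one_lt_pow (by omega) hp1
    haveI : Group.IsNilpotent X := hP.isNilpotent
    have hZA : Subgroup.center X ≤ A := (Subgroup.center_le_centralizer _).trans hCA
    have hZne : Subgroup.center X ≠ ⊥ := by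
      haveI := hP.center_nontrivial
      exact (Subgroup.nontrivial_iff_ne_bot _).mp inferInstance
    have hAlt : A ≠ ⊤ := by
      intro h
      rw [h, Subgroup.card_top, hX] at hA
      have := Nat.pow_right_injective (show 2 ≤ p by omega) hA
      omega
    have hZneA : Subgroup.center X ≠ A := by
      intro h
      apply hAlt
      rw [eq_top_iff]
      refine le_trans ?_ hCA
      rw [← h]
      intro x _
      rw [Subgroup.mem_centralizer_iff]
      intro z hz
      exact (Subgroup.mem_center_iff.mp hz x).symm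
    have hZcard : Nat.card ↥(Subgroup.center X) = p := by
      obtain ⟨k, hk⟩ := (hP.to_subgroup (Subgroup.center X)).exists_card_eq
      have hk0 : k ≠ 0 := by
        intro h
        rw [h, pow_zero] at hk
        exact hZne (Subgroup.card_eq_one.mp hk)
      have hle := Subgroup.card_le_of_le hZA
      rw [hk, hA] at hle
      have hk2' : k ≤ 2 := (Nat.pow_le_pow_iff_right hp1).mp hle
      have hk2 : k ≠ 2 := by
        intro h2
        apply hZneA
        exact Subgroup.eq_of_le_of_card_ge hZA (by rw [hA, hk, h2])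
      have : k = 1 := by omega
      rw [hk, this, pow_one]
    have hAN : A ≤ Subgroup.normalizer (A : Set X) := Subgroup.le_normalizer
    have hAltN : A < Subgroup.normalizer (A : Set X) :=
      Group.normalizerCondition_of_isNilpotent A (lt_top_iff_ne_top.mpr hAlt)
    have hA'n : (A.subgroupOf (Subgroup.normalizer (A : Set X))).Normal :=
      Subgroup.normal_in_normalizer
    have hPN : IsPGroup p ↥(Subgroup.normalizer (A : Set X)) := hP.to_subgroup _
    have hA'card : Nat.card ↥(A.subgroupOf (Subgroup.normalizer (A : Set X))) = p ^ 2 := by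
      rw [Nat.card_congr (Subgroup.subgroupOfEquivOfLe hAN).toEquiv, hA]
    have hidx := index_centralizer_dvd_of_card_dvd_sq hPN
      (A.subgroupOf (Subgroup.normalizer (A : Set X))) (by rw [hA'card])
    have hcle : Subgroup.centralizer ((A.subgroupOf (Subgroup.normalizer (A : Set X)) :
        Subgroup ↥(Subgroup.normalizer (A : Set X))) : Set ↥(Subgroup.normalizer (A : Set X))) ≤
        A.subgroupOf (Subgroup.normalizer (A : Set X)) := by
      intro y hy
      rw [Subgroup.mem_subgroupOf]
      apply hCA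
      rw [Subgroup.mem_centralizer_iff]
      intro a ha
      have hmem : (⟨a, hAN ha⟩ : ↥(Subgroup.normalizer (A : Set X))) ∈
          A.subgroupOf (Subgroup.normalizer (A : Set X)) := Subgroup.mem_subgroupOf.mpr ha
      have := Subgroup.mem_centralizer_iff.mp hy ⟨a, hAN ha⟩ hmem
      exact congrArg Subtype.val this
    have hrel : A.relIndex (Subgroup.normalizer (A : Set X)) ∣ p :=
      (Subgroup.index_dvd_of_le hcle).trans hidx
    have hcardN := card_inf_mul_relIndex A (Subgroup.normalizer (A : Set X))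
    rw [inf_eq_left.mpr hAN] at hcardN
    have hrel1 : A.relIndex (Subgroup.normalizer (A : Set X)) ≠ 1 := by
      intro h
      rw [h, mul_one] at hcardN
      exact hAltN.ne (Subgroup.eq_of_le_of_card_ge hAN hcardN.ge)
    have hrelp : A.relIndex (Subgroup.normalizer (A : Set X)) = p :=
      ((Nat.dvd_prime hp.out).mp hrel).resolve_left hrel1
    have hNcard : Nat.card ↥(Subgroup.normalizer (A : Set X)) = p ^ 3 := by
      rw [← hcardN, hA, hrelp]; ring
    have hXq : Nat.card (X ⧸ Subgroup.center X) = p ^ (n + 2) := by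
      have h := Subgroup.card_eq_card_quotient_mul_card_subgroup (Subgroup.center X)
      rw [hX, hZcard] at h
      have h' : p ^ (n + 1 + 2) = p ^ (n + 2) * p := by ring
      rw [h'] at h
      exact (Nat.eq_of_mul_eq_mul_right hp.out.pos h).symm
    have hZN : Subgroup.center X ≤ Subgroup.normalizer (A : Set X) := hZA.trans hAN
    have hNbar : Nat.card ↥((Subgroup.normalizer (A : Set X)).map
        (QuotientGroup.mk' (Subgroup.center X))) = p ^ 2 := by
      have h := card_map_mk'_center (Subgroup.normalizer (A : Set X)) hZN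
      rw [hNcard, hZcard] at h
      have h' : p ^ 3 = p * p ^ 2 := by ring
      rw [h'] at h
      exact (Nat.eq_of_mul_eq_mul_left hp.out.pos h).symm
    have hself := centralizer_map_mk'_le (Subgroup.normalizer (A : Set X)) (by
      intro x hx
      rw [Subgroup.mem_normalizer_iff]
      intro a
      constructor
      · intro ha
        have h1 := hx a (hAN ha)
        have h2 : x * a * x⁻¹ = (x * a * x⁻¹ * a⁻¹) * a := by group
        rw [h2]
        exact A.mul_mem (hZA h1) ha
      · intro ha'
        obtain ⟨a', ha'def⟩ : ∃ a', a' = x * a * x⁻¹ := ⟨_, rfl⟩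
        rw [← ha'def] at ha'
        have h1 := hx a' (hAN ha')
        obtain ⟨z, hzdef⟩ : ∃ z, z = x * a' * x⁻¹ * a'⁻¹ := ⟨_, rfl⟩
        rw [← hzdef] at h1
        have hz := Subgroup.mem_center_iff.mp h1 x⁻¹
        have e1 : z * a' = x * a' * x⁻¹ := by rw [hzdef]; group
        have e0 : x⁻¹ * a' * x = a := by rw [ha'def]; group
        have e2 : a' = z * a := by
          calc a' = x⁻¹ * (x * a' * x⁻¹) * x := by group
            _ = x⁻¹ * (z * a') * x := by rw [e1]
            _ = (x⁻¹ * z) * (a' * x) := by group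
            _ = (z * x⁻¹) * (a' * x) := by rw [hz]
            _ = z * (x⁻¹ * a' * x) := by group
            _ = z * a := by rw [e0]
        have e3 : a = z⁻¹ * a' := by rw [e2]; group
        rw [e3]
        exact A.mul_mem (A.inv_mem (hZA h1)) ha')
    have hcl := ih (X ⧸ Subgroup.center X) hXq _ hNbar hself
    rw [Group.nilpotencyClass_eq_quotient_center_plus_one, hcl]

theorem comm_of_card_dvd_prime_sq {G : Type*} [Group G] [Finite G] (h : Nat.card G ∣ p ^ 2) :
    ∀ a b : G, a * b = b * a := by
  obtain ⟨k, hk2, hk⟩ := (Nat.dvd_prime_pow hp.out).mp h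
  intro a b
  interval_cases k
  · rw [pow_zero] at hk
    have : Subsingleton G := (Nat.card_eq_one_iff_unique.mp hk).1
    rw [Subsingleton.elim a b]
  · rw [pow_one] at hk
    have hc : IsCyclic G := isCyclic_of_prime_card hk
    letI := IsCyclic.commGroup (α := G)
    exact mul_comm a b
  · exact (IsPGroup.isMulCommutative_of_card_eq_prime_sq hk).is_comm.comm a b

omit [Finite X] hp in
/-- the commutator map `x ↦ [x, b]` as a homomorphism into the centre -/
theorem exists_commHom (T : Subgroup X) (b : X)
    (hb : ∀ x ∈ T, x * b * x⁻¹ * b⁻¹ ∈ Subgroup.center X) :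
    ∃ f : ↥T →* ↥(Subgroup.center X), ∀ x : ↥T, ((f x : ↥(Subgroup.center X)) : X) =
      (x : X) * b * (x : X)⁻¹ * b⁻¹ := by
  refine ⟨{ toFun := fun x => ⟨(x : X) * b * (x : X)⁻¹ * b⁻¹, hb x x.2⟩
            map_one' := by apply Subtype.ext; simp
            map_mul' := ?_ }, fun x => rfl⟩
  intro x y
  apply Subtype.ext
  show ((x * y : ↥T) : X) * b * ((x * y : ↥T) : X)⁻¹ * b⁻¹ =
    ((x : X) * b * (x : X)⁻¹ * b⁻¹) * ((y : X) * b * (y : X)⁻¹ * b⁻¹)
  have hz := Subgroup.mem_center_iff.mp (hb y y.2)
  rw [Subgroup.coe_mul]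
  have e1 : (y : X) * b * (y : X)⁻¹ = ((y : X) * b * (y : X)⁻¹ * b⁻¹) * b := by group
  calc (x : X) * (y : X) * b * ((x : X) * (y : X))⁻¹ * b⁻¹
      = (x : X) * ((y : X) * b * (y : X)⁻¹) * (x : X)⁻¹ * b⁻¹ := by group
    _ = (x : X) * (((y : X) * b * (y : X)⁻¹ * b⁻¹) * b) * (x : X)⁻¹ * b⁻¹ := by rw [← e1]
    _ = ((x : X) * ((y : X) * b * (y : X)⁻¹ * b⁻¹)) * (b * (x : X)⁻¹ * b⁻¹) := by group
    _ = (((y : X) * b * (y : X)⁻¹ * b⁻¹) * (x : X)) * (b * (x : X)⁻¹ * b⁻¹) := by rw [hz (x : X)]
    _ = ((y : X) * b * (y : X)⁻¹ * b⁻¹) * ((x : X) * b * (x : X)⁻¹ * b⁻¹) := by group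
    _ = ((x : X) * b * (x : X)⁻¹ * b⁻¹) * ((y : X) * b * (y : X)⁻¹ * b⁻¹) :=
        (hz _).symm

/-- A `p`-group containing a nonabelian subgroup `B` of order `p³` with `C(B) ≤ B` has maximal
class. -/
theorem maxclass_of_selfcent_cube (m : ℕ) (hX : Nat.card X = p ^ (m + 3))
    (B : Subgroup X) (hB : Nat.card ↥B = p ^ 3) (hBna : ¬ IsMulCommutative ↥B)
    (hC : Subgroup.centralizer (B : Set X) ≤ B) : Group.nilpotencyClass X = m + 2 := by
  have hp1 : 1 < p := hp.out.one_lt
  have hP : IsPGroup p X := IsPGroup.of_card hX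
  haveI : Nontrivial X := by
    rw [← Finite.one_lt_card_iff_nontrivial, hX]; exact Nat.one_lt_pow (by omega) hp1
  haveI : Group.IsNilpotent X := hP.isNilpotent
  have hZK : Subgroup.center X ≤ Subgroup.centralizer (B : Set X) := Subgroup.center_le_centralizer _
  have hZB : Subgroup.center X ≤ B := hZK.trans hC
  have hZne : Subgroup.center X ≠ ⊥ := by
    haveI := hP.center_nontrivial
    exact (Subgroup.nontrivial_iff_ne_bot _).mp inferInstance
  -- two non-commuting elements of B
  obtain ⟨b₁, hb₁, b₂, hb₂, hne⟩ : ∃ b₁ ∈ B, ∃ b₂ ∈ B, b₁ * b₂ ≠ b₂ * b₁ := by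
    by_contra hcon
    push Not at hcon
    apply hBna
    exact ⟨⟨fun a b => Subtype.ext (hcon a a.2 b b.2)⟩⟩
  -- they generate B
  have hgen : Subgroup.closure ({b₁, b₂} : Set X) = B := by
    have hle : Subgroup.closure ({b₁, b₂} : Set X) ≤ B := by
      rw [Subgroup.closure_le]
      intro x hx
      rcases hx with rfl | rfl
      · exact hb₁
      · exact hb₂
    apply Subgroup.eq_of_le_of_card_ge hle
    by_contra hlt
    push Not at hlt
    have hdvd : Nat.card ↥(Subgroup.closure ({b₁, b₂} : Set X)) ∣ p ^ 3 := by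
      rw [← hB]; exact Subgroup.card_dvd_of_le hle
    obtain ⟨k, hk3, hk⟩ := (Nat.dvd_prime_pow hp.out).mp hdvd
    rw [hk, hB] at hlt
    have hk2 : k < 3 := (Nat.pow_lt_pow_iff_right hp1).mp hlt
    have hdvd2 : Nat.card ↥(Subgroup.closure ({b₁, b₂} : Set X)) ∣ p ^ 2 := by
      rw [hk]; exact pow_dvd_pow p (by omega)
    have hcomm := comm_of_card_dvd_prime_sq hdvd2
      ⟨b₁, Subgroup.subset_closure (by simp)⟩ ⟨b₂, Subgroup.subset_closure (by simp)⟩
    exact hne (congrArg Subtype.val hcomm)
  -- the centralizer of B has order p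
  have hKcard : Nat.card ↥(Subgroup.centralizer (B : Set X)) = p := by
    obtain ⟨k, hk⟩ := (hP.to_subgroup (Subgroup.centralizer (B : Set X))).exists_card_eq
    have hk0 : k ≠ 0 := by
      intro h
      rw [h, pow_zero] at hk
      have := Subgroup.card_eq_one.mp hk
      rw [this] at hZK
      exact hZne (le_bot_iff.mp hZK)
    have hk1 : k ≤ 1 := by
      by_contra hk2
      push Not at hk2
      -- then B / C(B) is cyclic and B is abelian
      apply hBna
      have hKn : ((Subgroup.centralizer (B : Set X)).subgroupOf B).Normal := by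
        constructor
        intro x hx g
        rw [Subgroup.mem_subgroupOf] at hx ⊢
        rw [Subgroup.mem_centralizer_iff] at hx ⊢
        intro b hb
        have h1 := hx ((g : X)⁻¹ * b * (g : X)) (B.mul_mem (B.mul_mem (B.inv_mem g.2) hb) g.2)
        simp only [Subgroup.coe_mul, Subgroup.coe_inv]
        calc b * ((g : X) * (x : X) * (g : X)⁻¹)
            = (g : X) * (((g : X)⁻¹ * b * (g : X)) * (x : X)) * (g : X)⁻¹ := by group
          _ = (g : X) * ((x : X) * ((g : X)⁻¹ * b * (g : X))) * (g : X)⁻¹ := by rw [h1]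
          _ = (g : X) * (x : X) * (g : X)⁻¹ * b := by group
      have hcardK' : Nat.card ↥((Subgroup.centralizer (B : Set X)).subgroupOf B) = p ^ k := by
        rw [Nat.card_congr (Subgroup.subgroupOfEquivOfLe hC).toEquiv, hk]
      have hq := Subgroup.card_eq_card_quotient_mul_card_subgroup
        ((Subgroup.centralizer (B : Set X)).subgroupOf B)
      rw [hB, hcardK'] at hq
      have hqd : Nat.card (↥B ⧸ (Subgroup.centralizer (B : Set X)).subgroupOf B) ∣ p := by
        have h3 : p ^ 3 = p ^ (3 - k) * p ^ k := by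
          rw [← pow_add]; congr 1
          have : k ≤ 3 := by
            have := Subgroup.card_le_of_le hC
            rw [hk, hB] at this
            exact (Nat.pow_le_pow_iff_right hp1).mp this
          omega
        rw [h3] at hq
        have h4 := Nat.eq_of_mul_eq_mul_right (by positivity) hq
        rw [← h4]
        have : p ^ (3 - k) ∣ p ^ 1 := pow_dvd_pow p (by omega)
        rwa [pow_one] at this
      have hcyc : IsCyclic (↥B ⧸ (Subgroup.centralizer (B : Set X)).subgroupOf B) :=
        isCyclic_of_card_dvd_prime hqd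
      have hker : (QuotientGroup.mk' ((Subgroup.centralizer (B : Set X)).subgroupOf B)).ker ≤
          Subgroup.center ↥B := by
        rw [QuotientGroup.ker_mk']
        intro x hx
        rw [Subgroup.mem_subgroupOf, Subgroup.mem_centralizer_iff] at hx
        rw [Subgroup.mem_center_iff]
        intro g
        apply Subtype.ext
        exact hx g g.2
      exact ⟨⟨commutative_of_cyclic_center_quotient
        (QuotientGroup.mk' ((Subgroup.centralizer (B : Set X)).subgroupOf B)) hker⟩⟩
    have : k = 1 := by omega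
    rw [hk, this, pow_one]
  have hZeq : Subgroup.center X = Subgroup.centralizer (B : Set X) := by
    apply Subgroup.eq_of_le_of_card_ge hZK
    rw [hKcard]
    obtain ⟨k, hk⟩ := (hP.to_subgroup (Subgroup.center X)).exists_card_eq
    have hk0 : k ≠ 0 := by
      intro h
      rw [h, pow_zero] at hk
      exact hZne (Subgroup.card_eq_one.mp hk)
    rw [hk]
    calc p = p ^ 1 := (pow_one p).symm
      _ ≤ p ^ k := Nat.pow_le_pow_right (by omega) (by omega)
  have hZcard : Nat.card ↥(Subgroup.center X) = p := by rw [hZeq, hKcard]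
  -- the image of B in X / Z(X)
  have hBbar : Nat.card ↥(B.map (QuotientGroup.mk' (Subgroup.center X))) = p ^ 2 := by
    have h := card_map_mk'_center B hZB
    rw [hB, hZcard] at h
    have h' : p ^ 3 = p * p ^ 2 := by ring
    rw [h'] at h
    exact (Nat.eq_of_mul_eq_mul_left hp.out.pos h).symm
  have hXq : Nat.card (X ⧸ Subgroup.center X) = p ^ (m + 2) := by
    have h := Subgroup.card_eq_card_quotient_mul_card_subgroup (Subgroup.center X)
    rw [hX, hZcard] at h
    have h' : p ^ (m + 3) = p ^ (m + 2) * p := by ring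
    rw [h'] at h
    exact (Nat.eq_of_mul_eq_mul_right hp.out.pos h).symm
  -- commutators of B lie in Z(X)
  have hBcomm : ∀ b ∈ B, ∀ b' ∈ B, b * b' * b⁻¹ * b'⁻¹ ∈ Subgroup.center X := by
    intro b hb b' hb'
    have hc := comm_of_card_dvd_prime_sq (p := p)
      (G := ↥(B.map (QuotientGroup.mk' (Subgroup.center X)))) (by rw [hBbar])
      ⟨_, Subgroup.mem_map_of_mem _ hb⟩ ⟨_, Subgroup.mem_map_of_mem _ hb'⟩
    have hc' := congrArg Subtype.val hc
    simp only [Subgroup.coe_mul] at hc'
    have h2 : (QuotientGroup.mk' (Subgroup.center X)) (b * b' * b⁻¹ * b'⁻¹) = 1 := by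
      rw [map_mul, map_mul, map_mul, map_inv, map_inv, hc']
      group
    rw [QuotientGroup.mk'_apply, QuotientGroup.eq_one_iff] at h2
    exact h2
  -- the subgroup T of elements acting trivially on B modulo Z(X)
  let T : Subgroup X :=
    { carrier := {x | ∀ b ∈ B, x * b * x⁻¹ * b⁻¹ ∈ Subgroup.center X}
      one_mem' := by
        intro b _
        have : (1 : X) * b * 1⁻¹ * b⁻¹ = 1 := by group
        rw [this]; exact Subgroup.one_mem _
      mul_mem' := by
        intro x y hx hy b hb
        have e : x * y * b * (x * y)⁻¹ * b⁻¹ =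
            (x * (y * b * y⁻¹ * b⁻¹) * x⁻¹) * (x * b * x⁻¹ * b⁻¹) := by group
        rw [e]
        exact Subgroup.mul_mem _ ((inferInstance : (Subgroup.center X).Normal).conj_mem _ (hy b hb) x)
          (hx b hb)
      inv_mem' := by
        intro x hx b hb
        have e : x⁻¹ * b * x⁻¹⁻¹ * b⁻¹ = x⁻¹ * (x * b * x⁻¹ * b⁻¹)⁻¹ * x⁻¹⁻¹ := by group
        rw [e]
        exact (inferInstance : (Subgroup.center X).Normal).conj_mem _
          (Subgroup.inv_mem _ (hx b hb)) x⁻¹ }
  have hTmem : ∀ x, x ∈ T ↔ ∀ b ∈ B, x * b * x⁻¹ * b⁻¹ ∈ Subgroup.center X := fun x => Iff.rfl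
  have hBT : B ≤ T := fun b hb => (hTmem b).mpr (fun b' hb' => hBcomm b hb b' hb')
  obtain ⟨f₁, hf₁⟩ := exists_commHom T b₁ (fun x hx => (hTmem x).mp hx b₁ hb₁)
  obtain ⟨f₂, hf₂⟩ := exists_commHom T b₂ (fun x hx => (hTmem x).mp hx b₂ hb₂)
  have hker : Nat.card ↥(f₁.prod f₂).ker ≤ p := by
    rw [← hKcard]
    have hmem : ∀ x : ↥(f₁.prod f₂).ker, ((x : ↥T) : X) ∈ Subgroup.centralizer (B : Set X) := by
      intro x
      have hx := x.2
      rw [MonoidHom.mem_ker, MonoidHom.prod_apply, Prod.mk_eq_one] at hx
      have h1 := congrArg Subtype.val hx.1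
      have h2 := congrArg Subtype.val hx.2
      rw [hf₁] at h1
      rw [hf₂] at h2
      simp only [Subgroup.coe_one] at h1 h2
      have c1 : ((x : ↥T) : X) * b₁ = b₁ * ((x : ↥T) : X) := by
        have := mul_inv_eq_one.mp h1
        exact mul_inv_eq_iff_eq_mul.mp this
      have c2 : ((x : ↥T) : X) * b₂ = b₂ * ((x : ↥T) : X) := by
        have := mul_inv_eq_one.mp h2
        exact mul_inv_eq_iff_eq_mul.mp this
      have hle : B ≤ Subgroup.centralizer ({((x : ↥T) : X)} : Set X) := by
        rw [← hgen, Subgroup.closure_le]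
        intro y hy
        rcases hy with rfl | rfl
        · exact Subgroup.mem_centralizer_singleton_iff.mpr c1.symm
        · exact Subgroup.mem_centralizer_singleton_iff.mpr c2.symm
      rw [Subgroup.mem_centralizer_iff]
      intro b hb
      exact (Subgroup.mem_centralizer_singleton_iff.mp (hle hb))
    apply Nat.card_le_card_of_injective
      (fun x : ↥(f₁.prod f₂).ker => (⟨((x : ↥T) : X), hmem x⟩ : ↥(Subgroup.centralizer (B : Set X))))
    intro x y hxy
    have h := congrArg Subtype.val hxy
    exact Subtype.ext (Subtype.ext h)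
  have hrange : Nat.card ↥(f₁.prod f₂).range ≤ p ^ 2 := by
    have h1 : Nat.card ↥(f₁.prod f₂).range ≤
        Nat.card (↥(Subgroup.center X) × ↥(Subgroup.center X)) :=
      Nat.card_le_card_of_injective _ Subtype.val_injective
    rw [Nat.card_prod, hZcard] at h1
    calc _ ≤ p * p := h1
      _ = p ^ 2 := by ring
  have hTcard : Nat.card ↥T ≤ p ^ 3 := by
    have h1 := Subgroup.card_mul_index (f₁.prod f₂).ker
    rw [Subgroup.index_ker] at h1
    rw [← h1]
    calc _ ≤ p * p ^ 2 := Nat.mul_le_mul hker hrange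
      _ = p ^ 3 := by ring
  have hTB : T = B := (Subgroup.eq_of_le_of_card_ge hBT (by rw [hB]; exact hTcard)).symm
  have hself := centralizer_map_mk'_le B (by
    intro x hx
    rw [← hTB]
    exact (hTmem x).mpr hx)
  have hcl := suzuki_maxclass (p := p) m (X ⧸ Subgroup.center X) hXq _ hBbar hself
  rw [Group.nilpotencyClass_eq_quotient_center_plus_one, hcl]

end MaxClass

end Cfsg.Agent.helper7
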