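import Mathlib
import Cfsg.Agent.Lib_helper17_N4a
import Cfsg.Agent.Lib_helper17_MaxClass2
import Cfsg.Agent.S4143
import Cfsg.Agent.Lib_helper23_Hall

set_option autoImplicit false
set_option maxHeartbeats 1000000

/-!
helper17: a noncyclic `2`-group not of maximal class has a normal four-subgroup (for S4157).
-/

namespace Cfsg.Agent.helper17.N4

universe u

/-- Case A: the quotient by a central involution is cyclic. -/
theorem nf_of_cyclic_quot {G : Type*} [Group G] [Finite G] (hG : IsPGroup 2 G) {z : G}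
    (hzc : z ∈ Subgroup.center G) (hz2 : z ^ 2 = 1) (hz1 : z ≠ 1)
    [hN : (Subgroup.zpowers z).Normal] (hcyc : IsCyclic (G ⧸ Subgroup.zpowers z))
    (hnc : ¬ IsCyclic G) : ∃ a : G, NF z a := by
  have hcomm : ∀ a b : G, a * b = b * a := by
    haveI := hcyc
    have h := MonoidHom.isMulCommutative_of_isCyclic_of_ker_le_center
      (QuotientGroup.mk' (Subgroup.zpowers z))
      (by rw [QuotientGroup.ker_mk']; exact Subgroup.zpowers_le.mpr hzc)
    intro a b
    exact h.is_comm.comm a b
  obtain ⟨q, hq⟩ := hcyc.exists_generator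
  obtain ⟨g, rfl⟩ := QuotientGroup.mk_surjective q
  have hdec : ∀ x : G, ∃ k : ℤ, (g ^ k)⁻¹ * x ∈ Subgroup.zpowers z := by
    intro x
    obtain ⟨k, hk⟩ := Subgroup.mem_zpowers_iff.1 (hq (x : G ⧸ Subgroup.zpowers z))
    exact ⟨k, QuotientGroup.eq.1 (by rw [QuotientGroup.mk_zpow]; exact hk)⟩
  have hzg : z ∉ Subgroup.zpowers g := by
    intro hz
    apply hnc
    refine ⟨⟨g, fun x => ?_⟩⟩
    obtain ⟨k, hk⟩ := hdec x
    have h3 : (g ^ k)⁻¹ * x ∈ Subgroup.zpowers g := (Subgroup.zpowers_le.mpr hz) hk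
    have h4 : x = g ^ k * ((g ^ k)⁻¹ * x) := by group
    rw [h4]
    exact Subgroup.mul_mem _ (Subgroup.zpow_mem _ (Subgroup.mem_zpowers g) k) h3
  have hg1 : g ≠ 1 := by
    intro h
    apply hnc
    refine ⟨⟨z, fun x => ?_⟩⟩
    obtain ⟨k, hk⟩ := hdec x
    rw [h, one_zpow, inv_one, one_mul] at hk
    exact hk
  obtain ⟨k, hk2, hk1⟩ := exists_pow_invol hG g hg1
  refine ⟨g ^ k, hzc, hz2, hz1, hk2, hk1, ?_, ?_⟩
  · intro h
    apply hzg
    rw [← h]
    exact Subgroup.pow_mem _ (Subgroup.mem_zpowers g) k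
  · intro x
    left
    rw [hcomm x, mul_inv_cancel_right]

/-- Case B: the quotient has maximal class. -/
theorem nf_caseB {G : Type*} [Group G] [Finite G] (n : ℕ) (hn : 3 ≤ n)
    (hX : Nat.card G = 2 ^ (n + 1))
    {z : G} (hzc : z ∈ Subgroup.center G) (hz2 : z ^ 2 = 1) (hz1 : z ≠ 1)
    [hN : (Subgroup.zpowers z).Normal]
    (hidx : (commutator (G ⧸ Subgroup.zpowers z)).index = 4) :
    (∃ a : G, NF z a) ∨ (commutator G).index = 4 := by
  have hG : IsPGroup 2 G := IsPGroup.of_card hX
  have hsurj : Function.Surjective (QuotientGroup.mk' (Subgroup.zpowers z)) :=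
    QuotientGroup.mk'_surjective _
  have hmap : commutator (G ⧸ Subgroup.zpowers z)
      = (commutator G).map (QuotientGroup.mk' (Subgroup.zpowers z)) := by
    rw [commutator_def, commutator_def, Subgroup.map_commutator,
      Subgroup.map_top_of_surjective _ hsurj]
  by_cases hz : z ∈ commutator G
  · right
    rw [hmap, Subgroup.index_map_eq _ hsurj
      (by rw [QuotientGroup.ker_mk']; exact Subgroup.zpowers_le.mpr hz)] at hidx
    exact hidx
  · left
    have hne : commutator G ≠ ⊥ := by
      intro h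
      rw [hmap, h, Subgroup.map_bot, Subgroup.index_bot] at hidx
      have h1 := Subgroup.card_eq_card_quotient_mul_card_subgroup (Subgroup.zpowers z)
      rw [hX, hidx, Nat.card_zpowers, orderOf_eq_prime hz2 hz1] at h1
      have h2 : 2 ^ (n + 1) ≥ 2 ^ 4 := Nat.pow_le_pow_right (by norm_num) (by omega)
      omega
    obtain ⟨d, hdM, hdc, hd2, hd1⟩ := exists_central_invol hG (commutator G) hne
    refine ⟨d, hzc, hz2, hz1, hd2, hd1, ?_, ?_⟩
    · rintro rfl
      exact hz hdM
    · intro g
      left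
      rw [Subgroup.mem_center_iff.mp hdc g, mul_inv_cancel_right]

theorem conj_of_commuting {G : Type*} [Group G] {z : G} (hzc : z ∈ Subgroup.center G)
    (hz2 : z ^ 2 = 1) (hz1 : z ≠ 1)
    [hN : (Subgroup.zpowers z).Normal] (t r1 : G) (ht2 : t ^ 2 = 1) (hr1sq : r1 ^ 2 = z)
    (hcomm : t * r1 = r1 * t) (g : G)
    (hconj : (QuotientGroup.mk' (Subgroup.zpowers z)) (g * t * g⁻¹)
        = QuotientGroup.mk' (Subgroup.zpowers z) t ∨
      (QuotientGroup.mk' (Subgroup.zpowers z)) (g * t * g⁻¹)
        = QuotientGroup.mk' (Subgroup.zpowers z) (t * r1)) :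
    g * t * g⁻¹ = t ∨ g * t * g⁻¹ = t * z := by
  have hsq : (g * t * g⁻¹) ^ 2 = 1 := by
    have e : (g * t * g⁻¹) ^ 2 = g * (t * t) * g⁻¹ := by simp only [sq]; group
    rw [e, mul_self_of_sq ht2, mul_one, mul_inv_cancel]
  have hzcomm := Subgroup.mem_center_iff.mp hzc
  rcases hconj with h | h
  · rw [QuotientGroup.mk'_apply, QuotientGroup.mk'_apply, eq_comm, QuotientGroup.eq,
      mem_zpowers_iff_of_sq hz2] at h
    rcases h with h | h
    · left
      rw [← mul_right_inj t⁻¹, h, inv_mul_cancel]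
    · right
      rw [← mul_right_inj t⁻¹, h, inv_mul_cancel_left]
  · exfalso
    rw [QuotientGroup.mk'_apply, QuotientGroup.mk'_apply, eq_comm, QuotientGroup.eq,
      mem_zpowers_iff_of_sq hz2] at h
    have htr : (t * r1) ^ 2 = z := by
      have e : (t * r1) ^ 2 = t * (r1 * t) * r1 := by simp only [sq]; group
      rw [e, ← hcomm]
      have e2 : t * (t * r1) * r1 = (t * t) * (r1 ^ 2) := by simp only [sq]; group
      rw [e2, mul_self_of_sq ht2, one_mul, hr1sq]
    rcases h with h | h
    · have e : g * t * g⁻¹ = t * r1 := by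
        rw [← mul_right_inj (t * r1)⁻¹, h, inv_mul_cancel]
      rw [e, htr] at hsq
      exact hz1 hsq
    · have e : g * t * g⁻¹ = t * r1 * z := by
        rw [← mul_right_inj (t * r1)⁻¹, h, inv_mul_cancel_left]
      rw [e] at hsq
      have e3 : (t * r1 * z) ^ 2 = z := by
        have e4 : (t * r1 * z) ^ 2 = (t * r1) * (z * (t * r1)) * z := by simp only [sq]; group
        rw [e4, ← hzcomm (t * r1)]
        have e5 : t * r1 * (t * r1 * z) * z = (t * r1) ^ 2 * (z * z) := by simp only [sq]; group
        rw [e5, htr, mul_self_of_sq hz2, mul_one]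
      rw [e3] at hsq
      exact hz1 hsq

/-- Case C: the quotient has a normal four-subgroup. -/
theorem nf_caseC {G : Type u} [Group G] [Finite G] (n : ℕ) (hX : Nat.card G = 2 ^ (n + 1))
    {z : G} (hzc : z ∈ Subgroup.center G) (hz2 : z ^ 2 = 1) (hz1 : z ≠ 1)
    [hN : (Subgroup.zpowers z).Normal]
    (z' a' : G ⧸ Subgroup.zpowers z) (hnf : NF z' a') :
    (∃ a : G, NF z a) ∨ (3 ≤ n + 1 ∧ (commutator G).index = 4) := by
  classical
  by_contra hcon
  rw [not_or] at hcon
  obtain ⟨hno, hidx⟩ := hcon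
  obtain ⟨hz'c, hz'2, hz'1, ha'2, ha'1, ha'z', ha'conj⟩ := hnf
  have hG : IsPGroup 2 G := IsPGroup.of_card hX
  have hsurj : Function.Surjective (QuotientGroup.mk' (Subgroup.zpowers z)) :=
    QuotientGroup.mk'_surjective _
  obtain ⟨r1, hr1⟩ := hsurj z'
  obtain ⟨r2, hr2⟩ := hsurj a'
  have memN : ∀ x, x ∈ Subgroup.zpowers z ↔ x = 1 ∨ x = z := fun x => mem_zpowers_iff_of_sq hz2
  have kerπ : ∀ x, QuotientGroup.mk' (Subgroup.zpowers z) x = 1 ↔ x ∈ Subgroup.zpowers z := by
    intro x
    rw [QuotientGroup.mk'_apply, QuotientGroup.eq_one_iff]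
  have hzcomm := Subgroup.mem_center_iff.mp hzc
  have hz'comm := Subgroup.mem_center_iff.mp hz'c
  have hz'inv : z'⁻¹ = z' := inv_eq_self_of_sq hz'2
  -- a `z`-central involution outside `N` is impossible
  have mkNF : ∀ t : G, t ^ 2 = 1 → t ∉ Subgroup.zpowers z →
      (∀ g, g * t * g⁻¹ = t ∨ g * t * g⁻¹ = t * z) → False := by
    intro t ht2 htN htc
    apply hno
    refine ⟨t, hzc, hz2, hz1, ht2, ?_, ?_, htc⟩
    · rintro rfl
      exact htN (Subgroup.one_mem _)
    · rintro rfl
      exact htN (Subgroup.mem_zpowers _)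
  have hr1c : ∀ g, g * r1 * g⁻¹ = r1 ∨ g * r1 * g⁻¹ = r1 * z :=
    lift_central hz2 hzc r1 (by rw [hr1]; exact hz'c)
  have hr1N : r1 ∉ Subgroup.zpowers z := by
    intro h
    rw [← kerπ, hr1] at h
    exact hz'1 h
  have hr1sq : r1 ^ 2 = z := by
    have h1 : r1 ^ 2 ∈ Subgroup.zpowers z := by rw [← kerπ, map_pow, hr1, hz'2]
    rcases (memN _).mp h1 with h | h
    · exact absurd (mkNF r1 h hr1N hr1c) id
    · exact h
  have hr2N : r2 ∉ Subgroup.zpowers z := by
    intro h
    rw [← kerπ, hr2] at h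
    exact ha'1 h
  have hr2sq : r2 ^ 2 = 1 ∨ r2 ^ 2 = z := by
    have h1 : r2 ^ 2 ∈ Subgroup.zpowers z := by rw [← kerπ, map_pow, hr2, ha'2]
    exact (memN _).mp h1
  by_cases hcomm : r1 * r2 = r2 * r1
  · -- the abelian case
    rcases hr2sq with h2 | h2
    · -- `t = r2`
      apply mkNF r2 h2 hr2N
      intro g
      apply conj_of_commuting hzc hz2 hz1 r2 r1 h2 hr1sq hcomm.symm g
      have e : QuotientGroup.mk' (Subgroup.zpowers z) (g * r2 * g⁻¹)
          = QuotientGroup.mk' (Subgroup.zpowers z) g * a'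
            * (QuotientGroup.mk' (Subgroup.zpowers z) g)⁻¹ := by
        rw [map_mul, map_mul, map_inv, hr2]
      rw [e, map_mul, hr1, hr2]
      exact ha'conj _
    · -- `t = r1 * r2`
      have ht2 : (r1 * r2) ^ 2 = 1 := by
        have e : (r1 * r2) ^ 2 = r1 * (r2 * r1) * r2 := by simp only [sq]; group
        rw [e, ← hcomm]
        have e2 : r1 * (r1 * r2) * r2 = r1 ^ 2 * r2 ^ 2 := by simp only [sq]; group
        rw [e2, hr1sq, h2, mul_self_of_sq hz2]
      have htN : r1 * r2 ∉ Subgroup.zpowers z := by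
        intro h
        rw [← kerπ, map_mul, hr1, hr2] at h
        apply ha'z'
        rw [← hz'inv]
        exact eq_inv_of_mul_eq_one_right h
      have htc : r1 * r2 * r1 = r1 * (r1 * r2) := by
        rw [mul_assoc, ← hcomm]
      apply mkNF (r1 * r2) ht2 htN
      intro g
      apply conj_of_commuting hzc hz2 hz1 (r1 * r2) r1 ht2 hr1sq htc g
      have e : QuotientGroup.mk' (Subgroup.zpowers z) (g * (r1 * r2) * g⁻¹)
          = z' * (QuotientGroup.mk' (Subgroup.zpowers z) g * a'
            * (QuotientGroup.mk' (Subgroup.zpowers z) g)⁻¹) := by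
        rw [map_mul, map_mul, map_mul, map_inv, hr1, hr2, ← mul_assoc, hz'comm]
        group
      rw [e]
      simp only [map_mul, hr1, hr2]
      rcases ha'conj (QuotientGroup.mk' (Subgroup.zpowers z) g) with h | h
      · left
        rw [h]
      · right
        rw [h, mul_assoc]
  · -- the nonabelian case
    set Rb : Subgroup (G ⧸ Subgroup.zpowers z) := four z' a' hz'2 ha'2 (hz'comm a').symm with hRb
    have hRbn : Rb.Normal := by
      constructor
      intro x hx g
      rw [hRb, mem_four] at hx ⊢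
      rcases hx with hx | hx | hx | hx <;> rw [hx]
      · left
        rw [mul_one, mul_inv_cancel]
      · right; left
        rw [hz'comm g, mul_inv_cancel_right]
      · rcases ha'conj g with h | h
        · right; right; left
          exact h
        · right; right; right
          rw [h, hz'comm a']
      · have e : g * (z' * a') * g⁻¹ = z' * (g * a' * g⁻¹) := by
          rw [← mul_assoc, hz'comm g]
          group
        rcases ha'conj g with h | h
        · right; right; right
          rw [e, h]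
        · right; right; left
          rw [e, h, hz'comm a', ← mul_assoc, mul_self_of_sq hz'2, one_mul]
    set R : Subgroup G := Rb.comap (QuotientGroup.mk' (Subgroup.zpowers z)) with hR
    haveI hRn : R.Normal := hRbn.comap _
    have hRcard : Nat.card R = 2 ^ 3 := by
      rw [hR, Cfsg.Agent.helper23.card_comap_mk', Nat.card_zpowers, orderOf_eq_prime hz2 hz1,
        hRb, card_four hz'2 ha'2 (hz'comm a').symm hz'1 ha'1 (Ne.symm ha'z')]
      norm_num
    have hr1R : r1 ∈ R := by
      show QuotientGroup.mk' (Subgroup.zpowers z) r1 ∈ Rb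
      rw [hr1, hRb, mem_four]
      right; left; rfl
    have hr2R : r2 ∈ R := by
      show QuotientGroup.mk' (Subgroup.zpowers z) r2 ∈ Rb
      rw [hr2, hRb, mem_four]
      right; right; left; rfl
    have hNR : Subgroup.zpowers z ≤ R := by
      intro x hx
      show QuotientGroup.mk' (Subgroup.zpowers z) x ∈ Rb
      rw [(kerπ x).mpr hx]
      exact Subgroup.one_mem _
    have hRna : ¬ IsMulCommutative R := by
      intro h
      apply hcomm
      have := h.is_comm.comm (⟨r1, hr1R⟩ : R) ⟨r2, hr2R⟩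
      exact congrArg Subtype.val this
    by_cases hC : Subgroup.centralizer (R : Set G) ≤ R
    · apply hidx
      haveI : Fact (Nat.Prime 2) := ⟨Nat.prime_two⟩
      have hc := Cfsg.Agent.S4143.result (p := 2) (n + 1) hX R hRcard hRna hC
      have h3 : 3 ≤ n + 1 := by
        have h := Subgroup.card_subgroup_dvd_card R
        rw [hRcard, hX] at h
        exact (Nat.pow_dvd_pow_iff_le_right (by norm_num : 1 < 2)).mp h
      exact ⟨h3, (Cfsg.Agent.helper17.MC2.index_commutator_of_class (n + 1) G h3 hX hc).1⟩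
    · obtain ⟨c, hcC, hcR⟩ := SetLike.not_le_iff_exists.mp hC
      haveI hCn : (Subgroup.centralizer (R : Set G)).Normal := Subgroup.normal_centralizer
      set Cb : Subgroup (G ⧸ Subgroup.zpowers z) :=
        (Subgroup.centralizer (R : Set G)).map (QuotientGroup.mk' (Subgroup.zpowers z)) with hCb
      haveI hCbn : Cb.Normal := hCn.map _ hsurj
      have hCbne : Cb ≠ ⊥ := by
        intro h
        have h1 : QuotientGroup.mk' (Subgroup.zpowers z) c ∈ Cb := Subgroup.mem_map_of_mem _ hcC
        rw [h, Subgroup.mem_bot, kerπ] at h1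
        exact hcR (hNR h1)
      obtain ⟨d', hd'M, hd'c, hd'2, hd'1⟩ :=
        exists_central_invol (hG.to_quotient (Subgroup.zpowers z)) Cb hCbne
      obtain ⟨d, hdC, hd⟩ := Subgroup.mem_map.mp hd'M
      have hdc : ∀ g, g * d * g⁻¹ = d ∨ g * d * g⁻¹ = d * z :=
        lift_central hz2 hzc d (by rw [hd]; exact hd'c)
      have hdN : d ∉ Subgroup.zpowers z := by
        intro h
        rw [← kerπ, hd] at h
        exact hd'1 h
      have hdsq : d ^ 2 = z := by
        have h1 : d ^ 2 ∈ Subgroup.zpowers z := by rw [← kerπ, map_pow, hd, hd'2]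
        rcases (memN _).mp h1 with h | h
        · exact absurd (mkNF d h hdN hdc) id
        · exact h
      have hdr1 : r1 * d = d * r1 := Subgroup.mem_centralizer_iff.mp hdC r1 hr1R
      have ht2 : (r1 * d) ^ 2 = 1 := by
        have e : (r1 * d) ^ 2 = r1 * (d * r1) * d := by simp only [sq]; group
        rw [e, ← hdr1]
        have e2 : r1 * (r1 * d) * d = r1 ^ 2 * d ^ 2 := by simp only [sq]; group
        rw [e2, hr1sq, hdsq, mul_self_of_sq hz2]
      have htN : r1 * d ∉ Subgroup.zpowers z := by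
        intro h
        rw [← kerπ, map_mul, hr1, hd] at h
        have h1 : d' = z' := by
          rw [← hz'inv]
          exact eq_inv_of_mul_eq_one_right h
        rw [h1] at hd'M
        obtain ⟨c', hc'C, hc'⟩ := Subgroup.mem_map.mp hd'M
        have h2 : c'⁻¹ * r1 ∈ Subgroup.zpowers z := by
          rw [← kerπ, map_mul, map_inv, hc', hr1, inv_mul_cancel]
        have hNC : Subgroup.zpowers z ≤ Subgroup.centralizer (R : Set G) := by
          rw [Subgroup.zpowers_le]
          exact Subgroup.center_le_centralizer _ hzc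
        have h3 : r1 ∈ Subgroup.centralizer (R : Set G) := by
          have e : r1 = c' * (c'⁻¹ * r1) := by group
          rw [e]
          exact Subgroup.mul_mem _ hc'C (hNC h2)
        exact hcomm (Subgroup.mem_centralizer_iff.mp h3 r2 hr2R).symm
      apply mkNF (r1 * d) ht2 htN
      apply lift_central hz2 hzc (r1 * d)
      rw [map_mul, hr1, hd]
      exact Subgroup.mul_mem _ hz'c hd'c

/-- a noncyclic `2`-group has a normal four-subgroup or is of maximal class. -/
theorem exists_nf_aux : ∀ (n : ℕ) (G : Type u) [Group G] [Finite G], Nat.card G = 2 ^ n →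
    ¬ IsCyclic G → (∃ z a : G, NF z a) ∨ (3 ≤ n ∧ (commutator G).index = 4) := by
  intro n
  induction n with
  | zero =>
    intro G _ _ hX hnc
    exfalso
    apply hnc
    rw [pow_zero] at hX
    haveI : Subsingleton G := (Nat.card_eq_one_iff_unique.mp hX).1
    exact isCyclic_of_subsingleton
  | succ n ih =>
    intro G _ _ hX hnc
    have hG : IsPGroup 2 G := IsPGroup.of_card hX
    haveI : Nontrivial G := by
      rw [← Finite.one_lt_card_iff_nontrivial, hX]
      exact Nat.one_lt_pow (by omega) (by norm_num)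
    obtain ⟨z, -, hzc, hz2, hz1⟩ := exists_central_invol hG ⊤ top_ne_bot
    haveI hN := zpowers_normal_of_central hzc
    have hcardQ : Nat.card (G ⧸ Subgroup.zpowers z) = 2 ^ n := by
      have h1 := Subgroup.card_eq_card_quotient_mul_card_subgroup (Subgroup.zpowers z)
      rw [hX, Nat.card_zpowers, orderOf_eq_prime hz2 hz1, pow_succ] at h1
      exact (Nat.eq_of_mul_eq_mul_right (by norm_num) h1).symm
    by_cases hcyc : IsCyclic (G ⧸ Subgroup.zpowers z)
    · left
      obtain ⟨a, ha⟩ := nf_of_cyclic_quot hG hzc hz2 hz1 hcyc hnc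
      exact ⟨z, a, ha⟩
    · rcases ih (G ⧸ Subgroup.zpowers z) hcardQ hcyc with ⟨z', a', hnf⟩ | ⟨h3, hidx⟩
      · rcases nf_caseC n hX hzc hz2 hz1 z' a' hnf with ⟨a, ha⟩ | ⟨h3, hi⟩
        · left
          exact ⟨z, a, ha⟩
        · right
          exact ⟨h3, hi⟩
      · rcases nf_caseB n h3 hX hzc hz2 hz1 hidx with ⟨a, ha⟩ | hi
        · left
          exact ⟨z, a, ha⟩
        · right
          exact ⟨by omega, hi⟩

end Cfsg.Agent.helper17.N4
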