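import Mathlib

/-! Counting lemmas towards Miller/Kulakoff-type theorems on the number of elements of order
`p ^ s` (helper20).  Blocks lemma, fibration lemma, cyclic subgroups versus generators, and the
congruence between the number of cyclic subgroups of order `p ^ s` of a group and of a Sylow
`p`-subgroup. -/

set_option autoImplicit false
set_option linter.style.haveILetI false

namespace Cfsg.Agent.helper20.Miller

open Pointwise

/-- If a finite set is partitioned into blocks `S x` of size divisible by `d`, then `d` divides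
its size. -/
theorem dvd_ncard_of_blocks {α : Type*} (d : ℕ) (S : α → Set α) :
    ∀ (n : ℕ) (A : Set α), A.Finite → A.ncard = n →
    (∀ x ∈ A, S x ⊆ A) → (∀ x ∈ A, x ∈ S x) → (∀ x ∈ A, ∀ y ∈ S x, S y = S x) →
    (∀ x ∈ A, d ∣ (S x).ncard) → d ∣ n := by
  intro n
  induction n using Nat.strong_induction_on with
  | _ n ih =>
    intro A hA hn h0 h1 h2 h3
    rcases A.eq_empty_or_nonempty with rfl | ⟨x, hx⟩
    · rw [Set.ncard_empty] at hn
      subst hn
      exact dvd_zero d
    · have hB : S x ⊆ A := h0 x hx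
      have hfinB : (S x).Finite := hA.subset hB
      have hpos : 0 < (S x).ncard := (Set.ncard_pos hfinB).mpr ⟨x, h1 x hx⟩
      have hsum : (A \ S x).ncard + (S x).ncard = A.ncard :=
        Set.ncard_sdiff_add_ncard_of_subset hB hA
      have hlt : (A \ S x).ncard < n := by omega
      have key := ih _ hlt (A \ S x) (hA.subset Set.sdiff_subset) rfl ?_ ?_ ?_ ?_
      · rw [← hn, ← hsum]
        exact dvd_add key (h3 x hx)
      · intro y hy z hz
        refine ⟨h0 y hy.1 hz, fun hzx => hy.2 ?_⟩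
        have e1 : S z = S y := h2 y hy.1 z hz
        have e2 : S z = S x := h2 x hx z hzx
        rw [← e2, e1]
        exact h1 y hy.1
      · intro y hy
        exact h1 y hy.1
      · intro y hy z hz
        exact h2 y hy.1 z hz
      · intro y hy
        exact h3 y hy.1

/-- If all fibres of `f` on a finite set `A` have size `k`, then `|A| = k * |f(A)|`. -/
theorem ncard_eq_mul_of_fibers {α β : Type*} (f : α → β) (k : ℕ) :
    ∀ (n : ℕ) (A : Set α), A.Finite → A.ncard = n →
    (∀ a ∈ A, {x | x ∈ A ∧ f x = f a}.ncard = k) → n = k * (f '' A).ncard := by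
  intro n
  induction n using Nat.strong_induction_on with
  | _ n ih =>
    intro A hA hn hk
    rcases A.eq_empty_or_nonempty with rfl | ⟨a, ha⟩
    · rw [Set.ncard_empty] at hn
      subst hn
      simp
    · have hka := hk a ha
      have hFA : {x | x ∈ A ∧ f x = f a} ⊆ A := fun x hx => hx.1
      have hFfin : {x | x ∈ A ∧ f x = f a}.Finite := hA.subset hFA
      have haF : a ∈ {x | x ∈ A ∧ f x = f a} := ⟨ha, rfl⟩
      have hpos : 0 < {x | x ∈ A ∧ f x = f a}.ncard := (Set.ncard_pos hFfin).mpr ⟨a, haF⟩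
      have hsum : (A \ {x | x ∈ A ∧ f x = f a}).ncard + {x | x ∈ A ∧ f x = f a}.ncard = A.ncard :=
        Set.ncard_sdiff_add_ncard_of_subset hFA hA
      have hlt : (A \ {x | x ∈ A ∧ f x = f a}).ncard < n := by omega
      have key := ih _ hlt (A \ {x | x ∈ A ∧ f x = f a}) (hA.subset Set.sdiff_subset) rfl ?_
      · have himg : f '' A = insert (f a) (f '' (A \ {x | x ∈ A ∧ f x = f a})) := by
          ext b
          constructor
          · rintro ⟨x, hx, rfl⟩
            by_cases hxa : f x = f a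
            · exact Or.inl hxa
            · exact Or.inr ⟨x, ⟨hx, fun h => hxa h.2⟩, rfl⟩
          · rintro (rfl | ⟨x, hx, rfl⟩)
            · exact ⟨a, ha, rfl⟩
            · exact ⟨x, hx.1, rfl⟩
        have hnot : f a ∉ f '' (A \ {x | x ∈ A ∧ f x = f a}) := by
          rintro ⟨x, hx, hxa⟩
          exact hx.2 ⟨hx.1, hxa⟩
        rw [himg, Set.ncard_insert_of_notMem hnot ((hA.subset Set.sdiff_subset).image f), mul_add,
          mul_one, ← key, ← hn, ← hsum, hka]
      · intro a' ha'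
        have : {x | x ∈ A \ {x | x ∈ A ∧ f x = f a} ∧ f x = f a'} = {x | x ∈ A ∧ f x = f a'} := by
          ext x
          constructor
          · rintro ⟨hx, h⟩
            exact ⟨hx.1, h⟩
          · rintro ⟨hx, h⟩
            refine ⟨⟨hx, fun hxF => ha'.2 ⟨ha'.1, ?_⟩⟩, h⟩
            rw [← h]
            exact hxF.2
        rw [this]
        exact hk a' ha'.1

/-- Number of elements of order `d` in a finite cyclic group. -/
theorem ncard_orderOf_eq_totient {A : Type*} [Group A] [Finite A] [IsCyclic A] {d : ℕ}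
    (hd : d ∣ Nat.card A) : {a : A | orderOf a = d}.ncard = d.totient := by
  classical
  haveI := Fintype.ofFinite A
  rw [← IsCyclic.card_orderOf_eq_totient (α := A) (by rwa [← Nat.card_eq_fintype_card])]
  rw [← Set.ncard_coe_finset]
  congr 1
  ext a
  simp

section sub

variable {C : Type*} [Group C]

/-- elements of order `n` inside `R` -/
def XR (n : ℕ) (R : Subgroup C) : Set C := {u | u ∈ R ∧ orderOf u = n}

/-- cyclic subgroups of order `n` inside `R` -/
def DR (n : ℕ) (R : Subgroup C) : Set (Subgroup C) :=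
  {D | D ≤ R ∧ ∃ x, orderOf x = n ∧ Subgroup.zpowers x = D}

theorem XR_top (n : ℕ) : XR n (⊤ : Subgroup C) = {u : C | orderOf u = n} := by
  ext u
  simp [XR]

theorem XR_eq_image (n : ℕ) (R : Subgroup C) :
    XR n R = Subtype.val '' {u : ↥R | orderOf u = n} := by
  ext u
  constructor
  · rintro ⟨hu, ho⟩
    refine ⟨⟨u, hu⟩, ?_, rfl⟩
    show orderOf (⟨u, hu⟩ : ↥R) = n
    rw [← Subgroup.orderOf_coe]
    exact ho
  · rintro ⟨u', hu', rfl⟩
    refine ⟨u'.2, ?_⟩
    rw [Subgroup.orderOf_coe]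
    exact hu'

theorem ncard_XR_eq (n : ℕ) (R : Subgroup C) :
    (XR n R).ncard = {u : ↥R | orderOf u = n}.ncard := by
  rw [XR_eq_image, Set.ncard_image_of_injective _ Subtype.val_injective]

/-- generators versus cyclic subgroups -/
theorem ncard_XR [Finite C] (n : ℕ) (R : Subgroup C) :
    (XR n R).ncard = n.totient * (DR n R).ncard := by
  have himg : (fun x : C => Subgroup.zpowers x) '' XR n R = DR n R := by
    ext D
    constructor
    · rintro ⟨x, ⟨hxR, hxo⟩, rfl⟩
      exact ⟨Subgroup.zpowers_le.mpr hxR, x, hxo, rfl⟩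
    · rintro ⟨hDR, x, hxo, rfl⟩
      exact ⟨x, ⟨Subgroup.zpowers_le.mp hDR, hxo⟩, rfl⟩
  rw [← himg]
  refine ncard_eq_mul_of_fibers (fun x : C => Subgroup.zpowers x) n.totient _ (XR n R)
    (Set.toFinite _) rfl ?_
  rintro a ⟨haR, hao⟩
  have hset : {x | x ∈ XR n R ∧ Subgroup.zpowers x = Subgroup.zpowers a} =
      Subtype.val '' {d : ↥(Subgroup.zpowers a) | orderOf d = n} := by
    ext x
    constructor
    · rintro ⟨⟨hxR, hxo⟩, hz⟩
      have hx : x ∈ Subgroup.zpowers a := hz ▸ Subgroup.mem_zpowers x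
      refine ⟨⟨x, hx⟩, ?_, rfl⟩
      show orderOf (⟨x, hx⟩ : ↥(Subgroup.zpowers a)) = n
      rw [← Subgroup.orderOf_coe]
      exact hxo
    · rintro ⟨d, hd, rfl⟩
      have hd' : orderOf d = n := hd
      have h1 : orderOf (d : C) = n := by rw [Subgroup.orderOf_coe]; exact hd'
      refine ⟨⟨(Subgroup.zpowers_le.mpr haR) d.2, h1⟩, ?_⟩
      apply Subgroup.eq_of_le_of_card_ge (Subgroup.zpowers_le.mpr d.2)
      rw [Nat.card_zpowers, Nat.card_zpowers, h1, hao]
  show {x | x ∈ XR n R ∧ Subgroup.zpowers x = Subgroup.zpowers a}.ncard = n.totient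
  rw [hset, Set.ncard_image_of_injective _ Subtype.val_injective]
  apply ncard_orderOf_eq_totient
  rw [Nat.card_zpowers, hao]

theorem mem_conj_smul {g x : C} {D : Subgroup C} :
    x ∈ MulAut.conj g • D ↔ g⁻¹ * x * g ∈ D := by
  rw [Subgroup.mem_pointwise_smul_iff_inv_smul_mem, ← map_inv, MulAut.smul_def,
    MulAut.conj_apply, inv_inv]

theorem conj_smul_zpowers (g x : C) :
    MulAut.conj g • Subgroup.zpowers x = Subgroup.zpowers (g * x * g⁻¹) := by
  ext y
  rw [mem_conj_smul, Subgroup.mem_zpowers_iff, Subgroup.mem_zpowers_iff]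
  constructor
  · rintro ⟨k, hk⟩
    refine ⟨k, ?_⟩
    rw [conj_zpow, hk]
    group
  · rintro ⟨k, hk⟩
    refine ⟨k, ?_⟩
    rw [← hk, conj_zpow]
    group

theorem orderOf_conj' (g x : C) : orderOf (g * x * g⁻¹) = orderOf x := by
  have := orderOf_injective (MulAut.conj g).toMonoidHom (MulAut.conj g).injective x
  simpa [MulAut.conj_apply] using this

/-- conjugation action of a subgroup on an invariant family of subgroups -/
@[reducible] def conjSubAction (Q : Subgroup C) (𝒟 : Set (Subgroup C))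
    (h𝒟 : ∀ g ∈ Q, ∀ D ∈ 𝒟, MulAut.conj g • D ∈ 𝒟) : MulAction Q 𝒟 where
  smul g D := ⟨MulAut.conj (g : C) • (D : Subgroup C), h𝒟 g g.2 D D.2⟩
  one_smul D := by
    apply Subtype.ext
    show MulAut.conj ((1 : Q) : C) • (D : Subgroup C) = D
    rw [Subgroup.coe_one, map_one, one_smul]
  mul_smul g h D := by
    apply Subtype.ext
    show MulAut.conj ((g * h : Q) : C) • (D : Subgroup C) =
      MulAut.conj (g : C) • (MulAut.conj (h : C) • (D : Subgroup C))
    rw [Subgroup.coe_mul, map_mul, mul_smul]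

theorem ncard_modEq_fixed [Finite C] {p : ℕ} [Fact p.Prime] (Q : Subgroup C) (hQ : IsPGroup p Q)
    (𝒟 : Set (Subgroup C)) (h𝒟 : ∀ g ∈ Q, ∀ D ∈ 𝒟, MulAut.conj g • D ∈ 𝒟) :
    𝒟.ncard ≡ {D | D ∈ 𝒟 ∧ ∀ g ∈ Q, MulAut.conj g • D = D}.ncard [MOD p] := by
  letI := conjSubAction Q 𝒟 h𝒟
  have h := hQ.card_modEq_card_fixedPoints (↥𝒟)
  simp only [Nat.card_coe_set_eq] at h
  have hset : {D | D ∈ 𝒟 ∧ ∀ g ∈ Q, MulAut.conj g • D = D} =
      Subtype.val '' (MulAction.fixedPoints Q ↥𝒟) := by
    ext D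
    constructor
    · rintro ⟨hD, hfix⟩
      refine ⟨⟨D, hD⟩, ?_, rfl⟩
      intro g
      apply Subtype.ext
      exact hfix g g.2
    · rintro ⟨D', hD', rfl⟩
      refine ⟨D'.2, fun g hg => ?_⟩
      have := hD' ⟨g, hg⟩
      exact congrArg Subtype.val this
  rw [hset, Set.ncard_image_of_injective _ Subtype.val_injective]
  exact h

theorem fixed_le_sylow [Finite C] {p : ℕ} [Fact p.Prime] (Q : Sylow p C) (D : Subgroup C)
    (hD : IsPGroup p D) (hfix : ∀ g ∈ (Q : Subgroup C), MulAut.conj g • D = D) :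
    D ≤ (Q : Subgroup C) := by
  have hnorm : (Q : Subgroup C) ≤ Subgroup.normalizer (D : Set C) := by
    intro g hg
    rw [Subgroup.mem_normalizer_iff]
    intro h
    have e := hfix g hg
    constructor
    · intro hh
      rw [← e, mem_conj_smul]
      have : g⁻¹ * (g * h * g⁻¹) * g = h := by group
      rw [this]
      exact hh
    · intro hh
      rw [← e, mem_conj_smul] at hh
      have : g⁻¹ * (g * h * g⁻¹) * g = h := by group
      rw [this] at hh
      exact hh
  have hsup := Q.isPGroup'.to_sup_of_normal_right' hD hnorm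
  have := Q.is_maximal' hsup le_sup_left
  rw [← this]
  exact le_sup_right

theorem conj_mem_DR (n : ℕ) (R : Subgroup C) (g : C) (hg : g ∈ R) (D : Subgroup C)
    (hD : D ∈ DR n R) : MulAut.conj g • D ∈ DR n R := by
  obtain ⟨hDR, x, hxo, rfl⟩ := hD
  refine ⟨?_, g * x * g⁻¹, by rw [orderOf_conj', hxo], (conj_smul_zpowers g x).symm⟩
  intro y hy
  rw [mem_conj_smul] at hy
  have := hDR hy
  have h2 : y = g * (g⁻¹ * y * g) * g⁻¹ := by group
  rw [h2]
  exact R.mul_mem (R.mul_mem hg this) (R.inv_mem hg)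

/-- The number of cyclic subgroups of order `p ^ s` of `C` is congruent mod `p` to that of a
Sylow `p`-subgroup. -/
theorem ncard_DR_top_modEq [Finite C] {p : ℕ} [Fact p.Prime] (Q : Sylow p C) (s : ℕ) :
    (DR (p ^ s) (⊤ : Subgroup C)).ncard ≡ (DR (p ^ s) (Q : Subgroup C)).ncard [MOD p] := by
  have h1 := ncard_modEq_fixed (Q : Subgroup C) Q.isPGroup' (DR (p ^ s) (⊤ : Subgroup C))
    (fun g _ D hD => conj_mem_DR _ _ g (Subgroup.mem_top g) D hD)
  have h2 := ncard_modEq_fixed (Q : Subgroup C) Q.isPGroup' (DR (p ^ s) (Q : Subgroup C))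
    (fun g hg D hD => conj_mem_DR _ _ g hg D hD)
  have hset : {D | D ∈ DR (p ^ s) (⊤ : Subgroup C) ∧ ∀ g ∈ (Q : Subgroup C), MulAut.conj g • D = D} =
      {D | D ∈ DR (p ^ s) (Q : Subgroup C) ∧ ∀ g ∈ (Q : Subgroup C), MulAut.conj g • D = D} := by
    ext D
    constructor
    · rintro ⟨⟨_, x, hxo, hxD⟩, hfix⟩
      refine ⟨⟨?_, x, hxo, hxD⟩, hfix⟩
      apply fixed_le_sylow Q D _ hfix
      rw [← hxD]
      exact IsPGroup.of_card (n := s) (by rw [Nat.card_zpowers, hxo])
    · rintro ⟨⟨_, x, hxo, hxD⟩, hfix⟩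
      exact ⟨⟨le_top, x, hxo, hxD⟩, hfix⟩
  rw [hset] at h1
  exact h1.trans h2.symm

theorem totient_prime_pow' {p : ℕ} (hp : p.Prime) {s : ℕ} (hs : 0 < s) :
    (p ^ s).totient = p ^ (s - 1) * (p - 1) := Nat.totient_prime_pow hp hs

/-- `p ^ (s - 1)` divides the number of elements of order `p ^ s`. -/
theorem pow_pred_dvd_ncard [Finite C] {p : ℕ} [hp : Fact p.Prime] (s : ℕ) (hs : 0 < s) :
    p ^ (s - 1) ∣ {u : C | orderOf u = p ^ s}.ncard := by
  rw [← XR_top, ncard_XR, Nat.totient_prime_pow hp.out hs, mul_assoc]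
  exact dvd_mul_right _ _

/-- If `p ^ s` divides the number of elements of order `p ^ s` of a Sylow `p`-subgroup, then it
divides the number of elements of order `p ^ s` of the group. -/
theorem pow_dvd_ncard_of_sylow [Finite C] {p : ℕ} [hp : Fact p.Prime] (Q : Sylow p C) (s : ℕ)
    (hs : 0 < s) (hQ : p ^ s ∣ {u : ↥(Q : Subgroup C) | orderOf u = p ^ s}.ncard) :
    p ^ s ∣ {u : C | orderOf u = p ^ s}.ncard := by
  have hp1 : 1 < p := hp.out.one_lt
  have hps : p ^ s = p ^ (s - 1) * p := by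
    rw [← pow_succ]
    congr 1
    omega
  rw [← ncard_XR_eq, ncard_XR, Nat.totient_prime_pow hp.out hs, hps, mul_assoc] at hQ
  have h1 : p ∣ (p - 1) * (DR (p ^ (s - 1) * p) (Q : Subgroup C)).ncard :=
    (Nat.mul_dvd_mul_iff_left (pow_pos hp.out.pos _)).mp hQ
  have hcop : p.Coprime (p - 1) := by
    rw [Nat.Prime.coprime_iff_not_dvd hp.out]
    intro hd
    have := Nat.le_of_dvd (by omega) hd
    omega
  have h2 : p ∣ (DR (p ^ (s - 1) * p) (Q : Subgroup C)).ncard := hcop.dvd_of_dvd_mul_left h1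
  rw [← hps] at h2
  have h3 : p ∣ (DR (p ^ s) (⊤ : Subgroup C)).ncard :=
    ((ncard_DR_top_modEq Q s).dvd_iff (dvd_refl p)).mpr h2
  rw [← XR_top, ncard_XR, Nat.totient_prime_pow hp.out hs]
  rw [hps, mul_assoc]
  apply Nat.mul_dvd_mul_left
  rw [← hps]
  exact Dvd.dvd.mul_left h3 _

end sub

end Cfsg.Agent.helper20.Miller
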