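import Cfsg.Statements.S0112
import Cfsg.Agent.Lib_helper23_Hall

set_option autoImplicit false
open Cfsg

namespace Cfsg.Agent.S0112

universe u

/-- prime-square case analysis on cardinalities -/
theorem card_cases {p : ℕ} (hp : p.Prime) {m : ℕ} (h : m ∣ p ^ 2) : m = 1 ∨ m = p ∨ m = p ^ 2 := by
  obtain ⟨k, hk, rfl⟩ := (Nat.dvd_prime_pow hp).mp h
  interval_cases k
  · left; simp
  · right; left; simp
  · right; right; rfl

/-- stability argument: elements `g` with `[g, A] ≤ Z` form a subgroup of order at most `|A| |Z|`. -/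
theorem stab_bound {X : Type u} [Group X] [Finite X] {p : ℕ} [hp : Fact p.Prime]
    (A : Subgroup X) (hA : Nat.card A = p ^ 2) (hC : Subgroup.centralizer (A : Set X) = A)
    (hZ : Nat.card (Subgroup.center X) = p) (hZA : Subgroup.center X ≤ A)
    (T : Subgroup X) (hT : ∀ g ∈ T, ∀ a ∈ A, (a * g)⁻¹ * (g * a) ∈ Subgroup.center X) :
    Nat.card T ≤ p ^ 2 * p := by
  classical
  set Z := Subgroup.center X with hZdef
  -- pick x ∈ A \ Z
  have hne : Z ≠ A := by
    intro h
    have h1 : Nat.card Z = Nat.card A := by rw [h]
    rw [hZ, hA] at h1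
    have := hp.out.one_lt
    nlinarith
  obtain ⟨x, hxA, hxZ⟩ : ∃ x ∈ A, x ∉ Z := by
    by_contra hcon
    push Not at hcon
    exact hne (le_antisymm hZA hcon)
  -- A = Z ⊔ zpowers x
  have hAeq : Z ⊔ Subgroup.zpowers x = A := by
    have hle : Z ⊔ Subgroup.zpowers x ≤ A := sup_le hZA ((Subgroup.zpowers_le).mpr hxA)
    have hd : Nat.card (Z ⊔ Subgroup.zpowers x : Subgroup X) ∣ p ^ 2 := by
      rw [← hA]; exact Subgroup.card_dvd_of_le hle
    rcases card_cases hp.out hd with h1 | h1 | h1
    · exfalso
      have : Nat.card Z ∣ Nat.card (Z ⊔ Subgroup.zpowers x : Subgroup X) :=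
        Subgroup.card_dvd_of_le le_sup_left
      rw [h1, hZ] at this
      exact hp.out.one_lt.ne' (Nat.dvd_one.mp this)
    · exfalso
      have : Z = Z ⊔ Subgroup.zpowers x :=
        Subgroup.eq_of_le_of_card_ge le_sup_left (by rw [h1, hZ])
      apply hxZ
      rw [this]
      exact Subgroup.mem_sup_right (Subgroup.mem_zpowers x)
    · exact Subgroup.eq_of_le_of_card_ge hle (by rw [h1, hA])
  let c : X → X := fun g => (x * g)⁻¹ * (g * x)
  have hconj : ∀ g, c g ∈ Z → g * x * g⁻¹ = x * c g := by
    intro g hg
    have h1 : ∀ y, y * c g = c g * y := fun y => (Subgroup.mem_center_iff.mp hg y)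
    have h2 : x * g * c g = g * x := by
      show x * g * ((x * g)⁻¹ * (g * x)) = g * x
      group
    calc g * x * g⁻¹ = x * g * c g * g⁻¹ := by rw [h2]
      _ = x * g * (c g * g⁻¹) := by group
      _ = x * g * (g⁻¹ * c g) := by rw [h1 g⁻¹]
      _ = x * c g := by group
  have key : ∀ g h, c g = c h → c g ∈ Z → h⁻¹ * g ∈ A := by
    intro g h hgh hg
    have h1 := hconj g hg
    have h2 := hconj h (hgh ▸ hg)
    rw [← hgh] at h2
    have h3 : (h⁻¹ * g) * x = x * (h⁻¹ * g) := by
      have : g * x * g⁻¹ = h * x * h⁻¹ := by rw [h1, h2]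
      calc (h⁻¹ * g) * x = h⁻¹ * (g * x * g⁻¹) * g := by group
        _ = h⁻¹ * (h * x * h⁻¹) * g := by rw [this]
        _ = x * (h⁻¹ * g) := by group
    rw [← hC]
    have h4 : A ≤ Subgroup.centralizer ({h⁻¹ * g} : Set X) := by
      rw [← hAeq]
      refine sup_le (Subgroup.center_le_centralizer _) ?_
      rw [Subgroup.zpowers_le, Subgroup.mem_centralizer_iff]
      intro y hy
      rw [Set.mem_singleton_iff] at hy
      rw [hy]; exact h3
    intro a ha
    have := h4 ha (h⁻¹ * g) (Set.mem_singleton _)
    exact this.symm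
  let r : X → X := fun z => if h : ∃ t, c t = z then Classical.choose h else 1
  have hr : ∀ g, c (r (c g)) = c g := by
    intro g
    have h : ∃ t, c t = c g := ⟨g, rfl⟩
    show c (if h : ∃ t, c t = c g then Classical.choose h else 1) = c g
    rw [dif_pos h]
    exact Classical.choose_spec h
  let f : T → A × Z := fun g =>
    (⟨(r (c g))⁻¹ * g, key g (r (c g)) (hr g).symm (by
      have := hT g g.2 x hxA
      exact this)⟩, ⟨c g, hT g g.2 x hxA⟩)
  have hf : Function.Injective f := by
    intro g h hgh
    have h1 : c (g : X) = c (h : X) := by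
      have := congrArg (fun q => ((q.2 : Z) : X)) hgh
      exact this
    have h2 : (r (c (g : X)))⁻¹ * g = (r (c (h : X)))⁻¹ * h := by
      have := congrArg (fun q => ((q.1 : A) : X)) hgh
      exact this
    rw [h1] at h2
    exact Subtype.ext (mul_left_cancel h2)
  have := Nat.card_le_card_of_injective f hf
  rwa [Nat.card_prod, hA, hZ] at this

theorem aux {p : ℕ} [hp : Fact p.Prime] : ∀ (n : ℕ) (X : Type u) [Group X] [Finite X],
    Nat.card X = p ^ n → ∀ A : Subgroup X, Nat.card A = p ^ 2 →
    Subgroup.centralizer (A : Set X) = A → Group.nilpotencyClass X = n - 1 := by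
  intro n
  induction n with
  | zero =>
    intro X _ _ hX A hA hC
    exfalso
    have := Subgroup.card_subgroup_dvd_card A
    rw [hX, hA, pow_zero] at this
    have h1 := Nat.le_of_dvd one_pos this
    have := hp.out.two_le
    nlinarith
  | succ n ih =>
    intro X _ _ hX A hA hC
    have hXp : IsPGroup p X := IsPGroup.of_card hX
    haveI : Group.IsNilpotent X := hXp.isNilpotent
    haveI : Nontrivial X := by
      rw [← Finite.one_lt_card_iff_nontrivial, hX]
      exact Nat.one_lt_pow (Nat.succ_ne_zero n) hp.out.one_lt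
    have h2 : 2 ≤ n + 1 := by
      have := Subgroup.card_subgroup_dvd_card A
      rw [hX, hA] at this
      exact (Nat.pow_dvd_pow_iff_le_right hp.out.one_lt).mp this
    rw [Group.nilpotencyClass_eq_quotient_center_plus_one]
    set Z := Subgroup.center X with hZdef
    have hZA : Z ≤ A := by
      intro z hz
      rw [← hC]; exact Subgroup.center_le_centralizer _ hz
    have hcardQ : Nat.card (X ⧸ Z) * Nat.card Z = p ^ (n + 1) := by
      rw [← hX]; exact (Subgroup.card_eq_card_quotient_mul_card_subgroup Z).symm
    by_cases hn2 : n + 1 = 2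
    · -- X = A abelian
      have hAtop : A = ⊤ := Subgroup.eq_top_of_card_eq A (by rw [hA, hX, hn2])
      have hZtop : Z = ⊤ := by
        rw [hZdef, ← Subgroup.centralizer_univ, ← Subgroup.coe_top, ← hAtop, hC]
      have : Subsingleton (X ⧸ Z) := by
        rw [hZtop]; exact QuotientGroup.subsingleton_quotient_top
      rw [Group.nilpotencyClass_zero_iff_subsingleton.mpr this]
      omega
    · have hn3 : 2 ≤ n := by omega
      have hZne : Z ≠ A := by
        intro h
        have h1 : Subgroup.centralizer (A : Set X) = ⊤ := by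
          rw [Subgroup.centralizer_eq_top_iff_subset, ← h]
        rw [hC] at h1
        have h3 : Nat.card A = Nat.card X := by rw [h1, Subgroup.card_top]
        rw [hA, hX] at h3
        have := Nat.pow_right_injective hp.out.two_le h3
        omega
      have hZbot : Z ≠ ⊥ := (hXp.bot_lt_center).ne'
      have hZcard : Nat.card Z = p := by
        have hd : Nat.card Z ∣ p ^ 2 := by rw [← hA]; exact Subgroup.card_dvd_of_le hZA
        rcases card_cases hp.out hd with h1 | h1 | h1
        · exact absurd (Subgroup.eq_bot_of_card_eq Z h1) hZbot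
        · exact h1
        · exact absurd (Subgroup.eq_of_le_of_card_ge hZA (by rw [h1, hA])) hZne
      have hQcard : Nat.card (X ⧸ Z) = p ^ n := by
        rw [hZcard, pow_succ] at hcardQ
        exact Nat.eq_of_mul_eq_mul_right hp.out.pos hcardQ
      -- the subgroup of the quotient
      set π := QuotientGroup.mk' Z with hπ
      set Abar : Subgroup (X ⧸ Z) := A.map π with hAbar
      set Cbar : Subgroup (X ⧸ Z) := Subgroup.centralizer (Abar : Set (X ⧸ Z)) with hCbar
      have hAbarcard : Nat.card Abar = p := by
        have := Cfsg.Agent.helper23.card_map_mk'_mul Z A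
        rw [inf_eq_left.mpr hZA, hZcard, hA, pow_two] at this
        exact Nat.eq_of_mul_eq_mul_right hp.out.pos this
      have hAcomm : ∀ a ∈ A, ∀ b ∈ A, a * b = b * a := by
        intro a ha b hb
        have : b ∈ Subgroup.centralizer (A : Set X) := by rw [hC]; exact hb
        exact Subgroup.mem_centralizer_iff.mp this a ha
      have hAbarle : Abar ≤ Cbar := by
        rintro _ ⟨a, ha, rfl⟩
        rw [hCbar, Subgroup.mem_centralizer_iff]
        rintro _ ⟨b, hb, rfl⟩
        rw [← map_mul, ← map_mul, hAcomm b hb a ha]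
      have hQp : IsPGroup p (X ⧸ Z) := IsPGroup.of_card hQcard
      -- upper bound
      set T : Subgroup X := Cbar.comap π with hT
      have hTmem : ∀ g ∈ T, ∀ a ∈ A, (a * g)⁻¹ * (g * a) ∈ Subgroup.center X := by
        intro g hg a ha
        have h1 : π g ∈ Cbar := hg
        rw [hCbar, Subgroup.mem_centralizer_iff] at h1
        have h2 := h1 (π a) ⟨a, ha, rfl⟩
        rw [← map_mul, ← map_mul] at h2
        exact QuotientGroup.eq.mp h2
      have hTcard : Nat.card T ≤ p ^ 2 * p := stab_bound A hA hC hZcard hZA T hTmem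
      have hTcard' : Nat.card T = p * Nat.card Cbar := by
        rw [hT, Cfsg.Agent.helper23.card_comap_mk', hZcard]
      have hCle : Nat.card Cbar ≤ p ^ 2 := by
        rw [hTcard', mul_comm] at hTcard
        exact Nat.le_of_mul_le_mul_right hTcard hp.out.pos
      obtain ⟨k, hk⟩ := (hQp.to_subgroup Cbar).exists_card_eq
      have hk1 : 1 ≤ k := by
        have := Subgroup.card_dvd_of_le hAbarle
        rw [hAbarcard, hk] at this
        by_contra hcon
        have : k = 0 := by omega
        subst this
        rw [pow_zero] at *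
        exact hp.out.one_lt.ne' (Nat.dvd_one.mp ‹p ∣ 1›)
      have hk2 : k ≤ 2 := by
        rw [hk] at hCle
        exact (Nat.pow_le_pow_iff_right hp.out.one_lt).mp hCle
      have hkne : k ≠ 1 := by
        intro hk1'
        rw [hk1', pow_one] at hk
        have hCA : Abar = Cbar := Subgroup.eq_of_le_of_card_ge hAbarle (by rw [hk, hAbarcard])
        haveI : Nontrivial (X ⧸ Z) := by
          rw [← Finite.one_lt_card_iff_nontrivial, hQcard]
          exact Nat.one_lt_pow (by omega) hp.out.one_lt
        have hcen : Subgroup.center (X ⧸ Z) ≤ Abar := by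
          rw [hCA]; exact Subgroup.center_le_centralizer _
        have hcenne : Subgroup.center (X ⧸ Z) ≠ ⊥ := (hQp.bot_lt_center).ne'
        have hcencard : Nat.card (Subgroup.center (X ⧸ Z)) = p := by
          have hd := Subgroup.card_dvd_of_le hcen
          rw [hAbarcard] at hd
          rcases (Nat.dvd_prime hp.out).mp hd with h1 | h1
          · exact absurd (Subgroup.eq_bot_of_card_eq _ h1) hcenne
          · exact h1
        have hcenA : Subgroup.center (X ⧸ Z) = Abar :=
          Subgroup.eq_of_le_of_card_ge hcen (by rw [hcencard, hAbarcard])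
        have hCtop : Cbar = ⊤ := by
          rw [hCbar, Subgroup.centralizer_eq_top_iff_subset, ← hcenA]
        have : Nat.card Cbar = Nat.card (X ⧸ Z) := by rw [hCtop, Subgroup.card_top]
        rw [hk, hQcard] at this
        have := Nat.pow_right_injective hp.out.two_le (by simpa using this : p ^ 1 = p ^ n)
        omega
      have hk' : k = 2 := by omega
      rw [hk'] at hk
      have hCself : Subgroup.centralizer (Cbar : Set (X ⧸ Z)) = Cbar := by
        apply le_antisymm
        · exact Subgroup.centralizer_le (SetLike.coe_subset_coe.mpr hAbarle)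
        · have hcomm := IsPGroup.commutative_of_card_eq_prime_sq (p := p) (G := Cbar) hk
          intro a ha
          rw [Subgroup.mem_centralizer_iff]
          intro b hb
          have := hcomm ⟨b, hb⟩ ⟨a, ha⟩
          exact congrArg Subtype.val this
      have := ih (X ⧸ Z) hQcard Cbar hk hCself
      rw [this]
      omega

/-- statement -/
theorem result {X : Type*} [Group X] [Finite X] {p : ℕ} [Fact p.Prime] (n : ℕ) (hX : Nat.card X = p ^ n) (A : Subgroup X) (hA : Nat.card A = p ^ 2) (hC : Subgroup.centralizer (A : Set X) = A) : Group.nilpotencyClass X = n - 1 :=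
  aux n X hX A hA hC

end Cfsg.Agent.S0112
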