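import Mathlib
import Cfsg.Agent.Lib_helper17_N4a
import Cfsg.Agent.Lib_helper20_Miller1
import Cfsg.Agent.S0112

set_option autoImplicit false
set_option maxHeartbeats 1000000

/-!
helper17: the number of involutions of a `2`-group with a normal four-subgroup which is not of
maximal class (for S4157).
-/

namespace Cfsg.Agent.helper17.N4

/-- a set with a free action of `C2 × C2` has cardinality divisible by `4`. -/
theorem four_dvd_of_free {α : Type*} (A : Set α) (hA : A.Finite) (σ τ : α → α)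
    (hσA : ∀ x ∈ A, σ x ∈ A) (hτA : ∀ x ∈ A, τ x ∈ A)
    (hσσ : ∀ x ∈ A, σ (σ x) = x) (hττ : ∀ x ∈ A, τ (τ x) = x)
    (hστ : ∀ x ∈ A, σ (τ x) = τ (σ x))
    (hσ : ∀ x ∈ A, σ x ≠ x) (hτ : ∀ x ∈ A, τ x ≠ x) (hne : ∀ x ∈ A, σ x ≠ τ x) :
    4 ∣ A.ncard := by
  refine Cfsg.Agent.helper20.Miller.dvd_ncard_of_blocks 4
    (fun x => ({x, σ x, τ x, σ (τ x)} : Set α)) _ A hA rfl ?_ ?_ ?_ ?_
  · intro x hx y hy
    simp only [Set.mem_insert_iff, Set.mem_singleton_iff] at hy
    rcases hy with h | h | h | h <;> rw [h]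
    · exact hx
    · exact hσA x hx
    · exact hτA x hx
    · exact hσA _ (hτA x hx)
  · intro x _
    simp
  · intro x hx y hy
    simp only [Set.mem_insert_iff, Set.mem_singleton_iff] at hy
    have e1 : σ (σ x) = x := hσσ x hx
    have e2 : τ (τ x) = x := hττ x hx
    have e3 : σ (τ x) = τ (σ x) := hστ x hx
    have e4 : σ (σ (τ x)) = τ x := hσσ _ (hτA x hx)
    have e5 : τ (τ (σ x)) = σ x := hττ _ (hσA x hx)
    rcases hy with h | h | h | h
    · rw [h]
    · rw [h]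
      show ({σ x, σ (σ x), τ (σ x), σ (τ (σ x))} : Set α) = {x, σ x, τ x, σ (τ x)}
      rw [e1, ← e3, e4]
      ext w
      simp only [Set.mem_insert_iff, Set.mem_singleton_iff]
      tauto
    · rw [h]
      show ({τ x, σ (τ x), τ (τ x), σ (τ (τ x))} : Set α) = {x, σ x, τ x, σ (τ x)}
      rw [e2]
      ext w
      simp only [Set.mem_insert_iff, Set.mem_singleton_iff]
      tauto
    · rw [h]
      show ({σ (τ x), σ (σ (τ x)), τ (σ (τ x)), σ (τ (σ (τ x)))} : Set α)
        = {x, σ x, τ x, σ (τ x)}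
      rw [e4, e3, e5, e1]
      ext w
      simp only [Set.mem_insert_iff, Set.mem_singleton_iff]
      tauto
  · intro x hx
    have h1 : σ x ≠ x := hσ x hx
    have h2 : τ x ≠ x := hτ x hx
    have h3 : σ x ≠ τ x := hne x hx
    have h4 : σ (τ x) ≠ τ x := hσ _ (hτA x hx)
    have h5 : σ (τ x) ≠ x := by
      intro h
      apply h3
      have := congrArg σ h
      rw [hσσ _ (hτA x hx)] at this
      exact this.symm
    have h6 : σ (τ x) ≠ σ x := by
      intro h
      apply h2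
      have := congrArg σ h
      rw [hσσ _ (hτA x hx), hσσ x hx] at this
      exact this
    have c1 : ({τ x, σ (τ x)} : Set α).ncard = 2 := Set.ncard_pair h4.symm
    have c2 : ({σ x, τ x, σ (τ x)} : Set α).ncard = 3 := by
      rw [Set.ncard_insert_of_notMem (by
        simp only [Set.mem_insert_iff, Set.mem_singleton_iff, not_or]
        exact ⟨h3, h6.symm⟩) (Set.toFinite _), c1]
    have c3 : ({x, σ x, τ x, σ (τ x)} : Set α).ncard = 4 := by
      rw [Set.ncard_insert_of_notMem (by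
        simp only [Set.mem_insert_iff, Set.mem_singleton_iff, not_or]
        exact ⟨h1.symm, h2.symm, h5.symm⟩) (Set.toFinite _), c2]
    show 4 ∣ ({x, σ x, τ x, σ (τ x)} : Set α).ncard
    rw [c3]

variable {G : Type*} [Group G]

/-- the elements `k` with `P k` and `k ^ 2 ∉ {1, z}` come in packets of four. -/
theorem four_dvd_inv_z [Finite G] {z : G} (hzc : z ∈ Subgroup.center G) (hz2 : z ^ 2 = 1)
    (hz1 : z ≠ 1) (P : G → Prop) (hPinv : ∀ k, P k → P k⁻¹) (hPz : ∀ k, P k → P (k * z)) :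
    4 ∣ {k : G | P k ∧ k ^ 2 ≠ 1 ∧ k ^ 2 ≠ z}.ncard := by
  have hzcomm := Subgroup.mem_center_iff.mp hzc
  have hzinv : z⁻¹ = z := inv_eq_self_of_sq hz2
  apply four_dvd_of_free _ (Set.toFinite _) (fun k => k⁻¹) (fun k => k * z)
  · rintro k ⟨hk, hk1, hkz⟩
    refine ⟨hPinv k hk, ?_, ?_⟩
    · intro h
      apply hk1
      rw [inv_pow, inv_eq_one] at h
      exact h
    · intro h
      apply hkz
      rw [inv_pow, inv_eq_iff_eq_inv, hzinv] at h
      exact h
  · rintro k ⟨hk, hk1, hkz⟩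
    have e : (k * z) ^ 2 = k ^ 2 := by
      rw [(show Commute k z from hzcomm k).mul_pow 2, hz2, mul_one]
    refine ⟨hPz k hk, ?_, ?_⟩
    · rw [e]; exact hk1
    · rw [e]; exact hkz
  · intro k _
    exact inv_inv k
  · intro k _
    show k * z * z = k
    rw [mul_assoc, mul_self_of_sq hz2, mul_one]
  · intro k _
    show (k * z)⁻¹ = k⁻¹ * z
    rw [mul_inv_rev, hzinv, ← hzcomm k⁻¹]
  · rintro k ⟨_, hk1, _⟩ h
    apply hk1
    have h' : k⁻¹ = k := h
    rw [sq]
    nth_rewrite 1 [← h']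
    exact inv_mul_cancel k
  · rintro k _ h
    apply hz1
    have h' : k * z = k := h
    exact mul_left_cancel (a := k) (by rw [h', mul_one])
  · rintro k ⟨_, _, hkz⟩ h
    apply hkz
    have h' : k⁻¹ = k * z := h
    -- 1 = k * (k * z)
    have h2 : k * (k * z) = 1 := by rw [← h', mul_inv_cancel]
    rw [← mul_assoc, ← sq] at h2
    rw [← hzinv]
    exact eq_inv_of_mul_eq_one_left h2

/-- splitting a set according to the value of the square. -/
theorem ncard_split3 [Finite G] {z : G} (hz1 : z ≠ 1) (P : G → Prop) :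
    {k : G | P k}.ncard = {k : G | P k ∧ k ^ 2 = 1}.ncard + {k : G | P k ∧ k ^ 2 = z}.ncard
      + {k : G | P k ∧ k ^ 2 ≠ 1 ∧ k ^ 2 ≠ z}.ncard := by
  classical
  have h1 : {k : G | P k} = ({k : G | P k ∧ k ^ 2 = 1} ∪ {k : G | P k ∧ k ^ 2 = z})
      ∪ {k : G | P k ∧ k ^ 2 ≠ 1 ∧ k ^ 2 ≠ z} := by
    ext k
    simp only [Set.mem_setOf_eq, Set.mem_union]
    tauto
  have d1 : Disjoint {k : G | P k ∧ k ^ 2 = 1} {k : G | P k ∧ k ^ 2 = z} := by
    rw [Set.disjoint_left]
    rintro k ⟨_, h⟩ ⟨_, h'⟩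
    apply hz1
    rw [← h', h]
  have d2 : Disjoint ({k : G | P k ∧ k ^ 2 = 1} ∪ {k : G | P k ∧ k ^ 2 = z})
      {k : G | P k ∧ k ^ 2 ≠ 1 ∧ k ^ 2 ≠ z} := by
    rw [Set.disjoint_left]
    rintro k (⟨_, h⟩ | ⟨_, h⟩) ⟨_, h1, h2⟩
    · exact h1 h
    · exact h2 h
  rw [h1, Set.ncard_union_eq d2 (Set.toFinite _) (Set.toFinite _),
    Set.ncard_union_eq d1 (Set.toFinite _) (Set.toFinite _)]

end Cfsg.Agent.helper17.N4
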