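import Mathlib
import Cfsg.Agent.Lib_helper17_N4c

set_option autoImplicit false
set_option maxHeartbeats 2000000

/-!
helper17: the number of solutions of `x ^ 2 = 1` in a `2`-group with a normal four-subgroup which
is not of maximal class is divisible by `4` (for S4157).
-/

namespace Cfsg.Agent.helper17.N4

theorem four_dvd_invol {G : Type*} [Group G] [Finite G] (m : ℕ) (hX : Nat.card G = 2 ^ m)
    (hcl : Group.nilpotencyClass G ≠ m - 1) {z a : G} (hnf : NF z a) :
    4 ∣ {x : G | x ^ 2 = 1}.ncard := by
  classical
  haveI : Fact (Nat.Prime 2) := ⟨Nat.prime_two⟩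
  obtain ⟨hzc, hz2, hz1, ha2, ha1, haz, haconj⟩ := hnf
  have hG : IsPGroup 2 G := IsPGroup.of_card hX
  have hzcomm := Subgroup.mem_center_iff.mp hzc
  have hzz := mul_self_of_sq hz2
  have haa := mul_self_of_sq ha2
  have hzinv : z⁻¹ = z := inv_eq_self_of_sq hz2
  have hainv : a⁻¹ = a := inv_eq_self_of_sq ha2
  have hza : Commute z a := (hzcomm a).symm
  have hsplit : {x : G | x ^ 2 = 1}
      = {x : G | x ^ 2 = 1 ∧ Commute x a} ∪ {x : G | x ^ 2 = 1 ∧ ¬ Commute x a} := by
    ext x
    simp only [Set.mem_setOf_eq, Set.mem_union]
    tauto
  have hdisj : Disjoint {x : G | x ^ 2 = 1 ∧ Commute x a} {x : G | x ^ 2 = 1 ∧ ¬ Commute x a} := by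
    rw [Set.disjoint_left]
    rintro x ⟨_, h1⟩ ⟨_, h2⟩
    exact h2 h1
  rw [hsplit, Set.ncard_union_eq hdisj (Set.toFinite _) (Set.toFinite _)]
  apply dvd_add
  · -- the part inside `T`
    apply four_dvd_of_free _ (Set.toFinite _) (fun x => x * z) (fun x => x * a)
    · rintro x ⟨hx2, hxa⟩
      refine ⟨?_, ?_⟩
      · rw [(show Commute x z from hzcomm x).mul_pow 2, hx2, hz2, mul_one]
      · exact Commute.mul_left hxa hza
    · rintro x ⟨hx2, hxa⟩
      refine ⟨?_, ?_⟩
      · rw [hxa.mul_pow 2, hx2, ha2, mul_one]
      · exact Commute.mul_left hxa (Commute.refl a)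
    · intro x _
      show x * z * z = x
      rw [mul_assoc, hzz, mul_one]
    · intro x _
      show x * a * a = x
      rw [mul_assoc, haa, mul_one]
    · intro x _
      show x * a * z = x * z * a
      rw [mul_assoc, mul_assoc, hza.eq]
    · rintro x _ h
      apply hz1
      exact mul_left_cancel (a := x) (by rw [show x * z = x from h, mul_one])
    · rintro x _ h
      apply ha1
      exact mul_left_cancel (a := x) (by rw [show x * a = x from h, mul_one])
    · rintro x _ h
      apply haz
      exact (mul_left_cancel (show x * z = x * a from h)).symm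
  · -- the part outside `T`
    rcases Set.eq_empty_or_nonempty {x : G | x ^ 2 = 1 ∧ ¬ Commute x a} with hIe | ⟨t, ht2, hta⟩
    · rw [hIe, Set.ncard_empty]
      exact dvd_zero 4
    · have htinv : t⁻¹ = t := inv_eq_self_of_sq ht2
      have htt := mul_self_of_sq ht2
      have hnc : ∀ x : G, ¬ Commute x a → x * a * x⁻¹ = a * z := by
        intro x hx
        rcases haconj x with h | h
        · exfalso
          apply hx
          show x * a = a * x
          have e : x * a = (x * a * x⁻¹) * x := by group
          rw [e, h]
        · exact h
      have hta' : t * a * t = a * z := by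
        have := hnc t hta
        rwa [htinv] at this
      have hprod : ∀ x : G, ¬ Commute x a → Commute (x * t) a := by
        intro x hx
        show x * t * a = a * (x * t)
        have e1 : t * a = a * z * t := by
          have : t * a = (t * a * t) * t⁻¹ := by group
          rw [this, hta', htinv]
        have e2 : x * a = a * z * x := by
          have : x * a = (x * a * x⁻¹) * x := by group
          rw [this, hnc x hx]
        calc x * t * a = x * (t * a) := mul_assoc _ _ _
          _ = x * (a * z * t) := by rw [e1]
          _ = (x * a) * z * t := by group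
          _ = a * z * x * z * t := by rw [e2]
          _ = a * (z * (x * z)) * t := by group
          _ = a * (z * (z * x)) * t := by rw [hzcomm x]
          _ = a * ((z * z) * x) * t := by group
          _ = a * (x * t) := by rw [hzz, one_mul, mul_assoc]
      set K : Subgroup G := Subgroup.centralizer {a, t} with hK
      have memK : ∀ k, k ∈ K ↔ Commute k a ∧ Commute k t := by
        intro k
        rw [hK, Subgroup.mem_centralizer_iff]
        constructor
        · intro h
          exact ⟨(h a (by simp)).symm, (h t (by simp)).symm⟩
        · rintro ⟨h1, h2⟩ y hy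
          simp only [Set.mem_insert_iff, Set.mem_singleton_iff] at hy
          rcases hy with hy | hy <;> rw [hy]
          · exact h1.symm
          · exact h2.symm
      have hzK : z ∈ K := (memK z).mpr ⟨hza, (hzcomm t).symm⟩
      -- `|K|` is divisible by `4`
      have hK4 : 4 ∣ Nat.card K := by
        obtain ⟨i, hi⟩ := (hG.to_subgroup K).exists_card_eq
        by_contra hnd
        have hi1 : i ≤ 1 := by
          by_contra h
          rw [not_le] at h
          apply hnd
          rw [hi]
          exact dvd_trans (by norm_num : 4 ∣ 2 ^ 2) (pow_dvd_pow 2 h)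
        have hKle : Nat.card K ≤ 2 := by
          rw [hi]
          calc 2 ^ i ≤ 2 ^ 1 := Nat.pow_le_pow_right (by norm_num) hi1
            _ = 2 := by norm_num
        have hzKle : Subgroup.zpowers z ≤ K := by
          rw [Subgroup.zpowers_le]
          exact hzK
        have hKeq : Subgroup.zpowers z = K := Subgroup.eq_of_le_of_card_ge hzKle (by
          rw [Nat.card_zpowers, orderOf_eq_prime hz2 hz1]
          exact hKle)
        have hK2 : ∀ k, Commute k a → Commute k t → k = 1 ∨ k = z := by
          intro k h1 h2
          have : k ∈ K := (memK k).mpr ⟨h1, h2⟩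
          rw [← hKeq, mem_zpowers_iff_of_sq hz2] at this
          exact this
        have htz : t * z = z * t := hzcomm t
        have ht1 : t ≠ 1 := by
          intro h
          apply hta
          rw [h]
          exact Commute.one_left a
        have htnez : t ≠ z := by
          intro h
          apply hta
          rw [h]
          exact hza
        have hAcard : Nat.card (four t z ht2 hz2 htz) = 2 ^ 2 := by
          rw [card_four ht2 hz2 htz ht1 hz1 htnez]
          norm_num
        have hAC : Subgroup.centralizer ((four t z ht2 hz2 htz : Subgroup G) : Set G)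
            = four t z ht2 hz2 htz := by
          ext g
          rw [Subgroup.mem_centralizer_iff]
          constructor
          · intro h
            have hgt : Commute g t :=
              (h t (by rw [SetLike.mem_coe, mem_four]; right; left; rfl)).symm
            rw [mem_four]
            by_cases hga : Commute g a
            · rcases hK2 g hga hgt with h1 | h1
              · left; exact h1
              · right; right; left; exact h1
            · have h3 := hprod g hga
              have h4 : Commute (g * t) t := Commute.mul_left hgt (Commute.refl t)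
              have e : g = (g * t) * t := by rw [mul_assoc, htt, mul_one]
              rcases hK2 (g * t) h3 h4 with h1 | h1
              · right; left
                rw [e, h1, one_mul]
              · right; right; right
                rw [e, h1]
                exact htz.symm
          · intro hg y hy
            rw [SetLike.mem_coe, mem_four] at hy
            rw [mem_four] at hg
            have hgt : Commute g t := by
              rcases hg with hg | hg | hg | hg
              · exact (congrArg (fun w => Commute w t) hg).mpr (Commute.one_left t)
              · exact (congrArg (fun w => Commute w t) hg).mpr (Commute.refl t)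
              · exact (congrArg (fun w => Commute w t) hg).mpr (hzcomm t).symm
              · exact (congrArg (fun w => Commute w t) hg).mpr
                  (Commute.mul_left (Commute.refl t) (hzcomm t).symm)
            have hgz : Commute g z := hzcomm g
            show Commute y g
            rcases hy with hy | hy | hy | hy
            · exact (congrArg (fun w => Commute w g) hy).mpr (Commute.one_left g)
            · exact (congrArg (fun w => Commute w g) hy).mpr hgt.symm
            · exact (congrArg (fun w => Commute w g) hy).mpr hgz.symm
            · exact (congrArg (fun w => Commute w g) hy).mpr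
                (Commute.mul_left hgt.symm hgz.symm)
        exact hcl (Cfsg.Agent.S0112.result m hX (four t z ht2 hz2 htz) hAcard hAC)
      -- the bijection with `J`
      have hI : {x : G | x ^ 2 = 1 ∧ ¬ Commute x a}
          = (fun k => k * t) '' {k : G | Commute k a ∧ t * k * t⁻¹ = k⁻¹} := by
        ext x
        constructor
        · rintro ⟨hx2, hxa⟩
          refine ⟨x * t, ⟨hprod x hxa, ?_⟩, ?_⟩
          · rw [mul_inv_rev, htinv, inv_eq_self_of_sq hx2]
            rw [mul_assoc, mul_assoc, htt, mul_one]
          · show x * t * t = x
            rw [mul_assoc, htt, mul_one]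
        · rintro ⟨k, ⟨hka, hkt⟩, rfl⟩
          refine ⟨?_, ?_⟩
          · rw [htinv] at hkt
            show (k * t) ^ 2 = 1
            rw [sq]
            have e : k * t * (k * t) = k * (t * k * t) := by group
            rw [e, hkt, mul_inv_cancel]
          · intro h
            apply hta
            have e : t = k⁻¹ * (k * t) := by group
            rw [e]
            exact Commute.mul_left hka.inv_left h
      have hJsplit := ncard_split3 hz1 (fun k : G => Commute k a ∧ t * k * t⁻¹ = k⁻¹)
      have hKsplit := ncard_split3 hz1 (fun k : G => k ∈ K)
      have hJr : 4 ∣ {k : G | (Commute k a ∧ t * k * t⁻¹ = k⁻¹) ∧ k ^ 2 ≠ 1 ∧ k ^ 2 ≠ z}.ncard := by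
        apply four_dvd_inv_z hzc hz2 hz1
        · rintro k ⟨hka, hkt⟩
          refine ⟨hka.inv_left, ?_⟩
          have e : t * k⁻¹ * t⁻¹ = (t * k * t⁻¹)⁻¹ := by group
          rw [e, hkt]
        · rintro k ⟨hka, hkt⟩
          refine ⟨Commute.mul_left hka hza, ?_⟩
          have e : t * (k * z) * t⁻¹ = (t * k * t⁻¹) * (t * z * t⁻¹) := by group
          rw [e, hkt, hzcomm t, mul_inv_cancel_right, mul_inv_rev, hzinv, hzcomm k⁻¹]
      have hKr : 4 ∣ {k : G | k ∈ K ∧ k ^ 2 ≠ 1 ∧ k ^ 2 ≠ z}.ncard := by
        apply four_dvd_inv_z hzc hz2 hz1
        · intro k hk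
          exact K.inv_mem hk
        · intro k hk
          exact K.mul_mem hk hzK
      have h1 : {k : G | (Commute k a ∧ t * k * t⁻¹ = k⁻¹) ∧ k ^ 2 = 1}
          = {k : G | k ∈ K ∧ k ^ 2 = 1} := by
        ext k
        simp only [Set.mem_setOf_eq, memK]
        constructor
        · rintro ⟨⟨hka, hkt⟩, hk2⟩
          refine ⟨⟨hka, ?_⟩, hk2⟩
          rw [inv_eq_self_of_sq hk2] at hkt
          show k * t = t * k
          have e : t * k = (t * k * t⁻¹) * t := by group
          rw [e, hkt]
        · rintro ⟨⟨hka, hkt⟩, hk2⟩
          refine ⟨⟨hka, ?_⟩, hk2⟩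
          rw [inv_eq_self_of_sq hk2, ← hkt.eq, mul_inv_cancel_right]
      have h2 : {k : G | (Commute k a ∧ t * k * t⁻¹ = k⁻¹) ∧ k ^ 2 = z}
          = (fun k => k * a) '' {k : G | k ∈ K ∧ k ^ 2 = z} := by
        ext k
        constructor
        · rintro ⟨⟨hka, hkt⟩, hk2⟩
          have hkinv : k⁻¹ = k * z := by
            apply inv_eq_of_mul_eq_one_right
            rw [← mul_assoc, ← sq, hk2, hzz]
          refine ⟨k * a, ⟨(memK _).mpr ⟨Commute.mul_left hka (Commute.refl a), ?_⟩, ?_⟩, ?_⟩
          · show k * a * t = t * (k * a)
            have e : t * (k * a) = (t * k * t⁻¹) * (t * a * t⁻¹) * t := by group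
            rw [e, hkt, hnc t hta, hkinv]
            have e2 : k * z * (a * z) * t = k * (z * a) * z * t := by group
            rw [e2, hza.eq]
            have e3 : k * (a * z) * z * t = k * a * (z * z) * t := by group
            rw [e3, hzz, mul_one]
          · rw [hka.mul_pow 2, hk2, ha2, mul_one]
          · show k * a * a = k
            rw [mul_assoc, haa, mul_one]
        · rintro ⟨k', ⟨hk'K, hk'2⟩, rfl⟩
          obtain ⟨hk'a, hk't⟩ := (memK _).mp hk'K
          have hk'inv : k'⁻¹ = k' * z := by
            apply inv_eq_of_mul_eq_one_right
            rw [← mul_assoc, ← sq, hk'2, hzz]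
          refine ⟨⟨Commute.mul_left hk'a (Commute.refl a), ?_⟩, ?_⟩
          · have e : t * (k' * a) * t⁻¹ = (t * k' * t⁻¹) * (t * a * t⁻¹) := by group
            rw [e, hnc t hta, ← hk't.eq, mul_inv_cancel_right, mul_inv_rev, hainv, hk'inv]
            rw [← mul_assoc, ← mul_assoc, hk'a.eq]
          · show (k' * a) ^ 2 = z
            rw [hk'a.mul_pow 2, hk'2, ha2, mul_one]
      rw [hI, Set.ncard_image_of_injective _ (mul_left_injective t)]
      have hKcard : Nat.card K = {k : G | k ∈ K}.ncard := Nat.card_coe_set_eq _
      rw [h1, h2, Set.ncard_image_of_injective _ (mul_left_injective a)] at hJsplit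
      omega

end Cfsg.Agent.helper17.N4
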