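import Mathlib
import Cfsg.Agent.S0126
import Cfsg.Agent.Lib_helper23_BG5c
import Cfsg.Agent.Lib_lead_Class2
import Cfsg.Agent.Lib_helper20_Miller1

/-! Kulakoff/Miller: in a noncyclic `p`-group, `p` odd, the number of elements of order `p ^ s`
(`s ≥ 2`) is divisible by `p ^ s` (helper20). -/

set_option autoImplicit false
set_option linter.style.haveILetI false
open scoped commutatorElement

namespace Cfsg.Agent.helper20.Miller

theorem orderOf_eq_of_pow_prime {G : Type*} [Group G] [Finite G] {p : ℕ} (hp : p.Prime) (y : G)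
    (k : ℕ) (hk : 0 < k) (h : orderOf (y ^ p) = p ^ k) : orderOf y = p ^ (k + 1) := by
  have h1 := orderOf_pow (n := p) y
  by_cases hd : p ∣ orderOf y
  · rw [Nat.gcd_eq_right hd, h] at h1
    rw [pow_succ, h1, Nat.div_mul_cancel hd]
  · exfalso
    have hc : (orderOf y).Coprime p := ((Nat.Prime.coprime_iff_not_dvd hp).mpr hd).symm
    rw [hc.gcd_eq_one, Nat.div_one, h] at h1
    apply hd
    rw [← h1]
    exact dvd_pow_self p hk.ne'

theorem not_isCyclic_of_ea_sq {Q : Type*} [Group Q] {p : ℕ} (hp : p.Prime) (E : Subgroup Q)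
    (hE : Cfsg.IsElementaryAbelian p E) (hc : Nat.card E = p ^ 2) : ¬ IsCyclic ↥E := by
  intro hcyc
  obtain ⟨g, hg⟩ := hcyc.exists_generator
  have h1 : orderOf g = Nat.card ↥E := orderOf_eq_card_of_forall_mem_zpowers hg
  have h2 : g ^ p = 1 := by
    apply Subtype.ext
    rw [Subgroup.coe_pow, Subgroup.coe_one]
    exact hE.2 _ g.2
  have h3 : orderOf g ∣ p := orderOf_dvd_of_pow_eq_one h2
  rw [h1, hc] at h3
  have := Nat.le_of_dvd hp.pos h3
  have h4 : p * 2 ≤ p * p := Nat.mul_le_mul_left p hp.two_le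
  nlinarith [hp.two_le]

/-- If `E` is a normal elementary abelian subgroup of order `p ^ 2` of a `p`-group, `p` odd,
then `(x * e) ^ p = x ^ p` for `e ∈ E`. -/
theorem mul_pow_prime_of_normal_ea {Q : Type*} [Group Q] [Finite Q] {p : ℕ} [hp : Fact p.Prime]
    (hodd : p ≠ 2) (hQ : IsPGroup p Q) (E : Subgroup Q) [hEn : E.Normal]
    (hE : Cfsg.IsElementaryAbelian p E) (hc : Nat.card E = p ^ 2) (x e : Q) (he : e ∈ E) :
    (x * e) ^ p = x ^ p := by
  have hp1 : 1 < p := hp.out.one_lt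
  have hEne : E ≠ ⊥ := by
    intro h
    rw [h, Subgroup.card_bot] at hc
    have : 1 < p ^ 2 := Nat.one_lt_pow (by norm_num) hp1
    omega
  have hlt := Cfsg.Agent.helper23.commutator_top_lt hQ E hEne
  have hKle : ⁅E, (⊤ : Subgroup Q)⁆ ≤ E := hlt.le
  -- the commutator subgroup is central
  have hKc : ⁅E, (⊤ : Subgroup Q)⁆ ≤ Subgroup.center Q := by
    have hdvd : Nat.card ↥(⁅E, (⊤ : Subgroup Q)⁆) ∣ p ^ 2 := by
      rw [← hc]
      exact Subgroup.card_dvd_of_le hKle
    obtain ⟨i, hi, hci⟩ := (Nat.dvd_prime_pow hp.out).mp hdvd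
    have hi2 : i ≠ 2 := by
      intro h2
      rw [h2, ← hc] at hci
      have := Subgroup.eq_of_le_of_card_ge hKle hci.ge
      exact hlt.ne this
    have hi01 : i = 0 ∨ i = 1 := by omega
    rcases hi01 with h0 | h1
    · rw [h0, pow_zero] at hci
      rw [Subgroup.card_eq_one.mp hci]
      exact bot_le
    · rw [h1, pow_one] at hci
      exact Cfsg.Agent.helper23.normal_prime_le_center hQ _ hci
  have hcK : ⁅e, x⁆ ∈ ⁅E, (⊤ : Subgroup Q)⁆ :=
    Subgroup.commutator_mem_commutator he (Subgroup.mem_top x)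
  have hcc : ∀ r : Q, Commute ⁅e, x⁆ r := fun r =>
    (Subgroup.mem_center_iff.mp (hKc hcK) r).symm
  rw [Cfsg.Agent.lead.mul_pow_class2 x e ⁅e, x⁆ (Cfsg.Agent.lead.mul_eq_commutator_mul x e)
    (hcc x) (hcc e) p]
  have hodd' : Odd p := hp.out.odd_of_ne_two hodd
  obtain ⟨k, hk⟩ := hodd'
  have h1 : p * (p - 1) / 2 = p * k := by
    have : p - 1 = 2 * k := by omega
    rw [this, ← mul_assoc, mul_comm p 2, mul_assoc, Nat.mul_div_cancel_left _ (by norm_num : 0 < 2)]
  rw [h1, pow_mul, hE.2 _ (hKle hcK), one_pow, mul_one, hE.2 e he, mul_one]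

/-- **Kulakoff/Miller.** In a noncyclic finite `p`-group with `p` odd, the number of elements of
order `p ^ s`, `s ≥ 2`, is divisible by `p ^ s`. -/
theorem pgroup_count {Q : Type*} [Group Q] [Finite Q] {p : ℕ} [hp : Fact p.Prime] (hodd : p ≠ 2)
    (hQ : IsPGroup p Q) (hnc : ¬ IsCyclic Q) (s : ℕ) (hs : 1 < s) :
    p ^ s ∣ {x : Q | orderOf x = p ^ s}.ncard := by
  have hp1 : 1 < p := hp.out.one_lt
  obtain ⟨E, hEn, hEea, hEcard⟩ := Cfsg.Agent.S0126.result hodd hQ hnc
  haveI := hEn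
  have hEnc := not_isCyclic_of_ea_sq hp.out E hEea hEcard
  have hpow := mul_pow_prime_of_normal_ea hodd hQ E hEea hEcard
  have hps : p ^ s = p * p ^ (s - 1) := by
    rw [← pow_succ']
    congr 1
    omega
  -- the key facts about a block
  have key : ∀ x : Q, orderOf x = p ^ s → ∀ y : Q, x⁻¹ * y ∈ Subgroup.zpowers (x ^ p) ⊔ E →
      orderOf y = p ^ s ∧ Subgroup.zpowers (y ^ p) = Subgroup.zpowers (x ^ p) := by
    intro x hx y hy
    have hw : orderOf (x ^ p) = p ^ (s - 1) := by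
      rw [orderOf_pow_of_dvd hp.out.ne_zero (by rw [hx, hps]; exact dvd_mul_right _ _), hx, hps,
        Nat.mul_div_cancel_left _ hp.out.pos]
    obtain ⟨a, ha, e, he, hae⟩ := Subgroup.mem_sup_of_normal_right.mp hy
    rw [← mem_powers_iff_mem_zpowers] at ha
    obtain ⟨j, hj⟩ := ha
    have hj' : (x ^ p) ^ j = a := hj
    have hyx : y = x ^ (1 + p * j) * e := by
      have : y = x * (a * e) := by rw [hae]; group
      rw [this, ← hj', ← pow_mul, pow_add, pow_one, mul_assoc]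
    have hyp : y ^ p = (x ^ p) ^ (1 + p * j) := by
      rw [hyx, hpow _ e he, ← pow_mul, ← pow_mul, mul_comm]
    have hcop : (orderOf (x ^ p)).Coprime (1 + p * j) := by
      rw [hw]
      apply Nat.Coprime.pow_left
      exact (Nat.coprime_add_mul_left_right p 1 j).mpr (Nat.coprime_one_right p)
    have hyo : orderOf (y ^ p) = p ^ (s - 1) := by
      rw [hyp, hcop.orderOf_pow, hw]
    refine ⟨?_, ?_⟩
    · have := orderOf_eq_of_pow_prime hp.out y (s - 1) (by omega) hyo
      rw [this]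
      congr 1
      omega
    · apply Subgroup.eq_of_le_of_card_ge
      · rw [Subgroup.zpowers_le, hyp]
        exact Subgroup.pow_mem _ (Subgroup.mem_zpowers _) _
      · rw [Nat.card_zpowers, Nat.card_zpowers, hyo, hw]
  refine dvd_ncard_of_blocks (p ^ s)
    (fun x : Q => {y | x⁻¹ * y ∈ Subgroup.zpowers (x ^ p) ⊔ E}) _ {x : Q | orderOf x = p ^ s}
    (Set.toFinite _) rfl ?_ ?_ ?_ ?_
  · intro x hx y hy
    exact (key x hx y hy).1
  · intro x _
    show x⁻¹ * x ∈ Subgroup.zpowers (x ^ p) ⊔ E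
    rw [inv_mul_cancel]
    exact Subgroup.one_mem _
  · intro x hx y hy
    have hK := (key x hx y hy).2
    ext z
    show y⁻¹ * z ∈ Subgroup.zpowers (y ^ p) ⊔ E ↔ x⁻¹ * z ∈ Subgroup.zpowers (x ^ p) ⊔ E
    rw [hK]
    have hy' : x⁻¹ * y ∈ Subgroup.zpowers (x ^ p) ⊔ E := hy
    have e1 : y⁻¹ * z = (x⁻¹ * y)⁻¹ * (x⁻¹ * z) := by group
    rw [e1]
    exact Subgroup.mul_mem_cancel_left _ (Subgroup.inv_mem _ hy')
  · intro x hx
    have hx' : orderOf x = p ^ s := hx
    have hw : orderOf (x ^ p) = p ^ (s - 1) := by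
      rw [orderOf_pow_of_dvd hp.out.ne_zero (by rw [hx', hps]; exact dvd_mul_right _ _), hx', hps,
        Nat.mul_div_cancel_left _ hp.out.pos]
    have hset : {y | x⁻¹ * y ∈ Subgroup.zpowers (x ^ p) ⊔ E} =
        (fun k => x * k) '' ((Subgroup.zpowers (x ^ p) ⊔ E : Subgroup Q) : Set Q) := by
      ext z
      constructor
      · intro hz
        exact ⟨x⁻¹ * z, hz, by group⟩
      · rintro ⟨k, hk, rfl⟩
        show x⁻¹ * (x * k) ∈ Subgroup.zpowers (x ^ p) ⊔ E
        rw [inv_mul_cancel_left]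
        exact hk
    show p ^ s ∣ {y | x⁻¹ * y ∈ Subgroup.zpowers (x ^ p) ⊔ E}.ncard
    rw [hset, Set.ncard_image_of_injective _ (mul_right_injective x)]
    have hcardK : ((Subgroup.zpowers (x ^ p) ⊔ E : Subgroup Q) : Set Q).ncard =
        Nat.card ↥(Subgroup.zpowers (x ^ p) ⊔ E : Subgroup Q) :=
      (Nat.card_coe_set_eq _).symm
    rw [hcardK]
    obtain ⟨n, hn⟩ := (hQ.to_subgroup (Subgroup.zpowers (x ^ p) ⊔ E)).exists_card_eq
    rw [hn]
    apply Nat.pow_dvd_pow
    have hle : Subgroup.zpowers (x ^ p) ≤ Subgroup.zpowers (x ^ p) ⊔ E := le_sup_left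
    have hd := Subgroup.card_dvd_of_le hle
    rw [Nat.card_zpowers, hw, hn, Nat.pow_dvd_pow_iff_le_right hp1] at hd
    by_contra hlt
    have hn' : n = s - 1 := by omega
    have heq : Subgroup.zpowers (x ^ p) = Subgroup.zpowers (x ^ p) ⊔ E := by
      apply Subgroup.eq_of_le_of_card_ge hle
      rw [hn, Nat.card_zpowers, hw, hn']
    have hEle : E ≤ Subgroup.zpowers (x ^ p) := by
      rw [heq]
      exact le_sup_right
    exact hEnc (Subgroup.isCyclic_of_le hEle)

end Cfsg.Agent.helper20.Miller
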