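import Mathlib
import Cfsg.Agent.Lib_helper17_N4a
import Cfsg.Agent.Lib_helper20_Miller2

set_option autoImplicit false
set_option maxHeartbeats 2000000

/-!
helper17: in a `2`-group with a normal four-subgroup the number of elements of order `2 ^ s`,
`s ≥ 3`, is divisible by `2 ^ s` (for S4157).
-/

namespace Cfsg.Agent.helper17.N4

variable {G : Type*} [Group G]

theorem NF.comm {z a : G} (h : NF z a) : z * a = a * z :=
  (Subgroup.mem_center_iff.mp h.1 a).symm

theorem conj_four {z a : G} (hnf : NF z a) (x e : G)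
    (he : e ∈ four z a hnf.2.1 hnf.2.2.2.1 hnf.comm) :
    x * e * x⁻¹ = e ∨ x * e * x⁻¹ = e * z := by
  obtain ⟨hzc, hz2, hz1, ha2, ha1, haz, haconj⟩ := hnf
  have hzcomm := Subgroup.mem_center_iff.mp hzc
  rw [mem_four] at he
  rcases he with he | he | he | he
  · left
    rw [he, mul_one, mul_inv_cancel]
  · left
    rw [he, hzcomm x, mul_inv_cancel_right]
  · rw [he]
    exact haconj x
  · rw [he]
    have e1 : x * (z * a) * x⁻¹ = z * (x * a * x⁻¹) := by
      rw [← mul_assoc, hzcomm x]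
      group
    rcases haconj x with h | h
    · left
      rw [e1, h]
    · right
      rw [e1, h, mul_assoc]

theorem four_normal {z a : G} (hnf : NF z a) :
    (four z a hnf.2.1 hnf.2.2.2.1 hnf.comm).Normal := by
  constructor
  intro e he x
  rcases conj_four hnf x e he with h | h
  · rw [h]
    exact he
  · rw [h]
    apply Subgroup.mul_mem _ he
    rw [mem_four]
    right; left; rfl

theorem four_pow2 {z a : G} (hnf : NF z a) (x e : G)
    (he : e ∈ four z a hnf.2.1 hnf.2.2.2.1 hnf.comm) :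
    (x * e) ^ 2 = x ^ 2 ∨ (x * e) ^ 2 = x ^ 2 * z := by
  have he2 : e ^ 2 = 1 := four_sq _ _ _ e he
  have hzcomm := Subgroup.mem_center_iff.mp hnf.1
  have h := conj_four hnf x⁻¹ e he
  rw [inv_inv] at h
  rcases h with h | h
  · left
    have hc : Commute x e := by
      show x * e = e * x
      have e1 : x * e = x * (x⁻¹ * e * x) := by rw [h]
      rw [e1]
      group
    rw [hc.mul_pow 2, he2, mul_one]
  · right
    calc (x * e) ^ 2 = x * (e * x) * e := by rw [sq]; group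
      _ = x * (x * (x⁻¹ * e * x)) * e := by group
      _ = x * (x * (e * z)) * e := by rw [h]
      _ = x * x * e * (z * e) := by group
      _ = x * x * e * (e * z) := by rw [← hzcomm e]
      _ = x * x * (e * e) * z := by group
      _ = x ^ 2 * z := by rw [mul_self_of_sq he2, mul_one, ← sq]

theorem four_pow4 {z a : G} (hnf : NF z a) (x e : G)
    (he : e ∈ four z a hnf.2.1 hnf.2.2.2.1 hnf.comm) :
    (x * e) ^ 4 = x ^ 4 := by
  have hzcomm := Subgroup.mem_center_iff.mp hnf.1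
  have h4 : ∀ y : G, y ^ 4 = (y ^ 2) ^ 2 := fun y => by rw [← pow_mul]
  rw [h4 (x * e), h4 x]
  rcases four_pow2 hnf x e he with h | h
  · rw [h]
  · rw [h, (show Commute (x ^ 2) z from hzcomm _).mul_pow 2, hnf.2.1, mul_one]

theorem four_not_cyclic {z a : G} (hnf : NF z a) :
    ¬ IsCyclic (four z a hnf.2.1 hnf.2.2.2.1 hnf.comm) := by
  intro hcyc
  have hcard : Nat.card (four z a hnf.2.1 hnf.2.2.2.1 hnf.comm) = 4 :=
    card_four _ _ _ hnf.2.2.1 hnf.2.2.2.2.1 (Ne.symm hnf.2.2.2.2.2.1)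
  haveI : Finite (four z a hnf.2.1 hnf.2.2.2.1 hnf.comm) :=
    Nat.finite_of_card_ne_zero (by rw [hcard]; norm_num)
  obtain ⟨g, hg⟩ := hcyc.exists_generator
  have h1 : orderOf g = Nat.card (four z a hnf.2.1 hnf.2.2.2.1 hnf.comm) :=
    orderOf_eq_card_of_forall_mem_zpowers hg
  have h2 : g ^ 2 = 1 := by
    apply Subtype.ext
    rw [Subgroup.coe_pow, Subgroup.coe_one]
    exact four_sq _ _ _ g.1 g.2
  have h3 : orderOf g ∣ 2 := orderOf_dvd_of_pow_eq_one h2
  rw [h1, hcard] at h3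
  have := Nat.le_of_dvd (by norm_num) h3
  omega

open Cfsg.Agent.helper20.Miller in
/-- **Miller for `p = 2`.** -/
theorem pow_dvd_card_orderOf [Finite G] (hQ : IsPGroup 2 G) {z a : G} (hnf : NF z a)
    (s : ℕ) (hs : 3 ≤ s) : 2 ^ s ∣ {x : G | orderOf x = 2 ^ s}.ncard := by
  haveI : Fact (Nat.Prime 2) := ⟨Nat.prime_two⟩
  set E := four z a hnf.2.1 hnf.2.2.2.1 hnf.comm with hE
  haveI hEn : E.Normal := four_normal hnf
  have hEnc : ¬ IsCyclic E := four_not_cyclic hnf
  have hps : 2 ^ s = 2 * 2 ^ (s - 1) := by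
    rw [← pow_succ']
    congr 1
    omega
  have hps4 : 2 ^ s = 4 * 2 ^ (s - 2) := by
    have : s = 2 + (s - 2) := by omega
    conv_lhs => rw [this, pow_add]
    norm_num
  have hw2 : ∀ x : G, orderOf x = 2 ^ s → orderOf (x ^ 2) = 2 ^ (s - 1) := by
    intro x hx
    rw [orderOf_pow_of_dvd (by norm_num) (by rw [hx, hps]; exact dvd_mul_right _ _), hx, hps,
      Nat.mul_div_cancel_left _ (by norm_num)]
  have hw4 : ∀ x : G, orderOf x = 2 ^ s → orderOf (x ^ 4) = 2 ^ (s - 2) := by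
    intro x hx
    rw [orderOf_pow_of_dvd (by norm_num) (by rw [hx, hps4]; exact dvd_mul_right _ _), hx, hps4,
      Nat.mul_div_cancel_left _ (by norm_num)]
  -- the key facts about a block
  have key : ∀ x : G, orderOf x = 2 ^ s → ∀ y : G, x⁻¹ * y ∈ Subgroup.zpowers (x ^ 2) ⊔ E →
      orderOf y = 2 ^ s ∧ Subgroup.zpowers (y ^ 2) ⊔ E = Subgroup.zpowers (x ^ 2) ⊔ E := by
    intro x hx y hy
    obtain ⟨a', ha', e, he, hae⟩ := Subgroup.mem_sup_of_normal_right.mp hy
    rw [← mem_powers_iff_mem_zpowers] at ha'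
    obtain ⟨j, hj⟩ := ha'
    have hj' : (x ^ 2) ^ j = a' := hj
    have hyx : y = x ^ (1 + 2 * j) * e := by
      have : y = x * (a' * e) := by rw [hae]; group
      rw [this, ← hj', ← pow_mul, pow_add, pow_one, mul_assoc]
    have hy4 : y ^ 4 = (x ^ 4) ^ (1 + 2 * j) := by
      rw [hyx, four_pow4 hnf _ e he, ← pow_mul, ← pow_mul, mul_comm]
    have hcop4 : (orderOf (x ^ 4)).Coprime (1 + 2 * j) := by
      rw [hw4 x hx]
      apply Nat.Coprime.pow_left
      exact (Nat.coprime_add_mul_left_right 2 1 j).mpr (Nat.coprime_one_right 2)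
    have hcop2 : (orderOf (x ^ 2)).Coprime (1 + 2 * j) := by
      rw [hw2 x hx]
      apply Nat.Coprime.pow_left
      exact (Nat.coprime_add_mul_left_right 2 1 j).mpr (Nat.coprime_one_right 2)
    have hyo4 : orderOf (y ^ 4) = 2 ^ (s - 2) := by
      rw [hy4, hcop4.orderOf_pow, hw4 x hx]
    have hyo2 : orderOf (y ^ 2) = 2 ^ (s - 1) := by
      have h4 : (y ^ 2) ^ 2 = y ^ 4 := by rw [← pow_mul]
      have := orderOf_eq_of_pow_prime Nat.prime_two (y ^ 2) (s - 2) (by omega) (by rw [h4, hyo4])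
      rw [this]
      congr 1
      omega
    refine ⟨?_, ?_⟩
    · have := orderOf_eq_of_pow_prime Nat.prime_two y (s - 1) (by omega) hyo2
      rw [this]
      congr 1
      omega
    · -- `y ^ 2 = (x ^ 2) ^ (1 + 2 j) * c`
      have hxj2 : (x ^ (1 + 2 * j)) ^ 2 = (x ^ 2) ^ (1 + 2 * j) := by
        rw [← pow_mul, ← pow_mul, mul_comm]
      have hzE : z ∈ E := by
        rw [hE, mem_four]
        right; left; rfl
      have hy2 : ∃ c ∈ E, y ^ 2 = (x ^ 2) ^ (1 + 2 * j) * c := by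
        rcases four_pow2 hnf (x ^ (1 + 2 * j)) e he with h | h
        · exact ⟨1, Subgroup.one_mem _, by rw [hyx, h, hxj2, mul_one]⟩
        · exact ⟨z, hzE, by rw [hyx, h, hxj2]⟩
      obtain ⟨c, hcE, hyc⟩ := hy2
      have hzpow : Subgroup.zpowers ((x ^ 2) ^ (1 + 2 * j)) = Subgroup.zpowers (x ^ 2) := by
        apply Subgroup.eq_of_le_of_card_ge
        · rw [Subgroup.zpowers_le]
          exact Subgroup.pow_mem _ (Subgroup.mem_zpowers _) _
        · rw [Nat.card_zpowers, Nat.card_zpowers, hcop2.orderOf_pow]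
      apply le_antisymm
      · apply sup_le _ le_sup_right
        rw [Subgroup.zpowers_le, hyc]
        apply Subgroup.mul_mem
        · exact (le_sup_left : Subgroup.zpowers (x ^ 2) ≤ _)
            (Subgroup.pow_mem _ (Subgroup.mem_zpowers _) _)
        · exact (le_sup_right : E ≤ _) hcE
      · apply sup_le _ le_sup_right
        rw [← hzpow, Subgroup.zpowers_le]
        have e1 : (x ^ 2) ^ (1 + 2 * j) = y ^ 2 * c⁻¹ := by rw [hyc, mul_inv_cancel_right]
        rw [e1]
        apply Subgroup.mul_mem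
        · exact (le_sup_left : Subgroup.zpowers (y ^ 2) ≤ _) (Subgroup.mem_zpowers _)
        · exact (le_sup_right : E ≤ _) (E.inv_mem hcE)
  refine dvd_ncard_of_blocks (2 ^ s)
    (fun x : G => {y | x⁻¹ * y ∈ Subgroup.zpowers (x ^ 2) ⊔ E}) _ {x : G | orderOf x = 2 ^ s}
    (Set.toFinite _) rfl ?_ ?_ ?_ ?_
  · intro x hx y hy
    exact (key x hx y hy).1
  · intro x _
    show x⁻¹ * x ∈ Subgroup.zpowers (x ^ 2) ⊔ E
    rw [inv_mul_cancel]
    exact Subgroup.one_mem _
  · intro x hx y hy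
    have hK := (key x hx y hy).2
    ext w
    show y⁻¹ * w ∈ Subgroup.zpowers (y ^ 2) ⊔ E ↔ x⁻¹ * w ∈ Subgroup.zpowers (x ^ 2) ⊔ E
    rw [hK]
    have hy' : x⁻¹ * y ∈ Subgroup.zpowers (x ^ 2) ⊔ E := hy
    have e1 : y⁻¹ * w = (x⁻¹ * y)⁻¹ * (x⁻¹ * w) := by group
    rw [e1]
    exact Subgroup.mul_mem_cancel_left _ (Subgroup.inv_mem _ hy')
  · intro x hx
    have hx' : orderOf x = 2 ^ s := hx
    have hw := hw2 x hx'
    have hset : {y | x⁻¹ * y ∈ Subgroup.zpowers (x ^ 2) ⊔ E} =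
        (fun k => x * k) '' ((Subgroup.zpowers (x ^ 2) ⊔ E : Subgroup G) : Set G) := by
      ext w
      constructor
      · intro hw'
        exact ⟨x⁻¹ * w, hw', by group⟩
      · rintro ⟨k, hk, rfl⟩
        show x⁻¹ * (x * k) ∈ Subgroup.zpowers (x ^ 2) ⊔ E
        rw [inv_mul_cancel_left]
        exact hk
    show 2 ^ s ∣ {y | x⁻¹ * y ∈ Subgroup.zpowers (x ^ 2) ⊔ E}.ncard
    rw [hset, Set.ncard_image_of_injective _ (mul_right_injective x)]
    have hcardK : ((Subgroup.zpowers (x ^ 2) ⊔ E : Subgroup G) : Set G).ncard =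
        Nat.card ↥(Subgroup.zpowers (x ^ 2) ⊔ E : Subgroup G) :=
      (Nat.card_coe_set_eq _).symm
    rw [hcardK]
    obtain ⟨n, hn⟩ := (hQ.to_subgroup (Subgroup.zpowers (x ^ 2) ⊔ E)).exists_card_eq
    rw [hn]
    apply Nat.pow_dvd_pow
    have hle : Subgroup.zpowers (x ^ 2) ≤ Subgroup.zpowers (x ^ 2) ⊔ E := le_sup_left
    have hd := Subgroup.card_dvd_of_le hle
    rw [Nat.card_zpowers, hw, hn, Nat.pow_dvd_pow_iff_le_right (by norm_num)] at hd
    by_contra hlt
    have hn' : n = s - 1 := by omega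
    have heq : Subgroup.zpowers (x ^ 2) = Subgroup.zpowers (x ^ 2) ⊔ E := by
      apply Subgroup.eq_of_le_of_card_ge hle
      rw [hn, Nat.card_zpowers, hw, hn']
    have hEle : E ≤ Subgroup.zpowers (x ^ 2) := by
      rw [heq]
      exact le_sup_right
    exact hEnc (Subgroup.isCyclic_of_le hEle)

end Cfsg.Agent.helper17.N4
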