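import Mathlib

set_option autoImplicit false

open scoped Pointwise

/-!
helper17: counting lemmas for Wielandt-style subset counting (for S4237).
-/

namespace Cfsg.Agent.helper17.SC

/-- if all fibers of `π` have `r` elements, the preimage of `Y` has `|Y| * r` elements. -/
theorem card_filter_mem_of_fibers {α Q : Type*} [Fintype α] [DecidableEq α] [DecidableEq Q]
    (π : α → Q) (r : ℕ) (hfib : ∀ y : Q, (Finset.univ.filter (fun x => π x = y)).card = r)
    (Y : Finset Q) : (Finset.univ.filter (fun x => π x ∈ Y)).card = Y.card * r := by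
  rw [Finset.card_eq_sum_card_fiberwise (f := π) (t := Y)]
  · rw [Finset.sum_const_nat]
    intro y hy
    rw [← hfib y]
    congr 1
    ext x
    simp only [Finset.mem_filter, Finset.mem_univ, true_and]
    constructor
    · rintro ⟨_, h⟩; exact h
    · intro h; exact ⟨h ▸ hy, h⟩
  · intro x hx
    simpa using hx

/-- a finset is saturated for `π` -/
def Sat {α Q : Type*} (π : α → Q) (X : Finset α) : Prop :=
  ∀ x ∈ X, ∀ y, π y = π x → y ∈ X

theorem sat_eq_filter {α Q : Type*} [Fintype α] [DecidableEq α] [DecidableEq Q]
    (π : α → Q) (X : Finset α) (hX : Sat π X) :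
    Finset.univ.filter (fun x => π x ∈ X.image π) = X := by
  ext x
  simp only [Finset.mem_filter, Finset.mem_univ, true_and, Finset.mem_image]
  constructor
  · rintro ⟨y, hy, hxy⟩
    exact hX y hy x hxy.symm
  · intro hx
    exact ⟨x, hx, rfl⟩

theorem sat_card {α Q : Type*} [Fintype α] [DecidableEq α] [DecidableEq Q]
    (π : α → Q) (r : ℕ) (hfib : ∀ y : Q, (Finset.univ.filter (fun x => π x = y)).card = r)
    (X : Finset α) (hX : Sat π X) : X.card = (X.image π).card * r := by
  conv_lhs => rw [← sat_eq_filter π X hX]
  exact card_filter_mem_of_fibers π r hfib _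

/-- number of saturated sets of size `k * r` -/
theorem card_sat {α Q : Type*} [Fintype α] [Fintype Q] [DecidableEq α] [DecidableEq Q]
    (π : α → Q) (hsurj : Function.Surjective π) (r : ℕ) (hr : 0 < r)
    (hfib : ∀ y : Q, (Finset.univ.filter (fun x => π x = y)).card = r) (k : ℕ)
    [DecidablePred (Sat π)] :
    ((Finset.univ : Finset (Finset α)).filter (fun X => X.card = k * r ∧ Sat π X)).card
      = (Fintype.card Q).choose k := by
  rw [← Finset.card_univ (α := Q), ← Finset.card_powersetCard]
  apply Finset.card_bij (fun X _ => X.image π)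
  · intro X hX
    simp only [Finset.mem_filter, Finset.mem_univ, true_and] at hX
    rw [Finset.mem_powersetCard]
    refine ⟨Finset.subset_univ _, ?_⟩
    have h := sat_card π r hfib X hX.2
    rw [hX.1] at h
    exact (Nat.eq_of_mul_eq_mul_right hr h).symm
  · intro X hX X' hX' h
    simp only [Finset.mem_filter, Finset.mem_univ, true_and] at hX hX'
    rw [← sat_eq_filter π X hX.2, ← sat_eq_filter π X' hX'.2, h]
  · intro Y hY
    rw [Finset.mem_powersetCard] at hY
    refine ⟨Finset.univ.filter (fun x => π x ∈ Y), ?_, ?_⟩
    · simp only [Finset.mem_filter, Finset.mem_univ, true_and]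
      refine ⟨?_, ?_⟩
      · rw [card_filter_mem_of_fibers π r hfib, hY.2]
      · intro x hx y hy
        simp only [Finset.mem_filter, Finset.mem_univ, true_and] at hx ⊢
        rw [hy]; exact hx
    · ext y
      simp only [Finset.mem_image, Finset.mem_filter, Finset.mem_univ, true_and]
      constructor
      · rintro ⟨x, hx, rfl⟩; exact hx
      · intro hy
        obtain ⟨x, rfl⟩ := hsurj y
        exact ⟨x, hy, rfl⟩

end Cfsg.Agent.helper17.SC
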