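import Mathlib
import Cfsg.Agent.Lib_helper17_SCa

set_option autoImplicit false

open scoped Pointwise

/-!
helper17: invariant subsets under left multiplication by a subgroup (for S4237).
-/

namespace Cfsg.Agent.helper17.SC

theorem sat_iff_le_stabilizer {G : Type*} [Group G] [DecidableEq G] (S : Subgroup G)
    (X : Finset G) :
    Sat (Quotient.mk'' : G → Quotient (QuotientGroup.rightRel S)) X ↔
      S ≤ MulAction.stabilizer G X := by
  constructor
  · intro h s hs
    rw [MulAction.mem_stabilizer_finset']
    intro b hb
    apply h b hb
    apply Quotient.sound'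
    rw [QuotientGroup.rightRel_apply]
    simp only [smul_eq_mul, mul_inv_rev]
    rw [← mul_assoc, mul_inv_cancel, one_mul]
    exact S.inv_mem hs
  · intro h x hx y hy
    have h1 : (QuotientGroup.rightRel S) y x := Quotient.exact' hy
    rw [QuotientGroup.rightRel_apply] at h1
    have h2 : (x * y⁻¹)⁻¹ ∈ MulAction.stabilizer G X := h (S.inv_mem h1)
    rw [MulAction.mem_stabilizer_finset'] at h2
    have h3 := h2 hx
    simpa using h3

theorem card_fiber_rightRel {G : Type*} [Group G] [Fintype G] [DecidableEq G] (S : Subgroup G)
    [DecidableEq (Quotient (QuotientGroup.rightRel S))]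
    (y : Quotient (QuotientGroup.rightRel S)) :
    (Finset.univ.filter (fun x : G =>
      (Quotient.mk'' x : Quotient (QuotientGroup.rightRel S)) = y)).card = Nat.card S := by
  classical
  induction y using Quotient.inductionOn' with
  | h x₀ =>
    rw [Nat.card_eq_fintype_card, ← Finset.card_univ]
    symm
    apply Finset.card_bij (fun (s : S) _ => (s : G) * x₀)
    · intro s _
      simp only [Finset.mem_filter, Finset.mem_univ, true_and]
      apply Quotient.sound'
      rw [QuotientGroup.rightRel_apply]
      simp only [mul_inv_rev]
      rw [← mul_assoc, mul_inv_cancel, one_mul]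
      exact S.inv_mem s.2
    · intro s _ s' _ h
      exact Subtype.ext (mul_right_cancel h)
    · intro x hx
      simp only [Finset.mem_filter, Finset.mem_univ, true_and] at hx
      have h1 : (QuotientGroup.rightRel S) x x₀ := Quotient.exact' hx
      rw [QuotientGroup.rightRel_apply] at h1
      refine ⟨⟨(x₀ * x⁻¹)⁻¹, S.inv_mem h1⟩, Finset.mem_univ _, ?_⟩
      simp

/-- the number of finsets of size `k * |S|` invariant under left multiplication by `S`. -/
theorem card_invariant {G : Type*} [Group G] [Finite G] [DecidableEq G] (S : Subgroup G) (k : ℕ) :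
    Nat.card {X : Finset G // X.card = k * Nat.card S ∧ S ≤ MulAction.stabilizer G X}
      = S.index.choose k := by
  classical
  haveI : Fintype G := Fintype.ofFinite G
  haveI : Fintype (Quotient (QuotientGroup.rightRel S)) := Fintype.ofFinite _
  have key := card_sat (Quotient.mk'' : G → Quotient (QuotientGroup.rightRel S))
    (fun y => Quotient.inductionOn' y (fun x => ⟨x, rfl⟩)) (Nat.card S) Nat.card_pos
    (fun y => card_fiber_rightRel S y) k
  have hQ : Fintype.card (Quotient (QuotientGroup.rightRel S)) = S.index := by
    rw [Subgroup.index_eq_card, ← Nat.card_eq_fintype_card]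
    exact Nat.card_congr (QuotientGroup.quotientRightRelEquivQuotientLeftRel S)
  rw [hQ] at key
  rw [← key, Nat.card_eq_fintype_card, Fintype.card_subtype]
  congr 1
  ext X
  simp only [Finset.mem_filter, Finset.mem_univ, true_and]
  rw [sat_iff_le_stabilizer]

/-- the order of the stabilizer of a finset divides its cardinality. -/
theorem card_stabilizer_dvd {G : Type*} [Group G] [Finite G] [DecidableEq G] (X : Finset G) :
    Nat.card (MulAction.stabilizer G X) ∣ X.card := by
  classical
  haveI : Fintype G := Fintype.ofFinite G
  have h := sat_card (Quotient.mk'' : G → Quotient (QuotientGroup.rightRel (MulAction.stabilizer G X)))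
    (Nat.card (MulAction.stabilizer G X)) (fun y => card_fiber_rightRel _ y) X
    ((sat_iff_le_stabilizer _ X).mpr le_rfl)
  exact Dvd.intro_left _ h.symm

end Cfsg.Agent.helper17.SC
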