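import Mathlib
import Cfsg.Agent.Lib_helper17_SCb

set_option autoImplicit false

open scoped Pointwise

/-!
helper17: orbit divisibility lemma (for S4237).
-/

namespace Cfsg.Agent.helper17.SC

/-- an invariant finset all of whose orbits have size divisible by `D` has size divisible by `D`. -/
theorem dvd_card_of_orbits {G β : Type*} [Group G] [MulAction G β] [DecidableEq β]
    (D : ℕ) : ∀ (n : ℕ) (A : Finset β), A.card = n → (∀ g : G, ∀ x ∈ A, g • x ∈ A) →
    (∀ x ∈ A, D ∣ Nat.card (MulAction.orbit G x)) → D ∣ A.card := by
  classical
  intro n
  induction n using Nat.strong_induction_on with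
  | _ n ih =>
    intro A hn hinv hD
    rcases A.eq_empty_or_nonempty with hA | ⟨x, hx⟩
    · rw [hA]; simp
    · set O := A.filter (fun y => y ∈ MulAction.orbit G x) with hO
      set A' := A.filter (fun y => ¬ y ∈ MulAction.orbit G x) with hA'
      have hsplit : O.card + A'.card = A.card :=
        Finset.card_filter_add_card_filter_not (fun y => y ∈ MulAction.orbit G x)
      have hOset : (↑O : Set β) = MulAction.orbit G x := by
        ext y
        simp only [hO, Finset.coe_filter, Set.mem_setOf_eq]
        constructor
        · rintro ⟨_, h⟩; exact h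
        · intro h
          refine ⟨?_, h⟩
          obtain ⟨g, rfl⟩ := h
          exact hinv g x hx
      have hOcard : O.card = Nat.card (MulAction.orbit G x) := by
        rw [← hOset, Nat.card_coe_set_eq, Set.ncard_coe_finset]
      have hxO : x ∈ O := by
        simp only [hO, Finset.mem_filter]
        exact ⟨hx, MulAction.mem_orbit_self x⟩
      have hOpos : 0 < O.card := Finset.card_pos.mpr ⟨x, hxO⟩
      have hlt : A'.card < n := by omega
      have hA'inv : ∀ g : G, ∀ y ∈ A', g • y ∈ A' := by
        intro g y hy
        simp only [hA', Finset.mem_filter] at hy ⊢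
        refine ⟨hinv g y hy.1, ?_⟩
        intro h
        apply hy.2
        have : y = g⁻¹ • (g • y) := by simp
        rw [this]
        exact MulAction.mem_orbit_of_mem_orbit g⁻¹ h
      have hA'D : ∀ y ∈ A', D ∣ Nat.card (MulAction.orbit G y) := by
        intro y hy
        exact hD y (Finset.mem_of_mem_filter y hy)
      have h1 := ih A'.card hlt A' rfl hA'inv hA'D
      have h2 : D ∣ O.card := by rw [hOcard]; exact hD x hx
      rw [← hsplit]
      exact Dvd.dvd.add h2 h1

theorem card_stabilizer_smul {G : Type*} [Group G] [Finite G] [DecidableEq G] (g : G)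
    (X : Finset G) :
    Nat.card (MulAction.stabilizer G (g • X)) = Nat.card (MulAction.stabilizer G X) := by
  rw [MulAction.stabilizer_smul_eq_stabilizer_map_conj]
  exact Subgroup.card_map_of_injective (MulAut.conj g).injective

end Cfsg.Agent.helper17.SC
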