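import Mathlib
import Cfsg.Agent.Lib_helper17_SCc

set_option autoImplicit false
set_option maxHeartbeats 1000000

open scoped Pointwise

/-!
helper17: the main Wielandt-type counting identity (for S4237).
-/

namespace Cfsg.Agent.helper17.SC

theorem W_main {G : Type*} [Group G] [Finite G] (p a M : ℕ) (hp : p.Prime)
    (hN : Nat.card G = p ^ (a + 1) * M) :
    ∃ k : ℤ, (((Nat.card G).choose (p ^ (a + 1)) : ℕ) : ℤ)
      - (Nat.card {S : Subgroup G // Nat.card S = p ^ a} : ℤ) * (((p * M).choose p : ℕ) : ℤ)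
      = (M : ℤ) * (∑ᶠ T : {T : Subgroup G // Nat.card T = p ^ (a + 1)},
          (1 - (Nat.card {S : Subgroup G // Nat.card S = p ^ a ∧ S ≤ T.1} : ℤ)))
        + (p : ℤ) ^ 2 * M * k := by
  classical
  haveI : Fintype G := Fintype.ofFinite G
  haveI : Fintype (Subgroup G) := Fintype.ofFinite _
  have hqr : p ^ (a + 1) = p * p ^ a := by rw [pow_succ, mul_comm]
  have hrpos : 0 < p ^ a := pow_pos hp.pos a
  have hMpos : 0 < M := by
    rcases Nat.eq_zero_or_pos M with h | h
    · rw [h, mul_zero] at hN; exact absurd hN (Nat.card_pos.ne')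
    · exact h
  -- the stabilizer, the family of subsets, and the counting functions
  set L : Finset G → Subgroup G := fun X => MulAction.stabilizer G X with hL
  set 𝒳 : Finset (Finset G) := Finset.powersetCard (p ^ (a + 1)) Finset.univ with h𝒳
  set mm : Subgroup G → ℕ := fun T => Nat.card {S : Subgroup G // Nat.card S = p ^ a ∧ S ≤ T}
    with hmm
  set 𝒮 : Finset (Subgroup G) := Finset.univ.filter (fun S => Nat.card S = p ^ a) with h𝒮
  set 𝒯 : Finset (Subgroup G) := Finset.univ.filter (fun T => Nat.card T = p ^ (a + 1)) with h𝒯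
  have h𝒳card : 𝒳.card = (Nat.card G).choose (p ^ (a + 1)) := by
    rw [h𝒳, Finset.card_powersetCard, Finset.card_univ, Nat.card_eq_fintype_card]
  have hXcard : ∀ X ∈ 𝒳, X.card = p ^ (a + 1) := by
    intro X hX
    exact (Finset.mem_powersetCard.mp hX).2
  have hmemX : ∀ X : Finset G, X ∈ 𝒳 ↔ X.card = p ^ (a + 1) := by
    intro X
    rw [h𝒳, Finset.mem_powersetCard]
    exact ⟨fun h => h.2, fun h => ⟨Finset.subset_univ _, h⟩⟩
  have hdiv : ∀ X ∈ 𝒳, Nat.card (L X) ∣ p ^ (a + 1) := by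
    intro X hX
    rw [← hXcard X hX]
    exact card_stabilizer_dvd X
  have hmmS : ∀ T : Subgroup G, mm T = (𝒮.filter (fun S => S ≤ T)).card := by
    intro T
    rw [hmm]
    simp only
    rw [Nat.card_eq_fintype_card, Fintype.card_subtype]
    congr 1
    ext S
    simp [h𝒮]
  -- (i) double counting
  have hdc : ∑ X ∈ 𝒳, mm (L X) = 𝒮.card * (p * M).choose p := by
    have h1 : ∑ X ∈ 𝒳, mm (L X) = ∑ X ∈ 𝒳, (𝒮.filter (fun S => S ≤ L X)).card :=
      Finset.sum_congr rfl (fun X _ => hmmS (L X))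
    rw [h1]
    have h2 := Finset.sum_card_bipartiteAbove_eq_sum_card_bipartiteBelow (s := 𝒳) (t := 𝒮)
      (r := fun X S => S ≤ L X)
    simp only [Finset.bipartiteAbove, Finset.bipartiteBelow] at h2
    rw [h2]
    rw [Finset.sum_const_nat (m := (p * M).choose p), ]
    intro S hS
    have hS' : Nat.card S = p ^ a := by simpa [h𝒮] using hS
    have hidx : S.index = p * M := by
      have h3 := Subgroup.card_mul_index S
      rw [hS', hN, hqr] at h3
      have : p ^ a * S.index = p ^ a * (p * M) := by rw [h3]; ring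
      exact Nat.eq_of_mul_eq_mul_left hrpos this
    rw [← hidx, ← card_invariant S p, Nat.card_eq_fintype_card, Fintype.card_subtype]
    congr 1
    ext X
    simp only [Finset.mem_filter, Finset.mem_univ, true_and, hmemX, hS', hqr, hL]
  -- evaluation of `mm (L X)` in the three cases
  have hcase1 : ∀ X ∈ 𝒳, Nat.card (L X) = p ^ a → mm (L X) = 1 := by
    intro X _ hc
    rw [hmm]
    simp only
    rw [Nat.card_eq_one_iff_unique]
    refine ⟨⟨?_⟩, ⟨⟨L X, hc, le_rfl⟩⟩⟩
    rintro ⟨S, hS1, hS2⟩ ⟨S', hS1', hS2'⟩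
    apply Subtype.ext
    simp only
    have e1 : S = L X := Subgroup.eq_of_le_of_card_ge hS2 (by rw [hc, hS1])
    have e2 : S' = L X := Subgroup.eq_of_le_of_card_ge hS2' (by rw [hc, hS1'])
    rw [e1, e2]
  have hpow : ∀ X ∈ 𝒳, ∃ k, k ≤ a + 1 ∧ Nat.card (L X) = p ^ k := by
    intro X hX
    exact (Nat.dvd_prime_pow hp).mp (hdiv X hX)
  have hcase2 : ∀ X ∈ 𝒳, Nat.card (L X) ≠ p ^ (a + 1) → Nat.card (L X) ≠ p ^ a →
      mm (L X) = 0 ∧ ∃ k, k + 2 ≤ a + 1 ∧ Nat.card (L X) = p ^ k := by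
    intro X hX h1 h2
    obtain ⟨k, hk, hck⟩ := hpow X hX
    have hk2 : k + 2 ≤ a + 1 := by
      by_contra hcon
      have : k = a + 1 ∨ k = a := by omega
      rcases this with rfl | rfl
      · exact h1 hck
      · exact h2 hck
    refine ⟨?_, k, hk2, hck⟩
    rw [hmm]
    simp only
    rw [Nat.card_eq_zero]
    left
    constructor
    rintro ⟨S, hS1, hS2⟩
    have hd := Subgroup.card_dvd_of_le hS2
    rw [hS1, hck] at hd
    have := (Nat.pow_dvd_pow_iff_le_right hp.one_lt).mp hd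
    omega
  -- (iii) the third family
  set 𝒳₂ : Finset (Finset G) :=
    𝒳.filter (fun X => Nat.card (L X) ≠ p ^ (a + 1) ∧ Nat.card (L X) ≠ p ^ a) with h𝒳₂
  have hX2dvd : p ^ 2 * M ∣ 𝒳₂.card := by
    apply dvd_card_of_orbits (G := G) (p ^ 2 * M) 𝒳₂.card 𝒳₂ rfl
    · intro g X hX
      rw [h𝒳₂, Finset.mem_filter] at hX ⊢
      refine ⟨?_, ?_⟩
      · rw [hmemX, Finset.card_smul_finset]
        exact (hmemX X).mp hX.1
      · simp only [hL] at hX ⊢
        rw [card_stabilizer_smul]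
        exact hX.2
    · intro X hX
      rw [h𝒳₂, Finset.mem_filter] at hX
      obtain ⟨_, k, hk2, hck⟩ := hcase2 X hX.1 hX.2.1 hX.2.2
      have h3 := MulAction.card_orbit_mul_card_stabilizer_eq_card_group G X
      simp only [← Nat.card_eq_fintype_card] at h3
      simp only [hL] at hck
      rw [hck, hN] at h3
      have h4 : p ^ (a + 1) = p ^ (a + 1 - (k + 2)) * p ^ 2 * p ^ k := by
        rw [← pow_add, ← pow_add]
        congr 1
        omega
      rw [h4] at h3
      have h5 : Nat.card (MulAction.orbit G X) * p ^ k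
          = (p ^ (a + 1 - (k + 2)) * p ^ 2 * M) * p ^ k := by rw [h3]; ring
      have h6 := Nat.eq_of_mul_eq_mul_right (pow_pos hp.pos k) h5
      rw [h6]
      exact ⟨p ^ (a + 1 - (k + 2)), by ring⟩
  obtain ⟨k2, hk2⟩ := hX2dvd
  -- (ii) the family of cosets
  have hfib : ∀ T ∈ 𝒯, ((𝒳.filter (fun X => Nat.card (L X) = p ^ (a + 1))).filter
      (fun X => L X = T)).card = M := by
    intro T hT
    have hT' : Nat.card T = p ^ (a + 1) := by simpa [h𝒯] using hT
    have hidx : T.index = M := by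
      have h3 := Subgroup.card_mul_index T
      rw [hT', hN] at h3
      exact Nat.eq_of_mul_eq_mul_left (pow_pos hp.pos _) h3
    have h4 := card_invariant T 1
    rw [hidx, Nat.choose_one_right, one_mul, hT', Nat.card_eq_fintype_card,
      Fintype.card_subtype] at h4
    rw [← h4]
    congr 1
    ext X
    simp only [Finset.mem_filter, Finset.mem_univ, true_and, hmemX]
    constructor
    · rintro ⟨⟨h1, _⟩, h3⟩
      exact ⟨h1, by rw [← h3]⟩
    · rintro ⟨h1, h2⟩
      have hX : X ∈ 𝒳 := (hmemX X).mpr h1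
      have h5 : Nat.card (L X) ≤ p ^ (a + 1) := Nat.le_of_dvd (pow_pos hp.pos _) (hdiv X hX)
      have h6 : T = L X := Subgroup.eq_of_le_of_card_ge h2 (by rw [hT']; exact h5)
      refine ⟨⟨h1, ?_⟩, h6.symm⟩
      rw [← h6, hT']
  -- the sum of weights
  have hsum1 : ∑ X ∈ 𝒳, ((1 : ℤ) - (mm (L X) : ℤ))
      = ((Nat.card G).choose (p ^ (a + 1)) : ℤ) - (𝒮.card : ℤ) * ((p * M).choose p : ℤ) := by
    rw [Finset.sum_sub_distrib, Finset.sum_const, ← Nat.cast_sum, hdc, h𝒳card]
    simp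
  have hsum2 : ∑ X ∈ 𝒳, ((1 : ℤ) - (mm (L X) : ℤ))
      = ∑ T ∈ 𝒯, (M : ℤ) * (1 - (mm T : ℤ)) + (𝒳₂.card : ℤ) := by
    rw [← Finset.sum_filter_add_sum_filter_not 𝒳 (fun X => Nat.card (L X) = p ^ (a + 1))]
    congr 1
    · rw [← Finset.sum_fiberwise_of_maps_to (s := 𝒳.filter (fun X => Nat.card (L X) = p ^ (a + 1)))
        (t := 𝒯) (g := L)]
      · apply Finset.sum_congr rfl
        intro T hT
        have h7 : ∀ X ∈ (𝒳.filter (fun X => Nat.card (L X) = p ^ (a + 1))).filter
            (fun X => L X = T), ((1 : ℤ) - (mm (L X) : ℤ)) = 1 - (mm T : ℤ) := by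
          intro X hX
          rw [(Finset.mem_filter.mp hX).2]
        rw [Finset.sum_congr rfl h7, Finset.sum_const, hfib T hT]
        simp
      · intro X hX
        rw [Finset.mem_filter] at hX
        simp only [h𝒯, Finset.mem_filter, Finset.mem_univ, true_and]
        exact hX.2
    · rw [← Finset.sum_filter_add_sum_filter_not
        (𝒳.filter (fun X => ¬ Nat.card (L X) = p ^ (a + 1))) (fun X => Nat.card (L X) = p ^ a)]
      have hz : ∑ X ∈ (𝒳.filter (fun X => ¬ Nat.card (L X) = p ^ (a + 1))).filter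
          (fun X => Nat.card (L X) = p ^ a), ((1 : ℤ) - (mm (L X) : ℤ)) = 0 := by
        apply Finset.sum_eq_zero
        intro X hX
        rw [Finset.mem_filter, Finset.mem_filter] at hX
        rw [hcase1 X hX.1.1 hX.2]
        simp
      rw [hz, zero_add]
      have hone : ∀ X ∈ (𝒳.filter (fun X => ¬ Nat.card (L X) = p ^ (a + 1))).filter
          (fun X => ¬ Nat.card (L X) = p ^ a), ((1 : ℤ) - (mm (L X) : ℤ)) = 1 := by
        intro X hX
        rw [Finset.mem_filter, Finset.mem_filter] at hX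
        rw [(hcase2 X hX.1.1 hX.1.2 hX.2).1]
        simp
      rw [Finset.sum_congr rfl hone, Finset.sum_const]
      simp only [nsmul_eq_mul, mul_one, Nat.cast_inj]
      congr 1
      rw [h𝒳₂, Finset.filter_filter]
  -- conclusion
  refine ⟨k2, ?_⟩
  have h𝒮card : (Nat.card {S : Subgroup G // Nat.card S = p ^ a}) = 𝒮.card := by
    rw [Nat.card_eq_fintype_card, Fintype.card_subtype]
  have hfin : (∑ᶠ T : {T : Subgroup G // Nat.card T = p ^ (a + 1)},
      (1 - (Nat.card {S : Subgroup G // Nat.card S = p ^ a ∧ S ≤ T.1} : ℤ)))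
      = ∑ T ∈ 𝒯, ((1 : ℤ) - (mm T : ℤ)) := by
    rw [finsum_eq_sum_of_fintype]
    rw [Finset.sum_subtype 𝒯 (p := fun T : Subgroup G => Nat.card T = p ^ (a + 1))
      (fun T => by simp [h𝒯]) (fun T : Subgroup G => (1 : ℤ) - (mm T : ℤ))]
  rw [h𝒮card, hfin, ← hsum1, hsum2, hk2, Finset.mul_sum]
  push_cast
  ring

end Cfsg.Agent.helper17.SC
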