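import Mathlib
import Cfsg.Agent.Lib_helper17_SCd

set_option autoImplicit false
set_option maxHeartbeats 1000000

/-!
helper17: comparison with the cyclic group; the key congruence (for S4237).
-/

namespace Cfsg.Agent.helper17.SC

/-- in a finite cyclic group two subgroups of the same order are equal. -/
theorem cyclic_subgroup_unique {C : Type*} [Group C] [Finite C] [IsCyclic C]
    (H K : Subgroup C) (h : Nat.card H = Nat.card K) : H = K := by
  classical
  haveI : Fintype C := Fintype.ofFinite C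
  set d := Nat.card H with hd
  have hdpos : 0 < d := Nat.card_pos
  set F : Finset C := Finset.univ.filter (fun a : C => a ^ d = 1) with hF
  have hFle : F.card ≤ d := IsCyclic.card_pow_eq_one_le hdpos
  have key : ∀ J : Subgroup C, Nat.card J = d → ∀ x, x ∈ J ↔ x ∈ F := by
    intro J hJ
    have hsub : (Finset.univ.filter (fun a : C => a ∈ J)) ⊆ F := by
      intro x hx
      simp only [Finset.mem_filter, Finset.mem_univ, true_and] at hx
      simp only [hF, Finset.mem_filter, Finset.mem_univ, true_and]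
      have := pow_card_eq_one' (G := J) (x := ⟨x, hx⟩)
      rw [hJ] at this
      have h2 := congrArg (Subtype.val) this
      simpa using h2
    have hcard : (Finset.univ.filter (fun a : C => a ∈ J)).card = d := by
      rw [← hJ, Nat.card_eq_fintype_card, Fintype.card_subtype]
    have heq := Finset.eq_of_subset_of_card_le hsub (by rw [hcard]; exact hFle)
    intro x
    rw [← heq]
    simp
  ext x
  rw [key H rfl x, key K h.symm x]

/-- in a finite cyclic group there is exactly one subgroup of order `p ^ n` when `p ^ n` divides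
the order. -/
theorem cyclic_card_subgroups {C : Type*} [Group C] [Finite C] [IsCyclic C] (p n : ℕ)
    [Fact p.Prime] (hdvd : p ^ n ∣ Nat.card C) :
    Nat.card {S : Subgroup C // Nat.card S = p ^ n} = 1 := by
  rw [Nat.card_eq_one_iff_unique]
  obtain ⟨K, hK⟩ := Sylow.exists_subgroup_card_pow_prime p hdvd
  refine ⟨⟨?_⟩, ⟨⟨K, hK⟩⟩⟩
  rintro ⟨S, hS⟩ ⟨S', hS'⟩
  apply Subtype.ext
  exact cyclic_subgroup_unique S S' (by rw [hS, hS'])

theorem cyclic_card_subgroups_le {C : Type*} [Group C] [Finite C] [IsCyclic C] (p n : ℕ)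
    [Fact p.Prime] (T : Subgroup C) (hT : p ^ n ∣ Nat.card T) :
    Nat.card {S : Subgroup C // Nat.card S = p ^ n ∧ S ≤ T} = 1 := by
  rw [Nat.card_eq_one_iff_unique]
  obtain ⟨K, hK⟩ := Sylow.exists_subgroup_card_pow_prime p hT
  refine ⟨⟨?_⟩, ⟨⟨K.map T.subtype, ?_, Subgroup.map_subtype_le K⟩⟩⟩
  · rintro ⟨S, hS, _⟩ ⟨S', hS', _⟩
    apply Subtype.ext
    exact cyclic_subgroup_unique S S' (by rw [hS, hS'])
  · rw [Subgroup.card_map_of_injective T.subtype_injective, hK]

/-- the purely arithmetic consequence of `W_main` for the cyclic group. -/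
theorem choose_congr (p a M : ℕ) (hp : p.Prime) (hM : 0 < M) :
    ∃ k : ℤ, (((p ^ (a + 1) * M).choose (p ^ (a + 1)) : ℕ) : ℤ) - (((p * M).choose p : ℕ) : ℤ)
      = (p : ℤ) ^ 2 * M * k := by
  haveI : Fact p.Prime := ⟨hp⟩
  set N := p ^ (a + 1) * M with hN
  have hNpos : 0 < N := Nat.mul_pos (pow_pos hp.pos _) hM
  haveI : NeZero N := ⟨hNpos.ne'⟩
  have hcard : Nat.card (Multiplicative (ZMod N)) = p ^ (a + 1) * M := by
    rw [Nat.card_eq_fintype_card, Fintype.card_multiplicative, ZMod.card]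
  obtain ⟨k, hk⟩ := W_main (G := Multiplicative (ZMod N)) p a M hp hcard
  refine ⟨k, ?_⟩
  have h1 : Nat.card {S : Subgroup (Multiplicative (ZMod N)) // Nat.card S = p ^ a} = 1 := by
    apply cyclic_card_subgroups
    rw [hcard]
    exact Dvd.dvd.mul_right (pow_dvd_pow p (Nat.le_succ a)) M
  have h2 : (∑ᶠ T : {T : Subgroup (Multiplicative (ZMod N)) // Nat.card T = p ^ (a + 1)},
          (1 - (Nat.card {S : Subgroup (Multiplicative (ZMod N)) //
            Nat.card S = p ^ a ∧ S ≤ T.1} : ℤ))) = 0 := by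
    apply finsum_eq_zero_of_forall_eq_zero
    rintro ⟨T, hT⟩
    rw [cyclic_card_subgroups_le p a T (by rw [hT]; exact pow_dvd_pow p (Nat.le_succ a))]
    simp
  rw [h1, h2, hcard] at hk
  simp only [Nat.cast_one, one_mul, mul_zero, zero_add] at hk
  exact hk

theorem choose_pred_modEq_one (p M : ℕ) (hp : p.Prime) (hM : 0 < M) :
    (p * M - 1).choose (p - 1) ≡ 1 [MOD p] := by
  haveI : Fact p.Prime := ⟨hp⟩
  have h := Choose.choose_modEq_choose_mod_mul_choose_div_nat (n := p * M - 1) (k := p - 1) (p := p)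
  have hp1 : 1 ≤ p := hp.pos
  have e1 : p * M - 1 = (p - 1) + p * (M - 1) := by
    obtain ⟨M', rfl⟩ : ∃ M', M = M' + 1 := ⟨M - 1, by omega⟩
    have : p * (M' + 1) = p * M' + p := by ring
    simp only [Nat.add_sub_cancel]
    omega
  have e2 : (p * M - 1) % p = p - 1 := by
    rw [e1, Nat.add_mul_mod_self_left, Nat.mod_eq_of_lt (by omega)]
  have e3 : (p * M - 1) / p = M - 1 := by
    rw [e1, Nat.add_mul_div_left _ _ hp.pos, Nat.div_eq_of_lt (by omega), zero_add]
  have e4 : (p - 1) % p = p - 1 := Nat.mod_eq_of_lt (by omega)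
  have e5 : (p - 1) / p = 0 := Nat.div_eq_of_lt (by omega)
  rw [e2, e3, e4, e5] at h
  simpa using h

theorem choose_mul_eq (p M : ℕ) (hp : p.Prime) (hM : 0 < M) :
    (p * M).choose p = M * (p * M - 1).choose (p - 1) := by
  have h := Nat.add_one_mul_choose_eq (p * M - 1) (p - 1)
  have hpM : 0 < p * M := Nat.mul_pos hp.pos hM
  have e1 : (p * M - 1) + 1 = p * M := by omega
  have e2 : (p - 1) + 1 = p := by have := hp.pos; omega
  rw [e1, e2] at h
  have : p * (M * (p * M - 1).choose (p - 1)) = p * (p * M).choose p := by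
    rw [← mul_assoc, h, mul_comm]
  exact (Nat.eq_of_mul_eq_mul_left hp.pos this).symm

/-- **Key congruence.** -/
theorem key_congr {G : Type*} [Group G] [Finite G] (p a M : ℕ) (hp : p.Prime)
    (hN : Nat.card G = p ^ (a + 1) * M) :
    ∃ k : ℤ, ((Nat.card {S : Subgroup G // Nat.card S = p ^ a} : ℤ) - 1)
        * (((p * M - 1).choose (p - 1) : ℕ) : ℤ)
      = (∑ᶠ T : {T : Subgroup G // Nat.card T = p ^ (a + 1)},
          ((Nat.card {S : Subgroup G // Nat.card S = p ^ a ∧ S ≤ T.1} : ℤ) - 1))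
        + (p : ℤ) ^ 2 * k := by
  have hMpos : 0 < M := by
    rcases Nat.eq_zero_or_pos M with h | h
    · rw [h, mul_zero] at hN; exact absurd hN (Nat.card_pos.ne')
    · exact h
  obtain ⟨k1, hk1⟩ := W_main (G := G) p a M hp hN
  obtain ⟨k0, hk0⟩ := choose_congr p a M hp hMpos
  rw [hN] at hk1
  rw [choose_mul_eq p M hp hMpos] at hk1 hk0
  set s : ℤ := (Nat.card {S : Subgroup G // Nat.card S = p ^ a} : ℤ) with hs
  set u : ℤ := (((p * M - 1).choose (p - 1) : ℕ) : ℤ) with hu
  set Sg1 : ℤ := (∑ᶠ T : {T : Subgroup G // Nat.card T = p ^ (a + 1)},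
          (1 - (Nat.card {S : Subgroup G // Nat.card S = p ^ a ∧ S ≤ T.1} : ℤ))) with hSg1
  have hneg : (∑ᶠ T : {T : Subgroup G // Nat.card T = p ^ (a + 1)},
          ((Nat.card {S : Subgroup G // Nat.card S = p ^ a ∧ S ≤ T.1} : ℤ) - 1)) = - Sg1 := by
    rw [hSg1, ← finsum_neg_distrib]
    apply finsum_congr
    intro T
    ring
  rw [hneg]
  refine ⟨k0 - k1, ?_⟩
  push_cast at hk1 hk0
  have hM0 : (M : ℤ) ≠ 0 := by exact_mod_cast hMpos.ne'
  have : (M : ℤ) * ((s - 1) * u) = (M : ℤ) * (-Sg1 + (p : ℤ) ^ 2 * (k0 - k1)) := by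
    linear_combination hk0 - hk1
  exact mul_left_cancel₀ hM0 this

end Cfsg.Agent.helper17.SC
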