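import Mathlib
import Cfsg.Agent.Lib_helper17_SCe

set_option autoImplicit false
set_option maxHeartbeats 1000000

/-!
helper17: the number of subgroups of index `p` of a `p`-group modulo `p ^ 2` (for S4237).
-/

namespace Cfsg.Agent.helper17.SC

theorem card_Cp (p : ℕ) [Fact p.Prime] : Nat.card (Multiplicative (ZMod p)) = p := by
  rw [Nat.card_eq_fintype_card, Fintype.card_multiplicative, ZMod.card]

theorem finite_hom (P : Type*) [Group P] [Finite P] (p : ℕ) [Fact p.Prime] :
    Finite (P →* Multiplicative (ZMod p)) :=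
  Finite.of_injective (fun φ => (φ : P → Multiplicative (ZMod p))) DFunLike.coe_injective

theorem hom_isPGroup (P : Type*) [Group P] (p : ℕ) [Fact p.Prime] :
    IsPGroup p (P →* Multiplicative (ZMod p)) := by
  intro φ
  refine ⟨1, ?_⟩
  ext x
  rw [pow_one, MonoidHom.pow_apply, MonoidHom.one_apply]
  have := pow_card_eq_one' (G := Multiplicative (ZMod p)) (x := φ x)
  rwa [card_Cp] at this

/-- a homomorphism onto a group of prime order with kernel of index `p` is surjective. -/
theorem surj_of_ker_index {P : Type*} [Group P] (p : ℕ) [Fact p.Prime]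
    (φ : P →* Multiplicative (ZMod p)) (h : φ.ker.index = p) : Function.Surjective φ := by
  rw [← MonoidHom.range_eq_top]
  apply Subgroup.eq_top_of_card_eq
  rw [← Subgroup.index_ker, h, card_Cp]

theorem qkes_mk {P H : Type*} [Group P] [Group H] (φ : P →* H) (h : Function.Surjective φ)
    (x : P) : (QuotientGroup.quotientKerEquivOfSurjective φ h) (QuotientGroup.mk x) = φ x := rfl

theorem card_fiber_ker {P : Type*} [Group P] [Finite P] (p : ℕ) [hp : Fact p.Prime]
    (S : Subgroup P) [S.Normal] (hS : S.index = p) :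
    Nat.card {φ : P →* Multiplicative (ZMod p) // φ.ker = S} = p - 1 := by
  have hQ : Nat.card (P ⧸ S) = p := by rw [← Subgroup.index_eq_card, hS]
  let e₀ : P ⧸ S ≃* Multiplicative (ZMod p) := mulEquivOfPrimeCardEq hQ (card_Cp p)
  have hcyc : IsCyclic (Multiplicative (ZMod p)) := isCyclic_of_prime_card (card_Cp p)
  have h1 : Nat.card (MulAut (Multiplicative (ZMod p))) = p - 1 := by
    rw [IsCyclic.card_mulAut, card_Cp, Nat.totient_prime hp.out]
  rw [← h1]
  apply Nat.card_congr
  refine
    { toFun := fun φ => e₀.symm.trans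
        ((QuotientGroup.quotientMulEquivOfEq φ.2.symm).trans
          (QuotientGroup.quotientKerEquivOfSurjective φ.1
            (surj_of_ker_index p φ.1 (by rw [φ.2]; exact hS))))
      invFun := fun σ => ⟨((e₀.trans σ).toMonoidHom).comp (QuotientGroup.mk' S), by
        ext x
        simp only [MonoidHom.mem_ker, MonoidHom.coe_comp, MulEquiv.coe_toMonoidHom,
          Function.comp_apply, QuotientGroup.mk'_apply]
        rw [MulEquiv.map_eq_one_iff, QuotientGroup.eq_one_iff]⟩
      left_inv := ?_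
      right_inv := ?_ }
  · rintro ⟨φ, hφ⟩
    apply Subtype.ext
    ext x
    simp only [MulEquiv.toMonoidHom_eq_coe, MonoidHom.coe_comp, MonoidHom.coe_coe,
      Function.comp_apply, QuotientGroup.mk'_apply, MulEquiv.trans_apply,
      MulEquiv.symm_apply_apply, QuotientGroup.quotientMulEquivOfEq_mk, qkes_mk]
  · intro σ
    apply MulEquiv.ext
    intro y
    obtain ⟨z, rfl⟩ := e₀.surjective y
    induction z using QuotientGroup.induction_on with
    | H x =>
      rw [MulEquiv.trans_apply, MulEquiv.symm_apply_apply, MulEquiv.trans_apply,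
        QuotientGroup.quotientMulEquivOfEq_mk, qkes_mk]
      rfl

end Cfsg.Agent.helper17.SC

namespace Cfsg.Agent.helper17.SC

theorem card_ker_of_ne_one {P : Type*} [Group P] [Finite P] (p n : ℕ) [hp : Fact p.Prime]
    (hP : Nat.card P = p ^ (n + 1)) (φ : P →* Multiplicative (ZMod p)) (hφ : φ ≠ 1) :
    Nat.card φ.ker = p ^ n := by
  have h1 : Nat.card φ.range ∣ p := by
    have := Subgroup.card_subgroup_dvd_card φ.range
    rwa [card_Cp] at this
  have h2 : Nat.card φ.range ≠ 1 := by
    intro h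
    apply hφ
    rw [Subgroup.card_eq_one, MonoidHom.range_eq_bot_iff] at h
    exact h
  have h3 : Nat.card φ.range = p := by
    rcases (Nat.dvd_prime hp.out).mp h1 with h | h
    · exact absurd h h2
    · exact h
  have h4 := Subgroup.card_mul_index φ.ker
  rw [Subgroup.index_ker, h3, hP, pow_succ] at h4
  exact Nat.eq_of_mul_eq_mul_right hp.out.pos h4

theorem index_of_card {P : Type*} [Group P] [Finite P] (p n : ℕ) [hp : Fact p.Prime]
    (hP : Nat.card P = p ^ (n + 1)) (S : Subgroup P) (hS : Nat.card S = p ^ n) : S.index = p := by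
  have h4 := Subgroup.card_mul_index S
  rw [hS, hP, pow_succ] at h4
  exact Nat.eq_of_mul_eq_mul_left (pow_pos hp.out.pos n) h4

theorem normal_of_card {P : Type*} [Group P] [Finite P] (p n : ℕ) [hp : Fact p.Prime]
    (hP : Nat.card P = p ^ (n + 1)) (S : Subgroup P) (hS : Nat.card S = p ^ n) : S.Normal := by
  apply Subgroup.normal_of_index_eq_minFac_card
  rw [index_of_card p n hP S hS, hP, Nat.Prime.pow_minFac hp.out (Nat.succ_ne_zero n)]

/-- the number `m` of subgroups of index `p` satisfies `m (p - 1) + 1 = p ^ d`. -/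
theorem card_index_subgroups {P : Type*} [Group P] [Finite P] (p n : ℕ) [hp : Fact p.Prime]
    (hP : Nat.card P = p ^ (n + 1)) :
    ∃ d, Nat.card {S : Subgroup P // Nat.card S = p ^ n} * (p - 1) + 1 = p ^ d := by
  classical
  haveI := finite_hom P p
  haveI : Fintype (P →* Multiplicative (ZMod p)) := Fintype.ofFinite _
  haveI : Fintype (Subgroup P) := Fintype.ofFinite _
  obtain ⟨d, hd⟩ := (IsPGroup.iff_card).mp (hom_isPGroup P p)
  refine ⟨d, ?_⟩
  rw [← hd]
  set A' : Finset (P →* Multiplicative (ZMod p)) := Finset.univ.filter (fun φ => φ ≠ 1) with hA'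
  set 𝒮 : Finset (Subgroup P) := Finset.univ.filter (fun S => Nat.card S = p ^ n) with h𝒮
  have h1 : A'.card + 1 = Nat.card (P →* Multiplicative (ZMod p)) := by
    rw [hA', Finset.filter_ne', Finset.card_erase_of_mem (Finset.mem_univ _), Finset.card_univ,
      Nat.card_eq_fintype_card]
    have : 0 < Fintype.card (P →* Multiplicative (ZMod p)) := Fintype.card_pos
    omega
  have h2 : A'.card = ∑ S ∈ 𝒮, (A'.filter (fun φ => φ.ker = S)).card := by
    apply Finset.card_eq_sum_card_fiberwise
    intro φ hφ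
    simp only [hA', Finset.coe_filter, Finset.mem_univ, true_and, Set.mem_setOf_eq] at hφ
    simp only [h𝒮, Finset.coe_filter, Finset.mem_univ, true_and, Set.mem_setOf_eq]
    exact card_ker_of_ne_one p n hP φ hφ
  have h3 : ∀ S ∈ 𝒮, (A'.filter (fun φ => φ.ker = S)).card = p - 1 := by
    intro S hS
    have hS' : Nat.card S = p ^ n := by simpa [h𝒮] using hS
    haveI := normal_of_card p n hP S hS'
    rw [← card_fiber_ker p S (index_of_card p n hP S hS'), Nat.card_eq_fintype_card,
      Fintype.card_subtype]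
    congr 1
    ext φ
    simp only [hA', Finset.mem_filter, Finset.mem_univ, true_and, and_iff_right_iff_imp]
    rintro hker rfl
    rw [MonoidHom.ker_one] at hker
    rw [← hker, Subgroup.card_top, hP] at hS'
    have := Nat.pow_right_injective hp.out.two_le hS'
    omega
  rw [Finset.sum_congr rfl h3, Finset.sum_const, smul_eq_mul] at h2
  have h4 : Nat.card {S : Subgroup P // Nat.card S = p ^ n} = 𝒮.card := by
    rw [Nat.card_eq_fintype_card, Fintype.card_subtype]
  rw [h4, ← h2, h1]

/-- a noncyclic group of order `p ^ (n+1)` has at least two subgroups of index `p`. -/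
theorem cyclic_of_unique_index {P : Type*} [Group P] [Finite P] (p n : ℕ) [hp : Fact p.Prime]
    (hP : Nat.card P = p ^ (n + 1))
    (h1 : Nat.card {S : Subgroup P // Nat.card S = p ^ n} = 1) : IsCyclic P := by
  rw [Nat.card_eq_one_iff_unique] at h1
  obtain ⟨hsub, ⟨⟨S₀, hS₀⟩⟩⟩ := h1
  have hne : S₀ ≠ ⊤ := by
    intro h
    rw [h, Subgroup.card_top, hP] at hS₀
    have := Nat.pow_right_injective hp.out.two_le hS₀
    omega
  obtain ⟨x, hx⟩ : ∃ x : P, x ∉ S₀ := by
    by_contra hcon
    push_neg at hcon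
    exact hne (eq_top_iff.mpr (fun x _ => hcon x))
  rw [isCyclic_iff_exists_zpowers_eq_top]
  refine ⟨x, ?_⟩
  by_contra hx2
  have hPg : IsPGroup p P := IsPGroup.of_card hP
  obtain ⟨k, hk⟩ := (IsPGroup.iff_card).mp (hPg.to_subgroup (Subgroup.zpowers x))
  have hkle : k ≤ n := by
    by_contra hcon
    have h3 : Nat.card (Subgroup.zpowers x) ∣ p ^ (n + 1) := by
      rw [← hP]; exact Subgroup.card_subgroup_dvd_card _
    rw [hk] at h3
    have h4 := (Nat.pow_dvd_pow_iff_le_right hp.out.one_lt).mp h3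
    have h5 : k = n + 1 := by omega
    apply hx2
    apply Subgroup.eq_top_of_card_eq
    rw [hk, h5, hP]
  obtain ⟨K, hK1, hK2⟩ := Sylow.exists_subgroup_card_pow_prime_le p
    (show p ^ n ∣ Nat.card P by rw [hP]; exact pow_dvd_pow p (Nat.le_succ n))
    (Subgroup.zpowers x) hk hkle
  have h6 : (⟨K, hK1⟩ : {S : Subgroup P // Nat.card S = p ^ n}) = ⟨S₀, hS₀⟩ :=
    Subsingleton.elim _ _
  have h7 : K = S₀ := congrArg Subtype.val h6
  apply hx
  rw [← h7]
  exact hK2 (Subgroup.mem_zpowers x)

/-- a noncyclic group of order `p ^ (n+1)` has `≡ 1 + p (mod p ^ 2)` subgroups of index `p`. -/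
theorem card_index_noncyclic {P : Type*} [Group P] [Finite P] (p n : ℕ) [hp : Fact p.Prime]
    (hP : Nat.card P = p ^ (n + 1)) (hnc : ¬ IsCyclic P) :
    ∃ j : ℤ, (Nat.card {S : Subgroup P // Nat.card S = p ^ n} : ℤ) = 1 + p + (p : ℤ) ^ 2 * j := by
  obtain ⟨d, hd⟩ := card_index_subgroups p n hP
  set m := Nat.card {S : Subgroup P // Nat.card S = p ^ n} with hm
  have hp2 : 2 ≤ p := hp.out.two_le
  have hmpos : 0 < m := by
    rw [hm, Nat.card_pos_iff]
    obtain ⟨K, hK⟩ := Sylow.exists_subgroup_card_pow_prime p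
      (show p ^ n ∣ Nat.card P by rw [hP]; exact pow_dvd_pow p (Nat.le_succ n))
    exact ⟨⟨⟨K, hK⟩⟩, inferInstance⟩
  have hd2 : 2 ≤ d := by
    by_contra hcon
    have hd1 : d ≤ 1 := by omega
    have h1 : p ^ d ≤ p := by
      calc p ^ d ≤ p ^ 1 := Nat.pow_le_pow_right hp.out.pos hd1
        _ = p := pow_one p
    have h2 : m * (p - 1) ≤ p - 1 := by omega
    have h3 : m ≤ 1 := by
      by_contra h
      have h4 : 2 ≤ m := by omega
      have h5 : 2 * (p - 1) ≤ m * (p - 1) := Nat.mul_le_mul_right _ h4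
      omega
    have h4 : m = 1 := by omega
    exact hnc (cyclic_of_unique_index p n hP h4)
  obtain ⟨e, rfl⟩ : ∃ e, d = e + 2 := ⟨d - 2, by omega⟩
  refine ⟨(m : ℤ) - (p : ℤ) ^ e * ((p : ℤ) + 1), ?_⟩
  have h1 : ((m * (p - 1) + 1 : ℕ) : ℤ) = ((p ^ (e + 2) : ℕ) : ℤ) := by rw [hd]
  push_cast [Nat.cast_sub (show 1 ≤ p by omega)] at h1
  have h2 : (m : ℤ) * ((p : ℤ) - 1) * ((p : ℤ) + 1) = ((p : ℤ) ^ (e + 2) - 1) * ((p : ℤ) + 1) := by
    rw [← h1]; ring
  linear_combination (-1 : ℤ) * h2

/-- in any case the number of subgroups of index `p` is `≡ 1 (mod p)`. -/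
theorem card_index_modp {P : Type*} [Group P] [Finite P] (p n : ℕ) [hp : Fact p.Prime]
    (hP : Nat.card P = p ^ (n + 1)) :
    ∃ j : ℤ, (Nat.card {S : Subgroup P // Nat.card S = p ^ n} : ℤ) = 1 + (p : ℤ) * j := by
  by_cases hc : IsCyclic P
  · refine ⟨0, ?_⟩
    rw [cyclic_card_subgroups p n (by rw [hP]; exact pow_dvd_pow p (Nat.le_succ n))]
    simp
  · obtain ⟨j, hj⟩ := card_index_noncyclic p n hP hc
    exact ⟨1 + p * j, by rw [hj]; ring⟩

/-- transfer between subgroups of `G` inside `T` and subgroups of `T`. -/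
theorem card_subgroups_le_eq {G : Type*} [Group G] (T : Subgroup G) (n : ℕ) :
    Nat.card {S : Subgroup G // Nat.card S = n ∧ S ≤ T}
      = Nat.card {S' : Subgroup T // Nat.card S' = n} := by
  symm
  apply Nat.card_congr
  refine
    { toFun := fun S' => ⟨S'.1.map T.subtype, by
        rw [Subgroup.card_map_of_injective T.subtype_injective]; exact S'.2,
        Subgroup.map_subtype_le _⟩
      invFun := fun S => ⟨S.1.subgroupOf T, by
        rw [Nat.card_congr (Subgroup.subgroupOfEquivOfLe S.2.2).toEquiv]; exact S.2.1⟩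
      left_inv := ?_
      right_inv := ?_ }
  · intro S'
    apply Subtype.ext
    simp only
    exact Subgroup.comap_map_eq_self_of_injective T.subtype_injective S'.1
  · intro S
    apply Subtype.ext
    simp only
    exact Subgroup.map_subgroupOf_eq_of_le S.2.2

end Cfsg.Agent.helper17.SC
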