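import Mathlib
import Cfsg.Agent.Lib_helper17_SCf

set_option autoImplicit false
set_option maxHeartbeats 1000000

/-!
helper17: the number of subgroups of order `p ^ a` modulo `p ^ 2` in terms of the number of
noncyclic subgroups of order `p ^ (a + 1)` (for S4237).
-/

namespace Cfsg.Agent.helper17.SC

open Classical in
/-- evaluation of a single term. -/
theorem term_eval {G : Type*} [Group G] [Finite G] (p a : ℕ) [hp : Fact p.Prime]
    (T : Subgroup G) (hT : Nat.card T = p ^ (a + 1)) :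
    ∃ j : ℤ, (Nat.card {S : Subgroup G // Nat.card S = p ^ a ∧ S ≤ T} : ℤ) - 1
      = (if IsCyclic T then 0 else (p : ℤ)) + (p : ℤ) ^ 2 * j := by
  rw [card_subgroups_le_eq T (p ^ a)]
  by_cases hc : IsCyclic T
  · refine ⟨0, ?_⟩
    rw [if_pos hc, cyclic_card_subgroups p a (by rw [hT]; exact pow_dvd_pow p (Nat.le_succ a))]
    simp
  · obtain ⟨j, hj⟩ := card_index_noncyclic p a hT hc
    refine ⟨j, ?_⟩
    rw [if_neg hc, hj]
    ring

/-- **Theorem A.** -/
theorem card_subgroups_mod_sq {G : Type*} [Group G] [Finite G] (p a : ℕ) [hp : Fact p.Prime]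
    (hdvd : p ^ (a + 1) ∣ Nat.card G) :
    ∃ k : ℤ, (Nat.card {S : Subgroup G // Nat.card S = p ^ a} : ℤ)
      = 1 + (p : ℤ) * (Nat.card {T : Subgroup G // Nat.card T = p ^ (a + 1) ∧ ¬ IsCyclic T} : ℤ)
        + (p : ℤ) ^ 2 * k := by
  classical
  obtain ⟨M, hM⟩ := hdvd
  have hMpos : 0 < M := by
    rcases Nat.eq_zero_or_pos M with h | h
    · rw [h, mul_zero] at hM; exact absurd hM (Nat.card_pos.ne')
    · exact h
  obtain ⟨k, hk⟩ := key_congr (G := G) p a M hp.out hM
  haveI : Fintype (Subgroup G) := Fintype.ofFinite _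
  haveI : Fintype {T : Subgroup G // Nat.card T = p ^ (a + 1)} := Fintype.ofFinite _
  -- choose the `j`
  have hch : ∀ T : {T : Subgroup G // Nat.card T = p ^ (a + 1)}, ∃ j : ℤ,
      (Nat.card {S : Subgroup G // Nat.card S = p ^ a ∧ S ≤ T.1} : ℤ) - 1
      = (if IsCyclic T.1 then 0 else (p : ℤ)) + (p : ℤ) ^ 2 * j := fun T => term_eval p a T.1 T.2
  choose jf hjf using hch
  rw [finsum_eq_sum_of_fintype, Finset.sum_congr rfl (fun T _ => hjf T), Finset.sum_add_distrib,
    ← Finset.mul_sum] at hk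
  have hite : ∑ T : {T : Subgroup G // Nat.card T = p ^ (a + 1)},
      (if IsCyclic T.1 then 0 else (p : ℤ))
      = (p : ℤ) * (Nat.card {T : Subgroup G // Nat.card T = p ^ (a + 1) ∧ ¬ IsCyclic T} : ℤ) := by
    rw [Finset.sum_ite, Finset.sum_const_zero, zero_add, Finset.sum_const, nsmul_eq_mul, mul_comm]
    congr 2
    rw [Nat.card_eq_fintype_card, ← Fintype.card_subtype]
    apply Fintype.card_congr
    exact
      { toFun := fun T => ⟨T.1.1, T.1.2, T.2⟩
        invFun := fun T => ⟨⟨T.1, T.2.1⟩, T.2.2⟩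
        left_inv := fun T => rfl
        right_inv := fun T => rfl }
  rw [hite] at hk
  -- the unit `u`
  have hu := choose_pred_modEq_one p M hp.out hMpos
  obtain ⟨u', hu'⟩ : ∃ u' : ℤ, (((p * M - 1).choose (p - 1) : ℕ) : ℤ) = 1 + (p : ℤ) * u' := by
    have h1 := (Int.natCast_modEq_iff.mpr hu)
    have h2 := h1.symm.dvd
    obtain ⟨c, hc⟩ := h2
    exact ⟨c, by push_cast at hc ⊢; linarith⟩
  rw [hu'] at hk
  set s : ℤ := (Nat.card {S : Subgroup G // Nat.card S = p ^ a} : ℤ) with hs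
  set nc : ℤ := (Nat.card {T : Subgroup G // Nat.card T = p ^ (a + 1) ∧ ¬ IsCyclic T} : ℤ)
    with hnc
  set J : ℤ := ∑ i : {T : Subgroup G // Nat.card T = p ^ (a + 1)}, jf i with hJ
  -- s - 1 = p * w
  set w : ℤ := nc + (p : ℤ) * (J + k) - u' * (s - 1) with hw
  have h1 : s - 1 = (p : ℤ) * w := by rw [hw]; linear_combination hk
  refine ⟨J + k - u' * w, ?_⟩
  have h2 : (s - 1) * (1 + (p : ℤ) * u') = (p : ℤ) * nc + (p : ℤ) ^ 2 * J + (p : ℤ) ^ 2 * k := hk
  rw [h1] at h2
  linear_combination h1 + h2 - (p:ℤ) * w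

/-- **Frobenius' theorem**: the number of subgroups of order `p ^ j` is `≡ 1 (mod p)`. -/
theorem card_subgroups_modp {G : Type*} [Group G] [Finite G] (p j : ℕ) [hp : Fact p.Prime]
    (hdvd : p ^ j ∣ Nat.card G) :
    ∃ k : ℤ, (Nat.card {S : Subgroup G // Nat.card S = p ^ j} : ℤ) = 1 + (p : ℤ) * k := by
  by_cases h : p ^ (j + 1) ∣ Nat.card G
  · obtain ⟨k, hk⟩ := card_subgroups_mod_sq p j h
    exact ⟨(Nat.card {T : Subgroup G // Nat.card T = p ^ (j + 1) ∧ ¬ IsCyclic T} : ℤ)
      + (p : ℤ) * k, by rw [hk]; ring⟩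
  · have hN0 : Nat.card G ≠ 0 := Nat.card_pos.ne'
    have h1 := (hp.out.pow_dvd_iff_le_factorization hN0).mp hdvd
    have h2 : ¬ (j + 1 ≤ (Nat.card G).factorization p) :=
      fun h' => h ((hp.out.pow_dvd_iff_le_factorization hN0).mpr h')
    have hj : j = (Nat.card G).factorization p := by omega
    have heq : Nat.card {S : Subgroup G // Nat.card S = p ^ j} = Nat.card (Sylow p G) := by
      apply Nat.card_congr
      exact
        { toFun := fun S => Sylow.ofCard S.1 (by rw [S.2, hj])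
          invFun := fun P => ⟨P.1, by rw [Sylow.card_eq_multiplicity, hj]⟩
          left_inv := fun S => rfl
          right_inv := fun P => Sylow.ext rfl }
    rw [heq]
    have h3 := card_sylow_modEq_one p G
    have h4 := (Int.natCast_modEq_iff.mpr h3).symm.dvd
    obtain ⟨c, hc⟩ := h4
    exact ⟨c, by push_cast at hc ⊢; linarith⟩

end Cfsg.Agent.helper17.SC
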