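import Mathlib
import Cfsg.Agent.Lib_helper17_SCg
import Cfsg.Agent.Lib_helper20_Miller2

set_option autoImplicit false
set_option maxHeartbeats 1000000

/-!
helper17: the number of cyclic subgroups of order `p ^ j` (for S4237).
-/

namespace Cfsg.Agent.helper17.SC

/-- the number of elements of order `q` is `φ(q)` times the number of cyclic subgroups of
order `q`. -/
theorem card_orderOf_eq {P : Type*} [Group P] [Finite P] (q : ℕ) (hq : 0 < q) :
    {x : P | orderOf x = q}.ncard
      = Nat.card {Z : Subgroup P // IsCyclic Z ∧ Nat.card Z = q} * Nat.totient q := by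
  classical
  haveI : Fintype P := Fintype.ofFinite P
  haveI : Fintype (Subgroup P) := Fintype.ofFinite _
  set O : Finset P := Finset.univ.filter (fun x => orderOf x = q) with hO
  set 𝒵 : Finset (Subgroup P) := Finset.univ.filter (fun Z => IsCyclic Z ∧ Nat.card Z = q) with h𝒵
  have h1 : {x : P | orderOf x = q}.ncard = O.card := by
    rw [← Set.ncard_coe_finset]
    congr 1
    ext x
    simp [hO]
  have h2 : Nat.card {Z : Subgroup P // IsCyclic Z ∧ Nat.card Z = q} = 𝒵.card := by
    rw [Nat.card_eq_fintype_card, Fintype.card_subtype]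
  rw [h1, h2]
  have h3 : O.card = ∑ Z ∈ 𝒵, (O.filter (fun x => Subgroup.zpowers x = Z)).card := by
    apply Finset.card_eq_sum_card_fiberwise
    intro x hx
    simp only [hO, Finset.coe_filter, Finset.mem_univ, true_and, Set.mem_setOf_eq] at hx
    simp only [h𝒵, Finset.coe_filter, Finset.mem_univ, true_and, Set.mem_setOf_eq]
    refine ⟨inferInstance, ?_⟩
    rw [Nat.card_zpowers, hx]
  have h4 : ∀ Z ∈ 𝒵, (O.filter (fun x => Subgroup.zpowers x = Z)).card = Nat.totient q := by
    intro Z hZ
    simp only [h𝒵, Finset.mem_filter, Finset.mem_univ, true_and] at hZ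
    obtain ⟨hZc, hZq⟩ := hZ
    haveI := hZc
    haveI : Fintype Z := Fintype.ofFinite Z
    have h5 := IsCyclic.card_orderOf_eq_totient (α := Z) (d := q)
      (by rw [← Nat.card_eq_fintype_card, hZq])
    rw [← h5]
    symm
    apply Finset.card_bij (fun (y : Z) _ => (y : P))
    · intro y hy
      simp only [Finset.mem_filter, Finset.mem_univ, true_and] at hy
      simp only [hO, Finset.mem_filter, Finset.mem_univ, true_and]
      have hy' : orderOf (y : P) = q := by rw [Subgroup.orderOf_coe]; exact hy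
      refine ⟨hy', ?_⟩
      apply Subgroup.eq_of_le_of_card_ge
      · rw [Subgroup.zpowers_le]; exact y.2
      · rw [Nat.card_zpowers, hy', hZq]
    · intro y _ y' _ h
      exact Subtype.ext h
    · intro x hx
      simp only [hO, Finset.mem_filter, Finset.mem_univ, true_and] at hx
      have hxZ : x ∈ Z := by rw [← hx.2]; exact Subgroup.mem_zpowers x
      refine ⟨⟨x, hxZ⟩, ?_, rfl⟩
      simp only [Finset.mem_filter, Finset.mem_univ, true_and]
      rw [← Subgroup.orderOf_coe]
      exact hx.1
  rw [h3, Finset.sum_congr rfl h4, Finset.sum_const, smul_eq_mul]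

/-- **Miller**: in a noncyclic `p`-group, `p` odd, the number of cyclic subgroups of order `p ^ j`,
`j ≥ 2`, is divisible by `p`. -/
theorem miller {P : Type*} [Group P] [Finite P] (p : ℕ) [hp : Fact p.Prime] (hodd : p ≠ 2)
    (hP : IsPGroup p P) (hnc : ¬ IsCyclic P) (j : ℕ) (hj : 2 ≤ j) :
    p ∣ Nat.card {Z : Subgroup P // IsCyclic Z ∧ Nat.card Z = p ^ j} := by
  have h1 := Cfsg.Agent.helper20.Miller.pgroup_count hodd hP hnc j (by omega)
  rw [card_orderOf_eq (p ^ j) (pow_pos hp.out.pos j)] at h1
  obtain ⟨i, rfl⟩ : ∃ i, j = i + 1 := ⟨j - 1, by omega⟩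
  rw [Nat.totient_prime_pow_succ hp.out] at h1
  set c := Nat.card {Z : Subgroup P // IsCyclic Z ∧ Nat.card Z = p ^ (i + 1)} with hc
  -- p^(i+1) ∣ c * (p^i * (p-1))
  have h2 : p ^ i * p ∣ p ^ i * (c * (p - 1)) := by
    rw [← pow_succ]
    have : p ^ i * (c * (p - 1)) = c * (p ^ i * (p - 1)) := by ring
    rw [this]; exact h1
  have h3 : p ∣ c * (p - 1) := Nat.dvd_of_mul_dvd_mul_left (pow_pos hp.out.pos i) h2
  rcases (Nat.Prime.dvd_mul hp.out).mp h3 with h | h
  · exact h
  · exfalso
    have hp2 := hp.out.two_le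
    have := Nat.le_of_dvd (by omega) h
    omega

/-- relative form of Miller's theorem. -/
theorem miller_rel {G : Type*} [Group G] [Finite G] (p : ℕ) [hp : Fact p.Prime] (hodd : p ≠ 2)
    (R : Subgroup G) (hR : IsPGroup p R) (hnc : ¬ IsCyclic R) (j : ℕ) (hj : 2 ≤ j) :
    p ∣ Nat.card {Z : Subgroup G // (IsCyclic Z ∧ Nat.card Z = p ^ j) ∧ Z ≤ R} := by
  have h1 := miller p hodd hR hnc j hj
  have h2 : Nat.card {Z : Subgroup G // (IsCyclic Z ∧ Nat.card Z = p ^ j) ∧ Z ≤ R}
      = Nat.card {Z' : Subgroup R // IsCyclic Z' ∧ Nat.card Z' = p ^ j} := by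
    symm
    apply Nat.card_congr
    refine
      { toFun := fun S' => ⟨S'.1.map R.subtype, ⟨?_, ?_⟩, Subgroup.map_subtype_le _⟩
        invFun := fun S => ⟨S.1.subgroupOf R, ?_, ?_⟩
        left_inv := ?_
        right_inv := ?_ }
    · haveI := S'.2.1
      exact isCyclic_of_surjective (S'.1.equivMapOfInjective R.subtype R.subtype_injective)
        (MulEquiv.surjective _)
    · rw [Subgroup.card_map_of_injective R.subtype_injective]; exact S'.2.2
    · haveI := S.2.1.1
      exact isCyclic_of_surjective (Subgroup.subgroupOfEquivOfLe S.2.2).symm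
        (MulEquiv.surjective _)
    · rw [Nat.card_congr (Subgroup.subgroupOfEquivOfLe S.2.2).toEquiv]; exact S.2.1.2
    · intro S'
      apply Subtype.ext
      simp only
      exact Subgroup.comap_map_eq_self_of_injective R.subtype_injective S'.1
    · intro S
      apply Subtype.ext
      simp only
      exact Subgroup.map_subgroupOf_eq_of_le S.2.2
  rw [h2]
  exact h1

/-- the number of Sylow `p`-subgroups containing a given `p`-subgroup is `≡ 1 (mod p)`. -/
theorem card_sylow_ge_modEq_one {G : Type*} [Group G] [Finite G] (p : ℕ) [hp : Fact p.Prime]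
    (Z : Subgroup G) (hZ : IsPGroup p Z) :
    Nat.card {R : Sylow p G // Z ≤ R.1} ≡ 1 [MOD p] := by
  have h1 := hZ.card_modEq_card_fixedPoints (Sylow p G)
  have h2 := card_sylow_modEq_one p G
  have h3 : Nat.card (MulAction.fixedPoints Z (Sylow p G)) = Nat.card {R : Sylow p G // Z ≤ R.1} := by
    apply Nat.card_congr
    apply Equiv.subtypeEquivRight
    intro R
    exact hZ.sylow_mem_fixedPoints_iff
  rw [← h3]
  exact h1.symm.trans h2

end Cfsg.Agent.helper17.SC
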