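import Mathlib
import Cfsg.Agent.Lib_helper17_SCh

set_option autoImplicit false
set_option maxHeartbeats 1000000

/-!
helper17: cyclic subgroups of order `p ^ j` of a group with noncyclic Sylow `p`-subgroups
(for S4237).
-/

namespace Cfsg.Agent.helper17.SC

theorem card_cyclic_dvd {G : Type*} [Group G] [Finite G] (p : ℕ) [hp : Fact p.Prime]
    (hodd : p ≠ 2) (j : ℕ) (hj : 2 ≤ j) (hnc : ∀ R : Sylow p G, ¬ IsCyclic R.1) :
    p ∣ Nat.card {Z : Subgroup G // IsCyclic Z ∧ Nat.card Z = p ^ j} := by
  classical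
  haveI : Fintype (Subgroup G) := Fintype.ofFinite _
  haveI : Fintype (Sylow p G) := Fintype.ofFinite _
  set 𝒵 : Finset (Subgroup G) := Finset.univ.filter (fun Z => IsCyclic Z ∧ Nat.card Z = p ^ j)
    with h𝒵
  have h0 : Nat.card {Z : Subgroup G // IsCyclic Z ∧ Nat.card Z = p ^ j} = 𝒵.card := by
    rw [Nat.card_eq_fintype_card, Fintype.card_subtype]
  rw [h0]
  have hdc := Finset.sum_card_bipartiteAbove_eq_sum_card_bipartiteBelow (s := 𝒵)
    (t := (Finset.univ : Finset (Sylow p G))) (r := fun Z R => Z ≤ R.1)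
  simp only [Finset.bipartiteAbove, Finset.bipartiteBelow] at hdc
  have hL : ∀ Z ∈ 𝒵, (((Finset.univ : Finset (Sylow p G)).filter (fun R => Z ≤ R.1)).card : ZMod p)
      = 1 := by
    intro Z hZ
    simp only [h𝒵, Finset.mem_filter, Finset.mem_univ, true_and] at hZ
    have h1 := card_sylow_ge_modEq_one p Z (IsPGroup.of_card hZ.2)
    rw [Nat.card_eq_fintype_card, Fintype.card_subtype] at h1
    have h2 := (ZMod.natCast_eq_natCast_iff _ _ _).mpr h1
    simpa using h2
  have hR : ∀ R ∈ (Finset.univ : Finset (Sylow p G)),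
      ((𝒵.filter (fun Z => Z ≤ R.1)).card : ZMod p) = 0 := by
    intro R _
    have h1 := miller_rel p hodd R.1 R.isPGroup' (hnc R) j hj
    rw [Nat.card_eq_fintype_card, Fintype.card_subtype] at h1
    rw [ZMod.natCast_eq_zero_iff]
    convert h1 using 2
    ext Z
    simp [h𝒵]
  have h3 := congrArg (fun n : ℕ => (n : ZMod p)) hdc
  simp only [Nat.cast_sum] at h3
  rw [Finset.sum_congr rfl hL, Finset.sum_congr rfl hR] at h3
  simp only [Finset.sum_const, nsmul_eq_mul, mul_one, mul_zero] at h3
  exact (ZMod.natCast_eq_zero_iff _ _).mp h3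

theorem card_split {G : Type*} [Group G] [Finite G] (q : ℕ) :
    Nat.card {T : Subgroup G // Nat.card T = q}
      = Nat.card {Z : Subgroup G // IsCyclic Z ∧ Nat.card Z = q}
        + Nat.card {T : Subgroup G // Nat.card T = q ∧ ¬ IsCyclic T} := by
  classical
  haveI : Fintype (Subgroup G) := Fintype.ofFinite _
  rw [Nat.card_eq_fintype_card, Nat.card_eq_fintype_card, Nat.card_eq_fintype_card,
    Fintype.card_subtype, Fintype.card_subtype, Fintype.card_subtype]
  rw [← Finset.card_filter_add_card_filter_not (s := Finset.univ.filter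
    (fun T : Subgroup G => Nat.card T = q)) (fun T => IsCyclic T)]
  congr 1
  · congr 1
    ext T
    simp only [Finset.mem_filter, Finset.mem_univ, true_and]
    tauto
  · congr 1
    ext T
    simp only [Finset.mem_filter, Finset.mem_univ, true_and]

/-- all Sylow `p`-subgroups are cyclic as soon as one is. -/
theorem sylow_cyclic_of_cyclic {G : Type*} [Group G] [Finite G] (p : ℕ) [hp : Fact p.Prime]
    (R₀ R : Sylow p G) (h : IsCyclic R₀.1) : IsCyclic R.1 := by
  obtain ⟨g, hg⟩ := MulAction.exists_smul_eq G R₀ R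
  rw [← hg]
  haveI := h
  exact isCyclic_of_surjective (Sylow.equivSMul R₀ g) (MulEquiv.surjective _)

end Cfsg.Agent.helper17.SC
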