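import Mathlib
import Cfsg.Agent.Lib_helper17_SCi
import Cfsg.Agent.Lib_helper17_N4b
import Cfsg.Agent.Lib_helper17_N4d
import Cfsg.Agent.Lib_helper17_N4e

set_option autoImplicit false
set_option maxHeartbeats 1000000

/-!
helper17: Kulakoff's theorem, assembly (for S4157).
-/

namespace Cfsg.Agent.helper17.N4

open Cfsg.Agent.helper17.SC

/-- Kulakoff's congruence from the divisibility of the number of cyclic subgroups. -/
theorem kulakoff_of_cyclic_count {G : Type*} [Group G] [Finite G] (p : ℕ) [hp : Fact p.Prime]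
    (m : ℕ) (hG : Nat.card G = p ^ m) (hnc : ¬ IsCyclic G) (k : ℕ) (hk2 : k < m)
    (hc : k + 1 < m → ∃ c : ℤ,
      (Nat.card {Z : Subgroup G // IsCyclic Z ∧ Nat.card Z = p ^ (k + 1)} : ℤ) = (p : ℤ) * c) :
    Nat.card {H : Subgroup G // Nat.card H = p ^ k} ≡ 1 + p [MOD p ^ 2] := by
  have hdvd : p ^ (k + 1) ∣ Nat.card G := by
    rw [hG]
    exact pow_dvd_pow p (by omega)
  obtain ⟨K, hK⟩ := card_subgroups_mod_sq (G := G) p k hdvd
  have hncard : ∃ t : ℤ,
      (Nat.card {T : Subgroup G // Nat.card T = p ^ (k + 1) ∧ ¬ IsCyclic T} : ℤ)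
        = 1 + (p : ℤ) * t := by
    by_cases hkm : k + 1 = m
    · refine ⟨0, ?_⟩
      have h1 : Nat.card {T : Subgroup G // Nat.card T = p ^ (k + 1) ∧ ¬ IsCyclic T} = 1 := by
        rw [Nat.card_eq_one_iff_unique]
        constructor
        · constructor
          rintro ⟨T, hT, _⟩ ⟨T', hT', _⟩
          apply Subtype.ext
          show T = T'
          have e1 : T = ⊤ := (Subgroup.card_eq_iff_eq_top T).mp (by rw [hT, hkm, hG])
          have e2 : T' = ⊤ := (Subgroup.card_eq_iff_eq_top T').mp (by rw [hT', hkm, hG])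
          rw [e1, e2]
        · refine ⟨⟨⊤, ?_, ?_⟩⟩
          · rw [Subgroup.card_top, hG, hkm]
          · intro h
            apply hnc
            haveI := h
            exact isCyclic_of_surjective (Subgroup.topEquiv (G := G))
              (MulEquiv.surjective _)
      rw [h1]
      simp
    · have hlt : k + 1 < m := by omega
      obtain ⟨c, hc'⟩ := hc hlt
      obtain ⟨k', hk'⟩ := card_subgroups_modp (G := G) p (k + 1) hdvd
      have hsplit := card_split (G := G) (p ^ (k + 1))
      rw [hsplit] at hk'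
      push_cast at hk'
      refine ⟨k' - c, ?_⟩
      linear_combination hk' - hc'
  obtain ⟨t, ht⟩ := hncard
  rw [ht] at hK
  rw [← Int.natCast_modEq_iff]
  apply Int.ModEq.symm
  rw [Int.modEq_iff_dvd]
  refine ⟨t + K, ?_⟩
  rw [hK]
  push_cast
  ring

/-- in a `2`-group with a normal four-subgroup the number of cyclic subgroups of order `2 ^ j`,
`j ≥ 3`, is even. -/
theorem two_dvd_cyclic {G : Type*} [Group G] [Finite G] (hP : IsPGroup 2 G) {z a : G}
    (hnf : NF z a) (j : ℕ) (hj : 3 ≤ j) :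
    2 ∣ Nat.card {Z : Subgroup G // IsCyclic Z ∧ Nat.card Z = 2 ^ j} := by
  have h1 := pow_dvd_card_orderOf hP hnf j hj
  rw [card_orderOf_eq (2 ^ j) (by positivity)] at h1
  obtain ⟨i, rfl⟩ : ∃ i, j = i + 1 := ⟨j - 1, by omega⟩
  rw [Nat.totient_prime_pow_succ Nat.prime_two] at h1
  set c := Nat.card {Z : Subgroup G // IsCyclic Z ∧ Nat.card Z = 2 ^ (i + 1)} with hc
  have h2 : 2 ^ i * 2 ∣ 2 ^ i * (c * (2 - 1)) := by
    rw [← pow_succ]
    have : 2 ^ i * (c * (2 - 1)) = c * (2 ^ i * (2 - 1)) := by ring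
    rw [this]
    exact h1
  have h3 : 2 ∣ c * (2 - 1) := Nat.dvd_of_mul_dvd_mul_left (by positivity) h2
  simpa using h3

/-- the number of subgroups of order `2`. -/
theorem card_order_two {G : Type*} [Group G] [Finite G] :
    {x : G | x ^ 2 = 1}.ncard = 1 + Nat.card {H : Subgroup G // Nat.card H = 2} := by
  classical
  haveI : Fact (Nat.Prime 2) := ⟨Nat.prime_two⟩
  have h1 : {x : G | x ^ 2 = 1} = insert 1 {x : G | orderOf x = 2} := by
    ext x
    simp only [Set.mem_setOf_eq, Set.mem_insert_iff, orderOf_eq_prime_iff]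
    constructor
    · intro h
      by_cases hx : x = 1
      · left; exact hx
      · right; exact ⟨h, hx⟩
    · rintro (h | h)
      · rw [h, one_pow]
      · exact h.1
  have h2 : (1 : G) ∉ {x : G | orderOf x = 2} := by
    simp
  rw [h1, Set.ncard_insert_of_notMem h2 (Set.toFinite _), card_orderOf_eq 2 (by norm_num),
    Nat.totient_two, mul_one, add_comm]
  congr 1
  apply Nat.card_congr
  apply Equiv.subtypeEquivRight
  intro H
  constructor
  · intro h
    exact h.2
  · intro h
    exact ⟨isCyclic_of_prime_card h, h⟩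

end Cfsg.Agent.helper17.N4
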