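import Mathlib
import Cfsg.Agent.Lib_helper17_O4d

set_option autoImplicit false

/-!
# `[O,O] ≤ φ(SL₂ × SL₂)` for `O = O(M₂(F), det)`
-/

namespace Cfsg.Agent.helper17.O4

open Matrix
open scoped commutatorElement

variable {F : Type*} [Field F]

/-- every isometry is `φ(a)` or `τ φ(a)` -/
theorem OW_structure [Fintype F]
    (g : Matrix (Fin 2) (Fin 2) F ≃ₗ[F] Matrix (Fin 2) (Fin 2) F) (hg : g ∈ OW F) :
    (∃ a ∈ Gam F, g = phi a) ∨ (∃ a ∈ Gam F, g = tau * phi a) := by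
  by_cases h : (⟨g, hg⟩ : OW F) ∈ (phiG F).range
  · left
    obtain ⟨a, ha⟩ := h
    exact ⟨a.1, a.2, by rw [← coe_phiG, ha]⟩
  · right
    have h2 := (Subgroup.mul_mem_iff_of_index_two (index_range_phiG (F := F))
      (a := tauO F) (b := ⟨g, hg⟩)).mpr
      ⟨fun h' => absurd h' tauO_not_mem, fun h' => absurd h' h⟩
    obtain ⟨a, ha⟩ := h2
    refine ⟨a.1, a.2, ?_⟩
    have h3 : phi a.1 = tau * g := by
      rw [← coe_phiG, ha]; rfl
    rw [h3, ← mul_assoc, tau_mul_tau, one_mul]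

/-- `SL₂ × SL₂ → GL(W)` -/
def psi0 (F : Type*) [Field F] :
    Matrix.SpecialLinearGroup (Fin 2) F × Matrix.SpecialLinearGroup (Fin 2) F →*
      (Matrix (Fin 2) (Fin 2) F ≃ₗ[F] Matrix (Fin 2) (Fin 2) F) :=
  phi.comp (MonoidHom.prodMap Matrix.SpecialLinearGroup.toGL Matrix.SpecialLinearGroup.toGL)

theorem psi0_apply (s : Matrix.SpecialLinearGroup (Fin 2) F × Matrix.SpecialLinearGroup (Fin 2) F) :
    psi0 F s = phi (Matrix.SpecialLinearGroup.toGL s.1, Matrix.SpecialLinearGroup.toGL s.2) := rfl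

theorem mem_range_of_det_one (c : GL (Fin 2) F × GL (Fin 2) F)
    (h1 : Matrix.GeneralLinearGroup.det c.1 = 1) (h2 : Matrix.GeneralLinearGroup.det c.2 = 1) :
    phi c ∈ (psi0 F).range := by
  have h1' : (c.1 : Matrix (Fin 2) (Fin 2) F).det = 1 := by
    have := congrArg Units.val h1
    simpa using this
  have h2' : (c.2 : Matrix (Fin 2) (Fin 2) F).det = 1 := by
    have := congrArg Units.val h2
    simpa using this
  refine ⟨(⟨c.1, h1'⟩, ⟨c.2, h2'⟩), ?_⟩
  rw [psi0_apply]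
  congr 1
  exact Prod.ext (Units.ext rfl) (Units.ext rfl)

theorem phi_scalar (u : Fˣ) :
    phi (Matrix.GeneralLinearGroup.scalar (Fin 2) u, Matrix.GeneralLinearGroup.scalar (Fin 2) u) = 1 := by
  ext X : 1
  rw [phi_apply]
  simp only [← map_inv]
  rw [Matrix.GeneralLinearGroup.coe_scalar, Matrix.GeneralLinearGroup.coe_scalar]
  simp only [Matrix.scalar_apply]
  ext i j
  fin_cases i <;> fin_cases j <;> simp [Matrix.mul_apply, Fin.sum_univ_two, mul_comm]

theorem mem_range_of_det_sq (c : GL (Fin 2) F × GL (Fin 2) F) (l : Fˣ)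
    (h1 : Matrix.GeneralLinearGroup.det c.1 = l ^ 2) (h2 : Matrix.GeneralLinearGroup.det c.2 = l ^ 2) :
    phi c ∈ (psi0 F).range := by
  have h : phi c = phi ((Matrix.GeneralLinearGroup.scalar (Fin 2) l⁻¹,
      Matrix.GeneralLinearGroup.scalar (Fin 2) l⁻¹) * c) := by
    rw [map_mul, phi_scalar, one_mul]
  rw [h]
  apply mem_range_of_det_one
  · simp only [Prod.fst_mul, map_mul, Matrix.GeneralLinearGroup.det_scalar, Fintype.card_fin, h1]
    simp
  · simp only [Prod.snd_mul, map_mul, Matrix.GeneralLinearGroup.det_scalar, Fintype.card_fin, h2]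
    simp

theorem det_sig_fst (p : GL (Fin 2) F × GL (Fin 2) F) :
    Matrix.GeneralLinearGroup.det (sig p).1 = (Matrix.GeneralLinearGroup.det p.2)⁻¹ := by
  simp only [sig, map_inv, det_gT]

theorem det_sig_snd (p : GL (Fin 2) F × GL (Fin 2) F) :
    Matrix.GeneralLinearGroup.det (sig p).2 = (Matrix.GeneralLinearGroup.det p.1)⁻¹ := by
  simp only [sig, map_inv, det_gT]

theorem comm_aux1 {G : Type*} [Group G] (t x y : G) (ht : t⁻¹ = t) :
    ⁅t * x, y⁆ = (t * (x * y * x⁻¹) * t) * y⁻¹ := by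
  rw [commutatorElement_def, _root_.mul_inv_rev, ht]
  simp only [mul_assoc]

theorem comm_aux2 {G : Type*} [Group G] (t x y : G) (ht : t⁻¹ = t) :
    ⁅t * x, t * y⁆ = (t * x * t) * (y * x⁻¹) * (t * y⁻¹ * t) := by
  rw [commutatorElement_def, _root_.mul_inv_rev, _root_.mul_inv_rev, ht]
  simp only [mul_assoc]

theorem comm_case00 (a b : GL (Fin 2) F × GL (Fin 2) F) :
    ⁅phi a, phi b⁆ ∈ (psi0 F).range := by
  rw [← map_commutatorElement]
  apply mem_range_of_det_one
  · have : (⁅a, b⁆).1 = ⁅a.1, b.1⁆ := rfl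
    rw [this, map_commutatorElement]
    exact commutatorElement_eq_one_iff_commute.mpr (Commute.all _ _)
  · have : (⁅a, b⁆).2 = ⁅a.2, b.2⁆ := rfl
    rw [this, map_commutatorElement]
    exact commutatorElement_eq_one_iff_commute.mpr (Commute.all _ _)

theorem comm_case10 (a b : GL (Fin 2) F × GL (Fin 2) F) (hb : b ∈ Gam F) :
    ⁅tau * phi a, phi b⁆ ∈ (psi0 F).range := by
  rw [comm_aux1 _ _ _ tau_inv, ← map_inv, ← map_mul, ← map_mul, tau_phi_tau, ← map_inv, ← map_mul]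
  rw [mem_Gam_iff] at hb
  apply mem_range_of_det_sq _ (Matrix.GeneralLinearGroup.det b.1)⁻¹
  · rw [Prod.fst_mul, map_mul, det_sig_fst]
    simp only [Prod.snd_mul, Prod.snd_inv, Prod.fst_inv, map_mul, map_inv, hb]
    rw [sq]
    simp
  · rw [Prod.snd_mul, map_mul, det_sig_snd]
    simp only [Prod.fst_mul, Prod.snd_inv, Prod.fst_inv, map_mul, map_inv, hb]
    rw [sq]
    simp

theorem comm_case11 (a b : GL (Fin 2) F × GL (Fin 2) F) (ha : a ∈ Gam F) (hb : b ∈ Gam F) :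
    ⁅tau * phi a, tau * phi b⁆ ∈ (psi0 F).range := by
  rw [comm_aux2 _ _ _ tau_inv, ← map_inv, ← map_inv, ← map_mul, tau_phi_tau, tau_phi_tau,
    ← map_mul, ← map_mul]
  rw [mem_Gam_iff] at ha hb
  apply mem_range_of_det_sq _
    ((Matrix.GeneralLinearGroup.det a.1)⁻¹ * Matrix.GeneralLinearGroup.det b.1)
  · simp only [Prod.fst_mul, Prod.fst_inv, map_mul, map_inv, det_sig_fst, Prod.snd_inv, ← ha, ← hb]
    rw [sq]
    simp only [inv_inv]
    simp only [mul_assoc]
  · simp only [Prod.snd_mul, Prod.snd_inv, map_mul, map_inv, det_sig_snd, Prod.fst_inv, ← ha, ← hb]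
    rw [sq]
    simp only [inv_inv]
    simp only [mul_assoc]

/-- commutators of isometries lie in `φ(SL₂ × SL₂)` -/
theorem commutator_OW_le [Fintype F] : ⁅OW F, OW F⁆ ≤ (psi0 F).range := by
  rw [Subgroup.commutator_le]
  intro g hg h hh
  rcases OW_structure g hg with ⟨a, ha, rfl⟩ | ⟨a, ha, rfl⟩ <;>
    rcases OW_structure h hh with ⟨b, hb, rfl⟩ | ⟨b, hb, rfl⟩
  · exact comm_case00 a b
  · rw [← commutatorElement_inv]
    exact inv_mem (comm_case10 b a ha)
  · exact comm_case10 a b hb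
  · exact comm_case11 a b ha hb

end Cfsg.Agent.helper17.O4
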