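import Mathlib
import Cfsg.Agent.Lib_helper17_O4e
import Cfsg.Agent.Lib_helper11_SL2U

set_option autoImplicit false

/-!
# `φ(SL₂ × SL₂) ≤ [O,O]` for `O = O(M₂(F), det)`, `|F| ≥ 3`
-/

namespace Cfsg.Agent.helper17.O4

open Matrix
open scoped commutatorElement
open Cfsg.Agent.helper11.SL2U

variable {F : Type*} [Field F]

theorem pair_mem_Gam (D : GL (Fin 2) F) : (D, D) ∈ Gam F := by
  rw [mem_Gam_iff]

theorem inl_mem_Gam (T : Matrix.SpecialLinearGroup (Fin 2) F) :
    (Matrix.SpecialLinearGroup.toGL T, (1 : GL (Fin 2) F)) ∈ Gam F := by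
  rw [mem_Gam_iff]
  ext
  simp

theorem inr_mem_Gam (T : Matrix.SpecialLinearGroup (Fin 2) F) :
    ((1 : GL (Fin 2) F), Matrix.SpecialLinearGroup.toGL T) ∈ Gam F := by
  rw [mem_Gam_iff]
  ext
  simp

theorem phi_comm_inl (D : GL (Fin 2) F) (T : Matrix.SpecialLinearGroup (Fin 2) F) :
    phi (⁅D, Matrix.SpecialLinearGroup.toGL T⁆, (1 : GL (Fin 2) F)) ∈ ⁅OW F, OW F⁆ := by
  have h : (⁅D, Matrix.SpecialLinearGroup.toGL T⁆, (1 : GL (Fin 2) F))
      = ⁅(D, D), (Matrix.SpecialLinearGroup.toGL T, (1 : GL (Fin 2) F))⁆ := by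
    apply Prod.ext
    · rfl
    · change (1 : GL (Fin 2) F) = ⁅D, 1⁆
      simp
  rw [h, map_commutatorElement]
  exact Subgroup.commutator_mem_commutator (phi_mem_OW (pair_mem_Gam D)) (phi_mem_OW (inl_mem_Gam T))

theorem phi_comm_inr (D : GL (Fin 2) F) (T : Matrix.SpecialLinearGroup (Fin 2) F) :
    phi ((1 : GL (Fin 2) F), ⁅D, Matrix.SpecialLinearGroup.toGL T⁆) ∈ ⁅OW F, OW F⁆ := by
  have h : ((1 : GL (Fin 2) F), ⁅D, Matrix.SpecialLinearGroup.toGL T⁆)
      = ⁅(D, D), ((1 : GL (Fin 2) F), Matrix.SpecialLinearGroup.toGL T)⁆ := by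
    apply Prod.ext
    · change (1 : GL (Fin 2) F) = ⁅D, 1⁆
      simp
    · rfl
  rw [h, map_commutatorElement]
  exact Subgroup.commutator_mem_commutator (phi_mem_OW (pair_mem_Gam D)) (phi_mem_OW (inr_mem_Gam T))

/-- `diag(a, 1)` -/
def dg1 (a : F) (ha : a ≠ 0) : GL (Fin 2) F :=
  Matrix.GeneralLinearGroup.mkOfDetNeZero !![a, 0; 0, 1] (by simpa [det_fin_two] using ha)

/-- `diag(1, a)` -/
def dg2 (a : F) (ha : a ≠ 0) : GL (Fin 2) F :=
  Matrix.GeneralLinearGroup.mkOfDetNeZero !![1, 0; 0, a] (by simpa [det_fin_two] using ha)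

theorem comm_eq_of_mul_eq {G : Type*} [Group G] {d u u' : G} (h : d * u = u' * u * d) :
    ⁅d, u⁆ = u' := by
  rw [commutatorElement_def, h]
  group

theorem comm_dg1_uS (a : F) (ha : a ≠ 0) (x : F) :
    ⁅dg1 a ha, Matrix.SpecialLinearGroup.toGL (uS x)⁆ =
      Matrix.SpecialLinearGroup.toGL (uS ((a - 1) * x)) := by
  apply comm_eq_of_mul_eq
  apply Units.ext
  have hd : ((dg1 a ha : GL (Fin 2) F) : Matrix (Fin 2) (Fin 2) F) = !![a, 0; 0, 1] := rfl
  have hu : ∀ y : F, ((Matrix.SpecialLinearGroup.toGL (uS y) : GL (Fin 2) F) :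
      Matrix (Fin 2) (Fin 2) F) = !![1, y; 0, 1] := fun y => rfl
  rw [Units.val_mul, Units.val_mul, Units.val_mul, hd, hu, hu]
  ext i j
  fin_cases i <;> fin_cases j <;> simp [Matrix.mul_apply, Fin.sum_univ_two] <;> ring

theorem comm_dg2_lS (a : F) (ha : a ≠ 0) (x : F) :
    ⁅dg2 a ha, Matrix.SpecialLinearGroup.toGL (lS x)⁆ =
      Matrix.SpecialLinearGroup.toGL (lS ((a - 1) * x)) := by
  apply comm_eq_of_mul_eq
  apply Units.ext
  have hd : ((dg2 a ha : GL (Fin 2) F) : Matrix (Fin 2) (Fin 2) F) = !![1, 0; 0, a] := rfl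
  have hu : ∀ y : F, ((Matrix.SpecialLinearGroup.toGL (lS y) : GL (Fin 2) F) :
      Matrix (Fin 2) (Fin 2) F) = !![1, 0; y, 1] := fun y => rfl
  rw [Units.val_mul, Units.val_mul, Units.val_mul, hd, hu, hu]
  ext i j
  fin_cases i <;> fin_cases j <;> simp [Matrix.mul_apply, Fin.sum_univ_two] <;> ring

theorem exists_ne_zero_one [Fintype F] (hF : 3 ≤ Fintype.card F) : ∃ a : F, a ≠ 0 ∧ a ≠ 1 := by
  classical
  by_contra h
  push Not at h
  have : (Finset.univ : Finset F) ⊆ {0, 1} := by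
    intro a _
    by_cases ha : a = 0
    · simp [ha]
    · simp [h a ha]
  have := Finset.card_le_card this
  have h2 : ({0, 1} : Finset F).card ≤ 2 := Finset.card_le_two
  rw [Finset.card_univ] at this
  omega

theorem inl_mem_commutator [Fintype F] (hF : 3 ≤ Fintype.card F)
    (C : Matrix.SpecialLinearGroup (Fin 2) F) :
    phi (Matrix.SpecialLinearGroup.toGL C, (1 : GL (Fin 2) F)) ∈ ⁅OW F, OW F⁆ := by
  obtain ⟨a, ha0, ha1⟩ := exists_ne_zero_one hF
  have ha1' : a - 1 ≠ 0 := sub_ne_zero.mpr ha1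
  let K : Subgroup (Matrix.SpecialLinearGroup (Fin 2) F) :=
    (⁅OW F, OW F⁆).comap ((phi.comp (MonoidHom.inl _ _)).comp Matrix.SpecialLinearGroup.toGL)
  have hK : K = ⊤ := by
    apply eq_top_of_uS_lS_mem
    · intro s
      have := phi_comm_inl (dg1 a ha0) (uS ((a - 1)⁻¹ * s))
      rw [comm_dg1_uS, mul_inv_cancel_left₀ ha1'] at this
      exact this
    · intro s
      have := phi_comm_inl (dg2 a ha0) (lS ((a - 1)⁻¹ * s))
      rw [comm_dg2_lS, mul_inv_cancel_left₀ ha1'] at this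
      exact this
  have : C ∈ K := by rw [hK]; trivial
  exact this

theorem inr_mem_commutator [Fintype F] (hF : 3 ≤ Fintype.card F)
    (C : Matrix.SpecialLinearGroup (Fin 2) F) :
    phi ((1 : GL (Fin 2) F), Matrix.SpecialLinearGroup.toGL C) ∈ ⁅OW F, OW F⁆ := by
  obtain ⟨a, ha0, ha1⟩ := exists_ne_zero_one hF
  have ha1' : a - 1 ≠ 0 := sub_ne_zero.mpr ha1
  let K : Subgroup (Matrix.SpecialLinearGroup (Fin 2) F) :=
    (⁅OW F, OW F⁆).comap ((phi.comp (MonoidHom.inr _ _)).comp Matrix.SpecialLinearGroup.toGL)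
  have hK : K = ⊤ := by
    apply eq_top_of_uS_lS_mem
    · intro s
      have := phi_comm_inr (dg1 a ha0) (uS ((a - 1)⁻¹ * s))
      rw [comm_dg1_uS, mul_inv_cancel_left₀ ha1'] at this
      exact this
    · intro s
      have := phi_comm_inr (dg2 a ha0) (lS ((a - 1)⁻¹ * s))
      rw [comm_dg2_lS, mul_inv_cancel_left₀ ha1'] at this
      exact this
  have : C ∈ K := by rw [hK]; trivial
  exact this

theorem psi0_mem_commutator [Fintype F] (hF : 3 ≤ Fintype.card F)
    (s : Matrix.SpecialLinearGroup (Fin 2) F × Matrix.SpecialLinearGroup (Fin 2) F) :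
    psi0 F s ∈ ⁅OW F, OW F⁆ := by
  have h : psi0 F s = phi (Matrix.SpecialLinearGroup.toGL s.1, (1 : GL (Fin 2) F)) *
      phi ((1 : GL (Fin 2) F), Matrix.SpecialLinearGroup.toGL s.2) := by
    rw [psi0_apply, ← map_mul]
    congr 1
    simp
  rw [h]
  exact mul_mem (inl_mem_commutator hF _) (inr_mem_commutator hF _)

theorem psi0_mem_OW
    (s : Matrix.SpecialLinearGroup (Fin 2) F × Matrix.SpecialLinearGroup (Fin 2) F) :
    psi0 F s ∈ OW F := by
  rw [psi0_apply]
  apply phi_mem_OW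
  rw [mem_Gam_iff]
  ext
  simp

theorem phi_inj_left {A A' B : GL (Fin 2) F} (h : phi (A, B) = phi (A', B)) : A = A' := by
  have := LinearEquiv.congr_fun h (B : Matrix (Fin 2) (Fin 2) F)
  rw [phi_apply, phi_apply] at this
  simp only [mul_assoc, Units.mul_inv, mul_one] at this
  exact Units.ext this

theorem phi_inj_right {A B B' : GL (Fin 2) F} (h : phi (A, B) = phi (A, B')) : B = B' := by
  have := LinearEquiv.congr_fun h ((A⁻¹ : GL (Fin 2) F) : Matrix (Fin 2) (Fin 2) F)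
  rw [phi_apply, phi_apply] at this
  simp only [Units.mul_inv, one_mul] at this
  have h2 : B⁻¹ = B'⁻¹ := Units.ext this
  exact inv_injective h2

theorem central_of_comm
    (h : Matrix.SpecialLinearGroup (Fin 2) F × Matrix.SpecialLinearGroup (Fin 2) F)
    (hc : ∀ h', psi0 F h' * psi0 F h = psi0 F h * psi0 F h') :
    h.1 ∈ Subgroup.center (Matrix.SpecialLinearGroup (Fin 2) F) ∧
      h.2 ∈ Subgroup.center (Matrix.SpecialLinearGroup (Fin 2) F) := by
  constructor
  · rw [Subgroup.mem_center_iff]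
    intro C
    have := hc (C, 1)
    rw [← map_mul, ← map_mul, psi0_apply, psi0_apply] at this
    simp only [Prod.mk_mul_mk, Prod.fst_mul, Prod.snd_mul, one_mul, mul_one] at this
    have h2 := phi_inj_left this
    exact Matrix.SpecialLinearGroup.toGL_injective h2
  · rw [Subgroup.mem_center_iff]
    intro C
    have := hc (1, C)
    rw [← map_mul, ← map_mul, psi0_apply, psi0_apply] at this
    simp only [Prod.mk_mul_mk, Prod.fst_mul, Prod.snd_mul, one_mul, mul_one] at this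
    have h2 := phi_inj_right this
    exact Matrix.SpecialLinearGroup.toGL_injective h2

end Cfsg.Agent.helper17.O4
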