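import Mathlib
import Cfsg.Agent.Lib_helper11_HermCount
import Cfsg.Agent.Lib_helper13_FieldExt

set_option autoImplicit false

/-!
# Quadratic extensions of finite fields: conjugation `x ↦ x ^ q`, fixed field, a root `θ`
-/

namespace Cfsg.Agent.helper17.O4m

open Cfsg.Agent.helper11.HermCount

variable {K : Type*} [Field K] [Fintype K] (q : ℕ) [hK : Fact (Fintype.card K = q ^ 2)]

/-- conjugation `x ↦ x ^ q` as a ring homomorphism -/
def cj : K →+* K where
  toFun x := x ^ q
  map_one' := one_pow q
  map_mul' x y := mul_pow x y q
  map_zero' := zero_pow (by have := two_le_q hK.out; omega)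
  map_add' := add_pow_q hK.out

theorem cj_apply (x : K) : cj q x = x ^ q := rfl

theorem cj_cj (x : K) : cj q (cj q x) = x := pow_q_q hK.out x

variable {F : Type*} [Field F] [Fintype F] [Algebra F K]

theorem cj_algebraMap (hF : Fintype.card F = q) (x : F) :
    cj q (algebraMap F K x) = algebraMap F K x := by
  rw [cj_apply, ← map_pow, ← hF, FiniteField.pow_card]

/-- the fixed field of the conjugation is the image of `F` -/
theorem exists_of_cj_eq (hF : Fintype.card F = q) (x : K) (hx : cj q x = x) :
    ∃ y : F, algebraMap F K y = x := by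
  classical
  by_contra hne
  push Not at hne
  -- the set of fixed points has at most q elements
  have h2 := two_le_q hK.out
  let P : Polynomial K := Polynomial.X ^ q - Polynomial.X
  have hP0 : P ≠ 0 := FiniteField.X_pow_card_sub_X_ne_zero K (by omega)
  have hdeg : P.natDegree = q := FiniteField.X_pow_card_sub_X_natDegree_eq K (by omega)
  have hroot : ∀ z : K, cj q z = z → z ∈ P.roots.toFinset := by
    intro z hz
    rw [Multiset.mem_toFinset, Polynomial.mem_roots hP0]
    simp only [P, Polynomial.IsRoot.def, Polynomial.eval_sub, Polynomial.eval_pow, Polynomial.eval_X]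
    rw [← cj_apply, hz, sub_self]
  have hsub : insert x (Finset.univ.image (algebraMap F K)) ⊆ P.roots.toFinset := by
    intro z hz
    rw [Finset.mem_insert] at hz
    rcases hz with rfl | hz
    · exact hroot _ hx
    · obtain ⟨y, -, rfl⟩ := Finset.mem_image.mp hz
      exact hroot _ (cj_algebraMap q hF y)
  have hcard := Finset.card_le_card hsub
  rw [Finset.card_insert_of_notMem (by
    intro h
    obtain ⟨y, -, hy⟩ := Finset.mem_image.mp h
    exact hne y hy),
    Finset.card_image_of_injective _ (algebraMap F K).injective, Finset.card_univ, hF] at hcard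
  have h3 : P.roots.toFinset.card ≤ q := by
    calc P.roots.toFinset.card ≤ Multiset.card P.roots := Multiset.toFinset_card_le _
      _ ≤ P.natDegree := Polynomial.card_roots' P
      _ = q := hdeg
  omega

/-- the data of a generator `θ` of `K` over `F` with `θ + θ̄ = a`, `θ θ̄ = b` -/
theorem exists_theta (hF : Fintype.card F = q) (a b : F)
    (hab : ∀ z₁ z₂ : F, z₁ ^ 2 + a * z₁ * z₂ + b * z₂ ^ 2 = 0 → z₁ = 0 ∧ z₂ = 0) :
    ∃ θ : K, θ + cj q θ = algebraMap F K a ∧ θ * cj q θ = algebraMap F K b ∧ cj q θ ≠ θ := by
  have hcardK : Fintype.card K = Fintype.card F ^ 2 := by rw [hF]; exact hK.out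
  have hfin : Module.finrank F K = 2 := Cfsg.Agent.helper13.finrank_of_card_pow 2 hcardK
  let f : Polynomial F := Polynomial.X ^ 2 - Polynomial.C a * Polynomial.X + Polynomial.C b
  have hfdeg : f.natDegree = 2 := by
    simp only [f]
    compute_degree!
  have hfmonic : f.Monic := by
    simp only [f]
    monicity!
  have hnoroot : ∀ r : F, ¬ f.IsRoot r := by
    intro r hr
    simp only [f, Polynomial.IsRoot.def, Polynomial.eval_add, Polynomial.eval_sub,
      Polynomial.eval_pow, Polynomial.eval_X, Polynomial.eval_mul, Polynomial.eval_C] at hr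
    have := hab r (-1) (by linear_combination hr)
    have h1 : (-1 : F) = 0 := this.2
    exact one_ne_zero (neg_eq_zero.mp h1)
  have hirr : Irreducible f := by
    apply Polynomial.irreducible_of_degree_le_three_of_not_isRoot
    · rw [hfdeg]; simp
    · intro r
      exact hnoroot r
  obtain ⟨θ, hθ⟩ := Cfsg.Agent.helper13.exists_root_of_irreducible (K := K) f hirr
    (by rw [hfdeg, hfin])
  simp only [f, map_add, map_sub, map_pow, Polynomial.aeval_X, map_mul, Polynomial.aeval_C] at hθ
  have hθfix : cj q θ ≠ θ := by
    intro h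
    obtain ⟨r, hr⟩ := exists_of_cj_eq q hF θ h
    apply hnoroot r
    simp only [f, Polynomial.IsRoot.def, Polynomial.eval_add, Polynomial.eval_sub,
      Polynomial.eval_pow, Polynomial.eval_X, Polynomial.eval_mul, Polynomial.eval_C]
    apply (algebraMap F K).injective
    rw [map_zero, map_add, map_sub, map_pow, map_mul, hr]
    exact hθ
  have hθ' : (cj q θ) ^ 2 - algebraMap F K a * cj q θ + algebraMap F K b = 0 := by
    have := congrArg (cj q) hθ
    rw [map_zero, map_add, map_sub, map_pow, map_mul, cj_algebraMap q hF, cj_algebraMap q hF] at this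
    exact this
  have hsum : θ + cj q θ = algebraMap F K a := by
    have hne : θ - cj q θ ≠ 0 := sub_ne_zero.mpr (Ne.symm hθfix)
    have : (θ - cj q θ) * (θ + cj q θ - algebraMap F K a) = 0 := by
      linear_combination hθ - hθ'
    rcases mul_eq_zero.mp this with h | h
    · exact absurd h hne
    · exact sub_eq_zero.mp h
  refine ⟨θ, hsum, ?_, hθfix⟩
  have : cj q θ = algebraMap F K a - θ := by rw [← hsum]; ring
  rw [this]
  linear_combination -hθ

end Cfsg.Agent.helper17.O4m
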