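import Mathlib
import Cfsg.Prelude.Def_Classical
import Cfsg.Agent.S0288
import Cfsg.Agent.Lib_helper17_O4a
import Cfsg.Agent.Lib_helper17_O4g

set_option autoImplicit false

/-!
# The model (Hermitian 2×2 matrices over `K`, `-det`) of the minus-type quadratic space of dim 4
-/

namespace Cfsg.Agent.helper17.O4m

open Matrix Cfsg.Agent.helper11.HermCount

variable {K : Type*} [Field K] [Fintype K] (q : ℕ) [hK : Fact (Fintype.card K = q ^ 2)]

/-- conjugate transpose -/
def dag (X : Matrix (Fin 2) (Fin 2) K) : Matrix (Fin 2) (Fin 2) K := (X.map (cj q))ᵀ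

theorem dag_apply (X : Matrix (Fin 2) (Fin 2) K) (i j : Fin 2) : dag q X i j = cj q (X j i) := rfl

theorem dag_mul (X Y : Matrix (Fin 2) (Fin 2) K) : dag q (X * Y) = dag q Y * dag q X := by
  unfold dag
  rw [Matrix.map_mul, transpose_mul]

theorem dag_dag (X : Matrix (Fin 2) (Fin 2) K) : dag q (dag q X) = X := by
  ext i j
  simp [dag_apply, cj_cj]

theorem dag_one : dag q (1 : Matrix (Fin 2) (Fin 2) K) = 1 := by
  ext i j
  fin_cases i <;> fin_cases j <;> simp [dag_apply]

theorem dag_zero : dag q (0 : Matrix (Fin 2) (Fin 2) K) = 0 := by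
  ext i j
  simp [dag_apply]

theorem dag_add (X Y : Matrix (Fin 2) (Fin 2) K) : dag q (X + Y) = dag q X + dag q Y := by
  ext i j
  simp [dag_apply]

theorem det_dag (X : Matrix (Fin 2) (Fin 2) K) : (dag q X).det = cj q X.det := by
  unfold dag
  rw [det_transpose, RingHom.map_det]
  rfl

theorem dag_transpose (X : Matrix (Fin 2) (Fin 2) K) : dag q Xᵀ = (dag q X)ᵀ := by
  ext i j
  simp [dag_apply]

variable {F : Type*} [Field F] [Fintype F] [Algebra F K] [hF : Fact (Fintype.card F = q)]

theorem dag_smul (c : F) (X : Matrix (Fin 2) (Fin 2) K) : dag q (c • X) = c • dag q X := by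
  ext i j
  simp only [dag_apply, Matrix.smul_apply]
  rw [Algebra.smul_def, Algebra.smul_def, map_mul, cj_algebraMap q hF.out]

variable (K F)

/-- Hermitian matrices as an `F`-module -/
def HW : Submodule F (Matrix (Fin 2) (Fin 2) K) where
  carrier := {X | dag q X = X}
  add_mem' := by
    intro X Y hX hY
    simp only [Set.mem_ofPred_eq] at hX hY ⊢
    rw [dag_add, hX, hY]
  zero_mem' := dag_zero q
  smul_mem' := by
    intro c X hX
    simp only [Set.mem_ofPred_eq] at hX ⊢
    rw [dag_smul, hX]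

variable {K F}

theorem mem_HW_iff (X : Matrix (Fin 2) (Fin 2) K) : X ∈ HW K q F ↔ dag q X = X := Iff.rfl

/-- data for a generator of `K` over `F` -/
structure ThetaData (a b : F) (θ : K) : Prop where
  sum : θ + cj q θ = algebraMap F K a
  prod : θ * cj q θ = algebraMap F K b
  ne : cj q θ ≠ θ

/-- the Hermitian matrix of a vector -/
def hmat (θ : K) (v : (Fin 1 ⊕ Fin 1) ⊕ Fin 2 → F) : Matrix (Fin 2) (Fin 2) K :=
  !![-(algebraMap F K (v (.inl (.inl 0)))),
      algebraMap F K (v (.inr 0)) + algebraMap F K (v (.inr 1)) * θ;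
    cj q (algebraMap F K (v (.inr 0)) + algebraMap F K (v (.inr 1)) * θ),
      algebraMap F K (v (.inl (.inr 0)))]

theorem hmat_mem (θ : K) (v : (Fin 1 ⊕ Fin 1) ⊕ Fin 2 → F) : hmat q θ v ∈ HW K q F := by
  rw [mem_HW_iff]
  ext i j
  fin_cases i <;> fin_cases j <;>
    simp [dag_apply, hmat, cj_algebraMap q hF.out, cj_cj]

theorem det_hmat {a b : F} {θ : K} (hθ : ThetaData q a b θ) (v : (Fin 1 ⊕ Fin 1) ⊕ Fin 2 → F) :
    (hmat q θ v).det = -(algebraMap F K (Cfsg.quadFormMinus 1 F a b v)) := by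
  simp only [hmat, det_fin_two_of, Cfsg.quadFormMinus, Fin.sum_univ_one, map_add, map_mul,
    cj_algebraMap q hF.out, map_pow]
  have h1 := hθ.sum
  have h2 := hθ.prod
  linear_combination (-(algebraMap F K (v (.inr 0))) * algebraMap F K (v (.inr 1))) * h1
    - (algebraMap F K (v (.inr 1))) ^ 2 * h2

/-- `v ↦ hmat v` as a linear map into `HW` -/
def hmatLin (θ : K) : ((Fin 1 ⊕ Fin 1) ⊕ Fin 2 → F) →ₗ[F] HW K q F where
  toFun v := ⟨hmat q θ v, hmat_mem q θ v⟩
  map_add' u v := by
    apply Subtype.ext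
    ext i j
    fin_cases i <;> fin_cases j <;> simp [hmat] <;> ring
  map_smul' c v := by
    apply Subtype.ext
    ext i j
    simp only [RingHom.id_apply, SetLike.val_smul, Matrix.smul_apply]
    fin_cases i <;> fin_cases j <;>
      simp [hmat, cj_algebraMap q hF.out, Algebra.smul_def] <;> ring

theorem hmatLin_injective {a b : F} {θ : K} (hθ : ThetaData q a b θ) :
    Function.Injective (hmatLin q (F := F) θ) := by
  rw [← LinearMap.ker_eq_bot, LinearMap.ker_eq_bot']
  intro v hv
  have hv' : hmat q θ v = 0 := congrArg Subtype.val hv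
  have h00 := congrFun (congrFun hv' 0) 0
  have h01 := congrFun (congrFun hv' 0) 1
  have h10 := congrFun (congrFun hv' 1) 0
  have h11 := congrFun (congrFun hv' 1) 1
  simp only [hmat, of_apply, cons_val', cons_val_zero, cons_val_one, Matrix.zero_apply, neg_eq_zero,
    map_eq_zero] at h00 h01 h10 h11
  have hne : θ - cj q θ ≠ 0 := sub_ne_zero.mpr (Ne.symm hθ.ne)
  have h10' := congrArg (cj q) h01
  rw [map_zero, map_add, map_mul, cj_algebraMap q hF.out, cj_algebraMap q hF.out] at h10'
  have h2 : algebraMap F K (v (.inr 1)) * (θ - cj q θ) = 0 := by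
    linear_combination h01 - h10'
  have h2' : v (.inr 1) = 0 := by
    rcases mul_eq_zero.mp h2 with h | h
    · exact (map_eq_zero _).mp h
    · exact absurd h hne
  have h1' : v (.inr 0) = 0 := by
    rw [h2', map_zero, zero_mul, add_zero] at h01
    exact (map_eq_zero _).mp h01
  ext i
  rcases i with (i | i) | i
  · have : i = 0 := Subsingleton.elim _ _
    rw [this]; exact h00
  · have : i = 0 := Subsingleton.elim _ _
    rw [this]; exact h11
  · fin_cases i
    · exact h1'
    · exact h2'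

theorem hmatLin_surjective {a b : F} {θ : K} (hθ : ThetaData q a b θ) :
    Function.Surjective (hmatLin q (F := F) θ) := by
  rintro ⟨X, hX⟩
  rw [mem_HW_iff] at hX
  have e00 : cj q (X 0 0) = X 0 0 := by
    have := congrFun (congrFun hX 0) 0
    simpa [dag_apply] using this
  have e11 : cj q (X 1 1) = X 1 1 := by
    have := congrFun (congrFun hX 1) 1
    simpa [dag_apply] using this
  have e10 : cj q (X 0 1) = X 1 0 := by
    have := congrFun (congrFun hX 1) 0
    simpa [dag_apply] using this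
  obtain ⟨x, hx⟩ := exists_of_cj_eq q hF.out _ e00
  obtain ⟨y, hy⟩ := exists_of_cj_eq q hF.out _ e11
  have hne : θ - cj q θ ≠ 0 := sub_ne_zero.mpr (Ne.symm hθ.ne)
  set z := X 0 1 with hz
  have hfix2 : cj q ((z - cj q z) / (θ - cj q θ)) = (z - cj q z) / (θ - cj q θ) := by
    rw [map_div₀, map_sub, map_sub, cj_cj, cj_cj]
    rw [div_eq_div_iff (by
      intro h; apply hne; linear_combination -h) hne]
    ring
  obtain ⟨z₂, hz₂⟩ := exists_of_cj_eq q hF.out _ hfix2
  have hfix1 : cj q (z - (z - cj q z) / (θ - cj q θ) * θ) = z - (z - cj q z) / (θ - cj q θ) * θ := by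
    rw [map_sub, map_mul, hfix2]
    field_simp
    ring
  obtain ⟨z₁, hz₁⟩ := exists_of_cj_eq q hF.out _ hfix1
  have hzz : algebraMap F K z₁ + algebraMap F K z₂ * θ = z := by
    rw [hz₁, hz₂]; ring
  refine ⟨Sum.elim (Sum.elim (fun _ => -x) (fun _ => y)) ![z₁, z₂], ?_⟩
  apply Subtype.ext
  change hmat q θ _ = X
  ext i j
  fin_cases i <;> fin_cases j
  · simp [hmat, hx]
  · simp [hmat, hzz, hz]
  · simp [hmat, hzz, e10]
  · simp [hmat, hy]

/-- the linear equivalence `F⁴ ≃ HW` -/
noncomputable def eVW {a b : F} {θ : K} (hθ : ThetaData q a b θ) :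
    ((Fin 1 ⊕ Fin 1) ⊕ Fin 2 → F) ≃ₗ[F] HW K q F :=
  LinearEquiv.ofBijective (hmatLin q θ) ⟨hmatLin_injective q hθ, hmatLin_surjective q hθ⟩

theorem det_eVW {a b : F} {θ : K} (hθ : ThetaData q a b θ) (v : (Fin 1 ⊕ Fin 1) ⊕ Fin 2 → F) :
    (eVW q hθ v).1.det = -(algebraMap F K (Cfsg.quadFormMinus 1 F a b v)) :=
  det_hmat q hθ v

end Cfsg.Agent.helper17.O4m
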