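import Mathlib
import Cfsg.Agent.Lib_helper17_O4h

set_option autoImplicit false

/-!
# Transfer of the isometry group of the minus-type form to the Hermitian model
-/

namespace Cfsg.Agent.helper17.O4m

open Matrix Cfsg.Agent.helper11.HermCount

section generic

variable {ι : Type} [Fintype ι] [DecidableEq ι] {F : Type*} [Field F]
  {W : Type*} [AddCommGroup W] [Module F W]

/-- `GL(ι, F) ≃ GL(W)` along a linear equivalence `F^ι ≃ W` -/
noncomputable def TTg (e : (ι → F) ≃ₗ[F] W) : GL ι F ≃* (W ≃ₗ[F] W) :=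
  (Matrix.GeneralLinearGroup.toLin' (Module.Basis.ofEquivFun e.symm)).trans
    (LinearMap.GeneralLinearGroup.generalLinearEquiv F W)

theorem TTg_apply (e : (ι → F) ≃ₗ[F] W) (g : GL ι F) (X : W) :
    TTg e g X = e ((g : Matrix ι ι F) *ᵥ e.symm X) := by
  have h := Matrix.GeneralLinearGroup.toLin'_apply (Module.Basis.ofEquivFun e.symm) g X
  change ((Matrix.GeneralLinearGroup.toLin' (Module.Basis.ofEquivFun e.symm)) g).toLinearEquiv X = _
  rw [h]
  have h2 : ∀ w : ι → F,
      Fintype.linearCombination F (⇑(Module.Basis.ofEquivFun e.symm)) w = e w := by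
    intro w
    have := (Module.Basis.ofEquivFun e.symm).equivFun_symm_apply w
    rw [Fintype.linearCombination_apply, ← this]
    simp [Module.Basis.equivFun_ofEquivFun]
  rw [h2]
  congr 2

end generic

variable {K : Type*} [Field K] [Fintype K] (q : ℕ) [hK : Fact (Fintype.card K = q ^ 2)]
variable {F : Type*} [Field F] [Fintype F] [Algebra F K] [hF : Fact (Fintype.card F = q)]

variable (K F)

/-- the isometry group of `(HW, det)` -/
def OW : Subgroup (HW K q F ≃ₗ[F] HW K q F) where
  carrier := {f | ∀ X : HW K q F, (f X).1.det = X.1.det}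
  mul_mem' := by
    intro f g hf hg X
    rw [LinearEquiv.mul_apply, hf, hg]
  one_mem' := by
    intro X
    rfl
  inv_mem' := by
    intro f hf X
    have h := hf (f⁻¹ X)
    rw [← h]
    congr 2
    change f (f.symm X) = X
    simp

variable {K F}

theorem mem_OW_iff (f : HW K q F ≃ₗ[F] HW K q F) :
    f ∈ OW K q F ↔ ∀ X : HW K q F, (f X).1.det = X.1.det := Iff.rfl

variable {a b : F} {θ : K}

theorem mem_iso_iff (hθ : ThetaData q a b θ) (g : GL ((Fin 1 ⊕ Fin 1) ⊕ Fin 2) F) :
    g ∈ Cfsg.isometryGroup F (Cfsg.quadFormMinus 1 F a b) ↔ TTg (eVW q hθ) g ∈ OW K q F := by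
  constructor
  · intro hg X
    rw [TTg_apply, det_eVW]
    have := hg ((eVW q hθ).symm X) 0
    simp only [Units.coeHom_apply] at this
    rw [this, ← det_eVW q hθ]
    simp
  · intro hf u v
    simp only [Units.coeHom_apply]
    have := hf (eVW q hθ u)
    rw [TTg_apply, det_eVW, det_eVW] at this
    simp only [LinearEquiv.symm_apply_apply, neg_inj] at this
    exact (algebraMap F K).injective this

theorem map_TT_iso (hθ : ThetaData q a b θ) :
    (Cfsg.isometryGroup F (Cfsg.quadFormMinus 1 F a b)).map (TTg (eVW q hθ)).toMonoidHom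
      = OW K q F := by
  ext f
  constructor
  · rintro ⟨g, hg, rfl⟩
    exact (mem_iso_iff q hθ g).mp hg
  · intro hf
    refine ⟨(TTg (eVW q hθ)).symm f, ?_, by simp⟩
    apply (mem_iso_iff q hθ _).mpr
    simpa using hf

/-- the isometry group is isomorphic to `OW` -/
noncomputable def isoEquiv (hθ : ThetaData q a b θ) :
    ↥(Cfsg.isometryGroup F (Cfsg.quadFormMinus 1 F a b)) ≃* ↥(OW K q F) :=
  ((TTg (eVW q hθ)).subgroupMap _).trans (MulEquiv.subgroupCongr (map_TT_iso q hθ))

theorem card_OW (hθ : ThetaData q a b θ)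
    (hab : ∀ z₁ z₂ : F, z₁ ^ 2 + a * z₁ * z₂ + b * z₂ ^ 2 = 0 → z₁ = 0 ∧ z₂ = 0) :
    Nat.card (OW K q F) = 2 * (q ^ 2 * (q ^ 2 + 1) * (q ^ 2 - 1)) := by
  rw [← Nat.card_congr (isoEquiv q hθ).toEquiv]
  have h := Cfsg.Agent.S0288.result (F := F) hF.out 2 (by norm_num) a b hab
  have h' : Nat.card (Cfsg.isometryGroup F (Cfsg.quadFormMinus 1 F a b)) = _ := h
  rw [h']
  simp
  ring

end Cfsg.Agent.helper17.O4m
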