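import Mathlib
import Cfsg.Agent.Lib_helper17_O4i

set_option autoImplicit false

/-!
# The maps `X ↦ A X A†` and transpose on Hermitian matrices
-/

namespace Cfsg.Agent.helper17.O4m

open Matrix Cfsg.Agent.helper11.HermCount

variable {K : Type*} [Field K] [Fintype K] (q : ℕ) [hK : Fact (Fintype.card K = q ^ 2)]
variable {F : Type*} [Field F] [Fintype F] [Algebra F K] [hF : Fact (Fintype.card F = q)]

theorem conj_mem (A : Matrix (Fin 2) (Fin 2) K) {X : Matrix (Fin 2) (Fin 2) K}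
    (hX : X ∈ HW K q F) : A * X * dag q A ∈ HW K q F := by
  rw [mem_HW_iff] at hX ⊢
  rw [dag_mul, dag_mul, dag_dag, hX, mul_assoc]

theorem dag_mul_dag_inv (A : GL (Fin 2) K) :
    dag q (A : Matrix (Fin 2) (Fin 2) K) * dag q ((A⁻¹ : GL (Fin 2) K) : Matrix (Fin 2) (Fin 2) K) = 1 := by
  rw [← dag_mul, Units.inv_mul, dag_one]

theorem dag_inv_mul_dag (A : GL (Fin 2) K) :
    dag q ((A⁻¹ : GL (Fin 2) K) : Matrix (Fin 2) (Fin 2) K) * dag q (A : Matrix (Fin 2) (Fin 2) K) = 1 := by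
  rw [← dag_mul, Units.mul_inv, dag_one]

variable (F)

/-- `X ↦ A X A†` -/
def phiLin (A : GL (Fin 2) K) : HW K q F ≃ₗ[F] HW K q F where
  toFun X := ⟨(A : Matrix (Fin 2) (Fin 2) K) * X.1 * dag q (A : Matrix (Fin 2) (Fin 2) K),
    conj_mem q _ X.2⟩
  invFun X := ⟨((A⁻¹ : GL (Fin 2) K) : Matrix (Fin 2) (Fin 2) K) * X.1 *
    dag q ((A⁻¹ : GL (Fin 2) K) : Matrix (Fin 2) (Fin 2) K), conj_mem q _ X.2⟩
  map_add' X Y := by
    apply Subtype.ext
    simp [mul_add, add_mul]
  map_smul' c X := by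
    apply Subtype.ext
    simp
  left_inv X := by
    apply Subtype.ext
    simp only
    have : ((A⁻¹ : GL (Fin 2) K) : Matrix (Fin 2) (Fin 2) K) *
        ((A : Matrix (Fin 2) (Fin 2) K) * X.1 * dag q (A : Matrix (Fin 2) (Fin 2) K)) *
        dag q ((A⁻¹ : GL (Fin 2) K) : Matrix (Fin 2) (Fin 2) K)
        = (((A⁻¹ : GL (Fin 2) K) : Matrix (Fin 2) (Fin 2) K) * (A : Matrix (Fin 2) (Fin 2) K)) * X.1 *
          (dag q (A : Matrix (Fin 2) (Fin 2) K) *
            dag q ((A⁻¹ : GL (Fin 2) K) : Matrix (Fin 2) (Fin 2) K)) := by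
      simp only [mul_assoc]
    rw [this, Units.inv_mul, dag_mul_dag_inv, one_mul, mul_one]
  right_inv X := by
    apply Subtype.ext
    simp only
    have : (A : Matrix (Fin 2) (Fin 2) K) *
        (((A⁻¹ : GL (Fin 2) K) : Matrix (Fin 2) (Fin 2) K) * X.1 *
          dag q ((A⁻¹ : GL (Fin 2) K) : Matrix (Fin 2) (Fin 2) K)) *
        dag q (A : Matrix (Fin 2) (Fin 2) K)
        = ((A : Matrix (Fin 2) (Fin 2) K) * ((A⁻¹ : GL (Fin 2) K) : Matrix (Fin 2) (Fin 2) K)) * X.1 *
          (dag q ((A⁻¹ : GL (Fin 2) K) : Matrix (Fin 2) (Fin 2) K) *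
            dag q (A : Matrix (Fin 2) (Fin 2) K)) := by
      simp only [mul_assoc]
    rw [this, Units.mul_inv, dag_inv_mul_dag, one_mul, mul_one]

theorem phiLin_apply (A : GL (Fin 2) K) (X : HW K q F) :
    (phiLin q F A X).1 = (A : Matrix (Fin 2) (Fin 2) K) * X.1 *
      dag q (A : Matrix (Fin 2) (Fin 2) K) := rfl

/-- the homomorphism `A ↦ (X ↦ A X A†)` -/
def phi : GL (Fin 2) K →* (HW K q F ≃ₗ[F] HW K q F) where
  toFun A := phiLin q F A
  map_one' := by
    ext X : 2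
    rw [phiLin_apply]
    simp [dag_one]
  map_mul' A B := by
    ext X : 2
    rw [LinearEquiv.mul_apply, phiLin_apply, phiLin_apply, phiLin_apply, Units.val_mul, dag_mul]
    simp only [mul_assoc]

theorem phi_apply (A : GL (Fin 2) K) (X : HW K q F) :
    (phi q F A X).1 = (A : Matrix (Fin 2) (Fin 2) K) * X.1 *
      dag q (A : Matrix (Fin 2) (Fin 2) K) := rfl

variable (K)

/-- the norm `u ↦ u ^ (q + 1)` -/
def normHom : Kˣ →* Kˣ := powMonoidHom (q + 1)

/-- matrices whose determinant has norm one -/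
def Gam : Subgroup (GL (Fin 2) K) := ((normHom K q).comp Matrix.GeneralLinearGroup.det).ker

variable {K}

theorem mem_Gam_iff (A : GL (Fin 2) K) :
    A ∈ Gam K q ↔ (Matrix.GeneralLinearGroup.det A) ^ (q + 1) = 1 := Iff.rfl

theorem mul_cj_eq_pow (x : K) : x * cj q x = x ^ (q + 1) := by
  rw [cj_apply, pow_succ']

theorem det_phi (A : GL (Fin 2) K) (X : HW K q F) :
    (phi q F A X).1.det = (A : Matrix (Fin 2) (Fin 2) K).det ^ (q + 1) * X.1.det := by
  rw [phi_apply, det_mul, det_mul, det_dag, ← mul_cj_eq_pow]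
  ring

theorem phi_mem_OW {A : GL (Fin 2) K} (hA : A ∈ Gam K q) : phi q F A ∈ OW K q F := by
  intro X
  rw [det_phi]
  rw [mem_Gam_iff] at hA
  have := congrArg Units.val hA
  rw [Units.val_pow_eq_pow_val, Matrix.GeneralLinearGroup.val_det_apply, Units.val_one] at this
  rw [this, one_mul]

theorem transpose_mem {X : Matrix (Fin 2) (Fin 2) K} (hX : X ∈ HW K q F) : Xᵀ ∈ HW K q F := by
  rw [mem_HW_iff] at hX ⊢
  rw [dag_transpose, hX]

/-- transpose -/
def tau : HW K q F ≃ₗ[F] HW K q F where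
  toFun X := ⟨X.1ᵀ, transpose_mem q F X.2⟩
  invFun X := ⟨X.1ᵀ, transpose_mem q F X.2⟩
  map_add' X Y := by
    apply Subtype.ext
    simp
  map_smul' c X := by
    apply Subtype.ext
    simp
  left_inv X := by
    apply Subtype.ext
    simp
  right_inv X := by
    apply Subtype.ext
    simp

theorem tau_apply (X : HW K q F) : (tau q F X).1 = X.1ᵀ := rfl

theorem tau_mem_OW : tau q F ∈ OW K q F := by
  intro X
  rw [tau_apply, det_transpose]

theorem tau_mul_tau : tau q F * tau q F = (1 : HW K q F ≃ₗ[F] HW K q F) := by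
  ext X : 2
  rw [LinearEquiv.mul_apply, tau_apply, tau_apply, transpose_transpose]
  rfl

theorem tau_inv : (tau q F)⁻¹ = (tau q F : HW K q F ≃ₗ[F] HW K q F) :=
  inv_eq_of_mul_eq_one_right (tau_mul_tau q F)

variable (K)

/-- entrywise conjugation on `GL₂(K)` -/
def gbar : GL (Fin 2) K →* GL (Fin 2) K := Matrix.GeneralLinearGroup.map (cj q)

variable {K}

theorem coe_gbar (A : GL (Fin 2) K) :
    ((gbar K q A : GL (Fin 2) K) : Matrix (Fin 2) (Fin 2) K) =
      (A : Matrix (Fin 2) (Fin 2) K).map (cj q) := rfl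

theorem det_gbar (A : GL (Fin 2) K) :
    Matrix.GeneralLinearGroup.det (gbar K q A) =
      Units.map ((cj q : K →+* K) : K →* K) (Matrix.GeneralLinearGroup.det A) :=
  Matrix.GeneralLinearGroup.map_det (cj q) A

theorem tau_phi_tau (A : GL (Fin 2) K) :
    tau q F * phi q F A * tau q F = phi q F (gbar K q A) := by
  ext X : 2
  rw [LinearEquiv.mul_apply, LinearEquiv.mul_apply, tau_apply, phi_apply, phi_apply, tau_apply,
    transpose_mul, transpose_mul, transpose_transpose, coe_gbar, mul_assoc]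
  congr 2
  ext i j
  simp [dag_apply, cj_cj]

theorem gbar_mem_Gam {A : GL (Fin 2) K} (hA : A ∈ Gam K q) : gbar K q A ∈ Gam K q := by
  rw [mem_Gam_iff] at hA ⊢
  rw [det_gbar, ← map_pow, hA, map_one]

end Cfsg.Agent.helper17.O4m
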