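import Mathlib
import Cfsg.Agent.Lib_helper17_O4j

set_option autoImplicit false

/-!
# Structure of the isometry group of the Hermitian model by counting
-/

namespace Cfsg.Agent.helper17.O4m

open Matrix Cfsg.Agent.helper11.HermCount

variable {K : Type*} [Field K] [Fintype K] (q : ℕ) [hK : Fact (Fintype.card K = q ^ 2)]
variable {F : Type*} [Field F] [Fintype F] [Algebra F K] [hF : Fact (Fintype.card F = q)]

theorem one_mem_HW : (1 : Matrix (Fin 2) (Fin 2) K) ∈ HW K q F := dag_one q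

theorem e11_mem_HW : (!![1, 0; 0, 0] : Matrix (Fin 2) (Fin 2) K) ∈ HW K q F := by
  rw [mem_HW_iff]
  ext i j
  fin_cases i <;> fin_cases j <;> simp [dag_apply]

theorem s_mem_HW : (!![0, 1; 1, 0] : Matrix (Fin 2) (Fin 2) K) ∈ HW K q F := by
  rw [mem_HW_iff]
  ext i j
  fin_cases i <;> fin_cases j <;> simp [dag_apply]

theorem offdiag_mem_HW (z : K) : (!![0, z; cj q z, 0] : Matrix (Fin 2) (Fin 2) K) ∈ HW K q F := by
  rw [mem_HW_iff]
  ext i j
  fin_cases i <;> fin_cases j <;> simp [dag_apply, cj_cj]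

theorem mul_eq_of_conj {A X Y : Matrix (Fin 2) (Fin 2) K} (hA : A * dag q A = 1)
    (h : A * X * dag q A = Y) : A * X = Y * A := by
  have hA' : dag q A * A = 1 := mul_eq_one_comm.mp hA
  rw [← h, mul_assoc, hA', mul_one]

theorem scalar_of_comm {A : Matrix (Fin 2) (Fin 2) K}
    (h1 : A * !![1, 0; 0, 0] = !![1, 0; 0, 0] * A) (h2 : A * !![0, 1; 1, 0] = !![0, 1; 1, 0] * A) :
    A = Matrix.scalar (Fin 2) (A 0 0) := by
  have e01 := congrFun (congrFun h1 0) 1
  have e10 := congrFun (congrFun h1 1) 0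
  have e00 := congrFun (congrFun h2 0) 1
  simp [Matrix.mul_apply, Fin.sum_univ_two] at e01 e10 e00
  ext i j
  fin_cases i <;> fin_cases j <;> simp [← e01, e10, e00]

/-- if `X ↦ A X A†` agrees with `g` on `1`, `E₁₁` and `S`, which `g` fixes, then `A` is a scalar of
norm one -/
theorem scalar_of_fix {A : Matrix (Fin 2) (Fin 2) K}
    (h1 : A * 1 * dag q A = 1)
    (h2 : A * !![1, 0; 0, 0] * dag q A = !![1, 0; 0, 0])
    (h3 : A * !![0, 1; 1, 0] * dag q A = !![0, 1; 1, 0]) :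
    A = Matrix.scalar (Fin 2) (A 0 0) ∧ A 0 0 * cj q (A 0 0) = 1 := by
  rw [mul_one] at h1
  have hs := scalar_of_comm (mul_eq_of_conj q h1 h2) (mul_eq_of_conj q h1 h3)
  refine ⟨hs, ?_⟩
  have := congrFun (congrFun h1 0) 0
  rw [hs] at this
  simpa [Matrix.mul_apply, Fin.sum_univ_two, dag_apply] using this

theorem scalar_of_phi_one {A : GL (Fin 2) K} (h : ∀ X : HW K q F, phi q F A X = X) :
    (A : Matrix (Fin 2) (Fin 2) K) = Matrix.scalar (Fin 2) ((A : Matrix (Fin 2) (Fin 2) K) 0 0) ∧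
      (A : Matrix (Fin 2) (Fin 2) K) 0 0 * cj q ((A : Matrix (Fin 2) (Fin 2) K) 0 0) = 1 := by
  apply scalar_of_fix
  · exact congrArg Subtype.val (h ⟨1, one_mem_HW q⟩)
  · exact congrArg Subtype.val (h ⟨_, e11_mem_HW q⟩)
  · exact congrArg Subtype.val (h ⟨_, s_mem_HW q⟩)

theorem tau_ne_phi {θ : K} (hθ : cj q θ ≠ θ) (A : GL (Fin 2) K) : tau q F ≠ phi q F A := by
  intro h
  have hX : ∀ X : HW K q F, X.1ᵀ = (A : Matrix (Fin 2) (Fin 2) K) * X.1 *
      dag q (A : Matrix (Fin 2) (Fin 2) K) := fun X => by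
    rw [← phi_apply, ← h]; rfl
  have h1 := hX ⟨1, one_mem_HW q⟩
  have h2 := hX ⟨_, e11_mem_HW q⟩
  have h3 := hX ⟨_, s_mem_HW q⟩
  simp only [transpose_one] at h1
  have t2 : (!![1, 0; 0, 0] : Matrix (Fin 2) (Fin 2) K)ᵀ = !![1, 0; 0, 0] := by
    ext i j; fin_cases i <;> fin_cases j <;> rfl
  have t3 : (!![0, 1; 1, 0] : Matrix (Fin 2) (Fin 2) K)ᵀ = !![0, 1; 1, 0] := by
    ext i j; fin_cases i <;> fin_cases j <;> rfl
  rw [t2] at h2
  rw [t3] at h3
  obtain ⟨hs, hn⟩ := scalar_of_fix q h1.symm h2.symm h3.symm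
  have h4 := hX ⟨_, offdiag_mem_HW q θ⟩
  rw [hs] at h4
  have := congrFun (congrFun h4 0) 1
  simp [Matrix.mul_apply, Fin.sum_univ_two, dag_apply] at this
  apply hθ
  rw [this]
  have hn' : (A : Matrix (Fin 2) (Fin 2) K) 0 0 * θ * cj q ((A : Matrix (Fin 2) (Fin 2) K) 0 0)
      = ((A : Matrix (Fin 2) (Fin 2) K) 0 0 * cj q ((A : Matrix (Fin 2) (Fin 2) K) 0 0)) * θ := by ring
  rw [hn', hn, one_mul]

section count

theorem card_GL2 :
    Nat.card (GL (Fin 2) K) = ((q ^ 2) ^ 2 - 1) * ((q ^ 2) ^ 2 - q ^ 2) := by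
  rw [Matrix.card_GL_field, Fin.prod_univ_two, hK.out]
  simp

theorem card_ker_normHom : Nat.card (normHom K q).ker = q + 1 := by
  rw [normHom, IsCyclic.card_powMonoidHom_ker, card_units_F hK.out]
  exact Nat.gcd_eq_right (dvd_mul_left _ _)

theorem card_range_normHom : Nat.card (normHom K q).range = q - 1 := by
  have h1 := Subgroup.card_mul_index (normHom K q).ker
  rw [Subgroup.index_ker, card_ker_normHom, card_units_F hK.out] at h1
  have : (q + 1) * Nat.card (normHom K q).range = (q + 1) * (q - 1) := by rw [h1]; ring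
  exact Nat.eq_of_mul_eq_mul_left (by omega) this

theorem card_Gam : Nat.card (Gam K q) * (q - 1) = Nat.card (GL (Fin 2) K) := by
  have h1 := Subgroup.card_mul_index (Gam K q)
  have h2 : (Gam K q).index = Nat.card ((normHom K q).comp Matrix.GeneralLinearGroup.det).range :=
    Subgroup.index_ker _
  have h3 : ((normHom K q).comp (Matrix.GeneralLinearGroup.det (n := Fin 2) (R := K))).range
      = (normHom K q).range := by
    rw [MonoidHom.range_comp, MonoidHom.range_eq_top.mpr Matrix.GeneralLinearGroup.det_surjective,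
      ← MonoidHom.range_eq_map]
  rw [h2, h3, card_range_normHom] at h1
  exact h1

/-- the kernel of `phi` has at most `q + 1` elements -/
theorem card_le_of_phi_one {G : Type*} [Group G] (f : G →* GL (Fin 2) K)
    (hf : Function.Injective f) (hphi : ∀ x, ∀ X : HW K q F, phi q F (f x) X = X) :
    Nat.card G ≤ q + 1 := by
  have hne : ∀ x : G, ((f x : GL (Fin 2) K) : Matrix (Fin 2) (Fin 2) K) 0 0 ≠ 0 := by
    intro x h0
    have := (scalar_of_phi_one q (hphi x)).2
    rw [h0, zero_mul] at this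
    exact zero_ne_one this
  let κ : G → (normHom K q).ker := fun x => ⟨Units.mk0 _ (hne x), by
    rw [MonoidHom.mem_ker, normHom, powMonoidHom_apply]
    apply Units.ext
    rw [Units.val_pow_eq_pow_val, Units.val_mk0, Units.val_one, ← mul_cj_eq_pow]
    exact (scalar_of_phi_one q (hphi x)).2⟩
  have hκ : Function.Injective κ := by
    intro x y hxy
    have hxy' : ((f x : GL (Fin 2) K) : Matrix (Fin 2) (Fin 2) K) 0 0 =
        ((f y : GL (Fin 2) K) : Matrix (Fin 2) (Fin 2) K) 0 0 :=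
      congrArg (fun u : (normHom K q).ker => ((u : Kˣ) : K)) hxy
    apply hf
    apply Units.ext
    rw [(scalar_of_phi_one q (hphi x)).1, (scalar_of_phi_one q (hphi y)).1, hxy']
  have := Nat.card_le_card_of_injective κ hκ
  rwa [card_ker_normHom] at this

variable (K F)

/-- `Γ → O(W)` -/
def phiG : Gam K q →* OW K q F :=
  ((phi q F).comp (Gam K q).subtype).codRestrict (OW K q F) (fun p => phi_mem_OW q F p.2)

variable {K F}

theorem coe_phiG (p : Gam K q) : ((phiG K q F p : OW K q F) :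
    HW K q F ≃ₗ[F] HW K q F) = phi q F p.1 := rfl

theorem card_range_phiG_ge :
    q ^ 2 * (q ^ 2 + 1) * (q ^ 2 - 1) ≤ Nat.card (phiG K q F).range := by
  have h1 := Subgroup.card_mul_index (phiG K q F).ker
  rw [Subgroup.index_ker] at h1
  have h2 : Nat.card (phiG K q F).ker ≤ q + 1 := by
    apply card_le_of_phi_one q (F := F) ((Gam K q).subtype.comp (phiG K q F).ker.subtype)
    · exact (Subtype.val_injective).comp Subtype.val_injective
    · intro x X
      have hx : phiG K q F x.1 = 1 := x.2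
      have := congrArg (fun g : OW K q F => (g : HW K q F ≃ₗ[F] HW K q F) X) hx
      simpa [coe_phiG] using this
  have h3 := card_Gam (K := K) q
  rw [card_GL2 q] at h3
  have hq : 2 ≤ q := two_le_q hK.out
  obtain ⟨t, rfl⟩ : ∃ t, q = t + 2 := ⟨q - 2, by omega⟩
  have e1 : ((t + 2) ^ 2) ^ 2 - 1 = (t + 1) * (t + 3) * ((t + 2) ^ 2 + 1) := by
    have : ((t + 2) ^ 2) ^ 2 = (t + 1) * (t + 3) * ((t + 2) ^ 2 + 1) + 1 := by ring
    omega
  have e2 : ((t + 2) ^ 2) ^ 2 - (t + 2) ^ 2 = (t + 2) ^ 2 * ((t + 1) * (t + 3)) := by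
    have : ((t + 2) ^ 2) ^ 2 = (t + 2) ^ 2 * ((t + 1) * (t + 3)) + (t + 2) ^ 2 := by ring
    omega
  have e3 : t + 2 - 1 = t + 1 := by omega
  have e4 : (t + 2) ^ 2 - 1 = (t + 1) * (t + 3) := by
    have : (t + 2) ^ 2 = (t + 1) * (t + 3) + 1 := by ring
    omega
  rw [e1, e2, e3] at h3
  rw [e4]
  set k := Nat.card (phiG K (t + 2) F).ker with hk
  set r := Nat.card (phiG K (t + 2) F).range with hr
  have h4 : k * r * (t + 1) = (t + 1) * (t + 3) * ((t + 2) ^ 2 + 1) * ((t + 2) ^ 2 * ((t + 1) * (t + 3))) := by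
    rw [h1]; exact h3
  have h5 : k * r * (t + 1) ≤ (t + 2 + 1) * r * (t + 1) := by
    apply Nat.mul_le_mul_right
    apply Nat.mul_le_mul_right
    exact h2
  rw [h4] at h5
  have h6 : (t + 1) * (t + 3) * ((t + 2) ^ 2 + 1) * ((t + 2) ^ 2 * ((t + 1) * (t + 3)))
      = ((t + 2) ^ 2 * ((t + 2) ^ 2 + 1) * ((t + 1) * (t + 3))) * ((t + 3) * (t + 1)) := by ring
  have h7 : (t + 2 + 1) * r * (t + 1) = r * ((t + 3) * (t + 1)) := by ring
  rw [h6, h7] at h5
  exact Nat.le_of_mul_le_mul_right h5 (by positivity)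

variable (K F)

/-- `τ` as an element of `O(W)` -/
def tauO : OW K q F := ⟨tau q F, tau_mem_OW q F⟩

variable {K F}

theorem tauO_not_mem {θ : K} (hθ : cj q θ ≠ θ) : tauO K q F ∉ (phiG K q F).range := by
  rintro ⟨p, hp⟩
  have := congrArg (Subtype.val) hp
  rw [coe_phiG] at this
  exact tau_ne_phi q hθ p.1 this.symm

variable {a b : F} {θ : K}

omit hK hF in
theorem pos_aux (hq : 2 ≤ q) : 0 < q ^ 2 * (q ^ 2 + 1) * (q ^ 2 - 1) := by
  have : 4 ≤ q ^ 2 := by nlinarith
  have : 0 < q ^ 2 - 1 := by omega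
  positivity

theorem finite_OW (hθ : ThetaData q a b θ)
    (hab : ∀ z₁ z₂ : F, z₁ ^ 2 + a * z₁ * z₂ + b * z₂ ^ 2 = 0 → z₁ = 0 ∧ z₂ = 0) :
    Finite (OW K q F) := by
  apply Nat.finite_of_card_ne_zero
  rw [card_OW q hθ hab]
  have := pos_aux q (two_le_q hK.out)
  omega

theorem index_range_phiG (hθ : ThetaData q a b θ)
    (hab : ∀ z₁ z₂ : F, z₁ ^ 2 + a * z₁ * z₂ + b * z₂ ^ 2 = 0 → z₁ = 0 ∧ z₂ = 0) :
    (phiG K q F).range.index = 2 := by
  have := finite_OW q hθ hab
  have h1 := Subgroup.card_mul_index (phiG K q F).range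
  rw [card_OW q hθ hab] at h1
  have h2 := card_range_phiG_ge (K := K) (F := F) q
  have hpos := pos_aux q (two_le_q hK.out)
  set N := q ^ 2 * (q ^ 2 + 1) * (q ^ 2 - 1) with hN
  set r := Nat.card (phiG K q F).range with hr
  have h3 : (phiG K q F).range.index ≠ 1 := by
    intro h
    rw [Subgroup.index_eq_one] at h
    exact tauO_not_mem (F := F) q hθ.ne (by rw [h]; trivial)
  have h4 : (phiG K q F).range.index ≠ 0 := Subgroup.index_ne_zero_of_finite
  have h5 : (phiG K q F).range.index ≤ 2 := by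
    by_contra hcon
    push Not at hcon
    have : 3 * N ≤ r * (phiG K q F).range.index := Nat.mul_le_mul h2 hcon |>.trans' (by omega)
    omega
  omega

end count

end Cfsg.Agent.helper17.O4m
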