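import Mathlib
import Cfsg.Agent.Lib_helper17_O4k
import Cfsg.Agent.Lib_helper17_O4e
import Cfsg.Agent.Lib_helper11_SL2U

set_option autoImplicit false

/-!
# `[O,O] = φ(SL₂(K))` for the Hermitian model
-/

namespace Cfsg.Agent.helper17.O4m

open Matrix Cfsg.Agent.helper11.HermCount Cfsg.Agent.helper11.SL2U
open scoped commutatorElement

variable {K : Type*} [Field K] [Fintype K] (q : ℕ) [hK : Fact (Fintype.card K = q ^ 2)]
variable {F : Type*} [Field F] [Fintype F] [Algebra F K] [hF : Fact (Fintype.card F = q)]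
variable {a b : F} {θ : K}

/-- every isometry is `φ(A)` or `τ φ(A)` -/
theorem OW_structure (hθ : ThetaData q a b θ)
    (hab : ∀ z₁ z₂ : F, z₁ ^ 2 + a * z₁ * z₂ + b * z₂ ^ 2 = 0 → z₁ = 0 ∧ z₂ = 0)
    (g : HW K q F ≃ₗ[F] HW K q F) (hg : g ∈ OW K q F) :
    (∃ A ∈ Gam K q, g = phi q F A) ∨ (∃ A ∈ Gam K q, g = tau q F * phi q F A) := by
  by_cases h : (⟨g, hg⟩ : OW K q F) ∈ (phiG K q F).range
  · left
    obtain ⟨A, hA⟩ := h
    exact ⟨A.1, A.2, by rw [← coe_phiG, hA]⟩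
  · right
    have h2 := (Subgroup.mul_mem_iff_of_index_two (index_range_phiG q hθ hab)
      (a := tauO K q F) (b := ⟨g, hg⟩)).mpr
      ⟨fun h' => absurd h' (tauO_not_mem q hθ.ne), fun h' => absurd h' h⟩
    obtain ⟨A, hA⟩ := h2
    refine ⟨A.1, A.2, ?_⟩
    have h3 : phi q F A.1 = tau q F * g := by
      rw [← coe_phiG, hA]; rfl
    rw [h3, ← mul_assoc, tau_mul_tau, one_mul]

variable (K F)

/-- `SL₂(K) → GL(W)` -/
def psi0 : Matrix.SpecialLinearGroup (Fin 2) K →* (HW K q F ≃ₗ[F] HW K q F) :=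
  (phi q F).comp Matrix.SpecialLinearGroup.toGL

variable {K F}

theorem psi0_apply (s : Matrix.SpecialLinearGroup (Fin 2) K) :
    psi0 K q F s = phi q F (Matrix.SpecialLinearGroup.toGL s) := rfl

theorem mem_range_of_det_one (A : GL (Fin 2) K) (h1 : Matrix.GeneralLinearGroup.det A = 1) :
    phi q F A ∈ (psi0 K q F).range := by
  have h1' : (A : Matrix (Fin 2) (Fin 2) K).det = 1 := by
    have := congrArg Units.val h1
    simpa using this
  have h2 : Matrix.SpecialLinearGroup.toGL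
      (⟨(A : Matrix (Fin 2) (Fin 2) K), h1'⟩ : Matrix.SpecialLinearGroup (Fin 2) K) = A :=
    Units.ext rfl
  refine ⟨(⟨(A : Matrix (Fin 2) (Fin 2) K), h1'⟩ : Matrix.SpecialLinearGroup (Fin 2) K), ?_⟩
  exact congrArg (phi q F) h2

theorem phi_scalar (u : Kˣ) (hu : u ^ (q + 1) = 1) :
    phi q F (Matrix.GeneralLinearGroup.scalar (Fin 2) u) = 1 := by
  ext X : 2
  rw [phi_apply, Matrix.GeneralLinearGroup.coe_scalar]
  have hu' : (u : K) * cj q (u : K) = 1 := by
    rw [mul_cj_eq_pow, ← Units.val_pow_eq_pow_val, hu, Units.val_one]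
  ext i j
  have : ((Matrix.scalar (Fin 2)) (u : K) * X.1 * dag q ((Matrix.scalar (Fin 2)) (u : K))) i j
      = ((u : K) * cj q (u : K)) * X.1 i j := by
    fin_cases i <;> fin_cases j <;>
      simp [Matrix.mul_apply, Fin.sum_univ_two, dag_apply] <;> ring
  rw [this, hu', one_mul]
  rfl

theorem mem_range_of_det_sq (A : GL (Fin 2) K) (l : Kˣ) (hl : l ^ (q + 1) = 1)
    (h1 : Matrix.GeneralLinearGroup.det A = l ^ 2) :
    phi q F A ∈ (psi0 K q F).range := by
  have hl' : (l⁻¹) ^ (q + 1) = 1 := by rw [inv_pow, hl, inv_one]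
  have h : phi q F A = phi q F (Matrix.GeneralLinearGroup.scalar (Fin 2) l⁻¹ * A) := by
    rw [map_mul, phi_scalar q l⁻¹ hl', one_mul]
  rw [h]
  apply mem_range_of_det_one
  simp only [map_mul, Matrix.GeneralLinearGroup.det_scalar, Fintype.card_fin, h1]
  simp

theorem comm_case00 (A B : GL (Fin 2) K) :
    ⁅phi q F A, phi q F B⁆ ∈ (psi0 K q F).range := by
  rw [← map_commutatorElement]
  apply mem_range_of_det_one
  rw [map_commutatorElement]
  exact commutatorElement_eq_one_iff_commute.mpr (Commute.all _ _)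

theorem cj_det_of_mem {B : GL (Fin 2) K} (hB : B ∈ Gam K q) :
    Units.map ((cj q : K →+* K) : K →* K) (Matrix.GeneralLinearGroup.det B) =
      (Matrix.GeneralLinearGroup.det B)⁻¹ := by
  rw [mem_Gam_iff] at hB
  symm
  apply inv_eq_of_mul_eq_one_right
  apply Units.ext
  rw [Units.val_mul, Units.coe_map, Units.val_one]
  change ((Matrix.GeneralLinearGroup.det B : Kˣ) : K) * cj q ((Matrix.GeneralLinearGroup.det B : Kˣ) : K) = 1
  rw [mul_cj_eq_pow, ← Units.val_pow_eq_pow_val, hB, Units.val_one]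

theorem comm_case10 (A B : GL (Fin 2) K) (hB : B ∈ Gam K q) :
    ⁅tau q F * phi q F A, phi q F B⁆ ∈ (psi0 K q F).range := by
  rw [Cfsg.Agent.helper17.O4.comm_aux1 _ _ _ (tau_inv q F), ← map_inv, ← map_mul, ← map_mul,
    tau_phi_tau, ← map_inv, ← map_mul]
  have hB' := hB
  rw [mem_Gam_iff] at hB'
  apply mem_range_of_det_sq q _ (Matrix.GeneralLinearGroup.det B)⁻¹ (by rw [inv_pow, hB', inv_one])
  rw [map_mul, det_gbar]
  simp only [map_mul, map_inv]
  rw [mul_inv_cancel_comm, cj_det_of_mem q hB, sq]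

theorem comm_case11 (A B : GL (Fin 2) K) (hA : A ∈ Gam K q) (hB : B ∈ Gam K q) :
    ⁅tau q F * phi q F A, tau q F * phi q F B⁆ ∈ (psi0 K q F).range := by
  rw [Cfsg.Agent.helper17.O4.comm_aux2 _ _ _ (tau_inv q F), ← map_inv, ← map_inv, ← map_mul,
    tau_phi_tau, tau_phi_tau, ← map_mul, ← map_mul]
  have hA' := hA
  have hB' := hB
  rw [mem_Gam_iff] at hA' hB'
  apply mem_range_of_det_sq q _
    ((Matrix.GeneralLinearGroup.det A)⁻¹ * Matrix.GeneralLinearGroup.det B)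
    (by rw [mul_pow, inv_pow, hA', hB', inv_one, one_mul])
  rw [map_mul, map_mul, det_gbar, det_gbar]
  simp only [map_mul, map_inv]
  rw [cj_det_of_mem q hA, cj_det_of_mem q hB, inv_inv, sq]
  simp only [mul_assoc]

/-- commutators of isometries lie in `φ(SL₂(K))` -/
theorem commutator_OW_le (hθ : ThetaData q a b θ)
    (hab : ∀ z₁ z₂ : F, z₁ ^ 2 + a * z₁ * z₂ + b * z₂ ^ 2 = 0 → z₁ = 0 ∧ z₂ = 0) :
    ⁅OW K q F, OW K q F⁆ ≤ (psi0 K q F).range := by
  rw [Subgroup.commutator_le]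
  intro g hg h hh
  rcases OW_structure q hθ hab g hg with ⟨A, hA, rfl⟩ | ⟨A, hA, rfl⟩ <;>
    rcases OW_structure q hθ hab h hh with ⟨B, hB, rfl⟩ | ⟨B, hB, rfl⟩
  · exact comm_case00 q A B
  · rw [← commutatorElement_inv]
    exact inv_mem (comm_case10 q B A hA)
  · exact comm_case10 q A B hB
  · exact comm_case11 q A B hA hB

end Cfsg.Agent.helper17.O4m
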