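import Mathlib
import Cfsg.Agent.Lib_helper17_O4l
import Cfsg.Agent.Lib_helper17_O4f

set_option autoImplicit false

/-!
# `φ(SL₂(K)) ≤ [O,O]` and centrality, Hermitian model
-/

namespace Cfsg.Agent.helper17.O4m

open Matrix Cfsg.Agent.helper11.HermCount Cfsg.Agent.helper11.SL2U
open scoped commutatorElement

variable {K : Type*} [Field K] [Fintype K] (q : ℕ) [hK : Fact (Fintype.card K = q ^ 2)]
variable {F : Type*} [Field F] [Fintype F] [Algebra F K] [hF : Fact (Fintype.card F = q)]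

theorem toGL_mem_Gam (s : Matrix.SpecialLinearGroup (Fin 2) K) :
    Matrix.SpecialLinearGroup.toGL s ∈ Gam K q := by
  rw [mem_Gam_iff]
  have : Matrix.GeneralLinearGroup.det (Matrix.SpecialLinearGroup.toGL s) = 1 := by
    ext
    simp
  rw [this, one_pow]

theorem psi0_mem_OW (s : Matrix.SpecialLinearGroup (Fin 2) K) : psi0 K q F s ∈ OW K q F :=
  phi_mem_OW q F (toGL_mem_Gam q s)

theorem psi0_comm_mem (D T : Matrix.SpecialLinearGroup (Fin 2) K) :
    psi0 K q F ⁅D, T⁆ ∈ ⁅OW K q F, OW K q F⁆ := by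
  rw [map_commutatorElement]
  exact Subgroup.commutator_mem_commutator (psi0_mem_OW q D) (psi0_mem_OW q T)

/-- `diag(c, c⁻¹)` -/
def dgS (c : K) (hc : c ≠ 0) : Matrix.SpecialLinearGroup (Fin 2) K :=
  ⟨!![c, 0; 0, c⁻¹], by simp [det_fin_two_of, hc]⟩

omit [Fintype K] in
theorem comm_dgS_uS (c : K) (hc : c ≠ 0) (x : K) :
    ⁅dgS c hc, uS x⁆ = uS ((c ^ 2 - 1) * x) := by
  apply Cfsg.Agent.helper17.O4.comm_eq_of_mul_eq
  apply sl_ext
  have hd : ((dgS c hc : Matrix.SpecialLinearGroup (Fin 2) K) : Matrix (Fin 2) (Fin 2) K)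
      = !![c, 0; 0, c⁻¹] := rfl
  rw [Matrix.SpecialLinearGroup.coe_mul, Matrix.SpecialLinearGroup.coe_mul,
    Matrix.SpecialLinearGroup.coe_mul, hd, coe_uS, coe_uS]
  ext i j
  fin_cases i <;> fin_cases j <;> simp [Matrix.mul_apply, Fin.sum_univ_two] <;>
    (try field_simp) <;> (try ring)

omit [Fintype K] in
theorem comm_dgS_lS (c : K) (hc : c ≠ 0) (x : K) :
    ⁅dgS c hc, lS x⁆ = lS (((c⁻¹) ^ 2 - 1) * x) := by
  apply Cfsg.Agent.helper17.O4.comm_eq_of_mul_eq
  apply sl_ext
  have hd : ((dgS c hc : Matrix.SpecialLinearGroup (Fin 2) K) : Matrix (Fin 2) (Fin 2) K)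
      = !![c, 0; 0, c⁻¹] := rfl
  rw [Matrix.SpecialLinearGroup.coe_mul, Matrix.SpecialLinearGroup.coe_mul,
    Matrix.SpecialLinearGroup.coe_mul, hd, coe_lS, coe_lS]
  ext i j
  fin_cases i <;> fin_cases j <;> simp [Matrix.mul_apply, Fin.sum_univ_two] <;>
    (try field_simp) <;> (try ring)

omit hK in
theorem exists_sq_ne_one (hcard : 4 ≤ Fintype.card K) : ∃ c : K, c ≠ 0 ∧ c ^ 2 ≠ 1 := by
  classical
  by_contra h
  push Not at h
  have hsub : (Finset.univ : Finset K) ⊆ {0, 1, -1} := by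
    intro c _
    by_cases hc : c = 0
    · simp [hc]
    · have := h c hc
      have h2 : (c - 1) * (c + 1) = 0 := by linear_combination this
      rcases mul_eq_zero.mp h2 with h3 | h3
      · have : c = 1 := sub_eq_zero.mp h3
        simp [this]
      · have : c = -1 := eq_neg_of_add_eq_zero_left h3
        simp [this]
  have h1 := Finset.card_le_card hsub
  have h2 : ({0, 1, -1} : Finset K).card ≤ 3 := Finset.card_le_three
  rw [Finset.card_univ] at h1
  omega

theorem psi0_mem_commutator (C : Matrix.SpecialLinearGroup (Fin 2) K) :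
    psi0 K q F C ∈ ⁅OW K q F, OW K q F⁆ := by
  have hcard : 4 ≤ Fintype.card K := by
    rw [hK.out]
    have hq := two_le_q hK.out
    nlinarith
  obtain ⟨c, hc0, hc1⟩ := exists_sq_ne_one (K := K) hcard
  have h1 : c ^ 2 - 1 ≠ 0 := sub_ne_zero.mpr hc1
  have h2 : (c⁻¹) ^ 2 - 1 ≠ 0 := by
    intro h
    apply hc1
    have : (c⁻¹) ^ 2 = 1 := sub_eq_zero.mp h
    rw [inv_pow, inv_eq_one] at this
    exact this
  let K₁ : Subgroup (Matrix.SpecialLinearGroup (Fin 2) K) :=
    (⁅OW K q F, OW K q F⁆).comap (psi0 K q F)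
  have hK₁ : K₁ = ⊤ := by
    apply eq_top_of_uS_lS_mem
    · intro s
      have := psi0_comm_mem q (F := F) (dgS c hc0) (uS ((c ^ 2 - 1)⁻¹ * s))
      rw [comm_dgS_uS, mul_inv_cancel_left₀ h1] at this
      exact this
    · intro s
      have := psi0_comm_mem q (F := F) (dgS c hc0) (lS (((c⁻¹) ^ 2 - 1)⁻¹ * s))
      rw [comm_dgS_lS, mul_inv_cancel_left₀ h2] at this
      exact this
  have : C ∈ K₁ := by rw [hK₁]; trivial
  exact this

/-- if `φ(A) = φ(B)` then `A = c B` for a scalar `c` -/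
theorem eq_smul_of_phi_eq {A B : GL (Fin 2) K} (h : phi q F A = phi q F B) :
    ∃ c : K, (A : Matrix (Fin 2) (Fin 2) K) = c • (B : Matrix (Fin 2) (Fin 2) K) := by
  have h1 : phi q F (B⁻¹ * A) = 1 := by
    rw [map_mul, map_inv, h, inv_mul_cancel]
  have h2 := (scalar_of_phi_one q (F := F) (A := B⁻¹ * A)
    (fun X => by rw [h1]; rfl)).1
  refine ⟨((B⁻¹ * A : GL (Fin 2) K) : Matrix (Fin 2) (Fin 2) K) 0 0, ?_⟩
  have h3 : (A : Matrix (Fin 2) (Fin 2) K) = (B : Matrix (Fin 2) (Fin 2) K) *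
      ((B⁻¹ * A : GL (Fin 2) K) : Matrix (Fin 2) (Fin 2) K) := by
    rw [← Units.val_mul, mul_inv_cancel_left]
  rw [h3, h2]
  generalize ((B⁻¹ * A : GL (Fin 2) K) : Matrix (Fin 2) (Fin 2) K) 0 0 = c
  ext i j
  simp [Matrix.mul_apply, Matrix.scalar_apply, Matrix.diagonal_apply, mul_comm]

omit [Fintype K] in
theorem uS_comm_of_smul (h : Matrix.SpecialLinearGroup (Fin 2) K) (x c : K)
    (hc : ((uS x * h : Matrix.SpecialLinearGroup (Fin 2) K) : Matrix (Fin 2) (Fin 2) K) =
      c • ((h * uS x : Matrix.SpecialLinearGroup (Fin 2) K) : Matrix (Fin 2) (Fin 2) K)) :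
    uS x * h = h * uS x := by
  by_cases hc1 : c = 1
  · apply sl_ext
    rw [hc, hc1, one_smul]
  · exfalso
    have hdet := h.2
    rw [det_fin_two] at hdet
    simp only [Matrix.SpecialLinearGroup.coe_mul, coe_uS] at hc
    have e10 := congrFun (congrFun hc 1) 0
    have e00 := congrFun (congrFun hc 0) 0
    simp [Matrix.mul_apply, Fin.sum_univ_two] at e10 e00
    have hs : (h : Matrix (Fin 2) (Fin 2) K) 1 0 = 0 := by
      have : (1 - c) * (h : Matrix (Fin 2) (Fin 2) K) 1 0 = 0 := by linear_combination e10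
      rcases mul_eq_zero.mp this with h' | h'
      · exact absurd (sub_eq_zero.mp h').symm hc1
      · exact h'
    have hp : (h : Matrix (Fin 2) (Fin 2) K) 0 0 = 0 := by
      rw [hs] at e00
      have : (1 - c) * (h : Matrix (Fin 2) (Fin 2) K) 0 0 = 0 := by linear_combination e00
      rcases mul_eq_zero.mp this with h' | h'
      · exact absurd (sub_eq_zero.mp h').symm hc1
      · exact h'
    rw [hs, hp] at hdet
    simp at hdet

omit [Fintype K] in
theorem lS_comm_of_smul (h : Matrix.SpecialLinearGroup (Fin 2) K) (x c : K)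
    (hc : ((lS x * h : Matrix.SpecialLinearGroup (Fin 2) K) : Matrix (Fin 2) (Fin 2) K) =
      c • ((h * lS x : Matrix.SpecialLinearGroup (Fin 2) K) : Matrix (Fin 2) (Fin 2) K)) :
    lS x * h = h * lS x := by
  by_cases hc1 : c = 1
  · apply sl_ext
    rw [hc, hc1, one_smul]
  · exfalso
    have hdet := h.2
    rw [det_fin_two] at hdet
    simp only [Matrix.SpecialLinearGroup.coe_mul, coe_lS] at hc
    have e01 := congrFun (congrFun hc 0) 1
    have e11 := congrFun (congrFun hc 1) 1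
    simp [Matrix.mul_apply, Fin.sum_univ_two] at e01 e11
    have hr : (h : Matrix (Fin 2) (Fin 2) K) 0 1 = 0 := by
      have : (1 - c) * (h : Matrix (Fin 2) (Fin 2) K) 0 1 = 0 := by linear_combination e01
      rcases mul_eq_zero.mp this with h' | h'
      · exact absurd (sub_eq_zero.mp h').symm hc1
      · exact h'
    have ht : (h : Matrix (Fin 2) (Fin 2) K) 1 1 = 0 := by
      rw [hr] at e11
      have : (1 - c) * (h : Matrix (Fin 2) (Fin 2) K) 1 1 = 0 := by linear_combination e11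
      rcases mul_eq_zero.mp this with h' | h'
      · exact absurd (sub_eq_zero.mp h').symm hc1
      · exact h'
    rw [hr, ht] at hdet
    simp at hdet

theorem central_of_comm (h : Matrix.SpecialLinearGroup (Fin 2) K)
    (hc : ∀ h', psi0 K q F h' * psi0 K q F h = psi0 K q F h * psi0 K q F h') :
    h ∈ Subgroup.center (Matrix.SpecialLinearGroup (Fin 2) K) := by
  have key : ∀ h' : Matrix.SpecialLinearGroup (Fin 2) K, ∃ c : K,
      ((h' * h : Matrix.SpecialLinearGroup (Fin 2) K) : Matrix (Fin 2) (Fin 2) K) =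
      c • ((h * h' : Matrix.SpecialLinearGroup (Fin 2) K) : Matrix (Fin 2) (Fin 2) K) := by
    intro h'
    have := hc h'
    rw [← map_mul, ← map_mul, psi0_apply, psi0_apply] at this
    exact eq_smul_of_phi_eq q this
  let Z : Subgroup (Matrix.SpecialLinearGroup (Fin 2) K) := Subgroup.centralizer {h}
  have hZ : Z = ⊤ := by
    apply eq_top_of_uS_lS_mem
    · intro s
      rw [Subgroup.mem_centralizer_iff]
      intro y hy
      rw [Set.mem_singleton_iff] at hy
      subst hy
      obtain ⟨c, hc⟩ := key (uS s)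
      exact (uS_comm_of_smul y s c hc).symm
    · intro s
      rw [Subgroup.mem_centralizer_iff]
      intro y hy
      rw [Set.mem_singleton_iff] at hy
      subst hy
      obtain ⟨c, hc⟩ := key (lS s)
      exact (lS_comm_of_smul y s c hc).symm
  rw [Subgroup.mem_center_iff]
  intro g
  have hg : g ∈ Z := by rw [hZ]; trivial
  rw [Subgroup.mem_centralizer_iff] at hg
  exact (hg h rfl).symm

end Cfsg.Agent.helper17.O4m
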