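import Mathlib

set_option autoImplicit false

/-!
# Abstract group theory: commutator subgroups via small index; centres of perfect covers
-/

namespace Cfsg.Agent.helper17.O6

open scoped commutatorElement

variable {G H : Type*} [Group G] [Group H]

/-- a subgroup of index at most two is normal -/
theorem normal_of_card_le [Finite G] (P : Subgroup G) (h : Nat.card G ≤ 2 * Nat.card P) :
    P.Normal := by
  have h1 := Subgroup.card_mul_index P
  have hpos : 0 < Nat.card P := Nat.card_pos
  have h0 : P.index ≠ 0 := Subgroup.index_ne_zero_of_finite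
  have h2 : P.index ≤ 2 := by
    by_contra hcon
    push Not at hcon
    have : Nat.card P * 3 ≤ Nat.card P * P.index := Nat.mul_le_mul_left _ hcon
    omega
  have h3 : P.index = 1 ∨ P.index = 2 := by omega
  rcases h3 with h3 | h3
  · rw [Subgroup.index_eq_one] at h3
    rw [h3]
    infer_instance
  · exact Subgroup.normal_of_index_eq_two h3

/-- a group of order at most four is commutative -/
theorem mul_comm_of_card_le_four [Finite G] (h : Nat.card G ≤ 4) (a b : G) : a * b = b * a := by
  have hpos : 0 < Nat.card G := Nat.card_pos
  have h3 : Nat.card G = 1 ∨ Nat.card G = 2 ∨ Nat.card G = 3 ∨ Nat.card G = 4 := by omega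
  rcases h3 with h3 | h3 | h3 | h3
  · have : Subsingleton G := (Nat.card_eq_one_iff_unique.mp h3).1
    rw [Subsingleton.elim a 1, Subsingleton.elim b 1]
  · haveI : Fact (Nat.Prime 2) := ⟨Nat.prime_two⟩
    haveI := isCyclic_of_prime_card h3
    exact (IsCyclic.isMulCommutative (α := G)).is_comm.comm a b
  · haveI : Fact (Nat.Prime 3) := ⟨Nat.prime_three⟩
    haveI := isCyclic_of_prime_card h3
    exact (IsCyclic.isMulCommutative (α := G)).is_comm.comm a b
  · haveI : Fact (Nat.Prime 2) := ⟨Nat.prime_two⟩
    have h4 : Nat.card G = 2 ^ 2 := by rw [h3]; norm_num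
    exact (IsPGroup.isMulCommutative_of_card_eq_prime_sq h4).is_comm.comm a b

/-- a normal subgroup of index at most four contains the commutator subgroup -/
theorem commutator_le_of_card [Finite G] (M : Subgroup G) [M.Normal]
    (h : Nat.card G ≤ 4 * Nat.card M) : commutator G ≤ M := by
  have h1 := Subgroup.card_mul_index M
  have hpos : 0 < Nat.card M := Nat.card_pos
  have h2 : M.index ≤ 4 := by
    by_contra hcon
    push Not at hcon
    have : Nat.card M * 5 ≤ Nat.card M * M.index := Nat.mul_le_mul_left _ hcon
    omega
  have h3 : Nat.card (G ⧸ M) ≤ 4 := h2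
  rw [commutator_def, Subgroup.commutator_le]
  intro g _ k _
  rw [← QuotientGroup.eq_one_iff, commutatorElement_def]
  simp only [QuotientGroup.mk_mul, QuotientGroup.mk_inv]
  rw [mul_comm_of_card_le_four h3 (g : G ⧸ M) (k : G ⧸ M)]
  group

/-- if `P` has index at most two and `[P,P]` index at most four then `[G,G] = [P,P]` -/
theorem commutator_eq_of_card [Finite G] (P : Subgroup G) (h2 : Nat.card G ≤ 2 * Nat.card P)
    (h4 : Nat.card G ≤ 4 * Nat.card (⁅P, P⁆ : Subgroup G)) : commutator G = ⁅P, P⁆ := by
  haveI := normal_of_card_le P h2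
  haveI : (⁅P, P⁆ : Subgroup G).Normal := Subgroup.commutator_normal P P
  apply le_antisymm (commutator_le_of_card _ h4)
  rw [commutator_def]
  exact Subgroup.commutator_mono le_top le_top

/-- for a perfect group `H` and `ψ : H → G` with central kernel, an element whose image is central
in the image is central -/
theorem mem_center_of_perfect (hperf : commutator H = ⊤) (ψ : H →* G)
    (hker : ∀ z, ψ z = 1 → z ∈ Subgroup.center H) (h : H)
    (hc : ∀ h', ψ h' * ψ h = ψ h * ψ h') : h ∈ Subgroup.center H := by
  have hz : ∀ h', ⁅h, h'⁆ ∈ Subgroup.center H := by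
    intro h'
    apply hker
    rw [map_commutatorElement, commutatorElement_eq_one_iff_commute]
    exact (hc h').symm
  let f : H →* Subgroup.center H :=
    { toFun := fun h' => ⟨⁅h, h'⁆, hz h'⟩
      map_one' := by
        apply Subtype.ext
        simp
      map_mul' := by
        intro x y
        apply Subtype.ext
        change ⁅h, x * y⁆ = ⁅h, x⁆ * ⁅h, y⁆
        have hy := Subgroup.mem_center_iff.mp (hz y)
        have e1 : ⁅h, x * y⁆ = h * x * h⁻¹ * (⁅h, y⁆ * x⁻¹) := by
          rw [commutatorElement_def, commutatorElement_def]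
          group
        rw [e1, ← hy x⁻¹, commutatorElement_def h x]
        group }
  have hf : ∀ h', f h' = 1 := by
    intro h'
    have h1 : commutator H ≤ f.ker := by
      rw [commutator_eq_closure, Subgroup.closure_le]
      rintro x ⟨p, q, rfl⟩
      rw [SetLike.mem_coe, MonoidHom.mem_ker, map_commutatorElement,
        commutatorElement_eq_one_iff_commute]
      apply Subtype.ext
      exact Subgroup.mem_center_iff.mp (f q).2 (f p).1
    rw [hperf] at h1
    exact h1 (Subgroup.mem_top h')
  rw [Subgroup.mem_center_iff]
  intro g
  have := congrArg Subtype.val (hf g)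
  change ⁅h, g⁆ = 1 at this
  rw [commutatorElement_eq_one_iff_commute] at this
  exact this.eq.symm

end Cfsg.Agent.helper17.O6
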