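import Mathlib
import Cfsg.Prelude.Def_Classical
import Cfsg.Agent.S0287
import Cfsg.Agent.Lib_helper17_O4i

set_option autoImplicit false

/-!
# The model (alternating 4×4 matrices, Pfaffian) of the hyperbolic quadratic space of dimension 6
-/

namespace Cfsg.Agent.helper17.O6

open Matrix

variable {F : Type*} [Field F]

/-- the alternating matrix with given upper triangular entries -/
def altMat (a b c d e f : F) : Matrix (Fin 4) (Fin 4) F :=
  !![0, a, b, c; -a, 0, d, e; -b, -d, 0, f; -c, -e, -f, 0]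

/-- the Pfaffian -/
def pf (X : Matrix (Fin 4) (Fin 4) F) : F := X 0 1 * X 2 3 - X 0 2 * X 1 3 + X 0 3 * X 1 2

set_option maxHeartbeats 1600000 in
theorem pf_conj (A : Matrix (Fin 4) (Fin 4) F) (a b c d e f : F) :
    pf (A * altMat a b c d e f * Aᵀ) = A.det * pf (altMat a b c d e f) := by
  rw [Matrix.det_succ_row_zero, Fin.sum_univ_four]
  simp only [Matrix.det_fin_three, pf, altMat, Matrix.mul_apply, Fin.sum_univ_four,
    Matrix.transpose_apply, Matrix.of_apply, Matrix.cons_val', Matrix.cons_val_zero,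
    Matrix.cons_val_one, Matrix.submatrix_apply, Fin.succAbove]
  simp
  ring

variable (F)

/-- alternating matrices as an `F`-module -/
def AltW : Submodule F (Matrix (Fin 4) (Fin 4) F) where
  carrier := {X | Xᵀ = -X ∧ ∀ i, X i i = 0}
  add_mem' := by
    rintro X Y ⟨hX, hX'⟩ ⟨hY, hY'⟩
    refine ⟨?_, fun i => ?_⟩
    · rw [transpose_add, hX, hY, neg_add]
    · rw [Matrix.add_apply, hX', hY', add_zero]
  zero_mem' := ⟨by simp, fun i => rfl⟩
  smul_mem' := by
    rintro c X ⟨hX, hX'⟩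
    refine ⟨?_, fun i => ?_⟩
    · rw [transpose_smul, hX, smul_neg]
    · rw [Matrix.smul_apply, hX', smul_zero]

variable {F}

theorem mem_AltW_iff (X : Matrix (Fin 4) (Fin 4) F) :
    X ∈ AltW F ↔ Xᵀ = -X ∧ ∀ i, X i i = 0 := Iff.rfl

theorem altMat_mem (a b c d e f : F) : altMat a b c d e f ∈ AltW F := by
  rw [mem_AltW_iff]
  constructor
  · ext i j
    fin_cases i <;> fin_cases j <;> simp [altMat]
  · intro i
    fin_cases i <;> simp [altMat]

theorem eq_altMat {X : Matrix (Fin 4) (Fin 4) F} (hX : X ∈ AltW F) :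
    X = altMat (X 0 1) (X 0 2) (X 0 3) (X 1 2) (X 1 3) (X 2 3) := by
  obtain ⟨h1, h2⟩ := hX
  have h : ∀ i j, X j i = -X i j := fun i j => by
    have := congrFun (congrFun h1 i) j
    simpa using this
  ext i j
  fin_cases i <;> fin_cases j <;> simp [altMat, h2] <;> first | exact h _ _ | rfl

theorem pf_conj' (A : Matrix (Fin 4) (Fin 4) F) {X : Matrix (Fin 4) (Fin 4) F} (hX : X ∈ AltW F) :
    pf (A * X * Aᵀ) = A.det * pf X := by
  rw [eq_altMat hX]
  exact pf_conj A _ _ _ _ _ _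

theorem conj_mem (A : Matrix (Fin 4) (Fin 4) F) {X : Matrix (Fin 4) (Fin 4) F} (hX : X ∈ AltW F) :
    A * X * Aᵀ ∈ AltW F := by
  rw [mem_AltW_iff]
  constructor
  · rw [transpose_mul, transpose_mul, transpose_transpose, hX.1, mul_assoc]
    simp
  · intro i
    rw [eq_altMat hX]
    simp only [altMat, Matrix.mul_apply, Fin.sum_univ_four, Matrix.transpose_apply]
    fin_cases i <;> simp <;> ring

/-- the alternating matrix of a vector -/
def hmat6 (v : Fin 3 ⊕ Fin 3 → F) : Matrix (Fin 4) (Fin 4) F :=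
  altMat (v (.inl 0)) (v (.inl 1)) (v (.inl 2)) (v (.inr 2)) (-v (.inr 1)) (v (.inr 0))

theorem pf_hmat6 (v : Fin 3 ⊕ Fin 3 → F) : pf (hmat6 v) = Cfsg.quadFormPlus 3 F v := by
  simp [pf, hmat6, altMat, Cfsg.quadFormPlus, Fin.sum_univ_three]

/-- the linear equivalence `F⁶ ≃ AltW` -/
def eVW6 : (Fin 3 ⊕ Fin 3 → F) ≃ₗ[F] AltW F where
  toFun v := ⟨hmat6 v, altMat_mem _ _ _ _ _ _⟩
  invFun X := Sum.elim ![X.1 0 1, X.1 0 2, X.1 0 3] ![X.1 2 3, -X.1 1 3, X.1 1 2]
  map_add' u v := by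
    apply Subtype.ext
    ext i j
    fin_cases i <;> fin_cases j <;> simp [hmat6, altMat] <;> ring
  map_smul' c v := by
    apply Subtype.ext
    ext i j
    fin_cases i <;> fin_cases j <;> simp [hmat6, altMat]
  left_inv v := by
    ext i
    rcases i with i | i <;> fin_cases i <;> simp [hmat6, altMat]
  right_inv X := by
    apply Subtype.ext
    conv_rhs => rw [eq_altMat X.2]
    simp [hmat6]

theorem pf_eVW6 (v : Fin 3 ⊕ Fin 3 → F) : pf (eVW6 v).1 = Cfsg.quadFormPlus 3 F v :=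
  pf_hmat6 v

variable (F)

/-- the isometry group of `(AltW, pf)` -/
def OW6 : Subgroup (AltW F ≃ₗ[F] AltW F) where
  carrier := {f | ∀ X : AltW F, pf (f X).1 = pf X.1}
  mul_mem' := by
    intro f g hf hg X
    rw [LinearEquiv.mul_apply, hf, hg]
  one_mem' := by
    intro X
    rfl
  inv_mem' := by
    intro f hf X
    have h := hf (f⁻¹ X)
    rw [← h]
    congr 2
    change f (f.symm X) = X
    simp

variable {F}

theorem mem_OW6_iff (f : AltW F ≃ₗ[F] AltW F) :
    f ∈ OW6 F ↔ ∀ X : AltW F, pf (f X).1 = pf X.1 := Iff.rfl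

open Cfsg.Agent.helper17.O4m in
theorem mem_iso_iff6 (g : GL (Fin 3 ⊕ Fin 3) F) :
    g ∈ Cfsg.isometryGroup F (Cfsg.quadFormPlus 3 F) ↔ TTg (eVW6 (F := F)) g ∈ OW6 F := by
  constructor
  · intro hg X
    rw [TTg_apply, pf_eVW6]
    have := hg (eVW6.symm X) 0
    simp only [Units.coeHom_apply] at this
    rw [this, ← pf_eVW6]
    simp
  · intro hf u v
    simp only [Units.coeHom_apply]
    have := hf (eVW6 u)
    rw [TTg_apply, pf_eVW6, pf_eVW6] at this
    simpa using this

open Cfsg.Agent.helper17.O4m in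
theorem map_TT_iso6 :
    (Cfsg.isometryGroup F (Cfsg.quadFormPlus 3 F)).map (TTg (eVW6 (F := F))).toMonoidHom
      = OW6 F := by
  ext f
  constructor
  · rintro ⟨g, hg, rfl⟩
    exact (mem_iso_iff6 g).mp hg
  · intro hf
    refine ⟨(TTg eVW6).symm f, ?_, by simp⟩
    apply (mem_iso_iff6 _).mpr
    simpa using hf

open Cfsg.Agent.helper17.O4m in
/-- the isometry group is isomorphic to `OW6` -/
noncomputable def isoEquiv6 :
    ↥(Cfsg.isometryGroup F (Cfsg.quadFormPlus 3 F)) ≃* ↥(OW6 F) :=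
  ((TTg (eVW6 (F := F))).subgroupMap _).trans (MulEquiv.subgroupCongr map_TT_iso6)

theorem card_OW6 [Fintype F] :
    Nat.card (OW6 F) = 2 * (Fintype.card F ^ 6 * (Fintype.card F ^ 3 - 1) *
      ((Fintype.card F ^ 2 - 1) * (Fintype.card F ^ 4 - 1))) := by
  rw [← Nat.card_congr (isoEquiv6 (F := F)).toEquiv,
    Cfsg.Agent.S0287.result (F := F) rfl 3 (by norm_num)]
  simp [Finset.prod_range_succ]
  ring

end Cfsg.Agent.helper17.O6
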