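import Mathlib
import Cfsg.Agent.Lib_helper17_O6b

set_option autoImplicit false

/-!
# The action `X ↦ c A X Aᵀ` of `Fˣ × GL₄(F)` on alternating matrices
-/

namespace Cfsg.Agent.helper17.O6

open Matrix

variable {F : Type*} [Field F]

theorem transpose_mul_transpose_inv (A : GL (Fin 4) F) :
    (A : Matrix (Fin 4) (Fin 4) F)ᵀ * ((A⁻¹ : GL (Fin 4) F) : Matrix (Fin 4) (Fin 4) F)ᵀ = 1 := by
  rw [← transpose_mul, Units.inv_mul, transpose_one]

theorem transpose_inv_mul_transpose (A : GL (Fin 4) F) :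
    ((A⁻¹ : GL (Fin 4) F) : Matrix (Fin 4) (Fin 4) F)ᵀ * (A : Matrix (Fin 4) (Fin 4) F)ᵀ = 1 := by
  rw [← transpose_mul, Units.mul_inv, transpose_one]

/-- `X ↦ c A X Aᵀ` -/
def phiLin6 (c : Fˣ) (A : GL (Fin 4) F) : AltW F ≃ₗ[F] AltW F where
  toFun X := ⟨(c : F) • ((A : Matrix (Fin 4) (Fin 4) F) * X.1 * (A : Matrix (Fin 4) (Fin 4) F)ᵀ),
    (AltW F).smul_mem _ (conj_mem _ X.2)⟩
  invFun X := ⟨((c⁻¹ : Fˣ) : F) • (((A⁻¹ : GL (Fin 4) F) : Matrix (Fin 4) (Fin 4) F) * X.1 *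
    ((A⁻¹ : GL (Fin 4) F) : Matrix (Fin 4) (Fin 4) F)ᵀ), (AltW F).smul_mem _ (conj_mem _ X.2)⟩
  map_add' X Y := by
    apply Subtype.ext
    simp [mul_add, add_mul]
  map_smul' r X := by
    apply Subtype.ext
    simp [smul_smul, mul_comm]
  left_inv X := by
    apply Subtype.ext
    simp only
    rw [Matrix.mul_smul, Matrix.smul_mul, smul_smul, Units.inv_mul, one_smul]
    have : ((A⁻¹ : GL (Fin 4) F) : Matrix (Fin 4) (Fin 4) F) *
        ((A : Matrix (Fin 4) (Fin 4) F) * X.1 * (A : Matrix (Fin 4) (Fin 4) F)ᵀ) *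
        ((A⁻¹ : GL (Fin 4) F) : Matrix (Fin 4) (Fin 4) F)ᵀ
        = (((A⁻¹ : GL (Fin 4) F) : Matrix (Fin 4) (Fin 4) F) * (A : Matrix (Fin 4) (Fin 4) F)) * X.1 *
          ((A : Matrix (Fin 4) (Fin 4) F)ᵀ * ((A⁻¹ : GL (Fin 4) F) : Matrix (Fin 4) (Fin 4) F)ᵀ) := by
      simp only [mul_assoc]
    rw [this, Units.inv_mul, transpose_mul_transpose_inv, one_mul, mul_one]
  right_inv X := by
    apply Subtype.ext
    simp only
    rw [Matrix.mul_smul, Matrix.smul_mul, smul_smul, Units.mul_inv, one_smul]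
    have : (A : Matrix (Fin 4) (Fin 4) F) *
        (((A⁻¹ : GL (Fin 4) F) : Matrix (Fin 4) (Fin 4) F) * X.1 *
          ((A⁻¹ : GL (Fin 4) F) : Matrix (Fin 4) (Fin 4) F)ᵀ) *
        (A : Matrix (Fin 4) (Fin 4) F)ᵀ
        = ((A : Matrix (Fin 4) (Fin 4) F) * ((A⁻¹ : GL (Fin 4) F) : Matrix (Fin 4) (Fin 4) F)) * X.1 *
          (((A⁻¹ : GL (Fin 4) F) : Matrix (Fin 4) (Fin 4) F)ᵀ * (A : Matrix (Fin 4) (Fin 4) F)ᵀ) := by
      simp only [mul_assoc]
    rw [this, Units.mul_inv, transpose_inv_mul_transpose, one_mul, mul_one]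

theorem phiLin6_apply (c : Fˣ) (A : GL (Fin 4) F) (X : AltW F) :
    (phiLin6 c A X).1 = (c : F) • ((A : Matrix (Fin 4) (Fin 4) F) * X.1 *
      (A : Matrix (Fin 4) (Fin 4) F)ᵀ) := rfl

/-- the homomorphism `(c, A) ↦ (X ↦ c A X Aᵀ)` -/
def phi6 : Fˣ × GL (Fin 4) F →* (AltW F ≃ₗ[F] AltW F) where
  toFun p := phiLin6 p.1 p.2
  map_one' := by
    ext X : 2
    rw [phiLin6_apply]
    simp
  map_mul' p r := by
    ext X : 2
    rw [LinearEquiv.mul_apply, phiLin6_apply, phiLin6_apply, phiLin6_apply]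
    simp only [Prod.fst_mul, Prod.snd_mul, Units.val_mul, transpose_mul, Matrix.mul_smul,
      Matrix.smul_mul, smul_smul]
    simp only [mul_assoc]

theorem phi6_apply (p : Fˣ × GL (Fin 4) F) (X : AltW F) :
    (phi6 p X).1 = (p.1 : F) • ((p.2 : Matrix (Fin 4) (Fin 4) F) * X.1 *
      (p.2 : Matrix (Fin 4) (Fin 4) F)ᵀ) := rfl

theorem pf_smul (c : F) (X : Matrix (Fin 4) (Fin 4) F) : pf (c • X) = c ^ 2 * pf X := by
  simp only [pf, Matrix.smul_apply, smul_eq_mul]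
  ring

/-- `(c, A) ↦ c² det A` -/
def dq6 : Fˣ × GL (Fin 4) F →* Fˣ :=
  ((powMonoidHom 2 : Fˣ →* Fˣ).comp (MonoidHom.fst Fˣ (GL (Fin 4) F))) *
    (Matrix.GeneralLinearGroup.det.comp (MonoidHom.snd Fˣ (GL (Fin 4) F)))

theorem dq6_apply (p : Fˣ × GL (Fin 4) F) :
    dq6 p = p.1 ^ 2 * Matrix.GeneralLinearGroup.det p.2 := rfl

variable (F)

/-- pairs with `c² det A = 1` -/
def Gam6 : Subgroup (Fˣ × GL (Fin 4) F) := dq6.ker

variable {F}

theorem mem_Gam6_iff (p : Fˣ × GL (Fin 4) F) :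
    p ∈ Gam6 F ↔ p.1 ^ 2 * Matrix.GeneralLinearGroup.det p.2 = 1 := Iff.rfl

theorem pf_phi6 (p : Fˣ × GL (Fin 4) F) (X : AltW F) :
    pf (phi6 p X).1 = ((dq6 p : Fˣ) : F) * pf X.1 := by
  rw [phi6_apply, pf_smul, pf_conj' _ X.2, dq6_apply]
  simp only [Units.val_mul, Units.val_pow_eq_pow_val, Matrix.GeneralLinearGroup.val_det_apply]
  ring

theorem phi6_mem_OW6 {p : Fˣ × GL (Fin 4) F} (hp : p ∈ Gam6 F) : phi6 p ∈ OW6 F := by
  intro X
  rw [pf_phi6]
  have : dq6 p = 1 := hp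
  rw [this, Units.val_one, one_mul]

/-- the elementary alternating matrix `E_ij - E_ji` -/
def eAlt (i j : Fin 4) : Matrix (Fin 4) (Fin 4) F := single i j 1 - single j i 1

theorem eAlt_mem {i j : Fin 4} (hij : i ≠ j) : (eAlt i j : Matrix (Fin 4) (Fin 4) F) ∈ AltW F := by
  rw [mem_AltW_iff]
  constructor
  · simp [eAlt, transpose_sub]
  · intro k
    simp only [eAlt, Matrix.sub_apply, Matrix.single_apply]
    have h1 : ¬ (i = k ∧ j = k) := fun h => hij (h.1.trans h.2.symm)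
    have h2 : ¬ (j = k ∧ i = k) := fun h => hij (h.2.trans h.1.symm)
    rw [if_neg h1, if_neg h2, sub_zero]

theorem exists_third (i k : Fin 4) : ∃ j : Fin 4, j ≠ i ∧ j ≠ k := by
  revert i k
  decide

/-- if `c A X Aᵀ = X` for all alternating `X` then `A` is scalar -/
theorem scalar_of_fix6 {c : F} (hc : c ≠ 0) (A : GL (Fin 4) F)
    (h : ∀ X : Matrix (Fin 4) (Fin 4) F, X ∈ AltW F →
      c • ((A : Matrix (Fin 4) (Fin 4) F) * X * (A : Matrix (Fin 4) (Fin 4) F)ᵀ) = X) :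
    (A : Matrix (Fin 4) (Fin 4) F) = Matrix.scalar (Fin 4) ((A : Matrix (Fin 4) (Fin 4) F) 0 0) ∧
      c * (A : Matrix (Fin 4) (Fin 4) F) 0 0 ^ 2 = 1 := by
  set B : Matrix (Fin 4) (Fin 4) F := ((A⁻¹ : GL (Fin 4) F) : Matrix (Fin 4) (Fin 4) F)ᵀ with hB
  have key : ∀ X : Matrix (Fin 4) (Fin 4) F, X ∈ AltW F →
      c • ((A : Matrix (Fin 4) (Fin 4) F) * X) = X * B := by
    intro X hX
    have h1 := h X hX
    have h2 : c • ((A : Matrix (Fin 4) (Fin 4) F) * X * (A : Matrix (Fin 4) (Fin 4) F)ᵀ) * B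
        = X * B := by rw [h1]
    rw [Matrix.smul_mul, mul_assoc, hB, transpose_mul_transpose_inv, mul_one] at h2
    exact h2
  have hoff : ∀ i k : Fin 4, k ≠ i → (A : Matrix (Fin 4) (Fin 4) F) k i = 0 := by
    intro i k hki
    obtain ⟨j, hji, hjk⟩ := exists_third i k
    have h1 := congrFun (congrFun (key _ (eAlt_mem (F := F) (Ne.symm hji))) k) j
    simp only [eAlt, Matrix.smul_apply, Matrix.mul_apply, Matrix.sub_apply, Matrix.single_apply,
      smul_eq_mul] at h1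
    simp [hki, Ne.symm hki, hji, Ne.symm hji, hjk, Ne.symm hjk, Finset.sum_ite_eq, mul_sub,
      Finset.sum_sub_distrib] at h1
    rcases h1 with h1 | h1
    · exact absurd h1 hc
    · exact h1
  have hdiag : ∀ i j : Fin 4, i ≠ j → c * (A : Matrix (Fin 4) (Fin 4) F) i i = B j j := by
    intro i j hij
    have h1 := congrFun (congrFun (key _ (eAlt_mem (F := F) hij)) i) j
    simp only [eAlt, Matrix.smul_apply, Matrix.mul_apply, Matrix.sub_apply, Matrix.single_apply,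
      smul_eq_mul] at h1
    simpa [hij, Ne.symm hij, Finset.sum_ite_eq, mul_sub, sub_mul, Finset.sum_sub_distrib] using h1
  have hBA : ∀ j : Fin 4, B j j * (A : Matrix (Fin 4) (Fin 4) F) j j = 1 := by
    intro j
    have h1 : (((A⁻¹ : GL (Fin 4) F) : Matrix (Fin 4) (Fin 4) F) *
        (A : Matrix (Fin 4) (Fin 4) F)) j j = 1 := by
      rw [Units.inv_mul]; simp
    rw [Matrix.mul_apply] at h1
    rw [Finset.sum_eq_single j] at h1
    · exact h1
    · intro m _ hmj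
      rw [hoff j m hmj, mul_zero]
    · intro hj
      exact absurd (Finset.mem_univ j) hj
  have hprod : ∀ i j : Fin 4, i ≠ j →
      c * (A : Matrix (Fin 4) (Fin 4) F) i i * (A : Matrix (Fin 4) (Fin 4) F) j j = 1 := by
    intro i j hij
    rw [hdiag i j hij, hBA]
  have hne : ∀ i : Fin 4, (A : Matrix (Fin 4) (Fin 4) F) i i ≠ 0 := by
    intro i h0
    obtain ⟨j, hji, -⟩ := exists_third i i
    have := hprod i j (Ne.symm hji)
    rw [h0, mul_zero, zero_mul] at this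
    exact zero_ne_one this
  have heq : ∀ i : Fin 4, (A : Matrix (Fin 4) (Fin 4) F) i i = (A : Matrix (Fin 4) (Fin 4) F) 0 0 := by
    intro i
    by_cases hi : i = 0
    · rw [hi]
    · obtain ⟨j, hji, hj0⟩ := exists_third i 0
      have h1 := hprod i j (Ne.symm hji)
      have h2 := hprod 0 j (Ne.symm hj0)
      have h3 : c * (A : Matrix (Fin 4) (Fin 4) F) j j ≠ 0 := mul_ne_zero hc (hne j)
      have h4 : (c * (A : Matrix (Fin 4) (Fin 4) F) j j) * (A : Matrix (Fin 4) (Fin 4) F) i i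
          = (c * (A : Matrix (Fin 4) (Fin 4) F) j j) * (A : Matrix (Fin 4) (Fin 4) F) 0 0 := by
        linear_combination h1 - h2
      exact mul_left_cancel₀ h3 h4
  constructor
  · ext i k
    by_cases hik : i = k
    · subst hik
      simp [heq i]
    · rw [hoff k i hik]
      simp [Matrix.scalar_apply, Matrix.diagonal_apply, hik]
  · have := hprod 0 1 (by decide)
    rw [heq 1] at this
    linear_combination this

end Cfsg.Agent.helper17.O6
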