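import Mathlib
import Cfsg.Agent.Lib_helper17_O6c
import Cfsg.Agent.Lib_helper17_O6a
import Cfsg.Agent.Lib_helper12_Card

set_option autoImplicit false

/-!
# Counting in the isometry group of (alternating 4×4 matrices, Pfaffian)
-/

namespace Cfsg.Agent.helper17.O6

open Matrix
open scoped commutatorElement

variable {F : Type*} [Field F]

theorem one_mem_scalar_fix {p : Fˣ × GL (Fin 4) F} (h : ∀ X : AltW F, phi6 p X = X) :
    (p.2 : Matrix (Fin 4) (Fin 4) F) =
      Matrix.scalar (Fin 4) ((p.2 : Matrix (Fin 4) (Fin 4) F) 0 0) ∧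
      (p.1 : F) * (p.2 : Matrix (Fin 4) (Fin 4) F) 0 0 ^ 2 = 1 := by
  apply scalar_of_fix6 (Units.ne_zero p.1)
  intro X hX
  have := congrArg Subtype.val (h ⟨X, hX⟩)
  rw [phi6_apply] at this
  exact this

section count

variable [Fintype F]

theorem card_GL4 :
    Nat.card (GL (Fin 4) F) = (Fintype.card F ^ 4 - 1) * (Fintype.card F ^ 4 - Fintype.card F) *
      (Fintype.card F ^ 4 - Fintype.card F ^ 2) * (Fintype.card F ^ 4 - Fintype.card F ^ 3) := by
  rw [Matrix.card_GL_field, Fin.prod_univ_four]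
  simp

theorem dq6_surjective : Function.Surjective (dq6 (F := F)) := by
  intro u
  obtain ⟨A, hA⟩ := Matrix.GeneralLinearGroup.det_surjective (n := Fin 4) (R := F) u
  exact ⟨(1, A), by rw [dq6_apply]; simp [hA]⟩

theorem card_Gam6 : Nat.card (Gam6 F) = Nat.card (GL (Fin 4) F) := by
  classical
  have h1 := Subgroup.card_mul_index (Gam6 F)
  have h2 : (Gam6 F).index = Nat.card (dq6 (F := F)).range := Subgroup.index_ker _
  have h3 : (dq6 (F := F)).range = ⊤ := MonoidHom.range_eq_top.mpr dq6_surjective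
  rw [h2, h3, Subgroup.card_top, Nat.card_prod] at h1
  have hpos : 0 < Nat.card Fˣ := Nat.card_pos
  rw [mul_comm] at h1
  exact Nat.eq_of_mul_eq_mul_left hpos h1

/-- the kernel of `phi6` has at most `q - 1` elements -/
theorem card_le_of_phi6_one {G : Type*} [Group G] (f : G →* Fˣ × GL (Fin 4) F)
    (hf : Function.Injective f) (hphi : ∀ x, ∀ X : AltW F, phi6 (f x) X = X) :
    Nat.card G ≤ Fintype.card F - 1 := by
  classical
  have hne : ∀ x : G, ((f x).2 : Matrix (Fin 4) (Fin 4) F) 0 0 ≠ 0 := by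
    intro x h0
    have := (one_mem_scalar_fix (hphi x)).2
    rw [h0] at this
    simp at this
  let κ : G → Fˣ := fun x => Units.mk0 _ (hne x)
  have hκ : Function.Injective κ := by
    intro x y hxy
    have hxy' : ((f x).2 : Matrix (Fin 4) (Fin 4) F) 0 0 = ((f y).2 : Matrix (Fin 4) (Fin 4) F) 0 0 :=
      congrArg Units.val hxy
    have h2 : (f x).2 = (f y).2 :=
      Units.ext (by rw [(one_mem_scalar_fix (hphi x)).1, (one_mem_scalar_fix (hphi y)).1, hxy'])
    have h1 : (f x).1 = (f y).1 := by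
      apply Units.ext
      have e1 := (one_mem_scalar_fix (hphi x)).2
      have e2 := (one_mem_scalar_fix (hphi y)).2
      rw [hxy'] at e1
      have h3 : ((f y).2 : Matrix (Fin 4) (Fin 4) F) 0 0 ^ 2 ≠ 0 := pow_ne_zero _ (hne y)
      exact mul_right_cancel₀ h3 (e1.trans e2.symm)
    exact hf (Prod.ext h1 h2)
  have := Nat.card_le_card_of_injective κ hκ
  rwa [Nat.card_eq_fintype_card (α := Fˣ), Fintype.card_units] at this

variable (F)

/-- `Γ → O(W)` -/
def phiG6 : Gam6 F →* OW6 F :=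
  (phi6.comp (Gam6 F).subtype).codRestrict (OW6 F) (fun p => phi6_mem_OW6 p.2)

variable {F}

theorem coe_phiG6 (p : Gam6 F) :
    ((phiG6 F p : OW6 F) : AltW F ≃ₗ[F] AltW F) = phi6 p.1 := rfl

theorem card_SL4_le_range :
    Nat.card (Matrix.SpecialLinearGroup (Fin 4) F) ≤ Nat.card (phiG6 F).range := by
  have h1 := Subgroup.card_mul_index (phiG6 F).ker
  rw [Subgroup.index_ker, card_Gam6,
    Cfsg.Agent.helper12.card_GL_eq_card_SL_mul (F := F) 4 (by norm_num)] at h1
  have h2 : Nat.card (phiG6 F).ker ≤ Fintype.card F - 1 := by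
    apply card_le_of_phi6_one ((Gam6 F).subtype.comp (phiG6 F).ker.subtype)
    · exact (Subtype.val_injective).comp Subtype.val_injective
    · intro x X
      have hx : phiG6 F x.1 = 1 := x.2
      have := congrArg (fun g : OW6 F => (g : AltW F ≃ₗ[F] AltW F) X) hx
      simpa [coe_phiG6] using this
  have hq : 2 ≤ Fintype.card F := Fintype.one_lt_card
  have hpos : 0 < Fintype.card F - 1 := by omega
  have h3 : Nat.card (Matrix.SpecialLinearGroup (Fin 4) F) * (Fintype.card F - 1) ≤
      Nat.card (phiG6 F).range * (Fintype.card F - 1) := by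
    rw [← h1, mul_comm (Nat.card (phiG6 F).range)]
    exact Nat.mul_le_mul_right _ h2
  exact Nat.le_of_mul_le_mul_right h3 hpos

theorem card_OW6_eq : Nat.card (OW6 F) = 2 * Nat.card (Matrix.SpecialLinearGroup (Fin 4) F) := by
  have h1 := Cfsg.Agent.helper12.card_GL_eq_card_SL_mul (F := F) 4 (by norm_num)
  rw [card_GL4] at h1
  have hq : 2 ≤ Fintype.card F := Fintype.one_lt_card
  have hpos : 0 < Fintype.card F - 1 := by omega
  apply Nat.eq_of_mul_eq_mul_right hpos
  rw [mul_assoc, ← h1, card_OW6]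
  set q := Fintype.card F with hqdef
  have e1 : q ^ 4 - q = q * (q ^ 3 - 1) := by rw [Nat.mul_sub_one]; ring_nf
  have e2 : q ^ 4 - q ^ 2 = q ^ 2 * (q ^ 2 - 1) := by rw [Nat.mul_sub_one]; ring_nf
  have e3 : q ^ 4 - q ^ 3 = q ^ 3 * (q - 1) := by rw [Nat.mul_sub_one]; ring_nf
  rw [e1, e2, e3]
  ring

theorem finite_OW6 : Finite (OW6 F) := by
  apply Nat.finite_of_card_ne_zero
  rw [card_OW6_eq]
  have : 0 < Nat.card (Matrix.SpecialLinearGroup (Fin 4) F) := Nat.card_pos
  omega

variable (F)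

/-- `SL₄ → O(W)` -/
def psi6 : Matrix.SpecialLinearGroup (Fin 4) F →* OW6 F :=
  (phiG6 F).comp
    (((MonoidHom.inr Fˣ (GL (Fin 4) F)).comp Matrix.SpecialLinearGroup.toGL).codRestrict (Gam6 F)
      (fun s => by
        rw [mem_Gam6_iff]
        have : Matrix.GeneralLinearGroup.det (Matrix.SpecialLinearGroup.toGL s) = 1 := by
          ext
          simp
        simp [this]))

variable {F}

theorem coe_psi6 (s : Matrix.SpecialLinearGroup (Fin 4) F) :
    ((psi6 F s : OW6 F) : AltW F ≃ₗ[F] AltW F) =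
      phi6 ((1 : Fˣ), Matrix.SpecialLinearGroup.toGL s) := rfl

theorem psi6_ker_scalar {s : Matrix.SpecialLinearGroup (Fin 4) F} (hs : psi6 F s = 1) :
    (s : Matrix (Fin 4) (Fin 4) F) =
      Matrix.scalar (Fin 4) ((s : Matrix (Fin 4) (Fin 4) F) 0 0) ∧
      (s : Matrix (Fin 4) (Fin 4) F) 0 0 ^ 2 = 1 := by
  have h : ∀ X : AltW F, phi6 ((1 : Fˣ), Matrix.SpecialLinearGroup.toGL s) X = X := by
    intro X
    have := congrArg (fun g : OW6 F => (g : AltW F ≃ₗ[F] AltW F) X) hs
    simpa [coe_psi6] using this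
  have h2 := one_mem_scalar_fix h
  simp only [Units.val_one, one_mul] at h2
  exact h2

theorem card_sq_one_le : Nat.card {x : F // x ^ 2 = 1} ≤ 2 := by
  classical
  rw [Nat.card_eq_fintype_card, Fintype.card_subtype]
  have hsub : (Finset.univ.filter (fun x : F => x ^ 2 = 1)) ⊆ {1, -1} := by
    intro x hx
    rw [Finset.mem_filter] at hx
    have h2 : (x - 1) * (x + 1) = 0 := by linear_combination hx.2
    rcases mul_eq_zero.mp h2 with h3 | h3
    · simp [sub_eq_zero.mp h3]
    · simp [eq_neg_of_add_eq_zero_left h3]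
  exact (Finset.card_le_card hsub).trans Finset.card_le_two

theorem card_ker_psi6_le : Nat.card (psi6 F).ker ≤ 2 := by
  let κ : (psi6 F).ker → {x : F // x ^ 2 = 1} := fun s =>
    ⟨(s.1 : Matrix (Fin 4) (Fin 4) F) 0 0, (psi6_ker_scalar s.2).2⟩
  have hκ : Function.Injective κ := by
    intro s t hst
    have h1 : (s.1 : Matrix (Fin 4) (Fin 4) F) 0 0 = (t.1 : Matrix (Fin 4) (Fin 4) F) 0 0 :=
      congrArg Subtype.val hst
    apply Subtype.ext
    apply Subtype.ext
    rw [(psi6_ker_scalar s.2).1, (psi6_ker_scalar t.2).1, h1]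
  exact (Nat.card_le_card_of_injective κ hκ).trans card_sq_one_le

theorem card_OW6_le_range_psi6 : Nat.card (OW6 F) ≤ 4 * Nat.card (psi6 F).range := by
  have h1 := Subgroup.card_mul_index (psi6 F).ker
  rw [Subgroup.index_ker] at h1
  have h2 := card_ker_psi6_le (F := F)
  rw [card_OW6_eq, ← h1]
  have : Nat.card (psi6 F).ker * Nat.card (psi6 F).range ≤ 2 * Nat.card (psi6 F).range :=
    Nat.mul_le_mul_right _ h2
  omega

end count

end Cfsg.Agent.helper17.O6
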