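-- Statement S0286: order of the orthogonal group in odd dimension.
import Cfsg.Statements.S0286
import Cfsg.Agent.Lib_helper13_OrthE

set_option autoImplicit false
open Cfsg

namespace Cfsg.Agent.S0286

open Cfsg.Agent.helper13

/-- |GO_{2m+1}(q)| = 2 q^(m^2) prod_{i=1}^{m} (q^(2i) - 1) for q odd. -/
theorem result {F : Type*} [Field F] [Fintype F] {q : ℕ} (hF : Fintype.card F = q) (hodd : Odd q) (m : ℕ) : Nat.card (Cfsg.isometryGroup F (Cfsg.quadFormOdd m F)) = 2 * q ^ (m ^ 2) * ∏ i ∈ Finset.range m, (q ^ (2 * (i + 1)) - 1) := by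
  have h2 : (2 : F) ≠ 0 := by
    intro h
    have h3 : ((2 : ℕ) : F) = 0 := by exact_mod_cast h
    obtain ⟨p, hp⟩ := CharP.exists F
    haveI := hp
    have hdvd : p ∣ 2 := (CharP.cast_eq_zero_iff F p 2).mp h3
    have hpp : p.Prime := CharP.char_is_prime F p
    have hp2 : p = 2 := (Nat.prime_dvd_prime_iff_eq hpp Nat.prime_two).mp hdvd
    subst hp2
    have hcard : (2 : ℕ) ∣ Fintype.card F := by
      have hc : ((Fintype.card F : ℕ) : F) = 0 := Nat.cast_card_eq_zero F
      exact (CharP.cast_eq_zero_iff F 2 _).mp hc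
    rw [hF] at hcard
    obtain ⟨k, hk⟩ := hodd
    omega
  rw [card_odd h2 m, hF]

end Cfsg.Agent.S0286
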