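import Mathlib
import Cfsg.Prelude.Def_Classical
import Cfsg.Agent.S0286
import Cfsg.Agent.Lib_helper17_O6d

set_option autoImplicit false

/-!
# The model (alternating 4×4 matrices orthogonal to `J`, Pfaffian) of the 5-dimensional quadratic space
-/

namespace Cfsg.Agent.helper17.O5

open Matrix Cfsg.Agent.helper17.O6

variable {F : Type*} [Field F]

/-- the standard symplectic form as a 4×4 matrix -/
def J4 : Matrix (Fin 4) (Fin 4) F := altMat 0 (-1) 0 0 (-1) 0

theorem J4_mem : (J4 : Matrix (Fin 4) (Fin 4) F) ∈ AltW F := altMat_mem _ _ _ _ _ _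

theorem pf_J4 : pf (J4 : Matrix (Fin 4) (Fin 4) F) = -1 := by
  simp [pf, J4, altMat]

theorem polar_J4 (X : Matrix (Fin 4) (Fin 4) F) :
    pf (X + J4) - pf X - pf (J4 : Matrix (Fin 4) (Fin 4) F) = X 0 2 + X 1 3 := by
  simp [pf, J4, altMat]
  ring

variable (F)

/-- alternating matrices orthogonal to `J4` -/
def W5 : Submodule F (Matrix (Fin 4) (Fin 4) F) where
  carrier := {X | X ∈ AltW F ∧ X 0 2 + X 1 3 = 0}
  add_mem' := by
    rintro X Y ⟨hX, hX'⟩ ⟨hY, hY'⟩
    refine ⟨(AltW F).add_mem hX hY, ?_⟩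
    rw [Matrix.add_apply, Matrix.add_apply]
    linear_combination hX' + hY'
  zero_mem' := ⟨(AltW F).zero_mem, by simp⟩
  smul_mem' := by
    rintro c X ⟨hX, hX'⟩
    refine ⟨(AltW F).smul_mem c hX, ?_⟩
    rw [Matrix.smul_apply, Matrix.smul_apply, smul_eq_mul, smul_eq_mul]
    linear_combination c * hX'

variable {F}

theorem mem_W5_iff (X : Matrix (Fin 4) (Fin 4) F) :
    X ∈ W5 F ↔ X ∈ AltW F ∧ X 0 2 + X 1 3 = 0 := Iff.rfl

theorem mem_W5_iff_polar {X : Matrix (Fin 4) (Fin 4) F} (hX : X ∈ AltW F) :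
    X ∈ W5 F ↔ pf (X + J4) = pf X + pf (J4 : Matrix (Fin 4) (Fin 4) F) := by
  rw [mem_W5_iff, ← polar_J4]
  constructor
  · rintro ⟨-, h⟩
    linear_combination h
  · intro h
    exact ⟨hX, by linear_combination h⟩

/-- the alternating matrix of a vector -/
def hmat5 (v : Unit ⊕ (Fin 2 ⊕ Fin 2) → F) : Matrix (Fin 4) (Fin 4) F :=
  altMat (v (.inr (.inl 0))) (v (.inl ())) (v (.inr (.inl 1))) (v (.inr (.inr 1))) (-v (.inl ()))
    (v (.inr (.inr 0)))

theorem hmat5_mem (v : Unit ⊕ (Fin 2 ⊕ Fin 2) → F) : hmat5 v ∈ W5 F := by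
  refine ⟨altMat_mem _ _ _ _ _ _, ?_⟩
  simp [hmat5, altMat]

theorem pf_hmat5 (v : Unit ⊕ (Fin 2 ⊕ Fin 2) → F) : pf (hmat5 v) = Cfsg.quadFormOdd 2 F v := by
  simp [pf, hmat5, altMat, Cfsg.quadFormOdd, Fin.sum_univ_two]
  ring

/-- the linear equivalence `F⁵ ≃ W5` -/
def eVW5 : (Unit ⊕ (Fin 2 ⊕ Fin 2) → F) ≃ₗ[F] W5 F where
  toFun v := ⟨hmat5 v, hmat5_mem v⟩
  invFun X := Sum.elim (fun _ => X.1 0 2) (Sum.elim ![X.1 0 1, X.1 0 3] ![X.1 2 3, X.1 1 2])
  map_add' u v := by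
    apply Subtype.ext
    ext i j
    fin_cases i <;> fin_cases j <;> simp [hmat5, altMat] <;> ring
  map_smul' c v := by
    apply Subtype.ext
    ext i j
    fin_cases i <;> fin_cases j <;> simp [hmat5, altMat]
  left_inv v := by
    ext i
    rcases i with i | i | i
    · simp [hmat5, altMat]
    · fin_cases i <;> simp [hmat5, altMat]
    · fin_cases i <;> simp [hmat5, altMat]
  right_inv X := by
    apply Subtype.ext
    conv_rhs => rw [eq_altMat X.2.1]
    have h : X.1 1 3 = -X.1 0 2 := by linear_combination X.2.2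
    simp [hmat5, h]

theorem pf_eVW5 (v : Unit ⊕ (Fin 2 ⊕ Fin 2) → F) : pf (eVW5 v).1 = Cfsg.quadFormOdd 2 F v :=
  pf_hmat5 v

variable (F)

/-- the isometry group of `(W5, pf)` -/
def OW5 : Subgroup (W5 F ≃ₗ[F] W5 F) where
  carrier := {f | ∀ X : W5 F, pf (f X).1 = pf X.1}
  mul_mem' := by
    intro f g hf hg X
    rw [LinearEquiv.mul_apply, hf, hg]
  one_mem' := by
    intro X
    rfl
  inv_mem' := by
    intro f hf X
    have h := hf (f⁻¹ X)
    rw [← h]
    congr 2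
    change f (f.symm X) = X
    simp

variable {F}

open Cfsg.Agent.helper17.O4m in
theorem mem_iso_iff5 (g : GL (Unit ⊕ (Fin 2 ⊕ Fin 2)) F) :
    g ∈ Cfsg.isometryGroup F (Cfsg.quadFormOdd 2 F) ↔ TTg (eVW5 (F := F)) g ∈ OW5 F := by
  constructor
  · intro hg X
    rw [TTg_apply, pf_eVW5]
    have := hg (eVW5.symm X) 0
    simp only [Units.coeHom_apply] at this
    rw [this, ← pf_eVW5]
    simp
  · intro hf u v
    simp only [Units.coeHom_apply]
    have := hf (eVW5 u)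
    rw [TTg_apply, pf_eVW5, pf_eVW5] at this
    simpa using this

open Cfsg.Agent.helper17.O4m in
theorem map_TT_iso5 :
    (Cfsg.isometryGroup F (Cfsg.quadFormOdd 2 F)).map (TTg (eVW5 (F := F))).toMonoidHom
      = OW5 F := by
  ext f
  constructor
  · rintro ⟨g, hg, rfl⟩
    exact (mem_iso_iff5 g).mp hg
  · intro hf
    refine ⟨(TTg eVW5).symm f, ?_, by simp⟩
    apply (mem_iso_iff5 _).mpr
    simpa using hf

open Cfsg.Agent.helper17.O4m in
/-- the isometry group is isomorphic to `OW5` -/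
noncomputable def isoEquiv5 :
    ↥(Cfsg.isometryGroup F (Cfsg.quadFormOdd 2 F)) ≃* ↥(OW5 F) :=
  ((TTg (eVW5 (F := F))).subgroupMap _).trans (MulEquiv.subgroupCongr map_TT_iso5)

theorem card_OW5 [Fintype F] (hodd : Odd (Fintype.card F)) :
    Nat.card (OW5 F) = 2 * (Fintype.card F ^ 4 *
      ((Fintype.card F ^ 2 - 1) * (Fintype.card F ^ 4 - 1))) := by
  rw [← Nat.card_congr (isoEquiv5 (F := F)).toEquiv,
    Cfsg.Agent.S0286.result (F := F) rfl hodd 2]
  simp [Finset.prod_range_succ]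
  ring

end Cfsg.Agent.helper17.O5
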