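import Mathlib
import Cfsg.Agent.Lib_helper17_O5a

set_option autoImplicit false

/-!
# Restriction of isometries of `AltW` fixing `J4` to `W5`; the similitude group
-/

namespace Cfsg.Agent.helper17.O5

open Matrix Cfsg.Agent.helper17.O6

variable {F : Type*} [Field F]

/-- `J4` as an element of `AltW` -/
def J4w : AltW F := ⟨J4, J4_mem⟩

variable (F)

/-- isometries of `AltW` fixing `J4` -/
def S5 : Subgroup (AltW F ≃ₗ[F] AltW F) where
  carrier := {f | f ∈ OW6 F ∧ f J4w = J4w}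
  mul_mem' := by
    rintro f g ⟨hf, hf'⟩ ⟨hg, hg'⟩
    refine ⟨mul_mem hf hg, ?_⟩
    rw [LinearEquiv.mul_apply, hg', hf']
  one_mem' := ⟨one_mem _, rfl⟩
  inv_mem' := by
    rintro f ⟨hf, hf'⟩
    refine ⟨inv_mem hf, ?_⟩
    change f.symm J4w = J4w
    rw [LinearEquiv.symm_apply_eq, hf']

variable {F}

theorem S5_map_mem (f : S5 F) {X : Matrix (Fin 4) (Fin 4) F} (hX : X ∈ W5 F) :
    (f.1 ⟨X, hX.1⟩).1 ∈ W5 F := by
  have hY : (f.1 ⟨X, hX.1⟩).1 ∈ AltW F := (f.1 ⟨X, hX.1⟩).2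
  rw [mem_W5_iff_polar hY]
  have h1 : (f.1 ⟨X, hX.1⟩).1 + J4 = (f.1 (⟨X, hX.1⟩ + J4w)).1 := by
    rw [map_add, f.2.2]
    rfl
  rw [h1, f.2.1, f.2.1]
  exact (mem_W5_iff_polar hX.1).mp hX

/-- restriction to `W5` -/
def resLin (f : S5 F) : W5 F ≃ₗ[F] W5 F where
  toFun X := ⟨(f.1 ⟨X.1, X.2.1⟩).1, S5_map_mem f X.2⟩
  invFun X := ⟨((f⁻¹).1 ⟨X.1, X.2.1⟩).1, S5_map_mem f⁻¹ X.2⟩
  map_add' X Y := by
    apply Subtype.ext
    have : (⟨(X + Y).1, (X + Y).2.1⟩ : AltW F) = ⟨X.1, X.2.1⟩ + ⟨Y.1, Y.2.1⟩ := rfl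
    simp only [this, map_add]
    rfl
  map_smul' c X := by
    apply Subtype.ext
    have : (⟨(c • X).1, (c • X).2.1⟩ : AltW F) = c • ⟨X.1, X.2.1⟩ := rfl
    simp only [this, map_smul]
    rfl
  left_inv X := by
    apply Subtype.ext
    simp only
    have : ((f⁻¹).1 (f.1 ⟨X.1, X.2.1⟩)) = ⟨X.1, X.2.1⟩ := by
      change f.1⁻¹ (f.1 ⟨X.1, X.2.1⟩) = _
      rw [← LinearEquiv.mul_apply, inv_mul_cancel]
      rfl
    exact congrArg Subtype.val this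
  right_inv X := by
    apply Subtype.ext
    simp only
    have : (f.1 ((f⁻¹).1 ⟨X.1, X.2.1⟩)) = ⟨X.1, X.2.1⟩ := by
      change f.1 (f.1⁻¹ ⟨X.1, X.2.1⟩) = _
      rw [← LinearEquiv.mul_apply, mul_inv_cancel]
      rfl
    exact congrArg Subtype.val this

theorem resLin_apply (f : S5 F) (X : W5 F) : (resLin f X).1 = (f.1 ⟨X.1, X.2.1⟩).1 := rfl

theorem resLin_mem (f : S5 F) : resLin f ∈ OW5 F := by
  intro X
  rw [resLin_apply, f.2.1]

variable (F)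

/-- restriction as a homomorphism `S5 → OW5` -/
def res5 : S5 F →* OW5 F where
  toFun f := ⟨resLin f, resLin_mem f⟩
  map_one' := by
    apply Subtype.ext
    ext X : 2
    rfl
  map_mul' f g := by
    apply Subtype.ext
    ext X : 2
    rfl

/-- the similitude group: pairs `(c, A)` with `c A J Aᵀ = J` -/
def Gam5 : Subgroup (Fˣ × GL (Fin 4) F) := (S5 F).comap phi6

variable {F}

theorem phi6_J4 (p : Fˣ × GL (Fin 4) F) :
    (phi6 p J4w).1 = (p.1 : F) • ((p.2 : Matrix (Fin 4) (Fin 4) F) * J4 *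
      (p.2 : Matrix (Fin 4) (Fin 4) F)ᵀ) := rfl

theorem mem_Gam6_of_fix {p : Fˣ × GL (Fin 4) F} (h : phi6 p J4w = J4w) : p ∈ Gam6 F := by
  have h1 := pf_phi6 p J4w
  rw [h] at h1
  have h2 : pf (J4w (F := F)).1 = -1 := pf_J4
  rw [h2] at h1
  have h3 : ((dq6 p : Fˣ) : F) = 1 := by linear_combination h1
  exact Units.ext h3

theorem mem_Gam5_iff (p : Fˣ × GL (Fin 4) F) : p ∈ Gam5 F ↔ phi6 p J4w = J4w := by
  constructor
  · intro h
    exact h.2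
  · intro h
    exact ⟨phi6_mem_OW6 (mem_Gam6_of_fix h), h⟩

theorem mem_Gam5_iff' (p : Fˣ × GL (Fin 4) F) :
    p ∈ Gam5 F ↔ (p.1 : F) • ((p.2 : Matrix (Fin 4) (Fin 4) F) * J4 *
      (p.2 : Matrix (Fin 4) (Fin 4) F)ᵀ) = J4 := by
  rw [mem_Gam5_iff]
  constructor
  · intro h
    exact congrArg Subtype.val h
  · intro h
    exact Subtype.ext h

variable (F)

/-- `Γ₅ → O(W5)` -/
def phiG5 : Gam5 F →* OW5 F :=
  (res5 F).comp ((phi6.comp (Gam5 F).subtype).codRestrict (S5 F) (fun p => p.2))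

/-- the symplectic group in `Fin 4` coordinates -/
def Sp4 : Subgroup (GL (Fin 4) F) := (Gam5 F).comap (MonoidHom.inr Fˣ (GL (Fin 4) F))

variable {F}

theorem phiG5_apply (p : Gam5 F) (X : W5 F) :
    ((phiG5 F p : OW5 F).1 X).1 = (p.1.1 : F) • ((p.1.2 : Matrix (Fin 4) (Fin 4) F) * X.1 *
      (p.1.2 : Matrix (Fin 4) (Fin 4) F)ᵀ) := rfl

theorem mem_Sp4_iff (A : GL (Fin 4) F) :
    A ∈ Sp4 F ↔ (A : Matrix (Fin 4) (Fin 4) F) * J4 * (A : Matrix (Fin 4) (Fin 4) F)ᵀ = J4 := by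
  change ((1 : Fˣ), A) ∈ Gam5 F ↔ _
  rw [mem_Gam5_iff']
  simp

/-- if `p ∈ Γ₅` acts trivially on `W5` then it acts trivially on `AltW` (char ≠ 2) -/
theorem phi6_eq_id_of_phiG5 (h2 : (2 : F) ≠ 0) (p : Gam5 F) (h : phiG5 F p = 1) (X : AltW F) :
    phi6 p.1 X = X := by
  set t : F := (X.1 0 2 + X.1 1 3) / 2 with ht
  have hY : X.1 + t • J4 ∈ W5 F := by
    refine ⟨(AltW F).add_mem X.2 ((AltW F).smul_mem _ J4_mem), ?_⟩
    simp only [Matrix.add_apply, Matrix.smul_apply, J4, altMat, smul_eq_mul]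
    simp
    rw [ht]
    field_simp
    ring
  have h1 : X = ⟨X.1 + t • J4, hY.1⟩ - t • J4w := by
    apply Subtype.ext
    change X.1 = X.1 + t • J4 - t • J4
    simp
  have h3 : phi6 p.1 ⟨X.1 + t • J4, hY.1⟩ = ⟨X.1 + t • J4, hY.1⟩ := by
    have := congrArg (fun g : OW5 F => (g.1 ⟨X.1 + t • J4, hY⟩).1) h
    exact Subtype.ext this
  have h4 : phi6 p.1 J4w = J4w := (mem_Gam5_iff p.1).mp p.2
  rw [h1, map_sub, map_smul, h3, h4]

end Cfsg.Agent.helper17.O5
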