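import Mathlib
import Cfsg.Agent.Lib_helper17_O5b

set_option autoImplicit false

/-!
# Counting in the similitude group acting on `W5`
-/

namespace Cfsg.Agent.helper17.O5

open Matrix Cfsg.Agent.helper17.O6

variable {F : Type*} [Field F]

/-- `diag(c⁻¹, c⁻¹, 1, 1)` -/
def dgc (c : Fˣ) : GL (Fin 4) F :=
  ⟨Matrix.diagonal ![((c⁻¹ : Fˣ) : F), ((c⁻¹ : Fˣ) : F), 1, 1],
    Matrix.diagonal ![(c : F), (c : F), 1, 1],
    by
      rw [Matrix.diagonal_mul_diagonal, ← Matrix.diagonal_one]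
      congr 1
      ext i
      fin_cases i <;> simp,
    by
      rw [Matrix.diagonal_mul_diagonal, ← Matrix.diagonal_one]
      congr 1
      ext i
      fin_cases i <;> simp⟩

theorem dgc_mem (c : Fˣ) : (c, dgc c) ∈ Gam5 F := by
  rw [mem_Gam5_iff']
  change (c : F) • (Matrix.diagonal ![((c⁻¹ : Fˣ) : F), ((c⁻¹ : Fˣ) : F), 1, 1] * J4 *
    (Matrix.diagonal ![((c⁻¹ : Fˣ) : F), ((c⁻¹ : Fˣ) : F), 1, 1])ᵀ) = J4
  rw [Matrix.diagonal_transpose]
  ext i j
  rw [Matrix.smul_apply, Matrix.mul_diagonal, Matrix.diagonal_mul]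
  fin_cases i <;> fin_cases j <;> simp [J4, altMat]

variable (F)

/-- the multiplier `Γ₅ → Fˣ` -/
def mu5 : Gam5 F →* Fˣ := (MonoidHom.fst Fˣ (GL (Fin 4) F)).comp (Gam5 F).subtype

variable {F}

theorem mu5_surjective : Function.Surjective (mu5 F) := fun c => ⟨⟨(c, dgc c), dgc_mem c⟩, rfl⟩

section count

variable [Fintype F]

theorem card_Gam5_ge :
    Nat.card (Sp4 F) * (Fintype.card F - 1) ≤ Nat.card (Gam5 F) := by
  classical
  have h1 := Subgroup.card_mul_index (mu5 F).ker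
  rw [Subgroup.index_ker, MonoidHom.range_eq_top.mpr mu5_surjective, Subgroup.card_top,
    Nat.card_eq_fintype_card (α := Fˣ), Fintype.card_units] at h1
  rw [← h1]
  apply Nat.mul_le_mul_right
  let κ : Sp4 F → (mu5 F).ker := fun A => ⟨⟨((1 : Fˣ), A.1), A.2⟩, rfl⟩
  have hκ : Function.Injective κ := by
    intro A B hAB
    have := congrArg (fun x : (mu5 F).ker => x.1.1.2) hAB
    exact Subtype.ext this
  haveI : Finite (mu5 F).ker := by
    haveI : Finite (Fˣ × GL (Fin 4) F) := inferInstance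
    infer_instance
  exact Nat.card_le_card_of_injective κ hκ

theorem card_ker_phiG5_le (h2 : (2 : F) ≠ 0) : Nat.card (phiG5 F).ker ≤ Fintype.card F - 1 := by
  apply card_le_of_phi6_one ((Gam5 F).subtype.comp (phiG5 F).ker.subtype)
  · exact (Subtype.val_injective).comp Subtype.val_injective
  · intro x X
    exact phi6_eq_id_of_phiG5 h2 x.1 x.2 X

theorem card_Sp4_le_range (h2 : (2 : F) ≠ 0) : Nat.card (Sp4 F) ≤ Nat.card (phiG5 F).range := by
  have h1 := Subgroup.card_mul_index (phiG5 F).ker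
  rw [Subgroup.index_ker] at h1
  have h3 := card_ker_phiG5_le h2
  have h4 := card_Gam5_ge (F := F)
  have hq : 2 ≤ Fintype.card F := Fintype.one_lt_card
  have hpos : 0 < Fintype.card F - 1 := by omega
  have h5 : Nat.card (Sp4 F) * (Fintype.card F - 1) ≤
      Nat.card (phiG5 F).range * (Fintype.card F - 1) := by
    calc Nat.card (Sp4 F) * (Fintype.card F - 1) ≤ Nat.card (Gam5 F) := h4
      _ = Nat.card (phiG5 F).ker * Nat.card (phiG5 F).range := h1.symm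
      _ ≤ (Fintype.card F - 1) * Nat.card (phiG5 F).range := Nat.mul_le_mul_right _ h3
      _ = Nat.card (phiG5 F).range * (Fintype.card F - 1) := mul_comm _ _
  exact Nat.le_of_mul_le_mul_right h5 hpos

end count

variable (F)

/-- `Sp4 → O(W5)` -/
def psi5 : Sp4 F →* OW5 F :=
  (phiG5 F).comp
    (((MonoidHom.inr Fˣ (GL (Fin 4) F)).comp (Sp4 F).subtype).codRestrict (Gam5 F) (fun A => A.2))

variable {F}

theorem psi5_apply (A : Sp4 F) (X : W5 F) :
    ((psi5 F A : OW5 F).1 X).1 = (A.1 : Matrix (Fin 4) (Fin 4) F) * X.1 *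
      (A.1 : Matrix (Fin 4) (Fin 4) F)ᵀ := by
  change ((1 : Fˣ) : F) • _ = _
  rw [Units.val_one, one_smul]
  rfl

theorem psi5_ker_scalar (h2 : (2 : F) ≠ 0) {A : Sp4 F} (hA : psi5 F A = 1) :
    (A.1 : Matrix (Fin 4) (Fin 4) F) =
      Matrix.scalar (Fin 4) ((A.1 : Matrix (Fin 4) (Fin 4) F) 0 0) ∧
      (A.1 : Matrix (Fin 4) (Fin 4) F) 0 0 ^ 2 = 1 := by
  have h : ∀ X : AltW F, phi6 ((1 : Fˣ), A.1) X = X :=
    fun X => phi6_eq_id_of_phiG5 h2 ⟨((1 : Fˣ), A.1), A.2⟩ hA X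
  have h3 := one_mem_scalar_fix h
  simp only [Units.val_one, one_mul] at h3
  exact h3

theorem card_ker_psi5_le [Fintype F] (h2 : (2 : F) ≠ 0) : Nat.card (psi5 F).ker ≤ 2 := by
  let κ : (psi5 F).ker → {x : F // x ^ 2 = 1} := fun s =>
    ⟨(s.1.1 : Matrix (Fin 4) (Fin 4) F) 0 0, (psi5_ker_scalar h2 s.2).2⟩
  have hκ : Function.Injective κ := by
    intro s t hst
    have h1 : (s.1.1 : Matrix (Fin 4) (Fin 4) F) 0 0 = (t.1.1 : Matrix (Fin 4) (Fin 4) F) 0 0 :=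
      congrArg Subtype.val hst
    apply Subtype.ext
    apply Subtype.ext
    apply Units.ext
    rw [(psi5_ker_scalar h2 s.2).1, (psi5_ker_scalar h2 t.2).1, h1]
  exact (Nat.card_le_card_of_injective κ hκ).trans card_sq_one_le

theorem range_psi5_le : (psi5 F).range ≤ (phiG5 F).range := by
  rintro _ ⟨s, rfl⟩
  exact ⟨_, rfl⟩

open scoped commutatorElement in
theorem commutator_range_phiG5_le :
    (⁅(phiG5 F).range, (phiG5 F).range⁆ : Subgroup (OW5 F)) ≤ (psi5 F).range := by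
  rw [Subgroup.commutator_le]
  rintro _ ⟨x, rfl⟩ _ ⟨y, rfl⟩
  rw [← map_commutatorElement]
  have h1 : ((⁅x, y⁆ : Gam5 F) : Fˣ × GL (Fin 4) F) = ((1 : Fˣ), ⁅x.1.2, y.1.2⁆) := by
    apply Prod.ext
    · change ⁅x.1.1, y.1.1⁆ = 1
      exact commutatorElement_eq_one_iff_commute.mpr (Commute.all _ _)
    · rfl
  have hmem : ⁅x.1.2, y.1.2⁆ ∈ Sp4 F := by
    change ((1 : Fˣ), ⁅x.1.2, y.1.2⁆) ∈ Gam5 F
    rw [← h1]
    exact (⁅x, y⁆ : Gam5 F).2
  refine ⟨⟨_, hmem⟩, ?_⟩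
  change phiG5 F ⟨((1 : Fˣ), ⁅x.1.2, y.1.2⁆), _⟩ = phiG5 F ⁅x, y⁆
  congr 1
  exact Subtype.ext h1.symm

end Cfsg.Agent.helper17.O5
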