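import Mathlib
import Cfsg.Agent.Lib_helper17_O5c
import Cfsg.Agent.S0245
import Cfsg.Agent.S0269

set_option autoImplicit false

/-!
# `Sp4` versus Mathlib's `symplecticGroup (Fin 2)`, and `[O,O] = ψ(Sp4)`
-/

namespace Cfsg.Agent.helper17.O5

open Matrix Cfsg.Agent.helper17.O6 Cfsg.Agent.helper17.O4
open scoped commutatorElement

variable {F : Type*} [Field F]

/-- the index equivalence -/
def e4 : Fin 2 ⊕ Fin 2 ≃ Fin 4 := finSumFinEquiv

theorem rJ : (Matrix.J (Fin 2) F).submatrix e4.symm e4.symm = J4 := by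
  ext i j
  fin_cases i <;> fin_cases j <;> simp [Matrix.J, J4, altMat, e4, finSumFinEquiv, Fin.addCases]

theorem rinvJ : (J4 : Matrix (Fin 4) (Fin 4) F).submatrix e4 e4
    = Matrix.J (Fin 2) F := by
  rw [← rJ, Matrix.submatrix_submatrix]
  simp

/-- Mathlib's `Sp₄(F)` is isomorphic to `Sp4 F` -/
def spEquiv : Matrix.symplecticGroup (Fin 2) F ≃* Sp4 F where
  toFun A := ⟨⟨(A.1).submatrix e4.symm e4.symm,
      ((A⁻¹ : Matrix.symplecticGroup (Fin 2) F).1).submatrix e4.symm e4.symm,
      by
        rw [Matrix.submatrix_mul_equiv, ← Submonoid.coe_mul, mul_inv_cancel]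
        exact Matrix.submatrix_one_equiv _,
      by
        rw [Matrix.submatrix_mul_equiv, ← Submonoid.coe_mul, inv_mul_cancel]
        exact Matrix.submatrix_one_equiv _⟩,
    by
      rw [mem_Sp4_iff]
      change (A.1).submatrix e4.symm e4.symm * J4 *
        ((A.1).submatrix e4.symm e4.symm)ᵀ = J4
      rw [← rJ, Matrix.transpose_submatrix, Matrix.submatrix_mul_equiv, Matrix.submatrix_mul_equiv,
        SymplecticGroup.mem_iff.mp A.2]⟩
  invFun B := ⟨(B.1.1).submatrix e4 e4, by
    rw [SymplecticGroup.mem_iff, ← rinvJ, Matrix.transpose_submatrix, Matrix.submatrix_mul_equiv,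
      Matrix.submatrix_mul_equiv, (mem_Sp4_iff B.1).mp B.2]⟩
  left_inv A := by
    apply Subtype.ext
    change ((A.1).submatrix e4.symm e4.symm).submatrix
      e4 e4 = A.1
    rw [Matrix.submatrix_submatrix]
    simp
  right_inv B := by
    apply Subtype.ext
    apply Units.ext
    change ((B.1.1).submatrix e4 e4).submatrix
      e4.symm e4.symm = B.1.1
    rw [Matrix.submatrix_submatrix]
    simp
  map_mul' A B := by
    apply Subtype.ext
    apply Units.ext
    change ((A * B : Matrix.symplecticGroup (Fin 2) F).1).submatrix e4.symm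
      e4.symm = (A.1).submatrix e4.symm e4.symm *
        (B.1).submatrix e4.symm e4.symm
    rw [Matrix.submatrix_mul_equiv]
    rfl

section fin

variable [Fintype F]

theorem card_Sp4 : Nat.card (Sp4 F) =
    Fintype.card F ^ 4 * ((Fintype.card F ^ 2 - 1) * (Fintype.card F ^ 4 - 1)) := by
  rw [← Nat.card_congr (spEquiv (F := F)).toEquiv, Cfsg.Agent.S0245.result (F := F) rfl 2]
  simp [Finset.prod_range_succ]

theorem three_le_card (hodd : Odd (Fintype.card F)) : 3 ≤ Fintype.card F := by
  have hq : 2 ≤ Fintype.card F := Fintype.one_lt_card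
  obtain ⟨k, hk⟩ := hodd
  omega

theorem two_ne_zero_of_odd (hodd : Odd (Fintype.card F)) : (2 : F) ≠ 0 := by
  apply Ring.two_ne_zero
  intro h
  have := (FiniteField.even_card_iff_char_two).mp h
  obtain ⟨k, hk⟩ := hodd
  omega

theorem Sp4_perfect (hodd : Odd (Fintype.card F)) : commutator (Sp4 F) = ⊤ := by
  have h1 : commutator (Matrix.symplecticGroup (Fin 2) F) = ⊤ :=
    Cfsg.Agent.S0269.result 2 (Or.inr (Or.inl ⟨rfl, three_le_card hodd⟩))
  have h2 : (commutator (Matrix.symplecticGroup (Fin 2) F)).map (spEquiv (F := F)).toMonoidHom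
      = commutator (Sp4 F) := by
    rw [commutator_def, commutator_def, Subgroup.map_commutator]
    have : (⊤ : Subgroup (Matrix.symplecticGroup (Fin 2) F)).map
        (spEquiv (F := F)).toMonoidHom = ⊤ :=
      Subgroup.map_top_of_surjective _ (spEquiv (F := F)).surjective
    rw [this]
  rw [← h2, h1]
  exact Subgroup.map_top_of_surjective _ (spEquiv (F := F)).surjective

theorem card_OW5_eq (hodd : Odd (Fintype.card F)) : Nat.card (OW5 F) = 2 * Nat.card (Sp4 F) := by
  rw [card_OW5 hodd, card_Sp4]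

theorem finite_OW5 (hodd : Odd (Fintype.card F)) : Finite (OW5 F) := by
  apply Nat.finite_of_card_ne_zero
  rw [card_OW5_eq hodd]
  have : 0 < Nat.card (Sp4 F) := Nat.card_pos
  omega

theorem commutator_range_phiG5 (hodd : Odd (Fintype.card F)) :
    (⁅(phiG5 F).range, (phiG5 F).range⁆ : Subgroup (OW5 F)) = (psi5 F).range := by
  apply le_antisymm commutator_range_phiG5_le
  have h1 : (psi5 F).range = (commutator (Sp4 F)).map (psi5 F) := by
    rw [Sp4_perfect hodd, ← MonoidHom.range_eq_map]
  rw [h1, commutator_def, Subgroup.map_commutator, ← MonoidHom.range_eq_map]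
  exact Subgroup.commutator_mono range_psi5_le range_psi5_le

theorem range_psi5_eq (hodd : Odd (Fintype.card F)) : (psi5 F).range = commutator (OW5 F) := by
  haveI := finite_OW5 hodd
  have h2 := two_ne_zero_of_odd hodd
  rw [← commutator_range_phiG5 hodd]
  symm
  apply commutator_eq_of_card
  · rw [card_OW5_eq hodd]
    have := card_Sp4_le_range (F := F) h2
    omega
  · rw [commutator_range_phiG5 hodd, card_OW5_eq hodd]
    have h1 := Subgroup.card_mul_index (psi5 F).ker
    rw [Subgroup.index_ker] at h1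
    have h3 := card_ker_psi5_le (F := F) h2
    rw [← h1]
    have : Nat.card (psi5 F).ker * Nat.card (psi5 F).range ≤ 2 * Nat.card (psi5 F).range :=
      Nat.mul_le_mul_right _ h3
    omega

theorem psi5_ker_center (hodd : Odd (Fintype.card F)) {z : Sp4 F} (hz : psi5 F z = 1) :
    z ∈ Subgroup.center (Sp4 F) := by
  rw [Subgroup.mem_center_iff]
  intro g
  apply Subtype.ext
  apply Units.ext
  change (g.1 : Matrix (Fin 4) (Fin 4) F) * (z.1 : Matrix (Fin 4) (Fin 4) F) =
    (z.1 : Matrix (Fin 4) (Fin 4) F) * (g.1 : Matrix (Fin 4) (Fin 4) F)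
  rw [(psi5_ker_scalar (two_ne_zero_of_odd hodd) hz).1]
  exact ((Matrix.scalar_commute _ (fun r => Commute.all _ r) _).eq).symm

theorem psi5_central (hodd : Odd (Fintype.card F)) (h : Sp4 F) :
    h ∈ Subgroup.center (Sp4 F) ↔ ∀ h', psi5 F h' * psi5 F h = psi5 F h * psi5 F h' := by
  constructor
  · intro h1 h'
    rw [← map_mul, ← map_mul]
    congr 1
    exact Subgroup.mem_center_iff.mp h1 h'
  · intro hc
    exact mem_center_of_perfect (Sp4_perfect hodd) (psi5 F)
      (fun z hz => psi5_ker_center hodd hz) h hc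

end fin

end Cfsg.Agent.helper17.O5
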