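import Mathlib
import Cfsg.Agent.Lib_helper17_O6d
import Cfsg.Agent.Lib_helper2_SLn

set_option autoImplicit false

/-!
# `[O,O] = ψ(SL₄)` for `O = O(alternating 4×4 matrices, Pfaffian)`
-/

namespace Cfsg.Agent.helper17.O6

open Matrix
open scoped commutatorElement

variable {F : Type*} [Field F] [Fintype F]

theorem SL4_perfect : commutator (Matrix.SpecialLinearGroup (Fin 4) F) = ⊤ :=
  Cfsg.Agent.helper2.SL_commutator_eq_top (by simp)

theorem range_psi6_le : (psi6 F).range ≤ (phiG6 F).range := by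
  rintro _ ⟨s, rfl⟩
  exact ⟨_, rfl⟩

theorem commutator_range_phiG6 :
    (⁅(phiG6 F).range, (phiG6 F).range⁆ : Subgroup (OW6 F)) = (psi6 F).range := by
  apply le_antisymm
  · rw [Subgroup.commutator_le]
    rintro _ ⟨x, rfl⟩ _ ⟨y, rfl⟩
    rw [← map_commutatorElement]
    have hdet : (((⁅x, y⁆ : Gam6 F) : Fˣ × GL (Fin 4) F).2 : Matrix (Fin 4) (Fin 4) F).det = 1 := by
      have h1 : ((⁅x, y⁆ : Gam6 F) : Fˣ × GL (Fin 4) F).2 = ⁅x.1.2, y.1.2⁆ := rfl
      have h2 : Matrix.GeneralLinearGroup.det ⁅x.1.2, y.1.2⁆ = 1 := by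
        rw [map_commutatorElement]
        exact commutatorElement_eq_one_iff_commute.mpr (Commute.all _ _)
      rw [h1]
      have := congrArg Units.val h2
      rw [Matrix.GeneralLinearGroup.val_det_apply, Units.val_one] at this
      exact this
    refine ⟨(⟨_, hdet⟩ : Matrix.SpecialLinearGroup (Fin 4) F), ?_⟩
    apply Subtype.ext
    change phi6 ((1 : Fˣ), Matrix.SpecialLinearGroup.toGL
      (⟨_, hdet⟩ : Matrix.SpecialLinearGroup (Fin 4) F)) = phi6 (⁅x, y⁆ : Gam6 F).1
    congr 1
    apply Prod.ext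
    · have h1 : ((⁅x, y⁆ : Gam6 F) : Fˣ × GL (Fin 4) F).1 = ⁅x.1.1, y.1.1⁆ := rfl
      rw [h1]
      exact (commutatorElement_eq_one_iff_commute.mpr (Commute.all _ _)).symm
    · exact Units.ext rfl
  · have h1 : (psi6 F).range = (commutator (Matrix.SpecialLinearGroup (Fin 4) F)).map (psi6 F) := by
      rw [SL4_perfect, ← MonoidHom.range_eq_map]
    rw [h1, commutator_def, Subgroup.map_commutator, ← MonoidHom.range_eq_map]
    exact Subgroup.commutator_mono range_psi6_le range_psi6_le

theorem range_psi6_eq : (psi6 F).range = commutator (OW6 F) := by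
  haveI := finite_OW6 (F := F)
  rw [← commutator_range_phiG6]
  symm
  apply commutator_eq_of_card
  · rw [card_OW6_eq]
    have := card_SL4_le_range (F := F)
    omega
  · rw [commutator_range_phiG6]
    exact card_OW6_le_range_psi6

theorem psi6_ker_center {z : Matrix.SpecialLinearGroup (Fin 4) F} (hz : psi6 F z = 1) :
    z ∈ Subgroup.center (Matrix.SpecialLinearGroup (Fin 4) F) := by
  rw [Subgroup.mem_center_iff]
  intro g
  apply Subtype.ext
  rw [Matrix.SpecialLinearGroup.coe_mul, Matrix.SpecialLinearGroup.coe_mul,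
    (psi6_ker_scalar hz).1]
  exact ((Matrix.scalar_commute _ (fun r => Commute.all _ r) _).eq).symm

theorem psi6_central (h : Matrix.SpecialLinearGroup (Fin 4) F) :
    h ∈ Subgroup.center (Matrix.SpecialLinearGroup (Fin 4) F) ↔
      ∀ h', psi6 F h' * psi6 F h = psi6 F h * psi6 F h' := by
  constructor
  · intro h1 h'
    rw [← map_mul, ← map_mul]
    congr 1
    exact Subgroup.mem_center_iff.mp h1 h'
  · intro hc
    exact mem_center_of_perfect SL4_perfect (psi6 F) (fun z hz => psi6_ker_center hz) h hc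

end Cfsg.Agent.helper17.O6
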