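import Mathlib
import Cfsg.Prelude.Def_LieClassical
import Cfsg.Agent.Lib_helper17_O6d
import Cfsg.Agent.Lib_helper17_O4g
import Cfsg.Agent.Lib_helper11_Unitary2

set_option autoImplicit false

/-!
# The Pfaffian dual, the semilinear involution `★` and its fixed space `WU`
-/

namespace Cfsg.Agent.helper17.O7

open Matrix Cfsg.Agent.helper17.O6 Cfsg.Agent.helper17.O4m Cfsg.Agent.helper11.HermCount

variable {K : Type*} [Field K]

/-- the Pfaffian dual -/
def dualM (X : Matrix (Fin 4) (Fin 4) K) : Matrix (Fin 4) (Fin 4) K :=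
  altMat (X 2 3) (-X 1 3) (X 1 2) (X 0 3) (-X 0 2) (X 0 1)

theorem dualM_mem (X : Matrix (Fin 4) (Fin 4) K) : dualM X ∈ AltW K := altMat_mem _ _ _ _ _ _

set_option maxHeartbeats 3200000 in
theorem dual_conj (A : Matrix (Fin 4) (Fin 4) K) (a b c d e f : K) :
    Aᵀ * dualM (A * altMat a b c d e f * Aᵀ) * A = A.det • dualM (altMat a b c d e f) := by
  rw [Matrix.det_succ_row_zero, Fin.sum_univ_four]
  ext i j
  fin_cases i <;> fin_cases j <;>
  · simp only [Matrix.det_fin_three, dualM, altMat, Matrix.mul_apply, Fin.sum_univ_four,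
      Matrix.transpose_apply, Matrix.of_apply, Matrix.cons_val', Matrix.cons_val_zero,
      Matrix.cons_val_one, Matrix.submatrix_apply, Fin.succAbove, Matrix.smul_apply]
    simp
    ring

theorem dual_conj' (A : Matrix (Fin 4) (Fin 4) K) {X : Matrix (Fin 4) (Fin 4) K}
    (hX : X ∈ AltW K) : Aᵀ * dualM (A * X * Aᵀ) * A = A.det • dualM X := by
  rw [eq_altMat hX]
  exact dual_conj A _ _ _ _ _ _

theorem dualM_smul (c : K) (X : Matrix (Fin 4) (Fin 4) K) : dualM (c • X) = c • dualM X := by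
  ext i j
  fin_cases i <;> fin_cases j <;> simp [dualM, altMat]

theorem dualM_add (X Y : Matrix (Fin 4) (Fin 4) K) : dualM (X + Y) = dualM X + dualM Y := by
  ext i j
  fin_cases i <;> fin_cases j <;> simp [dualM, altMat] <;> ring

theorem dualM_sub (X Y : Matrix (Fin 4) (Fin 4) K) : dualM (X - Y) = dualM X - dualM Y := by
  ext i j
  fin_cases i <;> fin_cases j <;> simp [dualM, altMat] <;> ring

theorem dualM_dualM {X : Matrix (Fin 4) (Fin 4) K} (hX : X ∈ AltW K) : dualM (dualM X) = X := by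
  conv_rhs => rw [eq_altMat hX]
  simp [dualM, altMat]

variable [Fintype K] (q : ℕ) [hK : Fact (Fintype.card K = q ^ 2)]

/-- entrywise conjugation -/
def cjM (X : Matrix (Fin 4) (Fin 4) K) : Matrix (Fin 4) (Fin 4) K := X.map (cj q)

theorem cjM_apply (X : Matrix (Fin 4) (Fin 4) K) (i j : Fin 4) : cjM q X i j = cj q (X i j) := rfl

theorem cjM_mul (X Y : Matrix (Fin 4) (Fin 4) K) : cjM q (X * Y) = cjM q X * cjM q Y :=
  Matrix.map_mul

theorem cjM_transpose (X : Matrix (Fin 4) (Fin 4) K) : cjM q Xᵀ = (cjM q X)ᵀ := rfl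

theorem cjM_smul (c : K) (X : Matrix (Fin 4) (Fin 4) K) : cjM q (c • X) = cj q c • cjM q X := by
  ext i j
  simp [cjM_apply]

theorem cjM_cjM (X : Matrix (Fin 4) (Fin 4) K) : cjM q (cjM q X) = X := by
  ext i j
  simp [cjM_apply, cj_cj]

theorem cjM_add (X Y : Matrix (Fin 4) (Fin 4) K) : cjM q (X + Y) = cjM q X + cjM q Y := by
  ext i j
  simp [cjM_apply]

theorem cjM_sub (X Y : Matrix (Fin 4) (Fin 4) K) : cjM q (X - Y) = cjM q X - cjM q Y := by
  ext i j
  simp [cjM_apply]

theorem cjM_dualM (X : Matrix (Fin 4) (Fin 4) K) : cjM q (dualM X) = dualM (cjM q X) := by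
  ext i j
  fin_cases i <;> fin_cases j <;> simp [dualM, altMat, cjM_apply]

theorem cjM_mem {X : Matrix (Fin 4) (Fin 4) K} (hX : X ∈ AltW K) : cjM q X ∈ AltW K := by
  obtain ⟨h1, h2⟩ := hX
  constructor
  · rw [← cjM_transpose, h1]
    ext i j
    simp [cjM_apply]
  · intro i
    rw [cjM_apply, h2, map_zero]

/-- the semilinear involution `★` -/
def starM (X : Matrix (Fin 4) (Fin 4) K) : Matrix (Fin 4) (Fin 4) K := cjM q (dualM X)

theorem starM_mem (X : Matrix (Fin 4) (Fin 4) K) : starM q X ∈ AltW K := cjM_mem q (dualM_mem X)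

theorem starM_smul (c : K) (X : Matrix (Fin 4) (Fin 4) K) :
    starM q (c • X) = cj q c • starM q X := by
  rw [starM, dualM_smul, cjM_smul]
  rfl

theorem starM_add (X Y : Matrix (Fin 4) (Fin 4) K) : starM q (X + Y) = starM q X + starM q Y := by
  rw [starM, dualM_add, cjM_add]
  rfl

theorem starM_sub (X Y : Matrix (Fin 4) (Fin 4) K) : starM q (X - Y) = starM q X - starM q Y := by
  rw [starM, dualM_sub, cjM_sub]
  rfl

theorem starM_starM {X : Matrix (Fin 4) (Fin 4) K} (hX : X ∈ AltW K) :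
    starM q (starM q X) = X := by
  rw [starM, starM, ← cjM_dualM, cjM_cjM, dualM_dualM hX]

/-- `★` commutes with `X ↦ g X gᵀ` for unitary `g`, up to `conj (det g)` -/
theorem starM_conj {g : Matrix (Fin 4) (Fin 4) K} (hg : gᵀ * cjM q g = 1)
    {X : Matrix (Fin 4) (Fin 4) K} (hX : X ∈ AltW K) :
    starM q (g * X * gᵀ) = cj q g.det • (g * starM q X * gᵀ) := by
  have h1 := congrArg (cjM q) (dual_conj' g hX)
  rw [cjM_mul, cjM_mul, cjM_smul, cjM_transpose] at h1
  have hU1 : cjM q g * gᵀ = 1 := mul_eq_one_comm.mp hg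
  have hU2 : g * (cjM q g)ᵀ = 1 := by
    have := congrArg Matrix.transpose hU1
    rwa [transpose_mul, transpose_transpose, transpose_one] at this
  change (cjM q g)ᵀ * starM q (g * X * gᵀ) * cjM q g = cj q g.det • starM q X at h1
  calc starM q (g * X * gᵀ)
      = (g * (cjM q g)ᵀ) * starM q (g * X * gᵀ) * (cjM q g * gᵀ) := by
        rw [hU1, hU2, one_mul, mul_one]
    _ = g * ((cjM q g)ᵀ * starM q (g * X * gᵀ) * cjM q g) * gᵀ := by
        simp only [mul_assoc]
    _ = cj q g.det • (g * starM q X * gᵀ) := by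
        rw [h1, Matrix.mul_smul, Matrix.smul_mul]

end Cfsg.Agent.helper17.O7
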