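import Mathlib
import Cfsg.Agent.Lib_helper17_O7a

set_option autoImplicit false

/-!
# The fixed space `WU` of `★`, isometries commuting with `★`, and the unitary similitude group
-/

namespace Cfsg.Agent.helper17.O7

open Matrix Cfsg.Agent.helper17.O6 Cfsg.Agent.helper17.O4m Cfsg.Agent.helper11.HermCount
open Cfsg.Agent.helper11.Unitary

variable {K : Type*} [Field K] [Fintype K] (q : ℕ) [hK : Fact (Fintype.card K = q ^ 2)]
variable {F : Type*} [Field F] [Fintype F] [Algebra F K] [hF : Fact (Fintype.card F = q)]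

/-- `★` on `AltW K` -/
def starW (X : AltW K) : AltW K := ⟨starM q X.1, starM_mem q X.1⟩

theorem starW_starW (X : AltW K) : starW q (starW q X) = X :=
  Subtype.ext (starM_starM q X.2)

theorem starW_smul (c : K) (X : AltW K) : starW q (c • X) = cj q c • starW q X :=
  Subtype.ext (starM_smul q c X.1)

theorem starW_add (X Y : AltW K) : starW q (X + Y) = starW q X + starW q Y :=
  Subtype.ext (starM_add q X.1 Y.1)

theorem starW_sub (X Y : AltW K) : starW q (X - Y) = starW q X - starW q Y :=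
  Subtype.ext (starM_sub q X.1 Y.1)

variable (K F)

/-- the fixed space of `★`, an `F`-module -/
def WU : Submodule F (Matrix (Fin 4) (Fin 4) K) where
  carrier := {X | X ∈ AltW K ∧ starM q X = X}
  add_mem' := by
    rintro X Y ⟨hX, hX'⟩ ⟨hY, hY'⟩
    refine ⟨(AltW K).add_mem hX hY, ?_⟩
    rw [starM_add, hX', hY']
  zero_mem' := by
    refine ⟨(AltW K).zero_mem, ?_⟩
    ext i j
    fin_cases i <;> fin_cases j <;> simp [starM, dualM, altMat, cjM_apply]
  smul_mem' := by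
    rintro c X ⟨hX, hX'⟩
    have h1 : c • X = (algebraMap F K c) • X := by
      ext i j
      simp [Algebra.smul_def]
    refine ⟨?_, ?_⟩
    · rw [h1]
      exact (AltW K).smul_mem _ hX
    · rw [h1, starM_smul, cj_algebraMap q hF.out, hX']

/-- isometries of `AltW K` commuting with `★` -/
def SU' : Subgroup (AltW K ≃ₗ[K] AltW K) where
  carrier := {f | f ∈ OW6 K ∧ ∀ X, starW q (f X) = f (starW q X)}
  mul_mem' := by
    rintro f g ⟨hf, hf'⟩ ⟨hg, hg'⟩
    refine ⟨mul_mem hf hg, fun X => ?_⟩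
    rw [LinearEquiv.mul_apply, hf', hg', LinearEquiv.mul_apply]
  one_mem' := ⟨one_mem _, fun X => rfl⟩
  inv_mem' := by
    rintro f ⟨hf, hf'⟩
    refine ⟨inv_mem hf, fun X => ?_⟩
    change starW q (f.symm X) = f.symm (starW q X)
    rw [LinearEquiv.eq_symm_apply, ← hf', LinearEquiv.apply_symm_apply]

variable {K F}

theorem mem_WU_iff (X : Matrix (Fin 4) (Fin 4) K) :
    X ∈ WU K q F ↔ X ∈ AltW K ∧ starM q X = X := Iff.rfl

theorem SU'_map_mem (f : SU' K q) {X : Matrix (Fin 4) (Fin 4) K} (hX : X ∈ WU K q F) :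
    (f.1 ⟨X, hX.1⟩).1 ∈ WU K q F := by
  refine ⟨(f.1 ⟨X, hX.1⟩).2, ?_⟩
  have h1 := f.2.2 ⟨X, hX.1⟩
  have h2 : starW q ⟨X, hX.1⟩ = ⟨X, hX.1⟩ := Subtype.ext hX.2
  rw [h2] at h1
  exact congrArg Subtype.val h1

theorem smul_eq_algebraMap_smul (c : F) (X : Matrix (Fin 4) (Fin 4) K) :
    c • X = (algebraMap F K c) • X := by
  ext i j
  simp [Algebra.smul_def]

/-- restriction to `WU` -/
def resLin (f : SU' K q) : WU K q F ≃ₗ[F] WU K q F where
  toFun X := ⟨(f.1 ⟨X.1, X.2.1⟩).1, SU'_map_mem q f X.2⟩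
  invFun X := ⟨((f⁻¹).1 ⟨X.1, X.2.1⟩).1, SU'_map_mem q f⁻¹ X.2⟩
  map_add' X Y := by
    apply Subtype.ext
    have : (⟨(X + Y).1, (X + Y).2.1⟩ : AltW K) = ⟨X.1, X.2.1⟩ + ⟨Y.1, Y.2.1⟩ := rfl
    simp only [this, map_add]
    rfl
  map_smul' c X := by
    apply Subtype.ext
    have h1 : (⟨(c • X).1, (c • X).2.1⟩ : AltW K) = (algebraMap F K c) • ⟨X.1, X.2.1⟩ :=
      Subtype.ext (smul_eq_algebraMap_smul c X.1)
    change (f.1 ⟨(c • X).1, (c • X).2.1⟩).1 = c • (f.1 ⟨X.1, X.2.1⟩).1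
    rw [h1, map_smul, smul_eq_algebraMap_smul]
    rfl
  left_inv X := by
    apply Subtype.ext
    simp only
    have : ((f⁻¹).1 (f.1 ⟨X.1, X.2.1⟩)) = ⟨X.1, X.2.1⟩ := by
      change f.1⁻¹ (f.1 ⟨X.1, X.2.1⟩) = _
      rw [← LinearEquiv.mul_apply, inv_mul_cancel]
      rfl
    exact congrArg Subtype.val this
  right_inv X := by
    apply Subtype.ext
    simp only
    have : (f.1 ((f⁻¹).1 ⟨X.1, X.2.1⟩)) = ⟨X.1, X.2.1⟩ := by
      change f.1 (f.1⁻¹ ⟨X.1, X.2.1⟩) = _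
      rw [← LinearEquiv.mul_apply, mul_inv_cancel]
      rfl
    exact congrArg Subtype.val this

theorem resLin_apply (f : SU' K q) (X : WU K q F) :
    (resLin q f X).1 = (f.1 ⟨X.1, X.2.1⟩).1 := rfl

variable (K F)

/-- the isometry group of `(WU, pf)` -/
def OWU : Subgroup (WU K q F ≃ₗ[F] WU K q F) where
  carrier := {f | ∀ X : WU K q F, pf (f X).1 = pf X.1}
  mul_mem' := by
    intro f g hf hg X
    rw [LinearEquiv.mul_apply, hf, hg]
  one_mem' := by
    intro X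
    rfl
  inv_mem' := by
    intro f hf X
    have h := hf (f⁻¹ X)
    rw [← h]
    congr 2
    change f (f.symm X) = X
    simp

variable {K F}

theorem resLin_mem (f : SU' K q) : resLin q f ∈ OWU K q F := by
  intro X
  rw [resLin_apply, f.2.1]

variable (K F)

/-- restriction as a homomorphism -/
def resU : SU' K q →* OWU K q F where
  toFun f := ⟨resLin q f, resLin_mem q f⟩
  map_one' := by
    apply Subtype.ext
    ext X : 2
    rfl
  map_mul' f g := by
    apply Subtype.ext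
    ext X : 2
    rfl

/-- the unitary similitude group: `(c, g)` with `g ∈ GU₄`, `N(c) = 1`, `c² det g = 1` -/
def GamU : Subgroup (Kˣ × GL (Fin 4) K) where
  carrier := {p | p.2 ∈ Cfsg.GU 4 K q ∧ p.1 ^ (q + 1) = 1 ∧
    p.1 ^ 2 * Matrix.GeneralLinearGroup.det p.2 = 1}
  mul_mem' := by
    rintro p r ⟨h1, h2, h3⟩ ⟨k1, k2, k3⟩
    refine ⟨mul_mem h1 k1, ?_, ?_⟩
    · rw [Prod.fst_mul, mul_pow, h2, k2, one_mul]
    · rw [Prod.fst_mul, Prod.snd_mul, mul_pow, map_mul]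
      calc p.1 ^ 2 * r.1 ^ 2 * (Matrix.GeneralLinearGroup.det p.2 * Matrix.GeneralLinearGroup.det r.2)
          = (p.1 ^ 2 * Matrix.GeneralLinearGroup.det p.2) *
            (r.1 ^ 2 * Matrix.GeneralLinearGroup.det r.2) := by
            simp only [mul_assoc, mul_left_comm, mul_comm]
        _ = 1 := by rw [h3, k3, one_mul]
  one_mem' := ⟨one_mem _, by simp, by simp⟩
  inv_mem' := by
    rintro p ⟨h1, h2, h3⟩
    refine ⟨inv_mem h1, ?_, ?_⟩
    · rw [Prod.fst_inv, inv_pow, h2, inv_one]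
    · rw [Prod.fst_inv, Prod.snd_inv, inv_pow, map_inv, ← mul_inv, h3, inv_one]

variable {K F}

theorem mem_GamU_iff (p : Kˣ × GL (Fin 4) K) :
    p ∈ GamU K q ↔ p.2 ∈ Cfsg.GU 4 K q ∧ p.1 ^ (q + 1) = 1 ∧
      p.1 ^ 2 * Matrix.GeneralLinearGroup.det p.2 = 1 := Iff.rfl

theorem gram' (g : GL (Fin 4) K) (hg : g ∈ Cfsg.GU 4 K q) :
    (g : Matrix (Fin 4) (Fin 4) K)ᵀ * cjM q (g : Matrix (Fin 4) (Fin 4) K) = 1 :=
  gram hK.out g hg

theorem GamU_le_Gam6 {p : Kˣ × GL (Fin 4) K} (hp : p ∈ GamU K q) : p ∈ Gam6 K := hp.2.2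

theorem phi6_mem_SU' {p : Kˣ × GL (Fin 4) K} (hp : p ∈ GamU K q) : phi6 p ∈ SU' K q := by
  refine ⟨phi6_mem_OW6 (GamU_le_Gam6 q hp), fun X => ?_⟩
  apply Subtype.ext
  change starM q (phi6 p X).1 = (phi6 p (starW q X)).1
  rw [phi6_apply, phi6_apply, starM_smul, starM_conj q (gram' q p.2 hp.1) X.2, smul_smul]
  congr 1
  -- conj c * conj δ = c
  obtain ⟨-, h2, h3⟩ := hp
  have e1 : (p.1 : K) * cj q (p.1 : K) = 1 := by
    rw [cj_apply, ← pow_succ', ← Units.val_pow_eq_pow_val, h2, Units.val_one]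
  have e2 : (p.1 : K) ^ 2 * (p.2 : Matrix (Fin 4) (Fin 4) K).det = 1 := by
    have := congrArg Units.val h3
    rwa [Units.val_mul, Units.val_pow_eq_pow_val, Matrix.GeneralLinearGroup.val_det_apply,
      Units.val_one] at this
  have e3 := congrArg (cj q) e2
  rw [map_mul, map_pow, map_one] at e3
  have hc : (p.1 : K) ≠ 0 := Units.ne_zero _
  have hcc : cj q (p.1 : K) ≠ 0 := by
    intro h
    rw [h, mul_zero] at e1
    exact zero_ne_one e1
  have : cj q (p.1 : K) * (cj q (p.1 : K) * cj q (p.2 : Matrix (Fin 4) (Fin 4) K).det)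
      = cj q (p.1 : K) * (p.1 : K) := by
    linear_combination e3 - e1
  exact mul_left_cancel₀ hcc this

variable (K F)

/-- `Γ_U → O(WU)` -/
def phiGU : GamU K q →* OWU K q F :=
  (resU K q F).comp ((phi6.comp (GamU K q).subtype).codRestrict (SU' K q)
    (fun p => phi6_mem_SU' q p.2))

variable {K F}

theorem phiGU_apply (p : GamU K q) (X : WU K q F) :
    ((phiGU K q F p : OWU K q F).1 X).1 = (p.1.1 : K) • ((p.1.2 : Matrix (Fin 4) (Fin 4) K) * X.1 *
      (p.1.2 : Matrix (Fin 4) (Fin 4) K)ᵀ) := rfl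

end Cfsg.Agent.helper17.O7
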