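import Mathlib
import Cfsg.Agent.Lib_helper17_O7b
import Cfsg.Agent.Lib_helper17_O4h

set_option autoImplicit false

/-!
# The explicit isometry from the minus-type 6-dimensional quadratic space to `(WU, pf)`
-/

namespace Cfsg.Agent.helper17.O7

open Matrix Cfsg.Agent.helper17.O6 Cfsg.Agent.helper17.O4m Cfsg.Agent.helper11.HermCount

variable {K : Type*} [Field K] [Fintype K] (q : ℕ) [hK : Fact (Fintype.card K = q ^ 2)]
variable {F : Type*} [Field F] [Fintype F] [Algebra F K] [hF : Fact (Fintype.card F = q)]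

/-- elements of `WU` -/
def hw (α β γ : K) : Matrix (Fin 4) (Fin 4) K :=
  altMat α β γ (cj q γ) (-cj q β) (cj q α)

theorem hw_mem (α β γ : K) : hw q α β γ ∈ WU K q F := by
  refine ⟨altMat_mem _ _ _ _ _ _, ?_⟩
  ext i j
  fin_cases i <;> fin_cases j <;> simp [starM, dualM, hw, altMat, cjM_apply, cj_cj]

theorem eq_hw {X : Matrix (Fin 4) (Fin 4) K} (hX : X ∈ WU K q F) :
    X = hw q (X 0 1) (X 0 2) (X 0 3) := by
  obtain ⟨h1, h2⟩ := hX
  have e01 := congrFun (congrFun h2 0) 1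
  have e02 := congrFun (congrFun h2 0) 2
  have e03 := congrFun (congrFun h2 0) 3
  simp [starM, dualM, altMat, cjM_apply] at e01 e02 e03
  conv_lhs => rw [eq_altMat h1]
  have f23 : X 2 3 = cj q (X 0 1) := by rw [← e01, cj_cj]
  have f13 : X 1 3 = -cj q (X 0 2) := by
    have := congrArg (cj q) e02
    rw [map_neg, cj_cj] at this
    rw [← this, neg_neg]
  have f12 : X 1 2 = cj q (X 0 3) := by rw [← e03, cj_cj]
  rw [hw, f23, f13, f12]

theorem pf_hw (α β γ : K) : pf (hw q α β γ) = α * cj q α + β * cj q β + γ * cj q γ := by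
  simp [pf, hw, altMat]

variable (K F)

/-- `WU ≃ K³` as `F`-modules -/
def wEquiv : WU K q F ≃ₗ[F] (Fin 3 → K) where
  toFun X := ![X.1 0 1, X.1 0 2, X.1 0 3]
  invFun x := ⟨hw q (x 0) (x 1) (x 2), hw_mem q _ _ _⟩
  map_add' X Y := by
    ext i
    fin_cases i <;> simp
  map_smul' c X := by
    ext i
    fin_cases i <;> simp
  left_inv X := by
    apply Subtype.ext
    simp only [Matrix.cons_val_zero, Matrix.cons_val_one, Matrix.cons_val_two]
    exact (eq_hw q X.2).symm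
  right_inv x := by
    ext i
    fin_cases i <;> simp [hw, altMat]

include hK hF in
theorem finrank_K : Module.finrank F K = 2 := by
  apply Cfsg.Agent.helper13.finrank_of_card_pow 2
  rw [hK.out, hF.out]

theorem finrank_WU : Module.finrank F (WU K q F) = 6 := by
  rw [(wEquiv K q F).finrank_eq, Module.finrank_pi_fintype]
  simp [finrank_K K q F]

variable {K F}

/-- auxiliary data: two distinct elements of norm `-1` and a normalising factor -/
structure EpsData (ε ε' σ : K) : Prop where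
  h1 : ε * cj q ε = -1
  h2 : ε' * cj q ε' = -1
  hne : ε ≠ ε'
  hσ : cj q σ * (1 + ε * cj q ε') = 1

omit [Fintype F] hF in
theorem exists_epsData : ∃ ε ε' σ : K, EpsData q ε ε' σ := by
  classical
  have hd : (-1 : K) ^ q = -1 := by
    have := map_neg (cj q) (1 : K)
    rw [map_one] at this
    exact this
  have hcard := card_norm_fiber hK.out (-1 : K) hd
  rw [if_neg (by simp)] at hcard
  have h2 := two_le_q hK.out
  haveI : Nontrivial {x : K // x * x ^ q = -1} := by
    rw [← Finite.one_lt_card_iff_nontrivial, hcard]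
    omega
  obtain ⟨⟨ε, hε⟩, ⟨ε', hε'⟩, hne⟩ := exists_pair_ne {x : K // x * x ^ q = -1}
  have hne' : ε ≠ ε' := fun h => hne (Subtype.ext h)
  have hε0 : ε ≠ 0 := by
    intro h
    rw [h, zero_mul] at hε
    exact (by simp : (0 : K) ≠ -1) hε
  have hnz : 1 + ε * cj q ε' ≠ 0 := by
    intro h
    have h3 : ε * cj q ε' = ε * cj q ε := by
      have : ε * cj q ε = -1 := hε
      linear_combination h - this
    have h4 := mul_left_cancel₀ hε0 h3
    have h5 := congrArg (cj q) h4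
    rw [cj_cj, cj_cj] at h5
    exact hne' h5.symm
  refine ⟨ε, ε', cj q ((1 + ε * cj q ε')⁻¹), hε, hε', hne', ?_⟩
  rw [cj_cj, inv_mul_cancel₀ hnz]

/-- `ι u + ι w θ = 0` forces `u = w = 0` -/
theorem indep_theta {a b : F} {θ : K} (hθ : ThetaData q a b θ) (u w : F)
    (h : algebraMap F K u + algebraMap F K w * θ = 0) : u = 0 ∧ w = 0 := by
  have h' := congrArg (cj q) h
  rw [map_zero, map_add, map_mul, cj_algebraMap q hF.out, cj_algebraMap q hF.out] at h'
  have hne : θ - cj q θ ≠ 0 := sub_ne_zero.mpr (Ne.symm hθ.ne)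
  have h2 : algebraMap F K w * (θ - cj q θ) = 0 := by linear_combination h - h'
  have hw : w = 0 := by
    rcases mul_eq_zero.mp h2 with h3 | h3
    · exact (map_eq_zero _).mp h3
    · exact absurd h3 hne
  refine ⟨?_, hw⟩
  rw [hw, map_zero, zero_mul, add_zero] at h
  exact (map_eq_zero _).mp h

/-- the components of the matrix of a vector -/
def sOf (θ : K) (v : (Fin 2 ⊕ Fin 2) ⊕ Fin 2 → F) : K :=
  algebraMap F K (v (.inl (.inl 0))) + algebraMap F K (v (.inl (.inl 1))) * θ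

/-- the `t`-component -/
def tOf (θ : K) (v : (Fin 2 ⊕ Fin 2) ⊕ Fin 2 → F) : K :=
  (θ * algebraMap F K (v (.inl (.inr 0))) - algebraMap F K (v (.inl (.inr 1)))) / (θ - cj q θ)

/-- the `γ`-component -/
def gOf (θ : K) (v : (Fin 2 ⊕ Fin 2) ⊕ Fin 2 → F) : K :=
  algebraMap F K (v (.inr 0)) + algebraMap F K (v (.inr 1)) * θ

/-- the matrix of a vector -/
def hvec (θ ε ε' σ : K) (v : (Fin 2 ⊕ Fin 2) ⊕ Fin 2 → F) : Matrix (Fin 4) (Fin 4) K :=
  hw q (sOf θ v + tOf q θ v * σ) (sOf θ v * ε + tOf q θ v * σ * ε') (gOf θ v)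

theorem cj_sOf (θ : K) (v : (Fin 2 ⊕ Fin 2) ⊕ Fin 2 → F) :
    cj q (sOf θ v) = algebraMap F K (v (.inl (.inl 0))) +
      algebraMap F K (v (.inl (.inl 1))) * cj q θ := by
  rw [sOf, map_add, map_mul, cj_algebraMap q hF.out, cj_algebraMap q hF.out]

theorem cj_gOf (θ : K) (v : (Fin 2 ⊕ Fin 2) ⊕ Fin 2 → F) :
    cj q (gOf θ v) = algebraMap F K (v (.inr 0)) + algebraMap F K (v (.inr 1)) * cj q θ := by
  rw [gOf, map_add, map_mul, cj_algebraMap q hF.out, cj_algebraMap q hF.out]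

theorem cj_tOf (θ : K) (v : (Fin 2 ⊕ Fin 2) ⊕ Fin 2 → F) :
    cj q (tOf q θ v) = (cj q θ * algebraMap F K (v (.inl (.inr 0))) -
      algebraMap F K (v (.inl (.inr 1)))) / (cj q θ - θ) := by
  rw [tOf, map_div₀, map_sub, map_sub, map_mul, cj_cj, cj_algebraMap q hF.out,
    cj_algebraMap q hF.out]

theorem norm_gOf {a b : F} {θ : K} (hθ : ThetaData q a b θ)
    (v : (Fin 2 ⊕ Fin 2) ⊕ Fin 2 → F) :
    gOf θ v * cj q (gOf θ v) = algebraMap F K (v (.inr 0) ^ 2 + a * v (.inr 0) * v (.inr 1) +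
      b * v (.inr 1) ^ 2) := by
  rw [cj_gOf, gOf]
  simp only [map_add, map_mul, map_pow]
  have h1 := hθ.sum
  have h2 := hθ.prod
  linear_combination (algebraMap F K (v (.inr 0)) * algebraMap F K (v (.inr 1))) * h1
    + (algebraMap F K (v (.inr 1))) ^ 2 * h2

theorem trace_st {a b : F} {θ : K} (hθ : ThetaData q a b θ)
    (v : (Fin 2 ⊕ Fin 2) ⊕ Fin 2 → F) :
    sOf θ v * cj q (tOf q θ v) + cj q (sOf θ v) * tOf q θ v =
      algebraMap F K (v (.inl (.inl 0)) * v (.inl (.inr 0)) + v (.inl (.inl 1)) * v (.inl (.inr 1))) := by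
  rw [cj_sOf, cj_tOf, sOf, tOf]
  simp only [map_add, map_mul]
  have hne : θ - cj q θ ≠ 0 := sub_ne_zero.mpr (Ne.symm hθ.ne)
  have hne' : cj q θ - θ ≠ 0 := sub_ne_zero.mpr hθ.ne
  field_simp
  ring

theorem norm_ab {ε ε' σ : K} (hε : EpsData q ε ε' σ) (s t : K) :
    (s + t * σ) * cj q (s + t * σ) + (s * ε + t * σ * ε') * cj q (s * ε + t * σ * ε') =
      s * cj q t + cj q s * t := by
  have hσ' : σ * (1 + cj q ε * ε') = 1 := by
    have := congrArg (cj q) hε.hσ
    rw [map_mul, map_add, map_mul, cj_cj, cj_cj, map_one] at this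
    exact this
  simp only [map_add, map_mul]
  linear_combination (s * cj q s) * hε.h1 + (t * cj q t * σ * cj q σ) * hε.h2
    + (s * cj q t) * hε.hσ + (t * cj q s) * hσ'

theorem pf_hvec {a b : F} {θ ε ε' σ : K} (hθ : ThetaData q a b θ) (hε : EpsData q ε ε' σ)
    (v : (Fin 2 ⊕ Fin 2) ⊕ Fin 2 → F) :
    pf (hvec q θ ε ε' σ v) = algebraMap F K (Cfsg.quadFormMinus 2 F a b v) := by
  rw [hvec, pf_hw, norm_ab q hε, trace_st q hθ, norm_gOf q hθ, ← map_add]
  congr 1
  simp [Cfsg.quadFormMinus, Fin.sum_univ_two]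

end Cfsg.Agent.helper17.O7
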