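import Mathlib
import Cfsg.Agent.Lib_helper17_O7c
import Cfsg.Agent.S0288

set_option autoImplicit false

/-!
# The linear equivalence `F⁶ ≃ WU` and the transfer of the isometry group
-/

namespace Cfsg.Agent.helper17.O7

open Matrix Cfsg.Agent.helper17.O6 Cfsg.Agent.helper17.O4m Cfsg.Agent.helper11.HermCount

variable {K : Type*} [Field K] [Fintype K] (q : ℕ) [hK : Fact (Fintype.card K = q ^ 2)]
variable {F : Type*} [Field F] [Fintype F] [Algebra F K] [hF : Fact (Fintype.card F = q)]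

omit [Fintype K] [Fintype F] in
theorem sOf_add (θ : K) (u v : (Fin 2 ⊕ Fin 2) ⊕ Fin 2 → F) :
    sOf θ (u + v) = sOf θ u + sOf θ v := by
  simp only [sOf, Pi.add_apply, map_add]
  ring

omit [Fintype K] [Fintype F] in
theorem sOf_smul (θ : K) (c : F) (v : (Fin 2 ⊕ Fin 2) ⊕ Fin 2 → F) :
    sOf θ (c • v) = algebraMap F K c * sOf θ v := by
  simp only [sOf, Pi.smul_apply, smul_eq_mul, map_mul]
  ring

omit [Fintype K] [Fintype F] in
theorem gOf_add (θ : K) (u v : (Fin 2 ⊕ Fin 2) ⊕ Fin 2 → F) :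
    gOf θ (u + v) = gOf θ u + gOf θ v := by
  simp only [gOf, Pi.add_apply, map_add]
  ring

omit [Fintype K] [Fintype F] in
theorem gOf_smul (θ : K) (c : F) (v : (Fin 2 ⊕ Fin 2) ⊕ Fin 2 → F) :
    gOf θ (c • v) = algebraMap F K c * gOf θ v := by
  simp only [gOf, Pi.smul_apply, smul_eq_mul, map_mul]
  ring

omit [Fintype F] hF in
theorem tOf_add (θ : K) (u v : (Fin 2 ⊕ Fin 2) ⊕ Fin 2 → F) :
    tOf q θ (u + v) = tOf q θ u + tOf q θ v := by
  simp only [tOf, Pi.add_apply, map_add]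
  ring

omit [Fintype F] hF in
theorem tOf_smul (θ : K) (c : F) (v : (Fin 2 ⊕ Fin 2) ⊕ Fin 2 → F) :
    tOf q θ (c • v) = algebraMap F K c * tOf q θ v := by
  simp only [tOf, Pi.smul_apply, smul_eq_mul, map_mul]
  ring

theorem hw_add (α β γ α' β' γ' : K) :
    hw q (α + α') (β + β') (γ + γ') = hw q α β γ + hw q α' β' γ' := by
  ext i j
  fin_cases i <;> fin_cases j <;> simp [hw, altMat] <;> ring

theorem hw_smul (c : F) (α β γ : K) :
    hw q (algebraMap F K c * α) (algebraMap F K c * β) (algebraMap F K c * γ) =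
      c • hw q α β γ := by
  rw [smul_eq_algebraMap_smul]
  ext i j
  fin_cases i <;> fin_cases j <;> simp [hw, altMat, cj_algebraMap q hF.out]

/-- `v ↦ hvec v` as a linear map into `WU` -/
def hvecLin (θ ε ε' σ : K) : ((Fin 2 ⊕ Fin 2) ⊕ Fin 2 → F) →ₗ[F] WU K q F where
  toFun v := ⟨hvec q θ ε ε' σ v, hw_mem q _ _ _⟩
  map_add' u v := by
    apply Subtype.ext
    change hvec q θ ε ε' σ (u + v) = hvec q θ ε ε' σ u + hvec q θ ε ε' σ v
    rw [hvec, hvec, hvec, ← hw_add, sOf_add, tOf_add, gOf_add]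
    congr 1 <;> ring
  map_smul' c v := by
    apply Subtype.ext
    change hvec q θ ε ε' σ (c • v) = c • hvec q θ ε ε' σ v
    rw [hvec, hvec, ← hw_smul, sOf_smul, tOf_smul, gOf_smul]
    congr 1 <;> ring

theorem hvecLin_injective {a b : F} {θ ε ε' σ : K} (hθ : ThetaData q a b θ)
    (hε : EpsData q ε ε' σ) : Function.Injective (hvecLin q (F := F) θ ε ε' σ) := by
  rw [← LinearMap.ker_eq_bot, LinearMap.ker_eq_bot']
  intro v hv
  have hv' : hvec q θ ε ε' σ v = 0 := congrArg Subtype.val hv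
  have h01 := congrFun (congrFun hv' 0) 1
  have h02 := congrFun (congrFun hv' 0) 2
  have h03 := congrFun (congrFun hv' 0) 3
  simp only [hvec, hw, altMat, of_apply, cons_val', cons_val_zero, cons_val_one, cons_val_two,
    cons_val_three, Matrix.zero_apply] at h01 h02 h03
  simp at h01 h02 h03
  have hσ0 : σ ≠ 0 := by
    intro h
    have := hε.hσ
    rw [h, map_zero, zero_mul] at this
    exact zero_ne_one this
  have hεne : ε' - ε ≠ 0 := sub_ne_zero.mpr (Ne.symm hε.hne)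
  have ht : tOf q θ v = 0 := by
    have : tOf q θ v * (σ * (ε' - ε)) = 0 := by linear_combination h02 - ε * h01
    rcases mul_eq_zero.mp this with h | h
    · exact h
    · exact absurd h (mul_ne_zero hσ0 hεne)
  have hs : sOf θ v = 0 := by
    rw [ht, zero_mul, add_zero] at h01
    exact h01
  have hne : θ - cj q θ ≠ 0 := sub_ne_zero.mpr (Ne.symm hθ.ne)
  have ht' : algebraMap F K (-v (.inl (.inr 1))) + algebraMap F K (v (.inl (.inr 0))) * θ = 0 := by
    rw [tOf, div_eq_zero_iff] at ht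
    rcases ht with h | h
    · rw [map_neg]
      linear_combination h
    · exact absurd h hne
  obtain ⟨x0, x1⟩ := indep_theta q hθ _ _ hs
  obtain ⟨y1, y0⟩ := indep_theta q hθ _ _ ht'
  obtain ⟨z0, z1⟩ := indep_theta q hθ _ _ h03
  ext i
  rcases i with (i | i) | i
  · fin_cases i
    · exact x0
    · exact x1
  · fin_cases i
    · exact y0
    · exact neg_eq_zero.mp y1
  · fin_cases i
    · exact z0
    · exact z1

/-- the linear equivalence `F⁶ ≃ WU` -/
noncomputable def eVWU {a b : F} {θ ε ε' σ : K} (hθ : ThetaData q a b θ)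
    (hε : EpsData q ε ε' σ) : ((Fin 2 ⊕ Fin 2) ⊕ Fin 2 → F) ≃ₗ[F] WU K q F :=
  LinearMap.linearEquivOfInjective (hvecLin q θ ε ε' σ) (hvecLin_injective q hθ hε) (by
    rw [finrank_WU K q F]
    simp)

theorem pf_eVWU {a b : F} {θ ε ε' σ : K} (hθ : ThetaData q a b θ) (hε : EpsData q ε ε' σ)
    (v : (Fin 2 ⊕ Fin 2) ⊕ Fin 2 → F) :
    pf (eVWU q hθ hε v).1 = algebraMap F K (Cfsg.quadFormMinus 2 F a b v) :=
  pf_hvec q hθ hε v

variable {a b : F} {θ ε ε' σ : K}

theorem mem_iso_iffU (hθ : ThetaData q a b θ) (hε : EpsData q ε ε' σ)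
    (g : GL ((Fin 2 ⊕ Fin 2) ⊕ Fin 2) F) :
    g ∈ Cfsg.isometryGroup F (Cfsg.quadFormMinus 2 F a b) ↔
      TTg (eVWU q hθ hε) g ∈ OWU K q F := by
  constructor
  · intro hg X
    rw [TTg_apply, pf_eVWU]
    have := hg ((eVWU q hθ hε).symm X) 0
    simp only [Units.coeHom_apply] at this
    rw [this, ← pf_eVWU q hθ hε]
    simp
  · intro hf u v
    simp only [Units.coeHom_apply]
    have := hf (eVWU q hθ hε u)
    rw [TTg_apply, pf_eVWU, pf_eVWU] at this
    simp only [LinearEquiv.symm_apply_apply] at this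
    exact (algebraMap F K).injective this

theorem map_TT_isoU (hθ : ThetaData q a b θ) (hε : EpsData q ε ε' σ) :
    (Cfsg.isometryGroup F (Cfsg.quadFormMinus 2 F a b)).map (TTg (eVWU q hθ hε)).toMonoidHom
      = OWU K q F := by
  ext f
  constructor
  · rintro ⟨g, hg, rfl⟩
    exact (mem_iso_iffU q hθ hε g).mp hg
  · intro hf
    refine ⟨(TTg (eVWU q hθ hε)).symm f, ?_, by simp⟩
    apply (mem_iso_iffU q hθ hε _).mpr
    simpa using hf

/-- the isometry group is isomorphic to `OWU` -/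
noncomputable def isoEquivU (hθ : ThetaData q a b θ) (hε : EpsData q ε ε' σ) :
    ↥(Cfsg.isometryGroup F (Cfsg.quadFormMinus 2 F a b)) ≃* ↥(OWU K q F) :=
  ((TTg (eVWU q hθ hε)).subgroupMap _).trans (MulEquiv.subgroupCongr (map_TT_isoU q hθ hε))

theorem card_OWU (hθ : ThetaData q a b θ) (hε : EpsData q ε ε' σ)
    (hab : ∀ z₁ z₂ : F, z₁ ^ 2 + a * z₁ * z₂ + b * z₂ ^ 2 = 0 → z₁ = 0 ∧ z₂ = 0) :
    Nat.card (OWU K q F) = 2 * (q ^ 6 * (q ^ 3 + 1) * ((q ^ 2 - 1) * (q ^ 4 - 1))) := by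
  rw [← Nat.card_congr (isoEquivU q hθ hε).toEquiv]
  have h := Cfsg.Agent.S0288.result (F := F) hF.out 3 (by norm_num) a b hab
  have h' : Nat.card (Cfsg.isometryGroup F (Cfsg.quadFormMinus 2 F a b)) = _ := h
  rw [h']
  simp [Finset.prod_range_succ]
  ring

end Cfsg.Agent.helper17.O7
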