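import Mathlib
import Cfsg.Agent.Lib_helper17_O7d
import Cfsg.Agent.S0278

set_option autoImplicit false

/-!
# Kernel and counting for the unitary similitude group acting on `WU`
-/

namespace Cfsg.Agent.helper17.O7

open Matrix Cfsg.Agent.helper17.O6 Cfsg.Agent.helper17.O4m Cfsg.Agent.helper11.HermCount
open Cfsg.Agent.helper11.Unitary

variable {K : Type*} [Field K] [Fintype K] (q : ℕ) [hK : Fact (Fintype.card K = q ^ 2)]
variable {F : Type*} [Field F] [Fintype F] [Algebra F K] [hF : Fact (Fintype.card F = q)]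

/-- if `p ∈ Γ_U` acts trivially on `WU` then it acts trivially on `AltW K` -/
theorem phi6_eq_id_of_phiGU {θ : K} (hθ : cj q θ ≠ θ) (p : GamU K q)
    (h : phiGU K q F p = 1) (X : AltW K) : phi6 p.1 X = X := by
  have hD : θ - cj q θ ≠ 0 := sub_ne_zero.mpr (Ne.symm hθ)
  have hc : cj q ((θ - cj q θ)⁻¹) = -(θ - cj q θ)⁻¹ := by
    rw [map_inv₀, map_sub, cj_cj, ← neg_sub, neg_inv]
  set Y₂ : Matrix (Fin 4) (Fin 4) K := (θ - cj q θ)⁻¹ • (X.1 - starM q X.1) with hY₂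
  set Y₁ : Matrix (Fin 4) (Fin 4) K := X.1 - θ • Y₂ with hY₁
  have hs2 : starM q Y₂ = Y₂ := by
    rw [hY₂, starM_smul, starM_sub, starM_starM q X.2, hc, neg_smul, ← smul_neg, neg_sub]
  have e : (θ - cj q θ) • Y₂ = X.1 - starM q X.1 := by
    rw [hY₂, smul_smul, mul_inv_cancel₀ hD, one_smul]
  have hs1 : starM q Y₁ = Y₁ := by
    rw [hY₁, starM_sub, starM_smul, hs2]
    have : X.1 - starM q X.1 = θ • Y₂ - cj q θ • Y₂ := by rw [← e, sub_smul]
    rw [sub_eq_sub_iff_add_eq_add]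
    rw [sub_eq_sub_iff_add_eq_add] at this
    rw [add_comm, this, add_comm]
  have hm2 : Y₂ ∈ AltW K :=
    (AltW K).smul_mem _ ((AltW K).sub_mem X.2 (starM_mem q X.1))
  have hm1 : Y₁ ∈ AltW K := (AltW K).sub_mem X.2 ((AltW K).smul_mem _ hm2)
  have hfix : ∀ (Y : Matrix (Fin 4) (Fin 4) K) (hY : Y ∈ AltW K), starM q Y = Y →
      phi6 p.1 ⟨Y, hY⟩ = ⟨Y, hY⟩ := by
    intro Y hY hsY
    have hmem : Y ∈ WU K q F := ⟨hY, hsY⟩
    have := congrArg (fun g : OWU K q F => (g.1 ⟨Y, hmem⟩).1) h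
    exact Subtype.ext this
  have hX : X = ⟨Y₁, hm1⟩ + θ • ⟨Y₂, hm2⟩ := by
    apply Subtype.ext
    change X.1 = Y₁ + θ • Y₂
    rw [hY₁]
    abel
  rw [hX, map_add, map_smul, hfix Y₁ hm1 hs1, hfix Y₂ hm2 hs2]

theorem GamU_scalar {θ : K} (hθ : cj q θ ≠ θ) (p : GamU K q) (h : phiGU K q F p = 1) :
    (p.1.2 : Matrix (Fin 4) (Fin 4) K) =
      Matrix.scalar (Fin 4) ((p.1.2 : Matrix (Fin 4) (Fin 4) K) 0 0) ∧
      (p.1.1 : K) * (p.1.2 : Matrix (Fin 4) (Fin 4) K) 0 0 ^ 2 = 1 ∧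
      (p.1.2 : Matrix (Fin 4) (Fin 4) K) 0 0 ^ (q + 1) = 1 := by
  have h1 := one_mem_scalar_fix (p := p.1) (phi6_eq_id_of_phiGU q (F := F) hθ p h)
  refine ⟨h1.1, h1.2, ?_⟩
  have h2 := gram' q p.1.2 p.2.1
  have h3 := congrFun (congrFun h2 0) 0
  rw [h1.1] at h3
  simp [Matrix.mul_apply, cjM_apply, cj_apply, Fin.sum_univ_four, Matrix.diagonal_apply] at h3
  rw [pow_succ']
  exact h3

theorem card_ker_phiGU_le {θ : K} (hθ : cj q θ ≠ θ) : Nat.card (phiGU K q F).ker ≤ q + 1 := by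
  have hne : ∀ x : (phiGU K q F).ker, (x.1.1.2 : Matrix (Fin 4) (Fin 4) K) 0 0 ≠ 0 := by
    intro x h0
    have := (GamU_scalar q hθ x.1 x.2).2.2
    rw [h0, zero_pow (by omega)] at this
    exact zero_ne_one this
  let κ : (phiGU K q F).ker → (powMonoidHom (q + 1) : Kˣ →* Kˣ).ker := fun x =>
    ⟨Units.mk0 _ (hne x), by
      rw [MonoidHom.mem_ker, powMonoidHom_apply]
      apply Units.ext
      rw [Units.val_pow_eq_pow_val, Units.val_mk0, Units.val_one]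
      exact (GamU_scalar q hθ x.1 x.2).2.2⟩
  have hκ : Function.Injective κ := by
    intro x y hxy
    have hxy' : (x.1.1.2 : Matrix (Fin 4) (Fin 4) K) 0 0 = (y.1.1.2 : Matrix (Fin 4) (Fin 4) K) 0 0 :=
      congrArg (fun u : (powMonoidHom (q + 1) : Kˣ →* Kˣ).ker => ((u : Kˣ) : K)) hxy
    have h2 : x.1.1.2 = y.1.1.2 :=
      Units.ext (by rw [(GamU_scalar q hθ x.1 x.2).1, (GamU_scalar q hθ y.1 y.2).1, hxy'])
    have h1 : x.1.1.1 = y.1.1.1 := by
      apply Units.ext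
      have e1 := (GamU_scalar q hθ x.1 x.2).2.1
      have e2 := (GamU_scalar q hθ y.1 y.2).2.1
      rw [hxy'] at e1
      have h3 : (y.1.1.2 : Matrix (Fin 4) (Fin 4) K) 0 0 ^ 2 ≠ 0 := pow_ne_zero _ (hne y)
      exact mul_right_cancel₀ h3 (e1.trans e2.symm)
    apply Subtype.ext
    apply Subtype.ext
    exact Prod.ext h1 h2
  have := Nat.card_le_card_of_injective κ hκ
  rwa [card_norm_ker hK.out] at this

variable (K)

/-- the multiplier `Γ_U → Kˣ` -/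
def nuU : GamU K q →* Kˣ := (MonoidHom.fst Kˣ (GL (Fin 4) K)).comp (GamU K q).subtype

variable {K}

theorem range_nuU : (nuU K q).range = (powMonoidHom (q + 1) : Kˣ →* Kˣ).ker := by
  ext c
  constructor
  · rintro ⟨p, rfl⟩
    exact p.2.2.1
  · intro hc
    rw [MonoidHom.mem_ker, powMonoidHom_apply] at hc
    have hl : ((c⁻¹ ^ 2 : Kˣ) : K) * ((c⁻¹ ^ 2 : Kˣ) : K) ^ q = 1 := by
      rw [← pow_succ', ← Units.val_pow_eq_pow_val, ← pow_mul, mul_comm, pow_mul, inv_pow, hc,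
        inv_one, one_pow, Units.val_one]
    let g : Cfsg.GU 4 K q := mkGU hK.out (dg (n := 3) ((c⁻¹ ^ 2 : Kˣ) : K)) (dg_preserves _ hl)
    have hdet : Matrix.GeneralLinearGroup.det g.1 = c⁻¹ ^ 2 := by
      apply Units.ext
      rw [Matrix.GeneralLinearGroup.val_det_apply]
      change (dg (n := 3) ((c⁻¹ ^ 2 : Kˣ) : K)).det = _
      rw [det_dg]
    refine ⟨⟨(c, g.1), g.2, hc, ?_⟩, rfl⟩
    rw [hdet, inv_pow, mul_inv_cancel]

theorem mem_GU_of_SU (s : Cfsg.SU 4 K q) :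
    Matrix.SpecialLinearGroup.toGL s.1 ∈ Cfsg.GU 4 K q := fun u v => s.2 u v

theorem SU_mem_GamU (s : Cfsg.SU 4 K q) :
    ((1 : Kˣ), Matrix.SpecialLinearGroup.toGL s.1) ∈ GamU K q := by
  refine ⟨mem_GU_of_SU q s, one_pow _, ?_⟩
  have : Matrix.GeneralLinearGroup.det (Matrix.SpecialLinearGroup.toGL s.1) = 1 := by
    ext
    simp
  rw [this, one_pow, one_mul]

theorem card_GamU_ge : Nat.card (Cfsg.SU 4 K q) * (q + 1) ≤ Nat.card (GamU K q) := by
  have h1 := Subgroup.card_mul_index (nuU K q).ker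
  rw [Subgroup.index_ker, range_nuU, card_norm_ker hK.out] at h1
  rw [← h1]
  apply Nat.mul_le_mul_right
  let κ : Cfsg.SU 4 K q → (nuU K q).ker := fun s => ⟨⟨_, SU_mem_GamU q s⟩, rfl⟩
  have hκ : Function.Injective κ := by
    intro s t hst
    have := congrArg (fun x : (nuU K q).ker => x.1.1.2) hst
    exact Subtype.ext (Matrix.SpecialLinearGroup.toGL_injective this)
  haveI : Finite (nuU K q).ker := by
    haveI : Finite (Kˣ × GL (Fin 4) K) := inferInstance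
    infer_instance
  exact Nat.card_le_card_of_injective κ hκ

theorem card_SU4_le_range {θ : K} (hθ : cj q θ ≠ θ) :
    Nat.card (Cfsg.SU 4 K q) ≤ Nat.card (phiGU K q F).range := by
  have h1 := Subgroup.card_mul_index (phiGU K q F).ker
  rw [Subgroup.index_ker] at h1
  have h3 := card_ker_phiGU_le q (F := F) hθ
  have h4 := card_GamU_ge (K := K) q
  have h5 : Nat.card (Cfsg.SU 4 K q) * (q + 1) ≤ Nat.card (phiGU K q F).range * (q + 1) := by
    calc Nat.card (Cfsg.SU 4 K q) * (q + 1) ≤ Nat.card (GamU K q) := h4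
      _ = Nat.card (phiGU K q F).ker * Nat.card (phiGU K q F).range := h1.symm
      _ ≤ (q + 1) * Nat.card (phiGU K q F).range := Nat.mul_le_mul_right _ h3
      _ = Nat.card (phiGU K q F).range * (q + 1) := mul_comm _ _
  exact Nat.le_of_mul_le_mul_right h5 (by omega)

theorem card_SU4 : (q + 1) * Nat.card (Cfsg.SU 4 K q) =
    (q + 1) * (q ^ 6 * (q ^ 3 + 1) * ((q ^ 2 - 1) * (q ^ 4 - 1))) := by
  rw [Cfsg.Agent.S0278.result (F := K) hK.out 4 (by norm_num)]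
  simp [Finset.prod_range_succ, Nat.even_add_one]
  ring

variable {a b : F} {θ ε ε' σ : K}

theorem card_OWU_eq (hθ : ThetaData q a b θ) (hε : EpsData q ε ε' σ)
    (hab : ∀ z₁ z₂ : F, z₁ ^ 2 + a * z₁ * z₂ + b * z₂ ^ 2 = 0 → z₁ = 0 ∧ z₂ = 0) :
    Nat.card (OWU K q F) = 2 * Nat.card (Cfsg.SU 4 K q) := by
  rw [card_OWU q hθ hε hab]
  have := Nat.eq_of_mul_eq_mul_left (by omega : 0 < q + 1) (card_SU4 (K := K) q)
  rw [this]

variable (K F)

/-- `SU₄ → O(WU)` -/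
def psiU : Cfsg.SU 4 K q →* OWU K q F :=
  (phiGU K q F).comp
    (((MonoidHom.inr Kˣ (GL (Fin 4) K)).comp
      (Matrix.SpecialLinearGroup.toGL.comp (Cfsg.SU 4 K q).subtype)).codRestrict (GamU K q)
        (fun s => SU_mem_GamU q s))

variable {K F}

theorem psiU_ker_scalar (hθ : cj q θ ≠ θ) {s : Cfsg.SU 4 K q} (hs : psiU K q F s = 1) :
    (s.1 : Matrix (Fin 4) (Fin 4) K) =
      Matrix.scalar (Fin 4) ((s.1 : Matrix (Fin 4) (Fin 4) K) 0 0) ∧
      (s.1 : Matrix (Fin 4) (Fin 4) K) 0 0 ^ 2 = 1 := by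
  have h := GamU_scalar q (F := F) hθ ⟨_, SU_mem_GamU q s⟩ hs
  refine ⟨h.1, ?_⟩
  have h2 := h.2.1
  simp only [Units.val_one, one_mul] at h2
  exact h2

theorem card_ker_psiU_le (hθ : cj q θ ≠ θ) : Nat.card (psiU K q F).ker ≤ 2 := by
  let κ : (psiU K q F).ker → {x : K // x ^ 2 = 1} := fun s =>
    ⟨(s.1.1 : Matrix (Fin 4) (Fin 4) K) 0 0, (psiU_ker_scalar q hθ s.2).2⟩
  have hκ : Function.Injective κ := by
    intro s t hst
    have h1 : (s.1.1 : Matrix (Fin 4) (Fin 4) K) 0 0 = (t.1.1 : Matrix (Fin 4) (Fin 4) K) 0 0 :=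
      congrArg Subtype.val hst
    apply Subtype.ext
    apply Subtype.ext
    apply Subtype.ext
    rw [(psiU_ker_scalar q hθ s.2).1, (psiU_ker_scalar q hθ t.2).1, h1]
  exact (Nat.card_le_card_of_injective κ hκ).trans card_sq_one_le

end Cfsg.Agent.helper17.O7
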