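import Mathlib
import Cfsg.Agent.Lib_helper17_O7e
import Cfsg.Agent.Lib_helper29_USimple

set_option autoImplicit false

/-!
# `[O,O] = ψ(SU₄)` for the isometry group of `(WU, pf)`
-/

namespace Cfsg.Agent.helper17.O7

open Matrix Cfsg.Agent.helper17.O6 Cfsg.Agent.helper17.O4m Cfsg.Agent.helper11.HermCount
open scoped commutatorElement

variable {K : Type*} [Field K] [Fintype K] (q : ℕ) [hK : Fact (Fintype.card K = q ^ 2)]
variable {F : Type*} [Field F] [Fintype F] [Algebra F K] [hF : Fact (Fintype.card F = q)]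
variable {a b : F} {θ ε ε' σ : K}

theorem SU4_perfect : commutator (Cfsg.SU 4 K q) = ⊤ :=
  Cfsg.Agent.helper29.SU_perfect hK.out (by norm_num) (by omega)

theorem range_psiU_le : (psiU K q F).range ≤ (phiGU K q F).range := by
  rintro _ ⟨s, rfl⟩
  exact ⟨_, rfl⟩

theorem commutator_range_phiGU_le :
    (⁅(phiGU K q F).range, (phiGU K q F).range⁆ : Subgroup (OWU K q F)) ≤ (psiU K q F).range := by
  rw [Subgroup.commutator_le]
  rintro _ ⟨x, rfl⟩ _ ⟨y, rfl⟩
  rw [← map_commutatorElement]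
  have h1 : ((⁅x, y⁆ : GamU K q) : Kˣ × GL (Fin 4) K) = ((1 : Kˣ), ⁅x.1.2, y.1.2⁆) := by
    apply Prod.ext
    · change ⁅x.1.1, y.1.1⁆ = 1
      exact commutatorElement_eq_one_iff_commute.mpr (Commute.all _ _)
    · rfl
  have hmem : ((1 : Kˣ), ⁅x.1.2, y.1.2⁆) ∈ GamU K q := by
    rw [← h1]
    exact (⁅x, y⁆ : GamU K q).2
  have hdet : ((⁅x.1.2, y.1.2⁆ : GL (Fin 4) K) : Matrix (Fin 4) (Fin 4) K).det = 1 := by
    have h2 : Matrix.GeneralLinearGroup.det ⁅x.1.2, y.1.2⁆ = 1 := by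
      rw [map_commutatorElement]
      exact commutatorElement_eq_one_iff_commute.mpr (Commute.all _ _)
    have := congrArg Units.val h2
    rw [Matrix.GeneralLinearGroup.val_det_apply, Units.val_one] at this
    exact this
  let s0 : Matrix.SpecialLinearGroup (Fin 4) K :=
    ⟨((⁅x.1.2, y.1.2⁆ : GL (Fin 4) K) : Matrix (Fin 4) (Fin 4) K), hdet⟩
  have hs0 : s0 ∈ Cfsg.SU 4 K q := fun u v => hmem.1 u v
  refine ⟨⟨s0, hs0⟩, ?_⟩
  change phiGU K q F ⟨((1 : Kˣ), Matrix.SpecialLinearGroup.toGL s0), _⟩ = phiGU K q F ⁅x, y⁆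
  congr 1
  apply Subtype.ext
  rw [h1]
  exact Prod.ext rfl (Units.ext rfl)

theorem commutator_range_phiGU :
    (⁅(phiGU K q F).range, (phiGU K q F).range⁆ : Subgroup (OWU K q F)) = (psiU K q F).range := by
  apply le_antisymm (commutator_range_phiGU_le q)
  have h1 : (psiU K q F).range = (commutator (Cfsg.SU 4 K q)).map (psiU K q F) := by
    rw [SU4_perfect q, ← MonoidHom.range_eq_map]
  rw [h1, commutator_def, Subgroup.map_commutator, ← MonoidHom.range_eq_map]
  exact Subgroup.commutator_mono (range_psiU_le q) (range_psiU_le q)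

theorem finite_OWU (hθ : ThetaData q a b θ) (hε : EpsData q ε ε' σ)
    (hab : ∀ z₁ z₂ : F, z₁ ^ 2 + a * z₁ * z₂ + b * z₂ ^ 2 = 0 → z₁ = 0 ∧ z₂ = 0) :
    Finite (OWU K q F) := by
  apply Nat.finite_of_card_ne_zero
  rw [card_OWU_eq q hθ hε hab]
  have : 0 < Nat.card (Cfsg.SU 4 K q) := Nat.card_pos
  omega

theorem range_psiU_eq (hθ : ThetaData q a b θ) (hε : EpsData q ε ε' σ)
    (hab : ∀ z₁ z₂ : F, z₁ ^ 2 + a * z₁ * z₂ + b * z₂ ^ 2 = 0 → z₁ = 0 ∧ z₂ = 0) :
    (psiU K q F).range = commutator (OWU K q F) := by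
  haveI := finite_OWU q hθ hε hab
  rw [← commutator_range_phiGU q]
  symm
  apply commutator_eq_of_card
  · rw [card_OWU_eq q hθ hε hab]
    have := card_SU4_le_range (F := F) q hθ.ne
    omega
  · rw [commutator_range_phiGU q, card_OWU_eq q hθ hε hab]
    have h1 := Subgroup.card_mul_index (psiU K q F).ker
    rw [Subgroup.index_ker] at h1
    have h3 := card_ker_psiU_le (F := F) q hθ.ne
    rw [← h1]
    have : Nat.card (psiU K q F).ker * Nat.card (psiU K q F).range ≤
        2 * Nat.card (psiU K q F).range := Nat.mul_le_mul_right _ h3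
    omega

theorem psiU_ker_center (hθ : cj q θ ≠ θ) {z : Cfsg.SU 4 K q} (hz : psiU K q F z = 1) :
    z ∈ Subgroup.center (Cfsg.SU 4 K q) := by
  rw [Subgroup.mem_center_iff]
  intro g
  apply Subtype.ext
  apply Subtype.ext
  change (g.1 : Matrix (Fin 4) (Fin 4) K) * (z.1 : Matrix (Fin 4) (Fin 4) K) =
    (z.1 : Matrix (Fin 4) (Fin 4) K) * (g.1 : Matrix (Fin 4) (Fin 4) K)
  rw [(psiU_ker_scalar q hθ hz).1]
  exact ((Matrix.scalar_commute _ (fun r => Commute.all _ r) _).eq).symm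

theorem psiU_central (hθ : cj q θ ≠ θ) (h : Cfsg.SU 4 K q) :
    h ∈ Subgroup.center (Cfsg.SU 4 K q) ↔
      ∀ h', psiU K q F h' * psiU K q F h = psiU K q F h * psiU K q F h' := by
  constructor
  · intro h1 h'
    rw [← map_mul, ← map_mul]
    congr 1
    exact Subgroup.mem_center_iff.mp h1 h'
  · intro hc
    exact mem_center_of_perfect (SU4_perfect q) (psiU K q F)
      (fun z hz => psiU_ker_center q hθ hz) h hc

end Cfsg.Agent.helper17.O7
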