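import Mathlib

set_option autoImplicit false
set_option linter.unusedSectionVars false

/-!
# The subgroups `SL₂ ≀ Sym(n)` data inside `Sp_{2n}`
-/

namespace Cfsg.Agent.helper17.SpR

open Matrix

variable {F : Type*} [Field F] {l : Type*} [Fintype l] [DecidableEq l]

/-- block matrix with diagonal blocks -/
def bd (a b c d : l → F) : Matrix (l ⊕ l) (l ⊕ l) F :=
  fromBlocks (diagonal a) (diagonal b) (diagonal c) (diagonal d)

theorem bd_mul (a b c d a' b' c' d' : l → F) :
    bd a b c d * bd a' b' c' d' =
      bd (fun i => a i * a' i + b i * c' i) (fun i => a i * b' i + b i * d' i)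
        (fun i => c i * a' i + d i * c' i) (fun i => c i * b' i + d i * d' i) := by
  unfold bd
  rw [fromBlocks_multiply]
  simp only [diagonal_mul_diagonal, diagonal_add]

theorem bd_injective {a b c d a' b' c' d' : l → F} (h : bd a b c d = bd a' b' c' d') :
    a = a' ∧ b = b' ∧ c = c' ∧ d = d' := by
  unfold bd at h
  rw [fromBlocks_inj] at h
  exact ⟨diagonal_injective h.1, diagonal_injective h.2.1, diagonal_injective h.2.2.1,
    diagonal_injective h.2.2.2⟩

theorem J_eq_bd : J l F = bd (fun _ => 0) (fun _ => -1) (fun _ => 1) (fun _ => 0) := by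
  ext (i | i) (j | j) <;> simp [bd, J, diagonal_apply, one_apply]
  split_ifs <;> simp

theorem bd_transpose (a b c d : l → F) : (bd a b c d)ᵀ = bd a c b d := by
  unfold bd
  rw [fromBlocks_transpose]
  simp only [diagonal_transpose]

theorem bd_mem {a b c d : l → F} (h : ∀ i, a i * d i - b i * c i = 1) :
    bd a b c d ∈ symplecticGroup l F := by
  rw [SymplecticGroup.mem_iff, bd_transpose, J_eq_bd, bd_mul, bd_mul]
  congr 1 <;> funext i
  · ring
  · linear_combination -(h i)
  · linear_combination (h i)
  · ring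

theorem bd_one : bd (fun _ => (1 : F)) (fun _ => 0) (fun _ => 0) (fun _ : l => 1) = 1 := by
  ext (i | i) (j | j) <;> simp [bd, diagonal_apply, one_apply]

/-- `SL₂ⁿ → Sp_{2n}` -/
def beta : (l → SpecialLinearGroup (Fin 2) F) →* symplecticGroup l F where
  toFun g := ⟨bd (fun i => (g i).1 0 0) (fun i => (g i).1 0 1) (fun i => (g i).1 1 0)
      (fun i => (g i).1 1 1), bd_mem (fun i => by
        have := (g i).2
        rw [det_fin_two] at this
        exact this)⟩
  map_one' := by
    apply Subtype.ext
    show bd _ _ _ _ = 1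
    rw [← bd_one]
    congr 1
  map_mul' g h := by
    apply Subtype.ext
    show bd _ _ _ _ = bd _ _ _ _ * bd _ _ _ _
    rw [bd_mul]
    congr 1 <;> funext i <;>
      simp [Matrix.mul_apply, Fin.sum_univ_two]

theorem beta_injective : Function.Injective (beta (F := F) (l := l)) := by
  intro g h hgh
  have h1 := congrArg Subtype.val hgh
  obtain ⟨h00, h01, h10, h11⟩ := bd_injective h1
  funext k
  apply Subtype.ext
  ext i j
  fin_cases i <;> fin_cases j
  · exact congrFun h00 k
  · exact congrFun h01 k
  · exact congrFun h10 k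
  · exact congrFun h11 k

theorem unit_cast_mul_self (e : ℤˣ) : (((e : ℤ) : F)) * ((e : ℤ) : F) = 1 := by
  rcases Int.units_eq_one_or e with h | h <;> simp [h]

/-- `{±1}ⁿ → Sp_{2n}` -/
def delta : (l → ℤˣ) →* symplecticGroup l F where
  toFun e := ⟨bd (fun i => ((e i : ℤ) : F)) (fun _ => 0) (fun _ => 0) (fun i => ((e i : ℤ) : F)),
    bd_mem (fun i => by rw [unit_cast_mul_self]; ring)⟩
  map_one' := by
    apply Subtype.ext
    show bd _ _ _ _ = 1
    rw [← bd_one]
    congr 1 <;> funext i <;> simp
  map_mul' g h := by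
    apply Subtype.ext
    show bd _ _ _ _ = bd _ _ _ _ * bd _ _ _ _
    rw [bd_mul]
    congr 1 <;> funext i <;> simp

theorem delta_injective (h2 : (2 : F) ≠ 0) : Function.Injective (delta (F := F) (l := l)) := by
  intro g h hgh
  have h1 := congrArg Subtype.val hgh
  obtain ⟨h00, -, -, -⟩ := bd_injective h1
  funext k
  have h3 := congrFun h00 k
  rcases Int.units_eq_one_or (g k) with hg | hg <;> rcases Int.units_eq_one_or (h k) with hh | hh
  · rw [hg, hh]
  · exfalso
    rw [hg, hh] at h3
    apply h2
    simp at h3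
    linear_combination h3
  · exfalso
    rw [hg, hh] at h3
    apply h2
    simp at h3
    linear_combination -h3
  · rw [hg, hh]

theorem delta_sq (e : l → ℤˣ) : delta (F := F) e * delta e = 1 := by
  rw [← map_mul]
  have : e * e = 1 := by
    funext i
    exact Int.units_mul_self (e i)
  rw [this, map_one]

theorem delta_comm_beta (e : l → ℤˣ) (g : l → SpecialLinearGroup (Fin 2) F) :
    beta g * delta e = delta e * beta g := by
  apply Subtype.ext
  show bd _ _ _ _ * bd _ _ _ _ = bd _ _ _ _ * bd _ _ _ _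
  rw [bd_mul, bd_mul]
  congr 1 <;> funext i <;> ring

/-- permutation matrices -/
def pm (σ : Equiv.Perm l) : Matrix l l F := Matrix.of fun i j => if i = σ j then 1 else 0

theorem pm_mul (σ τ : Equiv.Perm l) : pm (F := F) (σ * τ) = pm σ * pm τ := by
  ext i j
  simp only [pm, Matrix.mul_apply, of_apply, Equiv.Perm.coe_mul, Function.comp_apply, mul_ite,
    mul_one, mul_zero]
  rw [Finset.sum_eq_single (τ j)]
  · simp only [if_true]
    rfl
  · intro b _ hb
    simp [hb]
  · simp

theorem pm_one : pm (F := F) (1 : Equiv.Perm l) = 1 := by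
  ext i j
  simp only [pm, one_apply, of_apply]
  rfl

theorem pm_transpose (σ : Equiv.Perm l) : (pm (F := F) σ)ᵀ = pm σ⁻¹ := by
  ext i j
  simp only [pm, transpose_apply, of_apply]
  have : j = σ i ↔ i = σ⁻¹ j := by
    rw [Equiv.Perm.eq_inv_iff_eq]
    exact eq_comm
  simp only [this]

theorem pm_mul_diagonal (σ : Equiv.Perm l) (e : l → F) :
    pm σ * diagonal e = diagonal (fun i => e (σ⁻¹ i)) * pm σ := by
  ext i j
  rw [mul_diagonal, diagonal_mul]
  simp only [pm, of_apply]
  by_cases h : i = σ j
  · subst h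
    simp
  · simp [h]

/-- `Sym(n) → Sp_{2n}` -/
def perm : Equiv.Perm l →* symplecticGroup l F where
  toFun σ := ⟨fromBlocks (pm σ) 0 0 (pm σ), by
    rw [SymplecticGroup.mem_iff, J, fromBlocks_transpose, fromBlocks_multiply,
      fromBlocks_multiply]
    simp [pm_transpose, ← pm_mul, pm_one]⟩
  map_one' := by
    apply Subtype.ext
    show fromBlocks (pm 1) 0 0 (pm 1) = 1
    rw [pm_one, fromBlocks_one]
  map_mul' σ τ := by
    apply Subtype.ext
    show fromBlocks _ 0 0 _ = fromBlocks _ 0 0 _ * fromBlocks _ 0 0 _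
    rw [fromBlocks_multiply]
    simp [pm_mul]

theorem perm_mul_delta (σ : Equiv.Perm l) (e : l → ℤˣ) :
    perm (F := F) σ * delta e = delta (fun i => e (σ⁻¹ i)) * perm σ := by
  apply Subtype.ext
  show fromBlocks _ 0 0 _ * bd _ _ _ _ = bd _ _ _ _ * fromBlocks _ 0 0 _
  unfold bd
  rw [fromBlocks_multiply, fromBlocks_multiply]
  simp [pm_mul_diagonal]

theorem perm_injective : Function.Injective (perm (F := F) (l := l)) := by
  intro σ τ h
  have h1 := congrArg Subtype.val h
  have h2 : fromBlocks (pm (F := F) σ) 0 0 (pm σ) = fromBlocks (pm τ) 0 0 (pm τ) := h1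
  rw [fromBlocks_inj] at h2
  ext j
  have h3 := congrFun (congrFun h2.1 (σ j)) j
  simp only [pm, of_apply, if_true] at h3
  by_contra hne
  rw [if_neg hne] at h3
  exact one_ne_zero h3

end Cfsg.Agent.helper17.SpR
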