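import Mathlib

set_option autoImplicit false

/-!
Sylow `p`-subgroups of symmetric and alternating groups are generated by elements of order `p`
(so their abelianizations are elementary abelian).  Construction: `C_p wr H` on `α × ZMod p`.
-/

namespace Cfsg.Agent.helper9.SylSym

open Equiv

/-- `W` is generated by its elements of order dividing `p`. -/
def Gen {G : Type*} [Group G] (p : ℕ) (W : Subgroup G) : Prop :=
  W ≤ Subgroup.closure {x | x ∈ W ∧ x ^ p = 1}

theorem gen_map {G G' : Type*} [Group G] [Group G'] (p : ℕ) (W : Subgroup G) (f : G →* G')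
    (h : Gen p W) : Gen p (W.map f) := by
  unfold Gen at *
  calc W.map f ≤ (Subgroup.closure {x | x ∈ W ∧ x ^ p = 1}).map f := Subgroup.map_mono h
    _ = Subgroup.closure (f '' {x | x ∈ W ∧ x ^ p = 1}) := MonoidHom.map_closure f _
    _ ≤ _ := by
      apply Subgroup.closure_mono
      rintro _ ⟨x, ⟨hxW, hxp⟩, rfl⟩
      exact ⟨Subgroup.mem_map_of_mem f hxW, by rw [← map_pow, hxp, map_one]⟩

theorem gen_of_pow_eq_one {G : Type*} [Group G] (p : ℕ) (W : Subgroup G)
    (h : ∀ x ∈ W, x ^ p = 1) : Gen p W := by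
  intro x hx
  exact Subgroup.subset_closure ⟨hx, h x hx⟩

theorem gen_sup {G : Type*} [Group G] (p : ℕ) (B H : Subgroup G) (hB : Gen p B) (hH : Gen p H) :
    Gen p (B ⊔ H) := by
  unfold Gen at *
  refine sup_le (hB.trans ?_) (hH.trans ?_)
  · apply Subgroup.closure_mono
    rintro x ⟨hx, hxp⟩
    exact ⟨(le_sup_left : B ≤ B ⊔ H) hx, hxp⟩
  · apply Subgroup.closure_mono
    rintro x ⟨hx, hxp⟩
    exact ⟨(le_sup_right : H ≤ B ⊔ H) hx, hxp⟩

theorem gen_subgroupOf {G : Type*} [Group G] (p : ℕ) (W A : Subgroup G) (hWA : W ≤ A)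
    (h : Gen p W) : Gen p (W.subgroupOf A) := by
  intro x hx
  have hx' : (x : G) ∈ W := Subgroup.mem_subgroupOf.mp hx
  have h1 : Subgroup.closure {y : G | y ∈ W ∧ y ^ p = 1} ≤
      (Subgroup.closure {y : A | y ∈ W.subgroupOf A ∧ y ^ p = 1}).map A.subtype := by
    rw [Subgroup.closure_le]
    rintro y ⟨hyW, hyp⟩
    refine ⟨⟨y, hWA hyW⟩, Subgroup.subset_closure ⟨?_, ?_⟩, rfl⟩
    · exact Subgroup.mem_subgroupOf.mpr hyW
    · apply Subtype.ext
      simpa using hyp
  obtain ⟨z, hz, hzx⟩ := h1 (h hx')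
  have hzx' : z = x := Subtype.ext hzx
  exact hzx' ▸ hz

theorem pow_mem_commutator_of_gen {G : Type*} [Group G] (p : ℕ) (W : Subgroup G)
    (h : Gen p W) (x : W) : x ^ p ∈ commutator W := by
  let φ : W →* Abelianization W := Abelianization.of
  let ψ : W →* Abelianization W := (powMonoidHom p).comp φ
  have hker : ∀ y : W, y ∈ ψ.ker → y ^ p ∈ commutator W := by
    intro y hy
    rw [MonoidHom.mem_ker] at hy
    have h2 : φ (y ^ p) = 1 := by
      rw [map_pow]; exact hy
    rw [← Abelianization.ker_of W]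
    exact h2
  apply hker
  have hx : (x : G) ∈ Subgroup.closure {x | x ∈ W ∧ x ^ p = 1} := h x.2
  have h3 : Subgroup.closure {x | x ∈ W ∧ x ^ p = 1} ≤ (ψ.ker).map W.subtype := by
    rw [Subgroup.closure_le]
    rintro y ⟨hyW, hyp⟩
    refine ⟨⟨y, hyW⟩, ?_, rfl⟩
    show ψ ⟨y, hyW⟩ = 1
    have h4 : (⟨y, hyW⟩ : W) ^ p = 1 := by
      apply Subtype.ext
      simpa using hyp
    show (φ ⟨y, hyW⟩) ^ p = 1
    rw [← map_pow, h4, map_one]
  obtain ⟨z, hz, hzx⟩ := h3 hx
  have hzx' : z = x := Subtype.ext hzx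
  exact hzx' ▸ hz

theorem sylow_of_gen {G : Type*} [Group G] [Finite G] (p : ℕ) [Fact p.Prime] (W : Subgroup G)
    (hW : IsPGroup p W) (hG : Gen p W) (hc : p ^ (Nat.card G).factorization p ≤ Nat.card W)
    (P : Sylow p G) (x : (P : Subgroup G)) : x ^ p ∈ commutator (P : Subgroup G) := by
  obtain ⟨P0, hP0⟩ := hW.exists_le_sylow
  have hWP0 : W = (P0 : Subgroup G) := by
    apply Subgroup.eq_of_le_of_card_ge hP0
    rw [Sylow.card_eq_multiplicity]; exact hc
  obtain ⟨g, hg⟩ := MulAction.exists_smul_eq G P0 P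
  have hP : (P : Subgroup G) = (P0 : Subgroup G).map (MulAut.conj g).toMonoidHom := by
    rw [← hg, Sylow.coe_subgroup_smul, Subgroup.pointwise_smul_def]
    rfl
  have hgen : Gen p (P : Subgroup G) := by
    rw [hP, ← hWP0]; exact gen_map p W _ hG
  exact pow_mem_commutator_of_gen p _ hgen x

theorem join_props {G : Type*} [Group G] [Finite G] (p : ℕ) [Fact p.Prime] (B H : Subgroup G)
    (hn : H ≤ Subgroup.normalizer (B : Set G)) (hd : Disjoint B H) (hB : IsPGroup p B) (hH : IsPGroup p H)
    (gB : Gen p B) (gH : Gen p H) :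
    IsPGroup p (B ⊔ H : Subgroup G) ∧ Gen p (B ⊔ H) ∧
      Nat.card B * Nat.card H ≤ Nat.card (B ⊔ H : Subgroup G) := by
  refine ⟨hB.to_sup_of_normal_left' hH hn, gen_sup p B H gB gH, ?_⟩
  rw [← Nat.card_prod]
  let f : B × H → (B ⊔ H : Subgroup G) :=
    fun x => ⟨x.1 * x.2, Subgroup.mul_mem_sup x.1.2 x.2.2⟩
  apply Nat.card_le_card_of_injective f
  intro x y hxy
  apply Subgroup.mul_injective_of_disjoint hd
  exact congrArg Subtype.val hxy

theorem le_normalizer_inf_normal {G : Type*} [Group G] (B A : Subgroup G) [hA : A.Normal] :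
    Subgroup.normalizer (B : Set G) ≤ Subgroup.normalizer ((B ⊓ A : Subgroup G) : Set G) := by
  intro g hg
  rw [Subgroup.mem_normalizer_iff] at hg ⊢
  intro x
  rw [Subgroup.mem_inf, Subgroup.mem_inf, hg x]
  have h1 : x ∈ A ↔ g * x * g⁻¹ ∈ A := by
    constructor
    · intro hx; exact hA.conj_mem x hx g
    · intro hx
      have h2 := hA.conj_mem _ hx g⁻¹
      simpa [mul_assoc] using h2
  rw [h1]

section Wreath

set_option linter.unusedSectionVars false

variable (α : Type*) [Fintype α] [DecidableEq α] (p : ℕ) [Fact p.Prime]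

/-- the base group `C_p ^ α` acting on `α × ZMod p` -/
def bs : Multiplicative (α → ZMod p) →* Perm (α × ZMod p) where
  toFun f :=
    { toFun := fun x => (x.1, x.2 + Multiplicative.toAdd f x.1)
      invFun := fun x => (x.1, x.2 - Multiplicative.toAdd f x.1)
      left_inv := fun x => by simp
      right_inv := fun x => by simp }
  map_one' := by
    apply Equiv.ext
    intro x
    apply Prod.ext <;> simp
  map_mul' f g := by
    apply Equiv.ext
    intro x
    apply Prod.ext
    · simp
    · simp [add_comm, add_left_comm]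

/-- the top group `Perm α` acting on `α × ZMod p` -/
def tp : Perm α →* Perm (α × ZMod p) where
  toFun h := Equiv.prodCongr h (Equiv.refl _)
  map_one' := by
    apply Equiv.ext
    intro x
    apply Prod.ext <;> simp
  map_mul' f g := by
    apply Equiv.ext
    intro x
    apply Prod.ext <;> simp

theorem tp_apply (h : Perm α) (x : α × ZMod p) : tp α p h x = (h x.1, x.2) := rfl

theorem bs_apply (f : Multiplicative (α → ZMod p)) (x : α × ZMod p) :
    bs α p f x = (x.1, x.2 + Multiplicative.toAdd f x.1) := rfl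

theorem tp_injective : Function.Injective (tp α p) := by
  intro h k hhk
  apply Equiv.ext
  intro a
  have h1 := congrArg (fun e : Perm (α × ZMod p) => (e (a, (0 : ZMod p))).1) hhk
  simpa [tp_apply] using h1

theorem bs_injective : Function.Injective (bs α p) := by
  intro f g hfg
  apply Multiplicative.toAdd.injective
  funext a
  have h1 := congrArg (fun e : Perm (α × ZMod p) => (e (a, (0 : ZMod p))).2) hfg
  simpa [bs_apply] using h1

theorem bs_pow (f : Multiplicative (α → ZMod p)) : (bs α p f) ^ p = 1 := by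
  rw [← map_pow]
  have h1 : f ^ p = 1 := by
    apply Multiplicative.toAdd.injective
    rw [toAdd_pow, toAdd_one]
    funext a
    simp
  rw [h1, map_one]

theorem tp_conj_bs (h : Perm α) (f : Multiplicative (α → ZMod p)) :
    tp α p h * bs α p f * (tp α p h)⁻¹ =
      bs α p (Multiplicative.ofAdd (fun a => Multiplicative.toAdd f (h⁻¹ a))) := by
  rw [← map_inv]
  apply Equiv.ext
  intro x
  rw [Perm.mul_apply, Perm.mul_apply, tp_apply, bs_apply, tp_apply, bs_apply]
  apply Prod.ext
  · simp
  · simp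

theorem map_tp_le_normalizer (H : Subgroup (Perm α)) :
    H.map (tp α p) ≤ Subgroup.normalizer ((bs α p).range : Set (Perm (α × ZMod p))) := by
  rintro _ ⟨h, -, rfl⟩
  rw [Subgroup.mem_normalizer_iff]
  intro x
  constructor
  · rintro ⟨f, rfl⟩
    exact ⟨_, (tp_conj_bs α p h f).symm⟩
  · rintro ⟨f, hf⟩
    refine ⟨_, (tp_conj_bs α p h⁻¹ f).symm.trans ?_⟩
    rw [hf, map_inv]
    group

theorem disjoint_bs_tp (H : Subgroup (Perm α)) :
    Disjoint (bs α p).range (H.map (tp α p)) := by
  rw [Subgroup.disjoint_def]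
  rintro x ⟨f, rfl⟩ ⟨h, -, hh⟩
  have h1 : h = 1 := by
    apply Equiv.ext
    intro a
    have h2 := congrArg (fun e : Perm (α × ZMod p) => (e (a, (0 : ZMod p))).1) hh
    simpa [tp_apply, bs_apply] using h2
  rw [← hh, h1, map_one]

theorem card_bs_range : Nat.card (bs α p).range = p ^ Fintype.card α := by
  rw [Nat.card_congr (MonoidHom.ofInjective (bs_injective α p)).toEquiv.symm]
  rw [Nat.card_congr Multiplicative.toAdd]
  rw [Nat.card_fun, Nat.card_zmod, Nat.card_eq_fintype_card]

theorem sign_tp (h : Perm α) : Equiv.Perm.sign (tp α p h) = (Equiv.Perm.sign h) ^ p := by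
  have h1 : tp α p h = Equiv.prodCongrLeft (fun _ : ZMod p => h) := rfl
  rw [h1, Equiv.Perm.sign_prodCongrLeft, Finset.prod_const, Finset.card_univ, ZMod.card]

/-- existence of a `p`-subgroup of full `p`-power order generated by elements of order `p` -/
def Good (p : ℕ) (α : Type*) [Fintype α] [DecidableEq α] : Prop :=
  ∃ W : Subgroup (Perm α), IsPGroup p W ∧ Gen p W ∧
    p ^ padicValNat p (Fintype.card α).factorial ≤ Nat.card W

theorem isPGroup_bs_range : IsPGroup p (bs α p).range :=
  IsPGroup.of_card (card_bs_range α p)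

theorem good_step (h : Good p α) : Good p (α × ZMod p) := by
  obtain ⟨H, hH, gH, cH⟩ := h
  have hB : IsPGroup p (bs α p).range := isPGroup_bs_range α p
  have gB : Gen p (bs α p).range :=
    gen_of_pow_eq_one p _ (by rintro _ ⟨f, rfl⟩; exact bs_pow α p f)
  obtain ⟨h1, h2, h3⟩ := join_props p (bs α p).range (H.map (tp α p))
    (map_tp_le_normalizer α p H) (disjoint_bs_tp α p H) hB (hH.map _) gB (gen_map p H _ gH)
  refine ⟨_, h1, h2, le_trans ?_ h3⟩
  rw [card_bs_range, Subgroup.card_map_of_injective (tp_injective α p)]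
  have h4 : Fintype.card (α × ZMod p) = p * Fintype.card α := by
    rw [Fintype.card_prod, ZMod.card, mul_comm]
  rw [h4, padicValNat_factorial_mul, pow_add, mul_comm]
  exact Nat.mul_le_mul_left _ cH

end Wreath

theorem good_embed (p : ℕ) [Fact p.Prime] {α β : Type*} [Fintype α] [DecidableEq α] [Fintype β]
    [DecidableEq β] (ι : β ↪ α) (h : Good p β)
    (hv : padicValNat p (Fintype.card α).factorial = padicValNat p (Fintype.card β).factorial) :
    Good p α := by
  classical
  obtain ⟨H, hH, gH, cH⟩ := h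
  let φ : Perm β →* Perm α := Equiv.Perm.extendDomainHom ι.toEquivRange
  have hφ : Function.Injective φ := Equiv.Perm.extendDomainHom_injective _
  refine ⟨H.map φ, hH.map _, gen_map p H φ gH, ?_⟩
  rw [Subgroup.card_map_of_injective hφ, hv]; exact cH

theorem good_all (p : ℕ) [Fact p.Prime] (n : ℕ) : Good p (Fin n) := by
  induction n using Nat.strong_induction_on with
  | _ n ih =>
    rcases Nat.eq_zero_or_pos n with rfl | hn
    · refine ⟨⊥, IsPGroup.of_bot, gen_of_pow_eq_one p _ ?_, ?_⟩
      · intro x hx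
        rw [Subgroup.mem_bot] at hx
        rw [hx, one_pow]
      · simp
    · have hp := (Fact.out : p.Prime)
      have hm : n / p < n := Nat.div_lt_self hn hp.one_lt
      have h1 := good_step (Fin (n / p)) p (ih _ hm)
      have hcard : Fintype.card (Fin (n / p) × ZMod p) ≤ Fintype.card (Fin n) := by
        rw [Fintype.card_prod, ZMod.card, Fintype.card_fin, Fintype.card_fin]
        exact Nat.div_mul_le_self n p
      obtain ⟨ι⟩ := Function.Embedding.nonempty_of_card_le hcard
      apply good_embed p ι h1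
      rw [Fintype.card_prod, ZMod.card, Fintype.card_fin, Fintype.card_fin]
      conv_lhs => rw [← Nat.div_add_mod n p]
      rw [padicValNat_factorial_mul_add _ (Nat.mod_lt _ hp.pos), mul_comm]

/-! ### The alternating group -/

theorem card_le_two_mul_inf_alt {β : Type*} [Fintype β] [DecidableEq β] (B : Subgroup (Perm β)) :
    Nat.card B ≤ 2 * Nat.card (B ⊓ alternatingGroup β : Subgroup (Perm β)) := by
  let s : B →* ℤˣ := Equiv.Perm.sign.comp B.subtype
  have h1 : Nat.card s.ker * s.ker.index = Nat.card B := Subgroup.card_mul_index _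
  have h2 : s.ker.index ≤ 2 := by
    rw [Subgroup.index_ker]
    calc Nat.card s.range ≤ Nat.card ℤˣ := Nat.card_le_card_of_injective _ Subtype.val_injective
      _ = 2 := by rw [Nat.card_eq_fintype_card]; rfl
  have h3 : Nat.card s.ker = Nat.card (B ⊓ alternatingGroup β : Subgroup (Perm β)) := by
    have h4 : s.ker = (alternatingGroup β).subgroupOf B := by
      ext x
      rw [MonoidHom.mem_ker, Subgroup.mem_subgroupOf, Equiv.Perm.mem_alternatingGroup]
      rfl
    rw [h4, ← Subgroup.card_map_of_injective (Subgroup.subtype_injective B),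
      Subgroup.subgroupOf_map_subtype, inf_comm]
  rw [← h1, ← h3, mul_comm]
  exact Nat.mul_le_mul_right _ h2

/-- alternating version, with a factor `2` -/
def GoodA2 (p : ℕ) (α : Type*) [Fintype α] [DecidableEq α] : Prop :=
  ∃ W : Subgroup (Perm α), W ≤ alternatingGroup α ∧ IsPGroup p W ∧ Gen p W ∧
    p ^ padicValNat p (Fintype.card α).factorial ≤ 2 * Nat.card W

theorem goodA2_step (α : Type*) [Fintype α] [DecidableEq α] (p : ℕ) [Fact p.Prime] (hp2 : p = 2)
    (h : Good p α) : GoodA2 p (α × ZMod p) := by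
  obtain ⟨H, hH, gH, cH⟩ := h
  have hB : IsPGroup p (bs α p).range := isPGroup_bs_range α p
  have hB0 : IsPGroup p ((bs α p).range ⊓ alternatingGroup (α × ZMod p) : Subgroup _) :=
    hB.to_le inf_le_left
  have gB0 : Gen p ((bs α p).range ⊓ alternatingGroup (α × ZMod p) : Subgroup _) :=
    gen_of_pow_eq_one p _ (by
      rintro _ ⟨⟨f, rfl⟩, -⟩
      exact bs_pow α p f)
  obtain ⟨h1, h2, h3⟩ := join_props p
    ((bs α p).range ⊓ alternatingGroup (α × ZMod p) : Subgroup _) (H.map (tp α p))
    ((map_tp_le_normalizer α p H).trans (le_normalizer_inf_normal _ _))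
    ((disjoint_bs_tp α p H).mono_left inf_le_left) hB0 (hH.map _) gB0 (gen_map p H _ gH)
  refine ⟨_, ?_, h1, h2, ?_⟩
  · refine sup_le inf_le_right ?_
    rintro _ ⟨h, -, rfl⟩
    rw [Equiv.Perm.mem_alternatingGroup, sign_tp, hp2]
    rcases Int.units_eq_one_or (Equiv.Perm.sign h) with h5 | h5 <;> rw [h5] <;> decide
  · have h4 : Fintype.card (α × ZMod p) = p * Fintype.card α := by
      rw [Fintype.card_prod, ZMod.card, mul_comm]
    rw [h4, padicValNat_factorial_mul, pow_add]
    have h5 := card_le_two_mul_inf_alt (bs α p).range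
    rw [card_bs_range] at h5
    rw [Subgroup.card_map_of_injective (tp_injective α p)] at h3
    calc p ^ padicValNat p (Fintype.card α).factorial * p ^ Fintype.card α
        ≤ Nat.card H * (2 * Nat.card ((bs α p).range ⊓ alternatingGroup (α × ZMod p) :
            Subgroup _)) := Nat.mul_le_mul cH h5
      _ = 2 * (Nat.card ((bs α p).range ⊓ alternatingGroup (α × ZMod p) : Subgroup _)
            * Nat.card H) := by ring
      _ ≤ _ := Nat.mul_le_mul_left _ h3

theorem goodA2_embed (p : ℕ) [Fact p.Prime] {α β : Type*} [Fintype α] [DecidableEq α] [Fintype β]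
    [DecidableEq β] (ι : β ↪ α) (h : GoodA2 p β)
    (hv : padicValNat p (Fintype.card α).factorial = padicValNat p (Fintype.card β).factorial) :
    GoodA2 p α := by
  classical
  obtain ⟨H, hA, hH, gH, cH⟩ := h
  let φ : Perm β →* Perm α := Equiv.Perm.extendDomainHom ι.toEquivRange
  have hφ : Function.Injective φ := Equiv.Perm.extendDomainHom_injective _
  refine ⟨H.map φ, ?_, hH.map _, gen_map p H φ gH, ?_⟩
  · rintro _ ⟨x, hx, rfl⟩
    rw [Equiv.Perm.mem_alternatingGroup]
    show Equiv.Perm.sign (Equiv.Perm.extendDomain x ι.toEquivRange) = 1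
    rw [Equiv.Perm.sign_extendDomain]
    exact Equiv.Perm.mem_alternatingGroup.mp (hA hx)
  · rw [Subgroup.card_map_of_injective hφ, hv]; exact cH

/-- final alternating version -/
def GoodA (p : ℕ) (α : Type*) [Fintype α] [DecidableEq α] : Prop :=
  ∃ W : Subgroup (Perm α), W ≤ alternatingGroup α ∧ IsPGroup p W ∧ Gen p W ∧
    p ^ (Nat.card (alternatingGroup α)).factorization p ≤ Nat.card W

theorem goodA_of_odd (p : ℕ) [Fact p.Prime] (hp2 : p ≠ 2) (n : ℕ) : GoodA p (Fin n) := by
  have hp := (Fact.out : p.Prime)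
  obtain ⟨W, hW, gW, cW⟩ := good_all p n
  refine ⟨W, ?_, hW, gW, le_trans ?_ cW⟩
  · intro x hx
    rw [Equiv.Perm.mem_alternatingGroup]
    obtain ⟨k, hk⟩ := hW ⟨x, hx⟩
    have hxk : x ^ (p ^ k) = 1 := by
      have := congrArg Subtype.val hk
      simpa using this
    have hs : (Equiv.Perm.sign x) ^ (p ^ k) = 1 := by rw [← map_pow, hxk, map_one]
    rcases Int.units_eq_one_or (Equiv.Perm.sign x) with h | h
    · exact h
    · exfalso
      rw [h] at hs
      have hodd : Odd (p ^ k) := (hp.odd_of_ne_two hp2).pow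
      rw [hodd.neg_one_pow] at hs
      exact absurd hs (by decide)
  · apply Nat.pow_le_pow_right hp.pos
    have hdvd : Nat.card (alternatingGroup (Fin n)) ∣ (Fintype.card (Fin n)).factorial := by
      rw [← Fintype.card_perm, ← Nat.card_eq_fintype_card]
      exact Subgroup.card_subgroup_dvd_card _
    rw [← Nat.factorization_def _ hp]
    exact (Nat.factorization_le_iff_dvd (Nat.card_pos.ne') (Nat.factorial_ne_zero _)).mpr hdvd p

theorem goodA_two (p : ℕ) [Fact p.Prime] (hp2 : p = 2) (n : ℕ) : GoodA p (Fin n) := by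
  have hp := (Fact.out : p.Prime)
  rcases Nat.lt_or_ge n 2 with hn | hn
  · -- trivial group
    refine ⟨⊥, bot_le, IsPGroup.of_bot, gen_of_pow_eq_one p _ ?_, ?_⟩
    · intro x hx
      rw [Subgroup.mem_bot] at hx
      rw [hx, one_pow]
    · have hdvd : Nat.card (alternatingGroup (Fin n)) ∣ (Fintype.card (Fin n)).factorial := by
        rw [← Fintype.card_perm, ← Nat.card_eq_fintype_card]
        exact Subgroup.card_subgroup_dvd_card _
      have h1 : (Fintype.card (Fin n)).factorial = 1 := by
        rw [Fintype.card_fin]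
        interval_cases n <;> rfl
      rw [h1, Nat.dvd_one] at hdvd
      rw [hdvd]
      simp
  · have hm : n / p < n := Nat.div_lt_self (by omega) hp.one_lt
    have h1 := goodA2_step (Fin (n / p)) p hp2 (good_all p (n / p))
    have hcard : Fintype.card (Fin (n / p) × ZMod p) ≤ Fintype.card (Fin n) := by
      rw [Fintype.card_prod, ZMod.card, Fintype.card_fin, Fintype.card_fin]
      exact Nat.div_mul_le_self n p
    obtain ⟨ι⟩ := Function.Embedding.nonempty_of_card_le hcard
    have h2 : GoodA2 p (Fin n) := by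
      apply goodA2_embed p ι h1
      rw [Fintype.card_prod, ZMod.card, Fintype.card_fin, Fintype.card_fin]
      conv_lhs => rw [← Nat.div_add_mod n p]
      rw [padicValNat_factorial_mul_add _ (Nat.mod_lt _ hp.pos), mul_comm]
    obtain ⟨W, hA, hW, gW, cW⟩ := h2
    refine ⟨W, hA, hW, gW, ?_⟩
    haveI : Nontrivial (Fin n) := Fin.nontrivial_iff_two_le.mpr hn
    have h3 : 2 * Nat.card (alternatingGroup (Fin n)) = (Fintype.card (Fin n)).factorial := by
      rw [two_mul_nat_card_alternatingGroup, Nat.card_eq_fintype_card, Fintype.card_perm]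
    have h4 : padicValNat p (Fintype.card (Fin n)).factorial =
        1 + (Nat.card (alternatingGroup (Fin n))).factorization p := by
      rw [← h3, padicValNat.mul (by norm_num) (Nat.card_pos.ne'), Nat.factorization_def _ hp]
      congr 1
      rw [hp2]
      exact padicValNat_self
    rw [h4, pow_add, pow_one] at cW
    have h5 : p * p ^ (Nat.card (alternatingGroup (Fin n))).factorization p ≤ p * Nat.card W := by
      rw [hp2] at cW ⊢
      exact cW
    exact Nat.le_of_mul_le_mul_left h5 hp.pos

theorem goodA_all (p : ℕ) [Fact p.Prime] (n : ℕ) : GoodA p (Fin n) := by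
  by_cases hp2 : p = 2
  · exact goodA_two p hp2 n
  · exact goodA_of_odd p hp2 n

end Cfsg.Agent.helper9.SylSym
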