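import Mathlib
import Cfsg.Agent.Lib_helper17_SylPC5
import Cfsg.Agent.Lib_helper17_SpR3
import Cfsg.Agent.Lib_helper17_GLR4
import Cfsg.Agent.Lib_helper9_SylSym

set_option autoImplicit false
set_option linter.unusedSectionVars false

/-!
# The explicit Sylow 2-subgroup `S ≀ T × {±1}ˣ` of `GL_{2m+e}(q)`, `q ≡ 3 (mod 4)`
-/

namespace Cfsg.Agent.helper17.SylPC

open Matrix Subgroup Cfsg.Agent.helper17.GLR
open Cfsg.Agent.helper17.SpR (pm pm_transpose pm_mul pm_one cc)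

variable {F : Type*} [Field F]
variable {o : Type*} [Fintype o] [DecidableEq o]
variable {x : Type*} [Fintype x] [DecidableEq x]

/-- signs into the field -/
def sgnF : ℤˣ →* Fˣ := Units.map ((Int.castRingHom F) : ℤ →* F)

theorem sgnF_val (e : ℤˣ) : ((sgnF e : Fˣ) : F) = ((e : ℤ) : F) := rfl

theorem sgnF_injective (h2 : (2 : F) ≠ 0) : Function.Injective (sgnF (F := F)) := by
  intro a b h
  have h1 : ((a : ℤ) : F) = ((b : ℤ) : F) := congrArg Units.val h
  rcases Int.units_eq_one_or a with ha | ha <;> rcases Int.units_eq_one_or b with hb | hb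
  · rw [ha, hb]
  · exfalso
    rw [ha, hb] at h1
    simp at h1
    apply h2
    linear_combination h1
  · exfalso
    rw [ha, hb] at h1
    simp at h1
    apply h2
    linear_combination -h1
  · rw [ha, hb]

/-- block diagonal embedding of `GL₂ᵒ × {±1}ˣ` -/
def Psi0 : ((o → GL (Fin 2) F) × (x → ℤˣ)) →* GL ((Fin 2 × o) ⊕ x) F :=
  (beta (F := F) (o := o) (bt := Fin 2) (x := x)).comp
    ((toBB (F := F) (o := o) (bt := Fin 2) (x := x)).toMonoidHom.comp
      (MonoidHom.prodMap (MonoidHom.id _) (sgnF.compLeft x)))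

theorem Psi0_val (p : (o → GL (Fin 2) F) × (x → ℤˣ)) :
    ((Psi0 p : GL ((Fin 2 × o) ⊕ x) F) : Matrix ((Fin 2 × o) ⊕ x) ((Fin 2 × o) ⊕ x) F) =
      fromBlocks (blockDiagonal (fun k => ((p.1 k : GL (Fin 2) F) : Matrix (Fin 2) (Fin 2) F))) 0 0
        (diagonal (fun j => (((p.2 j : ℤˣ) : ℤ) : F))) := rfl

theorem Psi0_det (p : (o → GL (Fin 2) F) × (x → ℤˣ)) :
    ((Psi0 p : GL ((Fin 2 × o) ⊕ x) F) : Matrix ((Fin 2 × o) ⊕ x) ((Fin 2 × o) ⊕ x) F).det =
      (∏ k, ((p.1 k : GL (Fin 2) F) : Matrix (Fin 2) (Fin 2) F).det) *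
        ∏ j, (((p.2 j : ℤˣ) : ℤ) : F) := by
  rw [Psi0_val, det_fromBlocks_zero₂₁, det_blockDiagonal, det_diagonal]

theorem Psi0_injective (h2 : (2 : F) ≠ 0) :
    Function.Injective (Psi0 (F := F) (o := o) (x := x)) := by
  intro p q h
  have h1 := beta_injective h
  have h3 := (toBB (F := F) (o := o) (bt := Fin 2) (x := x)).injective h1
  have h4 : p.1 = q.1 := by
    have := congrArg Prod.fst h3
    simpa using this
  have h5 : (fun j => sgnF (F := F) (p.2 j)) = fun j => sgnF (q.2 j) := by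
    have := congrArg Prod.snd h3
    exact this
  apply Prod.ext h4
  funext j
  exact sgnF_injective h2 (congrFun h5 j)

theorem perm_conj_Psi0 (σ : Equiv.Perm o) (p : (o → GL (Fin 2) F) × (x → ℤˣ)) :
    perm (F := F) (bt := Fin 2) (x := x) σ * Psi0 p * (perm σ)⁻¹ =
      Psi0 (fun k => p.1 (σ⁻¹ k), p.2) := by
  rw [mul_inv_eq_iff_eq_mul]
  unfold Psi0
  rw [MonoidHom.comp_apply, MonoidHom.comp_apply, perm_mul_beta]
  congr 1

theorem pmB_eq_kronecker (σ : Equiv.Perm o) :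
    pmB (F := F) (bt := Fin 2) σ = kroneckerMap (fun a b => a * b) (1 : Matrix (Fin 2) (Fin 2) F)
      (pm σ) := by
  ext ⟨i, k⟩ ⟨j, k'⟩
  simp only [pmB, of_apply, kroneckerMap_apply, pm, one_apply]
  by_cases h1 : i = j <;> by_cases h2 : k = σ k' <;> simp [h1, h2]

theorem det_pm_sq (σ : Equiv.Perm o) : (pm (F := F) σ).det * (pm (F := F) σ).det = 1 := by
  have h1 : pm (F := F) σ * (pm σ)ᵀ = 1 := by
    rw [pm_transpose, ← pm_mul, mul_inv_cancel, pm_one]
  have h2 := congrArg Matrix.det h1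
  rw [det_mul, det_transpose, det_one] at h2
  exact h2

theorem det_perm (σ : Equiv.Perm o) :
    ((perm (F := F) (bt := Fin 2) (x := x) σ : GL ((Fin 2 × o) ⊕ x) F) :
      Matrix ((Fin 2 × o) ⊕ x) ((Fin 2 × o) ⊕ x) F).det = 1 := by
  have h1 : ((perm (F := F) (bt := Fin 2) (x := x) σ : GL ((Fin 2 × o) ⊕ x) F) :
      Matrix ((Fin 2 × o) ⊕ x) ((Fin 2 × o) ⊕ x) F) = fromBlocks (pmB σ) 0 0 1 := rfl
  rw [h1, det_fromBlocks_zero₂₁, det_one, mul_one, pmB_eq_kronecker, det_kronecker, det_one,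
    one_pow, one_mul, Fintype.card_fin, pow_two]
  exact det_pm_sq σ

end Cfsg.Agent.helper17.SylPC
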