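import Mathlib
import Cfsg.Agent.Lib_helper17_SylPC6

set_option autoImplicit false
set_option linter.unusedSectionVars false

/-!
# `PC` for the determinant-one part of the explicit Sylow 2-subgroup, `q ≡ 3 (mod 4)`
-/

namespace Cfsg.Agent.helper17.SylPC

open Matrix Subgroup Cfsg.Agent.helper17.GLR
open Cfsg.Agent.helper17.SpR (pm pm_transpose pm_mul pm_one cc)

variable {F : Type*} [Field F]
variable {o : Type*} [Fintype o] [DecidableEq o]
variable {x : Type*} [Fintype x] [DecidableEq x]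

/-- the embedding restricted to `S` -/
def PsiS (S : Subgroup (GL (Fin 2) F)) : ((o → S) × (x → ℤˣ)) →* GL ((Fin 2 × o) ⊕ x) F :=
  (Psi0 (F := F) (o := o) (x := x)).comp
    (MonoidHom.prodMap (S.subtype.compLeft o) (MonoidHom.id _))

theorem PsiS_apply (S : Subgroup (GL (Fin 2) F)) (p : (o → S) × (x → ℤˣ)) :
    PsiS S p = Psi0 (fun k => (p.1 k : GL (Fin 2) F), p.2) := rfl

theorem PsiS_injective (h2 : (2 : F) ≠ 0) (S : Subgroup (GL (Fin 2) F)) :
    Function.Injective (PsiS (o := o) (x := x) S) := by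
  intro p q h
  have h1 := Psi0_injective h2 h
  have h3 : (fun k => (p.1 k : GL (Fin 2) F)) = fun k => (q.1 k : GL (Fin 2) F) := by
    have := congrArg Prod.fst h1
    exact this
  have h4 : p.2 = q.2 := by
    have := congrArg Prod.snd h1
    exact this
  apply Prod.ext _ h4
  funext k
  apply Subtype.ext
  exact congrFun h3 k

theorem card_PsiS_range (h2 : (2 : F) ≠ 0) (S : Subgroup (GL (Fin 2) F)) [Finite S] :
    Nat.card (PsiS (o := o) (x := x) S).range = Nat.card S ^ Fintype.card o * 2 ^ Fintype.card x := by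
  rw [← Nat.card_congr (MonoidHom.ofInjective (PsiS_injective (o := o) (x := x) h2 S)).toEquiv,
    Nat.card_prod, Nat.card_fun, Nat.card_fun, Nat.card_eq_fintype_card (α := o),
    Nat.card_eq_fintype_card (α := x), Nat.card_eq_fintype_card (α := ℤˣ), Fintype.card_units_int]

theorem perm_mem_normalizer_PsiS (S : Subgroup (GL (Fin 2) F)) (σ : Equiv.Perm o) :
    perm (F := F) (bt := Fin 2) (x := x) σ ∈
      normalizer ((PsiS (o := o) (x := x) S).range : Set (GL ((Fin 2 × o) ⊕ x) F)) := by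
  rw [mem_set_normalizer_iff]
  intro h
  constructor
  · rintro ⟨p, rfl⟩
    rw [PsiS_apply, perm_conj_Psi0]
    exact ⟨(fun k => p.1 (σ⁻¹ k), p.2), rfl⟩
  · rintro ⟨p, hp⟩
    have h3 : h = perm (F := F) (bt := Fin 2) (x := x) σ⁻¹ * PsiS S p *
        (perm (F := F) (bt := Fin 2) (x := x) σ⁻¹)⁻¹ := by
      rw [hp, map_inv, inv_inv]
      simp only [mul_assoc, inv_mul_cancel_left, inv_mul_cancel, mul_one]
    rw [h3, PsiS_apply, perm_conj_Psi0]
    exact ⟨(fun k => p.1 (σ⁻¹⁻¹ k), p.2), rfl⟩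

theorem Psi0_comm_delta (p : (o → GL (Fin 2) F) × (x → ℤˣ)) (e : (o ⊕ x) → ℤˣ) :
    Psi0 p * delta (F := F) (bt := Fin 2) e = delta e * Psi0 p := by
  unfold Psi0
  rw [MonoidHom.comp_apply]
  exact delta_comm_beta e _

theorem disjoint_PsiS_perm (h2 : (2 : F) ≠ 0) (S : Subgroup (GL (Fin 2) F))
    (H : Subgroup (Equiv.Perm o)) :
    Disjoint (PsiS (o := o) (x := x) S).range (H.map (perm (F := F) (bt := Fin 2) (x := x))) := by
  rw [Subgroup.disjoint_def]
  rintro g ⟨p, rfl⟩ ⟨σ, _, hσ⟩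
  have h3 : σ = 1 := by
    apply R3_GL (F := F) (bt := Fin 2) (x := x) h2 σ
    intro e
    rw [hσ, PsiS_apply, Psi0_comm_delta]
  rw [← hσ, h3, map_one]

theorem mem_sup_decomp {G : Type*} [Group G] (N H : Subgroup G) (hLE : H ≤ normalizer (N : Set G))
    (w : G) (hw : w ∈ N ⊔ H) : ∃ b ∈ N, ∃ h ∈ H, w = b * h := by
  have h1 : w ∈ ((N ⊔ H : Subgroup G) : Set G) := hw
  rw [Subgroup.coe_mul_of_right_le_normalizer_left N H hLE, Set.mem_mul] at h1
  obtain ⟨b, hb, h, hh, e⟩ := h1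
  exact ⟨b, hb, h, hh, e.symm⟩

/-- the main generation statement -/
theorem pc_inf_SLr (h2 : (2 : F) ≠ 0) (S : Subgroup (GL (Fin 2) F))
    (hr0 : r0 ∈ S) (hPC : PC (S ⊓ SLr (Fin 2) F))
    (hdet : ∀ s ∈ S, (s : Matrix (Fin 2) (Fin 2) F).det = 1 ∨ (s : Matrix (Fin 2) (Fin 2) F).det = -1)
    (T : Subgroup (Equiv.Perm o)) (gT : T ≤ closure {t | t ∈ T ∧ t ^ 2 = 1}) :
    PC (((PsiS (o := o) (x := x) S).range ⊔ T.map (perm (F := F) (bt := Fin 2) (x := x))) ⊓
      SLr ((Fin 2 × o) ⊕ x) F) := by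
  classical
  set B := (PsiS (o := o) (x := x) S).range with hB
  set H' := T.map (perm (F := F) (bt := Fin 2) (x := x)) with hH'
  set W := (B ⊔ H') ⊓ SLr ((Fin 2 × o) ⊕ x) F with hW
  set Q' : Subgroup (GL (Fin 2) F) := S ⊓ SLr (Fin 2) F with hQ'
  -- the embedding of `Q'ᵒ`
  let ΨQ : (o → Q') →* GL ((Fin 2 × o) ⊕ x) F :=
    (Psi0 (F := F) (o := o) (x := x)).comp
      ((MonoidHom.inl _ _).comp (Q'.subtype.compLeft o))
  have hΨQ : ∀ q : o → Q', ΨQ q = Psi0 (fun k => (q k : GL (Fin 2) F), 1) := fun q => rfl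
  have hPCQ : PC ΨQ.range := pc_range ΨQ (pct_pi (pc_to_type Q' hPC))
  have hQW : ΨQ.range ≤ W := by
    rintro _ ⟨q, rfl⟩
    refine ⟨(le_sup_left : B ≤ B ⊔ H') ⟨(fun k => ⟨(q k : GL (Fin 2) F), (q k).2.1⟩, 1), ?_⟩,
      (mem_SLr _).mpr ?_⟩
    · rw [PsiS_apply, hΨQ]
    · rw [hΨQ, Psi0_det]
      have h1 : ∀ k, ((q k : GL (Fin 2) F) : Matrix (Fin 2) (Fin 2) F).det = 1 :=
        fun k => (mem_SLr _).mp (q k).2.2
      simp [h1]
  have hnorm : H' ≤ normalizer (B : Set (GL ((Fin 2 × o) ⊕ x) F)) := by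
    rintro _ ⟨σ, _, rfl⟩
    exact perm_mem_normalizer_PsiS S σ
  have hH'W : H' ≤ closure {g | g ∈ W ∧ g ^ 2 = 1} := by
    have h1 : H' ≤ (closure {t | t ∈ T ∧ t ^ 2 = 1}).map
        (perm (F := F) (bt := Fin 2) (x := x)) := Subgroup.map_mono gT
    refine h1.trans ?_
    rw [MonoidHom.map_closure]
    apply Subgroup.closure_mono
    rintro _ ⟨t, ⟨htT, ht2⟩, rfl⟩
    refine ⟨⟨(le_sup_right : H' ≤ B ⊔ H') (Subgroup.mem_map_of_mem _ htT),
      (mem_SLr _).mpr (det_perm t)⟩, ?_⟩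
    · rw [← map_pow, ht2, map_one]
  apply pc_of_closure W ((ΨQ.range : Set _) ∪ {g | g ∈ W ∧ g ^ 2 = 1})
  · rintro g (hg | hg)
    · exact hQW hg
    · exact hg.1
  · intro w hw
    obtain ⟨b, hb, h, hh, rfl⟩ := mem_sup_decomp B H' hnorm w hw.1
    obtain ⟨p, rfl⟩ := hb
    have hhW : h ∈ closure ((ΨQ.range : Set _) ∪ {g | g ∈ W ∧ g ^ 2 = 1}) :=
      (Subgroup.closure_mono Set.subset_union_right) (hH'W hh)
    have hhdet : (h : Matrix ((Fin 2 × o) ⊕ x) ((Fin 2 × o) ⊕ x) F).det = 1 := by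
      obtain ⟨t, _, rfl⟩ := hh
      exact det_perm t
    have hbdet : ((PsiS S p : GL ((Fin 2 × o) ⊕ x) F) :
        Matrix ((Fin 2 × o) ⊕ x) ((Fin 2 × o) ⊕ x) F).det = 1 := by
      have := (mem_SLr _).mp hw.2
      rw [Units.val_mul, det_mul, hhdet, mul_one] at this
      exact this
    -- decompose `p.1 k = q k * r0 ^ e k`
    have hmem : ∀ k, (if ((p.1 k : GL (Fin 2) F) : Matrix (Fin 2) (Fin 2) F).det = 1 then
        (p.1 k : GL (Fin 2) F) else (p.1 k : GL (Fin 2) F) * r0) ∈ Q' := by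
      intro k
      split_ifs with h
      · exact ⟨(p.1 k).2, (mem_SLr _).mpr h⟩
      · refine ⟨Subgroup.mul_mem _ (p.1 k).2 hr0, (mem_SLr _).mpr ?_⟩
        rcases hdet _ (p.1 k).2 with h1 | h1
        · exact absurd h1 h
        · rw [Units.val_mul, Matrix.det_mul, h1, det_r0]; ring
    let q : o → Q' := fun k => ⟨_, hmem k⟩
    let ρ : o → GL (Fin 2) F := fun k =>
      if ((p.1 k : GL (Fin 2) F) : Matrix (Fin 2) (Fin 2) F).det = 1 then 1 else r0
    have hρS : ∀ k, ρ k ∈ S := by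
      intro k
      simp only [ρ]
      split_ifs
      · exact S.one_mem
      · exact hr0
    have hρ2 : ∀ k, ρ k * ρ k = 1 := by
      intro k
      simp only [ρ]
      split_ifs
      · exact one_mul 1
      · exact r0_mul_r0
    have hdecomp : (fun k => (p.1 k : GL (Fin 2) F)) = (fun k => (q k : GL (Fin 2) F)) * ρ := by
      funext k
      simp only [Pi.mul_apply, q, ρ]
      split_ifs
      · rw [mul_one]
      · rw [mul_assoc, r0_mul_r0, mul_one]
    let c : GL ((Fin 2 × o) ⊕ x) F := Psi0 (ρ, p.2)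
    have hbc : PsiS S p = ΨQ q * c := by
      rw [PsiS_apply, hΨQ, ← map_mul]
      congr 1
      rw [Prod.mk_mul_mk, one_mul, hdecomp]
    have hc2 : c ^ 2 = 1 := by
      rw [pow_two, ← map_mul, Prod.mk_mul_mk]
      have h1 : ρ * ρ = 1 := funext hρ2
      have h3 : p.2 * p.2 = 1 := by
        funext j
        exact Int.units_mul_self (p.2 j)
      rw [h1, h3]
      exact map_one _
    have hcB : c ∈ B := ⟨(fun k => ⟨ρ k, hρS k⟩, p.2), rfl⟩
    have hcdet : (c : Matrix ((Fin 2 × o) ⊕ x) ((Fin 2 × o) ⊕ x) F).det = 1 := by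
      have h1 := hbdet
      rw [hbc, Units.val_mul, det_mul] at h1
      have h3 : ((ΨQ q : GL ((Fin 2 × o) ⊕ x) F) :
          Matrix ((Fin 2 × o) ⊕ x) ((Fin 2 × o) ⊕ x) F).det = 1 :=
        (mem_SLr _).mp (hQW ⟨q, rfl⟩).2
      rw [h3, one_mul] at h1
      exact h1
    have hcW : c ∈ W := ⟨(le_sup_left : B ≤ B ⊔ H') hcB, (mem_SLr _).mpr hcdet⟩
    rw [hbc]
    apply Subgroup.mul_mem _ (Subgroup.mul_mem _ _ _) hhW
    · exact Subgroup.subset_closure (Or.inl ⟨q, rfl⟩)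
    · exact Subgroup.subset_closure (Or.inr ⟨hcW, hc2⟩)
  · rintro s (hs | hs)
    · exact Subgroup.commutator_mono hQW hQW (hPCQ s hs)
    · rw [hs.2]; exact Subgroup.one_mem _

end Cfsg.Agent.helper17.SylPC
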