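import Mathlib
import Cfsg.Agent.Lib_helper17_SylPC7

set_option autoImplicit false
set_option linter.unusedSectionVars false

/-!
# Generic group theory for the Sylow 2-subgroups of `Ω(Q)`
-/

namespace Cfsg.Agent.helper17.OS

open Subgroup Cfsg.Agent.helper17.SylPC
open scoped commutatorElement

/-- all Sylow `2`-subgroups of `K` have their squares in the derived subgroup -/
def PropS (K : Type*) [Group K] : Prop :=
  ∀ P : Sylow 2 K, ∀ x : (P : Subgroup K), x ^ 2 ∈ commutator (P : Subgroup K)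

theorem propS_of_mulEquiv {K K' : Type*} [Group K] [Group K'] [Finite K] (e : K ≃* K')
    (h : PropS K) : PropS K' := by
  have : Fact (Nat.Prime 2) := ⟨Nat.prime_two⟩
  have : Finite K' := Finite.of_equiv K e.toEquiv
  intro P' x
  obtain ⟨P⟩ : Nonempty (Sylow 2 K) := inferInstance
  have hPC : PC (P : Subgroup K) := pc_of_type _ (h P)
  have hPC' : PC ((P : Subgroup K).map e.toMonoidHom) := pc_map _ _ hPC
  apply sylow_of_pc ((P : Subgroup K).map e.toMonoidHom) (P.isPGroup'.map _) hPC' _ P' x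
  rw [Subgroup.card_map_of_injective (show Function.Injective e.toMonoidHom from e.injective),
    Sylow.card_eq_multiplicity, Nat.card_congr e.toEquiv]

/-- the derived subgroups of isomorphic groups are isomorphic -/
noncomputable def commEquiv {G G' : Type*} [Group G] [Group G'] (e : G ≃* G') :
    commutator G ≃* commutator G' :=
  (e.subgroupMap (commutator G)).trans (MulEquiv.subgroupCongr (by
    have h1 : (commutator G).map e.toMonoidHom = commutator G' := by
      rw [commutator_def, commutator_def, Subgroup.map_commutator,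
        Subgroup.map_top_of_surjective _ e.surjective]
    exact h1))

/-- transfer from a group to a normal subgroup -/
theorem sylow_normal_of_pc {G : Type*} [Group G] [Finite G] (N : Subgroup G) [hN : N.Normal]
    (W : Subgroup G) (hW : IsPGroup 2 W)
    (hc : 2 ^ (Nat.card G).factorization 2 ≤ Nat.card W) (hPC : PC (W ⊓ N)) : PropS N := by
  have : Fact (Nat.Prime 2) := ⟨Nat.prime_two⟩
  intro P x
  set f : N →* G := N.subtype with hf
  have hfi : Function.Injective f := Subgroup.subtype_injective N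
  have hfr : f.range = N := Subgroup.range_subtype N
  obtain ⟨W0, hW0⟩ := hW.exists_le_sylow
  have hWW0 : W = (W0 : Subgroup G) := by
    apply Subgroup.eq_of_le_of_card_ge hW0
    rw [Sylow.card_eq_multiplicity]; exact hc
  have hP' : IsPGroup 2 ((P : Subgroup N).map f) := P.isPGroup'.map f
  obtain ⟨P0, hP0⟩ := hP'.exists_le_sylow
  obtain ⟨g, hg⟩ := MulAction.exists_smul_eq G W0 P0
  have hP0eq : (P0 : Subgroup G) = W.map (MulAut.conj g).toMonoidHom := by
    rw [← hg, Sylow.coe_subgroup_smul, Subgroup.pointwise_smul_def, hWW0]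
    rfl
  set V' : Subgroup G := (W ⊓ N).map (MulAut.conj g).toMonoidHom with hV'
  have hV'PC : PC V' := pc_map _ _ hPC
  have hV'le : V' ≤ f.range := by
    rw [hfr]
    rintro _ ⟨w, hw, rfl⟩
    exact hN.conj_mem w hw.2 g
  have hV'p : IsPGroup 2 V' := (hW.to_le inf_le_left).map _
  set V : Subgroup N := V'.comap f with hV
  have hVp : IsPGroup 2 V := hV'p.comap_of_injective f hfi
  have hPV : (P : Subgroup N) ≤ V := by
    intro y hy
    rw [hV, Subgroup.mem_comap]
    have h1 : f y ∈ (P0 : Subgroup G) := hP0 (Subgroup.mem_map_of_mem f hy)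
    rw [hP0eq] at h1
    obtain ⟨w, hw, hwy⟩ := h1
    refine ⟨w, ⟨hw, ?_⟩, hwy⟩
    have h2 : f y ∈ N := y.2
    have h3 : w = (MulAut.conj g⁻¹).toMonoidHom (f y) := by
      rw [← hwy]
      simp [MulAut.conj_apply, mul_assoc]
    rw [h3]
    exact hN.conj_mem _ h2 g⁻¹
  have hVP : V = (P : Subgroup N) := P.is_maximal' hVp hPV
  have hVPC : PC V := by
    apply pc_of_map_injective V f hfi
    rw [hV, Subgroup.map_comap_eq_self hV'le]
    exact hV'PC
  rw [hVP] at hVPC
  exact pc_to_type _ hVPC x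

/-- generation of the kernel of a homomorphism to an abelian group -/
theorem ker_le_closure {Γ A : Type*} [Group Γ] [CommGroup A] (Ξ : Γ →* A) (E : Subgroup Γ)
    (Z : Set (Γ × Γ))
    (hZE : ∀ z ∈ Z, z.1 ∈ E)
    (hcomm : ∀ z ∈ Z, ∀ e ∈ E, z.2 * e = e * z.2)
    (hZΞ : ∀ z ∈ Z, Ξ (z.1 * z.2) = 1)
    (hgen : closure ((E : Set Γ) ∪ (Prod.snd '' Z)) = ⊤) :
    Ξ.ker ≤ closure ({e | e ∈ E ∧ Ξ e = 1} ∪ {w | ∃ z ∈ Z, w = z.1 * z.2}) := by
  set H := closure ({e | e ∈ E ∧ Ξ e = 1} ∪ {w | ∃ z ∈ Z, w = z.1 * z.2}) with hH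
  have hHker : H ≤ Ξ.ker := by
    rw [hH, Subgroup.closure_le]
    rintro w (⟨_, hw⟩ | ⟨z, hz, rfl⟩)
    · exact hw
    · exact hZΞ z hz
  -- step 1: `E` normalizes `H`
  have step1 : ∀ e ∈ E, ∀ h ∈ H, e * h * e⁻¹ ∈ H := by
    intro e he h hh
    induction hh using Subgroup.closure_induction with
    | mem w hw =>
      rcases hw with ⟨hwE, hwΞ⟩ | ⟨z, hz, rfl⟩
      · apply Subgroup.subset_closure
        left
        refine ⟨E.mul_mem (E.mul_mem he hwE) (E.inv_mem he), ?_⟩
        rw [map_mul, map_mul, map_inv, hwΞ, mul_one, mul_inv_cancel]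
      · have h1 : e * (z.1 * z.2) * e⁻¹ = (e * z.1 * e⁻¹ * z.1⁻¹) * (z.1 * z.2) := by
          have h2 : z.2 * e⁻¹ = e⁻¹ * z.2 := hcomm z hz e⁻¹ (E.inv_mem he)
          calc e * (z.1 * z.2) * e⁻¹ = e * z.1 * (z.2 * e⁻¹) := by group
            _ = e * z.1 * (e⁻¹ * z.2) := by rw [h2]
            _ = (e * z.1 * e⁻¹ * z.1⁻¹) * (z.1 * z.2) := by group
        rw [h1]
        apply Subgroup.mul_mem
        · apply Subgroup.subset_closure
          left
          refine ⟨E.mul_mem (E.mul_mem (E.mul_mem he (hZE z hz)) (E.inv_mem he))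
            (E.inv_mem (hZE z hz)), ?_⟩
          rw [map_mul, map_mul, map_mul, map_inv, map_inv]
          have : Ξ e * Ξ z.1 * (Ξ e)⁻¹ * (Ξ z.1)⁻¹ = 1 := by
            rw [mul_comm (Ξ e) (Ξ z.1), mul_assoc (Ξ z.1), mul_inv_cancel, mul_one, mul_inv_cancel]
          exact this
        · exact Subgroup.subset_closure (Or.inr ⟨z, hz, rfl⟩)
    | one => rw [mul_one, mul_inv_cancel]; exact H.one_mem
    | mul a b _ _ ha hb =>
      have : e * (a * b) * e⁻¹ = (e * a * e⁻¹) * (e * b * e⁻¹) := by group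
      rw [this]; exact H.mul_mem ha hb
    | inv a _ ha =>
      have : e * a⁻¹ * e⁻¹ = (e * a * e⁻¹)⁻¹ := by group
      rw [this]; exact H.inv_mem ha
  -- step 2: `H * E` is everything
  let J : Subgroup Γ :=
    { carrier := {γ | ∃ h ∈ H, ∃ e ∈ E, γ = h * e}
      mul_mem' := by
        rintro _ _ ⟨h₁, hh₁, e₁, he₁, rfl⟩ ⟨h₂, hh₂, e₂, he₂, rfl⟩
        refine ⟨h₁ * (e₁ * h₂ * e₁⁻¹), H.mul_mem hh₁ (step1 e₁ he₁ h₂ hh₂), e₁ * e₂,
          E.mul_mem he₁ he₂, ?_⟩
        group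
      one_mem' := ⟨1, H.one_mem, 1, E.one_mem, (mul_one 1).symm⟩
      inv_mem' := by
        rintro _ ⟨h, hh, e, he, rfl⟩
        refine ⟨e⁻¹ * h⁻¹ * e⁻¹⁻¹, step1 e⁻¹ (E.inv_mem he) h⁻¹ (H.inv_mem hh), e⁻¹,
          E.inv_mem he, ?_⟩
        group }
  have hJ : J = ⊤ := by
    rw [eq_top_iff, ← hgen, Subgroup.closure_le]
    rintro γ (hγ | ⟨z, hz, rfl⟩)
    · exact ⟨1, H.one_mem, γ, hγ, (one_mul γ).symm⟩
    · refine ⟨z.1 * z.2, Subgroup.subset_closure (Or.inr ⟨z, hz, rfl⟩), z.1⁻¹,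
        E.inv_mem (hZE z hz), ?_⟩
      have h2 : z.2 * z.1⁻¹ = z.1⁻¹ * z.2 := hcomm z hz z.1⁻¹ (E.inv_mem (hZE z hz))
      rw [mul_assoc, h2, mul_inv_cancel_left]
  intro γ hγ
  have hγJ : γ ∈ J := by rw [hJ]; exact Subgroup.mem_top γ
  obtain ⟨h, hh, e, he, rfl⟩ := hγJ
  apply H.mul_mem hh
  apply Subgroup.subset_closure
  left
  refine ⟨he, ?_⟩
  have h1 : Ξ (h * e) = 1 := hγ
  have h2 : Ξ h = 1 := hHker hh
  rw [map_mul, h2, one_mul] at h1
  exact h1

/-- a surjective homomorphism onto a `2`-group is surjective on Sylow `2`-subgroups -/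
theorem sylow_map_eq_top {G A : Type*} [Group G] [Finite G] [Group A] [Finite A]
    (φ : G →* A) (hφ : Function.Surjective φ) (hA : IsPGroup 2 A) (P : Sylow 2 G) :
    (P : Subgroup G).map φ = ⊤ := by
  have : Fact (Nat.Prime 2) := ⟨Nat.prime_two⟩
  set K := ((P : Subgroup G).map φ).comap φ with hK
  have hPK : (P : Subgroup G) ≤ K := Subgroup.le_comap_map φ _
  have h1 : K.index ∣ (P : Subgroup G).index := Subgroup.index_dvd_of_le hPK
  have h2 : ¬ 2 ∣ K.index := fun h => P.not_dvd_index (dvd_trans h h1)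
  have h3 : K.index = ((P : Subgroup G).map φ).index := Subgroup.index_comap_of_surjective _ hφ
  obtain ⟨n, hn⟩ := hA.index ((P : Subgroup G).map φ)
  rw [h3, hn] at h2
  have hn0 : n = 0 := by
    by_contra hne
    exact h2 (dvd_pow_self 2 hne)
  rw [hn0, pow_zero] at hn
  exact Subgroup.index_eq_one.mp hn

end Cfsg.Agent.helper17.OS
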