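import Mathlib
import Cfsg.Agent.Lib_helper13_ReflG

set_option autoImplicit false
set_option linter.unusedSectionVars false

/-!
# Diagonal quadratic forms and the orthogonal group of `x² + y²`
-/

namespace Cfsg.Agent.helper17.OS

open Matrix QuadraticMap

section diag

variable {F : Type*} [Field F] {ι : Type} [Fintype ι] [DecidableEq ι]

/-- the diagonal quadratic form `∑ cᵢ xᵢ²` -/
noncomputable def wss (c : ι → F) : QuadraticForm F (ι → F) := QuadraticMap.weightedSumSquares F c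

theorem wss_apply (c : ι → F) (v : ι → F) : wss c v = ∑ i, c i * (v i * v i) := by
  simp [wss, QuadraticMap.weightedSumSquares_apply]

theorem polar_wss (c : ι → F) (u v : ι → F) :
    polar (⇑(wss c)) u v = ∑ i, 2 * c i * u i * v i := by
  unfold polar
  rw [wss_apply, wss_apply, wss_apply, ← Finset.sum_sub_distrib, ← Finset.sum_sub_distrib]
  apply Finset.sum_congr rfl
  intro i _
  simp only [Pi.add_apply]
  ring

theorem polar_wss_single (c : ι → F) (u : ι → F) (i : ι) :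
    polar (⇑(wss c)) u (Pi.single i 1) = 2 * c i * u i := by
  rw [polar_wss, Finset.sum_eq_single i]
  · simp
  · intro j _ hj
    simp [Pi.single_apply, hj]
  · intro h
    exact absurd (Finset.mem_univ i) h

theorem wss_nondeg (h2 : (2 : F) ≠ 0) (c : ι → F) (hc : ∀ i, c i ≠ 0) :
    (polarBilin (wss c)).Nondegenerate := by
  constructor
  · intro x hx
    funext i
    have h1 := hx (Pi.single i 1)
    rw [polarBilin_apply_apply, polar_wss_single] at h1
    rcases mul_eq_zero.mp h1 with h3 | h3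
    · exact absurd h3 (mul_ne_zero h2 (hc i))
    · exact h3
  · intro x hx
    funext i
    have h1 := hx (Pi.single i 1)
    rw [polarBilin_apply_apply, polar_comm, polar_wss_single] at h1
    rcases mul_eq_zero.mp h1 with h3 | h3
    · exact absurd h3 (mul_ne_zero h2 (hc i))
    · exact h3

theorem wss_eq_dot (c : ι → F) (v : ι → F) : wss c v = v ⬝ᵥ (diagonal c *ᵥ v) := by
  rw [wss_apply]
  unfold dotProduct
  apply Finset.sum_congr rfl
  intro i _
  rw [mulVec_diagonal]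
  ring

theorem wss_mulVec (c : ι → F) (M : Matrix ι ι F) (h : Mᵀ * diagonal c * M = diagonal c)
    (u : ι → F) : wss c (M *ᵥ u) = wss c u := by
  rw [wss_eq_dot, wss_eq_dot]
  have h1 : (M *ᵥ u) ⬝ᵥ (diagonal c *ᵥ (M *ᵥ u)) = u ⬝ᵥ ((Mᵀ * diagonal c * M) *ᵥ u) := by
    rw [← Matrix.mulVec_mulVec, ← Matrix.mulVec_mulVec, Matrix.dotProduct_mulVec u Mᵀ,
      Matrix.vecMul_transpose]
  rw [h1, h]

theorem mem_iso_of_gram (c : ι → F) (g : GL ι F)
    (h : (g : Matrix ι ι F)ᵀ * diagonal c * (g : Matrix ι ι F) = diagonal c) :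
    g ∈ Cfsg.isometryGroup F ⇑(wss c) := by
  intro u _
  exact wss_mulVec c _ h u

end diag

section plane

variable {F : Type*} [Field F]

/-- the form `x² + y²` -/
noncomputable def Q2 (F : Type*) [Field F] : QuadraticForm F (Fin 2 → F) := wss (fun _ => 1)

theorem Q2_apply (v : Fin 2 → F) : Q2 F v = v 0 * v 0 + v 1 * v 1 := by
  unfold Q2
  rw [wss_apply, Fin.sum_univ_two]
  ring

/-- the orthogonal group of `x² + y²` -/
noncomputable abbrev O2 (F : Type*) [Field F] : Subgroup (GL (Fin 2) F) := Cfsg.isometryGroup F ⇑(Q2 F)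

theorem O2_eqs (h2 : (2 : F) ≠ 0) (g : GL (Fin 2) F) (hg : g ∈ O2 F) :
    g.1 0 0 * g.1 0 0 + g.1 1 0 * g.1 1 0 = 1 ∧ g.1 0 1 * g.1 0 1 + g.1 1 1 * g.1 1 1 = 1 ∧
      g.1 0 0 * g.1 0 1 + g.1 1 0 * g.1 1 1 = 0 := by
  have e1 : Q2 F (g.1 *ᵥ ![1, 0]) = Q2 F ![1, 0] := hg ![1, 0] ![1, 0]
  have e2 : Q2 F (g.1 *ᵥ ![0, 1]) = Q2 F ![0, 1] := hg ![0, 1] ![0, 1]
  have e3 : Q2 F (g.1 *ᵥ ![1, 1]) = Q2 F ![1, 1] := hg ![1, 1] ![1, 1]
  rw [Q2_apply, Q2_apply] at e1 e2 e3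
  simp [Matrix.mulVec, dotProduct, Fin.sum_univ_two] at e1 e2 e3
  refine ⟨e1, e2, ?_⟩
  have h3 : (2 : F) * (g.1 0 0 * g.1 0 1 + g.1 1 0 * g.1 1 1) = 0 := by
    linear_combination e3 - e1 - e2
  rcases mul_eq_zero.mp h3 with h4 | h4
  · exact absurd h4 h2
  · exact h4

theorem O2_det (h2 : (2 : F) ≠ 0) (g : GL (Fin 2) F) (hg : g ∈ O2 F) :
    (g : Matrix (Fin 2) (Fin 2) F).det = 1 ∨ (g : Matrix (Fin 2) (Fin 2) F).det = -1 := by
  obtain ⟨e1, e2, e3⟩ := O2_eqs h2 g hg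
  rw [Matrix.det_fin_two]
  have h1 : (g.1 0 0 * g.1 1 1 - g.1 0 1 * g.1 1 0 - 1) *
      (g.1 0 0 * g.1 1 1 - g.1 0 1 * g.1 1 0 + 1) = 0 := by
    linear_combination (g.1 0 1 * g.1 0 1 + g.1 1 1 * g.1 1 1) * e1 + e2 -
      (g.1 0 0 * g.1 0 1 + g.1 1 0 * g.1 1 1) * e3
  rcases mul_eq_zero.mp h1 with h3 | h3
  · left; linear_combination h3
  · right; linear_combination h3

theorem O2_invol (h2 : (2 : F) ≠ 0) (g : GL (Fin 2) F) (hg : g ∈ O2 F)
    (hd : (g : Matrix (Fin 2) (Fin 2) F).det = -1) : g * g = 1 := by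
  obtain ⟨e1, e2, e3⟩ := O2_eqs h2 g hg
  rw [Matrix.det_fin_two] at hd
  have hs : g.1 1 1 = - g.1 0 0 := by
    linear_combination (-(g.1 1 1)) * e1 + g.1 0 0 * hd + g.1 1 0 * e3
  have hq : g.1 0 1 = g.1 1 0 := by
    linear_combination (-(g.1 0 1)) * e1 - g.1 1 0 * hd + g.1 0 0 * e3
  apply Units.ext
  ext i j
  fin_cases i <;> fin_cases j <;>
    simp [Matrix.mul_apply, Fin.sum_univ_two]
  · rw [hq]; linear_combination e1
  · rw [hs]; ring
  · rw [hs]; ring
  · rw [← hq]; linear_combination e2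

theorem O2_gram (h2 : (2 : F) ≠ 0) (g : GL (Fin 2) F) (hg : g ∈ O2 F) :
    (g : Matrix (Fin 2) (Fin 2) F)ᵀ * (g : Matrix (Fin 2) (Fin 2) F) = 1 := by
  obtain ⟨e1, e2, e3⟩ := O2_eqs h2 g hg
  ext i j
  fin_cases i <;> fin_cases j <;>
    simp [Matrix.mul_apply, Fin.sum_univ_two]
  · linear_combination e1
  · linear_combination e3
  · linear_combination e3
  · linear_combination e2

end plane

end Cfsg.Agent.helper17.OS
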