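import Mathlib
import Cfsg.Agent.Lib_helper17_SylPC7
import Cfsg.Agent.Lib_helper17_GLR8

set_option autoImplicit false
set_option linter.unusedSectionVars false

/-!
# Sylow 2-subgroups of `SL_n(q)`, `q ≡ 3 (mod 4)`: squares lie in the derived subgroup
-/

namespace Cfsg.Agent.helper17.SylPC

open Matrix Subgroup Cfsg.Agent.helper17.GLR
open Cfsg.Agent.helper17.SpR (cc fact_two_prime)

theorem det_reindexGL {F : Type*} [Field F] {ι κ : Type*} [Fintype ι] [DecidableEq ι] [Fintype κ]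
    [DecidableEq κ] (e : ι ≃ κ) (g : GL ι F) :
    ((reindexGL e g : GL κ F) : Matrix κ κ F).det = (g : Matrix ι ι F).det := by
  have h1 : ((reindexGL e g : GL κ F) : Matrix κ κ F) = Matrix.reindexAlgEquiv F F e g.1 := rfl
  rw [h1, Matrix.det_reindexAlgEquiv]

theorem map_inf_SLr {F : Type*} [Field F] {ι κ : Type*} [Fintype ι] [DecidableEq ι] [Fintype κ]
    [DecidableEq κ] (e : ι ≃ κ) (W : Subgroup (GL ι F)) :
    (W ⊓ SLr ι F).map (reindexGL e).toMonoidHom = W.map (reindexGL e).toMonoidHom ⊓ SLr κ F := by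
  ext g
  constructor
  · rintro ⟨w, ⟨hw1, hw2⟩, rfl⟩
    refine ⟨Subgroup.mem_map_of_mem _ hw1, (mem_SLr _).mpr ?_⟩
    show ((reindexGL e w : GL κ F) : Matrix κ κ F).det = 1
    rw [det_reindexGL]; exact (mem_SLr _).mp hw2
  · rintro ⟨⟨w, hw, rfl⟩, h2⟩
    refine ⟨w, ⟨hw, (mem_SLr _).mpr ?_⟩, rfl⟩
    have h3 := (mem_SLr _).mp h2
    have h4 : ((reindexGL e w : GL κ F) : Matrix κ κ F).det = 1 := h3
    rwa [det_reindexGL] at h4

theorem card_sup_ge' {G : Type*} [Group G] [Finite G] (B H : Subgroup G) (hd : Disjoint B H) :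
    Nat.card B * Nat.card H ≤ Nat.card (B ⊔ H : Subgroup G) := by
  rw [← Nat.card_prod]
  let f : B × H → (B ⊔ H : Subgroup G) :=
    fun x => ⟨x.1 * x.2, Subgroup.mul_mem_sup x.1.2 x.2.2⟩
  apply Nat.card_le_card_of_injective f
  intro x y hxy
  apply Subgroup.mul_injective_of_disjoint hd
  exact congrArg Subtype.val hxy

theorem permG_injective {F : Type*} [Field F] {o : Type*} [Fintype o] [DecidableEq o]
    {x : Type*} [Fintype x] [DecidableEq x] (h2 : (2 : F) ≠ 0) :
    Function.Injective (perm (F := F) (bt := Fin 2) (o := o) (x := x)) := by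
  rw [injective_iff_map_eq_one]
  intro σ hσ
  apply R3_GL (F := F) (bt := Fin 2) (x := x) h2 σ
  intro e
  rw [hσ, one_mul, mul_one]

theorem sylow_SL_three {F : Type*} [Field F] [Fintype F] (hq : Fintype.card F % 4 = 3) (m e : ℕ)
    (he : e ≤ 1) (P : Sylow 2 (Matrix.SpecialLinearGroup (Fin (2 * m + e)) F))
    (x : (P : Subgroup (Matrix.SpecialLinearGroup (Fin (2 * m + e)) F))) :
    x ^ 2 ∈ commutator (P : Subgroup (Matrix.SpecialLinearGroup (Fin (2 * m + e)) F)) := by
  have hF : Odd (Fintype.card F) := Nat.odd_iff.mpr (by omega)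
  have hchar : ringChar F ≠ 2 := by
    intro h
    have := FiniteField.even_card_iff_char_two.mp h
    omega
  have h2 : (2 : F) ≠ 0 := Ring.two_ne_zero hchar
  obtain ⟨S, hr0, hPCS, hcS⟩ := exists_sylow_GL2 hq
  have hdet : ∀ s ∈ (S : Subgroup (GL (Fin 2) F)),
      (s : Matrix (Fin 2) (Fin 2) F).det = 1 ∨ (s : Matrix (Fin 2) (Fin 2) F).det = -1 := by
    intro s hs
    obtain ⟨k, hk⟩ := S.isPGroup' ⟨s, hs⟩
    apply det_pm_one hq s k
    have := congrArg Subtype.val hk
    simpa using this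
  obtain ⟨T, hT, gT, cT⟩ := Cfsg.Agent.helper9.SylSym.good_all 2 m
  set B := (PsiS (o := Fin m) (x := Fin e) (S : Subgroup (GL (Fin 2) F))).range with hB
  set H' := T.map (perm (F := F) (bt := Fin 2) (o := Fin m) (x := Fin e)) with hH'
  have hPCW := pc_inf_SLr (o := Fin m) (x := Fin e) h2 (S : Subgroup (GL (Fin 2) F)) hr0 hPCS hdet
    T gT
  have hcB : Nat.card B = 2 ^ ((1 + cc (Fintype.card F)) * m + e) := by
    rw [hB, card_PsiS_range h2, hcS, Fintype.card_fin, Fintype.card_fin, ← pow_mul, ← pow_add]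
  have hBp : IsPGroup 2 B := IsPGroup.of_card hcB
  have hH'p : IsPGroup 2 H' := hT.map _
  have hnorm : H' ≤ normalizer (B : Set (GL ((Fin 2 × Fin m) ⊕ Fin e) F)) := by
    rintro _ ⟨σ, _, rfl⟩
    exact perm_mem_normalizer_PsiS _ σ
  have hWp : IsPGroup 2 (B ⊔ H' : Subgroup (GL ((Fin 2 × Fin m) ⊕ Fin e) F)) :=
    IsPGroup.to_sup_of_normal_left' hBp hH'p hnorm
  have hd : Disjoint B H' := disjoint_PsiS_perm h2 _ T
  have hcW : 2 ^ ff (Fintype.card F) (2 * m + e) ≤
      Nat.card (B ⊔ H' : Subgroup (GL ((Fin 2 × Fin m) ⊕ Fin e) F)) := by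
    refine le_trans ?_ (card_sup_ge' B H' hd)
    rw [ff_three hq m e he, hcB, hH',
      Subgroup.card_map_of_injective (permG_injective (F := F) (o := Fin m) (x := Fin e) h2)]
    rw [Fintype.card_fin] at cT
    calc 2 ^ (m * (1 + cc (Fintype.card F)) + padicValNat 2 m.factorial + e)
        = 2 ^ ((1 + cc (Fintype.card F)) * m + e) * 2 ^ padicValNat 2 m.factorial := by
          rw [← pow_add]; congr 1; ring
      _ ≤ _ := Nat.mul_le_mul_left _ cT
  have hcard : Fintype.card ((Fin 2 × Fin m) ⊕ Fin e) = 2 * m + e := by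
    rw [Fintype.card_sum, Fintype.card_prod, Fintype.card_fin, Fintype.card_fin, Fintype.card_fin]
  let φ : GL ((Fin 2 × Fin m) ⊕ Fin e) F ≃* GL (Fin (2 * m + e)) F :=
    reindexGL (Fintype.equivFinOfCardEq hcard)
  apply sylow_SL_of_GL ((B ⊔ H').map φ.toMonoidHom) (hWp.map _) _ _ P x
  · rw [val_GL hF, Subgroup.card_map_of_injective
      (show Function.Injective φ.toMonoidHom from φ.injective)]
    exact hcW
  · rw [← map_inf_SLr]
    exact pc_map _ _ hPCW

end Cfsg.Agent.helper17.SylPC
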