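import Mathlib
import Cfsg.Agent.Lib_helper17_OS2
import Cfsg.Agent.Lib_helper17_SylPC8

set_option autoImplicit false
set_option linter.unusedSectionVars false

/-!
# The model form `∑ (x² + y²) + ∑ cⱼ zⱼ²` and its block monomial isometries
-/

namespace Cfsg.Agent.helper17.OS

open Matrix QuadraticMap Subgroup Cfsg.Agent.helper17.GLR Cfsg.Agent.helper17.SylPC

variable {F : Type*} [Field F]
variable {o : Type} [Fintype o] [DecidableEq o]
variable {x : Type} [Fintype x] [DecidableEq x]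

/-- coefficients of the model form -/
def cf (o : Type) {x : Type} (c : x → F) : (Fin 2 × o) ⊕ x → F := Sum.elim (fun _ => 1) c

/-- the model form -/
noncomputable def Qd (o : Type) [Fintype o] [DecidableEq o] {x : Type} [Fintype x] [DecidableEq x]
    (c : x → F) : QuadraticForm F ((Fin 2 × o) ⊕ x → F) := wss (cf o c)

theorem diagonal_cf (c : x → F) :
    diagonal (cf o c) = fromBlocks (1 : Matrix (Fin 2 × o) (Fin 2 × o) F) 0 0 (diagonal c) := by
  unfold cf
  rw [← fromBlocks_diagonal]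
  congr 1

theorem Qd_nondeg (h2 : (2 : F) ≠ 0) (c : x → F) (hc : ∀ j, c j ≠ 0) :
    (polarBilin (Qd o c)).Nondegenerate := by
  apply wss_nondeg h2
  rintro (i | j)
  · exact one_ne_zero
  · exact hc j

/-- the isometry group of the model form -/
noncomputable abbrev GG (o : Type) [Fintype o] [DecidableEq o] {x : Type} [Fintype x] [DecidableEq x]
    (c : x → F) : Subgroup (GL ((Fin 2 × o) ⊕ x) F) := Cfsg.isometryGroup F ⇑(Qd o c)

theorem int_unit_cast_sq (e : ℤˣ) : (((e : ℤ) : F)) * (((e : ℤ) : F)) = 1 := by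
  rcases Int.units_eq_one_or e with rfl | rfl <;> simp

theorem Psi0_mem (h2 : (2 : F) ≠ 0) (c : x → F) (p : (o → GL (Fin 2) F) × (x → ℤˣ))
    (hp : ∀ k, p.1 k ∈ O2 F) : Psi0 p ∈ GG o c := by
  apply mem_iso_of_gram
  rw [Psi0_val, diagonal_cf, fromBlocks_transpose, fromBlocks_multiply, fromBlocks_multiply,
    blockDiagonal_transpose, diagonal_transpose]
  simp only [Matrix.mul_one, Matrix.mul_zero, Matrix.zero_mul, add_zero, zero_add,
    transpose_zero]
  congr 1
  · rw [← blockDiagonal_mul]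
    have : (fun k => ((p.1 k : GL (Fin 2) F) : Matrix (Fin 2) (Fin 2) F)ᵀ *
        ((p.1 k : GL (Fin 2) F) : Matrix (Fin 2) (Fin 2) F)) = 1 := by
      funext k
      exact O2_gram h2 (p.1 k) (hp k)
    rw [this, blockDiagonal_one]
  · rw [diagonal_mul_diagonal, diagonal_mul_diagonal]
    congr 1
    funext j
    have := int_unit_cast_sq (F := F) (p.2 j)
    linear_combination (c j) * this

theorem pmB_transpose (σ : Equiv.Perm o) :
    (pmB (F := F) (bt := Fin 2) σ)ᵀ = pmB σ⁻¹ := by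
  ext ⟨i, k⟩ ⟨j, k'⟩
  simp only [pmB, of_apply, transpose_apply]
  by_cases h1 : i = j <;> by_cases h3 : k = σ⁻¹ k'
  · have : k' = σ k := by rw [h3]; simp
    simp [h1, h3]
  · have : ¬ k' = σ k := by
      intro h; apply h3; rw [h]; simp
    have h3' : ¬ k = (Equiv.symm σ) k' := h3
    simp [h1, h3', this]
  · simp [h1, Ne.symm h1]
  · simp [h1, Ne.symm h1]

theorem perm_mem (c : x → F) (σ : Equiv.Perm o) :
    perm (F := F) (bt := Fin 2) (x := x) σ ∈ GG o c := by
  apply mem_iso_of_gram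
  have h1 : ((perm (F := F) (bt := Fin 2) (x := x) σ : GL ((Fin 2 × o) ⊕ x) F) :
      Matrix ((Fin 2 × o) ⊕ x) ((Fin 2 × o) ⊕ x) F) = fromBlocks (pmB σ) 0 0 1 := rfl
  rw [h1, diagonal_cf, fromBlocks_transpose, fromBlocks_multiply, fromBlocks_multiply,
    pmB_transpose]
  simp only [Matrix.mul_one, Matrix.mul_zero, Matrix.zero_mul, add_zero, zero_add,
    transpose_zero, transpose_one, Matrix.one_mul]
  rw [← pmB_mul, inv_mul_cancel, pmB_one]

/-- block diagonal isometries -/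
noncomputable def PsiG (c : x → F) (h2 : (2 : F) ≠ 0) (S : Subgroup (GL (Fin 2) F)) (hS : S ≤ O2 F) :
    ((o → S) × (x → ℤˣ)) →* GG o c :=
  (PsiS (o := o) (x := x) S).codRestrict (GG o c) (fun p => by
    rw [PsiS_apply]
    exact Psi0_mem h2 c _ (fun k => hS (p.1 k).2))

/-- block permutations -/
noncomputable def pmG (c : x → F) : Equiv.Perm o →* GG o c :=
  (perm (F := F) (bt := Fin 2) (x := x)).codRestrict (GG o c) (perm_mem c)

variable (c : x → F) (h2 : (2 : F) ≠ 0) (S : Subgroup (GL (Fin 2) F)) (hS : S ≤ O2 F)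

theorem PsiG_coe (p : (o → S) × (x → ℤˣ)) :
    ((PsiG c h2 S hS p : GG o c) : GL ((Fin 2 × o) ⊕ x) F) = PsiS S p := rfl

theorem pmG_coe (σ : Equiv.Perm o) :
    ((pmG c σ : GG o c) : GL ((Fin 2 × o) ⊕ x) F) = perm (F := F) (bt := Fin 2) (x := x) σ := rfl

theorem PsiG_injective : Function.Injective (PsiG (o := o) c h2 S hS) := by
  intro p q h
  apply PsiS_injective (o := o) (x := x) h2 S
  have := congrArg (fun g : GG o c => (g : GL ((Fin 2 × o) ⊕ x) F)) h
  exact this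

include h2 in
theorem pmG_injective : Function.Injective (pmG (F := F) (o := o) c) := by
  intro σ τ h
  apply permG_injective (F := F) (o := o) (x := x) h2
  have := congrArg (fun g : GG o c => (g : GL ((Fin 2 × o) ⊕ x) F)) h
  exact this

theorem pmG_conj_PsiG (σ : Equiv.Perm o) (p : (o → S) × (x → ℤˣ)) :
    pmG c σ * PsiG c h2 S hS p * (pmG c σ)⁻¹ = PsiG c h2 S hS (fun k => p.1 (σ⁻¹ k), p.2) := by
  apply Subtype.ext
  rw [Subgroup.coe_mul, Subgroup.coe_mul, Subgroup.coe_inv, pmG_coe, PsiG_coe, PsiG_coe,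
    PsiS_apply, PsiS_apply, perm_conj_Psi0]

theorem card_PsiG_range [Finite S] :
    Nat.card (PsiG (o := o) c h2 S hS).range = Nat.card S ^ Fintype.card o * 2 ^ Fintype.card x := by
  rw [← Nat.card_congr (MonoidHom.ofInjective (PsiG_injective (o := o) c h2 S hS)).toEquiv,
    Nat.card_prod, Nat.card_fun, Nat.card_fun, Nat.card_eq_fintype_card (α := o),
    Nat.card_eq_fintype_card (α := x), Nat.card_eq_fintype_card (α := ℤˣ), Fintype.card_units_int]

theorem pmG_mem_normalizer (σ : Equiv.Perm o) :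
    pmG c σ ∈ normalizer ((PsiG (o := o) c h2 S hS).range : Set (GG o c)) := by
  rw [mem_set_normalizer_iff]
  intro h
  constructor
  · rintro ⟨p, rfl⟩
    rw [pmG_conj_PsiG]
    exact ⟨_, rfl⟩
  · rintro ⟨p, hp⟩
    have h3 : h = pmG c σ⁻¹ * PsiG c h2 S hS p * (pmG c σ⁻¹)⁻¹ := by
      rw [hp, map_inv, inv_inv]
      simp only [mul_assoc, inv_mul_cancel_left, inv_mul_cancel, mul_one]
    rw [h3, pmG_conj_PsiG]
    exact ⟨_, rfl⟩

theorem disjoint_PsiG_pmG (H : Subgroup (Equiv.Perm o)) :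
    Disjoint (PsiG (o := o) c h2 S hS).range (H.map (pmG (F := F) (o := o) c)) := by
  rw [Subgroup.disjoint_def]
  rintro g ⟨p, rfl⟩ ⟨σ, hσ, hσp⟩
  have hd := disjoint_PsiS_perm (F := F) (o := o) (x := x) h2 S H
  rw [Subgroup.disjoint_def] at hd
  have h1 : (PsiS (o := o) (x := x) S p : GL ((Fin 2 × o) ⊕ x) F) = 1 := by
    apply hd ⟨p, rfl⟩
    refine ⟨σ, hσ, ?_⟩
    have := congrArg (fun g : GG o c => (g : GL ((Fin 2 × o) ⊕ x) F)) hσp
    exact this
  apply Subtype.ext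
  exact h1

theorem det_PsiG (p : (o → S) × (x → ℤˣ)) :
    (((PsiG c h2 S hS p : GG o c) : GL ((Fin 2 × o) ⊕ x) F) :
      Matrix ((Fin 2 × o) ⊕ x) ((Fin 2 × o) ⊕ x) F).det =
      (∏ k, ((p.1 k : GL (Fin 2) F) : Matrix (Fin 2) (Fin 2) F).det) *
        ∏ j, (((p.2 j : ℤˣ) : ℤ) : F) := by
  rw [PsiG_coe, PsiS_apply, Psi0_det]

theorem det_pmG (σ : Equiv.Perm o) :
    (((pmG c σ : GG o c) : GL ((Fin 2 × o) ⊕ x) F) :
      Matrix ((Fin 2 × o) ⊕ x) ((Fin 2 × o) ⊕ x) F).det = 1 := by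
  rw [pmG_coe]
  exact det_perm σ

end Cfsg.Agent.helper17.OS
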