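import Mathlib
import Cfsg.Agent.Lib_helper17_OS3

set_option autoImplicit false
set_option linter.unusedSectionVars false

/-!
# Reflections in a plane of the model form
-/

namespace Cfsg.Agent.helper17.OS

open Matrix QuadraticMap Subgroup Cfsg.Agent.helper17.GLR Cfsg.Agent.helper17.SylPC
open Cfsg.Agent.helper13

variable {F : Type*} [Field F]
variable {o : Type} [Fintype o] [DecidableEq o]
variable {x : Type} [Fintype x] [DecidableEq x]

theorem Psi0_mulVec (p : (o → GL (Fin 2) F) × (x → ℤˣ)) (v : (Fin 2 × o) ⊕ x → F) :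
    ((Psi0 p : GL ((Fin 2 × o) ⊕ x) F) : Matrix ((Fin 2 × o) ⊕ x) ((Fin 2 × o) ⊕ x) F) *ᵥ v =
      Sum.elim (fun ak => (((p.1 ak.2 : GL (Fin 2) F) : Matrix (Fin 2) (Fin 2) F) *ᵥ
        (fun b => v (Sum.inl (b, ak.2)))) ak.1) (fun j => (((p.2 j : ℤˣ) : ℤ) : F) * v (Sum.inr j)) := by
  rw [Psi0_val, fromBlocks_mulVec]
  funext i
  rcases i with ⟨a, k⟩ | j
  · simp only [Sum.elim_inl, Pi.add_apply, Matrix.zero_mulVec, Pi.zero_apply, add_zero]
    simp only [mulVec, dotProduct, Fintype.sum_prod_type, blockDiagonal_apply, ite_mul, zero_mul,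
      Function.comp_apply, Finset.sum_ite_eq, Finset.mem_univ, if_true]
  · simp only [Sum.elim_inr, Pi.add_apply, Matrix.zero_mulVec, Pi.zero_apply, zero_add]
    rw [mulVec_diagonal]
    rfl

/-- embedding a vector of the plane `k` -/
def inV (o : Type) [DecidableEq o] (x : Type) (k : o) (w : Fin 2 → F) : (Fin 2 × o) ⊕ x → F :=
  Sum.elim (fun ak => if ak.2 = k then w ak.1 else 0) (fun _ => 0)

theorem Qd_inV (c : x → F) (k : o) (w : Fin 2 → F) : Qd o c (inV o x k w) = Q2 F w := by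
  unfold Qd
  rw [wss_apply, Q2_apply, Fintype.sum_sum_type, Fintype.sum_prod_type]
  simp only [inV, cf, Sum.elim_inl, Sum.elim_inr, mul_zero, Finset.sum_const_zero, add_zero, one_mul]
  rw [Fin.sum_univ_two, Finset.sum_eq_single k, Finset.sum_eq_single k]
  · simp
  · intro b _ hb; simp [hb]
  · intro h; exact absurd (Finset.mem_univ k) h
  · intro b _ hb; simp [hb]
  · intro h; exact absurd (Finset.mem_univ k) h

theorem polar_Qd_inV (c : x → F) (k : o) (w : Fin 2 → F) (v : (Fin 2 × o) ⊕ x → F) :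
    polar (⇑(Qd o c)) (inV o x k w) v = polar (⇑(Q2 F)) w (fun b => v (Sum.inl (b, k))) := by
  unfold Qd Q2
  rw [polar_wss, polar_wss, Fintype.sum_sum_type, Fintype.sum_prod_type]
  simp only [inV, cf, Sum.elim_inl, Sum.elim_inr, mul_zero, zero_mul, Finset.sum_const_zero,
    add_zero, mul_one]
  rw [Fin.sum_univ_two, Fin.sum_univ_two, Finset.sum_eq_single k, Finset.sum_eq_single k]
  · simp
  · intro b _ hb; simp [hb]
  · intro h; exact absurd (Finset.mem_univ k) h
  · intro b _ hb; simp [hb]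
  · intro h; exact absurd (Finset.mem_univ k) h

variable (c : x → F) (h2 : (2 : F) ≠ 0)

/-- the embedding of `O₂` at the plane `k` -/
noncomputable def embO (k : o) : O2 F →* GG o c :=
  (PsiG (o := o) c h2 (O2 F) le_rfl).comp
    ((MonoidHom.inl _ _).comp (MonoidHom.mulSingle (fun _ : o => O2 F) k))

theorem embO_apply (k : o) (g : O2 F) :
    embO c h2 k g = PsiG (o := o) c h2 (O2 F) le_rfl (Pi.mulSingle k g, 1) := rfl

theorem iact_embO (k : o) (g : O2 F) (v : (Fin 2 × o) ⊕ x → F) :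
    iact (embO c h2 k g) v =
      Sum.elim (fun ak => if ak.2 = k then
        (((g : GL (Fin 2) F) : Matrix (Fin 2) (Fin 2) F) *ᵥ (fun b => v (Sum.inl (b, k)))) ak.1
        else v (Sum.inl ak)) (fun j => v (Sum.inr j)) := by
  unfold iact
  rw [embO_apply, PsiG_coe, PsiS_apply, Psi0_mulVec]
  funext i
  rcases i with ⟨a, k'⟩ | j
  · simp only [Sum.elim_inl]
    by_cases hk : k' = k
    · subst hk
      simp
    · simp only [hk, if_false]
      rw [Pi.mulSingle_apply, if_neg hk]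
      simp
  · simp

theorem embO_reflG (k : o) (w : Fin 2 → F) (hw : Q2 F w ≠ 0) (hw' : Qd o c (inV o x k w) ≠ 0) :
    embO c h2 k ⟨(reflG (Q2 F) w hw).1, (reflG (Q2 F) w hw).2⟩ = reflG (Qd o c) (inV o x k w) hw' := by
  apply iact_ext
  intro v
  rw [iact_embO, iact_reflG]
  have h1 : ((reflG (Q2 F) w hw : GL (Fin 2) F) : Matrix (Fin 2) (Fin 2) F) *ᵥ
      (fun b => v (Sum.inl (b, k))) =
      (fun b => v (Sum.inl (b, k))) - ((Q2 F w)⁻¹ * polar (⇑(Q2 F)) w (fun b => v (Sum.inl (b, k)))) • w :=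
    iact_reflG (Q2 F) w hw _
  rw [Qd_inV, polar_Qd_inV]
  funext i
  rcases i with ⟨a, k'⟩ | j
  · simp only [Sum.elim_inl, Pi.sub_apply, Pi.smul_apply, smul_eq_mul]
    by_cases hk : k' = k
    · subst hk
      simp only [if_true]
      rw [h1]
      simp [inV]
    · simp [hk, inV]
  · simp [inV]

end Cfsg.Agent.helper17.OS
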