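import Mathlib
import Cfsg.Agent.Lib_helper17_OS4
import Cfsg.Agent.Lib_helper17_OS1

set_option autoImplicit false
set_option linter.unusedSectionVars false

/-!
# Spinor norm and determinant on the block diagonal subgroup
-/

namespace Cfsg.Agent.helper17.OS

open Matrix QuadraticMap Subgroup Cfsg.Agent.helper17.GLR Cfsg.Agent.helper17.SylPC
open Cfsg.Agent.helper13

variable {F : Type*} [Field F] [Fintype F] [DecidableEq F]
variable {o : Type} [Fintype o] [DecidableEq o]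
variable {x : Type} [Fintype x] [DecidableEq x]

theorem Q2_nondeg (h2 : (2 : F) ≠ 0) : (polarBilin (Q2 F)).Nondegenerate :=
  wss_nondeg h2 _ (fun _ => one_ne_zero)

variable (c : x → F) (h2 : (2 : F) ≠ 0)
variable (θ δ : GG o c →* ℤˣ)

theorem embO_reflG' (k : o) (w : Fin 2 → F) (hw : Q2 F w ≠ 0) :
    ∃ hw' : Qd o c (inV o x k w) ≠ 0,
      embO c h2 k (reflG (Q2 F) w hw) = reflG (Qd o c) (inV o x k w) hw' := by
  have hw' : Qd o c (inV o x k w) ≠ 0 := by rw [Qd_inV]; exact hw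
  exact ⟨hw', embO_reflG c h2 k w hw hw'⟩

/-- the spinor norm restricted to a plane is a spinor norm -/
theorem theta_embO
    (hθ : ∀ (w : (Fin 2 × o) ⊕ x → F) (hw : Qd o c w ≠ 0),
      ((θ (reflG (Qd o c) w hw) : ℤˣ) : ℤ) = quadraticChar F (Qd o c w))
    (k : o) (w : Fin 2 → F) (hw : Q2 F w ≠ 0) :
    (((θ.comp (embO c h2 k)) (reflG (Q2 F) w hw) : ℤˣ) : ℤ) = quadraticChar F (Q2 F w) := by
  obtain ⟨hw', h1⟩ := embO_reflG' c h2 k w hw
  rw [MonoidHom.comp_apply, h1, hθ, Qd_inV]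

theorem delta_embO
    (hδ : ∀ (w : (Fin 2 × o) ⊕ x → F) (hw : Qd o c w ≠ 0), δ (reflG (Qd o c) w hw) = -1)
    (k : o) (w : Fin 2 → F) (hw : Q2 F w ≠ 0) :
    (δ.comp (embO c h2 k)) (reflG (Q2 F) w hw) = -1 := by
  obtain ⟨hw', h1⟩ := embO_reflG' c h2 k w hw
  rw [MonoidHom.comp_apply, h1, hδ]

/-- `(θ, δ)` is onto on each plane -/
theorem xi_surjective
    (hθ : ∀ (w : (Fin 2 × o) ⊕ x → F) (hw : Qd o c w ≠ 0),
      ((θ (reflG (Qd o c) w hw) : ℤˣ) : ℤ) = quadraticChar F (Qd o c w))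
    (hδ : ∀ (w : (Fin 2 × o) ⊕ x → F) (hw : Qd o c w ≠ 0), δ (reflG (Qd o c) w hw) = -1)
    (k : o) : Function.Surjective ((θ.prod δ).comp (embO c h2 k)) := by
  have hQ := Q2_nondeg (F := F) h2
  obtain ⟨v1, vn, hv1, hvn, hs1, hsn⟩ := exists_class_reps (Q2 F) h2 hQ (by simp)
  have hθ2 := theta_embO c h2 θ hθ k
  have hδ2 := delta_embO c h2 δ hδ k
  have e1 : ((θ.prod δ).comp (embO c h2 k)) (reflG (Q2 F) v1 hv1) = (1, -1) := by
    have a1 := theta_eq_one (Q2 F) (θ.comp (embO c h2 k)) hθ2 v1 hv1 hs1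
    have a2 := hδ2 v1 hv1
    rw [MonoidHom.comp_apply] at a1 a2
    rw [MonoidHom.comp_apply, MonoidHom.prod_apply, a1, a2]
  have en : ((θ.prod δ).comp (embO c h2 k)) (reflG (Q2 F) vn hvn) = (-1, -1) := by
    have a1 := theta_eq_neg_one (Q2 F) (θ.comp (embO c h2 k)) hθ2 vn hvn hsn
    have a2 := hδ2 vn hvn
    rw [MonoidHom.comp_apply] at a1 a2
    rw [MonoidHom.comp_apply, MonoidHom.prod_apply, a1, a2]
  rintro ⟨s, d⟩
  rcases Int.units_eq_one_or s with rfl | rfl <;> rcases Int.units_eq_one_or d with rfl | rfl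
  · exact ⟨1, map_one _⟩
  · exact ⟨_, e1⟩
  · refine ⟨reflG (Q2 F) v1 hv1 * reflG (Q2 F) vn hvn, ?_⟩
    rw [map_mul, e1, en]
    rfl
  · exact ⟨_, en⟩

theorem isPGroup_units_sq : IsPGroup 2 (ℤˣ × ℤˣ) := by
  apply IsPGroup.of_card (n := 2)
  rw [Nat.card_prod, Nat.card_eq_fintype_card, Fintype.card_units_int]
  norm_num

theorem PsiG_single_eq (S : Subgroup (GL (Fin 2) F)) (hS : S ≤ O2 F) (k : o) (s : S) :
    PsiG (o := o) c h2 S hS (Pi.mulSingle k s, 1) = embO c h2 k ⟨s.1, hS s.2⟩ := by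
  apply Subtype.ext
  rw [embO_apply, PsiG_coe, PsiG_coe, PsiS_apply, PsiS_apply]
  congr 2
  funext k'
  by_cases hk : k' = k
  · subst hk
    simp
  · simp [Pi.mulSingle_apply, hk]

/-- a Sylow `2`-subgroup of `O₂` on which `(θ, δ)` is onto -/
theorem exists_S
    (hθ : ∀ (w : (Fin 2 × o) ⊕ x → F) (hw : Qd o c w ≠ 0),
      ((θ (reflG (Qd o c) w hw) : ℤˣ) : ℤ) = quadraticChar F (Qd o c w))
    (hδ : ∀ (w : (Fin 2 × o) ⊕ x → F) (hw : Qd o c w ≠ 0), δ (reflG (Qd o c) w hw) = -1)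
    (k : o) :
    ∃ (S : Subgroup (GL (Fin 2) F)) (hS : S ≤ O2 F), IsPGroup 2 S ∧
      Nat.card S = 2 ^ (Nat.card (O2 F)).factorization 2 ∧
      ∀ a : ℤˣ × ℤˣ, ∃ s : S,
        (θ.prod δ) (PsiG (o := o) c h2 S hS (Pi.mulSingle k s, 1)) = a := by
  have : Fact (Nat.Prime 2) := ⟨Nat.prime_two⟩
  obtain ⟨P⟩ : Nonempty (Sylow 2 (O2 F)) := inferInstance
  have hsurj := xi_surjective c h2 θ δ hθ hδ k
  have htop := sylow_map_eq_top _ hsurj isPGroup_units_sq P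
  refine ⟨(P : Subgroup (O2 F)).map (O2 F).subtype, Subgroup.map_subtype_le _, P.isPGroup'.map _, ?_, ?_⟩
  · rw [Subgroup.card_map_of_injective (Subgroup.subtype_injective _), Sylow.card_eq_multiplicity]
  · intro a
    have ha : a ∈ (P : Subgroup (O2 F)).map ((θ.prod δ).comp (embO c h2 k)) := by
      rw [htop]; exact Subgroup.mem_top a
    obtain ⟨g, hg, hga⟩ := ha
    refine ⟨⟨(g : GL (Fin 2) F), Subgroup.mem_map_of_mem _ hg⟩, ?_⟩
    rw [← hga, MonoidHom.comp_apply, PsiG_single_eq]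

end Cfsg.Agent.helper17.OS
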