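import Mathlib
import Cfsg.Agent.Lib_helper17_OS5

set_option autoImplicit false
set_option linter.unusedSectionVars false

/-!
# Block permutations of order two are squares of isometries
-/

namespace Cfsg.Agent.helper17.OS

open Matrix QuadraticMap Subgroup Cfsg.Agent.helper17.GLR Cfsg.Agent.helper17.SylPC
open Cfsg.Agent.helper17.SpR (pm pm_transpose pm_mul pm_one)
open scoped Kronecker

variable {F : Type*} [Field F]
variable {o : Type} [Fintype o] [DecidableEq o]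
variable {x : Type} [Fintype x] [DecidableEq x]

/-- rotation by a quarter turn -/
def J2 (F : Type*) [Field F] : Matrix (Fin 2) (Fin 2) F := !![0, -1; 1, 0]

theorem J2_mul : J2 F * J2 F = (-1 : F) • (1 : Matrix (Fin 2) (Fin 2) F) := by
  ext i j
  fin_cases i <;> fin_cases j <;> simp [J2, Matrix.mul_apply, Fin.sum_univ_two]

theorem J2_transpose : (J2 F)ᵀ = (-1 : F) • J2 F := by
  ext i j
  fin_cases i <;> fin_cases j <;> simp [J2]

section algebra

variable (U M P : Matrix o o F)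

/-- the square root, up to the factor `2` -/
def AA : Matrix (Fin 2 × o) (Fin 2 × o) F :=
  (1 : Matrix (Fin 2) (Fin 2) F) ⊗ₖ U + J2 F ⊗ₖ M

theorem AA_mul (hUU : U * U = (2 : F) • U) (hUM : U * M = 0) (hMU : M * U = 0)
    (hMM : M * M = (2 : F) • M) (hU : U = M + (2 : F) • P) :
    AA U M * AA U M = (4 : F) • ((1 : Matrix (Fin 2) (Fin 2) F) ⊗ₖ P) := by
  unfold AA
  rw [add_mul, mul_add, mul_add, ← mul_kronecker_mul, ← mul_kronecker_mul, ← mul_kronecker_mul,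
    ← mul_kronecker_mul, hUU, hUM, hMU, hMM, Matrix.one_mul, Matrix.one_mul, Matrix.mul_one, J2_mul]
  simp only [kronecker_zero, add_zero, zero_add, kronecker_smul, smul_kronecker]
  conv_lhs => rw [hU]
  rw [kronecker_add, kronecker_smul]
  module

theorem AA_transpose (hU : Uᵀ = U) (hM : Mᵀ = M) :
    (AA U M)ᵀ = (1 : Matrix (Fin 2) (Fin 2) F) ⊗ₖ U + (-1 : F) • (J2 F ⊗ₖ M) := by
  unfold AA
  rw [transpose_add]
  have h1 : ((1 : Matrix (Fin 2) (Fin 2) F) ⊗ₖ U)ᵀ = (1 : Matrix (Fin 2) (Fin 2) F) ⊗ₖ U := by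
    show (kroneckerMap (· * ·) (1 : Matrix (Fin 2) (Fin 2) F) U)ᵀ = _
    rw [← kroneckerMap_transpose, transpose_one, hU]
  have h3 : (J2 F ⊗ₖ M)ᵀ = (-1 : F) • (J2 F ⊗ₖ M) := by
    show (kroneckerMap (· * ·) (J2 F) M)ᵀ = _
    rw [← kroneckerMap_transpose, J2_transpose, hM]
    exact smul_kronecker _ _ _
  rw [h1, h3]

theorem AA_gram (hUU : U * U = (2 : F) • U) (hUM : U * M = 0) (hMU : M * U = 0)
    (hMM : M * M = (2 : F) • M) (hUM1 : U + M = (2 : F) • 1) (hU : Uᵀ = U) (hM : Mᵀ = M) :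
    (AA U M)ᵀ * AA U M = (4 : F) • (1 : Matrix (Fin 2 × o) (Fin 2 × o) F) := by
  rw [AA_transpose U M hU hM]
  unfold AA
  rw [add_mul, mul_add, mul_add, Matrix.smul_mul, Matrix.smul_mul, ← mul_kronecker_mul,
    ← mul_kronecker_mul, ← mul_kronecker_mul, ← mul_kronecker_mul, hUU, hUM, hMU, hMM,
    Matrix.one_mul, Matrix.one_mul, Matrix.mul_one, J2_mul]
  simp only [kronecker_zero, add_zero, zero_add, kronecker_smul, smul_kronecker, smul_zero]
  have h1 : (1 : Matrix (Fin 2 × o) (Fin 2 × o) F) =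
      (1 : Matrix (Fin 2) (Fin 2) F) ⊗ₖ (1 : Matrix o o F) := one_kronecker_one.symm
  have h3 : (1 : Matrix (Fin 2) (Fin 2) F) ⊗ₖ U + (1 : Matrix (Fin 2) (Fin 2) F) ⊗ₖ M =
      (2 : F) • (1 : Matrix (Fin 2 × o) (Fin 2 × o) F) := by
    rw [← kronecker_add, hUM1, kronecker_smul, ← h1]
  have h4 : (2 : F) • (1 : Matrix (Fin 2) (Fin 2) F) ⊗ₖ U +
      (-1 : F) • (2 : F) • (-1 : F) • (1 : Matrix (Fin 2) (Fin 2) F) ⊗ₖ M =
      (2 : F) • ((1 : Matrix (Fin 2) (Fin 2) F) ⊗ₖ U + (1 : Matrix (Fin 2) (Fin 2) F) ⊗ₖ M) := by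
    module
  rw [h4, h3]
  module

end algebra

section perm

variable (τ : Equiv.Perm o) (hτ : τ * τ = 1)

include hτ in
theorem pm_props :
    let P : Matrix o o F := pm τ
    let U : Matrix o o F := 1 + P
    let M : Matrix o o F := 1 - P
    U * U = (2 : F) • U ∧ U * M = 0 ∧ M * U = 0 ∧ M * M = (2 : F) • M ∧ U = M + (2 : F) • P ∧
      U + M = (2 : F) • 1 ∧ Uᵀ = U ∧ Mᵀ = M := by
  intro P U M
  have hPP : P * P = 1 := by
    show pm (F := F) τ * pm τ = 1
    rw [← pm_mul, hτ, pm_one]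
  have hPt : Pᵀ = P := by
    show (pm (F := F) τ)ᵀ = pm τ
    rw [pm_transpose]
    congr 1
    exact inv_eq_of_mul_eq_one_left hτ
  refine ⟨?_, ?_, ?_, ?_, ?_, ?_, ?_, ?_⟩
  · show (1 + P) * (1 + P) = (2 : F) • (1 + P)
    rw [add_mul, mul_add, mul_add, hPP, Matrix.one_mul, Matrix.mul_one, Matrix.one_mul]
    module
  · show (1 + P) * (1 - P) = 0
    rw [add_mul, mul_sub, mul_sub, hPP, Matrix.one_mul, Matrix.mul_one, Matrix.one_mul]
    abel
  · show (1 - P) * (1 + P) = 0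
    rw [sub_mul, mul_add, mul_add, hPP, Matrix.one_mul, Matrix.mul_one, Matrix.one_mul]
    abel
  · show (1 - P) * (1 - P) = (2 : F) • (1 - P)
    rw [sub_mul, mul_sub, mul_sub, hPP, Matrix.one_mul, Matrix.mul_one, Matrix.one_mul]
    module
  · show (1 + P) = (1 - P) + (2 : F) • P
    module
  · show (1 + P) + (1 - P) = (2 : F) • 1
    module
  · show (1 + P)ᵀ = 1 + P
    rw [transpose_add, transpose_one, hPt]
  · show (1 - P)ᵀ = 1 - P
    rw [transpose_sub, transpose_one, hPt]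

end perm

end Cfsg.Agent.helper17.OS

namespace Cfsg.Agent.helper17.OS

open Matrix QuadraticMap Subgroup Cfsg.Agent.helper17.GLR Cfsg.Agent.helper17.SylPC
open Cfsg.Agent.helper17.SpR (pm pm_transpose pm_mul pm_one)
open scoped Kronecker

variable {F : Type*} [Field F]
variable {o : Type} [Fintype o] [DecidableEq o]
variable {x : Type} [Fintype x] [DecidableEq x]

/-- the square root of the block permutation matrix of an involution -/
noncomputable def rootM (τ : Equiv.Perm o) : Matrix (Fin 2 × o) (Fin 2 × o) F :=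
  (2 : F)⁻¹ • AA (1 + pm τ) (1 - pm τ)

theorem rootM_mul (h2 : (2 : F) ≠ 0) (τ : Equiv.Perm o) (hτ : τ * τ = 1) :
    rootM (F := F) τ * rootM τ = pmB (bt := Fin 2) τ := by
  obtain ⟨hUU, hUM, hMU, hMM, hU, -, -, -⟩ := pm_props (F := F) τ hτ
  unfold rootM
  rw [Matrix.smul_mul, Matrix.mul_smul, AA_mul _ _ (pm τ) hUU hUM hMU hMM hU, smul_smul, smul_smul,
    pmB_eq_kronecker]
  have : (2 : F)⁻¹ * (2 : F)⁻¹ * 4 = 1 := by
    field_simp
    norm_num
  rw [this, one_smul]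

theorem rootM_gram (h2 : (2 : F) ≠ 0) (τ : Equiv.Perm o) (hτ : τ * τ = 1) :
    (rootM (F := F) τ)ᵀ * rootM τ = 1 := by
  obtain ⟨hUU, hUM, hMU, hMM, -, hUM1, hUt, hMt⟩ := pm_props (F := F) τ hτ
  unfold rootM
  rw [transpose_smul, Matrix.smul_mul, Matrix.mul_smul, AA_gram _ _ hUU hUM hMU hMM hUM1 hUt hMt,
    smul_smul, smul_smul]
  have : (2 : F)⁻¹ * (2 : F)⁻¹ * 4 = 1 := by
    field_simp
    norm_num
  rw [this, one_smul]

/-- the square root as an element of `GL` -/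
noncomputable def rootGL (h2 : (2 : F) ≠ 0) (τ : Equiv.Perm o) (hτ : τ * τ = 1) :
    GL ((Fin 2 × o) ⊕ x) F :=
  ⟨fromBlocks (rootM τ) 0 0 1, fromBlocks (rootM τ)ᵀ 0 0 1, by
    rw [fromBlocks_multiply]
    have := mul_eq_one_comm.mp (rootM_gram h2 τ hτ)
    simp [this, fromBlocks_one], by
    rw [fromBlocks_multiply]
    simp [rootM_gram h2 τ hτ, fromBlocks_one]⟩

theorem rootGL_mem (h2 : (2 : F) ≠ 0) (c : x → F) (τ : Equiv.Perm o) (hτ : τ * τ = 1) :
    rootGL (x := x) h2 τ hτ ∈ GG o c := by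
  apply mem_iso_of_gram
  show (fromBlocks (rootM τ) 0 0 1)ᵀ * diagonal (cf o c) * fromBlocks (rootM τ) 0 0 1 = _
  rw [diagonal_cf, fromBlocks_transpose, fromBlocks_multiply, fromBlocks_multiply]
  simp only [Matrix.mul_one, Matrix.mul_zero, Matrix.zero_mul, add_zero, zero_add,
    transpose_zero, transpose_one, Matrix.one_mul]
  rw [rootM_gram h2 τ hτ]

theorem rootGL_mul (h2 : (2 : F) ≠ 0) (τ : Equiv.Perm o) (hτ : τ * τ = 1) :
    rootGL (x := x) h2 τ hτ * rootGL h2 τ hτ = perm (F := F) (bt := Fin 2) (x := x) τ := by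
  apply Units.ext
  show fromBlocks (rootM τ) 0 0 1 * fromBlocks (rootM τ) 0 0 1 = fromBlocks (pmB τ) 0 0 1
  rw [fromBlocks_multiply]
  simp only [Matrix.mul_one, Matrix.mul_zero, Matrix.zero_mul, add_zero, zero_add]
  rw [rootM_mul h2 τ hτ]

/-- every homomorphism to `{±1}` kills the block permutations of order two -/
theorem hom_pmG_invol (h2 : (2 : F) ≠ 0) (c : x → F) (φ : GG o c →* ℤˣ) (τ : Equiv.Perm o)
    (hτ : τ * τ = 1) : φ (pmG c τ) = 1 := by
  have h1 : pmG c τ = (⟨rootGL h2 τ hτ, rootGL_mem h2 c τ hτ⟩ : GG o c) *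
      ⟨rootGL h2 τ hτ, rootGL_mem h2 c τ hτ⟩ := by
    apply Subtype.ext
    rw [Subgroup.coe_mul, pmG_coe]
    exact (rootGL_mul h2 τ hτ).symm
  rw [h1, map_mul, Int.units_mul_self]

/-- the same for a subgroup generated by involutions -/
theorem hom_pmG_gen (h2 : (2 : F) ≠ 0) (c : x → F) (φ : GG o c →* ℤˣ) (T : Subgroup (Equiv.Perm o))
    (gT : T ≤ closure {t | t ∈ T ∧ t ^ 2 = 1}) (t : Equiv.Perm o) (ht : t ∈ T) :
    φ (pmG c t) = 1 := by
  have h1 : closure {t | t ∈ T ∧ t ^ 2 = 1} ≤ (φ.comp (pmG c)).ker := by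
    rw [Subgroup.closure_le]
    rintro s ⟨_, hs⟩
    rw [SetLike.mem_coe, MonoidHom.mem_ker, MonoidHom.comp_apply]
    apply hom_pmG_invol h2
    rw [← pow_two]; exact hs
  exact h1 (gT ht)

end Cfsg.Agent.helper17.OS
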