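import Mathlib
import Cfsg.Agent.Lib_helper17_OS6

set_option autoImplicit false
set_option linter.unusedSectionVars false

/-!
# The block diagonal group: determinants and inversion
-/

namespace Cfsg.Agent.helper17.OS

open Matrix QuadraticMap Subgroup Cfsg.Agent.helper17.GLR Cfsg.Agent.helper17.SylPC
open scoped commutatorElement

variable {F : Type*} [Field F]
variable {o : Type} [Fintype o] [DecidableEq o]
variable {x : Type} [Fintype x] [DecidableEq x]

section S

variable (h2 : (2 : F) ≠ 0) (S : Subgroup (GL (Fin 2) F)) (hS : S ≤ O2 F)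

/-- the determinant on `S` -/
def dt (s : S) : F := ((s : GL (Fin 2) F) : Matrix (Fin 2) (Fin 2) F).det

theorem dt_mul (s t : S) : dt S (s * t) = dt S s * dt S t := by
  unfold dt
  rw [Subgroup.coe_mul, Units.val_mul, det_mul]

theorem dt_one : dt S (1 : S) = 1 := by
  unfold dt
  simp

include h2 hS in
theorem dt_cases (s : S) : dt S s = 1 ∨ dt S s = -1 := O2_det h2 s.1 (hS s.2)

include h2 hS in
theorem sq_of_dt (s : S) (h : dt S s = -1) : s * s = 1 := by
  apply Subtype.ext
  rw [Subgroup.coe_mul]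
  exact O2_invol h2 s.1 (hS s.2) h

include h2 hS in
theorem inv_of_dt (r u : S) (hr : dt S r = -1) (hu : dt S u = 1) : r * u * r⁻¹ = u⁻¹ := by
  have h1 : r * r = 1 := sq_of_dt h2 S hS r hr
  have h3 : (r * u) * (r * u) = 1 := by
    apply sq_of_dt h2 S hS
    rw [dt_mul, hr, hu]; ring
  have h4 : r⁻¹ = r := inv_eq_of_mul_eq_one_left h1
  rw [h4]
  apply eq_inv_of_mul_eq_one_left
  rw [← h3]; group

theorem comm_pair (k k' : o) (hk : k ≠ k') (r u v : S) (hru : r * u * r⁻¹ = u⁻¹)
    (hrv : r * v * r⁻¹ = v⁻¹) :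
    ⁅(((Pi.mulSingle k r * Pi.mulSingle k' r : o → S), (1 : x → ℤˣ)) : (o → S) × (x → ℤˣ)),
      ((Pi.mulSingle k u * Pi.mulSingle k' v : o → S), (1 : x → ℤˣ))⁆ =
      ((((Pi.mulSingle k u * Pi.mulSingle k' v : o → S), (1 : x → ℤˣ)) : (o → S) × (x → ℤˣ)) ^ 2)⁻¹ := by
  rw [commutatorElement_def]
  apply Prod.ext
  · funext i
    simp only [Prod.fst_mul, Prod.fst_inv, Prod.pow_fst, Pi.mul_apply, Pi.inv_apply, Pi.pow_apply]
    by_cases h1 : i = k
    · subst h1
      rw [Pi.mulSingle_eq_same, Pi.mulSingle_eq_same, Pi.mulSingle_eq_of_ne hk,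
        Pi.mulSingle_eq_of_ne hk, mul_one, mul_one, hru, pow_two, _root_.mul_inv_rev]
    · by_cases h3 : i = k'
      · subst h3
        rw [Pi.mulSingle_eq_same, Pi.mulSingle_eq_same, Pi.mulSingle_eq_of_ne h1,
          Pi.mulSingle_eq_of_ne h1, one_mul, one_mul, hrv, pow_two, _root_.mul_inv_rev]
      · rw [Pi.mulSingle_eq_of_ne h1, Pi.mulSingle_eq_of_ne h1, Pi.mulSingle_eq_of_ne h3,
          Pi.mulSingle_eq_of_ne h3]
        simp
  · simp

theorem prod_dt_single (k : o) (s : S) : ∏ k', dt S ((Pi.mulSingle k s : o → S) k') = dt S s := by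
  rw [Finset.prod_eq_single k]
  · rw [Pi.mulSingle_eq_same]
  · intro b _ hb
    rw [Pi.mulSingle_eq_of_ne hb, dt_one]
  · intro h; exact absurd (Finset.mem_univ k) h

theorem prod_dt_pair (k k' : o) (hk : k ≠ k') (s t : S) :
    ∏ i, dt S ((Pi.mulSingle k s * Pi.mulSingle k' t : o → S) i) = dt S s * dt S t := by
  have h1 : ∀ i, dt S ((Pi.mulSingle k s * Pi.mulSingle k' t : o → S) i) =
      dt S ((Pi.mulSingle k s : o → S) i) * dt S ((Pi.mulSingle k' t : o → S) i) := by
    intro i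
    rw [Pi.mul_apply, dt_mul]
  simp only [h1]
  rw [Finset.prod_mul_distrib, prod_dt_single, prod_dt_single]

end S

end Cfsg.Agent.helper17.OS
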