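import Mathlib
import Cfsg.Agent.Lib_helper17_OS7

set_option autoImplicit false
set_option linter.unusedSectionVars false
set_option maxHeartbeats 1000000

/-!
# Squares in the derived subgroup for the explicit Sylow 2-subgroup of `Ω` of the model form
-/

namespace Cfsg.Agent.helper17.OS

open Matrix QuadraticMap Subgroup Cfsg.Agent.helper17.GLR Cfsg.Agent.helper17.SylPC
open scoped commutatorElement

variable {F : Type*} [Field F]
variable {o : Type} [Fintype o] [DecidableEq o]
variable {x : Type} [Fintype x] [DecidableEq x]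

theorem units_prod_sq (a : ℤˣ × ℤˣ) : a * a = 1 := by
  obtain ⟨a, b⟩ := a
  rw [Prod.mk_mul_mk, Int.units_mul_self, Int.units_mul_self]
  rfl

theorem prod_single_neg (j : x) :
    ∏ j', ((((Pi.mulSingle j (-1 : ℤˣ) : x → ℤˣ) j' : ℤˣ) : ℤ) : F) = -1 := by
  rw [Finset.prod_eq_single j]
  · rw [Pi.mulSingle_eq_same]; simp
  · intro b _ hb
    rw [Pi.mulSingle_eq_of_ne hb]; simp
  · intro h; exact absurd (Finset.mem_univ j) h

/-- generation of the product group by single coordinates -/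
theorem gen_singles (S : Type*) [Group S] (C : Subgroup ((o → S) × (x → ℤˣ)))
    (h1 : ∀ (k : o) (s : S), ((Pi.mulSingle k s : o → S), (1 : x → ℤˣ)) ∈ C)
    (h3 : ∀ j : x, ((1 : o → S), (Pi.mulSingle j (-1 : ℤˣ) : x → ℤˣ)) ∈ C) : C = ⊤ := by
  rw [eq_top_iff]
  rintro ⟨p, e⟩ -
  have hp : p ∈ C.comap (MonoidHom.inl (o → S) (x → ℤˣ)) := by
    apply Subgroup.pi_mem_of_mulSingle_mem
    intro k
    exact h1 k (p k)
  have he : e ∈ C.comap (MonoidHom.inr (o → S) (x → ℤˣ)) := by
    apply Subgroup.pi_mem_of_mulSingle_mem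
    intro j
    rcases Int.units_eq_one_or (e j) with h | h
    · rw [h, Pi.mulSingle_one]; exact Subgroup.one_mem _
    · rw [h]; exact h3 j
  have : ((p, e) : (o → S) × (x → ℤˣ)) = (p, 1) * (1, e) := by
    rw [Prod.mk_mul_mk, mul_one, one_mul]
  rw [this]
  exact C.mul_mem hp he

theorem single_comm {S : Type*} [Group S] (k k' : o) (h : k ≠ k') (s t : S) :
    (Pi.mulSingle k s : o → S) * Pi.mulSingle k' t = Pi.mulSingle k' t * Pi.mulSingle k s :=
  (Pi.mulSingle_commute (f := fun _ : o => S) h s t).eq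

theorem pair_sq_one {S : Type*} [Group S] (k₀ k : o) (hk : k₀ ≠ k) (s : S) (hs : s * s = 1) :
    (((Pi.mulSingle k₀ s * Pi.mulSingle k s : o → S), (1 : x → ℤˣ)) : (o → S) × (x → ℤˣ)) ^ 2 =
      1 := by
  apply Prod.ext
  · funext i
    simp only [Prod.pow_fst, Pi.pow_apply, Pi.mul_apply, Prod.fst_one, Pi.one_apply]
    by_cases h1 : i = k₀
    · subst h1
      rw [Pi.mulSingle_eq_same, Pi.mulSingle_eq_of_ne hk, mul_one, pow_two, hs]
    · by_cases h3 : i = k
      · subst h3
        rw [Pi.mulSingle_eq_same, Pi.mulSingle_eq_of_ne h1, one_mul, pow_two, hs]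
      · rw [Pi.mulSingle_eq_of_ne h1, Pi.mulSingle_eq_of_ne h3, one_mul, one_pow]
  · simp

theorem mixed_sq_one {S : Type*} [Group S] (k₀ : o) (j : x) (g : S) (hg : g * g = 1) :
    (((Pi.mulSingle k₀ g : o → S), (Pi.mulSingle j (-1) : x → ℤˣ)) : (o → S) × (x → ℤˣ)) ^ 2 =
      1 := by
  apply Prod.ext
  · funext i
    simp only [Prod.pow_fst, Pi.pow_apply, Prod.fst_one, Pi.one_apply]
    by_cases h1 : i = k₀
    · subst h1
      rw [Pi.mulSingle_eq_same, pow_two, hg]
    · rw [Pi.mulSingle_eq_of_ne h1, one_pow]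
  · funext i
    simp only [Prod.pow_snd, Pi.pow_apply, Prod.snd_one, Pi.one_apply]
    rw [pow_two, Int.units_mul_self]

end Cfsg.Agent.helper17.OS
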