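import Mathlib
import Cfsg.Agent.Lib_helper17_OS8

set_option autoImplicit false
set_option linter.unusedSectionVars false
set_option maxHeartbeats 1000000

/-!
# Squares in the derived subgroup for the explicit Sylow 2-subgroup of `Ω` of the model form
-/

namespace Cfsg.Agent.helper17.OS

open Matrix QuadraticMap Subgroup Cfsg.Agent.helper17.GLR Cfsg.Agent.helper17.SylPC
open scoped commutatorElement

variable {F : Type*} [Field F]
variable {o : Type} [Fintype o] [DecidableEq o]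
variable {x : Type} [Fintype x] [DecidableEq x]

theorem pc_model (h2 : (2 : F) ≠ 0) (c : x → F) (θ δ : GG o c →* ℤˣ)
    (hmem : ∀ g : GG o c, g ∈ commutator (GG o c) ↔ θ g = 1 ∧ δ g = 1)
    (hdet : ∀ g : GG o c, δ g = 1 ↔
      ((g : GL ((Fin 2 × o) ⊕ x) F) : Matrix ((Fin 2 × o) ⊕ x) ((Fin 2 × o) ⊕ x) F).det = 1)
    (S : Subgroup (GL (Fin 2) F)) (hS : S ≤ O2 F) (k₀ k₁ : o) (hk : k₀ ≠ k₁)
    (hsurj : ∀ a : ℤˣ × ℤˣ, ∃ s : S,
      (θ.prod δ) (PsiG (o := o) c h2 S hS (Pi.mulSingle k₀ s, 1)) = a)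
    (T : Subgroup (Equiv.Perm o)) (gT : T ≤ closure {t | t ∈ T ∧ t ^ 2 = 1}) :
    PC (((PsiG (o := o) c h2 S hS).range ⊔ T.map (pmG c)) ⊓ commutator (GG o c)) := by
  classical
  set Ψ := PsiG (o := o) c h2 S hS with hΨ
  set Ξ : ((o → S) × (x → ℤˣ)) →* ℤˣ × ℤˣ := (θ.prod δ).comp Ψ with hΞ
  set B := Ψ.range with hB
  set H' := T.map (pmG (o := o) c) with hH'
  set Ω := commutator (GG o c) with hΩdef
  set N := (B ⊔ H') ⊓ Ω with hN
  have hne : (-1 : F) ≠ 1 := by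
    intro h; apply h2; linear_combination -h
  have hΩ : ∀ γ, Ψ γ ∈ Ω ↔ Ξ γ = 1 := by
    intro γ
    rw [hΩdef, hmem, hΞ, MonoidHom.comp_apply, MonoidHom.prod_apply, Prod.mk_eq_one]
  have hδ : ∀ γ : (o → S) × (x → ℤˣ), δ (Ψ γ) = 1 ↔
      (∏ k, dt S (γ.1 k)) * ∏ j, (((γ.2 j : ℤˣ) : ℤ) : F) = 1 := by
    intro γ
    rw [hdet, hΨ, det_PsiG]
    rfl
  have hΞδ : ∀ γ, Ξ γ = 1 → δ (Ψ γ) = 1 := by
    intro γ h
    rw [hΞ, MonoidHom.comp_apply, MonoidHom.prod_apply, Prod.mk_eq_one] at h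
    exact h.2
  -- (A) independence of the plane
  have hswap : ∀ (k : o) (s : S), Ξ (Pi.mulSingle k s, 1) = Ξ (Pi.mulSingle k₀ s, 1) := by
    intro k s
    have h1 := pmG_conj_PsiG (o := o) c h2 S hS (Equiv.swap k k₀) (Pi.mulSingle k s, 1)
    have h3 : (fun k' => (Pi.mulSingle k s : o → S) ((Equiv.swap k k₀)⁻¹ k')) =
        Pi.mulSingle k₀ s := by
      funext k'
      rw [Equiv.swap_inv]
      by_cases h4 : k' = k₀
      · subst h4
        rw [Equiv.swap_apply_right, Pi.mulSingle_eq_same, Pi.mulSingle_eq_same]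
      · rw [Pi.mulSingle_eq_of_ne h4, Pi.mulSingle_eq_of_ne]
        intro h5
        apply h4
        have := congrArg (Equiv.swap k k₀) h5
        rw [Equiv.swap_apply_self, Equiv.swap_apply_left] at this
        exact this
    simp only [h3] at h1
    have h5 := congrArg (θ.prod δ) h1
    rw [map_mul, map_mul, map_inv, mul_comm, inv_mul_cancel_left] at h5
    rw [hΞ, MonoidHom.comp_apply, MonoidHom.comp_apply]
    exact h5
  -- (D) a reflection
  obtain ⟨r, hr⟩ := hsurj (1, -1)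
  have hrdt : dt S r = -1 := by
    rcases dt_cases h2 S hS r with h | h
    · exfalso
      have h1 : δ (Ψ (Pi.mulSingle k₀ r, 1)) = 1 := by
        rw [hδ]
        simp only [prod_dt_single, h]
        simp
      rw [MonoidHom.prod_apply, Prod.mk.injEq] at hr
      rw [hr.2] at h1
      exact absurd h1 (by decide)
    · exact h
  -- (E) partners of the signs
  have hEx : ∀ j : x, ∃ g : S, Ξ (Pi.mulSingle k₀ g, 1) = Ξ (1, Pi.mulSingle j (-1)) := by
    intro j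
    obtain ⟨g, hg⟩ := hsurj (Ξ (1, Pi.mulSingle j (-1)))
    exact ⟨g, hg⟩
  choose gj hgj using hEx
  have hgjdt : ∀ j, dt S (gj j) = -1 := by
    intro j
    rcases dt_cases h2 S hS (gj j) with h | h
    · exfalso
      have h1 : δ (Ψ (Pi.mulSingle k₀ (gj j), 1)) = 1 := by
        rw [hδ]
        simp only [prod_dt_single, h]
        simp
      have h3 : δ (Ψ (1, Pi.mulSingle j (-1))) = 1 := by
        have h4 := hgj j
        rw [hΞ, MonoidHom.comp_apply, MonoidHom.comp_apply, MonoidHom.prod_apply,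
          MonoidHom.prod_apply, Prod.mk.injEq] at h4
        rw [← h4.2]; exact h1
      rw [hδ] at h3
      simp only [Pi.one_apply, dt_one, Finset.prod_const_one, one_mul] at h3
      rw [prod_single_neg] at h3
      exact hne h3
    · exact h
  -- the generating data
  set ι₀ : S →* (o → S) × (x → ℤˣ) :=
    (MonoidHom.inl (o → S) (x → ℤˣ)).comp (MonoidHom.mulSingle (fun _ : o => S) k₀) with hι₀
  have hι₀a : ∀ s, ι₀ s = (Pi.mulSingle k₀ s, 1) := fun s => rfl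
  set E := ι₀.range with hE
  set Z : Set (((o → S) × (x → ℤˣ)) × ((o → S) × (x → ℤˣ))) :=
    {z | ∃ (k : o) (s : S), k ≠ k₀ ∧ z = ((Pi.mulSingle k₀ s⁻¹, 1), (Pi.mulSingle k s, 1))} ∪
      {z | ∃ j : x, z = ((Pi.mulSingle k₀ (gj j), 1), (1, Pi.mulSingle j (-1)))} with hZ
  have hZE : ∀ z ∈ Z, z.1 ∈ E := by
    rintro z (⟨k, s, _, rfl⟩ | ⟨j, rfl⟩)
    · exact ⟨s⁻¹, rfl⟩
    · exact ⟨gj j, rfl⟩
  have hcomm : ∀ z ∈ Z, ∀ e ∈ E, z.2 * e = e * z.2 := by
    rintro z (⟨k, s, hk0, rfl⟩ | ⟨j, rfl⟩) e ⟨s', rfl⟩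
    · rw [hι₀a, Prod.mk_mul_mk, Prod.mk_mul_mk]
      congr 1
      exact single_comm k k₀ hk0 s s'
    · rw [hι₀a, Prod.mk_mul_mk, Prod.mk_mul_mk, one_mul, mul_one, one_mul, mul_one]
  have hZΞ : ∀ z ∈ Z, Ξ (z.1 * z.2) = 1 := by
    rintro z (⟨k, s, hk0, rfl⟩ | ⟨j, rfl⟩)
    · rw [map_mul, hswap k s]
      have : ((Pi.mulSingle k₀ s⁻¹ : o → S), (1 : x → ℤˣ)) = (Pi.mulSingle k₀ s, 1)⁻¹ := by
        rw [Prod.inv_mk, inv_one, Pi.mulSingle_inv]
      rw [this, map_inv, inv_mul_cancel]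
    · rw [map_mul, hgj j]
      exact units_prod_sq _
  have hgen : closure ((E : Set ((o → S) × (x → ℤˣ))) ∪ (Prod.snd '' Z)) = ⊤ := by
    apply gen_singles
    · intro k s
      by_cases hk0 : k = k₀
      · subst hk0
        exact Subgroup.subset_closure (Or.inl ⟨s, rfl⟩)
      · exact Subgroup.subset_closure (Or.inr ⟨_, Or.inl ⟨k, s, hk0, rfl⟩, rfl⟩)
    · intro j
      exact Subgroup.subset_closure (Or.inr ⟨_, Or.inr ⟨j, rfl⟩, rfl⟩)
  have hker := ker_le_closure Ξ E Z hZE hcomm hZΞ hgen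
  set gens : Set ((o → S) × (x → ℤˣ)) :=
    {e | e ∈ E ∧ Ξ e = 1} ∪ {w | ∃ z ∈ Z, w = z.1 * z.2} with hgens
  have hgensΞ : ∀ γ ∈ gens, Ξ γ = 1 := by
    rintro γ (⟨_, h⟩ | ⟨z, hz, rfl⟩)
    · exact h
    · exact hZΞ z hz
  -- the block permutations lie in `Ω`
  have hpmΩ : ∀ t ∈ T, pmG c t ∈ Ω := by
    intro t ht
    rw [hΩdef, hmem]
    exact ⟨hom_pmG_gen h2 c θ T gT t ht, hom_pmG_gen h2 c δ T gT t ht⟩
  have hnorm : H' ≤ normalizer (B : Set (GG o c)) := by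
    rintro _ ⟨σ, _, rfl⟩
    exact pmG_mem_normalizer c h2 S hS σ
  have hH'W : H' ≤ closure {g | g ∈ N ∧ g ^ 2 = 1} := by
    have h1 : H' ≤ (closure {t | t ∈ T ∧ t ^ 2 = 1}).map (pmG (o := o) c) := Subgroup.map_mono gT
    refine h1.trans ?_
    rw [MonoidHom.map_closure]
    apply Subgroup.closure_mono
    rintro _ ⟨t, ⟨htT, ht2⟩, rfl⟩
    refine ⟨⟨(le_sup_right : H' ≤ B ⊔ H') (Subgroup.mem_map_of_mem _ htT), hpmΩ t htT⟩, ?_⟩
    rw [← map_pow, ht2, map_one]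
  have hΨN : ∀ γ, Ξ γ = 1 → Ψ γ ∈ N := by
    intro γ h
    exact ⟨(le_sup_left : B ≤ B ⊔ H') ⟨γ, rfl⟩, (hΩ γ).mpr h⟩
  -- key: squares of pairs
  have hkey : ∀ (k k' : o), k ≠ k' → ∀ u v : S, dt S u = 1 → dt S v = 1 →
      Ξ (Pi.mulSingle k u * Pi.mulSingle k' v, 1) = 1 →
      (Ψ (Pi.mulSingle k u * Pi.mulSingle k' v, 1)) ^ 2 ∈ ⁅N, N⁆ := by
    intro k k' hkk u v hu hv hΞuv
    have hru := inv_of_dt h2 S hS r u hrdt hu
    have hrv := inv_of_dt h2 S hS r v hrdt hv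
    have h1 := comm_pair (x := x) S k k' hkk r u v hru hrv
    have hn1 : Ψ (Pi.mulSingle k r * Pi.mulSingle k' r, 1) ∈ N := by
      apply hΨN
      have : (((Pi.mulSingle k r * Pi.mulSingle k' r : o → S), (1 : x → ℤˣ)) :
          (o → S) × (x → ℤˣ)) = (Pi.mulSingle k r, 1) * (Pi.mulSingle k' r, 1) := by
        rw [Prod.mk_mul_mk, mul_one]
      rw [this, map_mul, hswap k r, hswap k' r]
      exact units_prod_sq _
    have hn2 : Ψ (Pi.mulSingle k u * Pi.mulSingle k' v, 1) ∈ N := hΨN _ hΞuv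
    have h3 : (Ψ (Pi.mulSingle k u * Pi.mulSingle k' v, 1)) ^ 2 =
        (⁅Ψ (Pi.mulSingle k r * Pi.mulSingle k' r, 1),
          Ψ (Pi.mulSingle k u * Pi.mulSingle k' v, 1)⁆)⁻¹ := by
      rw [← map_commutatorElement, h1, map_inv, inv_inv, map_pow]
    rw [h3]
    exact Subgroup.inv_mem _ (Subgroup.commutator_mem_commutator hn1 hn2)
  apply pc_of_closure N ((Ψ '' gens) ∪ {g | g ∈ N ∧ g ^ 2 = 1})
  · rintro g (⟨γ, hγ, rfl⟩ | hg)
    · exact hΨN γ (hgensΞ γ hγ)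
    · exact hg.1
  · intro w hw
    obtain ⟨b, hb, h, hh, rfl⟩ := mem_sup_decomp B H' hnorm w hw.1
    obtain ⟨γ, rfl⟩ := hb
    have hhW : h ∈ closure ((Ψ '' gens) ∪ {g | g ∈ N ∧ g ^ 2 = 1}) :=
      (Subgroup.closure_mono Set.subset_union_right) (hH'W hh)
    have hhΩ : h ∈ Ω := by
      obtain ⟨t, ht, rfl⟩ := hh
      exact hpmΩ t ht
    have hγΩ : Ψ γ ∈ Ω := by
      have : Ψ γ = (Ψ γ * h) * h⁻¹ := by group
      rw [this]
      exact Ω.mul_mem hw.2 (Ω.inv_mem hhΩ)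
    have hγker : γ ∈ Ξ.ker := (hΩ γ).mp hγΩ
    have hγc : γ ∈ closure gens := hker hγker
    apply Subgroup.mul_mem _ _ hhW
    have h5 : Ψ γ ∈ (closure gens).map Ψ := Subgroup.mem_map_of_mem _ hγc
    rw [MonoidHom.map_closure] at h5
    exact (Subgroup.closure_mono Set.subset_union_left) h5
  · rintro s (⟨γ, hγ, rfl⟩ | hs)
    · rcases hγ with ⟨⟨s₀, rfl⟩, hΞe⟩ | ⟨z, hz, rfl⟩
      · -- `e = ι₀ s₀`
        rw [hι₀a] at hΞe ⊢
        have hs₀ : dt S s₀ = 1 := by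
          have := (hδ _).mp (hΞδ _ hΞe)
          simp only [prod_dt_single] at this
          simpa using this
        have h1 := hkey k₀ k₁ hk s₀ 1 hs₀ (dt_one S)
        rw [Pi.mulSingle_one, mul_one] at h1
        exact h1 hΞe
      · rcases hz with ⟨k, s₀, hk0, rfl⟩ | ⟨j, rfl⟩
        · dsimp only
          rw [Prod.mk_mul_mk, mul_one]
          rcases dt_cases h2 S hS s₀ with hd | hd
          · have hd' : dt S s₀⁻¹ = 1 := by
              have := dt_mul S s₀ s₀⁻¹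
              rw [mul_inv_cancel, dt_one, hd, one_mul] at this
              exact this.symm
            apply hkey k₀ k (Ne.symm hk0) s₀⁻¹ s₀ hd' hd
            have := hZΞ _ (Or.inl ⟨k, s₀, hk0, rfl⟩)
            rw [Prod.mk_mul_mk, mul_one] at this
            exact this
          · have hsq : s₀ * s₀ = 1 := sq_of_dt h2 S hS s₀ hd
            have hinv : s₀⁻¹ = s₀ := inv_eq_of_mul_eq_one_left hsq
            rw [← map_pow]
            have : (((Pi.mulSingle k₀ s₀⁻¹ * Pi.mulSingle k s₀ : o → S), (1 : x → ℤˣ)) :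
                (o → S) × (x → ℤˣ)) ^ 2 = 1 := by
              rw [hinv]
              exact pair_sq_one k₀ k (Ne.symm hk0) s₀ hsq
            rw [this, map_one]
            exact Subgroup.one_mem _
        · dsimp only
          rw [← map_pow]
          have hsq : gj j * gj j = 1 := sq_of_dt h2 S hS (gj j) (hgjdt j)
          have : ((((Pi.mulSingle k₀ (gj j) : o → S), (1 : x → ℤˣ)) *
              ((1 : o → S), (Pi.mulSingle j (-1) : x → ℤˣ))) : (o → S) × (x → ℤˣ)) ^ 2 = 1 := by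
            rw [Prod.mk_mul_mk, mul_one, one_mul]
            exact mixed_sq_one k₀ j (gj j) hsq
          rw [this, map_one]
          exact Subgroup.one_mem _
    · rw [hs.2]; exact Subgroup.one_mem _

end Cfsg.Agent.helper17.OS
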