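import Mathlib
import Cfsg.Agent.Lib_helper17_OS9

set_option autoImplicit false
set_option linter.unusedSectionVars false

/-!
# `PropS` for `Ω` of the model form
-/

namespace Cfsg.Agent.helper17.OS

open Matrix QuadraticMap Subgroup Cfsg.Agent.helper17.GLR Cfsg.Agent.helper17.SylPC
open Cfsg.Agent.helper13

variable {F : Type*} [Field F] [Fintype F] [DecidableEq F]
variable {o : Type} [Fintype o] [DecidableEq o]
variable {x : Type} [Fintype x] [DecidableEq x]

theorem model_propS (h2 : (2 : F) ≠ 0) (c : x → F) (hc : ∀ j, c j ≠ 0) (k₀ k₁ : o) (hk : k₀ ≠ k₁)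
    (T : Subgroup (Equiv.Perm o)) (hT : IsPGroup 2 T) (gT : T ≤ closure {t | t ∈ T ∧ t ^ 2 = 1})
    (hcard : 2 ^ (Nat.card (GG o c)).factorization 2 ≤
      (2 ^ (Nat.card (O2 F)).factorization 2) ^ Fintype.card o * 2 ^ Fintype.card x * Nat.card T) :
    PropS (commutator (GG o c)) := by
  have hQ := Qd_nondeg (o := o) h2 c hc
  obtain ⟨θ, hθ⟩ := exists_spinor (Qd o c) h2 hQ
  obtain ⟨δ, hδ, hdet⟩ := exists_detSign (Qd o c) h2 hQ
  have hn : 2 ≤ Fintype.card ((Fin 2 × o) ⊕ x) := by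
    rw [Fintype.card_sum, Fintype.card_prod, Fintype.card_fin]
    have : 0 < Fintype.card o := Fintype.card_pos_iff.mpr ⟨k₀⟩
    omega
  have hmem := mem_commutator_iff (Qd o c) θ δ h2 hQ hn hθ hδ
  obtain ⟨S, hS, hSp, hScard, hsurj⟩ := exists_S c h2 θ δ hθ hδ k₀
  have hPC := pc_model h2 c θ δ hmem hdet S hS k₀ k₁ hk hsurj T gT
  set B := (PsiG (o := o) c h2 S hS).range with hB
  set H' := T.map (pmG (o := o) c) with hH'
  have : Finite S := Nat.finite_of_card_ne_zero (by rw [hScard]; positivity)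
  have hcB : Nat.card B = Nat.card S ^ Fintype.card o * 2 ^ Fintype.card x :=
    card_PsiG_range c h2 S hS
  have hBp : IsPGroup 2 B := by
    apply IsPGroup.of_card (n := (Nat.card (O2 F)).factorization 2 * Fintype.card o + Fintype.card x)
    rw [hcB, hScard, pow_add, pow_mul]
  have hH'p : IsPGroup 2 H' := hT.map _
  have hnorm : H' ≤ normalizer (B : Set (GG o c)) := by
    rintro _ ⟨σ, _, rfl⟩
    exact pmG_mem_normalizer c h2 S hS σ
  have hWp : IsPGroup 2 (B ⊔ H' : Subgroup (GG o c)) :=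
    IsPGroup.to_sup_of_normal_left' hBp hH'p hnorm
  have hd : Disjoint B H' := disjoint_PsiG_pmG c h2 S hS T
  apply sylow_normal_of_pc (commutator (GG o c)) (B ⊔ H') hWp _ hPC
  refine le_trans hcard (le_trans ?_ (card_sup_ge' B H' hd))
  rw [hcB, hScard, hH', Subgroup.card_map_of_injective (pmG_injective (o := o) c h2)]

end Cfsg.Agent.helper17.OS
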