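import Mathlib
import Cfsg.Agent.Lib_helper17_OS2

set_option autoImplicit false
set_option linter.unusedSectionVars false

/-!
# Transport of isometry groups along an orthogonal basis
-/

namespace Cfsg.Agent.helper17.OS

open Matrix QuadraticMap Module

variable {F : Type*} [Field F]

section transport
variable {ι κ : Type} [Fintype ι] [DecidableEq ι] [Fintype κ] [DecidableEq κ]

/-- conjugation by an invertible matrix between two index types -/
def cjGL (P : Matrix ι κ F) (P' : Matrix κ ι F) (h1 : P * P' = 1) (h2 : P' * P = 1) :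
    GL ι F →* GL κ F where
  toFun g := ⟨P' * (g : Matrix ι ι F) * P, P' * ((g⁻¹ : GL ι F) : Matrix ι ι F) * P, by
    have hP : ∀ X : Matrix ι κ F, P * (P' * X) = X := fun X => by
      rw [← Matrix.mul_assoc, h1, Matrix.one_mul]
    simp only [Matrix.mul_assoc]
    rw [hP, ← Matrix.mul_assoc (g : Matrix ι ι F), ← Units.val_mul, mul_inv_cancel,
      Units.val_one, Matrix.one_mul, h2], by
    have hP : ∀ X : Matrix ι κ F, P * (P' * X) = X := fun X => by
      rw [← Matrix.mul_assoc, h1, Matrix.one_mul]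
    simp only [Matrix.mul_assoc]
    rw [hP, ← Matrix.mul_assoc ((g⁻¹ : GL ι F) : Matrix ι ι F), ← Units.val_mul, inv_mul_cancel,
      Units.val_one, Matrix.one_mul, h2]⟩
  map_one' := by
    apply Units.ext
    show P' * ((1 : GL ι F) : Matrix ι ι F) * P = 1
    rw [Units.val_one, Matrix.mul_one, h2]
  map_mul' a b := by
    apply Units.ext
    show P' * ((a * b : GL ι F) : Matrix ι ι F) * P =
      (P' * (a : Matrix ι ι F) * P) * (P' * (b : Matrix ι ι F) * P)
    have hP : ∀ X : Matrix ι κ F, P * (P' * X) = X := fun X => by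
      rw [← Matrix.mul_assoc, h1, Matrix.one_mul]
    simp only [Matrix.mul_assoc, Units.val_mul]
    rw [hP]

theorem cjGL_mem (P : Matrix ι κ F) (P' : Matrix κ ι F) (h1 : P * P' = 1) (h2 : P' * P = 1)
    (Q : (ι → F) → F) (Q' : (κ → F) → F) (hQ : ∀ u, Q' u = Q (P *ᵥ u))
    (g : GL ι F) (hg : g ∈ Cfsg.isometryGroup F Q) :
    cjGL P P' h1 h2 g ∈ Cfsg.isometryGroup F Q' := by
  intro u _
  show Q' ((P' * (g : Matrix ι ι F) * P) *ᵥ u) = Q' u
  rw [hQ, hQ, ← Matrix.mulVec_mulVec, ← Matrix.mulVec_mulVec, Matrix.mulVec_mulVec _ P P', h1,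
    Matrix.one_mulVec]
  exact hg (P *ᵥ u) (P *ᵥ u)

/-- equivalent forms have isomorphic isometry groups -/
def isoM (P : Matrix ι κ F) (P' : Matrix κ ι F) (h1 : P * P' = 1) (h2 : P' * P = 1)
    (Q : (ι → F) → F) (Q' : (κ → F) → F) (hQ : ∀ u, Q' u = Q (P *ᵥ u)) :
    ↥(Cfsg.isometryGroup F Q) ≃* ↥(Cfsg.isometryGroup F Q') where
  toFun g := ⟨cjGL P P' h1 h2 g.1, cjGL_mem P P' h1 h2 Q Q' hQ g.1 g.2⟩
  invFun g := ⟨cjGL P' P h2 h1 g.1, cjGL_mem P' P h2 h1 Q' Q (by
    intro v
    rw [hQ, Matrix.mulVec_mulVec, h1, Matrix.one_mulVec]) g.1 g.2⟩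
  left_inv g := by
    apply Subtype.ext
    apply Units.ext
    show P * (P' * ((g.1 : GL ι F) : Matrix ι ι F) * P) * P' = ((g.1 : GL ι F) : Matrix ι ι F)
    simp only [Matrix.mul_assoc]
    rw [h1, Matrix.mul_one, ← Matrix.mul_assoc, h1, Matrix.one_mul]
  right_inv g := by
    apply Subtype.ext
    apply Units.ext
    show P' * (P * ((g.1 : GL κ F) : Matrix κ κ F) * P') * P = ((g.1 : GL κ F) : Matrix κ κ F)
    simp only [Matrix.mul_assoc]
    rw [h2, Matrix.mul_one, ← Matrix.mul_assoc, h2, Matrix.one_mul]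
  map_mul' a b := by
    apply Subtype.ext
    exact map_mul _ _ _

/-- the same along a linear equivalence -/
theorem exists_iso_of_linearEquiv (Q : (ι → F) → F) (Q' : (κ → F) → F)
    (e : (κ → F) ≃ₗ[F] (ι → F)) (hQ : ∀ u, Q' u = Q (e u)) :
    Nonempty (↥(Cfsg.isometryGroup F Q) ≃* ↥(Cfsg.isometryGroup F Q')) := by
  refine ⟨isoM (LinearMap.toMatrix' (e : (κ → F) →ₗ[F] (ι → F)))
    (LinearMap.toMatrix' (e.symm : (ι → F) →ₗ[F] (κ → F))) ?_ ?_ Q Q' ?_⟩
  · rw [← LinearMap.toMatrix'_comp]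
    have : (e : (κ → F) →ₗ[F] (ι → F)) ∘ₗ (e.symm : (ι → F) →ₗ[F] (κ → F)) = LinearMap.id := by
      ext v : 1
      simp
    rw [this, LinearMap.toMatrix'_id]
  · rw [← LinearMap.toMatrix'_comp]
    have : (e.symm : (ι → F) →ₗ[F] (κ → F)) ∘ₗ (e : (κ → F) →ₗ[F] (ι → F)) = LinearMap.id := by
      ext v : 1
      simp
    rw [this, LinearMap.toMatrix'_id]
  · intro u
    rw [LinearMap.toMatrix'_mulVec]
    exact hQ u

end transport

section basis

variable {ι κ : Type} [Fintype ι] [DecidableEq ι] [Fintype κ] [DecidableEq κ]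

theorem Q_sum_orth (Q : QuadraticForm F (ι → F)) (b : κ → (ι → F))
    (ho : ∀ i j, i ≠ j → polar (⇑Q) (b i) (b j) = 0) (u : κ → F) (s : Finset κ) :
    Q (∑ i ∈ s, u i • b i) = ∑ i ∈ s, Q (b i) * (u i * u i) := by
  classical
  induction s using Finset.induction_on with
  | empty => simp
  | insert a s ha ih =>
    rw [Finset.sum_insert ha, Finset.sum_insert ha,
      QuadraticMap.map_add (⇑Q) (u a • b a) (∑ i ∈ s, u i • b i), ih, QuadraticMap.map_smul]
    have h1 : polar (⇑Q) (u a • b a) (∑ i ∈ s, u i • b i) = 0 := by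
      have h3 : polar (⇑Q) (u a • b a) (∑ i ∈ s, u i • b i) =
          ∑ i ∈ s, polar (⇑Q) (u a • b a) (u i • b i) := by
        have := map_sum (polarBilin Q (u a • b a)) (fun i => u i • b i) s
        simp only [polarBilin_apply_apply] at this
        exact this
      rw [h3]
      apply Finset.sum_eq_zero
      intro i hi
      have hne : a ≠ i := fun h => ha (h ▸ hi)
      rw [polar_smul_left, polar_smul_right, ho a i hne]
      simp
    rw [h1, add_zero, smul_eq_mul]
    ring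

/-- an orthogonal basis diagonalises the form -/
theorem exists_iso_of_basis (Q : QuadraticForm F (ι → F)) (b : Basis κ F (ι → F))
    (ho : ∀ i j, i ≠ j → polar (⇑Q) (b i) (b j) = 0) (a : κ → F) (ha : ∀ i, Q (b i) = a i) :
    Nonempty (↥(Cfsg.isometryGroup F ⇑Q) ≃* ↥(Cfsg.isometryGroup F ⇑(wss a))) := by
  apply exists_iso_of_linearEquiv (⇑Q) (⇑(wss a)) b.equivFun.symm
  intro u
  rw [Basis.equivFun_symm_apply, Q_sum_orth Q b ho u Finset.univ, wss_apply]
  apply Finset.sum_congr rfl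
  intro i _
  rw [ha]

end basis

end Cfsg.Agent.helper17.OS
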