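import Mathlib
import Cfsg.Agent.Lib_helper17_OS11
import Cfsg.Agent.Lib_helper17_OS3
import Cfsg.Agent.Lib_helper13_Rank2C

set_option autoImplicit false
set_option linter.unusedSectionVars false

/-!
# Every nondegenerate quadratic form is isometric to a model form
-/

namespace Cfsg.Agent.helper17.OS

open Matrix QuadraticMap Module Cfsg.Agent.helper13

variable {F : Type*} [Field F] [Fintype F] [DecidableEq F]
variable {ι κ : Type} [Fintype ι] [DecidableEq ι] [Fintype κ] [DecidableEq κ]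

/-- the discriminant -/
noncomputable def disc (Q : QuadraticForm F (ι → F)) : F :=
  (Matrix.of (fun i j : ι => polar (⇑Q) (Pi.single i 1) (Pi.single j 1))).det

/-- an orthogonal basis indexed by `κ`, all of whose vectors but one have norm `1` -/
theorem model_basis (Q : QuadraticForm F (ι → F)) (h2 : (2 : F) ≠ 0)
    (hQ : (polarBilin Q).Nondegenerate) (hκ : Fintype.card κ = Fintype.card ι) (j₀ : κ) :
    ∃ b : Basis κ F (ι → F), (∀ i j, i ≠ j → polar (⇑Q) (b i) (b j) = 0) ∧
      (∀ j, j ≠ j₀ → Q (b j) = 1) ∧ Q (b j₀) ≠ 0 ∧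
      ∃ d : F, d ≠ 0 ∧ 2 ^ Fintype.card ι * Q (b j₀) = d ^ 2 * disc Q := by
  obtain ⟨b, ho, h1, hne, d, hd, hprod⟩ := exists_basis_c Q h2 hQ 1 one_ne_zero
  have hn : 0 < Fintype.card ι := by
    rw [← hκ]; exact Fintype.card_pos_iff.mpr ⟨j₀⟩
  let last : Fin (Fintype.card ι) := ⟨Fintype.card ι - 1, by omega⟩
  have σ₀ : κ ≃ Fin (Fintype.card ι) := Fintype.equivOfCardEq (by rw [hκ, Fintype.card_fin])
  let σ : κ ≃ Fin (Fintype.card ι) := σ₀.trans (Equiv.swap (σ₀ j₀) last)
  have hσ0 : σ j₀ = last := by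
    show Equiv.swap (σ₀ j₀) last (σ₀ j₀) = last
    exact Equiv.swap_apply_left _ _
  have hlast : ∀ i : Fin (Fintype.card ι), i ≠ last → (i : ℕ) + 1 < Fintype.card ι := by
    intro i hi
    have h4 : (i : ℕ) ≠ Fintype.card ι - 1 := by
      intro h
      apply hi
      apply Fin.ext
      exact h
    have := i.2
    omega
  have hσ1 : ∀ j, j ≠ j₀ → ((σ j : Fin (Fintype.card ι)) : ℕ) + 1 < Fintype.card ι := by
    intro j hj
    apply hlast
    intro h
    apply hj
    apply σ.injective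
    rw [h, hσ0]
  refine ⟨b.reindex σ.symm, ?_, ?_, ?_, d, hd, ?_⟩
  · intro i j hij
    rw [Basis.reindex_apply, Basis.reindex_apply, Equiv.symm_symm]
    exact ho _ _ (fun h => hij (σ.injective h))
  · intro j hj
    rw [Basis.reindex_apply, Equiv.symm_symm]
    exact h1 _ (hσ1 j hj)
  · rw [Basis.reindex_apply, Equiv.symm_symm]
    exact hne _
  · rw [Basis.reindex_apply, Equiv.symm_symm, hσ0]
    unfold disc
    rw [← hprod, Finset.prod_mul_distrib, Finset.prod_const, Finset.card_univ, Fintype.card_fin]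
    congr 1
    rw [Finset.prod_eq_single last]
    · intro i _ hi
      exact h1 i (hlast i hi)
    · intro h; exact absurd (Finset.mem_univ last) h

/-- the case of a distinguished rest coordinate -/
theorem model_iso_rest (Q : QuadraticForm F (ι → F)) (h2 : (2 : F) ≠ 0)
    (hQ : (polarBilin Q).Nondegenerate) {o x : Type} [Fintype o] [DecidableEq o] [Fintype x]
    [DecidableEq x] (hκ : Fintype.card ((Fin 2 × o) ⊕ x) = Fintype.card ι) (j₁ : x) :
    ∃ c : x → F, (∀ j, c j ≠ 0) ∧
      Nonempty (↥(Cfsg.isometryGroup F ⇑Q) ≃* ↥(GG o c)) := by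
  obtain ⟨b, ho, h1, hne, -⟩ := model_basis (κ := (Fin 2 × o) ⊕ x) Q h2 hQ hκ (Sum.inr j₁)
  have hall : ∀ j, Q (b j) ≠ 0 := by
    intro j
    by_cases hj : j = Sum.inr j₁
    · rw [hj]; exact hne
    · rw [h1 j hj]; exact one_ne_zero
  refine ⟨fun j => Q (b (Sum.inr j)), fun j => hall _, ?_⟩
  apply exists_iso_of_basis Q b ho
  rintro (i | j)
  · rw [h1 _ (by simp)]
    rfl
  · rfl

/-- even dimension and square discriminant: an orthonormal basis -/
theorem ortho_iso (Q : QuadraticForm F (ι → F)) (h2 : (2 : F) ≠ 0)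
    (hQ : (polarBilin Q).Nondegenerate) (hκ : Fintype.card κ = Fintype.card ι) (j₀ : κ)
    (hev : Even (Fintype.card ι)) (hsq : IsSquare (disc Q)) :
    Nonempty (↥(Cfsg.isometryGroup F ⇑Q) ≃* ↥(Cfsg.isometryGroup F ⇑(wss (fun _ : κ => (1 : F))))) := by
  obtain ⟨b, ho, h1, hne, d, hd, hrel⟩ := model_basis (κ := κ) Q h2 hQ hκ j₀
  obtain ⟨m, hm⟩ := hev
  obtain ⟨s, hs⟩ := hsq
  -- `Q (b j₀)` is a square
  have hpow : (2 : F) ^ Fintype.card ι = (2 ^ m) ^ 2 := by
    rw [hm, ← two_mul, pow_mul, pow_right_comm]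
  have h2m : (2 : F) ^ m ≠ 0 := pow_ne_zero _ h2
  set t : F := d * s / 2 ^ m with ht
  have htt : Q (b j₀) = t * t := by
    rw [ht]
    field_simp
    rw [hpow, hs] at hrel
    linear_combination hrel
  have ht0 : t ≠ 0 := by
    intro h
    rw [h, mul_zero] at htt
    exact hne htt
  let w : κ → Fˣ := fun j => if j = j₀ then (Units.mk0 t ht0)⁻¹ else 1
  have hw : ∀ j, Q ((b.unitsSMul w) j) = 1 := by
    intro j
    rw [Basis.unitsSMul_apply, Units.smul_def, QuadraticMap.map_smul]
    by_cases hj : j = j₀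
    · subst hj
      simp only [w, if_true, Units.val_inv_eq_inv_val, Units.val_mk0, smul_eq_mul]
      rw [htt]
      field_simp
    · simp only [w, if_neg hj, Units.val_one, smul_eq_mul]
      rw [h1 j hj]
      ring
  apply exists_iso_of_basis Q (b.unitsSMul w)
  · intro i j hij
    rw [Basis.unitsSMul_apply, Basis.unitsSMul_apply, Units.smul_def, Units.smul_def,
      polar_smul_left, polar_smul_right, ho i j hij]
    simp
  · exact hw

end Cfsg.Agent.helper17.OS
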