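import Cfsg.Statements.S0790
import Cfsg.Agent.Lib_helper13_ReflI

set_option autoImplicit false
open Cfsg

namespace Cfsg.Agent.S0790

open Matrix QuadraticMap Cfsg.Agent.helper13


/-- −1 ∈ Ω⁺_2m(q) iff q^m ≡ 1 (mod 4), for q odd and m ≥ 1 (so that in the other case SO⁺_2m(q) = 2 × Ω⁺_2m(q)). -/
theorem result {F : Type*} [Field F] [Fintype F] {q : ℕ} (hF : Fintype.card F = q) (hodd : Odd q) (m : ℕ) (hm : 1 ≤ m) : (∃ g : ↥(Cfsg.isometryGroup F (Cfsg.quadFormPlus m F)), g ∈ Cfsg.Omega F (Cfsg.quadFormPlus m F) ∧ ((g : Matrix.GeneralLinearGroup (Fin m ⊕ Fin m) F) : Matrix (Fin m ⊕ Fin m) (Fin m ⊕ Fin m) F) = -1) ↔ q ^ m % 4 = 1 := by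
  classical
  have h2 : (2 : F) ≠ 0 := two_ne_zero_of_odd_card hF hodd
  have hcard : 2 ≤ Fintype.card (Fin m ⊕ Fin m) := by
    rw [Fintype.card_sum, Fintype.card_fin]
    omega
  have heven : Even (Fintype.card (Fin m ⊕ Fin m)) := by
    rw [Fintype.card_sum, Fintype.card_fin]
    exact ⟨m, rfl⟩
  have key := neg_one_mem_iff (QPlus F m) h2 (QPlus_nondeg m) hcard heven
  have hgram : (Matrix.of (fun i j : Fin m ⊕ Fin m =>
      polar (⇑(QPlus F m)) (Pi.single i 1) (Pi.single j 1))) = gramPlus F m := by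
    ext i j
    exact polar_QPlus_single F m i j
  rw [hgram, gramPlus, det_hyp, isSquare_neg_one_pow_iff hF hodd m, QPlus_coe] at key
  exact key

end Cfsg.Agent.S0790
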