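import Cfsg.Statements.S0791
import Cfsg.Agent.Lib_helper13_ReflI

set_option autoImplicit false
open Cfsg

namespace Cfsg.Agent.S0791

open Matrix QuadraticMap Cfsg.Agent.helper13
theorem isSquare_mul_nonsquare {F : Type*} [Field F] [Fintype F] [DecidableEq F] {x D : F}
    (hx : x ≠ 0) (hD : ¬ IsSquare D) : IsSquare (x * D) ↔ ¬ IsSquare x := by
  have hD0 : D ≠ 0 := by
    rintro rfl
    exact hD ⟨0, by ring⟩
  rw [← quadraticChar_one_iff_isSquare (mul_ne_zero hx hD0), map_mul,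
    quadraticChar_neg_one_iff_not_isSquare.mpr hD, ← quadraticChar_neg_one_iff_not_isSquare]
  constructor
  · intro h
    linear_combination -h
  · intro h
    rw [h]
    ring


/-- −1 ∈ Ω⁻_2m(q) iff q^m ≡ −1 (mod 4), for q odd and m ≥ 1; for the minus-type form quadFormMinus (m−1) with anisotropic binary part. -/
theorem result {F : Type*} [Field F] [Fintype F] {q : ℕ} (hF : Fintype.card F = q) (hodd : Odd q) (m : ℕ) (hm : 1 ≤ m) (a b : F) (hab : ∀ z₁ z₂ : F, z₁ ^ 2 + a * z₁ * z₂ + b * z₂ ^ 2 = 0 → z₁ = 0 ∧ z₂ = 0) : (∃ g : ↥(Cfsg.isometryGroup F (Cfsg.quadFormMinus (m - 1) F a b)), g ∈ Cfsg.Omega F (Cfsg.quadFormMinus (m - 1) F a b) ∧ ((g : Matrix.GeneralLinearGroup ((Fin (m - 1) ⊕ Fin (m - 1)) ⊕ Fin 2) F) : Matrix ((Fin (m - 1) ⊕ Fin (m - 1)) ⊕ Fin 2) ((Fin (m - 1) ⊕ Fin (m - 1)) ⊕ Fin 2) F) = -1) ↔ q ^ m % 4 = 3 := by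
  classical
  have h2 : (2 : F) ≠ 0 := two_ne_zero_of_odd_card hF hodd
  have hD : 4 * b - a ^ 2 ≠ 0 := by
    intro h
    have h3 := hab (-a) 2 (by linear_combination h)
    exact h2 h3.2
  have hns : ¬ IsSquare (a ^ 2 - 4 * b) := by
    rintro ⟨s, hs⟩
    have h3 := hab ((s - a) / 2) 1 (by
      field_simp
      linear_combination -hs)
    exact one_ne_zero h3.2
  have hcard : 2 ≤ Fintype.card ((Fin (m - 1) ⊕ Fin (m - 1)) ⊕ Fin 2) := by
    rw [Fintype.card_sum, Fintype.card_sum, Fintype.card_fin, Fintype.card_fin]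
    omega
  have heven : Even (Fintype.card ((Fin (m - 1) ⊕ Fin (m - 1)) ⊕ Fin 2)) := by
    rw [Fintype.card_sum, Fintype.card_sum, Fintype.card_fin, Fintype.card_fin]
    exact ⟨m - 1 + 1, by ring⟩
  have key := neg_one_mem_iff (QMinus F (m - 1) a b) h2 (QMinus_nondeg (m - 1) a b hD) hcard heven
  have hgram : (Matrix.of (fun i j : (Fin (m - 1) ⊕ Fin (m - 1)) ⊕ Fin 2 =>
      polar (⇑(QMinus F (m - 1) a b)) (Pi.single i 1) (Pi.single j 1))) =
      Cfsg.Agent.S2621.gramMinus (m - 1) a b := by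
    ext i j
    exact polar_QMinus_single F (m - 1) a b i j
  have hdet : (-1 : F) ^ (m - 1) * (4 * b - a ^ 2) = (-1) ^ m * (a ^ 2 - 4 * b) := by
    obtain ⟨k, rfl⟩ : ∃ k, m = k + 1 := ⟨m - 1, by omega⟩
    rw [Nat.add_sub_cancel, pow_succ]
    ring
  rw [hgram, Cfsg.Agent.S2621.det_gramMinus, hdet,
    isSquare_mul_nonsquare (pow_ne_zero _ (neg_ne_zero.mpr one_ne_zero)) hns,
    isSquare_neg_one_pow_iff hF hodd m, ← pow_mod_four_eq_three hodd m, QMinus_coe] at key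
  exact key

end Cfsg.Agent.S0791
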