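import Mathlib
import Cfsg.Agent.Lib_helper17_OS12
import Cfsg.Agent.Lib_helper13_ReflI
import Cfsg.Agent.Lib_helper13_Disc2
import Cfsg.Agent.S0790
import Cfsg.Agent.S0791
import Cfsg.Agent.S0286
import Cfsg.Agent.S0287
import Cfsg.Agent.S0288
import Cfsg.Agent.Lib_helper17_GLR1

set_option autoImplicit false
set_option linter.unusedSectionVars false

/-!
# Discriminants of the standard forms and the order of `O(x² + y²)`
-/

namespace Cfsg.Agent.helper17.OS

open Matrix QuadraticMap Module Cfsg.Agent.helper13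
open Cfsg.Agent.helper17.SpR (cc val_pow val_prod pow_sub_one_ne_zero)
open Cfsg.Agent.helper17.GLR (val_two_mul_odd)

variable {F : Type*} [Field F] [Fintype F] [DecidableEq F]

theorem disc_plus {q : ℕ} (hF : Fintype.card F = q) (hodd : Odd q) (m : ℕ) (hm : 1 ≤ m) :
    IsSquare (disc (QPlus F m)) ↔ q ^ m % 4 = 1 := by
  have h2 : (2 : F) ≠ 0 := two_ne_zero_of_odd_card hF hodd
  have hcard : Fintype.card (Fin m ⊕ Fin m) = 2 * m := by
    rw [Fintype.card_sum, Fintype.card_fin]; ring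
  have key := Cfsg.Agent.S0790.result hF hodd m hm
  rw [← QPlus_coe F m] at key
  unfold disc
  rw [← neg_one_mem_iff (QPlus F m) h2 (QPlus_nondeg (F := F) m) (by rw [hcard]; omega)
    (by rw [hcard]; exact ⟨m, by ring⟩)]
  exact key

theorem disc_minus {q : ℕ} (hF : Fintype.card F = q) (hodd : Odd q) (m : ℕ) (hm : 1 ≤ m) (a b : F)
    (hab : ∀ z₁ z₂ : F, z₁ ^ 2 + a * z₁ * z₂ + b * z₂ ^ 2 = 0 → z₁ = 0 ∧ z₂ = 0) :
    IsSquare (disc (QMinus F (m - 1) a b)) ↔ q ^ m % 4 = 3 := by
  have h2 : (2 : F) ≠ 0 := two_ne_zero_of_odd_card hF hodd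
  have hcard : Fintype.card ((Fin (m - 1) ⊕ Fin (m - 1)) ⊕ Fin 2) = 2 * m := by
    rw [Fintype.card_sum, Fintype.card_sum, Fintype.card_fin, Fintype.card_fin]; omega
  have key := Cfsg.Agent.S0791.result hF hodd m hm a b hab
  rw [← QMinus_coe F (m - 1) a b] at key
  unfold disc
  rw [← neg_one_mem_iff (QMinus F (m - 1) a b) h2
    (QMinus_nondeg (F := F) (m - 1) a b (disc_ne_zero_of_aniso' a b hab)) (by rw [hcard]; omega)
    (by rw [hcard]; exact ⟨m, by ring⟩)]
  exact key

theorem aniso_of_three (hq : Fintype.card F % 4 = 3) :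
    ∀ z₁ z₂ : F, z₁ ^ 2 + 0 * z₁ * z₂ + 1 * z₂ ^ 2 = 0 → z₁ = 0 ∧ z₂ = 0 := by
  intro z₁ z₂ h
  have hns : ¬ IsSquare (-1 : F) := by
    rw [FiniteField.isSquare_neg_one_iff]
    omega
  have hz2 : z₂ = 0 := by
    by_contra hne
    apply hns
    refine ⟨z₁ / z₂, ?_⟩
    field_simp
    linear_combination -h
  rw [hz2] at h
  refine ⟨?_, hz2⟩
  have : z₁ ^ 2 = 0 := by linear_combination h
  exact pow_eq_zero_iff (by norm_num) |>.mp this

theorem card_O2 (hodd : Odd (Fintype.card F)) :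
    (Nat.card (O2 F)).factorization 2 = cc (Fintype.card F) := by
  have h2 : (2 : F) ≠ 0 := two_ne_zero_of_odd_card rfl hodd
  have hq1 : 1 < Fintype.card F := Fintype.one_lt_card
  have hq : Fintype.card F % 4 = 1 ∨ Fintype.card F % 4 = 3 := by
    rcases hodd with ⟨k, hk⟩
    omega
  rw [Nat.factorization_def _ Nat.prime_two]
  rcases hq with hq | hq
  · -- plus type
    have hsq : IsSquare (disc (QPlus F 1)) := by
      rw [disc_plus rfl hodd 1 le_rfl, pow_one]; exact hq
    obtain ⟨e⟩ := ortho_iso (κ := Fin 2) (QPlus F 1) h2 (QPlus_nondeg (F := F) 1)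
      (by simp) 0 (by simp) hsq
    have hc := Cfsg.Agent.S0287.result (F := F) rfl 1 le_rfl
    rw [← QPlus_coe F 1] at hc
    have hc' : Nat.card (O2 F) = 2 * (Fintype.card F - 1) := by
      have h5 : Nat.card (O2 F) = Nat.card ↥(Cfsg.isometryGroup F ⇑(QPlus F 1)) :=
        (Nat.card_congr e.toEquiv).symm
      rw [h5, hc]
      simp
    rw [hc', padicValNat.mul (by norm_num) (by omega), padicValNat_self]
    unfold cc
    rw [val_two_mul_odd (x := Fintype.card F + 1) (by omega)]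
  · -- minus type
    have hab := aniso_of_three hq
    have hsq : IsSquare (disc (QMinus F (1 - 1) 0 1)) := by
      rw [disc_minus rfl hodd 1 le_rfl 0 1 hab, pow_one]; exact hq
    have hnd : (polarBilin (QMinus F (1 - 1) 0 1)).Nondegenerate :=
      QMinus_nondeg (F := F) (1 - 1) 0 1 (disc_ne_zero_of_aniso' 0 1 hab)
    obtain ⟨e⟩ := ortho_iso (κ := Fin 2) (QMinus F (1 - 1) 0 1) h2 hnd
      (by simp) 0 (by simp) hsq
    have hc := Cfsg.Agent.S0288.result (F := F) rfl 1 le_rfl 0 1 hab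
    rw [← QMinus_coe F (1 - 1) 0 1] at hc
    have hc' : Nat.card (O2 F) = 2 * (Fintype.card F + 1) := by
      have h5 : Nat.card (O2 F) = Nat.card ↥(Cfsg.isometryGroup F ⇑(QMinus F (1 - 1) 0 1)) :=
        (Nat.card_congr e.toEquiv).symm
      rw [h5, hc]
      simp
    rw [hc', padicValNat.mul (by norm_num) (by omega), padicValNat_self]
    unfold cc
    rw [val_two_mul_odd (x := Fintype.card F - 1) (by omega)]
    ring

end Cfsg.Agent.helper17.OS
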