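import Mathlib
import Cfsg.Agent.Lib_helper17_OS13
import Cfsg.Agent.Lib_helper17_OS10
import Cfsg.Agent.Lib_helper9_SylSym

set_option autoImplicit false
set_option linter.unusedSectionVars false

/-!
# Sylow 2-subgroups of `Ω(Q)`, `q` odd: numerics and assembly
-/

namespace Cfsg.Agent.helper17.OS

open Matrix QuadraticMap Module Cfsg.Agent.helper13
open Cfsg.Agent.helper17.SpR (cc val_pow val_prod pow_sub_one_ne_zero)
open Cfsg.Agent.helper17.GLR (val_two_mul_odd)

section numerics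

theorem val_split {q : ℕ} (hodd : Odd q) (hq1 : 1 < q) {m : ℕ} (hm : m ≠ 0) :
    padicValNat 2 (q ^ m - 1) + padicValNat 2 (q ^ m + 1) = cc q + padicValNat 2 m := by
  rw [← val_pow hodd hq1 hm]
  have h1 : q ^ (2 * m) - 1 = (q ^ m - 1) * (q ^ m + 1) := by
    have h3 : 1 ≤ q ^ m := Nat.one_le_pow _ _ (by omega)
    have : q ^ (2 * m) = q ^ m * q ^ m := by rw [two_mul, pow_add]
    rw [this]
    zify [h3, Nat.one_le_iff_ne_zero.mpr (Nat.mul_ne_zero (by omega : q ^ m ≠ 0) (by omega : q ^ m ≠ 0))]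
    ring
  rw [h1, padicValNat.mul (pow_sub_one_ne_zero hq1 hm) (by omega)]

theorem one_le_val_sub {q : ℕ} (hodd : Odd q) (hq1 : 1 < q) {m : ℕ} (hm : m ≠ 0) :
    1 ≤ padicValNat 2 (q ^ m - 1) := by
  apply one_le_padicValNat_of_dvd (pow_sub_one_ne_zero hq1 hm)
  have h1 : Odd (q ^ m) := hodd.pow
  rcases h1 with ⟨k, hk⟩
  omega

theorem one_le_val_add {q : ℕ} (hodd : Odd q) {m : ℕ} :
    1 ≤ padicValNat 2 (q ^ m + 1) := by
  apply one_le_padicValNat_of_dvd (by omega)
  have h1 : Odd (q ^ m) := hodd.pow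
  rcases h1 with ⟨k, hk⟩
  omega

end numerics

variable {F : Type*} [Field F] [Fintype F] [DecidableEq F]

/-- the generic assembly -/
theorem final_generic {ι : Type} [Fintype ι] [DecidableEq ι] (Q : (ι → F) → F)
    (hodd : Odd (Fintype.card F)) (k r : ℕ) (hk : 2 ≤ k) (c : Fin r → F) (hc : ∀ j, c j ≠ 0)
    (e : ↥(Cfsg.isometryGroup F Q) ≃* ↥(GG (Fin k) c))
    (hnum : (Nat.card (Cfsg.isometryGroup F Q)).factorization 2 ≤
      cc (Fintype.card F) * k + r + padicValNat 2 k.factorial) :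
    PropS (commutator (Cfsg.isometryGroup F Q)) := by
  have : Fact (Nat.Prime 2) := ⟨Nat.prime_two⟩
  have h2 : (2 : F) ≠ 0 := two_ne_zero_of_odd_card rfl hodd
  obtain ⟨H, hH, gH, cH⟩ := Cfsg.Agent.helper9.SylSym.good_all 2 k
  rw [Fintype.card_fin] at cH
  have hmod : PropS (commutator (GG (Fin k) c)) := by
    apply model_propS h2 c hc (⟨0, by omega⟩ : Fin k) ⟨1, by omega⟩ (by
      intro h
      have := congrArg Fin.val h
      simp at this) H hH gH
    rw [card_O2 hodd, Fintype.card_fin, Fintype.card_fin, ← Nat.card_congr e.toEquiv, ← pow_mul,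
      ← pow_add]
    refine le_trans ?_ (Nat.mul_le_mul_left _ cH)
    rw [← pow_add]
    exact Nat.pow_le_pow_right (by norm_num) hnum
  have : Finite (commutator (GG (Fin k) c)) := inferInstance
  exact propS_of_mulEquiv (commEquiv e.symm) hmod

end Cfsg.Agent.helper17.OS
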