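import Mathlib
import Cfsg.Agent.Lib_helper17_OS14

set_option autoImplicit false
set_option linter.unusedSectionVars false

/-!
# Sylow 2-subgroups of `Ω(Q)`, `q` odd: the three families
-/

namespace Cfsg.Agent.helper17.OS

open Matrix QuadraticMap Module Cfsg.Agent.helper13
open Cfsg.Agent.helper17.SpR (cc val_pow val_prod pow_sub_one_ne_zero)
open Cfsg.Agent.helper17.GLR (val_two_mul_odd)

theorem val_order {q : ℕ} (hodd : Odd q) (hq1 : 1 < q) (e n X : ℕ) (hX : X ≠ 0) :
    padicValNat 2 (2 * q ^ e * X * ∏ i ∈ Finset.range n, (q ^ (2 * (i + 1)) - 1)) =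
      1 + padicValNat 2 X + n * cc q + padicValNat 2 n.factorial := by
  have h2q : ¬ 2 ∣ q ^ e := by
    intro h
    have := Nat.Prime.dvd_of_dvd_pow Nat.prime_two h
    rcases hodd with ⟨k, hk⟩
    omega
  have hqe : q ^ e ≠ 0 := pow_ne_zero _ (by omega)
  have hprod : (∏ i ∈ Finset.range n, (q ^ (2 * (i + 1)) - 1)) ≠ 0 := by
    rw [Finset.prod_ne_zero_iff]
    intro i _
    exact pow_sub_one_ne_zero hq1 (by omega)
  have h2qe : 2 * q ^ e ≠ 0 := Nat.mul_ne_zero (by norm_num) hqe
  rw [padicValNat.mul (Nat.mul_ne_zero h2qe hX) hprod, padicValNat.mul h2qe hX,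
    padicValNat.mul (by norm_num) hqe, padicValNat_self, padicValNat.eq_zero_of_not_dvd h2q,
    val_prod hodd hq1 n]
  ring

theorem val_factorial_succ (n : ℕ) :
    padicValNat 2 (n + 1).factorial = padicValNat 2 (n + 1) + padicValNat 2 n.factorial := by
  rw [Nat.factorial_succ, padicValNat.mul (by omega) (Nat.factorial_ne_zero n)]

variable {F : Type*} [Field F] [Fintype F] [DecidableEq F]

/-- even dimension and square discriminant: the model with no rest coordinates -/
theorem ortho_iso' {ι : Type} [Fintype ι] [DecidableEq ι] (Q : QuadraticForm F (ι → F))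
    (h2 : (2 : F) ≠ 0) (hQ : (polarBilin Q).Nondegenerate) (k : ℕ) (hk : 0 < k)
    (hκ : 2 * k = Fintype.card ι) (hsq : IsSquare (disc Q)) :
    Nonempty (↥(Cfsg.isometryGroup F ⇑Q) ≃* ↥(GG (Fin k) (Fin.elim0 : Fin 0 → F))) := by
  obtain ⟨e⟩ := ortho_iso (κ := (Fin 2 × Fin k) ⊕ Fin 0) Q h2 hQ
    (by rw [Fintype.card_sum, Fintype.card_prod, Fintype.card_fin, Fintype.card_fin,
      Fintype.card_fin]; omega) (Sum.inl (0, ⟨0, hk⟩)) ⟨k, by omega⟩ hsq
  have hcf : (fun _ : (Fin 2 × Fin k) ⊕ Fin 0 => (1 : F)) = cf (Fin k) (Fin.elim0 : Fin 0 → F) := by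
    funext i
    rcases i with i | j
    · rfl
    · exact j.elim0
  rw [hcf] at e
  exact ⟨e⟩

theorem main_odd (hodd : Odd (Fintype.card F)) (m : ℕ) (hm : 2 ≤ m) :
    PropS (commutator (Cfsg.isometryGroup F (Cfsg.quadFormOdd m F))) := by
  have h2 : (2 : F) ≠ 0 := two_ne_zero_of_odd_card rfl hodd
  have hq1 : 1 < Fintype.card F := Fintype.one_lt_card
  obtain ⟨c, hc, ⟨e⟩⟩ := model_iso_rest (QOdd F m) h2 (QOdd_nondeg (F := F) h2 m)
    (o := Fin m) (x := Fin 1) (by
      simp only [Fintype.card_sum, Fintype.card_prod, Fintype.card_fin, Fintype.card_unit]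
      omega) 0
  have key := final_generic (⇑(QOdd F m)) hodd m 1 hm c hc e (by
    rw [QOdd_coe, Cfsg.Agent.S0286.result (F := F) rfl hodd m, Nat.factorization_def _ Nat.prime_two]
    have := val_order hodd hq1 (m ^ 2) m 1 one_ne_zero
    rw [mul_one] at this
    rw [this]
    simp only [padicValNat_one_right]
    apply le_of_eq
    ring)
  rw [QOdd_coe] at key
  exact key

theorem main_plus (hodd : Odd (Fintype.card F)) (m : ℕ) (hm : 2 ≤ m) (hm' : Even m ∨ 3 ≤ m) :
    PropS (commutator (Cfsg.isometryGroup F (Cfsg.quadFormPlus m F))) := by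
  have h2 : (2 : F) ≠ 0 := two_ne_zero_of_odd_card rfl hodd
  have hq1 : 1 < Fintype.card F := Fintype.one_lt_card
  have hm0 : m ≠ 0 := by omega
  have hcardι : Fintype.card (Fin m ⊕ Fin m) = 2 * m := by
    rw [Fintype.card_sum, Fintype.card_fin]; ring
  have hord : (Nat.card (Cfsg.isometryGroup F ⇑(QPlus F m))).factorization 2 =
      1 + padicValNat 2 (Fintype.card F ^ m - 1) + (m - 1) * cc (Fintype.card F) +
        padicValNat 2 (m - 1).factorial := by
    rw [QPlus_coe, Cfsg.Agent.S0287.result (F := F) rfl m (by omega),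
      Nat.factorization_def _ Nat.prime_two]
    exact val_order hodd hq1 (m * (m - 1)) (m - 1) _ (pow_sub_one_ne_zero hq1 hm0)
  have hfac : padicValNat 2 m.factorial = padicValNat 2 m + padicValNat 2 (m - 1).factorial := by
    obtain ⟨n, rfl⟩ : ∃ n, m = n + 1 := ⟨m - 1, by omega⟩
    rw [val_factorial_succ]
    simp
  have hqm : Odd (Fintype.card F ^ m) := hodd.pow
  by_cases hsq : IsSquare (disc (QPlus F m))
  · obtain ⟨e⟩ := ortho_iso' (QPlus F m) h2 (QPlus_nondeg (F := F) m) m (by omega)
      (by rw [hcardι]) hsq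
    have key := final_generic (⇑(QPlus F m)) hodd m 0 hm _ (fun j => j.elim0) e (by
      rw [hord, hfac]
      have h1 := val_split hodd hq1 hm0
      have h3 := one_le_val_add (q := Fintype.card F) hodd (m := m)
      have h4 : cc (Fintype.card F) * m = cc (Fintype.card F) + (m - 1) * cc (Fintype.card F) := by
        obtain ⟨n, rfl⟩ : ∃ n, m = n + 1 := ⟨m - 1, by omega⟩
        simp only [Nat.add_sub_cancel]
        ring
      rw [h4]
      omega)
    rw [QPlus_coe] at key
    exact key
  · have hmod : Fintype.card F ^ m % 4 = 3 := by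
      have := (disc_plus (F := F) rfl hodd m (by omega)).not.mp hsq
      rcases hqm with ⟨k, hk⟩
      omega
    have hm3 : 3 ≤ m := by
      rcases hm' with hev | h3
      · exfalso
        obtain ⟨k, rfl⟩ := hev
        rw [← two_mul, pow_mul] at hmod
        have : Fintype.card F ^ 2 % 4 = 1 := by
          rcases hodd with ⟨j, hj⟩
          rw [hj]
          have : (2 * j + 1) ^ 2 = 4 * (j * j + j) + 1 := by ring
          rw [this]
          omega
        have h5 : (Fintype.card F ^ 2) ^ k % 4 = 1 := by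
          rw [Nat.pow_mod, this]
          simp
        omega
      · exact h3
    obtain ⟨c, hc, ⟨e⟩⟩ := model_iso_rest (QPlus F m) h2 (QPlus_nondeg (F := F) m)
      (o := Fin (m - 1)) (x := Fin 2) (by
        simp only [Fintype.card_sum, Fintype.card_prod, Fintype.card_fin]
        omega) 0
    have key := final_generic (⇑(QPlus F m)) hodd (m - 1) 2 (by omega) c hc e (by
      rw [hord, val_two_mul_odd (x := Fintype.card F ^ m - 1) (by omega)]
      apply le_of_eq
      ring)
    rw [QPlus_coe] at key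
    exact key

theorem main_minus (hodd : Odd (Fintype.card F)) (m : ℕ) (hm : 3 ≤ m) (a b : F)
    (hab : ∀ z₁ z₂ : F, z₁ ^ 2 + a * z₁ * z₂ + b * z₂ ^ 2 = 0 → z₁ = 0 ∧ z₂ = 0) :
    PropS (commutator (Cfsg.isometryGroup F (Cfsg.quadFormMinus (m - 1) F a b))) := by
  have h2 : (2 : F) ≠ 0 := two_ne_zero_of_odd_card rfl hodd
  have hq1 : 1 < Fintype.card F := Fintype.one_lt_card
  have hm0 : m ≠ 0 := by omega
  have hnd : (polarBilin (QMinus F (m - 1) a b)).Nondegenerate :=
    QMinus_nondeg (F := F) (m - 1) a b (disc_ne_zero_of_aniso' a b hab)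
  have hcardι : Fintype.card ((Fin (m - 1) ⊕ Fin (m - 1)) ⊕ Fin 2) = 2 * m := by
    rw [Fintype.card_sum, Fintype.card_sum, Fintype.card_fin, Fintype.card_fin]; omega
  have hord : (Nat.card (Cfsg.isometryGroup F ⇑(QMinus F (m - 1) a b))).factorization 2 =
      1 + padicValNat 2 (Fintype.card F ^ m + 1) + (m - 1) * cc (Fintype.card F) +
        padicValNat 2 (m - 1).factorial := by
    rw [QMinus_coe, Cfsg.Agent.S0288.result (F := F) rfl m (by omega) a b hab,
      Nat.factorization_def _ Nat.prime_two]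
    exact val_order hodd hq1 (m * (m - 1)) (m - 1) _ (by omega)
  have hfac : padicValNat 2 m.factorial = padicValNat 2 m + padicValNat 2 (m - 1).factorial := by
    obtain ⟨n, rfl⟩ : ∃ n, m = n + 1 := ⟨m - 1, by omega⟩
    rw [val_factorial_succ]
    simp
  have hqm : Odd (Fintype.card F ^ m) := hodd.pow
  by_cases hsq : IsSquare (disc (QMinus F (m - 1) a b))
  · obtain ⟨e⟩ := ortho_iso' (QMinus F (m - 1) a b) h2 hnd m (by omega)
      (by rw [hcardι]) hsq
    have key := final_generic (⇑(QMinus F (m - 1) a b)) hodd m 0 (by omega) _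
      (fun j => j.elim0) e (by
      rw [hord, hfac]
      have h1 := val_split hodd hq1 hm0
      have h3 := one_le_val_sub (q := Fintype.card F) hodd hq1 hm0
      have h4 : cc (Fintype.card F) * m = cc (Fintype.card F) + (m - 1) * cc (Fintype.card F) := by
        obtain ⟨n, rfl⟩ : ∃ n, m = n + 1 := ⟨m - 1, by omega⟩
        simp only [Nat.add_sub_cancel]
        ring
      rw [h4]
      omega)
    rw [QMinus_coe] at key
    exact key
  · have hmod : Fintype.card F ^ m % 4 = 1 := by
      have := (disc_minus (F := F) rfl hodd m (by omega) a b hab).not.mp hsq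
      rcases hqm with ⟨k, hk⟩
      omega
    obtain ⟨c, hc, ⟨e⟩⟩ := model_iso_rest (QMinus F (m - 1) a b) h2 hnd
      (o := Fin (m - 1)) (x := Fin 2) (by
        simp only [Fintype.card_sum, Fintype.card_prod, Fintype.card_fin]
        omega) 0
    have key := final_generic (⇑(QMinus F (m - 1) a b)) hodd (m - 1) 2 (by omega) c hc e (by
      rw [hord, val_two_mul_odd (x := Fintype.card F ^ m + 1) (by omega)]
      apply le_of_eq
      ring)
    rw [QMinus_coe] at key
    exact key

end Cfsg.Agent.helper17.OS
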