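import Cfsg.Statements.S0991
import Mathlib
-- import your own Cfsg.Agent.* helpers here

set_option autoImplicit false
open Cfsg

namespace Cfsg.Agent.S0991

theorem result {G : Type*} [Group G] [Finite G] [IsSimpleGroup G] (hG : ¬ IsMulCommutative G) (H : Subgroup G) (hH : H ≠ ⊤) : ∃ f : G →* ↥(alternatingGroup (Fin H.index)), Function.Injective f := by
  classical
  have hfin : Finite (G ⧸ H) := inferInstance
  have := Fintype.ofFinite (G ⧸ H)
  have hcard : Nat.card (G ⧸ H) = H.index := rfl
  have e : (G ⧸ H) ≃ Fin H.index := Finite.equivFinOfCardEq hcard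
  let φ : G →* Equiv.Perm (G ⧸ H) := MulAction.toPermHom G (G ⧸ H)
  let ψ : Equiv.Perm (G ⧸ H) ≃* Equiv.Perm (Fin H.index) := e.permCongrHom
  let f₀ : G →* Equiv.Perm (Fin H.index) := ψ.toMonoidHom.comp φ
  have hφker : φ.ker = ⊥ := by
    rcases (φ.normal_ker).eq_bot_or_eq_top with h | h
    · exact h
    · exfalso
      apply hH
      rw [eq_top_iff]
      intro g _
      have hg : g ∈ φ.ker := by rw [h]; trivial
      rw [MonoidHom.mem_ker] at hg
      have h2 : φ g (QuotientGroup.mk (1 : G)) = QuotientGroup.mk (1 : G) := by rw [hg]; rfl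
      have h3 : (QuotientGroup.mk (g * 1) : G ⧸ H) = QuotientGroup.mk (1 : G) := h2
      rw [QuotientGroup.eq] at h3
      simpa using H.inv_mem h3
  have hφinj : Function.Injective φ := (MonoidHom.ker_eq_bot_iff φ).mp hφker
  have hf₀inj : Function.Injective f₀ := ψ.injective.comp hφinj
  let s : G →* ℤˣ := Equiv.Perm.sign.comp f₀
  have hsker : s.ker = ⊤ := by
    rcases (s.normal_ker).eq_bot_or_eq_top with h | h
    · exfalso
      apply hG
      have hsinj : Function.Injective s := (MonoidHom.ker_eq_bot_iff s).mp h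
      refine ⟨⟨fun a b => ?_⟩⟩
      apply hsinj
      rw [map_mul, map_mul, mul_comm]
    · exact h
  have hmem : ∀ g : G, f₀ g ∈ alternatingGroup (Fin H.index) := by
    intro g
    rw [Equiv.Perm.mem_alternatingGroup]
    have hg : g ∈ s.ker := by rw [hsker]; trivial
    exact hg
  refine ⟨f₀.codRestrict _ hmem, ?_⟩
  intro a b hab
  apply hf₀inj
  have := congrArg Subtype.val hab
  simpa using this

end Cfsg.Agent.S0991
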