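import Mathlib
import Cfsg.Agent.S0991
import Cfsg.Agent.Lib_helper5_Simple

/-! Tools for simple groups of order `p^2 q r` (helper17). -/

set_option autoImplicit false

namespace Cfsg.Agent.helper17.P2QR

open Cfsg.Agent.helper5

theorem prime_succ (p l : ℕ) (hp : p.Prime) (hl : l.Prime) (hlt : p < l) (hdvd : l ∣ p ^ 2 - 1) :
    p = 2 ∧ l = 3 := by
  obtain ⟨m, rfl⟩ : ∃ m, p = m + 1 := ⟨p - 1, by have := hp.pos; omega⟩
  have h1 : (m + 1) ^ 2 - 1 = m * (m + 2) := by
    have : (m + 1) ^ 2 = m * (m + 2) + 1 := by ring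
    omega
  rw [h1] at hdvd
  have hm : 1 ≤ m := by have := hp.two_le; omega
  rcases (Nat.Prime.dvd_mul hl).mp hdvd with h | h
  · have := Nat.le_of_dvd (by omega) h; omega
  · have h2 := Nat.le_of_dvd (by omega) h
    have hl' : l = m + 2 := by omega
    subst hl'
    rcases hp.eq_two_or_odd with h3 | h3
    · constructor <;> omega
    · have h4 : 2 ∣ m + 2 := by omega
      have := (Nat.prime_dvd_prime_iff_eq Nat.prime_two hl).mp h4
      omega

/-- `n % l = 1` gives `l ∣ n - 1`. -/
theorem dvd_sub_one_of_mod {n l : ℕ} (hl : 1 < l) (h : n % l = 1) : l ∣ n - 1 := by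
  have h1 : n % l = 1 % l := by rw [h, Nat.mod_eq_of_lt hl]
  have := Nat.sub_mod_eq_zero_of_mod_eq h1
  exact Nat.dvd_of_mod_eq_zero this

/-- The automizer of a non-central Sylow subgroup of order `p^2` involves a prime dividing
`p^2 - 1`. -/
theorem automizer_sq {G : Type*} [Group G] [Finite G] {p : ℕ} [Fact p.Prime] (P : Sylow p G)
    (hcard : Nat.card P = p ^ 2)
    (hNC : ¬ Subgroup.normalizer ((P : Subgroup G) : Set G) ≤
      Subgroup.centralizer ((P : Subgroup G) : Set G)) :
    ∃ l : ℕ, l.Prime ∧ l ≠ p ∧ l ∣ Nat.card G ∧ l ∣ p ^ 2 - 1 := by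
  classical
  have hp : p.Prime := Fact.out
  have hPcomm : IsMulCommutative (P : Subgroup G) := IsPGroup.isMulCommutative_of_card_eq_prime_sq hcard
  have hPC : (P : Subgroup G) ≤ Subgroup.centralizer ((P : Subgroup G) : Set G) := by
    intro a ha
    rw [Subgroup.mem_centralizer_iff]
    intro b hb
    have := hPcomm.is_comm.comm (⟨b, hb⟩ : (P : Subgroup G)) ⟨a, ha⟩
    exact congrArg Subtype.val this
  set N := Subgroup.normalizer ((P : Subgroup G) : Set G) with hN
  set C := Subgroup.centralizer ((P : Subgroup G) : Set G) with hC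
  have hex : ∃ n, ∃ g, g ∈ N ∧ g ∉ C ∧ orderOf g = n := by
    obtain ⟨g, hgN, hgC⟩ := SetLike.not_le_iff_exists.mp hNC
    exact ⟨_, g, hgN, hgC, rfl⟩
  obtain ⟨g, hgN, hgC, hgo⟩ := Nat.find_spec hex
  have hmin : ∀ h, h ∈ N → orderOf h < orderOf g → h ∈ C := by
    intro h hhN hlt
    by_contra hhC
    exact Nat.find_min hex (hgo ▸ hlt) ⟨h, hhN, hhC, rfl⟩
  have hopos : 0 < orderOf g := orderOf_pos g
  -- a prime different from p dividing the order of g
  have hl : ∃ l : ℕ, l.Prime ∧ l ∣ orderOf g ∧ l ≠ p := by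
    by_contra hall
    push Not at hall
    have hk := Nat.eq_prime_pow_of_unique_prime_dvd hopos.ne' (fun {d} hd hdvd => hall d hd hdvd)
    have hpg : IsPGroup p (Subgroup.zpowers g) := by
      apply IsPGroup.of_card (n := (orderOf g).primeFactorsList.length)
      rw [Nat.card_zpowers]
      exact hk
    have h1 := hpg.inf_normalizer_sylow P
    have h2 : g ∈ Subgroup.zpowers g ⊓ Subgroup.normalizer (P : Set G) :=
      Subgroup.mem_inf.mpr ⟨Subgroup.mem_zpowers g, hgN⟩
    have h3 := h1.le h2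
    exact hgC (hPC (Subgroup.mem_inf.mp h3).2)
  obtain ⟨l, hlp, hldvd, hlne⟩ := hl
  haveI : Fact l.Prime := ⟨hlp⟩
  have hglC : g ^ l ∈ C := by
    apply hmin _ (N.pow_mem hgN l)
    rw [orderOf_pow_of_dvd hlp.ne_zero hldvd]
    exact Nat.div_lt_self hopos hlp.one_lt
  refine ⟨l, hlp, hlne, hldvd.trans (orderOf_dvd_natCard g), ?_⟩
  -- the conjugation map on P
  have hnorm : ∀ x : G, x ∈ (P : Subgroup G) → g * x * g⁻¹ ∈ (P : Subgroup G) := by
    intro x hx
    exact ((Subgroup.mem_normalizer_iff.mp hgN) x).mp hx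
  let f : Function.End (P : Subgroup G) := fun x => ⟨g * x * g⁻¹, hnorm x x.2⟩
  have hpow : ∀ n : ℕ, ∀ x : (P : Subgroup G), (((f ^ n) x : (P : Subgroup G)) : G) = g ^ n * x * (g ^ n)⁻¹ := by
    intro n
    induction n with
    | zero =>
      intro x
      rw [pow_zero, pow_zero]
      show ((x : (P : Subgroup G)) : G) = _
      simp
    | succ n ih =>
      intro x
      rw [pow_succ]
      show (((f ^ n) (f x) : (P : Subgroup G)) : G) = _
      rw [ih]
      show g ^ n * (g * x * g⁻¹) * (g ^ n)⁻¹ = _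
      rw [pow_succ]
      group
  have hf : f ^ l ^ 1 = 1 := by
    rw [pow_one]
    funext x
    apply Subtype.ext
    rw [hpow]
    have := Subgroup.mem_centralizer_iff.mp hglC x x.2
    show g ^ l * x * (g ^ l)⁻¹ = x
    rw [← this]
    group
  haveI := Fintype.ofFinite (P : Subgroup G)
  have hmod := Equiv.Perm.card_fixedPoints_modEq (p := l) (n := 1) hf
  set F : Subgroup (P : Subgroup G) := (Subgroup.centralizer ({g} : Set G)).subgroupOf (P : Subgroup G) with hF
  have hfix : Function.fixedPoints f = (F : Set (P : Subgroup G)) := by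
    ext x
    simp only [Function.mem_fixedPoints, Function.IsFixedPt, SetLike.mem_coe, hF,
      Subgroup.mem_subgroupOf, Subgroup.mem_centralizer_iff, Set.mem_singleton_iff, forall_eq]
    constructor
    · intro h
      have h1 : g * x * g⁻¹ = x := congrArg Subtype.val h
      calc g * (x : G) = (g * x * g⁻¹) * g := by group
        _ = x * g := by rw [h1]
    · intro h
      apply Subtype.ext
      show g * x * g⁻¹ = x
      rw [h]; group
  have hcardfix : Fintype.card (Function.fixedPoints f) = Nat.card F := by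
    rw [← Nat.card_eq_fintype_card]
    rw [hfix]
    rfl
  rw [hcardfix, ← Nat.card_eq_fintype_card, hcard] at hmod
  have hFdvd : Nat.card F ∣ p ^ 2 := by
    rw [← hcard]; exact Subgroup.card_subgroup_dvd_card F
  obtain ⟨i, hi, hFi⟩ := (Nat.dvd_prime_pow hp).mp hFdvd
  have hi2 : i ≠ 2 := by
    intro h2
    rw [h2, ← hcard] at hFi
    have htop : F = ⊤ := Subgroup.eq_top_of_card_eq F hFi
    apply hgC
    rw [Subgroup.mem_centralizer_iff]
    intro x hx
    have hxF : (⟨x, hx⟩ : (P : Subgroup G)) ∈ F := by rw [htop]; exact Subgroup.mem_top _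
    rw [hF, Subgroup.mem_subgroupOf, Subgroup.mem_centralizer_iff] at hxF
    exact (hxF g rfl).symm
  rw [hFi] at hmod
  have hle : p ^ i ≤ p ^ 2 := Nat.pow_le_pow_right hp.pos hi
  have hdvd : l ∣ p ^ 2 - p ^ i := (Nat.modEq_iff_dvd' hle).mp hmod.symm
  have hi' : i = 0 ∨ i = 1 := by omega
  rcases hi' with rfl | rfl
  · simpa using hdvd
  · have h1 : p ^ 2 - p ^ 1 = p * (p - 1) := by
      rw [pow_one, pow_two, Nat.mul_sub, mul_one]
    rw [h1] at hdvd
    rcases (Nat.Prime.dvd_mul hlp).mp hdvd with h | h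
    · exact absurd ((Nat.prime_dvd_prime_iff_eq hlp hp).mp h) hlne
    · have h2 : p ^ 2 - 1 = (p - 1) * (p + 1) := by
        obtain ⟨m, rfl⟩ : ∃ m, p = m + 1 := ⟨p - 1, by have := hp.pos; omega⟩
        have : (m + 1) ^ 2 = (m + 1 - 1) * (m + 1 + 1) + 1 := by
          simp only [Nat.add_sub_cancel]; ring
        omega
      rw [h2]
      exact Dvd.dvd.mul_right h _

variable {G : Type*} [Group G] [Finite G] [IsSimpleGroup G]

/-- A non-abelian simple group with a subgroup of index 4 has order dividing 12. -/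
theorem embed4 (hG : ∃ a b : G, a * b ≠ b * a) (H : Subgroup G) (hidx : H.index = 4) :
    Nat.card G ∣ 12 := by
  classical
  have hnc : ¬ IsMulCommutative G := by
    intro hc
    obtain ⟨a, b, hab⟩ := hG
    exact hab (hc.is_comm.comm a b)
  have hH : H ≠ ⊤ := by
    intro h
    rw [h, Subgroup.index_top] at hidx
    omega
  obtain ⟨f, hf⟩ := Cfsg.Agent.S0991.result hnc H hH
  have h1 : Nat.card G ∣ Nat.card (alternatingGroup (Fin H.index)) :=
    Subgroup.card_dvd_of_injective f hf
  rw [hidx] at h1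
  have h2 : Nat.card (alternatingGroup (Fin 4)) = 12 := by
    have := two_mul_nat_card_alternatingGroup (α := Fin 4)
    rw [Nat.card_eq_fintype_card (α := Equiv.Perm (Fin 4)), Fintype.card_perm, Fintype.card_fin] at this
    have h4 : (4 : ℕ).factorial = 24 := by decide
    omega
  rwa [h2] at h1

theorem sylow4 (hG : ∃ a b : G, a * b ≠ b * a) {p : ℕ} [Fact p.Prime] (P : Sylow p G)
    (h : Nat.card (Sylow p G) = 4) : Nat.card G ∣ 12 := by
  apply embed4 hG (Subgroup.normalizer ((P : Subgroup G) : Set G))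
  have h1 := P.card_eq_index_normalizer
  rw [h] at h1
  exact h1.symm

omit [Finite G] [IsSimpleGroup G] in
theorem sylow_ne_top {p : ℕ} [Fact p.Prime] (P : Sylow p G) (h : Nat.card P ≠ Nat.card G) :
    (P : Subgroup G) ≠ ⊤ := by
  intro h1
  apply h
  rw [h1, Subgroup.card_top]

end Cfsg.Agent.helper17.P2QR
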