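import Mathlib

set_option autoImplicit false

namespace Cfsg.Agent.helper17.Para

open Matrix

variable {F : Type*} [Field F]
variable {ι κ : Type*} [Fintype ι] [DecidableEq ι] [Fintype κ] [LinearOrder κ]

/-- block-diagonal part -/
def diagPart (b : ι → κ) (M : Matrix ι ι F) : Matrix ι ι F :=
  fun i j => if b i = b j then M i j else 0

lemma diagPart_bt (b : ι → κ) (M : Matrix ι ι F) : (diagPart b M).BlockTriangular b := by
  intro i j hij
  simp only [diagPart]
  rw [if_neg (ne_of_gt hij)]

lemma det_diagPart (b : ι → κ) (M : Matrix ι ι F) (hM : M.BlockTriangular b) :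
    (diagPart b M).det = M.det := by
  rw [hM.det_fintype, (diagPart_bt b M).det_fintype]
  apply Finset.prod_congr rfl
  intro k _
  congr 1
  ext i j
  simp only [toSquareBlock_def, of_apply, diagPart]
  rw [if_pos (i.2.trans j.2.symm)]

abbrev BTset (F : Type*) [Field F] (b : ι → κ) :=
  {M : Matrix ι ι F // M.BlockTriangular b ∧ IsUnit M.det}
abbrev Lset (F : Type*) [Field F] (b : ι → κ) :=
  {D : Matrix ι ι F // (∀ i j, b i ≠ b j → D i j = 0) ∧ IsUnit D.det}
abbrev Upos (b : ι → κ) := {p : ι × ι // b p.1 < b p.2}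

lemma bt_of_L (b : ι → κ) (D : Matrix ι ι F) (hD : ∀ i j, b i ≠ b j → D i j = 0) :
    D.BlockTriangular b := fun i j hij => hD i j (ne_of_gt hij)

/-- `P ≃ L × U` as sets -/
noncomputable def equiv1 (b : ι → κ) : BTset F b ≃ Lset F b × (Upos b → F) where
  toFun M := (⟨diagPart b M.1, fun i j hij => by simp [diagPart, hij],
      by rw [det_diagPart b M.1 M.2.1]; exact M.2.2⟩, fun p => M.1 p.1.1 p.1.2)
  invFun x := ⟨fun i j => if h : b i < b j then x.2 ⟨(i, j), h⟩ else x.1.1 i j, by
      have hbt : BlockTriangular (fun i j => if h : b i < b j then x.2 ⟨(i, j), h⟩ else x.1.1 i j) b := by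
        intro i j hij
        show (if h : b i < b j then x.2 ⟨(i, j), h⟩ else x.1.1 i j) = 0
        rw [dif_neg (not_lt_of_gt hij)]
        exact x.1.2.1 i j (ne_of_gt hij)
      refine ⟨hbt, ?_⟩
      rw [← det_diagPart b _ hbt]
      have : diagPart b (fun i j => if h : b i < b j then x.2 ⟨(i, j), h⟩ else x.1.1 i j) = x.1.1 := by
        ext i j
        simp only [diagPart]
        split_ifs with h1 h2
        · exact absurd h1 (ne_of_lt h2)
        · rfl
        · exact (x.1.2.1 i j h1).symm
      rw [this]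
      exact x.1.2.2⟩
  left_inv M := by
    apply Subtype.ext
    ext i j
    simp only [diagPart]
    split_ifs with h1 h2
    · rfl
    · rfl
    · have : b j < b i := lt_of_le_of_ne (not_lt.mp h1) (Ne.symm h2)
      exact (M.2.1 this).symm
  right_inv x := by
    obtain ⟨⟨D, hD1, hD2⟩, N⟩ := x
    refine Prod.ext (Subtype.ext ?_) ?_
    · ext i j
      simp only [diagPart]
      split_ifs with h1 h2
      · exact absurd h1 (ne_of_lt h2)
      · rfl
      · exact (hD1 i j h1).symm
    · funext p
      obtain ⟨⟨i, j⟩, hp⟩ := p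
      simp only
      rw [dif_pos hp]


/-- the block-diagonal matrix assembled from blocks -/
def assemble (b : ι → κ) (E : ∀ k : κ, Matrix {i // b i = k} {i // b i = k} F) : Matrix ι ι F :=
  fun i j => if h : b i = b j then E (b i) ⟨i, rfl⟩ ⟨j, h.symm⟩ else 0

lemma toSquareBlock_assemble (b : ι → κ) (E : ∀ k : κ, Matrix {i // b i = k} {i // b i = k} F) (k : κ) :
    (assemble b E).toSquareBlock b k = E k := by
  ext i j
  obtain ⟨i, rfl⟩ := i
  simp only [toSquareBlock_def, of_apply, assemble]
  rw [dif_pos j.2.symm]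

lemma assemble_L (b : ι → κ) (E : ∀ k : κ, Matrix {i // b i = k} {i // b i = k} F) :
    ∀ i j, b i ≠ b j → assemble b E i j = 0 := by
  intro i j hij
  simp only [assemble]
  rw [dif_neg hij]

lemma det_assemble (b : ι → κ) (E : ∀ k : κ, Matrix {i // b i = k} {i // b i = k} F) :
    (assemble b E).det = ∏ k, (E k).det := by
  rw [(bt_of_L b _ (assemble_L b E)).det_fintype]
  apply Finset.prod_congr rfl
  intro k _
  rw [toSquareBlock_assemble]

lemma assemble_toSquareBlock (b : ι → κ) (D : Matrix ι ι F) (hD : ∀ i j, b i ≠ b j → D i j = 0) :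
    assemble b (fun k => D.toSquareBlock b k) = D := by
  ext i j
  simp only [assemble]
  split_ifs with h
  · rfl
  · exact (hD i j h).symm

lemma isUnit_det_block (b : ι → κ) (D : Matrix ι ι F) (hD : ∀ i j, b i ≠ b j → D i j = 0)
    (hdet : IsUnit D.det) (k : κ) : IsUnit (D.toSquareBlock b k).det := by
  rw [(bt_of_L b D hD).det_fintype] at hdet
  rw [isUnit_iff_ne_zero] at hdet ⊢
  exact (Finset.prod_ne_zero_iff.mp hdet) k (Finset.mem_univ k)

/-- `L ≃ ∏ GL(block)` -/
noncomputable def equiv2 (b : ι → κ) : Lset F b ≃ (∀ k : κ, GL {i // b i = k} F) where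
  toFun D := fun k => ((Matrix.isUnit_iff_isUnit_det _).mpr (isUnit_det_block b D.1 D.2.1 D.2.2 k)).unit
  invFun E := ⟨assemble b (fun k => (E k : Matrix {i // b i = k} {i // b i = k} F)), assemble_L b _, by
    rw [det_assemble, isUnit_iff_ne_zero, Finset.prod_ne_zero_iff]
    intro k _
    exact isUnit_iff_ne_zero.mp ((Matrix.isUnit_iff_isUnit_det _).mp (E k).isUnit)⟩
  left_inv D := by
    apply Subtype.ext
    exact assemble_toSquareBlock b D.1 D.2.1
  right_inv E := by
    funext k
    apply Units.ext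
    simp only [IsUnit.unit_spec]
    exact toSquareBlock_assemble b _ k

end Cfsg.Agent.helper17.Para
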