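import Mathlib
import Cfsg.Agent.Lib_helper17_Para1

set_option autoImplicit false

namespace Cfsg.Agent.helper17.Para

open Matrix

/-- q-factorial as in the statement -/
def qfac (q c : ℕ) : ℕ := ∏ j ∈ Finset.range c, ∑ l ∈ Finset.range (j + 1), q ^ l

/-- triangular number -/
def tri (c : ℕ) : ℕ := ∑ i ∈ Finset.range c, i

lemma tri_spec (c : ℕ) : 2 * tri c + c = c * c := by
  have := Finset.sum_range_id_mul_two c
  unfold tri
  rcases c with _ | c
  · simp
  · simp only [Nat.add_sub_cancel] at this
    nlinarith

lemma qfac_pos (q c : ℕ) (hq : 1 ≤ q) : 0 < qfac q c := by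
  unfold qfac
  apply Finset.prod_pos
  intro j _
  apply Finset.sum_pos
  · intro l _; positivity
  · exact ⟨0, by simp⟩

/-- the order formula of `GL_c(q)` in factored form -/
lemma prod_formula (q c : ℕ) (hq : 1 ≤ q) :
    ∏ i : Fin c, (q ^ c - q ^ (i : ℕ)) = q ^ tri c * (q - 1) ^ c * qfac q c := by
  rw [Fin.prod_univ_eq_prod_range (fun i => q ^ c - q ^ i) c]
  have h1 : ∀ i ∈ Finset.range c, q ^ c - q ^ i = q ^ i * (q ^ (c - i) - 1) := by
    intro i hi
    have hic : i < c := Finset.mem_range.mp hi
    have : q ^ c = q ^ i * q ^ (c - i) := by rw [← pow_add]; congr 1; omega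
    rw [this, Nat.mul_sub, mul_one]
  rw [Finset.prod_congr rfl h1, Finset.prod_mul_distrib, Finset.prod_pow_eq_pow_sum]
  have h2 : ∏ i ∈ Finset.range c, (q ^ (c - i) - 1) = ∏ j ∈ Finset.range c, (q ^ (j + 1) - 1) := by
    rw [← Finset.prod_range_reflect (fun j => q ^ (j + 1) - 1) c]
    apply Finset.prod_congr rfl
    intro i hi
    have hic : i < c := Finset.mem_range.mp hi
    congr 2
    omega
  have h3 : ∀ j ∈ Finset.range c, q ^ (j + 1) - 1 = (q - 1) * ∑ l ∈ Finset.range (j + 1), q ^ l := by
    intro j _
    have := geom_sum_mul_add (q - 1) (j + 1)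
    rw [Nat.sub_add_cancel hq] at this
    rw [← this, Nat.add_sub_cancel, mul_comm]
  rw [h2, Finset.prod_congr rfl h3, Finset.prod_mul_distrib, Finset.prod_const, Finset.card_range]
  unfold tri qfac
  ring

variable {F : Type*} [Field F] [Fintype F]
variable {ι κ : Type*} [Fintype ι] [DecidableEq ι] [Fintype κ] [LinearOrder κ]

lemma card_GL_fintype (α : Type*) [Fintype α] [DecidableEq α] :
    Nat.card (GL α F) = ∏ i : Fin (Fintype.card α), (Fintype.card F ^ Fintype.card α - Fintype.card F ^ (i : ℕ)) := by
  rw [← Matrix.card_GL_field]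
  exact Nat.card_congr (Units.mapEquiv (Matrix.reindexAlgEquiv F F (Fintype.equivFin α)).toMulEquiv).toEquiv

lemma card_BTset (b : ι → κ) :
    Nat.card (BTset F b) =
      (∏ k : κ, ∏ i : Fin (Fintype.card {i // b i = k}),
        (Fintype.card F ^ Fintype.card {i // b i = k} - Fintype.card F ^ (i : ℕ))) *
      Fintype.card F ^ Fintype.card (Upos b) := by
  classical
  rw [Nat.card_congr (equiv1 (F := F) b), Nat.card_prod, Nat.card_congr (equiv2 (F := F) b), Nat.card_pi]
  congr 1
  · apply Finset.prod_congr rfl
    intro k _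
    exact card_GL_fintype _
  · rw [Nat.card_eq_fintype_card, Fintype.card_fun]

/-- counting pairs -/
lemma pairs_count (b : ι → κ) :
    2 * Fintype.card (Upos b) + ∑ k : κ, Fintype.card {i // b i = k} * Fintype.card {i // b i = k} =
      Fintype.card ι * Fintype.card ι := by
  classical
  have h1 : Fintype.card (ι × ι) = Fintype.card ι * Fintype.card ι := Fintype.card_prod _ _
  rw [← h1]
  have hlt : Fintype.card (Upos b) = (Finset.univ.filter (fun p : ι × ι => b p.1 < b p.2)).card := by
    rw [Fintype.card_subtype]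
  have hgt : (Finset.univ.filter (fun p : ι × ι => b p.2 < b p.1)).card =
      (Finset.univ.filter (fun p : ι × ι => b p.1 < b p.2)).card := by
    apply Finset.card_bij (fun p _ => (p.2, p.1))
    · intro p hp; simpa using hp
    · intro p _ p' _ h
      simp only [Prod.mk.injEq] at h
      exact Prod.ext h.2 h.1
    · intro p hp
      exact ⟨(p.2, p.1), by simpa using hp, rfl⟩
  have heq : (Finset.univ.filter (fun p : ι × ι => b p.1 = b p.2)).card =
      ∑ k : κ, Fintype.card {i // b i = k} * Fintype.card {i // b i = k} := by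
    rw [Finset.card_eq_sum_card_fiberwise (f := fun p : ι × ι => b p.1) (t := Finset.univ)
      (fun _ _ => Finset.mem_univ _)]
    apply Finset.sum_congr rfl
    intro k _
    rw [Fintype.card_subtype, ← Finset.card_product]
    congr 1
    ext p
    simp only [Finset.mem_filter, Finset.mem_univ, true_and, Finset.mem_product]
    constructor
    · rintro ⟨h1, h2⟩; exact ⟨h2, h1 ▸ h2⟩
    · rintro ⟨h1, h2⟩; exact ⟨h1.trans h2.symm, h1⟩
  have hsplit : Fintype.card (ι × ι) =
      (Finset.univ.filter (fun p : ι × ι => b p.1 < b p.2)).card +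
      (Finset.univ.filter (fun p : ι × ι => b p.2 < b p.1)).card +
      (Finset.univ.filter (fun p : ι × ι => b p.1 = b p.2)).card := by
    rw [← Finset.card_univ]
    rw [← Finset.card_union_of_disjoint, ← Finset.card_union_of_disjoint]
    · congr 1
      ext p
      simp only [Finset.mem_univ, Finset.mem_union, Finset.mem_filter, true_and, true_iff]
      rcases lt_trichotomy (b p.1) (b p.2) with h | h | h
      · exact Or.inl (Or.inl h)
      · exact Or.inr h
      · exact Or.inl (Or.inr h)
    · rw [Finset.disjoint_left]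
      intro p hp hp'
      simp only [Finset.mem_union, Finset.mem_filter, Finset.mem_univ, true_and] at hp hp'
      rcases hp with h | h
      · exact absurd hp' (ne_of_lt h)
      · exact absurd hp'.symm (ne_of_lt h)
    · rw [Finset.disjoint_left]
      intro p hp hp'
      simp only [Finset.mem_filter, Finset.mem_univ, true_and] at hp hp'
      exact absurd hp (not_lt_of_gt hp')
  rw [hsplit, hgt, heq, hlt]
  ring

end Cfsg.Agent.helper17.Para
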