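import Mathlib
import Cfsg.Prelude.Def_LinearParabolics
import Cfsg.Agent.Lib_helper17_Para2

set_option autoImplicit false

namespace Cfsg.Agent.helper17.Para

open Matrix Cfsg

variable {n : ℕ}

/-- prefix sums -/
def pre (μ : Fin n → ℕ) (k : ℕ) : ℕ := ∑ j ∈ Finset.univ.filter (fun j : Fin n => j.val < k), μ j

lemma pre_zero (μ : Fin n → ℕ) : pre μ 0 = 0 := by
  simp [pre]

lemma pre_succ (μ : Fin n → ℕ) (k : ℕ) (hk : k < n) : pre μ (k + 1) = pre μ k + μ ⟨k, hk⟩ := by
  unfold pre
  have : Finset.univ.filter (fun j : Fin n => j.val < k + 1) =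
      insert ⟨k, hk⟩ (Finset.univ.filter (fun j : Fin n => j.val < k)) := by
    ext j
    simp only [Finset.mem_filter, Finset.mem_univ, true_and, Finset.mem_insert, Fin.ext_iff]
    omega
  rw [this, Finset.sum_insert (by simp), add_comm]

lemma pre_mono (μ : Fin n → ℕ) {k k' : ℕ} (h : k ≤ k') : pre μ k ≤ pre μ k' := by
  unfold pre
  apply Finset.sum_le_sum_of_subset
  intro j hj
  simp only [Finset.mem_filter, Finset.mem_univ, true_and] at hj ⊢
  omega

lemma pre_n (μ : Fin n → ℕ) : pre μ n = ∑ i, μ i := by
  unfold pre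
  congr 1
  ext j
  simp [j.2]

lemma partial_eq (μ : Fin n → ℕ) (j : Fin n) :
    ∑ l ∈ Finset.univ.filter (fun l : Fin n => l ≤ j), μ l = pre μ (j.val + 1) := by
  unfold pre
  congr 1
  ext l
  simp only [Finset.mem_filter, Finset.mem_univ, true_and, Fin.le_def]
  omega

lemma compLabel_eq (μ : Fin n → ℕ) (i : Fin n) :
    compLabel μ i = (Finset.univ.filter fun j : Fin n => pre μ (j.val + 1) ≤ i.val).card := by
  unfold compLabel
  congr 1
  ext j
  simp only [Finset.mem_filter, Finset.mem_univ, true_and, partial_eq]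

lemma le_compLabel_iff (μ : Fin n → ℕ) (i : Fin n) (k : ℕ) (hk : k ≤ n) :
    k ≤ compLabel μ i ↔ pre μ k ≤ i.val := by
  rw [compLabel_eq]
  constructor
  · intro h
    rcases Nat.eq_zero_or_pos k with rfl | hkpos
    · rw [pre_zero]; omega
    · by_contra hlt
      have hsub : (Finset.univ.filter fun j : Fin n => pre μ (j.val + 1) ≤ i.val) ⊆
          Finset.univ.filter (fun j : Fin n => j.val < k - 1) := by
        intro j hj
        simp only [Finset.mem_filter, Finset.mem_univ, true_and] at hj ⊢
        by_contra hge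
        have : pre μ k ≤ pre μ (j.val + 1) := pre_mono μ (by omega)
        omega
      have hc := Finset.card_le_card hsub
      have : (Finset.univ.filter (fun j : Fin n => j.val < k - 1)).card = min n (k - 1) := by
        have := Fin.card_filter_val_lt (n := n) (m := k - 1)
        simpa using this
      rw [this] at hc
      have : min n (k - 1) ≤ k - 1 := min_le_right _ _
      omega
  · intro h
    have hsub : Finset.univ.filter (fun j : Fin n => j.val < k) ⊆
        (Finset.univ.filter fun j : Fin n => pre μ (j.val + 1) ≤ i.val) := by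
      intro j hj
      simp only [Finset.mem_filter, Finset.mem_univ, true_and] at hj ⊢
      have : pre μ (j.val + 1) ≤ pre μ k := pre_mono μ (by omega)
      omega
    have hc := Finset.card_le_card hsub
    have : (Finset.univ.filter (fun j : Fin n => j.val < k)).card = min n k := by
      have := Fin.card_filter_val_lt (n := n) (m := k)
      simpa using this
    rw [this, min_eq_right hk] at hc
    exact hc

lemma compLabel_eq_iff (μ : Fin n → ℕ) (i : Fin n) (k : ℕ) (hk : k < n) :
    compLabel μ i = k ↔ pre μ k ≤ i.val ∧ i.val < pre μ (k + 1) := by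
  have h1 := le_compLabel_iff μ i k (by omega)
  have h2 := le_compLabel_iff μ i (k + 1) (by omega)
  constructor
  · intro h
    refine ⟨h1.mp (by omega), ?_⟩
    by_contra hge
    have := h2.mpr (by omega)
    omega
  · rintro ⟨ha, hb⟩
    have := h1.mpr ha
    have : ¬ (k + 1 ≤ compLabel μ i) := fun h => by have := h2.mp h; omega
    omega

lemma compLabel_le (μ : Fin n → ℕ) (i : Fin n) : compLabel μ i ≤ n := by
  unfold compLabel
  exact (Finset.card_filter_le _ _).trans (by simp)

/-- fibre sizes of the block labelling -/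
lemma card_fiber (μ : Fin n → ℕ) (hμ : ∑ i, μ i = n) (k : Fin n) :
    Fintype.card {i : Fin n // compLabel μ i = k.val} = μ k := by
  classical
  rw [Fintype.card_subtype]
  have hle : pre μ (k.val + 1) ≤ n := by
    have := pre_mono μ (show k.val + 1 ≤ n by omega)
    rw [pre_n, hμ] at this
    exact this
  have h1 : (Finset.univ.filter (fun i : Fin n => compLabel μ i = k.val)).map Fin.valEmbedding =
      Finset.Ico (pre μ k.val) (pre μ (k.val + 1)) := by
    ext x
    simp only [Finset.mem_map, Finset.mem_filter, Finset.mem_univ, true_and, Fin.valEmbedding_apply,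
      Finset.mem_Ico]
    constructor
    · rintro ⟨i, hi, rfl⟩
      exact (compLabel_eq_iff μ i k.val k.2).mp hi
    · rintro ⟨ha, hb⟩
      exact ⟨⟨x, by omega⟩, (compLabel_eq_iff μ ⟨x, by omega⟩ k.val k.2).mpr ⟨ha, hb⟩, rfl⟩
  have h2 := congrArg Finset.card h1
  rw [Finset.card_map, Nat.card_Ico, pre_succ μ k.val k.2] at h2
  rw [h2]
  simp

end Cfsg.Agent.helper17.Para
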