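import Mathlib

set_option autoImplicit false

namespace Cfsg.Agent.helper17

open MulAction

section prim

variable {H : Type*} [Group H] {X : Type*} [MulAction H X]

/-- a nontrivial normal subgroup of a faithful primitive group is transitive -/
theorem normal_transitive [FaithfulSMul H X] [IsPreprimitive H X] (A : Subgroup H) [A.Normal]
    (hne : A ≠ ⊥) (x y : X) : ∃ a ∈ A, a • x = y := by
  obtain ⟨⟨a, ha⟩, ha1'⟩ := Subgroup.ne_bot_iff_exists_ne_one.mp hne
  have ha1 : a ≠ 1 := fun h => ha1' (Subtype.ext h)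
  obtain ⟨z, hz⟩ : ∃ z : X, a • z ≠ z := by
    by_contra hall
    push Not at hall
    exact ha1 (FaithfulSMul.eq_of_smul_eq_smul (α := X) (fun y => by rw [hall y, one_smul]))
  have hfp : fixedPoints A X ≠ Set.univ := by
    intro h
    have hmem : z ∈ fixedPoints A X := by rw [h]; trivial
    exact hz (hmem ⟨a, ha⟩)
  have htr : IsPretransitive A X := IsQuasiPreprimitive.isPretransitive_of_normal hfp
  obtain ⟨n, hn⟩ := htr.exists_smul_eq x y
  exact ⟨n.1, n.2, hn⟩

/-- an element centralizing a transitive subgroup and fixing a point is trivial -/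
theorem eq_one_of_centralizes_transitive [FaithfulSMul H X] (A : Subgroup H)
    (htr : ∀ x y : X, ∃ a ∈ A, a • x = y) (c : H) (hc : ∀ a ∈ A, c * a = a * c) (x : X)
    (hx : c • x = x) : c = 1 := by
  apply FaithfulSMul.eq_of_smul_eq_smul (α := X)
  intro y
  obtain ⟨a, ha, rfl⟩ := htr x y
  rw [← mul_smul, hc a ha, mul_smul, hx, one_smul]

/-- a transitive abelian subgroup is self-centralizing -/
theorem mem_of_centralizes_abelian_transitive [FaithfulSMul H X] [Nonempty X] (A : Subgroup H)
    (hA : ∀ a ∈ A, ∀ b ∈ A, a * b = b * a) (htr : ∀ x y : X, ∃ a ∈ A, a • x = y) (c : H)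
    (hc : ∀ a ∈ A, c * a = a * c) : c ∈ A := by
  obtain ⟨x⟩ := ‹Nonempty X›
  obtain ⟨a, ha, hax⟩ := htr x (c • x)
  have h1 : a⁻¹ * c = 1 := by
    apply eq_one_of_centralizes_transitive A htr (a⁻¹ * c) ?_ x ?_
    · intro b hb
      have hab : Commute a⁻¹ b := (show Commute a b from hA a ha b hb).inv_left
      rw [mul_assoc, hc b hb, ← mul_assoc, hab.eq, mul_assoc]
    · rw [mul_smul, ← hax, inv_smul_smul]
  have h2 : c = a := by
    rw [inv_mul_eq_one] at h1
    exact h1.symm
  rw [h2]; exact ha

/-- a transitive abelian subgroup is regular -/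
theorem card_eq_of_abelian_transitive [FaithfulSMul H X] (A : Subgroup H)
    (hA : ∀ a ∈ A, ∀ b ∈ A, a * b = b * a) (htr : ∀ x y : X, ∃ a ∈ A, a • x = y) (x : X) :
    Nat.card A = Nat.card X := by
  apply Nat.card_congr (Equiv.ofBijective (fun a : A => (a : H) • x) ⟨?_, ?_⟩)
  · intro a b hab
    have hab' : (a : H) • x = (b : H) • x := hab
    have h1 : (b : H)⁻¹ * (a : H) = 1 := by
      apply eq_one_of_centralizes_transitive A htr _ ?_ x ?_
      · intro c hc
        exact hA _ (A.mul_mem (A.inv_mem b.2) a.2) c hc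
      · rw [mul_smul, hab', inv_smul_smul]
    apply Subtype.ext
    rw [inv_mul_eq_one] at h1
    exact h1.symm
  · intro y
    obtain ⟨a, ha, hay⟩ := htr x y
    exact ⟨⟨a, ha⟩, hay⟩

/-- a faithful primitive group with nontrivial centre has prime order -/
theorem prime_card_of_center_ne_bot [Finite H] [FaithfulSMul H X] [IsPreprimitive H X]
    [Nontrivial X] (hZ : Subgroup.center H ≠ ⊥) : (Nat.card H).Prime := by
  have htr := normal_transitive (X := X) (Subgroup.center H) hZ
  have hcomm : ∀ a ∈ Subgroup.center H, ∀ b ∈ Subgroup.center H, a * b = b * a :=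
    fun a ha b _ => (Subgroup.mem_center_iff.mp ha b).symm
  have hall : ∀ c : H, c ∈ Subgroup.center H := fun c =>
    mem_of_centralizes_abelian_transitive (X := X) _ hcomm htr c
      (fun a ha => Subgroup.mem_center_iff.mp ha c)
  obtain ⟨x⟩ := (inferInstance : Nonempty X)
  have hstab : stabilizer H x = ⊥ := by
    rw [Subgroup.eq_bot_iff_forall]
    intro c hc
    exact eq_one_of_centralizes_transitive (Subgroup.center H) htr c
      (fun a ha => Subgroup.mem_center_iff.mp ha c) x hc
  have hco : IsCoatom (stabilizer H x) := IsPreprimitive.isCoatom_stabilizer_of_isPreprimitive H x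
  rw [hstab] at hco
  obtain ⟨⟨a, ha⟩, ha1'⟩ := Subgroup.ne_bot_iff_exists_ne_one.mp hZ
  have ha1 : a ≠ 1 := fun h => ha1' (Subtype.ext h)
  have hnt : Nontrivial H := ⟨⟨a, 1, ha1⟩⟩
  let iC : CommGroup H :=
    { (inferInstance : Group H) with
      mul_comm := fun a b => Subgroup.mem_center_iff.mp (hall b) a }
  have hsimple : IsSimpleGroup H := ⟨fun K _ => by
    by_cases h : K = ⊥
    · left; exact h
    · right; exact hco.2 K (bot_lt_iff_ne_bot.mpr h)⟩
  exact @IsSimpleGroup.prime_card H iC hsimple

/-- a nontrivial nilpotent group has nontrivial centre -/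
theorem center_ne_bot_of_nilpotent {N : Type*} [Group N] [hN : Group.IsNilpotent N] [Nontrivial N] :
    Subgroup.center N ≠ ⊥ := by
  intro h
  obtain ⟨n, hn⟩ := hN.nilpotent'
  have hall : ∀ k, Subgroup.upperCentralSeries N k = ⊥ := by
    intro k
    induction k with
    | zero => exact Subgroup.upperCentralSeries_zero N
    | succ k ih =>
      rw [eq_bot_iff]
      intro x hx
      rw [Subgroup.mem_upperCentralSeries_succ_iff] at hx
      rw [← h, Subgroup.mem_center_iff]
      intro y
      have h1 := hx y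
      rw [ih, Subgroup.mem_bot] at h1
      have h2 : x * y = y * x := commutatorElement_eq_one_iff_mul_comm.mp h1
      exact h2.symm
  rw [hall n] at hn
  exact bot_ne_top hn

/-- a nilpotent normal subgroup of a faithful primitive group is abelian -/
theorem abelian_of_nilpotent_normal [FaithfulSMul H X] [IsPreprimitive H X] [Nonempty X]
    (N : Subgroup H) [hNn : N.Normal] [Group.IsNilpotent N] :
    ∀ a ∈ N, ∀ b ∈ N, a * b = b * a := by
  by_cases hN : N = ⊥
  · subst hN
    intro a ha b hb
    rw [Subgroup.mem_bot] at ha hb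
    rw [ha, hb]
  have hnt : Nontrivial N := (Subgroup.nontrivial_iff_ne_bot N).mpr hN
  have hZ := center_ne_bot_of_nilpotent (N := N)
  set Z := (Subgroup.center N).map N.subtype with hZdef
  have hZn : Z.Normal := ConjAct.normal_of_characteristic_of_normal
  have hZne : Z ≠ ⊥ := by
    rw [hZdef, Ne, Subgroup.map_eq_bot_iff_of_injective _ N.subtype_injective]
    exact hZ
  have hZcomm : ∀ a ∈ Z, ∀ b ∈ Z, a * b = b * a := by
    rintro _ ⟨a, ha, rfl⟩ _ ⟨b, hb, rfl⟩
    have := Subgroup.mem_center_iff.mp ha b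
    have h2 := congrArg N.subtype this
    rw [map_mul, map_mul] at h2
    exact h2.symm
  have htr := normal_transitive (X := X) Z hZne
  have hNZ : ∀ n ∈ N, n ∈ Z := fun n hn =>
    mem_of_centralizes_abelian_transitive (X := X) Z hZcomm htr n (by
      rintro _ ⟨z, hz, rfl⟩
      have := Subgroup.mem_center_iff.mp hz ⟨n, hn⟩
      have h2 := congrArg N.subtype this
      rw [map_mul, map_mul] at h2
      exact h2)
  intro a ha b hb
  exact hZcomm a (hNZ a ha) b (hNZ b hb)

/-- a nontrivial abelian normal subgroup of a finite faithful primitive group is an elementary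
abelian `p`-group -/
theorem elementary_of_abelian_normal [Finite H] [FaithfulSMul H X] [IsPreprimitive H X]
    [Nonempty X] (A : Subgroup H) [hAn : A.Normal] (hA : ∀ a ∈ A, ∀ b ∈ A, a * b = b * a)
    (hne : A ≠ ⊥) : ∃ p e : ℕ, p.Prime ∧ Nat.card A = p ^ e ∧ ∀ a ∈ A, a ^ p = 1 := by
  have hcard : Nat.card A ≠ 1 := by rwa [Ne, Subgroup.card_eq_one]
  obtain ⟨p, hp, hpd⟩ := Nat.exists_prime_and_dvd hcard
  have := Fact.mk hp
  let B : Subgroup H :=
    { carrier := {a | a ∈ A ∧ a ^ p = 1}
      one_mem' := ⟨A.one_mem, one_pow _⟩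
      mul_mem' := by
        rintro a b ⟨ha, ha'⟩ ⟨hb, hb'⟩
        exact ⟨A.mul_mem ha hb, by
          rw [(show Commute a b from hA a ha b hb).mul_pow, ha', hb', one_mul]⟩
      inv_mem' := by
        rintro a ⟨ha, ha'⟩
        exact ⟨A.inv_mem ha, by rw [inv_pow, ha', inv_one]⟩ }
  have hBn : B.Normal := ⟨fun b hb g =>
    ⟨hAn.conj_mem b hb.1 g, by rw [conj_pow, hb.2, mul_one, mul_inv_cancel]⟩⟩
  have hBne : B ≠ ⊥ := by
    obtain ⟨a, ha⟩ := exists_prime_orderOf_dvd_card' p hpd
    intro h
    have hmem : (a : H) ∈ B := ⟨a.2, by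
      have : a ^ p = 1 := by rw [← ha]; exact pow_orderOf_eq_one a
      exact congrArg Subtype.val this⟩
    rw [h, Subgroup.mem_bot] at hmem
    have : a = 1 := Subtype.ext hmem
    rw [this, orderOf_one] at ha
    exact hp.one_lt.ne ha
  have hBA : B ≤ A := fun b hb => hb.1
  have hBcomm : ∀ a ∈ B, ∀ b ∈ B, a * b = b * a := fun a ha b hb => hA a (hBA ha) b (hBA hb)
  obtain ⟨x⟩ := ‹Nonempty X›
  have h1 := card_eq_of_abelian_transitive B hBcomm (normal_transitive (X := X) B hBne) x
  have h2 := card_eq_of_abelian_transitive A hA (normal_transitive (X := X) A hne) x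
  have hBA' : B = A := Subgroup.eq_of_le_of_card_ge hBA (by rw [h1, h2])
  have hexp : ∀ a ∈ A, a ^ p = 1 := fun a ha => by
    have : a ∈ B := by rw [hBA']; exact ha
    exact this.2
  have hpg : IsPGroup p A := fun a => ⟨1, by
    rw [pow_one]
    exact Subtype.ext (by simpa using hexp a a.2)⟩
  obtain ⟨e, he⟩ := IsPGroup.iff_card.mp hpg
  exact ⟨p, e, hp, he, hexp⟩

end prim

section linear

/-- an action by additive maps on a vector space of order `p ^ e` over `ZMod p` gives a
homomorphism to `GL e p` with the expected kernel -/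
theorem hom_GL_of_action (p e : ℕ) [Fact p.Prime] {H : Type*} [Group H] {V : Type*}
    [AddCommGroup V] [Module (ZMod p) V] [Finite V]
    (hcard : Nat.card V = p ^ e) (ρ : H → V → V)
    (ρ_add : ∀ h v w, ρ h (v + w) = ρ h v + ρ h w)
    (ρ_one : ∀ v, ρ 1 v = v) (ρ_mul : ∀ g h v, ρ (g * h) v = ρ g (ρ h v)) :
    ∃ φ : H →* GL (Fin e) (ZMod p), ∀ h, φ h = 1 ↔ ∀ v, ρ h v = v := by
  have hfr : Module.finrank (ZMod p) V = e := by
    have h1 := Module.natCard_eq_pow_finrank (K := ZMod p) (V := V)
    rw [hcard, Nat.card_zmod] at h1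
    exact (Nat.pow_right_injective (Fact.out : p.Prime).two_le h1).symm
  let b : Module.Basis (Fin e) (ZMod p) V := Module.finBasisOfFinrankEq (ZMod p) V hfr
  let L : H →* (V →ₗ[ZMod p] V) :=
    { toFun := fun h => (AddMonoidHom.mk' (ρ h) (ρ_add h)).toZModLinearMap p
      map_one' := by
        ext v
        simp [ρ_one]
      map_mul' := by
        intro g h
        ext v
        simp [ρ_mul] }
  have hL : ∀ h v, L h v = ρ h v := fun h v => rfl
  let M : (V →ₗ[ZMod p] V) →* Matrix (Fin e) (Fin e) (ZMod p) :=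
    (LinearMap.toMatrixAlgEquiv b : (V →ₗ[ZMod p] V) →* Matrix (Fin e) (Fin e) (ZMod p))
  have hM : ∀ f, M f = LinearMap.toMatrixAlgEquiv b f := fun f => rfl
  refine ⟨(M.comp L).toHomUnits, fun h => ?_⟩
  constructor
  · intro hφ v
    have h1 : M (L h) = 1 := by
      have := congrArg Units.val hφ
      simpa using this
    have h2 : L h = 1 := by
      apply (LinearMap.toMatrixAlgEquiv b).injective
      rw [map_one, ← hM]; exact h1
    rw [← hL, h2]; rfl
  · intro hv
    apply Units.ext
    show M (L h) = 1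
    have : L h = 1 := by
      ext v
      rw [hL, hv v]; rfl
    rw [this, map_one]

/-- conjugation on an elementary abelian normal subgroup gives a homomorphism to `GL e p` with
kernel the centralizer -/
theorem exists_hom_GL_ker_centralizer {H : Type*} [Group H] (N : Subgroup H) [hN : N.Normal]
    [Finite N] (p e : ℕ) [Fact p.Prime]
    (hcomm : ∀ a ∈ N, ∀ b ∈ N, a * b = b * a) (hexp : ∀ a ∈ N, a ^ p = 1)
    (hcard : Nat.card N = p ^ e) :
    ∃ φ : H →* GL (Fin e) (ZMod p), φ.ker = Subgroup.centralizer (N : Set H) := by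
  letI iC : CommGroup N :=
    { (inferInstance : Group N) with
      mul_comm := fun a b => Subtype.ext (hcomm a a.2 b b.2) }
  have hpx : ∀ v : Additive N, p • v = 0 := by
    intro v
    have h1 : (Additive.toMul v) ^ p = 1 := Subtype.ext (by simpa using hexp _ (Additive.toMul v).2)
    have h2 := congrArg Additive.ofMul h1
    rw [ofMul_pow] at h2
    exact h2
  letI iM : Module (ZMod p) (Additive N) := AddCommGroup.zmodModule hpx
  have hfin : Finite (Additive N) := inferInstanceAs (Finite N)
  obtain ⟨φ, hφ⟩ := hom_GL_of_action p e (H := H) (V := Additive N) (by rw [← hcard]; rfl)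
    (fun h v => Additive.ofMul ⟨h * (Additive.toMul v : N) * h⁻¹,
      hN.conj_mem _ (Additive.toMul v).2 h⟩)
    (by
      intro h v w
      apply Additive.toMul.injective
      apply Subtype.ext
      simp [mul_assoc])
    (by
      intro v
      apply Additive.toMul.injective
      apply Subtype.ext
      simp)
    (by
      intro g h v
      apply Additive.toMul.injective
      apply Subtype.ext
      simp [mul_assoc])
  refine ⟨φ, ?_⟩
  ext h
  rw [MonoidHom.mem_ker, hφ, Subgroup.mem_centralizer_iff]
  constructor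
  · intro hv n hn
    have := hv (Additive.ofMul ⟨n, hn⟩)
    have h2 := congrArg (fun w => ((Additive.toMul w : N) : H)) this
    simp only [toMul_ofMul] at h2
    calc n * h = (h * n * h⁻¹) * h := by rw [h2]
      _ = h * n := by group
  · intro hc v
    apply Additive.toMul.injective
    apply Subtype.ext
    have := hc _ (Additive.toMul v).2
    simp only [toMul_ofMul]
    rw [mul_inv_eq_iff_eq_mul]
    exact this.symm

end linear

end Cfsg.Agent.helper17
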