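import Mathlib

set_option autoImplicit false
set_option linter.unusedSectionVars false

/-!
# A redundant Sylow `p`-subgroup of `GL_p(q)`, `p ∥ q - 1`: monomial matrices
-/

namespace Cfsg.Agent.helper17.RS

open Matrix

variable {p : ℕ} [Fact p.Prime] {F : Type*} [Field F]

/-- the monomial matrix `e_j ↦ d (j + k) • e_(j + k)` -/
def mon (d : ZMod p → F) (k : ZMod p) : Matrix (ZMod p) (ZMod p) F :=
  Matrix.of fun i j => if j + k = i then d i else 0

theorem mon_apply (d : ZMod p → F) (k i j : ZMod p) :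
    mon d k i j = if j + k = i then d i else 0 := rfl

theorem mon_mul (d e : ZMod p → F) (k l : ZMod p) :
    mon d k * mon e l = mon (fun i => d i * e (i - k)) (k + l) := by
  ext i j
  rw [Matrix.mul_apply, Finset.sum_eq_single (i - k)]
  · have hiff : j + (k + l) = i ↔ j + l = i - k := by
      constructor <;> intro h <;> linear_combination h
    simp only [mon_apply, sub_add_cancel, if_true, hiff]
    split_ifs <;> simp
  · intro m _ hm
    rw [mon_apply, if_neg (fun h => hm (eq_sub_of_add_eq h)), zero_mul]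
  · intro h; exact absurd (Finset.mem_univ _) h

theorem mon_one : mon (fun _ => (1 : F)) (0 : ZMod p) = 1 := by
  ext i j
  rw [mon_apply, Matrix.one_apply, add_zero]
  by_cases h : j = i
  · rw [if_pos h, if_pos h.symm]
  · rw [if_neg h, if_neg (Ne.symm h)]

theorem mon_congr {d e : ZMod p → F} {k l : ZMod p} (h1 : ∀ i, d i = e i) (h2 : k = l) :
    mon d k = mon e l := by
  rw [h2, funext h1]

/-- monomial matrices as units -/
def monU (d : ZMod p → F) (hd : ∀ i, d i ≠ 0) (k : ZMod p) : GL (ZMod p) F :=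
  ⟨mon d k, mon (fun i => (d (i + k))⁻¹) (-k), by
    rw [mon_mul, ← mon_one]
    apply mon_congr
    · intro i
      rw [sub_add_cancel, mul_inv_cancel₀ (hd i)]
    · exact add_neg_cancel k, by
    rw [mon_mul, ← mon_one]
    apply mon_congr
    · intro i
      rw [sub_neg_eq_add, inv_mul_cancel₀ (hd _)]
    · exact neg_add_cancel k⟩

theorem monU_val (d : ZMod p → F) (hd : ∀ i, d i ≠ 0) (k : ZMod p) :
    ((monU d hd k : GL (ZMod p) F) : Matrix (ZMod p) (ZMod p) F) = mon d k := rfl

theorem ne_zero_of_pow {a : F} (h : a ^ p = 1) : a ≠ 0 := by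
  intro h0
  rw [h0, zero_pow (NeZero.ne p)] at h
  exact zero_ne_one h

/-- the monomial `p`-subgroup `μ_p ≀ C_p` -/
def Qs (p : ℕ) [Fact p.Prime] (F : Type*) [Field F] : Subgroup (GL (ZMod p) F) where
  carrier := {g | ∃ (d : ZMod p → F) (k : ZMod p), (∀ i, d i ^ p = 1) ∧
    (g : Matrix (ZMod p) (ZMod p) F) = mon d k}
  mul_mem' := by
    rintro g h ⟨d, k, hd, hg⟩ ⟨e, l, he, hh⟩
    refine ⟨_, _, ?_, by rw [Units.val_mul, hg, hh, mon_mul]⟩
    intro i
    rw [mul_pow, hd, he, one_mul]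
  one_mem' := ⟨fun _ => 1, 0, fun _ => one_pow _, by rw [Units.val_one, mon_one]⟩
  inv_mem' := by
    rintro g ⟨d, k, hd, hg⟩
    have hd0 : ∀ i, d i ≠ 0 := fun i => ne_zero_of_pow (hd i)
    refine ⟨fun i => (d (i + k))⁻¹, -k, fun i => by rw [inv_pow, hd, inv_one], ?_⟩
    have : g = monU d hd0 k := Units.ext hg
    rw [this]
    rfl

theorem mem_Qs (g : GL (ZMod p) F) : g ∈ Qs p F ↔ ∃ (d : ZMod p → F) (k : ZMod p),
    (∀ i, d i ^ p = 1) ∧ (g : Matrix (ZMod p) (ZMod p) F) = mon d k := Iff.rfl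

theorem monU_mem (d : ZMod p → F) (hd : ∀ i, d i ^ p = 1) (k : ZMod p) :
    monU d (fun i => ne_zero_of_pow (hd i)) k ∈ Qs p F := ⟨d, k, hd, rfl⟩

theorem mon_inj {d e : ZMod p → F} {k l : ZMod p} (hd : ∀ i, d i ≠ 0)
    (h : mon d k = mon e l) : k = l ∧ d = e := by
  have h1 : ∀ i, (i - k + l = i) ∧ d i = e i := by
    intro i
    have := congrFun (congrFun h i) (i - k)
    rw [mon_apply, mon_apply, sub_add_cancel, if_pos rfl] at this
    by_cases hc : i - k + l = i
    · rw [if_pos hc] at this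
      exact ⟨hc, this⟩
    · rw [if_neg hc] at this
      exact absurd this (hd i)
  refine ⟨?_, funext fun i => (h1 i).2⟩
  have := (h1 0).1
  linear_combination -this

theorem card_Qs [Fintype F] {ω : F} (hω : IsPrimitiveRoot ω p) :
    Nat.card (Qs p F) = p ^ (p + 1) := by
  have hp0 : 0 < p := (Fact.out : p.Prime).pos
  let φ : (ZMod p → {a : F // a ^ p = 1}) × ZMod p → GL (ZMod p) F :=
    fun x => monU (fun i => (x.1 i).1) (fun i => ne_zero_of_pow (x.1 i).2) x.2
  have hφ : Function.Injective φ := by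
    rintro ⟨d, k⟩ ⟨e, l⟩ h
    have h1 : mon (fun i => (d i).1) k = mon (fun i => (e i).1) l := congrArg Units.val h
    obtain ⟨h2, h3⟩ := mon_inj (fun i => ne_zero_of_pow (d i).2) h1
    refine Prod.ext ?_ h2
    funext i
    exact Subtype.ext (congrFun h3 i)
  have hrange : Set.range φ = (Qs p F : Set (GL (ZMod p) F)) := by
    ext g
    constructor
    · rintro ⟨x, rfl⟩
      exact ⟨fun i => (x.1 i).1, x.2, fun i => (x.1 i).2, rfl⟩
    · rintro ⟨d, k, hd, hg⟩
      exact ⟨(fun i => ⟨d i, hd i⟩, k), Units.ext hg.symm⟩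
  have hμ : Nat.card {a : F // a ^ p = 1} = p := by
    rw [Nat.card_congr (Equiv.subtypeEquivRight
      (fun a => (Polynomial.mem_nthRootsFinset hp0 (1 : F)).symm)), Nat.card_eq_fintype_card,
      Fintype.card_coe, hω.card_nthRootsFinset]
  have h1 : Nat.card (Qs p F) = Nat.card (Set.range φ) := by
    rw [hrange]
    rfl
  rw [h1, ← Nat.card_congr (Equiv.ofInjective φ hφ), Nat.card_prod, Nat.card_fun, hμ,
    Nat.card_zmod, pow_succ]

end Cfsg.Agent.helper17.RS
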