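import Mathlib
import Cfsg.Agent.Lib_helper17_RS1

set_option autoImplicit false
set_option linter.unusedSectionVars false

/-!
# Elements normalizing the monomial subgroup are monomial
-/

namespace Cfsg.Agent.helper17.RS

open Matrix

variable {p : ℕ} [Fact p.Prime] {F : Type*} [Field F]

theorem mul_mon_zero_apply (G : Matrix (ZMod p) (ZMod p) F) (δ : ZMod p → F) (a m : ZMod p) :
    (G * mon δ 0) a m = G a m * δ m := by
  rw [Matrix.mul_apply, Finset.sum_eq_single m]
  · rw [mon_apply, add_zero, if_pos rfl]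
  · intro n _ hn
    rw [mon_apply, add_zero, if_neg (Ne.symm hn), mul_zero]
  · intro h; exact absurd (Finset.mem_univ _) h

theorem mon_mul_apply (e : ZMod p → F) (k : ZMod p) (G : Matrix (ZMod p) (ZMod p) F)
    (a b : ZMod p) : (mon e k * G) a b = e a * G (a - k) b := by
  rw [Matrix.mul_apply, Finset.sum_eq_single (a - k)]
  · rw [mon_apply, sub_add_cancel, if_pos rfl]
  · intro n _ hn
    rw [mon_apply, if_neg (fun h => hn (eq_sub_of_add_eq h)), zero_mul]
  · intro h; exact absurd (Finset.mem_univ _) h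

theorem two_mul_ne_zero (hp : p ≠ 2) {k : ZMod p} (hk : k ≠ 0) : k + k ≠ 0 := by
  intro h
  have h2 : (2 : ZMod p) ≠ 0 := by
    intro h2
    have h3 : ((2 : ℕ) : ZMod p) = 0 := by exact_mod_cast h2
    rw [ZMod.natCast_eq_zero_iff] at h3
    exact hp ((Nat.prime_dvd_prime_iff_eq Fact.out Nat.prime_two).mp h3)
  have : (2 : ZMod p) * k = 0 := by rw [two_mul]; exact h
  rcases mul_eq_zero.mp this with h4 | h4
  · exact h2 h4
  · exact hk h4

/-- an element normalizing `Qs` has at most one nonzero entry in each row -/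
theorem monomial_of_normalizes {ω : F} (hω1 : ω ^ p = 1) (hω : ω ≠ 1) (hp : p ≠ 2)
    (g : GL (ZMod p) F) (hg : ∀ y ∈ Qs p F, g * y * g⁻¹ ∈ Qs p F) (i j l : ZMod p)
    (hij : (g : Matrix (ZMod p) (ZMod p) F) i j ≠ 0) (hl : l ≠ j) :
    (g : Matrix (ZMod p) (ZMod p) F) i l = 0 := by
  set G : Matrix (ZMod p) (ZMod p) F := (g : Matrix (ZMod p) (ZMod p) F) with hG
  set H : Matrix (ZMod p) (ZMod p) F := ((g⁻¹ : GL (ZMod p) F) : Matrix (ZMod p) (ZMod p) F) with hH
  have hGH : G * H = 1 := by
    rw [hG, hH, ← Units.val_mul, mul_inv_cancel, Units.val_one]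
  let δ : ZMod p → F := fun m => if m = j then ω else 1
  have hδ : ∀ m, δ m ^ p = 1 := by
    intro m
    by_cases hm : m = j
    · simp only [δ, if_pos hm, hω1]
    · simp only [δ, if_neg hm, one_pow]
  obtain ⟨e, k, he, hy⟩ := hg _ (monU_mem δ hδ 0)
  rw [Units.val_mul, Units.val_mul, monU_val] at hy
  -- the conjugate in terms of `G`, `H`
  have hentry : ∀ a b, (G * mon δ 0 * H) a b = (1 : Matrix (ZMod p) (ZMod p) F) a b +
      (ω - 1) * (G a j * H j b) := by
    intro a b
    rw [← hGH, Matrix.mul_apply, Matrix.mul_apply]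
    have : ∀ m, (G * mon δ 0) a m * H m b = G a m * H m b +
        (if m = j then (ω - 1) * (G a j * H j b) else 0) := by
      intro m
      rw [mul_mon_zero_apply]
      by_cases hm : m = j
      · simp only [δ, if_pos hm]
        rw [hm]
        ring
      · simp only [δ, if_neg hm]
        ring
    rw [Finset.sum_congr rfl (fun m _ => this m), Finset.sum_add_distrib,
      Finset.sum_ite_eq' Finset.univ j, if_pos (Finset.mem_univ _)]
  have hω' : ω - 1 ≠ 0 := sub_ne_zero.mpr hω
  -- `k = 0`
  have hk : k = 0 := by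
    by_contra hk
    have hnz : ∀ a, G a j * H j a ≠ 0 := by
      intro a h0
      have h1 := hentry a a
      rw [hy, mon_apply, if_neg (by
        intro h
        apply hk
        linear_combination h), Matrix.one_apply_eq, h0, mul_zero, add_zero] at h1
      exact zero_ne_one h1
    have h1 := hentry 0 k
    rw [hy, mon_apply, if_neg (two_mul_ne_zero hp hk), Matrix.one_apply_ne (Ne.symm hk),
      zero_add] at h1
    rcases mul_eq_zero.mp h1.symm with h2 | h2
    · exact hω' h2
    · rcases mul_eq_zero.mp h2 with h3 | h3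
      · exact hnz 0 (by rw [h3, zero_mul])
      · exact hnz k (by rw [h3, mul_zero])
  -- the relation `G * mon δ 0 = mon e 0 * G`
  have hrel : G * mon δ 0 = mon e k * G := by
    have h1 : G * mon δ 0 * H * G = mon e k * G := by rw [hy]
    have hHG : H * G = 1 := by
      rw [hG, hH, ← Units.val_mul, inv_mul_cancel, Units.val_one]
    rw [Matrix.mul_assoc, hHG, Matrix.mul_one] at h1
    exact h1
  rw [hk] at hrel
  have hrel' : ∀ a b, G a b * δ b = e a * G a b := by
    intro a b
    have := congrFun (congrFun hrel a) b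
    rw [mul_mon_zero_apply, mon_mul_apply, sub_zero] at this
    exact this
  have h1 := hrel' i j
  simp only [δ, if_pos rfl] at h1
  have hei : e i = ω := by
    have : G i j * (ω - e i) = 0 := by linear_combination h1
    rcases mul_eq_zero.mp this with h2 | h2
    · exact absurd h2 hij
    · exact (sub_eq_zero.mp h2).symm
  have h2 := hrel' i l
  simp only [δ, if_neg hl, mul_one] at h2
  rw [hei] at h2
  have : (ω - 1) * G i l = 0 := by linear_combination -h2
  rcases mul_eq_zero.mp this with h3 | h3
  · exact absurd h3 hω'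
  · exact h3

/-- the conjugate of `Qs` by a non-monomial element is different from `Qs` -/
theorem conj_ne {ω : F} (hω1 : ω ^ p = 1) (hω : ω ≠ 1) (hp : p ≠ 2)
    (g : GL (ZMod p) F) (i j l : ZMod p) (hjl : l ≠ j)
    (hij : (g : Matrix (ZMod p) (ZMod p) F) i j ≠ 0)
    (hil : (g : Matrix (ZMod p) (ZMod p) F) i l ≠ 0) :
    (Qs p F).map (MulAut.conj g).toMonoidHom ≠ Qs p F := by
  intro h
  apply hil
  apply monomial_of_normalizes hω1 hω hp g _ i j l hij hjl
  intro y hy
  rw [← h]
  exact ⟨y, hy, rfl⟩

end Cfsg.Agent.helper17.RS
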