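import Mathlib
import Cfsg.Agent.Lib_helper17_RS2

set_option autoImplicit false
set_option linter.unusedSectionVars false

/-!
# Powers of monomial matrices; the centralizing elements `1 + x` and transvections
-/

namespace Cfsg.Agent.helper17.RS

open Matrix

variable {p : ℕ} [Fact p.Prime] {F : Type*} [Field F]

theorem prod_range_eq_prod (g : ZMod p → F) :
    ∏ m ∈ Finset.range p, g (m : ZMod p) = ∏ j : ZMod p, g j := by
  symm
  apply Finset.prod_nbij' (s := Finset.univ) (t := Finset.range p) (f := g)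
    (g := fun m : ℕ => g (m : ZMod p)) (fun j : ZMod p => j.val) (fun m : ℕ => (m : ZMod p))
  · intro j _
    exact Finset.mem_range.mpr (ZMod.val_lt j)
  · intro m _
    exact Finset.mem_univ _
  · intro j _
    exact ZMod.natCast_zmod_val j
  · intro m hm
    exact ZMod.val_natCast_of_lt (Finset.mem_range.mp hm)
  · intro j _
    rw [ZMod.natCast_zmod_val]

theorem prod_orbit (f : ZMod p → F) (i : ZMod p) {k : ZMod p} (hk : k ≠ 0) :
    ∏ m ∈ Finset.range p, f (i - (m : ZMod p) * k) = ∏ j : ZMod p, f j := by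
  rw [prod_range_eq_prod (fun j => f (i - j * k))]
  apply Fintype.prod_bijective (fun j : ZMod p => i - j * k)
  · apply (Finite.injective_iff_bijective).mp
    intro a b hab
    have h1 : (a - b) * k = 0 := by
      have : i - a * k = i - b * k := hab
      linear_combination -this
    rcases mul_eq_zero.mp h1 with h2 | h2
    · exact sub_eq_zero.mp h2
    · exact absurd h2 hk
  · intro j
    rfl

theorem mon_pow (d : ZMod p → F) (k : ZMod p) (n : ℕ) :
    mon d k ^ n = mon (fun i => ∏ m ∈ Finset.range n, d (i - (m : ZMod p) * k))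
      ((n : ZMod p) * k) := by
  induction n with
  | zero =>
    rw [pow_zero, ← mon_one]
    apply mon_congr
    · intro i
      rw [Finset.range_zero, Finset.prod_empty]
    · rw [Nat.cast_zero, zero_mul]
  | succ n ih =>
    rw [pow_succ, ih, mon_mul]
    apply mon_congr
    · intro i
      rw [Finset.prod_range_succ]
    · rw [Nat.cast_succ]
      ring

theorem mon_pow_p (d : ZMod p → F) {k : ZMod p} (hk : k ≠ 0) :
    mon d k ^ p = (∏ j : ZMod p, d j) • (1 : Matrix (ZMod p) (ZMod p) F) := by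
  rw [mon_pow, ← mon_one, ZMod.natCast_self, zero_mul]
  ext i j
  rw [Matrix.smul_apply, mon_apply, mon_apply, prod_orbit d i hk]
  split_ifs <;> simp

theorem odd_p (hp : p ≠ 2) : Odd p := (Fact.out : p.Prime).odd_of_ne_two hp

/-- the unit `1 + x` for a monomial `x` with `x ^ p = λ ≠ 1` -/
theorem exists_one_add (hp : p ≠ 2) (d : ZMod p → F) (hd : ∀ i, d i ^ p = 1) {k : ZMod p}
    (hk : k ≠ 0) (hl : ∏ j : ZMod p, d j ≠ 1) :
    ∃ g : GL (ZMod p) F, (g : Matrix (ZMod p) (ZMod p) F) = 1 + mon d k := by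
  set lam : F := ∏ j : ZMod p, d j with hlam
  have hlp : lam ^ p = 1 := by
    rw [hlam, ← Finset.prod_pow]
    exact Finset.prod_eq_one (fun i _ => hd i)
  have h1l : 1 + lam ≠ 0 := by
    intro h
    have h2 : lam = -1 := by linear_combination h
    rw [h2, (odd_p hp).neg_one_pow] at hlp
    apply hl
    rw [h2, hlp]
  set X := mon d k with hX
  have hprod : (1 + X) * ((1 + lam)⁻¹ • ∑ m ∈ Finset.range p, (-X) ^ m) = 1 := by
    have h3 : (1 - (-X)) * ∑ m ∈ Finset.range p, (-X) ^ m = 1 - (-X) ^ p := mul_neg_geom_sum _ _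
    rw [sub_neg_eq_add, (odd_p hp).neg_pow, sub_neg_eq_add, hX, mon_pow_p d hk, ← hX,
      ← hlam] at h3
    rw [Matrix.mul_smul, h3]
    ext i j
    simp only [Matrix.smul_apply, Matrix.add_apply, Matrix.one_apply, smul_eq_mul]
    split_ifs
    · field_simp
    · simp
  exact ⟨⟨1 + X, _, hprod, _root_.mul_eq_one_comm.mp hprod⟩, rfl⟩

/-- case A1: the element `1 + x` -/
theorem case_A1 {ω : F} (hω1 : ω ^ p = 1) (hω : ω ≠ 1) (hp : p ≠ 2) (x : GL (ZMod p) F)
    (d : ZMod p → F) (hd : ∀ i, d i ^ p = 1) {k : ZMod p} (hk : k ≠ 0)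
    (hx : (x : Matrix (ZMod p) (ZMod p) F) = mon d k) (hl : ∏ j : ZMod p, d j ≠ 1) :
    ∃ g : GL (ZMod p) F, x ∈ (Qs p F).map (MulAut.conj g).toMonoidHom ∧
      (Qs p F).map (MulAut.conj g).toMonoidHom ≠ Qs p F := by
  obtain ⟨g, hg⟩ := exists_one_add hp d hd hk hl
  have hcomm : g * x = x * g := by
    apply Units.ext
    rw [Units.val_mul, Units.val_mul, hg, hx, add_mul, mul_add, one_mul, mul_one]
  refine ⟨g, ⟨x, ⟨d, k, hd, hx⟩, ?_⟩, ?_⟩
  · show g * x * g⁻¹ = x
    rw [hcomm, mul_inv_cancel_right]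
  · have hk' : (0 : ZMod p) - k ≠ 0 := by
      intro h
      apply hk
      rw [zero_sub, neg_eq_zero] at h
      exact h
    apply conj_ne hω1 hω hp g 0 0 (0 - k) hk'
    · rw [hg, Matrix.add_apply, Matrix.one_apply_eq, mon_apply, if_neg (by
        intro h
        apply hk
        rwa [zero_add] at h), add_zero]
      exact one_ne_zero
    · rw [hg, Matrix.add_apply, Matrix.one_apply_ne (Ne.symm hk'), mon_apply, sub_add_cancel,
        if_pos rfl, zero_add]
      exact ne_zero_of_pow (hd 0)

theorem mon_zero_eq_diagonal (d : ZMod p → F) : mon d 0 = Matrix.diagonal d := by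
  ext i j
  rw [mon_apply, add_zero, Matrix.diagonal_apply]
  by_cases h : i = j
  · rw [if_pos h, if_pos h.symm]
  · rw [if_neg h, if_neg (Ne.symm h)]

/-- case B1: a transvection -/
theorem case_B1 {ω : F} (hω1 : ω ^ p = 1) (hω : ω ≠ 1) (hp : p ≠ 2) (x : GL (ZMod p) F)
    (d : ZMod p → F) (hd : ∀ i, d i ^ p = 1)
    (hx : (x : Matrix (ZMod p) (ZMod p) F) = mon d 0) {a b : ZMod p} (hab : a ≠ b)
    (hdab : d a = d b) :
    ∃ g : GL (ZMod p) F, x ∈ (Qs p F).map (MulAut.conj g).toMonoidHom ∧
      (Qs p F).map (MulAut.conj g).toMonoidHom ≠ Qs p F := by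
  let g : GL (ZMod p) F := ⟨transvection a b 1, transvection a b (-1), by
    rw [transvection_mul_transvection_same a b hab, add_neg_cancel, transvection_zero], by
    rw [transvection_mul_transvection_same a b hab, neg_add_cancel, transvection_zero]⟩
  have hg : (g : Matrix (ZMod p) (ZMod p) F) = transvection a b 1 := rfl
  have hcomm : g * x = x * g := by
    apply Units.ext
    rw [Units.val_mul, Units.val_mul, hg, hx, mon_zero_eq_diagonal, transvection, add_mul,
      mul_add, one_mul, mul_one]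
    congr 1
    ext i j
    rw [Matrix.mul_diagonal, Matrix.diagonal_mul, Matrix.single_apply]
    by_cases h : a = i ∧ b = j
    · rw [if_pos h, ← h.1, ← h.2, hdab]
      ring
    · rw [if_neg h]
      ring
  refine ⟨g, ⟨x, ⟨d, 0, hd, hx⟩, ?_⟩, ?_⟩
  · show g * x * g⁻¹ = x
    rw [hcomm, mul_inv_cancel_right]
  · apply conj_ne hω1 hω hp g a a b (Ne.symm hab)
    · rw [hg, transvection, Matrix.add_apply, Matrix.one_apply_eq, Matrix.single_apply,
        if_neg (fun h => hab h.2.symm), add_zero]
      exact one_ne_zero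
    · rw [hg, transvection, Matrix.add_apply, Matrix.one_apply_ne hab, Matrix.single_apply,
        if_pos ⟨rfl, rfl⟩, zero_add]
      exact one_ne_zero

end Cfsg.Agent.helper17.RS
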