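import Mathlib
import Cfsg.Agent.Lib_helper17_RS3

set_option autoImplicit false
set_option linter.unusedSectionVars false

/-!
# Fourier-type matrices and the remaining two cases
-/

namespace Cfsg.Agent.helper17.RS

open Matrix

variable {p : ℕ} [Fact p.Prime] {F : Type*} [Field F]

/-- the additive character of `ZMod p` attached to a primitive root -/
noncomputable def psi {ω : F} (hω : IsPrimitiveRoot ω p) : AddChar (ZMod p) F :=
  AddChar.zmodChar p hω.pow_eq_one

theorem psi_prim {ω : F} (hω : IsPrimitiveRoot ω p) : (psi hω).IsPrimitive :=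
  AddChar.zmodChar_primitive_of_primitive_root p hω

theorem psi_ne_zero {ω : F} (hω : IsPrimitiveRoot ω p) (a : ZMod p) : psi hω a ≠ 0 := by
  intro h
  have := (psi hω).map_add_eq_mul a (-a)
  rw [add_neg_cancel, AddChar.map_zero_eq_one, h, zero_mul] at this
  exact one_ne_zero this

theorem psi_pow {ω : F} (hω : IsPrimitiveRoot ω p) (a : ZMod p) : psi hω a ^ p = 1 := by
  rw [← AddChar.map_nsmul_eq_pow, nsmul_eq_mul, ZMod.natCast_self, zero_mul,
    AddChar.map_zero_eq_one]

theorem psi_natCast {ω : F} (hω : IsPrimitiveRoot ω p) (n : ℕ) :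
    psi hω (n : ZMod p) = ω ^ n := AddChar.zmodChar_apply' _ n

/-- Fourier-type matrix -/
noncomputable def Ga {ω : F} (hω : IsPrimitiveRoot ω p) (a : ZMod p → ZMod p) :
    Matrix (ZMod p) (ZMod p) F := Matrix.of fun i l => psi hω (a i * l)

/-- its inverse -/
noncomputable def Ga' {ω : F} (hω : IsPrimitiveRoot ω p) (a : ZMod p → ZMod p) :
    Matrix (ZMod p) (ZMod p) F := Matrix.of fun l j => (p : F)⁻¹ * psi hω (-(l * a j))

theorem Ga_apply {ω : F} (hω : IsPrimitiveRoot ω p) (a : ZMod p → ZMod p) (i l : ZMod p) :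
    Ga hω a i l = psi hω (a i * l) := rfl

theorem Ga_mul_Ga' {ω : F} (hω : IsPrimitiveRoot ω p) (a : ZMod p → ZMod p)
    (ha : Function.Injective a) : Ga hω a * Ga' hω a = 1 := by
  have hp0 : ((p : ℕ) : F) ≠ 0 := (hω.neZero').out
  ext i j
  rw [Matrix.mul_apply]
  have : ∀ l, Ga hω a i l * Ga' hω a l j = (p : F)⁻¹ * psi hω (l * (a i - a j)) := by
    intro l
    show psi hω (a i * l) * ((p : F)⁻¹ * psi hω (-(l * a j))) = _
    rw [mul_left_comm, ← AddChar.map_add_eq_mul]
    congr 2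
    ring
  rw [Finset.sum_congr rfl (fun l _ => this l), ← Finset.mul_sum,
    AddChar.sum_mulShift _ (psi_prim hω), ZMod.card]
  by_cases hij : i = j
  · subst hij
    rw [sub_self, if_pos rfl, Matrix.one_apply_eq, inv_mul_cancel₀ hp0]
  · rw [if_neg (fun h => hij (ha (sub_eq_zero.mp h))), Matrix.one_apply_ne hij, Nat.cast_zero,
      mul_zero]

/-- Fourier-type unit -/
noncomputable def GaU {ω : F} (hω : IsPrimitiveRoot ω p) (a : ZMod p → ZMod p)
    (ha : Function.Injective a) : GL (ZMod p) F :=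
  ⟨Ga hω a, Ga' hω a, Ga_mul_Ga' hω a ha, _root_.mul_eq_one_comm.mp (Ga_mul_Ga' hω a ha)⟩

theorem GaU_val {ω : F} (hω : IsPrimitiveRoot ω p) (a : ZMod p → ZMod p)
    (ha : Function.Injective a) :
    ((GaU hω a ha : GL (ZMod p) F) : Matrix (ZMod p) (ZMod p) F) = Ga hω a := rfl

theorem mul_mon_apply (G : Matrix (ZMod p) (ZMod p) F) (e : ZMod p → F) (k a b : ZMod p) :
    (G * mon e k) a b = G a (b + k) * e (b + k) := by
  rw [Matrix.mul_apply, Finset.sum_eq_single (b + k)]
  · rw [mon_apply, if_pos rfl]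
  · intro n _ hn
    rw [mon_apply, if_neg (Ne.symm hn), mul_zero]
  · intro h; exact absurd (Finset.mem_univ _) h

/-- case B2: a regular diagonal element is conjugate to the cyclic shift -/
theorem case_B2 {ω : F} (hω : IsPrimitiveRoot ω p) (hp : p ≠ 2) (x : GL (ZMod p) F)
    (d : ZMod p → F) (hd : ∀ i, d i ^ p = 1)
    (hx : (x : Matrix (ZMod p) (ZMod p) F) = mon d 0) (hinj : Function.Injective d) :
    ∃ g : GL (ZMod p) F, x ∈ (Qs p F).map (MulAut.conj g).toMonoidHom ∧
      (Qs p F).map (MulAut.conj g).toMonoidHom ≠ Qs p F := by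
  have hω1 : ω ^ p = 1 := hω.pow_eq_one
  have hωne : ω ≠ 1 := hω.ne_one (Fact.out : p.Prime).one_lt
  have hex : ∀ i, ∃ n : ℕ, n < p ∧ ω ^ n = d i := fun i => hω.eq_pow_of_pow_eq_one (hd i)
  choose n hn1 hn2 using hex
  let a : ZMod p → ZMod p := fun i => (n i : ZMod p)
  have hpa : ∀ i, psi hω (a i) = d i := by
    intro i
    rw [psi_natCast, hn2]
  have ha : Function.Injective a := by
    intro i j hij
    apply hinj
    rw [← hpa i, ← hpa j, hij]
  let g := GaU hω a ha
  let S : GL (ZMod p) F := monU (fun _ => (1 : F)) (fun _ => one_ne_zero) 1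
  have hS : S ∈ Qs p F := ⟨fun _ => 1, 1, fun _ => one_pow _, rfl⟩
  have hrel : x * g = g * S := by
    apply Units.ext
    rw [Units.val_mul, Units.val_mul, hx, GaU_val, monU_val]
    ext i l
    rw [mon_mul_apply, mul_mon_apply, sub_zero, Ga_apply, Ga_apply, mul_one, mul_add, mul_one,
      AddChar.map_add_eq_mul, hpa, mul_comm]
  refine ⟨g, ⟨S, hS, ?_⟩, ?_⟩
  · show g * S * g⁻¹ = x
    rw [← hrel, mul_inv_cancel_right]
  · apply conj_ne hω1 hωne hp g 0 0 1 one_ne_zero
    · rw [GaU_val, Ga_apply]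
      exact psi_ne_zero hω _
    · rw [GaU_val, Ga_apply]
      exact psi_ne_zero hω _

theorem val_sub_one {c : ZMod p} {s : ℕ} (h : c.val = s + 1) : (c - 1).val = s := by
  have hc : c = ((s + 1 : ℕ) : ZMod p) := by
    rw [← h, ZMod.natCast_zmod_val]
  have hs : s < p := by
    have := ZMod.val_lt c
    omega
  rw [hc, Nat.cast_succ, add_sub_cancel_right, ZMod.val_natCast_of_lt hs]

/-- solving `t i = d i * t (i - k)` along the cycle -/
theorem exists_t (d : ZMod p → F) (hd : ∀ i, d i ≠ 0) {k : ZMod p} (hk : k ≠ 0)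
    (hprod : ∏ j : ZMod p, d j = 1) :
    ∃ t : ZMod p → F, (∀ i, t i ≠ 0) ∧ ∀ i, t i = d i * t (i - k) := by
  have hk' : k⁻¹ ≠ 0 := inv_ne_zero hk
  let nn : ZMod p → ℕ := fun i => (i * k⁻¹).val
  let t : ZMod p → F := fun i => ∏ m ∈ Finset.range (nn i), d (i - (m : ZMod p) * k)
  refine ⟨t, fun i => Finset.prod_ne_zero_iff.mpr (fun m _ => hd _), ?_⟩
  intro i
  rcases Nat.eq_zero_or_eq_succ_pred (nn i) with h0 | hs
  · -- `i = 0`
    have hi : i = 0 := by
      have h1 : i * k⁻¹ = 0 := (ZMod.val_eq_zero _).mp h0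
      rcases mul_eq_zero.mp h1 with h2 | h2
      · exact h2
      · exact absurd h2 hk'
    have hnk : nn (i - k) = p - 1 := by
      show ((i - k) * k⁻¹).val = p - 1
      have : (i - k) * k⁻¹ = -1 := by
        rw [hi, zero_sub, neg_mul, mul_inv_cancel₀ hk]
      rw [this, ZMod.val_neg_of_ne_zero, ZMod.val_one]
    show (∏ m ∈ Finset.range (nn i), d (i - (m : ZMod p) * k)) =
      d i * ∏ m ∈ Finset.range (nn (i - k)), d (i - k - (m : ZMod p) * k)
    rw [h0, Finset.range_zero, Finset.prod_empty, hnk]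
    have h3 := prod_orbit d i hk
    have hp1 : p - 1 + 1 = p := by
      have := (Fact.out : p.Prime).one_lt
      omega
    have h4 := Finset.prod_range_succ' (fun m : ℕ => d (i - (m : ZMod p) * k)) (p - 1)
    rw [hp1, h3, hprod, Nat.cast_zero, zero_mul, sub_zero] at h4
    rw [h4, mul_comm]
    congr 1
    apply Finset.prod_congr rfl
    intro m _
    congr 1
    push_cast
    ring
  · -- `nn i = s + 1`
    set s := (nn i).pred with hsdef
    have hnk : nn (i - k) = s := by
      show ((i - k) * k⁻¹).val = s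
      have : (i - k) * k⁻¹ = i * k⁻¹ - 1 := by
        rw [sub_mul, mul_inv_cancel₀ hk]
      rw [this]
      exact val_sub_one hs
    show (∏ m ∈ Finset.range (nn i), d (i - (m : ZMod p) * k)) =
      d i * ∏ m ∈ Finset.range (nn (i - k)), d (i - k - (m : ZMod p) * k)
    rw [hs, hnk, Finset.prod_range_succ', Nat.cast_zero, zero_mul, sub_zero, mul_comm]
    congr 1
    apply Finset.prod_congr rfl
    intro m _
    congr 1
    push_cast
    ring

/-- case A2: a non-diagonal element of order `p` is conjugate to a diagonal one -/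
theorem case_A2 {ω : F} (hω : IsPrimitiveRoot ω p) (hp : p ≠ 2) (x : GL (ZMod p) F)
    (d : ZMod p → F) (hd : ∀ i, d i ^ p = 1) {k : ZMod p} (hk : k ≠ 0)
    (hx : (x : Matrix (ZMod p) (ZMod p) F) = mon d k) (hl : ∏ j : ZMod p, d j = 1) :
    ∃ g : GL (ZMod p) F, x ∈ (Qs p F).map (MulAut.conj g).toMonoidHom ∧
      (Qs p F).map (MulAut.conj g).toMonoidHom ≠ Qs p F := by
  have hω1 : ω ^ p = 1 := hω.pow_eq_one
  have hωne : ω ≠ 1 := hω.ne_one (Fact.out : p.Prime).one_lt
  obtain ⟨t, ht0, ht⟩ := exists_t d (fun i => ne_zero_of_pow (hd i)) hk hl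
  have hneg : Function.Injective (fun i : ZMod p => -i) := neg_injective
  let g : GL (ZMod p) F := monU t ht0 0 * GaU hω (fun i => -i) hneg
  let Y : GL (ZMod p) F := monU (fun l => psi hω (k * l)) (fun l => psi_ne_zero hω _) 0
  have hY : Y ∈ Qs p F := ⟨fun l => psi hω (k * l), 0, fun l => psi_pow hω _, rfl⟩
  have hR1 : mon d k * mon t 0 = mon t 0 * mon (fun _ => (1 : F)) k := by
    rw [mon_mul, mon_mul]
    apply mon_congr
    · intro i
      rw [mul_one]
      exact (ht i).symm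
    · rw [add_zero, zero_add]
  have hR2 : mon (fun _ => (1 : F)) k * Ga hω (fun i => -i) =
      Ga hω (fun i => -i) * mon (fun l => psi hω (k * l)) 0 := by
    ext i l
    rw [mon_mul_apply, mul_mon_apply, add_zero, Ga_apply, Ga_apply, one_mul,
      ← AddChar.map_add_eq_mul]
    congr 1
    ring
  have hrel : x * g = g * Y := by
    apply Units.ext
    show (x : Matrix (ZMod p) (ZMod p) F) * (mon t 0 * Ga hω (fun i => -i)) =
      mon t 0 * Ga hω (fun i => -i) * mon (fun l => psi hω (k * l)) 0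
    rw [hx, ← Matrix.mul_assoc, hR1, Matrix.mul_assoc, hR2, Matrix.mul_assoc]
  have hgval : ∀ i j, (g : Matrix (ZMod p) (ZMod p) F) i j ≠ 0 := by
    intro i j
    show (mon t 0 * Ga hω (fun i => -i)) i j ≠ 0
    rw [mon_mul_apply, sub_zero, Ga_apply]
    exact mul_ne_zero (ht0 i) (psi_ne_zero hω _)
  refine ⟨g, ⟨Y, hY, ?_⟩, ?_⟩
  · show g * Y * g⁻¹ = x
    rw [← hrel, mul_inv_cancel_right]
  · exact conj_ne hω1 hωne hp g 0 0 1 one_ne_zero (hgval 0 0) (hgval 0 1)

end Cfsg.Agent.helper17.RS
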