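import Mathlib
import Cfsg.Agent.Lib_helper17_RS4

set_option autoImplicit false
set_option linter.unusedSectionVars false

/-!
# A redundant Sylow `p`-subgroup of `GL_p(q)`: assembly
-/

namespace Cfsg.Agent.helper17.RS

open Matrix

variable {p : ℕ} [Fact p.Prime] {F : Type*} [Field F]

theorem core {ω : F} (hω : IsPrimitiveRoot ω p) (hp : p ≠ 2) (x : GL (ZMod p) F)
    (hx : x ∈ Qs p F) :
    ∃ g : GL (ZMod p) F, x ∈ (Qs p F).map (MulAut.conj g).toMonoidHom ∧
      (Qs p F).map (MulAut.conj g).toMonoidHom ≠ Qs p F := by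
  have hω1 : ω ^ p = 1 := hω.pow_eq_one
  have hωne : ω ≠ 1 := hω.ne_one (Fact.out : p.Prime).one_lt
  obtain ⟨d, k, hd, hxv⟩ := hx
  by_cases hk : k = 0
  · subst hk
    by_cases hinj : Function.Injective d
    · exact case_B2 hω hp x d hd hxv hinj
    · rw [Function.Injective] at hinj
      push_neg at hinj
      obtain ⟨a, b, hab, hne⟩ := hinj
      exact case_B1 hω1 hωne hp x d hd hxv hne hab
  · by_cases hl : ∏ j : ZMod p, d j = 1
    · exact case_A2 hω hp x d hd hk hxv hl
    · exact case_A1 hω1 hωne hp x d hd hk hxv hl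

theorem val_GL [Fintype F] (hp : p ≠ 2) (h1 : p ∣ Fintype.card F - 1)
    (h2 : ¬ p ^ 2 ∣ Fintype.card F - 1) :
    (Nat.card (GL (Fin p) F)).factorization p = p + 1 := by
  have hpp : p.Prime := Fact.out
  set q := Fintype.card F with hq
  have hq1 : 1 < q := Fintype.one_lt_card
  have hpq : ¬ p ∣ q := by
    intro h
    have : p ∣ q - (q - 1) := Nat.dvd_sub h h1
    have h3 : q - (q - 1) = 1 := by omega
    rw [h3] at this
    exact hpp.one_lt.ne' (Nat.dvd_one.mp this)
  have hv1 : padicValNat p (q - 1) = 1 := by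
    have hne : q - 1 ≠ 0 := by omega
    have h3 : 1 ≤ padicValNat p (q - 1) := one_le_padicValNat_of_dvd hne h1
    have h4 : ¬ 2 ≤ padicValNat p (q - 1) := fun h => h2 ((padicValNat_dvd_iff_le hne).mpr h)
    omega
  have hfac : ∀ i : Fin p, (q ^ p - q ^ (i : ℕ)).factorization p =
      1 + if (i : ℕ) = 0 then 1 else 0 := by
    intro i
    have hi : (i : ℕ) < p := i.2
    have hm : p - (i : ℕ) ≠ 0 := by omega
    have hsplit : q ^ p - q ^ (i : ℕ) = q ^ (i : ℕ) * (q ^ (p - (i : ℕ)) - 1) := by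
      rw [Nat.mul_sub, mul_one, ← pow_add]
      congr 2
      omega
    have hne1 : q ^ (i : ℕ) ≠ 0 := pow_ne_zero _ (by omega)
    have hne2 : q ^ (p - (i : ℕ)) - 1 ≠ 0 := by
      have := Nat.one_lt_pow hm hq1
      omega
    rw [hsplit, Nat.factorization_mul hne1 hne2, Finsupp.add_apply, Nat.factorization_pow,
      Finsupp.smul_apply, Nat.factorization_eq_zero_of_not_dvd hpq, smul_zero, zero_add,
      Nat.factorization_def _ hpp]
    have hlte := padicValNat.pow_sub_pow (p := p) (hpp.odd_of_ne_two hp) (x := q) (y := 1) hq1 h1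
      hpq hm
    rw [one_pow] at hlte
    rw [hlte, hv1]
    congr 1
    by_cases h0 : (i : ℕ) = 0
    · rw [if_pos h0, h0, Nat.sub_zero, padicValNat_self]
    · rw [if_neg h0]
      apply padicValNat.eq_zero_of_not_dvd
      intro h
      have := Nat.le_of_dvd (by omega) h
      omega
  have hcard : Nat.card (GL (Fin p) F) = ∏ i : Fin p, (q ^ p - q ^ (i : ℕ)) :=
    Matrix.card_GL_field (𝔽 := F) (n := p)
  have hne : ∀ i ∈ (Finset.univ : Finset (Fin p)), q ^ p - q ^ (i : ℕ) ≠ 0 := by
    intro i _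
    have hi : (i : ℕ) < p := i.2
    have := Nat.pow_lt_pow_right hq1 hi
    omega
  rw [hcard, Nat.factorization_prod hne, Finsupp.finsetSum_apply,
    Finset.sum_congr rfl (fun i _ => hfac i),
    Fin.sum_univ_eq_sum_range (fun n => 1 + if n = 0 then 1 else 0) p, Finset.sum_add_distrib,
    Finset.sum_const, Finset.card_range, smul_eq_mul, mul_one, Finset.sum_ite_eq',
    if_pos (Finset.mem_range.mpr hpp.pos)]

/-- reindexing -/
noncomputable def ridx (p : ℕ) [Fact p.Prime] (F : Type*) [Field F] :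
    GL (ZMod p) F ≃* GL (Fin p) F :=
  Units.mapEquiv (Matrix.reindexAlgEquiv F F
    (Fintype.equivOfCardEq (by rw [ZMod.card, Fintype.card_fin]))).toRingEquiv.toMulEquiv

theorem main_RS [Fintype F] (hp : p ≠ 2) (h1 : p ∣ Fintype.card F - 1)
    (h2 : ¬ p ^ 2 ∣ Fintype.card F - 1) :
    ∃ Q : Sylow p (GL (Fin p) F), ∀ x : GL (Fin p) F,
      (∃ k : ℕ, orderOf x = p ^ k) → ∃ P : Sylow p (GL (Fin p) F), P ≠ Q ∧ x ∈ P := by
  classical
  have hpp : p.Prime := Fact.out
  -- a primitive root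
  have hcard : p ∣ Fintype.card Fˣ := by rw [Fintype.card_units]; exact h1
  obtain ⟨u, hu⟩ := exists_prime_orderOf_dvd_card p hcard
  have hω : IsPrimitiveRoot ((u : Fˣ) : F) p := by
    rw [IsPrimitiveRoot.coe_units_iff, ← hu]
    exact IsPrimitiveRoot.orderOf u
  let e := ridx p F
  have hcardmap : ∀ H : Subgroup (GL (ZMod p) F),
      Nat.card (H.map e.toMonoidHom) = Nat.card H := by
    intro H
    exact (Nat.card_congr (H.equivMapOfInjective e.toMonoidHom e.injective).toEquiv).symm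
  have hcardconj : ∀ g : GL (ZMod p) F,
      Nat.card ((Qs p F).map (MulAut.conj g).toMonoidHom) = Nat.card (Qs p F) := by
    intro g
    exact (Nat.card_congr ((Qs p F).equivMapOfInjective (MulAut.conj g).toMonoidHom
      (MulAut.conj g).injective).toEquiv).symm
  have hval := val_GL (F := F) hp h1 h2
  let Q : Sylow p (GL (Fin p) F) := Sylow.ofCard ((Qs p F).map e.toMonoidHom) (by
    rw [hcardmap, card_Qs hω, hval])
  refine ⟨Q, ?_⟩
  rintro x ⟨k, hk⟩
  by_cases hxQ : x ∈ (Qs p F).map e.toMonoidHom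
  · obtain ⟨y, hy, rfl⟩ := hxQ
    obtain ⟨g, hyg, hne⟩ := core hω hp y hy
    let P : Sylow p (GL (Fin p) F) :=
      Sylow.ofCard (((Qs p F).map (MulAut.conj g).toMonoidHom).map e.toMonoidHom) (by
        rw [hcardmap, hcardconj, card_Qs hω, hval])
    refine ⟨P, ?_, Subgroup.mem_map_of_mem _ hyg⟩
    intro hPQ
    apply hne
    have h3 : ((Qs p F).map (MulAut.conj g).toMonoidHom).map e.toMonoidHom =
        (Qs p F).map e.toMonoidHom := congrArg (fun S : Sylow p (GL (Fin p) F) =>
          (S : Subgroup (GL (Fin p) F))) hPQ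
    exact Subgroup.map_injective e.injective h3
  · have hpg : IsPGroup p (Subgroup.zpowers x) := by
      apply IsPGroup.of_card (n := k)
      rw [Nat.card_zpowers, hk]
    obtain ⟨P, hP⟩ := hpg.exists_le_sylow
    have hxP : x ∈ P := hP (Subgroup.mem_zpowers x)
    refine ⟨P, ?_, hxP⟩
    intro hPQ
    apply hxQ
    rw [hPQ] at hxP
    exact hxP

end Cfsg.Agent.helper17.RS
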