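import Mathlib

set_option autoImplicit false

namespace Cfsg.Agent.helper17

open Polynomial Finset

/-- arithmetic lemma used to choose exponents -/
theorem div_add_mod_le_half (N d : ℕ) (hN : Even N) (hd2 : 2 ≤ d) (hdN : d ≤ N) :
    2 * (N / d + N % d) ≤ N := by
  have h1 : d * (N / d) + N % d = N := Nat.div_add_mod N d
  have h2 : N % d < d := Nat.mod_lt _ (by omega)
  have hi : 1 ≤ N / d := Nat.div_pos hdN (by omega)
  set i := N / d with hidef
  set j := N % d with hjdef
  obtain ⟨c, hc⟩ := hN
  rcases Nat.lt_or_ge i 2 with hi2 | hi2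
  · have hi1 : i = 1 := by omega
    rw [hi1] at h1 ⊢
    -- N < 2 d
    have hlt : N < d * (i + 1) := Nat.lt_mul_div_succ N (by omega)
    rw [hi1] at hlt
    omega
  · rcases Nat.lt_or_ge d 3 with hd3 | hd3
    · have hd : d = 2 := by omega
      rw [hd] at h1 h2
      omega
    · -- j ≤ d - 1 ≤ i * (d - 2)
      have h3 : 2 * (d - 2) ≤ i * (d - 2) := Nat.mul_le_mul_right _ hi2
      have h4 : i * (d - 2) + 2 * i = d * i := by
        have : d = (d - 2) + 2 := by omega
        calc i * (d - 2) + 2 * i = i * ((d - 2) + 2) := by ring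
          _ = d * i := by rw [← this]; ring
      omega

variable {p : ℕ} [hp : Fact p.Prime]

/-- sum of the values of a polynomial of degree `< p` over `ZMod p` -/
theorem sum_eval_eq_neg_coeff (g : (ZMod p)[X]) (hg : g.natDegree < p) :
    ∑ x : ZMod p, g.eval x = - g.coeff (p - 1) := by
  have hp1 : 1 ≤ p := hp.out.one_lt.le
  simp_rw [eval_eq_sum_range' hg]
  rw [Finset.sum_comm]
  simp_rw [← Finset.mul_sum]
  rw [Finset.sum_eq_single (p - 1)]
  · have hsum : ∑ x : ZMod p, x ^ (p - 1) = -1 := by
      have h1 : ∀ x : ZMod p, x ^ (p - 1) = if x = 0 then 0 else 1 := by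
        intro x
        split_ifs with h
        · rw [h, zero_pow]
          have := hp.out.two_le
          omega
        · exact ZMod.pow_card_sub_one_eq_one h
      simp_rw [h1]
      rw [Finset.sum_ite, Finset.sum_const_zero, zero_add, Finset.sum_const, nsmul_one]
      have hcard : (Finset.univ.filter (fun x : ZMod p => ¬ x = 0)).card = p - 1 := by
        have h0 : (Finset.univ.filter (fun x : ZMod p => x = 0)) = {0} := by
          ext x; simp
        rw [Finset.filter_not, Finset.card_sdiff_of_subset (Finset.filter_subset _ _), h0,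
          Finset.card_singleton, Finset.card_univ, ZMod.card]
      rw [hcard, Nat.cast_sub hp1]
      simp
    rw [hsum]; ring
  · intro m hm hne
    have hm' : m < p - 1 := by
      have := Finset.mem_range.mp hm
      omega
    have := FiniteField.sum_pow_lt_card_sub_one (ZMod p) m (by rw [ZMod.card]; exact hm')
    rw [this, mul_zero]
  · intro h
    exfalso; apply h
    rw [Finset.mem_range]; omega

/-- binomial coefficients below `p` are nonzero mod `p` -/
theorem choose_ne_zero_zmod (k j : ℕ) (hk : k < p) (hj : j ≤ k) : ((k.choose j : ℕ) : ZMod p) ≠ 0 := by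
  rw [Ne, ZMod.natCast_eq_zero_iff]
  intro hdvd
  have h1 : p ∣ k.factorial := by
    rw [← Nat.choose_mul_factorial_mul_factorial hj]
    exact Dvd.dvd.mul_right (Dvd.dvd.mul_right hdvd _) _
  have := (Nat.Prime.dvd_factorial hp.out).mp h1
  omega

/-- **Rédei / Lovász–Schrijver (weak form)**: a function on `ZMod p` all of whose difference
quotients lie in a set of at most `(p-1)/2` slopes is affine. -/
theorem affine_of_few_slopes (σ : ZMod p → ZMod p) (B : Finset (ZMod p))
    (hB : 2 * B.card + 1 ≤ p) (hσ : ∀ x y, x ≠ y → ∃ m ∈ B, σ x - σ y = m * (x - y)) :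
    ∃ a b : ZMod p, ∀ x, σ x = a * x + b := by
  classical
  have hp2 : 2 ≤ p := hp.out.two_le
  -- Step 1/2: power sums along good directions
  have hgood : ∀ m : ZMod p, m ∉ B → ∀ k : ℕ, k < p - 1 → ∑ x : ZMod p, (σ x - m * x) ^ k = 0 := by
    intro m hm k hk
    have hinj : Function.Injective (fun x => σ x - m * x) := by
      intro x y hxy
      by_contra hne
      obtain ⟨m', hm', h⟩ := hσ x y hne
      have h1 : σ x - σ y = m * (x - y) := by
        have : σ x - m * x = σ y - m * y := hxy
        linear_combination this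
      have h2 : (m' - m) * (x - y) = 0 := by linear_combination h1 - h
      rcases mul_eq_zero.mp h2 with h3 | h3
      · apply hm
        rw [← sub_eq_zero.mp h3]; exact hm'
      · exact hne (sub_eq_zero.mp h3)
    have hbij : Function.Bijective (fun x => σ x - m * x) := Finite.injective_iff_bijective.mp hinj
    have := Equiv.sum_comp (Equiv.ofBijective _ hbij) (fun y : ZMod p => y ^ k)
    simp only [Equiv.ofBijective_apply] at this
    rw [this]
    exact FiniteField.sum_pow_lt_card_sub_one (ZMod p) k (by rw [ZMod.card]; exact hk)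
  -- Step 3: vanishing of mixed power sums
  have hS : ∀ i j : ℕ, i + j + B.card < p → i + j + 1 < p →
      ∑ x : ZMod p, (σ x) ^ i * x ^ j = 0 := by
    intro i j hk1 hk2
    set k := i + j with hk
    set c : ℕ → ZMod p := fun l =>
      ((k.choose l : ℕ) : ZMod p) * (-1) ^ l * ∑ x : ZMod p, (σ x) ^ (k - l) * x ^ l with hc
    set Q : (ZMod p)[X] := ∑ l ∈ Finset.range (k + 1), C (c l) * X ^ l with hQ
    have hdeg : Q.natDegree ≤ k := by
      apply natDegree_sum_le_of_forall_le
      intro l hl
      exact (natDegree_C_mul_X_pow_le _ _).trans (by have := Finset.mem_range.mp hl; omega)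
    have heval : ∀ m : ZMod p, Q.eval m = ∑ x : ZMod p, (σ x - m * x) ^ k := by
      intro m
      rw [hQ, eval_finsetSum]
      simp only [eval_mul, eval_C, eval_pow, eval_X]
      simp_rw [show ∀ x : ZMod p, σ x - m * x = (-(m * x)) + σ x from fun x => by ring, add_pow]
      rw [Finset.sum_comm]
      apply Finset.sum_congr rfl
      intro l _
      simp only [hc]
      rw [Finset.mul_sum, Finset.sum_mul]
      apply Finset.sum_congr rfl
      intro x _
      rw [neg_pow (m * x) l, mul_pow]
      ring
    have hQ0 : Q = 0 := by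
      apply eq_zero_of_natDegree_lt_card_of_eval_eq_zero' Q Bᶜ
      · intro m hm
        rw [heval]
        exact hgood m (Finset.mem_compl.mp hm) k (by omega)
      · rw [Finset.card_compl, ZMod.card]
        omega
    have hcj : c j = 0 := by
      have h1 : Q.coeff j = c j := by
        rw [hQ, finset_sum_coeff]
        simp only [coeff_C_mul_X_pow]
        rw [Finset.sum_ite_eq]
        simp only [Finset.mem_range]
        rw [if_pos (by omega)]
      rw [← h1, hQ0, coeff_zero]
    simp only [hc] at hcj
    have hkj : k - j = i := by omega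
    rw [hkj] at hcj
    have hch := choose_ne_zero_zmod (p := p) k j (by omega) (by omega)
    have hneg : ((-1 : ZMod p)) ^ j ≠ 0 := pow_ne_zero _ (neg_ne_zero.mpr one_ne_zero)
    rcases mul_eq_zero.mp hcj with h | h
    · exact absurd h (mul_ne_zero hch hneg)
    · exact h
  -- Step 4: interpolation
  have hinjid : Set.InjOn (id : ZMod p → ZMod p) (Finset.univ : Finset (ZMod p)) :=
    fun _ _ _ _ h => h
  set f : (ZMod p)[X] := Lagrange.interpolate Finset.univ id σ with hf
  have hfe : ∀ x : ZMod p, f.eval x = σ x := fun x =>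
    Lagrange.eval_interpolate_at_node σ hinjid (Finset.mem_univ x)
  have hfdeg : f.degree < p := by
    have := Lagrange.degree_interpolate_lt σ hinjid
    rwa [Finset.card_univ, ZMod.card] at this
  by_cases hf0 : f = 0
  · exact ⟨0, 0, fun x => by rw [← hfe, hf0]; simp⟩
  have hfnat : f.natDegree < p := by
    rw [← Nat.cast_lt (α := WithBot ℕ), ← degree_eq_natDegree hf0]; exact hfdeg
  rcases Nat.lt_or_ge f.natDegree 2 with hd | hd
  · have h1 := eq_X_add_C_of_natDegree_le_one (show f.natDegree ≤ 1 by omega)
    refine ⟨f.coeff 1, f.coeff 0, fun x => ?_⟩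
    rw [← hfe, h1]
    simp
  · exfalso
    -- p is odd
    have hBpos : 0 < B.card := by
      rw [Finset.card_pos]
      obtain ⟨m, hm, _⟩ := hσ 0 1 zero_ne_one
      exact ⟨m, hm⟩
    have hodd : Even (p - 1) := by
      rcases hp.out.eq_two_or_odd' with h2 | hodd
      · omega
      · exact Nat.Prime.even_sub_one hp.out (by rintro rfl; omega)
    set d := f.natDegree with hd'
    set i := (p - 1) / d with hi
    set j := (p - 1) % d with hj
    have harith := div_add_mod_le_half (p - 1) d hodd hd (by omega)
    have hdm : d * i + j = p - 1 := Nat.div_add_mod (p - 1) d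
    have hi1 : 1 ≤ i := Nat.div_pos (by omega) (by omega)
    have hsum0 := hS i j (by omega) (by omega)
    set g : (ZMod p)[X] := X ^ j * f ^ i with hg
    have hgdeg : g.natDegree = p - 1 := by
      rw [hg, natDegree_X_pow_mul (n := j) (pow_ne_zero i hf0), natDegree_pow, ← hd']
      rw [← hdm]; ring
    have hglead : g.coeff (p - 1) = f.leadingCoeff ^ i := by
      rw [← hgdeg, coeff_natDegree, hg, leadingCoeff_mul, leadingCoeff_X_pow, one_mul,
        leadingCoeff_pow]
    have hgsum := sum_eval_eq_neg_coeff g (by rw [hgdeg]; omega)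
    have hge : ∀ x : ZMod p, g.eval x = (σ x) ^ i * x ^ j := by
      intro x
      rw [hg, eval_mul, eval_pow, eval_X, eval_pow, hfe]; ring
    simp_rw [hge] at hgsum
    rw [hsum0, hglead] at hgsum
    have : f.leadingCoeff ^ i = 0 := by
      have := hgsum
      exact neg_eq_zero.mp this.symm
    exact (pow_ne_zero _ (leadingCoeff_ne_zero.mpr hf0)) this

end Cfsg.Agent.helper17
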