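import Mathlib

set_option autoImplicit false

namespace Cfsg.Agent.helper17.RegU

section Abstract

variable {F A : Type*} [Field F] [CommRing A] [Algebra F A]

/-- a commutative local-like `F`-algebra with involution `σ` and augmentation `ε`. -/
structure LocInv (σ : A →+* A) (ε : A →+* F) : Prop where
  two_ne : (2 : F) ≠ 0
  nilp : ∀ a, ε a = 0 → IsNilpotent a
  eps_sigma : ∀ a, ε (σ a) = ε a
  eps_alg : ∀ c : F, ε (algebraMap F A c) = c

variable {σ : A →+* A} {ε : A →+* F}

theorem LocInv.isUnit_iff (h : LocInv σ ε) (a : A) : IsUnit a ↔ ε a ≠ 0 := by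
  constructor
  · intro ha
    exact (ha.map ε).ne_zero
  · intro ha
    have h1 : IsNilpotent (a - algebraMap F A (ε a)) := h.nilp _ (by simp [h.eps_alg])
    have h2 : IsUnit (algebraMap F A (ε a)) := (IsUnit.mk0 _ ha).map (algebraMap F A)
    have := h1.isUnit_add_left_of_commute h2 (Commute.all _ _)
    simpa using this

theorem LocInv.isUnit_two (h : LocInv σ ε) : IsUnit (2 : A) := by
  rw [h.isUnit_iff, map_ofNat]
  exact h.two_ne

/-- Cayley transform -/
noncomputable def cay (a : A) : A := (1 - a) * Ring.inverse (1 + a)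

theorem cay_spec {a : A} (hu : IsUnit (1 + a)) : (1 + a) * (1 + cay a) = 2 := by
  have hi : (1 + a) * Ring.inverse (1 + a) = 1 := Ring.mul_inverse_cancel _ hu
  unfold cay
  linear_combination (1 - a) * hi

theorem cay_unique {a z : A} (hu : IsUnit (1 + a)) (hz : (1 + a) * (1 + z) = 2) : cay a = z := by
  have h1 := cay_spec hu
  have h2 : (1 + a) * (cay a - z) = 0 := by linear_combination h1 - hz
  have := (hu.mul_right_eq_zero).1 h2
  exact sub_eq_zero.1 this

theorem isUnit_one_add_cay {a : A} (h2 : IsUnit (2 : A)) (hu : IsUnit (1 + a)) :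
    IsUnit (1 + cay a) := by
  have h1 := cay_spec hu
  rw [← h1] at h2
  exact isUnit_of_mul_isUnit_right h2

theorem cay_cay {a : A} (h2 : IsUnit (2 : A)) (hu : IsUnit (1 + a)) : cay (cay a) = a := by
  apply cay_unique (isUnit_one_add_cay h2 hu)
  have h1 := cay_spec hu
  linear_combination h1

theorem sigma_cay_of_norm {a : A} (hu : IsUnit (1 + a)) (ha : σ a * a = 1) :
    σ (cay a) = - cay a := by
  have hi : (1 + a) * Ring.inverse (1 + a) = 1 := Ring.mul_inverse_cancel _ hu
  have hsi : (1 + σ a) * σ (Ring.inverse (1 + a)) = 1 := by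
    have := congrArg σ hi
    simpa using this
  have hu2 : IsUnit (1 + σ a) := by
    have := hu.map σ
    simpa using this
  have key : ((1 + a) * (1 + σ a)) * (σ (cay a) + cay a) = 0 := by
    unfold cay
    simp only [map_mul, map_sub, map_one]
    linear_combination (1 - σ a) * (1 + a) * hsi + (1 - a) * (1 + σ a) * hi - 2 * ha
  have := ((hu.mul hu2).mul_right_eq_zero).1 key
  exact eq_neg_of_add_eq_zero_left this

theorem norm_cay_of_odd {x : A} (hu : IsUnit (1 + x)) (hx : σ x = - x) :
    σ (cay x) * cay x = 1 := by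
  have hi : (1 + x) * Ring.inverse (1 + x) = 1 := Ring.mul_inverse_cancel _ hu
  have hsi : (1 - x) * σ (Ring.inverse (1 + x)) = 1 := by
    have := congrArg σ hi
    simpa [hx, sub_eq_add_neg] using this
  unfold cay
  simp only [map_mul, map_sub, map_one, hx]
  linear_combination (1 + x) * Ring.inverse (1 + x) * hsi + hi

theorem LocInv.eps_odd (h : LocInv σ ε) {x : A} (hx : σ x = - x) : ε x = 0 := by
  have h1 := h.eps_sigma x
  rw [hx, map_neg] at h1
  have h2 : (2 : F) * ε x = 0 := by linear_combination - h1
  rcases mul_eq_zero.1 h2 with h3 | h3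
  · exact absurd h3 h.two_ne
  · exact h3

theorem LocInv.eps_cay (h : LocInv σ ε) {x : A} (hx : ε x = 0) : ε (cay x) = 1 := by
  have hu : IsUnit (1 + x) := by rw [h.isUnit_iff]; simp [hx]
  have h1 := congrArg ε (cay_spec hu)
  simp only [map_mul, map_add, map_one, hx, add_zero, one_mul] at h1
  have h2 : ε (2 : A) = 2 := by
    have : (2 : A) = algebraMap F A 2 := (map_ofNat (algebraMap F A) 2).symm
    rw [this, h.eps_alg]
  rw [h2] at h1
  linear_combination h1

theorem LocInv.card_norm_one [Finite A] (h : LocInv σ ε) :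
    Nat.card {a : A // σ a * a = 1} = 2 * Nat.card {a : A // σ a = -a} := by
  classical
  have h2A := h.isUnit_two
  have hne : (1 : F) ≠ -1 := by
    intro h1
    apply h.two_ne
    linear_combination h1
  let sgn : Bool → A := fun b => if b then 1 else -1
  have hsgn2 : ∀ b, sgn b * sgn b = 1 := by intro b; cases b <;> simp [sgn]
  have hsgnσ : ∀ b, σ (sgn b) = sgn b := by intro b; cases b <;> simp [sgn]
  have hsgnε : ∀ b, ε (sgn b) = if b then 1 else -1 := by intro b; cases b <;> simp [sgn]
  have huodd : ∀ x : A, σ x = -x → IsUnit (1 + x) := by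
    intro x hx
    rw [h.isUnit_iff]
    simp [h.eps_odd hx]
  let Φ : Bool × {a : A // σ a = -a} → {a : A // σ a * a = 1} := fun bx =>
    ⟨sgn bx.1 * cay bx.2.1, by
      have := norm_cay_of_odd (huodd _ bx.2.2) bx.2.2
      rw [map_mul, hsgnσ]
      linear_combination (sgn bx.1 * sgn bx.1) * this + hsgn2 bx.1⟩
  have hΦ : Function.Bijective Φ := by
    constructor
    · rintro ⟨b, x, hx⟩ ⟨b', x', hx'⟩ hΦ
      have h1 : sgn b * cay x = sgn b' * cay x' := congrArg Subtype.val hΦ
      have h3 := congrArg ε h1
      simp only [map_mul, h.eps_cay (h.eps_odd hx), h.eps_cay (h.eps_odd hx'), hsgnε,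
        mul_one] at h3
      have hb : b = b' := by
        rcases b with _ | _ <;> rcases b' with _ | _ <;>
          first | rfl | (exfalso; simp at h3; first | exact hne h3 | exact hne h3.symm)
      subst hb
      have h4 : cay x = cay x' := by
        have := congrArg (fun t => sgn b * t) h1
        simp only [← mul_assoc, hsgn2, one_mul] at this
        exact this
      have h5 : x = x' := by
        rw [← cay_cay h2A (huodd x hx), ← cay_cay h2A (huodd x' hx'), h4]
      subst h5
      rfl
    · rintro ⟨a, ha⟩
      have h1 : ε a * ε a = 1 := by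
        have := congrArg ε ha
        simpa [h.eps_sigma] using this
      have key : ∀ a : A, σ a * a = 1 → ε a = 1 →
          ∃ x : {a : A // σ a = -a}, cay x.1 = a := by
        intro a ha h1
        have hu : IsUnit (1 + a) := by
          rw [h.isUnit_iff]
          simp only [map_add, map_one, h1]
          intro h3
          apply h.two_ne
          linear_combination h3
        exact ⟨⟨cay a, sigma_cay_of_norm hu ha⟩, cay_cay h2A hu⟩
      rcases mul_self_eq_one_iff.1 h1 with h3 | h3
      · obtain ⟨x, hx⟩ := key a ha h3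
        refine ⟨(true, x), ?_⟩
        apply Subtype.ext
        simp [Φ, sgn, hx]
      · obtain ⟨x, hx⟩ := key (-a) (by simpa using ha) (by simp [h3])
        refine ⟨(false, x), ?_⟩
        apply Subtype.ext
        simp [Φ, sgn, hx]
  rw [← Nat.card_eq_of_bijective Φ hΦ, Nat.card_prod]
  simp

end Abstract

end Cfsg.Agent.helper17.RegU
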