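import Mathlib
import Cfsg.Agent.Lib_helper17_RegU1

set_option autoImplicit false

namespace Cfsg.Agent.helper17.RegU

open Polynomial

section Trunc

variable (F : Type*) [Field F] (n : ℕ)

/-- truncated polynomial ring -/
abbrev Rn := AdjoinRoot (X ^ n : F[X])

theorem root_pow_eq_zero : (AdjoinRoot.root (X ^ n : F[X])) ^ n = 0 := by
  rw [← AdjoinRoot.mk_X, ← map_pow, AdjoinRoot.mk_self]

/-- the basis of powers -/
noncomputable def rnBasis : Module.Basis (Fin n) F (Rn F n) :=
  (AdjoinRoot.powerBasis' (monic_X_pow (R := F) n)).basis.reindex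
    (finCongr (natDegree_X_pow (R := F) n))

theorem rnBasis_apply (k : Fin n) : rnBasis F n k = (AdjoinRoot.root (X ^ n : F[X])) ^ (k : ℕ) := by
  unfold rnBasis
  rw [Module.Basis.reindex_apply, PowerBasis.basis_eq_pow]
  rfl

/-- the involution `X ↦ -X` -/
noncomputable def sig : Rn F n →ₐ[F] Rn F n :=
  AdjoinRoot.liftAlgHom (X ^ n : F[X]) (Algebra.ofId F (Rn F n))
    (- AdjoinRoot.root (X ^ n : F[X])) (by
      rw [eval₂_pow, eval₂_X, neg_pow, root_pow_eq_zero, mul_zero])

theorem sig_root : sig F n (AdjoinRoot.root (X ^ n : F[X])) = - AdjoinRoot.root (X ^ n : F[X]) := by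
  unfold sig
  simp

variable {n}

/-- the augmentation -/
noncomputable def eps (hn : n ≠ 0) : Rn F n →ₐ[F] F :=
  AdjoinRoot.liftAlgHom (X ^ n : F[X]) (AlgHom.id F F) 0 (by
    rw [eval₂_pow, eval₂_X, zero_pow hn])

theorem eps_root (hn : n ≠ 0) : eps F hn (AdjoinRoot.root (X ^ n : F[X])) = 0 := by
  unfold eps
  simp

theorem eps_mk (hn : n ≠ 0) (p : F[X]) : eps F hn (AdjoinRoot.mk (X ^ n : F[X]) p) = p.eval 0 := by
  unfold eps
  rw [AdjoinRoot.liftAlgHom_mk]
  simp [eval₂_eq_eval_map]

theorem locInv (hn : n ≠ 0) (h2 : (2 : F) ≠ 0) :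
    LocInv (F := F) (sig F n : Rn F n →+* Rn F n) (eps F hn : Rn F n →+* F) where
  two_ne := h2
  nilp := by
    intro a ha
    induction a using AdjoinRoot.induction_on with
    | ih p =>
      simp only [RingHom.coe_coe, eps_mk] at ha
      have hX : X ∣ p := by
        rw [X_dvd_iff, coeff_zero_eq_eval_zero]; exact ha
      obtain ⟨r, rfl⟩ := hX
      refine ⟨n, ?_⟩
      rw [map_mul, mul_pow, AdjoinRoot.mk_X, root_pow_eq_zero, zero_mul]
  eps_sigma := by
    intro a
    have : (eps F hn).comp (sig F n) = eps F hn := by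
      apply AdjoinRoot.algHom_ext
      simp [sig_root, eps_root]
    exact congrArg (fun f => f a) this
  eps_alg := by
    intro c
    show (eps F hn) (algebraMap F (Rn F n) c) = c
    rw [AlgHom.commutes]
    rfl

instance [Finite F] : Finite (Rn F n) := by
  haveI : Module.Finite F (Rn F n) := Module.Finite.of_basis (rnBasis F n)
  exact Module.finite_of_finite F

theorem sig_sum (c : Fin n → F) :
    sig F n (∑ k : Fin n, c k • (AdjoinRoot.root (X ^ n : F[X])) ^ (k : ℕ)) =
      ∑ k : Fin n, ((-1) ^ (k : ℕ) * c k) • (AdjoinRoot.root (X ^ n : F[X])) ^ (k : ℕ) := by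
  rw [map_sum]
  apply Finset.sum_congr rfl
  intro k _
  rw [map_smul, map_pow, sig_root, neg_pow, mul_smul, smul_comm]
  congr 1
  rw [Algebra.smul_def, map_pow, map_neg, map_one]

/-- coefficient vector to element -/
noncomputable def coeffEquiv (F : Type*) [Field F] (n : ℕ) : (Fin n → F) ≃ₗ[F] Rn F n :=
  (rnBasis F n).equivFun.symm

theorem coeffEquiv_apply (c : Fin n → F) :
    coeffEquiv F n c = ∑ k : Fin n, c k • (AdjoinRoot.root (X ^ n : F[X])) ^ (k : ℕ) := by
  unfold coeffEquiv
  rw [Module.Basis.equivFun_symm_apply]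
  simp only [rnBasis_apply]

theorem sig_coeffEquiv (c : Fin n → F) :
    sig F n (coeffEquiv F n c) = coeffEquiv F n (fun k => (-1) ^ (k : ℕ) * c k) := by
  rw [coeffEquiv_apply, coeffEquiv_apply, sig_sum]

theorem odd_iff (h2 : (2 : F) ≠ 0) (c : Fin n → F) :
    sig F n (coeffEquiv F n c) = - coeffEquiv F n c ↔ ∀ k : Fin n, Even (k : ℕ) → c k = 0 := by
  rw [sig_coeffEquiv, ← map_neg, (coeffEquiv F n).injective.eq_iff]
  constructor
  · intro h k hk
    have h1 := congrFun h k
    simp only [hk.neg_one_pow, one_mul, Pi.neg_apply] at h1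
    have h3 : (2 : F) * c k = 0 := by linear_combination h1
    rcases mul_eq_zero.1 h3 with h4 | h4
    · exact absurd h4 h2
    · exact h4
  · intro h
    funext k
    rcases Nat.even_or_odd (k : ℕ) with hk | hk
    · simp [h k hk]
    · simp [hk.neg_one_pow]

theorem card_odd [Finite F] (h2 : (2 : F) ≠ 0) (m : ℕ) :
    Nat.card {a : Rn F (2 * m) // sig F (2 * m) a = -a} = Nat.card F ^ m := by
  classical
  have hbij : Function.Bijective (fun d : Fin m → F =>
      (⟨coeffEquiv F (2 * m) (fun k => if h : Odd (k : ℕ) then d ⟨(k : ℕ) / 2, by omega⟩ else 0),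
        by
          rw [odd_iff F h2]
          intro k hk
          rw [dif_neg (Nat.not_odd_iff_even.2 hk)]⟩ :
        {a : Rn F (2 * m) // sig F (2 * m) a = -a})) := by
    constructor
    · intro d d' hdd
      have h1 := congrArg Subtype.val hdd
      simp only at h1
      have h3 := (coeffEquiv F (2 * m)).injective h1
      funext j
      have h4 := congrFun h3 ⟨2 * (j : ℕ) + 1, by omega⟩
      have hodd : Odd (2 * (j : ℕ) + 1) := ⟨j, rfl⟩
      simp only [dif_pos hodd] at h4
      have h5 : (⟨(2 * (j : ℕ) + 1) / 2, by omega⟩ : Fin m) = j := by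
        apply Fin.ext
        simp only
        omega
      rw [h5] at h4
      exact h4
    · rintro ⟨a, ha⟩
      obtain ⟨c, rfl⟩ := (coeffEquiv F (2 * m)).surjective a
      rw [odd_iff F h2] at ha
      refine ⟨fun j => c ⟨2 * (j : ℕ) + 1, by omega⟩, ?_⟩
      apply Subtype.ext
      simp only
      congr 1
      funext k
      by_cases hk : Odd (k : ℕ)
      · rw [dif_pos hk]
        congr 1
        apply Fin.ext
        simp only
        obtain ⟨t, ht⟩ := hk
        omega
      · rw [dif_neg hk, ha k (Nat.not_odd_iff_even.1 hk)]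
  rw [← Nat.card_eq_of_bijective _ hbij, Nat.card_fun]
  simp

end Trunc

end Cfsg.Agent.helper17.RegU
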