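import Mathlib

set_option autoImplicit false

namespace Cfsg.Agent.helper17.RegU

open Module

section Cyclic

variable {F V : Type*} [Field F] [AddCommGroup V] [Module F V] [FiniteDimensional F V]

theorem finrank_ker_pow_le (f : Module.End F V) (h1 : finrank F (LinearMap.ker f) ≤ 1) (k : ℕ) :
    finrank F (LinearMap.ker (f ^ k)) ≤ k := by
  induction k with
  | zero =>
    rw [pow_zero]
    have : LinearMap.ker (1 : Module.End F V) = ⊥ := by
      ext x; simp
    rw [this]; simp
  | succ k ih =>
    let W := LinearMap.ker (f ^ (k + 1))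
    let g : W →ₗ[F] V := (f ^ k).domRestrict W
    have hrange : LinearMap.range g ≤ LinearMap.ker f := by
      rintro _ ⟨x, rfl⟩
      rw [LinearMap.mem_ker]
      have hx := x.2
      rw [LinearMap.mem_ker, pow_succ', Module.End.mul_apply] at hx
      exact hx
    have hker : finrank F (LinearMap.ker g) ≤ finrank F (LinearMap.ker (f ^ k)) := by
      let φ : LinearMap.ker g →ₗ[F] LinearMap.ker (f ^ k) :=
        LinearMap.codRestrict _ (W.subtype.comp (LinearMap.ker g).subtype) (fun x => by
          have hx := x.2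
          rw [LinearMap.mem_ker] at hx ⊢
          exact hx)
      apply LinearMap.finrank_le_finrank_of_injective (f := φ)
      intro a b hab
      have h3 := congrArg Subtype.val hab
      apply Subtype.ext
      apply Subtype.ext
      exact h3
    have h3 := LinearMap.finrank_range_add_finrank_ker g
    have h4 := Submodule.finrank_mono hrange
    show finrank F W ≤ k + 1
    omega

theorem exists_pow_ne_zero (f : Module.End F V) (h1 : finrank F (LinearMap.ker f) ≤ 1)
    (hpos : 1 ≤ finrank F V) : ∃ v : V, (f ^ (finrank F V - 1)) v ≠ 0 := by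
  by_contra hcon
  push Not at hcon
  have h3 : LinearMap.ker (f ^ (finrank F V - 1)) = ⊤ := by
    ext x; simp [hcon x]
  have h4 := finrank_ker_pow_le f h1 (finrank F V - 1)
  rw [h3, finrank_top] at h4
  omega

theorem linIndep_iterate (f : Module.End F V) (n : ℕ) (hfn : f ^ n = 0) (v : V)
    (hv : (f ^ (n - 1)) v ≠ 0) :
    LinearIndependent F (fun k : Fin n => (f ^ (k : ℕ)) v) := by
  rw [Fintype.linearIndependent_iff]
  intro c hc
  have key : ∀ j : ℕ, ∀ hj : j < n, c ⟨j, hj⟩ = 0 := by
    intro j
    induction j using Nat.strong_induction_on with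
    | _ j ih =>
      intro hj
      have h1 := congrArg (f ^ (n - 1 - j)) hc
      rw [map_sum, map_zero] at h1
      rw [Finset.sum_eq_single ⟨j, hj⟩] at h1
      · rw [map_smul, ← Module.End.mul_apply, ← pow_add] at h1
        have h2 : n - 1 - j + j = n - 1 := by omega
        rw [h2] at h1
        rcases smul_eq_zero.1 h1 with h3 | h3
        · exact h3
        · exact absurd h3 hv
      · intro k _ hk
        rw [map_smul, ← Module.End.mul_apply, ← pow_add]
        rcases Nat.lt_or_ge (k : ℕ) j with hlt | hge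
        · have := ih k hlt k.2
          rw [show (⟨(k : ℕ), k.2⟩ : Fin n) = k from rfl] at this
          rw [this, zero_smul]
        · have hne : (k : ℕ) ≠ j := fun h => hk (Fin.ext h)
          have h5 : n - 1 - j + (k : ℕ) = n + ((k : ℕ) - j - 1) := by omega
          rw [h5, pow_add, hfn, zero_mul, LinearMap.zero_apply, smul_zero]
      · intro h; exact absurd (Finset.mem_univ _) h
  intro k
  exact key k k.2

/-- cyclic basis -/
noncomputable def cycBasis (f : Module.End F V) (n : ℕ) (hpos : 0 < n) (hn : finrank F V = n)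
    (hfn : f ^ n = 0)
    (v : V) (hv : (f ^ (n - 1)) v ≠ 0) : Basis (Fin n) F V :=
  haveI : Nonempty (Fin n) := ⟨⟨0, hpos⟩⟩
  basisOfLinearIndependentOfCardEqFinrank (linIndep_iterate f n hfn v hv) (by simp [hn])

theorem cycBasis_apply (f : Module.End F V) (n : ℕ) (hpos : 0 < n) (hn : finrank F V = n)
    (hfn : f ^ n = 0)
    (v : V) (hv : (f ^ (n - 1)) v ≠ 0) (k : Fin n) :
    cycBasis f n hpos hn hfn v hv k = (f ^ (k : ℕ)) v := by
  unfold cycBasis
  simp

theorem commutant_eq (f : Module.End F V) (n : ℕ) (hpos : 0 < n) (hn : finrank F V = n)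
    (hfn : f ^ n = 0)
    (v : V) (hv : (f ^ (n - 1)) v ≠ 0) (x : Module.End F V) (hx : Commute x f) :
    ∃ c : Fin n → F, x = ∑ k : Fin n, c k • f ^ (k : ℕ) := by
  let b := cycBasis f n hpos hn hfn v hv
  refine ⟨fun k => b.repr (x v) k, ?_⟩
  apply b.ext
  intro j
  rw [cycBasis_apply]
  have h1 : x ((f ^ (j : ℕ)) v) = (f ^ (j : ℕ)) (x v) := by
    have := (hx.pow_right (j : ℕ)).eq
    have h2 := congrArg (fun g => g v) this
    simpa [Module.End.mul_apply] using h2
  rw [h1]
  conv_lhs => rw [← b.sum_repr (x v)]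
  rw [map_sum, LinearMap.sum_apply]
  apply Finset.sum_congr rfl
  intro k _
  rw [map_smul, LinearMap.smul_apply, cycBasis_apply, ← Module.End.mul_apply,
    ← Module.End.mul_apply, ← pow_add, ← pow_add, add_comm]

theorem linIndep_pow (f : Module.End F V) (n : ℕ) (hfn : f ^ n = 0)
    (v : V) (hv : (f ^ (n - 1)) v ≠ 0) :
    LinearIndependent F (fun k : Fin n => f ^ (k : ℕ)) := by
  rw [Fintype.linearIndependent_iff]
  intro c hc
  have h1 := linIndep_iterate f n hfn v hv
  rw [Fintype.linearIndependent_iff] at h1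
  apply h1 c
  have h2 := congrArg (fun g => g v) hc
  simpa [LinearMap.sum_apply] using h2

end Cyclic

section Mat

variable {F : Type*} [Field F] {ι : Type*} [Fintype ι] [DecidableEq ι]

/-- regular nilpotent matrices -/
structure RegNil (s : Matrix ι ι F) (n : ℕ) : Prop where
  card : Fintype.card ι = n
  pos : 0 < n
  nil : s ^ n = 0
  rank : s.rank = n - 1

theorem RegNil.exists_vec {s : Matrix ι ι F} {n : ℕ} (h : RegNil s n) :
    ∃ v : ι → F, ((Matrix.toLinAlgEquiv' s : Module.End F (ι → F)) ^ (n - 1)) v ≠ 0 := by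
  have hfr : finrank F (ι → F) = n := by simp [h.card]
  have hker : finrank F (LinearMap.ker (Matrix.toLinAlgEquiv' s : Module.End F (ι → F))) ≤ 1 := by
    have h1 := LinearMap.finrank_range_add_finrank_ker
      (Matrix.toLinAlgEquiv' s : Module.End F (ι → F))
    have h2 : finrank F (LinearMap.range (Matrix.toLinAlgEquiv' s : Module.End F (ι → F)))
        = n - 1 := by
      rw [← h.rank]
      rfl
    rw [h2, hfr] at h1
    have := h.pos
    omega
  have := exists_pow_ne_zero (Matrix.toLinAlgEquiv' s : Module.End F (ι → F)) hker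
    (by rw [hfr]; exact h.pos)
  rw [hfr] at this
  exact this

theorem RegNil.commutant {s : Matrix ι ι F} {n : ℕ} (h : RegNil s n) (x : Matrix ι ι F)
    (hx : Commute x s) :
    ∃ c : Fin n → F, x = ∑ k : Fin n, c k • s ^ (k : ℕ) := by
  obtain ⟨v, hv⟩ := h.exists_vec
  have hfr : finrank F (ι → F) = n := by simp [h.card]
  have hfn : (Matrix.toLinAlgEquiv' s : Module.End F (ι → F)) ^ n = 0 := by
    rw [← map_pow, h.nil, map_zero]
  obtain ⟨c, hc⟩ := commutant_eq (Matrix.toLinAlgEquiv' s : Module.End F (ι → F))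
    n h.pos hfr hfn v hv (Matrix.toLinAlgEquiv' x) (hx.map Matrix.toLinAlgEquiv')
  refine ⟨c, ?_⟩
  apply (Matrix.toLinAlgEquiv' (R := F) (n := ι)).injective
  rw [hc, map_sum]
  apply Finset.sum_congr rfl
  intro k _
  rw [map_smul, map_pow]

theorem RegNil.linIndep {s : Matrix ι ι F} {n : ℕ} (h : RegNil s n) :
    LinearIndependent F (fun k : Fin n => s ^ (k : ℕ)) := by
  obtain ⟨v, hv⟩ := h.exists_vec
  have hfn : (Matrix.toLinAlgEquiv' s : Module.End F (ι → F)) ^ n = 0 := by
    rw [← map_pow, h.nil, map_zero]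
  have h1 := linIndep_pow (Matrix.toLinAlgEquiv' s : Module.End F (ι → F))
    n hfn v hv
  have h2 : (fun k : Fin n =>
      (Matrix.toLinAlgEquiv' s : Module.End F (ι → F)) ^ (k : ℕ)) =
      (Matrix.toLinAlgEquiv' (R := F) (n := ι)).toLinearMap ∘
        (fun k : Fin n => s ^ (k : ℕ)) := by
    funext k
    simp
  rw [h2] at h1
  exact LinearIndependent.of_comp _ h1

end Mat

end Cfsg.Agent.helper17.RegU
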