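import Mathlib
import Cfsg.Agent.Lib_helper17_RegU2
import Cfsg.Agent.Lib_helper17_RegU3

set_option autoImplicit false

namespace Cfsg.Agent.helper17.RegU

open Polynomial Matrix

section Emb

variable {F : Type*} [Field F] {ι : Type*} [Fintype ι] [DecidableEq ι]
variable {s : Matrix ι ι F} {n : ℕ}

/-- the embedding of the truncated polynomial ring -/
noncomputable def RegNil.emb (h : RegNil s n) : Rn F n →ₐ[F] Matrix ι ι F :=
  Ideal.Quotient.liftₐ (Ideal.span {(X ^ n : F[X])}) (Polynomial.aeval s) (by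
    intro a ha
    rw [Ideal.mem_span_singleton] at ha
    obtain ⟨b, rfl⟩ := ha
    rw [map_mul, map_pow, aeval_X, h.nil, zero_mul])

theorem RegNil.emb_mk (h : RegNil s n) (p : F[X]) :
    h.emb (AdjoinRoot.mk (X ^ n : F[X]) p) = Polynomial.aeval s p := rfl

theorem RegNil.emb_root (h : RegNil s n) : h.emb (AdjoinRoot.root (X ^ n : F[X])) = s := by
  rw [← AdjoinRoot.mk_X, h.emb_mk, aeval_X]

theorem RegNil.emb_coeff (h : RegNil s n) (c : Fin n → F) :
    h.emb (coeffEquiv F n c) = ∑ k : Fin n, c k • s ^ (k : ℕ) := by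
  rw [coeffEquiv_apply, map_sum]
  apply Finset.sum_congr rfl
  intro k _
  rw [map_smul, map_pow, h.emb_root]

theorem RegNil.emb_injective (h : RegNil s n) : Function.Injective h.emb := by
  rw [injective_iff_map_eq_zero]
  intro a ha
  obtain ⟨c, rfl⟩ := (coeffEquiv F n).surjective a
  rw [h.emb_coeff] at ha
  have h1 := Fintype.linearIndependent_iff.1 h.linIndep c ha
  have h2 : c = 0 := funext h1
  rw [h2, map_zero]

theorem RegNil.emb_commute (h : RegNil s n) (a b : Rn F n) : Commute (h.emb a) (h.emb b) :=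
  (Commute.all a b).map h.emb

theorem RegNil.emb_commute_self (h : RegNil s n) (a : Rn F n) : Commute (h.emb a) s := by
  have := h.emb_commute a (AdjoinRoot.root (X ^ n : F[X]))
  rwa [h.emb_root] at this

theorem RegNil.exists_emb (h : RegNil s n) (x : Matrix ι ι F) (hx : Commute x s) :
    ∃ a, h.emb a = x := by
  obtain ⟨c, hc⟩ := h.commutant x hx
  exact ⟨coeffEquiv F n c, by rw [h.emb_coeff, hc]⟩

end Emb

section Sp

variable {F : Type*} [Field F] {l : Type*} [Fintype l] [DecidableEq l]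

/-- the adjoint with respect to the symplectic form -/
def adj : Matrix (l ⊕ l) (l ⊕ l) F →ₗ[F] Matrix (l ⊕ l) (l ⊕ l) F where
  toFun X := -(J l F) * Xᵀ * J l F
  map_add' := by intro X Y; simp [Matrix.transpose_add, mul_add, add_mul]
  map_smul' := by intro c X; simp

theorem adj_apply (X : Matrix (l ⊕ l) (l ⊕ l) F) : adj X = -(J l F) * Xᵀ * J l F := rfl

theorem adj_one : adj (1 : Matrix (l ⊕ l) (l ⊕ l) F) = 1 := by
  rw [adj_apply, transpose_one, mul_one, neg_mul, J_squared, neg_neg]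

theorem adj_mul (X Y : Matrix (l ⊕ l) (l ⊕ l) F) : adj (X * Y) = adj Y * adj X := by
  simp only [adj_apply, transpose_mul]
  have hJ := J_squared l F
  calc -(J l F) * (Yᵀ * Xᵀ) * J l F = -(J l F * Yᵀ * (-(-1 : Matrix (l ⊕ l) (l ⊕ l) F)) * Xᵀ * J l F) := by
        simp [Matrix.mul_assoc]
    _ = -(J l F) * Yᵀ * J l F * (-(J l F) * Xᵀ * J l F) := by
        rw [← hJ]
        simp [Matrix.mul_assoc]

theorem adj_adj (X : Matrix (l ⊕ l) (l ⊕ l) F) : adj (adj X) = X := by
  simp only [adj_apply, transpose_mul, transpose_neg, J_transpose, transpose_transpose]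
  have hJ := J_squared l F
  calc -(J l F) * (-(J l F) * (X * - -(J l F))) * J l F
      = (J l F * J l F) * X * (J l F * J l F) := by
        simp [Matrix.mul_assoc]
    _ = X := by rw [hJ]; simp

theorem adj_pow (X : Matrix (l ⊕ l) (l ⊕ l) F) (k : ℕ) : adj (X ^ k) = adj X ^ k := by
  induction k with
  | zero => simp [adj_one]
  | succ k ih => rw [pow_succ, adj_mul, ih, ← pow_succ']

theorem mem_symplectic_iff_adj (g : Matrix (l ⊕ l) (l ⊕ l) F) :
    g ∈ symplecticGroup l F ↔ adj g * g = 1 := by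
  rw [SymplecticGroup.mem_iff', adj_apply]
  have hJ := J_squared l F
  constructor
  · intro h
    calc -(J l F) * gᵀ * J l F * g = -(J l F * (gᵀ * J l F * g)) := by simp [Matrix.mul_assoc]
      _ = 1 := by rw [h, hJ, neg_neg]
  · intro h
    have h1 : J l F * (-(J l F) * gᵀ * J l F * g) = J l F := by rw [h, mul_one]
    calc gᵀ * J l F * g = -(J l F * J l F) * (gᵀ * J l F * g) := by rw [hJ]; simp
      _ = J l F * (-(J l F) * gᵀ * J l F * g) := by simp [Matrix.mul_assoc]
      _ = J l F := h1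

theorem adj_coe (u : symplecticGroup l F) :
    adj (u : Matrix (l ⊕ l) (l ⊕ l) F) = ((u⁻¹ : symplecticGroup l F) : Matrix (l ⊕ l) (l ⊕ l) F) := by
  rw [SymplecticGroup.coe_inv, adj_apply]

theorem adj_mul_self (u : symplecticGroup l F) :
    adj (u : Matrix (l ⊕ l) (l ⊕ l) F) * (u : Matrix (l ⊕ l) (l ⊕ l) F) = 1 :=
  (mem_symplectic_iff_adj _).1 u.2

theorem self_mul_adj (u : symplecticGroup l F) :
    (u : Matrix (l ⊕ l) (l ⊕ l) F) * adj (u : Matrix (l ⊕ l) (l ⊕ l) F) = 1 :=
  mul_eq_one_comm.1 (adj_mul_self u)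

end Sp

end Cfsg.Agent.helper17.RegU
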