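import Mathlib
import Cfsg.Agent.Lib_helper17_RegU4

set_option autoImplicit false

namespace Cfsg.Agent.helper17.RegU

open Polynomial Matrix

section Main

variable {F : Type*} [Field F] {l : Type*} [Fintype l] [DecidableEq l]

/-- `s = u - u⁻¹` -/
def sOf (u : symplecticGroup l F) : Matrix (l ⊕ l) (l ⊕ l) F :=
  (u : Matrix (l ⊕ l) (l ⊕ l) F) - adj (u : Matrix (l ⊕ l) (l ⊕ l) F)

theorem adj_sOf (u : symplecticGroup l F) : adj (sOf u) = - sOf u := by
  simp [sOf, map_sub, adj_adj]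

theorem commute_adj_self (u : symplecticGroup l F) :
    Commute (adj (u : Matrix (l ⊕ l) (l ⊕ l) F)) (u : Matrix (l ⊕ l) (l ⊕ l) F) := by
  show _ = _
  rw [adj_mul_self, self_mul_adj]

theorem sOf_eq (u : symplecticGroup l F) :
    sOf u = (adj (u : Matrix (l ⊕ l) (l ⊕ l) F) * ((u : Matrix (l ⊕ l) (l ⊕ l) F) + 1)) *
      ((u : Matrix (l ⊕ l) (l ⊕ l) F) - 1) := by
  have h1 := adj_mul_self u
  calc sOf u = (adj (u : Matrix (l ⊕ l) (l ⊕ l) F) * (u : Matrix (l ⊕ l) (l ⊕ l) F)) *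
        (u : Matrix (l ⊕ l) (l ⊕ l) F) - adj (u : Matrix (l ⊕ l) (l ⊕ l) F) := by
        rw [h1, one_mul]; rfl
    _ = _ := by noncomm_ring

theorem isUnit_two_mat (h2 : (2 : F) ≠ 0) : IsUnit (2 : Matrix (l ⊕ l) (l ⊕ l) F) := by
  have := (IsUnit.mk0 (2 : F) h2).map (algebraMap F (Matrix (l ⊕ l) (l ⊕ l) F))
  rwa [map_ofNat] at this

theorem regNil_sOf (h2 : (2 : F) ≠ 0) (u : symplecticGroup l F) {n : ℕ}
    (hn : Fintype.card (l ⊕ l) = n) (hpos : 0 < n)
    (hnil : ((u : Matrix (l ⊕ l) (l ⊕ l) F) - 1) ^ n = 0)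
    (hreg : ((u : Matrix (l ⊕ l) (l ⊕ l) F) - 1).rank = n - 1) : RegNil (sOf u) n := by
  have hcu := commute_adj_self u
  have hc1 : Commute (adj (u : Matrix (l ⊕ l) (l ⊕ l) F)) ((u : Matrix (l ⊕ l) (l ⊕ l) F) - 1) :=
    hcu.sub_right (Commute.one_right _)
  have hc2 : Commute ((u : Matrix (l ⊕ l) (l ⊕ l) F) + 1) ((u : Matrix (l ⊕ l) (l ⊕ l) F) - 1) :=
    ((Commute.refl _).add_left (Commute.one_left _)).sub_right (Commute.one_right _)
  have hcW := hc1.mul_left hc2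
  have hU1 : IsUnit (adj (u : Matrix (l ⊕ l) (l ⊕ l) F)) :=
    (⟨adj (u : Matrix (l ⊕ l) (l ⊕ l) F), u, adj_mul_self u, self_mul_adj u⟩ :
      (Matrix (l ⊕ l) (l ⊕ l) F)ˣ).isUnit
  have hU2 : IsUnit ((u : Matrix (l ⊕ l) (l ⊕ l) F) + 1) := by
    have hnp : IsNilpotent ((u : Matrix (l ⊕ l) (l ⊕ l) F) - 1) := ⟨n, hnil⟩
    have := hnp.isUnit_add_right_of_commute (isUnit_two_mat h2)
      ((Commute.ofNat_right _ 2))
    have h3 : (u : Matrix (l ⊕ l) (l ⊕ l) F) - 1 + 2 = (u : Matrix (l ⊕ l) (l ⊕ l) F) + 1 := by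
      rw [← one_add_one_eq_two]; abel
    rwa [h3] at this
  have hUW := hU1.mul hU2
  refine ⟨hn, hpos, ?_, ?_⟩
  · rw [sOf_eq, hcW.mul_pow, hnil, mul_zero]
  · rw [sOf_eq, Matrix.rank_mul_eq_right_of_isUnit_det _ _
      ((Matrix.isUnit_iff_isUnit_det _).1 hUW), hreg]

theorem commute_sOf_of_commute (u : symplecticGroup l F) (x : Matrix (l ⊕ l) (l ⊕ l) F)
    (hx : Commute x (u : Matrix (l ⊕ l) (l ⊕ l) F)) : Commute x (sOf u) := by
  have h1 := adj_mul_self u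
  have h2 := self_mul_adj u
  have hx2 : Commute x (adj (u : Matrix (l ⊕ l) (l ⊕ l) F)) := by
    show _ = _
    calc x * adj (u : Matrix (l ⊕ l) (l ⊕ l) F)
        = (adj (u : Matrix (l ⊕ l) (l ⊕ l) F) * (u : Matrix (l ⊕ l) (l ⊕ l) F)) * x *
          adj (u : Matrix (l ⊕ l) (l ⊕ l) F) := by rw [h1, one_mul]
      _ = adj (u : Matrix (l ⊕ l) (l ⊕ l) F) * ((u : Matrix (l ⊕ l) (l ⊕ l) F) * x) *
          adj (u : Matrix (l ⊕ l) (l ⊕ l) F) := by simp only [Matrix.mul_assoc]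
      _ = adj (u : Matrix (l ⊕ l) (l ⊕ l) F) * (x * (u : Matrix (l ⊕ l) (l ⊕ l) F)) *
          adj (u : Matrix (l ⊕ l) (l ⊕ l) F) := by rw [hx.eq]
      _ = adj (u : Matrix (l ⊕ l) (l ⊕ l) F) * x * ((u : Matrix (l ⊕ l) (l ⊕ l) F) *
          adj (u : Matrix (l ⊕ l) (l ⊕ l) F)) := by simp only [Matrix.mul_assoc]
      _ = adj (u : Matrix (l ⊕ l) (l ⊕ l) F) * x := by rw [h2, mul_one]
  exact hx.sub_right hx2

theorem commute_of_commute_sOf (u : symplecticGroup l F) {n : ℕ} (h : RegNil (sOf u) n)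
    (x : Matrix (l ⊕ l) (l ⊕ l) F) (hx : Commute x (sOf u)) :
    Commute x (u : Matrix (l ⊕ l) (l ⊕ l) F) := by
  obtain ⟨a, rfl⟩ := h.exists_emb x hx
  obtain ⟨b, hb⟩ := h.exists_emb (u : Matrix (l ⊕ l) (l ⊕ l) F)
    (commute_sOf_of_commute u _ (Commute.refl _))
  rw [← hb]
  exact h.emb_commute a b

theorem adj_emb (u : symplecticGroup l F) {n : ℕ} (h : RegNil (sOf u) n) (a : Rn F n) :
    adj (h.emb a) = h.emb (sig F n a) := by
  obtain ⟨c, rfl⟩ := (coeffEquiv F n).surjective a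
  rw [sig_coeffEquiv, h.emb_coeff, h.emb_coeff, map_sum]
  apply Finset.sum_congr rfl
  intro k _
  rw [map_smul, adj_pow, adj_sOf]
  rcases Nat.even_or_odd (k : ℕ) with hk | hk
  · simp [hk.neg_pow, hk.neg_one_pow]
  · simp [hk.neg_pow, hk.neg_one_pow]

theorem card_centralizer (u : symplecticGroup l F) {n : ℕ} (h : RegNil (sOf u) n) :
    Nat.card (Subgroup.centralizer ({u} : Set (symplecticGroup l F))) =
      Nat.card {a : Rn F n // sig F n a * a = 1} := by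
  symm
  have hmem : ∀ a : Rn F n, sig F n a * a = 1 → h.emb a ∈ symplecticGroup l F := by
    intro a ha
    rw [mem_symplectic_iff_adj, adj_emb, ← map_mul, ha, map_one]
  let Φ : {a : Rn F n // sig F n a * a = 1} →
      Subgroup.centralizer ({u} : Set (symplecticGroup l F)) := fun a =>
    ⟨⟨h.emb a.1, hmem a.1 a.2⟩, by
      rw [Subgroup.mem_centralizer_singleton_iff]
      apply Subtype.ext
      have := commute_of_commute_sOf u h _ (h.emb_commute_self a.1)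
      exact this.eq⟩
  apply Nat.card_eq_of_bijective Φ
  constructor
  · intro a b hab
    have h1 : h.emb a.1 = h.emb b.1 := congrArg
      (fun g : Subgroup.centralizer ({u} : Set (symplecticGroup l F)) =>
        ((g : symplecticGroup l F) : Matrix (l ⊕ l) (l ⊕ l) F)) hab
    exact Subtype.ext (h.emb_injective h1)
  · rintro ⟨g, hg⟩
    rw [Subgroup.mem_centralizer_singleton_iff] at hg
    have hgc : Commute (g : Matrix (l ⊕ l) (l ⊕ l) F) (u : Matrix (l ⊕ l) (l ⊕ l) F) := by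
      have := congrArg (fun g : symplecticGroup l F => (g : Matrix (l ⊕ l) (l ⊕ l) F)) hg
      exact this
    obtain ⟨a, ha⟩ := h.exists_emb _ (commute_sOf_of_commute u _ hgc)
    have hn1 : sig F n a * a = 1 := by
      apply h.emb_injective
      rw [map_mul, ← adj_emb, ha, map_one]
      exact (mem_symplectic_iff_adj _).1 g.2
    refine ⟨⟨a, hn1⟩, ?_⟩
    apply Subtype.ext
    apply Subtype.ext
    exact ha

end Main

end Cfsg.Agent.helper17.RegU
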