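import Mathlib
import Cfsg.Agent.Lib_helper17_RegU5

set_option autoImplicit false

namespace Cfsg.Agent.helper17.RegU

open Polynomial Matrix

section Norm

variable {F A : Type*} [Field F] [CommRing A] [Algebra F A]
variable {σ : A →+* A} {ε : A →+* F}

theorem LocInv.exists_norm (h : LocInv σ ε) (hσalg : ∀ c : F, σ (algebraMap F A c) = algebraMap F A c)
    (p : ℕ) [Fact p.Prime] [CharP F p] (α : A) (hα : σ α = α) (t : F) (ht : t ≠ 0)
    (hε : ε α = t ^ 2) : ∃ c : A, σ c * c = α := by
  have hp2 : p ≠ 2 := by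
    rintro rfl
    apply h.two_ne
    have := CharP.cast_eq_zero F 2
    exact_mod_cast this
  haveI : Nontrivial A := ε.domain_nontrivial
  haveI : CharP A p := charP_of_injective_algebraMap (algebraMap F A).injective p
  set β : A := α * algebraMap F A (t⁻¹ ^ 2) with hβ
  have hεβ : ε β = 1 := by
    rw [hβ, map_mul, h.eps_alg, hε]
    field_simp
  have hσβ : σ β = β := by
    rw [hβ, map_mul, hα, hσalg]
  obtain ⟨N, hN⟩ := h.nilp (β - 1) (by rw [map_sub, hεβ, map_one, sub_self])
  have hpow : β ^ (p ^ N) = 1 := by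
    have h1 : β = (β - 1) + 1 := by ring
    rw [h1, add_pow_char_pow, one_pow]
    have h2 : N ≤ p ^ N := (Nat.lt_pow_self (Fact.out : p.Prime).one_lt).le
    obtain ⟨d, hd⟩ := Nat.exists_eq_add_of_le h2
    rw [hd, pow_add, hN, zero_mul, zero_add]
  have hodd : Odd (p ^ N) := ((Fact.out : p.Prime).odd_of_ne_two hp2).pow
  obtain ⟨j, hj⟩ := hodd
  refine ⟨algebraMap F A t * β ^ (j + 1), ?_⟩
  rw [map_mul, map_pow, hσβ, hσalg]
  have h3 : β ^ (j + 1) * β ^ (j + 1) = β := by
    rw [← pow_add]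
    have : j + 1 + (j + 1) = p ^ N + 1 := by omega
    rw [this, pow_succ, hpow, one_mul]
  have h4 : algebraMap F A t * algebraMap F A t * algebraMap F A (t⁻¹ ^ 2) = 1 := by
    rw [← map_mul, ← map_mul, ← map_one (algebraMap F A)]
    congr 1
    field_simp
  calc algebraMap F A t * β ^ (j + 1) * (algebraMap F A t * β ^ (j + 1))
      = algebraMap F A t * algebraMap F A t * (β ^ (j + 1) * β ^ (j + 1)) := by ring
    _ = algebraMap F A t * algebraMap F A t * β := by rw [h3]
    _ = α * (algebraMap F A t * algebraMap F A t * algebraMap F A (t⁻¹ ^ 2)) := by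
        rw [hβ]; ring
    _ = α := by rw [h4, mul_one]

end Norm

section Conj

open Module

variable {F V : Type*} [Field F] [AddCommGroup V] [Module F V] [FiniteDimensional F V]

theorem exists_conj_end (f f' : Module.End F V) (n : ℕ) (hpos : 0 < n) (hn : finrank F V = n)
    (hfn : f ^ n = 0) (hfn' : f' ^ n = 0) (v v' : V) (hv : (f ^ (n - 1)) v ≠ 0)
    (hv' : (f' ^ (n - 1)) v' ≠ 0) :
    ∃ e : V ≃ₗ[F] V, ∀ x, e (f x) = f' (e x) := by
  let b := cycBasis f n hpos hn hfn v hv
  let b' := cycBasis f' n hpos hn hfn' v' hv'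
  let e := b.equiv b' (Equiv.refl _)
  refine ⟨e, ?_⟩
  have key : e.toLinearMap ∘ₗ f = f' ∘ₗ e.toLinearMap := by
    apply b.ext
    intro k
    simp only [LinearMap.comp_apply, LinearEquiv.coe_coe]
    have h1 : e (b k) = b' k := by
      simp [e]
    rw [h1]
    rw [cycBasis_apply, cycBasis_apply]
    rw [← Module.End.mul_apply, ← pow_succ', ← Module.End.mul_apply, ← pow_succ']
    by_cases hk : (k : ℕ) + 1 < n
    · have h2 : (f ^ ((k : ℕ) + 1)) v = b ⟨(k : ℕ) + 1, hk⟩ := by
        rw [cycBasis_apply]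
      have h3 : (f' ^ ((k : ℕ) + 1)) v' = b' ⟨(k : ℕ) + 1, hk⟩ := by
        rw [cycBasis_apply]
      rw [h2, h3]
      simp [e]
    · have h2 : (k : ℕ) + 1 = n := by have := k.2; omega
      rw [h2, hfn, hfn']
      simp
  intro x
  have := congrArg (fun g => g x) key
  simpa using this

end Conj

section ConjMat

variable {F : Type*} [Field F] {ι : Type*} [Fintype ι] [DecidableEq ι]

theorem RegNil.exists_conj {s s' : Matrix ι ι F} {n : ℕ} (h : RegNil s n) (h' : RegNil s' n) :
    ∃ g g' : Matrix ι ι F, g * g' = 1 ∧ g' * g = 1 ∧ g * s = s' * g := by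
  obtain ⟨v, hv⟩ := h.exists_vec
  obtain ⟨v', hv'⟩ := h'.exists_vec
  have hfr : Module.finrank F (ι → F) = n := by simp [h.card]
  have hfn : (Matrix.toLinAlgEquiv' s : Module.End F (ι → F)) ^ n = 0 := by
    rw [← map_pow, h.nil, map_zero]
  have hfn' : (Matrix.toLinAlgEquiv' s' : Module.End F (ι → F)) ^ n = 0 := by
    rw [← map_pow, h'.nil, map_zero]
  obtain ⟨e, he⟩ := exists_conj_end _ _ n h.pos hfr hfn hfn' v v' hv hv'
  refine ⟨Matrix.toLinAlgEquiv'.symm (e.toLinearMap : Module.End F (ι → F)),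
    Matrix.toLinAlgEquiv'.symm (e.symm.toLinearMap : Module.End F (ι → F)), ?_, ?_, ?_⟩
  · rw [← map_mul, ← map_one (Matrix.toLinAlgEquiv' (R := F) (n := ι)).symm]
    congr 1
    apply LinearMap.ext
    intro x
    simp [Module.End.mul_apply]
  · rw [← map_mul, ← map_one (Matrix.toLinAlgEquiv' (R := F) (n := ι)).symm]
    congr 1
    apply LinearMap.ext
    intro x
    simp [Module.End.mul_apply]
  · apply (Matrix.toLinAlgEquiv' (R := F) (n := ι)).injective
    rw [map_mul, map_mul, AlgEquiv.apply_symm_apply]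
    apply LinearMap.ext
    intro x
    simp only [Module.End.mul_apply, LinearEquiv.coe_coe]
    exact he x

end ConjMat

end Cfsg.Agent.helper17.RegU
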