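import Mathlib
import Cfsg.Agent.Lib_helper17_RegU6

set_option autoImplicit false

namespace Cfsg.Agent.helper17.RegU

open Polynomial Matrix Module

section RankCyc

variable {F V : Type*} [Field F] [AddCommGroup V] [Module F V] [FiniteDimensional F V]

theorem finrank_range_of_cyclic (f : Module.End F V) (n : ℕ) (hpos : 0 < n)
    (hn : finrank F V = n) (hfn : f ^ n = 0) (v : V) (hv : (f ^ (n - 1)) v ≠ 0) :
    finrank F (LinearMap.range f) = n - 1 := by
  have h1 := LinearMap.finrank_range_add_finrank_ker f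
  rw [hn] at h1
  -- kernel nontrivial
  have hker : 1 ≤ finrank F (LinearMap.ker f) := by
    have hmem : (f ^ (n - 1)) v ∈ LinearMap.ker f := by
      rw [LinearMap.mem_ker, ← Module.End.mul_apply, ← pow_succ']
      have : n - 1 + 1 = n := by omega
      rw [this, hfn, LinearMap.zero_apply]
    have hne : LinearMap.ker f ≠ ⊥ := by
      intro hbot
      rw [hbot, Submodule.mem_bot] at hmem
      exact hv hmem
    exact Nat.one_le_iff_ne_zero.2 (fun h0 => hne (Submodule.finrank_eq_zero.1 h0))
  -- range large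
  have hli := linIndep_iterate f n hfn v hv
  have hli2 : LinearIndependent F (fun k : Fin (n - 1) =>
      (⟨(f ^ ((k : ℕ) + 1)) v, by
        rw [pow_succ', Module.End.mul_apply]; exact LinearMap.mem_range_self _ _⟩ :
        LinearMap.range f)) := by
    apply LinearIndependent.of_comp (LinearMap.range f).subtype
    have hinj : Function.Injective (fun k : Fin (n - 1) => (⟨(k : ℕ) + 1, by omega⟩ : Fin n)) := by
      intro a b hab
      have := congrArg Fin.val hab
      simp only at this
      exact Fin.ext (by omega)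
    exact hli.comp _ hinj
  have h2 := hli2.fintype_card_le_finrank
  rw [Fintype.card_fin] at h2
  omega

end RankCyc

section Shift

variable {F : Type*} [Field F] {ι : Type*} [Fintype ι] [DecidableEq ι]

theorem regNil_of_shift (S : Matrix ι ι F) (n : ℕ) (hpos : 0 < n) (e : Fin n ≃ ι)
    (w : Fin n → F) (hw : ∀ k, w k ≠ 0)
    (hS : ∀ k : Fin n, S *ᵥ (Pi.single (e k) 1) =
      if h : (k : ℕ) + 1 < n then w k • Pi.single (e ⟨(k : ℕ) + 1, h⟩) 1 else 0) :
    RegNil S n := by
  have hcard : Fintype.card ι = n := by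
    rw [← Fintype.card_congr e, Fintype.card_fin]
  have hpow : ∀ j : ℕ, ∀ k : Fin n,
      (∀ h : (k : ℕ) + j < n, ∃ c : F, c ≠ 0 ∧
        (S ^ j) *ᵥ (Pi.single (e k) 1) = c • Pi.single (e ⟨(k : ℕ) + j, h⟩) 1) ∧
      (n ≤ (k : ℕ) + j → (S ^ j) *ᵥ (Pi.single (e k) 1) = 0) := by
    intro j
    induction j with
    | zero =>
      intro k
      refine ⟨fun h => ⟨1, one_ne_zero, by rw [pow_zero, Matrix.one_mulVec, one_smul]; rfl⟩,
        fun h => ?_⟩
      have := k.2
      omega
    | succ j ih =>
      intro k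
      obtain ⟨ih1, ih2⟩ := ih k
      constructor
      · intro h
        obtain ⟨c, hc, hc2⟩ := ih1 (by omega)
        refine ⟨c * w ⟨(k : ℕ) + j, by omega⟩, mul_ne_zero hc (hw _), ?_⟩
        rw [pow_succ', ← Matrix.mulVec_mulVec, hc2, Matrix.mulVec_smul, hS]
        have h3 : ((⟨(k : ℕ) + j, by omega⟩ : Fin n) : ℕ) + 1 < n := by simp only; omega
        rw [dif_pos h3, smul_smul]
        rfl
      · intro h
        rw [pow_succ', ← Matrix.mulVec_mulVec]
        by_cases h4 : (k : ℕ) + j < n
        · obtain ⟨c, hc, hc2⟩ := ih1 h4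
          rw [hc2, Matrix.mulVec_smul, hS]
          have h3 : ¬ ((⟨(k : ℕ) + j, h4⟩ : Fin n) : ℕ) + 1 < n := by simp only; omega
          rw [dif_neg h3, smul_zero]
        · rw [ih2 (by omega), Matrix.mulVec_zero]
  have hnil : S ^ n = 0 := by
    ext a b
    obtain ⟨k, rfl⟩ := e.surjective b
    have := (hpow n k).2 (by omega)
    have h2 := congrFun this a
    rw [Matrix.mulVec_single_one] at h2
    simpa using h2
  obtain ⟨c, hc, hc2⟩ := (hpow (n - 1) ⟨0, hpos⟩).1 (by simp only; omega)
  have hfr : finrank F (ι → F) = n := by simp [hcard]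
  have hfn : (Matrix.toLinAlgEquiv' S : Module.End F (ι → F)) ^ n = 0 := by
    rw [← map_pow, hnil, map_zero]
  have hv : ((Matrix.toLinAlgEquiv' S : Module.End F (ι → F)) ^ (n - 1))
      (Pi.single (e ⟨0, hpos⟩) 1) ≠ 0 := by
    rw [← map_pow, Matrix.toLinAlgEquiv'_apply, hc2]
    intro h0
    have := congrFun h0 (e ⟨(0 : ℕ) + (n - 1), by omega⟩)
    simp at this
    exact hc this
  refine ⟨hcard, hpos, hnil, ?_⟩
  have := finrank_range_of_cyclic _ n hpos hfr hfn _ hv
  rw [← this]
  rfl

end Shift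

end Cfsg.Agent.helper17.RegU
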