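import Mathlib
import Cfsg.Agent.Lib_helper17_RegU7

set_option autoImplicit false

namespace Cfsg.Agent.helper17.RegU

open Polynomial Matrix Module

section Cay

variable {F : Type*} [Field F] {l : Type*} [Fintype l] [DecidableEq l]

/-- from a regular nilpotent element of the symplectic Lie algebra to a regular unipotent. -/
theorem exists_regU_of_sp (h2 : (2 : F) ≠ 0) (S : Matrix (l ⊕ l) (l ⊕ l) F) (n : ℕ)
    (hS : RegNil S n) (hadj : adj S = - S) :
    ∃ u : symplecticGroup l F, ((u : Matrix (l ⊕ l) (l ⊕ l) F) - 1) ^ n = 0 ∧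
      ((u : Matrix (l ⊕ l) (l ⊕ l) F) - 1).rank = n - 1 := by
  have hnilS : IsNilpotent S := ⟨n, hS.nil⟩
  have hU : IsUnit (1 - S) := hnilS.isUnit_one_sub
  obtain ⟨T, hT⟩ := hU
  set Ti : Matrix (l ⊕ l) (l ⊕ l) F := ((T⁻¹ : (Matrix (l ⊕ l) (l ⊕ l) F)ˣ) :
    Matrix (l ⊕ l) (l ⊕ l) F) with hTi
  have h1 : (1 - S) * Ti = 1 := by rw [← hT]; exact T.mul_inv
  have h1' : Ti * (1 - S) = 1 := by rw [← hT]; exact T.inv_mul
  have hcS : Commute S (1 - S) := (Commute.one_right S).sub_right (Commute.refl S)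
  have hcTi : Commute S Ti := by
    show _ = _
    calc S * Ti = (Ti * (1 - S)) * S * Ti := by rw [h1', one_mul]
      _ = Ti * (S * (1 - S)) * Ti := by rw [hcS.eq]; simp only [Matrix.mul_assoc]
      _ = Ti * S * ((1 - S) * Ti) := by simp only [Matrix.mul_assoc]
      _ = Ti * S := by rw [h1, mul_one]
  have hadjT : adj Ti * (1 + S) = 1 := by
    have := congrArg adj h1
    rw [adj_mul, adj_one, map_sub, adj_one, hadj, sub_neg_eq_add] at this
    exact this
  have hmem : (1 + S) * Ti ∈ symplecticGroup l F := by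
    rw [mem_symplectic_iff_adj, adj_mul, map_add, adj_one, hadj, ← sub_eq_add_neg]
    calc adj Ti * (1 - S) * ((1 + S) * Ti) = adj Ti * ((1 - S) * (1 + S)) * Ti := by
          simp only [Matrix.mul_assoc]
      _ = adj Ti * ((1 + S) * (1 - S)) * Ti := by
          congr 2
          noncomm_ring
      _ = (adj Ti * (1 + S)) * ((1 - S) * Ti) := by simp only [Matrix.mul_assoc]
      _ = 1 := by rw [hadjT, h1, mul_one]
  refine ⟨⟨(1 + S) * Ti, hmem⟩, ?_⟩
  have h3 : (1 + S) * Ti - 1 = S * ((2 : F) • Ti) := by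
    calc (1 + S) * Ti - 1 = (1 + S) * Ti - (1 - S) * Ti := by rw [h1]
      _ = S * ((2 : F) • Ti) := by
          rw [← sub_mul, Matrix.mul_smul, two_smul]
          noncomm_ring
  have hc2 : Commute S ((2 : F) • Ti) := hcTi.smul_right _
  have hU2 : IsUnit ((2 : F) • Ti) := by
    have : IsUnit Ti := (T⁻¹).isUnit
    exact this.smul (Units.mk0 (2 : F) h2)
  constructor
  · show ((1 + S) * Ti - 1) ^ n = 0
    rw [h3, hc2.mul_pow, hS.nil, zero_mul]
  · show ((1 + S) * Ti - 1).rank = n - 1
    rw [h3, Matrix.rank_mul_eq_left_of_isUnit_det _ _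
      ((Matrix.isUnit_iff_isUnit_det _).1 hU2), hS.rank]

end Cay

section Explicit

variable (F : Type*) [Field F] (m : ℕ)

/-- upper shift -/
def shiftA : Matrix (Fin m) (Fin m) F := fun i j => if (i : ℕ) + 1 = (j : ℕ) then 1 else 0

/-- corner -/
def cornerB : Matrix (Fin m) (Fin m) F :=
  fun i j => if (i : ℕ) + 1 = m ∧ (j : ℕ) + 1 = m then 1 else 0

/-- a regular nilpotent element of the symplectic Lie algebra -/
def S0 : Matrix (Fin m ⊕ Fin m) (Fin m ⊕ Fin m) F :=
  fromBlocks (shiftA F m) (cornerB F m) 0 (-(shiftA F m)ᵀ)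

theorem cornerB_transpose : (cornerB F m)ᵀ = cornerB F m := by
  ext i j
  simp only [cornerB, transpose_apply]
  congr 1
  exact propext (and_comm)

theorem adj_S0 : adj (S0 F m) = - S0 F m := by
  rw [adj_apply, S0, J]
  simp [fromBlocks_transpose, fromBlocks_multiply, cornerB_transpose, fromBlocks_neg]

/-- the chain enumeration -/
def chainFun (k : Fin (2 * m)) : Fin m ⊕ Fin m :=
  if h : (k : ℕ) < m then Sum.inr ⟨k, h⟩ else Sum.inl ⟨2 * m - 1 - k, by omega⟩

theorem chainFun_of_lt (k : Fin (2 * m)) (h : (k : ℕ) < m) :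
    chainFun m k = Sum.inr ⟨k, h⟩ := dif_pos h

theorem chainFun_of_ge (k : Fin (2 * m)) (h : ¬ (k : ℕ) < m) :
    chainFun m k = Sum.inl ⟨2 * m - 1 - k, by omega⟩ := dif_neg h

def chainE : Fin (2 * m) ≃ Fin m ⊕ Fin m where
  toFun := chainFun m
  invFun := Sum.elim (fun i => ⟨2 * m - 1 - i, by omega⟩) (fun j => ⟨j, by omega⟩)
  left_inv k := by
    by_cases h : (k : ℕ) < m
    · rw [chainFun_of_lt m k h]
      rfl
    · rw [chainFun_of_ge m k h]
      simp only [Sum.elim_inl]
      apply Fin.ext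
      simp only
      have := k.2
      omega
  right_inv a := by
    rcases a with i | j
    · simp only [Sum.elim_inl]
      rw [chainFun_of_ge m _ (by simp only; have := i.2; omega)]
      congr 1
      apply Fin.ext
      simp only
      have := i.2
      omega
    · simp only [Sum.elim_inr]
      rw [chainFun_of_lt m _ (by simp only; exact j.2)]

theorem chainE_apply (k : Fin (2 * m)) : chainE m k = chainFun m k := rfl

/-- the chain weights -/
def chainW (k : Fin (2 * m)) : F := if (k : ℕ) + 1 < m then -1 else 1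

theorem chainW_ne (k : Fin (2 * m)) : chainW F m k ≠ 0 := by
  unfold chainW
  split_ifs <;> simp

theorem S0_shift (k : Fin (2 * m)) :
    S0 F m *ᵥ (Pi.single (chainE m k) 1) =
      if h : (k : ℕ) + 1 < 2 * m then
        chainW F m k • Pi.single (chainE m ⟨(k : ℕ) + 1, h⟩) 1 else 0 := by
  rw [Matrix.mulVec_single_one]
  by_cases hk : (k : ℕ) < m
  · rw [chainE_apply, chainFun_of_lt m k hk]
    have h2m : (k : ℕ) + 1 < 2 * m := by omega
    rw [dif_pos h2m]
    by_cases hk1 : (k : ℕ) + 1 < m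
    · rw [chainE_apply, chainFun_of_lt m ⟨(k : ℕ) + 1, h2m⟩ hk1]
      funext a
      rcases a with i | i
      · simp [S0, chainW, hk1, cornerB, Pi.single_apply]
        omega
      · simp [S0, chainW, hk1, shiftA, Pi.single_apply, Fin.ext_iff]
        by_cases hh : (k : ℕ) + 1 = (i : ℕ)
        · rw [if_pos hh, if_pos hh.symm]
        · rw [if_neg hh, if_neg (fun h => hh h.symm)]; simp
    · have hkm : (k : ℕ) + 1 = m := by omega
      rw [chainE_apply, chainFun_of_ge m ⟨(k : ℕ) + 1, h2m⟩ (by simp only; omega)]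
      funext a
      rcases a with i | i
      · simp [S0, chainW, hk1, cornerB, Pi.single_apply, Fin.ext_iff]
        have hiff : ((i : ℕ) + 1 = m ∧ (k : ℕ) + 1 = m) ↔ ((i : ℕ) = 2 * m - 1 - ((k : ℕ) + 1)) := by
          have := i.2
          omega
        simp only [hiff]
      · simp [S0, chainW, hk1, shiftA, Pi.single_apply, Fin.ext_iff]
        have := i.2
        omega
  · rw [chainE_apply, chainFun_of_ge m k hk]
    by_cases h2m : (k : ℕ) + 1 < 2 * m
    · rw [dif_pos h2m, chainE_apply, chainFun_of_ge m ⟨(k : ℕ) + 1, h2m⟩ (by simp only; omega)]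
      have hk1 : ¬ (k : ℕ) + 1 < m := by omega
      funext a
      rcases a with i | i
      · simp [S0, chainW, hk1, shiftA, Pi.single_apply, Fin.ext_iff]
        have hiff : ((i : ℕ) + 1 = 2 * m - 1 - (k : ℕ)) ↔ ((i : ℕ) = 2 * m - 1 - ((k : ℕ) + 1)) := by
          have := i.2
          omega
        simp only [hiff]
      · simp [S0, chainW, hk1, Pi.single_apply]
    · rw [dif_neg h2m]
      funext a
      rcases a with i | i
      · simp [S0, shiftA]
        have := k.2
        omega
      · simp [S0]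

theorem regNil_S0 (hm : 1 ≤ m) : RegNil (S0 F m) (2 * m) :=
  regNil_of_shift (S0 F m) (2 * m) (by omega) (chainE m) (chainW F m) (chainW_ne F m)
    (S0_shift F m)

theorem exists_regU (h2 : (2 : F) ≠ 0) (hm : 1 ≤ m) :
    ∃ u : symplecticGroup (Fin m) F,
      ((u : Matrix (Fin m ⊕ Fin m) (Fin m ⊕ Fin m) F) - 1) ^ (2 * m) = 0 ∧
      ((u : Matrix (Fin m ⊕ Fin m) (Fin m ⊕ Fin m) F) - 1).rank = 2 * m - 1 :=
  exists_regU_of_sp h2 (S0 F m) (2 * m) (regNil_S0 F m hm) (adj_S0 F m)

end Explicit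

end Cfsg.Agent.helper17.RegU
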