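import Mathlib
import Cfsg.Agent.Lib_helper17_RegU8

set_option autoImplicit false

namespace Cfsg.Agent.helper17.RegU

open Polynomial Matrix Module

section Claims

variable {F : Type*} [Field F] {l : Type*} [Fintype l] [DecidableEq l]

local notation "MM" => Matrix (l ⊕ l) (l ⊕ l) F

theorem commute_adj_mul_self (u u' : symplecticGroup l F) (g : MM)
    (hg : g * (u : MM) = (u' : MM) * g) : Commute (adj g * g) (u : MM) := by
  have h1 : adj (u : MM) * adj g = adj g * adj (u' : MM) := by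
    rw [← adj_mul, ← adj_mul, hg]
  have h2 : adj g * (u' : MM) = (u : MM) * adj g := by
    calc adj g * (u' : MM) = ((u : MM) * adj (u : MM)) * adj g * (u' : MM) := by
          rw [self_mul_adj, one_mul]
      _ = (u : MM) * (adj (u : MM) * adj g) * (u' : MM) := by simp only [Matrix.mul_assoc]
      _ = (u : MM) * (adj g * adj (u' : MM)) * (u' : MM) := by rw [h1]
      _ = (u : MM) * adj g * (adj (u' : MM) * (u' : MM)) := by simp only [Matrix.mul_assoc]
      _ = (u : MM) * adj g := by rw [adj_mul_self, mul_one]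
  show _ = _
  calc adj g * g * (u : MM) = adj g * ((u' : MM) * g) := by rw [Matrix.mul_assoc, hg]
    _ = (adj g * (u' : MM)) * g := by rw [Matrix.mul_assoc]
    _ = (u : MM) * (adj g * g) := by rw [h2, Matrix.mul_assoc]

theorem exists_alpha (u0 u : symplecticGroup l F) {n : ℕ} (hR : RegNil (sOf u0) n)
    (h2 : (2 : F) ≠ 0)
    (g g' : MM) (h1 : g * g' = 1) (h1' : g' * g = 1) (hg : g * (u0 : MM) = (u : MM) * g) :
    ∃ α : Rn F n, hR.emb α = adj g * g ∧ sig F n α = α ∧
      eps F (Nat.pos_iff_ne_zero.1 hR.pos) α ≠ 0 := by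
  have hc := commute_adj_mul_self u0 u g hg
  obtain ⟨α, hα⟩ := hR.exists_emb _ (commute_sOf_of_commute u0 _ hc)
  refine ⟨α, hα, ?_, ?_⟩
  · apply hR.emb_injective
    rw [← adj_emb, hα, adj_mul, adj_adj]
  · intro h0
    have hloc := locInv F (Nat.pos_iff_ne_zero.1 hR.pos) h2
    obtain ⟨N, hN⟩ := hloc.nilp α h0
    have h3 : (adj g * g) ^ N = 0 := by
      rw [← hα, ← map_pow, hN, map_zero]
    have hU : IsUnit (adj g * g) := by
      have hu1 : IsUnit g := ⟨⟨g, g', h1, h1'⟩, rfl⟩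
      have hu2 : IsUnit (adj g) := by
        refine ⟨⟨adj g, adj g', ?_, ?_⟩, rfl⟩
        · rw [← adj_mul, h1', adj_one]
        · rw [← adj_mul, h1, adj_one]
      exact hu2.mul hu1
    haveI : Nontrivial MM := by
      have hpos : 0 < Fintype.card (l ⊕ l) := by rw [hR.card]; exact hR.pos
      haveI : Nonempty (l ⊕ l) := Fintype.card_pos_iff.1 hpos
      infer_instance
    exact hU.not_isNilpotent ⟨N, h3⟩

theorem isConj_of_square (u0 u u1 : symplecticGroup l F) {n : ℕ} (hR : RegNil (sOf u0) n)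
    (h2 : (2 : F) ≠ 0) (p : ℕ) [Fact p.Prime] [CharP F p]
    (g g' : MM) (h1 : g * g' = 1) (h1' : g' * g = 1) (hg : g * (u0 : MM) = (u : MM) * g)
    (g1 g1' : MM) (k1 : g1 * g1' = 1) (k1' : g1' * g1 = 1)
    (hg1 : g1 * (u0 : MM) = (u1 : MM) * g1)
    (α α1 : Rn F n) (hα : hR.emb α = adj g * g) (hα1 : hR.emb α1 = adj g1 * g1)
    (hσ : sig F n α = α) (hσ1 : sig F n α1 = α1)
    (hε1 : eps F (Nat.pos_iff_ne_zero.1 hR.pos) α1 ≠ 0)
    (t : F) (ht : t ≠ 0)
    (hsq : eps F (Nat.pos_iff_ne_zero.1 hR.pos) α =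
      eps F (Nat.pos_iff_ne_zero.1 hR.pos) α1 * t ^ 2) : IsConj u u1 := by
  have hne := Nat.pos_iff_ne_zero.1 hR.pos
  have hloc := locInv F hne h2
  -- inverse of α1
  have hU1 : IsUnit α1 := (hloc.isUnit_iff α1).2 hε1
  obtain ⟨α1i, hi1⟩ := hU1.exists_right_inv
  have hσi : sig F n α1i = α1i := by
    have h3 : α1 * sig F n α1i = 1 := by
      have := congrArg (sig F n) hi1
      rwa [map_mul, hσ1, map_one] at this
    linear_combination α1i * h3 - sig F n α1i * hi1
  have hσβ : (sig F n : Rn F n →+* Rn F n) (α * α1i) = α * α1i := by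
    show sig F n (α * α1i) = α * α1i
    rw [map_mul, hσ, hσi]
  have hεβ : (eps F hne : Rn F n →+* F) (α * α1i) = t ^ 2 := by
    show eps F hne (α * α1i) = t ^ 2
    have h4 : eps F hne α1 * eps F hne α1i = 1 := by rw [← map_mul, hi1, map_one]
    rw [map_mul, hsq]
    linear_combination t ^ 2 * h4
  obtain ⟨c, hc⟩ := hloc.exists_norm (fun c => (sig F n).commutes c) p (α * α1i) hσβ t ht hεβ
  have hc' : sig F n c * α1 * c = α := by
    have hc2 : sig F n c * c = α * α1i := hc
    linear_combination α1 * hc2 + α * hi1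
  -- the conjugating element
  have hg'u : g' * (u : MM) = (u0 : MM) * g' := by
    calc g' * (u : MM) = g' * ((u : MM) * g) * g' := by
          rw [Matrix.mul_assoc, Matrix.mul_assoc, h1, mul_one]
      _ = g' * (g * (u0 : MM)) * g' := by rw [hg]
      _ = (g' * g) * (u0 : MM) * g' := by simp only [Matrix.mul_assoc]
      _ = (u0 : MM) * g' := by rw [h1', one_mul]
  have hcomm0 : hR.emb c * (u0 : MM) = (u0 : MM) * hR.emb c :=
    (commute_of_commute_sOf u0 hR _ (hR.emb_commute_self c)).eq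
  have hmem : g1 * hR.emb c * g' ∈ symplecticGroup l F := by
    rw [mem_symplectic_iff_adj, adj_mul, adj_mul, adj_emb]
    calc adj g' * (hR.emb (sig F n c) * adj g1) * (g1 * hR.emb c * g')
        = adj g' * (hR.emb (sig F n c) * (adj g1 * g1) * hR.emb c) * g' := by
          simp only [Matrix.mul_assoc]
      _ = adj g' * (adj g * g) * g' := by
          rw [← hα1, ← map_mul, ← map_mul, hc', hα]
      _ = (adj g' * adj g) * (g * g') := by simp only [Matrix.mul_assoc]
      _ = 1 := by rw [← adj_mul, h1, adj_one, mul_one]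
  have hcomm : g1 * hR.emb c * g' * (u : MM) = (u1 : MM) * (g1 * hR.emb c * g') := by
    calc g1 * hR.emb c * g' * (u : MM) = g1 * hR.emb c * (g' * (u : MM)) := by
          simp only [Matrix.mul_assoc]
      _ = g1 * (hR.emb c * (u0 : MM)) * g' := by rw [hg'u]; simp only [Matrix.mul_assoc]
      _ = (g1 * (u0 : MM)) * hR.emb c * g' := by rw [hcomm0]; simp only [Matrix.mul_assoc]
      _ = (u1 : MM) * (g1 * hR.emb c * g') := by rw [hg1]; simp only [Matrix.mul_assoc]
  rw [isConj_iff]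
  refine ⟨⟨g1 * hR.emb c * g', hmem⟩, ?_⟩
  rw [mul_inv_eq_iff_eq_mul]
  exact Subtype.ext hcomm

theorem isSquare_of_isConj (u0 u1 : symplecticGroup l F) {n : ℕ} (hR : RegNil (sOf u0) n)
    (g1 g1' : MM) (k1 : g1 * g1' = 1) (k1' : g1' * g1 = 1)
    (hg1 : g1 * (u0 : MM) = (u1 : MM) * g1)
    (α1 : Rn F n) (hα1 : hR.emb α1 = adj g1 * g1)
    (hconj : IsConj u0 u1) :
    IsSquare (eps F (Nat.pos_iff_ne_zero.1 hR.pos) α1) := by
  have hne := Nat.pos_iff_ne_zero.1 hR.pos
  rw [isConj_iff] at hconj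
  obtain ⟨c1, hc1⟩ := hconj
  rw [mul_inv_eq_iff_eq_mul] at hc1
  have hh : (c1 : MM) * (u0 : MM) = (u1 : MM) * (c1 : MM) :=
    congrArg (fun x : symplecticGroup l F => (x : MM)) hc1
  have hg1'u : g1' * (u1 : MM) = (u0 : MM) * g1' := by
    calc g1' * (u1 : MM) = g1' * ((u1 : MM) * g1) * g1' := by
          rw [Matrix.mul_assoc, Matrix.mul_assoc, k1, mul_one]
      _ = g1' * (g1 * (u0 : MM)) * g1' := by rw [hg1]
      _ = (g1' * g1) * (u0 : MM) * g1' := by simp only [Matrix.mul_assoc]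
      _ = (u0 : MM) * g1' := by rw [k1', one_mul]
  have hk : Commute (g1' * (c1 : MM)) (u0 : MM) := by
    show _ = _
    calc g1' * (c1 : MM) * (u0 : MM) = g1' * ((c1 : MM) * (u0 : MM)) := by
          rw [Matrix.mul_assoc]
      _ = (g1' * (u1 : MM)) * (c1 : MM) := by rw [hh, Matrix.mul_assoc]
      _ = (u0 : MM) * (g1' * (c1 : MM)) := by rw [hg1'u, Matrix.mul_assoc]
  obtain ⟨c, hc⟩ := hR.exists_emb _ (commute_sOf_of_commute u0 _ hk)
  have hh2 : (c1 : MM) = g1 * hR.emb c := by
    rw [hc, ← Matrix.mul_assoc, k1, one_mul]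
  have h3 : adj (c1 : MM) * (c1 : MM) = 1 := adj_mul_self c1
  rw [hh2, adj_mul, adj_emb] at h3
  have h4 : hR.emb (sig F n c * α1 * c) = 1 := by
    rw [map_mul, map_mul, hα1]
    rw [← h3]
    simp only [Matrix.mul_assoc]
  have h5 : sig F n c * α1 * c = 1 := by
    apply hR.emb_injective
    rw [h4, map_one]
  have h6 := congrArg (eps F hne) h5
  rw [map_mul, map_mul, map_one] at h6
  have hloc_es : eps F hne (sig F n c) = eps F hne c := by
    have : (eps F hne).comp (sig F n) = eps F hne := by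
      apply AdjoinRoot.algHom_ext
      simp [sig_root, eps_root]
    exact congrArg (fun f => f c) this
  rw [hloc_es] at h6
  have hne0 : eps F hne c ≠ 0 := by
    intro h0
    rw [h0] at h6
    simp at h6
  refine ⟨(eps F hne c)⁻¹, ?_⟩
  field_simp
  linear_combination h6

end Claims

end Cfsg.Agent.helper17.RegU
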