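import Mathlib
import Cfsg.Agent.Lib_helper17_RegU9

set_option autoImplicit false

namespace Cfsg.Agent.helper17.RegU

open Polynomial Matrix Module

section Simil

variable {F : Type*} [Field F] {l : Type*} [Fintype l] [DecidableEq l]

local notation "MM" => Matrix (l ⊕ l) (l ⊕ l) F

/-- the diagonal similitude -/
def dLam (a : F) : MM := fromBlocks (a • (1 : Matrix l l F)) 0 0 1

theorem dLam_mul (a b : F) : (dLam a : MM) * dLam b = dLam (a * b) := by
  unfold dLam
  rw [fromBlocks_multiply]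
  congr 1 <;> simp [smul_smul, mul_comm]

theorem dLam_one : (dLam 1 : MM) = 1 := by
  simp [dLam]

theorem adj_dLam_mul (a : F) : adj (dLam a : MM) * dLam a = a • (1 : MM) := by
  rw [adj_apply, J, dLam]
  simp only [fromBlocks_transpose, fromBlocks_multiply, fromBlocks_neg]
  rw [← fromBlocks_one, fromBlocks_smul]
  congr 1 <;> simp

theorem conj_mem (u0 : symplecticGroup l F) (a : F) (ha : a ≠ 0) :
    (dLam a : MM) * (u0 : MM) * dLam a⁻¹ ∈ symplecticGroup l F := by
  rw [mem_symplectic_iff_adj, adj_mul, adj_mul]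
  calc adj (dLam a⁻¹ : MM) * (adj (u0 : MM) * adj (dLam a)) * (dLam a * (u0 : MM) * dLam a⁻¹)
      = adj (dLam a⁻¹ : MM) * (adj (u0 : MM) * (adj (dLam a) * dLam a) * (u0 : MM)) *
          dLam a⁻¹ := by simp only [Matrix.mul_assoc]
    _ = a • (adj (dLam a⁻¹ : MM) * (adj (u0 : MM) * (u0 : MM)) * dLam a⁻¹) := by
        rw [adj_dLam_mul]
        simp
    _ = a • (adj (dLam a⁻¹ : MM) * dLam a⁻¹) := by rw [adj_mul_self, mul_one]
    _ = 1 := by rw [adj_dLam_mul, smul_smul, mul_inv_cancel₀ ha, one_smul]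

theorem conj_reg (N : MM) (a : F) (ha : a ≠ 0) (n : ℕ) (hnil : N ^ n = 0) (hrk : N.rank = n - 1) :
    ((dLam a : MM) * N * dLam a⁻¹) ^ n = 0 ∧ ((dLam a : MM) * N * dLam a⁻¹).rank = n - 1 := by
  have h1 : (dLam a : MM) * dLam a⁻¹ = 1 := by rw [dLam_mul, mul_inv_cancel₀ ha, dLam_one]
  have h1' : (dLam a⁻¹ : MM) * dLam a = 1 := by rw [dLam_mul, inv_mul_cancel₀ ha, dLam_one]
  let D : MMˣ := ⟨dLam a, dLam a⁻¹, h1, h1'⟩
  constructor
  · have h3 : ((D : MM) * N * ((D⁻¹ : MMˣ) : MM)) ^ n = (D : MM) * N ^ n * ((D⁻¹ : MMˣ) : MM) := by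
      have hconj : ∀ i : ℕ, ((D : MM) * N * ((D⁻¹ : MMˣ) : MM)) ^ i =
          (D : MM) * N ^ i * ((D⁻¹ : MMˣ) : MM) := by
        intro i
        induction i with
        | zero => rw [pow_zero, pow_zero, mul_one, Units.mul_inv]
        | succ i ih =>
          rw [pow_succ, ih, pow_succ]
          calc (D : MM) * N ^ i * ((D⁻¹ : MMˣ) : MM) * ((D : MM) * N * ((D⁻¹ : MMˣ) : MM))
              = (D : MM) * N ^ i * ((((D⁻¹ : MMˣ) : MM)) * (D : MM)) * N * ((D⁻¹ : MMˣ) : MM) := by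
                simp only [Matrix.mul_assoc]
            _ = (D : MM) * (N ^ i * N) * ((D⁻¹ : MMˣ) : MM) := by
                rw [Units.inv_mul, mul_one]; simp only [Matrix.mul_assoc]
      exact hconj n
    rw [hnil, mul_zero, zero_mul] at h3
    exact h3
  · have hU : IsUnit (dLam a : MM) := D.isUnit
    have hU' : IsUnit (dLam a⁻¹ : MM) := (D⁻¹).isUnit
    rw [Matrix.rank_mul_eq_left_of_isUnit_det _ _ ((Matrix.isUnit_iff_isUnit_det _).1 hU'),
      Matrix.rank_mul_eq_right_of_isUnit_det _ _ ((Matrix.isUnit_iff_isUnit_det _).1 hU), hrk]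

end Simil

end Cfsg.Agent.helper17.RegU
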