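import Mathlib

set_option autoImplicit false
open Matrix

namespace Cfsg.Agent.helper17.S2531x

variable {F : Type*} [Field F] [Finite F] {n : ℕ}

/-- the additive hom `v ↦ w ⬝ᵥ v` -/
def dotHom (w : Fin n → F) : (Fin n → F) →+ F where
  toFun v := w ⬝ᵥ v
  map_zero' := dotProduct_zero w
  map_add' := dotProduct_add w

theorem dotHom_surjective (w : Fin n → F) (hw : w ≠ 0) : Function.Surjective (dotHom w) := by
  classical
  obtain ⟨j, hj⟩ : ∃ j, w j ≠ 0 := by
    by_contra h
    apply hw
    funext j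
    by_contra hj
    exact h ⟨j, hj⟩
  intro c
  refine ⟨Pi.single j (c / w j), ?_⟩
  show w ⬝ᵥ Pi.single j (c / w j) = c
  rw [dotProduct_single]
  field_simp

/-- PIECE V1 -/
theorem card_dot_zero (w : Fin n → F) (hw : w ≠ 0) :
    Set.ncard {v : Fin n → F | w ⬝ᵥ v = 0} * Nat.card F = Nat.card F ^ n := by
  classical
  have h1 : Set.ncard {v : Fin n → F | w ⬝ᵥ v = 0} = Nat.card (dotHom w).ker := by
    rw [← Nat.card_coe_set_eq]
    rfl
  have h2 : (dotHom w).ker.index = Nat.card F := by
    rw [AddSubgroup.index_ker]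
    have : (dotHom w).range = ⊤ := AddMonoidHom.range_eq_top.mpr (dotHom_surjective w hw)
    rw [this]
    exact Nat.card_congr (AddSubgroup.topEquiv (G := F)).toEquiv
  have h3 := (dotHom w).ker.card_mul_index
  rw [Nat.card_fun, Nat.card_fin] at h3
  rw [h1, ← h3, h2]

end Cfsg.Agent.helper17.S2531x
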