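import Mathlib

set_option autoImplicit false
open Polynomial UniqueFactorizationMonoid

namespace Cfsg.Agent.helper17.S2645x

variable {F : Type*} [Field F]

theorem X_sub_one_eq : (X - 1 : F[X]) = X - C 1 := by rw [map_one]

theorem monic_X_sub_one : (X - 1 : F[X]).Monic := by
  rw [X_sub_one_eq]; exact monic_X_sub_C 1

theorem irreducible_X_sub_one : Irreducible (X - 1 : F[X]) := by
  rw [X_sub_one_eq]; exact irreducible_X_sub_C 1

theorem natDegree_X_sub_one : (X - 1 : F[X]).natDegree = 1 := by
  rw [X_sub_one_eq]; exact natDegree_X_sub_C 1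

theorem monic_prod (S : Finset F[X]) (hS : ∀ g ∈ S, g.Monic) (M : Multiset F[X])
    (hM : ∀ g ∈ M, g ∈ S) : M.prod.Monic := by
  have := monic_multiset_prod_of_monic M id (fun g hg => hS g (hM g hg))
  simpa using this

theorem natDegree_prod (S : Finset F[X]) (i : ℕ) (hS : ∀ g ∈ S, g.Monic ∧ g.natDegree = i)
    (M : Multiset F[X]) (hM : ∀ g ∈ M, g ∈ S) : M.prod.natDegree = i * Multiset.card M := by
  have h1 := natDegree_multiset_prod_of_monic M (fun g hg => (hS g (hM g hg)).1)
  rw [h1]
  have h2 : M.map natDegree = M.map (fun _ => i) :=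
    Multiset.map_congr rfl (fun g hg => (hS g (hM g hg)).2)
  rw [h2, Multiset.map_const', Multiset.sum_replicate, smul_eq_mul, mul_comm]

theorem monic_fM (S : Finset F[X]) (hS : ∀ g ∈ S, g.Monic) (k : ℕ) (M : Multiset F[X])
    (hM : ∀ g ∈ M, g ∈ S) : ((X - 1 : F[X]) ^ k * M.prod).Monic :=
  (monic_X_sub_one.pow k).mul (monic_prod S hS M hM)

theorem natDegree_fM (S : Finset F[X]) (i : ℕ) (hS : ∀ g ∈ S, g.Monic ∧ g.natDegree = i)
    (k : ℕ) (M : Multiset F[X]) (hM : ∀ g ∈ M, g ∈ S) :
    ((X - 1 : F[X]) ^ k * M.prod).natDegree = k + i * Multiset.card M := by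
  rw [(monic_X_sub_one.pow k).natDegree_mul (monic_prod S (fun g hg => (hS g hg).1) M hM),
    monic_X_sub_one.natDegree_pow, natDegree_X_sub_one, mul_one,
    natDegree_prod S i hS M hM]

theorem nf_fM [DecidableEq F] (S : Finset F[X]) (hS : ∀ g ∈ S, g.Monic ∧ Irreducible g) (k : ℕ)
    (M : Multiset F[X]) (hM : ∀ g ∈ M, g ∈ S) :
    normalizedFactors ((X - 1 : F[X]) ^ k * M.prod) = k • {(X - 1 : F[X])} + M := by
  have hMmonic : M.prod.Monic := monic_prod S (fun g hg => (hS g hg).1) M hM
  rw [normalizedFactors_mul (pow_ne_zero _ monic_X_sub_one.ne_zero) hMmonic.ne_zero,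
    normalizedFactors_pow, normalizedFactors_irreducible irreducible_X_sub_one,
    monic_X_sub_one.normalize_eq_self,
    normalizedFactors_prod_eq M (fun g hg => (hS g (hM g hg)).2)]
  congr 1
  conv_rhs => rw [← Multiset.map_id M]
  exact Multiset.map_congr rfl (fun g hg => (hS g (hM g hg)).1.normalize_eq_self)

theorem eq_of_monic_irreducible_dvd {p q : F[X]} (hp : p.Monic) (hq : q.Monic)
    (hpi : Irreducible p) (hqi : Irreducible q) (h : p ∣ q) : p = q :=
  eq_of_monic_of_associated hp hq (hpi.associated_of_dvd hqi h)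

/-- PIECE C1 -/
theorem pieceC1 {F : Type*} [Field F] (r m i : ℕ) (hi : 0 < i)
    (S : Finset F[X]) (hS : ∀ g ∈ S, g.Monic ∧ Irreducible g ∧ g.natDegree = i)
    (hX : (X - 1 : F[X]) ∉ S) (hprod : (X ^ r - 1 : F[X]) = (X - 1) * ∏ g ∈ S, g) :
    (∀ M : Multiset F[X], (∀ g ∈ M, g ∈ S) → i * Multiset.card M ≤ m + m →
      ((X - 1) ^ (m + m - i * Multiset.card M) * M.prod : F[X]).Monic ∧
      ((X - 1) ^ (m + m - i * Multiset.card M) * M.prod : F[X]).natDegree = m + m ∧
      ((X - 1) ^ (m + m - i * Multiset.card M) * M.prod : F[X]) ∣ (X ^ r - 1) ^ (m + m)) ∧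
    (∀ M M' : Multiset F[X], (∀ g ∈ M, g ∈ S) → (∀ g ∈ M', g ∈ S) →
      i * Multiset.card M ≤ m + m → i * Multiset.card M' ≤ m + m →
      ((X - 1) ^ (m + m - i * Multiset.card M) * M.prod : F[X]) =
        (X - 1) ^ (m + m - i * Multiset.card M') * M'.prod → M = M') ∧
    (∀ f : F[X], f.Monic → f.natDegree = m + m → f ∣ (X ^ r - 1) ^ (m + m) →
      ∃ M : Multiset F[X], (∀ g ∈ M, g ∈ S) ∧ i * Multiset.card M ≤ m + m ∧
        f = (X - 1) ^ (m + m - i * Multiset.card M) * M.prod) := by
  classical
  have hS1 : ∀ g ∈ S, g.Monic := fun g hg => (hS g hg).1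
  have hS2 : ∀ g ∈ S, g.Monic ∧ g.natDegree = i := fun g hg => ⟨(hS g hg).1, (hS g hg).2.2⟩
  have hS3 : ∀ g ∈ S, g.Monic ∧ Irreducible g := fun g hg => ⟨(hS g hg).1, (hS g hg).2.1⟩
  refine ⟨?_, ?_, ?_⟩
  · intro M hM hle
    refine ⟨monic_fM S hS1 _ M hM, ?_, ?_⟩
    · rw [natDegree_fM S i hS2 _ M hM]
      omega
    · rw [hprod, mul_pow]
      apply mul_dvd_mul
      · exact pow_dvd_pow _ (Nat.sub_le _ _)
      · have h1 : (∏ g ∈ S, g) = S.val.prod := by
          rw [Finset.prod_eq_multiset_prod, Multiset.map_id']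
        rw [h1, ← Multiset.prod_nsmul]
        apply Multiset.prod_dvd_prod_of_le
        rw [Multiset.le_iff_count]
        intro g
        rw [Multiset.count_nsmul]
        by_cases hg : g ∈ M
        · have hgS : g ∈ S := hM g hg
          have h2 : Multiset.count g S.val = 1 :=
            Multiset.count_eq_one_of_mem S.nodup hgS
          rw [h2, mul_one]
          have h3 : Multiset.count g M ≤ Multiset.card M := Multiset.count_le_card g M
          have h4 : Multiset.card M ≤ i * Multiset.card M := Nat.le_mul_of_pos_left _ hi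
          omega
        · rw [Multiset.count_eq_zero_of_notMem hg]
          exact Nat.zero_le _
  · intro M M' hM hM' _ _ heq
    have h1 := nf_fM S hS3 (m + m - i * Multiset.card M) M hM
    have h2 := nf_fM S hS3 (m + m - i * Multiset.card M') M' hM'
    rw [heq, h2] at h1
    ext g
    have h3 := congrArg (Multiset.count g) h1
    rw [Multiset.count_add, Multiset.count_add, Multiset.count_nsmul, Multiset.count_nsmul,
      Multiset.count_singleton] at h3
    by_cases hg : g = X - 1
    · subst hg
      have a1 : Multiset.count (X - 1 : F[X]) M = 0 :=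
        Multiset.count_eq_zero_of_notMem (fun h => hX (hM _ h))
      have a2 : Multiset.count (X - 1 : F[X]) M' = 0 :=
        Multiset.count_eq_zero_of_notMem (fun h => hX (hM' _ h))
      rw [a1, a2]
    · rw [if_neg hg] at h3
      simp only [mul_zero, zero_add] at h3
      exact h3.symm
  · intro f hf hdeg hdvd
    have hf0 : f ≠ 0 := hf.ne_zero
    set NF := normalizedFactors f with hNF
    have hmem : ∀ p ∈ NF, p = X - 1 ∨ p ∈ S := by
      intro p hp
      have hpp : Prime p := prime_of_normalized_factor p hp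
      have hpn : normalize p = p := normalize_normalized_factor p hp
      have hpm : p.Monic := by
        rw [← hpn]; exact monic_normalize hpp.ne_zero
      have hpf : p ∣ f := dvd_of_mem_normalizedFactors hp
      have h1 : p ∣ X ^ r - 1 := hpp.dvd_of_dvd_pow (hpf.trans hdvd)
      rw [hprod] at h1
      rcases hpp.dvd_or_dvd h1 with h2 | h2
      · left
        exact eq_of_monic_irreducible_dvd hpm monic_X_sub_one hpp.irreducible
          irreducible_X_sub_one h2
      · right
        obtain ⟨g, hg, hpg⟩ := (Prime.dvd_finsetProd_iff hpp _).mp h2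
        have : p = g := eq_of_monic_irreducible_dvd hpm (hS g hg).1 hpp.irreducible
          (hS g hg).2.1 hpg
        rw [this]; exact hg
    set M := NF.filter (fun p => p ≠ X - 1) with hMdef
    set k := Multiset.count (X - 1 : F[X]) NF with hk
    have hMS : ∀ g ∈ M, g ∈ S := by
      intro g hg
      rw [hMdef, Multiset.mem_filter] at hg
      rcases hmem g hg.1 with h | h
      · exact absurd h hg.2
      · exact h
    have hsplit : NF = Multiset.replicate k (X - 1 : F[X]) + M := by
      have h1 := Multiset.filter_add_not (fun p => p = (X - 1 : F[X])) NF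
      rw [Multiset.filter_eq' NF (X - 1 : F[X])] at h1
      rw [hMdef, hk]
      exact h1.symm
    have hfprod : f = (X - 1 : F[X]) ^ k * M.prod := by
      have h1 : Associated NF.prod f := prod_normalizedFactors hf0
      have h2 : NF.prod = (X - 1 : F[X]) ^ k * M.prod := by
        rw [hsplit, Multiset.prod_add, Multiset.prod_replicate]
      have h3 : ((X - 1 : F[X]) ^ k * M.prod).Monic := monic_fM S hS1 k M hMS
      rw [h2] at h1
      exact (eq_of_monic_of_associated h3 hf h1).symm
    have hdeg2 : m + m = k + i * Multiset.card M := by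
      rw [← hdeg, hfprod, natDegree_fM S i hS2 k M hMS]
    refine ⟨M, hMS, by omega, ?_⟩
    have hk2 : m + m - i * Multiset.card M = k := by omega
    rw [hk2]
    exact hfprod

end Cfsg.Agent.helper17.S2645x
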