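import Mathlib

set_option autoImplicit false
open Polynomial

namespace Cfsg.Agent.helper17.S2670x

/-- PIECE S4: `c` not an `r`-th power -/
theorem pieceS4 {F : Type*} [Field F] (n r : ℕ) (hr : r.Prime) (c : F) (hc : ∀ b : F, b ^ r ≠ c)
    (f : F[X]) (hf : f.Monic) (hd : f.natDegree = n) (h : f ∣ (X ^ r - C c) ^ n) :
    r ∣ n ∧ f = (X ^ r - C c) ^ (n / r) := by
  have hirr : Irreducible (X ^ r - C c : F[X]) := X_pow_sub_C_irreducible_of_prime hr hc
  have hmon : (X ^ r - C c : F[X]).Monic := monic_X_pow_sub_C c hr.ne_zero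
  have hprime : Prime (X ^ r - C c : F[X]) := hirr.prime
  obtain ⟨k, _, hk⟩ := (dvd_prime_pow hprime n).mp h
  have hfk : f = (X ^ r - C c) ^ k := eq_of_monic_of_associated hf (hmon.pow k) hk
  have hdeg : n = k * r := by
    rw [← hd, hfk, hmon.natDegree_pow, natDegree_X_pow_sub_C]
  have hdiv : n / r = k := by
    rw [hdeg]; exact Nat.mul_div_cancel k hr.pos
  refine ⟨⟨k, by rw [hdeg, mul_comm]⟩, ?_⟩
  rw [hdiv]; exact hfk

end Cfsg.Agent.helper17.S2670x
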