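import Mathlib

set_option autoImplicit false
open Polynomial

namespace Cfsg.Agent.helper17.S2672x

section
variable {K : Type*} [Field K] [Fintype K]

theorem exists_prim (d : ℕ) (hd : d ∣ Fintype.card K - 1) : ∃ ζ : K, IsPrimitiveRoot ζ d := by
  classical
  obtain ⟨g, hg⟩ := IsCyclic.exists_generator (α := Kˣ)
  have hord : orderOf g = Fintype.card K - 1 := by
    rw [orderOf_eq_card_of_forall_mem_zpowers hg, Nat.card_eq_fintype_card, Fintype.card_units]
  have hprim : IsPrimitiveRoot g (Fintype.card K - 1) := hord ▸ IsPrimitiveRoot.orderOf g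
  have hpos : 0 < Fintype.card K - 1 := by
    have := Fintype.one_lt_card (α := K)
    omega
  obtain ⟨e, he⟩ := hd
  have h2 : IsPrimitiveRoot (g ^ e) d := hprim.pow hpos (by rw [he, mul_comm])
  exact ⟨((g ^ e : Kˣ) : K), IsPrimitiveRoot.coe_units_iff.mpr h2⟩

theorem card_roots (d : ℕ) (hd0 : 0 < d) (hd : d ∣ Fintype.card K - 1) :
    Nat.card {c : K // c ^ d = 1} = d := by
  classical
  obtain ⟨ζ, hζ⟩ := exists_prim (K := K) d hd
  have h1 : Nat.card {c : K // c ^ d = 1} = Nat.card {c : K // c ∈ nthRootsFinset d (1 : K)} :=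
    Nat.card_congr (Equiv.subtypeEquivRight (fun c => (mem_nthRootsFinset hd0 1).symm))
  rw [h1, Nat.card_eq_fintype_card, Fintype.card_coe, hζ.card_nthRootsFinset]

end

/-- PIECE P4a3: `r`-th powers among the norm-one elements (`r` odd prime, `r ∣ q + 1`). -/
theorem pieceP4a3 {K : Type*} [Field K] [Fintype K] {q r : ℕ} (hK : Fintype.card K = q ^ 2)
    (hr : r.Prime) (hr2 : r ≠ 2) (hrq : r ∣ q + 1) :
    (∀ c : K, c ^ (q + 1) = 1 → (∃ b : K, b ^ r = c) → ∃ b : K, b ^ (q + 1) = 1 ∧ b ^ r = c) ∧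
    Nat.card {c : K // c ^ (q + 1) = 1} = q + 1 ∧
    Nat.card {c : K // c ^ (q + 1) = 1 ∧ ∃ b : K, b ^ r = c} * r = q + 1 ∧
    (∀ μ : K, μ ^ r = 1 → μ ^ (q + 1) = 1) ∧
    Nat.card {μ : K // μ ^ r = 1 ∧ μ ≠ 1} = r - 1 ∧
    r ∣ Fintype.card K - 1 ∧ (r : K) ≠ 0 := by
  classical
  have hq1 : 1 ≤ q := by
    by_contra h
    have : q = 0 := by omega
    rw [this] at hK
    have := Fintype.one_lt_card (α := K)
    rw [hK] at this
    norm_num at this
  have hq2 : 2 ≤ q := by
    by_contra h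
    have : q = 1 := by omega
    rw [this] at hK
    have := Fintype.one_lt_card (α := K)
    rw [hK] at this
    norm_num at this
  have hcardm : Fintype.card K - 1 = (q - 1) * (q + 1) := by
    rw [hK]
    obtain ⟨k, rfl⟩ : ∃ k, q = k + 1 := ⟨q - 1, by omega⟩
    simp only [Nat.add_sub_cancel]
    have : (k + 1) ^ 2 = k * (k + 1 + 1) + 1 := by ring
    rw [this, Nat.add_sub_cancel]
  have hq1dvd : (q + 1) ∣ Fintype.card K - 1 := ⟨q - 1, by rw [hcardm, mul_comm]⟩
  have hrdvd : r ∣ Fintype.card K - 1 := hrq.trans hq1dvd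
  -- gcd(r, q - 1) = 1
  have hcop : Nat.Coprime r (q - 1) := by
    rw [Nat.Prime.coprime_iff_not_dvd hr]
    intro h
    have h2 : r ∣ (q + 1) - (q - 1) := Nat.dvd_sub hrq h
    have h3 : (q + 1) - (q - 1) = 2 := by omega
    rw [h3] at h2
    have := (Nat.prime_dvd_prime_iff_eq hr Nat.prime_two).mp h2
    exact hr2 this
  have hpowcard : ∀ b : K, b ≠ 0 → b ^ ((q - 1) * (q + 1)) = 1 := by
    intro b hb
    rw [← hcardm]
    exact FiniteField.pow_card_sub_one_eq_one b hb
  -- (1)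
  have h1 : ∀ c : K, c ^ (q + 1) = 1 → (∃ b : K, b ^ r = c) →
      ∃ b : K, b ^ (q + 1) = 1 ∧ b ^ r = c := by
    intro c hc hb
    obtain ⟨b, hb⟩ := hb
    have hb0 : b ≠ 0 := by
      intro h
      rw [h, zero_pow hr.ne_zero] at hb
      rw [← hb, zero_pow (by omega)] at hc
      exact zero_ne_one hc
    refine ⟨b, ?_, hb⟩
    have e1 : (b ^ (q + 1)) ^ r = 1 := by
      rw [← pow_mul, mul_comm, pow_mul, hb, hc]
    have e2 : (b ^ (q + 1)) ^ (q - 1) = 1 := by
      rw [← pow_mul, mul_comm]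
      exact hpowcard b hb0
    have e3 := (pow_gcd_eq_one (a := b ^ (q + 1)) (m := r) (n := q - 1)).mpr ⟨e1, e2⟩
    rw [Nat.Coprime.gcd_eq_one hcop, pow_one] at e3
    exact e3
  -- (4)
  have h4 : ∀ μ : K, μ ^ r = 1 → μ ^ (q + 1) = 1 := by
    intro μ hμ
    obtain ⟨e, he⟩ := hrq
    rw [he, pow_mul, hμ, one_pow]
  have h2 : Nat.card {c : K // c ^ (q + 1) = 1} = q + 1 :=
    card_roots (q + 1) (by omega) hq1dvd
  have hRcard : Nat.card {μ : K // μ ^ r = 1} = r := card_roots r hr.pos hrdvd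
  -- (5)
  have h5 : Nat.card {μ : K // μ ^ r = 1 ∧ μ ≠ 1} = r - 1 := by
    have e : {μ : K // μ ^ r = 1 ∧ μ ≠ 1} ≃
        {x : {μ : K // μ ^ r = 1} // x ≠ ⟨1, one_pow r⟩} :=
      { toFun := fun x => ⟨⟨x.1, x.2.1⟩, fun h => x.2.2 (congrArg Subtype.val h)⟩
        invFun := fun x => ⟨x.1.1, x.1.2, fun h => x.2 (Subtype.ext h)⟩
        left_inv := fun x => rfl
        right_inv := fun x => rfl }
    rw [Nat.card_congr e]
    haveI : Fintype {μ : K // μ ^ r = 1} := Fintype.ofFinite _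
    rw [Nat.card_eq_fintype_card, Fintype.card_subtype_compl, Fintype.card_subtype_eq,
      ← Nat.card_eq_fintype_card, hRcard]
  -- (7)
  have h7 : (r : K) ≠ 0 := by
    intro h
    obtain ⟨p, hp⟩ := CharP.exists K
    haveI := hp
    haveI : Fact p.Prime := ⟨CharP.char_is_prime K p⟩
    have hpr : p ∣ r := (CharP.cast_eq_zero_iff K p r).mp h
    have hpeq : p = r := (Nat.prime_dvd_prime_iff_eq (CharP.char_is_prime K p) hr).mp hpr
    have hpcard : p ∣ Fintype.card K := by
      have := FiniteField.card K p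
      obtain ⟨n, _, hn⟩ := this
      rw [hn]
      exact dvd_pow_self p (PNat.ne_zero n)
    rw [hK, hpeq] at hpcard
    have hrq' : r ∣ q := hr.dvd_of_dvd_pow hpcard
    have : r ∣ (q + 1) - q := Nat.dvd_sub hrq hrq'
    rw [Nat.add_sub_cancel_left] at this
    exact hr.one_lt.ne' (Nat.dvd_one.mp this)
  -- (3)
  have h3 : Nat.card {c : K // c ^ (q + 1) = 1 ∧ ∃ b : K, b ^ r = c} * r = q + 1 := by
    haveI : Fintype {c : K // c ^ (q + 1) = 1} := Fintype.ofFinite _
    haveI : Fintype {μ : K // μ ^ r = 1} := Fintype.ofFinite _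
    set U : Finset K := Finset.univ.filter (fun c : K => c ^ (q + 1) = 1) with hU
    set I : Finset K := Finset.univ.filter (fun c : K => c ^ (q + 1) = 1 ∧ ∃ b : K, b ^ r = c)
      with hI
    set R : Finset K := Finset.univ.filter (fun c : K => c ^ r = 1) with hR
    have hUc : U.card = q + 1 := by
      rw [← h2, hU, Nat.card_eq_fintype_card, Fintype.card_subtype]
    have hRc : R.card = r := by
      rw [← hRcard, hR, Nat.card_eq_fintype_card, Fintype.card_subtype]
    have hIc : Nat.card {c : K // c ^ (q + 1) = 1 ∧ ∃ b : K, b ^ r = c} = I.card := by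
      rw [hI, Nat.card_eq_fintype_card, Fintype.card_subtype]
    have hmaps : ∀ b ∈ U, b ^ r ∈ I := by
      intro b hb
      rw [hU, Finset.mem_filter] at hb
      rw [hI, Finset.mem_filter]
      refine ⟨Finset.mem_univ _, ?_, b, rfl⟩
      rw [← pow_mul, mul_comm, pow_mul, hb.2, one_pow]
    have hfib : ∀ c ∈ I, (U.filter (fun b => b ^ r = c)).card = r := by
      intro c hc
      rw [hI, Finset.mem_filter] at hc
      obtain ⟨b₀, hb₀U, hb₀⟩ := h1 c hc.2.1 hc.2.2
      have hb₀0 : b₀ ≠ 0 := by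
        intro h
        rw [h, zero_pow (by omega)] at hb₀U
        exact zero_ne_one hb₀U
      refine Eq.trans (Eq.symm ?_) hRc
      apply Finset.card_bij (fun μ _ => b₀ * μ)
      · intro μ hμ
        rw [hR, Finset.mem_filter] at hμ
        rw [Finset.mem_filter, hU, Finset.mem_filter]
        refine ⟨⟨Finset.mem_univ _, ?_⟩, ?_⟩
        · rw [mul_pow, hb₀U, h4 μ hμ.2, one_mul]
        · rw [mul_pow, hb₀, hμ.2, mul_one]
      · intro μ _ ν _ h
        exact mul_left_cancel₀ hb₀0 h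
      · intro b hb
        rw [Finset.mem_filter, hU, Finset.mem_filter] at hb
        refine ⟨b₀⁻¹ * b, ?_, ?_⟩
        · rw [hR, Finset.mem_filter]
          refine ⟨Finset.mem_univ _, ?_⟩
          rw [mul_pow, inv_pow, hb.2, hb₀, inv_mul_cancel₀]
          rw [← hb₀]
          exact pow_ne_zero _ hb₀0
        · rw [← mul_assoc, mul_inv_cancel₀ hb₀0, one_mul]
    have hsum := Finset.card_eq_sum_card_fiberwise (f := fun b : K => b ^ r) (s := U) (t := I) hmaps
    rw [Finset.sum_congr rfl hfib, Finset.sum_const, smul_eq_mul, hUc] at hsum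
    rw [hIc]
    exact hsum.symm
  exact ⟨h1, h2, h3, h4, h5, hrdvd, h7⟩

end Cfsg.Agent.helper17.S2672x
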