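import Mathlib

universe u

namespace Cfsg.Agent.helper6.S4885x

open scoped commutatorElement

theorem pieceQ {G : Type u} [Group G] [Finite G] (p : ℕ) [Fact p.Prime] (V L : Subgroup G)
    [V.Normal] [L.Normal] (hV : (Nat.card V).Coprime p) (hVL : V ≤ L)
    (hLP : ∀ P : Sylow p G, L ⊓ (P : Subgroup G) ≤ ⁅(P : Subgroup G), (P : Subgroup G)⁆)
    (Pb : Sylow p (G ⧸ V)) :
    L.map (QuotientGroup.mk' V) ⊓ (Pb : Subgroup (G ⧸ V)) ≤
      ⁅(Pb : Subgroup (G ⧸ V)), (Pb : Subgroup (G ⧸ V))⁆ := by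
  obtain ⟨P, hP⟩ := Sylow.mapSurjective_surjective (QuotientGroup.mk'_surjective V) p Pb
  have hPb : (Pb : Subgroup (G ⧸ V)) = (P : Subgroup G).map (QuotientGroup.mk' V) := by
    rw [← hP]; rfl
  rw [hPb, ← Subgroup.map_commutator]
  rintro y ⟨⟨l, hl, rfl⟩, ⟨x, hx, hxl⟩⟩
  have hlx : l⁻¹ * x ∈ V := by
    have h1 : (QuotientGroup.mk' V) l = (QuotientGroup.mk' V) x := hxl.symm
    have h2 : (l : G ⧸ V) = (x : G ⧸ V) := h1
    exact QuotientGroup.eq.mp h2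
  have hxL : x ∈ L := by
    have : x = l * (l⁻¹ * x) := by group
    rw [this]
    exact L.mul_mem hl (hVL hlx)
  have hxc : x ∈ ⁅(P : Subgroup G), (P : Subgroup G)⁆ := hLP P ⟨hxL, hx⟩
  exact ⟨x, hxc, hxl⟩

end Cfsg.Agent.helper6.S4885x
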