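import Mathlib
import Cfsg.Prelude.Def_Local
import Cfsg.Agent.Lib_helper6_S4885x
import Cfsg.Agent.Lib_helper17_LemmaA
import Cfsg.Agent.Lib_helper9_Cores
import Cfsg.Agent.Lib_helper23_PSolv
import Cfsg.Agent.Lib_helper1_Core

set_option autoImplicit false
open Cfsg
open scoped commutatorElement

namespace Cfsg.Agent.helper17.S4885r

open Cfsg.Agent.helper6.S4885x

universe u

section
variable {G : Type u} [Group G] [Finite G] (p : ℕ) [hp : Fact p.Prime]

theorem quot_hO :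
    ∀ Q : Subgroup (G ⧸ Cfsg.pPrimeCore p G), Q.Normal → (Nat.card Q).Coprime p → Q = ⊥ := by
  intro Q hQn hQc
  have h1 : Q ≤ Cfsg.pPrimeCore p (G ⧸ Cfsg.pPrimeCore p G) :=
    Cfsg.Agent.helper1.le_pPrimeCore hQn hQc
  rw [Cfsg.Agent.helper9.pPrimeCore_quotient_eq_bot p] at h1
  exact le_bot_iff.mp h1

theorem quot_solv (hps : Cfsg.IsPSolvable p G) :
    Cfsg.IsPSolvable p (G ⧸ Cfsg.pPrimeCore p G) := by
  haveI : (Cfsg.pPrimeCore p G).Normal := Cfsg.Agent.helper1.pPrimeCore_normal p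
  exact Cfsg.Agent.helper23.isPSolvable_of_surjective hp.out
    (QuotientGroup.mk' (Cfsg.pPrimeCore p G)) (QuotientGroup.mk'_surjective _) hps

theorem card_map_mk (L : Subgroup G) :
    Nat.card (L.map (QuotientGroup.mk' (Cfsg.pPrimeCore p G))) =
      (Cfsg.pPrimeCore p G).relIndex L := by
  have h := Subgroup.relIndex_ker (QuotientGroup.mk' (Cfsg.pPrimeCore p G)) (K := L)
  rw [QuotientGroup.ker_mk'] at h
  exact h.symm

theorem isPGroup_map (hps : Cfsg.IsPSolvable p G)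
    (L : Subgroup G) [hLn : L.Normal] (hVL : Cfsg.pPrimeCore p G ≤ L)
    (hLP : ∀ P : Sylow p G, L ⊓ (P : Subgroup G) ≤ ⁅(P : Subgroup G), (P : Subgroup G)⁆) :
    IsPGroup p (L.map (QuotientGroup.mk' (Cfsg.pPrimeCore p G))) := by
  haveI : (Cfsg.pPrimeCore p G).Normal := Cfsg.Agent.helper1.pPrimeCore_normal p
  haveI : (L.map (QuotientGroup.mk' (Cfsg.pPrimeCore p G))).Normal :=
    Subgroup.Normal.map hLn _ (QuotientGroup.mk'_surjective _)
  exact Cfsg.Agent.helper17.LemmaA.isPGroup_of_inf_sylow_le_commutator p (quot_solv p hps)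
    (quot_hO p) _
    (fun Pb => pieceQ p (Cfsg.pPrimeCore p G) L (Cfsg.Agent.helper1.pPrimeCore_coprime p) hVL hLP Pb)

/-- PIECE R1 -/
theorem relA (hps : Cfsg.IsPSolvable p G)
    (L : Subgroup G) [L.Normal] (hVL : Cfsg.pPrimeCore p G ≤ L)
    (hLP : ∀ P : Sylow p G, L ⊓ (P : Subgroup G) ≤ ⁅(P : Subgroup G), (P : Subgroup G)⁆) :
    ∃ k : ℕ, (Cfsg.pPrimeCore p G).relIndex L = p ^ k := by
  obtain ⟨k, hk⟩ := (isPGroup_map p hps L hVL hLP).exists_card_eq
  exact ⟨k, by rw [← card_map_mk, hk]⟩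

/-- PIECE R2 -/
theorem relcore (hps : Cfsg.IsPSolvable p G)
    (L : Subgroup G) [hLn : L.Normal] (hVL : Cfsg.pPrimeCore p G ≤ L)
    (hLP : ∀ P : Sylow p G, L ⊓ (P : Subgroup G) ≤ ⁅(P : Subgroup G), (P : Subgroup G)⁆)
    (T : Subgroup G) [hTn : T.Normal] (hLT : L ≤ T) (hcop : (L.relIndex T).Coprime p) : T ≤ L := by
  haveI hVn : (Cfsg.pPrimeCore p G).Normal := Cfsg.Agent.helper1.pPrimeCore_normal p
  set π := QuotientGroup.mk' (Cfsg.pPrimeCore p G) with hπ
  have hsurj : Function.Surjective π := QuotientGroup.mk'_surjective _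
  haveI : (L.map π).Normal := Subgroup.Normal.map hLn _ hsurj
  haveI : (T.map π).Normal := Subgroup.Normal.map hTn _ hsurj
  have hU' : IsPGroup p (L.map π) := isPGroup_map p hps L hVL hLP
  have hUT' : L.map π ≤ T.map π := Subgroup.map_mono hLT
  have hrel : (L.map π).relIndex (T.map π) = L.relIndex T := by
    have h1 := Cfsg.Agent.helper17.LemmaA.card_mul_relIndex' hUT'
    rw [hπ, card_map_mk, card_map_mk] at h1
    have h2 := Subgroup.relIndex_mul_relIndex _ _ _ hVL hLT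
    have hpos : 0 < (Cfsg.pPrimeCore p G).relIndex L := by
      rw [← card_map_mk]; exact Nat.card_pos
    exact Nat.eq_of_mul_eq_mul_left hpos (h1.trans h2.symm)
  have hcop' : ((L.map π).relIndex (T.map π)).Coprime p := by rw [hrel]; exact hcop
  have hUP' : ∀ Pb : Sylow p (G ⧸ Cfsg.pPrimeCore p G),
      L.map π ≤ ⁅(Pb : Subgroup (G ⧸ Cfsg.pPrimeCore p G)), (Pb : Subgroup _)⁆ := by
    intro Pb
    have h1 : L.map π ≤ (Pb : Subgroup _) := hU'.le_sylow_of_normal Pb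
    exact (le_inf le_rfl h1).trans
      (pieceQ p (Cfsg.pPrimeCore p G) L (Cfsg.Agent.helper1.pPrimeCore_coprime p) hVL hLP Pb)
  have hcore := Cfsg.Agent.helper17.LemmaA.core p (quot_hO p) (L.map π) (T.map π) hUT' hU' hcop'
    hUP'
  rw [Subgroup.map_le_map_iff, hπ, QuotientGroup.ker_mk'] at hcore
  exact hcore.trans (sup_le le_rfl hVL)

end

end Cfsg.Agent.helper17.S4885r
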