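import Mathlib
import Cfsg.Agent.Lib_helper1_PrincQuot
import Cfsg.Agent.Lib_helper1_OneBlock
import Cfsg.Agent.Lib_helper1_Core
import Cfsg.Agent.Lib_helper9_Cores
import Cfsg.Agent.Lib_helper23_PSolv
import Cfsg.Agent.Lib_helper24_ThirdMain
import Cfsg.Agent.Lib_helper24_CharKer
import Cfsg.Agent.Lib_helper24_CharCount

set_option autoImplicit false
set_option linter.unusedSectionVars false
set_option linter.unusedVariables false
set_option linter.style.longLine false

/-!
helper22: the principal block of a `p`-solvable group consists of the irreducible characters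
with `O_{p'}(G)` in their kernel.
-/

namespace Cfsg.Agent.helper22

open Cfsg
open scoped ComplexConjugate

universe u

section PSolvB0

/-- in a `p`-solvable group with `O_{p'}(G) = 1` every irreducible character lies in the
principal block -/
theorem all_mem_principalBlock_of_pSolvable {Q : Type u} [Group Q] [Finite Q] (p : ℕ)
    [Fact p.Prime] (M : Ideal AlgInt) (hM : IsPModular p M) (hsolv : IsPSolvable p Q)
    (hO : pPrimeCore p Q = ⊥) (ψ : IrrCharacter Q) : ψ ∈ principalBlock M Q := by
  classical
  haveI := Fintype.ofFinite Q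
  have hconstr := helper23.hall_higman_123 (helper23.psreach_of_isPSolvable hsolv) hO
  exact helper1.single_block_of_constrained p M hM hconstr (helper24.oneIrr _) ψ

/-- the principal `p`-block of a `p`-solvable group: the characters with `O_{p'}(G)` in the
kernel -/
theorem mem_principalBlock_iff_of_pSolvable {G : Type u} [Group G] [Finite G] (p : ℕ)
    [Fact p.Prime] (M : Ideal AlgInt) (hM : IsPModular p M) (hsolv : IsPSolvable p G)
    (χ : IrrCharacter G) :
    χ ∈ principalBlock M G ↔ ∀ n ∈ pPrimeCore p G, (χ : G → ℂ) n = (χ : G → ℂ) 1 := by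
  classical
  haveI := Fintype.ofFinite G
  have hp : p.Prime := Fact.out
  obtain ⟨K, hK⟩ : ∃ K : Subgroup G, K = pPrimeCore p G := ⟨_, rfl⟩
  rw [← hK]
  haveI hKn : K.Normal := by rw [hK]; exact helper1.pPrimeCore_normal p
  have hKc : (Nat.card K).Coprime p := by rw [hK]; exact helper1.pPrimeCore_coprime p
  haveI : Fintype K := Fintype.ofFinite _
  haveI : Fintype (G ⧸ K) := Fintype.ofFinite _
  have hsurj : Function.Surjective (QuotientGroup.mk' K) := QuotientGroup.mk'_surjective K
  have hQsolv : IsPSolvable p (G ⧸ K) :=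
    helper23.isPSolvable_of_surjective hp _ hsurj hsolv
  have hQO : pPrimeCore p (G ⧸ K) = ⊥ := by
    subst hK; exact helper9.pPrimeCore_quotient_eq_bot p
  constructor
  · intro hχ
    exact helper1.principal_ker K p M hM hKc χ hχ
  · intro h
    obtain ⟨ψ, hψ, hχψ⟩ := helper24.irr_deflation K χ.2 h
    have h1 : helper1.inflIrr K ⟨ψ, hψ⟩ = χ := Subtype.ext hχψ.symm
    rw [← h1, helper1.inflIrr_mem_principalBlock_iff K p M hM hKc]
    exact all_mem_principalBlock_of_pSolvable p M hM hQsolv hQO _

/-- a nontrivial finite group has an irreducible character that is not constantly one -/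
theorem exists_irr_ne_one {Q : Type u} [Group Q] [Finite Q] (hQ : Nat.card Q ≠ 1) :
    ∃ θ : IrrCharacter Q, ∃ q : Q, (θ : Q → ℂ) q ≠ 1 := by
  classical
  haveI := Fintype.ofFinite Q
  by_contra hcon
  push_neg at hcon
  haveI := Fintype.ofFinite (IrrCharacter Q)
  have hsub : ∀ θ θ' : IrrCharacter Q, θ = θ' := by
    intro θ θ'
    apply Subtype.ext
    funext n
    rw [hcon θ n, hcon θ' n]
  have h1 := helper24.sum_irr_degree_sq (G := Q)
  have hdeg : ∀ θ : IrrCharacter Q, charDegree (θ : Q → ℂ) = 1 := by
    intro θ
    apply helper24.charDegree_natCast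
    rw [hcon θ 1]; simp
  have h2 : Nat.card Q = Fintype.card (IrrCharacter Q) := by
    rw [← h1, Finset.sum_congr rfl (fun χ _ => by rw [hdeg χ, one_pow]), Finset.sum_const,
      Finset.card_univ, smul_eq_mul, mul_one]
  have h3 : Fintype.card (IrrCharacter Q) ≤ 1 := Fintype.card_le_one_iff.mpr hsub
  have := Nat.card_pos (α := Q)
  omega

end PSolvB0

end Cfsg.Agent.helper22
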