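import Mathlib
import Cfsg.Prelude.Def_Local
import Cfsg.Prelude.Def_Blocks
import Cfsg.Agent.Lib_helper17_S4885r
import Cfsg.Agent.Lib_helper15_S4885x
import Cfsg.Agent.Lib_helper22_PSolvB0
import Cfsg.Agent.Lib_helper24_CharKer
import Cfsg.Agent.Lib_helper24_CharBasic

set_option autoImplicit false
open Cfsg
open scoped commutatorElement

namespace Cfsg.Agent.helper17.S4885g

open Cfsg.Agent.helper17.S4885r Cfsg.Agent.helper15.S4885x

universe u

/-- PIECE G (final group theory) -/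
theorem pieceG {G : Type u} [Group G] [Finite G] (p q : ℕ) [hp' : Fact p.Prime] [hq' : Fact q.Prime]
    (hpq : p ≠ q) (hp : p ∣ Nat.card G) (hps : Cfsg.IsPSolvable p G) (hqs : Cfsg.IsPSolvable q G)
    (L : Subgroup G) [L.Normal] (hVp : Cfsg.pPrimeCore p G ≤ L) (hVq : Cfsg.pPrimeCore q G ≤ L)
    (hLp : ∀ P : Sylow p G, L ⊓ (P : Subgroup G) ≤ ⁅(P : Subgroup G), (P : Subgroup G)⁆)
    (hLq : ∀ Q : Sylow q G, L ⊓ (Q : Subgroup G) ≤ ⁅(Q : Subgroup G), (Q : Subgroup G)⁆) :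
    False := by
  classical
  obtain ⟨kp, hkp⟩ := relA p hps L hVp hLp
  have hcopq : Nat.Coprime p q := (Nat.coprime_primes hp'.out hq'.out).mpr hpq
  -- claim W
  have hW : ∀ R : Subgroup G, R.Normal → Cfsg.pPrimeCore p G ≤ R →
      (∃ m : ℕ, (Cfsg.pPrimeCore p G).relIndex R = p ^ m) → R ≤ L := by
    intro R hRn hVR hm
    obtain ⟨m, hm⟩ := hm
    haveI := hRn
    have hcop : (L.relIndex (R ⊔ L)).Coprime q := by
      rw [Subgroup.relIndex_sup_right]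
      have h1 : L.relIndex R = (L ⊓ R).relIndex R := (Subgroup.inf_relIndex_right L R).symm
      have h2 : (L ⊓ R).relIndex R ∣ (Cfsg.pPrimeCore p G).relIndex R :=
        Subgroup.relIndex_dvd_of_le_left R (le_inf hVp hVR)
      rw [h1]
      rw [hm] at h2
      exact Nat.Coprime.coprime_dvd_left h2 (Nat.Coprime.pow_left m hcopq)
    have h3 := relcore q hqs L hVq hLq (R ⊔ L) le_sup_right hcop
    exact le_sup_left.trans h3
  have hLtop : L = ⊤ := by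
    by_contra hL
    obtain ⟨R, hRn, hLR, hRL, hcase⟩ := existsR p hps L hL
    haveI := hRn
    rcases hcase with ⟨m, hm⟩ | hc
    · apply hRL
      apply hW R hRn (hVp.trans hLR)
      refine ⟨kp + m, ?_⟩
      rw [← Subgroup.relIndex_mul_relIndex _ _ _ hVp hLR, hkp, hm, pow_add]
    · exact hRL (relcore p hps L hVp hLp R hLR hc)
  obtain ⟨P⟩ : Nonempty (Sylow p G) := inferInstance
  have h4 := hLp P
  rw [hLtop, top_inf_eq] at h4
  exact sylow_bot p P h4 hp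

theorem assembly {G : Type u} [Group G] [Finite G] (p q : ℕ) [Fact p.Prime] [Fact q.Prime]
    (pieceX : ∀ (p : ℕ) [Fact p.Prime] (V : Subgroup G) [V.Normal],
      (Nat.card V).Coprime p → ∀ (P : Sylow p G) (x : G), x ∈ (P : Subgroup G) →
      (∀ χ : Cfsg.IrrCharacter G, (∀ n ∈ V, (χ : G → ℂ) n = (χ : G → ℂ) 1) →
        ¬ p ∣ Cfsg.charDegree (χ : G → ℂ) → (χ : G → ℂ) x = (χ : G → ℂ) 1) →
      x ∈ ⁅(P : Subgroup G), (P : Subgroup G)⁆)
    (hp : p ∣ Nat.card G) (hq : q ∣ Nat.card G) (hps : Cfsg.IsPSolvable p G)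
    (hqs : Cfsg.IsPSolvable q G) (Mp Mq : Ideal Cfsg.AlgInt) (hMp : Cfsg.IsPModular p Mp)
    (hMq : Cfsg.IsPModular q Mq)
    (h : ∀ χ : Cfsg.IrrCharacter G,
      (χ ∈ Cfsg.principalBlock Mp G ∧ ¬ p ∣ Cfsg.charDegree (χ : G → ℂ)) ↔
      (χ ∈ Cfsg.principalBlock Mq G ∧ ¬ q ∣ Cfsg.charDegree (χ : G → ℂ))) : p = q := by
  classical
  by_contra hpq
  have hker : ∀ χ : Cfsg.IrrCharacter G, ∃ K : Subgroup G, K.Normal ∧
      ∀ g, g ∈ K ↔ (χ : G → ℂ) g = (χ : G → ℂ) 1 :=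
    fun χ => Cfsg.Agent.helper24.char_exists_ker (Cfsg.Agent.helper24.irr_isCharacter χ.2)
  choose K hKn hK using hker
  set X : Set (Cfsg.IrrCharacter G) :=
    {χ | χ ∈ Cfsg.principalBlock Mp G ∧ ¬ p ∣ Cfsg.charDegree (χ : G → ℂ)} with hX
  set L : Subgroup G := ⨅ χ ∈ X, K χ with hL
  haveI hLn : L.Normal := by
    rw [hL]
    haveI : ∀ χ : Cfsg.IrrCharacter G, (⨅ (_ : χ ∈ X), K χ).Normal := by
      intro χ
      haveI : ∀ _ : χ ∈ X, (K χ).Normal := fun _ => hKn χ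
      exact Subgroup.normal_iInf_normal this
    exact Subgroup.normal_iInf_normal this
  have hmemL : ∀ g : G, g ∈ L ↔ ∀ χ ∈ X, (χ : G → ℂ) g = (χ : G → ℂ) 1 := by
    intro g
    rw [hL]
    simp only [Subgroup.mem_iInf, hK]
  have fongp := fun χ => Cfsg.Agent.helper22.mem_principalBlock_iff_of_pSolvable p Mp hMp hps χ
  have fongq := fun χ => Cfsg.Agent.helper22.mem_principalBlock_iff_of_pSolvable q Mq hMq hqs χ
  have hVp : Cfsg.pPrimeCore p G ≤ L := by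
    intro n hn
    rw [hmemL]
    intro χ hχ
    exact (fongp χ).mp hχ.1 n hn
  have hVq : Cfsg.pPrimeCore q G ≤ L := by
    intro n hn
    rw [hmemL]
    intro χ hχ
    exact (fongq χ).mp ((h χ).mp hχ).1 n hn
  haveI : (Cfsg.pPrimeCore p G).Normal := Cfsg.Agent.helper1.pPrimeCore_normal p
  haveI : (Cfsg.pPrimeCore q G).Normal := Cfsg.Agent.helper1.pPrimeCore_normal q
  have hLp : ∀ P : Sylow p G, L ⊓ (P : Subgroup G) ≤ ⁅(P : Subgroup G), (P : Subgroup G)⁆ := by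
    intro P x hx
    refine pieceX p (Cfsg.pPrimeCore p G) (Cfsg.Agent.helper1.pPrimeCore_coprime p) P x hx.2 ?_
    intro χ hχV hχd
    exact (hmemL x).mp hx.1 χ ⟨(fongp χ).mpr hχV, hχd⟩
  have hLq : ∀ Q : Sylow q G, L ⊓ (Q : Subgroup G) ≤ ⁅(Q : Subgroup G), (Q : Subgroup G)⁆ := by
    intro Q x hx
    refine pieceX q (Cfsg.pPrimeCore q G) (Cfsg.Agent.helper1.pPrimeCore_coprime q) Q x hx.2 ?_
    intro χ hχV hχd
    exact (hmemL x).mp hx.1 χ ((h χ).mpr ⟨(fongq χ).mpr hχV, hχd⟩)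
  exact pieceG p q hpq hp hps hqs L hVp hVq hLp hLq

end Cfsg.Agent.helper17.S4885g
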