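import Mathlib
import Cfsg.Prelude.Def_Classical
import Cfsg.Prelude.Def_LieClassical
import Cfsg.Agent.Lib_helper11_Unitary3

set_option autoImplicit false
set_option linter.unusedSectionVars false

/-!
# Unitary reflections `2 v v^* - 1` for the standard Hermitian form
-/

namespace Cfsg.Agent.helper17.SU3

open Cfsg Matrix
open Cfsg.Agent.helper11.HermCount Cfsg.Agent.helper11.Unitary

variable {F : Type*} [Field F] [Fintype F] {q : ℕ}

section general
variable {n : ℕ}

/-- conjugate vector -/
def cjv (q : ℕ) (v : Fin n → F) : Fin n → F := fun j => v j ^ q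

theorem herm_eq_dot (u v : Fin n → F) : hermForm n F q u v = u ⬝ᵥ cjv q v := rfl

theorem herm_eq_dot' (u v : Fin n → F) : hermForm n F q u v = cjv q v ⬝ᵥ u := by
  rw [herm_eq_dot, dotProduct_comm]

/-- `v w^*` -/
def outer (q : ℕ) (v w : Fin n → F) : Matrix (Fin n) (Fin n) F := vecMulVec v (cjv q w)

theorem outer_apply (v w : Fin n → F) (i j : Fin n) : outer q v w i j = v i * w j ^ q := rfl

theorem outer_mulVec (v w x : Fin n → F) :
    outer q v w *ᵥ x = hermForm n F q x w • v := by
  rw [outer, vecMulVec_mulVec, herm_eq_dot']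
  simp

theorem outer_mul_outer (a b c d : Fin n → F) :
    outer q a b * outer q c d = hermForm n F q c b • outer q a d := by
  rw [outer, outer, vecMulVec_mul_vecMulVec, herm_eq_dot', outer]
  ext i j
  simp [vecMulVec_apply]
  ring

theorem trace_outer (v w : Fin n → F) : (outer q v w).trace = hermForm n F q v w := by
  rw [outer, trace_vecMulVec, herm_eq_dot]

theorem det_one_add_outer (u w : Fin n → F) :
    (1 + outer q u w).det = 1 + hermForm n F q u w := by
  rw [outer, vecMulVec_eq Unit, det_one_add_replicateCol_mul_replicateRow, herm_eq_dot']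

theorem two_pow_q (hF : Fintype.card F = q ^ 2) : (2 : F) ^ q = 2 := by
  have := map_ofNat (frobQ hF) 2
  simpa [frobQ_apply] using this

theorem two_ne_zero' (hq : Odd q) (hF : Fintype.card F = q ^ 2) : (2 : F) ≠ 0 := by
  intro h2
  obtain ⟨p, j, hp, hc, rfl⟩ := exists_char_pow hF
  have : ((2 : ℕ) : F) = 0 := by exact_mod_cast h2
  rw [CharP.cast_eq_zero_iff F p] at this
  have hp2 : p = 2 := ((Nat.prime_dvd_prime_iff_eq hp Nat.prime_two).mp this)
  subst hp2
  rcases Nat.eq_zero_or_pos j with rfl | hj
  · have := two_le_q hF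
    simp at this
  · exact (Nat.not_even_iff_odd.mpr hq) ((Nat.even_pow' (by omega)).mpr even_two)

/-- the reflection `2 v v^* - 1` -/
def rf (q : ℕ) (v : Fin n → F) : Matrix (Fin n) (Fin n) F := (2 : F) • outer q v v - 1

theorem rf_mulVec (v x : Fin n → F) :
    rf q v *ᵥ x = (2 * hermForm n F q x v) • v - x := by
  rw [rf, Matrix.sub_mulVec, Matrix.smul_mulVec, outer_mulVec, Matrix.one_mulVec, smul_smul]

theorem rf_preserves (hF : Fintype.card F = q ^ 2) (v : Fin n → F)
    (hv : hermForm n F q v v = 1) (x y : Fin n → F) :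
    hermForm n F q (rf q v *ᵥ x) (rf q v *ᵥ y) = hermForm n F q x y := by
  rw [rf_mulVec, rf_mulVec, herm_sub_left, herm_sub_right hF, herm_sub_right hF, herm_smul_left,
    herm_smul_right, herm_smul_left, herm_smul_right, hv, mul_pow, two_pow_q hF,
    herm_conj hF y v]
  ring

theorem rf_mul_self (v : Fin n → F) (hv : hermForm n F q v v = 1) :
    rf q v * rf q v = 1 := by
  rw [rf, sub_mul, mul_sub, Matrix.smul_mul, Matrix.mul_smul, outer_mul_outer, hv, one_smul,
    Matrix.mul_one, Matrix.one_mul, smul_smul]
  have : ((2 : F) * 2) • outer q v v = (2 : F) • outer q v v + (2 : F) • outer q v v := by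
    rw [← add_smul]; norm_num
  rw [this]
  abel

theorem trace_rf (v : Fin n → F) (hv : hermForm n F q v v = 1) :
    (rf q v).trace = 2 - (n : F) := by
  rw [rf, Matrix.trace_sub, Matrix.trace_smul, trace_outer, hv, Matrix.trace_one]
  simp

theorem rf_smul (v : Fin n → F) (l : F) (hl : l * l ^ q = 1) : rf q (l • v) = rf q v := by
  have : outer q (l • v) (l • v) = outer q v v := by
    ext i j
    simp only [outer_apply, Pi.smul_apply, smul_eq_mul, mul_pow]
    linear_combination (v i * v j ^ q) * hl
  rw [rf, this, rf]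

theorem det_rf3 (v : Fin 3 → F) (hv : hermForm 3 F q v v = 1) : (rf q v).det = 1 := by
  have h1 : rf q v = -(1 + outer q ((-2 : F) • v) v) := by
    ext i j
    simp only [rf, Matrix.sub_apply, Matrix.smul_apply, outer_apply, Matrix.neg_apply,
      Matrix.add_apply, Pi.smul_apply, smul_eq_mul]
    ring
  rw [h1, Matrix.det_neg, det_one_add_outer, herm_smul_left, hv]
  simp
  norm_num

/-- the quasi-reflection multiplying `v` by `l` -/
def qr (q : ℕ) (l : F) (v : Fin n → F) : Matrix (Fin n) (Fin n) F := 1 + (l - 1) • outer q v v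

theorem qr_mulVec (l : F) (v x : Fin n → F) :
    qr q l v *ᵥ x = x + ((l - 1) * hermForm n F q x v) • v := by
  rw [qr, Matrix.add_mulVec, Matrix.smul_mulVec, outer_mulVec, Matrix.one_mulVec, smul_smul]

theorem qr_mulVec_self (l : F) (v : Fin n → F) (hv : hermForm n F q v v = 1) :
    qr q l v *ᵥ v = l • v := by
  rw [qr_mulVec, hv, mul_one]
  ext i
  simp only [Pi.add_apply, Pi.smul_apply, smul_eq_mul]
  ring

theorem det_qr (l : F) (v : Fin n → F) (hv : hermForm n F q v v = 1) : (qr q l v).det = l := by
  have h1 : qr q l v = 1 + outer q ((l - 1) • v) v := by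
    ext i j
    simp only [qr, Matrix.add_apply, Matrix.smul_apply, outer_apply, Pi.smul_apply, smul_eq_mul]
    ring
  rw [h1, det_one_add_outer, herm_smul_left, hv]
  ring

theorem qr_preserves (hF : Fintype.card F = q ^ 2) (l : F) (hl : l * l ^ q = 1) (v : Fin n → F)
    (hv : hermForm n F q v v = 1) (x y : Fin n → F) :
    hermForm n F q (qr q l v *ᵥ x) (qr q l v *ᵥ y) = hermForm n F q x y := by
  rw [qr_mulVec, qr_mulVec, herm_add_left, herm_add_right hF, herm_add_right hF, herm_smul_left,
    herm_smul_right, herm_smul_left, herm_smul_right, hv, mul_pow, sub_pow_q hF, one_pow,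
    herm_conj hF y v]
  linear_combination (hermForm n F q x v * hermForm n F q v y) * hl

theorem herm_single_left (hF : Fintype.card F = q ^ 2) (w : Fin n → F) (i : Fin n) :
    hermForm n F q (Pi.single i 1) w = w i ^ q := by
  rw [← herm_conj hF, herm_single_right (q_ne_zero hF)]

theorem exists_norm (hF : Fintype.card F = q ^ 2) (d : F) (hd : d ^ q = d) :
    ∃ c : F, c * c ^ q = d := by
  classical
  have h := card_norm_fiber hF d hd
  have hpos : 0 < Nat.card {x : F // x * x ^ q = d} := by
    rw [h]; split_ifs <;> omega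
  obtain ⟨⟨c, hc⟩⟩ := (Nat.card_pos_iff.mp hpos).1
  exact ⟨c, hc⟩

theorem rf_mulVec_self (v : Fin n → F) (hv : hermForm n F q v v = 1) : rf q v *ᵥ v = v := by
  rw [rf_mulVec, hv, mul_one, two_smul]
  abel

theorem ne_zero_of_norm_one (v : Fin n → F) (hv : hermForm n F q v v = 1) : v ≠ 0 := by
  rintro rfl
  rw [herm_zero_left] at hv
  exact zero_ne_one hv

/-- two reflections are equal iff the vectors are proportional -/
theorem rf_eq_imp (hq : Odd q) (hF : Fintype.card F = q ^ 2) (v w : Fin n → F)
    (hv : hermForm n F q v v = 1) (hw : hermForm n F q w w = 1) (h : rf q v = rf q w) :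
    ∃ l : F, l * l ^ q = 1 ∧ w = l • v := by
  have h2 : (2 : F) ≠ 0 := two_ne_zero' hq hF
  have h1 : rf q w *ᵥ v = v := by rw [← h, rf_mulVec_self v hv]
  rw [rf_mulVec] at h1
  have h3 : hermForm n F q v w • w = v := by
    have : (2 : F) • (hermForm n F q v w • w) = (2 : F) • v := by
      rw [smul_smul, two_smul]
      rw [sub_eq_iff_eq_add] at h1
      exact h1
    exact smul_right_injective _ h2 this
  have hne : hermForm n F q v w ≠ 0 := by
    intro h0
    rw [h0, zero_smul] at h3
    exact ne_zero_of_norm_one v hv h3.symm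
  have hw' : w = (hermForm n F q v w)⁻¹ • v := by
    calc w = ((hermForm n F q v w)⁻¹ * hermForm n F q v w) • w := by
          rw [inv_mul_cancel₀ hne, one_smul]
      _ = (hermForm n F q v w)⁻¹ • (hermForm n F q v w • w) := (smul_smul _ _ _).symm
      _ = (hermForm n F q v w)⁻¹ • v := by rw [h3]
  refine ⟨(hermForm n F q v w)⁻¹, ?_, hw'⟩
  generalize (hermForm n F q v w)⁻¹ = l at hw'
  have := hw
  rw [hw', herm_smul_left, herm_smul_right, hv, mul_one] at this
  exact this

theorem rf_comm_of_orth (hF : Fintype.card F = q ^ 2) (v w : Fin n → F)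
    (h : hermForm n F q v w = 0) : rf q v * rf q w = rf q w * rf q v := by
  have h' : hermForm n F q w v = 0 := by rw [← herm_conj hF, h, zero_pow (q_ne_zero hF)]
  have hPQ : outer q v v * outer q w w = 0 := by rw [outer_mul_outer, h', zero_smul]
  have hQP : outer q w w * outer q v v = 0 := by rw [outer_mul_outer, h, zero_smul]
  simp only [rf, sub_mul, mul_sub, smul_mul_assoc, mul_smul_comm, hPQ, hQP, mul_one, one_mul,
    smul_zero]
  module

/-- commuting reflections: the vectors are orthogonal or proportional -/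
theorem rf_comm_imp (hq : Odd q) (hF : Fintype.card F = q ^ 2) (v w : Fin n → F)
    (hv : hermForm n F q v v = 1)
    (h : rf q v * rf q w = rf q w * rf q v) :
    hermForm n F q v w = 0 ∨ w = hermForm n F q w v • v := by
  have h2 : (2 : F) ≠ 0 := two_ne_zero' hq hF
  by_cases h0 : hermForm n F q v w = 0
  · exact Or.inl h0
  right
  have h1 := congrArg (fun M => M *ᵥ v) h
  simp only [← Matrix.mulVec_mulVec] at h1
  rw [rf_mulVec_self v hv, rf_mulVec w v, Matrix.mulVec_sub, Matrix.mulVec_smul,
    rf_mulVec_self v hv, rf_mulVec v w] at h1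
  have h3 : (2 * hermForm n F q v w) • ((2 : F) • (hermForm n F q w v • v - w)) = 0 := by
    have : (2 * hermForm n F q v w) • ((2 * hermForm n F q w v) • v - w) - v
        - ((2 * hermForm n F q v w) • w - v) = 0 := sub_eq_zero.mpr h1
    rw [← this]
    simp only [smul_sub, smul_smul]
    module
  rw [smul_eq_zero] at h3
  rcases h3 with h3 | h3
  · exact absurd h3 (mul_ne_zero h2 h0)
  · rw [smul_eq_zero] at h3
    rcases h3 with h3 | h3
    · exact absurd h3 h2
    · exact (sub_eq_zero.mp h3).symm

/-- conjugating a reflection by an isometry -/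
theorem conj_rf (M M' : Matrix (Fin n) (Fin n) F) (hMM' : M * M' = 1)
    (hM : ∀ u v, hermForm n F q (M *ᵥ u) (M *ᵥ v) = hermForm n F q u v) (v : Fin n → F) :
    M * rf q v * M' = rf q (M *ᵥ v) := by
  rw [Matrix.ext_iff_mulVec]
  intro x
  rw [← Matrix.mulVec_mulVec, ← Matrix.mulVec_mulVec, rf_mulVec, rf_mulVec, Matrix.mulVec_sub,
    Matrix.mulVec_smul, Matrix.mulVec_mulVec, hMM', Matrix.one_mulVec]
  have : hermForm n F q (M' *ᵥ x) v = hermForm n F q x (M *ᵥ v) := by
    rw [← hM (M' *ᵥ x) v, Matrix.mulVec_mulVec, hMM', Matrix.one_mulVec]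
  rw [this]

end general

section three

/-- 2x2 minors vanish when the adjugate vanishes -/
theorem minors_of_adjugate_eq_zero (A : Matrix (Fin 3) (Fin 3) F) (h : A.adjugate = 0) :
    ∀ i j k l, A i j * A k l = A i l * A k j := by
  rw [Matrix.adjugate_fin_three] at h
  have e := fun a b => congrFun (congrFun h a) b
  have e00 := e 0 0
  have e01 := e 0 1
  have e02 := e 0 2
  have e10 := e 1 0
  have e11 := e 1 1
  have e12 := e 1 2
  have e20 := e 2 0
  have e21 := e 2 1
  have e22 := e 2 2
  simp at e00 e01 e02 e10 e11 e12 e20 e21 e22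
  intro i j k l
  fin_cases i <;> fin_cases j <;> fin_cases k <;> fin_cases l <;> simp only [Fin.zero_eta, Fin.mk_one, Fin.reduceFinMk] <;>
    first
    | ring1
    | linear_combination e00 | linear_combination -e00
    | linear_combination e01 | linear_combination -e01
    | linear_combination e02 | linear_combination -e02
    | linear_combination e10 | linear_combination -e10
    | linear_combination e11 | linear_combination -e11
    | linear_combination e12 | linear_combination -e12
    | linear_combination e20 | linear_combination -e20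
    | linear_combination e21 | linear_combination -e21
    | linear_combination e22 | linear_combination -e22

theorem adjugate_one_add (M : Matrix (Fin 3) (Fin 3) F) :
    (1 + M).adjugate = (1 + M.trace) • (1 : Matrix (Fin 3) (Fin 3) F) + M.adjugate - M := by
  rw [adjugate_fin_three, adjugate_fin_three]
  ext i j
  fin_cases i <;> fin_cases j <;> simp [Matrix.trace, Fin.sum_univ_three] <;> ring

/-- a unitary involution of determinant one in dimension three is a reflection `2 v v^* - 1` -/
theorem exists_rf_of_invol (hq : Odd q) (hF : Fintype.card F = q ^ 2)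
    (t : Matrix (Fin 3) (Fin 3) F) (ht2 : t * t = 1) (hdet : t.det = 1) (ht1 : t ≠ 1)
    (hpres : ∀ u v, hermForm 3 F q (t *ᵥ u) (t *ᵥ v) = hermForm 3 F q u v) :
    ∃ v : Fin 3 → F, hermForm 3 F q v v = 1 ∧ t = rf q v := by
  have h2 : (2 : F) ≠ 0 := two_ne_zero' hq hF
  have hq0 : q ≠ 0 := q_ne_zero hF
  -- t is Hermitian
  have hherm : ∀ i j, t i j ^ q = t j i := by
    intro i j
    have := hpres (t *ᵥ Pi.single i 1) (Pi.single j 1)
    rw [Matrix.mulVec_mulVec, ht2, Matrix.one_mulVec, herm_single_left hF,
      herm_single_right hq0, Matrix.mulVec_single_one, Matrix.mulVec_single_one] at this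
    simpa using this
  set A : Matrix (Fin 3) (Fin 3) F := 1 + t with hA
  have hAherm : ∀ i j, A i j ^ q = A j i := by
    intro i j
    rw [hA, Matrix.add_apply, Matrix.add_apply, add_pow_q hF, hherm]
    congr 1
    by_cases hij : i = j
    · subst hij; simp
    · rw [Matrix.one_apply_ne hij, Matrix.one_apply_ne (Ne.symm hij), zero_pow hq0]
  have hA0 : A ≠ 0 := by
    intro h0
    have ht : t = -1 := by
      have : t = A - 1 := by rw [hA]; abel
      rw [this, h0]; simp
    rw [ht, Matrix.det_neg, Matrix.det_one] at hdet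
    simp at hdet
    apply h2
    linear_combination -hdet
  have hAA : A * A = (2 : F) • A := by
    rw [hA, add_mul, mul_add, mul_add, ht2, Matrix.one_mul, Matrix.mul_one, Matrix.one_mul,
      two_smul]
    abel
  have hdetA : A.det = 0 := by
    by_contra hne
    have hu : IsUnit A := (Matrix.isUnit_iff_isUnit_det A).mpr (isUnit_iff_ne_zero.mpr hne)
    have h0 : A * (1 - t) = 0 := by
      have : (1 + t) * (1 - t) = 1 - t * t := by noncomm_ring
      rw [hA, this, ht2, sub_self]
    have : (1 : Matrix (Fin 3) (Fin 3) F) - t = 0 := by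
      obtain ⟨u, hu⟩ := hu
      have := congrArg (fun M => (↑u⁻¹ : Matrix (Fin 3) (Fin 3) F) * M) h0
      simp only [← Matrix.mul_assoc, Matrix.mul_zero] at this
      rw [← hu, Units.inv_mul, Matrix.one_mul] at this
      exact this
    exact ht1 (sub_eq_zero.mp this).symm
  have hadjt : t.adjugate = t := by
    have h1 : t * t.adjugate = 1 := by rw [Matrix.mul_adjugate, hdet, one_smul]
    calc t.adjugate = (t * t) * t.adjugate := by rw [ht2, Matrix.one_mul]
      _ = t * (t * t.adjugate) := by rw [Matrix.mul_assoc]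
      _ = t := by rw [h1, Matrix.mul_one]
  have hadjA : A.adjugate = (1 + t.trace) • (1 : Matrix (Fin 3) (Fin 3) F) := by
    rw [hA, adjugate_one_add, hadjt]; abel
  have htr : 1 + t.trace = 0 := by
    have h1 : A * A.adjugate = 0 := by rw [Matrix.mul_adjugate, hdetA, zero_smul]
    rw [hadjA, Matrix.mul_smul, Matrix.mul_one] at h1
    rcases smul_eq_zero.mp h1 with h | h
    · exact h
    · exact absurd h hA0
  have hadj0 : A.adjugate = 0 := by rw [hadjA, htr, zero_smul]
  have hmin := minors_of_adjugate_eq_zero A hadj0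
  -- a nonzero diagonal entry
  obtain ⟨j, hj⟩ : ∃ j, A j j ≠ 0 := by
    by_contra hall
    push Not at hall
    apply hA0
    ext i k
    have h1 : A i k * A k i = 0 := by
      rw [hmin i k k i, hall i, zero_mul]
    rw [← hAherm i k] at h1
    rcases mul_eq_zero.mp h1 with h | h
    · simpa using h
    · simpa using pow_eq_zero_iff hq0 |>.mp h
  set d : F := (2 * A j j)⁻¹ with hd
  have hdq : d ^ q = d := by
    rw [hd, inv_pow, mul_pow, two_pow_q hF, hAherm]
  obtain ⟨l, hl⟩ := exists_norm hF d hdq
  have hdd : d * (2 * A j j) = 1 := by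
    rw [hd]; exact inv_mul_cancel₀ (mul_ne_zero h2 hj)
  clear_value d
  refine ⟨fun i => l * A i j, ?_, ?_⟩
  · have hsum : ∑ i, A j i * A i j = 2 * A j j := by
      have := congrFun (congrFun hAA j) j
      rw [Matrix.mul_apply, Matrix.smul_apply, smul_eq_mul] at this
      exact this
    unfold hermForm
    have : ∀ i, (l * A i j) * (l * A i j) ^ q = d * (A j i * A i j) := by
      intro i
      rw [mul_pow, hAherm]
      linear_combination (A i j * A j i) * hl
    simp_rw [this]
    rw [← Finset.mul_sum, hsum, hdd]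
  · ext i k
    have h1 : t i k = A i k - (1 : Matrix (Fin 3) (Fin 3) F) i k := by
      rw [hA, Matrix.add_apply]; ring
    rw [h1, rf, Matrix.sub_apply, Matrix.smul_apply, outer_apply, smul_eq_mul, mul_pow, hAherm]
    have := hmin i j j k
    linear_combination (-A i k) * hdd - (2 * d) * this - (2 * A i j * A j k) * hl

end three

end Cfsg.Agent.helper17.SU3
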