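import Mathlib
import Cfsg.Agent.Lib_helper17_SU3a

set_option autoImplicit false
set_option linter.unusedSectionVars false

/-!
# Involutions of `SU_3(q)`, `q` odd, as reflections in norm-one vectors
-/

namespace Cfsg.Agent.helper17.SU3

open Cfsg Matrix
open Cfsg.Agent.helper11.HermCount Cfsg.Agent.helper11.Unitary

/-- class equation for one class -/
theorem card_eq_card_class_mul_centralizer {G : Type*} [Group G] [Finite G] (t : G) (S : Set G)
    (hS : ∀ x, x ∈ S ↔ ∃ g : G, g * t * g⁻¹ = x) :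
    Nat.card G = Nat.card S * Nat.card (Subgroup.centralizer ({t} : Set G)) := by
  have h1 : (Subgroup.centralizer ({t} : Set G)).index = Nat.card S := by
    have h0 := Subgroup.index_comap_of_surjective (MulAction.stabilizer (ConjAct G) t)
      (f := (ConjAct.toConjAct (G := G)).toMonoidHom) (ConjAct.toConjAct (G := G)).surjective
    rw [Subgroup.centralizer_eq_comap_stabilizer]
    refine Eq.trans h0 ?_
    rw [MulAction.index_stabilizer, ← Nat.card_coe_set_eq]
    apply Nat.card_congr
    apply Equiv.setCongr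
    ext x
    rw [ConjAct.mem_orbit_conjAct, hS, isConj_comm, isConj_iff]
  rw [← h1, Subgroup.index_mul_card]

variable {F : Type*} [Field F] [Fintype F] {q : ℕ}

/-- the matrix of an element of `SU` -/
def mat {n : ℕ} (s : SU n F q) : Matrix (Fin n) (Fin n) F :=
  ((s : Matrix.SpecialLinearGroup (Fin n) F) : Matrix (Fin n) (Fin n) F)

theorem mat_injective {n : ℕ} : Function.Injective (mat : SU n F q → Matrix (Fin n) (Fin n) F) := by
  intro a b h
  exact Subtype.ext (Subtype.ext h)

theorem mat_mul {n : ℕ} (a b : SU n F q) : mat (a * b) = mat a * mat b := rfl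

theorem mat_one {n : ℕ} : mat (1 : SU n F q) = 1 := rfl

theorem mat_det {n : ℕ} (a : SU n F q) : (mat a).det = 1 := a.1.2

theorem mat_preserves {n : ℕ} (a : SU n F q) (u v : Fin n → F) :
    hermForm n F q (mat a *ᵥ u) (mat a *ᵥ v) = hermForm n F q u v := a.2 u v

theorem mat_mul_inv {n : ℕ} (a : SU n F q) : mat a * mat a⁻¹ = 1 := by
  rw [← mat_mul, mul_inv_cancel, mat_one]

/-- norm-one vectors -/
abbrev N1 (F : Type*) [Field F] (q : ℕ) := {v : Fin 3 → F // hermForm 3 F q v v = 1}

/-- the involution attached to a norm-one vector -/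
def rho (hF : Fintype.card F = q ^ 2) (v : N1 F q) : SU 3 F q :=
  mkSU (rf q v.1) (det_rf3 v.1 v.2) (rf_preserves hF v.1 v.2)

theorem mat_rho (hF : Fintype.card F = q ^ 2) (v : N1 F q) : mat (rho hF v) = rf q v.1 := rfl

theorem rho_mul_self (hF : Fintype.card F = q ^ 2) (v : N1 F q) : rho hF v * rho hF v = 1 := by
  apply mat_injective
  rw [mat_mul, mat_rho, rf_mul_self v.1 v.2, mat_one]

theorem four_ne_zero' (hq : Odd q) (hF : Fintype.card F = q ^ 2) : (4 : F) ≠ 0 := by
  have h2 := two_ne_zero' hq hF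
  have : (4 : F) = 2 * 2 := by norm_num
  rw [this]
  exact mul_ne_zero h2 h2

theorem rho_ne_one (hq : Odd q) (hF : Fintype.card F = q ^ 2) (v : N1 F q) : rho hF v ≠ 1 := by
  intro h
  have h1 := congrArg (fun s => (mat s).trace) h
  simp only [mat_rho, mat_one, trace_rf v.1 v.2, Matrix.trace_one] at h1
  apply four_ne_zero' hq hF
  simp at h1
  linear_combination -h1

theorem exists_rho (hq : Odd q) (hF : Fintype.card F = q ^ 2) (t : SU 3 F q) (ht : t ≠ 1)
    (ht2 : t * t = 1) : ∃ v : N1 F q, t = rho hF v := by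
  obtain ⟨v, hv, htv⟩ := exists_rf_of_invol hq hF (mat t)
    (by rw [← mat_mul, ht2, mat_one]) (mat_det t)
    (fun h => ht (mat_injective (by rw [h, mat_one]))) (mat_preserves t)
  exact ⟨⟨v, hv⟩, mat_injective htv⟩

theorem trace_of_invol (hq : Odd q) (hF : Fintype.card F = q ^ 2) (t : SU 3 F q) (ht : t ≠ 1)
    (ht2 : t * t = 1) : (mat t).trace = -1 := by
  obtain ⟨v, rfl⟩ := exists_rho hq hF t ht ht2
  rw [mat_rho, trace_rf v.1 v.2]
  norm_num

theorem rho_smul (hF : Fintype.card F = q ^ 2) (v : N1 F q) (l : F) (hl : l * l ^ q = 1)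
    (w : N1 F q) (hw : w.1 = l • v.1) : rho hF w = rho hF v := by
  apply mat_injective
  rw [mat_rho, mat_rho, hw, rf_smul v.1 l hl]

theorem rho_eq_imp (hq : Odd q) (hF : Fintype.card F = q ^ 2) (v w : N1 F q)
    (h : rho hF v = rho hF w) : ∃ l : F, l * l ^ q = 1 ∧ w.1 = l • v.1 :=
  rf_eq_imp hq hF v.1 w.1 v.2 w.2 (by rw [← mat_rho hF, ← mat_rho hF, h])

theorem commute_rho_of_orth (hF : Fintype.card F = q ^ 2) (v w : N1 F q)
    (h : hermForm 3 F q v.1 w.1 = 0) : Commute (rho hF v) (rho hF w) := by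
  apply mat_injective
  rw [mat_mul, mat_mul, mat_rho, mat_rho]
  exact rf_comm_of_orth hF v.1 w.1 h

theorem commute_rho_iff (hq : Odd q) (hF : Fintype.card F = q ^ 2) (v w : N1 F q) :
    Commute (rho hF v) (rho hF w) ↔ hermForm 3 F q v.1 w.1 = 0 ∨ rho hF w = rho hF v := by
  constructor
  · intro h
    have h1 : rf q v.1 * rf q w.1 = rf q w.1 * rf q v.1 := by
      have := congrArg mat h.eq
      rwa [mat_mul, mat_mul, mat_rho, mat_rho] at this
    rcases rf_comm_imp hq hF v.1 w.1 v.2 h1 with h2 | h2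
    · exact Or.inl h2
    · right
      refine rho_smul hF v _ ?_ w h2
      have := w.2
      rw [h2, herm_smul_left, herm_smul_right, v.2, mul_one] at this
      exact this
  · rintro (h | h)
    · exact commute_rho_of_orth hF v w h
    · rw [h]

theorem orth_symm (hF : Fintype.card F = q ^ 2) {n : ℕ} (v w : Fin n → F)
    (h : hermForm n F q v w = 0) : hermForm n F q w v = 0 := by
  rw [← herm_conj hF, h, zero_pow (q_ne_zero hF)]

end Cfsg.Agent.helper17.SU3
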