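import Mathlib
import Cfsg.Agent.Lib_helper17_SU3b

set_option autoImplicit false
set_option linter.unusedSectionVars false

/-!
# Involutions of `SU_3(q)`: counting, conjugacy, the third involution
-/

namespace Cfsg.Agent.helper17.SU3

open Cfsg Matrix
open Cfsg.Agent.helper11.HermCount Cfsg.Agent.helper11.Unitary

variable {F : Type*} [Field F] [Fintype F] {q : ℕ}

/-- norm-one scalars -/
theorem card_U1 (hF : Fintype.card F = q ^ 2) : Nat.card {l : F // l * l ^ q = 1} = q + 1 := by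
  classical
  rw [card_norm_fiber hF 1 (one_pow q), if_neg one_ne_zero]

/-- counting involutions through norm-one vectors -/
theorem card_vec_eq (hq : Odd q) (hF : Fintype.card F = q ^ 2) (φ : SU 3 F q → Prop)
    (hφ : ∀ x, φ x → x ≠ 1 ∧ x * x = 1) :
    Nat.card {v : N1 F q // φ (rho hF v)} = Nat.card {x : SU 3 F q // φ x} * (q + 1) := by
  have hex : ∀ x : {x : SU 3 F q // φ x}, ∃ v : N1 F q, x.1 = rho hF v :=
    fun x => exists_rho hq hF x.1 (hφ x.1 x.2).1 (hφ x.1 x.2).2
  choose r hr using hex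
  rw [← card_U1 hF, ← Nat.card_prod]
  symm
  have hnorm : ∀ (x : {x : SU 3 F q // φ x}) (l : {l : F // l * l ^ q = 1}),
      hermForm 3 F q (l.1 • (r x).1) (l.1 • (r x).1) = 1 := by
    intro x l
    rw [herm_smul_left, herm_smul_right, (r x).2, mul_one]
    exact l.2
  have hrho : ∀ (x : {x : SU 3 F q // φ x}) (l : {l : F // l * l ^ q = 1}),
      rho hF ⟨l.1 • (r x).1, hnorm x l⟩ = x.1 := by
    intro x l
    rw [rho_smul hF (r x) l.1 l.2 _ rfl, ← hr]
  apply Nat.card_eq_of_bijective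
    (fun p : {x : SU 3 F q // φ x} × {l : F // l * l ^ q = 1} =>
      (⟨⟨p.2.1 • (r p.1).1, hnorm p.1 p.2⟩, by rw [hrho]; exact p.1.2⟩ :
        {v : N1 F q // φ (rho hF v)}))
  constructor
  · rintro ⟨x, l⟩ ⟨x', l'⟩ h
    have h1 : l.1 • (r x).1 = l'.1 • (r x').1 :=
      congrArg (fun v : {v : N1 F q // φ (rho hF v)} => v.1.1) h
    have hx : x = x' := by
      apply Subtype.ext
      rw [← hrho x l, ← hrho x' l']
      congr 1
      exact Subtype.ext h1
    subst hx
    have : l = l' := by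
      apply Subtype.ext
      have h2 : (l.1 - l'.1) • (r x).1 = 0 := by rw [sub_smul, h1, sub_self]
      rcases smul_eq_zero.mp h2 with h3 | h3
      · exact sub_eq_zero.mp h3
      · exact absurd h3 (ne_zero_of_norm_one _ (r x).2)
    rw [this]
  · rintro ⟨v, hv⟩
    obtain ⟨l, hl, hlv⟩ := rho_eq_imp hq hF (r ⟨rho hF v, hv⟩) v (hr ⟨rho hF v, hv⟩).symm
    refine ⟨(⟨rho hF v, hv⟩, ⟨l, hl⟩), ?_⟩
    apply Subtype.ext
    apply Subtype.ext
    exact hlv.symm

/-- all the involutions `rho v` are conjugate in `SU_3` -/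
theorem exists_conj (hF : Fintype.card F = q ^ 2) (v w : N1 F q) :
    ∃ g : SU 3 F q, g * rho hF v * g⁻¹ = rho hF w := by
  obtain ⟨g0, hg0⟩ := exists_map hF v.1 w.1 v.2 w.2
  obtain ⟨M0, hM0⟩ : ∃ M0 : Matrix (Fin 3) (Fin 3) F,
      M0 = ((g0 : Matrix.GeneralLinearGroup (Fin 3) F) : Matrix (Fin 3) (Fin 3) F) := ⟨_, rfl⟩
  rw [← hM0] at hg0
  have hM0pres : ∀ u u', hermForm 3 F q (M0 *ᵥ u) (M0 *ᵥ u') = hermForm 3 F q u u' := by
    rw [hM0]; exact g0.2
  have hdet : M0.det * M0.det ^ q = 1 := by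
    rw [hM0]; exact det_mul_det_pow hF g0.1 g0.2
  have hdet0 : M0.det ≠ 0 := by
    intro h; rw [h, zero_mul] at hdet; exact zero_ne_one hdet
  obtain ⟨l, hl⟩ : ∃ l : F, l = (M0.det)⁻¹ := ⟨_, rfl⟩
  have hlN : l * l ^ q = 1 := by rw [hl, inv_pow, ← mul_inv, hdet, inv_one]
  obtain ⟨M, hM⟩ : ∃ M : Matrix (Fin 3) (Fin 3) F, M = M0 * qr q l v.1 := ⟨_, rfl⟩
  have hMdet : M.det = 1 := by
    rw [hM, Matrix.det_mul, det_qr l v.1 v.2, hl, mul_inv_cancel₀ hdet0]
  have hMpres : ∀ u u', hermForm 3 F q (M *ᵥ u) (M *ᵥ u') = hermForm 3 F q u u' := by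
    intro u u'
    rw [hM, ← Matrix.mulVec_mulVec, ← Matrix.mulVec_mulVec, hM0pres,
      qr_preserves hF l hlN v.1 v.2]
  have hMv : M *ᵥ v.1 = l • w.1 := by
    rw [hM, ← Matrix.mulVec_mulVec, qr_mulVec_self l v.1 v.2, Matrix.mulVec_smul, hg0]
  refine ⟨mkSU M hMdet hMpres, ?_⟩
  apply mat_injective
  rw [mat_mul, mat_mul, mat_rho, mat_rho]
  have := conj_rf M (mat (mkSU M hMdet hMpres)⁻¹) (mat_mul_inv (mkSU M hMdet hMpres)) hMpres v.1
  rw [show mat (mkSU M hMdet hMpres) = M from rfl, this, hMv, rf_smul w.1 l hlN]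

section triple
variable {n : ℕ}

theorem rf_triple (hF : Fintype.card F = q ^ 2) (u v w : Fin n → F)
    (huv : hermForm n F q u v = 0) (huw : hermForm n F q u w = 0)
    (hvw : hermForm n F q v w = 0) :
    rf q u * rf q v * rf q w =
      (2 : F) • outer q u u + (2 : F) • outer q v v + (2 : F) • outer q w w - 1 := by
  have hvu := orth_symm hF u v huv
  have hwu := orth_symm hF u w huw
  have hwv := orth_symm hF v w hvw
  have h1 : outer q u u * outer q v v = 0 := by rw [outer_mul_outer, hvu, zero_smul]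
  have h2 : outer q u u * outer q w w = 0 := by rw [outer_mul_outer, hwu, zero_smul]
  have h3 : outer q v v * outer q w w = 0 := by rw [outer_mul_outer, hwv, zero_smul]
  simp only [rf, sub_mul, mul_sub, smul_mul_assoc, mul_smul_comm, h1, h2, h3, mul_one, one_mul,
    smul_zero, Matrix.zero_mul]
  module

theorem trace_rf_triple (hF : Fintype.card F = q ^ 2) (u v w : Fin n → F)
    (hu : hermForm n F q u u = 1) (hv : hermForm n F q v v = 1) (hw : hermForm n F q w w = 1)
    (huv : hermForm n F q u v = 0) (huw : hermForm n F q u w = 0)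
    (hvw : hermForm n F q v w = 0) :
    (rf q u * rf q v * rf q w).trace = 6 - (n : F) := by
  rw [rf_triple hF u v w huv huw hvw, Matrix.trace_sub, Matrix.trace_add, Matrix.trace_add,
    Matrix.trace_smul, Matrix.trace_smul, Matrix.trace_smul, trace_outer, trace_outer,
    trace_outer, hu, hv, hw, Matrix.trace_one]
  simp
  norm_num

end triple

/-- three pairwise commuting distinct involutions of `SU_3` multiply to one -/
theorem third_invol (hq : Odd q) (hF : Fintype.card F = q ^ 2) (t x y : SU 3 F q)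
    (ht : t ≠ 1) (ht2 : t * t = 1) (hx : x ≠ 1) (hx2 : x * x = 1) (hy : y ≠ 1) (hy2 : y * y = 1)
    (hxt : x ≠ t) (hyt : y ≠ t) (hyx : y ≠ x)
    (ctx : Commute t x) (cty : Commute t y) (cxy : Commute x y) : y = t * x := by
  obtain ⟨v, rfl⟩ := exists_rho hq hF t ht ht2
  obtain ⟨w, rfl⟩ := exists_rho hq hF x hx hx2
  obtain ⟨u, rfl⟩ := exists_rho hq hF y hy hy2
  have hvw : hermForm 3 F q v.1 w.1 = 0 := by
    rcases (commute_rho_iff hq hF v w).mp ctx with h | h
    · exact h
    · exact absurd h hxt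
  have hvu : hermForm 3 F q v.1 u.1 = 0 := by
    rcases (commute_rho_iff hq hF v u).mp cty with h | h
    · exact h
    · exact absurd h hyt
  have hwu : hermForm 3 F q w.1 u.1 = 0 := by
    rcases (commute_rho_iff hq hF w u).mp cxy with h | h
    · exact h
    · exact absurd h hyx
  have huv := orth_symm hF _ _ hvu
  have huw := orth_symm hF _ _ hwu
  have hz : rho hF u * rho hF v * rho hF w = 1 := by
    by_contra hne
    have hzz : (rho hF u * rho hF v * rho hF w) * (rho hF u * rho hF v * rho hF w) = 1 := by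
      have c1 : Commute (rho hF u * rho hF v) (rho hF w) := cxy.symm.mul_left ctx
      have c2 : Commute (rho hF u) (rho hF v) := cty.symm
      rw [← pow_two, c1.mul_pow, c2.mul_pow, pow_two, pow_two, pow_two, hy2, ht2, hx2]
      simp
    have h1 := trace_of_invol hq hF _ hne hzz
    rw [mat_mul, mat_mul, mat_rho, mat_rho, mat_rho,
      trace_rf_triple hF u.1 v.1 w.1 u.2 v.2 w.2 huv huw hvw] at h1
    apply four_ne_zero' hq hF
    push_cast at h1
    linear_combination h1
  have hxinv : (rho hF w)⁻¹ = rho hF w := inv_eq_of_mul_eq_one_right hx2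
  have htinv : (rho hF v)⁻¹ = rho hF v := inv_eq_of_mul_eq_one_right ht2
  have : rho hF u = (rho hF v * rho hF w)⁻¹ := by
    rw [mul_assoc] at hz
    exact eq_inv_of_mul_eq_one_left hz
  rw [this, _root_.mul_inv_rev, hxinv, htinv, ctx.eq]

end Cfsg.Agent.helper17.SU3
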