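import Mathlib
import Cfsg.Agent.Lib_helper17_SU3c

set_option autoImplicit false
set_option linter.unusedSectionVars false

/-!
# Counting norm-one vectors of `F^3` by their first coordinate
-/

namespace Cfsg.Agent.helper17.SU3

open Cfsg Matrix
open Cfsg.Agent.helper11.HermCount Cfsg.Agent.helper11.Unitary

variable {F : Type*} [Field F] [Fintype F] {q : ℕ}

/-- vectors of `F^2` of given norm -/
theorem card_n2 [DecidableEq F] (hF : Fintype.card F = q ^ 2) (d : F) (hd : d ^ q = d) :
    Nat.card {w : Fin 2 → F // hermForm 2 F q w w = d} + (if d = 0 then q else q * (q + 1)) =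
      (q + 1) * q ^ 2 := by
  have h2 := card_herm_succ hF d hd 1
  have h1 := card_herm_succ hF d hd 0
  have h0 := card_herm_zero_dim (F := F) (q := q) d
  rw [h0] at h1
  by_cases hd0 : d = 0
  · rw [if_pos hd0] at h1 ⊢
    have h3 : Nat.card {v : Fin 1 → F // hermForm 1 F q v v = d} = 1 := by
      have : Nat.card {v : Fin 1 → F // hermForm 1 F q v v = d} + q * 1 = (q + 1) * q ^ (2 * 0) := h1
      rw [mul_zero, pow_zero, mul_one, mul_one] at this
      omega
    have h4 : Nat.card {w : Fin 2 → F // hermForm 2 F q w w = d} +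
        q * Nat.card {v : Fin 1 → F // hermForm 1 F q v v = d} = (q + 1) * q ^ (2 * 1) := h2
    rw [h3, mul_one, mul_one] at h4
    exact h4
  · rw [if_neg hd0] at h1 ⊢
    have h3 : Nat.card {v : Fin 1 → F // hermForm 1 F q v v = d} = q + 1 := by
      have : Nat.card {v : Fin 1 → F // hermForm 1 F q v v = d} + q * 0 = (q + 1) * q ^ (2 * 0) := h1
      simpa using this
    have h4 : Nat.card {w : Fin 2 → F // hermForm 2 F q w w = d} +
        q * Nat.card {v : Fin 1 → F // hermForm 1 F q v v = d} = (q + 1) * q ^ (2 * 1) := h2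
    rw [h3, mul_one] at h4
    exact h4

theorem card_n2' [DecidableEq F] (d : F) :
    Nat.card {w : Fin 2 → F // hermForm 2 F q w w = d ∧ w ≠ 0} + (if d = 0 then 1 else 0) =
      Nat.card {w : Fin 2 → F // hermForm 2 F q w w = d} := by
  classical
  rw [Nat.card_eq_fintype_card, Nat.card_eq_fintype_card, Fintype.card_subtype,
    Fintype.card_subtype]
  by_cases hd0 : d = 0
  · rw [if_pos hd0]
    have h0 : (0 : Fin 2 → F) ∈ Finset.univ.filter (fun w : Fin 2 → F => hermForm 2 F q w w = d) := by
      simp [hd0, herm_zero_left]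
    have : Finset.univ.filter (fun w : Fin 2 → F => hermForm 2 F q w w = d ∧ w ≠ 0) =
        (Finset.univ.filter (fun w : Fin 2 → F => hermForm 2 F q w w = d)).erase 0 := by
      ext w
      simp [and_comm]
    rw [this, Finset.card_erase_of_mem h0]
    have : 0 < (Finset.univ.filter (fun w : Fin 2 → F => hermForm 2 F q w w = d)).card :=
      Finset.card_pos.mpr ⟨0, h0⟩
    omega
  · rw [if_neg hd0, add_zero]
    congr 1
    ext w
    simp only [Finset.mem_filter, Finset.mem_univ, true_and, and_iff_left_iff_imp]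
    rintro h rfl
    rw [herm_zero_left] at h
    exact hd0 h.symm

/-- fibring norm-one vectors of `F^3` over the first coordinate -/
theorem fiber_sum [DecidableEq F] (χ : F → Prop) [DecidablePred χ] :
    Nat.card {w : Fin 3 → F // hermForm 3 F q w w = 1 ∧ χ (w 0) ∧ Fin.tail w ≠ 0} =
      ∑ c : {c : F // χ c},
        Nat.card {w : Fin 2 → F // hermForm 2 F q w w = 1 - c.1 * c.1 ^ q ∧ w ≠ 0} := by
  rw [← Nat.card_sigma]
  apply Nat.card_congr
  exact
    { toFun := fun w => ⟨⟨w.1 0, w.2.2.1⟩, ⟨Fin.tail w.1, by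
        have := w.2.1
        rw [herm_succ] at this
        exact ⟨eq_sub_of_add_eq' this, w.2.2.2⟩⟩⟩
      invFun := fun s => ⟨Fin.cons s.1.1 s.2.1, by
        rw [herm_succ, Fin.cons_zero, Fin.tail_cons, s.2.2.1]
        exact ⟨by ring, s.1.2, s.2.2.2⟩⟩
      left_inv := by
        intro w
        apply Subtype.ext
        simp [Fin.cons_self_tail]
      right_inv := by
        rintro ⟨⟨c, hc⟩, w, hw⟩
        rfl }

end Cfsg.Agent.helper17.SU3
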