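import Mathlib
import Cfsg.Agent.Lib_helper17_SU3d

set_option autoImplicit false
set_option linter.unusedSectionVars false

/-!
# The commuting involution graph of `SU_3(q)` around the involution `diag(1,-1,-1)`
-/

namespace Cfsg.Agent.helper17.SU3

open Cfsg Matrix
open Cfsg.Agent.helper11.HermCount Cfsg.Agent.helper11.Unitary

variable {F : Type*} [Field F] [Fintype F] {q : ℕ}

/-- the standard basis norm-one vectors -/
def eN (hF : Fintype.card F = q ^ 2) (i : Fin 3) : N1 F q :=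
  ⟨Pi.single i 1, by rw [herm_single_right (q_ne_zero hF)]; simp⟩

theorem herm3 (u w : Fin 3 → F) :
    hermForm 3 F q u w = u 0 * w 0 ^ q + u 1 * w 1 ^ q + u 2 * w 2 ^ q := by
  simp [hermForm, Fin.sum_univ_three]

theorem tail_eq_zero_iff (w : Fin 3 → F) : Fin.tail w = 0 ↔ w 1 = 0 ∧ w 2 = 0 := by
  constructor
  · intro h
    exact ⟨congrFun h 0, congrFun h 1⟩
  · rintro ⟨h1, h2⟩
    ext i
    fin_cases i
    · exact h1
    · exact h2

theorem norm_eq_zero_iff (hF : Fintype.card F = q ^ 2) (x : F) : x * x ^ q = 0 ↔ x = 0 := by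
  constructor
  · intro h
    rcases mul_eq_zero.mp h with h | h
    · exact h
    · exact (pow_eq_zero_iff (q_ne_zero hF)).mp h
  · rintro rfl
    simp

theorem rho_eq_e0_iff (hq : Odd q) (hF : Fintype.card F = q ^ 2) (w : N1 F q) :
    rho hF w = rho hF (eN hF 0) ↔ Fin.tail w.1 = 0 := by
  constructor
  · intro h
    obtain ⟨l, hl, hlw⟩ := rho_eq_imp hq hF (eN hF 0) w h.symm
    rw [tail_eq_zero_iff, hlw]
    simp [eN]
  · intro h
    rw [tail_eq_zero_iff] at h
    have hw : w.1 = w.1 0 • (eN hF 0).1 := by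
      ext i
      fin_cases i
      · simp [eN]
      · simp [eN, h.1]
      · simp [eN, h.2]
    refine rho_smul hF (eN hF 0) (w.1 0) ?_ w hw
    have := w.2
    rw [herm3, h.1, h.2] at this
    simpa [zero_pow (q_ne_zero hF)] using this

theorem commute_e0_iff (hq : Odd q) (hF : Fintype.card F = q ^ 2) (w : N1 F q) :
    Commute (rho hF (eN hF 0)) (rho hF w) ↔ w.1 0 = 0 ∨ Fin.tail w.1 = 0 := by
  rw [commute_rho_iff hq hF, rho_eq_e0_iff hq hF]
  have : hermForm 3 F q (eN hF 0).1 w.1 = w.1 0 ^ q := herm_single_left hF w.1 0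
  rw [this, pow_eq_zero_iff (q_ne_zero hF)]

theorem norm_pow_q (hF : Fintype.card F = q ^ 2) (x : F) : x ^ q * (x ^ q) ^ q = x * x ^ q := by
  rw [pow_q_q hF, mul_comm]

theorem fix_of_norm (hF : Fintype.card F = q ^ 2) (x : F) : (1 - x * x ^ q) ^ q = 1 - x * x ^ q := by
  rw [sub_pow_q hF, one_pow, mul_pow, pow_q_q hF, mul_comm]

/-- a norm-one vector orthogonal to `w` with vanishing `i`-th coordinate -/
theorem perp3 (hq : Odd q) (hF : Fintype.card F = q ^ 2) (w : N1 F q) (i : Fin 3)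
    (hi : w.1 i * w.1 i ^ q ≠ 1) :
    ∃ u : N1 F q, u.1 i = 0 ∧ hermForm 3 F q u.1 w.1 = 0 := by
  have hw := w.2
  rw [herm3] at hw
  obtain ⟨d, hd⟩ : ∃ d : F, d = 1 - w.1 i * w.1 i ^ q := ⟨_, rfl⟩
  have hd0 : d ≠ 0 := by
    rw [hd]; intro h; exact hi (sub_eq_zero.mp h).symm
  have hdq : d⁻¹ ^ q = d⁻¹ := by rw [inv_pow, hd, fix_of_norm hF]
  obtain ⟨c, hc⟩ := exists_norm hF d⁻¹ hdq
  have hcd : c * c ^ q * d = 1 := by rw [hc, inv_mul_cancel₀ hd0]
  have e1 : ∀ x : F, (c * x ^ q) ^ q = c ^ q * x := fun x => by rw [mul_pow, pow_q_q hF]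
  have e2 : ∀ x : F, (-(c * x ^ q)) ^ q = -(c ^ q * x) := fun x => by
    rw [hq.neg_pow, mul_pow, pow_q_q hF]
  have e0 : (0 : F) ^ q = 0 := zero_pow (q_ne_zero hF)
  fin_cases i
  · simp only [Fin.zero_eta] at hd
    refine ⟨⟨![0, c * w.1 2 ^ q, -(c * w.1 1 ^ q)], ?_⟩, rfl, ?_⟩
    · rw [herm3]
      show (0 : F) * 0 ^ q + (c * w.1 2 ^ q) * (c * w.1 2 ^ q) ^ q +
        (-(c * w.1 1 ^ q)) * (-(c * w.1 1 ^ q)) ^ q = 1
      rw [e0, e1, e2]
      linear_combination (c * c ^ q) * hw - (c * c ^ q) * hd + hcd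
    · rw [herm3]
      show (0 : F) * w.1 0 ^ q + (c * w.1 2 ^ q) * w.1 1 ^ q +
        (-(c * w.1 1 ^ q)) * w.1 2 ^ q = 0
      ring
  · simp only [Fin.mk_one] at hd
    refine ⟨⟨![c * w.1 2 ^ q, 0, -(c * w.1 0 ^ q)], ?_⟩, rfl, ?_⟩
    · rw [herm3]
      show (c * w.1 2 ^ q) * (c * w.1 2 ^ q) ^ q + (0 : F) * 0 ^ q +
        (-(c * w.1 0 ^ q)) * (-(c * w.1 0 ^ q)) ^ q = 1
      rw [e0, e1, e2]
      linear_combination (c * c ^ q) * hw - (c * c ^ q) * hd + hcd
    · rw [herm3]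
      show (c * w.1 2 ^ q) * w.1 0 ^ q + (0 : F) * w.1 1 ^ q +
        (-(c * w.1 0 ^ q)) * w.1 2 ^ q = 0
      ring
  · simp only [Fin.reduceFinMk] at hd
    refine ⟨⟨![c * w.1 1 ^ q, -(c * w.1 0 ^ q), 0], ?_⟩, rfl, ?_⟩
    · rw [herm3]
      show (c * w.1 1 ^ q) * (c * w.1 1 ^ q) ^ q +
        (-(c * w.1 0 ^ q)) * (-(c * w.1 0 ^ q)) ^ q + (0 : F) * 0 ^ q = 1
      rw [e0, e1, e2]
      linear_combination (c * c ^ q) * hw - (c * c ^ q) * hd + hcd
    · rw [herm3]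
      show (c * w.1 1 ^ q) * w.1 0 ^ q + (-(c * w.1 0 ^ q)) * w.1 1 ^ q +
        (0 : F) * w.1 2 ^ q = 0
      ring

theorem exists_mid_iff (hq : Odd q) (hF : Fintype.card F = q ^ 2) (w : N1 F q)
    (hnc : ¬ Commute (rho hF (eN hF 0)) (rho hF w)) :
    (∃ y : SU 3 F q, y ≠ 1 ∧ y * y = 1 ∧ Commute (rho hF (eN hF 0)) y ∧ Commute y (rho hF w)) ↔
      w.1 0 * w.1 0 ^ q ≠ 1 := by
  constructor
  · rintro ⟨y, hy, hy2, c1, c2⟩ hN
    obtain ⟨u, rfl⟩ := exists_rho hq hF y hy hy2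
    have hu0 : u.1 0 = 0 := by
      rcases (commute_e0_iff hq hF u).mp c1 with h | h
      · exact h
      · exfalso
        apply hnc
        rw [← (rho_eq_e0_iff hq hF u).mpr h]
        exact c2
    have huw : hermForm 3 F q u.1 w.1 = 0 := by
      rcases (commute_rho_iff hq hF u w).mp c2 with h | h
      · exact h
      · exfalso
        apply hnc
        rw [h]
        exact c1
    apply hnc
    rw [commute_e0_iff hq hF]
    right
    have hw := w.2
    have hu := u.2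
    rw [herm3] at hw hu huw
    rw [hu0] at hu huw
    have huw' := congrArg (fun x => x ^ q) huw
    simp only [add_pow_q hF, mul_pow, pow_q_q hF, zero_pow (q_ne_zero hF)] at huw'
    have h1 : w.1 1 * w.1 1 ^ q = 0 := by
      linear_combination (u.1 1 ^ q * w.1 1) * huw - (u.1 2 * w.1 2 ^ q) * huw'
        + (u.1 2 * u.1 2 ^ q) * hw - (w.1 1 * w.1 1 ^ q) * hu
        - (u.1 2 * u.1 2 ^ q) * hN
    have h2 : w.1 2 * w.1 2 ^ q = 0 := by
      linear_combination hw - hN - h1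
    rw [tail_eq_zero_iff]
    exact ⟨(norm_eq_zero_iff hF _).mp h1, (norm_eq_zero_iff hF _).mp h2⟩
  · intro hN
    obtain ⟨u, hu0, huw⟩ := perp3 hq hF w 0 hN
    refine ⟨rho hF u, rho_ne_one hq hF u, rho_mul_self hF u, ?_, ?_⟩
    · rw [commute_e0_iff hq hF]
      exact Or.inl hu0
    · exact commute_rho_of_orth hF u w huw

/-- every involution is at distance at most three from `rho e0` -/
theorem exists_path (hq : Odd q) (hF : Fintype.card F = q ^ 2) (w : N1 F q) :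
    ∃ y z : SU 3 F q, y ≠ 1 ∧ y * y = 1 ∧ z ≠ 1 ∧ z * z = 1 ∧
      Commute (rho hF (eN hF 0)) y ∧ Commute y z ∧ Commute z (rho hF w) := by
  have h2 : (2 : F) ≠ 0 := two_ne_zero' hq hF
  have key : ∀ i : Fin 3, w.1 i * w.1 i ^ q ≠ 1 →
      ∃ y z : SU 3 F q, y ≠ 1 ∧ y * y = 1 ∧ z ≠ 1 ∧ z * z = 1 ∧
        Commute (rho hF (eN hF 0)) y ∧ Commute y z ∧ Commute z (rho hF w) := by
    intro i hi
    obtain ⟨u, hu0, huw⟩ := perp3 hq hF w i hi
    by_cases hi0 : i = 0
    · subst hi0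
      refine ⟨rho hF u, rho hF u, rho_ne_one hq hF u, rho_mul_self hF u, rho_ne_one hq hF u,
        rho_mul_self hF u, ?_, Commute.refl _, commute_rho_of_orth hF u w huw⟩
      rw [commute_e0_iff hq hF]
      exact Or.inl hu0
    · refine ⟨rho hF (eN hF i), rho hF u, rho_ne_one hq hF _, rho_mul_self hF _,
        rho_ne_one hq hF u, rho_mul_self hF u, ?_, ?_, commute_rho_of_orth hF u w huw⟩
      · apply commute_rho_of_orth
        have : hermForm 3 F q (eN hF 0).1 (eN hF i).1 = (eN hF i).1 0 ^ q :=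
          herm_single_left hF _ 0
        rw [this]
        simp [eN, Pi.single_eq_of_ne (Ne.symm hi0), zero_pow (q_ne_zero hF)]
      · apply commute_rho_of_orth
        have : hermForm 3 F q (eN hF i).1 u.1 = u.1 i ^ q := herm_single_left hF _ i
        rw [this, hu0, zero_pow (q_ne_zero hF)]
  by_cases h0 : w.1 0 * w.1 0 ^ q = 1
  · by_cases h1 : w.1 1 * w.1 1 ^ q = 1
    · apply key 2
      intro h3
      have hw := w.2
      rw [herm3] at hw
      apply h2
      linear_combination hw - h0 - h1 - h3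
    · exact key 1 h1
  · exact key 0 h0

end Cfsg.Agent.helper17.SU3
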