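import Mathlib
import Cfsg.Agent.Lib_helper17_SU3e

set_option autoImplicit false
set_option linter.unusedSectionVars false

/-!
# The commuting involution graph statement and its transport along isomorphisms
-/

namespace Cfsg.Agent.helper17.SU3

open Cfsg Matrix
open Cfsg.Agent.helper11.HermCount Cfsg.Agent.helper11.Unitary

/-- the commuting involution graph statement around `t` -/
def Stmt (G : Type*) [Group G] (t : G) (a b c : ℕ) : Prop :=
    Nat.card {x : G // x ≠ 1 ∧ x * x = 1 ∧ x ≠ t ∧ Commute t x} = a ∧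
    Nat.card {x : G // x ≠ 1 ∧ x * x = 1 ∧ ¬ Commute t x ∧
        ∃ y : G, y ≠ 1 ∧ y * y = 1 ∧ Commute t y ∧ Commute y x} = b ∧
    Nat.card {x : G // x ≠ 1 ∧ x * x = 1 ∧ ¬ Commute t x ∧
        ∀ y : G, y ≠ 1 → y * y = 1 → ¬ (Commute t y ∧ Commute y x)} = c ∧
    ∀ x : G, x ≠ 1 → x * x = 1 →
      ∃ y z : G, y ≠ 1 ∧ y * y = 1 ∧ z ≠ 1 ∧ z * z = 1 ∧
        Commute t y ∧ Commute y z ∧ Commute z x

section transport
variable {G H : Type*} [Group G] [Group H] (φ : G ≃* H)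

theorem ne_one_iff_map (x : G) : x ≠ 1 ↔ φ x ≠ 1 := by simp

theorem sq_iff_map (x : G) : x * x = 1 ↔ φ x * φ x = 1 := by
  rw [← map_mul, MulEquiv.map_eq_one_iff]

theorem commute_iff_map (a b : G) : Commute a b ↔ Commute (φ a) (φ b) :=
  ⟨fun h => h.map φ, fun h => by
    have := h.map φ.symm
    simpa using this⟩

theorem exists_iff_map (Q : G → Prop) (Q' : H → Prop) (hQ : ∀ y, Q y ↔ Q' (φ y)) :
    (∃ y, Q y) ↔ ∃ y', Q' y' :=
  ⟨fun ⟨y, hy⟩ => ⟨φ y, (hQ y).mp hy⟩, fun ⟨y', hy'⟩ => ⟨φ.symm y', (hQ _).mpr (by simpa using hy')⟩⟩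

theorem forall_iff_map (Q : G → Prop) (Q' : H → Prop) (hQ : ∀ y, Q y ↔ Q' (φ y)) :
    (∀ y, Q y) ↔ ∀ y', Q' y' :=
  ⟨fun h y' => by have := (hQ (φ.symm y')).mp (h _); simpa using this, fun h y => (hQ y).mpr (h _)⟩

theorem Stmt_map (t : G) (a b c : ℕ) (h : Stmt G t a b c) : Stmt H (φ t) a b c := by
  obtain ⟨h1, h2, h3, h4⟩ := h
  have hmid : ∀ x : G, (∃ y : G, y ≠ 1 ∧ y * y = 1 ∧ Commute t y ∧ Commute y x) ↔
      ∃ y : H, y ≠ 1 ∧ y * y = 1 ∧ Commute (φ t) y ∧ Commute y (φ x) := by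
    intro x
    apply exists_iff_map φ
    intro y
    rw [ne_one_iff_map φ y, sq_iff_map φ y, commute_iff_map φ t y, commute_iff_map φ y x]
  refine ⟨?_, ?_, ?_, ?_⟩
  · rw [← h1]
    symm
    apply Nat.card_congr
    apply φ.toEquiv.subtypeEquiv
    intro x
    rw [ne_one_iff_map φ x, sq_iff_map φ x, commute_iff_map φ t x, φ.injective.ne_iff.symm]
    rfl
  · rw [← h2]
    symm
    apply Nat.card_congr
    apply φ.toEquiv.subtypeEquiv
    intro x
    rw [ne_one_iff_map φ x, sq_iff_map φ x, commute_iff_map φ t x, hmid x]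
    rfl
  · rw [← h3]
    symm
    apply Nat.card_congr
    apply φ.toEquiv.subtypeEquiv
    intro x
    have hall : (∀ y : G, y ≠ 1 → y * y = 1 → ¬ (Commute t y ∧ Commute y x)) ↔
        ∀ y : H, y ≠ 1 → y * y = 1 → ¬ (Commute (φ t) y ∧ Commute y (φ x)) := by
      apply forall_iff_map φ
      intro y
      rw [ne_one_iff_map φ y, sq_iff_map φ y, commute_iff_map φ t y, commute_iff_map φ y x]
    rw [ne_one_iff_map φ x, sq_iff_map φ x, commute_iff_map φ t x, hall]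
    rfl
  · intro x' hx' hx2'
    obtain ⟨x, rfl⟩ := φ.surjective x'
    obtain ⟨y, z, hy, hy2, hz, hz2, c1, c2, c3⟩ :=
      h4 x ((ne_one_iff_map φ x).mpr hx') ((sq_iff_map φ x).mpr hx2')
    exact ⟨φ y, φ z, (ne_one_iff_map φ y).mp hy, (sq_iff_map φ y).mp hy2,
      (ne_one_iff_map φ z).mp hz, (sq_iff_map φ z).mp hz2, (commute_iff_map φ t y).mp c1,
      (commute_iff_map φ y z).mp c2, (commute_iff_map φ z x).mp c3⟩

end transport

variable {F : Type*} [Field F] [Fintype F] {q : ℕ}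

/-- counting a class of involutions described by the first coordinate -/
theorem count_e0 [DecidableEq F] (hq : Odd q) (hF : Fintype.card F = q ^ 2) (χ : F → Prop)
    [DecidablePred χ] (φ : SU 3 F q → Prop) (hφ : ∀ x, φ x → x ≠ 1 ∧ x * x = 1)
    (hchar : ∀ w : N1 F q, φ (rho hF w) ↔ χ (w.1 0) ∧ Fin.tail w.1 ≠ 0) :
    Nat.card {x : SU 3 F q // φ x} * (q + 1) =
      ∑ c : {c : F // χ c},
        Nat.card {w : Fin 2 → F // hermForm 2 F q w w = 1 - c.1 * c.1 ^ q ∧ w ≠ 0} := by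
  rw [← card_vec_eq hq hF φ hφ, ← fiber_sum χ]
  apply Nat.card_congr
  refine (Equiv.subtypeSubtypeEquivSubtypeExists _ _).trans (Equiv.subtypeEquivRight ?_)
  intro w
  constructor
  · rintro ⟨hw, h⟩
    exact ⟨hw, (hchar ⟨w, hw⟩).mp h⟩
  · rintro ⟨hw, h⟩
    exact ⟨hw, (hchar ⟨w, hw⟩).mpr h⟩

theorem card_n2'_ne [DecidableEq F] (hF : Fintype.card F = q ^ 2) (d : F) (hd : d ^ q = d)
    (hd0 : d ≠ 0) :
    Nat.card {w : Fin 2 → F // hermForm 2 F q w w = d ∧ w ≠ 0} + q * (q + 1) = (q + 1) * q ^ 2 := by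
  have h1 := card_n2' (q := q) d
  have h2 := card_n2 hF d hd
  rw [if_neg hd0] at h1 h2
  rw [add_zero] at h1
  rw [h1]
  exact h2

theorem card_n2'_zero [DecidableEq F] (hF : Fintype.card F = q ^ 2) :
    Nat.card {w : Fin 2 → F // hermForm 2 F q w w = 0 ∧ w ≠ 0} + (q + 1) = (q + 1) * q ^ 2 := by
  have h1 := card_n2' (q := q) (0 : F)
  have h2 := card_n2 hF (0 : F) (zero_pow (q_ne_zero hF))
  rw [if_pos rfl] at h1 h2
  omega

theorem not_commute_e0_iff (hq : Odd q) (hF : Fintype.card F = q ^ 2) (w : N1 F q) :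
    ¬ Commute (rho hF (eN hF 0)) (rho hF w) ↔ w.1 0 ≠ 0 ∧ Fin.tail w.1 ≠ 0 := by
  rw [commute_e0_iff hq hF, not_or]

theorem card_A [DecidableEq F] (hq : Odd q) (hF : Fintype.card F = q ^ 2) :
    Nat.card {x : SU 3 F q // x ≠ 1 ∧ x * x = 1 ∧ x ≠ rho hF (eN hF 0) ∧
      Commute (rho hF (eN hF 0)) x} * (q + 1) + q * (q + 1) = (q + 1) * q ^ 2 := by
  have h := count_e0 hq hF (fun c => c * c ^ q = 0)
    (fun x => x ≠ 1 ∧ x * x = 1 ∧ x ≠ rho hF (eN hF 0) ∧ Commute (rho hF (eN hF 0)) x)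
    (fun x hx => ⟨hx.1, hx.2.1⟩)
    (by
      intro w
      simp only [rho_ne_one hq hF w, rho_mul_self hF w, ne_eq, not_false_eq_true, true_and,
        rho_eq_e0_iff hq hF, commute_e0_iff hq hF, norm_eq_zero_iff hF]
      tauto)
  have h5 : ∑ c : {c : F // c * c ^ q = 0},
      Nat.card {w : Fin 2 → F // hermForm 2 F q w w = 1 - c.1 * c.1 ^ q ∧ w ≠ 0} =
      1 * Nat.card {w : Fin 2 → F // hermForm 2 F q w w = 1 ∧ w ≠ 0} := by
    rw [Finset.sum_congr rfl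
      (g := fun _ => Nat.card {w : Fin 2 → F // hermForm 2 F q w w = 1 ∧ w ≠ 0})]
    · rw [Finset.sum_const, Finset.card_univ, smul_eq_mul, ← Nat.card_eq_fintype_card,
        card_norm_fiber hF 0 (zero_pow (q_ne_zero hF)), if_pos rfl]
    · intro c _
      rw [c.2, sub_zero]
  rw [h, h5, one_mul]
  exact card_n2'_ne hF (1 : F) (one_pow q) one_ne_zero

theorem card_B [DecidableEq F] (hq : Odd q) (hF : Fintype.card F = q ^ 2) :
    ∃ m : ℕ, m + q * (q + 1) = (q + 1) * q ^ 2 ∧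
    Nat.card {x : SU 3 F q // x ≠ 1 ∧ x * x = 1 ∧ ¬ Commute (rho hF (eN hF 0)) x ∧
      ∃ y : SU 3 F q, y ≠ 1 ∧ y * y = 1 ∧ Commute (rho hF (eN hF 0)) y ∧ Commute y x} * (q + 1)
      = Nat.card {c : F // c ≠ 0 ∧ c * c ^ q ≠ 1} * m := by
  have h := count_e0 hq hF (fun c => c ≠ 0 ∧ c * c ^ q ≠ 1)
    (fun x => x ≠ 1 ∧ x * x = 1 ∧ ¬ Commute (rho hF (eN hF 0)) x ∧
      ∃ y : SU 3 F q, y ≠ 1 ∧ y * y = 1 ∧ Commute (rho hF (eN hF 0)) y ∧ Commute y x)
    (fun x hx => ⟨hx.1, hx.2.1⟩)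
    (by
      intro w
      simp only [rho_ne_one hq hF w, rho_mul_self hF w, ne_eq, not_false_eq_true, true_and]
      constructor
      · rintro ⟨hnc, hex⟩
        have := (exists_mid_iff hq hF w hnc).mp hex
        rw [not_commute_e0_iff hq hF] at hnc
        exact ⟨⟨hnc.1, this⟩, hnc.2⟩
      · rintro ⟨⟨h0, hN⟩, ht⟩
        have hnc : ¬ Commute (rho hF (eN hF 0)) (rho hF w) :=
          (not_commute_e0_iff hq hF w).mpr ⟨h0, ht⟩
        exact ⟨hnc, (exists_mid_iff hq hF w hnc).mpr hN⟩)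
  refine ⟨(q + 1) * q ^ 2 - q * (q + 1), ?_, ?_⟩
  · have : q * (q + 1) ≤ (q + 1) * q ^ 2 := by nlinarith [two_le_q hF]
    omega
  · rw [h]
    rw [Finset.sum_congr rfl (g := fun _ => (q + 1) * q ^ 2 - q * (q + 1))]
    · rw [Finset.sum_const, Finset.card_univ, smul_eq_mul, Nat.card_eq_fintype_card]
    · intro c _
      have hd0 : 1 - c.1 * c.1 ^ q ≠ 0 := fun h0 => c.2.2 (sub_eq_zero.mp h0).symm
      have := card_n2'_ne hF (1 - c.1 * c.1 ^ q) (fix_of_norm hF c.1) hd0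
      omega

theorem card_C [DecidableEq F] (hq : Odd q) (hF : Fintype.card F = q ^ 2) :
    Nat.card {x : SU 3 F q // x ≠ 1 ∧ x * x = 1 ∧ ¬ Commute (rho hF (eN hF 0)) x ∧
      ∀ y : SU 3 F q, y ≠ 1 → y * y = 1 → ¬ (Commute (rho hF (eN hF 0)) y ∧ Commute y x)} + (q + 1)
      = (q + 1) * q ^ 2 := by
  have h := count_e0 hq hF (fun c => c * c ^ q = 1)
    (fun x => x ≠ 1 ∧ x * x = 1 ∧ ¬ Commute (rho hF (eN hF 0)) x ∧
      ∀ y : SU 3 F q, y ≠ 1 → y * y = 1 → ¬ (Commute (rho hF (eN hF 0)) y ∧ Commute y x))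
    (fun x hx => ⟨hx.1, hx.2.1⟩)
    (by
      intro w
      simp only [rho_ne_one hq hF w, rho_mul_self hF w, ne_eq, not_false_eq_true, true_and]
      constructor
      · rintro ⟨hnc, hall⟩
        have hnex : ¬ ∃ y : SU 3 F q, y ≠ 1 ∧ y * y = 1 ∧ Commute (rho hF (eN hF 0)) y ∧
            Commute y (rho hF w) := by
          rintro ⟨y, hy, hy2, c1, c2⟩
          exact hall y hy hy2 ⟨c1, c2⟩
        rw [exists_mid_iff hq hF w hnc, not_not] at hnex
        rw [not_commute_e0_iff hq hF] at hnc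
        exact ⟨hnex, hnc.2⟩
      · rintro ⟨hN, ht⟩
        have h0 : w.1 0 ≠ 0 := by
          intro h0
          rw [h0, zero_mul] at hN
          exact zero_ne_one hN
        have hnc : ¬ Commute (rho hF (eN hF 0)) (rho hF w) :=
          (not_commute_e0_iff hq hF w).mpr ⟨h0, ht⟩
        refine ⟨hnc, ?_⟩
        intro y hy hy2 hc
        exact (exists_mid_iff hq hF w hnc).mp ⟨y, hy, hy2, hc.1, hc.2⟩ hN)
  have h5 : ∑ c : {c : F // c * c ^ q = 1},
      Nat.card {w : Fin 2 → F // hermForm 2 F q w w = 1 - c.1 * c.1 ^ q ∧ w ≠ 0} =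
      (q + 1) * Nat.card {w : Fin 2 → F // hermForm 2 F q w w = 0 ∧ w ≠ 0} := by
    rw [Finset.sum_congr rfl
      (g := fun _ => Nat.card {w : Fin 2 → F // hermForm 2 F q w w = 0 ∧ w ≠ 0})]
    · rw [Finset.sum_const, Finset.card_univ, smul_eq_mul, ← Nat.card_eq_fintype_card,
        card_U1 hF]
    · intro c _
      rw [c.2, sub_self]
  rw [h5, mul_comm] at h
  have h6 := Nat.eq_of_mul_eq_mul_left (by omega) h
  rw [h6]
  exact card_n2'_zero hF

end Cfsg.Agent.helper17.SU3
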