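import Mathlib

set_option autoImplicit false

namespace Cfsg.Agent.helper17

/-- One level of a verified stabilizer chain (Schreier–Sims): `H` is a subgroup of the stabilizer
of `β` contained in `closure S`, `U` is a list of elements of `closure S` containing `1` whose images
of `β` are distinct, and every Schreier product `s * u` lies in `U * H`.  Then
`closure S = U * H`, its order is `|U| * |H|`, and the stabilizer of `β` in `closure S` is `H`. -/
theorem schreier_step {α : Type*} [Finite α] (S : Set (Equiv.Perm α)) (H : Subgroup (Equiv.Perm α))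
    (β : α) (U : List (Equiv.Perm α))
    (hHβ : ∀ h ∈ H, h β = β) (hHS : H ≤ Subgroup.closure S)
    (hUS : ∀ u ∈ U, u ∈ Subgroup.closure S) (h1U : (1 : Equiv.Perm α) ∈ U)
    (hinj : (U.map (fun u => u β)).Nodup)
    (hsch : ∀ s ∈ S, ∀ u ∈ U, ∃ u' ∈ U, u'⁻¹ * (s * u) ∈ H) :
    (∀ g, g ∈ Subgroup.closure S ↔ ∃ u ∈ U, ∃ h ∈ H, g = u * h) ∧
    Nat.card (Subgroup.closure S) = U.length * Nat.card H ∧
    (∀ g ∈ Subgroup.closure S, g β = β → g ∈ H) ∧
    (∀ y : α, (∃ g ∈ Subgroup.closure S, g β = y) ↔ ∃ u ∈ U, u β = y) := by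
  classical
  have key : ∀ g ∈ Subgroup.closure S, ∃ u ∈ U, ∃ h ∈ H, g = u * h := by
    intro g hg
    have hg' : g ∈ Submonoid.closure S := by
      rw [← Subgroup.closure_toSubmonoid_of_finite]; exact hg
    induction hg' using Submonoid.closure_induction_left with
    | one => exact ⟨1, h1U, 1, H.one_mem, by simp⟩
    | mul_left s hs y hy ih =>
      have hy' : y ∈ Subgroup.closure S := by
        rw [← Subgroup.mem_toSubmonoid, Subgroup.closure_toSubmonoid_of_finite]; exact hy
      obtain ⟨u, hu, h, hh, rfl⟩ := ih hy'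
      obtain ⟨u', hu', hmem⟩ := hsch s hs u hu
      exact ⟨u', hu', (u'⁻¹ * (s * u)) * h, H.mul_mem hmem hh, by group⟩
  have hinjU : ∀ u ∈ U, ∀ u' ∈ U, u β = u' β → u = u' := List.inj_on_of_nodup_map hinj
  have hiff : ∀ g, g ∈ Subgroup.closure S ↔ ∃ u ∈ U, ∃ h ∈ H, g = u * h := by
    intro g
    constructor
    · exact key g
    · rintro ⟨u, hu, h, hh, rfl⟩
      exact Subgroup.mul_mem _ (hUS u hu) (hHS hh)
  refine ⟨hiff, ?_, ?_, ?_⟩
  · -- cardinality
    have hUnodup : U.Nodup := List.Nodup.of_map _ hinj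
    let f : {u // u ∈ U} × H → Subgroup.closure S := fun p =>
      ⟨p.1.1 * p.2.1, (hiff _).mpr ⟨p.1.1, p.1.2, p.2.1, p.2.2, rfl⟩⟩
    have hf : Function.Bijective f := by
      constructor
      · rintro ⟨⟨u, hu⟩, ⟨h, hh⟩⟩ ⟨⟨u', hu'⟩, ⟨h', hh'⟩⟩ heq
        have h1 : u * h = u' * h' := congrArg Subtype.val heq
        have h2 : u β = u' β := by
          have := congrArg (fun g : Equiv.Perm α => g β) h1
          simpa [Equiv.Perm.mul_apply, hHβ h hh, hHβ h' hh'] using this
        have h3 : u = u' := hinjU u hu u' hu' h2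
        subst h3
        have h4 : h = h' := mul_left_cancel h1
        subst h4
        rfl
      · rintro ⟨g, hg⟩
        obtain ⟨u, hu, h, hh, rfl⟩ := key g hg
        exact ⟨(⟨u, hu⟩, ⟨h, hh⟩), rfl⟩
    rw [← Nat.card_congr (Equiv.ofBijective f hf), Nat.card_prod]
    congr 1
    have : Nat.card {u // u ∈ U} = Nat.card {u // u ∈ U.toFinset} :=
      Nat.card_congr (Equiv.subtypeEquivRight (fun x => by simp))
    rw [this, Nat.card_eq_fintype_card, Fintype.card_coe, List.toFinset_card_of_nodup hUnodup]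
  · intro g hg hgβ
    obtain ⟨u, hu, h, hh, rfl⟩ := key g hg
    have h1 : u β = (1 : Equiv.Perm α) β := by
      have : (u * h) β = β := hgβ
      rw [Equiv.Perm.mul_apply, hHβ h hh] at this
      simpa using this
    have h2 : u = 1 := hinjU u hu 1 h1U h1
    rw [h2, one_mul]; exact hh
  · intro y
    constructor
    · rintro ⟨g, hg, rfl⟩
      obtain ⟨u, hu, h, hh, rfl⟩ := key g hg
      exact ⟨u, hu, by rw [Equiv.Perm.mul_apply, hHβ h hh]⟩
    · rintro ⟨u, hu, rfl⟩
      exact ⟨u, hUS u hu, rfl⟩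

/-- evaluation of a word in a list of generators -/
def evalWord {G : Type*} [Group G] (gl : List G) (w : List ℕ) : G :=
  (w.map (fun k => gl.getD k 1)).prod

theorem evalWord_nil {G : Type*} [Group G] (gl : List G) : evalWord gl [] = 1 := rfl

theorem evalWord_cons {G : Type*} [Group G] (gl : List G) (k : ℕ) (w : List ℕ) :
    evalWord gl (k :: w) = gl.getD k 1 * evalWord gl w := by
  simp [evalWord]

theorem evalWord_append {G : Type*} [Group G] (gl : List G) (w w' : List ℕ) :
    evalWord gl (w ++ w') = evalWord gl w * evalWord gl w' := by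
  simp [evalWord]

theorem evalWord_mem {G : Type*} [Group G] (gl : List G) (K : Subgroup G) (w : List ℕ)
    (h : ∀ k ∈ w, gl.getD k 1 ∈ K) : evalWord gl w ∈ K := by
  unfold evalWord
  apply Subgroup.list_prod_mem
  intro x hx
  obtain ⟨k, hk, rfl⟩ := List.mem_map.mp hx
  exact h k hk

end Cfsg.Agent.helper17
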