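import Mathlib

set_option autoImplicit false

namespace Cfsg.Agent.helper17.SpEmb

open Matrix

variable {R : Type*} [CommRing R]

section general

variable {m l : Type*} [Fintype m] [DecidableEq m] [Fintype l] [DecidableEq l]

lemma mem_of_submatrix (ε : l ⊕ l ≃ m) (J' : Matrix m m R) (hJ : J'.submatrix ε ε = J l R)
    (M : Matrix m m R) (hM : M * J' * Mᵀ = J') : M.submatrix ε ε ∈ symplecticGroup l R := by
  rw [SymplecticGroup.mem_iff, ← hJ, Matrix.transpose_submatrix, Matrix.submatrix_mul_equiv,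
    Matrix.submatrix_mul_equiv, hM]

lemma submatrix_equiv_injective (ε : l ≃ m) :
    Function.Injective (fun M : Matrix m m R => M.submatrix ε ε) := by
  intro M N h
  ext i j
  have := congrFun (congrFun h (ε.symm i)) (ε.symm j)
  simpa using this

end general

section block

variable (l o : Type*) [Fintype l] [DecidableEq l] [Fintype o] [DecidableEq o]

lemma blockDiagonal_J :
    (blockDiagonal (fun _ : o => J l R)).submatrix (Equiv.sumProdDistrib l l o).symm
      (Equiv.sumProdDistrib l l o).symm = J (l × o) R := by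
  ext (⟨i, k⟩ | ⟨i, k⟩) (⟨j, k'⟩ | ⟨j, k'⟩)
  · simp [Matrix.J, blockDiagonal_apply]
  · by_cases h : k = k'
    · subst h
      by_cases h2 : i = j
      · subst h2; simp [Matrix.J, blockDiagonal_apply]
      · have : (i, k) ≠ (j, k) := fun h => h2 (Prod.mk.inj h).1
        simp [Matrix.J, blockDiagonal_apply, h2, this]
    · have : (i, k) ≠ (j, k') := fun h' => h (Prod.mk.inj h').2
      simp [Matrix.J, blockDiagonal_apply, h, this]
  · by_cases h : k = k'
    · subst h
      by_cases h2 : i = j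
      · subst h2; simp [Matrix.J, blockDiagonal_apply]
      · have : (i, k) ≠ (j, k) := fun h => h2 (Prod.mk.inj h).1
        simp [Matrix.J, blockDiagonal_apply, h2, this]
    · have : (i, k) ≠ (j, k') := fun h' => h (Prod.mk.inj h').2
      simp [Matrix.J, blockDiagonal_apply, h, this]
  · simp [Matrix.J, blockDiagonal_apply]

/-- block diagonal embedding `Sp(l)^o → Sp(l × o)` -/
def blockMap : (o → symplecticGroup l R) →* symplecticGroup (l × o) R where
  toFun A := ⟨(blockDiagonal (fun k => (A k : Matrix (l ⊕ l) (l ⊕ l) R))).submatrix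
      (Equiv.sumProdDistrib l l o).symm (Equiv.sumProdDistrib l l o).symm, by
    apply mem_of_submatrix _ _ (blockDiagonal_J l o)
    rw [blockDiagonal_transpose, ← blockDiagonal_mul, ← blockDiagonal_mul]
    congr 1
    funext k
    exact SymplecticGroup.mem_iff.mp (A k).2⟩
  map_one' := by
    apply Subtype.ext
    show (blockDiagonal (fun k => (1 : Matrix (l ⊕ l) (l ⊕ l) R))).submatrix _ _ = 1
    have : (fun _ : o => (1 : Matrix (l ⊕ l) (l ⊕ l) R)) = 1 := rfl
    rw [this, blockDiagonal_one, Matrix.submatrix_one_equiv]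
  map_mul' A B := by
    apply Subtype.ext
    show (blockDiagonal (fun k => (A k : Matrix (l ⊕ l) (l ⊕ l) R) * (B k : Matrix (l ⊕ l) (l ⊕ l) R))).submatrix _ _ = _ * _
    rw [blockDiagonal_mul, ← Matrix.submatrix_mul_equiv _ _ _ (Equiv.sumProdDistrib l l o).symm]

lemma blockMap_injective : Function.Injective (blockMap (R := R) l o) := by
  intro A B h
  have h1 := congrArg Subtype.val h
  have h2 := submatrix_equiv_injective (R := R) (Equiv.sumProdDistrib l l o).symm h1
  have h3 := blockDiagonal_injective h2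
  funext k
  apply Subtype.ext
  exact congrFun h3 k

end block

section pad

variable (l l' : Type*) [Fintype l] [DecidableEq l] [Fintype l'] [DecidableEq l']

omit [Fintype l] [Fintype l'] in
lemma fromBlocks_J :
    (fromBlocks (J l R) 0 0 (J l' R)).submatrix (Equiv.sumSumSumComm l l' l l')
      (Equiv.sumSumSumComm l l' l l') = J (l ⊕ l') R := by
  ext ((i | i) | (i | i)) ((j | j) | (j | j)) <;> simp [Matrix.J, Matrix.one_apply]

/-- direct sum embedding `Sp(l) × Sp(l') → Sp(l ⊕ l')` -/
def sumMap : symplecticGroup l R × symplecticGroup l' R →* symplecticGroup (l ⊕ l') R where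
  toFun A := ⟨(fromBlocks (A.1 : Matrix (l ⊕ l) (l ⊕ l) R) 0 0
      (A.2 : Matrix (l' ⊕ l') (l' ⊕ l') R)).submatrix
      (Equiv.sumSumSumComm l l' l l') (Equiv.sumSumSumComm l l' l l'), by
    apply mem_of_submatrix _ _ (fromBlocks_J l l')
    rw [fromBlocks_transpose, fromBlocks_multiply, fromBlocks_multiply]
    simp only [Matrix.mul_zero, Matrix.zero_mul, add_zero, zero_add, Matrix.transpose_zero]
    rw [SymplecticGroup.mem_iff.mp A.1.2, SymplecticGroup.mem_iff.mp A.2.2]⟩
  map_one' := by
    apply Subtype.ext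
    show (fromBlocks (1 : Matrix (l ⊕ l) (l ⊕ l) R) 0 0 (1 : Matrix (l' ⊕ l') (l' ⊕ l') R)).submatrix _ _ = 1
    rw [fromBlocks_one, Matrix.submatrix_one_equiv]
  map_mul' A B := by
    apply Subtype.ext
    show (fromBlocks ((A.1 : Matrix (l ⊕ l) (l ⊕ l) R) * (B.1 : Matrix (l ⊕ l) (l ⊕ l) R)) 0 0
      ((A.2 : Matrix (l' ⊕ l') (l' ⊕ l') R) * (B.2 : Matrix (l' ⊕ l') (l' ⊕ l') R))).submatrix _ _ = _ * _
    have : fromBlocks ((A.1 : Matrix (l ⊕ l) (l ⊕ l) R) * (B.1 : Matrix (l ⊕ l) (l ⊕ l) R)) 0 0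
        ((A.2 : Matrix (l' ⊕ l') (l' ⊕ l') R) * (B.2 : Matrix (l' ⊕ l') (l' ⊕ l') R)) =
        fromBlocks (A.1 : Matrix (l ⊕ l) (l ⊕ l) R) 0 0 (A.2 : Matrix (l' ⊕ l') (l' ⊕ l') R) *
        fromBlocks (B.1 : Matrix (l ⊕ l) (l ⊕ l) R) 0 0 (B.2 : Matrix (l' ⊕ l') (l' ⊕ l') R) := by
      rw [fromBlocks_multiply]
      simp
    rw [this, ← Matrix.submatrix_mul_equiv _ _ _ (Equiv.sumSumSumComm l l' l l')]

lemma sumMap_injective : Function.Injective (sumMap (R := R) l l') := by
  intro A B h
  have h1 := congrArg Subtype.val h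
  have h2 := submatrix_equiv_injective (R := R) (Equiv.sumSumSumComm l l' l l') h1
  rw [Matrix.fromBlocks_inj] at h2
  apply Prod.ext
  · exact Subtype.ext h2.1
  · exact Subtype.ext h2.2.2.2

/-- padding `Sp(l) → Sp(l ⊕ l')` -/
def padMap : symplecticGroup l R →* symplecticGroup (l ⊕ l') R :=
  (sumMap l l').comp (MonoidHom.inl _ _)

lemma padMap_injective : Function.Injective (padMap (R := R) l l') := by
  intro A B h
  have := sumMap_injective l l' h
  exact (Prod.ext_iff.mp this).1

end pad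

section reindex

variable {l l' : Type*} [Fintype l] [DecidableEq l] [Fintype l'] [DecidableEq l']

omit [Fintype l] [Fintype l'] in
lemma sumCongr_J (e : l' ≃ l) :
    (J l R).submatrix (e.sumCongr e) (e.sumCongr e) = J l' R := by
  ext (i | i) (j | j) <;> simp [Matrix.J, Matrix.one_apply]

/-- reindexing `Sp(l) → Sp(l')` -/
def reindexMap (e : l' ≃ l) : symplecticGroup l R →* symplecticGroup l' R where
  toFun A := ⟨(A : Matrix (l ⊕ l) (l ⊕ l) R).submatrix (e.sumCongr e) (e.sumCongr e),
    mem_of_submatrix _ _ (sumCongr_J e) _ (SymplecticGroup.mem_iff.mp A.2)⟩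
  map_one' := by
    apply Subtype.ext
    show (1 : Matrix (l ⊕ l) (l ⊕ l) R).submatrix _ _ = 1
    rw [Matrix.submatrix_one_equiv]
  map_mul' A B := by
    apply Subtype.ext
    show ((A : Matrix (l ⊕ l) (l ⊕ l) R) * (B : Matrix (l ⊕ l) (l ⊕ l) R)).submatrix _ _ = _ * _
    rw [← Matrix.submatrix_mul_equiv _ _ _ (e.sumCongr e)]

lemma reindexMap_injective (e : l' ≃ l) : Function.Injective (reindexMap (R := R) e) := by
  intro A B h
  have h1 := congrArg Subtype.val h
  exact Subtype.ext (submatrix_equiv_injective (R := R) (e.sumCongr e) h1)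

end reindex

end Cfsg.Agent.helper17.SpEmb
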