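import Mathlib

set_option autoImplicit false
set_option linter.style.haveILetI false
set_option linter.unusedSectionVars false

/-! Derived length: iterated commutators of subgroups, subgroups of `p`-power index in
`p`-groups, and regular wreath products. -/

namespace Cfsg.Agent.helper20.DerLen

open scoped commutatorElement

section Dser

variable {G : Type*} [Group G]

/-- iterated commutator subgroups of a subgroup, inside the ambient group. -/
def dser (H : Subgroup G) : ℕ → Subgroup G
  | 0 => H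
  | n + 1 => ⁅dser H n, dser H n⁆

theorem dser_zero (H : Subgroup G) : dser H 0 = H := rfl

theorem dser_succ (H : Subgroup G) (n : ℕ) : dser H (n + 1) = ⁅dser H n, dser H n⁆ := rfl

theorem dser_top (n : ℕ) : dser (⊤ : Subgroup G) n = derivedSeries G n := by
  induction n with
  | zero => rfl
  | succ n ih => rw [dser_succ, ih, derivedSeries_succ]

theorem dser_mono {H K : Subgroup G} (h : H ≤ K) (n : ℕ) : dser H n ≤ dser K n := by
  induction n with
  | zero => exact h
  | succ n ih => exact Subgroup.commutator_mono ih ih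

theorem map_dser {G' : Type*} [Group G'] (f : G →* G') (H : Subgroup G) (n : ℕ) :
    (dser H n).map f = dser (H.map f) n := by
  induction n with
  | zero => rfl
  | succ n ih => rw [dser_succ, Subgroup.map_commutator, ih, dser_succ]

theorem dser_add (H : Subgroup G) (m n : ℕ) : dser (dser H m) n = dser H (m + n) := by
  induction n with
  | zero => rfl
  | succ n ih => rw [dser_succ, ih, ← add_assoc, dser_succ]

theorem map_derivedSeries_subtype (H : Subgroup G) (n : ℕ) :
    (derivedSeries ↥H n).map H.subtype = dser H n := by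
  rw [← dser_top, map_dser, ← MonoidHom.range_eq_map, Subgroup.range_subtype]

theorem derivedSeries_eq_bot_iff (H : Subgroup G) (n : ℕ) :
    derivedSeries ↥H n = ⊥ ↔ dser H n = ⊥ := by
  rw [← map_derivedSeries_subtype, Subgroup.map_eq_bot_iff_of_injective _ H.subtype_injective]

end Dser

section PIndex

variable {G : Type*} [Group G]

/-- a proper subgroup `S` of a nilpotent group lies properly in a subgroup `S₁` with
`⁅S₁, S₁⁆ ≤ S`. -/
theorem exists_lt_commutator_le [Group.IsNilpotent G] (S : Subgroup G) (hS : S ≠ ⊤) :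
    ∃ S₁ : Subgroup G, S < S₁ ∧ ⁅S₁, S₁⁆ ≤ S := by
  have hlt : S < Subgroup.normalizer (S : Set G) :=
    Group.normalizerCondition_of_isNilpotent S (lt_top_iff_ne_top.mpr hS)
  obtain ⟨y, hyN, hyS⟩ := SetLike.exists_of_lt hlt
  -- work inside the normalizer
  set N : Subgroup G := Subgroup.normalizer (S : Set G) with hN
  haveI : (S.subgroupOf N).Normal := Subgroup.normal_in_normalizer
  let C : Subgroup (↥N ⧸ S.subgroupOf N) :=
    Subgroup.zpowers (QuotientGroup.mk (⟨y, hyN⟩ : ↥N))
  let S₁' : Subgroup ↥N := C.comap (QuotientGroup.mk' (S.subgroupOf N))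
  have hcomm : ⁅S₁', S₁'⁆ ≤ S.subgroupOf N := by
    rw [Subgroup.commutator_le]
    intro a ha b hb
    rw [← QuotientGroup.eq_one_iff, ← QuotientGroup.mk'_apply, map_commutatorElement,
      commutatorElement_eq_one_iff_mul_comm]
    obtain ⟨i, hi⟩ := Subgroup.mem_zpowers_iff.mp ha
    obtain ⟨j, hj⟩ := Subgroup.mem_zpowers_iff.mp hb
    rw [← hi, ← hj, ← zpow_add, ← zpow_add, add_comm]
  refine ⟨S₁'.map N.subtype, ?_, ?_⟩
  · apply lt_of_le_of_ne
    · intro s hs
      have hsN : s ∈ N := hlt.le hs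
      refine ⟨⟨s, hsN⟩, ?_, rfl⟩
      show QuotientGroup.mk' (S.subgroupOf N) ⟨s, hsN⟩ ∈ C
      have : QuotientGroup.mk' (S.subgroupOf N) ⟨s, hsN⟩ = 1 := by
        rw [QuotientGroup.mk'_apply, QuotientGroup.eq_one_iff, Subgroup.mem_subgroupOf]
        exact hs
      rw [this]; exact C.one_mem
    · intro h
      apply hyS
      rw [h]
      exact ⟨⟨y, hyN⟩, Subgroup.mem_zpowers _, rfl⟩
  · rw [← Subgroup.map_commutator]
    calc (⁅S₁', S₁'⁆).map N.subtype ≤ (S.subgroupOf N).map N.subtype := Subgroup.map_mono hcomm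
      _ ≤ S := by
        rw [Subgroup.subgroupOf_map_subtype]; exact inf_le_left

/-- in a finite `p`-group, the `a`-th derived subgroup lies in every subgroup of index dividing
`p ^ a`. -/
theorem derivedSeries_le_of_index_dvd [Finite G] {p : ℕ} [hp : Fact p.Prime] (hG : IsPGroup p G) :
    ∀ (a : ℕ) (S : Subgroup G), S.index ∣ p ^ a → derivedSeries G a ≤ S := by
  haveI : Group.IsNilpotent G := hG.isNilpotent
  intro a
  induction a with
  | zero =>
    intro S hS
    rw [pow_zero, Nat.dvd_one, Subgroup.index_eq_one] at hS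
    rw [hS]; exact le_top
  | succ a ih =>
    intro S hS
    by_cases hST : S = ⊤
    · rw [hST]; exact le_top
    obtain ⟨S₁, hlt, hcomm⟩ := exists_lt_commutator_le S hST
    obtain ⟨c, hc1, hc⟩ := (Nat.dvd_prime_pow hp.out).mp hS
    have hdvd : S₁.index ∣ S.index := Subgroup.index_dvd_of_le hlt.le
    rw [hc] at hdvd
    obtain ⟨b, hb1, hb⟩ := (Nat.dvd_prime_pow hp.out).mp hdvd
    have hne : S₁.index ≠ S.index := by
      intro h
      have h1 : Nat.card S₁ * S₁.index = Nat.card S * S.index := by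
        rw [Subgroup.card_mul_index, Subgroup.card_mul_index]
      rw [h] at h1
      have h2 : Nat.card S₁ = Nat.card S :=
        Nat.eq_of_mul_eq_mul_right (Nat.pos_of_ne_zero (Subgroup.index_ne_zero_of_finite)) h1
      exact hlt.ne (Subgroup.eq_of_le_of_card_ge hlt.le h2.le)
    have hbc : b ≠ c := by
      intro h
      apply hne
      rw [hb, hc, h]
    have hba : b ≤ a := by omega
    have h1 : derivedSeries G a ≤ S₁ := ih S₁ (by rw [hb]; exact pow_dvd_pow p hba)
    rw [derivedSeries_succ]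
    exact (Subgroup.commutator_mono h1 h1).trans hcomm

end PIndex

section Perm

/-- upper bound on the derived length of `p`-subgroups of symmetric groups. -/
theorem derivedSeries_perm_eq_bot {n : ℕ} {p : ℕ} [hp : Fact p.Prime] (k : ℕ)
    (hn : n < p ^ (k + 1)) (P : Subgroup (Equiv.Perm (Fin n))) (hP : IsPGroup p P) :
    derivedSeries ↥P k = ⊥ := by
  rw [eq_bot_iff]
  intro t ht
  rw [Subgroup.mem_bot]
  apply Subtype.ext
  apply Equiv.ext
  intro x
  have hidx : (MulAction.stabilizer ↥P x).index ∣ p ^ k := by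
    obtain ⟨b, hb⟩ := hP.index (MulAction.stabilizer ↥P x)
    have h1 : (MulAction.stabilizer ↥P x).index ≤ n := by
      rw [MulAction.index_stabilizer]
      calc (MulAction.orbit ↥P x).ncard ≤ (Set.univ : Set (Fin n)).ncard :=
            Set.ncard_le_ncard (Set.subset_univ _) Set.finite_univ
        _ = n := by rw [Set.ncard_univ, Nat.card_fin]
    rw [hb] at h1 ⊢
    have h2 : p ^ b < p ^ (k + 1) := lt_of_le_of_lt h1 hn
    have h3 : b < k + 1 := (Nat.pow_lt_pow_iff_right hp.out.one_lt).mp h2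
    exact pow_dvd_pow p (by omega)
  have h1 := derivedSeries_le_of_index_dvd hP k _ hidx ht
  rw [MulAction.mem_stabilizer_iff] at h1
  exact h1

end Perm

section Wreath

open RegularWreathProduct

variable {D Q : Type*} [Group D] [CommGroup Q]

/-- evaluation of the base group at a point. -/
def evalHom (q₀ : Q) : ↥((rightHom : D ≀ᵣ Q →* Q).ker) →* D where
  toFun w := (w : D ≀ᵣ Q).left q₀
  map_one' := rfl
  map_mul' a b := by
    have ha : (a : D ≀ᵣ Q).right = 1 := a.2
    show ((a : D ≀ᵣ Q) * (b : D ≀ᵣ Q)).left q₀ = _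
    rw [mul_left]
    simp [ha]

theorem commutator_le_ker : commutator (D ≀ᵣ Q) ≤ (rightHom : D ≀ᵣ Q →* Q).ker :=
  Abelianization.commutator_subset_ker _

theorem exists_commutator_left [DecidableEq Q] (q₀ q : Q) (hq : q ≠ 1) (d : D) :
    ∃ w ∈ commutator (D ≀ᵣ Q), w.left q₀ = d := by
  refine ⟨⁅(⟨Pi.mulSingle q₀ d, 1⟩ : D ≀ᵣ Q), (inl q : D ≀ᵣ Q)⁆,
    Subgroup.commutator_mem_commutator (Subgroup.mem_top _) (Subgroup.mem_top _), ?_⟩
  have hne : q⁻¹ * q₀ ≠ q₀ := by
    intro h
    apply hq
    have : q⁻¹ = 1 := mul_eq_right.mp h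
    exact inv_eq_one.mp this
  simp [commutatorElement_def, mul_left, mul_right, inv_left, inv_right, Pi.mulSingle_apply, hne]

theorem derivedSeries_wreath_ne_bot (hQ : ∃ q : Q, q ≠ 1) (j : ℕ) (h : derivedSeries D j ≠ ⊥) :
    derivedSeries (D ≀ᵣ Q) (j + 1) ≠ ⊥ := by
  classical
  obtain ⟨q, hq⟩ := hQ
  set B : Subgroup (D ≀ᵣ Q) := (rightHom : D ≀ᵣ Q →* Q).ker with hB
  have hCB : commutator (D ≀ᵣ Q) ≤ B := commutator_le_ker
  have hsurj : ((commutator (D ≀ᵣ Q)).subgroupOf B).map (evalHom (D := D) (1 : Q)) = ⊤ := by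
    rw [eq_top_iff]
    intro d _
    obtain ⟨w, hw, hwd⟩ := exists_commutator_left (D := D) (1 : Q) q hq d
    exact ⟨⟨w, hCB hw⟩, Subgroup.mem_subgroupOf.mpr hw, hwd⟩
  have h1 : (dser ((commutator (D ≀ᵣ Q)).subgroupOf B) j).map (evalHom (D := D) (1 : Q)) =
      derivedSeries D j := by
    rw [map_dser, hsurj, dser_top]
  have h2 : dser ((commutator (D ≀ᵣ Q)).subgroupOf B) j ≠ ⊥ := by
    intro h0
    rw [h0, Subgroup.map_bot] at h1
    exact h h1.symm
  have h3 : (dser ((commutator (D ≀ᵣ Q)).subgroupOf B) j).map B.subtype =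
      derivedSeries (D ≀ᵣ Q) (j + 1) := by
    rw [map_dser, Subgroup.subgroupOf_map_subtype, inf_of_le_left hCB, ← dser_top,
      add_comm j 1, ← dser_add]
    rfl
  rw [← h3, Ne, Subgroup.map_eq_bot_iff_of_injective _ B.subtype_injective]
  exact h2

end Wreath

end Cfsg.Agent.helper20.DerLen
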