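import Mathlib
import Cfsg.Agent.Lib_helper17_SpEmb2
import Cfsg.Agent.Lib_helper20_DerLen

set_option autoImplicit false

namespace Cfsg.Agent.helper17.SpDL

open Matrix Cfsg.Agent.helper17.SpEmb Cfsg.Agent.helper20.DerLen

section Defs

variable (R : Type*) [CommRing R]

/-- existence of a `2`-subgroup of `Sp(l)` with nontrivial `j`-th derived subgroup -/
def GoodSp (l : Type*) [Fintype l] [DecidableEq l] (j : ℕ) : Prop :=
  ∃ Q : Subgroup (symplecticGroup l R), IsPGroup 2 Q ∧ dser Q j ≠ ⊥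

variable {R}

theorem GoodSp.transfer {l l' : Type*} [Fintype l] [DecidableEq l] [Fintype l'] [DecidableEq l']
    {j : ℕ} (h : GoodSp R l j) (φ : symplecticGroup l R →* symplecticGroup l' R)
    (hφ : Function.Injective φ) : GoodSp R l' j := by
  obtain ⟨Q, hQ, hd⟩ := h
  refine ⟨Q.map φ, hQ.map φ, ?_⟩
  rw [← map_dser, Ne, Subgroup.map_eq_bot_iff_of_injective _ hφ]
  exact hd

end Defs

section Swap

variable {R : Type*} [CommRing R] (l : Type*) [Fintype l] [DecidableEq l]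

/-- the index swap -/
def eps : (l ⊕ l) ⊕ (l ⊕ l) ≃ (l ⊕ l) ⊕ (l ⊕ l) :=
  (Equiv.sumComm l l).sumCongr (Equiv.sumComm l l)

/-- the swap element of `Sp(l ⊕ l)` -/
def swapEl : symplecticGroup (l ⊕ l) R :=
  ⟨(1 : Matrix ((l ⊕ l) ⊕ (l ⊕ l)) ((l ⊕ l) ⊕ (l ⊕ l)) R).submatrix (eps l) id, by
    rw [SymplecticGroup.mem_iff]
    have h1 : (1 : Matrix ((l ⊕ l) ⊕ (l ⊕ l)) ((l ⊕ l) ⊕ (l ⊕ l)) R).submatrix (eps l) id *
        J (l ⊕ l) R = (J (l ⊕ l) R).submatrix (eps l) id := by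
      have := Matrix.submatrix_mul_equiv (1 : Matrix ((l ⊕ l) ⊕ (l ⊕ l)) ((l ⊕ l) ⊕ (l ⊕ l)) R)
        (J (l ⊕ l) R) (eps l) (Equiv.refl _) id
      simpa using this
    rw [h1, Matrix.transpose_submatrix, Matrix.transpose_one]
    have h2 := Matrix.submatrix_mul_equiv (J (l ⊕ l) R)
      (1 : Matrix ((l ⊕ l) ⊕ (l ⊕ l)) ((l ⊕ l) ⊕ (l ⊕ l)) R) (eps l) (Equiv.refl _) (eps l)
    simp only [Equiv.coe_refl, mul_one] at h2
    rw [h2]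
    exact sumCongr_J (Equiv.sumComm l l)⟩

theorem swapEl_mul (A : symplecticGroup (l ⊕ l) R) :
    swapEl l * A = reindexMap (Equiv.sumComm l l) A * swapEl l := by
  apply Subtype.ext
  show (1 : Matrix ((l ⊕ l) ⊕ (l ⊕ l)) ((l ⊕ l) ⊕ (l ⊕ l)) R).submatrix (eps l) id *
      (A : Matrix ((l ⊕ l) ⊕ (l ⊕ l)) ((l ⊕ l) ⊕ (l ⊕ l)) R) =
    (A : Matrix ((l ⊕ l) ⊕ (l ⊕ l)) ((l ⊕ l) ⊕ (l ⊕ l)) R).submatrix (eps l) (eps l) *
      (1 : Matrix ((l ⊕ l) ⊕ (l ⊕ l)) ((l ⊕ l) ⊕ (l ⊕ l)) R).submatrix (eps l) id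
  have h1 := Matrix.submatrix_mul_equiv (1 : Matrix ((l ⊕ l) ⊕ (l ⊕ l)) ((l ⊕ l) ⊕ (l ⊕ l)) R)
    (A : Matrix ((l ⊕ l) ⊕ (l ⊕ l)) ((l ⊕ l) ⊕ (l ⊕ l)) R) (eps l) (Equiv.refl _) id
  have h2 := Matrix.submatrix_mul_equiv
    (A : Matrix ((l ⊕ l) ⊕ (l ⊕ l)) ((l ⊕ l) ⊕ (l ⊕ l)) R)
    (1 : Matrix ((l ⊕ l) ⊕ (l ⊕ l)) ((l ⊕ l) ⊕ (l ⊕ l)) R) (eps l) (eps l) id
  simp only [Equiv.coe_refl, one_mul, mul_one, Matrix.submatrix_id_id] at h1 h2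
  rw [h2]
  simpa using h1

theorem reindex_sumMap (x y : symplecticGroup l R) :
    reindexMap (Equiv.sumComm l l) (sumMap l l (x, y)) = sumMap l l (y, x) := by
  apply Subtype.ext
  ext ((i | i) | (i | i)) ((j | j) | (j | j)) <;> simp [reindexMap, sumMap]

theorem swapEl_sq : swapEl (R := R) l * swapEl l = 1 := by
  apply Subtype.ext
  show (1 : Matrix ((l ⊕ l) ⊕ (l ⊕ l)) ((l ⊕ l) ⊕ (l ⊕ l)) R).submatrix (eps l) id *
      (1 : Matrix ((l ⊕ l) ⊕ (l ⊕ l)) ((l ⊕ l) ⊕ (l ⊕ l)) R).submatrix (eps l) id = 1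
  ext ((i | i) | (i | i)) ((j | j) | (j | j)) <;>
    simp [Matrix.mul_apply, Matrix.one_apply, eps, Finset.sum_ite_eq, Fintype.sum_sum_type]

end Swap

end Cfsg.Agent.helper17.SpDL
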