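import Mathlib
import Cfsg.Agent.Lib_helper17_SpDL1

set_option autoImplicit false

namespace Cfsg.Agent.helper17.SpDL

open Matrix Cfsg.Agent.helper17.SpEmb Cfsg.Agent.helper20.DerLen

open scoped commutatorElement

section Step

variable {R : Type*} [CommRing R] {l : Type*} [Fintype l] [DecidableEq l]

theorem isPGroup_prod {G : Type*} [Group G] {p : ℕ} (Q : Subgroup G) (hQ : IsPGroup p Q) :
    IsPGroup p (Q.prod Q) := by
  rintro ⟨⟨x, y⟩, hx, hy⟩
  obtain ⟨a, ha⟩ := hQ ⟨x, hx⟩
  obtain ⟨b, hb⟩ := hQ ⟨y, hy⟩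
  have ha' : x ^ p ^ a = 1 := congrArg Subtype.val ha
  have hb' : y ^ p ^ b = 1 := congrArg Subtype.val hb
  refine ⟨a + b, ?_⟩
  apply Subtype.ext
  apply Prod.ext
  · show x ^ p ^ (a + b) = 1
    rw [pow_add, pow_mul, ha', one_pow]
  · show y ^ p ^ (a + b) = 1
    rw [pow_add, mul_comm, pow_mul, hb', one_pow]

theorem swap_conj (x y : symplecticGroup l R) :
    swapEl l * sumMap l l (x, y) * (swapEl l)⁻¹ = sumMap l l (y, x) := by
  rw [mul_inv_eq_iff_eq_mul, swapEl_mul, reindex_sumMap]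

theorem swapEl_inv : (swapEl (R := R) l)⁻¹ = swapEl l :=
  inv_eq_of_mul_eq_one_right (swapEl_sq l)

theorem GoodSp.step {j : ℕ} (h : GoodSp R l j) : GoodSp R (l ⊕ l) (j + 1) := by
  obtain ⟨Q, hQ, hd⟩ := h
  set B : Subgroup (symplecticGroup (l ⊕ l) R) := (Q.prod Q).map (sumMap l l) with hB
  set S : Subgroup (symplecticGroup (l ⊕ l) R) := Subgroup.zpowers (swapEl l) with hS
  have hBp : IsPGroup 2 B := (isPGroup_prod Q hQ).map _
  have hSp : IsPGroup 2 S := by
    rintro ⟨g, hg⟩
    obtain ⟨n, rfl⟩ := Subgroup.mem_zpowers_iff.1 hg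
    refine ⟨1, ?_⟩
    apply Subtype.ext
    show (swapEl l ^ n) ^ 2 ^ 1 = 1
    rw [pow_one, pow_two, ← _root_.zpow_add, ← two_mul, _root_.zpow_mul, zpow_two, swapEl_sq,
      _root_.one_zpow]
  have hconjB : ∀ b ∈ B, swapEl l * b * (swapEl l)⁻¹ ∈ B := by
    rintro _ ⟨⟨x, y⟩, ⟨hx, hy⟩, rfl⟩
    rw [swap_conj]
    exact ⟨(y, x), ⟨hy, hx⟩, rfl⟩
  have hnorm : S ≤ Subgroup.normalizer (B : Set (symplecticGroup (l ⊕ l) R)) := by
    rw [hS, Subgroup.zpowers_le, Subgroup.mem_normalizer_iff]
    intro b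
    constructor
    · exact hconjB b
    · intro hb
      have := hconjB _ hb
      rw [swapEl_inv] at this
      have h3 : swapEl l * (swapEl l * b * swapEl l) * swapEl l = b := by
        calc swapEl l * (swapEl l * b * swapEl l) * swapEl l
            = (swapEl l * swapEl l) * b * (swapEl l * swapEl l) := by simp only [mul_assoc]
          _ = b := by rw [swapEl_sq, one_mul, mul_one]
      rwa [h3] at this
  refine ⟨S ⊔ B, hSp.to_sup_of_normal_right' hBp hnorm, ?_⟩
  set W := S ⊔ B with hW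
  have hsW : swapEl l ∈ W := (le_sup_left : S ≤ W) (Subgroup.mem_zpowers _)
  have hBW : B ≤ W := le_sup_right
  -- the projection subgroups
  have key : ∀ i : ℕ, dser Q i ≤
      ((dser W (i + 1)).comap (sumMap l l)).map (MonoidHom.fst _ _) := by
    intro i
    induction i with
    | zero =>
      intro x hx
      refine ⟨(x, x⁻¹), ?_, rfl⟩
      show sumMap l l (x, x⁻¹) ∈ dser W 1
      have h1 : sumMap l l (x, 1) ∈ W := hBW ⟨(x, 1), ⟨hx, Q.one_mem⟩, rfl⟩
      have h2 : ⁅sumMap l l (x, 1), swapEl l⁆ ∈ ⁅W, W⁆ := Subgroup.commutator_mem_commutator h1 hsW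
      have h3 : ⁅sumMap l l (x, 1), swapEl l⁆ = sumMap l l (x, x⁻¹) := by
        rw [commutatorElement_def]
        have h4 : swapEl l * (sumMap l l (x, 1))⁻¹ * (swapEl l)⁻¹ = sumMap l l (1, x⁻¹) := by
          rw [← map_inv]
          have h5 : ((x, 1) : symplecticGroup l R × symplecticGroup l R)⁻¹ = (x⁻¹, 1) := by simp
          rw [h5]
          exact swap_conj _ _
        calc sumMap l l (x, 1) * swapEl l * (sumMap l l (x, 1))⁻¹ * (swapEl l)⁻¹
            = sumMap l l (x, 1) * (swapEl l * (sumMap l l (x, 1))⁻¹ * (swapEl l)⁻¹) := by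
              simp only [mul_assoc]
          _ = sumMap l l (x, x⁻¹) := by
              rw [h4, ← map_mul]
              simp
      rw [h3] at h2
      exact h2
    | succ i ih =>
      rw [dser_succ]
      calc ⁅dser Q i, dser Q i⁆
          ≤ ⁅((dser W (i + 1)).comap (sumMap l l)).map (MonoidHom.fst _ _),
              ((dser W (i + 1)).comap (sumMap l l)).map (MonoidHom.fst _ _)⁆ :=
            Subgroup.commutator_mono ih ih
        _ = (⁅(dser W (i + 1)).comap (sumMap l l), (dser W (i + 1)).comap (sumMap l l)⁆).map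
              (MonoidHom.fst _ _) := (Subgroup.map_commutator _ _ _).symm
        _ ≤ ((dser W (i + 1 + 1)).comap (sumMap l l)).map (MonoidHom.fst _ _) := by
            apply Subgroup.map_mono
            rw [Subgroup.commutator_le]
            intro a ha b hb
            rw [Subgroup.mem_comap, map_commutatorElement, dser_succ]
            exact Subgroup.commutator_mem_commutator ha hb
  intro hbot
  apply hd
  rw [eq_bot_iff]
  intro x hx
  obtain ⟨⟨x', y⟩, hxy, rfl⟩ := key j hx
  have hxy' : sumMap l l (x', y) ∈ dser W (j + 1) := hxy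
  rw [hbot, Subgroup.mem_bot] at hxy'
  have h5 : sumMap l l (x', y) = sumMap l l (1, 1) := by rw [hxy', Prod.mk_one_one, map_one]
  have h6 := sumMap_injective l l h5
  rw [Subgroup.mem_bot]
  exact (Prod.ext_iff.1 h6).1

end Step

end Cfsg.Agent.helper17.SpDL
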