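import Mathlib
import Cfsg.Agent.Lib_helper17_SpDL2

set_option autoImplicit false

namespace Cfsg.Agent.helper17.SpDL

open Matrix Cfsg.Agent.helper17.SpEmb Cfsg.Agent.helper20.DerLen

open scoped commutatorElement

section Base

variable {F : Type*} [Field F]

/-- an element of order 4 -/
def qI (a b : F) : Matrix (Fin 1 ⊕ Fin 1) (Fin 1 ⊕ Fin 1) F :=
  fromBlocks (a • 1) (b • 1) (b • 1) ((-a) • 1)

theorem qI_transpose (a b : F) : (qI a b)ᵀ = qI a b := by
  simp [qI, fromBlocks_transpose]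

theorem qI_mul_J (a b : F) : qI a b * J (Fin 1) F = fromBlocks (b • 1) ((-a) • 1) ((-a) • 1) ((-b) • 1) := by
  rw [qI, J, fromBlocks_multiply]
  congr 1 <;> simp

theorem qI_mem (a b : F) (hab : a ^ 2 + b ^ 2 = -1) : qI a b ∈ symplecticGroup (Fin 1) F := by
  rw [SymplecticGroup.mem_iff, qI_transpose, qI_mul_J, qI, fromBlocks_multiply, J]
  congr 1
  · simp [smul_smul, mul_comm]
  · ext i j
    have hij : i = j := Subsingleton.elim _ _
    subst hij
    simp [smul_smul]
    linear_combination hab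
  · ext i j
    have hij : i = j := Subsingleton.elim _ _
    subst hij
    simp [smul_smul]
    linear_combination -hab
  · simp [smul_smul, mul_comm]

theorem qI_sq (a b : F) (hab : a ^ 2 + b ^ 2 = -1) : qI a b * qI a b = -1 := by
  rw [qI, fromBlocks_multiply, ← fromBlocks_one, fromBlocks_neg]
  congr 1
  · ext i j
    have hij : i = j := Subsingleton.elim _ _
    subst hij
    simp [smul_smul]
    linear_combination hab
  · simp [smul_smul, mul_comm]
  · simp [smul_smul, mul_comm]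
  · ext i j
    have hij : i = j := Subsingleton.elim _ _
    subst hij
    simp [smul_smul]
    linear_combination hab

theorem qI_J_qI (a b : F) (hab : a ^ 2 + b ^ 2 = -1) : qI a b * J (Fin 1) F * qI a b = J (Fin 1) F := by
  have := (SymplecticGroup.mem_iff.1 (qI_mem a b hab))
  rwa [qI_transpose] at this

theorem conj_mem_normalizer {G : Type*} [Group G] (g x : G) (h : g * x * g⁻¹ = x⁻¹) :
    g ∈ Subgroup.normalizer ((Subgroup.zpowers x : Subgroup G) : Set G) := by
  have h' : g⁻¹ * x * g = x⁻¹ := by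
    have h1 : x = g⁻¹ * x⁻¹ * g := by
      rw [← h]; group
    calc g⁻¹ * x * g = (g⁻¹ * x⁻¹ * g)⁻¹ := by group
      _ = x⁻¹ := by rw [← h1]
  rw [Subgroup.mem_normalizer_iff]
  intro y
  constructor
  · intro hy
    obtain ⟨n, rfl⟩ := Subgroup.mem_zpowers_iff.1 hy
    rw [← conj_zpow, h]
    exact Subgroup.zpow_mem _ (Subgroup.inv_mem _ (Subgroup.mem_zpowers x)) n
  · intro hy
    obtain ⟨n, hn⟩ := Subgroup.mem_zpowers_iff.1 hy
    have h5 : y = g⁻¹ * (x ^ n) * g := by rw [hn]; group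
    have h6 : g⁻¹ * (x ^ n) * g = (g⁻¹ * x * g) ^ n := by
      have := conj_zpow (a := g⁻¹) (b := x) (i := n)
      rw [inv_inv] at this
      exact this.symm
    rw [h5, h6, h']
    exact Subgroup.zpow_mem _ (Subgroup.inv_mem _ (Subgroup.mem_zpowers x)) n

theorem isPGroup_zpowers_of_pow_four {G : Type*} [Group G] (x : G) (h : x ^ 4 = 1) :
    IsPGroup 2 (Subgroup.zpowers x) := by
  rintro ⟨g, hg⟩
  obtain ⟨n, rfl⟩ := Subgroup.mem_zpowers_iff.1 hg
  refine ⟨2, ?_⟩
  apply Subtype.ext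
  show (x ^ n) ^ 2 ^ 2 = 1
  have : (2 : ℕ) ^ 2 = 4 := by norm_num
  rw [this, ← zpow_natCast, ← _root_.zpow_mul, mul_comm, _root_.zpow_mul, zpow_natCast, h,
    _root_.one_zpow]

theorem goodSp_base (h2 : (2 : F) ≠ 0) (a b : F) (hab : a ^ 2 + b ^ 2 = -1) :
    GoodSp F (Fin 1) 1 := by
  let i : symplecticGroup (Fin 1) F := ⟨qI a b, qI_mem a b hab⟩
  let jj : symplecticGroup (Fin 1) F := SymplecticGroup.symJ (Fin 1) F
  have hii : ((i * i : symplecticGroup (Fin 1) F) : Matrix (Fin 1 ⊕ Fin 1) (Fin 1 ⊕ Fin 1) F)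
      = -1 := qI_sq a b hab
  have hjj : ((jj * jj : symplecticGroup (Fin 1) F) : Matrix (Fin 1 ⊕ Fin 1) (Fin 1 ⊕ Fin 1) F)
      = -1 := J_squared (Fin 1) F
  have hi4 : i ^ 4 = 1 := by
    apply Subtype.ext
    have : i ^ 4 = (i * i) * (i * i) := by simp only [pow_succ, pow_zero, one_mul, mul_assoc]
    rw [this]
    show ((i * i : symplecticGroup (Fin 1) F) : Matrix (Fin 1 ⊕ Fin 1) (Fin 1 ⊕ Fin 1) F) *
      ((i * i : symplecticGroup (Fin 1) F) : Matrix (Fin 1 ⊕ Fin 1) (Fin 1 ⊕ Fin 1) F) = 1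
    rw [hii]; simp
  have hj4 : jj ^ 4 = 1 := by
    apply Subtype.ext
    have : jj ^ 4 = (jj * jj) * (jj * jj) := by simp only [pow_succ, pow_zero, one_mul, mul_assoc]
    rw [this]
    show ((jj * jj : symplecticGroup (Fin 1) F) : Matrix (Fin 1 ⊕ Fin 1) (Fin 1 ⊕ Fin 1) F) *
      ((jj * jj : symplecticGroup (Fin 1) F) : Matrix (Fin 1 ⊕ Fin 1) (Fin 1 ⊕ Fin 1) F) = 1
    rw [hjj]; simp
  have hiji : i * jj * i = jj := Subtype.ext (qI_J_qI a b hab)
  -- j i j⁻¹ = i⁻¹
  have hconj : jj * i * jj⁻¹ = i⁻¹ := by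
    have h1 : jj * i = i⁻¹ * jj := by
      rw [eq_inv_mul_iff_mul_eq, ← mul_assoc]; exact hiji
    rw [h1]; group
  have hnorm : Subgroup.zpowers jj ≤
      Subgroup.normalizer ((Subgroup.zpowers i : Subgroup _) : Set (symplecticGroup (Fin 1) F)) := by
    rw [Subgroup.zpowers_le]
    exact conj_mem_normalizer jj i hconj
  refine ⟨Subgroup.zpowers jj ⊔ Subgroup.zpowers i,
    (isPGroup_zpowers_of_pow_four jj hj4).to_sup_of_normal_right'
      (isPGroup_zpowers_of_pow_four i hi4) hnorm, ?_⟩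
  rw [dser_succ, dser_zero]
  intro hbot
  have hmem : ⁅i, jj⁆ ∈ ⁅Subgroup.zpowers jj ⊔ Subgroup.zpowers i,
      Subgroup.zpowers jj ⊔ Subgroup.zpowers i⁆ :=
    Subgroup.commutator_mem_commutator
      ((le_sup_right : Subgroup.zpowers i ≤ _) (Subgroup.mem_zpowers i))
      ((le_sup_left : Subgroup.zpowers jj ≤ _) (Subgroup.mem_zpowers jj))
  rw [hbot, Subgroup.mem_bot, commutatorElement_eq_one_iff_mul_comm] at hmem
  -- i j = j i together with i j i = j gives i² = 1
  have h3 : i * i = 1 := by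
    have : jj * (i * i) = jj := by
      rw [← mul_assoc, ← hmem]; exact hiji
    exact mul_left_cancel (a := jj) (by rw [this, mul_one])
  have h4 := congrArg (fun g : symplecticGroup (Fin 1) F =>
    (g : Matrix (Fin 1 ⊕ Fin 1) (Fin 1 ⊕ Fin 1) F) (Sum.inl 0) (Sum.inl 0)) h3
  simp only [hii] at h4
  simp at h4
  apply h2
  linear_combination -h4

end Base

end Cfsg.Agent.helper17.SpDL
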