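import Mathlib

set_option autoImplicit false

namespace Cfsg.Agent.helper17.SpEmb

open Matrix

section traceform

variable {F K : Type*} [Field F] [Field K] [Algebra F K] {ι : Type*} [Fintype ι] [DecidableEq ι]
  (b : Module.Basis ι F K)

lemma traceMatrix_transpose : (Algebra.traceMatrix F b)ᵀ = Algebra.traceMatrix F b := by
  ext i j
  rw [Matrix.transpose_apply, Algebra.traceMatrix_apply, Algebra.traceMatrix_apply,
    Algebra.traceForm_apply, Algebra.traceForm_apply, mul_comm]

lemma isUnit_det_traceMatrix [Algebra.IsSeparable F K] : IsUnit (Algebra.traceMatrix F b).det := by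
  rw [isUnit_iff_ne_zero, Algebra.traceMatrix_of_basis]
  exact det_traceForm_ne_zero b

lemma sum_leftMul_smul (x : K) (i : ι) : ∑ k, (Algebra.leftMulMatrix b x k i) • b k = x * b i := by
  simp_rw [Algebra.leftMulMatrix_eq_repr_mul]
  exact b.sum_repr (x * b i)

lemma leftMul_transpose_mul_trace (x : K) :
    (Algebra.leftMulMatrix b x)ᵀ * Algebra.traceMatrix F b =
      Algebra.traceMatrix F b * Algebra.leftMulMatrix b x := by
  ext i j
  rw [Matrix.mul_apply, Matrix.mul_apply]
  simp_rw [Matrix.transpose_apply, Algebra.traceMatrix_apply, Algebra.traceForm_apply]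
  have h1 : ∑ k, Algebra.leftMulMatrix b x k i * Algebra.trace F K (b k * b j) =
      Algebra.trace F K (x * b i * b j) := by
    rw [← sum_leftMul_smul b x i, Finset.sum_mul, map_sum]
    apply Finset.sum_congr rfl
    intro k _
    rw [smul_mul_assoc, map_smul, smul_eq_mul]
  have h2 : ∑ k, Algebra.trace F K (b i * b k) * Algebra.leftMulMatrix b x k j =
      Algebra.trace F K (b i * (x * b j)) := by
    rw [← sum_leftMul_smul b x j, Finset.mul_sum, map_sum]
    apply Finset.sum_congr rfl
    intro k _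
    rw [mul_smul_comm, map_smul, smul_eq_mul, mul_comm]
  rw [h1, h2]
  congr 1
  ring

end traceform

section abstract

variable {F : Type*} [Field F] {ι : Type*} [Fintype ι] [DecidableEq ι]

/-- abstract form of the symplectic check -/
lemma mem_symplectic_of (T a b c d : Matrix ι ι F) (hT : IsUnit T.det) (hTt : Tᵀ = T)
    (ha : aᵀ * T = T * a) (hb : bᵀ * T = T * b) (hc : cᵀ * T = T * c) (hd : dᵀ * T = T * d)
    (hab : a * b = b * a) (hcd : c * d = d * c) (hdet : a * d - b * c = 1)
    (hdet' : d * a - c * b = 1) :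
    fromBlocks a (b * T⁻¹) (T * c) (T * d * T⁻¹) ∈ symplecticGroup ι F := by
  rw [SymplecticGroup.mem_iff]
  have hTi : (T⁻¹)ᵀ = T⁻¹ := by
    rw [Matrix.transpose_nonsing_inv, hTt]
  have e1 : ∀ x : Matrix ι ι F, xᵀ * T = T * x → T⁻¹ * xᵀ = x * T⁻¹ := by
    intro x hx
    have : T⁻¹ * (xᵀ * T) * T⁻¹ = T⁻¹ * (T * x) * T⁻¹ := by rw [hx]
    rw [Matrix.nonsing_inv_mul_cancel_left _ _ hT, Matrix.mul_assoc, Matrix.mul_assoc,
      Matrix.mul_nonsing_inv _ hT, Matrix.mul_one] at this
    exact this
  have t1 : (T * c)ᵀ = T * c := by rw [Matrix.transpose_mul, hTt, hc]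
  have t2 : (b * T⁻¹)ᵀ = b * T⁻¹ := by rw [Matrix.transpose_mul, hTi, e1 b hb]
  have t3 : (T * d * T⁻¹)ᵀ = d := by
    rw [Matrix.transpose_mul, Matrix.transpose_mul, hTi, hTt, hd, Matrix.nonsing_inv_mul_cancel_left _ _ hT]
  rw [Matrix.J, fromBlocks_transpose, fromBlocks_multiply, fromBlocks_multiply, t1, t2, t3]
  simp only [Matrix.mul_zero, Matrix.mul_one, Matrix.mul_neg, zero_add, add_zero, Matrix.neg_mul]
  congr 1
  · -- b T⁻¹ aᵀ - a b T⁻¹
    rw [Matrix.mul_assoc b, e1 a ha, ← Matrix.mul_assoc b, ← Matrix.mul_assoc a, hab]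
    exact add_neg_cancel _
  · rw [Matrix.mul_assoc b, Matrix.nonsing_inv_mul_cancel_left _ _ hT]
    rw [← hdet]
    abel
  · rw [Matrix.mul_assoc (T * d), e1 a ha, Matrix.mul_assoc T d, Matrix.mul_assoc T c,
      ← Matrix.mul_assoc d, ← Matrix.mul_assoc c, ← Matrix.mul_neg, ← Matrix.mul_add,
      ← Matrix.neg_mul, ← Matrix.add_mul, ← sub_eq_add_neg, hdet', Matrix.one_mul,
      Matrix.mul_nonsing_inv _ hT]
  · rw [Matrix.mul_assoc (T * d), Matrix.nonsing_inv_mul_cancel_left _ _ hT, Matrix.mul_assoc T d,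
      Matrix.mul_assoc T c, hcd]
    exact add_neg_cancel _

end abstract

section psi

variable {F K : Type*} [Field F] [Field K] [Algebra F K] {ι : Type*} [Fintype ι] [DecidableEq ι]
  (b : Module.Basis ι F K)

/-- the matrix of `g ∈ SL₂(K)` acting on `K² = F^(2e)` in a symplectic basis -/
noncomputable def psiMat (g : Matrix (Fin 2) (Fin 2) K) : Matrix (ι ⊕ ι) (ι ⊕ ι) F :=
  fromBlocks (Algebra.leftMulMatrix b (g 0 0))
    (Algebra.leftMulMatrix b (g 0 1) * (Algebra.traceMatrix F b)⁻¹)
    (Algebra.traceMatrix F b * Algebra.leftMulMatrix b (g 1 0))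
    (Algebra.traceMatrix F b * Algebra.leftMulMatrix b (g 1 1) * (Algebra.traceMatrix F b)⁻¹)

variable [Algebra.IsSeparable F K]

lemma psiMat_one : psiMat b (1 : Matrix (Fin 2) (Fin 2) K) = 1 := by
  unfold psiMat
  have hT := isUnit_det_traceMatrix b
  simp only [Matrix.one_apply_eq, Matrix.one_apply_ne (show (0 : Fin 2) ≠ 1 by decide),
    Matrix.one_apply_ne (show (1 : Fin 2) ≠ 0 by decide), map_one, map_zero, Matrix.zero_mul,
    Matrix.mul_zero, Matrix.mul_one, Matrix.mul_nonsing_inv _ hT]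
  exact Matrix.fromBlocks_one

lemma psiMat_mul (g h : Matrix (Fin 2) (Fin 2) K) :
    psiMat b (g * h) = psiMat b g * psiMat b h := by
  unfold psiMat
  have hT := isUnit_det_traceMatrix b
  rw [fromBlocks_multiply]
  simp only [Matrix.mul_apply, Fin.sum_univ_two, map_add, map_mul]
  have hc : ∀ B : Matrix ι ι F, (Algebra.traceMatrix F b)⁻¹ * (Algebra.traceMatrix F b * B) = B :=
    fun B => Matrix.nonsing_inv_mul_cancel_left _ _ hT
  congr 1 <;> simp only [Matrix.mul_assoc, Matrix.mul_add, Matrix.add_mul, hc]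

lemma psiMat_mem (g : Matrix (Fin 2) (Fin 2) K) (hg : g.det = 1) :
    psiMat b g ∈ symplecticGroup ι F := by
  unfold psiMat
  rw [Matrix.det_fin_two] at hg
  apply mem_symplectic_of _ _ _ _ _ (isUnit_det_traceMatrix b) (traceMatrix_transpose b)
    (leftMul_transpose_mul_trace b _) (leftMul_transpose_mul_trace b _)
    (leftMul_transpose_mul_trace b _) (leftMul_transpose_mul_trace b _)
  · rw [← map_mul, ← map_mul, mul_comm]
  · rw [← map_mul, ← map_mul, mul_comm]
  · rw [← map_mul, ← map_mul, ← map_sub, hg, map_one]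
  · rw [← map_mul, ← map_mul, ← map_sub, mul_comm (g 1 1), mul_comm (g 1 0), hg, map_one]

lemma psiMat_injective : Function.Injective (psiMat (F := F) b) := by
  intro g h hgh
  unfold psiMat at hgh
  have hT := isUnit_det_traceMatrix b
  rw [Matrix.fromBlocks_inj] at hgh
  obtain ⟨h1, h2, h3, h4⟩ := hgh
  have hinj := Algebra.leftMulMatrix_injective b
  have e1 : g 0 0 = h 0 0 := hinj h1
  have e2 : g 0 1 = h 0 1 := by
    apply hinj
    have := congrArg (fun M => M * Algebra.traceMatrix F b) h2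
    simp only [Matrix.mul_assoc, Matrix.nonsing_inv_mul _ hT, Matrix.mul_one] at this
    exact this
  have e3 : g 1 0 = h 1 0 := by
    apply hinj
    have := congrArg (fun M => (Algebra.traceMatrix F b)⁻¹ * M) h3
    simp only [Matrix.nonsing_inv_mul_cancel_left _ _ hT] at this
    exact this
  have e4 : g 1 1 = h 1 1 := by
    apply hinj
    have := congrArg (fun M => (Algebra.traceMatrix F b)⁻¹ * M * Algebra.traceMatrix F b) h4
    simp only [Matrix.mul_assoc, Matrix.nonsing_inv_mul _ hT, Matrix.mul_one,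
      Matrix.nonsing_inv_mul_cancel_left _ _ hT] at this
    exact this
  ext i j
  fin_cases i <;> fin_cases j
  · exact e1
  · exact e2
  · exact e3
  · exact e4

/-- the embedding `SL₂(K) → Sp_{2e}(F)` -/
noncomputable def psi : Matrix.SpecialLinearGroup (Fin 2) K →* symplecticGroup ι F where
  toFun g := ⟨psiMat b g.1, psiMat_mem b g.1 g.2⟩
  map_one' := by
    apply Subtype.ext
    exact psiMat_one b
  map_mul' g h := by
    apply Subtype.ext
    exact psiMat_mul b g.1 h.1

lemma psi_injective : Function.Injective (psi (F := F) b) := by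
  intro g h hgh
  apply Subtype.ext
  apply psiMat_injective b
  exact congrArg Subtype.val hgh

end psi

end Cfsg.Agent.helper17.SpEmb
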