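import Mathlib
import Cfsg.Prelude.Def_ClassicalGeometry

set_option autoImplicit false

namespace Cfsg.Agent.helper17.SpN

open Matrix

variable {m : ℕ} {F : Type*} [Field F]

/-- the index type -/
abbrev II (m : ℕ) := Fin m ⊕ Fin m

/-- the pairing involution -/
def th (m : ℕ) : Equiv.Perm (II m) := Equiv.sumComm (Fin m) (Fin m)

/-- the sign of an index -/
def sg (m : ℕ) (F : Type*) [Field F] : II m → F := Sum.elim (fun _ => -1) (fun _ => 1)

lemma th_th (k : II m) : th m (th m k) = k := by rcases k with k | k <;> rfl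

lemma th_ne (k : II m) : th m k ≠ k := by rcases k with k | k <;> simp [th]

lemma sg_th (k : II m) : sg m F (th m k) = - sg m F k := by
  rcases k with k | k <;> simp [sg, th]

lemma sg_ne_zero (k : II m) : sg m F k ≠ 0 := by
  rcases k with k | k <;> simp [sg]

lemma sg_mul_self (k : II m) : sg m F k * sg m F k = 1 := by
  rcases k with k | k <;> simp [sg]

lemma J_apply (k l : II m) : Matrix.J (Fin m) F k l = if l = th m k then sg m F k else 0 := by
  rcases k with k | k <;> rcases l with l | l
  · simp [Matrix.J, th, sg]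
  · by_cases h : k = l
    · subst h; simp [Matrix.J, th, sg]
    · have h' : l ≠ k := fun h' => h h'.symm
      simp [Matrix.J, th, sg, Matrix.one_apply_ne h, h']
  · by_cases h : k = l
    · subst h; simp [Matrix.J, th, sg]
    · have h' : l ≠ k := fun h' => h h'.symm
      simp [Matrix.J, th, sg, Matrix.one_apply_ne h, h']
  · simp [Matrix.J, th, sg]

/-- monomial matrices -/
def mono (σ : Equiv.Perm (II m)) (γ : II m → F) : Matrix (II m) (II m) F :=
  Matrix.of fun a k => if a = σ k then γ k else 0

lemma mono_apply (σ : Equiv.Perm (II m)) (γ : II m → F) (a k : II m) :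
    mono σ γ a k = if a = σ k then γ k else 0 := rfl

lemma mono_apply_self (σ : Equiv.Perm (II m)) (γ : II m → F) (k : II m) :
    mono σ γ (σ k) k = γ k := by
  rw [mono_apply, if_pos rfl]

lemma mono_mul (σ : Equiv.Perm (II m)) (γ : II m → F) (B : Matrix (II m) (II m) F) (a l : II m) :
    (mono σ γ * B) a l = γ (σ.symm a) * B (σ.symm a) l := by
  rw [Matrix.mul_apply, Finset.sum_eq_single (σ.symm a)]
  · rw [mono_apply, if_pos (by simp)]
  · intro k _ hk
    rw [mono_apply, if_neg, zero_mul]
    intro h
    apply hk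
    rw [h]; simp
  · intro h; exact absurd (Finset.mem_univ _) h

lemma mul_monoT (B : Matrix (II m) (II m) F) (σ : Equiv.Perm (II m)) (γ : II m → F) (a b : II m) :
    (B * (mono σ γ)ᵀ) a b = B a (σ.symm b) * γ (σ.symm b) := by
  rw [Matrix.mul_apply, Finset.sum_eq_single (σ.symm b)]
  · rw [Matrix.transpose_apply, mono_apply, if_pos (by simp)]
  · intro k _ hk
    rw [Matrix.transpose_apply, mono_apply, if_neg, mul_zero]
    intro h
    apply hk
    rw [h]; simp
  · intro h; exact absurd (Finset.mem_univ _) h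

lemma mono_J_monoT (σ : Equiv.Perm (II m)) (γ : II m → F) (a b : II m) :
    (mono σ γ * Matrix.J (Fin m) F * (mono σ γ)ᵀ) a b =
      γ (σ.symm a) * Matrix.J (Fin m) F (σ.symm a) (σ.symm b) * γ (σ.symm b) := by
  rw [mul_monoT, mono_mul]

/-- sufficient condition for a monomial matrix to be symplectic -/
lemma mono_mem (σ : Equiv.Perm (II m)) (γ : II m → F) (hσ : ∀ k, σ (th m k) = th m (σ k))
    (hγ : ∀ k, γ k * γ (th m k) * sg m F k = sg m F (σ k)) :
    mono σ γ ∈ Matrix.symplecticGroup (Fin m) F := by
  rw [SymplecticGroup.mem_iff]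
  ext a b
  rw [mono_J_monoT, J_apply, J_apply]
  by_cases h : σ.symm b = th m (σ.symm a)
  · have hb : b = th m a := by
      have := congrArg σ h
      rw [Equiv.apply_symm_apply, hσ, Equiv.apply_symm_apply] at this
      exact this
    rw [if_pos h, if_pos hb, h]
    have := hγ (σ.symm a)
    rw [Equiv.apply_symm_apply] at this
    rw [← this]
    ring
  · have hb : b ≠ th m a := by
      intro hb
      apply h
      have : σ (σ.symm b) = σ (th m (σ.symm a)) := by
        rw [Equiv.apply_symm_apply, hσ, Equiv.apply_symm_apply, hb]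
      exact σ.injective this
    rw [if_neg h, if_neg hb, mul_zero, zero_mul]

/-- necessary condition -/
lemma mono_mem_conv (σ : Equiv.Perm (II m)) (γ : II m → F) (hγ0 : ∀ k, γ k ≠ 0)
    (h : mono σ γ ∈ Matrix.symplecticGroup (Fin m) F) (k : II m) :
    σ (th m k) = th m (σ k) ∧ γ k * γ (th m k) * sg m F k = sg m F (σ k) := by
  rw [SymplecticGroup.mem_iff] at h
  have h1 := congrFun (congrFun h (σ k)) (σ (th m k))
  rw [mono_J_monoT, J_apply, J_apply, Equiv.symm_apply_apply, Equiv.symm_apply_apply, if_pos rfl] at h1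
  by_cases h2 : σ (th m k) = th m (σ k)
  · refine ⟨h2, ?_⟩
    rw [if_pos h2] at h1
    rw [← h1]; ring
  · rw [if_neg h2] at h1
    exfalso
    have := mul_ne_zero (mul_ne_zero (hγ0 k) (sg_ne_zero (F := F) k)) (hγ0 (th m k))
    exact this h1

lemma mono_injective {σ σ' : Equiv.Perm (II m)} {γ γ' : II m → F} (hγ0 : ∀ k, γ k ≠ 0)
    (h : mono σ γ = mono σ' γ') : σ = σ' ∧ γ = γ' := by
  have h1 : ∀ k, σ k = σ' k := by
    intro k
    have := congrFun (congrFun h (σ k)) k
    rw [mono_apply_self, mono_apply] at this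
    by_contra hne
    rw [if_neg hne] at this
    exact hγ0 k this
  have hσ : σ = σ' := Equiv.ext h1
  subst hσ
  refine ⟨rfl, ?_⟩
  funext k
  have := congrFun (congrFun h (σ k)) k
  rw [mono_apply_self, mono_apply_self] at this
  exact this

/-- diagonal matrices -/
def IsDiag (A : Matrix (II m) (II m) F) : Prop := ∀ a b, a ≠ b → A a b = 0

lemma IsDiag.eq_diagonal {A : Matrix (II m) (II m) F} (h : IsDiag A) :
    A = Matrix.diagonal (fun i => A i i) := by
  ext a b
  by_cases hab : a = b
  · subst hab; simp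
  · rw [h a b hab, Matrix.diagonal_apply_ne _ hab]

lemma isDiag_diagonal (d : II m → F) : IsDiag (Matrix.diagonal d) := by
  intro a b hab
  exact Matrix.diagonal_apply_ne _ hab

lemma mono_mul_diag (σ : Equiv.Perm (II m)) (γ : II m → F) (d : II m → F) :
    mono σ γ * Matrix.diagonal d = Matrix.diagonal (fun a => d (σ.symm a)) * mono σ γ := by
  ext a k
  rw [Matrix.mul_diagonal, Matrix.diagonal_mul, mono_apply]
  by_cases h : a = σ k
  · rw [if_pos h, h, Equiv.symm_apply_apply, mul_comm]
  · rw [if_neg h, zero_mul, mul_zero]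

end Cfsg.Agent.helper17.SpN
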