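import Mathlib
import Cfsg.Agent.Lib_helper17_SpN1

set_option autoImplicit false

namespace Cfsg.Agent.helper17.SpN

open Matrix

variable {m : ℕ} {F : Type*} [Field F]

abbrev Sp (m : ℕ) (F : Type*) [Field F] := ↥(Matrix.symplecticGroup (Fin m) F)

/-- the torus of the statement -/
def TT (m : ℕ) (F : Type*) [Field F] : Subgroup (Sp m F) :=
  ⨅ i : Fin m ⊕ Fin m, Cfsg.stabilizing (Cfsg.spToMat m F)
    ((Submodule.span F {(Pi.single i (1 : F) : Fin m ⊕ Fin m → F)} :
      Submodule F (Fin m ⊕ Fin m → F)) : Set (Fin m ⊕ Fin m → F))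

lemma mem_span_single_iff (v : II m → F) (i : II m) :
    v ∈ Submodule.span F {(Pi.single i (1 : F) : II m → F)} ↔ ∀ a, a ≠ i → v a = 0 := by
  rw [Submodule.mem_span_singleton]
  constructor
  · rintro ⟨c, rfl⟩ a ha
    simp [Pi.single_apply, ha]
  · intro h
    refine ⟨v i, ?_⟩
    ext a
    by_cases ha : a = i
    · subst ha; simp
    · rw [h a ha]; simp [Pi.single_apply, ha]

lemma coe_mul_inv (g : Sp m F) : g.1 * (g⁻¹).1 = 1 := by
  have := congrArg Subtype.val (mul_inv_cancel g)
  exact this

lemma coe_inv_mul (g : Sp m F) : (g⁻¹).1 * g.1 = 1 := by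
  have := congrArg Subtype.val (inv_mul_cancel g)
  exact this

lemma diag_entry_ne_zero (g : Sp m F) (h : IsDiag g.1) (a : II m) : g.1 a a ≠ 0 := by
  intro h0
  have h1 := congrFun (congrFun (coe_mul_inv g) a) a
  rw [Matrix.mul_apply, Matrix.one_apply_eq] at h1
  have : ∑ j, g.1 a j * (g⁻¹).1 j a = 0 := by
    apply Finset.sum_eq_zero
    intro j _
    by_cases hj : a = j
    · subst hj; rw [h0, zero_mul]
    · rw [h a j hj, zero_mul]
  rw [this] at h1
  exact zero_ne_one h1

lemma mem_TT_iff (g : Sp m F) : g ∈ TT m F ↔ IsDiag g.1 := by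
  unfold TT
  rw [Subgroup.mem_iInf]
  constructor
  · intro h a b hab
    have h1 := (h b (Pi.single b 1)).mp (Submodule.mem_span_singleton_self _)
    have h2 := (mem_span_single_iff _ b).mp h1 a hab
    have h3 : (Cfsg.spToMat m F g *ᵥ Pi.single b 1) a = g.1 a b := by
      show (g.1 *ᵥ Pi.single b 1) a = g.1 a b
      rw [Matrix.mulVec_single_one]
      rfl
    rw [← h3]
    exact h2
  · intro h i v
    show v ∈ (Submodule.span F {(Pi.single i (1 : F) : II m → F)} : Submodule F (II m → F)) ↔
      g.1 *ᵥ v ∈ (Submodule.span F {(Pi.single i (1 : F) : II m → F)} : Submodule F (II m → F))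
    rw [mem_span_single_iff, mem_span_single_iff]
    have hmv : ∀ a, (g.1 *ᵥ v) a = g.1 a a * v a := by
      intro a
      conv_lhs => rw [h.eq_diagonal]
      rw [Matrix.mulVec_diagonal]
    constructor
    · intro hv a ha
      rw [hmv, hv a ha, mul_zero]
    · intro hv a ha
      have := hv a ha
      rw [hmv] at this
      rcases mul_eq_zero.mp this with h0 | h0
      · exact absurd h0 (diag_entry_ne_zero g h a)
      · exact h0

/-- the diagonal vector attached to a family of units -/
def dvec (c : Fin m → Fˣ) : II m → F := Sum.elim (fun i => (c i : F)) (fun i => ((c i)⁻¹ : Fˣ))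

lemma diag_eq_mono (d : II m → F) : Matrix.diagonal d = mono (1 : Equiv.Perm (II m)) d := by
  ext a k
  rw [mono_apply, Equiv.Perm.one_apply]
  by_cases h : a = k
  · subst h; simp
  · rw [Matrix.diagonal_apply_ne _ h, if_neg h]

lemma diag_dvec_mem (c : Fin m → Fˣ) : Matrix.diagonal (dvec c) ∈ Matrix.symplecticGroup (Fin m) F := by
  rw [diag_eq_mono]
  apply mono_mem
  · intro k; rfl
  · intro k
    rw [Equiv.Perm.one_apply]
    rcases k with k | k <;> simp [dvec, th]

/-- torus elements -/
def dT (c : Fin m → Fˣ) : Sp m F := ⟨Matrix.diagonal (dvec c), diag_dvec_mem c⟩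

lemma dT_mem (c : Fin m → Fˣ) : dT c ∈ TT m F := by
  rw [mem_TT_iff]
  exact isDiag_diagonal _

/-- monomial elements normalize the torus -/
lemma mono_mem_normalizer [Finite F] (g : Sp m F) (σ : Equiv.Perm (II m)) (γ : II m → F)
    (hg : g.1 = mono σ γ) : g ∈ Subgroup.normalizer ((TT m F : Subgroup (Sp m F)) : Set (Sp m F)) := by
  apply Subgroup.mem_normalizer_fintype
  intro h hh
  have hh' : IsDiag h.1 := (mem_TT_iff h).mp hh
  show g * h * g⁻¹ ∈ TT m F
  rw [mem_TT_iff]
  have h1 : (g * h * g⁻¹).1 = g.1 * h.1 * (g⁻¹).1 := rfl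
  rw [h1, hh'.eq_diagonal, hg, mono_mul_diag, ← hg, Matrix.mul_assoc, coe_mul_inv, Matrix.mul_one]
  exact isDiag_diagonal _

lemma exists_good_scalar [Fintype F] (hq : 4 ≤ Fintype.card F) : ∃ a : Fˣ, a ≠ 1 ∧ a * a ≠ 1 := by
  classical
  obtain ⟨x, hx⟩ : ∃ x : F, x ∉ ({0, 1, -1} : Finset F) := by
    by_contra hcon
    push Not at hcon
    have h1 : (Finset.univ : Finset F) ⊆ {0, 1, -1} := fun x _ => hcon x
    have h2 := Finset.card_le_card h1
    have h3 : ({0, 1, -1} : Finset F).card ≤ 3 := Finset.card_le_three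
    rw [Finset.card_univ] at h2
    omega
  simp only [Finset.mem_insert, Finset.mem_singleton, not_or] at hx
  obtain ⟨hx0, hx1, hx2⟩ := hx
  refine ⟨Units.mk0 x hx0, ?_, ?_⟩
  · intro h
    apply hx1
    have := congrArg Units.val h
    simpa using this
  · intro h
    have h' : x * x = 1 := by
      have := congrArg Units.val h
      simpa using this
    have h'' : (x - 1) * (x + 1) = 0 := by ring_nf; rw [← pow_two] at *; linear_combination h'
    rcases mul_eq_zero.mp h'' with h3 | h3
    · exact hx1 (sub_eq_zero.mp h3)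
    · exact hx2 (eq_neg_of_add_eq_zero_left h3)

/-- the underlying index in `Fin m` -/
def idx : II m → Fin m := Sum.elim id id

lemma dvec_eq_one_of {c : Fin m → Fˣ} {k : II m} (h : c (idx k) = 1) : dvec (F := F) c k = 1 := by
  rcases k with k | k
  · have h' : c k = 1 := h
    simp [dvec, h']
  · have h' : c k = 1 := h
    simp [dvec, h']

lemma dvec_eq_one_conv {c : Fin m → Fˣ} {k : II m} (h : dvec (F := F) c k = 1) : c (idx k) = 1 := by
  rcases k with k | k
  · show c k = 1
    apply Units.ext
    simpa [dvec] using h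
  · show c k = 1
    have h1 : ((c k)⁻¹ : Fˣ) = 1 := by
      apply Units.ext
      simpa [dvec] using h
    rw [inv_eq_one] at h1
    exact h1

lemma exists_sep [Fintype F] (hq : 4 ≤ Fintype.card F) (j k : II m) (hjk : j ≠ k) :
    ∃ c : Fin m → Fˣ, dvec (F := F) c j ≠ dvec c k := by
  classical
  obtain ⟨a, ha1, ha2⟩ := exists_good_scalar (F := F) hq
  by_cases hp : idx j = idx k
  · refine ⟨fun _ => a, ?_⟩
    rcases j with j | j <;> rcases k with k | k
    · exfalso; apply hjk; simp only [idx, Sum.elim_inl, id] at hp; rw [hp]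
    · simp only [dvec, Sum.elim_inl, Sum.elim_inr]
      intro h
      apply ha2
      apply Units.ext
      have : (a : F) * a = a * ((a⁻¹ : Fˣ) : F) := by rw [← h]
      rw [Units.val_mul, this, ← Units.val_mul, mul_inv_cancel]
    · simp only [dvec, Sum.elim_inl, Sum.elim_inr]
      intro h
      apply ha2
      apply Units.ext
      have : (a : F) * a = a * ((a⁻¹ : Fˣ) : F) := by rw [h]
      rw [Units.val_mul, this, ← Units.val_mul, mul_inv_cancel]
    · exfalso; apply hjk; simp only [idx, Sum.elim_inr, id] at hp; rw [hp]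
  · refine ⟨Function.update (fun _ => 1) (idx j) a, ?_⟩
    have hk : (Function.update (fun _ => (1 : Fˣ)) (idx j) a) (idx k) = 1 := by
      rw [Function.update_of_ne (fun h => hp h.symm)]
    have hj : (Function.update (fun _ => (1 : Fˣ)) (idx j) a) (idx j) = a := by
      rw [Function.update_self]
    rw [dvec_eq_one_of hk]
    intro h
    have := dvec_eq_one_conv h
    rw [hj] at this
    exact ha1 this

/-- in an element of the normalizer every row has at most one non-zero entry -/
lemma row_unique [Fintype F] (hq : 4 ≤ Fintype.card F) (g : Sp m F)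
    (hg : g ∈ Subgroup.normalizer ((TT m F : Subgroup (Sp m F)) : Set (Sp m F)))
    (i j k : II m) (hj : g.1 i j ≠ 0) (hk : g.1 i k ≠ 0) : j = k := by
  by_contra hjk
  obtain ⟨c, hc⟩ := exists_sep (F := F) hq j k hjk
  have h1 : g * dT c * g⁻¹ ∈ TT m F := (Subgroup.mem_normalizer_iff.mp hg (dT c)).mp (dT_mem c)
  rw [mem_TT_iff] at h1
  have h2 : (g * dT c * g⁻¹).1 * g.1 = g.1 * (dT c).1 := by
    have : g * dT c * g⁻¹ * g = g * dT c := by group
    exact congrArg Subtype.val this
  have h3 : ∀ l, (g * dT c * g⁻¹).1 i i * g.1 i l = g.1 i l * dvec c l := by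
    intro l
    have := congrFun (congrFun h2 i) l
    rw [h1.eq_diagonal, Matrix.diagonal_mul] at this
    rw [this]
    show (g.1 * Matrix.diagonal (dvec c)) i l = _
    rw [Matrix.mul_diagonal]
  have h4 : (g * dT c * g⁻¹).1 i i = dvec c j := by
    have := h3 j
    rw [mul_comm] at this
    exact mul_left_cancel₀ hj this
  have h5 : (g * dT c * g⁻¹).1 i i = dvec c k := by
    have := h3 k
    rw [mul_comm] at this
    exact mul_left_cancel₀ hk this
  exact hc (h4.symm.trans h5)

lemma row_exists (g : Sp m F) (i : II m) : ∃ j, g.1 i j ≠ 0 := by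
  by_contra hcon
  push Not at hcon
  have h1 := congrFun (congrFun (coe_mul_inv g) i) i
  rw [Matrix.mul_apply, Matrix.one_apply_eq] at h1
  have : ∑ j, g.1 i j * (g⁻¹).1 j i = 0 := by
    apply Finset.sum_eq_zero
    intro j _
    rw [hcon j, zero_mul]
  rw [this] at h1
  exact zero_ne_one h1

/-- elements of the normalizer are monomial -/
lemma exists_mono [Fintype F] (hq : 4 ≤ Fintype.card F) (g : Sp m F)
    (hg : g ∈ Subgroup.normalizer ((TT m F : Subgroup (Sp m F)) : Set (Sp m F))) :
    ∃ (σ : Equiv.Perm (II m)) (γ : II m → F), (∀ k, γ k ≠ 0) ∧ g.1 = mono σ γ := by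
  classical
  choose ρ hρ using row_exists g
  have hρu : ∀ i j, g.1 i j ≠ 0 → j = ρ i := fun i j hj => row_unique hq g hg i j (ρ i) hj (hρ i)
  have hinj : Function.Injective ρ := by
    intro i i' hii
    by_contra hne
    -- rows i and i' are both supported on column ρ i
    have h1 := congrFun (congrFun (coe_mul_inv g) i) i
    have h2 := congrFun (congrFun (coe_mul_inv g) i') i
    rw [Matrix.mul_apply, Matrix.one_apply_eq, Finset.sum_eq_single (ρ i)] at h1
    · rw [Matrix.mul_apply, Matrix.one_apply_ne (fun h => hne h.symm), Finset.sum_eq_single (ρ i')] at h2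
      · rw [← hii] at h2
        rcases mul_eq_zero.mp h2 with h3 | h3
        · rw [hii] at h3; exact hρ i' h3
        · rw [h3, mul_zero] at h1
          exact zero_ne_one h1
      · intro j _ hj
        by_cases h0 : g.1 i' j = 0
        · rw [h0, zero_mul]
        · exact absurd (hρu i' j h0) hj
      · intro h; exact absurd (Finset.mem_univ _) h
    · intro j _ hj
      by_cases h0 : g.1 i j = 0
      · rw [h0, zero_mul]
      · exact absurd (hρu i j h0) hj
    · intro h; exact absurd (Finset.mem_univ _) h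
  have hbij : Function.Bijective ρ := Finite.injective_iff_bijective.mp hinj
  let ρe : Equiv.Perm (II m) := Equiv.ofBijective ρ hbij
  refine ⟨ρe.symm, fun k => g.1 (ρe.symm k) k, ?_, ?_⟩
  · intro k
    have := hρ (ρe.symm k)
    have h1 : ρ (ρe.symm k) = k := ρe.apply_symm_apply k
    rw [h1] at this
    exact this
  · ext a k
    rw [mono_apply]
    by_cases h : a = ρe.symm k
    · rw [if_pos h, h]
    · rw [if_neg h]
      by_contra h0
      apply h
      have := hρu a k h0
      rw [this]
      exact (ρe.symm_apply_apply a).symm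

end Cfsg.Agent.helper17.SpN
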