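import Mathlib
import Cfsg.Agent.Lib_helper17_SpN2

set_option autoImplicit false

namespace Cfsg.Agent.helper17.SpN

open Matrix

variable {m : ℕ} {F : Type*} [Field F]

lemma th_mul_th : th m * th m = 1 := by
  ext k
  rw [Equiv.Perm.mul_apply, th_th]; rfl

lemma cycleType_th : (th m).cycleType = Multiset.replicate m 2 := by
  have hsupp : (th m).support = Finset.univ := by
    ext k
    simp only [Equiv.Perm.mem_support, Finset.mem_univ, iff_true]
    exact th_ne k
  have hall : ∀ n ∈ (th m).cycleType, n = 2 := by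
    intro n hn
    have h1 := Equiv.Perm.dvd_of_mem_cycleType hn
    have h2 : orderOf (th m) ∣ 2 := orderOf_dvd_of_pow_eq_one (by rw [pow_two, th_mul_th])
    have h3 := Equiv.Perm.two_le_of_mem_cycleType hn
    have h4 : n ∣ 2 := h1.trans h2
    have h5 := Nat.le_of_dvd (by norm_num) h4
    omega
  have hrep := Multiset.eq_replicate_of_mem hall
  have hsum := Equiv.Perm.sum_cycleType (th m)
  rw [hsupp, Finset.card_univ, Fintype.card_sum, Fintype.card_fin] at hsum
  rw [hrep, Multiset.sum_replicate, smul_eq_mul] at hsum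
  have : Multiset.card (th m).cycleType = m := by omega
  rw [hrep, this]

lemma card_centralizer_th : Nat.card (Subgroup.centralizer ({th m} : Set (Equiv.Perm (II m)))) =
    2 ^ m * Nat.factorial m := by
  rw [Equiv.Perm.nat_card_centralizer, cycleType_th]
  simp only [Multiset.sum_replicate, smul_eq_mul, Fintype.card_sum, Fintype.card_fin,
    Multiset.prod_replicate]
  have h0 : m + m - m * 2 = 0 := by omega
  rw [h0, Nat.factorial_zero, one_mul]
  congr 1
  rcases Nat.eq_zero_or_pos m with hm | hm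
  · subst hm; simp
  · have : (Multiset.replicate m 2).toFinset = {2} := by
      ext x
      simp only [Multiset.mem_toFinset, Multiset.mem_replicate, Finset.mem_singleton]
      constructor
      · rintro ⟨_, rfl⟩; rfl
      · rintro rfl; exact ⟨by omega, rfl⟩
    rw [this, Finset.prod_singleton, Multiset.count_replicate_self]

lemma mem_centralizer_th (σ : Equiv.Perm (II m)) :
    σ ∈ Subgroup.centralizer ({th m} : Set (Equiv.Perm (II m))) ↔ ∀ k, σ (th m k) = th m (σ k) := by
  rw [Subgroup.mem_centralizer_iff]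
  constructor
  · intro h k
    have := h (th m) rfl
    have h2 := congrArg (fun f => f k) this
    simp only [Equiv.Perm.mul_apply] at h2
    exact h2.symm
  · intro h x hx
    rw [Set.mem_singleton_iff] at hx
    subst hx
    ext k
    simp only [Equiv.Perm.mul_apply]
    exact (h k).symm

/-- the coefficient vector attached to a permutation and a family of units -/
def gam (σ : Equiv.Perm (II m)) (c : Fin m → Fˣ) : II m → F :=
  Sum.elim (fun i => (c i : F)) (fun i => - sg m F (σ (Sum.inl i)) * ((c i)⁻¹ : Fˣ))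

lemma gam_ne_zero (σ : Equiv.Perm (II m)) (c : Fin m → Fˣ) (k : II m) : gam (F := F) σ c k ≠ 0 := by
  rcases k with k | k
  · simp [gam]
  · simp only [gam, Sum.elim_inr]
    exact mul_ne_zero (neg_ne_zero.mpr (sg_ne_zero _)) (Units.ne_zero _)

lemma gam_rel (σ : Equiv.Perm (II m)) (hσ : ∀ k, σ (th m k) = th m (σ k)) (c : Fin m → Fˣ) (k : II m) :
    gam (F := F) σ c k * gam σ c (th m k) * sg m F k = sg m F (σ k) := by
  rcases k with k | k
  · show (c k : F) * (- sg m F (σ (Sum.inl k)) * ((c k)⁻¹ : Fˣ)) * (-1) = sg m F (σ (Sum.inl k))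
    have : (c k : F) * ((c k)⁻¹ : Fˣ) = 1 := by rw [← Units.val_mul, mul_inv_cancel]; rfl
    linear_combination (sg m F (σ (Sum.inl k))) * this
  · show (- sg m F (σ (Sum.inl k)) * ((c k)⁻¹ : Fˣ)) * (c k : F) * 1 = sg m F (σ (Sum.inr k))
    have : ((c k)⁻¹ : Fˣ) * (c k : F) = 1 := by rw [← Units.val_mul, inv_mul_cancel]; rfl
    have h2 : sg m F (σ (Sum.inr k)) = - sg m F (σ (Sum.inl k)) := by
      have := hσ (Sum.inl k)
      have h3 : th m (Sum.inl k) = Sum.inr k := rfl
      rw [h3] at this
      rw [this, sg_th]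
    rw [h2]
    linear_combination (- sg m F (σ (Sum.inl k))) * this

/-- the parametrisation of the normalizer -/
noncomputable def Psi [Finite F] (x : ↥(Subgroup.centralizer ({th m} : Set (Equiv.Perm (II m)))) × (Fin m → Fˣ)) :
    ↥(Subgroup.normalizer ((TT m F : Subgroup (Sp m F)) : Set (Sp m F))) :=
  ⟨⟨mono x.1.1 (gam x.1.1 x.2), mono_mem _ _ ((mem_centralizer_th _).mp x.1.2)
      (gam_rel _ ((mem_centralizer_th _).mp x.1.2) _)⟩,
    mono_mem_normalizer _ x.1.1 (gam x.1.1 x.2) rfl⟩

lemma Psi_val [Finite F] (x : ↥(Subgroup.centralizer ({th m} : Set (Equiv.Perm (II m)))) × (Fin m → Fˣ)) :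
    ((Psi (F := F) x).1).1 = mono x.1.1 (gam x.1.1 x.2) := rfl

lemma Psi_injective [Finite F] : Function.Injective (Psi (m := m) (F := F)) := by
  intro x y h
  have h1 : mono x.1.1 (gam (F := F) x.1.1 x.2) = mono y.1.1 (gam y.1.1 y.2) := by
    rw [← Psi_val, ← Psi_val, h]
  obtain ⟨h2, h3⟩ := mono_injective (gam_ne_zero _ _) h1
  apply Prod.ext
  · exact Subtype.ext h2
  · funext i
    have := congrFun h3 (Sum.inl i)
    simp only [gam, Sum.elim_inl] at this
    exact Units.ext this

lemma Psi_surjective [Fintype F] (hq : 4 ≤ Fintype.card F) : Function.Surjective (Psi (m := m) (F := F)) := by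
  intro g
  obtain ⟨σ, γ, hγ0, hg⟩ := exists_mono hq g.1 g.2
  have hmem : mono σ γ ∈ Matrix.symplecticGroup (Fin m) F := by
    rw [← hg]; exact g.1.2
  have hσ : ∀ k, σ (th m k) = th m (σ k) := fun k => (mono_mem_conv σ γ hγ0 hmem k).1
  have hrel : ∀ k, γ k * γ (th m k) * sg m F k = sg m F (σ k) := fun k => (mono_mem_conv σ γ hγ0 hmem k).2
  refine ⟨(⟨σ, (mem_centralizer_th σ).mpr hσ⟩, fun i => Units.mk0 (γ (Sum.inl i)) (hγ0 _)), ?_⟩
  apply Subtype.ext
  apply Subtype.ext
  rw [Psi_val, hg]
  congr 1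
  funext k
  rcases k with k | k
  · simp [gam]
  · simp only [gam, Sum.elim_inr]
    have h1 := hrel (Sum.inl k)
    have h3 : th m (Sum.inl k) = Sum.inr k := rfl
    rw [h3] at h1
    have h4 : sg m F (Sum.inl k) = -1 := rfl
    rw [h4] at h1
    have h5 : ((Units.mk0 (γ (Sum.inl k)) (hγ0 _))⁻¹ : Fˣ) = ((γ (Sum.inl k))⁻¹ : F) := by
      rw [Units.val_inv_eq_inv_val]; rfl
    rw [h5, ← h1]
    field_simp [hγ0 (Sum.inl k)]

theorem card_normalizer [Fintype F] (hq : 4 ≤ Fintype.card F) :
    Nat.card ↥(Subgroup.normalizer ((TT m F : Subgroup (Sp m F)) : Set (Sp m F))) =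
      2 ^ m * Nat.factorial m * (Fintype.card F - 1) ^ m := by
  classical
  have hbij : Function.Bijective (Psi (m := m) (F := F)) := ⟨Psi_injective, Psi_surjective hq⟩
  rw [← Nat.card_congr (Equiv.ofBijective _ hbij), Nat.card_prod, card_centralizer_th]
  congr 1
  rw [Nat.card_eq_fintype_card, Fintype.card_fun, Fintype.card_fin, Fintype.card_units]

end Cfsg.Agent.helper17.SpN
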