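import Mathlib

set_option autoImplicit false
set_option linter.unusedSectionVars false

/-!
# Commuting symplectic involutions: at most `2 ^ n` of them in `Sp_{2n}` (char ≠ 2)
-/

namespace Cfsg.Agent.helper17.SpR

open Matrix

variable {F : Type*} [Field F] {l : Type*} [Fintype l] [DecidableEq l]

/-- the symplectic form -/
noncomputable def om (l : Type*) [Fintype l] [DecidableEq l] (F : Type*) [Field F] :
    LinearMap.BilinForm F (l ⊕ l → F) := Matrix.toBilin' (J l F)

theorem om_apply (v w : l ⊕ l → F) : om l F v w = v ⬝ᵥ (J l F *ᵥ w) :=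
  Matrix.toBilin'_apply' _ _ _

theorem om_invariant {A : Matrix (l ⊕ l) (l ⊕ l) F} (hA : A ∈ symplecticGroup l F)
    (v w : l ⊕ l → F) : om l F (A *ᵥ v) (A *ᵥ w) = om l F v w := by
  rw [om_apply, om_apply, Matrix.mulVec_mulVec, ← vecMul_transpose, ← dotProduct_mulVec,
    Matrix.mulVec_mulVec, ← Matrix.mul_assoc, SymplecticGroup.mem_iff'.mp hA]

theorem om_self (h2 : (2 : F) ≠ 0) (v : l ⊕ l → F) : om l F v v = 0 := by
  have h1 : om l F v v = - om l F v v := by
    rw [om_apply]
    calc v ⬝ᵥ (J l F *ᵥ v) = (v ᵥ* J l F) ⬝ᵥ v := dotProduct_mulVec _ _ _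
      _ = ((J l F)ᵀ *ᵥ v) ⬝ᵥ v := by rw [mulVec_transpose]
      _ = -((J l F *ᵥ v) ⬝ᵥ v) := by rw [J_transpose, Matrix.neg_mulVec, neg_dotProduct]
      _ = -(v ⬝ᵥ (J l F *ᵥ v)) := by rw [dotProduct_comm]
  have h3 : (2 : F) * om l F v v = 0 := by linear_combination h1
  rcases mul_eq_zero.mp h3 with h | h
  · exact absurd h h2
  · exact h

theorem om_swap (h2 : (2 : F) ≠ 0) (v w : l ⊕ l → F) : om l F w v = - om l F v w := by
  have h := om_self h2 (v + w)
  rw [LinearMap.BilinForm.add_left, LinearMap.BilinForm.add_right, LinearMap.BilinForm.add_right,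
    om_self h2 v, om_self h2 w] at h
  linear_combination h

theorem om_nondeg (v : l ⊕ l → F) (h : ∀ w, om l F v w = 0) : v = 0 := by
  funext i
  have h1 := h ((-J l F) *ᵥ Pi.single i 1)
  rw [om_apply, Matrix.mulVec_mulVec, Matrix.mul_neg, J_squared, neg_neg, Matrix.one_mulVec,
    dotProduct_single, mul_one] at h1
  exact h1

/-- signs -/
def sgn (F : Type*) [Field F] (b : Bool) : F := if b then 1 else -1

theorem sgn_mul_of_ne {b b' : Bool} (h : b ≠ b') : sgn F b * sgn F b' = -1 := by
  cases b <;> cases b' <;> simp [sgn] at h ⊢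

section family

variable {ι : Type*} (M : ι → Matrix (l ⊕ l) (l ⊕ l) F)

/-- simultaneous sign spaces -/
def W (T : Finset ι) (s : ι → Bool) : Submodule F (l ⊕ l → F) where
  carrier := {v | ∀ i ∈ T, M i *ᵥ v = sgn F (s i) • v}
  add_mem' := by
    intro a b ha hb i hi
    rw [Matrix.mulVec_add, ha i hi, hb i hi, smul_add]
  zero_mem' := by
    intro i _
    simp
  smul_mem' := by
    intro c a ha i hi
    rw [Matrix.mulVec_smul, ha i hi, smul_comm]

theorem mem_W (T : Finset ι) (s : ι → Bool) (v : l ⊕ l → F) :
    v ∈ W M T s ↔ ∀ i ∈ T, M i *ᵥ v = sgn F (s i) • v := Iff.rfl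

variable [DecidableEq ι]

theorem iSup_W_eq_top (h2 : (2 : F) ≠ 0) (hinv : ∀ i, M i * M i = 1)
    (hcomm : ∀ i j, M i * M j = M j * M i) (T : Finset ι) : ⨆ s, W M T s = ⊤ := by
  induction T using Finset.induction_on with
  | empty =>
    rw [eq_top_iff]
    refine le_trans ?_ (le_iSup _ (fun _ => true))
    intro v _ i hi
    simp at hi
  | insert a T ha ih =>
    rw [eq_top_iff, ← ih]
    apply iSup_le
    intro s v hv
    have hdecomp : v = ((2 : F)⁻¹ • (v + M a *ᵥ v)) + ((2 : F)⁻¹ • (v - M a *ᵥ v)) := by
      rw [← smul_add]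
      have : v + M a *ᵥ v + (v - M a *ᵥ v) = (2 : F) • v := by
        rw [two_smul]; abel
      rw [this, smul_smul, inv_mul_cancel₀ h2, one_smul]
    rw [hdecomp]
    apply Submodule.add_mem
    · apply Submodule.mem_iSup_of_mem (Function.update s a true)
      intro i hi
      rw [Matrix.mulVec_smul, Matrix.mulVec_add, Matrix.mulVec_mulVec]
      by_cases hia : i = a
      · subst hia
        rw [hinv, Matrix.one_mulVec, Function.update_self]
        simp only [sgn, if_true, one_smul]
        rw [add_comm]
      · have hiT : i ∈ T := by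
          rcases Finset.mem_insert.mp hi with h | h
          · exact absurd h hia
          · exact h
        rw [Function.update_of_ne hia, hcomm, ← Matrix.mulVec_mulVec, hv i hiT,
          Matrix.mulVec_smul, ← smul_add, smul_comm]
    · apply Submodule.mem_iSup_of_mem (Function.update s a false)
      intro i hi
      rw [Matrix.mulVec_smul, Matrix.mulVec_sub, Matrix.mulVec_mulVec]
      by_cases hia : i = a
      · subst hia
        rw [hinv, Matrix.one_mulVec, Function.update_self]
        simp only [sgn, Bool.false_eq_true, if_false, neg_smul, one_smul, ← smul_neg, neg_sub]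
      · have hiT : i ∈ T := by
          rcases Finset.mem_insert.mp hi with h | h
          · exact absurd h hia
          · exact h
        rw [Function.update_of_ne hia, hcomm, ← Matrix.mulVec_mulVec, hv i hiT,
          Matrix.mulVec_smul, ← smul_sub, smul_comm]

end family

section bound

variable {ι : Type*} [Fintype ι] [DecidableEq ι] (M : ι → Matrix (l ⊕ l) (l ⊕ l) F)

theorem orth (hM : ∀ i, M i ∈ symplecticGroup l F) (h2 : (2 : F) ≠ 0) {s s' : ι → Bool}
    (hne : s ≠ s') {v w : l ⊕ l → F} (hv : v ∈ W M Finset.univ s)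
    (hw : w ∈ W M Finset.univ s') : om l F v w = 0 := by
  obtain ⟨i, hi⟩ := Function.ne_iff.mp hne
  have h1 := om_invariant (hM i) v w
  rw [hv i (Finset.mem_univ _), hw i (Finset.mem_univ _), map_smul, map_smul,
    LinearMap.smul_apply, smul_eq_mul, smul_eq_mul, ← mul_assoc, mul_comm (sgn F (s' i)),
    sgn_mul_of_ne hi] at h1
  have h3 : (2 : F) * om l F v w = 0 := by linear_combination -h1
  rcases mul_eq_zero.mp h3 with h | h
  · exact absurd h h2
  · exact h

theorem card_le (h2 : (2 : F) ≠ 0) (hM : ∀ i, M i ∈ symplecticGroup l F)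
    (hinv : ∀ i, M i * M i = 1) (hcomm : ∀ i j, M i * M j = M j * M i)
    (hinj : Function.Injective M) : Fintype.card ι ≤ 2 ^ Fintype.card l := by
  classical
  set Xs : Finset (ι → Bool) := Finset.univ.filter (fun s => W M Finset.univ s ≠ ⊥) with hXs
  have hsup := iSup_W_eq_top M h2 hinv hcomm Finset.univ
  have step1 : Fintype.card ι ≤ 2 ^ Xs.card := by
    have hinj2 : Function.Injective (fun (i : ι) (s : Xs) => s.1 i) := by
      intro i j hij
      apply hinj
      have heq : ∀ v, M i *ᵥ v = M j *ᵥ v := by
        intro v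
        have hv : v ∈ (⨆ s, W M Finset.univ s) := by rw [hsup]; trivial
        have hle : (⨆ s, W M Finset.univ s) ≤
            LinearMap.eqLocus (Matrix.mulVecLin (M i)) (Matrix.mulVecLin (M j)) := by
          apply iSup_le
          intro s w hw
          by_cases hs : W M Finset.univ s = ⊥
          · rw [hs] at hw; rw [(Submodule.mem_bot F).mp hw]; exact Submodule.zero_mem _
          · have hsX : s ∈ Xs := by rw [hXs]; simp [hs]
            have h3 := congrFun hij ⟨s, hsX⟩
            simp only at h3
            rw [LinearMap.mem_eqLocus]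
            show M i *ᵥ w = M j *ᵥ w
            rw [hw i (Finset.mem_univ _), hw j (Finset.mem_univ _), h3]
        exact LinearMap.mem_eqLocus.mp (hle hv)
      exact Matrix.ext_iff_mulVec.mpr heq
    have h3 := Fintype.card_le_of_injective _ hinj2
    simpa using h3
  have step2 : Xs.card ≤ Fintype.card l := by
    have hv : ∀ s : Xs, ∃ v, v ∈ W M Finset.univ s.1 ∧ v ≠ 0 := by
      intro s
      have h3 := (Finset.mem_filter.mp s.2).2
      exact (Submodule.ne_bot_iff _).mp h3
    choose v hvW hv0 using hv
    have hw : ∀ s : Xs, ∃ w, w ∈ W M Finset.univ s.1 ∧ om l F (v s) w ≠ 0 := by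
      intro s
      by_contra hcon
      push Not at hcon
      apply hv0 s
      apply om_nondeg
      intro w
      have hw : w ∈ (⨆ s, W M Finset.univ s) := by rw [hsup]; trivial
      have hle : (⨆ s', W M Finset.univ s') ≤ LinearMap.ker (om l F (v s)) := by
        apply iSup_le
        intro s' w' hw'
        rw [LinearMap.mem_ker]
        by_cases hss : s.1 = s'
        · rw [← hss] at hw'; exact hcon w' hw'
        · exact orth M hM h2 hss (hvW s) hw'
      exact LinearMap.mem_ker.mp (hle hw)
    choose w hwW hw0 using hw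
    have hli : LinearIndependent F (Sum.elim v w) := by
      rw [Fintype.linearIndependent_iff]
      intro g hg
      rw [Fintype.sum_sum_type] at hg
      simp only [Sum.elim_inl, Sum.elim_inr] at hg
      have hb : ∀ t, g (Sum.inr t) = 0 := by
        intro t
        have h := congrArg (om l F (v t)) hg
        rw [map_add, map_sum, map_sum, map_zero] at h
        simp only [map_smul, smul_eq_mul] at h
        rw [Finset.sum_eq_single t, Finset.sum_eq_single t] at h
        · rw [om_self h2, mul_zero, zero_add] at h
          exact (mul_eq_zero.mp h).resolve_right (hw0 t)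
        · intro s _ hst
          rw [orth M hM h2 (fun h => hst (Subtype.ext h.symm)) (hvW t) (hwW s), mul_zero]
        · simp
        · intro s _ hst
          rw [orth M hM h2 (fun h => hst (Subtype.ext h.symm)) (hvW t) (hvW s), mul_zero]
        · simp
      have ha : ∀ t, g (Sum.inl t) = 0 := by
        intro t
        have h := congrArg (om l F (w t)) hg
        rw [map_add, map_sum, map_sum, map_zero] at h
        simp only [map_smul, smul_eq_mul] at h
        rw [Finset.sum_eq_single t, Finset.sum_eq_single t] at h
        · rw [om_self h2, mul_zero, add_zero, om_swap h2 (v t) (w t)] at h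
          have h4 : g (Sum.inl t) * om l F (v t) (w t) = 0 := by linear_combination -h
          exact (mul_eq_zero.mp h4).resolve_right (hw0 t)
        · intro s _ hst
          rw [orth M hM h2 (fun h => hst (Subtype.ext h.symm)) (hwW t) (hwW s), mul_zero]
        · simp
        · intro s _ hst
          rw [orth M hM h2 (fun h => hst (Subtype.ext h.symm)) (hwW t) (hvW s), mul_zero]
        · simp
      rintro (t | t)
      · exact ha t
      · exact hb t
    have h5 := hli.fintype_card_le_finrank
    rw [Module.finrank_fintype_fun_eq_card, Fintype.card_sum, Fintype.card_sum,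
      Fintype.card_coe] at h5
    omega
  exact le_trans step1 (Nat.pow_le_pow_right (by norm_num) step2)

end bound

end Cfsg.Agent.helper17.SpR
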