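import Mathlib
import Cfsg.Agent.Lib_helper17_SpR1
import Cfsg.Agent.Lib_helper17_SpR2
import Cfsg.Agent.Lib_helper17_SpR3
import Cfsg.Agent.Lib_helper17_SpR4

set_option autoImplicit false
set_option linter.unusedSectionVars false

/-!
# Normal 2-rank of `Sp_{2n}(q)`, `q` odd: assembling
-/

namespace Cfsg.Agent.helper17.SpR

open Matrix Subgroup

variable {F : Type*} [Field F] {l : Type*} [Fintype l] [DecidableEq l]

/-- the diagonal elementary abelian subgroup -/
def DD (l : Type*) [Fintype l] [DecidableEq l] (F : Type*) [Field F] :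
    Subgroup (symplecticGroup l F) := (delta (F := F) (l := l)).range

theorem DD_comm : ∀ a ∈ DD l F, ∀ b ∈ DD l F, a * b = b * a := by
  rintro _ ⟨e, rfl⟩ _ ⟨e', rfl⟩
  rw [← map_mul, ← map_mul, mul_comm]

theorem DD_sq : ∀ a ∈ DD l F, a ^ 2 = 1 := by
  rintro _ ⟨e, rfl⟩
  rw [pow_two, delta_sq]

theorem card_DD (h2 : (2 : F) ≠ 0) : Nat.card (DD l F) = 2 ^ Fintype.card l := by
  have h1 := Nat.card_congr (MonoidHom.ofInjective (delta_injective (l := l) h2)).toEquiv
  unfold DD
  rw [← h1, Nat.card_eq_fintype_card, Fintype.card_fun, Fintype.card_units_int]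

theorem beta_mem_centralizer (g : l → SpecialLinearGroup (Fin 2) F) :
    beta g ∈ centralizer (DD l F : Set (symplecticGroup l F)) := by
  rw [Subgroup.mem_centralizer_iff]
  rintro _ ⟨e, rfl⟩
  exact (delta_comm_beta e g).symm

theorem perm_conj_delta (σ : Equiv.Perm l) (e : l → ℤˣ) :
    perm (F := F) σ * delta e * (perm σ)⁻¹ = delta (fun i => e (σ⁻¹ i)) := by
  rw [perm_mul_delta, mul_assoc, mul_inv_cancel, mul_one]

theorem perm_mem_normalizer (σ : Equiv.Perm l) :
    perm σ ∈ normalizer (DD l F : Set (symplecticGroup l F)) := by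
  rw [mem_set_normalizer_iff]
  intro h
  constructor
  · rintro ⟨e, rfl⟩
    rw [perm_conj_delta]
    exact ⟨_, rfl⟩
  · rintro ⟨e, he⟩
    have h3 : h = perm σ⁻¹ * delta e * (perm (F := F) σ⁻¹)⁻¹ := by
      rw [he, map_inv, inv_inv]
      simp only [mul_assoc, inv_mul_cancel_left, inv_mul_cancel, mul_one]
    rw [h3, perm_conj_delta]
    exact ⟨_, rfl⟩

theorem perm_mem_centralizer (h2 : (2 : F) ≠ 0) (σ : Equiv.Perm l)
    (h : perm σ ∈ centralizer (DD l F : Set (symplecticGroup l F))) : σ = 1 := by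
  rw [Subgroup.mem_centralizer_iff] at h
  have h1 : ∀ e : l → ℤˣ, (fun i => e (σ⁻¹ i)) = e := by
    intro e
    apply delta_injective (F := F) h2
    have h3 := h (delta e) ⟨e, rfl⟩
    rw [perm_mul_delta] at h3
    exact (mul_right_cancel h3).symm
  have h4 : σ⁻¹ = 1 := by
    ext i
    by_contra hne
    have hne' : σ⁻¹ i ≠ i := hne
    have h5 := congrFun (h1 (Function.update 1 i (-1))) i
    simp only [Function.update_self] at h5
    rw [Function.update_of_ne hne'] at h5
    have h6 : (1 : ℤˣ) = -1 := h5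
    exact absurd h6 (by decide)
  exact inv_eq_one.mp h4

theorem val_normalizer {F : Type*} [Field F] [Fintype F] (hF : Odd (Fintype.card F)) (n : ℕ)
    (h2 : (2 : F) ≠ 0) :
    (Nat.card (normalizer (DD (Fin n) F : Set (symplecticGroup (Fin n) F)))).factorization 2 =
      (Nat.card (symplecticGroup (Fin n) F)).factorization 2 := by
  apply val_sandwich hF
  · have h1 := card_dvd_normalizer (DD (Fin n) F) (beta (F := F) (l := Fin n)) beta_injective
      beta_mem_centralizer (perm (F := F) (l := Fin n)) perm_mem_normalizer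
      (perm_mem_centralizer h2)
    rw [Nat.card_fun, Nat.card_eq_fintype_card (α := Fin n), Fintype.card_fin,
      Nat.card_eq_fintype_card (α := Equiv.Perm (Fin n)), Fintype.card_perm,
      Fintype.card_fin] at h1
    exact h1
  · exact Subgroup.card_subgroup_dvd_card _

theorem two_ne_zero_of_odd' {F : Type*} [Field F] [Fintype F] (hodd : Odd (Fintype.card F)) :
    (2 : F) ≠ 0 := by
  apply Ring.two_ne_zero
  intro h
  have := (FiniteField.even_card_iff_char_two).mp h
  obtain ⟨k, hk⟩ := hodd
  omega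

theorem main {F : Type*} [Field F] [Fintype F] (hF : Odd (Fintype.card F)) (n : ℕ)
    (S : Sylow 2 ↥(symplecticGroup (Fin n) F)) :
    (∃ E : Subgroup ↥(S : Subgroup ↥(symplecticGroup (Fin n) F)), E.Normal ∧
        Cfsg.IsElementaryAbelian 2 E ∧ 2 ^ n ≤ Nat.card ↥E) ∧
      ∀ E : Subgroup ↥(S : Subgroup ↥(symplecticGroup (Fin n) F)),
        Cfsg.IsElementaryAbelian 2 E → Nat.card ↥E ≤ 2 ^ n := by
  have h2 := two_ne_zero_of_odd' hF
  constructor
  · obtain ⟨E, hE1, hE2, hE3⟩ := exists_normal_sub (DD (Fin n) F) DD_comm DD_sq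
      (val_normalizer hF n h2) S
    refine ⟨E, hE1, hE2, ?_⟩
    rw [card_DD h2, Fintype.card_fin] at hE3
    exact hE3
  · intro E hE
    classical
    have : Fintype ↥E := Fintype.ofFinite _
    have h3 := card_le (l := Fin n) (ι := ↥E) (fun e => (e.1.1.1 : Matrix _ _ F)) h2
      (fun e => e.1.1.2)
      (fun e => by
        have h4 := hE.2 e.1 e.2
        have h5 := congrArg (fun x => (x.1.1 : Matrix _ _ F)) h4
        simpa [pow_two] using h5)
      (fun e e' => by
        have h4 := hE.1.is_comm.comm e e'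
        have h5 := congrArg (fun x => (x.1.1.1 : Matrix _ _ F)) h4
        simpa using h5)
      (fun e e' h => Subtype.ext (Subtype.ext (Subtype.ext h)))
    rw [Fintype.card_fin] at h3
    rw [Nat.card_eq_fintype_card]
    exact h3

end Cfsg.Agent.helper17.SpR
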