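import Mathlib
import Cfsg.Agent.Lib_helper17_SylPC4
import Cfsg.Agent.Lib_helper17_SpR3

set_option autoImplicit false
set_option linter.unusedSectionVars false

/-!
# Monomial matrices: diagonal and permutation matrices in `GL`
-/

namespace Cfsg.Agent.helper17.SylPC

open Matrix Subgroup
open Cfsg.Agent.helper17.SpR (pm pm_transpose pm_mul pm_one pm_mul_diagonal)

variable {F : Type*} [Field F] {o : Type*} [Fintype o] [DecidableEq o]

/-- diagonal matrices -/
def dg : (o → Fˣ) →* GL o F :=
  (Units.map ((Matrix.diagonalRingHom o F) : (o → F) →* Matrix o o F)).comp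
    (MulEquiv.piUnits (M := fun _ : o => F)).symm.toMonoidHom

theorem dg_val (d : o → Fˣ) :
    ((dg d : GL o F) : Matrix o o F) = diagonal (fun i => (d i : F)) := rfl

/-- permutation matrices as a monoid hom -/
def pmHom : Equiv.Perm o →* Matrix o o F where
  toFun := pm
  map_one' := pm_one
  map_mul' := pm_mul

/-- permutation matrices in `GL` -/
def pg : Equiv.Perm o →* GL o F := (pmHom (F := F) (o := o)).toHomUnits

theorem pg_val (σ : Equiv.Perm o) : ((pg σ : GL o F) : Matrix o o F) = pm σ := rfl

theorem pg_mul_dg (σ : Equiv.Perm o) (d : o → Fˣ) :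
    pg σ * dg d = dg (fun i => d (σ⁻¹ i)) * pg (F := F) σ := by
  apply Units.ext
  rw [Units.val_mul, Units.val_mul, pg_val, dg_val, dg_val, pm_mul_diagonal]

theorem pg_conj_dg (σ : Equiv.Perm o) (d : o → Fˣ) :
    pg σ * dg d * (pg (F := F) σ)⁻¹ = dg (fun i => d (σ⁻¹ i)) := by
  rw [pg_mul_dg, mul_assoc, mul_inv_cancel, mul_one]

theorem det_dg (d : o → Fˣ) : ((dg d : GL o F) : Matrix o o F).det = ∏ i, (d i : F) := by
  rw [dg_val, det_diagonal]

theorem det_pg_sq (σ : Equiv.Perm o) :
    ((pg σ : GL o F) : Matrix o o F).det * ((pg σ : GL o F) : Matrix o o F).det = 1 := by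
  rw [pg_val]
  have h1 : pm (F := F) σ * (pm σ)ᵀ = 1 := by
    rw [pm_transpose, ← pm_mul, mul_inv_cancel, pm_one]
  have h2 := congrArg Matrix.det h1
  rw [det_mul, det_transpose, det_one] at h2
  exact h2

theorem dg_injective : Function.Injective (dg (F := F) (o := o)) := by
  intro d d' h
  have h1 := congrArg (fun g : GL o F => (g : Matrix o o F)) h
  simp only [dg_val] at h1
  funext i
  apply Units.ext
  exact congrFun (diagonal_injective h1) i

theorem pg_eq_dg (σ : Equiv.Perm o) (d : o → Fˣ) (h : pg (F := F) σ = dg d) : σ = 1 := by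
  ext j
  by_contra hne
  have hne' : σ j ≠ j := hne
  have h1 := congrArg (fun g : GL o F => (g : Matrix o o F) (σ j) j) h
  simp only [pg_val, dg_val, pm, of_apply, if_true, diagonal_apply_ne _ hne'] at h1
  exact one_ne_zero h1

theorem pg_injective : Function.Injective (pg (F := F) (o := o)) := by
  rw [injective_iff_map_eq_one]
  intro σ hσ
  apply pg_eq_dg (F := F) σ 1
  rw [hσ, map_one]

end Cfsg.Agent.helper17.SylPC
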