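import Mathlib
import Cfsg.Agent.Lib_helper17_SylPC10
import Cfsg.Agent.Lib_helper17_SylPC7

set_option autoImplicit false
set_option linter.unusedSectionVars false

/-!
# `PC` for the determinant-one part of the monomial Sylow 2-subgroup, `q ≡ 1 (mod 4)`, `n = 2^k`
-/

namespace Cfsg.Agent.helper17.SylPC

open Matrix Subgroup
open scoped commutatorElement

variable {F : Type*} [Field F] {o : Type*} [Fintype o] [DecidableEq o]

/-- diagonal matrices with entries in `C` -/
def DgC (C : Subgroup Fˣ) : (o → C) →* GL o F :=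
  (dg (F := F) (o := o)).comp (C.subtype.compLeft o)

theorem DgC_apply (C : Subgroup Fˣ) (d : o → C) : DgC C d = dg (fun i => (d i : Fˣ)) := rfl

theorem DgC_injective (C : Subgroup Fˣ) : Function.Injective (DgC (o := o) C) := by
  intro d d' h
  have h1 := dg_injective h
  funext i
  apply Subtype.ext
  exact congrFun h1 i

/-- elementary determinant-one diagonal data -/
def ee (i j : o) (c : Fˣ) : o → Fˣ := Pi.mulSingle i c * Pi.mulSingle j c⁻¹

theorem prod_ee (i j : o) (c : Fˣ) : ∏ k, ((ee i j c k : Fˣ) : F) = 1 := by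
  rw [← Units.coe_prod]
  unfold ee
  simp only [Pi.mul_apply]
  rw [Finset.prod_mul_distrib, Fintype.prod_pi_mulSingle', Fintype.prod_pi_mulSingle',
    mul_inv_cancel, Units.val_one]

theorem ee_comp (t : Equiv.Perm o) (i j : o) (c : Fˣ) :
    (fun k => ee i j c (t⁻¹ k)) = ee (t i) (t j) c := by
  funext k
  simp only [ee, Pi.mul_apply, Pi.mulSingle_apply, Equiv.Perm.inv_eq_iff_eq]

theorem ee_swap (i j : o) (c : Fˣ) : ee j i c = (ee i j c)⁻¹ := by
  unfold ee
  rw [mul_inv, ← Pi.mulSingle_inv, ← Pi.mulSingle_inv, inv_inv, mul_comm]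

theorem ee_self (i : o) (c : Fˣ) : ee i i c = 1 := by
  unfold ee
  rw [← Pi.mulSingle_mul, mul_inv_cancel, Pi.mulSingle_one]

theorem ee_mem (C : Subgroup Fˣ) (i j : o) (c : Fˣ) (hc : c ∈ C) :
    dg (ee i j c) ∈ (DgC (o := o) C).range := by
  refine ⟨fun k => ⟨ee i j c k, ?_⟩, rfl⟩
  unfold ee
  simp only [Pi.mul_apply, Pi.mulSingle_apply]
  apply C.mul_mem
  · split_ifs
    · exact hc
    · exact C.one_mem
  · split_ifs
    · exact C.inv_mem hc
    · exact C.one_mem

/-- the sign unit of a permutation matrix -/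
noncomputable def du (t : Equiv.Perm o) : Fˣ :=
  by classical exact if ((pg t : GL o F) : Matrix o o F).det = 1 then 1 else -1

theorem du_val (t : Equiv.Perm o) : ((du (F := F) t : Fˣ) : F) = ((pg t : GL o F) : Matrix o o F).det := by
  classical
  unfold du
  split_ifs with h
  · rw [h]; rfl
  · rcases mul_self_eq_one_iff.mp (det_pg_sq (F := F) t) with h1 | h1
    · exact absurd h1 h
    · rw [h1]; simp

theorem du_mul_self (t : Equiv.Perm o) : du (F := F) t * du t = 1 := by
  classical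
  unfold du
  split_ifs <;> simp

theorem du_mem (C : Subgroup Fˣ) (hneg : (-1 : Fˣ) ∈ C) (t : Equiv.Perm o) : du (F := F) t ∈ C := by
  classical
  unfold du
  split_ifs
  · exact C.one_mem
  · exact hneg

/-- the determinant-one lift of a permutation matrix -/
noncomputable def lift (i₀ : o) (t : Equiv.Perm o) : GL o F :=
  dg (Pi.mulSingle i₀ (du (F := F) t)) * pg t

theorem det_lift (i₀ : o) (t : Equiv.Perm o) :
    ((lift (F := F) i₀ t : GL o F) : Matrix o o F).det = 1 := by
  unfold lift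
  rw [Units.val_mul, det_mul, det_dg, ← Units.coe_prod, Fintype.prod_pi_mulSingle', du_val]
  exact det_pg_sq t

theorem lift_conj_dg (i₀ : o) (t : Equiv.Perm o) (d : o → Fˣ) :
    lift (F := F) i₀ t * dg d * (lift (F := F) i₀ t)⁻¹ = dg (fun i => d (t⁻¹ i)) := by
  unfold lift
  have h1 : dg (Pi.mulSingle i₀ (du (F := F) t)) * pg t * dg d *
      (dg (Pi.mulSingle i₀ (du (F := F) t)) * pg t)⁻¹ =
      dg (Pi.mulSingle i₀ (du (F := F) t)) * (pg t * dg d * (pg (F := F) t)⁻¹) *
        (dg (Pi.mulSingle i₀ (du (F := F) t)))⁻¹ := by group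
  rw [h1, pg_conj_dg, ← map_mul, ← map_inv, ← map_mul]
  congr 1
  rw [mul_comm, inv_mul_cancel_left]

theorem lift_sq (i₀ : o) (t : Equiv.Perm o) (ht : t ^ 2 = 1) :
    lift (F := F) i₀ t ^ 2 = dg (ee i₀ (t i₀) (du (F := F) t)) := by
  unfold lift
  have h1 : (dg (Pi.mulSingle i₀ (du (F := F) t)) * pg t) ^ 2 =
      dg (Pi.mulSingle i₀ (du (F := F) t)) *
        (pg t * dg (Pi.mulSingle i₀ (du (F := F) t)) * (pg (F := F) t)⁻¹) * (pg t * pg t) := by
    rw [pow_two]; group
  rw [h1, pg_conj_dg, ← map_mul (pg (F := F)), ← pow_two, ht, map_one, mul_one, ← map_mul]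
  congr 1
  unfold ee
  congr 1
  funext k
  have hinv : (du (F := F) t)⁻¹ = du t := by
    rw [inv_eq_iff_mul_eq_one]; exact du_mul_self t
  simp only [Pi.mulSingle_apply, Equiv.Perm.inv_eq_iff_eq, hinv]

end Cfsg.Agent.helper17.SylPC
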