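import Mathlib
import Cfsg.Agent.Lib_helper17_SylPC11

set_option autoImplicit false
set_option linter.unusedSectionVars false

/-!
# `PC` for the determinant-one part of the monomial group
-/

namespace Cfsg.Agent.helper17.SylPC

open Matrix Subgroup
open scoped commutatorElement

variable {F : Type*} [Field F] {o : Type*} [Fintype o] [DecidableEq o]

theorem pg_mem_normalizer_DgC (C : Subgroup Fˣ) (σ : Equiv.Perm o) :
    pg (F := F) σ ∈ normalizer ((DgC (o := o) C).range : Set (GL o F)) := by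
  rw [mem_set_normalizer_iff]
  intro h
  constructor
  · rintro ⟨d, rfl⟩
    rw [DgC_apply, pg_conj_dg]
    exact ⟨fun k => d (σ⁻¹ k), rfl⟩
  · rintro ⟨d, hd⟩
    have h3 : h = pg (F := F) σ⁻¹ * DgC C d * (pg (F := F) σ⁻¹)⁻¹ := by
      rw [hd, map_inv, inv_inv]
      simp only [mul_assoc, inv_mul_cancel_left, inv_mul_cancel, mul_one]
    rw [h3, DgC_apply, pg_conj_dg]
    exact ⟨fun k => d (σ⁻¹⁻¹ k), rfl⟩

theorem DgC_mulSingle (C : Subgroup Fˣ) (i₀ : o) (c : Fˣ) (hc : c ∈ C) :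
    DgC (o := o) C (Pi.mulSingle i₀ (⟨c, hc⟩ : C)) = dg (Pi.mulSingle i₀ c) := by
  rw [DgC_apply]
  congr 1
  funext k
  simp only [Pi.mulSingle_apply]
  split_ifs <;> rfl

theorem pc_monomial (C : Subgroup Fˣ) (ι : Fˣ) (hιC : ι ∈ C) (hι : ι * ι = -1)
    (T : Subgroup (Equiv.Perm o)) (gT : T ≤ closure {t | t ∈ T ∧ t ^ 2 = 1})
    (sT : ∀ i j : o, i ≠ j → ∃ t ∈ T, t i = j ∧ t j = i) (i₀ : o) :
    PC (((DgC (o := o) C).range ⊔ T.map (pg (F := F))) ⊓ SLr o F) := by
  classical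
  set B := (DgC (o := o) C).range with hB
  set H' := T.map (pg (F := F) (o := o)) with hH'
  set W := (B ⊔ H') ⊓ SLr o F with hW
  have hneg : (-1 : Fˣ) ∈ C := by rw [← hι]; exact C.mul_mem hιC hιC
  have hnorm : H' ≤ normalizer (B : Set (GL o F)) := by
    rintro _ ⟨σ, _, rfl⟩
    exact pg_mem_normalizer_DgC C σ
  -- generators
  have hG1 : ∀ i j : o, ∀ c ∈ C, dg (ee i j c) ∈ W := by
    intro i j c hc
    refine ⟨(le_sup_left : B ≤ B ⊔ H') (ee_mem C i j c hc), (mem_SLr _).mpr ?_⟩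
    rw [det_dg]; exact prod_ee i j c
  have hG2 : ∀ t ∈ T, lift (F := F) i₀ t ∈ W := by
    intro t ht
    refine ⟨?_, (mem_SLr _).mpr (det_lift i₀ t)⟩
    unfold lift
    apply Subgroup.mul_mem
    · apply (le_sup_left : B ≤ B ⊔ H')
      exact ⟨Pi.mulSingle i₀ (⟨du (F := F) t, du_mem C hneg t⟩ : C), DgC_mulSingle C i₀ _ _⟩
    · exact (le_sup_right : H' ≤ B ⊔ H') (Subgroup.mem_map_of_mem _ ht)
  -- squares of the `ee` generators
  have hsq : ∀ i j : o, ∀ c ∈ C, dg (ee i j c) ^ 2 ∈ ⁅W, W⁆ := by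
    intro i j c hc
    by_cases hij : i = j
    · subst hij
      rw [ee_self, map_one, one_pow]; exact Subgroup.one_mem _
    · obtain ⟨t, htT, h1, h2⟩ := sT i j hij
      have h3 : lift (F := F) i₀ t * dg (ee i j c) * (lift (F := F) i₀ t)⁻¹ =
          (dg (ee i j c))⁻¹ := by
        rw [lift_conj_dg, ee_comp, h1, h2, ee_swap, map_inv]
      have h4 : dg (ee i j c) ^ 2 = (⁅lift (F := F) i₀ t, dg (ee i j c)⁆)⁻¹ := by
        rw [commutatorElement_def, h3, pow_two, _root_.mul_inv_rev, inv_inv]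
      rw [h4]
      exact Subgroup.inv_mem _ (Subgroup.commutator_mem_commutator (hG2 t htT) (hG1 i j c hc))
  set Sg : Set (GL o F) := {g | ∃ i j : o, ∃ c ∈ C, g = dg (ee i j c)} ∪
    {g | ∃ t ∈ T, t ^ 2 = 1 ∧ g = lift (F := F) i₀ t} with hSg
  have hSgW : Sg ⊆ W := by
    rintro g (⟨i, j, c, hc, rfl⟩ | ⟨t, ht, _, rfl⟩)
    · exact hG1 i j c hc
    · exact hG2 t ht
  have hKW : closure Sg ≤ W := (Subgroup.closure_le W).mpr hSgW
  -- claim 1: every `t ∈ T` has a lift in the closure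
  have claim1 : ∀ t ∈ closure {t | t ∈ T ∧ t ^ 2 = 1},
      ∃ d : o → C, DgC C d * pg t ∈ closure Sg := by
    intro t ht'
    induction ht' using Subgroup.closure_induction with
    | mem t ht =>
      refine ⟨Pi.mulSingle i₀ (⟨du (F := F) t, du_mem C hneg t⟩ : C), ?_⟩
      rw [DgC_mulSingle]
      exact Subgroup.subset_closure (Or.inr ⟨t, ht.1, ht.2, rfl⟩)
    | one => exact ⟨1, by rw [map_one, map_one, mul_one]; exact Subgroup.one_mem _⟩
    | mul a b _ _ ha hb =>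
      obtain ⟨d, hd⟩ := ha
      obtain ⟨d', hd'⟩ := hb
      refine ⟨d * fun k => d' (a⁻¹ k), ?_⟩
      have h1 : DgC C (d * fun k => d' (a⁻¹ k)) * pg (a * b) =
          (DgC C d * pg a) * (DgC C d' * pg (F := F) b) := by
        have h3 : DgC C (fun k => d' (a⁻¹ k)) = pg (F := F) a * DgC C d' * (pg (F := F) a)⁻¹ := by
          rw [DgC_apply, DgC_apply, pg_conj_dg]
        rw [map_mul, map_mul, h3]; group
      rw [h1]
      exact Subgroup.mul_mem _ hd hd'
    | inv a _ ha =>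
      obtain ⟨d, hd⟩ := ha
      refine ⟨fun k => (d (a⁻¹⁻¹ k))⁻¹, ?_⟩
      have h1 : DgC C (fun k => (d (a⁻¹⁻¹ k))⁻¹) * pg (F := F) a⁻¹ = (DgC C d * pg a)⁻¹ := by
        have h3 : DgC C (fun k => (d (a⁻¹⁻¹ k))⁻¹) =
            pg (F := F) a⁻¹ * DgC C d⁻¹ * (pg (F := F) a⁻¹)⁻¹ := by
          rw [DgC_apply, DgC_apply, pg_conj_dg]
          rfl
        rw [h3, map_inv, map_inv]; group
      rw [h1]
      exact Subgroup.inv_mem _ hd
  -- claim 2: determinant-one diagonal matrices are in the closure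
  have claim2 : ∀ d : o → C, (∏ k, ((d k : Fˣ) : F)) = 1 → DgC C d ∈ closure Sg := by
    intro d hd
    have hd' : ∏ k, (d k : Fˣ) = 1 := by
      apply Units.ext
      rw [Units.coe_prod, hd, Units.val_one]
    have h1 : (fun k => (d k : Fˣ)) = ∏ j, ee j i₀ (d j : Fˣ) := by
      unfold ee
      rw [Finset.prod_mul_distrib, Finset.univ_prod_mulSingle]
      have h3 : ∏ j, Pi.mulSingle (M := fun _ : o => Fˣ) i₀ ((d j : Fˣ))⁻¹ = 1 := by
        have h4 : ∀ j, Pi.mulSingle (M := fun _ : o => Fˣ) i₀ ((d j : Fˣ))⁻¹ =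
            (MonoidHom.mulSingle (fun _ : o => Fˣ) i₀) ((d j : Fˣ))⁻¹ := fun j => rfl
        simp only [h4]
        rw [← map_prod, Finset.prod_inv_distrib, hd', inv_one, map_one]
      rw [h3, mul_one]
    rw [DgC_apply, h1]
    have h5 : ∏ j, ee j i₀ (d j : Fˣ) ∈ (closure Sg).comap (dg (F := F) (o := o)) := by
      apply Subgroup.prod_mem
      intro j _
      exact Subgroup.subset_closure (Or.inl ⟨j, i₀, (d j : Fˣ), (d j).2, rfl⟩)
    exact h5
  apply pc_of_closure W Sg hSgW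
  · intro w hw
    obtain ⟨b, hb, h, hh, rfl⟩ := mem_sup_decomp B H' hnorm w hw.1
    obtain ⟨d, rfl⟩ := hb
    obtain ⟨t, ht, rfl⟩ := hh
    obtain ⟨d₁, hd₁⟩ := claim1 t (gT ht)
    have hk1 : ((DgC C d₁ * pg t : GL o F) : Matrix o o F).det = 1 :=
      (mem_SLr _).mp (hKW hd₁).2
    have hw1 : ((DgC C d * pg t : GL o F) : Matrix o o F).det = 1 := (mem_SLr _).mp hw.2
    have h1 : DgC C d * pg t = DgC C (d * d₁⁻¹) * (DgC C d₁ * pg (F := F) t) := by
      rw [map_mul, map_inv]; group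
    rw [h1]
    apply Subgroup.mul_mem _ _ hd₁
    apply claim2
    have h3 : ((DgC C (d * d₁⁻¹) : GL o F) : Matrix o o F).det = 1 := by
      have h4 : DgC C (d * d₁⁻¹) = (DgC C d * pg t) * (DgC C d₁ * pg (F := F) t)⁻¹ := by
        rw [map_mul, map_inv]; group
      rw [h4, Units.val_mul, det_mul, hw1, one_mul]
      have h5 : ((DgC C d₁ * pg t : GL o F) : Matrix o o F) *
          (((DgC C d₁ * pg t : GL o F)⁻¹ : GL o F) : Matrix o o F) = 1 := by
        rw [← Units.val_mul, mul_inv_cancel, Units.val_one]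
      have h6 := congrArg Matrix.det h5
      rw [det_mul, hk1, one_mul, det_one] at h6
      exact h6
    rw [DgC_apply, det_dg] at h3
    exact h3
  · rintro s (⟨i, j, c, hc, rfl⟩ | ⟨t, ht, ht2, rfl⟩)
    · exact hsq i j c hc
    · rw [lift_sq i₀ t ht2]
      -- `du t = c²` with `c ∈ C`
      have hc : ∃ c ∈ C, du (F := F) t = c * c := by
        unfold du
        split_ifs
        · exact ⟨1, C.one_mem, (one_mul 1).symm⟩
        · exact ⟨ι, hιC, hι.symm⟩
      obtain ⟨c, hcC, hc2⟩ := hc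
      have h1 : dg (ee i₀ (t i₀) (du (F := F) t)) = dg (ee i₀ (t i₀) c) ^ 2 := by
        rw [pow_two, ← map_mul, hc2]
        congr 1
        unfold ee
        rw [mul_inv, Pi.mulSingle_mul, Pi.mulSingle_mul]
        simp only [mul_comm, mul_left_comm]
      rw [h1]
      exact hsq _ _ c hcC

end Cfsg.Agent.helper17.SylPC
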