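import Mathlib
import Cfsg.Agent.Lib_helper9_SylSym

set_option autoImplicit false
set_option linter.unusedSectionVars false

/-!
# A Sylow 2-subgroup of `Sym(2^k)` generated by involutions and swapping every pair of points
-/

namespace Cfsg.Agent.helper17.SylPC

open Equiv Cfsg.Agent.helper9.SylSym

instance fact_two : Fact (Nat.Prime 2) := ⟨Nat.prime_two⟩

/-- a full 2-subgroup of `Perm α`, generated by involutions, swapping every pair of points -/
def Good2 (α : Type*) [Fintype α] [DecidableEq α] : Prop :=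
  ∃ W : Subgroup (Perm α), IsPGroup 2 W ∧ Gen 2 W ∧
    2 ^ padicValNat 2 (Fintype.card α).factorial ≤ Nat.card W ∧
    ∀ i j : α, i ≠ j → ∃ t ∈ W, t i = j ∧ t j = i

theorem zmod2_swap (u v : ZMod 2) : u + (v - u) = v ∧ v + (v - u) = u := by
  revert u v
  decide

theorem good2_step {α : Type*} [Fintype α] [DecidableEq α] (h : Good2 α) : Good2 (α × ZMod 2) := by
  obtain ⟨H, hH, gH, cH, sH⟩ := h
  have hB : IsPGroup 2 (bs α 2).range := isPGroup_bs_range α 2
  have gB : Gen 2 (bs α 2).range :=
    gen_of_pow_eq_one 2 _ (by rintro _ ⟨f, rfl⟩; exact bs_pow α 2 f)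
  obtain ⟨h1, h2, h3⟩ := join_props 2 (bs α 2).range (H.map (tp α 2))
    (map_tp_le_normalizer α 2 H) (disjoint_bs_tp α 2 H) hB (hH.map _) gB (gen_map 2 H _ gH)
  refine ⟨_, h1, h2, le_trans ?_ h3, ?_⟩
  · rw [card_bs_range, Subgroup.card_map_of_injective (tp_injective α 2)]
    have h4 : Fintype.card (α × ZMod 2) = 2 * Fintype.card α := by
      rw [Fintype.card_prod, ZMod.card, mul_comm]
    rw [h4, padicValNat_factorial_mul, pow_add, mul_comm]
    exact Nat.mul_le_mul_left _ cH
  · rintro ⟨a, u⟩ ⟨b, v⟩ hne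
    have ht0 : ∃ t₀ ∈ H, t₀ a = b ∧ t₀ b = a := by
      by_cases hab : a = b
      · subst hab
        exact ⟨1, H.one_mem, rfl, rfl⟩
      · exact sH a b hab
    obtain ⟨t₀, ht₀, h5, h6⟩ := ht0
    refine ⟨bs α 2 (Multiplicative.ofAdd (fun _ => v - u)) * tp α 2 t₀, ?_, ?_, ?_⟩
    · exact Subgroup.mul_mem _ ((le_sup_left : (bs α 2).range ≤ _) ⟨_, rfl⟩)
        ((le_sup_right : H.map (tp α 2) ≤ _) (Subgroup.mem_map_of_mem _ ht₀))
    · rw [Perm.mul_apply, tp_apply, bs_apply]
      apply Prod.ext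
      · exact h5
      · exact (zmod2_swap u v).1
    · rw [Perm.mul_apply, tp_apply, bs_apply]
      apply Prod.ext
      · exact h6
      · exact (zmod2_swap u v).2

theorem good2_equiv {α β : Type*} [Fintype α] [DecidableEq α] [Fintype β] [DecidableEq β]
    (e : α ≃ β) (h : Good2 α) : Good2 β := by
  obtain ⟨H, hH, gH, cH, sH⟩ := h
  refine ⟨H.map e.permCongrHom.toMonoidHom, hH.map _, gen_map 2 H _ gH, ?_, ?_⟩
  · rw [Subgroup.card_map_of_injective
      (show Function.Injective e.permCongrHom.toMonoidHom from e.permCongrHom.injective),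
      ← Fintype.card_congr e]
    exact cH
  · intro i j hij
    obtain ⟨t, ht, h1, h2⟩ := sH (e.symm i) (e.symm j) (fun h => hij (e.symm.injective h))
    refine ⟨e.permCongrHom t, Subgroup.mem_map_of_mem _ ht, ?_, ?_⟩
    · show e.permCongr t i = j
      rw [Equiv.permCongr_apply, h1, Equiv.apply_symm_apply]
    · show e.permCongr t j = i
      rw [Equiv.permCongr_apply, h2, Equiv.apply_symm_apply]

theorem good2_all (k : ℕ) : Good2 (Fin (2 ^ k)) := by
  induction k with
  | zero =>
    refine ⟨⊥, IsPGroup.of_bot, gen_of_pow_eq_one 2 _ ?_, ?_, ?_⟩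
    · intro x hx
      rw [Subgroup.mem_bot] at hx
      rw [hx, one_pow]
    · simp
    · intro i j hij
      have : Subsingleton (Fin (2 ^ 0)) := by
        rw [Fin.subsingleton_iff_le_one]; norm_num
      exact absurd (Subsingleton.elim i j) hij
  | succ k ih =>
    have h1 := good2_step ih
    have hcard : Fintype.card (Fin (2 ^ k) × ZMod 2) = Fintype.card (Fin (2 ^ (k + 1))) := by
      rw [Fintype.card_prod, ZMod.card, Fintype.card_fin, Fintype.card_fin, pow_succ]
    exact good2_equiv (Fintype.equivOfCardEq hcard) h1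

end Cfsg.Agent.helper17.SylPC
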