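import Mathlib
import Cfsg.Agent.Lib_helper17_SylPC12
import Cfsg.Agent.Lib_helper17_SylPC9
import Cfsg.Agent.Lib_helper17_SylPC8

set_option autoImplicit false
set_option linter.unusedSectionVars false

/-!
# Sylow 2-subgroups of `SL_{2^k}(q)`, `q ≡ 1 (mod 4)`: squares lie in the derived subgroup
-/

namespace Cfsg.Agent.helper17.SylPC

open Matrix Subgroup Cfsg.Agent.helper17.GLR

theorem card_DgC_range {F : Type*} [Field F] {o : Type*} [Fintype o] [DecidableEq o]
    (C : Subgroup Fˣ) [Finite C] :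
    Nat.card (DgC (o := o) C).range = Nat.card C ^ Fintype.card o := by
  rw [← Nat.card_congr (MonoidHom.ofInjective (DgC_injective (o := o) C)).toEquiv, Nat.card_fun,
    Nat.card_eq_fintype_card (α := o)]

theorem disjoint_DgC_pg {F : Type*} [Field F] {o : Type*} [Fintype o] [DecidableEq o]
    (C : Subgroup Fˣ) (H : Subgroup (Equiv.Perm o)) :
    Disjoint (DgC (o := o) C).range (H.map (pg (F := F) (o := o))) := by
  rw [Subgroup.disjoint_def]
  rintro g ⟨d, rfl⟩ ⟨σ, _, hσ⟩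
  have h3 : σ = 1 := pg_eq_dg (F := F) σ (fun i => (d i : Fˣ)) hσ
  rw [← hσ, h3, map_one]

theorem sylow_SL_one {F : Type*} [Field F] [Fintype F] (hq : Fintype.card F % 4 = 1) (k : ℕ)
    (P : Sylow 2 (Matrix.SpecialLinearGroup (Fin (2 ^ k)) F))
    (x : (P : Subgroup (Matrix.SpecialLinearGroup (Fin (2 ^ k)) F))) :
    x ^ 2 ∈ commutator (P : Subgroup (Matrix.SpecialLinearGroup (Fin (2 ^ k)) F)) := by
  have hF : Odd (Fintype.card F) := Nat.odd_iff.mpr (by omega)
  have hq1 : 1 < Fintype.card F := Fintype.one_lt_card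
  -- a square root of `-1`
  have hsq : IsSquare (-1 : F) := FiniteField.isSquare_neg_one_iff.mpr (by omega)
  obtain ⟨r, hr⟩ := hsq
  have hr0 : r ≠ 0 := by
    intro h
    rw [h, mul_zero] at hr
    exact absurd hr (by simp)
  set ι : Fˣ := Units.mk0 r hr0 with hι
  have hιι : ι * ι = -1 := by
    apply Units.ext
    rw [Units.val_mul, hι, Units.val_mk0, Units.val_neg, Units.val_one, hr]
  have hι4 : ι ^ 4 = 1 := by
    have : ι ^ 4 = (ι * ι) * (ι * ι) := by
      rw [show (4 : ℕ) = 2 + 2 from rfl, pow_add, pow_two]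
    rw [this, hιι]; simp
  have hzp : IsPGroup 2 (Subgroup.zpowers ι) := by
    intro g
    refine ⟨2, ?_⟩
    obtain ⟨g, hg⟩ := g
    obtain ⟨n, rfl⟩ := Subgroup.mem_zpowers_iff.mp hg
    apply Subtype.ext
    rw [Subgroup.coe_pow]
    show (ι ^ n) ^ (2 ^ 2) = 1
    rw [← zpow_natCast, ← _root_.zpow_mul, mul_comm, _root_.zpow_mul, zpow_natCast]
    norm_num
    rw [hι4, _root_.one_zpow]
  obtain ⟨C, hC⟩ := hzp.exists_le_sylow
  have hιC : ι ∈ (C : Subgroup Fˣ) := hC (Subgroup.mem_zpowers ι)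
  have hcC : Nat.card (C : Subgroup Fˣ) = 2 ^ padicValNat 2 (Fintype.card F - 1) := by
    rw [Sylow.card_eq_multiplicity, Nat.card_units, Nat.card_eq_fintype_card,
      Nat.factorization_def _ Nat.prime_two]
  obtain ⟨T, hT, gT, cT, sT⟩ := good2_all k
  set B := (DgC (o := Fin (2 ^ k)) (C : Subgroup Fˣ)).range with hB
  set H' := T.map (pg (F := F) (o := Fin (2 ^ k))) with hH'
  have i₀ : Fin (2 ^ k) := ⟨0, Nat.pos_of_ne_zero (by positivity)⟩
  have hPCW := pc_monomial (o := Fin (2 ^ k)) (C : Subgroup Fˣ) ι hιC hιι T gT sT i₀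
  have hcB : Nat.card B = 2 ^ (2 ^ k * padicValNat 2 (Fintype.card F - 1)) := by
    rw [hB, card_DgC_range, hcC, Fintype.card_fin, ← pow_mul, mul_comm]
  have hBp : IsPGroup 2 B := IsPGroup.of_card hcB
  have hH'p : IsPGroup 2 H' := hT.map _
  have hnorm : H' ≤ normalizer (B : Set (GL (Fin (2 ^ k)) F)) := by
    rintro _ ⟨σ, _, rfl⟩
    exact pg_mem_normalizer_DgC _ σ
  have hWp : IsPGroup 2 (B ⊔ H' : Subgroup (GL (Fin (2 ^ k)) F)) :=
    IsPGroup.to_sup_of_normal_left' hBp hH'p hnorm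
  have hd : Disjoint B H' := disjoint_DgC_pg _ T
  apply sylow_SL_of_GL (B ⊔ H') hWp _ hPCW P x
  rw [val_GL hF, ff_one hq hq1]
  refine le_trans ?_ (card_sup_ge' B H' hd)
  rw [hcB, hH', Subgroup.card_map_of_injective (pg_injective (F := F) (o := Fin (2 ^ k))), pow_add]
  rw [Fintype.card_fin] at cT
  exact Nat.mul_le_mul_left _ cT

end Cfsg.Agent.helper17.SylPC
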