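import Mathlib
import Cfsg.Agent.Lib_helper17_SylPC2
import Cfsg.Agent.Lib_helper17_SpR5
import Cfsg.Agent.Lib_helper9_SylSym

set_option autoImplicit false
set_option linter.unusedSectionVars false

/-!
# Sylow 2-subgroups of `Sp_{2n}(q)`, `q` odd: squares lie in the derived subgroup
-/

namespace Cfsg.Agent.helper17.SylPC

open Matrix Subgroup Cfsg.Agent.helper17.SpR

variable {F : Type*} [Field F] {l : Type*} [Fintype l] [DecidableEq l]

theorem perm_mul_beta (σ : Equiv.Perm l) (g : l → SpecialLinearGroup (Fin 2) F) :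
    perm (F := F) σ * beta g = beta (fun i => g (σ⁻¹ i)) * perm σ := by
  apply Subtype.ext
  show fromBlocks _ 0 0 _ * bd _ _ _ _ = bd _ _ _ _ * fromBlocks _ 0 0 _
  unfold bd
  rw [fromBlocks_multiply, fromBlocks_multiply]
  simp [pm_mul_diagonal]

theorem perm_conj_beta (σ : Equiv.Perm l) (g : l → SpecialLinearGroup (Fin 2) F) :
    perm (F := F) σ * beta g * (perm σ)⁻¹ = beta (fun i => g (σ⁻¹ i)) := by
  rw [perm_mul_beta, mul_assoc, mul_inv_cancel, mul_one]

/-- the embedding `Qˡ → Sp` -/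
def psi (Q : Subgroup (SpecialLinearGroup (Fin 2) F)) : (l → Q) →* symplecticGroup l F :=
  (beta (F := F) (l := l)).comp (Q.subtype.compLeft l)

theorem psi_apply (Q : Subgroup (SpecialLinearGroup (Fin 2) F)) (f : l → Q) :
    psi Q f = beta (fun i => (f i : SpecialLinearGroup (Fin 2) F)) := rfl

theorem psi_injective (Q : Subgroup (SpecialLinearGroup (Fin 2) F)) :
    Function.Injective (psi (l := l) Q) := by
  intro f g h
  have h1 := beta_injective h
  funext i
  apply Subtype.ext
  exact congrFun h1 i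

theorem perm_mem_normalizer_psi (Q : Subgroup (SpecialLinearGroup (Fin 2) F)) (σ : Equiv.Perm l) :
    perm σ ∈ normalizer ((psi (l := l) Q).range : Set (symplecticGroup l F)) := by
  rw [mem_set_normalizer_iff]
  intro h
  constructor
  · rintro ⟨f, rfl⟩
    rw [psi_apply, perm_conj_beta]
    exact ⟨fun i => f (σ⁻¹ i), rfl⟩
  · rintro ⟨f, hf⟩
    have h3 : h = perm σ⁻¹ * psi Q f * (perm (F := F) σ⁻¹)⁻¹ := by
      rw [hf, map_inv, inv_inv]
      simp only [mul_assoc, inv_mul_cancel_left, inv_mul_cancel, mul_one]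
    rw [h3, psi_apply, perm_conj_beta]
    exact ⟨fun i => f (σ⁻¹⁻¹ i), rfl⟩

theorem disjoint_psi_perm (h2 : (2 : F) ≠ 0) (Q : Subgroup (SpecialLinearGroup (Fin 2) F))
    (H : Subgroup (Equiv.Perm l)) :
    Disjoint (psi (l := l) Q).range (H.map (perm (F := F) (l := l))) := by
  rw [Subgroup.disjoint_def]
  rintro x ⟨f, rfl⟩ ⟨σ, _, hσ⟩
  have h1 : perm (F := F) σ ∈ centralizer (DD l F : Set (symplecticGroup l F)) := by
    rw [hσ, psi_apply]
    exact beta_mem_centralizer _
  have h3 := perm_mem_centralizer h2 σ h1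
  rw [← hσ, h3, map_one]

theorem card_psi_range (Q : Subgroup (SpecialLinearGroup (Fin 2) F)) :
    Nat.card (psi (l := l) Q).range = Nat.card Q ^ Fintype.card l := by
  rw [← Nat.card_congr (MonoidHom.ofInjective (psi_injective (l := l) Q)).toEquiv, Nat.card_fun,
    Nat.card_eq_fintype_card (α := l)]

theorem card_sup_ge {G : Type*} [Group G] [Finite G] (B H : Subgroup G) (hd : Disjoint B H) :
    Nat.card B * Nat.card H ≤ Nat.card (B ⊔ H : Subgroup G) := by
  rw [← Nat.card_prod]
  let f : B × H → (B ⊔ H : Subgroup G) :=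
    fun x => ⟨x.1 * x.2, Subgroup.mul_mem_sup x.1.2 x.2.2⟩
  apply Nat.card_le_card_of_injective f
  intro x y hxy
  apply Subgroup.mul_injective_of_disjoint hd
  exact congrArg Subtype.val hxy

theorem main {F : Type*} [Field F] [Fintype F] (hF : Odd (Fintype.card F)) (n : ℕ)
    (P : Sylow 2 (symplecticGroup (Fin n) F)) (x : (P : Subgroup (symplecticGroup (Fin n) F))) :
    x ^ 2 ∈ commutator (P : Subgroup (symplecticGroup (Fin n) F)) := by
  have h2 : (2 : F) ≠ 0 := two_ne_zero_of_odd' hF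
  obtain ⟨Q, hQ⟩ := exists_sylow_SL2 hF h2
  obtain ⟨H, hH, gH, cH⟩ := Cfsg.Agent.helper9.SylSym.good_all 2 n
  set B := (psi (l := Fin n) (Q : Subgroup (SpecialLinearGroup (Fin 2) F))).range with hBdef
  set H' := H.map (perm (F := F) (l := Fin n)) with hH'def
  have hcQ : Nat.card (Q : Subgroup (SpecialLinearGroup (Fin 2) F)) = 2 ^ cc (Fintype.card F) := by
    rw [Sylow.card_eq_multiplicity]
    have h3 := val_SL2 hF 1
    rw [pow_one, Nat.factorial_one, mul_one, one_mul] at h3
    rw [h3]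
    simp
  have hcB : Nat.card B = 2 ^ (n * cc (Fintype.card F)) := by
    rw [hBdef, card_psi_range, hcQ, Fintype.card_fin, ← pow_mul, mul_comm]
  have hB : IsPGroup 2 B := IsPGroup.of_card hcB
  have hH' : IsPGroup 2 H' := hH.map _
  have hnorm : H' ≤ normalizer (B : Set (symplecticGroup (Fin n) F)) := by
    rintro _ ⟨σ, _, rfl⟩
    exact perm_mem_normalizer_psi _ σ
  have hW : IsPGroup 2 (B ⊔ H' : Subgroup (symplecticGroup (Fin n) F)) :=
    IsPGroup.to_sup_of_normal_left' hB hH' hnorm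
  have hPCB : PC B := pc_range _ (pct_pi hQ)
  have hPC : PC (B ⊔ H') := pc_sup B H' hPCB (Cfsg.Agent.helper9.SylSym.gen_map 2 H _ gH)
  apply sylow_of_pc (B ⊔ H') hW hPC _ P x
  have hd : Disjoint B H' := disjoint_psi_perm h2 _ H
  refine le_trans ?_ (card_sup_ge B H' hd)
  rw [val_Sp hF, hcB, pow_add]
  apply Nat.mul_le_mul_left
  rw [hH'def, Subgroup.card_map_of_injective perm_injective]
  rw [Fintype.card_fin] at cH
  exact cH

end Cfsg.Agent.helper17.SylPC
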