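import Mathlib

set_option autoImplicit false

namespace Cfsg.Agent.helper17.SylR

open Polynomial

variable (q r : ℕ) [hr : Fact r.Prime]

lemma cast_ne_zero (hrq : ¬ r ∣ q) : (q : ZMod r) ≠ 0 := by
  intro h
  exact hrq ((ZMod.natCast_eq_zero_iff q r).mp h)

lemma q_pos (hrq : ¬ r ∣ q) : 0 < q := by
  rcases Nat.eq_zero_or_pos q with h | h
  · subst h; exact absurd (dvd_zero r) hrq
  · exact h

lemma d_pos (hrq : ¬ r ∣ q) : 0 < orderOf (q : ZMod r) := by
  have h1 : (q : ZMod r) ^ (r - 1) = 1 := ZMod.pow_card_sub_one_eq_one (cast_ne_zero q r hrq)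
  have h2 := orderOf_dvd_of_pow_eq_one h1
  have h3 : 0 < r - 1 := by
    have := hr.out.two_le
    omega
  exact Nat.pos_of_dvd_of_pos h2 h3

lemma dvd_pow_sub_one_iff (hrq : ¬ r ∣ q) (j : ℕ) :
    r ∣ q ^ j - 1 ↔ orderOf (q : ZMod r) ∣ j := by
  rw [orderOf_dvd_iff_pow_eq_one]
  have h1 : 1 ≤ q ^ j := Nat.one_le_pow _ _ (q_pos q r hrq)
  rw [← ZMod.natCast_eq_zero_iff (q ^ j - 1) r, Nat.cast_sub h1, Nat.cast_pow, Nat.cast_one, sub_eq_zero]

/-- the value of the cyclotomic polynomial, as a natural number -/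
noncomputable def Phi (e : ℕ) : ℕ := ((cyclotomic e ℤ).eval (q : ℤ)).natAbs

lemma prod_Phi (d : ℕ) (hd : 0 < d) (hq : 1 ≤ q) : ∏ e ∈ d.divisors, Phi q e = q ^ d - 1 := by
  have h1 := Polynomial.prod_cyclotomic_eq_X_pow_sub_one hd ℤ
  have h2 := congrArg (Polynomial.eval (q : ℤ)) h1
  rw [Polynomial.eval_prod] at h2
  simp only [eval_sub, eval_pow, eval_X, eval_one] at h2
  have h3 := congrArg Int.natAbs h2
  rw [← Int.natAbsHom_apply, map_prod] at h3
  simp only [Int.natAbsHom_apply] at h3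
  unfold Phi
  rw [h3]
  have h4 : (q : ℤ) ^ d - 1 = ((q ^ d - 1 : ℕ) : ℤ) := by
    rw [Nat.cast_sub (Nat.one_le_pow _ _ hq)]
    simp
  rw [h4, Int.natAbs_natCast]

lemma Phi_dvd (e : ℕ) (hq : 1 ≤ q) : Phi q e ∣ q ^ e - 1 := by
  have h1 : cyclotomic e ℤ ∣ X ^ e - 1 := Polynomial.cyclotomic.dvd_X_pow_sub_one e ℤ
  have h2 := Polynomial.eval_dvd (x := (q : ℤ)) h1
  simp only [eval_sub, eval_pow, eval_X, eval_one] at h2
  have h3 := Int.natAbs_dvd_natAbs.mpr h2
  have h4 : (q : ℤ) ^ e - 1 = ((q ^ e - 1 : ℕ) : ℤ) := by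
    rw [Nat.cast_sub (Nat.one_le_pow _ _ hq)]
    simp
  rw [h4, Int.natAbs_natCast] at h3
  exact h3

lemma vr_cyclotomic (hrq : ¬ r ∣ q) (hq : 2 ≤ q) :
    padicValNat r (q ^ orderOf (q : ZMod r) - 1) = padicValNat r (Phi q (orderOf (q : ZMod r))) := by
  set d := orderOf (q : ZMod r) with hd
  have hdpos : 0 < d := d_pos q r hrq
  have hprod := prod_Phi q d hdpos (by omega)
  rw [← Nat.insert_self_properDivisors hdpos.ne', Finset.prod_insert Nat.self_notMem_properDivisors] at hprod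
  have hne : q ^ d - 1 ≠ 0 := by
    have : 2 ^ d ≤ q ^ d := Nat.pow_le_pow_left hq d
    have : 2 ≤ 2 ^ d := by
      calc 2 = 2 ^ 1 := by norm_num
        _ ≤ 2 ^ d := Nat.pow_le_pow_right (by norm_num) hdpos
    omega
  have hA : Phi q d ≠ 0 := by
    intro h; rw [h, zero_mul] at hprod; exact hne hprod.symm
  have hB : ∏ e ∈ d.properDivisors, Phi q e ≠ 0 := by
    intro h; rw [h, mul_zero] at hprod; exact hne hprod.symm
  have hBr : ¬ r ∣ ∏ e ∈ d.properDivisors, Phi q e := by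
    intro hdvd
    rw [Prime.dvd_finset_prod_iff (Nat.Prime.prime hr.out)] at hdvd
    obtain ⟨e, he, hre⟩ := hdvd
    rw [Nat.mem_properDivisors] at he
    have h1 : r ∣ q ^ e - 1 := hre.trans (Phi_dvd q e (by omega))
    rw [dvd_pow_sub_one_iff q r hrq] at h1
    have hepos : 0 < e := Nat.pos_of_dvd_of_pos he.1 hdpos
    have := Nat.le_of_dvd hepos h1
    omega
  rw [← hprod, padicValNat.mul hA hB, padicValNat.eq_zero_of_not_dvd hBr, add_zero]

lemma vr_pow (hrq : ¬ r ∣ q) (hq : 2 ≤ q) (n : ℕ) (hn : n < r) (j : ℕ) (hj1 : 1 ≤ j) (hjn : j ≤ n) :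
    padicValNat r (q ^ j - 1) =
      if orderOf (q : ZMod r) ∣ j then padicValNat r (q ^ orderOf (q : ZMod r) - 1) else 0 := by
  set d := orderOf (q : ZMod r) with hd
  have hdpos : 0 < d := d_pos q r hrq
  split_ifs with h
  · obtain ⟨t, rfl⟩ := h
    have ht1 : 1 ≤ t := by
      rcases Nat.eq_zero_or_pos t with h0 | h0
      · subst h0; omega
      · exact h0
    rcases Nat.eq_or_lt_of_le ht1 with h1 | h1
    · rw [← h1, mul_one]
    · have hr3 : r ≠ 2 := by
        have : 2 ≤ d * t := by nlinarith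
        omega
      have hodd : Odd r := hr.out.odd_of_ne_two hr3
      have hx1 : 1 < q ^ d := by
        calc 1 < 2 := by norm_num
          _ = 2 ^ 1 := by norm_num
          _ ≤ 2 ^ d := Nat.pow_le_pow_right (by norm_num) hdpos
          _ ≤ q ^ d := Nat.pow_le_pow_left hq d
      have hxy : r ∣ q ^ d - 1 := (dvd_pow_sub_one_iff q r hrq d).mpr dvd_rfl
      have hx : ¬ r ∣ q ^ d := fun h => hrq (hr.out.dvd_of_dvd_pow h)
      have := padicValNat.pow_sub_pow hodd hx1 hxy hx (n := t) (by omega)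
      rw [one_pow, ← pow_mul] at this
      rw [this]
      have hrt : ¬ r ∣ t := by
        intro hdvd
        have := Nat.le_of_dvd (by omega) hdvd
        have : t ≤ d * t := Nat.le_mul_of_pos_left t hdpos
        omega
      rw [padicValNat.eq_zero_of_not_dvd hrt, add_zero]
  · apply padicValNat.eq_zero_of_not_dvd
    rw [dvd_pow_sub_one_iff q r hrq]
    exact h

lemma vr_GL (hrq : ¬ r ∣ q) (hq : 2 ≤ q) (n : ℕ) (hn : n < r) :
    (∏ i : Fin n, (q ^ n - q ^ (i : ℕ))).factorization r =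
      (n / orderOf (q : ZMod r)) * padicValNat r (Phi q (orderOf (q : ZMod r))) := by
  set d := orderOf (q : ZMod r) with hd
  rw [← vr_cyclotomic q r hrq hq, ← hd]
  have hqpos : 0 < q := by omega
  have hfac : ∀ i : Fin n, q ^ n - q ^ (i : ℕ) = q ^ (i : ℕ) * (q ^ (n - i) - 1) := by
    intro i
    have hi : (i : ℕ) < n := i.2
    rw [Nat.mul_sub, mul_one, ← pow_add]
    congr 2
    omega
  have hne : ∀ i : Fin n, q ^ n - q ^ (i : ℕ) ≠ 0 := by
    intro i
    have hi : (i : ℕ) < n := i.2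
    have : q ^ (i : ℕ) < q ^ n := Nat.pow_lt_pow_right (by omega) hi
    omega
  rw [Nat.factorization_prod (fun i _ => hne i)]
  rw [Finsupp.finset_sum_apply]
  have h1 : ∀ i : Fin n, (q ^ n - q ^ (i : ℕ)).factorization r =
      if d ∣ n - i then padicValNat r (q ^ d - 1) else 0 := by
    intro i
    have hi : (i : ℕ) < n := i.2
    rw [Nat.factorization_def _ hr.out, hfac i]
    have hA : q ^ (i : ℕ) ≠ 0 := (Nat.pow_pos hqpos).ne'
    have hB : q ^ (n - i) - 1 ≠ 0 := by
      have := hne i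
      rw [hfac i] at this
      exact right_ne_zero_of_mul this
    rw [padicValNat.mul hA hB]
    have : ¬ r ∣ q ^ (i : ℕ) := fun h => hrq (hr.out.dvd_of_dvd_pow h)
    rw [padicValNat.eq_zero_of_not_dvd this, zero_add]
    exact vr_pow q r hrq hq n hn (n - i) (by omega) (by omega)
  simp_rw [h1]
  rw [Fin.sum_univ_eq_sum_range (fun i => if d ∣ n - i then padicValNat r (q ^ d - 1) else 0) n]
  rw [← Finset.sum_range_reflect]
  have h2 : ∀ j ∈ Finset.range n, (if d ∣ n - (n - 1 - j) then padicValNat r (q ^ d - 1) else 0) =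
      if d ∣ j + 1 then padicValNat r (q ^ d - 1) else 0 := by
    intro j hj
    rw [Finset.mem_range] at hj
    have : n - (n - 1 - j) = j + 1 := by omega
    rw [this]
  rw [Finset.sum_congr rfl h2, ← Finset.sum_filter, Finset.sum_const, Nat.card_multiples, smul_eq_mul]

end Cfsg.Agent.helper17.SylR
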