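import Mathlib
import Cfsg.Agent.Lib_helper17_SylR1

set_option autoImplicit false

namespace Cfsg.Agent.helper17.SylR

open Matrix

section action

variable {F : Type*} [Field F] (K : Type*) [Field K] [Algebra F K] (a b : ℕ)

/-- the action of a family of units of `K` on `K^a × F^b` -/
def phi0 : (Fin a → Kˣ) →* Module.End F ((Fin a → K) × (Fin b → F)) where
  toFun x :=
    { toFun := fun v => (fun i => (x i : K) * v.1 i, v.2)
      map_add' := by
        intro v w
        apply Prod.ext
        · funext i
          simp [mul_add]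
        · rfl
      map_smul' := by
        intro c v
        apply Prod.ext
        · funext i
          simp [mul_smul_comm]
        · rfl }
  map_one' := by
    apply LinearMap.ext
    intro v
    apply Prod.ext
    · funext i
      simp
    · rfl
  map_mul' := by
    intro x y
    apply LinearMap.ext
    intro v
    apply Prod.ext
    · funext i
      simp [mul_assoc]
    · rfl

lemma phi0_apply (x : Fin a → Kˣ) (v : (Fin a → K) × (Fin b → F)) :
    phi0 (F := F) K a b x v = (fun i => (x i : K) * v.1 i, v.2) := rfl

lemma phi0_injective : Function.Injective (phi0 (F := F) K a b) := by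
  classical
  intro x y h
  funext i
  have h1 := congrArg (fun f => (f ((Pi.single i 1 : Fin a → K), (0 : Fin b → F))).1 i) h
  simp only [phi0_apply, Pi.single_eq_same, mul_one] at h1
  exact Units.ext h1

lemma toHomUnits_injective {G M : Type*} [Group G] [Monoid M] (f : G →* M) (hf : Function.Injective f) :
    Function.Injective f.toHomUnits := by
  intro x y h
  apply hf
  have := congrArg Units.val h
  exact this

end action

lemma cyc_iso (C : Type*) [Group C] [IsCyclic C] (m : ℕ) (h : Nat.card C = m) :
    Nonempty (Multiplicative (ZMod m) ≃* C) := by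
  subst h
  exact ⟨zmodCyclicMulEquiv ‹_›⟩

lemma exists_theta (K : Type*) [Field K] [Finite K] (m : ℕ) (hm0 : m ≠ 0) (hm : m ∣ Nat.card Kˣ) :
    ∃ θ : Multiplicative (ZMod m) →* Kˣ, Function.Injective θ := by
  obtain ⟨g, hg⟩ := IsCyclic.exists_ofOrder_eq_natCard (α := Kˣ)
  have hcard : Nat.card Kˣ ≠ 0 := Nat.card_pos.ne'
  set k := Nat.card Kˣ / m with hk
  have hkm : k * m = Nat.card Kˣ := Nat.div_mul_cancel hm
  have hk0 : k ≠ 0 := by
    rintro h0
    rw [h0, zero_mul] at hkm
    exact hcard hkm.symm
  have hord : orderOf (g ^ k) = m := by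
    rw [orderOf_pow_of_dvd hk0 (by rw [hg]; exact Dvd.intro _ hkm), hg, ← hkm]
    exact Nat.mul_div_cancel_left m (Nat.pos_of_ne_zero hk0)
  have hC : Nat.card (Subgroup.zpowers (g ^ k)) = m := by
    rw [Nat.card_zpowers, hord]
  obtain ⟨e⟩ := cyc_iso (Subgroup.zpowers (g ^ k)) m hC
  refine ⟨(Subgroup.zpowers (g ^ k)).subtype.comp e.toMonoidHom, ?_⟩
  intro x y h
  apply e.injective
  exact Subtype.ext h

section embed

variable {F : Type*} [Field F] [Fintype F]

/-- an elementary abelian-like subgroup `(C_m)^a` of `GL_n(F)` where `m ∣ q^d - 1`, `a * d ≤ n` -/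
lemma exists_embedding (n d a m : ℕ) (hd : 0 < d) (had : a * d ≤ n) (hm0 : m ≠ 0)
    (hm : m ∣ Fintype.card F ^ d - 1) :
    ∃ Ξ : (Fin a → Multiplicative (ZMod m)) →* GL (Fin n) F, Function.Injective Ξ := by
  classical
  obtain ⟨p, hp⟩ := CharP.exists F
  haveI : Fact p.Prime := ⟨CharP.char_is_prime F p⟩
  haveI : NeZero d := ⟨hd.ne'⟩
  let K := FiniteField.Extension F p d
  have hfr : Module.finrank F K = d := FiniteField.finrank_extension F p d
  have hcardK : Nat.card K = Fintype.card F ^ d := by
    rw [FiniteField.natCard_extension F p d, Nat.card_eq_fintype_card]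
  haveI : Fintype K := Fintype.ofFinite K
  have hunits : Nat.card Kˣ = Fintype.card F ^ d - 1 := by
    rw [Nat.card_eq_fintype_card, Fintype.card_units, ← Nat.card_eq_fintype_card, hcardK]
  obtain ⟨θ, hθ⟩ := exists_theta K m hm0 (by rw [hunits]; exact hm)
  set b := n - a * d with hb
  have hfin : Module.finrank F ((Fin a → K) × (Fin b → F)) = n := by
    rw [Module.finrank_prod, Module.finrank_pi_fintype, Module.finrank_fintype_fun_eq_card]
    simp only [hfr, Finset.sum_const, Finset.card_univ, Fintype.card_fin, smul_eq_mul]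
    omega
  let bas := Module.finBasisOfFinrankEq F ((Fin a → K) × (Fin b → F)) hfin
  let Φ : (Fin a → Kˣ) →* GL (Fin n) F :=
    (Units.mapEquiv (LinearMap.toMatrixAlgEquiv bas).toMulEquiv).toMonoidHom.comp
      (phi0 (F := F) K a b).toHomUnits
  have hΦ : Function.Injective Φ := by
    intro x y h
    have h1 : (phi0 (F := F) K a b).toHomUnits x = (phi0 (F := F) K a b).toHomUnits y :=
      (Units.mapEquiv (LinearMap.toMatrixAlgEquiv bas).toMulEquiv).injective h
    exact toHomUnits_injective _ (phi0_injective K a b) h1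
  refine ⟨Φ.comp (MonoidHom.compLeft θ (Fin a)), ?_⟩
  intro x y h
  have h1 := hΦ h
  funext i
  apply hθ
  exact congrFun h1 i

end embed

end Cfsg.Agent.helper17.SylR
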