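import Mathlib
import Cfsg.Agent.Lib_helper17_SylR2

set_option autoImplicit false

namespace Cfsg.Agent.helper17.SylR

open Matrix

lemma card_filter_Icc (n d : ℕ) :
    ((Finset.Icc 2 n).filter (fun i => d ∣ i)).card = n / d - (if d = 1 ∧ 1 ≤ n then 1 else 0) := by
  have h1 : (Finset.Icc 2 n) = (Finset.Ioc 0 n).erase 1 := by
    ext x
    simp only [Finset.mem_Icc, Finset.mem_erase, Finset.mem_Ioc]
    omega
  rw [h1, Finset.filter_erase, ← Nat.Ioc_filter_dvd_card_eq_div n d]
  split_ifs with h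
  · rw [Finset.card_erase_of_mem]
    simp only [Finset.mem_filter, Finset.mem_Ioc]
    obtain ⟨hd, hn⟩ := h
    subst hd
    exact ⟨⟨by norm_num, hn⟩, dvd_rfl⟩
  · rw [Finset.erase_eq_of_notMem, Nat.sub_zero]
    simp only [Finset.mem_filter, Finset.mem_Ioc, Nat.dvd_one]
    rintro ⟨⟨_, hn⟩, hd⟩
    exact h ⟨hd, hn⟩

section SLlift

variable {F : Type*} [Field F] [Fintype F] {n : ℕ}

/-- lift a homomorphism into `GL_n` with determinant one to `SL_n` -/
def toSL {G : Type*} [Group G] (Ξ : G →* GL (Fin n) F) (h : ∀ x, (Ξ x).1.det = 1) :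
    G →* Matrix.SpecialLinearGroup (Fin n) F where
  toFun x := ⟨(Ξ x).1, h x⟩
  map_one' := by
    apply Subtype.ext
    show (Ξ 1).1 = 1
    rw [map_one]; rfl
  map_mul' x y := by
    apply Subtype.ext
    show (Ξ (x * y)).1 = (Ξ x).1 * (Ξ y).1
    rw [map_mul]; rfl

lemma toSL_injective {G : Type*} [Group G] (Ξ : G →* GL (Fin n) F) (h : ∀ x, (Ξ x).1.det = 1)
    (hΞ : Function.Injective Ξ) : Function.Injective (toSL Ξ h) := by
  intro x y hxy
  apply hΞ
  apply Units.ext
  exact congrArg Subtype.val hxy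

lemma hom_trivial_of_coprime {G : Type*} [Group G] [Finite G] (f : G →* Fˣ)
    (hcop : (Nat.card G).Coprime (Fintype.card F - 1)) (x : G) : f x = 1 := by
  classical
  have h1 : orderOf (f x) ∣ Nat.card G := (orderOf_map_dvd f x).trans (orderOf_dvd_natCard x)
  have h2 : orderOf (f x) ∣ Fintype.card F - 1 := by
    rw [← Fintype.card_units]
    exact orderOf_dvd_card
  have h3 : orderOf (f x) ∣ 1 := by
    have := Nat.dvd_gcd h1 h2
    rwa [hcop] at this
  exact orderOf_eq_one_iff.mp (Nat.dvd_one.mp h3)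

/-- the diagonal embedding of `(F^×)^k` into `SL_{k+1}` -/
def delta (k : ℕ) : (Fin k → Fˣ) →* Matrix.SpecialLinearGroup (Fin (k + 1)) F where
  toFun x := ⟨Matrix.diagonal (fun i => ((Fin.cons ((∏ j, x j)⁻¹) x : Fin (k + 1) → Fˣ) i : F)), by
    rw [Matrix.det_diagonal, Fin.prod_univ_succ]
    simp only [Fin.cons_zero, Fin.cons_succ]
    rw [← Units.coe_prod, ← Units.val_mul, inv_mul_cancel]
    rfl⟩
  map_one' := by
    apply Subtype.ext
    show Matrix.diagonal _ = (1 : Matrix (Fin (k + 1)) (Fin (k + 1)) F)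
    rw [← Matrix.diagonal_one]
    congr 1
    funext i
    refine Fin.cases ?_ (fun j => ?_) i
    · simp
    · simp
  map_mul' x y := by
    apply Subtype.ext
    show Matrix.diagonal _ = Matrix.diagonal _ * Matrix.diagonal _
    rw [Matrix.diagonal_mul_diagonal]
    congr 1
    funext i
    refine Fin.cases ?_ (fun j => ?_) i
    · simp [Finset.prod_mul_distrib, mul_comm]
    · simp

lemma delta_val (k : ℕ) (x : Fin k → Fˣ) :
    (delta (F := F) k x).1 =
      Matrix.diagonal (fun i => ((Fin.cons ((∏ j, x j)⁻¹) x : Fin (k + 1) → Fˣ) i : F)) := rfl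

lemma delta_injective (k : ℕ) : Function.Injective (delta (F := F) k) := by
  intro x y h
  funext j
  have h1 : (delta (F := F) k x).1 j.succ j.succ = (delta (F := F) k y).1 j.succ j.succ := by rw [h]
  rw [delta_val, delta_val, Matrix.diagonal_apply_eq, Matrix.diagonal_apply_eq, Fin.cons_succ,
    Fin.cons_succ] at h1
  exact Units.ext h1

end SLlift

section embedSL

variable {F : Type*} [Field F] [Fintype F]

lemma exists_embedding_SL (n a r v : ℕ) [hr : Fact r.Prime] (hrq : ¬ r ∣ Fintype.card F) (hn : 1 ≤ n)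
    (ha : a = n / orderOf ((Fintype.card F : ℕ) : ZMod r) -
      (if orderOf ((Fintype.card F : ℕ) : ZMod r) = 1 ∧ 1 ≤ n then 1 else 0))
    (hm : r ^ v ∣ Fintype.card F ^ orderOf ((Fintype.card F : ℕ) : ZMod r) - 1) :
    ∃ Ξ : (Fin a → Multiplicative (ZMod (r ^ v))) →* Matrix.SpecialLinearGroup (Fin n) F,
      Function.Injective Ξ := by
  classical
  set q := Fintype.card F with hq
  set d := orderOf (q : ZMod r) with hd
  have hdpos : 0 < d := d_pos q r hrq
  have hm0 : r ^ v ≠ 0 := pow_ne_zero _ hr.out.ne_zero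
  by_cases hd1 : d = 1
  · -- diagonal case
    rw [if_pos ⟨hd1, hn⟩, hd1, Nat.div_one] at ha
    obtain ⟨k, rfl⟩ : ∃ k, n = k + 1 := ⟨n - 1, by omega⟩
    have hak : a = k := by omega
    subst hak
    have hm' : r ^ v ∣ Nat.card Fˣ := by
      rw [Nat.card_eq_fintype_card, Fintype.card_units]
      rw [hd1, pow_one] at hm
      exact hm
    obtain ⟨θ, hθ⟩ := exists_theta F (r ^ v) hm0 hm'
    refine ⟨(delta a).comp (MonoidHom.compLeft θ (Fin a)), ?_⟩
    intro x y h
    have h1 := delta_injective a h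
    funext i
    apply hθ
    exact congrFun h1 i
  · rw [if_neg (fun h => hd1 h.1), Nat.sub_zero] at ha
    subst ha
    obtain ⟨Ξ, hΞ⟩ := exists_embedding (F := F) n d (n / d) (r ^ v) hdpos (Nat.div_mul_le_self n d) hm0 hm
    have hcop : (Nat.card (Fin (n / d) → Multiplicative (ZMod (r ^ v)))).Coprime (Fintype.card F - 1) := by
      rw [Nat.card_fun, Nat.card_fin]
      have : Nat.card (Multiplicative (ZMod (r ^ v))) = r ^ v := by
        rw [Nat.card_congr Multiplicative.toAdd, Nat.card_zmod]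
      rw [this, ← pow_mul]
      apply Nat.Coprime.pow_left
      rw [Nat.Prime.coprime_iff_not_dvd hr.out]
      intro hdvd
      have h1 : r ∣ q ^ 1 - 1 := by rw [pow_one]; exact hdvd
      rw [dvd_pow_sub_one_iff q r hrq] at h1
      exact hd1 (Nat.dvd_one.mp h1)
    have hdet : ∀ x, (Ξ x).1.det = 1 := by
      intro x
      have := hom_trivial_of_coprime (Matrix.GeneralLinearGroup.det.comp Ξ) hcop x
      have h2 := congrArg Units.val this
      simpa using h2
    exact ⟨toSL Ξ hdet, toSL_injective Ξ hdet hΞ⟩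

end embedSL

end Cfsg.Agent.helper17.SylR
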