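import Mathlib
import Cfsg.Agent.Lib_helper17_SylR1

set_option autoImplicit false

namespace Cfsg.Agent.helper17.SylR

open Polynomial

variable (q r : ℕ) [hr : Fact r.Prime]

lemma vr_pow' (hrq : ¬ r ∣ q) (hq : 2 ≤ q) (hr2 : r ≠ 2) (j : ℕ) (hj1 : 1 ≤ j) (hrj : ¬ r ∣ j) :
    padicValNat r (q ^ j - 1) =
      if orderOf (q : ZMod r) ∣ j then padicValNat r (q ^ orderOf (q : ZMod r) - 1) else 0 := by
  set d := orderOf (q : ZMod r) with hd
  have hdpos : 0 < d := d_pos q r hrq
  split_ifs with h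
  · obtain ⟨t, rfl⟩ := h
    have ht1 : 1 ≤ t := by
      rcases Nat.eq_zero_or_pos t with h0 | h0
      · subst h0; omega
      · exact h0
    have hodd : Odd r := hr.out.odd_of_ne_two hr2
    have hx1 : 1 < q ^ d := by
      calc 1 < 2 := by norm_num
        _ = 2 ^ 1 := by norm_num
        _ ≤ 2 ^ d := Nat.pow_le_pow_right (by norm_num) hdpos
        _ ≤ q ^ d := Nat.pow_le_pow_left hq d
    have hxy : r ∣ q ^ d - 1 := (dvd_pow_sub_one_iff q r hrq d).mpr dvd_rfl
    have hx : ¬ r ∣ q ^ d := fun h => hrq (hr.out.dvd_of_dvd_pow h)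
    have := padicValNat.pow_sub_pow hodd hx1 hxy hx (n := t) (by omega)
    rw [one_pow, ← pow_mul] at this
    rw [this]
    have hrt : ¬ r ∣ t := fun hdvd => hrj (Dvd.dvd.mul_left hdvd d)
    rw [padicValNat.eq_zero_of_not_dvd hrt, add_zero]
  · apply padicValNat.eq_zero_of_not_dvd
    rw [dvd_pow_sub_one_iff q r hrq]
    exact h

/-- the `r`-adic valuation of the order of `Sp_{2n}(q)` -/
lemma vr_Sp (hrq : ¬ r ∣ q) (hq : 2 ≤ q) (hr2 : r ≠ 2) (n : ℕ) (hn : n < r) :
    (q ^ (n ^ 2) * ∏ i ∈ Finset.range n, (q ^ (2 * (i + 1)) - 1)).factorization r =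
      ((Finset.Icc 1 n).filter (fun i => orderOf (q : ZMod r) ∣ 2 * i)).card *
        padicValNat r (Phi q (orderOf (q : ZMod r))) := by
  set d := orderOf (q : ZMod r) with hd
  rw [← vr_cyclotomic q r hrq hq, ← hd]
  have hqpos : 0 < q := by omega
  have hne : ∀ i ∈ Finset.range n, q ^ (2 * (i + 1)) - 1 ≠ 0 := by
    intro i _
    have h1 : 2 ^ (2 * (i + 1)) ≤ q ^ (2 * (i + 1)) := Nat.pow_le_pow_left hq _
    have h2 : 2 ^ 1 ≤ 2 ^ (2 * (i + 1)) := Nat.pow_le_pow_right (by norm_num) (by omega)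
    omega
  have hA : q ^ (n ^ 2) ≠ 0 := (Nat.pow_pos hqpos).ne'
  have hB : ∏ i ∈ Finset.range n, (q ^ (2 * (i + 1)) - 1) ≠ 0 := Finset.prod_ne_zero_iff.mpr hne
  rw [Nat.factorization_mul hA hB, Finsupp.add_apply, Nat.factorization_prod hne,
    Finsupp.finset_sum_apply]
  have h0 : (q ^ (n ^ 2)).factorization r = 0 := by
    rw [Nat.factorization_def _ hr.out]
    apply padicValNat.eq_zero_of_not_dvd
    exact fun h => hrq (hr.out.dvd_of_dvd_pow h)
  rw [h0, zero_add]
  have h1 : ∀ i ∈ Finset.range n, (q ^ (2 * (i + 1)) - 1).factorization r =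
      if d ∣ 2 * (i + 1) then padicValNat r (q ^ d - 1) else 0 := by
    intro i hi
    rw [Finset.mem_range] at hi
    rw [Nat.factorization_def _ hr.out]
    apply vr_pow' q r hrq hq hr2 (2 * (i + 1)) (by omega)
    intro hdvd
    have h2 : r ∣ i + 1 := by
      have hcop : Nat.Coprime r 2 := by
        rw [Nat.Prime.coprime_iff_not_dvd hr.out]
        intro h2
        exact hr2 ((Nat.prime_dvd_prime_iff_eq hr.out Nat.prime_two).mp h2)
      exact hcop.dvd_of_dvd_mul_left hdvd
    have := Nat.le_of_dvd (by omega) h2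
    omega
  rw [Finset.sum_congr rfl h1, ← Finset.sum_filter, Finset.sum_const, smul_eq_mul]
  congr 1
  apply Finset.card_bij (fun i _ => i + 1)
  · intro i hi
    simp only [Finset.mem_filter, Finset.mem_range, Finset.mem_Icc] at hi ⊢
    exact ⟨by omega, hi.2⟩
  · intro i _ j _ h
    omega
  · intro j hj
    simp only [Finset.mem_filter, Finset.mem_range, Finset.mem_Icc] at hj ⊢
    refine ⟨j - 1, ⟨by omega, ?_⟩, by omega⟩
    have : j - 1 + 1 = j := by omega
    rw [this]
    exact hj.2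

/-- the "half order": `d` for `d` odd, `d/2` for `d` even -/
def halfOrd (d : ℕ) : ℕ := if Even d then d / 2 else d

lemma halfOrd_pos (d : ℕ) (hd : 0 < d) : 0 < halfOrd d := by
  unfold halfOrd
  split_ifs with h
  · obtain ⟨k, hk⟩ := h
    omega
  · exact hd

lemma dvd_two_mul_iff (d i : ℕ) : d ∣ 2 * i ↔ halfOrd d ∣ i := by
  unfold halfOrd
  split_ifs with h
  · obtain ⟨k, hk⟩ := h
    have : d / 2 = k := by omega
    rw [this]
    have hd : d = 2 * k := by omega
    rw [hd]
    constructor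
    · intro h2
      exact Nat.dvd_of_mul_dvd_mul_left (by norm_num) h2
    · intro h2
      exact Nat.mul_dvd_mul_left 2 h2
  · have hodd : Odd d := Nat.not_even_iff_odd.mp h
    have hcop : Nat.Coprime d 2 := Nat.Coprime.symm (Nat.coprime_two_left.mpr hodd)
    constructor
    · intro h2
      exact hcop.dvd_of_dvd_mul_left h2
    · intro h2
      exact Dvd.dvd.mul_left h2 2

lemma card_filter_two_mul (n d : ℕ) :
    ((Finset.Icc 1 n).filter (fun i => d ∣ 2 * i)).card = n / halfOrd d := by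
  rw [← Nat.Ioc_filter_dvd_card_eq_div n (halfOrd d)]
  congr 1
  ext i
  simp only [Finset.mem_filter, Finset.mem_Icc, Finset.mem_Ioc, dvd_two_mul_iff]
  omega

/-- the order of `q ^ halfOrd d` modulo `r` -/
def ordHalf (d : ℕ) : ℕ := if Even d then 2 else 1

lemma halfOrd_mul_ordHalf (d : ℕ) : halfOrd d * ordHalf d = d := by
  unfold halfOrd ordHalf
  split_ifs with h
  · obtain ⟨k, hk⟩ := h
    omega
  · simp

lemma orderOf_pow_halfOrd {M : Type*} [Monoid M] (x : M) (hx : 0 < orderOf x) :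
    orderOf (x ^ halfOrd (orderOf x)) = ordHalf (orderOf x) := by
  set d := orderOf x with hd
  have hpos := halfOrd_pos d hx
  rw [orderOf_pow' x hpos.ne', ← hd]
  have hdvd : halfOrd d ∣ d := Dvd.intro _ (halfOrd_mul_ordHalf d)
  rw [Nat.gcd_eq_right hdvd]
  apply Nat.div_eq_of_eq_mul_right hpos
  exact (halfOrd_mul_ordHalf d).symm

end Cfsg.Agent.helper17.SylR
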