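import Mathlib
import Cfsg.Agent.Lib_helper17_U3a

set_option autoImplicit false
set_option linter.unusedSectionVars false
set_option linter.unusedVariables false

/-!
# Automorphisms of a group with `U3`-coordinates, `q = 4`
-/

namespace Cfsg.Agent.helper17.U3

open Cfsg.Agent.helper11.HermCount

variable {F : Type*} [Field F] [Fintype F] {q : ℕ} {P : Type*} [Group P]

theorem card_fix3 {X : Type*} [Finite X] (f : X → X) (hf : ∀ x, f (f (f x)) = x) :
    Nat.card X ≡ Nat.card {x : X // f x = x} [MOD 3] := by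
  classical
  have := Fintype.ofFinite X
  let g : Function.End X := f
  have h3 : g ^ 3 ^ 1 = 1 := by
    funext x
    simp only [pow_one]
    show (g ^ 3) x = x
    rw [pow_succ, pow_succ, pow_one]
    exact hf x
  have := Equiv.Perm.card_fixedPoints_modEq (p := 3) (n := 1) (f := g) h3
  rw [Nat.card_eq_fintype_card, Nat.card_eq_fintype_card]
  have e : Fintype.card {x : X // f x = x} = Fintype.card (Function.fixedPoints g) := by
    apply Fintype.card_congr; exact Equiv.subtypeEquivRight (fun x => Iff.rfl)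
  rw [e]; exact this

theorem five_le_card {X : Type*} [Finite X] (p : X → Prop) (x₁ x₂ x₃ x₄ x₅ : X)
    (h1 : p x₁) (h2 : p x₂) (h3 : p x₃) (h4 : p x₄) (h5 : p x₅)
    (h12 : x₁ ≠ x₂) (h13 : x₁ ≠ x₃) (h14 : x₁ ≠ x₄) (h15 : x₁ ≠ x₅) (h23 : x₂ ≠ x₃)
    (h24 : x₂ ≠ x₄) (h25 : x₂ ≠ x₅) (h34 : x₃ ≠ x₄) (h35 : x₃ ≠ x₅) (h45 : x₄ ≠ x₅) :
    5 ≤ Nat.card {x : X // p x} := by
  classical
  let S : Finset X := {x₁, x₂, x₃, x₄, x₅}
  have hS : S.card = 5 := by
    simp only [S]
    rw [Finset.card_insert_of_notMem, Finset.card_insert_of_notMem, Finset.card_insert_of_notMem,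
      Finset.card_insert_of_notMem, Finset.card_singleton]
    all_goals simp [*]
  have hsub : (S : Set X) ⊆ {x | p x} := by
    intro x hx
    simp only [S, Finset.coe_insert, Finset.coe_singleton, Set.mem_insert_iff,
      Set.mem_singleton_iff] at hx
    rcases hx with rfl | rfl | rfl | rfl | rfl <;> assumption
  have h1 := Set.ncard_le_ncard hsub (Set.toFinite _)
  rw [Set.ncard_coe_finset, hS] at h1
  exact h1

theorem exists_fixed_ne (h : Hyp F q) (hq : 2 < q) : ∃ κ : F, κ ^ q = κ ∧ κ ≠ 0 ∧ κ ≠ 1 := by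
  classical
  have hc := h.card_fixed
  haveI : Fintype {x : F // x ^ q = x} := Fintype.ofFinite _
  have h3 : 2 < Fintype.card {x : F // x ^ q = x} := by
    rw [← Nat.card_eq_fintype_card, hc]; exact hq
  obtain ⟨a, b, d, hab, had, hbd⟩ := Fintype.two_lt_card_iff.mp h3
  by_contra hcon
  push Not at hcon
  have hall : ∀ x : {x : F // x ^ q = x}, x.1 = 0 ∨ x.1 = 1 := by
    intro x
    by_cases hx : x.1 = 0
    · exact Or.inl hx
    · exact Or.inr (hcon x.1 x.2 hx)
  have hab' : a.1 ≠ b.1 := fun e => hab (Subtype.ext e)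
  have had' : a.1 ≠ d.1 := fun e => had (Subtype.ext e)
  have hbd' : b.1 ≠ d.1 := fun e => hbd (Subtype.ext e)
  clear hcon hab had hbd h3 hc
  rcases hall a with ha | ha <;> rcases hall b with hb | hb <;> rcases hall d with hd | hd
  · exact hab' (ha.trans hb.symm)
  · exact hab' (ha.trans hb.symm)
  · exact had' (ha.trans hd.symm)
  · exact hbd' (hb.trans hd.symm)
  · exact hbd' (hb.trans hd.symm)
  · exact had' (ha.trans hd.symm)
  · exact hab' (ha.trans hb.symm)
  · exact hab' (ha.trans hb.symm)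

namespace Coord

theorem aut_center (c : Coord F q P) (h : Hyp F q) (φ : P ≃* P) (x : P) :
    φ x ∈ Subgroup.center P ↔ x ∈ Subgroup.center P := by
  rw [← c.mul_self_eq_one_iff_mem_center h, ← c.mul_self_eq_one_iff_mem_center h, ← map_mul]
  constructor
  · intro h1; apply φ.injective; rw [h1, map_one]
  · intro h1; rw [h1, map_one]

theorem α_aut_congr (c : Coord F q P) (h : Hyp F q) (φ : P ≃* P) (x y : P)
    (hxy : c.α x = c.α y) : c.α (φ x) = c.α (φ y) := by
  have h1 : x⁻¹ * y ∈ Subgroup.center P := by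
    rw [c.mem_center_iff h, c.α_mul, c.α_inv h, hxy]; exact h.add_self _
  have h2 := (c.aut_center h φ _).mpr h1
  rw [c.mem_center_iff h, map_mul, map_inv, c.α_mul, c.α_inv h] at h2
  linear_combination h2 - (c.α (φ y)) * h.two

/-- a section of `α` -/
noncomputable def sec (c : Coord F q P) (h : Hyp F q) (a : F) : P :=
  Classical.choose (c.exists_α h a)

theorem α_sec (c : Coord F q P) (h : Hyp F q) (a : F) : c.α (c.sec h a) = a :=
  Classical.choose_spec (c.exists_α h a)

/-- the additive map induced on `F` by an automorphism -/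
noncomputable def indA (c : Coord F q P) (h : Hyp F q) (φ : P ≃* P) : F →+ F where
  toFun a := c.α (φ (c.sec h a))
  map_zero' := by
    have : c.sec h 0 ∈ Subgroup.center P := (c.mem_center_iff h _).mpr (c.α_sec h 0)
    exact (c.mem_center_iff h _).mp ((c.aut_center h φ _).mpr this)
  map_add' a b := by
    have : c.α (c.sec h (a + b)) = c.α (c.sec h a * c.sec h b) := by
      rw [c.α_mul, c.α_sec, c.α_sec, c.α_sec]
    rw [c.α_aut_congr h φ _ _ this, map_mul, c.α_mul]

theorem indA_spec (c : Coord F q P) (h : Hyp F q) (φ : P ≃* P) (x : P) :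
    c.α (φ x) = c.indA h φ (c.α x) :=
  c.α_aut_congr h φ x (c.sec h (c.α x)) (c.α_sec h _).symm

/-- if `α (φ x) = α x` then `φ` fixes `x * x` -/
theorem aut_sq_fixed (c : Coord F q P) (h : Hyp F q) (φ : P ≃* P) (x : P)
    (hx : c.α (φ x) = c.α x) : φ (x * x) = x * x := by
  apply c.inj
  · rw [map_mul, c.α_sq h, c.α_sq h]
  · rw [map_mul, c.β_sq h, c.β_sq h, hx]

/-- an automorphism of order dividing 3 fixing the centre pointwise is trivial (`q = 4`) -/
theorem aut3_trivial (c : Coord F 4 P) (h : Hyp F 4) (σ : P ≃* P)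
    (h3 : ∀ x, σ (σ (σ x)) = x) (hZ : ∀ z ∈ Subgroup.center P, σ z = z) : ∀ x, σ x = x := by
  classical
  have hspec := c.indA_spec h σ
  set A := c.indA h σ with hA
  have hA3 : ∀ a, A (A (A a)) = a := by
    intro a
    calc A (A (A a)) = A (A (A (c.α (c.sec h a)))) := by rw [c.α_sec]
      _ = c.α (σ (σ (σ (c.sec h a)))) := by rw [← hspec, ← hspec, ← hspec]
      _ = a := by rw [h3, c.α_sec]
  have hAN : ∀ a, A a * (A a) ^ 4 = a * a ^ 4 := by
    intro a
    have h1 : A a = c.α (σ (c.sec h a)) := by rw [hspec, c.α_sec]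
    have h2 : σ (c.sec h a * c.sec h a) = c.sec h a * c.sec h a := hZ _ (c.sq_mem_center h _)
    have h4 := c.β_sq h (σ (c.sec h a))
    rw [← map_mul, h2, c.β_sq h, c.α_sec] at h4
    rw [h1]; exact h4.symm
  -- two fixed points in each norm fibre
  have two_fixed : ∀ κ : F, κ ^ 4 = κ → κ ≠ 0 →
      ∃ a a' : F, a ≠ a' ∧ A a = a ∧ A a' = a' ∧ a * a ^ 4 = κ ∧ a' * a' ^ 4 = κ := by
    intro κ hκ hκ0
    have hc := card_norm_fiber h.card κ hκ
    rw [if_neg hκ0] at hc
    let f : {x : F // x * x ^ 4 = κ} → {x : F // x * x ^ 4 = κ} :=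
      fun a => ⟨A a.1, by rw [hAN]; exact a.2⟩
    have hf : ∀ a, f (f (f a)) = a := fun a => Subtype.ext (hA3 a.1)
    have hmod := card_fix3 f hf
    rw [hc] at hmod
    have h2 : 1 < Nat.card {a : {x : F // x * x ^ 4 = κ} // f a = a} := by
      unfold Nat.ModEq at hmod
      omega
    haveI : Nontrivial {a : {x : F // x * x ^ 4 = κ} // f a = a} :=
      Finite.one_lt_card_iff_nontrivial.mp h2
    obtain ⟨⟨⟨a, ha⟩, hfa⟩, ⟨⟨a', ha'⟩, hfa'⟩, hne⟩ :=
      exists_pair_ne {a : {x : F // x * x ^ 4 = κ} // f a = a}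
    refine ⟨a, a', ?_, ?_, ?_, ha, ha'⟩
    · intro e; apply hne; apply Subtype.ext; apply Subtype.ext; exact e
    · exact congrArg Subtype.val hfa
    · exact congrArg Subtype.val hfa'
  -- a second nonzero fixed-field element
  obtain ⟨κ₂, hκ₂, hκ20, hκ21⟩ := exists_fixed_ne h (by norm_num)
  obtain ⟨a₁, a₁', hne1, hf1, hf1', hn1, hn1'⟩ := two_fixed 1 (one_pow 4) one_ne_zero
  obtain ⟨a₂, a₂', hne2, hf2, hf2', hn2, hn2'⟩ := two_fixed κ₂ hκ₂ hκ20
  have hzero : ∀ a : F, ∀ κ : F, κ ≠ 0 → a * a ^ 4 = κ → a ≠ 0 := by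
    rintro a κ hκ ha rfl
    apply hκ; rw [← ha]; ring
  have hdiff : ∀ a b : F, a * a ^ 4 = 1 → b * b ^ 4 = κ₂ → a ≠ b := by
    rintro a b ha hb rfl
    exact hκ21 (hb.symm.trans ha)
  have h5 : 5 ≤ Nat.card {a : F // A a = a} :=
    five_le_card (fun a => A a = a) 0 a₁ a₁' a₂ a₂' (map_zero A) hf1 hf1' hf2 hf2'
      (hzero a₁ 1 one_ne_zero hn1).symm (hzero a₁' 1 one_ne_zero hn1').symm
      (hzero a₂ κ₂ hκ20 hn2).symm (hzero a₂' κ₂ hκ20 hn2').symm hne1
      (hdiff _ _ hn1 hn2) (hdiff _ _ hn1 hn2') (hdiff _ _ hn1' hn2) (hdiff _ _ hn1' hn2') hne2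
  -- the fixed subgroup
  let Fix : AddSubgroup F := AddMonoidHom.eqLocus A (AddMonoidHom.id F)
  have hmem : ∀ a, a ∈ Fix ↔ A a = a := fun a => Iff.rfl
  have hcF : Nat.card F = 16 := by rw [Nat.card_eq_fintype_card, h.card]; norm_num
  have e1 : Nat.card Fix = Nat.card {a : F // A a = a} :=
    Nat.card_congr (Equiv.subtypeEquivRight hmem)
  have hdvd : Nat.card Fix ∣ 16 := by
    rw [← hcF]; exact AddSubgroup.card_addSubgroup_dvd_card Fix
  have hmod := card_fix3 (fun a : F => A a) hA3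
  rw [hcF, ← e1] at hmod
  rw [← e1] at h5
  have h16 : Nat.card Fix = 16 := by
    have : (16 : ℕ) = 2 ^ 4 := by norm_num
    rw [this] at hdvd
    obtain ⟨k, hk, hk2⟩ := (Nat.dvd_prime_pow Nat.prime_two).mp hdvd
    unfold Nat.ModEq at hmod
    interval_cases k <;> omega
  have htop : Fix = ⊤ := AddSubgroup.eq_top_of_card_eq Fix (by rw [h16, hcF])
  have hAid : ∀ a, A a = a := fun a => (hmem a).mp (by rw [htop]; exact AddSubgroup.mem_top a)
  intro x
  have hαx : c.α (σ x) = c.α x := by rw [hspec, hAid]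
  have hz : x⁻¹ * σ x ∈ Subgroup.center P := by
    rw [c.mem_center_iff h, c.α_mul, c.α_inv h, hαx]; exact h.add_self _
  have hzz : (x⁻¹ * σ x) * (x⁻¹ * σ x) = 1 := (c.mul_self_eq_one_iff_mem_center h _).mpr hz
  have hσz := hZ _ hz
  have e3 : σ (σ x) = x := by
    set z := x⁻¹ * σ x with hzdef
    have e2 : σ x = x * z := by rw [hzdef]; group
    rw [e2, map_mul, hσz, e2, mul_assoc, hzz, mul_one]
  have := h3 x
  rw [e3] at this
  exact this

end Coord

end Cfsg.Agent.helper17.U3
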