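import Mathlib
import Cfsg.Agent.Lib_helper17_U3d

set_option autoImplicit false
set_option linter.unusedSectionVars false
set_option linter.unusedVariables false

/-!
# Involutory automorphisms of a group with `U3`-coordinates (`q = 4`) centralize the centre
-/

namespace Cfsg.Agent.helper17.U3

open Cfsg.Agent.helper11.HermCount

variable {F : Type*} [Field F] [Fintype F] {P : Type*} [Group P]

/-- the final field computation -/
theorem no_three_norms (h : Hyp F 4) (a₁ a₂ κ : F) (hκ : κ ≠ 0) (h1 : a₁ * a₁ ^ 4 = κ)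
    (h2 : a₂ * a₂ ^ 4 = κ) (h3 : (a₁ + a₂) * (a₁ + a₂) ^ 4 = κ) : False := by
  have e2 := h.two
  have ha1 : a₁ ≠ 0 := by
    rintro rfl
    apply hκ; rw [← h1]; ring
  have hadd : (a₁ + a₂) ^ 4 = a₁ ^ 4 + a₂ ^ 4 := h.frob_add a₁ a₂
  rw [hadd] at h3
  have h4 : a₁ * a₂ ^ 4 + a₂ * a₁ ^ 4 = κ := by grind
  set t := a₂ / a₁ with ht
  have hκ5 : a₁ ^ 5 = κ := by rw [← h1]; ring
  have ha5 : a₁ ^ 5 ≠ 0 := pow_ne_zero _ ha1
  have hta : a₂ = t * a₁ := by rw [ht]; field_simp
  have t5 : t ^ 5 = 1 := by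
    apply mul_right_cancel₀ ha5
    rw [one_mul]
    calc t ^ 5 * a₁ ^ 5 = (t * a₁) * (t * a₁) ^ 4 := by ring
      _ = κ := by rw [← hta]; exact h2
      _ = a₁ ^ 5 := hκ5.symm
  have t4 : t ^ 4 + t = 1 := by
    apply mul_right_cancel₀ ha5
    rw [one_mul]
    calc (t ^ 4 + t) * a₁ ^ 5 = a₁ * (t * a₁) ^ 4 + (t * a₁) * a₁ ^ 4 := by ring
      _ = κ := by rw [← hta]; exact h4
      _ = a₁ ^ 5 := hκ5.symm
  have t2 : t ^ 2 + t + 1 = 0 := by grind
  have t3 : t ^ 3 = 1 := by grind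
  have t2' : t ^ 2 = 1 := by
    have : t ^ 5 = t ^ 3 * t ^ 2 := by ring
    rw [this, t3, one_mul] at t5
    exact t5
  have t1 : t = 1 := by
    have : t ^ 3 = t ^ 2 * t := by ring
    rw [this, t2', one_mul] at t3
    exact t3
  rw [t1] at t2
  have : (1 : F) = 0 := by linear_combination t2 - e2
  exact one_ne_zero this

namespace Coord

/-- an automorphism of order dividing 2 fixes the centre pointwise (`q = 4`) -/
theorem aut2_center (c : Coord F 4 P) (h : Hyp F 4) (τ : P ≃* P) (h2 : ∀ x, τ (τ x) = x) :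
    ∀ z ∈ Subgroup.center P, τ z = z := by
  classical
  by_contra hcon
  push Not at hcon
  obtain ⟨z₀, hz₀, hτz₀⟩ := hcon
  haveI := c.finite h
  have hspec := c.indA_spec h τ
  set A := c.indA h τ with hA
  have hA2 : ∀ a, A (A a) = a := by
    intro a
    calc A (A a) = A (A (c.α (c.sec h a))) := by rw [c.α_sec]
      _ = c.α (τ (τ (c.sec h a))) := by rw [← hspec, ← hspec]
      _ = a := by rw [h2, c.α_sec]
  -- B = A + 1 has square zero
  let B : F →+ F := A + AddMonoidHom.id F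
  have hB : ∀ a, B a = A a + a := fun a => rfl
  have hBB : ∀ a, B (B a) = 0 := by
    intro a
    rw [hB, hB, map_add, hA2]
    have := h.add_self (A a)
    have := h.add_self a
    linear_combination (A a + a) * h.two
  have hker : ∀ a, a ∈ B.ker ↔ A a = a := by
    intro a
    rw [AddMonoidHom.mem_ker, hB]
    constructor
    · intro h0
      linear_combination h0 - a * h.two
    · intro h1
      rw [h1]; exact h.add_self a
  have hrk : B.range ≤ B.ker := by
    rintro _ ⟨a, rfl⟩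
    rw [AddMonoidHom.mem_ker]; exact hBB a
  have hcF : Nat.card F = 16 := by rw [Nat.card_eq_fintype_card, h.card]; norm_num
  have h4 : 4 ≤ Nat.card B.ker := by
    have h1 : Nat.card B.ker * B.ker.index = Nat.card F := AddSubgroup.card_mul_index _
    rw [AddSubgroup.index_ker, hcF] at h1
    have h2 : Nat.card B.range ≤ Nat.card B.ker := AddSubgroup.card_le_of_le hrk
    by_contra hlt
    push Not at hlt
    have : Nat.card B.ker * Nat.card B.range ≤ 3 * 3 := by
      apply Nat.mul_le_mul <;> omega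
    omega
  -- two distinct nonzero fixed vectors
  obtain ⟨a₁, a₂, hf1, hf2, h10, h20, h12⟩ :
      ∃ a₁ a₂ : F, A a₁ = a₁ ∧ A a₂ = a₂ ∧ a₁ ≠ 0 ∧ a₂ ≠ 0 ∧ a₁ ≠ a₂ := by
    haveI : Fintype B.ker := Fintype.ofFinite _
    have h3 : 2 < Fintype.card B.ker := by
      rw [← Nat.card_eq_fintype_card]; omega
    obtain ⟨u, v, w, huv, huw, hvw⟩ := Fintype.two_lt_card_iff.mp h3
    have huv' : u.1 ≠ v.1 := fun e => huv (Subtype.ext e)
    have huw' : u.1 ≠ w.1 := fun e => huw (Subtype.ext e)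
    have hvw' : v.1 ≠ w.1 := fun e => hvw (Subtype.ext e)
    have hu := (hker u.1).mp u.2
    have hv := (hker v.1).mp v.2
    have hw := (hker w.1).mp w.2
    by_cases hu0 : u.1 = 0
    · exact ⟨v.1, w.1, hv, hw, fun e => huv' (hu0.trans e.symm), fun e => huw' (hu0.trans e.symm),
        hvw'⟩
    · by_cases hv0 : v.1 = 0
      · exact ⟨u.1, w.1, hu, hw, hu0, fun e => hvw' (hv0.trans e.symm), huw'⟩
      · exact ⟨u.1, v.1, hu, hv, hu0, hv0, huv'⟩
  -- the subgroup of central elements fixed by τ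
  let Zτ : Subgroup P := Subgroup.center P ⊓ MonoidHom.eqLocus τ.toMonoidHom (MonoidHom.id P)
  have hZτ : ∀ x, x ∈ Zτ ↔ x ∈ Subgroup.center P ∧ τ x = x := fun x => Iff.rfl
  have hle : Zτ ≤ Subgroup.center P := inf_le_left
  have hcard : Nat.card Zτ ≤ 2 := by
    have hdvd : Nat.card Zτ ∣ Nat.card (Subgroup.center P) := Subgroup.card_dvd_of_le hle
    rw [c.card_center h] at hdvd
    have hne : Nat.card Zτ ≠ 4 := by
      intro e4
      have : Zτ = Subgroup.center P :=
        Subgroup.eq_of_le_of_card_ge hle (by rw [c.card_center h, e4])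
      have hz : z₀ ∈ Zτ := by rw [this]; exact hz₀
      exact hτz₀ ((hZτ z₀).mp hz).2
    have hle4 : Nat.card Zτ ≤ 4 := Nat.le_of_dvd (by norm_num) hdvd
    interval_cases hk : Nat.card Zτ <;> simp_all
  have huniq : ∀ y y' : P, y ∈ Zτ → y' ∈ Zτ → y ≠ 1 → y' ≠ 1 → y = y' := by
    intro y y' hy hy' hy1 hy'1
    by_contra hne
    haveI : Fintype Zτ := Fintype.ofFinite _
    have : 2 < Fintype.card Zτ := by
      rw [Fintype.two_lt_card_iff]
      refine ⟨1, ⟨y, hy⟩, ⟨y', hy'⟩, ?_, ?_, ?_⟩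
      · intro e; exact hy1 (congrArg Subtype.val e).symm
      · intro e; exact hy'1 (congrArg Subtype.val e).symm
      · intro e; exact hne (congrArg Subtype.val e)
    rw [← Nat.card_eq_fintype_card] at this
    omega
  -- squares of elements over fixed vectors lie in Zτ
  have hsq : ∀ a : F, A a = a → a ≠ 0 →
      c.sec h a * c.sec h a ∈ Zτ ∧ c.sec h a * c.sec h a ≠ 1 ∧
        c.β (c.sec h a * c.sec h a) = a * a ^ 4 := by
    intro a hfa ha0
    have hαx : c.α (τ (c.sec h a)) = c.α (c.sec h a) := by rw [hspec, c.α_sec, hfa]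
    refine ⟨(hZτ _).mpr ⟨c.sq_mem_center h _, c.aut_sq_fixed h τ _ hαx⟩, ?_, ?_⟩
    · intro e1
      have := (c.mul_self_eq_one_iff h _).mp e1
      rw [c.α_sec] at this
      exact ha0 this
    · rw [c.β_sq h, c.α_sec]
  have h120 : a₁ + a₂ ≠ 0 := by
    intro e
    apply h12
    linear_combination e - a₂ * h.two
  have hf12 : A (a₁ + a₂) = a₁ + a₂ := by rw [map_add, hf1, hf2]
  obtain ⟨m1, n1, b1⟩ := hsq a₁ hf1 h10
  obtain ⟨m2, n2, b2⟩ := hsq a₂ hf2 h20
  obtain ⟨m3, n3, b3⟩ := hsq (a₁ + a₂) hf12 h120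
  have e12 := huniq _ _ m1 m2 n1 n2
  have e13 := huniq _ _ m1 m3 n1 n3
  have hκ0 : a₁ * a₁ ^ 4 ≠ 0 := mul_ne_zero h10 (pow_ne_zero _ h10)
  refine no_three_norms h a₁ a₂ (a₁ * a₁ ^ 4) hκ0 rfl ?_ ?_
  · rw [← b2, ← e12, b1]
  · rw [← b3, ← e13, b1]

end Coord

end Cfsg.Agent.helper17.U3
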