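import Mathlib
import Cfsg.Agent.Lib_helper17_U3a
import Cfsg.Prelude.Def_LieRecognition

set_option autoImplicit false
set_option linter.unusedSectionVars false
set_option linter.unusedVariables false

/-!
# A group with `U3`-coordinates over `F`, `|F| = q^2`, `q = 2^n ≥ 4`, is a Suzuki 2-group
-/

namespace Cfsg.Agent.helper17.U3

variable {F : Type*} [Field F] [Fintype F] {q : ℕ} {P : Type*} [Group P]

/-- units fixed by the Frobenius `x ↦ x^q` -/
def fixU (F : Type*) [Field F] (q : ℕ) : Subgroup Fˣ where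
  carrier := {u | (u : F) ^ q = u}
  mul_mem' := by
    intro a b ha hb
    simp only [Set.mem_setOf_eq, Units.val_mul, mul_pow] at *
    rw [ha, hb]
  one_mem' := by simp
  inv_mem' := by
    intro a ha
    simp only [Set.mem_setOf_eq, Units.val_inv_eq_inv_val, inv_pow] at *
    rw [ha]

theorem fixU_pow (u : fixU F q) : ((u : Fˣ) : F) ^ q = ((u : Fˣ) : F) := u.2

namespace Coord

theorem phi_cond (c : Coord F q P) (h : Hyp F q) (u : fixU F q) (x : P) :
    ((u : Fˣ) : F) ^ 2 * c.β x + (((u : Fˣ) : F) ^ 2 * c.β x) ^ q =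
      (((u : Fˣ) : F) * c.α x) * (((u : Fˣ) : F) * c.α x) ^ q := by
  have hu := fixU_pow u
  have := c.cond x
  rw [mul_pow, mul_pow, ← pow_mul, mul_comm 2 q, pow_mul, hu]
  linear_combination (((u : Fˣ) : F) ^ 2) * this

/-- the automorphism `(a, b) ↦ (u a, u² b)` as a function -/
noncomputable def phiFun (c : Coord F q P) (h : Hyp F q) (u : fixU F q) (x : P) : P :=
  Classical.choose (c.surj _ _ (c.phi_cond h u x))

theorem α_phi (c : Coord F q P) (h : Hyp F q) (u : fixU F q) (x : P) :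
    c.α (c.phiFun h u x) = ((u : Fˣ) : F) * c.α x :=
  (Classical.choose_spec (c.surj _ _ (c.phi_cond h u x))).1

theorem β_phi (c : Coord F q P) (h : Hyp F q) (u : fixU F q) (x : P) :
    c.β (c.phiFun h u x) = ((u : Fˣ) : F) ^ 2 * c.β x :=
  (Classical.choose_spec (c.surj _ _ (c.phi_cond h u x))).2

theorem phi_mul (c : Coord F q P) (h : Hyp F q) (u : fixU F q) (x y : P) :
    c.phiFun h u (x * y) = c.phiFun h u x * c.phiFun h u y := by
  have hu := fixU_pow u
  apply c.inj
  · rw [c.α_phi, c.α_mul, c.α_mul, c.α_phi, c.α_phi]; ring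
  · rw [c.β_phi, c.β_mul, c.β_mul, c.β_phi, c.β_phi, c.α_phi, c.α_phi, mul_pow, hu]; ring

theorem phi_one_fun (c : Coord F q P) (h : Hyp F q) (x : P) : c.phiFun h 1 x = x := by
  apply c.inj
  · rw [c.α_phi]; simp
  · rw [c.β_phi]; simp

theorem phi_comp (c : Coord F q P) (h : Hyp F q) (u v : fixU F q) (x : P) :
    c.phiFun h u (c.phiFun h v x) = c.phiFun h (u * v) x := by
  apply c.inj
  · rw [c.α_phi, c.α_phi, c.α_phi, Subgroup.coe_mul, Units.val_mul]; ring
  · rw [c.β_phi, c.β_phi, c.β_phi, Subgroup.coe_mul, Units.val_mul]; ring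

/-- the automorphism attached to `u` -/
noncomputable def phiEquiv (c : Coord F q P) (h : Hyp F q) (u : fixU F q) : P ≃* P where
  toFun := c.phiFun h u
  invFun := c.phiFun h u⁻¹
  left_inv x := by rw [c.phi_comp, inv_mul_cancel, c.phi_one_fun]
  right_inv x := by rw [c.phi_comp, mul_inv_cancel, c.phi_one_fun]
  map_mul' := c.phi_mul h u

/-- the action of the fixed units by automorphisms -/
noncomputable def phiHom (c : Coord F q P) (h : Hyp F q) : fixU F q →* MulAut P where
  toFun := c.phiEquiv h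
  map_one' := by
    ext x
    exact c.phi_one_fun h x
  map_mul' u v := by
    ext x
    exact (c.phi_comp h u v x).symm

theorem phiHom_apply (c : Coord F q P) (h : Hyp F q) (u : fixU F q) (x : P) :
    c.phiHom h u x = c.phiFun h u x := rfl

theorem exists_two_involutions (c : Coord F q P) (h : Hyp F q) (hq : 4 ≤ q) :
    ∃ x y : P, x ≠ y ∧ x ≠ 1 ∧ x * x = 1 ∧ y ≠ 1 ∧ y * y = 1 := by
  classical
  haveI := c.finite h
  haveI : Fintype (Subgroup.center P) := Fintype.ofFinite _
  have h3 : 2 < Fintype.card (Subgroup.center P) := by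
    rw [← Nat.card_eq_fintype_card, c.card_center h]; omega
  obtain ⟨a, b, d, hab, had, hbd⟩ := Fintype.two_lt_card_iff.mp h3
  have key : ∀ x y : Subgroup.center P, x ≠ y → x ≠ 1 → y ≠ 1 →
      ∃ x y : P, x ≠ y ∧ x ≠ 1 ∧ x * x = 1 ∧ y ≠ 1 ∧ y * y = 1 := by
    intro x y hxy hx hy
    refine ⟨x.1, y.1, fun e => hxy (Subtype.ext e), fun e => hx (Subtype.ext e),
      (c.mul_self_eq_one_iff_mem_center h _).mpr x.2, fun e => hy (Subtype.ext e),
      (c.mul_self_eq_one_iff_mem_center h _).mpr y.2⟩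
  by_cases ha : a = 1
  · exact key b d hbd (fun e => hab (ha.trans e.symm)) (fun e => had (ha.trans e.symm))
  · by_cases hb : b = 1
    · exact key a d had ha (fun e => hbd (hb.trans e.symm))
    · exact key a b hab ha hb

theorem regular (c : Coord F q P) (h : Hyp F q) (x y : P) (hx1 : x ≠ 1) (hx : x * x = 1)
    (hy1 : y ≠ 1) (hy : y * y = 1) :
    ∃! k : (c.phiHom h).range, (k : MulAut P) x = y := by
  have hαx := (c.mul_self_eq_one_iff h x).mp hx
  have hαy := (c.mul_self_eq_one_iff h y).mp hy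
  have hβx : c.β x ≠ 0 := fun e => hx1 ((c.eq_one_iff h x).mpr ⟨hαx, e⟩)
  have hβy : c.β y ≠ 0 := fun e => hy1 ((c.eq_one_iff h y).mpr ⟨hαy, e⟩)
  have fixx : c.β x ^ q = c.β x := by
    have h1 := c.cond x
    rw [hαx, zero_mul] at h1
    have := h.neg_eq (c.β x)
    linear_combination h1 + this
  have fixy : c.β y ^ q = c.β y := by
    have h1 := c.cond y
    rw [hαy, zero_mul] at h1
    have := h.neg_eq (c.β y)
    linear_combination h1 + this
  obtain ⟨s, hs⟩ := h.exists_sqrt (c.β y / c.β x)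
  have hs0 : s ≠ 0 := by
    rintro rfl
    rw [zero_pow (by norm_num)] at hs
    exact (div_ne_zero hβy hβx) hs.symm
  have hsq : s ^ q = s := by
    apply h.sq_inj
    rw [← pow_mul, mul_comm, pow_mul, hs, div_pow, fixx, fixy]
  let u : fixU F q := ⟨Units.mk0 s hs0, hsq⟩
  have hu : ((u : Fˣ) : F) = s := rfl
  refine ⟨⟨c.phiHom h u, u, rfl⟩, ?_, ?_⟩
  · show c.phiHom h u x = y
    rw [phiHom_apply]
    apply c.inj
    · rw [c.α_phi, hαx, hαy, mul_zero]
    · rw [c.β_phi, hu, hs, div_mul_cancel₀ _ hβx]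
  · rintro ⟨k, v, rfl⟩ hk
    have hk' : c.phiHom h v x = y := hk
    rw [phiHom_apply] at hk'
    have h1 := congrArg c.β hk'
    rw [c.β_phi] at h1
    have h2 : ((v : Fˣ) : F) ^ 2 = s ^ 2 := by
      rw [hs, eq_div_iff hβx, h1]
    have h3 : ((v : Fˣ) : F) = s := h.sq_inj _ _ h2
    have h4 : v = u := by
      apply Subtype.ext
      apply Units.ext
      rw [h3]
      rfl
    subst h4
    rfl

/-- A group with `U3`-coordinates is a Suzuki 2-group (`q ≥ 4`). -/
theorem isSuzuki (c : Coord F q P) (h : Hyp F q) {n : ℕ} (hqn : q = 2 ^ n) (hq : 4 ≤ q) :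
    Cfsg.IsSuzukiTwoGroup P := by
  refine ⟨c.finite h, ?_, c.not_comm h, c.exists_two_involutions h hq, (c.phiHom h).range, ?_, ?_⟩
  · apply IsPGroup.of_card (n := n * 3)
    rw [c.card_eq h, hqn, pow_mul]
  · haveI : IsCyclic (fixU F q) := inferInstance
    exact isCyclic_of_surjective (c.phiHom h).rangeRestrict (c.phiHom h).rangeRestrict_surjective
  · intro x y hx1 hx hy1 hy
    exact c.regular h x y hx1 hx hy1 hy

end Coord

end Cfsg.Agent.helper17.U3
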