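import Mathlib

set_option autoImplicit false

namespace Cfsg.Agent.helper17.Unip

open Matrix

variable {F : Type*} [Field F]
variable {a b : Type*} [Fintype a] [Fintype b] [DecidableEq a] [DecidableEq b]

/-- block diagonal embedding as a ring hom -/
def bd : Matrix a a F × Matrix b b F →+* Matrix (a ⊕ b) (a ⊕ b) F where
  toFun x := fromBlocks x.1 0 0 x.2
  map_one' := by simp [fromBlocks_one]
  map_mul' x y := by simp [fromBlocks_multiply]
  map_zero' := by simp [fromBlocks_zero]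
  map_add' x y := by simp [fromBlocks_add]

@[simp] lemma bd_apply (x : Matrix a a F × Matrix b b F) : bd x = fromBlocks x.1 0 0 x.2 := rfl

lemma bd_injective : Function.Injective (bd : Matrix a a F × Matrix b b F → _) := by
  intro x y h
  simp only [bd_apply, fromBlocks_inj] at h
  exact Prod.ext h.1 h.2.2.2

/-- block diagonal embedding of units -/
def bdU : GL a F × GL b F →* GL (a ⊕ b) F :=
  (Units.map (bd : Matrix a a F × Matrix b b F →+* _).toMonoidHom).comp
    (MulEquiv.prodUnits (M := Matrix a a F) (N := Matrix b b F)).symm.toMonoidHom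

lemma bdU_coe (c : GL a F × GL b F) :
    ((bdU c : GL (a ⊕ b) F) : Matrix (a ⊕ b) (a ⊕ b) F) = bd ((c.1 : Matrix a a F), (c.2 : Matrix b b F)) := by
  rfl

lemma bdU_injective : Function.Injective (bdU : GL a F × GL b F → GL (a ⊕ b) F) := by
  intro x y h
  have h1 := congrArg (fun u : GL (a ⊕ b) F => (u : Matrix (a ⊕ b) (a ⊕ b) F)) h
  simp only [bdU_coe] at h1
  have h2 := bd_injective h1
  simp only [Prod.mk.injEq] at h2
  exact Prod.ext (Units.ext h2.1) (Units.ext h2.2)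

/-- torsor lemma: intertwiner of two (nilpotent ⊕ invertible) block matrices is block diagonal -/
lemma intertwine_blocks (N₀ N : Matrix a a F) (A₀ A : Matrix b b F)
    (hN₀ : IsNilpotent N₀) (hN : IsNilpotent N) (hA₀ : IsUnit A₀.det) (hA : IsUnit A.det)
    (C : Matrix (a ⊕ b) (a ⊕ b) F) (hC : C * bd (N, A) = bd (N₀, A₀) * C) :
    C.toBlocks₁₂ = 0 ∧ C.toBlocks₂₁ = 0 := by
  obtain ⟨e₀, he₀⟩ := hN₀
  obtain ⟨e₁, he₁⟩ := hN
  set e := e₀ + e₁ with he
  have hN₀e : N₀ ^ e = 0 := pow_eq_zero_of_le (by omega) he₀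
  have hNe : N ^ e = 0 := pow_eq_zero_of_le (by omega) he₁
  have hpow : C * bd (N, A) ^ e = bd (N₀, A₀) ^ e * C := by
    have h1 : SemiconjBy C (bd (N, A)) (bd (N₀, A₀)) := hC
    exact h1.pow_right e
  rw [← map_pow, ← map_pow, Prod.pow_mk, Prod.pow_mk, hNe, hN₀e] at hpow
  have hAe : IsUnit (A ^ e).det := by rw [det_pow]; exact hA.pow e
  have hA₀e : IsUnit (A₀ ^ e).det := by rw [det_pow]; exact hA₀.pow e
  rw [← fromBlocks_toBlocks C] at hpow
  simp only [bd_apply, fromBlocks_multiply, Matrix.mul_zero, Matrix.zero_mul, add_zero, zero_add,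
    fromBlocks_inj] at hpow
  obtain ⟨-, h12, h21, -⟩ := hpow
  constructor
  · have := congrArg (fun X => X * (A ^ e)⁻¹) h12
    simpa [Matrix.mul_assoc, Matrix.mul_nonsing_inv _ hAe] using this
  · have := congrArg (fun X => (A₀ ^ e)⁻¹ * X) h21
    simpa [← Matrix.mul_assoc, Matrix.nonsing_inv_mul _ hA₀e] using this.symm


section rho
variable {ι : Type*} [Fintype ι] [DecidableEq ι]

/-- the eventual rank of the powers of `T` -/
noncomputable def rho (T : Matrix ι ι F) : ℕ := sInf (Set.range fun e : ℕ => (T ^ e).rank)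

lemma rank_pow_antitone (T : Matrix ι ι F) : Antitone fun e : ℕ => (T ^ e).rank := by
  apply antitone_nat_of_succ_le
  intro e
  show (T ^ (e + 1)).rank ≤ (T ^ e).rank
  rw [pow_succ]
  exact rank_mul_le_left _ _

lemma rho_spec (T : Matrix ι ι F) : ∃ e₁ : ℕ, ∀ e, e₁ ≤ e → (T ^ e).rank = rho T := by
  have hne : (Set.range fun e : ℕ => (T ^ e).rank).Nonempty := Set.range_nonempty _
  obtain ⟨e₁, he₁⟩ := Nat.sInf_mem hne
  refine ⟨e₁, fun e he => le_antisymm ?_ (Nat.sInf_le ⟨e, rfl⟩)⟩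
  have := rank_pow_antitone T he
  simp only at this he₁
  unfold rho
  omega

lemma rho_le_card (T : Matrix ι ι F) : rho T ≤ Fintype.card ι := by
  have : rho T ≤ (T ^ 0).rank := Nat.sInf_le ⟨0, rfl⟩
  exact this.trans (rank_le_card_width _)

lemma rho_reindex {κ : Type*} [Fintype κ] [DecidableEq κ] (ε : ι ≃ κ) (T : Matrix ι ι F) :
    rho (reindexAlgEquiv F F ε T) = rho T := by
  unfold rho
  congr 1
  ext r
  simp only [Set.mem_range]
  constructor
  · rintro ⟨e, rfl⟩
    refine ⟨e, ?_⟩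
    rw [← map_pow, reindexAlgEquiv_apply, rank_reindex]
  · rintro ⟨e, rfl⟩
    refine ⟨e, ?_⟩
    rw [← map_pow, reindexAlgEquiv_apply, rank_reindex]

end rho

lemma rank_bd_zero (A' : Matrix b b F) (hA' : IsUnit A'.det) :
    (bd ((0 : Matrix a a F), A')).rank = Fintype.card b := by
  set M := bd ((0 : Matrix a a F), A') with hM
  let P : Matrix (a ⊕ b) b F := Matrix.of fun i j => Sum.elim (fun _ => 0) (fun i' => A' i' j) i
  let Q : Matrix b (a ⊕ b) F := Matrix.of fun j l => Sum.elim (fun _ => 0) (fun l' => if j = l' then 1 else 0) l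
  let P' : Matrix (a ⊕ b) b F := Matrix.of fun i j => Sum.elim (fun _ => 0) (fun i' => if i' = j then 1 else 0) i
  have h1 : M = P * Q := by
    ext i j
    rcases i with i | i <;> rcases j with j | j <;> simp [M, P, Q, Matrix.mul_apply]
  have h2 : A' = Q * M * P' := by
    ext i j
    simp [M, P', Q, Matrix.mul_apply, Fintype.sum_sum_type, fromBlocks]
  apply le_antisymm
  · rw [h1]
    exact (rank_mul_le_left _ _).trans (rank_le_card_width _)
  · have h3 : A'.rank = Fintype.card b := rank_of_isUnit _ ((Matrix.isUnit_iff_isUnit_det _).mpr hA')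
    rw [← h3]
    conv_lhs => rw [h2]
    exact (rank_mul_le_left _ _).trans (rank_mul_le_right _ _)

/-- (a): eventual rank of a conjugate of `bd (N, A)` -/
lemma rho_conj_bd (B : GL (a ⊕ b) F) (N : Matrix a a F) (A : Matrix b b F) (hN : IsNilpotent N)
    (hA : IsUnit A.det) :
    rho ((B : Matrix (a ⊕ b) (a ⊕ b) F) * bd (N, A) * ((B⁻¹ : GL (a ⊕ b) F) : Matrix (a ⊕ b) (a ⊕ b) F))
      = Fintype.card b := by
  set T := (B : Matrix (a ⊕ b) (a ⊕ b) F) * bd (N, A) * ((B⁻¹ : GL (a ⊕ b) F) : Matrix (a ⊕ b) (a ⊕ b) F)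
  obtain ⟨e₁, he₁⟩ := rho_spec T
  obtain ⟨e₀, he₀⟩ := hN
  set e := e₀ + e₁ with he
  rw [← he₁ e (by omega)]
  have hNe : N ^ e = 0 := pow_eq_zero_of_le (by omega) he₀
  have hpow : T ^ e = (B : Matrix (a ⊕ b) (a ⊕ b) F) * bd (N, A) ^ e * ((B⁻¹ : GL (a ⊕ b) F) : Matrix (a ⊕ b) (a ⊕ b) F) := by
    have := Units.conj_pow B (bd (N, A)) e
    simpa [T] using this
  rw [hpow, ← map_pow, Prod.pow_mk, hNe]
  have hAe : IsUnit (A ^ e).det := by rw [det_pow]; exact hA.pow e
  have hB : IsUnit (B : Matrix (a ⊕ b) (a ⊕ b) F).det := (Matrix.isUnit_iff_isUnit_det _).mp B.isUnit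
  have hB' : IsUnit ((B⁻¹ : GL (a ⊕ b) F) : Matrix (a ⊕ b) (a ⊕ b) F).det :=
    (Matrix.isUnit_iff_isUnit_det _).mp (B⁻¹).isUnit
  rw [rank_mul_eq_left_of_isUnit_det _ _ hB', rank_mul_eq_right_of_isUnit_det _ _ hB]
  exact rank_bd_zero _ hAe

end Cfsg.Agent.helper17.Unip
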