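import Mathlib
import Cfsg.Agent.Lib_helper17_Unip1

set_option autoImplicit false

namespace Cfsg.Agent.helper17.Unip

open Matrix

variable {F : Type*} [Field F]

lemma rank_bd_zero_le {a b : Type*} [Fintype a] [Fintype b] [DecidableEq a] [DecidableEq b]
    (X : Matrix b b F) : (bd ((0 : Matrix a a F), X)).rank ≤ X.rank := by
  let P' : Matrix (a ⊕ b) b F := Matrix.of fun i j => Sum.elim (fun _ => 0) (fun i' => if i' = j then 1 else 0) i
  let Q : Matrix b (a ⊕ b) F := Matrix.of fun j l => Sum.elim (fun _ => 0) (fun l' => if j = l' then 1 else 0) l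
  have h1 : bd ((0 : Matrix a a F), X) = P' * X * Q := by
    ext i j
    rcases i with i | i <;> rcases j with j | j <;> simp [P', Q, Matrix.mul_apply]
  rw [h1]
  exact (rank_mul_le_left _ _).trans (rank_mul_le_right _ _)

lemma isUnit_det_of_rank_eq {b : Type*} [Fintype b] [DecidableEq b] (X : Matrix b b F)
    (h : X.rank = Fintype.card b) : IsUnit X.det := by
  rw [← Matrix.isUnit_iff_isUnit_det, ← Matrix.mulVec_surjective_iff_isUnit]
  have h1 : LinearMap.range X.mulVecLin = ⊤ := by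
    apply Submodule.eq_top_of_finrank_eq
    rw [Module.finrank_fintype_fun_eq_card]
    exact h
  intro v
  have : v ∈ LinearMap.range X.mulVecLin := by rw [h1]; trivial
  obtain ⟨w, hw⟩ := this
  exact ⟨w, hw⟩

/-- Fitting decomposition in matrix form. -/
lemma exists_conj_bd {k m : ℕ} (T : Matrix (Fin k ⊕ Fin m) (Fin k ⊕ Fin m) F) (hT : rho T = m) :
    ∃ (B : GL (Fin k ⊕ Fin m) F) (N : Matrix (Fin k) (Fin k) F) (A : Matrix (Fin m) (Fin m) F),
      IsNilpotent N ∧ IsUnit A.det ∧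
      T = (B : Matrix (Fin k ⊕ Fin m) (Fin k ⊕ Fin m) F) * bd (N, A) *
        ((B⁻¹ : GL (Fin k ⊕ Fin m) F) : Matrix (Fin k ⊕ Fin m) (Fin k ⊕ Fin m) F) := by
  classical
  let f : ((Fin k ⊕ Fin m) → F) →ₗ[F] ((Fin k ⊕ Fin m) → F) := Matrix.toLin' T
  obtain ⟨e₁, he₁⟩ := rho_spec T
  obtain ⟨e₀, he₀⟩ := Filter.eventually_atTop.mp f.eventually_isCompl_ker_pow_range_pow
  set e := e₀ + e₁ + 1 with he
  have hcompl : IsCompl (LinearMap.ker (f ^ e)) (LinearMap.range (f ^ e)) := he₀ e (by omega)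
  have hfe : f ^ e = Matrix.toLin' (T ^ e) := (Matrix.toLin'_pow T e).symm
  have hrk : (T ^ e).rank = m := by rw [he₁ e (by omega), hT]
  have hW : Module.finrank F (LinearMap.range (f ^ e)) = m := by
    have h0 : Module.finrank F (LinearMap.range (f ^ e)) = (T ^ e).rank := by
      rw [hfe]
      rfl
    exact h0.trans hrk
  have hU : Module.finrank F (LinearMap.ker (f ^ e)) = k := by
    have := Submodule.finrank_add_eq_of_isCompl hcompl
    rw [hW, Module.finrank_fintype_fun_eq_card, Fintype.card_sum, Fintype.card_fin, Fintype.card_fin] at this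
    omega
  have hfU : ∀ u ∈ LinearMap.ker (f ^ e), f u ∈ LinearMap.ker (f ^ e) := by
    intro u hu
    rw [LinearMap.mem_ker] at hu ⊢
    have : (f ^ e) (f u) = f ((f ^ e) u) := by
      rw [← Module.End.mul_apply, ← Module.End.mul_apply, ← pow_succ, ← pow_succ']
    rw [this, hu, map_zero]
  have hfW : ∀ w ∈ LinearMap.range (f ^ e), f w ∈ LinearMap.range (f ^ e) := by
    rintro w ⟨x, rfl⟩
    refine ⟨f x, ?_⟩
    rw [← Module.End.mul_apply, ← Module.End.mul_apply, ← pow_succ, ← pow_succ']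
  let bU : Module.Basis (Fin k) F (LinearMap.ker (f ^ e)) := Module.finBasisOfFinrankEq F _ hU
  let bW : Module.Basis (Fin m) F (LinearMap.range (f ^ e)) := Module.finBasisOfFinrankEq F _ hW
  let E := Submodule.prodEquivOfIsCompl _ _ hcompl
  let bb : Module.Basis (Fin k ⊕ Fin m) F ((Fin k ⊕ Fin m) → F) := (bU.prod bW).map E
  have hbb_inl : ∀ j, bb (Sum.inl j) = (bU j : (Fin k ⊕ Fin m) → F) := by
    intro j
    simp [bb, E, Module.Basis.prod_apply]
  have hbb_inr : ∀ j, bb (Sum.inr j) = (bW j : (Fin k ⊕ Fin m) → F) := by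
    intro j
    simp [bb, E, Module.Basis.prod_apply]
  have hrepr_U : ∀ v ∈ LinearMap.ker (f ^ e), ∀ i, bb.repr v (Sum.inr i) = 0 := by
    intro v hv i
    have : E.symm v = (⟨v, hv⟩, 0) := Submodule.prodEquivOfIsCompl_symm_apply_left _ _ hcompl ⟨v, hv⟩
    simp [bb, Module.Basis.map_repr, this]
  have hrepr_W : ∀ v ∈ LinearMap.range (f ^ e), ∀ i, bb.repr v (Sum.inl i) = 0 := by
    intro v hv i
    have : E.symm v = (0, ⟨v, hv⟩) := Submodule.prodEquivOfIsCompl_symm_apply_right _ _ hcompl ⟨v, hv⟩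
    simp [bb, Module.Basis.map_repr, this]
  set M := LinearMap.toMatrix bb bb f with hM
  have hM21 : M.toBlocks₂₁ = 0 := by
    ext i j
    simp only [toBlocks₂₁, Matrix.of_apply, Matrix.zero_apply, hM, LinearMap.toMatrix_apply, hbb_inl]
    exact hrepr_U _ (hfU _ (bU j).2) i
  have hM12 : M.toBlocks₁₂ = 0 := by
    ext i j
    simp only [toBlocks₁₂, Matrix.of_apply, Matrix.zero_apply, hM, LinearMap.toMatrix_apply, hbb_inr]
    exact hrepr_W _ (hfW _ (bW j).2) i
  have hMbd : M = bd (M.toBlocks₁₁, M.toBlocks₂₂) := by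
    conv_lhs => rw [← fromBlocks_toBlocks M, hM12, hM21]
    rfl
  have hMe : M ^ e = bd (M.toBlocks₁₁ ^ e, M.toBlocks₂₂ ^ e) := by
    conv_lhs => rw [hMbd]
    rw [← map_pow, Prod.pow_mk]
  have hMe' : M ^ e = LinearMap.toMatrix bb bb (f ^ e) := (LinearMap.toMatrix_pow bb f e)
  have hN : M.toBlocks₁₁ ^ e = 0 := by
    have h1 : (M ^ e).toBlocks₁₁ = M.toBlocks₁₁ ^ e := by
      rw [hMe]; exact toBlocks_fromBlocks₁₁ _ _ _ _
    rw [← h1, hMe']
    ext i j
    simp only [toBlocks₁₁, Matrix.of_apply, Matrix.zero_apply, LinearMap.toMatrix_apply, hbb_inl]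
    have : (f ^ e) (bU j : (Fin k ⊕ Fin m) → F) = 0 := (bU j).2
    rw [this]; simp
  -- the conjugating matrix
  set P := (Pi.basisFun F (Fin k ⊕ Fin m)).toMatrix bb with hP
  set P' := bb.toMatrix (Pi.basisFun F (Fin k ⊕ Fin m)) with hP'
  have hPP' : P * P' = 1 := Module.Basis.toMatrix_mul_toMatrix_flip _ _
  have hP'P : P' * P = 1 := Module.Basis.toMatrix_mul_toMatrix_flip _ _
  have hTM : T = P * M * P' := by
    have := basis_toMatrix_mul_linearMap_toMatrix_mul_basis_toMatrix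
      (Pi.basisFun F (Fin k ⊕ Fin m)) bb (Pi.basisFun F (Fin k ⊕ Fin m)) bb f
    rw [LinearMap.toMatrix_eq_toMatrix', LinearMap.toMatrix'_toLin'] at this
    exact this.symm
  let B : GL (Fin k ⊕ Fin m) F := ⟨P, P', hPP', hP'P⟩
  have hBdet : IsUnit P.det := (Matrix.isUnit_iff_isUnit_det _).mp B.isUnit
  have hB'det : IsUnit P'.det := (Matrix.isUnit_iff_isUnit_det _).mp (B⁻¹).isUnit
  -- invertibility of the lower block via ranks
  have hA : IsUnit M.toBlocks₂₂.det := by
    have h1 : T ^ e = P * M ^ e * P' := by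
      have := Units.conj_pow B M e
      rw [hTM]
      exact this
    have h2 : (M ^ e).rank = m := by
      have h0 : (M ^ e).rank = (T ^ e).rank := by
        rw [h1, rank_mul_eq_left_of_isUnit_det _ _ hB'det, rank_mul_eq_right_of_isUnit_det _ _ hBdet]
      exact h0.trans hrk
    rw [hMe, hN] at h2
    have h3 := rank_bd_zero_le (a := Fin k) (M.toBlocks₂₂ ^ e)
    have h4 : (M.toBlocks₂₂ ^ e).rank ≤ Fintype.card (Fin m) := rank_le_card_width _
    have h5 : IsUnit (M.toBlocks₂₂ ^ e).det := isUnit_det_of_rank_eq _ (by rw [Fintype.card_fin] at h4 ⊢; omega)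
    rw [det_pow] at h5
    exact (isUnit_pow_iff (by omega)).mp h5
  exact ⟨B, M.toBlocks₁₁, M.toBlocks₂₂, ⟨e, hN⟩, hA, by rw [← hMbd]; exact hTM⟩

end Cfsg.Agent.helper17.Unip
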