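import Mathlib
import Cfsg.Agent.Lib_helper17_Unip2

set_option autoImplicit false

namespace Cfsg.Agent.helper17.Unip

open Matrix

variable {F : Type*} [Field F] {k m : ℕ}

abbrev NilMat (F : Type*) [Field F] (k : ℕ) := {N : Matrix (Fin k) (Fin k) F // IsNilpotent N}

abbrev SS (F : Type*) [Field F] (k m : ℕ) := GL (Fin k ⊕ Fin m) F × NilMat F k × GL (Fin m) F

noncomputable def psi (s : SS F k m) : Matrix (Fin k ⊕ Fin m) (Fin k ⊕ Fin m) F :=
  (s.1 : Matrix (Fin k ⊕ Fin m) (Fin k ⊕ Fin m) F) *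
    bd ((s.2.1 : Matrix (Fin k) (Fin k) F), (s.2.2 : Matrix (Fin m) (Fin m) F)) *
    ((s.1⁻¹ : GL (Fin k ⊕ Fin m) F) : Matrix (Fin k ⊕ Fin m) (Fin k ⊕ Fin m) F)

lemma rho_psi (s : SS F k m) : rho (psi s) = m := by
  have := rho_conj_bd s.1 s.2.1.1 (s.2.2 : Matrix (Fin m) (Fin m) F) s.2.1.2
    ((Matrix.isUnit_iff_isUnit_det _).mp s.2.2.isUnit)
  simpa [psi] using this

lemma nilp_conj (u : GL (Fin k) F) (N : Matrix (Fin k) (Fin k) F) (hN : IsNilpotent N) :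
    IsNilpotent (((u⁻¹ : GL (Fin k) F) : Matrix (Fin k) (Fin k) F) * N * (u : Matrix (Fin k) (Fin k) F)) := by
  obtain ⟨e, he⟩ := hN
  refine ⟨e, ?_⟩
  rw [Units.conj_pow', he]
  simp

noncomputable def theta (s₀ : SS F k m) (c : GL (Fin k) F × GL (Fin m) F) : SS F k m :=
  (s₀.1 * bdU c, ⟨((c.1⁻¹ : GL (Fin k) F) : Matrix (Fin k) (Fin k) F) * s₀.2.1.1 * (c.1 : Matrix (Fin k) (Fin k) F),
    nilp_conj c.1 _ s₀.2.1.2⟩, c.2⁻¹ * s₀.2.2 * c.2)

lemma bd_conj (c : GL (Fin k) F × GL (Fin m) F) (N₀ : Matrix (Fin k) (Fin k) F) (A₀ : Matrix (Fin m) (Fin m) F) :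
    bd (((c.1⁻¹ : GL (Fin k) F) : Matrix (Fin k) (Fin k) F) * N₀ * (c.1 : Matrix (Fin k) (Fin k) F),
        ((c.2⁻¹ : GL (Fin m) F) : Matrix (Fin m) (Fin m) F) * A₀ * (c.2 : Matrix (Fin m) (Fin m) F)) =
      (((bdU c)⁻¹ : GL (Fin k ⊕ Fin m) F) : Matrix (Fin k ⊕ Fin m) (Fin k ⊕ Fin m) F) * bd (N₀, A₀) *
        ((bdU c : GL (Fin k ⊕ Fin m) F) : Matrix (Fin k ⊕ Fin m) (Fin k ⊕ Fin m) F) := by
  rw [← map_inv, bdU_coe, bdU_coe, ← map_mul, ← map_mul]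
  rfl

lemma psi_theta (s₀ : SS F k m) (c : GL (Fin k) F × GL (Fin m) F) : psi (theta s₀ c) = psi s₀ := by
  unfold psi theta
  simp only [Units.val_mul, _root_.mul_inv_rev]
  rw [bd_conj]
  simp only [Matrix.mul_assoc, Units.mul_inv_cancel_left]

lemma theta_injective (s₀ : SS F k m) : Function.Injective (theta s₀) := by
  intro c c' h
  have h1 := congrArg Prod.fst h
  simp only [theta] at h1
  exact bdU_injective (mul_left_cancel h1)

lemma theta_surjective (s₀ s : SS F k m) (h : psi s = psi s₀) : ∃ c, theta s₀ c = s := by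
  obtain ⟨B₀, ⟨N₀, hN₀⟩, A₀⟩ := s₀
  obtain ⟨B, ⟨N, hN⟩, A⟩ := s
  simp only [psi] at h
  set hh : GL (Fin k ⊕ Fin m) F := B₀⁻¹ * B with hhdef
  have hA : IsUnit (A : Matrix (Fin m) (Fin m) F).det := (Matrix.isUnit_iff_isUnit_det _).mp A.isUnit
  have hA₀ : IsUnit (A₀ : Matrix (Fin m) (Fin m) F).det := (Matrix.isUnit_iff_isUnit_det _).mp A₀.isUnit
  have hint : (hh : Matrix (Fin k ⊕ Fin m) (Fin k ⊕ Fin m) F) * bd (N, (A : Matrix (Fin m) (Fin m) F)) =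
      bd (N₀, (A₀ : Matrix (Fin m) (Fin m) F)) * (hh : Matrix (Fin k ⊕ Fin m) (Fin k ⊕ Fin m) F) := by
    have h1 := congrArg (fun X => ((B₀⁻¹ : GL (Fin k ⊕ Fin m) F) : Matrix (Fin k ⊕ Fin m) (Fin k ⊕ Fin m) F) * X *
      (B : Matrix (Fin k ⊕ Fin m) (Fin k ⊕ Fin m) F)) h
    simp only [Matrix.mul_assoc, Units.inv_mul, Matrix.mul_one, Units.inv_mul_cancel_left] at h1
    rw [hhdef, Units.val_mul, Matrix.mul_assoc]
    exact h1
  obtain ⟨h12, h21⟩ := intertwine_blocks N₀ N _ _ hN₀ hN hA₀ hA _ hint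
  have hbd : (hh : Matrix (Fin k ⊕ Fin m) (Fin k ⊕ Fin m) F) =
      bd ((hh : Matrix (Fin k ⊕ Fin m) (Fin k ⊕ Fin m) F).toBlocks₁₁, (hh : Matrix (Fin k ⊕ Fin m) (Fin k ⊕ Fin m) F).toBlocks₂₂) := by
    conv_lhs => rw [← fromBlocks_toBlocks (hh : Matrix (Fin k ⊕ Fin m) (Fin k ⊕ Fin m) F), h12, h21]
    rfl
  have hdet : IsUnit ((hh : Matrix (Fin k ⊕ Fin m) (Fin k ⊕ Fin m) F).toBlocks₁₁.det *
      (hh : Matrix (Fin k ⊕ Fin m) (Fin k ⊕ Fin m) F).toBlocks₂₂.det) := by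
    have h0 : IsUnit (hh : Matrix (Fin k ⊕ Fin m) (Fin k ⊕ Fin m) F).det :=
      (Matrix.isUnit_iff_isUnit_det _).mp hh.isUnit
    rw [hbd, bd_apply, det_fromBlocks_zero₂₁] at h0
    exact h0
  have hd1 : IsUnit (hh : Matrix (Fin k ⊕ Fin m) (Fin k ⊕ Fin m) F).toBlocks₁₁ :=
    (Matrix.isUnit_iff_isUnit_det _).mpr (isUnit_of_mul_isUnit_left hdet)
  have hd2 : IsUnit (hh : Matrix (Fin k ⊕ Fin m) (Fin k ⊕ Fin m) F).toBlocks₂₂ :=
    (Matrix.isUnit_iff_isUnit_det _).mpr (isUnit_of_mul_isUnit_right hdet)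
  set c : GL (Fin k) F × GL (Fin m) F := (hd1.unit, hd2.unit) with hc
  have hcu : bdU c = hh := by
    apply Units.ext
    rw [bdU_coe, hbd]
    rfl
  refine ⟨c, ?_⟩
  have hbdeq : bd (N, (A : Matrix (Fin m) (Fin m) F)) =
      bd (((c.1⁻¹ : GL (Fin k) F) : Matrix (Fin k) (Fin k) F) * N₀ * (c.1 : Matrix (Fin k) (Fin k) F),
        ((c.2⁻¹ : GL (Fin m) F) : Matrix (Fin m) (Fin m) F) * (A₀ : Matrix (Fin m) (Fin m) F) * (c.2 : Matrix (Fin m) (Fin m) F)) := by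
    rw [bd_conj, hcu, Matrix.mul_assoc, ← hint, ← Matrix.mul_assoc, Units.inv_mul, Matrix.one_mul]
  have hinj := bd_injective hbdeq
  simp only [Prod.mk.injEq] at hinj
  simp only [theta]
  refine Prod.ext ?_ (Prod.ext ?_ ?_)
  · simp only [hcu, hhdef]
    group
  · exact Subtype.ext hinj.1.symm
  · apply Units.ext
    simp only [Units.val_mul]
    exact hinj.2.symm

lemma card_fiber (s₀ : SS F k m) :
    Nat.card {s : SS F k m // psi s = psi s₀} = Nat.card (GL (Fin k) F) * Nat.card (GL (Fin m) F) := by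
  rw [← Nat.card_prod]
  symm
  refine Nat.card_eq_of_bijective (fun c => ⟨theta s₀ c, psi_theta s₀ c⟩) ⟨?_, ?_⟩
  · intro c c' h
    exact theta_injective s₀ (congrArg Subtype.val h)
  · rintro ⟨s, hs⟩
    obtain ⟨c, hc⟩ := theta_surjective s₀ s hs
    exact ⟨c, Subtype.ext hc⟩

lemma card_SS [Fintype F] : Nat.card (SS F k m) =
    Nat.card {T : Matrix (Fin k ⊕ Fin m) (Fin k ⊕ Fin m) F // rho T = m} *
      (Nat.card (GL (Fin k) F) * Nat.card (GL (Fin m) F)) := by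
  classical
  rw [← Nat.card_congr (Equiv.sigmaFiberEquiv (psi : SS F k m → _)), Nat.card_sigma]
  have hterm : ∀ T : Matrix (Fin k ⊕ Fin m) (Fin k ⊕ Fin m) F,
      Nat.card {s : SS F k m // psi s = T} =
        if rho T = m then Nat.card (GL (Fin k) F) * Nat.card (GL (Fin m) F) else 0 := by
    intro T
    split_ifs with hT
    · obtain ⟨B, N, A, hN, hA, hTeq⟩ := exists_conj_bd T hT
      let s₀ : SS F k m := (B, ⟨N, hN⟩, ((Matrix.isUnit_iff_isUnit_det _).mpr hA).unit)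
      have hs₀ : psi s₀ = T := by
        simp only [psi, s₀]
        exact hTeq.symm
      rw [← hs₀]
      exact card_fiber s₀
    · have : IsEmpty {s : SS F k m // psi s = T} := by
        constructor
        rintro ⟨s, hs⟩
        exact hT (hs ▸ rho_psi s)
      exact Nat.card_of_isEmpty
  have hcard : Nat.card {T : Matrix (Fin k ⊕ Fin m) (Fin k ⊕ Fin m) F // rho T = m} =
      (Finset.univ.filter (fun T : Matrix (Fin k ⊕ Fin m) (Fin k ⊕ Fin m) F => rho T = m)).card := by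
    rw [Nat.card_eq_fintype_card, Fintype.card_subtype]
  rw [hcard]
  simp_rw [hterm]
  rw [Finset.sum_ite, Finset.sum_const_zero, add_zero, Finset.sum_const, smul_eq_mul]

end Cfsg.Agent.helper17.Unip
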