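import Mathlib
import Cfsg.Agent.Lib_helper17_Unip3

set_option autoImplicit false

namespace Cfsg.Agent.helper17.Unip

open Matrix

variable (F : Type*) [Field F] [Fintype F]

noncomputable def cN (k : ℕ) : ℕ := Nat.card (NilMat F k)
noncomputable def gN (k : ℕ) : ℕ := Nat.card (GL (Fin k) F)
noncomputable def tN (n m : ℕ) : ℕ := Nat.card {T : Matrix (Fin n) (Fin n) F // rho T = m}

lemma gN_pos (k : ℕ) : 0 < gN F k := Nat.card_pos

lemma card_GL_sum (k m : ℕ) : Nat.card (GL (Fin k ⊕ Fin m) F) = gN F (k + m) := by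
  classical
  exact Nat.card_congr (Units.mapEquiv (Matrix.reindexAlgEquiv F F finSumFinEquiv).toMulEquiv).toEquiv

lemma card_rho_sum (k m : ℕ) :
    Nat.card {T : Matrix (Fin k ⊕ Fin m) (Fin k ⊕ Fin m) F // rho T = m} = tN F (k + m) m := by
  classical
  refine Nat.card_congr ((Matrix.reindexAlgEquiv F F finSumFinEquiv).toEquiv.subtypeEquiv ?_)
  intro T
  simp only [AlgEquiv.toEquiv_eq_coe, EquivLike.coe_coe]
  rw [rho_reindex]

/-- (E1) -/
lemma key_eq (k m : ℕ) : gN F (k + m) * cN F k = tN F (k + m) m * gN F k := by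
  have h := card_SS (F := F) (k := k) (m := m)
  rw [Nat.card_prod, Nat.card_prod, card_GL_sum, card_rho_sum] at h
  have hpos := gN_pos F m
  change gN F (k + m) * (cN F k * gN F m) = tN F (k + m) m * (gN F k * gN F m) at h
  have h2 : (gN F (k + m) * cN F k) * gN F m = (tN F (k + m) m * gN F k) * gN F m := by
    rw [mul_assoc, h, mul_assoc]
  exact Nat.eq_of_mul_eq_mul_right hpos h2

lemma sum_tN (n : ℕ) : ∑ m ∈ Finset.range (n + 1), tN F n m = Fintype.card F ^ (n * n) := by
  classical
  have h1 : ∀ m, tN F n m = (Finset.univ.filter (fun T : Matrix (Fin n) (Fin n) F => rho T = m)).card := by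
    intro m
    unfold tN
    rw [Nat.card_eq_fintype_card, Fintype.card_subtype]
  simp_rw [h1]
  rw [← Finset.card_eq_sum_card_fiberwise (f := fun T : Matrix (Fin n) (Fin n) F => rho T)
    (s := Finset.univ) (t := Finset.range (n + 1))]
  · rw [Finset.card_univ]
    show Fintype.card (Fin n → Fin n → F) = _
    rw [Fintype.card_fun, Fintype.card_fun, Fintype.card_fin, ← pow_mul]
  · intro T _
    have := rho_le_card T
    simp only [Fintype.card_fin] at this
    simp only [Finset.coe_range, Set.mem_Iio]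
    omega

lemma gN_succ (k : ℕ) :
    (gN F (k + 1) : ℚ) = ((Fintype.card F : ℚ) ^ (k + 1) - 1) * (Fintype.card F : ℚ) ^ k * (gN F k : ℚ) := by
  have hq : 1 ≤ Fintype.card F := Fintype.card_pos
  unfold gN
  rw [Matrix.card_GL_field, Matrix.card_GL_field, Fin.prod_univ_succ]
  have h1 : ∀ i : Fin k, Fintype.card F ^ (k + 1) - Fintype.card F ^ ((i.succ : Fin (k + 1)) : ℕ) =
      Fintype.card F * (Fintype.card F ^ k - Fintype.card F ^ (i : ℕ)) := by
    intro i
    rw [Nat.mul_sub, Fin.val_succ, pow_succ', pow_succ']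
  simp_rw [h1]
  rw [Finset.prod_mul_distrib, Finset.prod_const, Finset.card_univ, Fintype.card_fin]
  simp only [Fin.val_zero, pow_zero]
  rw [Nat.cast_mul, Nat.cast_mul, Nat.cast_sub (Nat.one_le_pow _ _ hq)]
  push_cast
  ring

lemma gN_ne_zero (k : ℕ) : (gN F k : ℚ) ≠ 0 := by
  have := gN_pos F k
  positivity

/-- (★★) -/
lemma q_identity (n : ℕ) :
    (gN F n : ℚ) * ∑ k ∈ Finset.range (n + 1), (Fintype.card F : ℚ) ^ (k * (k - 1)) / (gN F k : ℚ) =
      (Fintype.card F : ℚ) ^ (n * n) := by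
  induction n with
  | zero =>
    simp
    exact mul_inv_cancel₀ (gN_ne_zero F 0)
  | succ n ih =>
    rw [Finset.sum_range_succ, mul_add, mul_div_cancel₀ _ (gN_ne_zero F (n + 1))]
    rw [gN_succ, mul_assoc, ih]
    have : (n + 1) * (n + 1 - 1) = n * n + n := by
      simp only [Nat.add_sub_cancel]; ring
    rw [this]
    have h2 : (n + 1) * (n + 1) = n * n + n + (n + 1) := by ring
    rw [h2, pow_add, pow_add, pow_add]
    ring

/-- (★) -/
lemma sum_cN (n : ℕ) :
    ∑ k ∈ Finset.range (n + 1), (gN F n : ℚ) * (cN F k : ℚ) / (gN F k : ℚ) = (Fintype.card F : ℚ) ^ (n * n) := by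
  have h1 : ∀ k ∈ Finset.range (n + 1), (gN F n : ℚ) * (cN F k : ℚ) / (gN F k : ℚ) = (tN F n (n - k) : ℚ) := by
    intro k hk
    have hk' : k ≤ n := by
      have := Finset.mem_range.mp hk
      omega
    have h := key_eq F k (n - k)
    rw [show k + (n - k) = n by omega] at h
    rw [div_eq_iff (gN_ne_zero F k)]
    exact_mod_cast h
  rw [Finset.sum_congr rfl h1]
  have h2 := sum_tN F n
  have h3 : ∑ k ∈ Finset.range (n + 1), (tN F n (n - k) : ℚ) = ∑ m ∈ Finset.range (n + 1), (tN F n m : ℚ) := by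
    have := Finset.sum_range_reflect (fun m => (tN F n m : ℚ)) (n + 1)
    simp only [Nat.add_sub_cancel] at this
    rw [← this]
  rw [h3]
  exact_mod_cast h2

theorem card_nilMat (n : ℕ) : cN F n = Fintype.card F ^ (n * (n - 1)) := by
  induction n using Nat.strong_induction_on with
  | _ n ih =>
    have h1 := sum_cN F n
    have h2 := q_identity F n
    rw [Finset.mul_sum] at h2
    rw [Finset.sum_range_succ] at h1 h2
    have h3 : ∑ k ∈ Finset.range n, (gN F n : ℚ) * (cN F k : ℚ) / (gN F k : ℚ) =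
        ∑ k ∈ Finset.range n, (gN F n : ℚ) * ((Fintype.card F : ℚ) ^ (k * (k - 1)) / (gN F k : ℚ)) := by
      apply Finset.sum_congr rfl
      intro k hk
      rw [ih k (Finset.mem_range.mp hk)]
      push_cast
      ring
    rw [h3] at h1
    have h4 : (gN F n : ℚ) * (cN F n : ℚ) / (gN F n : ℚ) =
        (gN F n : ℚ) * ((Fintype.card F : ℚ) ^ (n * (n - 1)) / (gN F n : ℚ)) := by
      linarith
    rw [mul_div_assoc] at h4
    have h5 := mul_left_cancel₀ (gN_ne_zero F n) h4
    rw [div_left_inj' (gN_ne_zero F n)] at h5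
    exact_mod_cast h5

end Cfsg.Agent.helper17.Unip
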