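import Mathlib
import Cfsg.Prelude.Def_Solvable
import Cfsg.Agent.Lib_helper1_FrobThm
import Cfsg.Agent.Lib_helper21_FrobCount

set_option autoImplicit false

/-!
Elementary theory of normal subgroups of Zassenhaus groups (helper17).
Everything is phrased inside the ambient group `G` acting on `Ω`:
* `h2` : `G` is 2-transitive;
* `h3` : only the identity fixes three points.
-/

namespace Cfsg.Agent.helper17.Zass

open MulAction

variable {G Ω : Type*} [Group G] [MulAction G Ω]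

theorem finite_of_faithful [Finite Ω] [FaithfulSMul G Ω] : Finite G :=
  Finite.of_injective (MulAction.toPermHom G Ω) MulAction.toPerm_injective

theorem exists_moved [hfaith : FaithfulSMul G Ω] (t : G) (ht : t ≠ 1) : ∃ c : Ω, t • c ≠ c := by
  by_contra hcon
  push Not at hcon
  exact ht (hfaith.eq_of_smul_eq_smul (fun c => by rw [hcon c, one_smul]))

/-- a nontrivial normal subgroup of a faithful 2-transitive group is transitive -/
theorem normal_trans [FaithfulSMul G Ω]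
    (h2 : ∀ {a b c d : Ω}, a ≠ b → c ≠ d → ∃ g : G, g • a = c ∧ g • b = d)
    (N : Subgroup G) [hNn : N.Normal] (hN : N ≠ ⊥) : ∀ x y : Ω, ∃ n ∈ N, n • x = y := by
  obtain ⟨⟨n, hn⟩, hn1⟩ := (Subgroup.ne_bot_iff_exists_ne_one).mp hN
  have hn1' : n ≠ 1 := fun h => hn1 (Subtype.ext h)
  obtain ⟨c, hc⟩ := exists_moved (Ω := Ω) n hn1'
  intro x y
  by_cases hxy : x = y
  · exact ⟨1, N.one_mem, by rw [one_smul, hxy]⟩
  · obtain ⟨g, hg1, hg2⟩ := h2 (Ne.symm hc) hxy
    refine ⟨g * n * g⁻¹, hNn.conj_mem n hn g, ?_⟩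
    rw [mul_smul, mul_smul, inv_smul_eq_iff.mpr hg1.symm, hg2]

/-- Key lemma: if some non-identity element of the normal subgroup `N` fixes `a` and `b`,
then `N_a` is transitive on the points different from `a`. -/
theorem stab_trans [Finite G] [Fintype Ω]
    (h2 : ∀ {a b c d : Ω}, a ≠ b → c ≠ d → ∃ g : G, g • a = c ∧ g • b = d)
    (h3 : ∀ g : G, ∀ a b c : Ω, a ≠ b → b ≠ c → a ≠ c → g • a = a → g • b = b → g • c = c → g = 1)
    (N : Subgroup G) [hNn : N.Normal] {a b : Ω} (hab : a ≠ b) (h : G) (hN : h ∈ N) (h1 : h ≠ 1)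
    (ha : h • a = a) (hb : h • b = b) (c : Ω) (hc : c ≠ a) :
    ∃ g ∈ N, g • a = a ∧ g • b = c := by
  classical
  haveI : Fintype G := Fintype.ofFinite G
  by_contra hcon
  push Not at hcon
  set M : Finset G := Finset.univ.filter (fun g => g ∈ N ∧ g • a = a) with hM
  let St : Ω → Finset G :=
    fun x => Finset.univ.filter (fun g => g ∈ N ∧ g • a = a ∧ g • x = x)
  set r := (St b).card with hr
  have hmemSt : ∀ x g, g ∈ St x ↔ g ∈ N ∧ g • a = a ∧ g • x = x := by
    intro x g; simp [St]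
  have hmemM : ∀ g, g ∈ M ↔ g ∈ N ∧ g • a = a := by intro g; simp [hM]
  have hr2 : 2 ≤ r := by
    have : 1 < (St b).card := Finset.one_lt_card.mpr
      ⟨1, by simp [hmemSt, N.one_mem], h, by simp [hmemSt, hN, ha, hb], Ne.symm h1⟩
    omega
  -- Claim 1
  have hSt : ∀ x, x ≠ a → (St x).card = r := by
    intro x hx
    obtain ⟨k, hka, hkb⟩ := h2 hab (Ne.symm hx)
    have hka' : k⁻¹ • a = a := by rw [inv_smul_eq_iff, hka]
    have hkb' : k⁻¹ • x = b := by rw [inv_smul_eq_iff, hkb]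
    rw [hr]
    symm
    apply Finset.card_nbij' (fun g => k * g * k⁻¹) (fun g => k⁻¹ * g * k)
    · intro g hg
      rw [Finset.mem_coe, hmemSt] at hg ⊢
      refine ⟨hNn.conj_mem g hg.1 k, ?_, ?_⟩
      · rw [mul_smul, mul_smul, hka', hg.2.1, hka]
      · rw [mul_smul, mul_smul, hkb', hg.2.2, hkb]
    · intro g hg
      rw [Finset.mem_coe, hmemSt] at hg ⊢
      refine ⟨by simpa using hNn.conj_mem g hg.1 k⁻¹, ?_, ?_⟩
      · rw [mul_smul, mul_smul, hka, hg.2.1, hka']
      · rw [mul_smul, mul_smul, hkb, hg.2.2, hkb']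
    · intro g _
      show k⁻¹ * (k * g * k⁻¹) * k = g
      group
    · intro g _
      show k * (k⁻¹ * g * k) * k⁻¹ = g
      group
  -- Claim 2: fiber bound
  have hfib : ∀ x, x ≠ a → ∀ y, (M.filter (fun g => g • x = y)).card ≤ r := by
    intro x hx y
    rcases (M.filter (fun g => g • x = y)).eq_empty_or_nonempty with he | ⟨g₀, hg₀⟩
    · rw [he]; simp
    · rw [← hSt x hx]
      rw [Finset.mem_filter, hmemM] at hg₀
      apply Finset.card_le_card_of_injOn (fun g => g₀⁻¹ * g)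
      · intro g hg
        rw [Finset.mem_coe, Finset.mem_filter, hmemM] at hg
        rw [Finset.mem_coe, hmemSt]
        refine ⟨N.mul_mem (N.inv_mem hg₀.1.1) hg.1.1, ?_, ?_⟩
        · rw [mul_smul, hg.1.2, inv_smul_eq_iff, hg₀.1.2]
        · rw [mul_smul, hg.2, inv_smul_eq_iff, hg₀.2]
      · intro g1 _ g2 _ h
        simpa using h
  -- Claim 3
  have hM_le : ∀ x, x ≠ a → M.card ≤ r * (M.image (fun g => g • x)).card := by
    intro x hx
    apply Finset.card_le_mul_card_image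
    intro y _
    exact hfib x hx y
  -- Claim 4
  have hcount : ((Finset.univ : Finset Ω).erase a).card * (r - 1) ≤ (M.erase 1).card * 1 := by
    apply Finset.card_mul_le_card_mul (fun (x : Ω) (g : G) => g • x = x)
    · intro x hx
      rw [Finset.mem_erase] at hx
      have hsub : (St x).erase 1 ⊆
          Finset.bipartiteAbove (fun (x : Ω) (g : G) => g • x = x) (M.erase 1) x := by
        intro g hg
        rw [Finset.mem_erase, hmemSt] at hg
        simp only [Finset.bipartiteAbove, Finset.mem_filter, Finset.mem_erase, hmemM]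
        exact ⟨⟨hg.1, hg.2.1, hg.2.2.1⟩, hg.2.2.2⟩
      have h1mem : (1 : G) ∈ St x := by rw [hmemSt]; simp [N.one_mem]
      have := Finset.card_le_card hsub
      rw [Finset.card_erase_of_mem h1mem, hSt x hx.1] at this
      exact this
    · intro g hg
      rw [Finset.mem_erase, hmemM] at hg
      rw [Finset.card_le_one]
      intro x hx y hy
      simp only [Finset.bipartiteBelow, Finset.mem_filter, Finset.mem_erase, Finset.mem_univ,
        and_true] at hx hy
      by_contra hxy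
      exact hg.1 (h3 g a x y (Ne.symm hx.1) hxy (Ne.symm hy.1) hg.2.2 hx.2 hy.2)
  -- Claim 5: two disjoint images
  have hdisj : Disjoint (M.image (fun g => g • b)) (M.image (fun g => g • c)) := by
    rw [Finset.disjoint_left]
    intro y hy1 hy2
    rw [Finset.mem_image] at hy1 hy2
    obtain ⟨g1, hg1, rfl⟩ := hy1
    obtain ⟨g2, hg2, hg2y⟩ := hy2
    rw [hmemM] at hg1 hg2
    apply hcon (g2⁻¹ * g1) (N.mul_mem (N.inv_mem hg2.1) hg1.1)
    · rw [mul_smul, hg1.2, inv_smul_eq_iff, hg2.2]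
    · rw [mul_smul, inv_smul_eq_iff, hg2y]
  have hsub : (M.image (fun g => g • b)) ∪ (M.image (fun g => g • c)) ⊆
      (Finset.univ : Finset Ω).erase a := by
    intro y hy
    rw [Finset.mem_union, Finset.mem_image, Finset.mem_image] at hy
    rw [Finset.mem_erase]
    refine ⟨?_, Finset.mem_univ _⟩
    rcases hy with ⟨g, hg, rfl⟩ | ⟨g, hg, rfl⟩
    · rw [hmemM] at hg
      intro h
      apply hab
      have : g • b = g • a := by rw [h, hg.2]
      exact (smul_left_cancel g this).symm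
    · rw [hmemM] at hg
      intro h
      apply hc
      have : g • c = g • a := by rw [h, hg.2]
      exact smul_left_cancel g this
  have hcard := Finset.card_le_card hsub
  rw [Finset.card_union_of_disjoint hdisj] at hcard
  obtain ⟨q, hq⟩ : ∃ q, r = q + 2 := ⟨r - 2, by omega⟩
  have h1M : (1 : G) ∈ M := by rw [hmemM]; simp [N.one_mem]
  rw [Finset.card_erase_of_mem h1M] at hcount
  have hMpos : 0 < M.card := Finset.card_pos.mpr ⟨1, h1M⟩
  have e1 := hM_le b (Ne.symm hab)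
  have e2 := hM_le c hc
  rw [hq] at e1 e2 hcount
  have e3 : q + 2 - 1 = q + 1 := by omega
  rw [e3] at hcount
  set m := ((Finset.univ : Finset Ω).erase a).card
  set I1 := (M.image (fun g => g • b)).card
  set I2 := (M.image (fun g => g • c)).card
  have hA : 2 * M.card ≤ (q + 2) * m := by
    calc 2 * M.card = M.card + M.card := by ring
      _ ≤ (q + 2) * I1 + (q + 2) * I2 := Nat.add_le_add e1 e2
      _ = (q + 2) * (I1 + I2) := by ring
      _ ≤ (q + 2) * m := Nat.mul_le_mul_left _ hcard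
  have hB : m * (q + 1) + 1 ≤ M.card := by omega
  nlinarith

/-- transitivity plus transitivity of one point stabiliser gives 2-transitivity -/
theorem twoTrans_of_stab_trans (N : Subgroup G) (htr : ∀ x y : Ω, ∃ n ∈ N, n • x = y)
    {a b : Ω} (hst : ∀ c, c ≠ a → ∃ g ∈ N, g • a = a ∧ g • b = c) :
    ∀ {x y z w : Ω}, x ≠ y → z ≠ w → ∃ n ∈ N, n • x = z ∧ n • y = w := by
  intro x y z w hxy hzw
  obtain ⟨n1, hn1, h1⟩ := htr x a
  obtain ⟨n2, hn2, h2⟩ := htr z a
  have hy : n1 • y ≠ a := by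
    rw [← h1]; intro h; exact hxy (smul_left_cancel n1 h).symm
  have hw : n2 • w ≠ a := by
    rw [← h2]; intro h; exact hzw (smul_left_cancel n2 h).symm
  obtain ⟨g1, hg1, hg1a, hg1b⟩ := hst _ hy
  obtain ⟨g2, hg2, hg2a, hg2b⟩ := hst _ hw
  refine ⟨n2⁻¹ * g2 * g1⁻¹ * n1,
    N.mul_mem (N.mul_mem (N.mul_mem (N.inv_mem hn2) hg2) (N.inv_mem hg1)) hn1, ?_, ?_⟩
  · rw [mul_smul, mul_smul, mul_smul, h1, inv_smul_eq_iff.mpr hg1a.symm, hg2a,
      inv_smul_eq_iff.mpr h2.symm]
  · rw [mul_smul, mul_smul, mul_smul, inv_smul_eq_iff.mpr hg1b.symm, hg2b, inv_smul_smul]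

/-- Frobenius case: a transitive, non-regular normal subgroup `N` in which only the identity
fixes two points has a regular normal subgroup `R` (the Frobenius kernel), normal in `G`. -/
theorem exists_regular_of_frobenius [Finite G] [Finite Ω]
    (N : Subgroup G) [hNn : N.Normal] (htr : ∀ x y : Ω, ∃ n ∈ N, n • x = y)
    (hfr : ∀ n ∈ N, ∀ x y : Ω, x ≠ y → n • x = x → n • y = y → n = 1)
    (a₀ : Ω) (hne : ∃ n ∈ N, n ≠ 1 ∧ n • a₀ = a₀) (hΩ : ∃ x : Ω, x ≠ a₀) :
    ∃ R : Subgroup G, (∀ r : G, r ∈ R ↔ r ∈ N ∧ (r = 1 ∨ ∀ c : Ω, r • c ≠ c)) ∧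
      (∀ x y : Ω, ∃ r ∈ R, r • x = y) := by
  classical
  haveI : IsPretransitive N Ω := ⟨fun x y => by
    obtain ⟨n, hn, h⟩ := htr x y
    exact ⟨⟨n, hn⟩, h⟩⟩
  set H : Subgroup N := stabilizer N a₀ with hH
  have hmemH : ∀ g : N, g ∈ H ↔ (g : G) • a₀ = a₀ := by
    intro g
    rw [hH, mem_stabilizer_iff]
    rfl
  have hsm : ∀ (g : N) (x : Ω), g • x = (g : G) • x := fun g x => rfl
  -- TI property
  have hTI : ∀ g : N, g ∉ H → ∀ t ∈ H, g * t * g⁻¹ ∈ H → t = 1 := by
    intro g hg t ht hgt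
    rw [hmemH] at hg ht hgt
    have hne' : (g : G)⁻¹ • a₀ ≠ a₀ := by
      intro h
      apply hg
      rw [inv_smul_eq_iff] at h
      exact h.symm
    have h2' : (t : G) • ((g : G)⁻¹ • a₀) = (g : G)⁻¹ • a₀ := by
      have : ((g * t * g⁻¹ : N) : G) = (g : G) * (t : G) * (g : G)⁻¹ := by
        push_cast; rfl
      rw [this, mul_smul, mul_smul] at hgt
      exact (smul_eq_iff_eq_inv_smul _).mp hgt
    apply Subtype.ext
    exact hfr t t.2 a₀ _ (Ne.symm hne') ht h2'
  obtain ⟨R₀, hR₀n, hR₀H, hR₀mem⟩ := Cfsg.Agent.helper1.frobenius_kernel_exists H hTI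
  -- fixed-point-free characterization
  have hfpf : ∀ x : N, (∀ g : N, g⁻¹ * x * g ∉ H) ↔ ∀ c : Ω, (x : G) • c ≠ c := by
    intro x
    constructor
    · intro h c hc
      obtain ⟨g, hg, hga⟩ := htr a₀ c
      apply h ⟨g, hg⟩
      rw [hmemH]
      have : (((⟨g, hg⟩ : N)⁻¹ * x * ⟨g, hg⟩ : N) : G) = g⁻¹ * (x : G) * g := by
        push_cast; rfl
      rw [this, mul_smul, mul_smul, hga, hc, inv_smul_eq_iff, hga]
    · intro h g hg
      rw [hmemH] at hg
      have : ((g⁻¹ * x * g : N) : G) = (g : G)⁻¹ * (x : G) * (g : G) := by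
        push_cast; rfl
      rw [this, mul_smul, mul_smul, inv_smul_eq_iff] at hg
      exact h _ hg
  have hR₀mem' : ∀ x : N, x ∈ R₀ ↔ (x = 1 ∨ ∀ c : Ω, (x : G) • c ≠ c) := by
    intro x
    rw [hR₀mem, hfpf]
  -- cardinality
  have hFC : Cfsg.IsFrobeniusComplement H := by
    refine ⟨?_, ?_, ?_⟩
    · obtain ⟨n, hn, hn1, hna⟩ := hne
      intro hbot
      have : (⟨n, hn⟩ : N) ∈ H := by rw [hmemH]; exact hna
      rw [hbot, Subgroup.mem_bot] at this
      exact hn1 (congrArg Subtype.val this)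
    · obtain ⟨x, hx⟩ := hΩ
      obtain ⟨n, hn, hnx⟩ := htr a₀ x
      intro htop
      have : (⟨n, hn⟩ : N) ∈ H := by rw [htop]; exact Subgroup.mem_top _
      rw [hmemH] at this
      exact hx (hnx.symm.trans this)
    · intro g hg
      rw [eq_bot_iff]
      intro t ht
      rw [Subgroup.mem_bot]
      rw [Subgroup.mem_inf] at ht
      obtain ⟨ht1, ht2⟩ := ht
      rw [Cfsg.Agent.helper21.frobc_mem_conj] at ht2
      apply hTI g⁻¹ (fun h => hg (by simpa using H.inv_mem h)) t ht1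
      simpa using ht2
  have hcardR : Nat.card R₀ = Nat.card Ω := by
    have h1 := Cfsg.Agent.helper21.frobc_kernel_card H hFC
    have h2 : Nat.card R₀ = Nat.card {x : N // x = 1 ∨ ∀ a : N, a⁻¹ * x * a ∉ H} :=
      Nat.card_congr (Equiv.subtypeEquivRight hR₀mem)
    rw [h2, h1, hH]
    exact MulAction.index_stabilizer_of_transitive (G := N) (X := Ω) (x := a₀)
  -- semiregular
  have hsemi : ∀ x ∈ R₀, ∀ c : Ω, (x : G) • c = c → x = 1 := by
    intro x hx c hc
    rcases (hR₀mem' x).mp hx with h | h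
    · exact h
    · exact absurd hc (h c)
  -- transitivity
  have hinj : Function.Injective (fun x : R₀ => ((x : N) : G) • a₀) := by
    intro x y hxy
    have hxy' : ((x : N) : G) • a₀ = ((y : N) : G) • a₀ := hxy
    have h1 : ((y : N)⁻¹ * (x : N)) ∈ R₀ := R₀.mul_mem (R₀.inv_mem y.2) x.2
    have h2 := hsemi _ h1 a₀ (by
      have : (((y : N)⁻¹ * (x : N) : N) : G) = ((y : N) : G)⁻¹ * ((x : N) : G) := by
        push_cast; rfl
      rw [this, mul_smul, hxy', inv_smul_smul])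
    apply Subtype.ext
    have h3 : (x : N) = (y : N) * ((y : N)⁻¹ * (x : N)) := by group
    rw [h3, h2, mul_one]
  have hbij := hinj.bijective_of_nat_card_le (le_of_eq hcardR.symm)
  refine ⟨R₀.map N.subtype, ?_, ?_⟩
  · intro r
    rw [Subgroup.mem_map]
    constructor
    · rintro ⟨x, hx, rfl⟩
      refine ⟨x.2, ?_⟩
      rcases (hR₀mem' x).mp hx with h | h
      · left; rw [h]; rfl
      · right; exact h
    · rintro ⟨hr, h⟩
      refine ⟨⟨r, hr⟩, (hR₀mem' _).mpr ?_, rfl⟩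
      rcases h with h | h
      · left; exact Subtype.ext h
      · right; exact h
  · intro x y
    obtain ⟨rx, hrx'⟩ := hbij.2 x
    obtain ⟨ry, hry'⟩ := hbij.2 y
    have hrx : ((rx : N) : G) • a₀ = x := hrx'
    have hry : ((ry : N) : G) • a₀ = y := hry'
    refine ⟨((ry : N) : G) * ((rx : N) : G)⁻¹, ?_, ?_⟩
    · rw [Subgroup.mem_map]
      exact ⟨(ry : N) * (rx : N)⁻¹, R₀.mul_mem ry.2 (R₀.inv_mem rx.2), by push_cast; rfl⟩
    · rw [mul_smul, inv_smul_eq_iff.mpr hrx.symm, hry]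

/-- `R` is a regular subgroup of `G`, contained in and normalised by `N`. -/
structure RegNormalIn (Ω : Type*) [MulAction G Ω] (N R : Subgroup G) : Prop where
  le : R ≤ N
  conj : ∀ n ∈ N, ∀ r ∈ R, n * r * n⁻¹ ∈ R
  trans : ∀ x y : Ω, ∃ r ∈ R, r • x = y
  semi : ∀ r ∈ R, ∀ x : Ω, r • x = x → r = 1

theorem RegNormalIn.le_of_inter {N R R' : Subgroup G}
    (hN2 : ∀ {x y z w : Ω}, x ≠ y → z ≠ w → ∃ n ∈ N, n • x = z ∧ n • y = w)
    (hR : RegNormalIn Ω N R) (hR' : RegNormalIn Ω N R') (a : Ω)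
    (r₀ : G) (h₀ : r₀ ∈ R) (h₀' : r₀ ∈ R') (h₀1 : r₀ ≠ 1) : R ≤ R' := by
  intro r hr
  by_cases hr1 : r = 1
  · rw [hr1]; exact R'.one_mem
  · have hra : a ≠ r • a := fun h => hr1 (hR.semi r hr a h.symm)
    have hr₀a : a ≠ r₀ • a := fun h => h₀1 (hR.semi r₀ h₀ a h.symm)
    obtain ⟨m, hm, hma, hmr⟩ := hN2 hr₀a hra
    have hyR : m * r₀ * m⁻¹ ∈ R := hR.conj m hm r₀ h₀
    have hyR' : m * r₀ * m⁻¹ ∈ R' := hR'.conj m hm r₀ h₀'
    have hya : (m * r₀ * m⁻¹) • a = r • a := by
      rw [mul_smul, mul_smul, inv_smul_eq_iff.mpr hma.symm, hmr]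
    have h1 : r⁻¹ * (m * r₀ * m⁻¹) = 1 := by
      apply hR.semi _ (R.mul_mem (R.inv_mem hr) hyR) a
      rw [mul_smul, hya, inv_smul_smul]
    have h2 : r = m * r₀ * m⁻¹ := by
      have := inv_mul_eq_one.mp h1
      exact this
    rw [h2]; exact hyR'

/-- In a group `N` that is 2-transitive with trivial three-point stabilisers on at least three
points, there is at most one regular normal subgroup. -/
theorem RegNormalIn.unique {N R R' : Subgroup G}
    (hN2 : ∀ {x y z w : Ω}, x ≠ y → z ≠ w → ∃ n ∈ N, n • x = z ∧ n • y = w)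
    (h3 : ∀ g : G, ∀ a b c : Ω, a ≠ b → b ≠ c → a ≠ c → g • a = a → g • b = b → g • c = c → g = 1)
    {a p p' : Ω} (hap : a ≠ p) (hpp' : p ≠ p') (hap' : a ≠ p')
    (hR : RegNormalIn Ω N R) (hR' : RegNormalIn Ω N R') : R = R' := by
  by_cases hex : ∃ r₀ : G, r₀ ∈ R ∧ r₀ ∈ R' ∧ r₀ ≠ 1
  · obtain ⟨r₀, h₀, h₀', h₀1⟩ := hex
    exact le_antisymm (RegNormalIn.le_of_inter hN2 hR hR' a r₀ h₀ h₀' h₀1)
      (RegNormalIn.le_of_inter hN2 hR' hR a r₀ h₀' h₀ h₀1)
  · exfalso
    push Not at hex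
    have hcomm : ∀ r ∈ R, ∀ r' ∈ R', r * r' = r' * r := by
      intro r hr r' hr'
      have hz : r * r' * r⁻¹ * r'⁻¹ = 1 := by
        apply hex
        · have h1 : r' * r⁻¹ * r'⁻¹ ∈ R := hR.conj r' (hR'.le hr') r⁻¹ (R.inv_mem hr)
          have : r * r' * r⁻¹ * r'⁻¹ = r * (r' * r⁻¹ * r'⁻¹) := by group
          rw [this]; exact R.mul_mem hr h1
        · have h1 : r * r' * r⁻¹ ∈ R' := hR'.conj r (hR.le hr) r' hr'
          exact R'.mul_mem h1 (R'.inv_mem hr')
      have h1 := mul_inv_eq_one.mp hz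
      have h2 := mul_inv_eq_iff_eq_mul.mp h1
      exact h2
    have key : ∀ r ∈ R, r ≠ 1 → ∀ s ∈ R, s * r = r * s → s = 1 ∨ s = r := by
      intro r hr hr1 s hs hsr
      obtain ⟨r', hr', hr'a⟩ := hR'.trans a (r • a)
      have hx1 : r⁻¹ * r' ≠ 1 := by
        intro h
        have h1 : r = r' := inv_mul_eq_one.mp h
        exact hr1 (hex r hr (h1 ▸ hr'))
      have hxa : (r⁻¹ * r') • a = a := by rw [mul_smul, hr'a, inv_smul_smul]
      have hxra : (r⁻¹ * r') • (r • a) = r • a := by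
        rw [mul_smul, ← mul_smul r' r, ← hcomm r hr r' hr', mul_smul, hr'a, inv_smul_smul]
      have hxsa : (r⁻¹ * r') • (s • a) = s • a := by
        rw [mul_smul, ← mul_smul r' s, ← hcomm s hs r' hr', mul_smul, hr'a, ← mul_smul s r,
          hsr, mul_smul, inv_smul_smul]
      by_contra hcon
      push Not at hcon
      have h1 : a ≠ r • a := fun h => hr1 (hR.semi r hr a h.symm)
      have h2 : a ≠ s • a := fun h => hcon.1 (hR.semi s hs a h.symm)
      have h3' : r • a ≠ s • a := by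
        intro h
        apply hcon.2
        have : r⁻¹ * s = 1 := by
          apply hR.semi _ (R.mul_mem (R.inv_mem hr) hs) a
          rw [mul_smul, ← h, inv_smul_smul]
        exact (inv_mul_eq_one.mp this).symm
      exact hx1 (h3 _ a (r • a) (s • a) h1 h3' h2 hxa hxra hxsa)
    have hsq : ∀ r ∈ R, r * r = 1 := by
      intro r hr
      by_cases hr1 : r = 1
      · rw [hr1, one_mul]
      · rcases key r hr hr1 (r * r) (R.mul_mem hr hr) (by group) with h | h
        · exact h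
        · exfalso
          apply hr1
          have : r * r = r * 1 := by rw [h, mul_one]
          exact mul_left_cancel this
    have hab : ∀ r ∈ R, ∀ s ∈ R, s * r = r * s := by
      intro r hr s hs
      have h1 := hsq r hr
      have h2 := hsq s hs
      have h3 := hsq (r * s) (R.mul_mem hr hs)
      have e1 : r⁻¹ = r := inv_eq_of_mul_eq_one_left h1
      have e2 : s⁻¹ = s := inv_eq_of_mul_eq_one_left h2
      have e3 : (r * s)⁻¹ = r * s := inv_eq_of_mul_eq_one_left h3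
      calc s * r = s⁻¹ * r⁻¹ := by rw [e1, e2]
        _ = (r * s)⁻¹ := by rw [mul_inv_rev]
        _ = r * s := e3
    obtain ⟨r, hr, hra⟩ := hR.trans a p
    obtain ⟨s, hs, hsa⟩ := hR.trans a p'
    have hr1 : r ≠ 1 := by
      intro h; rw [h, one_smul] at hra; exact hap hra
    rcases key r hr hr1 s hs (hab r hr s hs) with h | h
    · rw [h, one_smul] at hsa; exact hap' hsa
    · rw [h, hra] at hsa; exact hpp' hsa

/-- Main structural theorem: a non-trivial normal subgroup `N` of a Zassenhaus group contains a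
non-identity element fixing two points, hence is 2-transitive. -/
theorem normal_two_trans [Finite Ω] [FaithfulSMul G Ω]
    (h2 : ∀ {a b c d : Ω}, a ≠ b → c ≠ d → ∃ g : G, g • a = c ∧ g • b = d)
    (h3 : ∀ g : G, ∀ a b c : Ω, a ≠ b → b ≠ c → a ≠ c → g • a = a → g • b = b → g • c = c → g = 1)
    (hreg : ∀ N : Subgroup G, N.Normal → MulAction.IsPretransitive N Ω →
      ∃ a : Ω, MulAction.stabilizer N a ≠ ⊥)
    {a' b' : Ω} (hab' : a' ≠ b')
    (N : Subgroup G) [hNn : N.Normal] (hN : N ≠ ⊥) :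
    (∃ h ∈ N, h ≠ 1 ∧ ∃ a b : Ω, a ≠ b ∧ h • a = a ∧ h • b = b) ∧
    (∀ {x y z w : Ω}, x ≠ y → z ≠ w → ∃ n ∈ N, n • x = z ∧ n • y = w) := by
  classical
  haveI := Fintype.ofFinite Ω
  haveI : Finite G := finite_of_faithful (Ω := Ω)
  have htr := normal_trans h2 N hN
  have hex : ∃ h ∈ N, h ≠ 1 ∧ ∃ a b : Ω, a ≠ b ∧ h • a = a ∧ h • b = b := by
    by_contra hcon
    have hfr : ∀ n ∈ N, ∀ x y : Ω, x ≠ y → n • x = x → n • y = y → n = 1 := by
      intro n hn x y hxy hx hy
      by_contra h1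
      exact hcon ⟨n, hn, h1, x, y, hxy, hx, hy⟩
    haveI : IsPretransitive N Ω := ⟨fun x y => by
      obtain ⟨n, hn, h⟩ := htr x y
      exact ⟨⟨n, hn⟩, h⟩⟩
    obtain ⟨a₀, ha₀⟩ := hreg N hNn inferInstance
    have hne : ∃ n ∈ N, n ≠ 1 ∧ n • a₀ = a₀ := by
      have := (Subgroup.eq_bot_iff_forall _).not.mp ha₀
      push Not at this
      obtain ⟨x, hx, hx1⟩ := this
      rw [mem_stabilizer_iff] at hx
      exact ⟨x.1, x.2, fun h => hx1 (Subtype.ext h), hx⟩
    have hΩ : ∃ x : Ω, x ≠ a₀ := by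
      by_cases h : a' = a₀
      · exact ⟨b', fun h' => hab' (h.trans h'.symm)⟩
      · exact ⟨a', h⟩
    obtain ⟨R, hRmem, hRtr⟩ := exists_regular_of_frobenius N htr hfr a₀ hne hΩ
    have hRn : R.Normal := by
      constructor
      intro r hr k
      rw [hRmem] at hr ⊢
      refine ⟨hNn.conj_mem r hr.1 k, ?_⟩
      rcases hr.2 with h | h
      · left; rw [h]; group
      · right
        intro c hc
        apply h (k⁻¹ • c)
        rw [mul_smul, mul_smul] at hc
        exact (smul_eq_iff_eq_inv_smul _).mp hc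
    haveI : IsPretransitive R Ω := ⟨fun x y => by
      obtain ⟨r, hr, h⟩ := hRtr x y
      exact ⟨⟨r, hr⟩, h⟩⟩
    obtain ⟨a₁, ha₁⟩ := hreg R hRn inferInstance
    have := (Subgroup.eq_bot_iff_forall _).not.mp ha₁
    push Not at this
    obtain ⟨x, hx, hx1⟩ := this
    rw [mem_stabilizer_iff] at hx
    rcases ((hRmem x.1).mp x.2).2 with h | h
    · exact hx1 (Subtype.ext h)
    · exact h a₁ hx
  refine ⟨hex, ?_⟩
  obtain ⟨h, hhN, hh1, a, b, hab, hha, hhb⟩ := hex
  have hst := fun c hc => stab_trans h2 h3 N hab h hhN hh1 hha hhb c hc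
  intro x y z w hxy hzw
  exact twoTrans_of_stab_trans N htr hst hxy hzw

end Cfsg.Agent.helper17.Zass
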