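import Mathlib
import Cfsg.Agent.Lib_helper18_ZJe6
import Cfsg.Agent.Lib_helper3_ZJFunctor
import Cfsg.Agent.Lib_helper3_PStab2
import Cfsg.Agent.Lib_helper10_Control
import Cfsg.Agent.Lib_helper10_Reach

/-! A refinement of the Alperin–Gorenstein local-to-global theorem for strong fusion (helper18):
for a conjugacy functor `W` with `Z(H) ≤ W(H)`, local control need only be checked in the
normalizers of well-placed subgroups containing `Z(S)`.  Application: `Z(J(S))` controls fusion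
when the normalizers of the subgroups between `Z(S)` and `S` have no section `SL(2,p)`. -/

set_option autoImplicit false

namespace Cfsg.Agent.helper18.AGZ

open Cfsg Cfsg.Agent.helper10

universe u

local notation:max K "^[" g "]" => Subgroup.map (MulEquiv.toMonoidHom (MulAut.conj g)) K

/-- Control of strong fusion at a given Sylow subgroup by an isomorphism-invariant functor which
is normal in every constrained group all of whose sections are `p`-stable. -/
theorem ctlAt_of_normal_pst {G : Type u} [Group G] [Finite G] {p : ℕ} [Fact p.Prime]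
    (W : ∀ (Q : Type u) [Group Q], Subgroup Q) (hW : Cfsg.IsCharPFunctor.{u} p W)
    (hnorm : ∀ (Y : Type u) [Group Y] [Finite Y], PSt p Y →
      Subgroup.centralizer ((Cfsg.pCore p Y : Subgroup Y) : Set Y) ≤ Cfsg.pCore p Y →
      ∀ T : Sylow p Y, (Cfsg.inducedFunctor (G := Y) W (T : Subgroup Y)).Normal)
    (hps : PSt p G) (S : Sylow p G) (A : Set G) (hA : A ⊆ ((S : Subgroup G) : Set G)) (g : G)
    (hg : (fun a => g * a * g⁻¹) '' A ⊆ ((S : Subgroup G) : Set G)) :
    ∃ c ∈ Subgroup.normalizer (Cfsg.inducedFunctor (G := G) W (S : Subgroup G) : Set G),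
      ∀ a ∈ A, c * a * c⁻¹ = g * a * g⁻¹ := by
  have h𝓦 : ∀ W' ∈ ({W} : Set (∀ (Q : Type u) [Group Q], Subgroup Q)),
      Cfsg.IsCharPFunctor.{u} p W' := by
    intro W' hW'
    rw [Set.mem_singleton_iff] at hW'
    rw [hW']; exact hW
  have hHyp : Hyp p ({W} : Set (∀ (Q : Type u) [Group Q], Subgroup Q)) G := by
    intro K Y _ f hf hY
    haveI : Finite Y := Finite.of_surjective f hf
    have hpsY : PSt p Y := pst_image K f hf hps
    obtain ⟨T⟩ : Nonempty (Sylow p Y) := inferInstance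
    apply ctl_of_ctlAt T
    intro A h hA hAh
    have hn := hnorm Y hpsY hY T
    apply Rel.of_reach
    apply Reach.single hA _ hAh
    refine ⟨_, ⟨W, rfl, rfl⟩, Subgroup.mem_inf.2 ⟨Subgroup.mem_top _, ?_⟩⟩
    rw [Subgroup.normalizer_eq_top]
    exact Subgroup.mem_top h
  have hctl := section_main h𝓦 _ G rfl hHyp
  have hat := ctlAt_of_ctl h𝓦 S hctl
  obtain ⟨c, hc, hag⟩ := hat A g hA hg
  refine ⟨c, ?_, fun a ha => hag a ha⟩
  apply Cfsg.Agent.S1969.reach_mem _ _ hc
  rintro d ⟨_, ⟨W', hW', rfl⟩, hd⟩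
  rw [Set.mem_singleton_iff] at hW'
  subst hW'
  exact (Subgroup.mem_inf.1 hd).2

/-- `Z(J(S))` (abelian version) controls strong fusion in `S` when all sections are `p`-stable. -/
theorem zja_controls_of_pst {G : Type u} [Group G] [Finite G] {p : ℕ} [Fact p.Prime] (hp : p ≠ 2)
    (hps : PSt p G) (S : Sylow p G) (A : Set G) (hA : A ⊆ ((S : Subgroup G) : Set G)) (g : G)
    (hg : (fun a => g * a * g⁻¹) '' A ⊆ ((S : Subgroup G) : Set G)) :
    ∃ c ∈ Subgroup.normalizer (Cfsg.centerThompsonAOf (S : Subgroup G) : Set G),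
      ∀ a ∈ A, c * a * c⁻¹ = g * a * g⁻¹ := by
  have h := ctlAt_of_normal_pst Cfsg.Agent.helper3.zjFunctor.{u}
    (Cfsg.Agent.helper3.isCharPFunctor_zjFunctor p) ?_ hps S A hA g hg
  · rw [Cfsg.Agent.helper3.inducedFunctor_zjFunctor] at h; exact h
  · intro Y _ _ hpsY hcon T
    rw [Cfsg.Agent.helper3.inducedFunctor_zjFunctor, Cfsg.Agent.helper3.centerThompsonAOf_eq_zjI]
    apply Cfsg.Agent.helper3.zjI_normal' Cfsg.Agent.helper3.zjFamily_famAb T
      (Cfsg.Agent.helper3.hasReplacement_famAb hp T) hcon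
    intro V _ hV a _ hq
    exact Cfsg.Agent.helper3.mk_mem_pCore_of_isNormalizerPStable (pst_top hpsY) V hV a hq

/-- The centre of a finite group lies in `Z(J(·))`. -/
theorem center_le_zjFunctor (Q : Type u) [Group Q] [Finite Q] :
    Subgroup.center Q ≤ Cfsg.Agent.helper3.zjFunctor Q := by
  intro z hz
  unfold Cfsg.Agent.helper3.zjFunctor
  rw [Cfsg.Agent.helper4.ZJ.centerThompsonA_eq_sInf, Subgroup.mem_sInf]
  intro A hA
  have hAc : ∀ u ∈ A, ∀ v ∈ A, u * v = v * u := fun u hu v hv =>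
    congrArg Subtype.val (hA.1.is_comm.comm (⟨u, hu⟩ : A) ⟨v, hv⟩)
  have hza : ∀ a ∈ A, z * a = a * z := fun a _ =>
    (Subgroup.mem_center_iff.1 hz a).symm
  have hH : IsMulCommutative (A ⊔ Subgroup.zpowers z : Subgroup Q) :=
    ⟨⟨fun u v => Subtype.ext
      (Cfsg.Agent.helper4.ZJ.sup_zpowers_comm A z hAc hza u u.2 v v.2)⟩⟩
  have hcard := hA.2 _ hH
  have heq : A = A ⊔ Subgroup.zpowers z :=
    Subgroup.eq_of_le_of_card_ge le_sup_left hcard
  rw [heq]
  exact Subgroup.mem_sup_right (Subgroup.mem_zpowers _)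

section ag

variable {G : Type*} [Group G]

theorem normalizer_le_normalizer_centralizer (T : Subgroup G) :
    Subgroup.normalizer (T : Set G) ≤
      Subgroup.normalizer ((Subgroup.centralizer (T : Set G) : Subgroup G) : Set G) := by
  have key : ∀ (n : G), n ∈ Subgroup.normalizer (T : Set G) →
      ∀ c ∈ Subgroup.centralizer (T : Set G), n * c * n⁻¹ ∈ Subgroup.centralizer (T : Set G) := by
    intro n hn c hc
    rw [Subgroup.mem_centralizer_iff] at hc ⊢
    intro t ht
    have ht' : n⁻¹ * t * n ∈ T := by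
      have := (Subgroup.mem_normalizer_iff.1 (Subgroup.inv_mem _ hn) t).1 ht
      simpa using this
    have h1 := hc _ ht'
    calc t * (n * c * n⁻¹) = n * ((n⁻¹ * t * n) * c) * n⁻¹ := by group
      _ = n * (c * (n⁻¹ * t * n)) * n⁻¹ := by rw [h1]
      _ = n * c * n⁻¹ * t := by group
  intro n hn
  rw [Subgroup.mem_normalizer_iff]
  intro c
  constructor
  · exact key n hn c
  · intro h
    have h1 := key n⁻¹ (Subgroup.inv_mem _ hn) _ h
    have e : n⁻¹ * (n * c * n⁻¹) * n⁻¹⁻¹ = c := by group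
    rwa [e] at h1

theorem center_le_functorTower {p : ℕ} {W : Subgroup G → Subgroup G}
    (hW : Cfsg.IsConjugacyFunctor p W)
    (hWZ : ∀ H : Subgroup G, IsPGroup p H → H ⊓ Subgroup.centralizer (H : Set G) ≤ W H)
    {S T : Subgroup G} (hS : IsPGroup p S) (hT : T ≤ S)
    (hZT : S ⊓ Subgroup.centralizer (S : Set G) ≤ T) :
    ∀ i, S ⊓ Subgroup.centralizer (S : Set G) ≤ Cfsg.functorTower W S T i
  | 0 => hZT
  | i + 1 => by
    rw [functorTower_succ]
    have hle : Cfsg.functorTower W S T i ≤ S := functorTower_le hW hS hT i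
    have hNS : towerNS W S T i ≤ S := by unfold towerNS; exact inf_le_left
    have h1 : S ⊓ Subgroup.centralizer (S : Set G) ≤ towerNS W S T i := by
      unfold towerNS
      refine le_inf inf_le_left ?_
      exact (inf_le_right.trans (Subgroup.centralizer_le (SetLike.coe_subset_coe.2 hle))).trans
        (Subgroup.centralizer_le_normalizer _)
    have h2 : S ⊓ Subgroup.centralizer (S : Set G) ≤
        Subgroup.centralizer ((towerNS W S T i : Subgroup G) : Set G) :=
      inf_le_right.trans (Subgroup.centralizer_le (SetLike.coe_subset_coe.2 hNS))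
    exact (le_inf h1 h2).trans (hWZ _ (hS.to_le hNS))

theorem climbZ [Finite G] {p : ℕ} [Fact p.Prime] (S : Sylow p G) {W : Subgroup G → Subgroup G}
    (hW : Cfsg.IsConjugacyFunctor p W)
    (hWZ : ∀ H : Subgroup G, IsPGroup p H → H ⊓ Subgroup.centralizer (H : Set G) ≤ W H)
    (hloc : ∀ T : Subgroup G, T ≠ ⊥ → Cfsg.IsWellPlaced p W (S : Subgroup G) T →
      (S : Subgroup G) ⊓ Subgroup.centralizer ((S : Subgroup G) : Set G) ≤ T →
      Cfsg.ControlsStrongFusionIn p W (Subgroup.normalizer (T : Set G)))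
    (T : Subgroup G) (hT1 : T ≠ ⊥) (hwp : Cfsg.IsWellPlaced p W (S : Subgroup G) T)
    (hZT : (S : Subgroup G) ⊓ Subgroup.centralizer ((S : Subgroup G) : Set G) ≤ T) (h : G)
    (hh : h ∈ Subgroup.normalizer (T : Set G)) :
    ∀ i : ℕ, ∃ x ∈ Subgroup.normalizer
        ((Cfsg.functorTower W (S : Subgroup G) T (i + 1) : Subgroup G) : Set G),
      ∀ t ∈ T, x * t * x⁻¹ = h * t * h⁻¹ := by
  have hS : IsPGroup p (S : Subgroup G) := S.isPGroup'
  have hconjT : ∀ t ∈ T, h * t * h⁻¹ ∈ T := fun t ht =>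
    (Subgroup.mem_normalizer_iff.mp hh t).mp ht
  have step : ∀ (i : ℕ) (y : G),
      y ∈ Subgroup.normalizer ((Cfsg.functorTower W (S : Subgroup G) T i : Subgroup G) : Set G) →
      (∀ t ∈ T, y * t * y⁻¹ = h * t * h⁻¹) →
      ∃ x ∈ Subgroup.normalizer
          ((Cfsg.functorTower W (S : Subgroup G) T (i + 1) : Subgroup G) : Set G),
        ∀ t ∈ T, x * t * x⁻¹ = h * t * h⁻¹ := by
    intro i y hy hyT
    have hwp' := wellPlaced_shift hW hS hwp i
    have hne := functorTower_ne_bot hW hS hwp.1 hT1 i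
    have hc := hloc _ hne hwp' (center_le_functorTower hW hWZ hS hwp.1 hZT i)
    have hTi : T ≤ towerNS W (S : Subgroup G) T i := le_towerNS p hW hS hwp.1 i
    obtain ⟨x, hx, hxA⟩ := control_transfer hW hc (towerNS W (S : Subgroup G) T i)
      (by unfold towerNS; exact inf_le_right) (hS.to_le (by unfold towerNS; exact inf_le_left))
      (hwp.2 i) (T : Set G) y hy (by exact_mod_cast hTi) (by
        rintro _ ⟨t, ht, rfl⟩
        show y * t * y⁻¹ ∈ towerNS W (S : Subgroup G) T i
        rw [hyT t ht]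
        exact hTi (hconjT t ht))
    refine ⟨x, ?_, fun t ht => (hxA t ht).trans (hyT t ht)⟩
    rw [functorTower_succ]
    exact (Subgroup.mem_inf.mp hx).2
  intro i
  induction i with
  | zero => exact step 0 h hh (fun t _ => rfl)
  | succ i ih =>
    obtain ⟨y, hy, hyT⟩ := ih
    exact step (i + 1) y hy hyT

theorem wellPlaced_controlZ [Finite G] {p : ℕ} [Fact p.Prime] (S : Sylow p G)
    {W : Subgroup G → Subgroup G} (hW : Cfsg.IsConjugacyFunctor p W)
    (hWZ : ∀ H : Subgroup G, IsPGroup p H → H ⊓ Subgroup.centralizer (H : Set G) ≤ W H)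
    (hloc : ∀ T : Subgroup G, T ≠ ⊥ → Cfsg.IsWellPlaced p W (S : Subgroup G) T →
      (S : Subgroup G) ⊓ Subgroup.centralizer ((S : Subgroup G) : Set G) ≤ T →
      Cfsg.ControlsStrongFusionIn p W (Subgroup.normalizer (T : Set G)))
    (T : Subgroup G) (hwp : Cfsg.IsWellPlaced p W (S : Subgroup G) T)
    (hZT : (S : Subgroup G) ⊓ Subgroup.centralizer ((S : Subgroup G) : Set G) ≤ T) (x : G)
    (hx : x ∈ Subgroup.normalizer (T : Set G)) :
    ∃ y ∈ Subgroup.normalizer ((W (S : Subgroup G) : Subgroup G) : Set G),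
      ∀ t ∈ T, y * t * y⁻¹ = x * t * x⁻¹ := by
  have hS : IsPGroup p (S : Subgroup G) := S.isPGroup'
  by_cases hT1 : T = ⊥
  · refine ⟨1, Subgroup.one_mem _, fun t ht => ?_⟩
    rw [hT1, Subgroup.mem_bot] at ht
    rw [ht]; group
  · obtain ⟨j, -, hj⟩ := exists_towerNS_stable hW (S := (S : Subgroup G)) (T := T) hS
    have hjS := towerNS_eq_of_stable hW hS j hj
    obtain ⟨y, hy, hyT⟩ := climbZ S hW hWZ hloc T hT1 hwp hZT x hx j
    rw [functorTower_succ, hjS] at hy
    exact ⟨y, hy, hyT⟩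

theorem relSylow_inf_normal [Finite G] {p : ℕ} [Fact p.Prime] (N R C : Subgroup G)
    (hRp : IsPGroup p R) (hRi : ¬ p ∣ R.relIndex N) (hCN : C ≤ N)
    (hNC : N ≤ Subgroup.normalizer (C : Set G)) : ¬ p ∣ (R ⊓ C).relIndex C := by
  have hRp' : IsPGroup p (R.subgroupOf N) := hRp.comap_subtype
  haveI hCn : (C.subgroupOf N).Normal :=
    (Subgroup.normal_subgroupOf_iff_le_normalizer hCN).2 hNC
  obtain ⟨P', hP'⟩ : ∃ P' : Sylow p ↥N, (P' : Subgroup ↥N) = R.subgroupOf N :=
    ⟨hRp'.toSylow hRi, IsPGroup.toSylow_coe hRp' hRi⟩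
  have h1 := Cfsg.Agent.helper19.sylow_inf_normal_not_dvd P' (C.subgroupOf N)
  rw [hP'] at h1
  have e : R.subgroupOf N ⊓ C.subgroupOf N = (R ⊓ C).subgroupOf N :=
    (Subgroup.comap_inf R C N.subtype).symm
  rw [e, Subgroup.relIndex_subgroupOf hCN] at h1
  exact h1

theorem chainCond_card [Finite G] : ∀ (l : List (Subgroup G × G)) (U : Subgroup G),
    ChainCond (U : Set G) l → ∀ q ∈ l, Nat.card U ≤ Nat.card q.1
  | [], _, _, q, hq => by simp at hq
  | q₀ :: l, U, hc, q, hq => by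
    obtain ⟨h1, h2⟩ := hc
    rcases List.mem_cons.1 hq with rfl | hq'
    · exact Subgroup.card_le_of_le (SetLike.coe_subset_coe.1 h1)
    · rw [rconj_coe] at h2
      have := chainCond_card l _ h2 q hq'
      rwa [card_map_conj] at this

theorem keyZ [Finite G] {p : ℕ} [Fact p.Prime] (S : Sylow p G) {W : Subgroup G → Subgroup G}
    (hW : Cfsg.IsConjugacyFunctor p W)
    (hWZ : ∀ H : Subgroup G, IsPGroup p H → H ⊓ Subgroup.centralizer (H : Set G) ≤ W H)
    (hloc : ∀ T : Subgroup G, T ≠ ⊥ → Cfsg.IsWellPlaced p W (S : Subgroup G) T →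
      (S : Subgroup G) ⊓ Subgroup.centralizer ((S : Subgroup G) : Set G) ≤ T →
      Cfsg.ControlsStrongFusionIn p W (Subgroup.normalizer (T : Set G))) :
    ∀ (m : ℕ) (T : Subgroup G), Nat.card (S : Subgroup G) - Nat.card T = m →
      Cfsg.IsWellPlaced p W (S : Subgroup G) T → ∀ x ∈ Subgroup.normalizer (T : Set G),
      ∃ y ∈ Subgroup.normalizer ((W (S : Subgroup G) : Subgroup G) : Set G),
        ∀ t ∈ T, y * t * y⁻¹ = x * t * x⁻¹ := by
  intro m
  induction m using Nat.strong_induction_on with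
  | _ m IH =>
  intro T hm hwp x hx
  have hS : IsPGroup p (S : Subgroup G) := S.isPGroup'
  have hTS : T ≤ (S : Subgroup G) := hwp.1
  obtain ⟨D, hD⟩ : ∃ D : Subgroup G, D = ((S : Subgroup G) ⊓ Subgroup.normalizer (T : Set G)) ⊓
      Subgroup.centralizer (T : Set G) := ⟨_, rfl⟩
  have hDS : D ≤ (S : Subgroup G) := by rw [hD]; exact inf_le_left.trans inf_le_left
  have hDC : D ≤ Subgroup.centralizer (T : Set G) := by rw [hD]; exact inf_le_right
  by_cases hDT : D ≤ T
  · have hZT : (S : Subgroup G) ⊓ Subgroup.centralizer ((S : Subgroup G) : Set G) ≤ T := by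
      refine le_trans ?_ hDT
      have h1 : (S : Subgroup G) ⊓ Subgroup.centralizer ((S : Subgroup G) : Set G) ≤
          Subgroup.centralizer (T : Set G) :=
        inf_le_right.trans (Subgroup.centralizer_le (SetLike.coe_subset_coe.2 hTS))
      rw [hD]
      exact le_inf (le_inf inf_le_left (h1.trans (Subgroup.centralizer_le_normalizer _))) h1
    exact wellPlaced_controlZ S hW hWZ hloc T hwp hZT x hx
  · have hDp : IsPGroup p D := hS.to_le hDS
    have hDi : ¬ p ∣ D.relIndex (Subgroup.centralizer (T : Set G)) := by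
      rw [hD]
      exact relSylow_inf_normal (Subgroup.normalizer (T : Set G)) _ _ (hS.to_le inf_le_left)
        (hwp.2 0) (Subgroup.centralizer_le_normalizer _) (normalizer_le_normalizer_centralizer T)
    have hxC : (D^[x]) ≤ Subgroup.centralizer (T : Set G) := by
      rintro _ ⟨d, hd, rfl⟩
      have := (Subgroup.mem_normalizer_iff.1 (normalizer_le_normalizer_centralizer T hx) d).1
        (hDC hd)
      simpa [MulAut.conj_apply] using this
    obtain ⟨c, hc, hcD⟩ := pgroup_conj_into_relSylow (Subgroup.centralizer (T : Set G)) (D^[x]) D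
      hxC (hDp.map _) hDp hDi
    have hm₀D : D^[c * x] ≤ D := by rw [map_conj_mul]; exact hcD
    have hm₀ND : c * x ∈ Subgroup.normalizer (D : Set G) :=
      mem_normalizer_of_map_conj_le D (c * x) hm₀D
    have hcN : c ∈ Subgroup.normalizer (T : Set G) := Subgroup.centralizer_le_normalizer _ hc
    have hm₀NT : c * x ∈ Subgroup.normalizer (T : Set G) := Subgroup.mul_mem _ hcN hx
    have hm₀N : c * x ∈ Subgroup.normalizer ((T ⊔ D : Subgroup G) : Set G) := by
      rw [mem_normalizer_iff_map_conj, Subgroup.map_sup,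
        (mem_normalizer_iff_map_conj T _).1 hm₀NT, (mem_normalizer_iff_map_conj D _).1 hm₀ND]
    have hTDS : T ⊔ D ≤ (S : Subgroup G) := sup_le hTS hDS
    have hlt : T < T ⊔ D :=
      lt_of_le_of_ne le_sup_left (fun h => hDT (le_sup_right.trans h.ge))
    have hcardlt := card_lt_card_of_lt hlt
    have hchain := alperin_chain S {T' : Subgroup G | Cfsg.IsWellPlaced p W (S : Subgroup G) T'}
      (fun U hU => hU.1) (fun T' hT' => by
        obtain ⟨g, hg⟩ := exists_isWellPlaced_conj S hW T' hT'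
        exact ⟨_, hg, ⟨g, rfl⟩, hg.2 0⟩)
    have h2 : rconj ((T ⊔ D : Subgroup G) : Set G) (c * x)⁻¹ ⊆ (S : Subgroup G) := by
      rw [rconj_eq_self_of_mem_normalizer _ _ (Subgroup.inv_mem _ hm₀N)]
      exact SetLike.coe_subset_coe.2 hTDS
    obtain ⟨l, hl1, hl2, hl3⟩ := hchain _ (T ⊔ D) (c * x)⁻¹ rfl hTDS h2
    have hcards := chainCond_card l (T ⊔ D) hl3
    have hc2 : Nat.card T ≤ Nat.card (S : Subgroup G) := Subgroup.card_le_of_le hTS
    obtain ⟨y, hy, hyB⟩ := chain_control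
      (𝓕 := {T' : Subgroup G | Cfsg.IsWellPlaced p W (S : Subgroup G) T' ∧
        Nat.card ↥(T ⊔ D) ≤ Nat.card T'})
      (N := Subgroup.normalizer ((W (S : Subgroup G) : Subgroup G) : Set G))
      (fun T' hT' x' hx' => by
        have hT'S : T' ≤ (S : Subgroup G) := hT'.1.1
        have hc1 : Nat.card T' ≤ Nat.card (S : Subgroup G) := Subgroup.card_le_of_le hT'S
        have hc3 := hT'.2
        exact IH (Nat.card (S : Subgroup G) - Nat.card T') (by omega) T' rfl hT'.1 x' hx')
      l _ (fun q hq => ⟨⟨(hl2 q hq).1, hcards q hq⟩, (hl2 q hq).2⟩) hl3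
    refine ⟨y⁻¹, Subgroup.inv_mem _ hy, fun t ht => ?_⟩
    have h3 := hyB t (Subgroup.mem_sup_left ht)
    rw [hl1] at h3
    rw [inv_inv] at h3 ⊢
    rw [h3]
    have hxt : x * t * x⁻¹ ∈ T := (Subgroup.mem_normalizer_iff.1 hx t).1 ht
    have hcomm := (Subgroup.mem_centralizer_iff.1 hc) _ hxt
    calc c * x * t * (c * x)⁻¹ = (c * (x * t * x⁻¹)) * c⁻¹ := by group
      _ = ((x * t * x⁻¹) * c) * c⁻¹ := by rw [hcomm]
      _ = x * t * x⁻¹ := by group

/-- **Refined Alperin–Gorenstein theorem**: local control in the normalizers of the well-placed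
subgroups containing `Z(S)` gives control of strong fusion in `S` by `N(W(S))`. -/
theorem control_of_local_center [Finite G] {p : ℕ} [Fact p.Prime] (S : Sylow p G)
    (W : Subgroup G → Subgroup G) (hW : Cfsg.IsConjugacyFunctor p W)
    (hWZ : ∀ H : Subgroup G, IsPGroup p H → H ⊓ Subgroup.centralizer (H : Set G) ≤ W H)
    (hloc : ∀ T : Subgroup G, T ≠ ⊥ → Cfsg.IsWellPlaced p W (S : Subgroup G) T →
      (S : Subgroup G) ⊓ Subgroup.centralizer ((S : Subgroup G) : Set G) ≤ T →
      Cfsg.ControlsStrongFusionIn p W (Subgroup.normalizer (T : Set G)))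
    (A : Set G) (h : G) (hAS : A ⊆ ((S : Subgroup G) : Set G))
    (hAh : (fun a => h * a * h⁻¹) '' A ⊆ ((S : Subgroup G) : Set G)) :
    ∃ y ∈ Subgroup.normalizer ((W (S : Subgroup G) : Subgroup G) : Set G),
      ∀ a ∈ A, y * a * y⁻¹ = h * a * h⁻¹ := by
  have hchain := alperin_chain S {T : Subgroup G | Cfsg.IsWellPlaced p W (S : Subgroup G) T}
    (fun U hU => hU.1) (fun T hT => by
      obtain ⟨g, hg⟩ := exists_isWellPlaced_conj S hW T hT
      exact ⟨_, hg, ⟨g, rfl⟩, hg.2 0⟩)
  have h1 : Subgroup.closure A ≤ (S : Subgroup G) := (Subgroup.closure_le _).mpr hAS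
  have h2 : rconj ((Subgroup.closure A : Subgroup G) : Set G) h⁻¹ ⊆ (S : Subgroup G) := by
    rw [rconj_coe, SetLike.coe_subset_coe, MonoidHom.map_closure, Subgroup.closure_le]
    rintro _ ⟨a, ha, rfl⟩
    apply hAh
    exact ⟨a, ha, by simp [MulAut.conj_apply]⟩
  obtain ⟨l, hl1, hl2, hl3⟩ := hchain _ (Subgroup.closure A) h⁻¹ rfl h1 h2
  obtain ⟨y, hy, hyB⟩ := chain_control
    (𝓕 := {T : Subgroup G | Cfsg.IsWellPlaced p W (S : Subgroup G) T})
    (N := Subgroup.normalizer ((W (S : Subgroup G) : Subgroup G) : Set G))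
    (fun T hT x hx => keyZ S hW hWZ hloc _ T rfl hT x hx) l _ hl2 hl3
  refine ⟨y⁻¹, Subgroup.inv_mem _ hy, ?_⟩
  intro a ha
  have h3 := hyB a (Subgroup.subset_closure ha)
  rw [hl1] at h3
  rw [inv_inv] at h3 ⊢
  exact h3

end ag

/-- A section `SL(2,p)` of a subgroup `N`, realised by subgroups of the ambient group. -/
theorem exists_section_le {X : Type*} [Group X] {p : ℕ} [Fact p.Prime] (N : Subgroup X)
    (h : Cfsg.Agent.helper4.Red.HasSec p ↥N) :
    ∃ (H K : Subgroup X) (_ : (K.subgroupOf H).Normal), H ≤ N ∧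
      Nonempty ((H ⧸ K.subgroupOf H) ≃* Matrix.SpecialLinearGroup (Fin 2) (ZMod p)) := by
  obtain ⟨K₀, ψ, hψ⟩ := h
  let e : K₀ ≃* (K₀.map N.subtype) := K₀.equivMapOfInjective N.subtype N.subtype_injective
  let ψ' : (K₀.map N.subtype) →* Matrix.SpecialLinearGroup (Fin 2) (ZMod p) :=
    ψ.comp e.symm.toMonoidHom
  have hψ' : Function.Surjective ψ' := hψ.comp e.symm.surjective
  have hRk : (ψ'.ker.map (K₀.map N.subtype).subtype).subgroupOf (K₀.map N.subtype) = ψ'.ker :=
    Subgroup.comap_map_eq_self_of_injective (Subgroup.subtype_injective _) _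
  haveI hRn : ((ψ'.ker.map (K₀.map N.subtype).subtype).subgroupOf (K₀.map N.subtype)).Normal := by
    rw [hRk]; infer_instance
  refine ⟨K₀.map N.subtype, ψ'.ker.map (K₀.map N.subtype).subtype, hRn, ?_,
    ⟨(QuotientGroup.quotientMulEquivOfEq hRk).trans
      (QuotientGroup.quotientKerEquivOfSurjective ψ' hψ')⟩⟩
  rintro _ ⟨k, _, rfl⟩
  exact k.2

/-- `Z(J(S))` controls strong fusion in `S` when the normalizers of the subgroups between `Z(S)`
and `S` have no section `SL(2,p)`, `p` odd. -/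
theorem zja_controls_locally {G : Type u} [Group G] [Finite G] {p : ℕ} [Fact p.Prime]
    (hp : p ≠ 2) (S : Sylow p G)
    (hfree : ∀ P : Subgroup G,
      (S : Subgroup G) ⊓ Subgroup.centralizer ((S : Subgroup G) : Set G) ≤ P → P ≤ S →
      ¬ ∃ (H K : Subgroup G) (_ : (K.subgroupOf H).Normal), H ≤ Subgroup.normalizer (P : Set G) ∧
        Nonempty ((H ⧸ K.subgroupOf H) ≃* Matrix.SpecialLinearGroup (Fin 2) (ZMod p)))
    (A : Set G) (h : G) (hAS : A ⊆ ((S : Subgroup G) : Set G))
    (hAh : (fun a => h * a * h⁻¹) '' A ⊆ ((S : Subgroup G) : Set G)) :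
    ∃ y ∈ Subgroup.normalizer (Cfsg.centerThompsonAOf (S : Subgroup G) : Set G),
      ∀ a ∈ A, y * a * y⁻¹ = h * a * h⁻¹ := by
  have hS : IsPGroup p (S : Subgroup G) := S.isPGroup'
  have hfun : (fun P : Subgroup G => Cfsg.centerThompsonAOf P) =
      Cfsg.inducedFunctor (G := G) Cfsg.Agent.helper3.zjFunctor.{u} := by
    funext P
    exact (Cfsg.Agent.helper3.inducedFunctor_zjFunctor P).symm
  have hW : Cfsg.IsConjugacyFunctor p (fun P : Subgroup G => Cfsg.centerThompsonAOf P) := by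
    rw [hfun]
    exact induced_isConjugacyFunctor (X := G) _ (Cfsg.Agent.helper3.isCharPFunctor_zjFunctor p)
  have hWZ : ∀ H : Subgroup G, IsPGroup p H →
      H ⊓ Subgroup.centralizer (H : Set G) ≤ Cfsg.centerThompsonAOf H := by
    intro H _ z hz
    rw [← Cfsg.Agent.helper3.inducedFunctor_zjFunctor]
    refine ⟨⟨z, hz.1⟩, center_le_zjFunctor ↥H ?_, rfl⟩
    rw [Subgroup.mem_center_iff]
    intro g
    apply Subtype.ext
    exact Subgroup.mem_centralizer_iff.1 hz.2 g g.2
  apply control_of_local_center S (fun P => Cfsg.centerThompsonAOf P) hW hWZ ?_ A h hAS hAh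
  intro T hT1 hwp hZT
  have hTS : T ≤ (S : Subgroup G) := hwp.1
  have h0 : ¬ p ∣ ((S : Subgroup G) ⊓ Subgroup.normalizer (T : Set G)).relIndex
      (Subgroup.normalizer (T : Set G)) := hwp.2 0
  refine ⟨(S : Subgroup G) ⊓ Subgroup.normalizer (T : Set G), inf_le_right,
    hS.to_le inf_le_left, h0, ?_⟩
  intro A' h' hh' hA' hAh'
  have hpsN : PSt p ↥(Subgroup.normalizer (T : Set G)) := by
    intro K Y _ f hf
    haveI : Finite Y := Finite.of_surjective f hf
    apply Cfsg.Agent.helper4.Red.isNormalizerPStable_of_not_hasSec hp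
    intro hsec
    have h1 := hsec.of_surjective f hf
    have h2 := h1.of_injective K.subtype K.subtype_injective
    exact hfree T hZT hTS (exists_section_le _ h2)
  have hT₁p' : IsPGroup p ↥(((S : Subgroup G) ⊓ Subgroup.normalizer (T : Set G)).subgroupOf
      (Subgroup.normalizer (T : Set G))) :=
    IsPGroup.comap_subtype (hS.to_le inf_le_left)
  obtain ⟨S₁, hS₁⟩ : ∃ S₁ : Sylow p ↥(Subgroup.normalizer (T : Set G)),
      (S₁ : Subgroup ↥(Subgroup.normalizer (T : Set G))) =
        ((S : Subgroup G) ⊓ Subgroup.normalizer (T : Set G)).subgroupOf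
          (Subgroup.normalizer (T : Set G)) :=
    ⟨hT₁p'.toSylow h0, IsPGroup.toSylow_coe hT₁p' h0⟩
  obtain ⟨d, hdN, hdb⟩ := zja_controls_of_pst hp hpsN S₁
    {b : ↥(Subgroup.normalizer (T : Set G)) | (b : G) ∈ A'}
    (by
      intro b hb
      rw [SetLike.mem_coe, hS₁, Subgroup.mem_subgroupOf]
      exact hA' hb)
    ⟨h', hh'⟩
    (by
      rintro _ ⟨b, hb, rfl⟩
      rw [SetLike.mem_coe, hS₁, Subgroup.mem_subgroupOf]
      exact hAh' ⟨(b : G), hb, rfl⟩)
  refine ⟨(d : G), ⟨d.2, ?_⟩, fun a ha => ?_⟩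
  · show (d : G) ∈ Subgroup.normalizer ((Cfsg.centerThompsonAOf
      ((S : Subgroup G) ⊓ Subgroup.normalizer (T : Set G)) : Subgroup G) : Set G)
    rw [← Subgroup.map_subgroupOf_eq_of_le
        (inf_le_right : (S : Subgroup G) ⊓ Subgroup.normalizer (T : Set G) ≤
          Subgroup.normalizer (T : Set G)),
      Cfsg.Agent.helper3.centerThompsonAOf_map (Subgroup.normalizer (T : Set G)).subtype
        (fun x _ hx => Subtype.ext hx), ← hS₁]
    exact Subgroup.le_normalizer_map _ ⟨d, hdN, rfl⟩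
  · have h1 := hdb ⟨a, (hA' ha).2⟩ ha
    exact congrArg Subtype.val h1

end Cfsg.Agent.helper18.AGZ
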