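import Mathlib

set_option autoImplicit false

namespace Cfsg.Agent.helper18

open SemidirectProduct

section sdp

variable {N G : Type*} [CommGroup N] [Group G] (φ : G →* MulAut N)

lemma sdp_pow_right (x : N ⋊[φ] G) (m : ℕ) : (x ^ m).right = x.right ^ m := by
  rw [← rightHom_eq_right, map_pow]

/-- If `g ^ m = 1` then `(n, g) ^ m` is `inl w` for a `w` fixed by `g`. -/
lemma sdp_pow_eq_inl (x : N ⋊[φ] G) (m : ℕ) (hm : x.right ^ m = 1) :
    ∃ w : N, x ^ m = inl w ∧ φ x.right w = w := by
  have h2 : (x ^ m).right = 1 := by rw [sdp_pow_right, hm]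
  refine ⟨(x ^ m).left, ?_, ?_⟩
  · ext
    · rfl
    · rw [h2]; rfl
  · have hc : x * x ^ m = x ^ m * x := (pow_mul_comm' x m).symm
    have h1 := congrArg SemidirectProduct.left hc
    rw [mul_left, mul_left, h2, map_one, MulAut.one_apply, mul_comm (x ^ m).left] at h1
    exact mul_left_cancel h1

lemma sdp_orderOf_right_dvd (x : N ⋊[φ] G) : orderOf x.right ∣ orderOf x := by
  have := orderOf_map_dvd (rightHom : N ⋊[φ] G →* G) x
  rwa [rightHom_eq_right] at this

/-- If `g` acts without non-trivial fixed points then `(n, g)` has the same order as `g`. -/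
lemma sdp_orderOf_eq_of_fpf (x : N ⋊[φ] G) (hfpf : ∀ w : N, φ x.right w = w → w = 1) :
    orderOf x = orderOf x.right := by
  apply Nat.dvd_antisymm _ (sdp_orderOf_right_dvd φ x)
  obtain ⟨w, hw, hfix⟩ := sdp_pow_eq_inl φ x (orderOf x.right) (pow_orderOf_eq_one _)
  rw [hfpf w hfix, map_one] at hw
  exact orderOf_dvd_of_pow_eq_one hw

/-- In `N ⋊ G` with `N` of exponent two, orders are `m` or `2m` with `m` the order in `G`. -/
lemma sdp_orderOf_cases [Finite G] (hN : ∀ n : N, n ^ 2 = 1) (x : N ⋊[φ] G) :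
    orderOf x = orderOf x.right ∨ orderOf x = 2 * orderOf x.right := by
  obtain ⟨w, hw, -⟩ := sdp_pow_eq_inl φ x (orderOf x.right) (pow_orderOf_eq_one _)
  have h2 : x ^ (orderOf x.right * 2) = 1 := by
    rw [pow_mul, hw, ← map_pow, hN, map_one]
  have hdvd : orderOf x ∣ orderOf x.right * 2 := orderOf_dvd_of_pow_eq_one h2
  obtain ⟨j, hj⟩ := sdp_orderOf_right_dvd φ x
  have hpos : 0 < orderOf x.right := orderOf_pos _
  rw [hj] at hdvd
  have hj2 : j ∣ 2 := (Nat.mul_dvd_mul_iff_left hpos).mp hdvd
  rcases (Nat.dvd_prime Nat.prime_two).mp hj2 with rfl | rfl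
  · left; rw [hj, mul_one]
  · right; rw [hj, mul_comm]

/-- Elements whose order is a product of two distinct primes project to elements of the same
order, if `N` has exponent two and elements of odd prime order act fixed-point-freely. -/
theorem sdp_orderOf_right_of_two_primes [Finite G] (hN : ∀ n : N, n ^ 2 = 1)
    (hodd : ∀ g : G, (orderOf g).Prime → orderOf g ≠ 2 → ∀ w : N, φ g w = w → w = 1)
    (x : N ⋊[φ] G) (p p' : ℕ) (hp : p.Prime) (hp' : p'.Prime) (hne : p ≠ p')
    (hx : orderOf x = p * p') : orderOf x.right = p * p' := by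
  rcases sdp_orderOf_cases φ hN x with h | h
  · rw [← h, hx]
  · exfalso
    rw [hx] at h
    have h2 : 2 ∣ p * p' := ⟨_, h⟩
    rcases (Nat.Prime.dvd_mul Nat.prime_two).mp h2 with h3 | h3
    · have hp2 : p = 2 := ((Nat.prime_dvd_prime_iff_eq Nat.prime_two hp).mp h3).symm
      subst hp2
      have hm : orderOf x.right = p' := (Nat.eq_of_mul_eq_mul_left (by norm_num) h).symm
      have hfp := sdp_orderOf_eq_of_fpf φ x
        (hodd x.right (hm ▸ hp') (by rw [hm]; exact fun h => hne h.symm))
      rw [hx, hm] at hfp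
      have := hp'.pos
      nlinarith
    · have hp2 : p' = 2 := ((Nat.prime_dvd_prime_iff_eq Nat.prime_two hp').mp h3).symm
      subst hp2
      have hm : orderOf x.right = p := by
        have : 2 * p = 2 * orderOf x.right := by rw [← h, mul_comm]
        exact (Nat.eq_of_mul_eq_mul_left (by norm_num) this).symm
      have hfp := sdp_orderOf_eq_of_fpf φ x
        (hodd x.right (hm ▸ hp) (by rw [hm]; exact hne))
      rw [hx, hm] at hfp
      have := hp.pos
      nlinarith

end sdp

section aff

open Matrix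

variable (F : Type*) [Field F]

/-- The natural action of `SL(2,F)` on the (multiplicative version of the) plane. -/
def affAct : Matrix.SpecialLinearGroup (Fin 2) F →* MulAut (Multiplicative (Fin 2 → F)) where
  toFun s :=
    { toFun := fun v => Multiplicative.ofAdd ((s : Matrix (Fin 2) (Fin 2) F) *ᵥ v.toAdd)
      invFun := fun v => Multiplicative.ofAdd
        (((s⁻¹ : Matrix.SpecialLinearGroup (Fin 2) F) : Matrix (Fin 2) (Fin 2) F) *ᵥ v.toAdd)
      left_inv := fun v => by
        simp only [toAdd_ofAdd, Matrix.mulVec_mulVec, ← Matrix.SpecialLinearGroup.coe_mul,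
          inv_mul_cancel, Matrix.SpecialLinearGroup.coe_one, Matrix.one_mulVec, ofAdd_toAdd]
      right_inv := fun v => by
        simp only [toAdd_ofAdd, Matrix.mulVec_mulVec, ← Matrix.SpecialLinearGroup.coe_mul,
          mul_inv_cancel, Matrix.SpecialLinearGroup.coe_one, Matrix.one_mulVec, ofAdd_toAdd]
      map_mul' := fun v w => by
        simp only [toAdd_mul, Matrix.mulVec_add, ofAdd_add] }
  map_one' := by
    ext v
    simp
  map_mul' s t := by
    apply MulEquiv.ext
    intro v
    change Multiplicative.ofAdd (((s * t : Matrix.SpecialLinearGroup (Fin 2) F) :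
      Matrix (Fin 2) (Fin 2) F) *ᵥ v.toAdd) =
      Multiplicative.ofAdd ((s : Matrix (Fin 2) (Fin 2) F) *ᵥ
        ((t : Matrix (Fin 2) (Fin 2) F) *ᵥ v.toAdd))
    rw [Matrix.SpecialLinearGroup.coe_mul, Matrix.mulVec_mulVec]

lemma affAct_apply (s : Matrix.SpecialLinearGroup (Fin 2) F) (v : Multiplicative (Fin 2 → F)) :
    affAct F s v = Multiplicative.ofAdd ((s : Matrix (Fin 2) (Fin 2) F) *ᵥ v.toAdd) := rfl

end aff

section mat

open Matrix

variable {F : Type*} [Field F]

/-- Cayley–Hamilton for `2 × 2` matrices. -/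
lemma mat2_cayley_hamilton (X : Matrix (Fin 2) (Fin 2) F) :
    X * X = X.trace • X - X.det • (1 : Matrix (Fin 2) (Fin 2) F) := by
  ext i j
  fin_cases i <;> fin_cases j <;>
    simp [Matrix.mul_apply, Fin.sum_univ_two, Matrix.trace, Matrix.det_fin_two] <;> ring

lemma mat2_det_sub_one (X : Matrix (Fin 2) (Fin 2) F) :
    (X - 1).det = X.det - X.trace + 1 := by
  simp [Matrix.det_fin_two, Matrix.trace, Fin.sum_univ_two]
  ring

lemma mat2_det_add_smul_one (X : Matrix (Fin 2) (Fin 2) F) (c : F) :
    (X + c • (1 : Matrix (Fin 2) (Fin 2) F)).det = X.det + c * X.trace + c ^ 2 := by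
  simp [Matrix.det_fin_two, Matrix.trace, Fin.sum_univ_two]
  ring

/-- In characteristic two, an element of `SL(2,F)` with a non-zero fixed vector squares to one. -/
lemma sl2_sq_eq_one_of_fixed [CharP F 2] (s : Matrix.SpecialLinearGroup (Fin 2) F)
    (w : Fin 2 → F) (hw : w ≠ 0) (hfix : (s : Matrix (Fin 2) (Fin 2) F) *ᵥ w = w) :
    s * s = 1 := by
  have hdet : ((s : Matrix (Fin 2) (Fin 2) F) - 1).det = 0 := by
    rw [← Matrix.exists_mulVec_eq_zero_iff]
    refine ⟨w, hw, ?_⟩
    rw [Matrix.sub_mulVec, hfix, Matrix.one_mulVec, sub_self]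
  rw [mat2_det_sub_one, s.det_coe] at hdet
  have h2 : (2 : F) = 0 := CharTwo.two_eq_zero
  have htr : (s : Matrix (Fin 2) (Fin 2) F).trace = 0 := by
    have : (s : Matrix (Fin 2) (Fin 2) F).trace = 2 := by linear_combination -hdet
    rw [this, h2]
  apply Subtype.ext
  rw [Matrix.SpecialLinearGroup.coe_mul, mat2_cayley_hamilton, htr, s.det_coe, zero_smul, zero_sub,
    one_smul, Matrix.SpecialLinearGroup.coe_one]
  exact CharTwo.neg_eq _

end mat

section G0

open Matrix

variable (F : Type*) [Field F]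

/-- The affine group `F² ⋊ SL(2,F)`. -/
abbrev AffSL2 := Multiplicative (Fin 2 → F) ⋊[affAct F] Matrix.SpecialLinearGroup (Fin 2) F

instance [Finite F] : Finite (AffSL2 F) := Finite.of_equiv _ SemidirectProduct.equivProd.symm

lemma affSL2_sq [CharP F 2] (n : Multiplicative (Fin 2 → F)) : n ^ 2 = 1 := by
  rw [pow_two]
  change Multiplicative.ofAdd (n.toAdd + n.toAdd) = Multiplicative.ofAdd 0
  congr 1
  funext i
  exact CharTwo.add_self_eq_zero _

lemma affSL2_fpf [CharP F 2] (g : Matrix.SpecialLinearGroup (Fin 2) F) (hg : (orderOf g).Prime)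
    (hg2 : orderOf g ≠ 2) (w : Multiplicative (Fin 2 → F)) (hw : affAct F g w = w) : w = 1 := by
  by_contra hne
  have hw0 : w.toAdd ≠ 0 := fun h => hne (by
    have : Multiplicative.ofAdd w.toAdd = Multiplicative.ofAdd 0 := by rw [h]
    simpa using this)
  have hfix : (g : Matrix (Fin 2) (Fin 2) F) *ᵥ w.toAdd = w.toAdd := by
    have := congrArg Multiplicative.toAdd hw
    rwa [affAct_apply, toAdd_ofAdd] at this
  have hsq : g ^ 2 = 1 := by
    rw [pow_two]
    exact sl2_sq_eq_one_of_fixed g _ hw0 hfix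
  have hdvd : orderOf g ∣ 2 := orderOf_dvd_of_pow_eq_one hsq
  rcases (Nat.dvd_prime Nat.prime_two).mp hdvd with h | h
  · rw [h] at hg
    exact Nat.not_prime_one hg
  · exact hg2 h

/-- Elements of `F² ⋊ SL(2,F)` (characteristic two) whose order is a product of two distinct
primes project onto elements of `SL(2,F)` of the same order. -/
theorem affSL2_orderOf_right [Finite F] [CharP F 2] (x : AffSL2 F) (p p' : ℕ) (hp : p.Prime)
    (hp' : p'.Prime) (hne : p ≠ p') (hx : orderOf x = p * p') : orderOf x.right = p * p' :=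
  sdp_orderOf_right_of_two_primes (affAct F) (affSL2_sq F) (affSL2_fpf F) x p p' hp hp' hne hx

/-- The translation subgroup. -/
def affTrans : Subgroup (AffSL2 F) := (inl : Multiplicative (Fin 2 → F) →* AffSL2 F).range

instance : (affTrans F).Normal := by
  unfold affTrans
  rw [range_inl_eq_ker_rightHom]
  infer_instance

lemma affTrans_ne_bot : affTrans F ≠ ⊥ := by
  intro h
  have hmem : (inl (Multiplicative.ofAdd (fun _ => (1 : F))) : AffSL2 F) ∈ affTrans F :=
    ⟨_, rfl⟩
  rw [h, Subgroup.mem_bot] at hmem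
  have h1 := congrArg SemidirectProduct.left hmem
  rw [left_inl, one_left] at h1
  have h2 := congrFun (congrArg Multiplicative.toAdd h1) 0
  simp at h2

lemma affTrans_isSolvable : Group.IsSolvable (affTrans F) := by
  apply Group.isSolvable_of_comm
  rintro ⟨a, n, rfl⟩ ⟨b, m, rfl⟩
  apply Subtype.ext
  change inl n * inl m = inl m * inl n
  rw [← map_mul, ← map_mul, mul_comm]

lemma card_affSL2 [Fintype F] :
    Nat.card (AffSL2 F) =
      Fintype.card F ^ 2 * Nat.card (Matrix.SpecialLinearGroup (Fin 2) F) := by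
  rw [SemidirectProduct.card]
  congr 1
  rw [Nat.card_eq_fintype_card, Fintype.card_multiplicative, Fintype.card_fun, Fintype.card_fin]

end G0

section PSL

variable (F : Type*) [Field F]

lemma sl2_center_eq_bot [CharP F 2] :
    Subgroup.center (Matrix.SpecialLinearGroup (Fin 2) F) = ⊥ := by
  rw [eq_bot_iff]
  intro A hA
  rw [Matrix.SpecialLinearGroup.mem_center_iff] at hA
  obtain ⟨r, hr, hrA⟩ := hA
  rw [Subgroup.mem_bot]
  simp only [Fintype.card_fin] at hr
  have hr1 : r = 1 := by
    have : (r - 1) ^ 2 = 0 := by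
      have h2 : (2 : F) = 0 := CharTwo.two_eq_zero
      linear_combination hr + (1 - r) * h2
    have := pow_eq_zero_iff (two_ne_zero) |>.mp this
    linear_combination this
  apply Subtype.ext
  rw [← hrA, hr1]
  simp

/-- In characteristic two, `PSL(2,F)` is isomorphic to `SL(2,F)`. -/
noncomputable def psl2EquivSL2 [CharP F 2] :
    Matrix.ProjectiveSpecialLinearGroup (Fin 2) F ≃* Matrix.SpecialLinearGroup (Fin 2) F :=
  (QuotientGroup.quotientMulEquivOfEq (sl2_center_eq_bot F)).trans QuotientGroup.quotientBot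

end PSL

end Cfsg.Agent.helper18
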