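import Mathlib

/-!
# Arad–Herzog property for alternating groups (fixed-point count version)

For `a, b ≠ 1` permutations on at least 5 points, the number of fixed points is not constant on
products of `A_n`-conjugates of `a` and `b`.  The proof is by explicit local moves.
-/

namespace Cfsg.Agent.helper18.AH

open Equiv Function

variable {α : Type*} [Fintype α] [DecidableEq α]

theorem exists_moved {g : Perm α} (hg : g ≠ 1) : ∃ u, g u ≠ u := by
  by_contra hcon
  push Not at hcon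
  exact hg (Equiv.Perm.ext fun z => by simpa using hcon z)

theorem p_apply_inv (f : Perm α) (x : α) : f (f⁻¹ x) = x := by
  rw [← Perm.mul_apply, mul_inv_cancel, Perm.one_apply]

theorem p_inv_apply (f : Perm α) (x : α) : f⁻¹ (f x) = x := by
  rw [← Perm.mul_apply, inv_mul_cancel, Perm.one_apply]

theorem exists_not_mem (s : Finset α) (h : s.card < Fintype.card α) : ∃ q, q ∉ s := by
  by_contra hcon
  push Not at hcon
  have : s = Finset.univ := Finset.eq_univ_iff_forall.2 hcon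
  rw [this, Finset.card_univ] at h
  exact lt_irrefl _ h

theorem card_fix_conj (t c : Perm α) :
    Nat.card (fixedPoints ⇑(t * c * t⁻¹)) = Nat.card (fixedPoints ⇑c) := by
  have hset : fixedPoints ⇑(t * c * t⁻¹) = ⇑t '' fixedPoints ⇑c := by
    ext z
    rw [mem_fixedPoints_iff, Set.mem_image, Perm.mul_apply, Perm.mul_apply]
    constructor
    · intro h
      refine ⟨t⁻¹ z, ?_, p_apply_inv t z⟩
      rw [mem_fixedPoints_iff]
      have := congrArg (⇑t⁻¹) h
      rwa [p_inv_apply] at this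
    · rintro ⟨w, hw, rfl⟩
      rw [mem_fixedPoints_iff] at hw
      rw [p_inv_apply, hw]
  rw [Nat.card_coe_set_eq, Nat.card_coe_set_eq, hset,
    Set.ncard_image_of_injective _ t.injective]

theorem card_fix_comm (c d : Perm α) :
    Nat.card (fixedPoints ⇑(c * d)) = Nat.card (fixedPoints ⇑(d * c)) := by
  have e : d * c = d * (c * d) * d⁻¹ := by simp [mul_assoc]
  rw [e, card_fix_conj]

theorem fix_lt_of_local (a b₁ b₂ : Perm α) (x : α)
    (hx1 : a (b₁ x) = x)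
    (h2 : ∀ z, a (b₂ z) = z → z ≠ x ∧ a (b₁ z) = z) :
    Nat.card (fixedPoints ⇑(a * b₂)) < Nat.card (fixedPoints ⇑(a * b₁)) := by
  rw [Nat.card_coe_set_eq, Nat.card_coe_set_eq]
  apply Set.ncard_lt_ncard _ (Set.toFinite _)
  have hsub : fixedPoints ⇑(a * b₂) ⊆ fixedPoints ⇑(a * b₁) := by
    intro z hz
    rw [mem_fixedPoints_iff] at hz ⊢
    rw [Perm.mul_apply] at hz ⊢
    exact (h2 z hz).2
  refine (Set.ssubset_iff_of_subset hsub).2 ⟨x, ?_, ?_⟩
  · rw [mem_fixedPoints_iff, Perm.mul_apply]; exact hx1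
  · intro hx
    rw [mem_fixedPoints_iff, Perm.mul_apply] at hx
    exact (h2 x hx).1 rfl

theorem move_swap (a b₁ : Perm α) (x y q : α)
    (hbx : b₁ x = y) (hay : a y = x) (hxy : x ≠ y)
    (hqx : q ≠ x) (hqy : q ≠ y) (hbyq : b₁ y ≠ q)
    (h3 : a (b₁ y) ≠ q) (h4 : a (swap y q (b₁ q)) ≠ y) :
    Nat.card (fixedPoints ⇑(a * (swap y q * b₁ * (swap y q)⁻¹))) <
      Nat.card (fixedPoints ⇑(a * b₁)) := by
  apply fix_lt_of_local a b₁ _ x (by rw [hbx, hay])
  intro z hz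
  rw [swap_inv, Perm.mul_apply, Perm.mul_apply] at hz
  have hby : b₁ y ≠ y := fun h => hxy (b₁.injective (hbx.trans h.symm))
  by_cases hzx : z = x
  · exfalso
    rw [hzx, swap_apply_of_ne_of_ne hxy hqx.symm, hbx, swap_apply_left] at hz
    exact hqy (a.injective (hz.trans hay.symm))
  by_cases hzq : z = q
  · exfalso
    rw [hzq, swap_apply_right, swap_apply_of_ne_of_ne hby hbyq] at hz
    exact h3 hz
  by_cases hzy : z = y
  · exfalso
    rw [hzy, swap_apply_left] at hz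
    exact h4 hz
  refine ⟨hzx, ?_⟩
  rw [swap_apply_of_ne_of_ne hzy hzq] at hz
  by_cases h1 : b₁ z = y
  · exact absurd (b₁.injective (h1.trans hbx.symm)) hzx
  by_cases h5 : b₁ z = q
  · exfalso
    rw [h5, swap_apply_right, hay] at hz
    exact hzx hz.symm
  rw [swap_apply_of_ne_of_ne h1 h5] at hz
  exact hz

theorem move_three (a b₁ : Perm α) (x y z₁ z₂ z₃ : α)
    (hbx : b₁ x = y) (hby : b₁ y = z₁) (hbz₁ : b₁ z₁ = z₂) (hbz₂ : b₁ z₂ = z₃)
    (hay : a y = x) (haz : a z₁ = y)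
    (hxy : x ≠ y) (hxz₁ : x ≠ z₁) (hxz₂ : x ≠ z₂) (hyz₁ : y ≠ z₁) (hyz₂ : y ≠ z₂)
    (hyz₃ : y ≠ z₃) (hz₁z₂ : z₁ ≠ z₂) (hz₁z₃ : z₁ ≠ z₃) (hz₂z₃ : z₂ ≠ z₃) :
    Nat.card (fixedPoints
        ⇑(a * ((swap y z₁ * swap z₁ z₂) * b₁ * (swap y z₁ * swap z₁ z₂)⁻¹))) <
      Nat.card (fixedPoints ⇑(a * b₁)) := by
  apply fix_lt_of_local a b₁ _ x (by rw [hbx, hay])
  intro z hz
  rw [mul_inv_rev, swap_inv, swap_inv] at hz
  simp only [Perm.mul_apply] at hz
  by_cases hzx : z = x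
  · exfalso
    rw [hzx, swap_apply_of_ne_of_ne hxy hxz₁, swap_apply_of_ne_of_ne hxz₁ hxz₂, hbx,
      swap_apply_of_ne_of_ne hyz₁ hyz₂, swap_apply_left, haz] at hz
    exact hxy hz.symm
  by_cases hzy : z = y
  · exfalso
    rw [hzy, swap_apply_left, swap_apply_left, hbz₂,
      swap_apply_of_ne_of_ne hz₁z₃.symm hz₂z₃.symm,
      swap_apply_of_ne_of_ne hyz₃.symm hz₁z₃.symm] at hz
    exact hz₁z₃ (a.injective (haz.trans hz.symm))
  by_cases hzz₂ : z = z₂
  · exfalso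
    rw [hzz₂, swap_apply_of_ne_of_ne hyz₂.symm hz₁z₂.symm, swap_apply_right, hbz₁,
      swap_apply_right, swap_apply_right, hay] at hz
    exact hxz₂ hz
  by_cases hzz₁ : z = z₁
  · rw [hzz₁, swap_apply_right, swap_apply_of_ne_of_ne hyz₁ hyz₂, hby, swap_apply_left,
      swap_apply_of_ne_of_ne hyz₂.symm hz₁z₂.symm] at hz
    refine ⟨?_, ?_⟩
    · rw [hzz₁]; exact hxz₁.symm
    · rw [hzz₁, hbz₁]; exact hz
  rw [swap_apply_of_ne_of_ne hzy hzz₁, swap_apply_of_ne_of_ne hzz₁ hzz₂] at hz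
  have t1 : b₁ z ≠ y := fun h => hzx (b₁.injective (h.trans hbx.symm))
  have t2 : b₁ z ≠ z₁ := fun h => hzy (b₁.injective (h.trans hby.symm))
  have t3 : b₁ z ≠ z₂ := fun h => hzz₁ (b₁.injective (h.trans hbz₁.symm))
  rw [swap_apply_of_ne_of_ne t2 t3, swap_apply_of_ne_of_ne t1 t2] at hz
  exact ⟨hzx, hz⟩

theorem conj_apply_of_eq (h b : Perm α) {u x : α} (hu : h u = x) :
    (h * b * h⁻¹) x = h (b u) := by
  rw [Perm.mul_apply, Perm.mul_apply, ← hu, p_inv_apply]

theorem inj2 {u v : α} (huv : u ≠ v) : Function.Injective ![u, v] := by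
  intro i j hij
  fin_cases i <;> fin_cases j <;> simp at hij <;>
    first
      | rfl
      | exact absurd hij huv
      | exact absurd hij.symm huv

theorem inj3 {u v w : α} (huv : u ≠ v) (huw : u ≠ w) (hvw : v ≠ w) :
    Function.Injective ![u, v, w] := by
  intro i j hij
  fin_cases i <;> fin_cases j <;> simp at hij <;>
    first
      | rfl
      | exact absurd hij huv
      | exact absurd hij huw
      | exact absurd hij hvw
      | exact absurd hij.symm huv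
      | exact absurd hij.symm huw
      | exact absurd hij.symm hvw

theorem exists_perm2 {u v x y : α} (huv : u ≠ v) (hxy : x ≠ y) :
    ∃ h : Perm α, h u = x ∧ h v = y := by
  obtain ⟨σ, hσ⟩ := Equiv.Perm.exists_extending_pair (α := Fin 2) ![u, v] ![x, y]
    (inj2 huv) (inj2 hxy)
  exact ⟨σ, by simpa using hσ 0, by simpa using hσ 1⟩

theorem exists_perm3 {u v w x y z : α} (huv : u ≠ v) (huw : u ≠ w) (hvw : v ≠ w)
    (hxy : x ≠ y) (hxz : x ≠ z) (hyz : y ≠ z) :
    ∃ h : Perm α, h u = x ∧ h v = y ∧ h w = z := by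
  obtain ⟨σ, hσ⟩ := Equiv.Perm.exists_extending_pair (α := Fin 3) ![u, v, w] ![x, y, z]
    (inj3 huv huw hvw) (inj3 hxy hxz hyz)
  exact ⟨σ, by simpa using hσ 0, by simpa using hσ 1, by simpa using hσ 2⟩

theorem exists_even3 {u v w p p' x y z : α} (huv : u ≠ v) (huw : u ≠ w) (hvw : v ≠ w)
    (hup : u ≠ p) (hup' : u ≠ p') (hvp : v ≠ p) (hvp' : v ≠ p') (hwp : w ≠ p) (hwp' : w ≠ p')
    (hpp' : p ≠ p') (hxy : x ≠ y) (hxz : x ≠ z) (hyz : y ≠ z) :
    ∃ h : Perm α, Perm.sign h = 1 ∧ h u = x ∧ h v = y ∧ h w = z := by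
  obtain ⟨h, h1, h2, h3⟩ := exists_perm3 huv huw hvw hxy hxz hyz
  rcases Int.units_eq_one_or (Perm.sign h) with hs | hs
  · exact ⟨h, hs, h1, h2, h3⟩
  · refine ⟨h * swap p p', ?_, ?_, ?_, ?_⟩
    · rw [Perm.sign_mul, hs, Perm.sign_swap hpp']; simp
    · rw [Perm.mul_apply, swap_apply_of_ne_of_ne hup hup', h1]
    · rw [Perm.mul_apply, swap_apply_of_ne_of_ne hvp hvp', h2]
    · rw [Perm.mul_apply, swap_apply_of_ne_of_ne hwp hwp', h3]

/-- non-constancy with arbitrary conjugators -/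
def NC (a b : Perm α) : Prop :=
  ∃ k₁ k₂ : Perm α, Nat.card (fixedPoints ⇑(a * (k₁ * b * k₁⁻¹))) ≠
    Nat.card (fixedPoints ⇑(a * (k₂ * b * k₂⁻¹)))

/-- non-constancy with even conjugators -/
def NCe (a b : Perm α) : Prop :=
  ∃ k₁ k₂ : Perm α, Perm.sign k₁ = 1 ∧ Perm.sign k₂ = 1 ∧
    Nat.card (fixedPoints ⇑(a * (k₁ * b * k₁⁻¹))) ≠
      Nat.card (fixedPoints ⇑(a * (k₂ * b * k₂⁻¹)))

theorem fix_swap_roles (a b k : Perm α) :
    Nat.card (fixedPoints ⇑(a * (k⁻¹ * b * (k⁻¹)⁻¹))) =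
      Nat.card (fixedPoints ⇑(b * (k * a * k⁻¹))) := by
  have e : a * (k⁻¹ * b * (k⁻¹)⁻¹) = k⁻¹ * ((k * a * k⁻¹) * b) * (k⁻¹)⁻¹ := by
    simp [mul_assoc]
  rw [e, card_fix_conj, card_fix_comm]

theorem nc_symm {a b : Perm α} (h : NC b a) : NC a b := by
  obtain ⟨k₁, k₂, hne⟩ := h
  refine ⟨k₁⁻¹, k₂⁻¹, ?_⟩
  rw [fix_swap_roles, fix_swap_roles]
  exact hne

theorem nce_of_nc_right (a b s : Perm α) (hsb : b * s = s * b) (hs : Perm.sign s = -1)
    (h : NC a b) : NCe a b := by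
  have key : ∀ k : Perm α, ∃ k' : Perm α, Perm.sign k' = 1 ∧ k' * b * k'⁻¹ = k * b * k⁻¹ := by
    intro k
    rcases Int.units_eq_one_or (Perm.sign k) with hk | hk
    · exact ⟨k, hk, rfl⟩
    · refine ⟨k * s, by rw [Perm.sign_mul, hk, hs]; simp, ?_⟩
      have e1 : s * b * s⁻¹ = b := by rw [← hsb, mul_assoc, mul_inv_cancel, mul_one]
      calc k * s * b * (k * s)⁻¹ = k * (s * b * s⁻¹) * k⁻¹ := by simp [mul_assoc]
        _ = k * b * k⁻¹ := by rw [e1]
  obtain ⟨k₁, k₂, hne⟩ := h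
  obtain ⟨k₁', hs1, e1⟩ := key k₁
  obtain ⟨k₂', hs2, e2⟩ := key k₂
  exact ⟨k₁', k₂', hs1, hs2, by rw [e1, e2]; exact hne⟩

theorem nce_of_nc_left (a b s : Perm α) (hsa : a * s = s * a) (hs : Perm.sign s = -1)
    (h : NC a b) : NCe a b := by
  have key : ∀ k : Perm α, ∃ k' : Perm α, Perm.sign k' = 1 ∧
      Nat.card (fixedPoints ⇑(a * (k' * b * k'⁻¹))) =
        Nat.card (fixedPoints ⇑(a * (k * b * k⁻¹))) := by
    intro k
    rcases Int.units_eq_one_or (Perm.sign k) with hk | hk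
    · exact ⟨k, hk, rfl⟩
    · refine ⟨s * k, by rw [Perm.sign_mul, hk, hs]; simp, ?_⟩
      have e : a * (s * k * b * (s * k)⁻¹) = s * (a * (k * b * k⁻¹)) * s⁻¹ := by
        calc a * (s * k * b * (s * k)⁻¹) = (a * s) * (k * b * k⁻¹) * s⁻¹ := by
              simp [mul_assoc]
          _ = (s * a) * (k * b * k⁻¹) * s⁻¹ := by rw [hsa]
          _ = s * (a * (k * b * k⁻¹)) * s⁻¹ := by simp [mul_assoc]
      rw [e, card_fix_conj]
  obtain ⟨k₁, k₂, hne⟩ := h
  obtain ⟨k₁', hs1, e1⟩ := key k₁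
  obtain ⟨k₂', hs2, e2⟩ := key k₂
  exact ⟨k₁', k₂', hs1, hs2, by rw [e1, e2]; exact hne⟩

theorem nc_of_two_cycle (a b : Perm α) (h5 : 5 ≤ Fintype.card α) (ha : a ≠ 1)
    (u : α) (hu : b u ≠ u) (huu : b (b u) = u) : NC a b := by
  obtain ⟨y, hy⟩ := exists_moved ha
  obtain ⟨h, h1, h2⟩ := exists_perm2 (u := u) (v := b u) (x := a y) (y := y) hu.symm hy
  obtain ⟨b₁, hb₁⟩ : ∃ b₁, b₁ = h * b * h⁻¹ := ⟨_, rfl⟩
  have hbx : b₁ (a y) = y := by rw [hb₁, conj_apply_of_eq h b h1, h2]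
  have hby : b₁ y = a y := by rw [hb₁, conj_apply_of_eq h b h2, huu, h1]
  obtain ⟨q, hq⟩ := exists_not_mem ({a y, y, a (a y), b₁⁻¹ (a⁻¹ y)} : Finset α)
    (lt_of_le_of_lt Finset.card_le_four (by omega))
  simp only [Finset.mem_insert, Finset.mem_singleton, not_or] at hq
  obtain ⟨hq1, hq2, hq3, hq4⟩ := hq
  have h4 : a (swap y q (b₁ q)) ≠ y := by
    intro e
    have e' : swap y q (b₁ q) = a⁻¹ y := by
      have := congrArg (⇑a⁻¹) e
      rwa [p_inv_apply] at this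
    have e'' : b₁ q = swap y q (a⁻¹ y) := by
      have := congrArg (⇑(swap y q)) e'
      rwa [swap_apply_self] at this
    by_cases c1 : a⁻¹ y = y
    · apply hy
      have := congrArg (⇑a) c1
      rw [p_apply_inv] at this
      exact this.symm
    · by_cases c2 : a⁻¹ y = q
      · rw [c2, swap_apply_right] at e''
        exact hq1 (b₁.injective (e''.trans hbx.symm))
      · rw [swap_apply_of_ne_of_ne c1 c2] at e''
        apply hq4
        rw [← e'', p_inv_apply]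
  have key := move_swap a b₁ (a y) y q hbx rfl hy hq1 hq2
    (by rw [hby]; exact fun e => hq1 e.symm) (by rw [hby]; exact fun e => hq3 e.symm) h4
  refine ⟨swap y q * h, h, ?_⟩
  have e : swap y q * h * b * (swap y q * h)⁻¹ = swap y q * b₁ * (swap y q)⁻¹ := by
    rw [hb₁]; simp [mul_assoc]
  rw [e, ← hb₁]
  exact key.ne

theorem nc_of_paths (a b : Perm α) (h5 : 5 ≤ Fintype.card α)
    (p : α) (hp1 : a p ≠ p) (hp2 : a (a p) ≠ p)
    (u : α) (hu1 : b u ≠ u) (hu2 : b (b u) ≠ u) : NC a b := by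
  have hxy : a (a p) ≠ a p := fun e => hp1 (a.injective e)
  have hvw : b u ≠ b (b u) := fun e => hu1 (b.injective e).symm
  obtain ⟨h, h1, h2, h3⟩ := exists_perm3 (u := u) (v := b u) (w := b (b u))
    (x := a (a p)) (y := a p) (z := p) hu1.symm hu2.symm hvw hxy hp2 hp1
  obtain ⟨b₁, hb₁⟩ : ∃ b₁, b₁ = h * b * h⁻¹ := ⟨_, rfl⟩
  have hbx : b₁ (a (a p)) = a p := by rw [hb₁, conj_apply_of_eq h b h1, h2]
  have hby : b₁ (a p) = p := by rw [hb₁, conj_apply_of_eq h b h2, h3]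
  obtain ⟨q, hq⟩ := exists_not_mem ({a (a p), a p, p} : Finset α)
    (lt_of_le_of_lt Finset.card_le_three (by omega))
  simp only [Finset.mem_insert, Finset.mem_singleton, not_or] at hq
  obtain ⟨hq1, hq2, hq3⟩ := hq
  have h4 : a (swap (a p) q (b₁ q)) ≠ a p := by
    intro e
    have e' : swap (a p) q (b₁ q) = p := a.injective e
    have e'' : b₁ q = swap (a p) q p := by
      have := congrArg (⇑(swap (a p) q)) e'
      rwa [swap_apply_self] at this
    rw [swap_apply_of_ne_of_ne hp1.symm (fun e => hq3 e.symm)] at e''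
    exact hq2 (b₁.injective (e''.trans hby.symm))
  have key := move_swap a b₁ (a (a p)) (a p) q hbx rfl hxy hq1 hq2
    (by rw [hby]; exact fun e => hq3 e.symm) (by rw [hby]; exact fun e => hq2 e.symm) h4
  refine ⟨swap (a p) q * h, h, ?_⟩
  have e : swap (a p) q * h * b * (swap (a p) q * h)⁻¹ =
      swap (a p) q * b₁ * (swap (a p) q)⁻¹ := by
    rw [hb₁]; simp [mul_assoc]
  rw [e, ← hb₁]
  exact key.ne

theorem nc_main (a b : Perm α) (h5 : 5 ≤ Fintype.card α) (ha : a ≠ 1) (hb : b ≠ 1) :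
    NC a b := by
  by_cases hb2 : ∃ u, b u ≠ u ∧ b (b u) = u
  · obtain ⟨u, hu, huu⟩ := hb2
    exact nc_of_two_cycle a b h5 ha u hu huu
  by_cases ha2 : ∃ p, a p ≠ p ∧ a (a p) = p
  · obtain ⟨p, hp, hpp⟩ := ha2
    exact nc_symm (nc_of_two_cycle b a h5 hb p hp hpp)
  push Not at hb2 ha2
  obtain ⟨u, hu⟩ := exists_moved hb
  obtain ⟨p, hp⟩ := exists_moved ha
  exact nc_of_paths a b h5 p hp (ha2 p hp) u hu (hb2 u hu)

theorem exists_long_orbit (g : Perm α)
    (hC : Subgroup.centralizer {g} ≤ alternatingGroup α)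
    (h5 : 5 ≤ Fintype.card α) : ∃ u, ∀ k : ℕ, 0 < k → k < 5 → (g ^ k) u ≠ u := by
  obtain ⟨hodd, hcard, hcount⟩ := Equiv.Perm.centralizer_le_alternating_iff.1 hC
  have hex : ∃ c ∈ g.cycleType, 5 ≤ c := by
    by_contra hcon
    push Not at hcon
    have hall : ∀ c ∈ g.cycleType, c = 3 := by
      intro c hc
      have h2 := Equiv.Perm.two_le_of_mem_cycleType hc
      have h4 := hcon c hc
      rcases hodd c hc with ⟨m, hm⟩
      omega
    have hcm : Multiset.card g.cycleType ≤ 1 := by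
      have := (Multiset.count_eq_card (a := 3) (s := g.cycleType)).2
        (fun x hx => (hall x hx).symm)
      rw [← this]; exact hcount 3
    have hsum : g.cycleType.sum ≤ Multiset.card g.cycleType • 3 :=
      Multiset.sum_le_card_nsmul _ _ (fun x hx => (hall x hx).le)
    rw [smul_eq_mul] at hsum
    omega
  obtain ⟨c, hc, hc5⟩ := hex
  rw [Equiv.Perm.cycleType_def, Multiset.mem_map] at hc
  obtain ⟨σ, hσ, rfl⟩ := hc
  have hσ' : σ ∈ g.cycleFactorsFinset := hσ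
  obtain ⟨hcyc, -⟩ := Equiv.Perm.mem_cycleFactorsFinset_iff.1 hσ'
  obtain ⟨u, hu⟩ := hcyc.nonempty_support
  refine ⟨u, fun k hk0 hk5 hfix => ?_⟩
  have hσu : σ = g.cycleOf u := Equiv.Perm.cycle_is_cycleOf hu hσ'
  have h1 : (σ ^ k) u = u := by rw [hσu, Equiv.Perm.cycleOf_pow_apply_self]; exact hfix
  have h2 : σ ^ k = 1 := (hcyc.pow_eq_one_iff' (Equiv.Perm.mem_support.1 hu)).2 h1
  have h3 : orderOf σ ∣ k := orderOf_dvd_of_pow_eq_one h2
  rw [hcyc.orderOf] at h3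
  have := Nat.le_of_dvd hk0 h3
  simp only [Function.comp_apply] at hc5
  omega

theorem five_points (g : Perm α) (hC : Subgroup.centralizer {g} ≤ alternatingGroup α)
    (h5 : 5 ≤ Fintype.card α) :
    ∃ u, g u ≠ u ∧ g (g u) ≠ u ∧ g (g (g u)) ≠ u ∧ g (g (g (g u))) ≠ u := by
  obtain ⟨u, hu⟩ := exists_long_orbit g hC h5
  refine ⟨u, ?_, ?_, ?_, ?_⟩
  · have := hu 1 (by norm_num) (by norm_num)
    rwa [pow_one] at this
  · have := hu 2 (by norm_num) (by norm_num)
    rwa [pow_two, Perm.mul_apply] at this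
  · have := hu 3 (by norm_num) (by norm_num)
    rwa [show g ^ 3 = g * g * g by rw [pow_succ, pow_two], Perm.mul_apply,
      Perm.mul_apply] at this
  · have := hu 4 (by norm_num) (by norm_num)
    rwa [show g ^ 4 = g * g * g * g by rw [pow_succ, pow_succ, pow_two], Perm.mul_apply,
      Perm.mul_apply, Perm.mul_apply] at this

theorem nce_of_split (a b : Perm α) (h5 : 5 ≤ Fintype.card α)
    (hCa : Subgroup.centralizer {a} ≤ alternatingGroup α)
    (hCb : Subgroup.centralizer {b} ≤ alternatingGroup α) : NCe a b := by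
  obtain ⟨p, hp1, hp2, -, -⟩ := five_points a hCa h5
  obtain ⟨u, hu1, hu2, hu3, hu4⟩ := five_points b hCb h5
  have d01 : u ≠ b u := hu1.symm
  have d02 : u ≠ b (b u) := hu2.symm
  have d03 : u ≠ b (b (b u)) := hu3.symm
  have d04 : u ≠ b (b (b (b u))) := hu4.symm
  have d12 : b u ≠ b (b u) := fun e => d01 (b.injective e)
  have d13 : b u ≠ b (b (b u)) := fun e => d02 (b.injective e)
  have d14 : b u ≠ b (b (b (b u))) := fun e => d03 (b.injective e)
  have d23 : b (b u) ≠ b (b (b u)) := fun e => d12 (b.injective e)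
  have d24 : b (b u) ≠ b (b (b (b u))) := fun e => d13 (b.injective e)
  have d34 : b (b (b u)) ≠ b (b (b (b u))) := fun e => d23 (b.injective e)
  have hxy : a (a p) ≠ a p := fun e => hp1 (a.injective e)
  obtain ⟨h, hs, h1, h2, h3⟩ := exists_even3 (u := u) (v := b u) (w := b (b u))
    (p := b (b (b u))) (p' := b (b (b (b u)))) (x := a (a p)) (y := a p) (z := p)
    d01 d02 d12 d03 d04 d13 d14 d23 d24 d34 hxy hp2 hp1
  obtain ⟨b₁, hb₁⟩ : ∃ b₁, b₁ = h * b * h⁻¹ := ⟨_, rfl⟩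
  have key := move_three a b₁ (h u) (h (b u)) (h (b (b u))) (h (b (b (b u))))
    (h (b (b (b (b u)))))
    (by rw [hb₁, conj_apply_of_eq h b rfl]) (by rw [hb₁, conj_apply_of_eq h b rfl])
    (by rw [hb₁, conj_apply_of_eq h b rfl]) (by rw [hb₁, conj_apply_of_eq h b rfl])
    (by rw [h2, h1]) (by rw [h3, h2])
    (h.injective.ne d01) (h.injective.ne d02) (h.injective.ne d03) (h.injective.ne d12)
    (h.injective.ne d13) (h.injective.ne d14) (h.injective.ne d23) (h.injective.ne d24)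
    (h.injective.ne d34)
  refine ⟨swap (h (b u)) (h (b (b u))) * swap (h (b (b u))) (h (b (b (b u)))) * h, h,
    ?_, hs, ?_⟩
  · rw [Perm.sign_mul, Perm.sign_mul, Perm.sign_swap (h.injective.ne d12),
      Perm.sign_swap (h.injective.ne d23), hs]
    simp
  · have e : swap (h (b u)) (h (b (b u))) * swap (h (b (b u))) (h (b (b (b u)))) * h * b *
        (swap (h (b u)) (h (b (b u))) * swap (h (b (b u))) (h (b (b (b u)))) * h)⁻¹ =
        (swap (h (b u)) (h (b (b u))) * swap (h (b (b u))) (h (b (b (b u))))) * b₁ *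
        (swap (h (b u)) (h (b (b u))) * swap (h (b (b u))) (h (b (b (b u)))))⁻¹ := by
      rw [hb₁]; simp [mul_assoc]
    rw [e, ← hb₁]
    exact key.ne

theorem nce_main (a b : Perm α) (ha : a ≠ 1) (hb : b ≠ 1) (h5 : 5 ≤ Fintype.card α) :
    NCe a b := by
  by_cases hCb : Subgroup.centralizer {b} ≤ alternatingGroup α
  · by_cases hCa : Subgroup.centralizer {a} ≤ alternatingGroup α
    · exact nce_of_split a b h5 hCa hCb
    · obtain ⟨s, hs, hsn⟩ := SetLike.not_le_iff_exists.1 hCa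
      have hsa := Subgroup.mem_centralizer_iff.1 hs a (Set.mem_singleton a)
      have hsign : Perm.sign s = -1 := by
        rcases Int.units_eq_one_or (Perm.sign s) with h | h
        · exact absurd (Perm.mem_alternatingGroup.2 h) hsn
        · exact h
      exact nce_of_nc_left a b s hsa hsign (nc_main a b h5 ha hb)
  · obtain ⟨s, hs, hsn⟩ := SetLike.not_le_iff_exists.1 hCb
    have hsb := Subgroup.mem_centralizer_iff.1 hs b (Set.mem_singleton b)
    have hsign : Perm.sign s = -1 := by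
      rcases Int.units_eq_one_or (Perm.sign s) with h | h
      · exact absurd (Perm.mem_alternatingGroup.2 h) hsn
      · exact h
    exact nce_of_nc_right a b s hsb hsign (nc_main a b h5 ha hb)

theorem main (n : ℕ) (hn : 5 ≤ n) (a b : Perm (Fin n)) (ha : a ≠ 1) (hb : b ≠ 1) :
    ∃ g₁ h₁ g₂ h₂ : Perm (Fin n), g₁ ∈ alternatingGroup (Fin n) ∧
      h₁ ∈ alternatingGroup (Fin n) ∧ g₂ ∈ alternatingGroup (Fin n) ∧
      h₂ ∈ alternatingGroup (Fin n) ∧
      Nat.card (fixedPoints ⇑(g₁ * a * g₁⁻¹ * (h₁ * b * h₁⁻¹))) ≠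
        Nat.card (fixedPoints ⇑(g₂ * a * g₂⁻¹ * (h₂ * b * h₂⁻¹))) := by
  obtain ⟨k₁, k₂, hs1, hs2, hne⟩ := nce_main a b ha hb (by rw [Fintype.card_fin]; exact hn)
  have e1 : (1 : Perm (Fin n)) * a * 1⁻¹ = a := by simp
  refine ⟨1, k₁, 1, k₂, one_mem _, Perm.mem_alternatingGroup.2 hs1, one_mem _,
    Perm.mem_alternatingGroup.2 hs2, ?_⟩
  rw [e1]
  exact hne

end Cfsg.Agent.helper18.AH
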