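import Mathlib

set_option autoImplicit false

namespace Cfsg.Agent.helper18

section NNormal

variable {H : Type*} [Group H]

/-- `X` is a subgroup of `N` normalised by `N`. -/
def NNormal (N X : Subgroup H) : Prop := X ≤ N ∧ ∀ n ∈ N, ∀ x ∈ X, n * x * n⁻¹ ∈ X

lemma NNormal.inf {N X Y : Subgroup H} (hX : NNormal N X) (hY : NNormal N Y) :
    NNormal N (X ⊓ Y) :=
  ⟨inf_le_of_left_le hX.1, fun n hn x hx => ⟨hX.2 n hn x hx.1, hY.2 n hn x hx.2⟩⟩

lemma NNormal.map_conj_le {N X : Subgroup H} (hX : NNormal N X) (n : H) (hn : n ∈ N) :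
    X.map (MulAut.conj n).toMonoidHom ≤ X := by
  rintro _ ⟨x, hx, rfl⟩
  exact hX.2 n hn x hx

lemma NNormal.sup {N X Y : Subgroup H} (hX : NNormal N X) (hY : NNormal N Y) :
    NNormal N (X ⊔ Y) := by
  refine ⟨sup_le hX.1 hY.1, fun n hn x hx => ?_⟩
  have h1 : (X ⊔ Y).map (MulAut.conj n).toMonoidHom ≤ X ⊔ Y := by
    rw [Subgroup.map_sup]
    exact sup_le_sup (hX.map_conj_le n hn) (hY.map_conj_le n hn)
  exact h1 ⟨x, hx, rfl⟩

lemma NNormal.bot (N : Subgroup H) : NNormal N ⊥ := by
  refine ⟨bot_le, fun n _ x hx => ?_⟩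
  rw [Subgroup.mem_bot] at hx ⊢
  rw [hx]
  group

lemma NNormal.conj {N X : Subgroup H} [N.Normal] (hX : NNormal N X) (h : H) :
    NNormal N (X.map (MulAut.conj h).toMonoidHom) := by
  constructor
  · rintro _ ⟨x, hx, rfl⟩
    exact Subgroup.Normal.conj_mem inferInstance x (hX.1 hx) h
  · rintro n hn _ ⟨x, hx, rfl⟩
    have hn' : h⁻¹ * n * h ∈ N := by
      have := Subgroup.Normal.conj_mem (inferInstance : N.Normal) n hn h⁻¹
      simpa using this
    refine ⟨(h⁻¹ * n * h) * x * (h⁻¹ * n * h)⁻¹, hX.2 _ hn' x hx, ?_⟩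
    simp only [MulEquiv.coe_toMonoidHom, MulAut.conj_apply]
    group

lemma NNormal.commute {N X Y : Subgroup H} (hX : NNormal N X) (hY : NNormal N Y)
    (hXY : X ⊓ Y = ⊥) : ∀ x ∈ X, ∀ y ∈ Y, x * y = y * x := by
  intro x hx y hy
  have h1 : x * y * x⁻¹ * y⁻¹ ∈ X ⊓ Y := by
    constructor
    · have : y * x⁻¹ * y⁻¹ ∈ X := hY.1 hy |> fun hyN => hX.2 y hyN x⁻¹ (X.inv_mem hx)
      have h2 := X.mul_mem hx this
      have h3 : x * y * x⁻¹ * y⁻¹ = x * (y * x⁻¹ * y⁻¹) := by group
      rw [h3]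
      exact h2
    · have : x * y * x⁻¹ ∈ Y := hY.2 x (hX.1 hx) y hy
      exact Y.mul_mem this (Y.inv_mem hy)
  rw [hXY, Subgroup.mem_bot] at h1
  have h3 : x * y = (x * y * x⁻¹ * y⁻¹) * (y * x) := by group
  rw [h3, h1, one_mul]

/-- Internal direct product of two commuting disjoint subgroups. -/
noncomputable def supEquivProd (X Y : Subgroup H) (hcomm : ∀ x ∈ X, ∀ y ∈ Y, x * y = y * x)
    (hdisj : X ⊓ Y = ⊥) : (X × Y) ≃* ↥(X ⊔ Y) := by
  have comm : ∀ (x : X) (y : Y), Commute (X.subtype x) (Y.subtype y) :=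
    fun x y => hcomm x x.2 y y.2
  have hinj : Function.Injective (MonoidHom.noncommCoprod X.subtype Y.subtype comm) := by
    rw [MonoidHom.noncommCoprod_injective]
    refine ⟨Subtype.val_injective, Subtype.val_injective, ?_⟩
    rw [Subgroup.range_subtype, Subgroup.range_subtype, disjoint_iff, hdisj]
  have hrange : (MonoidHom.noncommCoprod X.subtype Y.subtype comm).range = X ⊔ Y := by
    rw [MonoidHom.noncommCoprod_range, Subgroup.range_subtype, Subgroup.range_subtype]
  exact (MonoidHom.ofInjective hinj).trans (MulEquiv.subgroupCongr hrange)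

end NNormal

section pi

/-- `(Fin m → S) × S ≃* (Fin (m+1) → S)`. -/
def piSuccMulEquiv (S : Type*) [Group S] (m : ℕ) : ((Fin m → S) × S) ≃* (Fin (m + 1) → S) where
  toFun p := Fin.cons p.2 p.1
  invFun g := (Fin.tail g, g 0)
  left_inv p := by simp
  right_inv g := by simp
  map_mul' p q := by
    funext i
    refine Fin.cases ?_ (fun j => ?_) i
    · simp
    · simp

end pi


section main

variable {H : Type*} [Group H] [Finite H]

lemma card_map_of_inj {G K : Type*} [Group G] [Group K] (L : Subgroup G) (f : G →* K)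
    (hf : Function.Injective f) : Nat.card (L.map f) = Nat.card L :=
  (Nat.card_congr (L.equivMapOfInjective f hf).toEquiv).symm

/-- A minimal normal subgroup of a finite group is a direct power of a simple subgroup. -/
theorem minimal_normal_structure (N : Subgroup H) [N.Normal] (hN : N ≠ ⊥)
    (hmin : ∀ M : Subgroup H, M.Normal → M ≤ N → M = ⊥ ∨ M = N) :
    ∃ (S : Subgroup H) (m : ℕ), S ≤ N ∧ IsSimpleGroup S ∧ 0 < m ∧
      Nonempty (N ≃* (Fin m → S)) := by
  classical
  have hex : ∃ k, ∃ X : Subgroup H, NNormal N X ∧ X ≠ ⊥ ∧ Nat.card X = k :=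
    ⟨_, N, ⟨le_refl _, fun n hn x hx => N.mul_mem (N.mul_mem hn hx) (N.inv_mem hn)⟩, hN, rfl⟩
  obtain ⟨S, hSN, hS1, hSk⟩ := Nat.find_spec hex
  have hSmin : ∀ X : Subgroup H, NNormal N X → X ≠ ⊥ → Nat.card S ≤ Nat.card X := by
    intro X hX hX1
    rw [hSk]
    exact Nat.find_min' hex ⟨X, hX, hX1, rfl⟩
  have hS2 : 2 ≤ Nat.card S := S.one_lt_card_iff_ne_bot.mpr hS1
  have hconjN : ∀ h : H, NNormal N (S.map (MulAut.conj h).toMonoidHom) := fun h => hSN.conj h
  have hconjcard : ∀ h : H, Nat.card (S.map (MulAut.conj h).toMonoidHom) = Nat.card S :=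
    fun h => card_map_of_inj S _ (MulAut.conj h).injective
  have key : ∀ d : ℕ, ∀ M : Subgroup H, NNormal N M →
      (∃ m : ℕ, Nonempty (M ≃* (Fin m → S))) → Nat.card N - Nat.card M = d →
      ∃ M' : Subgroup H, NNormal N M' ∧ (∃ m : ℕ, Nonempty (M' ≃* (Fin m → S))) ∧
        ∀ h : H, S.map (MulAut.conj h).toMonoidHom ≤ M' := by
    intro d
    induction d using Nat.strong_induction_on with
    | _ d ih =>
      intro M hM hMiso hd
      by_cases hall : ∀ h : H, S.map (MulAut.conj h).toMonoidHom ≤ M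
      · exact ⟨M, hM, hMiso, hall⟩
      · push Not at hall
        obtain ⟨h, hh⟩ := hall
        have hXN := hconjN h
        have hdisj : M ⊓ S.map (MulAut.conj h).toMonoidHom = ⊥ := by
          by_contra hne
          have h1 := hSmin _ (hM.inf hXN) hne
          have h3 : M ⊓ S.map (MulAut.conj h).toMonoidHom =
              S.map (MulAut.conj h).toMonoidHom := by
            apply Subgroup.eq_of_le_of_card_ge inf_le_right
            rw [hconjcard h]
            exact h1
          exact hh (h3 ▸ inf_le_left)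
        have hcomm := hM.commute hXN hdisj
        obtain ⟨m, ⟨e⟩⟩ := hMiso
        have e1 : ↥(M ⊔ S.map (MulAut.conj h).toMonoidHom) ≃* (Fin (m + 1) → S) :=
          (supEquivProd M _ hcomm hdisj).symm.trans
            ((MulEquiv.prodCongr e
              (S.equivMapOfInjective _ (MulAut.conj h).injective).symm).trans
              (piSuccMulEquiv S m))
        have hcard : Nat.card ↥(M ⊔ S.map (MulAut.conj h).toMonoidHom) =
            Nat.card M * Nat.card S := by
          rw [Nat.card_congr (supEquivProd M _ hcomm hdisj).symm.toEquiv, Nat.card_prod,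
            hconjcard h]
        have hle : Nat.card ↥(M ⊔ S.map (MulAut.conj h).toMonoidHom) ≤ Nat.card N :=
          Subgroup.card_le_of_le (hM.sup hXN).1
        have hMpos : 0 < Nat.card M := Nat.card_pos
        have hlt : Nat.card M < Nat.card M * Nat.card S := by nlinarith
        refine ih (Nat.card N - Nat.card ↥(M ⊔ S.map (MulAut.conj h).toMonoidHom)) ?_
          (M ⊔ S.map (MulAut.conj h).toMonoidHom) (hM.sup hXN) ⟨m + 1, ⟨e1⟩⟩ rfl
        rw [← hd]
        omega
  obtain ⟨M', hM'N, ⟨m, ⟨e⟩⟩, hM'all⟩ := key _ ⊥ (NNormal.bot N) ⟨0, ⟨MulEquiv.ofUnique⟩⟩ rfl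
  have hnc : Subgroup.normalClosure (S : Set H) ≤ M' := by
    unfold Subgroup.normalClosure
    rw [Subgroup.closure_le]
    intro x hx
    rw [Group.mem_conjugatesOfSet_iff] at hx
    obtain ⟨s, hs, hconj⟩ := hx
    rw [isConj_iff] at hconj
    obtain ⟨c, rfl⟩ := hconj
    exact hM'all c ⟨s, hs, rfl⟩
  have hncN : Subgroup.normalClosure (S : Set H) = N := by
    rcases hmin _ Subgroup.normalClosure_normal (Subgroup.normalClosure_le_normal hSN.1) with h | h
    · exfalso
      apply hS1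
      rw [eq_bot_iff, ← h]
      exact Subgroup.le_normalClosure
    · exact h
  have hM'eq : M' = N := le_antisymm hM'N.1 (hncN ▸ hnc)
  subst hM'eq
  have hm : 0 < m := by
    rcases Nat.eq_zero_or_pos m with rfl | h
    · exfalso
      apply hN
      rw [← Subgroup.card_eq_one, Nat.card_congr e.toEquiv]
      exact Nat.card_unique
    · exact h
  refine ⟨S, m, hSN.1, ?_, hm, ⟨e⟩⟩
  -- simplicity
  have : Nontrivial S := (Subgroup.nontrivial_iff_ne_bot S).mpr hS1
  refine ⟨fun L hL => ?_⟩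
  by_contra hcon
  push Not at hcon
  obtain ⟨hL1, hL2⟩ := hcon
  let i₀ : Fin m := ⟨0, hm⟩
  let ι : S →* (Fin m → S) := MonoidHom.mulSingle (fun _ => S) i₀
  have hι : Function.Injective ι := fun a b hab => by
    have := congrFun hab i₀
    simpa [ι] using this
  have hLnorm : (L.map ι).Normal := by
    constructor
    rintro _ ⟨x, hx, rfl⟩ f
    refine ⟨f i₀ * x * (f i₀)⁻¹, hL.conj_mem x hx (f i₀), ?_⟩
    funext j
    by_cases hj : j = i₀
    · subst hj
      simp [ι]
    · simp [ι, Pi.mulSingle_eq_of_ne hj]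
  have hLN : ((L.map ι).map e.symm.toMonoidHom).Normal :=
    hLnorm.map _ e.symm.surjective
  set LH : Subgroup H := ((L.map ι).map e.symm.toMonoidHom).map M'.subtype with hLH
  have hLHN : NNormal M' LH := by
    refine ⟨Subgroup.map_subtype_le _, ?_⟩
    rintro n hn _ ⟨y, hy, rfl⟩
    refine ⟨⟨n, hn⟩ * y * ⟨n, hn⟩⁻¹, hLN.conj_mem y hy ⟨n, hn⟩, ?_⟩
    simp
  have hLHcard : Nat.card LH = Nat.card L := by
    rw [hLH, card_map_of_inj _ _ (Subgroup.subtype_injective M'),
      card_map_of_inj _ _ e.symm.injective, card_map_of_inj _ _ hι]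
  have hLH1 : LH ≠ ⊥ := by
    rw [← LH.one_lt_card_iff_ne_bot, hLHcard, L.one_lt_card_iff_ne_bot]
    exact hL1
  have h1 := hSmin LH hLHN hLH1
  rw [hLHcard] at h1
  have h2 : Nat.card L ≤ Nat.card S := Subgroup.card_le_card_group L
  exact hL2 (Subgroup.eq_top_of_card_eq L (le_antisymm h2 h1))

end main

end Cfsg.Agent.helper18
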