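import Mathlib
import Cfsg.Agent.Lib_helper18_MinNormal

set_option autoImplicit false

namespace Cfsg.Agent.helper18

open MulAction

section KT

variable {G X : Type*} [Group G] [MulAction G X]

/-- `H` acts `k`-transitively on the complement of `S` (elementary form). -/
def KT (H : Subgroup G) (S : Set X) (k : ℕ) : Prop :=
  ∀ (s : Finset X) (f : X → X), s.card ≤ k → (∀ x ∈ s, x ∉ S ∧ f x ∉ S) → Set.InjOn f s →
    ∃ h ∈ H, ∀ x ∈ s, h • x = f x

/-- `H` fixes `S` pointwise. -/
def Fixes (H : Subgroup G) (S : Set X) : Prop := ∀ h ∈ H, ∀ z ∈ S, h • z = z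

/-- `H` acts semiregularly on the complement of `S`. -/
def SReg (H : Subgroup G) (S : Set X) : Prop := ∀ h ∈ H, ∀ y, y ∉ S → h • y = y → h = 1

lemma KT.mono {H : Subgroup G} {S : Set X} {k j : ℕ} (h : KT H S k) (hj : j ≤ k) : KT H S j :=
  fun s f hs hS hf => h s f (hs.trans hj) hS hf

lemma KT.exists_smul_eq {H : Subgroup G} {S : Set X} {k : ℕ} (h : KT H S k) (hk : 1 ≤ k)
    {x y : X} (hx : x ∉ S) (hy : y ∉ S) : ∃ g ∈ H, g • x = y := by
  classical
  obtain ⟨g, hg, hgx⟩ := h {x} (fun _ => y) (by simpa using hk)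
    (by
      intro z hz
      rw [Finset.mem_singleton] at hz
      subst hz
      exact ⟨hx, hy⟩)
    (by
      intro z hz w hw _
      rw [Finset.coe_singleton, Set.mem_singleton_iff] at hz hw
      rw [hz, hw])
  exact ⟨g, hg, hgx x (Finset.mem_singleton_self x)⟩

lemma Fixes.smul_notMem {H : Subgroup G} {S : Set X} (hF : Fixes H S) {h : G} (hh : h ∈ H)
    {x : X} (hx : x ∉ S) : h • x ∉ S := by
  intro hmem
  apply hx
  have h1 := hF h⁻¹ (H.inv_mem hh) _ hmem
  rw [inv_smul_smul] at h1
  rw [h1]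
  exact hmem

lemma Fixes.stab {H : Subgroup G} {S : Set X} (hF : Fixes H S) (a : X) :
    Fixes (H ⊓ stabilizer G a) (insert a S) := by
  intro h hh z hz
  rw [Subgroup.mem_inf] at hh
  rcases Set.mem_insert_iff.mp hz with rfl | hz
  · exact mem_stabilizer_iff.mp hh.2
  · exact hF h hh.1 z hz

lemma NNormal.stab {G' N' : Subgroup G} (hN : NNormal G' N') (a : X) :
    NNormal (G' ⊓ stabilizer G a) (N' ⊓ stabilizer G a) := by
  refine ⟨inf_le_inf_right _ hN.1, fun g hg n hn => ?_⟩
  rw [Subgroup.mem_inf] at hg hn ⊢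
  refine ⟨hN.2 g hg.1 n hn.1, ?_⟩
  have h1 : g • a = a := mem_stabilizer_iff.mp hg.2
  have h2 : n • a = a := mem_stabilizer_iff.mp hn.2
  have h3 : g⁻¹ • a = a := by rw [inv_smul_eq_iff, h1]
  rw [mem_stabilizer_iff, mul_smul, mul_smul, h3, h2, h1]

/-- The point stabiliser of a `(k+1)`-transitive group is `k`-transitive on the rest. -/
lemma KT.stab {H : Subgroup G} {S : Set X} {k : ℕ} (h : KT H S (k + 1)) {a : X} (ha : a ∉ S) :
    KT (H ⊓ stabilizer G a) (insert a S) k := by
  classical
  intro s f hs hS hf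
  have has : a ∉ s := fun hmem => (hS a hmem).1 (Set.mem_insert a S)
  have hne : ∀ x ∈ s, x ≠ a := fun x hx h => has (h ▸ hx)
  have hcond : ∀ x ∈ insert a s, x ∉ S ∧ Function.update f a a x ∉ S := by
    intro x hx
    rcases Finset.mem_insert.mp hx with rfl | hx
    · rw [Function.update_self]
      exact ⟨ha, ha⟩
    · rw [Function.update_of_ne (hne x hx)]
      exact ⟨fun h => (hS x hx).1 (Set.mem_insert_of_mem a h),
        fun h => (hS x hx).2 (Set.mem_insert_of_mem a h)⟩
  have hinj : Set.InjOn (Function.update f a a) (insert a s : Finset X) := by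
    intro x hx y hy hxy
    rw [Finset.coe_insert, Set.mem_insert_iff, Finset.mem_coe] at hx hy
    by_cases hxa : x = a
    · by_cases hya : y = a
      · rw [hxa, hya]
      · exfalso
        rw [hxa, Function.update_self, Function.update_of_ne hya] at hxy
        have hy' : y ∈ s := hy.resolve_left hya
        apply (hS y hy').2
        rw [← hxy]
        exact Set.mem_insert a S
    · by_cases hya : y = a
      · exfalso
        rw [hya, Function.update_self, Function.update_of_ne hxa] at hxy
        have hx' : x ∈ s := hx.resolve_left hxa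
        apply (hS x hx').2
        rw [hxy]
        exact Set.mem_insert a S
      · rw [Function.update_of_ne hxa, Function.update_of_ne hya] at hxy
        exact hf (hx.resolve_left hxa) (hy.resolve_left hya) hxy
  obtain ⟨g, hg, hgs⟩ := h (insert a s) (Function.update f a a)
    (by rw [Finset.card_insert_of_notMem has]; omega) hcond hinj
  refine ⟨g, Subgroup.mem_inf.mpr ⟨hg, ?_⟩, fun x hx => ?_⟩
  · rw [mem_stabilizer_iff]
    have h1 := hgs a (Finset.mem_insert_self a s)
    rwa [Function.update_self] at h1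
  · have h1 := hgs x (Finset.mem_insert_of_mem hx)
    rwa [Function.update_of_ne (hne x hx)] at h1

/-- A transitive group whose point stabiliser is `k`-transitive on the rest is
`(k+1)`-transitive. -/
lemma KT.of_stab {H : Subgroup G} {S : Set X} {k : ℕ} (hF : Fixes H S) (h1 : KT H S 1)
    {a : X} (ha : a ∉ S) (h : KT (H ⊓ stabilizer G a) (insert a S) k) : KT H S (k + 1) := by
  classical
  intro s f hs hS hf
  rcases s.eq_empty_or_nonempty with rfl | ⟨x0, hx0⟩
  · exact ⟨1, H.one_mem, by simp⟩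
  obtain ⟨g1, hg1, hg1x⟩ := h1.exists_smul_eq le_rfl (hS x0 hx0).1 ha
  obtain ⟨g2, hg2, hg2x⟩ := h1.exists_smul_eq le_rfl (hS x0 hx0).2 ha
  have hs' : ((s.erase x0).image (fun x => g1 • x)).card ≤ k := by
    calc ((s.erase x0).image (fun x => g1 • x)).card ≤ (s.erase x0).card := Finset.card_image_le
      _ = s.card - 1 := Finset.card_erase_of_mem hx0
      _ ≤ k := by omega
  have hcond : ∀ z ∈ (s.erase x0).image (fun x => g1 • x),
      z ∉ insert a S ∧ g2 • f (g1⁻¹ • z) ∉ insert a S := by
    intro z hz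
    obtain ⟨x, hx, rfl⟩ := Finset.mem_image.mp hz
    obtain ⟨hxx, hx⟩ := Finset.mem_erase.mp hx
    simp only [inv_smul_smul]
    refine ⟨?_, ?_⟩
    · rw [Set.mem_insert_iff, not_or]
      refine ⟨fun h => hxx ?_, hF.smul_notMem hg1 (hS x hx).1⟩
      exact smul_left_cancel g1 (h.trans hg1x.symm)
    · rw [Set.mem_insert_iff, not_or]
      refine ⟨fun h => hxx ?_, hF.smul_notMem hg2 (hS x hx).2⟩
      have h5 : f x = f x0 := smul_left_cancel g2 (h.trans hg2x.symm)
      exact hf hx hx0 h5
  have hinj : Set.InjOn (fun z => g2 • f (g1⁻¹ • z))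
      ((s.erase x0).image (fun x => g1 • x) : Finset X) := by
    intro z hz w hw hzw
    obtain ⟨x, hx, rfl⟩ := Finset.mem_image.mp (Finset.mem_coe.mp hz)
    obtain ⟨y, hy, rfl⟩ := Finset.mem_image.mp (Finset.mem_coe.mp hw)
    simp only [inv_smul_smul] at hzw
    have h5 := hf (Finset.mem_coe.mpr (Finset.mem_of_mem_erase hx))
      (Finset.mem_coe.mpr (Finset.mem_of_mem_erase hy)) (smul_left_cancel g2 hzw)
    rw [h5]
  obtain ⟨g3, hg3, hg3x⟩ := h ((s.erase x0).image (fun x => g1 • x))
    (fun z => g2 • f (g1⁻¹ • z)) hs' hcond hinj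
  rw [Subgroup.mem_inf] at hg3
  refine ⟨g2⁻¹ * g3 * g1, H.mul_mem (H.mul_mem (H.inv_mem hg2) hg3.1) hg1, fun x hx => ?_⟩
  by_cases hxx : x = x0
  · subst hxx
    rw [mul_smul, mul_smul, hg1x, mem_stabilizer_iff.mp hg3.2, ← hg2x, inv_smul_smul]
  · have hxs' : g1 • x ∈ (s.erase x0).image (fun x => g1 • x) :=
      Finset.mem_image.mpr ⟨x, Finset.mem_erase.mpr ⟨hxx, hx⟩, rfl⟩
    rw [mul_smul, mul_smul, hg3x _ hxs']
    simp only [inv_smul_smul]

/-- A nontrivial normal subgroup of a 2-transitive group is transitive. -/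
lemma KT.normal_transitive [FaithfulSMul G X] {G' N' : Subgroup G} {S : Set X}
    (hF : Fixes G' S) (hN : NNormal G' N') (hN1 : N' ≠ ⊥) (h2 : KT G' S 2) : KT N' S 1 := by
  classical
  obtain ⟨n, hn, hn1⟩ : ∃ n ∈ N', n ≠ 1 := by
    by_contra hcon
    push Not at hcon
    apply hN1
    rw [eq_bot_iff]
    intro n hn
    exact Subgroup.mem_bot.mpr (hcon n hn)
  obtain ⟨y, hy⟩ : ∃ y : X, n • y ≠ y := by
    by_contra hcon
    push Not at hcon
    apply hn1
    apply FaithfulSMul.eq_of_smul_eq_smul (α := X)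
    intro x
    rw [hcon x, one_smul]
  have hyS : y ∉ S := fun h => hy (hF n (hN.1 hn) y h)
  have hnyS : n • y ∉ S := hF.smul_notMem (hN.1 hn) hyS
  intro s f hs hS hf
  rcases s.eq_empty_or_nonempty with rfl | ⟨x, hx⟩
  · exact ⟨1, N'.one_mem, by simp⟩
  have hsx : ∀ z ∈ s, z = x := fun z hz => Finset.card_le_one.mp hs z hz x hx
  by_cases hfx : f x = x
  · exact ⟨1, N'.one_mem, fun z hz => by rw [hsx z hz, one_smul, hfx]⟩
  · have hcond : ∀ z ∈ ({y, n • y} : Finset X), z ∉ S ∧ (if z = y then x else f x) ∉ S := by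
      intro z hz
      rw [Finset.mem_insert, Finset.mem_singleton] at hz
      rcases hz with rfl | rfl
      · simp only [if_true]
        exact ⟨hyS, (hS x hx).1⟩
      · rw [if_neg hy]
        exact ⟨hnyS, (hS x hx).2⟩
    have hinj : Set.InjOn (fun z => if z = y then x else f x) (({y, n • y} : Finset X) : Set X) := by
      intro z hz w hw hzw
      rw [Finset.coe_insert, Finset.coe_singleton, Set.mem_insert_iff,
        Set.mem_singleton_iff] at hz hw
      rcases hz with rfl | rfl <;> rcases hw with rfl | rfl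
      · rfl
      · exfalso
        simp only [if_true, if_neg hy] at hzw
        exact hfx hzw.symm
      · exfalso
        simp only [if_true, if_neg hy] at hzw
        exact hfx hzw
      · rfl
    obtain ⟨g, hg, hgs⟩ := h2 {y, n • y} (fun z => if z = y then x else f x)
      Finset.card_le_two hcond hinj
    have h1 : g • y = x := by
      have := hgs y (by simp)
      simpa using this
    have h3 : g • (n • y) = f x := by
      have := hgs (n • y) (by simp)
      simpa [hy] using this
    refine ⟨g * n * g⁻¹, hN.2 g hg n hn, fun z hz => ?_⟩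
    have h4 : g⁻¹ • x = y := by rw [← h1, inv_smul_smul]
    rw [hsx z hz, mul_smul, mul_smul, h4, h3]

lemma commute_of_fix {G' N' : Subgroup G} {S : Set X} (hN : NNormal G' N') (hR : SReg N' S)
    {a : X} (ha : a ∉ S) {g n : G} (hg : g ∈ G') (hn : n ∈ N') (hga : g • a = a)
    (hgn : g • (n • a) = n • a) : g * n = n * g := by
  have h1 : n⁻¹ * (g * n * g⁻¹) = 1 := by
    apply hR _ (N'.mul_mem (N'.inv_mem hn) (hN.2 g hg n hn)) a ha
    have h3 : g⁻¹ • a = a := by rw [inv_smul_eq_iff, hga]
    rw [mul_smul, mul_smul, mul_smul, h3, hgn, inv_smul_smul]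
  have h2 : g * n * g⁻¹ = n := by
    have := congrArg (fun z => n * z) h1
    simpa using this
  calc g * n = (g * n * g⁻¹) * g := by group
    _ = n * g := by rw [h2]

lemma exists_notMem_finset [Finite X] {S : Set X} (T : Finset X) (h : T.card < (Sᶜ).ncard) :
    ∃ c, c ∉ S ∧ c ∉ T := by
  have h1 : ((T : Set X)).ncard < (Sᶜ).ncard := by
    rw [Set.ncard_coe_finset]
    exact h
  obtain ⟨c, hc, hcT⟩ := Set.exists_mem_notMem_of_ncard_lt_ncard h1 (Finset.finite_toSet T)
  exact ⟨c, hc, fun h => hcT (Finset.mem_coe.mpr h)⟩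

/-- A regular normal subgroup of a 3-transitive group of degree > 3 has exponent 2. -/
lemma exp_two_of_three_trans [Finite X] {G' N' : Subgroup G} {S : Set X} (hF : Fixes G' S)
    (hN : NNormal G' N') (hR : SReg N' S) (h3 : KT G' S 3)
    (hcard : 3 < (Sᶜ).ncard) : ∀ n ∈ N', n ^ 2 = 1 := by
  classical
  intro n hn
  by_contra hn2
  obtain ⟨a, ha, -⟩ := exists_notMem_finset (S := S) (∅ : Finset X) (by simp; omega)
  have hna : n • a ≠ a := fun h => hn2 (by rw [hR n hn a ha h, one_pow])
  have hnia : n⁻¹ • a ≠ a := fun h => hn2 (by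
    have h1 := hR n⁻¹ (N'.inv_mem hn) a ha h
    rw [inv_eq_one] at h1
    rw [h1, one_pow])
  have hnn : n⁻¹ • a ≠ n • a := fun h => hn2 (by
    apply hR (n ^ 2) (N'.pow_mem hn 2) a ha
    rw [pow_two, mul_smul, ← h, smul_inv_smul])
  obtain ⟨c, hc, hcT⟩ := exists_notMem_finset (S := S) ({a, n • a, n⁻¹ • a} : Finset X)
    (lt_of_le_of_lt Finset.card_le_three hcard)
  simp only [Finset.mem_insert, Finset.mem_singleton, not_or] at hcT
  obtain ⟨hca, hcna, hcnia⟩ := hcT
  have hnS : n • a ∉ S := hF.smul_notMem (hN.1 hn) ha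
  have hniS : n⁻¹ • a ∉ S := hF.smul_notMem (hN.1 (N'.inv_mem hn)) ha
  have hcond : ∀ z ∈ ({a, n • a, n⁻¹ • a} : Finset X),
      z ∉ S ∧ (if z = n⁻¹ • a then c else z) ∉ S := by
    intro z hz
    rw [Finset.mem_insert, Finset.mem_insert, Finset.mem_singleton] at hz
    rcases hz with rfl | rfl | rfl
    · rw [if_neg (Ne.symm hnia)]
      exact ⟨ha, ha⟩
    · rw [if_neg (Ne.symm hnn)]
      exact ⟨hnS, hnS⟩
    · rw [if_pos rfl]
      exact ⟨hniS, hc⟩
  have hinj : Set.InjOn (fun z => if z = n⁻¹ • a then c else z)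
      (({a, n • a, n⁻¹ • a} : Finset X) : Set X) := by
    intro z hz w hw hzw
    simp only [Finset.coe_insert, Finset.coe_singleton, Set.mem_insert_iff,
      Set.mem_singleton_iff] at hz hw
    by_cases hz' : z = n⁻¹ • a
    · by_cases hw' : w = n⁻¹ • a
      · rw [hz', hw']
      · exfalso
        simp only [if_pos hz', if_neg hw'] at hzw
        rcases hw with rfl | rfl | rfl
        · exact hca hzw
        · exact hcna hzw
        · exact hw' rfl
    · by_cases hw' : w = n⁻¹ • a
      · exfalso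
        simp only [if_neg hz', if_pos hw'] at hzw
        rcases hz with rfl | rfl | rfl
        · exact hca hzw.symm
        · exact hcna hzw.symm
        · exact hz' rfl
      · simp only [if_neg hz', if_neg hw'] at hzw
        exact hzw
  obtain ⟨g, hg, hgs⟩ := h3 {a, n • a, n⁻¹ • a} (fun z => if z = n⁻¹ • a then c else z)
    Finset.card_le_three hcond hinj
  have h1 : g • a = a := by
    have := hgs a (by simp)
    rwa [if_neg (Ne.symm hnia)] at this
  have h2 : g • (n • a) = n • a := by
    have := hgs (n • a) (by simp)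
    rwa [if_neg (Ne.symm hnn)] at this
  have h4 : g • (n⁻¹ • a) = c := by
    have := hgs (n⁻¹ • a) (by simp)
    rwa [if_pos rfl] at this
  have h5 : g * n = n * g := commute_of_fix hN hR ha hg hn h1 h2
  have h6 : g * n⁻¹ = n⁻¹ * g := by
    calc g * n⁻¹ = n⁻¹ * (n * g) * n⁻¹ := by group
      _ = n⁻¹ * (g * n) * n⁻¹ := by rw [h5]
      _ = n⁻¹ * g := by group
  apply hcnia
  rw [← h4, ← mul_smul, h6, mul_smul, h1]


/-- A 4-transitive group of degree > 4 has no regular normal subgroup. -/
lemma no_regular_of_four_trans [Finite X] {G' N' : Subgroup G} {S : Set X} (hF : Fixes G' S)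
    (hN : NNormal G' N') (hT : KT N' S 1) (hR : SReg N' S) (h4 : KT G' S 4)
    (hcard : 4 < (Sᶜ).ncard) : False := by
  classical
  have hE : ∀ n ∈ N', n ^ 2 = 1 :=
    exp_two_of_three_trans hF hN hR (h4.mono (by omega)) (by omega)
  obtain ⟨a, ha, -⟩ := exists_notMem_finset (S := S) (∅ : Finset X) (by simp; omega)
  obtain ⟨b, hb, hbT⟩ := exists_notMem_finset (S := S) ({a} : Finset X) (by simp; omega)
  obtain ⟨c, hc, hcT⟩ := exists_notMem_finset (S := S) ({a, b} : Finset X)
    (lt_of_le_of_lt Finset.card_le_two (by omega))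
  rw [Finset.mem_singleton] at hbT
  simp only [Finset.mem_insert, Finset.mem_singleton, not_or] at hcT
  obtain ⟨n, hn, hna⟩ := hT.exists_smul_eq le_rfl ha hb
  obtain ⟨m, hm, hma⟩ := hT.exists_smul_eq le_rfl ha hc
  have hFN : Fixes N' S := fun h hh => hF h (hN.1 hh)
  have hnm : (n * m) ∈ N' := N'.mul_mem hn hm
  have hnmS : (n * m) • a ∉ S := hFN.smul_notMem hnm ha
  -- (n*m)•a is different from a, b, c
  have hninv : n⁻¹ = n := by
    have := hE n hn
    rw [pow_two] at this
    exact inv_eq_of_mul_eq_one_left this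
  have h1 : (n * m) • a ≠ a := by
    intro h
    have h2 := hR _ hnm a ha h
    have h3 : m = n⁻¹ := eq_inv_of_mul_eq_one_right h2
    rw [hninv] at h3
    apply hcT.2
    rw [← hma, h3, hna]
  have h2 : (n * m) • a ≠ b := by
    intro h
    rw [mul_smul, ← hna] at h
    have h3 := smul_left_cancel n h
    apply hcT.1
    rw [← hma, h3]
  have h3 : (n * m) • a ≠ c := by
    intro h
    have h5 : (m⁻¹ * n * m) • a = a := by
      rw [mul_assoc, mul_smul, h, ← hma, inv_smul_smul]
    have h6 := hR _ (N'.mul_mem (N'.mul_mem (N'.inv_mem hm) hn) hm) a ha h5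
    have h7 : n = 1 := by
      calc n = m * (m⁻¹ * n * m) * m⁻¹ := by group
        _ = 1 := by rw [h6]; group
    apply hbT
    rw [← hna, h7, one_smul]
  obtain ⟨d, hd, hdT⟩ := exists_notMem_finset (S := S) ({a, b, c, (n * m) • a} : Finset X)
    (lt_of_le_of_lt Finset.card_le_four hcard)
  simp only [Finset.mem_insert, Finset.mem_singleton, not_or] at hdT
  obtain ⟨hda, hdb, hdc, hdnm⟩ := hdT
  have hcond : ∀ z ∈ ({a, b, c, (n * m) • a} : Finset X),
      z ∉ S ∧ (if z = (n * m) • a then d else z) ∉ S := by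
    intro z hz
    simp only [Finset.mem_insert, Finset.mem_singleton] at hz
    rcases hz with rfl | rfl | rfl | rfl
    · rw [if_neg (Ne.symm h1)]
      exact ⟨ha, ha⟩
    · rw [if_neg (Ne.symm h2)]
      exact ⟨hb, hb⟩
    · rw [if_neg (Ne.symm h3)]
      exact ⟨hc, hc⟩
    · rw [if_pos rfl]
      exact ⟨hnmS, hd⟩
  have hinj : Set.InjOn (fun z => if z = (n * m) • a then d else z)
      (({a, b, c, (n * m) • a} : Finset X) : Set X) := by
    intro z hz w hw hzw
    simp only [Finset.coe_insert, Finset.coe_singleton, Set.mem_insert_iff,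
      Set.mem_singleton_iff] at hz hw
    by_cases hz' : z = (n * m) • a
    · by_cases hw' : w = (n * m) • a
      · rw [hz', hw']
      · exfalso
        simp only [if_pos hz', if_neg hw'] at hzw
        rcases hw with rfl | rfl | rfl | rfl
        · exact hda hzw
        · exact hdb hzw
        · exact hdc hzw
        · exact hw' rfl
    · by_cases hw' : w = (n * m) • a
      · exfalso
        simp only [if_neg hz', if_pos hw'] at hzw
        rcases hz with rfl | rfl | rfl | rfl
        · exact hda hzw.symm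
        · exact hdb hzw.symm
        · exact hdc hzw.symm
        · exact hz' rfl
      · simp only [if_neg hz', if_neg hw'] at hzw
        exact hzw
  obtain ⟨g, hg, hgs⟩ := h4 {a, b, c, (n * m) • a} (fun z => if z = (n * m) • a then d else z)
    Finset.card_le_four hcond hinj
  have g1 : g • a = a := by
    have := hgs a (by simp)
    rwa [if_neg (Ne.symm h1)] at this
  have g2 : g • (n • a) = n • a := by
    have := hgs b (by simp)
    rw [if_neg (Ne.symm h2)] at this
    rw [hna]
    exact this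
  have g3 : g • (m • a) = m • a := by
    have := hgs c (by simp)
    rw [if_neg (Ne.symm h3)] at this
    rw [hma]
    exact this
  have g4 : g • ((n * m) • a) = d := by
    have := hgs ((n * m) • a) (by simp)
    rwa [if_pos rfl] at this
  have c1 : g * n = n * g := commute_of_fix hN hR ha hg hn g1 g2
  have c2 : g * m = m * g := commute_of_fix hN hR ha hg hm g1 g3
  apply hdnm
  rw [← g4, ← mul_smul, ← mul_assoc, c1, mul_assoc, c2, ← mul_assoc, mul_smul, g1]

/-- The sharply 2-transitive configuration with elementary abelian 2-group stabilisers is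
impossible in degree > 3. -/
lemma no_sharp_config [Finite X] {N' : Subgroup G} {S : Set X} (hcard : 3 < (Sᶜ).ncard)
    (hT : ∀ p, p ∉ S → KT (N' ⊓ stabilizer G p) (insert p S) 1)
    (hR : ∀ p, p ∉ S → SReg (N' ⊓ stabilizer G p) (insert p S))
    (hE : ∀ p, p ∉ S → ∀ n ∈ N' ⊓ stabilizer G p, n ^ 2 = 1) : False := by
  classical
  obtain ⟨x, hx, -⟩ := exists_notMem_finset (S := S) (∅ : Finset X) (by simp; omega)
  obtain ⟨y, hy, hyT⟩ := exists_notMem_finset (S := S) ({x} : Finset X) (by simp; omega)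
  obtain ⟨m, hm, hmT⟩ := exists_notMem_finset (S := S) ({x, y} : Finset X)
    (lt_of_le_of_lt Finset.card_le_two (by omega))
  obtain ⟨m', hm', hmT'⟩ := exists_notMem_finset (S := S) ({x, y, m} : Finset X)
    (lt_of_le_of_lt Finset.card_le_three hcard)
  rw [Finset.mem_singleton] at hyT
  simp only [Finset.mem_insert, Finset.mem_singleton, not_or] at hmT hmT'
  have hxm : x ∉ insert m S := by
    rw [Set.mem_insert_iff, not_or]
    exact ⟨fun h => hmT.1 h.symm, hx⟩
  have hym : y ∉ insert m S := by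
    rw [Set.mem_insert_iff, not_or]
    exact ⟨fun h => hmT.2 h.symm, hy⟩
  have hxm' : x ∉ insert m' S := by
    rw [Set.mem_insert_iff, not_or]
    exact ⟨fun h => hmT'.1 h.symm, hx⟩
  have hym' : y ∉ insert m' S := by
    rw [Set.mem_insert_iff, not_or]
    exact ⟨fun h => hmT'.2.1 h.symm, hy⟩
  obtain ⟨s, hs, hsx⟩ := (hT m hm).exists_smul_eq le_rfl hxm hym
  obtain ⟨s', hs', hsx'⟩ := (hT m' hm').exists_smul_eq le_rfl hxm' hym'
  have hs2 := hE m hm s hs
  have hs2' := hE m' hm' s' hs'
  have hsy : s • y = x := by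
    rw [← hsx, ← mul_smul, ← pow_two, hs2, one_smul]
  have hsy' : s' • y = x := by
    rw [← hsx', ← mul_smul, ← pow_two, hs2', one_smul]
  rw [Subgroup.mem_inf] at hs hs'
  have ht : s⁻¹ * s' ∈ N' ⊓ stabilizer G x := by
    rw [Subgroup.mem_inf]
    refine ⟨N'.mul_mem (N'.inv_mem hs.1) hs'.1, ?_⟩
    rw [mem_stabilizer_iff, mul_smul, hsx', inv_smul_eq_iff]
    exact hsx.symm
  have hyx : y ∉ insert x S := by
    rw [Set.mem_insert_iff, not_or]
    exact ⟨hyT, hy⟩
  have ht1 : s⁻¹ * s' = 1 := by
    apply hR x hx _ ht y hyx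
    rw [mul_smul, hsy', inv_smul_eq_iff]
    exact hsy.symm
  have hss : s' = s := by
    calc s' = s * (s⁻¹ * s') := by group
      _ = s := by rw [ht1, mul_one]
  have hmm : m' ∉ insert m S := by
    rw [Set.mem_insert_iff, not_or]
    exact ⟨hmT'.2.2, hm'⟩
  have hs1 : s = 1 := by
    apply hR m hm s (Subgroup.mem_inf.mpr hs) m' hmm
    rw [← hss]
    exact mem_stabilizer_iff.mp hs'.2
  apply hyT
  rw [← hsx, hs1, one_smul]

lemma sreg_of_stab_bot {N' : Subgroup G} {S : Set X} (hT : KT N' S 1) {a : X} (ha : a ∉ S)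
    (hbot : N' ⊓ stabilizer G a = ⊥) : SReg N' S := by
  intro n hn y hy hny
  obtain ⟨g, hg, hga⟩ := hT.exists_smul_eq le_rfl ha hy
  have h1 : g⁻¹ * n * g ∈ N' ⊓ stabilizer G a := by
    rw [Subgroup.mem_inf]
    refine ⟨N'.mul_mem (N'.mul_mem (N'.inv_mem hg) hn) hg, ?_⟩
    rw [mem_stabilizer_iff, mul_smul, mul_smul, hga, hny, ← hga, inv_smul_smul]
  rw [hbot, Subgroup.mem_bot] at h1
  calc n = g * (g⁻¹ * n * g) * g⁻¹ := by group
    _ = 1 := by rw [h1]; group

lemma ncard_compl_insert [Finite X] {S : Set X} {a : X} (ha : a ∉ S) :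
    ((insert a S)ᶜ).ncard = (Sᶜ).ncard - 1 := by
  have h1 : (insert a S)ᶜ = Sᶜ \ {a} := by
    ext z
    simp only [Set.mem_compl_iff, Set.mem_insert_iff, not_or, Set.mem_diff,
      Set.mem_singleton_iff]
    tauto
  rw [h1, Set.ncard_diff_singleton_of_mem (show a ∈ Sᶜ from ha)]

/-- **Jordan's theorem** on normal subgroups of multiply transitive groups, relative form. -/
theorem jordan_normal [Finite X] [FaithfulSMul G X] : ∀ k : ℕ, 2 ≤ k →
    ∀ (S : Set X) (G' N' : Subgroup G), Fixes G' S → NNormal G' N' → N' ≠ ⊥ → KT G' S k →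
      k < (Sᶜ).ncard →
      KT N' S (k - 1) ∨ (k = 3 ∧ SReg N' S ∧ ∀ n ∈ N', n ^ 2 = 1) := by
  intro k hk
  induction k, hk using Nat.le_induction with
  | base =>
    intro S G' N' hF hN hN1 hKT hcard
    left
    exact KT.normal_transitive hF hN hN1 hKT
  | succ k hk ih =>
    intro S G' N' hF hN hN1 hKT hcard
    have hFN : Fixes N' S := fun h hh => hF h (hN.1 hh)
    have hT : KT N' S 1 := KT.normal_transitive hF hN hN1 (hKT.mono (by omega))
    obtain ⟨a0, ha0, -⟩ := exists_notMem_finset (S := S) (∅ : Finset X) (by simp; omega)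
    by_cases hA : ∃ a, a ∉ S ∧ N' ⊓ stabilizer G a = ⊥
    · obtain ⟨a, ha, hbot⟩ := hA
      have hR := sreg_of_stab_bot hT ha hbot
      rcases Nat.eq_or_lt_of_le hk with h2 | h2
      · right
        subst h2
        exact ⟨rfl, hR, exp_two_of_three_trans hF hN hR hKT hcard⟩
      · exfalso
        exact no_regular_of_four_trans hF hN hT hR (hKT.mono (by omega)) (by omega)
    · push Not at hA
      have hstep : ∀ a, a ∉ S → KT (N' ⊓ stabilizer G a) (insert a S) (k - 1) ∨
          (k = 3 ∧ SReg (N' ⊓ stabilizer G a) (insert a S) ∧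
            ∀ n ∈ N' ⊓ stabilizer G a, n ^ 2 = 1) := by
        intro a ha
        apply ih (insert a S) (G' ⊓ stabilizer G a) (N' ⊓ stabilizer G a) (hF.stab a)
          (hN.stab a) (hA a ha) (hKT.stab ha)
        rw [ncard_compl_insert ha]
        omega
      by_cases hB : ∃ a, a ∉ S ∧ KT (N' ⊓ stabilizer G a) (insert a S) (k - 1)
      · obtain ⟨a, ha, hKa⟩ := hB
        left
        have h5 := KT.of_stab hFN hT ha hKa
        have hk' : k - 1 + 1 = k + 1 - 1 := by omega
        rwa [hk'] at h5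
      · push Not at hB
        exfalso
        have hexc : ∀ a, a ∉ S → (k = 3 ∧ SReg (N' ⊓ stabilizer G a) (insert a S) ∧
            ∀ n ∈ N' ⊓ stabilizer G a, n ^ 2 = 1) :=
          fun a ha => (hstep a ha).resolve_left (hB a ha)
        have hk3 : k = 3 := (hexc a0 ha0).1
        apply no_sharp_config (G := G) (N' := N') (S := S) (by omega)
        · intro p hp
          exact KT.normal_transitive (hF.stab p) (hN.stab p) (hA p hp)
            ((hKT.stab hp).mono (by omega))
        · exact fun p hp => (hexc p hp).2.1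
        · exact fun p hp => (hexc p hp).2.2

end KT

section conversions

variable {G X : Type*} [Group G] [MulAction G X]

lemma kt_top_of_isMultiplyPretransitive [Finite X] {k : ℕ} (hk : k ≤ Nat.card X)
    (h : IsMultiplyPretransitive G X k) : KT (⊤ : Subgroup G) (∅ : Set X) k := by
  classical
  intro B f hB _ hf
  have := h
  have hm : IsMultiplyPretransitive G X B.card := isMultiplyPretransitive_of_le hB hk
  let e := B.equivFin
  let x : Fin B.card ↪ X := ⟨fun i => (e.symm i : X), fun i j hij => by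
    have : e.symm i = e.symm j := Subtype.ext hij
    exact e.symm.injective this⟩
  let y : Fin B.card ↪ X := ⟨fun i => f (e.symm i : X), fun i j hij => by
    have h1 := hf (e.symm i).2 (e.symm j).2 hij
    have : e.symm i = e.symm j := Subtype.ext h1
    exact e.symm.injective this⟩
  obtain ⟨g, hg⟩ := hm.exists_smul_eq x y
  refine ⟨g, Subgroup.mem_top g, fun b hb => ?_⟩
  have h1 := congrArg (fun z : Fin B.card ↪ X => z (e ⟨b, hb⟩)) hg
  simp only [Function.Embedding.smul_apply] at h1
  have hx : x (e ⟨b, hb⟩) = b := by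
    change ((e.symm (e ⟨b, hb⟩) : B) : X) = b
    rw [Equiv.symm_apply_apply]
  have hy : y (e ⟨b, hb⟩) = f b := by
    change f ((e.symm (e ⟨b, hb⟩) : B) : X) = f b
    rw [Equiv.symm_apply_apply]
  rw [hx, hy] at h1
  exact h1

lemma isMultiplyPretransitive_of_kt (H : Subgroup G) {k : ℕ} (h : KT H (∅ : Set X) k) :
    IsMultiplyPretransitive H X k := by
  classical
  refine ⟨fun x y => ?_⟩
  let f : X → X := fun z => if hz : ∃ i, x i = z then y hz.choose else z
  have hfx : ∀ i, f (x i) = y i := by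
    intro i
    have hz : ∃ j, x j = x i := ⟨i, rfl⟩
    simp only [f, dif_pos hz]
    congr 1
    exact x.injective hz.choose_spec
  have hinj : Set.InjOn f ((Finset.univ.image x : Finset X) : Set X) := by
    intro z hz w hw hzw
    obtain ⟨i, _, rfl⟩ := Finset.mem_image.mp (Finset.mem_coe.mp hz)
    obtain ⟨j, _, rfl⟩ := Finset.mem_image.mp (Finset.mem_coe.mp hw)
    rw [hfx, hfx] at hzw
    rw [y.injective hzw]
  obtain ⟨g, hg, hgs⟩ := h (Finset.univ.image x) f
    (by
      calc (Finset.univ.image x).card ≤ (Finset.univ : Finset (Fin k)).card :=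
            Finset.card_image_le
        _ = k := by simp)
    (by simp) hinj
  refine ⟨⟨g, hg⟩, ?_⟩
  ext i
  rw [Function.Embedding.smul_apply]
  have h1 := hgs (x i) (Finset.mem_image.mpr ⟨i, Finset.mem_univ i, rfl⟩)
  rw [hfx] at h1
  exact h1

lemma mul_comm_of_sq_eq_one {H : Type*} [Group H] (h : ∀ a : H, a ^ 2 = 1) (a b : H) :
    a * b = b * a := by
  have h1 : ∀ c : H, c⁻¹ = c := fun c => by
    have := h c
    rw [pow_two] at this
    exact inv_eq_of_mul_eq_one_left this
  calc a * b = (a * b)⁻¹ := (h1 _).symm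
    _ = b⁻¹ * a⁻¹ := mul_inv_rev a b
    _ = b * a := by rw [h1, h1]

end conversions

end Cfsg.Agent.helper18
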