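import Mathlib
import Cfsg.Agent.Lib_helper18_KTrans

set_option autoImplicit false

namespace Cfsg.Agent.helper18.Wagner

open MulAction Cfsg.Agent.helper18

section basics

variable {A : Type*} [Group A]

lemma card_map_conj (Q : Subgroup A) (g : A) :
    Nat.card ↥(Q.map (MulAut.conj g).toMonoidHom) = Nat.card ↥Q :=
  (Nat.card_congr (Q.equivMapOfInjective _ (MulAut.conj g).injective).toEquiv).symm

lemma mem_map_conj {Q : Subgroup A} {g x : A} :
    x ∈ Q.map (MulAut.conj g).toMonoidHom ↔ g⁻¹ * x * g ∈ Q := by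
  constructor
  · rintro ⟨y, hy, rfl⟩
    have : g⁻¹ * (MulAut.conj g).toMonoidHom y * g = y := by
      simp [MulAut.conj_apply, mul_assoc]
    rw [this]; exact hy
  · intro h
    refine ⟨g⁻¹ * x * g, h, ?_⟩
    simp [MulAut.conj_apply, mul_assoc]

lemma card_eq_card_mul_relIndex' (H L : Subgroup A) (h : H ≤ L) :
    Nat.card L = Nat.card H * H.relIndex L := by
  rw [Subgroup.relIndex, ← Subgroup.card_mul_index (H.subgroupOf L)]
  congr 1
  exact Nat.card_congr (Subgroup.subgroupOfEquivOfLe h).toEquiv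

/-- Sylow conjugacy inside a subgroup `R`. -/
lemma conj_of_sylow [Finite A] {p : ℕ} [Fact p.Prime] {R Q Q' : Subgroup A}
    (hQR : Q ≤ R) (hQ'R : Q' ≤ R) (hQ : IsPGroup p Q) (hcard : Nat.card Q' = Nat.card Q)
    (hidx : ¬ p ∣ Q.relIndex R) : ∃ h ∈ R, Q'.map (MulAut.conj h).toMonoidHom = Q := by
  have hQs : IsPGroup p (Q.subgroupOf R) :=
    hQ.of_equiv (Subgroup.subgroupOfEquivOfLe hQR).symm
  let S₀ : Sylow p ↥R := hQs.toSylow hidx
  have hQ' : IsPGroup p Q' := by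
    obtain ⟨n, hn⟩ := IsPGroup.iff_card.mp hQ
    exact IsPGroup.of_card (hcard.trans hn)
  have hQ's : IsPGroup p (Q'.subgroupOf R) :=
    hQ'.of_equiv (Subgroup.subgroupOfEquivOfLe hQ'R).symm
  obtain ⟨S₁, hS₁⟩ := hQ's.exists_le_sylow
  obtain ⟨r, hr⟩ := MulAction.exists_smul_eq (↥R) S₁ S₀
  refine ⟨(r : A), r.2, ?_⟩
  have hle : Q'.map (MulAut.conj (r : A)).toMonoidHom ≤ Q := by
    rintro _ ⟨x, hx, rfl⟩
    have hxR : x ∈ R := hQ'R hx
    have h1 : (⟨x, hxR⟩ : ↥R) ∈ S₁ := hS₁ (by rw [Subgroup.mem_subgroupOf]; exact hx)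
    have h2 : r * ⟨x, hxR⟩ * r⁻¹ ∈ ((r • S₁ : Sylow p ↥R) : Subgroup ↥R) := by
      rw [Sylow.coe_subgroup_smul]
      have := Subgroup.smul_mem_pointwise_smul _ (MulAut.conj r) (S₁ : Subgroup ↥R) h1
      simpa [MulAut.smul_def, MulAut.conj_apply] using this
    rw [hr] at h2
    have h3 : r * ⟨x, hxR⟩ * r⁻¹ ∈ Q.subgroupOf R := h2
    rw [Subgroup.mem_subgroupOf] at h3
    simpa [MulAut.conj_apply] using h3
  apply Subgroup.eq_of_le_of_card_ge hle
  rw [card_map_conj, hcard]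

end basics


section action

variable {Γ X : Type*} [Group Γ] [MulAction Γ X]

/-- fixed set of a subgroup -/
def Fx (Q : Subgroup Γ) : Set X := {x | ∀ q ∈ Q, q • x = x}

/-- restriction of the action of a subgroup to an invariant set -/
def subAct (Q : Subgroup Γ) (T : Set X) (hT : ∀ q ∈ Q, ∀ x ∈ T, q • x ∈ T) :
    SubMulAction ↥Q X where
  carrier := T
  smul_mem' := fun q x hx => hT q q.2 x hx

lemma card_subAct (Q : Subgroup Γ) (T : Set X) (hT : ∀ q ∈ Q, ∀ x ∈ T, q • x ∈ T) :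
    Nat.card ↥(subAct Q T hT) = T.ncard := by
  rw [← Nat.card_coe_set_eq]
  exact Nat.card_congr (Equiv.subtypeEquivRight (fun x => Iff.rfl))

lemma exists_fixed_of_two_group [Finite X] {Q : Subgroup Γ} (hQ : IsPGroup 2 Q) (T : Set X)
    (hT : ∀ q ∈ Q, ∀ x ∈ T, q • x ∈ T) (hodd : Odd T.ncard) :
    ∃ x ∈ T, ∀ q ∈ Q, q • x = x := by
  have : Fact (Nat.Prime 2) := ⟨Nat.prime_two⟩
  have h1 : ¬ 2 ∣ Nat.card ↥(subAct Q T hT) := by
    rw [card_subAct]
    exact fun h => (Nat.not_even_iff_odd.mpr hodd) (even_iff_two_dvd.mpr h)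
  obtain ⟨⟨x, hx⟩, hfix⟩ := hQ.nonempty_fixed_point_of_prime_not_dvd_card _ h1
  refine ⟨x, hx, fun q hq => ?_⟩
  have := hfix ⟨q, hq⟩
  exact congrArg Subtype.val this

lemma odd_ncard_Fx [Finite X] {Q : Subgroup Γ} (hQ : IsPGroup 2 Q) (hodd : Odd (Nat.card X)) :
    Odd (Fx (X := X) Q).ncard := by
  have : Fact (Nat.Prime 2) := ⟨Nat.prime_two⟩
  have h1 := hQ.card_modEq_card_fixedPoints X
  have h2 : Nat.card ↥(fixedPoints ↥Q X) = (Fx (X := X) Q).ncard := by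
    rw [← Nat.card_coe_set_eq]
    apply Nat.card_congr
    apply Equiv.subtypeEquivRight
    intro x
    constructor
    · intro hx q hq
      exact hx ⟨q, hq⟩
    · intro hx q
      exact hx q q.2
  rw [h2] at h1
  rcases Nat.even_or_odd (Fx (X := X) Q).ncard with he | ho
  · exfalso
    have h3 : Nat.card X % 2 = (Fx (X := X) Q).ncard % 2 := h1
    rw [Nat.even_iff.mp he, Nat.odd_iff.mp hodd] at h3
    omega
  · exact ho

lemma kt_pair {H : Subgroup Γ} {S : Set X} (h : KT H S 2) {a b c d : X}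
    (ha : a ∉ S) (hb : b ∉ S) (hc : c ∉ S) (hd : d ∉ S) (hab : a ≠ b) (hcd : c ≠ d) :
    ∃ u ∈ H, u • a = c ∧ u • b = d := by
  classical
  have hba : b ≠ a := Ne.symm hab
  obtain ⟨u, hu, hus⟩ := h {a, b} (fun z => if z = a then c else d)
    (Finset.card_le_two)
    (by
      intro z hz
      rw [Finset.mem_insert, Finset.mem_singleton] at hz
      rcases hz with hz | hz
      · rw [hz]; exact ⟨ha, by rw [if_pos rfl]; exact hc⟩
      · rw [hz]; exact ⟨hb, by rw [if_neg hba]; exact hd⟩)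
    (by
      intro z hz w hw hzw
      rw [Finset.coe_insert, Finset.coe_singleton, Set.mem_insert_iff,
        Set.mem_singleton_iff] at hz hw
      rcases hz with hz | hz <;> rcases hw with hw | hw
      · rw [hz, hw]
      · exfalso
        rw [hz, hw] at hzw
        simp only [if_pos rfl, if_neg hba] at hzw
        exact hcd hzw
      · exfalso
        rw [hz, hw] at hzw
        simp only [if_pos rfl, if_neg hba] at hzw
        exact hcd hzw.symm
      · rw [hz, hw])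
  refine ⟨u, hu, ?_, ?_⟩
  · have h1 := hus a (by simp)
    simpa using h1
  · have h1 := hus b (by simp)
    simpa [hba] using h1

lemma kt_one_of_trans {H : Subgroup Γ} {S : Set X}
    (h : ∀ x y, x ∉ S → y ∉ S → ∃ g ∈ H, g • x = y) : KT H S 1 := by
  classical
  intro s f hs hS hf
  rcases s.eq_empty_or_nonempty with rfl | ⟨x0, hx0⟩
  · exact ⟨1, H.one_mem, by simp⟩
  · obtain ⟨g, hg, e⟩ := h x0 (f x0) (hS x0 hx0).1 (hS x0 hx0).2
    refine ⟨g, hg, fun x hx => ?_⟩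
    have hxx : x = x0 := Finset.card_le_one.mp hs x hx x0 hx0
    rw [hxx, e]

lemma mem_normalizer_of_map_map_eq {Q : Subgroup Γ} {g h : Γ}
    (e : (Q.map (MulAut.conj g).toMonoidHom).map (MulAut.conj h).toMonoidHom = Q) :
    h * g ∈ Subgroup.normalizer (Q : Set Γ) := by
  rw [Subgroup.mem_normalizer_iff]
  intro x
  constructor
  · intro hx
    rw [← e, mem_map_conj, mem_map_conj]
    have : g⁻¹ * (h⁻¹ * (h * g * x * (h * g)⁻¹) * h) * g = x := by group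
    rw [this]; exact hx
  · intro hx
    rw [← e, mem_map_conj, mem_map_conj] at hx
    have : g⁻¹ * (h⁻¹ * (h * g * x * (h * g)⁻¹) * h) * g = x := by group
    rw [this] at hx; exact hx

end action


section core

variable {Γ X : Type*} [Group Γ] [MulAction Γ X]

/-- two-point stabiliser in `N` -/
def Mab (N : Subgroup Γ) (a b : X) : Subgroup Γ := N ⊓ stabilizer Γ a ⊓ stabilizer Γ b

lemma mem_Mab {N : Subgroup Γ} {a b : X} {x : Γ} :
    x ∈ Mab N a b ↔ x ∈ N ∧ x • a = a ∧ x • b = b := by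
  unfold Mab
  rw [Subgroup.mem_inf, Subgroup.mem_inf, mem_stabilizer_iff, mem_stabilizer_iff, and_assoc]

/-- the set `{a, b}` in the form produced by `KT.stab` -/
def pr (a b : X) : Set X := insert b (insert a (∅ : Set X))

lemma notMem_pr {a b y : X} : y ∉ pr a b ↔ y ≠ a ∧ y ≠ b := by
  unfold pr
  rw [Set.mem_insert_iff, Set.mem_insert_iff]
  constructor
  · intro h
    exact ⟨fun e => h (Or.inr (Or.inl e)), fun e => h (Or.inl e)⟩
  · rintro ⟨h1, h2⟩ (h | h | h)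
    · exact h2 h
    · exact h1 h
    · exact h

lemma ncard_pr_compl [Finite X] {a b : X} (hab : a ≠ b) :
    ((pr a b)ᶜ : Set X).ncard = Nat.card X - 2 := by
  have h1 : (pr a b).ncard = 2 := by
    unfold pr
    rw [insert_empty_eq]
    exact Set.ncard_pair (Ne.symm hab)
  have h2 := Set.ncard_add_ncard_compl (pr a b)
  omega

lemma smul_notMem_pr {a b y : X} {q : Γ} (hqa : q • a = a) (hqb : q • b = b)
    (hy : y ∉ pr a b) : q • y ∉ pr a b := by
  rw [notMem_pr] at hy ⊢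
  constructor
  · intro e
    apply hy.1
    have : q • y = q • a := by rw [e, hqa]
    exact smul_left_cancel q this
  · intro e
    apply hy.2
    have : q • y = q • b := by rw [e, hqb]
    exact smul_left_cancel q this

lemma conj_mem_Mab {N : Subgroup Γ} [hN : N.Normal] {a b : X} {x : Γ} (g : Γ)
    (hx : x ∈ Mab N a b) : g * x * g⁻¹ ∈ Mab N (g • a) (g • b) := by
  rw [mem_Mab] at hx ⊢
  refine ⟨hN.conj_mem x hx.1 g, ?_, ?_⟩
  · rw [mul_smul, mul_smul, inv_smul_smul, hx.2.1]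
  · rw [mul_smul, mul_smul, inv_smul_smul, hx.2.2]

lemma Mab_map_conj {N : Subgroup Γ} [hN : N.Normal] (a b : X) (g : Γ) :
    (Mab N a b).map (MulAut.conj g).toMonoidHom = Mab N (g • a) (g • b) := by
  ext x
  rw [mem_map_conj]
  constructor
  · intro h
    have := conj_mem_Mab (N := N) g h
    have e : g * (g⁻¹ * x * g) * g⁻¹ = x := by group
    rwa [e] at this
  · intro h
    have := conj_mem_Mab (N := N) g⁻¹ h
    rw [inv_smul_smul, inv_smul_smul, inv_inv] at this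
    exact this

lemma card_Mab_conj {N : Subgroup Γ} [hN : N.Normal] (a b : X) (g : Γ) :
    Nat.card ↥(Mab N (g • a) (g • b)) = Nat.card ↥(Mab N a b) := by
  rw [← Mab_map_conj, card_map_conj]

lemma Fx_smul_mem {Q : Subgroup Γ} {k : Γ} (hk : k ∈ Subgroup.normalizer (Q : Set Γ)) {x : X}
    (hx : x ∈ Fx (X := X) Q) : k • x ∈ Fx (X := X) Q := by
  intro q hq
  have h1 : k⁻¹ * q * k ∈ Q := by
    have := (Subgroup.mem_normalizer_iff'.mp hk (k⁻¹ * q)).mpr (by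
      have : k * (k⁻¹ * q) = q := by group
      rw [this]; exact hq)
    exact this
  have h2 := hx _ h1
  calc q • k • x = k • ((k⁻¹ * q * k) • x) := by
        rw [← mul_smul, ← mul_smul]; congr 1; group
    _ = k • x := by rw [h2]

/-- every point outside `{a,b}` can be moved into the fixed set of `Q` by `N_{ab}`. -/
lemma L1 [Finite X] [Finite Γ] {N : Subgroup Γ} [hN : N.Normal] {a b : X} (hab : a ≠ b)
    (hD : KT (Mab (⊤ : Subgroup Γ) a b) (pr a b) 1) (hodd : Odd (Nat.card X))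
    (h3 : 3 ≤ Nat.card X)
    {Q : Subgroup Γ} (hQM : Q ≤ Mab N a b) (hQ : IsPGroup 2 Q)
    (hidx : ¬ 2 ∣ Q.relIndex (Mab N a b)) :
    ∀ y, y ∉ pr a b → ∃ h ∈ Mab N a b, h • y ∈ Fx (X := X) Q := by
  have : Fact (Nat.Prime 2) := ⟨Nat.prime_two⟩
  have hQfix : ∀ q ∈ Q, q • a = a ∧ q • b = b := fun q hq => (mem_Mab.mp (hQM hq)).2
  obtain ⟨y₀, hy₀, hy₀fix⟩ := exists_fixed_of_two_group hQ ((pr a b)ᶜ)
    (fun q hq x hx => smul_notMem_pr (hQfix q hq).1 (hQfix q hq).2 hx)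
    (by
      rw [ncard_pr_compl hab]
      exact Nat.Odd.sub_even (by omega) hodd (by norm_num))
  intro y hy
  obtain ⟨d, hd, hdy⟩ := hD.exists_smul_eq le_rfl hy₀ hy
  have hd' := mem_Mab.mp hd
  have hQ'M : Q.map (MulAut.conj d).toMonoidHom ≤ Mab N a b := by
    rintro _ ⟨q, hq, rfl⟩
    have := conj_mem_Mab (N := N) d (hQM hq)
    rw [hd'.2.1, hd'.2.2] at this
    exact this
  obtain ⟨h, hh, he⟩ := conj_of_sylow hQM hQ'M hQ (card_map_conj Q d) hidx
  refine ⟨h, hh, ?_⟩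
  intro q hq
  rw [← he, mem_map_conj, mem_map_conj] at hq
  have h1 := hy₀fix _ hq
  rw [← hdy]
  calc q • h • d • y₀ = h • d • ((d⁻¹ * (h⁻¹ * q * h) * d) • y₀) := by
        rw [← mul_smul, ← mul_smul, ← mul_smul, ← mul_smul]; congr 1; group
    _ = h • d • y₀ := by rw [h1]

/-- if the fixed points of `Q` outside `{a,b}` are fused by `N_{ab}`, then `N_{ab}` is transitive
outside `{a,b}`. -/
lemma L2 {N : Subgroup Γ} {a b : X} {Q : Subgroup Γ}
    (h1 : ∀ y, y ∉ pr a b → ∃ h ∈ Mab N a b, h • y ∈ Fx (X := X) Q)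
    (h2 : ∀ c c', c ∈ Fx (X := X) Q → c' ∈ Fx (X := X) Q → c ∉ pr a b → c' ∉ pr a b →
      ∃ m ∈ Mab N a b, m • c = c') :
    KT (Mab N a b) (pr a b) 1 := by
  apply kt_one_of_trans
  intro y y' hy hy'
  obtain ⟨h, hh, hF⟩ := h1 y hy
  obtain ⟨h', hh', hF'⟩ := h1 y' hy'
  have hh2 := (mem_Mab.mp hh).2
  have hh2' := (mem_Mab.mp hh').2
  obtain ⟨m, hm, e⟩ := h2 (h • y) (h' • y') hF hF' (smul_notMem_pr hh2.1 hh2.2 hy)
    (smul_notMem_pr hh2'.1 hh2'.2 hy')
  refine ⟨h'⁻¹ * m * h, Subgroup.mul_mem _ (Subgroup.mul_mem _ (Subgroup.inv_mem _ hh') hm) hh, ?_⟩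
  rw [mul_smul, mul_smul, e, inv_smul_smul]

/-- assembling 3-transitivity from transitivity of the two-point stabiliser. -/
lemma L3 {N : Subgroup Γ} {a b : X} (hab : a ≠ b) (hN2 : KT N (∅ : Set X) 2)
    (h : KT (Mab N a b) (pr a b) 1) : KT N (∅ : Set X) 3 := by
  have hF0 : Fixes N (∅ : Set X) := fun _ _ z hz => absurd hz (Set.notMem_empty z)
  have ha : a ∉ (∅ : Set X) := Set.notMem_empty a
  have hb : b ∉ insert a (∅ : Set X) := by
    intro hh
    rcases hh with hh | hh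
    · exact hab hh.symm
    · exact hh
  have h1 : KT (N ⊓ stabilizer Γ a) (insert a (∅ : Set X)) 1 := hN2.stab ha
  have h2 : KT (N ⊓ stabilizer Γ a) (insert a (∅ : Set X)) 2 :=
    KT.of_stab (hF0.stab a) h1 hb h
  exact KT.of_stab hF0 (hN2.mono (by norm_num)) ha h2

end core


section caseA

lemma dihedral_conj' {A : Type*} [Group A] {s t : A} (hs : s ^ 2 = 1) (ht : t ^ 2 = 1) {k : ℕ}
    (hk : (t * s) ^ k = 1) (hodd : Odd k) :
    (t * s) ^ ((k + 1) / 2) * s * ((t * s) ^ ((k + 1) / 2))⁻¹ = t := by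
  obtain ⟨i, hi⟩ := hodd
  have hj : (k + 1) / 2 = i + 1 := by omega
  rw [hj]
  have es : s⁻¹ = s := by
    rw [inv_eq_iff_mul_eq_one, ← pow_two]; exact hs
  have et : t⁻¹ = t := by
    rw [inv_eq_iff_mul_eq_one, ← pow_two]; exact ht
  have e2 : s * (t * s) * s⁻¹ = (t * s)⁻¹ := by
    rw [mul_inv_rev, et, es]
    calc s * (t * s) * s = s * t * (s * s) := by group
      _ = s * t := by rw [← pow_two, hs, mul_one]
  have e3 : s * (t * s) ^ (i + 1) * s⁻¹ = ((t * s) ^ (i + 1))⁻¹ := by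
    have := map_pow (MulAut.conj s) (t * s) (i + 1)
    simp only [MulAut.conj_apply] at this
    rw [this, e2, inv_pow]
  have e4 : s * ((t * s) ^ (i + 1))⁻¹ = (t * s) ^ (i + 1) * s := by
    have : s * ((t * s) ^ (i + 1))⁻¹ * s⁻¹ = (t * s) ^ (i + 1) := by
      have h5 : s * ((t * s) ^ (i + 1))⁻¹ * s⁻¹ = (s * (t * s) ^ (i + 1) * s⁻¹)⁻¹ := by group
      rw [h5, e3, inv_inv]
    calc s * ((t * s) ^ (i + 1))⁻¹ = (s * ((t * s) ^ (i + 1))⁻¹ * s⁻¹) * s := by group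
      _ = (t * s) ^ (i + 1) * s := by rw [this]
  calc (t * s) ^ (i + 1) * s * ((t * s) ^ (i + 1))⁻¹
      = (t * s) ^ (i + 1) * (s * ((t * s) ^ (i + 1))⁻¹) := by group
    _ = (t * s) ^ (i + 1) * ((t * s) ^ (i + 1) * s) := by rw [e4]
    _ = (t * s) ^ (k + 1) * s := by
        rw [← mul_assoc, ← pow_add]; congr 2; omega
    _ = t * s * s := by rw [pow_succ, hk, one_mul]
    _ = t := by rw [mul_assoc, ← pow_two, hs, mul_one]

variable {Γ X : Type*} [Group Γ] [MulAction Γ X]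

lemma pow_odd_swap {u : Γ} {a b : X} (h1 : u • a = b) (h2 : u • b = a) (j : ℕ) :
    u ^ (2 * j + 1) • a = b ∧ u ^ (2 * j + 1) • b = a := by
  induction j with
  | zero => simpa using ⟨h1, h2⟩
  | succ j ih =>
    have e : u ^ (2 * (j + 1) + 1) = u * u * u ^ (2 * j + 1) := by
      rw [show 2 * (j + 1) + 1 = 2 * j + 1 + 1 + 1 by ring, pow_succ', pow_succ', mul_assoc]
    rw [e]
    constructor
    · rw [mul_smul, mul_smul, ih.1, h2, h1]
    · rw [mul_smul, mul_smul, ih.2, h1, h2]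

lemma odd_orderOf_of_mem {M : Subgroup Γ} [Finite Γ] (hM : Odd (Nat.card ↥M)) {x : Γ}
    (hx : x ∈ M) : Odd (orderOf x) := by
  have h1 : orderOf x ∣ Nat.card ↥M := Subgroup.orderOf_dvd_natCard M hx
  exact Odd.of_dvd_nat hM h1

lemma caseA [Finite X] [Finite Γ] {N : Subgroup Γ} [hN : N.Normal] {a b : X} (hab : a ≠ b)
    (hG2 : KT (⊤ : Subgroup Γ) (∅ : Set X) 2)
    (hD : KT (Mab (⊤ : Subgroup Γ) a b) (pr a b) 1) (hN2 : KT N (∅ : Set X) 2)
    (hodd : Odd (Nat.card X)) (hMo : Odd (Nat.card ↥(Mab N a b))) :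
    KT (Mab N a b) (pr a b) 1 := by
  have hne : ∀ z : X, z ∉ (∅ : Set X) := fun z => Set.notMem_empty z
  -- an element of N swapping a and b
  obtain ⟨u, hu, hua, hub⟩ := kt_pair hN2 (hne a) (hne b) (hne b) (hne a) hab (Ne.symm hab)
  have hw : u ^ 2 ∈ Mab N a b := by
    rw [mem_Mab]
    refine ⟨N.pow_mem hu 2, ?_, ?_⟩
    · rw [pow_two, mul_smul, hua, hub]
    · rw [pow_two, mul_smul, hub, hua]
  obtain ⟨i, hi⟩ := odd_orderOf_of_mem hMo hw
  -- the involution τ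
  have hτsw := pow_odd_swap hua hub i
  rw [← hi] at hτsw
  set τ := u ^ orderOf (u ^ 2) with hτ
  have hτ2 : τ ^ 2 = 1 := by
    rw [hτ, ← pow_mul, mul_comm, pow_mul, pow_orderOf_eq_one]
  have hτN : τ ∈ N := N.pow_mem hu _
  have hτ1 : τ ≠ 1 := by
    intro e
    rw [e, one_smul] at hτsw
    exact hab hτsw.1
  -- a fixed point of τ
  have hQτ : IsPGroup 2 (Subgroup.zpowers τ) := by
    apply IsPGroup.of_card (n := 1)
    rw [Nat.card_zpowers, pow_one]
    exact orderOf_eq_prime hτ2 hτ1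
  obtain ⟨y₀, -, hy₀⟩ := exists_fixed_of_two_group hQτ (Set.univ : Set X)
    (fun _ _ _ _ => Set.mem_univ _) (by rw [Set.ncard_univ]; exact hodd)
  have hτy₀ : τ • y₀ = y₀ := hy₀ τ (Subgroup.mem_zpowers τ)
  have hy₀pr : y₀ ∉ pr a b := by
    rw [notMem_pr]
    constructor
    · intro e
      rw [e, hτsw.1] at hτy₀
      exact hab hτy₀.symm
    · intro e
      rw [e, hτsw.2] at hτy₀
      exact hab hτy₀
  -- involutions fixing any given point
  have hinv : ∀ y, y ∉ pr a b → ∃ σ ∈ N, σ ^ 2 = 1 ∧ σ • a = b ∧ σ • b = a ∧ σ • y = y := by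
    intro y hy
    obtain ⟨d, hd, hdy⟩ := hD.exists_smul_eq le_rfl hy₀pr hy
    have hd' := (mem_Mab.mp hd).2
    have hda : d⁻¹ • a = a := by rw [inv_smul_eq_iff, hd'.1]
    have hdb : d⁻¹ • b = b := by rw [inv_smul_eq_iff, hd'.2]
    refine ⟨d * τ * d⁻¹, hN.conj_mem τ hτN d, ?_, ?_, ?_, ?_⟩
    · have : (d * τ * d⁻¹) ^ 2 = d * τ ^ 2 * d⁻¹ := by rw [pow_two, pow_two]; group
      rw [this, hτ2]; group
    · rw [mul_smul, mul_smul, hda, hτsw.1, hd'.2]
    · rw [mul_smul, mul_smul, hdb, hτsw.2, hd'.1]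
    · rw [← hdy, mul_smul, mul_smul, inv_smul_smul, hτy₀]
  apply kt_one_of_trans
  intro y y' hy hy'
  obtain ⟨σ, hσN, hσ2, hσa, hσb, hσy⟩ := hinv y hy
  obtain ⟨σ', hσ'N, hσ'2, hσ'a, hσ'b, hσ'y⟩ := hinv y' hy'
  have hw' : σ' * σ ∈ Mab N a b := by
    rw [mem_Mab]
    refine ⟨N.mul_mem hσ'N hσN, ?_, ?_⟩
    · rw [mul_smul, hσa, hσ'b]
    · rw [mul_smul, hσb, hσ'a]
  have hk' := odd_orderOf_of_mem hMo hw'
  set m := (σ' * σ) ^ ((orderOf (σ' * σ) + 1) / 2) with hm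
  have hmM : m ∈ Mab N a b := Subgroup.pow_mem _ hw' _
  have hconj : m * σ * m⁻¹ = σ' := dihedral_conj' hσ2 hσ'2 (pow_orderOf_eq_one _) hk'
  refine ⟨m, hmM, ?_⟩
  by_contra hne'
  -- σ' fixes both y' and m • y
  have hfix2 : σ' • (m • y) = m • y := by
    rw [← hconj, mul_smul, mul_smul, inv_smul_smul, hσy]
  obtain ⟨g, -, hga, hgb⟩ := kt_pair hG2 (hne a) (hne b) (hne y') (hne (m • y)) hab
    (fun e => hne' e.symm)
  have hσ'M : σ' ∈ Mab N (g • a) (g • b) := by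
    rw [mem_Mab, hga, hgb]
    exact ⟨hσ'N, hσ'y, hfix2⟩
  have hx := conj_mem_Mab (N := N) g⁻¹ hσ'M
  rw [inv_smul_smul, inv_smul_smul, inv_inv] at hx
  have hx2 : (g⁻¹ * σ' * g) ^ 2 = 1 := by
    have : (g⁻¹ * σ' * g) ^ 2 = g⁻¹ * σ' ^ 2 * g := by rw [pow_two, pow_two]; group
    rw [this, hσ'2]; group
  have hx1 : g⁻¹ * σ' * g ≠ 1 := by
    intro e
    have : σ' = 1 := by
      have h5 : σ' = g * (g⁻¹ * σ' * g) * g⁻¹ := by group
      rw [h5, e]; group
    rw [this, one_smul] at hσ'a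
    exact hab hσ'a
  have hord : orderOf (g⁻¹ * σ' * g) = 2 := orderOf_eq_prime hx2 hx1
  have hoddx := odd_orderOf_of_mem hMo hx
  rw [hord] at hoddx
  exact absurd hoddx (by decide)

end caseA


section caseB

variable {Γ X : Type*} [Group Γ] [MulAction Γ X]

lemma exists_sylow_sub [Finite Γ] (M : Subgroup Γ) (p : ℕ) [Fact p.Prime] :
    ∃ Q : Subgroup Γ, Q ≤ M ∧ IsPGroup p Q ∧ ¬ p ∣ Q.relIndex M := by
  let P : Sylow p ↥M := default
  refine ⟨(P : Subgroup ↥M).map M.subtype, Subgroup.map_subtype_le _, ?_, ?_⟩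
  · exact P.2.map _
  · have : ((P : Subgroup ↥M).map M.subtype).relIndex M = (P : Subgroup ↥M).index := by
      rw [Subgroup.relIndex, Subgroup.subgroupOf,
        Subgroup.comap_map_eq_self_of_injective M.subtype_injective]
    rw [this]
    exact P.not_dvd_index

lemma Q_le_Mab {N : Subgroup Γ} {a b c d : X} {Q : Subgroup Γ} (hQM : Q ≤ Mab N a b)
    (hc : c ∈ Fx (X := X) Q) (hd : d ∈ Fx (X := X) Q) : Q ≤ Mab N c d := by
  intro q hq
  rw [mem_Mab]
  exact ⟨(mem_Mab.mp (hQM hq)).1, hc q hq, hd q hq⟩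

lemma sylow_two_point [Finite Γ] {N : Subgroup Γ} [hN : N.Normal] {a b : X} (hab : a ≠ b)
    (hG2 : KT (⊤ : Subgroup Γ) (∅ : Set X) 2) {Q : Subgroup Γ} (hQM : Q ≤ Mab N a b)
    (hidx : ¬ 2 ∣ Q.relIndex (Mab N a b)) {c d : X} (hc : c ∈ Fx (X := X) Q)
    (hd : d ∈ Fx (X := X) Q) (hcd : c ≠ d) : ¬ 2 ∣ Q.relIndex (Mab N c d) := by
  have hne : ∀ z : X, z ∉ (∅ : Set X) := fun z => Set.notMem_empty z
  obtain ⟨g, -, hga, hgb⟩ := kt_pair hG2 (hne a) (hne b) (hne c) (hne d) hab hcd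
  have h1 := card_Mab_conj (N := N) a b g
  rw [hga, hgb] at h1
  have h2 := card_eq_card_mul_relIndex' Q (Mab N c d) (Q_le_Mab hQM hc hd)
  have h3 := card_eq_card_mul_relIndex' Q (Mab N a b) hQM
  have hpos : 0 < Nat.card ↥Q := Nat.card_pos
  have h4 : Q.relIndex (Mab N c d) = Q.relIndex (Mab N a b) := by
    apply Nat.eq_of_mul_eq_mul_left hpos
    rw [← h2, ← h3, h1]
  rw [h4]
  exact hidx

lemma exists_normalizer_swap [Finite Γ] {N : Subgroup Γ} [hN : N.Normal] {a b : X}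
    (hab : a ≠ b) (hN2 : KT N (∅ : Set X) 2) {Q : Subgroup Γ} (hQM : Q ≤ Mab N a b)
    (hQ : IsPGroup 2 Q) (hidx : ¬ 2 ∣ Q.relIndex (Mab N a b)) :
    ∃ k ∈ N ⊓ Subgroup.normalizer (Q : Set Γ), k • a = b := by
  have : Fact (Nat.Prime 2) := ⟨Nat.prime_two⟩
  have hne : ∀ z : X, z ∉ (∅ : Set X) := fun z => Set.notMem_empty z
  obtain ⟨g, hg, hga, hgb⟩ := kt_pair hN2 (hne a) (hne b) (hne b) (hne a) hab (Ne.symm hab)
  have hQ'M : Q.map (MulAut.conj g).toMonoidHom ≤ Mab N a b := by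
    rintro _ ⟨q, hq, rfl⟩
    have h1 := mem_Mab.mp (hQM hq)
    have hgia : g⁻¹ • a = b := by rw [inv_smul_eq_iff, hgb]
    have hgib : g⁻¹ • b = a := by rw [inv_smul_eq_iff, hga]
    rw [mem_Mab]
    refine ⟨hN.conj_mem q h1.1 g, ?_, ?_⟩
    · change (g * q * g⁻¹) • a = a
      rw [mul_smul, mul_smul, hgia, h1.2.2, hgb]
    · change (g * q * g⁻¹) • b = b
      rw [mul_smul, mul_smul, hgib, h1.2.1, hga]
  obtain ⟨h, hh, he⟩ := conj_of_sylow hQM hQ'M hQ (card_map_conj Q g) hidx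
  have hh' := mem_Mab.mp hh
  refine ⟨h * g, Subgroup.mem_inf.mpr ⟨N.mul_mem hh'.1 hg, mem_normalizer_of_map_map_eq he⟩, ?_⟩
  rw [mul_smul, hga, hh'.2.2]

lemma witt3 [Finite Γ] {N : Subgroup Γ} [hN : N.Normal] {a b : X} (hab : a ≠ b)
    (h3 : IsMultiplyPretransitive Γ X 3) (hG2 : KT (⊤ : Subgroup Γ) (∅ : Set X) 2)
    {Q : Subgroup Γ} (hQM : Q ≤ Mab N a b) (hQ : IsPGroup 2 Q)
    (hidx : ¬ 2 ∣ Q.relIndex (Mab N a b)) (x y : Fin 3 ↪ X)
    (hx : ∀ i, x i ∈ Fx (X := X) Q) (hy : ∀ i, y i ∈ Fx (X := X) Q) :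
    ∃ k ∈ Subgroup.normalizer (Q : Set Γ), ∀ i, k • x i = y i := by
  have : Fact (Nat.Prime 2) := ⟨Nat.prime_two⟩
  obtain ⟨g, hg⟩ := h3.exists_smul_eq x y
  have hgi : ∀ i, g • x i = y i := by
    intro i
    have := congrArg (fun z : Fin 3 ↪ X => z i) hg
    simpa [Function.Embedding.smul_apply] using this
  have hy01 : y 0 ≠ y 1 := fun h => by simpa using y.injective h
  set R : Subgroup Γ := Mab N (y 0) (y 1) ⊓ stabilizer Γ (y 2) with hR
  have hQR : Q ≤ R := by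
    intro q hq
    refine Subgroup.mem_inf.mpr ⟨Q_le_Mab hQM (hy 0) (hy 1) hq, ?_⟩
    rw [mem_stabilizer_iff]
    exact hy 2 q hq
  have hQ'R : Q.map (MulAut.conj g).toMonoidHom ≤ R := by
    rintro _ ⟨q, hq, rfl⟩
    have h1 := mem_Mab.mp (hQM hq)
    have hfix : ∀ i, (g * q * g⁻¹) • y i = y i := by
      intro i
      rw [mul_smul, mul_smul, ← hgi i, inv_smul_smul, hx i q hq]
    refine Subgroup.mem_inf.mpr ⟨mem_Mab.mpr ⟨hN.conj_mem q h1.1 g, hfix 0, hfix 1⟩, ?_⟩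
    rw [mem_stabilizer_iff]
    exact hfix 2
  have hidxR : ¬ 2 ∣ Q.relIndex R := by
    intro hdvd
    have h1 := Subgroup.relIndex_mul_relIndex Q R (Mab N (y 0) (y 1)) hQR inf_le_left
    apply sylow_two_point hab hG2 hQM hidx (hy 0) (hy 1) hy01
    rw [← h1]
    exact Dvd.dvd.mul_right hdvd _
  obtain ⟨h, hh, he⟩ := conj_of_sylow hQR hQ'R hQ (card_map_conj Q g) hidxR
  obtain ⟨hh1, hh2⟩ := Subgroup.mem_inf.mp hh
  have hh1' := mem_Mab.mp hh1
  rw [mem_stabilizer_iff] at hh2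
  refine ⟨h * g, mem_normalizer_of_map_map_eq he, ?_⟩
  intro i
  rw [mul_smul, hgi i]
  fin_cases i
  · exact hh1'.2.1
  · exact hh1'.2.2
  · exact hh2

end caseB


section main

universe u

lemma four_le_ncard {X : Type*} [Finite X] {F : Set X} {a b c d : X} (ha : a ∈ F) (hb : b ∈ F)
    (hc : c ∈ F) (hd : d ∈ F) (hab : a ≠ b) (hac : a ≠ c) (had : a ≠ d) (hbc : b ≠ c)
    (hbd : b ≠ d) (hcd : c ≠ d) : 4 ≤ F.ncard := by
  classical
  have h1 : (({a, b, c, d} : Finset X) : Set X) ⊆ F := by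
    intro z hz
    simp only [Finset.coe_insert, Finset.coe_singleton, Set.mem_insert_iff,
      Set.mem_singleton_iff] at hz
    rcases hz with rfl | rfl | rfl | rfl <;> assumption
  have h2 := Set.ncard_le_ncard h1 (Set.toFinite F)
  rw [Set.ncard_coe_finset] at h2
  have h3 : ({a, b, c, d} : Finset X).card = 4 := by
    rw [Finset.card_insert_of_notMem, Finset.card_insert_of_notMem, Finset.card_pair hcd]
    · simp [hbc, hbd]
    · simp [hab, hac, had]
  omega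

lemma caseB_fuse {Γ X : Type u} [Group Γ] [MulAction Γ X] [FaithfulSMul Γ X] [Finite X] [Finite Γ]
    (ih : ∀ (Γ₁ X₁ : Type u) [Group Γ₁] [MulAction Γ₁ X₁] [FaithfulSMul Γ₁ X₁] [Finite X₁],
      Nat.card X₁ < Nat.card X → Odd (Nat.card X₁) → 5 ≤ Nat.card X₁ →
      IsMultiplyPretransitive Γ₁ X₁ 3 →
      ∀ N₁ : Subgroup Γ₁, N₁.Normal → N₁ ≠ ⊥ → KT N₁ (∅ : Set X₁) 3)
    {N : Subgroup Γ} [hN : N.Normal] {a b : X} (hab : a ≠ b)
    (h3 : IsMultiplyPretransitive Γ X 3) (hG2 : KT (⊤ : Subgroup Γ) (∅ : Set X) 2)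
    (hN2 : KT N (∅ : Set X) 2) (hodd : Odd (Nat.card X))
    {Q : Subgroup Γ} (hQM : Q ≤ Mab N a b) (hQ : IsPGroup 2 Q)
    (hidx : ¬ 2 ∣ Q.relIndex (Mab N a b)) (hQ1 : Q ≠ ⊥) :
    ∀ c c', c ∈ Fx (X := X) Q → c' ∈ Fx (X := X) Q → c ∉ pr a b → c' ∉ pr a b →
      ∃ m ∈ Mab N a b, m • c = c' := by
  intro c c' hc hc' hcp hc'p
  by_cases hcc : c = c'
  · exact ⟨1, Subgroup.one_mem _, by rw [one_smul, hcc]⟩
  have ha : a ∈ Fx (X := X) Q := fun q hq => (mem_Mab.mp (hQM hq)).2.1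
  have hb : b ∈ Fx (X := X) Q := fun q hq => (mem_Mab.mp (hQM hq)).2.2
  rw [notMem_pr] at hcp hc'p
  have hF4 : 4 ≤ (Fx (X := X) Q).ncard :=
    four_le_ncard ha hb hc hc' hab (Ne.symm hcp.1) (Ne.symm hc'p.1) (Ne.symm hcp.2)
      (Ne.symm hc'p.2) hcc
  have hFodd := odd_ncard_Fx (X := X) hQ hodd
  have hF5 : 5 ≤ (Fx (X := X) Q).ncard := by
    rcases hFodd with ⟨j, hj⟩
    omega
  have hFlt : (Fx (X := X) Q).ncard < Nat.card X := by
    obtain ⟨q, hq, hq1⟩ : ∃ q ∈ Q, q ≠ 1 := by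
      by_contra hcon
      push Not at hcon
      apply hQ1
      rw [Subgroup.eq_bot_iff_forall]
      exact hcon
    obtain ⟨x, hx⟩ : ∃ x : X, q • x ≠ x := by
      by_contra hcon
      push Not at hcon
      apply hq1
      apply eq_of_smul_eq_smul (α := X)
      intro x
      rw [hcon x, one_smul]
    have hss : Fx (X := X) Q ⊂ Set.univ := by
      rw [Set.ssubset_univ_iff]
      intro e
      have : x ∈ Fx (X := X) Q := by rw [e]; exact Set.mem_univ x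
      exact hx (this q hq)
    have := Set.ncard_lt_ncard hss (Set.toFinite _)
    rwa [Set.ncard_univ] at this
  -- the restricted action
  set K : Subgroup Γ := Subgroup.normalizer (Q : Set Γ) with hKdef
  have hKF : ∀ k ∈ K, ∀ x ∈ Fx (X := X) Q, k • x ∈ Fx (X := X) Q :=
    fun k hk x hx => Fx_smul_mem hk hx
  let FK : SubMulAction ↥K X := subAct K (Fx (X := X) Q) hKF
  let φ : ↥K →* Equiv.Perm ↥FK := MulAction.toPermHom ↥K ↥FK
  have hφ : ∀ (k : ↥K) (z : ↥FK), ((φ k z : ↥FK) : X) = (k : Γ) • (z : X) := by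
    intro k z
    rfl
  have hcard1 : Nat.card ↥FK = (Fx (X := X) Q).ncard := card_subAct K _ hKF
  -- 3-transitivity of the image
  have h3₁ : IsMultiplyPretransitive ↥φ.range ↥FK 3 := by
    rw [isMultiplyPretransitive_iff]
    intro x y
    let x' : Fin 3 ↪ X := ⟨fun i => ((x i : ↥FK) : X), fun i j hij =>
      x.injective (Subtype.ext hij)⟩
    let y' : Fin 3 ↪ X := ⟨fun i => ((y i : ↥FK) : X), fun i j hij =>
      y.injective (Subtype.ext hij)⟩
    obtain ⟨k, hk, hki⟩ := witt3 hab h3 hG2 hQM hQ hidx x' y' (fun i => (x i).2) (fun i => (y i).2)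
    refine ⟨⟨φ ⟨k, hk⟩, MonoidHom.mem_range.mpr ⟨_, rfl⟩⟩, ?_⟩
    ext i
    rw [Function.Embedding.smul_apply]
    change ((φ ⟨k, hk⟩ (x i) : ↥FK) : X) = _
    rw [hφ]
    exact hki i
  -- the normal subgroup
  let N₁ : Subgroup ↥φ.range := (N.subgroupOf K).map φ.rangeRestrict
  have hN₁n : N₁.Normal :=
    Subgroup.Normal.map inferInstance _ φ.rangeRestrict_surjective
  have hN₁1 : N₁ ≠ ⊥ := by
    obtain ⟨k₁, hk₁, hk₁a⟩ := exists_normalizer_swap hab hN2 hQM hQ hidx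
    obtain ⟨hk₁N, hk₁K⟩ := Subgroup.mem_inf.mp hk₁
    intro e
    have hmem : φ.rangeRestrict ⟨k₁, hk₁K⟩ ∈ N₁ :=
      Subgroup.mem_map.mpr ⟨⟨k₁, hk₁K⟩, by rw [Subgroup.mem_subgroupOf]; exact hk₁N, rfl⟩
    rw [e, Subgroup.mem_bot] at hmem
    have h5 : φ ⟨k₁, hk₁K⟩ = 1 := by
      have := congrArg (fun z : ↥φ.range => (z : Equiv.Perm ↥FK)) hmem
      simpa using this
    have h6 := hφ ⟨k₁, hk₁K⟩ ⟨a, ha⟩
    rw [h5] at h6
    change a = k₁ • a at h6
    rw [hk₁a] at h6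
    exact hab h6
  have hKT := ih ↥φ.range ↥FK (by rw [hcard1]; exact hFlt) (by rw [hcard1]; exact hFodd)
    (by rw [hcard1]; exact hF5) h3₁ N₁ hN₁n hN₁1
  -- extract the element
  let a₁ : ↥FK := ⟨a, ha⟩
  let b₁ : ↥FK := ⟨b, hb⟩
  let c₁ : ↥FK := ⟨c, hc⟩
  let c₁' : ↥FK := ⟨c', hc'⟩
  have hab₁ : a₁ ≠ b₁ := fun e => hab (congrArg Subtype.val e)
  have ha₁ : a₁ ∉ (∅ : Set ↥FK) := Set.notMem_empty _
  have hb₁ : b₁ ∉ insert a₁ (∅ : Set ↥FK) := by
    intro hh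
    rcases hh with hh | hh
    · exact hab₁ hh.symm
    · exact hh
  have hstab := (hKT.stab ha₁).stab hb₁
  have hc₁ : c₁ ∉ insert b₁ (insert a₁ (∅ : Set ↥FK)) := by
    intro hh
    rcases hh with hh | hh | hh
    · exact hcp.2 (congrArg Subtype.val hh)
    · exact hcp.1 (congrArg Subtype.val hh)
    · exact hh
  have hc₁' : c₁' ∉ insert b₁ (insert a₁ (∅ : Set ↥FK)) := by
    intro hh
    rcases hh with hh | hh | hh
    · exact hc'p.2 (congrArg Subtype.val hh)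
    · exact hc'p.1 (congrArg Subtype.val hh)
    · exact hh
  obtain ⟨g₁, hg₁, hg₁c⟩ := hstab.exists_smul_eq le_rfl hc₁ hc₁'
  obtain ⟨hg₁', hg₁b⟩ := Subgroup.mem_inf.mp hg₁
  obtain ⟨hg₁N, hg₁a⟩ := Subgroup.mem_inf.mp hg₁'
  rw [mem_stabilizer_iff] at hg₁a hg₁b
  obtain ⟨k', hk'N, hk'e⟩ := Subgroup.mem_map.mp hg₁N
  rw [Subgroup.mem_subgroupOf] at hk'N
  have hact : ∀ z : ↥FK, ((g₁ • z : ↥FK) : X) = (k' : Γ) • (z : X) := by
    intro z
    rw [← hk'e]
    exact hφ k' z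
  refine ⟨(k' : Γ), mem_Mab.mpr ⟨hk'N, ?_, ?_⟩, ?_⟩
  · have := hact a₁
    rw [hg₁a] at this
    exact this.symm
  · have := hact b₁
    rw [hg₁b] at this
    exact this.symm
  · have := hact c₁
    rw [hg₁c] at this
    exact this.symm

theorem wagner_aux : ∀ n : ℕ, ∀ (Γ X : Type u) [Group Γ] [MulAction Γ X] [FaithfulSMul Γ X]
    [Finite X], Nat.card X = n → Odd n → 5 ≤ n → IsMultiplyPretransitive Γ X 3 →
    ∀ N : Subgroup Γ, N.Normal → N ≠ ⊥ → KT N (∅ : Set X) 3 := by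
  intro n
  induction n using Nat.strong_induction_on with
  | _ n ih =>
  intro Γ X _ _ _ _ hcard hodd h5 h3 N hNn hN1
  haveI : Finite Γ := Finite.of_injective _ (MulAction.toPerm_injective (α := Γ) (β := X))
  have : Fact (Nat.Prime 2) := ⟨Nat.prime_two⟩
  have hK3 : KT (⊤ : Subgroup Γ) (∅ : Set X) 3 :=
    kt_top_of_isMultiplyPretransitive (by omega) h3
  have hF : Fixes (⊤ : Subgroup Γ) (∅ : Set X) := fun _ _ z hz => absurd hz (Set.notMem_empty z)
  have hNN : NNormal (⊤ : Subgroup Γ) N :=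
    ⟨le_top, fun g _ x hx => hNn.conj_mem x hx g⟩
  have hcompl : ((∅ : Set X)ᶜ).ncard = n := by
    rw [Set.compl_empty, Set.ncard_univ, hcard]
  have hoddX : Odd (Nat.card X) := by rw [hcard]; exact hodd
  -- Step 1: N is 2-transitive
  have hN2 : KT N (∅ : Set X) 2 := by
    rcases jordan_normal (G := Γ) (X := X) 3 (by norm_num) ∅ ⊤ N hF hNN hN1 hK3
      (by rw [hcompl]; omega) with h | ⟨-, hR, hE⟩
    · exact h
    · exfalso
      obtain ⟨x, hx, hx1⟩ : ∃ x ∈ N, x ≠ 1 := by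
        by_contra hcon
        push Not at hcon
        apply hN1
        rw [Subgroup.eq_bot_iff_forall]
        exact hcon
      have hQx : IsPGroup 2 (Subgroup.zpowers x) := by
        apply IsPGroup.of_card (n := 1)
        rw [Nat.card_zpowers, pow_one]
        exact orderOf_eq_prime (hE x hx) hx1
      obtain ⟨y, -, hy⟩ := exists_fixed_of_two_group hQx (Set.univ : Set X)
        (fun _ _ _ _ => Set.mem_univ _) (by rw [Set.ncard_univ]; exact hoddX)
      exact hx1 (hR x hx y (Set.notMem_empty y) (hy x (Subgroup.mem_zpowers x)))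
  -- two points
  obtain ⟨a, b, hab⟩ : ∃ a b : X, a ≠ b := by
    have : 1 < Nat.card X := by omega
    rw [Finite.one_lt_card_iff_nontrivial] at this
    exact exists_pair_ne X
  have ha0 : a ∉ (∅ : Set X) := Set.notMem_empty a
  have hb0 : b ∉ insert a (∅ : Set X) := by
    intro hh
    rcases hh with hh | hh
    · exact hab hh.symm
    · exact hh
  have hD : KT (Mab (⊤ : Subgroup Γ) a b) (pr a b) 1 := (hK3.stab ha0).stab hb0
  have hG2 : KT (⊤ : Subgroup Γ) (∅ : Set X) 2 := hK3.mono (by norm_num)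
  apply L3 hab hN2
  obtain ⟨Q, hQM, hQ, hidx⟩ := exists_sylow_sub (Mab N a b) 2
  by_cases hQ1 : Q = ⊥
  · -- odd order two-point stabiliser
    apply caseA hab hG2 hD hN2 hoddX
    have h1 := card_eq_card_mul_relIndex' Q (Mab N a b) hQM
    rw [hQ1, Subgroup.card_bot, one_mul] at h1
    rw [h1, ← hQ1]
    exact Nat.not_even_iff_odd.mp (fun he => hidx (even_iff_two_dvd.mp he))
  · apply L2 (L1 hab hD hoddX (by omega) hQM hQ hidx)
    apply caseB_fuse _ hab h3 hG2 hN2 hoddX hQM hQ hidx hQ1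
    intro Γ₁ X₁ _ _ _ _ hlt ho h5' h3' N₁ hN₁ hN₁1
    exact ih (Nat.card X₁) (by rw [← hcard]; exact hlt) Γ₁ X₁ rfl ho h5' h3' N₁ hN₁ hN₁1

end main

end Cfsg.Agent.helper18.Wagner
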