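import Mathlib
import Cfsg.Prelude.Def_FusionSystem
import Cfsg.Prelude.Def_CaseTheorems
import Cfsg.Agent.Lib_helper12_ZS5

set_option autoImplicit false

/-!
The Z*-theorem for central subgroups of the 2-fusion system (helper2).
-/

namespace Cfsg.Agent.helper2.ZFus

open Cfsg Cfsg.Agent.helper12

universe u

section basic

variable {G : Type u} [Group G] [Finite G]

/-- an element of an odd-order subgroup whose order is a power of two is trivial -/
theorem eq_one_of_odd_of_pow {N : Subgroup G} (hN : Odd (Nat.card N)) {a : G} (ha : a ∈ N) {k : ℕ}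
    (hk : a ^ (2 ^ k) = 1) : a = 1 := by
  have h1 : orderOf a ∣ 2 ^ k := orderOf_dvd_of_pow_eq_one hk
  have h2 : orderOf a ∣ Nat.card N := by
    have h := orderOf_dvd_natCard (⟨a, ha⟩ : N)
    rwa [← Subgroup.orderOf_coe] at h
  have h3 : Nat.Coprime (2 ^ k) (Nat.card N) :=
    Nat.Coprime.pow_left k (Nat.coprime_two_left.mpr hN)
  have h4 : orderOf a = 1 := Nat.eq_one_of_dvd_coprimes h3 h1 h2
  exact orderOf_eq_one_iff.mp h4

/-- elements of a Sylow 2-subgroup have 2-power order -/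
theorem pow_eq_one_of_mem_sylow (S : Sylow 2 G) {a : G} (ha : a ∈ S) : ∃ k : ℕ, a ^ (2 ^ k) = 1 := by
  obtain ⟨k, hk⟩ := S.2 ⟨a, ha⟩
  exact ⟨k, by simpa using congrArg Subtype.val hk⟩

/-- two elements of a Sylow 2-subgroup congruent modulo an odd-order subgroup are equal -/
theorem eq_of_mem_sylow_of_mem_odd (S : Sylow 2 G) {N : Subgroup G} (hN : Odd (Nat.card N))
    {s s' : G} (hs : s ∈ S) (hs' : s' ∈ S) (h : s⁻¹ * s' ∈ N) : s = s' := by
  have h1 : s⁻¹ * s' ∈ S := (S : Subgroup G).mul_mem ((S : Subgroup G).inv_mem hs) hs'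
  obtain ⟨k, hk⟩ := pow_eq_one_of_mem_sylow S h1
  have h2 := eq_one_of_odd_of_pow hN h hk
  exact (inv_mul_eq_one.mp h2)

/-- a 2-subgroup of `S N` is conjugate into `S` by an element of `N` -/
theorem conj_into_sylow_of_le_sup (S : Sylow 2 G) (N : Subgroup G) [N.Normal] (U : Subgroup G)
    (hU : IsPGroup 2 U) (hle : U ≤ (S : Subgroup G) ⊔ N) :
    ∃ n ∈ N, ∀ u ∈ U, n * u * n⁻¹ ∈ S := by
  have hSK : (S : Subgroup G) ≤ (S : Subgroup G) ⊔ N := le_sup_left
  obtain ⟨k, hk⟩ := bs_pgroup_conj_into_sylow (G := ↥((S : Subgroup G) ⊔ N)) (S.subtype hSK)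
    (U.subgroupOf ((S : Subgroup G) ⊔ N)) (hU.comap_subtype)
  have hkm : (k : G) ∈ ((S : Subgroup G) ⊔ N : Subgroup G) := k.2
  rw [← SetLike.mem_coe, Subgroup.mul_normal] at hkm
  obtain ⟨s, hs, n, hn, hsn⟩ := Set.mem_mul.mp hkm
  refine ⟨n, hn, fun u hu => ?_⟩
  have h1 := hk ⟨u, hle hu⟩ (Subgroup.mem_subgroupOf.mpr hu)
  have h2 : ((k * ⟨u, hle hu⟩ * k⁻¹ : ↥((S : Subgroup G) ⊔ N)) : G) ∈ (S : Subgroup G) := by
    have h1' : k * ⟨u, hle hu⟩ * k⁻¹ ∈
        ((S.subtype hSK : Sylow 2 ↥((S : Subgroup G) ⊔ N)) : Subgroup ↥((S : Subgroup G) ⊔ N)) := h1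
    rw [Sylow.coe_subtype, Subgroup.mem_subgroupOf] at h1'
    exact h1'
  have h3 : (k : G) * u * (k : G)⁻¹ ∈ (S : Subgroup G) := h2
  rw [← hsn] at h3
  have hs' : s ∈ (S : Subgroup G) := hs
  have h4 : s⁻¹ * (s * n * u * (s * n)⁻¹) * s ∈ (S : Subgroup G) :=
    (S : Subgroup G).mul_mem ((S : Subgroup G).mul_mem ((S : Subgroup G).inv_mem hs') h3) hs'
  have e : s⁻¹ * (s * n * u * (s * n)⁻¹) * s = n * u * n⁻¹ := by group
  rw [e] at h4
  exact h4

end basic

section main

/-- Weak closure of the elements of `Q` in the Sylow subgroup `S`. -/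
def WC {G : Type u} [Group G] (S : Sylow 2 G) (Q : Subgroup G) : Prop :=
  ∀ x ∈ Q, ∀ g : G, g * x * g⁻¹ ∈ S → g * x * g⁻¹ = x

/-- weak closure passes to the quotient by a normal subgroup `M` such that 2-elements of `S M`
conjugate to elements of `Q` are conjugate into `S` by elements of `M`. -/
theorem wc_quotient {G : Type u} [Group G] [Finite G] (S : Sylow 2 G) (Q : Subgroup G)
    (hWC : WC S Q) (M : Subgroup G) [M.Normal]
    (hM : ∀ x ∈ Q, ∀ g : G, ∀ s ∈ S, s⁻¹ * (g * x * g⁻¹) ∈ M → ∃ n ∈ M, n * (g * x * g⁻¹) * n⁻¹ ∈ S) :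
    WC (S.mapSurjective (QuotientGroup.mk'_surjective M)) (Q.map (QuotientGroup.mk' M)) := by
  rintro _ ⟨x, hx, rfl⟩ gb hgb
  obtain ⟨g, rfl⟩ := QuotientGroup.mk'_surjective M gb
  have hgb' : QuotientGroup.mk' M (g * x * g⁻¹) ∈ (S : Subgroup G).map (QuotientGroup.mk' M) := by
    rw [map_mul, map_mul, map_inv]
    exact hgb
  obtain ⟨s, hs, hsg⟩ := hgb'
  have h1 : s⁻¹ * (g * x * g⁻¹) ∈ M := by
    rw [← QuotientGroup.eq_one_iff, ← QuotientGroup.mk'_apply, map_mul, map_inv, hsg]
    exact inv_mul_cancel _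
  obtain ⟨n, hn, hns⟩ := hM x hx g s hs h1
  have e : n * (g * x * g⁻¹) * n⁻¹ = (n * g) * x * (n * g)⁻¹ := by group
  rw [e] at hns
  have h2 := hWC x hx (n * g) hns
  have h3 : g * x * g⁻¹ = n⁻¹ * x * n := by
    calc g * x * g⁻¹ = n⁻¹ * (n * g * x * (n * g)⁻¹) * n := by group
      _ = n⁻¹ * x * n := by rw [h2]
  have hn1 : QuotientGroup.mk' M n = 1 := (QuotientGroup.eq_one_iff n).mpr hn
  have h4 : QuotientGroup.mk' M (g * x * g⁻¹) = QuotientGroup.mk' M x := by
    rw [h3, map_mul, map_mul, map_inv, hn1, inv_one, one_mul, mul_one]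
  simpa using h4

/-- The Z*-theorem for weakly closed subgroups of a Sylow 2-subgroup. -/
theorem wc_main : ∀ (n : ℕ) (G : Type u) [Group G] [Finite G], Nat.card G = n →
    ∀ (S : Sylow 2 G) (Q : Subgroup G), Q ≤ S → WC S Q →
    ∀ x ∈ Q, ∀ g : G, x * g * x⁻¹ * g⁻¹ ∈ oddCore G := by
  intro n
  induction n using Nat.strong_induction_on with
  | _ n ih =>
    intro G _ _ hcard S Q hQS hWC x hx g
    haveI : Fact (Nat.Prime 2) := ⟨Nat.prime_two⟩
    have hOodd : Odd (Nat.card (oddCore G)) :=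
      Nat.coprime_two_right.mp (helper1.pPrimeCore_coprime (G := G) 2)
    by_cases hO : oddCore G = ⊥
    · -- trivial odd core
      rw [hO, Subgroup.mem_bot]
      by_cases hQ : Q = ⊥
      · have hx1 : x = 1 := by rw [hQ] at hx; exact Subgroup.mem_bot.mp hx
        rw [hx1]; group
      -- an involution of Q
      have hQp : IsPGroup 2 Q := S.2.to_le hQS
      obtain ⟨k, hk⟩ := IsPGroup.iff_card.mp hQp
      have hk0 : k ≠ 0 := by
        rintro rfl
        rw [pow_zero] at hk
        exact hQ ((Subgroup.card_eq_one).mp hk)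
      have h2dvd : 2 ∣ Nat.card Q := by
        rw [hk]; exact dvd_pow_self 2 hk0
      obtain ⟨zQ, hzQ⟩ := exists_prime_orderOf_dvd_card' (G := Q) 2 h2dvd
      have hz : orderOf (zQ : G) = 2 := by rw [Subgroup.orderOf_coe]; exact hzQ
      have hzQ' : (zQ : G) ∈ Q := zQ.2
      obtain ⟨N', hN'n, hN'o, hN'⟩ := zs_sylow_form S (zQ : G) hz (hWC _ hzQ')
      have hN'bot : N' = ⊥ := by
        have := helper1.le_pPrimeCore (p := 2) hN'n (Nat.coprime_two_right.mpr hN'o)
        rw [show pPrimeCore 2 G = oddCore G from rfl, hO] at this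
        exact le_bot_iff.mp this
      have hzc : ∀ g : G, (zQ : G) * g = g * (zQ : G) := by
        intro g
        have h1 := hN' g
        rw [hN'bot, Subgroup.mem_bot] at h1
        have h2 : (zQ : G) * g * (zQ : G)⁻¹ = g := mul_inv_eq_one.mp h1
        exact mul_inv_eq_iff_eq_mul.mp h2
      -- the quotient by ⟨z⟩
      have hZn : (Subgroup.zpowers (zQ : G)).Normal := by
        constructor
        intro a ha b
        obtain ⟨i, rfl⟩ := Subgroup.mem_zpowers_iff.mp ha
        have hcomm : Commute b ((zQ : G) ^ i) :=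
          Commute.zpow_right (show Commute b (zQ : G) from (hzc b).symm) i
        rw [hcomm.eq, mul_inv_cancel_right]
        exact Subgroup.zpow_mem_zpowers _ _
      have hZne : Subgroup.zpowers (zQ : G) ≠ ⊥ := by
        intro h
        have h1 : (zQ : G) = 1 := by
          have := Subgroup.mem_zpowers (zQ : G)
          rw [h] at this
          exact Subgroup.mem_bot.mp this
        rw [h1, orderOf_one] at hz
        omega
      have hZS : Subgroup.zpowers (zQ : G) ≤ S :=
        Subgroup.zpowers_le.mpr (hQS hzQ')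
      have hlt := zs_card_quotient_lt (Subgroup.zpowers (zQ : G)) hZne
      have hWCq : WC (S.mapSurjective (QuotientGroup.mk'_surjective (Subgroup.zpowers (zQ : G))))
          (Q.map (QuotientGroup.mk' (Subgroup.zpowers (zQ : G)))) := by
        apply wc_quotient S Q hWC
        intro y hy a s hs hm
        refine ⟨1, Subgroup.one_mem _, ?_⟩
        rw [one_mul, inv_one, mul_one]
        have h1 : s * (s⁻¹ * (a * y * a⁻¹)) ∈ (S : Subgroup G) :=
          (S : Subgroup G).mul_mem hs (hZS hm)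
        rwa [mul_inv_cancel_left] at h1
      have hIH := ih _ (by rw [← hcard]; exact hlt) (G ⧸ Subgroup.zpowers (zQ : G)) rfl
        (S.mapSurjective (QuotientGroup.mk'_surjective (Subgroup.zpowers (zQ : G))))
        (Q.map (QuotientGroup.mk' (Subgroup.zpowers (zQ : G))))
        (by
          rw [Sylow.coe_mapSurjective]
          exact Subgroup.map_mono hQS) hWCq
      -- the preimage of the odd core of the quotient
      have hOq : Odd (Nat.card (oddCore (G ⧸ Subgroup.zpowers (zQ : G)))) :=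
        Nat.coprime_two_right.mp (helper1.pPrimeCore_coprime (G := G ⧸ Subgroup.zpowers (zQ : G)) 2)
      have hkey : ∀ l : G, QuotientGroup.mk' (Subgroup.zpowers (zQ : G)) l
          ∈ oddCore (G ⧸ Subgroup.zpowers (zQ : G)) → (∃ k : ℕ, l ^ (2 ^ k) = 1) →
          l = 1 ∨ l = (zQ : G) := by
        intro l hl ⟨k, hk⟩
        have h1 : (QuotientGroup.mk' (Subgroup.zpowers (zQ : G)) l) ^ (2 ^ k) = 1 := by
          rw [← map_pow, hk, map_one]
        have h2 := eq_one_of_odd_of_pow hOq hl h1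
        exact zs_mem_zpowers_two hz ((QuotientGroup.eq_one_iff l).mp h2)
      obtain ⟨K', hK'n, hK'o, k, hK'c⟩ := zs_small_sylow S hz
        (M := (oddCore (G ⧸ Subgroup.zpowers (zQ : G))).comap
          (QuotientGroup.mk' (Subgroup.zpowers (zQ : G))))
        (Subgroup.Normal.comap inferInstance _)
        (by
          rw [Subgroup.mem_comap]
          have : QuotientGroup.mk' (Subgroup.zpowers (zQ : G)) (zQ : G) = 1 :=
            (QuotientGroup.eq_one_iff _).mpr (Subgroup.mem_zpowers _)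
          rw [this]; exact Subgroup.one_mem _)
        (fun l hl hlS => hkey l hl (pow_eq_one_of_mem_sylow S hlS))
      have hK'bot : K' = ⊥ := by
        have := helper1.le_pPrimeCore (p := 2) hK'n (Nat.coprime_two_right.mpr hK'o)
        rw [show pPrimeCore 2 G = oddCore G from rfl, hO] at this
        exact le_bot_iff.mp this
      rw [hK'bot, Subgroup.card_bot, one_mul] at hK'c
      have hLp : IsPGroup 2 ((oddCore (G ⧸ Subgroup.zpowers (zQ : G))).comap
          (QuotientGroup.mk' (Subgroup.zpowers (zQ : G)))) := IsPGroup.of_card hK'c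
      -- the commutator
      have hc := hIH _ (Subgroup.mem_map_of_mem _ hx)
        (QuotientGroup.mk' (Subgroup.zpowers (zQ : G)) g)
      have hc' : QuotientGroup.mk' (Subgroup.zpowers (zQ : G)) (x * g * x⁻¹ * g⁻¹)
          ∈ oddCore (G ⧸ Subgroup.zpowers (zQ : G)) := by
        simpa using hc
      have hcpow : ∃ k : ℕ, (x * g * x⁻¹ * g⁻¹) ^ (2 ^ k) = 1 := by
        obtain ⟨k, hk⟩ := hLp ⟨x * g * x⁻¹ * g⁻¹, hc'⟩
        exact ⟨k, by simpa using congrArg Subtype.val hk⟩
      have hcS : x * g * x⁻¹ * g⁻¹ ∈ (S : Subgroup G) := by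
        rcases hkey _ hc' hcpow with h | h
        · rw [h]; exact Subgroup.one_mem _
        · rw [h]; exact hQS hzQ'
      have hxS : x ∈ (S : Subgroup G) := hQS hx
      have h5 : g * x⁻¹ * g⁻¹ ∈ (S : Subgroup G) := by
        have : x⁻¹ * (x * g * x⁻¹ * g⁻¹) ∈ (S : Subgroup G) :=
          (S : Subgroup G).mul_mem ((S : Subgroup G).inv_mem hxS) hcS
        have e : x⁻¹ * (x * g * x⁻¹ * g⁻¹) = g * x⁻¹ * g⁻¹ := by group
        rwa [e] at this
      have h6 := hWC x⁻¹ (Q.inv_mem hx) g h5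
      calc x * g * x⁻¹ * g⁻¹ = x * (g * x⁻¹ * g⁻¹) := by group
        _ = 1 := by rw [h6, mul_inv_cancel]
    · -- nontrivial odd core
      have hlt := zs_card_quotient_lt (oddCore G) hO
      have hWCq : WC (S.mapSurjective (QuotientGroup.mk'_surjective (oddCore G)))
          (Q.map (QuotientGroup.mk' (oddCore G))) := by
        apply wc_quotient S Q hWC
        intro y hy a s hs hm
        have hU : IsPGroup 2 (Subgroup.zpowers (a * y * a⁻¹)) := by
          obtain ⟨k, hk⟩ := pow_eq_one_of_mem_sylow S (hQS hy)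
          have hk' : (a * y * a⁻¹) ^ (2 ^ k) = 1 := by rw [conj_pow, hk]; group
          intro u
          obtain ⟨i, hi⟩ := Subgroup.mem_zpowers_iff.mp u.2
          refine ⟨k, Subtype.ext ?_⟩
          show ((u : G)) ^ (2 ^ k) = 1
          rw [← hi, ← zpow_natCast, ← zpow_mul, mul_comm, zpow_mul, zpow_natCast, hk', one_zpow]
        have hle : Subgroup.zpowers (a * y * a⁻¹) ≤ (S : Subgroup G) ⊔ oddCore G := by
          rw [Subgroup.zpowers_le]
          have h1 : s * (s⁻¹ * (a * y * a⁻¹)) ∈ (S : Subgroup G) ⊔ oddCore G :=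
            Subgroup.mul_mem_sup hs hm
          rwa [mul_inv_cancel_left] at h1
        obtain ⟨n, hn, hnU⟩ := conj_into_sylow_of_le_sup S (oddCore G) _ hU hle
        exact ⟨n, hn, hnU _ (Subgroup.mem_zpowers _)⟩
      have hIH := ih _ (by rw [← hcard]; exact hlt) (G ⧸ oddCore G) rfl
        (S.mapSurjective (QuotientGroup.mk'_surjective (oddCore G)))
        (Q.map (QuotientGroup.mk' (oddCore G)))
        (by
          rw [Sylow.coe_mapSurjective]
          exact Subgroup.map_mono hQS) hWCq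
      have hZP : ZProp (QuotientGroup.mk x : G ⧸ oddCore G) := by
        refine ⟨oddCore (G ⧸ oddCore G), inferInstance,
          Nat.coprime_two_right.mp (helper1.pPrimeCore_coprime (G := G ⧸ oddCore G) 2), ?_⟩
        intro gb
        exact hIH _ (Subgroup.mem_map_of_mem _ hx) gb
      obtain ⟨N', hN'n, hN'o, hN'⟩ := zs_lift_quotient (oddCore G) hOodd x hZP
      exact helper1.le_pPrimeCore (p := 2) hN'n (Nat.coprime_two_right.mpr hN'o) (hN' g)

end main

section fusion

variable {G : Type u} [Group G] [Finite G]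

/-- central subgroups of the fusion system are weakly closed elementwise -/
theorem wc_of_isCentral (S : Sylow 2 G) {Q : Subgroup G}
    (hQ : (groupFusionSystem (S : Subgroup G)).IsCentral Q) : WC S Q := by
  obtain ⟨hQS, hext⟩ := hQ
  intro x hx g hgS
  have hP : Subgroup.zpowers x ≤ (S : Subgroup G) := Subgroup.zpowers_le.mpr (hQS hx)
  have hφ : conjHom (Subgroup.zpowers x) g
      ∈ (groupFusionSystem (S : Subgroup G)).Hom (Subgroup.zpowers x) := by
    refine ⟨hP, ?_, g, fun y => rfl⟩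
    intro y
    obtain ⟨i, hi⟩ := Subgroup.mem_zpowers_iff.mp y.2
    show g * (y : G) * g⁻¹ ∈ (S : Subgroup G)
    rw [← hi, ← conj_zpow]
    exact Subgroup.zpow_mem _ hgS i
  obtain ⟨ψ, -, hψP, hψQ⟩ := hext _ _ hφ
  have h1 := hψP ⟨x, Subgroup.mem_zpowers x⟩
  have h2 := hψQ ⟨x, hx⟩
  have h12 : Subgroup.inclusion (le_sup_left : Subgroup.zpowers x ≤ Subgroup.zpowers x ⊔ Q)
      ⟨x, Subgroup.mem_zpowers x⟩
      = Subgroup.inclusion (le_sup_right : Q ≤ Subgroup.zpowers x ⊔ Q) ⟨x, hx⟩ := Subtype.ext rfl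
  rw [h12, h2] at h1
  exact h1.symm

/-- elements of a Sylow 2-subgroup central modulo the odd core form a central subgroup
of the fusion system -/
theorem isCentral_zstar (S : Sylow 2 G) :
    (groupFusionSystem (S : Subgroup G)).IsCentral
      ((S : Subgroup G) ⊓ (Subgroup.center (G ⧸ oddCore G)).comap (QuotientGroup.mk' (oddCore G))) := by
  have hOodd : Odd (Nat.card (oddCore G)) :=
    Nat.coprime_two_right.mp (helper1.pPrimeCore_coprime (G := G) 2)
  have hcent : ∀ q ∈ (S : Subgroup G) ⊓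
      (Subgroup.center (G ⧸ oddCore G)).comap (QuotientGroup.mk' (oddCore G)),
      ∀ a : G, q⁻¹ * (a * q * a⁻¹) ∈ oddCore G := by
    intro q hq a
    have h1 : QuotientGroup.mk' (oddCore G) q ∈ Subgroup.center (G ⧸ oddCore G) := hq.2
    have h2 := Subgroup.mem_center_iff.mp h1 (QuotientGroup.mk' (oddCore G) a)
    rw [← QuotientGroup.eq_one_iff, ← QuotientGroup.mk'_apply]
    simp only [map_mul, map_inv]
    rw [h2, mul_inv_cancel_right, inv_mul_cancel]
  refine ⟨inf_le_left, ?_⟩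
  intro P φ hφ
  obtain ⟨hPS, hφS, g, hg⟩ := hφ
  have hRS : P ⊔ ((S : Subgroup G) ⊓
      (Subgroup.center (G ⧸ oddCore G)).comap (QuotientGroup.mk' (oddCore G))) ≤ (S : Subgroup G) :=
    sup_le hPS inf_le_left
  have hU : IsPGroup 2 ((P ⊔ ((S : Subgroup G) ⊓
      (Subgroup.center (G ⧸ oddCore G)).comap (QuotientGroup.mk' (oddCore G)))).map
        (MulAut.conj g).toMonoidHom) := (S.2.to_le hRS).map _
  have hle : (P ⊔ ((S : Subgroup G) ⊓
      (Subgroup.center (G ⧸ oddCore G)).comap (QuotientGroup.mk' (oddCore G)))).map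
        (MulAut.conj g).toMonoidHom ≤ (S : Subgroup G) ⊔ oddCore G := by
    rw [Subgroup.map_sup]
    apply sup_le
    · rintro _ ⟨p, hp, rfl⟩
      apply Subgroup.mem_sup_left
      have h := hφS ⟨p, hp⟩
      rw [hg] at h
      exact h
    · rintro _ ⟨q, hq, rfl⟩
      have e : g * q * g⁻¹ = q * (q⁻¹ * (g * q * g⁻¹)) := by group
      show g * q * g⁻¹ ∈ _
      rw [e]
      exact Subgroup.mul_mem_sup hq.1 (hcent q hq g)
  obtain ⟨n, hn, hnU⟩ := conj_into_sylow_of_le_sup S (oddCore G) _ hU hle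
  have hmemS : ∀ y : ↥(P ⊔ ((S : Subgroup G) ⊓
      (Subgroup.center (G ⧸ oddCore G)).comap (QuotientGroup.mk' (oddCore G)))),
      n * g * (y : G) * (n * g)⁻¹ ∈ (S : Subgroup G) := by
    intro y
    have h := hnU (g * (y : G) * g⁻¹) ⟨(y : G), y.2, rfl⟩
    have e : n * (g * (y : G) * g⁻¹) * n⁻¹ = n * g * (y : G) * (n * g)⁻¹ := by group
    rwa [e] at h
  refine ⟨conjHom _ (n * g), ⟨hRS, hmemS, n * g, fun y => rfl⟩, ?_, ?_⟩
  · intro y
    rw [hg]
    symm
    apply eq_of_mem_sylow_of_mem_odd S hOodd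
    · have h := hφS y
      rwa [hg] at h
    · exact hmemS (Subgroup.inclusion le_sup_left y)
    · show (g * (y : G) * g⁻¹)⁻¹ * (n * g * (y : G) * (n * g)⁻¹) ∈ oddCore G
      have e : (g * (y : G) * g⁻¹)⁻¹ * (n * g * (y : G) * (n * g)⁻¹)
          = ((g * (y : G) * g⁻¹)⁻¹ * n * (g * (y : G) * g⁻¹)⁻¹⁻¹) * n⁻¹ := by group
      rw [e]
      exact Subgroup.mul_mem _ (Subgroup.Normal.conj_mem inferInstance n hn _)
        (Subgroup.inv_mem _ hn)
  · intro q
    symm
    apply eq_of_mem_sylow_of_mem_odd S hOodd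
    · exact q.2.1
    · exact hmemS (Subgroup.inclusion le_sup_right q)
    · exact hcent (q : G) q.2 (n * g)

/-- S5094 -/
theorem center_eq (S : Sylow 2 G) :
    (groupFusionSystem (S : Subgroup G)).center = (S : Subgroup G) ⊓
      (Subgroup.center (G ⧸ oddCore G)).comap (QuotientGroup.mk' (oddCore G)) := by
  apply le_antisymm
  · apply sSup_le
    intro Q hQ
    have hWC := wc_of_isCentral S hQ
    intro x hx
    refine Subgroup.mem_inf.mpr ⟨hQ.1 hx, ?_⟩
    rw [Subgroup.mem_comap, Subgroup.mem_center_iff]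
    intro gb
    obtain ⟨g, rfl⟩ := QuotientGroup.mk'_surjective (oddCore G) gb
    have h := wc_main _ G rfl S Q hQ.1 hWC x hx g
    rw [← QuotientGroup.eq_one_iff, ← QuotientGroup.mk'_apply] at h
    simp only [map_mul, map_inv] at h
    have h2 := mul_inv_eq_one.mp h
    have h3 := mul_inv_eq_iff_eq_mul.mp h2
    exact h3.symm
  · exact le_sSup (isCentral_zstar S)

end fusion

end Cfsg.Agent.helper2.ZFus
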