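import Mathlib
import Cfsg.Prelude.Def_CaseTheorems
import Cfsg.Agent.Lib_helper1_Core
import Cfsg.Agent.Lib_helper2_ZFus
import Cfsg.Agent.Lib_helper18_Wagner

set_option autoImplicit false

/-!
Glauberman: a 2-power order automorphism centralizing an abelian Sylow 2-subgroup of a group
with trivial odd core is inner (helper18).  Via the Z*-theorem for weakly closed 2-elements
(`helper2.ZFus.wc_main`) in the semidirect product `G ⋊ ⟨α⟩`.
-/

namespace Cfsg.Agent.helper18.AutInner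

open Cfsg

universe u

section general

variable {Γ : Type u} [Group Γ] [Finite Γ]

/-- Burnside: an element of an abelian Sylow subgroup centralized by the normalizer of the Sylow
subgroup is weakly closed. -/
lemma burnside_wc (S : Sylow 2 Γ) (hab : ∀ a ∈ S, ∀ b ∈ S, a * b = b * a)
    (y : Γ) (hy : y ∈ S)
    (hyN : ∀ n ∈ Subgroup.normalizer ((S : Subgroup Γ) : Set Γ), n * y = y * n)
    (g : Γ) (hg : g * y * g⁻¹ ∈ S) : g * y * g⁻¹ = y := by
  haveI : Fact (Nat.Prime 2) := ⟨Nat.prime_two⟩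
  obtain ⟨z, hz⟩ : ∃ z, z = g * y * g⁻¹ := ⟨_, rfl⟩
  rw [← hz] at hg ⊢
  have hTC : (S : Subgroup Γ) ≤ Subgroup.centralizer ({z} : Set Γ) := by
    intro t ht
    rw [Subgroup.mem_centralizer_iff]
    intro w hw
    rw [Set.mem_singleton_iff] at hw
    rw [hw]
    exact hab z hg t ht
  have hT'C : (S : Subgroup Γ).map (MulAut.conj g).toMonoidHom ≤
      Subgroup.centralizer ({z} : Set Γ) := by
    rintro _ ⟨t, ht, rfl⟩
    rw [Subgroup.mem_centralizer_iff]
    intro w hw
    rw [Set.mem_singleton_iff] at hw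
    rw [hw, hz]
    have := hab y hy t ht
    simp only [MulEquiv.coe_toMonoidHom, MulAut.conj_apply]
    calc g * y * g⁻¹ * (g * t * g⁻¹) = g * (y * t) * g⁻¹ := by group
      _ = g * (t * y) * g⁻¹ := by rw [this]
      _ = g * t * g⁻¹ * (g * y * g⁻¹) := by group
  have hidx : ¬ 2 ∣ (S : Subgroup Γ).relIndex (Subgroup.centralizer ({z} : Set Γ)) := by
    intro h
    exact S.not_dvd_index (h.trans (Dvd.intro _ (Subgroup.relIndex_mul_index hTC)))
  obtain ⟨h, hhC, e⟩ := Wagner.conj_of_sylow hTC hT'C S.isPGroup'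
    (Wagner.card_map_conj (S : Subgroup Γ) g) hidx
  have hn : h * g ∈ Subgroup.normalizer ((S : Subgroup Γ) : Set Γ) :=
    Wagner.mem_normalizer_of_map_map_eq e
  have e1 : h * g * y = y * (h * g) := hyN _ hn
  have e2 : z * h = h * z := (Subgroup.mem_centralizer_iff.mp hhC) z rfl
  have e3 : h * z * h⁻¹ = y := by
    have : h * z * h⁻¹ = (h * g) * y * (h * g)⁻¹ := by rw [hz]; group
    rw [this, e1]; group
  have e4 : h * z * h⁻¹ = z := by rw [← e2]; group
  rw [← e4, e3]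

/-- averaging over a subgroup `K` normalizing an abelian subgroup `T` -/
lemma exists_fixed_avg {B : Type*} [Group B] (hB : ∀ a b : B, a * b = b * a)
    (T K : Subgroup Γ) (hab : ∀ a ∈ T, ∀ b ∈ T, a * b = b * a)
    (hKN : K ≤ Subgroup.normalizer (T : Set Γ))
    (r : Γ →* B) (t₀ : Γ) (ht₀ : t₀ ∈ T) :
    ∃ y ∈ T, (∀ h ∈ K, h * y * h⁻¹ = y) ∧ r y = (r t₀) ^ (Nat.card K) := by
  classical
  haveI : Fintype ↥K := Fintype.ofFinite _
  letI : CommGroup ↥T :=
    { (inferInstance : Group ↥T) with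
      mul_comm := fun a b => Subtype.ext (hab a a.2 b b.2) }
  letI : CommGroup B := { (inferInstance : Group B) with mul_comm := hB }
  have hmem : ∀ k : ↥K, (k : Γ) * t₀ * (k : Γ)⁻¹ ∈ T := fun k =>
    (Subgroup.mem_normalizer_iff.mp (hKN k.2) t₀).mp ht₀
  let f : ↥K → ↥T := fun k => ⟨(k : Γ) * t₀ * (k : Γ)⁻¹, hmem k⟩
  let y : ↥T := ∏ k : ↥K, f k
  refine ⟨(y : Γ), y.2, ?_, ?_⟩
  · intro h hh
    have hnorm : ∀ t : ↥T, h * (t : Γ) * h⁻¹ ∈ T := fun t =>
      (Subgroup.mem_normalizer_iff.mp (hKN hh) t).mp t.2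
    let c : ↥T →* ↥T :=
      { toFun := fun t => ⟨h * (t : Γ) * h⁻¹, hnorm t⟩
        map_one' := by
          apply Subtype.ext
          simp
        map_mul' := by
          intro a b
          apply Subtype.ext
          simp only [Subgroup.coe_mul]
          group }
    have h1 : c y = ∏ k : ↥K, c (f k) := map_prod c f Finset.univ
    have h2 : ∀ k : ↥K, c (f k) = f (⟨h, hh⟩ * k) := by
      intro k
      apply Subtype.ext
      show h * ((k : Γ) * t₀ * (k : Γ)⁻¹) * h⁻¹ = (h * (k : Γ)) * t₀ * (h * (k : Γ))⁻¹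
      group
    have h3 : ∏ k : ↥K, f (⟨h, hh⟩ * k) = ∏ k : ↥K, f k :=
      Fintype.prod_equiv (Equiv.mulLeft (⟨h, hh⟩ : ↥K)) _ _ (fun k => rfl)
    have h4 : c y = y := by
      rw [h1]
      simp_rw [h2]
      exact h3
    exact congrArg (fun t : ↥T => (t : Γ)) h4
  · have h1 : (r.comp T.subtype) y = ∏ k : ↥K, (r.comp T.subtype) (f k) :=
      map_prod (r.comp T.subtype) f Finset.univ
    have h2 : ∀ k : ↥K, (r.comp T.subtype) (f k) = r t₀ := by
      intro k
      show r ((k : Γ) * t₀ * (k : Γ)⁻¹) = r t₀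
      rw [map_mul, map_mul, map_inv, hB (r k) (r t₀), mul_inv_cancel_right]
    have h3 : (r.comp T.subtype) y = r t₀ ^ Nat.card ↥K := by
      rw [h1]
      simp_rw [h2]
      rw [Finset.prod_const, Finset.card_univ, Nat.card_eq_fintype_card]
    exact h3

/-- In a group with abelian Sylow 2-subgroup `S`, every element of `S` has an odd power image
realized by an element of `S` centralized by `N(S)`. -/
lemma exists_central_lift {B : Type*} [Group B] (hB : ∀ a b : B, a * b = b * a)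
    (S : Sylow 2 Γ) (hab : ∀ a ∈ S, ∀ b ∈ S, a * b = b * a) (r : Γ →* B) (t₀ : Γ)
    (ht₀ : t₀ ∈ S) :
    ∃ y ∈ S, (∀ n ∈ Subgroup.normalizer ((S : Subgroup Γ) : Set Γ), n * y = y * n) ∧
      ∃ m : ℕ, Odd m ∧ r y = (r t₀) ^ m := by
  haveI : Fact (Nat.Prime 2) := ⟨Nat.prime_two⟩
  set N := Subgroup.normalizer ((S : Subgroup Γ) : Set Γ) with hN
  have hSN : (S : Subgroup Γ) ≤ N := Subgroup.le_normalizer
  haveI hnorm : ((S : Subgroup Γ).subgroupOf N).Normal := Subgroup.normal_in_normalizer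
  have hcardT' : Nat.card ↥((S : Subgroup Γ).subgroupOf N) = Nat.card ↥(S : Subgroup Γ) :=
    Nat.card_congr (Subgroup.subgroupOfEquivOfLe hSN).toEquiv
  obtain ⟨k, hk⟩ := IsPGroup.iff_card.mp S.isPGroup'
  have hoddidx : ¬ 2 ∣ ((S : Subgroup Γ).subgroupOf N).index := by
    intro h
    exact S.not_dvd_index (h.trans (Dvd.intro _ (Subgroup.relIndex_mul_index hSN)))
  have hcop : Nat.Coprime (Nat.card ↥((S : Subgroup Γ).subgroupOf N))
      ((S : Subgroup Γ).subgroupOf N).index := by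
    rw [hcardT', hk]
    exact Nat.Coprime.pow_left k ((Nat.Prime.coprime_iff_not_dvd Nat.prime_two).mpr hoddidx)
  obtain ⟨H, hH⟩ := Subgroup.exists_right_complement'_of_coprime hcop
  set K : Subgroup Γ := H.map N.subtype with hK
  have hcardK : Nat.card ↥K = ((S : Subgroup Γ).subgroupOf N).index := by
    rw [hK, Subgroup.card_map_of_injective N.subtype_injective]
    exact (hH.symm.index_eq_card).symm
  have hKN : K ≤ N := by
    rintro _ ⟨x, _, rfl⟩
    exact x.2
  obtain ⟨y, hyS, hyK, hry⟩ := exists_fixed_avg hB (S : Subgroup Γ) K hab hKN r t₀ ht₀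
  refine ⟨y, hyS, ?_, Nat.card ↥K, ?_, hry⟩
  · intro n hn
    obtain ⟨x, hx, -⟩ := (Subgroup.isComplement'_def.mp hH).existsUnique (⟨n, hn⟩ : ↥N)
    have hx1 : ((x.1.1 : ↥N) : Γ) ∈ (S : Subgroup Γ) := Subgroup.mem_subgroupOf.mp x.1.2
    have hx2 : ((x.2.1 : ↥N) : Γ) ∈ K := ⟨x.2.1, x.2.2, rfl⟩
    have hn' : n = ((x.1.1 : ↥N) : Γ) * ((x.2.1 : ↥N) : Γ) := by
      have := congrArg (fun w : ↥N => (w : Γ)) hx
      simpa using this.symm
    have c1 : ((x.1.1 : ↥N) : Γ) * y = y * ((x.1.1 : ↥N) : Γ) := hab _ hx1 _ hyS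
    have c2 : ((x.2.1 : ↥N) : Γ) * y = y * ((x.2.1 : ↥N) : Γ) := by
      have := hyK _ hx2
      calc ((x.2.1 : ↥N) : Γ) * y
          = (((x.2.1 : ↥N) : Γ) * y * ((x.2.1 : ↥N) : Γ)⁻¹) * ((x.2.1 : ↥N) : Γ) := by group
        _ = y * ((x.2.1 : ↥N) : Γ) := by rw [this]
    rw [hn', mul_assoc, c2, ← mul_assoc, c1, mul_assoc]
  · rw [hcardK]
    exact Nat.odd_iff.mpr (Nat.two_dvd_ne_zero.mp hoddidx)

end general

section semidirect

variable {G : Type u} [Group G]

lemma fix_of_mem_zpowers {α : MulAut G} {P : Subgroup G} (hfix : ∀ x ∈ P, α x = x)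
    {a : MulAut G} (ha : a ∈ Subgroup.zpowers α) : ∀ x ∈ P, a x = x := by
  let F : Subgroup (MulAut G) :=
    { carrier := {a | ∀ x ∈ P, a x = x}
      mul_mem' := by
        intro a b ha hb x hx
        show (a * b) x = x
        rw [MulAut.mul_apply, hb x hx, ha x hx]
      one_mem' := by intro x _; rfl
      inv_mem' := by
        intro a ha x hx
        show a⁻¹ x = x
        rw [MulAut.inv_apply, MulEquiv.symm_apply_eq]
        exact (ha x hx).symm }
  have : Subgroup.zpowers α ≤ F := (Subgroup.zpowers_le).mpr hfix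
  exact this ha

theorem inner_of_fix_sylow [Finite G] (hcore : Cfsg.pPrimeCore 2 G = ⊥)
    (P : Sylow 2 G) (hab : ∀ a ∈ P, ∀ b ∈ P, a * b = b * a)
    (α : MulAut G) (h2 : ∃ j : ℕ, orderOf α = 2 ^ j)
    (hfix : ∀ x ∈ (P : Subgroup G), α x = x) :
    ∃ g : G, ∀ x : G, α x = g * x * g⁻¹ := by
  classical
  haveI : Fact (Nat.Prime 2) := ⟨Nat.prime_two⟩
  obtain ⟨j, hj⟩ := h2
  by_cases hj0 : j = 0
  · have : α = 1 := by
      rw [hj0, pow_zero] at hj
      exact orderOf_eq_one_iff.mp hj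
    refine ⟨1, fun x => ?_⟩
    rw [this]; simp
  have hAfin : Finite ↥(Subgroup.zpowers α) := by
    apply Nat.finite_of_card_ne_zero
    rw [Nat.card_zpowers, hj]
    positivity
  obtain ⟨A, hA⟩ : ∃ A : Subgroup (MulAut G), A = Subgroup.zpowers α := ⟨_, rfl⟩
  haveI : Finite ↥A := hA ▸ hAfin
  have hAcomm : ∀ a b : ↥A, a * b = b * a := by
    subst hA
    intro a b
    exact (Subgroup.zpowers_isMulCommutative α).is_comm.comm a b
  have hcardA : Nat.card ↥A = 2 ^ j := by rw [hA, Nat.card_zpowers, hj]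
  have hαA : α ∈ A := hA ▸ Subgroup.mem_zpowers α
  have hfixA : ∀ a : ↥A, ∀ x ∈ (P : Subgroup G), (a : MulAut G) x = x := fun a =>
    fix_of_mem_zpowers hfix (hA ▸ a.2)
  obtain ⟨φ, hφ⟩ : ∃ φ : ↥A →* MulAut G, φ = A.subtype := ⟨_, rfl⟩
  have hφa : ∀ a : ↥A, φ a = (a : MulAut G) := fun a => by rw [hφ]; rfl
  haveI : Finite (G ⋊[φ] ↥A) := Finite.of_equiv _ SemidirectProduct.equivProd.symm
  -- the Sylow subgroup
  let T : Subgroup (G ⋊[φ] ↥A) :=
    { carrier := {γ | γ.left ∈ (P : Subgroup G)}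
      mul_mem' := by
        intro a b ha hb
        show (a * b).left ∈ (P : Subgroup G)
        rw [SemidirectProduct.mul_left]
        have : φ a.right b.left = b.left := by rw [hφa]; exact hfixA a.right b.left hb
        rw [this]; exact mul_mem ha hb
      one_mem' := by
        show (1 : G ⋊[φ] ↥A).left ∈ (P : Subgroup G)
        rw [SemidirectProduct.one_left]; exact one_mem _
      inv_mem' := by
        intro a ha
        show (a⁻¹).left ∈ (P : Subgroup G)
        rw [SemidirectProduct.inv_left]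
        have : φ a.right⁻¹ a.left⁻¹ = a.left⁻¹ := by
          rw [hφa]; exact hfixA (a.right⁻¹) _ (inv_mem ha)
        rw [this]; exact inv_mem ha }
  have hTmem : ∀ γ : G ⋊[φ] ↥A, γ ∈ T ↔ γ.left ∈ (P : Subgroup G) := fun γ => Iff.rfl
  have hTab : ∀ a ∈ T, ∀ b ∈ T, a * b = b * a := by
    intro a ha b hb
    apply SemidirectProduct.ext
    · rw [SemidirectProduct.mul_left, SemidirectProduct.mul_left]
      have e1 : φ a.right b.left = b.left := by rw [hφa]; exact hfixA a.right _ hb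
      have e2 : φ b.right a.left = a.left := by rw [hφa]; exact hfixA b.right _ ha
      rw [e1, e2]; exact hab _ ha _ hb
    · rw [SemidirectProduct.mul_right, SemidirectProduct.mul_right]
      exact hAcomm _ _
  have hcardT : Nat.card ↥T = Nat.card ↥(P : Subgroup G) * Nat.card ↥A := by
    rw [← Nat.card_prod]
    refine Nat.card_congr ?_
    exact
      { toFun := fun t => (⟨t.1.left, t.2⟩, t.1.right)
        invFun := fun x => ⟨⟨x.1.1, x.2⟩, x.1.2⟩
        left_inv := fun t => by rfl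
        right_inv := fun x => by rfl }
  obtain ⟨k, hk⟩ := IsPGroup.iff_card.mp P.isPGroup'
  have hT2 : IsPGroup 2 ↥T := IsPGroup.of_card (n := k + j) (by rw [hcardT, hk, hcardA, pow_add])
  have hidx : ¬ 2 ∣ T.index := by
    have h1 : Nat.card (G ⋊[φ] ↥A) = Nat.card G * Nat.card ↥A := SemidirectProduct.card
    have h2 := Subgroup.card_mul_index T
    have h3 := Subgroup.card_mul_index (P : Subgroup G)
    have h4 : T.index = (P : Subgroup G).index := by
      have hpos : 0 < Nat.card ↥(P : Subgroup G) * Nat.card ↥A :=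
        Nat.mul_pos Nat.card_pos Nat.card_pos
      apply Nat.eq_of_mul_eq_mul_left hpos
      calc Nat.card ↥(P : Subgroup G) * Nat.card ↥A * T.index = Nat.card ↥T * T.index := by
            rw [hcardT]
        _ = Nat.card G * Nat.card ↥A := h2.trans h1
        _ = Nat.card ↥(P : Subgroup G) * (P : Subgroup G).index * Nat.card ↥A := by rw [h3]
        _ = Nat.card ↥(P : Subgroup G) * Nat.card ↥A * (P : Subgroup G).index := by ring
    rw [h4]; exact P.not_dvd_index
  obtain ⟨S, hS⟩ : ∃ S : Sylow 2 (G ⋊[φ] ↥A), (S : Subgroup (G ⋊[φ] ↥A)) = T :=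
    ⟨hT2.toSylow hidx, IsPGroup.toSylow_coe hT2 hidx⟩
  have hSmem : ∀ γ : G ⋊[φ] ↥A, γ ∈ S ↔ γ.left ∈ (P : Subgroup G) := by
    intro γ
    rw [← hTmem, ← hS]; rfl
  have habS : ∀ a ∈ S, ∀ b ∈ S, a * b = b * a := by
    intro a ha b hb
    exact hTab a ((hTmem a).mpr ((hSmem a).mp ha)) b ((hTmem b).mpr ((hSmem b).mp hb))
  -- odd core of the semidirect product is trivial
  have hO : oddCore (G ⋊[φ] ↥A) = ⊥ := by
    haveI hON : (pPrimeCore 2 (G ⋊[φ] ↥A)).Normal := helper1.pPrimeCore_normal 2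
    have hOc : (Nat.card ↥(pPrimeCore 2 (G ⋊[φ] ↥A))).Coprime 2 := helper1.pPrimeCore_coprime 2
    rw [eq_bot_iff]
    intro o ho
    have h1 : (pPrimeCore 2 (G ⋊[φ] ↥A)).comap (SemidirectProduct.inl : G →* G ⋊[φ] ↥A) ≤
        pPrimeCore 2 G := by
      apply helper1.le_pPrimeCore (hON.comap _)
      exact Nat.Coprime.coprime_dvd_left
        (Subgroup.card_comap_dvd_of_injective _ _ SemidirectProduct.inl_injective) hOc
    rw [hcore] at h1
    have h3 : (SemidirectProduct.rightHom o : ↥A) = 1 := by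
      have d1 : orderOf (SemidirectProduct.rightHom o : ↥A) ∣
          Nat.card ↥(pPrimeCore 2 (G ⋊[φ] ↥A)) := by
        have d0 : orderOf (SemidirectProduct.rightHom o : ↥A) ∣ orderOf o := orderOf_map_dvd _ o
        refine d0.trans ?_
        have := orderOf_dvd_natCard (⟨o, ho⟩ : ↥(pPrimeCore 2 (G ⋊[φ] ↥A)))
        rwa [Subgroup.orderOf_mk] at this
      have d2 : orderOf (SemidirectProduct.rightHom o : ↥A) ∣ 2 ^ j :=
        hcardA ▸ orderOf_dvd_natCard _
      have hc : Nat.Coprime (orderOf (SemidirectProduct.rightHom o : ↥A)) (2 ^ j) :=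
        Nat.Coprime.coprime_dvd_left d1 (hOc.pow_right j)
      exact orderOf_eq_one_iff.mp (hc.eq_one_of_dvd d2)
    have h4 : o ∈ (SemidirectProduct.inl : G →* G ⋊[φ] ↥A).range := by
      rw [SemidirectProduct.range_inl_eq_ker_rightHom]
      exact MonoidHom.mem_ker.mpr h3
    obtain ⟨g, rfl⟩ := h4
    have h5 : g ∈ (⊥ : Subgroup G) := h1 (Subgroup.mem_comap.mpr ho)
    rw [Subgroup.mem_bot] at h5
    rw [h5, map_one]
    exact Subgroup.mem_bot.mpr rfl
  -- the averaging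
  obtain ⟨t₀, ht₀def⟩ : ∃ t₀ : G ⋊[φ] ↥A, t₀ = SemidirectProduct.inr (⟨α, hαA⟩ : ↥A) := ⟨_, rfl⟩
  have ht₀ : t₀ ∈ S := by
    rw [hSmem, ht₀def, SemidirectProduct.left_inr]; exact one_mem _
  obtain ⟨y, hyS, hyN, m, hm, hry⟩ := exists_central_lift (B := ↥A) hAcomm S habS
    (SemidirectProduct.rightHom : G ⋊[φ] ↥A →* ↥A) t₀ ht₀
  have hrt₀ : (SemidirectProduct.rightHom t₀ : ↥A) = ⟨α, hαA⟩ := by
    rw [ht₀def, SemidirectProduct.rightHom_inr]
  rw [hrt₀] at hry
  have hordα' : orderOf (⟨α, hαA⟩ : ↥A) = 2 ^ j := by rw [Subgroup.orderOf_mk, hj]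
  have h1lt : 1 < 2 ^ j := Nat.one_lt_two_pow hj0
  have hcopm : Nat.Coprime m (2 ^ j) :=
    Nat.Coprime.pow_right j (Nat.coprime_two_right.mpr hm)
  obtain ⟨e, -, he⟩ := Nat.exists_mul_mod_eq_one_of_coprime hcopm h1lt
  have hry' : (SemidirectProduct.rightHom (y ^ e) : ↥A) = ⟨α, hαA⟩ := by
    rw [map_pow, hry, ← pow_mul, ← pow_mod_orderOf, hordα', he, pow_one]
  have hy'S : y ^ e ∈ S := pow_mem hyS e
  have hy'N : ∀ n ∈ Subgroup.normalizer ((S : Subgroup (G ⋊[φ] ↥A)) : Set (G ⋊[φ] ↥A)),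
      ∀ i : ℤ, n * (y ^ e) ^ i = (y ^ e) ^ i * n := by
    intro n hn i
    have hc : Commute n y := hyN n hn
    exact ((hc.pow_right e).zpow_right i).eq
  -- weak closure
  have hWC : helper2.ZFus.WC S (Subgroup.zpowers (y ^ e)) := by
    intro x hx g hg
    obtain ⟨i, rfl⟩ := Subgroup.mem_zpowers_iff.mp hx
    exact burnside_wc S habS _ (zpow_mem hy'S i) (fun n hn => hy'N n hn i) g hg
  have hQS : Subgroup.zpowers (y ^ e) ≤ (S : Subgroup (G ⋊[φ] ↥A)) :=
    (Subgroup.zpowers_le).mpr hy'S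
  have hcen : ∀ γ : G ⋊[φ] ↥A, y ^ e * γ = γ * y ^ e := by
    intro γ
    have := helper2.ZFus.wc_main (Nat.card (G ⋊[φ] ↥A)) (G ⋊[φ] ↥A) rfl S
      (Subgroup.zpowers (y ^ e)) hQS hWC (y ^ e) (Subgroup.mem_zpowers _) γ
    rw [hO, Subgroup.mem_bot] at this
    calc y ^ e * γ = (y ^ e * γ * (y ^ e)⁻¹ * γ⁻¹) * γ * y ^ e := by group
      _ = γ * y ^ e := by rw [this, one_mul]
  -- conclusion
  refine ⟨((y ^ e).left)⁻¹, fun x => ?_⟩
  have hc := hcen (SemidirectProduct.inl x)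
  have hl := congrArg SemidirectProduct.left hc
  rw [SemidirectProduct.mul_left, SemidirectProduct.mul_left, SemidirectProduct.left_inl,
    SemidirectProduct.right_inl, map_one] at hl
  have hr : (y ^ e).right = ⟨α, hαA⟩ := hry'
  rw [hr, hφa] at hl
  -- hl : (y^e).left * α x = x * (1 : MulAut G) (y^e).left
  have hl' : (y ^ e).left * α x = x * (y ^ e).left := by simpa using hl
  calc α x = ((y ^ e).left)⁻¹ * ((y ^ e).left * α x) := by group
    _ = ((y ^ e).left)⁻¹ * x * ((y ^ e).left)⁻¹⁻¹ := by rw [hl']; group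

end semidirect

end Cfsg.Agent.helper18.AutInner
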