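import Mathlib

set_option autoImplicit false

namespace Cfsg.Agent.helper18

open Equiv Equiv.Perm MulAction

section

variable {Ω : Type*} [Fintype Ω] [DecidableEq Ω]

/-- The commutator of two permutations whose supports meet in exactly one point is a 3-cycle. -/
lemma isThreeCycle_commutator_of_support_inter (x y : Perm Ω) (a : Ω)
    (h : ∀ ω, x ω ≠ ω → y ω ≠ ω → ω = a) (hx : x a ≠ a) (hy : y a ≠ a) :
    IsThreeCycle (x⁻¹ * y⁻¹ * x * y) := by
  have fixy : ∀ z, x z ≠ z → z ≠ a → y z = z := by
    intro z hz hza
    by_contra hyz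
    exact hza (h z hz hyz)
  have fixx : ∀ z, y z ≠ z → z ≠ a → x z = z := by
    intro z hz hza
    by_contra hxz
    exact hza (h z hxz hz)
  have inv_fix : ∀ (σ : Perm Ω) (z : Ω), σ z = z → σ⁻¹ z = z := by
    intro σ z hz
    rw [Perm.inv_eq_iff_eq]; exact hz.symm
  have inv_app : ∀ (σ : Perm Ω) (z : Ω), σ⁻¹ (σ z) = z :=
    fun σ z => Equiv.Perm.inv_eq_iff_eq.mpr rfl
  have moved_image : ∀ (σ : Perm Ω) (z : Ω), σ z ≠ z → σ (σ z) ≠ σ z := by
    intro σ z hz hh
    exact hz (σ.injective hh)
  set b := x⁻¹ a with hb
  set d := y⁻¹ a with hd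
  have hxb : x b = a := by rw [hb]; simp
  have hyd : y d = a := by rw [hd]; simp
  have hba : b ≠ a := by
    intro hba
    rw [hba] at hxb
    exact hx hxb
  have hda : d ≠ a := by
    intro hda
    rw [hda] at hyd
    exact hy hyd
  have hbmoved : x b ≠ b := by rw [hxb]; exact fun h => hba h.symm
  have hdmoved : y d ≠ d := by rw [hyd]; exact fun h => hda h.symm
  have hyb : y b = b := fixy b hbmoved hba
  have hxd : x d = d := fixx d hdmoved hda
  have hbd : b ≠ d := by
    intro hbd
    rw [hbd] at hbmoved
    exact hbmoved hxd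
  have key : x⁻¹ * y⁻¹ * x * y = swap a d * swap a b := by
    ext ω
    simp only [Perm.mul_apply]
    by_cases hωa : ω = a
    · -- ω = a
      subst hωa
      have h1 : x (y ω) = y ω := by
        apply fixx
        · exact moved_image y ω hy
        · exact hy
      rw [h1, inv_app, swap_apply_left]
      rw [swap_apply_of_ne_of_ne hba hbd]
    · by_cases hωb : ω = b
      · subst hωb
        rw [hyb, hxb, swap_apply_right, swap_apply_left]
        exact inv_fix x d hxd
      · by_cases hωd : ω = d
        · subst hωd
          rw [hyd]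
          have h1 : y (x a) = x a := by
            apply fixy
            · exact moved_image x a hx
            · exact hx
          rw [inv_fix y (x a) h1, inv_app]
          rw [swap_apply_of_ne_of_ne hωa (Ne.symm hbd), swap_apply_right]
        · rw [swap_apply_of_ne_of_ne hωa hωb, swap_apply_of_ne_of_ne hωa hωd]
          by_cases hyω : y ω = ω
          · rw [hyω]
            by_cases hxω : x ω = ω
            · rw [hxω, inv_fix y ω hyω, inv_fix x ω hxω]
            · have hxωa : x ω ≠ a := by
                intro hh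
                apply hωb
                rw [hb, ← hh]; simp
              have h1 : y (x ω) = x ω := fixy (x ω) (moved_image x ω hxω) hxωa
              rw [inv_fix y (x ω) h1, inv_app]
          · have hyωa : y ω ≠ a := by
              intro hh
              apply hωd
              rw [hd, ← hh]; simp
            have h1 : x (y ω) = y ω := fixx (y ω) (moved_image y ω hyω) hyωa
            have h2 : x ω = ω := fixx ω hyω hωa
            rw [h1, inv_app, inv_fix x ω h2]
  rw [key]
  exact isThreeCycle_swap_mul_swap_same (Ne.symm hda) (Ne.symm hba) (Ne.symm hbd)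

/-- Bochert's bound. -/
theorem bochert (P : Subgroup (Perm Ω)) (hprim : IsPreprimitive P Ω)
    (hA : ¬ alternatingGroup Ω ≤ P) :
    Nat.card P * Nat.factorial ((Fintype.card Ω + 1) / 2) ≤ Nat.factorial (Fintype.card Ω) := by
  classical
  let good : Finset Ω → Prop := fun S => ∀ g ∈ P, (∀ ω, ω ∉ S → g ω = ω) → g = 1
  have hgood_empty : good ∅ := by
    intro g _ hg
    ext ω
    exact hg ω (Finset.notMem_empty ω)
  obtain ⟨S, hSmem, hSmax⟩ := Finset.exists_max_image (Finset.univ.filter good) Finset.card
    ⟨∅, Finset.mem_filter.mpr ⟨Finset.mem_univ _, hgood_empty⟩⟩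
  have hS : good S := (Finset.mem_filter.mp hSmem).2
  have hmax : ∀ T : Finset Ω, good T → T.card ≤ S.card := fun T hT =>
    hSmax T (Finset.mem_filter.mpr ⟨Finset.mem_univ _, hT⟩)
  have hcard : (Fintype.card Ω + 1) / 2 ≤ S.card := by
    by_contra hlt
    push Not at hlt
    have hcompl : S.card < Sᶜ.card := by
      rw [Finset.card_compl]; omega
    have hnot : ¬ good Sᶜ := fun hg => absurd (hmax _ hg) (by omega)
    unfold good at hnot
    push Not at hnot
    obtain ⟨y, hyP, hyfix, hy1⟩ := hnot
    have hyfix' : ∀ ω, ω ∈ S → y ω = ω := by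
      intro ω hω
      apply hyfix
      simpa using hω
    obtain ⟨a, ha⟩ : ∃ a, y a ≠ a := by
      by_contra hall
      push Not at hall
      exact hy1 (Perm.ext hall)
    have haS : a ∉ S := fun h => ha (hyfix' a h)
    have hnot2 : ¬ good (insert a S) := fun hg => absurd (hmax _ hg) (by
      rw [Finset.card_insert_of_notMem haS]; omega)
    unfold good at hnot2
    push Not at hnot2
    obtain ⟨x, hxP, hxfix, hx1⟩ := hnot2
    have hxa : x a ≠ a := by
      intro hxa
      apply hx1
      apply hS x hxP
      intro ω hω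
      by_cases hωa : ω = a
      · rw [hωa]; exact hxa
      · apply hxfix
        simp [hωa, hω]
    have hsupp : ∀ ω, x ω ≠ ω → y ω ≠ ω → ω = a := by
      intro ω hxω hyω
      by_contra hωa
      have hωS : ω ∉ S := fun h => hyω (hyfix' ω h)
      apply hxω
      apply hxfix
      simp [hωa, hωS]
    have h3 := isThreeCycle_commutator_of_support_inter x y a hsupp hxa ha
    have hmem : x⁻¹ * y⁻¹ * x * y ∈ P :=
      P.mul_mem (P.mul_mem (P.mul_mem (P.inv_mem hxP) (P.inv_mem hyP)) hxP) hyP
    exact hA (alternatingGroup_le_of_isPreprimitive_of_isThreeCycle_mem hprim h3 hmem)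
  -- counting
  let f : Perm {ω // ω ∈ S} → Perm Ω ⧸ P := fun σ => QuotientGroup.mk (ofSubtype σ)
  have hf : Function.Injective f := by
    intro σ τ hστ
    have h1 : (ofSubtype σ)⁻¹ * ofSubtype τ ∈ P := QuotientGroup.eq.mp hστ
    rw [← map_inv, ← map_mul] at h1
    have h2 : ofSubtype (σ⁻¹ * τ) = 1 := by
      apply hS _ h1
      intro ω hω
      exact ofSubtype_apply_of_not_mem _ hω
    have h3 : σ⁻¹ * τ = 1 := by
      apply ofSubtype_injective
      rw [h2, map_one]
    exact (inv_mul_eq_one.mp h3)
  have hle : Nat.factorial S.card ≤ P.index := by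
    have := Nat.card_le_card_of_injective f hf
    rw [Nat.card_eq_fintype_card, Fintype.card_perm, Fintype.card_coe] at this
    exact this
  have hidx : P.index * Nat.card P = Nat.factorial (Fintype.card Ω) := by
    rw [Subgroup.index_mul_card, Nat.card_eq_fintype_card, Fintype.card_perm]
  calc Nat.card P * Nat.factorial ((Fintype.card Ω + 1) / 2)
      ≤ Nat.card P * Nat.factorial S.card :=
        Nat.mul_le_mul_left _ (Nat.factorial_le hcard)
    _ ≤ Nat.card P * P.index := Nat.mul_le_mul_left _ hle
    _ = Nat.factorial (Fintype.card Ω) := by rw [mul_comm, hidx]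

end

end Cfsg.Agent.helper18
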