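import Mathlib
import Cfsg.Agent.Lib_lead_Coprime2
import Cfsg.Agent.Lib_helper15_Gen3
import Cfsg.Agent.Lib_helper1_PGroup
import Cfsg.Agent.S3775

/-!
# Coprime action: maximal invariant subgroups (helper18)
-/

set_option autoImplicit false
set_option linter.style.haveILetI false

open scoped Pointwise

namespace Cfsg.Agent.helper18.CMI

universe u v

/-- invariant Sylow subgroups under a coprime action (type-level action form) -/
theorem exists_invariant_sylow {A : Type v} {G : Type u} [Group A] [Finite A] [Group G] [Finite G]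
    [MulDistribMulAction A G] (hcop : (Nat.card A).Coprime (Nat.card G))
    (hsol : Group.IsSolvable A ∨ Group.IsSolvable G) (q : ℕ) [hq : Fact q.Prime] :
    ∃ P : Sylow q G, ∀ a : A, ∀ x ∈ (P : Subgroup G), a • x ∈ (P : Subgroup G) := by
  set φ : A →* MulAut G := MulDistribMulAction.toMulAut A G with hφ
  haveI : Finite (G ⋊[φ] A) := Finite.of_equiv _ SemidirectProduct.equivProd.symm
  set K : Subgroup (G ⋊[φ] A) := (SemidirectProduct.inl : G →* G ⋊[φ] A).range with hK
  set A' : Subgroup (G ⋊[φ] A) := (SemidirectProduct.inr : A →* G ⋊[φ] A).range with hA'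
  haveI hKn : K.Normal := by
    rw [hK, SemidirectProduct.range_inl_eq_ker_rightHom]; infer_instance
  have hcardK : Nat.card K = Nat.card G :=
    Nat.card_congr (MonoidHom.ofInjective SemidirectProduct.inl_injective).toEquiv.symm
  have hcardA' : Nat.card A' = Nat.card A :=
    Nat.card_congr (MonoidHom.ofInjective SemidirectProduct.inr_injective).toEquiv.symm
  have hsol' : Group.IsSolvable A' ∨ Group.IsSolvable K := by
    rcases hsol with h | h
    · left
      haveI := h
      exact Group.isSolvable_of_surjective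
        (f := (MonoidHom.ofInjective (SemidirectProduct.inr_injective (φ := φ))).toMonoidHom)
        (MonoidHom.ofInjective SemidirectProduct.inr_injective).surjective
    · right
      haveI := h
      exact Group.isSolvable_of_surjective
        (f := (MonoidHom.ofInjective (SemidirectProduct.inl_injective (φ := φ))).toMonoidHom)
        (MonoidHom.ofInjective SemidirectProduct.inl_injective).surjective
  obtain ⟨P, hPK, hPcard, hPA⟩ := Cfsg.Agent.lead.exists_invariant_sylow A' K
    (by rw [Subgroup.normalizer_eq_top]; exact le_top) (by rw [hcardK, hcardA']; exact hcop)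
    hsol' q
  set P₀ : Subgroup G := P.comap (SemidirectProduct.inl : G →* G ⋊[φ] A) with hP₀
  have hmap : P₀.map (SemidirectProduct.inl : G →* G ⋊[φ] A) = P := by
    rw [hP₀, Subgroup.map_comap_eq]
    exact inf_eq_right.mpr hPK
  have hcardP₀ : Nat.card P₀ = q ^ (Nat.card G).factorization q := by
    rw [← Subgroup.card_map_of_injective (SemidirectProduct.inl_injective (φ := φ)), hmap, hPcard,
      hcardK]
  refine ⟨Sylow.ofCard P₀ hcardP₀, ?_⟩
  intro a x hx
  show a • x ∈ P₀
  rw [hP₀, Subgroup.mem_comap]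
  have h1 : (SemidirectProduct.inl (a • x) : G ⋊[φ] A) =
      SemidirectProduct.inr a * SemidirectProduct.inl x * (SemidirectProduct.inr a)⁻¹ := by
    have := SemidirectProduct.inl_aut (φ := φ) a x
    rw [map_inv] at this
    rw [← this]
    rfl
  rw [h1]
  have h2 : (SemidirectProduct.inr a : G ⋊[φ] A) ∈ Subgroup.normalizer (P : Set (G ⋊[φ] A)) :=
    hPA ⟨a, rfl⟩
  exact (Subgroup.mem_normalizer_iff.mp h2 _).mp hx

section

variable {A : Type v} {G : Type u} [Group A] [Group G] [MulDistribMulAction A G]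

/-- `L` is invariant under the action of `A`. -/
def Inv (A : Type v) {G : Type u} [Group A] [Group G] [MulDistribMulAction A G]
    (L : Subgroup G) : Prop :=
  ∀ a : A, ∀ x ∈ L, a • x ∈ L

/-- `M` is a maximal `A`-invariant subgroup. -/
def MaxInv (A : Type v) {G : Type u} [Group A] [Group G] [MulDistribMulAction A G]
    (M : Subgroup G) : Prop :=
  M ≠ ⊤ ∧ Inv A M ∧ ∀ L : Subgroup G, M < L → Inv A L → L = ⊤

theorem inv_sup {L₁ L₂ : Subgroup G} (h₁ : Inv A L₁) (h₂ : Inv A L₂) : Inv A (L₁ ⊔ L₂) := by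
  intro a
  have h : L₁ ⊔ L₂ ≤ (L₁ ⊔ L₂).comap (MulDistribMulAction.toMonoidHom G a) := by
    apply sup_le
    · intro x hx
      rw [Subgroup.mem_comap, MulDistribMulAction.toMonoidHom_apply]
      exact (le_sup_left : L₁ ≤ L₁ ⊔ L₂) (h₁ a x hx)
    · intro x hx
      rw [Subgroup.mem_comap, MulDistribMulAction.toMonoidHom_apply]
      exact (le_sup_right : L₂ ≤ L₁ ⊔ L₂) (h₂ a x hx)
  intro x hx
  have h3 := h hx
  rwa [Subgroup.mem_comap, MulDistribMulAction.toMonoidHom_apply] at h3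

theorem inv_frattini : Inv A (frattini G) := by
  intro a x hx
  have h := Subgroup.characteristic_iff_map_eq.mp (frattini_characteristic (G := G))
    (MulDistribMulAction.toMulEquiv G a)
  rw [← h]
  exact ⟨x, hx, rfl⟩

theorem inv_bot : Inv A (⊥ : Subgroup G) := by
  intro a x hx
  rw [Subgroup.mem_bot] at hx ⊢
  rw [hx, smul_one]

theorem exists_maxInv_ge [Finite G] (L : Subgroup G) (hL : Inv A L) (hLt : L ≠ ⊤) :
    ∃ M : Subgroup G, L ≤ M ∧ MaxInv A M := by
  obtain ⟨M, hLM, hM⟩ := (Set.toFinite {X : Subgroup G | X ≠ ⊤ ∧ Inv A X}).exists_le_maximal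
    (a := L) ⟨hLt, hL⟩
  obtain ⟨⟨hMt, hMi⟩, hmax⟩ := hM
  refine ⟨M, hLM, hMt, hMi, ?_⟩
  intro X hMX hX
  by_contra hXt
  exact hMX.not_ge (hmax ⟨hXt, hX⟩ hMX.le)

theorem maxInv_iff_of_irred [Finite G]
    (h : ∀ L : Subgroup G, frattini G < L → Inv A L → L = ⊤) (M : Subgroup G) :
    MaxInv A M ↔ (M = frattini G ∧ M ≠ ⊤) := by
  constructor
  · rintro ⟨hMt, hMi, hmax⟩
    have h1 : Inv A (M ⊔ frattini G) := inv_sup hMi inv_frattini
    have h2 : M ⊔ frattini G ≠ ⊤ := fun h3 => hMt (frattini_nongenerating h3)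
    have h3 : frattini G ≤ M := by
      by_contra hc
      have h4 : M < M ⊔ frattini G :=
        lt_of_le_of_ne le_sup_left (fun e => hc (le_sup_right.trans (le_of_eq e.symm)))
      exact h2 (hmax _ h4 h1)
    refine ⟨?_, hMt⟩
    by_contra hne
    exact hMt (h M (lt_of_le_of_ne h3 (Ne.symm hne)) hMi)
  · rintro ⟨rfl, hMt⟩
    exact ⟨hMt, inv_frattini, fun L hL hLi => h L hL hLi⟩

theorem conj_smul_eq_of_normal (H : Subgroup G) [hH : H.Normal] (c : G) :
    MulAut.conj c • H = H := by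
  ext x
  rw [Subgroup.mem_pointwise_smul_iff_inv_smul_mem, MulAut.smul_def, MulAut.conj_inv_apply]
  constructor
  · intro h
    have h1 := hH.conj_mem _ h c
    have e : c * (c⁻¹ * x * c) * c⁻¹ = x := by group
    rwa [e] at h1
  · intro h
    have h1 := hH.conj_mem _ h c⁻¹
    rwa [inv_inv] at h1

theorem index_conj_smul (H : Subgroup G) (c : G) : (MulAut.conj c • H).index = H.index :=
  Subgroup.index_map_equiv H (MulAut.conj c)

theorem forward_pgroup [Finite A] [Finite G] (hcop : (Nat.card A).Coprime (Nat.card G))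
    (hsol : Group.IsSolvable A ∨ Group.IsSolvable G)
    (hconj : ∀ M N : Subgroup G, MaxInv A M → MaxInv A N →
      ∃ c : G, (∀ a : A, a • c = c) ∧ N = MulAut.conj c • M) :
    ∃ p : ℕ, p.Prime ∧ IsPGroup p G := by
  by_contra hnp
  push Not at hnp
  have hbt : (⊥ : Subgroup G) ≠ ⊤ := by
    intro h
    apply hnp 2 Nat.prime_two
    intro g
    have hg : g ∈ (⊥ : Subgroup G) := by rw [h]; exact Subgroup.mem_top g
    rw [Subgroup.mem_bot] at hg
    exact ⟨0, by rw [hg, one_pow]⟩
  obtain ⟨M₀, -, hM₀⟩ := exists_maxInv_ge (A := A) ⊥ inv_bot hbt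
  have hidx : M₀.index ≠ 1 := fun h => hM₀.1 (Subgroup.index_eq_one.mp h)
  obtain ⟨q, hq, hqd⟩ := Nat.exists_prime_and_dvd hidx
  haveI := Fact.mk hq
  obtain ⟨P, hP⟩ := exists_invariant_sylow hcop hsol q
  have hPt : (P : Subgroup G) ≠ ⊤ := by
    intro h
    apply hnp q hq
    intro g
    have hg : g ∈ (P : Subgroup G) := by rw [h]; exact Subgroup.mem_top g
    obtain ⟨k, hk⟩ := P.isPGroup' ⟨g, hg⟩
    exact ⟨k, by simpa using congrArg (fun w : ↥(P : Subgroup G) => (w : G)) hk⟩
  obtain ⟨Mq, hPM, hMq⟩ := exists_maxInv_ge (A := A) (P : Subgroup G) hP hPt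
  obtain ⟨c, -, hc⟩ := hconj Mq M₀ hMq hM₀
  have h1 : M₀.index = Mq.index := by rw [hc, index_conj_smul]
  have h2 : ¬ q ∣ Mq.index := fun h => P.not_dvd_index (h.trans (Subgroup.index_dvd_of_le hPM))
  exact h2 (h1 ▸ hqd)

end

theorem maschke_quot (V : Type*) [Group V] [Finite V] (hcomm : ∀ x y : V, x * y = y * x) (p : ℕ)
    [Fact p.Prime] (hexp : ∀ v : V, v ^ p = 1) {X : Type*} [Group X] [Finite X]
    (φ : X →* MulAut V) (hcop : (Nat.card X).Coprime p) (U : Subgroup V)
    (hU : ∀ x : X, ∀ u ∈ U, φ x u ∈ U) :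
    ∃ W : Subgroup V, (∀ x : X, ∀ w ∈ W, φ x w ∈ W) ∧ U ⊓ W = ⊥ ∧ U ⊔ W = ⊤ := by
  letI : CommGroup V := { (inferInstance : Group V) with mul_comm := hcomm }
  obtain ⟨W, hW, -, -, h1, h2⟩ := Cfsg.Agent.S3775.rel_maschke (A := V) φ hcop ⊥ U ⊤
    (Cfsg.Agent.S3775.inv_bot φ) hU (Cfsg.Agent.S3775.inv_top φ) bot_le le_top
    (fun y _ => by rw [Subgroup.mem_bot]; exact hexp y)
  exact ⟨W, hW, h1, h2⟩

open scoped commutatorElement in
theorem forward_irred {A : Type v} {G : Type u} [Group A] [Group G] [MulDistribMulAction A G]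
    [Finite A] [Finite G] (hcop : (Nat.card A).Coprime (Nat.card G)) {p : ℕ}
    [hp : Fact p.Prime] (hG : IsPGroup p G)
    (hconj : ∀ M N : Subgroup G, MaxInv A M → MaxInv A N →
      ∃ c : G, (∀ a : A, a • c = c) ∧ N = MulAut.conj c • M)
    (L : Subgroup G) (hΦL : frattini G < L) (hL : Inv A L) : L = ⊤ := by
  by_contra hLt
  obtain ⟨M₁, hLM, hM₁⟩ := exists_maxInv_ge L hL hLt
  have hΦM : frattini G < M₁ := lt_of_lt_of_le hΦL hLM
  have hcomm : commutator G ≤ M₁ :=
    (Cfsg.Agent.helper1.commutator_le_frattini_of_isPGroup hG).trans hΦM.le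
  haveI hM₁n : M₁.Normal := by
    constructor
    intro h hh g
    have e : g * h * g⁻¹ = ⁅g, h⁆ * h := by simp [commutatorElement_def]
    rw [e]
    refine M₁.mul_mem (hcomm ?_) hh
    rw [commutator_def]
    exact Subgroup.commutator_mem_commutator (Subgroup.mem_top g) (Subgroup.mem_top h)
  have huniq : ∀ X : Subgroup G, Inv A X → X ≠ ⊤ → X ≤ M₁ := by
    intro X hX hXt
    obtain ⟨N, hXN, hN⟩ := exists_maxInv_ge X hX hXt
    obtain ⟨c, -, hc⟩ := hconj M₁ N hM₁ hN
    rw [conj_smul_eq_of_normal] at hc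
    rw [hc] at hXN
    exact hXN
  -- the quotient by the Frattini subgroup
  have hinvΦ : ∀ (a : A) (d : G), d ∈ frattini G → a • d ∈ frattini G :=
    fun a d hd => inv_frattini a d hd
  letI := Cfsg.Agent.helper15.quotAction (frattini G) hinvΦ
  set π := QuotientGroup.mk' (frattini G) with hπdef
  have hπ : Function.Surjective π := QuotientGroup.mk'_surjective (frattini G)
  set φ : A →* MulAut (G ⧸ frattini G) := MulDistribMulAction.toMulAut A (G ⧸ frattini G) with hφdef
  have hφ : ∀ (a : A) (d : G), φ a (π d) = π (a • d) := fun a d => rfl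
  have hcommV : ∀ x y : G ⧸ frattini G, x * y = y * x := by
    intro x y
    obtain ⟨x, rfl⟩ := hπ x
    obtain ⟨y, rfl⟩ := hπ y
    rw [← map_mul, ← map_mul]
    apply QuotientGroup.eq.mpr
    apply Cfsg.Agent.helper1.commutator_le_frattini_of_isPGroup hG
    have e : (x * y)⁻¹ * (y * x) = ⁅y⁻¹, x⁻¹⁆ := by simp [commutatorElement_def, mul_assoc]
    rw [e, commutator_def]
    exact Subgroup.commutator_mem_commutator (Subgroup.mem_top _) (Subgroup.mem_top _)
  have hexpV : ∀ v : G ⧸ frattini G, v ^ p = 1 := by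
    intro v
    obtain ⟨x, rfl⟩ := hπ v
    rw [← map_pow]
    exact (QuotientGroup.eq_one_iff _).mpr (Cfsg.Agent.helper1.pow_mem_frattini_of_isPGroup hG x)
  have hcop' : (Nat.card A).Coprime p := by
    obtain ⟨n, hn⟩ := IsPGroup.iff_card.mp hG
    have hn0 : n ≠ 0 := by
      rintro rfl
      rw [pow_zero] at hn
      haveI : Subsingleton G := (Nat.card_eq_one_iff_unique.mp hn).1
      exact hM₁.1 (Subsingleton.elim _ _)
    exact Nat.Coprime.coprime_dvd_right (hn ▸ dvd_pow_self p hn0) hcop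
  set U : Subgroup (G ⧸ frattini G) := M₁.map π with hUdef
  have hU : ∀ a : A, ∀ u ∈ U, φ a u ∈ U := by
    rintro a _ ⟨m, hm, rfl⟩
    rw [hφ]
    exact ⟨a • m, hM₁.2.1 a m hm, rfl⟩
  obtain ⟨W, hW, hUW, hsup⟩ := maschke_quot (G ⧸ frattini G) hcommV p hexpV φ hcop' U hU
  have hW'inv : Inv A (W.comap π) := by
    intro a x hx
    rw [Subgroup.mem_comap] at hx ⊢
    have h1 := hW a _ hx
    rwa [hφ] at h1
  have hW't : W.comap π ≠ ⊤ := by
    intro h
    have hWt : W = ⊤ := by
      rw [← Subgroup.map_comap_eq_self_of_surjective hπ W, h, Subgroup.map_top_of_surjective π hπ]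
    rw [hWt, inf_top_eq] at hUW
    have h1 : M₁ ≤ frattini G := by
      intro m hm
      have h2 : π m ∈ U := ⟨m, hm, rfl⟩
      rw [hUW, Subgroup.mem_bot] at h2
      exact (QuotientGroup.eq_one_iff m).mp h2
    exact hΦM.not_ge h1
  have hW'M := huniq _ hW'inv hW't
  have hWU : W ≤ U := by
    intro w hw
    obtain ⟨x, rfl⟩ := hπ w
    exact ⟨x, hW'M hw, rfl⟩
  have hUt : U = ⊤ := by rw [← hsup]; exact (sup_eq_left.mpr hWU).symm
  apply hM₁.1
  rw [eq_top_iff]
  intro g _
  have h1 : π g ∈ U := by rw [hUt]; exact Subgroup.mem_top _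
  obtain ⟨m, hm, hmg⟩ := h1
  have h2 : m⁻¹ * g ∈ frattini G := QuotientGroup.eq.mp hmg
  have h3 : g = m * (m⁻¹ * g) := by group
  rw [h3]
  exact M₁.mul_mem hm (hΦM.le h2)

end Cfsg.Agent.helper18.CMI
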