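import Mathlib

set_option autoImplicit false

namespace Cfsg.Agent.helper18.Crit

/-! ## The spectrum set -/

/-- The set of products `∏ c j`, `c j ∈ {1, p j 0, p j 1}`. -/
abbrev Om (s : ℕ) (p : Fin s → Fin 2 → ℕ) : Set ℕ :=
  {m : ℕ | ∃ c : Fin s → ℕ, (∀ j, c j = 1 ∨ c j = p j 0 ∨ c j = p j 1) ∧ m = ∏ j, c j}

/-! ## Laws: a section-closed invariant encoding "normal Sylow `r`-subgroup" -/

/-- A group law that forces the `r`-elements to be closed under multiplication. -/
def Law (r : ℕ) (K : Type) [Group K] : Prop :=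
  ∃ m a : ℕ, Nat.Coprime m r ∧ ∀ x y : K, (x ^ m * y ^ m) ^ (r ^ a) = 1

theorem Law.sec {r : ℕ} {K : Type} [Group K] (h : Law r K) (H : Subgroup K)
    (N : Subgroup H) [N.Normal] : Law r (H ⧸ N) := by
  obtain ⟨m, a, hm, hl⟩ := h
  refine ⟨m, a, hm, ?_⟩
  intro x y
  obtain ⟨x, rfl⟩ := QuotientGroup.mk'_surjective N x
  obtain ⟨y, rfl⟩ := QuotientGroup.mk'_surjective N y
  have h2 : (x ^ m * y ^ m) ^ (r ^ a) = (1 : H) := by
    apply Subtype.ext
    have := hl (x : K) (y : K)
    simpa using this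
  rw [← map_pow, ← map_pow, ← map_mul, ← map_pow, h2, map_one]

theorem Law.of_equiv {r : ℕ} {K L : Type} [Group K] [Group L] (h : Law r K) (e : K ≃* L) :
    Law r L := by
  obtain ⟨m, a, hm, hl⟩ := h
  refine ⟨m, a, hm, fun x y => ?_⟩
  have h2 := congrArg e (hl (e.symm x) (e.symm y))
  simpa using h2

theorem Law.mul_pow {r : ℕ} {K : Type} [Group K] (h : Law r K) :
    ∃ a : ℕ, ∀ u v : K, orderOf u = r → orderOf v = r → (u * v) ^ (r ^ a) = 1 := by
  obtain ⟨m, a, hm, hl⟩ := h
  refine ⟨a, fun u v hu hv => ?_⟩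
  obtain ⟨t, ht⟩ := exists_pow_eq_self_of_coprime (x := u) (n := m) (by rw [hu]; exact hm)
  obtain ⟨t', ht'⟩ := exists_pow_eq_self_of_coprime (x := v) (n := m) (by rw [hv]; exact hm)
  have e1 : (u ^ t) ^ m = u := by rw [← pow_mul, mul_comm, pow_mul]; exact ht
  have e2 : (v ^ t') ^ m = v := by rw [← pow_mul, mul_comm, pow_mul]; exact ht'
  have := hl (u ^ t) (v ^ t')
  rwa [e1, e2] at this

theorem Law.orderOf_mul {p q : ℕ} (hp : p.Prime) (hq : q.Prime) (hpq : p ≠ q) {K : Type}
    [Group K] (h1 : Law p K) (h2 : Law q K) (x y : K) (hx : orderOf x = p) (hy : orderOf y = q) :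
    orderOf (x * y) = p * q := by
  obtain ⟨a, ha⟩ := h1.mul_pow
  obtain ⟨b, hb⟩ := h2.mul_pow
  have hx' : orderOf (y * x⁻¹ * y⁻¹) = p := by
    rw [← MulAut.conj_apply, MulEquiv.orderOf_eq, orderOf_inv, hx]
  have hy' : orderOf (x * y * x⁻¹) = q := by
    rw [← MulAut.conj_apply, MulEquiv.orderOf_eq, hy]
  have hy'' : orderOf y⁻¹ = q := by rw [orderOf_inv, hy]
  have e1 := ha x (y * x⁻¹ * y⁻¹) hx hx'
  have e2 := hb (x * y * x⁻¹) y⁻¹ hy' hy''
  have e3 : x * (y * x⁻¹ * y⁻¹) = x * y * x⁻¹ * y⁻¹ := by group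
  rw [e3] at e1
  have d1 : orderOf (x * y * x⁻¹ * y⁻¹) ∣ p ^ a := orderOf_dvd_of_pow_eq_one e1
  have d2 : orderOf (x * y * x⁻¹ * y⁻¹) ∣ q ^ b := orderOf_dvd_of_pow_eq_one e2
  have hco : Nat.Coprime (p ^ a) (q ^ b) := Nat.Coprime.pow _ _ ((Nat.coprime_primes hp hq).2 hpq)
  have h1' : orderOf (x * y * x⁻¹ * y⁻¹) = 1 := Nat.eq_one_of_dvd_coprimes hco d1 d2
  have hcomm : Commute x y := by
    have h3 := orderOf_eq_one_iff.1 h1'
    have h4 := mul_inv_eq_one.1 h3
    have h5 := mul_inv_eq_iff_eq_mul.1 h4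
    exact h5
  rw [hcomm.orderOf_mul_eq_mul_orderOf_of_coprime
    (by rw [hx, hy]; exact (Nat.coprime_primes hp hq).2 hpq), hx, hy]

/-! ## Minimal sections are critical -/

theorem exists_critical (Ω : Set ℕ) (Inv : ∀ (K : Type) [Group K], Prop)
    (hsec : ∀ (K : Type) [Group K] (H : Subgroup K) (N : Subgroup H) [N.Normal],
      Inv K → Inv (H ⧸ N)) :
    ∀ n : ℕ, ∀ (K : Type) [Group K] [Finite K], Nat.card K = n →
      Set.range (orderOf : K → ℕ) = Ω → Inv K →
      ∃ (K' : Type) (_ : Group K') (_ : Finite K'),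
        Set.range (orderOf : K' → ℕ) = Ω ∧ Inv K' ∧
        ∀ (H : Subgroup K') (N : Subgroup H) [N.Normal], (H ≠ ⊤ ∨ N ≠ ⊥) →
          Set.range (orderOf : (H ⧸ N) → ℕ) ≠ Ω := by
  intro n
  induction n using Nat.strong_induction_on with
  | _ n ih =>
  intro K _ _ hn hspec hinv
  by_cases hcrit : ∀ (H : Subgroup K) (N : Subgroup H) [N.Normal], (H ≠ ⊤ ∨ N ≠ ⊥) →
      Set.range (orderOf : (H ⧸ N) → ℕ) ≠ Ω
  · exact ⟨K, inferInstance, inferInstance, hspec, hinv, hcrit⟩
  · push Not at hcrit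
    obtain ⟨H, N, hN, hne, hsp⟩ := hcrit
    have : N.Normal := hN
    have h1 : Nat.card H = Nat.card (H ⧸ N) * Nat.card N :=
      Subgroup.card_eq_card_quotient_mul_card_subgroup N
    have h2 : Nat.card H ≤ Nat.card K := Subgroup.card_le_card_group H
    have h3 : 0 < Nat.card (H ⧸ N) := Nat.card_pos
    have h4 : 0 < Nat.card N := Nat.card_pos
    have hlt : Nat.card (H ⧸ N) < n := by
      rw [← hn]
      rcases hne with hH | hNb
      · have h5 : Nat.card H ≠ Nat.card K := fun h => hH ((Subgroup.card_eq_iff_eq_top H).1 h)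
        have h6 : Nat.card (H ⧸ N) ≤ Nat.card H := by
          rw [h1]; exact Nat.le_mul_of_pos_right _ h4
        omega
      · have h5 : 1 < Nat.card N := (Subgroup.one_lt_card_iff_ne_bot N).2 hNb
        have h6 : Nat.card (H ⧸ N) < Nat.card H := by
          rw [h1]; exact lt_mul_of_one_lt_right h3 h5
        omega
    exact ih _ hlt (H ⧸ N) rfl hsp (hsec K H N hinv)

/-! ## Orders in products with pairwise coprime exponents -/

theorem prod_dvd_of_pairwise_coprime {ι : Type} (S : Finset ι) (f : ι → ℕ) (z : ℕ)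
    (hco : ∀ i ∈ S, ∀ j ∈ S, i ≠ j → Nat.Coprime (f i) (f j)) (hd : ∀ i ∈ S, f i ∣ z) :
    ∏ i ∈ S, f i ∣ z := by
  classical
  induction S using Finset.induction_on with
  | empty => simp
  | insert a S ha ih =>
    rw [Finset.prod_insert ha]
    apply Nat.Coprime.mul_dvd_of_dvd_of_dvd
    · apply Nat.Coprime.prod_right
      intro j hj
      exact hco a (Finset.mem_insert_self a S) j (Finset.mem_insert_of_mem hj)
        (by rintro rfl; exact ha hj)
    · exact hd a (Finset.mem_insert_self a S)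
    · exact ih (fun i hi j hj => hco i (Finset.mem_insert_of_mem hi) j (Finset.mem_insert_of_mem hj))
        (fun i hi => hd i (Finset.mem_insert_of_mem hi))

theorem orderOf_pi_eq_prod {ι : Type} [Fintype ι] {K : ι → Type} [∀ i, Group (K i)] (w : ι → ℕ)
    (hw : ∀ i j, i ≠ j → Nat.Coprime (w i) (w j)) (g : ∀ i, K i)
    (hg : ∀ i, orderOf (g i) ∣ w i) :
    orderOf g = ∏ i, orderOf (g i) := by
  apply Nat.dvd_antisymm
  · apply orderOf_dvd_of_pow_eq_one
    funext i
    rw [Pi.pow_apply, Pi.one_apply]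
    exact orderOf_dvd_iff_pow_eq_one.1 (Finset.dvd_prod_of_mem _ (Finset.mem_univ i))
  · apply prod_dvd_of_pairwise_coprime
    · intro i _ j _ hij
      exact Nat.Coprime.coprime_dvd_left (hg i) (Nat.Coprime.coprime_dvd_right (hg j) (hw i j hij))
    · intro i _
      apply orderOf_dvd_of_pow_eq_one
      have := congrFun (pow_orderOf_eq_one g) i
      simpa using this

/-! ## The base groups `F ⋊ ⟨ζ⟩` -/

section Base
variable (F : Type) [Field F] (ζ : Fˣ)

/-- `⟨ζ⟩` acts on the additive group of `F` by multiplication. -/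
noncomputable def affPhi : (Subgroup.zpowers ζ) →* MulAut (Multiplicative F) :=
  (MulAutMultiplicative F).symm.toMonoidHom.comp
    (DistribMulAction.toAddAut (Subgroup.zpowers ζ) F)

theorem affPhi_apply (c : Subgroup.zpowers ζ) (x : Multiplicative F) :
    Multiplicative.toAdd (affPhi F ζ c x) = ((c : Fˣ) : F) * Multiplicative.toAdd x := rfl

/-- The group of affine maps `x ↦ ζ^i x + v`. -/
abbrev AffK := SemidirectProduct (Multiplicative F) (Subgroup.zpowers ζ) (affPhi F ζ)

instance affK_finite [Finite F] : Finite (AffK F ζ) :=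
  Finite.of_equiv _ SemidirectProduct.equivProd.symm

variable {F ζ}

theorem affK_eq_inl (g : AffK F ζ) (hg : g.right = 1) : g = SemidirectProduct.inl g.left := by
  ext
  · simp
  · simp [hg]

theorem affK_pow_char (p : ℕ) [CharP F p] (g : AffK F ζ) (hg : g.right = 1) : g ^ p = 1 := by
  have h1 : g.left ^ p = 1 := by
    apply Multiplicative.toAdd.injective
    rw [toAdd_pow, toAdd_one, nsmul_eq_mul, CharP.cast_eq_zero F p, zero_mul]
  rw [affK_eq_inl g hg, ← map_pow, h1, map_one]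

theorem affK_conj (g : AffK F ζ) (hg : g.right ≠ 1) :
    ∃ w : AffK F ζ, g = w * SemidirectProduct.inr g.right * w⁻¹ := by
  have hc : (1 : F) - ((g.right : Fˣ) : F) ≠ 0 := by
    intro h
    apply hg
    have h1 : ((g.right : Fˣ) : F) = 1 := (sub_eq_zero.1 h).symm
    apply Subtype.ext
    apply Units.ext
    simpa using h1
  refine ⟨SemidirectProduct.inl (Multiplicative.ofAdd
    ((1 - ((g.right : Fˣ) : F))⁻¹ * Multiplicative.toAdd g.left)), ?_⟩
  refine SemidirectProduct.ext ?_ ?_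
  · apply Multiplicative.toAdd.injective
    simp only [SemidirectProduct.mul_left, SemidirectProduct.mul_right,
      SemidirectProduct.inv_left, SemidirectProduct.inv_right, SemidirectProduct.left_inl,
      SemidirectProduct.right_inl, SemidirectProduct.left_inr, SemidirectProduct.right_inr,
      map_one, inv_one, one_mul, mul_one, MulAut.one_apply, toAdd_mul, affPhi_apply, toAdd_inv,
      toAdd_ofAdd]
    field_simp
    ring
  · simp

theorem affK_pow_card (q : ℕ) (hζ : orderOf ζ = q) (g : AffK F ζ) (hg : g.right ≠ 1) :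
    g ^ q = 1 := by
  obtain ⟨w, hw⟩ := affK_conj g hg
  have hc : (g.right) ^ q = 1 := by
    have : Nat.card (Subgroup.zpowers ζ) = q := by rw [Nat.card_zpowers, hζ]
    rw [← this]; exact pow_card_eq_one'
  rw [hw, conj_pow, ← map_pow, hc, map_one, mul_one, mul_inv_cancel]

theorem affK_right_pow (q : ℕ) (hζ : orderOf ζ = q) (x : AffK F ζ) : (x ^ q).right = 1 := by
  have : Nat.card (Subgroup.zpowers ζ) = q := by rw [Nat.card_zpowers, hζ]
  show SemidirectProduct.rightHom (x ^ q) = 1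
  rw [map_pow, ← this]; exact pow_card_eq_one'

end Base

theorem base_exists (p q : ℕ) (hp : p.Prime) (hq : q.Prime) (hpq : p ≠ q) :
    ∃ (K : Type) (_ : Group K) (_ : Finite K),
      (∀ g : K, orderOf g = 1 ∨ orderOf g = p ∨ orderOf g = q) ∧
      (∃ g : K, orderOf g = p) ∧ (∃ g : K, orderOf g = q) ∧
      ∀ x y : K, (x ^ q * y ^ q) ^ p = 1 := by
  have : Fact p.Prime := ⟨hp⟩
  have : Fact q.Prime := ⟨hq⟩
  have hn : q - 1 ≠ 0 := by have := hq.two_le; omega
  have hdvd : q ∣ Nat.card (GaloisField p (q - 1))ˣ := by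
    rw [Nat.card_units, GaloisField.card p (q - 1) hn]
    have hco : Nat.Coprime p q := (Nat.coprime_primes hp hq).2 hpq
    have h := Nat.ModEq.pow_totient hco
    rw [Nat.totient_prime hq] at h
    exact (Nat.modEq_iff_dvd' (Nat.one_le_pow _ _ hp.pos)).1 h.symm
  obtain ⟨ζ, hζ⟩ := exists_prime_orderOf_dvd_card' q hdvd
  have hζ1 : ζ ≠ 1 := by
    intro h; rw [h, orderOf_one] at hζ; exact hq.one_lt.ne hζ
  refine ⟨AffK (GaloisField p (q - 1)) ζ, inferInstance, inferInstance, ?_, ?_, ?_, ?_⟩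
  · intro g
    by_cases hg : g.right = 1
    · have := orderOf_dvd_of_pow_eq_one (affK_pow_char p g hg)
      rcases (Nat.dvd_prime hp).1 this with h | h
      · left; exact h
      · right; left; exact h
    · right; right
      exact orderOf_eq_prime (affK_pow_card q hζ g hg)
        (fun h => hg (by rw [h, SemidirectProduct.one_right]))
  · have h1 : ((SemidirectProduct.inl (Multiplicative.ofAdd (1 : GaloisField p (q - 1))) :
        AffK (GaloisField p (q - 1)) ζ)).right = 1 := SemidirectProduct.right_inl _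
    refine ⟨_, orderOf_eq_prime (affK_pow_char p _ h1) ?_⟩
    intro h
    have := congrArg SemidirectProduct.left h
    simp at this
  · have hr : (SemidirectProduct.inr ⟨ζ, Subgroup.mem_zpowers ζ⟩ :
        AffK (GaloisField p (q - 1)) ζ).right ≠ 1 := by
      rw [SemidirectProduct.right_inr]
      intro h
      exact hζ1 (congrArg Subtype.val h)
    refine ⟨_, orderOf_eq_prime (affK_pow_card q hζ _ hr) ?_⟩
    intro h
    exact hr (by rw [h, SemidirectProduct.one_right])
  · intro x y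
    apply affK_pow_char p
    rw [SemidirectProduct.mul_right, affK_right_pow q hζ, affK_right_pow q hζ, one_mul]

/-! ## Products of base groups -/

theorem pi_spec {s : ℕ} (p : Fin s → Fin 2 → ℕ) (hp : ∀ j i, (p j i).Prime)
    (hinj : ∀ j i j' i', p j i = p j' i' → j = j' ∧ i = i')
    (K : Fin s → Type) [∀ j, Group (K j)]
    (h1 : ∀ j (g : K j), orderOf g = 1 ∨ orderOf g = p j 0 ∨ orderOf g = p j 1)
    (h2 : ∀ j c, (c = 1 ∨ c = p j 0 ∨ c = p j 1) → ∃ g : K j, orderOf g = c) :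
    Set.range (orderOf : (∀ j, K j) → ℕ) = Om s p := by
  have hw : ∀ i j : Fin s, i ≠ j → Nat.Coprime (p i 0 * p i 1) (p j 0 * p j 1) := by
    intro i j hij
    have hc : ∀ a b : Fin 2, Nat.Coprime (p i a) (p j b) := fun a b =>
      (Nat.coprime_primes (hp i a) (hp j b)).2 (fun h => hij (hinj _ _ _ _ h).1)
    exact Nat.Coprime.mul_left (Nat.Coprime.mul_right (hc 0 0) (hc 0 1))
      (Nat.Coprime.mul_right (hc 1 0) (hc 1 1))
  have hd : ∀ (g : ∀ j, K j) j, orderOf (g j) ∣ p j 0 * p j 1 := by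
    intro g j
    rcases h1 j (g j) with h | h | h <;> rw [h]
    · exact one_dvd _
    · exact dvd_mul_right _ _
    · exact dvd_mul_left _ _
  ext m
  constructor
  · rintro ⟨g, rfl⟩
    refine ⟨fun j => orderOf (g j), fun j => h1 j (g j), ?_⟩
    exact orderOf_pi_eq_prod _ hw g (hd g)
  · rintro ⟨c, hc, rfl⟩
    choose g hg using fun j => h2 j (c j) (hc j)
    refine ⟨g, ?_⟩
    rw [orderOf_pi_eq_prod _ hw g (hd g)]
    exact Finset.prod_congr rfl (fun j _ => hg j)

theorem pi_law {s : ℕ} (p : Fin s → Fin 2 → ℕ) (hp : ∀ j i, (p j i).Prime)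
    (hinj : ∀ j i j' i', p j i = p j' i' → j = j' ∧ i = i')
    (K : Fin s → Type) [∀ j, Group (K j)] (f : Fin s → Fin 2)
    (h1 : ∀ j (g : K j), g ^ (p j 0 * p j 1) = 1)
    (h3 : ∀ j (x y : K j), (x ^ (p j (1 - f j)) * y ^ (p j (1 - f j))) ^ (p j (f j)) = 1) :
    ∀ j, Law (p j (f j)) (∀ j, K j) := by
  classical
  have fin2 : ∀ u : Fin 2, 1 - u ≠ u := by decide
  intro j
  refine ⟨(∏ j' ∈ Finset.univ.erase j, (p j' 0 * p j' 1)) * p j (1 - f j), 1, ?_, ?_⟩
  · apply Nat.Coprime.mul_left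
    · apply Nat.Coprime.prod_left
      intro j' hj'
      have hne : j' ≠ j := Finset.ne_of_mem_erase hj'
      have hc : ∀ a : Fin 2, Nat.Coprime (p j' a) (p j (f j)) := fun a =>
        (Nat.coprime_primes (hp j' a) (hp j (f j))).2 (fun h => hne (hinj _ _ _ _ h).1)
      exact Nat.Coprime.mul_left (hc 0) (hc 1)
    · exact (Nat.coprime_primes (hp j _) (hp j _)).2 (fun h => fin2 _ (hinj _ _ _ _ h).2)
  · intro x y
    rw [pow_one]
    funext j'
    simp only [Pi.pow_apply, Pi.mul_apply, Pi.one_apply]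
    by_cases hj' : j' = j
    · subst hj'
      rw [pow_mul, pow_mul]
      exact h3 _ _ _
    · have hdv : p j' 0 * p j' 1 ∣
          (∏ j'' ∈ Finset.univ.erase j, (p j'' 0 * p j'' 1)) * p j (1 - f j) :=
        Dvd.dvd.mul_right
          (Finset.dvd_prod_of_mem _ (Finset.mem_erase.2 ⟨hj', Finset.mem_univ _⟩)) _
      obtain ⟨t, ht⟩ := hdv
      have hone : ∀ z : K j',
          z ^ ((∏ j'' ∈ Finset.univ.erase j, (p j'' 0 * p j'' 1)) * p j (1 - f j)) = 1 := by
        intro z; rw [ht, pow_mul, h1, one_pow]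
      rw [hone, hone, one_mul, one_pow]

theorem noniso {s : ℕ} (p : Fin s → Fin 2 → ℕ) (hp : ∀ j i, (p j i).Prime)
    (hinj : ∀ j i j' i', p j i = p j' i' → j = j' ∧ i = i')
    (K : Type) [Group K] (hspec : Set.range (orderOf : K → ℕ) = Om s p) (j : Fin s)
    (h0 : Law (p j 0) K) (h1 : Law (p j 1) K) : False := by
  classical
  have hne : p j 0 ≠ p j 1 := fun h => absurd (hinj _ _ _ _ h).2 (by decide)
  have mem : ∀ a : Fin 2, p j a ∈ Om s p := by
    intro a
    refine ⟨fun j' => if j' = j then p j a else 1, fun j' => ?_, ?_⟩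
    · by_cases h : j' = j
      · subst h
        have : a = 0 ∨ a = 1 := by revert a; decide
        rcases this with rfl | rfl
        · right; left; simp
        · right; right; simp
      · left; simp [h]
    · simp
  have hdiv : ∀ (a : Fin 2) (c : Fin s → ℕ),
      (∀ j', c j' = 1 ∨ c j' = p j' 0 ∨ c j' = p j' 1) → p j a ∣ ∏ j', c j' → c j = p j a := by
    intro a c hc hd
    obtain ⟨j', -, hj'⟩ := (Prime.dvd_finsetProd_iff (Nat.Prime.prime (hp j a)) c).1 hd
    have key : ∀ b : Fin 2, c j' = p j' b → c j = p j a := by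
      intro b hb
      rw [hb] at hj'
      have h := (Nat.prime_dvd_prime_iff_eq (hp j a) (hp j' b)).1 hj'
      obtain ⟨h5, h6⟩ := hinj _ _ _ _ h
      rw [h5, h6]; exact hb
    rcases hc j' with h | h | h
    · rw [h] at hj'; exact absurd (Nat.dvd_one.1 hj') (hp j a).one_lt.ne'
    · exact key 0 h
    · exact key 1 h
  have m0 := mem 0
  have m1 := mem 1
  rw [← hspec] at m0 m1
  obtain ⟨x, hx⟩ := m0
  obtain ⟨y, hy⟩ := m1
  have hxy := Law.orderOf_mul (hp j 0) (hp j 1) hne h0 h1 x y hx hy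
  have m2 : p j 0 * p j 1 ∈ Om s p := by rw [← hspec]; exact ⟨x * y, hxy⟩
  obtain ⟨c, hc, hprod⟩ := m2
  have e0 := hdiv 0 c hc (by rw [← hprod]; exact dvd_mul_right _ _)
  have e1 := hdiv 1 c hc (by rw [← hprod]; exact dvd_mul_left _ _)
  exact hne (e0.symm.trans e1)

end Cfsg.Agent.helper18.Crit
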