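import Mathlib
import Cfsg.Agent.Lib_helper18_Derangement

set_option autoImplicit false

namespace Cfsg.Agent.helper18

open MulAction

/-- If `d` divides every orbit size then `d` divides the cardinality. -/
lemma dvd_card_of_dvd_orbits (H X : Type*) [Group H] [MulAction H X] [Finite X] (d : ℕ)
    (h : ∀ x : X, d ∣ Nat.card (orbit H x)) : d ∣ Nat.card X := by
  classical
  have : Fintype (orbitRel.Quotient H X) := Fintype.ofFinite _
  rw [Nat.card_congr (selfEquivSigmaOrbits H X), Nat.card_sigma]
  apply Finset.dvd_sum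
  intro q _
  exact h _

section

variable {G Ω : Type*} [Group G] [Finite G] [MulAction G Ω] [Finite Ω]

lemma derSubgroup_sup_stabilizer [IsPretransitive G Ω] (α : Ω) :
    stabilizer G α ⊔ derSubgroup G Ω = ⊤ := by
  obtain ⟨hD, -⟩ := derSubgroup_key (G := G) Ω
  rw [eq_top_iff]
  intro g _
  obtain ⟨d, hd⟩ := exists_smul_eq (derSubgroup G Ω) α (g • α)
  have hmem : (d : G)⁻¹ * g ∈ stabilizer G α := by
    rw [mem_stabilizer_iff, mul_smul, ← hd]
    exact inv_smul_smul _ _
  have : g = (d : G) * ((d : G)⁻¹ * g) := by simp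
  rw [this]
  exact Subgroup.mul_mem _ (Subgroup.mem_sup_right d.2) (Subgroup.mem_sup_left hmem)

lemma derSubgroup_index_eq_relIndex [IsPretransitive G Ω] (α : Ω) :
    (derSubgroup G Ω).index = (derSubgroup G Ω).relIndex (stabilizer G α) := by
  have := derSubgroup_normal G Ω
  rw [← Subgroup.relIndex_sup_right, derSubgroup_sup_stabilizer α, Subgroup.relIndex_top_right]

/-- stabilizers (in the point stabilizer) of other points lie in the derangement subgroup. -/
lemma stabilizer_le_subgroupOf [IsPretransitive G Ω] (α : Ω)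
    (x : SubMulAction.ofStabilizer G α) :
    stabilizer (stabilizer G α) x ≤ (derSubgroup G Ω).subgroupOf (stabilizer G α) := by
  obtain ⟨-, hone⟩ := derSubgroup_key (G := G) Ω
  intro h hh
  rw [Subgroup.mem_subgroupOf]
  by_contra hnot
  have h1 := hone (h : G) hnot
  have hα : (h : G) • α = α := h.2
  have hx : (h : G) • (x : Ω) = x := by
    exact congrArg Subtype.val (mem_stabilizer_iff.mp hh)
  have hsub : Subsingleton (fixedBy Ω (h : G)) :=
    (Nat.card_eq_one_iff_unique.mp h1).1
  have : (⟨α, hα⟩ : fixedBy Ω (h : G)) = ⟨x, hx⟩ := Subsingleton.elim _ _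
  exact x.2 (congrArg Subtype.val this).symm

theorem derSubgroup_index_dvd [IsPretransitive G Ω] (hΩ : 2 ≤ Nat.card Ω) :
    (derSubgroup G Ω).index ∣ Nat.card Ω - 1 := by
  have hne : Nonempty Ω := by
    by_contra h
    rw [not_nonempty_iff] at h
    rw [Nat.card_of_isEmpty] at hΩ
    omega
  obtain ⟨α⟩ := hne
  rw [derSubgroup_index_eq_relIndex α, ← SubMulAction.nat_card_ofStabilizer_eq G α]
  apply dvd_card_of_dvd_orbits (stabilizer G α)
  intro x
  rw [Nat.card_coe_set_eq, ← index_stabilizer]
  exact Subgroup.index_dvd_of_le (stabilizer_le_subgroupOf α x)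

/-- In the extremal case the derangement subgroup meets point stabilizers trivially
and the point stabilizer is transitive on the remaining points. -/
lemma extremal_case [FaithfulSMul G Ω] [IsPretransitive G Ω] (hΩ : 2 ≤ Nat.card Ω)
    (hidx : (derSubgroup G Ω).index = Nat.card Ω - 1) (α : Ω) :
    (∀ g ∈ derSubgroup G Ω, g • α = α → g = 1) ∧
      IsPretransitive (stabilizer G α) (SubMulAction.ofStabilizer G α) := by
  have hcardX : Nat.card (SubMulAction.ofStabilizer G α) = Nat.card Ω - 1 :=
    SubMulAction.nat_card_ofStabilizer_eq G α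
  have hN : ((derSubgroup G Ω).subgroupOf (stabilizer G α)).index = Nat.card Ω - 1 := by
    rw [← hidx, derSubgroup_index_eq_relIndex α]; rfl
  have hpos : 0 < Nat.card Ω - 1 := by omega
  have key : ∀ x : SubMulAction.ofStabilizer G α,
      (stabilizer (stabilizer G α) x).index = Nat.card Ω - 1 := by
    intro x
    have h1 : ((derSubgroup G Ω).subgroupOf (stabilizer G α)).index ∣
        (stabilizer (stabilizer G α) x).index :=
      Subgroup.index_dvd_of_le (stabilizer_le_subgroupOf α x)
    rw [hN] at h1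
    have h2 : (stabilizer (stabilizer G α) x).index ≤ Nat.card Ω - 1 := by
      rw [index_stabilizer, ← hcardX, ← Nat.card_coe_set_eq]
      exact Nat.card_le_card_of_injective _ Subtype.val_injective
    have h3 : 0 < (stabilizer (stabilizer G α) x).index := by
      rw [index_stabilizer, ← Nat.card_coe_set_eq]
      have : Nonempty (orbit (stabilizer G α) x) := ⟨⟨x, mem_orbit_self x⟩⟩
      exact Nat.card_pos
    exact le_antisymm h2 (Nat.le_of_dvd h3 h1)
  constructor
  · intro g hg hgα
    apply FaithfulSMul.eq_of_smul_eq_smul (α := Ω)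
    intro ω
    rw [one_smul]
    by_cases hω : ω = α
    · rw [hω]; exact hgα
    · let x : SubMulAction.ofStabilizer G α := ⟨ω, hω⟩
      let h : stabilizer G α := ⟨g, hgα⟩
      have hle := stabilizer_le_subgroupOf α x
      have hrel := Subgroup.relIndex_mul_index hle
      rw [key x, hN] at hrel
      have hrel1 : (stabilizer (stabilizer G α) x).relIndex
          ((derSubgroup G Ω).subgroupOf (stabilizer G α)) = 1 := by
        have : (stabilizer (stabilizer G α) x).relIndex
          ((derSubgroup G Ω).subgroupOf (stabilizer G α)) * (Nat.card Ω - 1) = 1 * (Nat.card Ω - 1) := by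
          rw [hrel, one_mul]
        exact Nat.eq_of_mul_eq_mul_right hpos this
      have hle2 := Subgroup.relIndex_eq_one.mp hrel1
      have hh : h ∈ (derSubgroup G Ω).subgroupOf (stabilizer G α) := by
        rw [Subgroup.mem_subgroupOf]; exact hg
      have := hle2 hh
      rw [mem_stabilizer_iff] at this
      exact congrArg Subtype.val this
  · have hne : Nonempty (SubMulAction.ofStabilizer G α) := by
      have : 0 < Nat.card (SubMulAction.ofStabilizer G α) := by rw [hcardX]; exact hpos
      exact (Nat.card_pos_iff.mp this).1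
    obtain ⟨x⟩ := hne
    rw [isPretransitive_iff_orbit_eq_univ x]
    rw [Set.eq_univ_iff_ncard, ← index_stabilizer, key x, hcardX]

theorem derSubgroup_extremal_primePow [FaithfulSMul G Ω] [IsPretransitive G Ω]
    (hΩ : 2 ≤ Nat.card Ω) (hidx : (derSubgroup G Ω).index = Nat.card Ω - 1) :
    IsPrimePow (Nat.card Ω) := by
  have hne : Nonempty Ω := by
    by_contra h
    rw [not_nonempty_iff] at h
    rw [Nat.card_of_isEmpty] at hΩ
    omega
  obtain ⟨α⟩ := hne
  obtain ⟨htriv, htr⟩ := extremal_case hΩ hidx α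
  obtain ⟨hDtr, -⟩ := derSubgroup_key (G := G) Ω
  have hDn := derSubgroup_normal G Ω
  have hstab : stabilizer (derSubgroup G Ω) α = ⊥ := by
    rw [eq_bot_iff]
    intro d hd
    rw [Subgroup.mem_bot]
    apply Subtype.ext
    exact htriv d d.2 (mem_stabilizer_iff.mp hd)
  have hcard : Nat.card (derSubgroup G Ω) = Nat.card Ω := by
    rw [← index_stabilizer_of_transitive (derSubgroup G Ω) α, hstab, Subgroup.index_bot]
  obtain ⟨p, hp, hpd⟩ := Nat.exists_prime_and_dvd (n := Nat.card (derSubgroup G Ω)) (by omega)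
  have := Fact.mk hp
  obtain ⟨d₀, hd₀⟩ := exists_prime_orderOf_dvd_card' p hpd
  have hd₀1 : (d₀ : G) ≠ 1 := by
    intro h
    have : d₀ = 1 := Subtype.ext h
    rw [this, orderOf_one] at hd₀
    exact hp.one_lt.ne hd₀
  have hmove : ∀ d : G, d ∈ derSubgroup G Ω → d ≠ 1 → d • α ≠ α :=
    fun d hd hd1 h => hd1 (htriv d hd h)
  have hconj : ∀ d : G, d ∈ derSubgroup G Ω → d ≠ 1 → ∃ h : G, d = h * d₀ * h⁻¹ := by
    intro d hd hd1
    let x₁ : SubMulAction.ofStabilizer G α := ⟨(d₀ : G) • α, hmove _ d₀.2 hd₀1⟩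
    let x₂ : SubMulAction.ofStabilizer G α := ⟨d • α, hmove d hd hd1⟩
    obtain ⟨h, hh⟩ := exists_smul_eq (stabilizer G α) x₁ x₂
    have hh' : (h : G) • (d₀ : G) • α = d • α := congrArg Subtype.val hh
    have hhα : (h : G)⁻¹ • α = α := by
      have := h.2
      rw [mem_stabilizer_iff] at this
      rw [inv_smul_eq_iff, this]
    refine ⟨h, ?_⟩
    have he : d⁻¹ * ((h : G) * d₀ * (h : G)⁻¹) = 1 := by
      apply htriv
      · exact Subgroup.mul_mem _ (Subgroup.inv_mem _ hd) (hDn.conj_mem _ d₀.2 _)
      · rw [mul_smul, mul_smul, mul_smul, hhα, hh', inv_smul_smul]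
    have := congrArg (fun z => d * z) he
    simpa using this.symm
  have hpg : IsPGroup p (derSubgroup G Ω) := by
    intro d
    refine ⟨1, ?_⟩
    rw [pow_one]
    by_cases hd1 : (d : G) = 1
    · have : d = 1 := Subtype.ext hd1
      rw [this, one_pow]
    · obtain ⟨h, hh⟩ := hconj d d.2 hd1
      apply Subtype.ext
      rw [Subgroup.coe_pow, hh, conj_pow, Subgroup.coe_one]
      have : (d₀ : G) ^ p = 1 := by
        rw [← Subgroup.coe_pow, ← hd₀, pow_orderOf_eq_one, Subgroup.coe_one]
      rw [this]; simp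
  obtain ⟨k, hk⟩ := IsPGroup.iff_card.mp hpg
  have hk0 : 0 < k := by
    rcases Nat.eq_zero_or_pos k with h | h
    · rw [h, pow_zero] at hk; omega
    · exact h
  rw [← hcard, hk]
  exact ⟨p, k, hp.prime, hk0, rfl⟩

end

end Cfsg.Agent.helper18
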