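import Mathlib
import Cfsg.Agent.Lib_helper18_Derangement2

set_option autoImplicit false

namespace Cfsg.Agent.helper18

open MulAction
open scoped Pointwise

/-- If `d` divides the index of the stabilizer of every point of an invariant subset `S`,
then `d` divides the cardinality of `S`. -/
lemma dvd_ncard_of_invariant (H X : Type*) [Group H] [MulAction H X] [Finite X] (S : Set X)
    (hS : ∀ h : H, ∀ x ∈ S, h • x ∈ S) (d : ℕ)
    (hd : ∀ x ∈ S, d ∣ (stabilizer H x).index) : d ∣ S.ncard := by
  let C : SubMulAction H X := ⟨S, fun h x hx => hS h x hx⟩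
  have hcard : Nat.card C = S.ncard := Nat.card_coe_set_eq S
  rw [← hcard]
  apply dvd_card_of_dvd_orbits H C d
  intro x
  rw [Nat.card_coe_set_eq, ← index_stabilizer, SubMulAction.stabilizer_of_subMul]
  exact hd x x.2

section

variable {G Ω : Type*} [Group G] [Finite G] [MulAction G Ω] [Finite Ω]

lemma stabilizer_le_subgroupOf' [IsPretransitive G Ω] (α : Ω) (x : Ω) (hx : x ≠ α) :
    stabilizer (stabilizer G α) x ≤ (derSubgroup G Ω).subgroupOf (stabilizer G α) := by
  obtain ⟨-, hone⟩ := derSubgroup_key (G := G) Ω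
  intro h hh
  rw [Subgroup.mem_subgroupOf]
  by_contra hnot
  have h1 := hone (h : G) hnot
  have hα : (h : G) • α = α := h.2
  have hx' : (h : G) • x = x := mem_stabilizer_iff.mp hh
  have hsub : Subsingleton (fixedBy Ω (h : G)) :=
    (Nat.card_eq_one_iff_unique.mp h1).1
  have : (⟨α, hα⟩ : fixedBy Ω (h : G)) = ⟨x, hx'⟩ := Subsingleton.elim _ _
  exact hx (congrArg Subtype.val this).symm

/-- The index of the derangement subgroup divides `|B| - 1` for every block `B`. -/
theorem derSubgroup_index_dvd_block [IsPretransitive G Ω] (B : Set Ω) (hB : IsBlock G B)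
    (hBne : B.Nonempty) : (derSubgroup G Ω).index ∣ B.ncard - 1 := by
  obtain ⟨α, hα⟩ := hBne
  have hinv : ∀ h : stabilizer G α, ∀ x ∈ B \ {α}, h • x ∈ B \ {α} := by
    intro h x hx
    have hhB : (h : G) • B = B := hB.stabilizer_le hα h.2
    refine ⟨?_, ?_⟩
    · have : (h : G) • x ∈ (h : G) • B := Set.smul_mem_smul_set hx.1
      rw [hhB] at this
      exact this
    · intro hmem
      have h1 : (h : G) • x = α := hmem
      have h2 : (h : G) • α = α := h.2
      have : x = α := smul_left_cancel (h : G) (h1.trans h2.symm)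
      exact hx.2 this
  have := dvd_ncard_of_invariant (stabilizer G α) Ω (B \ {α}) hinv
    ((derSubgroup G Ω).relIndex (stabilizer G α)) (by
      intro x hx
      exact Subgroup.index_dvd_of_le (stabilizer_le_subgroupOf' α x hx.2))
  rw [derSubgroup_index_eq_relIndex α]
  have hc : (B \ {α}).ncard = B.ncard - 1 := Set.ncard_sdiff_singleton_of_mem hα
  rwa [hc] at this

theorem derSubgroup_index_imprimitive [IsPretransitive G Ω] (himp : ¬ IsPreprimitive G Ω) :
    ((derSubgroup G Ω).index : ℝ) ≤ Real.sqrt (Nat.card Ω) - 1 := by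
  have hex : ∃ B : Set Ω, IsBlock G B ∧ ¬ IsTrivialBlock B := by
    by_contra h
    push Not at h
    exact himp ⟨fun {B} hB => h B hB⟩
  obtain ⟨B, hB, hBt⟩ := hex
  unfold IsTrivialBlock at hBt
  push Not at hBt
  obtain ⟨hns, hnu⟩ := hBt
  have hBne : B.Nonempty := hns.nonempty
  have hk2 : 2 ≤ B.ncard := Set.one_lt_ncard_iff_nontrivial.mpr hns
  have hkn : B.ncard < Nat.card Ω := by
    rw [← Set.ncard_univ]
    exact Set.ncard_lt_ncard (Set.ssubset_univ_iff.mpr hnu)
  have hmul := hB.ncard_block_mul_ncard_orbit_eq hBne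
  set k := B.ncard with hk
  set m := (orbit G B).ncard with hm
  set n := Nat.card Ω with hn
  set i := (derSubgroup G Ω).index with hi
  have hn2 : 2 ≤ n := by omega
  have h1 : i ∣ n - 1 := derSubgroup_index_dvd hn2
  have h2 : i ∣ k - 1 := derSubgroup_index_dvd_block B hB hBne
  have hm2 : 2 ≤ m := by
    by_contra h
    push Not at h
    interval_cases m
    · omega
    · omega
  have h3 : i ∣ k * (m - 1) := by
    have : k * (m - 1) = (n - 1) - (k - 1) := by
      rw [Nat.mul_sub, mul_one, hmul]; omega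
    rw [this]
    exact Nat.dvd_sub h1 h2
  have hcop : Nat.Coprime i k := by
    have hg1 : Nat.gcd i k ∣ k - 1 := (Nat.gcd_dvd_left i k).trans h2
    have hg2 : Nat.gcd i k ∣ k := Nat.gcd_dvd_right i k
    have hg3 : Nat.gcd i k ∣ k - (k - 1) := Nat.dvd_sub hg2 hg1
    have : k - (k - 1) = 1 := by omega
    rw [this] at hg3
    exact Nat.dvd_one.mp hg3
  have h4 : i ∣ m - 1 := hcop.dvd_of_dvd_mul_left h3
  have h5 : i ≤ k - 1 := Nat.le_of_dvd (by omega) h2
  have h6 : i ≤ m - 1 := Nat.le_of_dvd (by omega) h4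
  have h7 : (i + 1) * (i + 1) ≤ n := by
    rw [← hmul]
    exact Nat.mul_le_mul (by omega) (by omega)
  have h8 : ((i : ℝ) + 1) ≤ Real.sqrt n := by
    apply Real.le_sqrt_of_sq_le
    have : (((i + 1) * (i + 1) : ℕ) : ℝ) ≤ (n : ℝ) := by exact_mod_cast h7
    push_cast at this
    nlinarith
  linarith

end

end Cfsg.Agent.helper18
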