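import Mathlib
import Cfsg.Agent.Lib_helper18_Derangement

set_option autoImplicit false

namespace Cfsg.Agent.helper18

open MulAction

section orbits

variable {G : Type*} [Group G]

/-- Orbits of `G` on `Y × (G ⧸ H)` correspond to orbits of `H` on `Y`. -/
lemma card_orbits_prod_quotient (H : Subgroup G) (Y : Type*) [MulAction G Y] :
    Nat.card (orbitRel.Quotient G (Y × (G ⧸ H))) = Nat.card (orbitRel.Quotient H Y) := by
  symm
  let f : orbitRel.Quotient H Y → orbitRel.Quotient G (Y × (G ⧸ H)) :=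
    Quotient.map' (fun y => (y, ((1 : G) : G ⧸ H))) (by
      intro y y' hyy'
      obtain ⟨h, hh⟩ := hyy'
      refine ⟨(h : G), ?_⟩
      change ((h : G) • y', (h : G) • ((1 : G) : G ⧸ H)) = (y, ((1 : G) : G ⧸ H))
      refine Prod.ext hh ?_
      change (((h : G) * 1 : G) : G ⧸ H) = ((1 : G) : G ⧸ H)
      rw [mul_one]
      exact QuotientGroup.eq.mpr (by simp))
  apply Nat.card_eq_of_bijective f
  constructor
  · intro q q' hqq'
    induction q using Quotient.inductionOn' with
    | h y =>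
    induction q' using Quotient.inductionOn' with
    | h y' =>
    have h1 : orbitRel G (Y × (G ⧸ H)) (y, ((1 : G) : G ⧸ H)) (y', ((1 : G) : G ⧸ H)) :=
      Quotient.exact' hqq'
    obtain ⟨g, hg⟩ := h1
    have hg1 : g • y' = y := congrArg Prod.fst hg
    have hg2 : g • ((1 : G) : G ⧸ H) = ((1 : G) : G ⧸ H) := congrArg Prod.snd hg
    have hgH : g ∈ H := by
      have : g ∈ stabilizer G ((1 : G) : G ⧸ H) := hg2
      rwa [stabilizer_quotient] at this
    apply Quotient.sound'
    exact ⟨⟨g, hgH⟩, hg1⟩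
  · intro q
    induction q using Quotient.inductionOn' with
    | h p =>
    obtain ⟨y, x⟩ := p
    induction x using QuotientGroup.induction_on with
    | H a =>
    refine ⟨Quotient.mk'' (a⁻¹ • y), ?_⟩
    apply Quotient.sound'
    refine ⟨a⁻¹, ?_⟩
    change (a⁻¹ • y, a⁻¹ • (a : G ⧸ H)) = (a⁻¹ • y, ((1 : G) : G ⧸ H))
    refine Prod.ext rfl ?_
    change ((a⁻¹ * a : G) : G ⧸ H) = ((1 : G) : G ⧸ H)
    rw [inv_mul_cancel]

/-- A 2-transitive group has exactly two orbits on ordered pairs. -/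
lemma card_orbits_prod_of_two_transitive (Ω : Type*) [MulAction G Ω]
    (h2 : IsMultiplyPretransitive G Ω 2) (ω₀ ω₁ : Ω) (hne : ω₀ ≠ ω₁) :
    Nat.card (orbitRel.Quotient G (Ω × Ω)) = 2 := by
  have h2' : ∀ {a b c d : Ω}, a ≠ b → c ≠ d → ∃ g : G, g • a = c ∧ g • b = d :=
    is_two_pretransitive_iff.mp h2
  have htr : IsPretransitive G Ω := isPretransitive_of_is_two_pretransitive
  rw [Nat.card_eq_two_iff]
  refine ⟨Quotient.mk'' (ω₀, ω₀), Quotient.mk'' (ω₀, ω₁), ?_, ?_⟩
  · intro h
    obtain ⟨g, hg⟩ := Quotient.exact' h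
    have h1 : g • ω₀ = ω₀ := congrArg Prod.fst hg
    have h3 : g • ω₁ = ω₀ := congrArg Prod.snd hg
    exact hne (smul_left_cancel g (h1.trans h3.symm))
  · rw [Set.eq_univ_iff_forall]
    intro q
    induction q using Quotient.inductionOn' with
    | h p =>
    obtain ⟨a, b⟩ := p
    by_cases hab : a = b
    · left
      subst hab
      apply Quotient.sound'
      obtain ⟨g, hg⟩ := exists_smul_eq G ω₀ a
      exact ⟨g, by
        change (g • ω₀, g • ω₀) = _
        rw [hg]⟩
    · right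
      apply Quotient.sound'
      obtain ⟨g, hg1, hg2⟩ := h2' hne hab
      exact ⟨g, by
        change (g • ω₀, g • ω₁) = _
        rw [hg1, hg2]⟩

end orbits


section prodfix

variable {G : Type*} [Group G]

/-- Fixed points on a product of two actions. -/
def fixedByProdEquiv₂ {Y X : Type*} [MulAction G Y] [MulAction G X] (g : G) :
    fixedBy (Y × X) g ≃ fixedBy Y g × fixedBy X g where
  toFun p := (⟨p.1.1, congrArg Prod.fst p.2⟩, ⟨p.1.2, congrArg Prod.snd p.2⟩)
  invFun q := ⟨(q.1.1, q.2.1), Prod.ext q.1.2 q.2.2⟩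
  left_inv p := by ext <;> rfl
  right_inv q := by ext <;> rfl

lemma card_fixedBy_prod₂ {Y X : Type*} [MulAction G Y] [MulAction G X] (g : G) :
    Nat.card (fixedBy (Y × X) g) = Nat.card (fixedBy Y g) * Nat.card (fixedBy X g) := by
  rw [Nat.card_congr (fixedByProdEquiv₂ g), Nat.card_prod]

end prodfix

section design

open Matrix

variable {Ω : Type*} [Fintype Ω] [DecidableEq Ω]

omit [DecidableEq Ω] in
lemma allOnes_mul_allOnes :
    (Matrix.of (fun _ _ => (1:ℚ)) : Matrix Ω Ω ℚ) * Matrix.of (fun _ _ => (1:ℚ)) =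
      (Fintype.card Ω : ℚ) • Matrix.of (fun _ _ => (1:ℚ)) := by
  ext i j
  simp [Matrix.mul_apply]

lemma exists_right_inv_aI_add_bJ (a b : ℚ) (ha : 0 < a) (hb : 0 ≤ b) :
    ∃ B : Matrix Ω Ω ℚ,
      (a • (1 : Matrix Ω Ω ℚ) + b • Matrix.of (fun _ _ => (1:ℚ))) * B = 1 := by
  set J : Matrix Ω Ω ℚ := Matrix.of (fun _ _ => (1:ℚ)) with hJ
  have hJJ : J * J = (Fintype.card Ω : ℚ) • J := allOnes_mul_allOnes
  set n : ℚ := (Fintype.card Ω : ℚ) with hn
  have hn0 : 0 ≤ n := by positivity
  have hpos : 0 < a + n * b := by positivity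
  set c : ℚ := b / (a * (a + n * b)) with hc
  refine ⟨a⁻¹ • (1 : Matrix Ω Ω ℚ) - c • J, ?_⟩
  have h1 : a * a⁻¹ = 1 := mul_inv_cancel₀ ha.ne'
  have h2 : b * a⁻¹ - a * c - b * c * n = 0 := by
    rw [hc]
    field_simp
    ring
  calc (a • (1 : Matrix Ω Ω ℚ) + b • J) * (a⁻¹ • (1 : Matrix Ω Ω ℚ) - c • J)
      = (a * a⁻¹) • (1 : Matrix Ω Ω ℚ) + (b * a⁻¹ - a * c) • J - (b * c) • (J * J) := by
        simp only [Matrix.add_mul, Matrix.mul_sub, Matrix.smul_mul, Matrix.mul_smul,
          Matrix.one_mul, Matrix.mul_one]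
        module
    _ = (a * a⁻¹) • (1 : Matrix Ω Ω ℚ) + (b * a⁻¹ - a * c - b * c * n) • J := by
        rw [hJJ]
        module
    _ = 1 := by rw [h1, h2]; simp

variable {G : Type*} [Group G] {X : Type*} [MulAction G Ω] [MulAction G X]
  [Fintype X] [DecidableEq X]

/-- A `2`-transitive group acting on the points of a square incidence structure, preserving
incidence, such that some block contains one point and misses another one, has the same
number of fixed points and fixed blocks for each element. -/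
theorem card_fixedBy_eq_of_invariant_incidence
    (hcard : Fintype.card Ω = Fintype.card X)
    (h2 : IsMultiplyPretransitive G Ω 2)
    (inc : Ω → X → Prop) [∀ ω x, Decidable (inc ω x)]
    (hinv : ∀ (g : G) ω x, inc (g • ω) (g • x) ↔ inc ω x)
    (ω₀ ω₁ : Ω) (x₀ : X) (h0 : inc ω₀ x₀) (h1 : ¬ inc ω₁ x₀) (g : G) :
    Nat.card (fixedBy Ω g) = Nat.card (fixedBy X g) := by
  have h2' : ∀ {a b c d : Ω}, a ≠ b → c ≠ d → ∃ g : G, g • a = c ∧ g • b = d :=
    is_two_pretransitive_iff.mp h2
  have htr : IsPretransitive G Ω := isPretransitive_of_is_two_pretransitive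
  have hne : ω₀ ≠ ω₁ := by
    rintro rfl
    exact h1 h0
  set M : Matrix Ω X ℚ := Matrix.of fun ω x => if inc ω x then 1 else 0 with hM
  have hMapp : ∀ ω x, M ω x = if inc ω x then 1 else 0 := fun _ _ => rfl
  have hsum : ∀ (k : G) (ω ω' : Ω),
      ∑ x, M (k • ω) x * M (k • ω') x = ∑ x, M ω x * M ω' x := by
    intro k ω ω'
    rw [← Equiv.sum_comp (MulAction.toPerm k) (fun x => M (k • ω) x * M (k • ω') x)]
    apply Finset.sum_congr rfl
    intro x _
    simp only [MulAction.toPerm_apply, hMapp, hinv]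
  set r : ℚ := ∑ x, M ω₀ x * M ω₀ x with hr
  set lam : ℚ := ∑ x, M ω₀ x * M ω₁ x with hlam
  have hlam0 : 0 ≤ lam := by
    apply Finset.sum_nonneg
    intro x _
    simp only [hMapp]
    split_ifs <;> norm_num
  have hlt : lam < r := by
    apply Finset.sum_lt_sum
    · intro x _
      simp only [hMapp]
      split_ifs <;> norm_num
    · refine ⟨x₀, Finset.mem_univ _, ?_⟩
      simp only [hMapp, if_pos h0, if_neg h1]
      norm_num
  have hMMt : M * Mᵀ = (r - lam) • (1 : Matrix Ω Ω ℚ) + lam • Matrix.of (fun _ _ => (1:ℚ)) := by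
    ext ω ω'
    rw [Matrix.mul_apply]
    simp only [Matrix.transpose_apply, Matrix.add_apply, Matrix.smul_apply, Matrix.of_apply,
      smul_eq_mul, mul_one]
    by_cases hω : ω = ω'
    · subst hω
      obtain ⟨k, rfl⟩ := exists_smul_eq G ω₀ ω
      rw [hsum, Matrix.one_apply_eq]
      ring
    · obtain ⟨k, rfl, rfl⟩ := h2' hne hω
      rw [hsum, Matrix.one_apply_ne hω]
      ring
  obtain ⟨B, hB⟩ := exists_right_inv_aI_add_bJ (Ω := Ω) (r - lam) lam (by linarith) hlam0
  rw [← hMMt, Matrix.mul_assoc] at hB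
  set N : Matrix X Ω ℚ := Mᵀ * B with hN
  have hNM : N * M = 1 := (Matrix.mul_eq_one_comm_of_card_eq Ω X ℚ hcard).mp hB
  -- permutation matrices
  have hcomm : (Equiv.Perm.permMatrix ℚ (MulAction.toPerm g : Equiv.Perm Ω)) * M =
      M * (Equiv.Perm.permMatrix ℚ (MulAction.toPerm g : Equiv.Perm X)) := by
    unfold Equiv.Perm.permMatrix
    rw [PEquiv.toMatrix_toPEquiv_mul, PEquiv.mul_toMatrix_toPEquiv]
    ext ω x
    simp only [Matrix.submatrix_apply, id, MulAction.toPerm_apply, hMapp,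
      MulAction.toPerm_symm_apply]
    have hiff : inc (g • ω) x ↔ inc ω (g⁻¹ • x) := by
      rw [← hinv g ω (g⁻¹ • x), smul_inv_smul]
    simp only [hiff]
  have htrace : Matrix.trace (Equiv.Perm.permMatrix ℚ (MulAction.toPerm g : Equiv.Perm Ω)) =
      Matrix.trace (Equiv.Perm.permMatrix ℚ (MulAction.toPerm g : Equiv.Perm X)) := by
    calc Matrix.trace (Equiv.Perm.permMatrix ℚ (MulAction.toPerm g : Equiv.Perm Ω))
        = Matrix.trace (Equiv.Perm.permMatrix ℚ (MulAction.toPerm g : Equiv.Perm Ω) * (M * N)) := by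
          rw [hB, Matrix.mul_one]
      _ = Matrix.trace (M * (Equiv.Perm.permMatrix ℚ (MulAction.toPerm g : Equiv.Perm X) * N)) := by
          rw [← Matrix.mul_assoc, hcomm, Matrix.mul_assoc]
      _ = Matrix.trace ((Equiv.Perm.permMatrix ℚ (MulAction.toPerm g : Equiv.Perm X) * N) * M) :=
          Matrix.trace_mul_comm _ _
      _ = Matrix.trace (Equiv.Perm.permMatrix ℚ (MulAction.toPerm g : Equiv.Perm X)) := by
          rw [Matrix.mul_assoc, hNM, Matrix.mul_one]
  rw [Matrix.trace_permutation, Matrix.trace_permutation] at htrace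
  have e1 : Function.fixedPoints (MulAction.toPerm g : Equiv.Perm Ω) = fixedBy Ω g := rfl
  have e2 : Function.fixedPoints (MulAction.toPerm g : Equiv.Perm X) = fixedBy X g := rfl
  rw [e1, e2] at htrace
  have := Nat.cast_injective (R := ℚ) htrace
  simpa [Set.ncard_eq_toFinset_card', Nat.card_eq_fintype_card] using this

end design

end Cfsg.Agent.helper18
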