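import Mathlib
import Cfsg.Agent.Lib_helper23_Hall

set_option autoImplicit false
open Cfsg
open scoped Pointwise

universe u

namespace Cfsg.Agent.helper18.EqOrd

theorem card_map_conj {G : Type*} [Group G] (g : G) (H : Subgroup G) :
    Nat.card (H.map (MulAut.conj g).toMonoidHom) = Nat.card H :=
  Subgroup.card_map_of_injective (fun _ _ h => (MulAut.conj g).injective h)

theorem conj_eq_of {G : Type*} [Group G] [Finite G] {H K : Subgroup G} {g : G}
    (h : ∀ x ∈ H, g * x * g⁻¹ ∈ K) (hc : Nat.card H = Nat.card K) :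
    K = H.map (MulAut.conj g).toMonoidHom := by
  symm
  apply Subgroup.eq_of_le_of_card_ge
  · rintro _ ⟨x, hx, rfl⟩
    exact h x hx
  · rw [card_map_conj, hc]

theorem card_subgroupOf_of_le {G : Type*} [Group G] {A L : Subgroup G} (h : A ≤ L) :
    Nat.card (A.subgroupOf L) = Nat.card A :=
  Nat.card_congr (Subgroup.subgroupOfEquivOfLe h).toEquiv

theorem le_normalizer_of {G : Type*} [Group G] {L M : Subgroup G}
    (h : ∀ x ∈ L, ∀ μ ∈ M, x * μ * x⁻¹ ∈ M) : L ≤ (Subgroup.normalizer (M : Set G)) := by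
  intro x hx
  rw [Subgroup.mem_normalizer_iff]
  intro μ
  refine ⟨h x hx μ, fun hμ => ?_⟩
  have h1 := h x⁻¹ (L.inv_mem hx) _ hμ
  have e : x⁻¹ * (x * μ * x⁻¹) * x⁻¹⁻¹ = μ := by group
  rwa [e] at h1

theorem pow_card_of_mem {C : Type*} [Group C] (A : Subgroup C) {x : C} (hx : x ∈ A) :
    x ^ Nat.card A = 1 := by
  have h1 : (⟨x, hx⟩ : A) ^ Nat.card A = 1 := pow_card_eq_one'
  have h2 := congrArg Subtype.val h1
  rw [Subgroup.coe_pow] at h2
  exact h2

theorem eq_of_card_eq_cyc {C : Type*} [Group C] [Finite C] [IsCyclic C] (A B : Subgroup C)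
    (h : Nat.card A = Nat.card B) : A = B := by
  classical
  haveI := Fintype.ofFinite C
  have key : ∀ A : Subgroup C, ∀ x : C, x ∈ A ↔ x ^ Nat.card A = 1 := by
    intro A x
    refine ⟨fun hx => pow_card_of_mem A hx, fun hx => ?_⟩
    by_contra hxA
    have gen : ∀ S : Finset C, (∀ a, a ∈ S ↔ a ^ Nat.card A = 1) →
        S.card ≤ Nat.card A → False := by
      intro S hS hle
      have hsub : insert x (Finset.univ.filter (fun a : C => a ∈ A)) ⊆ S := by
        intro a ha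
        rw [Finset.mem_insert] at ha
        rw [hS]
        rcases ha with rfl | ha
        · exact hx
        · exact pow_card_of_mem A (Finset.mem_filter.1 ha).2
      have hcard := Finset.card_le_card hsub
      rw [Finset.card_insert_of_notMem (by simp [hxA])] at hcard
      have hA : (Finset.univ.filter (fun a : C => a ∈ A)).card = Nat.card A := by
        rw [← Nat.card_eq_finsetCard]
        exact Nat.card_congr (Equiv.subtypeEquivRight (by simp))
      omega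
    exact gen _ (fun a => by simp)
      (IsCyclic.card_pow_eq_one_le (α := C) (n := Nat.card A) Nat.card_pos)
  ext x
  rw [key A, key B, h]

theorem eq_of_card_eq_of_le_cyclic {G : Type*} [Group G] [Finite G] (C A B : Subgroup G)
    [IsCyclic C] (hA : A ≤ C) (hB : B ≤ C) (h : Nat.card A = Nat.card B) : A = B := by
  have h1 : A.subgroupOf C = B.subgroupOf C :=
    eq_of_card_eq_cyc _ _ (by rw [card_subgroupOf_of_le hA, card_subgroupOf_of_le hB, h])
  calc A = (A.subgroupOf C).map C.subtype := (Subgroup.map_subgroupOf_eq_of_le hA).symm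
    _ = (B.subgroupOf C).map C.subtype := by rw [h1]
    _ = B := Subgroup.map_subgroupOf_eq_of_le hB

theorem exists_le_card_pow {G : Type*} [Group G] [Finite G] (H : Subgroup G) (p n : ℕ)
    [Fact p.Prime] (h : p ^ n ∣ Nat.card H) : ∃ S : Subgroup G, S ≤ H ∧ Nat.card S = p ^ n := by
  obtain ⟨S', hS'⟩ := Sylow.exists_subgroup_card_pow_prime p h
  exact ⟨S'.map H.subtype, Subgroup.map_subtype_le S',
    by rw [Subgroup.card_map_of_injective H.subtype_injective, hS']⟩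

theorem lift_pgroup {G : Type*} [Group G] [Finite G] (N : Subgroup G) [N.Normal] (p : ℕ)
    (hp : p.Prime) (X' : Subgroup (G ⧸ N)) (hX' : IsPGroup p X') :
    ∃ X₁ : Subgroup G, IsPGroup p X₁ ∧ X₁.map (QuotientGroup.mk' N) = X' ∧
      Nat.card X₁ = p ^ ((Nat.card N * Nat.card X').factorization p) := by
  have : Fact p.Prime := ⟨hp⟩
  have hf : Function.Surjective ((QuotientGroup.mk' N).subgroupComap X') :=
    (QuotientGroup.mk' N).subgroupComap_surjective_of_surjective X'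
      (QuotientGroup.mk'_surjective N)
  obtain ⟨P⟩ : Nonempty (Sylow p (X'.comap (QuotientGroup.mk' N))) := inferInstance
  have htop : (P : Subgroup _).map ((QuotientGroup.mk' N).subgroupComap X') = ⊤ := by
    have h1 := (P.mapSurjective hf).is_maximal' (Q := ⊤) (hX'.to_subgroup ⊤) le_top
    rw [h1]
    rfl
  refine ⟨(P : Subgroup _).map (X'.comap (QuotientGroup.mk' N)).subtype, P.2.map _, ?_, ?_⟩
  · ext y
    constructor
    · rintro ⟨x, ⟨z, _, rfl⟩, rfl⟩
      exact z.2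
    · intro hy
      have hy' : (⟨y, hy⟩ : X') ∈
          (P : Subgroup _).map ((QuotientGroup.mk' N).subgroupComap X') := by
        rw [htop]; exact Subgroup.mem_top _
      obtain ⟨z, hz, hzy⟩ := hy'
      refine ⟨z.1, ⟨z, hz, rfl⟩, ?_⟩
      exact congrArg Subtype.val hzy
  · rw [Subgroup.card_map_of_injective (Subgroup.subtype_injective _), P.card_eq_multiplicity,
      helper23.card_comap_mk']

theorem quot_D {G : Type*} [Group G] [Finite G] (r : ℕ) (hr : r.Prime)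
    (hD : ∀ X Y : Subgroup G, IsPGroup r X → IsPGroup r Y → Nat.card X = Nat.card Y →
      ∃ g : G, ∀ x ∈ X, g * x * g⁻¹ ∈ Y)
    (N : Subgroup G) [N.Normal] :
    ∀ X' Y' : Subgroup (G ⧸ N), IsPGroup r X' → IsPGroup r Y' → Nat.card X' = Nat.card Y' →
      ∃ g : G ⧸ N, ∀ x ∈ X', g * x * g⁻¹ ∈ Y' := by
  intro X' Y' hX' hY' hc
  obtain ⟨X₁, hX₁p, hX₁m, hX₁c⟩ := lift_pgroup N r hr X' hX'
  obtain ⟨Y₁, hY₁p, hY₁m, hY₁c⟩ := lift_pgroup N r hr Y' hY'
  obtain ⟨g, hg⟩ := hD X₁ Y₁ hX₁p hY₁p (by rw [hX₁c, hY₁c, hc])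
  refine ⟨QuotientGroup.mk' N g, fun x hx => ?_⟩
  rw [← hX₁m] at hx
  obtain ⟨x₁, hx₁, rfl⟩ := hx
  rw [← hY₁m]
  exact ⟨g * x₁ * g⁻¹, hg x₁ hx₁, by rw [map_mul, map_mul, map_inv]⟩

theorem quot_C {G : Type*} [Group G] [Finite G] (p : ℕ) (hp : p.Prime)
    (hC : ∀ X : Subgroup G, IsPGroup p X → IsCyclic X) (N : Subgroup G) [N.Normal] :
    ∀ X' : Subgroup (G ⧸ N), IsPGroup p X' → IsCyclic X' := by
  intro X' hX'
  obtain ⟨X₁, hX₁p, hX₁m, -⟩ := lift_pgroup N p hp X' hX'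
  haveI := hC X₁ hX₁p
  subst hX₁m
  exact isCyclic_of_surjective ((QuotientGroup.mk' N).subgroupMap X₁)
    ((QuotientGroup.mk' N).subgroupMap_surjective X₁)

theorem hall_exists_in {G : Type u} [Group G] [Finite G] [Group.IsSolvable G] (L : Subgroup G)
    (m n : ℕ) (hL : Nat.card L = m * n) (hmn : m.Coprime n) :
    ∃ T : Subgroup G, T ≤ L ∧ Nat.card T = m := by
  obtain ⟨T', hT'⟩ := helper23.hall_exists (G := L) m n hL hmn
  exact ⟨T'.map L.subtype, Subgroup.map_subtype_le T',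
    by rw [Subgroup.card_map_of_injective L.subtype_injective, hT']⟩

theorem hall_le_conj_in {G : Type u} [Group G] [Finite G] [Group.IsSolvable G] (L : Subgroup G)
    (m n : ℕ) (hL : Nat.card L = m * n) (hmn : m.Coprime n) (T X : Subgroup G) (hT : T ≤ L)
    (hX : X ≤ L) (cT : Nat.card T = m) (cX : (Nat.card X).Coprime n) :
    ∃ g ∈ L, ∀ x ∈ X, g⁻¹ * x * g ∈ T := by
  obtain ⟨g, hg⟩ := helper23.hall_le_conj (G := L) m n hL hmn (T.subgroupOf L) (X.subgroupOf L)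
    (by rw [card_subgroupOf_of_le hT, cT]) (by rw [card_subgroupOf_of_le hX]; exact cX)
  refine ⟨g, g.2, fun x hx => ?_⟩
  have h1 : (⟨x, hX hx⟩ : L) ∈ MulAut.conj g • T.subgroupOf L :=
    hg (Subgroup.mem_subgroupOf.2 hx)
  rw [Cfsg.Agent.helper3.mem_conj_smul_iff] at h1
  exact Subgroup.mem_subgroupOf.1 h1

theorem quot_lift {G : Type*} [Group G] (N : Subgroup G) [N.Normal] (H K : Subgroup G)
    (h : ∃ g' : G ⧸ N, ∀ x ∈ H.map (QuotientGroup.mk' N),
      g' * x * g'⁻¹ ∈ K.map (QuotientGroup.mk' N)) :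
    ∃ g : G, ∀ x ∈ H, g * x * g⁻¹ ∈ K ⊔ N := by
  obtain ⟨g', hg'⟩ := h
  obtain ⟨g, rfl⟩ := QuotientGroup.mk'_surjective N g'
  refine ⟨g, fun x hx => ?_⟩
  apply helper23.mem_sup_of_map_mem N K
  have h1 := hg' _ ⟨x, hx, rfl⟩
  rw [map_mul, map_mul, map_inv]
  exact h1

theorem via_quot {G : Type*} [Group G] [Finite G] (N : Subgroup G) [N.Normal] (H K : Subgroup G)
    (hHK : Nat.card H = Nat.card K) (hNH : N ≤ H) (hNK : N ≤ K)
    (quotN : ∀ H K : Subgroup G,
      Nat.card (H.map (QuotientGroup.mk' N)) = Nat.card (K.map (QuotientGroup.mk' N)) →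
      ∃ g : G, ∀ x ∈ H, g * x * g⁻¹ ∈ K ⊔ N) :
    ∃ g : G, ∀ x ∈ H, g * x * g⁻¹ ∈ K := by
  have h1 := helper23.card_map_mk'_mul N H
  have h2 := helper23.card_map_mk'_mul N K
  rw [inf_eq_left.2 hNH] at h1
  rw [inf_eq_left.2 hNK] at h2
  have hpos : 0 < Nat.card N := Nat.card_pos
  have h3 : Nat.card (H.map (QuotientGroup.mk' N)) = Nat.card (K.map (QuotientGroup.mk' N)) := by
    apply Nat.eq_of_mul_eq_mul_right hpos
    rw [h1, h2, hHK]
  obtain ⟨g, hg⟩ := quotN H K h3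
  refine ⟨g, fun x hx => ?_⟩
  have := hg x hx
  rwa [sup_eq_left.2 hNK] at this

theorem exists_normal_prime_card {G : Type*} [Group G] [Finite G] (q : ℕ) (hq : q.Prime)
    (N : Subgroup G) [hN : N.Normal] (hNp : IsPGroup q N) (hNne : N ≠ ⊥) [IsCyclic N] :
    ∃ Z : Subgroup G, Z.Normal ∧ Nat.card Z = q := by
  have : Fact q.Prime := ⟨hq⟩
  obtain ⟨b, hb⟩ := IsPGroup.iff_card.1 hNp
  have hb0 : b ≠ 0 := by
    have h1 : 1 < Nat.card N := N.one_lt_card_iff_ne_bot.2 hNne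
    rw [hb] at h1
    rintro rfl
    simp at h1
  obtain ⟨Z, hZN, hZ⟩ := exists_le_card_pow N q 1 (by rw [hb, pow_one]; exact dvd_pow_self q hb0)
  rw [pow_one] at hZ
  refine ⟨Z, ⟨fun z hz g => ?_⟩, hZ⟩
  have h1 : Z.map (MulAut.conj g).toMonoidHom ≤ N := by
    rintro _ ⟨x, hx, rfl⟩
    exact hN.conj_mem x (hZN hx) g
  have h2 : Z.map (MulAut.conj g).toMonoidHom = Z :=
    eq_of_card_eq_of_le_cyclic N _ _ h1 hZN (card_map_conj g Z)
  have h3 : g * z * g⁻¹ ∈ Z.map (MulAut.conj g).toMonoidHom := ⟨z, hz, rfl⟩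
  rwa [h2] at h3

theorem caseA {G : Type u} [Group G] [Finite G] [Group.IsSolvable G] (q : ℕ) (hq : q.Prime)
    (hCq : ∀ X : Subgroup G, IsPGroup q X → IsCyclic X)
    (Z : Subgroup G) [Z.Normal] (hZ : Nat.card Z = q)
    (H K : Subgroup G) (hHK : Nat.card H = Nat.card K)
    (quotZ : ∀ H K : Subgroup G,
      Nat.card (H.map (QuotientGroup.mk' Z)) = Nat.card (K.map (QuotientGroup.mk' Z)) →
      ∃ g : G, ∀ x ∈ H, g * x * g⁻¹ ∈ K ⊔ Z) :
    ∃ g : G, ∀ x ∈ H, g * x * g⁻¹ ∈ K := by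
  have : Fact q.Prime := ⟨hq⟩
  have hZp : IsPGroup q Z := IsPGroup.of_card (n := 1) (by rw [hZ, pow_one])
  by_cases hdvd : q ∣ Nat.card H
  · have hle : ∀ H : Subgroup G, q ∣ Nat.card H → Z ≤ H := by
      intro H hdvd
      obtain ⟨S, hSH, hS⟩ := exists_le_card_pow H q 1 (by rw [pow_one]; exact hdvd)
      have hSp : IsPGroup q S := IsPGroup.of_card hS
      have hsup : IsPGroup q (S ⊔ Z : Subgroup G) := hSp.to_sup_of_normal_right hZp
      haveI := hCq _ hsup
      have hSZ : S = Z := eq_of_card_eq_of_le_cyclic (S ⊔ Z) S Z le_sup_left le_sup_right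
        (by rw [hS, hZ, pow_one])
      rw [← hSZ]; exact hSH
    exact via_quot Z H K hHK (hle H hdvd) (hle K (by rw [← hHK]; exact hdvd)) quotZ
  · have hdvdK : ¬ q ∣ Nat.card K := by rw [← hHK]; exact hdvd
    have iH : Z ⊓ H = ⊥ :=
      (Subgroup.disjoint_of_coprime_natCard (H := Z) (K := H)
        (by rw [hZ]; exact hq.coprime_iff_not_dvd.2 hdvd)).eq_bot
    have iK : Z ⊓ K = ⊥ :=
      (Subgroup.disjoint_of_coprime_natCard (H := Z) (K := K)
        (by rw [hZ]; exact hq.coprime_iff_not_dvd.2 hdvdK)).eq_bot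
    have cH : Nat.card (H.map (QuotientGroup.mk' Z)) = Nat.card H := by
      have := helper23.card_map_mk'_mul Z H
      rwa [iH, Subgroup.card_bot, mul_one] at this
    have cK : Nat.card (K.map (QuotientGroup.mk' Z)) = Nat.card K := by
      have := helper23.card_map_mk'_mul Z K
      rwa [iK, Subgroup.card_bot, mul_one] at this
    obtain ⟨g, hg⟩ := quotZ H K (by rw [cH, cK, hHK])
    have cL : Nat.card (K ⊔ Z : Subgroup G) = Nat.card K * q := by
      have := helper23.card_sup_mul_card_inf K Z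
      rwa [iK, Subgroup.card_bot, mul_one, hZ] at this
    have hH'L : H.map (MulAut.conj g).toMonoidHom ≤ K ⊔ Z := by
      rintro _ ⟨x, hx, rfl⟩
      exact hg x hx
    have hcop : (Nat.card K).Coprime q := (hq.coprime_iff_not_dvd.2 hdvdK).symm
    obtain ⟨l, -, hl⟩ := hall_le_conj_in (K ⊔ Z) (Nat.card K) q cL hcop K
      (H.map (MulAut.conj g).toMonoidHom) le_sup_left hH'L rfl
      (by rw [card_map_conj, hHK]; exact hcop)
    refine ⟨l⁻¹ * g, fun x hx => ?_⟩
    have h1 : l⁻¹ * (g * x * g⁻¹) * l ∈ K := hl _ ⟨x, hx, rfl⟩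
    have e : l⁻¹ * g * x * (l⁻¹ * g)⁻¹ = l⁻¹ * (g * x * g⁻¹) * l := by group
    rw [e]; exact h1

theorem B1b {G : Type u} [Group G] [Finite G] [Group.IsSolvable G] (r : ℕ) (hr : r.Prime)
    (M H K : Subgroup G) (hMH : M ≤ H) (hMK : M ≤ K) (hHn : H ≤ (Subgroup.normalizer (M : Set G)))
    (hKn : K ≤ (Subgroup.normalizer (M : Set G))) (hHK : Nat.card H = Nat.card K)
    (hM : Nat.card M = r ^ (Nat.card H).factorization r)
    (ihT : ∀ T : Subgroup G, (Nat.card T).Coprime r → ∀ A B : Subgroup G, A ≤ T → B ≤ T →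
      Nat.card A = Nat.card B → ∃ t ∈ T, ∀ x ∈ A, t * x * t⁻¹ ∈ B) :
    ∃ s : G, ∀ x ∈ H, s * x * s⁻¹ ∈ K := by
  obtain ⟨a, ha⟩ : ∃ a, a = (Nat.card H).factorization r := ⟨_, rfl⟩
  rw [← ha] at hM
  obtain ⟨m, hm⟩ : ∃ m, m = Nat.card H / r ^ a := ⟨_, rfl⟩
  have hHne : Nat.card H ≠ 0 := Nat.card_pos.ne'
  have hHam : Nat.card H = m * r ^ a := by
    rw [hm, ha, mul_comm]; exact (Nat.ordProj_mul_ordCompl_eq_self _ _).symm
  have hcop1 : m.Coprime r := by
    rw [hm, ha]; exact (Nat.coprime_ordCompl hr hHne).symm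
  have hcop : m.Coprime (r ^ a) := hcop1.pow_right a
  obtain ⟨TH, hTH, cTH⟩ := hall_exists_in H m (r ^ a) hHam hcop
  obtain ⟨TK, hTK, cTK⟩ := hall_exists_in K m (r ^ a) (by rw [← hHK]; exact hHam) hcop
  obtain ⟨c, hc⟩ : ∃ c, c = (Nat.card (Subgroup.normalizer (M : Set G))).factorization r := ⟨_, rfl⟩
  obtain ⟨m₁, hm₁⟩ : ∃ m₁, m₁ = Nat.card (Subgroup.normalizer (M : Set G)) / r ^ c := ⟨_, rfl⟩
  have hG₁ne : Nat.card (Subgroup.normalizer (M : Set G)) ≠ 0 := Nat.card_pos.ne'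
  have hG₁cm : Nat.card (Subgroup.normalizer (M : Set G)) = m₁ * r ^ c := by
    rw [hm₁, hc, mul_comm]; exact (Nat.ordProj_mul_ordCompl_eq_self _ _).symm
  have hcop1' : m₁.Coprime r := by
    rw [hm₁, hc]; exact (Nat.coprime_ordCompl hr hG₁ne).symm
  have hcop' : m₁.Coprime (r ^ c) := hcop1'.pow_right c
  obtain ⟨T₁, hT₁, cT₁⟩ := hall_exists_in (Subgroup.normalizer (M : Set G)) m₁ (r ^ c) hG₁cm hcop'
  obtain ⟨x, hxG, hx⟩ := hall_le_conj_in (Subgroup.normalizer (M : Set G)) m₁ (r ^ c) hG₁cm hcop' T₁ TH hT₁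
    (hTH.trans hHn) cT₁ (by rw [cTH]; exact hcop1.pow_right c)
  obtain ⟨y, hyG, hy⟩ := hall_le_conj_in (Subgroup.normalizer (M : Set G)) m₁ (r ^ c) hG₁cm hcop' T₁ TK hT₁
    (hTK.trans hKn) cT₁ (by rw [cTK]; exact hcop1.pow_right c)
  obtain ⟨t, htT, ht⟩ := ihT T₁ (by rw [cT₁]; exact hcop1')
    (TH.map (MulAut.conj x⁻¹).toMonoidHom) (TK.map (MulAut.conj y⁻¹).toMonoidHom)
    (by
      rintro _ ⟨u, hu, rfl⟩
      have := hx u hu
      show x⁻¹ * u * x⁻¹⁻¹ ∈ T₁
      rwa [inv_inv])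
    (by
      rintro _ ⟨u, hu, rfl⟩
      have := hy u hu
      show y⁻¹ * u * y⁻¹⁻¹ ∈ T₁
      rwa [inv_inv])
    (by rw [card_map_conj, card_map_conj, cTH, cTK])
  have hs_mem : y * t * x⁻¹ ∈ (Subgroup.normalizer (M : Set G)) :=
    Subgroup.mul_mem _ (Subgroup.mul_mem _ hyG (hT₁ htT)) (Subgroup.inv_mem _ hxG)
  have hsT : ∀ u ∈ TH, (y * t * x⁻¹) * u * (y * t * x⁻¹)⁻¹ ∈ TK := by
    intro u hu
    obtain ⟨k, hk, hk'⟩ := ht _ ⟨u, hu, rfl⟩
    have hk'' : y⁻¹ * k * y⁻¹⁻¹ = t * (x⁻¹ * u * x⁻¹⁻¹) * t⁻¹ := hk'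
    rw [inv_inv, inv_inv] at hk''
    have e : (y * t * x⁻¹) * u * (y * t * x⁻¹)⁻¹ = y * (t * (x⁻¹ * u * x) * t⁻¹) * y⁻¹ := by
      group
    rw [e, ← hk'']
    have e2 : y * (y⁻¹ * k * y) * y⁻¹ = k := by group
    rw [e2]; exact hk
  obtain ⟨s, hs⟩ : ∃ s, s = y * t * x⁻¹ := ⟨_, rfl⟩
  rw [← hs] at hs_mem hsT
  refine ⟨s, ?_⟩
  have cH'' : Nat.card (H.map (MulAut.conj s).toMonoidHom) = Nat.card H := card_map_conj s H
  have hMH'' : M ≤ H.map (MulAut.conj s).toMonoidHom := by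
    intro μ hμ
    have h1 : s⁻¹ * μ * s⁻¹⁻¹ ∈ M :=
      (Subgroup.mem_normalizer_iff.1 (Subgroup.inv_mem _ hs_mem) μ).1 hμ
    refine ⟨s⁻¹ * μ * s⁻¹⁻¹, hMH h1, ?_⟩
    show s * (s⁻¹ * μ * s⁻¹⁻¹) * s⁻¹ = μ
    group
  have hT'' : TH.map (MulAut.conj s).toMonoidHom ≤ K ⊓ H.map (MulAut.conj s).toMonoidHom := by
    rintro _ ⟨u, hu, rfl⟩
    exact Subgroup.mem_inf.2 ⟨hTK (hsT u hu), ⟨u, hTH hu, rfl⟩⟩
  have hMle : M ≤ K ⊓ H.map (MulAut.conj s).toMonoidHom := le_inf hMK hMH''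
  have d1 : r ^ a ∣ Nat.card (K ⊓ H.map (MulAut.conj s).toMonoidHom : Subgroup G) := by
    rw [← hM]; exact Subgroup.card_dvd_of_le hMle
  have d2 : m ∣ Nat.card (K ⊓ H.map (MulAut.conj s).toMonoidHom : Subgroup G) := by
    have := Subgroup.card_dvd_of_le hT''
    rwa [card_map_conj, cTH] at this
  have d3 : m * r ^ a ∣ Nat.card (K ⊓ H.map (MulAut.conj s).toMonoidHom : Subgroup G) :=
    hcop.mul_dvd_of_dvd_of_dvd d2 d1
  have hle : Nat.card (H.map (MulAut.conj s).toMonoidHom) ≤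
      Nat.card (K ⊓ H.map (MulAut.conj s).toMonoidHom : Subgroup G) := by
    rw [cH'', hHam]; exact Nat.le_of_dvd Nat.card_pos d3
  have heq : K ⊓ H.map (MulAut.conj s).toMonoidHom = H.map (MulAut.conj s).toMonoidHom :=
    Subgroup.eq_of_le_of_card_ge inf_le_right hle
  intro z hz
  have h1 : s * z * s⁻¹ ∈ K ⊓ H.map (MulAut.conj s).toMonoidHom := by
    rw [heq]; exact ⟨z, hz, rfl⟩
  exact (Subgroup.mem_inf.1 h1).1

theorem caseB {G : Type u} [Group G] [Finite G] [Group.IsSolvable G] (r : ℕ) (hr : r.Prime)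
    (hD : ∀ X Y : Subgroup G, IsPGroup r X → IsPGroup r Y → Nat.card X = Nat.card Y →
      ∃ g : G, ∀ x ∈ X, g * x * g⁻¹ ∈ Y)
    (Q : Subgroup G) [hQn : Q.Normal] (hQp : IsPGroup r Q)
    (H K : Subgroup G) (hHK : Nat.card H = Nat.card K)
    (quotQ : ∀ H K : Subgroup G,
      Nat.card (H.map (QuotientGroup.mk' Q)) = Nat.card (K.map (QuotientGroup.mk' Q)) →
      ∃ g : G, ∀ x ∈ H, g * x * g⁻¹ ∈ K ⊔ Q)
    (ihT : ∀ T : Subgroup G, (Nat.card T).Coprime r → ∀ A B : Subgroup G, A ≤ T → B ≤ T →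
      Nat.card A = Nat.card B → ∃ t ∈ T, ∀ x ∈ A, t * x * t⁻¹ ∈ B) :
    ∃ g : G, ∀ x ∈ H, g * x * g⁻¹ ∈ K := by
  have : Fact r.Prime := ⟨hr⟩
  obtain ⟨b, hb⟩ := IsPGroup.iff_card.1 hQp
  have F : ∀ S : Subgroup G, IsPGroup r S → Nat.card S ≤ Nat.card Q → S ≤ Q := by
    intro S hS hle
    obtain ⟨a, ha⟩ := IsPGroup.iff_card.1 hS
    have hab : a ≤ b := by
      rw [ha, hb] at hle
      exact (Nat.pow_le_pow_iff_right hr.one_lt).1 hle
    obtain ⟨S', hS'Q, hS'⟩ := exists_le_card_pow Q r a (by rw [hb]; exact pow_dvd_pow r hab)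
    obtain ⟨g, hg⟩ := hD S S' hS (IsPGroup.of_card hS') (by rw [ha, hS'])
    intro x hx
    have h1 : g * x * g⁻¹ ∈ Q := hS'Q (hg x hx)
    have h2 := hQn.conj_mem _ h1 g⁻¹
    have e : g⁻¹ * (g * x * g⁻¹) * g⁻¹⁻¹ = x := by group
    rwa [e] at h2
  by_cases hdvd : Nat.card Q ∣ Nat.card H
  · have hQle : ∀ H : Subgroup G, Nat.card Q ∣ Nat.card H → Q ≤ H := by
      intro H hdvd
      obtain ⟨S, hSH, hS⟩ := exists_le_card_pow H r b (by rw [← hb]; exact hdvd)
      have hSQ : S ≤ Q := F S (IsPGroup.of_card hS) (by rw [hS, hb])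
      have hSeq : S = Q := Subgroup.eq_of_le_of_card_ge hSQ (by rw [hS, hb])
      rw [← hSeq]; exact hSH
    exact via_quot Q H K hHK (hQle H hdvd) (hQle K (by rw [← hHK]; exact hdvd)) quotQ
  · have B1a : ∀ H : Subgroup G, ¬ Nat.card Q ∣ Nat.card H →
        Nat.card (H ⊓ Q : Subgroup G) = r ^ (Nat.card H).factorization r := by
      intro H hnd
      obtain ⟨a, ha⟩ : ∃ a, a = (Nat.card H).factorization r := ⟨_, rfl⟩
      rw [← ha]
      have hHne : Nat.card H ≠ 0 := Nat.card_pos.ne'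
      have hra : r ^ a ∣ Nat.card H := by rw [ha]; exact Nat.ordProj_dvd _ _
      have hab : a < b := by
        by_contra hcon
        push Not at hcon
        apply hnd
        rw [hb]
        exact (pow_dvd_pow r hcon).trans hra
      obtain ⟨S, hSH, hS⟩ := exists_le_card_pow H r a hra
      have hSQ : S ≤ Q := F S (IsPGroup.of_card hS)
        (by rw [hS, hb]; exact Nat.pow_le_pow_right hr.pos hab.le)
      have hS_le : S ≤ H ⊓ Q := le_inf hSH hSQ
      obtain ⟨c, hc⟩ := IsPGroup.iff_card.1 (hQp.to_le (inf_le_right : H ⊓ Q ≤ Q))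
      have h1 : r ^ c ∣ Nat.card H := by
        rw [← hc]; exact Subgroup.card_dvd_of_le (inf_le_left : H ⊓ Q ≤ H)
      have hca : c ≤ a := by rw [ha]; exact (hr.pow_dvd_iff_le_factorization hHne).1 h1
      have h2 : r ^ a ∣ r ^ c := by rw [← hS, ← hc]; exact Subgroup.card_dvd_of_le hS_le
      have hac : a ≤ c := (Nat.pow_dvd_pow_iff_le_right hr.one_lt).1 h2
      rw [hc, le_antisymm hca hac]
    have hdvdK : ¬ Nat.card Q ∣ Nat.card K := by rw [← hHK]; exact hdvd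
    have cHQ := B1a H hdvd
    have cKQ := B1a K hdvdK
    have ceq : Nat.card (H ⊓ Q : Subgroup G) = Nat.card (K ⊓ Q : Subgroup G) := by
      rw [cHQ, cKQ, hHK]
    obtain ⟨g, hg⟩ := hD (H ⊓ Q) (K ⊓ Q) (hQp.to_le inf_le_right) (hQp.to_le inf_le_right) ceq
    have hM : K ⊓ Q = (H ⊓ Q).map (MulAut.conj g).toMonoidHom := conj_eq_of hg ceq
    have cH' : Nat.card (H.map (MulAut.conj g).toMonoidHom) = Nat.card H := card_map_conj g H
    have hMH' : K ⊓ Q ≤ H.map (MulAut.conj g).toMonoidHom := by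
      rw [hM]; exact Subgroup.map_mono inf_le_left
    have hH'Q : H.map (MulAut.conj g).toMonoidHom ⊓ Q = K ⊓ Q := by
      symm
      apply Subgroup.eq_of_le_of_card_ge (le_inf hMH' inf_le_right)
      rw [B1a (H.map (MulAut.conj g).toMonoidHom) (by rw [cH']; exact hdvd), cH', cKQ, hHK]
    have hnorm : ∀ L : Subgroup G, L ⊓ Q = K ⊓ Q → L ≤ (Subgroup.normalizer ((K ⊓ Q : Subgroup G) : Set G)) := by
      intro L hL
      apply le_normalizer_of
      intro x hx μ hμ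
      rw [← hL] at hμ ⊢
      exact Subgroup.mem_inf.2 ⟨L.mul_mem (L.mul_mem hx (Subgroup.mem_inf.1 hμ).1) (L.inv_mem hx),
        hQn.conj_mem μ (Subgroup.mem_inf.1 hμ).2 x⟩
    obtain ⟨s, hs⟩ := B1b r hr (K ⊓ Q) (H.map (MulAut.conj g).toMonoidHom) K hMH' inf_le_left
      (hnorm _ hH'Q) (hnorm K rfl) (by rw [cH', hHK]) (by rw [cKQ, cH', hHK]) ihT
    refine ⟨s * g, fun x hx => ?_⟩
    have h1 : s * (g * x * g⁻¹) * s⁻¹ ∈ K := hs _ ⟨x, hx, rfl⟩
    have e : s * g * x * (s * g)⁻¹ = s * (g * x * g⁻¹) * s⁻¹ := by group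
    rw [e]; exact h1

theorem main : ∀ (n : ℕ) (G : Type u) [Group G] [Finite G] [Group.IsSolvable G],
    Nat.card G = n → ∀ r : ℕ,
    (r.Prime → ∀ X Y : Subgroup G, IsPGroup r X → IsPGroup r Y → Nat.card X = Nat.card Y →
        ∃ g : G, ∀ x ∈ X, g * x * g⁻¹ ∈ Y) →
    (∀ p : ℕ, p.Prime → p ≠ r → ∀ X : Subgroup G, IsPGroup p X → IsCyclic X) →
    ∀ H K : Subgroup G, Nat.card H = Nat.card K → ∃ g : G, ∀ x ∈ H, g * x * g⁻¹ ∈ K := by
  intro n
  induction n using Nat.strong_induction_on with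
  | _ n ih =>
    intro G _ _ _ hn r hD hC H K hHK
    by_cases hG : Subsingleton G
    · refine ⟨1, fun x _ => ?_⟩
      have h1 : 1 * x * (1 : G)⁻¹ = 1 := Subsingleton.elim _ _
      rw [h1]; exact K.one_mem
    haveI : Nontrivial G := not_subsingleton_iff_nontrivial.1 hG
    have quot : ∀ (N : Subgroup G) [N.Normal], N ≠ ⊥ → ∀ H K : Subgroup G,
        Nat.card (H.map (QuotientGroup.mk' N)) = Nat.card (K.map (QuotientGroup.mk' N)) →
        ∃ g : G, ∀ x ∈ H, g * x * g⁻¹ ∈ K ⊔ N := by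
      intro N _ hNne H K hc
      have hlt : Nat.card (G ⧸ N) < n := by
        rw [← hn, ← Subgroup.index_eq_card, ← N.index_mul_card]
        have h1 : 1 < Nat.card N := N.one_lt_card_iff_ne_bot.2 hNne
        have hpos : 0 < N.index := Nat.pos_of_ne_zero Subgroup.index_ne_zero_of_finite
        nlinarith
      exact quot_lift N H K (ih _ hlt (G ⧸ N) rfl r (fun hr => quot_D r hr (hD hr) N)
        (fun p hp hpr => quot_C p hp (hC p hp hpr) N) _ _ hc)
    by_cases hB : r.Prime ∧ ∃ Q : Subgroup G, Q.Normal ∧ IsPGroup r Q ∧ Q ≠ ⊥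
    · obtain ⟨hr, Q, hQn, hQp, hQne⟩ := hB
      haveI := hQn
      have : Fact r.Prime := ⟨hr⟩
      have hrG : r ∣ Nat.card G := by
        obtain ⟨b, hb⟩ := IsPGroup.iff_card.1 hQp
        have hb0 : b ≠ 0 := by
          have h1 : 1 < Nat.card Q := Q.one_lt_card_iff_ne_bot.2 hQne
          rw [hb] at h1
          rintro rfl
          simp at h1
        have h2 : r ∣ Nat.card Q := by rw [hb]; exact dvd_pow_self r hb0
        exact h2.trans (Subgroup.card_subgroup_dvd_card Q)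
      have ihT : ∀ T : Subgroup G, (Nat.card T).Coprime r → ∀ A B : Subgroup G, A ≤ T → B ≤ T →
          Nat.card A = Nat.card B → ∃ t ∈ T, ∀ x ∈ A, t * x * t⁻¹ ∈ B := by
        intro T hT A B hA hB hAB
        have hlt : Nat.card T < n := by
          have h1 : Nat.card T ∣ Nat.card G := Subgroup.card_subgroup_dvd_card T
          have h2 : Nat.card T ≤ Nat.card G := Nat.le_of_dvd Nat.card_pos h1
          rcases h2.lt_or_eq with h3 | h3
          · rw [← hn]; exact h3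
          · exfalso
            rw [h3] at hT
            exact hr.ne_one (Nat.Coprime.eq_one_of_dvd hT.symm hrG)
        obtain ⟨t, ht⟩ := ih _ hlt (↥T) rfl 1 (fun h1 => absurd h1 Nat.not_prime_one)
          (fun p hp _ X hX => by
            have : Fact p.Prime := ⟨hp⟩
            by_cases hpr : p = r
            · subst hpr
              obtain ⟨k, hk⟩ := IsPGroup.iff_card.1 hX
              have h1 : Nat.card X ∣ Nat.card T := Subgroup.card_subgroup_dvd_card X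
              have h3 : (Nat.card X).Coprime (Nat.card T) := by
                rw [hk]; exact (hT.pow_right k).symm
              have h2 : Nat.card X = 1 := Nat.Coprime.eq_one_of_dvd h3 h1
              haveI : Subsingleton X := (Nat.card_eq_one_iff_unique.1 h2).1
              exact isCyclic_of_subsingleton
            · haveI := hC p hp hpr (X.map T.subtype) (hX.map T.subtype)
              exact isCyclic_of_surjective (X.equivMapOfInjective T.subtype T.subtype_injective).symm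
                (MulEquiv.surjective _))
          (A.subgroupOf T) (B.subgroupOf T)
          (by rw [card_subgroupOf_of_le hA, card_subgroupOf_of_le hB, hAB])
        refine ⟨t, t.2, fun x hx => ?_⟩
        have h1 := ht ⟨x, hA hx⟩ (Subgroup.mem_subgroupOf.2 hx)
        exact Subgroup.mem_subgroupOf.1 h1
      exact caseB r hr (hD hr) Q hQp H K hHK (quot Q hQne) ihT
    · obtain ⟨q, hq, N, hNn, hNne, hNp, -⟩ := helper23.exists_abelian_normal_pgroup G
      have hqr : q ≠ r := by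
        rintro rfl
        exact hB ⟨hq, N, hNn, hNp, hNne⟩
      haveI := hNn
      haveI : IsCyclic N := hC q hq hqr N hNp
      obtain ⟨Z, hZn, hZ⟩ := exists_normal_prime_card q hq N hNp hNne
      haveI := hZn
      have hZne : Z ≠ ⊥ := by
        intro h
        rw [h, Subgroup.card_bot] at hZ
        exact hq.ne_one hZ.symm
      exact caseA q hq (hC q hq hqr) Z hZ H K hHK (quot Z hZne)

end Cfsg.Agent.helper18.EqOrd
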