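import Mathlib

set_option autoImplicit false

namespace Cfsg.Agent.helper18.HalfTrans

open MulAction
open scoped Pointwise

lemma card_orbit_mul_card_stab (G : Type*) {X : Type*} [Group G] [MulAction G X] (b : X) :
    Nat.card (orbit G b) * Nat.card (stabilizer G b) = Nat.card G := by
  rw [← Nat.card_prod, Nat.card_congr (orbitProdStabilizerEquivGroup G b)]

section eq_orbits

variable {S T : Type*} [Group S] [MulAction S T]

lemma dvd_card_of_orbits_eq [Finite T] (m : ℕ) (h : ∀ t : T, Nat.card (orbit S t) = m) :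
    m ∣ Nat.card T := by
  classical
  haveI : Fintype (orbitRel.Quotient S T) := Fintype.ofFinite _
  rw [Nat.card_congr (selfEquivSigmaOrbits S T), Nat.card_sigma]
  apply Finset.dvd_sum
  intro ω _
  rw [h]

end eq_orbits

section main

variable {A N : Type*} [Group A] [Group N] [Finite A] [Finite N] [MulDistribMulAction A N]

/-- restriction of the action of a subgroup to an invariant set -/
def subAct (S : Subgroup A) (T : Set N) (hT : ∀ h ∈ S, ∀ y ∈ T, h • y ∈ T) :
    SubMulAction ↥S N where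
  carrier := T
  smul_mem' := fun q x hx => hT q q.2 x hx

lemma card_subAct (S : Subgroup A) (T : Set N) (hT : ∀ h ∈ S, ∀ y ∈ T, h • y ∈ T) :
    Nat.card ↥(subAct S T hT) = T.ncard := by
  rw [← Nat.card_coe_set_eq]
  exact Nat.card_congr (Equiv.subtypeEquivRight (fun x => Iff.rfl))

/-- the key counting lemma -/
lemma key {c : ℕ} (hc0 : 0 < c) (hc : ∀ x : N, x ≠ 1 → Nat.card (stabilizer A x) = c)
    (hcop : ∀ m : ℕ, m * c ∣ Nat.card A → m ∣ Nat.card N → m = 1)
    (S : Subgroup A) (T : Set N) (hT1 : ∀ y ∈ T, y ≠ 1)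
    (hST : ∀ h ∈ S, ∀ y ∈ T, h • y ∈ T) (hDS : ∀ y ∈ T, stabilizer A y ≤ S)
    (hTN : T.ncard ∣ Nat.card N) : ∀ y ∈ T, S = stabilizer A y := by
  have hstab : ∀ t : ↥(subAct S T hST), Nat.card (stabilizer ↥S t) = c := by
    intro t
    have e : stabilizer ↥S t = (stabilizer A (t : N)).subgroupOf S := by
      ext s
      rw [mem_stabilizer_iff, Subgroup.mem_subgroupOf, mem_stabilizer_iff]
      constructor
      · intro h
        exact congrArg Subtype.val h
      · intro h
        exact Subtype.ext h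
    rw [e, Nat.card_congr (Subgroup.subgroupOfEquivOfLe (hDS t t.2)).toEquiv]
    exact hc t (hT1 t t.2)
  have horb : ∀ t : ↥(subAct S T hST), Nat.card (orbit ↥S t) = Nat.card ↥S / c := by
    intro t
    have := card_orbit_mul_card_stab ↥S t
    rw [hstab t] at this
    rw [← this, Nat.mul_div_cancel _ hc0]
  have hdvd := dvd_card_of_orbits_eq (S := ↥S) (T := ↥(subAct S T hST)) _ horb
  rw [card_subAct] at hdvd
  intro y hy
  have hSc : Nat.card ↥S / c * c = Nat.card ↥S := by
    have := card_orbit_mul_card_stab ↥S (⟨y, hy⟩ : ↥(subAct S T hST))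
    rw [hstab, horb] at this
    exact this
  have hm1 := hcop (Nat.card ↥S / c) (by rw [hSc]; exact Subgroup.card_subgroup_dvd_card S)
    (hdvd.trans hTN)
  rw [hm1, one_mul] at hSc
  symm
  apply Subgroup.eq_of_le_of_card_ge (hDS y hy)
  rw [hc y (hT1 y hy), hSc]

/-- **Isaacs–Passman**: a half-transitive, non-semiregular group of automorphisms. -/
theorem isaacs_passman [FaithfulSMul A N] {c : ℕ}
    (hc : ∀ x : N, x ≠ 1 → Nat.card (stabilizer A x) = c)
    (hns : ∃ x : N, x ≠ 1 ∧ stabilizer A x ≠ ⊥) :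
    (∃ p : ℕ, p.Prime ∧ (∀ x y : N, x * y = y * x) ∧ ∀ x : N, x ^ p = 1) ∧
    (∀ W : Subgroup N, (∀ h : A, ∀ w ∈ W, h • w ∈ W) → W = ⊥ ∨ W = ⊤) := by
  classical
  obtain ⟨x₁, hx₁, hDx₁⟩ := hns
  have hc0 : 0 < c := by
    rw [← hc x₁ hx₁]; exact Nat.card_pos
  -- orbits on N∖{1} all have size r := |A| / c
  have hAc : Nat.card A / c * c = Nat.card A := by
    have := card_orbit_mul_card_stab A x₁
    rw [hc x₁ hx₁] at this
    rw [← this, Nat.mul_div_cancel _ hc0]
  have hr : Nat.card A / c ∣ Nat.card N - 1 := by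
    have hT : ∀ h ∈ (⊤ : Subgroup A), ∀ y ∈ {y : N | y ≠ 1}, h • y ∈ {y : N | y ≠ 1} := by
      intro h _ y hy e
      apply hy
      have : y = h⁻¹ • (h • y) := (inv_smul_smul h y).symm
      rw [this, e, smul_one]
    have horb : ∀ t : ↥(subAct (⊤ : Subgroup A) {y : N | y ≠ 1} hT),
        Nat.card (orbit ↥(⊤ : Subgroup A) t) = Nat.card A / c := by
      intro t
      have h1 := card_orbit_mul_card_stab ↥(⊤ : Subgroup A) t
      have e : stabilizer ↥(⊤ : Subgroup A) t = (stabilizer A (t : N)).subgroupOf ⊤ := by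
        ext s
        rw [mem_stabilizer_iff, Subgroup.mem_subgroupOf, mem_stabilizer_iff]
        constructor
        · intro h
          exact congrArg Subtype.val h
        · intro h
          exact Subtype.ext h
      rw [e, Nat.card_congr (Subgroup.subgroupOfEquivOfLe (le_top)).toEquiv, hc _ t.2,
        Nat.card_congr (Subgroup.topEquiv (G := A)).toEquiv] at h1
      rw [← h1, Nat.mul_div_cancel _ hc0]
    have := dvd_card_of_orbits_eq (S := ↥(⊤ : Subgroup A)) _ horb
    rw [card_subAct] at this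
    have e2 : ({y : N | y ≠ 1} : Set N).ncard = Nat.card N - 1 := by
      have : ({y : N | y ≠ 1} : Set N) = ({1} : Set N)ᶜ := by
        ext y; simp
      rw [this, Set.ncard_compl, Set.ncard_singleton]
    rwa [e2] at this
  have hcop : ∀ m : ℕ, m * c ∣ Nat.card A → m ∣ Nat.card N → m = 1 := by
    intro m h1 h2
    have h3 : m ∣ Nat.card A / c := by
      rw [← hAc] at h1
      exact Nat.dvd_of_mul_dvd_mul_right hc0 h1
    have h4 : m ∣ Nat.card N - 1 := h3.trans hr
    have hpos : 0 < Nat.card N := Nat.card_pos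
    have h5 : m ∣ Nat.card N - (Nat.card N - 1) := Nat.dvd_sub h2 h4
    have h6 : Nat.card N - (Nat.card N - 1) = 1 := by omega
    rw [h6] at h5
    exact Nat.dvd_one.mp h5
  -- notation
  set D : N → Subgroup A := fun x => stabilizer A x with hD
  have hDeq : ∀ x y : N, x ≠ 1 → y ≠ 1 → D x ≤ D y → D x = D y := by
    intro x y hx hy hle
    apply Subgroup.eq_of_le_of_card_ge hle
    rw [hc x hx, hc y hy]
  -- (F1) D is constant on N-conjugacy classes
  have F1 : ∀ x y : N, x ≠ 1 → D (y * x * y⁻¹) = D x := by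
    intro x y hx
    set T : Set N := {z | ∃ u : N, z = u * x * u⁻¹} with hTdef
    set S : Subgroup A := stabilizer A T with hSdef
    have hT1 : ∀ z ∈ T, z ≠ 1 := by
      rintro z ⟨u, rfl⟩ e
      apply hx
      have : x = u⁻¹ * (u * x * u⁻¹) * u := by group
      rw [this, e]; group
    have hsmulT : ∀ h : A, ∀ z ∈ T, h • z ∈ {z | ∃ u : N, z = u * (h • x) * u⁻¹} := by
      rintro h z ⟨u, rfl⟩
      exact ⟨h • u, by rw [smul_mul', smul_mul', smul_inv']⟩
    have hST : ∀ h ∈ S, ∀ z ∈ T, h • z ∈ T := by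
      intro h hh z hz
      rw [hSdef, mem_stabilizer_iff] at hh
      rw [← hh]
      exact Set.smul_mem_smul_set hz
    have hDS : ∀ z ∈ T, stabilizer A z ≤ S := by
      rintro z ⟨u, rfl⟩ h hh
      rw [mem_stabilizer_iff] at hh
      rw [hSdef, mem_stabilizer_iff]
      -- h • T = T since h fixes a point of T
      have hsub : ∀ k : A, k • (u * x * u⁻¹) = u * x * u⁻¹ → k • T ⊆ T := by
        intro k hk w hw
        obtain ⟨z, ⟨v, rfl⟩, rfl⟩ := hw
        change k • (v * x * v⁻¹) ∈ T
        -- v x v⁻¹ = (v u⁻¹) (u x u⁻¹) (v u⁻¹)⁻¹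
        have e1 : v * x * v⁻¹ = (v * u⁻¹) * (u * x * u⁻¹) * (v * u⁻¹)⁻¹ := by group
        rw [e1, smul_mul', smul_mul', smul_inv', hk]
        exact ⟨(k • (v * u⁻¹)) * u, by group⟩
      apply Set.Subset.antisymm (hsub h hh)
      have hh' : h⁻¹ • (u * x * u⁻¹) = u * x * u⁻¹ := by rw [inv_smul_eq_iff, hh]
      have := hsub h⁻¹ hh'
      intro w hw
      have h2 := this (Set.smul_mem_smul_set hw)
      rw [Set.mem_smul_set_iff_inv_smul_mem]
      exact h2
    have hTN : T.ncard ∣ Nat.card N := by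
      have e : T = orbit (ConjAct N) x := by
        ext z
        rw [hTdef, Set.mem_setOf_eq, mem_orbit_iff]
        constructor
        · rintro ⟨u, rfl⟩
          exact ⟨ConjAct.toConjAct u, by rw [ConjAct.smul_def]; simp⟩
        · rintro ⟨u, rfl⟩
          exact ⟨ConjAct.ofConjAct u, by rw [ConjAct.smul_def]⟩
      rw [e, ← Nat.card_coe_set_eq]
      have := card_orbit_mul_card_stab (ConjAct N) x
      have h2 : Nat.card (ConjAct N) = Nat.card N := rfl
      rw [h2] at this
      exact Dvd.intro _ this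
    have hkey := key hc0 hc hcop S T hT1 hST hDS hTN
    have hxT : x ∈ T := ⟨1, by group⟩
    have hyT : y * x * y⁻¹ ∈ T := ⟨y, rfl⟩
    rw [hD]
    change stabilizer A (y * x * y⁻¹) = stabilizer A x
    rw [← hkey x hxT, ← hkey _ hyT]
  have hfix : ∀ x : N, ∀ h ∈ D x, h • x = x := fun x h hh => mem_stabilizer_iff.mp hh
  have hinv : ∀ x : N, D x⁻¹ = D x := by
    intro x
    ext h
    rw [hD]
    change h ∈ stabilizer A x⁻¹ ↔ h ∈ stabilizer A x
    rw [mem_stabilizer_iff, mem_stabilizer_iff, smul_inv', inv_inj]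
  -- D x fixes y ⇒ D x = D y
  have hDfix : ∀ x y : N, x ≠ 1 → y ≠ 1 → (∀ h ∈ D x, h • y = y) → D x = D y := by
    intro x y hx hy h
    exact hDeq x y hx hy (fun k hk => mem_stabilizer_iff.mpr (h k hk))
  -- (F2) elements with different stabilisers commute
  have F2 : ∀ x y : N, x ≠ 1 → y ≠ 1 → D x ≠ D y → x * y = y * x := by
    intro x y hx hy hne
    by_contra hcomm
    set z := x * y * x⁻¹ * y⁻¹ with hz
    have hz1 : z ≠ 1 := by
      intro e
      apply hcomm
      have : x * y = z * (y * x) := by rw [hz]; group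
      rw [this, e, one_mul]
    have e1 : D y = D z := by
      apply hDfix y z hy hz1
      intro h hh
      have h1 : h • (x * y * x⁻¹) = x * y * x⁻¹ := by
        have : h ∈ D (x * y * x⁻¹) := by rw [F1 y x hy]; exact hh
        exact hfix _ h this
      have h2 : h • y⁻¹ = y⁻¹ := by rw [smul_inv', hfix y h hh]
      rw [hz, smul_mul', h1, h2]
    have e2 : D x = D z := by
      apply hDfix x z hx hz1
      intro h hh
      have h1 : h • (y * x⁻¹ * y⁻¹) = y * x⁻¹ * y⁻¹ := by
        have hxi : x⁻¹ ≠ 1 := inv_ne_one.mpr hx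
        have : h ∈ D (y * x⁻¹ * y⁻¹) := by rw [F1 x⁻¹ y hxi, hinv]; exact hh
        exact hfix _ h this
      have e3 : z = x * (y * x⁻¹ * y⁻¹) := by rw [hz]; group
      rw [e3, smul_mul', h1, hfix x h hh]
    exact hne (e2.trans e1.symm)
  -- (F3) two different stabilisers
  have F3 : ∀ x : N, x ≠ 1 → ∃ y : N, y ≠ 1 ∧ D y ≠ D x := by
    intro x hx
    by_contra hcon
    push Not at hcon
    -- all stabilisers equal D x₁; then D x₁ acts trivially
    apply hDx₁
    rw [Subgroup.eq_bot_iff_forall]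
    intro h hh
    apply eq_of_smul_eq_smul (α := N)
    intro y
    rw [one_smul]
    by_cases hy : y = 1
    · rw [hy, smul_one]
    · have : D y = D x₁ := (hcon y hy).trans (hcon x₁ hx₁).symm
      exact hfix y h (by rw [this]; exact hh)
  -- product lemma: D (x * y) differs from D x when D x ≠ D y
  have hprod : ∀ x y : N, x ≠ 1 → y ≠ 1 → D x ≠ D y → x * y ≠ 1 ∧ D (x * y) ≠ D x := by
    intro x y hx hy hne
    have h1 : x * y ≠ 1 := by
      intro e
      have : x = y⁻¹ := eq_inv_of_mul_eq_one_left e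
      apply hne
      rw [this, hinv]
    refine ⟨h1, fun e => hne ?_⟩
    apply hDfix x y hx hy
    intro h hh
    have h2 : h • (x * y) = x * y := hfix _ h (by rw [e]; exact hh)
    rw [smul_mul', hfix x h hh] at h2
    exact mul_left_cancel h2
  -- (F4) N is abelian
  have F4 : ∀ x x' : N, x * x' = x' * x := by
    intro x x'
    by_cases hx : x = 1
    · rw [hx, one_mul, mul_one]
    by_cases hx' : x' = 1
    · rw [hx', one_mul, mul_one]
    by_cases hne : D x = D x'
    · obtain ⟨y, hy, hyx⟩ := F3 x hx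
      have hyx' : D x' ≠ D y := fun e => hyx (e.symm.trans hne.symm)
      obtain ⟨h1, h2⟩ := hprod x' y hx' hy hyx'
      have c1 : x * (x' * y) = (x' * y) * x :=
        F2 x (x' * y) hx h1 (fun e => h2 (e.symm.trans hne))
      have c2 : x * y = y * x := F2 x y hx hy (Ne.symm hyx)
      have : x * x' * y = x' * x * y := by
        calc x * x' * y = x * (x' * y) := by group
          _ = x' * y * x := c1
          _ = x' * (y * x) := by group
          _ = x' * (x * y) := by rw [c2]
          _ = x' * x * y := by group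
      exact mul_right_cancel this
    · exact F2 x x' hx hx' hne
  -- (F5) equal orders
  have F5a : ∀ x y : N, x ≠ 1 → y ≠ 1 → D x ≠ D y → y ^ orderOf x = 1 := by
    intro x y hx hy hne
    by_contra hya
    have e1 : D y = D (y ^ orderOf x) := by
      apply hDfix y _ hy hya
      intro h hh
      rw [smul_pow', hfix y h hh]
    obtain ⟨h1, h2⟩ := hprod y x hy hx (Ne.symm hne)
    have hpow : (y * x) ^ orderOf x = y ^ orderOf x := by
      have hc' : Commute y x := F4 y x
      rw [hc'.mul_pow, pow_orderOf_eq_one, mul_one]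
    have e2 : D (y * x) = D (y ^ orderOf x) := by
      apply hDfix (y * x) _ h1 hya
      intro h hh
      rw [← hpow, smul_pow', hfix (y * x) h hh]
    exact h2 (e2.trans e1.symm)
  have F5b : ∀ x y : N, x ≠ 1 → y ≠ 1 → D x ≠ D y → orderOf x = orderOf y := by
    intro x y hx hy hne
    apply Nat.dvd_antisymm
    · exact orderOf_dvd_of_pow_eq_one (F5a y x hy hx (Ne.symm hne))
    · exact orderOf_dvd_of_pow_eq_one (F5a x y hx hy hne)
  have F5 : ∀ x y : N, x ≠ 1 → y ≠ 1 → orderOf x = orderOf y := by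
    intro x y hx hy
    by_cases hne : D x = D y
    · obtain ⟨z, hz, hzx⟩ := F3 x hx
      rw [F5b x z hx hz (Ne.symm hzx), F5b y z hy hz (fun e => hzx (e.symm.trans hne.symm))]
    · exact F5b x y hx hy hne
  refine ⟨?_, ?_⟩
  · -- the prime
    have hN1 : 1 < Nat.card N := by
      rw [Finite.one_lt_card_iff_nontrivial]
      exact ⟨⟨x₁, 1, hx₁⟩⟩
    set p := (Nat.card N).minFac with hp
    have hpp : p.Prime := Nat.minFac_prime (by omega)
    have : Fact p.Prime := ⟨hpp⟩
    obtain ⟨g, hg⟩ := exists_prime_orderOf_dvd_card' p (Nat.minFac_dvd (Nat.card N))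
    have hg1 : g ≠ 1 := by
      intro e
      rw [e, orderOf_one] at hg
      exact hpp.one_lt.ne hg
    refine ⟨p, hpp, F4, ?_⟩
    intro x
    by_cases hx : x = 1
    · rw [hx, one_pow]
    · rw [← hg, ← F5 x g hx hg1, pow_orderOf_eq_one]
  · -- irreducibility
    intro W hW
    by_contra hcon
    push Not at hcon
    obtain ⟨hWb, hWt⟩ := hcon
    have hkeyW : ∀ x : N, x ∉ W → ∀ w ∈ W, w ≠ 1 → D x = D w := by
      intro x hx
      set T : Set N := (fun w => x * w) '' (W : Set N) with hTdef
      set S : Subgroup A := stabilizer A T with hSdef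
      have hx1 : x ≠ 1 := fun e => hx (e ▸ W.one_mem)
      have hT1 : ∀ z ∈ T, z ≠ 1 := by
        rintro z ⟨w, hw, rfl⟩ e
        apply hx
        have : x = w⁻¹ := eq_inv_of_mul_eq_one_left e
        rw [this]
        exact W.inv_mem hw
      have hST : ∀ h ∈ S, ∀ z ∈ T, h • z ∈ T := by
        intro h hh z hz
        rw [hSdef, mem_stabilizer_iff] at hh
        rw [← hh]
        exact Set.smul_mem_smul_set hz
      have hDS : ∀ z ∈ T, stabilizer A z ≤ S := by
        rintro z ⟨w₀, hw₀, rfl⟩ h hh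
        rw [mem_stabilizer_iff] at hh
        rw [hSdef, mem_stabilizer_iff]
        have hsub : ∀ k : A, k • (x * w₀) = x * w₀ → k • T ⊆ T := by
          intro k hk v hv
          obtain ⟨z, ⟨w, hw, rfl⟩, rfl⟩ := hv
          have e1 : x * w = (x * w₀) * (w₀⁻¹ * w) := by group
          change k • (x * w) ∈ T
          rw [e1, smul_mul', hk]
          refine ⟨w₀ * k • (w₀⁻¹ * w), ?_, by group⟩
          exact W.mul_mem hw₀ (hW k _ (W.mul_mem (W.inv_mem hw₀) hw))
        apply Set.Subset.antisymm (hsub h hh)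
        have hh' : h⁻¹ • (x * w₀) = x * w₀ := by rw [inv_smul_eq_iff, hh]
        have := hsub h⁻¹ hh'
        intro v hv
        have h2 := this (Set.smul_mem_smul_set hv)
        rw [Set.mem_smul_set_iff_inv_smul_mem]
        exact h2
      have hTN : T.ncard ∣ Nat.card N := by
        rw [hTdef, Set.ncard_image_of_injective _ (mul_right_injective x), ← Nat.card_coe_set_eq]
        exact Subgroup.card_subgroup_dvd_card W
      have hkey := key hc0 hc hcop S T hT1 hST hDS hTN
      have hxT : x ∈ T := ⟨1, W.one_mem, mul_one x⟩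
      intro w hw hw1
      apply hDfix x w hx1 hw1
      intro h hh
      have hxwT : x * w ∈ T := ⟨w, hw, rfl⟩
      have h1 : h ∈ stabilizer A (x * w) := by
        rw [← hkey _ hxwT, hkey x hxT]; exact hh
      have h2 : h • (x * w) = x * w := mem_stabilizer_iff.mp h1
      rw [smul_mul', hfix x h hh] at h2
      exact mul_left_cancel h2
    -- all stabilisers are equal
    obtain ⟨w₀, hw₀, hw₀1⟩ : ∃ w ∈ W, w ≠ 1 := by
      by_contra hcon
      push Not at hcon
      apply hWb
      rw [Subgroup.eq_bot_iff_forall]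
      exact hcon
    obtain ⟨x₀, hx₀⟩ : ∃ x : N, x ∉ W := by
      by_contra hcon
      push Not at hcon
      apply hWt
      rw [Subgroup.eq_top_iff']
      exact hcon
    obtain ⟨y, hy, hyne⟩ := F3 w₀ hw₀1
    apply hyne
    by_cases hyW : y ∈ W
    · rw [← hkeyW x₀ hx₀ y hyW hy, hkeyW x₀ hx₀ w₀ hw₀ hw₀1]
    · exact hkeyW y hyW w₀ hw₀ hw₀1

end main

section transfer

variable {G : Type*} [Group G]

/-- conjugation action of a subgroup `A` on a normal subgroup `N` -/
@[reducible] def conjMDMA (A N : Subgroup G) [N.Normal] : MulDistribMulAction ↥A ↥N :=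
  MulDistribMulAction.compHom ↥N ((MulAut.conjNormal (H := N)).comp A.subtype)

lemma conjMDMA_coe (A N : Subgroup G) [N.Normal] (h : A) (n : N) :
    ((letI := conjMDMA A N; h • n : N) : G) = h * n * (h : G)⁻¹ := by
  rfl

end transfer

end Cfsg.Agent.helper18.HalfTrans
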