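import Mathlib

set_option autoImplicit false
set_option linter.style.haveILetI false

/-! Permutation-group infrastructure for Miller's theorem (degree `kp + r`). -/

namespace Cfsg.Agent.helper20.Mill

open Equiv MulAction

variable {α : Type*} [Fintype α] [DecidableEq α]

/-- In a `t`-transitive group, any permutation can be matched on a set of at most `t` points. -/
theorem exists_mem_agree (G : Subgroup (Perm α)) {t : ℕ}
    (hG : IsMultiplyPretransitive G α t) (ht : t ≤ Fintype.card α)
    (s : Finset α) (hs : s.card ≤ t) (π : Perm α) :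
    ∃ g ∈ G, ∀ a ∈ s, g a = π a := by
  haveI := hG
  have hm : IsMultiplyPretransitive G α s.card :=
    isMultiplyPretransitive_of_le hs (by rw [Nat.card_eq_fintype_card]; exact ht)
  let e : Fin s.card ↪ α := s.equivFin.symm.toEmbedding.trans (Function.Embedding.subtype _)
  let e' : Fin s.card ↪ α := e.trans π.toEmbedding
  obtain ⟨g, hg⟩ := hm.exists_smul_eq e e'
  refine ⟨g.1, g.2, fun a ha => ?_⟩
  have h1 := congrArg (fun f : Fin s.card ↪ α => f (s.equivFin ⟨a, ha⟩)) hg
  simpa [e, e', Function.Embedding.smul_apply, Subgroup.smul_def] using h1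

/-- A nontrivial element of small support in a highly transitive group forces `A_n ≤ G`. -/
theorem alt_le_of_small_support (G : Subgroup (Perm α)) {t : ℕ}
    (hG : IsMultiplyPretransitive G α t) (ht : t ≤ Fintype.card α) (h5 : 5 ≤ Fintype.card α)
    (g : Perm α) (hg : g ∈ G) (hg1 : g ≠ 1) (hsupp : g.support.card ≤ t) :
    alternatingGroup α ≤ G := by
  have hcore : g ∈ G.normalCore := by
    show ∀ b : Perm α, b * g * b⁻¹ ∈ G
    intro π
    obtain ⟨h, hh, hagree⟩ := exists_mem_agree G hG ht g.support hsupp π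
    have heq : π * g * π⁻¹ = h * g * h⁻¹ := by
      ext x
      simp only [Perm.coe_mul, Function.comp_apply]
      by_cases hx : h⁻¹ x ∈ g.support
      · have h1 : π (h⁻¹ x) = x := by rw [← hagree _ hx]; simp
        have h2 : π⁻¹ x = h⁻¹ x := by
          rw [Perm.inv_eq_iff_eq]; exact h1.symm
        rw [h2]
        have h3 : g (h⁻¹ x) ∈ g.support := Perm.apply_mem_support.mpr hx
        exact (hagree _ h3).symm
      · have h1 : g (h⁻¹ x) = h⁻¹ x := Perm.notMem_support.mp hx
        rw [h1]
        have h2 : π⁻¹ x ∉ g.support := by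
          intro hy
          have h3 : h (π⁻¹ x) = x := by rw [hagree _ hy]; simp
          have h4 : h⁻¹ x = π⁻¹ x := by
            rw [Perm.inv_eq_iff_eq]; exact h3.symm
          exact hx (h4 ▸ hy)
        rw [Perm.notMem_support.mp h2]
        simp
    rw [heq]
    exact G.mul_mem (G.mul_mem hh hg) (G.inv_mem hh)
  have hnt : Nontrivial G.normalCore :=
    ⟨⟨⟨g, hcore⟩, 1, fun h => hg1 (by simpa using congrArg Subtype.val h)⟩⟩
  have h6 := Equiv.Perm.alternatingGroup_le_of_normal
    (by rw [Nat.card_eq_fintype_card]; exact h5) hnt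
  exact h6.trans (Subgroup.normalCore_le G)

/-- Pointwise stabiliser of a finset in `Perm α`. -/
def pfix (Φ : Finset α) : Subgroup (Perm α) where
  carrier := {g | ∀ a ∈ Φ, g a = a}
  one_mem' := fun _ _ => rfl
  mul_mem' := fun {g h} hg hh a ha => by
    show g (h a) = a
    rw [hh a ha, hg a ha]
  inv_mem' := fun {g} hg a ha => by
    show g⁻¹ a = a
    rw [Perm.inv_eq_iff_eq]; exact (hg a ha).symm

theorem mem_pfix {Φ : Finset α} {g : Perm α} : g ∈ pfix Φ ↔ ∀ a ∈ Φ, g a = a := Iff.rfl

end Cfsg.Agent.helper20.Mill
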