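import Mathlib
import Cfsg.Agent.Lib_helper20_MillA

set_option autoImplicit false
set_option linter.style.haveILetI false
set_option linter.unusedSectionVars false

/-! Local analysis for Miller's theorem: a `p`-subgroup `P` fixing `Φ` pointwise, all of whose
orbits outside `Φ` have length `p`, and whose normaliser induces `Sym(Φ)`. -/

namespace Cfsg.Agent.helper20.Mill

open Equiv MulAction

variable {α : Type*} [Fintype α] [DecidableEq α]

/-- The normaliser of a subgroup of `Perm α`. -/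
abbrev Nz (P : Subgroup (Perm α)) : Subgroup (Perm α) := Subgroup.normalizer (P : Set (Perm α))

/-- The local configuration. -/
structure Cfg (G : Subgroup (Perm α)) (p : ℕ) (Φ : Finset α) (P : Subgroup (Perm α)) : Prop where
  hp : p.Prime
  hPG : P ≤ G
  hPfix : P ≤ pfix Φ
  hPp : IsPGroup p P
  horb : ∀ ω, ω ∉ Φ → Nat.card (MulAction.orbit P ω) = p
  hWitt : ∀ σ : Perm Φ, ∃ x ∈ G, x ∈ Nz P ∧ ∀ a : Φ, x a = σ a

theorem mem_orbit_P {P : Subgroup (Perm α)} {ω a : α} :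
    a ∈ MulAction.orbit P ω ↔ ∃ u ∈ P, u ω = a := by
  rw [MulAction.mem_orbit_iff]
  constructor
  · rintro ⟨u, hu⟩
    exact ⟨u.1, u.2, hu⟩
  · rintro ⟨u, hu, hua⟩
    exact ⟨⟨u, hu⟩, hua⟩

theorem conj_mem_of_normalizer {P : Subgroup (Perm α)} {x u : Perm α} (hx : x ∈ Nz P)
    (hu : u ∈ P) : x * u * x⁻¹ ∈ P := (Subgroup.mem_normalizer_iff.mp hx u).mp hu

theorem conj_mem_of_normalizer' {P : Subgroup (Perm α)} {x u : Perm α} (hx : x ∈ Nz P)
    (hu : u ∈ P) : x⁻¹ * u * x ∈ P := by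
  have := conj_mem_of_normalizer ((Nz P).inv_mem hx) hu
  simpa using this

namespace Cfg

variable {G : Subgroup (Perm α)} {p : ℕ} {Φ : Finset α} {P : Subgroup (Perm α)}

theorem fix_of_mem (h : Cfg G p Φ P) {u : Perm α} (hu : u ∈ P) {a : α} (ha : a ∈ Φ) : u a = a :=
  h.hPfix hu a ha

theorem index_stab (h : Cfg G p Φ P) {ω : α} (hω : ω ∉ Φ) :
    (MulAction.stabilizer P ω).index = p := by
  rw [MulAction.index_stabilizer, ← Nat.card_coe_set_eq]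
  exact h.horb ω hω

theorem normal_stab (h : Cfg G p Φ P) {ω : α} (hω : ω ∉ Φ) :
    (MulAction.stabilizer P ω).Normal := by
  haveI : Fact p.Prime := ⟨h.hp⟩
  apply Subgroup.normal_of_index_eq_minFac_card
  rw [h.index_stab hω]
  obtain ⟨m, hm⟩ := IsPGroup.iff_card.mp h.hPp
  have hm0 : m ≠ 0 := by
    rintro rfl
    have h1 : (MulAction.stabilizer P ω).index ∣ Nat.card P := Subgroup.index_dvd_card _
    rw [h.index_stab hω, hm, pow_zero] at h1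
    exact h.hp.one_lt.ne' (Nat.dvd_one.mp h1)
  rw [hm, h.hp.pow_minFac hm0]

/-- Elements of `P` fixing `ω` fix its whole `P`-orbit. -/
theorem stab_orbit (h : Cfg G p Φ P) {ω : α} (hω : ω ∉ Φ) {v : Perm α} (hv : v ∈ P)
    (hvω : v ω = ω) {ω' : α} (hω' : ω' ∈ MulAction.orbit P ω) : v ω' = ω' := by
  haveI := h.normal_stab hω
  obtain ⟨w, hw, rfl⟩ := mem_orbit_P.mp hω'
  have h1 : (⟨v, hv⟩ : P) ∈ MulAction.stabilizer P ω := by
    rw [MulAction.mem_stabilizer_iff]; exact hvω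
  have h2 := Subgroup.Normal.conj_mem' (inferInstance : (MulAction.stabilizer P ω).Normal)
    _ h1 ⟨w, hw⟩
  rw [MulAction.mem_stabilizer_iff] at h2
  have h3 : (w⁻¹ * v * w) ω = ω := h2
  have h4 : v (w ω) = w ((w⁻¹ * v * w) ω) := by simp [Perm.mul_apply]
  rw [h4, h3]

theorem pow_p_fix (h : Cfg G p Φ P) {u : Perm α} (hu : u ∈ P) (ω : α) : (u ^ p) ω = ω := by
  by_cases hω : ω ∈ Φ
  · exact h.fix_of_mem (P.pow_mem hu p) hω
  · haveI := h.normal_stab hω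
    have h1 := Subgroup.pow_index_mem (MulAction.stabilizer P ω) (⟨u, hu⟩ : P)
    rw [h.index_stab hω, MulAction.mem_stabilizer_iff] at h1
    exact h1

theorem pow_p_eq_one (h : Cfg G p Φ P) {u : Perm α} (hu : u ∈ P) : u ^ p = 1 := by
  ext ω; simpa using h.pow_p_fix hu ω

theorem exists_moving (h : Cfg G p Φ P) {ω : α} (hω : ω ∉ Φ) : ∃ u ∈ P, u ω ≠ ω := by
  by_contra hcon
  push Not at hcon
  have hsub : Subsingleton (MulAction.orbit P ω) := by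
    constructor
    rintro ⟨a, ha⟩ ⟨b, hb⟩
    obtain ⟨u, hu, rfl⟩ := mem_orbit_P.mp ha
    obtain ⟨v, hv, rfl⟩ := mem_orbit_P.mp hb
    apply Subtype.ext
    show u ω = v ω
    rw [hcon u hu, hcon v hv]
  have h1 : Nat.card (MulAction.orbit P ω) ≤ 1 := Finite.card_le_one_iff_subsingleton.mpr hsub
  rw [h.horb ω hω] at h1
  exact absurd h.hp.one_lt (not_lt.mpr h1)

theorem notMem_of_mem_P (h : Cfg G p Φ P) {u : Perm α} (hu : u ∈ P) {ω : α} (hω : ω ∉ Φ) :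
    u ω ∉ Φ := by
  intro hcon
  have h1 : u⁻¹ (u ω) = u ω := h.fix_of_mem (P.inv_mem hu) hcon
  have h2 : u ω = ω := by simpa using h1.symm
  exact hω (h2 ▸ hcon)

theorem normalizer_maps_Phi (h : Cfg G p Φ P) {x : Perm α} (hx : x ∈ Nz P) {a : α}
    (ha : a ∈ Φ) : x a ∈ Φ := by
  by_contra hcon
  obtain ⟨u, hu, hmove⟩ := h.exists_moving hcon
  have h1 : (x⁻¹ * u * x) a = a := h.fix_of_mem (conj_mem_of_normalizer' hx hu) ha
  apply hmove
  have h2 : x ((x⁻¹ * u * x) a) = u (x a) := by simp [Perm.mul_apply]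
  rw [← h2, h1]

theorem normalizer_maps_compl (h : Cfg G p Φ P) {x : Perm α} (hx : x ∈ Nz P) {ω : α}
    (hω : ω ∉ Φ) : x ω ∉ Φ := by
  intro hcon
  have := h.normalizer_maps_Phi ((Nz P).inv_mem hx) hcon
  simp at this
  exact hω this

end Cfg

/-- Elements normalising `P` and fixing the `P`-orbit of `ω`. -/
def SS (P : Subgroup (Perm α)) (ω : α) : Subgroup (Perm α) where
  carrier := {x | x ∈ Nz P ∧ ∃ u ∈ P, x ω = u ω}
  one_mem' := ⟨one_mem _, 1, one_mem _, rfl⟩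
  mul_mem' := by
    rintro x y ⟨hx, u, hu, hxu⟩ ⟨hy, v, hv, hyv⟩
    refine ⟨mul_mem hx hy, x * v * x⁻¹ * u, mul_mem (conj_mem_of_normalizer hx hv) hu, ?_⟩
    simp only [Perm.mul_apply]
    rw [hyv, ← hxu]
    simp
  inv_mem' := by
    rintro x ⟨hx, u, hu, hxu⟩
    refine ⟨inv_mem hx, x⁻¹ * u⁻¹ * x, conj_mem_of_normalizer' hx (inv_mem hu), ?_⟩
    simp only [Perm.mul_apply]
    rw [hxu]
    simp

/-- Elements normalising `P` and fixing every `P`-orbit outside `Φ`. -/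
def MM (P : Subgroup (Perm α)) (Φ : Finset α) : Subgroup (Perm α) :=
  Nz P ⊓ ⨅ ω : {ω // ω ∉ Φ}, SS P ω.1

theorem mem_MM {P : Subgroup (Perm α)} {Φ : Finset α} {x : Perm α} :
    x ∈ MM P Φ ↔ x ∈ Nz P ∧ ∀ ω, ω ∉ Φ → ∃ u ∈ P, x ω = u ω := by
  unfold MM
  rw [Subgroup.mem_inf, Subgroup.mem_iInf]
  constructor
  · rintro ⟨h1, h2⟩
    exact ⟨h1, fun ω hω => (h2 ⟨ω, hω⟩).2⟩
  · rintro ⟨h1, h2⟩
    exact ⟨h1, fun ω => ⟨h1, h2 ω.1 ω.2⟩⟩

theorem P_le_MM {P : Subgroup (Perm α)} {Φ : Finset α} : P ≤ MM P Φ := by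
  intro u hu
  rw [mem_MM]
  exact ⟨Subgroup.le_normalizer hu, fun ω _ => ⟨u, hu, rfl⟩⟩

/-- conjugation by a normalising element, as an endomorphism of `P`. -/
def conjP (P : Subgroup (Perm α)) (x : Perm α) (hx : x ∈ Nz P) : P →* P where
  toFun u := ⟨x * u * x⁻¹, conj_mem_of_normalizer hx u.2⟩
  map_one' := by apply Subtype.ext; simp
  map_mul' u v := by apply Subtype.ext; simp [mul_assoc]

namespace Cfg

variable {G : Subgroup (Perm α)} {p : ℕ} {Φ : Finset α} {P : Subgroup (Perm α)}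

theorem conj_mem_MM (h : Cfg G p Φ P) {x t : Perm α} (hx : x ∈ MM P Φ)
    (ht : t ∈ Nz P) : t * x * t⁻¹ ∈ MM P Φ := by
  rw [mem_MM] at hx ⊢
  refine ⟨mul_mem (mul_mem ht hx.1) (inv_mem ht), fun ω hω => ?_⟩
  have hω' : t⁻¹ ω ∉ Φ := h.normalizer_maps_compl (inv_mem ht) hω
  obtain ⟨u, hu, hxu⟩ := hx.2 _ hω'
  refine ⟨t * u * t⁻¹, conj_mem_of_normalizer ht hu, ?_⟩
  simp only [Perm.mul_apply]
  rw [hxu]

/-- The exponent by which `x ∈ MM` acts on `P` modulo the stabiliser of `ω`. -/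
theorem expo_exists (h : Cfg G p Φ P) {x : Perm α} (hx : x ∈ MM P Φ) {ω : α} (hω : ω ∉ Φ) :
    ∃ m : ℤ, ∀ u ∈ P, ∀ ω' ∈ MulAction.orbit P ω, (x * u * x⁻¹) ω' = (u ^ m) ω' := by
  haveI : Fact p.Prime := ⟨h.hp⟩
  haveI hKn := h.normal_stab hω
  have hx' := mem_MM.mp hx
  have hxi := mem_MM.mp ((MM P Φ).inv_mem hx)
  have hcard : Nat.card (P ⧸ MulAction.stabilizer P ω) = p := by
    rw [← Subgroup.index_eq_card]; exact h.index_stab hω
  haveI : IsCyclic (P ⧸ MulAction.stabilizer P ω) := isCyclic_of_prime_card hcard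
  have hker : MulAction.stabilizer P ω ≤
      ((QuotientGroup.mk' (MulAction.stabilizer P ω)).comp (conjP P x hx'.1)).ker := by
    intro v hv
    rw [MonoidHom.mem_ker, MonoidHom.comp_apply, QuotientGroup.mk'_apply,
      QuotientGroup.eq_one_iff, MulAction.mem_stabilizer_iff]
    rw [MulAction.mem_stabilizer_iff] at hv
    obtain ⟨u', hu', hxu'⟩ := hxi.2 ω hω
    have h1 : v.1 (u' ω) = u' ω :=
      h.stab_orbit hω v.2 hv (mem_orbit_P.mpr ⟨u', hu', rfl⟩)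
    show (x * v.1 * x⁻¹) ω = ω
    simp only [Perm.mul_apply]
    rw [hxu', h1, ← hxu']
    simp
  obtain ⟨m, hm⟩ := (QuotientGroup.lift (MulAction.stabilizer P ω)
    ((QuotientGroup.mk' (MulAction.stabilizer P ω)).comp (conjP P x hx'.1)) hker).map_cyclic
  refine ⟨m, fun u hu ω' hω' => ?_⟩
  have h1 := hm (QuotientGroup.mk (⟨u, hu⟩ : P))
  rw [QuotientGroup.lift_mk, MonoidHom.comp_apply, QuotientGroup.mk'_apply,
    ← QuotientGroup.mk_zpow, QuotientGroup.eq, MulAction.mem_stabilizer_iff] at h1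
  have h2 : ((x * u * x⁻¹)⁻¹ * u ^ m) ω = ω := h1
  have h3 : (x * u * x⁻¹)⁻¹ * u ^ m ∈ P :=
    mul_mem (inv_mem (conj_mem_of_normalizer hx'.1 hu)) (P.zpow_mem hu m)
  have h4 := h.stab_orbit hω h3 h2 hω'
  have h5 : (u ^ m) ω' = (x * u * x⁻¹) (((x * u * x⁻¹)⁻¹ * u ^ m) ω') := by
    simp [Perm.mul_apply]
  rw [h5, h4]

/-- Commutators of elements of `MM` centralise `P`. -/
theorem comm_conj (h : Cfg G p Φ P) {x y : Perm α} (hx : x ∈ MM P Φ) (hy : y ∈ MM P Φ)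
    {u : Perm α} (hu : u ∈ P) :
    (x * y) * u * (x * y)⁻¹ = (y * x) * u * (y * x)⁻¹ := by
  have hx' := mem_MM.mp hx
  have hy' := mem_MM.mp hy
  ext ω
  by_cases hω : ω ∈ Φ
  · rw [h.fix_of_mem (conj_mem_of_normalizer (mul_mem hx'.1 hy'.1) hu) hω,
      h.fix_of_mem (conj_mem_of_normalizer (mul_mem hy'.1 hx'.1) hu) hω]
  · obtain ⟨mx, hmx⟩ := h.expo_exists hx hω
    obtain ⟨my, hmy⟩ := h.expo_exists hy hω
    have hω0 : ω ∈ MulAction.orbit P ω := MulAction.mem_orbit_self ω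
    have e1 : (x * y) * u * (x * y)⁻¹ = x * (y * u * y⁻¹) * x⁻¹ := by group
    have e2 : (y * x) * u * (y * x)⁻¹ = y * (x * u * x⁻¹) * y⁻¹ := by group
    rw [e1, e2, hmx _ (conj_mem_of_normalizer hy'.1 hu) ω hω0,
      hmy _ (conj_mem_of_normalizer hx'.1 hu) ω hω0, conj_zpow, conj_zpow,
      hmy _ (P.zpow_mem hu mx) ω hω0, hmx _ (P.zpow_mem hu my) ω hω0,
      ← zpow_mul, ← zpow_mul, mul_comm]

/-- An element of `MM` commuting with `P` has `p`-th power trivial outside `Φ`. -/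
theorem pow_p_fix_of_comm (h : Cfg G p Φ P) {z : Perm α} (hz : z ∈ MM P Φ)
    (hc : ∀ u ∈ P, z * u = u * z) {ω : α} (hω : ω ∉ Φ) : (z ^ p) ω = ω := by
  obtain ⟨u, hu, hzu⟩ := (mem_MM.mp hz).2 ω hω
  have key : ∀ j : ℕ, (z ^ j) ω = (u ^ j) ω := by
    intro j
    induction j with
    | zero => simp
    | succ j ih =>
      have hcomm : Commute (z ^ j) u := (Commute.pow_left (hc u hu) j)
      rw [pow_succ, pow_succ', Perm.mul_apply, Perm.mul_apply, hzu, ← ih, ← Perm.mul_apply,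
        ← Perm.mul_apply, hcomm.eq]
  rw [key, h.pow_p_fix hu]

/-- If `x ∈ MM` acts on `P` as a universal power, then `(t x t⁻¹)⁻¹ x` centralises `P`. -/
theorem scalar_comm (h : Cfg G p Φ P) {x t : Perm α} (hx : x ∈ MM P Φ) (ht : t ∈ Nz P)
    (m : ℤ) (hm : ∀ u ∈ P, ∀ ω, ω ∉ Φ → (x * u * x⁻¹) ω = (u ^ m) ω) :
    ∀ u ∈ P, ((t * x * t⁻¹)⁻¹ * x) * u = u * ((t * x * t⁻¹)⁻¹ * x) := by
  have hx' := mem_MM.mp hx
  have hm' : ∀ u ∈ P, x * u * x⁻¹ = u ^ m := by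
    intro u hu
    ext ω
    by_cases hω : ω ∈ Φ
    · rw [h.fix_of_mem (conj_mem_of_normalizer hx'.1 hu) hω,
        h.fix_of_mem (P.zpow_mem hu m) hω]
    · exact hm u hu ω hω
  intro u hu
  have h1 : (t * x * t⁻¹) * u * (t * x * t⁻¹)⁻¹ = u ^ m := by
    have e1 : (t * x * t⁻¹) * u * (t * x * t⁻¹)⁻¹ = t * (x * (t⁻¹ * u * t) * x⁻¹) * t⁻¹ := by
      group
    rw [e1, hm' _ (conj_mem_of_normalizer' ht hu)]
    have e2 : t * (t⁻¹ * u * t) ^ m * t⁻¹ = (t * (t⁻¹ * u * t) * t⁻¹) ^ m := conj_zpow.symm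
    rw [e2]
    congr 1
    group
  have h2 : (t * x * t⁻¹) * u * (t * x * t⁻¹)⁻¹ = x * u * x⁻¹ := by rw [h1, hm' u hu]
  calc ((t * x * t⁻¹)⁻¹ * x) * u
      = (t * x * t⁻¹)⁻¹ * (x * u * x⁻¹) * x := by group
    _ = (t * x * t⁻¹)⁻¹ * ((t * x * t⁻¹) * u * (t * x * t⁻¹)⁻¹) * x := by rw [h2]
    _ = u * ((t * x * t⁻¹)⁻¹ * x) := by group

end Cfg

end Cfsg.Agent.helper20.Mill
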