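import Mathlib
import Cfsg.Agent.Lib_helper20_MillB

set_option autoImplicit false
set_option linter.style.haveILetI false
set_option linter.unusedSectionVars false

/-! Orbit counting, the power lemma and the scalar / `p`-cycle dichotomy. -/

namespace Cfsg.Agent.helper20.Mill

open Equiv MulAction

variable {α : Type*} [Fintype α] [DecidableEq α]

open Classical in
/-- The `P`-orbit of `ω` as a finset. -/
noncomputable def orbF (P : Subgroup (Perm α)) (ω : α) : Finset α :=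
  Finset.univ.filter (fun a => a ∈ MulAction.orbit P ω)

theorem mem_orbF {P : Subgroup (Perm α)} {ω a : α} :
    a ∈ orbF P ω ↔ a ∈ MulAction.orbit P ω := by
  classical
  simp [orbF]

theorem coe_orbF {P : Subgroup (Perm α)} {ω : α} :
    ((orbF P ω : Finset α) : Set α) = MulAction.orbit P ω := by
  ext a; simp [mem_orbF]

/-- `m` is an exponent for the action of `x` on `P` along the orbit of `ω`. -/
def Expo (P : Subgroup (Perm α)) (x : Perm α) (ω : α) (m : ℤ) : Prop :=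
  ∀ u ∈ P, ∀ ω' ∈ MulAction.orbit P ω, (x * u * x⁻¹) ω' = (u ^ m) ω'

namespace Cfg

variable {G : Subgroup (Perm α)} {p : ℕ} {Φ : Finset α} {P : Subgroup (Perm α)}

theorem inv_iff (h : Cfg G p Φ P) {x : Perm α} (hx : x ∈ Nz P) (a : α) : x a ∈ Φ ↔ a ∈ Φ :=
  ⟨fun ha => by
    by_contra hc
    exact h.normalizer_maps_compl hx hc ha, h.normalizer_maps_Phi hx⟩

/-- Restriction of the normaliser to `Φ`. -/
noncomputable def res (h : Cfg G p Φ P) : ↥(G ⊓ Nz P) →* Perm Φ where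
  toFun x := Perm.subtypePerm x.1 (fun a => h.inv_iff x.2.2 a)
  map_one' := by ext a; simp
  map_mul' x y := by ext a; rfl

theorem res_apply (h : Cfg G p Φ P) (x : ↥(G ⊓ Nz P)) (a : Φ) : ((h.res x) a : α) = x.1 a := rfl

theorem res_surj (h : Cfg G p Φ P) : Function.Surjective h.res := by
  intro σ
  obtain ⟨x, hxG, hxN, hx⟩ := h.hWitt σ
  refine ⟨⟨x, hxG, hxN⟩, ?_⟩
  ext a
  rw [res_apply]
  exact hx a

theorem card_orbF (h : Cfg G p Φ P) {ω : α} (hω : ω ∉ Φ) : (orbF P ω).card = p := by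
  rw [← Set.ncard_coe_finset, coe_orbF, ← Nat.card_coe_set_eq]
  exact h.horb ω hω

theorem orbF_subset (h : Cfg G p Φ P) {ω : α} (hω : ω ∉ Φ) : orbF P ω ⊆ Φᶜ := by
  intro a ha
  rw [mem_orbF] at ha
  obtain ⟨u, hu, rfl⟩ := mem_orbit_P.mp ha
  rw [Finset.mem_compl]
  exact h.notMem_of_mem_P hu hω

/-- Points in pairwise distinct orbits outside `Φ`: at most `k` of them. -/
theorem card_mul_le (h : Cfg G p Φ P) {k r : ℕ} (hn : Fintype.card α = k * p + r)
    (hr : Φ.card = r) {m : ℕ} (f : Fin m → α) (hf : ∀ i, f i ∉ Φ)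
    (hpw : ∀ i j, i < j → f j ∉ MulAction.orbit P (f i)) : m ≤ k := by
  have hpw' : ∀ i j, i ≠ j → f j ∉ MulAction.orbit P (f i) := by
    intro i j hij
    rcases lt_or_gt_of_ne hij with hlt | hlt
    · exact hpw i j hlt
    · intro hc
      exact hpw j i hlt (MulAction.mem_orbit_symm.mp hc)
  have hdisj : ((Finset.univ : Finset (Fin m)) : Set (Fin m)).PairwiseDisjoint
      (fun i => orbF P (f i)) := by
    intro i _ j _ hij
    rw [Function.onFun, Finset.disjoint_left]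
    intro a hai haj
    rw [mem_orbF] at hai haj
    apply hpw' i j hij
    rw [← MulAction.orbit_eq_iff.mpr hai, MulAction.orbit_eq_iff.mpr haj]
    exact MulAction.mem_orbit_self _
  have hcard : (Finset.univ.biUnion (fun i => orbF P (f i))).card = m * p := by
    rw [Finset.card_biUnion hdisj]
    simp [h.card_orbF (hf _)]
  have hsub : Finset.univ.biUnion (fun i => orbF P (f i)) ⊆ Φᶜ := by
    intro a ha
    rw [Finset.mem_biUnion] at ha
    obtain ⟨i, _, hi⟩ := ha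
    exact h.orbF_subset (hf i) hi
  have h1 := Finset.card_le_card hsub
  rw [hcard, Finset.card_compl, hn, hr, Nat.add_sub_cancel] at h1
  exact Nat.le_of_mul_le_mul_right h1 h.hp.pos

theorem two_le_k (h : Cfg G p Φ P) {k r : ℕ} (hn : Fintype.card α = k * p + r)
    (hr : Φ.card = r) {ω1 ω2 : α} (h1 : ω1 ∉ Φ) (h2 : ω2 ∉ Φ)
    (h21 : ω2 ∉ MulAction.orbit P ω1) : 2 ≤ k := by
  refine h.card_mul_le hn hr ![ω1, ω2] ?_ ?_
  · intro i; fin_cases i <;> simpa
  · intro i j hij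
    fin_cases i <;> fin_cases j <;>
      first
      | (exfalso; revert hij; decide)
      | (simpa using h21)

theorem four_le_k (h : Cfg G p Φ P) {k r : ℕ} (hn : Fintype.card α = k * p + r)
    (hr : Φ.card = r) {ω1 ω2 ω3 ω4 : α} (h1 : ω1 ∉ Φ) (h2 : ω2 ∉ Φ) (h3 : ω3 ∉ Φ)
    (h4 : ω4 ∉ Φ)
    (h21 : ω2 ∉ MulAction.orbit P ω1) (h31 : ω3 ∉ MulAction.orbit P ω1)
    (h41 : ω4 ∉ MulAction.orbit P ω1) (h32 : ω3 ∉ MulAction.orbit P ω2)
    (h42 : ω4 ∉ MulAction.orbit P ω2) (h43 : ω4 ∉ MulAction.orbit P ω3) : 4 ≤ k := by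
  refine h.card_mul_le hn hr ![ω1, ω2, ω3, ω4] ?_ ?_
  · intro i; fin_cases i <;> simpa
  · intro i j hij
    fin_cases i <;> fin_cases j <;>
      first
      | (exfalso; revert hij; decide)
      | (simpa using h21)
      | (simpa using h31)
      | (simpa using h41)
      | (simpa using h32)
      | (simpa using h42)
      | (simpa using h43)

/-- The power lemma: `y ^ k!` fixes every `P`-orbit. -/
theorem pow_factorial_mem_MM (h : Cfg G p Φ P) {k r : ℕ} (hn : Fintype.card α = k * p + r)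
    (hr : Φ.card = r) {y : Perm α} (hy : y ∈ Nz P) : y ^ k.factorial ∈ MM P Φ := by
  rw [mem_MM]
  refine ⟨pow_mem hy _, fun ω hω => ?_⟩
  have aux : ∀ i j : ℕ, i < j → (y ^ j) ω ∈ MulAction.orbit P ((y ^ i) ω) →
      y ^ (j - i) ∈ SS P ω := by
    intro i j hij hmem
    obtain ⟨u, hu, huij⟩ := mem_orbit_P.mp hmem
    refine ⟨pow_mem hy _, (y ^ i)⁻¹ * u * y ^ i, conj_mem_of_normalizer' (pow_mem hy _) hu, ?_⟩
    have e1 : (y ^ i)⁻¹ * y ^ j = y ^ (j - i) := by
      rw [inv_mul_eq_iff_eq_mul, ← pow_add]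
      congr 1
      omega
    simp only [Perm.mul_apply]
    rw [huij, ← Perm.mul_apply, e1]
  have key : ∃ d, 0 < d ∧ d ≤ k ∧ y ^ d ∈ SS P ω := by
    by_contra hcon
    push Not at hcon
    have h1 := h.card_mul_le hn hr (m := k + 1) (fun i : Fin (k + 1) => (y ^ (i : ℕ)) ω)
      (fun i => h.normalizer_maps_compl (pow_mem hy _) hω) ?_
    · omega
    · intro i j hij hmem
      have hij' : (i : ℕ) < (j : ℕ) := hij
      have h2 := aux i j hij' hmem
      exact hcon ((j : ℕ) - (i : ℕ)) (by omega) (by have := j.2; omega) h2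
  obtain ⟨d, hd0, hdk, hd⟩ := key
  have h3 : y ^ k.factorial = (y ^ d) ^ (k.factorial / d) := by
    rw [← pow_mul, Nat.mul_div_cancel' (Nat.dvd_factorial hd0 hdk)]
  have h4 : y ^ k.factorial ∈ SS P ω := by
    rw [h3]; exact pow_mem hd _
  exact h4.2

theorem expo_congr (h : Cfg G p Φ P) {x : Perm α} {ω : α} {m m' : ℤ} (he : Expo P x ω m)
    (hd : (p : ℤ) ∣ m - m') : Expo P x ω m' := by
  intro u hu ω' hω'
  rw [he u hu ω' hω']
  obtain ⟨j, hj⟩ := hd
  have h1 : m = m' + (p : ℤ) * j := by omega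
  rw [h1, zpow_add, zpow_mul, zpow_natCast, h.pow_p_eq_one hu, one_zpow, mul_one]

theorem fix_of_zpow_fix (h : Cfg G p Φ P) {u : Perm α} (hu : u ∈ P) {e : ℤ}
    (he : ¬ (p : ℤ) ∣ e) {ω : α} (hfix : (u ^ e) ω = ω) : u ω = ω := by
  have hcop : IsCoprime (p : ℤ) e :=
    (Nat.prime_iff_prime_int.mp h.hp).coprime_iff_not_dvd.mpr he
  obtain ⟨a, b, hab⟩ := hcop
  have h1 : u ^ (a * (p : ℤ) + b * e) = u := by rw [hab, zpow_one]
  rw [zpow_add, mul_comm a, zpow_mul, zpow_natCast, h.pow_p_eq_one hu, one_zpow, one_mul,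
    mul_comm b, zpow_mul] at h1
  rw [← h1]
  exact Perm.zpow_apply_eq_self_of_apply_eq_self hfix b

theorem triple (h : Cfg G p Φ P) {x : Perm α} (hx : x ∈ MM P Φ) {ωa ωb ωc : α}
    (ha : ωa ∉ Φ) {ma mb mc : ℤ}
    (ea : Expo P x ωa ma) (eb : Expo P x ωb mb) (ec : Expo P x ωc mc)
    (hab : ¬ (p : ℤ) ∣ ma - mb) (hac : ¬ (p : ℤ) ∣ ma - mc)
    (hcov : ∀ ω, ω ∉ Φ → ω ∈ MulAction.orbit P ωa ∨ ω ∈ MulAction.orbit P ωb ∨
      ω ∈ MulAction.orbit P ωc) :
    ∃ v ∈ P, v ≠ 1 ∧ ∀ ω, v ω ≠ ω → ω ∈ MulAction.orbit P ωa := by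
  have hx' := mem_MM.mp hx
  obtain ⟨u, hu, hmove⟩ := h.exists_moving ha
  have hDmem : ∀ (m : ℤ) (w : Perm α), w ∈ P → (w ^ m)⁻¹ * (x * w * x⁻¹) ∈ P :=
    fun m w hw => mul_mem (inv_mem (P.zpow_mem hw m)) (conj_mem_of_normalizer hx'.1 hw)
  have hDval : ∀ (ω0 : α) (m0 : ℤ), Expo P x ω0 m0 → ∀ (m : ℤ) (w : Perm α), w ∈ P →
      ∀ ω' ∈ MulAction.orbit P ω0, ((w ^ m)⁻¹ * (x * w * x⁻¹)) ω' = (w ^ (m0 - m)) ω' := by
    intro ω0 m0 e0 m w hw ω' hω'
    rw [Perm.mul_apply, e0 w hw ω' hω', ← Perm.mul_apply, ← zpow_neg, ← zpow_add]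
    congr 2
    ring
  set u' := (u ^ mc)⁻¹ * (x * u * x⁻¹) with hu'def
  have hu' : u' ∈ P := hDmem mc u hu
  set v := (u' ^ mb)⁻¹ * (x * u' * x⁻¹) with hvdef
  have hv : v ∈ P := hDmem mb u' hu'
  have hvb : ∀ ω' ∈ MulAction.orbit P ωb, v ω' = ω' := by
    intro ω' hω'
    rw [hvdef, hDval ωb mb eb mb u' hu' ω' hω', sub_self, zpow_zero]; rfl
  have hu'c : ∀ ω' ∈ MulAction.orbit P ωc, u' ω' = ω' := by
    intro ω' hω'
    rw [hu'def, hDval ωc mc ec mc u hu ω' hω', sub_self, zpow_zero]; rfl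
  have hvc : ∀ ω' ∈ MulAction.orbit P ωc, v ω' = ω' := by
    intro ω' hω'
    rw [hvdef, hDval ωc mc ec mb u' hu' ω' hω']
    exact Perm.zpow_apply_eq_self_of_apply_eq_self (hu'c ω' hω') _
  have hva : v ωa ≠ ωa := by
    intro hcon
    have hself : ωa ∈ MulAction.orbit P ωa := MulAction.mem_orbit_self _
    rw [hvdef, hDval ωa ma ea mb u' hu' ωa hself] at hcon
    have h1 : u' ωa = ωa := h.fix_of_zpow_fix hu' hab hcon
    rw [hu'def, hDval ωa ma ea mc u hu ωa hself] at h1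
    exact hmove (h.fix_of_zpow_fix hu hac h1)
  refine ⟨v, hv, ?_, ?_⟩
  · intro h1
    apply hva
    rw [h1]; rfl
  · intro ω hω
    have hωΦ : ω ∉ Φ := fun hc => hω (h.fix_of_mem hv hc)
    rcases hcov ω hωΦ with h1 | h1 | h1
    · exact h1
    · exact absurd (hvb ω h1) hω
    · exact absurd (hvc ω h1) hω

/-- Scalar action or a nontrivial element of `P` supported on a single orbit. -/
theorem dichotomy (h : Cfg G p Φ P) {k r : ℕ} (hn : Fintype.card α = k * p + r)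
    (hr : Φ.card = r) (hk : 1 ≤ k) (hk3 : k ≤ 3) {x : Perm α} (hx : x ∈ MM P Φ) :
    (∃ m : ℤ, ∀ u ∈ P, ∀ ω, ω ∉ Φ → (x * u * x⁻¹) ω = (u ^ m) ω) ∨
    (2 ≤ k ∧ ∃ v ∈ P, v ≠ 1 ∧ ∃ ωa, ωa ∉ Φ ∧ ∀ ω, v ω ≠ ω → ω ∈ MulAction.orbit P ωa) := by
  have hcompl : (Φᶜ).card = k * p := by
    rw [Finset.card_compl, hn, hr, Nat.add_sub_cancel]
  have hne : (Φᶜ).Nonempty := by
    rw [← Finset.card_pos, hcompl]
    exact Nat.mul_pos hk h.hp.pos
  obtain ⟨ω1, hω1⟩ := hne
  rw [Finset.mem_compl] at hω1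
  obtain ⟨m1, e1⟩ := h.expo_exists hx hω1
  have e1' : Expo P x ω1 m1 := e1
  by_cases hA : ∀ ω, ω ∉ Φ → Expo P x ω m1
  · left
    exact ⟨m1, fun u hu ω hω => hA ω hω u hu ω (MulAction.mem_orbit_self ω)⟩
  · right
    push Not at hA
    obtain ⟨ω2, hω2, hne2⟩ := hA
    obtain ⟨m2, e2⟩ := h.expo_exists hx hω2
    have e2' : Expo P x ω2 m2 := e2
    have h12 : ¬ (p : ℤ) ∣ m2 - m1 := fun hd => hne2 (h.expo_congr e2' hd)
    have h12' : ¬ (p : ℤ) ∣ m1 - m2 := fun hd => h12 (by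
      have := dvd_neg.mpr hd
      simpa using this)
    have h21 : ω2 ∉ MulAction.orbit P ω1 := by
      intro hc
      apply hne2
      intro u hu ω' hω'
      rw [MulAction.orbit_eq_iff.mpr hc] at hω'
      exact e1' u hu ω' hω'
    have hk2 : 2 ≤ k := h.two_le_k hn hr hω1 hω2 h21
    refine ⟨hk2, ?_⟩
    by_cases hB : ∀ ω, ω ∉ Φ → ω ∈ MulAction.orbit P ω1 ∨ ω ∈ MulAction.orbit P ω2
    · obtain ⟨v, hv, hv1, hvs⟩ := h.triple hx hω1 e1' e2' e2' h12' h12'
        (fun ω hω => by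
          rcases hB ω hω with h1 | h1
          · exact Or.inl h1
          · exact Or.inr (Or.inl h1))
      exact ⟨v, hv, hv1, ω1, hω1, hvs⟩
    · push Not at hB
      obtain ⟨ω3, hω3, h31, h32⟩ := hB
      obtain ⟨m3, e3⟩ := h.expo_exists hx hω3
      have e3' : Expo P x ω3 m3 := e3
      have hcov : ∀ ω, ω ∉ Φ → ω ∈ MulAction.orbit P ω1 ∨ ω ∈ MulAction.orbit P ω2 ∨
          ω ∈ MulAction.orbit P ω3 := by
        intro ω hω
        by_contra hcon
        push Not at hcon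
        have := h.four_le_k hn hr hω1 hω2 hω3 hω h21 h31 hcon.1 h32 hcon.2.1 hcon.2.2
        omega
      by_cases h13 : (p : ℤ) ∣ m3 - m1
      · -- ω2 is the odd one out
        have h23 : ¬ (p : ℤ) ∣ m2 - m3 := by
          intro hd
          apply h12
          have := dvd_add hd h13
          simpa using this
        obtain ⟨v, hv, hv1, hvs⟩ := h.triple hx hω2 e2' e1' e3' h12 h23
          (fun ω hω => by
            rcases hcov ω hω with h1 | h1 | h1
            · exact Or.inr (Or.inl h1)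
            · exact Or.inl h1
            · exact Or.inr (Or.inr h1))
        exact ⟨v, hv, hv1, ω2, hω2, hvs⟩
      · have h13' : ¬ (p : ℤ) ∣ m1 - m3 := fun hd => h13 (by
          have := dvd_neg.mpr hd
          simpa using this)
        obtain ⟨v, hv, hv1, hvs⟩ := h.triple hx hω1 e1' e2' e3' h12' h13' hcov
        exact ⟨v, hv, hv1, ω1, hω1, hvs⟩

/-- A nontrivial element of `P` supported on one orbit is a `p`-cycle. -/
theorem isCycle_of_support (h : Cfg G p Φ P) {v : Perm α} (hv : v ∈ P) (hv1 : v ≠ 1) {ωa : α}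
    (hωa : ωa ∉ Φ) (hvs : ∀ ω, v ω ≠ ω → ω ∈ MulAction.orbit P ωa) :
    v.IsCycle ∧ v.support.card = p := by
  haveI : Fact p.Prime := ⟨h.hp⟩
  have hord : orderOf v = p := orderOf_eq_prime (h.pow_p_eq_one hv) hv1
  have hsub : v.support ⊆ orbF P ωa := by
    intro ω hω
    rw [Perm.mem_support] at hω
    rw [mem_orbF]
    exact hvs ω hω
  have hle : v.support.card ≤ p := by
    rw [← h.card_orbF hωa]; exact Finset.card_le_card hsub
  have hcyc : v.IsCycle := by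
    apply Perm.isCycle_of_prime_order
    · rw [hord]; exact h.hp
    · rw [hord]
      have := h.hp.pos
      omega
  exact ⟨hcyc, by rw [← hcyc.orderOf, hord]⟩

end Cfg

end Cfsg.Agent.helper20.Mill
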