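import Mathlib
import Cfsg.Agent.Lib_helper20_MillC

set_option autoImplicit false
set_option linter.style.haveILetI false
set_option linter.unusedSectionVars false

/-! Final local steps: elements of `G` supported on `Φ`. -/

namespace Cfsg.Agent.helper20.Mill

open Equiv MulAction

variable {α : Type*} [Fintype α] [DecidableEq α]

theorem sign_viaEmb {β γ : Type*} [Fintype β] [DecidableEq β] [Fintype γ] [DecidableEq γ]
    (ι : β ↪ γ) (e : Perm β) : Perm.sign (Perm.viaEmbeddingHom ι e) = Perm.sign e := by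
  rw [Perm.viaEmbeddingHom_apply]
  unfold Perm.viaEmbedding
  exact @Perm.sign_extendDomain β _ γ _ _ _ e (fun x => x ∈ Set.range ι)
    (fun a => Classical.propDecidable _) (ofInjective ι.1 ι.2)

set_option maxRecDepth 100000 in
theorem fin5_pow3 : (((swap (2:Fin 5) 3 * swap 3 4) * (swap 0 1 * swap 1 2))⁻¹ *
    ((swap 0 1 * swap 1 2) * (swap 2 3 * swap 3 4))) ^ 3 = 1 := by decide

set_option maxRecDepth 100000 in
theorem fin5_ne : (((swap (2:Fin 5) 3 * swap 3 4) * (swap 0 1 * swap 1 2))⁻¹ *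
    ((swap 0 1 * swap 1 2) * (swap 2 3 * swap 3 4))) ≠ 1 := by decide

namespace Cfg

variable {G : Subgroup (Perm α)} {p : ℕ} {Φ : Finset α} {P : Subgroup (Perm α)}

/-- The finishing step. -/
theorem finish (h : Cfg G p Φ P) (z : ↥(G ⊓ Nz P)) (hzM : z.1 ∈ MM P Φ)
    (hzc : ∀ u ∈ P, z.1 * u = u * z.1) (hne : (h.res z) ^ p ≠ 1) :
    ∃ g ∈ G, g ≠ 1 ∧ ∀ ω, ω ∉ Φ → g ω = ω := by
  refine ⟨z.1 ^ p, pow_mem z.2.1 p, ?_, fun ω hω => h.pow_p_fix_of_comm hzM hzc hω⟩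
  intro hcon
  apply hne
  have h1 : z ^ p = 1 := by
    apply Subtype.ext
    rw [Subgroup.coe_pow]; exact hcon
  rw [← map_pow, h1, map_one]

/-- The scalar route (`k ≤ 3`). -/
theorem local_small (h : Cfg G p Φ P) {k r : ℕ} (hn : Fintype.card α = k * p + r)
    (hr : Φ.card = r) (hk : 1 ≤ k) (hk3 : k ≤ 3) {m0 : ℕ} (ι : Fin m0 ↪ Φ)
    (σ0 τ0 : Perm (Fin m0))
    (hw : ((τ0 * σ0 ^ k.factorial * τ0⁻¹)⁻¹ * σ0 ^ k.factorial) ^ p ≠ 1) :
    (∃ g ∈ G, g ≠ 1 ∧ ∀ ω, ω ∉ Φ → g ω = ω) ∨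
    (2 ≤ k ∧ ∃ v ∈ G, v.IsCycle ∧ v.support.card = p) := by
  obtain ⟨y, hy⟩ := h.res_surj (Perm.viaEmbeddingHom ι σ0)
  obtain ⟨t, ht⟩ := h.res_surj (Perm.viaEmbeddingHom ι τ0)
  have hxM : (y ^ k.factorial).1 ∈ MM P Φ := by
    rw [Subgroup.coe_pow]
    exact h.pow_factorial_mem_MM hn hr y.2.2
  rcases h.dichotomy hn hr hk hk3 hxM with ⟨m, hm⟩ | ⟨hk2, v, hv, hv1, ωa, hωa, hvs⟩
  · left
    set x := y ^ k.factorial with hxdef
    have hzM : ((t * x * t⁻¹)⁻¹ * x).1 ∈ MM P Φ := by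
      have h1 : ((t * x * t⁻¹)⁻¹ * x).1 = (t.1 * x.1 * t.1⁻¹)⁻¹ * x.1 := rfl
      rw [h1]
      exact mul_mem (inv_mem (h.conj_mem_MM hxM t.2.2)) hxM
    have hzc : ∀ u ∈ P, ((t * x * t⁻¹)⁻¹ * x).1 * u = u * ((t * x * t⁻¹)⁻¹ * x).1 :=
      h.scalar_comm hxM t.2.2 m hm
    apply h.finish _ hzM hzc
    have h2 : h.res ((t * x * t⁻¹)⁻¹ * x) = Perm.viaEmbeddingHom ι
        ((τ0 * σ0 ^ k.factorial * τ0⁻¹)⁻¹ * σ0 ^ k.factorial) := by
      simp only [map_mul, map_inv, map_pow, hxdef, hy, ht]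
    rw [h2, ← map_pow]
    intro hcon
    apply hw
    apply Perm.viaEmbeddingHom_injective ι
    rw [hcon, map_one]
  · right
    exact ⟨hk2, v, h.hPG hv, h.isCycle_of_support hv hv1 hωa hvs⟩

/-- The set of `P`-orbits outside `Φ`. -/
noncomputable def OO (P : Subgroup (Perm α)) (Φ : Finset α) : Finset (Finset α) :=
  Φᶜ.image (orbF P)

theorem image_orbF {x : Perm α} (hx : x ∈ Nz P) (ω : α) :
    (orbF P ω).image x = orbF P (x ω) := by
  ext a
  rw [Finset.mem_image, mem_orbF]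
  constructor
  · rintro ⟨b, hb, rfl⟩
    rw [mem_orbF] at hb
    obtain ⟨u, hu, rfl⟩ := mem_orbit_P.mp hb
    refine mem_orbit_P.mpr ⟨x * u * x⁻¹, conj_mem_of_normalizer hx hu, ?_⟩
    simp [Perm.mul_apply]
  · intro ha
    obtain ⟨u, hu, rfl⟩ := mem_orbit_P.mp ha
    refine ⟨(x⁻¹ * u * x) ω, ?_, ?_⟩
    · rw [mem_orbF]
      exact mem_orbit_P.mpr ⟨x⁻¹ * u * x, conj_mem_of_normalizer' hx hu, rfl⟩
    · simp [Perm.mul_apply]

theorem image_mem_OO (h : Cfg G p Φ P) {x : Perm α} (hx : x ∈ Nz P) {O : Finset α}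
    (hO : O ∈ OO P Φ) : O.image x ∈ OO P Φ := by
  unfold OO at hO ⊢
  rw [Finset.mem_image] at hO ⊢
  obtain ⟨ω, hω, rfl⟩ := hO
  rw [Finset.mem_compl] at hω
  exact ⟨x ω, Finset.mem_compl.mpr (h.normalizer_maps_compl hx hω), (image_orbF hx ω).symm⟩

/-- The action of the normaliser on the set of orbits. -/
noncomputable def psi (h : Cfg G p Φ P) : ↥(G ⊓ Nz P) →* Perm ↥(OO P Φ) where
  toFun x :=
    { toFun := fun O => ⟨O.1.image x.1, h.image_mem_OO x.2.2 O.2⟩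
      invFun := fun O => ⟨O.1.image (x.1⁻¹ : Perm α),
        h.image_mem_OO ((Nz P).inv_mem x.2.2) O.2⟩
      left_inv := fun O => by
        apply Subtype.ext
        simp only [Finset.image_image]
        have : ((x.1⁻¹ : Perm α) : α → α) ∘ (x.1 : α → α) = id := by
          funext a; simp
        rw [this, Finset.image_id]
      right_inv := fun O => by
        apply Subtype.ext
        simp only [Finset.image_image]
        have : (x.1 : α → α) ∘ ((x.1⁻¹ : Perm α) : α → α) = id := by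
          funext a; simp
        rw [this, Finset.image_id] }
  map_one' := by
    ext O
    simp
  map_mul' x y := by
    ext O
    simp [Finset.image_image, Perm.coe_mul]

theorem psi_apply (h : Cfg G p Φ P) (x : ↥(G ⊓ Nz P)) (O : ↥(OO P Φ)) :
    ((h.psi x) O : Finset α) = O.1.image x.1 := rfl

theorem ker_psi_le_MM (h : Cfg G p Φ P) {x : ↥(G ⊓ Nz P)} (hx : x ∈ h.psi.ker) :
    x.1 ∈ MM P Φ := by
  rw [mem_MM]
  refine ⟨x.2.2, fun ω hω => ?_⟩
  have hO : orbF P ω ∈ OO P Φ := by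
    unfold OO
    exact Finset.mem_image.mpr ⟨ω, Finset.mem_compl.mpr hω, rfl⟩
  have h1 : (h.psi x) ⟨orbF P ω, hO⟩ = ⟨orbF P ω, hO⟩ := by
    rw [MonoidHom.mem_ker.mp hx]; rfl
  have h2 : (orbF P ω).image x.1 = orbF P ω := congrArg Subtype.val h1
  have h3 : x.1 ω ∈ orbF P ω := by
    rw [← h2]
    exact Finset.mem_image.mpr ⟨ω, mem_orbF.mpr (MulAction.mem_orbit_self ω), rfl⟩
  rw [mem_orbF] at h3
  obtain ⟨u, hu, hu2⟩ := mem_orbit_P.mp h3
  exact ⟨u, hu, hu2.symm⟩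

theorem card_OO_le (h : Cfg G p Φ P) {k r : ℕ} (hn : Fintype.card α = k * p + r)
    (hr : Φ.card = r) : (OO P Φ).card ≤ k := by
  classical
  have hex : ∀ O : ↥(OO P Φ), ∃ ω, ω ∉ Φ ∧ orbF P ω = O.1 := by
    intro O
    have := O.2
    unfold OO at this
    obtain ⟨ω, hω, hωO⟩ := Finset.mem_image.mp this
    exact ⟨ω, Finset.mem_compl.mp hω, hωO⟩
  choose rep hrep1 hrep2 using hex
  let e : Fin (OO P Φ).card ≃ ↥(OO P Φ) := (OO P Φ).equivFin.symm
  refine h.card_mul_le hn hr (fun i => rep (e i)) (fun i => hrep1 _) ?_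
  intro i j hij hmem
  have h1 : MulAction.orbit P (rep (e j)) = MulAction.orbit P (rep (e i)) :=
    MulAction.orbit_eq_iff.mpr hmem
  have h2 : orbF P (rep (e j)) = orbF P (rep (e i)) := by
    ext a; rw [mem_orbF, mem_orbF, h1]
  rw [hrep2, hrep2] at h2
  have h3 : e j = e i := Subtype.ext h2
  have h4 : j = i := e.injective h3
  exact (ne_of_lt hij) h4.symm

/-- Route G: `r ≥ 5`, `k < r`, `p ≠ 3`. -/
theorem local_big (h : Cfg G p Φ P) {k r : ℕ} (hn : Fintype.card α = k * p + r)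
    (hr : Φ.card = r) (hk : 1 ≤ k) (hkr : k < r) (hr5 : 5 ≤ r) (hp3 : p ≠ 3) :
    ∃ g ∈ G, g ≠ 1 ∧ ∀ ω, ω ∉ Φ → g ω = ω := by
  classical
  have hcardΦ : Nat.card Φ = r := by
    rw [Nat.card_eq_fintype_card, Fintype.card_coe, hr]
  -- B := image of ker psi in Perm Φ is normal and nontrivial
  have hBn : (h.psi.ker.map h.res).Normal :=
    Subgroup.Normal.map (MonoidHom.normal_ker h.psi) h.res h.res_surj
  have hBnt : Nontrivial (h.psi.ker.map h.res) := by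
    rw [Subgroup.nontrivial_iff_ne_bot]
    intro hbot
    rw [Subgroup.map_eq_bot_iff] at hbot
    have h1 : h.res.ker.index ∣ h.psi.ker.index := Subgroup.index_dvd_of_le hbot
    rw [Subgroup.index_ker, Subgroup.index_ker] at h1
    have h2 : Nat.card h.res.range = r.factorial := by
      rw [MonoidHom.range_eq_top.mpr h.res_surj, Subgroup.card_top, Nat.card_perm, hcardΦ]
    have h3 : Nat.card h.psi.range ≤ k.factorial := by
      refine (Subgroup.card_le_card_group _).trans ?_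
      rw [Nat.card_perm, Nat.card_eq_fintype_card, Fintype.card_coe]
      exact Nat.factorial_le (h.card_OO_le hn hr)
    have h4 : 0 < Nat.card h.psi.range := Nat.card_pos
    rw [h2] at h1
    have h5 := Nat.le_of_dvd h4 h1
    have h6 : k.factorial < r.factorial := (Nat.factorial_lt hk).mpr hkr
    omega
  have hA := @Equiv.Perm.alternatingGroup_le_of_normal Φ _ _
    (by rw [hcardΦ]; exact hr5) (h.psi.ker.map h.res) hBn hBnt
  -- an embedding Fin 5 ↪ Φ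
  have hι : Nonempty (Fin 5 ↪ Φ) := by
    rw [Function.Embedding.nonempty_iff_card_le]
    simp only [Fintype.card_fin, Fintype.card_coe, hr]; exact hr5
  obtain ⟨ι⟩ := hι
  let σ0 : Perm (Fin 5) := swap 0 1 * swap 1 2
  let τ0 : Perm (Fin 5) := swap 2 3 * swap 3 4
  have hσA : Perm.viaEmbeddingHom ι σ0 ∈ alternatingGroup Φ := by
    rw [Perm.mem_alternatingGroup, sign_viaEmb]; decide
  have hτA : Perm.viaEmbeddingHom ι τ0 ∈ alternatingGroup Φ := by
    rw [Perm.mem_alternatingGroup, sign_viaEmb]; decide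
  obtain ⟨x, hxk, hx⟩ := hA hσA
  obtain ⟨y, hyk, hy⟩ := hA hτA
  have hxM := h.ker_psi_le_MM hxk
  have hyM := h.ker_psi_le_MM hyk
  have hzM : ((y * x)⁻¹ * (x * y)).1 ∈ MM P Φ := by
    have h1 : ((y * x)⁻¹ * (x * y)).1 = (y.1 * x.1)⁻¹ * (x.1 * y.1) := rfl
    rw [h1]
    exact mul_mem (inv_mem (mul_mem hyM hxM)) (mul_mem hxM hyM)
  have hzc : ∀ u ∈ P, ((y * x)⁻¹ * (x * y)).1 * u = u * ((y * x)⁻¹ * (x * y)).1 := by
    intro u hu
    have h1 : ((y * x)⁻¹ * (x * y)).1 = (y.1 * x.1)⁻¹ * (x.1 * y.1) := rfl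
    rw [h1]
    have h2 := h.comm_conj hxM hyM hu
    calc (y.1 * x.1)⁻¹ * (x.1 * y.1) * u
        = (y.1 * x.1)⁻¹ * ((x.1 * y.1) * u * (x.1 * y.1)⁻¹) * (x.1 * y.1) := by group
      _ = (y.1 * x.1)⁻¹ * ((y.1 * x.1) * u * (y.1 * x.1)⁻¹) * (x.1 * y.1) := by rw [h2]
      _ = u * ((y.1 * x.1)⁻¹ * (x.1 * y.1)) := by group
  apply h.finish _ hzM hzc
  have h2 : h.res ((y * x)⁻¹ * (x * y)) = Perm.viaEmbeddingHom ι
      ((τ0 * σ0)⁻¹ * (σ0 * τ0)) := by
    simp only [map_mul, map_inv, hx, hy]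
  rw [h2, ← map_pow]
  intro hcon
  have h3 : ((τ0 * σ0)⁻¹ * (σ0 * τ0)) ^ p = 1 := by
    apply Perm.viaEmbeddingHom_injective ι
    rw [hcon, map_one]
  have h4 : ((τ0 * σ0)⁻¹ * (σ0 * τ0)) ^ 3 = 1 := fin5_pow3
  have h5 : ((τ0 * σ0)⁻¹ * (σ0 * τ0)) ≠ 1 := fin5_ne
  have h6 : orderOf ((τ0 * σ0)⁻¹ * (σ0 * τ0)) = 3 := by
    haveI : Fact (Nat.Prime 3) := ⟨Nat.prime_three⟩
    exact orderOf_eq_prime h4 h5
  have h7 : 3 ∣ p := by
    rw [← h6]; exact orderOf_dvd_of_pow_eq_one h3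
  exact hp3 ((Nat.prime_dvd_prime_iff_eq Nat.prime_three h.hp).mp h7).symm

end Cfg

end Cfsg.Agent.helper20.Mill
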