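import Mathlib
import Cfsg.Agent.Lib_helper5_Sylow
import Cfsg.Agent.Lib_helper20_MillD

set_option autoImplicit false
set_option linter.style.haveILetI false
set_option linter.unusedSectionVars false

/-! Construction of the local configuration from multiple transitivity. -/

namespace Cfsg.Agent.helper20.Mill

open Equiv MulAction

variable {α : Type*} [Fintype α] [DecidableEq α]

theorem mem_normalizer_of_conj_mem {P : Subgroup (Perm α)} {x : Perm α}
    (hx : ∀ u ∈ P, x * u * x⁻¹ ∈ P) : x ∈ Nz P := by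
  rw [Subgroup.mem_normalizer_iff]
  intro u
  refine ⟨hx u, fun hu => ?_⟩
  let f : P → P := fun n => ⟨x * n.1 * x⁻¹, hx n.1 n.2⟩
  have hf : Function.Injective f := by
    intro n1 n2 h12
    have h1 : x * n1.1 * x⁻¹ = x * n2.1 * x⁻¹ := congrArg Subtype.val h12
    apply Subtype.ext
    exact mul_left_cancel (mul_right_cancel h1)
  obtain ⟨m, hm⟩ := Finite.surjective_of_injective hf ⟨_, hu⟩
  have h1 : x * m.1 * x⁻¹ = x * u * x⁻¹ := congrArg Subtype.val hm
  have h2 : m.1 = u := mul_left_cancel (mul_right_cancel h1)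
  rw [← h2]; exact m.2

/-- Transitivity of the pointwise stabiliser of `Φ` on the complement. -/
theorem exists_fix_map (G : Subgroup (Perm α)) {r : ℕ}
    (hG : IsMultiplyPretransitive G α (r + 1)) (ht : r + 1 ≤ Fintype.card α)
    (Φ : Finset α) (hr : Φ.card = r) {ω ω' : α} (hω : ω ∉ Φ) (hω' : ω' ∉ Φ) :
    ∃ g ∈ G ⊓ pfix Φ, g ω = ω' := by
  obtain ⟨g, hg, hag⟩ := exists_mem_agree G hG ht (insert ω Φ)
    (by rw [Finset.card_insert_of_notMem hω, hr]) (swap ω ω')
  refine ⟨g, ⟨hg, fun a ha => ?_⟩, ?_⟩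
  · rw [hag a (Finset.mem_insert_of_mem ha)]
    apply swap_apply_of_ne_of_ne
    · rintro rfl; exact hω ha
    · rintro rfl; exact hω' ha
  · rw [hag ω (Finset.mem_insert_self _ _)]
    exact swap_apply_left _ _

theorem exists_cfg (G : Subgroup (Perm α)) {k p r : ℕ} (hp : p.Prime)
    (hn : Fintype.card α = k * p + r) (hk : 1 ≤ k) (hpk : k < p)
    (hG : IsMultiplyPretransitive G α (r + 1)) (Φ : Finset α) (hr : Φ.card = r) :
    ∃ P, Cfg G p Φ P := by
  classical
  haveI : Fact p.Prime := ⟨hp⟩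
  have hkp : 0 < k * p := Nat.mul_pos hk hp.pos
  have ht : r + 1 ≤ Fintype.card α := by omega
  set H : Subgroup (Perm α) := G ⊓ pfix Φ with hH
  obtain ⟨P0⟩ : Nonempty (Sylow p H) := inferInstance
  set P : Subgroup (Perm α) := (P0 : Subgroup H).map H.subtype with hPdef
  have hPH : P ≤ H := Subgroup.map_subtype_le _
  have hPp : IsPGroup p P := P0.isPGroup'.map _
  have hcardP : Nat.card P = p ^ (Nat.card H).factorization p := by
    rw [← P0.card_eq_multiplicity]
    exact Nat.card_congr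
      (Subgroup.equivMapOfInjective _ _ (Subgroup.subtype_injective _)).symm.toEquiv
  have hcompl : (Φᶜ).card = k * p := by
    rw [Finset.card_compl, hn, hr, Nat.add_sub_cancel]
  -- orbits
  have horb : ∀ ω, ω ∉ Φ → Nat.card (MulAction.orbit P ω) = p := by
    intro ω hω
    obtain ⟨a, ha⟩ := hPp.card_orbit ω
    have hsubset : (MulAction.orbit P ω) ⊆ ((Φᶜ : Finset α) : Set α) := by
      intro b hb
      obtain ⟨u, hu, rfl⟩ := mem_orbit_P.mp hb
      simp only [Finset.coe_compl, Set.mem_compl_iff, Finset.mem_coe]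
      intro hc
      have h1 : u⁻¹ (u ω) = u ω := (hPH (P.inv_mem hu)).2 _ hc
      have h2 : u ω = ω := by simpa using h1.symm
      exact hω (h2 ▸ hc)
    have hle : Nat.card (MulAction.orbit P ω) ≤ k * p := by
      rw [Nat.card_coe_set_eq, ← hcompl, ← Set.ncard_coe_finset]
      exact Set.ncard_le_ncard hsubset (Finset.finite_toSet _)
    have ha0 : a ≠ 0 := by
      rintro rfl
      rw [pow_zero] at ha
      -- every element of P fixes ω
      have hfixall : ∀ u ∈ P, u ω = ω := by
        intro u hu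
        have hsub : Subsingleton (MulAction.orbit P ω) :=
          Finite.card_le_one_iff_subsingleton.mp ha.le
        have h1 : (⟨u ω, mem_orbit_P.mpr ⟨u, hu, rfl⟩⟩ : MulAction.orbit P ω) =
            ⟨ω, MulAction.mem_orbit_self ω⟩ := Subsingleton.elim _ _
        exact congrArg Subtype.val h1
      have hle' : (P0 : Subgroup H) ≤ MulAction.stabilizer H ω := by
        intro u hu
        rw [MulAction.mem_stabilizer_iff]
        exact hfixall u.1 ⟨u, hu, rfl⟩
      have hdvd := Subgroup.index_dvd_of_le hle'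
      have horbH : (MulAction.orbit H ω) = ((Φᶜ : Finset α) : Set α) := by
        ext b
        simp only [Finset.coe_compl, Set.mem_compl_iff, Finset.mem_coe]
        constructor
        · intro hb
          obtain ⟨g, hg⟩ := MulAction.mem_orbit_iff.mp hb
          intro hc
          have hgH : g.1 ∈ pfix Φ := g.2.2
          have h1 : g.1⁻¹ b = b := (pfix Φ).inv_mem hgH b hc
          have h2 : g.1 ω = b := hg
          have h3 : ω = b := by
            have h4 : g.1⁻¹ (g.1 ω) = g.1 ω := by rw [h2]; exact h1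
            have h5 : ω = g.1 ω := by simpa using h4
            exact h5.trans h2
          exact hω (h3 ▸ hc)
        · intro hb
          obtain ⟨g, hg, hgω⟩ := exists_fix_map G hG ht Φ hr hω hb
          exact MulAction.mem_orbit_iff.mpr ⟨⟨g, hg⟩, hgω⟩
      rw [MulAction.index_stabilizer, horbH, Set.ncard_coe_finset, hcompl] at hdvd
      exact P0.not_dvd_index ((dvd_mul_left p k).trans hdvd)
    have ha2 : a < 2 := by
      by_contra hcon
      push Not at hcon
      have h1 : p ^ 2 ≤ p ^ a := Nat.pow_le_pow_right hp.pos hcon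
      have h2 : k * p < p ^ 2 := by
        rw [pow_two]; exact Nat.mul_lt_mul_of_pos_right hpk hp.pos
      omega
    have ha1 : a = 1 := by omega
    rw [ha, ha1, pow_one]
  -- Witt
  have hWitt : ∀ σ : Perm Φ, ∃ x ∈ G, x ∈ Nz P ∧ ∀ a : Φ, x a = σ a := by
    intro σ
    obtain ⟨g, hg, hag⟩ := exists_mem_agree G hG ht Φ (by omega) (Perm.ofSubtype σ)
    have hgσ : ∀ a : Φ, g a = σ a := by
      intro a
      rw [hag a.1 a.2, Perm.ofSubtype_apply_coe]
    have hginv : ∀ b, b ∈ Φ → g⁻¹ b ∈ Φ := by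
      intro b hb
      have h1 : g (σ⁻¹ ⟨b, hb⟩ : Φ) = b := by
        rw [hgσ]; simp
      have h2 : g⁻¹ b = (σ⁻¹ ⟨b, hb⟩ : Φ) := by
        rw [Perm.inv_eq_iff_eq]; exact h1.symm
      rw [h2]; exact (σ⁻¹ ⟨b, hb⟩ : Φ).2
    have hQH : P.map (MulAut.conj g).toMonoidHom ≤ H := by
      rintro _ ⟨u, hu, rfl⟩
      simp only [MulEquiv.coe_toMonoidHom, MulAut.conj_apply]
      refine ⟨G.mul_mem (G.mul_mem hg (hPH hu).1) (G.inv_mem hg), fun b hb => ?_⟩
      show g (u (g⁻¹ b)) = b
      rw [(hPH hu).2 _ (hginv b hb)]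
      simp
    obtain ⟨z, hz, hzP⟩ := helper5.exists_conj_le_of_card p H P hPH hcardP
      (P.map (MulAut.conj g).toMonoidHom) (hPp.map _) hQH
    refine ⟨z⁻¹ * g, G.mul_mem (G.inv_mem hz.1) hg, ?_, ?_⟩
    · apply mem_normalizer_of_conj_mem
      intro u hu
      have h1 := hzP (g * u * g⁻¹) ⟨u, hu, by simp [MulAut.conj_apply]⟩
      have h2 : z⁻¹ * g * u * (z⁻¹ * g)⁻¹ = z⁻¹ * (g * u * g⁻¹) * z := by group
      rw [h2]; exact h1
    · intro a
      show z⁻¹ (g a) = σ a
      rw [hgσ a]
      exact (pfix Φ).inv_mem hz.2 _ (σ a).2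
  exact ⟨P, ⟨hp, hPH.trans inf_le_left, hPH.trans inf_le_right, hPp, horb, hWitt⟩⟩

end Cfsg.Agent.helper20.Mill
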