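import Mathlib
import Cfsg.Agent.Lib_helper20_MillE

set_option autoImplicit false
set_option linter.style.haveILetI false
set_option linter.unusedSectionVars false

/-! Assembly: the case `k ≤ 3`, the case `k = 1`, Jordan's theorem on prime cycles. -/

namespace Cfsg.Agent.helper20.Mill

open Equiv MulAction

variable {α : Type*} [Fintype α] [DecidableEq α]

theorem pow_ne_one_of_prime_order {M : Type*} [Group M] {w : M} {q p : ℕ} (hq : q.Prime)
    (hp : p.Prime) (hqp : q ≠ p) (hw1 : w ≠ 1) (hwq : w ^ q = 1) : w ^ p ≠ 1 := by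
  intro hcon
  haveI : Fact q.Prime := ⟨hq⟩
  have h1 : orderOf w = q := orderOf_eq_prime hwq hw1
  have h2 : q ∣ p := by rw [← h1]; exact orderOf_dvd_of_pow_eq_one hcon
  exact hqp ((Nat.prime_dvd_prime_iff_eq hq hp).mp h2)

/-- From an element supported on `Φ` to the conclusion. -/
theorem alt_le_of_fix_compl (G : Subgroup (Perm α)) {r : ℕ}
    (hG : IsMultiplyPretransitive G α (r + 1)) (ht : r + 1 ≤ Fintype.card α)
    (h5 : 5 ≤ Fintype.card α) (Φ : Finset α) (hr : Φ.card = r) {g : Perm α} (hg : g ∈ G)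
    (hg1 : g ≠ 1) (hfix : ∀ ω, ω ∉ Φ → g ω = ω) : alternatingGroup α ≤ G := by
  apply alt_le_of_small_support G hG ht h5 g hg hg1
  have hsub : g.support ⊆ Φ := by
    intro ω hω
    by_contra hc
    exact (Perm.mem_support.mp hω) (hfix ω hc)
  have := Finset.card_le_card hsub
  omega

/-- The case `k ≤ 3`. -/
theorem main_small (G : Subgroup (Perm α)) {k p r : ℕ} (hp : p.Prime)
    (hn : Fintype.card α = k * p + r) (hk : 1 ≤ k) (hk3 : k ≤ 3) (hpk : k < p) (hr3 : 3 ≤ r)
    (hG : IsMultiplyPretransitive G α (r + 1)) {m0 : ℕ} (hm0 : m0 ≤ r)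
    (σ0 τ0 : Perm (Fin m0))
    (hw : ((τ0 * σ0 ^ k.factorial * τ0⁻¹)⁻¹ * σ0 ^ k.factorial) ^ p ≠ 1)
    (hJ : 2 ≤ k → ∀ v ∈ G, v.IsCycle → v.support.card = p → alternatingGroup α ≤ G) :
    alternatingGroup α ≤ G := by
  have hkp : 2 ≤ k * p := by
    have := hp.two_le
    nlinarith
  obtain ⟨Φ, -, hΦ⟩ := Finset.exists_subset_card_eq (s := (Finset.univ : Finset α)) (n := r)
    (by rw [Finset.card_univ]; omega)
  obtain ⟨P, hcfg⟩ := exists_cfg G hp hn hk hpk hG Φ hΦ
  have hι : Nonempty (Fin m0 ↪ Φ) := by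
    rw [Function.Embedding.nonempty_iff_card_le]
    simp only [Fintype.card_fin, Fintype.card_coe, hΦ]; exact hm0
  obtain ⟨ι⟩ := hι
  rcases hcfg.local_small hn hΦ hk hk3 ι σ0 τ0 hw with ⟨g, hg, hg1, hfix⟩ | ⟨hk2, v, hv, hvc, hvp⟩
  · exact alt_le_of_fix_compl G hG (by omega) (by omega) Φ hΦ hg hg1 hfix
  · exact hJ hk2 v hv hvc hvp

set_option maxRecDepth 100000 in
theorem fin3_ne : ((swap (0 : Fin 3) 1 * (swap 0 1 * swap 1 2) ^ Nat.factorial 1 *
    (swap 0 1)⁻¹)⁻¹ * (swap 0 1 * swap 1 2) ^ Nat.factorial 1) ≠ 1 := by decide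

set_option maxRecDepth 100000 in
theorem fin3_pow : ((swap (0 : Fin 3) 1 * (swap 0 1 * swap 1 2) ^ Nat.factorial 1 *
    (swap 0 1)⁻¹)⁻¹ * (swap 0 1 * swap 1 2) ^ Nat.factorial 1) ^ 3 = 1 := by decide

/-- The case `k = 1` (`p ≠ 3`). -/
theorem K1 (G : Subgroup (Perm α)) {p r : ℕ} (hp : p.Prime) (hp3 : p ≠ 3)
    (hr3 : 3 ≤ r) (hn : Fintype.card α = 1 * p + r)
    (hG : IsMultiplyPretransitive G α (r + 1)) : alternatingGroup α ≤ G := by
  have h2 := hp.two_le
  refine main_small G hp hn le_rfl (by norm_num) (by omega) hr3 hG (m0 := 3) hr3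
    (swap 0 1 * swap 1 2) (swap 0 1) ?_ (fun h => absurd h (by norm_num))
  exact pow_ne_one_of_prime_order Nat.prime_three hp (Ne.symm hp3) fin3_ne fin3_pow

/-- Jordan's theorem: a primitive group containing a cycle of prime length `p ≤ n - 3`
contains the alternating group. -/
theorem jordan_prime_cycle (G : Subgroup (Perm α)) (h2 : IsMultiplyPretransitive G α 2)
    {p : ℕ} (hp : p.Prime) {c : Perm α} (hc : c.IsCycle) (hcp : c.support.card = p)
    (hcG : c ∈ G) (hn : p + 3 ≤ Fintype.card α) : alternatingGroup α ≤ G := by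
  have hprim : IsPreprimitive G α := isPreprimitive_of_is_two_pretransitive h2
  by_cases hp2 : p = 2
  · have hsw : c.IsSwap := Perm.card_support_eq_two.mp (by rw [hcp, hp2])
    rw [Equiv.Perm.subgroup_eq_top_of_isPreprimitive_of_isSwap_mem hprim c hsw hcG]
    exact le_top
  by_cases hp3 : p = 3
  · have h3c : c.IsThreeCycle := card_support_eq_three_iff.mp (by rw [hcp, hp3])
    exact Equiv.Perm.alternatingGroup_le_of_isPreprimitive_of_isThreeCycle_mem hprim h3c hcG
  obtain ⟨m, hm⟩ : ∃ m, Fintype.card α = p + (m + 3) := ⟨Fintype.card α - p - 3, by omega⟩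
  have hsn : ((c.support : Set α)ᶜ).ncard = (m + 2) + 1 := by
    apply Nat.add_left_cancel (n := p)
    rw [← hcp, ← Set.ncard_coe_finset c.support, Set.ncard_add_ncard_compl,
      Set.ncard_coe_finset, hcp, ← Nat.card_eq_fintype_card] at *
    omega
  have hsn' : (m + 2) + 2 < Nat.card α := by
    rw [Nat.card_eq_fintype_card]
    have := hp.two_le
    omega
  have hfixprim : IsPreprimitive (fixingSubgroup G ((c.support : Set α)ᶜ))
      (SubMulAction.ofFixingSubgroup G ((c.support : Set α)ᶜ)) := by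
    classical
    have := Equiv.Perm.isPretransitive_of_isCycle_mem hc hcG
    apply IsPreprimitive.of_prime_card
    convert hp
    rw [Nat.card_eq_fintype_card, Fintype.card_subtype, ← hcp]
    apply congr_arg
    ext x
    simp [SubMulAction.mem_ofFixingSubgroup_iff]
  have hmp : IsMultiplyPreprimitive G α ((m + 2) + 2) :=
    hprim.isMultiplyPreprimitive hsn hsn' hfixprim
  have hmt : IsMultiplyPretransitive G α ((m + 3) + 1) := by
    haveI := hmp
    have : IsMultiplyPretransitive G α ((m + 2) + 2) := inferInstance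
    exact this
  exact K1 G hp hp3 (by omega) (by rw [hm]; ring) hmt

end Cfsg.Agent.helper20.Mill
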