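import Mathlib
import Cfsg.Prelude.Def_HallClasses
import Cfsg.Agent.Lib_helper20_MillF

set_option autoImplicit false
set_option linter.style.haveILetI false
set_option linter.unusedSectionVars false
set_option linter.unusedVariables false

/-! Hall subgroups of symmetric groups of prime power degree: if `q < p` are primes, `a ≥ 2`,
`r ≤ p ^ a` is a prime, then a subgroup of `Sym (p ^ a)` whose index is prime to `p` and `q`
has order divisible by `r`. -/

namespace Cfsg.Agent.helper18.HallSym

open Equiv MulAction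
open scoped Pointwise

variable {α : Type*} [Fintype α] [DecidableEq α]

/-- Jordan's theorem on prime cycles, with primitivity as hypothesis (proof of helper20). -/
theorem jordan_prim (G : Subgroup (Perm α)) (hprim : IsPreprimitive G α)
    {p : ℕ} (hp : p.Prime) {c : Perm α} (hc : c.IsCycle) (hcp : c.support.card = p)
    (hcG : c ∈ G) (hn : p + 3 ≤ Fintype.card α) : alternatingGroup α ≤ G := by
  by_cases hp2 : p = 2
  · have hsw : c.IsSwap := Perm.card_support_eq_two.mp (by rw [hcp, hp2])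
    rw [Equiv.Perm.subgroup_eq_top_of_isPreprimitive_of_isSwap_mem hprim c hsw hcG]
    exact le_top
  by_cases hp3 : p = 3
  · have h3c : c.IsThreeCycle := _root_.card_support_eq_three_iff.mp (by rw [hcp, hp3])
    exact Equiv.Perm.alternatingGroup_le_of_isPreprimitive_of_isThreeCycle_mem hprim h3c hcG
  obtain ⟨m, hm⟩ : ∃ m, Fintype.card α = p + (m + 3) := ⟨Fintype.card α - p - 3, by omega⟩
  have hsn : ((c.support : Set α)ᶜ).ncard = (m + 2) + 1 := by
    apply Nat.add_left_cancel (n := p)
    rw [← hcp, ← Set.ncard_coe_finset c.support, Set.ncard_add_ncard_compl,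
      Set.ncard_coe_finset, hcp, ← Nat.card_eq_fintype_card] at *
    omega
  have hsn' : (m + 2) + 2 < Nat.card α := by
    rw [Nat.card_eq_fintype_card]
    have := hp.two_le
    omega
  have hfixprim : IsPreprimitive (fixingSubgroup G ((c.support : Set α)ᶜ))
      (SubMulAction.ofFixingSubgroup G ((c.support : Set α)ᶜ)) := by
    classical
    have := Equiv.Perm.isPretransitive_of_isCycle_mem hc hcG
    apply IsPreprimitive.of_prime_card
    convert hp
    rw [Nat.card_eq_fintype_card, Fintype.card_subtype, ← hcp]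
    apply congr_arg
    ext x
    simp [SubMulAction.mem_ofFixingSubgroup_iff]
  have hmp : IsMultiplyPreprimitive G α ((m + 2) + 2) :=
    hprim.isMultiplyPreprimitive hsn hsn' hfixprim
  have hmt : IsMultiplyPretransitive G α ((m + 3) + 1) := by
    haveI := hmp
    have : IsMultiplyPretransitive G α ((m + 2) + 2) := inferInstance
    exact this
  exact Cfsg.Agent.helper20.Mill.K1 G hp hp3 (by omega) (by rw [hm]; ring) hmt

/-- An element of `ℓ`-power order is conjugate into any subgroup of index prime to `ℓ`. -/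
theorem exists_conj_mem (H : Subgroup (Perm α)) {ℓ : ℕ} (hℓ : ℓ.Prime)
    (hidx : ¬ ℓ ∣ H.index) (c : Perm α) {k : ℕ} (hc : orderOf c = ℓ ^ k) :
    ∃ g : Perm α, g * c * g⁻¹ ∈ H := by
  haveI : Fact ℓ.Prime := ⟨hℓ⟩
  obtain ⟨Q⟩ : Nonempty (Sylow ℓ H) := inferInstance
  have hQ' : IsPGroup ℓ ((Q : Subgroup H).map H.subtype) := Q.isPGroup'.map H.subtype
  have hidx' : ¬ ℓ ∣ ((Q : Subgroup H).map H.subtype).index := by
    rw [Subgroup.index_map_subtype]
    exact hℓ.not_dvd_mul Q.not_dvd_index hidx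
  let S' : Sylow ℓ (Perm α) := hQ'.toSylow hidx'
  have hP : IsPGroup ℓ (Subgroup.zpowers c) :=
    IsPGroup.of_card (n := k) (by rw [Nat.card_zpowers, hc])
  obtain ⟨S, hS⟩ := hP.exists_le_sylow
  obtain ⟨g, hg⟩ := MulAction.exists_smul_eq (Perm α) S S'
  refine ⟨g, ?_⟩
  have h1 : c ∈ (S : Subgroup (Perm α)) := hS (Subgroup.mem_zpowers c)
  have h2 : g * c * g⁻¹ ∈ ((g • S : Sylow ℓ (Perm α)) : Subgroup (Perm α)) := by
    rw [Sylow.smul_def, Sylow.pointwise_smul_def]
    have := Subgroup.smul_mem_pointwise_smul c (MulAut.conj g) (S : Subgroup (Perm α)) h1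
    simpa [MulAut.smul_def] using this
  rw [hg] at h2
  obtain ⟨y, _, hy⟩ := Subgroup.mem_map.mp h2
  rw [← hy]
  exact y.2

/-- Cycles of every admissible length exist. -/
theorem exists_cycle {L : ℕ} (h2 : 2 ≤ L) (hL : L ≤ Fintype.card α) :
    ∃ c : Perm α, c.IsCycle ∧ c.support.card = L := by
  obtain ⟨g, hg⟩ := (Equiv.Perm.exists_with_cycleType_iff α (m := {L})).mpr
    ⟨by simpa using hL, by intro a ha; simp at ha; omega⟩
  refine ⟨g, ?_, ?_⟩
  · rw [← Equiv.Perm.card_cycleType_eq_one, hg]; simp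
  · rw [← Equiv.Perm.sum_cycleType, hg]; simp

/-- A cycle of a group meeting a block: either its support lies in the block, or the block
size divides the cycle length. -/
theorem block_cycle (H : Subgroup (Perm α)) (B : Set α)
    (hB : IsBlock H B) (c : Perm α) (hc : c.IsCycle) (hcH : c ∈ H) (x : α) (hxB : x ∈ B)
    (hxc : c x ≠ x) : (∀ y, c y ≠ y → y ∈ B) ∨ B.ncard ∣ c.support.card := by
  by_cases hsub : ∀ y ∈ B, c y ≠ y
  · right
    let K : Subgroup (Perm α) := Subgroup.zpowers c
    have hKH : K ≤ H := by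
      rw [Subgroup.zpowers_le]; exact hcH
    have hBK : IsBlock K B := fun g₁ g₂ h =>
      hB (g₁ := ⟨g₁.1, hKH g₁.2⟩) (g₂ := ⟨g₂.1, hKH g₂.2⟩) h
    let j : MulAction.orbit K x →[K] α :=
      { toFun := Subtype.val, map_smul' := fun _ _ => rfl }
    have hblk : IsBlock K (j ⁻¹' B) := hBK.preimage j
    have hne : (j ⁻¹' B).Nonempty := ⟨⟨x, MulAction.mem_orbit_self x⟩, hxB⟩
    have hdvd := hblk.ncard_dvd_card hne
    have horb : MulAction.orbit K x = (c.support : Set α) := by
      ext z
      constructor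
      · rintro ⟨⟨g, hg⟩, rfl⟩
        obtain ⟨i, rfl⟩ := Subgroup.mem_zpowers_iff.mp hg
        show (c ^ i) x ∈ (c.support : Set α)
        rw [Finset.mem_coe, Equiv.Perm.zpow_apply_mem_support, Equiv.Perm.mem_support]
        exact hxc
      · intro hz
        rw [Finset.mem_coe, Equiv.Perm.mem_support] at hz
        obtain ⟨i, hi⟩ := hc.exists_pow_eq hxc hz
        exact ⟨⟨c ^ i, Subgroup.pow_mem _ (Subgroup.mem_zpowers c) i⟩, hi⟩
    have hcard1 : Nat.card (MulAction.orbit K x) = c.support.card := by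
      rw [horb, Nat.card_coe_set_eq, Set.ncard_coe_finset]
    have hcard2 : (j ⁻¹' B).ncard = B.ncard := by
      show ((Subtype.val : MulAction.orbit K x → α) ⁻¹' B).ncard = B.ncard
      apply Set.ncard_preimage_of_injective_subset_range Subtype.val_injective
      intro b hb
      rw [Subtype.range_coe, horb]
      exact Finset.mem_coe.mpr (Equiv.Perm.mem_support.mpr (hsub b hb))
    rw [hcard1, hcard2] at hdvd
    exact hdvd
  · left
    push Not at hsub
    obtain ⟨y, hyB, hy⟩ := hsub
    have hcB : ∀ b ∈ B, c b ∈ B := by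
      have h1 : (⟨c, hcH⟩ : H) • B = B :=
        hB.smul_eq_of_mem (g := ⟨c, hcH⟩) (a := y) hyB (by
          show c y ∈ B
          rw [hy]; exact hyB)
      intro b hb
      have h2 : (⟨c, hcH⟩ : H) • b ∈ (⟨c, hcH⟩ : H) • B := Set.smul_mem_smul_set hb
      rw [h1] at h2
      exact h2
    have hpow : ∀ i : ℕ, (c ^ i) x ∈ B := by
      intro i
      induction i with
      | zero => simpa using hxB
      | succ i ih =>
        rw [pow_succ', Perm.mul_apply]
        exact hcB _ ih
    intro z hz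
    obtain ⟨i, hi⟩ := hc.exists_pow_eq hxc hz
    rw [← hi]
    exact hpow i

/-- The core statement. -/
theorem core {p q r a : ℕ} (hp : p.Prime) (hq : q.Prime) (hr : r.Prime)
    (hqp : q < p) (ha : 2 ≤ a) (hrn : r ≤ p ^ a) (hcard : Fintype.card α = p ^ a)
    (H : Subgroup (Perm α)) (hpi : ¬ p ∣ H.index) (hqi : ¬ q ∣ H.index) :
    r ∣ Nat.card H := by
  have hq2 := hq.two_le
  have hp3 : 3 ≤ p := by omega
  have hpa2 : p ^ 2 ≤ p ^ a := Nat.pow_le_pow_right (by omega) ha
  have hn9 : 9 ≤ p ^ a := by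
    have : 3 ^ 2 ≤ p ^ 2 := Nat.pow_le_pow_left hp3 2
    omega
  have hqn : q + 3 ≤ p ^ a := by
    have h1 : (q + 1) ^ 2 ≤ p ^ 2 := Nat.pow_le_pow_left (by omega) 2
    nlinarith
  obtain ⟨e, he⟩ : ∃ e, e = Nat.log q (p ^ a) := ⟨_, rfl⟩
  have hLle : q ^ e ≤ p ^ a := by
    rw [he]; exact Nat.pow_log_le_self q (by omega)
  have hLlt : p ^ a < q ^ (e + 1) := by
    rw [he]; exact Nat.lt_pow_succ_log_self (by omega) _
  have he1 : 1 ≤ e := by
    rw [he]; exact Nat.log_pos (by omega) (by omega)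
  have hL2 : 2 ≤ q ^ e := by
    calc 2 ≤ q := hq2
      _ = q ^ 1 := (pow_one q).symm
      _ ≤ q ^ e := Nat.pow_le_pow_right (by omega) he1
  have hLp : p ^ a < q ^ e * p := by
    calc p ^ a < q ^ (e + 1) := hLlt
      _ = q ^ e * q := pow_succ q e
      _ ≤ q ^ e * p := Nat.mul_le_mul_left _ hqp.le
  obtain ⟨z0, hz0c, hz0s⟩ := exists_cycle (α := α) (L := p ^ a) (by omega) (by rw [hcard])
  obtain ⟨c0, hc0c, hc0s⟩ := exists_cycle (α := α) (L := q ^ e) hL2 (by rw [hcard]; exact hLle)
  obtain ⟨d0, hd0c, hd0s⟩ := exists_cycle (α := α) (L := q) hq2 (by rw [hcard]; omega)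
  obtain ⟨g1, hz⟩ := exists_conj_mem H hp hpi z0 (k := a) (by rw [hz0c.orderOf, hz0s])
  obtain ⟨g2, hc⟩ := exists_conj_mem H hq hqi c0 (k := e) (by rw [hc0c.orderOf, hc0s])
  obtain ⟨g3, hd⟩ := exists_conj_mem H hq hqi d0 (k := 1) (by rw [hd0c.orderOf, hd0s, pow_one])
  have hzc : (g1 * z0 * g1⁻¹).IsCycle := hz0c.conj
  have hzs : (g1 * z0 * g1⁻¹).support.card = p ^ a := by
    rw [Equiv.Perm.card_support_conj, hz0s]
  have hcc : (g2 * c0 * g2⁻¹).IsCycle := hc0c.conj
  have hcs : (g2 * c0 * g2⁻¹).support.card = q ^ e := by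
    rw [Equiv.Perm.card_support_conj, hc0s]
  have hdc : (g3 * d0 * g3⁻¹).IsCycle := hd0c.conj
  have hds : (g3 * d0 * g3⁻¹).support.card = q := by
    rw [Equiv.Perm.card_support_conj, hd0s]
  -- transitivity
  have htrans : MulAction.IsPretransitive H α := by
    have hsupp : ∀ x, (g1 * z0 * g1⁻¹) x ≠ x := by
      intro x
      have : (g1 * z0 * g1⁻¹).support = Finset.univ :=
        Finset.eq_univ_of_card _ (by rw [hzs, hcard])
      rw [← Equiv.Perm.mem_support, this]
      exact Finset.mem_univ x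
    refine ⟨fun x y => ?_⟩
    obtain ⟨i, hi⟩ := hzc.exists_pow_eq (hsupp x) (hsupp y)
    exact ⟨⟨(g1 * z0 * g1⁻¹) ^ i, H.pow_mem hz i⟩, hi⟩
  by_cases hprim : MulAction.IsPreprimitive H α
  · have hA : alternatingGroup α ≤ H :=
      jordan_prim H hprim hq hdc hds hd (by rw [hcard]; exact hqn)
    have hdvd : Nat.card (alternatingGroup α) ∣ Nat.card H := Subgroup.card_dvd_of_le hA
    refine dvd_trans ?_ hdvd
    haveI : Nontrivial α := Fintype.one_lt_card_iff_nontrivial.mp (by rw [hcard]; omega)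
    have h2A : 2 * Nat.card (alternatingGroup α) = (p ^ a).factorial := by
      rw [two_mul_nat_card_alternatingGroup, Nat.card_eq_fintype_card, Fintype.card_perm, hcard]
    have hrdvd : r ∣ (p ^ a).factorial := (hr.dvd_factorial).mpr hrn
    by_cases hr2 : r = 2
    · have h4 : 4 ∣ (p ^ a).factorial :=
        dvd_trans (by decide : 4 ∣ Nat.factorial 4) (Nat.factorial_dvd_factorial (by omega))
      rw [← h2A] at h4
      rw [hr2]
      omega
    · rw [← h2A] at hrdvd
      rcases (hr.dvd_mul).mp hrdvd with h | h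
      · exact absurd ((Nat.prime_dvd_prime_iff_eq hr Nat.prime_two).mp h) hr2
      · exact h
  · exfalso
    have hex : ∃ B : Set α, IsBlock H B ∧ ¬ IsTrivialBlock B := by
      by_contra hne
      push Not at hne
      exact hprim { toIsPretransitive := htrans
                    isTrivialBlock_of_isBlock := fun {B} hB => hne B hB }
    obtain ⟨B, hB, hBnt⟩ := hex
    have hBns : ¬ B.Subsingleton := fun h => hBnt (Or.inl h)
    have hBnu : B ≠ Set.univ := fun h => hBnt (Or.inr h)
    have hBnt' : B.Nontrivial := Set.not_subsingleton_iff.mp hBns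
    obtain ⟨b0, hb0⟩ : B.Nonempty := hBnt'.nonempty
    obtain ⟨x, hx⟩ : ∃ x, (g2 * c0 * g2⁻¹) x ≠ x := by
      have : (g2 * c0 * g2⁻¹).support.Nonempty := Finset.card_pos.mp (by rw [hcs]; omega)
      obtain ⟨x, hx⟩ := this
      exact ⟨x, Equiv.Perm.mem_support.mp hx⟩
    obtain ⟨g, hg⟩ := MulAction.exists_smul_eq H b0 x
    have hB' : IsBlock H (g • B) := hB.translate g
    have hxB' : x ∈ g • B := hg ▸ Set.smul_mem_smul_set hb0
    have hm : (g • B).ncard = B.ncard := Set.ncard_smul_set g B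
    have hm2 : 2 ≤ B.ncard := by
      have : 1 < B.ncard := Set.one_lt_ncard_iff_nontrivial.mpr hBnt'
      omega
    have hmn : B.ncard < p ^ a := by
      have h1 : B ⊂ Set.univ := Set.ssubset_univ_iff.mpr hBnu
      have h2 := Set.ncard_lt_ncard h1
      rw [Set.ncard_univ, Nat.card_eq_fintype_card, hcard] at h2
      exact h2
    have hmdvd : B.ncard ∣ p ^ a := by
      have := hB.ncard_dvd_card ⟨b0, hb0⟩
      rwa [Nat.card_eq_fintype_card, hcard] at this
    obtain ⟨b, hba, hmb⟩ := (Nat.dvd_prime_pow hp).mp hmdvd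
    have hb1 : 1 ≤ b := by
      by_contra h
      have h0 : b = 0 := by omega
      rw [h0, pow_zero] at hmb
      omega
    have hblt : b < a := by
      rcases Nat.lt_or_ge b a with h | h
      · exact h
      · have h0 : b = a := le_antisymm hba h
        rw [h0] at hmb
        omega
    have hmp : B.ncard * p ≤ p ^ a := by
      rw [hmb, ← pow_succ]
      exact Nat.pow_le_pow_right hp.pos hblt
    rcases block_cycle H (g • B) hB' (g2 * c0 * g2⁻¹) hcc hc x hxB' hx with h1 | h1
    · have h3 : (g2 * c0 * g2⁻¹).support.card ≤ (g • B).ncard := by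
        rw [← Set.ncard_coe_finset]
        apply Set.ncard_le_ncard _ (Set.toFinite _)
        intro y hy
        exact h1 y (Equiv.Perm.mem_support.mp (Finset.mem_coe.mp hy))
      rw [hcs, hm] at h3
      exact absurd (lt_of_lt_of_le hLp ((Nat.mul_le_mul_right p h3).trans hmp)) (lt_irrefl _)
    · rw [hcs, hm] at h1
      obtain ⟨f, _, hf⟩ := (Nat.dvd_prime_pow hq).mp h1
      have h5 : p ∣ q ^ f := by
        rw [← hf, hmb]
        exact dvd_pow_self p (by omega)
      have h6 := (Nat.prime_dvd_prime_iff_eq hp hq).mp (hp.dvd_of_dvd_pow h5)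
      omega

end Cfsg.Agent.helper18.HallSym
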