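import Mathlib

set_option autoImplicit false
set_option linter.unusedSectionVars false
set_option linter.unusedVariables false
set_option linter.style.longLine false
set_option linter.style.haveILetI false

/-!
The isometry group of the Hamming space `ι → Fin m` (the wreath product `S_m ≀ S_ι` in product
action) is primitive for `m ≥ 3` and not `2`-transitive when `|ι| ≥ 2`.
-/

namespace Cfsg.Agent.helper18.Ham

open MulAction
open scoped Pointwise

section defs
variable {ι : Type*} [Fintype ι] {m : ℕ}

open Classical in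
/-- the set of coordinates where two points differ -/
noncomputable def diff (x y : ι → Fin m) : Finset ι := Finset.univ.filter (fun i => x i ≠ y i)

theorem mem_diff (x y : ι → Fin m) (i : ι) : i ∈ diff x y ↔ x i ≠ y i := by
  classical
  simp [diff]

/-- isometries of the Hamming space -/
def isoGroup (ι : Type*) [Fintype ι] (m : ℕ) : Subgroup (Equiv.Perm (ι → Fin m)) where
  carrier := {σ | ∀ x y, (diff (σ x) (σ y)).card = (diff x y).card}
  one_mem' := fun x y => rfl
  mul_mem' := by
    intro a b ha hb x y
    rw [Equiv.Perm.mul_apply, Equiv.Perm.mul_apply, ha, hb]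
  inv_mem' := by
    intro a ha x y
    have := ha (a⁻¹ x) (a⁻¹ y)
    simpa using this.symm

theorem mem_isoGroup (σ : Equiv.Perm (ι → Fin m)) :
    σ ∈ isoGroup ι m ↔ ∀ x y, (diff (σ x) (σ y)).card = (diff x y).card := Iff.rfl

theorem smul_def (g : isoGroup ι m) (x : ι → Fin m) : g • x = (g : Equiv.Perm (ι → Fin m)) x := rfl

/-- coordinatewise permutations -/
def pm (σ : ι → Equiv.Perm (Fin m)) : isoGroup ι m :=
  ⟨Equiv.piCongrRight σ, by
    intro x y
    congr 1
    ext i
    rw [mem_diff, mem_diff]
    simp⟩

theorem pm_apply (σ : ι → Equiv.Perm (Fin m)) (x : ι → Fin m) (i : ι) :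
    (pm σ • x) i = σ i (x i) := rfl

theorem diff_pm (σ : ι → Equiv.Perm (Fin m)) (x y : ι → Fin m) :
    diff (pm σ • x) (pm σ • y) = diff x y := by
  ext i
  rw [mem_diff, mem_diff, pm_apply, pm_apply]
  simp

/-- coordinate permutations -/
def cm (π : Equiv.Perm ι) : isoGroup ι m :=
  ⟨Equiv.arrowCongr π (Equiv.refl (Fin m)), by
    classical
    intro x y
    have : diff ((Equiv.arrowCongr π (Equiv.refl (Fin m))) x) ((Equiv.arrowCongr π (Equiv.refl (Fin m))) y)
        = (diff x y).map π.toEmbedding := by
      ext i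
      rw [mem_diff, Finset.mem_map]
      constructor
      · intro h
        refine ⟨π.symm i, ?_, by simp⟩
        rw [mem_diff]
        simpa using h
      · rintro ⟨j, hj, rfl⟩
        rw [mem_diff] at hj
        simpa using hj
    rw [this, Finset.card_map]⟩

theorem cm_apply (π : Equiv.Perm ι) (x : ι → Fin m) (i : ι) :
    ((cm π : isoGroup ι m) • x) i = x (π.symm i) := rfl

end defs

section prim
variable {ι : Type*} [Fintype ι] {m : ℕ}

theorem exists_ne_ne (hm : 3 ≤ m) (a b : Fin m) : ∃ c : Fin m, c ≠ a ∧ c ≠ b := by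
  classical
  by_contra h
  push Not at h
  have hsub : (Finset.univ : Finset (Fin m)) ⊆ {a, b} := by
    intro c _
    by_cases hc : c = a
    · simp [hc]
    · simp [h c hc]
  have h1 := Finset.card_le_card hsub
  have h2 : ({a, b} : Finset (Fin m)).card ≤ 2 := Finset.card_le_two
  rw [Finset.card_univ, Fintype.card_fin] at h1
  omega

theorem exists_perm_pair {α : Type*} [DecidableEq α] (a b c d : α) (h : a = b ↔ c = d) :
    ∃ σ : Equiv.Perm α, σ a = c ∧ σ b = d := by
  by_cases hab : a = b
  · subst hab
    have hcd : c = d := h.1 rfl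
    subst hcd
    exact ⟨Equiv.swap a c, Equiv.swap_apply_left a c, Equiv.swap_apply_left a c⟩
  · have hcd : c ≠ d := fun hcd => hab (h.2 hcd)
    refine ⟨Equiv.swap (Equiv.swap a c b) d * Equiv.swap a c, ?_, ?_⟩
    · rw [Equiv.Perm.mul_apply, Equiv.swap_apply_left]
      apply Equiv.swap_apply_of_ne_of_ne
      · intro h1
        have := congrArg (Equiv.swap a c) h1
        rw [Equiv.swap_apply_right, Equiv.swap_apply_self] at this
        exact hab this
      · exact hcd
    · rw [Equiv.Perm.mul_apply, Equiv.swap_apply_left]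

theorem pretransitive : IsPretransitive (isoGroup ι m) (ι → Fin m) := by
  classical
  constructor
  intro x y
  refine ⟨pm (fun i => Equiv.swap (x i) (y i)), ?_⟩
  ext i
  rw [pm_apply, Equiv.swap_apply_left]

theorem block_transfer {B : Set (ι → Fin m)} (hB : IsBlock (isoGroup ι m) B)
    {x y x' y' : ι → Fin m} (hx : x ∈ B) (hy : y ∈ B) (hx' : x' ∈ B)
    (hd : diff x' y' = diff x y) : y' ∈ B := by
  classical
  have hσ : ∀ i, ∃ σ : Equiv.Perm (Fin m), σ (x i) = x' i ∧ σ (y i) = y' i := by
    intro i
    apply exists_perm_pair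
    have := Finset.ext_iff.1 hd i
    rw [mem_diff, mem_diff] at this
    exact not_iff_not.1 this.symm
  choose σ hσ1 hσ2 using hσ
  have hgx : pm σ • x = x' := by ext i; rw [pm_apply, hσ1]
  have hgy : pm σ • y = y' := by ext i; rw [pm_apply, hσ2]
  have hgB : pm σ • B = B := hB.smul_eq_of_mem hx (by rw [hgx]; exact hx')
  rw [← hgB, ← hgy]
  exact Set.smul_mem_smul_set hy

theorem isPreprimitive (hm : 3 ≤ m) : IsPreprimitive (isoGroup ι m) (ι → Fin m) := by
  classical
  haveI := pretransitive (ι := ι) (m := m)
  constructor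
  intro B hB
  by_cases hsub : B.Subsingleton
  · left; exact hsub
  right
  rw [Set.not_subsingleton_iff] at hsub
  obtain ⟨x, hx, y, hy, hxy⟩ := hsub
  obtain ⟨i₀, hi₀⟩ : ∃ i, x i ≠ y i := by
    by_contra h
    push Not at h
    exact hxy (funext h)
  obtain ⟨c, hc1, hc2⟩ := exists_ne_ne hm (x i₀) (y i₀)
  set y₂ := Function.update y i₀ c with hy₂
  have hd2 : diff x y₂ = diff x y := by
    ext i
    rw [mem_diff, mem_diff]
    by_cases hi : i = i₀
    · subst hi
      rw [hy₂, Function.update_self]
      exact ⟨fun _ => hi₀, fun _ => hc1.symm⟩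
    · rw [hy₂, Function.update_of_ne hi]
  have hy₂B : y₂ ∈ B := block_transfer hB hx hy hx hd2
  have hduv : diff y y₂ = {i₀} := by
    ext i
    rw [mem_diff, Finset.mem_singleton]
    by_cases hi : i = i₀
    · subst hi
      rw [hy₂, Function.update_self]
      exact ⟨fun _ => rfl, fun _ => hc2.symm⟩
    · rw [hy₂, Function.update_of_ne hi]
      simp [hi]
  have hstep : ∀ (j : ι) (a : ι → Fin m), a ∈ B → ∀ c', Function.update a j c' ∈ B := by
    intro j a ha c'
    obtain ⟨u', hu', v', hv', hd'⟩ : ∃ u' ∈ B, ∃ v' ∈ B, diff u' v' = {j} := by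
      set g₀ : isoGroup ι m := cm (Equiv.swap i₀ j) with hg₀
      set t : isoGroup ι m := pm (fun i => Equiv.swap ((g₀ • y) i) (y i)) with ht
      have hty : t • (g₀ • y) = y := by
        ext i
        rw [ht, pm_apply, Equiv.swap_apply_left]
      have hgy : (t * g₀) • y = y := by rw [mul_smul, hty]
      have hgB : (t * g₀) • B = B := hB.smul_eq_of_mem hy (by rw [hgy]; exact hy)
      refine ⟨y, hy, (t * g₀) • y₂, ?_, ?_⟩
      · rw [← hgB]; exact Set.smul_mem_smul_set hy₂B
      · conv_lhs => rw [← hgy]
        rw [mul_smul, mul_smul, ht, diff_pm]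
        ext i
        rw [mem_diff, hg₀, cm_apply, cm_apply, Equiv.symm_swap, Finset.mem_singleton]
        have := Finset.ext_iff.1 hduv (Equiv.swap i₀ j i)
        rw [mem_diff, Finset.mem_singleton] at this
        rw [this]
        constructor
        · intro h
          have := congrArg (Equiv.swap i₀ j) h
          rwa [Equiv.swap_apply_self, Equiv.swap_apply_left] at this
        · intro h
          rw [h, Equiv.swap_apply_right]
    by_cases hc' : c' = a j
    · rw [hc', Function.update_eq_self]; exact ha
    · apply block_transfer hB hu' hv' ha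
      rw [hd']
      ext i
      rw [mem_diff, Finset.mem_singleton]
      by_cases hi : i = j
      · subst hi
        rw [Function.update_self]
        exact ⟨fun _ => rfl, fun _ => fun h => hc' h.symm⟩
      · rw [Function.update_of_ne hi]
        simp [hi]
  apply Set.eq_univ_of_forall
  intro b
  have key : ∀ S : Finset ι, (fun i => if i ∈ S then b i else x i) ∈ B := by
    intro S
    induction S using Finset.induction_on with
    | empty => simpa using hx
    | insert j S hj ih =>
      have := hstep j _ ih (b j)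
      convert this using 1
      ext i
      by_cases hi : i = j
      · subst hi
        simp
      · rw [Function.update_of_ne hi]
        simp [Finset.mem_insert, hi]
  have := key Finset.univ
  simpa using this

theorem not_two_transitive [DecidableEq ι] (hm : 2 ≤ m) (i j : ι) (hij : i ≠ j) :
    ¬ IsMultiplyPretransitive (isoGroup ι m) (ι → Fin m) 2 := by
  intro h2
  rw [MulAction.is_two_pretransitive_iff] at h2
  have hm0 : 0 < m := by omega
  set z : Fin m := ⟨0, hm0⟩ with hz
  set o : Fin m := ⟨1, hm⟩ with ho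
  have hzo : z ≠ o := by
    intro h
    have := congrArg Fin.val h
    simp [hz, ho] at this
  set x₀ : ι → Fin m := fun _ => z with hx₀
  set x₁ : ι → Fin m := Function.update x₀ i o with hx₁
  set x₂ : ι → Fin m := Function.update x₁ j o with hx₂
  have h01 : x₀ ≠ x₁ := by
    intro h
    have := congrFun h i
    rw [hx₁, Function.update_self] at this
    exact hzo this
  have h02 : x₀ ≠ x₂ := by
    intro h
    have := congrFun h j
    rw [hx₂, Function.update_self] at this
    exact hzo this
  obtain ⟨g, hg0, hg1⟩ := h2 h01 h02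
  have hiso := g.2 x₀ x₁
  rw [← smul_def, ← smul_def, hg0, hg1] at hiso
  have hd1 : diff x₀ x₁ = {i} := by
    ext k
    rw [mem_diff, Finset.mem_singleton]
    by_cases hk : k = i
    · subst hk
      rw [hx₁, Function.update_self]
      exact ⟨fun _ => rfl, fun _ => hzo⟩
    · rw [hx₁, Function.update_of_ne hk]
      simp [hk]
  have hd2 : diff x₀ x₂ = {i, j} := by
    ext k
    rw [mem_diff, Finset.mem_insert, Finset.mem_singleton]
    by_cases hk : k = j
    · subst hk
      rw [hx₂, Function.update_self]
      exact ⟨fun _ => Or.inr rfl, fun _ => hzo⟩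
    · rw [hx₂, Function.update_of_ne hk]
      by_cases hk' : k = i
      · subst hk'
        rw [hx₁, Function.update_self]
        exact ⟨fun _ => Or.inl rfl, fun _ => hzo⟩
      · rw [hx₁, Function.update_of_ne hk']
        simp [hk, hk']
  rw [hd1, hd2, Finset.card_singleton, Finset.card_pair hij] at hiso
  omega

end prim

section regular
variable {ι : Type*} [Fintype ι] {m : ℕ} {K : Type*} [Group K] (F : ι → Type*) [∀ i, Group (F i)]
  (β : ∀ i, F i ≃ Fin m) (e : K ≃* (∀ i, F i))

/-- the regular representation of `K ≃* ∏ F i` on the Hamming space -/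
def reg : K →* Equiv.Perm (ι → Fin m) :=
  ((Equiv.piCongrRight β).permCongrHom.toMonoidHom.comp
    (MulAction.toPermHom (∀ i, F i) (∀ i, F i))).comp e.toMonoidHom

theorem reg_apply (k : K) (y : ι → Fin m) (i : ι) :
    reg F β e k y i = β i (e k i * (β i).symm (y i)) := rfl

theorem reg_mem (k : K) : reg F β e k ∈ isoGroup ι m := by
  intro y y'
  congr 1
  ext i
  rw [mem_diff, mem_diff, reg_apply, reg_apply]
  simp

theorem reg_free (k : K) (y : ι → Fin m) (h : reg F β e k y = y) : k = 1 := by
  have h1 : e k = 1 := by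
    ext i
    have := congrFun h i
    rw [reg_apply] at this
    have h2 := congrArg (β i).symm this
    rw [Equiv.symm_apply_apply] at h2
    have h3 : e k i * (β i).symm (y i) = 1 * (β i).symm (y i) := by rw [one_mul]; exact h2
    exact mul_right_cancel h3
  have := congrArg e.symm h1
  simpa using this

theorem reg_injective : Function.Injective (reg F β e) := by
  rw [injective_iff_map_eq_one]
  intro k hk
  have hne : Nonempty (ι → Fin m) := ⟨fun i => β i 1⟩
  obtain ⟨y⟩ := hne
  apply reg_free F β e k y
  rw [hk]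
  rfl

theorem reg_transitive (y y' : ι → Fin m) : ∃ k : K, reg F β e k y = y' := by
  refine ⟨e.symm (fun i => (β i).symm (y' i) * ((β i).symm (y i))⁻¹), ?_⟩
  ext i
  rw [reg_apply, MulEquiv.apply_symm_apply]
  simp

end regular

section transport

theorem transport {Y : Type*} [Fintype Y] {K : Type*} [Group K] (G R : Subgroup (Equiv.Perm Y))
    (hRG : R ≤ G) (hRK : Nonempty (R ≃* K)) (htr : ∀ x y : Y, ∃ r ∈ R, r x = y)
    (hfree : ∀ r ∈ R, ∀ x : Y, r x = x → r = 1) (hprim : IsPreprimitive G Y)
    (h2 : ¬ IsMultiplyPretransitive G Y 2) :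
    ∃ (n : ℕ) (G' R' : Subgroup (Equiv.Perm (Fin n))), R' ≤ G' ∧ Nonempty (↥R' ≃* K) ∧
      IsPretransitive ↥R' (Fin n) ∧ (∀ a : Fin n, stabilizer ↥R' a = ⊥) ∧
      IsPreprimitive ↥G' (Fin n) ∧ ¬ IsMultiplyPretransitive ↥G' (Fin n) 2 := by
  classical
  set n := Fintype.card Y with hn
  set ε : Y ≃ Fin n := Fintype.equivFin Y with hε
  set φ : Equiv.Perm Y →* Equiv.Perm (Fin n) := ε.permCongrHom.toMonoidHom with hφ
  have hφinj : Function.Injective φ := ε.permCongrHom.injective
  have hφapp : ∀ (g : Equiv.Perm Y) (a : Fin n), φ g a = ε (g (ε.symm a)) := fun g a => rfl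
  refine ⟨n, G.map φ, R.map φ, Subgroup.map_mono hRG, ?_, ?_, ?_, ?_, ?_⟩
  · obtain ⟨f⟩ := hRK
    exact ⟨(R.equivMapOfInjective φ hφinj).symm.trans f⟩
  · constructor
    intro a b
    obtain ⟨r, hr, hrab⟩ := htr (ε.symm a) (ε.symm b)
    refine ⟨⟨φ r, Subgroup.mem_map_of_mem φ hr⟩, ?_⟩
    show φ r a = b
    rw [hφapp, hrab, Equiv.apply_symm_apply]
  · intro a
    rw [eq_bot_iff]
    rintro ⟨r', hr'⟩ hra
    obtain ⟨r, hr, rfl⟩ := hr'
    rw [mem_stabilizer_iff] at hra
    have h1 : φ r a = a := hra
    rw [hφapp] at h1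
    have h2' : r (ε.symm a) = ε.symm a := by
      have := congrArg ε.symm h1
      rwa [Equiv.symm_apply_apply] at this
    have := hfree r hr _ h2'
    rw [Subgroup.mem_bot]
    apply Subtype.ext
    show φ r = 1
    rw [this, map_one]
  · let ψ : G →* G.map φ := (G.equivMapOfInjective φ hφinj).toMonoidHom
    have hψsurj : Function.Surjective ψ := (G.equivMapOfInjective φ hφinj).surjective
    let f : Y →ₑ[ψ] Fin n :=
      { toFun := ε
        map_smul' := by
          intro g y
          show ε ((g : Equiv.Perm Y) y) = φ (g : Equiv.Perm Y) (ε y)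
          rw [hφapp, Equiv.symm_apply_apply] }
    exact (MulAction.isPreprimitive_congr hψsurj (f := f) ε.bijective).1 hprim
  · intro h2'
    apply h2
    rw [MulAction.is_two_pretransitive_iff] at h2' ⊢
    intro a b c d hab hcd
    obtain ⟨⟨g', hg'⟩, hg1, hg2⟩ := h2' (a := ε a) (b := ε b) (c := ε c) (d := ε d)
      (fun h => hab (ε.injective h)) (fun h => hcd (ε.injective h))
    obtain ⟨g, hg, rfl⟩ := hg'
    refine ⟨⟨g, hg⟩, ?_, ?_⟩
    · have : φ g (ε a) = ε c := hg1
      rw [hφapp, Equiv.symm_apply_apply] at this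
      exact ε.injective this
    · have : φ g (ε b) = ε d := hg2
      rw [hφapp, Equiv.symm_apply_apply] at this
      exact ε.injective this

end transport

end Cfsg.Agent.helper18.Ham
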