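import Mathlib
import Cfsg.Agent.Lib_helper12_ZS5
import Cfsg.Agent.Lib_helper18_Wagner

set_option autoImplicit false

namespace Cfsg.Agent.helper18.Isolated

open Cfsg.Agent.helper18.Wagner

variable {G : Type*} [Group G]

lemma exists_sqrt {y : G} (hodd : Odd (orderOf y)) : ∃ w ∈ Subgroup.zpowers y, w * w = y := by
  obtain ⟨k, hk⟩ := hodd
  refine ⟨y ^ (k + 1), Subgroup.pow_mem _ (Subgroup.mem_zpowers y) _, ?_⟩
  rw [← pow_add]
  have : k + 1 + (k + 1) = orderOf y + 1 := by omega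
  rw [this, pow_succ, pow_orderOf_eq_one, one_mul]

/-- in `Y⟨z⟩` with `Y` of odd order, an involution `y₁ z` is conjugate to `z` by an element of `⟨y₁⟩` -/
lemma conj_involution {z y₁ : G} (hz : z * z = 1) (hy : y₁ * z * (y₁ * z) = 1)
    (hodd : Odd (orderOf y₁)) :
    ∃ w ∈ Subgroup.zpowers y₁, w * z * w⁻¹ = y₁ * z := by
  have hzi : z⁻¹ = z := inv_eq_of_mul_eq_one_left hz
  have hinv : z * y₁ * z⁻¹ = y₁⁻¹ := by
    rw [hzi]
    have : y₁ * (z * y₁ * z) = 1 := by rw [← hy]; group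
    exact eq_inv_of_mul_eq_one_right this
  obtain ⟨w, hw, hww⟩ := exists_sqrt hodd
  refine ⟨w, hw, ?_⟩
  obtain ⟨i, rfl⟩ := Subgroup.mem_zpowers_iff.mp hw
  have hwinv : z * (y₁ ^ i) * z⁻¹ = (y₁ ^ i)⁻¹ := by
    have := map_zpow (MulAut.conj z) y₁ i
    simp only [MulAut.conj_apply] at this
    rw [this, hinv, inv_zpow]
  have h2 : z * (y₁ ^ i)⁻¹ * z⁻¹ = y₁ ^ i := by
    have e : z * (y₁ ^ i)⁻¹ * z⁻¹ = (z * (y₁ ^ i) * z⁻¹)⁻¹ := by group
    rw [e, hwinv, inv_inv]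
  calc y₁ ^ i * z * (y₁ ^ i)⁻¹ = y₁ ^ i * (z * (y₁ ^ i)⁻¹ * z⁻¹) * z := by group
    _ = y₁ ^ i * y₁ ^ i * z := by rw [h2]
    _ = y₁ * z := by rw [hww]

/-- a Sylow `p`-subgroup of a subgroup `M` containing a given `p`-subgroup -/
lemma exists_sylow_sub_ge [Finite G] (M : Subgroup G) {p : ℕ} [Fact p.Prime] (R₀ : Subgroup G)
    (hR₀M : R₀ ≤ M) (hR₀ : IsPGroup p R₀) :
    ∃ Q : Subgroup G, R₀ ≤ Q ∧ Q ≤ M ∧ IsPGroup p Q ∧ ¬ p ∣ Q.relIndex M := by
  have h0 : IsPGroup p (R₀.subgroupOf M) :=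
    hR₀.of_equiv (Subgroup.subgroupOfEquivOfLe hR₀M).symm
  obtain ⟨P, hP⟩ := h0.exists_le_sylow
  refine ⟨(P : Subgroup ↥M).map M.subtype, ?_, Subgroup.map_subtype_le _, P.2.map _, ?_⟩
  · intro x hx
    exact ⟨⟨x, hR₀M hx⟩, hP (Subgroup.mem_subgroupOf.mpr hx), rfl⟩
  · have : ((P : Subgroup ↥M).map M.subtype).relIndex M = (P : Subgroup ↥M).index := by
      rw [Subgroup.relIndex, Subgroup.subgroupOf,
        Subgroup.comap_map_eq_self_of_injective M.subtype_injective]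
    rw [this]
    exact P.not_dvd_index

/-- odd case: a maximal `z`-invariant `p`-subgroup is Sylow, when `z` is central modulo an odd normal
subgroup -/
theorem sylow_of_max_invariant_odd [Finite G] (z : G) (hz2 : z * z = 1) (N : Subgroup G) [N.Normal]
    (hNodd : Odd (Nat.card N)) (hN : ∀ g : G, z * g * z⁻¹ * g⁻¹ ∈ N) {p : ℕ} [Fact p.Prime]
    (hp : p ≠ 2) (Q : Subgroup G) (hQ : IsPGroup p Q)
    (hzQ : z ∈ Subgroup.normalizer (Q : Set G))
    (hmax : ∀ R : Subgroup G, IsPGroup p R → z ∈ Subgroup.normalizer (R : Set G) → Q ≤ R → R = Q) :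
    ∃ P : Sylow p G, (P : Subgroup G) = Q := by
  classical
  have hpp : p.Prime := Fact.out
  have hpodd : Odd p := hpp.odd_of_ne_two hp
  have hzi : z⁻¹ = z := inv_eq_of_mul_eq_one_left hz2
  by_contra hnot
  obtain ⟨P₁, hQP₁⟩ := hQ.exists_le_sylow
  have hne : Q ≠ (P₁ : Subgroup G) := fun e => hnot ⟨P₁, e.symm⟩
  obtain ⟨n, hn⟩ := hQ.exists_card_eq
  obtain ⟨m, hm⟩ := P₁.2.exists_card_eq
  have hnm : n < m := by
    by_contra hcon
    push Not at hcon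
    apply hne
    apply Subgroup.eq_of_le_of_card_ge hQP₁
    rw [hn, hm]
    exact Nat.pow_le_pow_right hpp.pos hcon
  have hdvd : p ^ (n + 1) ∣ Nat.card G := by
    have h1 : p ^ (n + 1) ∣ p ^ m := pow_dvd_pow p hnm
    rw [← hm] at h1
    exact h1.trans (Subgroup.card_subgroup_dvd_card _)
  obtain ⟨R₀, hR₀card, hQR₀⟩ := Sylow.exists_subgroup_card_pow_succ hdvd hn
  have hR₀p : IsPGroup p R₀ := IsPGroup.of_card hR₀card
  -- Q is normal in R₀
  have hR₀N : R₀ ≤ Subgroup.normalizer (Q : Set G) := by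
    rw [← Subgroup.normal_subgroupOf_iff_le_normalizer hQR₀]
    apply Subgroup.normal_of_index_eq_minFac_card
    have h1 : Nat.card ↥R₀ = Nat.card ↥Q * Q.relIndex R₀ := card_eq_card_mul_relIndex' Q R₀ hQR₀
    rw [hR₀card, hn, pow_succ] at h1
    have h2 : Q.relIndex R₀ = p := (Nat.eq_of_mul_eq_mul_left (pow_pos hpp.pos n) h1).symm
    change Q.relIndex R₀ = _
    rw [h2, hR₀card, Nat.Prime.pow_minFac hpp (Nat.succ_ne_zero n)]
  -- the odd-order z-invariant subgroup Y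
  set Y : Subgroup G := (N ⊔ R₀) ⊓ Subgroup.normalizer (Q : Set G) with hY
  have hR₀Y : R₀ ≤ Y := le_inf le_sup_right hR₀N
  have hYodd : Odd (Nat.card Y) := by
    have h1 : Nat.card ↥(N ⊔ R₀) = Nat.card ↥N * N.relIndex (N ⊔ R₀) :=
      card_eq_card_mul_relIndex' N (N ⊔ R₀) le_sup_left
    rw [Subgroup.relIndex_sup_left] at h1
    have h2 : N.relIndex R₀ ∣ p ^ (n + 1) := by
      rw [← hR₀card]; exact Subgroup.relIndex_dvd_card N R₀
    have h3 : Odd (N.relIndex R₀) := (hpodd.pow).of_dvd_nat h2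
    have h4 : Odd (Nat.card ↥(N ⊔ R₀)) := by rw [h1]; exact hNodd.mul h3
    exact h4.of_dvd_nat (Subgroup.card_dvd_of_le inf_le_left)
  have hYz : ∀ y ∈ Y, z * y * z⁻¹ ∈ Y := by
    intro y hy
    refine Subgroup.mem_inf.mpr ⟨?_, ?_⟩
    · have h1 : z * y * z⁻¹ * y⁻¹ ∈ N ⊔ R₀ := (le_sup_left : N ≤ N ⊔ R₀) (hN y)
      have h2 := (N ⊔ R₀).mul_mem h1 (Subgroup.mem_inf.mp hy).1
      rwa [inv_mul_cancel_right] at h2
    · exact Subgroup.mul_mem _ (Subgroup.mul_mem _ hzQ (Subgroup.mem_inf.mp hy).2)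
        (Subgroup.inv_mem _ hzQ)
  have hYord : ∀ y ∈ Y, Odd (orderOf y) := fun y hy =>
    hYodd.of_dvd_nat (Subgroup.orderOf_dvd_natCard Y hy)
  -- a Sylow p-subgroup R of Y over R₀
  obtain ⟨R, hR₀R, hRY, hRp, hRidx⟩ := exists_sylow_sub_ge Y R₀ hR₀Y hR₀p
  have hRzY : R.map (MulAut.conj z).toMonoidHom ≤ Y := by
    intro x hx
    rw [mem_map_conj] at hx
    have := hYz _ (hRY hx)
    have e : z * (z⁻¹ * x * z) * z⁻¹ = x := by group
    rwa [e] at this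
  obtain ⟨y, hyY, hy⟩ := conj_of_sylow hRY hRzY hRp (card_map_conj R z) hRidx
  have ht₀ : y * z ∈ Subgroup.normalizer (R : Set G) := mem_normalizer_of_map_map_eq hy
  have ht₀sq : (y * z) ^ 2 ∈ Y := by
    have e : (y * z) ^ 2 = y * (z * y * z⁻¹) := by
      rw [pow_two, hzi]; group
    rw [e]
    exact Y.mul_mem hyY (hYz y hyY)
  obtain ⟨j, hj⟩ := hYord _ ht₀sq
  -- the involution t = y₁ z
  set y₁ : G := ((y * z) ^ 2) ^ j * y with hy₁
  have hy₁Y : y₁ ∈ Y := Y.mul_mem (Y.pow_mem ht₀sq j) hyY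
  have ht : y₁ * z = (y * z) ^ (orderOf ((y * z) ^ 2)) := by
    rw [hj, hy₁, pow_succ (y * z) (2 * j), pow_mul, mul_assoc]
  have htN : y₁ * z ∈ Subgroup.normalizer (R : Set G) := by
    rw [ht]; exact Subgroup.pow_mem _ ht₀ _
  have htsq : y₁ * z * (y₁ * z) = 1 := by
    rw [ht, ← pow_two, ← pow_mul, mul_comm, pow_mul, pow_orderOf_eq_one]
  obtain ⟨w, hw, hwz⟩ := conj_involution hz2 htsq (hYord y₁ hy₁Y)
  have hwY : w ∈ Y := by
    have : Subgroup.zpowers y₁ ≤ Y := (Subgroup.zpowers_le).mpr hy₁Y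
    exact this hw
  have hwNQ : w ∈ Subgroup.normalizer (Q : Set G) := (Subgroup.mem_inf.mp hwY).2
  -- the z-invariant conjugate R' = w⁻¹ R w
  set R' : Subgroup G := R.map (MulAut.conj w⁻¹).toMonoidHom with hR'
  have hmemR' : ∀ x, x ∈ R' ↔ w * x * w⁻¹ ∈ R := by
    intro x
    rw [hR', mem_map_conj, inv_inv]
  have hR'p : IsPGroup p R' := hRp.map _
  have hzR' : z ∈ Subgroup.normalizer (R' : Set G) := by
    rw [Subgroup.mem_normalizer_iff]
    intro x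
    rw [hmemR', hmemR']
    have e : w * (z * x * z⁻¹) * w⁻¹ = (w * z * w⁻¹) * (w * x * w⁻¹) * (w * z * w⁻¹)⁻¹ := by group
    rw [e, hwz]
    exact Subgroup.mem_normalizer_iff.mp htN _
  have hQR' : Q ≤ R' := by
    intro x hx
    rw [hmemR']
    exact hR₀R (hQR₀ ((Subgroup.mem_normalizer_iff.mp hwNQ x).mp hx))
  have hfin := hmax R' hR'p hzR' hQR'
  have hc1 : Nat.card R' = Nat.card R := card_map_conj R w⁻¹
  have hc2 : Nat.card R₀ ≤ Nat.card R := Nat.le_of_dvd Nat.card_pos (Subgroup.card_dvd_of_le hR₀R)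
  rw [← hc1, hfin, hn, hR₀card] at hc2
  have : p ^ n < p ^ (n + 1) := Nat.pow_lt_pow_right hpp.one_lt (Nat.lt_succ_self n)
  omega

end Cfsg.Agent.helper18.Isolated

namespace Cfsg.Agent.helper18.Isolated

open Cfsg.Agent.helper18.Wagner

variable {G : Type*} [Group G]

/-- number of inverted elements = index of the centraliser, for an involution normalising a subgroup of
odd order -/
theorem card_inverted [Finite G] (z : G) (hz2 : z * z = 1) (P : Subgroup G)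
    (hzP : z ∈ Subgroup.normalizer (P : Set G)) (hPodd : Odd (Nat.card P)) :
    (P ⊓ Subgroup.centralizer ({z} : Set G)).relIndex P =
      Nat.card {x : G // x ∈ P ∧ z * x * z⁻¹ = x⁻¹} := by
  classical
  have hzi : z⁻¹ = z := inv_eq_of_mul_eq_one_left hz2
  set P₀ : Subgroup G := P ⊓ Subgroup.centralizer ({z} : Set G) with hP₀
  have hconj : ∀ x ∈ P, z * x * z⁻¹ ∈ P := fun x hx => (Subgroup.mem_normalizer_iff.mp hzP x).mp hx
  let f : ↥P → {x : G // x ∈ P ∧ z * x * z⁻¹ = x⁻¹} := fun x =>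
    ⟨(x : G) * (z * x * z⁻¹)⁻¹, P.mul_mem x.2 (P.inv_mem (hconj x x.2)), by
      have e1 : z * ((x : G) * (z * x * z⁻¹)⁻¹) * z⁻¹ = (z * x * z⁻¹) * (z * z * (x : G)⁻¹ * (z * z)⁻¹) := by
        group
      rw [e1, hz2]; group⟩
  have hf : ∀ x y : ↥P, f x = f y ↔ x⁻¹ * y ∈ P₀.subgroupOf P := by
    intro x y
    rw [Subgroup.mem_subgroupOf, hP₀, Subgroup.mem_inf, Subgroup.mem_centralizer_iff]
    simp only [f, Subtype.mk.injEq, Set.mem_singleton_iff, forall_eq, Subgroup.coe_mul,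
      Subgroup.coe_inv]
    constructor
    · intro h
      refine ⟨P.mul_mem (P.inv_mem x.2) y.2, ?_⟩
      -- x (z x z⁻¹)⁻¹ = y (z y z⁻¹)⁻¹
      have h2 : (x : G)⁻¹ * y = (z * x * z⁻¹)⁻¹ * (z * y * z⁻¹) := by
        have : (y : G) = (x : G) * (z * x * z⁻¹)⁻¹ * (z * y * z⁻¹) := by
          rw [h]; group
        calc (x : G)⁻¹ * y = (x : G)⁻¹ * ((x : G) * (z * x * z⁻¹)⁻¹ * (z * y * z⁻¹)) := by
              rw [← this]
          _ = (z * x * z⁻¹)⁻¹ * (z * y * z⁻¹) := by group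
      have h3 : (z * x * z⁻¹)⁻¹ * (z * y * z⁻¹) = z * ((x : G)⁻¹ * y) * z⁻¹ := by group
      rw [h3] at h2
      calc z * ((x : G)⁻¹ * y) = (z * ((x : G)⁻¹ * y) * z⁻¹) * z := by group
        _ = (x : G)⁻¹ * y * z := by rw [← h2]
    · rintro ⟨-, h⟩
      have h2 : z * ((x : G)⁻¹ * y) * z⁻¹ = (x : G)⁻¹ * y := by rw [h]; group
      have h3 : (z * x * z⁻¹)⁻¹ * (z * y * z⁻¹) = (x : G)⁻¹ * y := by
        rw [← h2]; group
      calc (x : G) * (z * x * z⁻¹)⁻¹ = (x : G) * ((z * x * z⁻¹)⁻¹ * (z * y * z⁻¹)) * (z * y * z⁻¹)⁻¹ := by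
            group
        _ = (y : G) * (z * y * z⁻¹)⁻¹ := by rw [h3]; group
  have hsurj : Function.Surjective f := by
    rintro ⟨i, hiP, hi⟩
    have hiodd : Odd (orderOf i) := hPodd.of_dvd_nat (Subgroup.orderOf_dvd_natCard P hiP)
    obtain ⟨w, hw, hww⟩ := exists_sqrt hiodd
    have hwP : w ∈ P := (Subgroup.zpowers_le.mpr hiP) hw
    obtain ⟨k, rfl⟩ := Subgroup.mem_zpowers_iff.mp hw
    have hwinv : z * (i ^ k) * z⁻¹ = (i ^ k)⁻¹ := by
      have := map_zpow (MulAut.conj z) i k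
      simp only [MulAut.conj_apply] at this
      rw [this, hi, inv_zpow]
    refine ⟨⟨i ^ k, hwP⟩, ?_⟩
    apply Subtype.ext
    simp only [f]
    rw [hwinv, inv_inv, hww]
  let g : (↥P ⧸ P₀.subgroupOf P) → {x : G // x ∈ P ∧ z * x * z⁻¹ = x⁻¹} :=
    Quotient.lift f (fun a b h => (hf a b).mpr (QuotientGroup.leftRel_apply.mp h))
  have hg : Function.Bijective g := by
    constructor
    · intro a b
      refine Quotient.inductionOn₂ a b ?_
      intro x y h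
      exact Quotient.sound (QuotientGroup.leftRel_apply.mpr ((hf x y).mp h))
    · intro i
      obtain ⟨x, hx⟩ := hsurj i
      exact ⟨Quotient.mk _ x, hx⟩
  rw [Subgroup.relIndex, Subgroup.index]
  exact Nat.card_congr (Equiv.ofBijective g hg)

/-- a `z`-invariant `p`-subgroup lies in a maximal one -/
lemma exists_max_invariant [Finite G] (z : G) {p : ℕ} (T : Subgroup G) (hT : IsPGroup p T)
    (hzT : z ∈ Subgroup.normalizer (T : Set G)) :
    ∃ Q : Subgroup G, T ≤ Q ∧ IsPGroup p Q ∧ z ∈ Subgroup.normalizer (Q : Set G) ∧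
      ∀ R : Subgroup G, IsPGroup p R → z ∈ Subgroup.normalizer (R : Set G) → Q ≤ R → R = Q := by
  classical
  haveI : Nonempty {Q : Subgroup G // T ≤ Q ∧ IsPGroup p Q ∧ z ∈ Subgroup.normalizer (Q : Set G)} :=
    ⟨⟨T, le_refl _, hT, hzT⟩⟩
  obtain ⟨⟨Q, hTQ, hQ, hzQ⟩, hmax⟩ := Finite.exists_max
    (fun Q : {Q : Subgroup G // T ≤ Q ∧ IsPGroup p Q ∧ z ∈ Subgroup.normalizer (Q : Set G)} =>
      Nat.card Q.1)
  refine ⟨Q, hTQ, hQ, hzQ, ?_⟩
  intro R hR hzR hQR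
  have := hmax ⟨R, hTQ.trans hQR, hR, hzR⟩
  exact (Subgroup.eq_of_le_of_card_ge hQR this).symm

/-- `z`-invariant Sylow `p`-subgroups are conjugate under the centraliser of `z` -/
lemma exists_centralizer_conj [Finite G] (z : G) (hz2 : z * z = 1) (N : Subgroup G) [N.Normal]
    (hNodd : Odd (Nat.card N)) (hN : ∀ g : G, z * g * z⁻¹ * g⁻¹ ∈ N)
    (P : Subgroup G) (hzP : z ∈ Subgroup.normalizer (P : Set G)) (g : G)
    (hzP₂ : z ∈ Subgroup.normalizer ((P.map (MulAut.conj g).toMonoidHom : Subgroup G) : Set G)) :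
    ∃ d : G, d * z = z * d ∧ P.map (MulAut.conj d).toMonoidHom = P.map (MulAut.conj g).toMonoidHom := by
  have hzi : z⁻¹ = z := inv_eq_of_mul_eq_one_left hz2
  -- z' = g⁻¹ z g normalises P
  have hz' : g⁻¹ * z * g ∈ Subgroup.normalizer (P : Set G) := by
    rw [Subgroup.mem_normalizer_iff]
    intro x
    have h1 := Subgroup.mem_normalizer_iff.mp hzP₂ (g * x * g⁻¹)
    rw [mem_map_conj, mem_map_conj] at h1
    have e1 : g⁻¹ * (g * x * g⁻¹) * g = x := by group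
    have e2 : g⁻¹ * (z * (g * x * g⁻¹) * z⁻¹) * g = g⁻¹ * z * g * x * (g⁻¹ * z * g)⁻¹ := by group
    rw [e1, e2] at h1
    exact h1
  set y₁ : G := g⁻¹ * z * g * z⁻¹ with hy₁
  have hy₁N : y₁ ∈ N := by
    have h1 := hN g⁻¹
    have h2 : y₁ = (z * g⁻¹ * z⁻¹ * g⁻¹⁻¹)⁻¹ := by
      rw [hy₁]; group
    rw [h2]
    exact N.inv_mem h1
  have hy₁P : y₁ ∈ Subgroup.normalizer (P : Set G) :=
    Subgroup.mul_mem _ hz' (Subgroup.inv_mem _ hzP)
  have hy₁z : y₁ * z = g⁻¹ * z * g := by rw [hy₁]; group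
  have hsq : y₁ * z * (y₁ * z) = 1 := by
    rw [hy₁z]
    calc g⁻¹ * z * g * (g⁻¹ * z * g) = g⁻¹ * (z * z) * g := by group
      _ = 1 := by rw [hz2]; group
  have hodd : Odd (orderOf y₁) := hNodd.of_dvd_nat (Subgroup.orderOf_dvd_natCard N hy₁N)
  obtain ⟨w, hw, hwz⟩ := conj_involution hz2 hsq hodd
  have hwP : w ∈ Subgroup.normalizer (P : Set G) := (Subgroup.zpowers_le.mpr hy₁P) hw
  refine ⟨g * w, ?_, ?_⟩
  · rw [hy₁z] at hwz
    -- w z w⁻¹ = g⁻¹ z g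
    calc g * w * z = g * (w * z * w⁻¹) * w := by group
      _ = g * (g⁻¹ * z * g) * w := by rw [hwz]
      _ = z * (g * w) := by group
  · ext x
    rw [mem_map_conj, mem_map_conj]
    have e : (g * w)⁻¹ * x * (g * w) = w⁻¹ * (g⁻¹ * x * g) * w := by group
    rw [e]
    have h1 := Subgroup.mem_normalizer_iff.mp hwP (w⁻¹ * (g⁻¹ * x * g) * w)
    have e2 : w * (w⁻¹ * (g⁻¹ * x * g) * w) * w⁻¹ = g⁻¹ * x * g := by group
    rw [e2] at h1
    exact h1

end Cfsg.Agent.helper18.Isolated
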