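import Mathlib

set_option autoImplicit false

namespace Cfsg.Agent.helper18

open MulAction
open scoped Pointwise

section

variable {G Ω : Type*} [Group G] [MulAction G Ω]

/-- The kernel of the action on the translates of a set. -/
def translateKernel (G : Type*) {Ω : Type*} [Group G] [MulAction G Ω] (B : Set Ω) : Subgroup G :=
  ⨅ g : G, stabilizer G (g • B)

lemma mem_translateKernel {B : Set Ω} {k : G} :
    k ∈ translateKernel G B ↔ ∀ g : G, k • (g • B) = g • B := by
  unfold translateKernel
  rw [Subgroup.mem_iInf]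
  exact forall_congr' fun g => mem_stabilizer_iff

lemma translateKernel_normal (B : Set Ω) : (translateKernel G B).Normal := by
  constructor
  intro k hk a
  rw [mem_translateKernel] at hk ⊢
  intro g
  have := hk (a⁻¹ * g)
  calc (a * k * a⁻¹) • g • B = a • k • ((a⁻¹ * g) • B) := by simp only [mul_smul]
    _ = a • ((a⁻¹ * g) • B) := by rw [this]
    _ = g • B := by rw [← mul_smul, mul_inv_cancel_left]

/-- Quasiprimitive group with a primitive Jordan set is primitive. -/
theorem isPreprimitive_of_quasi_jordan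
    (hqp : ∀ N : Subgroup G, N.Normal → N ≠ ⊥ → IsPretransitive N Ω)
    (s : Set Ω) (hs : sᶜ.Nontrivial)
    (hJp : IsPreprimitive (fixingSubgroup G s) (SubMulAction.ofFixingSubgroup G s)) :
    IsPreprimitive G Ω := by
  obtain ⟨x₀, hx₀, y₀, hy₀, hxy₀⟩ := hs
  let x : SubMulAction.ofFixingSubgroup G s := ⟨x₀, hx₀⟩
  let y : SubMulAction.ofFixingSubgroup G s := ⟨y₀, hy₀⟩
  have hxy : x ≠ y := fun h => hxy₀ (congrArg Subtype.val h)
  have hJt : IsPretransitive (fixingSubgroup G s) (SubMulAction.ofFixingSubgroup G s) :=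
    hJp.toIsPretransitive
  -- H is nontrivial
  have hHne : fixingSubgroup G s ≠ ⊥ := by
    intro hbot
    obtain ⟨h, hh⟩ := exists_smul_eq (fixingSubgroup G s) x y
    have h1 : (h : G) ∈ (⊥ : Subgroup G) := hbot ▸ h.2
    rw [Subgroup.mem_bot] at h1
    have h2 : (h : G) • x₀ = y₀ := congrArg Subtype.val hh
    rw [h1, one_smul] at h2
    exact hxy₀ h2
  have hGne : (⊤ : Subgroup G) ≠ ⊥ := by
    intro h
    apply hHne
    rw [eq_bot_iff, ← h]
    exact le_top
  have hGt : IsPretransitive G Ω := by
    have := hqp ⊤ inferInstance hGne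
    constructor
    intro a b
    obtain ⟨g, hg⟩ := exists_smul_eq (⊤ : Subgroup G) a b
    exact ⟨g, hg⟩
  refine ⟨?_⟩
  intro B hB
  unfold IsTrivialBlock
  by_contra hcon
  push Not at hcon
  obtain ⟨hnt, hnu⟩ := hcon
  obtain ⟨b₁, hb₁, b₂, hb₂, hb₁₂⟩ := hnt
  obtain ⟨g, hg⟩ := exists_smul_eq G b₁ x₀
  set B' := g • B with hB'def
  have hB' : IsBlock G B' := hB.translate g
  have hxB' : x₀ ∈ B' := by
    rw [← hg]; exact Set.smul_mem_smul_set hb₁
  -- a second point of B'
  obtain ⟨z, hzB', hzx⟩ : ∃ z ∈ B', z ≠ x₀ := by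
    refine ⟨g • b₂, Set.smul_mem_smul_set hb₂, ?_⟩
    rw [← hg]
    intro h
    exact hb₁₂ (smul_left_cancel g h).symm
  have hT : IsBlock (fixingSubgroup G s)
      (Subtype.val ⁻¹' B' : Set (SubMulAction.ofFixingSubgroup G s)) :=
    (hB'.subgroup (H := fixingSubgroup G s)).subtype_val_preimage
  rcases hJp.isTrivialBlock_of_isBlock hT with hTs | hTu
  · -- B' meets Γ in the single point x₀
    obtain ⟨h, hh⟩ := exists_smul_eq (fixingSubgroup G s) x y
    have hzs : z ∈ s := by
      by_contra hzs
      have : (⟨z, hzs⟩ : SubMulAction.ofFixingSubgroup G s) = x :=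
        hTs (show (⟨z, hzs⟩ : SubMulAction.ofFixingSubgroup G s) ∈
          (Subtype.val ⁻¹' B' : Set (SubMulAction.ofFixingSubgroup G s)) from hzB')
          (show x ∈ (Subtype.val ⁻¹' B' : Set (SubMulAction.ofFixingSubgroup G s)) from hxB')
      exact hzx (congrArg Subtype.val this)
    have hhz : (h : G) • z = z := (mem_fixingSubgroup_iff G).mp h.2 z hzs
    have hhB' : (h : G) • B' = B' := by
      apply (isBlock_iff_smul_eq_of_nonempty.mp hB')
      refine ⟨z, ?_, hzB'⟩
      rw [← hhz]
      exact Set.smul_mem_smul_set hzB'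
    have hyB' : y₀ ∈ B' := by
      have h1 : (h : G) • x₀ = y₀ := congrArg Subtype.val hh
      rw [← h1, ← hhB']
      exact Set.smul_mem_smul_set hxB'
    have : y = x := hTs
      (show y ∈ (Subtype.val ⁻¹' B' : Set (SubMulAction.ofFixingSubgroup G s)) from hyB')
      (show x ∈ (Subtype.val ⁻¹' B' : Set (SubMulAction.ofFixingSubgroup G s)) from hxB')
    exact hxy this.symm
  · -- Γ ⊆ B'
    have hΓB' : ∀ ω : Ω, ω ∉ s → ω ∈ B' := by
      intro ω hω
      have : (⟨ω, hω⟩ : SubMulAction.ofFixingSubgroup G s) ∈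
          (Subtype.val ⁻¹' B' : Set (SubMulAction.ofFixingSubgroup G s)) := by
        rw [hTu]; exact Set.mem_univ _
      exact this
    have hHK : fixingSubgroup G s ≤ translateKernel G B' := by
      intro h hh
      rw [mem_translateKernel]
      intro g'
      have hS : IsBlock G (g' • B') := hB'.translate g'
      apply (isBlock_iff_smul_eq_of_nonempty.mp hS)
      have hSne : (g' • B').Nonempty := ⟨g' • x₀, Set.smul_mem_smul_set hxB'⟩
      obtain ⟨ω, hω⟩ := hSne
      by_cases hωs : ω ∈ s
      · refine ⟨ω, ?_, hω⟩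
        have : h • ω = ω := (mem_fixingSubgroup_iff G).mp hh ω hωs
        rw [← this]
        exact Set.smul_mem_smul_set hω
      · have hωB' : ω ∈ B' := hΓB' ω hωs
        have hSB' : g' • B' = B' := by
          have := (isBlock_iff_smul_eq_smul_of_nonempty.mp hB') (g₁ := g') (g₂ := 1)
            ⟨ω, hω, by rw [one_smul]; exact hωB'⟩
          rw [this, one_smul]
        refine ⟨h • ω, Set.smul_mem_smul_set hω, ?_⟩
        rw [hSB']
        apply hΓB'
        have := (SubMulAction.ofFixingSubgroup G s).smul_mem' ⟨h, hh⟩ (x := ω) hωs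
        exact this
    have hKne : translateKernel G B' ≠ ⊥ := by
      intro h
      apply hHne
      rw [eq_bot_iff, ← h]
      exact hHK
    have hKt := hqp _ (translateKernel_normal B') hKne
    have hB'u : B' = Set.univ := by
      rw [Set.eq_univ_iff_forall]
      intro ω
      obtain ⟨k, hk⟩ := exists_smul_eq (translateKernel G B') x₀ ω
      have hk1 := mem_translateKernel.mp k.2 1
      rw [one_smul] at hk1
      have hmem : (k : G) • x₀ ∈ (k : G) • B' := Set.smul_mem_smul_set hxB'
      rw [hk1] at hmem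
      rw [← hk]
      exact hmem
    apply hnu
    have : B = g⁻¹ • B' := by rw [hB'def, inv_smul_smul]
    rw [this, hB'u, Set.smul_set_univ]

end

end Cfsg.Agent.helper18
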