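import Mathlib
import Cfsg.Agent.Lib_helper18_KTrans

set_option autoImplicit false

namespace Cfsg.Agent.helper18

open MulAction
open scoped Pointwise

section KPrim

variable {G X : Type*} [Group G] [MulAction G X]

/-- Every block of `H` inside the complement of `T` is trivial. -/
def BlockTriv (H : Subgroup G) (T : Set X) : Prop :=
  ∀ B : Set X, B ⊆ Tᶜ → (∀ g ∈ H, g • B = B ∨ Disjoint (g • B) B) → B.Subsingleton ∨ B = Tᶜ

lemma BlockTriv.mono {H H' : Subgroup G} {T : Set X} (h : BlockTriv H T) (hle : H ≤ H') :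
    BlockTriv H' T :=
  fun B hB hg => h B hB (fun g hgH => hg g (hle hgH))

lemma blockTriv_of_isPreprimitive (T : Set X)
    (h : IsPreprimitive (fixingSubgroup G T) (SubMulAction.ofFixingSubgroup G T)) :
    BlockTriv (fixingSubgroup G T) T := by
  intro B hBT hB
  have hsmul : ∀ g : fixingSubgroup G T,
      g • (Subtype.val ⁻¹' B : Set (SubMulAction.ofFixingSubgroup G T)) =
        Subtype.val ⁻¹' ((g : G) • B) := by
    intro g
    ext x
    rw [Set.mem_smul_set_iff_inv_smul_mem, Set.mem_preimage, Set.mem_preimage,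
      Set.mem_smul_set_iff_inv_smul_mem]
    rfl
  have hblock : IsBlock (fixingSubgroup G T)
      (Subtype.val ⁻¹' B : Set (SubMulAction.ofFixingSubgroup G T)) := by
    rw [isBlock_iff_smul_eq_or_disjoint]
    intro g
    rcases hB (g : G) g.2 with h1 | h1
    · left
      rw [hsmul, h1]
    · right
      rw [hsmul]
      exact Disjoint.preimage _ h1
  have hmem : ∀ x, x ∈ Tᶜ → x ∈ SubMulAction.ofFixingSubgroup G T := fun x hx =>
    (SubMulAction.mem_ofFixingSubgroup_iff G).mpr hx
  rcases h.isTrivialBlock_of_isBlock hblock with h1 | h1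
  · left
    intro x hx y hy
    have h2 := h1 (show (⟨x, hmem x (hBT hx)⟩ : SubMulAction.ofFixingSubgroup G T) ∈
      (Subtype.val ⁻¹' B : Set (SubMulAction.ofFixingSubgroup G T)) from hx)
      (show (⟨y, hmem y (hBT hy)⟩ : SubMulAction.ofFixingSubgroup G T) ∈
      (Subtype.val ⁻¹' B : Set (SubMulAction.ofFixingSubgroup G T)) from hy)
    exact congrArg Subtype.val h2
  · right
    apply Set.Subset.antisymm hBT
    intro x hx
    have h2 : (⟨x, hmem x hx⟩ : SubMulAction.ofFixingSubgroup G T) ∈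
        (Subtype.val ⁻¹' B : Set (SubMulAction.ofFixingSubgroup G T)) := by
      rw [h1]
      exact Set.mem_univ _
    exact h2

lemma eq_of_smul_eq_of_sreg {N' : Subgroup G} {S : Set X} (hR : SReg N' S) {a : X} (ha : a ∉ S)
    {u v : G} (hu : u ∈ N') (hv : v ∈ N') (huv : u • a = v • a) : u = v := by
  have h1 : v⁻¹ * u = 1 :=
    hR _ (N'.mul_mem (N'.inv_mem hv) hu) a ha (by rw [mul_smul, huv, inv_smul_smul])
  calc u = v * (v⁻¹ * u) := by group
    _ = v := by rw [h1, mul_one]

/-- A regular normal subgroup of a group whose point stabiliser is primitive on the rest has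
exponent 2, or the degree is 3. -/
lemma sq_eq_one_or_ncard_three [Finite X] {G' N' : Subgroup G} {S : Set X} (hF : Fixes G' S)
    (hN : NNormal G' N') (hR : SReg N' S) {a : X} (ha : a ∉ S)
    (hB : BlockTriv (G' ⊓ stabilizer G a) (insert a S)) :
    (Sᶜ).ncard = 3 ∨ ∀ n ∈ N', n ^ 2 = 1 := by
  classical
  by_cases hall : ∀ n ∈ N', n ^ 2 = 1
  · exact Or.inr hall
  left
  push Not at hall
  obtain ⟨n, hn, hn2⟩ := hall
  have hFN : Fixes N' S := fun h hh => hF h (hN.1 hh)
  have hna : n • a ≠ a := fun h => hn2 (by rw [hR n hn a ha h, one_pow])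
  have hnia : n⁻¹ • a ≠ a := fun h => hn2 (by
    have h1 := hR n⁻¹ (N'.inv_mem hn) a ha h
    rw [inv_eq_one] at h1
    rw [h1, one_pow])
  have hnn : n⁻¹ • a ≠ n • a := fun h => hn2 (by
    apply hR (n ^ 2) (N'.pow_mem hn 2) a ha
    rw [pow_two, mul_smul, ← h, smul_inv_smul])
  have hBsub : ({n • a, n⁻¹ • a} : Set X) ⊆ (insert a S)ᶜ := by
    intro z hz
    rw [Set.mem_compl_iff, Set.mem_insert_iff, not_or]
    rcases hz with rfl | hz
    · exact ⟨hna, hFN.smul_notMem hn ha⟩
    · rw [Set.mem_singleton_iff] at hz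
      subst hz
      exact ⟨hnia, hFN.smul_notMem (N'.inv_mem hn) ha⟩
  have hBblock : ∀ g ∈ G' ⊓ stabilizer G a, g • ({n • a, n⁻¹ • a} : Set X) = {n • a, n⁻¹ • a} ∨
      Disjoint (g • ({n • a, n⁻¹ • a} : Set X)) {n • a, n⁻¹ • a} := by
    intro g hg
    rw [Subgroup.mem_inf] at hg
    have hga : g • a = a := mem_stabilizer_iff.mp hg.2
    have hgia : g⁻¹ • a = a := by rw [inv_smul_eq_iff, hga]
    have hmN : g * n * g⁻¹ ∈ N' := hN.2 g hg.1 n hn
    have h1 : g • (n • a) = (g * n * g⁻¹) • a := by rw [mul_smul, mul_smul, hgia]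
    have h2 : g • (n⁻¹ • a) = (g * n * g⁻¹)⁻¹ • a := by
      have h3 : (g * n * g⁻¹)⁻¹ = g * n⁻¹ * g⁻¹ := by group
      rw [h3, mul_smul, mul_smul, hgia]
    have hgB : g • ({n • a, n⁻¹ • a} : Set X) = {(g * n * g⁻¹) • a, (g * n * g⁻¹)⁻¹ • a} := by
      rw [Set.smul_set_insert, Set.smul_set_singleton, h1, h2]
    by_cases hdisj : Disjoint (g • ({n • a, n⁻¹ • a} : Set X)) {n • a, n⁻¹ • a}
    · exact Or.inr hdisj
    · left
      rw [Set.not_disjoint_iff] at hdisj
      obtain ⟨z, hz1, hz2⟩ := hdisj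
      rw [hgB] at hz1 ⊢
      have hmn : g * n * g⁻¹ = n ∨ g * n * g⁻¹ = n⁻¹ := by
        rcases hz1 with rfl | hz1
        · rcases hz2 with h | h
          · exact Or.inl (eq_of_smul_eq_of_sreg hR ha hmN hn h)
          · exact Or.inr (eq_of_smul_eq_of_sreg hR ha hmN (N'.inv_mem hn) h)
        · rw [Set.mem_singleton_iff] at hz1
          subst hz1
          rcases hz2 with h | h
          · right
            have h5 := eq_of_smul_eq_of_sreg hR ha (N'.inv_mem hmN) hn h
            exact inv_eq_iff_eq_inv.mp h5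
          · left
            have h5 := eq_of_smul_eq_of_sreg hR ha (N'.inv_mem hmN) (N'.inv_mem hn) h
            exact inv_injective h5
      rcases hmn with h | h
      · rw [h]
      · rw [h, inv_inv]
        exact Set.pair_comm _ _
  rcases hB _ hBsub hBblock with h | h
  · exfalso
    exact hnn (h (show n⁻¹ • a ∈ ({n • a, n⁻¹ • a} : Set X) by simp)
      (show n • a ∈ ({n • a, n⁻¹ • a} : Set X) by simp))
  · have h2 : ({n • a, n⁻¹ • a} : Set X).ncard = 2 := Set.ncard_pair (Ne.symm hnn)
    rw [h, ncard_compl_insert ha] at h2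
    omega

/-- A regular normal subgroup of a 3-primitive group: the degree is 3 or 4. -/
lemma ncard_three_or_four [Finite X] {G' N' : Subgroup G} {S : Set X} (hF : Fixes G' S)
    (hN : NNormal G' N') (hT : KT N' S 1) (hR : SReg N' S) {a : X} (ha : a ∉ S)
    (h3 : 3 ≤ (Sᶜ).ncard)
    (hB1 : BlockTriv (G' ⊓ stabilizer G a) (insert a S))
    (hB2 : ∀ b, b ∉ insert a S →
      BlockTriv (G' ⊓ stabilizer G a ⊓ stabilizer G b) (insert b (insert a S))) :
    (Sᶜ).ncard = 3 ∨ (Sᶜ).ncard = 4 := by
  classical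
  rcases sq_eq_one_or_ncard_three hF hN hR ha hB1 with h | hE
  · exact Or.inl h
  right
  have hFN : Fixes N' S := fun h hh => hF h (hN.1 hh)
  obtain ⟨b, hb, hbT⟩ := exists_notMem_finset (S := S) ({a} : Finset X) (by simp; omega)
  obtain ⟨c, hc, hcT⟩ := exists_notMem_finset (S := S) ({a, b} : Finset X)
    (lt_of_le_of_lt Finset.card_le_two (by omega))
  rw [Finset.mem_singleton] at hbT
  simp only [Finset.mem_insert, Finset.mem_singleton, not_or] at hcT
  obtain ⟨n, hn, hna⟩ := hT.exists_smul_eq le_rfl ha hb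
  have hnn : n • (n • c) = c := by
    rw [← mul_smul, ← pow_two, hE n hn, one_smul]
  have hninv : n⁻¹ = n := by
    have := hE n hn
    rw [pow_two] at this
    exact inv_eq_of_mul_eq_one_left this
  have hn1 : n ≠ 1 := by
    intro h
    apply hbT
    rw [← hna, h, one_smul]
  have hncc : n • c ≠ c := fun h => hn1 (hR n hn c hc h)
  have hbaS : b ∉ insert a S := by
    rw [Set.mem_insert_iff, not_or]
    exact ⟨hbT, hb⟩
  have hnca : n • c ≠ a := by
    intro h
    apply hcT.2
    have : c = n⁻¹ • a := by rw [← h, inv_smul_smul]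
    rw [this, hninv, hna]
  have hncb : n • c ≠ b := by
    intro h
    rw [← hna] at h
    exact hcT.1 (smul_left_cancel n h)
  have hBsub : ({c, n • c} : Set X) ⊆ (insert b (insert a S))ᶜ := by
    intro z hz
    rw [Set.mem_compl_iff, Set.mem_insert_iff, Set.mem_insert_iff, not_or, not_or]
    rcases hz with rfl | hz
    · exact ⟨hcT.2, hcT.1, hc⟩
    · rw [Set.mem_singleton_iff] at hz
      subst hz
      exact ⟨hncb, hnca, hFN.smul_notMem hn hc⟩
  have hBblock : ∀ g ∈ G' ⊓ stabilizer G a ⊓ stabilizer G b,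
      g • ({c, n • c} : Set X) = {c, n • c} ∨ Disjoint (g • ({c, n • c} : Set X)) {c, n • c} := by
    intro g hg
    rw [Subgroup.mem_inf, Subgroup.mem_inf] at hg
    have hga : g • a = a := mem_stabilizer_iff.mp hg.1.2
    have hgb : g • b = b := mem_stabilizer_iff.mp hg.2
    have hcomm : g * n = n * g :=
      commute_of_fix hN hR ha hg.1.1 hn hga (by rw [hna]; exact hgb)
    have h1 : g • (n • c) = n • (g • c) := by rw [← mul_smul, hcomm, mul_smul]
    have hgB : g • ({c, n • c} : Set X) = {g • c, n • (g • c)} := by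
      rw [Set.smul_set_insert, Set.smul_set_singleton, h1]
    by_cases hdisj : Disjoint (g • ({c, n • c} : Set X)) {c, n • c}
    · exact Or.inr hdisj
    · left
      rw [Set.not_disjoint_iff] at hdisj
      obtain ⟨z, hz1, hz2⟩ := hdisj
      rw [hgB] at hz1 ⊢
      have hmn : g • c = c ∨ g • c = n • c := by
        rcases hz1 with rfl | hz1
        · rcases hz2 with h | h
          · exact Or.inl h
          · exact Or.inr h
        · rw [Set.mem_singleton_iff] at hz1
          subst hz1
          rcases hz2 with h | h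
          · right
            have h5 : g • c = n⁻¹ • c := eq_inv_smul_iff.mpr h
            rw [h5, hninv]
          · left
            exact smul_left_cancel n h
      rcases hmn with h | h
      · rw [h]
      · rw [h, hnn]
        exact Set.pair_comm _ _
  rcases hB2 b hbaS _ hBsub hBblock with h | h
  · exfalso
    exact hncc (h (show n • c ∈ ({c, n • c} : Set X) by simp)
      (show c ∈ ({c, n • c} : Set X) by simp))
  · have h2 : ({c, n • c} : Set X).ncard = 2 := Set.ncard_pair (Ne.symm hncc)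
    rw [h, ncard_compl_insert hbaS, ncard_compl_insert ha] at h2
    omega


lemma kt_one_of_forall {H : Subgroup G} {S : Set X}
    (h : ∀ x y, x ∉ S → y ∉ S → ∃ g ∈ H, g • x = y) : KT H S 1 := by
  intro s f hs hS _
  rcases s.eq_empty_or_nonempty with rfl | ⟨x, hx⟩
  · exact ⟨1, H.one_mem, by simp⟩
  have hsx : ∀ z ∈ s, z = x := fun z hz => Finset.card_le_one.mp hs z hz x hx
  obtain ⟨g, hg, hgx⟩ := h x (f x) (hS x hx).1 (hS x hx).2
  exact ⟨g, hg, fun z hz => by rw [hsx z hz, hgx]⟩

lemma sreg_of_stabilizer_eq_bot (N : Subgroup G) (hreg : ∀ x : X, stabilizer N x = ⊥) :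
    SReg N (∅ : Set X) := by
  intro n hn y _ hny
  have h1 : (⟨n, hn⟩ : N) ∈ stabilizer N y := by
    rw [mem_stabilizer_iff]
    exact hny
  rw [hreg y, Subgroup.mem_bot] at h1
  exact congrArg Subtype.val h1

lemma kt_one_of_isPretransitive (N : Subgroup G) (htrans : IsPretransitive N X) :
    KT N (∅ : Set X) 1 := by
  apply kt_one_of_forall
  intro x y _ _
  obtain ⟨g, hg⟩ := htrans.exists_smul_eq x y
  exact ⟨g, g.2, hg⟩

lemma fixes_top_empty : Fixes (⊤ : Subgroup G) (∅ : Set X) :=
  fun _ _ z hz => absurd hz (Set.notMem_empty z)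

lemma nnormal_top (N : Subgroup G) [N.Normal] : NNormal (⊤ : Subgroup G) N :=
  ⟨le_top, fun g _ n hn => Subgroup.Normal.conj_mem inferInstance n hn g⟩

lemma blockTriv_top_stab_of_isPreprimitive (a : X)
    (h : IsPreprimitive (fixingSubgroup G ({a} : Set X))
      (SubMulAction.ofFixingSubgroup G ({a} : Set X))) :
    BlockTriv ((⊤ : Subgroup G) ⊓ stabilizer G a) (insert a (∅ : Set X)) := by
  have h1 : insert a (∅ : Set X) = {a} := by
    ext z
    simp
  rw [h1]
  apply (blockTriv_of_isPreprimitive _ h).mono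
  intro g hg
  rw [mem_fixingSubgroup_iff] at hg
  rw [Subgroup.mem_inf]
  exact ⟨Subgroup.mem_top g, mem_stabilizer_iff.mpr (hg a (Set.mem_singleton a))⟩

lemma blockTriv_top_stab_stab_of_isPreprimitive (a b : X)
    (h : IsPreprimitive (fixingSubgroup G ({b, a} : Set X))
      (SubMulAction.ofFixingSubgroup G ({b, a} : Set X))) :
    BlockTriv ((⊤ : Subgroup G) ⊓ stabilizer G a ⊓ stabilizer G b)
      (insert b (insert a (∅ : Set X))) := by
  have h1 : insert b (insert a (∅ : Set X)) = {b, a} := by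
    ext z
    simp
  rw [h1]
  apply (blockTriv_of_isPreprimitive _ h).mono
  intro g hg
  rw [mem_fixingSubgroup_iff] at hg
  rw [Subgroup.mem_inf, Subgroup.mem_inf]
  exact ⟨⟨Subgroup.mem_top g, mem_stabilizer_iff.mpr (hg a (by simp))⟩,
    mem_stabilizer_iff.mpr (hg b (by simp))⟩

end KPrim

end Cfsg.Agent.helper18
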