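import Mathlib
import Cfsg.Agent.Lib_helper18_KPrim

set_option autoImplicit false

namespace Cfsg.Agent.helper18

open MulAction
open scoped Pointwise

section W

variable {G X : Type*} [Group G] [MulAction G X]

/-- `G'` acts `k`-primitively on the complement of `S` (elementary form). -/
def KP (G' : Subgroup G) (S : Set X) (k : ℕ) : Prop :=
  KT G' S k ∧ ∀ T : Set X, S ⊆ T → (T \ S).ncard + 1 = k →
    BlockTriv (G' ⊓ fixingSubgroup G T) T

lemma KP.stab [Finite X] {G' : Subgroup G} {S : Set X} {k : ℕ} (h : KP G' S (k + 1)) {a : X}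
    (ha : a ∉ S) : KP (G' ⊓ stabilizer G a) (insert a S) k := by
  refine ⟨h.1.stab ha, fun T hST hT => ?_⟩
  have hST' : S ⊆ T := (Set.subset_insert a S).trans hST
  have haT : a ∈ T := hST (Set.mem_insert a S)
  have hcard : (T \ S).ncard + 1 = k + 1 := by
    have h1 : T \ S = insert a (T \ insert a S) := by
      ext z
      simp only [Set.mem_sdiff, Set.mem_insert_iff, not_or]
      constructor
      · rintro ⟨hz, hzS⟩
        by_cases hza : z = a
        · exact Or.inl hza
        · exact Or.inr ⟨hz, hza, hzS⟩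
      · rintro (rfl | ⟨hz, _, hzS⟩)
        · exact ⟨haT, ha⟩
        · exact ⟨hz, hzS⟩
    have h2 : a ∉ T \ insert a S := fun h => h.2 (Set.mem_insert a S)
    rw [h1, Set.ncard_insert_of_notMem h2 (Set.toFinite _), hT]
  apply (h.2 T hST' hcard).mono
  intro g hg
  rw [Subgroup.mem_inf] at hg ⊢
  refine ⟨Subgroup.mem_inf.mpr ⟨hg.1, ?_⟩, hg.2⟩
  rw [mem_stabilizer_iff]
  exact (mem_fixingSubgroup_iff G).mp hg.2 a haT

/-- A nontrivial normal subgroup of a primitive group is transitive (relative form). -/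
lemma kt_one_of_blockTriv [FaithfulSMul G X] {G' N' : Subgroup G} {S : Set X} (hF : Fixes G' S)
    (hN : NNormal G' N') (hN1 : N' ≠ ⊥) (hB : BlockTriv G' S) : KT N' S 1 := by
  classical
  obtain ⟨n, hn, hn1⟩ : ∃ n ∈ N', n ≠ 1 := by
    by_contra hcon
    push Not at hcon
    apply hN1
    rw [eq_bot_iff]
    intro n hn
    exact Subgroup.mem_bot.mpr (hcon n hn)
  obtain ⟨y, hy⟩ : ∃ y : X, n • y ≠ y := by
    by_contra hcon
    push Not at hcon
    apply hn1
    apply FaithfulSMul.eq_of_smul_eq_smul (α := X)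
    intro x
    rw [hcon x, one_smul]
  have hFN : Fixes N' S := fun h hh => hF h (hN.1 hh)
  have hyS : y ∉ S := fun h => hy (hFN n hn y h)
  -- the orbit relation
  have rsymm : ∀ x z : X, (∃ h ∈ N', h • x = z) → ∃ h ∈ N', h • z = x := by
    rintro x z ⟨h, hh, rfl⟩
    exact ⟨h⁻¹, N'.inv_mem hh, inv_smul_smul h x⟩
  have rtrans : ∀ x z w : X, (∃ h ∈ N', h • x = z) → (∃ h ∈ N', h • z = w) →
      ∃ h ∈ N', h • x = w := by
    rintro x z w ⟨h, hh, rfl⟩ ⟨h', hh', rfl⟩
    exact ⟨h' * h, N'.mul_mem hh' hh, mul_smul h' h x⟩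
  have rsmul : ∀ g ∈ G', ∀ x z : X, (∃ h ∈ N', h • x = z) → ∃ h ∈ N', h • (g • x) = g • z := by
    rintro g hg x z ⟨h, hh, rfl⟩
    refine ⟨g * h * g⁻¹, hN.2 g hg h hh, ?_⟩
    rw [mul_smul, mul_smul, inv_smul_smul]
  have hBsub : {z : X | ∃ h ∈ N', h • y = z} ⊆ Sᶜ := by
    rintro z ⟨h, hh, rfl⟩
    exact hFN.smul_notMem hh hyS
  have hmem : ∀ g ∈ G', ∀ w : X, w ∈ g • {z : X | ∃ h ∈ N', h • y = z} ↔
      ∃ h ∈ N', h • (g • y) = w := by
    intro g hg w
    rw [Set.mem_smul_set_iff_inv_smul_mem, Set.mem_setOf_eq]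
    constructor
    · intro h
      have := rsmul g hg _ _ h
      rwa [smul_inv_smul] at this
    · intro h
      have := rsmul g⁻¹ (G'.inv_mem hg) _ _ h
      rwa [inv_smul_smul] at this
  have hBblock : ∀ g ∈ G', g • {z : X | ∃ h ∈ N', h • y = z} = {z : X | ∃ h ∈ N', h • y = z} ∨
      Disjoint (g • {z : X | ∃ h ∈ N', h • y = z}) {z : X | ∃ h ∈ N', h • y = z} := by
    intro g hg
    by_cases hdisj : Disjoint (g • {z : X | ∃ h ∈ N', h • y = z}) {z : X | ∃ h ∈ N', h • y = z}
    · exact Or.inr hdisj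
    left
    rw [Set.not_disjoint_iff] at hdisj
    obtain ⟨z, hz1, hz2⟩ := hdisj
    rw [hmem g hg] at hz1
    have hgy : ∃ h ∈ N', h • (g • y) = y := rtrans _ _ _ hz1 (rsymm _ _ hz2)
    ext w
    rw [hmem g hg, Set.mem_setOf_eq]
    constructor
    · intro h
      exact rtrans _ _ _ (rsymm _ _ hgy) h
    · intro h
      exact rtrans _ _ _ hgy h
  rcases hB _ hBsub hBblock with h | h
  · exfalso
    apply hy
    exact h ⟨n, hn, rfl⟩ ⟨1, N'.one_mem, one_smul _ _⟩
  · apply kt_one_of_forall
    intro x z hx hz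
    have hx' : x ∈ {z : X | ∃ h ∈ N', h • y = z} := by
      rw [h]
      exact hx
    have hz' : z ∈ {z : X | ∃ h ∈ N', h • y = z} := by
      rw [h]
      exact hz
    exact rtrans _ _ _ (rsymm _ _ hx') hz'

/-- `G'` induces the full symmetric group on the complement of `S`. -/
def FullSym (G' : Subgroup G) (S : Set X) : Prop :=
  ∀ σ : Equiv.Perm X, (∀ z ∈ S, σ z = z) → ∃ g ∈ G', ∀ x, g • x = σ x

lemma FullSym.of_stab {G' : Subgroup G} {S : Set X} (hF : Fixes G' S) (hT : KT G' S 1) {a : X}
    (ha : a ∉ S) (h : FullSym (G' ⊓ stabilizer G a) (insert a S)) : FullSym G' S := by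
  intro σ hσ
  have hσa : σ a ∉ S := by
    intro hmem
    have h1 := hσ _ hmem
    have h2 : σ a = a := σ.injective h1
    rw [h2] at hmem
    exact ha hmem
  obtain ⟨g1, hg1, hg1a⟩ := hT.exists_smul_eq le_rfl hσa ha
  obtain ⟨g2, hg2, hg2x⟩ := h (MulAction.toPerm g1 * σ) (by
    intro z hz
    rcases Set.mem_insert_iff.mp hz with rfl | hz
    · rw [Equiv.Perm.mul_apply, MulAction.toPerm_apply, hg1a]
    · rw [Equiv.Perm.mul_apply, hσ z hz, MulAction.toPerm_apply]
      exact hF g1 hg1 z hz)
  rw [Subgroup.mem_inf] at hg2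
  refine ⟨g1⁻¹ * g2, G'.mul_mem (G'.inv_mem hg1) hg2.1, fun x => ?_⟩
  rw [mul_smul, hg2x x, Equiv.Perm.mul_apply, MulAction.toPerm_apply, inv_smul_smul]

lemma FullSym.of_kt [Finite X] {G' : Subgroup G} {S : Set X} (hF : Fixes G' S) {j : ℕ}
    (hT : KT G' S j) (hcard : (Sᶜ).ncard ≤ j + 1) : FullSym G' S := by
  classical
  intro σ hσ
  have hσS : ∀ x, x ∉ S → σ x ∉ S := by
    intro x hx hmem
    have h1 := hσ _ hmem
    have h2 : σ x = x := σ.injective h1
    rw [h2] at hmem
    exact hx hmem
  rcases Set.eq_empty_or_nonempty (Sᶜ) with hempty | ⟨y0, hy0⟩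
  · refine ⟨1, G'.one_mem, fun x => ?_⟩
    have hx : x ∈ S := by
      by_contra hx
      have h1 : x ∈ Sᶜ := hx
      rw [hempty] at h1
      exact h1
    rw [one_smul, hσ x hx]
  · haveI := Fintype.ofFinite X
    have h1 : ((Finset.univ.filter (fun x => x ∉ S ∧ x ≠ y0) : Finset X) : Set X) =
        Sᶜ \ {y0} := by
      ext z
      simp
    have hs : (Finset.univ.filter (fun x => x ∉ S ∧ x ≠ y0) : Finset X).card ≤ j := by
      have h2 : (Finset.univ.filter (fun x => x ∉ S ∧ x ≠ y0) : Finset X).card =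
          (Sᶜ \ {y0}).ncard := by
        rw [← h1, Set.ncard_coe_finset]
      rw [h2, Set.ncard_diff_singleton_of_mem hy0]
      omega
    obtain ⟨g, hg, hgs⟩ := hT (Finset.univ.filter (fun x => x ∉ S ∧ x ≠ y0)) σ hs
      (by
        intro x hx
        rw [Finset.mem_filter] at hx
        exact ⟨hx.2.1, hσS x hx.2.1⟩)
      (σ.injective.injOn)
    refine ⟨g, hg, ?_⟩
    have hagree : ∀ x, x ≠ y0 → g • x = σ x := by
      intro x hx
      by_cases hxS : x ∈ S
      · rw [hF g hg x hxS, hσ x hxS]
      · exact hgs x (by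
          rw [Finset.mem_filter]
          exact ⟨Finset.mem_univ x, hxS, hx⟩)
    intro x
    by_cases hx : x = y0
    · subst hx
      by_contra hne
      have hx' : σ.symm (g • x) ≠ x := by
        intro h
        exact hne ((Equiv.symm_apply_eq σ).mp h)
      have h3 := hagree _ hx'
      rw [Equiv.apply_symm_apply] at h3
      exact hx' (smul_left_cancel g h3)
    · exact hagree x hx

lemma transfer_stab {N' : Subgroup G} {S : Set X} (hFN : Fixes N' S) (hT : KT N' S 1) {a : X}
    (ha : a ∉ S) (hTa : KT (N' ⊓ stabilizer G a) (insert a S) 1)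
    (hRa : SReg (N' ⊓ stabilizer G a) (insert a S))
    (hEa : ∀ n ∈ N' ⊓ stabilizer G a, n ^ 2 = 1) :
    ∀ p, p ∉ S → KT (N' ⊓ stabilizer G p) (insert p S) 1 ∧
      SReg (N' ⊓ stabilizer G p) (insert p S) ∧ ∀ n ∈ N' ⊓ stabilizer G p, n ^ 2 = 1 := by
  intro p hp
  obtain ⟨g, hg, hgp⟩ := hT.exists_smul_eq le_rfl ha hp
  have hgia : g⁻¹ • p = a := by rw [← hgp, inv_smul_smul]
  have hconj : ∀ h ∈ N' ⊓ stabilizer G p, g⁻¹ * h * g ∈ N' ⊓ stabilizer G a := by
    intro h hh
    rw [Subgroup.mem_inf] at hh ⊢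
    refine ⟨N'.mul_mem (N'.mul_mem (N'.inv_mem hg) hh.1) hg, ?_⟩
    rw [mem_stabilizer_iff, mul_smul, mul_smul, hgp, mem_stabilizer_iff.mp hh.2, hgia]
  have hconj' : ∀ h ∈ N' ⊓ stabilizer G a, g * h * g⁻¹ ∈ N' ⊓ stabilizer G p := by
    intro h hh
    rw [Subgroup.mem_inf] at hh ⊢
    refine ⟨N'.mul_mem (N'.mul_mem hg hh.1) (N'.inv_mem hg), ?_⟩
    rw [mem_stabilizer_iff, mul_smul, mul_smul, hgia, mem_stabilizer_iff.mp hh.2, hgp]
  have hnotmem : ∀ y, y ∉ insert p S → g⁻¹ • y ∉ insert a S := by
    intro y hy hmem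
    apply hy
    rcases Set.mem_insert_iff.mp hmem with h | h
    · left
      rw [← hgp, ← h, smul_inv_smul]
    · right
      have h1 := hFN g hg _ h
      rw [smul_inv_smul] at h1
      rw [h1]
      exact h
  refine ⟨?_, ?_, ?_⟩
  · apply kt_one_of_forall
    intro x y hx hy
    obtain ⟨h, hh, hhx⟩ := hTa.exists_smul_eq le_rfl (hnotmem x hx) (hnotmem y hy)
    refine ⟨g * h * g⁻¹, hconj' h hh, ?_⟩
    rw [mul_smul, mul_smul, hhx, smul_inv_smul]
  · intro h hh y hy hhy
    have h1 := hRa _ (hconj h hh) (g⁻¹ • y) (hnotmem y hy)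
      (by rw [mul_smul, mul_smul, smul_inv_smul, hhy])
    calc h = g * (g⁻¹ * h * g) * g⁻¹ := by group
      _ = 1 := by rw [h1]; group
  · intro h hh
    have h1 := hEa _ (hconj h hh)
    rw [pow_two] at h1 ⊢
    calc h * h = g * ((g⁻¹ * h * g) * (g⁻¹ * h * g)) * g⁻¹ := by group
      _ = 1 := by rw [h1]; group

lemma ne_bot_of_not_sreg {N' : Subgroup G} {S : Set X} (h : ¬ SReg N' S) : N' ≠ ⊥ := by
  intro hbot
  apply h
  intro n hn _ _ _
  rw [hbot, Subgroup.mem_bot] at hn
  exact hn

/-- In a `k`-primitive group not inducing the full symmetric group, a nontrivial non-regular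
normal subgroup is `k`-transitive (relative form). -/
theorem wielandt_normal [Finite X] [FaithfulSMul G X] : ∀ k : ℕ, 1 ≤ k →
    ∀ (S : Set X) (G' N' : Subgroup G), Fixes G' S → NNormal G' N' → KP G' S k →
      k ≤ (Sᶜ).ncard → ¬ SReg N' S → ¬ FullSym G' S → KT N' S k := by
  intro k hk
  induction k, hk using Nat.le_induction with
  | base =>
    intro S G' N' hF hN hKP hcard hnR hnF
    apply kt_one_of_blockTriv hF hN (ne_bot_of_not_sreg hnR)
    apply (hKP.2 S subset_rfl (by simp)).mono
    exact inf_le_left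
  | succ k hk ih =>
    intro S G' N' hF hN hKP hcard hnR hnF
    have hFN : Fixes N' S := fun h hh => hF h (hN.1 hh)
    have hN1 : N' ≠ ⊥ := ne_bot_of_not_sreg hnR
    have hT : KT N' S 1 := KT.normal_transitive hF hN hN1 (hKP.1.mono (by omega))
    have hTG : KT G' S 1 := hKP.1.mono (by omega)
    obtain ⟨a, ha, -⟩ := exists_notMem_finset (S := S) (∅ : Finset X) (by simp; omega)
    have hNa1 : N' ⊓ stabilizer G a ≠ ⊥ := fun hbot => hnR (sreg_of_stab_bot hT ha hbot)
    have hKPa := hKP.stab ha
    have hcarda : k ≤ ((insert a S)ᶜ).ncard := by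
      rw [ncard_compl_insert ha]
      omega
    by_cases hRa : SReg (N' ⊓ stabilizer G a) (insert a S)
    · rcases Nat.eq_or_lt_of_le hk with h1 | h1
      · subst h1
        have hTa : KT (N' ⊓ stabilizer G a) (insert a S) 1 :=
          kt_one_of_blockTriv (hF.stab a) (hN.stab a) hNa1
            ((hKPa.2 _ subset_rfl (by simp)).mono inf_le_left)
        exact KT.of_stab hFN hT ha hTa
      · exfalso
        have hTa : KT (N' ⊓ stabilizer G a) (insert a S) 1 :=
          KT.normal_transitive (hF.stab a) (hN.stab a) hNa1 (hKPa.1.mono (by omega))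
        have hbig : 3 < (Sᶜ).ncard := by
          by_contra hle
          apply hnF
          exact FullSym.of_kt hF hKP.1 (by omega)
        have hEa : ∀ n ∈ N' ⊓ stabilizer G a, n ^ 2 = 1 := by
          rcases Nat.eq_or_lt_of_le h1 with h2 | h2
          · obtain ⟨b, hb, -⟩ := exists_notMem_finset (S := insert a S) (∅ : Finset X)
              (by simp; omega)
            have hdiff : insert b (insert a S) \ insert a S = {b} := by
              ext z
              simp only [Set.mem_sdiff, Set.mem_insert_iff, Set.mem_singleton_iff]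
              constructor
              · rintro ⟨h | h, h'⟩
                · exact h
                · exact absurd h h'
              · rintro rfl
                exact ⟨Or.inl rfl, fun h => hb (Set.mem_insert_iff.mpr h)⟩
            have hBb : BlockTriv ((G' ⊓ stabilizer G a) ⊓ stabilizer G b)
                (insert b (insert a S)) := by
              apply (hKPa.2 (insert b (insert a S)) (Set.subset_insert _ _) ?_).mono
              · intro g hg
                rw [Subgroup.mem_inf] at hg ⊢
                refine ⟨hg.1, ?_⟩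
                rw [mem_stabilizer_iff]
                exact (mem_fixingSubgroup_iff G).mp hg.2 b (Set.mem_insert _ _)
              · rw [hdiff, Set.ncard_singleton]
                omega
            rcases sq_eq_one_or_ncard_three (hF.stab a) (hN.stab a) hRa hb hBb with h | h
            · exfalso
              apply hnF
              apply FullSym.of_kt hF hKP.1
              rw [ncard_compl_insert ha] at h
              omega
            · exact h
          · by_cases h4 : 3 < ((insert a S)ᶜ).ncard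
            · exact exp_two_of_three_trans (hF.stab a) (hN.stab a) hRa
                (hKPa.1.mono (by omega)) h4
            · exfalso
              apply hnF
              apply FullSym.of_kt hF hKP.1
              rw [ncard_compl_insert ha] at h4
              omega
        have htr := transfer_stab hFN hT ha hTa hRa hEa
        exact no_sharp_config (G := G) (N' := N') (S := S) hbig (fun p hp => (htr p hp).1)
          (fun p hp => (htr p hp).2.1) (fun p hp => (htr p hp).2.2)
    · by_cases hFa : FullSym (G' ⊓ stabilizer G a) (insert a S)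
      · exfalso
        exact hnF (FullSym.of_stab hF hTG ha hFa)
      · exact KT.of_stab hFN hT ha
          (ih (insert a S) _ _ (hF.stab a) (hN.stab a) hKPa hcarda hRa hFa)

end W

end Cfsg.Agent.helper18
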