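import Mathlib

set_option autoImplicit false

namespace Cfsg.Agent.helper18

open MulAction
open scoped Pointwise

section JC

variable {G Ω : Type*} [Group G] [MulAction G Ω]

/-- `D` is a Jordan complement: its pointwise stabiliser is transitive on the complement. -/
def IsJC (G : Type*) {Ω : Type*} [Group G] [MulAction G Ω] (D : Set Ω) : Prop :=
  ∀ x ∉ D, ∀ y ∉ D, ∃ g : G, (∀ z ∈ D, g • z = z) ∧ g • x = y

lemma IsJC.smul {D : Set Ω} (h : IsJC G D) (g : G) : IsJC G (g • D) := by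
  intro x hx y hy
  rw [Set.mem_smul_set_iff_inv_smul_mem] at hx hy
  obtain ⟨k, hk, hkxy⟩ := h _ hx _ hy
  refine ⟨g * k * g⁻¹, ?_, ?_⟩
  · intro z hz
    rw [Set.mem_smul_set_iff_inv_smul_mem] at hz
    rw [mul_smul, mul_smul, hk _ hz, smul_inv_smul]
  · rw [mul_smul, mul_smul, hkxy, smul_inv_smul]

lemma IsJC.inter {D₁ D₂ : Set Ω} (h₁ : IsJC G D₁) (h₂ : IsJC G D₂)
    (hne : D₁ ∪ D₂ ≠ Set.univ) : IsJC G (D₁ ∩ D₂) := by
  obtain ⟨p, hp⟩ : ∃ p, p ∉ D₁ ∪ D₂ := by
    by_contra hcon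
    push Not at hcon
    exact hne (Set.eq_univ_of_forall hcon)
  have hp1 : p ∉ D₁ := fun h => hp (Or.inl h)
  have hp2 : p ∉ D₂ := fun h => hp (Or.inr h)
  have key : ∀ x ∉ D₁ ∩ D₂, ∃ g : G, (∀ z ∈ D₁ ∩ D₂, g • z = z) ∧ g • x = p := by
    intro x hx
    by_cases hx1 : x ∈ D₁
    · have hx2 : x ∉ D₂ := fun h => hx ⟨hx1, h⟩
      obtain ⟨g, hg, hgx⟩ := h₂ x hx2 p hp2
      exact ⟨g, fun z hz => hg z hz.2, hgx⟩
    · obtain ⟨g, hg, hgx⟩ := h₁ x hx1 p hp1
      exact ⟨g, fun z hz => hg z hz.1, hgx⟩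
  intro x hx y hy
  obtain ⟨g, hg, hgx⟩ := key x hx
  obtain ⟨k, hk, hky⟩ := key y hy
  refine ⟨k⁻¹ * g, ?_, ?_⟩
  · intro z hz
    rw [mul_smul, hg z hz, inv_smul_eq_iff, hk z hz]
  · rw [mul_smul, hgx, inv_smul_eq_iff, hky]

end JC


section core

variable {G Ω : Type*} [Group G] [MulAction G Ω] [Finite Ω]

/-- Core of Marggraf's theorem: a `2`-transitive group with a Jordan complement `D` whose
complement has at least two and at most half of the points has a Jordan complement of size two. -/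
theorem marggraf_core (h2 : IsMultiplyPretransitive G Ω 2)
    (D : Set Ω) (hD : IsJC G D) (hΓ2 : 2 ≤ Dᶜ.ncard) (hhalf : 2 * Dᶜ.ncard ≤ Nat.card Ω) :
    ∃ a b : Ω, a ≠ b ∧ IsJC G {a, b} := by
  classical
  have h2' : ∀ {a b c d : Ω}, a ≠ b → c ≠ d → ∃ g : G, g • a = c ∧ g • b = d :=
    is_two_pretransitive_iff.mp h2
  have hprim : IsPreprimitive G Ω := isPreprimitive_of_is_two_pretransitive h2
  have hDm : D.ncard + Dᶜ.ncard = Nat.card Ω := Set.ncard_add_ncard_compl D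
  have hD2 : 2 ≤ D.ncard := by omega
  -- minimal Jordan complement of size at least two
  have hex : ∃ k, ∃ E : Set Ω, IsJC G E ∧ E.ncard = k ∧ 2 ≤ k := ⟨_, D, hD, rfl, hD2⟩
  obtain ⟨E, hE, hEk, hk2⟩ := Nat.find_spec hex
  have hmin : ∀ E' : Set Ω, IsJC G E' → 2 ≤ E'.ncard → Nat.find hex ≤ E'.ncard := by
    intro E' hE' h
    exact Nat.find_min' hex ⟨E', hE', rfl, h⟩
  generalize Nat.find hex = k at hEk hk2 hmin
  have hkD : k ≤ D.ncard := hmin D hD hD2
  by_cases hk2' : k = 2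
  · rw [hk2'] at hEk
    obtain ⟨a, b, hab, rfl⟩ := Set.ncard_eq_two.mp hEk
    exact ⟨a, b, hab, hE⟩
  exfalso
  have hk3 : 3 ≤ k := by omega
  -- trichotomy
  have tri : ∀ L E' : Set Ω, IsJC G L → L.ncard = k → IsJC G E' →
      L ∪ E' = Set.univ ∨ (L ∩ E').ncard ≤ 1 ∨ L ⊆ E' := by
    intro L E' hL hLk hE'
    by_contra hcon
    push Not at hcon
    obtain ⟨h1, h2, h3⟩ := hcon
    have hJ := hL.inter hE' h1
    have hle := hmin _ hJ (by omega)
    have hle2 : (L ∩ E').ncard ≤ L.ncard := Set.ncard_le_ncard Set.inter_subset_left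
    have heq : L ∩ E' = L := Set.eq_of_subset_of_ncard_le Set.inter_subset_left (by omega)
    exact h3 (heq ▸ Set.inter_subset_right)
  -- lines through two points
  have line : ∀ x y : Ω, x ≠ y → ∃ L : Set Ω, IsJC G L ∧ L.ncard = k ∧ x ∈ L ∧ y ∈ L := by
    intro x y hxy
    obtain ⟨a, b, ha, hb, hab⟩ := (Set.one_lt_ncard_iff).mp (by omega : 1 < E.ncard)
    obtain ⟨g, hga, hgb⟩ := h2' hab hxy
    refine ⟨g • E, hE.smul g, by rw [Set.ncard_smul_set]; exact hEk, ?_, ?_⟩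
    · rw [← hga]; exact Set.smul_mem_smul_set ha
    · rw [← hgb]; exact Set.smul_mem_smul_set hb
  -- lines are not too big
  have hA : 2 * k ≤ Nat.card Ω + 1 := by
    by_contra hcon
    push Not at hcon
    have hblock : IsBlock G Eᶜ := by
      rw [isBlock_iff_smul_eq_or_disjoint]
      intro g
      rcases tri (g • E) E (hE.smul g) (by rw [Set.ncard_smul_set]; exact hEk) hE with h | h | h
      · right
        rw [Set.smul_set_compl, Set.disjoint_compl_left_iff_subset]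
        intro x hx
        have : x ∈ g • E ∪ E := h ▸ Set.mem_univ x
        rcases this with h' | h'
        · exact h'
        · exact absurd h' hx
      · exfalso
        have h3 := Set.ncard_union_add_ncard_inter (g • E) E
        have hu : (g • E ∪ E).ncard ≤ Nat.card Ω := by
          rw [← Set.ncard_univ]
          exact Set.ncard_le_ncard (Set.subset_univ _)
        rw [Set.ncard_smul_set, hEk] at h3
        omega
      · left
        have : g • E = E := Set.eq_of_subset_of_ncard_le h (by rw [Set.ncard_smul_set])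
        rw [Set.smul_set_compl, this]
    have htriv := hprim.isTrivialBlock_of_isBlock hblock
    have hEc : E.ncard + Eᶜ.ncard = Nat.card Ω := Set.ncard_add_ncard_compl E
    rcases htriv with h | h
    · have := Set.ncard_le_one_iff_subsingleton.mpr h
      omega
    · have : Eᶜ.ncard = Nat.card Ω := by rw [h, Set.ncard_univ]
      omega
  -- two distinct lines meet in at most one point
  have meet : ∀ L₁ L₂ : Set Ω, IsJC G L₁ → L₁.ncard = k → IsJC G L₂ → L₂.ncard = k → L₁ ≠ L₂ →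
      (L₁ ∩ L₂).ncard ≤ 1 := by
    intro L₁ L₂ h1 h1k h2 h2k hne
    rcases tri L₁ L₂ h1 h1k h2 with h | h | h
    · have h3 := Set.ncard_union_add_ncard_inter L₁ L₂
      rw [h, Set.ncard_univ, h1k, h2k] at h3
      omega
    · exact h
    · exact absurd (Set.eq_of_subset_of_ncard_le h (by omega)) hne
  have uniq : ∀ L₁ L₂ : Set Ω, IsJC G L₁ → L₁.ncard = k → IsJC G L₂ → L₂.ncard = k →
      ∀ x y, x ≠ y → x ∈ L₁ → y ∈ L₁ → x ∈ L₂ → y ∈ L₂ → L₁ = L₂ := by
    intro L₁ L₂ h1 h1k h2 h2k x y hxy hx1 hy1 hx2 hy2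
    by_contra hne
    have h3 := meet L₁ L₂ h1 h1k h2 h2k hne
    have h1lt : 1 < (L₁ ∩ L₂).ncard :=
      (Set.one_lt_ncard_iff).mpr ⟨x, y, ⟨hx1, hx2⟩, ⟨hy1, hy2⟩, hxy⟩
    omega
  obtain ⟨γ, γ', hγ, hγ', hγγ'⟩ := (Set.one_lt_ncard_iff).mp (by omega : 1 < Dᶜ.ncard)
  have through : ∀ L : Set Ω, IsJC G L → L.ncard = k → γ ∈ L →
      Dᶜ ⊆ L ∨ (L ∩ D).ncard ≤ 1 := by
    intro L hL hLk hγL
    rcases tri L D hL hLk hD with h | h | h
    · left
      intro x hx
      have : x ∈ L ∪ D := h ▸ Set.mem_univ x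
      rcases this with h' | h'
      · exact h'
      · exact absurd h' hx
    · right; exact h
    · exact absurd (h hγL) hγ
  by_cases hcase : ∃ L₀ : Set Ω, IsJC G L₀ ∧ L₀.ncard = k ∧ γ ∈ L₀ ∧ Dᶜ ⊆ L₀
  · obtain ⟨L₀, hL₀, hL₀k, hγL₀, hΓL₀⟩ := hcase
    obtain ⟨δ, hδ⟩ : ∃ δ, δ ∉ L₀ := by
      by_contra hcon
      push Not at hcon
      have : L₀ = Set.univ := Set.eq_univ_of_forall hcon
      rw [this, Set.ncard_univ] at hL₀k
      omega
    have hγδ : γ ≠ δ := fun h => hδ (h ▸ hγL₀)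
    obtain ⟨L, hL, hLk, hγL, hδL⟩ := line γ δ hγδ
    have hLL₀ : L ≠ L₀ := fun h => hδ (h ▸ hδL)
    have hm1 := meet L L₀ hL hLk hL₀ hL₀k hLL₀
    rcases through L hL hLk hγL with h | h
    · exact hLL₀ (uniq L L₀ hL hLk hL₀ hL₀k γ γ' hγγ' hγL (h hγ') hγL₀ (hΓL₀ hγ'))
    · have hsub : L ⊆ (L ∩ D) ∪ (L ∩ L₀) := by
        intro x hx
        by_cases hxD : x ∈ D
        · exact Or.inl ⟨hx, hxD⟩
        · exact Or.inr ⟨hx, hΓL₀ hxD⟩
      have h1 := Set.ncard_le_ncard hsub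
      have h2 := Set.ncard_union_le (L ∩ D) (L ∩ L₀)
      omega
  · push Not at hcase
    have hall : ∀ L : Set Ω, IsJC G L → L.ncard = k → γ ∈ L → (L ∩ D).ncard ≤ 1 := by
      intro L hL hLk hγL
      rcases through L hL hLk hγL with h | h
      · exact absurd h (hcase L hL hLk hγL)
      · exact h
    have hchoice : ∀ δ ∈ D, ∃ p : Ω, p ∈ Dᶜ \ {γ} ∧ ∃ L : Set Ω, IsJC G L ∧ L.ncard = k ∧
        γ ∈ L ∧ δ ∈ L ∧ p ∈ L := by
      intro δ hδ
      have hγδ : γ ≠ δ := fun h => hγ (h ▸ hδ)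
      obtain ⟨L, hL, hLk, hγL, hδL⟩ := line γ δ hγδ
      have hpair : ({γ, δ} : Set Ω).ncard ≤ 2 := by
        have := Set.ncard_insert_le γ ({δ} : Set Ω)
        rw [Set.ncard_singleton] at this
        exact this
      have hd := Set.le_ncard_sdiff ({γ, δ} : Set Ω) L
      have hpos : 0 < (L \ {γ, δ}).ncard := by omega
      obtain ⟨p, hpL, hp⟩ := (Set.ncard_pos).mp hpos
      have hpγ : p ≠ γ := fun h => hp (by rw [h]; exact Set.mem_insert _ _)
      have hpδ : p ≠ δ := fun h => hp (by rw [h]; exact Set.mem_insert_of_mem _ rfl)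
      have hpD : p ∉ D := by
        intro hpD
        have h3 := hall L hL hLk hγL
        have h1lt : 1 < (L ∩ D).ncard :=
          (Set.one_lt_ncard_iff).mpr ⟨p, δ, ⟨hpL, hpD⟩, ⟨hδL, hδ⟩, hpδ⟩
        omega
      exact ⟨p, ⟨hpD, hpγ⟩, L, hL, hLk, hγL, hδL, hpL⟩
    choose! f hf using hchoice
    have hinj : Set.InjOn f D := by
      intro δ hδ δ' hδ' hff
      obtain ⟨hp, L, hL, hLk, hγL, hδL, hpL⟩ := hf δ hδ
      obtain ⟨hp', L', hL', hL'k, hγL', hδL', hpL'⟩ := hf δ' hδ'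
      rw [← hff] at hpL'
      have hLL' : L = L' :=
        uniq L L' hL hLk hL' hL'k γ (f δ) (Ne.symm hp.2) hγL hpL hγL' hpL'
      by_contra hne
      have h3 := hall L hL hLk hγL
      have h1lt : 1 < (L ∩ D).ncard :=
        (Set.one_lt_ncard_iff).mpr ⟨δ, δ', ⟨hδL, hδ⟩, ⟨hLL' ▸ hδL', hδ'⟩, hne⟩
      omega
    have hcard := Set.ncard_le_ncard_of_injOn f (fun δ hδ => (hf δ hδ).1) hinj
    have h4 : (Dᶜ \ {γ}).ncard = Dᶜ.ncard - 1 := Set.ncard_sdiff_singleton_of_mem hγ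
    omega

end core


section three

variable {G Ω : Type*} [Group G] [MulAction G Ω]

/-- A `2`-transitive group with a Jordan complement of size two is `3`-transitive. -/
theorem is_three_pretransitive_of_isJC_pair (h2 : IsMultiplyPretransitive G Ω 2)
    (a b : Ω) (hab : a ≠ b) (hJ : IsJC G {a, b}) : IsMultiplyPretransitive G Ω 3 := by
  have h2' : ∀ {a b c d : Ω}, a ≠ b → c ≠ d → ∃ g : G, g • a = c ∧ g • b = d :=
    is_two_pretransitive_iff.mp h2
  rw [isMultiplyPretransitive_iff]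
  intro x y
  have hx01 : x 0 ≠ x 1 := fun h => by simpa using x.injective h
  have hx02 : x 0 ≠ x 2 := fun h => by simpa using x.injective h
  have hx12 : x 1 ≠ x 2 := fun h => by simpa using x.injective h
  have hy01 : y 0 ≠ y 1 := fun h => by simpa using y.injective h
  have hy02 : y 0 ≠ y 2 := fun h => by simpa using y.injective h
  have hy12 : y 1 ≠ y 2 := fun h => by simpa using y.injective h
  obtain ⟨g₁, hg₁0, hg₁1⟩ := h2' hx01 hab
  obtain ⟨g₂, hg₂0, hg₂1⟩ := h2' hy01 hab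
  have hx2 : g₁ • x 2 ∉ ({a, b} : Set Ω) := by
    intro h
    rcases h with h | h
    · exact hx02 (smul_left_cancel g₁ (hg₁0.trans h.symm))
    · exact hx12 (smul_left_cancel g₁ (hg₁1.trans h.symm))
  have hy2 : g₂ • y 2 ∉ ({a, b} : Set Ω) := by
    intro h
    rcases h with h | h
    · exact hy02 (smul_left_cancel g₂ (hg₂0.trans h.symm))
    · exact hy12 (smul_left_cancel g₂ (hg₂1.trans h.symm))
  obtain ⟨k, hk, hk2⟩ := hJ _ hx2 _ hy2
  have hka : k • a = a := hk a (Set.mem_insert _ _)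
  have hkb : k • b = b := hk b (Set.mem_insert_of_mem _ rfl)
  refine ⟨g₂⁻¹ * k * g₁, ?_⟩
  ext i
  rw [Function.Embedding.smul_apply, mul_smul, mul_smul, inv_smul_eq_iff]
  fin_cases i
  · change k • g₁ • x 0 = g₂ • y 0
    rw [hg₁0, hg₂0, hka]
  · change k • g₁ • x 1 = g₂ • y 1
    rw [hg₁1, hg₂1, hkb]
  · change k • g₁ • x 2 = g₂ • y 2
    exact hk2

end three

end Cfsg.Agent.helper18
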