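import Mathlib
import Cfsg.Agent.Lib_lead_Coprime
import Cfsg.Agent.Lib_helper19_CP

set_option autoImplicit false
set_option linter.style.haveILetI false
set_option linter.unusedSectionVars false

namespace Cfsg.Agent.helper19

open Cfsg.Agent.helper7

universe u

theorem le_normalizer_of_conj_mem {G : Type*} [Group G] {A B : Subgroup G}
    (h : ∀ a ∈ A, ∀ b ∈ B, a * b * a⁻¹ ∈ B) : A ≤ Subgroup.normalizer (B : Set G) := by
  intro a ha
  rw [Subgroup.mem_normalizer_iff]
  intro b
  constructor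
  · exact h a ha b
  · intro hb
    have := h a⁻¹ (A.inv_mem ha) _ hb
    have e : a⁻¹ * (a * b * a⁻¹) * a⁻¹⁻¹ = b := by group
    rwa [e] at this

/-- Frattini-type argument from Schur–Zassenhaus: if `n` sends the complement `H` of `Q` into `Q ⊔ H`
then some `d ∈ Q` has `d * n ∈ N(H)`. -/
theorem frattini_sz {G : Type u} [Group G] [Finite G] (Q H : Subgroup G)
    (hHQ : H ≤ Subgroup.normalizer (Q : Set G)) (hcop : (Nat.card H).Coprime (Nat.card Q))
    (hsolv : Group.IsSolvable H ∨ Group.IsSolvable Q) (n : G) (hn : cj n H ≤ Q ⊔ H) :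
    ∃ d ∈ Q, d * n ∈ Subgroup.normalizer (H : Set G) := by
  obtain ⟨d, hd, h⟩ := Cfsg.Agent.lead.sz_conj_semidirect H Q hHQ hcop hsolv (cj n H) hn (card_cj n H)
  rw [cj_cj] at h
  exact ⟨d, hd, mem_normalizer_of_cj_eq h⟩

/-- A quotient `Γ/Q` with `Q` a normal `p`-subgroup inside the Frattini subgroup of a Sylow
`p`-subgroup `P` (expressed as a non-generation property), such that `N(P)` acts trivially on `P/Q`:
then `Γ` has a normal `p`-complement. -/
theorem npc_of_quotient {Γ : Type u} [Group Γ] [Finite Γ] {p : ℕ} [Fact p.Prime] (P : Sylow p Γ)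
    (Q : Subgroup Γ) [hQn : Q.Normal] (hQP : Q ≤ (P : Subgroup Γ))
    (hcomm : ∀ x ∈ Subgroup.normalizer ((P : Subgroup Γ) : Set Γ), ∀ y ∈ (P : Subgroup Γ),
      x * y * x⁻¹ * y⁻¹ ∈ Q)
    (hfr : ∀ X : Subgroup Γ, X ≤ (P : Subgroup Γ) → Q ⊔ X = (P : Subgroup Γ) → X = (P : Subgroup Γ)) :
    ∃ H : Subgroup Γ, H.Normal ∧ H.IsComplement' (P : Subgroup Γ) := by
  have hpp : p.Prime := Fact.out
  set π := QuotientGroup.mk' Q with hπ
  have hsurj : Function.Surjective π := QuotientGroup.mk'_surjective Q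
  have hkerπ : π.ker = Q := QuotientGroup.ker_mk' Q
  set Pb : Sylow p (Γ ⧸ Q) := P.mapSurjective hsurj with hPb
  have hPbcoe : (Pb : Subgroup (Γ ⧸ Q)) = (P : Subgroup Γ).map π := rfl
  have hcomapPb : (Pb : Subgroup (Γ ⧸ Q)).comap π = (P : Subgroup Γ) := by
    rw [hPbcoe, Subgroup.comap_map_eq, hkerπ]
    exact sup_eq_left.2 hQP
  -- Burnside hypothesis
  have hNC : Subgroup.normalizer ((Pb : Subgroup (Γ ⧸ Q)) : Set (Γ ⧸ Q)) ≤
      Subgroup.centralizer ((Pb : Subgroup (Γ ⧸ Q)) : Set (Γ ⧸ Q)) := by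
    intro xb hxb
    obtain ⟨x, rfl⟩ := hsurj xb
    have hx : x ∈ Subgroup.normalizer ((P : Subgroup Γ) : Set Γ) := by
      have h1 : x ∈ (Subgroup.normalizer ((Pb : Subgroup (Γ ⧸ Q)) : Set (Γ ⧸ Q))).comap π := hxb
      rw [Subgroup.comap_normalizer_eq_of_surjective _ hsurj, hcomapPb] at h1
      exact h1
    rw [Subgroup.mem_centralizer_iff]
    intro yb hyb
    rw [SetLike.mem_coe, hPbcoe] at hyb
    obtain ⟨y, hy, rfl⟩ := hyb
    have h1 := hcomm x hx y hy
    have h2 : π (x * y * x⁻¹ * y⁻¹) = 1 := (QuotientGroup.eq_one_iff _).2 h1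
    rw [map_mul, map_mul, map_mul, map_inv, map_inv] at h2
    have h3 : π x * π y * (π x)⁻¹ = π y := by
      have := mul_inv_eq_one.1 h2
      exact this
    calc π y * π x = (π x * π y * (π x)⁻¹) * π x := by rw [h3]
      _ = π x * π y := by group
  set Mb : Subgroup (Γ ⧸ Q) := (MonoidHom.transferSylow Pb hNC).ker with hMb
  have hMbc : Mb.IsComplement' (Pb : Subgroup (Γ ⧸ Q)) := MonoidHom.ker_transferSylow_isComplement' Pb hNC
  have hMbn : Mb.Normal := by rw [hMb]; infer_instance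
  have hMbcard : Nat.card Mb * Nat.card (Pb : Subgroup (Γ ⧸ Q)) = Nat.card (Γ ⧸ Q) := hMbc.card_mul_card
  have hMbcop : (Nat.card Mb).Coprime p := by
    have h1 : Nat.card Mb = (Pb : Subgroup (Γ ⧸ Q)).index := by
      have h2 := (Pb : Subgroup (Γ ⧸ Q)).card_mul_index
      rw [← hMbcard] at h2
      have hpos : 0 < Nat.card (Pb : Subgroup (Γ ⧸ Q)) := Nat.card_pos
      rw [mul_comm] at h2
      exact (Nat.eq_of_mul_eq_mul_right hpos h2).symm
    rw [h1]
    have := Pb.not_dvd_index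
    exact ((Nat.Prime.coprime_iff_not_dvd hpp).2 this).symm
  set M : Subgroup Γ := Mb.comap π with hM
  have hMn : M.Normal := hMbn.comap π
  have hQM : Q ≤ M := by
    have := MonoidHom.ker_le_comap π Mb
    rwa [hkerπ] at this
  have hMcard : Nat.card M = Nat.card Mb * Nat.card Q := by
    rw [hM, card_comap_of_surjective π hsurj Mb, hkerπ]
  obtain ⟨a, ha⟩ := (P.isPGroup'.to_le hQP).exists_card_eq
  -- Schur–Zassenhaus in `M`
  have hQMn : (Q.subgroupOf M).Normal := inferInstance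
  have hQMcard : Nat.card (Q.subgroupOf M) = Nat.card Q := Cfsg.Agent.lead.card_subgroupOf_of_le hQM
  have hQMidx : (Q.subgroupOf M).index = Nat.card Mb := by
    have h1 := (Q.subgroupOf M).card_mul_index
    rw [hQMcard, hMcard, mul_comm] at h1
    have hpos : 0 < Nat.card Q := Nat.card_pos
    exact Nat.eq_of_mul_eq_mul_right hpos h1
  have hcop0 : (Nat.card (Q.subgroupOf M)).Coprime (Q.subgroupOf M).index := by
    rw [hQMcard, hQMidx, ha]
    exact (Nat.Coprime.pow_right a hMbcop).symm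
  obtain ⟨H₀, hH₀⟩ := Subgroup.exists_right_complement'_of_coprime hcop0
  set H : Subgroup Γ := H₀.map M.subtype with hH
  have hHM : H ≤ M := Subgroup.map_subtype_le H₀
  have hHcard : Nat.card H = Nat.card Mb := by
    have h1 : Nat.card H = Nat.card H₀ := Subgroup.card_map_of_injective M.subtype_injective
    have h2 := hH₀.card_mul_card
    rw [hQMcard, Subgroup.card_eq_card_quotient_mul_card_subgroup (Q.subgroupOf M), hQMcard,
      ← Subgroup.index_eq_card, hQMidx, mul_comm] at h2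
    have hpos : 0 < Nat.card Q := Nat.card_pos
    rw [h1]
    exact Nat.eq_of_mul_eq_mul_right hpos h2
  have hQH : Q ⊔ H = M := by
    have h1 := hH₀.sup_eq_top
    have h2 := congrArg (Subgroup.map M.subtype) h1
    rw [Subgroup.map_sup, Subgroup.map_subgroupOf_eq_of_le hQM, ← MonoidHom.range_eq_map,
      Subgroup.range_subtype] at h2
    exact h2
  have hHQcop : (Nat.card H).Coprime (Nat.card Q) := by
    rw [hHcard, ha]; exact Nat.Coprime.pow_right a hMbcop
  have hQsolv : Group.IsSolvable Q := by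
    haveI := (P.isPGroup'.to_le hQP).isNilpotent
    infer_instance
  have hHNQ : H ≤ Subgroup.normalizer (Q : Set Γ) := by
    rw [Subgroup.normalizer_eq_top]; exact le_top
  have hfrat : ∀ n : Γ, ∃ d ∈ Q, d * n ∈ Subgroup.normalizer (H : Set Γ) := by
    intro n
    apply frattini_sz Q H hHNQ hHQcop (Or.inr hQsolv) n
    rw [hQH]
    intro x hx
    rw [mem_cj] at hx
    have h1 : n⁻¹ * x * n ∈ M := hHM hx
    have h2 := hMn.conj_mem _ h1 n
    have e : n * (n⁻¹ * x * n) * n⁻¹ = x := by group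
    rwa [e] at h2
  -- `P` normalizes `H`
  have hPN : (P : Subgroup Γ) ≤ Subgroup.normalizer (H : Set Γ) := by
    have hX := hfr ((P : Subgroup Γ) ⊓ Subgroup.normalizer (H : Set Γ)) inf_le_left ?_
    · rw [← hX]; exact inf_le_right
    · apply le_antisymm
      · exact sup_le hQP inf_le_left
      · intro u hu
        obtain ⟨d, hd, hdn⟩ := hfrat u
        have e : u = d⁻¹ * (d * u) := by group
        rw [e]
        apply Subgroup.mul_mem_sup (Q.inv_mem hd)
        exact Subgroup.mem_inf.2 ⟨(P : Subgroup Γ).mul_mem (hQP hd) hu, hdn⟩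
  have hHn : H.Normal := by
    rw [← Subgroup.normalizer_eq_top_iff, eq_top_iff]
    intro n _
    obtain ⟨d, hd, hdn⟩ := hfrat n
    have e : n = d⁻¹ * (d * n) := by group
    rw [e]
    exact Subgroup.mul_mem _ (Subgroup.inv_mem _ (hPN (hQP hd))) hdn
  refine ⟨H, hHn, ?_⟩
  apply Subgroup.isComplement'_of_coprime
  · -- card H * card P = card Γ
    have h1 : Nat.card (P : Subgroup Γ) = Nat.card (Pb : Subgroup (Γ ⧸ Q)) * Nat.card Q := by
      rw [← hcomapPb, card_comap_of_surjective π hsurj, hkerπ]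
    have h2 : Nat.card Γ = Nat.card (Γ ⧸ Q) * Nat.card Q :=
      Subgroup.card_eq_card_quotient_mul_card_subgroup Q
    rw [hHcard, h1, h2, ← hMbcard]
    ring
  · obtain ⟨b, hb⟩ := P.isPGroup'.exists_card_eq
    rw [hHcard, hb]
    exact Nat.Coprime.pow_right b hMbcop

end Cfsg.Agent.helper19
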