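import Mathlib
import Cfsg.Agent.Lib_helper18_Huppert
import Cfsg.Agent.Lib_helper19_NPC
import Cfsg.Agent.Lib_helper8_CN2
import Cfsg.Prelude.Def_Local

/-!
# Groups whose maximal subgroups are `p`-nilpotent or of prime index (helper18)

`Hyp p G`: every maximal subgroup has a normal `p`-complement or prime index.
`PSol p G`: every proper normal subgroup has a normal overgroup with `p`- or `p'`-factor.
`Concl p G`: normal chain `A ≤ B ≤ C ≤ D` with factors `p', p, p', p, p'` (and `D = ⊤` for `p = 2`).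
-/

set_option autoImplicit false
set_option linter.style.haveILetI false

open scoped commutatorElement

namespace Cfsg.Agent.helper18.MPN

open Subgroup

def Hyp (p : ℕ) (G : Type*) [Group G] : Prop :=
  ∀ M : Subgroup G, IsCoatom M →
    (∃ K : Subgroup ↥M, K.Normal ∧ ¬ p ∣ Nat.card K ∧ ∃ k : ℕ, K.index = p ^ k) ∨ (M.index).Prime

def PSol (p : ℕ) (G : Type*) [Group G] : Prop :=
  ∀ N : Subgroup G, N.Normal → N ≠ ⊤ → ∃ L : Subgroup G, L.Normal ∧ N < L ∧
    ((∃ k : ℕ, N.relIndex L = p ^ k) ∨ ¬ p ∣ N.relIndex L)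

def Concl (p : ℕ) (G : Type*) [Group G] : Prop :=
  ∃ A B C D : Subgroup G, A.Normal ∧ B.Normal ∧ C.Normal ∧ D.Normal ∧ A ≤ B ∧ B ≤ C ∧ C ≤ D ∧
    ¬ p ∣ Nat.card A ∧ (∃ k : ℕ, A.relIndex B = p ^ k) ∧ ¬ p ∣ B.relIndex C ∧
    (∃ k : ℕ, C.relIndex D = p ^ k) ∧ ¬ p ∣ D.index ∧ (p = 2 → D = ⊤)

theorem card_eq_card_mul_relIndex {G : Type*} [Group G] (H L : Subgroup G) (h : H ≤ L) :
    Nat.card L = Nat.card H * H.relIndex L := by
  have := Subgroup.relIndex_mul_relIndex ⊥ H L bot_le h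
  rw [Subgroup.relIndex_bot_left, Subgroup.relIndex_bot_left] at this
  exact this.symm

theorem relIndex_eq_card_map {G : Type*} [Group G] (H : Subgroup G) [H.Normal] (L : Subgroup G) :
    H.relIndex L = Nat.card (L.map (QuotientGroup.mk' H)) := by
  have := Subgroup.relIndex_ker L (QuotientGroup.mk' H)
  rwa [QuotientGroup.ker_mk'] at this

theorem pullback {p : ℕ} {G : Type*} [Group G] (N : Subgroup G) [N.Normal]
    (h : Concl p (G ⧸ N)) :
    ∃ A B C D : Subgroup G, A.Normal ∧ B.Normal ∧ C.Normal ∧ D.Normal ∧ N ≤ A ∧ A ≤ B ∧ B ≤ C ∧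
      C ≤ D ∧ ¬ p ∣ N.relIndex A ∧ (∃ k : ℕ, A.relIndex B = p ^ k) ∧ ¬ p ∣ B.relIndex C ∧
      (∃ k : ℕ, C.relIndex D = p ^ k) ∧ ¬ p ∣ D.index ∧ (p = 2 → D = ⊤) := by
  obtain ⟨A, B, C, D, hA, hB, hC, hD, hAB, hBC, hCD, h1, h2, h3, h4, h5, h6⟩ := h
  set π := QuotientGroup.mk' N with hπdef
  have hπ : Function.Surjective π := QuotientGroup.mk'_surjective N
  have hrel : ∀ X Y : Subgroup (G ⧸ N), (X.comap π).relIndex (Y.comap π) = X.relIndex Y := by
    intro X Y
    rw [Subgroup.relIndex_comap, Subgroup.map_comap_eq_self_of_surjective hπ]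
  refine ⟨A.comap π, B.comap π, C.comap π, D.comap π, hA.comap π, hB.comap π, hC.comap π,
    hD.comap π, ?_, Subgroup.comap_mono hAB, Subgroup.comap_mono hBC, Subgroup.comap_mono hCD,
    ?_, ?_, ?_, ?_, ?_, ?_⟩
  · intro x hx
    rw [Subgroup.mem_comap]
    have h7 : π x = 1 := (QuotientGroup.eq_one_iff x).mpr hx
    rw [h7]; exact A.one_mem
  · rw [relIndex_eq_card_map, Subgroup.map_comap_eq_self_of_surjective hπ]; exact h1
  · rw [hrel]; exact h2
  · rw [hrel]; exact h3
  · rw [hrel]; exact h4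
  · rw [Subgroup.index_comap_of_surjective _ hπ]; exact h5
  · intro hp; rw [h6 hp]; exact Subgroup.comap_top π

theorem Hyp.quotient {p : ℕ} [hp : Fact p.Prime] {G : Type*} [Group G] (h : Hyp p G)
    (N : Subgroup G) [N.Normal] : Hyp p (G ⧸ N) := by
  intro Mb hMb
  set π := QuotientGroup.mk' N with hπdef
  have hπ : Function.Surjective π := QuotientGroup.mk'_surjective N
  have hM : IsCoatom (Mb.comap π) := Cfsg.Agent.helper18.Hup.isCoatom_comap π hπ hMb
  rcases h _ hM with ⟨K, hKn, hKp, k, hKk⟩ | hpr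
  · left
    set φ : ↥(Mb.comap π) →* ↥Mb := π.subgroupComap Mb with hφdef
    have hφ : Function.Surjective φ := MonoidHom.subgroupComap_surjective_of_surjective π Mb hπ
    refine ⟨K.map φ, hKn.map φ hφ, ?_, ?_⟩
    · intro hd
      exact hKp (hd.trans (Subgroup.card_map_dvd K φ))
    · have hdvd : (K.map φ).index ∣ K.index := Subgroup.index_map_dvd K hφ
      rw [hKk] at hdvd
      obtain ⟨j, -, hj⟩ := (Nat.dvd_prime_pow hp.out).mp hdvd
      exact ⟨j, hj⟩
  · right
    rwa [Subgroup.index_comap_of_surjective _ hπ] at hpr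

theorem PSol.quotient {p : ℕ} {G : Type*} [Group G] (h : PSol p G) (N : Subgroup G) [N.Normal] :
    PSol p (G ⧸ N) := by
  intro Nb hNb hNbt
  set π := QuotientGroup.mk' N with hπdef
  have hπ : Function.Surjective π := QuotientGroup.mk'_surjective N
  have hne : Nb.comap π ≠ ⊤ := by
    intro h1
    apply hNbt
    rw [← Subgroup.map_comap_eq_self_of_surjective hπ Nb, h1,
      Subgroup.map_top_of_surjective π hπ]
  obtain ⟨L, hLn, hlt, hL⟩ := h _ (hNb.comap π) hne
  refine ⟨L.map π, hLn.map π hπ, ?_, ?_⟩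
  · constructor
    · rw [← Subgroup.map_comap_eq_self_of_surjective hπ Nb]; exact Subgroup.map_mono hlt.le
    · intro hle
      apply hlt.not_ge
      intro x hx
      exact hle (Subgroup.mem_map_of_mem π hx)
  · rw [← Subgroup.relIndex_comap]
    exact hL

/-- a minimal normal `p`-subgroup, when there is no normal `p'`-subgroup -/
theorem exists_min_normal_pgroup {p : ℕ} [hp : Fact p.Prime] {G : Type*} [Group G] [Finite G]
    [Nontrivial G] (hps : PSol p G)
    (hno : ∀ N : Subgroup G, N.Normal → ¬ p ∣ Nat.card N → N = ⊥) :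
    ∃ N : Subgroup G, N.Normal ∧ N ≠ ⊥ ∧ (∃ k : ℕ, Nat.card N = p ^ k) ∧
      (∀ x ∈ N, ∀ y ∈ N, x * y = y * x) ∧
      ∀ L : Subgroup G, L.Normal → L ≤ N → L = ⊥ ∨ L = N := by
  obtain ⟨L, hLn, hlt, hL⟩ := hps ⊥ inferInstance bot_ne_top
  have hLb : L ≠ ⊥ := fun h => (lt_irrefl _ (h ▸ hlt))
  rw [Subgroup.relIndex_bot_left] at hL
  have hLp : ∃ k : ℕ, Nat.card L = p ^ k := by
    rcases hL with h | h
    · exact h
    · exact absurd (hno L hLn h) hLb
  obtain ⟨k, hk⟩ := hLp
  haveI := hLn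
  obtain ⟨N, hNn, hNb, hNL, hmin⟩ := Cfsg.Agent.helper18.Hup.exists_min_normal_le L hLb
  have hNcard : ∃ j : ℕ, Nat.card N = p ^ j := by
    have hd : Nat.card N ∣ p ^ k := hk ▸ Subgroup.card_dvd_of_le hNL
    obtain ⟨j, -, hj⟩ := (Nat.dvd_prime_pow hp.out).mp hd
    exact ⟨j, hj⟩
  refine ⟨N, hNn, hNb, hNcard, ?_, hmin⟩
  obtain ⟨j, hj⟩ := hNcard
  haveI := hNn
  have hNp : IsPGroup p ↥N := IsPGroup.of_card hj
  haveI : Nontrivial ↥N := (Subgroup.nontrivial_iff_ne_bot N).mpr hNb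
  haveI : Nontrivial ↥(Subgroup.center ↥N) := hNp.center_nontrivial
  obtain ⟨z, hz⟩ := exists_ne (1 : ↥(Subgroup.center ↥N))
  haveI : (Subgroup.centralizer (N : Set G)).Normal := Subgroup.normal_centralizer
  have hZn : (N ⊓ Subgroup.centralizer (N : Set G)).Normal := inferInstance
  have hzmem : ((z : ↥N) : G) ∈ N ⊓ Subgroup.centralizer (N : Set G) := by
    refine Subgroup.mem_inf.mpr ⟨(z : ↥N).2, ?_⟩
    rw [Subgroup.mem_centralizer_iff]
    intro y hy
    have h1 := Subgroup.mem_center_iff.mp z.2 ⟨y, hy⟩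
    have h2 := congrArg (fun w : ↥N => (w : G)) h1
    simpa using h2
  have hZb : N ⊓ Subgroup.centralizer (N : Set G) ≠ ⊥ := by
    intro h
    rw [h, Subgroup.mem_bot] at hzmem
    apply hz
    apply Subtype.ext; apply Subtype.ext
    exact hzmem
  rcases hmin _ hZn inf_le_left with h | h
  · exact absurd h hZb
  · intro x hx y hy
    have hy' : y ∈ N ⊓ Subgroup.centralizer (N : Set G) := by rw [h]; exact hy
    exact (Subgroup.mem_centralizer_iff.mp (Subgroup.mem_inf.mp hy').2) x hx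

theorem not_dvd_one {p : ℕ} (hp : p.Prime) : ¬ p ∣ 1 := fun h => hp.ne_one (Nat.dvd_one.mp h)

/-- Case (2a): the minimal normal `p`-subgroup lies in every maximal subgroup. -/
theorem concl_frattini {p : ℕ} [hp : Fact p.Prime] {G : Type*} [Group G] [Finite G]
    (hno : ∀ N : Subgroup G, N.Normal → ¬ p ∣ Nat.card N → N = ⊥)
    (N : Subgroup G) [hN : N.Normal] (hNp : ∃ k : ℕ, Nat.card N = p ^ k)
    (hNab : ∀ x ∈ N, ∀ y ∈ N, x * y = y * x)
    (hfr : ∀ M : Subgroup G, IsCoatom M → N ≤ M)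
    (hq : Concl p (G ⧸ N)) : Concl p G := by
  obtain ⟨A, B, C, D, hA, hB, hC, hD, hNA, hAB, hBC, hCD, h1, h2, h3, h4, h5, h6⟩ := pullback N hq
  obtain ⟨k, hk⟩ := hNp
  have hcopp : (p ^ k).Coprime (N.relIndex A) :=
    Nat.Coprime.pow_left k ((Nat.Prime.coprime_iff_not_dvd hp.out).mpr h1)
  have hAN : N.relIndex A = 1 := by
    haveI : (N.subgroupOf A).Normal := hN.subgroupOf A
    have hcardNA : Nat.card (N.subgroupOf A) = p ^ k := by
      rw [Nat.card_congr (Subgroup.subgroupOfEquivOfLe hNA).toEquiv, hk]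
    have hcop : (Nat.card (N.subgroupOf A)).Coprime (N.subgroupOf A).index := by
      rw [hcardNA]
      exact hcopp
    obtain ⟨A₀', hA₀'⟩ := Subgroup.exists_right_complement'_of_coprime hcop
    set A₀ : Subgroup G := A₀'.map A.subtype with hA₀
    have hA₀A : A₀ ≤ A := by rintro _ ⟨a, _, rfl⟩; exact a.2
    have hcardA₀ : Nat.card A₀ = N.relIndex A := by
      rw [hA₀, Subgroup.card_map_of_injective A.subtype_injective]
      exact hA₀'.symm.index_eq_card.symm
    have hsup : N ⊔ A₀ = A := by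
      apply le_antisymm (sup_le hNA hA₀A)
      intro a ha
      obtain ⟨⟨n, c⟩, hnc⟩ := hA₀'.2 ⟨a, ha⟩
      have ha' : a = ((n : ↥A) : G) * ((c : ↥A) : G) := by
        have := congrArg (fun z : ↥A => (z : G)) hnc
        simpa using this.symm
      rw [ha']
      exact Subgroup.mul_mem_sup (Subgroup.mem_subgroupOf.mp n.2) ⟨(c : ↥A), c.2, rfl⟩
    have hNsol : Group.IsSolvable ↥N :=
      isSolvable_of_comm (fun a b => Subtype.ext (hNab a a.2 b b.2))
    have hnorm : Subgroup.normalizer (A₀ : Set G) = ⊤ := by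
      rcases eq_top_or_exists_le_coatom (Subgroup.normalizer (A₀ : Set G)) with h | ⟨M, hM, hle⟩
      · exact h
      · exfalso
        apply hM.1
        rw [eq_top_iff]
        intro g _
        have hcj : Cfsg.Agent.helper7.cj g A₀ ≤ N ⊔ A₀ := by
          rw [hsup]
          rintro _ ⟨x, hx, rfl⟩
          exact hA.conj_mem x (hA₀A hx) g
        obtain ⟨d, hd, hdn⟩ := Cfsg.Agent.helper19.frattini_sz N A₀
          (by rw [Subgroup.normalizer_eq_top]; exact le_top)
          (by rw [hcardA₀, hk]; exact hcopp.symm) (Or.inr hNsol) g hcj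
        have hg : g = d⁻¹ * (d * g) := by group
        rw [hg]
        exact M.mul_mem (M.inv_mem (hfr M hM hd)) (hle hdn)
    have hA₀n : A₀.Normal := Subgroup.normalizer_eq_top_iff.mp hnorm
    have hA₀b : A₀ = ⊥ := hno A₀ hA₀n (by rw [hcardA₀]; exact h1)
    rw [← hcardA₀, hA₀b]; exact Subgroup.card_bot
  obtain ⟨j, hj⟩ := h2
  refine ⟨⊥, B, C, D, inferInstance, hB, hC, hD, bot_le, hBC, hCD, ?_, ?_, h3, h4, h5, h6⟩
  · rw [Subgroup.card_bot]; exact not_dvd_one hp.out
  · refine ⟨k + j, ?_⟩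
    rw [Subgroup.relIndex_bot_left, card_eq_card_mul_relIndex N B (hNA.trans hAB),
      ← Subgroup.relIndex_mul_relIndex N A B hNA hAB, hAN, hj, hk, one_mul, pow_add]

/-- intersecting a normal pair with a third subgroup divides the relative index -/
theorem relIndex_inf_dvd {G : Type*} [Group G] (X Y R : Subgroup G) [hX : X.Normal] (hXY : X ≤ Y) :
    (X ⊓ R).relIndex (Y ⊓ R) ∣ X.relIndex Y := by
  have h1 : (X ⊓ R).relIndex (Y ⊓ R) = X.relIndex (Y ⊓ R) := by
    rw [← Subgroup.inf_relIndex_right X (Y ⊓ R)]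
    congr 1
    rw [← inf_assoc, inf_of_le_left hXY]
  rw [h1]
  haveI : (X.subgroupOf Y).Normal := hX.subgroupOf Y
  have h2 := Subgroup.relIndex_dvd_index_of_normal (X.subgroupOf Y) ((Y ⊓ R).subgroupOf Y)
  rwa [Subgroup.relIndex_subgroupOf inf_le_left] at h2

/-- Case (2b-α): a complement with a normal `p`-complement. -/
theorem concl_compl_pnil {p : ℕ} [hp : Fact p.Prime] {G : Type*} [Group G] [Finite G]
    (N : Subgroup G) [hN : N.Normal] (hNp : ∃ k : ℕ, Nat.card N = p ^ k)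
    (M : Subgroup G) (hsup : N ⊔ M = ⊤) (hinf : N ⊓ M = ⊥)
    (K : Subgroup ↥M) (hKn : K.Normal) (hKp : ¬ p ∣ Nat.card K) (hKi : ∃ k : ℕ, K.index = p ^ k) :
    Concl p G := by
  set π := QuotientGroup.mk' N with hπdef
  have hπ : Function.Surjective π := QuotientGroup.mk'_surjective N
  set f : ↥M →* G ⧸ N := π.comp M.subtype with hfdef
  have hf : Function.Surjective f := by
    intro y
    obtain ⟨g, rfl⟩ := hπ y
    have hg : g ∈ (↑(N ⊔ M) : Set G) := by rw [hsup]; trivial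
    rw [Subgroup.normal_mul] at hg
    obtain ⟨n, hn, m, hm, rfl⟩ := Set.mem_mul.mp hg
    refine ⟨⟨m, hm⟩, ?_⟩
    have h1 : π n = 1 := (QuotientGroup.eq_one_iff n).mpr hn
    rw [map_mul, h1, one_mul]
    rfl
  have hfinj : Function.Injective f := by
    rw [injective_iff_map_eq_one]
    intro m hm
    have h1 : (m : G) ∈ N := (QuotientGroup.eq_one_iff _).mp hm
    have h2 : (m : G) ∈ N ⊓ M := Subgroup.mem_inf.mpr ⟨h1, m.2⟩
    rw [hinf, Subgroup.mem_bot] at h2
    exact Subtype.ext h2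
  haveI hCbn : (K.map f).Normal := hKn.map f hf
  obtain ⟨k, hk⟩ := hNp
  obtain ⟨j, hj⟩ := hKi
  refine ⟨⊥, N, (K.map f).comap π, ⊤, inferInstance, hN, hCbn.comap π, inferInstance, bot_le, ?_,
    le_top, ?_, ?_, ?_, ?_, ?_, fun _ => rfl⟩
  · intro x hx
    rw [Subgroup.mem_comap]
    have h7 : π x = 1 := (QuotientGroup.eq_one_iff x).mpr hx
    rw [h7]; exact (K.map f).one_mem
  · rw [Subgroup.card_bot]; exact not_dvd_one hp.out
  · exact ⟨k, by rw [Subgroup.relIndex_bot_left, hk]⟩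
  · rw [relIndex_eq_card_map, Subgroup.map_comap_eq_self_of_surjective hπ]
    intro hd
    exact hKp (hd.trans (Subgroup.card_map_dvd K f))
  · refine ⟨j, ?_⟩
    rw [Subgroup.relIndex_top_right, Subgroup.index_comap_of_surjective _ hπ,
      Subgroup.index_map_eq K hf (by rw [(MonoidHom.ker_eq_bot_iff f).mpr hfinj]; exact bot_le), hj]
  · rw [Subgroup.index_top]; exact not_dvd_one hp.out

/-- Case (2b-β): a normal subgroup of order `p`. -/
theorem concl_compl_prime {p : ℕ} [hp : Fact p.Prime] {G : Type*} [Group G] [Finite G]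
    (hno : ∀ N : Subgroup G, N.Normal → ¬ p ∣ Nat.card N → N = ⊥)
    (N : Subgroup G) [hN : N.Normal] (hNcard : Nat.card N = p)
    (hq : Concl p (G ⧸ N)) : Concl p G := by
  obtain ⟨A, B, C, D, hA, hB, hC, hD, hNA, hAB, hBC, hCD, h1, h2, h3, h4, h5, h6⟩ := pullback N hq
  set R : Subgroup G := Subgroup.centralizer (N : Set G) with hR
  haveI hRn : R.Normal := Subgroup.normal_centralizer
  -- `(p-1)`-th powers lie in `R`
  have hpow : ∀ x : G, x ^ (p - 1) ∈ R := by
    intro x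
    rw [hR, Subgroup.mem_centralizer_iff]
    intro c hc
    have h7 := Cfsg.Agent.helper18.Hup.centralizes_prime_normal N p hNcard (x ^ (p - 1))
      (Or.inr ⟨x, rfl⟩) c hc
    rw [mul_inv_eq_iff_eq_mul] at h7
    exact h7.symm
  have hRidx : ¬ p ∣ R.index := by
    intro hd
    have hd' : p ∣ Nat.card (G ⧸ R) := hd
    obtain ⟨y, hy⟩ := exists_prime_orderOf_dvd_card' p hd'
    obtain ⟨x, rfl⟩ := QuotientGroup.mk_surjective y
    have h7 : ((x : G ⧸ R)) ^ (p - 1) = 1 := by
      rw [← QuotientGroup.mk_pow]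
      exact (QuotientGroup.eq_one_iff _).mpr (hpow x)
    have h8 : orderOf (x : G ⧸ R) ∣ p - 1 := orderOf_dvd_of_pow_eq_one h7
    rw [hy] at h8
    have hp2 := hp.out.two_le
    exact Nat.not_dvd_of_pos_of_lt (by omega) (by omega) h8
  have hR2 : p = 2 → R = ⊤ := by
    intro h2'
    rw [eq_top_iff]
    intro x _
    have := hpow x
    rw [h2'] at this
    simpa using this
  -- `N` is abelian
  haveI : Finite ↥N := inferInstance
  haveI hcyc : IsCyclic ↥N := isCyclic_of_prime_card hNcard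
  have hNab : ∀ x ∈ N, ∀ y ∈ N, x * y = y * x := by
    obtain ⟨g, hg⟩ := hcyc.exists_generator
    intro x hx y hy
    obtain ⟨i, hi⟩ := Subgroup.mem_zpowers_iff.mp (hg ⟨x, hx⟩)
    obtain ⟨j, hj⟩ := Subgroup.mem_zpowers_iff.mp (hg ⟨y, hy⟩)
    have h7 : (⟨x, hx⟩ : ↥N) * ⟨y, hy⟩ = ⟨y, hy⟩ * ⟨x, hx⟩ := by
      rw [← hi, ← hj]
      exact ((Commute.refl g).zpow_zpow i j)
    exact congrArg (fun w : ↥N => (w : G)) h7
  have hNR : N ≤ R := by
    intro x hx
    rw [hR, Subgroup.mem_centralizer_iff]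
    intro y hy
    exact hNab y hy x hx
  -- `A ⊓ R = N` in the sense of relative index one
  have hNA₁ : N ≤ A ⊓ R := le_inf hNA hNR
  have hm : ¬ p ∣ N.relIndex (A ⊓ R) := by
    intro hd
    apply h1
    rw [← Subgroup.relIndex_mul_relIndex N (A ⊓ R) A hNA₁ inf_le_left]
    exact hd.mul_right _
  have hAN : N.relIndex (A ⊓ R) = 1 := by
    set A₁ : Subgroup G := A ⊓ R with hA₁
    haveI hA₁n : A₁.Normal := inferInstance
    set m := N.relIndex A₁ with hmdef
    haveI : (N.subgroupOf A₁).Normal := hN.subgroupOf A₁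
    have hcardNA : Nat.card (N.subgroupOf A₁) = p := by
      rw [Nat.card_congr (Subgroup.subgroupOfEquivOfLe hNA₁).toEquiv, hNcard]
    have hcopp : p.Coprime m := (Nat.Prime.coprime_iff_not_dvd hp.out).mpr hm
    have hcop : (Nat.card (N.subgroupOf A₁)).Coprime (N.subgroupOf A₁).index := by
      rw [hcardNA]; exact hcopp
    obtain ⟨K₁', hK₁'⟩ := Subgroup.exists_right_complement'_of_coprime hcop
    set K₁ : Subgroup G := K₁'.map A₁.subtype with hK₁
    have hK₁A : K₁ ≤ A₁ := by rintro _ ⟨a, _, rfl⟩; exact a.2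
    have hcardK₁ : Nat.card K₁ = m := by
      rw [hK₁, Subgroup.card_map_of_injective A₁.subtype_injective]
      exact hK₁'.symm.index_eq_card.symm
    have hchar : ∀ x : G, x ∈ K₁ ↔ x ∈ A₁ ∧ x ^ m = 1 := by
      intro x
      constructor
      · intro hx
        refine ⟨hK₁A hx, ?_⟩
        have h7 : (⟨x, hx⟩ : ↥K₁) ^ Nat.card ↥K₁ = 1 := pow_card_eq_one'
        rw [hcardK₁] at h7
        exact congrArg (fun w : ↥K₁ => (w : G)) h7
      · rintro ⟨hxA, hxm⟩
        obtain ⟨⟨n, c⟩, hnc⟩ := hK₁'.2 ⟨x, hxA⟩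
        have hx' : x = ((n : ↥A₁) : G) * ((c : ↥A₁) : G) := by
          have := congrArg (fun z : ↥A₁ => (z : G)) hnc
          simpa using this.symm
        have hnN : ((n : ↥A₁) : G) ∈ N := Subgroup.mem_subgroupOf.mp n.2
        have hcK : ((c : ↥A₁) : G) ∈ K₁ := ⟨(c : ↥A₁), c.2, rfl⟩
        have hcR : ((c : ↥A₁) : G) ∈ R := (Subgroup.mem_inf.mp (c : ↥A₁).2).2
        have hcomm : Commute ((n : ↥A₁) : G) ((c : ↥A₁) : G) :=
          (Subgroup.mem_centralizer_iff.mp hcR) _ hnN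
        have hcm : ((c : ↥A₁) : G) ^ m = 1 := by
          have h7 : (⟨_, hcK⟩ : ↥K₁) ^ Nat.card ↥K₁ = 1 := pow_card_eq_one'
          rw [hcardK₁] at h7
          exact congrArg (fun w : ↥K₁ => (w : G)) h7
        have hnm : ((n : ↥A₁) : G) ^ m = 1 := by
          rw [hx', hcomm.mul_pow, hcm, mul_one] at hxm
          exact hxm
        have hnp : ((n : ↥A₁) : G) ^ p = 1 := by
          have h7 : (⟨_, hnN⟩ : ↥N) ^ Nat.card ↥N = 1 := pow_card_eq_one'
          rw [hNcard] at h7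
          exact congrArg (fun w : ↥N => (w : G)) h7
        have hn1 : ((n : ↥A₁) : G) = 1 := by
          have h7 : orderOf ((n : ↥A₁) : G) ∣ Nat.gcd p m :=
            Nat.dvd_gcd (orderOf_dvd_of_pow_eq_one hnp) (orderOf_dvd_of_pow_eq_one hnm)
          rw [hcopp] at h7
          exact orderOf_eq_one_iff.mp (Nat.dvd_one.mp h7)
        rw [hx', hn1, one_mul]
        exact hcK
    have hK₁n : K₁.Normal := by
      constructor
      intro x hx g
      rw [hchar] at hx ⊢
      refine ⟨hA₁n.conj_mem x hx.1 g, ?_⟩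
      rw [conj_pow, hx.2, mul_one, mul_inv_cancel]
    have hK₁b : K₁ = ⊥ := hno K₁ hK₁n (by rw [hcardK₁]; exact hm)
    rw [← hcardK₁, hK₁b]; exact Subgroup.card_bot
  obtain ⟨j, hj⟩ := h2
  obtain ⟨l, hl⟩ := h4
  refine ⟨⊥, B ⊓ R, C ⊓ R, D ⊓ R, inferInstance, inferInstance, inferInstance, inferInstance, bot_le,
    inf_le_inf_right R hBC, inf_le_inf_right R hCD, ?_, ?_, ?_, ?_, ?_, ?_⟩
  · rw [Subgroup.card_bot]; exact not_dvd_one hp.out
  · have hd : (A ⊓ R).relIndex (B ⊓ R) ∣ p ^ j := hj ▸ relIndex_inf_dvd A B R hAB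
    obtain ⟨i, -, hi⟩ := (Nat.dvd_prime_pow hp.out).mp hd
    refine ⟨1 + i, ?_⟩
    rw [Subgroup.relIndex_bot_left,
      card_eq_card_mul_relIndex N (B ⊓ R) (hNA₁.trans (inf_le_inf_right R hAB)),
      ← Subgroup.relIndex_mul_relIndex N (A ⊓ R) (B ⊓ R) hNA₁ (inf_le_inf_right R hAB), hAN, hi,
      hNcard, one_mul, pow_add, pow_one]
  · intro hd
    exact h3 (hd.trans (relIndex_inf_dvd B C R hBC))
  · have hd : (C ⊓ R).relIndex (D ⊓ R) ∣ p ^ l := hl ▸ relIndex_inf_dvd C D R hCD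
    obtain ⟨i, -, hi⟩ := (Nat.dvd_prime_pow hp.out).mp hd
    exact ⟨i, hi⟩
  · intro hd
    rw [← Subgroup.relIndex_mul_index (inf_le_left : D ⊓ R ≤ D), Subgroup.inf_relIndex_left] at hd
    rcases (Nat.Prime.dvd_mul hp.out).mp hd with h | h
    · exact hRidx (h.trans (Subgroup.relIndex_dvd_index_of_normal R D))
    · exact h5 h
  · intro h2'
    rw [h6 h2', hR2 h2', inf_idem]

theorem card_quotient_lt {G : Type*} [Group G] [Finite G] (N : Subgroup G) [N.Normal] (hN : N ≠ ⊥) :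
    Nat.card (G ⧸ N) < Nat.card G := by
  have h1 : Nat.card N * N.index = Nat.card G := Subgroup.card_mul_index N
  have h2 : 1 < Nat.card N := (Subgroup.one_lt_card_iff_ne_bot N).mpr hN
  have h3 : 0 < N.index := Nat.pos_of_ne_zero Subgroup.index_ne_zero_of_finite
  show N.index < Nat.card G
  nlinarith

universe u

theorem main_aux {p : ℕ} [hp : Fact p.Prime] : ∀ (n : ℕ) (G : Type u) [Group G] [Finite G],
    Nat.card G = n → PSol p G → Hyp p G → Concl p G := by
  intro n
  induction n using Nat.strong_induction_on with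
  | _ n ih =>
  intro G _ _ hcard hps hhyp
  by_cases hex : ∃ N : Subgroup G, N.Normal ∧ N ≠ ⊥ ∧ ¬ p ∣ Nat.card N
  · obtain ⟨N, hNn, hNb, hNp⟩ := hex
    haveI := hNn
    have hlt : Nat.card (G ⧸ N) < n := hcard ▸ card_quotient_lt N hNb
    obtain ⟨A, B, C, D, hA, hB, hC, hD, hNA, hAB, hBC, hCD, h1, h2, h3, h4, h5, h6⟩ :=
      pullback N (ih _ hlt (G ⧸ N) rfl (hps.quotient N) (hhyp.quotient N))
    refine ⟨A, B, C, D, hA, hB, hC, hD, hAB, hBC, hCD, ?_, h2, h3, h4, h5, h6⟩
    rw [card_eq_card_mul_relIndex N A hNA]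
    intro hd
    rcases (Nat.Prime.dvd_mul hp.out).mp hd with h | h
    · exact hNp h
    · exact h1 h
  · have hno : ∀ N : Subgroup G, N.Normal → ¬ p ∣ Nat.card N → N = ⊥ := by
      intro N hN hNp
      by_contra hb
      exact hex ⟨N, hN, hb, hNp⟩
    by_cases htriv : Subsingleton G
    · refine ⟨⊤, ⊤, ⊤, ⊤, inferInstance, inferInstance, inferInstance, inferInstance, le_rfl,
        le_rfl, le_rfl, ?_, ⟨0, by rw [Subgroup.relIndex_self, pow_zero]⟩, ?_,
        ⟨0, by rw [Subgroup.relIndex_self, pow_zero]⟩, ?_, fun _ => rfl⟩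
      · rw [Subgroup.card_top, Nat.card_of_subsingleton (1 : G)]; exact not_dvd_one hp.out
      · rw [Subgroup.relIndex_self]; exact not_dvd_one hp.out
      · rw [Subgroup.index_top]; exact not_dvd_one hp.out
    · haveI : Nontrivial G := not_subsingleton_iff_nontrivial.mp htriv
      obtain ⟨N, hNn, hNb, hNp, hNab, hmin⟩ := exists_min_normal_pgroup hps hno
      haveI := hNn
      have hlt : Nat.card (G ⧸ N) < n := hcard ▸ card_quotient_lt N hNb
      have hq : Concl p (G ⧸ N) := ih _ hlt (G ⧸ N) rfl (hps.quotient N) (hhyp.quotient N)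
      by_cases hfr : ∀ M : Subgroup G, IsCoatom M → N ≤ M
      · exact concl_frattini hno N hNp hNab hfr hq
      · push Not at hfr
        obtain ⟨M, hM, hNM⟩ := hfr
        have hsup : N ⊔ M = ⊤ := by
          apply hM.2
          exact lt_of_le_of_ne le_sup_right (fun h => hNM (h ▸ le_sup_left))
        have hinfn : (N ⊓ M).Normal := by
          constructor
          intro x hx g
          have hg : g ∈ (↑(N ⊔ M) : Set G) := by rw [hsup]; trivial
          rw [Subgroup.normal_mul] at hg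
          obtain ⟨a, ha, m, hm, rfl⟩ := Set.mem_mul.mp hg
          obtain ⟨hxN, hxM⟩ := Subgroup.mem_inf.mp hx
          have h1 : m * x * m⁻¹ ∈ N := hNn.conj_mem x hxN m
          have h2 : m * x * m⁻¹ ∈ M := M.mul_mem (M.mul_mem hm hxM) (M.inv_mem hm)
          have h3 : a * m * x * (a * m)⁻¹ = m * x * m⁻¹ := by
            have h4 : a * m * x * (a * m)⁻¹ = a * (m * x * m⁻¹) * a⁻¹ := by group
            rw [h4, hNab a ha _ h1, mul_assoc, mul_inv_cancel, mul_one]
          rw [h3]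
          exact Subgroup.mem_inf.mpr ⟨h1, h2⟩
        have hinf : N ⊓ M = ⊥ := by
          rcases hmin _ hinfn inf_le_left with h | h
          · exact h
          · exact absurd (h ▸ inf_le_right) hNM
        rcases hhyp M hM with ⟨K, hKn, hKp, hKi⟩ | hpr
        · exact concl_compl_pnil N hNp M hsup hinf K hKn hKp hKi
        · have hc : Subgroup.IsComplement' N M :=
            Cfsg.Agent.helper1.isComplement'_of_normal_disjoint_sup N M (disjoint_iff.mpr hinf) hsup
          have hidx : M.index = Nat.card N := hc.index_eq_card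
          obtain ⟨k, hk⟩ := hNp
          have hNcard : Nat.card N = p := by
            rw [hidx, hk] at hpr
            have hk0 : k ≠ 0 := by
              rintro rfl
              rw [pow_zero] at hpr
              exact Nat.not_prime_one hpr
            rcases (Nat.Prime.eq_one_or_self_of_dvd hpr p (dvd_pow_self p hk0)) with h | h
            · exact absurd h hp.out.ne_one
            · rw [hk]; exact h.symm
          exact concl_compl_prime hno N hNcard hq

theorem main {p : ℕ} [hp : Fact p.Prime] {G : Type u} [Group G] [Finite G] (hps : PSol p G)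
    (hh : Hyp p G) : Concl p G := main_aux _ G rfl hps hh

/-- `IsPSolvable` implies `PSol`. -/
theorem psol_of_isPSolvable {p : ℕ} [hp : Fact p.Prime] {G : Type*} [Group G]
    (h : Cfsg.IsPSolvable p G) :
    PSol p G := by
  classical
  obtain ⟨n, H, h0, hlast, hmono, hnorm, hfac⟩ := h
  intro N hN hNt
  have hex : ∃ j : ℕ, ∃ hj : j < n + 1, ¬ H ⟨j, hj⟩ ≤ N := by
    refine ⟨n, Nat.lt_succ_self n, ?_⟩
    have h1 : (⟨n, Nat.lt_succ_self n⟩ : Fin (n + 1)) = Fin.last n := rfl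
    rw [h1, hlast]
    intro h2
    exact hNt (top_le_iff.mp h2)
  obtain ⟨hj, hjN⟩ := Nat.find_spec hex
  have hj0 : Nat.find hex ≠ 0 := by
    intro h1
    apply hjN
    have h2 : (⟨Nat.find hex, hj⟩ : Fin (n + 1)) = 0 := Fin.ext h1
    rw [h2, h0]; exact bot_le
  obtain ⟨i, hi⟩ : ∃ i, Nat.find hex = i + 1 := Nat.exists_eq_succ_of_ne_zero hj0
  have hin : i < n := by omega
  have hprev : H ⟨i, by omega⟩ ≤ N := by
    by_contra hc
    have h1 := Nat.find_min hex (m := i) (by omega)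
    exact h1 ⟨by omega, hc⟩
  have hnext : ¬ H ⟨i + 1, by omega⟩ ≤ N := by
    intro hc
    apply hjN
    have h2 : (⟨Nat.find hex, hj⟩ : Fin (n + 1)) = ⟨i + 1, by omega⟩ := Fin.ext hi
    rw [h2]; exact hc
  haveI := hN
  haveI : (H ⟨i + 1, by omega⟩).Normal := hnorm _
  refine ⟨N ⊔ H ⟨i + 1, by omega⟩, inferInstance, ?_, ?_⟩
  · exact lt_of_le_of_ne le_sup_left (fun h => hnext (le_sup_right.trans (le_of_eq h.symm)))
  · rw [Subgroup.relIndex_sup_left]
    have hd : N.relIndex (H ⟨i + 1, by omega⟩) ∣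
        (H ⟨i, by omega⟩).relIndex (H ⟨i + 1, by omega⟩) :=
      Subgroup.relIndex_dvd_of_le_left _ hprev
    have hf := hfac ⟨i, hin⟩
    have e1 : (⟨i, hin⟩ : Fin n).castSucc = ⟨i, by omega⟩ := rfl
    have e2 : (⟨i, hin⟩ : Fin n).succ = ⟨i + 1, by omega⟩ := rfl
    rw [e1, e2] at hf
    rcases hf with ⟨m, hm⟩ | hcop
    · left
      rw [hm] at hd
      obtain ⟨l, -, hl⟩ := (Nat.dvd_prime_pow hp.out).mp hd
      exact ⟨l, hl⟩
    · right
      intro hpd
      have h1 : p ∣ (H ⟨i, by omega⟩).relIndex (H ⟨i + 1, by omega⟩) := hpd.trans hd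
      have h2 : p ∣ Nat.gcd ((H ⟨i, by omega⟩).relIndex (H ⟨i + 1, by omega⟩)) p :=
        Nat.dvd_gcd h1 dvd_rfl
      rw [hcop] at h2
      exact not_dvd_one hp.out h2

/-- finite solvable groups satisfy `PSol` for every prime -/
theorem psol_of_solvable {p : ℕ} [hp : Fact p.Prime] {G : Type*} [Group G] [Finite G]
    [hs : Group.IsSolvable G] : PSol p G := by
  intro N hN hNt
  haveI := hN
  set π := QuotientGroup.mk' N with hπdef
  have hπ : Function.Surjective π := QuotientGroup.mk'_surjective N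
  have htop : (⊤ : Subgroup (G ⧸ N)) ≠ ⊥ := by
    intro h
    apply hNt
    rw [eq_top_iff]
    intro g _
    have h1 : π g ∈ (⊤ : Subgroup (G ⧸ N)) := Subgroup.mem_top _
    rw [h, Subgroup.mem_bot] at h1
    exact (QuotientGroup.eq_one_iff g).mp h1
  obtain ⟨q, hq, D, hDn, -, hDb, -, hDq⟩ :=
    Cfsg.Agent.helper8.CN.exists_normal_abelian_pgroup (⊤ : Subgroup (G ⧸ N)) inferInstance htop
  haveI := hDn
  refine ⟨D.comap π, hDn.comap π, ?_, ?_⟩
  · constructor
    · intro x hx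
      rw [Subgroup.mem_comap]
      have h7 : π x = 1 := (QuotientGroup.eq_one_iff x).mpr hx
      rw [h7]; exact D.one_mem
    · intro hle
      apply hDb
      rw [eq_bot_iff]
      intro x hx
      obtain ⟨g, rfl⟩ := hπ x
      rw [Subgroup.mem_bot]
      exact (QuotientGroup.eq_one_iff g).mpr (hle hx)
  · rw [relIndex_eq_card_map, Subgroup.map_comap_eq_self_of_surjective hπ]
    haveI := Fact.mk hq
    obtain ⟨n, hn⟩ := IsPGroup.iff_card.mp hDq
    by_cases hqp : q = p
    · left; exact ⟨n, by rw [hn, hqp]⟩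
    · right
      rw [hn]
      intro hd
      exact hqp ((Nat.prime_dvd_prime_iff_eq hp.out hq).mp (hp.out.dvd_of_dvd_pow hd)).symm

end Cfsg.Agent.helper18.MPN
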