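import Mathlib

set_option autoImplicit false

namespace Cfsg.Agent.helper18

open Equiv MulAction

section prescribe

variable {α : Type*} [Fintype α] [DecidableEq α]

/-- In a `k`-transitive group one can prescribe the images of at most `k` points. -/
lemma exists_mem_prescribed (G : Subgroup (Perm α)) {k : ℕ} (hkn : k ≤ Fintype.card α)
    (hG : IsMultiplyPretransitive G α k) (B : Finset α) (hB : B.card ≤ k) (f : α → α)
    (hf : Set.InjOn f B) : ∃ c ∈ G, ∀ b ∈ B, c b = f b := by
  have := hG
  have hm : IsMultiplyPretransitive G α B.card :=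
    isMultiplyPretransitive_of_le hB (by rwa [Nat.card_eq_fintype_card])
  let e := B.equivFin
  let x : Fin B.card ↪ α := ⟨fun i => (e.symm i : α), fun i j hij => by
    have : e.symm i = e.symm j := Subtype.ext hij
    exact e.symm.injective this⟩
  let y : Fin B.card ↪ α := ⟨fun i => f (e.symm i : α), fun i j hij => by
    have h1 := hf (e.symm i).2 (e.symm j).2 hij
    have : e.symm i = e.symm j := Subtype.ext h1
    exact e.symm.injective this⟩
  obtain ⟨g, hg⟩ := hm.exists_smul_eq x y
  refine ⟨g.1, g.2, fun b hb => ?_⟩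
  have h1 := congrArg (fun z : Fin B.card ↪ α => z (e ⟨b, hb⟩)) hg
  simp only [Function.Embedding.smul_apply] at h1
  have hx : x (e ⟨b, hb⟩) = b := by
    change ((e.symm (e ⟨b, hb⟩) : B) : α) = b
    rw [Equiv.symm_apply_apply]
  have hy : y (e ⟨b, hb⟩) = f b := by
    change f ((e.symm (e ⟨b, hb⟩) : B) : α) = f b
    rw [Equiv.symm_apply_apply]
  rw [hx, hy] at h1
  exact h1

end prescribe


section support

variable {α : Type*} [Fintype α] [DecidableEq α]

lemma conj_apply_of_fixed (g c : Perm α) (p : α) (h1 : c p = p) :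
    (c * g * c⁻¹) p = c (g p) := by
  have : c⁻¹ p = p := by rw [Perm.inv_eq_iff_eq, h1]
  simp [Perm.mul_apply, this]

lemma mem_support_conj (g c : Perm α) (t : α) :
    t ∈ (c * g * c⁻¹).support ↔ c⁻¹ t ∈ g.support := by
  simp only [Perm.mem_support, Perm.mul_apply, ne_eq]
  constructor
  · intro h h2
    apply h
    rw [h2]
    simp
  · intro h h2
    apply h
    exact (Perm.inv_eq_iff_eq.mpr h2.symm).symm

/-- The basic support estimate for `g⁻¹ * (c g c⁻¹)` when `c` fixes `B` pointwise. -/
lemma card_support_conj_le (g c : Perm α) (B T : Finset α) (hBS : B ⊆ g.support)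
    (hcB : ∀ b ∈ B, c b = b) (hT : T ⊆ g.support) (hTc : ∀ t ∈ T, c⁻¹ t ∈ g.support) :
    (g⁻¹ * (c * g * c⁻¹)).support.card + T.card + (B.filter (fun b => g b ∈ B)).card
      ≤ 2 * g.support.card := by
  set S := g.support with hS
  set cS := (c * g * c⁻¹).support with hcS
  set Bg := B.filter (fun b => g b ∈ B) with hBg
  have hBgS : Bg ⊆ S ∪ cS := fun b hb =>
    Finset.mem_union_left _ (hBS (Finset.mem_of_mem_filter b hb))
  have h1 : (g⁻¹ * (c * g * c⁻¹)).support ⊆ (S ∪ cS) \ Bg := by
    intro p hp
    rw [Perm.mem_support] at hp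
    rw [Finset.mem_sdiff, Finset.mem_union]
    constructor
    · by_contra hcon
      push Not at hcon
      obtain ⟨hpS, hpcS⟩ := hcon
      apply hp
      rw [hS, Perm.notMem_support] at hpS
      rw [hcS, Perm.notMem_support] at hpcS
      rw [Perm.mul_apply, hpcS, Perm.inv_eq_iff_eq, hpS]
    · intro hpB
      apply hp
      rw [hBg, Finset.mem_filter] at hpB
      rw [Perm.mul_apply, conj_apply_of_fixed g c p (hcB p hpB.1), hcB _ hpB.2]
      simp
  have h2 : ((S ∪ cS) \ Bg).card = (S ∪ cS).card - Bg.card := Finset.card_sdiff_of_subset hBgS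
  have h3 : (S ∪ cS).card + (S ∩ cS).card = S.card + cS.card :=
    Finset.card_union_add_card_inter S cS
  have h4 : cS.card = S.card := by
    rw [hcS, hS, Perm.support_conj, Finset.card_map]
  have h5 : T.card ≤ (S ∩ cS).card := by
    apply Finset.card_le_card
    intro t ht
    rw [Finset.mem_inter]
    exact ⟨hT ht, (mem_support_conj g c t).mpr (hTc t ht)⟩
  have h6 := Finset.card_le_card h1
  have h7 : Bg.card ≤ (S ∪ cS).card := Finset.card_le_card hBgS
  omega

end support


section chain

variable {α : Type*} [Fintype α] [DecidableEq α]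

/-- Subsets of the support of every size with at most one point mapped outside. -/
lemma exists_chain (g : Perm α) (j : ℕ) (hj : j ≤ g.support.card) :
    ∃ A : Finset α, A ⊆ g.support ∧ A.card = j ∧
      ∀ a ∈ A, ∀ a' ∈ A, g a ∉ A → g a' ∉ A → a = a' := by
  induction j with
  | zero => exact ⟨∅, by simp, rfl, by simp⟩
  | succ j ih =>
    obtain ⟨A, hAS, hAc, hA⟩ := ih (by omega)
    by_cases hex : ∃ p ∈ A, g p ∉ A
    · obtain ⟨p, hpA, hgp⟩ := hex
      refine ⟨insert (g p) A, ?_, ?_, ?_⟩
      · intro x hx
        rw [Finset.mem_insert] at hx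
        rcases hx with rfl | hx
        · exact Perm.apply_mem_support.mpr (hAS hpA)
        · exact hAS hx
      · rw [Finset.card_insert_of_notMem hgp, hAc]
      · have key : ∀ x ∈ insert (g p) A, g x ∉ insert (g p) A → x = g p := by
          intro x hx hgx
          rw [Finset.mem_insert] at hx
          rcases hx with rfl | hx
          · rfl
          · exfalso
            have hgxA : g x ∉ A := fun h => hgx (Finset.mem_insert_of_mem h)
            have hxp : x = p := hA x hx p hpA hgxA hgp
            apply hgx
            rw [hxp]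
            exact Finset.mem_insert_self _ _
        intro a ha a' ha' hga hga'
        rw [key a ha hga, key a' ha' hga']
    · push Not at hex
      obtain ⟨b, hbS, hbA⟩ : ∃ b ∈ g.support, b ∉ A := by
        by_contra hcon
        push Not at hcon
        have h1 : g.support ⊆ A := hcon
        have := Finset.card_le_card h1
        omega
      refine ⟨insert b A, ?_, ?_, ?_⟩
      · intro x hx
        rw [Finset.mem_insert] at hx
        rcases hx with rfl | hx
        · exact hbS
        · exact hAS hx
      · rw [Finset.card_insert_of_notMem hbA, hAc]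
      · have key : ∀ x ∈ insert b A, g x ∉ insert b A → x = b := by
          intro x hx hgx
          rw [Finset.mem_insert] at hx
          rcases hx with rfl | hx
          · rfl
          · exact absurd (Finset.mem_insert_of_mem (hex x hx)) hgx
        intro a ha a' ha' hga hga'
        rw [key a ha hga, key a' ha' hga']

lemma card_le_filter_add_one (g : Perm α) (A : Finset α)
    (hA : ∀ a ∈ A, ∀ a' ∈ A, g a ∉ A → g a' ∉ A → a = a') :
    A.card ≤ (A.filter (fun a => g a ∈ A)).card + 1 := by
  have h1 := Finset.card_filter_add_card_filter_not (s := A) (fun a => g a ∈ A)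
  have h2 : (A.filter (fun a => ¬ g a ∈ A)).card ≤ 1 := by
    rw [Finset.card_le_one]
    intro a ha b hb
    rw [Finset.mem_filter] at ha hb
    exact hA a ha.1 b hb.1 ha.2 hb.2
  omega

/-- A subset closed under `g` is closed under `g⁻¹`. -/
lemma exists_preimage_of_closed (g : Perm α) (A : Finset α) (hA : ∀ a ∈ A, g a ∈ A) (a : α)
    (ha : a ∈ A) : ∃ a' ∈ A, g a' = a := by
  have h1 : A.map g.toEmbedding ⊆ A := by
    intro x hx
    rw [Finset.mem_map] at hx
    obtain ⟨y, hy, rfl⟩ := hx
    exact hA y hy
  have h2 : A.map g.toEmbedding = A :=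
    Finset.eq_of_subset_of_card_le h1 (by rw [Finset.card_map])
  rw [← h2, Finset.mem_map] at ha
  obtain ⟨y, hy, hya⟩ := ha
  exact ⟨y, hy, hya⟩

/-- The configuration used to decrease the support. -/
lemma exists_good_config (g : Perm α) (k : ℕ) (hk : 4 ≤ k) (hs1 : k + 1 ≤ g.support.card)
    (hs2 : g.support.card ≤ 2 * k - 3) :
    ∃ (B : Finset α) (p : α), B ⊆ g.support ∧ B.card = k - 1 ∧ p ∈ B ∧ g p ∉ B ∧
      g.support.card + 1 ≤ (B.filter (fun b => g b ∈ B)).card + k := by
  obtain ⟨A, hAS, hAc, hA⟩ := exists_chain g (k - 1) (by omega)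
  by_cases hex : ∃ p ∈ A, g p ∉ A
  · obtain ⟨p, hpA, hgp⟩ := hex
    refine ⟨A, p, hAS, hAc, hpA, hgp, ?_⟩
    have := card_le_filter_add_one g A hA
    omega
  · push Not at hex
    by_cases hs3 : g.support.card ≤ 2 * k - 4
    · -- two exits
      obtain ⟨a, haA⟩ : ∃ a, a ∈ A := by
        apply Finset.card_pos.mp
        omega
      obtain ⟨b, hbS, hbA⟩ : ∃ b ∈ g.support, b ∉ A := by
        by_contra hcon
        push Not at hcon
        have h1 : g.support ⊆ A := hcon
        have := Finset.card_le_card h1
        omega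
      obtain ⟨p, hpA, hgpa⟩ := exists_preimage_of_closed g A hex a haA
      have hpa : p ≠ a := by
        intro h
        rw [h] at hgpa
        exact (Perm.mem_support.mp (hAS haA)) hgpa
      have hab : a ≠ b := fun h => hbA (h ▸ haA)
      refine ⟨insert b (A.erase a), p, ?_, ?_, ?_, ?_, ?_⟩
      · intro x hx
        rw [Finset.mem_insert] at hx
        rcases hx with rfl | hx
        · exact hbS
        · exact hAS (Finset.mem_of_mem_erase hx)
      · rw [Finset.card_insert_of_notMem (fun h => hbA (Finset.mem_of_mem_erase h)),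
          Finset.card_erase_of_mem haA, hAc]
        omega
      · exact Finset.mem_insert_of_mem (Finset.mem_erase.mpr ⟨hpa, hpA⟩)
      · rw [hgpa, Finset.mem_insert]
        push Not
        exact ⟨hab, fun h => (Finset.mem_erase.mp h).1 rfl⟩
      · have hsub : (A.erase a).erase p ⊆
            (insert b (A.erase a)).filter (fun x => g x ∈ insert b (A.erase a)) := by
          intro x hx
          rw [Finset.mem_erase, Finset.mem_erase] at hx
          obtain ⟨hxp, hxa, hxA⟩ := hx
          rw [Finset.mem_filter]
          refine ⟨Finset.mem_insert_of_mem (Finset.mem_erase.mpr ⟨hxa, hxA⟩), ?_⟩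
          apply Finset.mem_insert_of_mem
          rw [Finset.mem_erase]
          refine ⟨?_, hex x hxA⟩
          intro hgx
          apply hxp
          apply g.injective
          rw [hgx, hgpa]
        have hc := Finset.card_le_card hsub
        rw [Finset.card_erase_of_mem (Finset.mem_erase.mpr ⟨hpa, hpA⟩),
          Finset.card_erase_of_mem haA, hAc] at hc
        omega
    · -- the complement is closed of size `k - 2`
      have hs4 : g.support.card = 2 * k - 3 := by omega
      obtain ⟨p, hpA⟩ : ∃ p, p ∈ A := by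
        apply Finset.card_pos.mp
        omega
      have hRc : (g.support \ A).card = k - 2 := by
        rw [Finset.card_sdiff_of_subset hAS, hAc]
        omega
      have hRclosed : ∀ x ∈ g.support \ A, g x ∈ g.support \ A := by
        intro x hx
        rw [Finset.mem_sdiff] at hx ⊢
        refine ⟨Perm.apply_mem_support.mpr hx.1, ?_⟩
        intro hgx
        obtain ⟨y, hy, hyx⟩ := exists_preimage_of_closed g A hex (g x) hgx
        have : y = x := g.injective hyx
        exact hx.2 (this ▸ hy)
      have hpR : p ∉ g.support \ A := fun h => (Finset.mem_sdiff.mp h).2 hpA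
      refine ⟨insert p (g.support \ A), p, ?_, ?_, Finset.mem_insert_self _ _, ?_, ?_⟩
      · intro x hx
        rw [Finset.mem_insert] at hx
        rcases hx with rfl | hx
        · exact hAS hpA
        · exact (Finset.mem_sdiff.mp hx).1
      · rw [Finset.card_insert_of_notMem hpR, hRc]
        omega
      · rw [Finset.mem_insert]
        push Not
        refine ⟨Perm.mem_support.mp (hAS hpA), ?_⟩
        intro h
        exact (Finset.mem_sdiff.mp h).2 (hex p hpA)
      · have hsub : g.support \ A ⊆
            (insert p (g.support \ A)).filter (fun x => g x ∈ insert p (g.support \ A)) := by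
          intro x hx
          rw [Finset.mem_filter]
          exact ⟨Finset.mem_insert_of_mem hx, Finset.mem_insert_of_mem (hRclosed x hx)⟩
        have hc := Finset.card_le_card hsub
        rw [hRc] at hc
        omega

end chain


section reduction

variable {α : Type*} [Fintype α] [DecidableEq α]

lemma injOn_update_point (B : Finset α) (ω ω' : α) (hω : ω ∉ B) (hω' : ω' ∉ B) :
    Set.InjOn (fun x => if x = ω then ω' else x) (insert ω B : Finset α) := by
  intro x hx y hy hxy
  simp only at hxy
  rw [Finset.mem_coe, Finset.mem_insert] at hx hy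
  by_cases h1 : x = ω
  · by_cases h2 : y = ω
    · rw [h1, h2]
    · exfalso
      rw [if_pos h1, if_neg h2] at hxy
      rcases hy with hy | hy
      · exact h2 hy
      · exact hω' (hxy ▸ hy)
  · by_cases h2 : y = ω
    · exfalso
      rw [if_neg h1, if_pos h2] at hxy
      rcases hx with hx | hx
      · exact h1 hx
      · exact hω' (hxy ▸ hx)
    · rw [if_neg h1, if_neg h2] at hxy
      exact hxy

/-- Decreasing the support. -/
lemma exists_smaller_support (G : Subgroup (Perm α)) {k : ℕ} (hk : 4 ≤ k)
    (hkn : k ≤ Fintype.card α) (hG : IsMultiplyPretransitive G α k) (g : Perm α) (hg : g ∈ G)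
    (hs1 : k + 1 ≤ g.support.card) (hs2 : g.support.card ≤ 2 * k - 3) :
    ∃ y ∈ G, y ≠ 1 ∧ y.support.card < g.support.card := by
  obtain ⟨B, p, hBS, hBc, hpB, hgpB, hcount⟩ := exists_good_config g k hk hs1 hs2
  have hωS : g p ∈ g.support := Perm.apply_mem_support.mpr (hBS hpB)
  obtain ⟨ω', hω'S, hω'B⟩ : ∃ ω' ∈ g.support, ω' ∉ insert (g p) B := by
    by_contra hcon
    push Not at hcon
    have h1 : g.support ⊆ insert (g p) B := hcon
    have h2 := Finset.card_le_card h1
    rw [Finset.card_insert_of_notMem hgpB, hBc] at h2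
    omega
  have hω'ne : ω' ≠ g p := fun h => hω'B (h ▸ Finset.mem_insert_self _ _)
  have hω'B' : ω' ∉ B := fun h => hω'B (Finset.mem_insert_of_mem h)
  obtain ⟨c, hcG, hc⟩ := exists_mem_prescribed G hkn hG (insert (g p) B)
    (by rw [Finset.card_insert_of_notMem hgpB, hBc]; omega)
    (fun x => if x = g p then ω' else x) (injOn_update_point B (g p) ω' hgpB hω'B')
  have hcB : ∀ b ∈ B, c b = b := by
    intro b hb
    rw [hc b (Finset.mem_insert_of_mem hb), if_neg]
    intro h
    exact hgpB (h ▸ hb)
  have hcω : c (g p) = ω' := by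
    rw [hc (g p) (Finset.mem_insert_self _ _), if_pos rfl]
  refine ⟨g⁻¹ * (c * g * c⁻¹), ?_, ?_, ?_⟩
  · exact G.mul_mem (G.inv_mem hg) (G.mul_mem (G.mul_mem hcG hg) (G.inv_mem hcG))
  · intro h1
    have h2 : (g⁻¹ * (c * g * c⁻¹)) p = p := by rw [h1]; rfl
    rw [Perm.mul_apply, conj_apply_of_fixed g c p (hcB p hpB), hcω, Perm.inv_eq_iff_eq] at h2
    exact hω'ne h2
  · have hT : insert ω' B ⊆ g.support := by
      intro x hx
      rw [Finset.mem_insert] at hx
      rcases hx with rfl | hx
      · exact hω'S
      · exact hBS hx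
    have hTc : ∀ t ∈ insert ω' B, c⁻¹ t ∈ g.support := by
      intro t ht
      rw [Finset.mem_insert] at ht
      rcases ht with rfl | ht
      · have : c⁻¹ t = g p := by rw [Perm.inv_eq_iff_eq, hcω]
        rw [this]
        exact hωS
      · have : c⁻¹ t = t := by rw [Perm.inv_eq_iff_eq, hcB t ht]
        rw [this]
        exact hBS ht
    have h1 := card_support_conj_le g c B (insert ω' B) hBS hcB hT hTc
    rw [Finset.card_insert_of_notMem hω'B', hBc] at h1
    omega

/-- The case of small support. -/
lemma exists_support_le_three (G : Subgroup (Perm α)) {k : ℕ}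
    (hkn : k ≤ Fintype.card α) (hG : IsMultiplyPretransitive G α k) (g : Perm α) (hg : g ∈ G)
    (hg1 : g ≠ 1) (hs : g.support.card ≤ k) (hn : g.support.card < Fintype.card α) :
    ∃ y ∈ G, y ≠ 1 ∧ y.support.card ≤ 3 := by
  obtain ⟨ω, hω⟩ : ∃ ω, ω ∈ g.support := by
    apply Finset.card_pos.mp
    rw [Finset.card_pos, Finset.nonempty_iff_ne_empty]
    intro h
    exact hg1 (Perm.support_eq_empty_iff.mp h)
  obtain ⟨ω', hω'⟩ : ∃ ω', ω' ∉ g.support := by
    by_contra hcon
    push Not at hcon
    have : g.support = Finset.univ := Finset.eq_univ_iff_forall.mpr hcon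
    rw [this, Finset.card_univ] at hn
    omega
  set B := g.support.erase ω with hB
  have hωB : ω ∉ B := Finset.notMem_erase ω _
  have hω'B : ω' ∉ B := fun h => hω' (Finset.mem_of_mem_erase h)
  have hins : insert ω B = g.support := Finset.insert_erase hω
  obtain ⟨c, hcG, hc⟩ := exists_mem_prescribed G hkn hG (insert ω B)
    (by rw [hins]; exact hs)
    (fun x => if x = ω then ω' else x) (injOn_update_point B ω ω' hωB hω'B)
  have hcB : ∀ b ∈ B, c b = b := by
    intro b hb
    rw [hc b (Finset.mem_insert_of_mem hb), if_neg]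
    intro h
    exact hωB (h ▸ hb)
  have hcω : c ω = ω' := by
    rw [hc ω (Finset.mem_insert_self _ _), if_pos rfl]
  have hgω : g ω ≠ ω := Perm.mem_support.mp hω
  have hgωB : g ω ∈ B := Finset.mem_erase.mpr ⟨hgω, Perm.apply_mem_support.mpr hω⟩
  refine ⟨g⁻¹ * (c * g * c⁻¹), ?_, ?_, ?_⟩
  · exact G.mul_mem (G.inv_mem hg) (G.mul_mem (G.mul_mem hcG hg) (G.inv_mem hcG))
  · intro h1
    have h2 : (g⁻¹ * (c * g * c⁻¹)) ω' = ω' := by rw [h1]; rfl
    have h3 : c⁻¹ ω' = ω := by rw [Perm.inv_eq_iff_eq, hcω]
    rw [Perm.mul_apply, Perm.mul_apply, Perm.mul_apply, h3, hcB _ hgωB, Perm.inv_eq_iff_eq] at h2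
    exact hω' (g.injective h2 ▸ hω)
  · have hBS : B ⊆ g.support := Finset.erase_subset _ _
    have hTc : ∀ t ∈ B, c⁻¹ t ∈ g.support := by
      intro t ht
      have : c⁻¹ t = t := by rw [Perm.inv_eq_iff_eq, hcB t ht]
      rw [this]
      exact hBS ht
    have h1 := card_support_conj_le g c B B hBS hcB hBS hTc
    have hBc : B.card = g.support.card - 1 := Finset.card_erase_of_mem hω
    have hsub : B.erase (g⁻¹ ω) ⊆ B.filter (fun b => g b ∈ B) := by
      intro x hx
      rw [Finset.mem_erase] at hx
      rw [Finset.mem_filter]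
      refine ⟨hx.2, ?_⟩
      rw [hB, Finset.mem_erase]
      refine ⟨?_, Perm.apply_mem_support.mpr (hBS hx.2)⟩
      intro h
      apply hx.1
      rw [← h]
      simp
    have h2 := Finset.card_le_card hsub
    have h3 := Finset.pred_card_le_card_erase (s := B) (a := g⁻¹ ω)
    have hspos : 0 < g.support.card := Finset.card_pos.mpr ⟨ω, hω⟩
    omega

/-- A `k`-transitive group (`3 ≤ k ≤ n - 2`) with a non-identity element of support less than
`2k - 2` has a non-identity element of support at most three. -/
theorem exists_support_le_three_of_lt (G : Subgroup (Perm α)) {k : ℕ} (hk : 3 ≤ k)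
    (hkn : k + 2 ≤ Fintype.card α) (hG : IsMultiplyPretransitive G α k) :
    ∀ (s : ℕ) (g : Perm α), g ∈ G → g ≠ 1 → g.support.card = s → s < 2 * k - 2 →
      ∃ h ∈ G, h ≠ 1 ∧ h.support.card ≤ 3 := by
  intro s
  induction s using Nat.strong_induction_on with
  | _ s ih =>
    intro g hg hg1 hgs hs
    by_cases hsk : s ≤ k
    · exact exists_support_le_three G (by omega) hG g hg hg1 (by omega) (by omega)
    · push Not at hsk
      have hk4 : 4 ≤ k := by omega
      obtain ⟨y, hyG, hy1, hys⟩ := exists_smaller_support G hk4 (by omega) hG g hg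
        (by omega) (by omega)
      exact ih y.support.card (by omega) y hyG hy1 rfl (by omega)

end reduction

end Cfsg.Agent.helper18
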