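import Mathlib

set_option autoImplicit false

namespace Cfsg.Agent.helper18.NilCover

open Equiv

/-! ### Replacement lemma -/

theorem replace_le {Γ : Type*} [Group Γ] (𝓐 : Finset (Subgroup Γ))
    (hcov : ∀ g : Γ, ∃ A ∈ 𝓐, g ∈ A)
    (hprop : ∀ A ∈ 𝓐, A ≠ ⊤)
    (hmin : ∀ 𝓑 : Finset (Subgroup Γ),
      (∀ A ∈ 𝓑, A ≠ ⊤) ∧ (∀ g : Γ, ∃ A ∈ 𝓑, g ∈ A) → 𝓐.card ≤ 𝓑.card)
    (R 𝓒 : Finset (Subgroup Γ)) (hR : R ⊆ 𝓐) (h𝓒 : ∀ C ∈ 𝓒, C ≠ ⊤)
    (habs : ∀ A ∈ R, ∃ C ∈ 𝓒, A ≤ C) : R.card ≤ 𝓒.card := by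
  classical
  have hB1 : ∀ A ∈ (𝓐 \ R) ∪ 𝓒, A ≠ ⊤ := by
    intro A hA
    rcases Finset.mem_union.mp hA with h | h
    · exact hprop A (Finset.mem_sdiff.mp h).1
    · exact h𝓒 A h
  have hB2 : ∀ g : Γ, ∃ A ∈ (𝓐 \ R) ∪ 𝓒, g ∈ A := by
    intro g
    obtain ⟨A, hA, hgA⟩ := hcov g
    by_cases hAR : A ∈ R
    · obtain ⟨C, hC, hAC⟩ := habs A hAR
      exact ⟨C, Finset.mem_union_right _ hC, hAC hgA⟩
    · exact ⟨A, Finset.mem_union_left _ (Finset.mem_sdiff.mpr ⟨hA, hAR⟩), hgA⟩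
  have h1 := hmin ((𝓐 \ R) ∪ 𝓒) ⟨hB1, hB2⟩
  have h2 : ((𝓐 \ R) ∪ 𝓒).card ≤ (𝓐 \ R).card + 𝓒.card := Finset.card_union_le _ _
  have h3 : (𝓐 \ R).card + R.card = 𝓐.card := Finset.card_sdiff_add_card_eq_card hR
  omega

/-! ### Nilpotent groups -/

theorem mem_zpowers_of_nilpotent {N : Type*} [Group N] [Finite N] [Group.IsNilpotent N]
    {p : ℕ} (hp : p.Prime) (hp2 : ¬ p ^ 2 ∣ Nat.card N) {x y : N}
    (hx : orderOf x = p) (hy : orderOf y = p) : y ∈ Subgroup.zpowers x := by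
  haveI := Fact.mk hp
  have hxp : IsPGroup p (Subgroup.zpowers x) :=
    IsPGroup.of_card (n := 1) (by rw [Nat.card_zpowers, hx, pow_one])
  have hyp : IsPGroup p (Subgroup.zpowers y) :=
    IsPGroup.of_card (n := 1) (by rw [Nat.card_zpowers, hy, pow_one])
  obtain ⟨P, hP⟩ := hxp.exists_le_sylow
  obtain ⟨Q, hQ⟩ := hyp.exists_le_sylow
  have hPn : (P : Subgroup N).Normal := inferInstance
  haveI := Sylow.unique_of_normal P hPn
  have hQP : Q = P := Subsingleton.elim _ _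
  have hcard : Nat.card (P : Subgroup N) = p ^ (Nat.card N).factorization p :=
    P.card_eq_multiplicity
  have hfac : (Nat.card N).factorization p ≤ 1 := by
    by_contra h
    push Not at h
    apply hp2
    exact (pow_dvd_pow p (Nat.succ_le_of_lt h)).trans (Nat.ordProj_dvd _ p)
  have hle : Nat.card (P : Subgroup N) ≤ Nat.card (Subgroup.zpowers x) := by
    rw [hcard, Nat.card_zpowers, hx]
    calc p ^ (Nat.card N).factorization p ≤ p ^ 1 := Nat.pow_le_pow_right hp.pos hfac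
      _ = p := pow_one p
  have heq : Subgroup.zpowers x = (P : Subgroup N) := Subgroup.eq_of_le_of_card_ge hP hle
  have h1 : y ∈ (Q : Subgroup N) := hQ (Subgroup.mem_zpowers y)
  rw [hQP] at h1
  rw [heq]
  exact h1

theorem commute_of_nilpotent {N : Type*} [Group N] [Finite N] [Group.IsNilpotent N]
    {p q : ℕ} (hp : p.Prime) (hq : q.Prime) (hpq : p ≠ q) {x y : N}
    (hx : orderOf x = p) (hy : orderOf y = q) : Commute x y := by
  haveI := Fact.mk hp
  haveI := Fact.mk hq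
  have hxp : IsPGroup p (Subgroup.zpowers x) :=
    IsPGroup.of_card (n := 1) (by rw [Nat.card_zpowers, hx, pow_one])
  have hyq : IsPGroup q (Subgroup.zpowers y) :=
    IsPGroup.of_card (n := 1) (by rw [Nat.card_zpowers, hy, pow_one])
  obtain ⟨P, hP⟩ := hxp.exists_le_sylow
  obtain ⟨Q, hQ⟩ := hyq.exists_le_sylow
  have hPn : (P : Subgroup N).Normal := inferInstance
  have hQn : (Q : Subgroup N).Normal := inferInstance
  have hdis : Disjoint (P : Subgroup N) (Q : Subgroup N) :=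
    IsPGroup.disjoint_of_ne p q hpq _ _ P.isPGroup' Q.isPGroup'
  exact Subgroup.commute_of_normal_of_disjoint _ _ hPn hQn hdis x y
    (hP (Subgroup.mem_zpowers x)) (hQ (Subgroup.mem_zpowers y))

theorem all_mem_zpowers_or {N : Type*} [Group N] [Finite N] [Group.IsNilpotent N]
    {p : ℕ} (hp : p.Prime) (hp2 : ¬ p ^ 2 ∣ Nat.card N) {x : N} (hx : orderOf x = p) :
    (∀ a : N, a ∈ Subgroup.zpowers x) ∨
      ∃ (b : N) (q : ℕ), q.Prime ∧ q ≠ p ∧ orderOf b = p * q := by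
  by_cases hcard : Nat.card N = p
  · left
    have h1 : Subgroup.zpowers x = ⊤ := by
      apply Subgroup.eq_top_of_card_eq
      rw [Nat.card_zpowers, hx, hcard]
    intro a
    rw [h1]
    exact Subgroup.mem_top a
  · right
    have hpd : p ∣ Nat.card N := hx ▸ orderOf_dvd_natCard x
    obtain ⟨m, hm⟩ := hpd
    have hm1 : m ≠ 1 := by
      rintro rfl
      exact hcard (by rw [hm, mul_one])
    obtain ⟨q, hq, hqm⟩ := Nat.exists_prime_and_dvd hm1
    have hqp : q ≠ p := by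
      rintro rfl
      apply hp2
      rw [hm, pow_two]
      exact Nat.mul_dvd_mul_left _ hqm
    haveI := Fact.mk hq
    haveI : Fintype N := Fintype.ofFinite N
    have hqN : q ∣ Fintype.card N := by
      rw [← Nat.card_eq_fintype_card, hm]
      exact Dvd.dvd.mul_left hqm p
    obtain ⟨y, hy⟩ := exists_prime_orderOf_dvd_card q hqN
    have hc : Commute x y := commute_of_nilpotent hp hq (Ne.symm hqp) hx hy
    refine ⟨x * y, q, hq, hqp, ?_⟩
    rw [hc.orderOf_mul_eq_mul_orderOf_of_coprime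
      (by rw [hx, hy]; exact (Nat.coprime_primes hp hq).mpr (Ne.symm hqp)), hx, hy]

theorem sub_mem_zpowers {Γ : Type*} [Group Γ] [Finite Γ] (A : Subgroup Γ)
    (hA : Group.IsNilpotent ↥A) {p : ℕ} (hp : p.Prime) (hp2 : ¬ p ^ 2 ∣ Nat.card Γ)
    {x y : Γ} (hxA : x ∈ A) (hyA : y ∈ A) (hx : orderOf x = p) (hy : orderOf y = p) :
    y ∈ Subgroup.zpowers x := by
  haveI := hA
  have hp2' : ¬ p ^ 2 ∣ Nat.card A := fun h => hp2 (h.trans A.card_subgroup_dvd_card)
  have h := mem_zpowers_of_nilpotent (N := A) hp hp2' (x := ⟨x, hxA⟩) (y := ⟨y, hyA⟩)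
    (by rw [← hx]; exact Subgroup.orderOf_mk x hxA) (by rw [← hy]; exact Subgroup.orderOf_mk y hyA)
  obtain ⟨k, hk⟩ := Subgroup.mem_zpowers_iff.mp h
  refine Subgroup.mem_zpowers_iff.mpr ⟨k, ?_⟩
  have := congrArg (Subtype.val) hk
  simpa using this

theorem sub_all_mem_zpowers_or {Γ : Type*} [Group Γ] [Finite Γ] (A : Subgroup Γ)
    (hA : Group.IsNilpotent ↥A) {p : ℕ} (hp : p.Prime) (hp2 : ¬ p ^ 2 ∣ Nat.card Γ)
    {x : Γ} (hxA : x ∈ A) (hx : orderOf x = p) :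
    (∀ a ∈ A, a ∈ Subgroup.zpowers x) ∨
      ∃ (b : Γ) (q : ℕ), q.Prime ∧ q ≠ p ∧ orderOf b = p * q := by
  haveI := hA
  have hp2' : ¬ p ^ 2 ∣ Nat.card A := fun h => hp2 (h.trans A.card_subgroup_dvd_card)
  rcases all_mem_zpowers_or (N := A) hp hp2' (x := ⟨x, hxA⟩)
    (by rw [← hx]; exact Subgroup.orderOf_mk x hxA) with h | ⟨b, q, hq, hqp, hb⟩
  · left
    intro a ha
    obtain ⟨k, hk⟩ := Subgroup.mem_zpowers_iff.mp (h ⟨a, ha⟩)
    refine Subgroup.mem_zpowers_iff.mpr ⟨k, ?_⟩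
    have := congrArg (Subtype.val) hk
    simpa using this
  · right
    exact ⟨b, q, hq, hqp, by rw [Subgroup.orderOf_coe]; exact hb⟩

/-! ### Arithmetic -/

theorem not_sq_dvd_factorial {n p : ℕ} (hp : p.Prime) (hpn : p ≤ n) (hn2 : n < 2 * p) :
    ¬ p ^ 2 ∣ n.factorial := by
  have hn0 : n ≠ 0 := by have := hp.pos; omega
  have hlt : n < p ^ 2 := by
    have := hp.two_le
    rw [pow_two]
    nlinarith
  have hlog : Nat.log p n < 2 := Nat.log_lt_of_lt_pow hn0 hlt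
  rw [hp.pow_dvd_factorial_iff hlog]
  have hdiv : n / p = 1 := Nat.div_eq_of_lt_le (by omega) (by omega)
  have hsum : ∑ i ∈ Finset.Ico 1 2, n / p ^ i = 1 := by
    have h12 : Finset.Ico 1 2 = {1} := by decide
    rw [h12, Finset.sum_singleton, pow_one, hdiv]
  rw [hsum]
  omega

theorem not_sq_dvd_card {n : ℕ} {Γ : Type*} [Group Γ] (φ : Γ →* Perm (Fin n))
    (hφ : Function.Injective φ) {p : ℕ} (hp : p.Prime) (hpn : p ≤ n) (hn2 : n < 2 * p) :
    ¬ p ^ 2 ∣ Nat.card Γ := by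
  intro h
  apply not_sq_dvd_factorial hp hpn hn2
  have h2 : Nat.card Γ ∣ Nat.card (Perm (Fin n)) := Subgroup.card_dvd_of_injective φ hφ
  have h3 : Nat.card (Perm (Fin n)) = n.factorial := by
    rw [Nat.card_eq_fintype_card, Fintype.card_perm, Fintype.card_fin]
  rw [← h3]
  exact h.trans h2

theorem exists_good_prime {n : ℕ} (hn : 6 ≤ n) :
    ∃ p, p.Prime ∧ 5 ≤ p ∧ p < n ∧ n < 2 * p := by
  by_cases h8 : n < 8
  · exact ⟨5, by norm_num, le_refl _, by omega, by omega⟩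
  · obtain ⟨p, hp, h1, h2⟩ := Nat.exists_prime_lt_and_le_two_mul (n / 2) (by omega)
    refine ⟨p, hp, by omega, ?_, by omega⟩
    rcases hp.eq_two_or_odd with h | h
    · omega
    · omega

/-! ### Permutations -/

theorem sign_of_odd_order {α : Type*} [Fintype α] [DecidableEq α] (σ : Perm α)
    (h : Odd (orderOf σ)) : Perm.sign σ = 1 := by
  have h1 : (Perm.sign σ) ^ orderOf σ = 1 := by rw [← map_pow, pow_orderOf_eq_one, map_one]
  rcases Int.units_eq_one_or (Perm.sign σ) with h2 | h2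
  · exact h2
  · rw [h2, Odd.neg_one_pow h] at h1
    exact absurd h1 (by decide)

theorem exists_mem_cycleType_dvd {α : Type*} [Fintype α] [DecidableEq α] (σ : Perm α) {q : ℕ}
    (hq : q.Prime) (h : q ∣ orderOf σ) : ∃ b ∈ σ.cycleType, q ∣ b := by
  by_contra hcon
  push Not at hcon
  have hpos : 0 < orderOf σ := orderOf_pos σ
  obtain ⟨m, hm⟩ := h
  have hall : ∀ b ∈ σ.cycleType, b ∣ m := by
    intro b hb
    have h1 : b ∣ q * m := hm ▸ Perm.dvd_of_mem_cycleType hb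
    have hcop : Nat.Coprime b q := ((Nat.Prime.coprime_iff_not_dvd hq).mpr (hcon b hb)).symm
    exact hcop.dvd_of_dvd_mul_left h1
  have h2 : σ.cycleType.lcm ∣ m := Multiset.lcm_dvd.mpr hall
  rw [Perm.lcm_cycleType, hm] at h2
  have hm0 : 0 < m := by
    rcases Nat.eq_zero_or_pos m with h0 | h0
    · rw [h0, mul_zero] at hm; omega
    · exact h0
  have h3 := Nat.le_of_dvd hm0 h2
  have hq2 := hq.two_le
  have h4 : 2 * m ≤ q * m := Nat.mul_le_mul_right m hq2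
  omega

theorem add_le_card_support {α : Type*} [Fintype α] [DecidableEq α] (σ : Perm α) {q r : ℕ}
    (hq : q.Prime) (hr : r.Prime) (hqr : q ≠ r) (h1 : q ∣ orderOf σ) (h2 : r ∣ orderOf σ) :
    q + r ≤ σ.support.card := by
  obtain ⟨b₁, hb₁, hqb⟩ := exists_mem_cycleType_dvd σ hq h1
  obtain ⟨b₂, hb₂, hrb⟩ := exists_mem_cycleType_dvd σ hr h2
  rw [← Perm.sum_cycleType]
  have hb₁pos : 0 < b₁ := by have := Perm.two_le_of_mem_cycleType hb₁; omega
  have hb₂pos : 0 < b₂ := by have := Perm.two_le_of_mem_cycleType hb₂; omega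
  have hq2 := hq.two_le
  have hr2 := hr.two_le
  by_cases hbb : b₁ = b₂
  · subst hbb
    have hcop : Nat.Coprime q r := (Nat.coprime_primes hq hr).mpr hqr
    have hd : q * r ∣ b₁ := hcop.mul_dvd_of_dvd_of_dvd hqb hrb
    have h3 : q * r ≤ b₁ := Nat.le_of_dvd hb₁pos hd
    have h4 : b₁ ≤ σ.cycleType.sum := Multiset.le_sum_of_mem hb₁
    have h5 : q * 2 ≤ q * r := Nat.mul_le_mul_left q hr2
    have h6 : 2 * r ≤ q * r := Nat.mul_le_mul_right r hq2
    omega
  · obtain ⟨t, ht⟩ := Multiset.exists_cons_of_mem hb₁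
    have hb₂t : b₂ ∈ t := by
      rw [ht] at hb₂
      rcases Multiset.mem_cons.mp hb₂ with h | h
      · exact absurd h.symm hbb
      · exact h
    have h4 : b₂ ≤ t.sum := Multiset.le_sum_of_mem hb₂t
    rw [ht, Multiset.sum_cons]
    have h5 := Nat.le_of_dvd hb₁pos hqb
    have h6 := Nat.le_of_dvd hb₂pos hrb
    omega

theorem sign_of_orderOf_six (σ : Perm (Fin 5)) (h : orderOf σ = 6) : Perm.sign σ = -1 := by
  obtain ⟨b₁, hb₁, h2b⟩ := exists_mem_cycleType_dvd σ Nat.prime_two (by rw [h]; norm_num)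
  obtain ⟨b₂, hb₂, h3b⟩ := exists_mem_cycleType_dvd σ Nat.prime_three (by rw [h]; norm_num)
  have hsum : σ.cycleType.sum ≤ 5 := by
    have := Perm.sum_cycleType_le σ
    simpa using this
  have hb₁2 := Perm.two_le_of_mem_cycleType hb₁
  have hb₂2 := Perm.two_le_of_mem_cycleType hb₂
  have hb₂3 : 3 ≤ b₂ := Nat.le_of_dvd (by omega) h3b
  have hne : b₁ ≠ b₂ := by
    rintro rfl
    have h6 : 2 * 3 ∣ b₁ := by
      have hc : Nat.Coprime 2 3 := by norm_num
      exact hc.mul_dvd_of_dvd_of_dvd h2b h3b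
    have h7 := Nat.le_of_dvd (by omega) h6
    have h8 := Multiset.le_sum_of_mem hb₁
    omega
  obtain ⟨t, ht⟩ := Multiset.exists_cons_of_mem hb₁
  have hb₂t : b₂ ∈ t := by
    rw [ht] at hb₂
    rcases Multiset.mem_cons.mp hb₂ with h' | h'
    · exact absurd h'.symm hne
    · exact h'
  obtain ⟨u, hu⟩ := Multiset.exists_cons_of_mem hb₂t
  have hs : σ.cycleType.sum = b₁ + (b₂ + u.sum) := by
    rw [ht, hu, Multiset.sum_cons, Multiset.sum_cons]
  have hu0 : u = 0 := by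
    apply Multiset.eq_zero_of_forall_notMem
    intro c hc
    have hc' : c ∈ σ.cycleType := by
      rw [ht, hu]
      exact Multiset.mem_cons_of_mem (Multiset.mem_cons_of_mem hc)
    have h9 := Perm.two_le_of_mem_cycleType hc'
    have h10 := Multiset.le_sum_of_mem hc
    omega
  have hcard : Multiset.card σ.cycleType = 2 := by
    rw [ht, hu, hu0]
    simp
  have hsum5 : σ.cycleType.sum = b₁ + b₂ := by
    rw [hs, hu0]
    simp
  rw [Perm.sign_of_cycleType, hcard, hsum5]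
  have hb1 : b₁ = 2 := by omega
  have hb2 : b₂ = 3 := by omega
  rw [hb1, hb2]
  exact Odd.neg_one_pow (by decide)

theorem exists_cycle_support {n : ℕ} (Δ : Finset (Fin n)) (h2 : 2 ≤ Δ.card) :
    ∃ c : Perm (Fin n), c.IsCycle ∧ c.support = Δ := by
  refine ⟨Δ.toList.formPerm, ?_, ?_⟩
  · exact List.isCycle_formPerm (Finset.nodup_toList Δ) (by rw [Finset.length_toList]; exact h2)
  · rw [List.support_formPerm_of_nodup _ (Finset.nodup_toList Δ), Finset.toList_toFinset]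
    intro x hx
    have := congrArg List.length hx
    rw [Finset.length_toList] at this
    simp at this
    omega

theorem conj_swap_not_mem_zpowers {n : ℕ} (x : Perm (Fin n)) (hx : x.IsCycle)
    (h5 : 5 ≤ x.support.card) (a : Fin n) (ha : a ∈ x.support) :
    swap a (x a) * x * (swap a (x a))⁻¹ ∉ Subgroup.zpowers x := by
  intro hmem
  obtain ⟨k, hk⟩ := Subgroup.mem_zpowers_iff.mp hmem
  have hxa : x a ≠ a := Perm.mem_support.mp ha
  have hord : orderOf x = x.support.card := hx.orderOf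
  have h2 : x (x a) ≠ a := by
    intro h
    have h' : (x ^ 2) a = a := by rw [pow_two, Perm.mul_apply]; exact h
    have h'' : x ^ 2 = 1 := (hx.pow_eq_one_iff' hxa).mpr h'
    have h3 := Nat.le_of_dvd (by norm_num) (orderOf_dvd_of_pow_eq_one h'')
    omega
  have h1 : x (x a) ≠ x a := fun h => hxa (x.injective h)
  have hy1 : (swap a (x a) * x * (swap a (x a))⁻¹) (x a) = a := by
    rw [swap_inv, Perm.mul_apply, swap_apply_right, Perm.mul_apply, swap_apply_right]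
  have hy2 : (swap a (x a) * x * (swap a (x a))⁻¹) a = x (x a) := by
    rw [swap_inv, Perm.mul_apply, swap_apply_left, Perm.mul_apply, swap_apply_of_ne_of_ne h2 h1]
  have hcomm : (x ^ k) (x a) = x ((x ^ k) a) := by
    have h := DFunLike.congr_fun ((Commute.refl x).zpow_left k).eq a
    rw [Perm.mul_apply, Perm.mul_apply] at h
    exact h
  rw [hk, hy1, hy2] at hcomm
  have h3 : (x ^ 3) a = a := by
    rw [pow_succ, pow_two, Perm.mul_apply, Perm.mul_apply]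
    exact hcomm.symm
  have h4 : x ^ 3 = 1 := (hx.pow_eq_one_iff' hxa).mpr h3
  have h5' := Nat.le_of_dvd (by norm_num) (orderOf_dvd_of_pow_eq_one h4)
  omega

/-- the set-wise stabiliser -/
def stab {n : ℕ} (Δ : Finset (Fin n)) : Subgroup (Perm (Fin n)) where
  carrier := {σ | ∀ i, σ i ∈ Δ ↔ i ∈ Δ}
  one_mem' := by
    show ∀ i, (1 : Perm (Fin n)) i ∈ Δ ↔ i ∈ Δ
    intro i
    simp
  mul_mem' := by
    intro σ τ hσ hτ
    have h1 : ∀ i, σ i ∈ Δ ↔ i ∈ Δ := hσ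
    have h2 : ∀ i, τ i ∈ Δ ↔ i ∈ Δ := hτ
    show ∀ i, (σ * τ) i ∈ Δ ↔ i ∈ Δ
    intro i
    rw [Perm.mul_apply, h1, h2]
  inv_mem' := by
    intro σ hσ
    have h1 : ∀ i, σ i ∈ Δ ↔ i ∈ Δ := hσ
    show ∀ i, σ⁻¹ i ∈ Δ ↔ i ∈ Δ
    intro i
    have := h1 (σ⁻¹ i)
    rw [← Perm.mul_apply, mul_inv_cancel, Perm.one_apply] at this
    exact this.symm

theorem mem_stab {n : ℕ} {Δ : Finset (Fin n)} {σ : Perm (Fin n)} :
    σ ∈ stab Δ ↔ ∀ i, σ i ∈ Δ ↔ i ∈ Δ := Iff.rfl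

theorem comap_stab_ne_top {n : ℕ} {Γ : Type*} [Group Γ] (φ : Γ →* Perm (Fin n))
    (heven : ∀ σ : Perm (Fin n), Perm.sign σ = 1 → ∃ γ, φ γ = σ) (hn : 3 ≤ n)
    (Δ : Finset (Fin n)) (h0 : 0 < Δ.card) (h1 : Δ.card < n) : (stab Δ).comap φ ≠ ⊤ := by
  classical
  obtain ⟨w, hw⟩ : Δ.Nonempty := Finset.card_pos.mp h0
  obtain ⟨v, hv⟩ : ∃ v, v ∉ Δ := by
    by_contra hcon
    push Not at hcon
    have : Δ = Finset.univ := Finset.eq_univ_iff_forall.mpr hcon
    rw [this, Finset.card_univ, Fintype.card_fin] at h1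
    omega
  obtain ⟨u, hu⟩ : ∃ u, u ∉ ({v, w} : Finset (Fin n)) := by
    by_contra hcon
    push Not at hcon
    have h2 : ({v, w} : Finset (Fin n)) = Finset.univ := Finset.eq_univ_iff_forall.mpr hcon
    have h3 : ({v, w} : Finset (Fin n)).card ≤ 2 := Finset.card_le_two
    rw [h2, Finset.card_univ, Fintype.card_fin] at h3
    omega
  have huv : u ≠ v := fun h => hu (by simp [h])
  have huw : u ≠ w := fun h => hu (by simp [h])
  have hsg : Perm.sign (swap v u * swap u w) = 1 := by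
    rw [map_mul, Perm.sign_swap (Ne.symm huv), Perm.sign_swap huw]
    decide
  obtain ⟨γ, hγ⟩ := heven _ hsg
  intro htop
  have h2 : γ ∈ (stab Δ).comap φ := by rw [htop]; exact Subgroup.mem_top γ
  rw [Subgroup.mem_comap, hγ, mem_stab] at h2
  have h3 := (h2 w).mpr hw
  have h4 : (swap v u * swap u w) w = v := by
    rw [Perm.mul_apply, swap_apply_right, swap_apply_right]
  rw [h4] at h3
  exact hv h3

/-- lifts of `p`-cycles -/
def IsPc {n : ℕ} {Γ : Type*} [Group Γ] (φ : Γ →* Perm (Fin n)) (p : ℕ) (γ : Γ) : Prop :=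
  (φ γ).IsCycle ∧ (φ γ).support.card = p

theorem IsPc.orderOf_eq {n : ℕ} {Γ : Type*} [Group Γ] {φ : Γ →* Perm (Fin n)}
    (hφ : Function.Injective φ) {p : ℕ} {γ : Γ} (h : IsPc φ p γ) : orderOf γ = p := by
  rw [← orderOf_injective φ hφ γ, h.1.orderOf, h.2]

theorem le_comap_stab {n : ℕ} {Γ : Type*} [Group Γ] [Finite Γ] (φ : Γ →* Perm (Fin n))
    (hφ : Function.Injective φ) {p : ℕ} (hp : p.Prime) (hp2 : ¬ p ^ 2 ∣ Nat.card Γ)
    (A : Subgroup Γ) (hA : Group.IsNilpotent ↥A) (γ : Γ) (hγA : γ ∈ A) (hγ : IsPc φ p γ) :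
    A ≤ (stab (φ γ).support).comap φ := by
  intro a ha
  rw [Subgroup.mem_comap, mem_stab]
  have h1 : a * γ * a⁻¹ ∈ A := A.mul_mem (A.mul_mem ha hγA) (A.inv_mem ha)
  have hord : orderOf γ = p := hγ.orderOf_eq hφ
  have h2 : orderOf (a * γ * a⁻¹) = p := by
    rw [← hord]
    exact (SemiconjBy.orderOf_eq a (SemiconjBy.conj_mk a γ)).symm
  have h3 := sub_mem_zpowers A hA hp hp2 hγA h1 hord h2
  obtain ⟨k, hk⟩ := Subgroup.mem_zpowers_iff.mp h3
  have h4 : φ a * φ γ * (φ a)⁻¹ = (φ γ) ^ k := by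
    rw [← map_zpow, hk, map_mul, map_mul, map_inv]
  have h5 : (φ γ).support.map (φ a).toEmbedding ⊆ (φ γ).support := by
    rw [← Perm.support_conj, h4]
    exact Perm.support_zpow_le _ k
  have h6 : (φ γ).support.map (φ a).toEmbedding = (φ γ).support :=
    Finset.eq_of_subset_of_card_le h5 (by rw [Finset.card_map])
  intro i
  have h7 : (φ a).toEmbedding i ∈ (φ γ).support.map (φ a).toEmbedding ↔ i ∈ (φ γ).support :=
    Finset.mem_map' _
  rw [h6] at h7
  exact h7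

theorem key_unique {n : ℕ} {Γ : Type*} [Group Γ] [Finite Γ] (φ : Γ →* Perm (Fin n))
    (hφ : Function.Injective φ) {p : ℕ} (hp : p.Prime) (hp2 : ¬ p ^ 2 ∣ Nat.card Γ)
    (A : Subgroup Γ) (hA : Group.IsNilpotent ↥A) {γ γ' : Γ} (hγA : γ ∈ A) (hγ'A : γ' ∈ A)
    (hγ : IsPc φ p γ) (hγ' : IsPc φ p γ') :
    (φ γ').support = (φ γ).support ∧ φ γ' ∈ Subgroup.zpowers (φ γ) := by
  have h3 := sub_mem_zpowers A hA hp hp2 hγA hγ'A (hγ.orderOf_eq hφ) (hγ'.orderOf_eq hφ)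
  obtain ⟨k, hk⟩ := Subgroup.mem_zpowers_iff.mp h3
  have h4 : φ γ' = (φ γ) ^ k := by rw [← map_zpow, hk]
  refine ⟨?_, Subgroup.mem_zpowers_iff.mpr ⟨k, h4.symm⟩⟩
  apply Finset.eq_of_subset_of_card_le
  · rw [h4]
    exact Perm.support_zpow_le _ k
  · rw [hγ.2, hγ'.2]

end Cfsg.Agent.helper18.NilCover
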