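import Mathlib
import Cfsg.Agent.Lib_helper18_NilCover

set_option autoImplicit false

namespace Cfsg.Agent.helper18.NilCover

open Equiv

theorem no_cover_general {n : ℕ} {Γ : Type*} [Group Γ] (φ : Γ →* Perm (Fin n))
    (hφ : Function.Injective φ)
    (heven : ∀ σ : Perm (Fin n), Perm.sign σ = 1 → ∃ γ, φ γ = σ)
    {p : ℕ} (hp : p.Prime) (h5 : 5 ≤ p) (hpn : p < n) (hn2 : n < 2 * p)
    (𝓐 : Finset (Subgroup Γ))
    (hprop : ∀ A ∈ 𝓐, A ≠ ⊤) (hcov : ∀ g : Γ, ∃ A ∈ 𝓐, g ∈ A)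
    (hmin : ∀ 𝓑 : Finset (Subgroup Γ),
      (∀ A ∈ 𝓑, A ≠ ⊤) ∧ (∀ g : Γ, ∃ A ∈ 𝓑, g ∈ A) → 𝓐.card ≤ 𝓑.card)
    (hnil : ∀ A ∈ 𝓐, Group.IsNilpotent ↥A) : False := by
  classical
  haveI : Finite Γ := Finite.of_injective φ hφ
  have hp2 : ¬ p ^ 2 ∣ Nat.card Γ := not_sq_dvd_card φ hφ hp hpn.le hn2
  have hodd : Odd p := hp.odd_of_ne_two (by omega)
  have hsign : ∀ c : Perm (Fin n), c.IsCycle → c.support.card = p → Perm.sign c = 1 := by
    intro c hc hcard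
    rw [hc.sign, hcard, Odd.neg_one_pow hodd, neg_neg]
  -- the index set
  obtain ⟨I, hIdef⟩ : ∃ I, I = (Finset.univ : Finset (Fin n)).powersetCard p := ⟨_, rfl⟩
  have hI : ∀ Δ, Δ ∈ I ↔ Δ.card = p := by
    intro Δ
    rw [hIdef, Finset.mem_powersetCard]
    exact ⟨fun h => h.2, fun h => ⟨Finset.subset_univ _, h⟩⟩
  have hIne : I.Nonempty := by
    rw [hIdef, Finset.powersetCard_nonempty, Finset.card_univ, Fintype.card_fin]
    exact hpn.le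
  -- cycles, lifts, members
  have hcyc : ∀ Δ : Finset (Fin n), ∃ c : Perm (Fin n),
      Δ.card = p → c.IsCycle ∧ c.support = Δ := by
    intro Δ
    by_cases h : Δ.card = p
    · obtain ⟨c, hc⟩ := exists_cycle_support Δ (by omega)
      exact ⟨c, fun _ => hc⟩
    · exact ⟨1, fun h' => absurd h' h⟩
  choose c hc using hcyc
  have hlift' : ∀ σ : Perm (Fin n), ∃ γ : Γ, Perm.sign σ = 1 → φ γ = σ := by
    intro σ
    by_cases h : Perm.sign σ = 1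
    · obtain ⟨γ, hγ⟩ := heven σ h
      exact ⟨γ, fun _ => hγ⟩
    · exact ⟨1, fun h' => absurd h' h⟩
  choose lift hlift using hlift'
  have hcov' := hcov
  choose mem hmem𝓐 hmem using hcov'
  have hPc : ∀ σ : Perm (Fin n), σ.IsCycle → σ.support.card = p → IsPc φ p (lift σ) := by
    intro σ h1 h2
    have h3 := hlift σ (hsign σ h1 h2)
    exact ⟨by rw [h3]; exact h1, by rw [h3]; exact h2⟩
  -- R and 𝓒
  obtain ⟨R, hRdef⟩ : ∃ R, R = 𝓐.filter (fun A => ∃ γ ∈ A, IsPc φ p γ) := ⟨_, rfl⟩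
  obtain ⟨𝓒, h𝓒def⟩ : ∃ 𝓒, 𝓒 = I.image (fun Δ => (stab Δ).comap φ) := ⟨_, rfl⟩
  have hR𝓒 : R.card ≤ 𝓒.card := by
    apply replace_le 𝓐 hcov hprop hmin R 𝓒
    · rw [hRdef]
      exact Finset.filter_subset _ _
    · intro C hC
      rw [h𝓒def, Finset.mem_image] at hC
      obtain ⟨Δ, hΔ, rfl⟩ := hC
      have hΔc := (hI Δ).mp hΔ
      exact comap_stab_ne_top φ heven (by omega) Δ (by omega) (by omega)
    · intro A hA
      rw [hRdef, Finset.mem_filter] at hA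
      obtain ⟨hA𝓐, γ, hγA, hγ⟩ := hA
      refine ⟨(stab (φ γ).support).comap φ, ?_,
        le_comap_stab φ hφ hp hp2 A (hnil A hA𝓐) γ hγA hγ⟩
      rw [h𝓒def, Finset.mem_image]
      exact ⟨(φ γ).support, (hI _).mpr hγ.2, rfl⟩
  have h𝓒I : 𝓒.card ≤ I.card := by
    rw [h𝓒def]
    exact Finset.card_image_le
  -- the extra cycle
  obtain ⟨Δ₀, hΔ₀⟩ := hIne
  have hΔ₀c := (hI Δ₀).mp hΔ₀
  obtain ⟨hx₀cyc, hx₀supp⟩ := hc Δ₀ hΔ₀c
  obtain ⟨a₀, ha₀⟩ : Δ₀.Nonempty := Finset.card_pos.mp (by omega)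
  have ha₀' : a₀ ∈ (c Δ₀).support := by rw [hx₀supp]; exact ha₀
  have hb₀ : c Δ₀ a₀ ∈ Δ₀ := by
    have hb : c Δ₀ a₀ ∈ (c Δ₀).support := Perm.apply_mem_support.mpr ha₀'
    rw [hx₀supp] at hb
    exact hb
  obtain ⟨y₀, hy₀def⟩ :
      ∃ y₀, y₀ = swap a₀ (c Δ₀ a₀) * c Δ₀ * (swap a₀ (c Δ₀ a₀))⁻¹ := ⟨_, rfl⟩
  have hy₀cyc : y₀.IsCycle := by
    rw [hy₀def]
    exact hx₀cyc.conj
  have hy₀suppeq : y₀.support = Δ₀ := by
    rw [hy₀def, Perm.support_conj, hx₀supp]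
    ext i
    rw [Finset.mem_map_equiv, Equiv.symm_swap]
    by_cases h1 : i = a₀
    · rw [h1, swap_apply_left]
      exact ⟨fun _ => ha₀, fun _ => hb₀⟩
    · by_cases h2 : i = c Δ₀ a₀
      · rw [h2, swap_apply_right]
        exact ⟨fun _ => hb₀, fun _ => ha₀⟩
      · rw [swap_apply_of_ne_of_ne h1 h2]
  have hy₀supp : y₀.support.card = p := by rw [hy₀suppeq, hΔ₀c]
  have hy₀not : y₀ ∉ Subgroup.zpowers (c Δ₀) := by
    rw [hy₀def]
    exact conj_swap_not_mem_zpowers (c Δ₀) hx₀cyc (by rw [hx₀supp, hΔ₀c]; exact h5) a₀ ha₀'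
  -- the injection
  obtain ⟨F, hFnone, hFsome⟩ : ∃ F : Option (Finset (Fin n)) → Subgroup Γ,
      F none = mem (lift y₀) ∧ ∀ Δ, F (some Δ) = mem (lift (c Δ)) :=
    ⟨fun o => o.elim (mem (lift y₀)) (fun Δ => mem (lift (c Δ))), rfl, fun _ => rfl⟩
  have hsome : ∀ Δ ∈ I, IsPc φ p (lift (c Δ)) ∧ φ (lift (c Δ)) = c Δ ∧ (c Δ).support = Δ := by
    intro Δ hΔ
    obtain ⟨h1, h2⟩ := hc Δ ((hI Δ).mp hΔ)
    have h3 : (c Δ).support.card = p := by rw [h2]; exact (hI Δ).mp hΔ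
    exact ⟨hPc _ h1 h3, hlift _ (hsign _ h1 h3), h2⟩
  have hy₀P : IsPc φ p (lift y₀) := hPc y₀ hy₀cyc hy₀supp
  have hy₀φ : φ (lift y₀) = y₀ := hlift _ (hsign _ hy₀cyc hy₀supp)
  have hFR : ∀ o ∈ Finset.insertNone I, F o ∈ R := by
    intro o ho
    rw [hRdef, Finset.mem_filter]
    cases o with
    | none =>
      rw [hFnone]
      exact ⟨hmem𝓐 _, lift y₀, hmem _, hy₀P⟩
    | some Δ =>
      have hΔ : Δ ∈ I := Finset.some_mem_insertNone.mp ho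
      rw [hFsome]
      exact ⟨hmem𝓐 _, lift (c Δ), hmem _, (hsome Δ hΔ).1⟩
  have hmixed : ∀ Δ ∈ I, mem (lift (c Δ)) ≠ mem (lift y₀) := by
    intro Δ hΔ heq
    obtain ⟨hP, hφc, hsupp⟩ := hsome Δ hΔ
    have hy_in : lift y₀ ∈ mem (lift (c Δ)) := by rw [heq]; exact hmem _
    obtain ⟨hs, hz⟩ := key_unique φ hφ hp hp2 _ (hnil _ (hmem𝓐 (lift (c Δ))))
      (hmem (lift (c Δ))) hy_in hP hy₀P
    rw [hy₀φ, hφc] at hs hz
    have hΔeq : Δ = Δ₀ := by rw [← hsupp, ← hs, hy₀suppeq]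
    rw [hΔeq] at hz
    exact hy₀not hz
  have hFinj : Set.InjOn F (Finset.insertNone I : Finset (Option (Finset (Fin n)))) := by
    intro o₁ ho₁ o₂ ho₂ h
    rw [Finset.mem_coe] at ho₁ ho₂
    cases o₁ with
    | none =>
      cases o₂ with
      | none => rfl
      | some Δ =>
        exfalso
        have hΔ : Δ ∈ I := Finset.some_mem_insertNone.mp ho₂
        rw [hFnone, hFsome] at h
        exact hmixed Δ hΔ h.symm
    | some Δ =>
      have hΔ : Δ ∈ I := Finset.some_mem_insertNone.mp ho₁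
      cases o₂ with
      | none =>
        exfalso
        rw [hFnone, hFsome] at h
        exact hmixed Δ hΔ h
      | some Δ' =>
        have hΔ' : Δ' ∈ I := Finset.some_mem_insertNone.mp ho₂
        rw [hFsome, hFsome] at h
        obtain ⟨hP, hφc, hsupp⟩ := hsome Δ hΔ
        obtain ⟨hP', hφc', hsupp'⟩ := hsome Δ' hΔ'
        have hin : lift (c Δ') ∈ mem (lift (c Δ)) := by rw [h]; exact hmem _
        obtain ⟨hs, -⟩ := key_unique φ hφ hp hp2 _ (hnil _ (hmem𝓐 (lift (c Δ))))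
          (hmem (lift (c Δ))) hin hP hP'
        rw [hφc, hφc', hsupp, hsupp'] at hs
        rw [hs]
  have hcard : (Finset.insertNone I).card ≤ R.card :=
    Finset.card_le_card_of_injOn F
      (fun o ho => Finset.mem_coe.mpr (hFR o (Finset.mem_coe.mp ho))) hFinj
  rw [Finset.card_insertNone] at hcard
  omega

theorem no_cover_small {n : ℕ} {Γ : Type*} [Group Γ] (φ : Γ →* Perm (Fin n))
    (hφ : Function.Injective φ) {p : ℕ} (hp : p.Prime) (hpn : p ≤ n) (hn2 : n < 2 * p)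
    (hno : ∀ (b : Γ) (q : ℕ), q.Prime → q ≠ p → orderOf b ≠ p * q)
    (Q : Γ → Prop) (C : Subgroup Γ) (hC : C ≠ ⊤)
    (habs : ∀ γ : Γ, orderOf γ = p → Q γ → γ ∈ C)
    (g₁ g₂ : Γ) (hg₁ : orderOf g₁ = p) (hg₂ : orderOf g₂ = p) (hQ₁ : Q g₁) (hQ₂ : Q g₂)
    (hgc : g₁ * g₂ ≠ g₂ * g₁)
    (𝓐 : Finset (Subgroup Γ))
    (hprop : ∀ A ∈ 𝓐, A ≠ ⊤) (hcov : ∀ g : Γ, ∃ A ∈ 𝓐, g ∈ A)
    (hmin : ∀ 𝓑 : Finset (Subgroup Γ),
      (∀ A ∈ 𝓑, A ≠ ⊤) ∧ (∀ g : Γ, ∃ A ∈ 𝓑, g ∈ A) → 𝓐.card ≤ 𝓑.card)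
    (hnil : ∀ A ∈ 𝓐, Group.IsNilpotent ↥A) : False := by
  classical
  haveI : Finite Γ := Finite.of_injective φ hφ
  have hp2 : ¬ p ^ 2 ∣ Nat.card Γ := not_sq_dvd_card φ hφ hp hpn hn2
  have hstruct : ∀ A ∈ 𝓐, ∀ γ ∈ A, orderOf γ = p → ∀ a ∈ A, a ∈ Subgroup.zpowers γ := by
    intro A hA γ hγA hγ
    rcases sub_all_mem_zpowers_or A (hnil A hA) hp hp2 hγA hγ with h | ⟨b, q, hq, hqp, hb⟩
    · exact h
    · exact absurd hb (hno b q hq hqp)
  obtain ⟨R, hRdef⟩ : ∃ R, R = 𝓐.filter (fun A => ∃ γ ∈ A, orderOf γ = p ∧ Q γ) := ⟨_, rfl⟩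
  have hR𝓒 : R.card ≤ ({C} : Finset (Subgroup Γ)).card := by
    apply replace_le 𝓐 hcov hprop hmin R {C}
    · rw [hRdef]
      exact Finset.filter_subset _ _
    · intro C' hC'
      rw [Finset.mem_singleton] at hC'
      rw [hC']
      exact hC
    · intro A hA
      rw [hRdef, Finset.mem_filter] at hA
      obtain ⟨hA𝓐, γ, hγA, hγ, hQγ⟩ := hA
      refine ⟨C, Finset.mem_singleton_self _, fun a ha => ?_⟩
      have h1 := hstruct A hA𝓐 γ hγA hγ a ha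
      exact (Subgroup.zpowers_le.mpr (habs γ hγ hQγ)) h1
  rw [Finset.card_singleton] at hR𝓒
  obtain ⟨A₁, hA₁, hg₁A⟩ := hcov g₁
  obtain ⟨A₂, hA₂, hg₂A⟩ := hcov g₂
  have hA₁R : A₁ ∈ R := by
    rw [hRdef, Finset.mem_filter]
    exact ⟨hA₁, g₁, hg₁A, hg₁, hQ₁⟩
  have hA₂R : A₂ ∈ R := by
    rw [hRdef, Finset.mem_filter]
    exact ⟨hA₂, g₂, hg₂A, hg₂, hQ₂⟩
  have hne : A₁ ≠ A₂ := by
    intro h
    apply hgc
    have h1 : g₂ ∈ A₁ := by rw [h]; exact hg₂A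
    have h2 := hstruct A₁ hA₁ g₁ hg₁A hg₁ g₂ h1
    obtain ⟨m, hm⟩ := Subgroup.mem_zpowers_iff.mp h2
    rw [← hm]
    exact ((Commute.refl g₁).zpow_right m).eq
  have h1R : 1 < R.card := Finset.one_lt_card.mpr ⟨A₁, hA₁R, A₂, hA₂R, hne⟩
  omega

/-! ### The small cases -/

theorem sym4_case (𝓐 : Finset (Subgroup (Perm (Fin 4))))
    (hprop : ∀ A ∈ 𝓐, A ≠ ⊤) (hcov : ∀ g : Perm (Fin 4), ∃ A ∈ 𝓐, g ∈ A)
    (hmin : ∀ 𝓑 : Finset (Subgroup (Perm (Fin 4))),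
      (∀ A ∈ 𝓑, A ≠ ⊤) ∧ (∀ g : Perm (Fin 4), ∃ A ∈ 𝓑, g ∈ A) → 𝓐.card ≤ 𝓑.card)
    (hnil : ∀ A ∈ 𝓐, Group.IsNilpotent ↥A) : False := by
  classical
  refine no_cover_small (MonoidHom.id (Perm (Fin 4))) Function.injective_id (p := 3)
    Nat.prime_three (by norm_num) (by norm_num) ?_ (fun _ => True)
    (alternatingGroup (Fin 4)) ?_ ?_ (swap 0 1 * swap 1 2) (swap 0 1 * swap 1 3)
    ?_ ?_ trivial trivial ?_ 𝓐 hprop hcov hmin hnil
  · intro b q hq hq3 hb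
    have h := add_le_card_support b Nat.prime_three hq (Ne.symm hq3)
      (by rw [hb]; exact dvd_mul_right _ _) (by rw [hb]; exact dvd_mul_left _ _)
    have h2 : b.support.card ≤ 4 := by simpa using Finset.card_le_univ b.support
    have hq2 := hq.two_le
    omega
  · intro htop
    have h1 : swap (0 : Fin 4) 1 ∈ alternatingGroup (Fin 4) := by
      rw [htop]
      exact Subgroup.mem_top _
    rw [Equiv.Perm.mem_alternatingGroup, Perm.sign_swap (by decide)] at h1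
    exact absurd h1 (by decide)
  · intro γ hγ _
    rw [Equiv.Perm.mem_alternatingGroup]
    exact sign_of_odd_order γ (by rw [hγ]; decide)
  · exact orderOf_eq_prime (by decide) (by decide)
  · exact orderOf_eq_prime (by decide) (by decide)
  · intro h
    have h' := DFunLike.congr_fun h (0 : Fin 4)
    revert h'
    decide

theorem sym5_case (𝓐 : Finset (Subgroup (Perm (Fin 5))))
    (hprop : ∀ A ∈ 𝓐, A ≠ ⊤) (hcov : ∀ g : Perm (Fin 5), ∃ A ∈ 𝓐, g ∈ A)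
    (hmin : ∀ 𝓑 : Finset (Subgroup (Perm (Fin 5))),
      (∀ A ∈ 𝓑, A ≠ ⊤) ∧ (∀ g : Perm (Fin 5), ∃ A ∈ 𝓑, g ∈ A) → 𝓐.card ≤ 𝓑.card)
    (hnil : ∀ A ∈ 𝓐, Group.IsNilpotent ↥A) : False := by
  classical
  haveI : Fact (Nat.Prime 5) := ⟨by norm_num⟩
  refine no_cover_small (MonoidHom.id (Perm (Fin 5))) Function.injective_id (p := 5)
    (by norm_num) (by norm_num) (by norm_num) ?_ (fun _ => True)
    (alternatingGroup (Fin 5)) ?_ ?_ (swap 0 1 * swap 1 2 * swap 2 3 * swap 3 4)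
    (swap 0 1 * swap 1 2 * swap 2 4 * swap 4 3)
    ?_ ?_ trivial trivial ?_ 𝓐 hprop hcov hmin hnil
  · intro b q hq hq5 hb
    have h := add_le_card_support b (by norm_num : Nat.Prime 5) hq (Ne.symm hq5)
      (by rw [hb]; exact dvd_mul_right _ _) (by rw [hb]; exact dvd_mul_left _ _)
    have h2 : b.support.card ≤ 5 := by simpa using Finset.card_le_univ b.support
    have hq2 := hq.two_le
    omega
  · intro htop
    have h1 : swap (0 : Fin 5) 1 ∈ alternatingGroup (Fin 5) := by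
      rw [htop]
      exact Subgroup.mem_top _
    rw [Equiv.Perm.mem_alternatingGroup, Perm.sign_swap (by decide)] at h1
    exact absurd h1 (by decide)
  · intro γ hγ _
    rw [Equiv.Perm.mem_alternatingGroup]
    exact sign_of_odd_order γ (by rw [hγ]; decide)
  · exact orderOf_eq_prime (by decide) (by decide)
  · exact orderOf_eq_prime (by decide) (by decide)
  · intro h
    have h' := DFunLike.congr_fun h (1 : Fin 5)
    revert h'
    decide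

theorem sign_swap_mul_swap {α : Type*} [Fintype α] [DecidableEq α] {a b c d : α}
    (h1 : a ≠ b) (h2 : c ≠ d) : Perm.sign (swap a b * swap c d) = 1 := by
  rw [map_mul, Perm.sign_swap h1, Perm.sign_swap h2]
  decide

theorem alt5_s1 : Perm.sign (swap (0 : Fin 5) 1 * swap 1 2) = 1 :=
  sign_swap_mul_swap (by decide) (by decide)

theorem alt5_s2 : Perm.sign (swap (0 : Fin 5) 1 * swap 1 3) = 1 :=
  sign_swap_mul_swap (by decide) (by decide)

theorem alt5_case (𝓐 : Finset (Subgroup ↥(alternatingGroup (Fin 5))))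
    (hprop : ∀ A ∈ 𝓐, A ≠ ⊤) (hcov : ∀ g : ↥(alternatingGroup (Fin 5)), ∃ A ∈ 𝓐, g ∈ A)
    (hmin : ∀ 𝓑 : Finset (Subgroup ↥(alternatingGroup (Fin 5))),
      (∀ A ∈ 𝓑, A ≠ ⊤) ∧ (∀ g : ↥(alternatingGroup (Fin 5)), ∃ A ∈ 𝓑, g ∈ A) →
        𝓐.card ≤ 𝓑.card)
    (hnil : ∀ A ∈ 𝓐, Group.IsNilpotent ↥A) : False := by
  classical
  have hφ : Function.Injective (alternatingGroup (Fin 5)).subtype :=
    Subgroup.subtype_injective _
  have heven : ∀ σ : Perm (Fin 5), Perm.sign σ = 1 →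
      ∃ γ, (alternatingGroup (Fin 5)).subtype γ = σ :=
    fun σ h => ⟨⟨σ, Equiv.Perm.mem_alternatingGroup.mpr h⟩, rfl⟩
  refine no_cover_small (alternatingGroup (Fin 5)).subtype hφ (p := 3)
    Nat.prime_three (by norm_num) (by norm_num) ?_
    (fun γ => (γ : Perm (Fin 5)) 4 = 4)
    ((stab ({4} : Finset (Fin 5))).comap (alternatingGroup (Fin 5)).subtype) ?_ ?_
    ⟨swap 0 1 * swap 1 2, Equiv.Perm.mem_alternatingGroup.mpr alt5_s1⟩
    ⟨swap 0 1 * swap 1 3, Equiv.Perm.mem_alternatingGroup.mpr alt5_s2⟩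
    ?_ ?_ ?_ ?_ ?_ 𝓐 hprop hcov hmin hnil
  · intro b q hq hq3 hb
    have hb' : orderOf (b : Perm (Fin 5)) = 3 * q := by
      rw [Subgroup.orderOf_coe]
      exact hb
    have h := add_le_card_support (b : Perm (Fin 5)) Nat.prime_three hq (Ne.symm hq3)
      (by rw [hb']; exact dvd_mul_right _ _) (by rw [hb']; exact dvd_mul_left _ _)
    have h2 : (b : Perm (Fin 5)).support.card ≤ 5 := by
      simpa using Finset.card_le_univ (b : Perm (Fin 5)).support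
    have hq2 := hq.two_le
    have hq' : q = 2 := by omega
    rw [hq'] at hb'
    have h6 := sign_of_orderOf_six (b : Perm (Fin 5)) (by rw [hb'])
    have h1 : Perm.sign (b : Perm (Fin 5)) = 1 := Equiv.Perm.mem_alternatingGroup.mp b.2
    rw [h1] at h6
    exact absurd h6 (by decide)
  · exact comap_stab_ne_top _ heven (by norm_num) {4} (by simp) (by simp)
  · intro γ _ hQ
    rw [Subgroup.mem_comap, mem_stab]
    intro j
    rw [Finset.mem_singleton, Finset.mem_singleton]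
    show (γ : Perm (Fin 5)) j = 4 ↔ j = 4
    constructor
    · intro h
      apply (γ : Perm (Fin 5)).injective
      rw [h]
      exact hQ.symm
    · intro h
      rw [h]
      exact hQ
  · rw [Subgroup.orderOf_mk]
    exact orderOf_eq_prime (by decide) (by decide)
  · rw [Subgroup.orderOf_mk]
    exact orderOf_eq_prime (by decide) (by decide)
  · show (swap (0 : Fin 5) 1 * swap 1 2 : Perm (Fin 5)) 4 = 4
    decide
  · show (swap (0 : Fin 5) 1 * swap 1 3 : Perm (Fin 5)) 4 = 4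
    decide
  · intro h
    have h' := congrArg (fun x : ↥(alternatingGroup (Fin 5)) => (x : Perm (Fin 5)) 0) h
    revert h'
    decide

/-! ### Assembly -/

theorem sym_case (n : ℕ) (hn : 4 ≤ n) (𝓐 : Finset (Subgroup (Perm (Fin n))))
    (hprop : ∀ A ∈ 𝓐, A ≠ ⊤) (hcov : ∀ g : Perm (Fin n), ∃ A ∈ 𝓐, g ∈ A)
    (hmin : ∀ 𝓑 : Finset (Subgroup (Perm (Fin n))),
      (∀ A ∈ 𝓑, A ≠ ⊤) ∧ (∀ g : Perm (Fin n), ∃ A ∈ 𝓑, g ∈ A) → 𝓐.card ≤ 𝓑.card)
    (hnil : ∀ A ∈ 𝓐, Group.IsNilpotent ↥A) : False := by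
  rcases (by omega : n = 4 ∨ n = 5 ∨ 6 ≤ n) with rfl | rfl | h6
  · exact sym4_case 𝓐 hprop hcov hmin hnil
  · exact sym5_case 𝓐 hprop hcov hmin hnil
  · obtain ⟨p, hp, h5, hpn, hn2⟩ := exists_good_prime h6
    exact no_cover_general (MonoidHom.id _) Function.injective_id (fun σ _ => ⟨σ, rfl⟩)
      hp h5 hpn hn2 𝓐 hprop hcov hmin hnil

theorem alt_case (n : ℕ) (hn : 5 ≤ n) (𝓐 : Finset (Subgroup ↥(alternatingGroup (Fin n))))
    (hprop : ∀ A ∈ 𝓐, A ≠ ⊤) (hcov : ∀ g : ↥(alternatingGroup (Fin n)), ∃ A ∈ 𝓐, g ∈ A)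
    (hmin : ∀ 𝓑 : Finset (Subgroup ↥(alternatingGroup (Fin n))),
      (∀ A ∈ 𝓑, A ≠ ⊤) ∧ (∀ g : ↥(alternatingGroup (Fin n)), ∃ A ∈ 𝓑, g ∈ A) →
        𝓐.card ≤ 𝓑.card)
    (hnil : ∀ A ∈ 𝓐, Group.IsNilpotent ↥A) : False := by
  rcases (by omega : n = 5 ∨ 6 ≤ n) with rfl | h6
  · exact alt5_case 𝓐 hprop hcov hmin hnil
  · obtain ⟨p, hp, h5, hpn, hn2⟩ := exists_good_prime h6
    exact no_cover_general (alternatingGroup (Fin n)).subtype (Subgroup.subtype_injective _)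
      (fun σ h => ⟨⟨σ, Equiv.Perm.mem_alternatingGroup.mpr h⟩, rfl⟩)
      hp h5 hpn hn2 𝓐 hprop hcov hmin hnil

end Cfsg.Agent.helper18.NilCover
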