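import Mathlib

set_option autoImplicit false
set_option linter.style.haveILetI false

open Equiv Equiv.Perm

namespace Cfsg.Agent.helper21.SylPerm

universe u
variable {α : Type u}

/-- `v n` is the exponent of `2` in `n!`. -/
def v (n : ℕ) : ℕ := padicValNat 2 n.factorial

theorem two_pow_v_dvd (n : ℕ) : 2 ^ v n ∣ n.factorial := pow_padicValNat_dvd

theorem le_v_of_dvd {e n : ℕ} (h : 2 ^ e ∣ n.factorial) : e ≤ v n :=
  (padicValNat_dvd_iff_le (p := 2) (Nat.factorial_ne_zero n)).mp h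

theorem v_add_le (a b : ℕ) : v a + v b ≤ v (a + b) := by
  apply le_v_of_dvd
  rw [pow_add]
  exact (Nat.mul_dvd_mul (two_pow_v_dvd a) (two_pow_v_dvd b)).trans
    (Nat.factorial_mul_factorial_dvd_factorial_add a b)

theorem v_two_mul (h : ℕ) : v (2 * h) = v h + h := padicValNat_factorial_mul (p := 2) h

theorem v_lt {h : ℕ} (hh : h ≠ 0) : v h < h := padicValNat_factorial_lt_of_ne_zero 2 hh

theorem v_succ (n : ℕ) : v (n + 1) = padicValNat 2 (n + 1) + v n := by
  unfold v
  rw [Nat.factorial_succ, padicValNat.mul (Nat.succ_ne_zero n) (Nat.factorial_ne_zero n)]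

/-- permutations preserving the predicate `p`. -/
def stabP (p : α → Prop) : Subgroup (Perm α) where
  carrier := {f | ∀ x, p (f x) ↔ p x}
  mul_mem' := by
    intro f g hf hg x
    show p (f (g x)) ↔ p x
    exact (hf (g x)).trans (hg x)
  one_mem' := fun _ => Iff.rfl
  inv_mem' := by
    intro f hf x
    have h := hf (f⁻¹ x)
    have e : f (f⁻¹ x) = x := by simp
    rw [e] at h
    exact h.symm

theorem mem_stabP {p : α → Prop} {f : Perm α} : f ∈ stabP p ↔ ∀ x, p (f x) ↔ p x := Iff.rfl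

/-- restriction to `p`. -/
def resP (p : α → Prop) : stabP p →* Perm {x // p x} where
  toFun f := (f : Perm α).subtypePerm f.2
  map_one' := by ext x; rfl
  map_mul' f g := by ext x; rfl

/-- restriction to the complement of `p`. -/
def resN (p : α → Prop) : stabP p →* Perm {x // ¬ p x} where
  toFun f := (f : Perm α).subtypePerm (fun x => not_congr (f.2 x))
  map_one' := by ext x; rfl
  map_mul' f g := by ext x; rfl

@[simp] theorem resP_apply (p : α → Prop) (f : stabP p) (x : {x // p x}) :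
    ((resP p f x : {x // p x}) : α) = (f : Perm α) x := rfl

@[simp] theorem resN_apply (p : α → Prop) (f : stabP p) (x : {x // ¬ p x}) :
    ((resN p f x : {x // ¬ p x}) : α) = (f : Perm α) x := rfl

theorem eq_one_of_res {p : α → Prop} (f : stabP p) (h1 : resP p f = 1) (h2 : resN p f = 1) :
    (f : Perm α) = 1 := by
  ext x
  by_cases hx : p x
  · have := congrArg (fun e : Perm {x // p x} => ((e ⟨x, hx⟩ : {x // p x}) : α)) h1
    simpa using this
  · have := congrArg (fun e : Perm {x // ¬ p x} => ((e ⟨x, hx⟩ : {x // ¬ p x}) : α)) h2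
    simpa using this

/-- restriction homs from a subgroup preserving `p`. -/
def rP {p : α → Prop} {Q : Subgroup (Perm α)} (hQ : Q ≤ stabP p) : Q →* Perm {x // p x} :=
  (resP p).comp (Subgroup.inclusion hQ)

def rN {p : α → Prop} {Q : Subgroup (Perm α)} (hQ : Q ≤ stabP p) : Q →* Perm {x // ¬ p x} :=
  (resN p).comp (Subgroup.inclusion hQ)

@[simp] theorem rP_apply {p : α → Prop} {Q : Subgroup (Perm α)} (hQ : Q ≤ stabP p) (q : Q)
    (x : {x // p x}) : ((rP hQ q x : {x // p x}) : α) = (q : Perm α) x := rfl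

@[simp] theorem rN_apply {p : α → Prop} {Q : Subgroup (Perm α)} (hQ : Q ≤ stabP p) (q : Q)
    (x : {x // ¬ p x}) : ((rN hQ q x : {x // ¬ p x}) : α) = (q : Perm α) x := rfl

theorem eq_one_of_r {p : α → Prop} {Q : Subgroup (Perm α)} (hQ : Q ≤ stabP p) (q : Q)
    (h1 : rP hQ q = 1) (h2 : rN hQ q = 1) : q = 1 := by
  have := eq_one_of_res (Subgroup.inclusion hQ q) h1 h2
  exact Subtype.ext this

theorem isPGroup_range {G H : Type*} [Group G] [Group H] (f : G →* H) (hG : IsPGroup 2 G) :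
    IsPGroup 2 f.range :=
  hG.of_surjective f.rangeRestrict f.rangeRestrict_surjective

theorem card_le_of_isPGroup {β : Type*} [Finite β] (A : Subgroup (Perm β)) (hA : IsPGroup 2 A) :
    ∃ e, e ≤ v (Nat.card β) ∧ Nat.card A = 2 ^ e := by
  obtain ⟨e, he⟩ := (IsPGroup.iff_card (p := 2)).mp hA
  refine ⟨e, ?_, he⟩
  apply le_v_of_dvd
  rw [← he, ← Nat.card_perm]
  exact Subgroup.card_subgroup_dvd_card A

theorem card_le_mul [Finite α] {p : α → Prop} {Q : Subgroup (Perm α)} (hQ : Q ≤ stabP p) :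
    Nat.card Q ≤ Nat.card (rP hQ).range * Nat.card (rN hQ).range := by
  rw [← Nat.card_prod]
  apply Nat.card_le_card_of_injective
    (fun q : Q => ((rP hQ).rangeRestrict q, (rN hQ).rangeRestrict q))
  intro q q' h
  have h1 : rP hQ q = rP hQ q' := congrArg Subtype.val (Prod.mk.inj h).1
  have h2 : rN hQ q = rN hQ q' := congrArg Subtype.val (Prod.mk.inj h).2
  have e1 : rP hQ (q * q'⁻¹) = 1 := by rw [map_mul, map_inv, h1, mul_inv_cancel]
  have e2 : rN hQ (q * q'⁻¹) = 1 := by rw [map_mul, map_inv, h2, mul_inv_cancel]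
  exact mul_inv_eq_one.mp (eq_one_of_r hQ _ e1 e2)

/-- `Q` is a Sylow `2`-subgroup of `Perm α` (by order). -/
structure IsSyl [Finite α] (Q : Subgroup (Perm α)) : Prop where
  pg : IsPGroup 2 Q
  card : Nat.card Q = 2 ^ v (Nat.card α)

theorem card_add_card_not [Finite α] (p : α → Prop) :
    Nat.card {x // p x} + Nat.card {x // ¬ p x} = Nat.card α := by
  classical
  rw [← Nat.card_sum]
  exact Nat.card_congr (Equiv.sumCompl p)

theorem syl_res [Finite α] {p : α → Prop} {Q : Subgroup (Perm α)} (hS : IsSyl Q)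
    (hQ : Q ≤ stabP p) :
    IsSyl (rP hQ).range ∧ IsSyl (rN hQ).range ∧
      v (Nat.card α) = v (Nat.card {x // p x}) + v (Nat.card {x // ¬ p x}) := by
  have hA := isPGroup_range (rP hQ) hS.pg
  have hB := isPGroup_range (rN hQ) hS.pg
  obtain ⟨e1, he1, hc1⟩ := card_le_of_isPGroup _ hA
  obtain ⟨e2, he2, hc2⟩ := card_le_of_isPGroup _ hB
  have hle := card_le_mul hQ
  rw [hS.card, hc1, hc2, ← pow_add] at hle
  have h1 : v (Nat.card α) ≤ e1 + e2 := (Nat.pow_le_pow_iff_right (by norm_num)).mp hle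
  have h2 := v_add_le (Nat.card {x // p x}) (Nat.card {x // ¬ p x})
  rw [card_add_card_not p] at h2
  have e1eq : e1 = v (Nat.card {x // p x}) := by omega
  have e2eq : e2 = v (Nat.card {x // ¬ p x}) := by omega
  exact ⟨⟨hA, by rw [hc1, e1eq]⟩, ⟨hB, by rw [hc2, e2eq]⟩, by omega⟩

theorem mem_orbit {Q : Subgroup (Perm α)} {x y : α} :
    y ∈ MulAction.orbit Q x ↔ ∃ q ∈ Q, q x = y := by
  constructor
  · rintro ⟨q, rfl⟩; exact ⟨q.1, q.2, rfl⟩
  · rintro ⟨q, hq, rfl⟩; exact ⟨⟨q, hq⟩, rfl⟩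

theorem le_stabP_orbit (Q : Subgroup (Perm α)) (x : α) :
    Q ≤ stabP (fun y => y ∈ MulAction.orbit Q x) := by
  intro q hq y
  show q y ∈ MulAction.orbit Q x ↔ y ∈ MulAction.orbit Q x
  rw [mem_orbit, mem_orbit]
  constructor
  · rintro ⟨r, hr, h⟩
    refine ⟨q⁻¹ * r, Q.mul_mem (Q.inv_mem hq) hr, ?_⟩
    rw [Perm.mul_apply, h]
    simp
  · rintro ⟨r, hr, h⟩
    exact ⟨q * r, Q.mul_mem hq hr, by rw [Perm.mul_apply, h]⟩

theorem orbit_eq_of_mem {Q : Subgroup (Perm α)} {x y : α} (h : y ∈ MulAction.orbit Q x) :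
    MulAction.orbit Q y = MulAction.orbit Q x := MulAction.orbit_eq_iff.mpr h

theorem self_mem_orbit (Q : Subgroup (Perm α)) (x : α) : x ∈ MulAction.orbit Q x :=
  MulAction.mem_orbit_self x

theorem no_equal_halves {β : Type u} [Finite β] {A : Subgroup (Perm β)} (hA : IsSyl A)
    (p₁ : β → Prop) (hA1 : A ≤ stabP p₁)
    (h : Nat.card {z // p₁ z} = Nat.card {z // ¬ p₁ z}) (hne : Nat.card {z // p₁ z} ≠ 0) :
    False := by
  obtain ⟨-, -, hv⟩ := syl_res hA hA1
  have hc := card_add_card_not p₁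
  have h2 : Nat.card β = 2 * Nat.card {z // p₁ z} := by omega
  rw [h2, v_two_mul, ← h] at hv
  have := v_lt hne
  omega

/-- F4: two orbits of a Sylow `2`-subgroup of `Perm α` of the same size coincide. -/
theorem orbit_eq_of_ncard_eq [Finite α] {Q : Subgroup (Perm α)} (hS : IsSyl Q) {x y : α}
    (h : (MulAction.orbit Q x).ncard = (MulAction.orbit Q y).ncard) :
    MulAction.orbit Q x = MulAction.orbit Q y := by
  by_contra hne
  have hdisj : ∀ z, z ∈ MulAction.orbit Q x → z ∈ MulAction.orbit Q y → False := by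
    intro z h1 h2
    exact hne ((orbit_eq_of_mem h1).symm.trans (orbit_eq_of_mem h2))
  let p : α → Prop := fun z => z ∈ MulAction.orbit Q x ∨ z ∈ MulAction.orbit Q y
  have hQ : Q ≤ stabP p := by
    intro q hq z
    exact or_congr (mem_stabP.mp (le_stabP_orbit Q x hq) z) (mem_stabP.mp (le_stabP_orbit Q y hq) z)
  obtain ⟨hA, -, -⟩ := syl_res hS hQ
  let p₁ : {z // p z} → Prop := fun z => z.1 ∈ MulAction.orbit Q x
  have hA1 : (rP hQ).range ≤ stabP p₁ := by
    rintro _ ⟨q, rfl⟩ z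
    exact mem_stabP.mp (le_stabP_orbit Q x q.2) z.1
  have e1 : Nat.card {z // p₁ z} = (MulAction.orbit Q x).ncard := by
    rw [← Nat.card_coe_set_eq]
    exact Nat.card_congr
      { toFun := fun z => ⟨z.1.1, z.2⟩
        invFun := fun z => ⟨⟨z.1, Or.inl z.2⟩, z.2⟩
        left_inv := fun z => rfl
        right_inv := fun z => rfl }
  have e2 : Nat.card {z // ¬ p₁ z} = (MulAction.orbit Q y).ncard := by
    rw [← Nat.card_coe_set_eq]
    exact Nat.card_congr
      { toFun := fun z => ⟨z.1.1, z.1.2.resolve_left z.2⟩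
        invFun := fun z => ⟨⟨z.1, Or.inr z.2⟩, fun h1 => hdisj z.1 h1 z.2⟩
        left_inv := fun z => rfl
        right_inv := fun z => rfl }
  refine no_equal_halves hA p₁ hA1 (by rw [e1, e2, h]) ?_
  rw [e1]
  exact Set.ncard_ne_zero_of_mem (self_mem_orbit Q x) (Set.toFinite _)

/-- sign for a `Finite` type. -/
noncomputable def sgn (α : Type u) [Finite α] : Perm α →* ℤˣ :=
  @Perm.sign α (Classical.decEq α) (Fintype.ofFinite α)

theorem sgn_eq [inst1 : Fintype α] [inst2 : DecidableEq α] (f : Perm α) :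
    sgn α f = Perm.sign f := by
  have h1 : Classical.decEq α = inst2 := Subsingleton.elim _ _
  have h2 : Fintype.ofFinite α = inst1 := Subsingleton.elim _ _
  unfold sgn
  rw [h1, h2]

/-- the alternating group for a `Finite` type. -/
noncomputable def Alt (α : Type u) [Finite α] : Subgroup (Perm α) := (sgn α).ker

theorem mem_Alt [Finite α] {f : Perm α} : f ∈ Alt α ↔ sgn α f = 1 := MonoidHom.mem_ker

theorem Alt_eq [Fintype α] [DecidableEq α] : Alt α = alternatingGroup α := by
  ext f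
  rw [mem_Alt, Perm.mem_alternatingGroup, sgn_eq]

theorem card_Alt [Finite α] (h2 : 2 ≤ Nat.card α) :
    2 * Nat.card (Alt α) = (Nat.card α).factorial := by
  classical
  letI := Fintype.ofFinite α
  haveI : Nontrivial α := Finite.one_lt_card_iff_nontrivial.mp h2
  rw [Alt_eq, two_mul_nat_card_alternatingGroup, Nat.card_perm]

theorem sgn_resP [Finite α] {p : α → Prop} (f : stabP p)
    (hf : ∀ x, ¬ p x → (f : Perm α) x = x) : sgn {x // p x} (resP p f) = sgn α f := by
  classical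
  letI := Fintype.ofFinite α
  rw [sgn_eq, sgn_eq]
  exact Perm.sign_subtypePerm f.1 f.2 (fun x hx => by_contra fun hp => hx (hf x hp))

theorem sgn_cases [Finite α] (f : Perm α) : sgn α f = 1 ∨ sgn α f = -1 :=
  Int.units_eq_one_or _

theorem exists_odd_of_isSyl [Finite α] {A : Subgroup (Perm α)} (hA : IsSyl A)
    (h2 : 2 ≤ Nat.card α) : ∃ a ∈ A, sgn α a = -1 := by
  by_contra hcon
  push Not at hcon
  have hle : A ≤ Alt α := by
    intro a ha
    rcases sgn_cases a with h | h
    · exact mem_Alt.mpr h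
    · exact absurd h (hcon a ha)
  have hd := Subgroup.card_dvd_of_le hle
  rw [hA.card] at hd
  have h3 : 2 ^ (v (Nat.card α) + 1) ∣ (Nat.card α).factorial := by
    rw [← card_Alt h2, pow_succ']
    exact Nat.mul_dvd_mul_left 2 hd
  have := le_v_of_dvd h3
  omega

theorem exists_odd_supported [Finite α] {Q : Subgroup (Perm α)} (hS : IsSyl Q) {p : α → Prop}
    (hQ : Q ≤ stabP p) (h2 : 2 ≤ Nat.card {x // p x}) :
    ∃ b ∈ Q, (∀ x, ¬ p x → b x = x) ∧ sgn α b = -1 := by
  obtain ⟨-, hB, hv⟩ := syl_res hS hQ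
  have hK := Subgroup.card_mul_index (rN hQ).ker
  rw [Subgroup.index_ker, hB.card, hS.card, hv, pow_add] at hK
  have hKc : Nat.card (rN hQ).ker = 2 ^ v (Nat.card {x // p x}) :=
    Nat.eq_of_mul_eq_mul_right (by positivity) hK
  let φ : (rN hQ).ker →* Perm {x // p x} := (rP hQ).comp (rN hQ).ker.subtype
  have hinj : Function.Injective φ := by
    rw [injective_iff_map_eq_one]
    intro k hk
    exact Subtype.ext (eq_one_of_r hQ k.1 hk (MonoidHom.mem_ker.mp k.2))
  have hsyl : IsSyl φ.range :=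
    ⟨isPGroup_range φ (hS.pg.to_subgroup _),
      by rw [Nat.card_congr (MonoidHom.ofInjective hinj).symm.toEquiv, hKc]⟩
  obtain ⟨a', ⟨k, rfl⟩, hsgn⟩ := exists_odd_of_isSyl hsyl h2
  have hfix : ∀ x, ¬ p x → (k.1 : Perm α) x = x := by
    intro x hx
    have := congrArg (fun e : Perm {x // ¬ p x} => ((e ⟨x, hx⟩ : {x // ¬ p x}) : α))
      (MonoidHom.mem_ker.mp k.2)
    simpa using this
  refine ⟨(k.1 : Perm α), k.1.2, hfix, ?_⟩
  rw [← hsgn]
  exact (sgn_resP (Subgroup.inclusion hQ k.1) hfix).symm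

theorem mem_normalizer_of_conj_mem [Finite α] (A : Subgroup (Perm α)) (g : Perm α)
    (h : ∀ a ∈ A, g * a * g⁻¹ ∈ A) : g ∈ Subgroup.normalizer (A : Set (Perm α)) :=
  Subgroup.mem_normalizer_fintype h

/-- statement of Theorem A: an odd-order permutation normalizing a Sylow `2`-subgroup of
`Perm α` is trivial. -/
def ThmAStmt : Prop :=
  ∀ (α : Type u) [Finite α] (Q : Subgroup (Perm α)), IsSyl Q → ∀ g : Perm α,
    Odd (orderOf g) → g ∈ Subgroup.normalizer (Q : Set (Perm α)) → g = 1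

/-- statement of B1. -/
def BOneStmt : Prop :=
  ∀ (α : Type u) [Finite α] (S : Subgroup (Perm α)), IsSyl S → ∀ x₁ x₂ : α,
    MulAction.orbit S x₁ ≠ MulAction.orbit S x₂ →
    2 ≤ (MulAction.orbit S x₁).ncard → 2 ≤ (MulAction.orbit S x₂).ncard →
    ∀ g : Perm α, Odd (orderOf g) →
      g ∈ Subgroup.normalizer ((S ⊓ Alt α : Subgroup (Perm α)) : Set (Perm α)) → g = 1

/-- statement of B-star. -/
def BStarStmt : Prop :=
  ∀ (α : Type u) [Finite α], 6 ≤ Nat.card α → ∀ (S : Subgroup (Perm α)), IsSyl S →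
    ∀ g : Perm α, Odd (orderOf g) →
      g ∈ Subgroup.normalizer ((S ⊓ Alt α : Subgroup (Perm α)) : Set (Perm α)) → g = 1

end Cfsg.Agent.helper21.SylPerm
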