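import Mathlib
import Cfsg.Agent.Lib_helper21_SylPerm1

set_option autoImplicit false

/-! The bound function for orders of nilpotent subgroups of symmetric groups. -/

namespace Cfsg.Agent.helper9.Nil

open Cfsg.Agent.helper21.SylPerm

/-- `F n` = largest order of a nilpotent subgroup of `S_n`:
`2 ^ v n` unless `n ≡ 3 (mod 4)`, where it is `3 * 2 ^ v (n - 3)`. Here `v n = padicValNat 2 n!`. -/
def F (n : ℕ) : ℕ := if n % 4 = 3 then 3 * 2 ^ v (n - 3) else 2 ^ v n

theorem F_of_mod (n : ℕ) (h : n % 4 = 3) : F n = 3 * 2 ^ v (n - 3) := by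
  unfold F; rw [if_pos h]

theorem F_of_not_mod (n : ℕ) (h : n % 4 ≠ 3) : F n = 2 ^ v n := by
  unfold F; rw [if_neg h]

theorem F_pos (n : ℕ) : 0 < F n := by
  unfold F; split_ifs <;> positivity

end Cfsg.Agent.helper9.Nil
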