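import Mathlib
import Cfsg.Agent.Lib_helper9_NilF

set_option autoImplicit false

/-! Numeric lemmas on the bound function `F` of `Lib_helper9_NilF` (requested by helper9). -/

namespace Cfsg.Agent.helper18.NilNum

open Cfsg.Agent.helper21.SylPerm Cfsg.Agent.helper9.Nil

/-- `w k = v (4 k)`. -/
def w (k : ℕ) : ℕ := v k + 3 * k

theorem v_zero : v 0 = 0 := by simp [v]

theorem v_one : v 1 = 0 := by simp [v]

theorem v_four (k : ℕ) : v (4 * k) = w k := by
  have h1 : 4 * k = 2 * (2 * k) := by ring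
  rw [h1, v_two_mul, v_two_mul]
  unfold w
  ring

theorem v_four1 (k : ℕ) : v (4 * k + 1) = w k := by
  rw [v_succ, v_four]
  have : padicValNat 2 (4 * k + 1) = 0 := padicValNat.eq_zero_of_not_dvd (by omega)
  omega

theorem v_four2 (k : ℕ) : v (4 * k + 2) = w k + 1 := by
  have h1 : 4 * k + 2 = 2 * (2 * k + 1) := by ring
  rw [h1, v_two_mul, v_succ, v_two_mul]
  have : padicValNat 2 (2 * k + 1) = 0 := padicValNat.eq_zero_of_not_dvd (by omega)
  unfold w
  omega

theorem v_four3 (k : ℕ) : v (4 * k + 3) = w k + 1 := by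
  have h1 : 4 * k + 3 = (4 * k + 2) + 1 := by ring
  rw [h1, v_succ, v_four2]
  have : padicValNat 2 (4 * k + 2 + 1) = 0 := padicValNat.eq_zero_of_not_dvd (by omega)
  omega

theorem w_add_le (i j : ℕ) : w i + w j ≤ w (i + j) := by
  unfold w
  have := v_add_le i j
  omega

theorem w_succ_ge (k : ℕ) : w k + 3 ≤ w (k + 1) := by
  unfold w
  have := v_succ k
  omega

/-- The coefficient of `F` on the residue classes mod 4. -/
def f (t : ℕ) : ℕ := if t = 3 then 3 else if t = 2 then 2 else 1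

theorem f0 : f 0 = 1 := by decide
theorem f1 : f 1 = 1 := by decide
theorem f2 : f 2 = 2 := by decide
theorem f3 : f 3 = 3 := by decide

theorem F_form (k t : ℕ) (ht : t < 4) : F (4 * k + t) = f t * 2 ^ w k := by
  interval_cases t
  · rw [F_of_not_mod _ (by omega), add_zero, v_four, f0, one_mul]
  · rw [F_of_not_mod _ (by omega), v_four1, f1, one_mul]
  · rw [F_of_not_mod _ (by omega), v_four2, f2, pow_succ, mul_comm]
  · rw [F_of_mod _ (by omega)]
    have : 4 * k + 3 - 3 = 4 * k := by omega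
    rw [this, v_four, f3]

theorem f_mul_le_lt : ∀ s < 4, ∀ t < 4, s + t < 4 → f s * f t ≤ f (s + t) := by decide

theorem f_mul_le_ge : ∀ s < 4, ∀ t < 4, 4 ≤ s + t → f s * f t ≤ 8 * f (s + t - 4) := by decide

/-- (A) supermultiplicativity of `F`. -/
theorem F_mul_le (a b : ℕ) : F a * F b ≤ F (a + b) := by
  obtain ⟨i, s, hs, rfl⟩ : ∃ i s, s < 4 ∧ a = 4 * i + s :=
    ⟨a / 4, a % 4, Nat.mod_lt _ (by norm_num), (Nat.div_add_mod a 4).symm⟩
  obtain ⟨j, t, ht, rfl⟩ : ∃ j t, t < 4 ∧ b = 4 * j + t :=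
    ⟨b / 4, b % 4, Nat.mod_lt _ (by norm_num), (Nat.div_add_mod b 4).symm⟩
  rw [F_form i s hs, F_form j t ht]
  have hAB : 2 ^ w i * 2 ^ w j ≤ 2 ^ w (i + j) := by
    rw [← pow_add]
    exact Nat.pow_le_pow_right (by norm_num) (w_add_le i j)
  rcases Nat.lt_or_ge (s + t) 4 with h | h
  · have e : 4 * i + s + (4 * j + t) = 4 * (i + j) + (s + t) := by ring
    rw [e, F_form _ _ h]
    calc f s * 2 ^ w i * (f t * 2 ^ w j) = (f s * f t) * (2 ^ w i * 2 ^ w j) := by ring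
      _ ≤ f (s + t) * 2 ^ w (i + j) := Nat.mul_le_mul (f_mul_le_lt s hs t ht h) hAB
  · have e : 4 * i + s + (4 * j + t) = 4 * (i + j + 1) + (s + t - 4) := by omega
    rw [e, F_form _ _ (by omega)]
    have hC : 8 * 2 ^ w (i + j) ≤ 2 ^ w (i + j + 1) := by
      calc 8 * 2 ^ w (i + j) = 2 ^ (w (i + j) + 3) := by rw [pow_add]; ring
        _ ≤ 2 ^ w (i + j + 1) := Nat.pow_le_pow_right (by norm_num) (w_succ_ge _)
    calc f s * 2 ^ w i * (f t * 2 ^ w j) = (f s * f t) * (2 ^ w i * 2 ^ w j) := by ring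
      _ ≤ (8 * f (s + t - 4)) * 2 ^ w (i + j) :=
          Nat.mul_le_mul (f_mul_le_ge s hs t ht h) hAB
      _ = f (s + t - 4) * (8 * 2 ^ w (i + j)) := by ring
      _ ≤ f (s + t - 4) * 2 ^ w (i + j + 1) := Nat.mul_le_mul_left _ hC

theorem F_zero : F 0 = 1 := by
  rw [F_of_not_mod 0 (by norm_num), v_zero, pow_zero]

theorem F_one : F 1 = 1 := by
  rw [F_of_not_mod 1 (by norm_num), v_one, pow_zero]

/-- (B) monotonicity. -/
theorem F_mono {a b : ℕ} (h : a ≤ b) : F a ≤ F b := by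
  obtain ⟨c, rfl⟩ := Nat.exists_eq_add_of_le h
  calc F a = F a * 1 := (mul_one _).symm
    _ ≤ F a * F c := Nat.mul_le_mul_left _ (F_pos c)
    _ ≤ F (a + c) := F_mul_le a c

theorem two_pow_v_le_F (n : ℕ) : 2 ^ v n ≤ F n := by
  by_cases h : n % 4 = 3
  · obtain ⟨k, rfl⟩ : ∃ k, n = 4 * k + 3 := ⟨n / 4, by omega⟩
    rw [F_form k 3 (by norm_num), v_four3, f3, pow_succ]
    omega
  · rw [F_of_not_mod n h]

theorem F_pow_le (x m : ℕ) : F x ^ m ≤ F (m * x) := by
  induction m with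
  | zero => rw [pow_zero, zero_mul, F_zero]
  | succ m ih =>
    rw [pow_succ, Nat.succ_mul]
    exact (Nat.mul_le_mul_right _ ih).trans (F_mul_le _ _)

theorem half_le_v (m : ℕ) : m / 2 ≤ v m := by
  rcases Nat.even_or_odd' m with ⟨h, rfl | rfl⟩
  · rw [v_two_mul]; omega
  · rw [v_succ, v_two_mul]; omega

theorem two_mul_add_two_le (h : ℕ) (hh : 3 ≤ h) : 2 * h + 2 ≤ 2 ^ h := by
  induction h, hh using Nat.le_induction with
  | base => norm_num
  | succ k hk ih => rw [pow_succ]; omega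

theorem succ_le_two_pow_v {m : ℕ} (hm : 4 ≤ m) : m + 1 ≤ 2 ^ v m := by
  have hw1 : w 1 = 3 := by unfold w; rw [v_one]
  by_cases h4 : m = 4
  · subst h4
    have : v 4 = 3 := by have := v_four 1; rw [hw1] at this; simpa using this
    rw [this]; norm_num
  by_cases h5 : m = 5
  · subst h5
    have : v 5 = 3 := by have := v_four1 1; rw [hw1] at this; simpa using this
    rw [this]; norm_num
  calc m + 1 ≤ 2 * (m / 2) + 2 := by omega
    _ ≤ 2 ^ (m / 2) := two_mul_add_two_le _ (by omega)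
    _ ≤ 2 ^ v m := Nat.pow_le_pow_right (by norm_num) (half_le_v m)

theorem aux_mul (p X : ℕ) (hp : 1 ≤ p) : X + X * (p - 1) = p * X := by
  obtain ⟨q, rfl⟩ : ∃ q, p = q + 1 := ⟨p - 1, by omega⟩
  rw [Nat.add_sub_cancel]
  ring

theorem prime_pow_le_F_ge5 (p : ℕ) (hp : p.Prime) (h5 : 5 ≤ p) (k : ℕ) :
    p ^ padicValNat p (p ^ k).factorial ≤ F (p ^ k) := by
  haveI : Fact p.Prime := ⟨hp⟩
  have hpF : p ≤ F (p - 1) := by
    have h1 := succ_le_two_pow_v (m := p - 1) (by omega)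
    have h2 := two_pow_v_le_F (p - 1)
    omega
  induction k with
  | zero => simp [F_one]
  | succ k ih =>
    rw [pow_succ' p k, padicValNat_factorial_mul, pow_add]
    have h3 : p ^ (p ^ k) ≤ F (p ^ k * (p - 1)) :=
      calc p ^ (p ^ k) ≤ F (p - 1) ^ (p ^ k) := Nat.pow_le_pow_left hpF _
        _ ≤ F (p ^ k * (p - 1)) := F_pow_le _ _
    calc p ^ padicValNat p (p ^ k).factorial * p ^ p ^ k
        ≤ F (p ^ k) * F (p ^ k * (p - 1)) := Nat.mul_le_mul ih h3
      _ ≤ F (p ^ k + p ^ k * (p - 1)) := F_mul_le _ _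
      _ = F (p * p ^ k) := by rw [aux_mul p (p ^ k) hp.one_le]

theorem prime_pow_le_F_two (k : ℕ) :
    2 ^ padicValNat 2 (2 ^ k).factorial ≤ F (2 ^ k) := by
  have h : (2 ^ k) % 4 ≠ 3 := by
    rcases k with _ | _ | k
    · norm_num
    · norm_num
    · rw [pow_succ, pow_succ]; omega
  rw [F_of_not_mod _ h]
  exact le_refl _

theorem three_aux (t : ℕ) (ht : 2 ≤ t) : 3 * 3 ^ t ≤ 2 * (2 ^ t * 2 ^ t) := by
  induction t, ht using Nat.le_induction with
  | base => norm_num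
  | succ t ht ih =>
    have e1 : (3 : ℕ) ^ (t + 1) = 3 * 3 ^ t := pow_succ' 3 t
    have e2 : (2 : ℕ) ^ (t + 1) * 2 ^ (t + 1) = 4 * (2 ^ t * 2 ^ t) := by
      rw [pow_succ]; ring
    rw [e1, e2]
    omega

theorem three_key (k : ℕ) (hk : 2 ≤ k) :
    3 ^ padicValNat 3 (3 ^ k).factorial ≤ 2 ^ v (3 ^ k) ∧
      3 ^ k = 2 * padicValNat 3 (3 ^ k).factorial + 1 ∧
      2 ≤ padicValNat 3 (3 ^ k).factorial := by
  haveI : Fact (Nat.Prime 3) := ⟨Nat.prime_three⟩
  induction k, hk using Nat.le_induction with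
  | base =>
    have t1 : padicValNat 3 (3 * 1).factorial = 1 := by
      rw [padicValNat_factorial_mul]; simp
    have t2 : padicValNat 3 (3 * (3 * 1)).factorial = 4 := by
      rw [padicValNat_factorial_mul, t1]
    have e9 : (3 : ℕ) ^ 2 = 3 * (3 * 1) := by norm_num
    have hv2 : v 2 = 1 := by
      have h := v_two_mul 1
      rw [v_one] at h
      simpa using h
    have v9 : v (3 * (3 * 1)) = 7 := by
      have h9 : 3 * (3 * 1) = 4 * 2 + 1 := by norm_num
      rw [h9, v_four1]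
      unfold w
      omega
    rw [e9, t2, v9]
    norm_num
  | succ k hk ih =>
    obtain ⟨ih1, ih2, ih3⟩ := ih
    have tk : padicValNat 3 (3 ^ (k + 1)).factorial
        = padicValNat 3 (3 ^ k).factorial + 3 ^ k := by
      rw [pow_succ' 3 k, padicValNat_factorial_mul]
    rw [tk]
    generalize padicValNat 3 (3 ^ k).factorial = t at ih1 ih2 ih3 ⊢
    refine ⟨?_, ?_, by omega⟩
    · have hv : 3 ^ k + (v (3 ^ k) + v (3 ^ k)) ≤ v (3 ^ (k + 1)) := by
        have h1 : 2 * 3 ^ k + 3 ^ k = 3 ^ (k + 1) := by rw [pow_succ]; ring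
        have h2 := v_add_le (2 * 3 ^ k) (3 ^ k)
        rw [h1, v_two_mul] at h2
        omega
      have e1 : 3 ^ (t + 3 ^ k) = (3 * 3 ^ t) * (3 ^ t * 3 ^ t) := by
        rw [ih2, pow_add, pow_succ, two_mul, pow_add]; ring
      have e2 : 2 ^ (3 ^ k + (v (3 ^ k) + v (3 ^ k)))
          = (2 * (2 ^ t * 2 ^ t)) * (2 ^ v (3 ^ k) * 2 ^ v (3 ^ k)) := by
        rw [pow_add, pow_add]
        congr 1
        rw [ih2, pow_succ, two_mul, pow_add]; ring
      calc 3 ^ (t + 3 ^ k) = (3 * 3 ^ t) * (3 ^ t * 3 ^ t) := e1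
        _ ≤ (2 * (2 ^ t * 2 ^ t)) * (2 ^ v (3 ^ k) * 2 ^ v (3 ^ k)) :=
            Nat.mul_le_mul (three_aux t ih3) (Nat.mul_le_mul ih1 ih1)
        _ = 2 ^ (3 ^ k + (v (3 ^ k) + v (3 ^ k))) := e2.symm
        _ ≤ 2 ^ v (3 ^ (k + 1)) := Nat.pow_le_pow_right (by norm_num) hv
    · rw [pow_succ]; omega

theorem prime_pow_le_F_three (k : ℕ) :
    3 ^ padicValNat 3 (3 ^ k).factorial ≤ F (3 ^ k) := by
  haveI : Fact (Nat.Prime 3) := ⟨Nat.prime_three⟩
  rcases k with _ | _ | k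
  · simp [F_one]
  · have e : (3 : ℕ) ^ (0 + 1) = 3 * 1 := by norm_num
    have t1 : padicValNat 3 (3 * 1).factorial = 1 := by
      rw [padicValNat_factorial_mul]; simp
    have hF : F (3 * 1) = 3 := by
      have h3 : 3 * 1 = 4 * 0 + 3 := by norm_num
      rw [h3, F_form 0 3 (by norm_num), f3]
      unfold w
      rw [v_zero]
      norm_num
    rw [e, t1, hF, pow_one]
  · exact (three_key (k + 1 + 1) (by omega)).1.trans (two_pow_v_le_F _)

/-- (C) prime powers. -/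
theorem prime_pow_le_F (p : ℕ) (hp : p.Prime) (k : ℕ) :
    p ^ padicValNat p (p ^ k).factorial ≤ F (p ^ k) := by
  rcases Nat.lt_or_ge p 5 with h | h
  · have h2 := hp.two_le
    interval_cases p
    · exact prime_pow_le_F_two k
    · exact prime_pow_le_F_three k
    · exact absurd hp (by norm_num)
  · exact prime_pow_le_F_ge5 p hp h k

end Cfsg.Agent.helper18.NilNum
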