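import Cfsg.Statements.S3773
import Mathlib
import Cfsg.Agent.Lib_helper1_PGroup
import Cfsg.Agent.Lib_helper1_ElemAb

set_option autoImplicit false
set_option linter.style.haveILetI false
set_option linter.unusedSectionVars false
open Cfsg
open scoped commutatorElement

namespace Cfsg.Agent.S3773

open MvPolynomial in
/-- Chevalley–Warning for a system of quadratic forms over `ZMod 2`. -/
theorem cw_quad (d m : ℕ) (a : Fin d → Fin m → ZMod 2) (c : Fin d → Fin d → Fin m → ZMod 2)
    (h : 2 * m < d) :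
    ∃ e : Fin d → ZMod 2, e ≠ 0 ∧ ∀ k, (∑ i, e i * a i k) +
      (∑ i, ∑ j, if i < j then e i * e j * c i j k else 0) = 0 := by
  classical
  let f : Fin m → MvPolynomial (Fin d) (ZMod 2) := fun k =>
    (∑ i, X i * C (a i k)) + (∑ i, ∑ j, if i < j then X i * X j * C (c i j k) else 0)
  have hdeg : ∀ k, (f k).totalDegree ≤ 2 := by
    intro k
    refine (totalDegree_add _ _).trans (max_le ?_ ?_)
    · refine totalDegree_finsetSum_le (fun i _ => ?_)
      refine (totalDegree_mul _ _).trans ?_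
      rw [totalDegree_C]
      have := totalDegree_X (R := ZMod 2) i
      omega
    · refine totalDegree_finsetSum_le (fun i _ => ?_)
      refine totalDegree_finsetSum_le (fun j _ => ?_)
      split_ifs
      · refine (totalDegree_mul _ _).trans ?_
        rw [totalDegree_C]
        have h1 := totalDegree_mul (X (R := ZMod 2) i) (X j)
        have h2 := totalDegree_X (R := ZMod 2) i
        have h3 := totalDegree_X (R := ZMod 2) j
        omega
      · simp
  have hsum : (∑ k, (f k).totalDegree) < Fintype.card (Fin d) := by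
    calc (∑ k, (f k).totalDegree) ≤ ∑ _k : Fin m, 2 := Finset.sum_le_sum (fun k _ => hdeg k)
      _ = 2 * m := by simp [mul_comm]
      _ < Fintype.card (Fin d) := by simpa using h
  have hdvd := char_dvd_card_solutions_of_fintype_sum_lt 2 hsum
  have heval : ∀ (e : Fin d → ZMod 2) k, eval e (f k) = (∑ i, e i * a i k) +
      (∑ i, ∑ j, if i < j then e i * e j * c i j k else 0) := by
    intro e k
    simp only [f, map_add, map_sum, map_mul, eval_X, eval_C]
    congr 1
    refine Finset.sum_congr rfl (fun i _ => Finset.sum_congr rfl (fun j _ => ?_))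
    split_ifs <;> simp
  have h0 : ∀ k, eval (0 : Fin d → ZMod 2) (f k) = 0 := by
    intro k
    rw [heval]
    simp
  by_contra hne
  push Not at hne
  have huniq : ∀ x : { x : Fin d → ZMod 2 // ∀ i, eval x (f i) = 0 }, x = ⟨0, h0⟩ := by
    rintro ⟨x, hx⟩
    by_contra hx0
    have hx0' : x ≠ 0 := fun h => hx0 (Subtype.ext h)
    obtain ⟨k, hk⟩ := hne x hx0'
    exact hk (by rw [← heval]; exact hx k)
  rw [Fintype.card_eq_nat_card] at hdvd
  have hcard : Nat.card { x : Fin d → ZMod 2 // ∀ i, eval x (f i) = 0 } = 1 := by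
    rw [Nat.card_eq_one_iff_unique]
    exact ⟨⟨fun a b => (huniq a).trans (huniq b).symm⟩, ⟨⟨0, h0⟩⟩⟩
  rw [hcard] at hdvd
  omega

/-- Coordinates on a finite group of exponent two. -/
theorem coords {M : Type*} [Group M] [Finite M] (h2 : ∀ u : M, u ^ 2 = 1) :
    ∃ (m : ℕ), Nat.card M = 2 ^ m ∧ ∃ φ : M → (Fin m → ZMod 2), Function.Bijective φ ∧
      ∀ u v, φ (u * v) = φ u + φ v := by
  classical
  have hinv : ∀ u : M, u⁻¹ = u := fun u => by
    rw [inv_eq_iff_mul_eq_one, ← pow_two]; exact h2 u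
  have hcomm : ∀ u v : M, u * v = v * u := fun u v => by
    have h := hinv (u * v)
    rw [mul_inv_rev, hinv, hinv] at h
    exact h.symm
  letI : CommGroup M := { (inferInstance : Group M) with mul_comm := hcomm }
  letI : Module (ZMod 2) (Additive M) := AddCommGroup.zmodModule (n := 2) (fun x => by
    induction x using Additive.rec with
    | ofMul u => rw [← ofMul_pow, h2 u]; rfl)
  haveI : Finite (Additive M) := inferInstanceAs (Finite M)
  let b := Module.finBasis (ZMod 2) (Additive M)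
  let E := b.equivFun
  refine ⟨Module.finrank (ZMod 2) (Additive M), ?_, fun u => E (Additive.ofMul u), ?_, ?_⟩
  · have h1 : Nat.card M = Nat.card (Fin (Module.finrank (ZMod 2) (Additive M)) → ZMod 2) :=
      Nat.card_congr (Additive.ofMul.trans E.toEquiv)
    rw [h1, Nat.card_eq_fintype_card, Fintype.card_fun]
    simp
  · exact E.bijective.comp Additive.ofMul.bijective
  · intro u v
    change E (Additive.ofMul (u * v)) = E (Additive.ofMul u) + E (Additive.ofMul v)
    rw [← map_add]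
    rfl

theorem z2c (e : ZMod 2) : e = 0 ∨ e = 1 := by
  revert e; decide

/-- The ordered product `x 0 ^ e 0 * x 1 ^ e 1 * ...`. -/
def eprod {G : Type*} [Group G] {d : ℕ} (x : Fin d → G) (e : Fin d → ZMod 2) : G :=
  (List.ofFn fun i => x i ^ (e i).val).prod

theorem eprod_zero {G : Type*} [Group G] (x : Fin 0 → G) (e : Fin 0 → ZMod 2) :
    eprod x e = 1 := by
  simp [eprod]

theorem eprod_succ {G : Type*} [Group G] {d : ℕ} (x : Fin (d + 1) → G)
    (e : Fin (d + 1) → ZMod 2) :
    eprod x e = x 0 ^ (e 0).val * eprod (fun i => x i.succ) (fun i => e i.succ) := by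
  simp [eprod, List.ofFn_succ]

section additive

variable {G : Type*} [Group G] {n : ℕ} (h : G → (Fin n → ZMod 2))

theorem add_pow_val (h1 : h 1 = 0) (x : G) (e : ZMod 2) :
    h (x ^ e.val) = e • h x := by
  rcases z2c e with rfl | rfl
  · simp [h1]
  · simp [ZMod.val_one]

theorem add_eprod (hmul : ∀ a b, h (a * b) = h a + h b) (h1 : h 1 = 0) :
    ∀ {d : ℕ} (x : Fin d → G) (e : Fin d → ZMod 2), h (eprod x e) = ∑ i, e i • h (x i) := by
  intro d
  induction d with
  | zero => intro x e; simp [eprod_zero, h1]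
  | succ d ih =>
    intro x e
    rw [eprod_succ, hmul, ih, Fin.sum_univ_succ, add_pow_val h h1]

end additive

section quadratic

variable {G : Type*} [Group G] {n : ℕ} (sq : G → (Fin n → ZMod 2))
  (cm : G → G → (Fin n → ZMod 2))

theorem quad_eprod (Q1 : ∀ a b, sq (a * b) = sq a + sq b + cm b a) (Q2 : sq 1 = 0)
    (Q3 : ∀ a b c, cm (a * b) c = cm a c + cm b c) (Q3' : ∀ c, cm 1 c = 0)
    (Q4 : ∀ a, cm a 1 = 0) :
    ∀ {d : ℕ} (x : Fin d → G) (e : Fin d → ZMod 2),
      sq (eprod x e) = (∑ i, e i • sq (x i)) +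
        ∑ i, ∑ j, if i < j then (e i * e j) • cm (x j) (x i) else 0 := by
  intro d
  induction d with
  | zero => intro x e; simp [eprod_zero, Q2]
  | succ d ih =>
    intro x e
    have hcm : cm (eprod (fun i => x i.succ) (fun i => e i.succ)) (x 0 ^ (e 0).val) =
        e 0 • ∑ j : Fin d, e j.succ • cm (x j.succ) (x 0) := by
      rcases z2c (e 0) with h0 | h0
      · rw [h0]; simp [Q4]
      · rw [h0]
        simp only [ZMod.val_one, pow_one, one_smul]
        exact add_eprod (fun g => cm g (x 0)) (fun a b => Q3 a b _) (Q3' _) _ _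
    rw [eprod_succ, Q1, ih, hcm, add_pow_val sq Q2, Fin.sum_univ_succ, Fin.sum_univ_succ]
    have hA : (∑ j : Fin (d + 1), if (0 : Fin (d + 1)) < j then (e 0 * e j) • cm (x j) (x 0) else 0) =
        e 0 • ∑ j : Fin d, e j.succ • cm (x j.succ) (x 0) := by
      rw [Fin.sum_univ_succ, Finset.smul_sum]
      simp [Fin.succ_pos, mul_smul]
    have hB : ∀ i : Fin d, (∑ j : Fin (d + 1), if i.succ < j then
        (e i.succ * e j) • cm (x j) (x i.succ) else 0) =
        ∑ j : Fin d, if i < j then (e i.succ * e j.succ) • cm (x j.succ) (x i.succ) else 0 := by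
      intro i
      rw [Fin.sum_univ_succ]
      simp [Fin.succ_lt_succ_iff]
    rw [hA, Finset.sum_congr rfl (fun i _ => hB i)]
    abel

end quadratic

section grp

variable {G : Type*} [Group G]

theorem sq_mul (hc : ∀ a b c : G, ⁅a, b⁆ * c = c * ⁅a, b⁆) (a b : G) :
    (a * b) ^ 2 = a ^ 2 * b ^ 2 * ⁅b, a⁆ := by
  have h1 : b * a = ⁅b, a⁆ * (a * b) := by
    rw [commutatorElement_def]; group
  obtain ⟨z, hz⟩ : ∃ z, z = ⁅b, a⁆ := ⟨_, rfl⟩
  have hzc : ∀ c, z * c = c * z := fun c => by rw [hz]; exact hc _ _ _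
  rw [← hz] at h1 ⊢
  calc (a * b) ^ 2 = a * (b * a) * b := by rw [pow_two]; group
    _ = a * (z * (a * b)) * b := by rw [h1]
    _ = a * ((a * b) * z) * b := by rw [hzc]
    _ = a * a * b * (z * b) := by group
    _ = a * a * b * (b * z) := by rw [hzc]
    _ = a ^ 2 * b ^ 2 * z := by rw [pow_two, pow_two]; group

theorem comm_mul_left' (hc : ∀ a b c : G, ⁅a, b⁆ * c = c * ⁅a, b⁆) (a b c : G) :
    ⁅a * b, c⁆ = ⁅a, c⁆ * ⁅b, c⁆ := by
  have h1 : ⁅a * b, c⁆ = a * ⁅b, c⁆ * a⁻¹ * ⁅a, c⁆ := by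
    simp only [commutatorElement_def]; group
  rw [h1, ← hc b c a, mul_assoc (⁅b, c⁆), mul_inv_cancel, mul_one, hc]

theorem comm_eq_squares (x y : G) :
    ⁅x, y⁆ = (x * y) ^ 2 * (y⁻¹ * x⁻¹ * y) ^ 2 * (y⁻¹) ^ 2 := by
  rw [commutatorElement_def, pow_two, pow_two, pow_two]; group

theorem comm_mem_of_sq (N : Subgroup G) (h : ∀ x : G, x ^ 2 ∈ N) (x y : G) : ⁅x, y⁆ ∈ N := by
  rw [comm_eq_squares]
  exact N.mul_mem (N.mul_mem (h _) (h _)) (h _)

theorem normal_of_sq (N : Subgroup G) (h : ∀ x : G, x ^ 2 ∈ N) : N.Normal := by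
  refine ⟨fun n hn g => ?_⟩
  have : g * n * g⁻¹ = ⁅g, n⁆ * n := by rw [commutatorElement_def]; group
  rw [this]
  exact N.mul_mem (comm_mem_of_sq N h _ _) hn

end grp

theorem main_lemma {G : Type*} [Group G] [Finite G]
    (hc : ∀ a b c : G, ⁅a, b⁆ * c = c * ⁅a, b⁆) (N₂ N₁ : Subgroup G)
    (h2 : ∀ x : G, x ^ 2 ∈ N₂) (h1 : ∀ x : G, x ^ 2 ∈ N₁)
    {M : Type*} [Group M] [Finite M] (hM : ∀ u : M, u ^ 2 = 1) (π : N₁ →* M)
    (d m : ℕ) (hd : N₂.index = 2 ^ d) (hm : Nat.card M = 2 ^ m) (hlt : 2 * m < d) :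
    ∃ y : G, y ∉ N₂ ∧ π ⟨y ^ 2, h1 y⟩ = 1 := by
  classical
  haveI : N₂.Normal := normal_of_sq N₂ h2
  have hQ : ∀ q : G ⧸ N₂, q ^ 2 = 1 := by
    intro q
    induction q using QuotientGroup.induction_on with
    | H x =>
      rw [← QuotientGroup.mk_pow, QuotientGroup.eq_one_iff]
      exact h2 x
  obtain ⟨d', hd', ψ, hψb, hψ⟩ := coords hQ
  obtain ⟨m', hm', φ, hφb, hφ⟩ := coords hM
  have hdd : d' = d := by
    have : (2 : ℕ) ^ d' = 2 ^ d := by rw [← hd', ← hd]; rfl
    exact Nat.pow_right_injective (le_refl 2) this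
  have hmm : m' = m := by
    have : (2 : ℕ) ^ m' = 2 ^ m := by rw [← hm', ← hm]
    exact Nat.pow_right_injective (le_refl 2) this
  subst hdd hmm
  have hφ1 : φ 1 = 0 := by
    have := hφ 1 1
    rw [mul_one] at this
    exact left_eq_add.mp this
  have hψ1 : ψ 1 = 0 := by
    have := hψ 1 1
    rw [mul_one] at this
    exact left_eq_add.mp this
  have hcmN : ∀ x y : G, ⁅x, y⁆ ∈ N₁ := comm_mem_of_sq N₁ h1
  let sq : G → (Fin m' → ZMod 2) := fun x => φ (π ⟨x ^ 2, h1 x⟩)
  let cm : G → G → (Fin m' → ZMod 2) := fun x y => φ (π ⟨⁅x, y⁆, hcmN x y⟩)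
  have Q1 : ∀ a b, sq (a * b) = sq a + sq b + cm b a := by
    intro a b
    have : (⟨(a * b) ^ 2, h1 _⟩ : N₁) = ⟨a ^ 2, h1 a⟩ * ⟨b ^ 2, h1 b⟩ * ⟨⁅b, a⁆, hcmN b a⟩ :=
      Subtype.ext (sq_mul hc a b)
    change φ (π ⟨(a * b) ^ 2, h1 _⟩) = _
    rw [this, map_mul, map_mul, hφ, hφ]
  have Q2 : sq 1 = 0 := by
    have : (⟨(1 : G) ^ 2, h1 _⟩ : N₁) = 1 := Subtype.ext (one_pow 2)
    change φ (π ⟨(1 : G) ^ 2, h1 _⟩) = _
    rw [this, map_one, hφ1]
  have Q3 : ∀ a b c, cm (a * b) c = cm a c + cm b c := by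
    intro a b c
    have : (⟨⁅a * b, c⁆, hcmN _ _⟩ : N₁) = ⟨⁅a, c⁆, hcmN a c⟩ * ⟨⁅b, c⁆, hcmN b c⟩ :=
      Subtype.ext (comm_mul_left' hc a b c)
    change φ (π ⟨⁅a * b, c⁆, hcmN _ _⟩) = _
    rw [this, map_mul, hφ]
  have Q3' : ∀ c, cm 1 c = 0 := by
    intro c
    have : (⟨⁅(1 : G), c⁆, hcmN _ _⟩ : N₁) = 1 := Subtype.ext (commutatorElement_one_left c)
    change φ (π ⟨⁅(1 : G), c⁆, hcmN _ _⟩) = _
    rw [this, map_one, hφ1]
  have Q4 : ∀ a, cm a 1 = 0 := by
    intro a
    have : (⟨⁅a, (1 : G)⁆, hcmN _ _⟩ : N₁) = 1 := Subtype.ext (commutatorElement_one_right a)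
    change φ (π ⟨⁅a, (1 : G)⁆, hcmN _ _⟩) = _
    rw [this, map_one, hφ1]
  have hx : ∀ i : Fin d', ∃ g : G, ψ (QuotientGroup.mk g) = Pi.single i 1 := by
    intro i
    obtain ⟨q, hq⟩ := hψb.2 (Pi.single i 1)
    obtain ⟨g, rfl⟩ := QuotientGroup.mk_surjective q
    exact ⟨g, hq⟩
  choose x hx using hx
  obtain ⟨e, he0, he⟩ := cw_quad d' m' (fun i k => sq (x i) k) (fun i j k => cm (x j) (x i) k) hlt
  refine ⟨eprod x e, ?_, ?_⟩
  · intro hmem
    have h3 := add_eprod (fun g => ψ (QuotientGroup.mk g : G ⧸ N₂))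
      (fun a b => by simp only [QuotientGroup.mk_mul, hψ])
      (by simp only [QuotientGroup.mk_one, hψ1]) x e
    simp only [hx] at h3
    rw [(QuotientGroup.eq_one_iff _).mpr hmem, hψ1] at h3
    apply he0
    funext k
    have h4 := congrFun h3 k
    simp only [Pi.zero_apply, Finset.sum_apply, Pi.smul_apply, Pi.single_apply, smul_eq_mul,
      mul_ite, mul_one, mul_zero, Finset.sum_ite_eq, Finset.mem_univ, if_true] at h4
    simpa using h4.symm
  · have h5 := quad_eprod sq cm Q1 Q2 Q3 Q3' Q4 x e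
    have h6 : sq (eprod x e) = 0 := by
      rw [h5]
      funext k
      have := he k
      simp only [Pi.add_apply, Finset.sum_apply, Pi.smul_apply, smul_eq_mul, Pi.zero_apply]
      rw [← this]
      congr 1
      refine Finset.sum_congr rfl (fun i _ => Finset.sum_congr rfl (fun j _ => ?_))
      split_ifs <;> simp
    have h7 : φ (π ⟨eprod x e ^ 2, h1 _⟩) = φ 1 := by rw [hφ1]; exact h6
    exact hφb.1 h7

/-- Let G be a finite 2-group of nilpotency class at most 2 and exponent dividing 4 in which the elements x with x² = 1 form a subgroup N. Then |G| ≤ |N|³, and |G| < |N|³ unless G is special. -/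
theorem result {G : Type*} [Group G] [Finite G] (hG : IsPGroup 2 G) (hcl : (⊤ : Subgroup G).lowerCentralSeries 2 = ⊥) (hexp : ∀ x : G, x ^ 4 = 1) (hN : ∀ x y : G, x ^ 2 = 1 → y ^ 2 = 1 → (x * y) ^ 2 = 1) : Nat.card G ≤ Nat.card {x : G // x ^ 2 = 1} ^ 3 ∧ (¬ Cfsg.IsSpecial 2 G → Nat.card G < Nat.card {x : G // x ^ 2 = 1} ^ 3) := by
  classical
  haveI : Fact (Nat.Prime 2) := ⟨Nat.prime_two⟩
  have hc : ∀ a b c : G, ⁅a, b⁆ * c = c * ⁅a, b⁆ := by
    intro a b g
    have h1 : ⁅⁅a, b⁆, g⁆ ∈ (⊤ : Subgroup G).lowerCentralSeries 2 := by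
      rw [Subgroup.lowerCentralSeries_succ]
      apply Subgroup.commutator_mem_commutator _ (Subgroup.mem_top g)
      rw [Subgroup.top_lowerCentralSeries_one, _root_.commutator_def]
      exact Subgroup.commutator_mem_commutator (Subgroup.mem_top a) (Subgroup.mem_top b)
    rw [hcl, Subgroup.mem_bot] at h1
    exact commutatorElement_eq_one_iff_mul_comm.mp h1
  let N : Subgroup G :=
    { carrier := {x | x ^ 2 = 1}
      mul_mem' := fun {a b} ha hb => hN a b ha hb
      one_mem' := one_pow 2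
      inv_mem' := fun {a} ha => by
        change (a⁻¹) ^ 2 = 1
        rw [inv_pow, ha, inv_one] }
  have hmemN : ∀ x : G, x ∈ N ↔ x ^ 2 = 1 := fun x => Iff.rfl
  have hNcard : Nat.card {x : G // x ^ 2 = 1} = Nat.card N := rfl
  have hsqN : ∀ x : G, x ^ 2 ∈ N := fun x => by
    rw [hmemN, ← pow_mul]; exact hexp x
  have hNexp : ∀ u : N, u ^ 2 = 1 := fun u => Subtype.ext ((hmemN _).mp u.2)
  obtain ⟨m, hm⟩ := IsPGroup.iff_card.1 (hG.to_subgroup N)
  haveI hNn : N.Normal := normal_of_sq N hsqN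
  obtain ⟨d, hd⟩ : ∃ d, N.index = 2 ^ d := IsPGroup.iff_card.1 (hG.to_quotient N)
  have hGcard : Nat.card G = 2 ^ (d + m) := by
    rw [← N.index_mul_card, hd, hm, pow_add]
  have hdm : d ≤ 2 * m := by
    by_contra hlt
    push Not at hlt
    obtain ⟨y, hy, hy2⟩ := main_lemma hc N N hsqN hsqN hNexp (MonoidHom.id N) d m hd hm hlt
    apply hy
    rw [hmemN]
    exact congrArg Subtype.val hy2
  refine ⟨?_, ?_⟩
  · rw [hNcard, hGcard, hm, ← pow_mul]
    exact Nat.pow_le_pow_right two_pos (by omega)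
  · intro hns
    rw [hNcard, hGcard, hm, ← pow_mul]
    apply Nat.pow_lt_pow_right (by norm_num)
    by_contra hge
    have hd2 : d = 2 * m := by omega
    apply hns
    have hDN : commutator G ≤ N := by
      rw [_root_.commutator_def, Subgroup.commutator_le]
      intro a _ b _
      exact comm_mem_of_sq N hsqN a b
    -- the Frattini subgroup
    have hΦ : frattini G = N := by
      have hle : frattini G ≤ N :=
        Cfsg.Agent.helper1.frattini_le_of_elemAb_quot (p := 2) N hDN hsqN
      obtain ⟨m', hm'⟩ := IsPGroup.iff_card.1 (hG.to_subgroup (frattini G))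
      have hΦsq : ∀ x : G, x ^ 2 ∈ frattini G :=
        fun x => Cfsg.Agent.helper1.pow_mem_frattini_of_isPGroup hG x
      have hΦexp : ∀ u : frattini G, u ^ 2 = 1 :=
        fun u => Subtype.ext ((hmemN _).mp (hle u.2))
      have h1 : d ≤ 2 * m' := by
        by_contra hlt
        push Not at hlt
        obtain ⟨y, hy, hy2⟩ := main_lemma hc N (frattini G) hsqN hΦsq hΦexp
          (MonoidHom.id _) d m' hd hm' hlt
        apply hy
        rw [hmemN]
        exact congrArg Subtype.val hy2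
      apply Subgroup.eq_of_le_of_card_ge hle
      rw [hm, hm']
      exact Nat.pow_le_pow_right two_pos (by omega)
    -- the derived subgroup
    have hD : commutator G = N := by
      obtain ⟨m2, hm2⟩ := IsPGroup.iff_card.1 (hG.to_subgroup (commutator G))
      by_contra hne
      have hlt2 : m2 < m := by
        by_contra hge
        push Not at hge
        apply hne
        apply Subgroup.eq_of_le_of_card_ge hDN
        rw [hm, hm2]
        exact Nat.pow_le_pow_right two_pos hge
      obtain ⟨D, hDdef⟩ : ∃ D : Subgroup G, D = commutator G := ⟨_, rfl⟩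
      haveI hDn : D.Normal := by rw [hDdef]; infer_instance
      rw [← hDdef] at hDN hm2
      have hcD : ∀ a b : G, ⁅a, b⁆ ∈ D := fun a b => by
        rw [hDdef, _root_.commutator_def]
        exact Subgroup.commutator_mem_commutator (Subgroup.mem_top a) (Subgroup.mem_top b)
      let K : Subgroup G :=
        { carrier := {x | x ^ 2 ∈ D}
          mul_mem' := fun {a b} ha hb => by
            change (a * b) ^ 2 ∈ D
            rw [sq_mul hc]
            exact D.mul_mem (D.mul_mem ha hb) (hcD b a)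
          one_mem' := by
            change (1 : G) ^ 2 ∈ D
            rw [one_pow]; exact D.one_mem
          inv_mem' := fun {a} ha => by
            change (a⁻¹) ^ 2 ∈ D
            rw [inv_pow]; exact D.inv_mem ha }
      have hmemK : ∀ x, x ∈ K ↔ x ^ 2 ∈ D := fun x => Iff.rfl
      have hNK : N ≤ K := fun x hx => by
        rw [hmemK, (hmemN x).mp hx]; exact D.one_mem
      have hDK : D ≤ K := hDN.trans hNK
      -- the squaring homomorphism modulo D
      let s : G →* N ⧸ D.subgroupOf N := MonoidHom.mk'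
        (fun x => (QuotientGroup.mk (⟨x ^ 2, hsqN x⟩ : N) : N ⧸ D.subgroupOf N))
        (fun a b => by
          have h1 : (⟨(a * b) ^ 2, hsqN _⟩ : N) =
              ⟨a ^ 2, hsqN a⟩ * ⟨b ^ 2, hsqN b⟩ * ⟨⁅b, a⁆, hDN (hcD b a)⟩ :=
            Subtype.ext (sq_mul hc a b)
          have h2 : (QuotientGroup.mk (⟨⁅b, a⁆, hDN (hcD b a)⟩ : N) : N ⧸ D.subgroupOf N) = 1 := by
            rw [QuotientGroup.eq_one_iff, Subgroup.mem_subgroupOf]
            exact hcD b a
          change (QuotientGroup.mk (⟨(a * b) ^ 2, hsqN _⟩ : N) : N ⧸ D.subgroupOf N) = _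
          rw [h1, QuotientGroup.mk_mul, QuotientGroup.mk_mul, h2, mul_one])
      have hker : s.ker = K := by
        ext x
        rw [MonoidHom.mem_ker, hmemK]
        change (QuotientGroup.mk (⟨x ^ 2, hsqN x⟩ : N) : N ⧸ D.subgroupOf N) = 1 ↔ _
        rw [QuotientGroup.eq_one_iff, Subgroup.mem_subgroupOf]
      have hKidx : K.index * 2 ^ m2 ≤ 2 ^ m := by
        have h1 : K.index ≤ D.relIndex N := by
          rw [← hker, Subgroup.index_ker]
          exact Subgroup.card_le_card_group _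
        have h2 : D.relIndex N * 2 ^ m2 = 2 ^ m := by
          have := Subgroup.relIndex_mul_relIndex ⊥ D N bot_le hDN
          rw [Subgroup.relIndex_bot_left, Subgroup.relIndex_bot_left, hm, hm2] at this
          rw [mul_comm]; exact this
        calc K.index * 2 ^ m2 ≤ D.relIndex N * 2 ^ m2 := Nat.mul_le_mul_right _ h1
          _ = 2 ^ m := h2
      obtain ⟨dK, hdK⟩ : ∃ dK, (N.subgroupOf K).index = 2 ^ dK :=
        IsPGroup.iff_card.1 ((hG.to_subgroup K).to_quotient (N.subgroupOf K))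
      have hrel : 2 ^ dK * K.index = 2 ^ d := by
        have := Subgroup.relIndex_mul_index hNK
        rw [hd] at this
        rw [← hdK]; exact this
      have hdK2 : 2 * m2 < dK := by
        have h1 : 2 ^ (d + m2) ≤ 2 ^ (dK + m) := by
          calc 2 ^ (d + m2) = 2 ^ dK * (K.index * 2 ^ m2) := by
                rw [pow_add, ← hrel, mul_assoc]
            _ ≤ 2 ^ dK * 2 ^ m := Nat.mul_le_mul_left _ hKidx
            _ = 2 ^ (dK + m) := (pow_add _ _ _).symm
        have h2 := (Nat.pow_le_pow_iff_right (by norm_num : 1 < 2)).mp h1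
        omega
      have hcK : ∀ a b c : K, ⁅a, b⁆ * c = c * ⁅a, b⁆ := fun a b c => Subtype.ext (hc a b c)
      have h2K : ∀ x : K, x ^ 2 ∈ N.subgroupOf K := fun x => by
        rw [Subgroup.mem_subgroupOf, Subgroup.coe_pow]; exact hsqN x
      have h1K : ∀ x : K, x ^ 2 ∈ D.subgroupOf K := fun x => by
        rw [Subgroup.mem_subgroupOf, Subgroup.coe_pow]; exact x.2
      have hMK : ∀ u : D.subgroupOf K, u ^ 2 = 1 := fun u => by
        apply Subtype.ext
        apply Subtype.ext
        have : ((u : K) : G) ∈ N := hDN (Subgroup.mem_subgroupOf.mp u.2)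
        exact (hmemN _).mp this
      have hcardDK : Nat.card (D.subgroupOf K) = 2 ^ m2 := by
        rw [← hm2]
        exact Nat.card_congr (Subgroup.subgroupOfEquivOfLe hDK).toEquiv
      obtain ⟨y, hy, hy2⟩ := main_lemma hcK (N.subgroupOf K) (D.subgroupOf K) h2K h1K hMK
        (MonoidHom.id _) dK m2 hdK hcardDK hdK2
      apply hy
      rw [Subgroup.mem_subgroupOf, hmemN]
      have := congrArg (fun u : D.subgroupOf K => ((u : K) : G)) hy2
      simpa using this
    -- the centre
    have hZ : Subgroup.center G = N := by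
      have hNZ : N ≤ Subgroup.center G := by
        rw [← hD, _root_.commutator_def, Subgroup.commutator_le]
        intro a _ b _
        rw [Subgroup.mem_center_iff]
        intro g
        exact (hc a b g).symm
      apply le_antisymm _ hNZ
      intro z hz
      by_contra hzN
      have hz2N : z ^ 2 ∈ N := hsqN z
      have hz2ne : z ^ 2 ≠ 1 := fun h => hzN ((hmemN z).mpr h)
      have hz22 : (z ^ 2) ^ 2 = 1 := (hmemN _).mp hz2N
      have hord : orderOf (z ^ 2) = 2 := orderOf_eq_prime hz22 hz2ne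
      obtain ⟨Zs, hZs⟩ : ∃ Zs : Subgroup G, Zs = Subgroup.zpowers (z ^ 2) := ⟨_, rfl⟩
      have hZsN : Zs ≤ N := by rw [hZs, Subgroup.zpowers_le]; exact hz2N
      have hZsC : Zs ≤ Subgroup.center G := by
        rw [hZs, Subgroup.zpowers_le]; exact Subgroup.pow_mem _ hz 2
      have hZscard : Nat.card Zs = 2 := by rw [hZs, Nat.card_zpowers, hord]
      haveI hZsn : Zs.Normal := by
        refine ⟨fun n hn g => ?_⟩
        have h1 := Subgroup.mem_center_iff.mp (hZsC hn) g
        have : g * n * g⁻¹ = n := by rw [h1, mul_inv_cancel_right]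
        rwa [this]
      have hrel : Zs.relIndex N * 2 = 2 ^ m := by
        have := Subgroup.relIndex_mul_relIndex ⊥ Zs N bot_le hZsN
        rw [Subgroup.relIndex_bot_left, Subgroup.relIndex_bot_left, hm, hZscard] at this
        rw [mul_comm]; exact this
      have hm1 : 1 ≤ m := by
        by_contra h0
        have : m = 0 := by omega
        rw [this] at hrel
        omega
      have hMcard : Nat.card (N ⧸ Zs.subgroupOf N) = 2 ^ (m - 1) := by
        have h1 : Nat.card (N ⧸ Zs.subgroupOf N) = Zs.relIndex N := rfl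
        rw [h1]
        have h2 : (2 : ℕ) ^ m = 2 ^ (m - 1) * 2 := by
          rw [← pow_succ]; congr 1; omega
        rw [h2] at hrel
        exact Nat.eq_of_mul_eq_mul_right two_pos hrel
      have hMexp : ∀ q : N ⧸ Zs.subgroupOf N, q ^ 2 = 1 := by
        intro q
        induction q using QuotientGroup.induction_on with
        | H u => rw [← QuotientGroup.mk_pow, hNexp u, QuotientGroup.mk_one]
      -- the subgroup N⟨z⟩
      obtain ⟨H, hH⟩ : ∃ H : Subgroup (G ⧸ N), H = Subgroup.zpowers (QuotientGroup.mk z : G ⧸ N) :=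
        ⟨_, rfl⟩
      have hzq2 : (QuotientGroup.mk z : G ⧸ N) ^ 2 = 1 := by
        rw [← QuotientGroup.mk_pow, QuotientGroup.eq_one_iff]; exact hz2N
      have hzqne : (QuotientGroup.mk z : G ⧸ N) ≠ 1 := fun h =>
        hzN ((QuotientGroup.eq_one_iff _).mp h)
      have hHcard : Nat.card H = 2 := by
        rw [hH, Nat.card_zpowers, orderOf_eq_prime hzq2 hzqne]
      have hHidx : H.index = 2 ^ (d - 1) := by
        have h1 := H.index_mul_card
        rw [hHcard] at h1
        have h2 : Nat.card (G ⧸ N) = 2 ^ d := hd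
        rw [h2] at h1
        have h3 : (2 : ℕ) ^ d = 2 ^ (d - 1) * 2 := by
          rw [← pow_succ]; congr 1; omega
        rw [h3] at h1
        exact Nat.eq_of_mul_eq_mul_right two_pos h1
      obtain ⟨N₂, hN₂⟩ : ∃ N₂ : Subgroup G, N₂ = H.comap (QuotientGroup.mk' N) := ⟨_, rfl⟩
      have hN₂idx : N₂.index = 2 ^ (d - 1) := by
        rw [hN₂, Subgroup.index_comap_of_surjective _ (QuotientGroup.mk'_surjective N), hHidx]
      have h2' : ∀ x : G, x ^ 2 ∈ N₂ := by
        intro x
        rw [hN₂, Subgroup.mem_comap]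
        have : (QuotientGroup.mk' N) (x ^ 2) = 1 := by
          rw [QuotientGroup.mk'_apply, QuotientGroup.eq_one_iff]; exact hsqN x
        rw [this]; exact H.one_mem
      obtain ⟨y, hy, hy2⟩ := main_lemma hc N₂ N h2' hsqN hMexp
        (QuotientGroup.mk' (Zs.subgroupOf N)) (d - 1) (m - 1) hN₂idx hMcard (by omega)
      rw [QuotientGroup.mk'_apply, QuotientGroup.eq_one_iff, Subgroup.mem_subgroupOf] at hy2
      change y ^ 2 ∈ Zs at hy2
      rw [hZs, Subgroup.mem_zpowers_iff] at hy2
      obtain ⟨k, hk⟩ := hy2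
      have hwc : z ^ k ∈ Subgroup.center G := Subgroup.zpow_mem _ hz k
      have hcomm : Commute y (z ^ k)⁻¹ := by
        have := Subgroup.mem_center_iff.mp (Subgroup.inv_mem _ hwc) y
        exact this
      have hyw : y * (z ^ k)⁻¹ ∈ N := by
        rw [hmemN, hcomm.mul_pow, ← hk]
        group
      apply hy
      rw [hN₂, Subgroup.mem_comap, hH, QuotientGroup.mk'_apply]
      have h5 : (QuotientGroup.mk y : G ⧸ N) = (QuotientGroup.mk z : G ⧸ N) ^ k := by
        rw [← QuotientGroup.mk_zpow, QuotientGroup.eq]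
        have : y⁻¹ * z ^ k = (y * (z ^ k)⁻¹)⁻¹ := by
          rw [mul_inv_rev, inv_inv]
          exact (Subgroup.mem_center_iff.mp hwc y⁻¹)
        rw [this]
        exact N.inv_mem hyw
      rw [h5]
      exact Subgroup.zpow_mem_zpowers _ k
    exact ⟨hG, by rw [hΦ, hZ], by rw [hD, hZ]⟩

end Cfsg.Agent.S3773
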