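import Mathlib
import Cfsg.Prelude.Def_CaseTheorems
import Cfsg.Agent.S3773
import Cfsg.Agent.Lib_helper7_Coprime

set_option autoImplicit false
open scoped commutatorElement

namespace Cfsg.Agent.helper18.R2A

variable {X : Type*} [Group X]

theorem conj_mem_closure {S : Set X} {g : X} (h1 : ∀ s ∈ S, g * s * g⁻¹ ∈ S) :
    ∀ x ∈ Subgroup.closure S, g * x * g⁻¹ ∈ Subgroup.closure S := by
  intro x hx
  induction hx using Subgroup.closure_induction with
  | mem s hs => exact Subgroup.subset_closure (h1 s hs)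
  | one => simp
  | mul a b _ _ ha hb =>
    have : g * (a * b) * g⁻¹ = (g * a * g⁻¹) * (g * b * g⁻¹) := by group
    rw [this]; exact Subgroup.mul_mem _ ha hb
  | inv a _ ha =>
    have : g * a⁻¹ * g⁻¹ = (g * a * g⁻¹)⁻¹ := by group
    rw [this]; exact Subgroup.inv_mem _ ha

theorem mem_normalizer_of_conj {T : Subgroup X} {g : X} (h1 : ∀ x ∈ T, g * x * g⁻¹ ∈ T)
    (h2 : ∀ x ∈ T, g⁻¹ * x * g ∈ T) : g ∈ Subgroup.normalizer (T : Set X) := by
  rw [Subgroup.mem_normalizer_iff]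
  intro x
  constructor
  · exact h1 x
  · intro hx
    have := h2 _ hx
    have e : g⁻¹ * (g * x * g⁻¹) * g = x := by group
    rw [e] at this; exact this

theorem mem_normalizer_closure {S : Set X} {g : X} (h1 : ∀ s ∈ S, g * s * g⁻¹ ∈ S)
    (h2 : ∀ s ∈ S, g⁻¹ * s * g ∈ S) :
    g ∈ Subgroup.normalizer ((Subgroup.closure S : Subgroup X) : Set X) := by
  apply mem_normalizer_of_conj
  · exact conj_mem_closure h1
  · intro x hx
    have h2' : ∀ s ∈ S, g⁻¹ * s * g⁻¹⁻¹ ∈ S := by intro s hs; rw [inv_inv]; exact h2 s hs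
    have := conj_mem_closure h2' _ hx
    rw [inv_inv] at this; exact this

theorem conj_mem_of_normalizer {R : Subgroup X} {g x : X}
    (hg : g ∈ Subgroup.normalizer (R : Set X)) (hx : x ∈ R) : g * x * g⁻¹ ∈ R :=
  (Subgroup.mem_normalizer_iff.1 hg x).1 hx

theorem conj_mem_of_normalizer' {R : Subgroup X} {g x : X}
    (hg : g ∈ Subgroup.normalizer (R : Set X)) (hx : x ∈ R) : g⁻¹ * x * g ∈ R := by
  apply (Subgroup.mem_normalizer_iff.1 hg (g⁻¹ * x * g)).2
  have e : g * (g⁻¹ * x * g) * g⁻¹ = x := by group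
  rw [e]; exact hx

theorem commute_conj_iff {c g x : X} (hg : Commute c g) :
    Commute c (g * x * g⁻¹) ↔ Commute c x := by
  constructor
  · intro h
    have := (hg.inv_right.mul_right h).mul_right hg
    have e : g⁻¹ * (g * x * g⁻¹) * g = x := by group
    rw [e] at this; exact this
  · intro h
    exact (hg.mul_right h).mul_right hg.inv_right

/-! ### orbit counting -/

theorem dvd_card_of_forall_dvd_index {Γ α : Type*} [Group Γ] [MulAction Γ α] [Finite α] (k : ℕ)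
    (h : ∀ a : α, k ∣ (MulAction.stabilizer Γ a).index) : k ∣ Nat.card α := by
  classical
  haveI : Fintype (Quotient (MulAction.orbitRel Γ α)) := Fintype.ofFinite _
  rw [Nat.card_congr (MulAction.selfEquivSigmaOrbits Γ α), Nat.card_sigma]
  apply Finset.dvd_sum
  intro ω _
  rw [Nat.card_coe_set_eq, ← MulAction.index_stabilizer]
  exact h _

theorem nine_dvd_card {Γ α : Type*} [Group Γ] [Finite Γ] [MulAction Γ α] [Finite α]
    (hcomm : ∀ a b : Γ, a * b = b * a) (n : ℕ) (hΓ : Nat.card Γ = 3 ^ n) (g : Γ)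
    (h : ∀ a : α, g ^ 3 • a ≠ a) : 9 ∣ Nat.card α := by
  apply dvd_card_of_forall_dvd_index (Γ := Γ)
  intro a
  set H := MulAction.stabilizer Γ a with hH
  haveI : H.Normal :=
    ⟨fun x hx y => by rw [hcomm y x, mul_assoc, mul_inv_cancel, mul_one]; exact hx⟩
  have hdvd : H.index ∣ 3 ^ n := by rw [← hΓ]; exact Subgroup.index_dvd_card H
  obtain ⟨i, hi, hidx⟩ := (Nat.dvd_prime_pow Nat.prime_three).1 hdvd
  have hmem : g ^ H.index ∈ H := Subgroup.pow_index_mem H g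
  by_cases h2 : 2 ≤ i
  · rw [hidx]
    have : (9 : ℕ) = 3 ^ 2 := by norm_num
    rw [this]; exact pow_dvd_pow 3 h2
  · exfalso
    have hi' : i = 0 ∨ i = 1 := by omega
    apply h a
    rcases hi' with rfl | rfl
    · rw [hidx, pow_zero, pow_one] at hmem
      have : g ^ 3 ∈ H := H.pow_mem hmem 3
      exact MulAction.mem_stabilizer_iff.1 this
    · rw [hidx, pow_one] at hmem
      exact MulAction.mem_stabilizer_iff.1 hmem

/-! ### the cube of a 3-element centralizes a normalized group of order 4 -/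

theorem cube_centralizes [Finite X] (d : X) (n : ℕ) (hn : 1 ≤ n) (hd : d ^ (3 ^ n) = 1)
    (Z : Subgroup X) (hZ : Nat.card Z = 4) (hdZ : d ∈ Subgroup.normalizer (Z : Set X)) :
    ∀ z ∈ Z, d ^ 3 * z = z * d ^ 3 := by
  let NZ : Subgroup X := Subgroup.normalizer (Z : Set X)
  let H : Subgroup NZ := Z.subgroupOf NZ
  haveI : H.Normal := Subgroup.normal_in_normalizer
  let d' : NZ := ⟨d, hdZ⟩
  let σ : MulAut H := MulAut.conjNormal d'
  have hcardH : Nat.card H = 4 := by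
    rw [← hZ]
    exact Nat.card_congr (Subgroup.subgroupOfEquivOfLe Subgroup.le_normalizer).toEquiv
  have h1 : σ ^ (3 ^ n) = 1 := by
    have : d' ^ (3 ^ n) = 1 := Subtype.ext (by simpa using hd)
    show (MulAut.conjNormal d') ^ (3 ^ n) = 1
    rw [← map_pow, this, map_one]
  have h2 : σ ^ 24 = 1 := by
    have hdvd : Nat.card (MulAut H) ∣ 24 := by
      have hinj : Function.Injective (MulAut.toPerm H) := by
        intro a b hab
        apply MulEquiv.ext
        intro x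
        exact DFunLike.congr_fun hab x
      have := Subgroup.card_dvd_of_injective (MulAut.toPerm H) hinj
      rw [Nat.card_perm, hcardH] at this
      exact this
    obtain ⟨c, hc⟩ := hdvd
    rw [hc, pow_mul, pow_card_eq_one', one_pow]
  have h3 : σ ^ 3 = 1 := by
    have hg : Nat.gcd 24 (3 ^ n) = 3 := by
      obtain ⟨m, rfl⟩ : ∃ m, n = m + 1 := ⟨n - 1, by omega⟩
      have h8 : Nat.Coprime 8 (3 ^ m) := (by norm_num : Nat.Coprime 8 3).pow_right m
      have : Nat.gcd (8 * 3) (3 ^ m * 3) = Nat.gcd 8 (3 ^ m) * 3 := Nat.gcd_mul_right 8 3 (3 ^ m)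
      rw [pow_succ]
      rw [show (24 : ℕ) = 8 * 3 by norm_num, this, h8.gcd_eq_one]
    have : σ ^ (Nat.gcd 24 (3 ^ n)) = 1 := pow_gcd_eq_one.2 ⟨h2, h1⟩
    rwa [hg] at this
  intro z hz
  have hzN : z ∈ NZ := Subgroup.le_normalizer hz
  let z' : H := ⟨⟨z, hzN⟩, Subgroup.mem_subgroupOf.2 hz⟩
  have h4 : (MulAut.conjNormal (d' ^ 3)) z' = z' := by
    rw [map_pow]
    show (σ ^ 3) z' = z'
    rw [h3]; rfl
  have h5 : ((MulAut.conjNormal (d' ^ 3) z' : H) : NZ) = d' ^ 3 * (z' : NZ) * (d' ^ 3)⁻¹ :=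
    MulAut.conjNormal_apply _ _
  rw [h4] at h5
  have h6 := congrArg Subtype.val h5
  simp only [Subgroup.coe_mul, Subgroup.coe_inv, Subgroup.coe_pow] at h6
  have h7 : z = d ^ 3 * z * (d ^ 3)⁻¹ := h6
  calc d ^ 3 * z = d ^ 3 * z * (d ^ 3)⁻¹ * d ^ 3 := by group
    _ = z * d ^ 3 := by rw [← h7]

/-! ### the context -/

structure Ctx (X : Type*) [Group X] where
  d : X
  n : ℕ
  hn : 1 ≤ n
  hd : orderOf d = 3 ^ n
  P : Subgroup X
  hP : IsPGroup 2 P
  hdP : d ∈ Subgroup.normalizer (P : Set X)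
  hfpf : P ⊓ Subgroup.centralizer {d} = ⊥
  hrank : ∀ V : Subgroup X, V ≤ P → IsMulCommutative V → Cfsg.PRankLE 2 2 V

namespace Ctx

variable [Finite X] (C : Ctx X)

theorem card_le_four (V : Subgroup X) (hV : V ≤ C.P)
    (hc : ∀ a ∈ V, ∀ b ∈ V, a * b = b * a) (h2 : ∀ a ∈ V, a ^ 2 = 1) : Nat.card V ≤ 4 := by
  haveI : IsMulCommutative V := ⟨⟨fun a b => Subtype.ext (hc a a.2 b b.2)⟩⟩
  have h := C.hrank V hV inferInstance
  have h3 := h ⊤ ⟨⟨fun a b => Subtype.ext (Subtype.ext (hc _ a.1.2 _ b.1.2))⟩⟩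
    (fun a _ => Subtype.ext (by simpa using h2 a a.2))
  rw [Subgroup.card_top] at h3
  norm_num at h3; exact h3

theorem exists_Z (hP1 : C.P ≠ ⊥) :
    ∃ Z : Subgroup X, Z ≤ C.P ∧ Nat.card Z = 4 ∧
      C.d ∈ Subgroup.normalizer (Z : Set X) ∧ (∀ z ∈ Z, z ^ 2 = 1) ∧
      (∀ t ∈ C.P, t ^ 2 = 1 → t ∈ Z) := by
  classical
  haveI : Fact (Nat.Prime 2) := ⟨Nat.prime_two⟩
  let Z : Subgroup X :=
    { carrier := {z | z ∈ C.P ∧ z ∈ Subgroup.centralizer (C.P : Set X) ∧ z ^ 2 = 1}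
      one_mem' := ⟨C.P.one_mem, Subgroup.one_mem _, one_pow 2⟩
      mul_mem' := by
        rintro a b ⟨ha, hac, ha2⟩ ⟨hb, hbc, hb2⟩
        refine ⟨C.P.mul_mem ha hb, Subgroup.mul_mem _ hac hbc, ?_⟩
        have hcomm : Commute a b := (Subgroup.mem_centralizer_iff.1 hbc) a ha
        rw [hcomm.mul_pow, ha2, hb2, one_mul]
      inv_mem' := by
        rintro a ⟨ha, hac, ha2⟩
        exact ⟨C.P.inv_mem ha, Subgroup.inv_mem _ hac, by rw [inv_pow, ha2, inv_one]⟩ }
  have hZP : Z ≤ C.P := fun z hz => hz.1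
  have hZ2 : ∀ z ∈ Z, z ^ 2 = 1 := fun z hz => hz.2.2
  have hZcomm : ∀ a ∈ Z, ∀ b ∈ Z, a * b = b * a := fun a ha b hb =>
    (Subgroup.mem_centralizer_iff.1 hb.2.1) a ha.1
  have hconj : ∀ g ∈ Subgroup.normalizer (C.P : Set X), ∀ z ∈ Z, g * z * g⁻¹ ∈ Z := by
    intro g hg z hz
    refine ⟨conj_mem_of_normalizer hg hz.1, ?_, ?_⟩
    · rw [Subgroup.mem_centralizer_iff]
      intro p hp
      have hp' : g⁻¹ * p * g ∈ C.P := conj_mem_of_normalizer' hg hp
      have := (Subgroup.mem_centralizer_iff.1 hz.2.1) _ hp'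
      calc p * (g * z * g⁻¹) = g * ((g⁻¹ * p * g) * z) * g⁻¹ := by group
        _ = g * (z * (g⁻¹ * p * g)) * g⁻¹ := by rw [this]
        _ = g * z * g⁻¹ * p := by group
    · rw [conj_pow, hz.2.2]; group
  have hdZ : C.d ∈ Subgroup.normalizer (Z : Set X) := by
    apply mem_normalizer_of_conj
    · exact hconj _ C.hdP
    · intro x hx
      have := hconj _ (Subgroup.inv_mem _ C.hdP) x hx
      rw [inv_inv] at this; exact this
  have hZne : Z ≠ ⊥ := by
    haveI : Nontrivial C.P := (Subgroup.nontrivial_iff_ne_bot _).2 hP1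
    haveI := C.hP.center_nontrivial
    obtain ⟨c, hc1⟩ := exists_ne (1 : Subgroup.center C.P)
    let ZP : Subgroup X := C.P ⊓ Subgroup.centralizer (C.P : Set X)
    have hcZP : ((c : C.P) : X) ∈ ZP := by
      refine Subgroup.mem_inf.2 ⟨(c : C.P).2, ?_⟩
      rw [Subgroup.mem_centralizer_iff]
      intro p hp
      have := (Subgroup.mem_center_iff.1 c.2) ⟨p, hp⟩
      exact congrArg Subtype.val this
    have hZP1 : ZP ≠ ⊥ := by
      intro h
      rw [h, Subgroup.mem_bot] at hcZP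
      apply hc1
      apply Subtype.ext
      apply Subtype.ext
      simpa using hcZP
    have hZP2 : IsPGroup 2 ZP := C.hP.to_le inf_le_left
    obtain ⟨k, hk⟩ := (IsPGroup.iff_card).1 hZP2
    have hk0 : k ≠ 0 := by
      rintro rfl
      rw [pow_zero] at hk
      exact hZP1 ((Subgroup.card_eq_one).1 hk)
    have h2dvd : 2 ∣ Nat.card ZP := by rw [hk]; exact dvd_pow_self 2 hk0
    obtain ⟨z, hz⟩ := exists_prime_orderOf_dvd_card' 2 h2dvd
    have hz1 : (z : X) ≠ 1 := by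
      intro h
      have : z = 1 := Subtype.ext h
      rw [this, orderOf_one] at hz; norm_num at hz
    have hzZ : (z : X) ∈ Z := by
      refine ⟨z.2.1, z.2.2, ?_⟩
      have : z ^ 2 = 1 := by rw [← hz]; exact pow_orderOf_eq_one z
      have := congrArg Subtype.val this
      simpa using this
    intro h
    rw [h, Subgroup.mem_bot] at hzZ
    exact hz1 hzZ
  have hZ2g : IsPGroup 2 Z := C.hP.to_le hZP
  obtain ⟨k, hk⟩ := (IsPGroup.iff_card).1 hZ2g
  have hle : Nat.card Z ≤ 4 := C.card_le_four Z hZP hZcomm hZ2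
  have hk0 : k ≠ 0 := by
    rintro rfl
    rw [pow_zero] at hk
    exact hZne ((Subgroup.card_eq_one).1 hk)
  have hk1 : k ≠ 1 := by
    rintro rfl
    rw [pow_one] at hk
    obtain ⟨y, hy, hyu⟩ := (Nat.card_eq_two_iff' (1 : Z)).1 hk
    have hdy : C.d * (y : X) * C.d⁻¹ ∈ Z := hconj _ C.hdP _ y.2
    have hne : (⟨_, hdy⟩ : Z) ≠ 1 := by
      intro h
      have := congrArg Subtype.val h
      simp only [Subgroup.coe_one, conj_eq_one_iff] at this
      exact hy (Subtype.ext this)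
    have := hyu ⟨_, hdy⟩ hne
    have hyd : C.d * (y : X) * C.d⁻¹ = y := congrArg Subtype.val this
    have hyc : (y : X) ∈ C.P ⊓ Subgroup.centralizer {C.d} := by
      refine Subgroup.mem_inf.2 ⟨hZP y.2, ?_⟩
      rw [Subgroup.mem_centralizer_iff]
      intro h hh
      rw [Set.mem_singleton_iff] at hh
      subst hh
      calc C.d * (y : X) = (C.d * (y : X) * C.d⁻¹) * C.d := by group
        _ = y * C.d := by rw [hyd]
    rw [C.hfpf, Subgroup.mem_bot] at hyc
    exact hy (Subtype.ext hyc)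
  have hk2 : k ≤ 2 := by
    by_contra h
    push Not at h
    have : 2 ^ 3 ≤ 2 ^ k := Nat.pow_le_pow_right (by norm_num) h
    rw [← hk] at this
    omega
  have hcard : Nat.card Z = 4 := by
    have : k = 2 := by omega
    rw [hk, this]; norm_num
  refine ⟨Z, hZP, hcard, hdZ, hZ2, ?_⟩
  intro t ht ht2
  by_contra htZ
  let S : Set X := (Z : Set X) ∪ {t}
  have hScomm : ∀ x ∈ S, ∀ y ∈ S, x * y = y * x := by
    rintro x (hx | hx) y (hy | hy)
    · exact hZcomm x hx y hy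
    · rw [Set.mem_singleton_iff] at hy; subst hy
      exact ((Subgroup.mem_centralizer_iff.1 hx.2.1) y ht).symm
    · rw [Set.mem_singleton_iff] at hx; subst hx
      exact (Subgroup.mem_centralizer_iff.1 hy.2.1) x ht
    · rw [Set.mem_singleton_iff] at hx hy; subst hx; subst hy; rfl
  let V : Subgroup X := Subgroup.closure S
  have hVP : V ≤ C.P := by
    rw [Subgroup.closure_le]
    rintro x (hx | hx)
    · exact hx.1
    · rw [Set.mem_singleton_iff] at hx; subst hx; exact ht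
  have hVS : V ≤ Subgroup.centralizer S := by
    rw [Subgroup.closure_le]
    intro x hx
    exact Subgroup.mem_centralizer_iff.2 (fun h hh => hScomm h hh x hx)
  have hVV : V ≤ Subgroup.centralizer (V : Set X) := by
    rw [Subgroup.closure_le]
    intro s hs
    exact Subgroup.mem_centralizer_iff.2
      (fun v hv => ((Subgroup.mem_centralizer_iff.1 (hVS hv)) s hs).symm)
  have hVc : ∀ a ∈ V, ∀ b ∈ V, a * b = b * a := fun a ha b hb =>
    (Subgroup.mem_centralizer_iff.1 (hVV hb)) a ha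
  have hV2 : ∀ a ∈ V, a ^ 2 = 1 := by
    intro a ha
    induction ha using Subgroup.closure_induction with
    | mem s hs =>
      rcases hs with hs | hs
      · exact hs.2.2
      · rw [Set.mem_singleton_iff] at hs; subst hs; exact ht2
    | one => exact one_pow 2
    | mul a b ha hb iha ihb =>
      have : Commute a b := hVc a ha b hb
      rw [this.mul_pow, iha, ihb, one_mul]
    | inv a _ iha => rw [inv_pow, iha, inv_one]
  have hV4 := C.card_le_four V hVP hVc hV2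
  have hZV : Z ≤ V := fun z hz => Subgroup.subset_closure (Or.inl hz)
  have : Z = V := Subgroup.eq_of_le_of_card_ge hZV (by rw [hcard]; exact hV4)
  apply htZ
  rw [this]
  exact Subgroup.subset_closure (Or.inr rfl)

theorem exists_minimal (hf : ¬ ∀ x ∈ C.P, C.d ^ 3 * x = x * C.d ^ 3) :
    ∃ R : Subgroup X, R ≤ C.P ∧ C.d ∈ Subgroup.normalizer (R : Set X) ∧
      (¬ ∀ x ∈ R, C.d ^ 3 * x = x * C.d ^ 3) ∧
      ∀ T : Subgroup X, T ≤ R → T ≠ R → C.d ∈ Subgroup.normalizer (T : Set X) →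
        ∀ x ∈ T, C.d ^ 3 * x = x * C.d ^ 3 := by
  classical
  let 𝒮 := {R : Subgroup X // R ≤ C.P ∧ C.d ∈ Subgroup.normalizer (R : Set X) ∧
      (¬ ∀ x ∈ R, C.d ^ 3 * x = x * C.d ^ 3)}
  haveI : Nonempty 𝒮 := ⟨⟨C.P, le_rfl, C.hdP, hf⟩⟩
  obtain ⟨R₀, hR₀⟩ := Finite.exists_min (fun R : 𝒮 => Nat.card R.1)
  refine ⟨R₀.1, R₀.2.1, R₀.2.2.1, R₀.2.2.2, ?_⟩
  intro T hT hne hdT
  by_contra h
  have := hR₀ ⟨T, hT.trans R₀.2.1, hdT, h⟩
  exact hne (Subgroup.eq_of_le_of_card_ge hT this)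

end Ctx

/-! ### a minimal subgroup not centralized by `d ^ 3` -/

structure MCtx (X : Type*) [Group X] extends Ctx X where
  R : Subgroup X
  hRP : R ≤ P
  hdR : d ∈ Subgroup.normalizer (R : Set X)
  hRf : ¬ ∀ x ∈ R, d ^ 3 * x = x * d ^ 3
  hmin : ∀ T : Subgroup X, T ≤ R → T ≠ R → d ∈ Subgroup.normalizer (T : Set X) →
    ∀ x ∈ T, d ^ 3 * x = x * d ^ 3

namespace MCtx

variable [Finite X] (M : MCtx X)

def F : Subgroup X := Subgroup.zpowers (M.d ^ 3)

theorem commute_F {h : X} (hh : h ∈ M.F) {x : X} (hx : M.d ^ 3 * x = x * M.d ^ 3) :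
    h * x = x * h := by
  obtain ⟨k, rfl⟩ := Subgroup.mem_zpowers_iff.1 hh
  have : Commute (M.d ^ 3) x := hx
  exact this.zpow_left k

theorem d_commute_F {h : X} (hh : h ∈ M.F) : M.d * h = h * M.d := by
  obtain ⟨k, rfl⟩ := Subgroup.mem_zpowers_iff.1 hh
  exact ((Commute.refl M.d).pow_right 3).zpow_right k

theorem hdF : M.d ∈ Subgroup.normalizer (M.F : Set X) := by
  apply mem_normalizer_of_conj
  · intro x hx
    have := M.d_commute_F hx
    rw [this, mul_assoc, mul_inv_cancel, mul_one]; exact hx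
  · intro x hx
    have := M.d_commute_F hx
    have e : M.d⁻¹ * x * M.d = x := by
      rw [mul_assoc, ← this, ← mul_assoc, inv_mul_cancel, one_mul]
    rw [e]; exact hx

theorem F_le_normalizer : M.F ≤ Subgroup.normalizer (M.R : Set X) :=
  Subgroup.zpowers_le.2 (Subgroup.pow_mem _ M.hdR 3)

theorem zpowers_pgroup : IsPGroup 3 (Subgroup.zpowers M.d) := by
  haveI : Fact (Nat.Prime 3) := ⟨Nat.prime_three⟩
  apply IsPGroup.of_card (n := M.n)
  rw [Nat.card_zpowers, M.hd]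

theorem F_pgroup : IsPGroup 3 M.F :=
  M.zpowers_pgroup.to_le (Subgroup.zpowers_le.2 (Subgroup.pow_mem _ (Subgroup.mem_zpowers _) 3))

theorem R_pgroup : IsPGroup 2 M.R := M.hP.to_le M.hRP

theorem not_three_dvd : ¬ 3 ∣ Nat.card M.R := by
  haveI : Fact (Nat.Prime 2) := ⟨Nat.prime_two⟩
  obtain ⟨a, ha⟩ := (IsPGroup.iff_card).1 M.R_pgroup
  rw [ha]
  intro h
  have := Nat.Prime.dvd_of_dvd_pow Nat.prime_three h
  omega

theorem comm_eq : ⁅M.R, M.F⁆ = M.R := by
  haveI : Fact (Nat.Prime 3) := ⟨Nat.prime_three⟩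
  have hcc := helper7.commutator_commutator_eq (q := 3) (U := M.R) (Q := M.F) M.F_pgroup
    M.F_le_normalizer M.not_three_dvd
  by_contra hne
  have hT : ⁅M.R, M.F⁆ ≤ M.R := helper7.commutator_le_of_normalizer M.F_le_normalizer
  have hdT : M.d ∈ Subgroup.normalizer ((⁅M.R, M.F⁆ : Subgroup X) : Set X) :=
    helper7.mem_normalizer_commutator M.hdR M.hdF
  have hcen := M.hmin _ hT hne hdT
  have h1 : ⁅⁅M.R, M.F⁆, M.F⁆ = ⊥ := by
    rw [Subgroup.commutator_eq_bot_iff_le_centralizer]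
    intro t ht
    rw [Subgroup.mem_centralizer_iff]
    intro h hh
    exact M.commute_F hh (hcen t ht)
  rw [hcc] at h1
  apply M.hRf
  intro x hx
  rw [Subgroup.commutator_eq_bot_iff_le_centralizer] at h1
  exact (Subgroup.mem_centralizer_iff.1 (h1 hx)) (M.d ^ 3) (Subgroup.mem_zpowers _)

theorem normal_le_center (T : Subgroup X) (hT : T ≤ M.R) (hne : T ≠ M.R)
    (hRT : M.R ≤ Subgroup.normalizer (T : Set X))
    (hdT : M.d ∈ Subgroup.normalizer (T : Set X)) :
    T ≤ Subgroup.centralizer (M.R : Set X) := by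
  have hcen := M.hmin T hT hne hdT
  have hFT : ⁅M.F, T⁆ = ⊥ := by
    rw [Subgroup.commutator_eq_bot_iff_le_centralizer]
    intro h hh
    rw [Subgroup.mem_centralizer_iff]
    intro t ht
    exact (M.commute_F hh (hcen t ht)).symm
  have hTF : ⁅T, M.F⁆ = ⊥ := by rw [Subgroup.commutator_comm, hFT]
  have h1 : ⁅⁅M.F, T⁆, M.R⁆ = ⊥ := by rw [hFT, Subgroup.commutator_bot_left]
  have h2 : ⁅⁅T, M.R⁆, M.F⁆ = ⊥ := by
    have : ⁅T, M.R⁆ ≤ T := helper7.commutator_le_of_normalizer hRT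
    exact le_bot_iff.1 (le_trans (Subgroup.commutator_mono this le_rfl) (le_of_eq hTF))
  have h3 := Subgroup.commutator_commutator_eq_bot_of_rotate h1 h2
  rw [M.comm_eq, Subgroup.commutator_eq_bot_iff_le_centralizer] at h3
  intro t ht
  rw [Subgroup.mem_centralizer_iff]
  intro r hr
  exact ((Subgroup.mem_centralizer_iff.1 (h3 hr)) t ht).symm

def T2 : Subgroup X := Subgroup.closure {y | ∃ x ∈ M.R, y = x ^ 2}

theorem T2_le : M.T2 ≤ M.R := by
  unfold T2
  rw [Subgroup.closure_le]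
  rintro y ⟨x, hx, rfl⟩
  exact Subgroup.pow_mem _ hx 2

theorem sq_mem_T2 {x : X} (hx : x ∈ M.R) : x ^ 2 ∈ M.T2 :=
  Subgroup.subset_closure ⟨x, hx, rfl⟩

theorem T2_normalizer {g : X} (hg : g ∈ Subgroup.normalizer (M.R : Set X)) :
    g ∈ Subgroup.normalizer (M.T2 : Set X) := by
  unfold T2
  apply mem_normalizer_closure
  · rintro y ⟨x, hx, rfl⟩
    exact ⟨g * x * g⁻¹, conj_mem_of_normalizer hg hx, by rw [conj_pow]⟩
  · rintro y ⟨x, hx, rfl⟩
    refine ⟨g⁻¹ * x * g, conj_mem_of_normalizer' hg hx, ?_⟩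
    have := conj_pow (a := g⁻¹) (b := x) (i := 2)
    rw [inv_inv] at this
    exact this.symm

theorem R_ne_bot : M.R ≠ ⊥ := by
  intro h
  apply M.hRf
  intro x hx
  rw [h, Subgroup.mem_bot] at hx
  subst hx
  simp

theorem T2_ne : M.T2 ≠ M.R := by
  haveI : Fact (Nat.Prime 2) := ⟨Nat.prime_two⟩
  intro h
  obtain ⟨a, ha⟩ := (IsPGroup.iff_card).1 M.R_pgroup
  have ha0 : a ≠ 0 := by
    rintro rfl
    rw [pow_zero] at ha
    exact M.R_ne_bot ((Subgroup.card_eq_one).1 ha)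
  obtain ⟨b, rfl⟩ : ∃ b, a = b + 1 := ⟨a - 1, by omega⟩
  obtain ⟨K, hK⟩ := Sylow.exists_subgroup_card_pow_prime (G := M.R) 2
    (show 2 ^ b ∣ Nat.card M.R by rw [ha]; exact pow_dvd_pow 2 (Nat.le_succ b))
  have hidx : K.index = 2 := by
    have := Subgroup.index_mul_card K
    rw [hK, ha, pow_succ] at this
    have h2 : 0 < 2 ^ b := by positivity
    have : K.index * 2 ^ b = 2 * 2 ^ b := by rw [this]; ring
    exact Nat.eq_of_mul_eq_mul_right h2 this
  have hle : M.T2 ≤ K.map M.R.subtype := by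
    unfold T2
    rw [Subgroup.closure_le]
    rintro y ⟨x, hx, rfl⟩
    refine Subgroup.mem_map.2 ⟨⟨x, hx⟩ ^ 2, Subgroup.sq_mem_of_index_two hidx _, ?_⟩
    simp
  have hKtop : K = ⊤ := by
    rw [eq_top_iff]
    intro r _
    have hr : (r : X) ∈ M.T2 := by rw [h]; exact r.2
    obtain ⟨r', hr', e⟩ := Subgroup.mem_map.1 (hle hr)
    have : r' = r := Subtype.ext e
    rw [← this]; exact hr'
  rw [hKtop, Subgroup.index_top] at hidx
  omega

theorem T2_central : M.T2 ≤ Subgroup.centralizer (M.R : Set X) :=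
  M.normal_le_center _ M.T2_le M.T2_ne
    (fun _ hr => M.T2_normalizer (Subgroup.le_normalizer hr)) (M.T2_normalizer M.hdR)

theorem T2_fixed : ∀ x ∈ M.T2, M.d ^ 3 * x = x * M.d ^ 3 :=
  M.hmin _ M.T2_le M.T2_ne (M.T2_normalizer M.hdR)

theorem hc (a b c : M.R) : ⁅a, b⁆ * c = c * ⁅a, b⁆ := by
  have h1 : ((⁅a, b⁆ : M.R) : X) ∈ M.T2 := by
    have e : ((⁅a, b⁆ : M.R) : X) = ⁅(a : X), (b : X)⁆ := by
      simp [commutatorElement_def]
    rw [e, S3773.comm_eq_squares]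
    refine Subgroup.mul_mem _ (Subgroup.mul_mem _ (M.sq_mem_T2 ?_) (M.sq_mem_T2 ?_))
      (M.sq_mem_T2 ?_)
    · exact Subgroup.mul_mem _ a.2 b.2
    · exact Subgroup.mul_mem _ (Subgroup.mul_mem _ (Subgroup.inv_mem _ b.2)
        (Subgroup.inv_mem _ a.2)) b.2
    · exact Subgroup.inv_mem _ b.2
  have h2 := (Subgroup.mem_centralizer_iff.1 (M.T2_central h1)) (c : X) c.2
  exact Subtype.ext h2.symm

theorem hs (a c : M.R) : a ^ 2 * c = c * a ^ 2 := by
  have h1 : ((a : X)) ^ 2 ∈ M.T2 := M.sq_mem_T2 a.2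
  have h2 := (Subgroup.mem_centralizer_iff.1 (M.T2_central h1)) (c : X) c.2
  exact Subtype.ext (by simpa using h2.symm)

theorem pow_four_mul (a b : M.R) : (a * b) ^ 4 = a ^ 4 * b ^ 4 := by
  have hc := M.hc
  set z := ⁅b, a⁆ with hz
  have hz2 : z ^ 2 = 1 := by
    have h1 : ⁅b * b, a⁆ = z * z := S3773.comm_mul_left' hc b b a
    have h2 : ⁅b * b, a⁆ = 1 := by
      rw [commutatorElement_def, ← pow_two, M.hs b a]; group
    rw [pow_two, ← h1, h2]
  have hca : Commute (a ^ 2) (b ^ 2 * z) := M.hs a _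
  have hcb : Commute (b ^ 2) z := M.hs b z
  calc (a * b) ^ 4 = ((a * b) ^ 2) ^ 2 := by rw [← pow_mul]
    _ = (a ^ 2 * b ^ 2 * z) ^ 2 := by rw [S3773.sq_mul hc]
    _ = (a ^ 2 * (b ^ 2 * z)) ^ 2 := by rw [mul_assoc]
    _ = (a ^ 2) ^ 2 * (b ^ 2 * z) ^ 2 := hca.mul_pow 2
    _ = (a ^ 2) ^ 2 * ((b ^ 2) ^ 2 * z ^ 2) := by rw [hcb.mul_pow]
    _ = a ^ 4 * b ^ 4 := by rw [hz2, mul_one, ← pow_mul, ← pow_mul]

theorem exp_four : ∀ x ∈ M.R, x ^ 4 = 1 := by
  let K : Subgroup X :=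
    { carrier := {x | x ∈ M.R ∧ x ^ 4 = 1}
      one_mem' := ⟨M.R.one_mem, one_pow 4⟩
      mul_mem' := by
        rintro a b ⟨ha, ha4⟩ ⟨hb, hb4⟩
        refine ⟨M.R.mul_mem ha hb, ?_⟩
        have := congrArg Subtype.val (M.pow_four_mul ⟨a, ha⟩ ⟨b, hb⟩)
        simp only [Subgroup.coe_mul, Subgroup.coe_pow] at this
        rw [this, ha4, hb4, one_mul]
      inv_mem' := by
        rintro a ⟨ha, ha4⟩
        exact ⟨M.R.inv_mem ha, by rw [inv_pow, ha4, inv_one]⟩ }
  have hKR : K ≤ M.R := fun x hx => hx.1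
  by_cases hK : K = M.R
  · intro x hx
    have hx' : x ∈ K := by rw [hK]; exact hx
    exact hx'.2
  · exfalso
    have hKn : ∀ g ∈ Subgroup.normalizer (M.R : Set X), g ∈ Subgroup.normalizer (K : Set X) := by
      intro g hg
      apply mem_normalizer_of_conj
      · rintro x ⟨hx, hx4⟩
        exact ⟨conj_mem_of_normalizer hg hx, by rw [conj_pow, hx4]; group⟩
      · rintro x ⟨hx, hx4⟩
        refine ⟨conj_mem_of_normalizer' hg hx, ?_⟩
        have := conj_pow (a := g⁻¹) (b := x) (i := 4)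
        rw [inv_inv] at this
        rw [this, hx4]; group
    have hle : ⁅M.R, M.F⁆ ≤ K := by
      rw [Subgroup.commutator_le]
      intro x hx h hh
      have hy : h * x⁻¹ * h⁻¹ ∈ M.R :=
        conj_mem_of_normalizer (M.F_le_normalizer hh) (M.R.inv_mem hx)
      have e : ⁅x, h⁆ = x * (h * x⁻¹ * h⁻¹) := by rw [commutatorElement_def]; group
      rw [e]
      refine ⟨M.R.mul_mem hx hy, ?_⟩
      have h4 := congrArg Subtype.val (M.pow_four_mul ⟨x, hx⟩ ⟨_, hy⟩)
      simp only [Subgroup.coe_mul, Subgroup.coe_pow] at h4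
      rw [h4, conj_pow, inv_pow]
      have hx4 : x ^ 4 ∈ M.T2 := by
        have : x ^ 4 = (x ^ 2) ^ 2 := by rw [← pow_mul]
        rw [this]; exact M.sq_mem_T2 (Subgroup.pow_mem _ hx 2)
      have hcom : h * x ^ 4 = x ^ 4 * h := M.commute_F hh (M.T2_fixed _ hx4)
      have h5 : h * (x ^ 4)⁻¹ = (x ^ 4)⁻¹ * h := by
        calc h * (x ^ 4)⁻¹ = (x ^ 4)⁻¹ * (x ^ 4 * h) * (x ^ 4)⁻¹ := by group
          _ = (x ^ 4)⁻¹ * (h * x ^ 4) * (x ^ 4)⁻¹ := by rw [hcom]
          _ = (x ^ 4)⁻¹ * h := by group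
      rw [h5, mul_assoc, mul_inv_cancel, mul_one, mul_inv_cancel]
    rw [M.comm_eq] at hle
    exact hK (le_antisymm hKR hle)

theorem index_le (Z : Subgroup X) (hZ4 : Nat.card Z = 4) (hZ2 : ∀ z ∈ Z, z ^ 2 = 1)
    (hinv : ∀ t ∈ M.P, t ^ 2 = 1 → t ∈ Z) :
    ∃ e, e ≤ 4 ∧ ((Z ⊓ M.R).subgroupOf M.R).index = 2 ^ e := by
  haveI : Fact (Nat.Prime 2) := ⟨Nat.prime_two⟩
  set N : Subgroup M.R := (Z ⊓ M.R).subgroupOf M.R with hN
  have h2 : ∀ x : M.R, x ^ 2 ∈ N := by
    intro x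
    rw [hN, Subgroup.mem_subgroupOf]
    refine Subgroup.mem_inf.2 ⟨?_, ?_⟩
    · apply hinv
      · simp only [Subgroup.coe_pow]
        exact Subgroup.pow_mem _ (M.hRP x.2) 2
      · simp only [Subgroup.coe_pow]
        rw [← pow_mul]; exact M.exp_four _ x.2
    · simp only [Subgroup.coe_pow]
      exact Subgroup.pow_mem _ x.2 2
  have hM : ∀ u : N, u ^ 2 = 1 := by
    intro u
    apply Subtype.ext
    apply Subtype.ext
    have hu : ((u : M.R) : X) ∈ Z := (Subgroup.mem_inf.1 (Subgroup.mem_subgroupOf.1 u.2)).1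
    simpa using hZ2 _ hu
  have hR2 : IsPGroup 2 M.R := M.R_pgroup
  obtain ⟨e, he⟩ := hR2.index N
  obtain ⟨m, hm⟩ := (IsPGroup.iff_card).1 (hR2.to_subgroup N)
  have hm2 : m ≤ 2 := by
    have hinj : Function.Injective (fun u : N => (⟨((u : M.R) : X),
        (Subgroup.mem_inf.1 (Subgroup.mem_subgroupOf.1 u.2)).1⟩ : Z)) := by
      intro u v huv
      apply Subtype.ext
      apply Subtype.ext
      have h0 := congrArg (fun z : Z => (z : X)) huv
      exact h0
    have hle := Nat.card_le_card_of_injective _ hinj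
    rw [hm, hZ4] at hle
    by_contra h
    push Not at h
    have : 2 ^ 3 ≤ 2 ^ m := Nat.pow_le_pow_right (by norm_num) h
    omega
  refine ⟨e, ?_, he⟩
  by_contra hlt
  push Not at hlt
  have hlt' : 2 * m < e := by omega
  obtain ⟨y, hy, hy2⟩ := S3773.main_lemma M.hc N N h2 h2 hM (MonoidHom.id N) e m he hm hlt'
  apply hy
  rw [hN, Subgroup.mem_subgroupOf]
  have hy2' : ((y : X)) ^ 2 = 1 := by
    have := congrArg (fun u : N => ((u : M.R) : X)) hy2
    simpa using this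
  exact Subgroup.mem_inf.2 ⟨hinv _ (M.hRP y.2) hy2', y.2⟩

def Sset : Set X := {x | x ∈ M.R ∧ M.d ^ 3 * x ≠ x * M.d ^ 3}

theorem zpowers_commute {g : X} (hg : g ∈ Subgroup.zpowers M.d) : Commute (M.d ^ 3) g := by
  obtain ⟨j, rfl⟩ := Subgroup.mem_zpowers_iff.1 hg
  exact ((Commute.refl M.d).pow_left 3).zpow_right j

theorem zpowers_le_normalizer : Subgroup.zpowers M.d ≤ Subgroup.normalizer (M.R : Set X) :=
  Subgroup.zpowers_le.2 M.hdR

def actS : MulAction (Subgroup.zpowers M.d) M.Sset where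
  smul g a := ⟨(g : X) * a * (g : X)⁻¹, conj_mem_of_normalizer (M.zpowers_le_normalizer g.2) a.2.1,
    fun h => a.2.2 ((commute_conj_iff (M.zpowers_commute g.2)).1 h)⟩
  one_smul a := Subtype.ext (by
    show ((1 : Subgroup.zpowers M.d) : X) * a * ((1 : Subgroup.zpowers M.d) : X)⁻¹ = a
    simp)
  mul_smul g h a := Subtype.ext (by
    show ((g * h : Subgroup.zpowers M.d) : X) * a * ((g * h : Subgroup.zpowers M.d) : X)⁻¹ =
      (g : X) * ((h : X) * a * (h : X)⁻¹) * (g : X)⁻¹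
    simp only [Subgroup.coe_mul]
    group)

theorem false_of (Z : Subgroup X) (hZ4 : Nat.card Z = 4) (hZ2 : ∀ z ∈ Z, z ^ 2 = 1)
    (hinv : ∀ t ∈ M.P, t ^ 2 = 1 → t ∈ Z) (hfZ : ∀ z ∈ Z, M.d ^ 3 * z = z * M.d ^ 3) :
    False := by
  classical
  haveI : Fact (Nat.Prime 2) := ⟨Nat.prime_two⟩
  obtain ⟨e, he4, he⟩ := M.index_le Z hZ4 hZ2 hinv
  set Ω : Subgroup X := Z ⊓ M.R with hΩ
  set C₀ : Subgroup X := M.R ⊓ Subgroup.centralizer {M.d ^ 3} with hC₀
  have hΩC : Ω ≤ C₀ := by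
    intro x hx
    refine Subgroup.mem_inf.2 ⟨(Subgroup.mem_inf.1 hx).2, ?_⟩
    rw [Subgroup.mem_centralizer_iff]
    intro h hh
    rw [Set.mem_singleton_iff] at hh
    subst hh
    exact hfZ x (Subgroup.mem_inf.1 hx).1
  have hC₀R : C₀ ≤ M.R := inf_le_left
  have hC₀ne : C₀ ≠ M.R := by
    intro h
    apply M.hRf
    intro x hx
    have hx' : x ∈ C₀ := by rw [h]; exact hx
    exact (Subgroup.mem_centralizer_iff.1 (Subgroup.mem_inf.1 hx').2) _ rfl
  have hcardΩ : Nat.card ((Z ⊓ M.R).subgroupOf M.R) = Nat.card Ω :=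
    Nat.card_congr (Subgroup.subgroupOfEquivOfLe inf_le_right).toEquiv
  have hR : Nat.card M.R = 2 ^ e * Nat.card Ω := by
    rw [← he, ← hcardΩ]; exact (Subgroup.index_mul_card _).symm
  obtain ⟨u, hu⟩ := Subgroup.card_dvd_of_le hΩC
  obtain ⟨k, hk⟩ := Subgroup.card_dvd_of_le hC₀R
  have hΩpos : 0 < Nat.card Ω := Nat.card_pos
  have huk : u * k = 2 ^ e := by
    have : Nat.card Ω * (u * k) = Nat.card Ω * 2 ^ e := by
      rw [← mul_assoc, ← hu, ← hk, hR]; ring
    exact Nat.eq_of_mul_eq_mul_left hΩpos this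
  have hk16 : k ∣ 16 := by
    have h1 : k ∣ 2 ^ e := ⟨u, by rw [← huk]; ring⟩
    have h2 : (2 : ℕ) ^ e ∣ 2 ^ 4 := pow_dvd_pow 2 he4
    have h3 : (2 : ℕ) ^ 4 = 16 := by norm_num
    rw [h3] at h2
    exact h1.trans h2
  have hk1 : k ≠ 1 := by
    rintro rfl
    rw [mul_one] at hk
    exact hC₀ne (Subgroup.eq_of_le_of_card_ge hC₀R (le_of_eq hk))
  letI := M.actS
  have hΓcomm : ∀ a b : Subgroup.zpowers M.d, a * b = b * a := by
    intro a b
    obtain ⟨i, hi⟩ := Subgroup.mem_zpowers_iff.1 a.2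
    obtain ⟨j, hj⟩ := Subgroup.mem_zpowers_iff.1 b.2
    apply Subtype.ext
    show (a : X) * b = b * a
    rw [← hi, ← hj]
    exact (Commute.refl M.d).zpow_zpow i j
  have h9 : 9 ∣ Nat.card M.Sset := by
    apply nine_dvd_card (Γ := Subgroup.zpowers M.d) hΓcomm M.n
      (by rw [Nat.card_zpowers, M.hd]) ⟨M.d, Subgroup.mem_zpowers _⟩
    intro a hfix
    have h0 := congrArg Subtype.val hfix
    have h1 : M.d ^ 3 * (a : X) * (M.d ^ 3)⁻¹ = a := h0
    apply a.2.2
    calc M.d ^ 3 * (a : X) = (M.d ^ 3 * (a : X) * (M.d ^ 3)⁻¹) * M.d ^ 3 := by group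
      _ = a * M.d ^ 3 := by rw [h1]
  have hsum : Nat.card M.R = Nat.card C₀ + Nat.card M.Sset := by
    have e1 : Nat.card M.R = (M.R : Set X).ncard := (Nat.card_coe_set_eq (M.R : Set X)).symm
    have e2 : Nat.card C₀ = (C₀ : Set X).ncard := (Nat.card_coe_set_eq (C₀ : Set X)).symm
    have e3 : Nat.card M.Sset = M.Sset.ncard := Nat.card_coe_set_eq _
    have hdisj : Disjoint (C₀ : Set X) M.Sset := by
      rw [Set.disjoint_left]
      intro x hx hxS
      apply hxS.2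
      have hx' : x ∈ C₀ := hx
      exact (Subgroup.mem_centralizer_iff.1 (Subgroup.mem_inf.1 hx').2) _ rfl
    have hun : (M.R : Set X) = (C₀ : Set X) ∪ M.Sset := by
      ext x
      constructor
      · intro hx
        by_cases hcx : M.d ^ 3 * x = x * M.d ^ 3
        · left
          show x ∈ C₀
          refine Subgroup.mem_inf.2 ⟨hx, ?_⟩
          rw [Subgroup.mem_centralizer_iff]
          intro h hh
          rw [Set.mem_singleton_iff] at hh
          subst hh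
          exact hcx
        · right
          exact ⟨hx, hcx⟩
      · rintro (hx | hx)
        · exact hC₀R hx
        · exact hx.1
    rw [e1, e2, e3, hun]
    exact Set.ncard_union_eq hdisj (Set.toFinite _) (Set.toFinite _)
  have hc2 : IsPGroup 2 C₀ := M.R_pgroup.to_le hC₀R
  obtain ⟨b, hb⟩ := (IsPGroup.iff_card).1 hc2
  have hkpos : 1 ≤ k := by
    rcases Nat.eq_zero_or_pos k with h | h
    · rw [h, mul_zero] at hk
      exact absurd hk (Nat.card_pos.ne')
    · exact h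
  obtain ⟨k', rfl⟩ : ∃ k', k = k' + 1 := ⟨k - 1, by omega⟩
  have hS : Nat.card M.Sset = Nat.card C₀ * k' := by
    have h1 : Nat.card C₀ + Nat.card M.Sset = Nat.card C₀ + Nat.card C₀ * k' := by
      rw [← hsum, hk]; ring
    exact Nat.add_left_cancel h1
  have h9' : 9 ∣ k' := by
    rw [hS, hb, mul_comm] at h9
    exact Nat.Coprime.dvd_of_dvd_mul_right ((by norm_num : Nat.Coprime 9 2).pow_right b) h9
  have hk16' : k' + 1 ≤ 16 := Nat.le_of_dvd (by norm_num) hk16
  have hk'15 : k' ≤ 15 := by omega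
  obtain ⟨c, hc⟩ := h9'
  have hc' : c = 0 ∨ c = 1 := by omega
  rcases hc' with rfl | rfl
  · apply hk1; omega
  · rw [mul_one] at hc
    subst hc
    omega

end MCtx

theorem main [Finite X] (C : Ctx X)
    (hfaith : Subgroup.zpowers C.d ⊓ Subgroup.centralizer (C.P : Set X) = ⊥) :
    orderOf C.d = 3 := by
  by_cases hf : ∀ x ∈ C.P, C.d ^ 3 * x = x * C.d ^ 3
  · have h3 : C.d ^ 3 ∈ Subgroup.zpowers C.d ⊓ Subgroup.centralizer (C.P : Set X) := by
      refine Subgroup.mem_inf.2 ⟨Subgroup.pow_mem _ (Subgroup.mem_zpowers _) 3, ?_⟩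
      rw [Subgroup.mem_centralizer_iff]
      intro x hx
      exact (hf x hx).symm
    rw [hfaith, Subgroup.mem_bot] at h3
    have hdvd : orderOf C.d ∣ 3 := orderOf_dvd_of_pow_eq_one h3
    rw [C.hd] at hdvd ⊢
    have h1 : C.n ≤ 1 := by
      by_contra h
      push Not at h
      have h2 : 3 ^ 2 ∣ 3 ^ C.n := pow_dvd_pow 3 h
      have := Nat.le_of_dvd (by norm_num) (dvd_trans h2 hdvd)
      norm_num at this
    have : C.n = 1 := le_antisymm h1 C.hn
    rw [this, pow_one]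
  · exfalso
    have hP1 : C.P ≠ ⊥ := by
      intro h
      apply hf
      intro x hx
      rw [h, Subgroup.mem_bot] at hx
      subst hx
      simp
    obtain ⟨Z, hZP, hZ4, hdZ, hZ2, hinv⟩ := C.exists_Z hP1
    have hfZ := cube_centralizes C.d C.n C.hn (by rw [← C.hd]; exact pow_orderOf_eq_one _) Z hZ4 hdZ
    obtain ⟨R, hRP, hdR, hRf, hmin⟩ := C.exists_minimal hf
    let M : MCtx X := { toCtx := C, R := R, hRP := hRP, hdR := hdR, hRf := hRf, hmin := hmin }
    exact M.false_of Z hZ4 hZ2 hinv hfZ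

end Cfsg.Agent.helper18.R2A
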