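import Mathlib
import Cfsg.Agent.Lib_helper17_S2670x

/-!
# S2670 Burnside sub-swarm, piece B3 (helper18)
-/

set_option autoImplicit false
open Polynomial

namespace Cfsg.Agent.helper18.S2670b

/-- B3: c not an r-th power -/
theorem pieceB3 {F : Type*} [Field F] [Fintype F] (n r : ℕ) (hn : 1 ≤ n) (hr : r.Prime) (c : F)
    (hc : ∀ b : F, b ^ r ≠ c) :
    Nat.card {f : F[X] // f.Monic ∧ f.natDegree = n ∧ f ∣ (X ^ r - C c) ^ n ∧
      ∀ a : F, f ≠ (X - C a) ^ n} = if r ∣ n then 1 else 0 := by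
  have hmon : (X ^ r - C c : F[X]).Monic := monic_X_pow_sub_C c hr.ne_zero
  by_cases hrn : r ∣ n
  · rw [if_pos hrn]
    have hkpos : 1 ≤ n / r := Nat.div_pos (Nat.le_of_dvd hn hrn) hr.pos
    have hmem : ((X ^ r - C c : F[X]) ^ (n / r)).Monic ∧
        ((X ^ r - C c : F[X]) ^ (n / r)).natDegree = n ∧
        (X ^ r - C c : F[X]) ^ (n / r) ∣ (X ^ r - C c) ^ n ∧
        ∀ a : F, (X ^ r - C c : F[X]) ^ (n / r) ≠ (X - C a) ^ n := by
      refine ⟨hmon.pow _, ?_, pow_dvd_pow _ (Nat.div_le_self n r), ?_⟩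
      · rw [hmon.natDegree_pow, natDegree_X_pow_sub_C, Nat.div_mul_cancel hrn]
      · intro a heq
        have h1 := congrArg (Polynomial.eval a) heq
        simp only [eval_pow, eval_sub, eval_X, eval_C, sub_self] at h1
        rw [zero_pow (by omega : n ≠ 0)] at h1
        have h2 : a ^ r - c = 0 := (pow_eq_zero_iff (by omega : n / r ≠ 0)).mp h1
        exact hc a (sub_eq_zero.mp h2)
    haveI : Unique {f : F[X] // f.Monic ∧ f.natDegree = n ∧ f ∣ (X ^ r - C c) ^ n ∧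
        ∀ a : F, f ≠ (X - C a) ^ n} :=
      { default := ⟨_, hmem⟩
        uniq := fun ⟨f, hf1, hf2, hf3, _⟩ =>
          Subtype.ext (Cfsg.Agent.helper17.S2670x.pieceS4 n r hr c hc f hf1 hf2 hf3).2 }
    exact Nat.card_unique
  · rw [if_neg hrn]
    haveI : IsEmpty {f : F[X] // f.Monic ∧ f.natDegree = n ∧ f ∣ (X ^ r - C c) ^ n ∧
        ∀ a : F, f ≠ (X - C a) ^ n} :=
      ⟨fun ⟨f, hf1, hf2, hf3, _⟩ =>
        hrn (Cfsg.Agent.helper17.S2670x.pieceS4 n r hr c hc f hf1 hf2 hf3).1⟩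
    exact Nat.card_of_isEmpty

end Cfsg.Agent.helper18.S2670b
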