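import Mathlib

/-!
# S2670 Burnside sub-swarm, piece B6 (helper18, hedge)
-/

set_option autoImplicit false
open Polynomial

namespace Cfsg.Agent.helper18.S2670c

/-- B6: no fixed points unless μ ^ r = 1 -/
theorem pieceB6 {F : Type*} [Field F] (n r : ℕ) (hn : 1 ≤ n) (hr : 1 ≤ r) (μ : F) (hμ : μ ≠ 0)
    (f : F[X]) (hf : f.Monic) (hd : f.natDegree = n) (c : F) (hc : c ≠ 0)
    (h : f ∣ (X ^ r - C c) ^ n) (hfix : C (μ ^ n) * f.comp (C μ⁻¹ * X) = f) : μ ^ r = 1 := by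
  by_contra hne
  have hcancel : μ⁻¹ ^ r * (μ ^ r * c) = c := by
    rw [← mul_assoc, ← mul_pow, inv_mul_cancel₀ hμ, one_pow, one_mul]
  have e1 : (X ^ r - C c : F[X]).comp (C μ⁻¹ * X) = C (μ⁻¹ ^ r) * (X ^ r - C (μ ^ r * c)) := by
    rw [sub_comp, pow_comp, X_comp, C_comp, mul_pow, ← C_pow, mul_sub, ← C_mul, hcancel]
  obtain ⟨g, hg⟩ := h
  have h3 : f.comp (C μ⁻¹ * X) ∣ (C (μ⁻¹ ^ r) * (X ^ r - C (μ ^ r * c))) ^ n :=
    ⟨g.comp (C μ⁻¹ * X), by rw [← e1, ← pow_comp, hg, mul_comp]⟩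
  have hu1 : IsUnit (C (μ ^ n) : F[X]) := isUnit_C.mpr (IsUnit.mk0 _ (pow_ne_zero n hμ))
  have h4 : f ∣ (C (μ⁻¹ ^ r) * (X ^ r - C (μ ^ r * c))) ^ n := by
    rw [← hfix]
    exact hu1.mul_left_dvd.mpr h3
  have hu2 : IsUnit ((C (μ⁻¹ ^ r) : F[X]) ^ n) :=
    (isUnit_C.mpr (IsUnit.mk0 _ (pow_ne_zero r (inv_ne_zero hμ)))).pow n
  have h5 : f ∣ (X ^ r - C (μ ^ r * c)) ^ n := by
    rw [mul_pow] at h4
    exact hu2.dvd_mul_left.mp h4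
  have hd0 : μ ^ r * c - c ≠ 0 := by
    intro h0
    apply hne
    have h1 : (μ ^ r - 1) * c = 0 := by rw [sub_mul, one_mul]; exact h0
    rcases mul_eq_zero.mp h1 with h2 | h2
    · exact sub_eq_zero.mp h2
    · exact absurd h2 hc
  have hcop : IsCoprime (X ^ r - C c : F[X]) (X ^ r - C (μ ^ r * c)) := by
    refine ⟨C (μ ^ r * c - c)⁻¹, - C (μ ^ r * c - c)⁻¹, ?_⟩
    have : C (μ ^ r * c - c)⁻¹ * (X ^ r - C c) + -C (μ ^ r * c - c)⁻¹ * (X ^ r - C (μ ^ r * c))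
        = C ((μ ^ r * c - c)⁻¹ * (μ ^ r * c - c)) := by
      simp only [C_mul, C_sub]; ring
    rw [this, inv_mul_cancel₀ hd0, C_1]
  have hunit : IsUnit f := (hcop.pow (m := n) (n := n)).isUnit_of_dvd' ⟨g, hg⟩ h5
  have := natDegree_eq_zero_of_isUnit hunit
  omega

end Cfsg.Agent.helper18.S2670c
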