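import Mathlib

set_option autoImplicit false

namespace Cfsg.Agent.helper18.S2T

variable {p : ℕ} [Fact p.Prime] {V : Type*} [AddCommGroup V] [Module (ZMod p) V] [Finite V]

/-- an injective endomorphism of a finite module has a positive power equal to the identity -/
lemma exists_pow_eq_one_of_injective (T : Module.End (ZMod p) V) (hT : Function.Injective T) :
    ∃ k : ℕ, 0 < k ∧ T ^ k = 1 := by
  classical
  haveI : Finite (Module.End (ZMod p) V) := Finite.of_injective _ DFunLike.coe_injective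
  obtain ⟨i, j, hij, he⟩ := Finite.exists_ne_map_eq_of_infinite (fun n : ℕ => T ^ n)
  have key : ∀ i j : ℕ, i < j → T ^ i = T ^ j → ∃ k : ℕ, 0 < k ∧ T ^ k = 1 := by
    intro i j hlt he
    refine ⟨j - i, Nat.sub_pos_of_lt hlt, ?_⟩
    have hinj : Function.Injective (T ^ i) := by
      rw [Module.End.coe_pow]
      exact hT.iterate i
    apply LinearMap.ext
    intro v
    apply hinj
    have h1 : T ^ j = T ^ i * T ^ (j - i) := by
      rw [← pow_add]; congr 1; omega
    have h2 : (T ^ i) ((T ^ (j - i)) v) = (T ^ j) v := by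
      rw [h1]; rfl
    rw [h2, ← he]
    rfl
  rcases lt_or_gt_of_ne hij with h | h
  · exact key i j h he
  · exact key j i h he.symm

/-- an abelian group of linear maps acting semiregularly on non-zero vectors is cyclic -/
theorem isCyclic_of_semiregular {A : Type*} [Group A] [Finite A] [Nontrivial V]
    (ι : A →* Module.End (ZMod p) V) (hcomm : ∀ a b : A, a * b = b * a)
    (hsr : ∀ a : A, ∀ v : V, v ≠ 0 → ι a v = v → a = 1) : IsCyclic A := by
  classical
  letI : CommGroup A := { ‹Group A› with mul_comm := hcomm }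
  let φ : MonoidAlgebra (ZMod p) A →ₐ[ZMod p] Module.End (ZMod p) V :=
    MonoidAlgebra.lift (ZMod p) (Module.End (ZMod p) V) A ι
  have hφof : ∀ a : A, φ (MonoidAlgebra.of (ZMod p) A a) = ι a :=
    fun a => MonoidAlgebra.lift_of ι a
  let I : Ideal (MonoidAlgebra (ZMod p) A) := RingHom.ker φ.toRingHom
  have hmemI : ∀ x, x ∈ I ↔ φ x = 0 := fun x => RingHom.mem_ker
  have hI : I ≠ ⊤ := by
    rw [Ne, Ideal.eq_top_iff_one, hmemI, map_one]
    intro h
    obtain ⟨v, hv⟩ := exists_ne (0 : V)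
    have := LinearMap.congr_fun h v
    simp at this
    exact hv this
  obtain ⟨𝔪, h𝔪, hI𝔪⟩ := Ideal.exists_le_maximal I hI
  haveI := h𝔪.isPrime
  let f : A →* (MonoidAlgebra (ZMod p) A) ⧸ 𝔪 :=
    ((Ideal.Quotient.mk 𝔪 : MonoidAlgebra (ZMod p) A →+* _) : MonoidAlgebra (ZMod p) A →* _).comp
      (MonoidAlgebra.of (ZMod p) A)
  apply isCyclic_of_injective_ringHom f
  intro a b hab
  by_contra hne
  have hx : MonoidAlgebra.of (ZMod p) A a - MonoidAlgebra.of (ZMod p) A b ∈ 𝔪 :=
    Ideal.Quotient.eq.mp hab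
  set x := MonoidAlgebra.of (ZMod p) A a - MonoidAlgebra.of (ZMod p) A b with hxdef
  have hφx : φ x = ι a - ι b := by rw [hxdef, map_sub, hφof, hφof]
  have hinj : Function.Injective (φ x) := by
    rw [← LinearMap.ker_eq_bot, LinearMap.ker_eq_bot']
    intro v hv
    rw [hφx, LinearMap.sub_apply, sub_eq_zero] at hv
    by_contra hv0
    apply hne
    have h1 : ι (b⁻¹ * a) v = v := by
      rw [map_mul, Module.End.mul_apply, hv, ← Module.End.mul_apply, ← map_mul, inv_mul_cancel,
        map_one, Module.End.one_apply]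
    have := hsr _ v hv0 h1
    exact (inv_mul_eq_one.mp this).symm
  obtain ⟨k, hk, hTk⟩ := exists_pow_eq_one_of_injective (φ x) hinj
  have h1 : x ^ k - 1 ∈ 𝔪 := by
    apply hI𝔪
    rw [hmemI, map_sub, map_pow, hTk, map_one, sub_self]
  have h2 : x ^ k ∈ 𝔪 := Ideal.pow_mem_of_mem 𝔪 hx k hk
  have h3 : (1 : MonoidAlgebra (ZMod p) A) ∈ 𝔪 := by
    have := 𝔪.sub_mem h2 h1
    rwa [sub_sub_cancel] at this
  exact h𝔪.ne_top ((Ideal.eq_top_iff_one 𝔪).mpr h3)

end Cfsg.Agent.helper18.S2T
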