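import Mathlib
import Cfsg.Agent.Lib_helper18_AffSL2
import Cfsg.Agent.Lib_helper12_Card

set_option autoImplicit false

namespace Cfsg.Agent.helper18

open Matrix

section cheb

/-- Coefficients of `X ^ k = a • X + b • 1` when `X * X = t • X - 1`. -/
def chebA {R : Type*} [CommRing R] (t : R) : ℕ → R × R
  | 0 => (0, 1)
  | (k + 1) => (t * (chebA t k).1 + (chebA t k).2, -(chebA t k).1)

lemma chebA_map {R S : Type*} [CommRing R] [CommRing S] (f : R →+* S) (t : R) (k : ℕ) :
    chebA (f t) k = (f (chebA t k).1, f (chebA t k).2) := by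
  induction k with
  | zero => simp [chebA]
  | succ k ih => simp [chebA, ih]

variable {F : Type*} [Field F]

lemma pow_eq_chebA (X : Matrix (Fin 2) (Fin 2) F) (t : F)
    (h : X * X = t • X - 1) (k : ℕ) :
    X ^ k = (chebA t k).1 • X + (chebA t k).2 • (1 : Matrix (Fin 2) (Fin 2) F) := by
  induction k with
  | zero => simp [chebA]
  | succ k ih =>
    rw [pow_succ, ih]
    simp only [chebA, Matrix.add_mul, Matrix.smul_mul, Matrix.one_mul, h]
    module

lemma sl2_mul_self (s : Matrix.SpecialLinearGroup (Fin 2) F) :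
    (s : Matrix (Fin 2) (Fin 2) F) * (s : Matrix (Fin 2) (Fin 2) F) =
      (s : Matrix (Fin 2) (Fin 2) F).trace • (s : Matrix (Fin 2) (Fin 2) F) - 1 := by
  rw [mat2_cayley_hamilton, s.det_coe, one_smul]

end cheb


section F8

variable {F : Type*} [Field F]

/-- Element orders of `SL(2,8)`. -/
theorem sl2_F8_orders [Fintype F] [CharP F 2] (hF : Fintype.card F = 8)
    (s : Matrix.SpecialLinearGroup (Fin 2) F) : s ^ 2 = 1 ∨ s ^ 7 = 1 ∨ s ^ 9 = 1 := by
  have hXX := sl2_mul_self s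
  have h2 : (2 : F) = 0 := CharTwo.two_eq_zero
  by_cases ht0 : (s : Matrix (Fin 2) (Fin 2) F).trace = 0
  · left
    apply Subtype.ext
    rw [Matrix.SpecialLinearGroup.coe_pow, pow_two, hXX, ht0, zero_smul, zero_sub,
      Matrix.SpecialLinearGroup.coe_one]
    exact CharTwo.neg_eq _
  · right
    have ht7 : (s : Matrix (Fin 2) (Fin 2) F).trace ^ 7 = 1 := by
      have := FiniteField.pow_card_sub_one_eq_one _ ht0
      rwa [hF] at this
    have h8 := pow_eq_chebA _ _ hXX 8
    have ha : (chebA (s : Matrix (Fin 2) (Fin 2) F).trace 8).1 = 1 := by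
      have : ∀ t : F, (chebA t 8).1 = t ^ 7 + 2 * (-3 * t ^ 5 + 5 * t ^ 3 - 2 * t) := by
        intro t
        simp only [chebA]; ring
      rw [this, h2, ht7]; ring
    rw [ha, one_smul] at h8
    generalize (chebA (s : Matrix (Fin 2) (Fin 2) F).trace 8).2 = c at h8
    have hdet : ((s : Matrix (Fin 2) (Fin 2) F) ^ 8).det = 1 := by
      rw [Matrix.det_pow, s.det_coe, one_pow]
    rw [h8, mat2_det_add_smul_one, s.det_coe] at hdet
    have hc' : c * ((s : Matrix (Fin 2) (Fin 2) F).trace + c) = 0 := by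
      linear_combination hdet
    rcases mul_eq_zero.mp hc' with hc0 | hc0
    · left
      rw [hc0, zero_smul, add_zero] at h8
      have h9 : s ^ 8 = s :=
        Subtype.ext (by rw [Matrix.SpecialLinearGroup.coe_pow]; exact h8)
      have h' : s ^ 7 * s = 1 * s := by rw [← pow_succ, one_mul]; exact h9
      exact mul_right_cancel h'
    · right
      have hct : c = (s : Matrix (Fin 2) (Fin 2) F).trace := by
        have : c = -(s : Matrix (Fin 2) (Fin 2) F).trace := by linear_combination hc0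
        rw [this]; exact CharTwo.neg_eq _
      rw [hct] at h8
      apply Subtype.ext
      rw [Matrix.SpecialLinearGroup.coe_pow, pow_succ', h8, Matrix.SpecialLinearGroup.coe_one,
        Matrix.mul_add, hXX, Matrix.mul_smul, Matrix.mul_one, sub_add_eq_add_sub,
        CharTwo.add_self_eq_zero, zero_sub]
      exact CharTwo.neg_eq _

end F8


section F7

lemma cheb_zmod7 : ∀ τ : ZMod 7,
    ((chebA τ 2).1 = 0 ∧ ((chebA τ 2).2 = 1 ∨ (chebA τ 2).2 = -1)) ∨
    ((chebA τ 3).1 = 0 ∧ ((chebA τ 3).2 = 1 ∨ (chebA τ 3).2 = -1)) ∨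
    ((chebA τ 4).1 = 0 ∧ ((chebA τ 4).2 = 1 ∨ (chebA τ 4).2 = -1)) ∨
    ((chebA τ 7).1 = 0 ∧ ((chebA τ 7).2 = 1 ∨ (chebA τ 7).2 = -1)) := by decide

variable {F : Type*} [Field F] [Fintype F]

/-- Element orders of `PSL(2,7)`. -/
theorem psl2_F7_orders (hF : Fintype.card F = 7)
    (g : Matrix.ProjectiveSpecialLinearGroup (Fin 2) F) :
    g ^ 2 = 1 ∨ g ^ 3 = 1 ∨ g ^ 4 = 1 ∨ g ^ 7 = 1 := by
  obtain ⟨x, rfl⟩ := QuotientGroup.mk_surjective g
  let e : ZMod 7 ≃+* F := ZMod.ringEquivOfPrime F (by norm_num) hF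
  obtain ⟨τ, hτ⟩ : ∃ τ, e τ = (x : Matrix (Fin 2) (Fin 2) F).trace :=
    ⟨e.symm _, e.apply_symm_apply _⟩
  have key : ∀ k : ℕ, (chebA τ k).1 = 0 → ((chebA τ k).2 = 1 ∨ (chebA τ k).2 = -1) →
      ((x : Matrix.ProjectiveSpecialLinearGroup (Fin 2) F)) ^ k = 1 := by
    intro k h1 h2
    rw [← QuotientGroup.mk_pow, QuotientGroup.eq_one_iff, Matrix.SpecialLinearGroup.mem_center_iff]
    have hk := pow_eq_chebA _ _ (sl2_mul_self x) k
    have hmap : chebA (e τ) k = (e (chebA τ k).1, e (chebA τ k).2) :=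
      chebA_map (e : ZMod 7 →+* F) τ k
    rw [← hτ, hmap] at hk
    simp only [h1, map_zero, zero_smul, zero_add] at hk
    refine ⟨e (chebA τ k).2, ?_, ?_⟩
    · rcases h2 with h2 | h2 <;> rw [h2] <;> simp
    · rw [Matrix.SpecialLinearGroup.coe_pow, hk]
      simp [Matrix.smul_one_eq_diagonal]
  rcases cheb_zmod7 τ with h | h | h | h
  · exact Or.inl (key 2 h.1 h.2)
  · exact Or.inr (Or.inl (key 3 h.1 h.2))
  · exact Or.inr (Or.inr (Or.inl (key 4 h.1 h.2)))
  · exact Or.inr (Or.inr (Or.inr (key 7 h.1 h.2)))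

end F7


section arith

lemma not_two_primes_mul_dvd_prime_pow {r e p q : ℕ} (hr : r.Prime) (hp : p.Prime) (hq : q.Prime)
    (hne : p ≠ q) : ¬ p * q ∣ r ^ e := by
  intro h
  have h1 : p ∣ r := hp.dvd_of_dvd_pow (Dvd.dvd.trans (Dvd.intro _ rfl) h)
  have h2 : q ∣ r := hq.dvd_of_dvd_pow (Dvd.dvd.trans (Dvd.intro_left _ rfl) h)
  rw [Nat.prime_dvd_prime_iff_eq hp hr] at h1
  rw [Nat.prime_dvd_prime_iff_eq hq hr] at h2
  exact hne (h1.trans h2.symm)

lemma prime_dvd_2_3_7 {a b c p : ℕ} (hp : p.Prime) (h : p ∣ 2 ^ a * 3 ^ b * 7 ^ c) :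
    p = 2 ∨ p = 3 ∨ p = 7 := by
  rcases (Nat.Prime.dvd_mul hp).mp h with h | h
  · rcases (Nat.Prime.dvd_mul hp).mp h with h | h
    · left
      exact (Nat.prime_dvd_prime_iff_eq hp Nat.prime_two).mp (hp.dvd_of_dvd_pow h)
    · right; left
      exact (Nat.prime_dvd_prime_iff_eq hp Nat.prime_three).mp (hp.dvd_of_dvd_pow h)
  · right; right
    exact (Nat.prime_dvd_prime_iff_eq hp (by norm_num)).mp (hp.dvd_of_dvd_pow h)

end arith

section cardF7

variable {F : Type*} [Field F] [Fintype F]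

lemma psl2_F7_prime_dvd (hF : Fintype.card F = 7) (p : ℕ) (hp : p.Prime) :
    p ∣ Nat.card (Matrix.ProjectiveSpecialLinearGroup (Fin 2) F) ↔ p = 2 ∨ p = 3 ∨ p = 7 := by
  have h1 := Subgroup.card_eq_card_quotient_mul_card_subgroup
    (Subgroup.center (Matrix.SpecialLinearGroup (Fin 2) F))
  rw [Cfsg.Agent.helper12.card_SL2, hF] at h1
  have hc2 : Nat.card (Subgroup.center (Matrix.SpecialLinearGroup (Fin 2) F)) ≤ 2 := by
    rw [Nat.card_congr (Matrix.SpecialLinearGroup.center_equiv_rootsOfUnity' (0 : Fin 2)).toEquiv]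
    simpa using card_rootsOfUnity (R := F) (k := Fintype.card (Fin 2))
  have hc1 : 0 < Nat.card (Subgroup.center (Matrix.SpecialLinearGroup (Fin 2) F)) := Nat.card_pos
  change 7 * (7 ^ 2 - 1) = Nat.card (Matrix.ProjectiveSpecialLinearGroup (Fin 2) F) * _ at h1
  generalize Nat.card (Matrix.ProjectiveSpecialLinearGroup (Fin 2) F) = P at h1 ⊢
  generalize Nat.card (Subgroup.center (Matrix.SpecialLinearGroup (Fin 2) F)) = c at h1 hc1 hc2
  have hP : P = 336 ∨ P = 168 := by
    interval_cases c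
    · left; omega
    · right; omega
  constructor
  · intro h
    have h336 : p ∣ 2 ^ 4 * 3 ^ 1 * 7 ^ 1 := by
      rcases hP with rfl | rfl
      · exact h
      · exact Dvd.dvd.trans h (by norm_num)
    exact prime_dvd_2_3_7 hp h336
  · intro h
    have h168 : p ∣ 168 := by
      rcases h with rfl | rfl | rfl <;> norm_num
    rcases hP with rfl | rfl
    · exact Dvd.dvd.trans h168 (by norm_num)
    · exact h168

end cardF7

end Cfsg.Agent.helper18
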