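import Mathlib

set_option autoImplicit false

namespace Cfsg.Agent.helper18

open MulAction

section sharp2

variable {Γ α : Type*} [Group Γ] [Finite Γ] [MulAction Γ α] [Fintype α]

/-- Counting fixed-point-free elements of a sharply 2-transitive group via Burnside's lemma. -/
lemma ncard_fpf_of_sharp (htrans : IsPretransitive Γ α)
    (hsh : ∀ g : Γ, ∀ a b : α, a ≠ b → g • a = a → g • b = b → g = 1)
    (hn : 1 ≤ Fintype.card α) :
    {g : Γ | ∀ a : α, g • a ≠ a}.ncard = Fintype.card α - 1 := by
  classical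
  haveI : Fintype Γ := Fintype.ofFinite Γ
  obtain ⟨a0⟩ : Nonempty α := Fintype.card_pos_iff.mp (by omega)
  have hB : ∑ g : Γ, Nat.card (fixedBy α g) = Fintype.card Γ := by
    have h := MulAction.sum_card_fixedBy_eq_card_orbits_mul_card_group Γ α
    haveI : Subsingleton (orbitRel.Quotient Γ α) :=
      (pretransitive_iff_subsingleton_quotient Γ α).mp htrans
    haveI : Unique (orbitRel.Quotient Γ α) :=
      { default := Quotient.mk'' a0, uniq := fun _ => Subsingleton.elim _ _ }
    rw [Fintype.card_unique, one_mul] at h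
    rw [← h]
    apply Finset.sum_congr rfl
    intro g _
    exact Nat.card_eq_fintype_card
  have hterm : ∀ g : Γ, Nat.card (fixedBy α g) =
      (if (¬ ∀ a : α, g • a ≠ a) then 1 else 0) + (if g = 1 then Fintype.card α - 1 else 0) := by
    intro g
    by_cases hg1 : g = 1
    · subst hg1
      have h1 : ¬ ∀ a : α, (1 : Γ) • a ≠ a := fun h => h a0 (one_smul _ _)
      rw [if_pos h1, if_pos rfl]
      have h2 : fixedBy α (1 : Γ) = Set.univ := by
        ext a
        simp
      rw [h2, Nat.card_congr (Equiv.Set.univ α), Nat.card_eq_fintype_card]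
      omega
    · rw [if_neg hg1, add_zero]
      by_cases hf : ∀ a : α, g • a ≠ a
      · rw [if_neg (not_not.mpr hf)]
        have h2 : fixedBy α g = ∅ := by
          ext a
          simp only [mem_fixedBy, Set.mem_empty_iff_false, iff_false]
          exact hf a
        rw [h2]
        simp
      · rw [if_pos hf]
        push Not at hf
        obtain ⟨a, ha⟩ := hf
        have h2 : fixedBy α g = {a} := by
          ext b
          simp only [mem_fixedBy, Set.mem_singleton_iff]
          constructor
          · intro hb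
            by_contra hba
            exact hg1 (hsh g a b (Ne.symm hba) ha hb)
          · rintro rfl
            exact ha
        rw [h2]
        simp
  have hsum : ∑ g : Γ, Nat.card (fixedBy α g) =
      (Finset.univ.filter (fun g : Γ => ¬ ∀ a : α, g • a ≠ a)).card + (Fintype.card α - 1) := by
    rw [Finset.sum_congr rfl (fun g _ => hterm g), Finset.sum_add_distrib, Finset.card_filter,
      Finset.sum_ite_eq' Finset.univ (1 : Γ)]
    simp
  have hsplit := Finset.card_filter_add_card_filter_not (s := (Finset.univ : Finset Γ))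
    (fun g : Γ => ∀ a : α, g • a ≠ a)
  rw [Finset.card_univ] at hsplit
  have hF : (Finset.univ.filter (fun g : Γ => ∀ a : α, g • a ≠ a)).card = Fintype.card α - 1 := by
    omega
  rw [Set.ncard_eq_toFinset_card', Set.toFinset_setOf]
  exact hF

/-- Structure of a finite sharply 2-transitive group: the Frobenius kernel. -/
theorem sharp_two_trans_structure (htrans : IsPretransitive Γ α)
    (hsh : ∀ g : Γ, ∀ a b : α, a ≠ b → g • a = a → g • b = b → g = 1)
    (hn : 2 ≤ Fintype.card α)
    (hcard : Nat.card Γ = Fintype.card α * (Fintype.card α - 1)) :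
    ∃ (p j : ℕ) (K : Subgroup Γ), p.Prime ∧ 1 ≤ j ∧ Fintype.card α = p ^ j ∧ K.Normal ∧
      (∀ g : Γ, g ∈ K ↔ g = 1 ∨ ∀ a : α, g • a ≠ a) ∧ (∀ x ∈ K, ∀ y ∈ K, x * y = y * x) ∧
      (∀ x ∈ K, x ^ p = 1) ∧ Nat.card K = Fintype.card α := by
  classical
  obtain ⟨a0⟩ : Nonempty α := Fintype.card_pos_iff.mp (by omega)
  have hFcard := ncard_fpf_of_sharp htrans hsh (by omega)
  have h1F : (1 : Γ) ∉ {g : Γ | ∀ a : α, g • a ≠ a} := fun h => h a0 (one_smul _ _)
  have hKset : {g : Γ | g = 1 ∨ ∀ a : α, g • a ≠ a} = insert 1 {g : Γ | ∀ a : α, g • a ≠ a} := by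
    ext g
    simp
  have hKcard : {g : Γ | g = 1 ∨ ∀ a : α, g • a ≠ a}.ncard = Fintype.card α := by
    rw [hKset, Set.ncard_insert_of_notMem h1F (Set.toFinite _), hFcard]
    omega
  -- centralisers of fixed-point-free elements
  have hcent : ∀ x : Γ, (∀ a : α, x • a ≠ a) →
      ((Subgroup.centralizer ({x} : Set Γ) : Subgroup Γ) : Set Γ) =
        {g : Γ | g = 1 ∨ ∀ a : α, g • a ≠ a} ∧
      orbit (ConjAct Γ) x = {g : Γ | ∀ a : α, g • a ≠ a} := by
    intro x hx
    have hCK : ((Subgroup.centralizer ({x} : Set Γ) : Subgroup Γ) : Set Γ) ⊆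
        {g : Γ | g = 1 ∨ ∀ a : α, g • a ≠ a} := by
      intro c hc
      by_cases hc1 : c = 1
      · exact Or.inl hc1
      · right
        intro a ha
        apply hc1
        have hcomm : x * c = c * x :=
          Subgroup.mem_centralizer_iff.mp hc x (Set.mem_singleton x)
        apply hsh c a (x • a) (Ne.symm (hx a)) ha
        rw [← mul_smul, ← hcomm, mul_smul, ha]
    have horb : orbit (ConjAct Γ) x ⊆ {g : Γ | ∀ a : α, g • a ≠ a} := by
      intro y hy a ha
      obtain ⟨c, rfl⟩ := mem_orbit_iff.mp hy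
      rw [ConjAct.smul_def, mul_smul, mul_smul] at ha
      apply hx ((ConjAct.ofConjAct c)⁻¹ • a)
      have h5 := congrArg (fun z => (ConjAct.ofConjAct c)⁻¹ • z) ha
      simpa using h5
    have hprod : (orbit (ConjAct Γ) x).ncard *
        Nat.card (Subgroup.centralizer ({x} : Set Γ)) = Nat.card Γ := by
      rw [Subgroup.nat_card_centralizer_nat_card_stabilizer, ← MulAction.index_stabilizer]
      exact Subgroup.index_mul_card _
    have h1 : (orbit (ConjAct Γ) x).ncard ≤ Fintype.card α - 1 := by
      rw [← hFcard]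
      exact Set.ncard_le_ncard horb (Set.toFinite _)
    have h2 : Nat.card (Subgroup.centralizer ({x} : Set Γ)) ≤ Fintype.card α := by
      rw [← hKcard, ← Nat.card_coe_set_eq]
      exact Set.ncard_le_ncard hCK (Set.toFinite _)
    rw [hcard] at hprod
    have h3 : Nat.card (Subgroup.centralizer ({x} : Set Γ)) = Fintype.card α := by
      by_contra hne
      have hlt : Nat.card (Subgroup.centralizer ({x} : Set Γ)) < Fintype.card α :=
        lt_of_le_of_ne h2 hne
      have hpos : 0 < Fintype.card α - 1 := by omega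
      have : (orbit (ConjAct Γ) x).ncard * Nat.card (Subgroup.centralizer ({x} : Set Γ)) <
          Fintype.card α * (Fintype.card α - 1) := by
        calc (orbit (ConjAct Γ) x).ncard * Nat.card (Subgroup.centralizer ({x} : Set Γ))
            ≤ (Fintype.card α - 1) * Nat.card (Subgroup.centralizer ({x} : Set Γ)) :=
              Nat.mul_le_mul_right _ h1
          _ < (Fintype.card α - 1) * Fintype.card α := Nat.mul_lt_mul_of_pos_left hlt hpos
          _ = Fintype.card α * (Fintype.card α - 1) := Nat.mul_comm _ _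
      omega
    have h4 : (orbit (ConjAct Γ) x).ncard = Fintype.card α - 1 := by
      rw [h3, Nat.mul_comm] at hprod
      exact Nat.eq_of_mul_eq_mul_left (by omega) hprod
    refine ⟨?_, ?_⟩
    · apply Set.eq_of_subset_of_ncard_le hCK _ (Set.toFinite _)
      rw [hKcard, ← h3, ← Nat.card_coe_set_eq]
      rfl
    · apply Set.eq_of_subset_of_ncard_le horb _ (Set.toFinite _)
      rw [hFcard, h4]
  -- pick a fixed-point-free element
  obtain ⟨x0, hx0⟩ : ∃ x0 : Γ, ∀ a : α, x0 • a ≠ a := by
    have : {g : Γ | ∀ a : α, g • a ≠ a}.Nonempty := by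
      apply Set.nonempty_of_ncard_ne_zero
      rw [hFcard]
      omega
    exact this
  obtain ⟨hC0, horb0⟩ := hcent x0 hx0
  have hmemK : ∀ g : Γ, g ∈ Subgroup.centralizer ({x0} : Set Γ) ↔ g = 1 ∨ ∀ a : α, g • a ≠ a := by
    intro g
    have : g ∈ ((Subgroup.centralizer ({x0} : Set Γ) : Subgroup Γ) : Set Γ) ↔
        g ∈ {g : Γ | g = 1 ∨ ∀ a : α, g • a ≠ a} := by rw [hC0]
    exact this
  have hx0ne : x0 ≠ 1 := fun h => hx0 a0 (by rw [h, one_smul])
  -- the common order
  have hconj : ∀ y : Γ, (∀ a : α, y • a ≠ a) → orderOf y = orderOf x0 := by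
    intro y hy
    have hy' : y ∈ orbit (ConjAct Γ) x0 := by
      rw [horb0]
      exact hy
    obtain ⟨c, rfl⟩ := mem_orbit_iff.mp hy'
    rw [ConjAct.smul_eq_mulAut_conj]
    exact MulEquiv.orderOf_eq _ _
  have hd0 : orderOf x0 ≠ 0 := (orderOf_pos x0).ne'
  have hd1 : orderOf x0 ≠ 1 := fun h => hx0ne (orderOf_eq_one_iff.mp h)
  have hpprime : (orderOf x0).minFac.Prime := Nat.minFac_prime hd1
  have hpd : (orderOf x0).minFac ∣ orderOf x0 := Nat.minFac_dvd _
  have hyord : orderOf (x0 ^ (orderOf x0 / (orderOf x0).minFac)) = (orderOf x0).minFac :=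
    orderOf_pow_orderOf_div hd0 hpd
  have hyK : x0 ^ (orderOf x0 / (orderOf x0).minFac) ∈ Subgroup.centralizer ({x0} : Set Γ) :=
    Subgroup.pow_mem _ ((hmemK x0).mpr (Or.inr hx0)) _
  have hyne : x0 ^ (orderOf x0 / (orderOf x0).minFac) ≠ 1 := by
    intro h
    rw [h, orderOf_one] at hyord
    exact hpprime.one_lt.ne hyord
  have hdp : orderOf x0 = (orderOf x0).minFac := by
    rw [← hyord]
    exact (hconj _ (((hmemK _).mp hyK).resolve_left hyne)).symm
  have hprime : (orderOf x0).Prime := by
    rw [hdp]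
    exact hpprime
  have hexp : ∀ y ∈ Subgroup.centralizer ({x0} : Set Γ), y ^ orderOf x0 = 1 := by
    intro y hy
    rcases (hmemK y).mp hy with rfl | hy
    · exact one_pow _
    · rw [← hconj y hy]
      exact pow_orderOf_eq_one y
  have hKcard' : Nat.card (Subgroup.centralizer ({x0} : Set Γ)) = Fintype.card α := by
    rw [← hKcard, ← hC0, ← Nat.card_coe_set_eq]
    rfl
  have : Fact (orderOf x0).Prime := ⟨hprime⟩
  have hpg : IsPGroup (orderOf x0) (Subgroup.centralizer ({x0} : Set Γ)) := by
    intro g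
    refine ⟨1, ?_⟩
    apply Subtype.ext
    have := hexp g g.2
    simpa using this
  obtain ⟨j, hj⟩ := IsPGroup.iff_card.mp hpg
  rw [hKcard'] at hj
  have hj1 : 1 ≤ j := by
    rcases Nat.eq_zero_or_pos j with h | h
    · rw [h, pow_zero] at hj
      omega
    · exact h
  refine ⟨orderOf x0, j, Subgroup.centralizer ({x0} : Set Γ), hprime, hj1, hj, ?_, hmemK, ?_,
    hexp, hKcard'⟩
  · constructor
    intro g hg h
    rw [hmemK] at hg ⊢
    rcases hg with rfl | hg
    · left
      group
    · right
      intro a ha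
      apply hg (h⁻¹ • a)
      rw [mul_smul, mul_smul] at ha
      have h5 := congrArg (fun z => h⁻¹ • z) ha
      simpa using h5
  · intro y hy z hz
    rcases (hmemK y).mp hy with rfl | hy'
    · rw [one_mul, mul_one]
    · have hz' : z ∈ ((Subgroup.centralizer ({y} : Set Γ) : Subgroup Γ) : Set Γ) := by
        rw [(hcent y hy').1]
        exact (hmemK z).mp hz
      exact Subgroup.mem_centralizer_iff.mp hz' y (Set.mem_singleton y)

end sharp2

end Cfsg.Agent.helper18
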