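import Mathlib
import Cfsg.Agent.S0016
import Cfsg.Agent.S0201

set_option autoImplicit false

namespace Cfsg.Agent.helper18.TwoRankOne

/-- the four-group generated by two commuting involutions -/
def kf {G : Type*} [Group G] (z t : G) (hz : z * z = 1) (ht : t * t = 1) (hc : t * z = z * t) :
    Subgroup G where
  carrier := {1, z, t, z * t}
  one_mem' := by simp
  mul_mem' := by
    have e1 : z * (z * t) = t := by rw [← mul_assoc, hz, one_mul]
    have e2 : z * t * z = t := by rw [mul_assoc, hc, ← mul_assoc, hz, one_mul]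
    have e3 : t * (z * t) = z := by rw [← mul_assoc, hc, mul_assoc, ht, mul_one]
    have e4 : z * t * t = z := by rw [mul_assoc, ht, mul_one]
    have e5 : z * t * (z * t) = 1 := by rw [mul_assoc, e3, hz]
    rintro a b (rfl | rfl | rfl | rfl) (rfl | rfl | rfl | rfl) <;>
      simp [hz, ht, hc, e1, e2, e3, e4, e5]
  inv_mem' := by
    have i1 : z⁻¹ = z := inv_eq_of_mul_eq_one_left hz
    have i2 : t⁻¹ = t := inv_eq_of_mul_eq_one_left ht
    rintro a (rfl | rfl | rfl | rfl) <;> simp [i1, i2, hc]

lemma exists_kleinFour {G : Type*} [Group G] (z t : G) (hz : orderOf z = 2) (ht : orderOf t = 2)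
    (hzt : z ≠ t) (hc : t * z = z * t) : ∃ E : Subgroup G, IsKleinFour E := by
  have hz2 : z * z = 1 := by rw [← pow_two, ← hz, pow_orderOf_eq_one]
  have ht2 : t * t = 1 := by rw [← pow_two, ← ht, pow_orderOf_eq_one]
  have hz1 : z ≠ 1 := by
    intro e; rw [e, orderOf_one] at hz; omega
  have ht1 : t ≠ 1 := by
    intro e; rw [e, orderOf_one] at ht; omega
  refine ⟨kf z t hz2 ht2 hc, ?_, ?_⟩
  · -- card
    have : Nat.card (kf z t hz2 ht2 hc) = ({1, z, t, z * t} : Set G).ncard := by
      rw [← Nat.card_coe_set_eq]; rfl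
    rw [this]
    rw [Set.ncard_insert_of_notMem, Set.ncard_insert_of_notMem, Set.ncard_insert_of_notMem,
      Set.ncard_singleton]
    · simp only [Set.mem_singleton_iff]
      intro e
      apply hz1
      have : z * t * t = t * t := by rw [← e]
      rw [mul_assoc, ht2, mul_one] at this
      exact this
    · simp only [Set.mem_insert_iff, Set.mem_singleton_iff]
      rintro (e | e)
      · exact hzt e
      · apply ht1
        have h2 : z * 1 = z * t := by rw [mul_one]; exact e
        exact (mul_left_cancel h2).symm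
    · simp only [Set.mem_insert_iff, Set.mem_singleton_iff]
      rintro (e | e | e)
      · exact hz1 e.symm
      · exact ht1 e.symm
      · apply hzt
        have h2 : z * t = z * z := by rw [hz2]; exact e.symm
        exact (mul_left_cancel h2).symm
  · -- exponent
    have hdvd : Monoid.exponent (kf z t hz2 ht2 hc) ∣ 2 := by
      apply Monoid.exponent_dvd_of_forall_pow_eq_one
      rintro ⟨a, ha⟩
      apply Subtype.ext
      have ha' : a = 1 ∨ a = z ∨ a = t ∨ a = z * t := ha
      have e5 : z * t * (z * t) = 1 := by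
        rw [mul_assoc, ← mul_assoc t, hc, mul_assoc, ht2, mul_one, hz2]
      change a ^ 2 = 1
      rcases ha' with rfl | rfl | rfl | rfl
      · simp
      · rw [pow_two, hz2]
      · rw [pow_two, ht2]
      · rw [pow_two, e5]
    rcases (Nat.dvd_prime Nat.prime_two).mp hdvd with h | h
    · exfalso
      rw [Monoid.exp_eq_one_iff] at h
      apply hz1
      have hzm : z ∈ kf z t hz2 ht2 hc := by
        change z ∈ ({1, z, t, z * t} : Set G)
        simp
      have := h.elim (⟨z, hzm⟩ : kf z t hz2 ht2 hc) 1
      exact congrArg Subtype.val this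
    · exact h

/-- a `2`-subgroup of a group without four-subgroups has a unique subgroup of order `2` -/
lemma unique_order_two {G : Type*} [Group G] (S : Subgroup G) [Finite S] (hS : IsPGroup 2 S)
    [Nontrivial S] (hK : ∀ E : Subgroup G, ¬ IsKleinFour E) :
    ∀ H K : Subgroup ↥S, Nat.card H = 2 → Nat.card K = 2 → H = K := by
  haveI : Fact (Nat.Prime 2) := ⟨Nat.prime_two⟩
  haveI := hS.center_nontrivial
  have h2 : 2 ∣ Nat.card (Subgroup.center ↥S) := by
    have hc : IsPGroup 2 (Subgroup.center ↥S) := hS.to_subgroup _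
    rcases hc.card_eq_or_dvd with h | h
    · exfalso
      have := (Nat.card_eq_one_iff_unique.mp h).1
      exact not_subsingleton _ this
    · exact h
  obtain ⟨z, hz⟩ := exists_prime_orderOf_dvd_card' 2 h2
  have hzS : orderOf (z : ↥S) = 2 := by rw [Subgroup.orderOf_coe]; exact hz
  have hzG : orderOf ((z : ↥S) : G) = 2 := by rw [Subgroup.orderOf_coe]; exact hzS
  have key : ∀ H : Subgroup ↥S, Nat.card H = 2 → H = Subgroup.zpowers (z : ↥S) := by
    intro H hH
    have hne : H ≠ ⊥ := by
      intro e; rw [e, Subgroup.card_bot] at hH; omega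
    obtain ⟨⟨t, htH⟩, ht1'⟩ := (Subgroup.ne_bot_iff_exists_ne_one (H := H)).mp hne
    have ht1 : t ≠ 1 := fun e => ht1' (Subtype.ext e)
    have hto : orderOf t = 2 := by
      have hd : orderOf t ∣ 2 := by
        rw [← hH]; exact Subgroup.orderOf_dvd_natCard H htH
      rcases (Nat.dvd_prime Nat.prime_two).mp hd with h | h
      · exact absurd (orderOf_eq_one_iff.mp h) ht1
      · exact h
    by_cases htz : (z : ↥S) = t
    · symm
      apply Subgroup.eq_of_le_of_card_ge
      · rw [Subgroup.zpowers_le, htz]; exact htH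
      · rw [hH, Nat.card_zpowers, hzS]
    · exfalso
      have htG : orderOf (t : G) = 2 := by rw [Subgroup.orderOf_coe]; exact hto
      have hcomm : (t : G) * ((z : ↥S) : G) = ((z : ↥S) : G) * (t : G) := by
        have := (Subgroup.mem_center_iff.mp z.2) t
        exact congrArg Subtype.val this
      obtain ⟨E, hE⟩ := exists_kleinFour ((z : ↥S) : G) (t : G) hzG htG
        (fun e => htz (Subtype.ext e)) hcomm
      exact hK E hE
  intro H K hH hK2
  rw [key H hH, key K hK2]

/-- structure of a Sylow `2`-subgroup when there is no four-subgroup -/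
lemma sylow_structure {G : Type*} [Group G] [Finite G] (heven : Even (Nat.card G))
    (hK : ∀ E : Subgroup G, ¬ IsKleinFour E) (S : Sylow 2 G) :
    IsCyclic ↥(S : Subgroup G) ∨
      ∃ m : ℕ, Nonempty (↥(S : Subgroup G) ≃* QuaternionGroup (2 ^ (m + 1))) := by
  haveI : Fact (Nat.Prime 2) := ⟨Nat.prime_two⟩
  haveI : Nontrivial ↥(S : Subgroup G) := by
    have := S.ne_bot_of_dvd_card heven.two_dvd
    exact (Subgroup.nontrivial_iff_ne_bot _).mpr this
  rcases Cfsg.Agent.S0016.result 2 S.2 (unique_order_two (S : Subgroup G) S.2 hK) with h | ⟨_, n, ⟨e⟩⟩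
  · exact Or.inl h
  · rcases n with _ | m
    · left
      haveI := QuaternionGroup.quaternionGroup_one_isCyclic
      rw [pow_zero] at e
      exact isCyclic_of_surjective e.symm e.symm.surjective
    · exact Or.inr ⟨m, ⟨e⟩⟩

/-- the core-free case -/
lemma central_involution {G : Type*} [Group G] [Finite G] (heven : Even (Nat.card G))
    (S : Sylow 2 G)
    (hS : IsCyclic ↥(S : Subgroup G) ∨
      ∃ m : ℕ, Nonempty (↥(S : Subgroup G) ≃* QuaternionGroup (2 ^ (m + 1))))
    (hO : ∀ N : Subgroup G, N.Normal → Odd (Nat.card N) → N = ⊥) :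
    ∃ z : G, orderOf z = 2 ∧ z ∈ Subgroup.center G := by
  haveI : Fact (Nat.Prime 2) := ⟨Nat.prime_two⟩
  rcases hS with hc | ⟨m, ⟨e⟩⟩
  · have hp : (Nat.card G).minFac = 2 := (Nat.minFac_eq_two_iff _).mpr heven.two_dvd
    have hcomp := IsCyclic.isComplement' hp hc
    set K := (MonoidHom.transferSylow S (hc.normalizer_le_centralizer hp)).ker with hKdef
    have hodd : Odd (Nat.card K) := by
      rw [← Nat.not_even_iff_odd, even_iff_two_dvd]
      exact MonoidHom.not_dvd_card_ker_transferSylow S (hc.normalizer_le_centralizer hp)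
    have hKb : K = ⊥ := hO K (MonoidHom.normal_ker _) hodd
    have hcard := hcomp.card_mul
    rw [hKb, Subgroup.card_bot, one_mul] at hcard
    have hStop : (S : Subgroup G) = ⊤ := (Subgroup.card_eq_iff_eq_top _).mp hcard
    have hcomm : ∀ a b : G, a * b = b * a := by
      intro a b
      have ha : a ∈ (S : Subgroup G) := by rw [hStop]; trivial
      have hb : b ∈ (S : Subgroup G) := by rw [hStop]; trivial
      letI := IsCyclic.commGroup (α := ↥(S : Subgroup G))
      have := mul_comm (⟨a, ha⟩ : ↥(S : Subgroup G)) ⟨b, hb⟩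
      exact congrArg Subtype.val this
    obtain ⟨z, hz⟩ := exists_prime_orderOf_dvd_card' 2 heven.two_dvd
    exact ⟨z, hz, Subgroup.mem_center_iff.mpr (fun g => hcomm g z)⟩
  · have h2 := Cfsg.Agent.S0201.result S m e hO
    have hd : 2 ∣ Nat.card (Subgroup.center G) := by rw [h2]
    obtain ⟨z, hz⟩ := exists_prime_orderOf_dvd_card' 2 hd
    exact ⟨(z : G), by rw [Subgroup.orderOf_coe]; exact hz, z.2⟩

end Cfsg.Agent.helper18.TwoRankOne
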