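import Mathlib
import Cfsg.Agent.Lib_helper18_KTrans

set_option autoImplicit false

namespace Cfsg.Agent.helper18.WittExt

open MulAction Cfsg.Agent.helper18

variable {α : Type*}

lemma kt_two_pair {X : Subgroup (Equiv.Perm α)} {S : Set α} (h : KT X S 2) {a b c d : α}
    (ha : a ∉ S) (hb : b ∉ S) (hc : c ∉ S) (hd : d ∉ S) (hab : a ≠ b) (hcd : c ≠ d) :
    ∃ u ∈ X, u a = c ∧ u b = d := by
  classical
  have hba : b ≠ a := Ne.symm hab
  obtain ⟨u, hu, hus⟩ := h {a, b} (fun z => if z = a then c else d)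
    (Finset.card_le_two)
    (by
      intro z hz
      rw [Finset.mem_insert, Finset.mem_singleton] at hz
      rcases hz with hz | hz
      · rw [hz]; exact ⟨ha, by rw [if_pos rfl]; exact hc⟩
      · rw [hz]; exact ⟨hb, by rw [if_neg hba]; exact hd⟩)
    (by
      intro z hz w hw hzw
      rw [Finset.coe_insert, Finset.coe_singleton, Set.mem_insert_iff,
        Set.mem_singleton_iff] at hz hw
      rcases hz with hz | hz <;> rcases hw with hw | hw
      · rw [hz, hw]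
      · exfalso
        rw [hz, hw] at hzw
        simp only [if_pos rfl, if_neg hba] at hzw
        exact hcd hzw
      · exfalso
        rw [hz, hw] at hzw
        simp only [if_pos rfl, if_neg hba] at hzw
        exact hcd hzw.symm
      · rw [hz, hw])
  refine ⟨u, hu, ?_, ?_⟩
  · have h1 := hus a (by simp)
    simpa using h1
  · have h1 := hus b (by simp)
    simpa [hba] using h1

/-- Hypotheses of the one-step transitive extension lemma. -/
structure StepHyp (X : Subgroup (Equiv.Perm α)) (S : Set α) (a b c : α)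
    (g h : Equiv.Perm α) : Prop where
  fixes : Fixes X S
  kt : KT X S 2
  hc : c ∈ S
  ha : a ∉ S
  hb : b ∉ S
  hab : a ≠ b
  hg : g ∈ X
  hga : g a = b
  hgb : g b = a
  hhc : h c = a
  hha : h a = c
  hhS : ∀ z ∈ S, z ≠ c → h z = z
  hh2 : h ^ 2 ∈ X
  hgh : (g * h) ^ 3 ∈ X
  hn : ∀ x ∈ X ⊓ stabilizer (Equiv.Perm α) a, h * x * h⁻¹ ∈ X ⊓ stabilizer (Equiv.Perm α) a

/-- membership in `X ∪ X h X` -/
def DC (X : Subgroup (Equiv.Perm α)) (h : Equiv.Perm α) (y : Equiv.Perm α) : Prop :=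
  y ∈ X ∨ ∃ x₁ ∈ X, ∃ x₂ ∈ X, y = x₁ * h * x₂

section step

variable {X : Subgroup (Equiv.Perm α)} {S : Set α} {a b c : α} {g h : Equiv.Perm α}

lemma DC.mul_left {y x : Equiv.Perm α} (hy : DC X h y) (hx : x ∈ X) : DC X h (x * y) := by
  rcases hy with hy | ⟨x₁, h₁, x₂, h₂, rfl⟩
  · exact Or.inl (X.mul_mem hx hy)
  · exact Or.inr ⟨x * x₁, X.mul_mem hx h₁, x₂, h₂, by group⟩

lemma DC.mul_right {y x : Equiv.Perm α} (hy : DC X h y) (hx : x ∈ X) : DC X h (y * x) := by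
  rcases hy with hy | ⟨x₁, h₁, x₂, h₂, rfl⟩
  · exact Or.inl (X.mul_mem hy hx)
  · exact Or.inr ⟨x₁, h₁, x₂ * x, X.mul_mem h₂ hx, by group⟩

lemma StepHyp.conj_inv_mem (W : StepHyp X S a b c g h) {x : Equiv.Perm α}
    (hx : x ∈ X ⊓ stabilizer (Equiv.Perm α) a) : h⁻¹ * x * h ∈ X := by
  have h1 := (W.hn x hx).1
  have h2 : h⁻¹ * x * h = (h ^ 2)⁻¹ * (h * x * h⁻¹) * h ^ 2 := by group
  rw [h2]
  exact X.mul_mem (X.mul_mem (X.inv_mem W.hh2) h1) W.hh2

lemma StepHyp.decomp (W : StepHyp X S a b c g h) {x : Equiv.Perm α} (hx : x ∈ X)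
    (hxa : x a ≠ a) : ∃ u ∈ X ⊓ stabilizer (Equiv.Perm α) a,
      ∃ v ∈ X ⊓ stabilizer (Equiv.Perm α) a, x = u * g * v := by
  have hxa' : x a ∉ S := by
    have := W.fixes.smul_notMem hx W.ha
    simpa using this
  obtain ⟨u, hu, hua, hub⟩ := kt_two_pair W.kt W.ha W.hb W.ha hxa' W.hab (Ne.symm hxa)
  refine ⟨u, Subgroup.mem_inf.mpr ⟨hu, ?_⟩, (u * g)⁻¹ * x,
    Subgroup.mem_inf.mpr ⟨X.mul_mem (X.inv_mem (X.mul_mem hu W.hg)) hx, ?_⟩, by group⟩
  · rw [mem_stabilizer_iff, Equiv.Perm.smul_def]; exact hua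
  · rw [mem_stabilizer_iff, Equiv.Perm.smul_def, Equiv.Perm.mul_apply, Equiv.Perm.inv_eq_iff_eq,
      Equiv.Perm.mul_apply, W.hga, hub]

lemma StepHyp.hgh_eq (g h : Equiv.Perm α) :
    h * g * h = (g⁻¹ * (g * h) ^ 3 * (h ^ 2)⁻¹) * h * g⁻¹ := by
  have e : (g * h) ^ 3 = g * h * (g * h) * (g * h) := by
    rw [pow_succ, pow_succ, pow_one]
  rw [e]
  group

lemma StepHyp.key (W : StepHyp X S a b c g h) {x : Equiv.Perm α} (hx : x ∈ X) :
    DC X h (h * x * h) := by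
  by_cases hxa : x a = a
  · left
    have hx' : x ∈ X ⊓ stabilizer (Equiv.Perm α) a :=
      Subgroup.mem_inf.mpr ⟨hx, by rw [mem_stabilizer_iff, Equiv.Perm.smul_def]; exact hxa⟩
    have h1 := (W.hn x hx').1
    have h2 : h * x * h = (h * x * h⁻¹) * h ^ 2 := by group
    rw [h2]
    exact X.mul_mem h1 W.hh2
  · right
    obtain ⟨u, hu, v, hv, rfl⟩ := W.decomp hx hxa
    have h1 := (W.hn u hu).1
    have h2 := W.conj_inv_mem hv
    refine ⟨(h * u * h⁻¹) * (g⁻¹ * (g * h) ^ 3 * (h ^ 2)⁻¹), ?_, g⁻¹ * (h⁻¹ * v * h), ?_, ?_⟩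
    · exact X.mul_mem h1 (X.mul_mem (X.mul_mem (X.inv_mem W.hg) W.hgh) (X.inv_mem W.hh2))
    · exact X.mul_mem (X.inv_mem W.hg) h2
    · have h3 : h * (u * g * v) * h = (h * u * h⁻¹) * (h * g * h) * (h⁻¹ * v * h) := by group
      rw [h3, StepHyp.hgh_eq g h]
      group

/-- `X ∪ X h X` as a subgroup. -/
def StepHyp.W' (W : StepHyp X S a b c g h) : Subgroup (Equiv.Perm α) where
  carrier := {y | DC X h y}
  one_mem' := Or.inl X.one_mem
  mul_mem' := by
    intro y z hy hz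
    rcases hy with hy | ⟨x₁, h₁, x₂, h₂, rfl⟩
    · exact DC.mul_left hz hy
    · rcases hz with hz | ⟨x₃, h₃, x₄, h₄, rfl⟩
      · exact DC.mul_right (Or.inr ⟨x₁, h₁, x₂, h₂, rfl⟩) hz
      · have h5 := W.key (X.mul_mem h₂ h₃)
        have h6 := (h5.mul_left h₁).mul_right h₄
        have h7 : x₁ * h * x₂ * (x₃ * h * x₄) = x₁ * (h * (x₂ * x₃) * h) * x₄ := by group
        change DC X h _
        rw [h7]
        exact h6
  inv_mem' := by
    intro y hy
    rcases hy with hy | ⟨x₁, h₁, x₂, h₂, rfl⟩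
    · exact Or.inl (X.inv_mem hy)
    · right
      refine ⟨x₂⁻¹, X.inv_mem h₂, (h ^ 2)⁻¹ * x₁⁻¹, X.mul_mem (X.inv_mem W.hh2) (X.inv_mem h₁), ?_⟩
      group

lemma StepHyp.closure_dc (W : StepHyp X S a b c g h) {y : Equiv.Perm α}
    (hy : y ∈ Subgroup.closure ((X : Set (Equiv.Perm α)) ∪ {h})) : DC X h y := by
  have h1 : Subgroup.closure ((X : Set (Equiv.Perm α)) ∪ {h}) ≤ W.W' := by
    rw [Subgroup.closure_le]
    intro z hz
    rcases hz with hz | hz
    · exact Or.inl hz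
    · rw [Set.mem_singleton_iff] at hz
      exact Or.inr ⟨1, X.one_mem, 1, X.one_mem, by rw [hz]; group⟩
  exact h1 hy

lemma StepHyp.X_le (X : Subgroup (Equiv.Perm α)) (h : Equiv.Perm α) :
    X ≤ Subgroup.closure ((X : Set (Equiv.Perm α)) ∪ {h}) := by
  intro x hx
  exact Subgroup.subset_closure (Or.inl hx)

lemma StepHyp.h_mem (X : Subgroup (Equiv.Perm α)) (h : Equiv.Perm α) :
    h ∈ Subgroup.closure ((X : Set (Equiv.Perm α)) ∪ {h}) :=
  Subgroup.subset_closure (Or.inr rfl)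

lemma StepHyp.stab_c (W : StepHyp X S a b c g h) :
    Subgroup.closure ((X : Set (Equiv.Perm α)) ∪ {h}) ⊓ stabilizer (Equiv.Perm α) c = X := by
  apply le_antisymm
  · intro y hy'
    obtain ⟨hy, hyc⟩ := Subgroup.mem_inf.mp hy'
    rw [mem_stabilizer_iff, Equiv.Perm.smul_def] at hyc
    rcases W.closure_dc hy with hy | ⟨x₁, h₁, x₂, h₂, rfl⟩
    · exact hy
    · exfalso
      have e1 : x₂ c = c := by
        have := W.fixes x₂ h₂ c W.hc
        simpa using this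
      rw [Equiv.Perm.mul_apply, Equiv.Perm.mul_apply, e1, W.hhc] at hyc
      have e2 : x₁ a ∉ S := by
        have := W.fixes.smul_notMem h₁ W.ha
        simpa using this
      rw [hyc] at e2
      exact e2 W.hc
  · intro x hx
    refine Subgroup.mem_inf.mpr ⟨StepHyp.X_le X h hx, ?_⟩
    rw [mem_stabilizer_iff]
    exact W.fixes x hx c W.hc

lemma StepHyp.fixes' (W : StepHyp X S a b c g h) :
    Fixes (Subgroup.closure ((X : Set (Equiv.Perm α)) ∪ {h})) (S \ {c}) := by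
  intro y hy z hz
  have hzS : z ∈ S := hz.1
  have hzc : z ≠ c := fun e => hz.2 (by rw [e]; rfl)
  have fx : ∀ x ∈ X, x z = z := by
    intro x hx
    have := W.fixes x hx z hzS
    simpa using this
  rw [Equiv.Perm.smul_def]
  rcases W.closure_dc hy with hy | ⟨x₁, h₁, x₂, h₂, rfl⟩
  · exact fx y hy
  · rw [Equiv.Perm.mul_apply, Equiv.Perm.mul_apply, fx x₂ h₂, W.hhS z hzS hzc, fx x₁ h₁]

lemma StepHyp.trans_a (W : StepHyp X S a b c g h) {y : α} (hy : y ∉ S \ {c}) :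
    ∃ w ∈ Subgroup.closure ((X : Set (Equiv.Perm α)) ∪ {h}), w a = y := by
  by_cases hyS : y ∈ S
  · have hyc : y = c := by
      by_contra hne
      exact hy ⟨hyS, hne⟩
    exact ⟨h, StepHyp.h_mem X h, by rw [hyc]; exact W.hha⟩
  · obtain ⟨u, hu, hua⟩ := W.kt.exists_smul_eq (by norm_num) W.ha hyS
    exact ⟨u, StepHyp.X_le X h hu, by simpa using hua⟩

lemma StepHyp.kt1 (W : StepHyp X S a b c g h) :
    KT (Subgroup.closure ((X : Set (Equiv.Perm α)) ∪ {h})) (S \ {c}) 1 := by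
  classical
  intro s f hs hS hf
  rcases s.eq_empty_or_nonempty with rfl | ⟨x0, hx0⟩
  · exact ⟨1, Subgroup.one_mem _, by simp⟩
  · obtain ⟨w1, hw1, e1⟩ := W.trans_a (hS x0 hx0).1
    obtain ⟨w2, hw2, e2⟩ := W.trans_a (hS x0 hx0).2
    refine ⟨w2 * w1⁻¹, Subgroup.mul_mem _ hw2 (Subgroup.inv_mem _ hw1), ?_⟩
    intro x hx
    have hxx : x = x0 := Finset.card_le_one.mp hs x hx x0 hx0
    rw [hxx, Equiv.Perm.smul_def, Equiv.Perm.mul_apply, Equiv.Perm.inv_eq_iff_eq.mpr e1.symm, e2]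

theorem StepHyp.kt_succ (W : StepHyp X S a b c g h) {k : ℕ} (hk : KT X S k) :
    KT (Subgroup.closure ((X : Set (Equiv.Perm α)) ∪ {h})) (S \ {c}) (k + 1) := by
  have hcn : c ∉ S \ {c} := fun hh => hh.2 rfl
  refine KT.of_stab W.fixes' W.kt1 hcn ?_
  rw [W.stab_c]
  have : insert c (S \ {c}) = S := by
    ext z
    constructor
    · rintro (rfl | hz)
      · exact W.hc
      · exact hz.1
    · intro hz
      by_cases hzc : z = c
      · exact Or.inl hzc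
      · exact Or.inr ⟨hz, hzc⟩
  rw [this]
  exact hk

end step


section main

/-- The generated groups `G_i = ⟨G, s_2, …, s_{i-1}⟩`. -/
def Gi (G : Subgroup (Equiv.Perm α)) (s : ℕ → Equiv.Perm α) (j : ℕ) : Subgroup (Equiv.Perm α) :=
  Subgroup.closure ((G : Set (Equiv.Perm α)) ∪ {x | ∃ i : ℕ, 2 ≤ i ∧ i + 1 ≤ j ∧ x = s i})

/-- The points `q_{i+1}, …, q_t`. -/
def Si (t : ℕ) (q : ℕ → α) (i : ℕ) : Set α := {x | ∃ j : ℕ, i < j ∧ j ≤ t ∧ x = q j}

structure WHyp (t : ℕ) (q : ℕ → α) (G : Subgroup (Equiv.Perm α)) (s : ℕ → Equiv.Perm α)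
    (H : Subgroup (Equiv.Perm α)) : Prop where
  ht : 2 ≤ t
  hq : ∀ i j : ℕ, 1 ≤ i → i ≤ t → 1 ≤ j → j ≤ t → q i = q j → i = j
  hfix : ∀ g ∈ G, ∀ i : ℕ, 3 ≤ i → i ≤ t → g (q i) = q i
  h2 : ∀ a b c d : α, (∀ i, 3 ≤ i → i ≤ t → a ≠ q i ∧ b ≠ q i ∧ c ≠ q i ∧ d ≠ q i) → a ≠ b →
    c ≠ d → ∃ g ∈ G, g a = c ∧ g b = d
  hs1 : s 1 ∈ G
  hs1q : s 1 (q 1) = q 2 ∧ s 1 (q 2) = q 1
  hsq : ∀ i : ℕ, 2 ≤ i → i + 1 ≤ t → s i (q i) = q (i + 1) ∧ s i (q (i + 1)) = q i ∧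
    ∀ j : ℕ, 1 ≤ j → j ≤ t → j ≠ i → j ≠ i + 1 → s i (q j) = q j
  hH : H = G ⊓ stabilizer (Equiv.Perm α) (q 1) ⊓ stabilizer (Equiv.Perm α) (q 2)
  hsq2 : ∀ i : ℕ, 1 ≤ i → i + 1 ≤ t → s i ^ 2 ∈ H
  hbraid : ∀ i : ℕ, 1 ≤ i → i + 2 ≤ t → (s i * s (i + 1)) ^ 3 ∈ H
  hcomm : ∀ i j : ℕ, 1 ≤ i → i + 2 ≤ j → j + 1 ≤ t → (s i * s j) ^ 2 ∈ H ∧ (s j * s i) ^ 2 ∈ H
  hnorm : ∀ i : ℕ, 2 ≤ i → i + 1 ≤ t → ∀ g ∈ G ⊓ stabilizer (Equiv.Perm α) (q 2),
    s i * g * (s i)⁻¹ ∈ G ⊓ stabilizer (Equiv.Perm α) (q 2)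

variable {t : ℕ} {q : ℕ → α} {G : Subgroup (Equiv.Perm α)} {s : ℕ → Equiv.Perm α}
  {H : Subgroup (Equiv.Perm α)}

lemma G_le_Gi (G : Subgroup (Equiv.Perm α)) (s : ℕ → Equiv.Perm α) (j : ℕ) : G ≤ Gi G s j := by
  intro x hx
  exact Subgroup.subset_closure (Or.inl hx)

lemma s_mem_Gi (G : Subgroup (Equiv.Perm α)) (s : ℕ → Equiv.Perm α) {i j : ℕ} (hi : 2 ≤ i)
    (hij : i + 1 ≤ j) : s i ∈ Gi G s j :=
  Subgroup.subset_closure (Or.inr ⟨i, hi, hij, rfl⟩)

lemma Gi_two (G : Subgroup (Equiv.Perm α)) (s : ℕ → Equiv.Perm α) : Gi G s 2 = G := by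
  apply le_antisymm
  · unfold Gi
    rw [Subgroup.closure_le]
    rintro x (hx | ⟨i, h1, h2, _⟩)
    · exact hx
    · omega
  · exact G_le_Gi G s 2

lemma Gi_mono (G : Subgroup (Equiv.Perm α)) (s : ℕ → Equiv.Perm α) {i j : ℕ} (hij : i ≤ j) :
    Gi G s i ≤ Gi G s j := by
  unfold Gi
  apply Subgroup.closure_mono
  rintro x (hx | ⟨k, h1, h2, h3⟩)
  · exact Or.inl hx
  · exact Or.inr ⟨k, h1, by omega, h3⟩

lemma Gi_succ (G : Subgroup (Equiv.Perm α)) (s : ℕ → Equiv.Perm α) {i : ℕ} (hi : 2 ≤ i) :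
    Gi G s (i + 1) = Subgroup.closure ((Gi G s i : Set (Equiv.Perm α)) ∪ {s i}) := by
  apply le_antisymm
  · unfold Gi
    rw [Subgroup.closure_le]
    rintro x (hx | ⟨k, h1, h2, h3⟩)
    · exact Subgroup.subset_closure (Or.inl (Subgroup.subset_closure (Or.inl hx)))
    · by_cases hk : k = i
      · rw [h3, hk]
        exact Subgroup.subset_closure (Or.inr rfl)
      · rw [h3]
        exact Subgroup.subset_closure (Or.inl (Subgroup.subset_closure
          (Or.inr ⟨k, h1, by omega, rfl⟩)))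
  · rw [Subgroup.closure_le]
    rintro x (hx | hx)
    · exact Gi_mono G s (Nat.le_succ i) hx
    · rw [Set.mem_singleton_iff] at hx
      rw [hx]
      exact s_mem_Gi G s hi le_rfl

lemma q_notMem_Si (W : WHyp t q G s H) {j i : ℕ} (hj : 1 ≤ j) (hji : j ≤ i) (hi : i ≤ t) :
    q j ∉ Si t q i := by
  rintro ⟨k, h1, h2, h3⟩
  have := W.hq j k hj (by omega) (by omega) h2 h3
  omega

lemma Si_diff (W : WHyp t q G s H) {i : ℕ} (hi : 1 ≤ i) (hit : i + 1 ≤ t) :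
    Si t q i \ {q (i + 1)} = Si t q (i + 1) := by
  ext z
  constructor
  · rintro ⟨⟨k, h1, h2, h3⟩, hz⟩
    refine ⟨k, ?_, h2, h3⟩
    by_contra hk
    have : k = i + 1 := by omega
    apply hz
    rw [h3, this]
    rfl
  · rintro ⟨k, h1, h2, h3⟩
    refine ⟨⟨k, by omega, h2, h3⟩, ?_⟩
    intro hz
    rw [Set.mem_singleton_iff, h3] at hz
    have := W.hq k (i + 1) (by omega) h2 (by omega) hit hz
    omega

lemma q_mem_Si {i : ℕ} (hit : i + 1 ≤ t) : q (i + 1) ∈ Si t q i :=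
  ⟨i + 1, Nat.lt_succ_self i, hit, rfl⟩

lemma H_le_G (W : WHyp t q G s H) : H ≤ G := by
  rw [W.hH]
  exact inf_le_left.trans inf_le_left

lemma WHyp.conj_formula (x y : Equiv.Perm α) :
    x * y * x⁻¹ = (x * y) ^ 2 * y⁻¹ * (x ^ 2)⁻¹ := by
  rw [pow_two, pow_two]
  group

lemma conj_s1 (W : WHyp t q G s H) {i : ℕ} (hi : 3 ≤ i) (hit : i + 1 ≤ t) :
    s i * s 1 * (s i)⁻¹ ∈ G := by
  rw [WHyp.conj_formula]
  have h1 := (W.hcomm 1 i le_rfl (by omega) hit).2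
  have h2 := W.hsq2 i (by omega) hit
  exact G.mul_mem (G.mul_mem (H_le_G W h1) (G.inv_mem W.hs1)) (G.inv_mem (H_le_G W h2))

lemma q_ne (W : WHyp t q G s H) {i j : ℕ} (hi : 1 ≤ i) (hit : i ≤ t) (hj : 1 ≤ j) (hjt : j ≤ t)
    (hij : i ≠ j) : q i ≠ q j := fun e => hij (W.hq i j hi hit hj hjt e)

lemma norm_G (W : WHyp t q G s H) {i : ℕ} (hi : 3 ≤ i) (hit : i + 1 ≤ t) {x : Equiv.Perm α}
    (hx : x ∈ G) : s i * x * (s i)⁻¹ ∈ G := by
  have ht := W.ht
  by_cases hx2 : x (q 2) = q 2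
  · have hx' : x ∈ G ⊓ stabilizer (Equiv.Perm α) (q 2) :=
      Subgroup.mem_inf.mpr ⟨hx, by rw [mem_stabilizer_iff, Equiv.Perm.smul_def]; exact hx2⟩
    exact (Subgroup.mem_inf.mp (W.hnorm i (by omega) hit x hx')).1
  · obtain ⟨u, hu, hu2, hu1⟩ := W.h2 (q 2) (q 1) (q 2) (x (q 2))
      (by
        intro k hk hkt
        refine ⟨q_ne W (by omega) (by omega) (by omega) hkt (by omega),
          q_ne W le_rfl (by omega) (by omega) hkt (by omega),
          q_ne W (by omega) (by omega) (by omega) hkt (by omega), ?_⟩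
        intro e
        have e2 : x (q 2) = x (q k) := by rw [W.hfix x hx k hk hkt]; exact e
        have e3 := x.injective e2
        exact q_ne W (by omega) (by omega) (by omega) hkt (by omega) e3)
      (q_ne W (by omega) (by omega) le_rfl (by omega) (by omega))
      (Ne.symm hx2)
    have hv : (u * s 1)⁻¹ * x ∈ G ⊓ stabilizer (Equiv.Perm α) (q 2) := by
      refine Subgroup.mem_inf.mpr ⟨G.mul_mem (G.inv_mem (G.mul_mem hu W.hs1)) hx, ?_⟩
      rw [mem_stabilizer_iff, Equiv.Perm.smul_def, Equiv.Perm.mul_apply, Equiv.Perm.inv_eq_iff_eq,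
        Equiv.Perm.mul_apply, W.hs1q.2, hu1]
    have hu' : u ∈ G ⊓ stabilizer (Equiv.Perm α) (q 2) :=
      Subgroup.mem_inf.mpr ⟨hu, by rw [mem_stabilizer_iff, Equiv.Perm.smul_def]; exact hu2⟩
    have h1 := (Subgroup.mem_inf.mp (W.hnorm i (by omega) hit u hu')).1
    have h2 := (Subgroup.mem_inf.mp (W.hnorm i (by omega) hit _ hv)).1
    have h3 := conj_s1 W hi hit
    have e : s i * x * (s i)⁻¹ = (s i * u * (s i)⁻¹) * (s i * s 1 * (s i)⁻¹) *
        (s i * ((u * s 1)⁻¹ * x) * (s i)⁻¹) := by group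
    rw [e]
    exact G.mul_mem (G.mul_mem h1 h3) h2

lemma norm_Gi (W : WHyp t q G s H) {i p : ℕ} (hip : i = p + 1) (hp : 2 ≤ p) (hit : i + 1 ≤ t)
    {x : Equiv.Perm α} (hx : x ∈ Gi G s p) : s i * x * (s i)⁻¹ ∈ Gi G s p := by
  have h1 : Gi G s p ≤ (Gi G s p).comap (MulAut.conj (s i)).toMonoidHom := by
    unfold Gi
    rw [Subgroup.closure_le]
    rintro y (hy | ⟨k, hk1, hk2, hk3⟩)
    · rw [SetLike.mem_coe, Subgroup.mem_comap]
      change s i * y * (s i)⁻¹ ∈ _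
      exact G_le_Gi G s p (norm_G W (by omega) hit hy)
    · rw [SetLike.mem_coe, Subgroup.mem_comap]
      change s i * y * (s i)⁻¹ ∈ _
      rw [hk3, WHyp.conj_formula]
      have h1 := (W.hcomm k i (by omega) (by omega) hit).2
      have h2 := W.hsq2 i (by omega) hit
      have hHG : H ≤ Gi G s p := (H_le_G W).trans (G_le_Gi G s p)
      exact Subgroup.mul_mem _ (Subgroup.mul_mem _ (hHG h1)
        (Subgroup.inv_mem _ (s_mem_Gi G s hk1 hk2))) (Subgroup.inv_mem _ (hHG h2))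
  have := h1 hx
  rw [Subgroup.mem_comap] at this
  exact this

lemma kt_base (W : WHyp t q G s H) : KT G (Si t q 2) 2 := by
  classical
  have ht := W.ht
  -- pair version
  have hpair : ∀ a b c d : α, a ∉ Si t q 2 → b ∉ Si t q 2 → c ∉ Si t q 2 → d ∉ Si t q 2 →
      a ≠ b → c ≠ d → ∃ g ∈ G, g a = c ∧ g b = d := by
    intro a b c d ha hb hc hd hab hcd
    refine W.h2 a b c d ?_ hab hcd
    intro k hk hkt
    refine ⟨?_, ?_, ?_, ?_⟩
    · intro e; exact ha ⟨k, by omega, hkt, e⟩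
    · intro e; exact hb ⟨k, by omega, hkt, e⟩
    · intro e; exact hc ⟨k, by omega, hkt, e⟩
    · intro e; exact hd ⟨k, by omega, hkt, e⟩
  have hq1 : q 1 ∉ Si t q 2 := q_notMem_Si W le_rfl (by omega) ht
  have hq2 : q 2 ∉ Si t q 2 := q_notMem_Si W (by omega) le_rfl ht
  have hq12 : q 1 ≠ q 2 := q_ne W le_rfl (by omega) (by omega) ht (by omega)
  -- other point
  have hother : ∀ x : α, ∃ y, y ∉ Si t q 2 ∧ x ≠ y := by
    intro x
    by_cases hx : x = q 1
    · exact ⟨q 2, hq2, by rw [hx]; exact hq12⟩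
    · exact ⟨q 1, hq1, hx⟩
  intro B f hB hS hf
  rcases B.eq_empty_or_nonempty with rfl | ⟨x0, hx0⟩
  · exact ⟨1, G.one_mem, by simp⟩
  · by_cases hB1 : B.card ≤ 1
    · obtain ⟨y, hy, hxy⟩ := hother x0
      obtain ⟨y', hy', hxy'⟩ := hother (f x0)
      obtain ⟨g, hg, h1, -⟩ := hpair x0 y (f x0) y' (hS x0 hx0).1 hy (hS x0 hx0).2 hy' hxy hxy'
      refine ⟨g, hg, fun x hx => ?_⟩
      have hxx : x = x0 := Finset.card_le_one.mp hB1 x hx x0 hx0
      rw [hxx, Equiv.Perm.smul_def, h1]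
    · have hB2 : B.card = 2 := by omega
      obtain ⟨x, y, hxy, rfl⟩ := Finset.card_eq_two.mp hB2
      have hx : x ∈ ({x, y} : Finset α) := by simp
      have hy : y ∈ ({x, y} : Finset α) := by simp
      have hfxy : f x ≠ f y := fun e => hxy (hf (by simpa using hx) (by simpa using hy) e)
      obtain ⟨g, hg, h1, h2⟩ := hpair x y (f x) (f y) (hS x hx).1 (hS y hy).1 (hS x hx).2
        (hS y hy).2 hxy hfxy
      refine ⟨g, hg, fun z hz => ?_⟩
      rw [Finset.mem_insert, Finset.mem_singleton] at hz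
      rcases hz with hz | hz
      · rw [hz, Equiv.Perm.smul_def, h1]
      · rw [hz, Equiv.Perm.smul_def, h2]

lemma fixes_base (W : WHyp t q G s H) : Fixes G (Si t q 2) := by
  rintro g hg z ⟨k, h1, h2, h3⟩
  rw [h3, Equiv.Perm.smul_def]
  exact W.hfix g hg k (by omega) h2

/-- the step hypotheses at stage `i = p + 1`. -/
lemma step_hyp (W : WHyp t q G s H) {i p : ℕ} (hip : i = p + 1) (hp : 1 ≤ p) (hit : i + 1 ≤ t)
    (hF : Fixes (Gi G s i) (Si t q i)) (hK : KT (Gi G s i) (Si t q i) i)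
    (hC : 2 ≤ p → Gi G s i ⊓ stabilizer (Equiv.Perm α) (q i) = Gi G s p) :
    StepHyp (Gi G s i) (Si t q i) (q i) (q p) (q (i + 1)) (s p) (s i) := by
  have hHG : H ≤ Gi G s i := (H_le_G W).trans (G_le_Gi G s i)
  have hsp : s p (q i) = q p ∧ s p (q p) = q i := by
    rcases Nat.eq_or_lt_of_le hp with h1 | h1
    · have hp1 : p = 1 := h1.symm
      have hi2 : i = 2 := by omega
      rw [hp1, hi2]
      exact ⟨W.hs1q.2, W.hs1q.1⟩
    · have := W.hsq p (by omega) (by omega)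
      rw [hip]
      exact ⟨this.2.1, this.1⟩
  have hsi := W.hsq i (by omega) hit
  refine
  { fixes := hF
    kt := hK.mono (by omega)
    hc := q_mem_Si hit
    ha := q_notMem_Si W (by omega) le_rfl (by omega)
    hb := q_notMem_Si W hp (by omega) (by omega)
    hab := q_ne W (by omega) (by omega) hp (by omega) (by omega)
    hg := ?_
    hga := hsp.1
    hgb := hsp.2
    hhc := hsi.2.1
    hha := hsi.1
    hhS := ?_
    hh2 := hHG (W.hsq2 i (by omega) hit)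
    hgh := ?_
    hn := ?_ }
  · rcases Nat.eq_or_lt_of_le hp with h1 | h1
    · rw [← h1]
      exact G_le_Gi G s i W.hs1
    · exact s_mem_Gi G s (by omega) (by omega)
  · rintro z ⟨k, h1, h2, h3⟩ hz
    rw [h3]
    refine hsi.2.2 k (by omega) h2 (by omega) ?_
    intro hk
    apply hz
    rw [h3, hk]
  · have := W.hbraid p hp (by omega)
    rw [← hip] at this
    exact hHG this
  · intro x hx
    rcases Nat.eq_or_lt_of_le hp with h1 | h1
    · have hi2 : i = 2 := by omega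
      subst hi2
      rw [Gi_two] at hx ⊢
      exact W.hnorm 2 le_rfl hit x hx
    · have hp2 : 2 ≤ p := by omega
      rw [hC hp2] at hx ⊢
      exact norm_Gi W hip hp2 hit hx

theorem inv_main (W : WHyp t q G s H) : ∀ p : ℕ, 1 ≤ p → p + 1 ≤ t →
    Fixes (Gi G s (p + 1)) (Si t q (p + 1)) ∧ KT (Gi G s (p + 1)) (Si t q (p + 1)) (p + 1) ∧
    (2 ≤ p → Gi G s (p + 1) ⊓ stabilizer (Equiv.Perm α) (q (p + 1)) = Gi G s p) := by
  intro p hp
  induction p, hp using Nat.le_induction with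
  | base =>
    intro _
    refine ⟨?_, ?_, fun h => by omega⟩
    · rw [Gi_two]; exact fixes_base W
    · rw [Gi_two]; exact kt_base W
  | succ p hp ih =>
    intro hpt
    obtain ⟨hF, hK, hC⟩ := ih (by omega)
    have SH := step_hyp W (i := p + 1) (p := p) rfl hp hpt hF hK hC
    have e1 : Gi G s (p + 1 + 1) =
        Subgroup.closure ((Gi G s (p + 1) : Set (Equiv.Perm α)) ∪ {s (p + 1)}) :=
      Gi_succ G s (by omega)
    have e2 : Si t q (p + 1) \ {q (p + 1 + 1)} = Si t q (p + 1 + 1) := Si_diff W (by omega) hpt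
    refine ⟨?_, ?_, fun _ => ?_⟩
    · rw [e1, ← e2]; exact SH.fixes'
    · rw [e1, ← e2]; exact SH.kt_succ hK
    · rw [e1]; exact SH.stab_c

theorem pretrans (W : WHyp t q G s H) : IsMultiplyPretransitive ↥(Gi G s t) α t := by
  have ht := W.ht
  obtain ⟨p, rfl⟩ : ∃ p, t = p + 1 := ⟨t - 1, by omega⟩
  obtain ⟨-, hK, -⟩ := inv_main W p (by omega) le_rfl
  have e : Si (p + 1) q (p + 1) = ∅ := by
    ext z
    constructor
    · rintro ⟨k, h1, h2, -⟩
      omega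
    · intro hz
      exact absurd hz (Set.notMem_empty z)
  rw [e] at hK
  exact isMultiplyPretransitive_of_kt _ hK

theorem fix_eq (W : WHyp t q G s H) :
    Gi G s t ⊓ fixingSubgroup (Equiv.Perm α) {x | ∃ i : ℕ, 1 ≤ i ∧ i ≤ t ∧ x = q i} = H := by
  have ht := W.ht
  apply le_antisymm
  · intro y hy
    obtain ⟨hy1, hy2⟩ := Subgroup.mem_inf.mp hy
    rw [mem_fixingSubgroup_iff] at hy2
    have hyq : ∀ i, 1 ≤ i → i ≤ t → y (q i) = q i := by
      intro i h1 h2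
      have := hy2 (q i) ⟨i, h1, h2, rfl⟩
      simpa using this
    have down : ∀ p : ℕ, 1 ≤ p → p + 1 ≤ t → y ∈ Gi G s (p + 1) → y ∈ G := by
      intro p hp
      induction p, hp using Nat.le_induction with
      | base =>
        intro _ h
        rw [Gi_two] at h
        exact h
      | succ p hp ih =>
        intro hpt h
        obtain ⟨-, -, hC⟩ := inv_main W (p + 1) (by omega) hpt
        have : y ∈ Gi G s (p + 1 + 1) ⊓ stabilizer (Equiv.Perm α) (q (p + 1 + 1)) := by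
          refine Subgroup.mem_inf.mpr ⟨h, ?_⟩
          rw [mem_stabilizer_iff, Equiv.Perm.smul_def]
          exact hyq _ (by omega) hpt
        rw [hC (by omega)] at this
        exact ih (by omega) this
    obtain ⟨p, rfl⟩ : ∃ p, t = p + 1 := ⟨t - 1, by omega⟩
    have hyG := down p (by omega) le_rfl hy1
    rw [W.hH]
    refine Subgroup.mem_inf.mpr ⟨Subgroup.mem_inf.mpr ⟨hyG, ?_⟩, ?_⟩
    · rw [mem_stabilizer_iff, Equiv.Perm.smul_def]
      exact hyq 1 le_rfl (by omega)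
    · rw [mem_stabilizer_iff, Equiv.Perm.smul_def]
      exact hyq 2 (by omega) (by omega)
  · intro y hy
    have hyG := H_le_G W hy
    refine Subgroup.mem_inf.mpr ⟨G_le_Gi G s t hyG, ?_⟩
    rw [mem_fixingSubgroup_iff]
    rintro z ⟨i, h1, h2, rfl⟩
    rw [Equiv.Perm.smul_def]
    rw [W.hH] at hy
    obtain ⟨hy12, hy2⟩ := Subgroup.mem_inf.mp hy
    obtain ⟨-, hy1⟩ := Subgroup.mem_inf.mp hy12
    rw [mem_stabilizer_iff, Equiv.Perm.smul_def] at hy1 hy2
    by_cases hi1 : i = 1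
    · rw [hi1]; exact hy1
    · by_cases hi2 : i = 2
      · rw [hi2]; exact hy2
      · exact W.hfix y hyG i (by omega) h2

end main

end Cfsg.Agent.helper18.WittExt
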