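import Mathlib
import Cfsg.Agent.Lib_helper18_Zsigmondy

set_option autoImplicit false

namespace Cfsg.Agent.helper18.Zsig2

open Polynomial Cfsg.Agent.helper18.Zsig

/-! ### elementary arithmetic -/

lemma ar1 (k : ℕ) (hk : 8 ≤ k) : 12 * k + 1 ≤ 2 ^ k := by
  induction k, hk using Nat.le_induction with
  | base => norm_num
  | succ k hk ih => rw [pow_succ]; omega

lemma ar2 (k : ℕ) (hk : 4 ≤ k) : 4 * k ≤ 2 ^ k := by
  induction k, hk using Nat.le_induction with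
  | base => norm_num
  | succ k hk ih => rw [pow_succ]; omega

lemma ar3 (q : ℕ) (hq : 4 ≤ q) : 3 * q + 4 ≤ 2 ^ q := by
  induction q, hq using Nat.le_induction with
  | base => norm_num
  | succ k hk ih => rw [pow_succ]; omega

lemma ar4 (p : ℕ) (hp : 7 ≤ p) : 18 * p + 2 ≤ 2 ^ p := by
  induction p, hp using Nat.le_induction with
  | base => norm_num
  | succ k hk ih => rw [pow_succ]; omega

lemma ar5 (q : ℕ) (hq : 4 ≤ q) : 12 * q + 14 ≤ 3 ^ q := by
  induction q, hq using Nat.le_induction with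
  | base => norm_num
  | succ k hk ih => rw [pow_succ]; omega

lemma ar6 (p : ℕ) (hp : 5 ≤ p) : 5 * (p * (3 * (2 * p) + 1)) ≤ 4 ^ p := by
  induction p, hp using Nat.le_induction with
  | base => norm_num
  | succ k hk ih =>
    rw [pow_succ 4 k]
    have h1 : 5 * k ≤ k * k := Nat.mul_le_mul_right k hk
    nlinarith [ih, hk, h1]

lemma ar7 (q : ℕ) (hq : 5 ≤ q) : 18 * (q + 2) ^ 2 + (q + 2) ≤ 4 ^ q := by
  induction q, hq using Nat.le_induction with
  | base => norm_num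
  | succ k hk ih =>
    rw [pow_succ 4 k]
    nlinarith [ih, hk]

lemma ar8 (s : ℕ) (hs : 1 ≤ s) : 3 ^ (s + 2) ≤ 32 ^ s := by
  induction s, hs using Nat.le_induction with
  | base => norm_num
  | succ k hk ih =>
    have e1 : 3 ^ (k + 1 + 2) = 3 ^ (k + 2) * 3 := pow_succ 3 (k + 2)
    rw [e1, pow_succ 32 k]
    omega

lemma ar9 (t : ℕ) (ht : 4 ≤ t) : 80 * 9 ^ t ≤ 31 ^ t := by
  induction t, ht using Nat.le_induction with
  | base => norm_num
  | succ k hk ih => rw [pow_succ, pow_succ]; omega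

lemma ar10 (k : ℕ) (hk : 2 ≤ k) : 4 * (k + 1) ^ 2 ≤ 10 ^ k := by
  induction k, hk using Nat.le_induction with
  | base => norm_num
  | succ k hk ih =>
    rw [pow_succ 10 k]
    nlinarith [ih, hk]

lemma ar_geom (a q K : ℕ) (ha : 2 ≤ a) (hK : K ≤ a ^ q) : K * (a - 1) + 1 ≤ a ^ (q + 1) := by
  obtain ⟨b, rfl⟩ : ∃ b, a = b + 1 := ⟨a - 1, by omega⟩
  simp only [Nat.add_sub_cancel]
  have h1 : (b + 1) ^ (q + 1) = (b + 1) ^ q * b + (b + 1) ^ q := by ring
  have h2 : 1 ≤ (b + 1) ^ q := Nat.one_le_pow _ _ (by omega)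
  have h3 : K * b ≤ (b + 1) ^ q * b := Nat.mul_le_mul_right b hK
  omega

lemma ar_le_three_pow (r : ℕ) : r + 3 ≤ 3 ^ (r + 1) := by
  induction r with
  | zero => norm_num
  | succ r ih => rw [pow_succ]; omega

lemma ar_mul_le_pow (X q : ℕ) (hX : 3 ≤ X) (hq : 2 ≤ q) : q * X ≤ X ^ q := by
  obtain ⟨r, rfl⟩ : ∃ r, q = r + 1 := ⟨q - 1, by omega⟩
  have h0 : r < 2 ^ r := Nat.lt_two_pow_self
  have h2 : 2 ^ r ≤ X ^ r := Nat.pow_le_pow_left (by omega) r
  have h3 : r + 1 ≤ X ^ r := by omega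
  calc (r + 1) * X ≤ X ^ r * X := Nat.mul_le_mul_right X h3
    _ = X ^ (r + 1) := (pow_succ X r).symm

lemma ar_mul_le_pow' (X q : ℕ) (hX : 3 ≤ X) (hq : 3 ≤ q) : q * X ≤ X ^ (q - 1) := by
  obtain ⟨r, rfl⟩ : ∃ r, q = r + 3 := ⟨q - 3, by omega⟩
  have e : r + 3 - 1 = (r + 1) + 1 := by omega
  rw [e]
  have h1 : r + 3 ≤ 3 ^ (r + 1) := ar_le_three_pow r
  have h2 : 3 ^ (r + 1) ≤ X ^ (r + 1) := Nat.pow_le_pow_left hX (r + 1)
  calc (r + 3) * X ≤ X ^ (r + 1) * X := Nat.mul_le_mul_right X (h1.trans h2)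
    _ = X ^ (r + 1 + 1) := (pow_succ X (r + 1)).symm

/-! ### a totient bound -/

lemma tot_bound_aux (m : ℕ) :
    0 < m → (m ≤ 3 ^ m.totient ∧ (Odd m → 2 * m ≤ 3 ^ m.totient)) := by
  induction m using Nat.strong_induction_on with
  | _ m ih =>
    intro hm
    rcases Nat.lt_or_ge m 2 with h1 | h2
    · have : m = 1 := by omega
      subst this
      norm_num
    · obtain ⟨q, hqp, hqm⟩ : ∃ q, q.Prime ∧ q ∣ m :=
        ⟨m.minFac, Nat.minFac_prime (by omega), Nat.minFac_dvd m⟩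
      obtain ⟨m', rfl⟩ := hqm
      have hm'0 : 0 < m' := by
        rcases Nat.eq_zero_or_pos m' with h | h
        · subst h; simp at hm
        · exact h
      have hm'lt : m' < q * m' := by
        calc m' < 2 * m' := by omega
          _ ≤ q * m' := Nat.mul_le_mul_right m' hqp.two_le
      obtain ⟨ih1, ih2⟩ := ih m' hm'lt hm'0
      have hX : 3 ≤ 3 ^ m'.totient := by
        have h0 : 0 < m'.totient := Nat.totient_pos.2 hm'0
        calc 3 = 3 ^ 1 := by norm_num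
          _ ≤ 3 ^ m'.totient := Nat.pow_le_pow_right (by norm_num) h0
      by_cases hdiv : q ∣ m'
      · rw [Nat.totient_mul_of_prime_of_dvd hqp hdiv, pow_mul']
        have key := ar_mul_le_pow (3 ^ m'.totient) q hX hqp.two_le
        refine ⟨le_trans (Nat.mul_le_mul_left q ih1) key, fun hodd => ?_⟩
        have hm'odd : Odd m' := (Nat.odd_mul.1 hodd).2
        calc 2 * (q * m') = q * (2 * m') := by ring
          _ ≤ q * 3 ^ m'.totient := Nat.mul_le_mul_left q (ih2 hm'odd)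
          _ ≤ _ := key
      · rw [Nat.totient_mul_of_prime_of_not_dvd hqp hdiv]
        rcases hqp.eq_two_or_odd' with h2' | hoddq
        · subst h2'
          have hm'odd : Odd m' := by
            rw [← Nat.not_even_iff_odd]
            intro he
            exact hdiv (even_iff_two_dvd.1 he)
          refine ⟨?_, fun hodd => ?_⟩
          · simpa using ih2 hm'odd
          · exfalso
            exact (Nat.not_even_iff_odd.2 hodd) (even_two_mul m')
        · have hq3 : 3 ≤ q := by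
            have := hqp.two_le
            rcases hoddq with ⟨k, hk⟩
            omega
          rw [pow_mul']
          have key := ar_mul_le_pow' (3 ^ m'.totient) q hX hq3
          refine ⟨le_trans (Nat.mul_le_mul_left q ih1) key, fun hodd => ?_⟩
          have hm'odd : Odd m' := (Nat.odd_mul.1 hodd).2
          calc 2 * (q * m') = q * (2 * m') := by ring
            _ ≤ q * 3 ^ m'.totient := Nat.mul_le_mul_left q (ih2 hm'odd)
            _ ≤ _ := key

lemma tot_bound (m : ℕ) (hm : 0 < m) : m ≤ 3 ^ m.totient := (tot_bound_aux m hm).1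

/-! ### explicit cyclotomic values -/

lemma cyc_one (a : ℕ) : cyc 1 a = (a : ℤ) - 1 := by
  unfold cyc
  simp

lemma cyc_two (a : ℕ) : cyc 2 a = (a : ℤ) + 1 := by
  unfold cyc
  simp

lemma cyc_three' (c : ℕ) : cyc 3 c = ((c ^ 2 + c + 1 : ℕ) : ℤ) := by
  unfold cyc
  rw [cyclotomic_three]
  simp

lemma cyc_six' (c : ℕ) (hc : 1 ≤ c) : cyc 6 c = ((c ^ 2 - c + 1 : ℕ) : ℤ) := by
  have h := cyc_expand_not_dvd 3 c 2 Nat.prime_two (by norm_num)
  have h6 : cyc (3 * 2) c = cyc 6 c := by norm_num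
  rw [h6, cyc_three', cyc_three'] at h
  have hle : c ≤ c ^ 2 := by nlinarith
  have hne : (((c ^ 2 + c + 1 : ℕ)) : ℤ) ≠ 0 := by positivity
  apply mul_right_cancel₀ hne
  rw [← h]
  push_cast [Nat.cast_sub hle]
  ring

lemma cyc_pow_expand (m r : ℕ) (hr : r.Prime) (hrm : r ∣ m) :
    ∀ (k a : ℕ), cyc (m * r ^ k) a = cyc m (a ^ (r ^ k)) := by
  intro k
  induction k with
  | zero => intro a; simp
  | succ k ih =>
    intro a
    have h1 : m * r ^ (k + 1) = (m * r ^ k) * r := by ring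
    rw [h1, cyc_expand_dvd (m * r ^ k) a r hr (Dvd.dvd.mul_right hrm _), ih (a ^ r), ← pow_mul,
      ← pow_succ']

lemma fermat_descent (a m p : ℕ) (hp : p.Prime) (h : (p : ℤ) ∣ (a : ℤ) ^ (m * p) - 1) :
    (p : ℤ) ∣ (a : ℤ) ^ m - 1 := by
  have : Fact p.Prime := ⟨hp⟩
  have h1 := (ZMod.intCast_zmod_eq_zero_iff_dvd _ p).2 h
  push_cast at h1
  rw [pow_mul, ZMod.pow_card] at h1
  apply (ZMod.intCast_zmod_eq_zero_iff_dvd _ p).1
  push_cast
  exact h1

/-! ### the size predicate -/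

/-- the thirteen exceptional pairs -/
def Exc13 (a n : ℕ) : Prop :=
  (a = 2 ∧ (n = 3 ∨ n = 4 ∨ n = 6 ∨ n = 8 ∨ n = 10 ∨ n = 12 ∨ n = 18 ∨ n = 20)) ∨
  (a = 3 ∧ (n = 4 ∨ n = 6)) ∨ (a = 4 ∧ (n = 3 ∨ n = 6)) ∨ (a = 5 ∧ n = 6)

def SizeOK (a n p : ℕ) : Prop :=
  (3 * (n : ℤ) + 1) ≤ cyc n a ∧ ((p : ℤ) ∣ cyc n a → (p : ℤ) * (3 * (n : ℤ) + 1) ≤ cyc n a)

lemma sizeOK_of_le (a n p : ℕ) (hp : 1 ≤ p) (h : ((p * (3 * n + 1) : ℕ) : ℤ) ≤ cyc n a) :
    SizeOK a n p := by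
  unfold SizeOK
  push_cast at h
  have hp' : (1 : ℤ) ≤ (p : ℤ) := by exact_mod_cast hp
  have hn' : (0 : ℤ) ≤ 3 * (n : ℤ) + 1 := by positivity
  constructor
  · nlinarith [mul_nonneg (sub_nonneg.2 hp') hn']
  · intro _; exact h

/-! ### family A : `n = 2 * 2 ^ i` -/

lemma size_A (a i : ℕ) (ha : 2 ≤ a) (hi : 1 ≤ i) (hex : ¬ Exc13 a (2 * 2 ^ i)) :
    SizeOK a (2 * 2 ^ i) 2 := by
  have h1 : cyc (2 * 2 ^ i) a = ((a ^ 2 ^ i : ℕ) : ℤ) + 1 := by
    rw [cyc_pow_expand 2 2 Nat.prime_two (dvd_refl 2) i a, cyc_two]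
  unfold SizeOK
  rw [h1]
  obtain ⟨c, hc⟩ : ∃ c, c = a ^ 2 ^ i := ⟨_, rfl⟩
  obtain ⟨k, hk⟩ : ∃ k, k = 2 ^ i := ⟨_, rfl⟩
  rw [← hc]
  rw [← hk] at hc hex ⊢
  have key : 12 * k + 1 ≤ c ∨ (k = 2 ∧ c = 16) := by
    rcases Nat.lt_or_ge i 3 with hi3 | hi3
    · have hi12 : i = 1 ∨ i = 2 := by omega
      rcases hi12 with rfl | rfl
      · have hk2 : k = 2 := by rw [hk]; norm_num
        subst hk2
        have ha4 : 4 ≤ a := by
          by_contra hcon
          have : a = 2 ∨ a = 3 := by omega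
          rcases this with rfl | rfl <;> exact hex (by unfold Exc13; norm_num)
        rcases Nat.lt_or_ge a 5 with ha5 | ha5
        · right
          have : a = 4 := by omega
          subst this
          exact ⟨rfl, by rw [hc]; norm_num⟩
        · left
          have : 5 ^ 2 ≤ a ^ 2 := Nat.pow_le_pow_left ha5 2
          rw [hc]; omega
      · have hk4 : k = 4 := by rw [hk]; norm_num
        subst hk4
        have ha3 : 3 ≤ a := by
          by_contra hcon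
          have : a = 2 := by omega
          subst this
          exact hex (by unfold Exc13; norm_num)
        left
        have : 3 ^ 4 ≤ a ^ 4 := Nat.pow_le_pow_left ha3 4
        rw [hc]; omega
    · left
      have hk8 : 8 ≤ k := by
        rw [hk]
        calc 8 = 2 ^ 3 := by norm_num
          _ ≤ 2 ^ i := Nat.pow_le_pow_right (by norm_num) hi3
      have h2 := ar1 k hk8
      have h3 : 2 ^ k ≤ a ^ k := Nat.pow_le_pow_left ha k
      rw [hc]; omega
  rcases key with h | ⟨rfl, rfl⟩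
  · refine ⟨by omega, fun _ => by omega⟩
  · refine ⟨by omega, fun h => by omega⟩

/-! ### family B0 : `n = 3 * 3 ^ i` -/

lemma size_B0 (a i : ℕ) (ha : 2 ≤ a) (hex : ¬ Exc13 a (3 * 3 ^ i)) :
    SizeOK a (3 * 3 ^ i) 3 := by
  have h1 : cyc (3 * 3 ^ i) a = (((a ^ 3 ^ i) ^ 2 + a ^ 3 ^ i + 1 : ℕ) : ℤ) := by
    rw [cyc_pow_expand 3 3 Nat.prime_three (dvd_refl 3) i a, cyc_three']
  unfold SizeOK
  rw [h1]
  obtain ⟨c, hc⟩ : ∃ c, c = a ^ 3 ^ i := ⟨_, rfl⟩
  obtain ⟨k, hk⟩ : ∃ k, k = 3 ^ i := ⟨_, rfl⟩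
  rw [← hc]
  rw [← hk] at hc hex ⊢
  have key : (27 * k + 3 ≤ c ^ 2 + c + 1) ∨ (k = 1 ∧ c = 3) ∨ (k = 3 ∧ c = 8) := by
    rcases Nat.lt_or_ge i 2 with hi2 | hi2
    · have hi01 : i = 0 ∨ i = 1 := by omega
      rcases hi01 with rfl | rfl
      · have hk1 : k = 1 := by rw [hk]; norm_num
        subst hk1
        rw [pow_one] at hc
        subst hc
        have ha2 : c ≠ 2 := by
          rintro rfl; exact hex (by unfold Exc13; norm_num)
        have ha4 : c ≠ 4 := by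
          rintro rfl; exact hex (by unfold Exc13; norm_num)
        rcases Nat.lt_or_ge c 5 with h5 | h5
        · right; left
          exact ⟨rfl, by omega⟩
        · left
          have : 5 ^ 2 ≤ c ^ 2 := Nat.pow_le_pow_left h5 2
          omega
      · have hk3 : k = 3 := by rw [hk]; norm_num
        subst hk3
        rcases Nat.lt_or_ge a 3 with h3 | h3
        · right; right
          have : a = 2 := by omega
          subst this
          exact ⟨rfl, by rw [hc]; norm_num⟩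
        · left
          have h27 : 3 ^ 3 ≤ a ^ 3 := Nat.pow_le_pow_left h3 3
          have h27' : 27 ≤ c := by rw [hc]; omega
          have : 27 ^ 2 ≤ c ^ 2 := Nat.pow_le_pow_left h27' 2
          omega
    · left
      have hk9 : 9 ≤ k := by
        rw [hk]
        calc 9 = 3 ^ 2 := by norm_num
          _ ≤ 3 ^ i := Nat.pow_le_pow_right (by norm_num) hi2
      have h2 := ar2 k (by omega)
      have h3 : 2 ^ k ≤ a ^ k := Nat.pow_le_pow_left ha k
      have h4 : 2 ^ 4 ≤ 2 ^ k := Nat.pow_le_pow_right (by norm_num) (by omega)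
      have hc4 : 4 * k ≤ c := by rw [hc]; omega
      have hc16 : 16 ≤ c := by rw [hc]; omega
      have hsq : 16 * c ≤ c ^ 2 := by nlinarith
      omega
  rcases key with h | ⟨rfl, rfl⟩ | ⟨rfl, rfl⟩
  · refine ⟨by omega, fun _ => by omega⟩
  · refine ⟨by omega, fun h => by omega⟩
  · refine ⟨by omega, fun h => by omega⟩

/-! ### family B1 : `n = 6 * 2 ^ x * 3 ^ y` -/

lemma fin_B1_gen (k c : ℕ) (hk : 1 ≤ k) (h1 : 4 * k ≤ c) (h2 : 16 ≤ c) :
    3 * ((6 * k : ℕ) : ℤ) + 1 ≤ ((c ^ 2 - c + 1 : ℕ) : ℤ) ∧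
    (((3 : ℕ) : ℤ) ∣ ((c ^ 2 - c + 1 : ℕ) : ℤ) →
      ((3 : ℕ) : ℤ) * (3 * ((6 * k : ℕ) : ℤ) + 1) ≤ ((c ^ 2 - c + 1 : ℕ) : ℤ)) := by
  have hsq : 16 * c ≤ c ^ 2 := by nlinarith
  refine ⟨by omega, fun _ => by omega⟩

lemma size_B1 (a x y : ℕ) (ha : 2 ≤ a) (hex : ¬ Exc13 a (6 * 2 ^ x * 3 ^ y)) :
    SizeOK a (6 * 2 ^ x * 3 ^ y) 3 := by
  have h1 : cyc (6 * 2 ^ x * 3 ^ y) a = cyc 6 ((a ^ 3 ^ y) ^ 2 ^ x) := by
    rw [cyc_pow_expand (6 * 2 ^ x) 3 Nat.prime_three (Dvd.dvd.mul_right (by norm_num) _) y a,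
      cyc_pow_expand 6 2 Nat.prime_two (by norm_num) x (a ^ 3 ^ y)]
  obtain ⟨k, hk⟩ : ∃ k, k = 3 ^ y * 2 ^ x := ⟨_, rfl⟩
  have hc : (a ^ 3 ^ y) ^ 2 ^ x = a ^ k := by rw [hk, pow_mul]
  have hn : 6 * 2 ^ x * 3 ^ y = 6 * k := by rw [hk]; ring
  have hk1 : 1 ≤ k := by
    rw [hk]
    exact Nat.mul_pos (Nat.pow_pos (by norm_num)) (Nat.pow_pos (by norm_num))
  rw [hn, hc] at h1
  rw [hn] at hex ⊢
  have hc1 : 1 ≤ a ^ k := Nat.one_le_pow _ _ (by omega)
  unfold SizeOK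
  rw [h1, cyc_six' _ hc1]
  obtain ⟨c, hcdef⟩ : ∃ c, c = a ^ k := ⟨_, rfl⟩
  rw [← hcdef]
  rcases Nat.lt_or_ge k 4 with hk4 | hk4
  · have hk123 : k = 1 ∨ k = 2 ∨ k = 3 := by omega
    rcases hk123 with hk' | hk' | hk'
    · -- n = 6
      rw [hk'] at hcdef hex ⊢
      rw [pow_one] at hcdef
      subst hcdef
      have ha6 : 6 ≤ c := by
        by_contra hcon
        have : c = 2 ∨ c = 3 ∨ c = 4 ∨ c = 5 := by omega
        rcases this with rfl | rfl | rfl | rfl <;> exact hex (by unfold Exc13; norm_num)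
      have h678 : c = 6 ∨ c = 7 ∨ 8 ≤ c := by omega
      rcases h678 with rfl | rfl | h8
      · refine ⟨by omega, fun h => by omega⟩
      · refine ⟨by omega, fun h => by omega⟩
      · have hsq : 8 * c ≤ c ^ 2 := by nlinarith
        refine ⟨by omega, fun _ => by omega⟩
    · -- n = 12
      rw [hk'] at hcdef hex ⊢
      have ha2 : a ≠ 2 := by
        rintro rfl; exact hex (by unfold Exc13; norm_num)
      rcases Nat.lt_or_ge a 4 with h4 | h4
      · have : a = 3 := by omega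
        subst this
        have hc9 : c = 9 := by rw [hcdef]; norm_num
        subst hc9
        refine ⟨by omega, fun h => by omega⟩
      · have h16 : 4 ^ 2 ≤ a ^ 2 := Nat.pow_le_pow_left h4 2
        exact fin_B1_gen 2 c (by norm_num) (by rw [hcdef]; omega) (by rw [hcdef]; omega)
    · -- n = 18
      rw [hk'] at hcdef hex ⊢
      have ha2 : a ≠ 2 := by
        rintro rfl; exact hex (by unfold Exc13; norm_num)
      have h27 : 3 ^ 3 ≤ a ^ 3 := Nat.pow_le_pow_left (by omega) 3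
      exact fin_B1_gen 3 c (by norm_num) (by rw [hcdef]; omega) (by rw [hcdef]; omega)
  · have h2 := ar2 k hk4
    have h3 : 2 ^ k ≤ a ^ k := Nat.pow_le_pow_left ha k
    have h4 : 2 ^ 4 ≤ 2 ^ k := Nat.pow_le_pow_right (by norm_num) hk4
    exact fin_B1_gen k c hk1 (by rw [hcdef]; omega) (by rw [hcdef]; omega)

/-! ### case C : `p ^ 2 ∣ n`, `5 ≤ p` -/

lemma size_C (a n' p : ℕ) (ha : 2 ≤ a) (hp : p.Prime) (hp5 : 5 ≤ p) (hpn : p ∣ n')
    (hn' : 0 < n') : ((p * (3 * (n' * p) + 1) : ℕ) : ℤ) ≤ cyc (n' * p) a := by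
  rw [cyc_expand_dvd n' a p hp hpn]
  have har : 1 < a ^ p := Nat.one_lt_pow hp.ne_zero (by omega)
  have h1 := cyc_lower n' (a ^ p) har
  have hnat : p * (3 * (n' * p) + 1) ≤ (a ^ p - 1) ^ n'.totient := by
    have h32 : 2 ^ 5 ≤ 2 ^ p := Nat.pow_le_pow_right (by norm_num) hp5
    have h2p : 2 ^ p ≤ a ^ p := Nat.pow_le_pow_left ha p
    have h30 : 30 ≤ a ^ p - 1 := by omega
    have hφ : p - 1 ≤ n'.totient := by
      have hd : p.totient ∣ n'.totient := Nat.totient_dvd_of_dvd hpn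
      rw [Nat.totient_prime hp] at hd
      exact Nat.le_of_dvd (Nat.totient_pos.2 hn') hd
    have h4 : 30 ^ n'.totient ≤ (a ^ p - 1) ^ n'.totient := Nat.pow_le_pow_left h30 _
    have h5 : n' ≤ 3 ^ n'.totient := tot_bound n' hn'
    have h6 : 4 * p ^ 2 ≤ 10 ^ (p - 1) := by
      have := ar10 (p - 1) (by omega)
      rwa [Nat.sub_add_cancel (by omega : 1 ≤ p)] at this
    have h7 : 10 ^ (p - 1) ≤ 10 ^ n'.totient := Nat.pow_le_pow_right (by norm_num) hφ
    have e1 : p ≤ n' * p ^ 2 := by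
      calc p ≤ p ^ 2 := Nat.le_self_pow (by norm_num) p
        _ ≤ n' * p ^ 2 := Nat.le_mul_of_pos_left _ hn'
    calc p * (3 * (n' * p) + 1) = 3 * (n' * p ^ 2) + p := by ring
      _ ≤ 3 * (n' * p ^ 2) + n' * p ^ 2 := by omega
      _ = n' * (4 * p ^ 2) := by ring
      _ ≤ 3 ^ n'.totient * 10 ^ n'.totient := Nat.mul_le_mul h5 (h6.trans h7)
      _ = 30 ^ n'.totient := by rw [← mul_pow]; norm_num
      _ ≤ _ := h4
  have h2 : ((p * (3 * (n' * p) + 1) : ℕ) : ℝ) ≤ (((a ^ p - 1 : ℕ) : ℝ)) ^ n'.totient := by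
    exact_mod_cast hnat
  have h3 : (((p * (3 * (n' * p) + 1) : ℕ) : ℤ) : ℝ) ≤ ((cyc n' (a ^ p) : ℤ) : ℝ) := by
    rw [Int.cast_natCast]
    exact le_trans h2 h1
  exact Int.cast_le.1 h3

/-! ### case D : `n = m * p`, `p ∤ m`, `5 ≤ p` -/

lemma size_D0 (a m p K : ℕ) (ha : 2 ≤ a) (hp : p.Prime) (hpm : ¬ p ∣ m) (hm : 0 < m)
    (hK : K * (a + 1) ^ m.totient ≤ (a ^ p - 1) ^ m.totient) : (K : ℤ) ≤ cyc (m * p) a := by
  have ha1 : 1 < a := by omega
  have har : 1 < a ^ p := Nat.one_lt_pow hp.ne_zero ha1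
  have h1 := cyc_lower m (a ^ p) har
  have h2 := cyc_upper m a ha1
  have h3 := cyc_expand_not_dvd m a p hp hpm
  have hpos1 : 0 < cyc m a := cyc_pos m a ha1
  by_contra hcon
  have hlt : cyc (m * p) a < (K : ℤ) := not_le.1 hcon
  have h6 : ((cyc m (a ^ p) : ℤ) : ℝ) = ((cyc (m * p) a : ℤ) : ℝ) * ((cyc m a : ℤ) : ℝ) := by
    rw [h3]; push_cast; rfl
  have h7 : ((cyc (m * p) a : ℤ) : ℝ) < ((K : ℕ) : ℝ) := by
    have : ((cyc (m * p) a : ℤ) : ℝ) < (((K : ℕ) : ℤ) : ℝ) := Int.cast_lt.2 hlt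
    simpa using this
  have h8 : (0 : ℝ) < ((cyc m a : ℤ) : ℝ) := by exact_mod_cast hpos1
  have hreal : ((K : ℕ) : ℝ) * (((a + 1 : ℕ) : ℝ)) ^ m.totient
      ≤ (((a ^ p - 1 : ℕ) : ℝ)) ^ m.totient := by exact_mod_cast hK
  have h9 : ((cyc (m * p) a : ℤ) : ℝ) * ((cyc m a : ℤ) : ℝ)
      < ((K : ℕ) : ℝ) * (((a + 1 : ℕ) : ℝ)) ^ m.totient := by
    calc ((cyc (m * p) a : ℤ) : ℝ) * ((cyc m a : ℤ) : ℝ)
        < ((K : ℕ) : ℝ) * ((cyc m a : ℤ) : ℝ) := mul_lt_mul_of_pos_right h7 h8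
      _ ≤ ((K : ℕ) : ℝ) * (((a + 1 : ℕ) : ℝ)) ^ m.totient :=
        mul_le_mul_of_nonneg_left h2 (Nat.cast_nonneg K)
  linarith

lemma size_D1 (a m p K : ℕ) (ha : 2 ≤ a) (hp : p.Prime) (hp2 : 2 ≤ p) (hpm : ¬ p ∣ m)
    (hm : 0 < m) (hK : K ≤ (a ^ (p - 2)) ^ m.totient) : (K : ℤ) ≤ cyc (m * p) a := by
  apply size_D0 a m p K ha hp hpm hm
  have hX : a ^ (p - 2) * (a + 1) ≤ a ^ p - 1 := by
    obtain ⟨q, rfl⟩ : ∃ q, p = q + 2 := ⟨p - 2, by omega⟩
    simp only [Nat.add_sub_cancel]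
    have h1 : a ^ (q + 2) = a ^ q * a ^ 2 := pow_add a q 2
    have h2 : 1 ≤ a ^ q := Nat.one_le_pow _ _ (by omega)
    have h3 : a + 2 ≤ a ^ 2 := by nlinarith
    have h4 : a ^ q * (a + 2) ≤ a ^ q * a ^ 2 := Nat.mul_le_mul_left _ h3
    have h5 : a ^ q * (a + 2) = a ^ q * (a + 1) + a ^ q := by ring
    omega
  calc K * (a + 1) ^ m.totient
      ≤ (a ^ (p - 2)) ^ m.totient * (a + 1) ^ m.totient := Nat.mul_le_mul_right _ hK
    _ = (a ^ (p - 2) * (a + 1)) ^ m.totient := (mul_pow _ _ _).symm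
    _ ≤ (a ^ p - 1) ^ m.totient := Nat.pow_le_pow_left hX _

lemma size_D_m1 (a p : ℕ) (ha : 2 ≤ a) (hp : p.Prime) (hp5 : 5 ≤ p) : SizeOK a p p := by
  have hnd : ¬ p ∣ 1 := by
    intro h
    have := Nat.le_of_dvd (by norm_num) h
    omega
  have h3 := cyc_expand_not_dvd 1 a p hp hnd
  rw [one_mul, cyc_one, cyc_one] at h3
  have hb : (0 : ℤ) < (a : ℤ) - 1 := by
    have : (2 : ℤ) ≤ a := by exact_mod_cast ha
    linarith
  obtain ⟨q, rfl⟩ : ∃ q, p = q + 1 := ⟨p - 1, by omega⟩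
  have core : ∀ K : ℕ, K ≤ a ^ q → (K : ℤ) ≤ cyc (q + 1) a := by
    intro K hK
    have h1 := ar_geom a q K ha hK
    have h2 : (K : ℤ) * ((a : ℤ) - 1) ≤ cyc (q + 1) a * ((a : ℤ) - 1) := by
      rw [← h3]
      have : ((K * (a - 1) + 1 : ℕ) : ℤ) ≤ ((a ^ (q + 1) : ℕ) : ℤ) := by exact_mod_cast h1
      rw [Nat.cast_add, Nat.cast_mul, Nat.cast_sub (by omega : 1 ≤ a)] at this
      push_cast at this ⊢
      linarith
    exact le_of_mul_le_mul_right h2 hb
  unfold SizeOK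
  constructor
  · have h2q : 3 * q + 4 ≤ 2 ^ q := ar3 q (by omega)
    have h2a : 2 ^ q ≤ a ^ q := Nat.pow_le_pow_left ha q
    have := core (3 * (q + 1) + 1) (by omega)
    push_cast at this ⊢
    linarith
  · intro hd
    have hd2 : ((q + 1 : ℕ) : ℤ) ∣ (a : ℤ) ^ (1 * (q + 1)) - 1 := by
      rw [one_mul]
      exact hd.trans (cyc_dvd (q + 1) a)
    have hd3 := fermat_descent a 1 (q + 1) hp hd2
    rw [pow_one] at hd3
    have hle : ((q + 1 : ℕ) : ℤ) ≤ (a : ℤ) - 1 := Int.le_of_dvd hb hd3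
    have ha' : q + 2 ≤ a := by omega
    have hK : (q + 1) * (3 * (q + 1) + 1) ≤ a ^ q := by
      have h4 : a ^ 4 ≤ a ^ q := Nat.pow_le_pow_right (by omega) (by omega)
      have h5 : (q + 2) ^ 4 ≤ a ^ 4 := Nat.pow_le_pow_left ha' 4
      have h6 : (q + 1) * (3 * (q + 1) + 1) ≤ (q + 2) ^ 4 := by
        have e1 : q + 1 ≤ (q + 2) ^ 2 := by nlinarith
        have e2 : 3 * (q + 1) + 1 ≤ (q + 2) ^ 2 := by nlinarith
        have e3 : (q + 2) ^ 4 = (q + 2) ^ 2 * (q + 2) ^ 2 := by ring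
        rw [e3]
        exact Nat.mul_le_mul e1 e2
      omega
    have := core _ hK
    push_cast at this ⊢
    linarith

lemma size_D_m2 (a p : ℕ) (ha : 2 ≤ a) (hp : p.Prime) (hp5 : 5 ≤ p)
    (hex : ¬ Exc13 a (2 * p)) : SizeOK a (2 * p) p := by
  have hnd : ¬ p ∣ 2 := by
    intro h
    have := Nat.le_of_dvd (by norm_num) h
    omega
  have h3 := cyc_expand_not_dvd 2 a p hp hnd
  rw [cyc_two, cyc_two] at h3
  have hb : (0 : ℤ) < (a : ℤ) + 1 := by positivity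
  have core : ∀ K : ℕ, K * (a + 1) ≤ a ^ p + 1 → (K : ℤ) ≤ cyc (2 * p) a := by
    intro K hK
    have h2 : (K : ℤ) * ((a : ℤ) + 1) ≤ cyc (2 * p) a * ((a : ℤ) + 1) := by
      rw [← h3]
      exact_mod_cast hK
    exact le_of_mul_le_mul_right h2 hb
  obtain ⟨q, hq⟩ : ∃ q, p = q + 1 := ⟨p - 1, by omega⟩
  have hpq : a ^ p = a ^ q * a := by rw [hq, pow_succ]
  unfold SizeOK
  constructor
  · have hK : (3 * (2 * p) + 1) * (a + 1) ≤ a ^ p + 1 := by
      rcases Nat.lt_or_ge a 3 with ha3 | ha3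
      · have ha2 : a = 2 := by omega
        subst ha2
        have hp7 : 7 ≤ p := by
          by_contra hcon
          have hp56 : p = 5 ∨ p = 6 := by omega
          rcases hp56 with h | h
          · subst h; exact hex (by unfold Exc13; norm_num)
          · subst h; exact absurd hp (by norm_num)
        have := ar4 p hp7
        omega
      · have h1 : 12 * q + 14 ≤ 3 ^ q := ar5 q (by omega)
        have h2 : 3 ^ q ≤ a ^ q := Nat.pow_le_pow_left ha3 q
        have h4 : (12 * q + 14) * a ≤ a ^ q * a := Nat.mul_le_mul_right a (h1.trans h2)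
        rw [hpq]
        have h5 : (3 * (2 * p) + 1) * (a + 1) ≤ (12 * q + 14) * a := by
          rw [hq]
          have := Nat.mul_le_mul_left (6 * q + 7) (by omega : 1 ≤ a)
          nlinarith
        omega
    have := core _ hK
    push_cast at this ⊢
    linarith
  · intro hd
    have hd2 : ((p : ℕ) : ℤ) ∣ (a : ℤ) ^ (2 * p) - 1 := hd.trans (cyc_dvd (2 * p) a)
    have hd3 := fermat_descent a 2 p hp hd2
    have hfac : (a : ℤ) ^ 2 - 1 = ((a : ℤ) - 1) * ((a : ℤ) + 1) := by ring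
    rw [hfac] at hd3
    have hpz : Prime (p : ℤ) := Nat.prime_iff_prime_int.1 hp
    have ha' : p ≤ a + 1 := by
      rcases hpz.dvd_or_dvd hd3 with h | h
      · have h0 : (0 : ℤ) < (a : ℤ) - 1 := by
          have : (2 : ℤ) ≤ a := by exact_mod_cast ha
          linarith
        have := Int.le_of_dvd h0 h
        omega
      · have := Int.le_of_dvd hb h
        omega
    have ha4 : 4 ≤ a := by omega
    have hK : (p * (3 * (2 * p) + 1)) * (a + 1) ≤ a ^ p + 1 := by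
      have h6 := ar6 p hp5
      have h8 : 4 ^ p = 4 ^ q * 4 := by rw [hq, pow_succ]
      have h9 : 4 ^ q ≤ a ^ q := Nat.pow_le_pow_left ha4 q
      rw [hpq]
      have h10 : 4 ^ q * a ≤ a ^ q * a := Nat.mul_le_mul_right a h9
      obtain ⟨K, hKdef⟩ : ∃ K, K = p * (3 * (2 * p) + 1) := ⟨_, rfl⟩
      rw [← hKdef] at h6 ⊢
      have h11 : 5 * K ≤ 4 ^ q * 4 := by rw [← h8]; exact h6
      have h12 : 5 * K * a ≤ 4 ^ q * 4 * a := Nat.mul_le_mul_right a h11
      have h13 : K * 4 ≤ K * a := Nat.mul_le_mul_left K ha4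
      nlinarith [h10, h12, h13]
    have := core _ hK
    push_cast at this ⊢
    linarith

lemma size_15 : SizeOK 2 (3 * 5) 5 := by
  have h := cyc_expand_not_dvd 3 2 5 (by norm_num) (by norm_num)
  rw [cyc_three', cyc_three'] at h
  have h2 : cyc (3 * 5) 2 = 151 := by
    norm_num at h ⊢
    omega
  unfold SizeOK
  rw [h2]
  constructor
  · norm_num
  · intro hd
    norm_num at hd

lemma size_30 : SizeOK 2 (6 * 5) 5 := by
  have h := cyc_expand_not_dvd 6 2 5 (by norm_num) (by norm_num)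
  rw [cyc_six' _ (by norm_num), cyc_six' _ (by norm_num)] at h
  have h2 : cyc (6 * 5) 2 = 331 := by
    norm_num at h ⊢
    omega
  unfold SizeOK
  rw [h2]
  constructor
  · norm_num
  · intro hd
    norm_num at hd

lemma size_D_t2 (a m p : ℕ) (ha : 2 ≤ a) (hp : p.Prime) (hp5 : 5 ≤ p) (hpm : ¬ p ∣ m)
    (hm : 0 < m) (ht : m.totient = 2) (hex : ¬ Exc13 a (m * p)) : SizeOK a (m * p) p := by
  have hmb : m ≤ 3 ^ m.totient := tot_bound m hm
  rw [ht] at hmb
  have hm346 : m = 3 ∨ m = 4 ∨ m = 6 := by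
    have hm9 : m ≤ 9 := by norm_num at hmb; exact hmb
    clear hmb hpm hex
    interval_cases m <;> first | omega | (exfalso; revert ht; decide)
  have hm6 : m ≤ 6 := by omega
  rcases Nat.lt_or_ge p 7 with hp7 | hp7
  · have hp5' : p = 5 := by
      have : p = 5 ∨ p = 6 := by omega
      rcases this with h | h
      · exact h
      · subst h; exact absurd hp (by norm_num)
    subst hp5'
    rcases Nat.lt_or_ge a 3 with ha3 | ha3
    · have ha2 : a = 2 := by omega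
      subst ha2
      rcases hm346 with rfl | rfl | rfl
      · exact size_15
      · exact absurd (by unfold Exc13; norm_num) hex
      · exact size_30
    · apply sizeOK_of_le a (m * 5) 5 (by norm_num)
      apply size_D1 a m 5 _ ha hp (by norm_num) hpm hm
      rw [ht]
      have h27 : 3 ^ 3 ≤ a ^ 3 := Nat.pow_le_pow_left ha3 3
      have h729 : 27 ^ 2 ≤ (a ^ 3) ^ 2 := Nat.pow_le_pow_left (by omega) 2
      show 5 * (3 * (m * 5) + 1) ≤ (a ^ 3) ^ 2
      omega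
  · apply sizeOK_of_le a (m * p) p hp.one_lt.le
    apply size_D1 a m p _ ha hp (by omega) hpm hm
    rw [ht]
    obtain ⟨q, rfl⟩ : ∃ q, p = q + 2 := ⟨p - 2, by omega⟩
    simp only [Nat.add_sub_cancel]
    have hB2 := ar7 q (by omega)
    have h4 : (2 ^ q) ^ 2 = 4 ^ q := by
      rw [← pow_mul, mul_comm, pow_mul]; norm_num
    have hK : (q + 2) * (3 * (m * (q + 2)) + 1) ≤ 18 * (q + 2) ^ 2 + (q + 2) := by
      have := Nat.mul_le_mul_right ((q + 2) ^ 2) hm6
      nlinarith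
    calc (q + 2) * (3 * (m * (q + 2)) + 1) ≤ 18 * (q + 2) ^ 2 + (q + 2) := hK
      _ ≤ 4 ^ q := hB2
      _ = (2 ^ q) ^ 2 := h4.symm
      _ ≤ (a ^ q) ^ 2 := Nat.pow_le_pow_left (Nat.pow_le_pow_left ha q) 2

lemma size_D_t3 (a m p : ℕ) (ha : 2 ≤ a) (hp : p.Prime) (hp5 : 5 ≤ p) (hpm : ¬ p ∣ m)
    (hm : 0 < m) (ht3 : 3 ≤ m.totient) : SizeOK a (m * p) p := by
  apply sizeOK_of_le a (m * p) p hp.one_lt.le
  have hmb : m ≤ 3 ^ m.totient := tot_bound m hm
  have hm2 : 2 < m := by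
    by_contra hcon
    have : m = 1 ∨ m = 2 := by omega
    rcases this with h | h <;> rw [h] at ht3 <;> simp at ht3
  have hev : Even m.totient := Nat.totient_even hm2
  obtain ⟨t, ht⟩ : ∃ t, t = m.totient := ⟨_, rfl⟩
  rw [← ht] at hmb ht3 hev
  rcases Nat.lt_or_ge p 7 with hp7 | hp7
  · have hp5' : p = 5 := by
      have : p = 5 ∨ p = 6 := by omega
      rcases this with h | h
      · exact h
      · subst h; exact absurd hp (by norm_num)
    subst hp5'
    have ht4 : 4 ≤ t := by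
      rcases hev with ⟨u, hu⟩
      omega
    apply size_D0 a m 5 _ ha hp hpm hm
    rw [← ht]
    have h31 : 31 * (a + 1) ≤ 3 * (a ^ 5 - 1) := by
      have h16 : 2 ^ 4 ≤ a ^ 4 := Nat.pow_le_pow_left ha 4
      have h5 : a ^ 5 = a ^ 4 * a := pow_succ a 4
      have h6 : 2 ^ 4 * a ≤ a ^ 4 * a := Nat.mul_le_mul_right a h16
      omega
    have hK : 5 * (3 * (m * 5) + 1) * 3 ^ t ≤ 31 ^ t := by
      have h1 : 5 * (3 * (m * 5) + 1) ≤ 80 * 3 ^ t := by
        have : 1 ≤ 3 ^ t := Nat.one_le_pow _ _ (by norm_num)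
        omega
      calc 5 * (3 * (m * 5) + 1) * 3 ^ t ≤ 80 * 3 ^ t * 3 ^ t := Nat.mul_le_mul_right _ h1
        _ = 80 * 9 ^ t := by rw [mul_assoc, ← mul_pow]; norm_num
        _ ≤ 31 ^ t := ar9 t ht4
    have h2 : (31 * (a + 1)) ^ t ≤ (3 * (a ^ 5 - 1)) ^ t := Nat.pow_le_pow_left h31 t
    rw [mul_pow, mul_pow] at h2
    have h3pos : 0 < 3 ^ t := Nat.pow_pos (by norm_num)
    apply Nat.le_of_mul_le_mul_left _ h3pos
    calc 3 ^ t * (5 * (3 * (m * 5) + 1) * (a + 1) ^ t)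
        = (5 * (3 * (m * 5) + 1) * 3 ^ t) * (a + 1) ^ t := by ring
      _ ≤ 31 ^ t * (a + 1) ^ t := Nat.mul_le_mul_right _ hK
      _ ≤ 3 ^ t * (a ^ 5 - 1) ^ t := h2
  · apply size_D1 a m p _ ha hp (by omega) hpm hm
    rw [← ht]
    obtain ⟨q, rfl⟩ : ∃ q, p = q + 2 := ⟨p - 2, by omega⟩
    simp only [Nat.add_sub_cancel]
    have hq5 : 5 ≤ q := by omega
    obtain ⟨s, hs⟩ : ∃ s, t = s + 2 := ⟨t - 2, by omega⟩
    have hB2 : 18 * (q + 2) ^ 2 + (q + 2) ≤ 4 ^ q := ar7 q hq5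
    have hBs : 3 ^ (s + 2) ≤ 32 ^ s := ar8 s (by omega)
    have h32 : 32 ≤ 2 ^ q := by
      calc 32 = 2 ^ 5 := by norm_num
        _ ≤ 2 ^ q := Nat.pow_le_pow_right (by norm_num) hq5
    have h4 : (2 ^ q) ^ 2 = 4 ^ q := by
      rw [← pow_mul, mul_comm, pow_mul]; norm_num
    have hBs' : 3 ^ t ≤ (2 ^ q) ^ s := by
      rw [hs]; exact hBs.trans (Nat.pow_le_pow_left h32 s)
    have hK : (q + 2) * (3 * (m * (q + 2)) + 1) ≤ (3 * (q + 2) ^ 2 + (q + 2)) * 3 ^ t := by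
      have h1 : 1 ≤ 3 ^ t := Nat.one_le_pow _ _ (by norm_num)
      nlinarith [Nat.mul_le_mul_left (3 * (q + 2) ^ 2) hmb, Nat.mul_le_mul_left (q + 2) h1]
    calc (q + 2) * (3 * (m * (q + 2)) + 1) ≤ (3 * (q + 2) ^ 2 + (q + 2)) * 3 ^ t := hK
      _ ≤ 4 ^ q * (2 ^ q) ^ s := Nat.mul_le_mul (by omega) hBs'
      _ = (2 ^ q) ^ t := by rw [← h4, hs, ← pow_add, add_comm]
      _ ≤ (a ^ q) ^ t := Nat.pow_le_pow_left (Nat.pow_le_pow_left ha q) t

lemma size_D (a m p : ℕ) (ha : 2 ≤ a) (hp : p.Prime) (hp5 : 5 ≤ p) (hpm : ¬ p ∣ m) (hm : 0 < m)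
    (hex : ¬ Exc13 a (m * p)) : SizeOK a (m * p) p := by
  have htpos : 0 < m.totient := Nat.totient_pos.2 hm
  rcases Nat.lt_or_ge m.totient 2 with ht1 | ht2
  · have ht : m.totient = 1 := by omega
    rcases Nat.totient_eq_one_iff.1 ht with rfl | rfl
    · rw [one_mul]
      exact size_D_m1 a p ha hp hp5
    · exact size_D_m2 a p ha hp hp5 hex
  · rcases Nat.lt_or_ge m.totient 3 with ht3 | ht3
    · have ht : m.totient = 2 := by omega
      exact size_D_t2 a m p ha hp hp5 hpm hm ht hex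
    · exact size_D_t3 a m p ha hp hp5 hpm hm ht3

/-! ### the size lemma -/

theorem size_lemma (a n p : ℕ) (ha : 2 ≤ a) (hn : 3 ≤ n) (hp : p.Prime) (hpn : p ∣ n)
    (hmax : ∀ q : ℕ, q.Prime → q ∣ n → q ≤ p) (hex : ¬ Exc13 a n) : SizeOK a n p := by
  have hn0 : n ≠ 0 := by omega
  rcases Nat.lt_or_ge p 5 with hlt | hge
  · have hp23 : p = 2 ∨ p = 3 := by
      have h2 := hp.two_le
      have : p = 2 ∨ p = 3 ∨ p = 4 := by omega
      rcases this with h | h | h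
      · left; exact h
      · right; exact h
      · subst h; exact absurd hp (by norm_num)
    rcases hp23 with rfl | rfl
    · -- p = 2
      have h2 : ∀ {d : ℕ}, d.Prime → d ∣ n → d = 2 := by
        intro d hd hdn
        have := hmax d hd hdn
        have := hd.two_le
        omega
      obtain ⟨j, hpow⟩ : ∃ j, n = 2 ^ j := ⟨_, Nat.eq_prime_pow_of_unique_prime_dvd hn0 h2⟩
      have hj : 2 ≤ j := by
        by_contra hcon
        have : j = 0 ∨ j = 1 := by omega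
        rcases this with h | h
        · rw [h, pow_zero] at hpow; omega
        · rw [h, pow_one] at hpow; omega
      obtain ⟨i, rfl⟩ : ∃ i, j = i + 1 := ⟨j - 1, by omega⟩
      have hn2 : n = 2 * 2 ^ i := by rw [hpow, pow_succ']
      subst hn2
      exact size_A a i ha (by omega) hex
    · -- p = 3
      obtain ⟨j, m, h3m, hnm⟩ := Nat.exists_eq_pow_mul_and_not_dvd hn0 3 (by norm_num)
      have hj : 1 ≤ j := by
        by_contra hcon
        have hj0 : j = 0 := by omega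
        rw [hj0, pow_zero, one_mul] at hnm
        rw [hnm] at hpn
        exact h3m hpn
      have hm0 : m ≠ 0 := by
        rintro rfl
        rw [mul_zero] at hnm
        omega
      have h2 : ∀ {d : ℕ}, d.Prime → d ∣ m → d = 2 := by
        intro d hd hdm
        have hdn : d ∣ n := by rw [hnm]; exact Dvd.dvd.mul_left hdm _
        have hle := hmax d hd hdn
        have := hd.two_le
        have hne3 : d ≠ 3 := by rintro rfl; exact h3m hdm
        omega
      obtain ⟨s, hs⟩ : ∃ s, m = 2 ^ s := ⟨_, Nat.eq_prime_pow_of_unique_prime_dvd hm0 h2⟩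
      obtain ⟨j', rfl⟩ : ∃ j', j = j' + 1 := ⟨j - 1, by omega⟩
      rcases Nat.eq_zero_or_pos s with hs0 | hs0
      · have hn3 : n = 3 * 3 ^ j' := by rw [hnm, hs, hs0]; ring
        subst hn3
        exact size_B0 a j' ha hex
      · obtain ⟨s', rfl⟩ : ∃ s', s = s' + 1 := ⟨s - 1, by omega⟩
        have hn6 : n = 6 * 2 ^ s' * 3 ^ j' := by rw [hnm, hs]; ring
        subst hn6
        exact size_B1 a s' j' ha hex
  · obtain ⟨j, m, hpm, hnm⟩ := Nat.exists_eq_pow_mul_and_not_dvd hn0 p hp.ne_one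
    have hm0 : 0 < m := by
      rcases Nat.eq_zero_or_pos m with h | h
      · rw [h, mul_zero] at hnm; omega
      · exact h
    rcases Nat.lt_or_ge j 2 with hj | hj
    · have hj1 : j = 1 := by
        by_contra hcon
        have hj0 : j = 0 := by omega
        rw [hj0, pow_zero, one_mul] at hnm
        rw [hnm] at hpn
        exact hpm hpn
      have hn' : n = m * p := by rw [hnm, hj1, pow_one, mul_comm]
      subst hn'
      exact size_D a m p ha hp hge hpm hm0 hex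
    · obtain ⟨j', rfl⟩ : ∃ j', j = j' + 2 := ⟨j - 2, by omega⟩
      have hn' : n = (p ^ (j' + 1) * m) * p := by rw [hnm]; ring
      subst hn'
      apply sizeOK_of_le _ _ _ hp.one_lt.le
      exact size_C a (p ^ (j' + 1) * m) p ha hp hge
        (Dvd.dvd.mul_right (dvd_pow_self p (by omega)) m)
        (Nat.mul_pos (Nat.pow_pos hp.pos) hm0)

end Cfsg.Agent.helper18.Zsig2
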