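import Mathlib
import Cfsg.Agent.Lib_helper18_Zsigmondy
import Cfsg.Agent.Lib_helper18_Zsig2

set_option autoImplicit false

namespace Cfsg.Agent.helper18.Zsig3

open Polynomial Cfsg.Agent.helper18.Zsig Cfsg.Agent.helper18.Zsig2

lemma cast_pow_sub_one (a : ℕ) (ha : 1 < a) (k : ℕ) :
    ((a ^ k - 1 : ℕ) : ℤ) = (a : ℤ) ^ k - 1 := by
  rw [Nat.cast_sub (Nat.one_le_pow _ _ (by omega))]
  push_cast
  rfl

/-- a non-primitive prime divisor of `Φ_n(a)` is the largest prime divisor of `n`, and divides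
`Φ_n(a)` exactly once. -/
lemma nonprim_structure (a n r k : ℕ) (ha : 1 < a) (hn : 3 ≤ n) (hr : r.Prime)
    (hrc : (r : ℤ) ∣ cyc n a) (hk0 : 0 < k) (hkn : k < n) (hrk : r ∣ a ^ k - 1) :
    r ∣ n ∧ (∀ q : ℕ, q.Prime → q ∣ n → q ≤ r) ∧ ¬ ((r : ℤ) ^ 2 ∣ cyc n a) := by
  have hn0 : 0 < n := by omega
  have hrk' : (r : ℤ) ∣ (a : ℤ) ^ k - 1 := by
    rw [← cast_pow_sub_one a ha]; exact Int.natCast_dvd_natCast.2 hrk
  obtain ⟨d, j, hd0, hdr, hj, hndj, hrd, -⟩ :=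
    structure_of_nonprimitive n a r k ha hr hrc hk0 hkn hrk'
  have hrn : r ∣ n := by
    rw [hndj]
    exact Dvd.dvd.mul_left (dvd_pow_self r (by omega)) d
  refine ⟨hrn, fun q hq hqn => prime_le_of_structure n r d j q hr hd0 hdr hndj hq hqn, ?_⟩
  have hnr : n / r = d * r ^ (j - 1) := by
    apply Nat.div_eq_of_eq_mul_right hr.pos
    rw [hndj]
    obtain ⟨t, rfl⟩ : ∃ t, j = t + 1 := ⟨j - 1, by omega⟩
    simp only [Nat.add_sub_cancel]
    ring
  have hrb : (r : ℤ) ∣ (a : ℤ) ^ (n / r) - 1 := by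
    rw [hnr, pow_mul]
    have := sub_dvd_pow_sub_pow ((a : ℤ) ^ d) 1 (r ^ (j - 1))
    rw [one_pow] at this
    exact hrd.trans this
  rcases hr.eq_two_or_odd' with h | h
  · subst h
    have hd1 : d = 1 := by
      have : d ∣ 1 := by simpa using hdr
      exact Nat.dvd_one.1 this
    have hj2 : 2 ≤ j := by
      by_contra hcon2
      have : j = 1 := by omega
      rw [this, hd1] at hndj
      omega
    have h4n : 4 ∣ n := by
      rw [hndj, hd1, one_mul]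
      have : (4 : ℕ) = 2 ^ 2 := by norm_num
      rw [this]
      exact pow_dvd_pow 2 hj2
    exact_mod_cast four_not_dvd n a ha h4n hn0
  · exact sq_not_dvd_odd n a r ha hr h hrn hn0 hrb

/-- Outside the thirteen exceptional pairs, `a ^ n - 1` has a divisor `m ≥ 3 n + 1` all of whose
prime divisors are primitive. -/
theorem prim_part_large (a n : ℕ) (ha : 2 ≤ a) (hn : 3 ≤ n) (hex : ¬ Exc13 a n) :
    ∃ m : ℕ, m ∣ a ^ n - 1 ∧
      (∀ s : ℕ, s.Prime → s ∣ m → ∀ i : ℕ, 1 ≤ i → i < n → ¬ s ∣ a ^ i - 1) ∧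
      3 * n + 1 ≤ m := by
  have ha1 : 1 < a := by omega
  have hn0 : 0 < n := by omega
  have hpos : 0 < cyc n a := cyc_pos n a ha1
  obtain ⟨N, hN⟩ : ∃ N : ℕ, N = (cyc n a).natAbs := ⟨_, rfl⟩
  have hNc : (N : ℤ) = cyc n a := by
    rw [hN]; exact Int.natAbs_of_nonneg hpos.le
  have hNdvd : N ∣ a ^ n - 1 := by
    have : (N : ℤ) ∣ ((a ^ n - 1 : ℕ) : ℤ) := by
      rw [cast_pow_sub_one a ha1, hNc]; exact cyc_dvd n a
    exact Int.natCast_dvd_natCast.1 this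
  have hne : n.primeFactors.Nonempty := by
    rw [Nat.nonempty_primeFactors]; omega
  obtain ⟨p, hpp, hpn, hmax⟩ : ∃ p : ℕ, p.Prime ∧ p ∣ n ∧ ∀ q : ℕ, q.Prime → q ∣ n → q ≤ p := by
    refine ⟨n.primeFactors.max' hne, ?_, ?_, ?_⟩
    · exact Nat.prime_of_mem_primeFactors (Finset.max'_mem _ _)
    · exact Nat.dvd_of_mem_primeFactors (Finset.max'_mem _ _)
    · intro q hq hqn
      exact Finset.le_max' _ _ (Nat.mem_primeFactors.2 ⟨hq, hqn, by omega⟩)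
  obtain ⟨hI, hII⟩ := size_lemma a n p ha hn hpp hpn hmax hex
  by_cases h : ∃ r k : ℕ, r.Prime ∧ r ∣ N ∧ 0 < k ∧ k < n ∧ r ∣ a ^ k - 1
  · obtain ⟨r, k, hr, hrN, hk0, hkn, hrk⟩ := h
    have hrc : (r : ℤ) ∣ cyc n a := by
      rw [← hNc]; exact Int.natCast_dvd_natCast.2 hrN
    obtain ⟨hrn, hrmax, hrsq⟩ := nonprim_structure a n r k ha1 hn hr hrc hk0 hkn hrk
    have hrp : r = p := le_antisymm (hmax r hr hrn) (hrmax p hpp hpn)
    rw [hrp] at hrN hrc hrsq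
    have hII' := hII hrc
    have hsz : p * (3 * n + 1) ≤ N := by
      have : ((p * (3 * n + 1) : ℕ) : ℤ) ≤ (N : ℤ) := by
        rw [hNc]; push_cast; exact hII'
      exact_mod_cast this
    refine ⟨N / p, (Nat.div_dvd_of_dvd hrN).trans hNdvd, ?_, ?_⟩
    · intro s hs hsm i hi hin hsi
      have hsN : s ∣ N := hsm.trans (Nat.div_dvd_of_dvd hrN)
      have hsc : (s : ℤ) ∣ cyc n a := by
        rw [← hNc]; exact Int.natCast_dvd_natCast.2 hsN
      obtain ⟨hsn, hsmax, -⟩ := nonprim_structure a n s i ha1 hn hs hsc (by omega) hin hsi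
      have hsp : s = p := le_antisymm (hmax s hs hsn) (hsmax p hpp hpn)
      rw [hsp] at hsm
      have hpp2 : p * p ∣ N := Nat.mul_dvd_of_dvd_div hrN hsm
      apply hrsq
      rw [← hNc, sq]
      exact_mod_cast Int.natCast_dvd_natCast.2 hpp2
    · rw [Nat.le_div_iff_mul_le hpp.pos]
      calc (3 * n + 1) * p = p * (3 * n + 1) := mul_comm _ _
        _ ≤ N := hsz
  · push Not at h
    have hsz : 3 * n + 1 ≤ N := by
      have : ((3 * n + 1 : ℕ) : ℤ) ≤ (N : ℤ) := by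
        rw [hNc]; push_cast; exact hI
      exact_mod_cast this
    refine ⟨N, hNdvd, ?_, hsz⟩
    intro s hs hsm i hi hin hsi
    exact h s i hs hsm (by omega) hin hsi

/-- a primitive prime divisor of `a ^ n - 1` is at least `n + 1`. -/
lemma prim_prime_ge (a n s : ℕ) (ha : 2 ≤ a) (hn : 1 ≤ n) (hs : s.Prime) (hdvd : s ∣ a ^ n - 1)
    (hprim : ∀ i : ℕ, 1 ≤ i → i < n → ¬ s ∣ a ^ i - 1) : n + 1 ≤ s := by
  have : Fact s.Prime := ⟨hs⟩
  have hcastz : ∀ k : ℕ, ((a ^ k - 1 : ℕ) : ZMod s) = (a : ZMod s) ^ k - 1 := by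
    intro k
    have h1 : 1 ≤ a ^ k := Nat.one_le_pow _ _ (by omega)
    rw [Nat.cast_sub h1]
    simp
  have han : (a : ZMod s) ^ n = 1 := by
    have := (ZMod.natCast_eq_zero_iff (a ^ n - 1) s).2 hdvd
    rw [hcastz] at this
    exact sub_eq_zero.1 this
  have ha0 : (a : ZMod s) ≠ 0 := by
    intro h
    rw [h, zero_pow (by omega : n ≠ 0)] at han
    exact zero_ne_one han
  obtain ⟨d, hd⟩ : ∃ d, d = orderOf (a : ZMod s) := ⟨_, rfl⟩
  have hdn : d ∣ n := by rw [hd]; exact orderOf_dvd_of_pow_eq_one han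
  have hd0 : 0 < d := Nat.pos_of_dvd_of_pos hdn (by omega)
  have hdle : d ≤ n := Nat.le_of_dvd (by omega) hdn
  have hdeq : d = n := by
    by_contra hne
    have hlt : d < n := lt_of_le_of_ne hdle hne
    apply hprim d hd0 hlt
    apply (ZMod.natCast_eq_zero_iff (a ^ d - 1) s).1
    rw [hcastz, hd, pow_orderOf_eq_one, sub_self]
  have hds : d ∣ s - 1 := by rw [hd]; exact ZMod.orderOf_dvd_card_sub_one ha0
  have h2 : d ≤ s - 1 := Nat.le_of_dvd (by have := hs.two_le; omega) hds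
  have := hs.two_le
  omega

/-- the case `n = 2` of S3430 -/
lemma s3430_n2 (q : ℕ) (hq : 2 ≤ q) (h1 : ¬ ∃ s t : ℕ, t ≤ 1 ∧ q + 1 = 2 ^ s * 3 ^ t) :
    ∃ p : ℕ, p.Prime ∧ p ∣ q ^ 2 - 1 ∧ ¬ p ∣ q - 1 ∧ (3 < p ∨ p ^ 2 ∣ q ^ 2 - 1) := by
  have hfac : q ^ 2 - 1 = (q + 1) * (q - 1) := by
    obtain ⟨b, rfl⟩ : ∃ b, q = b + 1 := ⟨q - 1, by omega⟩
    apply Nat.sub_eq_of_eq_add
    simp only [Nat.add_sub_cancel]
    ring
  have hnd : ∀ p : ℕ, p.Prime → 3 ≤ p → p ∣ q + 1 → ¬ p ∣ q - 1 := by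
    intro p hp hp3 h h'
    have : p ∣ (q + 1) - (q - 1) := Nat.dvd_sub h h'
    have h22 : (q + 1) - (q - 1) = 2 := by omega
    rw [h22] at this
    have := Nat.le_of_dvd (by norm_num) this
    omega
  by_cases hbig : ∃ p : ℕ, p.Prime ∧ p ∣ q + 1 ∧ 5 ≤ p
  · obtain ⟨p, hp, hpq, hp5⟩ := hbig
    refine ⟨p, hp, ?_, hnd p hp (by omega) hpq, Or.inl (by omega)⟩
    rw [hfac]; exact Dvd.dvd.mul_right hpq _
  · push Not at hbig
    obtain ⟨s, u, h2u, hsu⟩ :=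
      Nat.exists_eq_pow_mul_and_not_dvd (by omega : q + 1 ≠ 0) 2 (by norm_num)
    have hu0 : u ≠ 0 := by
      rintro rfl
      simp at hsu
    obtain ⟨t, v, h3v, htv⟩ := Nat.exists_eq_pow_mul_and_not_dvd hu0 3 (by norm_num)
    have hv1 : v = 1 := by
      by_contra hv
      obtain ⟨w, hw, hwv⟩ := Nat.exists_prime_and_dvd hv
      have hwu : w ∣ u := by rw [htv]; exact Dvd.dvd.mul_left hwv _
      have hwq : w ∣ q + 1 := by rw [hsu]; exact Dvd.dvd.mul_left hwu _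
      have hw5 : w < 5 := hbig w hw hwq
      have hw2 : w ≠ 2 := by rintro rfl; exact h2u hwu
      have hw3 : w ≠ 3 := by rintro rfl; exact h3v hwv
      have := hw.two_le
      have hw4 : w = 4 := by omega
      rw [hw4] at hw
      exact absurd hw (by norm_num)
    have hq1 : q + 1 = 2 ^ s * 3 ^ t := by rw [hsu, htv, hv1, mul_one]
    have ht2 : 2 ≤ t := by
      by_contra hcon
      exact h1 ⟨s, t, by omega, hq1⟩
    have h9 : 3 ^ 2 ∣ q + 1 := by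
      rw [hq1]
      exact Dvd.dvd.mul_left (pow_dvd_pow 3 ht2) _
    have h3 : 3 ∣ q + 1 := dvd_trans (by norm_num) h9
    refine ⟨3, Nat.prime_three, ?_, hnd 3 Nat.prime_three le_rfl h3, Or.inr ?_⟩
    · rw [hfac]; exact Dvd.dvd.mul_right h3 _
    · rw [hfac]; exact Dvd.dvd.mul_right h9 _

lemma cop_bound (m N C P : ℕ) (hP : 0 < P) (hN : N = C * P) (hm : m ∣ N)
    (hc : Nat.Coprime m C) : m ≤ P := by
  rw [hN] at hm
  exact Nat.le_of_dvd hP (hc.dvd_of_dvd_mul_left hm)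

end Cfsg.Agent.helper18.Zsig3
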