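import Mathlib
import Cfsg.Prelude.Def_Transfer
import Cfsg.Agent.S0636
import Cfsg.Agent.H16UniqueInvol
import Cfsg.Agent.Lib_helper11_QuatPres
import Cfsg.Agent.Lib_helper23_Hall

set_option autoImplicit false
set_option linter.style.haveILetI false
set_option linter.unusedSectionVars false

namespace Cfsg.Agent.helper19

/-- the hypothesis "abelian subgroups of the same order are conjugate". -/
def AbConj (G : Type*) [Group G] : Prop :=
  ∀ A B : Subgroup G, IsMulCommutative ↥A → IsMulCommutative ↥B → Nat.card ↥A = Nat.card ↥B →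
    ∃ g : G, B = A.map (MulAut.conj g).toMonoidHom

/-- an element with `x ^ p ≠ 1` in a `p`-group has a power of order `p ^ 2`. -/
theorem exists_orderOf_sq {G : Type*} [Group G] {p : ℕ} [Fact p.Prime] {x : G} (j : ℕ)
    (hj : orderOf x = p ^ j) (hx : x ^ p ≠ 1) : ∃ y ∈ Subgroup.zpowers x, orderOf y = p ^ 2 := by
  have hpp : p.Prime := Fact.out
  have hj2 : 2 ≤ j := by
    by_contra hlt
    apply hx
    have : j = 0 ∨ j = 1 := by omega
    rcases this with rfl | rfl
    · rw [pow_zero, orderOf_eq_one_iff] at hj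
      rw [hj, one_pow]
    · rw [pow_one] at hj
      rw [← hj, pow_orderOf_eq_one]
  refine ⟨x ^ (p ^ (j - 2)), Subgroup.pow_mem _ (Subgroup.mem_zpowers x) _, ?_⟩
  have hd : p ^ (j - 2) ∣ orderOf x := by rw [hj]; exact pow_dvd_pow p (by omega)
  rw [orderOf_pow_of_dvd (pow_pos hpp.pos _).ne' hd, hj]
  rw [Nat.pow_div (by omega) hpp.pos]
  congr 1
  omega

/-- the key contradiction: a cyclic subgroup of order `p ^ 2` cannot be conjugate to an abelian
subgroup of order `p ^ 2` and exponent `p`. -/
theorem abConj_contra {G : Type*} [Group G] [Finite G] (hB : AbConj G) {p : ℕ} [Fact p.Prime] (y : G)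
    (hy : orderOf y = p ^ 2) (B : Subgroup G) (hBc : IsMulCommutative ↥B) (hBcard : Nat.card B = p ^ 2)
    (hBexp : ∀ b ∈ B, b ^ p = 1) : False := by
  have hpp : p.Prime := Fact.out
  obtain ⟨g, hg⟩ := hB (Subgroup.zpowers y) B inferInstance hBc (by rw [Nat.card_zpowers, hy, hBcard])
  have hw : g * y * g⁻¹ ∈ B := by
    rw [hg]
    exact ⟨y, Subgroup.mem_zpowers y, rfl⟩
  have h1 := hBexp _ hw
  rw [conj_pow] at h1
  have h2 : y ^ p = 1 := by
    have : y ^ p = g⁻¹ * (g * y ^ p * g⁻¹) * g := by group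
    rw [this, h1]; group
  have h3 := orderOf_dvd_of_pow_eq_one h2
  rw [hy] at h3
  have h4 := Nat.le_of_dvd hpp.pos h3
  have : p < p ^ 2 := by
    calc p = p ^ 1 := (pow_one p).symm
      _ < p ^ 2 := Nat.pow_lt_pow_right hpp.one_lt (by norm_num)
  omega

/-- odd `p`: Sylow `p`-subgroups are cyclic or of exponent `p`. -/
theorem abConj_odd {G : Type*} [Group G] [Finite G] (hB : AbConj G) (p : ℕ) [Fact p.Prime] (hp : p ≠ 2)
    (P : Sylow p G) : IsCyclic ↥(P : Subgroup G) ∨ ∀ x ∈ (P : Subgroup G), x ^ p = 1 := by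
  by_cases hcyc : IsCyclic ↥(P : Subgroup G)
  · exact Or.inl hcyc
  · right
    by_contra hex
    push Not at hex
    obtain ⟨x, hxP, hxp⟩ := hex
    have hnc : ¬ IsCyclic (⊤ : Subgroup ↥(P : Subgroup G)) := by
      intro hc
      apply hcyc
      exact isCyclic_of_surjective (Subgroup.topEquiv : (⊤ : Subgroup ↥(P : Subgroup G)) ≃* ↥(P : Subgroup G))
        Subgroup.topEquiv.surjective
    obtain ⟨E, -, -, ⟨hEc, hEe⟩, hEcard⟩ := Cfsg.Agent.S0636.result hp P.isPGroup' ⊤ hnc
    obtain ⟨j, hj⟩ := (IsPGroup.iff_orderOf.1 P.isPGroup') ⟨x, hxP⟩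
    rw [Subgroup.orderOf_mk] at hj
    obtain ⟨y, -, hy⟩ := exists_orderOf_sq j hj hxp
    haveI := hEc
    refine abConj_contra hB y hy (E.map (P : Subgroup G).subtype) inferInstance ?_ ?_
    · rw [Subgroup.card_map_of_injective (Subgroup.subtype_injective _), hEcard]
    · rintro _ ⟨e, he, rfl⟩
      have := hEe e he
      have h2 := congrArg Subtype.val this
      simpa using h2

theorem mem_zpowers_of_sq {G : Type*} [Group G] {s x : G} (hs : s * s = 1) (hx : x ∈ Subgroup.zpowers s) :
    x = 1 ∨ x = s := by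
  obtain ⟨k, rfl⟩ := Subgroup.mem_zpowers_iff.1 hx
  have hs2 : s ^ (2 : ℤ) = 1 := by
    rw [zpow_ofNat, pow_two]; exact hs
  have hk : k = 2 * (k / 2) + k % 2 := (Int.mul_ediv_add_emod k 2).symm
  rw [hk, zpow_add, zpow_mul, hs2, one_zpow, one_mul]
  rcases Int.emod_two_eq_zero_or_one k with h | h
  · left; rw [h, zpow_zero]
  · right; rw [h, zpow_one]

/-- a `2`-group with an element of order `4` in a group with `AbConj` has a unique involution. -/
theorem abConj_unique_invol {G : Type*} [Group G] [Finite G] (hB : AbConj G) (P : Sylow 2 G)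
    (y : G) (hy : orderOf y = 2 ^ 2) (s t : ↥(P : Subgroup G)) (hs : s * s = 1) (ht : t * t = 1)
    (hs1 : s ≠ 1) (ht1 : t ≠ 1) : s = t := by
  haveI : Fact (Nat.Prime 2) := ⟨Nat.prime_two⟩
  by_contra hst
  -- a central involution
  haveI : Nontrivial ↥(P : Subgroup G) := ⟨⟨s, 1, hs1⟩⟩
  haveI := P.isPGroup'.center_nontrivial
  have hZ2 : 2 ∣ Nat.card (Subgroup.center ↥(P : Subgroup G)) := by
    obtain ⟨n, hn⟩ := (P.isPGroup'.to_subgroup (Subgroup.center ↥(P : Subgroup G))).exists_card_eq
    have h1 : 1 < Nat.card (Subgroup.center ↥(P : Subgroup G)) := Finite.one_lt_card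
    rw [hn] at h1 ⊢
    have : n ≠ 0 := by rintro rfl; simp at h1
    exact dvd_pow_self 2 this
  obtain ⟨z, hz⟩ := exists_prime_orderOf_dvd_card' 2 hZ2
  have hzc : ∀ u : ↥(P : Subgroup G), u * (z : ↥(P : Subgroup G)) = (z : ↥(P : Subgroup G)) * u := by
    intro u
    exact (Subgroup.mem_center_iff.1 z.2 u)
  have hz2 : (z : ↥(P : Subgroup G)) * (z : ↥(P : Subgroup G)) = 1 := by
    have h1 : z ^ orderOf z = 1 := pow_orderOf_eq_one z
    rw [hz] at h1
    have h2 := congrArg Subtype.val h1
    rw [pow_two] at h2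
    exact h2
  have hz1 : (z : ↥(P : Subgroup G)) ≠ 1 := by
    intro h
    have : z = 1 := Subtype.ext h
    rw [this, orderOf_one] at hz
    omega
  -- an involution `u ≠ z`
  obtain ⟨u, hu, hu1, huz⟩ : ∃ u : ↥(P : Subgroup G), u * u = 1 ∧ u ≠ 1 ∧ u ≠ (z : ↥(P : Subgroup G)) := by
    by_cases h : s = (z : ↥(P : Subgroup G))
    · refine ⟨t, ht, ht1, ?_⟩
      rw [← h]; exact fun h' => hst h'.symm
    · exact ⟨s, hs, hs1, h⟩
  set V : Subgroup ↥(P : Subgroup G) := Subgroup.closure ({u, (z : ↥(P : Subgroup G))} : Set ↥(P : Subgroup G)) with hV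
  have hVc : IsMulCommutative ↥V := by
    apply Subgroup.isMulCommutative_closure
    intro a ha b hb
    rcases ha with rfl | rfl <;> rcases hb with rfl | rfl
    · rfl
    · exact hzc _
    · exact (hzc _).symm
    · rfl
  have hVeq : V = Subgroup.zpowers u ⊔ Subgroup.zpowers (z : ↥(P : Subgroup G)) := by
    rw [hV, Set.insert_eq, Subgroup.closure_union, Subgroup.zpowers_eq_closure, Subgroup.zpowers_eq_closure]
  haveI hZn : (Subgroup.zpowers (z : ↥(P : Subgroup G))).Normal := by
    constructor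
    intro n hn g
    have : g * n * g⁻¹ = n := by
      obtain ⟨k, rfl⟩ := Subgroup.mem_zpowers_iff.1 hn
      have hc0 : Commute g (z : ↥(P : Subgroup G)) := hzc g
      have hc : Commute g ((z : ↥(P : Subgroup G)) ^ k) := hc0.zpow_right k
      rw [hc.eq]; group
    rwa [this]
  have ho : ∀ w : ↥(P : Subgroup G), w * w = 1 → w ≠ 1 → Nat.card (Subgroup.zpowers w) = 2 := by
    intro w hw hw1
    rw [Nat.card_zpowers]
    exact orderOf_eq_prime (by rw [pow_two]; exact hw) hw1
  have hVd : Nat.card V ∣ 4 := by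
    have := Cfsg.Agent.helper23.card_sup_mul_card_inf (Subgroup.zpowers u) (Subgroup.zpowers (z : ↥(P : Subgroup G)))
    rw [← hVeq, ho u hu hu1, ho _ hz2 hz1] at this
    exact Dvd.intro _ this
  have hVgt : 2 < Nat.card V := by
    have hle : Subgroup.zpowers u ≤ V := by rw [hVeq]; exact le_sup_left
    have hne : Subgroup.zpowers u ≠ V := by
      intro h
      have hzV : (z : ↥(P : Subgroup G)) ∈ Subgroup.zpowers u := by
        rw [h, hVeq]
        exact (le_sup_right : Subgroup.zpowers (z : ↥(P : Subgroup G)) ≤ _) (Subgroup.mem_zpowers _)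
      rcases mem_zpowers_of_sq hu hzV with h1 | h1
      · exact hz1 h1
      · exact huz h1.symm
    by_contra hcon
    push Not at hcon
    exact hne (Subgroup.eq_of_le_of_card_ge hle (by rw [ho u hu hu1]; exact hcon))
  have hV4 : Nat.card V = 4 := by
    have h1 := Nat.le_of_dvd (by norm_num) hVd
    have : Nat.card V = 3 ∨ Nat.card V = 4 := by omega
    rcases this with h | h
    · rw [h] at hVd; norm_num at hVd
    · exact h
  haveI := hVc
  refine abConj_contra hB y hy (V.map (P : Subgroup G).subtype) inferInstance ?_ ?_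
  · rw [Subgroup.card_map_of_injective (Subgroup.subtype_injective _), hV4]; norm_num
  · rintro _ ⟨v, hv, rfl⟩
    -- every element of V squares to 1
    have hsq : ∀ v ∈ V, v ^ 2 = 1 := by
      intro v hv
      rw [hV] at hv
      induction hv using Subgroup.closure_induction with
      | mem a ha =>
        rcases ha with rfl | rfl
        · rw [pow_two]; exact hu
        · rw [pow_two]; exact hz2
      | one => exact one_pow 2
      | mul a b ha hb iha ihb =>
        have hab : Commute a b := by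
          have := hVc.is_comm.comm ⟨a, by rw [hV]; exact ha⟩ ⟨b, by rw [hV]; exact hb⟩
          exact congrArg Subtype.val this
        rw [hab.mul_pow, iha, ihb, one_mul]
      | inv a ha iha => rw [inv_pow, iha, inv_one]
    have := hsq v hv
    have h2 := congrArg Subtype.val this
    simpa using h2

end Cfsg.Agent.helper19
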