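import Mathlib
import Cfsg.Agent.Lib_helper19_AbConj

set_option autoImplicit false
set_option linter.style.haveILetI false
set_option linter.unusedSectionVars false

namespace Cfsg.Agent.helper19

open Cfsg.Agent.H16UniqueInvol (UInv structure_thm isCyclic_of_comm exists_noncomm)

/-- `p = 2`: Sylow `2`-subgroups are cyclic, elementary abelian or generalized quaternion. -/
theorem abConj_two {G : Type*} [Group G] [Finite G] (hB : AbConj G) (P : Sylow 2 G) :
    IsCyclic ↥(P : Subgroup G) ∨ Cfsg.IsElementaryAbelian 2 (P : Subgroup G) ∨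
      ∃ k : ℕ, Nonempty (↥(P : Subgroup G) ≃* QuaternionGroup (2 ^ k)) := by
  haveI : Fact (Nat.Prime 2) := ⟨Nat.prime_two⟩
  by_cases hexp : ∀ x ∈ (P : Subgroup G), x ^ 2 = 1
  · right; left
    refine ⟨⟨⟨fun a b => ?_⟩⟩, hexp⟩
    apply Subtype.ext
    have ha := hexp a a.2
    have hb := hexp b b.2
    have hab := hexp (a * b) ((P : Subgroup G).mul_mem a.2 b.2)
    show (a : G) * (b : G) = (b : G) * (a : G)
    have e1 : (a : G)⁻¹ = a := by rw [inv_eq_iff_mul_eq_one, ← pow_two]; exact ha
    have e2 : (b : G)⁻¹ = b := by rw [inv_eq_iff_mul_eq_one, ← pow_two]; exact hb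
    have e3 : ((a : G) * b)⁻¹ = (a : G) * b := by rw [inv_eq_iff_mul_eq_one, ← pow_two]; exact hab
    calc (a : G) * b = ((a : G) * b)⁻¹ := e3.symm
      _ = (b : G)⁻¹ * (a : G)⁻¹ := mul_inv_rev _ _
      _ = b * a := by rw [e1, e2]
  · push Not at hexp
    obtain ⟨x, hxP, hx2⟩ := hexp
    obtain ⟨j, hj⟩ := (IsPGroup.iff_orderOf.1 P.isPGroup') ⟨x, hxP⟩
    rw [Subgroup.orderOf_mk] at hj
    obtain ⟨y, hyx, hy⟩ := exists_orderOf_sq j hj hx2
    have hyP : y ∈ (P : Subgroup G) := (Subgroup.zpowers_le.2 hxP) hyx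
    have huniq : ∀ a b : ↥(P : Subgroup G), a * a = 1 → b * b = 1 → a ≠ 1 → b ≠ 1 → a = b :=
      fun a b ha hb ha1 hb1 => abConj_unique_invol hB P y hy a b ha hb ha1 hb1
    -- the involution
    have hy4 : y ^ 4 = 1 := by
      have : (4 : ℕ) = 2 ^ 2 := by norm_num
      rw [this, ← hy]; exact pow_orderOf_eq_one y
    have hy2 : y ^ 2 ≠ 1 := by
      intro h
      have := orderOf_dvd_of_pow_eq_one h
      rw [hy] at this
      norm_num at this
    set z : ↥(P : Subgroup G) := ⟨y ^ 2, (P : Subgroup G).pow_mem hyP 2⟩ with hz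
    have hz1 : z ≠ 1 := by
      intro h
      exact hy2 (congrArg Subtype.val h)
    have hzz : z * z = 1 := by
      apply Subtype.ext
      show y ^ 2 * y ^ 2 = 1
      rw [← pow_add]; exact hy4
    have hU : UInv z := by
      refine ⟨hz1, hzz, ?_⟩
      intro g hg
      by_cases hg1 : g = 1
      · exact Or.inl hg1
      · exact Or.inr (huniq g z hg hzz hg1 hz1)
    by_cases hcomm : IsMulCommutative ↥(P : Subgroup G)
    · left
      letI : CommGroup ↥(P : Subgroup G) :=
        { (inferInstance : Group ↥(P : Subgroup G)) with mul_comm := hcomm.is_comm.comm }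
      exact isCyclic_of_comm P.isPGroup' huniq
    · right; right
      obtain ⟨g, h, hgh⟩ := exists_noncomm hcomm
      obtain ⟨a, b, k, hk2, hao, hbnot, hcover, hinv, hbb, haz⟩ := structure_thm P.isPGroup' hU ⟨g, h, hgh⟩
      refine ⟨k - 1, ?_⟩
      have hn : 2 ≤ 2 ^ (k - 1) := by
        calc 2 = 2 ^ 1 := (pow_one 2).symm
          _ ≤ 2 ^ (k - 1) := Nat.pow_le_pow_right (by norm_num) (by omega)
      have hord : orderOf a = 2 * 2 ^ (k - 1) := by
        rw [hao, ← pow_succ']
        congr 1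
        omega
      have hb2 : b ^ 2 = a ^ (2 ^ (k - 1)) := by rw [pow_two, hbb, haz]
      have hinj := Cfsg.Agent.helper11.QuatPres.quatHom_injective hn hord hb2 hinv
      have hcardle : Nat.card ↥(P : Subgroup G) ≤ Nat.card (QuaternionGroup (2 ^ (k - 1))) := by
        rw [Nat.card_eq_fintype_card (α := QuaternionGroup (2 ^ (k - 1))), QuaternionGroup.card]
        -- surjection from Bool × zpowers a
        let φ : Bool × ↥(Subgroup.zpowers a) → ↥(P : Subgroup G) :=
          fun t => (if t.1 then b else 1) * (t.2 : ↥(P : Subgroup G))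
        have hφ : Function.Surjective φ := by
          intro g
          rcases hcover g with hg | hg
          · exact ⟨(false, ⟨g, hg⟩), by simp [φ]⟩
          · refine ⟨(true, ⟨b⁻¹ * g, hg⟩), ?_⟩
            simp [φ]
        have h1 := Nat.card_le_card_of_surjective φ hφ
        rw [Nat.card_prod, Nat.card_zpowers, hao] at h1
        have h2 : Nat.card Bool = 2 := by simp
        rw [h2] at h1
        have h3 : 2 * 2 ^ k = 4 * 2 ^ (k - 1) := by
          have : k = (k - 1) + 1 := by omega
          conv_lhs => rw [this, pow_succ]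
          ring
        rw [h3] at h1
        exact h1
      have hbij : Function.Bijective (Cfsg.Agent.helper11.QuatPres.quatHom a b
          (by rw [← hord]; exact pow_orderOf_eq_one a) hb2 hinv) := by
        refine ⟨hinj, ?_⟩
        exact (Function.Injective.bijective_of_nat_card_le hinj hcardle).2
      exact ⟨(MulEquiv.ofBijective _ hbij).symm⟩

/-- `S3908`. -/
theorem abConj_main {G : Type*} [Group G] [Finite G] (hB : AbConj G) :
    (∀ P : Sylow 2 G, IsCyclic ↥(P : Subgroup G) ∨ Cfsg.IsElementaryAbelian 2 (P : Subgroup G) ∨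
      ∃ k : ℕ, Nonempty (↥(P : Subgroup G) ≃* QuaternionGroup (2 ^ k))) ∧
    ∀ (p : ℕ) [Fact p.Prime], p ≠ 2 → ∀ P : Sylow p G,
      IsCyclic ↥(P : Subgroup G) ∨ ∀ x ∈ (P : Subgroup G), x ^ p = 1 :=
  ⟨fun P => abConj_two hB P, fun p _ hp P => abConj_odd hB p hp P⟩

end Cfsg.Agent.helper19
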