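import Mathlib
import Cfsg.Agent.Lib_helper19_Primitive

set_option autoImplicit false
open scoped commutatorElement Pointwise

namespace Cfsg.Agent.helper19

open Cfsg.Agent.helper7

variable {G : Type*} [Group G]

theorem le_normalizer_sSup {T : Subgroup G} (F : Set (Subgroup G))
    (h : ∀ W ∈ F, T ≤ Subgroup.normalizer (W : Set G)) :
    T ≤ Subgroup.normalizer ((sSup F : Subgroup G) : Set G) := by
  rw [sSup_eq_iSup']
  apply le_normalizer_iSup
  intro i
  exact h i.1 i.2

theorem le_normalizer_sup {T A B : Subgroup G} (hA : T ≤ Subgroup.normalizer (A : Set G))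
    (hB : T ≤ Subgroup.normalizer (B : Set G)) :
    T ≤ Subgroup.normalizer ((A ⊔ B : Subgroup G) : Set G) := by
  intro t ht
  apply mem_normalizer_of_cj_eq
  unfold cj
  rw [Subgroup.map_sup]
  have h1 := cj_eq_of_mem_normalizer (hA ht)
  have h2 := cj_eq_of_mem_normalizer (hB ht)
  unfold cj at h1 h2
  rw [h1, h2]

theorem le_normalizer_inf {T A B : Subgroup G} (hA : T ≤ Subgroup.normalizer (A : Set G))
    (hB : T ≤ Subgroup.normalizer (B : Set G)) :
    T ≤ Subgroup.normalizer ((A ⊓ B : Subgroup G) : Set G) := by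
  intro t ht
  exact Subgroup.inf_normalizer_le_normalizer_inf ⟨hA ht, hB ht⟩

/-- The set of minimal `K`-invariant subgroups of `V`. -/
def irrSet (K V : Subgroup G) : Set (Subgroup G) := {S | S ≤ V ∧ MinNormalIn S K}

/-- If the abelian group `V` is generated by its minimal `K`-invariant subgroups then every
`K`-invariant subgroup has a `K`-invariant complement. -/
theorem exists_compl_of_sSup_irr [Finite G] {K V : Subgroup G}
    (hVab : V ≤ Subgroup.centralizer (V : Set G))
    (hgen : sSup (irrSet K V) = V) (U : Subgroup G) (hUV : U ≤ V)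
    (hKU : K ≤ Subgroup.normalizer (U : Set G)) :
    ∃ W : Subgroup G, W ≤ V ∧ K ≤ Subgroup.normalizer (W : Set G) ∧ U ⊓ W = ⊥ ∧ U ⊔ W = V := by
  classical
  let C : Set (Subgroup G) := {W | W ≤ V ∧ K ≤ Subgroup.normalizer (W : Set G) ∧ U ⊓ W = ⊥}
  have hCfin : C.Finite := Set.toFinite _
  have hbotn : K ≤ Subgroup.normalizer (((⊥ : Subgroup G) : Subgroup G) : Set G) := by
    intro k _
    apply mem_normalizer_of_cj_eq
    exact cj_bot k
  have hCne : C.Nonempty := ⟨⊥, bot_le, hbotn, inf_bot_eq _⟩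
  obtain ⟨W, hW, hmax⟩ := hCfin.exists_maximal hCne
  obtain ⟨hWV, hKW, hUW⟩ := hW
  refine ⟨W, hWV, hKW, hUW, ?_⟩
  by_contra hne
  have hlt : U ⊔ W ≤ V := sup_le hUV hWV
  -- some irreducible is not inside `U ⊔ W`
  have hex : ∃ S ∈ irrSet K V, ¬ S ≤ U ⊔ W := by
    by_contra hcon
    push Not at hcon
    apply hne
    apply le_antisymm hlt
    rw [← hgen]
    exact sSup_le hcon
  obtain ⟨S, ⟨hSV, hSne, hKS, hSmin⟩, hSnot⟩ := hex
  have hKUW : K ≤ Subgroup.normalizer ((U ⊔ W : Subgroup G) : Set G) := le_normalizer_sup hKU hKW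
  have hSint : S ⊓ (U ⊔ W) = ⊥ := by
    by_contra hnb
    have := hSmin (S ⊓ (U ⊔ W)) inf_le_left hnb (le_normalizer_inf hKS hKUW)
    apply hSnot
    rw [← this]; exact inf_le_right
  have hSW : S ≤ Subgroup.normalizer (W : Set G) := by
    refine hSV.trans (hVab.trans ?_)
    exact (Subgroup.centralizer_le (SetLike.coe_subset_coe.2 hWV)).trans
      (Subgroup.centralizer_le_normalizer _)
  have hW'C : W ⊔ S ∈ C := by
    refine ⟨sup_le hWV hSV, le_normalizer_sup hKW hKS, ?_⟩
    rw [eq_bot_iff]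
    intro x hx
    obtain ⟨hxU, hxWS⟩ := Subgroup.mem_inf.1 hx
    obtain ⟨w, hw, s, hs, rfl⟩ := mem_sup_of_normalizer hSW hxWS
    have hs' : s ∈ S ⊓ (U ⊔ W) := by
      refine Subgroup.mem_inf.2 ⟨hs, ?_⟩
      have e : s = w⁻¹ * (w * s) := by group
      rw [e]
      exact Subgroup.mul_mem _ ((le_sup_right : W ≤ U ⊔ W) (W.inv_mem hw))
        ((le_sup_left : U ≤ U ⊔ W) hxU)
    rw [hSint, Subgroup.mem_bot] at hs'
    rw [hs', mul_one] at hxU ⊢
    have : w ∈ U ⊓ W := Subgroup.mem_inf.2 ⟨hxU, hw⟩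
    rwa [hUW] at this
  have hle : W ≤ W ⊔ S := le_sup_left
  have := hmax hW'C hle
  apply hSnot
  exact (le_sup_right.trans this).trans le_sup_right

/-- Complete reducibility implies generation by irreducibles. -/
theorem sSup_irr_of_compl [Finite G] {H V : Subgroup G}
    (hss : ∀ U : Subgroup G, U ≤ V → H ≤ Subgroup.normalizer (U : Set G) →
      ∃ W : Subgroup G, W ≤ V ∧ H ≤ Subgroup.normalizer (W : Set G) ∧ U ⊓ W = ⊥ ∧ U ⊔ W = V) :
    sSup (irrSet H V) = V := by
  set T := sSup (irrSet H V) with hT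
  have hTV : T ≤ V := sSup_le fun S hS => hS.1
  have hHT : H ≤ Subgroup.normalizer (T : Set G) := le_normalizer_sSup _ fun S hS => hS.2.2.1
  obtain ⟨W, hWV, hHW, hTW, hsup⟩ := hss T hTV hHT
  by_cases hW : W = ⊥
  · rw [hW, sup_bot_eq] at hsup; exact hsup
  · exfalso
    obtain ⟨S, hSW, hS⟩ := exists_minNormalIn_le hW hHW
    have hST : S ≤ T := le_sSup ⟨hSW.trans hWV, hS⟩
    have : S ≤ T ⊓ W := le_inf hST hSW
    rw [hTW] at this
    exact hS.1 (le_bot_iff.1 this)

/-- Clifford: irreducibles for `H` are generated by irreducibles for a normal subgroup `A`. -/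
theorem irr_le_sSup_irr_normal [Finite G] {H A V S : Subgroup G} (hAH : A ≤ H)
    (hAn : H ≤ Subgroup.normalizer (A : Set G)) (hS : S ∈ irrSet H V) :
    S ≤ sSup (irrSet A V) := by
  obtain ⟨hSV, hSne, hHS, hSmin⟩ := hS
  obtain ⟨S₀, hS₀S, hS₀⟩ := exists_minNormalIn_le hSne (hAH.trans hHS)
  set T := conjClosureIn S₀ H with hT
  have hTS : T ≤ S := by
    apply iSup_le
    intro h
    have := cj_mono (g := (h : G)) hS₀S
    rwa [cj_eq_of_mem_normalizer (hHS h.2)] at this
  have hTne : T ≠ ⊥ := by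
    intro h
    apply hS₀.1
    rw [eq_bot_iff, ← h]; exact le_conjClosureIn S₀ H
  have hTeq : T = S := hSmin T hTS hTne (le_normalizer_conjClosureIn S₀ H)
  rw [← hTeq]
  apply iSup_le
  intro h
  apply le_sSup
  refine ⟨?_, ?_⟩
  · have := cj_mono (g := (h : G)) (hS₀S.trans hSV)
    exact (cj_mono (g := (h : G)) hS₀S).trans
      ((by rw [cj_eq_of_mem_normalizer (hHS h.2)] : cj (h : G) S = S).le.trans hSV)
  · have := hS₀.conj (h : G)
    rwa [cj_eq_of_mem_normalizer (hAn h.2)] at this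

/-- Clifford's theorem (complete reducibility passes to normal subgroups). -/
theorem clifford_compl [Finite G] (H A V : Subgroup G)
    (hVab : V ≤ Subgroup.centralizer (V : Set G)) (hAH : A ≤ H)
    (hAn : H ≤ Subgroup.normalizer (A : Set G))
    (hss : ∀ U : Subgroup G, U ≤ V → H ≤ Subgroup.normalizer (U : Set G) →
      ∃ W : Subgroup G, W ≤ V ∧ H ≤ Subgroup.normalizer (W : Set G) ∧ U ⊓ W = ⊥ ∧ U ⊔ W = V)
    (U : Subgroup G) (hUV : U ≤ V) (hAU : A ≤ Subgroup.normalizer (U : Set G)) :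
    ∃ W : Subgroup G, W ≤ V ∧ A ≤ Subgroup.normalizer (W : Set G) ∧ U ⊓ W = ⊥ ∧ U ⊔ W = V := by
  apply exists_compl_of_sSup_irr hVab _ U hUV hAU
  apply le_antisymm (sSup_le fun S hS => hS.1)
  have h1 : V ≤ sSup (irrSet H V) := (sSup_irr_of_compl hss).ge
  refine h1.trans ?_
  apply sSup_le
  intro S hS
  exact irr_le_sSup_irr_normal hAH hAn hS

end Cfsg.Agent.helper19
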