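import Mathlib

set_option autoImplicit false
set_option linter.style.haveILetI false

namespace Cfsg.Agent.helper19

/-- The kernel of an additive endomorphism, as an additive subgroup. -/
def endKer {V : Type*} [AddCommGroup V] (f : AddMonoid.End V) : AddSubgroup V where
  carrier := {v | f v = 0}
  zero_mem' := map_zero f
  add_mem' := by
    intro a b ha hb
    show f (a + b) = 0
    rw [map_add, ha, hb, add_zero]
  neg_mem' := by
    intro a ha
    show f (-a) = 0
    rw [map_neg, ha, neg_zero]

theorem mem_endKer {V : Type*} [AddCommGroup V] (f : AddMonoid.End V) (v : V) :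
    v ∈ endKer f ↔ f v = 0 := Iff.rfl

open scoped IsMulCommutative in
/-- A finite abelian group acting irreducibly on an abelian group acts through a cyclic quotient:
there is `a₀` such that every `a` acts as a power of `a₀`. -/
theorem exists_generator_mod_ker {A V : Type*} [CommGroup A] [Finite A] [AddCommGroup V]
    [Nontrivial V] (ρ : A →* AddMonoid.End V)
    (hirr : ∀ W : AddSubgroup V, (∀ a : A, ∀ w ∈ W, ρ a w ∈ W) → W = ⊥ ∨ W = ⊤) :
    ∃ a₀ : A, ∀ a : A, ∃ n : ℕ, ρ a = ρ (a₀ ^ n) := by
  classical
  set S : Set (AddMonoid.End V) := Set.range ρ with hS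
  have hcomm : ∀ x ∈ S, ∀ y ∈ S, x * y = y * x := by
    rintro _ ⟨a, rfl⟩ _ ⟨b, rfl⟩
    rw [← map_mul, ← map_mul, mul_comm]
  haveI := Subring.isMulCommutative_closure hcomm
  letI : CommRing (Subring.closure S) := inferInstance
  have hmemS : ∀ a : A, ρ a ∈ Subring.closure S := fun a => Subring.subset_closure ⟨a, rfl⟩
  -- kernel dichotomy
  have hker : ∀ f : Subring.closure S, f = 0 ∨ ∀ v : V, f.1 v = 0 → v = 0 := by
    intro f
    have hfc : ∀ a : A, f.1 * ρ a = ρ a * f.1 := by
      intro a
      have := mul_comm f ⟨ρ a, hmemS a⟩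
      exact congrArg Subtype.val this
    have hinv : ∀ a : A, ∀ w ∈ endKer f.1, ρ a w ∈ endKer f.1 := by
      intro a w hw
      rw [mem_endKer] at hw ⊢
      have h1 : (f.1 * ρ a) w = (ρ a * f.1) w := by rw [hfc a]
      rw [AddMonoid.End.coe_mul, AddMonoid.End.coe_mul] at h1
      simp only [Function.comp_apply] at h1
      rw [h1, hw, map_zero]
    rcases hirr _ hinv with h | h
    · right
      intro v hv
      have : v ∈ endKer f.1 := hv
      rw [h] at this
      exact (AddSubgroup.mem_bot).1 this
    · left
      apply Subtype.ext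
      apply DFunLike.ext
      intro v
      have : v ∈ endKer f.1 := by rw [h]; trivial
      exact this
  haveI : Nontrivial (Subring.closure S) := by
    refine ⟨⟨0, 1, ?_⟩⟩
    intro h
    obtain ⟨v, hv⟩ := exists_ne (0 : V)
    have h2 : ((0 : Subring.closure S).1 : AddMonoid.End V) v = ((1 : Subring.closure S).1 : AddMonoid.End V) v := by
      rw [h]
    simp only [ZeroMemClass.coe_zero, OneMemClass.coe_one] at h2
    rw [AddMonoid.End.coe_one] at h2
    exact hv h2.symm
  haveI : NoZeroDivisors (Subring.closure S) := by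
    refine ⟨fun {f g} hfg => ?_⟩
    rcases hker f with hf | hf
    · exact Or.inl hf
    · right
      apply Subtype.ext
      apply DFunLike.ext
      intro v
      have h1 : ((f * g : Subring.closure S).1 : AddMonoid.End V) v = ((0 : Subring.closure S).1 : AddMonoid.End V) v := by
        rw [hfg]
      simp only [MulMemClass.coe_mul, ZeroMemClass.coe_zero] at h1
      rw [AddMonoid.End.coe_mul] at h1
      exact hf _ h1
  haveI : IsDomain (Subring.closure S) := NoZeroDivisors.to_isDomain _
  let ρ' : A →* Subring.closure S := ρ.codRestrict (Subring.closure S) hmemS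
  let φ : A →* (Subring.closure S)ˣ := ρ'.toHomUnits
  haveI : Finite ↥φ.range := Finite.of_surjective φ.rangeRestrict φ.rangeRestrict_surjective
  haveI : IsCyclic ↥φ.range := inferInstance
  obtain ⟨gbar, hgbar⟩ := IsCyclic.exists_monoid_generator (α := ↥φ.range)
  obtain ⟨a₀, ha₀⟩ := gbar.2
  refine ⟨a₀, fun a => ?_⟩
  obtain ⟨n, hn⟩ := (Submonoid.mem_powers_iff _ _).1 (hgbar ⟨φ a, a, rfl⟩)
  refine ⟨n, ?_⟩
  have h1 : (φ a₀) ^ n = φ a := by
    have := congrArg Subtype.val hn
    rw [SubmonoidClass.coe_pow] at this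
    rw [ha₀]; exact this
  rw [← map_pow] at h1
  have h2 : ((φ (a₀ ^ n) : (Subring.closure S)ˣ) : Subring.closure S) = (φ a : (Subring.closure S)ˣ) := by
    rw [h1]
  have h3 := congrArg Subtype.val h2
  exact h3.symm

end Cfsg.Agent.helper19
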