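import Mathlib
import Cfsg.Agent.Lib_helper1_ElemAb
import Cfsg.Agent.Lib_helper19_HH0
import Cfsg.Agent.Lib_helper19_NPC
import Cfsg.Agent.Lib_helper19_SchurCyc

set_option autoImplicit false
set_option linter.style.haveILetI false

namespace Cfsg.Agent.helper19

open scoped commutatorElement

variable {X : Type*} [Group X]

/-- An abelian group `A` acting on `G` with `G/H` an irreducible abelian section acts on `G/H`
through a cyclic quotient `A/K`. -/
theorem cyclic_quotient_action [Finite X] (A G H : Subgroup X)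
    (hAab : ∀ a ∈ A, ∀ b ∈ A, a * b = b * a)
    (hAG : A ≤ Subgroup.normalizer (G : Set X)) (hHG : H ≤ G) (hHne : H ≠ G)
    (hHn : G ≤ Subgroup.normalizer (H : Set X)) (hcomm : ⁅G, G⁆ ≤ H)
    (hAH : A ≤ Subgroup.normalizer (H : Set X))
    (hmax : ∀ U : Subgroup X, H ≤ U → U ≤ G → A ≤ Subgroup.normalizer (U : Set X) →
      U = H ∨ U = G) :
    ∃ K : Subgroup X, K ≤ A ∧ (∀ b ∈ K, ∀ g ∈ G, g⁻¹ * (b * g * b⁻¹) ∈ H) ∧
      ∃ a₀ ∈ A, K ⊔ Subgroup.zpowers a₀ = A := by
  classical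
  set H' : Subgroup ↥G := H.subgroupOf G with hH'
  haveI hH'n : H'.Normal := (Subgroup.normal_subgroupOf_iff_le_normalizer hHG).2 hHn
  have hcomm' : commutator ↥G ≤ H' := by
    intro z hz
    rw [hH', Subgroup.mem_subgroupOf]
    apply hcomm
    rw [← Subgroup.map_subtype_commutator]
    exact ⟨z, by rwa [commutator_def] at hz, rfl⟩
  have hQcomm : ∀ x y : ↥G ⧸ H', x * y = y * x :=
    Cfsg.Agent.helper1.quot_comm_of_commutator_le H' hcomm'
  letI instQ : CommGroup (↥G ⧸ H') :=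
    { (inferInstance : Group (↥G ⧸ H')) with mul_comm := hQcomm }
  letI instA : CommGroup ↥A :=
    { (inferInstance : Group ↥A) with mul_comm := fun a b => Subtype.ext (hAab a a.2 b b.2) }
  -- the action on the quotient
  have hle : ∀ a : ↥A, H' ≤ H'.comap (conjP G a.1 (hAG a.2)) := by
    intro a y hy
    rw [Subgroup.mem_comap, hH', Subgroup.mem_subgroupOf]
    exact (Subgroup.mem_normalizer_iff.1 (hAH a.2) y.1).1 hy
  let ψ : ↥A → (↥G ⧸ H' →* ↥G ⧸ H') := fun a =>
    QuotientGroup.map H' H' (conjP G a.1 (hAG a.2)) (hle a)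
  have hψmk : ∀ (a : ↥A) (g : ↥G), ψ a (QuotientGroup.mk g) =
      QuotientGroup.mk (conjP G a.1 (hAG a.2) g) := fun a g => rfl
  let ρ : ↥A →* AddMonoid.End (Additive (↥G ⧸ H')) :=
    { toFun := fun a =>
        { toFun := fun v => Additive.ofMul (ψ a (Additive.toMul v))
          map_zero' := by
            show Additive.ofMul (ψ a 1) = 0
            rw [map_one]; rfl
          map_add' := by
            intro v w
            show Additive.ofMul (ψ a (Additive.toMul v * Additive.toMul w)) = _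
            rw [map_mul]; rfl }
      map_one' := by
        apply DFunLike.ext
        intro v
        show Additive.ofMul (ψ 1 (Additive.toMul v)) = v
        obtain ⟨g, hg⟩ := QuotientGroup.mk_surjective (Additive.toMul v)
        rw [← hg, hψmk]
        have : conjP G (1 : ↥A).1 (hAG (1 : ↥A).2) g = g := by
          apply Subtype.ext; simp [conjP]
        rw [this, hg]; rfl
      map_mul' := by
        intro a b
        apply DFunLike.ext
        intro v
        show Additive.ofMul (ψ (a * b) (Additive.toMul v)) =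
          Additive.ofMul (ψ a (ψ b (Additive.toMul v)))
        obtain ⟨g, hg⟩ := QuotientGroup.mk_surjective (Additive.toMul v)
        rw [← hg, hψmk, hψmk, hψmk]
        congr 2
        apply Subtype.ext
        simp [conjP, mul_assoc] }
  have hρ : ∀ (a : ↥A) (g : ↥G), ρ a (Additive.ofMul (QuotientGroup.mk g)) =
      Additive.ofMul (QuotientGroup.mk (conjP G a.1 (hAG a.2) g)) := fun a g => rfl
  -- nontrivial
  haveI : Nontrivial (Additive (↥G ⧸ H')) := by
    obtain ⟨g, hgG, hgH⟩ : ∃ g ∈ G, g ∉ H := by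
      by_contra hcon
      push Not at hcon
      exact hHne (le_antisymm hHG hcon)
    refine ⟨⟨Additive.ofMul (QuotientGroup.mk ⟨g, hgG⟩), 0, ?_⟩⟩
    intro h
    have h1 : (QuotientGroup.mk ⟨g, hgG⟩ : ↥G ⧸ H') = 1 := h
    rw [QuotientGroup.eq_one_iff] at h1
    exact hgH h1
  -- irreducible
  have hirr : ∀ W : AddSubgroup (Additive (↥G ⧸ H')),
      (∀ a : ↥A, ∀ w ∈ W, ρ a w ∈ W) → W = ⊥ ∨ W = ⊤ := by
    intro W hW
    let U : Subgroup X :=
      { carrier := {x | ∃ hx : x ∈ G, Additive.ofMul (QuotientGroup.mk (⟨x, hx⟩ : ↥G) : ↥G ⧸ H') ∈ W}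
        one_mem' := ⟨G.one_mem, by
          have : (QuotientGroup.mk (⟨1, G.one_mem⟩ : ↥G) : ↥G ⧸ H') = 1 := rfl
          rw [this]; exact W.zero_mem⟩
        mul_mem' := by
          rintro x y ⟨hx, hxW⟩ ⟨hy, hyW⟩
          refine ⟨G.mul_mem hx hy, ?_⟩
          have : (QuotientGroup.mk (⟨x * y, G.mul_mem hx hy⟩ : ↥G) : ↥G ⧸ H') =
              QuotientGroup.mk (⟨x, hx⟩ : ↥G) * QuotientGroup.mk (⟨y, hy⟩ : ↥G) := rfl
          rw [this]
          exact W.add_mem hxW hyW
        inv_mem' := by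
          rintro x ⟨hx, hxW⟩
          refine ⟨G.inv_mem hx, ?_⟩
          have : (QuotientGroup.mk (⟨x⁻¹, G.inv_mem hx⟩ : ↥G) : ↥G ⧸ H') =
              (QuotientGroup.mk (⟨x, hx⟩ : ↥G))⁻¹ := rfl
          rw [this]
          exact W.neg_mem hxW }
    have hUmem : ∀ x, x ∈ U ↔ ∃ hx : x ∈ G,
        Additive.ofMul (QuotientGroup.mk (⟨x, hx⟩ : ↥G) : ↥G ⧸ H') ∈ W := fun x => Iff.rfl
    have hHU : H ≤ U := by
      intro x hx
      refine ⟨hHG hx, ?_⟩
      have : (QuotientGroup.mk (⟨x, hHG hx⟩ : ↥G) : ↥G ⧸ H') = 1 := by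
        rw [QuotientGroup.eq_one_iff]; exact hx
      rw [this]; exact W.zero_mem
    have hUG : U ≤ G := fun x hx => hx.1
    have hAU : A ≤ Subgroup.normalizer (U : Set X) := by
      apply le_normalizer_of_conj_mem
      rintro a ha x ⟨hx, hxW⟩
      have hx' : a * x * a⁻¹ ∈ G := (Subgroup.mem_normalizer_iff.1 (hAG ha) x).1 hx
      refine ⟨hx', ?_⟩
      have := hW ⟨a, ha⟩ _ hxW
      rw [hρ] at this
      exact this
    rcases hmax U hHU hUG hAU with hU | hU
    · left
      rw [eq_bot_iff]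
      intro w hw
      obtain ⟨g, hg⟩ := QuotientGroup.mk_surjective (Additive.toMul w)
      have hgU : (g : X) ∈ U := ⟨g.2, by
        have : Additive.ofMul (QuotientGroup.mk (⟨(g : X), g.2⟩ : ↥G) : ↥G ⧸ H') = w := by
          show Additive.ofMul (QuotientGroup.mk g : ↥G ⧸ H') = w
          rw [hg]; rfl
        rw [this]; exact hw⟩
      rw [hU] at hgU
      have h1 : (QuotientGroup.mk g : ↥G ⧸ H') = 1 := by
        rw [QuotientGroup.eq_one_iff]; exact hgU
      rw [AddSubgroup.mem_bot]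
      have : w = Additive.ofMul (Additive.toMul w) := rfl
      rw [this, ← hg, h1]; rfl
    · right
      rw [eq_top_iff]
      intro w _
      obtain ⟨g, hg⟩ := QuotientGroup.mk_surjective (Additive.toMul w)
      have hgU : (g : X) ∈ U := by rw [hU]; exact g.2
      obtain ⟨hx, hxW⟩ := hgU
      have : Additive.ofMul (QuotientGroup.mk (⟨(g : X), hx⟩ : ↥G) : ↥G ⧸ H') = w := by
        show Additive.ofMul (QuotientGroup.mk g : ↥G ⧸ H') = w
        rw [hg]; rfl
      rw [← this]; exact hxW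
  obtain ⟨a₀, ha₀⟩ := exists_generator_mod_ker ρ hirr
  refine ⟨ρ.ker.map A.subtype, Subgroup.map_subtype_le _, ?_, (a₀ : X), a₀.2, ?_⟩
  · rintro _ ⟨b, hb, rfl⟩ g hg
    have hb' : ρ b = 1 := MonoidHom.mem_ker.1 (SetLike.mem_coe.1 hb)
    have h1 : ρ b (Additive.ofMul (QuotientGroup.mk (⟨g, hg⟩ : ↥G))) =
        Additive.ofMul (QuotientGroup.mk (⟨g, hg⟩ : ↥G)) := by rw [hb']; rfl
    rw [hρ] at h1
    have h2 : (QuotientGroup.mk (conjP G b.1 (hAG b.2) ⟨g, hg⟩) : ↥G ⧸ H') =
        QuotientGroup.mk (⟨g, hg⟩ : ↥G) := h1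
    rw [eq_comm, QuotientGroup.eq] at h2
    exact h2
  · apply le_antisymm
    · apply sup_le (Subgroup.map_subtype_le _)
      rw [Subgroup.zpowers_le]; exact a₀.2
    · intro a ha
      obtain ⟨n, hn⟩ := ha₀ ⟨a, ha⟩
      have hk : (⟨a, ha⟩ : ↥A) * (a₀ ^ n)⁻¹ ∈ ρ.ker := by
        rw [MonoidHom.mem_ker, map_mul, hn, ← map_mul, mul_inv_cancel, map_one]
      have e : a = ((⟨a, ha⟩ : ↥A) * (a₀ ^ n)⁻¹ : ↥A).1 * (a₀ : X) ^ n := by
        simp
      rw [e]
      apply Subgroup.mul_mem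
      · exact Subgroup.mem_sup_left ⟨_, hk, rfl⟩
      · exact Subgroup.mem_sup_right (Subgroup.pow_mem _ (Subgroup.mem_zpowers _) n)

end Cfsg.Agent.helper19
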