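import Mathlib
import Cfsg.Agent.Lib_helper7_Coprime
import Cfsg.Agent.Lib_helper1_PGroup
import Cfsg.Agent.Lib_lead_Coprime2
import Cfsg.Agent.Lib_lead_Coprime3
import Cfsg.Agent.Lib_helper19_Clifford
import Cfsg.Agent.Lib_helper19_HH1
import Cfsg.Agent.Lib_helper19_NPC
import Cfsg.Agent.Lib_helper19_SchurCyc2

set_option autoImplicit false
set_option linter.style.haveILetI false

namespace Cfsg.Agent.helper19

open scoped commutatorElement
open Cfsg.Agent.helper7 Cfsg.Agent.helper1

variable {X : Type*} [Group X]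

/-- The family of subgroups `B ≤ A` with `A/B` cyclic. -/
def cycQuot (A : Subgroup X) : Set (Subgroup X) :=
  {B | B ≤ A ∧ ∃ a ∈ A, B ⊔ Subgroup.zpowers a = A}

/-- The subgroup generated by the fixed points of the members of `cycQuot A`. -/
def genFix (A U : Subgroup X) : Subgroup X :=
  ⨆ B ∈ cycQuot A, U ⊓ Subgroup.centralizer (B : Set X)

theorem genFix_le (A U : Subgroup X) : genFix A U ≤ U :=
  iSup₂_le fun _ _ => inf_le_left

theorem genFix_mono (A : Subgroup X) {U V : Subgroup X} (h : U ≤ V) : genFix A U ≤ genFix A V :=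
  iSup₂_mono fun _ _ => inf_le_inf_right _ h

/-- `A` abelian normalizes the centralizer of each of its subgroups. -/
theorem le_normalizer_centralizer_of_comm (A B : Subgroup X)
    (hAab : ∀ a ∈ A, ∀ b ∈ A, a * b = b * a) (hBA : B ≤ A) :
    A ≤ Subgroup.normalizer ((Subgroup.centralizer (B : Set X) : Subgroup X) : Set X) := by
  apply le_normalizer_of_conj_mem
  intro a ha x hx
  rw [Subgroup.mem_centralizer_iff] at hx ⊢
  intro b hb
  have h1 := hx b hb
  have h2 := hAab a ha b (hBA hb)
  calc b * (a * x * a⁻¹) = a * (b * x) * a⁻¹ := by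
        rw [show b * (a * x * a⁻¹) = (b * a) * x * a⁻¹ by group, ← h2]; group
    _ = a * (x * b) * a⁻¹ := by rw [h1]
    _ = a * x * a⁻¹ * b := by
        rw [show a * (x * b) * a⁻¹ = a * x * (b * a⁻¹) by group]
        have h3 : b * a⁻¹ = a⁻¹ * b := by
          calc b * a⁻¹ = a⁻¹ * (a * b) * a⁻¹ := by group
            _ = a⁻¹ * (b * a) * a⁻¹ := by rw [h2]
            _ = a⁻¹ * b := by group
        rw [h3]; group

theorem le_normalizer_genFix (A U : Subgroup X) (hAab : ∀ a ∈ A, ∀ b ∈ A, a * b = b * a)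
    (hAU : A ≤ Subgroup.normalizer (U : Set X)) :
    A ≤ Subgroup.normalizer ((genFix A U : Subgroup X) : Set X) := by
  unfold genFix
  apply le_normalizer_iSup
  intro B
  apply le_normalizer_iSup
  intro hB
  exact le_normalizer_inf hAU (le_normalizer_centralizer_of_comm A B hAab hB.1)


theorem genFix_eq [Finite X] (A : Subgroup X) (hAab : ∀ a ∈ A, ∀ b ∈ A, a * b = b * a) :
    ∀ (n : ℕ) (G : Subgroup X), Nat.card G = n → A ≤ Subgroup.normalizer (G : Set X) →
      (Nat.card A).Coprime (Nat.card G) → genFix A G = G := by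
  intro n
  induction n using Nat.strong_induction_on with
  | _ n ih =>
  intro G hn hAG hcop
  by_contra hne
  set H := genFix A G with hH
  have hHG : H ≤ G := genFix_le A G
  have hprop : ∀ U : Subgroup X, U ≤ G → U ≠ G → A ≤ Subgroup.normalizer (U : Set X) → U ≤ H := by
    intro U hUG hUne hAU
    have hlt : Nat.card U < n := by
      rw [← hn]
      by_contra hge
      push Not at hge
      exact hUne (Subgroup.eq_of_le_of_card_ge hUG hge)
    have hcopU : (Nat.card A).Coprime (Nat.card U) :=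
      Nat.Coprime.coprime_dvd_right (Subgroup.card_dvd_of_le hUG) hcop
    have := ih _ hlt U rfl hAU hcopU
    rw [← this]
    exact genFix_mono A hUG
  have hAH : A ≤ Subgroup.normalizer (H : Set X) := le_normalizer_genFix A G hAab hAG
  haveI hAsolv : Group.IsSolvable ↥A := Group.isSolvable_of_comm (fun a b => Subtype.ext (hAab a a.2 b b.2))
  have hp : ∃ p : ℕ, p.Prime ∧ IsPGroup p G := by
    by_contra hno
    push Not at hno
    apply hne
    apply Subgroup.eq_of_le_of_card_ge hHG
    apply Nat.le_of_dvd Nat.card_pos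
    rw [← Nat.factorization_prime_le_iff_dvd Nat.card_pos.ne' Nat.card_pos.ne']
    intro p hp
    haveI : Fact p.Prime := ⟨hp⟩
    obtain ⟨P, hPG, hPcard, hAP⟩ :=
      Cfsg.Agent.lead.exists_invariant_sylow A G hAG hcop (Or.inl hAsolv) p
    have hPne : P ≠ G := by
      rintro rfl
      exact hno p hp (IsPGroup.of_card hPcard)
    have hPH := hprop P hPG hPne hAP
    have h2 : Nat.card P ∣ Nat.card H := Subgroup.card_dvd_of_le hPH
    rw [hPcard] at h2
    exact (hp.pow_dvd_iff_le_factorization Nat.card_pos.ne').mp h2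
  obtain ⟨p, hpp, hGp⟩ := hp
  haveI : Fact p.Prime := ⟨hpp⟩
  have hG1 : G ≠ ⊥ := by
    rintro rfl
    apply hne
    exact le_antisymm hHG bot_le
  set Φ : Subgroup X := (frattini ↥G).map G.subtype with hΦ
  have hΦlt : Φ < G := frattini_map_lt G hG1
  have hAΦ : A ≤ Subgroup.normalizer (Φ : Set X) :=
    hAG.trans (le_normalizer_map_characteristic G (frattini ↥G))
  have hΦH : Φ ≤ H := hprop Φ hΦlt.le hΦlt.ne hAΦ
  have hDΦ : ⁅G, G⁆ ≤ Φ := by
    rw [← Subgroup.map_subtype_commutator]
    exact Subgroup.map_mono (commutator_le_frattini_of_isPGroup hGp)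
  have hcommH : ⁅G, G⁆ ≤ H := hDΦ.trans hΦH
  have hHn : G ≤ Subgroup.normalizer (H : Set X) := by
    apply le_normalizer_of_conj_mem
    intro g hg h hh
    have e : g * h * g⁻¹ = ⁅g, h⁆ * h := by rw [commutatorElement_def]; group
    rw [e]
    exact H.mul_mem (hcommH (Subgroup.commutator_mem_commutator hg (hHG hh))) hh
  have hmax : ∀ U : Subgroup X, H ≤ U → U ≤ G → A ≤ Subgroup.normalizer (U : Set X) →
      U = H ∨ U = G := by
    intro U hHU hUG hAU
    by_cases hU : U = G
    · exact Or.inr hU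
    · exact Or.inl (le_antisymm (hprop U hUG hU hAU) hHU)
  obtain ⟨K, hKA, hKtriv, a₀, ha₀, hKa⟩ :=
    cyclic_quotient_action A G H hAab hAG hHG hne hHn hcommH hAH hmax
  have hKG : K ≤ Subgroup.normalizer (G : Set X) := hKA.trans hAG
  have hcopK : (Nat.card K).Coprime (Nat.card G) :=
    Nat.Coprime.coprime_dvd_left (Subgroup.card_dvd_of_le hKA) hcop
  have hKsolv : Group.IsSolvable ↥K :=
    Group.isSolvable_of_comm (fun a b => Subtype.ext (hAab a (hKA a.2) b (hKA b.2)))
  have hdec := Cfsg.Agent.lead.coprime_commutator_sup_fixed K G hKG hcopK (Or.inl hKsolv)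
  have hGKH : ⁅G, K⁆ ≤ H := by
    rw [Subgroup.commutator_le]
    intro g hg b hb
    have := hKtriv b hb g⁻¹ (G.inv_mem hg)
    have e : ⁅g, b⁆ = (g⁻¹)⁻¹ * (b * g⁻¹ * b⁻¹) := by rw [commutatorElement_def]; group
    rw [e]; exact this
  have hCK : G ⊓ Subgroup.centralizer (K : Set X) = G := by
    by_contra hCne
    have h1 := hprop (G ⊓ Subgroup.centralizer (K : Set X)) inf_le_left hCne
      (le_normalizer_inf hAG (le_normalizer_centralizer_of_comm A K hAab hKA))
    apply hne
    apply le_antisymm hHG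
    rw [← hdec]
    exact sup_le hGKH h1
  have hKmem : K ∈ cycQuot A := ⟨hKA, a₀, ha₀, hKa⟩
  apply hne
  apply le_antisymm hHG
  have h2 : G ⊓ Subgroup.centralizer (K : Set X) ≤ genFix A G :=
    le_iSup₂ (f := fun (B : Subgroup X) (_ : B ∈ cycQuot A) =>
      G ⊓ Subgroup.centralizer (B : Set X)) K hKmem
  rw [hCK] at h2
  exact h2


/-- The subgroup generated by the commutators `[C_U(B), A]`. -/
def genComm (A U : Subgroup X) : Subgroup X :=
  ⨆ B ∈ cycQuot A, ⁅U ⊓ Subgroup.centralizer (B : Set X), A⁆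

theorem genComm_eq [Finite X] (A G : Subgroup X) (hAab : ∀ a ∈ A, ∀ b ∈ A, a * b = b * a)
    (hAG : A ≤ Subgroup.normalizer (G : Set X)) (hcop : (Nat.card A).Coprime (Nat.card G)) :
    genComm A G = ⁅G, A⁆ := by
  have hgen : genFix A G = G := genFix_eq A hAab _ G rfl hAG hcop
  set M := genComm A G with hM
  haveI hAsolv : Group.IsSolvable ↥A :=
    Group.isSolvable_of_comm (fun a b => Subtype.ext (hAab a a.2 b b.2))
  have hBM : ∀ B ∈ cycQuot A, ⁅G ⊓ Subgroup.centralizer (B : Set X), A⁆ ≤ M := fun B hB =>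
    le_iSup₂ (f := fun (B : Subgroup X) (_ : B ∈ cycQuot A) =>
      ⁅G ⊓ Subgroup.centralizer (B : Set X), A⁆) B hB
  apply le_antisymm
  · exact iSup₂_le fun B _ => Subgroup.commutator_mono inf_le_left le_rfl
  -- G normalizes M
  have hGM : G ≤ Subgroup.normalizer (M : Set X) := by
    conv_lhs => rw [← hgen]
    unfold genFix
    apply iSup₂_le
    intro B hB
    set GB := G ⊓ Subgroup.centralizer (B : Set X) with hGB
    have hAGB : A ≤ Subgroup.normalizer (GB : Set X) :=
      le_normalizer_inf hAG (le_normalizer_centralizer_of_comm A B hAab hB.1)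
    have hcopB : (Nat.card A).Coprime (Nat.card GB) :=
      Nat.Coprime.coprime_dvd_right (Subgroup.card_dvd_of_le inf_le_left) hcop
    rw [← Cfsg.Agent.lead.coprime_commutator_sup_fixed A GB hAGB hcopB (Or.inl hAsolv)]
    apply sup_le
    · exact (hBM B hB).trans Subgroup.le_normalizer
    · rw [hM]
      unfold genComm
      apply le_normalizer_iSup
      intro B'
      apply le_normalizer_iSup
      intro hB'
      have h1 : GB ⊓ Subgroup.centralizer (A : Set X) ≤
          G ⊓ Subgroup.centralizer (B' : Set X) :=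
        le_inf (inf_le_left.trans inf_le_left)
          (inf_le_right.trans (Subgroup.centralizer_le hB'.1))
      exact h1.trans (Cfsg.Agent.lead.le_normalizer_commutator_left _ A)
  -- the subgroup of elements whose commutators with A lie in M
  let D : Subgroup X :=
    { carrier := {g | g ∈ G ∧ ∀ a ∈ A, ⁅g, a⁆ ∈ M}
      one_mem' := ⟨G.one_mem, fun a _ => by
        have : ⁅(1 : X), a⁆ = 1 := by simp
        rw [this]; exact M.one_mem⟩
      mul_mem' := by
        rintro g h ⟨hg, hg'⟩ ⟨hh, hh'⟩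
        refine ⟨G.mul_mem hg hh, fun a ha => ?_⟩
        have e : ⁅g * h, a⁆ = (g * ⁅h, a⁆ * g⁻¹) * ⁅g, a⁆ := by
          simp only [commutatorElement_def]; group
        rw [e]
        exact M.mul_mem ((Subgroup.mem_normalizer_iff.1 (hGM hg) _).1 (hh' a ha)) (hg' a ha)
      inv_mem' := by
        rintro g ⟨hg, hg'⟩
        refine ⟨G.inv_mem hg, fun a ha => ?_⟩
        have e : ⁅g⁻¹, a⁆ = g⁻¹ * (⁅g, a⁆)⁻¹ * (g⁻¹)⁻¹ := by
          simp only [commutatorElement_def]; group
        rw [e]
        exact (Subgroup.mem_normalizer_iff.1 (hGM (G.inv_mem hg)) _).1 (M.inv_mem (hg' a ha)) }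
  have hGD : G ≤ D := by
    conv_lhs => rw [← hgen]
    unfold genFix
    apply iSup₂_le
    intro B hB g hg
    exact ⟨hg.1, fun a ha => hBM B hB (Subgroup.commutator_mem_commutator hg ha)⟩
  rw [Subgroup.commutator_le]
  intro g hg a ha
  exact (hGD hg).2 a ha

end Cfsg.Agent.helper19
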