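import Mathlib

set_option autoImplicit false

namespace Cfsg.Agent.helper19

theorem ring_sub_one_pow_prime {R : Type*} [Ring R] {p : ℕ} (hp : p.Prime) (a : R)
    (hap : a ^ p = 1) : ∃ s : R, (a + -1) ^ p = (p : R) * s := by
  have hcomm : Commute a (-1) := (Commute.one_right a).neg_right
  obtain ⟨r, hr⟩ := hcomm.exists_add_pow_prime_eq hp
  rcases hp.eq_two_or_odd' with h2 | hodd
  · refine ⟨1 + a * (-1) * r, ?_⟩
    have hsq : (-1 : R) ^ 2 = 1 := neg_one_sq
    rw [hr, hap, h2, hsq, Nat.cast_ofNat, mul_add, mul_one, ← mul_assoc, ← mul_assoc,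
      one_add_one_eq_two]
  · refine ⟨a * (-1) * r, ?_⟩
    have hsq : (-1 : R) ^ p = -1 := hodd.neg_one_pow
    rw [hr, hap, hsq, add_neg_cancel, zero_add, ← mul_assoc, ← mul_assoc]

/-- `(α - 1)^p` maps into `p`-th powers when `α^p = 1` (multiplicative form). -/
theorem iterate_sub_one_prime {V : Type*} [CommGroup V] {p : ℕ} (hp : p.Prime) (α : MulAut V)
    (hα : α ^ p = 1) (v : V) :
    ∃ w : V, (fun u => α u * u⁻¹)^[p] v = w ^ p := by
  let a : AddMonoid.End (Additive V) := MonoidHom.toAdditive α.toMonoidHom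
  have h1 : ∀ (k : ℕ) (u : Additive V), (a ^ k) u = Additive.ofMul ((α ^ k) (Additive.toMul u)) := by
    intro k
    induction k with
    | zero => intro u; rfl
    | succ k ih =>
      intro u
      rw [pow_succ, pow_succ]
      show (a ^ k) (a u) = _
      rw [ih]
      rfl
  have hap : a ^ p = 1 := by
    ext u
    rw [h1, hα]
    rfl
  obtain ⟨s, hs⟩ := ring_sub_one_pow_prime hp a hap
  have h2 : ∀ (k : ℕ) (u : Additive V), ((a + -1) ^ k) u =
      Additive.ofMul ((fun u => α u * u⁻¹)^[k] (Additive.toMul u)) := by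
    intro k
    induction k with
    | zero => intro u; rfl
    | succ k ih =>
      intro u
      rw [pow_succ, Function.iterate_succ_apply]
      show ((a + -1) ^ k) ((a + -1) u) = _
      rw [ih]
      rfl
  refine ⟨Additive.toMul (s (Additive.ofMul v)), ?_⟩
  have h3 := h2 p (Additive.ofMul v)
  rw [hs] at h3
  have h4 : ((p : AddMonoid.End (Additive V)) * s) (Additive.ofMul v) = p • (s (Additive.ofMul v)) := rfl
  rw [h4] at h3
  have h5 := congrArg Additive.toMul h3
  rw [toMul_nsmul] at h5
  exact h5.symm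

theorem card_le_card_map_mul_card_ker {V W : Type*} [Group V] [Group W] [Finite V] (f : V →* W)
    (K : Subgroup V) : Nat.card K ≤ Nat.card (K.map f) * Nat.card f.ker := by
  let g : ↥K →* W := f.comp K.subtype
  have h1 : Nat.card K = Nat.card g.range * Nat.card g.ker := by
    rw [← Subgroup.index_ker, mul_comm, Subgroup.card_mul_index]
  have h2 : g.range = K.map f := by
    ext y
    constructor
    · rintro ⟨⟨x, hx⟩, rfl⟩
      exact ⟨x, hx, rfl⟩
    · rintro ⟨x, hx, rfl⟩
      exact ⟨⟨x, hx⟩, rfl⟩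
  have h3 : Nat.card g.ker ≤ Nat.card f.ker := by
    apply Nat.card_le_card_of_injective (fun x : g.ker => (⟨x.1.1, by
      have := x.2
      rw [MonoidHom.mem_ker] at this ⊢
      exact this⟩ : f.ker))
    intro x y hxy
    have := congrArg Subtype.val hxy
    exact Subtype.ext (Subtype.ext this)
  rw [h1, h2]
  exact Nat.mul_le_mul_left _ h3

theorem gen_card_pgroup {G : Type*} [Group G] [Finite G] {p : ℕ} [Fact p.Prime] (hG : IsPGroup p G)
    (H : Subgroup G) : ∃ S : Finset G, Subgroup.closure (S : Set G) = H ∧ p ^ S.card ≤ Nat.card H := by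
  classical
  have key : ∀ d : ℕ, ∀ (K : Subgroup G) (S : Finset G), K ≤ H → Subgroup.closure (S : Set G) = K →
      p ^ S.card ≤ Nat.card K → Nat.card H - Nat.card K = d →
      ∃ S : Finset G, Subgroup.closure (S : Set G) = H ∧ p ^ S.card ≤ Nat.card H := by
    intro d
    induction d using Nat.strong_induction_on with
    | _ d ih =>
      intro K S hKH hS hcard hd
      by_cases hKeq : K = H
      · exact ⟨S, hS.trans hKeq, hKeq ▸ hcard⟩
      · have hlt : K < H := lt_of_le_of_ne hKH hKeq
        obtain ⟨x, hxH, hxK⟩ := SetLike.exists_of_lt hlt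
        let L := Subgroup.closure ((insert x S : Finset G) : Set G)
        have hKL : K ≤ L := by
          rw [← hS]
          apply Subgroup.closure_mono
          intro y hy
          exact Finset.mem_coe.2 (Finset.mem_insert_of_mem (Finset.mem_coe.1 hy))
        have hxL : x ∈ L := Subgroup.subset_closure (Finset.mem_coe.2 (Finset.mem_insert_self x S))
        have hKL' : K < L := lt_of_le_of_ne hKL (fun h => hxK (h ▸ hxL))
        have hLH : L ≤ H := by
          rw [Subgroup.closure_le]
          intro y hy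
          rcases Finset.mem_insert.1 (Finset.mem_coe.1 hy) with rfl | hy
          · exact hxH
          · exact hKH (hS ▸ Subgroup.subset_closure (Finset.mem_coe.2 hy))
        obtain ⟨a, ha⟩ := (hG.to_subgroup K).exists_card_eq
        obtain ⟨b, hb⟩ := (hG.to_subgroup L).exists_card_eq
        have hcardlt : Nat.card K < Nat.card L := by
          by_contra hge
          push Not at hge
          exact hKL'.ne (Subgroup.eq_of_le_of_card_ge hKL hge)
        have hab : a < b := by
          rw [ha, hb] at hcardlt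
          exact (Nat.pow_lt_pow_iff_right (Fact.out : p.Prime).one_lt).1 hcardlt
        have hcardL : p ^ (insert x S : Finset G).card ≤ Nat.card L := by
          have h1 : (insert x S : Finset G).card ≤ S.card + 1 := Finset.card_insert_le x S
          have h2 : p ^ (S.card + 1) ≤ Nat.card L := by
            rw [pow_succ, hb]
            calc p ^ S.card * p ≤ p ^ a * p := Nat.mul_le_mul_right _ (ha ▸ hcard)
              _ = p ^ (a + 1) := (pow_succ p a).symm
              _ ≤ p ^ b := Nat.pow_le_pow_right (Fact.out : p.Prime).pos hab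
          exact le_trans (Nat.pow_le_pow_right (Fact.out : p.Prime).pos h1) h2
        have hHL : Nat.card L ≤ Nat.card H := Subgroup.card_le_of_le hLH
        exact ih (Nat.card H - Nat.card L) (by omega) L (insert x S) hLH rfl hcardL rfl
  refine key _ ⊥ ∅ bot_le ?_ ?_ rfl
  · simp
  · simp

/-- Nakayama for finite abelian `p`-groups. -/
theorem eq_top_of_forall_mul_pow {V : Type*} [CommGroup V] [Finite V] {p : ℕ} [Fact p.Prime]
    (hV : IsPGroup p V) (K : Subgroup V) (h : ∀ v : V, ∃ k ∈ K, ∃ w : V, v = k * w ^ p) :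
    K = ⊤ := by
  have key : ∀ e : ℕ, ∀ v : V, ∃ k ∈ K, ∃ w : V, v = k * w ^ (p ^ e) := by
    intro e
    induction e with
    | zero => intro v; exact ⟨1, K.one_mem, v, by simp⟩
    | succ e ih =>
      intro v
      obtain ⟨k, hk, w, rfl⟩ := ih v
      obtain ⟨k', hk', u, rfl⟩ := h w
      refine ⟨k * k' ^ (p ^ e), K.mul_mem hk (K.pow_mem hk' _), u, ?_⟩
      rw [mul_pow, ← pow_mul, ← pow_succ', mul_assoc]
  obtain ⟨e, he⟩ := hV.exists_card_eq
  rw [eq_top_iff]
  intro v _
  obtain ⟨k, hk, w, rfl⟩ := key e v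
  rw [← he, pow_card_eq_one', mul_one]
  exact hk

/-- A finite abelian `p`-group with an automorphism of order `p` with `p^n` fixed points is
generated by `p * n` elements. -/
theorem gen_of_aut_order_p {V : Type*} [CommGroup V] [Finite V] {p : ℕ} [Fact p.Prime]
    (hV : IsPGroup p V) (α : MulAut V) (hα : orderOf α = p) (n : ℕ)
    (hfix : Nat.card {v : V // α v = v} = p ^ n) :
    ∃ S : Finset V, S.card ≤ p * n ∧ Subgroup.closure (S : Set V) = ⊤ := by
  classical
  have hp : p.Prime := Fact.out
  have hαp : α ^ p = 1 := hα ▸ pow_orderOf_eq_one α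
  let fM : V →* V :=
    { toFun := fun v => α v * v⁻¹
      map_one' := by simp
      map_mul' := by
        intro x y
        simp only [map_mul, mul_inv]
        exact mul_mul_mul_comm _ _ _ _ }
  have hker : Nat.card fM.ker = p ^ n := by
    rw [← hfix]
    apply Nat.card_congr
    exact Equiv.subtypeEquivRight (fun v => by
      rw [MonoidHom.mem_ker]
      show α v * v⁻¹ = 1 ↔ α v = v
      exact mul_inv_eq_one)
  have hiter : ∀ i : ℕ, Nat.card V ≤ Nat.card ↥((Subgroup.map fM)^[i] ⊤) * (p ^ n) ^ i := by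
    intro i
    induction i with
    | zero => simp
    | succ i ih =>
      rw [Function.iterate_succ_apply', pow_succ]
      refine le_trans ih ?_
      have h0 := card_le_card_map_mul_card_ker fM ((Subgroup.map fM)^[i] ⊤)
      rw [hker] at h0
      calc Nat.card ↥((Subgroup.map fM)^[i] ⊤) * (p ^ n) ^ i
          ≤ (Nat.card ↥(Subgroup.map fM ((Subgroup.map fM)^[i] ⊤)) * p ^ n) * (p ^ n) ^ i :=
            Nat.mul_le_mul_right _ h0
        _ = Nat.card ↥(Subgroup.map fM ((Subgroup.map fM)^[i] ⊤)) * ((p ^ n) ^ i * p ^ n) := by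
            ring
  have hrange : ∀ i : ℕ, ∀ y ∈ (Subgroup.map fM)^[i] ⊤, ∃ v, y = (fun u => α u * u⁻¹)^[i] v := by
    intro i
    induction i with
    | zero => intro y _; exact ⟨y, rfl⟩
    | succ i ih =>
      intro y hy
      rw [Function.iterate_succ_apply'] at hy
      obtain ⟨z, hz, rfl⟩ := hy
      obtain ⟨v, rfl⟩ := ih z hz
      exact ⟨v, by rw [Function.iterate_succ_apply']; rfl⟩
  let Vp : Subgroup V := (powMonoidHom p : V →* V).range
  have hle : (Subgroup.map fM)^[p] ⊤ ≤ Vp := by
    intro y hy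
    obtain ⟨v, rfl⟩ := hrange p y hy
    obtain ⟨w, hw⟩ := iterate_sub_one_prime hp α hαp v
    exact ⟨w, hw.symm⟩
  have hidx : Vp.index ≤ p ^ (p * n) := by
    have h1 := hiter p
    have h2 : Nat.card ↥((Subgroup.map fM)^[p] ⊤) ≤ Nat.card Vp := Subgroup.card_le_of_le hle
    have h3 : Nat.card Vp * Vp.index = Nat.card V := Vp.card_mul_index
    have h4 : Nat.card Vp * Vp.index ≤ Nat.card Vp * (p ^ n) ^ p := by
      rw [h3]
      exact le_trans h1 (Nat.mul_le_mul_right _ h2)
    have h5 : 0 < Nat.card Vp := Nat.card_pos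
    have h6 := Nat.le_of_mul_le_mul_left h4 h5
    rw [← pow_mul, mul_comm n p] at h6
    exact h6
  obtain ⟨T, hT, hcardT⟩ := gen_card_pgroup (G := V ⧸ Vp) (hV.to_quotient Vp) ⊤
  have hTn : T.card ≤ p * n := by
    have h1 : Nat.card (⊤ : Subgroup (V ⧸ Vp)) = Vp.index := by
      rw [Subgroup.card_top]; rfl
    rw [h1] at hcardT
    exact (Nat.pow_le_pow_iff_right hp.one_lt).1 (le_trans hcardT hidx)
  refine ⟨T.image Quotient.out, le_trans Finset.card_image_le hTn, ?_⟩
  apply eq_top_of_forall_mul_pow hV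
  intro v
  have hmap : (Subgroup.closure ((T.image Quotient.out : Finset V) : Set V)).map
      (QuotientGroup.mk' Vp) = ⊤ := by
    rw [MonoidHom.map_closure, ← hT]
    congr 1
    ext y
    constructor
    · rintro ⟨x, hx, rfl⟩
      obtain ⟨t, ht, rfl⟩ := Finset.mem_image.1 (Finset.mem_coe.1 hx)
      have : (QuotientGroup.mk' Vp) (Quotient.out t) = t := QuotientGroup.out_eq' t
      rw [this]; exact Finset.mem_coe.2 ht
    · intro hy
      refine ⟨Quotient.out y, Finset.mem_coe.2 (Finset.mem_image_of_mem _ (Finset.mem_coe.1 hy)), ?_⟩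
      exact QuotientGroup.out_eq' y
  have hv : (QuotientGroup.mk' Vp) v ∈ (Subgroup.closure ((T.image Quotient.out : Finset V) :
      Set V)).map (QuotientGroup.mk' Vp) := by rw [hmap]; exact Subgroup.mem_top _
  obtain ⟨k, hk, hkv⟩ := hv
  have h1 : k⁻¹ * v ∈ Vp := by
    rw [← QuotientGroup.eq]
    exact hkv
  obtain ⟨w, hw⟩ := h1
  refine ⟨k, hk, w, ?_⟩
  have : w ^ p = k⁻¹ * v := hw
  rw [this, mul_inv_cancel_left]

end Cfsg.Agent.helper19
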