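import Mathlib
import Cfsg.Agent.Lib_helper10_CSa

set_option autoImplicit false

namespace Cfsg.Agent.helper19.CGa

open Subgroup
open Cfsg.Agent.helper18.CG
open Cfsg.Agent.helper10.CS

variable {G : Type*} [Group G]

/-- number theory: split `n` into a part dividing a power of `k` and a part coprime to `k`. -/
theorem nat_split (k : ℕ) : ∀ n : ℕ, 0 < n →
    ∃ n₁ n₂ e : ℕ, n = n₁ * n₂ ∧ n₂.Coprime k ∧ n₁ ∣ k ^ e := by
  intro n
  induction' n using Nat.strong_induction_on with n ih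
  intro hn
  by_cases hc : n.Coprime k
  · exact ⟨1, n, 0, by simp, hc, by simp⟩
  · obtain ⟨r, hr, hrn, hrk⟩ := Nat.Prime.not_coprime_iff_dvd.mp hc
    obtain ⟨n', rfl⟩ := hrn
    have hn' : 0 < n' := Nat.pos_of_mul_pos_left hn
    have hlt : n' < r * n' := by
      have := hr.one_lt
      nlinarith
    obtain ⟨n₁, n₂, e, he, hcop, hd⟩ := ih n' hlt hn'
    refine ⟨r * n₁, n₂, e + 1, ?_, hcop, ?_⟩
    · rw [he]; ring
    · rw [pow_succ']
      exact Nat.mul_dvd_mul hrk hd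

/-- Step 3a: if all commutators `y⁻¹ y^g` lie in a normal subgroup `K` of order coprime to the class
size of `y`, then `K` centralises `y`, any two conjugates of `y` commute, and `y ^ |K|` is central. -/
theorem step3a [Finite G] (y : G) (K : Subgroup G) [K.Normal]
    (hK : ∀ g : G, y⁻¹ * (g * y * g⁻¹) ∈ K) (hcop : (Nat.card K).Coprime (idx y)) :
    (∀ k ∈ K, k * y = y * k) ∧
    (∀ g h : G, (g * y * g⁻¹) * (h * y * h⁻¹) = (h * y * h⁻¹) * (g * y * g⁻¹)) ∧
    y ^ (Nat.card K) ∈ Subgroup.center G := by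
  have h1 : ∀ k ∈ K, k * y = y * k := by
    intro k hk
    exact mem_Cn.mp (normal_le_Cn K y hcop hk)
  -- K centralises every conjugate of y
  have h1' : ∀ k ∈ K, ∀ g : G, k * (g * y * g⁻¹) = (g * y * g⁻¹) * k := by
    intro k hk g
    have hk' : g⁻¹ * k * g ∈ K := by
      have := (inferInstance : K.Normal).conj_mem k hk g⁻¹
      simpa using this
    have h2 := h1 _ hk'
    calc k * (g * y * g⁻¹) = g * ((g⁻¹ * k * g) * y) * g⁻¹ := by group
      _ = g * (y * (g⁻¹ * k * g)) * g⁻¹ := by rw [h2]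
      _ = (g * y * g⁻¹) * k := by group
  refine ⟨h1, ?_, ?_⟩
  · intro g h
    -- κ_h := y⁻¹ (h y h⁻¹) commutes with g y g⁻¹ and with y
    have hκ := hK h
    have e1 := h1' _ hκ g
    have e2 := h1 _ hκ
    -- h y h⁻¹ = y * κ_h
    have e3 : h * y * h⁻¹ = y * (y⁻¹ * (h * y * h⁻¹)) := by group
    -- g y g⁻¹ commutes with y : since κ_g ∈ K commutes with y
    have hκg := hK g
    have e4 := h1 _ hκg
    have e5 : (g * y * g⁻¹) * y = y * (g * y * g⁻¹) := by
      calc (g * y * g⁻¹) * y = y * ((y⁻¹ * (g * y * g⁻¹)) * y) := by group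
        _ = y * (y * (y⁻¹ * (g * y * g⁻¹))) := by rw [e4]
        _ = y * (g * y * g⁻¹) := by group
    rw [e3]
    calc (g * y * g⁻¹) * (y * (y⁻¹ * (h * y * h⁻¹)))
        = ((g * y * g⁻¹) * y) * (y⁻¹ * (h * y * h⁻¹)) := by group
      _ = (y * (g * y * g⁻¹)) * (y⁻¹ * (h * y * h⁻¹)) := by rw [e5]
      _ = y * ((g * y * g⁻¹) * (y⁻¹ * (h * y * h⁻¹))) := by group
      _ = y * ((y⁻¹ * (h * y * h⁻¹)) * (g * y * g⁻¹)) := by rw [e1]
      _ = y * (y⁻¹ * (h * y * h⁻¹)) * (g * y * g⁻¹) := by group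
  · rw [Subgroup.mem_center_iff]
    intro g
    -- g y^k g⁻¹ = (g y g⁻¹)^k = (y κ)^k = y^k κ^k = y^k
    have hκ := hK g
    have e2 := h1 _ hκ
    have hc : Commute y (y⁻¹ * (g * y * g⁻¹)) := e2.symm
    have e3 : g * y * g⁻¹ = y * (y⁻¹ * (g * y * g⁻¹)) := by group
    have e4 : (y⁻¹ * (g * y * g⁻¹)) ^ (Nat.card K) = 1 := by
      have h5 : ((⟨_, hκ⟩ : ↥K) ^ Nat.card K) = 1 := pow_card_eq_one'
      have h6 := congrArg (fun w : ↥K => (w : G)) h5
      simp only [Subgroup.coe_pow, Subgroup.coe_one] at h6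
      exact h6
    have e5 : g * y ^ (Nat.card K) * g⁻¹ = y ^ (Nat.card K) := by
      rw [← conj_pow, e3, hc.mul_pow, e4, mul_one]
    calc g * y ^ (Nat.card K) = (g * y ^ (Nat.card K) * g⁻¹) * g := by group
      _ = y ^ (Nat.card K) * g := by rw [e5]

/-- Step 3b: if `y ^ k` is central (`k > 0`), then `y = z * a` with `z` central, `a` a power of `y`
all of whose prime divisors of the order divide `k`. -/
theorem step3b [Finite G] (y : G) (k : ℕ) (hyk : y ^ k ∈ Subgroup.center G) :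
    ∃ z a : G, z ∈ Subgroup.center G ∧ y = z * a ∧ a ∈ zpowers y ∧ z ∈ zpowers y ∧
      ∀ r : ℕ, r.Prime → r ∣ orderOf a → r ∣ k := by
  obtain ⟨n₁, n₂, e, hn, hcop, hd⟩ := nat_split k (orderOf y) (orderOf_pos y)
  -- n₁ ∣ k^e, n₂ coprime to k, so coprime to n₁
  have hc12 : n₂.Coprime n₁ := Nat.Coprime.coprime_dvd_right hd (hcop.pow_right e)
  have hb := Nat.gcd_eq_gcd_ab n₂ n₁
  rw [hc12.gcd_eq_one] at hb
  -- a := (y^n₂)^A, z := (y^n₁)^B
  refine ⟨(y ^ n₁) ^ (Nat.gcdB n₂ n₁), (y ^ n₂) ^ (Nat.gcdA n₂ n₁), ?_, ?_, ?_, ?_, ?_⟩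
  · -- y^n₁ central: y^(k^e) central and n₁ ∣ k^e ... careful: need y^n₁ ∈ center.
    -- y^n₁ is a power of y^(gcd(orderOf y, k^e)), which is a power of y^(k^e)
    apply Subgroup.zpow_mem
    -- y ^ (k^e) ∈ center
    have h1 : y ^ (k ^ e) ∈ Subgroup.center G := by
      rcases Nat.eq_zero_or_pos e with he | he
      · -- e = 0: n₁ ∣ 1 so n₁ = 1, handled separately below; here produce via n₁ = 1
        subst he
        simp only [pow_zero, Nat.dvd_one] at hd
        subst hd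
        -- orderOf y = n₂ coprime to k: y is a power of y^k
        rw [one_mul] at hn
        rw [pow_zero, pow_one]
        have hcop' : (orderOf y).Coprime k := hn ▸ hcop
        obtain ⟨m, hm⟩ := exists_pow_eq_self_of_coprime (x := y) (n := k) hcop'.symm
        rw [← hm]
        exact Subgroup.pow_mem _ hyk m
      · obtain ⟨e', rfl⟩ := Nat.exists_eq_succ_of_ne_zero he.ne'
        rw [pow_succ', pow_mul]
        exact Subgroup.pow_mem _ hyk _
    -- y^n₁ : since n₁ ∣ k^e?? we need the other direction; use gcd trick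
    -- y ^ gcd(orderOf y, k^e) is a power of y^(k^e); and gcd(orderOf y, k^e) ∣ ... we show n₁ = gcd-multiple
    have h2 : y ^ (Nat.gcd (orderOf y) (k ^ e)) ∈ Subgroup.center G := by
      have hb2 := Nat.gcd_eq_gcd_ab (orderOf y) (k ^ e)
      have : y ^ (Nat.gcd (orderOf y) (k ^ e)) = (y ^ (k ^ e)) ^ (Nat.gcdB (orderOf y) (k ^ e)) := by
        rw [← zpow_natCast y (Nat.gcd (orderOf y) (k ^ e)), hb2, zpow_add, zpow_mul, zpow_natCast,
          pow_orderOf_eq_one, one_zpow, one_mul, zpow_mul, zpow_natCast]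
      rw [this]
      exact Subgroup.zpow_mem _ h1 _
    -- n₁ ∣ gcd? No: gcd(orderOf y, k^e) = gcd(n₁ n₂, k^e) = n₁ (as n₁ ∣ k^e, n₂ coprime to k^e)
    have h3 : Nat.gcd (orderOf y) (k ^ e) = n₁ := by
      rw [hn]
      have hc2 : n₂.Coprime (k ^ e) := hcop.pow_right e
      rw [Nat.Coprime.gcd_mul_right_cancel n₁ hc2]
      exact Nat.gcd_eq_left hd
    rw [h3] at h2
    exact h2
  · -- y = z * a
    have : y = y ^ ((n₂ : ℤ) * Nat.gcdA n₂ n₁ + (n₁ : ℤ) * Nat.gcdB n₂ n₁) := by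
      rw [← hb]; simp
    conv_lhs => rw [this]
    rw [zpow_add, zpow_mul, zpow_mul, zpow_natCast, zpow_natCast]
    exact (Commute.zpow_zpow (Commute.pow_pow (Commute.refl y) _ _) _ _).eq
  · exact zpow_mem (pow_mem_zpowers' _ _) _
  · exact zpow_mem (pow_mem_zpowers' _ _) _
  · intro r hr hra
    -- orderOf a ∣ n₁ ∣ k^e
    have h1 : (y ^ n₂) ^ n₁ = 1 := by
      rw [← pow_mul, mul_comm, ← hn, pow_orderOf_eq_one]
    have h2 : ((y ^ n₂) ^ (Nat.gcdA n₂ n₁)) ^ n₁ = 1 := by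
      rw [← zpow_natCast, ← zpow_mul, mul_comm, zpow_mul, zpow_natCast, h1, one_zpow]
    have h3 : r ∣ k ^ e := (hra.trans (orderOf_dvd_of_pow_eq_one h2)).trans hd
    exact hr.dvd_of_dvd_pow h3

end Cfsg.Agent.helper19.CGa
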