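import Mathlib

/-! Abstract module lemmas (multiplicative notation) for the theorem on cyclic normal subgroups of
Sylow subgroups of `p`-soluble groups (helper19). -/

set_option autoImplicit false
set_option linter.style.haveILetI false

namespace Cfsg.Agent.helper19.CN

section act
variable {V : Type*} [CommGroup V] {H : Type*} [Group H] [MulDistribMulAction H V]

theorem pow_smul_stab (y : H) (v u : V) (hv : y • v = v * u) (hu : y • u = u) :
    ∀ k : ℕ, y ^ k • v = v * u ^ k := by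
  intro k
  induction k with
  | zero => simp
  | succ k ih =>
    rw [pow_succ', mul_smul, ih, smul_mul', hv, smul_pow', hu, pow_succ']
    exact mul_assoc _ _ _

theorem eq_one_of_stab {p n : ℕ} (hn : n.Coprime p) (hVp : ∀ v : V, v ^ p = 1) (y : H)
    (hy : y ^ n = 1) (v u : V) (hv : y • v = v * u) (hu : y • u = u) : u = 1 := by
  have h1 := pow_smul_stab y v u hv hu n
  rw [hy, one_smul] at h1
  have hun : u ^ n = 1 := by
    have : v * u ^ n = v * 1 := by rw [mul_one]; exact h1.symm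
    exact mul_left_cancel this
  have h2 := pow_gcd_eq_one.2 ⟨hun, hVp u⟩
  rwa [Nat.Coprime.gcd_eq_one hn, pow_one] at h2

theorem prod_range_smul_eq_one {p : ℕ} (hp : p.Prime) (hp2 : p ≠ 2) (hVp : ∀ v : V, v ^ p = 1)
    (α : H) (v u : V) (hv : α • v = v * u) (hu : α • u = u) :
    ∏ i ∈ Finset.range p, (α ^ i • v) = 1 := by
  have h1 : ∀ i, α ^ i • v = v * u ^ i := pow_smul_stab α v u hv hu
  simp_rw [h1]
  rw [Finset.prod_mul_distrib, Finset.prod_const, Finset.card_range, hVp, one_mul,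
    Finset.prod_pow_eq_pow_sum]
  have h2 : (u ^ (∑ i ∈ Finset.range p, i)) ^ 2 = 1 := by
    rw [← pow_mul, Finset.sum_range_id_mul_two, pow_mul, hVp, one_pow]
  have h3 : (u ^ (∑ i ∈ Finset.range p, i)) ^ p = 1 := hVp _
  have h4 := pow_gcd_eq_one.2 ⟨h2, h3⟩
  have hg : Nat.gcd 2 p = 1 := (Nat.coprime_primes Nat.prime_two hp).2 (Ne.symm hp2)
  rwa [hg, pow_one] at h4

theorem conj_pow_mem (S : Subgroup H) (α : H) (hαS : ∀ s ∈ S, α * s * α⁻¹ ∈ S) :
    ∀ k : ℕ, ∀ s ∈ S, α ^ k * s * (α ^ k)⁻¹ ∈ S := by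
  intro k
  induction k with
  | zero => intro s hs; simpa using hs
  | succ k ih =>
    intro s hs
    have h1 := hαS _ (ih s hs)
    have e : α ^ (k + 1) * s * (α ^ (k + 1))⁻¹ = α * (α ^ k * s * (α ^ k)⁻¹) * α⁻¹ := by
      rw [pow_succ']; group
    rw [e]; exact h1

/-- Frobenius-type averaging: a `p'`-group `S` on which `α` (of order `p`) acts without fixed
points, with `1 + α + ⋯ + α^{p-1} = 0` on `V`, acts trivially on `V`. -/
theorem frob_trivial {p : ℕ} (hp : p.Prime) (hVp : ∀ v : V, v ^ p = 1) (S : Subgroup H)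
    [Finite S] (hSp : (Nat.card S).Coprime p) (α : H) (hαp : α ^ p = 1)
    (hαS : ∀ s ∈ S, α * s * α⁻¹ ∈ S) (hfix : ∀ s ∈ S, s * α = α * s → s = 1)
    (hsum : ∀ v : V, ∏ i ∈ Finset.range p, (α ^ i • v) = 1) :
    ∀ s ∈ S, ∀ v : V, s • v = v := by
  classical
  letI := Fintype.ofFinite S
  -- the trace map
  let T : V →* V := ∏ s : S, MulDistribMulAction.toMonoidHom V (s : H)
  have hT : ∀ v : V, T v = ∏ s : S, (s : H) • v := by
    intro v
    simp only [T, MonoidHom.finsetProd_apply]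
    rfl
  have hTfix : ∀ t ∈ S, ∀ v : V, t • T v = T v := by
    intro t ht v
    rw [hT, Finset.smul_prod']
    refine Fintype.prod_equiv (Equiv.mulLeft (⟨t, ht⟩ : S)) _ _ ?_
    intro s
    simp [mul_smul]
  have hconj := conj_pow_mem S α hαS
  -- the Lang map
  have hkey : ∀ i : ℕ, i + 1 < p → ∀ v : V,
      ∏ s : S, ((s : H) * α ^ (i + 1) * (s : H)⁻¹) • v = T (α ^ (i + 1) • v) := by
    intro i hi v
    obtain ⟨g, hg⟩ : ∃ g : H, g = α ^ (i + 1) := ⟨_, rfl⟩
    rw [← hg]
    have hgS : ∀ s ∈ S, g * s * g⁻¹ ∈ S := by rw [hg]; exact hconj (i + 1)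
    have hgfix : ∀ s ∈ S, s * g = g * s → s = 1 := by
      intro s hs hsg
      apply hfix s hs
      have hcop : (i + 1).Coprime (orderOf α) := by
        have hdvd : orderOf α ∣ p := orderOf_dvd_of_pow_eq_one hαp
        have h1 : (i + 1).Coprime p := by
          rw [Nat.coprime_comm, hp.coprime_iff_not_dvd]
          intro hd
          have := Nat.le_of_dvd (Nat.succ_pos i) hd
          omega
        exact Nat.Coprime.coprime_dvd_right hdvd h1
      obtain ⟨m, hm⟩ := exists_pow_eq_self_of_coprime hcop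
      have hc : Commute s g := hsg
      have hc2 : Commute s ((α ^ (i + 1)) ^ m) := by rw [← hg]; exact hc.pow_right m
      rw [hm] at hc2
      exact hc2
    let lam : S → S := fun s => ⟨(s : H) * (g * (s : H)⁻¹ * g⁻¹),
      S.mul_mem s.2 (hgS _ (S.inv_mem s.2))⟩
    have hinj : Function.Injective lam := by
      intro s t hst
      have h1 : (s : H) * (g * (s : H)⁻¹ * g⁻¹) = (t : H) * (g * (t : H)⁻¹ * g⁻¹) :=
        congrArg Subtype.val hst
      have h2 : ((t : H)⁻¹ * (s : H)) * g = g * ((t : H)⁻¹ * (s : H)) := by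
        have e1 : (t : H)⁻¹ * (s : H) = g * (t : H)⁻¹ * g⁻¹ * (g * (s : H)⁻¹ * g⁻¹)⁻¹ := by
          have : (t : H)⁻¹ * ((s : H) * (g * (s : H)⁻¹ * g⁻¹)) * (g * (s : H)⁻¹ * g⁻¹)⁻¹ =
              (t : H)⁻¹ * ((t : H) * (g * (t : H)⁻¹ * g⁻¹)) * (g * (s : H)⁻¹ * g⁻¹)⁻¹ := by
            rw [h1]
          rw [show (t : H)⁻¹ * ((s : H) * (g * (s : H)⁻¹ * g⁻¹)) * (g * (s : H)⁻¹ * g⁻¹)⁻¹ =
            (t : H)⁻¹ * (s : H) by group] at this
          rw [this]; group
        have e2 : g * (t : H)⁻¹ * g⁻¹ * (g * (s : H)⁻¹ * g⁻¹)⁻¹ =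
            g * ((t : H)⁻¹ * (s : H)) * g⁻¹ := by group
        rw [e2] at e1
        calc ((t : H)⁻¹ * (s : H)) * g = (g * ((t : H)⁻¹ * (s : H)) * g⁻¹) * g := by rw [← e1]
          _ = g * ((t : H)⁻¹ * (s : H)) := by group
      have h3 := hgfix _ (S.mul_mem (S.inv_mem t.2) s.2) h2
      apply Subtype.ext
      have : (s : H) = (t : H) * ((t : H)⁻¹ * (s : H)) := by group
      rw [this, h3, mul_one]
    have hbij : Function.Bijective lam := Finite.injective_iff_bijective.1 hinj
    rw [hT]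
    rw [← hbij.prod_comp (fun r : S => (r : H) • (g • v))]
    apply Finset.prod_congr rfl
    intro s _
    show ((s : H) * g * (s : H)⁻¹) • v = ((s : H) * (g * (s : H)⁻¹ * g⁻¹)) • (g • v)
    rw [← mul_smul]
    congr 1
    group
  -- the main computation
  have hTv : ∀ v : V, T v = v ^ Nat.card S := by
    intro v
    have hA : ∏ s : S, ∏ i ∈ Finset.range p, ((s : H) * α ^ i * (s : H)⁻¹) • v = 1 := by
      apply Finset.prod_eq_one
      intro s _
      have h1 : ∀ i, ((s : H) * α ^ i * (s : H)⁻¹) • v = (s : H) • (α ^ i • ((s : H)⁻¹ • v)) := by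
        intro i; rw [mul_smul, mul_smul]
      simp_rw [h1]
      rw [← Finset.smul_prod', hsum, smul_one]
    rw [Finset.prod_comm] at hA
    obtain ⟨p', hp'⟩ : ∃ p', p = p' + 1 := ⟨p - 1, by have := hp.pos; omega⟩
    rw [hp', Finset.prod_range_succ'] at hA
    have h0 : ∏ s : S, ((s : H) * α ^ 0 * (s : H)⁻¹) • v = v ^ Nat.card S := by
      have : ∀ s : S, ((s : H) * α ^ 0 * (s : H)⁻¹) • v = v := by
        intro s; simp
      simp_rw [this]
      rw [Finset.prod_const, Finset.card_univ, Nat.card_eq_fintype_card]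
    rw [h0] at hA
    have h1 : ∏ i ∈ Finset.range p', ∏ s : S, ((s : H) * α ^ (i + 1) * (s : H)⁻¹) • v =
        T (∏ i ∈ Finset.range p', α ^ (i + 1) • v) := by
      rw [map_prod]
      apply Finset.prod_congr rfl
      intro i hi
      apply hkey i _ v
      rw [Finset.mem_range] at hi
      omega
    rw [h1] at hA
    have h2 : ∏ i ∈ Finset.range p', α ^ (i + 1) • v = v⁻¹ := by
      have h3 := hsum v
      rw [hp', Finset.prod_range_succ', pow_zero, one_smul] at h3
      exact mul_eq_one_iff_eq_inv.1 h3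
    rw [h2, map_inv] at hA
    have := mul_eq_one_iff_eq_inv.1 hA
    rw [inv_inj] at this
    exact this
  intro t ht v
  have h1 := hTfix t ht v
  rw [hTv, smul_pow'] at h1
  have h2 : ((t • v) / v) ^ Nat.card S = 1 := by rw [div_pow, h1, div_self']
  have h3 := pow_gcd_eq_one.2 ⟨h2, hVp ((t • v) / v)⟩
  rw [Nat.Coprime.gcd_eq_one hSp, pow_one] at h3
  exact div_eq_one.1 h3

theorem smul_mem_of_stab (W : Subgroup V) (d : H) (hd : ∀ v : V, (d • v) / v ∈ W) :
    ∀ u ∈ W, d • u ∈ W := by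
  intro u hu
  have : d • u = (d • u) / u * u := by simp
  rw [this]
  exact W.mul_mem (hd u) hu

theorem closure_stab (W : Subgroup V) (T : Set H) (hT : ∀ t ∈ T, ∀ v : V, (t • v) / v ∈ W) :
    ∀ d ∈ Subgroup.closure T, ∀ v : V, (d • v) / v ∈ W := by
  intro d hd
  induction hd using Subgroup.closure_induction with
  | mem t ht => exact hT t ht
  | one => intro v; simp
  | mul d₁ d₂ _ _ h1 h2 =>
    intro v
    have e : ((d₁ * d₂) • v) / v = d₁ • ((d₂ • v) / v) * ((d₁ • v) / v) := by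
      rw [mul_smul, smul_div']; simp
    rw [e]
    exact W.mul_mem (smul_mem_of_stab W d₁ h1 _ (h2 v)) (h1 v)
  | inv d _ h1 =>
    intro v
    have e : (d⁻¹ • v) / v = ((d • (d⁻¹ • v)) / (d⁻¹ • v))⁻¹ := by
      rw [smul_inv_smul, inv_div]
    rw [e]
    exact W.inv_mem (h1 _)

theorem fix_closure_pair (d : H) (w w' : V) (h1 : d • w = w) (h2 : d • w' = w') :
    ∀ u ∈ Subgroup.closure ({w, w'} : Set V), d • u = u := by
  intro u hu
  induction hu using Subgroup.closure_induction with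
  | mem t ht =>
    rcases ht with rfl | ht
    · exact h1
    · rw [Set.mem_singleton_iff] at ht; rw [ht]; exact h2
  | one => exact smul_one d
  | mul a b _ _ ha hb => rw [smul_mul', ha, hb]
  | inv a _ ha => rw [smul_inv', ha]


/-- If `α` fixes `W = ⟨w, w'⟩` pointwise, every element of `⟨α, β⟩` has order dividing `p²`
on `V` (here `β` has order dividing `p`, and both act trivially on `V / W`). -/
theorem exp_of_fix {p : ℕ} (hVp : ∀ v : V, v ^ p = 1) (α β : H) (W : Subgroup V)
    (hβp : β ^ p = 1)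
    (hD : ∀ d ∈ Subgroup.closure ({α, β} : Set H), ∀ v : V, (d • v) / v ∈ W)
    (hαfix : ∀ u ∈ W, α • u = u) :
    ∀ d ∈ Subgroup.closure ({α, β} : Set H), ∀ v : V, d ^ (p * p) • v = v := by
  have hβD : β ∈ Subgroup.closure ({α, β} : Set H) :=
    Subgroup.subset_closure (by simp)
  have hβW : ∀ k : ℤ, ∀ u ∈ W, β ^ k • u ∈ W := by
    intro k u hu
    exact smul_mem_of_stab W _ (hD _ (Subgroup.zpow_mem _ hβD k)) u hu
  have hP : ∀ d ∈ Subgroup.closure ({α, β} : Set H), ∃ k : ℤ, ∀ u ∈ W, d • u = β ^ k • u := by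
    intro d hd
    induction hd using Subgroup.closure_induction with
    | mem t ht =>
      rcases ht with rfl | ht
      · exact ⟨0, fun u hu => by rw [zpow_zero, one_smul]; exact hαfix u hu⟩
      · rw [Set.mem_singleton_iff] at ht
        exact ⟨1, fun u _ => by rw [ht, zpow_one]⟩
    | one => exact ⟨0, fun u _ => by rw [zpow_zero]⟩
    | mul d₁ d₂ _ _ h1 h2 =>
      obtain ⟨k₁, hk₁⟩ := h1
      obtain ⟨k₂, hk₂⟩ := h2
      refine ⟨k₁ + k₂, fun u hu => ?_⟩
      rw [mul_smul, hk₂ u hu, hk₁ _ (hβW k₂ u hu), zpow_add, mul_smul]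
    | inv d _ h1 =>
      obtain ⟨k, hk⟩ := h1
      refine ⟨-k, fun u hu => ?_⟩
      rw [inv_smul_eq_iff, hk _ (hβW (-k) u hu), ← mul_smul, ← zpow_add, add_neg_cancel, zpow_zero,
        one_smul]
  intro d hd v
  obtain ⟨k, hk⟩ := hP d hd
  have hpow : ∀ m : ℕ, ∀ u ∈ W, d ^ m • u = β ^ (k * (m : ℤ)) • u := by
    intro m
    induction m with
    | zero => intro u _; simp
    | succ m ih =>
      intro u hu
      rw [pow_succ', mul_smul, ih u hu, hk _ (hβW _ u hu), ← mul_smul, ← zpow_add]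
      congr 2
      push_cast
      ring
  have hdp : ∀ u ∈ W, d ^ p • u = u := by
    intro u hu
    rw [hpow p u hu, zpow_mul', zpow_natCast, hβp, one_zpow, one_smul]
  have hdD : d ^ p ∈ Subgroup.closure ({α, β} : Set H) := Subgroup.pow_mem _ hd p
  have hu' := hD _ hdD v
  have h1 : d ^ p • v = v * ((d ^ p • v) / v) := by simp
  have h2 := pow_smul_stab (d ^ p) v _ h1 (hdp _ hu') p
  rw [hVp, mul_one, ← pow_mul] at h2
  exact h2

/-- The odd case: the conjugate `x α x⁻¹` equals `α`. -/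
theorem core_odd {p : ℕ} (hp : p.Prime) (hp2 : p ≠ 2) [Finite H] [FaithfulSMul H V]
    (hVp : ∀ v : V, v ^ p = 1) (α x : H) (w : V)
    (hq : ∀ v : V, ∃ m : ℕ, α • v = v * w ^ m) (hαw : α • w = w) (hαp : α ^ p = 1)
    (R : Subgroup H) (n : ℕ) (hn : n.Coprime p) (hRn : ∀ r ∈ R, r ^ n = 1) (hx : x ∈ R)
    (hαR : ∀ r ∈ R, α * r * α⁻¹ ∈ R)
    (hψ : ∀ y ∈ R, y * α = α * y → y • w = w) : x * α * x⁻¹ = α := by
  obtain ⟨β, hβ⟩ : ∃ β : H, β = x * α * x⁻¹ := ⟨_, rfl⟩
  obtain ⟨w', hw'⟩ : ∃ w' : V, w' = x • w := ⟨_, rfl⟩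
  rw [← hβ]
  have hβq : ∀ v : V, ∃ m : ℕ, β • v = v * w' ^ m := by
    intro v
    obtain ⟨m, hm⟩ := hq (x⁻¹ • v)
    refine ⟨m, ?_⟩
    rw [hβ, mul_smul, mul_smul, hm, smul_mul', smul_inv_smul, smul_pow', hw']
  have hβw' : β • w' = w' := by
    rw [hβ, hw', mul_smul, mul_smul, inv_smul_smul, hαw]
  have hβp : β ^ p = 1 := by
    rw [hβ, conj_pow, hαp]; group
  obtain ⟨W, hW⟩ : ∃ W : Subgroup V, W = Subgroup.closure ({w, w'} : Set V) := ⟨_, rfl⟩
  have hwW : w ∈ W := by rw [hW]; exact Subgroup.subset_closure (by simp)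
  have hw'W : w' ∈ W := by rw [hW]; exact Subgroup.subset_closure (by simp)
  have hαW : ∀ v : V, (α • v) / v ∈ W := by
    intro v
    obtain ⟨m, hm⟩ := hq v
    rw [hm, mul_div_cancel_left]
    exact W.pow_mem hwW m
  have hβW : ∀ v : V, (β • v) / v ∈ W := by
    intro v
    obtain ⟨m, hm⟩ := hβq v
    rw [hm, mul_div_cancel_left]
    exact W.pow_mem hw'W m
  have hD : ∀ d ∈ Subgroup.closure ({α, β} : Set H), ∀ v : V, (d • v) / v ∈ W := by
    apply closure_stab
    intro t ht
    rcases ht with rfl | ht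
    · exact hαW
    · rw [Set.mem_singleton_iff] at ht; rw [ht]; exact hβW
  have hαD : α ∈ Subgroup.closure ({α, β} : Set H) := Subgroup.subset_closure (by simp)
  have hβD : β ∈ Subgroup.closure ({α, β} : Set H) := Subgroup.subset_closure (by simp)
  obtain ⟨S, hS⟩ : ∃ S : Subgroup H, S = Subgroup.closure ({α, β} : Set H) ⊓ R := ⟨_, rfl⟩
  have hSD : ∀ s ∈ S, s ∈ Subgroup.closure ({α, β} : Set H) := by
    intro s hs; rw [hS] at hs; exact hs.1
  have hSR : ∀ s ∈ S, s ∈ R := by
    intro s hs; rw [hS] at hs; exact hs.2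
  -- fixed points of `α` on `S`
  have hSfix : ∀ s ∈ S, s * α = α * s → s = 1 := by
    intro y hyS hyα
    have hyD := hSD y hyS
    have hyR := hSR y hyS
    have hyn : y ^ n = 1 := hRn y hyR
    have hyw : y • w = w := hψ y hyR hyα
    obtain ⟨m, hm⟩ := hq w'
    obtain ⟨u, hu⟩ : ∃ u : V, u = (y • w') / w' := ⟨_, rfl⟩
    have huW : u ∈ W := by rw [hu]; exact hD y hyD w'
    have hyw' : y • w' = w' * u := by rw [hu]; simp
    have hαu : α • u = u := by
      rw [hu, smul_div', ← mul_smul, ← hyα, mul_smul, hm, smul_mul', smul_pow', hyw,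
        mul_div_mul_right_eq_div]
    rw [hW] at huW
    obtain ⟨i, j, hij⟩ := Subgroup.mem_closure_pair.1 huW
    by_cases hfix : α • w' = w'
    · -- `α` fixes `W` pointwise
      have hαfix : ∀ u ∈ W, α • u = u := by
        rw [hW]; exact fix_closure_pair α w w' hαw hfix
      have h1 := exp_of_fix hVp α β W hβp hD hαfix y hyD
      have h2 : y ^ (p * p) = 1 := by
        apply eq_of_smul_eq_smul (α := V)
        intro v
        rw [h1 v, one_smul]
      have h3 := pow_gcd_eq_one.2 ⟨h2, hyn⟩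
      have h4 : Nat.gcd (p * p) n = 1 :=
        Nat.Coprime.mul_left hn.symm hn.symm
      rwa [h4, pow_one] at h3
    · have hwm : w ^ m ≠ 1 := by
        intro h
        apply hfix
        rw [hm, h, mul_one]
      haveI : Fact p.Prime := ⟨hp⟩
      have hord : orderOf (w ^ m) = p := orderOf_eq_prime (hVp _) hwm
      have h1 : α • u = u * (w ^ m) ^ j := by
        rw [← hij, smul_mul', smul_zpow', smul_zpow', hαw, hm, mul_zpow, mul_assoc]
      have h2 : (w ^ m) ^ j = 1 := by
        rw [hαu] at h1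
        have : u * 1 = u * (w ^ m) ^ j := by rw [mul_one]; exact h1
        exact (mul_left_cancel this).symm
      have h3 : (p : ℤ) ∣ j := by
        rw [← hord]; exact orderOf_dvd_iff_zpow_eq_one.2 h2
      obtain ⟨j', hj'⟩ := h3
      have h4 : w' ^ j = 1 := by
        have hw'p : w' ^ p = 1 := hVp w'
        rw [hj', zpow_mul, zpow_natCast, hw'p, one_zpow]
      rw [h4, mul_one] at hij
      have h5 : y • u = u := by
        rw [← hij, smul_zpow', hyw]
      have h6 : u = 1 := eq_one_of_stab hn hVp y hyn w' u hyw' h5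
      rw [h6, mul_one] at hyw'
      have hyfix : ∀ u ∈ W, y • u = u := by
        rw [hW]; exact fix_closure_pair y w w' hyw hyw'
      apply eq_of_smul_eq_smul (α := V)
      intro v
      rw [one_smul]
      have h7 : y • v = v * ((y • v) / v) := by simp
      have h8 := eq_one_of_stab hn hVp y hyn v _ h7 (hyfix _ (hD y hyD v))
      rw [h8, mul_one] at h7
      exact h7
  have hSn : ∀ s ∈ S, s ^ n = 1 := fun s hs => hRn s (hSR s hs)
  have hScard : (Nat.card S).Coprime p := by
    rw [Nat.coprime_comm, hp.coprime_iff_not_dvd]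
    intro hd
    haveI : Fact p.Prime := ⟨hp⟩
    obtain ⟨s, hs⟩ := exists_prime_orderOf_dvd_card' (G := S) p hd
    have h1 : s ^ n = 1 := by
      apply Subtype.ext
      rw [Subgroup.coe_pow]
      exact hSn s s.2
    have h2 : p ∣ n := by rw [← hs]; exact orderOf_dvd_of_pow_eq_one h1
    have h3 : p ∣ Nat.gcd n p := Nat.dvd_gcd h2 dvd_rfl
    rw [Nat.Coprime.gcd_eq_one hn] at h3
    exact hp.one_lt.ne' (Nat.dvd_one.1 h3)
  have hαS : ∀ s ∈ S, α * s * α⁻¹ ∈ S := by
    intro s hs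
    rw [hS]
    exact ⟨Subgroup.mul_mem _ (Subgroup.mul_mem _ hαD (hSD s hs)) (Subgroup.inv_mem _ hαD),
      hαR s (hSR s hs)⟩
  have hsum : ∀ v : V, ∏ i ∈ Finset.range p, (α ^ i • v) = 1 := by
    intro v
    obtain ⟨m, hm⟩ := hq v
    exact prod_range_smul_eq_one hp hp2 hVp α v (w ^ m) hm (by rw [smul_pow', hαw])
  have htriv := frob_trivial hp hVp S hScard α hαp hαS hSfix hsum
  have hc : β * α⁻¹ ∈ S := by
    rw [hS]
    refine ⟨Subgroup.mul_mem _ hβD (Subgroup.inv_mem _ hαD), ?_⟩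
    have e : β * α⁻¹ = x * (α * x⁻¹ * α⁻¹) := by rw [hβ]; group
    rw [e]
    exact R.mul_mem hx (hαR _ (R.inv_mem hx))
  have hc1 : β * α⁻¹ = 1 := by
    apply eq_of_smul_eq_smul (α := V)
    intro v
    rw [htriv _ hc v, one_smul]
  exact mul_inv_eq_one.1 hc1

/-- The case `p = 2`: the element `t = (x α x⁻¹) α⁻¹` of odd order moves `w` or `x • w`. -/
theorem core_two [FaithfulSMul H V] (hV2 : ∀ v : V, v ^ 2 = 1) (α x : H) (w : V)
    (hq : ∀ v : V, ∃ m : ℕ, α • v = v * w ^ m)
    (n : ℕ) (hn : n.Coprime 2) (htn : (x * α * x⁻¹ * α⁻¹) ^ n = 1)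
    (hne : x * α * x⁻¹ ≠ α) :
    (x * α * x⁻¹ * α⁻¹) • w ≠ w ∨ (x * α * x⁻¹ * α⁻¹) • (x • w) ≠ x • w := by
  by_contra hcon
  push Not at hcon
  obtain ⟨h1, h2⟩ := hcon
  obtain ⟨β, hβ⟩ : ∃ β : H, β = x * α * x⁻¹ := ⟨_, rfl⟩
  obtain ⟨w', hw'⟩ : ∃ w' : V, w' = x • w := ⟨_, rfl⟩
  rw [← hβ] at h1 h2 htn hne
  rw [← hw'] at h2
  have hβq : ∀ v : V, ∃ m : ℕ, β • v = v * w' ^ m := by
    intro v
    obtain ⟨m, hm⟩ := hq (x⁻¹ • v)
    refine ⟨m, ?_⟩
    rw [hβ, mul_smul, mul_smul, hm, smul_mul', smul_inv_smul, smul_pow', hw']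
  obtain ⟨W, hW⟩ : ∃ W : Subgroup V, W = Subgroup.closure ({w, w'} : Set V) := ⟨_, rfl⟩
  have hwW : w ∈ W := by rw [hW]; exact Subgroup.subset_closure (by simp)
  have hw'W : w' ∈ W := by rw [hW]; exact Subgroup.subset_closure (by simp)
  have hD : ∀ d ∈ Subgroup.closure ({α, β} : Set H), ∀ v : V, (d • v) / v ∈ W := by
    apply closure_stab
    intro t ht v
    rcases ht with rfl | ht
    · obtain ⟨m, hm⟩ := hq v
      rw [hm, mul_div_cancel_left]
      exact W.pow_mem hwW m
    · rw [Set.mem_singleton_iff] at ht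
      obtain ⟨m, hm⟩ := hβq v
      rw [ht, hm, mul_div_cancel_left]
      exact W.pow_mem hw'W m
  have hαD : α ∈ Subgroup.closure ({α, β} : Set H) := Subgroup.subset_closure (by simp)
  have hβD : β ∈ Subgroup.closure ({α, β} : Set H) := Subgroup.subset_closure (by simp)
  have htD : β * α⁻¹ ∈ Subgroup.closure ({α, β} : Set H) :=
    Subgroup.mul_mem _ hβD (Subgroup.inv_mem _ hαD)
  have hfix : ∀ u ∈ W, (β * α⁻¹) • u = u := by
    rw [hW]; exact fix_closure_pair _ w w' h1 h2
  apply hne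
  have hc1 : β * α⁻¹ = 1 := by
    apply eq_of_smul_eq_smul (α := V)
    intro v
    rw [one_smul]
    have h7 : (β * α⁻¹) • v = v * (((β * α⁻¹) • v) / v) := by simp
    have h8 := eq_one_of_stab hn hV2 _ htn v _ h7 (hfix _ (hD _ htD v))
    rw [h8, mul_one] at h7
    exact h7
  exact mul_inv_eq_one.1 hc1

end act

/-- A four-group generated by two distinct involutions. -/
theorem card_closure_pair_four {V : Type*} [CommGroup V] (hV2 : ∀ v : V, v ^ 2 = 1) (a b : V)
    (ha : a ≠ 1) (hb : b ≠ 1) (hab : a ≠ b) :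
    Nat.card (Subgroup.closure ({a, b} : Set V)) = 4 := by
  have hz : ∀ (c : V) (m : ℤ), c ^ m = 1 ∨ c ^ m = c := by
    intro c m
    rcases Int.emod_two_eq_zero_or_one m with h | h
    · left
      have : m = 2 * (m / 2) := by omega
      rw [this, zpow_mul, zpow_ofNat, hV2, one_zpow]
    · right
      have : m = 1 + 2 * (m / 2) := by omega
      rw [this, zpow_add, zpow_one, zpow_mul, zpow_ofNat, hV2, one_zpow, mul_one]
  have hset : ((Subgroup.closure ({a, b} : Set V) : Subgroup V) : Set V) = {1, a, b, a * b} := by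
    ext u
    constructor
    · intro hu
      obtain ⟨i, j, hij⟩ := Subgroup.mem_closure_pair.1 hu
      rw [← hij]
      rcases hz a i with h1 | h1 <;> rcases hz b j with h2 | h2 <;> rw [h1, h2] <;> simp
    · intro hu
      have haC : a ∈ Subgroup.closure ({a, b} : Set V) := Subgroup.subset_closure (by simp)
      have hbC : b ∈ Subgroup.closure ({a, b} : Set V) := Subgroup.subset_closure (by simp)
      rcases hu with rfl | rfl | rfl | hu
      · exact Subgroup.one_mem _
      · exact haC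
      · exact hbC
      · rw [Set.mem_singleton_iff] at hu
        rw [hu]; exact Subgroup.mul_mem _ haC hbC
  have hinv : ∀ c : V, c⁻¹ = c := by
    intro c
    have := hV2 c
    rw [pow_two] at this
    exact inv_eq_of_mul_eq_one_left this
  have hcard : Nat.card (Subgroup.closure ({a, b} : Set V)) =
      Set.ncard ({1, a, b, a * b} : Set V) := by
    rw [← hset]
    exact (Nat.card_coe_set_eq _)
  rw [hcard, Set.ncard_insert_of_notMem, Set.ncard_insert_of_notMem, Set.ncard_pair]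
  · intro h
    apply ha
    have : b * 1 = b * a := by rw [mul_one, mul_comm]; exact h
    exact (mul_left_cancel this).symm
  · intro h
    rcases h with h | h
    · exact hab h
    · rw [Set.mem_singleton_iff] at h
      apply hb
      have : a * 1 = a * b := by rw [mul_one]; exact h
      exact (mul_left_cancel this).symm
  · intro h
    rcases h with h | h | h
    · exact ha h.symm
    · exact hb h.symm
    · rw [Set.mem_singleton_iff] at h
      apply hab
      have h2 : a⁻¹ = b := inv_eq_of_mul_eq_one_right h.symm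
      rw [hinv] at h2
      exact h2

end Cfsg.Agent.helper19.CN
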