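import Mathlib
import Cfsg.Prelude.Def_LocalEven
import Cfsg.Agent.Lib_helper19_CN1
import Cfsg.Agent.Lib_helper15_S4d

/-! The group-level core of the theorem on cyclic normal subgroups of Sylow subgroups of
`p`-soluble groups (helper19). -/

set_option autoImplicit false
set_option linter.style.haveILetI false

namespace Cfsg.Agent.helper19.CN

section primed
variable {V : Type*} [instV : Group V] {H : Type*} [Group H] [MulDistribMulAction H V]

/-- recursive product `v * α•v * ⋯ * α^(k-1)•v`. -/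
def rprod (α : H) (v : V) : ℕ → V
  | 0 => 1
  | k + 1 => rprod α v k * α ^ k • v

theorem rprod_eq_prod {V : Type*} [CommGroup V] {H : Type*} [Group H] [MulDistribMulAction H V]
    (α : H) (v : V) : ∀ k, rprod α v k = ∏ i ∈ Finset.range k, (α ^ i • v)
  | 0 => by simp [rprod]
  | k + 1 => by rw [rprod, rprod_eq_prod α v k, Finset.prod_range_succ]

theorem rprod_eq_one' (hVc : ∀ a b : V, a * b = b * a) {p : ℕ} (hp : p.Prime) (hp2 : p ≠ 2)
    (hVp : ∀ v : V, v ^ p = 1) (α : H) (v u : V) (hv : α • v = v * u) (hu : α • u = u) :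
    rprod α v p = 1 := by
  have h1 := @rprod_eq_prod V (@CommGroup.mk V instV hVc) H _ _ α v p
  have h2 := @prod_range_smul_eq_one V (@CommGroup.mk V instV hVc) H _ _ p hp hp2 hVp α v u hv hu
  rw [h2] at h1
  exact h1

theorem core_odd' (hVc : ∀ a b : V, a * b = b * a) {p : ℕ} (hp : p.Prime) (hp2 : p ≠ 2)
    [Finite H] [FaithfulSMul H V]
    (hVp : ∀ v : V, v ^ p = 1) (α x : H) (w : V)
    (hq : ∀ v : V, ∃ m : ℕ, α • v = v * w ^ m) (hαw : α • w = w) (hαp : α ^ p = 1)
    (R : Subgroup H) (n : ℕ) (hn : n.Coprime p) (hRn : ∀ r ∈ R, r ^ n = 1) (hx : x ∈ R)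
    (hαR : ∀ r ∈ R, α * r * α⁻¹ ∈ R)
    (hψ : ∀ y ∈ R, y * α = α * y → y • w = w) : x * α * x⁻¹ = α :=
  @core_odd V (@CommGroup.mk V instV hVc) H _ _ p hp hp2 _ _ hVp α x w hq hαw hαp R n hn hRn hx
    hαR hψ

theorem core_two' (hVc : ∀ a b : V, a * b = b * a) [FaithfulSMul H V]
    (hV2 : ∀ v : V, v ^ 2 = 1) (α x : H) (w : V)
    (hq : ∀ v : V, ∃ m : ℕ, α • v = v * w ^ m)
    (n : ℕ) (hn : n.Coprime 2) (htn : (x * α * x⁻¹ * α⁻¹) ^ n = 1)
    (hne : x * α * x⁻¹ ≠ α) :
    (x * α * x⁻¹ * α⁻¹) • w ≠ w ∨ (x * α * x⁻¹ * α⁻¹) • (x • w) ≠ x • w :=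
  @core_two V (@CommGroup.mk V instV hVc) H _ _ _ hV2 α x w hq n hn htn hne

theorem closure_smul_mem' (hVc : ∀ a b : V, a * b = b * a) (W : Subgroup V) (T : Set H)
    (hT : ∀ t ∈ T, ∀ v : V, (t • v) / v ∈ W) :
    ∀ d ∈ Subgroup.closure T, ∀ u ∈ W, d • u ∈ W := by
  intro d hd
  have h1 := @closure_stab V (@CommGroup.mk V instV hVc) H _ _ W T hT d hd
  exact @smul_mem_of_stab V (@CommGroup.mk V instV hVc) H _ _ W d h1

theorem card_closure_pair_four' (hVc : ∀ a b : V, a * b = b * a) (hV2 : ∀ v : V, v ^ 2 = 1)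
    (a b : V) (ha : a ≠ 1) (hb : b ≠ 1) (hab : a ≠ b) :
    Nat.card (Subgroup.closure ({a, b} : Set V)) = 4 :=
  @card_closure_pair_four V (@CommGroup.mk V instV hVc) hV2 a b ha hb hab

theorem fix_closure_pair' (d : H) (w w' : V) (h1 : d • w = w) (h2 : d • w' = w') :
    ∀ u ∈ Subgroup.closure ({w, w'} : Set V), d • u = u := by
  intro u hu
  induction hu using Subgroup.closure_induction with
  | mem t ht =>
    rcases ht with rfl | ht
    · exact h1
    · rw [Set.mem_singleton_iff] at ht; rw [ht]; exact h2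
  | one => exact smul_one d
  | mul a b _ _ ha hb => rw [smul_mul', ha, hb]
  | inv a _ ha => rw [smul_inv', ha]

end primed

section grp
variable {Y : Type*} [Group Y]

/-- `(u a)^k = cprod a u k * a^k`. -/
def cprod (a u : Y) : ℕ → Y
  | 0 => 1
  | k + 1 => cprod a u k * (a ^ k * u * (a ^ k)⁻¹)

theorem mul_pow_eq_cprod (a u : Y) : ∀ k, (u * a) ^ k = cprod a u k * a ^ k
  | 0 => by simp [cprod]
  | k + 1 => by
    rw [pow_succ, mul_pow_eq_cprod a u k, cprod, pow_succ]; group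

theorem cprod_eq_rprod (V : Subgroup Y) [V.Normal] (a : Y) (u : ↥V) :
    ∀ k, cprod a (u : Y) k = ((rprod (MulAut.conjNormal a : MulAut ↥V) u k : ↥V) : Y)
  | 0 => by simp [cprod, rprod]
  | k + 1 => by
    rw [cprod, rprod, cprod_eq_rprod V a u k, Subgroup.coe_mul, ← map_pow, MulAut.smul_def,
      MulAut.conjNormal_apply]


/-- The group-level core. -/
theorem main2 [Finite Y] {p : ℕ} [hp : Fact p.Prime] (V R : Subgroup Y) [hVn : V.Normal]
    [hRn : R.Normal]
    (hVc : ∀ u ∈ V, ∀ v ∈ V, u * v = v * u) (hVp : ∀ v ∈ V, v ^ p = 1)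
    (hCV : Subgroup.centralizer (V : Set Y) ≤ V) (n : ℕ) (hn : n.Coprime p)
    (hRV : ∀ r ∈ R, r ^ n ∈ V) (a x : Y) (hap : a ^ p ∈ V) (hx : x ∈ R)
    (hax : a * x * a⁻¹ * x⁻¹ ∉ V)
    (hq : ∀ v ∈ V, ∃ m : ℕ, a * v * a⁻¹ * v⁻¹ = (a ^ p) ^ m)
    (h : p ≠ 2 ∨ ¬ Cfsg.Involves (Equiv.Perm (Fin 4)) Y) : False := by
  obtain ⟨ρ, hρdef⟩ : ∃ ρ : Y →* MulAut ↥V, ρ = MulAut.conjNormal := ⟨_, rfl⟩
  have hρ : ∀ (g : Y) (v : ↥V), ((ρ g • v : ↥V) : Y) = g * v * g⁻¹ := by
    intro g v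
    rw [hρdef, MulAut.smul_def, MulAut.conjNormal_apply]
  have hcomm : ∀ u v : ↥V, u * v = v * u := fun u v => Subtype.ext (hVc u u.2 v v.2)
  have hVp' : ∀ v : ↥V, v ^ p = 1 := fun v =>
    Subtype.ext (by rw [Subgroup.coe_pow]; exact hVp v v.2)
  have hker : ∀ g : Y, ρ g = 1 → g ∈ V := by
    intro g hg
    apply hCV
    rw [Subgroup.mem_centralizer_iff]
    intro v hv
    have h1 := hρ g ⟨v, hv⟩
    rw [hg, one_smul] at h1
    have h2 : v = g * v * g⁻¹ := h1
    calc v * g = g * v * g⁻¹ * g := by rw [← h2]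
      _ = g * v := by group
  have hVker : ∀ g ∈ V, ρ g = 1 := by
    intro g hg
    apply MulEquiv.ext
    intro v
    apply Subtype.ext
    have h1 := hρ g v
    rw [MulAut.smul_def] at h1
    rw [h1, MulAut.one_apply, hVc g hg v v.2]
    group
  haveI : Finite (MulAut ↥V) :=
    Finite.of_injective (fun f : MulAut ↥V => (f : ↥V → ↥V)) (fun f g hfg => MulEquiv.ext
      (fun v => congrFun hfg v))
  obtain ⟨w, hw⟩ : ∃ w : ↥V, w = ⟨a ^ p, hap⟩ := ⟨_, rfl⟩
  have hwc : (w : Y) = a ^ p := by rw [hw]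
  have hαq : ∀ v : ↥V, ∃ m : ℕ, ρ a • v = v * w ^ m := by
    intro v
    obtain ⟨m, hm⟩ := hq v v.2
    refine ⟨m, ?_⟩
    rw [hcomm v]
    apply Subtype.ext
    rw [hρ, Subgroup.coe_mul, Subgroup.coe_pow, hwc, ← hm]
    group
  have hαw : ρ a • w = w := by
    apply Subtype.ext
    rw [hρ, hwc]
    group
  have hαp : (ρ a) ^ p = 1 := by rw [← map_pow]; exact hVker _ hap
  obtain ⟨Rb, hRb⟩ : ∃ Rb : Subgroup (MulAut ↥V), Rb = R.map ρ := ⟨_, rfl⟩
  have hRbn : ∀ r ∈ Rb, r ^ n = 1 := by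
    rw [hRb]; rintro _ ⟨r, hr, rfl⟩; rw [← map_pow]; exact hVker _ (hRV r hr)
  have hxRb : ρ x ∈ Rb := by rw [hRb]; exact ⟨x, hx, rfl⟩
  have hαRb : ∀ r ∈ Rb, ρ a * r * (ρ a)⁻¹ ∈ Rb := by
    rw [hRb]; rintro _ ⟨r, hr, rfl⟩
    exact ⟨a * r * a⁻¹, hRn.conj_mem r hr a, by rw [map_mul, map_mul, map_inv]⟩
  have hne : ρ x * ρ a * (ρ x)⁻¹ ≠ ρ a := by
    intro heq
    apply hax
    apply hker
    rw [map_mul, map_mul, map_mul, map_inv, map_inv]
    calc ρ a * ρ x * (ρ a)⁻¹ * (ρ x)⁻¹ = ρ a * (ρ x * ρ a * (ρ x)⁻¹)⁻¹ := by group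
      _ = 1 := by rw [heq]; group
  by_cases hp2 : p = 2
  swap
  · -- the odd case
    apply hne
    refine core_odd' hcomm hp.out hp2 hVp' (ρ a) (ρ x) w hαq hαw hαp Rb n hn hRbn hxRb hαRb ?_
    rw [hRb]
    rintro _ ⟨y, -, rfl⟩ hyα
    have h1 : y * a * y⁻¹ * a⁻¹ ∈ V := by
      apply hker
      rw [map_mul, map_mul, map_mul, map_inv, map_inv, hyα]
      group
    obtain ⟨u, hu⟩ : ∃ u : ↥V, u = ⟨y * a * y⁻¹ * a⁻¹, h1⟩ := ⟨_, rfl⟩
    have huc : (u : Y) = y * a * y⁻¹ * a⁻¹ := by rw [hu]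
    have h2 : y * a * y⁻¹ = (u : Y) * a := by rw [huc]; group
    have h3 : y * a ^ p * y⁻¹ = cprod a (u : Y) p * a ^ p := by
      rw [← mul_pow_eq_cprod, ← h2, conj_pow]
    obtain ⟨m, hm⟩ := hαq u
    have h4 : rprod (ρ a) u p = 1 :=
      rprod_eq_one' hcomm hp.out hp2 hVp' (ρ a) u (w ^ m) hm (by rw [smul_pow', hαw])
    have h5 : cprod a (u : Y) p = 1 := by
      rw [cprod_eq_rprod V a u p, ← hρdef, h4, Subgroup.coe_one]
    rw [h5, one_mul] at h3
    apply Subtype.ext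
    rw [hρ, hwc, h3]
  · -- the case `p = 2`
    have hS4 : ¬ Cfsg.Involves (Equiv.Perm (Fin 4)) Y := by
      rcases h with h | h
      · exact absurd hp2 h
      · exact h
    subst hp2
    apply hS4
    obtain ⟨w', hw'⟩ : ∃ w' : ↥V, w' = ρ x • w := ⟨_, rfl⟩
    obtain ⟨β, hβ⟩ : ∃ β : MulAut ↥V, β = ρ x * ρ a * (ρ x)⁻¹ := ⟨_, rfl⟩
    obtain ⟨g, hg⟩ : ∃ g : Y, g = x * a * x⁻¹ * a⁻¹ := ⟨_, rfl⟩
    have hρg : ρ g = β * (ρ a)⁻¹ := by
      rw [hg, hβ, map_mul, map_mul, map_mul, map_inv, map_inv]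
    have hgR : g ∈ R := by
      have e : g = x * (a * x⁻¹ * a⁻¹) := by rw [hg]; group
      rw [e]
      exact R.mul_mem hx (hRn.conj_mem _ (R.inv_mem hx) a)
    have htn : (β * (ρ a)⁻¹) ^ n = 1 := by
      rw [← hρg, ← map_pow]; exact hVker _ (hRV g hgR)
    have hmove : (β * (ρ a)⁻¹) • w ≠ w ∨ (β * (ρ a)⁻¹) • w' ≠ w' := by
      rw [hβ, hw']
      exact core_two' hcomm hVp' (ρ a) (ρ x) w hαq n hn (by rw [← hβ]; exact htn) hne
    have hβq : ∀ v : ↥V, ∃ m : ℕ, β • v = v * w' ^ m := by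
      intro v
      obtain ⟨m, hm⟩ := hαq ((ρ x)⁻¹ • v)
      refine ⟨m, ?_⟩
      rw [hβ, mul_smul, mul_smul, hm, smul_mul', smul_inv_smul, smul_pow', hw']
    have hβw' : β • w' = w' := by
      rw [hβ, hw', mul_smul, mul_smul, inv_smul_smul, hαw]
    -- `w ≠ 1`
    have hw1 : w ≠ 1 := by
      intro hw1
      have haV : a ∈ V := by
        apply hker
        apply MulEquiv.ext
        intro v
        obtain ⟨m, hm⟩ := hαq v
        rw [hw1, one_pow, mul_one, MulAut.smul_def] at hm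
        rw [hm, MulAut.one_apply]
      apply hax
      have e : a * x * a⁻¹ * x⁻¹ = a * (x * a⁻¹ * x⁻¹) := by group
      rw [e]
      exact V.mul_mem haV (hVn.conj_mem _ (V.inv_mem haV) x)
    have hw'1 : w' ≠ 1 := by
      intro h1
      apply hw1
      have h2 : (ρ x)⁻¹ • w' = w := by rw [hw', inv_smul_smul]
      rw [← h2, h1, smul_one]
    have hww' : w ≠ w' := by
      intro heq
      have hβw : β • w = w := by
        have := hβw'
        rw [← heq] at this
        exact this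
      have h1 : (β * (ρ a)⁻¹) • w = w := by
        rw [mul_smul]
        have : (ρ a)⁻¹ • w = w := by rw [inv_smul_eq_iff, hαw]
        rw [this, hβw]
      rcases hmove with h2 | h2
      · exact h2 h1
      · rw [← heq] at h2; exact h2 h1
    obtain ⟨W, hW⟩ : ∃ W : Subgroup ↥V, W = Subgroup.closure ({w, w'} : Set ↥V) := ⟨_, rfl⟩
    have hwW : w ∈ W := by rw [hW]; exact Subgroup.subset_closure (by simp)
    have hw'W : w' ∈ W := by rw [hW]; exact Subgroup.subset_closure (by simp)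
    have hW4 : Nat.card W = 4 := by
      rw [hW]; exact card_closure_pair_four' hcomm hVp' w w' hw1 hw'1 hww'
    obtain ⟨U, hU⟩ : ∃ U : Subgroup Y, U = W.map V.subtype := ⟨_, rfl⟩
    have hU4 : Nat.card U = 4 := by
      rw [hU, Subgroup.card_map_of_injective V.subtype_injective, hW4]
    have hU2 : ∀ u ∈ U, u * u = 1 := by
      rw [hU]
      rintro _ ⟨u, -, rfl⟩
      have := hVp' u
      rw [pow_two] at this
      have h2 := congrArg Subtype.val this
      rwa [Subgroup.coe_mul, Subgroup.coe_one] at h2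
    have hUmem : ∀ u : ↥V, u ∈ W → (u : Y) ∈ U := by
      intro u hu; rw [hU]; exact ⟨u, hu, rfl⟩
    -- `D`
    have hDT : ∀ t ∈ ({ρ a, β} : Set (MulAut ↥V)), ∀ v : ↥V, (t • v) / v ∈ W := by
      intro t ht v
      rcases ht with rfl | ht
      · obtain ⟨m, hm⟩ := hαq v
        rw [hm, hcomm v, mul_div_cancel_right]
        exact W.pow_mem hwW m
      · rw [Set.mem_singleton_iff] at ht
        obtain ⟨m, hm⟩ := hβq v
        rw [ht, hm, hcomm v, mul_div_cancel_right]
        exact W.pow_mem hw'W m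
    have hDW := closure_smul_mem' hcomm W ({ρ a, β} : Set (MulAut ↥V)) hDT
    have hαD : ρ a ∈ Subgroup.closure ({ρ a, β} : Set (MulAut ↥V)) :=
      Subgroup.subset_closure (by simp)
    have hβD : β ∈ Subgroup.closure ({ρ a, β} : Set (MulAut ↥V)) :=
      Subgroup.subset_closure (by simp)
    -- normalizer membership
    have hnorm : ∀ k : Y, ρ k ∈ Subgroup.closure ({ρ a, β} : Set (MulAut ↥V)) →
        k ∈ Subgroup.normalizer (U : Set Y) := by
      intro k hk
      rw [Subgroup.mem_normalizer_iff]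
      intro z
      constructor
      · intro hz
        rw [hU] at hz
        obtain ⟨u, huW, rfl⟩ := hz
        have h1 := hDW _ hk u huW
        have h2 := hUmem _ h1
        rw [hρ] at h2
        exact h2
      · intro hz
        rw [hU] at hz
        obtain ⟨u, huW, hu⟩ := hz
        have h1 := hDW _ (Subgroup.inv_mem _ hk) u huW
        have h2 := hUmem _ h1
        rw [← map_inv, hρ] at h2
        have e : k⁻¹ * (u : Y) * k⁻¹⁻¹ = z := by
          have : (u : Y) = k * z * k⁻¹ := hu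
          rw [this]; group
        rw [e] at h2
        exact h2
    -- centralizing elements fix `W`
    have hcent : ∀ k : Y, k ∈ Subgroup.centralizer (U : Set Y) → ∀ u ∈ W, ρ k • u = u := by
      intro k hk u hu
      rw [Subgroup.mem_centralizer_iff] at hk
      have h1 := hk _ (hUmem u hu)
      apply Subtype.ext
      rw [hρ, ← h1]
      group
    -- the element of odd order
    have hg0 : orderOf g ≠ 0 := (orderOf_pos g).ne'
    obtain ⟨e, m, hm, hem⟩ := Nat.exists_eq_two_pow_mul_odd hg0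
    have hkm : (g ^ 2 ^ e) ^ m = 1 := by
      rw [← pow_mul, ← hem, pow_orderOf_eq_one]
    have hρgD : ρ g ∈ Subgroup.closure ({ρ a, β} : Set (MulAut ↥V)) := by
      rw [hρg]; exact Subgroup.mul_mem _ hβD (Subgroup.inv_mem _ hαD)
    have hkN : g ^ 2 ^ e ∈ Subgroup.normalizer (U : Set Y) := by
      apply hnorm
      rw [map_pow]
      exact Subgroup.pow_mem _ hρgD _
    have hkC : g ^ 2 ^ e ∉ Subgroup.centralizer (U : Set Y) := by
      intro hC
      have h1 := hcent _ hC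
      rw [map_pow, hρg] at h1
      have hcop : (2 ^ e).Coprime (orderOf (β * (ρ a)⁻¹)) := by
        have hd : orderOf (β * (ρ a)⁻¹) ∣ n := orderOf_dvd_of_pow_eq_one htn
        apply Nat.Coprime.pow_left
        exact Nat.Coprime.coprime_dvd_right hd hn.symm
      obtain ⟨j, hj⟩ := exists_pow_eq_self_of_coprime hcop
      have h2 : ∀ u ∈ W, (β * (ρ a)⁻¹) • u = u := by
        intro u hu
        rw [← hj]
        have : ∀ i : ℕ, ((β * (ρ a)⁻¹) ^ 2 ^ e) ^ i • u = u := by
          intro i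
          induction i with
          | zero => simp
          | succ i ih => rw [pow_succ', mul_smul, ih, h1 u hu]
        exact this j
      rcases hmove with h3 | h3
      · exact h3 (h2 w hwW)
      · exact h3 (h2 w' hw'W)
    -- the `2`-element
    have hb : ρ a • w' ≠ w' ∨ β • w ≠ w := by
      by_contra hcon
      push Not at hcon
      obtain ⟨c1, c2⟩ := hcon
      have hαinv : ∀ u : ↥V, ρ a • u = u → (ρ a)⁻¹ • u = u := by
        intro u hu; rw [inv_smul_eq_iff, hu]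
      rcases hmove with h3 | h3
      · apply h3
        rw [mul_smul, hαinv w hαw, c2]
      · apply h3
        rw [mul_smul, hαinv w' c1, hβw']
    have ha4 : a ^ 2 ^ 2 = 1 := by
      have h1 := hVp _ hap
      rw [← pow_mul] at h1
      exact h1
    rcases hb with hb | hb
    · have haN : a ∈ Subgroup.normalizer (U : Set Y) := hnorm a hαD
      have haC : a ∉ Subgroup.centralizer (U : Set Y) := by
        intro hC
        exact hb (hcent a hC w' hw'W)
      exact Cfsg.Agent.helper15.S4F.involves_S4_of_four U hU4 hU2 hkN hkC hm hkm haN haC ha4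
    · have hρb : ρ (x * a * x⁻¹) = β := by rw [hβ, map_mul, map_mul, map_inv]
      have hbN : x * a * x⁻¹ ∈ Subgroup.normalizer (U : Set Y) := by
        apply hnorm; rw [hρb]; exact hβD
      have hbC : x * a * x⁻¹ ∉ Subgroup.centralizer (U : Set Y) := by
        intro hC
        have := hcent _ hC w hwW
        rw [hρb] at this
        exact hb this
      have hb4 : (x * a * x⁻¹) ^ 2 ^ 2 = 1 := by
        rw [conj_pow, ha4]; group
      exact Cfsg.Agent.helper15.S4F.involves_S4_of_four U hU4 hU2 hkN hkC hm hkm hbN hbC hb4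

end grp

end Cfsg.Agent.helper19.CN
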