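import Mathlib
import Cfsg.Prelude.Def_LocalEven
import Cfsg.Agent.Lib_helper19_CN2
import Cfsg.Agent.Lib_helper7_HH123
import Cfsg.Agent.Lib_helper15_DualHH
import Cfsg.Agent.Lib_helper23_PSolv2
import Cfsg.Agent.Lib_helper15_S4a

/-! Reductions for the theorem on cyclic normal subgroups of Sylow subgroups of `p`-soluble
groups (helper19). -/

set_option autoImplicit false
set_option linter.style.haveILetI false

namespace Cfsg.Agent.helper19.CN

open scoped commutatorElement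

universe u

/-- `O_p(Y / O_p(Y)) = 1`. -/
theorem pCore_quot_pCore {Y : Type*} [Group Y] [Finite Y] {p : ℕ} [Fact p.Prime] :
    Cfsg.pCore p (Y ⧸ Cfsg.pCore p Y) = ⊥ := by
  obtain ⟨M, hM⟩ : ∃ M : Subgroup Y, M = (Cfsg.pCore p (Y ⧸ Cfsg.pCore p Y)).comap
    (QuotientGroup.mk' (Cfsg.pCore p Y)) := ⟨_, rfl⟩
  have hMn : M.Normal := by
    rw [hM]; exact (Cfsg.Agent.helper1.pCore_normal p).comap _
  have hMp : IsPGroup p M := by
    rintro ⟨y, hy⟩
    rw [hM, Subgroup.mem_comap] at hy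
    obtain ⟨k, hk⟩ := (Cfsg.Agent.helper1.pCore_isPGroup (G := Y ⧸ Cfsg.pCore p Y) p) ⟨_, hy⟩
    have hk' : (QuotientGroup.mk' (Cfsg.pCore p Y) y) ^ p ^ k = 1 := by
      have := congrArg Subtype.val hk
      rwa [Subgroup.coe_pow, Subgroup.coe_one] at this
    rw [← map_pow] at hk'
    have hyQ : y ^ p ^ k ∈ Cfsg.pCore p Y := (QuotientGroup.eq_one_iff _).1 hk'
    obtain ⟨j, hj⟩ := (Cfsg.Agent.helper1.pCore_isPGroup (G := Y) p) ⟨_, hyQ⟩
    have hj' : (y ^ p ^ k) ^ p ^ j = 1 := by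
      have := congrArg Subtype.val hj
      rwa [Subgroup.coe_pow, Subgroup.coe_one] at this
    refine ⟨k + j, Subtype.ext ?_⟩
    rw [Subgroup.coe_pow, Subgroup.coe_one, pow_add, pow_mul]
    exact hj'
  have hMQ : M ≤ Cfsg.pCore p Y := Cfsg.Agent.helper1.le_pCore hMn hMp
  rw [eq_bot_iff]
  intro z hz
  obtain ⟨y, rfl⟩ := QuotientGroup.mk'_surjective _ z
  rw [Subgroup.mem_bot]
  have hyM : y ∈ M := by rw [hM]; exact hz
  exact (QuotientGroup.eq_one_iff y).2 (hMQ hyM)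

/-- The subgroup `R = O_{p,p'}(Y)` and an element of it not commuting with `a` modulo `O_p(Y)`. -/
theorem exists_R {Y : Type u} [Group Y] [Finite Y] {p : ℕ} [hp : Fact p.Prime]
    (hps : Cfsg.IsPSolvable p Y) (a : Y) (N : ℕ) (haN : a ^ p ^ N = 1)
    (haQ : a ∉ Cfsg.pCore p Y) :
    ∃ (R : Subgroup Y) (n : ℕ), R.Normal ∧ n.Coprime p ∧ (∀ r ∈ R, r ^ n ∈ Cfsg.pCore p Y) ∧
      ∃ x ∈ R, a * x * a⁻¹ * x⁻¹ ∉ Cfsg.pCore p Y := by
  obtain ⟨Q, hQ⟩ : ∃ Q : Subgroup Y, Q = Cfsg.pCore p Y := ⟨_, rfl⟩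
  have hQn : Q.Normal := by rw [hQ]; infer_instance
  have hO : Cfsg.pCore p (Y ⧸ Q) = ⊥ := by
    subst hQ; exact pCore_quot_pCore
  have hpsq := Cfsg.Agent.helper23.psreach_top_quotient hp.out hps Q
  have hHH := Cfsg.Agent.helper15.DualHH.hall_higman_dual hpsq hO
  rw [← hQ]
  obtain ⟨K, hK⟩ : ∃ K : Subgroup (Y ⧸ Q), K = Cfsg.pPrimeCore p (Y ⧸ Q) := ⟨_, rfl⟩
  rw [← hK] at hHH
  have hKn : K.Normal := by rw [hK]; infer_instance
  have hKc : (Nat.card K).Coprime p := by rw [hK]; exact Cfsg.Agent.helper1.pPrimeCore_coprime p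
  have hpow : ∀ z ∈ K, z ^ Nat.card K = 1 := by
    intro z hz
    have := pow_card_eq_one' (G := K) (x := ⟨z, hz⟩)
    have h2 := congrArg Subtype.val this
    rwa [Subgroup.coe_pow, Subgroup.coe_one] at h2
  refine ⟨K.comap (QuotientGroup.mk' Q), Nat.card K, hKn.comap _, hKc, ?_, ?_⟩
  · intro r hr
    rw [Subgroup.mem_comap] at hr
    have := hpow _ hr
    rw [← map_pow] at this
    exact (QuotientGroup.eq_one_iff _).1 this
  · by_contra hcon
    push Not at hcon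
    have hcent : QuotientGroup.mk' Q a ∈ Subgroup.centralizer (K : Set (Y ⧸ Q)) := by
      rw [Subgroup.mem_centralizer_iff]
      intro z hz
      obtain ⟨x, rfl⟩ := QuotientGroup.mk'_surjective Q z
      have h1 := hcon x (by rw [Subgroup.mem_comap]; exact hz)
      have h2 : QuotientGroup.mk' Q (a * x * a⁻¹ * x⁻¹) = 1 := (QuotientGroup.eq_one_iff _).2 h1
      rw [map_mul, map_mul, map_mul, map_inv, map_inv] at h2
      have h3 : QuotientGroup.mk' Q a * QuotientGroup.mk' Q x =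
          QuotientGroup.mk' Q x * QuotientGroup.mk' Q a := by
        calc QuotientGroup.mk' Q a * QuotientGroup.mk' Q x
            = (QuotientGroup.mk' Q a * QuotientGroup.mk' Q x * (QuotientGroup.mk' Q a)⁻¹ *
              (QuotientGroup.mk' Q x)⁻¹) * (QuotientGroup.mk' Q x * QuotientGroup.mk' Q a) := by
              group
          _ = QuotientGroup.mk' Q x * QuotientGroup.mk' Q a := by rw [h2, one_mul]
      exact h3.symm
    have haK := hHH hcent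
    have h1 := hpow _ haK
    have h2 : (QuotientGroup.mk' Q a) ^ p ^ N = 1 := by rw [← map_pow, haN, map_one]
    have h3 := pow_gcd_eq_one.2 ⟨h1, h2⟩
    have h4 : Nat.gcd (Nat.card K) (p ^ N) = 1 := Nat.Coprime.pow_right N hKc
    rw [h4, pow_one] at h3
    apply haQ
    rw [← hQ]
    exact (QuotientGroup.eq_one_iff _).1 h3

/-- The theorem for groups with `O_{p'}(Y) = 1`. -/
theorem main1 {Y : Type u} [Group Y] [Finite Y] {p : ℕ} [hp : Fact p.Prime]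
    (hps : Cfsg.IsPSolvable p Y) (hO : Cfsg.pPrimeCore p Y = ⊥) (A : Subgroup Y)
    (hAp : IsPGroup p A) (hAQ : ∀ v ∈ Cfsg.pCore p Y, ∀ z ∈ A, v * z * v⁻¹ ∈ A)
    (hA : IsCyclic A) (h : p ≠ 2 ∨ ¬ Cfsg.Involves (Equiv.Perm (Fin 4)) Y) :
    A ≤ Cfsg.pCore p Y := by
  by_contra hcon
  obtain ⟨Q, hQ⟩ : ∃ Q : Subgroup Y, Q = Cfsg.pCore p Y := ⟨_, rfl⟩
  have hQn : Q.Normal := by rw [hQ]; infer_instance
  have hQp : IsPGroup p Q := by rw [hQ]; exact Cfsg.Agent.helper1.pCore_isPGroup p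
  -- a generator
  obtain ⟨⟨a₀, ha₀A⟩, hgen⟩ := hA.exists_generator
  have hgen' : ∀ z ∈ A, z ∈ Subgroup.zpowers a₀ := by
    intro z hz
    obtain ⟨i, hi⟩ := Subgroup.mem_zpowers_iff.1 (hgen ⟨z, hz⟩)
    refine Subgroup.mem_zpowers_iff.2 ⟨i, ?_⟩
    have := congrArg Subtype.val hi
    rwa [Subgroup.coe_zpow] at this
  have ha₀Q : a₀ ∉ Q := by
    intro h0
    apply hcon
    intro z hz
    rw [← hQ]
    exact (Subgroup.zpowers_le.2 h0) (hgen' z hz)
  obtain ⟨N, hN⟩ := hAp ⟨a₀, ha₀A⟩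
  have ha₀N : a₀ ^ p ^ N = 1 := by
    have := congrArg Subtype.val hN
    rwa [Subgroup.coe_pow, Subgroup.coe_one] at this
  -- the right power of `a₀`
  have hex : ∃ k, a₀ ^ p ^ k ∈ Q := ⟨N, by rw [ha₀N]; exact Q.one_mem⟩
  classical
  obtain ⟨k, hk, hkmin⟩ : ∃ k, a₀ ^ p ^ k ∈ Q ∧ ∀ j < k, a₀ ^ p ^ j ∉ Q :=
    ⟨Nat.find hex, Nat.find_spec hex, fun j hj => Nat.find_min hex hj⟩
  have hk0 : k ≠ 0 := by
    intro h0
    rw [h0, pow_zero, pow_one] at hk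
    exact ha₀Q hk
  obtain ⟨k', rfl⟩ : ∃ k', k = k' + 1 := ⟨k - 1, by omega⟩
  obtain ⟨a, ha⟩ : ∃ a : Y, a = a₀ ^ p ^ k' := ⟨_, rfl⟩
  have haQ : a ∉ Q := by rw [ha]; exact hkmin k' (Nat.lt_succ_self k')
  have hap : a ^ p ∈ Q := by
    rw [ha, ← pow_mul, ← pow_succ]; exact hk
  have haA : a ∈ A := by rw [ha]; exact A.pow_mem ha₀A _
  have haN : a ^ p ^ N = 1 := by
    rw [ha, ← pow_mul, mul_comm, pow_mul, ha₀N, one_pow]
  -- commutators with `Q`
  have hq : ∀ v ∈ Q, ∃ m : ℕ, a * v * a⁻¹ * v⁻¹ = (a ^ p) ^ m := by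
    intro v hv
    have h1 : v * a₀ * v⁻¹ ∈ Subgroup.zpowers a₀ := hgen' _ (hAQ v (by rw [← hQ]; exact hv) a₀ ha₀A)
    obtain ⟨j, hj⟩ := Subgroup.mem_zpowers_iff.1 h1
    have h2 : v * a * v⁻¹ = a ^ j := by
      calc v * a * v⁻¹ = (v * a₀ * v⁻¹) ^ p ^ k' := by rw [ha, conj_pow]
        _ = (a₀ ^ j) ^ p ^ k' := by rw [hj]
        _ = (a₀ ^ p ^ k') ^ j := by
          rw [← zpow_natCast, ← zpow_mul, mul_comm, zpow_mul, zpow_natCast]
        _ = a ^ j := by rw [ha]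
    have h3 : a * v * a⁻¹ * v⁻¹ ∈ Subgroup.zpowers a := by
      have e : a * v * a⁻¹ * v⁻¹ = a * (v * a * v⁻¹)⁻¹ := by group
      rw [e, h2]
      exact Subgroup.mul_mem _ (Subgroup.mem_zpowers a)
        (Subgroup.inv_mem _ (Subgroup.zpow_mem _ (Subgroup.mem_zpowers a) j))
    rw [← mem_powers_iff_mem_zpowers] at h3
    obtain ⟨i, hi⟩ := (Submonoid.mem_powers_iff _ _).1 h3
    have hcQ : a ^ i ∈ Q := by
      rw [hi]
      have e : a * v * a⁻¹ * v⁻¹ = (a * v * a⁻¹) * v⁻¹ := by group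
      rw [e]
      exact Q.mul_mem (hQn.conj_mem v hv a) (Q.inv_mem hv)
    have hpi : p ∣ i := by
      by_contra hpi
      apply haQ
      have hord : orderOf a ∣ p ^ N := orderOf_dvd_of_pow_eq_one haN
      have hcop : i.Coprime (orderOf a) := by
        apply Nat.Coprime.coprime_dvd_right hord
        apply Nat.Coprime.pow_right
        exact ((Nat.Prime.coprime_iff_not_dvd hp.out).2 hpi).symm
      obtain ⟨m, hm⟩ := exists_pow_eq_self_of_coprime hcop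
      rw [← hm]
      exact Q.pow_mem hcQ m
    obtain ⟨i', rfl⟩ := hpi
    exact ⟨i', by rw [← hi, pow_mul]⟩
  -- the subgroup `R`
  obtain ⟨R, n, hRn, hn, hRV, x, hx, hax⟩ := exists_R hps a N haN (by rw [← hQ]; exact haQ)
  rw [← hQ] at hRV hax
  -- pass to `Y / Φ(Q)`
  obtain ⟨Φ, hΦ⟩ : ∃ Φ : Subgroup Y, Φ = (frattini ↥Q).map Q.subtype := ⟨_, rfl⟩
  have hΦn : Φ.Normal := by rw [hΦ]; infer_instance
  have hΦQ : Φ ≤ Q := by rw [hΦ]; exact Subgroup.map_subtype_le _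
  have hsurj := QuotientGroup.mk'_surjective Φ
  have hback : ∀ g : Y, QuotientGroup.mk' Φ g ∈ Q.map (QuotientGroup.mk' Φ) → g ∈ Q := by
    intro g hg
    obtain ⟨q, hq1, hq2⟩ := hg
    have h1 : q⁻¹ * g ∈ Φ := by
      have := (QuotientGroup.eq (s := Φ) (a := q) (b := g)).1 hq2
      exact this
    have e : g = q * (q⁻¹ * g) := by group
    rw [e]
    exact Q.mul_mem hq1 (hΦQ h1)
  haveI hVn : (Q.map (QuotientGroup.mk' Φ)).Normal := hQn.map _ hsurj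
  haveI hRn' : (R.map (QuotientGroup.mk' Φ)).Normal := hRn.map _ hsurj
  refine main2 (Q.map (QuotientGroup.mk' Φ)) (R.map (QuotientGroup.mk' Φ)) ?_ ?_ ?_ n hn ?_
    (QuotientGroup.mk' Φ a) (QuotientGroup.mk' Φ x) ?_ ⟨x, hx, rfl⟩ ?_ ?_ ?_
  · -- commutative
    rintro _ ⟨q₁, hq₁, rfl⟩ _ ⟨q₂, hq₂, rfl⟩
    rw [← map_mul, ← map_mul]
    apply (QuotientGroup.eq (s := Φ)).2
    have h1 : ⁅(⟨q₂, hq₂⟩ : ↥Q)⁻¹, (⟨q₁, hq₁⟩ : ↥Q)⁻¹⁆ ∈ frattini ↥Q :=
      Cfsg.Agent.helper1.commutator_le_frattini_of_isPGroup hQp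
        (Subgroup.commutator_mem_commutator (Subgroup.mem_top _) (Subgroup.mem_top _))
    rw [hΦ]
    refine ⟨_, h1, ?_⟩
    rw [commutatorElement_def]
    simp only [Subgroup.coe_subtype, Subgroup.coe_mul, Subgroup.coe_inv, inv_inv, mul_inv_rev]
    group
  · -- exponent `p`
    rintro _ ⟨q, hq1, rfl⟩
    rw [← map_pow]
    apply (QuotientGroup.eq_one_iff _).2
    rw [hΦ]
    exact ⟨_, Cfsg.Agent.helper1.pow_mem_frattini_of_isPGroup hQp ⟨q, hq1⟩, rfl⟩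
  · -- self-centralizing
    intro y₁ hy₁
    obtain ⟨y, rfl⟩ := hsurj y₁
    rw [Subgroup.mem_centralizer_iff] at hy₁
    apply Subgroup.mem_map_of_mem
    rw [hQ]
    apply Cfsg.Agent.helper7.mem_pCore_of_trivial_on_frattini_quotient hps hO y
    intro v hv
    rw [← hQ] at hv ⊢
    rw [← hΦ]
    have h1 := hy₁ _ (Subgroup.mem_map_of_mem (QuotientGroup.mk' Φ) hv)
    apply (QuotientGroup.eq_one_iff _).1
    show QuotientGroup.mk' Φ (y * v * y⁻¹ * v⁻¹) = 1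
    rw [map_mul, map_mul, map_mul, map_inv, map_inv, ← h1]
    group
  · rintro _ ⟨r, hr, rfl⟩
    rw [← map_pow]
    exact Subgroup.mem_map_of_mem _ (hRV r hr)
  · rw [← map_pow]
    exact Subgroup.mem_map_of_mem _ hap
  · intro hmem
    apply hax
    apply hback
    rw [map_mul, map_mul, map_mul, map_inv, map_inv]
    exact hmem
  · rintro _ ⟨v, hv, rfl⟩
    obtain ⟨m, hm⟩ := hq v hv
    refine ⟨m, ?_⟩
    rw [← map_inv, ← map_inv, ← map_mul, ← map_mul, ← map_mul, hm, map_pow, map_pow]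
  · rcases h with h | h
    · exact Or.inl h
    · exact Or.inr (fun hinv => h (Cfsg.Agent.helper15.S4F.involves_of_quotient Φ hinv))

end Cfsg.Agent.helper19.CN
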