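import Mathlib
import Cfsg.Agent.Lib_helper19_CN2
import Cfsg.Agent.Lib_helper7_Gen2

/-! The Hall–Higman argument for elements of order `p^(n+1)` when the `p'`-Sylow subgroups are
abelian: abstract module part (helper19). -/

set_option autoImplicit false
set_option linter.style.haveILetI false

namespace Cfsg.Agent.helper19.CN

section act
variable {V : Type*} [CommGroup V] {H : Type*} [Group H] [MulDistribMulAction H V]

/-- Frobenius-type averaging, general length `m`. -/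
theorem frob_trivial_gen {p : ℕ} (hVp : ∀ v : V, v ^ p = 1) (S : Subgroup H)
    [Finite S] (hSp : (Nat.card S).Coprime p) (α : H) (m : ℕ) (hm : 0 < m)
    (hαS : ∀ s ∈ S, α * s * α⁻¹ ∈ S)
    (hfix : ∀ i, 0 < i → i < m → ∀ s ∈ S, s * α ^ i = α ^ i * s → s = 1)
    (hsum : ∀ v : V, ∏ i ∈ Finset.range m, (α ^ i • v) = 1) :
    ∀ s ∈ S, ∀ v : V, s • v = v := by
  classical
  letI := Fintype.ofFinite S
  let T : V →* V := ∏ s : S, MulDistribMulAction.toMonoidHom V (s : H)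
  have hT : ∀ v : V, T v = ∏ s : S, (s : H) • v := by
    intro v
    simp only [T, MonoidHom.finsetProd_apply]
    rfl
  have hTfix : ∀ t ∈ S, ∀ v : V, t • T v = T v := by
    intro t ht v
    rw [hT, Finset.smul_prod']
    refine Fintype.prod_equiv (Equiv.mulLeft (⟨t, ht⟩ : S)) _ _ ?_
    intro s
    simp [mul_smul]
  have hconj := conj_pow_mem S α hαS
  have hkey : ∀ i : ℕ, i + 1 < m → ∀ v : V,
      ∏ s : S, ((s : H) * α ^ (i + 1) * (s : H)⁻¹) • v = T (α ^ (i + 1) • v) := by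
    intro i hi v
    obtain ⟨g, hg⟩ : ∃ g : H, g = α ^ (i + 1) := ⟨_, rfl⟩
    rw [← hg]
    have hgS : ∀ s ∈ S, g * s * g⁻¹ ∈ S := by rw [hg]; exact hconj (i + 1)
    have hgfix : ∀ s ∈ S, s * g = g * s → s = 1 := by
      intro s hs hsg
      rw [hg] at hsg
      exact hfix (i + 1) (Nat.succ_pos i) hi s hs hsg
    let lam : S → S := fun s => ⟨(s : H) * (g * (s : H)⁻¹ * g⁻¹),
      S.mul_mem s.2 (hgS _ (S.inv_mem s.2))⟩
    have hinj : Function.Injective lam := by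
      intro s t hst
      have h1 : (s : H) * (g * (s : H)⁻¹ * g⁻¹) = (t : H) * (g * (t : H)⁻¹ * g⁻¹) :=
        congrArg Subtype.val hst
      have h2 : ((t : H)⁻¹ * (s : H)) * g = g * ((t : H)⁻¹ * (s : H)) := by
        have e1 : (t : H)⁻¹ * (s : H) = g * (t : H)⁻¹ * g⁻¹ * (g * (s : H)⁻¹ * g⁻¹)⁻¹ := by
          have : (t : H)⁻¹ * ((s : H) * (g * (s : H)⁻¹ * g⁻¹)) * (g * (s : H)⁻¹ * g⁻¹)⁻¹ =
              (t : H)⁻¹ * ((t : H) * (g * (t : H)⁻¹ * g⁻¹)) * (g * (s : H)⁻¹ * g⁻¹)⁻¹ := by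
            rw [h1]
          rw [show (t : H)⁻¹ * ((s : H) * (g * (s : H)⁻¹ * g⁻¹)) * (g * (s : H)⁻¹ * g⁻¹)⁻¹ =
            (t : H)⁻¹ * (s : H) by group] at this
          rw [this]; group
        have e2 : g * (t : H)⁻¹ * g⁻¹ * (g * (s : H)⁻¹ * g⁻¹)⁻¹ =
            g * ((t : H)⁻¹ * (s : H)) * g⁻¹ := by group
        rw [e2] at e1
        calc ((t : H)⁻¹ * (s : H)) * g = (g * ((t : H)⁻¹ * (s : H)) * g⁻¹) * g := by rw [← e1]
          _ = g * ((t : H)⁻¹ * (s : H)) := by group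
      have h3 := hgfix _ (S.mul_mem (S.inv_mem t.2) s.2) h2
      apply Subtype.ext
      have : (s : H) = (t : H) * ((t : H)⁻¹ * (s : H)) := by group
      rw [this, h3, mul_one]
    have hbij : Function.Bijective lam := Finite.injective_iff_bijective.1 hinj
    rw [hT]
    rw [← hbij.prod_comp (fun r : S => (r : H) • (g • v))]
    apply Finset.prod_congr rfl
    intro s _
    show ((s : H) * g * (s : H)⁻¹) • v = ((s : H) * (g * (s : H)⁻¹ * g⁻¹)) • (g • v)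
    rw [← mul_smul]
    congr 1
    group
  have hTv : ∀ v : V, T v = v ^ Nat.card S := by
    intro v
    have hA : ∏ s : S, ∏ i ∈ Finset.range m, ((s : H) * α ^ i * (s : H)⁻¹) • v = 1 := by
      apply Finset.prod_eq_one
      intro s _
      have h1 : ∀ i, ((s : H) * α ^ i * (s : H)⁻¹) • v = (s : H) • (α ^ i • ((s : H)⁻¹ • v)) := by
        intro i; rw [mul_smul, mul_smul]
      simp_rw [h1]
      rw [← Finset.smul_prod', hsum, smul_one]
    rw [Finset.prod_comm] at hA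
    obtain ⟨m', hm'⟩ : ∃ m', m = m' + 1 := ⟨m - 1, by omega⟩
    rw [hm', Finset.prod_range_succ'] at hA
    have h0 : ∏ s : S, ((s : H) * α ^ 0 * (s : H)⁻¹) • v = v ^ Nat.card S := by
      have : ∀ s : S, ((s : H) * α ^ 0 * (s : H)⁻¹) • v = v := by
        intro s; simp
      simp_rw [this]
      rw [Finset.prod_const, Finset.card_univ, Nat.card_eq_fintype_card]
    rw [h0] at hA
    have h1 : ∏ i ∈ Finset.range m', ∏ s : S, ((s : H) * α ^ (i + 1) * (s : H)⁻¹) • v =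
        T (∏ i ∈ Finset.range m', α ^ (i + 1) • v) := by
      rw [map_prod]
      apply Finset.prod_congr rfl
      intro i hi
      apply hkey i _ v
      rw [Finset.mem_range] at hi
      omega
    rw [h1] at hA
    have h2 : ∏ i ∈ Finset.range m', α ^ (i + 1) • v = v⁻¹ := by
      have h3 := hsum v
      rw [hm', Finset.prod_range_succ', pow_zero, one_smul] at h3
      exact mul_eq_one_iff_eq_inv.1 h3
    rw [h2, map_inv] at hA
    have := mul_eq_one_iff_eq_inv.1 hA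
    rw [inv_inj] at this
    exact this
  intro t ht v
  have h1 := hTfix t ht v
  rw [hTv, smul_pow'] at h1
  have h2 : ((t • v) / v) ^ Nat.card S = 1 := by rw [div_pow, h1, div_self']
  have h3 := pow_gcd_eq_one.2 ⟨h2, hVp ((t • v) / v)⟩
  rw [Nat.Coprime.gcd_eq_one hSp, pow_one] at h3
  exact div_eq_one.1 h3

/-- The key step: `ζ = α^(p^n)` centralizes the `p'`-group `R` when its `q`-subgroups are
abelian and the norm of `α` vanishes on `V`. -/
theorem core_exp {p : ℕ} (hp : p.Prime) [Finite H] [FaithfulSMul H V]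
    (hVp : ∀ v : V, v ^ p = 1) (α : H) (n : ℕ) (hαm : α ^ p ^ (n + 1) = 1)
    (hsum : ∀ v : V, ∏ i ∈ Finset.range (p ^ (n + 1)), (α ^ i • v) = 1)
    (R : Subgroup H) (n' : ℕ) (hn' : n'.Coprime p) (hRn : ∀ r ∈ R, r ^ n' = 1)
    (hαR : ∀ r ∈ R, α * r * α⁻¹ ∈ R)
    (hab : ∀ q : ℕ, q.Prime → q ≠ p → ∀ T : Subgroup H, T ≤ R → IsPGroup q T →
      ∀ a ∈ T, ∀ b ∈ T, a * b = b * a) :
    ∀ r ∈ R, α ^ p ^ n * r = r * α ^ p ^ n := by
  haveI : Fact p.Prime := ⟨hp⟩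
  by_contra hcon
  push Not at hcon
  obtain ⟨r₀, hr₀, hr₀ne⟩ := hcon
  obtain ⟨ζ, hζ⟩ : ∃ ζ : H, ζ = α ^ p ^ n := ⟨_, rfl⟩
  rw [← hζ] at hr₀ne
  have hζp : ζ ^ p = 1 := by rw [hζ, ← pow_mul, ← pow_succ]; exact hαm
  have hαζ : α * ζ = ζ * α := by
    rw [hζ]; exact ((Commute.refl α).pow_right _).eq
  have hRcard : ¬ p ∣ Nat.card R := by
    intro hd
    obtain ⟨s, hs⟩ := exists_prime_orderOf_dvd_card' (G := R) p hd
    have h1 : s ^ n' = 1 := by
      apply Subtype.ext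
      rw [Subgroup.coe_pow]
      exact hRn s s.2
    have h2 : p ∣ n' := by rw [← hs]; exact orderOf_dvd_of_pow_eq_one h1
    have h3 : p ∣ Nat.gcd n' p := Nat.dvd_gcd h2 dvd_rfl
    rw [Nat.Coprime.gcd_eq_one hn'] at h3
    exact hp.one_lt.ne' (Nat.dvd_one.1 h3)
  -- `A = ⟨α⟩`
  have hαinv : α⁻¹ = α ^ (p ^ (n + 1) - 1) := by
    have hpos : 0 < p ^ (n + 1) := pow_pos hp.pos _
    have : α ^ (p ^ (n + 1) - 1) * α = 1 := by
      rw [← pow_succ, Nat.sub_add_cancel hpos, hαm]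
    exact (eq_inv_of_mul_eq_one_left this).symm
  have hαRinv : ∀ r ∈ R, α⁻¹ * r * α⁻¹⁻¹ ∈ R := by
    intro r hr
    rw [hαinv]
    exact conj_pow_mem R α hαR _ r hr
  have hαN : α ∈ Subgroup.normalizer (R : Set H) := by
    rw [Subgroup.mem_normalizer_iff]
    intro h
    constructor
    · exact hαR h
    · intro hh
      have := hαRinv _ hh
      have e : α⁻¹ * (α * h * α⁻¹) * α⁻¹⁻¹ = h := by group
      rwa [e] at this
  have hAR : Subgroup.zpowers α ≤ Subgroup.normalizer (R : Set H) :=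
    Subgroup.zpowers_le.2 hαN
  have hAp : IsPGroup p (Subgroup.zpowers α) := by
    rintro ⟨g, hg⟩
    obtain ⟨k, rfl⟩ := Subgroup.mem_zpowers_iff.1 hg
    refine ⟨n + 1, Subtype.ext ?_⟩
    rw [Subgroup.coe_pow, Subgroup.coe_one]
    show (α ^ k) ^ p ^ (n + 1) = 1
    rw [← zpow_natCast, ← zpow_mul, mul_comm, zpow_mul, zpow_natCast, hαm, one_zpow]
  have hζA : ζ ∈ Subgroup.zpowers α := by
    rw [hζ]; exact Subgroup.pow_mem _ (Subgroup.mem_zpowers α) _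
  -- an invariant Sylow subgroup not centralized by `ζ`
  have hex : ∃ (q : ℕ) (Q : Subgroup H), q.Prime ∧ Q ≤ R ∧ IsPGroup q Q ∧
      Subgroup.zpowers α ≤ Subgroup.normalizer (Q : Set H) ∧ ∃ s ∈ Q, ζ * s ≠ s * ζ := by
    by_contra hall
    push Not at hall
    obtain ⟨C, hC⟩ : ∃ C : Subgroup H, C = R ⊓ Subgroup.centralizer ({ζ} : Set H) := ⟨_, rfl⟩
    have hCR : C ≤ R := by rw [hC]; exact inf_le_left
    have hdvd : Nat.card R ∣ Nat.card C := by
      have hR0 : Nat.card R ≠ 0 := Nat.card_pos.ne'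
      have hC0 : Nat.card C ≠ 0 := Nat.card_pos.ne'
      rw [← Nat.factorization_prime_le_iff_dvd hR0 hC0]
      intro q hq
      haveI : Fact q.Prime := ⟨hq⟩
      obtain ⟨Q, hQR, hQq, hQc, hQA⟩ :=
        Cfsg.Agent.helper7.exists_invariant_sylow q hAp hRcard hAR
      have hQC : Q ≤ C := by
        intro s hs
        rw [hC]
        refine Subgroup.mem_inf.2 ⟨hQR hs, ?_⟩
        rw [Subgroup.mem_centralizer_iff]
        intro h hh
        rw [Set.mem_singleton_iff] at hh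
        rw [hh]
        exact hall q Q hq hQR hQq hQA s hs
      have h1 : q ^ (Nat.card R).factorization q ∣ Nat.card C := by
        rw [← hQc]; exact Subgroup.card_dvd_of_le hQC
      exact (hq.pow_dvd_iff_le_factorization hC0).1 h1
    have hCeq : C = R :=
      Subgroup.eq_of_le_of_card_ge hCR (Nat.le_of_dvd Nat.card_pos hdvd)
    have h1 : r₀ ∈ C := by rw [hCeq]; exact hr₀
    rw [hC] at h1
    have h2 := (Subgroup.mem_inf.1 h1).2
    rw [Subgroup.mem_centralizer_iff] at h2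
    exact hr₀ne (h2 ζ rfl)
  obtain ⟨q, Q, hq, hQR, hQq, hQA, s₁, hs₁, hs₁ne⟩ := hex
  haveI : Fact q.Prime := ⟨hq⟩
  have hqp : q ≠ p := by
    intro hqp
    apply hs₁ne
    have hQ1 : Nat.card Q = 1 := by
      obtain ⟨k, hk⟩ := IsPGroup.exists_card_eq hQq
      have h1 : Nat.card Q ∣ Nat.card R := Subgroup.card_dvd_of_le hQR
      rw [hk, hqp] at h1
      rcases Nat.eq_zero_or_pos k with h0 | h0
      · rw [hk, h0, pow_zero]
      · exfalso
        exact hRcard (dvd_trans (dvd_pow_self p h0.ne') h1)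
    have : s₁ = 1 := by
      have h2 := Subgroup.card_eq_one.1 hQ1
      have h3 : s₁ ∈ (⊥ : Subgroup H) := by rw [← h2]; exact hs₁
      rwa [Subgroup.mem_bot] at h3
    rw [this, mul_one, one_mul]
  have hQab := hab q hq hqp Q hQR hQq
  have hζQ : ∀ s ∈ Q, ζ * s * ζ⁻¹ ∈ Q := by
    intro s hs
    exact (Subgroup.mem_normalizer_iff.1 (hQA hζA) s).1 hs
  have hαQ : ∀ s ∈ Q, α * s * α⁻¹ ∈ Q := by
    intro s hs
    exact (Subgroup.mem_normalizer_iff.1 (hQA (Subgroup.mem_zpowers α)) s).1 hs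
  -- the subgroup `[Q, ζ]`
  let S : Subgroup H :=
    { carrier := {c | ∃ s ∈ Q, c = s⁻¹ * (ζ * s * ζ⁻¹)}
      one_mem' := ⟨1, Q.one_mem, by group⟩
      mul_mem' := by
        rintro _ _ ⟨s, hs, rfl⟩ ⟨t, ht, rfl⟩
        refine ⟨s * t, Q.mul_mem hs ht, ?_⟩
        have h1 := hQab (ζ * s * ζ⁻¹) (hζQ s hs) t⁻¹ (Q.inv_mem ht)
        calc s⁻¹ * (ζ * s * ζ⁻¹) * (t⁻¹ * (ζ * t * ζ⁻¹))
            = s⁻¹ * ((ζ * s * ζ⁻¹) * t⁻¹) * (ζ * t * ζ⁻¹) := by group
          _ = s⁻¹ * (t⁻¹ * (ζ * s * ζ⁻¹)) * (ζ * t * ζ⁻¹) := by rw [h1]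
          _ = (t⁻¹ * s⁻¹) * (ζ * (s * t) * ζ⁻¹) := by
            have h2 := hQab s⁻¹ (Q.inv_mem hs) t⁻¹ (Q.inv_mem ht)
            calc s⁻¹ * (t⁻¹ * (ζ * s * ζ⁻¹)) * (ζ * t * ζ⁻¹)
                = (s⁻¹ * t⁻¹) * (ζ * (s * t) * ζ⁻¹) := by group
              _ = (t⁻¹ * s⁻¹) * (ζ * (s * t) * ζ⁻¹) := by rw [h2]
          _ = (s * t)⁻¹ * (ζ * (s * t) * ζ⁻¹) := by group
      inv_mem' := by
        rintro _ ⟨s, hs, rfl⟩
        refine ⟨s⁻¹, Q.inv_mem hs, ?_⟩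
        have h1 := hQab (ζ * s⁻¹ * ζ⁻¹) (hζQ _ (Q.inv_mem hs)) s hs
        calc (s⁻¹ * (ζ * s * ζ⁻¹))⁻¹ = (ζ * s⁻¹ * ζ⁻¹) * s := by group
          _ = s * (ζ * s⁻¹ * ζ⁻¹) := h1
          _ = s⁻¹⁻¹ * (ζ * s⁻¹ * ζ⁻¹) := by group }
  have hSmem : ∀ c, c ∈ S ↔ ∃ s ∈ Q, c = s⁻¹ * (ζ * s * ζ⁻¹) := fun c => Iff.rfl
  have hSQ : S ≤ Q := by
    intro c hc
    obtain ⟨s, hs, rfl⟩ := (hSmem c).1 hc
    exact Q.mul_mem (Q.inv_mem hs) (hζQ s hs)
  have hS1 : ∃ c ∈ S, c ≠ 1 := by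
    refine ⟨s₁⁻¹ * (ζ * s₁ * ζ⁻¹), (hSmem _).2 ⟨s₁, hs₁, rfl⟩, ?_⟩
    intro h1
    apply hs₁ne
    have h2 : ζ * s₁ * ζ⁻¹ = s₁ := by
      have := congrArg (fun t => s₁ * t) h1
      simpa using this
    calc ζ * s₁ = (ζ * s₁ * ζ⁻¹) * ζ := by group
      _ = s₁ * ζ := by rw [h2]
  have hαS : ∀ c ∈ S, α * c * α⁻¹ ∈ S := by
    intro c hc
    obtain ⟨s, hs, rfl⟩ := (hSmem c).1 hc
    refine (hSmem _).2 ⟨α * s * α⁻¹, hαQ s hs, ?_⟩
    have hζα : ζ * α = α * ζ := hαζ.symm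
    have hζα' : ζ⁻¹ * α⁻¹ = α⁻¹ * ζ⁻¹ := by
      rw [← mul_inv_rev, ← mul_inv_rev, hαζ]
    calc α * (s⁻¹ * (ζ * s * ζ⁻¹)) * α⁻¹
        = (α * s⁻¹ * α⁻¹) * ((α * ζ) * s * (ζ⁻¹ * α⁻¹)) := by group
      _ = (α * s⁻¹ * α⁻¹) * ((ζ * α) * s * (α⁻¹ * ζ⁻¹)) := by rw [hζα, hζα']
      _ = (α * s * α⁻¹)⁻¹ * (ζ * (α * s * α⁻¹) * ζ⁻¹) := by group
  have hSq : IsPGroup q S := hQq.to_le hSQ
  have hScard : (Nat.card S).Coprime p := by
    obtain ⟨k, hk⟩ := IsPGroup.exists_card_eq hSq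
    rw [hk]
    exact Nat.Coprime.pow_left k ((Nat.coprime_primes hq hp).2 hqp)
  have hfixζ : ∀ c ∈ S, c * ζ = ζ * c → c = 1 := by
    intro c hc hcζ
    obtain ⟨s, hs, hcs⟩ := (hSmem c).1 hc
    have hcQ : c ∈ Q := hSQ hc
    have h1 : ζ * s * ζ⁻¹ = s * c := by rw [hcs]; group
    have h2 : ∀ i : ℕ, ζ ^ i * s * (ζ ^ i)⁻¹ = s * c ^ i := by
      intro i
      induction i with
      | zero => simp
      | succ i ih =>
        have hcζi : ζ * c ^ i * ζ⁻¹ = c ^ i := by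
          have hc' : Commute ζ (c ^ i) := (Commute.pow_right (show Commute ζ c from hcζ.symm) i)
          rw [hc'.eq]; group
        calc ζ ^ (i + 1) * s * (ζ ^ (i + 1))⁻¹ = ζ * (ζ ^ i * s * (ζ ^ i)⁻¹) * ζ⁻¹ := by
              rw [pow_succ']; group
          _ = ζ * (s * c ^ i) * ζ⁻¹ := by rw [ih]
          _ = (ζ * s * ζ⁻¹) * (ζ * c ^ i * ζ⁻¹) := by group
          _ = s * c * c ^ i := by rw [h1, hcζi]
          _ = s * c ^ (i + 1) := by rw [pow_succ', mul_assoc]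
    have h3 := h2 p
    rw [hζp, one_mul, inv_one, mul_one] at h3
    have h4 : c ^ p = 1 := by
      have : s * 1 = s * c ^ p := by rw [mul_one]; exact h3
      exact (mul_left_cancel this).symm
    obtain ⟨k, hk⟩ := hQq ⟨c, hcQ⟩
    have hk' : c ^ q ^ k = 1 := by
      have := congrArg Subtype.val hk
      rwa [Subgroup.coe_pow, Subgroup.coe_one] at this
    have h5 := pow_gcd_eq_one.2 ⟨h4, hk'⟩
    have h6 : Nat.gcd p (q ^ k) = 1 :=
      Nat.Coprime.pow_right k ((Nat.coprime_primes hp hq).2 (Ne.symm hqp))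
    rwa [h6, pow_one] at h5
  have hfix : ∀ i, 0 < i → i < p ^ (n + 1) → ∀ c ∈ S, c * α ^ i = α ^ i * c → c = 1 := by
    intro i hi0 him c hc hci
    apply hfixζ c hc
    obtain ⟨e, i', hi', hie⟩ := Nat.exists_eq_pow_mul_and_not_dvd hi0.ne' p hp.ne_one
    have hen : e ≤ n := by
      by_contra hen
      have h1 : p ^ (n + 1) ≤ p ^ e := Nat.pow_le_pow_right hp.pos (by omega)
      have h2 : p ^ e ≤ i := by
        rw [hie]
        have : 0 < i' := by
          rcases Nat.eq_zero_or_pos i' with h | h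
          · exfalso; apply hi'; rw [h]; exact dvd_zero p
          · exact h
        exact Nat.le_mul_of_pos_right _ this
      omega
    have h1 : (α ^ i) ^ p ^ (n - e) = ζ ^ i' := by
      rw [hζ, ← pow_mul, ← pow_mul, hie]
      congr 1
      have : p ^ n = p ^ e * p ^ (n - e) := by rw [← pow_add]; congr 1; omega
      rw [this]; ring
    have hc1 : Commute c (ζ ^ i') := by
      rw [← h1]; exact (show Commute c (α ^ i) from hci).pow_right _
    have hcop : i'.Coprime (orderOf ζ) := by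
      have hd : orderOf ζ ∣ p := orderOf_dvd_of_pow_eq_one hζp
      exact Nat.Coprime.coprime_dvd_right hd ((Nat.Prime.coprime_iff_not_dvd hp).2 hi').symm
    obtain ⟨j, hj⟩ := exists_pow_eq_self_of_coprime hcop
    have hc2 : Commute c ((ζ ^ i') ^ j) := hc1.pow_right j
    rw [hj] at hc2
    exact hc2.eq
  have htriv := frob_trivial_gen hVp S hScard α (p ^ (n + 1)) (pow_pos hp.pos _) hαS hfix hsum
  obtain ⟨c, hc, hc1⟩ := hS1
  apply hc1
  apply eq_of_smul_eq_smul (α := V)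
  intro v
  rw [htriv c hc v, one_smul]

end act

section primed
variable {V : Type*} [instV : Group V] {H : Type*} [Group H] [MulDistribMulAction H V]

theorem core_exp' (hVc : ∀ a b : V, a * b = b * a) {p : ℕ} (hp : p.Prime) [Finite H]
    [FaithfulSMul H V]
    (hVp : ∀ v : V, v ^ p = 1) (α : H) (n : ℕ) (hαm : α ^ p ^ (n + 1) = 1)
    (hsum : ∀ v : V, rprod α v (p ^ (n + 1)) = 1)
    (R : Subgroup H) (n' : ℕ) (hn' : n'.Coprime p) (hRn : ∀ r ∈ R, r ^ n' = 1)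
    (hαR : ∀ r ∈ R, α * r * α⁻¹ ∈ R)
    (hab : ∀ q : ℕ, q.Prime → q ≠ p → ∀ T : Subgroup H, T ≤ R → IsPGroup q T →
      ∀ a ∈ T, ∀ b ∈ T, a * b = b * a) :
    ∀ r ∈ R, α ^ p ^ n * r = r * α ^ p ^ n := by
  have hsum' : ∀ v : V, @Finset.prod ℕ V (@CommGroup.toCommMonoid V (@CommGroup.mk V instV hVc))
      (Finset.range (p ^ (n + 1))) (fun i => α ^ i • v) = 1 := by
    intro v
    rw [← @rprod_eq_prod V (@CommGroup.mk V instV hVc) H _ _ α v (p ^ (n + 1))]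
    exact hsum v
  exact @core_exp V (@CommGroup.mk V instV hVc) H _ _ p hp _ _ hVp α n hαm hsum' R n' hn' hRn hαR
    hab

end primed

end Cfsg.Agent.helper19.CN
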