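import Mathlib
import Cfsg.Agent.Lib_helper19_PLen

set_option autoImplicit false
set_option linter.style.haveILetI false

namespace Cfsg.Agent.helper19

open Cfsg Cfsg.Agent.helper23

universe u

section
variable {G : Type*} [Group G]

/-- The derived series of a subgroup, computed inside the ambient group. -/
def dser (H : Subgroup G) : ℕ → Subgroup G
  | 0 => H
  | n + 1 => ⁅dser H n, dser H n⁆

theorem dser_mono {H K : Subgroup G} (h : H ≤ K) (n : ℕ) : dser H n ≤ dser K n := by
  induction n with
  | zero => exact h
  | succ n ih => exact Subgroup.commutator_mono ih ih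

theorem dser_top (n : ℕ) : dser (⊤ : Subgroup G) n = derivedSeries G n := by
  induction n with
  | zero => rfl
  | succ n ih =>
    rw [derivedSeries_succ, ← ih]
    rfl

theorem dser_add (H : Subgroup G) (a b : ℕ) : dser (dser H a) b = dser H (a + b) := by
  induction b with
  | zero => rfl
  | succ b ih =>
    show ⁅dser (dser H a) b, dser (dser H a) b⁆ = _
    rw [ih]
    rfl

theorem map_dser {G' : Type*} [Group G'] (f : G →* G') (H : Subgroup G) (n : ℕ) :
    (dser H n).map f = dser (H.map f) n := by
  induction n with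
  | zero => rfl
  | succ n ih =>
    show (⁅dser H n, dser H n⁆).map f = ⁅dser (H.map f) n, dser (H.map f) n⁆
    rw [Subgroup.map_commutator, ih]

theorem dser_eq_map_subtype (H : Subgroup G) (n : ℕ) :
    dser H n = (derivedSeries ↥H n).map H.subtype := by
  rw [← dser_top, map_dser, ← MonoidHom.range_eq_map, Subgroup.range_subtype]

theorem dser_ups_two_le [Finite G] {p : ℕ} [Fact p.Prime] {d : ℕ}
    (hd : ∀ S : Sylow p G, dser (S : Subgroup G) d = ⊥) :
    dser (ups p G 2) d ≤ ups p G 1 := by
  obtain ⟨S⟩ : Nonempty (Sylow p G) := inferInstance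
  have hf : Function.Surjective (QuotientGroup.mk' (ups p G 1)) :=
    QuotientGroup.mk'_surjective _
  have h1 : (ups p G 2).map (QuotientGroup.mk' (ups p G 1)) =
      Cfsg.pCore p (G ⧸ ups p G 1) := by
    show ((Cfsg.upperPSeries p G (1 + 1)).1).map (QuotientGroup.mk' (ups p G 1)) = _
    rw [upperPSeries_succ_of_not_even p 1 (by decide),
      Subgroup.map_comap_eq_self_of_surjective hf]
  have h2 : Cfsg.pCore p (G ⧸ ups p G 1) ≤
      (S : Subgroup G).map (QuotientGroup.mk' (ups p G 1)) := by
    have := Cfsg.Agent.helper1.pCore_le_sylow (S.mapSurjective hf)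
    rwa [Sylow.coe_mapSurjective] at this
  have h3 : (dser (ups p G 2) d).map (QuotientGroup.mk' (ups p G 1)) ≤ ⊥ := by
    rw [map_dser, h1]
    calc dser (Cfsg.pCore p (G ⧸ ups p G 1)) d
        ≤ dser ((S : Subgroup G).map (QuotientGroup.mk' (ups p G 1))) d := dser_mono h2 d
      _ = (dser (S : Subgroup G) d).map (QuotientGroup.mk' (ups p G 1)) :=
          (map_dser _ _ d).symm
      _ = ⊥ := by rw [hd S, Subgroup.map_bot]
  intro x hx
  have h4 : QuotientGroup.mk' (ups p G 1) x ∈
      (dser (ups p G 2) d).map (QuotientGroup.mk' (ups p G 1)) := ⟨x, hx, rfl⟩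
  have h5 := h3 h4
  rw [Subgroup.mem_bot] at h5
  exact (QuotientGroup.eq_one_iff x).1 h5

end

theorem sum_update_pred {r : ℕ} (l : Fin r → ℕ) (i : Fin r) (h : 1 ≤ l i) :
    ∑ j, Function.update l i (l i - 1) j + 1 = ∑ j, l j := by
  rw [← Finset.add_sum_erase Finset.univ _ (Finset.mem_univ i),
    ← Finset.add_sum_erase Finset.univ l (Finset.mem_univ i)]
  have e : ∑ j ∈ Finset.univ.erase i, Function.update l i (l i - 1) j =
      ∑ j ∈ Finset.univ.erase i, l j := by
    apply Finset.sum_congr rfl
    intro j hj
    rw [Function.update_of_ne (Finset.ne_of_mem_erase hj)]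
  rw [e, Function.update_self]
  omega

theorem sum_mul_update_pred {r : ℕ} (d l : Fin r → ℕ) (i : Fin r) (h : 1 ≤ l i) :
    ∑ j, d j * Function.update l i (l i - 1) j + d i = ∑ j, d j * l j := by
  rw [← Finset.add_sum_erase Finset.univ _ (Finset.mem_univ i),
    ← Finset.add_sum_erase Finset.univ (fun j => d j * l j) (Finset.mem_univ i)]
  have e : ∑ j ∈ Finset.univ.erase i, d j * Function.update l i (l i - 1) j =
      ∑ j ∈ Finset.univ.erase i, d j * l j := by
    apply Finset.sum_congr rfl
    intro j hj
    rw [Function.update_of_ne (Finset.ne_of_mem_erase hj)]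
  rw [e, Function.update_self]
  obtain ⟨b, hb⟩ : ∃ b, l i = b + 1 := ⟨l i - 1, by omega⟩
  rw [hb]
  simp only [Nat.add_sub_cancel]
  ring

theorem derived_length_bound (N : ℕ) : ∀ (G : Type u) [Group G] [Finite G] (r : ℕ)
    (q : Fin r → ℕ) (_ : ∀ i, (q i).Prime)
    (_ : ∀ s : ℕ, s.Prime → s ∣ Nat.card G → ∃ i, q i = s) (d l : Fin r → ℕ)
    (_ : ∀ i, ∀ S : Sylow (q i) G, dser (S : Subgroup G) (d i) = ⊥)
    (_ : ∀ i, Cfsg.PLengthLE (q i) (l i) G), ∑ i, l i = N →
    derivedSeries G (∑ i, d i * l i) = ⊥ := by
  induction N with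
  | zero =>
    intro G _ _ r q hq hcover d l hd hl hsum
    have hl0 : ∀ i, l i = 0 := by
      intro i
      have := Finset.sum_eq_zero_iff.1 hsum i (Finset.mem_univ i)
      exact this
    have hcard : Nat.card G = 1 := by
      by_contra hne
      obtain ⟨s, hs, hsd⟩ := Nat.exists_prime_and_dvd hne
      obtain ⟨i, rfl⟩ := hcover s hs hsd
      have h1 := hl i
      rw [hl0 i] at h1
      have h2 := coprime_card_of_pLengthLE_zero h1
      exact (Nat.Prime.coprime_iff_not_dvd hs).1 h2.symm hsd
    haveI : Subsingleton G := (Nat.card_eq_one_iff_unique.1 hcard).1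
    exact Subsingleton.elim _ _
  | succ N ih =>
    intro G _ _ r q hq hcover d l hd hl hsum
    have key : ∀ i, q i ∣ Nat.card G →
        derivedSeries G (∑ j, d j * l j) ≤ ups (q i) G 1 := by
      intro i hdvd
      haveI : Fact (q i).Prime := ⟨hq i⟩
      have hli : 1 ≤ l i := by
        by_contra h0
        have h0' : l i = 0 := by omega
        have h1 := hl i
        rw [h0'] at h1
        have h2 := coprime_card_of_pLengthLE_zero h1
        exact (Nat.Prime.coprime_iff_not_dvd (hq i)).1 h2.symm hdvd
      have hf : Function.Surjective (QuotientGroup.mk' (ups (q i) G 2)) :=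
        QuotientGroup.mk'_surjective _
      have hcover' : ∀ s : ℕ, s.Prime → s ∣ Nat.card (G ⧸ ups (q i) G 2) → ∃ j, q j = s := by
        intro s hs hsd
        apply hcover s hs
        rw [← Subgroup.index_eq_card] at hsd
        exact hsd.trans (Subgroup.index_dvd_card _)
      have hd' : ∀ j, ∀ S : Sylow (q j) (G ⧸ ups (q i) G 2),
          dser (S : Subgroup (G ⧸ ups (q i) G 2)) (d j) = ⊥ := by
        intro j S
        haveI : Fact (q j).Prime := ⟨hq j⟩
        obtain ⟨S₀, rfl⟩ := Sylow.mapSurjective_surjective hf (q j) S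
        rw [Sylow.coe_mapSurjective, ← map_dser, hd j S₀, Subgroup.map_bot]
      have hl' : ∀ j, Cfsg.PLengthLE (q j) (Function.update l i (l i - 1) j)
          (G ⧸ ups (q i) G 2) := by
        intro j
        by_cases hji : j = i
        · subst hji
          rw [Function.update_self]
          apply pLengthLE_quotient_ups_two
          have : l j - 1 + 1 = l j := by omega
          rw [this]; exact hl j
        · rw [Function.update_of_ne hji]
          haveI : Fact (q j).Prime := ⟨hq j⟩
          exact pLengthLE_of_surjective _ hf (hl j)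
      have hsum' : ∑ j, Function.update l i (l i - 1) j = N := by
        have := sum_update_pred l i hli
        omega
      have h1 := ih (G ⧸ ups (q i) G 2) r q hq hcover' d (Function.update l i (l i - 1))
        hd' hl' hsum'
      have hS := sum_mul_update_pred d l i hli
      have h2 : derivedSeries G (∑ j, d j * Function.update l i (l i - 1) j) ≤
          ups (q i) G 2 := by
        intro x hx
        have h3 : QuotientGroup.mk' (ups (q i) G 2) x ∈
            (derivedSeries G (∑ j, d j * Function.update l i (l i - 1) j)).map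
              (QuotientGroup.mk' (ups (q i) G 2)) := ⟨x, hx, rfl⟩
        rw [map_derivedSeries_eq hf, h1, Subgroup.mem_bot] at h3
        exact (QuotientGroup.eq_one_iff x).1 h3
      rw [← hS, ← dser_top, ← dser_add, dser_top]
      exact (dser_mono h2 (d i)).trans (dser_ups_two_le (hd i))
    rw [← Subgroup.card_eq_one]
    by_contra hne
    obtain ⟨s, hs, hsd⟩ := Nat.exists_prime_and_dvd hne
    have hsG : s ∣ Nat.card G := hsd.trans (Subgroup.card_subgroup_dvd_card _)
    obtain ⟨i, rfl⟩ := hcover s hs hsG
    have h1 := Subgroup.card_dvd_of_le (key i hsG)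
    have h2 := coprime_card_ups_one (G := G) (q i)
    exact (Nat.Prime.coprime_iff_not_dvd hs).1 h2.symm (hsd.trans h1)

end Cfsg.Agent.helper19
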