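import Mathlib
import Cfsg.Agent.Lib_helper19_PLen2

set_option autoImplicit false
set_option linter.style.haveILetI false

namespace Cfsg.Agent.helper19

open Cfsg Cfsg.Agent.helper23

universe u

section
variable {G : Type*} [Group G]

theorem ups_mono (p : ℕ) : Monotone (ups p G) :=
  monotone_nat_of_le_succ (ups_le_succ p)

theorem pLengthLE_mono {p a b : ℕ} (hab : a ≤ b) (h : Cfsg.PLengthLE p a G) :
    Cfsg.PLengthLE p b G := by
  have h1 : ups p G (2 * a + 1) = ⊤ := h
  have h2 : ups p G (2 * a + 1) ≤ ups p G (2 * b + 1) := ups_mono p (by omega)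
  rw [h1] at h2
  exact top_le_iff.1 h2

/-- The terms of the upper `p`-series are characteristic. -/
theorem ups_characteristic [Finite G] (p : ℕ) [Fact p.Prime] (n : ℕ) :
    (ups p G n).Characteristic := by
  rw [Subgroup.characteristic_iff_map_le]
  intro φ
  have h0 : (ups p G 0).map φ.toMonoidHom ≤ ups p G 0 := by
    rw [ups_zero, Subgroup.map_bot]
  have := map_ups_le φ.toMonoidHom φ.surjective Iff.rfl h0 n
  simpa using this

/-- The upper `p`-series of a normal subgroup lies in that of the group. -/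
theorem map_ups_subtype_le [Finite G] (p : ℕ) [Fact p.Prime] (N : Subgroup G) [N.Normal] (n : ℕ) :
    (ups p ↥N n).map N.subtype ≤ ups p G n := by
  induction n with
  | zero => rw [ups_zero, Subgroup.map_bot]; exact bot_le
  | succ n ih =>
    haveI := ups_characteristic (G := ↥N) p (n + 1)
    have hnormal : ((ups p ↥N (n + 1)).map N.subtype).Normal :=
      ConjAct.normal_of_characteristic_of_normal
    have hle : (ups p ↥N n).map N.subtype ≤ (ups p ↥N (n + 1)).map N.subtype :=
      Subgroup.map_mono (ups_le_succ p n)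
    have hdvd := relIndex_map_dvd N.subtype (Cfsg.upperPSeries_normal p ↥N n) (ups_le_succ p n)
    by_cases hev : Even n
    · have hc := relIndex_ups_even (G := ↥N) p hev
      exact le_ups_succ_of_even hev hnormal hle ih (Nat.Coprime.coprime_dvd_left hdvd hc)
    · obtain ⟨k, hk⟩ := relIndex_ups_odd (G := ↥N) p hev
      rw [hk] at hdvd
      obtain ⟨i, _, hi⟩ := (Nat.dvd_prime_pow (Fact.out : p.Prime)).1 hdvd
      exact le_ups_succ_of_odd hev hnormal hle ih ⟨i, hi⟩

theorem le_ups_of_pLengthLE_subgroup [Finite G] {p : ℕ} [Fact p.Prime] (N : Subgroup G)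
    [N.Normal] {a : ℕ} (h : Cfsg.PLengthLE p a ↥N) : N ≤ ups p G (2 * a + 1) := by
  have h1 : ups p ↥N (2 * a + 1) = ⊤ := h
  have h2 := map_ups_subtype_le p N (2 * a + 1)
  rw [h1, ← MonoidHom.range_eq_map, Subgroup.range_subtype] at h2
  exact h2

/-- A normal subgroup inherits the bound on the `p`-length. -/
theorem subgroupOf_ups_le [Finite G] (p : ℕ) [Fact p.Prime] (N : Subgroup G) [N.Normal] (n : ℕ) :
    (ups p G n).subgroupOf N ≤ ups p ↥N n := by
  induction n with
  | zero =>
    rw [ups_zero, ups_zero, Subgroup.bot_subgroupOf]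
  | succ n ih =>
    have hnormal : ((ups p G (n + 1)).subgroupOf N).Normal :=
      (Cfsg.upperPSeries_normal p G (n + 1)).subgroupOf N
    have hle : (ups p G n).subgroupOf N ≤ (ups p G (n + 1)).subgroupOf N := by
      intro x hx
      exact ups_le_succ p n hx
    have hdvd : ((ups p G n).subgroupOf N).relIndex ((ups p G (n + 1)).subgroupOf N) ∣
        (ups p G n).relIndex (ups p G (n + 1)) := by
      rw [← Subgroup.inf_subgroupOf_right (ups p G n), ← Subgroup.inf_subgroupOf_right (ups p G (n + 1)),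
        Subgroup.relIndex_subgroupOf inf_le_right]
      exact relIndex_inf_dvd (Cfsg.upperPSeries_normal p G n) (ups_le_succ p n)
    by_cases hev : Even n
    · have hc := relIndex_ups_even (G := G) p hev
      exact le_ups_succ_of_even hev hnormal hle ih (Nat.Coprime.coprime_dvd_left hdvd hc)
    · obtain ⟨k, hk⟩ := relIndex_ups_odd (G := G) p hev
      rw [hk] at hdvd
      obtain ⟨i, _, hi⟩ := (Nat.dvd_prime_pow (Fact.out : p.Prime)).1 hdvd
      exact le_ups_succ_of_odd hev hnormal hle ih ⟨i, hi⟩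

theorem pLengthLE_subgroup [Finite G] {p : ℕ} [Fact p.Prime] (N : Subgroup G) [N.Normal] {k : ℕ}
    (h : Cfsg.PLengthLE p k G) : Cfsg.PLengthLE p k ↥N := by
  have h1 : ups p G (2 * k + 1) = ⊤ := h
  have h2 := subgroupOf_ups_le p N (2 * k + 1)
  rw [h1, Subgroup.top_subgroupOf] at h2
  exact top_le_iff.1 h2

theorem pLengthLE_zero_of_coprime [Finite G] {p : ℕ} (h : (Nat.card G).Coprime p) :
    Cfsg.PLengthLE p 0 G := by
  have h1 : (⊤ : Subgroup G) ≤ ups p G (0 + 1) := by
    apply le_ups_succ_of_even (by decide) inferInstance (bot_le : (⊥ : Subgroup G) ≤ ⊤) bot_le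
    rw [Subgroup.relIndex_bot_left, Subgroup.card_top]
    exact h
  exact top_le_iff.1 h1

theorem pLengthLE_one_of_isPGroup [Finite G] {p : ℕ} [Fact p.Prime] (h : IsPGroup p G) :
    Cfsg.PLengthLE p 1 G := by
  have h1 : (⊤ : Subgroup G) ≤ ups p G (1 + 1) := by
    apply le_ups_succ_of_odd (by decide) inferInstance (bot_le : (⊥ : Subgroup G) ≤ ⊤) bot_le
    rw [Subgroup.relIndex_bot_left, Subgroup.card_top]
    exact IsPGroup.iff_card.1 h
  have h2 : ups p G (1 + 1) ≤ ups p G (2 * 1 + 1) := ups_mono p (by norm_num)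
  exact top_le_iff.1 (h1.trans h2)

/-- Extensions by `p'`-groups stay inside an odd term of the upper `p`-series. -/
theorem le_ups_odd_of_coprime [Finite G] {p : ℕ} [Fact p.Prime] {m : ℕ} (hm : Even m)
    {Y Y₀ : Subgroup G} (hY : Y.Normal) (hY₀Y : Y₀ ≤ Y) (hY₀U : Y₀ ≤ ups p G (m + 1))
    (hcop : (Y₀.relIndex Y).Coprime p) : Y ≤ ups p G (m + 1) := by
  have hM : ups p G (m + 1) =
      (Cfsg.pPrimeCore p (G ⧸ ups p G m)).comap (QuotientGroup.mk' (ups p G m)) :=
    upperPSeries_succ_of_even p m hm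
  have hbot := pPrimeCore_quotient_comap_eq_bot p (ups p G m) (ups p G (m + 1)) hM
  have hd := card_map_mk'_dvd (N := ups p G (m + 1)) hY₀Y hY₀U
  have hc : (Nat.card ↥(Y.map (QuotientGroup.mk' (ups p G (m + 1))))).Coprime p :=
    Nat.Coprime.coprime_dvd_left hd hcop
  have hnorm : (Y.map (QuotientGroup.mk' (ups p G (m + 1)))).Normal :=
    hY.map _ (QuotientGroup.mk'_surjective _)
  have hle := Cfsg.Agent.helper1.le_pPrimeCore hnorm hc
  rw [hbot] at hle
  intro y hy
  have h1 : QuotientGroup.mk' (ups p G (m + 1)) y ∈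
      Y.map (QuotientGroup.mk' (ups p G (m + 1))) := ⟨y, hy, rfl⟩
  have h2 := hle h1
  rw [Subgroup.mem_bot] at h2
  exact (QuotientGroup.eq_one_iff y).1 h2

/-- Pulling the upper `p`-series of a quotient back to the group. -/
theorem comap_ups_le [Finite G] {p : ℕ} [Fact p.Prime] (N : Subgroup G) [N.Normal] {n₀ m : ℕ}
    (hpar : Even n₀ ↔ Even m)
    (h : (ups p (G ⧸ N) n₀).comap (QuotientGroup.mk' N) ≤ ups p G m) :
    ∀ j : ℕ, (ups p (G ⧸ N) (n₀ + j)).comap (QuotientGroup.mk' N) ≤ ups p G (m + j) := by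
  intro j
  induction j with
  | zero => simpa using h
  | succ j ih =>
    have hpar' : Even (n₀ + j) ↔ Even (m + j) := by
      rw [Nat.even_add, Nat.even_add, hpar]
    have hf : Function.Surjective (QuotientGroup.mk' N) := QuotientGroup.mk'_surjective N
    have hnormal : ((ups p (G ⧸ N) (n₀ + j + 1)).comap (QuotientGroup.mk' N)).Normal :=
      (Cfsg.upperPSeries_normal p (G ⧸ N) (n₀ + j + 1)).comap _
    have hle : (ups p (G ⧸ N) (n₀ + j)).comap (QuotientGroup.mk' N) ≤
        (ups p (G ⧸ N) (n₀ + j + 1)).comap (QuotientGroup.mk' N) :=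
      Subgroup.comap_mono (ups_le_succ p (n₀ + j))
    have hri : ((ups p (G ⧸ N) (n₀ + j)).comap (QuotientGroup.mk' N)).relIndex
        ((ups p (G ⧸ N) (n₀ + j + 1)).comap (QuotientGroup.mk' N)) =
        (ups p (G ⧸ N) (n₀ + j)).relIndex (ups p (G ⧸ N) (n₀ + j + 1)) := by
      rw [Subgroup.relIndex_comap, Subgroup.map_comap_eq_self_of_surjective hf]
    by_cases hev : Even (n₀ + j)
    · have hev' : Even (m + j) := hpar'.1 hev
      have hc := relIndex_ups_even (G := G ⧸ N) p hev
      rw [← hri] at hc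
      exact le_ups_succ_of_even hev' hnormal hle ih hc
    · have hev' : ¬ Even (m + j) := fun h' => hev (hpar'.2 h')
      obtain ⟨k, hk⟩ := relIndex_ups_odd (G := G ⧸ N) p hev
      rw [← hri] at hk
      exact le_ups_succ_of_odd hev' hnormal hle ih ⟨k, hk⟩

theorem ups_one_quotient_ups_odd [Finite G] {p : ℕ} [Fact p.Prime] {m : ℕ} (hm : Even m) :
    ups p (G ⧸ ups p G (m + 1)) 1 = ⊥ := by
  have hM : ups p G (m + 1) =
      (Cfsg.pPrimeCore p (G ⧸ ups p G m)).comap (QuotientGroup.mk' (ups p G m)) :=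
    upperPSeries_succ_of_even p m hm
  have hbot := pPrimeCore_quotient_comap_eq_bot p (ups p G m) (ups p G (m + 1)) hM
  rw [eq_bot_iff, ← hbot]
  exact Cfsg.Agent.helper1.le_pPrimeCore (Cfsg.upperPSeries_normal p _ 1)
    (coprime_card_ups_one (G := G ⧸ ups p G (m + 1)) p)

/-- Subadditivity of the `p`-length along `1 ≤ K ≤ W ≤ G` with `W/K` a `p'`-group. -/
theorem pLengthLE_add [Finite G] {p : ℕ} [Fact p.Prime] (K W : Subgroup G) [K.Normal] [W.Normal]
    (hKW : K ≤ W) (hcop : (K.relIndex W).Coprime p) {a b : ℕ} (ha : Cfsg.PLengthLE p a ↥K)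
    (hb : Cfsg.PLengthLE p b (G ⧸ W)) : Cfsg.PLengthLE p (a + b) G := by
  have hK : K ≤ ups p G (2 * a + 1) := le_ups_of_pLengthLE_subgroup K ha
  have hW : W ≤ ups p G (2 * a + 1) :=
    le_ups_odd_of_coprime (even_two_mul a) inferInstance hKW hK hcop
  have hsurj : Function.Surjective (QuotientGroup.map W (ups p G (2 * a + 1)) (MonoidHom.id G)
      (by rw [Subgroup.comap_id]; exact hW)) := by
    intro y
    obtain ⟨x, rfl⟩ := QuotientGroup.mk'_surjective _ y
    exact ⟨QuotientGroup.mk' W x, rfl⟩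
  have hb' : Cfsg.PLengthLE p b (G ⧸ ups p G (2 * a + 1)) := pLengthLE_of_surjective _ hsurj hb
  have hbase : (ups p (G ⧸ ups p G (2 * a + 1)) 1).comap
      (QuotientGroup.mk' (ups p G (2 * a + 1))) ≤ ups p G (2 * a + 1) := by
    rw [ups_one_quotient_ups_odd (even_two_mul a)]
    intro x hx
    rw [Subgroup.mem_comap, Subgroup.mem_bot] at hx
    exact (QuotientGroup.eq_one_iff x).1 hx
  have hpar : Even 1 ↔ Even (2 * a + 1) := by
    constructor
    · intro h; exact absurd h (by decide)
    · intro h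
      exact absurd h (by rw [Nat.even_add_one, not_not]; exact even_two_mul a)
  have h1 := comap_ups_le (ups p G (2 * a + 1)) hpar hbase (2 * b)
  have h2 : ups p (G ⧸ ups p G (2 * a + 1)) (1 + 2 * b) = ⊤ := by
    have : 1 + 2 * b = 2 * b + 1 := by ring
    rw [this]; exact hb'
  rw [h2, Subgroup.comap_top] at h1
  have h3 : 2 * a + 1 + 2 * b = 2 * (a + b) + 1 := by ring
  rw [h3] at h1
  exact top_le_iff.1 h1

end

end Cfsg.Agent.helper19
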