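import Mathlib
import Cfsg.Prelude.Def_LocalEven
import Cfsg.Agent.Lib_helper19_CN3
import Cfsg.Agent.Lib_helper19_CN4
import Cfsg.Agent.Lib_helper19_PLen3

/-! `p`-length at most `n` for `p`-soluble groups with abelian `p'`-Sylow subgroups and Sylow
`p`-subgroups of exponent dividing `p^n` (helper19). -/

set_option autoImplicit false
set_option linter.style.haveILetI false

namespace Cfsg.Agent.helper19.CN

open scoped commutatorElement

universe u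

/-- all `q`-subgroups (`q ≠ p`) are abelian -/
def HypAb (p : ℕ) (G : Type*) [Group G] : Prop :=
  ∀ q : ℕ, q.Prime → q ≠ p → ∀ T : Subgroup G, IsPGroup q T → ∀ a ∈ T, ∀ b ∈ T, a * b = b * a

theorem HypAb.range {p : ℕ} {G : Type*} [Group G] [Finite G] (h : HypAb p G) {H' : Type*}
    [Group H'] (f : G →* H') (q : ℕ) (hq : q.Prime) (hqp : q ≠ p) (T : Subgroup H')
    (hT : T ≤ f.range) (hTq : IsPGroup q T) : ∀ a ∈ T, ∀ b ∈ T, a * b = b * a := by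
  haveI : Fact q.Prime := ⟨hq⟩
  have hsurj : Function.Surjective f.rangeRestrict := f.rangeRestrict_surjective
  have hT'q : IsPGroup q (T.subgroupOf f.range) := hTq.comap_subtype
  obtain ⟨Q', hQ'⟩ := hT'q.exists_le_sylow
  obtain ⟨Q, rfl⟩ := Sylow.mapSurjective_surjective hsurj q Q'
  have hQab := h q hq hqp (Q : Subgroup G) Q.isPGroup'
  have hlift : ∀ a ∈ T, ∃ g ∈ (Q : Subgroup G), f g = a := by
    intro a ha
    have h1 : (⟨a, hT ha⟩ : ↥f.range) ∈ T.subgroupOf f.range := by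
      rw [Subgroup.mem_subgroupOf]; exact ha
    have h2 := hQ' h1
    rw [Sylow.coe_mapSurjective] at h2
    obtain ⟨g, hg, hga⟩ := h2
    refine ⟨g, hg, ?_⟩
    have := congrArg Subtype.val hga
    simpa using this
  intro a ha b hb
  obtain ⟨g, hg, rfl⟩ := hlift a ha
  obtain ⟨g', hg', rfl⟩ := hlift b hb
  rw [← map_mul, ← map_mul, hQab g hg g' hg']

theorem HypAb.quotient {p : ℕ} {G : Type*} [Group G] [Finite G] (h : HypAb p G)
    (N : Subgroup G) [N.Normal] : HypAb p (G ⧸ N) := by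
  intro q hq hqp T hTq
  apply h.range (QuotientGroup.mk' N) q hq hqp T _ hTq
  rw [MonoidHom.range_eq_top.2 (QuotientGroup.mk'_surjective N)]
  exact le_top

section grp
variable {Y : Type*} [Group Y]

/-- The group-level core for exponent `p^(n+1)`. -/
theorem main2' [Finite Y] {p : ℕ} [hp : Fact p.Prime] (V R : Subgroup Y) [hVn : V.Normal]
    [hRn : R.Normal]
    (hVc : ∀ u ∈ V, ∀ v ∈ V, u * v = v * u) (hVp : ∀ v ∈ V, v ^ p = 1)
    (hCV : Subgroup.centralizer (V : Set Y) ≤ V) (n' : ℕ) (hn' : n'.Coprime p)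
    (hRV : ∀ r ∈ R, r ^ n' ∈ V) (n : ℕ) (x x' : Y) (hx : x ^ p ^ (n + 1) = 1)
    (hvx : ∀ v ∈ V, (v * x) ^ p ^ (n + 1) = 1) (hx' : x' ∈ R)
    (hax : x ^ p ^ n * x' * (x ^ p ^ n)⁻¹ * x'⁻¹ ∉ V)
    (hab : ∀ q : ℕ, q.Prime → q ≠ p → ∀ T : Subgroup (MulAut ↥V),
      T ≤ (MulAut.conjNormal : Y →* MulAut ↥V).range → IsPGroup q T →
      ∀ a ∈ T, ∀ b ∈ T, a * b = b * a) : False := by
  obtain ⟨ρ, hρdef⟩ : ∃ ρ : Y →* MulAut ↥V, ρ = MulAut.conjNormal := ⟨_, rfl⟩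
  rw [← hρdef] at hab
  have hρ : ∀ (g : Y) (v : ↥V), ((ρ g • v : ↥V) : Y) = g * v * g⁻¹ := by
    intro g v
    rw [hρdef, MulAut.smul_def, MulAut.conjNormal_apply]
  have hcomm : ∀ u v : ↥V, u * v = v * u := fun u v => Subtype.ext (hVc u u.2 v v.2)
  have hVp' : ∀ v : ↥V, v ^ p = 1 := fun v =>
    Subtype.ext (by rw [Subgroup.coe_pow]; exact hVp v v.2)
  have hker : ∀ g : Y, ρ g = 1 → g ∈ V := by
    intro g hg
    apply hCV
    rw [Subgroup.mem_centralizer_iff]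
    intro v hv
    have h1 := hρ g ⟨v, hv⟩
    rw [hg, one_smul] at h1
    have h2 : v = g * v * g⁻¹ := h1
    calc v * g = g * v * g⁻¹ * g := by rw [← h2]
      _ = g * v := by group
  have hVker : ∀ g ∈ V, ρ g = 1 := by
    intro g hg
    apply MulEquiv.ext
    intro v
    apply Subtype.ext
    have h1 := hρ g v
    rw [MulAut.smul_def] at h1
    rw [h1, MulAut.one_apply, hVc g hg v v.2]
    group
  haveI : Finite (MulAut ↥V) :=
    Finite.of_injective (fun f : MulAut ↥V => (f : ↥V → ↥V)) (fun f g hfg => MulEquiv.ext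
      (fun v => congrFun hfg v))
  have hαm : (ρ x) ^ p ^ (n + 1) = 1 := by rw [← map_pow, hx, map_one]
  have hsum : ∀ v : ↥V, rprod (ρ x) v (p ^ (n + 1)) = 1 := by
    intro v
    have h1 := mul_pow_eq_cprod x (v : Y) (p ^ (n + 1))
    rw [hvx v v.2, hx, mul_one] at h1
    apply Subtype.ext
    rw [Subgroup.coe_one, hρdef, ← cprod_eq_rprod V x v]
    exact h1.symm
  obtain ⟨Rb, hRb⟩ : ∃ Rb : Subgroup (MulAut ↥V), Rb = R.map ρ := ⟨_, rfl⟩
  have hRbn : ∀ r ∈ Rb, r ^ n' = 1 := by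
    rw [hRb]; rintro _ ⟨r, hr, rfl⟩; rw [← map_pow]; exact hVker _ (hRV r hr)
  have hαRb : ∀ r ∈ Rb, ρ x * r * (ρ x)⁻¹ ∈ Rb := by
    rw [hRb]; rintro _ ⟨r, hr, rfl⟩
    exact ⟨x * r * x⁻¹, hRn.conj_mem r hr x, by rw [map_mul, map_mul, map_inv]⟩
  have hRbrange : Rb ≤ ρ.range := by
    rw [hRb]; rintro _ ⟨r, _, rfl⟩; exact ⟨r, rfl⟩
  have hab' : ∀ q : ℕ, q.Prime → q ≠ p → ∀ T : Subgroup (MulAut ↥V), T ≤ Rb → IsPGroup q T →
      ∀ a ∈ T, ∀ b ∈ T, a * b = b * a :=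
    fun q hq hqp T hT hTq => hab q hq hqp T (hT.trans hRbrange) hTq
  have hmain := core_exp' hcomm hp.out hVp' (ρ x) n hαm hsum Rb n' hn' hRbn hαRb hab'
  have h1 := hmain (ρ x') (by rw [hRb]; exact ⟨x', hx', rfl⟩)
  apply hax
  apply hker
  rw [map_mul, map_mul, map_mul, map_inv, map_inv, map_pow, h1]
  group

end grp

/-- The key theorem for groups with `O_{p'}(Y) = 1`. -/
theorem kt1 {Y : Type u} [Group Y] [Finite Y] {p : ℕ} [hp : Fact p.Prime]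
    (hps : Cfsg.IsPSolvable p Y) (hO : Cfsg.pPrimeCore p Y = ⊥) (hab : HypAb p Y) (n : ℕ)
    (hexp : ∀ (P : Sylow p Y), ∀ x ∈ (P : Subgroup Y), x ^ p ^ (n + 1) = 1) :
    ∀ (P : Sylow p Y), ∀ y ∈ (P : Subgroup Y), y ^ p ^ n ∈ Cfsg.pCore p Y := by
  by_contra hcon
  push Not at hcon
  obtain ⟨P, y, hyP, hzQ⟩ := hcon
  obtain ⟨Q, hQ⟩ : ∃ Q : Subgroup Y, Q = Cfsg.pCore p Y := ⟨_, rfl⟩
  have hQn : Q.Normal := by rw [hQ]; infer_instance
  have hQp : IsPGroup p Q := by rw [hQ]; exact Cfsg.Agent.helper1.pCore_isPGroup p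
  have hQP : Q ≤ (P : Subgroup Y) := by rw [hQ]; exact Cfsg.Agent.helper1.pCore_le_sylow P
  have hyexp : y ^ p ^ (n + 1) = 1 := hexp P y hyP
  have hzexp : (y ^ p ^ n) ^ p ^ (n + 1) = 1 := by
    rw [← pow_mul, mul_comm, pow_mul, hyexp, one_pow]
  obtain ⟨R, n', hRn, hn', hRV, x', hx', hax⟩ := exists_R hps (y ^ p ^ n) (n + 1) hzexp hzQ
  rw [← hQ] at hRV hax
  obtain ⟨Φ, hΦ⟩ : ∃ Φ : Subgroup Y, Φ = (frattini ↥Q).map Q.subtype := ⟨_, rfl⟩
  have hΦn : Φ.Normal := by rw [hΦ]; infer_instance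
  have hΦQ : Φ ≤ Q := by rw [hΦ]; exact Subgroup.map_subtype_le _
  have hsurj := QuotientGroup.mk'_surjective Φ
  have hback : ∀ g : Y, QuotientGroup.mk' Φ g ∈ Q.map (QuotientGroup.mk' Φ) → g ∈ Q := by
    intro g hg
    obtain ⟨q, hq1, hq2⟩ := hg
    have h1 : q⁻¹ * g ∈ Φ := by
      have := (QuotientGroup.eq (s := Φ) (a := q) (b := g)).1 hq2
      exact this
    have e : g = q * (q⁻¹ * g) := by group
    rw [e]
    exact Q.mul_mem hq1 (hΦQ h1)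
  haveI hVn : (Q.map (QuotientGroup.mk' Φ)).Normal := hQn.map _ hsurj
  haveI hRn' : (R.map (QuotientGroup.mk' Φ)).Normal := hRn.map _ hsurj
  refine main2' (Q.map (QuotientGroup.mk' Φ)) (R.map (QuotientGroup.mk' Φ)) ?_ ?_ ?_ n' hn' ?_ n
    (QuotientGroup.mk' Φ y) (QuotientGroup.mk' Φ x') ?_ ?_ ⟨x', hx', rfl⟩ ?_ ?_
  · rintro _ ⟨q₁, hq₁, rfl⟩ _ ⟨q₂, hq₂, rfl⟩
    rw [← map_mul, ← map_mul]
    apply (QuotientGroup.eq (s := Φ)).2
    have h1 : ⁅(⟨q₂, hq₂⟩ : ↥Q)⁻¹, (⟨q₁, hq₁⟩ : ↥Q)⁻¹⁆ ∈ frattini ↥Q :=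
      Cfsg.Agent.helper1.commutator_le_frattini_of_isPGroup hQp
        (Subgroup.commutator_mem_commutator (Subgroup.mem_top _) (Subgroup.mem_top _))
    rw [hΦ]
    refine ⟨_, h1, ?_⟩
    rw [commutatorElement_def]
    simp only [Subgroup.coe_subtype, Subgroup.coe_mul, Subgroup.coe_inv, inv_inv, mul_inv_rev]
    group
  · rintro _ ⟨q, hq1, rfl⟩
    rw [← map_pow]
    apply (QuotientGroup.eq_one_iff _).2
    rw [hΦ]
    exact ⟨_, Cfsg.Agent.helper1.pow_mem_frattini_of_isPGroup hQp ⟨q, hq1⟩, rfl⟩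
  · intro y₁ hy₁
    obtain ⟨y₀, rfl⟩ := hsurj y₁
    rw [Subgroup.mem_centralizer_iff] at hy₁
    apply Subgroup.mem_map_of_mem
    rw [hQ]
    apply Cfsg.Agent.helper7.mem_pCore_of_trivial_on_frattini_quotient hps hO y₀
    intro v hv
    rw [← hQ] at hv ⊢
    rw [← hΦ]
    have h1 := hy₁ _ (Subgroup.mem_map_of_mem (QuotientGroup.mk' Φ) hv)
    apply (QuotientGroup.eq_one_iff _).1
    show QuotientGroup.mk' Φ (y₀ * v * y₀⁻¹ * v⁻¹) = 1
    rw [map_mul, map_mul, map_mul, map_inv, map_inv, ← h1]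
    group
  · rintro _ ⟨r, hr, rfl⟩
    rw [← map_pow]
    exact Subgroup.mem_map_of_mem _ (hRV r hr)
  · rw [← map_pow, hyexp, map_one]
  · rintro _ ⟨v, hv, rfl⟩
    rw [← map_mul, ← map_pow]
    have h1 : v * y ∈ (P : Subgroup Y) := Subgroup.mul_mem _ (hQP hv) hyP
    rw [hexp P _ h1, map_one]
  · intro hmem
    apply hax
    apply hback
    rw [map_mul, map_mul, map_inv, map_inv, map_pow]
    exact hmem
  · intro q hq hqp T hT hTq
    apply hab.range ((MulAut.conjNormal : (Y ⧸ Φ) →* MulAut ↥(Q.map (QuotientGroup.mk' Φ))).comp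
      (QuotientGroup.mk' Φ)) q hq hqp T _ hTq
    intro t ht
    obtain ⟨y₁, rfl⟩ := hT ht
    obtain ⟨y₀, rfl⟩ := hsurj y₁
    exact ⟨y₀, rfl⟩

end Cfsg.Agent.helper19.CN
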