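import Mathlib
import Cfsg.Prelude.Def_LocalEven
import Cfsg.Agent.Lib_helper19_CN5
import Cfsg.Agent.Lib_helper9_Cores

/-! `p`-length at most `n` for `p`-soluble groups with abelian `p'`-Sylow subgroups and Sylow
`p`-subgroups of exponent dividing `p^n`: the induction (helper19). -/

set_option autoImplicit false
set_option linter.style.haveILetI false

namespace Cfsg.Agent.helper19.CN

open Cfsg.Agent.helper19

universe u

theorem hexp_quotient {G : Type*} [Group G] [Finite G] {p : ℕ} [Fact p.Prime] (N : Subgroup G)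
    [N.Normal] (m : ℕ) (hexp : ∀ P : Sylow p G, ∀ x ∈ (P : Subgroup G), x ^ p ^ m = 1) :
    ∀ P : Sylow p (G ⧸ N), ∀ x ∈ (P : Subgroup (G ⧸ N)), x ^ p ^ m = 1 := by
  intro P' x hx
  obtain ⟨P, rfl⟩ := Sylow.mapSurjective_surjective (QuotientGroup.mk'_surjective N) p P'
  rw [Sylow.coe_mapSurjective] at hx
  obtain ⟨g, hg, rfl⟩ := hx
  rw [← map_pow, hexp P g hg, map_one]

theorem pPrimePCore_le_ups_two {G : Type*} [Group G] [Finite G] {p : ℕ} [Fact p.Prime] :
    Cfsg.pPrimePCore p G ≤ ups p G 2 := by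
  have hle : Cfsg.pPrimeCore p G ≤ Cfsg.pPrimePCore p G := by
    unfold Cfsg.pPrimePCore
    exact Cfsg.Agent.helper23.le_comap_mk' _ _
  have h1 : Cfsg.pPrimeCore p G ≤ ups p G (0 + 1) := by
    apply le_ups_succ_of_even (by decide) inferInstance (bot_le : (⊥ : Subgroup G) ≤ _) bot_le
    rw [Subgroup.relIndex_bot_left]
    exact Cfsg.Agent.helper1.pPrimeCore_coprime p
  have hn : (Cfsg.pPrimePCore p G).Normal := by
    unfold Cfsg.pPrimePCore
    exact (Cfsg.Agent.helper1.pCore_normal p).comap _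
  have h2 : Cfsg.pPrimePCore p G ≤ ups p G (1 + 1) := by
    apply le_ups_succ_of_odd (by decide) hn hle h1
    unfold Cfsg.pPrimePCore
    rw [relIndex_comap_mk']
    exact IsPGroup.iff_card.1 (Cfsg.Agent.helper1.pCore_isPGroup p)
  exact h2

/-- The key theorem in general. -/
theorem kt {G : Type u} [Group G] [Finite G] {p : ℕ} [hp : Fact p.Prime]
    (hps : Cfsg.IsPSolvable p G) (hab : HypAb p G) (n : ℕ)
    (hexp : ∀ (P : Sylow p G), ∀ x ∈ (P : Subgroup G), x ^ p ^ (n + 1) = 1) :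
    ∀ (P : Sylow p G), ∀ g ∈ (P : Subgroup G), g ^ p ^ n ∈ ups p G 2 := by
  intro P g hg
  have hsurj := QuotientGroup.mk'_surjective (Cfsg.pPrimeCore p G)
  have hpsY : Cfsg.IsPSolvable p (G ⧸ Cfsg.pPrimeCore p G) :=
    Cfsg.Agent.helper23.isPSolvable_of_surjective hp.out
      (QuotientGroup.mk' (Cfsg.pPrimeCore p G)) hsurj hps
  have hOY : Cfsg.pPrimeCore p (G ⧸ Cfsg.pPrimeCore p G) = ⊥ :=
    Cfsg.Agent.helper9.pPrimeCore_quotient_eq_bot p
  have habY := hab.quotient (Cfsg.pPrimeCore p G)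
  have hexpY := hexp_quotient (Cfsg.pPrimeCore p G) (n + 1) hexp
  have hmem : QuotientGroup.mk' (Cfsg.pPrimeCore p G) g ∈
      ((P.mapSurjective hsurj : Sylow p (G ⧸ Cfsg.pPrimeCore p G)) :
        Subgroup (G ⧸ Cfsg.pPrimeCore p G)) := by
    rw [Sylow.coe_mapSurjective]; exact Subgroup.mem_map_of_mem _ hg
  have h1 := kt1 hpsY hOY habY n hexpY (P.mapSurjective hsurj) _ hmem
  apply pPrimePCore_le_ups_two
  show g ^ p ^ n ∈ (Cfsg.pCore p (G ⧸ Cfsg.pPrimeCore p G)).comap
    (QuotientGroup.mk' (Cfsg.pPrimeCore p G))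
  rw [Subgroup.mem_comap, map_pow]
  exact h1

theorem plen_main {p : ℕ} [hp : Fact p.Prime] : ∀ n : ℕ, ∀ (G : Type u) [Group G] [Finite G],
    Cfsg.IsPSolvable p G → HypAb p G →
    (∀ (P : Sylow p G), ∀ x ∈ (P : Subgroup G), x ^ p ^ n = 1) → Cfsg.PLengthLE p n G := by
  intro n
  induction n with
  | zero =>
    intro G _ _ _ _ hexp
    apply pLengthLE_zero_of_coprime
    rw [Nat.coprime_comm, hp.out.coprime_iff_not_dvd]
    intro hd
    obtain ⟨x, hx⟩ := exists_prime_orderOf_dvd_card' (G := G) p hd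
    have hxp : IsPGroup p (Subgroup.zpowers x) := by
      apply IsPGroup.of_card (n := 1)
      rw [Nat.card_zpowers, hx, pow_one]
    obtain ⟨P, hP⟩ := hxp.exists_le_sylow
    have h1 := hexp P x (hP (Subgroup.mem_zpowers x))
    rw [pow_zero, pow_one] at h1
    rw [h1, orderOf_one] at hx
    exact hp.out.one_lt.ne' hx.symm
  | succ n ih =>
    intro G _ _ hps hab hexp
    have hsurj := QuotientGroup.mk'_surjective (ups p G 2)
    have hpsq : Cfsg.IsPSolvable p (G ⧸ ups p G 2) :=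
      Cfsg.Agent.helper23.isPSolvable_of_surjective hp.out (QuotientGroup.mk' (ups p G 2)) hsurj hps
    have habq := hab.quotient (ups p G 2)
    have hkt := kt hps hab n hexp
    have hexpq : ∀ (P : Sylow p (G ⧸ ups p G 2)), ∀ x ∈ (P : Subgroup (G ⧸ ups p G 2)),
        x ^ p ^ n = 1 := by
      intro P' x hx
      obtain ⟨P, rfl⟩ := Sylow.mapSurjective_surjective hsurj p P'
      rw [Sylow.coe_mapSurjective] at hx
      obtain ⟨g, hg, rfl⟩ := hx
      rw [← map_pow]
      exact (QuotientGroup.eq_one_iff _).2 (hkt P g hg)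
    have h1 : ups p (G ⧸ ups p G 2) (2 * n + 1) = ⊤ := ih (G ⧸ ups p G 2) hpsq habq hexpq
    have h0 : (ups p (G ⧸ ups p G 2) 0).comap (QuotientGroup.mk' (ups p G 2)) ≤ ups p G 2 := by
      rw [ups_zero, MonoidHom.comap_bot, QuotientGroup.ker_mk']
    have h2 := comap_ups_le (ups p G 2) (n₀ := 0) (m := 2) (by decide) h0 (2 * n + 1)
    rw [zero_add, h1, Subgroup.comap_top] at h2
    have h3 : ups p G (2 * (n + 1) + 1) = ⊤ := by
      have e : 2 * (n + 1) + 1 = 2 + (2 * n + 1) := by ring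
      rw [e]
      exact top_le_iff.1 h2
    exact h3

end Cfsg.Agent.helper19.CN
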