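import Mathlib
import Cfsg.Agent.Lib_helper7_Comp

set_option autoImplicit false
open scoped commutatorElement Pointwise

namespace Cfsg.Agent.helper19

open Cfsg.Agent.helper7

variable {G : Type*} [Group G]

theorem commutator_self_le_of_le_sup_central {A B Z : Subgroup G} [Z.Normal]
    (hZ : Z ≤ Subgroup.center G) (h : A ≤ B ⊔ Z) : ⁅A, A⁆ ≤ ⁅B, B⁆ := by
  refine (Subgroup.commutator_mono h h).trans ?_
  rw [Subgroup.commutator_le]
  intro a ha b hb
  rw [Subgroup.mem_sup_of_normal_right] at ha hb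
  obtain ⟨n, hn, z, hz, rfl⟩ := ha
  obtain ⟨n', hn', z', hz', rfl⟩ := hb
  rw [comm_mul_central n n' z z' (hZ hz) (hZ hz')]
  exact Subgroup.commutator_mem_commutator hn hn'

theorem le_normalizer_commutator_self (E : Subgroup G) :
    E ≤ Subgroup.normalizer ((⁅E, E⁆ : Subgroup G) : Set G) := by
  intro e he
  apply mem_normalizer_of_cj_eq
  rw [cj_commutator, cj_eq_of_mem_normalizer (Subgroup.le_normalizer he)]

/-- If `Z` is central, `Z ≤ E` and `E/Z` is a component of `G/Z`, then `[E,E]` is a component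
of `G`. -/
theorem comp_commutator_of_quotient (Z : Subgroup G) [Z.Normal] (hZ : Z ≤ Subgroup.center G)
    (E : Subgroup G) (hZE : Z ≤ E)
    (hE : Comp (E.map (QuotientGroup.mk' Z)) (⊤ : Subgroup (G ⧸ Z))) :
    Comp ⁅E, E⁆ (⊤ : Subgroup G) := by
  set π := QuotientGroup.mk' Z with hπdef
  have hker : π.ker = Z := QuotientGroup.ker_mk' Z
  obtain ⟨hsn, hperf, hne, hmin⟩ := hE
  set D := ⁅E, E⁆ with hD
  have hDE : D ≤ E := Subgroup.commutator_le_self E
  -- subnormality
  have hEsn : SN E ⊤ := by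
    rw [sn_top_iff] at hsn ⊢
    have := hsn.comap π
    rwa [Subgroup.comap_map_eq, hker, sup_eq_left.2 hZE] at this
  have hDsn : SN D ⊤ := SN.step D E ⊤ hDE (le_normalizer_commutator_self E) hEsn
  -- images
  have hmapD : D.map π = E.map π := by
    rw [hD, Subgroup.map_commutator, hperf]
  have hED : E ≤ D ⊔ Z := by
    have := (Subgroup.map_le_map_iff (f := π) (H := E) (K := D)).1 hmapD.ge
    rwa [hker] at this
  have hDperf : ⁅D, D⁆ = D :=
    le_antisymm (Subgroup.commutator_le_self D) (commutator_self_le_of_le_sup_central hZ hED)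
  have hDne : D ≠ ⊥ := by
    intro h
    apply hne
    rw [← hmapD, h, Subgroup.map_bot]
  refine ⟨hDsn, hDperf, hDne, ?_⟩
  intro N hND hDN
  have h1 : N.map π ≤ E.map π := by rw [← hmapD]; exact Subgroup.map_mono hND
  have h2 : E.map π ≤ Subgroup.normalizer ((N.map π : Subgroup (G ⧸ Z)) : Set (G ⧸ Z)) := by
    rw [← hmapD]
    exact (Subgroup.map_mono hDN).trans (Subgroup.le_normalizer_map _)
  rcases hmin (N.map π) h1 h2 with h | h
  · left
    have hDN' : D ≤ N ⊔ Z := by
      have := (Subgroup.map_le_map_iff (f := π) (H := D) (K := N)).1 (by rw [h, hmapD])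
      rwa [hker] at this
    apply le_antisymm hND
    calc D = ⁅D, D⁆ := hDperf.symm
      _ ≤ ⁅N, N⁆ := commutator_self_le_of_le_sup_central hZ hDN'
      _ ≤ N := Subgroup.commutator_le_self N
  · right
    have h3 : ⁅N, D⁆ ≤ Z := by
      have h4 : (⁅N, D⁆).map π = ⊥ := by
        rw [Subgroup.map_commutator, hmapD]
        exact Subgroup.commutator_eq_bot_iff_le_centralizer.2 h
      rw [Subgroup.map_eq_bot_iff, hker] at h4
      exact h4
    have h5 : ⁅⁅N, D⁆, D⁆ = ⊥ := by
      rw [Subgroup.commutator_eq_bot_iff_le_centralizer]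
      refine (h3.trans hZ).trans ?_
      exact Subgroup.center_le_centralizer _
    have h6 : ⁅⁅D, N⁆, D⁆ = ⊥ := by rw [Subgroup.commutator_comm D N]; exact h5
    have h7 : ⁅⁅D, D⁆, N⁆ = ⊥ := Subgroup.commutator_commutator_eq_bot_of_rotate h6 h5
    rw [hDperf] at h7
    exact le_centralizer_of_comm_eq_bot h7

end Cfsg.Agent.helper19
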