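import Mathlib

set_option autoImplicit false

/-! An operator-sum lemma for fixed-point-free automorphisms of order four. -/

namespace Cfsg.Agent.helper19.FPF

variable {K A : Type*} [Group K] [AddCommGroup A]

/-- A fixed-point-free operator with fourth power `1` has vanishing orbit sums. -/
theorem sum_pow_eq_zero (t : AddMonoid.End A) (ht4 : t ^ 4 = 1) (hf : ∀ a : A, t a = a → a = 0) :
    1 + t + t ^ 2 + t ^ 3 = 0 := by
  apply AddMonoidHom.ext
  intro a
  show ((1 + t + t ^ 2 + t ^ 3 : AddMonoid.End A)) a = 0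
  apply hf
  have h1 : t * (1 + t + t ^ 2 + t ^ 3) = 1 + t + t ^ 2 + t ^ 3 := by
    calc t * (1 + t + t ^ 2 + t ^ 3) = t + t ^ 2 + t ^ 3 + t ^ 4 := by noncomm_ring
      _ = 1 + t + t ^ 2 + t ^ 3 := by rw [ht4]; abel
  exact DFunLike.congr_fun h1 a

theorem natCast_mul_cancel [Finite A] {n : ℕ} (hcop : n.Coprime (Nat.card A))
    {x : AddMonoid.End A} (h : (n : AddMonoid.End A) * x = 0) : x = 0 := by
  apply AddMonoidHom.ext
  intro a
  show x a = 0
  have h1 : n • x a = 0 := DFunLike.congr_fun h a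
  have h2 : addOrderOf (x a) ∣ n := addOrderOf_dvd_of_nsmul_eq_zero h1
  have h3 : addOrderOf (x a) ∣ Nat.card A := addOrderOf_dvd_natCard (x a)
  have h4 : addOrderOf (x a) = 1 := Nat.eq_one_of_dvd_coprimes hcop h2 h3
  exact AddMonoid.addOrderOf_eq_one_iff.1 h4

/-- The operator-sum lemma. -/
theorem lemmaB [Finite A] (ρ : K →* AddMonoid.End A) (s : AddMonoid.End A) (σK : MulAut K)
    (hcompat : ∀ k, s * ρ k = ρ (σK k) * s)
    (hs4 : s ^ 4 = 1) (hfA : ∀ a : A, s a = a → a = 0)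
    (B : Subgroup K) [Finite B] (hBc : ∀ a ∈ B, ∀ b ∈ B, a * b = b * a)
    (hσB : ∀ b ∈ B, σK b ∈ B) (hτ : ∀ b ∈ B, σK (σK b) = b⁻¹)
    (hfB : ∀ b ∈ B, σK b = b → b = 1)
    (hodd : Odd (Nat.card B)) (hcop : (Nat.card B).Coprime (Nat.card A)) :
    ∀ b ∈ B, ρ b = 1 := by
  classical
  have : Fintype B := Fintype.ofFinite B
  obtain ⟨n, hn⟩ : ∃ n : ℕ, n = Nat.card B := ⟨_, rfl⟩
  have hncard : Fintype.card B = n := by rw [hn, Nat.card_eq_fintype_card]
  rw [← hn] at hcop hodd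
  -- the restricted map
  let f : B → B := fun b => ⟨σK b, hσB b b.2⟩
  have hfinj : Function.Injective f := by
    intro a b hab
    have h1 : σK (a : K) = σK (b : K) := congrArg Subtype.val hab
    exact Subtype.ext (σK.injective h1)
  let σB : B ≃ B := Equiv.ofBijective f (Finite.injective_iff_bijective.1 hfinj)
  have hσB_apply : ∀ c : B, ((σB c : B) : K) = σK (c : K) := fun c => rfl
  -- Lang's map on B
  have lang : ∀ c ∈ B, ∃ g ∈ B, c = g⁻¹ * σK g := by
    let L : B → B := fun g => ⟨(g : K)⁻¹ * σK g, B.mul_mem (B.inv_mem g.2) (hσB g g.2)⟩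
    have hLinj : Function.Injective L := by
      intro g h hgh
      have h1 : (g : K)⁻¹ * σK g = (h : K)⁻¹ * σK h := congrArg Subtype.val hgh
      have h2 : σK ((h : K) * (g : K)⁻¹) = (h : K) * (g : K)⁻¹ := by
        rw [map_mul, map_inv]
        have e : σK (h : K) = (h : K) * ((g : K)⁻¹ * σK g) := by rw [h1]; group
        rw [e]; group
      have h3 := hfB _ (B.mul_mem h.2 (B.inv_mem g.2)) h2
      apply Subtype.ext
      have h4 : (h : K) = (g : K) := by
        calc (h : K) = (h : K) * (g : K)⁻¹ * (g : K) := by group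
          _ = (g : K) := by rw [h3, one_mul]
      exact h4.symm
    have hLsurj : Function.Surjective L := (Finite.injective_iff_bijective.1 hLinj).2
    intro c hc
    obtain ⟨g, hg⟩ := hLsurj ⟨c, hc⟩
    exact ⟨g, g.2, (congrArg Subtype.val hg).symm⟩
  have hinvρ : ∀ g : K, ρ g⁻¹ * ρ g = 1 := fun g => by rw [← map_mul, inv_mul_cancel, map_one]
  -- twisted operators are fixed-point-free
  have hfc : ∀ c ∈ B, ∀ a : A, (ρ c * s) a = a → a = 0 := by
    intro c hc a ha
    obtain ⟨g, hg, rfl⟩ := lang c hc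
    have e : ρ (g⁻¹ * σK g) * s = ρ g⁻¹ * s * ρ g := by
      rw [map_mul, mul_assoc, ← hcompat, mul_assoc]
    rw [e] at ha
    have h1 : s (ρ g a) = ρ g a := by
      have h2 := congrArg (ρ g) ha
      have h3 : ρ g ((ρ g⁻¹ * s * ρ g) a) = (ρ g * ρ g⁻¹ * s * ρ g) a := by
        simp only [mul_assoc]; rfl
      rw [h3, ← map_mul, mul_inv_cancel, map_one, one_mul] at h2
      exact h2
    have h2 := hfA _ h1
    have h3 : a = (ρ g⁻¹ * ρ g) a := by rw [hinvρ]; rfl
    rw [h3]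
    show ρ g⁻¹ (ρ g a) = 0
    rw [h2, map_zero]
  set t := s ^ 2 with ht
  have htt : t * t = 1 := by rw [ht, ← pow_add]; exact hs4
  have htρ : ∀ b ∈ B, t * ρ b = ρ b⁻¹ * t := by
    intro b hb
    calc t * ρ b = s * (s * ρ b) := by rw [ht, pow_two, mul_assoc]
      _ = s * (ρ (σK b) * s) := by rw [hcompat]
      _ = (s * ρ (σK b)) * s := by rw [mul_assoc]
      _ = ρ (σK (σK b)) * s * s := by rw [hcompat]
      _ = ρ b⁻¹ * t := by rw [hτ b hb, ht, pow_two, mul_assoc]
  -- powers of the twisted operators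
  have hp2 : ∀ c ∈ B, (ρ c * s) ^ 2 = ρ (c * σK c) * t := by
    intro c hc
    calc (ρ c * s) ^ 2 = ρ c * (s * ρ c) * s := by rw [pow_two]; noncomm_ring
      _ = ρ c * (ρ (σK c) * s) * s := by rw [hcompat]
      _ = ρ (c * σK c) * t := by rw [map_mul, ht, pow_two]; noncomm_ring
  have hp3 : ∀ c ∈ B, (ρ c * s) ^ 3 = ρ (σK c) * s ^ 3 := by
    intro c hc
    have e1 : c * σK c * c⁻¹ = σK c := by
      rw [hBc c hc (σK c) (hσB c hc)]; group
    calc (ρ c * s) ^ 3 = (ρ c * s) ^ 2 * (ρ c * s) := pow_succ _ 2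
      _ = ρ (c * σK c) * (t * ρ c) * s := by rw [hp2 c hc]; noncomm_ring
      _ = ρ (c * σK c) * (ρ c⁻¹ * t) * s := by rw [htρ c hc]
      _ = ρ (c * σK c * c⁻¹) * (t * s) := by rw [map_mul (f := ρ) (c * σK c)]; noncomm_ring
      _ = ρ (σK c) * s ^ 3 := by rw [e1, ht, ← pow_succ]
  have hp4 : ∀ c ∈ B, (ρ c * s) ^ 4 = 1 := by
    intro c hc
    have hc2 : c * σK c ∈ B := B.mul_mem hc (hσB c hc)
    calc (ρ c * s) ^ 4 = (ρ c * s) ^ 2 * (ρ c * s) ^ 2 := pow_add _ 2 2
      _ = ρ (c * σK c) * (t * ρ (c * σK c)) * t := by rw [hp2 c hc]; noncomm_ring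
      _ = ρ (c * σK c) * (ρ (c * σK c)⁻¹ * t) * t := by rw [htρ _ hc2]
      _ = (ρ (c * σK c) * ρ (c * σK c)⁻¹) * (t * t) := by noncomm_ring
      _ = 1 := by rw [← map_mul, mul_inv_cancel, map_one, htt, one_mul]
  have hid : ∀ c ∈ B, 1 + ρ c * s + ρ (c * σK c) * t + ρ (σK c) * s ^ 3 = 0 := by
    intro c hc
    have h1 := sum_pow_eq_zero (ρ c * s) (hp4 c hc) (hfc c hc)
    rw [hp2 c hc, hp3 c hc] at h1
    exact h1
  -- the sums
  obtain ⟨N, hN⟩ : ∃ N : AddMonoid.End A, N = (n : AddMonoid.End A) := ⟨_, rfl⟩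
  obtain ⟨E, hE⟩ : ∃ E : AddMonoid.End A, E = ∑ c : B, ρ (c : K) := ⟨_, rfl⟩
  obtain ⟨P, hP⟩ : ∃ P : AddMonoid.End A, P = ∑ c : B, ρ ((c : K) * σK (c : K)) := ⟨_, rfl⟩
  have hNc : ∀ x : AddMonoid.End A, N * x = x * N := fun x => by rw [hN]; exact Nat.cast_comm n x
  have hsumconst : ∀ x : AddMonoid.End A, ∑ _c : B, x = N * x := by
    intro x
    rw [Finset.sum_const, Finset.card_univ, hncard, nsmul_eq_mul, hN]
  have hS : N + E * s + P * t + E * s ^ 3 = 0 := by
    have h1 : ∑ c : B, (1 + ρ (c : K) * s + ρ ((c : K) * σK (c : K)) * t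
        + ρ (σK (c : K)) * s ^ 3) = 0 :=
      Finset.sum_eq_zero (fun c _ => hid c c.2)
    rw [Finset.sum_add_distrib, Finset.sum_add_distrib, Finset.sum_add_distrib,
      ← Finset.sum_mul, ← Finset.sum_mul, ← Finset.sum_mul, hsumconst, mul_one, ← hE, ← hP] at h1
    have h2 : ∑ c : B, ρ (σK (c : K)) = E := by
      rw [hE]
      exact Fintype.sum_equiv σB (fun c : B => ρ (σK (c : K))) (fun c : B => ρ (c : K))
        (fun c => rfl)
    rw [h2] at h1
    exact h1
  have hbE : ∀ b ∈ B, ρ b * E = E := by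
    intro b hb
    rw [hE, Finset.mul_sum]
    exact Fintype.sum_equiv (Equiv.mulLeft (⟨b, hb⟩ : B)) (fun c : B => ρ b * ρ (c : K))
      (fun c : B => ρ (c : K)) (fun c => by
        show ρ b * ρ (c : K) = ρ ((⟨b, hb⟩ * c : B) : K)
        rw [Subgroup.coe_mul, map_mul])
  have hEb : ∀ b ∈ B, E * ρ b = E := by
    intro b hb
    rw [hE, Finset.sum_mul]
    exact Fintype.sum_equiv (Equiv.mulRight (⟨b, hb⟩ : B)) (fun c : B => ρ (c : K) * ρ b)
      (fun c : B => ρ (c : K)) (fun c => by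
        show ρ (c : K) * ρ b = ρ ((c * ⟨b, hb⟩ : B) : K)
        rw [Subgroup.coe_mul, map_mul])
  have hEE : E * E = N * E := by
    have h1 : (∑ c : B, ρ (c : K)) * E = ∑ c : B, ρ (c : K) * E := Finset.sum_mul _ _ _
    rw [← hE] at h1
    rw [h1, ← hsumconst E]
    exact Finset.sum_congr rfl (fun c _ => hbE c c.2)
  have hEP : E * P = N * E := by
    conv_lhs => rw [hP, Finset.mul_sum]
    rw [← hsumconst E]
    exact Finset.sum_congr rfl (fun c _ => hEb _ (B.mul_mem c.2 (hσB c c.2)))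
  have hφ : ∀ c ∈ B, ∀ d ∈ B, (c * σK c) * (d * σK d) = (c * d) * σK (c * d) := by
    intro c hc d hd
    rw [map_mul]
    calc c * σK c * (d * σK d) = c * (σK c * d) * σK d := by group
      _ = c * (d * σK c) * σK d := by rw [hBc (σK c) (hσB c hc) d hd]
      _ = c * d * (σK c * σK d) := by group
  have hPP : P * P = N * P := by
    have h1 : (∑ c : B, ρ ((c : K) * σK (c : K))) * P
        = ∑ c : B, ρ ((c : K) * σK (c : K)) * P := Finset.sum_mul _ _ _
    rw [← hP] at h1
    rw [h1, ← hsumconst P]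
    apply Finset.sum_congr rfl
    intro c _
    have h2 : ρ ((c : K) * σK (c : K)) * (∑ d : B, ρ ((d : K) * σK (d : K)))
        = ∑ d : B, ρ ((c : K) * σK (c : K)) * ρ ((d : K) * σK (d : K)) := Finset.mul_sum _ _ _
    rw [← hP] at h2
    rw [h2]
    conv_rhs => rw [hP]
    exact Fintype.sum_equiv (Equiv.mulLeft c)
      (fun d : B => ρ ((c : K) * σK (c : K)) * ρ ((d : K) * σK (d : K)))
      (fun d : B => ρ ((d : K) * σK (d : K))) (fun d => by
        show ρ ((c : K) * σK (c : K)) * ρ ((d : K) * σK (d : K))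
          = ρ (((c * d : B) : K) * σK ((c * d : B) : K))
        rw [Subgroup.coe_mul, ← map_mul, hφ c c.2 d d.2])
  have hsE : s * E = E * s := by
    rw [hE, Finset.mul_sum, Finset.sum_mul]
    have h1 : ∀ c : B, s * ρ (c : K) = ρ (σK (c : K)) * s := fun c => hcompat c
    rw [Finset.sum_congr rfl (fun c _ => h1 c)]
    exact Fintype.sum_equiv σB (fun c : B => ρ (σK (c : K)) * s) (fun c : B => ρ (c : K) * s)
      (fun c => rfl)
  have htE : t * E = E * t := by
    rw [ht, pow_two, mul_assoc, hsE, ← mul_assoc, hsE, mul_assoc]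
  -- algebra
  obtain ⟨D, hD⟩ : ∃ D : AddMonoid.End A, D = E - N := ⟨_, rfl⟩
  have f1 : E * D = 0 := by rw [hD, mul_sub, hEE, ← hNc, sub_self]
  have f2 : D * E = 0 := by rw [hD, sub_mul, hEE, sub_self]
  have f3 : t * D = D * t := by rw [hD, mul_sub, sub_mul, htE, ← hNc]
  have f4 : D * D = -(N * D) := by
    calc D * D = E * D - N * D := by rw [hD]; noncomm_ring
      _ = -(N * D) := by rw [f1, zero_sub]
  have hcancel : ∀ x : AddMonoid.End A, N * x = 0 → x = 0 := by
    intro x hx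
    rw [hN] at hx
    exact natCast_mul_cancel hcop hx
  -- Step A
  have hA1 : D * (N + E * s + P * t + E * s ^ 3) = 0 := by rw [hS, mul_zero]
  have hDP : D * P = N * E - N * P := by rw [hD, sub_mul, hEP]
  have hA2 : N * (D - (P - E) * t) = 0 := by
    have e : D * (N + E * s + P * t + E * s ^ 3)
        = D * N + (D * E) * s + (D * P) * t + (D * E) * s ^ 3 := by noncomm_ring
    rw [e, f2, hDP, ← hNc D] at hA1
    calc N * (D - (P - E) * t) = N * D + 0 * s + (N * E - N * P) * t + 0 * s ^ 3 := by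
          noncomm_ring
      _ = 0 := hA1
  have hA3 : D = (P - E) * t := sub_eq_zero.1 (hcancel _ hA2)
  have hA4 : P = E + D * t := by
    have h1 : D * t = P - E := by rw [hA3, mul_assoc, htt, mul_one]
    rw [h1]; abel
  -- Step B
  have hB1 : P * P = N * N := by
    have e : P * P = E * E + (E * D) * t + D * (t * E) + D * (t * D) * t := by
      rw [hA4]; noncomm_ring
    rw [e, f1, htE, f3, hEE]
    calc N * E + 0 * t + D * (E * t) + D * (D * t) * t
        = N * E + (D * E) * t + (D * D) * (t * t) := by noncomm_ring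
      _ = N * E - N * D := by rw [f2, f4, htt]; noncomm_ring
      _ = N * N := by rw [hD]; noncomm_ring
  have hB2 : P = N := by
    have h1 : N * (P - N) = 0 := by rw [mul_sub, ← hPP, hB1, sub_self]
    exact sub_eq_zero.1 (hcancel _ h1)
  have hB3 : D * t = -D := by
    have h1 : D * t = P - E := by rw [hA4]; abel
    rw [h1, hB2, hD]; abel
  -- Step C
  have hDb : ∀ b ∈ B, D * ρ b = ρ b * D := by
    intro b hb
    rw [hD, sub_mul, mul_sub, hEb b hb, hbE b hb, hNc]
  have hC : ∀ b ∈ B, ρ (b * b) = 1 := by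
    intro b hb
    have h1 : t * (ρ b * D) = -(ρ b * D) := by
      calc t * (ρ b * D) = t * (D * ρ b) := by rw [hDb b hb]
        _ = (t * D) * ρ b := by rw [mul_assoc]
        _ = (D * t) * ρ b := by rw [f3]
        _ = -(D * ρ b) := by rw [hB3, neg_mul]
        _ = -(ρ b * D) := by rw [hDb b hb]
    have h2 : t * (ρ b * D) = -(ρ b⁻¹ * D) := by
      calc t * (ρ b * D) = (t * ρ b) * D := by rw [mul_assoc]
        _ = ρ b⁻¹ * (t * D) := by rw [htρ b hb, mul_assoc]
        _ = ρ b⁻¹ * (D * t) := by rw [f3]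
        _ = -(ρ b⁻¹ * D) := by rw [hB3, mul_neg]
    have h3 : ρ b * D = ρ b⁻¹ * D := neg_injective (h1.symm.trans h2)
    have h4 : ρ (b * b) * D = D := by
      calc ρ (b * b) * D = ρ b * (ρ b * D) := by rw [map_mul, mul_assoc]
        _ = ρ b * (ρ b⁻¹ * D) := by rw [h3]
        _ = (ρ b * ρ b⁻¹) * D := by rw [mul_assoc]
        _ = D := by rw [← map_mul, mul_inv_cancel, map_one, one_mul]
    have h5 : N * (ρ (b * b) - 1) = 0 := by
      have hbb : b * b ∈ B := B.mul_mem hb hb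
      have e1 : ρ (b * b) * D = E - N * ρ (b * b) := by
        rw [hD, mul_sub, hbE _ hbb, hNc]
      rw [e1, hD] at h4
      calc N * (ρ (b * b) - 1) = (E - N) - (E - N * ρ (b * b)) := by noncomm_ring
        _ = 0 := by rw [h4, sub_self]
    exact sub_eq_zero.1 (hcancel _ h5)
  -- Step D
  intro b hb
  obtain ⟨m, hm⟩ := hodd
  have hbn : b ^ n = 1 := by
    have h1 : (⟨b, hb⟩ : B) ^ Nat.card B = 1 := pow_card_eq_one'
    have h2 := congrArg Subtype.val h1
    rw [Subgroup.coe_pow, Subgroup.coe_one] at h2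
    rw [hn]
    exact h2
  have e : b = b ^ (m + 1) * b ^ (m + 1) := by
    rw [← pow_add]
    have e1 : m + 1 + (m + 1) = n + 1 := by omega
    rw [e1, pow_succ, hbn, one_mul]
  rw [e]
  exact hC _ (B.pow_mem hb _)

end Cfsg.Agent.helper19.FPF
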