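import Mathlib
import Cfsg.Agent.Lib_helper19_FPF1
import Cfsg.Agent.Lib_helper1_Core
import Cfsg.Agent.Lib_helper23_Solv

set_option autoImplicit false

/-! Fixed-point-free automorphisms of order dividing four: basics and the core step. -/

namespace Cfsg.Agent.helper19.FPF

section Basics

variable {G : Type*} [Group G]

theorem lang_sub (σ : MulAut G) (N : Subgroup G) [Finite N] (hσN : ∀ n ∈ N, σ n ∈ N)
    (hf : ∀ n ∈ N, σ n = n → n = 1) : ∀ c ∈ N, ∃ g ∈ N, c = g⁻¹ * σ g := by
  let L : N → N := fun g => ⟨(g : G)⁻¹ * σ g, N.mul_mem (N.inv_mem g.2) (hσN g g.2)⟩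
  have hLinj : Function.Injective L := by
    intro g h hgh
    have h1 : (g : G)⁻¹ * σ g = (h : G)⁻¹ * σ h := congrArg Subtype.val hgh
    have h2 : σ ((h : G) * (g : G)⁻¹) = (h : G) * (g : G)⁻¹ := by
      rw [map_mul, map_inv]
      have e : σ (h : G) = (h : G) * ((g : G)⁻¹ * σ g) := by rw [h1]; group
      rw [e]; group
    have h3 := hf _ (N.mul_mem h.2 (N.inv_mem g.2)) h2
    apply Subtype.ext
    have h4 : (h : G) = (g : G) := by
      calc (h : G) = (h : G) * (g : G)⁻¹ * (g : G) := by group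
        _ = (g : G) := by rw [h3, one_mul]
    exact h4.symm
  have hLsurj : Function.Surjective L := (Finite.injective_iff_bijective.1 hLinj).2
  intro c hc
  obtain ⟨g, hg⟩ := hLsurj ⟨c, hc⟩
  exact ⟨g, g.2, (congrArg Subtype.val hg).symm⟩

variable [Finite G]

theorem lang_surj (σ : MulAut G) (hfpf : ∀ g, σ g = g → g = 1) (x : G) :
    ∃ g, x = g⁻¹ * σ g := by
  obtain ⟨g, _, hg⟩ := lang_sub σ ⊤ (fun _ _ => Subgroup.mem_top _) (fun n _ h => hfpf n h) x
    (Subgroup.mem_top x)
  exact ⟨g, hg⟩

theorem norm4 (σ : MulAut G) (hfpf : ∀ g, σ g = g → g = 1)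
    (h4 : ∀ x, σ (σ (σ (σ x))) = x) (x : G) :
    x * σ x * σ (σ x) * σ (σ (σ x)) = 1 := by
  obtain ⟨g, rfl⟩ := lang_surj σ hfpf x
  simp only [map_mul, map_inv, h4]
  group

theorem inv_of_sq (σ : MulAut G) (hfpf : ∀ g, σ g = g → g = 1)
    (h2 : ∀ x, σ (σ x) = x) (x : G) : σ x = x⁻¹ := by
  obtain ⟨g, rfl⟩ := lang_surj σ hfpf x
  simp only [map_mul, map_inv, h2]
  group

omit [Finite G] in
theorem comm_of_inverting (σ : MulAut G) (h : ∀ x, σ x = x⁻¹) (x y : G) : x * y = y * x := by
  have h1 := h (x * y)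
  rw [map_mul, h x, h y, mul_inv_rev] at h1
  have h2 := congrArg Inv.inv h1
  simp only [mul_inv_rev, inv_inv] at h2
  exact h2.symm

theorem odd_card (σ : MulAut G) (hfpf : ∀ g, σ g = g → g = 1)
    (h4 : ∀ x, σ (σ (σ (σ x))) = x) : Odd (Nat.card G) := by
  have hσ4 : σ ^ 4 = 1 := by
    ext x
    show (σ ^ 4) x = x
    have e : (σ ^ 4) x = σ (σ (σ (σ x))) := rfl
    rw [e, h4]
  have hP : IsPGroup 2 (Subgroup.zpowers σ) := by
    have hdvd : orderOf σ ∣ 2 ^ 2 := orderOf_dvd_of_pow_eq_one hσ4
    obtain ⟨k, _, hk⟩ := (Nat.dvd_prime_pow Nat.prime_two).1 hdvd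
    apply IsPGroup.of_card (n := k)
    rw [Nat.card_zpowers, hk]
  have h1 := hP.card_modEq_card_fixedPoints G
  have h2 : MulAction.fixedPoints (Subgroup.zpowers σ) G = {1} := by
    ext x
    rw [MulAction.mem_fixedPoints, Set.mem_singleton_iff]
    constructor
    · intro hx
      apply hfpf
      exact hx ⟨σ, Subgroup.mem_zpowers σ⟩
    · rintro rfl g
      exact smul_one g
  rw [h2] at h1
  have h3 : Nat.card ({1} : Set G) = 1 := by simp
  rw [h3] at h1
  rw [Nat.odd_iff]
  exact h1

theorem fpf_quotient (σ : MulAut G) (hfpf : ∀ g, σ g = g → g = 1) (N : Subgroup G) [N.Normal]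
    (hN : N.map (σ : G →* G) = N) :
    ∀ x : G ⧸ N, QuotientGroup.congr N N σ hN x = x → x = 1 := by
  intro x hx
  obtain ⟨g, rfl⟩ := QuotientGroup.mk_surjective x
  rw [QuotientGroup.congr_mk] at hx
  have h1 : g⁻¹ * σ g ∈ N := QuotientGroup.eq.1 hx.symm
  have hσN : ∀ n ∈ N, σ n ∈ N := by
    intro n hn
    rw [← hN]
    exact Subgroup.mem_map_of_mem _ hn
  obtain ⟨n, hn, hgn⟩ := lang_sub σ N hσN (fun n _ h => hfpf n h) _ h1
  have h2 : σ (g * n⁻¹) = g * n⁻¹ := by
    rw [map_mul, map_inv]
    have e : σ g = g * (n⁻¹ * σ n) := by rw [← hgn]; group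
    rw [e]; group
  have h3 := hfpf _ h2
  have h4 : g = n := by
    calc g = g * n⁻¹ * n := by group
      _ = n := by rw [h3, one_mul]
  rw [h4]
  exact (QuotientGroup.eq_one_iff n).2 hn

end Basics

section Conv

variable (V : Type*) [CommGroup V]

/-- Automorphisms of a commutative group as additive endomorphisms. -/
def toEnd : MulAut V →* AddMonoid.End (Additive V) where
  toFun f := MonoidHom.toAdditive (f : V →* V)
  map_one' := rfl
  map_mul' _ _ := rfl

theorem toEnd_apply (f : MulAut V) (v : V) :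
    toEnd V f (Additive.ofMul v) = Additive.ofMul (f v) := rfl

theorem toEnd_eq_one {f : MulAut V} (h : toEnd V f = 1) : f = 1 := by
  ext v
  have h1 := DFunLike.congr_fun h (Additive.ofMul v)
  rw [toEnd_apply] at h1
  exact Additive.ofMul.injective h1

end Conv

theorem closure_comm_of_comm {K : Type*} [Group K] (S : Set K)
    (h : ∀ a ∈ S, ∀ b ∈ S, a * b = b * a) :
    ∀ a ∈ Subgroup.closure S, ∀ b ∈ Subgroup.closure S, a * b = b * a := by
  have h1 : Subgroup.closure S ≤ Subgroup.centralizer S := by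
    rw [Subgroup.closure_le]
    intro a ha
    rw [SetLike.mem_coe, Subgroup.mem_centralizer_iff]
    intro b hb
    exact h b hb a ha
  have h2 : Subgroup.closure S ≤ Subgroup.centralizer (Subgroup.closure S : Set K) := by
    rw [Subgroup.closure_le]
    intro a ha
    rw [SetLike.mem_coe, Subgroup.mem_centralizer_iff]
    intro b hb
    have := h1 hb
    rw [Subgroup.mem_centralizer_iff] at this
    exact (this a ha).symm
  intro a ha b hb
  have := h2 ha
  rw [Subgroup.mem_centralizer_iff] at this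
  exact (this b hb).symm

theorem pCore_map_aut {K : Type*} [Group K] (q : ℕ) (φ : MulAut K) {x : K}
    (hx : x ∈ Cfsg.pCore q K) : φ x ∈ Cfsg.pCore q K := by
  have hn : ((Cfsg.pCore q K).map (φ : K →* K)).Normal :=
    (Cfsg.Agent.helper1.pCore_normal q).map _ φ.surjective
  have hp : IsPGroup q ((Cfsg.pCore q K).map (φ : K →* K)) :=
    (Cfsg.Agent.helper1.pCore_isPGroup q).map _
  exact Cfsg.Agent.helper1.le_pCore hn hp (Subgroup.mem_map_of_mem _ hx)

universe u

/-- The core step: a faithful minimal module forces commutativity. -/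
theorem core {K : Type u} {V : Type*} [Group K] [Finite K] [CommGroup V] [Finite V]
    (hsol : Group.IsSolvable K) {q : ℕ} [hq : Fact q.Prime] (hV : IsPGroup q V)
    (hV1 : Nontrivial V)
    (act : K →* MulAut V) (hfaith : ∀ k, act k = 1 → k = 1)
    (σK : MulAut K) (σV : MulAut V)
    (hcompat : ∀ k v, σV (act k v) = act (σK k) (σV v))
    (h4K : ∀ k, σK (σK (σK (σK k))) = k) (h4V : ∀ v, σV (σV (σV (σV v))) = v)
    (hfK : ∀ k, σK k = k → k = 1) (hfV : ∀ v, σV v = v → v = 1)
    (hmin : ∀ W : Subgroup V, (∀ k, ∀ w ∈ W, act k w ∈ W) → (∀ w ∈ W, σV w ∈ W) →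
      W = ⊥ ∨ W = ⊤) :
    ∀ a b : K, a * b = b * a := by
  have hqp : q.Prime := hq.out
  have hoddK : Odd (Nat.card K) := odd_card σK hfK h4K
  have hcompat' : ∀ k v, act k (σV v) = σV (act (σK.symm k) v) := by
    intro k v
    rw [hcompat, MulEquiv.apply_symm_apply]
  -- Step 2
  have hQ : Cfsg.pCore q K = ⊥ := by
    have hQn : (Cfsg.pCore q K).Normal := Cfsg.Agent.helper1.pCore_normal q
    let W : Subgroup V :=
      { carrier := {v | ∀ k ∈ Cfsg.pCore q K, act k v = v}
        mul_mem' := fun {a b} ha hb k hk => by rw [map_mul, ha k hk, hb k hk]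
        one_mem' := fun k _ => map_one _
        inv_mem' := fun {a} ha k hk => by rw [map_inv, ha k hk] }
    have hW1 : ∀ k, ∀ w ∈ W, act k w ∈ W := by
      intro k w hw x hx
      have h1 : k⁻¹ * x * k ∈ Cfsg.pCore q K := by
        have := hQn.conj_mem x hx k⁻¹
        rwa [inv_inv] at this
      have h2 := hw _ h1
      have e : act x (act k w) = act k (act (k⁻¹ * x * k) w) := by
        rw [← MulAut.mul_apply, ← MulAut.mul_apply, ← map_mul, ← map_mul]
        congr 2
        group
      rw [e, h2]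
    have hW2 : ∀ w ∈ W, σV w ∈ W := by
      intro w hw x hx
      rw [hcompat', hw _ (pCore_map_aut q σK.symm hx)]
    have hWne : W ≠ ⊥ := by
      letI : MulAction (Cfsg.pCore q K) V :=
        MulAction.compHom V (act.comp (Cfsg.pCore q K).subtype)
      have hQp : IsPGroup q (Cfsg.pCore q K) := Cfsg.Agent.helper1.pCore_isPGroup q
      have hdvd : q ∣ Nat.card V := by
        obtain ⟨j, hj⟩ := IsPGroup.iff_card.1 hV
        rw [hj]
        have hj0 : j ≠ 0 := by
          rintro rfl
          rw [pow_zero] at hj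
          have := (Nat.card_eq_one_iff_unique.1 hj).1
          exact not_subsingleton V this
        exact dvd_pow_self q hj0
      have h1 : (1 : V) ∈ MulAction.fixedPoints (Cfsg.pCore q K) V := by
        intro g
        show (act.comp (Cfsg.pCore q K).subtype g) 1 = 1
        exact map_one _
      obtain ⟨b, hb, hb1⟩ := hQp.exists_fixed_point_of_prime_dvd_card_of_fixed_point V hdvd h1
      intro hW
      apply hb1
      have hbW : b ∈ W := by
        intro k hk
        exact hb ⟨k, hk⟩
      rw [hW, Subgroup.mem_bot] at hbW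
      exact hbW.symm
    rcases hmin W hW1 hW2 with h | h
    · exact absurd h hWne
    · rw [eq_bot_iff]
      intro k hk
      rw [Subgroup.mem_bot]
      apply hfaith
      ext v
      have hv : v ∈ W := h ▸ Subgroup.mem_top v
      exact hv k hk
  -- Step 3
  have h3 : ∀ k : K, σK (σK k) = k⁻¹ → (orderOf k).Coprime q → k = 1 := by
    intro k hk hcop
    obtain ⟨B, hBdef⟩ : ∃ B : Subgroup K, B = Subgroup.closure {k, σK k} := ⟨_, rfl⟩
    have hkB : k ∈ B := hBdef ▸ Subgroup.subset_closure (by simp)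
    have hskB : σK k ∈ B := hBdef ▸ Subgroup.subset_closure (by simp)
    have hkk : k * σK k = σK k * k := by
      have h1 := norm4 σK hfK h4K k
      rw [hk, map_inv] at h1
      calc k * σK k = (k * σK k * k⁻¹ * (σK k)⁻¹) * (σK k * k) := by group
        _ = σK k * k := by rw [h1, one_mul]
    have hBc : ∀ a ∈ B, ∀ b ∈ B, a * b = b * a := by
      rw [hBdef]
      apply closure_comm_of_comm
      intro a ha b hb
      rcases ha with rfl | ha <;> rcases hb with rfl | hb
      · rfl
      · rw [Set.mem_singleton_iff] at hb; rw [hb]; exact hkk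
      · rw [Set.mem_singleton_iff] at ha; rw [ha]; exact hkk.symm
      · rw [Set.mem_singleton_iff] at ha hb; rw [ha, hb]
    have hσB : ∀ b ∈ B, σK b ∈ B := by
      intro b hb
      rw [hBdef] at hb
      induction hb using Subgroup.closure_induction with
      | mem x hx =>
        rcases hx with rfl | hx
        · exact hskB
        · rw [Set.mem_singleton_iff] at hx
          rw [hx, hk]; exact B.inv_mem hkB
      | one => rw [map_one]; exact B.one_mem
      | mul x y _ _ ihx ihy => rw [map_mul]; exact B.mul_mem ihx ihy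
      | inv x _ ihx => rw [map_inv]; exact B.inv_mem ihx
    have hτ : ∀ b ∈ B, σK (σK b) = b⁻¹ := by
      intro b hb
      rw [hBdef] at hb
      induction hb using Subgroup.closure_induction with
      | mem x hx =>
        rcases hx with rfl | hx
        · exact hk
        · rw [Set.mem_singleton_iff] at hx
          rw [hx, hk, map_inv]
      | one => simp
      | mul x y hx hy ihx ihy =>
        rw [map_mul, map_mul, ihx, ihy, mul_inv_rev]
        exact hBc _ (B.inv_mem (hBdef ▸ hx)) _ (B.inv_mem (hBdef ▸ hy))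
      | inv x _ ihx => rw [map_inv, map_inv, ihx]
    have hpowB : ∀ b ∈ B, b ^ orderOf k = 1 := by
      intro b hb
      rw [hBdef] at hb
      induction hb using Subgroup.closure_induction with
      | mem x hx =>
        rcases hx with rfl | hx
        · exact pow_orderOf_eq_one _
        · rw [Set.mem_singleton_iff] at hx
          rw [hx, ← map_pow, pow_orderOf_eq_one, map_one]
      | one => exact one_pow _
      | mul x y hx hy ihx ihy =>
        have hc : Commute x y := hBc _ (hBdef ▸ hx) _ (hBdef ▸ hy)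
        rw [hc.mul_pow, ihx, ihy, one_mul]
      | inv x _ ihx => rw [inv_pow, ihx, inv_one]
    have hoddB : Odd (Nat.card B) := by
      obtain ⟨c, hc⟩ := Subgroup.card_subgroup_dvd_card B
      rw [hc] at hoddK
      exact (Nat.odd_mul.1 hoddK).1
    have hcopB : (Nat.card B).Coprime (Nat.card (Additive V)) := by
      have e : Nat.card (Additive V) = Nat.card V := rfl
      rw [e]
      obtain ⟨j, hj⟩ := IsPGroup.iff_card.1 hV
      rw [hj]
      apply Nat.Coprime.pow_right
      rw [Nat.coprime_comm, Nat.Prime.coprime_iff_not_dvd hqp]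
      intro hdvd
      obtain ⟨b, hb⟩ := exists_prime_orderOf_dvd_card' q hdvd
      have h1 : (b : K) ^ orderOf k = 1 := hpowB b b.2
      have h2 : orderOf (b : K) = q := by rw [Subgroup.orderOf_coe]; exact hb
      have h3 : q ∣ orderOf k := h2 ▸ orderOf_dvd_of_pow_eq_one h1
      have h4 := Nat.Coprime.eq_one_of_dvd hcop.symm h3
      exact hqp.one_lt.ne' h4
    have hB := lemmaB ((toEnd V).comp act) (toEnd V σV) σK
      (by
        intro x
        apply AddMonoidHom.ext
        intro a
        show toEnd V σV (toEnd V (act x) a) = toEnd V (act (σK x)) (toEnd V σV a)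
        obtain ⟨v, rfl⟩ := Additive.ofMul.surjective a
        rw [toEnd_apply, toEnd_apply, toEnd_apply, toEnd_apply, hcompat])
      (by
        rw [← map_pow]
        have e : σV ^ 4 = 1 := by
          ext v
          show (σV ^ 4) v = v
          have e1 : (σV ^ 4) v = σV (σV (σV (σV v))) := rfl
          rw [e1, h4V]
        rw [e, map_one])
      (by
        intro a ha
        obtain ⟨v, rfl⟩ := Additive.ofMul.surjective a
        rw [toEnd_apply] at ha
        have := hfV v (Additive.ofMul.injective ha)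
        rw [this]; rfl)
      B hBc hσB hτ (fun b _ h => hfK b h) hoddB hcopB k hkB
    apply hfaith
    exact toEnd_eq_one V hB
  have h3' : ∀ k : K, σK (σK k) = k⁻¹ → ∃ j : ℕ, orderOf k = q ^ j := by
    intro k hk
    have hpos : orderOf k ≠ 0 := (orderOf_pos k).ne'
    obtain ⟨a, m, hm, hkm⟩ := Nat.exists_eq_pow_mul_and_not_dvd hpos q hqp.ne_one
    have h1 : σK (σK (k ^ q ^ a)) = (k ^ q ^ a)⁻¹ := by rw [map_pow, map_pow, hk, inv_pow]
    have h2 : (k ^ q ^ a) ^ m = 1 := by rw [← pow_mul, ← hkm, pow_orderOf_eq_one]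
    have h4 : (orderOf (k ^ q ^ a)).Coprime q := by
      have hd : orderOf (k ^ q ^ a) ∣ m := orderOf_dvd_of_pow_eq_one h2
      have hmq : m.Coprime q := by
        rw [Nat.coprime_comm, Nat.Prime.coprime_iff_not_dvd hqp]; exact hm
      exact Nat.Coprime.coprime_dvd_left hd hmq
    have h5 := h3 _ h1 h4
    have h6 : orderOf k ∣ q ^ a := orderOf_dvd_of_pow_eq_one h5
    obtain ⟨j, _, hj⟩ := (Nat.dvd_prime_pow hqp).1 h6
    exact ⟨j, hj⟩
  -- Step 4
  have h4 : ∀ (r : ℕ) [Fact r.Prime], ∀ x ∈ Cfsg.pCore r K, σK (σK x) = x := by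
    intro r hr x hx
    by_cases hrq : r = q
    · subst hrq
      rw [hQ, Subgroup.mem_bot] at hx
      rw [hx, map_one, map_one]
    obtain ⟨y, hy⟩ : ∃ y : K, y = x⁻¹ * σK (σK x) := ⟨_, rfl⟩
    have hyQ : y ∈ Cfsg.pCore r K := by
      rw [hy]
      exact Subgroup.mul_mem _ (Subgroup.inv_mem _ hx)
        (pCore_map_aut r σK (pCore_map_aut r σK hx))
    have hyτ : σK (σK y) = y⁻¹ := by
      rw [hy, map_mul, map_mul, map_inv, map_inv, h4K]; group
    obtain ⟨j, hj⟩ := h3' y hyτ
    obtain ⟨i, hi⟩ := (Cfsg.Agent.helper1.pCore_isPGroup (G := K) r) ⟨y, hyQ⟩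
    have hi' : y ^ r ^ i = 1 := by
      have := congrArg Subtype.val hi
      simpa using this
    have hd : q ^ j ∣ r ^ i := hj ▸ orderOf_dvd_of_pow_eq_one hi'
    have hj0 : j = 0 := by
      by_contra hj0
      have h1 : q ∣ r ^ i := dvd_trans (dvd_pow_self q hj0) hd
      have h2 : q ∣ r := hqp.dvd_of_dvd_pow h1
      exact hrq ((Nat.prime_dvd_prime_iff_eq hqp hr.out).1 h2).symm
    rw [hj0, pow_zero, orderOf_eq_one_iff] at hj
    rw [hj] at hy
    calc σK (σK x) = x * (x⁻¹ * σK (σK x)) := by group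
      _ = x := by rw [← hy, mul_one]
  -- Step 5
  let T : Subgroup K :=
    { carrier := {x | σK (σK x) = x}
      mul_mem' := fun {a b} ha hb => by
        show σK (σK (a * b)) = a * b
        rw [map_mul, map_mul, show σK (σK a) = a from ha, show σK (σK b) = b from hb]
      one_mem' := by show σK (σK 1) = 1; rw [map_one, map_one]
      inv_mem' := fun {a} ha => by
        show σK (σK a⁻¹) = a⁻¹
        rw [map_inv, map_inv, show σK (σK a) = a from ha] }
  have h5 : Cfsg.fittingSubgroup K ≤ T := by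
    rw [Cfsg.Agent.helper1.fitting_eq_iSup_pCore]
    apply iSup_le
    intro r
    haveI : Fact (r : ℕ).Prime := ⟨r.2⟩
    intro x hx
    exact h4 r x hx
  -- Step 6
  have hFn : (Cfsg.fittingSubgroup K).Normal := Cfsg.Agent.helper1.fitting_normal
  haveI := hsol
  have hFC := Cfsg.Agent.helper23.fitting_self_centralizing
    (Cfsg.Agent.helper23.ppreach_top_of_solvable (Nat.card K) K rfl)
  have h6 : ∀ k : K, σK (σK k) = k := by
    intro k
    obtain ⟨y, hy⟩ : ∃ y : K, y = k⁻¹ * σK (σK k) := ⟨_, rfl⟩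
    have hyτ : σK (σK y) = y⁻¹ := by
      rw [hy, map_mul, map_mul, map_inv, map_inv, h4K]; group
    have hyC : y ∈ Subgroup.centralizer ((Cfsg.fittingSubgroup K : Subgroup K) : Set K) := by
      rw [Subgroup.mem_centralizer_iff]
      intro m hm
      have h1 : σK (σK (k * m * k⁻¹)) = k * m * k⁻¹ := h5 (hFn.conj_mem m hm k)
      have h2 : σK (σK m) = m := h5 hm
      rw [map_mul, map_mul, map_mul, map_mul, map_inv, map_inv, h2] at h1
      rw [hy]
      calc m * (k⁻¹ * σK (σK k)) = k⁻¹ * (k * m * k⁻¹) * σK (σK k) := by group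
        _ = k⁻¹ * (σK (σK k) * m * (σK (σK k))⁻¹) * σK (σK k) := by rw [h1]
        _ = k⁻¹ * σK (σK k) * m := by group
    have hyF : σK (σK y) = y := h5 (hFC hyC)
    have hy2 : y ^ 2 = 1 := by
      rw [pow_two]
      calc y * y = y * (y⁻¹)⁻¹ := by rw [inv_inv]
        _ = y * (σK (σK y))⁻¹ := by rw [hyτ]
        _ = 1 := by rw [hyF, mul_inv_cancel]
    have hy1 : y = 1 := by
      have h1 : orderOf y ∣ 2 := orderOf_dvd_of_pow_eq_one hy2
      have h2 : orderOf y ∣ Nat.card K := orderOf_dvd_natCard y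
      have h3 : Odd (orderOf y) := by
        obtain ⟨c, hc⟩ := h2
        rw [hc] at hoddK
        exact (Nat.odd_mul.1 hoddK).1
      rcases (Nat.dvd_prime Nat.prime_two).1 h1 with h | h
      · exact orderOf_eq_one_iff.1 h
      · rw [h] at h3; exact absurd h3 (by decide)
    rw [hy1] at hy
    calc σK (σK k) = k * (k⁻¹ * σK (σK k)) := by group
      _ = k := by rw [← hy, mul_one]
  -- Step 7
  exact comm_of_inverting σK (inv_of_sq σK hfK h6)

end Cfsg.Agent.helper19.FPF
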