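import Mathlib
import Cfsg.Agent.Lib_helper19_FPF2

set_option autoImplicit false

/-! Fixed-point-free automorphisms of order dividing four: the derived subgroup is nilpotent. -/

namespace Cfsg.Agent.helper19.FPF

universe u

open scoped commutatorElement

/-- restriction of an automorphism with `σ⁴ = 1` to an invariant subgroup -/
def resAut {G : Type*} [Group G] (σ : MulAut G) (N : Subgroup G)
    (h4 : ∀ x, σ (σ (σ (σ x))) = x) (hσN : ∀ n ∈ N, σ n ∈ N) : MulAut N where
  toFun n := ⟨σ (n : G), hσN n n.2⟩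
  invFun n := ⟨σ (σ (σ (n : G))), hσN _ (hσN _ (hσN n n.2))⟩
  left_inv n := Subtype.ext (h4 n)
  right_inv n := Subtype.ext (h4 n)
  map_mul' a b := Subtype.ext (map_mul σ (a : G) (b : G))

theorem resAut_coe {G : Type*} [Group G] (σ : MulAut G) (N : Subgroup G)
    (h4 : ∀ x, σ (σ (σ (σ x))) = x) (hσN : ∀ n ∈ N, σ n ∈ N) (n : N) :
    ((resAut σ N h4 hσN n : N) : G) = σ n := rfl

/-- `core` without a bundled `CommGroup` instance. -/
theorem core' {K : Type u} {V : Type*} [Group K] [Finite K] [instV : Group V] [Finite V]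
    (hVcomm : ∀ a b : V, a * b = b * a)
    (hsol : Group.IsSolvable K) {q : ℕ} [hq : Fact q.Prime] (hV : IsPGroup q V)
    (hV1 : Nontrivial V)
    (act : K →* MulAut V) (hfaith : ∀ k, act k = 1 → k = 1)
    (σK : MulAut K) (σV : MulAut V)
    (hcompat : ∀ k v, σV (act k v) = act (σK k) (σV v))
    (h4K : ∀ k, σK (σK (σK (σK k))) = k) (h4V : ∀ v, σV (σV (σV (σV v))) = v)
    (hfK : ∀ k, σK k = k → k = 1) (hfV : ∀ v, σV v = v → v = 1)
    (hmin : ∀ W : Subgroup V, (∀ k, ∀ w ∈ W, act k w ∈ W) → (∀ w ∈ W, σV w ∈ W) →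
      W = ⊥ ∨ W = ⊤) :
    ∀ a b : K, a * b = b * a :=
  @core K V _ _ (@CommGroup.mk V instV hVcomm) _ hsol q hq hV hV1 act hfaith σK σV hcompat
    h4K h4V hfK hfV hmin

theorem main_aux : ∀ n : ℕ, ∀ (G : Type u) [Group G] [Finite G], Nat.card G = n →
    Group.IsSolvable G → ∀ σ : MulAut G, (∀ x, σ (σ (σ (σ x))) = x) →
    (∀ g, σ g = g → g = 1) → Group.IsNilpotent (commutator G) := by
  intro n
  induction n using Nat.strong_induction_on with
  | _ n ih =>
  intro G _ _ hcard hsol σ h4 hfpf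
  by_cases htriv : Subsingleton G
  · infer_instance
  have hnt : Nontrivial G := not_subsingleton_iff_nontrivial.1 htriv
  -- a minimal normal invariant subgroup
  let P : Set (Subgroup G) := {N | N.Normal ∧ (∀ n ∈ N, σ n ∈ N) ∧ N ≠ ⊥}
  have hPne : P.Nonempty := ⟨⊤, inferInstance, fun _ _ => Subgroup.mem_top _, top_ne_bot⟩
  obtain ⟨N, hNP, hNmin⟩ := wellFounded_lt.has_min P hPne
  obtain ⟨hNn, hσN, hNbot⟩ := hNP
  have hmin' : ∀ M : Subgroup G, M.Normal → (∀ m ∈ M, σ m ∈ M) → M ≤ N → M = ⊥ ∨ M = N := by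
    intro M hMn hσM hMN
    by_cases hM : M = ⊥
    · left; exact hM
    · right
      by_contra hne
      exact hNmin M ⟨hMn, hσM, hM⟩ (lt_of_le_of_ne hMN hne)
  -- N is abelian
  have hNab : ∀ a ∈ N, ∀ b ∈ N, a * b = b * a := by
    have hσD : ∀ m ∈ ⁅N, N⁆, σ m ∈ ⁅N, N⁆ := by
      intro m hm
      have h1 : σ m ∈ (⁅N, N⁆).map (σ : G →* G) := Subgroup.mem_map_of_mem _ hm
      rw [Subgroup.map_commutator] at h1
      have h2 : N.map (σ : G →* G) ≤ N := by
        rintro _ ⟨x, hx, rfl⟩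
        exact hσN x hx
      exact Subgroup.commutator_mono h2 h2 h1
    rcases hmin' ⁅N, N⁆ (Subgroup.commutator_normal N N) hσD (Subgroup.commutator_le_left N N)
      with hD | hD
    · rw [Subgroup.commutator_eq_bot_iff_le_centralizer] at hD
      intro a ha b hb
      have h1 := hD ha
      rw [Subgroup.mem_centralizer_iff] at h1
      exact (h1 b hb).symm
    · exfalso
      obtain ⟨k, hk⟩ := hsol.solvable
      have hall : ∀ j, N ≤ derivedSeries G j := by
        intro j
        induction j with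
        | zero => exact le_top
        | succ j ihj =>
          rw [derivedSeries_succ]
          calc N = ⁅N, N⁆ := hD.symm
            _ ≤ _ := Subgroup.commutator_mono ihj ihj
      have h1 := hall k
      rw [hk, le_bot_iff] at h1
      exact hNbot h1
  -- N is an elementary abelian q-group
  have hcardN : Nat.card N ≠ 1 := by
    intro h
    exact hNbot (Subgroup.card_eq_one.1 h)
  obtain ⟨q, hqp, hqd⟩ := Nat.exists_prime_and_dvd hcardN
  have hqF : Fact q.Prime := ⟨hqp⟩
  let T : Subgroup G :=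
    { carrier := {x | x ∈ N ∧ x ^ q = 1}
      mul_mem' := fun {a b} ha hb => ⟨N.mul_mem ha.1 hb.1, by
        rw [(show Commute a b from hNab a ha.1 b hb.1).mul_pow, ha.2, hb.2, one_mul]⟩
      one_mem' := ⟨N.one_mem, one_pow _⟩
      inv_mem' := fun {a} ha => ⟨N.inv_mem ha.1, by rw [inv_pow, ha.2, inv_one]⟩ }
  have hTmem : ∀ x, x ∈ T ↔ x ∈ N ∧ x ^ q = 1 := fun x => Iff.rfl
  have hTn : T.Normal := by
    constructor
    intro x hx g
    rw [hTmem] at hx ⊢
    refine ⟨hNn.conj_mem x hx.1 g, ?_⟩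
    rw [conj_pow, hx.2]; group
  have hσT : ∀ m ∈ T, σ m ∈ T := by
    intro m hm
    rw [hTmem] at hm ⊢
    exact ⟨hσN m hm.1, by rw [← map_pow, hm.2, map_one]⟩
  have hTN : T ≤ N := fun x hx => hx.1
  have hTbot : T ≠ ⊥ := by
    obtain ⟨x, hx⟩ := exists_prime_orderOf_dvd_card' q hqd
    intro hT
    have hxT : (x : G) ∈ T := by
      rw [hTmem]
      refine ⟨x.2, ?_⟩
      rw [← Subgroup.coe_pow, ← hx, pow_orderOf_eq_one]; rfl
    rw [hT, Subgroup.mem_bot] at hxT
    have h1 : x = 1 := Subtype.ext hxT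
    rw [h1, orderOf_one] at hx
    exact hqp.one_lt.ne hx
  have hTeq : T = N := (hmin' T hTn hσT hTN).resolve_left hTbot
  have hNq : ∀ x ∈ N, x ^ q = 1 := by
    intro x hx
    have h1 : x ∈ T := hTeq ▸ hx
    exact h1.2
  have hNcomm : ∀ a b : N, a * b = b * a := fun a b => Subtype.ext (hNab a a.2 b b.2)
  have hVq : IsPGroup q N := fun x => ⟨1, by rw [pow_one]; exact Subtype.ext (hNq x x.2)⟩
  have hV1 : Nontrivial N := (Subgroup.nontrivial_iff_ne_bot N).2 hNbot
  -- the centralizer of N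
  obtain ⟨C, hCdef⟩ : ∃ C : Subgroup G, C = Subgroup.centralizer (N : Set G) := ⟨_, rfl⟩
  have hCmem : ∀ g, g ∈ C ↔ ∀ n ∈ N, n * g = g * n := by
    intro g; rw [hCdef, Subgroup.mem_centralizer_iff]; rfl
  have hCn : C.Normal := by rw [hCdef]; infer_instance
  have hσC : ∀ c ∈ C, σ c ∈ C := by
    intro c hc
    rw [hCmem] at hc ⊢
    intro n hn
    have h1 := hc _ (hσN _ (hσN _ (hσN n hn)))
    have h2 := congrArg σ h1
    rw [map_mul, map_mul, h4] at h2
    exact h2
  have hCmap : C.map (σ : G →* G) = C := by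
    apply le_antisymm
    · rintro _ ⟨c, hc, rfl⟩; exact hσC c hc
    · intro c hc
      exact ⟨σ (σ (σ c)), hσC _ (hσC _ (hσC c hc)), h4 c⟩
  have hNmap : N.map (σ : G →* G) = N := by
    apply le_antisymm
    · rintro _ ⟨c, hc, rfl⟩; exact hσN c hc
    · intro c hc
      exact ⟨σ (σ (σ c)), hσN _ (hσN _ (hσN c hc)), h4 c⟩
  obtain ⟨σK, hσK⟩ : ∃ σK : MulAut (G ⧸ C), σK = QuotientGroup.congr C C σ hCmap := ⟨_, rfl⟩
  have hσKmk : ∀ g : G, σK (QuotientGroup.mk g) = QuotientGroup.mk (σ g) := by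
    intro g; rw [hσK]; exact QuotientGroup.congr_mk _ _ _ _ g
  have hfK : ∀ k, σK k = k → k = 1 := by
    rw [hσK]; exact fpf_quotient σ hfpf C hCmap
  have h4K : ∀ k : G ⧸ C, σK (σK (σK (σK k))) = k := by
    intro k
    obtain ⟨g, rfl⟩ := QuotientGroup.mk_surjective k
    rw [hσKmk, hσKmk, hσKmk, hσKmk, h4]
  have hker : ∀ c ∈ C, (MulAut.conjNormal c : MulAut N) = 1 := by
    intro c hc
    ext n
    rw [MulAut.conjNormal_apply, MulAut.one_apply]
    have h1 := (hCmem c).1 hc n n.2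
    rw [← h1]; group
  obtain ⟨act, hactdef⟩ : ∃ act : G ⧸ C →* MulAut N,
      act = QuotientGroup.lift C MulAut.conjNormal hker := ⟨_, rfl⟩
  have hact : ∀ (g : G) (v : N), ((act (QuotientGroup.mk g) v : N) : G) = g * v * g⁻¹ := by
    intro g v
    rw [hactdef]
    exact MulAut.conjNormal_apply g v
  have hfaith : ∀ k, act k = 1 → k = 1 := by
    intro k hk
    obtain ⟨g, rfl⟩ := QuotientGroup.mk_surjective k
    rw [QuotientGroup.eq_one_iff, hCmem]
    intro m hm
    have h1 := hact g ⟨m, hm⟩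
    rw [hk, MulAut.one_apply] at h1
    have h2 : m = g * m * g⁻¹ := h1
    calc m * g = g * m * g⁻¹ * g := by rw [← h2]
      _ = g * m := by group
  obtain ⟨σV, hσV⟩ : ∃ σV : MulAut N, σV = resAut σ N h4 hσN := ⟨_, rfl⟩
  have hσVc : ∀ v : N, ((σV v : N) : G) = σ v := by
    intro v; rw [hσV]; rfl
  have hcompat : ∀ k v, σV (act k v) = act (σK k) (σV v) := by
    intro k v
    obtain ⟨g, rfl⟩ := QuotientGroup.mk_surjective k
    apply Subtype.ext
    rw [hσKmk, hact, hσVc, hσVc, hact, map_mul, map_mul, map_inv]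
  have h4V : ∀ v, σV (σV (σV (σV v))) = v := by
    intro v
    apply Subtype.ext
    rw [hσVc, hσVc, hσVc, hσVc, h4]
  have hfV : ∀ v, σV v = v → v = 1 := by
    intro v hv
    apply Subtype.ext
    apply hfpf
    rw [← hσVc, hv]
  have hminV : ∀ W : Subgroup N, (∀ k, ∀ w ∈ W, act k w ∈ W) → (∀ w ∈ W, σV w ∈ W) →
      W = ⊥ ∨ W = ⊤ := by
    intro W hW1 hW2
    have hWn : (W.map N.subtype).Normal := by
      constructor
      rintro _ ⟨w, hw, rfl⟩ g
      exact ⟨act (QuotientGroup.mk g) w, hW1 _ w hw, hact g w⟩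
    have hWσ : ∀ m ∈ W.map N.subtype, σ m ∈ W.map N.subtype := by
      rintro _ ⟨w, hw, rfl⟩
      exact ⟨σV w, hW2 w hw, hσVc w⟩
    have hWN : W.map N.subtype ≤ N := by
      rintro _ ⟨w, _, rfl⟩; exact w.2
    rcases hmin' _ hWn hWσ hWN with h | h
    · left
      rw [eq_bot_iff]
      intro w hw
      have h1 : (w : G) ∈ W.map N.subtype := ⟨w, hw, rfl⟩
      rw [h, Subgroup.mem_bot] at h1
      rw [Subgroup.mem_bot]; exact Subtype.ext h1
    · right
      rw [eq_top_iff]
      intro w _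
      have h1 : (w : G) ∈ W.map N.subtype := by rw [h]; exact w.2
      obtain ⟨w', hw', hww⟩ := h1
      have h2 : w' = w := Subtype.ext hww
      rw [← h2]; exact hw'
  have hKsol : Group.IsSolvable (G ⧸ C) := inferInstance
  have hKcomm := core' hNcomm hKsol hVq hV1 act hfaith σK σV hcompat h4K h4V hfK hfV hminV
  have hGC : commutator G ≤ C := by
    rw [commutator_def, Subgroup.commutator_le]
    intro a _ b _
    rw [← QuotientGroup.eq_one_iff]
    have h1 : ((⁅a, b⁆ : G) : G ⧸ C) = ⁅(a : G ⧸ C), (b : G ⧸ C)⁆ :=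
      map_commutatorElement (QuotientGroup.mk' C) a b
    rw [h1, commutatorElement_eq_one_iff_mul_comm]
    exact hKcomm _ _
  -- induction hypothesis on G ⧸ N
  have hcardlt : Nat.card (G ⧸ N) < n := by
    rw [← hcard, Subgroup.card_eq_card_quotient_mul_card_subgroup N]
    have h1 : 1 < Nat.card N := by
      have : 0 < Nat.card N := Nat.card_pos
      omega
    have h2 : 0 < Nat.card (G ⧸ N) := Nat.card_pos
    nlinarith
  have h4Q : ∀ k : G ⧸ N, QuotientGroup.congr N N σ hNmap (QuotientGroup.congr N N σ hNmap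
      (QuotientGroup.congr N N σ hNmap (QuotientGroup.congr N N σ hNmap k))) = k := by
    intro k
    obtain ⟨g, rfl⟩ := QuotientGroup.mk_surjective k
    rw [QuotientGroup.congr_mk, QuotientGroup.congr_mk, QuotientGroup.congr_mk,
      QuotientGroup.congr_mk]
    exact congrArg _ (h4 g)
  have hQnil : Group.IsNilpotent (commutator (G ⧸ N)) :=
    ih _ hcardlt (G ⧸ N) rfl inferInstance (QuotientGroup.congr N N σ hNmap) h4Q
      (fpf_quotient σ hfpf N hNmap)
  -- conclusion
  let f0 : commutator G →* G ⧸ N := (QuotientGroup.mk' N).comp (commutator G).subtype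
  have hf0 : ∀ x, f0 x ∈ commutator (G ⧸ N) := by
    intro x
    have h1 : (QuotientGroup.mk' N) (x : G) ∈
        (⁅(⊤ : Subgroup G), (⊤ : Subgroup G)⁆).map (QuotientGroup.mk' N) :=
      Subgroup.mem_map_of_mem _ x.2
    rw [Subgroup.map_commutator] at h1
    exact Subgroup.commutator_mono le_top le_top h1
  let f : commutator G →* commutator (G ⧸ N) := f0.codRestrict _ hf0
  have hQnil' := hQnil
  apply Subgroup.isNilpotent_of_ker_le_center f
  intro x hx
  rw [MonoidHom.mem_ker] at hx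
  have hxN : (x : G) ∈ N := by
    have h1 : f0 x = 1 := congrArg Subtype.val hx
    exact (QuotientGroup.eq_one_iff _).1 h1
  rw [Subgroup.mem_center_iff]
  intro y
  apply Subtype.ext
  have h1 := (hCmem y).1 (hGC y.2) x hxN
  show (y : G) * x = x * y
  exact h1.symm

end Cfsg.Agent.helper19.FPF
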