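import Mathlib
import Cfsg.Prelude.Def_Solvable
import Cfsg.Agent.Lib_helper1_Core
import Cfsg.Agent.Lib_helper23_PSolv3
import Cfsg.Agent.Lib_helper7_Fitting
import Cfsg.Agent.S0120
import Cfsg.Agent.S0946

set_option autoImplicit false
set_option linter.style.haveILetI false

namespace Cfsg.Agent.helper19

open Cfsg Cfsg.Agent.helper1
open scoped Pointwise

/-- An `r'`-element centralizes `O_r(G)` provided it centralizes its elements of order `r`
(`r` odd). -/
theorem centralizes_pCore_of_coprime {G : Type*} [Group G] [Finite G] (r : ℕ) [hr : Fact r.Prime]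
    (hodd : Odd (Nat.card (pCore r G)))
    (hcent : ∀ x ∈ pCore r G, orderOf x = r → x ∈ Subgroup.center G)
    (y : G) (hy : (orderOf y).Coprime r) : y ∈ Subgroup.centralizer (pCore r G : Set G) := by
  have hP : IsPGroup r (pCore r G) := Cfsg.Agent.helper1.pCore_isPGroup r
  haveI hPn : (pCore r G).Normal := Cfsg.Agent.helper1.pCore_normal r
  by_cases hr2 : r = 2
  · subst hr2
    obtain ⟨k, hk⟩ := hP.exists_card_eq
    have hk0 : k = 0 := by
      by_contra hne
      rw [hk] at hodd
      have : Even (2 ^ k) := (Nat.even_pow).2 ⟨even_two, hne⟩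
      exact (Nat.not_odd_iff_even.2 this) hodd
    rw [hk0, pow_zero] at hk
    have hbot : pCore 2 G = ⊥ := Subgroup.card_eq_one.1 hk
    rw [hbot]
    rw [Subgroup.mem_centralizer_iff]
    intro h hh
    rw [Subgroup.coe_bot, Set.mem_singleton_iff] at hh
    rw [hh]; simp
  · have hyN : y ∈ Subgroup.normalizer ((pCore r G : Subgroup G) : Set G) := by
      rw [Subgroup.normalizer_eq_top_iff.2 hPn]; trivial
    set a : MulAut ↥(pCore r G) := Cfsg.Agent.S0946.conjAut (pCore r G) y hyN with ha
    have hapow : a ^ orderOf y = 1 := by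
      ext x
      rw [Cfsg.Agent.S0946.conjAut_pow, pow_orderOf_eq_one]
      simp
    have hao : (orderOf a).Coprime r :=
      Nat.Coprime.coprime_dvd_left (orderOf_dvd_of_pow_eq_one hapow) hy
    have hfix : ∀ x : ↥(pCore r G), x ^ r = 1 → a x = x := by
      intro x hx
      by_cases hx1 : x = 1
      · rw [hx1, map_one]
      · have hox : orderOf x = r := orderOf_eq_prime hx hx1
        have hox' : orderOf (x : G) = r := by rw [Subgroup.orderOf_coe]; exact hox
        have hc := hcent (x : G) x.2 hox'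
        apply Subtype.ext
        rw [ha, Cfsg.Agent.S0946.conjAut_apply]
        have := Subgroup.mem_center_iff.1 hc y
        rw [this]; group
    have ha1 : a = 1 := Cfsg.Agent.S0120.result hr2 hP a hao hfix
    rw [Subgroup.mem_centralizer_iff]
    intro x hx
    have h1 : a ⟨x, hx⟩ = ⟨x, hx⟩ := by rw [ha1]; rfl
    have h2 := congrArg Subtype.val h1
    rw [ha, Cfsg.Agent.S0946.conjAut_apply] at h2
    simp only at h2
    calc x * y = (y * x * y⁻¹) * y := by rw [h2]
      _ = y * x := by group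


/-- If every element of prime order of `F(G)` is central in the solvable group `G` and `F(G)` has odd
order, then `G` is nilpotent. -/
theorem fitting_eq_top_of_central {G : Type*} [Group G] [Finite G] (hG : Group.IsSolvable G)
    (hodd : Odd (Nat.card (fittingSubgroup G)))
    (hcent : ∀ x ∈ fittingSubgroup G, (orderOf x).Prime → x ∈ Subgroup.center G) :
    fittingSubgroup G = ⊤ := by
  classical
  set F := fittingSubgroup G with hF
  haveI hFn : F.Normal := Cfsg.Agent.helper1.fitting_normal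
  by_contra hne
  haveI : Nontrivial (G ⧸ F) := by
    rw [← not_subsingleton_iff_nontrivial]
    intro hsub
    apply hne
    rw [eq_top_iff]
    intro g _
    have : (QuotientGroup.mk g : G ⧸ F) = 1 := Subsingleton.elim _ _
    exact (QuotientGroup.eq_one_iff g).1 this
  obtain ⟨q, hq⟩ := Cfsg.Agent.helper23.exists_pCore_ne_bot_of_solvable (G ⧸ F)
  haveI hqf : Fact (q : ℕ).Prime := ⟨q.2⟩
  have hqprime : (q : ℕ).Prime := q.2
  haveI hOn : (pCore (q : ℕ) (G ⧸ F)).Normal := Cfsg.Agent.helper1.pCore_normal _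
  have hOp : IsPGroup (q : ℕ) (pCore (q : ℕ) (G ⧸ F)) := Cfsg.Agent.helper1.pCore_isPGroup _
  set M : Subgroup G := (pCore (q : ℕ) (G ⧸ F)).comap (QuotientGroup.mk' F) with hM
  haveI hMn : M.Normal := hOn.comap _
  -- the q'-part of F
  set K : Subgroup G := ⨆ r : {r : Nat.Primes // (r : ℕ) ≠ (q : ℕ)}, pCore ((r : Nat.Primes) : ℕ) G
    with hK
  haveI hKn : K.Normal := by
    haveI : ∀ r : {r : Nat.Primes // (r : ℕ) ≠ (q : ℕ)},
        (pCore ((r : Nat.Primes) : ℕ) G).Normal := fun r => Cfsg.Agent.helper1.pCore_normal _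
    exact Subgroup.iSup_normal _
  haveI hOqn : (pCore (q : ℕ) G).Normal := Cfsg.Agent.helper1.pCore_normal _
  have hFsup : F = pCore (q : ℕ) G ⊔ K := by
    rw [hF, Cfsg.Agent.helper1.fitting_eq_iSup_pCore]
    apply le_antisymm
    · apply iSup_le
      intro r
      by_cases hrq : (r : ℕ) = (q : ℕ)
      · rw [hrq]; exact le_sup_left
      · exact le_sup_of_le_right
          (le_iSup (fun r : {r : Nat.Primes // (r : ℕ) ≠ (q : ℕ)} =>
            pCore ((r : Nat.Primes) : ℕ) G) ⟨r, hrq⟩)
    · apply sup_le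
      · exact le_iSup (fun r : Nat.Primes => pCore (r : ℕ) G) q
      · apply iSup_le
        intro r
        exact le_iSup (fun r : Nat.Primes => pCore (r : ℕ) G) r.1
  -- q-elements centralize K
  have hqcent : ∀ y : G, (∃ k : ℕ, orderOf y = (q : ℕ) ^ k) →
      y ∈ Subgroup.centralizer (K : Set G) := by
    rintro y ⟨k, hk⟩
    have hle : K ≤ Subgroup.centralizer ({y} : Set G) := by
      apply iSup_le
      rintro ⟨r, hrq⟩
      haveI : Fact (r : ℕ).Prime := ⟨r.2⟩
      have hrF : pCore (r : ℕ) G ≤ F := Cfsg.Agent.helper1.pCore_le_fitting _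
      have hcop : (orderOf y).Coprime (r : ℕ) := by
        rw [hk]
        exact Nat.Coprime.pow_left k ((Nat.coprime_primes hqprime r.2).2 (fun h => hrq h.symm))
      have hodd' : Odd (Nat.card (pCore (r : ℕ) G)) :=
        Odd.of_dvd_nat hodd (Subgroup.card_dvd_of_le hrF)
      have := centralizes_pCore_of_coprime (r : ℕ) hodd'
        (fun x hx hox => hcent x (hrF hx) (by rw [hox]; exact r.2)) y hcop
      intro x hx
      rw [Subgroup.mem_centralizer_iff]
      intro h hh
      rw [Set.mem_singleton_iff] at hh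
      rw [hh]
      exact (Subgroup.mem_centralizer_iff.1 this x hx).symm
    rw [Subgroup.mem_centralizer_iff]
    intro x hx
    have := Subgroup.mem_centralizer_iff.1 (hle hx) y (Set.mem_singleton y)
    exact this.symm
  -- D
  set D : Subgroup G := M ⊓ Subgroup.centralizer (K : Set G) with hD
  haveI hCn : (Subgroup.centralizer (K : Set G)).Normal := Subgroup.normal_centralizer
  haveI hDn : D.Normal := Subgroup.normal_inf_normal _ _
  have hDnil : Group.IsNilpotent ↥D := by
    set Z : Subgroup ↥D := K.subgroupOf D with hZ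
    haveI hZn : Z.Normal := by rw [hZ]; infer_instance
    have hZc : Z ≤ Subgroup.center ↥D := by
      intro z hz
      rw [Subgroup.mem_center_iff]
      intro d
      have hd : (d : G) ∈ Subgroup.centralizer (K : Set G) := d.2.2
      have hz' : (z : G) ∈ K := hz
      apply Subtype.ext
      have := Subgroup.mem_centralizer_iff.1 hd (z : G) hz'
      simp only [Subgroup.coe_mul]
      exact this.symm
    have hQp : IsPGroup (q : ℕ) (↥D ⧸ Z) := by
      intro dbar
      induction dbar using QuotientGroup.induction_on with | H d => ?_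
      have hdM : (d : G) ∈ M := d.2.1
      obtain ⟨a, ha⟩ := hOp ⟨QuotientGroup.mk' F (d : G), hdM⟩
      have ha' : ((d : G) ^ (q : ℕ) ^ a) ∈ F := by
        have := congrArg Subtype.val ha
        simp only [Subgroup.coe_pow, Subgroup.coe_one] at this
        rw [← map_pow] at this
        exact (QuotientGroup.eq_one_iff _).1 this
      rw [hFsup] at ha'
      have hmul : ((d : G) ^ (q : ℕ) ^ a) ∈ ((pCore (q : ℕ) G : Subgroup G) : Set G) * (K : Set G) := by
        rw [← Subgroup.mul_normal]; exact ha'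
      obtain ⟨u, hu, k, hk, huk⟩ := Set.mem_mul.1 hmul
      obtain ⟨b, hb⟩ := (Cfsg.Agent.helper1.pCore_isPGroup (G := G) (q : ℕ)) ⟨u, hu⟩
      have hb' : u ^ (q : ℕ) ^ b = 1 := by
        have := congrArg Subtype.val hb
        simpa using this
      have huq : ∃ j : ℕ, orderOf u = (q : ℕ) ^ j := by
        obtain ⟨j, _, hj⟩ := (Nat.dvd_prime_pow hqprime).1 (orderOf_dvd_of_pow_eq_one hb')
        exact ⟨j, hj⟩
      have hucent := hqcent u huq
      have hcomm : Commute u k := (Subgroup.mem_centralizer_iff.1 hucent k hk).symm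
      refine ⟨a + b, ?_⟩
      rw [← QuotientGroup.mk_pow, QuotientGroup.eq_one_iff, hZ, Subgroup.mem_subgroupOf]
      simp only [Subgroup.coe_pow]
      rw [pow_add, pow_mul, ← huk, hcomm.mul_pow, hb', one_mul]
      exact K.pow_mem hk _
    haveI : Group.IsNilpotent (↥D ⧸ Z) := hQp.isNilpotent
    apply Subgroup.isNilpotent_of_ker_le_center (QuotientGroup.mk' Z)
    rw [QuotientGroup.ker_mk']
    exact hZc
  have hDF : D ≤ F := Cfsg.Agent.helper1.le_fitting hDn hDnil
  -- M ≤ F
  have hMF : M ≤ F := by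
    intro x hx
    obtain ⟨a, m, hm, hn⟩ := Nat.exists_eq_pow_mul_and_not_dvd (n := orderOf x)
      (orderOf_pos x).ne' (q : ℕ) hqprime.ne_one
    have hcop : Nat.Coprime ((q : ℕ) ^ a) m :=
      Nat.Coprime.pow_left a ((Nat.Prime.coprime_iff_not_dvd hqprime).2 hm)
    -- x₁ = x ^ m is a q-element
    have hx1 : x ^ m ∈ F := by
      apply hDF
      refine ⟨M.pow_mem hx m, hqcent _ ?_⟩
      have h1 : (x ^ m) ^ ((q : ℕ) ^ a) = 1 := by
        rw [← pow_mul, mul_comm, ← hn, pow_orderOf_eq_one]
      obtain ⟨j, _, hj⟩ := (Nat.dvd_prime_pow hqprime).1 (orderOf_dvd_of_pow_eq_one h1)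
      exact ⟨j, hj⟩
    -- x₂ = x ^ (q ^ a) is a q'-element
    have hx2 : x ^ ((q : ℕ) ^ a) ∈ F := by
      have hmem : x ^ ((q : ℕ) ^ a) ∈ M := M.pow_mem hx _
      obtain ⟨b, hb⟩ := hOp ⟨QuotientGroup.mk' F (x ^ ((q : ℕ) ^ a)), hmem⟩
      have hb' : (QuotientGroup.mk' F (x ^ ((q : ℕ) ^ a))) ^ ((q : ℕ) ^ b) = 1 := by
        have := congrArg Subtype.val hb
        simpa using this
      have hm' : (QuotientGroup.mk' F (x ^ ((q : ℕ) ^ a))) ^ m = 1 := by
        rw [← map_pow, ← pow_mul, ← hn, pow_orderOf_eq_one, map_one]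
      have ho1 := orderOf_dvd_of_pow_eq_one hb'
      have ho2 := orderOf_dvd_of_pow_eq_one hm'
      have hcop' : Nat.Coprime ((q : ℕ) ^ b) m :=
        Nat.Coprime.pow_left b ((Nat.Prime.coprime_iff_not_dvd hqprime).2 hm)
      have ho : orderOf (QuotientGroup.mk' F (x ^ ((q : ℕ) ^ a))) = 1 :=
        Nat.eq_one_of_dvd_coprimes hcop' ho1 ho2
      have := orderOf_eq_one_iff.1 ho
      exact (QuotientGroup.eq_one_iff _).1 this
    -- Bezout
    have hbez := Nat.gcd_eq_gcd_ab ((q : ℕ) ^ a) m
    rw [hcop.gcd_eq_one] at hbez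
    have hxz : x = (x ^ ((q : ℕ) ^ a)) ^ (Nat.gcdA ((q : ℕ) ^ a) m) *
        (x ^ m) ^ (Nat.gcdB ((q : ℕ) ^ a) m) := by
      rw [← zpow_natCast x, ← zpow_natCast x, ← zpow_mul, ← zpow_mul, ← zpow_add]
      have : ((((q : ℕ) ^ a : ℕ) : ℤ) * Nat.gcdA ((q : ℕ) ^ a) m + (m : ℤ) * Nat.gcdB ((q : ℕ) ^ a) m) = 1 := by
        rw [← hbez]; simp
      rw [this, zpow_one]
    rw [hxz]
    exact F.mul_mem (F.zpow_mem hx2 _) (F.zpow_mem hx1 _)
  apply hq
  rw [eq_bot_iff]
  intro z hz
  obtain ⟨g, rfl⟩ := QuotientGroup.mk'_surjective F z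
  have hgM : g ∈ M := hz
  rw [Subgroup.mem_bot]
  exact (QuotientGroup.eq_one_iff g).2 (hMF hgM)


theorem mem_fitting_of_centralizes_prime {G : Type*} [Group G] [Finite G] (hG : Group.IsSolvable G)
    (hodd : Odd (Nat.card (fittingSubgroup G))) (g : G)
    (hg : ∀ x ∈ fittingSubgroup G, (orderOf x).Prime → g * x = x * g) :
    g ∈ fittingSubgroup G := by
  set F := fittingSubgroup G with hF
  haveI hFn : F.Normal := Cfsg.Agent.helper1.fitting_normal
  set Ω : Set G := {x | x ∈ F ∧ (orderOf x).Prime} with hΩ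
  set C : Subgroup G := Subgroup.centralizer Ω with hC
  have hgC : g ∈ C := by
    rw [hC, Subgroup.mem_centralizer_iff]
    intro x hx
    exact (hg x hx.1 hx.2).symm
  haveI hCn : C.Normal := by
    constructor
    intro c hc t
    rw [hC, Subgroup.mem_centralizer_iff] at hc ⊢
    intro x hx
    have hx' : t⁻¹ * x * t ∈ Ω := by
      refine ⟨?_, ?_⟩
      · have := hFn.conj_mem x hx.1 t⁻¹
        simpa using this
      · have e : t⁻¹ * x * t = MulAut.conj t⁻¹ x := by simp
        rw [e, MulEquiv.orderOf_eq]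
        exact hx.2
    have h1 := hc _ hx'
    calc x * (t * c * t⁻¹) = t * ((t⁻¹ * x * t) * c) * t⁻¹ := by group
      _ = t * (c * (t⁻¹ * x * t)) * t⁻¹ := by rw [h1]
      _ = t * c * t⁻¹ * x := by group
  haveI : Group.IsSolvable G := hG
  have hCs : Group.IsSolvable ↥C := inferInstance
  have hmap : (fittingSubgroup ↥C).map C.subtype = Cfsg.Agent.helper7.fitOf C :=
    Cfsg.Agent.helper7.map_fittingSubgroup_eq C
  have hfn : (Cfsg.Agent.helper7.fitOf C).Normal := by
    rw [← Subgroup.normalizer_eq_top_iff]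
    have h1 := Cfsg.Agent.helper7.normalizer_le_normalizer_fitOf C
    rw [Subgroup.normalizer_eq_top_iff.2 hCn] at h1
    exact top_le_iff.1 h1
  have hfF : Cfsg.Agent.helper7.fitOf C ≤ F :=
    Cfsg.Agent.helper1.le_fitting hfn (Cfsg.Agent.helper7.fitOf_nilpotent C)
  have hmem : ∀ x : ↥C, x ∈ fittingSubgroup ↥C → (x : G) ∈ F := by
    intro x hx
    apply hfF
    rw [← hmap]
    exact ⟨x, hx, rfl⟩
  have hodd' : Odd (Nat.card (fittingSubgroup ↥C)) := by
    have h1 : Nat.card (fittingSubgroup ↥C) = Nat.card (Cfsg.Agent.helper7.fitOf C) := by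
      rw [← hmap, Subgroup.card_subtype]
    rw [h1]
    exact Odd.of_dvd_nat hodd (Subgroup.card_dvd_of_le hfF)
  have hcent' : ∀ x ∈ fittingSubgroup ↥C, (orderOf x).Prime → x ∈ Subgroup.center ↥C := by
    intro x hx hox
    have hxΩ : (x : G) ∈ Ω := ⟨hmem x hx, by rw [Subgroup.orderOf_coe]; exact hox⟩
    rw [Subgroup.mem_center_iff]
    intro c
    have hc : (c : G) ∈ Subgroup.centralizer Ω := c.2
    have := Subgroup.mem_centralizer_iff.1 hc _ hxΩ
    apply Subtype.ext
    simp only [Subgroup.coe_mul]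
    exact this.symm
  have htop := fitting_eq_top_of_central hCs hodd' hcent'
  apply hfF
  rw [← hmap, htop]
  exact ⟨⟨g, hgC⟩, Subgroup.mem_top _, rfl⟩

end Cfsg.Agent.helper19
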