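import Mathlib
import Cfsg.Agent.Lib_lead_Coprime4
import Cfsg.Agent.Lib_helper23_Hall

set_option autoImplicit false
set_option linter.style.haveILetI false
set_option linter.unusedSectionVars false

namespace Cfsg.Agent.helper19

open Cfsg.Agent.helper7

universe u

/-- Hall conjugacy inside a solvable subgroup. -/
theorem hall_conj_sub {Γ : Type u} [Group Γ] [Finite Γ] (K : Subgroup Γ) (hsolv : Group.IsSolvable K)
    (m n : ℕ) (hK : Nat.card K = m * n) (hmn : m.Coprime n) (H₁ H₂ : Subgroup Γ) (h₁ : H₁ ≤ K)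
    (h₂ : H₂ ≤ K) (hc₁ : Nat.card H₁ = m) (hc₂ : Nat.card H₂ = m) :
    ∃ k ∈ K, cj k H₁ = H₂ := by
  haveI := hsolv
  obtain ⟨g, hg⟩ := Cfsg.Agent.helper23.hall_conj m n hK hmn (H₁.subgroupOf K) (H₂.subgroupOf K)
    (by rw [Cfsg.Agent.lead.card_subgroupOf_of_le h₁, hc₁])
    (by rw [Cfsg.Agent.lead.card_subgroupOf_of_le h₂, hc₂])
  refine ⟨(g : Γ), g.2, ?_⟩
  have := congrArg (Subgroup.map K.subtype) hg
  rw [Cfsg.Agent.lead.smul_eq_cj, Cfsg.Agent.lead.map_subtype_cj,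
    Subgroup.map_subgroupOf_eq_of_le h₁, Subgroup.map_subgroupOf_eq_of_le h₂] at this
  exact this

/-- (b): two `A`-invariant Hall subgroups of the solvable group `W` are conjugate under `C_W(A)`. -/
theorem invariant_hall_conj {Γ : Type u} [Group Γ] [Finite Γ] (A W : Subgroup Γ)
    (hAW : A ≤ Subgroup.normalizer (W : Set Γ)) (hcop : (Nat.card A).Coprime (Nat.card W))
    (hsolv : Group.IsSolvable W) (m n : ℕ) (hW : Nat.card W = m * n) (hmn : m.Coprime n)
    (H₁ H₂ : Subgroup Γ) (h₁ : H₁ ≤ W) (h₂ : H₂ ≤ W) (hc₁ : Nat.card H₁ = m)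
    (hc₂ : Nat.card H₂ = m) (hA₁ : A ≤ Subgroup.normalizer (H₁ : Set Γ))
    (hA₂ : A ≤ Subgroup.normalizer (H₂ : Set Γ)) :
    ∃ c ∈ W ⊓ Subgroup.centralizer (A : Set Γ), cj c H₁ = H₂ := by
  obtain ⟨k, hk, hkH⟩ := hall_conj_sub W hsolv m n hW hmn H₁ H₂ h₁ h₂ hc₁ hc₂
  exact Cfsg.Agent.lead.invariant_sylow_conj A W hAW hcop (Or.inr hsolv) H₁ H₂ k hk hkH hA₁ hA₂

/-- (a), type version. -/
theorem exists_invariant_hall_type {Γ : Type u} [Group Γ] [Finite Γ] (K A : Subgroup Γ)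
    [hKn : K.Normal] (hA : Nat.card A = K.index) (hcop : (Nat.card K).Coprime K.index)
    (hsolv : Group.IsSolvable K) (m n : ℕ) (hK : Nat.card K = m * n) (hmn : m.Coprime n) :
    ∃ H : Subgroup Γ, H ≤ K ∧ Nat.card H = m ∧ A ≤ Subgroup.normalizer (H : Set Γ) := by
  haveI := hsolv
  obtain ⟨S, hS⟩ := Cfsg.Agent.helper23.hall_exists (G := ↥K) m n hK hmn
  set H₀ : Subgroup Γ := S.map K.subtype with hH₀
  have hH₀K : H₀ ≤ K := Subgroup.map_subtype_le _
  have hH₀c : Nat.card H₀ = m := by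
    rw [hH₀, Subgroup.card_map_of_injective K.subtype_injective, hS]
  set L : Subgroup Γ := Subgroup.normalizer (H₀ : Set Γ) with hL
  have hcjK : ∀ γ : Γ, cj γ H₀ ≤ K := by
    intro γ
    have h2 : cj γ K = K := cj_eq_of_mem_normalizer (by
      rw [Subgroup.normalizer_eq_top]; exact Subgroup.mem_top γ)
    rw [← h2]; exact cj_mono hH₀K
  have htrans : ∀ x y : Γ ⧸ L, ∃ k ∈ K, k • x = y := by
    intro x y
    induction x using QuotientGroup.induction_on with
    | H γ₁ =>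
    induction y using QuotientGroup.induction_on with
    | H γ₂ =>
    obtain ⟨k, hk, hkH⟩ := hall_conj_sub K hsolv m n hK hmn (cj γ₁ H₀) (cj γ₂ H₀) (hcjK γ₁) (hcjK γ₂)
      (by rw [card_cj, hH₀c]) (by rw [card_cj, hH₀c])
    refine ⟨k, hk, ?_⟩
    rw [MulAction.Quotient.smul_mk, QuotientGroup.eq, smul_eq_mul]
    rw [cj_cj] at hkH
    have h1 : cj (γ₂⁻¹ * (k * γ₁)) H₀ = H₀ := by
      rw [← cj_cj, hkH, cj_cj, inv_mul_cancel, cj_one]
    have h2 := mem_normalizer_of_cj_eq h1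
    have h3 := Subgroup.inv_mem _ h2
    have e : (γ₂⁻¹ * (k * γ₁))⁻¹ = (k * γ₁)⁻¹ * γ₂ := by group
    rw [e] at h3
    exact h3
  obtain ⟨⟨x, hx⟩, -⟩ := Cfsg.Agent.lead.glauberman (X := Γ ⧸ L) K A hA hcop (Or.inl hsolv) htrans
  induction x using QuotientGroup.induction_on with
  | H γ =>
  refine ⟨cj γ H₀, hcjK γ, by rw [card_cj, hH₀c], ?_⟩
  intro a ha
  have h1 := hx a ha
  rw [MulAction.Quotient.smul_mk, QuotientGroup.eq, smul_eq_mul] at h1
  have h2 : γ⁻¹ * a * γ ∈ L := by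
    have := L.inv_mem h1
    have e : ((a * γ)⁻¹ * γ)⁻¹ = γ⁻¹ * a * γ := by group
    rwa [e] at this
  rw [← cj_normalizer, mem_cj]
  exact h2

/-- (a): there is an `A`-invariant Hall subgroup of the solvable group `K`. -/
theorem exists_invariant_hall {G : Type u} [Group G] [Finite G] (A K : Subgroup G)
    (hAK : A ≤ Subgroup.normalizer (K : Set G)) (hcop : (Nat.card A).Coprime (Nat.card K))
    (hsolv : Group.IsSolvable K) (m n : ℕ) (hK : Nat.card K = m * n) (hmn : m.Coprime n) :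
    ∃ H : Subgroup G, H ≤ K ∧ Nat.card H = m ∧ A ≤ Subgroup.normalizer (H : Set G) := by
  set Γ : Subgroup G := K ⊔ A with hΓ
  have hKΓ : K ≤ Γ := le_sup_left
  have hAΓ : A ≤ Γ := le_sup_right
  have hΓnorm : Γ ≤ Subgroup.normalizer (K : Set G) := sup_le Subgroup.le_normalizer hAK
  set N : Subgroup Γ := K.subgroupOf Γ with hN
  haveI hNn : N.Normal := (Subgroup.normal_subgroupOf_iff_le_normalizer hKΓ).mpr hΓnorm
  set A' : Subgroup Γ := A.subgroupOf Γ with hA'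
  have hNc : Nat.card N = Nat.card K := Cfsg.Agent.lead.card_subgroupOf_of_le hKΓ
  have hA'c : Nat.card A' = Nat.card A := Cfsg.Agent.lead.card_subgroupOf_of_le hAΓ
  have hsup : N ⊔ A' = ⊤ := by
    rw [hN, hA', ← Subgroup.subgroupOf_sup hKΓ hAΓ, Subgroup.subgroupOf_self]
  have hdisj : Disjoint N A' :=
    Subgroup.disjoint_of_coprime_natCard (by rw [hNc, hA'c]; exact hcop.symm)
  have hcomp : Subgroup.IsComplement' N A' := by
    apply Subgroup.isComplement'_of_disjoint_and_mul_eq_univ hdisj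
    rw [← Subgroup.normal_mul, hsup]
    rfl
  have hNidx : N.index = Nat.card A' := hcomp.symm.index_eq_card
  have hcopN : (Nat.card N).Coprime N.index := by
    rw [hNidx, hNc, hA'c]; exact hcop.symm
  have hsolv' : Group.IsSolvable N := Cfsg.Agent.lead.solvable_subgroupOf_of_solvable K Γ hsolv
  obtain ⟨P', hP'N, hP'c, hP'A⟩ := exists_invariant_hall_type N A' hNidx.symm hcopN hsolv' m n
    (by rw [hNc, hK]) hmn
  refine ⟨P'.map Γ.subtype, ?_, ?_, ?_⟩
  · rintro _ ⟨x, hx, rfl⟩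
    have := hP'N hx
    rw [hN, Subgroup.mem_subgroupOf] at this
    exact this
  · rw [Subgroup.card_map_of_injective Γ.subtype_injective, hP'c]
  · intro a ha
    have h1 : (⟨a, hAΓ ha⟩ : Γ) ∈ Subgroup.normalizer (P' : Set Γ) := hP'A (by
      rw [hA', Subgroup.mem_subgroupOf]; exact ha)
    have h2 := Subgroup.le_normalizer_map Γ.subtype (H := P') ⟨_, h1, rfl⟩
    exact h2

end Cfsg.Agent.helper19
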