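import Mathlib
import Cfsg.Agent.Lib_helper19_HallCop0
import Cfsg.Agent.Lib_helper19_Clifford
import Cfsg.Agent.Lib_helper23_PSolv3
import Cfsg.Agent.Lib_helper1_Core

set_option autoImplicit false
set_option linter.style.haveILetI false
set_option linter.unusedSectionVars false

namespace Cfsg.Agent.helper19

open Cfsg.Agent.helper7

universe u

theorem pCore_char {H : Type*} [Group H] (p : ℕ) : (Cfsg.pCore p H).Characteristic := by
  rw [Subgroup.characteristic_iff_map_le]
  intro φ
  rw [Subgroup.map_le_iff_le_comap]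
  unfold Cfsg.pCore
  apply sSup_le
  rintro N ⟨hNn, hNp⟩
  rw [← Subgroup.map_le_iff_le_comap]
  exact le_sSup ⟨hNn.map φ.toMonoidHom φ.surjective, hNp.map _⟩

theorem solvable_map {G G' : Type*} [Group G] [Group G'] (f : G →* G') (H : Subgroup G)
    (hs : Group.IsSolvable H) : Group.IsSolvable (H.map f) := by
  haveI := hs
  exact Group.isSolvable_of_surjective (f := f.subgroupMap H) (f.subgroupMap_surjective H)

/-- (c): an `A`-invariant subgroup `U ≤ G` of order prime to `n` lies in an `A`-invariant Hall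
subgroup of order `m` of the solvable normal subgroup `G`. -/
theorem invariant_le_hall_aux : ∀ (k : ℕ) (Γ : Type u) [Group Γ] [Finite Γ] (G A : Subgroup Γ)
    [G.Normal], (Nat.card A).Coprime (Nat.card G) → Group.IsSolvable G → Nat.card G = k →
    ∀ m n : ℕ, k = m * n → m.Coprime n → ∀ U : Subgroup Γ, U ≤ G →
    A ≤ Subgroup.normalizer (U : Set Γ) → (Nat.card U).Coprime n →
    ∃ H : Subgroup Γ, H ≤ G ∧ Nat.card H = m ∧ A ≤ Subgroup.normalizer (H : Set Γ) ∧ U ≤ H := by
  intro k
  induction k using Nat.strong_induction_on with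
  | _ k ih =>
    intro Γ _ _ G A hGn hcop hsolv hk m n hmn hcopmn U hUG hAU hUn
    by_cases hGb : G = ⊥
    · have hk1 : k = 1 := by rw [← hk, hGb, Subgroup.card_bot]
      have hm1 : m = 1 := by
        have h1 : m ∣ 1 := ⟨n, by rw [← hmn, hk1]⟩
        exact Nat.dvd_one.1 h1
      refine ⟨⊥, bot_le, by rw [Subgroup.card_bot, hm1], ?_, by rw [← hGb]; exact hUG⟩
      rw [Subgroup.normalizer_eq_top]; exact le_top
    · haveI : Nontrivial G := (Subgroup.nontrivial_iff_ne_bot G).2 hGb
      haveI := hsolv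
      obtain ⟨q, hq⟩ := Cfsg.Agent.helper23.exists_pCore_ne_bot_of_solvable ↥G
      haveI : Fact (q : ℕ).Prime := ⟨q.2⟩
      have hqp : (q : ℕ).Prime := q.2
      haveI : (Cfsg.pCore (q : ℕ) ↥G).Characteristic := pCore_char (q : ℕ)
      set N : Subgroup Γ := (Cfsg.pCore (q : ℕ) ↥G).map G.subtype with hN
      haveI hNn : N.Normal := ConjAct.normal_of_characteristic_of_normal
      have hNG : N ≤ G := Subgroup.map_subtype_le _
      have hNp : IsPGroup (q : ℕ) N := (Cfsg.Agent.helper1.pCore_isPGroup (q : ℕ)).map _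
      have hNne : N ≠ ⊥ := by
        rw [hN, Ne, Subgroup.map_eq_bot_iff_of_injective _ (Subgroup.subtype_injective _)]
        exact hq
      obtain ⟨a, ha⟩ := IsPGroup.iff_card.1 hNp
      have hqa_pos : 0 < (q : ℕ) ^ a := pow_pos hqp.pos a
      set π := QuotientGroup.mk' N with hπ
      have hsurj : Function.Surjective π := QuotientGroup.mk'_surjective N
      have hkerπ : π.ker = N := QuotientGroup.ker_mk' N
      set Gb := G.map π with hGb'
      set Ab := A.map π with hAb
      set Ub := U.map π with hUb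
      haveI hGbn : Gb.Normal := hGn.map π hsurj
      have hGbcard : Nat.card Gb * (q : ℕ) ^ a = k := by
        have := Cfsg.Agent.helper23.card_map_mk'_mul N G
        rw [inf_eq_left.2 hNG, ha, hk] at this
        exact this
      have hlt : Nat.card Gb < k := by
        rw [← hGbcard]
        have h1 : 1 < (q : ℕ) ^ a := by
          rw [← ha]; exact N.one_lt_card_iff_ne_bot.2 hNne
        have hpos : 0 < Nat.card Gb := Nat.card_pos
        nlinarith
      have hGbdvd : Nat.card Gb ∣ Nat.card G := by rw [hk]; exact Dvd.intro _ hGbcard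
      have hcopb : (Nat.card Ab).Coprime (Nat.card Gb) :=
        Nat.Coprime.coprime_dvd_left (Subgroup.card_map_dvd A π)
          (Nat.Coprime.coprime_dvd_right hGbdvd hcop)
      have hsolvb : Group.IsSolvable Gb := solvable_map π G hsolv
      have hUbGb : Ub ≤ Gb := Subgroup.map_mono hUG
      have hAbUb : Ab ≤ Subgroup.normalizer (Ub : Set (Γ ⧸ N)) :=
        (Subgroup.map_mono hAU).trans (Subgroup.le_normalizer_map π)
      have hUbdvd : Nat.card Ub ∣ Nat.card U := Subgroup.card_map_dvd U π
      have hdvd : (q : ℕ) ^ a ∣ m * n := by rw [← hmn, ← hGbcard]; exact Dvd.intro_left _ rfl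
      have hcomapGb : Gb.comap π = G := by
        rw [hGb', Subgroup.comap_map_eq, hkerπ]; exact sup_eq_left.2 hNG
      by_cases hqm : (q : ℕ) ∣ m
      · -- Case 1
        have hqn : ((q : ℕ) ^ a).Coprime n :=
          Nat.Coprime.pow_left a (Nat.Coprime.coprime_dvd_left hqm hcopmn)
        obtain ⟨m', hm'⟩ := Nat.Coprime.dvd_of_dvd_mul_right hqn hdvd
        have hcard' : Nat.card Gb = m' * n := by
          apply Nat.eq_of_mul_eq_mul_right hqa_pos
          rw [hGbcard, hmn, hm']; ring
        have hm'n : m'.Coprime n := Nat.Coprime.coprime_dvd_left (Dvd.intro_left _ hm'.symm) hcopmn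
        have hUbn : (Nat.card Ub).Coprime n := Nat.Coprime.coprime_dvd_left hUbdvd hUn
        obtain ⟨Hb, hHbG, hHbc, hAbHb, hUbHb⟩ :=
          ih (Nat.card Gb) hlt (Γ ⧸ N) Gb Ab hcopb hsolvb rfl m' n hcard' hm'n Ub hUbGb hAbUb hUbn
        refine ⟨Hb.comap π, ?_, ?_, ?_, ?_⟩
        · rw [← hcomapGb]; exact Subgroup.comap_mono hHbG
        · rw [Cfsg.Agent.helper23.card_comap_mk', ha, hHbc, hm']
        · intro x hx
          have h1 : π x ∈ Subgroup.normalizer (Hb : Set (Γ ⧸ N)) := hAbHb ⟨x, hx, rfl⟩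
          have h2 : x ∈ (Subgroup.normalizer (Hb : Set (Γ ⧸ N))).comap π := h1
          rwa [Subgroup.comap_normalizer_eq_of_surjective _ hsurj] at h2
        · exact (Subgroup.le_comap_map π U).trans (Subgroup.comap_mono hUbHb)
      · -- Case 2
        have hqm' : ((q : ℕ) ^ a).Coprime m :=
          Nat.Coprime.pow_left a ((Nat.Prime.coprime_iff_not_dvd hqp).2 hqm)
        obtain ⟨n', hn'⟩ := Nat.Coprime.dvd_of_dvd_mul_left hqm' hdvd
        have hcard' : Nat.card Gb = m * n' := by
          apply Nat.eq_of_mul_eq_mul_right hqa_pos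
          rw [hGbcard, hmn, hn']; ring
        have hmn' : m.Coprime n' := Nat.Coprime.coprime_dvd_right (Dvd.intro_left _ hn'.symm) hcopmn
        have hUq : (Nat.card U).Coprime ((q : ℕ) ^ a) :=
          Nat.Coprime.coprime_dvd_right (Dvd.intro _ hn'.symm) hUn
        have hUbn : (Nat.card Ub).Coprime n' :=
          Nat.Coprime.coprime_dvd_left hUbdvd
            (Nat.Coprime.coprime_dvd_right (Dvd.intro_left _ hn'.symm) hUn)
        obtain ⟨Kb, hKbG, hKbc, hAbKb, hUbKb⟩ :=
          ih (Nat.card Gb) hlt (Γ ⧸ N) Gb Ab hcopb hsolvb rfl m n' hcard' hmn' Ub hUbGb hAbUb hUbn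
        set K : Subgroup Γ := Kb.comap π with hK
        have hKG : K ≤ G := by rw [← hcomapGb]; exact Subgroup.comap_mono hKbG
        have hKc : Nat.card K = m * (q : ℕ) ^ a := by
          rw [hK, Cfsg.Agent.helper23.card_comap_mk', ha, hKbc, mul_comm]
        have hAK : A ≤ Subgroup.normalizer (K : Set Γ) := by
          intro x hx
          have h1 : π x ∈ Subgroup.normalizer (Kb : Set (Γ ⧸ N)) := hAbKb ⟨x, hx, rfl⟩
          have h2 : x ∈ (Subgroup.normalizer (Kb : Set (Γ ⧸ N))).comap π := h1
          rwa [Subgroup.comap_normalizer_eq_of_surjective _ hsurj] at h2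
        have hUK : U ≤ K := (Subgroup.le_comap_map π U).trans (Subgroup.comap_mono hUbKb)
        have hNK : N ≤ K := by
          have := MonoidHom.ker_le_comap π Kb
          rwa [hkerπ] at this
        have hcopK : (Nat.card A).Coprime (Nat.card K) :=
          Nat.Coprime.coprime_dvd_right (Subgroup.card_dvd_of_le hKG) hcop
        obtain ⟨H₁, hH₁K, hH₁c, hAH₁⟩ := exists_invariant_hall A K hAK hcopK
          (Cfsg.Agent.lead.solvable_of_le hKG hsolv) m ((q : ℕ) ^ a) hKc hqm'.symm
        set W : Subgroup Γ := U ⊔ N with hW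
        set V : Subgroup Γ := W ⊓ H₁ with hV
        have hAN : A ≤ Subgroup.normalizer (N : Set Γ) := by
          rw [Subgroup.normalizer_eq_top]; exact le_top
        have hAW : A ≤ Subgroup.normalizer (W : Set Γ) := le_normalizer_sup hAU hAN
        have hAV : A ≤ Subgroup.normalizer (V : Set Γ) := le_normalizer_inf hAW hAH₁
        have hNU : N ⊓ U = ⊥ :=
          (Subgroup.disjoint_of_coprime_natCard (by rw [ha]; exact hUq.symm)).eq_bot
        have hWc : Nat.card W = Nat.card U * (q : ℕ) ^ a := by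
          have := Cfsg.Agent.helper23.card_sup_mul_card_inf U N
          rw [hNU, Subgroup.card_bot, mul_one, ha] at this
          exact this
        have hWK : W ≤ K := sup_le hUK hNK
        have hWG : W ≤ G := hWK.trans hKG
        have hNH₁ : N ⊓ H₁ = ⊥ :=
          (Subgroup.disjoint_of_coprime_natCard (by rw [ha, hH₁c]; exact hqm')).eq_bot
        have hKsup : H₁ ⊔ N = K := by
          apply Subgroup.eq_of_le_of_card_ge (sup_le hH₁K hNK)
          have := Cfsg.Agent.helper23.card_sup_mul_card_inf H₁ N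
          rw [hNH₁, Subgroup.card_bot, mul_one, ha, hH₁c] at this
          rw [this, hKc]
        have hVN : V ⊔ N = W := by
          apply le_antisymm
          · exact sup_le inf_le_left le_sup_right
          · intro x hx
            have hxK : x ∈ H₁ ⊔ N := by rw [hKsup]; exact hWK hx
            rw [Subgroup.mem_sup_of_normal_right] at hxK
            obtain ⟨h, hh, ν, hν, rfl⟩ := hxK
            have hhW : h ∈ W := by
              have e : h = h * ν * ν⁻¹ := by group
              rw [e]
              exact W.mul_mem hx (W.inv_mem ((le_sup_right : N ≤ W) hν))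
            exact Subgroup.mul_mem_sup (Subgroup.mem_inf.2 ⟨hhW, hh⟩) hν
        have hVc : Nat.card V = Nat.card U := by
          have := Cfsg.Agent.helper23.card_sup_mul_card_inf V N
          have hNV : N ⊓ V = ⊥ := by
            rw [eq_bot_iff, ← hNH₁]
            exact inf_le_inf_left N inf_le_right
          rw [hNV, Subgroup.card_bot, mul_one, hVN, hWc, ha] at this
          exact (Nat.eq_of_mul_eq_mul_right hqa_pos this).symm
        have hcopW : (Nat.card A).Coprime (Nat.card W) :=
          Nat.Coprime.coprime_dvd_right (Subgroup.card_dvd_of_le hWG) hcop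
        obtain ⟨c, hc, hcVU⟩ := invariant_hall_conj A W hAW hcopW
          (Cfsg.Agent.lead.solvable_of_le hWG hsolv) (Nat.card U) ((q : ℕ) ^ a) hWc hUq
          V U inf_le_left le_sup_left hVc rfl hAV hAU
        obtain ⟨hcW, hcA⟩ := Subgroup.mem_inf.1 hc
        refine ⟨cj c H₁, ?_, by rw [card_cj, hH₁c], ?_, ?_⟩
        · have h2 : cj c G = G := cj_eq_of_mem_normalizer (by
            rw [Subgroup.normalizer_eq_top]; exact Subgroup.mem_top c)
          rw [← h2]; exact cj_mono (hH₁K.trans hKG)
        · intro x hx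
          rw [← cj_normalizer, mem_cj]
          rw [Subgroup.mem_centralizer_iff] at hcA
          have h1 := hcA x hx
          have e : c⁻¹ * x * c = x := by
            rw [mul_assoc, h1, ← mul_assoc, inv_mul_cancel, one_mul]
          rw [e]
          exact hAH₁ hx
        · rw [← hcVU]
          exact cj_mono inf_le_right

/-- (c), subgroup version. -/
theorem invariant_le_hall {X : Type u} [Group X] [Finite X] (A G : Subgroup X)
    (hAG : A ≤ Subgroup.normalizer (G : Set X)) (hcop : (Nat.card A).Coprime (Nat.card G))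
    (hsolv : Group.IsSolvable G) (m n : ℕ) (hG : Nat.card G = m * n) (hmn : m.Coprime n)
    (U : Subgroup X) (hUG : U ≤ G) (hAU : A ≤ Subgroup.normalizer (U : Set X))
    (hUn : (Nat.card U).Coprime n) :
    ∃ H : Subgroup X, H ≤ G ∧ Nat.card H = m ∧ A ≤ Subgroup.normalizer (H : Set X) ∧ U ≤ H := by
  set Γ : Subgroup X := G ⊔ A with hΓ
  have hGΓ : G ≤ Γ := le_sup_left
  have hAΓ : A ≤ Γ := le_sup_right
  have hΓnorm : Γ ≤ Subgroup.normalizer (G : Set X) := sup_le Subgroup.le_normalizer hAG
  set N : Subgroup Γ := G.subgroupOf Γ with hN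
  haveI hNn : N.Normal := (Subgroup.normal_subgroupOf_iff_le_normalizer hGΓ).mpr hΓnorm
  set A' : Subgroup Γ := A.subgroupOf Γ with hA'
  set U' : Subgroup Γ := U.subgroupOf Γ with hU'
  have hNc : Nat.card N = Nat.card G := Cfsg.Agent.lead.card_subgroupOf_of_le hGΓ
  have hA'c : Nat.card A' = Nat.card A := Cfsg.Agent.lead.card_subgroupOf_of_le hAΓ
  have hU'c : Nat.card U' = Nat.card U := Cfsg.Agent.lead.card_subgroupOf_of_le (hUG.trans hGΓ)
  have hsolv' : Group.IsSolvable N := Cfsg.Agent.lead.solvable_subgroupOf_of_solvable G Γ hsolv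
  have hU'N : U' ≤ N := by
    intro x hx
    rw [hU', Subgroup.mem_subgroupOf] at hx
    rw [hN, Subgroup.mem_subgroupOf]
    exact hUG hx
  have hA'U' : A' ≤ Subgroup.normalizer (U' : Set Γ) := by
    intro x hx
    rw [hA', Subgroup.mem_subgroupOf] at hx
    have h1 := hAU hx
    rw [hU', ← Subgroup.subgroupOf_normalizer_eq (hUG.trans hGΓ), Subgroup.mem_subgroupOf]
    exact h1
  obtain ⟨H', hH'N, hH'c, hA'H', hU'H'⟩ := invariant_le_hall_aux _ Γ N A'
    (by rw [hNc, hA'c]; exact hcop) hsolv' rfl m n (by rw [hNc, hG]) hmn U' hU'N hA'U'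
    (by rw [hU'c]; exact hUn)
  refine ⟨H'.map Γ.subtype, ?_, ?_, ?_, ?_⟩
  · rintro _ ⟨x, hx, rfl⟩
    have := hH'N hx
    rw [hN, Subgroup.mem_subgroupOf] at this
    exact this
  · rw [Subgroup.card_map_of_injective Γ.subtype_injective, hH'c]
  · intro a ha
    have h1 : (⟨a, hAΓ ha⟩ : Γ) ∈ Subgroup.normalizer (H' : Set Γ) := hA'H' (by
      rw [hA', Subgroup.mem_subgroupOf]; exact ha)
    have h2 := Subgroup.le_normalizer_map Γ.subtype (H := H') ⟨_, h1, rfl⟩
    exact h2
  · intro x hx
    have hxΓ : x ∈ Γ := hGΓ (hUG hx)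
    refine ⟨⟨x, hxΓ⟩, hU'H' ?_, rfl⟩
    rw [hU', Subgroup.mem_subgroupOf]
    exact hx

end Cfsg.Agent.helper19
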