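import Mathlib
import Cfsg.Prelude.Def_OddOrderLocal
import Cfsg.Agent.Lib_helper19_HallCop1

set_option autoImplicit false
set_option linter.style.haveILetI false
set_option linter.unusedSectionVars false

namespace Cfsg.Agent.helper19

open Cfsg.Agent.helper7

universe u

/-- split a positive integer into its `π`-part and `π'`-part. -/
theorem exists_pi_decomp (π : Set ℕ) (k : ℕ) (hk : 0 < k) :
    ∃ m n : ℕ, k = m * n ∧ (∀ p : ℕ, p.Prime → p ∣ m → p ∈ π) ∧
      (∀ p : ℕ, p.Prime → p ∈ π → ¬ p ∣ n) ∧ m.Coprime n := by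
  classical
  set S : Finset ℕ := (Nat.divisors k).filter (fun d => ∀ p : ℕ, p.Prime → p ∣ d → p ∈ π) with hS
  have h1S : 1 ∈ S := by
    rw [hS, Finset.mem_filter]
    refine ⟨Nat.one_mem_divisors.2 hk.ne', ?_⟩
    intro p hp hp1
    exact absurd (Nat.dvd_one.1 hp1) hp.ne_one
  obtain ⟨m, hmS, hmax⟩ := S.exists_max_image id ⟨1, h1S⟩
  rw [hS, Finset.mem_filter] at hmS
  obtain ⟨hmk, hmπ⟩ := hmS
  obtain ⟨n, hn⟩ := (Nat.mem_divisors.1 hmk).1
  have hmpos : 0 < m := Nat.pos_of_ne_zero (by rintro rfl; rw [zero_mul] at hn; omega)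
  have hnπ : ∀ p : ℕ, p.Prime → p ∈ π → ¬ p ∣ n := by
    intro p hp hpπ hpn
    obtain ⟨n', rfl⟩ := hpn
    have hmem : m * p ∈ S := by
      rw [hS, Finset.mem_filter]
      refine ⟨Nat.mem_divisors.2 ⟨⟨n', by rw [hn]; ring⟩, hk.ne'⟩, ?_⟩
      intro r hr hrd
      rcases (Nat.Prime.dvd_mul hr).1 hrd with h | h
      · exact hmπ r hr h
      · rw [(Nat.prime_dvd_prime_iff_eq hr hp).1 h]; exact hpπ
    have := hmax _ hmem
    simp only [id] at this
    have : m * p ≤ m := this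
    have h2 := hp.two_le
    nlinarith
  refine ⟨m, n, hn, hmπ, hnπ, ?_⟩
  apply Nat.Coprime.symm
  rw [Nat.coprime_comm]
  apply Nat.coprime_of_dvd
  intro p hp hpm hpn
  exact hnπ p hp (hmπ p hp hpm) hpn

theorem isPiHallOf_iff_card {X : Type*} [Group X] [Finite X] (π : Set ℕ) (H G : Subgroup X)
    (hHG : H ≤ G) (m n : ℕ) (hG : Nat.card G = m * n)
    (hmπ : ∀ p : ℕ, p.Prime → p ∣ m → p ∈ π) (hnπ : ∀ p : ℕ, p.Prime → p ∈ π → ¬ p ∣ n) :
    Cfsg.IsPiHallOf π H G ↔ Nat.card H = m := by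
  have hrel : Nat.card H * H.relIndex G = m * n := by
    rw [← hG]
    have := Subgroup.relIndex_mul_relIndex ⊥ H G bot_le hHG
    rw [Subgroup.relIndex_bot_left, Subgroup.relIndex_bot_left] at this
    exact this
  constructor
  · rintro ⟨-, h1, h2⟩
    have hc1 : (Nat.card H).Coprime n := by
      apply Nat.coprime_of_dvd
      intro p hp hpH hpn
      exact hnπ p hp (h1 p hp hpH) hpn
    have hc2 : m.Coprime (H.relIndex G) := by
      apply Nat.coprime_of_dvd
      intro p hp hpm hpr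
      exact h2 p hp (hmπ p hp hpm) hpr
    have hd1 : Nat.card H ∣ m := hc1.dvd_of_dvd_mul_right (Dvd.intro _ hrel)
    have hd2 : m ∣ Nat.card H := hc2.dvd_of_dvd_mul_right (Dvd.intro _ hrel.symm)
    exact Nat.dvd_antisymm hd1 hd2
  · intro hc
    refine ⟨hHG, ?_, ?_⟩
    · intro p hp hpH
      rw [hc] at hpH
      exact hmπ p hp hpH
    · intro p hp hpπ hpr
      rw [hc] at hrel
      have hmpos : 0 < m := by
        rw [← hc]; exact Nat.card_pos
      have := Nat.eq_of_mul_eq_mul_left hmpos hrel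
      rw [this] at hpr
      exact hnπ p hp hpπ hpr

end Cfsg.Agent.helper19
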