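import Mathlib
import Cfsg.Agent.Lib_helper14_ParaChar2
import Cfsg.Agent.Lib_helper10_Alperin

/-!
# Centralizers of `p`-subgroups and characteristic `p` (helper19)

If `C_G(V)` has characteristic `p` for a subgroup `V` of the `p`-group `U`, then so have `C_G(U)`
and `N_G(U)` (climb a subnormal chain from `V` to `U`, using helper7's `fstarOf_local`).
-/

set_option autoImplicit false
set_option linter.unusedVariables false
set_option linter.unusedSectionVars false
set_option linter.style.longLine false

namespace Cfsg.Agent.helper19.HeLocal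

open Cfsg Cfsg.Agent.helper7 Cfsg.Agent.helper14

/-- one step: `V ⊴ W`, `W` a `p`-group, `C(V)` of characteristic `p` ⟹ `C(W)` of characteristic `p`. -/
theorem ac_centralizer_step {G : Type*} [Group G] [Finite G] {p : ℕ} [hp : Fact p.Prime]
    {V W : Subgroup G} (hV : AC p (Subgroup.centralizer (V : Set G))) (hVW : V ≤ W)
    (hWV : W ≤ Subgroup.normalizer (V : Set G)) (hW : IsPGroup p W) :
    AC p (Subgroup.centralizer (W : Set G)) := by
  rw [ac_iff_fstarOf] at hV ⊢
  apply fstarOf_local hp.out hV hW
  · exact hWV.trans (Cfsg.Agent.helper14.normalizer_le_normalizer_centralizer V)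
  · exact Subgroup.centralizer_le (SetLike.coe_subset_coe.mpr hVW)
  · exact inf_le_right
  · exact Subgroup.centralizer_le_normalizer _
  · exact inf_le_left

/-- climbing the chain -/
theorem ac_centralizer_of_le {G : Type*} [Group G] [Finite G] {p : ℕ} [hp : Fact p.Prime]
    {U : Subgroup G} (hU : IsPGroup p U) :
    ∀ (n : ℕ) (V : Subgroup G), V ≤ U → AC p (Subgroup.centralizer (V : Set G)) →
      Nat.card U - Nat.card V = n → AC p (Subgroup.centralizer (U : Set G)) := by
  intro n
  induction n using Nat.strong_induction_on with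
  | _ n ih =>
    intro V hVU hV hn
    by_cases hEq : V = U
    · rw [← hEq]; exact hV
    · have hlt : V < U := lt_of_le_of_ne hVU hEq
      have h2 := Cfsg.Agent.helper10.lt_inf_normalizer_of_lt hU hlt
      obtain ⟨W, hWdef⟩ : ∃ W : Subgroup G, W = U ⊓ Subgroup.normalizer (V : Set G) := ⟨_, rfl⟩
      rw [← hWdef] at h2
      have hWU : W ≤ U := by rw [hWdef]; exact inf_le_left
      have hWN : W ≤ Subgroup.normalizer (V : Set G) := by rw [hWdef]; exact inf_le_right
      have hW : AC p (Subgroup.centralizer (W : Set G)) :=
        ac_centralizer_step hV h2.le hWN (hU.to_le hWU)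
      have hc1 : Nat.card V < Nat.card W := by
        by_contra hcon
        push Not at hcon
        exact h2.ne (Subgroup.eq_of_le_of_card_ge h2.le hcon)
      have hc2 : Nat.card W ≤ Nat.card U := Subgroup.card_le_of_le hWU
      exact ih (Nat.card U - Nat.card W) (by omega) W hWU hW rfl

/-- `C(V)` of characteristic `p`, `V ≤ U` a `p`-group ⟹ `N(U)` of characteristic `p`. -/
theorem ac_normalizer_of_le {G : Type*} [Group G] [Finite G] {p : ℕ} [hp : Fact p.Prime]
    {U V : Subgroup G} (hU : IsPGroup p U) (hVU : V ≤ U)
    (hV : AC p (Subgroup.centralizer (V : Set G))) :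
    AC p (Subgroup.normalizer (U : Set G)) := by
  have h4 : AC p (Subgroup.centralizer (U : Set G)) := ac_centralizer_of_le hU _ V hVU hV rfl
  apply ac_of_centralizer (Subgroup.normalizer (U : Set G)) U
    (le_pCoreOf_of_normal _ U Subgroup.le_normalizer le_rfl hU)
  have e : Subgroup.normalizer (U : Set G) ⊓ Subgroup.centralizer (U : Set G) =
      Subgroup.centralizer (U : Set G) :=
    inf_eq_right.mpr (Subgroup.centralizer_le_normalizer _)
  rw [e]; exact h4

end Cfsg.Agent.helper19.HeLocal
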