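import Mathlib
import Cfsg.Prelude.Def_Transfer

set_option autoImplicit false
set_option linter.style.haveILetI false

namespace Cfsg.Agent.helper19

open scoped commutatorElement

theorem card_le_two_of_subset {α : Type*} (s : Set α) (a b : α) (h : ∀ x ∈ s, x = a ∨ x = b) :
    Nat.card ↥s ≤ 2 := by
  rw [Nat.card_coe_set_eq]
  have h1 : s.ncard ≤ ({a, b} : Set α).ncard :=
    Set.ncard_le_ncard (fun x hx => by rcases h x hx with rfl | rfl <;> simp) (Set.toFinite _)
  have h2 : ({a, b} : Set α).ncard ≤ 2 := by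
    have := Set.ncard_insert_le a ({b} : Set α)
    rw [Set.ncard_singleton] at this
    exact this
  exact h1.trans h2

theorem inv_two_fixed {H : Type*} [Group H] [Finite H] (U : Subgroup H) (w : H) (hw : orderOf w = 2)
    (hwU : w ∈ Subgroup.normalizer (U : Set H)) (y : H) (hy : y ≠ 1) (hyU : y ∈ U)
    (hfix : ∀ u ∈ U, w * u * w⁻¹ = u ↔ (u = 1 ∨ u = y))
    (V : Subgroup H) (hVU : V ≤ U) (hVn : (V.subgroupOf U).Normal) (hVw : ∀ v ∈ V, w * v * w⁻¹ ∈ V)
    (hVe : Cfsg.IsElementaryAbelian 2 V) (hVc : ¬ IsCyclic ↥V) (hyV : y ∈ V) :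
    ¬ 2 ∣ V.relIndex U ∧ Nat.card ↥V = 4 ∧ ⁅U, U⁆ ≤ V := by
  classical
  have hww : w * w = 1 := by rw [← pow_two, ← hw]; exact pow_orderOf_eq_one w
  have hwinv : w⁻¹ = w := inv_eq_of_mul_eq_one_right hww
  have hcU : ∀ u ∈ U, w * u * w⁻¹ ∈ U := fun u hu => (Subgroup.mem_normalizer_iff.1 hwU u).1 hu
  have hcc : ∀ u : H, w * (w * u * w⁻¹) * w⁻¹ = u := by
    intro u
    calc w * (w * u * w⁻¹) * w⁻¹ = (w * w) * u * (w * w)⁻¹ := by group
      _ = u := by rw [hww]; group
  have hVnorm : ∀ u ∈ U, ∀ v ∈ V, u * v * u⁻¹ ∈ V := by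
    intro u hu v hv
    have := hVn.conj_mem ⟨v, hVU hv⟩ (Subgroup.mem_subgroupOf.2 hv) ⟨u, hu⟩
    exact Subgroup.mem_subgroupOf.1 this
  have hVsq : ∀ v ∈ V, v⁻¹ = v := by
    intro v hv
    have h2 : v ^ 2 = 1 := hVe.2 v hv
    rw [pow_two] at h2
    exact inv_eq_of_mul_eq_one_right h2
  -- Step A
  have stepA : ∀ u ∈ U, u⁻¹ * (w * u * w⁻¹) ∈ V → u ∈ V := by
    intro u hu huV
    -- values of ψ on the coset
    have hψ : ∀ v ∈ V, (u * v)⁻¹ * (w * (u * v) * w⁻¹) = 1 ∨ (u * v)⁻¹ * (w * (u * v) * w⁻¹) = y := by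
      intro v hv
      set z := (u * v)⁻¹ * (w * (u * v) * w⁻¹) with hz
      have hzV : z ∈ V := by
        have e : z = v⁻¹ * (u⁻¹ * (w * u * w⁻¹)) * (w * v * w⁻¹) := by rw [hz]; group
        rw [e]
        exact V.mul_mem (V.mul_mem (V.inv_mem hv) huV) (hVw v hv)
      have hzfix : w * z * w⁻¹ = z := by
        have e : w * z * w⁻¹ = (w * (u * v) * w⁻¹)⁻¹ * (w * (w * (u * v) * w⁻¹) * w⁻¹) := by
          rw [hz]; group
        rw [e, hcc]
        have : (w * (u * v) * w⁻¹)⁻¹ * (u * v) = z⁻¹ := by rw [hz]; group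
        rw [this, hVsq z hzV]
      exact (hfix z (hVU hzV)).1 hzfix
    by_cases hex : ∃ v ∈ V, (u * v)⁻¹ * (w * (u * v) * w⁻¹) = 1
    · obtain ⟨v, hv, h1⟩ := hex
      have h2 : w * (u * v) * w⁻¹ = u * v := (inv_mul_eq_one.1 h1).symm
      have h3 := (hfix (u * v) (U.mul_mem hu (hVU hv))).1 h2
      have h4 : u * v ∈ V := by
        rcases h3 with h | h
        · rw [h]; exact V.one_mem
        · rw [h]; exact hyV
      have : u = (u * v) * v⁻¹ := by group
      rw [this]
      exact V.mul_mem h4 (V.inv_mem hv)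
    · exfalso
      push Not at hex
      have hall : ∀ v ∈ V, (u * v)⁻¹ * (w * (u * v) * w⁻¹) = y := fun v hv =>
        (hψ v hv).resolve_left (hex v hv)
      have h1 := hall 1 V.one_mem
      apply hVc
      have hle : V ≤ Subgroup.zpowers (u⁻¹ * y * u) := by
        intro v hv
        have h2 := hall v hv
        -- u v u⁻¹ is fixed by w
        have h3 : w * (u * v * u⁻¹) * w⁻¹ = u * v * u⁻¹ := by
          have e1 : w * (u * v) * w⁻¹ = (u * v) * y := by rw [← h2]; group
          have e2 : w * u * w⁻¹ = u * y := by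
            have := h1
            rw [mul_one] at this
            rw [← this]; group
          calc w * (u * v * u⁻¹) * w⁻¹ = (w * (u * v) * w⁻¹) * (w * u * w⁻¹)⁻¹ := by group
            _ = (u * v * y) * (u * y)⁻¹ := by rw [e1, e2]
            _ = u * v * u⁻¹ := by group
        have h4 := (hfix (u * v * u⁻¹) (U.mul_mem (U.mul_mem hu (hVU hv)) (U.inv_mem hu))).1 h3
        rcases h4 with h | h
        · have : v = 1 := by
            have := congrArg (fun t => u⁻¹ * t * u) h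
            simpa [mul_assoc] using this
          rw [this]; exact Subgroup.one_mem _
        · have : v = u⁻¹ * y * u := by
            rw [← h]; group
          rw [this]; exact Subgroup.mem_zpowers _
      exact Subgroup.isCyclic_of_le hle
  -- Step B: w inverts U modulo V
  haveI := hVn
  have stepB : ∀ g ∈ U, (w * g * w⁻¹) * g ∈ V := by
    -- the map on the quotient
    let F : ↥U → ↥U ⧸ V.subgroupOf U := fun u =>
      QuotientGroup.mk (⟨u.1⁻¹ * (w * u.1 * w⁻¹), U.mul_mem (U.inv_mem u.2) (hcU u.1 u.2)⟩ : ↥U)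
    have hF : ∀ a b : ↥U, F a = F b ↔ a⁻¹ * b ∈ V.subgroupOf U := by
      intro a b
      show QuotientGroup.mk _ = QuotientGroup.mk _ ↔ _
      rw [QuotientGroup.eq, Subgroup.mem_subgroupOf, Subgroup.mem_subgroupOf]
      show (a.1⁻¹ * (w * a.1 * w⁻¹))⁻¹ * (b.1⁻¹ * (w * b.1 * w⁻¹)) ∈ V ↔ a.1⁻¹ * b.1 ∈ V
      set t := b.1 * a.1⁻¹ with ht
      have htU : t ∈ U := U.mul_mem b.2 (U.inv_mem a.2)
      have e : (a.1⁻¹ * (w * a.1 * w⁻¹))⁻¹ * (b.1⁻¹ * (w * b.1 * w⁻¹)) =
          (w * a.1 * w⁻¹)⁻¹ * (t⁻¹ * (w * t * w⁻¹)) * (w * a.1 * w⁻¹) := by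
        rw [ht]; group
      rw [e]
      have hca : w * a.1 * w⁻¹ ∈ U := hcU a.1 a.2
      constructor
      · intro h
        have h1 : t⁻¹ * (w * t * w⁻¹) ∈ V := by
          have := hVnorm _ hca _ h
          have e2 : (w * a.1 * w⁻¹) * ((w * a.1 * w⁻¹)⁻¹ * (t⁻¹ * (w * t * w⁻¹)) * (w * a.1 * w⁻¹)) *
              (w * a.1 * w⁻¹)⁻¹ = t⁻¹ * (w * t * w⁻¹) := by group
          rwa [e2] at this
        have h2 : t ∈ V := stepA t htU h1
        have e3 : a.1⁻¹ * b.1 = a.1⁻¹ * t * a.1⁻¹⁻¹ := by rw [ht]; group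
        rw [e3]
        exact hVnorm _ (U.inv_mem a.2) _ h2
      · intro h
        have h2 : t ∈ V := by
          have e3 : t = a.1 * (a.1⁻¹ * b.1) * a.1⁻¹ := by rw [ht]; group
          rw [e3]
          exact hVnorm _ a.2 _ h
        have h1 : t⁻¹ * (w * t * w⁻¹) ∈ V := V.mul_mem (V.inv_mem h2) (hVw t h2)
        have := hVnorm _ (U.inv_mem hca) _ h1
        rwa [inv_inv] at this
    let Fq : ↥U ⧸ V.subgroupOf U → ↥U ⧸ V.subgroupOf U :=
      Quotient.lift F (by
        intro a b hab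
        rw [hF]
        exact QuotientGroup.leftRel_apply.1 hab)
    have hFq : ∀ a : ↥U, Fq (QuotientGroup.mk a) = F a := fun a => rfl
    have hinj : Function.Injective Fq := by
      intro q1 q2 h
      induction q1 using QuotientGroup.induction_on with | H a => ?_
      induction q2 using QuotientGroup.induction_on with | H b => ?_
      rw [hFq, hFq, hF] at h
      exact QuotientGroup.eq.2 h
    have hsurj := Finite.surjective_of_injective hinj
    intro g hg
    obtain ⟨q, hq⟩ := hsurj (QuotientGroup.mk ⟨g, hg⟩)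
    induction q using QuotientGroup.induction_on with | H a => ?_
    rw [hFq] at hq
    have hq' : (a.1⁻¹ * (w * a.1 * w⁻¹))⁻¹ * g ∈ V := by
      have := QuotientGroup.eq.1 hq
      exact Subgroup.mem_subgroupOf.1 this
    set s := a.1⁻¹ * (w * a.1 * w⁻¹) with hs
    have hsU : s ∈ U := U.mul_mem (U.inv_mem a.2) (hcU a.1 a.2)
    have hsinv : w * s * w⁻¹ = s⁻¹ := by
      have e : w * s * w⁻¹ = (w * a.1 * w⁻¹)⁻¹ * (w * (w * a.1 * w⁻¹) * w⁻¹) := by rw [hs]; group
      rw [e, hcc, hs]; group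
    -- g = s * v
    set v := s⁻¹ * g with hv
    have hgs : g = s * v := by rw [hv]; group
    have e : (w * g * w⁻¹) * g = s⁻¹ * ((w * v * w⁻¹) * (s * v * s⁻¹)) * s⁻¹⁻¹ := by
      rw [hgs]
      have : w * (s * v) * w⁻¹ = (w * s * w⁻¹) * (w * v * w⁻¹) := by group
      rw [this, hsinv]; group
    rw [e]
    apply hVnorm _ (U.inv_mem hsU)
    exact V.mul_mem (hVw v hq') (hVnorm s hsU v hq')
  -- Step C
  have stepC : ⁅U, U⁆ ≤ V := by
    rw [Subgroup.commutator_le]
    intro g' hg' h' hh'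
    -- use g = g'⁻¹, h = h'⁻¹
    set g := g'⁻¹ with hgdef
    set h := h'⁻¹ with hhdef
    have hg : g ∈ U := U.inv_mem hg'
    have hh : h ∈ U := U.inv_mem hh'
    have ha := stepB g hg
    have hb := stepB h hh
    have hd := stepB (g * h) (U.mul_mem hg hh)
    set a := (w * g * w⁻¹) * g with hadef
    set b := (w * h * w⁻¹) * h with hbdef
    have e : ⁅g', h'⁆ = (g⁻¹ * b * g⁻¹⁻¹)⁻¹ * (a⁻¹ * ((w * (g * h) * w⁻¹) * (g * h))) := by
      rw [hadef, hbdef, hgdef, hhdef, commutatorElement_def]; group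
    rw [e]
    exact V.mul_mem (V.inv_mem (hVnorm _ (U.inv_mem hg) _ hb)) (V.mul_mem (V.inv_mem ha) hd)
  -- Step D
  have stepD : ¬ 2 ∣ V.relIndex U := by
    intro hdvd
    have hcard : V.relIndex U = Nat.card (↥U ⧸ V.subgroupOf U) := rfl
    rw [hcard] at hdvd
    obtain ⟨q, hq⟩ := exists_prime_orderOf_dvd_card' 2 hdvd
    induction q using QuotientGroup.induction_on with | H u => ?_
    have hq1 : (QuotientGroup.mk u : ↥U ⧸ V.subgroupOf U) ≠ 1 := by
      intro h
      rw [h, orderOf_one] at hq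
      exact absurd hq (by norm_num)
    have hq2 : (QuotientGroup.mk u : ↥U ⧸ V.subgroupOf U) ^ 2 = 1 := by
      rw [← hq]; exact pow_orderOf_eq_one _
    have hu2 : u.1 * u.1 ∈ V := by
      rw [← QuotientGroup.mk_pow, QuotientGroup.eq_one_iff, Subgroup.mem_subgroupOf, pow_two] at hq2
      exact hq2
    have huV : u.1 ∉ V := by
      intro h
      apply hq1
      rw [QuotientGroup.eq_one_iff, Subgroup.mem_subgroupOf]
      exact h
    apply huV
    apply stepA u.1 u.2
    have h1 := stepB u.1 u.2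
    have e : u.1⁻¹ * (w * u.1 * w⁻¹) = u.1⁻¹ * ((w * u.1 * w⁻¹ * u.1) * (u.1 * u.1)⁻¹) * u.1⁻¹⁻¹ := by
      group
    rw [e]
    exact hVnorm _ (U.inv_mem u.2) _ (V.mul_mem h1 (V.inv_mem hu2))
  -- Step E
  have stepE : Nat.card ↥V = 4 := by
    haveI : IsMulCommutative ↥V := hVe.1
    let f : ↥V →* ↥V :=
      { toFun := fun v => v * ⟨w * v.1 * w⁻¹, hVw v.1 v.2⟩
        map_one' := by ext; simp
        map_mul' := by
          intro a b
          have e : (⟨w * (a * b : ↥V).1 * w⁻¹, hVw _ (a * b).2⟩ : ↥V) =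
              ⟨w * a.1 * w⁻¹, hVw a.1 a.2⟩ * ⟨w * b.1 * w⁻¹, hVw b.1 b.2⟩ := by
            ext; simp [mul_assoc]
          rw [e]
          set ca : ↥V := ⟨w * a.1 * w⁻¹, hVw a.1 a.2⟩
          set cb : ↥V := ⟨w * b.1 * w⁻¹, hVw b.1 b.2⟩
          calc a * b * (ca * cb) = a * (b * ca) * cb := by group
            _ = a * (ca * b) * cb := by rw [mul_comm' b ca]
            _ = a * ca * (b * cb) := by group }
    have hcard : Nat.card ↥V = Nat.card f.range * Nat.card f.ker := by
      rw [← Subgroup.index_ker, mul_comm, Subgroup.card_mul_index]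
    have hker : Nat.card f.ker ≤ 2 := by
      apply card_le_two_of_subset (f.ker : Set ↥V) 1 ⟨y, hyV⟩
      intro x hx
      have hx1 : f x = 1 := MonoidHom.mem_ker.1 hx
      have hx' : x.1 * (w * x.1 * w⁻¹) = 1 := congrArg Subtype.val hx1
      have h1 : w * x.1 * w⁻¹ = x.1 := by
        have := eq_inv_of_mul_eq_one_right hx'
        rw [this, hVsq _ x.2]
      rcases (hfix x.1 (hVU x.2)).1 h1 with h | h
      · left; exact Subtype.ext h
      · right; exact Subtype.ext h
    have hrange : Nat.card f.range ≤ 2 := by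
      apply card_le_two_of_subset (f.range : Set ↥V) 1 ⟨y, hyV⟩
      rintro x ⟨v, rfl⟩
      have hz : (f v).1 = v.1 * (w * v.1 * w⁻¹) := rfl
      have hzfix : w * (f v).1 * w⁻¹ = (f v).1 := by
        rw [hz]
        have e : w * (v.1 * (w * v.1 * w⁻¹)) * w⁻¹ = (w * v.1 * w⁻¹) * (w * (w * v.1 * w⁻¹) * w⁻¹) := by
          group
        rw [e, hcc]
        have := mul_comm' (⟨w * v.1 * w⁻¹, hVw v.1 v.2⟩ : ↥V) v
        exact congrArg Subtype.val this
      rcases (hfix (f v).1 (hVU (f v).2)).1 hzfix with h | h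
      · left; exact Subtype.ext h
      · right; exact Subtype.ext h
    have hle4 : Nat.card ↥V ≤ 4 := by
      rw [hcard]
      calc Nat.card f.range * Nat.card f.ker ≤ 2 * 2 := Nat.mul_le_mul hrange hker
        _ = 4 := by norm_num
    have hV2 : IsPGroup 2 ↥V := by
      intro v
      refine ⟨1, ?_⟩
      apply Subtype.ext
      rw [pow_one]
      exact hVe.2 v.1 v.2
    obtain ⟨k, hk⟩ := IsPGroup.exists_card_eq hV2
    have hk2 : 2 ≤ k := by
      by_contra hlt
      push Not at hlt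
      apply hVc
      interval_cases k
      · rw [pow_zero] at hk
        have : Subsingleton ↥V := (Nat.card_eq_one_iff_unique.1 hk).1
        exact isCyclic_of_subsingleton
      · rw [pow_one] at hk
        haveI : Fact (Nat.Prime 2) := ⟨Nat.prime_two⟩
        exact isCyclic_of_prime_card hk
    have hge4 : 4 ≤ Nat.card ↥V := by
      rw [hk]
      calc 4 = 2 ^ 2 := by norm_num
        _ ≤ 2 ^ k := Nat.pow_le_pow_right (by norm_num) hk2
    omega
  exact ⟨stepD, stepE, stepC⟩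

end Cfsg.Agent.helper19
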