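import Mathlib
import Cfsg.Agent.Lib_helper19_SchurCyc

set_option autoImplicit false
set_option linter.style.haveILetI false

namespace Cfsg.Agent.helper19

open Polynomial in
/-- A finite commutative domain all of whose elements satisfy `r ^ N = r` has at most `N`
elements. -/
theorem card_le_of_pow_eq_self {R : Type*} [CommRing R] [IsDomain R] [Finite R] (N : ℕ)
    (hN : 1 < N) (h : ∀ r : R, r ^ N = r) : Nat.card R ≤ N := by
  classical
  haveI : Fintype R := Fintype.ofFinite R
  have hdeg : (X ^ N - X : R[X]).natDegree = N := by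
    have h1 : (X : R[X]).degree < (X ^ N : R[X]).degree := by
      rw [degree_X_pow, degree_X]
      exact mod_cast hN
    rw [natDegree_eq_of_degree_eq (degree_sub_eq_left_of_degree_lt h1), natDegree_X_pow]
  have hne : (X ^ N - X : R[X]) ≠ 0 := by
    apply ne_zero_of_natDegree_gt (n := 1)
    rw [hdeg]; exact hN
  have hsub : (Finset.univ : Finset R).val ⊆ (X ^ N - X : R[X]).roots := by
    intro r _
    rw [mem_roots hne, IsRoot.def]
    simp [h r]
  have := card_le_degree_of_subset_roots hsub
  rw [hdeg, Finset.card_univ] at this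
  rw [Nat.card_eq_fintype_card]
  exact this

/-- Generic-ring wrapper of `card_le_of_pow_eq_self`. -/
theorem card_le_of_pow_eq_self' {R : Type*} [Ring R] [Nontrivial R] [Finite R]
    (hc : ∀ a b : R, a * b = b * a) (hnz : ∀ a b : R, a * b = 0 → a = 0 ∨ b = 0) (N : ℕ)
    (hN : 1 < N) (h : ∀ r : R, r ^ N = r) : Nat.card R ≤ N := by
  letI : CommRing R := { (inferInstance : Ring R) with mul_comm := hc }
  haveI : NoZeroDivisors R := ⟨fun {a b} hab => hnz a b hab⟩
  haveI : IsDomain R := NoZeroDivisors.to_isDomain _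
  exact card_le_of_pow_eq_self N hN h

/-- Frobenius-fixed elements: in a ring of prime characteristic `q`, every element of the subring
generated by `ξ` with `ξ ^ q ^ e = ξ` satisfies the same identity. -/
theorem pow_eq_self_of_mem_closure {E : Type*} [Ring E] [Nontrivial E] (q e : ℕ) [hq : Fact q.Prime]
    (hq0 : (q : E) = 0) (ξ : E) (hξ : ξ ^ q ^ e = ξ) :
    ∀ f ∈ Subring.closure ({ξ} : Set E), f ^ q ^ e = f := by
  haveI : CharP E q := by
    have := ringChar.charP E
    rwa [CharP.ringChar_of_prime_eq_zero hq.out hq0] at this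
  have hcomm : ∀ x ∈ ({ξ} : Set E), ∀ y ∈ ({ξ} : Set E), x * y = y * x := by
    intro x hx y hy
    rw [Set.mem_singleton_iff] at hx hy
    rw [hx, hy]
  have hc := Subring.isMulCommutative_closure hcomm
  have hcom : ∀ x ∈ Subring.closure ({ξ} : Set E), ∀ y ∈ Subring.closure ({ξ} : Set E),
      Commute x y := by
    intro x hx y hy
    have := hc.is_comm.comm ⟨x, hx⟩ ⟨y, hy⟩
    exact congrArg Subtype.val this
  intro f hf
  induction hf using Subring.closure_induction with
  | mem x hx =>
    rw [Set.mem_singleton_iff] at hx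
    rw [hx]; exact hξ
  | zero =>
    exact zero_pow (pow_pos hq.out.pos e).ne'
  | one => exact one_pow _
  | add x y hx hy ihx ihy =>
    rw [add_pow_char_pow_of_commute q e (hcom x hx y hy), ihx, ihy]
  | neg x hx ihx =>
    have h1 : (-x + x) ^ q ^ e = (-x) ^ q ^ e + x ^ q ^ e :=
      add_pow_char_pow_of_commute q e (hcom (-x) (Subring.neg_mem _ hx) x hx)
    rw [neg_add_cancel, zero_pow (pow_pos hq.out.pos e).ne', ihx] at h1
    exact (neg_eq_of_add_eq_zero_left h1.symm).symm
  | mul x y hx hy ihx ihy =>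
    rw [(hcom x hx y hy).mul_pow, ihx, ihy]


/-- An irreducible module for a single operator `ξ` with `ξ ^ q ^ e = ξ`, killed by the prime `q`,
has at most `q ^ e` elements. -/
theorem card_le_of_irreducible {V : Type*} [AddCommGroup V] [Finite V] [Nontrivial V]
    (ξ : AddMonoid.End V)
    (hirr : ∀ W : AddSubgroup V, (∀ w ∈ W, ξ w ∈ W) → W = ⊥ ∨ W = ⊤)
    (q e : ℕ) [hq : Fact q.Prime] (he : e ≠ 0) (hqV : ∀ v : V, q • v = 0)
    (hξ : ξ ^ q ^ e = ξ) : Nat.card V ≤ q ^ e := by
  classical
  haveI : Finite (AddMonoid.End V) :=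
    Finite.of_injective (fun f : AddMonoid.End V => (f : V → V)) DFunLike.coe_injective
  haveI : Nontrivial (AddMonoid.End V) := by
    refine ⟨⟨0, 1, ?_⟩⟩
    intro h
    obtain ⟨v, hv⟩ := exists_ne (0 : V)
    have h2 : (0 : AddMonoid.End V) v = (1 : AddMonoid.End V) v := by rw [h]
    rw [AddMonoid.End.coe_one] at h2
    exact hv h2.symm
  have hq0 : ((q : ℕ) : AddMonoid.End V) = 0 := by
    apply DFunLike.ext
    intro v
    rw [AddMonoid.End.natCast_apply, hqV]; rfl
  set S : Set (AddMonoid.End V) := {ξ} with hS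
  have hξS : ξ ∈ Subring.closure S := Subring.subset_closure (Set.mem_singleton ξ)
  have hcomm : ∀ x ∈ S, ∀ y ∈ S, x * y = y * x := by
    intro x hx y hy
    rw [hS, Set.mem_singleton_iff] at hx hy
    rw [hx, hy]
  have hc := Subring.isMulCommutative_closure hcomm
  have hcR : ∀ a b : Subring.closure S, a * b = b * a := fun a b => hc.is_comm.comm a b
  -- kernel dichotomy
  have hker : ∀ f : Subring.closure S, f = 0 ∨ ∀ v : V, f.1 v = 0 → v = 0 := by
    intro f
    have hfc : f.1 * ξ = ξ * f.1 := by
      have := hcR f ⟨ξ, hξS⟩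
      exact congrArg Subtype.val this
    have hinv : ∀ w ∈ endKer f.1, ξ w ∈ endKer f.1 := by
      intro w hw
      rw [mem_endKer] at hw ⊢
      have h1 : (f.1 * ξ) w = (ξ * f.1) w := by rw [hfc]
      rw [AddMonoid.End.coe_mul, AddMonoid.End.coe_mul] at h1
      simp only [Function.comp_apply] at h1
      rw [h1, hw, map_zero]
    rcases hirr _ hinv with h | h
    · right
      intro v hv
      have : v ∈ endKer f.1 := hv
      rw [h] at this
      exact (AddSubgroup.mem_bot).1 this
    · left
      apply Subtype.ext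
      apply DFunLike.ext
      intro v
      have : v ∈ endKer f.1 := by rw [h]; trivial
      exact this
  haveI : Nontrivial (Subring.closure S) := by
    refine ⟨⟨0, 1, ?_⟩⟩
    intro h
    have := congrArg Subtype.val h
    simp only [ZeroMemClass.coe_zero, OneMemClass.coe_one] at this
    exact zero_ne_one this
  have hnz : ∀ f g : Subring.closure S, f * g = 0 → f = 0 ∨ g = 0 := by
    intro f g hfg
    rcases hker f with hf | hf
    · exact Or.inl hf
    · right
      apply Subtype.ext
      apply DFunLike.ext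
      intro v
      have h1 : ((f * g : Subring.closure S).1 : AddMonoid.End V) v =
          ((0 : Subring.closure S).1 : AddMonoid.End V) v := by rw [hfg]
      simp only [MulMemClass.coe_mul, ZeroMemClass.coe_zero] at h1
      rw [AddMonoid.End.coe_mul] at h1
      exact hf _ h1
  have hpow : ∀ r : Subring.closure S, r ^ q ^ e = r := by
    intro r
    apply Subtype.ext
    rw [SubmonoidClass.coe_pow]
    exact pow_eq_self_of_mem_closure q e hq0 ξ hξ r.1 r.2
  have hN : 1 < q ^ e := Nat.one_lt_pow he hq.out.one_lt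
  have hcardR : Nat.card (Subring.closure S) ≤ q ^ e :=
    card_le_of_pow_eq_self' hcR hnz (q ^ e) hN hpow
  -- surjection R → V
  obtain ⟨v₀, hv₀⟩ := exists_ne (0 : V)
  let W : AddSubgroup V :=
    { carrier := Set.range (fun f : Subring.closure S => (f.1 : AddMonoid.End V) v₀)
      zero_mem' := ⟨0, by simp⟩
      add_mem' := by
        rintro _ _ ⟨f, rfl⟩ ⟨g, rfl⟩
        exact ⟨f + g, rfl⟩
      neg_mem' := by
        rintro _ ⟨f, rfl⟩
        exact ⟨-f, rfl⟩ }
  have hWinv : ∀ w ∈ W, ξ w ∈ W := by
    rintro _ ⟨f, rfl⟩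
    refine ⟨⟨ξ, hξS⟩ * f, ?_⟩
    simp only [MulMemClass.coe_mul]
    rw [AddMonoid.End.coe_mul]; rfl
  have hv₀W : v₀ ∈ W := ⟨1, by simp⟩
  have hWtop : W = ⊤ := by
    rcases hirr W hWinv with h | h
    · exfalso
      rw [h] at hv₀W
      exact hv₀ ((AddSubgroup.mem_bot).1 hv₀W)
    · exact h
  have hsurj : Function.Surjective (fun f : Subring.closure S => (f.1 : AddMonoid.End V) v₀) := by
    intro v
    have : v ∈ W := by rw [hWtop]; trivial
    exact this
  exact (Nat.card_le_card_of_surjective _ hsurj).trans hcardR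

end Cfsg.Agent.helper19
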