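import Mathlib
import Cfsg.Prelude.Def_Transfer

set_option autoImplicit false
set_option linter.style.haveILetI false
set_option linter.unusedSectionVars false

namespace Cfsg.Agent.helper19

open scoped Classical in
/-- a sum of an indicator over a finite group -/
theorem sum_ite_mem_subgroup {N : Type*} [Group N] [Fintype N] (C : Subgroup N) (c : ℕ) :
    (∑ g : N, if g ∈ C then c else 0) = Nat.card C * c := by
  rw [← Finset.sum_filter, Finset.sum_const, smul_eq_mul]
  congr 1
  rw [Nat.card_eq_fintype_card, Fintype.card_subtype]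

theorem mul_eq_add_pred_mul (p b : ℕ) (hp : 1 ≤ p) : p * b = b + (p - 1) * b := by
  obtain ⟨q, rfl⟩ : ∃ q, p = q + 1 := ⟨p - 1, by omega⟩
  simp only [Nat.add_sub_cancel]
  ring

theorem succ_mul_eq (p a b : ℕ) (hp : 1 ≤ p) : (p + 1) * b * a = 2 * (a * b) + a * ((p - 1) * b) := by
  obtain ⟨q, rfl⟩ : ∃ q, p = q + 1 := ⟨p - 1, by omega⟩
  simp only [Nat.add_sub_cancel]
  ring

/-- the type of conjugacy classes of `p`-elements. -/
abbrev PClasses (p : ℕ) (G : Type*) [Group G] :=
  {c : ConjClasses G // ∀ x ∈ c.carrier, ∃ k : ℕ, orderOf x = p ^ k}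

theorem mk_mem_pclasses {G : Type*} [Group G] {p : ℕ} [Fact p.Prime] (P : Sylow p G) (x : G)
    (hx : x ∈ (P : Subgroup G)) :
    ∀ y ∈ (ConjClasses.mk x).carrier, ∃ k : ℕ, orderOf y = p ^ k := by
  intro y hy
  rw [ConjClasses.mem_carrier_iff_mk_eq, ConjClasses.mk_eq_mk_iff_isConj, isConj_iff] at hy
  obtain ⟨c, hc⟩ := hy
  have h1 : orderOf y = orderOf x := by
    apply SemiconjBy.orderOf_eq c
    unfold SemiconjBy
    rw [← hc]; group
  obtain ⟨k, hk⟩ := (IsPGroup.iff_orderOf.1 P.isPGroup') ⟨x, hx⟩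
  refine ⟨k, ?_⟩
  rw [h1, ← hk, Subgroup.orderOf_mk]

/-- every class of `p`-elements meets the Sylow `p`-subgroup `P`. -/
theorem exists_mem_sylow_of_pclass {G : Type*} [Group G] [Finite G] {p : ℕ} [Fact p.Prime]
    (P : Sylow p G) (c : PClasses p G) : ∃ x ∈ (P : Subgroup G), ConjClasses.mk x = c.1 := by
  obtain ⟨x, hx⟩ := c.1.exists_rep
  have hxc : x ∈ c.1.carrier := by rw [← hx]; exact ConjClasses.mem_carrier_mk
  obtain ⟨k, hk⟩ := c.2 x hxc
  have hpg : IsPGroup p (Subgroup.zpowers x) := IsPGroup.of_card (n := k) (by rw [Nat.card_zpowers, hk])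
  obtain ⟨Q, hQ⟩ := hpg.exists_le_sylow
  obtain ⟨g, hg⟩ := MulAction.exists_smul_eq G P Q
  have hxQ : x ∈ (Q : Subgroup G) := hQ (Subgroup.mem_zpowers x)
  rw [← hg, Sylow.coe_subgroup_smul, Subgroup.mem_pointwise_smul_iff_inv_smul_mem] at hxQ
  refine ⟨g⁻¹ * x * g, by simpa using hxQ, ?_⟩
  rw [← hx, ConjClasses.mk_eq_mk_iff_isConj, isConj_iff]
  exact ⟨g, by group⟩

/-- key bound: if `N_G(P)` does not centralize `P` then `2p k_p(G) ≤ (p+1)|P|`. -/
theorem kp_bound {G : Type*} [Group G] [Finite G] {p : ℕ} [Fact p.Prime] (P : Sylow p G)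
    (hNC : ¬ Subgroup.normalizer ((P : Subgroup G) : Set G) ≤ Subgroup.centralizer ((P : Subgroup G) : Set G)) :
    2 * p * Nat.card (PClasses p G) ≤ (p + 1) * Nat.card ↥(P : Subgroup G) := by
  classical
  have hpp : p.Prime := Fact.out
  -- orbits
  have hT : Nat.card (PClasses p G) ≤
      Nat.card (Quotient (MulAction.orbitRel ↥(Subgroup.normalizer ((P : Subgroup G) : Set G)) ↥(P : Subgroup G))) := by
    let F : Quotient (MulAction.orbitRel ↥(Subgroup.normalizer ((P : Subgroup G) : Set G)) ↥(P : Subgroup G)) →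
        PClasses p G :=
      Quotient.lift (fun x : ↥(P : Subgroup G) => (⟨ConjClasses.mk (x : G), mk_mem_pclasses P x x.2⟩ : PClasses p G))
        (by
          intro x y hxy
          have hxy' : x ∈ MulAction.orbit ↥(Subgroup.normalizer ((P : Subgroup G) : Set G)) y := hxy
          obtain ⟨g, hg⟩ := hxy'
          apply Subtype.ext
          simp only
          rw [ConjClasses.mk_eq_mk_iff_isConj, isConj_iff]
          refine ⟨(g : G)⁻¹, ?_⟩
          rw [← hg]
          have e : ((g • y : ↥(P : Subgroup G)) : G) = (g : G) * (y : G) * (g : G)⁻¹ := rfl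
          simp only [e]
          group)
    apply Nat.card_le_card_of_surjective F
    intro c
    obtain ⟨x, hxP, hxc⟩ := exists_mem_sylow_of_pclass P c
    exact ⟨Quotient.mk _ ⟨x, hxP⟩, Subtype.ext hxc⟩
  haveI : Fintype ↥(Subgroup.normalizer ((P : Subgroup G) : Set G)) := Fintype.ofFinite _
  haveI : Fintype ↥(P : Subgroup G) := Fintype.ofFinite _
  haveI : ∀ g : ↥(Subgroup.normalizer ((P : Subgroup G) : Set G)),
      Fintype (MulAction.fixedBy ↥(P : Subgroup G) g) := fun g => Fintype.ofFinite _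
  haveI : Fintype (Quotient (MulAction.orbitRel ↥(Subgroup.normalizer ((P : Subgroup G) : Set G)) ↥(P : Subgroup G))) :=
    Fintype.ofFinite _
  have hB := MulAction.sum_card_fixedBy_eq_card_orbits_mul_card_group
    ↥(Subgroup.normalizer ((P : Subgroup G) : Set G)) ↥(P : Subgroup G)
  -- the kernel
  set C : Subgroup ↥(Subgroup.normalizer ((P : Subgroup G) : Set G)) :=
    (Subgroup.centralizer ((P : Subgroup G) : Set G)).subgroupOf (Subgroup.normalizer ((P : Subgroup G) : Set G)) with hC
  have hCne : C ≠ ⊤ := by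
    intro h
    rw [hC, Subgroup.subgroupOf_eq_top] at h
    exact hNC h
  obtain ⟨n, hn⟩ := P.isPGroup'.exists_card_eq
  -- fixed points as a subgroup
  have hfix : ∀ g : ↥(Subgroup.normalizer ((P : Subgroup G) : Set G)),
      p * Fintype.card (MulAction.fixedBy ↥(P : Subgroup G) g) ≤
        Nat.card ↥(P : Subgroup G) + (if g ∈ C then (p - 1) * Nat.card ↥(P : Subgroup G) else 0) := by
    intro g
    set S : Subgroup ↥(P : Subgroup G) := (Subgroup.centralizer ({(g : G)} : Set G)).subgroupOf (P : Subgroup G) with hS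
    have hcard : Fintype.card (MulAction.fixedBy ↥(P : Subgroup G) g) = Nat.card S := by
      rw [← Nat.card_eq_fintype_card]
      apply Nat.card_congr
      apply Equiv.subtypeEquivRight
      intro x
      rw [MulAction.mem_fixedBy, hS, Subgroup.mem_subgroupOf, Subgroup.mem_centralizer_iff]
      constructor
      · intro h y hy
        rw [Set.mem_singleton_iff] at hy
        subst hy
        have h1 := congrArg Subtype.val h
        have h2 : (g : G) * (x : G) * (g : G)⁻¹ = (x : G) := h1
        calc (g : G) * (x : G) = ((g : G) * (x : G) * (g : G)⁻¹) * g := by group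
          _ = (x : G) * g := by rw [h2]
      · intro h
        apply Subtype.ext
        have h1 := h (g : G) rfl
        show (g : G) * (x : G) * (g : G)⁻¹ = (x : G)
        rw [h1]; group
    rw [hcard]
    by_cases hg : g ∈ C
    · rw [if_pos hg]
      have hle : Nat.card S ≤ Nat.card ↥(P : Subgroup G) := Subgroup.card_le_card_group S
      have hp1 : 1 ≤ p := hpp.one_lt.le
      calc p * Nat.card S ≤ p * Nat.card ↥(P : Subgroup G) := Nat.mul_le_mul_left _ hle
        _ = Nat.card ↥(P : Subgroup G) + (p - 1) * Nat.card ↥(P : Subgroup G) :=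
          mul_eq_add_pred_mul p _ hp1
    · rw [if_neg hg, add_zero]
      have hSne : S ≠ ⊤ := by
        intro hS'
        apply hg
        rw [hC, Subgroup.mem_subgroupOf, Subgroup.mem_centralizer_iff]
        intro y hy
        have : (⟨y, hy⟩ : ↥(P : Subgroup G)) ∈ S := by rw [hS']; trivial
        rw [hS, Subgroup.mem_subgroupOf, Subgroup.mem_centralizer_iff] at this
        exact (this (g : G) rfl).symm
      have hd : Nat.card S ∣ p ^ n := by rw [← hn]; exact Subgroup.card_subgroup_dvd_card S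
      obtain ⟨j, hjn, hj⟩ := (Nat.dvd_prime_pow hpp).1 hd
      have hjlt : j < n := by
        rcases Nat.lt_or_ge j n with h | h
        · exact h
        · exfalso
          apply hSne
          apply Subgroup.eq_top_of_card_eq
          rw [hj, hn, le_antisymm hjn h]
      rw [hj, hn, ← pow_succ']
      exact Nat.pow_le_pow_right hpp.pos hjlt
  -- sum up
  have hsum : p * ∑ g : ↥(Subgroup.normalizer ((P : Subgroup G) : Set G)),
      Fintype.card (MulAction.fixedBy ↥(P : Subgroup G) g) ≤
      Nat.card ↥(Subgroup.normalizer ((P : Subgroup G) : Set G)) * Nat.card ↥(P : Subgroup G) +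
        Nat.card C * ((p - 1) * Nat.card ↥(P : Subgroup G)) := by
    rw [Finset.mul_sum]
    calc ∑ g : ↥(Subgroup.normalizer ((P : Subgroup G) : Set G)),
          p * Fintype.card (MulAction.fixedBy ↥(P : Subgroup G) g)
        ≤ ∑ g : ↥(Subgroup.normalizer ((P : Subgroup G) : Set G)),
          (Nat.card ↥(P : Subgroup G) + (if g ∈ C then (p - 1) * Nat.card ↥(P : Subgroup G) else 0)) :=
          Finset.sum_le_sum (fun g _ => hfix g)
      _ = _ := by
          rw [Finset.sum_add_distrib, Finset.sum_const, sum_ite_mem_subgroup, Finset.card_univ,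
            smul_eq_mul]
          simp only [Nat.card_eq_fintype_card]
  have h2C : 2 * Nat.card C ≤ Nat.card ↥(Subgroup.normalizer ((P : Subgroup G) : Set G)) := by
    have h1 := C.card_mul_index
    have hidx : C.index ≠ 1 := by
      intro h
      exact hCne (Subgroup.index_eq_one.1 h)
    have hidx0 : C.index ≠ 0 := Subgroup.index_ne_zero_of_finite
    have : 2 ≤ C.index := by omega
    calc 2 * Nat.card C = Nat.card C * 2 := by ring
      _ ≤ Nat.card C * C.index := Nat.mul_le_mul_left _ this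
      _ = _ := h1
  rw [hB] at hsum
  have hNpos : 0 < Nat.card ↥(Subgroup.normalizer ((P : Subgroup G) : Set G)) := Nat.card_pos
  rw [← Nat.card_eq_fintype_card, ← Nat.card_eq_fintype_card] at hsum
  set a := Nat.card ↥(Subgroup.normalizer ((P : Subgroup G) : Set G)) with ha
  set b := Nat.card ↥(P : Subgroup G) with hb
  set ω := Nat.card (Quotient (MulAction.orbitRel ↥(Subgroup.normalizer ((P : Subgroup G) : Set G)) ↥(P : Subgroup G))) with hω
  set t := Nat.card (PClasses p G) with ht
  set c := Nat.card C with hc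
  have hp1 : 1 ≤ p := hpp.one_lt.le
  -- 2 p ω a ≤ 2 a b + 2 c (p-1) b ≤ 2 a b + a (p-1) b = (p+1) a b
  have h3 : 2 * p * ω * a ≤ (p + 1) * b * a := by
    have e1 : 2 * (p * (ω * a)) ≤ 2 * (a * b + c * ((p - 1) * b)) := Nat.mul_le_mul_left _ hsum
    have e2 : 2 * (c * ((p - 1) * b)) ≤ a * ((p - 1) * b) := by
      calc 2 * (c * ((p - 1) * b)) = (2 * c) * ((p - 1) * b) := by ring
        _ ≤ a * ((p - 1) * b) := Nat.mul_le_mul_right _ h2C
    have e3 : (p + 1) * b * a = 2 * (a * b) + a * ((p - 1) * b) := succ_mul_eq p a b hp1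
    calc 2 * p * ω * a = 2 * (p * (ω * a)) := by ring
      _ ≤ 2 * (a * b + c * ((p - 1) * b)) := e1
      _ = 2 * (a * b) + 2 * (c * ((p - 1) * b)) := by ring
      _ ≤ 2 * (a * b) + a * ((p - 1) * b) := Nat.add_le_add_left e2 _
      _ = (p + 1) * b * a := e3.symm
  have h4 : 2 * p * ω ≤ (p + 1) * b := Nat.le_of_mul_le_mul_right h3 hNpos
  calc 2 * p * t ≤ 2 * p * ω := Nat.mul_le_mul_left _ hT
    _ ≤ (p + 1) * b := h4

end Cfsg.Agent.helper19
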