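import Mathlib
import Cfsg.Statements.S4108

set_option autoImplicit false
open Cfsg
open scoped Pointwise

namespace Cfsg.Agent.S4108

theorem mem_conj_smul_iff {K : Type*} [Group K] (H : Subgroup K) (g x : K) :
    x ∈ MulAut.conj g • H ↔ g⁻¹ * x * g ∈ H := by
  rw [Subgroup.mem_pointwise_smul_iff_inv_smul_mem]
  simp [MulAut.smul_def]

theorem result {G : Type*} [Group G] [Finite G] (N : Subgroup G) [N.Normal] (hN1 : N ≠ ⊥) (hN2 : N ≠ ⊤)
    (heq : ∀ x : G, x ∉ N → ∀ n ∈ N, orderOf (x * n) = orderOf x)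
    (p : ℕ) [Fact p.Prime] (hNp : IsPGroup p N) :
    ∀ H : Subgroup G, H ≠ ⊥ → (Nat.card H).Coprime p →
      Cfsg.IsFrobeniusComplement (H.subgroupOf (N ⊔ H)) ∧ Cfsg.frobeniusKernel (H.subgroupOf (N ⊔ H)) = (N.subgroupOf (N ⊔ H) : Set ↥(N ⊔ H)) := by
  intro H hH1 hHcop
  have hpp : p.Prime := Fact.out
  have hNn : N.Normal := inferInstance
  -- orders
  have hordN : ∀ n ∈ N, ∃ k : ℕ, orderOf n = p ^ k := by
    intro n hn
    obtain ⟨k, hk⟩ := (IsPGroup.iff_orderOf.mp hNp) ⟨n, hn⟩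
    exact ⟨k, by rw [← hk, Subgroup.orderOf_mk]⟩
  have hordH : ∀ h ∈ H, (orderOf h).Coprime p := by
    intro h hh
    exact Nat.Coprime.coprime_dvd_left (Subgroup.orderOf_dvd_natCard _ hh) hHcop
  -- F1
  have hF1 : ∀ g : G, g ∈ N → g ∈ H → g = 1 := by
    intro g hgN hgH
    obtain ⟨k, hk⟩ := hordN g hgN
    have h1 := hordH g hgH
    rw [hk] at h1
    rw [← orderOf_eq_one_iff, hk]
    rcases Nat.eq_zero_or_pos k with h0 | h0
    · rw [h0, pow_zero]
    · exfalso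
      have h2 : p ∣ p ^ k := dvd_pow_self p h0.ne'
      have h3 : p ∣ Nat.gcd (p ^ k) p := Nat.dvd_gcd h2 dvd_rfl
      rw [h1.gcd_eq_one] at h3
      exact hpp.one_lt.ne' (Nat.dvd_one.mp h3)
  -- F2
  have hF2 : ∀ h ∈ H, h ≠ 1 → ∀ n ∈ N, n * h = h * n → n = 1 := by
    intro h hh hh1 n hn hcomm
    have hhN : h ∉ N := fun hN' => hh1 (hF1 h hN' hh)
    have h1 := heq h hhN n hn
    obtain ⟨k, hk⟩ := hordN n hn
    have hco : (orderOf h).Coprime (orderOf n) := by
      rw [hk]; exact Nat.Coprime.pow_right k (hordH h hh)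
    have hc : Commute h n := hcomm.symm
    rw [hc.orderOf_mul_eq_mul_orderOf_of_coprime hco] at h1
    have hpos : 0 < orderOf h := orderOf_pos h
    have h2 : orderOf n = 1 := by
      have : orderOf h * orderOf n = orderOf h * 1 := by rw [h1, mul_one]
      exact Nat.eq_of_mul_eq_mul_left hpos this
    exact orderOf_eq_one_iff.mp h2
  -- F3
  have hF3 : ∀ h ∈ H, h ≠ 1 → ∀ n ∈ N, ∃ m ∈ N, m * h * m⁻¹ = n * h := by
    intro h hh hh1 n hn
    let ψ : N → N := fun m => ⟨(m : G) * (h * (m : G)⁻¹ * h⁻¹),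
      N.mul_mem m.2 (hNn.conj_mem _ (N.inv_mem m.2) h)⟩
    have hinj : Function.Injective ψ := by
      intro m m' hmm
      have h1 := congrArg Subtype.val hmm
      simp only [ψ] at h1
      have h2 : ((m' : G)⁻¹ * m) * h = h * ((m' : G)⁻¹ * m) := by
        have e1 : (m : G) * h * (m : G)⁻¹ = (m' : G) * h * (m' : G)⁻¹ := by
          calc (m : G) * h * (m : G)⁻¹ = ((m : G) * (h * (m : G)⁻¹ * h⁻¹)) * h := by group
            _ = ((m' : G) * (h * (m' : G)⁻¹ * h⁻¹)) * h := by rw [h1]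
            _ = (m' : G) * h * (m' : G)⁻¹ := by group
        calc ((m' : G)⁻¹ * m) * h = (m' : G)⁻¹ * ((m : G) * h * (m : G)⁻¹) * m := by group
          _ = (m' : G)⁻¹ * ((m' : G) * h * (m' : G)⁻¹) * m := by rw [e1]
          _ = h * ((m' : G)⁻¹ * m) := by group
      have h3 := hF2 h hh hh1 _ (N.mul_mem (N.inv_mem m'.2) m.2) h2
      apply Subtype.ext
      have : (m : G) = (m' : G) * ((m' : G)⁻¹ * m) := by group
      rw [this, h3, mul_one]
    obtain ⟨m, hm⟩ := Finite.surjective_of_injective hinj ⟨n, hn⟩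
    have h1 := congrArg Subtype.val hm
    simp only [ψ] at h1
    refine ⟨m, m.2, ?_⟩
    rw [← h1]; group
  -- F4
  have hF4 : ∀ n ∈ N, ∀ h ∈ H, ∀ h' ∈ H, h = n * h' * n⁻¹ → h = h' := by
    intro n hn h hh h' hh' e
    have e2 : h * h'⁻¹ = n * (h' * n⁻¹ * h'⁻¹) := by rw [e]; group
    have h1 : h * h'⁻¹ ∈ N := by
      rw [e2]; exact N.mul_mem hn (hNn.conj_mem _ (N.inv_mem hn) h')
    have h2 : h * h'⁻¹ ∈ H := H.mul_mem hh (H.inv_mem hh')
    exact mul_inv_eq_one.mp (hF1 _ h1 h2)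
  -- decomposition of elements of K
  have hdec : ∀ k : G, k ∈ N ⊔ H → ∃ n ∈ N, ∃ h ∈ H, n * h = k := by
    intro k hk
    have : k ∈ ((N ⊔ H : Subgroup G) : Set G) := hk
    rw [Subgroup.normal_mul] at this
    exact Set.mem_mul.mp this
  have hNK : N ≤ N ⊔ H := le_sup_left
  have hHK : H ≤ N ⊔ H := le_sup_right
  refine ⟨⟨?_, ?_, ?_⟩, ?_⟩
  · -- H' ≠ ⊥
    intro hbot
    apply hH1
    rw [Subgroup.eq_bot_iff_forall]
    intro h hh
    have h1 : (⟨h, hHK hh⟩ : ↥(N ⊔ H)) ∈ H.subgroupOf (N ⊔ H) := by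
      rw [Subgroup.mem_subgroupOf]; exact hh
    rw [hbot, Subgroup.mem_bot] at h1
    exact congrArg Subtype.val h1
  · -- H' ≠ ⊤
    intro htop
    apply hN1
    rw [Subgroup.eq_bot_iff_forall]
    intro n hn
    have h1 : (⟨n, hNK hn⟩ : ↥(N ⊔ H)) ∈ H.subgroupOf (N ⊔ H) := by
      rw [htop]; exact Subgroup.mem_top _
    rw [Subgroup.mem_subgroupOf] at h1
    exact hF1 n hn h1
  · -- TI
    intro g hg
    rw [Subgroup.eq_bot_iff_forall]
    intro x hx
    obtain ⟨hx1, hx2⟩ := Subgroup.mem_inf.mp hx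
    rw [mem_conj_smul_iff] at hx2
    rw [Subgroup.mem_subgroupOf] at hx1 hx2 hg
    obtain ⟨n, hn, h₀, hh₀, hnh⟩ := hdec (g : G) g.2
    have hn1 : n ≠ 1 := by
      rintro rfl
      rw [one_mul] at hnh
      exact hg (hnh ▸ hh₀)
    set h' : G := ((g⁻¹ * x * g : ↥(N ⊔ H)) : G) with hh'def
    have hh'c : h' = (g : G)⁻¹ * (x : G) * (g : G) := by
      rw [hh'def]; simp
    set h'' : G := h₀ * h' * h₀⁻¹ with hh''def
    have hh'' : h'' ∈ H := H.mul_mem (H.mul_mem hh₀ hx2) (H.inv_mem hh₀)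
    have hx_eq : (x : G) = n * h'' * n⁻¹ := by
      rw [hh''def, hh'c, ← hnh]; group
    have h1 := hF4 n hn (x : G) hx1 h'' hh'' hx_eq
    have hcomm : n * h'' = h'' * n := by
      calc n * h'' = (n * h'' * n⁻¹) * n := by group
        _ = h'' * n := by rw [← hx_eq, h1]
    have h2 : h'' = 1 := by
      by_contra hne
      exact hn1 (hF2 h'' hh'' hne n hn hcomm)
    apply Subtype.ext
    rw [h1, h2]; rfl
  · -- kernel
    ext x
    rw [SetLike.mem_coe, Subgroup.mem_subgroupOf]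
    unfold Cfsg.frobeniusKernel
    rw [Set.mem_ofPred_eq]
    constructor
    · rintro (h1 | h2)
      · rw [h1]; exact N.one_mem
      · by_contra hxN
        obtain ⟨n, hn, h, hh, hnh⟩ := hdec (x : G) x.2
        have hh1 : h ≠ 1 := by
          rintro rfl
          rw [mul_one] at hnh
          exact hxN (hnh ▸ hn)
        obtain ⟨m, hm, hmh⟩ := hF3 h hh hh1 n hn
        apply h2 ⟨m, hNK hm⟩
        rw [mem_conj_smul_iff, Subgroup.mem_subgroupOf]
        have : (((⟨m, hNK hm⟩ : ↥(N ⊔ H))⁻¹ * x * ⟨m, hNK hm⟩ : ↥(N ⊔ H)) : G) = h := by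
          simp only [Subgroup.coe_mul, Subgroup.coe_inv]
          rw [← hnh, ← hmh]; group
        rw [this]; exact hh
    · intro hxN
      by_cases hx1 : x = 1
      · left; exact hx1
      · right
        intro g hxg
        rw [mem_conj_smul_iff, Subgroup.mem_subgroupOf] at hxg
        have h1 : ((g⁻¹ * x * g : ↥(N ⊔ H)) : G) ∈ N := by
          simp only [Subgroup.coe_mul, Subgroup.coe_inv]
          have := hNn.conj_mem (x : G) hxN (g : G)⁻¹
          rw [inv_inv] at this; exact this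
        have h2 := hF1 _ h1 hxg
        apply hx1
        have h3 : (g⁻¹ * x * g : ↥(N ⊔ H)) = 1 := Subtype.ext h2
        have : x = g * (g⁻¹ * x * g) * g⁻¹ := by group
        rw [this, h3]; group

end Cfsg.Agent.S4108
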