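import Mathlib
import Cfsg.Statements.S4106
import Cfsg.Agent.S4108

set_option autoImplicit false
open Cfsg

namespace Cfsg.Agent.S4106

universe u

theorem pow_eq_of_modEq' {G : Type*} [Group G] {x : G} {n a b : ℕ} (hx : x ^ n = 1)
    (h : a ≡ b [MOD n]) : x ^ a = x ^ b :=
  pow_eq_pow_iff_modEq.mpr (h.of_dvd (orderOf_dvd_of_pow_eq_one hx))

/-- decomposition into `p`-part and `p'`-part -/
theorem pdecomp {G : Type u} [Group G] [Finite G] (p : ℕ) [hp : Fact p.Prime] (g : G) :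
    ∃ u v : G, u * v = g ∧ u * v = v * u ∧ u ∈ Subgroup.zpowers g ∧ v ∈ Subgroup.zpowers g ∧
      (∃ k, orderOf u = p ^ k) ∧ (orderOf v).Coprime p := by
  have hN0 : Nat.card G ≠ 0 := Nat.card_pos.ne'
  obtain ⟨a, t, hpt, hN⟩ := Nat.exists_eq_pow_mul_and_not_dvd hN0 p hp.out.ne_one
  have co : Nat.Coprime (p ^ a) t :=
    Nat.Coprime.pow_left _ ((Nat.Prime.coprime_iff_not_dvd hp.out).mpr hpt)
  obtain ⟨e1, h11, h10⟩ := Nat.chineseRemainder co 1 0
  obtain ⟨e2, h20, h21⟩ := Nat.chineseRemainder co 0 1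
  have hte1 : t ∣ e1 := (Nat.modEq_zero_iff_dvd).mp h10
  have hpe2 : p ^ a ∣ e2 := (Nat.modEq_zero_iff_dvd).mp h20
  have hsum : e1 + e2 ≡ 1 [MOD p ^ a * t] := by
    rw [← Nat.modEq_and_modEq_iff_modEq_mul co]
    exact ⟨by simpa using h11.add h20, by simpa using h10.add h21⟩
  have hgN : g ^ (p ^ a * t) = 1 := by rw [← hN]; exact pow_card_eq_one'
  refine ⟨g ^ e1, g ^ e2, ?_, ?_, ⟨e1, by simp⟩, ⟨e2, by simp⟩, ?_, ?_⟩
  · rw [← pow_add]
    have := pow_eq_of_modEq' hgN hsum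
    rw [this, pow_one]
  · exact ((Commute.refl g).pow_pow e1 e2).eq
  · have h1 : (g ^ e1) ^ (p ^ a) = 1 := by
      rw [← pow_mul]
      obtain ⟨k, rfl⟩ := hte1
      rw [show t * k * p ^ a = (p ^ a * t) * k by ring, pow_mul, hgN, one_pow]
    obtain ⟨k, _, hk⟩ := (Nat.dvd_prime_pow hp.out).mp (orderOf_dvd_of_pow_eq_one h1)
    exact ⟨k, hk⟩
  · have h1 : (g ^ e2) ^ t = 1 := by
      rw [← pow_mul]
      obtain ⟨k, rfl⟩ := hpe2
      rw [show p ^ a * k * t = (p ^ a * t) * k by ring, pow_mul, hgN, one_pow]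
    have h2 : orderOf (g ^ e2) ∣ t := orderOf_dvd_of_pow_eq_one h1
    exact Nat.Coprime.coprime_dvd_left h2 ((Nat.Prime.coprime_iff_not_dvd hp.out).mpr hpt).symm

theorem orderOf_eq_of_isConj {G : Type*} [Group G] {a b : G} (h : IsConj a b) : orderOf a = orderOf b := by
  obtain ⟨c, hc⟩ := isConj_iff.mp h
  rw [← hc]
  have := MulEquiv.orderOf_eq (MulAut.conj c) a
  simpa [MulAut.conj_apply] using this.symm

theorem kS_le (S : Finset ℕ) : (∀ q ∈ S, q.Prime) → ∀ (G : Type u) [Group G] [Finite G],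
    Nat.card {C : ConjClasses G // ∀ q : ℕ, q.Prime → (∃ g : G, ConjClasses.mk g = C ∧ q ∣ orderOf g) → q ∈ S}
      ≤ ∏ q ∈ S, q ^ (Nat.card G).factorization q := by
  classical
  induction S using Finset.induction_on with
  | empty =>
    intro _ G _ _
    rw [Finset.prod_empty]
    rw [Finite.card_le_one_iff_subsingleton]
    constructor
    have key : ∀ C : {C : ConjClasses G // ∀ q : ℕ, q.Prime → (∃ g : G, ConjClasses.mk g = C ∧ q ∣ orderOf g) → q ∈ (∅ : Finset ℕ)},
        C.1 = ConjClasses.mk 1 := by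
      rintro ⟨C, hC⟩
      obtain ⟨g, rfl⟩ := ConjClasses.exists_rep C
      have ho : orderOf g = 1 := by
        by_contra hne
        have := hC (orderOf g).minFac (Nat.minFac_prime hne) ⟨g, rfl, Nat.minFac_dvd _⟩
        simp at this
      show ConjClasses.mk g = ConjClasses.mk 1
      rw [orderOf_eq_one_iff.mp ho]
    intro C1 C2
    apply Subtype.ext
    rw [key C1, key C2]
  | insert p S₀ hpS₀ IH =>
    intro hS G _ _
    have hp : p.Prime := hS p (Finset.mem_insert_self p S₀)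
    have : Fact p.Prime := ⟨hp⟩
    have hS₀ : ∀ q ∈ S₀, q.Prime := fun q hq => hS q (Finset.mem_insert_of_mem hq)
    obtain ⟨P⟩ : Nonempty (Sylow p G) := inferInstance
    have := Fintype.ofFinite ↥(P : Subgroup G)
    -- the surjection
    let T := Σ u : ↥(P : Subgroup G), {D : ConjClasses ↥(Subgroup.centralizer ({(u : G)} : Set G)) //
      ∀ q : ℕ, q.Prime → (∃ h, ConjClasses.mk h = D ∧ q ∣ orderOf h) → q ∈ S₀}
    have hfprop : ∀ (u : ↥(P : Subgroup G)) (D : {D : ConjClasses ↥(Subgroup.centralizer ({(u : G)} : Set G)) //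
        ∀ q : ℕ, q.Prime → (∃ h, ConjClasses.mk h = D ∧ q ∣ orderOf h) → q ∈ S₀}),
        ∀ q : ℕ, q.Prime → (∃ g : G, ConjClasses.mk g =
          ConjClasses.mk ((u : G) * ((Quotient.out D.1 : ↥(Subgroup.centralizer ({(u : G)} : Set G))) : G)) ∧ q ∣ orderOf g) →
          q ∈ insert p S₀ := by
      intro u D q hq hex
      obtain ⟨h, hh, hqh⟩ := hex
      have ho := orderOf_eq_of_isConj (ConjClasses.mk_eq_mk_iff_isConj.mp hh)
      rw [ho] at hqh
      set w := (Quotient.out D.1 : ↥(Subgroup.centralizer ({(u : G)} : Set G))) with hw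
      have hcomm : Commute (u : G) (w : G) := (Subgroup.mem_centralizer_singleton_iff.mp w.2).symm
      have h1 := dvd_trans hqh hcomm.orderOf_mul_dvd_mul_orderOf
      rcases (Nat.Prime.dvd_mul hq).mp h1 with h2 | h2
      · obtain ⟨k, hk⟩ := (IsPGroup.iff_orderOf.mp P.isPGroup') u
        rw [Subgroup.orderOf_coe] at h2
        rw [hk] at h2
        have := (Nat.prime_dvd_prime_iff_eq hq hp).mp (hq.dvd_of_dvd_pow h2)
        rw [this]
        exact Finset.mem_insert_self p S₀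
      · apply Finset.mem_insert_of_mem
        apply D.2 q hq
        refine ⟨w, Quotient.out_eq _, ?_⟩
        rwa [Subgroup.orderOf_coe] at h2
    let f : T → {C : ConjClasses G // ∀ q : ℕ, q.Prime → (∃ g : G, ConjClasses.mk g = C ∧ q ∣ orderOf g) → q ∈ insert p S₀} :=
      fun x => ⟨ConjClasses.mk ((x.1 : G) * ((Quotient.out x.2.1 : ↥(Subgroup.centralizer ({(x.1 : G)} : Set G))) : G)),
        hfprop x.1 x.2⟩
    have hfsurj : Function.Surjective f := by
      rintro ⟨C, hC⟩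
      obtain ⟨g, rfl⟩ := ConjClasses.exists_rep C
      obtain ⟨u, v, huv, hcomm, hug, hvg, ⟨k, hk⟩, hvco⟩ := pdecomp p g
      have hZ : IsPGroup p (Subgroup.zpowers u) :=
        IsPGroup.of_card (n := k) (by rw [Nat.card_zpowers, hk])
      obtain ⟨Q, hQ⟩ := hZ.exists_le_sylow
      obtain ⟨x, hx⟩ := MulAction.exists_smul_eq G Q P
      have hu'P : x * u * x⁻¹ ∈ (P : Subgroup G) := by
        rw [← hx, Sylow.coe_subgroup_smul, Cfsg.Agent.S4108.mem_conj_smul_iff]
        have : x⁻¹ * (x * u * x⁻¹) * x = u := by group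
        rw [this]
        exact hQ (Subgroup.mem_zpowers u)
      have hv'C : x * v * x⁻¹ ∈ Subgroup.centralizer ({(x * u * x⁻¹ : G)} : Set G) := by
        rw [Subgroup.mem_centralizer_singleton_iff]
        calc x * v * x⁻¹ * (x * u * x⁻¹) = x * (v * u) * x⁻¹ := by group
          _ = x * (u * v) * x⁻¹ := by rw [hcomm]
          _ = x * u * x⁻¹ * (x * v * x⁻¹) := by group
      have hDprop : ∀ q : ℕ, q.Prime → (∃ h : ↥(Subgroup.centralizer ({(x * u * x⁻¹ : G)} : Set G)),
          ConjClasses.mk h = ConjClasses.mk ⟨x * v * x⁻¹, hv'C⟩ ∧ q ∣ orderOf h) → q ∈ S₀ := by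
        intro q hq hex
        obtain ⟨h, hh, hqh⟩ := hex
        have ho := orderOf_eq_of_isConj (ConjClasses.mk_eq_mk_iff_isConj.mp hh)
        rw [ho, Subgroup.orderOf_mk] at hqh
        have hov : orderOf (x * v * x⁻¹) = orderOf v := by
          have := MulEquiv.orderOf_eq (MulAut.conj x) v
          simpa [MulAut.conj_apply] using this
        rw [hov] at hqh
        have hqg : q ∣ orderOf g := dvd_trans hqh (orderOf_dvd_of_mem_zpowers hvg)
        have hmem := hC q hq ⟨g, rfl, hqg⟩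
        rcases Finset.mem_insert.mp hmem with h1 | h1
        · exfalso
          rw [h1] at hqh
          have := Nat.dvd_gcd hqh (dvd_refl p)
          rw [hvco.gcd_eq_one] at this
          exact hp.one_lt.ne' (Nat.dvd_one.mp this)
        · exact h1
      refine ⟨⟨⟨x * u * x⁻¹, hu'P⟩, ⟨ConjClasses.mk ⟨x * v * x⁻¹, hv'C⟩, hDprop⟩⟩, ?_⟩
      apply Subtype.ext
      show ConjClasses.mk ((x * u * x⁻¹ : G) * ((Quotient.out (ConjClasses.mk (⟨x * v * x⁻¹, hv'C⟩ :
        ↥(Subgroup.centralizer ({(x * u * x⁻¹ : G)} : Set G)))) : ↥(Subgroup.centralizer ({(x * u * x⁻¹ : G)} : Set G))) : G)) =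
        ConjClasses.mk g
      set w := (Quotient.out (ConjClasses.mk (⟨x * v * x⁻¹, hv'C⟩ :
        ↥(Subgroup.centralizer ({(x * u * x⁻¹ : G)} : Set G)))) : ↥(Subgroup.centralizer ({(x * u * x⁻¹ : G)} : Set G))) with hw
      have hwc : ConjClasses.mk w = ConjClasses.mk ⟨x * v * x⁻¹, hv'C⟩ := Quotient.out_eq _
      obtain ⟨c, hc⟩ := isConj_iff.mp (ConjClasses.mk_eq_mk_iff_isConj.mp hwc)
      have hc' : (c : G) * (w : G) * (c : G)⁻¹ = x * v * x⁻¹ := by
        have := congrArg Subtype.val hc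
        simpa using this
      have hcu : (c : G) * (x * u * x⁻¹) = (x * u * x⁻¹) * (c : G) :=
        Subgroup.mem_centralizer_singleton_iff.mp c.2
      rw [ConjClasses.mk_eq_mk_iff_isConj, isConj_iff]
      refine ⟨x⁻¹ * (c : G), ?_⟩
      have h1 : (c : G) * ((x * u * x⁻¹) * (w : G)) * (c : G)⁻¹ = (x * u * x⁻¹) * (x * v * x⁻¹) := by
        rw [← hc']
        calc (c : G) * ((x * u * x⁻¹) * (w : G)) * (c : G)⁻¹
            = ((c : G) * (x * u * x⁻¹)) * (w : G) * (c : G)⁻¹ := by group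
          _ = ((x * u * x⁻¹) * (c : G)) * (w : G) * (c : G)⁻¹ := by rw [hcu]
          _ = (x * u * x⁻¹) * ((c : G) * (w : G) * (c : G)⁻¹) := by group
      calc x⁻¹ * (c : G) * ((x * u * x⁻¹) * (w : G)) * (x⁻¹ * (c : G))⁻¹
          = x⁻¹ * ((c : G) * ((x * u * x⁻¹) * (w : G)) * (c : G)⁻¹) * x := by group
        _ = x⁻¹ * ((x * u * x⁻¹) * (x * v * x⁻¹)) * x := by rw [h1]
        _ = u * v := by group
        _ = g := huv
    have hcard := Nat.card_le_card_of_surjective f hfsurj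
    refine le_trans hcard ?_
    rw [Nat.card_sigma]
    have hbound : ∀ u : ↥(P : Subgroup G),
        Nat.card {D : ConjClasses ↥(Subgroup.centralizer ({(u : G)} : Set G)) //
          ∀ q : ℕ, q.Prime → (∃ h, ConjClasses.mk h = D ∧ q ∣ orderOf h) → q ∈ S₀} ≤
        ∏ q ∈ S₀, q ^ (Nat.card G).factorization q := by
      intro u
      refine le_trans (IH hS₀ ↥(Subgroup.centralizer ({(u : G)} : Set G))) ?_
      apply Finset.prod_le_prod
      · intro q _; exact Nat.zero_le _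
      · intro q hq
        apply Nat.pow_le_pow_right (hS₀ q hq).pos
        have hd : Nat.card ↥(Subgroup.centralizer ({(u : G)} : Set G)) ∣ Nat.card G :=
          Subgroup.card_subgroup_dvd_card _
        exact (Nat.factorization_le_iff_dvd Nat.card_pos.ne' Nat.card_pos.ne').mpr hd q
    refine le_trans (Finset.sum_le_sum (fun u _ => hbound u)) ?_
    rw [Finset.sum_const, Finset.card_univ, smul_eq_mul, Finset.prod_insert hpS₀,
      ← Nat.card_eq_fintype_card, Sylow.card_eq_multiplicity]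

theorem prod_pow_dvd (S : Finset ℕ) (e : ℕ → ℕ) (m : ℕ) : (∀ q ∈ S, q.Prime) → (∀ q ∈ S, q ^ e q ∣ m) →
    ∏ q ∈ S, q ^ e q ∣ m := by
  classical
  induction S using Finset.induction_on with
  | empty => intro _ _; simp
  | insert p S₀ hpS₀ IH =>
    intro hS hd
    rw [Finset.prod_insert hpS₀]
    apply Nat.Coprime.mul_dvd_of_dvd_of_dvd
    · apply Nat.Coprime.prod_right
      intro q hq
      apply Nat.Coprime.pow
      rw [Nat.coprime_primes (hS p (Finset.mem_insert_self p S₀)) (hS q (Finset.mem_insert_of_mem hq))]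
      rintro rfl
      exact hpS₀ hq
    · exact hd p (Finset.mem_insert_self p S₀)
    · exact IH (fun q hq => hS q (Finset.mem_insert_of_mem hq)) (fun q hq => hd q (Finset.mem_insert_of_mem hq))

theorem result {G : Type*} [Group G] [Finite G]
    (π : Set ℕ) (hπ : ∀ q ∈ π, q.Prime)
    (m : ℕ) (hm : m ∣ Nat.card G) (hmπ : ∀ q : ℕ, q.Prime → q ∣ m → q ∈ π)
    (hm' : ∀ q ∈ π, ¬ q ∣ Nat.card G / m) :
    Nat.card {C : ConjClasses G // ∀ q : ℕ, q.Prime → (∃ g : G, ConjClasses.mk g = C ∧ q ∣ orderOf g) → q ∈ π} ≤ m := by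
  classical
  have hN0 : Nat.card G ≠ 0 := Nat.card_pos.ne'
  have hm0 : m ≠ 0 := by rintro rfl; exact hN0 (Nat.eq_zero_of_zero_dvd hm)
  set S : Finset ℕ := (Nat.card G).primeFactors.filter (fun q => q ∈ π) with hSdef
  have hSprime : ∀ q ∈ S, q.Prime := fun q hq => Nat.prime_of_mem_primeFactors (Finset.mem_filter.mp hq).1
  have h1 : Nat.card {C : ConjClasses G // ∀ q : ℕ, q.Prime → (∃ g : G, ConjClasses.mk g = C ∧ q ∣ orderOf g) → q ∈ π} ≤
      Nat.card {C : ConjClasses G // ∀ q : ℕ, q.Prime → (∃ g : G, ConjClasses.mk g = C ∧ q ∣ orderOf g) → q ∈ S} := by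
    have hmap : ∀ C : ConjClasses G,
        (∀ q : ℕ, q.Prime → (∃ g : G, ConjClasses.mk g = C ∧ q ∣ orderOf g) → q ∈ π) →
        (∀ q : ℕ, q.Prime → (∃ g : G, ConjClasses.mk g = C ∧ q ∣ orderOf g) → q ∈ S) := by
      intro C hC q hq hex
      rw [hSdef, Finset.mem_filter]
      refine ⟨?_, hC q hq hex⟩
      obtain ⟨g, _, hqg⟩ := hex
      exact Nat.mem_primeFactors.mpr ⟨hq, dvd_trans hqg (orderOf_dvd_natCard g), hN0⟩
    apply Nat.card_le_card_of_injective (fun C => ⟨C.1, hmap C.1 C.2⟩)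
    intro C1 C2 h
    have := congrArg Subtype.val h
    exact Subtype.ext this
  refine le_trans h1 (le_trans (kS_le S hSprime G) ?_)
  apply Nat.le_of_dvd (Nat.pos_of_ne_zero hm0)
  apply prod_pow_dvd S _ m hSprime
  intro q hq
  have hqπ : q ∈ π := (Finset.mem_filter.mp hq).2
  have hqp : q.Prime := hSprime q hq
  obtain ⟨r, hr⟩ := hm
  have hr0 : r ≠ 0 := by rintro rfl; rw [mul_zero] at hr; exact hN0 hr
  have hdiv : Nat.card G / m = r := by
    rw [hr]; exact Nat.mul_div_cancel_left r (Nat.pos_of_ne_zero hm0)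
  have hqr : ¬ q ∣ r := by
    have := hm' q hqπ
    rwa [hdiv] at this
  have hfac : (Nat.card G).factorization q = m.factorization q := by
    rw [hr, Nat.factorization_mul hm0 hr0]
    simp [Nat.factorization_eq_zero_of_not_dvd hqr]
  rw [hfac]
  exact Nat.ordProj_dvd m q

end Cfsg.Agent.S4106
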