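import Mathlib
import Cfsg.Agent.S4106
import Cfsg.Agent.Lib_helper19_KP

set_option autoImplicit false
set_option linter.style.haveILetI false
set_option linter.unusedSectionVars false

namespace Cfsg.Agent.helper19

open Cfsg.Agent.S4106 (pdecomp kS_le orderOf_eq_of_isConj)

universe u

/-- classes of `S`-elements, in the form used by `S4106`. -/
abbrev KS (S : Finset ℕ) (G : Type u) [Group G] :=
  {C : ConjClasses G // ∀ q : ℕ, q.Prime → (∃ g : G, ConjClasses.mk g = C ∧ q ∣ orderOf g) → q ∈ S}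

theorem mk_mem_pclasses' {G : Type*} [Group G] {p : ℕ} (u : G) (k : ℕ) (hk : orderOf u = p ^ k) :
    ∀ y ∈ (ConjClasses.mk u).carrier, ∃ k : ℕ, orderOf y = p ^ k := by
  intro y hy
  rw [ConjClasses.mem_carrier_iff_mk_eq, ConjClasses.mk_eq_mk_iff_isConj] at hy
  exact ⟨k, by rw [orderOf_eq_of_isConj hy, hk]⟩

/-- a chosen representative of a class of `p`-elements. -/
noncomputable def repP {p : ℕ} {G : Type u} [Group G] (c : PClasses p G) : G := Quotient.out c.1

theorem mk_repP {p : ℕ} {G : Type u} [Group G] (c : PClasses p G) : ConjClasses.mk (repP c) = c.1 :=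
  Quotient.out_eq c.1

theorem orderOf_repP {p : ℕ} {G : Type u} [Group G] (c : PClasses p G) :
    ∃ k : ℕ, orderOf (repP c) = p ^ k := by
  apply c.2
  rw [ConjClasses.mem_carrier_iff_mk_eq]
  exact mk_repP c

/-- the number of classes of `(insert r S₀)`-elements is at most `k_r(G)` times the `S₀`-part of `|G|`. -/
theorem kS_le_mul (S₀ : Finset ℕ) (r : ℕ) [hr : Fact r.Prime] (hS₀ : ∀ q ∈ S₀, q.Prime)
    (G : Type u) [Group G] [Finite G] :
    Nat.card (KS (insert r S₀) G) ≤
      Nat.card (PClasses r G) * ∏ q ∈ S₀, q ^ (Nat.card G).factorization q := by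
  classical
  have hp : r.Prime := hr.out
  haveI : Fintype (PClasses r G) := Fintype.ofFinite _
  let T := Σ c : PClasses r G, KS S₀ ↥(Subgroup.centralizer ({repP c} : Set G))
  have hfprop : ∀ (c : PClasses r G) (D : KS S₀ ↥(Subgroup.centralizer ({repP c} : Set G))),
      ∀ q : ℕ, q.Prime → (∃ g : G, ConjClasses.mk g =
        ConjClasses.mk ((repP c : G) * ((Quotient.out D.1 : ↥(Subgroup.centralizer ({repP c} : Set G))) : G)) ∧
          q ∣ orderOf g) → q ∈ insert r S₀ := by
    intro c D q hq hex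
    obtain ⟨h, hh, hqh⟩ := hex
    have ho := orderOf_eq_of_isConj (ConjClasses.mk_eq_mk_iff_isConj.mp hh)
    rw [ho] at hqh
    set w := (Quotient.out D.1 : ↥(Subgroup.centralizer ({repP c} : Set G))) with hw
    have hcomm : Commute (repP c : G) (w : G) := (Subgroup.mem_centralizer_singleton_iff.mp w.2).symm
    have h1 := dvd_trans hqh hcomm.orderOf_mul_dvd_mul_orderOf
    rcases (Nat.Prime.dvd_mul hq).mp h1 with h2 | h2
    · obtain ⟨k, hk⟩ := orderOf_repP c
      rw [hk] at h2
      have := (Nat.prime_dvd_prime_iff_eq hq hp).mp (hq.dvd_of_dvd_pow h2)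
      rw [this]
      exact Finset.mem_insert_self r S₀
    · apply Finset.mem_insert_of_mem
      apply D.2 q hq
      refine ⟨w, Quotient.out_eq _, ?_⟩
      rwa [Subgroup.orderOf_coe] at h2
  let f : T → KS (insert r S₀) G :=
    fun x => ⟨ConjClasses.mk ((repP x.1 : G) *
      ((Quotient.out x.2.1 : ↥(Subgroup.centralizer ({repP x.1} : Set G))) : G)), hfprop x.1 x.2⟩
  have hfsurj : Function.Surjective f := by
    rintro ⟨C, hC⟩
    obtain ⟨g, rfl⟩ := ConjClasses.exists_rep C
    obtain ⟨u, v, huv, hcomm, hug, hvg, ⟨k, hk⟩, hvco⟩ := pdecomp r g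
    set cu : PClasses r G := ⟨ConjClasses.mk u, mk_mem_pclasses' u k hk⟩ with hcu
    have hconj : IsConj u (repP cu) := by
      rw [← ConjClasses.mk_eq_mk_iff_isConj]
      exact (mk_repP cu).symm
    obtain ⟨x, hx⟩ := isConj_iff.mp hconj
    have hv'C : x * v * x⁻¹ ∈ Subgroup.centralizer ({repP cu} : Set G) := by
      rw [Subgroup.mem_centralizer_singleton_iff, ← hx]
      calc x * v * x⁻¹ * (x * u * x⁻¹) = x * (v * u) * x⁻¹ := by group
        _ = x * (u * v) * x⁻¹ := by rw [hcomm]
        _ = x * u * x⁻¹ * (x * v * x⁻¹) := by group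
    have hDprop : ∀ q : ℕ, q.Prime → (∃ h : ↥(Subgroup.centralizer ({repP cu} : Set G)),
        ConjClasses.mk h = ConjClasses.mk ⟨x * v * x⁻¹, hv'C⟩ ∧ q ∣ orderOf h) → q ∈ S₀ := by
      intro q hq hex
      obtain ⟨h, hh, hqh⟩ := hex
      have ho := orderOf_eq_of_isConj (ConjClasses.mk_eq_mk_iff_isConj.mp hh)
      rw [ho, Subgroup.orderOf_mk] at hqh
      have hov : orderOf (x * v * x⁻¹) = orderOf v := by
        have := MulEquiv.orderOf_eq (MulAut.conj x) v
        simpa [MulAut.conj_apply] using this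
      rw [hov] at hqh
      have hqg : q ∣ orderOf g := dvd_trans hqh (orderOf_dvd_of_mem_zpowers hvg)
      have hmem := hC q hq ⟨g, rfl, hqg⟩
      rcases Finset.mem_insert.mp hmem with h1 | h1
      · exfalso
        rw [h1] at hqh
        have := Nat.dvd_gcd hqh (dvd_refl r)
        rw [hvco.gcd_eq_one] at this
        exact hp.one_lt.ne' (Nat.dvd_one.mp this)
      · exact h1
    refine ⟨⟨cu, ⟨ConjClasses.mk ⟨x * v * x⁻¹, hv'C⟩, hDprop⟩⟩, ?_⟩
    apply Subtype.ext
    show ConjClasses.mk ((repP cu : G) * ((Quotient.out (ConjClasses.mk (⟨x * v * x⁻¹, hv'C⟩ :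
      ↥(Subgroup.centralizer ({repP cu} : Set G)))) : ↥(Subgroup.centralizer ({repP cu} : Set G))) : G)) =
      ConjClasses.mk g
    set w := (Quotient.out (ConjClasses.mk (⟨x * v * x⁻¹, hv'C⟩ :
      ↥(Subgroup.centralizer ({repP cu} : Set G)))) : ↥(Subgroup.centralizer ({repP cu} : Set G))) with hw
    have hwc : ConjClasses.mk w = ConjClasses.mk ⟨x * v * x⁻¹, hv'C⟩ := Quotient.out_eq _
    obtain ⟨c, hc⟩ := isConj_iff.mp (ConjClasses.mk_eq_mk_iff_isConj.mp hwc)
    have hc' : (c : G) * (w : G) * (c : G)⁻¹ = x * v * x⁻¹ := by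
      have := congrArg Subtype.val hc
      simpa using this
    have hcu' : (c : G) * (repP cu) = (repP cu) * (c : G) :=
      Subgroup.mem_centralizer_singleton_iff.mp c.2
    rw [ConjClasses.mk_eq_mk_iff_isConj, isConj_iff]
    refine ⟨x⁻¹ * (c : G), ?_⟩
    have h1 : (c : G) * ((repP cu) * (w : G)) * (c : G)⁻¹ = (x * u * x⁻¹) * (x * v * x⁻¹) := by
      rw [← hc', hx]
      calc (c : G) * ((repP cu) * (w : G)) * (c : G)⁻¹
          = ((c : G) * (repP cu)) * (w : G) * (c : G)⁻¹ := by group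
        _ = ((repP cu) * (c : G)) * (w : G) * (c : G)⁻¹ := by rw [hcu']
        _ = (repP cu) * ((c : G) * (w : G) * (c : G)⁻¹) := by group
    calc x⁻¹ * (c : G) * ((repP cu) * (w : G)) * (x⁻¹ * (c : G))⁻¹
        = x⁻¹ * ((c : G) * ((repP cu) * (w : G)) * (c : G)⁻¹) * x := by group
      _ = x⁻¹ * ((x * u * x⁻¹) * (x * v * x⁻¹)) * x := by rw [h1]
      _ = u * v := by group
      _ = g := huv
  have hcard := Nat.card_le_card_of_surjective f hfsurj
  refine le_trans hcard ?_
  rw [Nat.card_sigma]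
  have hbound : ∀ c : PClasses r G,
      Nat.card (KS S₀ ↥(Subgroup.centralizer ({repP c} : Set G))) ≤
      ∏ q ∈ S₀, q ^ (Nat.card G).factorization q := by
    intro c
    refine le_trans (kS_le S₀ hS₀ ↥(Subgroup.centralizer ({repP c} : Set G))) ?_
    apply Finset.prod_le_prod
    · intro q _; exact Nat.zero_le _
    · intro q hq
      apply Nat.pow_le_pow_right (hS₀ q hq).pos
      have hd : Nat.card ↥(Subgroup.centralizer ({repP c} : Set G)) ∣ Nat.card G :=
        Subgroup.card_subgroup_dvd_card _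
      exact (Nat.factorization_le_iff_dvd Nat.card_pos.ne' Nat.card_pos.ne').mpr hd q
  refine le_trans (Finset.sum_le_sum (fun c _ => hbound c)) ?_
  rw [Finset.sum_const, Finset.card_univ, smul_eq_mul, ← Nat.card_eq_fintype_card]

end Cfsg.Agent.helper19
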