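import Mathlib
import Cfsg.Prelude.Def_OddOrderLocal
import Cfsg.Agent.Lib_helper19_KPi

set_option autoImplicit false
set_option linter.style.haveILetI false
set_option linter.unusedSectionVars false

namespace Cfsg.Agent.helper19

open scoped commutatorElement

universe u

/-- intersect normal `p`-complements containing the derived subgroup. -/
theorem exists_inter_comm {G : Type u} [Group G] [Finite G] (s : Finset ℕ)
    (hL : ∀ p ∈ s, ∃ L : Subgroup G, L.Normal ∧ ¬ p ∣ Nat.card L ∧
      (∀ q : ℕ, q.Prime → q ∣ L.index → q = p) ∧ commutator G ≤ L) :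
    ∃ N : Subgroup G, N.Normal ∧ (∀ p ∈ s, ¬ p ∣ Nat.card N) ∧
      (∀ q : ℕ, q.Prime → q ∣ N.index → q ∈ s) ∧ commutator G ≤ N := by
  classical
  induction s using Finset.induction_on with
  | empty =>
    refine ⟨⊤, inferInstance, by simp, ?_, le_top⟩
    intro q hq hqd
    rw [Subgroup.index_top] at hqd
    exact absurd (Nat.dvd_one.mp hqd) hq.one_lt.ne'
  | insert p s hps ih =>
    obtain ⟨N, hNn, hNcard, hNidx, hNc⟩ := ih (fun p' hp' => hL p' (Finset.mem_insert_of_mem hp'))
    obtain ⟨L, hLn, hLcard, hLidx, hLc⟩ := hL p (Finset.mem_insert_self p s)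
    haveI := hNn
    haveI := hLn
    refine ⟨N ⊓ L, inferInstance, ?_, ?_, le_inf hNc hLc⟩
    · intro p' hp'
      rcases Finset.mem_insert.mp hp' with rfl | hp'
      · exact fun h => hLcard (h.trans (Subgroup.card_dvd_of_le inf_le_right))
      · exact fun h => hNcard p' hp' (h.trans (Subgroup.card_dvd_of_le inf_le_left))
    · intro q hq hqd
      have h1 : (N ⊓ L).index = L.relIndex N * N.index := by
        rw [← Subgroup.inf_relIndex_left, Subgroup.relIndex_mul_index inf_le_left]
      rw [h1] at hqd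
      rcases (Nat.Prime.dvd_mul hq).mp hqd with h | h
      · have h2 : L.relIndex N ∣ L.index := Subgroup.relIndex_dvd_index_of_normal L N
        rw [hLidx q hq (h.trans h2)]
        exact Finset.mem_insert_self _ _
      · exact Finset.mem_insert_of_mem (hNidx q hq h)

/-- arithmetic core of the reduction from `π` to a single prime. -/
theorem kpi_arith {p r a k E K : ℕ} (_hE : 0 < E) (hpr : p ≤ r) (hp : 0 < p) (_ha : 0 < a)
    (h1 : (p + 1) * (a * E) < 2 * p * K) (h2 : K ≤ k * E) (h3 : 2 * r * k ≤ (r + 1) * a) : False := by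
  have h4 : (p + 1) * (a * E) < 2 * p * (k * E) := lt_of_lt_of_le h1 (Nat.mul_le_mul_left _ h2)
  have h5 : (p + 1) * a < 2 * p * k := by
    have : (p + 1) * a * E < 2 * p * k * E := by
      calc (p + 1) * a * E = (p + 1) * (a * E) := by ring
        _ < 2 * p * (k * E) := h4
        _ = 2 * p * k * E := by ring
    exact Nat.lt_of_mul_lt_mul_right this
  -- r (p+1) a < 2 p r k ≤ p (r+1) a
  have h6 : r * ((p + 1) * a) < r * (2 * p * k) :=
    Nat.mul_lt_mul_of_pos_left h5 (lt_of_lt_of_le hp hpr)
  have h7 : p * (2 * r * k) ≤ p * ((r + 1) * a) := Nat.mul_le_mul_left _ h3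
  have h8 : r * ((p + 1) * a) < p * ((r + 1) * a) := by
    calc r * ((p + 1) * a) < r * (2 * p * k) := h6
      _ = p * (2 * r * k) := by ring
      _ ≤ p * ((r + 1) * a) := h7
  have h9 : (r * p + r) * a < (p * r + p) * a := by
    calc (r * p + r) * a = r * ((p + 1) * a) := by ring
      _ < p * ((r + 1) * a) := h8
      _ = (p * r + p) * a := by ring
  have h10 := Nat.lt_of_mul_lt_mul_right h9
  have : r * p = p * r := mul_comm _ _
  omega

/-- `S3899`. -/
theorem kpi_main {G : Type u} [Group G] [Finite G] (π : Finset ℕ) (hπ : ∀ r ∈ π, r.Prime) (p : ℕ)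
    (hp : p ∈ π) (hmin : ∀ r ∈ π, p ≤ r)
    (hk : (p + 1) * π.prod (fun r => r ^ (Nat.card G).factorization r) <
      2 * p * Nat.card {c : ConjClasses G // ∀ x ∈ c.carrier, ∀ r : ℕ, r.Prime → r ∣ orderOf x → r ∈ π}) :
    (∃ N : Subgroup G, N.Normal ∧ (∀ r : ℕ, r.Prime → r ∣ Nat.card ↥N → r ∉ π) ∧
      ∀ r : ℕ, r.Prime → r ∣ N.index → r ∈ π) ∧
    ∃ H : Subgroup G, Cfsg.IsPiHall (↑π : Set ℕ) H ∧ IsMulCommutative ↥H := by
  classical
  have hcardeq : Nat.card {c : ConjClasses G // ∀ x ∈ c.carrier, ∀ r : ℕ, r.Prime → r ∣ orderOf x → r ∈ π} =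
      Nat.card (KS π G) := by
    apply Nat.card_congr
    apply Equiv.subtypeEquivRight
    intro c
    constructor
    · intro h q hq ⟨g, hg, hqg⟩
      exact h g (by rw [ConjClasses.mem_carrier_iff_mk_eq]; exact hg) q hq hqg
    · intro h x hx q hq hqx
      exact h q hq ⟨x, by rwa [ConjClasses.mem_carrier_iff_mk_eq] at hx, hqx⟩
  rw [hcardeq] at hk
  have hppos : 0 < p := (hπ p hp).pos
  -- normal r-complements
  have hL : ∀ r ∈ π, ∃ L : Subgroup G, L.Normal ∧ ¬ r ∣ Nat.card L ∧
      (∀ q : ℕ, q.Prime → q ∣ L.index → q = r) ∧ commutator G ≤ L := by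
    intro r hr
    haveI : Fact r.Prime := ⟨hπ r hr⟩
    have hrp : r.Prime := hπ r hr
    obtain ⟨P⟩ : Nonempty (Sylow r G) := inferInstance
    have hNC : Subgroup.normalizer ((P : Subgroup G) : Set G) ≤ Subgroup.centralizer ((P : Subgroup G) : Set G) := by
      by_contra hNC
      have hb := kp_bound P hNC
      have hmul := kS_le_mul (π.erase r) r (fun q hq => hπ q (Finset.mem_of_mem_erase hq)) G
      rw [Finset.insert_erase hr] at hmul
      have hprod : π.prod (fun q => q ^ (Nat.card G).factorization q) =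
          Nat.card (P : Subgroup G) * (π.erase r).prod (fun q => q ^ (Nat.card G).factorization q) := by
        rw [Sylow.card_eq_multiplicity, Finset.mul_prod_erase π (fun q => q ^ (Nat.card G).factorization q) hr]
      rw [hprod] at hk
      have hE : 0 < (π.erase r).prod (fun q => q ^ (Nat.card G).factorization q) := by
        apply Finset.prod_pos
        intro q hq
        exact pow_pos (hπ q (Finset.mem_of_mem_erase hq)).pos _
      exact kpi_arith hE (hmin r hr) hppos Nat.card_pos hk hmul hb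
    refine ⟨(MonoidHom.transferSylow P hNC).ker, inferInstance,
      MonoidHom.not_dvd_card_ker_transferSylow P hNC, ?_, ?_⟩
    · intro q hq hqd
      have hc := MonoidHom.ker_transferSylow_isComplement' P hNC
      have h1 : (MonoidHom.transferSylow P hNC).ker.index = Nat.card (P : Subgroup G) :=
        hc.symm.index_eq_card
      obtain ⟨k, hk'⟩ := P.2.exists_card_eq
      rw [h1, hk'] at hqd
      exact (Nat.prime_dvd_prime_iff_eq hq hrp).mp (hq.dvd_of_dvd_pow hqd)
    · rw [commutator_def, Subgroup.commutator_le]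
      intro a _ b _
      rw [MonoidHom.mem_ker, map_commutatorElement]
      have hcomm : ∀ x y : ↥(P : Subgroup G), x * y = y * x := fun x y =>
        Subtype.ext ((hNC (Subgroup.le_normalizer y.2)) x x.2)
      rw [commutatorElement_def, hcomm _ ((MonoidHom.transferSylow P hNC) b)]
      group
  obtain ⟨N, hNn, hNcard, hNidx, hNc⟩ := exists_inter_comm π hL
  haveI := hNn
  refine ⟨⟨N, hNn, fun r _ hrd hrπ => hNcard r hrπ hrd, hNidx⟩, ?_⟩
  have hcop : (Nat.card N).Coprime N.index := by
    apply Nat.coprime_of_dvd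
    intro q hq hq1 hq2
    exact hNcard q (hNidx q hq hq2) hq1
  obtain ⟨H, hH⟩ := Subgroup.exists_right_complement'_of_coprime hcop
  refine ⟨H, ⟨?_, ?_⟩, ⟨⟨fun a b => ?_⟩⟩⟩
  · intro q hq hqd
    have : N.index = Nat.card H := hH.symm.index_eq_card
    rw [← this] at hqd
    exact hNidx q hq hqd
  · intro q _ hqπ hqd
    have : H.index = Nat.card N := hH.index_eq_card
    rw [this] at hqd
    exact hNcard q hqπ hqd
  · have h1 : ⁅(a : G), (b : G)⁆ ∈ N := by
      apply hNc
      rw [commutator_def]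
      exact Subgroup.commutator_mem_commutator (Subgroup.mem_top _) (Subgroup.mem_top _)
    have h2 : ⁅(a : G), (b : G)⁆ ∈ H := by
      rw [commutatorElement_def]
      exact H.mul_mem (H.mul_mem (H.mul_mem a.2 b.2) (H.inv_mem a.2)) (H.inv_mem b.2)
    have h3 : ⁅(a : G), (b : G)⁆ ∈ N ⊓ H := Subgroup.mem_inf.2 ⟨h1, h2⟩
    rw [hH.disjoint.eq_bot, Subgroup.mem_bot, commutatorElement_eq_one_iff_mul_comm] at h3
    exact Subtype.ext h3

end Cfsg.Agent.helper19
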