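import Mathlib
import Cfsg.Prelude.Def_LocalEven
import Cfsg.Agent.Lib_helper19_CN3
import Cfsg.Agent.Lib_helper7_Gen4
import Cfsg.Agent.Lib_helper10_PResidual

/-! The hyperplane lemma for `p`-soluble groups (helper19). -/

set_option autoImplicit false
set_option linter.style.haveILetI false

namespace Cfsg.Agent.helper19.KS

open scoped commutatorElement

/-- A `p'`-element of `A N` (`A` a `p`-group normalizing `N`) lies in `N`. -/
theorem mem_of_coprime_of_mem_sup {G : Type*} [Group G] {p : ℕ} [Fact p.Prime]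
    (A N : Subgroup G) (hA : IsPGroup p A) (hAN : A ≤ Subgroup.normalizer (N : Set G)) (g : G)
    (hg : g ∈ A ⊔ N) (hgp : (orderOf g).Coprime p) : g ∈ N := by
  obtain ⟨T, hT⟩ : ∃ T : Subgroup G, T = A ⊔ N := ⟨_, rfl⟩
  rw [← hT] at hg
  have hAT : A ≤ T := by rw [hT]; exact le_sup_left
  have hNT : N ≤ T := by rw [hT]; exact le_sup_right
  have hTN : T ≤ Subgroup.normalizer (N : Set G) := by
    rw [hT]; exact sup_le hAN Subgroup.le_normalizer
  haveI hNn : (N.subgroupOf T).Normal := (Subgroup.normal_subgroupOf_iff_le_normalizer hNT).2 hTN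
  have htop : (⊤ : Subgroup ↥T) = A.subgroupOf T ⊔ N.subgroupOf T := by
    rw [← Subgroup.subgroupOf_sup hAT hNT, ← hT, Subgroup.subgroupOf_self]
  have hAp : IsPGroup p (A.subgroupOf T) := hA.comap_subtype
  have hmap : (⊤ : Subgroup ↥T).map (QuotientGroup.mk' (N.subgroupOf T)) =
      (A.subgroupOf T).map (QuotientGroup.mk' (N.subgroupOf T)) := by
    rw [htop, Subgroup.map_sup, QuotientGroup.map_mk'_self, sup_bot_eq]
  have hz : QuotientGroup.mk' (N.subgroupOf T) ⟨g, hg⟩ ∈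
      (A.subgroupOf T).map (QuotientGroup.mk' (N.subgroupOf T)) := by
    rw [← hmap]; exact Subgroup.mem_map_of_mem _ (Subgroup.mem_top _)
  obtain ⟨k, hk⟩ := (hAp.map (QuotientGroup.mk' (N.subgroupOf T))) ⟨_, hz⟩
  have hk' : (QuotientGroup.mk' (N.subgroupOf T) ⟨g, hg⟩) ^ p ^ k = 1 := by
    have := congrArg Subtype.val hk
    rwa [Subgroup.coe_pow, Subgroup.coe_one] at this
  have h1 : orderOf (QuotientGroup.mk' (N.subgroupOf T) ⟨g, hg⟩) ∣ p ^ k :=
    orderOf_dvd_of_pow_eq_one hk'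
  have h2 : orderOf (QuotientGroup.mk' (N.subgroupOf T) ⟨g, hg⟩) ∣ orderOf g := by
    have := orderOf_map_dvd (QuotientGroup.mk' (N.subgroupOf T)) (⟨g, hg⟩ : ↥T)
    rwa [Subgroup.orderOf_mk] at this
  have h3 : orderOf (QuotientGroup.mk' (N.subgroupOf T) ⟨g, hg⟩) = 1 := by
    have hc : (orderOf g).Coprime (p ^ k) := Nat.Coprime.pow_right k hgp
    exact Nat.eq_one_of_dvd_coprimes hc h2 h1
  rw [orderOf_eq_one_iff] at h3
  have h4 := (QuotientGroup.eq_one_iff _).1 h3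
  rw [Subgroup.mem_subgroupOf] at h4
  exact h4

/-- The `p'`-part of an element as a power, compatible with a homomorphism under which the
element becomes a `p'`-element. -/
theorem exists_pow_coprime {G : Type*} [Group G] [Finite G] {G' : Type*} [Group G'] {p : ℕ}
    [hp : Fact p.Prime] (π : G →* G') (y : G) (r' : ℕ) (hr' : r'.Coprime p)
    (hy : (π y) ^ r' = 1) : ∃ m : ℕ, π (y ^ m) = π y ∧ (orderOf (y ^ m)).Coprime p := by
  have ho : orderOf y ≠ 0 := (orderOf_pos y).ne'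
  obtain ⟨e, r, hr, hor⟩ := Nat.exists_eq_pow_mul_and_not_dvd ho p hp.out.ne_one
  have hrp : r.Coprime p := ((Nat.Prime.coprime_iff_not_dvd hp.out).2 hr).symm
  have hd1 : orderOf (π y) ∣ r' := orderOf_dvd_of_pow_eq_one hy
  have hd2 : orderOf (π y) ∣ p ^ e * r := by
    rw [← hor]; exact orderOf_map_dvd π y
  have hd3 : orderOf (π y) ∣ r := by
    have hc : (orderOf (π y)).Coprime (p ^ e) :=
      Nat.Coprime.pow_right e (Nat.Coprime.coprime_dvd_left hd1 hr')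
    exact hc.dvd_of_dvd_mul_left hd2
  have hcop : (p ^ e).Coprime r := Nat.Coprime.pow_left e hrp.symm
  obtain ⟨m, hm0, hm1⟩ := Nat.chineseRemainder hcop 0 1
  refine ⟨m, ?_, ?_⟩
  · rw [map_pow]
    have h1 : m ≡ 1 [MOD orderOf (π y)] := Nat.ModEq.of_dvd hd3 hm1
    have h2 := pow_eq_pow_iff_modEq.2 h1
    rw [h2, pow_one]
  · have hdm : p ^ e ∣ m := (Nat.modEq_zero_iff_dvd).1 hm0
    obtain ⟨t, ht⟩ := hdm
    have h1 : (y ^ m) ^ r = 1 := by
      rw [← pow_mul, ht, mul_assoc, mul_comm t r, ← mul_assoc, ← hor, pow_mul, pow_orderOf_eq_one,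
        one_pow]
    exact Nat.Coprime.coprime_dvd_left (orderOf_dvd_of_pow_eq_one h1) hrp


/-- Existence of the hyperplane `B̄` and the `p'`-element `x`. -/
theorem ks_exists {M : Type*} [Group M] [Finite M] {p : ℕ} [hp : Fact p.Prime]
    (hM : Cfsg.IsPSolvable p M) (A : Subgroup M) (hA : IsPGroup p A)
    (hΦ : (frattini ↥A).map A.subtype ≤ Cfsg.pCore p M) (hnot : ¬ A ≤ Cfsg.pCore p M) :
    ∃ (Bb : Subgroup (M ⧸ Cfsg.pCore p M)) (x : M),
      Bb ≤ A.map (QuotientGroup.mk' (Cfsg.pCore p M)) ∧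
      Bb.relIndex (A.map (QuotientGroup.mk' (Cfsg.pCore p M))) = p ∧
      (∀ a ∈ A, ∀ b ∈ A, QuotientGroup.mk' (Cfsg.pCore p M) a * QuotientGroup.mk' (Cfsg.pCore p M) b =
        QuotientGroup.mk' (Cfsg.pCore p M) b * QuotientGroup.mk' (Cfsg.pCore p M) a) ∧
      (∀ a ∈ A, (QuotientGroup.mk' (Cfsg.pCore p M) a) ^ p = 1) ∧
      QuotientGroup.mk' (Cfsg.pCore p M) x ∈ Cfsg.pPrimeCore p (M ⧸ Cfsg.pCore p M) ∧
      QuotientGroup.mk' (Cfsg.pCore p M) x ∈ Subgroup.centralizer (Bb : Set (M ⧸ Cfsg.pCore p M)) ∧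
      (∃ a₀ ∈ A, QuotientGroup.mk' (Cfsg.pCore p M) a₀ * QuotientGroup.mk' (Cfsg.pCore p M) x ≠
        QuotientGroup.mk' (Cfsg.pCore p M) x * QuotientGroup.mk' (Cfsg.pCore p M) a₀) ∧
      (orderOf x).Coprime p ∧ x ∈ A ⊔ A.map (MulAut.conj x).toMonoidHom := by
  obtain ⟨π, hπ⟩ : ∃ π : M →* M ⧸ Cfsg.pCore p M, π = QuotientGroup.mk' (Cfsg.pCore p M) :=
    ⟨_, rfl⟩
  rw [← hπ]
  have hπ1 : ∀ g : M, π g = 1 ↔ g ∈ Cfsg.pCore p M := by
    intro g; rw [hπ]; exact QuotientGroup.eq_one_iff g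
  have hsurj : Function.Surjective π := by rw [hπ]; exact QuotientGroup.mk'_surjective _
  -- `Ā` is elementary abelian
  have hAbc : ∀ a ∈ A, ∀ b ∈ A, π a * π b = π b * π a := by
    intro a ha b hb
    have h1 : ⁅(⟨a, ha⟩ : ↥A), (⟨b, hb⟩ : ↥A)⁆ ∈ frattini ↥A :=
      Cfsg.Agent.helper1.commutator_le_frattini_of_isPGroup hA
        (Subgroup.commutator_mem_commutator (Subgroup.mem_top _) (Subgroup.mem_top _))
    have h2 : a * b * a⁻¹ * b⁻¹ ∈ Cfsg.pCore p M := by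
      apply hΦ
      refine ⟨_, h1, ?_⟩
      rw [commutatorElement_def]
      simp
    have h3 := (hπ1 _).2 h2
    rw [map_mul, map_mul, map_mul, map_inv, map_inv] at h3
    calc π a * π b = (π a * π b * (π a)⁻¹ * (π b)⁻¹) * (π b * π a) := by group
      _ = π b * π a := by rw [h3, one_mul]
  have hAbp : ∀ a ∈ A, (π a) ^ p = 1 := by
    intro a ha
    rw [← map_pow, hπ1]
    apply hΦ
    exact ⟨_, Cfsg.Agent.helper1.pow_mem_frattini_of_isPGroup hA ⟨a, ha⟩, rfl⟩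
  have hEA : Cfsg.IsElementaryAbelian p (A.map π) := by
    refine ⟨⟨⟨?_⟩⟩, ?_⟩
    · rintro ⟨_, a, ha, rfl⟩ ⟨_, b, hb, rfl⟩
      exact Subtype.ext (hAbc a ha b hb)
    · rintro _ ⟨a, ha, rfl⟩
      exact hAbp a ha
  have hAbP : IsPGroup p (A.map π) := hA.map π
  -- the quotient
  have hO : Cfsg.pCore p (M ⧸ Cfsg.pCore p M) = ⊥ := Cfsg.Agent.helper19.CN.pCore_quot_pCore
  have hpsq := Cfsg.Agent.helper23.psreach_top_quotient hp.out hM (Cfsg.pCore p M)
  have hHH := Cfsg.Agent.helper15.DualHH.hall_higman_dual hpsq hO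
  obtain ⟨K, hK⟩ : ∃ K : Subgroup (M ⧸ Cfsg.pCore p M),
    K = Cfsg.pPrimeCore p (M ⧸ Cfsg.pCore p M) := ⟨_, rfl⟩
  rw [← hK] at hHH ⊢
  have hKn : K.Normal := by rw [hK]; infer_instance
  have hKc : (Nat.card K).Coprime p := by rw [hK]; exact Cfsg.Agent.helper1.pPrimeCore_coprime p
  have hKpow : ∀ z ∈ K, z ^ Nat.card K = 1 := by
    intro z hz
    have := pow_card_eq_one' (G := K) (x := ⟨z, hz⟩)
    have h2 := congrArg Subtype.val this
    rwa [Subgroup.coe_pow, Subgroup.coe_one] at h2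
  have hAne : A.map π ≠ ⊥ := by
    intro h0
    apply hnot
    intro a ha
    have h1 : π a ∈ A.map π := Subgroup.mem_map_of_mem π ha
    rw [h0, Subgroup.mem_bot] at h1
    exact (hπ1 a).1 h1
  have hnc : ¬ K ≤ Subgroup.centralizer ((A.map π : Subgroup _) : Set (M ⧸ Cfsg.pCore p M)) := by
    intro hle
    apply hAne
    have h1 : A.map π ≤ K := by
      intro z hz
      apply hHH
      rw [Subgroup.mem_centralizer_iff]
      intro k hk
      have h2 := hle hk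
      rw [Subgroup.mem_centralizer_iff] at h2
      exact (h2 z hz).symm
    obtain ⟨k, hk⟩ := IsPGroup.exists_card_eq hAbP
    have h3 : Nat.card (A.map π) ∣ Nat.card K := Subgroup.card_dvd_of_le h1
    have h4 : Nat.card (A.map π) = 1 := by
      have hc : (Nat.card (A.map π)).Coprime (Nat.card (A.map π)) := by
        apply Nat.Coprime.coprime_dvd_left h3
        rw [hk]
        exact Nat.Coprime.pow_right k hKc
      exact (Nat.coprime_self _).1 hc
    exact Subgroup.card_eq_one.1 h4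
  -- the hyperplane
  have hB : ∃ Bb : Subgroup (M ⧸ Cfsg.pCore p M), Bb ≤ A.map π ∧ Bb.relIndex (A.map π) = p ∧
      ¬ K ⊓ Subgroup.centralizer (Bb : Set (M ⧸ Cfsg.pCore p M)) ≤
        Subgroup.centralizer ((A.map π : Subgroup _) : Set (M ⧸ Cfsg.pCore p M)) := by
    by_cases h2 : p ^ 2 ≤ Nat.card (A.map π)
    · refine Cfsg.Agent.helper7.exists_hyperplane_not_le hEA h2 ?_ ?_ hnc
      · intro hd
        have := Nat.Coprime.eq_one_of_dvd hKc.symm hd
        exact hp.out.one_lt.ne' this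
      · rw [Subgroup.normalizer_eq_top]; exact le_top
    · refine ⟨⊥, bot_le, ?_, ?_⟩
      · rw [Subgroup.relIndex_bot_left]
        obtain ⟨k, hk⟩ := IsPGroup.exists_card_eq hAbP
        rw [hk] at h2 ⊢
        have hk2 : k < 2 := by
          by_contra hk2
          apply h2
          exact Nat.pow_le_pow_right hp.out.pos (not_lt.1 hk2)
        have hk0 : k ≠ 0 := by
          intro h0
          apply hAne
          rw [h0, pow_zero] at hk
          exact Subgroup.card_eq_one.1 hk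
        have : k = 1 := by omega
        rw [this, pow_one]
      · intro hle
        apply hnc
        intro z hz
        apply hle
        refine ⟨hz, ?_⟩
        show z ∈ Subgroup.centralizer ((⊥ : Subgroup (M ⧸ Cfsg.pCore p M)) : Set _)
        rw [Subgroup.mem_centralizer_iff]
        intro g hg
        have : g = 1 := by
          have : g ∈ (⊥ : Subgroup (M ⧸ Cfsg.pCore p M)) := hg
          rwa [Subgroup.mem_bot] at this
        rw [this, one_mul, mul_one]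
  obtain ⟨Bb, hBA, hBidx, hBnc⟩ := hB
  obtain ⟨xb, hxb, hxbn⟩ := SetLike.not_le_iff_exists.1 hBnc
  obtain ⟨hxbK, hxbC⟩ := hxb
  rw [Subgroup.mem_centralizer_iff] at hxbn
  push Not at hxbn
  obtain ⟨_, ⟨a₀, ha₀, rfl⟩, hne₀⟩ := hxbn
  obtain ⟨x₀, rfl⟩ := hsurj xb
  -- the minimal choice
  obtain ⟨X, hX⟩ : ∃ X : Set M, X = {x : M | π x ∈ K ∧
    π x ∈ Subgroup.centralizer (Bb : Set (M ⧸ Cfsg.pCore p M)) ∧ π a₀ * π x ≠ π x * π a₀} :=
    ⟨_, rfl⟩
  have hXne : X.Nonempty := ⟨x₀, by rw [hX]; exact ⟨hxbK, hxbC, hne₀⟩⟩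
  obtain ⟨x, hxX, hmin⟩ := Set.exists_min_image X
    (fun x => Nat.card (A ⊔ A.map (MulAut.conj x).toMonoidHom : Subgroup M)) (Set.toFinite _) hXne
  rw [hX] at hxX
  obtain ⟨hxK, hxC, hxne⟩ := hxX
  -- the commutator
  obtain ⟨y, hy⟩ : ∃ y : M, y = a₀⁻¹ * (x * a₀ * x⁻¹) := ⟨_, rfl⟩
  have hAL : A ≤ A ⊔ A.map (MulAut.conj x).toMonoidHom := le_sup_left
  have hyL : y ∈ A ⊔ A.map (MulAut.conj x).toMonoidHom := by
    rw [hy]
    apply Subgroup.mul_mem _ (hAL (A.inv_mem ha₀))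
    apply (le_sup_right : A.map (MulAut.conj x).toMonoidHom ≤ _)
    exact ⟨a₀, ha₀, by simp [MulAut.conj_apply]⟩
  have hπy : π y = (π a₀)⁻¹ * (π x * π a₀ * (π x)⁻¹) := by
    rw [hy, map_mul, map_mul, map_mul, map_inv, map_inv]
  have ha₀C : π a₀ ∈ Subgroup.centralizer (Bb : Set (M ⧸ Cfsg.pCore p M)) := by
    rw [Subgroup.mem_centralizer_iff]
    intro b hb
    obtain ⟨b', hb', rfl⟩ := hBA hb
    exact hAbc b' hb' a₀ ha₀
  have hyK : π y ∈ K := by
    rw [hπy]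
    have e : (π a₀)⁻¹ * (π x * π a₀ * (π x)⁻¹) = ((π a₀)⁻¹ * π x * (π a₀)⁻¹⁻¹) * (π x)⁻¹ := by
      group
    rw [e]
    exact K.mul_mem (hKn.conj_mem _ hxK _) (K.inv_mem hxK)
  have hyC : π y ∈ Subgroup.centralizer (Bb : Set (M ⧸ Cfsg.pCore p M)) := by
    rw [hπy]
    exact Subgroup.mul_mem _ (Subgroup.inv_mem _ ha₀C)
      (Subgroup.mul_mem _ (Subgroup.mul_mem _ hxC ha₀C) (Subgroup.inv_mem _ hxC))
  have hyne : π a₀ * π y ≠ π y * π a₀ := by
    intro hcomm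
    have h1 : π x * π a₀ * (π x)⁻¹ = π a₀ * π y := by rw [hπy]; group
    have h2 : (π x * π a₀ * (π x)⁻¹) ^ p = 1 := by
      rw [conj_pow, hAbp a₀ ha₀]; group
    have hc : Commute (π a₀) (π y) := hcomm
    rw [h1, hc.mul_pow, hAbp a₀ ha₀, one_mul] at h2
    have h3 := pow_gcd_eq_one.2 ⟨hKpow _ hyK, h2⟩
    rw [Nat.Coprime.gcd_eq_one hKc, pow_one] at h3
    rw [h3, mul_one] at h1
    apply hxne
    calc π a₀ * π x = (π x * π a₀ * (π x)⁻¹) * π x := by rw [h1]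
      _ = π x * π a₀ := by group
  -- the `p'`-part
  obtain ⟨m, hm1, hm2⟩ := exists_pow_coprime π y (Nat.card K) hKc (hKpow _ hyK)
  have hhX : y ^ m ∈ X := by
    rw [hX]
    show π (y ^ m) ∈ K ∧ π (y ^ m) ∈ Subgroup.centralizer (Bb : Set (M ⧸ Cfsg.pCore p M)) ∧
      π a₀ * π (y ^ m) ≠ π (y ^ m) * π a₀
    rw [hm1]
    exact ⟨hyK, hyC, hyne⟩
  have hhL : y ^ m ∈ A ⊔ A.map (MulAut.conj x).toMonoidHom := Subgroup.pow_mem _ hyL m
  have hle : A ⊔ A.map (MulAut.conj (y ^ m)).toMonoidHom ≤ A ⊔ A.map (MulAut.conj x).toMonoidHom := by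
    apply sup_le hAL
    rintro _ ⟨a, ha, rfl⟩
    simp only [MulEquiv.coe_toMonoidHom, MulAut.conj_apply]
    exact Subgroup.mul_mem _ (Subgroup.mul_mem _ hhL (hAL ha)) (Subgroup.inv_mem _ hhL)
  have heq : A ⊔ A.map (MulAut.conj (y ^ m)).toMonoidHom = A ⊔ A.map (MulAut.conj x).toMonoidHom :=
    Subgroup.eq_of_le_of_card_ge hle (hmin _ hhX)
  refine ⟨Bb, y ^ m, hBA, hBidx, hAbc, hAbp, ?_, ?_, ⟨a₀, ha₀, ?_⟩, hm2, ?_⟩
  · rw [hm1]; exact hyK
  · rw [hm1]; exact hyC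
  · rw [hm1]; exact hyne
  · rw [heq]; exact hhL

end Cfsg.Agent.helper19.KS
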