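import Mathlib
import Cfsg.Prelude.Def_LocalEven
import Cfsg.Agent.Lib_helper19_KS1

/-! The hyperplane lemma for `p`-soluble groups, the properties of `L = ⟨A, A^x⟩` (helper19). -/

set_option autoImplicit false
set_option linter.style.haveILetI false

namespace Cfsg.Agent.helper19.KS

open scoped commutatorElement

theorem ks_props {M : Type*} [Group M] [Finite M] {p : ℕ} [hp : Fact p.Prime]
    (A : Subgroup M) (hA : IsPGroup p A)
    (Bb : Subgroup (M ⧸ Cfsg.pCore p M)) (x : M)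
    (hBA : Bb ≤ A.map (QuotientGroup.mk' (Cfsg.pCore p M)))
    (hBidx : Bb.relIndex (A.map (QuotientGroup.mk' (Cfsg.pCore p M))) = p)
    (hAbc : ∀ a ∈ A, ∀ b ∈ A,
      QuotientGroup.mk' (Cfsg.pCore p M) a * QuotientGroup.mk' (Cfsg.pCore p M) b =
        QuotientGroup.mk' (Cfsg.pCore p M) b * QuotientGroup.mk' (Cfsg.pCore p M) a)
    (hAbp : ∀ a ∈ A, (QuotientGroup.mk' (Cfsg.pCore p M) a) ^ p = 1)
    (hxK : QuotientGroup.mk' (Cfsg.pCore p M) x ∈ Cfsg.pPrimeCore p (M ⧸ Cfsg.pCore p M))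
    (hxC : QuotientGroup.mk' (Cfsg.pCore p M) x ∈
      Subgroup.centralizer (Bb : Set (M ⧸ Cfsg.pCore p M)))
    (hxne : ∃ a₀ ∈ A, QuotientGroup.mk' (Cfsg.pCore p M) a₀ * QuotientGroup.mk' (Cfsg.pCore p M) x ≠
        QuotientGroup.mk' (Cfsg.pCore p M) x * QuotientGroup.mk' (Cfsg.pCore p M) a₀)
    (hxp : (orderOf x).Coprime p) (hxL : x ∈ A ⊔ A.map (MulAut.conj x).toMonoidHom) :
    x ∈ (Cfsg.pPrimeCore p (M ⧸ Cfsg.pCore p M)).comap (QuotientGroup.mk' (Cfsg.pCore p M)) ∧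
    x ∈ (Cfsg.pResidual p ↥(A ⊔ A.map (MulAut.conj x).toMonoidHom)).map
      (A ⊔ A.map (MulAut.conj x).toMonoidHom).subtype ∧
    (Cfsg.pResidual p ↥(A ⊔ A.map (MulAut.conj x).toMonoidHom)).map
      (A ⊔ A.map (MulAut.conj x).toMonoidHom).subtype ≤
      (Cfsg.pPrimeCore p (M ⧸ Cfsg.pCore p M)).comap (QuotientGroup.mk' (Cfsg.pCore p M)) ∧
    ⁅(Cfsg.pResidual p ↥(A ⊔ A.map (MulAut.conj x).toMonoidHom)).map
      (A ⊔ A.map (MulAut.conj x).toMonoidHom).subtype, A⁆ =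
      (Cfsg.pResidual p ↥(A ⊔ A.map (MulAut.conj x).toMonoidHom)).map
        (A ⊔ A.map (MulAut.conj x).toMonoidHom).subtype ∧
    (A ⊓ (Cfsg.pCore p ↥(A ⊔ A.map (MulAut.conj x).toMonoidHom)).map
      (A ⊔ A.map (MulAut.conj x).toMonoidHom).subtype).relIndex A = p ∧
    ⁅A ⊓ (Cfsg.pCore p ↥(A ⊔ A.map (MulAut.conj x).toMonoidHom)).map
      (A ⊔ A.map (MulAut.conj x).toMonoidHom).subtype,
      A ⊔ A.map (MulAut.conj x).toMonoidHom⁆ ≤ Cfsg.pCore p M := by
  obtain ⟨π, hπ⟩ : ∃ π : M →* M ⧸ Cfsg.pCore p M, π = QuotientGroup.mk' (Cfsg.pCore p M) :=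
    ⟨_, rfl⟩
  rw [← hπ] at hBA hBidx hAbc hAbp hxK hxC hxne ⊢
  have hπ1 : ∀ g : M, π g = 1 ↔ g ∈ Cfsg.pCore p M := by
    intro g; rw [hπ]; exact QuotientGroup.eq_one_iff g
  obtain ⟨K, hK⟩ : ∃ K : Subgroup (M ⧸ Cfsg.pCore p M),
    K = Cfsg.pPrimeCore p (M ⧸ Cfsg.pCore p M) := ⟨_, rfl⟩
  rw [← hK] at hxK ⊢
  have hKn : K.Normal := by rw [hK]; infer_instance
  obtain ⟨L, hL⟩ : ∃ L : Subgroup M, L = A ⊔ A.map (MulAut.conj x).toMonoidHom := ⟨_, rfl⟩
  rw [← hL] at hxL ⊢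
  have hAL : A ≤ L := by rw [hL]; exact le_sup_left
  have hAxL : ∀ a ∈ A, x * a * x⁻¹ ∈ L := fun a ha =>
    L.mul_mem (L.mul_mem hxL (hAL ha)) (L.inv_mem hxL)
  -- a criterion for `L ≤ T`
  have hLle : ∀ T : Subgroup M, A ≤ T → (∀ a ∈ A, x * a * x⁻¹ ∈ T) → L ≤ T := by
    intro T h1 h2
    rw [hL]
    apply sup_le h1
    rintro _ ⟨a, ha, rfl⟩
    simp only [MulEquiv.coe_toMonoidHom, MulAut.conj_apply]
    exact h2 a ha
  have hAC : ∀ a ∈ A, π a ∈ Subgroup.centralizer (Bb : Set (M ⧸ Cfsg.pCore p M)) := by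
    intro a ha
    rw [Subgroup.mem_centralizer_iff]
    intro b hb
    obtain ⟨b', hb', rfl⟩ := hBA hb
    exact hAbc b' hb' a ha
  have hπL : L ≤ (Subgroup.centralizer (Bb : Set (M ⧸ Cfsg.pCore p M))).comap π := by
    apply hLle
    · intro a ha; exact hAC a ha
    · intro a ha
      rw [Subgroup.mem_comap, map_mul, map_mul, map_inv]
      exact Subgroup.mul_mem _ (Subgroup.mul_mem _ hxC (hAC a ha)) (Subgroup.inv_mem _ hxC)
  have hπLK : L ≤ (A.map π ⊔ K).comap π := by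
    apply hLle
    · intro a ha
      exact (le_sup_left : A.map π ≤ A.map π ⊔ K) (Subgroup.mem_map_of_mem π ha)
    · intro a ha
      rw [Subgroup.mem_comap, map_mul, map_mul, map_inv]
      have h1 : π x ∈ A.map π ⊔ K := (le_sup_right : K ≤ A.map π ⊔ K) hxK
      have h2 : π a ∈ A.map π ⊔ K :=
        (le_sup_left : A.map π ≤ A.map π ⊔ K) (Subgroup.mem_map_of_mem π ha)
      exact Subgroup.mul_mem _ (Subgroup.mul_mem _ h1 h2) (Subgroup.inv_mem _ h1)
  have hAbP : IsPGroup p (A.map π) := hA.map π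
  obtain ⟨N₀, hN₀⟩ : ∃ N₀ : Subgroup M, N₀ = (Cfsg.pResidual p ↥L).map L.subtype := ⟨_, rfl⟩
  obtain ⟨OpL, hOpL⟩ : ∃ OpL : Subgroup M, OpL = (Cfsg.pCore p ↥L).map L.subtype := ⟨_, rfl⟩
  rw [← hN₀, ← hOpL]
  -- `p'`-elements of `L` lie in `N₀`; `N₀` is the least such
  have hN₀mem : ∀ g ∈ L, (orderOf g).Coprime p → g ∈ N₀ := by
    intro g hg hgp
    rw [hN₀]
    refine ⟨⟨g, hg⟩, Subgroup.subset_closure ?_, rfl⟩
    show (orderOf (⟨g, hg⟩ : ↥L)).Coprime p
    rw [Subgroup.orderOf_mk]; exact hgp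
  have hN₀le : ∀ T : Subgroup M, (∀ g ∈ L, (orderOf g).Coprime p → g ∈ T) → N₀ ≤ T := by
    intro T hT
    rw [hN₀, Subgroup.map_le_iff_le_comap]
    unfold Cfsg.pResidual
    rw [Subgroup.closure_le]
    intro g hg
    have hg' : (orderOf g).Coprime p := hg
    rw [← Subgroup.orderOf_coe] at hg'
    exact hT g g.2 hg'
  have hN₀L : N₀ ≤ L := by rw [hN₀]; exact Subgroup.map_subtype_le _
  have hN₀n : ∀ l ∈ L, ∀ z ∈ N₀, l * z * l⁻¹ ∈ N₀ := by
    intro l hl z hz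
    rw [hN₀] at hz ⊢
    obtain ⟨z', hz', rfl⟩ := hz
    have hn := Cfsg.Agent.helper10.pResidual_normal p ↥L
    exact ⟨⟨l, hl⟩ * z' * ⟨l, hl⟩⁻¹, hn.conj_mem z' hz' ⟨l, hl⟩, by simp⟩
  have hxN₀ : x ∈ N₀ := hN₀mem x hxL hxp
  refine ⟨hxK, hxN₀, ?_, ?_, ?_⟩
  · -- (ii)
    apply hN₀le
    intro g hg hgp
    rw [Subgroup.mem_comap]
    have h1 : π g ∈ A.map π ⊔ K := hπLK hg
    have h2 : (orderOf (π g)).Coprime p :=
      Nat.Coprime.coprime_dvd_left (orderOf_map_dvd π g) hgp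
    have h3 : A.map π ≤ Subgroup.normalizer (K : Set (M ⧸ Cfsg.pCore p M)) := by
      rw [Subgroup.normalizer_eq_top]; exact le_top
    exact mem_of_coprime_of_mem_sup (A.map π) K hAbP h3 (π g) h1 h2
  · -- (iii)
    apply le_antisymm
    · rw [Subgroup.commutator_le]
      intro n hn a ha
      have h1 := hN₀n a (hAL ha) n⁻¹ (N₀.inv_mem hn)
      have e : ⁅n, a⁆ = n * (a * n⁻¹ * a⁻¹) := by rw [commutatorElement_def]; group
      rw [e]
      exact N₀.mul_mem hn h1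
    · have hN₁A : A ≤ Subgroup.normalizer ((⁅N₀, A⁆ : Subgroup M) : Set M) := by
        rw [Subgroup.commutator_comm]
        exact Cfsg.Agent.lead.le_normalizer_commutator_left A N₀
      have hLN₁ : L ≤ A ⊔ ⁅N₀, A⁆ := by
        apply hLle _ le_sup_left
        intro a ha
        have e : x * a * x⁻¹ = ⁅x, a⁆ * a := by rw [commutatorElement_def]; group
        rw [e]
        exact Subgroup.mul_mem _
          ((le_sup_right : ⁅N₀, A⁆ ≤ A ⊔ ⁅N₀, A⁆) (Subgroup.commutator_mem_commutator hxN₀ ha))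
          ((le_sup_left : A ≤ A ⊔ ⁅N₀, A⁆) ha)
      apply hN₀le
      intro g hg hgp
      exact mem_of_coprime_of_mem_sup A ⁅N₀, A⁆ hA hN₁A g (hLN₁ hg) hgp
  · -- (iv) and (v)
    obtain ⟨B, hB⟩ : ∃ B : Subgroup M, B = A ⊓ Bb.comap π := ⟨_, rfl⟩
    have hBrel : B.relIndex A = p := by
      rw [hB, Subgroup.inf_relIndex_left, Subgroup.relIndex_comap, hBidx]
    -- a normal `p`-subgroup of `L`
    obtain ⟨P₀, hP₀⟩ : ∃ P₀ : Subgroup M, P₀ = L ⊓ Bb.comap π := ⟨_, rfl⟩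
    have hP₀n : (P₀.subgroupOf L).Normal := by
      constructor
      intro z hz l
      rw [Subgroup.mem_subgroupOf] at hz ⊢
      rw [hP₀] at hz ⊢
      refine ⟨(l * z * l⁻¹).2, ?_⟩
      have h1 : π (z : M) ∈ Bb := hz.2
      have h2 := hπL l.2
      rw [Subgroup.mem_comap, Subgroup.mem_centralizer_iff] at h2
      have h3 := h2 _ h1
      show π ((l * z * l⁻¹ : ↥L) : M) ∈ Bb
      have e : π ((l * z * l⁻¹ : ↥L) : M) = π (l : M) * π (z : M) * (π (l : M))⁻¹ := by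
        rw [Subgroup.coe_mul, Subgroup.coe_mul, Subgroup.coe_inv, map_mul, map_mul, map_inv]
      rw [e, ← h3]
      have e2 : π (z : M) * π (l : M) * (π (l : M))⁻¹ = π (z : M) := by group
      rw [e2]
      exact h1
    have hQp : IsPGroup p (Cfsg.pCore p M) := Cfsg.Agent.helper1.pCore_isPGroup p
    have hP₀p : IsPGroup p (P₀.subgroupOf L) := by
      rintro ⟨z, hz⟩
      rw [Subgroup.mem_subgroupOf, hP₀] at hz
      have h1 : π (z : M) ∈ Bb := hz.2
      obtain ⟨a, ha, hazz⟩ := hBA h1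
      have h2 : (π (z : M)) ^ p = 1 := by rw [← hazz]; exact hAbp a ha
      rw [← map_pow, hπ1] at h2
      obtain ⟨k, hk⟩ := hQp ⟨_, h2⟩
      have hk' : ((z : M) ^ p) ^ p ^ k = 1 := by
        have := congrArg Subtype.val hk
        rwa [Subgroup.coe_pow, Subgroup.coe_one] at this
      refine ⟨k + 1, ?_⟩
      apply Subtype.ext
      apply Subtype.ext
      rw [Subgroup.coe_pow, Subgroup.coe_pow, Subgroup.coe_one, Subgroup.coe_one, pow_succ',
        pow_mul]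
      exact hk'
    have hP₀le : P₀.subgroupOf L ≤ Cfsg.pCore p ↥L := Cfsg.Agent.helper1.le_pCore hP₀n hP₀p
    have hBOp : B ≤ A ⊓ OpL := by
      intro b hb
      rw [hB] at hb
      refine ⟨hb.1, ?_⟩
      rw [hOpL]
      refine ⟨⟨b, hAL hb.1⟩, hP₀le ?_, rfl⟩
      rw [Subgroup.mem_subgroupOf, hP₀]
      exact ⟨hAL hb.1, hb.2⟩
    have hAnot : ¬ A ≤ OpL := by
      intro hle
      have hOpn := Cfsg.Agent.helper1.pCore_normal (G := ↥L) p
      have h1 : L ≤ OpL := by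
        apply hLle _ hle
        intro a ha
        have h2 := hle ha
        rw [hOpL] at h2 ⊢
        obtain ⟨a', ha', haa⟩ := h2
        refine ⟨⟨x, hxL⟩ * a' * ⟨x, hxL⟩⁻¹, hOpn.conj_mem a' ha' _, ?_⟩
        simp only [Subgroup.coe_subtype, Subgroup.coe_mul, Subgroup.coe_inv]
        have : (a' : M) = a := haa
        rw [this]
      have h2 := h1 hxL
      rw [hOpL] at h2
      obtain ⟨x', hx', hxx⟩ := h2
      obtain ⟨k, hk⟩ := (Cfsg.Agent.helper1.pCore_isPGroup (G := ↥L) p) ⟨x', hx'⟩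
      have hk' : x ^ p ^ k = 1 := by
        have h3 := congrArg Subtype.val hk
        rw [Subgroup.coe_pow, Subgroup.coe_one] at h3
        have h4 := congrArg Subtype.val h3
        rw [Subgroup.coe_pow, Subgroup.coe_one] at h4
        have : (x' : M) = x := hxx
        rw [← this]
        exact h4
      have h3 : orderOf x ∣ p ^ k := orderOf_dvd_of_pow_eq_one hk'
      have h4 : orderOf x = 1 :=
        Nat.eq_one_of_dvd_coprimes (Nat.Coprime.pow_right k hxp) dvd_rfl h3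
      rw [orderOf_eq_one_iff] at h4
      obtain ⟨a₀, _, hne⟩ := hxne
      apply hne
      rw [h4, map_one, mul_one, one_mul]
    have hBK' : B ≤ A ⊓ OpL := hBOp
    have h1 := Subgroup.relIndex_mul_relIndex B (A ⊓ OpL) A hBK' inf_le_left
    rw [hBrel] at h1
    have h2 : (A ⊓ OpL).relIndex A = p := by
      have hd : (A ⊓ OpL).relIndex A ∣ p := ⟨_, by rw [← h1, mul_comm]⟩
      rcases (Nat.dvd_prime hp.out).1 hd with h | h
      · exfalso
        apply hAnot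
        have := Subgroup.relIndex_eq_one.1 h
        exact fun a ha => (this ha).2
      · exact h
    refine ⟨h2, ?_⟩
    have h3 : B.relIndex (A ⊓ OpL) = 1 := by
      rw [h2] at h1
      have hp0 : 0 < p := hp.out.pos
      have : B.relIndex (A ⊓ OpL) * p = 1 * p := by rw [h1, one_mul]
      exact Nat.eq_of_mul_eq_mul_right hp0 this
    have h4 : A ⊓ OpL ≤ B := Subgroup.relIndex_eq_one.1 h3
    rw [Subgroup.commutator_le]
    intro k hk l hl
    have hkB := h4 hk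
    rw [hB] at hkB
    have h5 : π k ∈ Bb := hkB.2
    have h6 := hπL hl
    rw [Subgroup.mem_comap, Subgroup.mem_centralizer_iff] at h6
    have h7 := h6 _ h5
    rw [← hπ1, map_commutatorElement, commutatorElement_eq_one_iff_mul_comm]
    exact h7

end Cfsg.Agent.helper19.KS
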