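import Mathlib
import Cfsg.Agent.Lib_helper15_CD

set_option autoImplicit false
open scoped Pointwise

namespace Cfsg.Agent.helper19

open Cfsg.Agent.helper15

variable {X : Type*} [Group X]

/-- The measure `m(A) = |A|^α · |C_H(A)|`. -/
noncomputable def msr (H : Subgroup X) (α : ℝ) (A : Subgroup X) : ℝ :=
  ((Nat.card A : ℝ) ^ α) * (Nat.card ↥(H ⊓ Subgroup.centralizer (A : Set X)) : ℝ)

theorem msr_pos [Finite X] (H : Subgroup X) (α : ℝ) (A : Subgroup X) : 0 < msr H α A := by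
  unfold msr
  have h1 : (0 : ℝ) < (Nat.card A : ℝ) := by exact_mod_cast Nat.card_pos
  have h2 : (0 : ℝ) < (Nat.card ↥(H ⊓ Subgroup.centralizer (A : Set X)) : ℝ) := by
    exact_mod_cast Nat.card_pos
  exact mul_pos (Real.rpow_pos_of_pos h1 α) h2

theorem measure_main [Finite X] (H : Subgroup X) (α : ℝ) (hα : 0 < α) (A B : Subgroup X)
    (M : ℝ) (hA : msr H α A = M) (hB : msr H α B = M) (hS : msr H α (A ⊔ B) ≤ M)
    (hI : msr H α (A ⊓ B) ≤ M) :
    msr H α (A ⊔ B) = M ∧ msr H α (A ⊓ B) = M ∧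
      ((A ⊔ B : Subgroup X) : Set X) = (A : Set X) * (B : Set X) ∧
      ((H ⊓ Subgroup.centralizer ((A ⊓ B : Subgroup X) : Set X) : Subgroup X) : Set X) =
        ((H ⊓ Subgroup.centralizer (A : Set X) : Subgroup X) : Set X) *
          ((H ⊓ Subgroup.centralizer (B : Set X) : Subgroup X) : Set X) := by
  set U := H ⊓ Subgroup.centralizer (A : Set X) with hU
  set W := H ⊓ Subgroup.centralizer (B : Set X) with hW
  set CS := H ⊓ Subgroup.centralizer ((A ⊔ B : Subgroup X) : Set X) with hCS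
  set CI := H ⊓ Subgroup.centralizer ((A ⊓ B : Subgroup X) : Set X) with hCI
  have hCSeq : CS = U ⊓ W := by
    rw [hCS, centralizer_sup_eq, hU, hW]
    ext x
    simp only [Subgroup.mem_inf]
    tauto
  have hUWle : U ⊔ W ≤ CI := by
    apply sup_le
    · exact inf_le_inf_left H (Subgroup.centralizer_le (SetLike.coe_subset_coe.2 inf_le_left))
    · exact inf_le_inf_left H (Subgroup.centralizer_le (SetLike.coe_subset_coe.2 inf_le_right))
  -- natural number inequalities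
  have hF1 : Nat.card A * Nat.card B ≤ Nat.card ↥(A ⊔ B) * Nat.card ↥(A ⊓ B) :=
    card_mul_card_le_sup_inf A B
  have hF2a : Nat.card U * Nat.card W ≤ Nat.card ↥(U ⊔ W) * Nat.card ↥(U ⊓ W) :=
    card_mul_card_le_sup_inf U W
  have hF2b : Nat.card ↥(U ⊔ W) ≤ Nat.card CI := Subgroup.card_le_of_le hUWle
  have hF2 : Nat.card U * Nat.card W ≤ Nat.card CS * Nat.card CI := by
    rw [hCSeq]
    calc Nat.card U * Nat.card W ≤ Nat.card ↥(U ⊔ W) * Nat.card ↥(U ⊓ W) := hF2a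
      _ ≤ Nat.card CI * Nat.card ↥(U ⊓ W) := Nat.mul_le_mul_right _ hF2b
      _ = _ := mul_comm _ _
  -- real versions
  set ra : ℝ := (Nat.card A : ℝ) with hra
  set rb : ℝ := (Nat.card B : ℝ) with hrb
  set rs : ℝ := (Nat.card ↥(A ⊔ B) : ℝ) with hrs
  set ri : ℝ := (Nat.card ↥(A ⊓ B) : ℝ) with hri
  set rU : ℝ := (Nat.card U : ℝ) with hrU
  set rW : ℝ := (Nat.card W : ℝ) with hrW
  set rS : ℝ := (Nat.card CS : ℝ) with hrS
  set rI : ℝ := (Nat.card CI : ℝ) with hrI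
  have pa : 0 < ra := by rw [hra]; exact_mod_cast Nat.card_pos
  have pb : 0 < rb := by rw [hrb]; exact_mod_cast Nat.card_pos
  have ps : 0 < rs := by rw [hrs]; exact_mod_cast Nat.card_pos
  have pi : 0 < ri := by rw [hri]; exact_mod_cast Nat.card_pos
  have pU : 0 < rU := by rw [hrU]; exact_mod_cast Nat.card_pos
  have pW : 0 < rW := by rw [hrW]; exact_mod_cast Nat.card_pos
  have pS : 0 < rS := by rw [hrS]; exact_mod_cast Nat.card_pos
  have pI : 0 < rI := by rw [hrI]; exact_mod_cast Nat.card_pos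
  have hF1R : ra * rb ≤ rs * ri := by
    rw [hra, hrb, hrs, hri]; exact_mod_cast hF1
  have hF2R : rU * rW ≤ rS * rI := by
    rw [hrU, hrW, hrS, hrI]; exact_mod_cast hF2
  have hpow : (ra * rb) ^ α ≤ (rs * ri) ^ α :=
    Real.rpow_le_rpow (mul_pos pa pb).le hF1R hα.le
  rw [Real.mul_rpow pa.le pb.le, Real.mul_rpow ps.le pi.le] at hpow
  have hmA : msr H α A = ra ^ α * rU := rfl
  have hmB : msr H α B = rb ^ α * rW := rfl
  have hmS : msr H α (A ⊔ B) = rs ^ α * rS := rfl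
  have hmI : msr H α (A ⊓ B) = ri ^ α * rI := rfl
  set P1 := ra ^ α * rb ^ α with hP1
  set P2 := rs ^ α * ri ^ α with hP2
  set Q1 := rU * rW with hQ1
  set Q2 := rS * rI with hQ2
  have pP1 : 0 < P1 := mul_pos (Real.rpow_pos_of_pos pa α) (Real.rpow_pos_of_pos pb α)
  have pP2 : 0 < P2 := mul_pos (Real.rpow_pos_of_pos ps α) (Real.rpow_pos_of_pos pi α)
  have pQ1 : 0 < Q1 := mul_pos pU pW
  have pQ2 : 0 < Q2 := mul_pos pS pI
  have pM : 0 < M := hA ▸ msr_pos H α A
  have hprod1 : M * M = P1 * Q1 := by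
    have : M * M = msr H α A * msr H α B := by rw [hA, hB]
    rw [this, hmA, hmB, hP1, hQ1]; ring
  have hprod2 : msr H α (A ⊔ B) * msr H α (A ⊓ B) = P2 * Q2 := by
    rw [hmS, hmI, hP2, hQ2]; ring
  have pmS : 0 < msr H α (A ⊔ B) := msr_pos H α _
  have pmI : 0 < msr H α (A ⊓ B) := msr_pos H α _
  have hle1 : P1 * Q1 ≤ P2 * Q2 := mul_le_mul hpow hF2R pQ1.le pP2.le
  have hle2 : P2 * Q2 ≤ M * M := by
    rw [← hprod2]
    exact mul_le_mul hS hI pmI.le pM.le
  have heq : P1 * Q1 = P2 * Q2 := le_antisymm hle1 (hprod1 ▸ hle2)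
  have hPeq : P1 = P2 := by
    by_contra hne
    have hlt : P1 < P2 := lt_of_le_of_ne hpow hne
    have : P1 * Q1 < P2 * Q2 := mul_lt_mul hlt hF2R pQ1 pP2.le
    exact this.ne heq
  have hQeq : Q1 = Q2 := by
    rw [hPeq] at heq
    exact mul_left_cancel₀ pP2.ne' heq
  have hSeq : msr H α (A ⊔ B) = M := by
    by_contra hne
    have hlt : msr H α (A ⊔ B) < M := lt_of_le_of_ne hS hne
    have : msr H α (A ⊔ B) * msr H α (A ⊓ B) < M * M := mul_lt_mul hlt hI pmI pM.le
    rw [hprod2, ← heq, ← hprod1] at this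
    exact lt_irrefl _ this
  have hIeq : msr H α (A ⊓ B) = M := by
    have h1 : msr H α (A ⊔ B) * msr H α (A ⊓ B) = M * M := by rw [hprod2, ← heq, hprod1]
    rw [hSeq] at h1
    exact mul_left_cancel₀ pM.ne' h1
  -- back to natural numbers
  have hnat1 : Nat.card A * Nat.card B = Nat.card ↥(A ⊔ B) * Nat.card ↥(A ⊓ B) := by
    have hreal : ra * rb = rs * ri := by
      by_contra hne
      have hlt : ra * rb < rs * ri := lt_of_le_of_ne hF1R hne
      have := Real.rpow_lt_rpow (mul_pos pa pb).le hlt hα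
      rw [Real.mul_rpow pa.le pb.le, Real.mul_rpow ps.le pi.le] at this
      exact this.ne hPeq
    rw [hra, hrb, hrs, hri] at hreal
    exact_mod_cast hreal
  have hnat2 : Nat.card U * Nat.card W = Nat.card CS * Nat.card CI := by
    have : rU * rW = rS * rI := hQeq
    rw [hrU, hrW, hrS, hrI] at this
    exact_mod_cast this
  refine ⟨hSeq, hIeq, sup_eq_mul_of_card_eq A B hnat1, ?_⟩
  -- the centralizer factorization
  have hcS0 : 0 < Nat.card ↥(U ⊓ W) := Nat.card_pos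
  have h3 : Nat.card U * Nat.card W = Nat.card ↥(U ⊔ W) * Nat.card ↥(U ⊓ W) := by
    apply le_antisymm hF2a
    rw [hnat2, hCSeq]
    calc Nat.card ↥(U ⊔ W) * Nat.card ↥(U ⊓ W) ≤ Nat.card CI * Nat.card ↥(U ⊓ W) :=
          Nat.mul_le_mul_right _ hF2b
      _ = _ := mul_comm _ _
  have h4 : Nat.card ↥(U ⊔ W) = Nat.card CI := by
    have : Nat.card ↥(U ⊔ W) * Nat.card ↥(U ⊓ W) = Nat.card CI * Nat.card ↥(U ⊓ W) := by
      rw [← h3, hnat2, hCSeq, mul_comm]
    exact Nat.eq_of_mul_eq_mul_right hcS0 this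
  have h5 : U ⊔ W = CI := Subgroup.eq_of_le_of_card_ge hUWle h4.ge
  rw [← h5]
  exact sup_eq_mul_of_card_eq U W h3

end Cfsg.Agent.helper19
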