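import Mathlib
import Cfsg.Agent.Lib_helper19_LCS
import Cfsg.Agent.Lib_helper19_Pairing
import Cfsg.Agent.Lib_helper17_MaxClass2
import Cfsg.Agent.Lib_helper7_NormalE2

set_option autoImplicit false

/-! Minimal non-`p`-exponent-closed `p`-groups: general lemmas. -/

namespace Cfsg.Agent.helper19

open scoped commutatorElement

theorem closed_of_subgroup {K : Type*} [Group K] {p : ℕ}
    (h : ∃ H : Subgroup K, (H : Set K) = {g : K | g ^ p = 1}) {a b : K}
    (ha : a ^ p = 1) (hb : b ^ p = 1) : (a * b) ^ p = 1 := by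
  obtain ⟨H, hH⟩ := h
  have ha' : a ∈ H := by rw [← SetLike.mem_coe, hH]; exact ha
  have hb' : b ∈ H := by rw [← SetLike.mem_coe, hH]; exact hb
  have hab := H.mul_mem ha' hb'
  rw [← SetLike.mem_coe, hH] at hab
  exact hab

theorem subgroup_of_closed {K : Type*} [Group K] {p : ℕ}
    (h : ∀ a b : K, a ^ p = 1 → b ^ p = 1 → (a * b) ^ p = 1) :
    ∃ H : Subgroup K, (H : Set K) = {g : K | g ^ p = 1} :=
  ⟨{ carrier := {g : K | g ^ p = 1}
     mul_mem' := fun {a b} ha hb => h a b ha hb
     one_mem' := one_pow p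
     inv_mem' := fun {a} ha => by
       show (a⁻¹) ^ p = 1
       rw [inv_pow, show a ^ p = 1 from ha, inv_one] }, rfl⟩

variable {G : Type*} [Group G]

theorem card_mul_le_of_lt [Finite G] {p : ℕ} [hp : Fact p.Prime] (hG : IsPGroup p G)
    {H K : Subgroup G} (hlt : H < K) : p * Nat.card H ≤ Nat.card K := by
  have h1 := card_mul_relIndex_of_le hlt.le
  have hK : IsPGroup p K := hG.to_subgroup K
  obtain ⟨n, hn⟩ := (IsPGroup.iff_card.1 hK)
  have hdvd : H.relIndex K ∣ p ^ n := hn ▸ Dvd.intro_left _ h1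
  obtain ⟨m, _, hm⟩ := (Nat.dvd_prime_pow hp.out).1 hdvd
  have hm0 : m ≠ 0 := by
    rintro rfl
    rw [pow_zero] at hm
    rw [hm, mul_one] at h1
    exact hlt.ne (Subgroup.eq_of_le_of_card_ge hlt.le h1.symm.le)
  have hpm : p ≤ H.relIndex K := by
    rw [hm]
    calc p = p ^ 1 := (pow_one p).symm
      _ ≤ p ^ m := Nat.pow_le_pow_right hp.out.pos (Nat.one_le_iff_ne_zero.2 hm0)
  calc p * Nat.card H = Nat.card H * p := mul_comm _ _
    _ ≤ Nat.card H * H.relIndex K := Nat.mul_le_mul_left _ hpm
    _ = Nat.card K := h1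

theorem lcs_card_bound [Finite G] {p : ℕ} [hp : Fact p.Prime] (hG : IsPGroup p G) :
    ∀ i : ℕ, 1 ≤ i → (⊤ : Subgroup G).lowerCentralSeries i ≠ ⊥ →
      p ^ (i + 1) * Nat.card ((⊤ : Subgroup G).lowerCentralSeries i) ≤ Nat.card G := by
  have : Group.IsNilpotent G := hG.isNilpotent
  intro i hi
  induction i, hi using Nat.le_induction with
  | base =>
    intro hne
    rw [Subgroup.top_lowerCentralSeries_one] at hne ⊢
    have hnc := Cfsg.Agent.helper17.MC2.not_isCyclic_abelianization hG hne
    have h1 := Subgroup.card_mul_index (commutator G)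
    have hQ : IsPGroup p (G ⧸ commutator G) := hG.to_quotient _
    obtain ⟨n, hn⟩ := IsPGroup.iff_card.1 hQ
    rw [Subgroup.index_eq_card, hn] at h1
    have hn2 : 2 ≤ n := by
      by_contra hlt
      push Not at hlt
      apply hnc
      interval_cases n
      · rw [pow_zero] at hn
        have : Subsingleton (G ⧸ commutator G) := (Nat.card_eq_one_iff_unique.1 hn).1
        exact isCyclic_of_subsingleton
      · rw [pow_one] at hn
        exact isCyclic_of_prime_card hn
    calc p ^ (1 + 1) * Nat.card (commutator G) ≤ p ^ n * Nat.card (commutator G) :=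
          Nat.mul_le_mul_right _ (Nat.pow_le_pow_right hp.out.pos hn2)
      _ = Nat.card (commutator G) * p ^ n := mul_comm _ _
      _ = Nat.card G := h1
  | succ i hi ih =>
    intro hne
    have hne' : (⊤ : Subgroup G).lowerCentralSeries i ≠ ⊥ := by
      intro h0
      apply hne
      exact le_bot_iff.1 (h0 ▸ Subgroup.lowerCentralSeries_antitone _ (Nat.le_succ i))
    have hlt : (⊤ : Subgroup G).lowerCentralSeries (i + 1)
        < (⊤ : Subgroup G).lowerCentralSeries i := by
      refine lt_of_le_of_ne (Subgroup.lowerCentralSeries_antitone _ (Nat.le_succ i)) ?_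
      intro heq
      apply hne'
      have h2 : (⊤ : Subgroup G).lowerCentralSeries i ≤ ⊥ := by
        apply le_of_le_comm_sup
        rw [← Subgroup.lowerCentralSeries_succ, heq]
        exact le_sup_left
      exact le_bot_iff.1 h2
    have h3 := card_mul_le_of_lt hG hlt
    have h4 := ih hne'
    calc p ^ (i + 1 + 1) * Nat.card ((⊤ : Subgroup G).lowerCentralSeries (i + 1))
        = p ^ (i + 1) * (p * Nat.card ((⊤ : Subgroup G).lowerCentralSeries (i + 1))) := by ring
      _ ≤ p ^ (i + 1) * Nat.card ((⊤ : Subgroup G).lowerCentralSeries i) :=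
          Nat.mul_le_mul_left _ h3
      _ ≤ Nat.card G := h4

/-- A `p`-group of class at least `p` has order at least `p^(p+1)`. -/
theorem card_ge_of_class_ge [Finite G] {p : ℕ} [hp : Fact p.Prime] (hG : IsPGroup p G)
    (hcl : (⊤ : Subgroup G).lowerCentralSeries (p - 1) ≠ ⊥) : p ^ (p + 1) ≤ Nat.card G := by
  have hp2 := hp.out.two_le
  have h1 := lcs_card_bound hG (p - 1) (by omega) hcl
  have h2 := card_mul_le_of_lt hG (bot_lt_iff_ne_bot.2 hcl)
  rw [Subgroup.card_bot, mul_one] at h2
  have e : p - 1 + 1 = p := by omega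
  rw [e] at h1
  calc p ^ (p + 1) = p ^ p * p := pow_succ p p
    _ ≤ p ^ p * Nat.card ((⊤ : Subgroup G).lowerCentralSeries (p - 1)) :=
        Nat.mul_le_mul_left _ h2
    _ ≤ Nat.card G := h1

end Cfsg.Agent.helper19
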