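import Mathlib
import Cfsg.Prelude.Def_Transfer
import Cfsg.Prelude.Def_LocalStructure
import Cfsg.Agent.Lib_helper19_HH0
import Cfsg.Agent.Lib_helper19_NPC
import Cfsg.Agent.Lib_helper19_PGroup
import Cfsg.Agent.Lib_helper19_IrrCard

set_option autoImplicit false
set_option linter.style.haveILetI false

namespace Cfsg.Agent.helper19

open scoped commutatorElement

variable {G : Type*} [Group G]

/-- `A` of prime index together with any outside element generates `G`. -/
theorem sup_zpowers_eq_top [Finite G] {p : ℕ} (hp : p.Prime) (A : Subgroup G)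
    (hidx : A.index = p) {x : G} (hx : x ∉ A) : A ⊔ Subgroup.zpowers x = ⊤ := by
  apply eq_top_of_lt_of_index_prime hp hidx
  refine lt_of_le_of_ne le_sup_left ?_
  intro h
  apply hx
  rw [h]
  exact Subgroup.mem_sup_right (Subgroup.mem_zpowers x)

/-- If `x ∉ A` commutes with the abelian subgroup `A` of prime index then `G` is abelian. -/
theorem comm_of_centralizes [Finite G] {p : ℕ} (hp : p.Prime) (A : Subgroup G)
    (hidx : A.index = p) (hAc : ∀ a ∈ A, ∀ b ∈ A, a * b = b * a) {x : G} (hx : x ∉ A)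
    (hxA : ∀ a ∈ A, x * a = a * x) : ∀ g h : G, g * h = h * g := by
  have hsup := sup_zpowers_eq_top hp A hidx hx
  -- x is central
  have hxc : x ∈ Subgroup.center G := by
    have h1 : A ⊔ Subgroup.zpowers x ≤ Subgroup.centralizer ({x} : Set G) := by
      apply sup_le
      · intro a ha
        rw [Subgroup.mem_centralizer_iff]
        intro y hy
        rw [Set.mem_singleton_iff] at hy
        rw [hy]; exact hxA a ha
      · rw [Subgroup.zpowers_le, Subgroup.mem_centralizer_iff]
        intro y hy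
        rw [Set.mem_singleton_iff] at hy
        rw [hy]
    rw [hsup] at h1
    rw [Subgroup.mem_center_iff]
    intro g
    have := Subgroup.mem_centralizer_iff.1 (h1 (Subgroup.mem_top g)) x (Set.mem_singleton x)
    exact this.symm
  have hAc' : A ≤ Subgroup.center G := by
    intro a ha
    have h1 : A ⊔ Subgroup.zpowers x ≤ Subgroup.centralizer ({a} : Set G) := by
      apply sup_le
      · intro b hb
        rw [Subgroup.mem_centralizer_iff]
        intro y hy
        rw [Set.mem_singleton_iff] at hy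
        rw [hy]; exact hAc a ha b hb
      · rw [Subgroup.zpowers_le, Subgroup.mem_centralizer_iff]
        intro y hy
        rw [Set.mem_singleton_iff] at hy
        rw [hy]; exact (hxA a ha).symm
    rw [hsup] at h1
    rw [Subgroup.mem_center_iff]
    intro g
    have := Subgroup.mem_centralizer_iff.1 (h1 (Subgroup.mem_top g)) a (Set.mem_singleton a)
    exact this.symm
  have htop : Subgroup.center G = ⊤ := by
    rw [eq_top_iff, ← hsup]
    apply sup_le hAc'
    rw [Subgroup.zpowers_le]; exact hxc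
  intro g h
  have : h ∈ Subgroup.center G := by rw [htop]; trivial
  exact Subgroup.mem_center_iff.1 this g

/-- An `x`-invariant subgroup of the abelian normal subgroup `A` of prime index is normal. -/
theorem normal_of_invariant [Finite G] {p : ℕ} (hp : p.Prime) (A : Subgroup G)
    (hidx : A.index = p) (hAc : ∀ a ∈ A, ∀ b ∈ A, a * b = b * a) {x : G} (hx : x ∉ A)
    (B : Subgroup G) (hBA : B ≤ A) (hxB : ∀ b ∈ B, x * b * x⁻¹ ∈ B) : B.Normal := by
  have hsup := sup_zpowers_eq_top hp A hidx hx
  have hpow : ∀ k : ℕ, ∀ b ∈ B, x ^ k * b * (x ^ k)⁻¹ ∈ B := by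
    intro k
    induction k with
    | zero => intro b hb; simpa using hb
    | succ k ih =>
      intro b hb
      have := hxB _ (ih b hb)
      have e : x ^ (k + 1) * b * (x ^ (k + 1))⁻¹ = x * (x ^ k * b * (x ^ k)⁻¹) * x⁻¹ := by
        rw [pow_succ']; group
      rw [e]; exact this
  have h1 : Subgroup.zpowers x ≤ Subgroup.normalizer (B : Set G) := by
    apply le_normalizer_of_conj_mem
    intro y hy b hb
    have hfin : IsOfFinOrder x := isOfFinOrder_of_finite x
    obtain ⟨k, rfl⟩ := (Submonoid.mem_powers_iff _ _).1 ((hfin.mem_powers_iff_mem_zpowers).2 hy)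
    exact hpow k b hb
  have h2 : A ≤ Subgroup.normalizer (B : Set G) := by
    apply le_normalizer_of_conj_mem
    intro a ha b hb
    have := hAc a ha b (hBA hb)
    have e : a * b * a⁻¹ = b := by rw [this]; group
    rw [e]; exact hb
  have h3 : Subgroup.normalizer (B : Set G) = ⊤ := by
    rw [eq_top_iff, ← hsup]
    exact sup_le h2 h1
  exact Subgroup.normalizer_eq_top_iff.1 h3


theorem card_eq_pow_orderOf [Finite G] {p q : ℕ} [hpf : Fact p.Prime] (hq : q.Prime) (hpq : q ≠ p)
    (hna : ¬ IsMulCommutative G) (A : Subgroup G) [hAn : A.Normal]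
    (hA : Cfsg.IsElementaryAbelian q A) (hidx : A.index = p)
    (hmin : ∀ B : Subgroup G, B.Normal → B ≤ A → B = ⊥ ∨ B = A) :
    Nat.card ↥A = q ^ orderOf (q : ZMod p) := by
  classical
  have hp := hpf.out
  haveI : Fact q.Prime := ⟨hq⟩
  have hAc : ∀ a ∈ A, ∀ b ∈ A, a * b = b * a := fun a ha b hb =>
    congrArg Subtype.val (hA.1.is_comm.comm ⟨a, ha⟩ ⟨b, hb⟩)
  have hnc : ¬ ∀ g h : G, g * h = h * g := fun h => hna ⟨⟨h⟩⟩
  obtain ⟨x, hx⟩ : ∃ x : G, x ∉ A := by
    by_contra hall
    push Not at hall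
    have : A = ⊤ := eq_top_iff.2 (fun g _ => hall g)
    rw [this, Subgroup.index_top] at hidx
    exact hp.one_lt.ne hidx
  have hxN : x ∈ Subgroup.normalizer (A : Set G) := by
    rw [Subgroup.normalizer_eq_top_iff.2 hAn]; trivial
  have hcent_contra : (∀ a ∈ A, x * a = a * x) → False := fun h =>
    hnc (comm_of_centralizes hp A hidx hAc hx h)
  have hAne : A ≠ ⊥ := by
    intro h
    apply hcent_contra
    intro a ha
    rw [h, Subgroup.mem_bot] at ha
    rw [ha]; simp
  letI instA : CommGroup ↥A :=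
    { (inferInstance : Group ↥A) with mul_comm := fun a b => Subtype.ext (hAc a a.2 b b.2) }
  set c : ↥A →* ↥A := conjP A x hxN with hc
  have hcval : ∀ a : ↥A, ((c a : ↥A) : G) = x * a * x⁻¹ := fun a => rfl
  let ξ : AddMonoid.End (Additive ↥A) :=
    { toFun := fun v => Additive.ofMul (c (Additive.toMul v))
      map_zero' := by
        show Additive.ofMul (c 1) = 0
        rw [map_one]; rfl
      map_add' := by
        intro v w
        show Additive.ofMul (c (Additive.toMul v * Additive.toMul w)) = _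
        rw [map_mul]; rfl }
  have hξapply : ∀ a : ↥A, ξ (Additive.ofMul a) = Additive.ofMul (c a) := fun _ => rfl
  have hξpow : ∀ (k : ℕ) (a : ↥A),
      ((Additive.toMul ((ξ ^ k) (Additive.ofMul a)) : ↥A) : G) = x ^ k * a * (x ^ k)⁻¹ := by
    intro k
    induction k with
    | zero => intro a; simp
    | succ k ih =>
      intro a
      rw [pow_succ', AddMonoid.End.coe_mul, Function.comp_apply]
      have h1 : (ξ ^ k) (Additive.ofMul a) =
          Additive.ofMul (Additive.toMul ((ξ ^ k) (Additive.ofMul a))) := rfl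
      rw [h1, hξapply]
      show ((c (Additive.toMul ((ξ ^ k) (Additive.ofMul a))) : ↥A) : G) = _
      rw [hcval, ih a, pow_succ']
      group
  -- x ^ p ∈ A
  have hxpA : x ^ p ∈ A := by
    have hcard : Nat.card (G ⧸ A) = p := by rw [← Subgroup.index_eq_card, hidx]
    have : (QuotientGroup.mk x : G ⧸ A) ^ p = 1 := by
      rw [← hcard]; exact pow_card_eq_one'
    rw [← QuotientGroup.mk_pow] at this
    exact (QuotientGroup.eq_one_iff _).1 this
  have hξp : ξ ^ p = 1 := by
    apply DFunLike.ext
    intro v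
    have hv : v = Additive.ofMul (Additive.toMul v) := rfl
    rw [hv]
    apply Additive.toMul.injective
    apply Subtype.ext
    rw [hξpow]
    rw [AddMonoid.End.coe_one]
    have := hAc _ hxpA _ (Additive.toMul v).2
    show x ^ p * (Additive.toMul v : ↥A) * (x ^ p)⁻¹ = (Additive.toMul v : ↥A)
    rw [this]; group
  set e := orderOf (q : ZMod p) with he_def
  have hqne : (q : ZMod p) ≠ 0 := by
    intro h
    rw [ZMod.natCast_eq_zero_iff] at h
    exact hpq ((Nat.prime_dvd_prime_iff_eq hp hq).1 h).symm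
  have he : e ≠ 0 := by
    have h1 : (q : ZMod p) ^ (p - 1) = 1 := ZMod.pow_card_sub_one_eq_one hqne
    have hpos : 0 < p - 1 := by have := hp.two_le; omega
    exact (orderOf_pos_iff.2 (isOfFinOrder_iff_pow_eq_one.2 ⟨p - 1, hpos, h1⟩)).ne'
  have hqe : q ^ e ≡ 1 [MOD p] := by
    have h1 : (q : ZMod p) ^ e = 1 := pow_orderOf_eq_one _
    apply (ZMod.natCast_eq_natCast_iff _ _ _).1
    push_cast
    exact h1
  have hξqe : ξ ^ q ^ e = ξ := by
    have h1le : 1 ≤ q ^ e := Nat.one_le_pow _ _ hq.pos
    obtain ⟨m, hm⟩ := (Nat.modEq_iff_dvd' h1le).1 hqe.symm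
    have : q ^ e = 1 + p * m := by omega
    rw [this, pow_add, pow_one, pow_mul, hξp, one_pow, mul_one]
  -- irreducibility
  have hirr : ∀ W : AddSubgroup (Additive ↥A), (∀ w ∈ W, ξ w ∈ W) → W = ⊥ ∨ W = ⊤ := by
    intro W hW
    let B : Subgroup G :=
      { carrier := {g | ∃ hg : g ∈ A, Additive.ofMul (⟨g, hg⟩ : ↥A) ∈ W}
        one_mem' := ⟨A.one_mem, W.zero_mem⟩
        mul_mem' := by
          rintro g h ⟨hg, hgW⟩ ⟨hh, hhW⟩
          exact ⟨A.mul_mem hg hh, W.add_mem hgW hhW⟩
        inv_mem' := by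
          rintro g ⟨hg, hgW⟩
          exact ⟨A.inv_mem hg, W.neg_mem hgW⟩ }
    have hBA : B ≤ A := fun g hg => hg.1
    have hxB : ∀ b ∈ B, x * b * x⁻¹ ∈ B := by
      rintro b ⟨hb, hbW⟩
      have := hW _ hbW
      rw [hξapply] at this
      exact ⟨(c ⟨b, hb⟩).2, this⟩
    have hBn := normal_of_invariant hp A hidx hAc hx B hBA hxB
    rcases hmin B hBn hBA with hB | hB
    · left
      rw [eq_bot_iff]
      intro w hw
      have hmem : ((Additive.toMul w : ↥A) : G) ∈ B := ⟨(Additive.toMul w).2, hw⟩
      rw [hB, Subgroup.mem_bot] at hmem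
      rw [AddSubgroup.mem_bot]
      have h1 : (Additive.toMul w : ↥A) = 1 := Subtype.ext hmem
      have : w = Additive.ofMul (Additive.toMul w) := rfl
      rw [this, h1]; rfl
    · right
      rw [eq_top_iff]
      intro w _
      have hmem : ((Additive.toMul w : ↥A) : G) ∈ B := by rw [hB]; exact (Additive.toMul w).2
      obtain ⟨_, hw⟩ := hmem
      exact hw
  have hqV : ∀ v : Additive ↥A, q • v = 0 := by
    intro v
    have hv : v = Additive.ofMul (Additive.toMul v) := rfl
    rw [hv, ← ofMul_pow]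
    have : (Additive.toMul v : ↥A) ^ q = 1 := by
      apply Subtype.ext
      rw [Subgroup.coe_pow]
      exact hA.2 _ (Additive.toMul v).2
    rw [this]; rfl
  haveI : Nontrivial (Additive ↥A) := by
    obtain ⟨a, ha1⟩ := (Subgroup.ne_bot_iff_exists_ne_one).1 hAne
    refine ⟨⟨Additive.ofMul a, 0, ?_⟩⟩
    intro h
    apply ha1
    exact h
  haveI : Finite (Additive ↥A) := Finite.of_equiv ↥A Additive.ofMul
  have hle : Nat.card (Additive ↥A) ≤ q ^ e := card_le_of_irreducible ξ hirr q e he hqV hξqe
  have hcardV : Nat.card (Additive ↥A) = Nat.card ↥A := Nat.card_congr Additive.toMul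
  rw [hcardV] at hle
  -- lower bound
  have hAp : IsPGroup q ↥A := by
    intro a
    refine ⟨1, ?_⟩
    apply Subtype.ext
    rw [pow_one, Subgroup.coe_pow]
    exact hA.2 _ a.2
  obtain ⟨k, hk⟩ := hAp.exists_card_eq
  have hk0 : k ≠ 0 := by
    rintro rfl
    rw [pow_zero] at hk
    exact hAne (Subgroup.card_eq_one.1 hk)
  haveI : Fintype ↥A := Fintype.ofFinite _
  set σ : Equiv.Perm ↥A := (conjPEquiv A x hxN).toEquiv with hσ
  have hσapply : ∀ a : ↥A, ((σ a : ↥A) : G) = x * a * x⁻¹ := fun a => rfl
  have hσpow : ∀ (k : ℕ) (a : ↥A), (((σ ^ k) a : ↥A) : G) = x ^ k * a * (x ^ k)⁻¹ := by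
    intro k
    induction k with
    | zero => intro a; simp
    | succ k ih =>
      intro a
      rw [pow_succ', Equiv.Perm.mul_apply, hσapply, ih a, pow_succ']
      group
  have hσp : σ ^ p ^ 1 = 1 := by
    rw [pow_one]
    ext a
    rw [hσpow, Equiv.Perm.one_apply]
    have := hAc _ hxpA _ a.2
    rw [this]; group
  have hmod := Equiv.Perm.card_compl_support_modEq hσp
  have hfix : σ.supportᶜ = {1} := by
    ext a
    rw [Finset.mem_compl, Equiv.Perm.mem_support, not_not, Finset.mem_singleton]
    constructor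
    · intro ha
      by_contra ha1
      -- the fixed subgroup
      let B : Subgroup G :=
        { carrier := {g | g ∈ A ∧ x * g * x⁻¹ = g}
          one_mem' := ⟨A.one_mem, by simp⟩
          mul_mem' := by
            rintro g h ⟨hg, hg'⟩ ⟨hh, hh'⟩
            refine ⟨A.mul_mem hg hh, ?_⟩
            calc x * (g * h) * x⁻¹ = (x * g * x⁻¹) * (x * h * x⁻¹) := by group
              _ = g * h := by rw [hg', hh']
          inv_mem' := by
            rintro g ⟨hg, hg'⟩
            refine ⟨A.inv_mem hg, ?_⟩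
            calc x * g⁻¹ * x⁻¹ = (x * g * x⁻¹)⁻¹ := by group
              _ = g⁻¹ := by rw [hg'] }
      have hBA : B ≤ A := fun g hg => hg.1
      have hxB : ∀ b ∈ B, x * b * x⁻¹ ∈ B := by
        rintro b ⟨hb, hb'⟩
        rw [hb']; exact ⟨hb, hb'⟩
      have hBn := normal_of_invariant hp A hidx hAc hx B hBA hxB
      have haB : (a : G) ∈ B := ⟨a.2, by
        have := congrArg Subtype.val ha
        rw [hσapply] at this
        exact this⟩
      rcases hmin B hBn hBA with hB | hB
      · rw [hB, Subgroup.mem_bot] at haB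
        exact ha1 (Subtype.ext haB)
      · apply hcent_contra
        intro b hb
        have : b ∈ B := by rw [hB]; exact hb
        have h2 := this.2
        calc x * b = (x * b * x⁻¹) * x := by group
          _ = b * x := by rw [h2]
    · rintro rfl
      apply Subtype.ext
      rw [hσapply]
      simp
  rw [hfix, Finset.card_singleton] at hmod
  have hkmod : (q : ZMod p) ^ k = 1 := by
    have h1 : Fintype.card ↥A = q ^ k := by rw [← Nat.card_eq_fintype_card]; exact hk
    rw [h1] at hmod
    have := (ZMod.natCast_eq_natCast_iff _ _ _).2 hmod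
    push_cast at this
    exact this.symm
  have hek : e ∣ k := orderOf_dvd_of_pow_eq_one hkmod
  have hek' : e ≤ k := Nat.le_of_dvd (Nat.pos_of_ne_zero hk0) hek
  have hke : k ≤ e := by
    rw [hk] at hle
    exact (Nat.pow_le_pow_iff_right hq.one_lt).1 hle
  rw [hk, le_antisymm hke hek']


/-- In a `p`-group the Sylow `p`-subgroup is everything, hence normal. -/
theorem sylow_normal_of_isPGroup {H : Type*} [Group H] {p : ℕ} (h : IsPGroup p H)
    (S : Sylow p H) : (S : Subgroup H).Normal := by
  have htop : IsPGroup p (⊤ : Subgroup H) := h.to_subgroup ⊤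
  have : (⊤ : Subgroup H) = S := S.is_maximal' htop le_top
  rw [← this]
  infer_instance

/-- A group whose order divides the prime `p` is a `p`-group. -/
theorem isPGroup_of_card_dvd_prime {H : Type*} [Group H] [Finite H] {p : ℕ} [hp : Fact p.Prime]
    (h : Nat.card H ∣ p) : IsPGroup p H := by
  rcases (Nat.dvd_prime hp.out).1 h with h1 | h1
  · exact IsPGroup.of_card (n := 0) (by rw [h1, pow_zero])
  · exact IsPGroup.of_card (n := 1) (by rw [h1, pow_one])

/-- Two normal subgroups with trivial intersection commute elementwise. -/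
theorem commute_of_normal_inf_bot (N A : Subgroup G) [hN : N.Normal] [hA : A.Normal]
    (h : N ⊓ A = ⊥) {x a : G} (hx : x ∈ N) (ha : a ∈ A) : x * a = a * x := by
  have h1 : x * a * x⁻¹ * a⁻¹ ∈ N ⊓ A := by
    refine ⟨?_, ?_⟩
    · have : x * a * x⁻¹ * a⁻¹ = x * (a * x⁻¹ * a⁻¹) := by group
      rw [this]
      exact N.mul_mem hx (hN.conj_mem _ (N.inv_mem hx) a)
    · exact A.mul_mem (hA.conj_mem a ha x) (A.inv_mem ha)
  rw [h, Subgroup.mem_bot] at h1
  calc x * a = (x * a * x⁻¹ * a⁻¹) * (a * x) := by group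
    _ = a * x := by rw [h1, one_mul]

theorem minNPC_main [Finite G] {p q : ℕ} [hpf : Fact p.Prime] (hq : q.Prime) (hpq : q ≠ p)
    (hna : ¬ IsMulCommutative G) (A : Subgroup G) [hAn : A.Normal]
    (hA : Cfsg.IsElementaryAbelian q A) (hidx : A.index = p)
    (hmin : ∀ B : Subgroup G, B.Normal → B ≤ A → B = ⊥ ∨ B = A) :
    ¬ Cfsg.IsPClosed p G ∧ (∀ H : Subgroup G, H ≠ ⊤ → Cfsg.IsPClosed p ↥H) ∧
      ∀ (N : Subgroup G) [N.Normal], N ≠ ⊥ → Cfsg.IsPClosed p (G ⧸ N) := by
  classical
  have hp := hpf.out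
  haveI : Fact q.Prime := ⟨hq⟩
  have hAc : ∀ a ∈ A, ∀ b ∈ A, a * b = b * a := fun a ha b hb =>
    congrArg Subtype.val (hA.1.is_comm.comm ⟨a, ha⟩ ⟨b, hb⟩)
  have hnc : ¬ ∀ g h : G, g * h = h * g := fun h => hna ⟨⟨h⟩⟩
  have hcent_contra : ∀ x : G, x ∉ A → (∀ a ∈ A, x * a = a * x) → False := fun x hx h =>
    hnc (comm_of_centralizes hp A hidx hAc hx h)
  have hAp : IsPGroup q ↥A := by
    intro a
    refine ⟨1, ?_⟩
    apply Subtype.ext
    rw [pow_one, Subgroup.coe_pow]
    exact hA.2 _ a.2
  -- a nontrivial normal subgroup meeting A trivially is impossible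
  have hnormal_contra : ∀ (N : Subgroup G), N.Normal → N ≠ ⊥ → N ⊓ A = ⊥ → False := by
    intro N hN hN1 hNA
    obtain ⟨x, hx1⟩ := (Subgroup.ne_bot_iff_exists_ne_one).1 hN1
    have hxA : (x : G) ∉ A := by
      intro h
      have : (x : G) ∈ N ⊓ A := ⟨x.2, h⟩
      rw [hNA, Subgroup.mem_bot] at this
      exact hx1 (Subtype.ext this)
    exact hcent_contra x hxA (fun a ha => commute_of_normal_inf_bot N A hNA x.2 ha)
  refine ⟨?_, ?_, ?_⟩
  · intro hcl
    obtain ⟨P⟩ := (inferInstance : Nonempty (Sylow p G))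
    have hPn : (P : Subgroup G).Normal := hcl P
    have hPA : (P : Subgroup G) ⊓ A = ⊥ :=
      disjoint_iff.1 (IsPGroup.disjoint_of_ne p q hpq.symm _ _ P.2 hAp)
    have hpdvd : p ∣ Nat.card G := by
      rw [← Subgroup.card_mul_index A, hidx]
      exact Dvd.intro_left _ rfl
    have hP1 : (P : Subgroup G) ≠ ⊥ := Sylow.ne_bot_of_dvd_card P hpdvd
    exact hnormal_contra P hPn hP1 hPA
  · intro H hH S
    by_cases hHA : H ≤ A
    · -- H is a q-group
      have hHq : IsPGroup q ↥H := hAp.to_le hHA
      have hSbot : (S : Subgroup ↥H) = ⊥ := by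
        have hd := IsPGroup.disjoint_of_ne p q hpq.symm (S : Subgroup ↥H) ⊤ S.2 (hHq.to_subgroup ⊤)
        rw [disjoint_iff, inf_top_eq] at hd
        exact hd
      rw [hSbot]
      infer_instance
    · obtain ⟨x, hxH, hxA⟩ : ∃ x ∈ H, x ∉ A := by
        by_contra hcon
        push Not at hcon
        exact hHA hcon
      have hBn : (H ⊓ A).Normal := by
        apply normal_of_invariant hp A hidx hAc hxA (H ⊓ A) inf_le_right
        rintro b ⟨hbH, hbA⟩
        exact ⟨H.mul_mem (H.mul_mem hxH hbH) (H.inv_mem hxH), hAn.conj_mem b hbA x⟩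
      rcases hmin (H ⊓ A) hBn inf_le_right with hB | hB
      · have hdisj : Disjoint A H := by rw [disjoint_iff, inf_comm]; exact hB
        have hbot : A.subgroupOf H = ⊥ := Subgroup.subgroupOf_eq_bot.2 hdisj
        have hdvd : Nat.card ↥H ∣ p := by
          have h1 := Subgroup.relIndex_dvd_index_of_normal A H
          rw [hidx] at h1
          have h2 : A.relIndex H = Nat.card ↥H := by
            show (A.subgroupOf H).index = _
            rw [hbot, Subgroup.index_bot]
          rwa [h2] at h1
        exact sylow_normal_of_isPGroup (isPGroup_of_card_dvd_prime hdvd) S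
      · exfalso
        apply hH
        rw [eq_top_iff, ← sup_zpowers_eq_top hp A hidx hxA]
        apply sup_le
        · rw [← hB]; exact inf_le_left
        · rw [Subgroup.zpowers_le]; exact hxH
  · intro N hN hN1 S
    rcases hmin (N ⊓ A) inferInstance inf_le_right with hB | hB
    · exact absurd hB (fun h => hnormal_contra N hN hN1 h)
    · have hAN : A ≤ N := by rw [← hB]; exact inf_le_left
      have hdvd : Nat.card (G ⧸ N) ∣ p := by
        rw [← Subgroup.index_eq_card, ← hidx]
        exact Subgroup.index_dvd_of_le hAN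
      exact sylow_normal_of_isPGroup (isPGroup_of_card_dvd_prime hdvd) S

end Cfsg.Agent.helper19
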