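import Mathlib

set_option autoImplicit false

namespace Cfsg.Agent.helper2

open scoped Pointwise

variable {G : Type*} [Group G] [Finite G]

/-- Any `p`-subgroup can be conjugated into a given Sylow `p`-subgroup. -/
theorem exists_conj_mem_sylow {p : ℕ} [Fact p.Prime] (P : Sylow p G) (T : Subgroup G)
    (hT : IsPGroup p T) : ∃ h : G, ∀ x ∈ T, h * x * h⁻¹ ∈ P := by
  obtain ⟨Q, hQ⟩ := hT.exists_le_sylow
  obtain ⟨h, hh⟩ := MulAction.exists_smul_eq G Q P
  refine ⟨h, fun x hx => ?_⟩
  have h1 : x ∈ (Q : Subgroup G) := hQ hx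
  have h2 : MulAut.conj h • x ∈ MulAut.conj h • (Q : Subgroup G) :=
    Subgroup.smul_mem_pointwise_smul x (MulAut.conj h) (Q : Subgroup G) h1
  rw [← Sylow.coe_subgroup_smul, hh] at h2
  simp only [MulAut.smul_def, MulAut.conj_apply] at h2
  exact h2

omit [Finite G] in
/-- An element of order `p` generates a `p`-group. -/
theorem isPGroup_zpowers_of_orderOf {p : ℕ} [Fact p.Prime] {x : G} (hx : orderOf x = p) :
    IsPGroup p (Subgroup.zpowers x) := by
  apply IsPGroup.of_card (n := 1)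
  rw [Nat.card_zpowers, hx, pow_one]

/-- Two elements of order `p`: after conjugating the second inside `⟨u, v⟩`, both lie in a
common `p`-subgroup. -/
theorem exists_common_pgroup {p : ℕ} [Fact p.Prime] (u v : G) (hu : orderOf u = p)
    (hv : orderOf v = p) :
    ∃ d ∈ Subgroup.closure ({u, v} : Set G), ∃ T : Subgroup G, IsPGroup p T ∧ u ∈ T ∧
      d * v * d⁻¹ ∈ T := by
  set D := Subgroup.closure ({u, v} : Set G) with hD
  have hum : u ∈ D := Subgroup.subset_closure (by simp)
  have hvm : v ∈ D := Subgroup.subset_closure (by simp)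
  let u' : D := ⟨u, hum⟩
  let v' : D := ⟨v, hvm⟩
  have hu' : orderOf u' = p := by rw [Subgroup.orderOf_mk]; exact hu
  have hv' : orderOf v' = p := by rw [Subgroup.orderOf_mk]; exact hv
  obtain ⟨Q, hQ⟩ := (isPGroup_zpowers_of_orderOf hu').exists_le_sylow
  obtain ⟨d, hd⟩ := exists_conj_mem_sylow Q (Subgroup.zpowers v') (isPGroup_zpowers_of_orderOf hv')
  refine ⟨d.1, d.2, (Q : Subgroup D).map D.subtype, ?_, ?_, ?_⟩
  · exact Q.2.map D.subtype
  · exact ⟨u', hQ (Subgroup.mem_zpowers u'), rfl⟩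
  · exact ⟨d * v' * d⁻¹, hd v' (Subgroup.mem_zpowers v'), rfl⟩

/-- Two elements of order `p` and a Sylow `p`-subgroup `P`: there are `d ∈ ⟨u, v⟩` and `h` with
`h u h⁻¹ ∈ P` and `h (d v d⁻¹) h⁻¹ ∈ P`. -/
theorem exists_conj_both_mem_sylow {p : ℕ} [Fact p.Prime] (P : Sylow p G) (u v : G)
    (hu : orderOf u = p) (hv : orderOf v = p) :
    ∃ d ∈ Subgroup.closure ({u, v} : Set G), ∃ h : G, h * u * h⁻¹ ∈ P ∧
      h * (d * v * d⁻¹) * h⁻¹ ∈ P := by
  obtain ⟨d, hd, T, hT, huT, hvT⟩ := exists_common_pgroup u v hu hv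
  obtain ⟨h, hh⟩ := exists_conj_mem_sylow P T hT
  exact ⟨d, hd, h, hh u huT, hh _ hvT⟩

end Cfsg.Agent.helper2

namespace Cfsg.Agent.helper2

variable {G : Type*} [Group G] [Finite G]

/-- A finite cyclic group has at most one element of order 2. -/
theorem cyclic_unique_involution {A : Type*} [Group A] [Finite A] [IsCyclic A] (a b : A)
    (ha : orderOf a = 2) (hb : orderOf b = 2) : a = b := by
  classical
  have := Fintype.ofFinite A
  have hd : 2 ∣ Fintype.card A := by
    rw [← ha, ← Nat.card_eq_fintype_card]; exact orderOf_dvd_natCard a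
  have h := IsCyclic.card_orderOf_eq_totient (α := A) hd
  rw [Nat.totient_two] at h
  have h1 := Finset.card_le_one.mp h.le
  exact h1 a (by simp [ha]) b (by simp [hb])

/-- Same, for a cyclic subgroup. -/
theorem cyclic_subgroup_unique_involution (A : Subgroup G) (hA : IsCyclic A) (a b : G)
    (haA : a ∈ A) (hbA : b ∈ A) (ha : orderOf a = 2) (hb : orderOf b = 2) : a = b := by
  have h := cyclic_unique_involution (A := A) ⟨a, haA⟩ ⟨b, hbA⟩
    (by rw [Subgroup.orderOf_mk]; exact ha) (by rw [Subgroup.orderOf_mk]; exact hb)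
  exact congrArg Subtype.val h

omit [Finite G] in
/-- A normal `p`-subgroup lies in every Sylow `p`-subgroup. -/
theorem normal_pgroup_le_sylow {p : ℕ} [Fact p.Prime] (P : Sylow p G) (N : Subgroup G)
    [N.Normal] (hN : IsPGroup p N) : N ≤ P := by
  have h1 : IsPGroup p ((P : Subgroup G) ⊔ N : Subgroup G) := P.2.to_sup_of_normal_right hN
  have h2 := P.3 h1 le_sup_left
  calc N ≤ (P : Subgroup G) ⊔ N := le_sup_right
    _ = P := h2

end Cfsg.Agent.helper2
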