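import Mathlib
import Cfsg.Prelude.Def_Transfer
import Cfsg.Prelude.Def_LocalStructure
import Cfsg.Agent.Lib_helper19_MinNPC
import Cfsg.Agent.Lib_helper19_HH1
import Cfsg.Agent.Lib_helper7_Gen2
import Cfsg.Agent.Lib_helper1_PGroup
import Cfsg.Agent.Lib_helper2_Sylow
import Cfsg.Agent.Lib_helper23_Hall

set_option autoImplicit false
set_option linter.style.haveILetI false

namespace Cfsg.Agent.helper19

open scoped commutatorElement

variable {G : Type*} [Group G]

/-- If `G ⧸ M` is `p`-closed then `P M` is normal in `G`. -/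
theorem sup_normal_of_quotient_pClosed [Finite G] {p : ℕ} [Fact p.Prime] (P : Sylow p G)
    (M : Subgroup G) [M.Normal] (h : Cfsg.IsPClosed p (G ⧸ M)) :
    ((P : Subgroup G) ⊔ M).Normal := by
  have hf : Function.Surjective (QuotientGroup.mk' M) := QuotientGroup.mk'_surjective M
  have h1 : ((P.mapSurjective hf : Sylow p (G ⧸ M)) : Subgroup (G ⧸ M)).Normal := h _
  rw [Sylow.coe_mapSurjective] at h1
  have h2 : (((P : Subgroup G).map (QuotientGroup.mk' M)).comap (QuotientGroup.mk' M)).Normal :=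
    Subgroup.Normal.comap h1 _
  rw [Subgroup.comap_map_eq, QuotientGroup.ker_mk'] at h2
  exact h2

/-- A normal Sylow subgroup of a normal subgroup is normal in the whole group. -/
theorem normal_of_sylow_normal_in_normal [Finite G] {p : ℕ} [Fact p.Prime] (K : Subgroup G)
    [K.Normal] (S : Sylow p ↥K) (hS : (S : Subgroup ↥K).Normal) :
    ((S : Subgroup ↥K).map K.subtype).Normal := by
  haveI : (S : Subgroup ↥K).Characteristic := Sylow.characteristic_of_normal S hS
  exact ConjAct.normal_of_characteristic_of_normal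

theorem sylow_normal_of_le_normal_pClosed [Finite G] {p : ℕ} [Fact p.Prime] (P : Sylow p G)
    (K : Subgroup G) [K.Normal] (hPK : (P : Subgroup G) ≤ K) (hK : Cfsg.IsPClosed p ↥K) :
    (P : Subgroup G).Normal := by
  have h1 := normal_of_sylow_normal_in_normal K (P.subtype hPK) (hK _)
  rw [Sylow.coe_subtype, Subgroup.subgroupOf_map_subtype, inf_eq_left.2 hPK] at h1
  exact h1

/-- In a `p`-closed group `H`, a `p`-subgroup of `p'`-index is normal. -/
theorem le_normalizer_of_pClosed {p : ℕ} [Fact p.Prime] {Q H : Subgroup G} (hQH : Q ≤ H)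
    (hQ : IsPGroup p ↥Q) (hidx : ¬ p ∣ Q.relIndex H) (hH : Cfsg.IsPClosed p ↥H) :
    H ≤ Subgroup.normalizer (Q : Set G) := by
  have hQ' : IsPGroup p ↥(Q.subgroupOf H) := hQ.comap_subtype
  have hidx' : ¬ p ∣ (Q.subgroupOf H).index := hidx
  have hn : ((hQ'.toSylow hidx' : Sylow p ↥H) : Subgroup ↥H).Normal := hH _
  rw [IsPGroup.toSylow_coe] at hn
  exact (Subgroup.normal_subgroupOf_iff_le_normalizer hQH).1 hn

theorem eq_of_forall_prime_sylow_le [Finite G] {K N : Subgroup G} (hKN : K ≤ N)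
    (h : ∀ r : ℕ, r.Prime → ∃ R : Subgroup G, R ≤ K ∧
      Nat.card R = r ^ (Nat.card N).factorization r) : K = N := by
  apply Subgroup.eq_of_le_of_card_ge hKN
  apply Nat.le_of_dvd Nat.card_pos
  rw [← Nat.factorization_prime_le_iff_dvd Nat.card_pos.ne' Nat.card_pos.ne']
  intro r hr
  obtain ⟨R, hRK, hRc⟩ := h r hr
  have h2 : Nat.card R ∣ Nat.card K := Subgroup.card_dvd_of_le hRK
  rw [hRc] at h2
  exact (hr.pow_dvd_iff_le_factorization Nat.card_pos.ne').mp h2

theorem commute_of_mutual_normalize {A B : Subgroup G}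
    (hAB : A ≤ Subgroup.normalizer (B : Set G)) (hBA : B ≤ Subgroup.normalizer (A : Set G))
    (hdisj : A ⊓ B = ⊥) : ∀ a ∈ A, ∀ b ∈ B, a * b = b * a := by
  intro a ha b hb
  have h1 : a * b * a⁻¹ * b⁻¹ ∈ A ⊓ B := by
    constructor
    · have : b * a⁻¹ * b⁻¹ ∈ A :=
        (Subgroup.mem_normalizer_iff.1 (hBA hb) a⁻¹).1 (A.inv_mem ha)
      have e : a * b * a⁻¹ * b⁻¹ = a * (b * a⁻¹ * b⁻¹) := by group
      rw [e]; exact A.mul_mem ha this
    · have : a * b * a⁻¹ ∈ B := (Subgroup.mem_normalizer_iff.1 (hAB ha) b).1 hb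
      exact B.mul_mem this (B.inv_mem hb)
  rw [hdisj, Subgroup.mem_bot] at h1
  have e : a * b = (a * b * a⁻¹ * b⁻¹) * (b * a) := by group
  rw [e, h1, one_mul]


theorem minNPC_structure [Finite G] {p : ℕ} [hpf : Fact p.Prime]
    (hnc : ¬ Cfsg.IsPClosed p G) (hsub : ∀ H : Subgroup G, H ≠ ⊤ → Cfsg.IsPClosed p ↥H)
    (hquo : ∀ (N : Subgroup G) [N.Normal], N ≠ ⊥ → Cfsg.IsPClosed p (G ⧸ N))
    (hns : ¬ IsSimpleGroup G) :
    ∃ q : ℕ, q.Prime ∧ q ≠ p ∧ Nat.card G = p * q ^ orderOf (q : ZMod p) ∧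
      ∃ A : Subgroup G, A.Normal ∧ Nat.card ↥A = q ^ orderOf (q : ZMod p) ∧
        Cfsg.IsElementaryAbelian q A ∧
        ∀ B : Subgroup G, B.Normal → B ≤ A → B = ⊥ ∨ B = A := by
  classical
  have hp := hpf.out
  -- a non-normal Sylow subgroup
  obtain ⟨P, hPn⟩ : ∃ P : Sylow p G, ¬ (P : Subgroup G).Normal := by
    by_contra h
    push Not at h
    exact hnc h
  haveI hnt : Nontrivial G := by
    by_contra h
    rw [not_nontrivial_iff_subsingleton] at h
    apply hPn
    rw [Subgroup.eq_bot_of_subsingleton (P : Subgroup G)]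
    infer_instance
  -- a minimal normal subgroup, proper
  obtain ⟨N, hNn, hN1, hNtop, hmin⟩ : ∃ N : Subgroup G, N.Normal ∧ N ≠ ⊥ ∧ N ≠ ⊤ ∧
      ∀ B : Subgroup G, B.Normal → B ≤ N → B = ⊥ ∨ B = N := by
    have hne : {M : Subgroup G | M.Normal ∧ M ≠ ⊥ ∧ M ≠ ⊤}.Nonempty := by
      by_contra h
      rw [Set.not_nonempty_iff_eq_empty] at h
      apply hns
      refine ⟨fun H hH => ?_⟩
      by_contra hcon
      push Not at hcon
      have : H ∈ {M : Subgroup G | M.Normal ∧ M ≠ ⊥ ∧ M ≠ ⊤} := ⟨hH, hcon.1, hcon.2⟩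
      rw [h] at this
      exact this
    obtain ⟨N, ⟨hNn, hN1, hNtop⟩, hNmin⟩ := Set.exists_min_image _
      (fun M : Subgroup G => Nat.card ↥M) (Set.toFinite _) hne
    refine ⟨N, hNn, hN1, hNtop, ?_⟩
    intro B hBn hBN
    by_cases hB1 : B = ⊥
    · exact Or.inl hB1
    · right
      have hBtop : B ≠ ⊤ := by
        rintro rfl
        exact hNtop (top_le_iff.1 hBN)
      exact Subgroup.eq_of_le_of_card_ge hBN (hNmin B ⟨hBn, hB1, hBtop⟩)
  haveI := hNn
  -- P N = G
  have hPNn : ((P : Subgroup G) ⊔ N).Normal := sup_normal_of_quotient_pClosed P N (hquo N hN1)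
  have hPN : (P : Subgroup G) ⊔ N = ⊤ := by
    by_contra h
    exact hPn (sylow_normal_of_le_normal_pClosed P _ le_sup_left (hsub _ h))
  have hPtop : (P : Subgroup G) ≠ ⊤ := by
    intro h
    apply hPn
    rw [h]; infer_instance
  -- N is a p'-group
  have hpN : ¬ p ∣ Nat.card ↥N := by
    intro hdvd
    obtain ⟨S⟩ := (inferInstance : Nonempty (Sylow p ↥N))
    have hSn := normal_of_sylow_normal_in_normal N S (hsub N hNtop S)
    rcases hmin _ hSn (Subgroup.map_subtype_le _) with h | h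
    · rw [Subgroup.map_eq_bot_iff_of_injective _ N.subtype_injective] at h
      exact Sylow.ne_bot_of_dvd_card S hdvd h
    · have hNp : IsPGroup p ↥N := by
        have := S.2.map N.subtype
        rwa [h] at this
      have hNP : N ≤ P := Cfsg.Agent.helper2.normal_pgroup_le_sylow P N hNp
      apply hPtop
      rw [← hPN]
      exact (sup_eq_left.2 hNP).symm
  have hPNnorm : (P : Subgroup G) ≤ Subgroup.normalizer (N : Set G) := by
    rw [Subgroup.normalizer_eq_top_iff.2 hNn]; exact le_top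
  -- N is a q-group
  obtain ⟨q, hq, hNq⟩ : ∃ q : ℕ, q.Prime ∧ IsPGroup q ↥N := by
    by_contra hno
    push Not at hno
    have hK : N ⊓ Subgroup.normalizer ((P : Subgroup G) : Set G) = N := by
      apply eq_of_forall_prime_sylow_le inf_le_left
      intro r hr
      haveI : Fact r.Prime := ⟨hr⟩
      obtain ⟨R, hRN, hRr, hRc, hPR⟩ :=
        Cfsg.Agent.helper7.exists_invariant_sylow r P.2 hpN hPNnorm
      refine ⟨R, le_inf hRN ?_, hRc⟩
      by_cases hR1 : R = ⊥
      · rw [hR1]; exact bot_le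
      have hRtop : Subgroup.normalizer (R : Set G) ≠ ⊤ := by
        intro h
        rcases hmin R (Subgroup.normalizer_eq_top_iff.1 h) hRN with h' | h'
        · exact hR1 h'
        · rw [h'] at hRr
          exact hno r hr hRr
      have hidx : ¬ p ∣ (P : Subgroup G).relIndex (Subgroup.normalizer (R : Set G)) := by
        intro h
        apply P.not_dvd_index
        rw [← Subgroup.relIndex_mul_index hPR]
        exact Dvd.dvd.mul_right h _
      have := le_normalizer_of_pClosed hPR P.2 hidx (hsub _ hRtop)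
      exact Subgroup.le_normalizer.trans this
    apply hPn
    rw [← Subgroup.normalizer_eq_top_iff, eq_top_iff, ← hPN]
    apply sup_le Subgroup.le_normalizer
    rw [← hK]; exact inf_le_right
  haveI : Fact q.Prime := ⟨hq⟩
  have hqp : q ≠ p := by
    rintro rfl
    obtain ⟨n, hn⟩ := IsPGroup.iff_card.1 hNq
    rcases Nat.eq_zero_or_pos n with h0 | hpos
    · rw [h0, pow_zero] at hn
      exact hN1 ((Subgroup.card_eq_one).1 hn)
    · apply hpN
      rw [hn]
      exact dvd_pow_self _ hpos.ne'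
  have hPNdisj : (P : Subgroup G) ⊓ N = ⊥ :=
    disjoint_iff.1 (IsPGroup.disjoint_of_ne p q hqp.symm _ _ P.2 hNq)
  -- N is elementary abelian
  have hfrat : frattini ↥N = ⊥ := by
    have hlt := frattini_map_lt N hN1
    have hn : ((frattini ↥N).map N.subtype).Normal :=
      ConjAct.normal_of_characteristic_of_normal
    rcases hmin _ hn hlt.le with h | h
    · rwa [Subgroup.map_eq_bot_iff_of_injective _ N.subtype_injective] at h
    · exact absurd h hlt.ne
  have hNel : Cfsg.IsElementaryAbelian q N := by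
    constructor
    · refine ⟨⟨fun a b => ?_⟩⟩
      have h1 : ⁅a, b⁆ ∈ commutator ↥N := Subgroup.commutator_mem_commutator (Subgroup.mem_top a) (Subgroup.mem_top b)
      have h2 := Cfsg.Agent.helper1.commutator_le_frattini_of_isPGroup hNq h1
      rw [hfrat, Subgroup.mem_bot] at h2
      exact commutatorElement_eq_one_iff_mul_comm.1 h2
    · intro a ha
      have h2 := Cfsg.Agent.helper1.pow_mem_frattini_of_isPGroup hNq (⟨a, ha⟩ : ↥N)
      rw [hfrat, Subgroup.mem_bot] at h2
      exact congrArg Subtype.val h2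
  -- C_P(N) = 1
  have hC : (P : Subgroup G) ⊓ Subgroup.centralizer (N : Set G) = ⊥ := by
    by_contra hC1
    have hCn : ((P : Subgroup G) ⊓ Subgroup.centralizer (N : Set G)).Normal := by
      rw [← Subgroup.normalizer_eq_top_iff, eq_top_iff, ← hPN]
      apply sup_le
      · apply le_normalizer_of_conj_mem
        intro x hx c hc
        refine ⟨(P : Subgroup G).mul_mem ((P : Subgroup G).mul_mem hx hc.1) ((P : Subgroup G).inv_mem hx), ?_⟩
        exact (Subgroup.normal_centralizer (H := N)).conj_mem c hc.2 x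
      · apply le_normalizer_of_conj_mem
        intro n hn c hc
        have hcomm : n * c = c * n := (Subgroup.mem_centralizer_iff.1 hc.2) n hn
        have e : n * c * n⁻¹ = c := by rw [hcomm]; group
        rw [e]; exact hc
    haveI := hCn
    have h1 := sup_normal_of_quotient_pClosed P _ (hquo _ hC1)
    rw [sup_eq_left.2 inf_le_left] at h1
    exact hPn h1
  -- |G| = p |N|
  have hP1 : (P : Subgroup G) ≠ ⊥ := by
    intro h
    apply hPn
    rw [h]; infer_instance
  have hpP : p ∣ Nat.card ↥(P : Subgroup G) := by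
    obtain ⟨n, hn⟩ := IsPGroup.iff_card.1 P.2
    rcases Nat.eq_zero_or_pos n with h0 | hpos
    · rw [h0, pow_zero] at hn
      exact absurd ((Subgroup.card_eq_one).1 hn) hP1
    · rw [hn]
      exact dvd_pow_self _ hpos.ne'
  obtain ⟨x, hx⟩ := exists_prime_orderOf_dvd_card' p hpP
  have hxo : orderOf (x : G) = p := by rw [Subgroup.orderOf_coe]; exact hx
  set P₀ : Subgroup G := Subgroup.zpowers (x : G) with hP₀
  have hP₀P : P₀ ≤ P := by
    rw [hP₀, Subgroup.zpowers_le]; exact x.2
  have hP₀c : Nat.card ↥P₀ = p := by rw [hP₀, Nat.card_zpowers, hxo]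
  have hP₀N : N ⊓ P₀ = ⊥ := by
    rw [eq_bot_iff, ← hPNdisj, inf_comm]
    exact inf_le_inf_right _ hP₀P
  have hcard₀ : Nat.card ↥(P₀ ⊔ N) = p * Nat.card ↥N := by
    have := Cfsg.Agent.helper23.card_sup_mul_card_inf P₀ N
    rw [hP₀N, Subgroup.card_bot, mul_one, hP₀c] at this
    exact this
  have hP₀top : P₀ ⊔ N = ⊤ := by
    by_contra htop
    have hidx : ¬ p ∣ P₀.relIndex (P₀ ⊔ N) := by
      have h1 := Subgroup.relIndex_mul_relIndex ⊥ P₀ (P₀ ⊔ N) bot_le le_sup_left
      rw [Subgroup.relIndex_bot_left, Subgroup.relIndex_bot_left, hcard₀, hP₀c] at h1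
      have h2 : P₀.relIndex (P₀ ⊔ N) = Nat.card ↥N := Nat.eq_of_mul_eq_mul_left hp.pos h1
      rw [h2]; exact hpN
    have hle := le_normalizer_of_pClosed le_sup_left (P.2.to_le hP₀P) hidx (hsub _ htop)
    have hNP₀ : N ≤ Subgroup.normalizer (P₀ : Set G) := le_sup_right.trans hle
    have hP₀Nn : P₀ ≤ Subgroup.normalizer (N : Set G) := hP₀P.trans hPNnorm
    have hcomm := commute_of_mutual_normalize hP₀Nn hNP₀ (by rw [inf_comm]; exact hP₀N)
    have hxC : (x : G) ∈ (P : Subgroup G) ⊓ Subgroup.centralizer (N : Set G) := by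
      refine ⟨x.2, ?_⟩
      show (x : G) ∈ Subgroup.centralizer (N : Set G)
      rw [Subgroup.mem_centralizer_iff]
      intro n hn
      exact (hcomm (x : G) (Subgroup.mem_zpowers _) n hn).symm
    rw [hC, Subgroup.mem_bot] at hxC
    rw [hxC, orderOf_one] at hxo
    exact hp.one_lt.ne hxo
  have hcardG : Nat.card G = p * Nat.card ↥N := by
    rw [← hcard₀, hP₀top, Subgroup.card_top]
  have hidxN : N.index = p := by
    have h1 := Subgroup.card_mul_index N
    rw [hcardG, mul_comm] at h1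
    exact Nat.eq_of_mul_eq_mul_right Nat.card_pos h1
  have hna : ¬ IsMulCommutative G := by
    intro h
    apply hPn
    refine ⟨fun n hn g => ?_⟩
    have e : g * n * g⁻¹ = n := by rw [h.is_comm.comm g n]; group
    rw [e]; exact hn
  have hcardN := card_eq_pow_orderOf hq hqp hna N hNel hidxN hmin
  refine ⟨q, hq, hqp, ?_, N, hNn, hcardN, hNel, hmin⟩
  rw [hcardG, hcardN]

end Cfsg.Agent.helper19
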