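import Mathlib
import Cfsg.Prelude.Def_Transfer
import Cfsg.Prelude.Def_LocalStructure
import Cfsg.Agent.Lib_helper19_MinNPC2

set_option autoImplicit false
set_option linter.style.haveILetI false

namespace Cfsg.Agent.helper19

open scoped commutatorElement

variable {G : Type*} [Group G]

/-- In a `p`-exponent closed subgroup `K`, an element `x` with `x ^ p = 1` commutes with
the elements of `K ∩ N`, for `N` normal without `p`-torsion. -/
theorem commute_of_expClosed {p : ℕ} (K N : Subgroup G) [hNn : N.Normal]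
    (hK : ∃ H : Subgroup ↥K, (H : Set ↥K) = {g : ↥K | g ^ p = 1})
    (hN : ∀ n ∈ N, n ^ p = 1 → n = 1) {x n : G} (hxK : x ∈ K) (hx : x ^ p = 1)
    (hnK : n ∈ K) (hnN : n ∈ N) : x * n = n * x := by
  obtain ⟨H, hH⟩ := hK
  have hmem : ∀ g : ↥K, g ∈ H ↔ g ^ p = 1 := fun g => by
    rw [← SetLike.mem_coe, hH]; rfl
  have h1 : (⟨x, hxK⟩ : ↥K) ∈ H := (hmem _).2 (Subtype.ext hx)
  have hcK : n * x * n⁻¹ ∈ K := K.mul_mem (K.mul_mem hnK hxK) (K.inv_mem hnK)
  have h2 : (⟨n * x * n⁻¹, hcK⟩ : ↥K) ∈ H := by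
    apply (hmem _).2
    apply Subtype.ext
    show (n * x * n⁻¹) ^ p = 1
    rw [conj_pow, hx]; group
  have h3 := H.mul_mem (H.inv_mem h1) h2
  have h4 := (hmem _).1 h3
  have h5 : (x⁻¹ * (n * x * n⁻¹)) ^ p = 1 := congrArg Subtype.val h4
  have h6 : x⁻¹ * (n * x * n⁻¹) ∈ N := by
    have h : x⁻¹ * n * x⁻¹⁻¹ ∈ N := hNn.conj_mem n hnN x⁻¹
    have e : x⁻¹ * (n * x * n⁻¹) = (x⁻¹ * n * x⁻¹⁻¹) * n⁻¹ := by group
    rw [e]; exact N.mul_mem h (N.inv_mem hnN)
  have h7 := hN _ h6 h5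
  have e : n * x = x * (x⁻¹ * (n * x * n⁻¹)) * n := by group
  rw [e, h7, mul_one]

theorem mul_pow_eq_one_of_centralizing {p : ℕ} (Q N : Subgroup G) [N.Normal]
    (hQN : Q ⊔ N = ⊤) (hQ : ∀ a ∈ Q, a ^ p = 1) (hN : ∀ n ∈ N, n ^ p = 1 → n = 1)
    (hc : ∀ a ∈ Q, ∀ n ∈ N, a * n = n * a) {x y : G} (hx : x ^ p = 1) (hy : y ^ p = 1) :
    (x * y) ^ p = 1 := by
  have key : ∀ z : G, z ^ p = 1 → z ∈ Q := by
    intro z hz
    have hz' : z ∈ Q ⊔ N := by rw [hQN]; trivial
    rw [Subgroup.mem_sup_of_normal_right] at hz'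
    obtain ⟨a, ha, n, hn, rfl⟩ := hz'
    have hcomm : Commute a n := hc a ha n hn
    rw [hcomm.mul_pow, hQ a ha, one_mul] at hz
    rw [hN n hn hz, mul_one]; exact ha
  exact hQ _ (Q.mul_mem (key x hx) (key y hy))

/-- A minimal normal subgroup which is a `q`-group is elementary abelian. -/
theorem elementaryAbelian_of_minimal_normal [Finite G] {q : ℕ} [Fact q.Prime] (N : Subgroup G)
    [hNn : N.Normal] (hN1 : N ≠ ⊥) (hNq : IsPGroup q ↥N)
    (hmin : ∀ B : Subgroup G, B.Normal → B ≤ N → B = ⊥ ∨ B = N) :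
    Cfsg.IsElementaryAbelian q N := by
  have hfrat : frattini ↥N = ⊥ := by
    have hlt := frattini_map_lt N hN1
    have hn : ((frattini ↥N).map N.subtype).Normal :=
      ConjAct.normal_of_characteristic_of_normal
    rcases hmin _ hn hlt.le with h | h
    · rwa [Subgroup.map_eq_bot_iff_of_injective _ N.subtype_injective] at h
    · exact absurd h hlt.ne
  constructor
  · refine ⟨⟨fun a b => ?_⟩⟩
    have h1 : ⁅a, b⁆ ∈ commutator ↥N :=
      Subgroup.commutator_mem_commutator (Subgroup.mem_top a) (Subgroup.mem_top b)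
    have h2 := Cfsg.Agent.helper1.commutator_le_frattini_of_isPGroup hNq h1
    rw [hfrat, Subgroup.mem_bot] at h2
    exact commutatorElement_eq_one_iff_mul_comm.1 h2
  · intro a ha
    have h2 := Cfsg.Agent.helper1.pow_mem_frattini_of_isPGroup hNq (⟨a, ha⟩ : ↥N)
    rw [hfrat, Subgroup.mem_bot] at h2
    exact congrArg Subtype.val h2

theorem minNEC_structure [Finite G] {p : ℕ} [hpf : Fact p.Prime]
    (hnc : ¬ (∃ H : Subgroup G, (H : Set G) = {g : G | g ^ p = 1}))
    (hsub : ∀ K : Subgroup G, K ≠ ⊤ →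
      (∃ H : Subgroup ↥K, (H : Set ↥K) = {g : ↥K | g ^ p = 1}))
    (hquo : ∀ (N : Subgroup G) [N.Normal], N ≠ ⊥ →
      (∃ H : Subgroup (G ⧸ N), (H : Set (G ⧸ N)) = {g : (G ⧸ N) | g ^ p = 1}))
    (hns : ¬ IsSimpleGroup G) (hnp : ¬ IsPGroup p G) :
    ∃ q : ℕ, q.Prime ∧ q ≠ p ∧ Nat.card G = p * q ^ orderOf (q : ZMod p) ∧
      ∃ A : Subgroup G, A.Normal ∧ Nat.card ↥A = q ^ orderOf (q : ZMod p) ∧
        Cfsg.IsElementaryAbelian q A ∧
        ∀ B : Subgroup G, B.Normal → B ≤ A → B = ⊥ ∨ B = A := by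
  classical
  have hp := hpf.out
  -- (a) witnesses
  obtain ⟨x, y, hx, hy, hxy⟩ : ∃ x y : G, x ^ p = 1 ∧ y ^ p = 1 ∧ (x * y) ^ p ≠ 1 := by
    by_contra hno
    push Not at hno
    apply hnc
    refine ⟨{ carrier := {g : G | g ^ p = 1}
              mul_mem' := fun {a b} ha hb => hno a b ha hb
              one_mem' := one_pow p
              inv_mem' := fun {a} ha => by
                show (a⁻¹) ^ p = 1
                rw [inv_pow, show a ^ p = 1 from ha, inv_one] }, rfl⟩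
  have hgen : Subgroup.closure ({x, y} : Set G) = ⊤ := by
    by_contra hne
    obtain ⟨H, hH⟩ := hsub _ hne
    have hmem : ∀ g : ↥(Subgroup.closure ({x, y} : Set G)), g ∈ H ↔ g ^ p = 1 := fun g => by
      rw [← SetLike.mem_coe, hH]; rfl
    have hxK : x ∈ Subgroup.closure ({x, y} : Set G) := Subgroup.subset_closure (by simp)
    have hyK : y ∈ Subgroup.closure ({x, y} : Set G) := Subgroup.subset_closure (by simp)
    have h1 : (⟨x, hxK⟩ : ↥(Subgroup.closure ({x, y} : Set G))) ∈ H :=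
      (hmem _).2 (Subtype.ext hx)
    have h2 : (⟨y, hyK⟩ : ↥(Subgroup.closure ({x, y} : Set G))) ∈ H :=
      (hmem _).2 (Subtype.ext hy)
    have h3 := (hmem _).1 (H.mul_mem h1 h2)
    exact hxy (congrArg Subtype.val h3)
  haveI hnt : Nontrivial G := by
    by_contra h
    rw [not_nontrivial_iff_subsingleton] at h
    exact hxy (Subsingleton.elim _ _)
  -- (b) proper quotients have exponent p
  have hpow : ∀ (M : Subgroup G) [M.Normal], M ≠ ⊥ → ∀ g : G, g ^ p ∈ M := by
    intro M hMn hM1 g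
    obtain ⟨H, hH⟩ := hquo M hM1
    have hmem : ∀ g : G ⧸ M, g ∈ H ↔ g ^ p = 1 := fun g => by
      rw [← SetLike.mem_coe, hH]; rfl
    have hle : Subgroup.closure ({x, y} : Set G) ≤ H.comap (QuotientGroup.mk' M) := by
      rw [Subgroup.closure_le]
      intro z hz
      rcases hz with rfl | hz
      · show QuotientGroup.mk' M z ∈ H
        rw [hmem, ← map_pow, hx, map_one]
      · rw [Set.mem_singleton_iff] at hz
        subst hz
        show QuotientGroup.mk' M z ∈ H
        rw [hmem, ← map_pow, hy, map_one]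
    rw [hgen] at hle
    have hg : QuotientGroup.mk' M g ∈ H := hle (Subgroup.mem_top g)
    rw [hmem, ← map_pow] at hg
    exact (QuotientGroup.eq_one_iff _).1 hg
  -- a minimal normal subgroup, proper
  obtain ⟨N, hNn, hN1, hNtop, hmin⟩ : ∃ N : Subgroup G, N.Normal ∧ N ≠ ⊥ ∧ N ≠ ⊤ ∧
      ∀ B : Subgroup G, B.Normal → B ≤ N → B = ⊥ ∨ B = N := by
    have hne : {M : Subgroup G | M.Normal ∧ M ≠ ⊥ ∧ M ≠ ⊤}.Nonempty := by
      by_contra h
      rw [Set.not_nonempty_iff_eq_empty] at h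
      apply hns
      refine ⟨fun H hH => ?_⟩
      by_contra hcon
      push Not at hcon
      have : H ∈ {M : Subgroup G | M.Normal ∧ M ≠ ⊥ ∧ M ≠ ⊤} := ⟨hH, hcon.1, hcon.2⟩
      rw [h] at this
      exact this
    obtain ⟨N, ⟨hNn, hN1, hNtop⟩, hNmin⟩ := Set.exists_min_image _
      (fun M : Subgroup G => Nat.card ↥M) (Set.toFinite _) hne
    refine ⟨N, hNn, hN1, hNtop, ?_⟩
    intro B hBn hBN
    by_cases hB1 : B = ⊥
    · exact Or.inl hB1
    · right
      have hBtop : B ≠ ⊤ := by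
        rintro rfl
        exact hNtop (top_le_iff.1 hBN)
      exact Subgroup.eq_of_le_of_card_ge hBN (hNmin B ⟨hBn, hB1, hBtop⟩)
  haveI := hNn
  have hpowN : ∀ g : G, g ^ p ∈ N := hpow N hN1
  -- (c) N has no p-torsion
  have hN : ∀ n ∈ N, n ^ p = 1 → n = 1 := by
    obtain ⟨H, hH⟩ := hsub N hNtop
    have hmem : ∀ g : ↥N, g ∈ H ↔ g ^ p = 1 := fun g => by
      rw [← SetLike.mem_coe, hH]; rfl
    have hmemΩ : ∀ z : G, z ∈ H.map N.subtype ↔ z ∈ N ∧ z ^ p = 1 := by
      intro z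
      constructor
      · rintro ⟨n, hn, rfl⟩
        exact ⟨n.2, congrArg Subtype.val ((hmem n).1 hn)⟩
      · rintro ⟨hzN, hz⟩
        exact ⟨⟨z, hzN⟩, (hmem _).2 (Subtype.ext hz), rfl⟩
    have hΩn : (H.map N.subtype).Normal := by
      refine ⟨fun z hz g => ?_⟩
      rw [hmemΩ] at hz ⊢
      refine ⟨hNn.conj_mem z hz.1 g, ?_⟩
      rw [conj_pow, hz.2]; group
    rcases hmin _ hΩn (Subgroup.map_subtype_le _) with h | h
    · intro n hn hnp'
      have : n ∈ H.map N.subtype := (hmemΩ n).2 ⟨hn, hnp'⟩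
      rw [h, Subgroup.mem_bot] at this
      exact this
    · exfalso
      apply hnp
      intro g
      refine ⟨2, ?_⟩
      have h1 : g ^ p ∈ H.map N.subtype := by rw [h]; exact hpowN g
      rw [pow_two, pow_mul]
      exact ((hmemΩ _).1 h1).2
  have hpN : ¬ p ∣ Nat.card ↥N := by
    intro hdvd
    obtain ⟨n, hn⟩ := exists_prime_orderOf_dvd_card' p hdvd
    have h1 : (n : G) ^ p = 1 := by
      rw [← Subgroup.coe_pow, ← hn, pow_orderOf_eq_one]; rfl
    have h2 := hN _ n.2 h1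
    have h3 : n = 1 := Subtype.ext h2
    rw [h3, orderOf_one] at hn
    exact hp.one_lt.ne hn
  -- (d) a Sylow p-subgroup
  obtain ⟨P⟩ := (inferInstance : Nonempty (Sylow p G))
  have hPNdisj : (P : Subgroup G) ⊓ N = ⊥ := by
    rw [← disjoint_iff]
    apply Subgroup.disjoint_of_coprime_natCard
    obtain ⟨k, hk⟩ := IsPGroup.iff_card.1 P.2
    rw [hk]
    exact Nat.Coprime.pow_left k ((Nat.Prime.coprime_iff_not_dvd hp).2 hpN)
  have hPN : (P : Subgroup G) ⊔ N = ⊤ := by
    have hQp : IsPGroup p (G ⧸ N) := by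
      intro g
      obtain ⟨g, rfl⟩ := QuotientGroup.mk'_surjective N g
      refine ⟨1, ?_⟩
      rw [pow_one, ← map_pow]
      exact (QuotientGroup.eq_one_iff _).2 (hpowN g)
    obtain ⟨k, hk⟩ := IsPGroup.iff_card.1 hQp
    have hidxN : N.index = p ^ k := by rw [Subgroup.index_eq_card, hk]
    have h1 : ((P : Subgroup G) ⊔ N).index ∣ p ^ k := by
      rw [← hidxN]; exact Subgroup.index_dvd_of_le le_sup_right
    have h2 : ((P : Subgroup G) ⊔ N).index ∣ (P : Subgroup G).index :=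
      Subgroup.index_dvd_of_le le_sup_left
    obtain ⟨j, _, hj⟩ := (Nat.dvd_prime_pow hp).1 h1
    rcases Nat.eq_zero_or_pos j with h0 | hpos
    · rw [h0, pow_zero] at hj
      exact Subgroup.index_eq_one.1 hj
    · exfalso
      apply P.not_dvd_index
      refine dvd_trans ?_ h2
      rw [hj]
      exact dvd_pow_self _ hpos.ne'
  have hPexp : ∀ a ∈ (P : Subgroup G), a ^ p = 1 := by
    intro a ha
    have : a ^ p ∈ (P : Subgroup G) ⊓ N := ⟨(P : Subgroup G).pow_mem ha p, hpowN a⟩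
    rwa [hPNdisj, Subgroup.mem_bot] at this
  -- (e) some element of P generates G with N
  obtain ⟨x₀, hx₀P, hx₀top⟩ : ∃ x₀ ∈ (P : Subgroup G), Subgroup.zpowers x₀ ⊔ N = ⊤ := by
    by_contra hall
    push Not at hall
    apply hxy
    apply mul_pow_eq_one_of_centralizing (P : Subgroup G) N hPN hPexp hN _ hx hy
    intro a ha n hn
    exact commute_of_expClosed (Subgroup.zpowers a ⊔ N) N (hsub _ (hall a ha)) hN
      (Subgroup.mem_sup_left (Subgroup.mem_zpowers a)) (hPexp a ha)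
      (Subgroup.mem_sup_right hn) hn
  have hx₀p : x₀ ^ p = 1 := hPexp x₀ hx₀P
  have hx₀1 : x₀ ≠ 1 := by
    rintro rfl
    rw [Subgroup.zpowers_one_eq_bot, bot_sup_eq] at hx₀top
    exact hNtop hx₀top
  have hxo : orderOf x₀ = p := orderOf_eq_prime hx₀p hx₀1
  set P₀ : Subgroup G := Subgroup.zpowers x₀ with hP₀
  have hP₀P : P₀ ≤ P := by
    rw [hP₀, Subgroup.zpowers_le]; exact hx₀P
  have hP₀c : Nat.card ↥P₀ = p := by rw [hP₀, Nat.card_zpowers, hxo]
  have hP₀N : N ⊓ P₀ = ⊥ := by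
    rw [eq_bot_iff, ← hPNdisj, inf_comm]
    exact inf_le_inf_right _ hP₀P
  have hcardG : Nat.card G = p * Nat.card ↥N := by
    have := Cfsg.Agent.helper23.card_sup_mul_card_inf P₀ N
    rw [hP₀N, Subgroup.card_bot, mul_one, hP₀c, hx₀top, Subgroup.card_top] at this
    exact this
  have hidxN : N.index = p := by
    have h1 := Subgroup.card_mul_index N
    rw [hcardG, mul_comm] at h1
    exact Nat.eq_of_mul_eq_mul_right Nat.card_pos h1
  have hP₀exp : ∀ a ∈ P₀, a ^ p = 1 := fun a ha => hPexp a (hP₀P ha)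
  have hP₀Nn : P₀ ≤ Subgroup.normalizer (N : Set G) := by
    rw [Subgroup.normalizer_eq_top_iff.2 hNn]; exact le_top
  -- x₀ does not centralize N
  have hx₀nc : ¬ ∀ n ∈ N, x₀ * n = n * x₀ := by
    intro hc
    apply hxy
    apply mul_pow_eq_one_of_centralizing P₀ N hx₀top hP₀exp hN _ hx hy
    intro a ha n hn
    obtain ⟨k, rfl⟩ := Subgroup.mem_zpowers_iff.1 ha
    exact (Commute.zpow_left (hc n hn) k)
  -- (f) N is a q-group
  obtain ⟨q, hq, hNq⟩ : ∃ q : ℕ, q.Prime ∧ IsPGroup q ↥N := by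
    by_contra hno
    push Not at hno
    apply hx₀nc
    have hK : N ⊓ Subgroup.centralizer ({x₀} : Set G) = N := by
      apply eq_of_forall_prime_sylow_le inf_le_left
      intro r hr
      haveI : Fact r.Prime := ⟨hr⟩
      obtain ⟨R, hRN, hRr, hRc, hPR⟩ :=
        Cfsg.Agent.helper7.exists_invariant_sylow r (P.2.to_le hP₀P) hpN hP₀Nn
      refine ⟨R, le_inf hRN ?_, hRc⟩
      by_cases hR1 : R = ⊥
      · rw [hR1]; exact bot_le
      have hRtop : Subgroup.normalizer (R : Set G) ≠ ⊤ := by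
        intro h
        rcases hmin R (Subgroup.normalizer_eq_top_iff.1 h) hRN with h' | h'
        · exact hR1 h'
        · rw [h'] at hRr
          exact hno r hr hRr
      intro n hn
      rw [Subgroup.mem_centralizer_iff]
      intro z hz
      rw [Set.mem_singleton_iff] at hz
      rw [hz]
      exact commute_of_expClosed (Subgroup.normalizer (R : Set G)) N (hsub _ hRtop) hN
        (hPR (Subgroup.mem_zpowers x₀)) hx₀p (Subgroup.le_normalizer hn) (hRN hn)
    intro n hn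
    have : n ∈ N ⊓ Subgroup.centralizer ({x₀} : Set G) := by rw [hK]; exact hn
    exact (Subgroup.mem_centralizer_iff.1 this.2) x₀ (Set.mem_singleton x₀)
  haveI : Fact q.Prime := ⟨hq⟩
  have hqp : q ≠ p := by
    rintro rfl
    obtain ⟨n, hn⟩ := IsPGroup.iff_card.1 hNq
    rcases Nat.eq_zero_or_pos n with h0 | hpos
    · rw [h0, pow_zero] at hn
      exact hN1 ((Subgroup.card_eq_one).1 hn)
    · apply hpN
      rw [hn]
      exact dvd_pow_self _ hpos.ne'
  have hNel := elementaryAbelian_of_minimal_normal N hN1 hNq hmin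
  have hna : ¬ IsMulCommutative G := by
    intro h
    apply hxy
    have hc : Commute x y := h.is_comm.comm x y
    rw [hc.mul_pow, hx, hy, one_mul]
  have hcardN := card_eq_pow_orderOf hq hqp hna N hNel hidxN hmin
  refine ⟨q, hq, hqp, ?_, N, hNn, hcardN, hNel, hmin⟩
  rw [hcardG, hcardN]

end Cfsg.Agent.helper19
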