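import Mathlib
import Cfsg.Agent.Lib_helper21_SylowNum

set_option autoImplicit false
set_option linter.style.haveILetI false
set_option linter.deprecated false
set_option linter.unusedVariables false
set_option linter.unusedSectionVars false

namespace Cfsg.Agent.helper19.N15

open Subgroup

universe u

variable {G : Type*} [Group G] [Finite G]

theorem fact7 : Fact (Nat.Prime 7) := ⟨by norm_num⟩
theorem fact5 : Fact (Nat.Prime 5) := ⟨by norm_num⟩

/-- Quotient by a normal subgroup that normalizes a Sylow `p`-subgroup. -/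
theorem card_sylow_quot_of_le_normalizer {p : ℕ} [Fact p.Prime] (P : Sylow p G) (K : Subgroup G)
    [K.Normal] (hK : K ≤ Subgroup.normalizer ((P : Subgroup G) : Set G)) :
    Nat.card (Sylow p (G ⧸ K)) = Nat.card (Sylow p G) := by
  have h1 := Cfsg.Agent.helper21.card_sylow_eq_quot_mul P K
  rw [Cfsg.Agent.helper21.relIndex_normalizer_sup_eq, Subgroup.relIndex_eq_one.mpr hK,
    mul_one] at h1
  exact h1.symm

theorem sylow_le_of_normal' (p : ℕ) [Fact p.Prime] (H : Subgroup G) [H.Normal]
    (hp : ¬ p ∣ H.index) (P : Sylow p G) : (P : Subgroup G) ≤ H := by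
  intro x hx
  have h1 : orderOf (QuotientGroup.mk x : G ⧸ H) ∣ orderOf x :=
    orderOf_dvd_of_pow_eq_one (by rw [← QuotientGroup.mk_pow, pow_orderOf_eq_one]; rfl)
  obtain ⟨k, hk⟩ := (IsPGroup.iff_orderOf.mp P.isPGroup') ⟨x, hx⟩
  rw [Subgroup.orderOf_mk] at hk
  have h2 : orderOf (QuotientGroup.mk x : G ⧸ H) ∣ Nat.card (G ⧸ H) := orderOf_dvd_natCard _
  have h3 : Nat.Coprime (p ^ k) H.index :=
    Nat.Coprime.pow_left _ ((Nat.Prime.coprime_iff_not_dvd Fact.out).mpr hp)
  have h4 : orderOf (QuotientGroup.mk x : G ⧸ H) = 1 := by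
    apply Nat.eq_one_of_dvd_coprimes h3 (hk ▸ h1)
    rwa [Subgroup.index_eq_card]
  rw [orderOf_eq_one_iff, QuotientGroup.eq_one_iff] at h4
  exact h4

theorem card_sylow_of_normal (p : ℕ) [Fact p.Prime] (H : Subgroup G) [H.Normal]
    (hp : ¬ p ∣ H.index) :
    Nat.card (Sylow p H) = Nat.card (Sylow p G) := by
  symm
  apply Nat.card_eq_of_bijective
    (fun P : Sylow p G => P.subtype (sylow_le_of_normal' p H hp P))
  constructor
  · intro P Q h; exact Sylow.subtype_injective h
  · intro Q
    obtain ⟨P, hP⟩ := Sylow.exists_comap_subtype_eq Q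
    refine ⟨P, ?_⟩
    apply Sylow.ext
    rw [Sylow.coe_subtype, ← hP]
    rfl

theorem sylow_card_prime {q : ℕ} [Fact q.Prime] (R : Sylow q G) (h1 : q ∣ Nat.card G)
    (h2 : ¬ q ^ 2 ∣ Nat.card G) : Nat.card R = q := by
  have hq : q.Prime := Fact.out
  rw [Sylow.card_eq_multiplicity]
  have hpos : Nat.card G ≠ 0 := Nat.card_pos.ne'
  have ha : 1 ≤ (Nat.card G).factorization q :=
    (hq.dvd_iff_one_le_factorization hpos).mp h1
  have hb : ¬ 2 ≤ (Nat.card G).factorization q :=
    fun h => h2 ((hq.pow_dvd_iff_le_factorization hpos).mpr h)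
  have : (Nat.card G).factorization q = 1 := by omega
  rw [this, pow_one]

theorem exists_normal_index_prime {q : ℕ} [Fact q.Prime] (R : Sylow q G) (hR : Nat.card R = q)
    (hcop : Nat.Coprime (Nat.card G) (q - 1)) : ∃ U : Subgroup G, U.Normal ∧ U.index = q := by
  have hq : q.Prime := Fact.out
  have hcyc : IsCyclic R := isCyclic_of_prime_card hR
  have hNC : normalizer ((R : Subgroup G) : Set G) ≤ centralizer ((R : Subgroup G) : Set G) := by
    have key := Subgroup.card_dvd_of_injective _
      (QuotientGroup.kerLift_injective (R : Subgroup G).normalizerMonoidHom)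
    rw [normalizerMonoidHom_ker, ← index, ← relIndex] at key
    refine relIndex_eq_one.mp (Nat.eq_one_of_dvd_coprimes ?_ dvd_rfl key)
    rw [hcyc.card_mulAut, hR, Nat.totient_prime hq]
    apply Nat.Coprime.coprime_dvd_left (relIndex_dvd_card ..)
    apply Nat.Coprime.coprime_dvd_left (card_subgroup_dvd_card _)
    exact hcop
  have hc := MonoidHom.ker_transferSylow_isComplement' R hNC
  refine ⟨(MonoidHom.transferSylow R hNC).ker, inferInstance, ?_⟩
  rw [hc.symm.index_eq_card, hR]

theorem exists_index_two_of_sign {Ω : Type*} [Fintype Ω] [DecidableEq Ω]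
    (φ : G →* Equiv.Perm Ω) (z : G)
    (hz : Equiv.Perm.sign (φ z) = -1) : ∃ U : Subgroup G, U.Normal ∧ U.index = 2 := by
  let f : G →* ℤˣ := Equiv.Perm.sign.comp φ
  refine ⟨f.ker, inferInstance, ?_⟩
  rw [Subgroup.index_ker]
  have : f.range = ⊤ := by
    rw [eq_top_iff]
    intro u _
    rcases Int.units_eq_one_or u with h | h
    · rw [h]; exact one_mem _
    · rw [h]; exact ⟨z, hz⟩
  rw [this]
  simp

/-- Fixed points of an element centralizing a `p`-subgroup with a unique fixed point. -/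
theorem card_fixed_modEq_one {p : ℕ} [Fact p.Prime] {Ω : Type*} [MulAction G Ω] [Finite Ω]
    (H : Subgroup G) (hH : IsPGroup p H) (z : G) (hz : z ∈ Subgroup.centralizer (H : Set G))
    (ω₀ : Ω) (h0 : z • ω₀ = ω₀) (h1 : ∀ h ∈ H, h • ω₀ = ω₀)
    (huniq : ∀ ω : Ω, (∀ h ∈ H, h • ω = ω) → ω = ω₀) :
    Nat.card {ω : Ω // z • ω = ω} ≡ 1 [MOD p] := by
  let S : SubMulAction H Ω :=
    { carrier := {ω | z • ω = ω}
      smul_mem' := by
        intro g ω hω
        change z • (g • ω) = g • ω
        have hc : (g : G) * z = z * (g : G) := (Subgroup.mem_centralizer_iff.mp hz) g g.2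
        rw [Subgroup.smul_def, smul_smul, ← hc, mul_smul]
        congr 1 }
  have hmod := hH.card_modEq_card_fixedPoints S
  have hS : Nat.card S = Nat.card {ω : Ω // z • ω = ω} :=
    Nat.card_congr (Equiv.subtypeEquivRight (fun _ => Iff.rfl))
  have hfix : Nat.card (MulAction.fixedPoints H S) = 1 := by
    rw [Nat.card_eq_one_iff_unique]
    refine ⟨⟨?_⟩, ⟨⟨⟨ω₀, h0⟩, ?_⟩⟩⟩
    · rintro ⟨⟨a, ha⟩, ha'⟩ ⟨⟨b, hb⟩, hb'⟩
      have hA : a = ω₀ := by
        apply huniq
        intro h hh
        have := ha' ⟨h, hh⟩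
        exact congrArg (fun s : S => (s : Ω)) this
      have hB : b = ω₀ := by
        apply huniq
        intro h hh
        have := hb' ⟨h, hh⟩
        exact congrArg (fun s : S => (s : Ω)) this
      subst hA
      subst hB
      rfl
    · intro g
      apply Subtype.ext
      exact h1 g g.2
  rw [hS, hfix] at hmod
  exact hmod

theorem exists_index_two_of_fixed {Ω : Type*} [Fintype Ω] [DecidableEq Ω] [MulAction G Ω]
    (z : G) (hz2 : z ^ 2 = 1) (hcard : Fintype.card Ω = 15)
    (hfix : Nat.card {ω : Ω // z • ω = ω} = 1) : ∃ U : Subgroup G, U.Normal ∧ U.index = 2 := by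
  apply exists_index_two_of_sign (MulAction.toPermHom G Ω) z
  have h2 : (MulAction.toPermHom G Ω z) ^ 2 = 1 := by
    rw [← map_pow, hz2, map_one]
  rw [Equiv.Perm.sign_of_pow_two_eq_one h2, hcard]
  have : Fintype.card (Function.fixedPoints (MulAction.toPermHom G Ω z)) = 1 := by
    rw [← Nat.card_eq_fintype_card, ← hfix]
    exact Nat.card_congr (Equiv.subtypeEquivRight (fun _ => Iff.rfl))
  rw [this]
  decide

end Cfsg.Agent.helper19.N15
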