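import Mathlib
import Cfsg.Agent.Lib_helper19_N15a

set_option autoImplicit false
set_option linter.style.haveILetI false
set_option linter.deprecated false
set_option linter.unusedVariables false
set_option linter.unusedSectionVars false

namespace Cfsg.Agent.helper19.N15

open Subgroup

universe u

attribute [local instance] fact7 fact5

/-- A minimal counterexample to "no group has exactly 15 Sylow 7-subgroups". -/
structure MinCE (G : Type u) [Group G] [Finite G] : Prop where
  h15 : Nat.card (Sylow 7 G) = 15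
  ih : ∀ (H : Type u) [Group H] [Finite H], Nat.card H < Nat.card G →
    Nat.card (Sylow 7 H) ≠ 15

variable {G : Type u} [Group G] [Finite G]

namespace MinCE

theorem faithful (h : MinCE G) (g : G) (hg : ∀ Q : Sylow 7 G, g • Q = Q) : g = 1 := by
  let K : Subgroup G := (MulAction.toPermHom G (Sylow 7 G)).ker
  have hKn : K.Normal := inferInstance
  have hmem : ∀ k : G, k ∈ K ↔ ∀ Q : Sylow 7 G, k • Q = Q := by
    intro k
    rw [MonoidHom.mem_ker]
    constructor
    · intro hk Q
      have := congrArg (fun σ : Equiv.Perm (Sylow 7 G) => σ Q) hk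
      simpa using this
    · intro hk
      apply Equiv.ext
      intro Q
      simpa using hk Q
  by_contra hne
  have hgK : g ∈ K := (hmem g).mpr hg
  have hKbot : K ≠ ⊥ := fun hb => hne (by rw [hb] at hgK; exact Subgroup.mem_bot.mp hgK)
  obtain ⟨P⟩ : Nonempty (Sylow 7 G) := inferInstance
  have hKle : K ≤ normalizer ((P : Subgroup G) : Set G) := by
    intro k hk
    exact Sylow.smul_eq_iff_mem_normalizer.mp ((hmem k).mp hk P)
  have hq := card_sylow_quot_of_le_normalizer P K hKle
  have hlt : Nat.card (G ⧸ K) < Nat.card G := by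
    have h1 := Subgroup.index_mul_card K
    rw [Subgroup.index_eq_card] at h1
    have h2 : 1 < Nat.card K := (Subgroup.one_lt_card_iff_ne_bot K).mpr hKbot
    have h3 : 0 < Nat.card (G ⧸ K) := Nat.card_pos
    nlinarith
  exact h.ih (G ⧸ K) hlt (hq.trans h.h15)

theorem inj (h : MinCE G) : Function.Injective (MulAction.toPermHom G (Sylow 7 G)) := by
  rw [injective_iff_map_eq_one]
  intro g hg
  apply h.faithful
  intro Q
  have := congrArg (fun σ : Equiv.Perm (Sylow 7 G) => σ Q) hg
  simpa using this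

theorem normal_top (h : MinCE G) (U : Subgroup G) [U.Normal] (hU : ¬ 7 ∣ U.index) :
    U = ⊤ := by
  by_contra hne
  have h1 := card_sylow_of_normal 7 U hU
  have hlt : Nat.card U < Nat.card G := by
    have := Subgroup.card_le_card_group U
    rcases this.lt_or_eq with h | h
    · exact h
    · exact absurd ((Subgroup.card_eq_iff_eq_top U).mp h) hne
  exact h.ih U hlt (h1.trans h.h15)

theorem card_dvd (h : MinCE G) : Nat.card G ∣ Nat.factorial 15 := by
  have h1 := Subgroup.card_dvd_of_injective _ h.inj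
  rw [Nat.card_perm, h.h15] at h1
  exact h1

theorem sylow_card_eq (P Q : Sylow 7 G) : Nat.card P = Nat.card Q := by
  rw [Sylow.card_eq_multiplicity, Sylow.card_eq_multiplicity]

theorem sylow_card (h : MinCE G) (P : Sylow 7 G) : Nat.card P = 7 ∨ Nat.card P = 49 := by
  obtain ⟨e, he⟩ := P.isPGroup'.exists_card_eq
  have hdvd : 7 ^ e ∣ Nat.factorial 15 :=
    he ▸ (Subgroup.card_subgroup_dvd_card _).trans h.card_dvd
  have he2 : e ≤ 2 := by
    by_contra hlt
    push Not at hlt
    have : 7 ^ 3 ∣ Nat.factorial 15 := (pow_dvd_pow 7 hlt).trans hdvd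
    revert this
    norm_num [Nat.factorial]
  interval_cases e
  · exfalso
    have hall : ∀ Q : Sylow 7 G, Q = P := by
      intro Q
      have hQ : Nat.card Q = 1 := by rw [sylow_card_eq Q P]; simpa using he
      apply Sylow.ext
      have hQ' : (Q : Subgroup G) = ⊥ := Subgroup.card_eq_one.mp hQ
      have hP' : (P : Subgroup G) = ⊥ := Subgroup.card_eq_one.mp (by simpa using he)
      rw [hQ', hP']
    have : Nat.card (Sylow 7 G) ≤ 1 := by
      haveI : Subsingleton (Sylow 7 G) := ⟨fun a b => (hall a).trans (hall b).symm⟩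
      exact Finite.card_le_one_iff_subsingleton.mpr inferInstance
    rw [h.h15] at this; omega
  · left; simpa using he
  · right; simpa using he

theorem inf_card (h : MinCE G) (h49 : ∀ P : Sylow 7 G, Nat.card P = 49) (P Q : Sylow 7 G)
    (hPQ : P ≠ Q) : Nat.card ((P : Subgroup G) ⊓ Q : Subgroup G) = 7 := by
  have hdvd : Nat.card ((P : Subgroup G) ⊓ Q : Subgroup G) ∣ 49 :=
    h49 P ▸ Subgroup.card_dvd_of_le inf_le_left
  have hne49 : Nat.card ((P : Subgroup G) ⊓ Q : Subgroup G) ≠ 49 := by
    intro h1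
    have : (P : Subgroup G) ⊓ Q = P :=
      Subgroup.eq_of_le_of_card_ge inf_le_left (by rw [h1, h49 P])
    have hle : (P : Subgroup G) ≤ Q := inf_eq_left.mp this
    exact hPQ (Sylow.ext (P.is_maximal' Q.isPGroup' hle).symm)
  have hne1 : Nat.card ((P : Subgroup G) ⊓ Q : Subgroup G) ≠ 1 := by
    intro h1
    have hstab : MulAction.stabilizer (P : Subgroup G) Q =
        ((P : Subgroup G) ⊓ Q).subgroupOf P := by
      ext g
      rw [MulAction.mem_stabilizer_iff, Subgroup.mem_subgroupOf, Subgroup.smul_def,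
        Sylow.smul_eq_iff_mem_normalizer, ← P.isPGroup'.inf_normalizer_sylow Q,
        Subgroup.mem_inf]
      exact ⟨fun hg => ⟨g.2, hg⟩, fun hg => hg.2⟩
    have hidx := MulAction.index_stabilizer (P : Subgroup G) Q
    have hcs : Nat.card (MulAction.stabilizer (P : Subgroup G) Q) = 1 := by
      rw [hstab, ← h1]
      exact Nat.card_congr (Subgroup.subgroupOfEquivOfLe inf_le_left).toEquiv
    have h2 := Subgroup.index_mul_card (MulAction.stabilizer (P : Subgroup G) Q)
    rw [hcs, mul_one, hidx, h49 P] at h2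
    have h3 := Set.ncard_le_card (MulAction.orbit (P : Subgroup G) Q)
    rw [h.h15, h2] at h3
    omega
  have : Nat.card ((P : Subgroup G) ⊓ Q : Subgroup G) ∈ Nat.divisors 49 :=
    Nat.mem_divisors.mpr ⟨hdvd, by norm_num⟩
  have hd : Nat.divisors 49 = {1, 7, 49} := by decide
  rw [hd] at this
  simp only [Finset.mem_insert, Finset.mem_singleton] at this
  rcases this with h1 | h1 | h1
  · exact absurd h1 hne1
  · exact h1
  · exact absurd h1 hne49

theorem count_mod (h : MinCE G) (D : Subgroup G) (hD : Nat.card D = 7) :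
    Nat.card {Q : Sylow 7 G // D ≤ Q} % 7 = 1 := by
  have hDp : IsPGroup 7 D := IsPGroup.of_card (n := 1) (by simpa using hD)
  have hmod := hDp.card_modEq_card_fixedPoints (Sylow 7 G)
  have heq : Nat.card (MulAction.fixedPoints D (Sylow 7 G)) =
      Nat.card {Q : Sylow 7 G // D ≤ Q} := by
    apply Nat.card_congr
    apply Equiv.subtypeEquivRight
    intro Q
    exact hDp.sylow_mem_fixedPoints_iff
  rw [heq, h.h15] at hmod
  unfold Nat.ModEq at hmod
  omega

theorem count_eq8 (h : MinCE G) (h49 : ∀ P : Sylow 7 G, Nat.card P = 49) (P Q : Sylow 7 G)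
    (hPQ : P ≠ Q) : Nat.card {R : Sylow 7 G // (P : Subgroup G) ⊓ Q ≤ R} = 8 := by
  have h7 := h.inf_card h49 P Q hPQ
  have hmod := h.count_mod _ h7
  have hle : Nat.card {R : Sylow 7 G // (P : Subgroup G) ⊓ Q ≤ R} ≤ 15 :=
    h.h15 ▸ Finite.card_subtype_le _
  have hge : 1 < Nat.card {R : Sylow 7 G // (P : Subgroup G) ⊓ Q ≤ R} := by
    rw [Finite.one_lt_card_iff_nontrivial]
    exact ⟨⟨⟨P, inf_le_left⟩, ⟨Q, inf_le_right⟩, fun hh => hPQ (congrArg Subtype.val hh)⟩⟩
  have hne : Nat.card {R : Sylow 7 G // (P : Subgroup G) ⊓ Q ≤ R} ≠ 15 := by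
    intro h15'
    have hall : ∀ R : Sylow 7 G, (P : Subgroup G) ⊓ Q ≤ R := by
      by_contra hcon
      push Not at hcon
      obtain ⟨R, hR⟩ := hcon
      have := Finite.card_subtype_lt (p := fun R : Sylow 7 G => (P : Subgroup G) ⊓ Q ≤ R) hR
      rw [h.h15, h15'] at this
      exact lt_irrefl _ this
    have hbot : (P : Subgroup G) ⊓ Q = ⊥ := by
      rw [Subgroup.eq_bot_iff_forall]
      intro d hd
      apply h.faithful
      intro R
      rw [Sylow.smul_eq_iff_mem_normalizer]
      exact Subgroup.le_normalizer (hall R hd)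
    rw [hbot] at h7
    simp at h7
  omega

theorem not49 (h : MinCE G) (h49 : ∀ P : Sylow 7 G, Nat.card P = 49) : False := by
  classical
  haveI : Fintype (Sylow 7 G) := Fintype.ofFinite _
  have hcard : Fintype.card (Sylow 7 G) = 15 := by
    rw [← Nat.card_eq_fintype_card]; exact h.h15
  obtain ⟨T, hTdef⟩ : ∃ T : Finset (Sylow 7 G × Sylow 7 G),
      T = (Finset.univ : Finset (Sylow 7 G)).offDiag := ⟨_, rfl⟩
  have hT : T.card = 210 := by
    rw [hTdef, Finset.offDiag_card, Finset.card_univ, hcard]
  obtain ⟨f, hfdef⟩ : ∃ f : Sylow 7 G × Sylow 7 G → Subgroup G,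
      f = fun x => (x.1 : Subgroup G) ⊓ x.2 := ⟨_, rfl⟩
  have hfib : ∀ D ∈ T.image f, (T.filter (fun x => f x = D)).card = 56 := by
    intro D hD
    obtain ⟨⟨P, Q⟩, hPQT, rfl⟩ := Finset.mem_image.mp hD
    have hPQ : P ≠ Q := by
      rw [hTdef] at hPQT
      exact (Finset.mem_offDiag.mp hPQT).2.2
    obtain ⟨S, hSdef⟩ : ∃ S : Finset (Sylow 7 G),
        S = Finset.univ.filter (fun R : Sylow 7 G => (P : Subgroup G) ⊓ Q ≤ R) := ⟨_, rfl⟩
    have hS : S.card = 8 := by
      rw [← h.count_eq8 h49 P Q hPQ, Nat.card_eq_fintype_card, Fintype.card_subtype, hSdef]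
    have : T.filter (fun x => f x = f (P, Q)) = S.offDiag := by
      ext ⟨A, B⟩
      simp only [Finset.mem_filter, Finset.mem_offDiag, Finset.mem_univ, true_and, hTdef,
        hSdef, hfdef]
      constructor
      · rintro ⟨hAB, hinf⟩
        exact ⟨hinf ▸ inf_le_left, hinf ▸ inf_le_right, hAB⟩
      · rintro ⟨hA, hB, hAB⟩
        refine ⟨hAB, ?_⟩
        symm
        apply Subgroup.eq_of_le_of_card_ge (le_inf hA hB)
        rw [h.inf_card h49 A B hAB, h.inf_card h49 P Q hPQ]
    rw [this, Finset.offDiag_card, hS]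
  have hsum := Finset.card_eq_sum_card_fiberwise (f := f) (s := T) (t := T.image f)
    (fun x hx => Finset.mem_image_of_mem f hx)
  rw [Finset.sum_congr rfl hfib, Finset.sum_const, hT] at hsum
  simp only [smul_eq_mul] at hsum
  omega


theorem no_index_two (h : MinCE G) (U : Subgroup G) [U.Normal] (hU : U.index = 2) : False := by
  have := h.normal_top U (by rw [hU]; norm_num)
  rw [this, Subgroup.index_top] at hU
  omega

theorem no_index_five (h : MinCE G) (U : Subgroup G) [U.Normal] (hU : U.index = 5) : False := by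
  have := h.normal_top U (by rw [hU]; norm_num)
  rw [this, Subgroup.index_top] at hU
  omega

theorem final (h : MinCE G) (h7 : ∀ P : Sylow 7 G, Nat.card P = 7) : False := by
  classical
  haveI : Fintype (Sylow 7 G) := Fintype.ofFinite _
  have hcard : Fintype.card (Sylow 7 G) = 15 := by
    rw [← Nat.card_eq_fintype_card]; exact h.h15
  obtain ⟨P⟩ : Nonempty (Sylow 7 G) := inferInstance
  have hP7 := h7 P
  obtain ⟨x', hx'⟩ := exists_prime_orderOf_dvd_card' (G := (P : Subgroup G)) 7 (by rw [hP7])
  obtain ⟨x, hxdef⟩ : ∃ x : G, x = (x' : G) := ⟨_, rfl⟩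
  have hxP : x ∈ (P : Subgroup G) := hxdef ▸ x'.2
  have hox : orderOf x = 7 := by rw [hxdef, Subgroup.orderOf_coe, hx']
  have hzp : Subgroup.zpowers x = (P : Subgroup G) :=
    Subgroup.eq_of_le_of_card_ge (Subgroup.zpowers_le.mpr hxP)
      (by rw [Nat.card_zpowers, hox, hP7])
  -- unique fixed point of `P`
  have huniq : ∀ Q : Sylow 7 G, (∀ g ∈ (P : Subgroup G), g • Q = Q) → Q = P := by
    intro Q hQ
    have hle : (P : Subgroup G) ≤ Q :=
      (P.isPGroup'.sylow_mem_fixedPoints_iff (Q := Q)).mp
        (fun g => by rw [Subgroup.smul_def]; exact hQ g g.2)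
    exact Sylow.ext (P.is_maximal' Q.isPGroup' hle)
  have hPfix : ∀ g ∈ (P : Subgroup G), g • P = P := by
    intro g hg
    rw [Sylow.smul_eq_iff_mem_normalizer]
    exact Subgroup.le_normalizer hg
  have hxfix : ∀ Q : Sylow 7 G, x • Q = Q → Q = P := by
    intro Q hQ
    apply huniq
    intro g hg
    have hxs : x ∈ MulAction.stabilizer G Q := MulAction.mem_stabilizer_iff.mpr hQ
    have : Subgroup.zpowers x ≤ MulAction.stabilizer G Q := Subgroup.zpowers_le.mpr hxs
    rw [hzp] at this
    exact MulAction.mem_stabilizer_iff.mp (this hg)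
  -- the permutation `σ`
  obtain ⟨σ, hσdef⟩ : ∃ σ : Equiv.Perm (Sylow 7 G),
      σ = MulAction.toPermHom G (Sylow 7 G) x := ⟨_, rfl⟩
  have hσapp : ∀ Q : Sylow 7 G, σ Q = x • Q := by
    intro Q; rw [hσdef]; rfl
  have hoσ : orderOf σ = 7 := by
    rw [hσdef, orderOf_injective _ h.inj x, hox]
  have hfix1 : Nat.card (Function.fixedPoints σ) = 1 := by
    rw [Nat.card_eq_one_iff_unique]
    refine ⟨⟨?_⟩, ⟨⟨P, ?_⟩⟩⟩
    · rintro ⟨a, ha⟩ ⟨b, hb⟩
      apply Subtype.ext
      have ha' : a = P := hxfix a (by rw [← hσapp]; exact ha)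
      have hb' : b = P := hxfix b (by rw [← hσapp]; exact hb)
      change a = b
      rw [ha', hb']
    · change σ P = P
      rw [hσapp]
      exact hPfix x hxP
  have hfp := Equiv.Perm.card_fixedPoints σ
  rw [← Nat.card_eq_fintype_card, hfix1, hcard] at hfp
  have hsle := Equiv.Perm.sum_cycleType_le σ
  rw [hcard] at hsle
  have hsum : σ.cycleType.sum = 14 := by omega
  obtain ⟨n, hn⟩ := Equiv.Perm.cycleType_prime_order (σ := σ) (by rw [hoσ]; norm_num)
  rw [hoσ] at hn
  have hn1 : n = 1 := by
    rw [hn, Multiset.sum_replicate, smul_eq_mul] at hsum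
    omega
  subst hn1
  have hcent : Nat.card (Subgroup.centralizer {σ}) = 98 := by
    rw [Equiv.Perm.nat_card_centralizer, hcard, hn]
    decide
  -- centralizer of `x` in `G`
  have hCx : Nat.card (Subgroup.centralizer ({x} : Set G)) ∣ 98 := by
    rw [← hcent, ← Subgroup.card_map_of_injective h.inj]
    apply Subgroup.card_dvd_of_le
    rintro _ ⟨g, hg, rfl⟩
    rw [Subgroup.mem_centralizer_iff]
    intro τ hτ
    rw [Set.mem_singleton_iff] at hτ
    rw [hτ, hσdef, ← map_mul, ← map_mul]
    congr 1
    exact (Subgroup.mem_centralizer_iff.mp hg) x (Set.mem_singleton x)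
  obtain ⟨C, hCdef⟩ : ∃ C : Subgroup G, C = Subgroup.centralizer ((P : Subgroup G) : Set G) :=
    ⟨_, rfl⟩
  have hCle : C ≤ Subgroup.centralizer ({x} : Set G) := by
    rw [hCdef]
    apply Subgroup.centralizer_le
    intro y hy
    rw [Set.mem_singleton_iff] at hy
    rw [hy]; exact hxP
  have hC98 : Nat.card C ∣ 98 := (Subgroup.card_dvd_of_le hCle).trans hCx
  have hG49 : ¬ 49 ∣ Nat.card G := by
    intro hdvd
    have h1 := Subgroup.index_mul_card (P : Subgroup G)
    rw [hP7] at h1
    rw [← h1] at hdvd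
    have : 7 ∣ (P : Subgroup G).index := by
      have : 7 * 7 ∣ (P : Subgroup G).index * 7 := by simpa using hdvd
      exact Nat.dvd_of_mul_dvd_mul_right (by norm_num) this
    exact P.not_dvd_index this
  have hC49 : ¬ 49 ∣ Nat.card C := fun hd => hG49 (hd.trans (Subgroup.card_subgroup_dvd_card C))
  have hC14 : Nat.card C ∣ 14 := by
    have hmem : Nat.card C ∈ Nat.divisors 98 := Nat.mem_divisors.mpr ⟨hC98, by norm_num⟩
    have hd : Nat.divisors 98 = {1, 2, 7, 14, 49, 98} := by decide
    rw [hd] at hmem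
    simp only [Finset.mem_insert, Finset.mem_singleton] at hmem
    rcases hmem with h1 | h1 | h1 | h1 | h1 | h1 <;> rw [h1] at hC49 ⊢ <;> revert hC49 <;> norm_num
  -- normalizer
  obtain ⟨N, hNdef⟩ : ∃ N : Subgroup G, N = Subgroup.normalizer ((P : Subgroup G) : Set G) :=
    ⟨_, rfl⟩
  have hNidx : N.index = 15 := by
    rw [hNdef]
    exact (Sylow.card_eq_index_normalizer P).symm.trans h.h15
  have hCN : C ≤ N := by
    rw [hCdef, hNdef]; exact Subgroup.centralizer_le_normalizer _
  have hcycP : IsCyclic (P : Subgroup G) := isCyclic_of_prime_card hP7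
  have hk6 : C.relIndex N ∣ 6 := by
    have key := Subgroup.card_dvd_of_injective _
      (QuotientGroup.kerLift_injective (P : Subgroup G).normalizerMonoidHom)
    rw [normalizerMonoidHom_ker, ← index, ← relIndex] at key
    rw [hcycP.card_mulAut, hP7, Nat.totient_prime (by norm_num)] at key
    rw [hCdef, hNdef]
    exact key
  have hNcard : Nat.card C * C.relIndex N = Nat.card N := by
    have := Subgroup.relIndex_mul_relIndex ⊥ C N bot_le hCN
    rw [Subgroup.relIndex_bot_left, Subgroup.relIndex_bot_left] at this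
    exact this
  have hGcard : Nat.card G = 15 * (Nat.card C * C.relIndex N) := by
    rw [hNcard, ← hNidx, Subgroup.index_mul_card]
  by_cases h2C : 2 ∣ Nat.card C
  · -- an involution centralizing `P`
    obtain ⟨z', hz'⟩ := exists_prime_orderOf_dvd_card' (G := C) 2 h2C
    obtain ⟨z, hzdef⟩ : ∃ z : G, z = (z' : G) := ⟨_, rfl⟩
    have hzC : z ∈ C := hzdef ▸ z'.2
    have hoz : orderOf z = 2 := by rw [hzdef, Subgroup.orderOf_coe, hz']
    have hz2 : z ^ 2 = 1 := by rw [← hoz]; exact pow_orderOf_eq_one z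
    have hzP : z • P = P := by
      rw [Sylow.smul_eq_iff_mem_normalizer]
      exact hNdef ▸ hCN hzC
    have hmod := card_fixed_modEq_one (p := 7) (P : Subgroup G) P.isPGroup' z (hCdef ▸ hzC) P
      hzP hPfix huniq
    have hle : Nat.card {ω : Sylow 7 G // z • ω = ω} ≤ 15 :=
      h.h15 ▸ Finite.card_subtype_le _
    have hne15 : Nat.card {ω : Sylow 7 G // z • ω = ω} ≠ 15 := by
      intro h15'
      have hall : ∀ R : Sylow 7 G, z • R = R := by
        by_contra hcon
        push Not at hcon
        obtain ⟨R, hR⟩ := hcon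
        have := Finite.card_subtype_lt (p := fun R : Sylow 7 G => z • R = R) hR
        rw [h.h15, h15'] at this
        exact lt_irrefl _ this
      have := h.faithful z hall
      rw [this, orderOf_one] at hoz
      omega
    obtain ⟨τ, hτdef⟩ : ∃ τ : Equiv.Perm (Sylow 7 G),
        τ = MulAction.toPermHom G (Sylow 7 G) z := ⟨_, rfl⟩
    have hτ2 : τ ^ 2 = 1 := by rw [hτdef, ← map_pow, hz2, map_one]
    have hne8 : Nat.card {ω : Sylow 7 G // z • ω = ω} ≠ 8 := by
      intro h8
      have hfpτ := Equiv.Perm.card_fixedPoints τ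
      have he : Nat.card (Function.fixedPoints τ) = Nat.card {ω : Sylow 7 G // z • ω = ω} := by
        apply Nat.card_congr
        apply Equiv.subtypeEquivRight
        intro Q
        rw [hτdef]
        exact Iff.rfl
      rw [← Nat.card_eq_fintype_card, he, h8, hcard, Equiv.Perm.sum_cycleType] at hfpτ
      have h2 := Equiv.Perm.two_dvd_card_support hτ2
      have hsl := Finset.card_le_univ τ.support
      rw [hcard] at hsl
      omega
    have hone : Nat.card {ω : Sylow 7 G // z • ω = ω} = 1 := by
      unfold Nat.ModEq at hmod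
      omega
    obtain ⟨U, hUn, hU2⟩ := exists_index_two_of_fixed (Ω := Sylow 7 G) z hz2 hcard hone
    exact h.no_index_two U hU2
  · have hC7 : Nat.card C ∣ 7 := by
      have hcop : Nat.Coprime (Nat.card C) 2 := by
        rw [Nat.coprime_comm]
        exact (Nat.Prime.coprime_iff_not_dvd Nat.prime_two).mpr h2C
      have : Nat.card C ∣ 2 * 7 := by simpa using hC14
      exact hcop.dvd_of_dvd_mul_left this
    have hG630 : Nat.card G ∣ 630 := by
      rw [hGcard]
      have : (630 : ℕ) = 15 * (7 * 6) := by norm_num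
      rw [this]
      exact Nat.mul_dvd_mul_left 15 (Nat.mul_dvd_mul hC7 hk6)
    by_cases h2G : 2 ∣ Nat.card G
    · have h4 : ¬ 2 ^ 2 ∣ Nat.card G := by
        intro h4
        have := h4.trans hG630
        revert this
        norm_num
      obtain ⟨R⟩ : Nonempty (Sylow 2 G) := inferInstance
      have hR := sylow_card_prime R h2G h4
      obtain ⟨U, hUn, hU2⟩ := exists_normal_index_prime R hR (by simp)
      exact h.no_index_two U hU2
    · have h5 : 5 ∣ Nat.card G := by
        rw [hGcard]
        exact ⟨3 * (Nat.card C * C.relIndex N), by ring⟩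
      have h25 : ¬ 5 ^ 2 ∣ Nat.card G := by
        intro h25
        have := h25.trans hG630
        revert this
        norm_num
      obtain ⟨R⟩ : Nonempty (Sylow 5 G) := inferInstance
      have hR := sylow_card_prime R h5 h25
      have hcop : Nat.Coprime (Nat.card G) (5 - 1) := by
        have h2 : Nat.Coprime (Nat.card G) 2 := by
          rw [Nat.coprime_comm]
          exact (Nat.Prime.coprime_iff_not_dvd Nat.prime_two).mpr h2G
        have : (5 - 1 : ℕ) = 2 ^ 2 := by norm_num
        rw [this]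
        exact Nat.Coprime.pow_right 2 h2
      obtain ⟨U, hUn, hU5⟩ := exists_normal_index_prime R hR hcop
      exact h.no_index_five U hU5

theorem absurd (h : MinCE G) : False := by
  obtain ⟨P⟩ : Nonempty (Sylow 7 G) := inferInstance
  rcases h.sylow_card P with h7 | h49
  · exact h.final (fun Q => (sylow_card_eq Q P).trans h7)
  · exact h.not49 (fun Q => (sylow_card_eq Q P).trans h49)

end MinCE

theorem main_aux : ∀ (n : ℕ) (G : Type u) [Group G] [Finite G], Nat.card G = n →
    Nat.card (Sylow 7 G) ≠ 15 := by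
  intro n
  induction n using Nat.strong_induction_on with
  | _ n ih =>
    intro G _ _ hn h15
    exact MinCE.absurd (G := G) ⟨h15, fun H _ _ hlt => ih (Nat.card H) (hn ▸ hlt) H rfl⟩

theorem main (G : Type u) [Group G] [Finite G] : Nat.card (Sylow 7 G) ≠ 15 :=
  main_aux _ G rfl

end Cfsg.Agent.helper19.N15
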