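import Mathlib
import Cfsg.Agent.Lib_helper19_N15a

set_option autoImplicit false
set_option linter.style.haveILetI false
set_option linter.deprecated false
set_option linter.unusedVariables false
set_option linter.unusedSectionVars false

namespace Cfsg.Agent.helper19.N21

open Subgroup

universe u

variable {G : Type*} [Group G] [Finite G]

/-- Sign of a permutation of order dividing 4 all of whose `σ²`-fixed points are `σ`-fixed. -/
theorem sign_of_pow_four {α : Type*} [Fintype α] [DecidableEq α] (σ : Equiv.Perm α)
    (h4 : σ ^ 4 = 1) (hfix : ∀ a : α, (σ ^ 2) a = a → σ a = a) :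
    Equiv.Perm.sign σ =
      (-1) ^ ((Fintype.card α - Fintype.card (Function.fixedPoints σ)) / 4) := by
  have hct : σ.cycleType = Multiset.replicate σ.cycleType.card 4 := by
    apply Multiset.eq_replicate.mpr ⟨rfl, ?_⟩
    intro n hn
    have h1 : n ∣ 4 :=
      (Equiv.Perm.dvd_of_mem_cycleType hn).trans (orderOf_dvd_of_pow_eq_one h4)
    have h2 : 1 < n := Equiv.Perm.one_lt_of_mem_cycleType hn
    have h3 : n ≠ 2 := by
      rintro rfl
      obtain ⟨c, τ, rfl, hd, hc, hcard⟩ := Equiv.Perm.mem_cycleType_iff.mp hn
      have hne : c.support.Nonempty := by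
        rw [← Finset.card_pos, hcard]; norm_num
      obtain ⟨a, ha⟩ := hne
      have hca : c a ≠ a := Equiv.Perm.mem_support.mp ha
      have hτa : τ a = a := by
        rcases hd a with h | h
        · exact absurd h hca
        · exact h
      have hτca : τ (c a) = c a := by
        rcases hd (c a) with h | h
        · exact absurd (c.injective h) hca
        · exact h
      have hc2 : c (c a) = a := by
        have ho : orderOf c = 2 := by rw [hc.orderOf, hcard]
        have hsq : c ^ 2 = 1 := by rw [← ho]; exact pow_orderOf_eq_one c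
        have := congrArg (fun p : Equiv.Perm α => p a) hsq
        simpa [sq] using this
      have := hfix a (by
        simp only [sq, Equiv.Perm.mul_apply]
        rw [hτa, hτca, hc2])
      rw [Equiv.Perm.mul_apply, hτa] at this
      exact hca this
    have : n ≤ 4 := Nat.le_of_dvd (by norm_num) h1
    interval_cases n
    · exact absurd rfl h3
    · norm_num at h1
    · rfl
  rw [Equiv.Perm.sign_of_cycleType_eq_replicate (by norm_num) hct]
  rw [if_neg (by decide)]

/-- An involution acting with an odd number of transpositions gives a subgroup of index 2. -/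
theorem exists_index_two_of_invol {Ω : Type*} [Fintype Ω] [DecidableEq Ω] [MulAction G Ω]
    (z : G) (hz2 : z ^ 2 = 1)
    (hodd : Odd ((Fintype.card Ω - Nat.card {ω : Ω // z • ω = ω}) / 2)) :
    ∃ U : Subgroup G, U.Normal ∧ U.index = 2 := by
  apply Cfsg.Agent.helper19.N15.exists_index_two_of_sign (MulAction.toPermHom G Ω) z
  have h2 : (MulAction.toPermHom G Ω z) ^ 2 = 1 := by
    rw [← map_pow, hz2, map_one]
  rw [Equiv.Perm.sign_of_pow_two_eq_one h2]
  have : Fintype.card (Function.fixedPoints (MulAction.toPermHom G Ω z)) =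
      Nat.card {ω : Ω // z • ω = ω} := by
    rw [← Nat.card_eq_fintype_card]
    exact Nat.card_congr (Equiv.subtypeEquivRight (fun _ => Iff.rfl))
  rw [this]
  exact hodd.neg_one_pow

/-- An element of order dividing 4 acting with an odd number of 4-cycles and no 2-cycles. -/
theorem exists_index_two_of_four {Ω : Type*} [Fintype Ω] [DecidableEq Ω] [MulAction G Ω]
    (w : G) (hw4 : w ^ 4 = 1) (hfix : ∀ ω : Ω, (w ^ 2) • ω = ω → w • ω = ω)
    (hodd : Odd ((Fintype.card Ω - Nat.card {ω : Ω // w • ω = ω}) / 4)) :
    ∃ U : Subgroup G, U.Normal ∧ U.index = 2 := by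
  apply Cfsg.Agent.helper19.N15.exists_index_two_of_sign (MulAction.toPermHom G Ω) w
  have h4 : (MulAction.toPermHom G Ω w) ^ 4 = 1 := by
    rw [← map_pow, hw4, map_one]
  rw [sign_of_pow_four _ h4]
  · have : Fintype.card (Function.fixedPoints (MulAction.toPermHom G Ω w)) =
        Nat.card {ω : Ω // w • ω = ω} := by
      rw [← Nat.card_eq_fintype_card]
      exact Nat.card_congr (Equiv.subtypeEquivRight (fun _ => Iff.rfl))
    rw [this]
    exact hodd.neg_one_pow
  · intro a ha
    have : (w ^ 2) • a = a := by
      rw [← map_pow] at ha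
      exact ha
    exact hfix a this

theorem smul_mk_eq_iff (M : Subgroup G) (y g : G) :
    y • (QuotientGroup.mk g : G ⧸ M) = QuotientGroup.mk g ↔ g⁻¹ * y * g ∈ M := by
  rw [MulAction.Quotient.smul_mk, QuotientGroup.eq]
  constructor
  · intro h
    have := M.inv_mem h
    simpa [mul_assoc] using this
  · intro h
    have := M.inv_mem h
    simpa [mul_assoc] using this

/-- Thompson-transfer type lemma for an involution. -/
theorem exists_index_two_of_coset_invol (M : Subgroup G) (y : G) (hy2 : y ^ 2 = 1)
    (hidx : M.index % 4 = 2) (hnc : ∀ g : G, g⁻¹ * y * g ∉ M) :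
    ∃ U : Subgroup G, U.Normal ∧ U.index = 2 := by
  classical
  haveI : Fintype (G ⧸ M) := Fintype.ofFinite _
  have hcard : Fintype.card (G ⧸ M) = M.index := by
    rw [← Nat.card_eq_fintype_card, Subgroup.index_eq_card]
  have hfix : Nat.card {q : G ⧸ M // y • q = q} = 0 := by
    rw [Nat.card_eq_zero]
    left
    constructor
    rintro ⟨q, hq⟩
    induction q using QuotientGroup.induction_on with
    | H g => exact hnc g ((smul_mk_eq_iff M y g).mp hq)
  apply exists_index_two_of_invol (Ω := G ⧸ M) y hy2
  rw [hfix, hcard]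
  rw [Nat.odd_iff]
  omega

/-- Thompson-transfer type lemma for an element of order 4. -/
theorem exists_index_two_of_coset_four (M : Subgroup G) (y : G) (hy4 : y ^ 4 = 1)
    (hidx : M.index % 8 = 4) (hnc : ∀ g : G, g⁻¹ * y ^ 2 * g ∉ M) :
    ∃ U : Subgroup G, U.Normal ∧ U.index = 2 := by
  classical
  haveI : Fintype (G ⧸ M) := Fintype.ofFinite _
  have hcard : Fintype.card (G ⧸ M) = M.index := by
    rw [← Nat.card_eq_fintype_card, Subgroup.index_eq_card]
  have hno2 : ∀ q : G ⧸ M, (y ^ 2) • q ≠ q := by
    intro q hq
    induction q using QuotientGroup.induction_on with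
    | H g => exact hnc g ((smul_mk_eq_iff M (y ^ 2) g).mp hq)
  have hfix : Nat.card {q : G ⧸ M // y • q = q} = 0 := by
    rw [Nat.card_eq_zero]
    left
    constructor
    rintro ⟨q, hq⟩
    apply hno2 q
    rw [sq, mul_smul, hq, hq]
  apply exists_index_two_of_four (Ω := G ⧸ M) y hy4
  · intro q hq
    exact absurd hq (hno2 q)
  · rw [hfix, hcard]
    rw [Nat.odd_iff]
    omega

end Cfsg.Agent.helper19.N21
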