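import Mathlib
import Cfsg.Agent.Lib_helper19_N21a

set_option autoImplicit false
set_option linter.style.haveILetI false
set_option linter.deprecated false
set_option linter.unusedVariables false
set_option linter.unusedSectionVars false

namespace Cfsg.Agent.helper19.N21

open Subgroup

universe u

attribute [local instance] Cfsg.Agent.helper19.N15.fact7 Cfsg.Agent.helper19.N15.fact5

/-- A minimal counterexample to "no group has exactly 21 Sylow 5-subgroups". -/
structure MinCE (G : Type u) [Group G] [Finite G] : Prop where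
  h21 : Nat.card (Sylow 5 G) = 21
  ih : ∀ (H : Type u) [Group H] [Finite H], Nat.card H < Nat.card G →
    Nat.card (Sylow 5 H) ≠ 21

variable {G : Type u} [Group G] [Finite G]

namespace MinCE

theorem faithful (h : MinCE G) (g : G) (hg : ∀ Q : Sylow 5 G, g • Q = Q) : g = 1 := by
  let K : Subgroup G := (MulAction.toPermHom G (Sylow 5 G)).ker
  have hKn : K.Normal := inferInstance
  have hmem : ∀ k : G, k ∈ K ↔ ∀ Q : Sylow 5 G, k • Q = Q := by
    intro k
    rw [MonoidHom.mem_ker]
    constructor
    · intro hk Q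
      have := congrArg (fun σ : Equiv.Perm (Sylow 5 G) => σ Q) hk
      simpa using this
    · intro hk
      apply Equiv.ext
      intro Q
      simpa using hk Q
  by_contra hne
  have hgK : g ∈ K := (hmem g).mpr hg
  have hKbot : K ≠ ⊥ := fun hb => hne (by rw [hb] at hgK; exact Subgroup.mem_bot.mp hgK)
  obtain ⟨P⟩ : Nonempty (Sylow 5 G) := inferInstance
  have hKle : K ≤ normalizer ((P : Subgroup G) : Set G) := by
    intro k hk
    exact Sylow.smul_eq_iff_mem_normalizer.mp ((hmem k).mp hk P)
  have hq := Cfsg.Agent.helper19.N15.card_sylow_quot_of_le_normalizer P K hKle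
  have hlt : Nat.card (G ⧸ K) < Nat.card G := by
    have h1 := Subgroup.index_mul_card K
    rw [Subgroup.index_eq_card] at h1
    have h2 : 1 < Nat.card K := (Subgroup.one_lt_card_iff_ne_bot K).mpr hKbot
    have h3 : 0 < Nat.card (G ⧸ K) := Nat.card_pos
    nlinarith
  exact h.ih (G ⧸ K) hlt (hq.trans h.h21)

theorem inj (h : MinCE G) : Function.Injective (MulAction.toPermHom G (Sylow 5 G)) := by
  rw [injective_iff_map_eq_one]
  intro g hg
  apply h.faithful
  intro Q
  have := congrArg (fun σ : Equiv.Perm (Sylow 5 G) => σ Q) hg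
  simpa using this

theorem normal_top (h : MinCE G) (U : Subgroup G) [U.Normal] (hU : ¬ 5 ∣ U.index) :
    U = ⊤ := by
  by_contra hne
  have h1 := Cfsg.Agent.helper19.N15.card_sylow_of_normal 5 U hU
  have hlt : Nat.card U < Nat.card G := by
    have := Subgroup.card_le_card_group U
    rcases this.lt_or_eq with h | h
    · exact h
    · exact absurd ((Subgroup.card_eq_iff_eq_top U).mp h) hne
  exact h.ih U hlt (h1.trans h.h21)

theorem no_index_two (h : MinCE G) : ¬ ∃ U : Subgroup G, U.Normal ∧ U.index = 2 := by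
  rintro ⟨U, hUn, hU⟩
  have := h.normal_top U (by rw [hU]; norm_num)
  rw [this, Subgroup.index_top] at hU
  omega

theorem sylow_card_eq (P Q : Sylow 5 G) : Nat.card P = Nat.card Q := by
  rw [Sylow.card_eq_multiplicity, Sylow.card_eq_multiplicity]

theorem fix_unique (P Q : Sylow 5 G) (hQ : ∀ g ∈ (P : Subgroup G), g • Q = Q) : Q = P := by
  have hle : (P : Subgroup G) ≤ Q :=
    (P.isPGroup'.sylow_mem_fixedPoints_iff (Q := Q)).mp
      (fun g => by rw [Subgroup.smul_def]; exact hQ g g.2)
  exact Sylow.ext (P.is_maximal' Q.isPGroup' hle)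

theorem count_mod (h : MinCE G) (D : Subgroup G) (hDp : IsPGroup 5 D) :
    Nat.card {Q : Sylow 5 G // D ≤ Q} % 5 = 1 := by
  have hmod := hDp.card_modEq_card_fixedPoints (Sylow 5 G)
  have heq : Nat.card (MulAction.fixedPoints D (Sylow 5 G)) =
      Nat.card {Q : Sylow 5 G // D ≤ Q} := by
    apply Nat.card_congr
    apply Equiv.subtypeEquivRight
    intro Q
    exact hDp.sylow_mem_fixedPoints_iff
  rw [heq, h.h21] at hmod
  unfold Nat.ModEq at hmod
  omega

/-- Any two distinct Sylow 5-subgroups meet in a subgroup of index 5. -/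
theorem inf_card (h : MinCE G) (P Q : Sylow 5 G) (hPQ : P ≠ Q) :
    Nat.card ((P : Subgroup G) ⊓ Q : Subgroup G) * 5 = Nat.card P := by
  have hstab : MulAction.stabilizer (P : Subgroup G) Q =
      ((P : Subgroup G) ⊓ Q).subgroupOf P := by
    ext g
    rw [MulAction.mem_stabilizer_iff, Subgroup.mem_subgroupOf, Subgroup.smul_def,
      Sylow.smul_eq_iff_mem_normalizer, ← P.isPGroup'.inf_normalizer_sylow Q,
      Subgroup.mem_inf]
    exact ⟨fun hg => ⟨g.2, hg⟩, fun hg => hg.2⟩
  have hidx := MulAction.index_stabilizer (P : Subgroup G) Q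
  have hcs : Nat.card (MulAction.stabilizer (P : Subgroup G) Q) =
      Nat.card ((P : Subgroup G) ⊓ Q : Subgroup G) := by
    rw [hstab]
    exact Nat.card_congr (Subgroup.subgroupOfEquivOfLe inf_le_left).toEquiv
  have h2 := Subgroup.index_mul_card (MulAction.stabilizer (P : Subgroup G) Q)
  rw [hcs] at h2
  have h3 := Set.ncard_le_card (MulAction.orbit (P : Subgroup G) Q)
  rw [h.h21, ← hidx] at h3
  obtain ⟨e, he⟩ := P.isPGroup'.exists_card_eq
  have hdvd : (MulAction.stabilizer (P : Subgroup G) Q).index ∣ 5 ^ e := by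
    rw [← he, ← h2]; exact dvd_mul_right _ _
  obtain ⟨i, hie, hi⟩ := (Nat.dvd_prime_pow (by norm_num : Nat.Prime 5)).mp hdvd
  have hi1 : i ≤ 1 := by
    by_contra hcon
    push Not at hcon
    have : 5 ^ 2 ≤ 5 ^ i := Nat.pow_le_pow_right (by norm_num) hcon
    rw [hi] at h3
    omega
  interval_cases i
  · exfalso
    rw [pow_zero, Subgroup.index_eq_one] at hi
    apply hPQ
    symm
    apply fix_unique
    intro g hg
    have : (⟨g, hg⟩ : (P : Subgroup G)) ∈ MulAction.stabilizer (P : Subgroup G) Q := by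
      rw [hi]; exact Subgroup.mem_top _
    rw [MulAction.mem_stabilizer_iff, Subgroup.smul_def] at this
    exact this
  · rw [hi] at h2
    rw [← h2]; ring

/-- The Sylow 5-subgroups have order 5. -/
theorem card_five (h : MinCE G) (P : Sylow 5 G) : Nat.card P = 5 := by
  classical
  haveI : Fintype (Sylow 5 G) := Fintype.ofFinite _
  have hcard : Fintype.card (Sylow 5 G) = 21 := by
    rw [← Nat.card_eq_fintype_card]; exact h.h21
  by_contra hne
  -- two distinct Sylow subgroups
  have hnt : Nontrivial (Sylow 5 G) := by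
    rw [← Finite.one_lt_card_iff_nontrivial, h.h21]; norm_num
  obtain ⟨P₁, Q₁, hPQ⟩ := hnt
  obtain ⟨D, hDdef⟩ : ∃ D : Subgroup G, D = (P₁ : Subgroup G) ⊓ Q₁ := ⟨_, rfl⟩
  have hDcard : Nat.card D * 5 = Nat.card P := by
    rw [hDdef, h.inf_card P₁ Q₁ hPQ, sylow_card_eq]
  have hDne : D ≠ ⊥ := by
    intro hb
    rw [hb] at hDcard
    simp at hDcard
    exact hne hDcard.symm
  have hDp : IsPGroup 5 D := hDdef ▸ P₁.isPGroup'.to_le inf_le_left
  -- all intersections have the same order
  have hinf : ∀ A B : Sylow 5 G, A ≠ B →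
      Nat.card ((A : Subgroup G) ⊓ B : Subgroup G) = Nat.card D := by
    intro A B hAB
    have h1 := h.inf_card A B hAB
    rw [sylow_card_eq A P, ← hDcard] at h1
    omega
  -- the line through `P₁, Q₁`
  obtain ⟨L, hLdef⟩ : ∃ L : Finset (Sylow 5 G),
      L = Finset.univ.filter (fun R : Sylow 5 G => D ≤ R) := ⟨_, rfl⟩
  have hline : ∀ E : Subgroup G, IsPGroup 5 E → ∀ A B : Sylow 5 G, A ≠ B → E ≤ A → E ≤ B →
      6 ≤ (Finset.univ.filter (fun R : Sylow 5 G => E ≤ R)).card := by
    intro E hE A B hAB hEA hEB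
    have hm := h.count_mod E hE
    rw [Nat.card_eq_fintype_card, Fintype.card_subtype] at hm
    have h2 : 2 ≤ (Finset.univ.filter (fun R : Sylow 5 G => E ≤ R)).card := by
      have hsub : ({A, B} : Finset (Sylow 5 G)) ⊆
          Finset.univ.filter (fun R : Sylow 5 G => E ≤ R) := by
        intro R hR
        simp only [Finset.mem_insert, Finset.mem_singleton] at hR
        rcases hR with rfl | rfl
        · simp [hEA]
        · simp [hEB]
      have := Finset.card_le_card hsub
      rwa [Finset.card_pair hAB] at this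
    omega
  have hL6 : 6 ≤ L.card := by
    rw [hLdef]
    exact hline D hDp P₁ Q₁ hPQ (hDdef ▸ inf_le_left) (hDdef ▸ inf_le_right)
  -- a point off the line
  have hx : ∃ x : Sylow 5 G, ¬ D ≤ x := by
    by_contra hcon
    push Not at hcon
    apply hDne
    rw [Subgroup.eq_bot_iff_forall]
    intro d hd
    apply h.faithful
    intro R
    rw [Sylow.smul_eq_iff_mem_normalizer]
    exact Subgroup.le_normalizer (hcon R hd)
  obtain ⟨x, hxD⟩ := hx
  have hxS : ∀ S ∈ L, x ≠ S := by
    intro S hS hxS
    rw [hLdef, Finset.mem_filter] at hS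
    exact hxD (hxS ▸ hS.2)
  obtain ⟨B, hBdef⟩ : ∃ B : Sylow 5 G → Finset (Sylow 5 G),
      B = fun S : Sylow 5 G =>
        (Finset.univ.filter (fun y : Sylow 5 G => (x : Subgroup G) ⊓ (S : Subgroup G) ≤ y)).erase x :=
    ⟨_, rfl⟩
  have hB5 : ∀ S ∈ L, 5 ≤ (B S).card := by
    intro S hS
    have h6 := hline ((x : Subgroup G) ⊓ S) (x.isPGroup'.to_le inf_le_left) x S (hxS S hS)
      inf_le_left inf_le_right
    rw [hBdef]
    have : x ∈ Finset.univ.filter (fun y : Sylow 5 G => (x : Subgroup G) ⊓ S ≤ y) := by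
      simp
    rw [Finset.card_erase_of_mem this]
    omega
  have hdisj : ∀ S ∈ L, ∀ S' ∈ L, S ≠ S' → Disjoint (B S) (B S') := by
    intro S hS S' hS' hSS'
    rw [Finset.disjoint_left]
    intro y hy hy'
    rw [hBdef] at hy hy'
    simp only [Finset.mem_erase, Finset.mem_filter, Finset.mem_univ, true_and] at hy hy'
    obtain ⟨hyx, hyS⟩ := hy
    obtain ⟨_, hyS'⟩ := hy'
    have hxy : x ≠ y := fun hh => hyx hh.symm
    have e1 : (x : Subgroup G) ⊓ S = (x : Subgroup G) ⊓ y := by
      apply Subgroup.eq_of_le_of_card_ge (le_inf inf_le_left hyS)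
      rw [hinf x S (hxS S hS), hinf x y hxy]
    have e2 : (x : Subgroup G) ⊓ S' = (x : Subgroup G) ⊓ y := by
      apply Subgroup.eq_of_le_of_card_ge (le_inf inf_le_left hyS')
      rw [hinf x S' (hxS S' hS'), hinf x y hxy]
    have e3 : (x : Subgroup G) ⊓ S = (S : Subgroup G) ⊓ S' := by
      apply Subgroup.eq_of_le_of_card_ge
      · apply le_inf inf_le_right
        rw [e1, ← e2]; exact inf_le_right
      · rw [hinf x S (hxS S hS), hinf S S' hSS']
    have hS1 : D ≤ S := by rw [hLdef, Finset.mem_filter] at hS; exact hS.2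
    have hS2 : D ≤ S' := by rw [hLdef, Finset.mem_filter] at hS'; exact hS'.2
    have e4 : D = (S : Subgroup G) ⊓ S' := by
      apply Subgroup.eq_of_le_of_card_ge (le_inf hS1 hS2)
      rw [hinf S S' hSS']
    apply hxD
    rw [e4, ← e3]
    exact inf_le_left
  have hunion : (L.biUnion B).card = ∑ S ∈ L, (B S).card := by
    apply Finset.card_biUnion
    intro S hS S' hS' hne'
    exact hdisj S hS S' hS' hne'
  have hsum : 30 ≤ ∑ S ∈ L, (B S).card := by
    have : ∑ S ∈ L, 5 ≤ ∑ S ∈ L, (B S).card := Finset.sum_le_sum hB5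
    rw [Finset.sum_const, smul_eq_mul] at this
    omega
  have hsub : L.biUnion B ⊆ Finset.univ.erase x := by
    intro y hy
    rw [Finset.mem_biUnion] at hy
    obtain ⟨S, _, hyS⟩ := hy
    rw [hBdef] at hyS
    simp only [Finset.mem_erase, Finset.mem_filter, Finset.mem_univ, true_and] at hyS
    simp [hyS.1]
  have hle := Finset.card_le_card hsub
  rw [Finset.card_erase_of_mem (Finset.mem_univ x), Finset.card_univ, hcard, hunion] at hle
  omega

end MinCE

end Cfsg.Agent.helper19.N21
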