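import Mathlib
import Cfsg.Agent.Lib_helper19_N21b

set_option autoImplicit false
set_option linter.style.haveILetI false
set_option linter.deprecated false
set_option linter.unusedVariables false
set_option linter.unusedSectionVars false

namespace Cfsg.Agent.helper19.N21

open Subgroup

universe u

attribute [local instance] Cfsg.Agent.helper19.N15.fact7 Cfsg.Agent.helper19.N15.fact5

theorem dvd_120 (c : ℕ) (h1 : c ∣ 15000) (h2 : ¬ 25 ∣ c) : c ∣ 120 := by
  have hc0 : c ≠ 0 := by
    rintro rfl
    simp at h1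
  obtain ⟨e, c', hc', hce⟩ := Nat.exists_eq_pow_mul_and_not_dvd hc0 5 (by norm_num)
  have he : e ≤ 1 := by
    by_contra hcon
    push Not at hcon
    apply h2
    rw [hce]
    exact Dvd.dvd.mul_right (pow_dvd_pow 5 hcon) c'
  have hcop : Nat.Coprime c' 625 := by
    have : Nat.Coprime c' 5 := by
      rw [Nat.coprime_comm]
      exact (Nat.Prime.coprime_iff_not_dvd (by norm_num)).mpr hc'
    have h625 : (625 : ℕ) = 5 ^ 4 := by norm_num
    rw [h625]
    exact Nat.Coprime.pow_right 4 this
  have hc'd : c' ∣ 24 * 625 := by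
    have : c' ∣ c := by rw [hce]; exact dvd_mul_left _ _
    exact this.trans (by norm_num at h1 ⊢; exact h1)
  have h24 : c' ∣ 24 := hcop.dvd_of_dvd_mul_right hc'd
  rw [hce]
  interval_cases e
  · simp only [pow_zero, one_mul]
    exact h24.trans (by norm_num)
  · have : (120 : ℕ) = 5 ^ 1 * 24 := by norm_num
    rw [this]
    exact Nat.mul_dvd_mul_left _ h24

variable {G : Type u} [Group G] [Finite G]

namespace MinCE

theorem P_fix (P : Sylow 5 G) : ∀ g ∈ (P : Subgroup G), g • P = P := by
  intro g hg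
  rw [Sylow.smul_eq_iff_mem_normalizer]
  exact Subgroup.le_normalizer hg

/-- The centralizer of a Sylow 5-subgroup has order dividing 120. -/
theorem centralizer_card_dvd (h : MinCE G) (P : Sylow 5 G) :
    Nat.card (Subgroup.centralizer ((P : Subgroup G) : Set G)) ∣ 120 := by
  classical
  haveI : Fintype (Sylow 5 G) := Fintype.ofFinite _
  have hcard : Fintype.card (Sylow 5 G) = 21 := by
    rw [← Nat.card_eq_fintype_card]; exact h.h21
  have hP5 := h.card_five P
  obtain ⟨x', hx'⟩ := exists_prime_orderOf_dvd_card' (G := (P : Subgroup G)) 5 (by rw [hP5])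
  obtain ⟨x, hxdef⟩ : ∃ x : G, x = (x' : G) := ⟨_, rfl⟩
  have hxP : x ∈ (P : Subgroup G) := hxdef ▸ x'.2
  have hox : orderOf x = 5 := by rw [hxdef, Subgroup.orderOf_coe, hx']
  have hzp : Subgroup.zpowers x = (P : Subgroup G) :=
    Subgroup.eq_of_le_of_card_ge (Subgroup.zpowers_le.mpr hxP)
      (by rw [Nat.card_zpowers, hox, hP5])
  have hxfix : ∀ Q : Sylow 5 G, x • Q = Q → Q = P := by
    intro Q hQ
    apply fix_unique
    intro g hg
    have hxs : x ∈ MulAction.stabilizer G Q := MulAction.mem_stabilizer_iff.mpr hQ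
    have : Subgroup.zpowers x ≤ MulAction.stabilizer G Q := Subgroup.zpowers_le.mpr hxs
    rw [hzp] at this
    exact MulAction.mem_stabilizer_iff.mp (this hg)
  obtain ⟨σ, hσdef⟩ : ∃ σ : Equiv.Perm (Sylow 5 G),
      σ = MulAction.toPermHom G (Sylow 5 G) x := ⟨_, rfl⟩
  have hσapp : ∀ Q : Sylow 5 G, σ Q = x • Q := by
    intro Q; rw [hσdef]; rfl
  have hoσ : orderOf σ = 5 := by
    rw [hσdef, orderOf_injective _ h.inj x, hox]
  have hfix1 : Nat.card (Function.fixedPoints σ) = 1 := by
    rw [Nat.card_eq_one_iff_unique]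
    refine ⟨⟨?_⟩, ⟨⟨P, ?_⟩⟩⟩
    · rintro ⟨a, ha⟩ ⟨b, hb⟩
      apply Subtype.ext
      have ha' : a = P := hxfix a (by rw [← hσapp]; exact ha)
      have hb' : b = P := hxfix b (by rw [← hσapp]; exact hb)
      change a = b
      rw [ha', hb']
    · change σ P = P
      rw [hσapp]
      exact P_fix P x hxP
  have hfp := Equiv.Perm.card_fixedPoints σ
  rw [← Nat.card_eq_fintype_card, hfix1, hcard] at hfp
  have hsle := Equiv.Perm.sum_cycleType_le σ
  rw [hcard] at hsle
  have hsum : σ.cycleType.sum = 20 := by omega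
  obtain ⟨n, hn⟩ := Equiv.Perm.cycleType_prime_order (σ := σ) (by rw [hoσ]; norm_num)
  rw [hoσ] at hn
  have hn1 : n = 3 := by
    rw [hn, Multiset.sum_replicate, smul_eq_mul] at hsum
    omega
  subst hn1
  have hcent : Nat.card (Subgroup.centralizer {σ}) = 15000 := by
    rw [Equiv.Perm.nat_card_centralizer, hcard, hn]
    decide
  have hCx : Nat.card (Subgroup.centralizer ({x} : Set G)) ∣ 15000 := by
    rw [← hcent, ← Subgroup.card_map_of_injective h.inj]
    apply Subgroup.card_dvd_of_le
    rintro _ ⟨g, hg, rfl⟩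
    rw [Subgroup.mem_centralizer_iff]
    intro τ hτ
    rw [Set.mem_singleton_iff] at hτ
    rw [hτ, hσdef, ← map_mul, ← map_mul]
    congr 1
    exact (Subgroup.mem_centralizer_iff.mp hg) x (Set.mem_singleton x)
  have hCle : Subgroup.centralizer ((P : Subgroup G) : Set G) ≤
      Subgroup.centralizer ({x} : Set G) := by
    apply Subgroup.centralizer_le
    intro y hy
    rw [Set.mem_singleton_iff] at hy
    rw [hy]; exact hxP
  have hC1 := (Subgroup.card_dvd_of_le hCle).trans hCx
  have hG25 : ¬ 25 ∣ Nat.card G := by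
    intro hdvd
    have h1 := Subgroup.index_mul_card (P : Subgroup G)
    rw [hP5] at h1
    rw [← h1] at hdvd
    have : 5 ∣ (P : Subgroup G).index := by
      have : 5 * 5 ∣ (P : Subgroup G).index * 5 := by simpa using hdvd
      exact Nat.dvd_of_mul_dvd_mul_right (by norm_num) this
    exact P.not_dvd_index this
  exact dvd_120 _ hC1 (fun hd => hG25 (hd.trans (Subgroup.card_subgroup_dvd_card _)))

theorem relIndex_dvd (h : MinCE G) (P : Sylow 5 G) :
    (Subgroup.centralizer ((P : Subgroup G) : Set G)).relIndex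
      (Subgroup.normalizer ((P : Subgroup G) : Set G)) ∣ 4 := by
  have hP5 := h.card_five P
  have hcycP : IsCyclic (P : Subgroup G) := isCyclic_of_prime_card hP5
  have key := Subgroup.card_dvd_of_injective _
    (QuotientGroup.kerLift_injective (P : Subgroup G).normalizerMonoidHom)
  rw [normalizerMonoidHom_ker, ← index, ← relIndex] at key
  rw [hcycP.card_mulAut, hP5, Nat.totient_prime (by norm_num)] at key
  exact key

theorem card_G (h : MinCE G) (P : Sylow 5 G) :
    Nat.card G = 21 * (Nat.card (Subgroup.centralizer ((P : Subgroup G) : Set G)) *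
      (Subgroup.centralizer ((P : Subgroup G) : Set G)).relIndex
        (Subgroup.normalizer ((P : Subgroup G) : Set G))) := by
  have hCN : Subgroup.centralizer ((P : Subgroup G) : Set G) ≤
      Subgroup.normalizer ((P : Subgroup G) : Set G) := Subgroup.centralizer_le_normalizer _
  have hNidx : (Subgroup.normalizer ((P : Subgroup G) : Set G)).index = 21 :=
    (Sylow.card_eq_index_normalizer P).symm.trans h.h21
  have hNcard := Subgroup.relIndex_mul_relIndex ⊥ _ _ bot_le hCN
  rw [Subgroup.relIndex_bot_left, Subgroup.relIndex_bot_left] at hNcard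
  rw [hNcard, ← hNidx, Subgroup.index_mul_card]

theorem card_G_dvd (h : MinCE G) : Nat.card G ∣ 10080 := by
  obtain ⟨P⟩ : Nonempty (Sylow 5 G) := inferInstance
  rw [h.card_G P]
  have : (10080 : ℕ) = 21 * (120 * 4) := by norm_num
  rw [this]
  exact Nat.mul_dvd_mul_left 21 (Nat.mul_dvd_mul (h.centralizer_card_dvd P) (h.relIndex_dvd P))

/-- An involution centralizing a Sylow 5-subgroup fixes no other Sylow 5-subgroup. -/
theorem invol_fixed (h : MinCE G) (P : Sylow 5 G) (t : G)
    (ht : t ∈ Subgroup.centralizer ((P : Subgroup G) : Set G)) (ht2 : orderOf t = 2) :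
    Nat.card {ω : Sylow 5 G // t • ω = ω} = 1 := by
  classical
  haveI : Fintype (Sylow 5 G) := Fintype.ofFinite _
  have hcard : Fintype.card (Sylow 5 G) = 21 := by
    rw [← Nat.card_eq_fintype_card]; exact h.h21
  have hz2 : t ^ 2 = 1 := by rw [← ht2]; exact pow_orderOf_eq_one t
  have htP : t • P = P := by
    rw [Sylow.smul_eq_iff_mem_normalizer]
    exact Subgroup.centralizer_le_normalizer _ ht
  have hmod := Cfsg.Agent.helper19.N15.card_fixed_modEq_one (p := 5) (P : Subgroup G)
    P.isPGroup' t ht P htP (P_fix P) (fun Q hQ => fix_unique P Q hQ)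
  have hle : Nat.card {ω : Sylow 5 G // t • ω = ω} ≤ 21 :=
    h.h21 ▸ Finite.card_subtype_le _
  have hne21 : Nat.card {ω : Sylow 5 G // t • ω = ω} ≠ 21 := by
    intro h21'
    have hall : ∀ R : Sylow 5 G, t • R = R := by
      by_contra hcon
      push Not at hcon
      obtain ⟨R, hR⟩ := hcon
      have := Finite.card_subtype_lt (p := fun R : Sylow 5 G => t • R = R) hR
      rw [h.h21, h21'] at this
      exact lt_irrefl _ this
    have := h.faithful t hall
    rw [this, orderOf_one] at ht2
    omega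
  obtain ⟨τ, hτdef⟩ : ∃ τ : Equiv.Perm (Sylow 5 G),
      τ = MulAction.toPermHom G (Sylow 5 G) t := ⟨_, rfl⟩
  have hτ2 : τ ^ 2 = 1 := by rw [hτdef, ← map_pow, hz2, map_one]
  have hfpτ := Equiv.Perm.card_fixedPoints τ
  have he : Nat.card (Function.fixedPoints τ) = Nat.card {ω : Sylow 5 G // t • ω = ω} := by
    apply Nat.card_congr
    apply Equiv.subtypeEquivRight
    intro Q
    rw [hτdef]
    exact Iff.rfl
  rw [← Nat.card_eq_fintype_card, he, hcard, Equiv.Perm.sum_cycleType] at hfpτ
  have h2 := Equiv.Perm.two_dvd_card_support hτ2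
  have hsl := Finset.card_le_univ τ.support
  rw [hcard] at hsl
  by_contra hne1
  have h11 : Nat.card {ω : Sylow 5 G // t • ω = ω} = 11 := by
    unfold Nat.ModEq at hmod
    omega
  apply h.no_index_two
  apply exists_index_two_of_invol (Ω := Sylow 5 G) t hz2
  rw [hcard, h11]
  decide

theorem invol_fixed' (h : MinCE G) (P : Sylow 5 G) (t : G)
    (ht : t ∈ Subgroup.centralizer ((P : Subgroup G) : Set G)) (ht2 : orderOf t = 2)
    (Q : Sylow 5 G) (hQ : t • Q = Q) : Q = P := by
  have h1 := h.invol_fixed P t ht ht2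
  rw [Nat.card_eq_one_iff_unique] at h1
  have htP : t • P = P := by
    rw [Sylow.smul_eq_iff_mem_normalizer]
    exact Subgroup.centralizer_le_normalizer _ ht
  have := h1.1.elim ⟨Q, hQ⟩ ⟨P, htP⟩
  exact congrArg Subtype.val this

/-- The centralizer of `P` is normalized by the normalizer of `P`. -/
theorem conj_mem_centralizer (P : Sylow 5 G) (g c : G)
    (hg : g ∈ Subgroup.normalizer ((P : Subgroup G) : Set G))
    (hc : c ∈ Subgroup.centralizer ((P : Subgroup G) : Set G)) :
    g * c * g⁻¹ ∈ Subgroup.centralizer ((P : Subgroup G) : Set G) := by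
  rw [Subgroup.mem_centralizer_iff] at hc ⊢
  intro p hp
  have hp' : g⁻¹ * p * g ∈ (P : Subgroup G) := by
    have := (Subgroup.mem_normalizer_iff.mp (Subgroup.inv_mem _ hg) p).mp hp
    simpa using this
  have := hc _ hp'
  calc p * (g * c * g⁻¹) = g * ((g⁻¹ * p * g) * c) * g⁻¹ := by group
    _ = g * (c * (g⁻¹ * p * g)) * g⁻¹ := by rw [this]
    _ = g * c * g⁻¹ * p := by group

/-- An involution of `N ∖ C` has no conjugate in `C`. -/
theorem no_conj (h : MinCE G) (P : Sylow 5 G) (u : G)
    (huN : u ∈ Subgroup.normalizer ((P : Subgroup G) : Set G))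
    (huC : u ∉ Subgroup.centralizer ((P : Subgroup G) : Set G)) (hu2 : orderOf u = 2)
    (g : G) : g⁻¹ * u * g ∉ Subgroup.centralizer ((P : Subgroup G) : Set G) := by
  intro hmem
  have ho : orderOf (g⁻¹ * u * g) = 2 := by
    have : g⁻¹ * u * g = MulAut.conj g⁻¹ u := by simp
    rw [this, MulEquiv.orderOf_eq, hu2]
  have huP : u • P = P := Sylow.smul_eq_iff_mem_normalizer.mpr huN
  have hfix : (g⁻¹ * u * g) • (g⁻¹ • P) = g⁻¹ • P := by
    rw [smul_smul]
    have : g⁻¹ * u * g * g⁻¹ = g⁻¹ * u := by group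
    rw [this, mul_smul, huP]
  have hgP : g⁻¹ • P = P := h.invol_fixed' P _ hmem ho _ hfix
  have hgN : g⁻¹ ∈ Subgroup.normalizer ((P : Subgroup G) : Set G) :=
    Sylow.smul_eq_iff_mem_normalizer.mp hgP
  have hgN' : g ∈ Subgroup.normalizer ((P : Subgroup G) : Set G) := by
    have := Subgroup.inv_mem _ hgN
    simpa using this
  have := conj_mem_centralizer P g _ hgN' hmem
  apply huC
  have e : g * (g⁻¹ * u * g) * g⁻¹ = u := by group
  rwa [e] at this

end MinCE

end Cfsg.Agent.helper19.N21
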