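import Mathlib
import Cfsg.Agent.Lib_helper19_N21c

set_option autoImplicit false
set_option linter.style.haveILetI false
set_option linter.deprecated false
set_option linter.unusedVariables false
set_option linter.unusedSectionVars false

namespace Cfsg.Agent.helper19.N21

open Subgroup

universe u

attribute [local instance] Cfsg.Agent.helper19.N15.fact7 Cfsg.Agent.helper19.N15.fact5

theorem exists_two_part {G : Type*} [Group G] [Finite G] (n : G) :
    ∃ (m a : ℕ), Odd m ∧ orderOf (n ^ m) = 2 ^ a := by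
  have hpos : orderOf n ≠ 0 := (orderOf_pos n).ne'
  obtain ⟨a, m, hm, hnm⟩ := Nat.exists_eq_two_pow_mul_odd hpos
  refine ⟨m, a, hm, ?_⟩
  rw [orderOf_pow_of_dvd (hm.pos.ne') (hnm ▸ dvd_mul_left m (2 ^ a)), hnm,
    Nat.mul_div_cancel _ hm.pos]

theorem orderOf_pow_two_pow {G : Type*} [Group G] (y : G) (a : ℕ) (ha : 2 ≤ a)
    (hy : orderOf y = 2 ^ a) : orderOf (y ^ (2 ^ (a - 2))) = 4 := by
  rw [orderOf_pow_of_dvd (by positivity) (hy ▸ pow_dvd_pow 2 (Nat.sub_le a 2)), hy,
    Nat.pow_div (Nat.sub_le a 2) (by norm_num)]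
  have : a - (a - 2) = 2 := by omega
  rw [this]

variable {G : Type u} [Group G] [Finite G]

namespace MinCE

/-- No element of `N` of order 4 has its square in `C`. -/
theorem kill_four (h : MinCE G) (P : Sylow 5 G) (w : G)
    (hwN : w ∈ Subgroup.normalizer ((P : Subgroup G) : Set G)) (hw4 : orderOf w = 4)
    (hw2 : w ^ 2 ∈ Subgroup.centralizer ((P : Subgroup G) : Set G)) : False := by
  classical
  haveI : Fintype (Sylow 5 G) := Fintype.ofFinite _
  have hcard : Fintype.card (Sylow 5 G) = 21 := by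
    rw [← Nat.card_eq_fintype_card]; exact h.h21
  have ho2 : orderOf (w ^ 2) = 2 := by
    rw [orderOf_pow' w (by norm_num : 2 ≠ 0), hw4]
    norm_num
  have hwP : w • P = P := Sylow.smul_eq_iff_mem_normalizer.mpr hwN
  have hfix2 : ∀ Q : Sylow 5 G, (w ^ 2) • Q = Q → Q = P :=
    fun Q hQ => h.invol_fixed' P _ hw2 ho2 Q hQ
  have hfixw : Nat.card {ω : Sylow 5 G // w • ω = ω} = 1 := by
    rw [Nat.card_eq_one_iff_unique]
    refine ⟨⟨?_⟩, ⟨⟨P, hwP⟩⟩⟩
    rintro ⟨a, ha⟩ ⟨b, hb⟩
    apply Subtype.ext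
    have ha' : a = P := hfix2 a (by rw [sq, mul_smul, ha, ha])
    have hb' : b = P := hfix2 b (by rw [sq, mul_smul, hb, hb])
    change a = b
    rw [ha', hb']
  apply h.no_index_two
  apply exists_index_two_of_four (Ω := Sylow 5 G) w (by rw [← hw4]; exact pow_orderOf_eq_one w)
  · intro ω hω
    rw [hfix2 ω hω]; exact hwP
  · rw [hcard, hfixw]; decide

/-- A 2-subgroup `L₂` of `C` whose index in `G` is `21 * odd * k`. -/
theorem exists_L2 (h : MinCE G) (P : Sylow 5 G) :
    ∃ (L : Subgroup G) (j : ℕ), L ≤ Subgroup.centralizer ((P : Subgroup G) : Set G) ∧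
      L.index = 21 * (2 * j + 1) *
        (Subgroup.centralizer ((P : Subgroup G) : Set G)).relIndex
          (Subgroup.normalizer ((P : Subgroup G) : Set G)) := by
  obtain ⟨C, hCdef⟩ : ∃ C : Subgroup G, C = Subgroup.centralizer ((P : Subgroup G) : Set G) :=
    ⟨_, rfl⟩
  obtain ⟨S⟩ : Nonempty (Sylow 2 C) := inferInstance
  have hodd : Odd (S : Subgroup C).index := by
    rw [← Nat.not_even_iff_odd, even_iff_two_dvd]
    exact S.not_dvd_index
  obtain ⟨j, hj⟩ := hodd
  refine ⟨(S : Subgroup C).map C.subtype, j, ?_, ?_⟩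
  · rw [← hCdef]
    exact Subgroup.map_subtype_le _
  · have h1 := Subgroup.index_mul_card ((S : Subgroup C).map C.subtype)
    have h2 : Nat.card ((S : Subgroup C).map C.subtype) = Nat.card (S : Subgroup C) :=
      Subgroup.card_map_of_injective C.subtype_injective
    have h3 := Subgroup.index_mul_card (S : Subgroup C)
    have h4 := h.card_G P
    rw [← hCdef] at h4 ⊢
    rw [h2, h4, ← h3, hj] at h1
    have hpos : 0 < Nat.card (S : Subgroup C) := Nat.card_pos
    apply Nat.eq_of_mul_eq_mul_right hpos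
    rw [h1]; ring

theorem normal_C (P : Sylow 5 G) :
    ((Subgroup.centralizer ((P : Subgroup G) : Set G)).subgroupOf
      (Subgroup.normalizer ((P : Subgroup G) : Set G))).Normal := by
  rw [← normalizerMonoidHom_ker]
  exact MonoidHom.normal_ker _

theorem pow_relIndex_mem (P : Sylow 5 G) (n : G)
    (hn : n ∈ Subgroup.normalizer ((P : Subgroup G) : Set G)) :
    n ^ (Subgroup.centralizer ((P : Subgroup G) : Set G)).relIndex
      (Subgroup.normalizer ((P : Subgroup G) : Set G)) ∈
        Subgroup.centralizer ((P : Subgroup G) : Set G) := by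
  haveI := normal_C P
  have := Subgroup.pow_index_mem ((Subgroup.centralizer ((P : Subgroup G) : Set G)).subgroupOf
    (Subgroup.normalizer ((P : Subgroup G) : Set G))) ⟨n, hn⟩
  rw [Subgroup.mem_subgroupOf] at this
  exact this

theorem cyclic_quot (h : MinCE G) (P : Sylow 5 G) :
    IsCyclic (↥(Subgroup.normalizer ((P : Subgroup G) : Set G)) ⧸
      (P : Subgroup G).normalizerMonoidHom.ker) := by
  have hP5 := h.card_five P
  haveI hcycP : IsCyclic (P : Subgroup G) := isCyclic_of_prime_card hP5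
  haveI : IsCyclic (ZMod (Nat.card (P : Subgroup G)))ˣ := by
    rw [hP5]
    exact ZMod.isCyclic_units_prime (by norm_num)
  haveI : IsCyclic (MulAut (P : Subgroup G)) :=
    isCyclic_of_surjective (IsCyclic.mulAutMulEquiv (P : Subgroup G)).symm
      (IsCyclic.mulAutMulEquiv (P : Subgroup G)).symm.surjective
  exact isCyclic_of_injective _
    (QuotientGroup.kerLift_injective (P : Subgroup G).normalizerMonoidHom)

/-- If all squares of `N` lie in `C` then `|N : C| ∣ 2`. -/
theorem relIndex_dvd_two (h : MinCE G) (P : Sylow 5 G)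
    (hsq : ∀ n ∈ Subgroup.normalizer ((P : Subgroup G) : Set G),
      n ^ 2 ∈ Subgroup.centralizer ((P : Subgroup G) : Set G)) :
    (Subgroup.centralizer ((P : Subgroup G) : Set G)).relIndex
      (Subgroup.normalizer ((P : Subgroup G) : Set G)) ∣ 2 := by
  haveI := h.cyclic_quot P
  obtain ⟨g, hg⟩ := IsCyclic.exists_generator
    (α := ↥(Subgroup.normalizer ((P : Subgroup G) : Set G)) ⧸
      (P : Subgroup G).normalizerMonoidHom.ker)
  have hog := orderOf_eq_card_of_forall_mem_zpowers hg
  obtain ⟨n, rfl⟩ := QuotientGroup.mk_surjective g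
  have h1 : (QuotientGroup.mk n : ↥(Subgroup.normalizer ((P : Subgroup G) : Set G)) ⧸
      (P : Subgroup G).normalizerMonoidHom.ker) ^ 2 = 1 := by
    rw [← QuotientGroup.mk_pow, QuotientGroup.eq_one_iff, normalizerMonoidHom_ker,
      Subgroup.mem_subgroupOf]
    exact hsq n n.2
  have h2 := orderOf_dvd_of_pow_eq_one h1
  rw [hog, ← Subgroup.index_eq_card, normalizerMonoidHom_ker] at h2
  exact h2

/-- The case `N = C`. -/
theorem case_K1 (h : MinCE G) (P : Sylow 5 G)
    (hNC : Subgroup.normalizer ((P : Subgroup G) : Set G) ≤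
      Subgroup.centralizer ((P : Subgroup G) : Set G)) : False := by
  have hP5 := h.card_five P
  have hc := MonoidHom.ker_transferSylow_isComplement' P hNC
  obtain ⟨K, hKdef⟩ : ∃ K : Subgroup G, K = (MonoidHom.transferSylow P hNC).ker := ⟨_, rfl⟩
  haveI hKn : K.Normal := hKdef ▸ MonoidHom.normal_ker _
  have hKidx : K.index = 5 := by
    rw [hKdef, hc.symm.index_eq_card, hP5]
  -- Sylow 7
  have h7 : 7 ∣ Nat.card G := by
    rw [h.card_G P]
    exact Dvd.dvd.mul_right (by norm_num : 7 ∣ 21) _
  have h49 : ¬ 7 ^ 2 ∣ Nat.card G := by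
    intro h49
    have := h49.trans h.card_G_dvd
    revert this
    norm_num
  obtain ⟨T⟩ : Nonempty (Sylow 7 G) := inferInstance
  have hT7 := Cfsg.Agent.helper19.N15.sylow_card_prime T h7 h49
  have hTK : (T : Subgroup G) ≤ K :=
    Cfsg.Agent.helper19.N15.sylow_le_of_normal' 7 K (by rw [hKidx]; norm_num) T
  have hfr : Subgroup.normalizer ((T : Subgroup G) : Set G) ⊔ K = ⊤ :=
    Sylow.normalizer_sup_eq_top' T hTK
  have h5N : 5 ∣ Nat.card (Subgroup.normalizer ((T : Subgroup G) : Set G)) := by
    have h1 := Subgroup.relIndex_sup_right (H := Subgroup.normalizer ((T : Subgroup G) : Set G))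
      (K := K)
    rw [hfr, Subgroup.relIndex_top_right, hKidx] at h1
    rw [h1]
    exact Subgroup.relIndex_dvd_card _ _
  obtain ⟨y', hy'⟩ := exists_prime_orderOf_dvd_card'
    (G := Subgroup.normalizer ((T : Subgroup G) : Set G)) 5 h5N
  -- `y'` centralizes `T`
  have hcycT : IsCyclic (T : Subgroup G) := isCyclic_of_prime_card hT7
  have hψ5 : ((T : Subgroup G).normalizerMonoidHom y') ^ 5 = 1 := by
    rw [← map_pow, ← hy', pow_orderOf_eq_one, map_one]
  have hψ6 : ((T : Subgroup G).normalizerMonoidHom y') ^ 6 = 1 := by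
    have := pow_card_eq_one' (x := (T : Subgroup G).normalizerMonoidHom y')
    rwa [hcycT.card_mulAut, hT7, Nat.totient_prime (by norm_num)] at this
  have hψ1 : (T : Subgroup G).normalizerMonoidHom y' = 1 := by
    have : ((T : Subgroup G).normalizerMonoidHom y') ^ 6 =
        ((T : Subgroup G).normalizerMonoidHom y') ^ 5 *
          (T : Subgroup G).normalizerMonoidHom y' := pow_succ _ 5
    rw [hψ6, hψ5, one_mul] at this
    exact this.symm
  have hyC : (y' : G) ∈ Subgroup.centralizer ((T : Subgroup G) : Set G) := by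
    have : y' ∈ (T : Subgroup G).normalizerMonoidHom.ker := hψ1
    rw [normalizerMonoidHom_ker, Subgroup.mem_subgroupOf] at this
    exact this
  obtain ⟨y, hydef⟩ : ∃ y : G, y = (y' : G) := ⟨_, rfl⟩
  have hoy : orderOf y = 5 := by rw [hydef, Subgroup.orderOf_coe, hy']
  have hyp : IsPGroup 5 (Subgroup.zpowers y) :=
    IsPGroup.of_card (n := 1) (by rw [Nat.card_zpowers, hoy, pow_one])
  obtain ⟨Q, hQ⟩ := hyp.exists_le_sylow
  have hQeq : Subgroup.zpowers y = (Q : Subgroup G) :=
    Subgroup.eq_of_le_of_card_ge hQ (by rw [Nat.card_zpowers, hoy, h.card_five Q])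
  have hTQ : (T : Subgroup G) ≤ Subgroup.centralizer ((Q : Subgroup G) : Set G) := by
    intro t ht
    rw [Subgroup.mem_centralizer_iff]
    intro q hq
    have hq' : q ∈ Subgroup.zpowers y := by rw [hQeq]; exact hq
    obtain ⟨i, rfl⟩ := Subgroup.mem_zpowers_iff.mp hq'
    have hcomm : Commute y t := by
      have := (Subgroup.mem_centralizer_iff.mp hyC) t ht
      rw [← hydef] at this
      exact this.symm
    exact (hcomm.zpow_left i).eq
  have := (hT7 ▸ Subgroup.card_dvd_of_le hTQ).trans (h.centralizer_card_dvd Q)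
  revert this
  norm_num

theorem final (h : MinCE G) : False := by
  obtain ⟨P⟩ : Nonempty (Sylow 5 G) := inferInstance
  obtain ⟨C, hCdef⟩ : ∃ C : Subgroup G, C = Subgroup.centralizer ((P : Subgroup G) : Set G) :=
    ⟨_, rfl⟩
  obtain ⟨N, hNdef⟩ : ∃ N : Subgroup G, N = Subgroup.normalizer ((P : Subgroup G) : Set G) :=
    ⟨_, rfl⟩
  have hk4 : C.relIndex N ∣ 4 := by rw [hCdef, hNdef]; exact h.relIndex_dvd P
  obtain ⟨L, j, hLC, hLidx⟩ := h.exists_L2 P
  rw [← hCdef] at hLC
  rw [← hCdef, ← hNdef] at hLidx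
  have hpow : ∀ n ∈ N, n ^ C.relIndex N ∈ C := by
    intro n hn
    rw [hCdef, hNdef]
    exact pow_relIndex_mem P n (hNdef ▸ hn)
  by_cases hK4 : ∃ n ∈ N, n ^ 2 ∉ C
  · -- `|N : C| = 4`
    obtain ⟨n, hnN, hn2⟩ := hK4
    have hk : C.relIndex N = 4 := by
      have hle : C.relIndex N ≤ 4 := Nat.le_of_dvd (by norm_num) hk4
      have hpn := hpow n hnN
      interval_cases hkk : C.relIndex N
      · simp at hk4
      · exfalso
        rw [pow_one] at hpn
        exact hn2 (C.pow_mem hpn 2)
      · exact absurd hpn hn2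
      · norm_num at hk4
      · rfl
    have hn4 : n ^ 4 ∈ C := hk ▸ hpow n hnN
    obtain ⟨m, a, hm, hma⟩ := exists_two_part n
    obtain ⟨y, hydef⟩ : ∃ y : G, y = n ^ m := ⟨_, rfl⟩
    rw [← hydef] at hma
    have hyN : y ∈ N := hydef ▸ N.pow_mem hnN m
    have hy2 : y ^ 2 ∉ C := by
      intro hy2
      apply hn2
      obtain ⟨i, hi⟩ := hm
      have e : n ^ 2 = y ^ 2 * ((n ^ 4) ^ i)⁻¹ := by
        rw [hydef, hi, ← pow_mul, ← pow_mul, eq_mul_inv_iff_mul_eq, ← pow_add]
        congr 1
        ring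
      rw [e]
      exact C.mul_mem hy2 (C.inv_mem (C.pow_mem hn4 i))
    have hy4 : y ^ 4 ∈ C := hk ▸ hpow y hyN
    have ha2 : 2 ≤ a := by
      by_contra hcon
      push Not at hcon
      apply hy2
      have : y ^ 2 = 1 := by
        apply orderOf_dvd_iff_pow_eq_one.mp
        rw [hma]
        interval_cases a <;> norm_num
      rw [this]; exact C.one_mem
    by_cases ha : a = 2
    · -- `y` has order 4 and `y²` is an involution outside `C`
      rw [ha] at hma
      have hma' : orderOf y = 4 := by rw [hma]; norm_num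
      have ho2 : orderOf (y ^ 2) = 2 := by
        rw [orderOf_pow' y (by norm_num : 2 ≠ 0), hma']
        norm_num
      apply h.no_index_two
      apply exists_index_two_of_coset_four L y (by rw [← hma']; exact pow_orderOf_eq_one y)
      · rw [hLidx, hk]; omega
      · intro g hg
        have := h.no_conj P (y ^ 2) (hNdef ▸ N.pow_mem hyN 2) (hCdef ▸ hy2) ho2 g
        exact this (hCdef ▸ hLC hg)
    · have ha3 : 3 ≤ a := by omega
      apply h.kill_four P (y ^ (2 ^ (a - 2))) (hNdef ▸ N.pow_mem hyN _)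
        (orderOf_pow_two_pow y a ha2 hma)
      rw [← hCdef, ← pow_mul]
      have : 2 ^ (a - 2) * 2 = 4 * 2 ^ (a - 3) := by
        have : a - 2 = (a - 3) + 1 := by omega
        rw [this, pow_succ]; ring
      rw [this, pow_mul]
      exact C.pow_mem hy4 _
  · push Not at hK4
    by_cases hNC : N ≤ C
    · exact h.case_K1 P (hNdef ▸ hCdef ▸ hNC)
    · -- `|N : C| = 2`
      have hk2 : C.relIndex N ∣ 2 := by
        rw [hCdef, hNdef]
        apply h.relIndex_dvd_two P
        intro n hn
        rw [← hCdef]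
        exact hK4 n (hNdef ▸ hn)
      have hk : C.relIndex N = 2 := by
        have hle : C.relIndex N ≤ 2 := Nat.le_of_dvd (by norm_num) hk2
        interval_cases hkk : C.relIndex N
        · simp at hk2
        · exact absurd (Subgroup.relIndex_eq_one.mp hkk) hNC
        · rfl
      obtain ⟨n, hnN, hnC⟩ := SetLike.not_le_iff_exists.mp hNC
      obtain ⟨m, a, hm, hma⟩ := exists_two_part n
      obtain ⟨y, hydef⟩ : ∃ y : G, y = n ^ m := ⟨_, rfl⟩
      rw [← hydef] at hma
      have hyN : y ∈ N := hydef ▸ N.pow_mem hnN m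
      have hyC : y ∉ C := by
        intro hyC
        apply hnC
        obtain ⟨i, hi⟩ := hm
        have e : n = y * ((n ^ 2) ^ i)⁻¹ := by
          rw [hydef, hi, ← pow_mul, eq_mul_inv_iff_mul_eq, ← pow_succ']
        rw [e]
        exact C.mul_mem hyC (C.inv_mem (C.pow_mem (hK4 n hnN) i))
      have hy2 : y ^ 2 ∈ C := hK4 y hyN
      have ha1 : 1 ≤ a := by
        by_contra hcon
        push Not at hcon
        apply hyC
        have : y = 1 := by
          apply orderOf_eq_one_iff.mp
          rw [hma]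
          interval_cases a; norm_num
        rw [this]; exact C.one_mem
      by_cases ha : a = 1
      · rw [ha, pow_one] at hma
        apply h.no_index_two
        apply exists_index_two_of_coset_invol L y (by rw [← hma]; exact pow_orderOf_eq_one y)
        · rw [hLidx, hk]; omega
        · intro g hg
          have := h.no_conj P y (hNdef ▸ hyN) (hCdef ▸ hyC) hma g
          exact this (hCdef ▸ hLC hg)
      · have ha2 : 2 ≤ a := by omega
        apply h.kill_four P (y ^ (2 ^ (a - 2))) (hNdef ▸ N.pow_mem hyN _)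
          (orderOf_pow_two_pow y a ha2 hma)
        rw [← hCdef, ← pow_mul]
        have : 2 ^ (a - 2) * 2 = 2 * 2 ^ (a - 2) := by ring
        rw [this, pow_mul]
        exact C.pow_mem hy2 _

end MinCE

theorem main_aux : ∀ (n : ℕ) (G : Type u) [Group G] [Finite G], Nat.card G = n →
    Nat.card (Sylow 5 G) ≠ 21 := by
  intro n
  induction n using Nat.strong_induction_on with
  | _ n ih =>
    intro G _ _ hn h21
    exact MinCE.final (G := G) ⟨h21, fun H _ _ hlt => ih (Nat.card H) (hn ▸ hlt) H rfl⟩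

theorem main (G : Type u) [Group G] [Finite G] : Nat.card (Sylow 5 G) ≠ 21 :=
  main_aux _ G rfl

end Cfsg.Agent.helper19.N21
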