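import Mathlib
import Cfsg.Prelude.Def_Transfer
import Cfsg.Agent.Lib_helper19_NPC

set_option autoImplicit false
set_option linter.style.haveILetI false
set_option linter.unusedSectionVars false

namespace Cfsg.Agent.helper19

open scoped commutatorElement

universe u

/-- if `N_G(P)` has a normal `p`-complement, then `N_G(P)` acts on `P` by inner automorphisms
of `P`. -/
theorem conj_of_npc_normalizer {G : Type*} [Group G] [Finite G] {p : ℕ} [Fact p.Prime] (P : Sylow p G)
    (hN : Cfsg.HasNormalPComplement p ↥(Subgroup.normalizer ((P : Subgroup G) : Set G)))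
    {x y : G} (hx : x ∈ Subgroup.normalizer ((P : Subgroup G) : Set G)) (hy : y ∈ (P : Subgroup G)) :
    ∃ u ∈ (P : Subgroup G), x * y * x⁻¹ = u * y * u⁻¹ := by
  obtain ⟨P₁, K₀, hK₀n, hc⟩ := hN
  set P₀ : Sylow p ↥(Subgroup.normalizer ((P : Subgroup G) : Set G)) := P.subtype Subgroup.le_normalizer
    with hP₀
  have hP₀n : (P₀ : Subgroup ↥(Subgroup.normalizer ((P : Subgroup G) : Set G))).Normal := by
    rw [hP₀, Sylow.coe_subtype]; exact Subgroup.normal_in_normalizer
  have hP₁ : P₁ = P₀ := by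
    haveI := Sylow.unique_of_normal P₀ hP₀n
    exact Subsingleton.elim _ _
  subst hP₁
  have hmemP₀ : ∀ z : ↥(Subgroup.normalizer ((P : Subgroup G) : Set G)),
      z ∈ (P₀ : Subgroup ↥(Subgroup.normalizer ((P : Subgroup G) : Set G))) ↔ (z : G) ∈ (P : Subgroup G) := by
    intro z
    rw [hP₀, Sylow.coe_subtype, Subgroup.mem_subgroupOf]
  obtain ⟨⟨k, u⟩, hku, -⟩ := (Subgroup.isComplement_iff_existsUnique.1 hc) ⟨x, hx⟩
  simp only at hku
  set y' : ↥(Subgroup.normalizer ((P : Subgroup G) : Set G)) := ⟨y, Subgroup.le_normalizer hy⟩ with hy'def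
  have hy' : y' ∈ (P₀ : Subgroup ↥(Subgroup.normalizer ((P : Subgroup G) : Set G))) := (hmemP₀ y').2 hy
  set w := (u : ↥(Subgroup.normalizer ((P : Subgroup G) : Set G))) * y' * (u : ↥(Subgroup.normalizer ((P : Subgroup G) : Set G)))⁻¹ with hw
  have hwP : w ∈ (P₀ : Subgroup ↥(Subgroup.normalizer ((P : Subgroup G) : Set G))) := hP₀n.conj_mem y' hy' u
  have hkw : (k : ↥(Subgroup.normalizer ((P : Subgroup G) : Set G))) * w * (k : ↥(Subgroup.normalizer ((P : Subgroup G) : Set G)))⁻¹ * w⁻¹ ∈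
      K₀ ⊓ (P₀ : Subgroup ↥(Subgroup.normalizer ((P : Subgroup G) : Set G))) := by
    refine Subgroup.mem_inf.2 ⟨?_, ?_⟩
    · have h1 := hK₀n.conj_mem _ (K₀.inv_mem k.2) w
      have h2 := K₀.mul_mem k.2 h1
      have e : (k : ↥(Subgroup.normalizer ((P : Subgroup G) : Set G))) * (w * (k : ↥(Subgroup.normalizer ((P : Subgroup G) : Set G)))⁻¹ * w⁻¹) =
          (k : ↥(Subgroup.normalizer ((P : Subgroup G) : Set G))) * w * (k : ↥(Subgroup.normalizer ((P : Subgroup G) : Set G)))⁻¹ * w⁻¹ := by group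
      rwa [e] at h2
    · exact Subgroup.mul_mem _ (hP₀n.conj_mem w hwP k) (Subgroup.inv_mem _ hwP)
  rw [hc.disjoint.eq_bot, Subgroup.mem_bot] at hkw
  have hkw' : (k : ↥(Subgroup.normalizer ((P : Subgroup G) : Set G))) * w * (k : ↥(Subgroup.normalizer ((P : Subgroup G) : Set G)))⁻¹ = w := mul_inv_eq_one.1 hkw
  refine ⟨((u : ↥(Subgroup.normalizer ((P : Subgroup G) : Set G))) : G), (hmemP₀ u).1 u.2, ?_⟩
  have e : (⟨x, hx⟩ : ↥(Subgroup.normalizer ((P : Subgroup G) : Set G))) * y' * (⟨x, hx⟩ : ↥(Subgroup.normalizer ((P : Subgroup G) : Set G)))⁻¹ = w := by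
    rw [← hku]
    have : (k : ↥(Subgroup.normalizer ((P : Subgroup G) : Set G))) * u * y' * ((k : ↥(Subgroup.normalizer ((P : Subgroup G) : Set G))) * u)⁻¹ =
        (k : ↥(Subgroup.normalizer ((P : Subgroup G) : Set G))) * w * (k : ↥(Subgroup.normalizer ((P : Subgroup G) : Set G)))⁻¹ := by
      rw [hw]; group
    rw [this, hkw']
  have := congrArg Subtype.val e
  simpa [hw, hy'def] using this

/-- S3838 -/
theorem npc_normalizer_of_le_frattini {G : Type u} [Group G] [Finite G] {p : ℕ} [Fact p.Prime] (P : Sylow p G)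
    (hN : Cfsg.HasNormalPComplement p ↥(Subgroup.normalizer ((P : Subgroup G) : Set G))) (Q : Subgroup G)
    (h1 : (commutator ↥(P : Subgroup G)).map (P : Subgroup G).subtype ≤ Q)
    (h2 : Q ≤ (frattini ↥(P : Subgroup G)).map (P : Subgroup G).subtype) :
    Cfsg.HasNormalPComplement p ↥(Subgroup.normalizer (Q : Set G)) := by
  have hQP : Q ≤ (P : Subgroup G) := h2.trans (Subgroup.map_subtype_le _)
  have hcomm_mem : ∀ u ∈ (P : Subgroup G), ∀ y ∈ (P : Subgroup G), u * y * u⁻¹ * y⁻¹ ∈ Q := by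
    intro u hu y hy
    apply h1
    refine ⟨⁅(⟨u, hu⟩ : ↥(P : Subgroup G)), ⟨y, hy⟩⁆, ?_, ?_⟩
    · rw [SetLike.mem_coe, commutator_def]
      exact Subgroup.commutator_mem_commutator (Subgroup.mem_top _) (Subgroup.mem_top _)
    · simp [commutatorElement_def]
  have hPN : (P : Subgroup G) ≤ Subgroup.normalizer (Q : Set G) := by
    apply le_normalizer_of_conj_mem
    intro u hu q hq
    have := hcomm_mem u hu q (hQP hq)
    have e : u * q * u⁻¹ = (u * q * u⁻¹ * q⁻¹) * q := by group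
    rw [e]; exact Q.mul_mem this hq
  have hA : ∀ x ∈ Subgroup.normalizer ((P : Subgroup G) : Set G), ∀ y ∈ (P : Subgroup G),
      x * y * x⁻¹ * y⁻¹ ∈ Q := by
    intro x hx y hy
    obtain ⟨u, hu, hxu⟩ := conj_of_npc_normalizer P hN hx hy
    rw [hxu]
    exact hcomm_mem u hu y hy
  -- set up Γ
  set P' : Sylow p ↥(Subgroup.normalizer (Q : Set G)) := P.subtype hPN with hP'
  have hP'coe : (P' : Subgroup ↥(Subgroup.normalizer (Q : Set G))) =
      (P : Subgroup G).subgroupOf (Subgroup.normalizer (Q : Set G)) := by rw [hP', Sylow.coe_subtype]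
  haveI hQ'n : (Q.subgroupOf (Subgroup.normalizer (Q : Set G))).Normal := Subgroup.normal_in_normalizer
  have hQ'P' : Q.subgroupOf (Subgroup.normalizer (Q : Set G)) ≤ (P' : Subgroup ↥(Subgroup.normalizer (Q : Set G))) := by
    rw [hP'coe]
    intro z hz
    rw [Subgroup.mem_subgroupOf] at hz ⊢
    exact hQP hz
  have hcomm' : ∀ x ∈ Subgroup.normalizer ((P' : Subgroup ↥(Subgroup.normalizer (Q : Set G))) : Set ↥(Subgroup.normalizer (Q : Set G))),
      ∀ y ∈ (P' : Subgroup ↥(Subgroup.normalizer (Q : Set G))),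
      x * y * x⁻¹ * y⁻¹ ∈ Q.subgroupOf (Subgroup.normalizer (Q : Set G)) := by
    intro x hx y hy
    rw [hP'coe] at hx hy
    rw [← Subgroup.subgroupOf_normalizer_eq hPN, Subgroup.mem_subgroupOf] at hx
    rw [Subgroup.mem_subgroupOf] at hy ⊢
    have := hA _ hx _ hy
    simpa using this
  have hfr : ∀ X : Subgroup ↥(Subgroup.normalizer (Q : Set G)),
      X ≤ (P' : Subgroup ↥(Subgroup.normalizer (Q : Set G))) →
      Q.subgroupOf (Subgroup.normalizer (Q : Set G)) ⊔ X = (P' : Subgroup ↥(Subgroup.normalizer (Q : Set G))) →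
      X = (P' : Subgroup ↥(Subgroup.normalizer (Q : Set G))) := by
    intro X hXP hQX
    -- push to G
    set X₁ : Subgroup G := X.map (Subgroup.normalizer (Q : Set G)).subtype with hX₁
    have hX₁P : X₁ ≤ (P : Subgroup G) := by
      rintro _ ⟨z, hz, rfl⟩
      have := hXP hz
      rw [hP'coe, Subgroup.mem_subgroupOf] at this
      exact this
    have hsup : Q ⊔ X₁ = (P : Subgroup G) := by
      have := congrArg (Subgroup.map (Subgroup.normalizer (Q : Set G)).subtype) hQX
      rw [Subgroup.map_sup, Subgroup.map_subgroupOf_eq_of_le Subgroup.le_normalizer, hP'coe,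
        Subgroup.map_subgroupOf_eq_of_le hPN] at this
      exact this
    -- inside P
    have hQfr : Q.subgroupOf (P : Subgroup G) ≤ frattini ↥(P : Subgroup G) := by
      intro z hz
      rw [Subgroup.mem_subgroupOf] at hz
      obtain ⟨z', hz', hzz'⟩ := h2 hz
      have : z' = z := Subtype.ext hzz'
      rwa [← this]
    have htop : X₁.subgroupOf (P : Subgroup G) ⊔ frattini ↥(P : Subgroup G) = ⊤ := by
      rw [eq_top_iff]
      calc (⊤ : Subgroup ↥(P : Subgroup G)) = (Q ⊔ X₁).subgroupOf (P : Subgroup G) := by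
            rw [hsup, Subgroup.subgroupOf_self]
        _ = Q.subgroupOf (P : Subgroup G) ⊔ X₁.subgroupOf (P : Subgroup G) :=
            Subgroup.subgroupOf_sup hQP hX₁P
        _ ≤ X₁.subgroupOf (P : Subgroup G) ⊔ frattini ↥(P : Subgroup G) := by
            rw [sup_comm]
            exact sup_le_sup_left hQfr _
    have hX₁top := frattini_nongenerating htop
    rw [Subgroup.subgroupOf_eq_top] at hX₁top
    apply le_antisymm hXP
    intro z hz
    rw [hP'coe, Subgroup.mem_subgroupOf] at hz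
    obtain ⟨z', hz', hzz'⟩ := hX₁top hz
    have : z' = z := Subtype.ext hzz'
    rwa [← this]
  obtain ⟨H, hHn, hHc⟩ := npc_of_quotient P' (Q.subgroupOf (Subgroup.normalizer (Q : Set G))) hQ'P' hcomm' hfr
  exact ⟨P', H, hHn, hHc⟩

end Cfsg.Agent.helper19
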