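import Mathlib
import Cfsg.Prelude.Def_Transfer
import Cfsg.Agent.Lib_helper10_Hyperfocal

set_option autoImplicit false
set_option linter.style.haveILetI false
set_option linter.unusedSectionVars false
set_option linter.unusedVariables false

namespace Cfsg.Agent.helper1

open scoped Pointwise

variable {G : Type*} [Group G]

/-- `Z(H)` written as `H ⊓ C(H)` is compatible with conjugation -/
theorem conj_smul_inf_centralizer (a : G) (H : Subgroup G) :
    MulAut.conj a • (H ⊓ Subgroup.centralizer (H : Set G)) =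
      (MulAut.conj a • H) ⊓ Subgroup.centralizer ((MulAut.conj a • H : Subgroup G) : Set G) := by
  ext x
  rw [Subgroup.mem_pointwise_smul_iff_inv_smul_mem, Subgroup.mem_inf, Subgroup.mem_inf,
    Subgroup.mem_pointwise_smul_iff_inv_smul_mem, Subgroup.mem_centralizer_iff,
    Subgroup.mem_centralizer_iff]
  constructor
  · rintro ⟨h1, h2⟩
    refine ⟨h1, fun y hy => ?_⟩
    have hy' : (MulAut.conj a)⁻¹ • y ∈ H := Subgroup.mem_pointwise_smul_iff_inv_smul_mem.mp hy
    have := h2 _ hy'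
    have h3 := congrArg (fun t => MulAut.conj a • t) this
    simp only [smul_mul', smul_inv_smul] at h3
    exact h3
  · rintro ⟨h1, h2⟩
    refine ⟨h1, fun y hy => ?_⟩
    have hy' : MulAut.conj a • y ∈ (MulAut.conj a • H : Subgroup G) :=
      Subgroup.smul_mem_pointwise_smul _ _ _ hy
    have := h2 _ hy'
    have h3 := congrArg (fun t => (MulAut.conj a)⁻¹ • t) this
    simp only [smul_mul', inv_smul_smul] at h3
    exact h3

/-- extraction of a `p'`-power with the same action -/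
theorem exists_pprime_pow (p : ℕ) [hp : Fact p.Prime] [Finite G] (n : G) (t : ℕ)
    (ht : Nat.Coprime t p) (ht0 : t ≠ 0) :
    ∃ k j : ℕ, Nat.Coprime (orderOf (n ^ k)) p ∧ n ^ k = n * (n ^ t) ^ j := by
  have hm0 : orderOf n ≠ 0 := (orderOf_pos n).ne'
  obtain ⟨a, r, hr, hm⟩ := Nat.exists_eq_pow_mul_and_not_dvd hm0 p hp.out.ne_one
  have hcop : Nat.Coprime (p ^ a) t := Nat.Coprime.pow_left a ht.symm
  obtain ⟨k, hk1, hk2⟩ := Nat.chineseRemainder hcop 0 1
  -- make k positive
  set k' := k + p ^ a * t with hk'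
  have hk'1 : p ^ a ∣ k' := by
    have : p ^ a ∣ k := (Nat.modEq_zero_iff_dvd).mp hk1
    exact Dvd.dvd.add this (dvd_mul_right _ _)
  have hk'2 : k' ≡ 1 [MOD t] := by
    have h1 : k + p ^ a * t ≡ k + 0 [MOD t] :=
      Nat.ModEq.add_left k ((Nat.modEq_zero_iff_dvd).mpr (dvd_mul_left _ _))
    rw [add_zero] at h1
    exact h1.trans hk2
  have hk'pos : 1 ≤ k' := by
    have : 0 < p ^ a * t := Nat.mul_pos (pow_pos hp.out.pos a) (Nat.pos_of_ne_zero ht0)
    omega
  obtain ⟨j, hj⟩ : t ∣ k' - 1 := (Nat.modEq_iff_dvd' hk'pos).mp hk'2.symm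
  refine ⟨k', j, ?_, ?_⟩
  · have h1 : (n ^ k') ^ r = 1 := by
      rw [← pow_mul]
      obtain ⟨q, hq⟩ := hk'1
      rw [hq, mul_right_comm, ← hm, pow_mul, pow_orderOf_eq_one, one_pow]
    have h2 : orderOf (n ^ k') ∣ r := orderOf_dvd_of_pow_eq_one h1
    have h3 : Nat.Coprime r p := ((Nat.Prime.coprime_iff_not_dvd hp.out).mpr hr).symm
    exact Nat.Coprime.coprime_dvd_left h2 h3
  · have : k' = 1 + t * j := by omega
    rw [this, pow_add, pow_one, pow_mul]

theorem mem_normalizer_of_conj_smul_eq {H : Subgroup G} {n : G} (h : MulAut.conj n • H = H) :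
    n ∈ Subgroup.normalizer (H : Set G) := by
  rw [Subgroup.mem_normalizer_iff]
  intro x
  constructor
  · intro hx
    have : MulAut.conj n • x ∈ MulAut.conj n • H := Subgroup.smul_mem_pointwise_smul _ _ _ hx
    rw [h] at this
    exact this
  · intro hx
    have h2 : MulAut.conj n • x ∈ MulAut.conj n • H := by
      rw [h]
      exact hx
    exact Subgroup.smul_mem_pointwise_smul_iff.mp h2

/-- In a `p`-normal group, fusion in `P` is controlled by `N(Z(P))`. -/
theorem pnormal_fusion [Finite G] {p : ℕ} [hp : Fact p.Prime] (P : Sylow p G)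
    (hn : ∀ Q : Sylow p G, (P : Subgroup G) ⊓ Subgroup.centralizer (P : Set G) ≤ (Q : Subgroup G) →
      (Q : Subgroup G) ⊓ Subgroup.centralizer (Q : Set G) =
        (P : Subgroup G) ⊓ Subgroup.centralizer (P : Set G))
    (U : Subgroup G) (hU : U ≤ P) (g : G) (hg : g ∈ Subgroup.normalizer (U : Set G)) :
    ∃ n ∈ Subgroup.normalizer
        (((P : Subgroup G) ⊓ Subgroup.centralizer (P : Set G) : Subgroup G) : Set G),
      ∀ x ∈ U, n * x * n⁻¹ = g * x * g⁻¹ := by
  set Z := (P : Subgroup G) ⊓ Subgroup.centralizer (P : Set G) with hZ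
  set C := Subgroup.centralizer (U : Set G) with hC
  have hZC : Z ≤ C := by
    intro z hz
    rw [hC, Subgroup.mem_centralizer_iff]
    intro u hu
    exact (Subgroup.mem_centralizer_iff.mp (Subgroup.mem_inf.mp hz).2) u (hU hu)
  have hconjC : ∀ z ∈ Z, g * z * g⁻¹ ∈ C := by
    intro z hz
    rw [hC, Subgroup.mem_centralizer_iff]
    intro u hu
    have hu' : g⁻¹ * u * g ∈ U := by
      have := (Subgroup.mem_normalizer_iff.mp (Subgroup.inv_mem _ hg) u).mp hu
      simpa using this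
    have h1 := (Subgroup.mem_centralizer_iff.mp (hZC hz)) _ hu'
    calc u * (g * z * g⁻¹) = g * ((g⁻¹ * u * g) * z) * g⁻¹ := by group
      _ = g * (z * (g⁻¹ * u * g)) * g⁻¹ := by rw [h1]
      _ = g * z * g⁻¹ * u := by group
  have hZp : IsPGroup p Z := P.isPGroup'.to_le inf_le_left
  have hZ'p : IsPGroup p (Z.map (MulAut.conj g).toMonoidHom) := hZp.map _
  obtain ⟨R, hR⟩ := (hZp.comap_subtype (K := C)).exists_le_sylow
  obtain ⟨R', hR'⟩ := (hZ'p.comap_subtype (K := C)).exists_le_sylow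
  obtain ⟨c, hc⟩ := MulAction.exists_smul_eq C R' R
  obtain ⟨Q, hQ⟩ := (R.isPGroup'.map C.subtype).exists_le_sylow
  have hZQ : Z ≤ Q := by
    intro z hz
    apply hQ
    exact ⟨⟨z, hZC hz⟩, hR (by exact hz), rfl⟩
  set n := (c : G) * g with hn_def
  have hnZQ : ∀ z ∈ Z, n * z * n⁻¹ ∈ (Q : Subgroup G) := by
    intro z hz
    have hw : (⟨g * z * g⁻¹, hconjC z hz⟩ : C) ∈ (R' : Subgroup C) := by
      apply hR'
      show g * z * g⁻¹ ∈ Z.map (MulAut.conj g).toMonoidHom
      exact ⟨z, hz, rfl⟩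
    have h1 : MulAut.conj c • (⟨g * z * g⁻¹, hconjC z hz⟩ : C) ∈
        ((c • R' : Sylow p C) : Subgroup C) := by
      rw [Sylow.coe_subgroup_smul]
      exact Subgroup.smul_mem_pointwise_smul _ _ _ hw
    rw [hc] at h1
    apply hQ
    refine ⟨_, h1, ?_⟩
    show ((MulAut.conj c (⟨g * z * g⁻¹, hconjC z hz⟩ : C) : C) : G) = n * z * n⁻¹
    rw [hn_def]
    simp only [MulAut.conj_apply, Subgroup.coe_mul, Subgroup.coe_inv]
    group
  have h1 := hn Q hZQ
  -- p-normality transported by `n`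
  have h2 : (Q : Subgroup G) ⊓ Subgroup.centralizer (Q : Set G) = MulAut.conj n • Z := by
    have h3 : Z ≤ ((n⁻¹ • Q : Sylow p G) : Subgroup G) := by
      intro z hz
      rw [Sylow.coe_subgroup_smul, Subgroup.mem_pointwise_smul_iff_inv_smul_mem, map_inv, inv_inv]
      exact hnZQ z hz
    have h4 := hn (n⁻¹ • Q) h3
    have h4' : (MulAut.conj n⁻¹ • (Q : Subgroup G)) ⊓
        Subgroup.centralizer ((MulAut.conj n⁻¹ • (Q : Subgroup G) : Subgroup G) : Set G) = Z := by
      rw [← Sylow.coe_subgroup_smul]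
      exact h4
    rw [← conj_smul_inf_centralizer] at h4'
    have h4 := h4'
    rw [← h4, smul_smul, ← map_mul, mul_inv_cancel, map_one, one_smul]
    rfl
  have h5 : MulAut.conj n • Z = Z := by rw [← h2, h1]
  refine ⟨n, mem_normalizer_of_conj_smul_eq h5, fun x hx => ?_⟩
  have hgx : g * x * g⁻¹ ∈ U := (Subgroup.mem_normalizer_iff.mp hg x).mp hx
  have hcomm := (Subgroup.mem_centralizer_iff.mp c.2) _ hgx
  rw [hn_def]
  calc (c : G) * g * x * ((c : G) * g)⁻¹ = ((c : G) * (g * x * g⁻¹)) * (c : G)⁻¹ := by group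
    _ = ((g * x * g⁻¹) * (c : G)) * (c : G)⁻¹ := by rw [hcomm]
    _ = g * x * g⁻¹ := by group

end Cfsg.Agent.helper1
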