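import Cfsg.Statements.S0078
import Mathlib
import Cfsg.Agent.Lib_helper1_Gruen

set_option autoImplicit false
set_option linter.style.haveILetI false
set_option linter.unusedVariables false
open Cfsg

namespace Cfsg.Agent.S0078

/-- In a p-normal group, a Sylow p-subgroup P meets O^p(G) exactly where it meets O^p(V), for any subgroup V containing the normalizer of the centre of P. -/
theorem result {G : Type*} [Group G] [Finite G] {p : ℕ} [Fact p.Prime] (P : Sylow p G) (hn : ∀ Q : Sylow p G, (P : Subgroup G) ⊓ Subgroup.centralizer (P : Set G) ≤ (Q : Subgroup G) → (Q : Subgroup G) ⊓ Subgroup.centralizer (Q : Set G) = (P : Subgroup G) ⊓ Subgroup.centralizer (P : Set G)) (V : Subgroup G) (hV : Subgroup.normalizer (((P : Subgroup G) ⊓ Subgroup.centralizer (P : Set G) : Subgroup G) : Set G) ≤ V) : (P : Subgroup G) ⊓ Cfsg.pResidual p G = (P : Subgroup G) ⊓ (Cfsg.pResidual p V).map V.subtype := by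
  classical
  set Z := (P : Subgroup G) ⊓ Subgroup.centralizer (P : Set G) with hZ
  have hPN : (P : Subgroup G) ≤ Subgroup.normalizer (Z : Set G) := by
    intro x hx
    rw [Subgroup.mem_normalizer_iff]
    intro z
    constructor
    · intro hz
      have hzc := Subgroup.mem_centralizer_iff.mp (Subgroup.mem_inf.mp hz).2 x hx
      have : x * z * x⁻¹ = z := by rw [hzc, mul_inv_cancel_right]
      rw [this]; exact hz
    · intro hz
      have hzc := Subgroup.mem_centralizer_iff.mp (Subgroup.mem_inf.mp hz).2 x hx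
      have h1 : x * z * x⁻¹ = z := by
        have h2 : x * (x * z * x⁻¹) = x * z := by rw [hzc]; group
        exact mul_left_cancel h2
      rw [← h1]; exact hz
  have hle : (Cfsg.pResidual p V).map V.subtype ≤ Cfsg.pResidual p G := by
    unfold Cfsg.pResidual
    rw [MonoidHom.map_closure]
    apply Subgroup.closure_mono
    rintro _ ⟨v, hv, rfl⟩
    show Nat.Coprime (orderOf (v : G)) p
    rw [Subgroup.orderOf_coe]
    exact hv
  apply le_antisymm
  · -- hard direction
    have hhyp := Cfsg.Agent.helper10.inf_pResidual_le_closure_hypSet P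
    refine le_inf inf_le_left (hhyp.trans ?_)
    rw [Subgroup.closure_le]
    rintro y ⟨U, hU, g, hg, hcop, x, hx, rfl⟩
    obtain ⟨n, hnN, hnx⟩ := Cfsg.Agent.helper1.pnormal_fusion P hn U hU g hg
    -- n^(orderOf g) centralizes U
    have hg0 : orderOf g ≠ 0 := (orderOf_pos g).ne'
    have hpow : ∀ (k : ℕ) (u : G), u ∈ U → n ^ k * u * (n ^ k)⁻¹ = g ^ k * u * (g ^ k)⁻¹ ∧
        g ^ k * u * (g ^ k)⁻¹ ∈ U := by
      intro k
      induction k with
      | zero => intro u hu; simp [hu]
      | succ k ih =>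
        intro u hu
        obtain ⟨h1, h2⟩ := ih u hu
        have h3 := hnx _ h2
        have h4 : g * (g ^ k * u * (g ^ k)⁻¹) * g⁻¹ ∈ U :=
          (Subgroup.mem_normalizer_iff.mp hg _).mp h2
        constructor
        · calc n ^ (k + 1) * u * (n ^ (k + 1))⁻¹ = n * (n ^ k * u * (n ^ k)⁻¹) * n⁻¹ := by
                rw [pow_succ']; group
            _ = n * (g ^ k * u * (g ^ k)⁻¹) * n⁻¹ := by rw [h1]
            _ = g * (g ^ k * u * (g ^ k)⁻¹) * g⁻¹ := h3
            _ = g ^ (k + 1) * u * (g ^ (k + 1))⁻¹ := by rw [pow_succ']; group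
        · have : g ^ (k + 1) * u * (g ^ (k + 1))⁻¹ = g * (g ^ k * u * (g ^ k)⁻¹) * g⁻¹ := by
            rw [pow_succ']; group
          rw [this]; exact h4
    have hcent : ∀ (j : ℕ) (u : G), u ∈ U → (n ^ orderOf g) ^ j * u = u * (n ^ orderOf g) ^ j := by
      intro j u hu
      have h1 := (hpow (orderOf g * j) u hu).1
      rw [pow_mul, pow_mul, pow_orderOf_eq_one, one_pow, one_mul, inv_one, mul_one] at h1
      rw [mul_inv_eq_iff_eq_mul] at h1
      exact h1
    obtain ⟨k, j, hk1, hk2⟩ := Cfsg.Agent.helper1.exists_pprime_pow p n (orderOf g) hcop hg0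
    set n' := n ^ k with hn'
    have hn'x : n' * x * n'⁻¹ = g * x * g⁻¹ := by
      rw [hk2, mul_assoc n, hcent j x hx, ← hnx x hx]
      group
    have hn'V : n' ∈ V := hV (Subgroup.pow_mem _ hnN k)
    have hxV : x ∈ V := hV (hPN (hU hx))
    have hn'res : (⟨n', hn'V⟩ : V) ∈ Cfsg.pResidual p V := by
      unfold Cfsg.pResidual
      apply Subgroup.subset_closure
      show Nat.Coprime (orderOf (⟨n', hn'V⟩ : V)) p
      rw [← Subgroup.orderOf_coe]
      exact hk1
    haveI := Cfsg.Agent.helper10.pResidual_normal p V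
    have h5 : (⟨x, hxV⟩ : V)⁻¹ * ⟨n', hn'V⟩ * (⟨x, hxV⟩ : V)⁻¹⁻¹ ∈ Cfsg.pResidual p V :=
      Subgroup.Normal.conj_mem inferInstance _ hn'res _
    have h6 := Subgroup.mul_mem _ h5 (Subgroup.inv_mem _ hn'res)
    refine ⟨_, h6, ?_⟩
    show (x⁻¹ * n' * x⁻¹⁻¹) * n'⁻¹ = x⁻¹ * (g * x * g⁻¹)
    rw [← hn'x]
    group
  · exact inf_le_inf_left _ hle

end Cfsg.Agent.S0078
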