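import Mathlib
import Cfsg.Prelude.Def_Transfer
import Cfsg.Agent.Lib_helper10_NPC
import Cfsg.Agent.Lib_helper10_PResidual
import Cfsg.Agent.Lib_lead_Coprime2
import Cfsg.Agent.S0078
import Cfsg.Agent.Lib_helper1_Gruen
import Cfsg.Agent.Lib_helper19_PGroup
import Cfsg.Agent.Lib_helper19_Basic
import Cfsg.Agent.Lib_helper19_NilMax
import Cfsg.Agent.Lib_helper23_Hall

set_option autoImplicit false
set_option linter.style.haveILetI false

namespace Cfsg.Agent.helper19

open Cfsg
open scoped commutatorElement Pointwise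

universe u

/-- In a group of class at most two, commutators are central. -/
theorem comm_central_of_class_le_two {X : Type u} [Group X] [hX : Group.IsNilpotent X]
    (h : Group.nilpotencyClass X ≤ 2) (a b c : X) :
    (a * b * a⁻¹ * b⁻¹) * c = c * (a * b * a⁻¹ * b⁻¹) := by
  have h2 : Subgroup.lowerCentralSeries (⊤ : Subgroup X) 2 = ⊥ :=
    Subgroup.lowerCentralSeries_eq_bot_iff_nilpotencyClass_le.mpr h
  have h3 : ⁅⁅a, b⁆, c⁆ ∈ Subgroup.lowerCentralSeries (⊤ : Subgroup X) 2 := by
    rw [Subgroup.lowerCentralSeries_succ, Subgroup.lowerCentralSeries_succ,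
      Subgroup.lowerCentralSeries_zero]
    exact Subgroup.commutator_mem_commutator
      (Subgroup.commutator_mem_commutator (Subgroup.mem_top a) (Subgroup.mem_top b))
      (Subgroup.mem_top c)
  rw [h2, Subgroup.mem_bot, commutatorElement_eq_one_iff_commute] at h3
  have := h3.eq
  rw [commutatorElement_def] at this
  exact this

/-- Numerical form of a normal `p`-complement. -/
theorem npc_card {X : Type u} [Group X] [Finite X] (p : ℕ) [hp : Fact p.Prime]
    (h : Cfsg.HasNormalPComplement p X) :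
    ∃ K : Subgroup X, K.Normal ∧ K.index = p ^ (Nat.card X).factorization p ∧
      ¬ p ∣ Nat.card K := by
  have hpp : p.Prime := hp.out
  obtain ⟨S', K, hKn, hKS⟩ := h
  refine ⟨K, hKn, ?_, ?_⟩
  · rw [hKS.symm.index_eq_card, Sylow.card_eq_multiplicity]
  · intro hd
    have h1 : Nat.card K * p ^ (Nat.card X).factorization p = Nat.card X := by
      rw [← Sylow.card_eq_multiplicity S']; exact hKS.card_mul_card
    have h2 : p ^ ((Nat.card X).factorization p + 1) ∣ Nat.card X := by
      have h3 : p * p ^ (Nat.card X).factorization p ∣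
          Nat.card K * p ^ (Nat.card X).factorization p := Nat.mul_dvd_mul hd dvd_rfl
      rw [h1] at h3
      rw [pow_succ, mul_comm]; exact h3
    have := (hpp.pow_dvd_iff_le_factorization Nat.card_pos.ne').mp h2
    omega

/-- `O^p(X)` lies in every normal subgroup of `p`-power index. -/
theorem pResidual_le_of_index_pow {X : Type u} [Group X] [Finite X] (p : ℕ) [hp : Fact p.Prime]
    (N : Subgroup X) [N.Normal] (k : ℕ) (h : N.index = p ^ k) : Cfsg.pResidual p X ≤ N := by
  unfold Cfsg.pResidual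
  rw [Subgroup.closure_le]
  intro g hg
  have hg' : Nat.Coprime (orderOf g) p := hg
  have h1 : orderOf (QuotientGroup.mk' N g) ∣ orderOf g :=
    orderOf_map_dvd (QuotientGroup.mk' N) g
  have h2 : orderOf (QuotientGroup.mk' N g) ∣ p ^ k := by
    rw [← h, Subgroup.index_eq_card]; exact orderOf_dvd_natCard _
  have h3 : orderOf (QuotientGroup.mk' N g) = 1 :=
    Nat.Coprime.eq_one_of_dvd (Nat.Coprime.coprime_dvd_left h1 (Nat.Coprime.pow_right k hg')) h2
  have h4 := orderOf_eq_one_iff.mp h3
  exact (QuotientGroup.eq_one_iff g).mp h4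

/-- A normal subgroup meeting a Sylow `p`-subgroup trivially has order prime to `p`. -/
theorem not_dvd_card_of_sylow_inf_eq_bot {X : Type u} [Group X] [Finite X] (p : ℕ)
    [hp : Fact p.Prime] (S : Sylow p X) (R : Subgroup X) [hR : R.Normal]
    (h : (S : Subgroup X) ⊓ R = ⊥) : ¬ p ∣ Nat.card R := by
  intro hd
  obtain ⟨x, hx⟩ := exists_prime_orderOf_dvd_card' p hd
  have hxX : orderOf (x : X) = p := by rw [Subgroup.orderOf_coe]; exact hx
  have hzp : IsPGroup p (Subgroup.zpowers (x : X)) := by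
    apply IsPGroup.of_card (n := 1); rw [Nat.card_zpowers, hxX, pow_one]
  obtain ⟨Q, hQ⟩ := hzp.exists_le_sylow
  obtain ⟨g, hg⟩ := MulAction.exists_smul_eq X Q S
  have hxQ : (x : X) ∈ (Q : Subgroup X) := hQ (Subgroup.mem_zpowers _)
  have h1 : g * x * g⁻¹ ∈ (S : Subgroup X) := by
    rw [← hg, Sylow.coe_subgroup_smul, memsmul]
    have e : g⁻¹ * (g * ↑x * g⁻¹) * g = x := by group
    rw [e]; exact hxQ
  have h2 : g * x * g⁻¹ ∈ R := hR.conj_mem _ x.2 g
  have h3 : g * x * g⁻¹ ∈ (S : Subgroup X) ⊓ R := ⟨h1, h2⟩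
  rw [h, Subgroup.mem_bot] at h3
  have h4 : (x : X) = 1 := by
    have : (x : X) = g⁻¹ * (g * x * g⁻¹) * g := by group
    rw [this, h3]; group
  rw [h4, orderOf_one] at hxX
  exact (ne_of_lt hp.out.one_lt) hxX

theorem le_normalizer_of_conj_mem_nm {G : Type u} [Group G] (H K : Subgroup G)
    (h : ∀ g ∈ K, ∀ x ∈ H, g * x * g⁻¹ ∈ H) : K ≤ Subgroup.normalizer (H : Set G) := by
  intro g hg
  rw [Subgroup.mem_normalizer_iff]
  intro x
  constructor
  · exact h g hg x
  · intro hx
    have := h g⁻¹ (K.inv_mem hg) _ hx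
    have e : g⁻¹ * (g * x * g⁻¹) * g⁻¹⁻¹ = x := by group
    rwa [e] at this

/-- Core-free nilpotent maximal subgroup of class at most two: normal `p`-complements for all `p`
dividing `|M|`. -/
theorem exists_npc_of_nilpotent_class_two_coatom {G : Type u} [Group G] [Finite G]
    (M : Subgroup G) (hmax : IsCoatom M) (hnil : Group.IsNilpotent M)
    (hcl : Group.nilpotencyClass ↥M ≤ 2) (hcore : M.normalCore = ⊥) (p : ℕ)
    [Fact p.Prime] (hpM : p ∣ Nat.card M) :
    ∃ K : Subgroup G, K.Normal ∧ K.index = p ^ (Nat.card M).factorization p ∧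
      ¬ p ∣ Nat.card K := by
  have hpp : p.Prime := Fact.out
  -- key: normalizers of nontrivial M-invariant subgroups of M are M
  have key : ∀ C : Subgroup G, C ≠ ⊥ → C ≤ M → M ≤ Subgroup.normalizer (C : Set G) →
      Subgroup.normalizer (C : Set G) = M := by
    intro C hC1 hCM hMC
    rcases eq_or_lt_of_le hMC with h | h
    · exact h.symm
    · exfalso
      have htop := hmax.2 _ h
      haveI : C.Normal := Subgroup.normalizer_eq_top_iff.mp htop
      have : C ≤ M.normalCore := Subgroup.normal_le_normalCore.mpr hCM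
      rw [hcore, le_bot_iff] at this
      exact hC1 this
  -- the Sylow p-subgroup of M
  obtain ⟨P₀⟩ : Nonempty (Sylow p ↥M) := inferInstance
  have hP₀n : (P₀ : Subgroup ↥M).Normal :=
    ((Group.isNilpotent_of_finite_tfae (G := ↥M)).out 0 3 rfl rfl).mp hnil p inferInstance P₀
  set P : Subgroup G := (P₀ : Subgroup ↥M).map M.subtype with hP
  have hPM : P ≤ M := Subgroup.map_subtype_le _
  have hPp : IsPGroup p P := P₀.isPGroup'.map _
  have hPcard : Nat.card P = p ^ (Nat.card M).factorization p := by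
    rw [hP, Subgroup.card_map_of_injective M.subtype_injective, Sylow.card_eq_multiplicity]
  have hfac : 1 ≤ (Nat.card M).factorization p := by
    have : 0 < (Nat.card M).factorization p :=
      hpp.factorization_pos_of_dvd Nat.card_pos.ne' hpM
    exact this
  have hP1 : P ≠ ⊥ := by
    intro h
    rw [h, Subgroup.card_bot] at hPcard
    have : 1 < p ^ (Nat.card M).factorization p := Nat.one_lt_pow (by omega) hpp.one_lt
    omega
  have hMP : M ≤ Subgroup.normalizer (P : Set G) := by
    have h1 : (P.subgroupOf M).Normal := by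
      have : P.subgroupOf M = (P₀ : Subgroup ↥M) := by
        rw [hP]
        exact Subgroup.comap_map_eq_self_of_injective M.subtype_injective _
      rw [this]; exact hP₀n
    exact (Subgroup.normal_subgroupOf_iff_le_normalizer hPM).mp h1
  have hNP := key P hP1 hPM hMP
  -- P is Sylow in G
  obtain ⟨S, hPS⟩ := hPp.exists_le_sylow
  have hSP : (S : Subgroup G) = P := by
    by_contra hne
    have hlt : P < (S : Subgroup G) := lt_of_le_of_ne hPS (Ne.symm hne)
    obtain ⟨x, hxS, hxN, hxP⟩ := pgroup_normalizer_lt (S : Subgroup G) P S.isPGroup' hlt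
    have hxM : x ∈ M := by rw [← hNP]; exact hxN
    set T := (S : Subgroup G) ⊓ M with hT
    have hTp : IsPGroup p T := S.isPGroup'.to_le inf_le_left
    have hPT : P ≤ T := le_inf hPS hPM
    have hxT : x ∈ T := ⟨hxS, hxM⟩
    have hT' : IsPGroup p (T.subgroupOf M) := hTp.comap_subtype
    have hle : (P₀ : Subgroup ↥M) ≤ T.subgroupOf M := by
      intro y hy
      rw [Subgroup.mem_subgroupOf]
      exact hPT ⟨y, hy, rfl⟩
    have heq := P₀.is_maximal' hT' hle
    have : (⟨x, hxM⟩ : ↥M) ∈ (P₀ : Subgroup ↥M) := by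
      rw [← heq, Subgroup.mem_subgroupOf]; exact hxT
    apply hxP
    exact ⟨⟨x, hxM⟩, this, rfl⟩
  have hSne : (S : Subgroup G) ≠ ⊥ := by rw [hSP]; exact hP1
  have hSM : (S : Subgroup G) ≤ M := by rw [hSP]; exact hPM
  have hMS : M ≤ Subgroup.normalizer ((S : Subgroup G) : Set G) := by rw [hSP]; exact hMP
  haveI hMfin : Group.IsNilpotent ↥M := hnil
  have hnpcM : Cfsg.HasNormalPComplement p ↥M := npc_of_isNilpotent p
  -- class two
  have hcc : ∀ a ∈ M, ∀ b ∈ M, ∀ c ∈ M,
      (a * b * a⁻¹ * b⁻¹) * c = c * (a * b * a⁻¹ * b⁻¹) := by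
    intro a ha b hb c hc
    have := comm_central_of_class_le_two hcl ⟨a, ha⟩ ⟨b, hb⟩ ⟨c, hc⟩
    exact congrArg Subtype.val this
  -- p-subgroups of M lie in S
  have hple : ∀ T : Subgroup G, IsPGroup p T → T ≤ M → T ≤ (S : Subgroup G) := by
    intro T hT hTM x hx
    have h1 : T.subgroupOf M ≤ (P₀ : Subgroup ↥M) :=
      le_normal_sylow P₀ hP₀n _ hT.comap_subtype
    have h2 : (⟨x, hTM hx⟩ : ↥M) ∈ (P₀ : Subgroup ↥M) := h1 (Subgroup.mem_subgroupOf.mpr hx)
    rw [hSP, hP]
    exact ⟨⟨x, hTM hx⟩, h2, rfl⟩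
  -- Z(S)
  set Z := (S : Subgroup G) ⊓ Subgroup.centralizer (S : Set G) with hZ
  have hZ' : Z = (S : Subgroup G) ⊓ Subgroup.centralizer (((S : Subgroup G)) : Set G) := rfl
  have hZ1 : Z ≠ ⊥ := by
    rw [hZ', ← map_center_eq_inf_centralizer]
    haveI : Nontrivial ↥(S : Subgroup G) := (Subgroup.nontrivial_iff_ne_bot _).mpr hSne
    haveI := S.isPGroup'.center_nontrivial
    intro h
    rw [Subgroup.map_eq_bot_iff_of_injective _ (Subgroup.subtype_injective _)] at h
    exact (Subgroup.nontrivial_iff_ne_bot _).mp inferInstance h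
  have hZS : Z ≤ (S : Subgroup G) := inf_le_left
  have hZM : Z ≤ M := le_trans hZS hSM
  have hZmem : ∀ z, z ∈ Z ↔ z ∈ (S : Subgroup G) ∧ ∀ s ∈ (S : Subgroup G), s * z = z * s := by
    intro z
    constructor
    · rintro ⟨h1, h2⟩
      exact ⟨h1, fun s hs => (Subgroup.mem_centralizer_iff.mp h2) s hs⟩
    · rintro ⟨h1, h2⟩
      exact ⟨h1, Subgroup.mem_centralizer_iff.mpr (fun s hs => h2 s hs)⟩
  have hMZ : M ≤ Subgroup.normalizer (Z : Set G) := by
    apply le_normalizer_of_conj_mem_nm
    intro g hg z hz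
    obtain ⟨hzS, hzc⟩ := (hZmem z).mp hz
    rw [hZmem]
    refine ⟨(Subgroup.mem_normalizer_iff.mp (hMS hg) z).mp hzS, ?_⟩
    intro s hs
    have h1 : g⁻¹ * s * g ∈ (S : Subgroup G) := by
      have := (Subgroup.mem_normalizer_iff.mp (hMS (M.inv_mem hg)) s).mp hs
      simpa using this
    have h2 := hzc _ h1
    calc s * (g * z * g⁻¹) = g * ((g⁻¹ * s * g) * z) * g⁻¹ := by group
      _ = g * (z * (g⁻¹ * s * g)) * g⁻¹ := by rw [h2]
      _ = g * z * g⁻¹ * s := by group
  have hNZ := key Z hZ1 hZM hMZ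
  have hcomS : ∀ a ∈ (S : Subgroup G), ∀ b ∈ (S : Subgroup G), a * b * a⁻¹ * b⁻¹ ∈ Z := by
    intro a ha b hb
    rw [hZmem]
    refine ⟨(S : Subgroup G).mul_mem ((S : Subgroup G).mul_mem ((S : Subgroup G).mul_mem ha hb)
      ((S : Subgroup G).inv_mem ha)) ((S : Subgroup G).inv_mem hb), ?_⟩
    intro s hs
    exact (hcc a (hSM ha) b (hSM hb) s (hSM hs)).symm
  -- p-normality
  have hQeq : ∀ Q : Sylow p G, Z ≤ (Q : Subgroup G) → (Q : Subgroup G) = (S : Subgroup G) := by
    intro Q hZQ
    set ZQ := (Q : Subgroup G) ⊓ Subgroup.centralizer ((Q : Subgroup G) : Set G) with hZQdef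
    have hZQmem : ∀ z, z ∈ ZQ ↔
        z ∈ (Q : Subgroup G) ∧ ∀ s ∈ (Q : Subgroup G), s * z = z * s := by
      intro z
      constructor
      · rintro ⟨h1, h2⟩
        exact ⟨h1, fun s hs => (Subgroup.mem_centralizer_iff.mp h2) s hs⟩
      · rintro ⟨h1, h2⟩
        exact ⟨h1, Subgroup.mem_centralizer_iff.mpr (fun s hs => h2 s hs)⟩
    have h1 : ZQ ≤ Subgroup.centralizer (Z : Set G) := by
      intro x hx
      rw [Subgroup.mem_centralizer_iff]
      intro z hz
      exact ((hZQmem x).mp hx).2 z (hZQ hz)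
    have h2 : ZQ ≤ M := by
      rw [← hNZ]; exact le_trans h1 (Subgroup.centralizer_le_normalizer _)
    have hZQp : IsPGroup p ZQ := Q.isPGroup'.to_le inf_le_left
    have h3 : ZQ ≤ (S : Subgroup G) := hple ZQ hZQp h2
    obtain ⟨g, hg⟩ := MulAction.exists_smul_eq G S Q
    have hQmem : ∀ q ∈ (Q : Subgroup G), g⁻¹ * q * g ∈ (S : Subgroup G) := by
      intro q hq
      rw [← hg, Sylow.coe_subgroup_smul, memsmul] at hq
      exact hq
    have hccQ : ∀ a ∈ (Q : Subgroup G), ∀ b ∈ (Q : Subgroup G), ∀ c ∈ (Q : Subgroup G),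
        (a * b * a⁻¹ * b⁻¹) * c = c * (a * b * a⁻¹ * b⁻¹) := by
      intro a ha b hb c hc
      have := hcc _ (hSM (hQmem a ha)) _ (hSM (hQmem b hb)) _ (hSM (hQmem c hc))
      have e1 : (a * b * a⁻¹ * b⁻¹) * c = g * (((g⁻¹ * a * g) * (g⁻¹ * b * g) *
          (g⁻¹ * a * g)⁻¹ * (g⁻¹ * b * g)⁻¹) * (g⁻¹ * c * g)) * g⁻¹ := by group
      have e2 : c * (a * b * a⁻¹ * b⁻¹) = g * ((g⁻¹ * c * g) * ((g⁻¹ * a * g) * (g⁻¹ * b * g) *
          (g⁻¹ * a * g)⁻¹ * (g⁻¹ * b * g)⁻¹)) * g⁻¹ := by group
      rw [e1, e2, this]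
    have hcomQ : ∀ a ∈ (Q : Subgroup G), ∀ b ∈ (Q : Subgroup G), a * b * a⁻¹ * b⁻¹ ∈ ZQ := by
      intro a ha b hb
      rw [hZQmem]
      refine ⟨(Q : Subgroup G).mul_mem ((Q : Subgroup G).mul_mem
        ((Q : Subgroup G).mul_mem ha hb) ((Q : Subgroup G).inv_mem ha))
        ((Q : Subgroup G).inv_mem hb), ?_⟩
      intro s hs
      exact (hccQ a ha b hb s hs).symm
    set D := (S : Subgroup G) ⊓ (Q : Subgroup G) with hD
    have hZD : Z ≤ D := le_inf hZS hZQ
    have hZQD : ZQ ≤ D := le_inf h3 inf_le_left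
    have hDS : ∀ s ∈ (S : Subgroup G), ∀ d ∈ D, s * d * s⁻¹ ∈ D := by
      intro s hs d hd
      have h4 : s * d * s⁻¹ * d⁻¹ ∈ D := hZD (hcomS s hs d hd.1)
      have e : s * d * s⁻¹ = (s * d * s⁻¹ * d⁻¹) * d := by group
      rw [e]; exact D.mul_mem h4 hd
    have hDQ : ∀ q ∈ (Q : Subgroup G), ∀ d ∈ D, q * d * q⁻¹ ∈ D := by
      intro q hq d hd
      have h4 : q * d * q⁻¹ * d⁻¹ ∈ D := hZQD (hcomQ q hq d hd.2)
      have e : q * d * q⁻¹ = (q * d * q⁻¹ * d⁻¹) * d := by group
      rw [e]; exact D.mul_mem h4 hd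
    -- M normalizes D
    have hDM : ∀ m ∈ M, ∀ d ∈ D, m * d * m⁻¹ ∈ D := by
      intro m hm d hd
      have htcop : Nat.Coprime (ordCompl[p] (Nat.card M)) p :=
        (Nat.coprime_ordCompl hpp Nat.card_pos.ne').symm
      have ht0 : ordCompl[p] (Nat.card M) ≠ 0 := (Nat.ordCompl_pos p Nat.card_pos.ne').ne'
      obtain ⟨k, j, hk1, hk2⟩ :=
        Cfsg.Agent.helper1.exists_pprime_pow p m (ordCompl[p] (Nat.card M)) htcop ht0
      have hmt : m ^ (ordCompl[p] (Nat.card M)) ∈ (S : Subgroup G) := by
        have h6 : (m ^ (ordCompl[p] (Nat.card M))) ^ (p ^ (Nat.card M).factorization p) = 1 := by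
          rw [← pow_mul, mul_comm, Nat.ordProj_mul_ordCompl_eq_self]
          have : (⟨m, hm⟩ : ↥M) ^ Nat.card M = 1 := pow_card_eq_one'
          exact congrArg Subtype.val this
        have h7 : orderOf (m ^ (ordCompl[p] (Nat.card M))) ∣ p ^ (Nat.card M).factorization p :=
          orderOf_dvd_of_pow_eq_one h6
        obtain ⟨b, -, hb⟩ := (Nat.dvd_prime_pow hpp).mp h7
        have h5 : IsPGroup p (Subgroup.zpowers (m ^ (ordCompl[p] (Nat.card M)))) :=
          IsPGroup.of_card (n := b) (by rw [Nat.card_zpowers, hb])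
        exact hple _ h5 (by rw [Subgroup.zpowers_le]; exact M.pow_mem hm _)
          (Subgroup.mem_zpowers _)
      have hy : (m ^ (ordCompl[p] (Nat.card M))) ^ j ∈ (S : Subgroup G) :=
        (S : Subgroup G).pow_mem hmt j
      have hcM : m ^ k ∈ M := M.pow_mem hm k
      generalize hy' : (m ^ (ordCompl[p] (Nat.card M))) ^ j = y at hk2 hy
      generalize hc' : m ^ k = c at hk1 hk2 hcM
      have hcs : ∀ s ∈ (S : Subgroup G), c * s = s * c := by
        intro s hs
        obtain ⟨e, he⟩ := S.isPGroup' ⟨s, hs⟩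
        have he' : s ^ p ^ e = 1 := by
          have := congrArg Subtype.val he
          simpa using this
        have hdvd : orderOf s ∣ p ^ e := orderOf_dvd_of_pow_eq_one he'
        have hcop : (orderOf (⟨c, hcM⟩ : ↥M)).Coprime (orderOf (⟨s, hSM hs⟩ : ↥M)) := by
          rw [Subgroup.orderOf_mk, Subgroup.orderOf_mk]
          exact Nat.Coprime.coprime_dvd_right hdvd (Nat.Coprime.pow_right e hk1)
        have := commute_of_coprime_of_isNilpotent ↥M ⟨c, hcM⟩ ⟨s, hSM hs⟩ hcop
        exact congrArg Subtype.val this.eq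
      have hm_eq : m = c * y⁻¹ := by rw [hk2]; group
      have hd' : y⁻¹ * d * y⁻¹⁻¹ ∈ D := hDS y⁻¹ ((S : Subgroup G).inv_mem hy) d hd
      have e : m * d * m⁻¹ = c * (y⁻¹ * d * y⁻¹⁻¹) * c⁻¹ := by rw [hm_eq]; group
      rw [e, hcs _ hd'.1]
      have e' : (y⁻¹ * d * y⁻¹⁻¹) * c * c⁻¹ = y⁻¹ * d * y⁻¹⁻¹ := by group
      rw [e']; exact hd'
    have hMD : M ≤ Subgroup.normalizer (D : Set G) := le_normalizer_of_conj_mem_nm D M hDM
    have hD1 : D ≠ ⊥ := fun h => hZ1 (by rw [eq_bot_iff, ← h]; exact hZD)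
    have hND := key D hD1 (le_trans inf_le_left hSM) hMD
    have hQN : (Q : Subgroup G) ≤ Subgroup.normalizer (D : Set G) :=
      le_normalizer_of_conj_mem_nm D Q hDQ
    have hQM : (Q : Subgroup G) ≤ M := by rw [← hND]; exact hQN
    have hQS := hple Q Q.isPGroup' hQM
    exact (Q.is_maximal' S.isPGroup' hQS).symm
  have hn : ∀ Q : Sylow p G,
      (S : Subgroup G) ⊓ Subgroup.centralizer (S : Set G) ≤ (Q : Subgroup G) →
      (Q : Subgroup G) ⊓ Subgroup.centralizer (Q : Set G) =
        (S : Subgroup G) ⊓ Subgroup.centralizer (S : Set G) := by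
    intro Q hQ
    have h := hQeq Q hQ
    have : Q = S := Sylow.ext h
    rw [this]
  have h78 := Cfsg.Agent.S0078.result S hn M hNZ.le
  -- O^p(M) is a p'-group
  obtain ⟨K', hK'n, hK'i, hK'c⟩ := npc_card p hnpcM
  haveI := hK'n
  have hRM : Cfsg.pResidual p ↥M ≤ K' := pResidual_le_of_index_pow p K' _ hK'i
  have hSR : (S : Subgroup G) ⊓ Cfsg.pResidual p G = ⊥ := by
    rw [h78, eq_bot_iff]
    have h1 : (Cfsg.pResidual p ↥M).map M.subtype ≤ K'.map M.subtype := Subgroup.map_mono hRM
    have hcop : Nat.Coprime (Nat.card (S : Subgroup G)) (Nat.card (K'.map M.subtype)) := by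
      rw [Subgroup.card_map_of_injective M.subtype_injective, Sylow.card_eq_multiplicity]
      exact Nat.Coprime.pow_left _ ((Nat.Prime.coprime_iff_not_dvd hpp).mpr hK'c)
    have := (Subgroup.disjoint_of_coprime_natCard hcop).eq_bot
    rw [← this]
    exact inf_le_inf_left _ h1
  haveI := Cfsg.Agent.helper10.pResidual_normal p G
  have hnd := not_dvd_card_of_sylow_inf_eq_bot p S (Cfsg.pResidual p G) hSR
  have hnpcG : Cfsg.HasNormalPComplement p G :=
    Cfsg.Agent.helper10.hasNormalPComplement_of_pResidual_coprime p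
      ((Nat.Prime.coprime_iff_not_dvd hpp).mpr hnd).symm
  obtain ⟨K, hKn, hKi, hKc⟩ := npc_card p hnpcG
  refine ⟨K, hKn, ?_, hKc⟩
  rw [hKi]
  have : Nat.card (S : Subgroup G) = p ^ (Nat.card M).factorization p := by rw [hSP]; exact hPcard
  rw [Sylow.card_eq_multiplicity] at this
  exact this

theorem solvable_of_nilpotent_class_two_coatom_aux :
    ∀ n : ℕ, ∀ (G : Type u) [Group G] [Finite G], Nat.card G = n → ∀ M : Subgroup G, IsCoatom M →
      ∀ hnil : Group.IsNilpotent M, Group.nilpotencyClass ↥M ≤ 2 → Group.IsSolvable G := by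
  intro n
  induction n using Nat.strong_induction_on with
  | _ n ih =>
    intro G _ _ hn M hmax hnil hcl
    haveI := hnil
    have hMsolv : Group.IsSolvable ↥M := inferInstance
    by_cases hcore : M.normalCore = ⊥
    · -- core-free
      have hex : ∀ p : (Nat.card M).primeFactors, ∃ K : Subgroup G, K.Normal ∧
          K.index = (p : ℕ) ^ (Nat.card M).factorization p ∧ ¬ (p : ℕ) ∣ Nat.card K := by
        rintro ⟨p, hp⟩
        have hpp := Nat.prime_of_mem_primeFactors hp
        haveI : Fact p.Prime := ⟨hpp⟩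
        have hpM := Nat.dvd_of_mem_primeFactors hp
        exact exists_npc_of_nilpotent_class_two_coatom M hmax hnil hcl hcore p hpM
      choose Kf hKn hKi hKc using hex
      set K := ⨅ p, Kf p with hK
      haveI hKnorm : K.Normal := Subgroup.normal_iInf_normal hKn
      have hKidx : K.index ≤ Nat.card M := by
        calc K.index ≤ ∏ p, (Kf p).index := Subgroup.index_iInf_le Kf
          _ = ∏ p : (Nat.card M).primeFactors, (p : ℕ) ^ (Nat.card M).factorization p :=
              Finset.prod_congr rfl (fun p _ => hKi p)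
          _ = Nat.card M := by
            rw [Finset.prod_coe_sort (Nat.card M).primeFactors
              (fun p => p ^ (Nat.card M).factorization p)]
            have := Nat.prod_factorization_pow_eq_self (Nat.card_pos (α := M)).ne'
            rw [Finsupp.prod, Nat.support_factorization] at this
            exact this
      have hcop : (Nat.card M).Coprime (Nat.card K) := by
        apply Nat.coprime_of_dvd
        intro q hq hqM hqK
        have hmem : q ∈ (Nat.card M).primeFactors :=
          Nat.mem_primeFactors.mpr ⟨hq, hqM, (Nat.card_pos (α := M)).ne'⟩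
        have hle : K ≤ Kf ⟨q, hmem⟩ := iInf_le _ _
        exact hKc ⟨q, hmem⟩ (dvd_trans hqK (Subgroup.card_dvd_of_le hle))
      have hinf : K ⊓ M = ⊥ := (Subgroup.disjoint_of_coprime_natCard hcop.symm).eq_bot
      have hprod := Cfsg.Agent.helper23.card_sup_mul_card_inf M K
      rw [hinf, Subgroup.card_bot, mul_one] at hprod
      have hKG := Subgroup.card_mul_index K
      have hsup : M ⊔ K = ⊤ := by
        apply Subgroup.eq_top_of_le_card
        rw [hprod, ← hKG, mul_comm]
        exact Nat.mul_le_mul_right _ hKidx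
      have hcardG : Nat.card G = Nat.card M * Nat.card K := by
        rw [← hprod, hsup, Subgroup.card_top]
      have hK1 : K ≠ ⊥ := by
        intro h
        rw [h, sup_bot_eq] at hsup
        exact hmax.1 hsup
      have hcK : Nat.card K ≠ 1 := by rwa [Ne, Subgroup.card_eq_one]
      obtain ⟨r, hr, hrK⟩ := Nat.exists_prime_and_dvd hcK
      haveI : Fact r.Prime := ⟨hr⟩
      have hMK : M ≤ Subgroup.normalizer (K : Set G) := by
        rw [Subgroup.normalizer_eq_top]; exact le_top
      obtain ⟨R, hRK, hRcard, hMR⟩ :=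
        Cfsg.Agent.lead.exists_invariant_sylow M K hMK hcop (Or.inl hMsolv) r
      have hR1 : R ≠ ⊥ := by
        intro h
        rw [h, Subgroup.card_bot] at hRcard
        have hpos : 0 < (Nat.card K).factorization r :=
          hr.factorization_pos_of_dvd Nat.card_pos.ne' hrK
        have : 1 < r ^ (Nat.card K).factorization r := Nat.one_lt_pow hpos.ne' hr.one_lt
        omega
      have hRM : R ⊓ M = ⊥ := by
        rw [eq_bot_iff, ← hinf]; exact inf_le_inf_right M hRK
      have hRnM : ¬ R ≤ M := fun h => hR1 (by rw [eq_bot_iff, ← hRM]; exact le_inf le_rfl h)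
      have hsup2 : M ⊔ R = ⊤ :=
        hmax.2 _ (lt_of_le_of_ne le_sup_left (fun h => hRnM (h ▸ le_sup_right)))
      haveI hRn : R.Normal := by
        rw [← Subgroup.normalizer_eq_top_iff, eq_top_iff, ← hsup2]
        exact sup_le hMR Subgroup.le_normalizer
      have hprod2 := Cfsg.Agent.helper23.card_sup_mul_card_inf M R
      rw [hRM, Subgroup.card_bot, mul_one, hsup2, Subgroup.card_top, hcardG] at hprod2
      have hRK' : R = K := Subgroup.eq_of_le_of_card_ge hRK (by
        have := Nat.eq_of_mul_eq_mul_left Nat.card_pos hprod2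
        omega)
      have hKp : IsPGroup r K := by rw [← hRK']; exact IsPGroup.of_card hRcard
      haveI : Group.IsNilpotent ↥K := hKp.isNilpotent
      haveI hKsolv : Group.IsSolvable ↥K := inferInstance
      haveI hQsolv : Group.IsSolvable (G ⧸ K) := by
        apply Group.isSolvable_of_surjective (f := (QuotientGroup.mk' K).comp M.subtype)
        intro q
        obtain ⟨g, rfl⟩ := QuotientGroup.mk_surjective q
        have hg : g ∈ M ⊔ K := by rw [hsup]; trivial
        rw [Subgroup.mem_sup_of_normal_right] at hg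
        obtain ⟨m, hm, k, hk, rfl⟩ := hg
        refine ⟨⟨m, hm⟩, ?_⟩
        show ((m : G) : G ⧸ K) = ((m * k : G) : G ⧸ K)
        rw [QuotientGroup.eq]
        simpa using hk
      exact Group.isSolvable_of_ker_le_range K.subtype (QuotientGroup.mk' K)
        (by rw [QuotientGroup.ker_mk', Subgroup.range_subtype])
    · -- pass to the quotient by the core
      set N := M.normalCore with hN
      haveI : N.Normal := Subgroup.normalCore_normal M
      have hNM : N ≤ M := Subgroup.normalCore_le M
      set π := QuotientGroup.mk' N with hπ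
      have hπs : Function.Surjective π := QuotientGroup.mk'_surjective N
      have hlt : Nat.card (G ⧸ N) < n := by
        rw [← hn, ← Subgroup.index_eq_card, ← Subgroup.card_mul_index N]
        have h1 : 1 < Nat.card N := by
          rw [Subgroup.one_lt_card_iff_ne_bot]; exact hcore
        have h2 : 0 < N.index := Nat.pos_of_ne_zero Subgroup.index_ne_zero_of_finite
        nlinarith
      have hcomap : (M.map π).comap π = M := by
        rw [Subgroup.comap_map_eq, QuotientGroup.ker_mk', sup_eq_left.mpr hNM]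
      have hmax' : IsCoatom (M.map π) := by
        constructor
        · intro h
          apply hmax.1
          rw [← hcomap, h, Subgroup.comap_top]
        · intro K hK
          have h1 : M < K.comap π := by
            rw [← hcomap]
            refine lt_of_le_of_ne (Subgroup.comap_mono hK.le) ?_
            intro h
            have := congrArg (Subgroup.map π) h
            rw [Subgroup.map_comap_eq_self_of_surjective hπs,
              Subgroup.map_comap_eq_self_of_surjective hπs] at this
            exact hK.ne this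
          have h2 := hmax.2 _ h1
          rw [← Subgroup.map_comap_eq_self_of_surjective hπs K, h2,
            Subgroup.map_top_of_surjective π hπs]
      have hnil' : Group.IsNilpotent ↥(M.map π) :=
        Group.nilpotent_of_surjective (π.subgroupMap M) (π.subgroupMap_surjective M)
      have hcl' : Group.nilpotencyClass ↥(M.map π) ≤ 2 :=
        le_trans (Group.nilpotencyClass_le_of_surjective (π.subgroupMap M)
          (π.subgroupMap_surjective M)) hcl
      haveI hQ := ih _ hlt (G ⧸ N) rfl (M.map π) hmax' hnil' hcl'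
      haveI hNs : Group.IsSolvable ↥N :=
        Group.isSolvable_of_isSolvable_injective (Subgroup.inclusion_injective hNM)
      exact Group.isSolvable_of_ker_le_range N.subtype π
        (by rw [QuotientGroup.ker_mk', Subgroup.range_subtype])

end Cfsg.Agent.helper19
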