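import Mathlib
import Cfsg.Agent.Lib_helper5_Simple
import Cfsg.Agent.Lib_helper11_O504a
import Cfsg.Agent.S0143

set_option autoImplicit false
set_option linter.style.haveILetI false
set_option linter.deprecated false
set_option linter.unusedVariables false
set_option linter.unusedSectionVars false

/-!
# No simple group of order 2016: the key centralizer lemma

If `P` is a Sylow 7-subgroup with `|N(P)| = 56`, `Q ≤ C(P)` of order 4 and `1 ≠ t ∈ Q`,
then `C_G(t) ≤ N(P)`: otherwise the class of `t` has prime-power size (Burnside).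
-/

namespace Cfsg.Agent.helper19.O2016

open Cfsg.Agent.helper5

variable {G : Type*} [Group G] [Finite G] [IsSimpleGroup G]

theorem nonab (h : Nat.card G = 2016) : ¬ ∀ a b : G, a * b = b * a := by
  obtain ⟨a, b, hab⟩ := nonabelian_of_card_not_prime (G := G) (by rw [h]; norm_num)
  intro hc
  exact hab (hc a b)

/-- cardinality of `N.subgroupOf D`. -/
theorem card_subgroupOf_eq (N D : Subgroup G) :
    Nat.card (N.subgroupOf D) = Nat.card (D ⊓ N : Subgroup G) := by
  rw [← Subgroup.inf_subgroupOf_left N D]
  exact Nat.card_congr (Subgroup.subgroupOfEquivOfLe (inf_le_left : D ⊓ N ≤ D)).toEquiv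

theorem centralizer_le_normalizer_of (h : Nat.card G = 2016) (P : Sylow 7 G)
    (hP : Nat.card (P : Subgroup G) = 7)
    (hN : Nat.card (Subgroup.normalizer ((P : Subgroup G) : Set G)) = 56)
    (Q : Subgroup G) (hQ : Nat.card Q = 4)
    (hQC : Q ≤ Subgroup.centralizer ((P : Subgroup G) : Set G))
    (t : G) (ht : t ∈ Q) (ht1 : t ≠ 1) :
    Subgroup.centralizer ({t} : Set G) ≤ Subgroup.normalizer ((P : Subgroup G) : Set G) := by
  classical
  haveI : Fact (Nat.Prime 7) := ⟨by norm_num⟩
  haveI : Fact (Nat.Prime 2) := ⟨by norm_num⟩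
  set D : Subgroup G := Subgroup.centralizer ({t} : Set G) with hD
  set N : Subgroup G := Subgroup.normalizer ((P : Subgroup G) : Set G) with hNdef
  have hPD : (P : Subgroup G) ≤ D := by
    intro x hx
    rw [hD, Subgroup.mem_centralizer_iff]
    intro y hy
    rw [Set.mem_singleton_iff] at hy
    subst hy
    have := Subgroup.mem_centralizer_iff.mp (hQC ht) x hx
    exact this.symm
  have hQcomm : ∀ a b : Q, a * b = b * a :=
    IsPGroup.commutative_of_card_eq_prime_sq (p := 2) (by rw [hQ]; norm_num)
  have hQD : Q ≤ D := by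
    intro x hx
    rw [hD, Subgroup.mem_centralizer_iff]
    intro y hy
    rw [Set.mem_singleton_iff] at hy
    subst hy
    have := hQcomm ⟨y, ht⟩ ⟨x, hx⟩
    exact congrArg Subtype.val this
  have hQN : Q ≤ N := hQC.trans (Subgroup.centralizer_le_normalizer _)
  have hPN : (P : Subgroup G) ≤ N := Subgroup.le_normalizer
  -- m = |D ⊓ N|
  obtain ⟨m, hm⟩ : ∃ m, Nat.card (D ⊓ N : Subgroup G) = m := ⟨_, rfl⟩
  have hm7 : 7 ∣ m := by
    rw [← hm, ← hP]
    exact Subgroup.card_dvd_of_le (le_inf hPD hPN)
  have hm4 : 4 ∣ m := by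
    rw [← hm, ← hQ]
    exact Subgroup.card_dvd_of_le (le_inf hQD hQN)
  have hm56 : m ∣ 56 := by
    rw [← hm, ← hN]
    exact Subgroup.card_dvd_of_le inf_le_right
  have hm_cases : m = 28 ∨ m = 56 := by
    have hle := Nat.le_of_dvd (by norm_num) hm56
    interval_cases m <;> omega
  -- Sylow count in D
  let P' : Sylow 7 ↥D := P.subtype hPD
  obtain ⟨hmod, -, hmul⟩ := sylow_count_facts P'
  have hnorm : Subgroup.normalizer ((P' : Subgroup ↥D) : Set ↥D) = N.subgroupOf D := by
    have h1 : (P' : Subgroup ↥D) = (P : Subgroup G).subgroupOf D := Sylow.coe_subtype P hPD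
    rw [h1]
    exact (Subgroup.subgroupOf_normalizer_eq hPD).symm
  rw [hnorm, card_subgroupOf_eq, hm] at hmul
  obtain ⟨n, hn⟩ : ∃ n, Nat.card (Sylow 7 ↥D) = n := ⟨_, rfl⟩
  rw [hn] at hmod hmul
  have hDcard := Subgroup.card_mul_index D
  rw [h] at hDcard
  have hDdvd : Nat.card D ∣ 2016 := ⟨_, hDcard.symm⟩
  rw [← hmul] at hDdvd
  have hnab := nonab h
  have hfinal : n = 1 := by
    rcases hm_cases with rfl | rfl
    · have hn72 : n ∣ 72 := by
        have : n * 28 ∣ 72 * 28 := by simpa using hDdvd
        exact Nat.dvd_of_mul_dvd_mul_right (by norm_num) this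
      have hle := Nat.le_of_dvd (by norm_num) hn72
      have hcases : n = 1 ∨ n = 8 ∨ n = 36 := by
        interval_cases n <;> omega
      rcases hcases with rfl | rfl | rfl
      · rfl
      · exfalso
        have hidx : D.index = 3 ^ 2 := by
          rw [← hmul] at hDcard
          norm_num at hDcard ⊢
          omega
        exact Cfsg.Agent.S0143.no_prime_power_class hnab 3 2 (by norm_num) t ht1 hidx
      · exfalso
        have hidx : D.index = 2 ^ 1 := by
          rw [← hmul] at hDcard
          norm_num at hDcard ⊢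
          omega
        exact Cfsg.Agent.S0143.no_prime_power_class hnab 2 1 (by norm_num) t ht1 hidx
    · have hn36 : n ∣ 36 := by
        have : n * 56 ∣ 36 * 56 := by simpa using hDdvd
        exact Nat.dvd_of_mul_dvd_mul_right (by norm_num) this
      have hle := Nat.le_of_dvd (by norm_num) hn36
      have hcases : n = 1 ∨ n = 36 := by
        interval_cases n <;> omega
      rcases hcases with rfl | rfl
      · rfl
      · exfalso
        have hidx : D.index = 2 ^ 0 := by
          rw [← hmul] at hDcard
          norm_num at hDcard ⊢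
          omega
        exact Cfsg.Agent.S0143.no_prime_power_class hnab 2 0 (by norm_num) t ht1 hidx
  subst hfinal
  rw [one_mul] at hmul
  have heq : (D ⊓ N : Subgroup G) = D :=
    Subgroup.eq_of_le_of_card_ge inf_le_left (by rw [hm, hmul])
  rw [← heq]
  exact inf_le_right

end Cfsg.Agent.helper19.O2016
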