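import Mathlib
import Cfsg.Agent.Lib_helper19_O2016b
import Cfsg.Agent.Lib_helper11_O504b

set_option autoImplicit false
set_option linter.style.haveILetI false
set_option linter.deprecated false
set_option linter.unusedVariables false
set_option linter.unusedSectionVars false

/-!
# No simple group of order 2016
-/

namespace Cfsg.Agent.helper19.O2016

open Cfsg.Agent.helper5 Cfsg.Agent.helper11.O504

variable {G : Type*} [Group G] [Finite G] [IsSimpleGroup G]

theorem main (h : Nat.card G = 2016) : False := by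
  classical
  haveI : Fact (Nat.Prime 7) := ⟨by norm_num⟩
  obtain ⟨P⟩ : Nonempty (Sylow 7 G) := inferInstance
  obtain ⟨hc, hi⟩ := sylow_card_of_card_eq P 1 288 (by rw [h]; norm_num) (by norm_num)
  rw [pow_one] at hc
  obtain ⟨hmod, hdvd, hmul⟩ := sylow_count_facts P
  rw [hi] at hdvd
  rw [h] at hmul
  have hPbot : (P : Subgroup G) ≠ ⊥ := by
    intro hb
    rw [hb] at hc
    simp at hc
  have hPtop : (P : Subgroup G) ≠ ⊤ := by
    intro hb
    rw [hb, Subgroup.card_top, h] at hc
    omega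
  have hn1 := sylow_count_ne_one P hPbot hPtop
  haveI hcyc : IsCyclic ↥(P : Subgroup G) := isCyclic_of_prime_card hc
  have hnonab : ∃ a b : G, a * b ≠ b * a :=
    nonabelian_of_card_not_prime (G := G) (by rw [h]; norm_num)
  obtain ⟨r, hr, hr1, hrφ, hrn⟩ := automizer_facts hnonab P hPbot hcyc
  rw [hc, Nat.totient_prime (by norm_num)] at hrφ
  rw [hi] at hrn
  have hPC := le_centralizer_of_cyclic (P : Subgroup G) hcyc
  have hCN : Subgroup.centralizer ((P : Subgroup G) : Set G) ≤
      Subgroup.normalizer ((P : Subgroup G) : Set G) := Subgroup.centralizer_le_normalizer _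
  have hrel := Subgroup.relIndex_mul_index hCN
  rw [← hr] at hrel
  have hNidx : (Subgroup.normalizer ((P : Subgroup G) : Set G)).index = Nat.card (Sylow 7 G) :=
    P.card_eq_index_normalizer.symm
  rw [hNidx] at hrel
  have hCcard := Subgroup.card_mul_index (Subgroup.centralizer ((P : Subgroup G) : Set G))
  rw [h, ← hrel] at hCcard
  obtain ⟨n, hn⟩ : ∃ n, Nat.card (Sylow 7 G) = n := ⟨_, rfl⟩
  rw [hn] at hmod hdvd hmul hn1 hrn hrel hCcard
  have hn3 : n = 8 ∨ n = 36 ∨ n = 288 := by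
    have hle := Nat.le_of_dvd (by norm_num) hdvd
    have h288 : (288 : ℕ) = 2 ^ 5 * 3 ^ 2 := by norm_num
    rw [h288] at hdvd
    obtain ⟨a, b, ha, hb, rfl⟩ : ∃ a b, a ≤ 5 ∧ b ≤ 2 ∧ n = 2 ^ a * 3 ^ b := by
      have hdiv := (Nat.mem_divisors (m := 2 ^ 5 * 3 ^ 2)).mpr ⟨hdvd, by norm_num⟩
      have hco : Nat.Coprime (2 ^ 5) (3 ^ 2) := by norm_num
      obtain ⟨d1, hd1, d2, hd2, rfl⟩ : ∃ d1, d1 ∣ 2 ^ 5 ∧ ∃ d2, d2 ∣ 3 ^ 2 ∧ n = d1 * d2 := by
        obtain ⟨d1, d2, hd1, hd2, hdd⟩ := Nat.dvd_mul.mp hdvd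
        exact ⟨d1, hd1, d2, hd2, hdd.symm⟩
      obtain ⟨a, ha, rfl⟩ := (Nat.dvd_prime_pow (by norm_num : Nat.Prime 2)).mp hd1
      obtain ⟨b, hb, rfl⟩ := (Nat.dvd_prime_pow (by norm_num : Nat.Prime 3)).mp hd2
      exact ⟨a, b, ha, hb, rfl⟩
    interval_cases a <;> interval_cases b <;> simp_all
  rcases hn3 with rfl | rfl | rfl
  · -- n = 8
    have hCP := centralizer_le_of_card_sylow P hc (by rw [hn])
    have hCeq : Subgroup.centralizer ((P : Subgroup G) : Set G) = P := le_antisymm hCP hPC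
    rw [hCeq, hc] at hCcard
    have hr36 : r = 36 := by omega
    rw [hr36] at hrφ
    omega
  · -- n = 36
    have hr2 : r = 2 := by
      have hle : r * 36 ≤ 288 := Nat.le_of_dvd (by norm_num) hrn
      have hr0 : r ≠ 0 := by
        rintro rfl
        simp at hrn
      have hr8 : r ≤ 8 := by omega
      have hr6 : r ≤ 6 := Nat.le_of_dvd (by norm_num) hrφ
      interval_cases r <;> omega
    rw [hr2] at hCcard
    have hC28 : Nat.card (Subgroup.centralizer ((P : Subgroup G) : Set G)) = 28 := by omega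
    have hN56 : Nat.card (Subgroup.normalizer ((P : Subgroup G) : Set G)) = 56 := by omega
    exact case36 h P hc hN56 hC28
  · -- n = 288
    have hle : r * 288 ≤ 288 := Nat.le_of_dvd (by norm_num) hrn
    have hr0 : r ≠ 0 := by
      rintro rfl
      simp at hrn
    omega

end Cfsg.Agent.helper19.O2016
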