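import Mathlib

set_option autoImplicit false
set_option linter.style.haveILetI false
set_option linter.deprecated false
set_option linter.unusedVariables false
set_option linter.unusedSectionVars false

/-!
# Counting elements of order divisible by `p` when the Sylow `p`-subgroups have order `p`
-/

namespace Cfsg.Agent.helper19.O4080

variable {G : Type*} [Group G] [Finite G]

/-- If `g` centralizes two Sylow `p`-subgroups of order `p` and `p ∣ orderOf g`, they coincide. -/
theorem sylow_eq_of_mem {p : ℕ} [Fact p.Prime] (R R' : Sylow p G)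
    (hR : Nat.card (R : Subgroup G) = p) (hR' : Nat.card (R' : Subgroup G) = p) (g : G)
    (hg : g ∈ Subgroup.centralizer ((R : Subgroup G) : Set G))
    (hg' : g ∈ Subgroup.centralizer ((R' : Subgroup G) : Set G)) (hp : p ∣ orderOf g) :
    R = R' := by
  have hpp : p.Prime := Fact.out
  have ho : orderOf g ≠ 0 := (orderOf_pos g).ne'
  obtain ⟨b, hbdef⟩ : ∃ b : G, b = g ^ (orderOf g / p) := ⟨_, rfl⟩
  have hb : orderOf b = p := by rw [hbdef]; exact orderOf_pow_orderOf_div ho hp
  have key : ∀ S : Sylow p G, Nat.card (S : Subgroup G) = p →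
      g ∈ Subgroup.centralizer ((S : Subgroup G) : Set G) → Subgroup.zpowers b = (S : Subgroup G) := by
    intro S hS hgS
    have hbC : b ∈ Subgroup.centralizer ((S : Subgroup G) : Set G) := by
      rw [hbdef]; exact Subgroup.pow_mem _ hgS _
    have hle : Subgroup.zpowers b ≤ Subgroup.normalizer ((S : Subgroup G) : Set G) := by
      rw [Subgroup.zpowers_le]
      exact Subgroup.centralizer_le_normalizer _ hbC
    have hpg : IsPGroup p ↥(Subgroup.zpowers b) :=
      IsPGroup.of_card (n := 1) (by rw [Nat.card_zpowers, hb, pow_one])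
    have hinf : Subgroup.zpowers b ⊓ Subgroup.normalizer ((S : Subgroup G) : Set G) =
        Subgroup.zpowers b ⊓ (S : Subgroup G) := hpg.inf_normalizer_sylow S
    rw [inf_eq_left.mpr hle] at hinf
    have hle2 : Subgroup.zpowers b ≤ (S : Subgroup G) := inf_eq_left.mp hinf.symm
    exact Subgroup.eq_of_le_of_card_ge hle2 (by rw [hS, Nat.card_zpowers, hb])
  apply Sylow.ext
  rw [← key R hR hg, ← key R' hR' hg']

/-- In a subgroup `H` with `R ≤ H ≤ C(R)`, `|R| = p`, at least `(p-1)/p` of the elements have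
order divisible by `p`. -/
theorem card_singular_ge {p : ℕ} [Fact p.Prime] (R H : Subgroup G) (hR : Nat.card R = p)
    (hRH : R ≤ H) (hHC : H ≤ Subgroup.centralizer (R : Set G)) :
    (p - 1) * Nat.card H ≤ p * {g : G | g ∈ H ∧ p ∣ orderOf g}.ncard := by
  classical
  have hpp : p.Prime := Fact.out
  obtain ⟨E, hE⟩ : ∃ E : Set G, E = {g : G | g ∈ H ∧ p ∣ orderOf g} := ⟨_, rfl⟩
  obtain ⟨F, hF⟩ : ∃ F : Set G, F = {g : G | g ∈ H ∧ ¬ p ∣ orderOf g} := ⟨_, rfl⟩
  rw [← hE]
  have hunion : (H : Set G) = E ∪ F := by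
    ext g
    rw [hE, hF]
    simp only [SetLike.mem_coe, Set.mem_union, Set.mem_setOf_eq]
    tauto
  have hdisj : Disjoint E F := by
    rw [Set.disjoint_left]
    intro g hg hg'
    rw [hE] at hg
    rw [hF] at hg'
    exact hg'.2 hg.2
  have hcardH : Nat.card H = E.ncard + F.ncard := by
    rw [← Set.ncard_union_eq hdisj (Set.toFinite _) (Set.toFinite _), ← hunion]
    exact (Nat.card_coe_set_eq (H : Set G))
  -- injection F × R → H
  have hFH : ∀ g, g ∈ F → g ∈ H := by
    intro g hg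
    rw [hF] at hg
    exact hg.1
  have hinj : p * F.ncard ≤ Nat.card H := by
    let f : ↥F × ↥R → ↥H := fun cz => ⟨(cz.1 : G) * (cz.2 : G),
      H.mul_mem (hFH _ cz.1.2) (hRH cz.2.2)⟩
    have hf : Function.Injective f := by
      rintro ⟨⟨c, hc⟩, ⟨z, hz⟩⟩ ⟨⟨c', hc'⟩, ⟨z', hz'⟩⟩ hcz
      have hcz' : c * z = c' * z' := congrArg Subtype.val hcz
      rw [hF] at hc hc'
      have hcomm : ∀ a ∈ H, ∀ w ∈ R, Commute a w := by
        intro a ha w hw
        exact (Subgroup.mem_centralizer_iff.mp (hHC ha) w hw).symm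
      obtain ⟨m, hm⟩ : ∃ m, m = orderOf c * orderOf c' := ⟨_, rfl⟩
      have hcm : c ^ m = 1 := by rw [hm, pow_mul, pow_orderOf_eq_one, one_pow]
      have hcm' : c' ^ m = 1 := by rw [hm, mul_comm, pow_mul, pow_orderOf_eq_one, one_pow]
      have h1 : (c * z) ^ m = z ^ m := by
        rw [(hcomm c hc.1 z hz).mul_pow, hcm, one_mul]
      have h2 : (c' * z') ^ m = z' ^ m := by
        rw [(hcomm c' hc'.1 z' hz').mul_pow, hcm', one_mul]
      have hzz : z ^ m = z' ^ m := by rw [← h1, ← h2, hcz']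
      have hzc : Commute z z'⁻¹ := (hcomm z (hRH hz) z' hz').inv_right
      have h3 : (z * z'⁻¹) ^ m = 1 := by
        rw [hzc.mul_pow, hzz, inv_pow, mul_inv_cancel]
      have hd1 : orderOf (z * z'⁻¹) ∣ m := orderOf_dvd_of_pow_eq_one h3
      have hd2 : orderOf (z * z'⁻¹) ∣ p := by
        rw [← hR]
        exact Subgroup.orderOf_dvd_natCard R (R.mul_mem hz (R.inv_mem hz'))
      have hcop : Nat.Coprime m p := by
        rw [hm]
        apply Nat.Coprime.mul_left
        · exact (Nat.Coprime.symm ((Nat.Prime.coprime_iff_not_dvd hpp).mpr hc.2))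
        · exact (Nat.Coprime.symm ((Nat.Prime.coprime_iff_not_dvd hpp).mpr hc'.2))
      have hone : orderOf (z * z'⁻¹) = 1 := Nat.eq_one_of_dvd_coprimes hcop hd1 hd2
      have hzeq : z = z' := by
        have := orderOf_eq_one_iff.mp hone
        exact mul_inv_eq_one.mp this
      subst hzeq
      have hceq : c = c' := mul_right_cancel hcz'
      subst hceq
      rfl
    have := Nat.card_le_card_of_injective f hf
    rw [Nat.card_prod, Nat.card_coe_set_eq, hR, mul_comm] at this
    exact this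
  have hp1 : 1 ≤ p := hpp.one_lt.le
  obtain ⟨q, rfl⟩ : ∃ q, p = q + 1 := ⟨p - 1, by omega⟩
  simp only [Nat.add_sub_cancel]
  rw [hcardH] at hinj ⊢
  nlinarith

/-- The counting lemma. -/
theorem count_lemma {p : ℕ} [Fact p.Prime] (hP : ∀ R : Sylow p G, Nat.card (R : Subgroup G) = p)
    (H : Sylow p G → Subgroup G) (hRH : ∀ R : Sylow p G, (R : Subgroup G) ≤ H R)
    (hHC : ∀ R, H R ≤ Subgroup.centralizer ((R : Subgroup G) : Set G)) (c : ℕ)
    (hc : ∀ R, c ≤ Nat.card (H R))
    (A : Set G) (hA : ∀ R : Sylow p G, ∀ g ∈ H R, p ∣ orderOf g → g ∈ A) :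
    Nat.card (Sylow p G) * ((p - 1) * c) ≤ p * A.ncard := by
  classical
  haveI : Fintype (Sylow p G) := Fintype.ofFinite _
  let E : Sylow p G → Set G := fun R => {g : G | g ∈ H R ∧ p ∣ orderOf g}
  let f : (Σ R : Sylow p G, ↥(E R)) → ↥A := fun x => ⟨(x.2 : G), hA x.1 x.2 x.2.2.1 x.2.2.2⟩
  have hf : Function.Injective f := by
    rintro ⟨R, g, hg⟩ ⟨R', g', hg'⟩ hx
    have hgg : g = g' := congrArg Subtype.val hx
    subst hgg
    have hRR : R = R' := sylow_eq_of_mem R R' (hP R) (hP R') g (hHC R hg.1) (hHC R' hg'.1) hg.2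
    subst hRR
    rfl
  have h1 := Nat.card_le_card_of_injective f hf
  rw [Nat.card_sigma, Nat.card_coe_set_eq] at h1
  have h2 : ∀ R : Sylow p G, (p - 1) * c ≤ p * Nat.card ↥(E R) := by
    intro R
    have := card_singular_ge (R : Subgroup G) (H R) (hP R) (hRH R) (hHC R)
    rw [Nat.card_coe_set_eq]
    exact le_trans (Nat.mul_le_mul_left _ (hc R)) this
  calc Nat.card (Sylow p G) * ((p - 1) * c)
      = ∑ _R : Sylow p G, (p - 1) * c := by
        rw [Finset.sum_const, Finset.card_univ, Nat.card_eq_fintype_card, smul_eq_mul]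
    _ ≤ ∑ R : Sylow p G, p * Nat.card ↥(E R) := Finset.sum_le_sum (fun R _ => h2 R)
    _ = p * ∑ R : Sylow p G, Nat.card ↥(E R) := by rw [Finset.mul_sum]
    _ ≤ p * A.ncard := Nat.mul_le_mul_left _ h1

end Cfsg.Agent.helper19.O4080
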