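import Mathlib
import Cfsg.Agent.Lib_helper5_Simple
import Cfsg.Agent.Lib_helper11_O504b
import Cfsg.Agent.Lib_helper19_O4080a

set_option autoImplicit false
set_option linter.style.haveILetI false
set_option linter.deprecated false
set_option linter.unusedVariables false
set_option linter.unusedSectionVars false

/-!
# Simple groups of order 4080: Sylow arithmetic
-/

namespace Cfsg.Agent.helper19.O4080

open Cfsg.Agent.helper5 Cfsg.Agent.helper11.O504

variable {G : Type*} [Group G] [Finite G] [IsSimpleGroup G]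

/-- Packaged Sylow/automizer arithmetic for a Sylow subgroup of prime order. -/
theorem sylow_prime_facts (hnonab : ∃ a b : G, a * b ≠ b * a) {p : ℕ} [Fact p.Prime]
    (P : Sylow p G) (m : ℕ) (hG : Nat.card G = p * m) (hm : ¬ p ∣ m) (hm1 : 1 < m) :
    Nat.card (P : Subgroup G) = p ∧
    (P : Subgroup G) ≤ Subgroup.centralizer ((P : Subgroup G) : Set G) ∧
    ∃ n r c, Nat.card (Sylow p G) = n ∧
      Nat.card (Subgroup.centralizer ((P : Subgroup G) : Set G)) = c ∧
      Nat.card (Subgroup.normalizer ((P : Subgroup G) : Set G)) = r * c ∧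
      (Subgroup.normalizer ((P : Subgroup G) : Set G)).index = n ∧
      n % p = 1 ∧ n ∣ m ∧ n ≠ 1 ∧ r ≠ 1 ∧ r ∣ p - 1 ∧ r * n ∣ m ∧ c * (r * n) = p * m := by
  classical
  have hpp : p.Prime := Fact.out
  obtain ⟨hc, hi⟩ := sylow_card_of_card_eq P 1 m (by rw [hG, pow_one]) hm
  rw [pow_one] at hc
  obtain ⟨hmod, hdvd, hmul⟩ := sylow_count_facts P
  rw [hi] at hdvd
  rw [hG] at hmul
  have hPbot : (P : Subgroup G) ≠ ⊥ := by
    intro hb
    rw [hb] at hc
    simp at hc
    exact hpp.one_lt.ne hc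
  have hPtop : (P : Subgroup G) ≠ ⊤ := by
    intro hb
    rw [hb, Subgroup.card_top, hG] at hc
    have : p * m = p * 1 := by rw [mul_one]; exact hc
    have := Nat.eq_of_mul_eq_mul_left hpp.pos this
    omega
  have hn1 := sylow_count_ne_one P hPbot hPtop
  haveI hcyc : IsCyclic ↥(P : Subgroup G) := isCyclic_of_prime_card hc
  obtain ⟨r, hr, hr1, hrφ, hrn⟩ := automizer_facts hnonab P hPbot hcyc
  rw [hc, Nat.totient_prime hpp] at hrφ
  rw [hi] at hrn
  have hPC := le_centralizer_of_cyclic (P : Subgroup G) hcyc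
  have hCN : Subgroup.centralizer ((P : Subgroup G) : Set G) ≤
      Subgroup.normalizer ((P : Subgroup G) : Set G) := Subgroup.centralizer_le_normalizer _
  have hrel := Subgroup.relIndex_mul_index hCN
  rw [← hr] at hrel
  have hNidx : (Subgroup.normalizer ((P : Subgroup G) : Set G)).index = Nat.card (Sylow p G) :=
    P.card_eq_index_normalizer.symm
  rw [hNidx] at hrel
  have hCcard := Subgroup.card_mul_index (Subgroup.centralizer ((P : Subgroup G) : Set G))
  rw [hG, ← hrel] at hCcard
  refine ⟨hc, hPC, Nat.card (Sylow p G), r, _, rfl, rfl, ?_, hNidx, hmod, hdvd, hn1, hr1, hrφ, hrn,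
    hCcard⟩
  have hnpos : 0 < Nat.card (Sylow p G) := Nat.card_pos
  have : Nat.card (Sylow p G) * Nat.card (Subgroup.normalizer ((P : Subgroup G) : Set G)) =
      Nat.card (Sylow p G) *
        (r * Nat.card (Subgroup.centralizer ((P : Subgroup G) : Set G))) := by
    rw [hmul, ← hCcard]
    ring
  exact Nat.eq_of_mul_eq_mul_left hnpos this

theorem nonab4080 (h : Nat.card G = 4080) : ∃ a b : G, a * b ≠ b * a :=
  nonabelian_of_card_not_prime (G := G) (by rw [h]; norm_num)

/-- no proper subgroup of index `≤ 16`. -/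
theorem index_ge (h : Nat.card G = 4080) (H : Subgroup G) (hH : H ≠ ⊤) : 17 ≤ H.index := by
  by_contra hlt
  push Not at hlt
  have hd := card_dvd_factorial_index H hH
  rw [h] at hd
  have h17 : (17 : ℕ) ∣ (H.index).factorial := Dvd.dvd.trans (by norm_num) hd
  have := (Nat.Prime.dvd_factorial (by norm_num : Nat.Prime 17)).mp h17
  omega

theorem sylow17 (h : Nat.card G = 4080) (P : Sylow 17 G) :
    Nat.card (P : Subgroup G) = 17 ∧ Nat.card (Sylow 17 G) = 120 ∧
      Nat.card (Subgroup.centralizer ((P : Subgroup G) : Set G)) = 17 := by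
  haveI : Fact (Nat.Prime 17) := ⟨by norm_num⟩
  obtain ⟨hc, -, n, r, c, hn, hcc, hN, -, hmod, hdvd, hn1, hr1, hrφ, hrn, hmul⟩ :=
    sylow_prime_facts (nonab4080 h) P 240 (by rw [h]) (by norm_num) (by norm_num)
  have hle := Nat.le_of_dvd (by norm_num) hdvd
  have hn120 : n = 120 := by
    interval_cases n <;> omega
  subst hn120
  have hr2 : r = 2 := by
    have hle : r * 120 ≤ 240 := Nat.le_of_dvd (by norm_num) hrn
    have hr0 : r ≠ 0 := by
      rintro rfl
      simp at hrn
    omega
  subst hr2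
  refine ⟨hc, hn, ?_⟩
  rw [hcc]
  omega

theorem sylow5 (h : Nat.card G = 4080) (P : Sylow 5 G) :
    Nat.card (P : Subgroup G) = 5 ∧
      (P : Subgroup G) ≤ Subgroup.centralizer ((P : Subgroup G) : Set G) ∧
      ((Nat.card (Sylow 5 G) = 136 ∧
          Nat.card (Subgroup.normalizer ((P : Subgroup G) : Set G)) = 30 ∧
          Nat.card (Subgroup.centralizer ((P : Subgroup G) : Set G)) = 15) ∨
       (Nat.card (Sylow 5 G) = 51 ∧
          (Nat.card (Subgroup.centralizer ((P : Subgroup G) : Set G)) = 20 ∨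
           Nat.card (Subgroup.centralizer ((P : Subgroup G) : Set G)) = 40))) := by
  haveI : Fact (Nat.Prime 5) := ⟨by norm_num⟩
  obtain ⟨hc, hPC, n, r, c, hn, hcc, hN, hidx, hmod, hdvd, hn1, hr1, hrφ, hrn, hmul⟩ :=
    sylow_prime_facts (nonab4080 h) P 816 (by rw [h]) (by norm_num) (by norm_num)
  refine ⟨hc, hPC, ?_⟩
  have hle := Nat.le_of_dvd (by norm_num) hdvd
  have hr4 : r ≤ 4 := Nat.le_of_dvd (by norm_num) hrφ
  have hr0 : r ≠ 0 := by
    rintro rfl
    simp at hrn
  have h17 := index_ge h (Subgroup.normalizer ((P : Subgroup G) : Set G)) (by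
    intro htop
    rw [htop, Subgroup.index_top] at hidx
    exact hn1 hidx.symm)
  rw [hidx] at h17
  have hcases : n = 51 ∨ n = 136 ∨ n = 816 := by
    interval_cases n <;> omega
  rcases hcases with rfl | rfl | rfl
  · right
    refine ⟨hn, ?_⟩
    rw [hcc]
    have : r = 2 ∨ r = 4 := by
      interval_cases r <;> omega
    rcases this with rfl | rfl
    · right; omega
    · left; omega
  · left
    have hr2 : r = 2 := by
      interval_cases r <;> omega
    subst hr2
    have hc15 : c = 15 := by omega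
    subst hc15
    exact ⟨hn, by rw [hN], hcc⟩
  · exfalso
    have hle : r * 816 ≤ 816 := Nat.le_of_dvd (by norm_num) hrn
    omega

theorem sylow3 (h : Nat.card G = 4080) (P : Sylow 3 G) :
    Nat.card (P : Subgroup G) = 3 ∧
      (P : Subgroup G) ≤ Subgroup.centralizer ((P : Subgroup G) : Set G) ∧
      Nat.card (Sylow 3 G) *
        Nat.card (Subgroup.centralizer ((P : Subgroup G) : Set G)) = 2040 ∧
      (Nat.card (Subgroup.centralizer ((P : Subgroup G) : Set G)) = 60 ∨
       Nat.card (Subgroup.centralizer ((P : Subgroup G) : Set G)) = 51 ∨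
       Nat.card (Subgroup.centralizer ((P : Subgroup G) : Set G)) = 24 ∨
       Nat.card (Subgroup.centralizer ((P : Subgroup G) : Set G)) = 15 ∨
       Nat.card (Subgroup.centralizer ((P : Subgroup G) : Set G)) = 6) := by
  haveI : Fact (Nat.Prime 3) := ⟨by norm_num⟩
  obtain ⟨hc, hPC, n, r, c, hn, hcc, hN, hidx, hmod, hdvd, hn1, hr1, hrφ, hrn, hmul⟩ :=
    sylow_prime_facts (nonab4080 h) P 1360 (by rw [h]) (by norm_num) (by norm_num)
  have hle := Nat.le_of_dvd (by norm_num) hdvd
  have hr2' : r ≤ 2 := Nat.le_of_dvd (by norm_num) hrφ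
  have hr0 : r ≠ 0 := by
    rintro rfl
    simp at hrn
  have hr2 : r = 2 := by omega
  subst hr2
  have h17 := index_ge h (Subgroup.normalizer ((P : Subgroup G) : Set G)) (by
    intro htop
    rw [htop, Subgroup.index_top] at hidx
    exact hn1 hidx.symm)
  rw [hidx] at h17
  have hcases : n = 34 ∨ n = 40 ∨ n = 85 ∨ n = 136 ∨ n = 340 := by
    interval_cases n <;> omega
  refine ⟨hc, hPC, ?_, ?_⟩
  · rw [hn, hcc]
    have h2 : 2 * (n * c) = 2 * 2040 := by
      rw [show 2 * (n * c) = c * (2 * n) by ring, hmul]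
    exact Nat.eq_of_mul_eq_mul_left (by norm_num) h2
  · rw [hcc]
    rcases hcases with rfl | rfl | rfl | rfl | rfl <;> omega

end Cfsg.Agent.helper19.O4080
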