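import Mathlib
import Cfsg.Agent.Lib_helper19_O4080b

set_option autoImplicit false
set_option linter.style.haveILetI false
set_option linter.deprecated false
set_option linter.unusedVariables false
set_option linter.unusedSectionVars false

/-!
# Simple groups of order 4080: counting arguments
-/

namespace Cfsg.Agent.helper19.O4080

open Cfsg.Agent.helper5 Cfsg.Agent.helper11.O504

variable {G : Type*} [Group G] [Finite G]

/-- If all Sylow `p`-subgroups have order `p` and centralizers of order dividing `c`, then anything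
commuting with an element of order `p` has order dividing `c`. -/
theorem orderOf_dvd_of_commute {p : ℕ} [Fact p.Prime] (c : ℕ)
    (hP : ∀ P : Sylow p G, Nat.card (P : Subgroup G) = p ∧
      Nat.card (Subgroup.centralizer ((P : Subgroup G) : Set G)) ∣ c)
    (x y : G) (hx : orderOf x = p) (hxy : Commute x y) : orderOf y ∣ c := by
  have hpg : IsPGroup p ↥(Subgroup.zpowers x) :=
    IsPGroup.of_card (n := 1) (by rw [Nat.card_zpowers, hx, pow_one])
  obtain ⟨P, hPle⟩ := hpg.exists_le_sylow
  obtain ⟨hPc, hCc⟩ := hP P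
  have hPeq : Subgroup.zpowers x = (P : Subgroup G) :=
    Subgroup.eq_of_le_of_card_ge hPle (by rw [hPc, Nat.card_zpowers, hx])
  have hy : y ∈ Subgroup.centralizer ((P : Subgroup G) : Set G) := by
    rw [Subgroup.mem_centralizer_iff]
    intro z hz
    rw [SetLike.mem_coe, ← hPeq] at hz
    obtain ⟨i, rfl⟩ := Subgroup.mem_zpowers_iff.mp hz
    exact (hxy.zpow_left i).eq
  exact (Subgroup.orderOf_dvd_natCard _ hy).trans hCc

/-- the `p`-part generator. -/
theorem exists_pow_orderOf_eq (g : G) (p : ℕ) (hp : p ∣ orderOf g) :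
    ∃ k : ℕ, orderOf (g ^ k) = p :=
  ⟨orderOf g / p, orderOf_pow_orderOf_div (orderOf_pos g).ne' hp⟩

/-- no element has order divisible by `p` and `q` under the hypotheses of `orderOf_dvd_of_commute`. -/
theorem not_dvd_of_dvd {p : ℕ} [Fact p.Prime] (c : ℕ)
    (hP : ∀ P : Sylow p G, Nat.card (P : Subgroup G) = p ∧
      Nat.card (Subgroup.centralizer ((P : Subgroup G) : Set G)) ∣ c)
    (q : ℕ) (hqc : ¬ q ∣ c) (g : G) (hp : p ∣ orderOf g) : ¬ q ∣ orderOf g := by
  intro hq
  obtain ⟨k, hk⟩ := exists_pow_orderOf_eq g p hp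
  obtain ⟨l, hl⟩ := exists_pow_orderOf_eq g q hq
  have hcomm : Commute (g ^ k) (g ^ l) := (Commute.refl g).pow_pow k l
  have := orderOf_dvd_of_commute c hP (g ^ k) (g ^ l) hk hcomm
  rw [hl] at this
  exact hqc this

/-- class size. -/
theorem ncard_conj_class (a : G) :
    {w : G | ∃ g : G, g * a * g⁻¹ = w}.ncard = (Subgroup.centralizer ({a} : Set G)).index := by
  have h1 := MulAction.index_stabilizer (ConjAct G) a
  rw [ConjAct.stabilizer_eq_centralizer] at h1
  have h2 : MulAction.orbit (ConjAct G) a = {w : G | ∃ g : G, g * a * g⁻¹ = w} := by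
    ext w
    rw [ConjAct.mem_orbit_conjAct, isConj_comm, isConj_iff]
    rfl
  rw [h2] at h1
  exact h1.symm

variable [IsSimpleGroup G]

/-- The case `n_5 = 51` is impossible. -/
theorem caseII_false (h : Nat.card G = 4080)
    (h5 : ∀ P : Sylow 5 G, Nat.card (Subgroup.centralizer ((P : Subgroup G) : Set G)) = 20 ∨
      Nat.card (Subgroup.centralizer ((P : Subgroup G) : Set G)) = 40)
    (hn5 : Nat.card (Sylow 5 G) = 51) : False := by
  classical
  haveI : Fact (Nat.Prime 17) := ⟨by norm_num⟩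
  haveI : Fact (Nat.Prime 5) := ⟨by norm_num⟩
  haveI : Fact (Nat.Prime 3) := ⟨by norm_num⟩
  have H17 : ∀ P : Sylow 17 G, Nat.card (P : Subgroup G) = 17 ∧
      Nat.card (Subgroup.centralizer ((P : Subgroup G) : Set G)) ∣ 17 := by
    intro P
    obtain ⟨h1, -, h3⟩ := sylow17 h P
    exact ⟨h1, by rw [h3]⟩
  have H5 : ∀ P : Sylow 5 G, Nat.card (P : Subgroup G) = 5 ∧
      Nat.card (Subgroup.centralizer ((P : Subgroup G) : Set G)) ∣ 40 := by
    intro P
    refine ⟨(sylow5 h P).1, ?_⟩
    rcases h5 P with h' | h' <;> rw [h'] <;> norm_num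
  obtain ⟨A17, hA17⟩ : ∃ A : Set G, A = {g : G | 17 ∣ orderOf g} := ⟨_, rfl⟩
  obtain ⟨A5, hA5⟩ : ∃ A : Set G, A = {g : G | 5 ∣ orderOf g} := ⟨_, rfl⟩
  obtain ⟨A3, hA3⟩ : ∃ A : Set G, A = {g : G | 3 ∣ orderOf g} := ⟨_, rfl⟩
  -- counts
  have c17 : 1920 ≤ A17.ncard := by
    have := count_lemma (p := 17) (fun R => (H17 R).1)
      (fun R => Subgroup.centralizer ((R : Subgroup G) : Set G))
      (fun R => (sylow_prime_facts (nonab4080 h) R 240 (by rw [h]) (by norm_num) (by norm_num)).2.1)
      (fun R => le_rfl) 17 (fun R => by rw [(sylow17 h R).2.2]) A17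
      (fun R g _ hg => by rw [hA17]; exact hg)
    rw [(sylow17 h (Classical.arbitrary _)).2.1] at this
    omega
  have c5 : 816 ≤ A5.ncard := by
    have := count_lemma (p := 5) (fun R => (H5 R).1)
      (fun R => Subgroup.centralizer ((R : Subgroup G) : Set G))
      (fun R => (sylow5 h R).2.1)
      (fun R => le_rfl) 20 (fun R => by rcases h5 R with h' | h' <;> rw [h'] <;> norm_num) A5
      (fun R g _ hg => by rw [hA5]; exact hg)
    rw [hn5] at this
    omega
  have c3 : 1360 ≤ A3.ncard := by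
    obtain ⟨P0⟩ : Nonempty (Sylow 3 G) := inferInstance
    obtain ⟨c0, hc0⟩ : ∃ c0, Nat.card (Subgroup.centralizer ((P0 : Subgroup G) : Set G)) = c0 :=
      ⟨_, rfl⟩
    have hn3pos : 0 < Nat.card (Sylow 3 G) := Nat.card_pos
    have hall : ∀ R : Sylow 3 G,
        Nat.card (Subgroup.centralizer ((R : Subgroup G) : Set G)) = c0 := by
      intro R
      have h1 := (sylow3 h R).2.2.1
      have h2 := (sylow3 h P0).2.2.1
      rw [hc0] at h2
      exact Nat.eq_of_mul_eq_mul_left hn3pos (h1.trans h2.symm)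
    have := count_lemma (p := 3) (fun R => (sylow3 h R).1)
      (fun R => Subgroup.centralizer ((R : Subgroup G) : Set G))
      (fun R => (sylow3 h R).2.1)
      (fun R => le_rfl) c0 (fun R => by rw [hall R]) A3
      (fun R g _ hg => by rw [hA3]; exact hg)
    have h2 := (sylow3 h P0).2.2.1
    rw [hc0] at h2
    have h3 : Nat.card (Sylow 3 G) * ((3 - 1) * c0) = 4080 := by
      have : Nat.card (Sylow 3 G) * ((3 - 1) * c0) = 2 * (Nat.card (Sylow 3 G) * c0) := by ring
      rw [this, h2]
    rw [h3] at this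
    omega
  -- disjointness
  have d1 : Disjoint A17 A5 := by
    rw [Set.disjoint_left]
    intro g hg hg'
    rw [hA17] at hg
    rw [hA5] at hg'
    exact not_dvd_of_dvd 17 H17 5 (by norm_num) g hg hg'
  have d2 : Disjoint A17 A3 := by
    rw [Set.disjoint_left]
    intro g hg hg'
    rw [hA17] at hg
    rw [hA3] at hg'
    exact not_dvd_of_dvd 17 H17 3 (by norm_num) g hg hg'
  have d3 : Disjoint A5 A3 := by
    rw [Set.disjoint_left]
    intro g hg hg'
    rw [hA5] at hg
    rw [hA3] at hg'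
    exact not_dvd_of_dvd 40 H5 3 (by norm_num) g hg hg'
  have d4 : Disjoint (A17 ∪ A5) A3 := Set.disjoint_union_left.mpr ⟨d2, d3⟩
  have hone : (1 : G) ∉ (A17 ∪ A5) ∪ A3 := by
    rw [hA17, hA5, hA3]
    simp
  have hcard : ((A17 ∪ A5) ∪ A3).ncard = A17.ncard + A5.ncard + A3.ncard := by
    rw [Set.ncard_union_eq d4 (Set.toFinite _) (Set.toFinite _),
      Set.ncard_union_eq d1 (Set.toFinite _) (Set.toFinite _)]
  have hins : (insert (1 : G) ((A17 ∪ A5) ∪ A3)).ncard = ((A17 ∪ A5) ∪ A3).ncard + 1 :=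
    Set.ncard_insert_of_notMem hone (Set.toFinite _)
  have hle : (insert (1 : G) ((A17 ∪ A5) ∪ A3)).ncard ≤ Nat.card G := by
    rw [← Set.ncard_univ]
    exact Set.ncard_le_ncard (Set.subset_univ _) (Set.toFinite _)
  rw [hins, hcard, h] at hle
  omega

end Cfsg.Agent.helper19.O4080
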