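import Mathlib
import Cfsg.Agent.Lib_helper19_O4080c

set_option autoImplicit false
set_option linter.style.haveILetI false
set_option linter.deprecated false
set_option linter.unusedVariables false
set_option linter.unusedSectionVars false
set_option linter.unnecessarySeqFocus false

/-!
# Simple groups of order 4080: the case `n_5 = 136` gives a CIT group
-/

namespace Cfsg.Agent.helper19.O4080

open Cfsg.Agent.helper5 Cfsg.Agent.helper11.O504

variable {G : Type*} [Group G] [Finite G]

theorem card_subgroupOf_eq' (N D : Subgroup G) :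
    Nat.card (N.subgroupOf D) = Nat.card (D ⊓ N : Subgroup G) := by
  rw [← Subgroup.inf_subgroupOf_left N D]
  exact Nat.card_congr (Subgroup.subgroupOfEquivOfLe (inf_le_left : D ⊓ N ≤ D)).toEquiv

variable [IsSimpleGroup G]

/-- In the case `n_5 = 136`, Sylow 3-centralizers have order 15. -/
theorem card_centralizer_sylow3 (h : Nat.card G = 4080)
    (h5 : ∀ P : Sylow 5 G, Nat.card (Subgroup.normalizer ((P : Subgroup G) : Set G)) = 30 ∧
      Nat.card (Subgroup.centralizer ((P : Subgroup G) : Set G)) = 15) (R : Sylow 3 G) :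
    Nat.card (Subgroup.centralizer ((R : Subgroup G) : Set G)) = 15 := by
  classical
  haveI : Fact (Nat.Prime 5) := ⟨by norm_num⟩
  haveI : Fact (Nat.Prime 3) := ⟨by norm_num⟩
  obtain ⟨P5⟩ : Nonempty (Sylow 5 G) := inferInstance
  obtain ⟨hN5, hC5⟩ := h5 P5
  have hP5c := (sylow5 h P5).1
  obtain ⟨y', hy'⟩ := exists_prime_orderOf_dvd_card'
    (G := ↥(Subgroup.centralizer ((P5 : Subgroup G) : Set G))) 3 (by rw [hC5]; norm_num)
  obtain ⟨y, hydef⟩ : ∃ y : G, y = (y' : G) := ⟨_, rfl⟩
  have hy3 : orderOf y = 3 := by rw [hydef, Subgroup.orderOf_coe]; exact hy'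
  have hyC5 : y ∈ Subgroup.centralizer ((P5 : Subgroup G) : Set G) := by rw [hydef]; exact y'.2
  have hpg : IsPGroup 3 ↥(Subgroup.zpowers y) :=
    IsPGroup.of_card (n := 1) (by rw [Nat.card_zpowers, hy3, pow_one])
  obtain ⟨P3, hP3le⟩ := hpg.exists_le_sylow
  have hP3c := (sylow3 h P3).1
  have hP3eq : Subgroup.zpowers y = (P3 : Subgroup G) :=
    Subgroup.eq_of_le_of_card_ge hP3le (by rw [hP3c, Nat.card_zpowers, hy3])
  obtain ⟨E, hE⟩ : ∃ E : Subgroup G, E = Subgroup.centralizer ((P3 : Subgroup G) : Set G) :=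
    ⟨_, rfl⟩
  have hP5E : (P5 : Subgroup G) ≤ E := by
    intro x hx
    rw [hE, Subgroup.mem_centralizer_iff]
    intro z hz
    rw [SetLike.mem_coe, ← hP3eq] at hz
    obtain ⟨i, rfl⟩ := Subgroup.mem_zpowers_iff.mp hz
    have hxy : Commute x y := Subgroup.mem_centralizer_iff.mp hyC5 x hx
    exact ((hxy.zpow_right i).eq).symm
  have h5dvd : 5 ∣ Nat.card E := by
    rw [← hP5c]
    exact Subgroup.card_dvd_of_le hP5E
  have hyE : y ∈ E := by
    rw [hE, Subgroup.mem_centralizer_iff]
    intro z hz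
    rw [SetLike.mem_coe, ← hP3eq] at hz
    obtain ⟨i, rfl⟩ := Subgroup.mem_zpowers_iff.mp hz
    exact (((Commute.refl y).zpow_right i).eq).symm
  have hlist := (sylow3 h P3).2.2.2
  rw [← hE] at hlist
  have hE15 : Nat.card E = 15 := by
    rcases hlist with h' | h' | h' | h' | h'
    · exfalso
      -- |E| = 60
      obtain ⟨N5, hN5def⟩ : ∃ N5 : Subgroup G,
          N5 = Subgroup.normalizer ((P5 : Subgroup G) : Set G) := ⟨_, rfl⟩
      rw [← hN5def] at hN5
      let P5' : Sylow 5 ↥E := P5.subtype hP5E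
      obtain ⟨hmod, -, hmul⟩ := sylow_count_facts P5'
      have hnorm : Subgroup.normalizer ((P5' : Subgroup ↥E) : Set ↥E) = N5.subgroupOf E := by
        have h1 : (P5' : Subgroup ↥E) = (P5 : Subgroup G).subgroupOf E := Sylow.coe_subtype P5 hP5E
        rw [h1, hN5def]
        exact (Subgroup.subgroupOf_normalizer_eq hP5E).symm
      rw [hnorm, card_subgroupOf_eq', h'] at hmul
      obtain ⟨m, hm⟩ : ∃ m, Nat.card (E ⊓ N5 : Subgroup G) = m := ⟨_, rfl⟩
      have hyN5 : y ∈ N5 := by
        rw [hN5def]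
        exact Subgroup.centralizer_le_normalizer _ hyC5
      have hm5 : 5 ∣ m := by
        rw [← hm, ← hP5c]
        refine Subgroup.card_dvd_of_le (le_inf hP5E ?_)
        rw [hN5def]
        exact Subgroup.le_normalizer
      have hm3 : 3 ∣ m := by
        rw [← hm]
        have : orderOf y ∣ Nat.card (E ⊓ N5 : Subgroup G) :=
          Subgroup.orderOf_dvd_natCard _ ⟨hyE, hyN5⟩
        rwa [hy3] at this
      have hm30 : m ∣ 30 := by
        rw [← hm, ← hN5]
        exact Subgroup.card_dvd_of_le inf_le_right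
      rw [hm] at hmul
      obtain ⟨n, hn⟩ : ∃ n, Nat.card (Sylow 5 ↥E) = n := ⟨_, rfl⟩
      rw [hn] at hmod hmul
      have hle := Nat.le_of_dvd (by norm_num) hm30
      have hmc : m = 15 ∨ m = 30 := by
        interval_cases m <;> omega
      rcases hmc with rfl | rfl <;> omega
    · exfalso; rw [h'] at h5dvd; omega
    · exfalso; rw [h'] at h5dvd; omega
    · exact h'
    · exfalso; rw [h'] at h5dvd; omega
  have hn3pos : 0 < Nat.card (Sylow 3 G) := Nat.card_pos
  have h1 := (sylow3 h R).2.2.1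
  have h2 := (sylow3 h P3).2.2.1
  rw [← hE, hE15] at h2
  exact Nat.eq_of_mul_eq_mul_left hn3pos (h1.trans h2.symm)

end Cfsg.Agent.helper19.O4080
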