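import Mathlib
import Cfsg.Agent.Lib_helper19_O4080d

set_option autoImplicit false
set_option linter.style.haveILetI false
set_option linter.deprecated false
set_option linter.unusedVariables false
set_option linter.unusedSectionVars false
set_option linter.unnecessarySeqFocus false

/-!
# Simple groups of order 4080: centralizers of involutions are elementary abelian
-/

namespace Cfsg.Agent.helper19.O4080

open Cfsg.Agent.helper5 Cfsg.Agent.helper11.O504

variable {G : Type*} [Group G] [Finite G] [IsSimpleGroup G]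

theorem caseI_structure (h : Nat.card G = 4080)
    (h5 : ∀ P : Sylow 5 G, Nat.card (Subgroup.normalizer ((P : Subgroup G) : Set G)) = 30 ∧
      Nat.card (Subgroup.centralizer ((P : Subgroup G) : Set G)) = 15)
    (hn5 : Nat.card (Sylow 5 G) = 136) (T : Sylow 2 G) :
    ¬ IsCyclic (T : Subgroup G) ∧ ¬ (T : Subgroup G).Normal ∧
    ∀ t : G, orderOf t = 2 →
      IsMulCommutative (Subgroup.centralizer ({t} : Set G)) ∧
        ∀ c ∈ Subgroup.centralizer ({t} : Set G), c ^ 2 = 1 := by
  classical
  haveI : Fact (Nat.Prime 17) := ⟨by norm_num⟩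
  haveI : Fact (Nat.Prime 5) := ⟨by norm_num⟩
  haveI : Fact (Nat.Prime 3) := ⟨by norm_num⟩
  haveI : Fact (Nat.Prime 2) := ⟨by norm_num⟩
  have H17 : ∀ P : Sylow 17 G, Nat.card (P : Subgroup G) = 17 ∧
      Nat.card (Subgroup.centralizer ((P : Subgroup G) : Set G)) ∣ 17 := by
    intro P
    obtain ⟨h1, -, h3⟩ := sylow17 h P
    exact ⟨h1, by rw [h3]⟩
  have H5 : ∀ P : Sylow 5 G, Nat.card (P : Subgroup G) = 5 ∧
      Nat.card (Subgroup.centralizer ((P : Subgroup G) : Set G)) ∣ 15 := by
    intro P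
    exact ⟨(sylow5 h P).1, by rw [(h5 P).2]⟩
  have hC3 := card_centralizer_sylow3 h h5
  have H3 : ∀ P : Sylow 3 G, Nat.card (P : Subgroup G) = 3 ∧
      Nat.card (Subgroup.centralizer ((P : Subgroup G) : Set G)) ∣ 15 := by
    intro P
    exact ⟨(sylow3 h P).1, by rw [hC3 P]⟩
  have hn3 : Nat.card (Sylow 3 G) = 136 := by
    obtain ⟨P0⟩ : Nonempty (Sylow 3 G) := inferInstance
    have := (sylow3 h P0).2.2.1
    rw [hC3 P0] at this
    omega
  -- (c) odd primes do not divide centralizers of involutions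
  have hodd : ∀ t : G, orderOf t = 2 → ∀ q c : ℕ, ∀ _ : Fact q.Prime,
      (∀ P : Sylow q G, Nat.card (P : Subgroup G) = q ∧
        Nat.card (Subgroup.centralizer ((P : Subgroup G) : Set G)) ∣ c) → ¬ 2 ∣ c →
      ¬ q ∣ Nat.card (Subgroup.centralizer ({t} : Set G)) := by
    intro t ht q c hq Hq hc hdvd
    obtain ⟨y', hy'⟩ := exists_prime_orderOf_dvd_card'
      (G := ↥(Subgroup.centralizer ({t} : Set G))) q hdvd
    have hyq : orderOf (y' : G) = q := by rw [Subgroup.orderOf_coe]; exact hy'
    have hcomm : Commute (y' : G) t :=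
      (Subgroup.mem_centralizer_iff.mp y'.2 t (Set.mem_singleton t)).symm
    have := orderOf_dvd_of_commute c Hq (y' : G) t hyq hcomm
    rw [ht] at this
    exact hc this
  -- (d)
  have hE : ∀ g : G, 2 ∣ orderOf g → ∀ q c : ℕ, ∀ _ : Fact q.Prime,
      (∀ P : Sylow q G, Nat.card (P : Subgroup G) = q ∧
        Nat.card (Subgroup.centralizer ((P : Subgroup G) : Set G)) ∣ c) → ¬ 2 ∣ c →
      ¬ q ∣ orderOf g := by
    intro g hg q c hq Hq hc hqg
    obtain ⟨k, hk⟩ := exists_pow_orderOf_eq g 2 hg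
    obtain ⟨l, hl⟩ := exists_pow_orderOf_eq g q hqg
    apply hodd (g ^ k) hk q c hq Hq hc
    have hmem : g ^ l ∈ Subgroup.centralizer ({g ^ k} : Set G) := by
      rw [Subgroup.mem_centralizer_iff]
      intro z hz
      rw [Set.mem_singleton_iff] at hz
      subst hz
      exact ((Commute.refl g).pow_pow k l).eq
    have := Subgroup.orderOf_dvd_natCard _ hmem
    rwa [hl] at this
  -- sets
  obtain ⟨A17, hA17⟩ : ∃ A : Set G, A = {g : G | 17 ∣ orderOf g} := ⟨_, rfl⟩
  obtain ⟨A5, hA5⟩ : ∃ A : Set G, A = {g : G | 5 ∣ orderOf g} := ⟨_, rfl⟩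
  obtain ⟨B3, hB3⟩ : ∃ A : Set G, A = {g : G | orderOf g = 3} := ⟨_, rfl⟩
  obtain ⟨E, hEdef⟩ : ∃ A : Set G, A = {g : G | 2 ∣ orderOf g} := ⟨_, rfl⟩
  have c17 : 1920 ≤ A17.ncard := by
    have := count_lemma (p := 17) (fun R => (H17 R).1)
      (fun R => Subgroup.centralizer ((R : Subgroup G) : Set G))
      (fun R => (sylow_prime_facts (nonab4080 h) R 240 (by rw [h]) (by norm_num) (by norm_num)).2.1)
      (fun R => le_rfl) 17 (fun R => by rw [(sylow17 h R).2.2]) A17
      (fun R g _ hg => by rw [hA17]; exact hg)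
    rw [(sylow17 h (Classical.arbitrary _)).2.1] at this
    omega
  have c5 : 1632 ≤ A5.ncard := by
    have := count_lemma (p := 5) (fun R => (H5 R).1)
      (fun R => Subgroup.centralizer ((R : Subgroup G) : Set G))
      (fun R => (sylow5 h R).2.1)
      (fun R => le_rfl) 15 (fun R => by rw [(h5 R).2]) A5
      (fun R g _ hg => by rw [hA5]; exact hg)
    rw [hn5] at this
    omega
  have c3 : 272 ≤ B3.ncard := by
    have := count_lemma (p := 3) (fun R => (H3 R).1)
      (fun R => (R : Subgroup G))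
      (fun R => le_rfl)
      (fun R => (sylow3 h R).2.1) 3 (fun R => by rw [(H3 R).1]) B3
      (fun R g hgR hg => by
        rw [hB3]
        have hd : orderOf g ∣ 3 := by
          rw [← (H3 R).1]
          exact Subgroup.orderOf_dvd_natCard _ hgR
        exact Nat.dvd_antisymm hd hg)
    rw [hn3] at this
    omega
  -- disjointness
  have d1 : Disjoint A17 A5 := by
    rw [Set.disjoint_left]
    intro g hg hg'
    rw [hA17] at hg
    rw [hA5] at hg'
    exact not_dvd_of_dvd 17 H17 5 (by norm_num) g hg hg'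
  have d2 : Disjoint (A17 ∪ A5) B3 := by
    rw [Set.disjoint_left]
    intro g hg hg'
    rw [hB3] at hg'
    rw [hA17, hA5] at hg
    simp only [Set.mem_setOf_eq] at hg'
    rcases hg with hg | hg
    · simp only [Set.mem_setOf_eq] at hg
      rw [hg'] at hg
      omega
    · simp only [Set.mem_setOf_eq] at hg
      rw [hg'] at hg
      omega
  have d3 : Disjoint ((A17 ∪ A5) ∪ B3) E := by
    rw [Set.disjoint_left]
    intro g hg hg'
    rw [hEdef] at hg'
    simp only [Set.mem_setOf_eq] at hg'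
    rw [hA17, hA5, hB3] at hg
    rcases hg with (hg | hg) | hg
    · exact hE g hg' 17 17 inferInstance H17 (by norm_num) hg
    · exact hE g hg' 5 15 inferInstance H5 (by norm_num) hg
    · simp only [Set.mem_setOf_eq] at hg
      rw [hg] at hg'
      omega
  have hone : (1 : G) ∉ ((A17 ∪ A5) ∪ B3) ∪ E := by
    rw [hA17, hA5, hB3, hEdef]
    simp
  have hcard : (((A17 ∪ A5) ∪ B3) ∪ E).ncard = A17.ncard + A5.ncard + B3.ncard + E.ncard := by
    rw [Set.ncard_union_eq d3 (Set.toFinite _) (Set.toFinite _),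
      Set.ncard_union_eq d2 (Set.toFinite _) (Set.toFinite _),
      Set.ncard_union_eq d1 (Set.toFinite _) (Set.toFinite _)]
  have hins : (insert (1 : G) (((A17 ∪ A5) ∪ B3) ∪ E)).ncard =
      (((A17 ∪ A5) ∪ B3) ∪ E).ncard + 1 :=
    Set.ncard_insert_of_notMem hone (Set.toFinite _)
  have hle : (insert (1 : G) (((A17 ∪ A5) ∪ B3) ∪ E)).ncard ≤ Nat.card G := by
    rw [← Set.ncard_univ]
    exact Set.ncard_le_ncard (Set.subset_univ _) (Set.toFinite _)
  rw [hins, hcard, h] at hle
  have hE255 : E.ncard ≤ 255 := by omega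
  -- (f) centralizer of an involution has order dividing 16
  have hd16 : ∀ t : G, orderOf t = 2 → Nat.card (Subgroup.centralizer ({t} : Set G)) ∣ 16 := by
    intro t ht
    have hdvd : Nat.card (Subgroup.centralizer ({t} : Set G)) ∣ 16 * 255 := by
      have := Subgroup.card_subgroup_dvd_card (Subgroup.centralizer ({t} : Set G))
      rwa [h] at this
    have h3 := hodd t ht 3 15 inferInstance H3 (by norm_num)
    have h5' := hodd t ht 5 15 inferInstance H5 (by norm_num)
    have h17 := hodd t ht 17 17 inferInstance H17 (by norm_num)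
    have hcop : Nat.Coprime (Nat.card (Subgroup.centralizer ({t} : Set G))) 255 := by
      have e : (255 : ℕ) = 3 * (5 * 17) := by norm_num
      rw [e]
      refine Nat.Coprime.mul_right ?_ (Nat.Coprime.mul_right ?_ ?_)
      · exact (Nat.Coprime.symm ((Nat.Prime.coprime_iff_not_dvd (by norm_num)).mpr h3))
      · exact (Nat.Coprime.symm ((Nat.Prime.coprime_iff_not_dvd (by norm_num)).mpr h5'))
      · exact (Nat.Coprime.symm ((Nat.Prime.coprime_iff_not_dvd (by norm_num)).mpr h17))
    exact Nat.Coprime.dvd_of_dvd_mul_right hcop hdvd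
  -- (g) every element of even order is an involution
  have hEinv : ∀ g : G, 2 ∣ orderOf g → orderOf g = 2 := by
    intro g hg
    obtain ⟨k, hk⟩ := exists_pow_orderOf_eq g 2 hg
    obtain ⟨t, htdef⟩ : ∃ t : G, t = g ^ k := ⟨_, rfl⟩
    rw [← htdef] at hk
    have hd := hd16 t hk
    have hidx := Subgroup.card_mul_index (Subgroup.centralizer ({t} : Set G))
    rw [h] at hidx
    have hcls := ncard_conj_class t
    obtain ⟨d, hdd⟩ : ∃ d, Nat.card (Subgroup.centralizer ({t} : Set G)) = d := ⟨_, rfl⟩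
    rw [hdd] at hd hidx
    have hdle := Nat.le_of_dvd (by norm_num) hd
    have hidx255 : 255 ≤ (Subgroup.centralizer ({t} : Set G)).index := by
      interval_cases d <;> omega
    have hsub : {w : G | ∃ x : G, x * t * x⁻¹ = w} ⊆ E := by
      rintro w ⟨x, rfl⟩
      rw [hEdef]
      have : orderOf (x * t * x⁻¹) = 2 := by
        have := (MulAut.conj x).orderOf_eq t
        rw [MulAut.conj_apply] at this
        rw [this, hk]
      simp only [Set.mem_setOf_eq]
      rw [this]
    have heq : {w : G | ∃ x : G, x * t * x⁻¹ = w} = E :=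
      Set.eq_of_subset_of_ncard_le hsub (by rw [hcls]; omega) (Set.toFinite _)
    have hgE : g ∈ E := by rw [hEdef]; exact hg
    rw [← heq] at hgE
    obtain ⟨x, rfl⟩ := hgE
    have := (MulAut.conj x).orderOf_eq t
    rw [MulAut.conj_apply] at this
    rw [this, hk]
  have hTcard : Nat.card (T : Subgroup G) = 16 := by
    have := (sylow_card_of_card_eq T 4 255 (by rw [h]; norm_num) (by norm_num)).1
    rw [this]
    norm_num
  refine ⟨?_, ?_, ?_⟩
  · intro hcyc
    obtain ⟨g, hg⟩ := hcyc.exists_generator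
    have ho : orderOf g = 16 := by
      rw [orderOf_eq_card_of_forall_mem_zpowers hg, hTcard]
    have ho' : orderOf (g : G) = 16 := by rw [Subgroup.orderOf_coe]; exact ho
    have := hEinv (g : G) (by rw [ho']; norm_num)
    omega
  · intro hn
    rcases hn.eq_bot_or_eq_top with h' | h'
    · rw [h'] at hTcard
      simp at hTcard
    · rw [h', Subgroup.card_top, h] at hTcard
      omega
  · intro t ht
    have hd := hd16 t ht
    have hsq : ∀ c ∈ Subgroup.centralizer ({t} : Set G), c ^ 2 = 1 := by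
      intro c hc
      by_cases hc1 : c = 1
      · rw [hc1, one_pow]
      · have ho1 : orderOf c ≠ 1 := fun h1 => hc1 (orderOf_eq_one_iff.mp h1)
        have ho16 : orderOf c ∣ 16 := (Subgroup.orderOf_dvd_natCard _ hc).trans hd
        have ho2 : 2 ∣ orderOf c := by
          obtain ⟨o, hoo⟩ : ∃ o, orderOf c = o := ⟨_, rfl⟩
          rw [hoo] at ho1 ho16 ⊢
          have hle := Nat.le_of_dvd (by norm_num) ho16
          interval_cases o <;> omega
        have := hEinv c ho2
        rw [← this]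
        exact pow_orderOf_eq_one c
    refine ⟨⟨⟨?_⟩⟩, hsq⟩
    rintro ⟨a, ha⟩ ⟨b, hb⟩
    apply Subtype.ext
    show a * b = b * a
    have h1 := hsq a ha
    have h2 := hsq b hb
    have h3 := hsq (a * b) (Subgroup.mul_mem _ ha hb)
    have ha' : a⁻¹ = a := by
      rw [inv_eq_iff_mul_eq_one, ← pow_two]; exact h1
    have hb' : b⁻¹ = b := by
      rw [inv_eq_iff_mul_eq_one, ← pow_two]; exact h2
    have hab' : (a * b)⁻¹ = a * b := by
      rw [inv_eq_iff_mul_eq_one, ← pow_two]; exact h3
    rw [mul_inv_rev, ha', hb'] at hab'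
    exact hab'.symm

theorem structure_thm (h : Nat.card G = 4080) (T : Sylow 2 G) :
    ¬ IsCyclic (T : Subgroup G) ∧ ¬ (T : Subgroup G).Normal ∧
    ∀ t : G, orderOf t = 2 →
      IsMulCommutative (Subgroup.centralizer ({t} : Set G)) ∧
        ∀ c ∈ Subgroup.centralizer ({t} : Set G), c ^ 2 = 1 := by
  haveI : Fact (Nat.Prime 5) := ⟨by norm_num⟩
  obtain ⟨P0⟩ : Nonempty (Sylow 5 G) := inferInstance
  rcases (sylow5 h P0).2.2 with ⟨hn, -, -⟩ | ⟨hn, -⟩
  · apply caseI_structure h _ hn T
    intro P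
    rcases (sylow5 h P).2.2 with ⟨-, hN, hC⟩ | ⟨hn', -⟩
    · exact ⟨hN, hC⟩
    · omega
  · exfalso
    apply caseII_false h _ hn
    intro P
    rcases (sylow5 h P).2.2 with ⟨hn', -, -⟩ | ⟨-, hC⟩
    · omega
    · exact hC

end Cfsg.Agent.helper19.O4080
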