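import Mathlib
import Cfsg.Prelude.Def_Transfer
import Cfsg.Agent.Lib_helper7_Coprime
import Cfsg.Agent.Lib_helper1_PGroup
import Cfsg.Agent.Lib_lead_Coprime3
import Cfsg.Agent.Lib_helper19_Clifford
import Cfsg.Agent.Lib_helper19_HH1
import Cfsg.Agent.Lib_helper19_HH2

set_option autoImplicit false
set_option linter.style.haveILetI false

namespace Cfsg.Agent.helper19

open scoped commutatorElement
open Cfsg.Agent.helper7 Cfsg.Agent.helper1

variable {X : Type*} [Group X]

/-- Subgroups of every intermediate order in a `p`-subgroup. -/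
theorem exists_between_card [Finite X] {p : ℕ} [Fact p.Prime] (P H : Subgroup X) (hHP : H ≤ P)
    {k m : ℕ} (hH : Nat.card H = p ^ k) (hkm : k ≤ m) (hm : p ^ m ∣ Nat.card P) :
    ∃ K : Subgroup X, H ≤ K ∧ K ≤ P ∧ Nat.card K = p ^ m := by
  have hH' : Nat.card (H.subgroupOf P) = p ^ k := by
    rw [← hH]
    exact Nat.card_congr (Subgroup.subgroupOfEquivOfLe hHP).toEquiv
  obtain ⟨K', hK', hHK'⟩ := Sylow.exists_subgroup_card_pow_prime_le p hm (H.subgroupOf P) hH' hkm
  refine ⟨K'.map P.subtype, ?_, Subgroup.map_subtype_le _, ?_⟩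
  · rw [← Subgroup.map_subgroupOf_eq_of_le hHP]
    exact Subgroup.map_mono hHK'
  · rw [Subgroup.card_subtype, hK']

/-- Arithmetic: an odd power congruent to one modulo a power of two. -/
theorem modEq_one_of_pow_odd {m r k : ℕ} (hr : Odd r) (h : m ^ r ≡ 1 [MOD 2 ^ k]) :
    m ≡ 1 [MOD 2 ^ k] := by
  rcases Nat.eq_zero_or_pos k with rfl | hk
  · simp [Nat.modEq_one]
  haveI : NeZero (2 ^ k) := ⟨by positivity⟩
  have h1 : ((m : ZMod (2 ^ k))) ^ r = 1 := by
    have := (ZMod.natCast_eq_natCast_iff _ _ _).2 h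
    push_cast at this
    exact this
  have hr0 : r ≠ 0 := by
    rintro rfl
    simp at hr
  let u : (ZMod (2 ^ k))ˣ := Units.ofPowEqOne _ r h1 hr0
  have hu1 : u ^ r = 1 := Units.pow_ofPowEqOne h1 hr0
  have hcard : Nat.card (ZMod (2 ^ k))ˣ = 2 ^ (k - 1) := by
    rw [Nat.card_eq_fintype_card, ZMod.card_units_eq_totient,
      Nat.totient_prime_pow Nat.prime_two hk]
    simp
  have hu2 : u ^ (2 ^ (k - 1)) = 1 := by
    rw [← hcard]; exact pow_card_eq_one'
  have ho1 : orderOf u ∣ r := orderOf_dvd_of_pow_eq_one hu1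
  have ho2 : orderOf u ∣ 2 ^ (k - 1) := orderOf_dvd_of_pow_eq_one hu2
  have hcop : Nat.Coprime r (2 ^ (k - 1)) := by
    apply Nat.Coprime.pow_right
    exact (Nat.coprime_two_right.2 hr)
  have ho : orderOf u = 1 := Nat.eq_one_of_dvd_coprimes hcop ho1 ho2
  have hu : u = 1 := orderOf_eq_one_iff.1 ho
  have hm : (m : ZMod (2 ^ k)) = 1 := by
    have := congrArg Units.val hu
    simpa [u] using this
  have := (ZMod.natCast_eq_natCast_iff m 1 (2 ^ k)).1 (by push_cast; exact hm)
  exact this

/-- An element of odd order normalizing a cyclic `2`-group centralizes it. -/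
theorem commute_of_conj_mem_zpowers (c a : X) {k : ℕ} (hc : orderOf c = 2 ^ k)
    (ha : Odd (orderOf a)) (h : a * c * a⁻¹ ∈ Subgroup.zpowers c) : a * c = c * a := by
  have hcfin : IsOfFinOrder c := by
    rw [← orderOf_pos_iff, hc]; positivity
  obtain ⟨m, hm⟩ : ∃ m : ℕ, c ^ m = a * c * a⁻¹ := by
    have := (hcfin.mem_powers_iff_mem_zpowers).2 h
    exact Submonoid.mem_powers_iff _ _ |>.1 this
  have key : ∀ j : ℕ, a ^ j * c * (a ^ j)⁻¹ = c ^ (m ^ j) := by
    intro j
    induction j with
    | zero => simp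
    | succ j ih =>
      have e : a ^ (j + 1) * c * (a ^ (j + 1))⁻¹ = a * (a ^ j * c * (a ^ j)⁻¹) * a⁻¹ := by
        rw [pow_succ']; group
      rw [e, ih, ← conj_pow, ← hm, ← pow_mul, pow_succ, mul_comm]
  have h1 := key (orderOf a)
  rw [pow_orderOf_eq_one] at h1
  simp only [one_mul, inv_one, mul_one] at h1
  have h2 : m ^ orderOf a ≡ 1 [MOD 2 ^ k] := by
    rw [← hc]
    apply pow_eq_pow_iff_modEq.1
    rw [pow_one]; exact h1.symm
  have h3 := modEq_one_of_pow_odd ha h2
  rw [← hc] at h3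
  have h4 : c ^ m = c ^ 1 := pow_eq_pow_iff_modEq.2 h3
  rw [pow_one, hm] at h4
  calc a * c = (a * c * a⁻¹) * a := by group
    _ = c * a := by rw [h4]


/-- Lemma B: an odd-order group normalizing a `2`-group `T` and all its subgroups of index two
centralizes `T`. -/
theorem centralizes_of_normalizes_index_two [Finite X] (T A : Subgroup X) (hT : IsPGroup 2 T)
    (hA : Odd (Nat.card A)) (hAT : A ≤ Subgroup.normalizer (T : Set X))
    (h : ∀ M : Subgroup X, M ≤ T → 2 * Nat.card M = Nat.card T →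
      A ≤ Subgroup.normalizer (M : Set X)) :
    A ≤ Subgroup.centralizer (T : Set X) := by
  have hTA : ⁅T, A⁆ ≤ T := commutator_le_of_normalizer hAT
  -- [T,A] ≤ Φ(T)
  have hΦ : (⁅T, A⁆).subgroupOf T ≤ frattini ↥T := by
    apply le_frattini_of_forall_coatom
    intro M' hM'
    have hidx : M'.index = 2 := coatom_index_of_isPGroup hT hM'
    have hAM : A ≤ Subgroup.normalizer ((M'.map T.subtype : Subgroup X) : Set X) := by
      apply h _ (Subgroup.map_subtype_le _)
      rw [Subgroup.card_subtype, ← hidx, mul_comm, Subgroup.card_mul_index]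
    have hmem : ∀ x : X, ∀ hx : x ∈ T, (x ∈ M'.map T.subtype ↔ (⟨x, hx⟩ : ↥T) ∈ M') := by
      intro x hx
      constructor
      · rintro ⟨y, hy, rfl⟩
        exact hy
      · intro hy
        exact ⟨⟨x, hx⟩, hy, rfl⟩
    have hgen : ⁅T, A⁆ ≤ M'.map T.subtype := by
      rw [Subgroup.commutator_le]
      intro t ht a ha
      have hv : a * t⁻¹ * a⁻¹ ∈ T :=
        (Subgroup.mem_normalizer_iff.1 (hAT ha) t⁻¹).1 (T.inv_mem ht)
      have e : ⁅t, a⁆ = t * (a * t⁻¹ * a⁻¹) := by rw [commutatorElement_def]; group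
      have hmem2 : t * (a * t⁻¹ * a⁻¹) ∈ T := T.mul_mem ht hv
      rw [e, hmem _ hmem2]
      have e2 : (⟨t * (a * t⁻¹ * a⁻¹), hmem2⟩ : ↥T) = ⟨t, ht⟩ * ⟨a * t⁻¹ * a⁻¹, hv⟩ := rfl
      rw [e2, Subgroup.mul_mem_iff_of_index_two hidx, ← hmem _ hv, ← hmem _ ht]
      rw [← (Subgroup.mem_normalizer_iff.1 (hAM ha) t⁻¹), inv_mem_iff]
    intro z hz
    rw [Subgroup.mem_subgroupOf] at hz
    have := hgen hz
    rw [hmem _ z.2] at this
    exact this
  -- coprime decomposition
  have hcop : (Nat.card A).Coprime (Nat.card T) := by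
    obtain ⟨n, hn⟩ := hT.exists_card_eq
    rw [hn]
    exact Nat.Coprime.pow_right _ (Nat.coprime_two_right.2 hA)
  haveI : Group.IsNilpotent ↥T := hT.isNilpotent
  have hsolv : Group.IsSolvable ↥T := IsNilpotent.to_isSolvable
  have hdec := Cfsg.Agent.lead.coprime_commutator_sup_fixed A T hAT hcop (Or.inr hsolv)
  set C : Subgroup X := T ⊓ Subgroup.centralizer (A : Set X) with hC
  have hCT : C ≤ T := inf_le_left
  have htop : C.subgroupOf T ⊔ frattini ↥T = ⊤ := by
    rw [eq_top_iff]
    calc (⊤ : Subgroup ↥T) = (⁅T, A⁆ ⊔ C).subgroupOf T := by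
          rw [hdec, Subgroup.subgroupOf_self]
      _ = (⁅T, A⁆).subgroupOf T ⊔ C.subgroupOf T := Subgroup.subgroupOf_sup hTA hCT
      _ ≤ C.subgroupOf T ⊔ frattini ↥T := by
          rw [sup_comm]
          exact sup_le_sup_left hΦ _
  have hCtop := frattini_nongenerating htop
  rw [Subgroup.subgroupOf_eq_top] at hCtop
  intro a ha
  rw [Subgroup.mem_centralizer_iff]
  intro t ht
  have := (hCtop ht).2
  exact (Subgroup.mem_centralizer_iff.1 this a ha).symm


/-- A special `2`-group has exponent dividing four. -/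
theorem special_two_pow_four {Q : Type*} [Group Q] [Finite Q] (h : Cfsg.IsSpecial 2 Q) (x : Q) :
    x ^ 4 = 1 := by
  obtain ⟨hQ, hfz, hcz⟩ := h
  have hsq : ∀ u : Q, u ^ 2 ∈ Subgroup.center Q := by
    intro u
    rw [← hfz]
    exact pow_mem_frattini_of_isPGroup hQ u
  have hcomm_central : ∀ u v : Q, ⁅u, v⁆ ∈ Subgroup.center Q := by
    intro u v
    rw [← hcz, commutator_eq_closure]
    exact Subgroup.subset_closure ⟨u, v, rfl⟩
  have hgen : ∀ u v : Q, ⁅u, v⁆ ^ 2 = 1 := by
    intro u v
    have hc : Commute ⁅u, v⁆ u := by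
      have := Subgroup.mem_center_iff.1 (hcomm_central u v) u
      exact this.symm
    rw [← commutatorElement_pow_left u v hc 2]
    have h2 := Subgroup.mem_center_iff.1 (hsq u) v
    rw [commutatorElement_def, ← h2]
    group
  have hall : ∀ z ∈ commutator Q, z ^ 2 = 1 := by
    intro z hz
    rw [commutator_eq_closure] at hz
    induction hz using Subgroup.closure_induction with
    | mem y hy =>
      obtain ⟨u, v, rfl⟩ := hy
      exact hgen u v
    | one => simp
    | mul a b ha hb iha ihb =>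
      have hac : a ∈ Subgroup.center Q := by
        rw [← hcz, commutator_eq_closure]; exact ha
      have hcm : Commute a b := by
        have := Subgroup.mem_center_iff.1 hac b
        exact this.symm
      rw [hcm.mul_pow, iha, ihb, one_mul]
    | inv a ha iha => rw [inv_pow, iha, inv_one]
  have hx2 : x ^ 2 ∈ commutator Q := by
    rw [hcz]; exact hsq x
  have := hall _ hx2
  rw [← pow_mul] at this
  exact this


theorem oddAut_main [Finite X] (P A D : Subgroup X) (hP : IsPGroup 2 P) (hA : Odd (Nat.card A))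
    (hAP : A ≤ Subgroup.normalizer (P : Set X)) (hDP : D ≤ P) (hD1 : 1 < Nat.card D)
    (hD2 : Nat.card D < Nat.card P)
    (hinv : ∀ E : Subgroup X, E ≤ P →
      (Nat.card E = Nat.card D ∨ (Nat.card D = 2 ∧ Nat.card E = 4)) →
      A ≤ Subgroup.normalizer (E : Set X)) :
    A ≤ Subgroup.centralizer (P : Set X) := by
  obtain ⟨n, hn⟩ := hP.exists_card_eq
  obtain ⟨d, hd⟩ := (hP.to_le hDP).exists_card_eq
  have hd1 : 1 ≤ d := by
    rcases Nat.eq_zero_or_pos d with rfl | h
    · rw [hd] at hD1; simp at hD1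
    · exact h
  have hdn : d < n := by
    rw [hd, hn] at hD2
    exact (Nat.pow_lt_pow_iff_right (by norm_num)).1 hD2
  have hAodd : ∀ a ∈ A, Odd (orderOf a) := by
    intro a ha
    have h1 : orderOf (⟨a, ha⟩ : ↥A) ∣ Nat.card A := orderOf_dvd_natCard _
    rw [← Subgroup.orderOf_coe] at h1
    exact Odd.of_dvd_nat hA h1
  -- S1
  have S1 : ∀ x ∈ P, x ^ (2 ^ d) = 1 → ∀ a ∈ A, a * x = x * a := by
    intro x hx hxd a ha
    obtain ⟨k, hk, hkx⟩ : ∃ k ≤ d, orderOf x = 2 ^ k :=
      (Nat.dvd_prime_pow Nat.prime_two).1 (orderOf_dvd_of_pow_eq_one hxd)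
    have hcz : Nat.card (Subgroup.zpowers x) = 2 ^ k := by rw [Nat.card_zpowers, hkx]
    have hzP : Subgroup.zpowers x ≤ P := by rwa [Subgroup.zpowers_le]
    obtain ⟨E, hzE, hEP, hE⟩ := exists_between_card P (Subgroup.zpowers x) hzP hcz hk
      (hn ▸ pow_dvd_pow 2 hdn.le)
    obtain ⟨T, hET, hTP, hT⟩ := exists_between_card P E hEP hE (Nat.le_succ d)
      (hn ▸ pow_dvd_pow 2 hdn)
    have hxE : x ∈ E := hzE (Subgroup.mem_zpowers x)
    have hTp : IsPGroup 2 T := hP.to_le hTP
    by_cases huniq : ∀ M : Subgroup X, M ≤ T → Nat.card M = 2 ^ d → M = E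
    · -- cyclic case
      have hElt : E < T := by
        refine lt_of_le_of_ne hET ?_
        rintro rfl
        rw [hE] at hT
        have := Nat.pow_right_injective (le_refl 2) hT
        omega
      obtain ⟨t, htT, htE⟩ := SetLike.exists_of_lt hElt
      have hztT : Subgroup.zpowers t ≤ T := by rwa [Subgroup.zpowers_le]
      have hot : orderOf t ∣ 2 ^ (d + 1) := by
        rw [← hT, ← Nat.card_zpowers]
        exact Subgroup.card_dvd_of_le hztT
      obtain ⟨j, hj, hjt⟩ := (Nat.dvd_prime_pow Nat.prime_two).1 hot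
      have hjd : j = d + 1 := by
        by_contra hne
        have hjd' : j ≤ d := by omega
        have hczt : Nat.card (Subgroup.zpowers t) = 2 ^ j := by rw [Nat.card_zpowers, hjt]
        obtain ⟨E', hzE', hE'T, hE'⟩ := exists_between_card T (Subgroup.zpowers t) hztT hczt hjd'
          (hT ▸ pow_dvd_pow 2 (Nat.le_succ d))
        rw [huniq E' hE'T hE'] at hzE'
        exact htE (hzE' (Subgroup.mem_zpowers t))
      rw [hjd] at hjt
      have hot2 : orderOf (t ^ 2) = 2 ^ d := by
        rw [orderOf_pow_of_dvd (by norm_num) (by rw [hjt, pow_succ]; exact Dvd.intro_left _ rfl),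
          hjt, pow_succ]
        simp
      have hE2 : Subgroup.zpowers (t ^ 2) = E := by
        apply huniq
        · rw [Subgroup.zpowers_le]; exact T.pow_mem htT 2
        · rw [Nat.card_zpowers, hot2]
      have hAE : A ≤ Subgroup.normalizer (E : Set X) := hinv E hEP (Or.inl (hE.trans hd.symm))
      have hconj : a * t ^ 2 * a⁻¹ ∈ Subgroup.zpowers (t ^ 2) := by
        rw [hE2]
        refine (Subgroup.mem_normalizer_iff.1 (hAE ha) (t ^ 2)).1 ?_
        rw [← hE2]; exact Subgroup.mem_zpowers _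
      have hcomm : a * t ^ 2 = t ^ 2 * a := commute_of_conj_mem_zpowers (t ^ 2) a hot2 (hAodd a ha) hconj
      rw [← hE2] at hxE
      obtain ⟨i, rfl⟩ := Subgroup.mem_zpowers_iff.1 hxE
      exact (Commute.zpow_right (show Commute a (t ^ 2) from hcomm) i).eq
    · push Not at huniq
      obtain ⟨M, hMT, hMc, hME⟩ := huniq
      have hsup : M ⊔ E = T := by
        have hle : M ⊔ E ≤ T := sup_le hMT hET
        have hdvd : Nat.card (M ⊔ E : Subgroup X) ∣ 2 ^ (d + 1) := by
          rw [← hT]; exact Subgroup.card_dvd_of_le hle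
        obtain ⟨j, hj, hjc⟩ := (Nat.dvd_prime_pow Nat.prime_two).1 hdvd
        by_cases hjd : j = d + 1
        · apply Subgroup.eq_of_le_of_card_ge hle
          rw [hT, hjc, hjd]
        · exfalso
          have hjd' : j ≤ d := by omega
          have hle2 : Nat.card (M ⊔ E : Subgroup X) ≤ 2 ^ d := by
            rw [hjc]; exact Nat.pow_le_pow_right (by norm_num) hjd'
          have h1 : M = M ⊔ E := Subgroup.eq_of_le_of_card_ge le_sup_left (by rw [hMc]; exact hle2)
          have h2 : E = M ⊔ E := Subgroup.eq_of_le_of_card_ge le_sup_right (by rw [hE]; exact hle2)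
          exact hME (h1.trans h2.symm)
      have hAT : A ≤ Subgroup.normalizer (T : Set X) := by
        rw [← hsup]
        exact le_normalizer_sup (hinv M (hMT.trans hTP) (Or.inl (hMc.trans hd.symm)))
          (hinv E hEP (Or.inl (hE.trans hd.symm)))
      have hcent := centralizes_of_normalizes_index_two T A hTp hA hAT
        (fun M' hM'T hM'c => hinv M' (hM'T.trans hTP) (Or.inl (by
          rw [hd]; rw [hT, pow_succ] at hM'c; omega)))
      exact (Subgroup.mem_centralizer_iff.1 (hcent ha) x (hET hxE)).symm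
  -- S2
  have S2 : ∀ x ∈ P, x ^ 4 = 1 → ∀ a ∈ A, a * x = x * a := by
    intro x hx hx4 a ha
    by_cases hd2 : 2 ≤ d
    · apply S1 x hx _ a ha
      have : 2 ^ d = 4 * 2 ^ (d - 2) := by
        have : d = 2 + (d - 2) := by omega
        conv_lhs => rw [this, pow_add]
        norm_num
      rw [this, pow_mul, hx4, one_pow]
    · have hd' : d = 1 := by omega
      subst hd'
      by_cases hx2 : x ^ 2 = 1
      · exact S1 x hx (by simpa using hx2) a ha
      · obtain ⟨j, hj, hjx⟩ : ∃ j ≤ 2, orderOf x = 2 ^ j :=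
          (Nat.dvd_prime_pow Nat.prime_two).1 (orderOf_dvd_of_pow_eq_one (n := 2 ^ 2) (by simpa using hx4))
        have hj2 : j = 2 := by
          by_contra hne
          have : j = 0 ∨ j = 1 := by omega
          rcases this with rfl | rfl
          · simp at hjx
            rw [hjx] at hx2; simp at hx2
          · apply hx2
            have := pow_orderOf_eq_one x
            rw [hjx] at this; simpa using this
        subst hj2
        have hcz : Nat.card (Subgroup.zpowers x) = 4 := by rw [Nat.card_zpowers, hjx]; norm_num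
        have hzP : Subgroup.zpowers x ≤ P := by rwa [Subgroup.zpowers_le]
        have hAz := hinv (Subgroup.zpowers x) hzP (Or.inr ⟨by simpa using hd, hcz⟩)
        have hconj : a * x * a⁻¹ ∈ Subgroup.zpowers x :=
          (Subgroup.mem_normalizer_iff.1 (hAz ha) x).1 (Subgroup.mem_zpowers x)
        exact commute_of_conj_mem_zpowers x a hjx (hAodd a ha) hconj
  -- minimal counterexample
  by_contra hne
  let S : Set (Subgroup X) := {Q | Q ≤ P ∧ A ≤ Subgroup.normalizer (Q : Set X) ∧
    ¬ A ≤ Subgroup.centralizer (Q : Set X)}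
  have hSne : S.Nonempty := ⟨P, le_rfl, hAP, hne⟩
  obtain ⟨Q, ⟨hQP, hAQ, hQne⟩, hQmin⟩ := wellFounded_lt.has_min S hSne
  have hnt : ⁅Q, A⁆ ≠ ⊥ := by
    intro h
    rw [Subgroup.commutator_eq_bot_iff_le_centralizer] at h
    exact hQne (Subgroup.le_centralizer_iff.1 h)
  have hAp : (Nat.card A).Coprime 2 := Nat.coprime_two_right.2 hA
  have hmin : ∀ U : Subgroup X, U < Q → A ≤ Subgroup.normalizer (U : Set X) → ⁅U, A⁆ = ⊥ := by
    intro U hUQ hAU
    by_contra hU
    apply hQmin U ⟨hUQ.le.trans hQP, hAU, ?_⟩ hUQ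
    intro hc
    apply hU
    rw [Subgroup.commutator_eq_bot_iff_le_centralizer]
    exact Subgroup.le_centralizer_iff.1 hc
  obtain ⟨_, hcase, _, _⟩ := hall_higman_reduction A A Q (hP.to_le hQP) hAQ le_rfl
    Subgroup.le_normalizer hAp hnt hmin
  have h4 : ∀ x ∈ Q, x ^ 4 = 1 := by
    intro x hx
    rcases hcase with hel | hsp
    · have := hel.2 x hx
      have e : x ^ 4 = (x ^ 2) ^ 2 := by rw [← pow_mul]
      rw [e, this, one_pow]
    · have := special_two_pow_four hsp ⟨x, hx⟩
      have := congrArg Subtype.val this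
      simpa using this
  apply hQne
  intro a ha
  rw [Subgroup.mem_centralizer_iff]
  intro x hx
  exact (S2 x (hQP hx) (h4 x hx) a ha).symm

end Cfsg.Agent.helper19
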