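import Mathlib
import Cfsg.Agent.Lib_lead_Coprime
import Cfsg.Agent.Lib_helper23_PSolv
import Cfsg.Agent.Lib_helper23_Hall
import Cfsg.Agent.Lib_helper19_CP

set_option autoImplicit false
set_option linter.style.haveILetI false
set_option linter.unusedSectionVars false

namespace Cfsg.Agent.helper19

open Cfsg.Agent.helper7 Cfsg.Agent.helper23 Cfsg.Agent.lead

universe u

/-- `H` is a `p`-complement. -/
def PComp {G : Type*} [Group G] (p : ℕ) (H : Subgroup G) : Prop :=
  (Nat.card H).Coprime p ∧ ∃ n : ℕ, H.index = p ^ n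

section
variable {G : Type*} [Group G]

theorem exists_normal_of_psreach {p : ℕ} {N : Subgroup G} (h : PSReach p N) (hN : N ≠ ⊥) :
    ∃ K : Subgroup G, K ≠ ⊥ ∧ K.Normal ∧
      ((∃ m : ℕ, Nat.card K = p ^ m) ∨ (Nat.card K).Coprime p) := by
  induction h with
  | bot => exact absurd rfl hN
  | step K L hK hKL hn hfac ih =>
    by_cases hKb : K = ⊥
    · refine ⟨L, hN, hn, ?_⟩
      rw [hKb, Subgroup.relIndex_bot_left] at hfac
      exact hfac
    · exact ih hKb

variable [Finite G] {p : ℕ} [hp : Fact p.Prime]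

theorem PComp.map {G' : Type*} [Group G'] (f : G →* G') (hf : Function.Surjective f)
    {H : Subgroup G} (h : PComp p H) : PComp p (H.map f) := by
  refine ⟨Nat.Coprime.coprime_dvd_left (Subgroup.card_map_dvd H f) h.1, ?_⟩
  obtain ⟨n, hn⟩ := h.2
  have := Subgroup.index_map_dvd H hf
  rw [hn] at this
  obtain ⟨m, _, hm⟩ := (Nat.dvd_prime_pow hp.out).1 this
  exact ⟨m, hm⟩

theorem PComp.card_eq {H₁ H₂ : Subgroup G} (h₁ : PComp p H₁) (h₂ : PComp p H₂) :
    Nat.card H₁ = Nat.card H₂ := by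
  obtain ⟨a, ha⟩ := h₁.2
  obtain ⟨b, hb⟩ := h₂.2
  have e1 := Subgroup.card_mul_index H₁
  have e2 := Subgroup.card_mul_index H₂
  rw [ha] at e1
  rw [hb] at e2
  have e : Nat.card H₁ * p ^ a = Nat.card H₂ * p ^ b := e1.trans e2.symm
  apply Nat.dvd_antisymm
  · have : Nat.card H₁ ∣ Nat.card H₂ * p ^ b := Dvd.intro _ e
    exact (Nat.Coprime.pow_right b h₁.1).dvd_of_dvd_mul_right this
  · have : Nat.card H₂ ∣ Nat.card H₁ * p ^ a := Dvd.intro _ e.symm
    exact (Nat.Coprime.pow_right a h₂.1).dvd_of_dvd_mul_right this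

/-- A normal `p'`-subgroup lies in every `p`-complement. -/
theorem le_pcomp_of_normal_coprime (K : Subgroup G) [K.Normal] (hK : (Nat.card K).Coprime p)
    {H : Subgroup G} (h : PComp p H) : K ≤ H := by
  have h1 := card_sup_mul_card_inf H K
  have h2 : (Nat.card ↥(H ⊔ K)).Coprime p := by
    have : Nat.card ↥(H ⊔ K) ∣ Nat.card H * Nat.card K := Dvd.intro _ h1
    exact Nat.Coprime.coprime_dvd_left this (Nat.Coprime.mul_left h.1 hK)
  obtain ⟨n, hn⟩ := h.2
  have h3 : H.relIndex (H ⊔ K) ∣ p ^ n := by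
    rw [← hn]
    exact Subgroup.relIndex_dvd_index_of_le le_sup_left
  have h4 : H.relIndex (H ⊔ K) ∣ Nat.card ↥(H ⊔ K) := Subgroup.relIndex_dvd_card _ _
  have h5 : H.relIndex (H ⊔ K) = 1 :=
    Nat.eq_one_of_dvd_coprimes (Nat.Coprime.pow_right n h2) h4 h3
  exact le_sup_right.trans (Subgroup.relIndex_eq_one.1 h5)

theorem map_conj_le_of_quotient (K : Subgroup G) [K.Normal] (U H : Subgroup G) (g : G)
    (h : (U.map (QuotientGroup.mk' K)).map (MulAut.conj (QuotientGroup.mk' K g)).toMonoidHom ≤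
      H.map (QuotientGroup.mk' K)) :
    U.map (MulAut.conj g).toMonoidHom ≤ H ⊔ K := by
  rintro x ⟨u, hu, rfl⟩
  have h1 : (QuotientGroup.mk' K) ((MulAut.conj g).toMonoidHom u) ∈ H.map (QuotientGroup.mk' K) := by
    apply h
    refine ⟨QuotientGroup.mk' K u, ⟨u, hu, rfl⟩, ?_⟩
    simp
  have h2 : (MulAut.conj g).toMonoidHom u ∈ (H.map (QuotientGroup.mk' K)).comap (QuotientGroup.mk' K) :=
    h1
  rw [Subgroup.comap_map_eq, QuotientGroup.ker_mk'] at h2
  exact h2

end

end Cfsg.Agent.helper19
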