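import Mathlib
import Cfsg.Agent.Lib_helper19_PComp0

set_option autoImplicit false
set_option linter.style.haveILetI false
set_option linter.unusedSectionVars false

namespace Cfsg.Agent.helper19

open Cfsg.Agent.helper7 Cfsg.Agent.helper23 Cfsg.Agent.lead

universe u

theorem pcomp_main (p : ℕ) [hp : Fact p.Prime] : ∀ n : ℕ, ∀ (G : Type u) [Group G] [Finite G],
    Nat.card G = n → Cfsg.IsPSolvable p G →
    (∃ H : Subgroup G, PComp p H) ∧
    (∀ H U : Subgroup G, PComp p H → (Nat.card U).Coprime p →
      ∃ g : G, U.map (MulAut.conj g).toMonoidHom ≤ H) := by
  intro n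
  induction n using Nat.strong_induction_on with
  | _ n ih =>
    intro G _ _ hn hG
    by_cases htriv : Nat.card G = 1
    · haveI : Subsingleton G := (Nat.card_eq_one_iff_unique.1 htriv).1
      refine ⟨⟨⊤, ?_, 0, ?_⟩, ?_⟩
      · rw [Subgroup.card_top, htriv]; exact Nat.coprime_one_left p
      · rw [Subgroup.index_top, pow_zero]
      · intro H U _ _
        refine ⟨1, ?_⟩
        intro x _
        rw [Subsingleton.elim x 1]; exact H.one_mem
    · have hps := (isPSolvable_iff_psreach).1 hG
      have htop : (⊤ : Subgroup G) ≠ ⊥ := by
        intro h
        apply htriv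
        rw [← Subgroup.card_top, h, Subgroup.card_bot]
      obtain ⟨K, hKne, hKn, hKcard⟩ := exists_normal_of_psreach hps htop
      haveI := hKn
      have hKgt : 1 < Nat.card K := by
        rcases Nat.lt_or_ge 1 (Nat.card K) with h | h
        · exact h
        · exfalso
          have : Nat.card K = 1 := le_antisymm h Nat.card_pos
          exact hKne (Subgroup.card_eq_one.1 this)
      have hQcard : Nat.card (G ⧸ K) < n := by
        have h1 := Subgroup.card_mul_index K
        rw [Subgroup.index_eq_card] at h1
        have hpos : 0 < Nat.card (G ⧸ K) := Nat.card_pos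
        rw [← hn, ← h1]
        nlinarith
      have hsurj := QuotientGroup.mk'_surjective K
      have hQsolv : Cfsg.IsPSolvable p (G ⧸ K) :=
        isPSolvable_of_surjective hp.out (QuotientGroup.mk' K) hsurj hG
      obtain ⟨⟨Hq, hHq⟩, hDq⟩ := ih _ hQcard (G ⧸ K) rfl hQsolv
      have hker : Nat.card (QuotientGroup.mk' K).ker = Nat.card K := by
        rw [QuotientGroup.ker_mk']
      rcases hKcard with ⟨m, hm⟩ | hcop
      · -- K is a p-group
        have hKp : IsPGroup p K := IsPGroup.of_card hm
        haveI : Group.IsNilpotent K := hKp.isNilpotent
        have hKsolv : Group.IsSolvable K := inferInstance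
        constructor
        · -- existence
          set L : Subgroup G := Hq.comap (QuotientGroup.mk' K) with hL
          have hKL : K ≤ L := by
            have h0 : (QuotientGroup.mk' K).ker ≤ Hq.comap (QuotientGroup.mk' K) :=
              MonoidHom.ker_le_comap _ _
            rw [QuotientGroup.ker_mk'] at h0
            exact h0
          have hLcard : Nat.card L = Nat.card Hq * Nat.card K := by
            rw [hL, card_comap_of_surjective _ hsurj, hker]
          have hNcard : Nat.card (K.subgroupOf L) = Nat.card K :=
            Nat.card_congr (Subgroup.subgroupOfEquivOfLe hKL).toEquiv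
          have hNidx : (K.subgroupOf L).index = Nat.card Hq := by
            have h1 := Subgroup.card_mul_index (K.subgroupOf L)
            rw [hNcard, hLcard, mul_comm] at h1
            exact Nat.eq_of_mul_eq_mul_right Nat.card_pos h1
          have hNcop : Nat.Coprime (Nat.card (K.subgroupOf L)) (K.subgroupOf L).index := by
            rw [hNcard, hNidx, hm]
            exact Nat.Coprime.pow_left m hHq.1.symm
          obtain ⟨H', hH'⟩ := Subgroup.exists_right_complement'_of_coprime hNcop
          have hH'card : Nat.card H' = Nat.card Hq := by
            have h1 := hH'.card_mul_card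
            rw [hNcard, hLcard, mul_comm] at h1
            exact Nat.eq_of_mul_eq_mul_right Nat.card_pos h1
          have hHcard : Nat.card (H'.map L.subtype) = Nat.card Hq := by
            rw [← hH'card]
            exact (Nat.card_congr (H'.equivMapOfInjective L.subtype L.subtype_injective).toEquiv).symm
          refine ⟨H'.map L.subtype, ?_, ?_⟩
          · rw [hHcard]; exact hHq.1
          · obtain ⟨a, ha⟩ := hHq.2
            refine ⟨m + a, ?_⟩
            have h1 := Subgroup.card_mul_index (H'.map L.subtype)
            have h2 := Subgroup.card_mul_index L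
            have h3 : L.index = p ^ a := by
              rw [hL, Subgroup.index_comap_of_surjective _ hsurj, ha]
            rw [hHcard] at h1
            rw [hLcard, h3, hm] at h2
            have h4 : Nat.card Hq * (H'.map L.subtype).index = Nat.card Hq * p ^ (m + a) := by
              rw [h1, ← h2, pow_add]; ring
            exact Nat.eq_of_mul_eq_mul_left Nat.card_pos h4
        · -- conjugacy
          intro H U hH hU
          have hH' : PComp p (H.map (QuotientGroup.mk' K)) := hH.map _ hsurj
          have hU' : (Nat.card (U.map (QuotientGroup.mk' K))).Coprime p :=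
            Nat.Coprime.coprime_dvd_left (Subgroup.card_map_dvd U _) hU
          obtain ⟨gq, hgq⟩ := hDq _ _ hH' hU'
          obtain ⟨g, rfl⟩ := hsurj gq
          have hU'le := map_conj_le_of_quotient K U H g hgq
          set U' : Subgroup G := cj g U with hU'def
          have hU'card : Nat.card U' = Nat.card U := card_cj g U
          have hU'cop : (Nat.card U').Coprime p := hU'card ▸ hU
          set V : Subgroup G := (U' ⊔ K) ⊓ H with hV
          have hVH : V ≤ H := inf_le_right
          have hVcop : (Nat.card V).Coprime p :=
            Nat.Coprime.coprime_dvd_left (Subgroup.card_dvd_of_le hVH) hH.1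
          have hB : U' ≤ K ⊔ V := by
            intro x hx
            obtain ⟨h, hh, k, hk, rfl⟩ := Subgroup.mem_sup_of_normal_right.1 (hU'le hx)
            have hhV : h ∈ V := by
              refine Subgroup.mem_inf.2 ⟨?_, hh⟩
              have : h = (h * k) * k⁻¹ := by group
              rw [this]
              exact Subgroup.mul_mem _ (le_sup_left (a := U') hx)
                (le_sup_right (a := U') (K.inv_mem hk))
            exact Subgroup.mul_mem _ (le_sup_right (a := K) hhV) (le_sup_left (a := K) hk)
          have hsupeq : V ⊔ K = U' ⊔ K := by
            apply le_antisymm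
            · exact sup_le inf_le_left le_sup_right
            · exact sup_le (hB.trans (le_of_eq (sup_comm K V))) le_sup_right
          have hKU' : K ⊓ U' = ⊥ := disjoint_iff.1 (Subgroup.disjoint_of_coprime_natCard (by
            rw [hm]; exact Nat.Coprime.pow_left m hU'cop.symm))
          have hKV : K ⊓ V = ⊥ := disjoint_iff.1 (Subgroup.disjoint_of_coprime_natCard (by
            rw [hm]; exact Nat.Coprime.pow_left m hVcop.symm))
          have e1 := card_sup_mul_card_inf U' K
          have e2 := card_sup_mul_card_inf V K
          rw [hKU', Subgroup.card_bot, mul_one] at e1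
          rw [hKV, Subgroup.card_bot, mul_one, hsupeq, e1] at e2
          have hcardUV : Nat.card U' = Nat.card V := Nat.eq_of_mul_eq_mul_right Nat.card_pos e2
          have hVK : V ≤ Subgroup.normalizer (K : Set G) := by
            rw [Subgroup.normalizer_eq_top]; exact le_top
          have hcopVK : (Nat.card V).Coprime (Nat.card K) := by
            rw [hm]; exact Nat.Coprime.pow_right m hVcop
          obtain ⟨d, _, hd⟩ := sz_conj_semidirect V K hVK hcopVK (Or.inr hKsolv) U' hB hcardUV
          refine ⟨d * g, ?_⟩
          have : U.map (MulAut.conj (d * g)).toMonoidHom = cj d (cj g U) := (cj_cj d g U).symm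
          rw [this, ← hU'def, hd]
          exact hVH
      · -- K is a p'-group
        constructor
        · refine ⟨Hq.comap (QuotientGroup.mk' K), ?_, ?_⟩
          · rw [card_comap_of_surjective _ hsurj, hker]
            exact Nat.Coprime.mul_left hHq.1 hcop
          · obtain ⟨a, ha⟩ := hHq.2
            exact ⟨a, by rw [Subgroup.index_comap_of_surjective _ hsurj, ha]⟩
        · intro H U hH hU
          have hKH : K ≤ H := le_pcomp_of_normal_coprime K hcop hH
          have hH' : PComp p (H.map (QuotientGroup.mk' K)) := hH.map _ hsurj
          have hU' : (Nat.card (U.map (QuotientGroup.mk' K))).Coprime p :=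
            Nat.Coprime.coprime_dvd_left (Subgroup.card_map_dvd U _) hU
          obtain ⟨gq, hgq⟩ := hDq _ _ hH' hU'
          obtain ⟨g, rfl⟩ := hsurj gq
          have := map_conj_le_of_quotient K U H g hgq
          rw [sup_eq_left.2 hKH] at this
          exact ⟨g, this⟩

end Cfsg.Agent.helper19
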