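import Mathlib
import Cfsg.Agent.Lib_helper19_PLen3

set_option autoImplicit false
set_option linter.style.haveILetI false

namespace Cfsg.Agent.helper19

open Cfsg Cfsg.Agent.helper23

universe u

theorem sum_update_zero {r : ℕ} (l : Fin r → ℕ) (i : Fin r) :
    ∑ j, Function.update l i 0 j + l i = ∑ j, l j := by
  rw [← Finset.add_sum_erase Finset.univ _ (Finset.mem_univ i),
    ← Finset.add_sum_erase Finset.univ l (Finset.mem_univ i)]
  have e : ∑ j ∈ Finset.univ.erase i, Function.update l i 0 j =
      ∑ j ∈ Finset.univ.erase i, l j := by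
    apply Finset.sum_congr rfl
    intro j hj
    rw [Function.update_of_ne (Finset.ne_of_mem_erase hj)]
  rw [e, Function.update_self]
  omega

theorem prod_update_pred {r : ℕ} (l : Fin r → ℕ) (i : Fin r) (h : 1 ≤ l i) :
    ∏ j, (1 + Function.update l i 0 j) + ∏ j, (1 + Function.update l i (l i - 1) j) =
      ∏ j, (1 + l j) := by
  rw [← Finset.mul_prod_erase Finset.univ (fun j => 1 + Function.update l i 0 j) (Finset.mem_univ i),
    ← Finset.mul_prod_erase Finset.univ (fun j => 1 + Function.update l i (l i - 1) j)
      (Finset.mem_univ i),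
    ← Finset.mul_prod_erase Finset.univ (fun j => 1 + l j) (Finset.mem_univ i)]
  have e1 : ∏ j ∈ Finset.univ.erase i, (1 + Function.update l i 0 j) =
      ∏ j ∈ Finset.univ.erase i, (1 + l j) := by
    apply Finset.prod_congr rfl
    intro j hj
    rw [Function.update_of_ne (Finset.ne_of_mem_erase hj)]
  have e2 : ∏ j ∈ Finset.univ.erase i, (1 + Function.update l i (l i - 1) j) =
      ∏ j ∈ Finset.univ.erase i, (1 + l j) := by
    apply Finset.prod_congr rfl
    intro j hj
    rw [Function.update_of_ne (Finset.ne_of_mem_erase hj)]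
  rw [e1, e2]
  simp only [Function.update_self]
  have e3 : 1 + (l i - 1) = l i := by omega
  rw [e3]
  ring

theorem plength_bound (N : ℕ) : ∀ (G : Type u) [Group G] [Finite G] (p : ℕ) [Fact p.Prime]
    (r : ℕ) (q : Fin r → ℕ) (_ : ∀ i, (q i).Prime ∧ q i ≠ p)
    (_ : ∀ s : ℕ, s.Prime → s ∣ Nat.card G → s ≠ p → ∃ i, q i = s) (l : Fin r → ℕ)
    (_ : ∀ i, Cfsg.PLengthLE (q i) (l i) G), ∑ i, l i = N →
    Cfsg.PLengthLE p (∏ i, (1 + l i)) G := by
  induction N using Nat.strong_induction_on with
  | _ N ih =>
  intro G _ _ p hpf r q hq hcover l hl hsum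
  by_cases hex : ∃ i, q i ∣ Nat.card G
  · obtain ⟨i, hdvd⟩ := hex
    haveI : Fact (q i).Prime := ⟨(hq i).1⟩
    have hli : 1 ≤ l i := by
      by_contra h0
      have h0' : l i = 0 := by omega
      have h1 := hl i
      rw [h0'] at h1
      have h2 := coprime_card_of_pLengthLE_zero h1
      exact (Nat.Prime.coprime_iff_not_dvd (hq i).1).1 h2.symm hdvd
    have hKW : ups (q i) G 1 ≤ ups (q i) G 2 := ups_le_succ _ 1
    have hcop : ((ups (q i) G 1).relIndex (ups (q i) G 2)).Coprime p := by
      obtain ⟨k, hk⟩ := relIndex_ups_odd (G := G) (q i) (n := 1) (by decide)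
      rw [hk]
      exact Nat.Coprime.pow_left k ((Nat.coprime_primes (hq i).1 hpf.out).2 (hq i).2)
    -- the normal q'-subgroup K
    have ha : Cfsg.PLengthLE p (∏ j, (1 + Function.update l i 0 j)) ↥(ups (q i) G 1) := by
      have hlt : ∑ j, Function.update l i 0 j < N := by
        have := sum_update_zero l i
        omega
      apply ih _ hlt ↥(ups (q i) G 1) p r q hq ?_ (Function.update l i 0) ?_ rfl
      · intro s hs hsd hne
        exact hcover s hs (hsd.trans (Subgroup.card_subgroup_dvd_card _)) hne
      · intro j
        by_cases hji : j = i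
        · subst hji
          rw [Function.update_self]
          exact pLengthLE_zero_of_coprime (coprime_card_ups_one (G := G) (q j))
        · rw [Function.update_of_ne hji]
          haveI : Fact (q j).Prime := ⟨(hq j).1⟩
          exact pLengthLE_subgroup _ (hl j)
    -- the quotient G / W
    have hb : Cfsg.PLengthLE p (∏ j, (1 + Function.update l i (l i - 1) j))
        (G ⧸ ups (q i) G 2) := by
      have hf : Function.Surjective (QuotientGroup.mk' (ups (q i) G 2)) :=
        QuotientGroup.mk'_surjective _
      have hlt : ∑ j, Function.update l i (l i - 1) j < N := by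
        have := sum_update_pred l i hli
        omega
      apply ih _ hlt (G ⧸ ups (q i) G 2) p r q hq ?_ (Function.update l i (l i - 1)) ?_ rfl
      · intro s hs hsd hne
        apply hcover s hs _ hne
        rw [← Subgroup.index_eq_card] at hsd
        exact hsd.trans (Subgroup.index_dvd_card _)
      · intro j
        by_cases hji : j = i
        · subst hji
          rw [Function.update_self]
          apply pLengthLE_quotient_ups_two
          have : l j - 1 + 1 = l j := by omega
          rw [this]; exact hl j
        · rw [Function.update_of_ne hji]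
          haveI : Fact (q j).Prime := ⟨(hq j).1⟩
          exact pLengthLE_of_surjective _ hf (hl j)
    have := pLengthLE_add (ups (q i) G 1) (ups (q i) G 2) hKW hcop ha hb
    rwa [prod_update_pred l i hli] at this
  · push Not at hex
    have hG : IsPGroup p G := by
      apply IsPGroup.of_card (n := (Nat.card G).primeFactorsList.length)
      apply Nat.eq_prime_pow_of_unique_prime_dvd Nat.card_pos.ne'
      intro s hs hsd
      by_contra hne
      obtain ⟨i, rfl⟩ := hcover s hs hsd hne
      exact hex i hsd
    have hpos : 1 ≤ ∏ i, (1 + l i) := Finset.prod_pos (fun i _ => Nat.add_pos_left Nat.one_pos _)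
    exact pLengthLE_mono hpos (pLengthLE_one_of_isPGroup hG)

end Cfsg.Agent.helper19
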