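import Mathlib

set_option autoImplicit false
open scoped IsMulCommutative

namespace Cfsg.Agent.helper19

variable {G : Type*} [Group G]

/-- Conjugation by `a ∈ A ≤ N(V)` as an endomorphism of `V`. -/
def conjV (A V : Subgroup G) (hAV : A ≤ Subgroup.normalizer (V : Set G)) (a : A) : ↥V →* ↥V where
  toFun v := ⟨(a : G) * v * (a : G)⁻¹, ((Subgroup.mem_normalizer_iff.1 (hAV a.2)) v).1 v.2⟩
  map_one' := by
    apply Subtype.ext
    simp
  map_mul' v w := by
    apply Subtype.ext
    simp only [Subgroup.coe_mul]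
    group

theorem conjV_coe (A V : Subgroup G) (hAV : A ≤ Subgroup.normalizer (V : Set G)) (a : A) (v : V) :
    ((conjV A V hAV a v : V) : G) = (a : G) * v * (a : G)⁻¹ := rfl

theorem conjV_mul (A V : Subgroup G) (hAV : A ≤ Subgroup.normalizer (V : Set G)) (a b : A) (v : V) :
    conjV A V hAV (a * b) v = conjV A V hAV a (conjV A V hAV b v) := by
  apply Subtype.ext
  simp only [conjV_coe, Subgroup.coe_mul]
  group

theorem conjV_one (A V : Subgroup G) (hAV : A ≤ Subgroup.normalizer (V : Set G)) (v : V) :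
    conjV A V hAV 1 v = v := by
  apply Subtype.ext
  simp [conjV_coe]

/-- Partition lemma: if a family of subgroups partitions `A` and `|𝒜| - 1` is prime to `|V|`,
some member has a nontrivial fixed point on the abelian group `V`. -/
theorem exists_fixed_of_partition [Finite G] (A V : Subgroup G) (hVab : IsMulCommutative V)
    (hV : V ≠ ⊥) (hAV : A ≤ Subgroup.normalizer (V : Set G)) (𝒜 : Finset (Subgroup G))
    (hne : 𝒜.Nonempty) (hprop : ∀ B ∈ 𝒜, B ≤ A)
    (hpart : ∀ a ∈ A, a ≠ 1 → ∃! B, B ∈ 𝒜 ∧ a ∈ B)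
    (hk : (𝒜.card - 1).Coprime (Nat.card V)) :
    ∃ B ∈ 𝒜, V ⊓ Subgroup.centralizer (B : Set G) ≠ ⊥ := by
  classical
  by_contra hcon
  push Not at hcon
  have := Fintype.ofFinite A
  set c := conjV A V hAV with hc
  -- the norm over the elements of `A` lying in `S`
  let T : Subgroup G → V → V := fun S v =>
    ∏ a ∈ Finset.univ.filter (fun a : A => (a : G) ∈ S), c a v
  have hinv : ∀ (S : Subgroup G) (v : V) (b : A), (b : G) ∈ S → c b (T S v) = T S v := by
    intro S v b hb
    show c b (∏ a ∈ Finset.univ.filter (fun a : A => (a : G) ∈ S), c a v) = _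
    rw [map_prod]
    apply Finset.prod_bij (fun a _ => b * a)
    · intro a ha
      rw [Finset.mem_filter] at ha ⊢
      exact ⟨Finset.mem_univ _, S.mul_mem hb ha.2⟩
    · intro a₁ _ a₂ _ h
      exact mul_left_cancel h
    · intro a ha
      rw [Finset.mem_filter] at ha
      refine ⟨b⁻¹ * a, ?_, by group⟩
      rw [Finset.mem_filter]
      exact ⟨Finset.mem_univ _, S.mul_mem (S.inv_mem hb) ha.2⟩
    · intro a _
      rw [conjV_mul]
  have hfix : ∀ (S B : Subgroup G) (v : V), B ≤ S → S ≤ A → B ∈ 𝒜 → T S v = 1 := by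
    intro S B v hBS hSA hB
    have h1 : ((T S v : V) : G) ∈ V ⊓ Subgroup.centralizer (B : Set G) := by
      refine Subgroup.mem_inf.2 ⟨(T S v).2, ?_⟩
      rw [Subgroup.mem_centralizer_iff]
      intro b hb
      have h2 := hinv S v ⟨b, hSA (hBS hb)⟩ (hBS hb)
      have h3 := congrArg Subtype.val h2
      rw [conjV_coe] at h3
      simp only at h3
      calc b * ((T S v : V) : G) = b * ((T S v : V) : G) * b⁻¹ * b := by group
        _ = ((T S v : V) : G) * b := by rw [h3]
    rw [hcon B hB, Subgroup.mem_bot] at h1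
    exact Subtype.ext h1
  have hT1 : ∀ B ∈ 𝒜, ∀ v, T B v = 1 := fun B hB v => hfix B B v le_rfl (hprop B hB) hB
  obtain ⟨B₀, hB₀⟩ := hne
  have hTA : ∀ v, T A v = 1 := fun v => hfix A B₀ v (hprop B₀ hB₀) le_rfl hB₀
  -- the counting identity
  have hcount : ∀ a : A, (𝒜.filter fun B => (a : G) ∈ B).card = if a = 1 then 𝒜.card else 1 := by
    intro a
    by_cases ha : a = 1
    · rw [if_pos ha, ha]
      congr 1
      apply Finset.filter_true_of_mem
      intro B _
      exact B.one_mem
    · rw [if_neg ha]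
      have ha' : (a : G) ≠ 1 := fun h => ha (Subtype.ext h)
      obtain ⟨B, ⟨hB1, hB2⟩, huniq⟩ := hpart a a.2 ha'
      rw [Finset.card_eq_one]
      refine ⟨B, ?_⟩
      ext B'
      rw [Finset.mem_filter, Finset.mem_singleton]
      constructor
      · intro h; exact huniq B' h
      · rintro rfl; exact ⟨hB1, hB2⟩
  have hid : ∀ v : V, ∏ B ∈ 𝒜, T B v = T A v * v ^ (𝒜.card - 1) := by
    intro v
    have h1 : ∏ B ∈ 𝒜, T B v = ∏ a : A, (c a v) ^ (𝒜.filter fun B => (a : G) ∈ B).card := by
      show ∏ B ∈ 𝒜, ∏ a ∈ Finset.univ.filter (fun a : A => (a : G) ∈ B), c a v = _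
      simp_rw [Finset.prod_filter]
      rw [Finset.prod_comm]
      apply Finset.prod_congr rfl
      intro a _
      rw [← Finset.prod_filter, Finset.prod_const]
    have h2 : T A v = ∏ a : A, c a v := by
      show ∏ a ∈ Finset.univ.filter (fun a : A => (a : G) ∈ A), c a v = _
      congr 1
      apply Finset.filter_true_of_mem
      intro a _; exact a.2
    rw [h1, h2]
    simp_rw [hcount]
    have h3 : ∀ a : A, (c a v) ^ (if a = 1 then 𝒜.card else 1) =
        c a v * (if a = 1 then v ^ (𝒜.card - 1) else 1) := by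
      intro a
      by_cases ha : a = 1
      · rw [if_pos ha, if_pos ha, ha, hc, conjV_one]
        have : 𝒜.card = (𝒜.card - 1) + 1 := by
          have : 0 < 𝒜.card := Finset.card_pos.2 ⟨B₀, hB₀⟩
          omega
        conv_lhs => rw [this, pow_succ']
      · rw [if_neg ha, if_neg ha, pow_one, mul_one]
    simp_rw [h3]
    rw [Finset.prod_mul_distrib, Finset.prod_ite_eq' Finset.univ (1 : A)]
    simp
  have hpow : ∀ v : V, v ^ (𝒜.card - 1) = 1 := by
    intro v
    have h1 := hid v
    rw [hTA v, one_mul] at h1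
    rw [← h1]
    apply Finset.prod_eq_one
    intro B hB
    exact hT1 B hB v
  apply hV
  rw [Subgroup.eq_bot_iff_forall]
  intro x hx
  have h1 : orderOf (⟨x, hx⟩ : V) ∣ 𝒜.card - 1 := orderOf_dvd_of_pow_eq_one (hpow ⟨x, hx⟩)
  have h2 : orderOf (⟨x, hx⟩ : V) ∣ Nat.card V := orderOf_dvd_natCard _
  have h3 : orderOf (⟨x, hx⟩ : V) = 1 := Nat.eq_one_of_dvd_coprimes hk h1 h2
  have h4 := orderOf_eq_one_iff.1 h3
  exact congrArg Subtype.val h4

end Cfsg.Agent.helper19
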