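import Mathlib
import Cfsg.Prelude.Def_Solvable
import Cfsg.Prelude.Def_LocalEven
import Cfsg.Agent.Lib_helper1_Core
import Cfsg.Agent.Lib_helper7_SN
import Cfsg.Agent.Lib_helper19_Basic
import Cfsg.Agent.Lib_helper19_HH0
import Cfsg.Agent.Lib_helper19_HallCop1
import Cfsg.Agent.Lib_helper19_Clifford
import Cfsg.Agent.Lib_helper19_MinNPC2

set_option autoImplicit false
set_option linter.style.haveILetI false

namespace Cfsg.Agent.helper19

open Cfsg.Agent.helper7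

variable {G : Type*} [Group G]

/-- `M` is a `p`-local subgroup. -/
def IsPLoc (p : ℕ) (M : Subgroup G) : Prop :=
  ∃ T : Subgroup G, IsPGroup p T ∧ T ≠ ⊥ ∧ M = Subgroup.normalizer (T : Set G)

/-- `M` is a maximal `p`-local subgroup. -/
def IsMaxPLoc (p : ℕ) (M : Subgroup G) : Prop :=
  IsPLoc p M ∧ ∀ L : Subgroup G, IsPLoc p L → M ≤ L → L = M

/-- `T` is a maximal `p`-subgroup of `M`. -/
def IsMaxPSub (p : ℕ) (T M : Subgroup G) : Prop :=
  T ≤ M ∧ IsPGroup p T ∧ ∀ R : Subgroup G, IsPGroup p R → T ≤ R → R ≤ M → R = T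

/-- The pair `(M₁, M₂)` is a primitive pair of characteristic `p`. -/
def IsPrimPairCharP (p : ℕ) (M₁ M₂ : Subgroup G) : Prop :=
  M₁ ≠ M₂ ∧ (∀ A : Subgroup G, A ≠ ⊥ → A ≤ M₁ ⊓ M₂ →
    (M₁ ≤ Subgroup.normalizer (A : Set G) → M₂ ⊓ Subgroup.normalizer (A : Set G) = M₁ ⊓ M₂) ∧
    (M₂ ≤ Subgroup.normalizer (A : Set G) → M₁ ⊓ Subgroup.normalizer (A : Set G) = M₁ ⊓ M₂)) ∧
  Subgroup.centralizer (Cfsg.pCore p ↥M₁ : Set ↥M₁) ≤ Cfsg.pCore p ↥M₁ ∧
  Subgroup.centralizer (Cfsg.pCore p ↥M₂ : Set ↥M₂) ≤ Cfsg.pCore p ↥M₂ ∧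
  (Cfsg.pCore p ↥M₁).map M₁.subtype ⊔ (Cfsg.pCore p ↥M₂).map M₂.subtype ≤ M₁ ⊓ M₂

theorem exists_maxPLoc_ge [Finite G] {p : ℕ} {L : Subgroup G} (hL : IsPLoc p L) :
    ∃ M : Subgroup G, IsMaxPLoc p M ∧ L ≤ M := by
  obtain ⟨M, ⟨hM, hLM⟩, hmax⟩ := Set.exists_max_image {M : Subgroup G | IsPLoc p M ∧ L ≤ M}
    (fun M => Nat.card ↥M) (Set.toFinite _) ⟨L, hL, le_rfl⟩
  refine ⟨M, ⟨hM, fun K hK hMK => ?_⟩, hLM⟩
  have := hmax K ⟨hK, hLM.trans hMK⟩
  exact (Subgroup.eq_of_le_of_card_ge hMK this).symm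

theorem IsPLoc.conj {p : ℕ} {M : Subgroup G} (h : IsPLoc p M) (g : G) : IsPLoc p (cj g M) := by
  obtain ⟨T, hT, hT1, rfl⟩ := h
  refine ⟨cj g T, hT.map _, ?_, cj_normalizer g T⟩
  rwa [Ne, cj_eq_bot_iff]

theorem IsMaxPLoc.conj {p : ℕ} {M : Subgroup G} (h : IsMaxPLoc p M) (g : G) :
    IsMaxPLoc p (cj g M) := by
  refine ⟨h.1.conj g, fun L hL hML => ?_⟩
  have h1 : M ≤ cj g⁻¹ L := cj_le_iff.1 hML
  have h2 := h.2 _ (hL.conj g⁻¹) h1
  rw [← h2, cj_cj_inv]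

theorem IsMaxPSub.conj {p : ℕ} {T M : Subgroup G} (h : IsMaxPSub p T M) (g : G) :
    IsMaxPSub p (cj g T) (cj g M) := by
  refine ⟨cj_mono h.1, h.2.1.map _, fun R hR hTR hRM => ?_⟩
  have h1 : T ≤ cj g⁻¹ R := cj_le_iff.1 hTR
  have h2 : cj g⁻¹ R ≤ M := by
    have := cj_mono (g := g⁻¹) hRM
    rwa [cj_inv_cj] at this
  have h3 := h.2.2 _ (hR.map _) h1 h2
  rw [← h3, cj_cj_inv]

theorem pCoreMap_isPGroup (p : ℕ) (M : Subgroup G) :
    IsPGroup p ↥((Cfsg.pCore p ↥M).map M.subtype) :=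
  (Cfsg.Agent.helper1.pCore_isPGroup p).map _

theorem le_normalizer_pCoreMap (p : ℕ) (M : Subgroup G) :
    Subgroup.normalizer (M : Set G) ≤
      Subgroup.normalizer (((Cfsg.pCore p ↥M).map M.subtype : Subgroup G) : Set G) := by
  haveI := pCore_char (H := ↥M) p
  exact le_normalizer_map_characteristic M (Cfsg.pCore p ↥M)

theorem le_pCoreMap {p : ℕ} {M T : Subgroup G} (hT : IsPGroup p T) (hTM : T ≤ M)
    (hMT : M ≤ Subgroup.normalizer (T : Set G)) : T ≤ (Cfsg.pCore p ↥M).map M.subtype := by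
  have hn : (T.subgroupOf M).Normal := (Subgroup.normal_subgroupOf_iff_le_normalizer hTM).2 hMT
  have hp : IsPGroup p ↥(T.subgroupOf M) := hT.comap_subtype
  have := Cfsg.Agent.helper1.le_pCore hn hp
  intro t ht
  exact ⟨⟨t, hTM ht⟩, this (Subgroup.mem_subgroupOf.2 ht), rfl⟩

theorem IsPLoc.pCoreMap_ne_bot {p : ℕ} {M : Subgroup G} (h : IsPLoc p M) :
    (Cfsg.pCore p ↥M).map M.subtype ≠ ⊥ := by
  obtain ⟨T, hT, hT1, rfl⟩ := h
  have hTQ := le_pCoreMap hT (Subgroup.le_normalizer (H := T)) le_rfl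
  intro h0
  apply hT1
  rw [eq_bot_iff, ← h0]
  exact hTQ

theorem IsMaxPLoc.normalizer_le {p : ℕ} {M : Subgroup G} (h : IsMaxPLoc p M) :
    Subgroup.normalizer (M : Set G) ≤ M := by
  have hL : IsPLoc p (Subgroup.normalizer
      (((Cfsg.pCore p ↥M).map M.subtype : Subgroup G) : Set G)) :=
    ⟨_, pCoreMap_isPGroup p M, h.1.pCoreMap_ne_bot, rfl⟩
  have h1 : M ≤ Subgroup.normalizer (((Cfsg.pCore p ↥M).map M.subtype : Subgroup G) : Set G) :=
    Subgroup.le_normalizer.trans (le_normalizer_pCoreMap p M)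
  have h2 := h.2 _ hL h1
  exact (le_normalizer_pCoreMap p M).trans h2.le

theorem IsMaxPLoc.cj_ne {p : ℕ} {M : Subgroup G} (h : IsMaxPLoc p M) {x : G} (hx : x ∉ M) :
    cj x M ≠ M := by
  intro he
  exact hx (h.normalizer_le (mem_normalizer_of_cj_eq he))

/-- In a maximal `p`-local subgroup `M` of characteristic `p`, every nontrivial normal subgroup
has normalizer `M`. -/
theorem normalizer_eq_of_normal_in_maxPLoc {p : ℕ} {M A : Subgroup G}
    (hM : IsMaxPLoc p M)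
    (hC : Subgroup.centralizer (Cfsg.pCore p ↥M : Set ↥M) ≤ Cfsg.pCore p ↥M)
    (hA1 : A ≠ ⊥) (hAM : A ≤ M) (hMA : M ≤ Subgroup.normalizer (A : Set G)) :
    Subgroup.normalizer (A : Set G) = M := by
  have hMQ : M ≤ Subgroup.normalizer (((Cfsg.pCore p ↥M).map M.subtype : Subgroup G) : Set G) :=
    Subgroup.le_normalizer.trans (le_normalizer_pCoreMap p M)
  have hAQ : A ⊓ (Cfsg.pCore p ↥M).map M.subtype ≠ ⊥ := by
    intro h0
    have hcomm := commute_of_mutual_normalize (A := A) (B := (Cfsg.pCore p ↥M).map M.subtype)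
      (hAM.trans hMQ) ((Subgroup.map_subtype_le _).trans hMA) h0
    apply hA1
    rw [eq_bot_iff, ← h0]
    apply le_inf le_rfl
    intro a ha
    have hcen : (⟨a, hAM ha⟩ : ↥M) ∈ Subgroup.centralizer (Cfsg.pCore p ↥M : Set ↥M) := by
      rw [Subgroup.mem_centralizer_iff]
      intro q hq
      apply Subtype.ext
      show (q : G) * a = a * q
      exact (hcomm a ha q ⟨q, hq, rfl⟩).symm
    exact ⟨⟨a, hAM ha⟩, hC hcen, rfl⟩
  have hAQR : A ⊓ (Cfsg.pCore p ↥M).map M.subtype ≤ (Cfsg.pCore p ↥A).map A.subtype :=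
    le_pCoreMap ((pCoreMap_isPGroup p M).to_le inf_le_right) inf_le_left
      (le_normalizer_inf Subgroup.le_normalizer (hAM.trans hMQ))
  have hR1 : (Cfsg.pCore p ↥A).map A.subtype ≠ ⊥ := by
    intro h0
    apply hAQ
    rw [eq_bot_iff, ← h0]; exact hAQR
  have hL : IsPLoc p (Subgroup.normalizer
      (((Cfsg.pCore p ↥A).map A.subtype : Subgroup G) : Set G)) :=
    ⟨_, pCoreMap_isPGroup p A, hR1, rfl⟩
  have h1 := le_normalizer_pCoreMap p A
  have h2 := hM.2 _ hL (hMA.trans h1)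
  exact le_antisymm (h2 ▸ h1) hMA

theorem IsMaxPSub.pCoreMap_le {p : ℕ} {T M : Subgroup G} (h : IsMaxPSub p T M) :
    (Cfsg.pCore p ↥M).map M.subtype ≤ T := by
  have hTQ : T ≤ Subgroup.normalizer (((Cfsg.pCore p ↥M).map M.subtype : Subgroup G) : Set G) :=
    h.1.trans (Subgroup.le_normalizer.trans (le_normalizer_pCoreMap p M))
  have hp : IsPGroup p ↥(T ⊔ (Cfsg.pCore p ↥M).map M.subtype) :=
    IsPGroup.to_sup_of_normal_right' h.2.1 (pCoreMap_isPGroup p M) hTQ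
  have := h.2.2 _ hp le_sup_left (sup_le h.1 (Subgroup.map_subtype_le _))
  rw [← this]; exact le_sup_right

theorem primPair_of_common_maxPSub {p : ℕ} {M₁ M₂ T : Subgroup G}
    (h₁ : IsMaxPLoc p M₁) (h₂ : IsMaxPLoc p M₂) (hne : M₁ ≠ M₂)
    (hC₁ : Subgroup.centralizer (Cfsg.pCore p ↥M₁ : Set ↥M₁) ≤ Cfsg.pCore p ↥M₁)
    (hC₂ : Subgroup.centralizer (Cfsg.pCore p ↥M₂ : Set ↥M₂) ≤ Cfsg.pCore p ↥M₂)
    (hT₁ : IsMaxPSub p T M₁) (hT₂ : IsMaxPSub p T M₂) : IsPrimPairCharP p M₁ M₂ := by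
  refine ⟨hne, ?_, hC₁, hC₂, ?_⟩
  · intro A hA1 hA
    constructor
    · intro hMA
      rw [normalizer_eq_of_normal_in_maxPLoc h₁ hC₁ hA1 (hA.trans inf_le_left) hMA, inf_comm]
    · intro hMA
      rw [normalizer_eq_of_normal_in_maxPLoc h₂ hC₂ hA1 (hA.trans inf_le_right) hMA]
  · exact sup_le (hT₁.pCoreMap_le.trans (le_inf hT₁.1 hT₂.1))
      (hT₂.pCoreMap_le.trans (le_inf hT₁.1 hT₂.1))

theorem charP_of_isPLoc {p : ℕ} (hloc : Cfsg.IsOfLocalCharacteristic p G) {M : Subgroup G}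
    (hM : IsPLoc p M) :
    Subgroup.centralizer (Cfsg.pCore p ↥M : Set ↥M) ≤ Cfsg.pCore p ↥M := by
  obtain ⟨T, hT, hT1, rfl⟩ := hM
  exact hloc.2 T hT hT1

theorem exists_bigger_of_not_maxPSub {p : ℕ} {T M : Subgroup G} (hTM : T ≤ M) (hTp : IsPGroup p T)
    (hnS : ¬ IsMaxPSub p T M) : ∃ R : Subgroup G, IsPGroup p R ∧ T < R ∧ R ≤ M := by
  by_contra hno
  push Not at hno
  apply hnS
  refine ⟨hTM, hTp, fun R hR hTR hRM => ?_⟩
  by_contra hne
  exact hno R hR (lt_of_le_of_ne hTR (Ne.symm hne)) hRM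

theorem primPair_of_maxPSub_one_side [Finite G] {p : ℕ} [Fact p.Prime]
    (hloc : Cfsg.IsOfLocalCharacteristic p G) {M₁ M₂ T : Subgroup G}
    (h₂ : IsMaxPLoc p M₂) (hTM₁ : T ≤ M₁) (hT₂ : IsMaxPSub p T M₂) (hnS : ¬ IsMaxPSub p T M₁) :
    ∃ M M' : Subgroup G, IsPrimPairCharP p M M' := by
  have hTp := hT₂.2.1
  obtain ⟨R, hR, hlt, hRM⟩ := exists_bigger_of_not_maxPSub hTM₁ hTp hnS
  obtain ⟨x, hxR, hxN, hxT⟩ := pgroup_normalizer_lt R T hR hlt
  have hxM₂ : x ∉ M₂ := by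
    intro hx
    have hp : IsPGroup p ↥(T ⊔ Subgroup.zpowers x) :=
      hR.to_le (sup_le hlt.le (by rw [Subgroup.zpowers_le]; exact hxR))
    have := hT₂.2.2 _ hp le_sup_left (sup_le hT₂.1 (by rw [Subgroup.zpowers_le]; exact hx))
    apply hxT
    rw [← this]
    exact Subgroup.mem_sup_right (Subgroup.mem_zpowers x)
  have hne : M₂ ≠ cj x M₂ := (h₂.cj_ne hxM₂).symm
  have hT₂' : IsMaxPSub p T (cj x M₂) := by
    have := hT₂.conj x
    rwa [cj_eq_of_mem_normalizer hxN] at this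
  exact ⟨M₂, cj x M₂, primPair_of_common_maxPSub h₂ (h₂.conj x) hne (charP_of_isPLoc hloc h₂.1)
    (charP_of_isPLoc hloc (h₂.conj x).1) hT₂ hT₂'⟩

theorem primPair_or_strongly_embedded [Finite G] {p : ℕ} [hpf : Fact p.Prime]
    (hloc : Cfsg.IsOfLocalCharacteristic p G) (hOp : Cfsg.pCore p G = ⊥) :
    (∃ M₁ M₂ : Subgroup G, IsPrimPairCharP p M₁ M₂) ∨
    (∀ M : Subgroup G, IsMaxPLoc p M → M ≠ ⊤ ∧ p ∣ Nat.card M ∧
      ∀ g : G, g ∉ M → ¬ p ∣ Nat.card ↥(M ⊓ cj g M)) := by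
  by_cases hex : ∃ M₁ M₂ T : Subgroup G, IsMaxPLoc p M₁ ∧ IsMaxPLoc p M₂ ∧ M₁ ≠ M₂ ∧ T ≠ ⊥ ∧
      IsPGroup p T ∧ T ≤ M₁ ⊓ M₂
  · left
    obtain ⟨T, ⟨M₁, M₂, h₁, h₂, hne, hT1, hTp, hT⟩, hmax⟩ := Set.exists_max_image
      {T : Subgroup G | ∃ M₁ M₂ : Subgroup G, IsMaxPLoc p M₁ ∧ IsMaxPLoc p M₂ ∧ M₁ ≠ M₂ ∧ T ≠ ⊥ ∧
        IsPGroup p T ∧ T ≤ M₁ ⊓ M₂}
      (fun T => Nat.card ↥T) (Set.toFinite _)
      (by obtain ⟨M₁, M₂, T, h⟩ := hex; exact ⟨T, M₁, M₂, h⟩)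
    by_cases hS₁ : IsMaxPSub p T M₁
    · by_cases hS₂ : IsMaxPSub p T M₂
      · exact ⟨M₁, M₂, primPair_of_common_maxPSub h₁ h₂ hne (charP_of_isPLoc hloc h₁.1)
          (charP_of_isPLoc hloc h₂.1) hS₁ hS₂⟩
      · exact primPair_of_maxPSub_one_side hloc h₁ (hT.trans inf_le_right) hS₁ hS₂
    · by_cases hS₂ : IsMaxPSub p T M₂
      · exact primPair_of_maxPSub_one_side hloc h₂ (hT.trans inf_le_left) hS₂ hS₁
      · exfalso
        obtain ⟨M₃, h₃, hNM₃⟩ := exists_maxPLoc_ge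
          (⟨T, hTp, hT1, rfl⟩ : IsPLoc p (Subgroup.normalizer (T : Set G)))
        have key : ∀ M : Subgroup G, IsMaxPLoc p M → T ≤ M → ¬ IsMaxPSub p T M → M₃ = M := by
          intro M hM hTM hnS
          by_contra hne3
          obtain ⟨R, hR, hlt, hRM⟩ := exists_bigger_of_not_maxPSub hTM hTp hnS
          obtain ⟨x, hxR, hxN, hxT⟩ := pgroup_normalizer_lt R T hR hlt
          have hT'p : IsPGroup p ↥(T ⊔ Subgroup.zpowers x) :=
            hR.to_le (sup_le hlt.le (by rw [Subgroup.zpowers_le]; exact hxR))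
          have hT'M : T ⊔ Subgroup.zpowers x ≤ M :=
            sup_le hTM (by rw [Subgroup.zpowers_le]; exact hRM hxR)
          have hT'M₃ : T ⊔ Subgroup.zpowers x ≤ M₃ :=
            sup_le (Subgroup.le_normalizer.trans hNM₃)
              (by rw [Subgroup.zpowers_le]; exact hNM₃ hxN)
          have hT'1 : T ⊔ Subgroup.zpowers x ≠ ⊥ := by
            intro h0
            apply hT1
            rw [eq_bot_iff, ← h0]; exact le_sup_left
          have hle := hmax (T ⊔ Subgroup.zpowers x)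
            ⟨M, M₃, hM, h₃, Ne.symm hne3, hT'1, hT'p, le_inf hT'M hT'M₃⟩
          have hEq : T ⊔ Subgroup.zpowers x = T :=
            (Subgroup.eq_of_le_of_card_ge le_sup_left hle).symm
          apply hxT
          rw [← hEq]
          exact Subgroup.mem_sup_right (Subgroup.mem_zpowers x)
        exact hne ((key M₁ h₁ (hT.trans inf_le_left) hS₁).symm.trans
          (key M₂ h₂ (hT.trans inf_le_right) hS₂))
  · right
    intro M hM
    obtain ⟨T₀, hT₀, hT₀1, hMeq⟩ := hM.1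
    have hT₀M : T₀ ≤ M := by rw [hMeq]; exact Subgroup.le_normalizer
    refine ⟨?_, ?_, ?_⟩
    · intro htop
      have hn : T₀.Normal := by
        rw [← Subgroup.normalizer_eq_top_iff, ← hMeq]; exact htop
      have := Cfsg.Agent.helper1.le_pCore hn hT₀
      rw [hOp] at this
      exact hT₀1 (eq_bot_iff.2 this)
    · obtain ⟨k, hk⟩ := IsPGroup.iff_card.1 hT₀
      have hk0 : k ≠ 0 := by
        rintro rfl
        rw [pow_zero] at hk
        exact hT₀1 (Subgroup.card_eq_one.1 hk)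
      have h1 : Nat.card ↥T₀ ∣ Nat.card ↥M := Subgroup.card_dvd_of_le hT₀M
      rw [hk] at h1
      exact (dvd_pow_self p hk0).trans h1
    · intro g hg hdvd
      obtain ⟨y, hy⟩ := exists_prime_orderOf_dvd_card' p hdvd
      have hyo : orderOf (y : G) = p := by rw [Subgroup.orderOf_coe]; exact hy
      apply hex
      refine ⟨M, cj g M, Subgroup.zpowers (y : G), hM, hM.conj g, (hM.cj_ne hg).symm, ?_, ?_, ?_⟩
      · rw [Ne, Subgroup.zpowers_eq_bot]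
        intro h1
        rw [h1, orderOf_one] at hyo
        exact hpf.out.one_lt.ne hyo
      · apply IsPGroup.of_card (n := 1)
        rw [Nat.card_zpowers, pow_one, hyo]
      · rw [Subgroup.zpowers_le]; exact y.2

end Cfsg.Agent.helper19
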