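import Mathlib
import Cfsg.Agent.Lib_helper19_Basic
import Cfsg.Agent.Lib_helper19_Sylow

set_option autoImplicit false

namespace Cfsg.Agent.helper19

open scoped Pointwise

/-- Two `p`-subgroups of `K` of the same order, one of index prime to `p` in `K`,
are conjugate by an element of `K`. -/
theorem conj_in_of_card_eq {G : Type*} [Group G] [Finite G] {p : ℕ} [Fact p.Prime]
    (P P' K : Subgroup G) (hPK : P ≤ K) (hP'K : P' ≤ K) (hP : IsPGroup p P) (hP' : IsPGroup p P')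
    (hcard : Nat.card P = Nat.card P') (hidx : ¬ p ∣ P.relIndex K) :
    ∃ k ∈ K, ∀ y : G, y ∈ P' ↔ k⁻¹ * y * k ∈ P := by
  have hp1 : IsPGroup p ↥(P.subgroupOf K) := IsPGroup.comap_subtype hP
  have hp2 : IsPGroup p ↥(P'.subgroupOf K) := IsPGroup.comap_subtype hP'
  let S : Sylow p ↥K := hp1.toSylow hidx
  obtain ⟨S', hS'⟩ := hp2.exists_le_sylow
  obtain ⟨k, hk⟩ := MulAction.exists_smul_eq ↥K S S'
  have hcS : Nat.card (S : Subgroup ↥K) = Nat.card P := by
    show Nat.card (P.subgroupOf K) = Nat.card P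
    exact Nat.card_congr (Subgroup.subgroupOfEquivOfLe hPK).toEquiv
  have hcS' : Nat.card (S' : Subgroup ↥K) = Nat.card (S : Subgroup ↥K) := by
    rw [← hk]
    exact (Nat.card_congr (Sylow.equivSMul S k).toEquiv).symm
  have hcP' : Nat.card (P'.subgroupOf K) = Nat.card P' :=
    Nat.card_congr (Subgroup.subgroupOfEquivOfLe hP'K).toEquiv
  have heq : P'.subgroupOf K = (S' : Subgroup ↥K) := by
    apply Subgroup.eq_of_le_of_card_ge hS'
    rw [hcS', hcS, hcP', hcard]
  refine ⟨(k : G), k.2, ?_⟩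
  intro y
  constructor
  · intro hy
    have hyK : y ∈ K := hP'K hy
    have h1 : (⟨y, hyK⟩ : ↥K) ∈ P'.subgroupOf K := Subgroup.mem_subgroupOf.mpr hy
    rw [heq, ← hk] at h1
    have h2 : (⟨y, hyK⟩ : ↥K) ∈ MulAut.conj k • (S : Subgroup ↥K) := h1
    rw [memsmul] at h2
    have h3 : k⁻¹ * ⟨y, hyK⟩ * k ∈ P.subgroupOf K := h2
    rw [Subgroup.mem_subgroupOf] at h3
    simpa using h3
  · intro hy
    have hyK : y ∈ K := by
      have e : y = (k : G) * ((k : G)⁻¹ * y * k) * (k : G)⁻¹ := by group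
      rw [e]
      exact K.mul_mem (K.mul_mem k.2 (hPK hy)) (K.inv_mem k.2)
    have h3 : k⁻¹ * ⟨y, hyK⟩ * k ∈ P.subgroupOf K := by
      rw [Subgroup.mem_subgroupOf]
      simpa using hy
    have h2 : (⟨y, hyK⟩ : ↥K) ∈ MulAut.conj k • (S : Subgroup ↥K) := by
      rw [memsmul]; exact h3
    have h1 : (⟨y, hyK⟩ : ↥K) ∈ (S' : Subgroup ↥K) := by
      rw [← hk]; exact h2
    rw [← heq, Subgroup.mem_subgroupOf] at h1
    exact h1

end Cfsg.Agent.helper19
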