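import Mathlib
import Cfsg.Agent.Lib_helper19_Primitive
import Cfsg.Agent.Lib_helper19_Sylow3
import Cfsg.Agent.Lib_helper7_Fitting

set_option autoImplicit false
open scoped commutatorElement Pointwise

namespace Cfsg.Agent.helper19

open Cfsg.Agent.helper7

variable {G : Type*} [Group G]

/-- If no nontrivial element of the normal subgroup `N` normalizes the `p`-subgroup `P`,
then `p` does not divide `|N|`. -/
theorem not_dvd_card_of_inf_normalizer_eq_bot [Finite G] {p : ℕ} [Fact p.Prime]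
    {P N : Subgroup G} [N.Normal] (hP : IsPGroup p P)
    (hNP : N ⊓ Subgroup.normalizer (P : Set G) = ⊥) : ¬ p ∣ Nat.card N := by
  let _ : MulAction ↥P ↥N :=
    MulAction.compHom ↥N ((MulAut.conjNormal (H := N)).comp P.subtype)
  have hsmul : ∀ (a : P) (n : N), ((a • n : N) : G) = (a : G) * n * (a : G)⁻¹ :=
    fun a n => MulAut.conjNormal_apply (a : G) n
  have h1 := hP.card_modEq_card_fixedPoints ↥N
  have h2 : MulAction.fixedPoints ↥P ↥N = {1} := by
    ext n
    simp only [MulAction.mem_fixedPoints, Set.mem_singleton_iff]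
    constructor
    · intro h
      have hn : (n : G) ∈ Subgroup.centralizer (P : Set G) := by
        rw [Subgroup.mem_centralizer_iff]
        intro a ha
        have h3 := hsmul ⟨a, ha⟩ n
        rw [h ⟨a, ha⟩] at h3
        simp only at h3
        calc a * (n : G) = (a * n * a⁻¹) * a := by group
          _ = n * a := by rw [← h3]
      have h4 : (n : G) ∈ N ⊓ Subgroup.normalizer (P : Set G) :=
        ⟨n.2, Subgroup.centralizer_le_normalizer _ hn⟩
      rw [hNP, Subgroup.mem_bot] at h4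
      exact Subtype.ext h4
    · rintro rfl a
      apply Subtype.ext
      rw [hsmul]
      simp
  rw [h2] at h1
  intro hdvd
  have h3 : Nat.card ↥N ≡ 0 [MOD p] := (Nat.modEq_zero_iff_dvd).2 hdvd
  have h4 : (1 : ℕ) ≡ 0 [MOD p] := by
    have : Nat.card ({1} : Set ↥N) = 1 := by simp
    rw [this] at h1
    exact h1.symm.trans h3
  rw [Nat.modEq_zero_iff_dvd] at h4
  exact (Fact.out : p.Prime).one_lt.ne' (Nat.dvd_one.1 h4)



/-- The image in `G` of a Sylow subgroup of the normal subgroup `N`. -/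
abbrev sylImg {q : ℕ} {N : Subgroup G} (Q : Sylow q ↥N) : Subgroup G :=
  (Q : Subgroup ↥N).map N.subtype

theorem sylImg_injective {q : ℕ} {N : Subgroup G} {Q₁ Q₂ : Sylow q ↥N}
    (h : sylImg Q₁ = sylImg Q₂) : Q₁ = Q₂ :=
  Sylow.ext (Subgroup.map_injective N.subtype_injective h)

theorem sylImg_conj {q : ℕ} {N : Subgroup G} [N.Normal] (g : G) (Q : Sylow q ↥N) :
    sylImg ((MulAut.conjNormal g : MulAut N) • Q) = cj g (sylImg Q) := by
  ext x
  rw [mem_cj]
  constructor
  · rintro ⟨y, hy, rfl⟩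
    rw [Sylow.pointwise_smul_def] at hy
    obtain ⟨z, hz, rfl⟩ := hy
    refine ⟨z, hz, ?_⟩
    simp only [Subgroup.coe_subtype]
    have : (((MulAut.conjNormal g : MulAut N) • z : N) : G) = g * z * g⁻¹ :=
      MulAut.conjNormal_apply g z
    show (z : G) = g⁻¹ * ((((MulAut.conjNormal g : MulAut N) • z : N)) : G) * g
    rw [this]; group
  · rintro ⟨z, hz, hzx⟩
    simp only [Subgroup.coe_subtype] at hzx
    refine ⟨(MulAut.conjNormal g : MulAut N) • z, ?_, ?_⟩
    · rw [Sylow.pointwise_smul_def]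
      exact Subgroup.smul_mem_pointwise_smul z _ _ hz
    · have : (((MulAut.conjNormal g : MulAut N) • z : N) : G) = g * z * g⁻¹ :=
        MulAut.conjNormal_apply g z
      simp only [Subgroup.coe_subtype]
      rw [this, hzx]; group

theorem mem_normalizer_sylImg_iff {q : ℕ} {N : Subgroup G} [N.Normal] (g : G) (Q : Sylow q ↥N) :
    g ∈ Subgroup.normalizer ((sylImg Q : Subgroup G) : Set G) ↔
      (MulAut.conjNormal g : MulAut N) • Q = Q := by
  constructor
  · intro h
    apply sylImg_injective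
    rw [sylImg_conj, cj_eq_of_mem_normalizer h]
  · intro h
    apply mem_normalizer_of_cj_eq
    rw [← sylImg_conj, h]



/-- A `p`-group acting on a normal `p'`-subgroup fixes a Sylow `q`-subgroup of it. -/
theorem exists_invariant_sylow [Finite G] {p : ℕ} [Fact p.Prime] {P N : Subgroup G} [N.Normal]
    (hP : IsPGroup p P) (hpN : ¬ p ∣ Nat.card N) (q : ℕ) [Fact q.Prime] :
    ∃ Q : Sylow q ↥N, P ≤ Subgroup.normalizer ((sylImg Q : Subgroup G) : Set G) := by
  let _ : MulAction ↥P (Sylow q ↥N) :=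
    MulAction.compHom (Sylow q ↥N) ((MulAut.conjNormal (H := N)).comp P.subtype)
  have hcard : ¬ p ∣ Nat.card (Sylow q ↥N) := by
    intro h
    apply hpN
    obtain Q : Sylow q ↥N := default
    exact h.trans ((Sylow.card_dvd_index Q).trans (Subgroup.index_dvd_card _))
  obtain ⟨Q, hQ⟩ := hP.nonempty_fixed_point_of_prime_not_dvd_card (Sylow q ↥N) hcard
  refine ⟨Q, ?_⟩
  intro a ha
  rw [mem_normalizer_sylImg_iff]
  exact hQ ⟨a, ha⟩


theorem normalizer_inf_sup_le {P N : Subgroup G} [N.Normal]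
    (hNP : N ⊓ Subgroup.normalizer (P : Set G) = ⊥) :
    Subgroup.normalizer (P : Set G) ⊓ (P ⊔ N) ≤ P := by
  intro y hy
  obtain ⟨hy1, hy2⟩ := Subgroup.mem_inf.1 hy
  rw [Subgroup.mem_sup_of_normal_right] at hy2
  obtain ⟨a, ha, m, hm, rfl⟩ := hy2
  have h1 : m ∈ Subgroup.normalizer (P : Set G) := by
    have e : m = a⁻¹ * (a * m) := by group
    rw [e]
    exact Subgroup.mul_mem _ (Subgroup.inv_mem _ (Subgroup.le_normalizer ha)) hy1
  have h2 : m ∈ N ⊓ Subgroup.normalizer (P : Set G) := ⟨hm, h1⟩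
  rw [hNP, Subgroup.mem_bot] at h2
  rw [h2, mul_one]; exact ha

/-- Uniqueness of the `P`-invariant Sylow `q`-subgroup of `N` when `N ∩ N_G(P) = 1`. -/
theorem invariant_sylow_unique [Finite G] {p : ℕ} [Fact p.Prime] {P N : Subgroup G} [N.Normal]
    (hP : IsPGroup p P) (hNP : N ⊓ Subgroup.normalizer (P : Set G) = ⊥)
    {q : ℕ} [Fact q.Prime] (Q₁ Q₂ : Sylow q ↥N)
    (h₁ : P ≤ Subgroup.normalizer ((sylImg Q₁ : Subgroup G) : Set G))
    (h₂ : P ≤ Subgroup.normalizer ((sylImg Q₂ : Subgroup G) : Set G)) : Q₁ = Q₂ := by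
  have hpN : ¬ p ∣ Nat.card N := not_dvd_card_of_inf_normalizer_eq_bot hP hNP
  obtain ⟨n, hn⟩ := MulAction.exists_smul_eq ↥N Q₁ Q₂
  have hn' : (MulAut.conjNormal (n : G) : MulAut N) • Q₁ = Q₂ := by
    rw [MulAut.conjNormal_val]; exact hn
  have hR : sylImg Q₂ = cj (n : G) (sylImg Q₁) := by rw [← sylImg_conj, hn']
  set R₁ := sylImg Q₁ with hR₁
  set R₂ := sylImg Q₂ with hR₂
  set K := Subgroup.normalizer (R₁ : Set G) ⊓ (P ⊔ N) with hK
  have hPK : P ≤ K := le_inf h₁ le_sup_left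
  have hnPN : (n : G) ∈ P ⊔ N := (le_sup_right : N ≤ P ⊔ N) n.2
  have hP'K : cj (n : G)⁻¹ P ≤ K := by
    apply le_inf
    · have h3 := cj_mono (g := (n : G)⁻¹) h₂
      rw [cj_normalizer, hR, cj_inv_cj] at h3
      exact h3
    · intro x hx
      rw [mem_cj, inv_inv] at hx
      have e : x = (n : G)⁻¹ * ((n : G) * x * (n : G)⁻¹) * (n : G) := by group
      rw [e]
      exact Subgroup.mul_mem _ (Subgroup.mul_mem _ (Subgroup.inv_mem _ hnPN)
        ((le_sup_left : P ≤ P ⊔ N) hx)) hnPN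
  have hP' : IsPGroup p ↥(cj (n : G)⁻¹ P) := by
    have e : ↥P ≃* ↥(cj (n : G)⁻¹ P) :=
      P.equivMapOfInjective (MulAut.conj (n : G)⁻¹).toMonoidHom (MulAut.conj (n : G)⁻¹).injective
    exact hP.of_equiv e
  have hcard : Nat.card P = Nat.card (cj (n : G)⁻¹ P) := (card_cj _ P).symm
  have hidx : ¬ p ∣ P.relIndex K := by
    intro h
    apply hpN
    have h3 : P.relIndex K ∣ P.relIndex (P ⊔ N) := by
      rw [← Subgroup.relIndex_mul_relIndex P K (P ⊔ N) hPK inf_le_right]
      exact dvd_mul_right _ _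
    rw [← relIndex_inf_normal] at h3
    exact h.trans (h3.trans (Subgroup.relIndex_dvd_card _ _))
  obtain ⟨k, hk, hkP⟩ := conj_in_of_card_eq P (cj (n : G)⁻¹ P) K hPK hP'K hP hP' hcard hidx
  have hcjk : cj (n : G)⁻¹ P = cj k P := by
    ext y
    rw [hkP y, mem_cj]
  have hnk : (n : G) * k ∈ Subgroup.normalizer (P : Set G) := by
    apply mem_normalizer_of_cj_eq
    rw [← cj_cj, ← hcjk]
    have := cj_cj_inv (n : G) P
    exact this
  have hnkP : (n : G) * k ∈ P :=
    normalizer_inf_sup_le hNP ⟨hnk, Subgroup.mul_mem _ hnPN (hk.2)⟩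
  have hnK : (n : G) ∈ K := by
    have e : (n : G) = (n : G) * k * k⁻¹ := by group
    rw [e]
    exact Subgroup.mul_mem _ (hPK hnkP) (Subgroup.inv_mem _ hk)
  apply sylImg_injective
  rw [← hR₁, ← hR₂, hR]
  exact (cj_eq_of_mem_normalizer hnK.1).symm


/-- The main statement on a `p`-subgroup `P` with `N_G(P) = M` and a normal subgroup `N`
meeting `M` trivially. -/
theorem normalizer_pgroup_main [Finite G] {p : ℕ} [Fact p.Prime] {M P N : Subgroup G} [N.Normal]
    (hP : IsPGroup p P) (hn : Subgroup.normalizer (P : Set G) = M) (hMN : M ⊓ N = ⊥) :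
    ¬ p ∣ Nat.card N ∧
    (∀ q : ℕ, [Fact q.Prime] → ∃! Q : Sylow q ↥N,
      M ≤ Subgroup.normalizer ((sylImg Q : Subgroup G) : Set G)) ∧
    ((∃ q r : ℕ, q.Prime ∧ r.Prime ∧ q ≠ r ∧ q ∣ Nat.card N ∧ r ∣ Nat.card N) → ¬ IsCoatom M) := by
  have hPM : P ≤ M := hn ▸ Subgroup.le_normalizer
  have hNP : N ⊓ Subgroup.normalizer (P : Set G) = ⊥ := by rw [hn, inf_comm]; exact hMN
  have hpN : ¬ p ∣ Nat.card N := not_dvd_card_of_inf_normalizer_eq_bot hP hNP
  have hex : ∀ q : ℕ, [Fact q.Prime] → ∃! Q : Sylow q ↥N,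
      M ≤ Subgroup.normalizer ((sylImg Q : Subgroup G) : Set G) := by
    intro q _
    obtain ⟨Q, hQ⟩ := exists_invariant_sylow hP hpN q (N := N)
    refine ⟨Q, ?_, ?_⟩
    · intro m hm
      rw [mem_normalizer_sylImg_iff]
      apply invariant_sylow_unique hP hNP _ _ _ hQ
      rw [sylImg_conj, ← cj_normalizer]
      have h1 := cj_mono (g := m) hQ
      rwa [cj_eq_of_mem_normalizer (hn ▸ hm)] at h1
    · intro Q' hQ'
      exact invariant_sylow_unique hP hNP _ _ (hPM.trans hQ') hQ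
  refine ⟨hpN, hex, ?_⟩
  rintro ⟨q, r, hq, hr, hqr, hqN, hrN⟩ hM
  have : Fact q.Prime := ⟨hq⟩
  obtain ⟨Q, hQ, -⟩ := hex q
  set R := sylImg Q with hR
  have hRN : R ≤ N := Subgroup.map_subtype_le _
  have hcardR : Nat.card R = q ^ (Nat.card N).factorization q := by
    rw [← Sylow.card_eq_multiplicity Q]
    exact (Nat.card_congr (Subgroup.equivMapOfInjective _ _ N.subtype_injective).toEquiv).symm
  have hNpos : Nat.card N ≠ 0 := Nat.card_pos.ne'
  have hfac : 1 ≤ (Nat.card N).factorization q :=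
    (hq.dvd_iff_one_le_factorization hNpos).1 hqN
  have hRne : R ≠ ⊥ := by
    intro h
    have h1 : Nat.card R = 1 := by rw [h]; exact Subgroup.card_bot
    rw [hcardR] at h1
    have h2 : q ∣ q ^ (Nat.card N).factorization q := dvd_pow_self q (by omega)
    rw [h1] at h2
    exact hq.one_lt.ne' (Nat.dvd_one.1 h2)
  have hRM : ¬ R ≤ M := by
    intro h
    apply hRne
    rw [eq_bot_iff, ← hMN]
    exact le_inf h hRN
  have hsup : R ⊔ M = ⊤ := by
    apply hM.2
    exact lt_of_le_of_ne le_sup_right (fun h => hRM (h ▸ le_sup_left))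
  have hNR : N ≤ R := by
    intro n hnN
    have h1 : n ∈ R ⊔ M := hsup ▸ Subgroup.mem_top n
    obtain ⟨x, hx, m, hm, rfl⟩ := mem_sup_of_normalizer hQ h1
    have h2 : m ∈ M ⊓ N := by
      refine ⟨hm, ?_⟩
      have e : m = x⁻¹ * (x * m) := by group
      rw [e]
      exact N.mul_mem (N.inv_mem (hRN hx)) hnN
    rw [hMN, Subgroup.mem_bot] at h2
    rw [h2, mul_one]; exact hx
  have hRN' : R = N := le_antisymm hRN hNR
  rw [← hRN', hcardR] at hrN
  have := (Nat.prime_dvd_prime_iff_eq hr hq).1 (hr.dvd_of_dvd_pow hrN)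
  exact hqr this.symm

end Cfsg.Agent.helper19
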