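import Mathlib
import Cfsg.Prelude.Def_HallClasses

set_option autoImplicit false
set_option linter.style.haveILetI false

namespace Cfsg.Agent.helper21.Prn

open Cfsg

section basics
variable {G : Type*} [Group G]

/-- the conjugate subgroup `g H g⁻¹`. -/
def cj (g : G) (H : Subgroup G) : Subgroup G := H.map (MulAut.conj g).toMonoidHom

theorem mem_cj {H : Subgroup G} {g x : G} : x ∈ cj g H ↔ g⁻¹ * x * g ∈ H := by
  unfold cj
  constructor
  · rintro ⟨y, hy, rfl⟩
    have : g⁻¹ * (MulAut.conj g).toMonoidHom y * g = y := by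
      simp [MulAut.conj_apply, mul_assoc]
    rw [this]; exact hy
  · intro h
    refine ⟨g⁻¹ * x * g, h, ?_⟩
    simp [MulAut.conj_apply, mul_assoc]

theorem conj_mem_cj {H : Subgroup G} {h : G} (hh : h ∈ H) (g : G) : g * h * g⁻¹ ∈ cj g H := by
  rw [mem_cj]
  have : g⁻¹ * (g * h * g⁻¹) * g = h := by group
  rw [this]; exact hh

theorem cj_mul (a b : G) (H : Subgroup G) : cj (a * b) H = cj a (cj b H) := by
  ext x
  simp only [mem_cj]
  have : (a * b)⁻¹ * x * (a * b) = b⁻¹ * (a⁻¹ * x * a) * b := by group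
  rw [this]

theorem cj_one (H : Subgroup G) : cj 1 H = H := by
  ext x
  simp [mem_cj]

theorem cj_inv_cj (a : G) (H : Subgroup G) : cj a⁻¹ (cj a H) = H := by
  rw [← cj_mul, inv_mul_cancel, cj_one]

theorem cj_cj_inv (a : G) (H : Subgroup G) : cj a (cj a⁻¹ H) = H := by
  rw [← cj_mul, mul_inv_cancel, cj_one]

theorem cj_mono {H K : Subgroup G} (h : H ≤ K) (g : G) : cj g H ≤ cj g K :=
  Subgroup.map_mono h

theorem cj_of_mem {H : Subgroup G} {h : G} (hh : h ∈ H) : cj h H = H := by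
  ext x
  rw [mem_cj]
  constructor
  · intro hx
    have : x = h * (h⁻¹ * x * h) * h⁻¹ := by group
    rw [this]
    exact H.mul_mem (H.mul_mem hh hx) (H.inv_mem hh)
  · intro hx
    exact H.mul_mem (H.mul_mem (H.inv_mem hh) hx) hh

theorem cj_le_of_mem {H J : Subgroup G} {j : G} (hj : j ∈ J) (hH : H ≤ J) : cj j H ≤ J := by
  have := cj_mono hH j
  rwa [cj_of_mem hj] at this

theorem cj_inf (g : G) (H K : Subgroup G) : cj g (H ⊓ K) = cj g H ⊓ cj g K :=
  Subgroup.map_inf H K _ (MulAut.conj g).injective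

theorem cj_sup (g : G) (H K : Subgroup G) : cj g (H ⊔ K) = cj g H ⊔ cj g K :=
  Subgroup.map_sup H K _

theorem cj_normal (N : Subgroup G) [hN : N.Normal] (g : G) : cj g N = N := by
  ext x
  rw [mem_cj]
  constructor
  · intro hx
    have : x = g * (g⁻¹ * x * g) * g⁻¹ := by group
    rw [this]
    exact hN.conj_mem _ hx _
  · intro hx
    have := hN.conj_mem _ hx g⁻¹
    rwa [inv_inv] at this

theorem cj_eq_iff_mem_normalizer {H : Subgroup G} {g : G} :
    cj g H = H ↔ g ∈ Subgroup.normalizer (H : Set G) := by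
  rw [Subgroup.mem_normalizer_iff]
  constructor
  · intro h x
    constructor
    · intro hx
      rw [← h]
      exact conj_mem_cj hx g
    · intro hx
      rw [← h, mem_cj] at hx
      have : g⁻¹ * (g * x * g⁻¹) * g = x := by group
      rwa [this] at hx
  · intro h
    ext x
    rw [mem_cj, h (g⁻¹ * x * g)]
    have : g * (g⁻¹ * x * g) * g⁻¹ = x := by group
    rw [this]

theorem card_cj (g : G) (H : Subgroup G) : Nat.card ↥(cj g H) = Nat.card ↥H :=
  (Nat.card_congr (H.equivMapOfInjective _ (MulAut.conj g).injective).toEquiv).symm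

theorem isPGroup_cj {p : ℕ} {H : Subgroup G} (h : IsPGroup p H) (g : G) : IsPGroup p (cj g H) :=
  h.map _

/-- Sylow conjugacy inside a subgroup `R` (after helper18's `conj_of_sylow`). -/
theorem conj_of_sylow [Finite G] {p : ℕ} [Fact p.Prime] {R Q Q' : Subgroup G}
    (hQR : Q ≤ R) (hQ'R : Q' ≤ R) (hQ : IsPGroup p Q) (hcard : Nat.card Q' = Nat.card Q)
    (hidx : ¬ p ∣ Q.relIndex R) : ∃ h ∈ R, cj h Q' = Q := by
  have hQs : IsPGroup p (Q.subgroupOf R) :=
    hQ.of_equiv (Subgroup.subgroupOfEquivOfLe hQR).symm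
  let S₀ : Sylow p ↥R := hQs.toSylow hidx
  have hQ' : IsPGroup p Q' := by
    obtain ⟨n, hn⟩ := IsPGroup.iff_card.mp hQ
    exact IsPGroup.of_card (hcard.trans hn)
  have hQ's : IsPGroup p (Q'.subgroupOf R) :=
    hQ'.of_equiv (Subgroup.subgroupOfEquivOfLe hQ'R).symm
  obtain ⟨S₁, hS₁⟩ := hQ's.exists_le_sylow
  obtain ⟨r, hr⟩ := MulAction.exists_smul_eq (↥R) S₁ S₀
  refine ⟨(r : G), r.2, ?_⟩
  have hle : cj (r : G) Q' ≤ Q := by
    rintro _ ⟨x, hx, rfl⟩
    have hxR : x ∈ R := hQ'R hx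
    have h1 : (⟨x, hxR⟩ : ↥R) ∈ S₁ := hS₁ (by rw [Subgroup.mem_subgroupOf]; exact hx)
    have h2 : r * ⟨x, hxR⟩ * r⁻¹ ∈ ((r • S₁ : Sylow p ↥R) : Subgroup ↥R) := by
      rw [Sylow.coe_subgroup_smul]
      have := Subgroup.smul_mem_pointwise_smul _ (MulAut.conj r) (S₁ : Subgroup ↥R) h1
      simpa [MulAut.smul_def, MulAut.conj_apply] using this
    rw [hr] at h2
    have h3 : r * ⟨x, hxR⟩ * r⁻¹ ∈ Q.subgroupOf R := h2
    rw [Subgroup.mem_subgroupOf] at h3
    simpa [MulAut.conj_apply] using h3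
  apply Subgroup.eq_of_le_of_card_ge hle
  rw [card_cj, hcard]

/-- pronormality of `K` relative to a subgroup `M` in ambient form. -/
def PrnIn (K M : Subgroup G) : Prop := ∀ g ∈ M, ∃ x ∈ K ⊔ cj g K, cj g K = cj x K

theorem isPronormal_iff (K : Subgroup G) : Cfsg.IsPronormal K ↔ PrnIn K ⊤ := by
  unfold Cfsg.IsPronormal PrnIn cj
  constructor
  · intro h g _
    exact h g
  · intro h g
    exact h g (Subgroup.mem_top g)

theorem PrnIn.mono {K M M' : Subgroup G} (h : PrnIn K M) (hM : M' ≤ M) : PrnIn K M' :=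
  fun g hg => h g (hM hg)

theorem PrnIn.conj {K M : Subgroup G} (h : PrnIn K M) (c : G) : PrnIn (cj c K) (cj c M) := by
  intro g' hg'
  rw [mem_cj] at hg'
  obtain ⟨x, hx, hxe⟩ := h _ hg'
  have e1 : cj g' (cj c K) = cj c (cj (c⁻¹ * g' * c) K) := by
    rw [← cj_mul, ← cj_mul]; congr 1; group
  refine ⟨c * x * c⁻¹, ?_, ?_⟩
  · rw [e1, ← cj_sup]
    exact conj_mem_cj hx c
  · rw [e1, hxe, ← cj_mul, ← cj_mul]; congr 1; group

theorem map_subtype_cj (M : Subgroup G) (K' : Subgroup M) (g : M) :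
    (cj g K').map M.subtype = cj (g : G) (K'.map M.subtype) := by
  unfold cj
  rw [Subgroup.map_map, Subgroup.map_map]
  congr 1

theorem isPronormal_subgroup_iff (M : Subgroup G) (K' : Subgroup M) :
    Cfsg.IsPronormal K' ↔ PrnIn (K'.map M.subtype) M := by
  rw [isPronormal_iff]
  constructor
  · intro h g hg
    obtain ⟨x', hx', hxe⟩ := h ⟨g, hg⟩ (Subgroup.mem_top _)
    refine ⟨(x' : G), ?_, ?_⟩
    · have : (x' : G) ∈ (K' ⊔ cj ⟨g, hg⟩ K').map M.subtype := ⟨x', hx', rfl⟩
      rw [Subgroup.map_sup, map_subtype_cj] at this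
      exact this
    · have := congrArg (Subgroup.map M.subtype) hxe
      rw [map_subtype_cj, map_subtype_cj] at this
      exact this
  · intro h g' _
    obtain ⟨x, hx, hxe⟩ := h (g' : G) g'.2
    have hx2 : x ∈ (K' ⊔ cj g' K').map M.subtype := by
      rw [Subgroup.map_sup, map_subtype_cj]; exact hx
    obtain ⟨x', hx', rfl⟩ := hx2
    refine ⟨x', hx', ?_⟩
    apply Subgroup.map_injective M.subtype_injective
    rw [map_subtype_cj, map_subtype_cj]
    exact hxe

end basics

section quotient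
variable {X : Type*} [Group X]

theorem map_cj {Y : Type*} [Group Y] (f : X →* Y) (g : X) (K : Subgroup X) :
    (cj g K).map f = cj (f g) (K.map f) := by
  unfold cj
  rw [Subgroup.map_map, Subgroup.map_map]
  congr 1
  ext x
  simp [MulAut.conj_apply]

theorem isPronormal_quotient_iff (N : Subgroup X) [N.Normal] (Kb : Subgroup (X ⧸ N)) :
    Cfsg.IsPronormal Kb ↔ Cfsg.IsPronormal (Kb.comap (QuotientGroup.mk' N)) := by
  have hsurj := QuotientGroup.mk'_surjective N
  have hmap : (Kb.comap (QuotientGroup.mk' N)).map (QuotientGroup.mk' N) = Kb :=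
    Subgroup.map_comap_eq_self_of_surjective hsurj Kb
  have hNK : N ≤ Kb.comap (QuotientGroup.mk' N) := by
    intro n hn
    rw [Subgroup.mem_comap]
    have : (QuotientGroup.mk' N) n = 1 := (QuotientGroup.eq_one_iff n).mpr hn
    rw [this]; exact Kb.one_mem
  rw [isPronormal_iff, isPronormal_iff]
  constructor
  · intro h g _
    obtain ⟨xb, hxb, hxe⟩ := h (QuotientGroup.mk' N g) (Subgroup.mem_top _)
    have hxb2 : xb ∈ (Kb.comap (QuotientGroup.mk' N) ⊔ cj g (Kb.comap (QuotientGroup.mk' N))).map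
        (QuotientGroup.mk' N) := by
      rw [Subgroup.map_sup, map_cj, hmap]; exact hxb
    obtain ⟨x, hx, rfl⟩ := hxb2
    refine ⟨x, hx, ?_⟩
    have e : (cj g (Kb.comap (QuotientGroup.mk' N))).map (QuotientGroup.mk' N)
        = (cj x (Kb.comap (QuotientGroup.mk' N))).map (QuotientGroup.mk' N) := by
      rw [map_cj, map_cj, hmap]; exact hxe
    have e2 := congrArg (Subgroup.comap (QuotientGroup.mk' N)) e
    have hk : (QuotientGroup.mk' N).ker = N := QuotientGroup.ker_mk' N
    have h1 : (QuotientGroup.mk' N).ker ≤ cj g (Kb.comap (QuotientGroup.mk' N)) := by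
      rw [hk]; exact (cj_normal N g).symm.le.trans (cj_mono hNK g)
    have h2 : (QuotientGroup.mk' N).ker ≤ cj x (Kb.comap (QuotientGroup.mk' N)) := by
      rw [hk]; exact (cj_normal N x).symm.le.trans (cj_mono hNK x)
    rw [Subgroup.comap_map_eq_self h1, Subgroup.comap_map_eq_self h2] at e2
    exact e2
  · intro h gb _
    obtain ⟨g, rfl⟩ := hsurj gb
    obtain ⟨x, hx, hxe⟩ := h g (Subgroup.mem_top _)
    refine ⟨QuotientGroup.mk' N x, ?_, ?_⟩
    · have : QuotientGroup.mk' N x ∈ (Kb.comap (QuotientGroup.mk' N) ⊔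
          cj g (Kb.comap (QuotientGroup.mk' N))).map (QuotientGroup.mk' N) := ⟨x, hx, rfl⟩
      rw [Subgroup.map_sup, map_cj, hmap] at this
      exact this
    · have := congrArg (Subgroup.map (QuotientGroup.mk' N)) hxe
      rw [map_cj, map_cj, hmap] at this
      exact this

theorem exists_sylow_le_iff [Finite X] (p : ℕ) [Fact p.Prime] (K : Subgroup X) :
    (∃ P : Sylow p X, (P : Subgroup X) ≤ K) ↔ ¬ p ∣ K.index := by
  constructor
  · rintro ⟨P, hP⟩ hd
    exact P.not_dvd_index (hd.trans (Subgroup.index_dvd_of_le hP))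
  · intro h
    obtain ⟨Q⟩ := (Sylow.nonempty : Nonempty (Sylow p ↥K))
    have hp : IsPGroup p ((Q : Subgroup K).map K.subtype) := Q.isPGroup'.map _
    have hidx : ¬ p ∣ ((Q : Subgroup K).map K.subtype).index := by
      rw [Subgroup.index_map_subtype]
      intro hd
      rcases (Nat.Prime.dvd_mul Fact.out).mp hd with h1 | h1
      · exact Q.not_dvd_index h1
      · exact h h1
    refine ⟨hp.toSylow hidx, ?_⟩
    rw [IsPGroup.toSylow_coe]
    exact Subgroup.map_subtype_le _

end quotient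

end Cfsg.Agent.helper21.Prn
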