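import Mathlib
import Cfsg.Agent.Lib_helper21_Prn1

set_option autoImplicit false
set_option linter.style.haveILetI false
set_option linter.deprecated false
set_option linter.unusedVariables false
set_option linter.unusedSectionVars false

namespace Cfsg.Agent.helper19.PrnAlt

open Cfsg Cfsg.Agent.helper21.Prn

section general
variable {G : Type*} [Group G]

/-- (L1) a subgroup containing the normalizer of a Sylow subgroup is pronormal. -/
theorem prn_of_sylow_normalizer_le [Finite G] {p : ℕ} [Fact p.Prime] (H : Subgroup G)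
    (P : Sylow p G) (hPH : (P : Subgroup G) ≤ H)
    (hN : Subgroup.normalizer ((P : Subgroup G) : Set G) ≤ H) : Cfsg.IsPronormal H := by
  rw [isPronormal_iff]
  intro g _
  have hPK : (P : Subgroup G) ≤ H ⊔ cj g H := hPH.trans le_sup_left
  have hgPK : cj g (P : Subgroup G) ≤ H ⊔ cj g H := (cj_mono hPH g).trans le_sup_right
  have hidx : ¬ p ∣ (P : Subgroup G).relIndex (H ⊔ cj g H) := by
    intro hd
    exact P.not_dvd_index (hd.trans (Subgroup.relIndex_dvd_index_of_le hPK))
  obtain ⟨k, hk, hke⟩ := conj_of_sylow (p := p) hPK hgPK P.isPGroup'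
    (card_cj g (P : Subgroup G)) hidx
  -- cj k (cj g P) = P
  have hy : k * g ∈ Subgroup.normalizer ((P : Subgroup G) : Set G) := by
    rw [← cj_eq_iff_mem_normalizer, cj_mul]; exact hke
  have hyH : k * g ∈ H := hN hy
  refine ⟨k⁻¹, (H ⊔ cj g H).inv_mem hk, ?_⟩
  have : g = k⁻¹ * (k * g) := by group
  conv_lhs => rw [this, cj_mul, cj_of_mem hyH]

/-- a `p`-subgroup of index prime to `p` (a Sylow subgroup) is pronormal. -/
theorem prn_of_isPGroup_of_not_dvd_index [Finite G] {p : ℕ} [Fact p.Prime] (H : Subgroup G)
    (hp : IsPGroup p H) (hidx : ¬ p ∣ H.index) : Cfsg.IsPronormal H := by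
  rw [isPronormal_iff]
  intro g _
  have hHK : H ≤ H ⊔ cj g H := le_sup_left
  have hgHK : cj g H ≤ H ⊔ cj g H := le_sup_right
  have hidx' : ¬ p ∣ H.relIndex (H ⊔ cj g H) := by
    intro hd
    exact hidx (hd.trans (Subgroup.relIndex_dvd_index_of_le hHK))
  obtain ⟨k, hk, hke⟩ := conj_of_sylow (p := p) hHK hgHK hp (card_cj g H) hidx'
  refine ⟨k⁻¹, (H ⊔ cj g H).inv_mem hk, ?_⟩
  have h1 := cj_inv_cj k (cj g H)
  rw [hke] at h1
  exact h1.symm

/-- the whole group is pronormal. -/
theorem prn_top : Cfsg.IsPronormal (⊤ : Subgroup G) := by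
  rw [isPronormal_iff]
  intro g _
  exact ⟨g, by simp, rfl⟩

/-- a subgroup such that every overgroup is itself or the whole group is pronormal. -/
theorem prn_of_maximal [Finite G] (H : Subgroup G)
    (hmax : ∀ K : Subgroup G, H ≤ K → K = H ∨ K = ⊤) : Cfsg.IsPronormal H := by
  rw [isPronormal_iff]
  intro g _
  rcases hmax (H ⊔ cj g H) le_sup_left with h | h
  · have hle : cj g H ≤ H := by
      calc cj g H ≤ H ⊔ cj g H := le_sup_right
        _ = H := h
    have heq : cj g H = H := Subgroup.eq_of_le_of_card_ge hle (by rw [card_cj])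
    refine ⟨1, Subgroup.one_mem _, ?_⟩
    rw [cj_one, heq]
  · exact ⟨g, by rw [h]; exact Subgroup.mem_top g, rfl⟩

/-- a proper subgroup of a finite simple group `G` has index `k` with `|G| ≤ k!`. -/
theorem card_le_factorial_index_of_simple [Finite G] [IsSimpleGroup G] (H : Subgroup G)
    (hH : H ≠ ⊤) : Nat.card G ≤ (H.index).factorial := by
  have hn : H.normalCore.Normal := Subgroup.normalCore_normal H
  rcases hn.eq_bot_or_eq_top with h | h
  · have hinj : Function.Injective (MulAction.toPermHom G (G ⧸ H)) := by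
      rw [← MonoidHom.ker_eq_bot_iff, ← Subgroup.normalCore_eq_ker, h]
    have h1 := Nat.card_le_card_of_injective _ hinj
    have h2 : Nat.card (Equiv.Perm (G ⧸ H)) = (H.index).factorial := by
      haveI : Fintype (G ⧸ H) := Fintype.ofFinite _
      classical
      rw [Nat.card_eq_fintype_card, Fintype.card_perm, ← Nat.card_eq_fintype_card]
      rfl
    rw [h2] at h1
    exact h1
  · exfalso
    apply hH
    have := Subgroup.normalCore_le H
    rw [h] at this
    exact top_le_iff.mp this

end general

/-- (L2) odd index subgroups of `A₅` are pronormal. -/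
theorem alt5_prn (H : Subgroup (alternatingGroup (Fin 5))) (hH : Odd H.index) :
    Cfsg.IsPronormal H := by
  have hcard : Nat.card (alternatingGroup (Fin 5)) = 60 := by
    have h2 := two_mul_nat_card_alternatingGroup (α := Fin 5)
    rw [Nat.card_perm] at h2
    have h5 : Nat.factorial (Nat.card (Fin 5)) = 120 := by
      rw [Nat.card_eq_fintype_card, Fintype.card_fin]; decide
    rw [h5] at h2
    omega
  haveI : Fact (Nat.Prime 2) := ⟨Nat.prime_two⟩
  have hmul : Nat.card H * H.index = 60 := by rw [H.card_mul_index, hcard]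
  have hdvd : H.index ∣ 60 := Dvd.intro_left _ hmul
  have hle : H.index ≤ 60 := Nat.le_of_dvd (by norm_num) hdvd
  have hcases : H.index = 1 ∨ H.index = 3 ∨ H.index = 5 ∨ H.index = 15 := by
    obtain ⟨m, hm⟩ := hH
    obtain ⟨d, hd⟩ := hdvd
    clear hmul
    generalize H.index = i at *
    interval_cases i <;> omega
  rcases hcases with h1 | h3 | h5 | h15
  · rw [Subgroup.index_eq_one] at h1
    rw [h1]; exact prn_top
  · exfalso
    haveI := alternatingGroup.isSimpleGroup_five
    have hne : H ≠ ⊤ := by
      intro h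
      rw [h, Subgroup.index_top] at h3
      omega
    have := card_le_factorial_index_of_simple H hne
    rw [hcard, h3] at this
    have h3' : Nat.factorial 3 = 6 := by decide
    omega
  · apply prn_of_maximal
    intro K hK
    have hKmul : Nat.card K * K.index = 60 := by rw [K.card_mul_index, hcard]
    have hHc : Nat.card H = 12 := by rw [h5] at hmul; omega
    have hdiv : Nat.card H ∣ Nat.card K := Subgroup.card_dvd_of_le hK
    rw [hHc] at hdiv
    have hKd : Nat.card K ∣ 60 := Dvd.intro _ hKmul
    have hKle : Nat.card K ≤ 60 := Nat.le_of_dvd (by norm_num) hKd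
    have hKc : Nat.card K = 12 ∨ Nat.card K = 60 := by
      obtain ⟨m, hm⟩ := hdiv
      obtain ⟨m', hm'⟩ := hKd
      clear hKmul
      generalize Nat.card K = c at *
      interval_cases c <;> omega
    rcases hKc with h | h
    · left
      exact (Subgroup.eq_of_le_of_card_ge hK (by rw [h, hHc])).symm
    · right
      apply Subgroup.eq_top_of_card_eq
      rw [h, hcard]
  · have hHc : Nat.card H = 4 := by rw [h15] at hmul; omega
    apply prn_of_isPGroup_of_not_dvd_index (p := 2) H
    · apply IsPGroup.of_card (n := 2)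
      rw [hHc]; norm_num
    · rw [h15]; norm_num

end Cfsg.Agent.helper19.PrnAlt
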