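import Mathlib
import Cfsg.Agent.Lib_helper21_Prn1
import Cfsg.Agent.Lib_helper21_SylPerm1
import Cfsg.Agent.Lib_helper19_PrnAlt

set_option autoImplicit false
set_option linter.style.haveILetI false
set_option linter.deprecated false
set_option linter.unusedVariables false
set_option linter.unusedSectionVars false

namespace Cfsg.Agent.helper19.PrnAlt

open Cfsg Cfsg.Agent.helper21.Prn Cfsg.Agent.helper21.SylPerm Equiv

/-- a Sylow `2`-subgroup of `Perm (Fin n)` satisfies `IsSyl`. -/
theorem isSyl_of_sylow (n : ℕ) [Fact (Nat.Prime 2)] (S : Sylow 2 (Perm (Fin n))) :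
    IsSyl (S : Subgroup (Perm (Fin n))) := by
  refine ⟨S.isPGroup', ?_⟩
  rw [Sylow.card_eq_multiplicity, Nat.card_perm, Nat.factorization_def _ Nat.prime_two]
  rfl

/-- a `2`-element normalizing a Sylow `2`-subgroup lies in it. -/
theorem mem_sylow_of_mem_normalizer_of_pow {G : Type*} [Group G] [Fact (Nat.Prime 2)]
    (P : Sylow 2 G) (x : G) (hx : x ∈ Subgroup.normalizer ((P : Subgroup G) : Set G))
    (a : ℕ) (hxa : x ^ (2 ^ a) = 1) : x ∈ (P : Subgroup G) := by
  have hz : IsPGroup 2 (Subgroup.zpowers x) := by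
    intro y
    obtain ⟨y, hy⟩ := y
    obtain ⟨k, rfl⟩ := Subgroup.mem_zpowers_iff.mp hy
    refine ⟨a, ?_⟩
    apply Subtype.ext
    simp only [Subgroup.coe_pow, Subgroup.coe_one]
    rw [← zpow_natCast, ← zpow_mul, mul_comm, zpow_mul, zpow_natCast, hxa, one_zpow]
  have hle : Subgroup.zpowers x ≤ Subgroup.normalizer ((P : Subgroup G) : Set G) := by
    rw [Subgroup.zpowers_le]; exact hx
  have hsup : IsPGroup 2 (Subgroup.zpowers x ⊔ (P : Subgroup G) : Subgroup G) :=
    IsPGroup.to_sup_of_normal_right' hz P.isPGroup' hle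
  have heq := P.is_maximal' hsup le_sup_right
  have : x ∈ Subgroup.zpowers x ⊔ (P : Subgroup G) :=
    le_sup_left (α := Subgroup G) (Subgroup.mem_zpowers x)
  rw [heq] at this
  exact this

/-- final assembly for S2222 from `BStarStmt`. -/
theorem s2222_of_BStar (hB : BStarStmt.{0}) (n : ℕ) (hn : 5 ≤ n)
    (H : Subgroup (alternatingGroup (Fin n))) (hH : Odd H.index) : Cfsg.IsPronormal H := by
  rcases Nat.eq_or_lt_of_le hn with h5 | h6
  · subst h5
    exact alt5_prn H hH
  haveI : Fact (Nat.Prime 2) := ⟨Nat.prime_two⟩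
  have hnd : ¬ 2 ∣ H.index := by
    intro hd
    exact (Nat.not_even_iff_odd.mpr hH) (even_iff_two_dvd.mpr hd)
  obtain ⟨P, hPH⟩ := (exists_sylow_le_iff 2 H).mpr hnd
  apply prn_of_sylow_normalizer_le H P hPH
  refine le_trans ?_ hPH
  -- show N_A(P) ≤ P
  intro x hx
  obtain ⟨P', hP'⟩ : ∃ P' : Subgroup (Perm (Fin n)),
      P' = (P : Subgroup (alternatingGroup (Fin n))).map (alternatingGroup (Fin n)).subtype :=
    ⟨_, rfl⟩
  have hP'pg : IsPGroup 2 P' := by rw [hP']; exact P.isPGroup'.map _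
  obtain ⟨S, hS⟩ := hP'pg.exists_le_sylow
  have hSyl : IsSyl (S : Subgroup (Perm (Fin n))) := isSyl_of_sylow n S
  have hP'A : P' ≤ alternatingGroup (Fin n) := by
    rw [hP']
    rintro _ ⟨y, _, rfl⟩
    exact y.2
  have hinf : (S : Subgroup (Perm (Fin n))) ⊓ Alt (Fin n) = P' := by
    rw [Alt_eq]
    apply le_antisymm
    · rintro y ⟨hyS, hyA⟩
      have hQ : IsPGroup 2 ((S : Subgroup (Perm (Fin n))).comap
          (alternatingGroup (Fin n)).subtype) :=
        S.isPGroup'.comap_of_injective _ (alternatingGroup (Fin n)).subtype_injective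
      have hPQ : (P : Subgroup (alternatingGroup (Fin n))) ≤
          (S : Subgroup (Perm (Fin n))).comap (alternatingGroup (Fin n)).subtype := by
        intro z hz
        rw [Subgroup.mem_comap]
        apply hS
        rw [hP']
        exact ⟨z, hz, rfl⟩
      have heq := P.is_maximal' hQ hPQ
      have hy : (⟨y, hyA⟩ : alternatingGroup (Fin n)) ∈
          (S : Subgroup (Perm (Fin n))).comap (alternatingGroup (Fin n)).subtype := by
        rw [Subgroup.mem_comap]; exact hyS
      rw [heq] at hy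
      rw [hP']
      exact ⟨⟨y, hyA⟩, hy, rfl⟩
    · exact le_inf hS hP'A
  -- x.1 normalizes P'
  have hxN : (x : Perm (Fin n)) ∈ Subgroup.normalizer ((P' : Subgroup (Perm (Fin n))) :
      Set (Perm (Fin n))) := by
    apply mem_normalizer_of_conj_mem
    rw [hP']
    rintro _ ⟨y, hy, rfl⟩
    refine ⟨x * y * x⁻¹, ?_, ?_⟩
    · exact (Subgroup.mem_normalizer_iff.mp hx y).mp hy
    · simp
  obtain ⟨a, b, hb, hab⟩ := Nat.exists_eq_two_pow_mul_odd (n := orderOf (x : Perm (Fin n)))
    (orderOf_pos _).ne'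
  have hyo : orderOf ((x : Perm (Fin n)) ^ (2 ^ a)) = b := by
    rw [orderOf_pow' _ (by positivity), hab, Nat.gcd_eq_right (Dvd.intro _ rfl)]
    exact Nat.mul_div_cancel_left _ (by positivity)
  have hyN : (x : Perm (Fin n)) ^ (2 ^ a) ∈ Subgroup.normalizer
      (((S : Subgroup (Perm (Fin n))) ⊓ Alt (Fin n) : Subgroup (Perm (Fin n))) :
        Set (Perm (Fin n))) := by
    rw [hinf]
    exact Subgroup.pow_mem _ hxN _
  have hcard : 6 ≤ Nat.card (Fin n) := by
    rw [Nat.card_eq_fintype_card, Fintype.card_fin]; omega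
  have hy1 := hB (Fin n) hcard (S : Subgroup (Perm (Fin n))) hSyl _ (by rw [hyo]; exact hb) hyN
  have hx1 : x ^ (2 ^ a) = 1 := by
    apply Subtype.ext
    simpa using hy1
  exact mem_sylow_of_mem_normalizer_of_pow P x hx a hx1

end Cfsg.Agent.helper19.PrnAlt
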