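import Mathlib
import Cfsg.Agent.Lib_helper21_SylPerm1

set_option autoImplicit false
set_option linter.style.haveILetI false
set_option linter.deprecated false
set_option linter.unusedVariables false
set_option linter.unusedSectionVars false

namespace Cfsg.Agent.helper19.PrnAlt

open Cfsg.Agent.helper21.SylPerm Equiv

universe u
variable {α : Type u}

/-- an odd element of `S` fixing the orbit of `x` pointwise, given two "big" distinct orbits. -/
theorem exists_odd_fixing_orbit [Finite α] {S : Subgroup (Perm α)} (hS : IsSyl S) (x₁ x₂ : α)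
    (hne : MulAction.orbit S x₁ ≠ MulAction.orbit S x₂)
    (h1 : 2 ≤ (MulAction.orbit S x₁).ncard) (h2 : 2 ≤ (MulAction.orbit S x₂).ncard) (x : α) :
    ∃ b ∈ S, sgn α b = -1 ∧ ∀ y ∈ MulAction.orbit S x, b y = y := by
  have key : ∀ xi : α, MulAction.orbit S xi ≠ MulAction.orbit S x →
      2 ≤ (MulAction.orbit S xi).ncard →
      ∃ b ∈ S, sgn α b = -1 ∧ ∀ y ∈ MulAction.orbit S x, b y = y := by
    intro xi hxi hcard
    have hc : 2 ≤ Nat.card {y // (fun y => y ∈ MulAction.orbit S xi) y} := by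
      have : Nat.card {y // (fun y => y ∈ MulAction.orbit S xi) y}
          = (MulAction.orbit S xi).ncard := Nat.card_coe_set_eq _
      rw [this]; exact hcard
    obtain ⟨b, hbS, hbfix, hbsgn⟩ := exists_odd_supported hS (le_stabP_orbit S xi) hc
    refine ⟨b, hbS, hbsgn, ?_⟩
    intro y hy
    apply hbfix
    intro hy'
    apply hxi
    exact (orbit_eq_of_mem hy').symm.trans (orbit_eq_of_mem hy)
  by_cases h : MulAction.orbit S x₁ = MulAction.orbit S x
  · apply key x₂ _ h2
    intro h'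
    exact hne (h.trans h'.symm)
  · exact key x₁ h h1

/-- the orbits of `S ⊓ Alt α` and `S` coincide. -/
theorem orbit_inf_Alt_eq [Finite α] {S : Subgroup (Perm α)} (hS : IsSyl S) (x₁ x₂ : α)
    (hne : MulAction.orbit S x₁ ≠ MulAction.orbit S x₂)
    (h1 : 2 ≤ (MulAction.orbit S x₁).ncard) (h2 : 2 ≤ (MulAction.orbit S x₂).ncard) (y : α) :
    MulAction.orbit (S ⊓ Alt α : Subgroup (Perm α)) y = MulAction.orbit S y := by
  ext z
  rw [mem_orbit, mem_orbit]
  constructor
  · rintro ⟨q, hq, rfl⟩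
    exact ⟨q, hq.1, rfl⟩
  · rintro ⟨s, hs, rfl⟩
    rcases sgn_cases s with h | h
    · exact ⟨s, ⟨hs, mem_Alt.mpr h⟩, rfl⟩
    · obtain ⟨b, hbS, hbsgn, hbfix⟩ := exists_odd_fixing_orbit hS x₁ x₂ hne h1 h2 y
      refine ⟨s * b, ⟨S.mul_mem hs hbS, ?_⟩, ?_⟩
      · show s * b ∈ Alt α
        rw [mem_Alt, map_mul, h, hbsgn]; simp
      · rw [Perm.mul_apply, hbfix y (self_mem_orbit S y)]

/-- an element normalizing `Q` permutes the `Q`-orbits. -/
theorem orbit_map_of_mem_normalizer {Q : Subgroup (Perm α)} {g : Perm α}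
    (hg : g ∈ Subgroup.normalizer (Q : Set (Perm α))) (y : α) :
    MulAction.orbit Q (g y) = g '' MulAction.orbit Q y := by
  ext z
  rw [mem_orbit]
  constructor
  · rintro ⟨q, hq, rfl⟩
    refine ⟨(g⁻¹ * q * g) y, ?_, by simp [Perm.mul_apply]⟩
    rw [mem_orbit]
    refine ⟨g⁻¹ * q * g, ?_, rfl⟩
    have := (Subgroup.mem_normalizer_iff'.mp hg (g⁻¹ * q * g))
    have e : g * (g⁻¹ * q * g) = q * g := by group
    have hginv : g⁻¹ ∈ Subgroup.normalizer (Q : Set (Perm α)) := Subgroup.inv_mem _ hg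
    have h2 := (Subgroup.mem_normalizer_iff.mp hginv q).mp hq
    simpa using h2
  · rintro ⟨w, hw, rfl⟩
    rw [mem_orbit] at hw
    obtain ⟨q, hq, rfl⟩ := hw
    refine ⟨g * q * g⁻¹, (Subgroup.mem_normalizer_iff.mp hg q).mp hq, by simp [Perm.mul_apply]⟩

/-- PIECE 2: Theorem A implies B1. -/
theorem bOne (hA : ThmAStmt.{u}) : BOneStmt.{u} := by
  intro α _ S hS x₁ x₂ hne h1 h2 g hg hgN
  have horb : ∀ y : α, MulAction.orbit S (g y) = MulAction.orbit S y := by
    intro y
    apply orbit_eq_of_ncard_eq hS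
    rw [← orbit_inf_Alt_eq hS x₁ x₂ hne h1 h2 (g y), ← orbit_inf_Alt_eq hS x₁ x₂ hne h1 h2 y,
      orbit_map_of_mem_normalizer hgN y]
    exact Set.ncard_image_of_injective _ g.injective
  ext x
  show g x = x
  -- restrict to the orbit of x
  have hQ : S ≤ stabP (fun y => y ∈ MulAction.orbit S x) := le_stabP_orbit S x
  have hgst : g ∈ stabP (fun y => y ∈ MulAction.orbit S x) := by
    intro y
    show g y ∈ MulAction.orbit S x ↔ y ∈ MulAction.orbit S x
    constructor
    · intro h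
      have e1 := orbit_eq_of_mem h
      rw [horb y] at e1
      rw [← e1]; exact self_mem_orbit S y
    · intro h
      have e1 := orbit_eq_of_mem h
      rw [← e1, ← horb y]; exact self_mem_orbit S (g y)
  obtain ⟨hsylO, -, -⟩ := syl_res hS hQ
  -- the restriction of g
  obtain ⟨r, hr⟩ : ∃ r : Perm {y // (fun y => y ∈ MulAction.orbit S x) y},
      r = resP _ ⟨g, hgst⟩ := ⟨_, rfl⟩
  have hrN : r ∈ Subgroup.normalizer ((rP hQ).range : Set (Perm _)) := by
    apply mem_normalizer_of_conj_mem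
    rintro _ ⟨s, rfl⟩
    -- replace s by an element of S ⊓ Alt with the same restriction
    obtain ⟨s', hs'P, hs'eq⟩ : ∃ s' : S, (s' : Perm α) ∈ (S ⊓ Alt α : Subgroup (Perm α)) ∧
        rP hQ s' = rP hQ s := by
      rcases sgn_cases (s : Perm α) with h | h
      · exact ⟨s, ⟨s.2, mem_Alt.mpr h⟩, rfl⟩
      · obtain ⟨b, hbS, hbsgn, hbfix⟩ := exists_odd_fixing_orbit hS x₁ x₂ hne h1 h2 x
        refine ⟨s * ⟨b, hbS⟩, ⟨(s * ⟨b, hbS⟩).2, ?_⟩, ?_⟩
        · show (s : Perm α) * b ∈ Alt α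
          rw [mem_Alt, map_mul, h, hbsgn]; simp
        · rw [map_mul]
          have : rP hQ ⟨b, hbS⟩ = 1 := by
            ext y
            show b y.1 = y.1
            exact hbfix y.1 y.2
          rw [this, mul_one]
    rw [← hs'eq]
    have hconj : g * (s' : Perm α) * g⁻¹ ∈ (S ⊓ Alt α : Subgroup (Perm α)) :=
      (Subgroup.mem_normalizer_iff.mp hgN _).mp hs'P
    refine ⟨⟨g * (s' : Perm α) * g⁻¹, hconj.1⟩, ?_⟩
    have e : r⁻¹ = resP _ ⟨g⁻¹, (stabP _).inv_mem hgst⟩ := by
      rw [hr, ← map_inv]; rfl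
    rw [e, hr]
    ext y
    rfl
  have hrodd : Odd (orderOf r) := by
    have hd : orderOf r ∣ orderOf g := by
      rw [hr]
      have h1 := orderOf_map_dvd (resP (fun y => y ∈ MulAction.orbit S x))
        (⟨g, hgst⟩ : stabP (fun y => y ∈ MulAction.orbit S x))
      have h2 : orderOf (⟨g, hgst⟩ : stabP (fun y => y ∈ MulAction.orbit S x)) = orderOf g :=
        Subgroup.orderOf_mk g hgst
      rw [h2] at h1
      exact h1
    exact Odd.of_dvd_nat hg hd
  have hr1 := hA _ _ hsylO r hrodd hrN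
  have := congrArg (fun e : Perm {y // (fun y => y ∈ MulAction.orbit S x) y} =>
    ((e ⟨x, self_mem_orbit S x⟩ : {y // (fun y => y ∈ MulAction.orbit S x) y}) : α)) hr1
  rw [hr] at this
  simpa using this

end Cfsg.Agent.helper19.PrnAlt
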