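import Mathlib

set_option linter.style.haveILetI false
set_option linter.deprecated false
set_option linter.unusedVariables false
set_option linter.unusedSectionVars false
set_option autoImplicit false

/-! Sylow 2-subgroup `Q × R` with `Q` generalized quaternion and all involutions of `R`
central in `R`: the product of the `N_G(S)`-conjugates of the involution of `Q` is an
isolated involution. -/

namespace Cfsg.Agent.helper19.QR

open QuaternionGroup

/-- In `ZMod (2m)`, `2 i = 0` and `i ≠ 0` force `i = m`. -/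
theorem zmod_two_mul_eq_zero {m : ℕ} [NeZero m] (i : ZMod (2 * m)) (h : 2 * i = 0)
    (hi : i ≠ 0) : i = (m : ZMod (2 * m)) := by
  have hm : 0 < m := Nat.pos_of_ne_zero (NeZero.ne m)
  have hv := ZMod.val_lt i
  have h2 : ((2 * i.val : ℕ) : ZMod (2 * m)) = 0 := by
    push_cast
    rw [ZMod.natCast_val, ZMod.cast_id]
    exact h
  rw [ZMod.natCast_eq_zero_iff] at h2
  have h3 : m ∣ i.val := (Nat.mul_dvd_mul_iff_left two_pos).mp h2
  obtain ⟨k, hk⟩ := h3
  have hk0 : k ≠ 0 := by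
    rintro rfl
    rw [Nat.mul_zero] at hk
    exact hi ((ZMod.val_eq_zero i).mp hk)
  have hk2 : k < 2 := by
    by_contra hcon
    push Not at hcon
    have : 2 * m ≤ m * k := by nlinarith
    omega
  have hk1 : k = 1 := by omega
  rw [← ZMod.natCast_zmod_val i, hk, hk1, mul_one]

theorem a_pow' {m : ℕ} (i : ZMod (2 * m)) (k : ℕ) :
    (a i : QuaternionGroup m) ^ k = a ((k : ZMod (2 * m)) * i) := by
  induction k with
  | zero => rw [pow_zero, Nat.cast_zero, zero_mul, one_def]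
  | succ k ih =>
    rw [pow_succ, ih, a_mul_a]
    congr 1
    push_cast
    ring

/-- the central involution of the quaternion group -/
noncomputable def z0 (m : ℕ) : QuaternionGroup m := a (m : ZMod (2 * m))

theorem z0_eq_xa_sq (m : ℕ) : z0 m = (xa 0 : QuaternionGroup m) ^ 2 := by
  rw [xa_sq]; rfl

theorem z0_ne_one (m : ℕ) [NeZero m] : z0 m ≠ 1 := by
  intro h
  rw [z0_eq_xa_sq] at h
  have h4 := orderOf_xa (n := m) 0
  have := orderOf_dvd_of_pow_eq_one h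
  rw [h4] at this
  omega

theorem z0_mul_self (m : ℕ) [NeZero m] : z0 m * z0 m = 1 := by
  rw [z0_eq_xa_sq, ← pow_add]
  exact xa_pow_four 0

theorem exists_pow_eq_z0 (n : ℕ) (x : QuaternionGroup (2 ^ n)) (hx : x ≠ 1) :
    ∃ k : ℕ, x ^ k = z0 (2 ^ n) := by
  haveI : NeZero (2 ^ n) := ⟨by positivity⟩
  cases x with
  | xa i => exact ⟨2, by rw [xa_sq]; rfl⟩
  | a i =>
    have hpow : (a i : QuaternionGroup (2 ^ n)) ^ (2 ^ (n + 1)) = 1 := by
      rw [a_pow', one_def]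
      congr 1
      have : ((2 ^ (n + 1) : ℕ) : ZMod (2 * 2 ^ n)) = 0 := by
        rw [ZMod.natCast_eq_zero_iff, pow_succ, mul_comm]
      rw [this, zero_mul]
    have hord : orderOf (a i : QuaternionGroup (2 ^ n)) ∣ 2 ^ (n + 1) :=
      orderOf_dvd_of_pow_eq_one hpow
    obtain ⟨j, hj, hoj⟩ := (Nat.dvd_prime_pow Nat.prime_two).mp hord
    have hj0 : j ≠ 0 := by
      rintro rfl
      rw [pow_zero, orderOf_eq_one_iff] at hoj
      exact hx hoj
    obtain ⟨j', rfl⟩ : ∃ j', j = j' + 1 := ⟨j - 1, by omega⟩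
    refine ⟨2 ^ j', ?_⟩
    have hy1 : (a i : QuaternionGroup (2 ^ n)) ^ (2 ^ j') ≠ 1 := by
      apply pow_ne_one_of_lt_orderOf (by positivity)
      rw [hoj, pow_succ]
      have : 0 < 2 ^ j' := by positivity
      omega
    have hy2 : ((a i : QuaternionGroup (2 ^ n)) ^ (2 ^ j')) ^ 2 = 1 := by
      rw [← pow_mul, ← pow_succ, ← hoj]
      exact pow_orderOf_eq_one _
    rw [a_pow'] at hy1 hy2 ⊢
    rw [a_pow', one_def] at hy2
    have h2 : (2 : ZMod (2 * 2 ^ n)) * (((2 ^ j' : ℕ) : ZMod (2 * 2 ^ n)) * i) = 0 := by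
      have := QuaternionGroup.a.inj hy2
      push_cast at this ⊢
      exact this
    have hne : (((2 ^ j' : ℕ) : ZMod (2 * 2 ^ n)) * i) ≠ 0 := by
      intro h0
      apply hy1
      rw [h0, one_def]
    have := zmod_two_mul_eq_zero _ h2 hne
    rw [this]
    rfl

theorem exists_comm_eq_z0 (n : ℕ) (hn : 1 ≤ n) :
    ∃ x y : QuaternionGroup (2 ^ n), x * y * x⁻¹ * y⁻¹ = z0 (2 ^ n) := by
  obtain ⟨n', rfl⟩ : ∃ n', n = n' + 1 := ⟨n - 1, by omega⟩
  refine ⟨a ((2 ^ n' : ℕ) : ZMod (2 * 2 ^ (n' + 1))), xa 0, ?_⟩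
  have h : (a ((2 ^ n' : ℕ) : ZMod (2 * 2 ^ (n' + 1))) : QuaternionGroup (2 ^ (n' + 1))) * xa 0
      = z0 (2 ^ (n' + 1)) * xa 0 * a ((2 ^ n' : ℕ) : ZMod (2 * 2 ^ (n' + 1))) := by
    unfold z0
    rw [a_mul_xa, a_mul_xa, xa_mul_a]
    congr 1
    have : ((2 ^ (n' + 1) : ℕ) : ZMod (2 * 2 ^ (n' + 1)))
        = ((2 ^ n' : ℕ) : ZMod (2 * 2 ^ (n' + 1))) + ((2 ^ n' : ℕ) : ZMod (2 * 2 ^ (n' + 1))) := by
      rw [← Nat.cast_add]
      congr 1
      rw [pow_succ]; ring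
    rw [this]
    ring
  rw [h]
  group

/-- The properties of the pair (generalized quaternion subgroup, its involution) that we use. -/
structure QuatLike {G : Type*} [Group G] (Q : Subgroup G) (z : G) : Prop where
  mem : z ∈ Q
  ne_one : z ≠ 1
  sq : z * z = 1
  pow : ∀ a ∈ Q, a ≠ 1 → ∃ k : ℕ, a ^ k = z
  comm : ∃ x ∈ Q, ∃ y ∈ Q, x * y * x⁻¹ * y⁻¹ = z

theorem quatLike_of_equiv {G : Type*} [Group G] (Q : Subgroup G) (n : ℕ) (hn : 1 ≤ n)
    (eQ : ↥Q ≃* QuaternionGroup (2 ^ n)) :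
    ∃ z : G, QuatLike Q z := by
  haveI : NeZero (2 ^ n) := ⟨by positivity⟩
  refine ⟨((eQ.symm (z0 (2 ^ n)) : ↥Q) : G), ?_⟩
  refine ⟨(eQ.symm (z0 (2 ^ n))).2, ?_, ?_, ?_, ?_⟩
  · intro h
    have h1 : eQ.symm (z0 (2 ^ n)) = 1 := Subtype.ext h
    have h2 : z0 (2 ^ n) = 1 := by
      have := congrArg eQ h1
      simpa using this
    exact z0_ne_one _ h2
  · have h1 : eQ.symm (z0 (2 ^ n)) * eQ.symm (z0 (2 ^ n)) = 1 := by
      rw [← map_mul, z0_mul_self, map_one]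
    have := congrArg (Subtype.val) h1
    simpa using this
  · intro x hx hx1
    have hx1' : eQ ⟨x, hx⟩ ≠ 1 := by
      intro h
      apply hx1
      have : (⟨x, hx⟩ : ↥Q) = 1 := by
        have := congrArg eQ.symm h
        simpa using this
      exact congrArg Subtype.val this
    obtain ⟨k, hk⟩ := exists_pow_eq_z0 n _ hx1'
    refine ⟨k, ?_⟩
    have h1 : (⟨x, hx⟩ : ↥Q) ^ k = eQ.symm (z0 (2 ^ n)) := by
      rw [← hk, map_pow]; simp
    have := congrArg Subtype.val h1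
    simpa using this
  · obtain ⟨x, y, hxy⟩ := exists_comm_eq_z0 n hn
    refine ⟨(eQ.symm x : ↥Q), (eQ.symm x).2, (eQ.symm y : ↥Q), (eQ.symm y).2, ?_⟩
    have h1 : eQ.symm x * eQ.symm y * (eQ.symm x)⁻¹ * (eQ.symm y)⁻¹ = eQ.symm (z0 (2 ^ n)) := by
      rw [← hxy]; simp
    have := congrArg Subtype.val h1
    simpa using this

section QL

variable {G : Type*} [Group G] {Q : Subgroup G} {z : G}

theorem QuatLike.unique_invol (h : QuatLike Q z) (x : G) (hx : x ∈ Q) (hx2 : x * x = 1) :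
    x = 1 ∨ x = z := by
  by_cases hx1 : x = 1
  · exact Or.inl hx1
  right
  obtain ⟨k, hk⟩ := h.pow x hx hx1
  have hsq : x ^ 2 = 1 := by rw [pow_two]; exact hx2
  have hk' : x ^ k = x ^ (k % 2) := by
    conv_lhs => rw [← Nat.div_add_mod k 2, pow_add, pow_mul, hsq, one_pow, one_mul]
  rcases Nat.mod_two_eq_zero_or_one k with h0 | h1
  · rw [h0, pow_zero] at hk'
    exact absurd (hk.symm.trans hk') h.ne_one
  · rw [h1, pow_one] at hk'
    exact hk'.symm.trans hk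

theorem QuatLike.central (h : QuatLike Q z) (x : G) (hx : x ∈ Q) : x * z = z * x := by
  have hb : x * z * x⁻¹ ∈ Q := Q.mul_mem (Q.mul_mem hx h.mem) (Q.inv_mem hx)
  have hb2 : (x * z * x⁻¹) * (x * z * x⁻¹) = 1 := by
    have : (x * z * x⁻¹) * (x * z * x⁻¹) = x * (z * z) * x⁻¹ := by group
    rw [this, h.sq]; group
  rcases h.unique_invol _ hb hb2 with h1 | h1
  · exfalso
    apply h.ne_one
    have : z = x⁻¹ * (x * z * x⁻¹) * x := by group
    rw [this, h1]; group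
  · calc x * z = (x * z * x⁻¹) * x := by group
      _ = z * x := by rw [h1]

end QL


section DP

variable {G : Type*} [Group G] {P Q R : Subgroup G}

/-- data of an internal direct product `P = Q × R` -/
structure DP (Q R P : Subgroup G) : Prop where
  hQP : Q ≤ P
  hRP : R ≤ P
  hcomm : ∀ a ∈ Q, ∀ b ∈ R, a * b = b * a
  hdisj : Q ⊓ R = ⊥
  hsup : Q ⊔ R = P

theorem DP.decomp (h : DP Q R P) (x : G) (hx : x ∈ P) : ∃ a ∈ Q, ∃ b ∈ R, x = a * b := by
  let M : Subgroup G :=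
    { carrier := {x | ∃ a ∈ Q, ∃ b ∈ R, x = a * b}
      mul_mem' := by
        rintro x y ⟨a, ha, b, hb, rfl⟩ ⟨a', ha', b', hb', rfl⟩
        refine ⟨a * a', Q.mul_mem ha ha', b * b', R.mul_mem hb hb', ?_⟩
        have := h.hcomm a' ha' b hb
        calc a * b * (a' * b') = a * (b * a') * b' := by group
          _ = a * (a' * b) * b' := by rw [this]
          _ = a * a' * (b * b') := by group
      one_mem' := ⟨1, Q.one_mem, 1, R.one_mem, by simp⟩
      inv_mem' := by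
        rintro x ⟨a, ha, b, hb, rfl⟩
        refine ⟨a⁻¹, Q.inv_mem ha, b⁻¹, R.inv_mem hb, ?_⟩
        have := h.hcomm a⁻¹ (Q.inv_mem ha) b⁻¹ (R.inv_mem hb)
        rw [mul_inv_rev, this] }
  have hQM : Q ≤ M := fun a ha => ⟨a, ha, 1, R.one_mem, by simp⟩
  have hRM : R ≤ M := fun b hb => ⟨1, Q.one_mem, b, hb, by simp⟩
  have : P ≤ M := by rw [← h.hsup]; exact sup_le hQM hRM
  exact this hx

theorem DP.disj (h : DP Q R P) (x : G) (hxQ : x ∈ Q) (hxR : x ∈ R) : x = 1 := by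
  have : x ∈ Q ⊓ R := ⟨hxQ, hxR⟩
  rw [h.hdisj] at this
  exact Subgroup.mem_bot.mp this

theorem DP.conj_Q (h : DP Q R P) (s : G) (hs : s ∈ P) (a : G) (ha : a ∈ Q) :
    s * a * s⁻¹ ∈ Q := by
  obtain ⟨a', ha', b', hb', rfl⟩ := h.decomp s hs
  have h1 : b' * a * b'⁻¹ = a := by
    rw [← h.hcomm a ha b' hb']; group
  have h2 : a' * b' * a * (a' * b')⁻¹ = a' * (b' * a * b'⁻¹) * a'⁻¹ := by group
  rw [h2, h1]
  exact Q.mul_mem (Q.mul_mem ha' ha) (Q.inv_mem ha')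

theorem DP.conj_R (h : DP Q R P) (s : G) (hs : s ∈ P) (r : G) (hr : r ∈ R) :
    s * r * s⁻¹ ∈ R := by
  obtain ⟨a', ha', b', hb', rfl⟩ := h.decomp s hs
  have hbr : b' * r * b'⁻¹ ∈ R := R.mul_mem (R.mul_mem hb' hr) (R.inv_mem hb')
  have h1 : a' * (b' * r * b'⁻¹) * a'⁻¹ = b' * r * b'⁻¹ := by
    rw [h.hcomm a' ha' _ hbr]; group
  have h2 : a' * b' * r * (a' * b')⁻¹ = a' * (b' * r * b'⁻¹) * a'⁻¹ := by group
  rw [h2, h1]
  exact hbr

/-- an element of `P` commuting with `Q` and `R` elementwise is central in `P` -/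
theorem DP.central_of (h : DP Q R P) (s : G) (hQ : ∀ a ∈ Q, s * a = a * s)
    (hR : ∀ b ∈ R, s * b = b * s) (t : G) (ht : t ∈ P) : s * t = t * s := by
  obtain ⟨a, ha, b, hb, rfl⟩ := h.decomp t ht
  calc s * (a * b) = (s * a) * b := by group
    _ = a * (s * b) := by rw [hQ a ha]; group
    _ = a * b * s := by rw [hR b hb]; group

variable {z : G}

/-- all involutions of `P` are central in `P` -/
theorem DP.invol_central (h : DP Q R P) (hq : QuatLike Q z)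
    (hR : ∀ r ∈ R, orderOf r = 2 → ∀ s ∈ R, r * s = s * r)
    (s : G) (hs : s ∈ P) (hs2 : s * s = 1) (t : G) (ht : t ∈ P) : s * t = t * s := by
  obtain ⟨a, ha, b, hb, rfl⟩ := h.decomp s hs
  have hab := h.hcomm a ha b hb
  have h1 : a * a * (b * b) = 1 := by
    calc a * a * (b * b) = a * (a * b) * b := by group
      _ = a * (b * a) * b := by rw [hab]
      _ = (a * b) * (a * b) := by group
      _ = 1 := hs2
  have haa : a * a = (b * b)⁻¹ := eq_inv_of_mul_eq_one_left h1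
  have haa1 : a * a = 1 := h.disj _ (Q.mul_mem ha ha) (by
    rw [haa]; exact R.inv_mem (R.mul_mem hb hb))
  have hbb1 : b * b = 1 := by rw [haa1, one_mul] at h1; exact h1
  -- `a` is central in `Q`
  have haQ : ∀ q ∈ Q, a * q = q * a := by
    intro q hqQ
    rcases hq.unique_invol a ha haa1 with rfl | rfl
    · simp
    · exact (hq.central q hqQ).symm
  -- `b` is central in `R`
  have hbR : ∀ r ∈ R, b * r = r * b := by
    intro r hr
    by_cases hb1 : b = 1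
    · subst hb1; simp
    · have : orderOf b = 2 := orderOf_eq_prime (by rw [pow_two]; exact hbb1) hb1
      exact hR b hb this r hr
  apply h.central_of _ _ _ t ht
  · intro q hqQ
    calc a * b * q = a * (b * q) := by group
      _ = a * (q * b) := by rw [h.hcomm q hqQ b hb]
      _ = (a * q) * b := by group
      _ = q * a * b := by rw [haQ q hqQ]
      _ = q * (a * b) := by group
  · intro r hr
    calc a * b * r = a * (b * r) := by group
      _ = a * (r * b) := by rw [hbR r hr]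
      _ = (a * r) * b := by group
      _ = r * a * b := by rw [h.hcomm a ha r hr]
      _ = r * (a * b) := by group

/-- Key lemma: a conjugate of `z` by an element normalizing `P` is `z` or lies in `R`. -/
theorem DP.key (h : DP Q R P) (hq : QuatLike Q z) (g : G)
    (hg : g ∈ Subgroup.normalizer (P : Set G)) :
    g * z * g⁻¹ = z ∨ g * z * g⁻¹ ∈ R := by
  have hgP : ∀ s, s ∈ P → g * s * g⁻¹ ∈ P := fun s hs =>
    ((Subgroup.mem_normalizer_iff.mp hg) s).mp hs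
  have hgP' : ∀ s, s ∈ P → g⁻¹ * s * g ∈ P := fun s hs => by
    have := ((Subgroup.mem_normalizer_iff.mp (Subgroup.inv_mem _ hg)) s).mp hs
    rwa [inv_inv] at this
  by_cases hB : ∃ q ∈ Q, q ≠ 1 ∧ g * q * g⁻¹ ∈ R
  · -- type B
    right
    obtain ⟨q, hqQ, hq1, hqR⟩ := hB
    obtain ⟨k, hk⟩ := hq.pow q hqQ hq1
    have : g * z * g⁻¹ = (g * q * g⁻¹) ^ k := by
      rw [conj_pow, hk]
    rw [this]
    exact R.pow_mem hqR k
  · -- type A
    left
    push Not at hB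
    -- conjugates of `Q` centralize `R`
    have hcent : ∀ q ∈ Q, ∀ r ∈ R, (g * q * g⁻¹) * r = r * (g * q * g⁻¹) := by
      intro q hqQ r hr
      have hxP : g * q * g⁻¹ ∈ P := hgP q (h.hQP hqQ)
      -- the commutator
      have hcR : (g * q * g⁻¹) * r * (g * q * g⁻¹)⁻¹ * r⁻¹ ∈ R :=
        R.mul_mem (h.conj_R _ hxP r hr) (R.inv_mem hr)
      have hr'P : g⁻¹ * r * g ∈ P := hgP' r (h.hRP hr)
      have hq'' : (g⁻¹ * r * g) * q⁻¹ * (g⁻¹ * r * g)⁻¹ ∈ Q :=
        h.conj_Q _ hr'P q⁻¹ (Q.inv_mem hqQ)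
      have hform : (g * q * g⁻¹) * r * (g * q * g⁻¹)⁻¹ * r⁻¹
          = g * (q * ((g⁻¹ * r * g) * q⁻¹ * (g⁻¹ * r * g)⁻¹)) * g⁻¹ := by group
      have hqq : q * ((g⁻¹ * r * g) * q⁻¹ * (g⁻¹ * r * g)⁻¹) = 1 := by
        by_contra hne
        exact hB _ (Q.mul_mem hqQ hq'') hne (by rw [← hform]; exact hcR)
      have hc1 : (g * q * g⁻¹) * r * (g * q * g⁻¹)⁻¹ * r⁻¹ = 1 := by
        rw [hform, hqq]; group
      calc (g * q * g⁻¹) * r = ((g * q * g⁻¹) * r * (g * q * g⁻¹)⁻¹ * r⁻¹) * r * (g * q * g⁻¹) := by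
            group
        _ = r * (g * q * g⁻¹) := by rw [hc1]; group
    obtain ⟨x₀, hx₀, y₀, hy₀, hxy⟩ := hq.comm
    -- decompose `g x₀ g⁻¹`
    have hXP : g * x₀ * g⁻¹ ∈ P := hgP x₀ (h.hQP hx₀)
    have hYP : g * y₀ * g⁻¹ ∈ P := hgP y₀ (h.hQP hy₀)
    obtain ⟨a₁, ha₁, b₁, hb₁, hX⟩ := h.decomp _ hXP
    -- `b₁` is central in `P`
    have hb₁R : ∀ r ∈ R, b₁ * r = r * b₁ := by
      intro r hr
      have e1 : b₁ = a₁⁻¹ * (g * x₀ * g⁻¹) := by rw [hX]; group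
      have e2 := hcent x₀ hx₀ r hr
      have e3 := h.hcomm a₁⁻¹ (Q.inv_mem ha₁) r hr
      calc b₁ * r = a₁⁻¹ * ((g * x₀ * g⁻¹) * r) := by rw [e1]; group
        _ = a₁⁻¹ * (r * (g * x₀ * g⁻¹)) := by rw [e2]
        _ = (a₁⁻¹ * r) * (g * x₀ * g⁻¹) := by group
        _ = (r * a₁⁻¹) * (g * x₀ * g⁻¹) := by rw [e3]
        _ = r * (a₁⁻¹ * (g * x₀ * g⁻¹)) := by group
        _ = r * b₁ := by rw [← e1]
    have hb₁Q : ∀ q ∈ Q, b₁ * q = q * b₁ := fun q hqQ => (h.hcomm q hqQ b₁ hb₁).symm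
    have hb₁Y := h.central_of b₁ hb₁Q hb₁R _ hYP
    -- `g z g⁻¹ ∈ Q`
    have hzQ : g * z * g⁻¹ ∈ Q := by
      have e1 : g * z * g⁻¹
          = (g * x₀ * g⁻¹) * (g * y₀ * g⁻¹) * (g * x₀ * g⁻¹)⁻¹ * (g * y₀ * g⁻¹)⁻¹ := by
        rw [← hxy]; group
      have e2 : (g * x₀ * g⁻¹) * (g * y₀ * g⁻¹) * (g * x₀ * g⁻¹)⁻¹ * (g * y₀ * g⁻¹)⁻¹
          = a₁ * ((g * y₀ * g⁻¹) * a₁⁻¹ * (g * y₀ * g⁻¹)⁻¹) := by
        rw [hX]
        calc a₁ * b₁ * (g * y₀ * g⁻¹) * (a₁ * b₁)⁻¹ * (g * y₀ * g⁻¹)⁻¹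
            = a₁ * (b₁ * (g * y₀ * g⁻¹)) * b₁⁻¹ * a₁⁻¹ * (g * y₀ * g⁻¹)⁻¹ := by group
          _ = a₁ * ((g * y₀ * g⁻¹) * b₁) * b₁⁻¹ * a₁⁻¹ * (g * y₀ * g⁻¹)⁻¹ := by rw [hb₁Y]
          _ = a₁ * ((g * y₀ * g⁻¹) * a₁⁻¹ * (g * y₀ * g⁻¹)⁻¹) := by group
      rw [e1, e2]
      exact Q.mul_mem ha₁ (h.conj_Q _ hYP _ (Q.inv_mem ha₁))
    have hz2 : (g * z * g⁻¹) * (g * z * g⁻¹) = 1 := by
      have : (g * z * g⁻¹) * (g * z * g⁻¹) = g * (z * z) * g⁻¹ := by group
      rw [this, hq.sq]; group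
    rcases hq.unique_invol _ hzQ hz2 with h1 | h1
    · exfalso
      apply hq.ne_one
      have : z = g⁻¹ * (g * z * g⁻¹) * g := by group
      rw [this, h1]; group
    · exact h1


/-- the centre of `P`, as a subgroup of `G` -/
def ZP (P : Subgroup G) : Subgroup G := Subgroup.centralizer (P : Set G) ⊓ P

theorem mem_ZP {P : Subgroup G} {u : G} : u ∈ ZP P ↔ (∀ s ∈ P, s * u = u * s) ∧ u ∈ P := by
  unfold ZP
  rw [Subgroup.mem_inf, Subgroup.mem_centralizer_iff]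
  rfl

theorem ZP_comm (P : Subgroup G) : IsMulCommutative ↥(ZP P) :=
  ⟨⟨fun a b => Subtype.ext ((mem_ZP.mp b.2).1 a (mem_ZP.mp a.2).2)⟩⟩

theorem conj_mem_ZP {P : Subgroup G} {n : G} (hn : n ∈ Subgroup.normalizer (P : Set G))
    {u : G} (hu : u ∈ ZP P) : n * u * n⁻¹ ∈ ZP P := by
  rw [mem_ZP] at hu ⊢
  have hnP : ∀ s, s ∈ P → n * s * n⁻¹ ∈ P := fun s hs =>
    ((Subgroup.mem_normalizer_iff.mp hn) s).mp hs
  have hnP' : ∀ s, s ∈ P → n⁻¹ * s * n ∈ P := fun s hs => by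
    have := ((Subgroup.mem_normalizer_iff.mp (Subgroup.inv_mem _ hn)) s).mp hs
    rwa [inv_inv] at this
  refine ⟨?_, hnP u hu.2⟩
  intro s hs
  have := hu.1 _ (hnP' s hs)
  calc s * (n * u * n⁻¹) = n * ((n⁻¹ * s * n) * u) * n⁻¹ := by group
    _ = n * (u * (n⁻¹ * s * n)) * n⁻¹ := by rw [this]
    _ = n * u * n⁻¹ * s := by group

/-- conjugation by an element of the normalizer, as a permutation of the centre of `P` -/
def conjZP {P : Subgroup G} (n : G) (hn : n ∈ Subgroup.normalizer (P : Set G)) :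
    ↥(ZP P) ≃* ↥(ZP P) where
  toFun u := ⟨n * u * n⁻¹, conj_mem_ZP hn u.2⟩
  invFun u := ⟨n⁻¹ * u * n, by
    have := conj_mem_ZP (Subgroup.inv_mem _ hn) u.2
    rwa [inv_inv] at this⟩
  left_inv u := by
    apply Subtype.ext
    show n⁻¹ * (n * u * n⁻¹) * n = u
    group
  right_inv u := by
    apply Subtype.ext
    show n * (n⁻¹ * u * n) * n⁻¹ = u
    group
  map_mul' u v := by
    apply Subtype.ext
    show n * (u * v) * n⁻¹ = (n * u * n⁻¹) * (n * v * n⁻¹)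
    group

open scoped IsMulCommutative in
theorem exists_isolated [Finite G] (S : Sylow 2 G) (h : DP Q R (S : Subgroup G))
    (hq : QuatLike Q z) (hR : ∀ r ∈ R, orderOf r = 2 → ∀ s ∈ R, r * s = s * r) :
    ∃ w : G, orderOf w = 2 ∧ w ∈ S ∧ ∀ g : G, g * w * g⁻¹ ∈ S → g * w * g⁻¹ = w := by
  classical
  obtain ⟨P, hP⟩ : ∃ P : Subgroup G, P = (S : Subgroup G) := ⟨_, rfl⟩
  rw [← hP] at h
  haveI := ZP_comm P
  haveI : Fintype ↥(ZP P) := Fintype.ofFinite _
  have hzP : z ∈ P := h.hQP hq.mem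
  have hzZ : z ∈ ZP P := by
    rw [mem_ZP]
    exact ⟨fun s hs => (h.invol_central hq hR z hzP hq.sq s hs).symm, hzP⟩
  -- the orbit
  let O : Finset ↥(ZP P) := Finset.univ.filter
    (fun u => ∃ n ∈ Subgroup.normalizer (P : Set G), n * z * n⁻¹ = (u : G))
  have hO : ∀ u : ↥(ZP P), u ∈ O ↔ ∃ n ∈ Subgroup.normalizer (P : Set G), n * z * n⁻¹ = (u : G) := by
    intro u
    simp only [O, Finset.mem_filter, Finset.mem_univ, true_and]
  let z' : ↥(ZP P) := ⟨z, hzZ⟩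
  have hz'O : z' ∈ O := (hO z').mpr ⟨1, Subgroup.one_mem _, by simp [z']⟩
  let w' : ↥(ZP P) := ∏ u ∈ O, u
  -- invariance
  have hinv : ∀ n (hn : n ∈ Subgroup.normalizer (P : Set G)), conjZP n hn w' = w' := by
    intro n hn
    show conjZP n hn (∏ u ∈ O, u) = ∏ u ∈ O, u
    rw [map_prod]
    apply Finset.prod_equiv (conjZP n hn).toEquiv
    · intro u
      rw [hO, hO]
      constructor
      · rintro ⟨m, hm, hmu⟩
        refine ⟨n * m, Subgroup.mul_mem _ hn hm, ?_⟩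
        show n * m * z * (n * m)⁻¹ = n * (u : G) * n⁻¹
        rw [← hmu]; group
      · rintro ⟨m, hm, hmu⟩
        refine ⟨n⁻¹ * m, Subgroup.mul_mem _ (Subgroup.inv_mem _ hn) hm, ?_⟩
        have hmu' : m * z * m⁻¹ = n * (u : G) * n⁻¹ := hmu
        have : (u : G) = n⁻¹ * (n * (u : G) * n⁻¹) * n := by group
        rw [this, ← hmu']; group
    · intro u _
      rfl
  -- squares
  have hsq : ∀ u ∈ O, u ^ 2 = 1 := by
    intro u hu
    obtain ⟨n, hn, hnu⟩ := (hO u).mp hu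
    apply Subtype.ext
    show (u : G) ^ 2 = 1
    rw [← hnu, pow_two]
    have : (n * z * n⁻¹) * (n * z * n⁻¹) = n * (z * z) * n⁻¹ := by group
    rw [this, hq.sq]; group
  have hw2 : w' ^ 2 = 1 := by
    show (∏ u ∈ O, u) ^ 2 = 1
    rw [← Finset.prod_pow]
    exact Finset.prod_eq_one hsq
  -- decomposition
  have hdec : z' * ∏ u ∈ O.erase z', u = w' := Finset.mul_prod_erase O (fun u => u) hz'O
  have hrR : (∏ u ∈ O.erase z', u) ∈ R.subgroupOf (ZP P) := by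
    apply Subgroup.prod_mem
    intro u hu
    rw [Finset.mem_erase] at hu
    obtain ⟨n, hn, hnu⟩ := (hO u).mp hu.2
    rw [Subgroup.mem_subgroupOf, ← hnu]
    rcases h.key hq n hn with h1 | h1
    · exfalso
      apply hu.1
      apply Subtype.ext
      rw [← hnu, h1]
    · exact h1
  rw [Subgroup.mem_subgroupOf] at hrR
  obtain ⟨r, hr⟩ : ∃ r : G, r = ((∏ u ∈ O.erase z', u : ↥(ZP P)) : G) := ⟨_, rfl⟩
  rw [← hr] at hrR
  have hwzr : (w' : G) = z * r := by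
    rw [← hdec, hr]
    rfl
  have hw1 : (w' : G) ≠ 1 := by
    intro h1
    rw [hwzr] at h1
    apply hq.ne_one
    have hzr : z = r⁻¹ := eq_inv_of_mul_eq_one_left h1
    exact h.disj z hq.mem (by rw [hzr]; exact R.inv_mem hrR)
  have hw2' : (w' : G) ^ 2 = 1 := by
    have := congrArg Subtype.val hw2
    simpa using this
  have hwZ : (w' : G) ∈ ZP P := w'.2
  have hwP : (w' : G) ∈ P := (mem_ZP.mp hwZ).2
  refine ⟨(w' : G), orderOf_eq_prime hw2' hw1, by
    show (w' : G) ∈ (S : Subgroup G)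
    rw [← hP]; exact hwP, ?_⟩
  intro g hg
  replace hg : g * (w' : G) * g⁻¹ ∈ (S : Subgroup G) := hg
  rw [← hP] at hg
  -- the conjugate is an involution of `P`, hence central
  have hu2 : (g * (w' : G) * g⁻¹) * (g * (w' : G) * g⁻¹) = 1 := by
    have : (g * (w' : G) * g⁻¹) * (g * (w' : G) * g⁻¹) = g * ((w' : G) * (w' : G)) * g⁻¹ := by
      group
    rw [this, ← pow_two, hw2']; group
  have hucent : g * (w' : G) * g⁻¹ ∈ Subgroup.centralizer ((S : Subgroup G) : Set G) := by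
    rw [Subgroup.mem_centralizer_iff, ← hP]
    intro s hs
    exact (h.invol_central hq hR _ hg hu2 s hs).symm
  have hwcent : (w' : G) ∈ Subgroup.centralizer ((S : Subgroup G) : Set G) := by
    rw [Subgroup.mem_centralizer_iff, ← hP]
    exact (mem_ZP.mp hwZ).1
  obtain ⟨n, hn, hgn⟩ := S.conj_eq_normalizer_conj_of_mem_centralizer (w' : G) g⁻¹ hwcent
    (by rw [inv_inv]; exact hucent)
  rw [inv_inv] at hgn
  rw [hgn]
  replace hn : n ∈ Subgroup.normalizer (P : Set G) := by rw [hP]; exact hn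
  have := hinv n⁻¹ (Subgroup.inv_mem _ hn)
  have := congrArg Subtype.val this
  have e : ((conjZP n⁻¹ (Subgroup.inv_mem _ hn) w' : ↥(ZP P)) : G) = n⁻¹ * (w' : G) * n⁻¹⁻¹ := rfl
  rw [e, inv_inv] at this
  exact this

end DP

end Cfsg.Agent.helper19.QR
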