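import Mathlib
import Cfsg.Prelude.Def_Transfer
import Cfsg.Agent.Lib_helper1_PGroup
import Cfsg.Agent.Lib_helper1_ElemAb

set_option autoImplicit false
set_option linter.style.haveILetI false

namespace Cfsg.Agent.helper19

open scoped commutatorElement
open Cfsg.Agent.helper1

variable {G : Type*} [Group G]

open Classical in
/-- The sign `+1` at the identity and `-1` elsewhere. -/
noncomputable def sgn (c : G) : ℤ := if c = 1 then 1 else -1

theorem sgn_one : sgn (1 : G) = 1 := by simp [sgn]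

theorem sgn_of_ne {c : G} (h : c ≠ 1) : sgn c = -1 := by simp [sgn, h]

theorem sgn_mul_self (c : G) : sgn c * sgn c = 1 := by
  by_cases h : c = 1
  · rw [h, sgn_one]; norm_num
  · rw [sgn_of_ne h]; norm_num

theorem sgn_eq_one_iff {c : G} : sgn c = 1 ↔ c = 1 := by
  constructor
  · intro h
    by_contra hne
    rw [sgn_of_ne hne] at h
    norm_num at h
  · rintro rfl; exact sgn_one

/-- In a subgroup of order two, two nonidentity elements coincide. -/
theorem eq_of_card_two (N : Subgroup G) (hN : Nat.card N = 2) {c c' : G} (hc : c ∈ N) (hc' : c' ∈ N)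
    (h1 : c ≠ 1) (h1' : c' ≠ 1) : c = c' := by
  obtain ⟨y, _, hy⟩ := (Nat.card_eq_two_iff' (1 : ↥N)).1 hN
  have e1 : (⟨c, hc⟩ : ↥N) = y := hy _ (fun h => h1 (congrArg Subtype.val h))
  have e2 : (⟨c', hc'⟩ : ↥N) = y := hy _ (fun h => h1' (congrArg Subtype.val h))
  exact congrArg Subtype.val (e1.trans e2.symm)

theorem sq_eq_one_of_card_two (N : Subgroup G) (hN : Nat.card N = 2) {c : G} (hc : c ∈ N) :
    c * c = 1 := by
  by_cases h1 : c = 1
  · rw [h1, mul_one]
  · by_contra h2
    have := eq_of_card_two N hN (N.mul_mem hc hc) hc h2 h1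
    apply h1
    calc c = c⁻¹ * (c * c) := by group
      _ = c⁻¹ * c := by rw [this]
      _ = 1 := by group

theorem sgn_mul (N : Subgroup G) (hN : Nat.card N = 2) {c c' : G} (hc : c ∈ N) (hc' : c' ∈ N) :
    sgn (c * c') = sgn c * sgn c' := by
  by_cases h1 : c = 1
  · rw [h1, one_mul, sgn_one, one_mul]
  by_cases h1' : c' = 1
  · rw [h1', mul_one, sgn_one, mul_one]
  have e := eq_of_card_two N hN hc hc' h1 h1'
  rw [← e, sq_eq_one_of_card_two N hN hc, sgn_one, sgn_of_ne h1]
  norm_num

theorem central_of_card_two (N : Subgroup G) [hn : N.Normal] (hN : Nat.card N = 2) {c : G}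
    (hc : c ∈ N) (t : G) : t * c = c * t := by
  by_cases h1 : c = 1
  · rw [h1, mul_one, one_mul]
  · have h2 : t * c * t⁻¹ ∈ N := hn.conj_mem c hc t
    have h3 : t * c * t⁻¹ ≠ 1 := by
      intro h
      apply h1
      calc c = t⁻¹ * (t * c * t⁻¹) * t := by group
        _ = 1 := by rw [h]; group
    have := eq_of_card_two N hN h2 hc h3 h1
    calc t * c = (t * c * t⁻¹) * t := by group
      _ = c * t := by rw [this]

/-- A function on a finite group that changes sign under a right translation sums to zero. -/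
theorem sum_eq_zero_of_flip [Fintype G] (f : G → ℤ) (x₀ : G) (h : ∀ x, f (x * x₀) = - f x) :
    ∑ x, f x = 0 := by
  have h1 : ∑ x, f x = ∑ x, f (x * x₀) :=
    (Fintype.sum_equiv (Equiv.mulRight x₀) (fun x => f (x * x₀)) f (fun x => rfl)).symm
  have h2 : ∑ x, f (x * x₀) = - ∑ x, f x := by
    rw [← Finset.sum_neg_distrib]
    exact Finset.sum_congr rfl (fun x _ => h x)
  omega


open Classical in
/-- Character-sum evaluation for a `2`-group with Frattini subgroup of order two. -/
theorem quad_count [Fintype G] (hG : IsPGroup 2 G) (hΦ : Nat.card (frattini G) = 2) :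
    (∑ x : G, sgn (x ^ 2)) * (∑ x : G, sgn (x ^ 2)) = 0 ∨
    ((∑ x : G, sgn (x ^ 2)) * (∑ x : G, sgn (x ^ 2)) =
        (Nat.card G : ℤ) * (Nat.card (Subgroup.center G) : ℤ) ∧
      ∀ w ∈ Subgroup.center G, w ^ 2 = 1) := by
  set Φ := frattini G with hΦdef
  haveI : Φ.Normal := inferInstance
  have hsq : ∀ x : G, x ^ 2 ∈ Φ := fun x => pow_mem_frattini_of_isPGroup hG x
  have hcom : ∀ x y : G, ⁅x, y⁆ ∈ Φ := by
    intro x y
    apply commutator_le_frattini_of_isPGroup hG
    rw [commutator_def]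
    exact Subgroup.commutator_mem_commutator (Subgroup.mem_top x) (Subgroup.mem_top y)
  have hcen : ∀ {c : G}, c ∈ Φ → ∀ t : G, t * c = c * t := fun hc t => central_of_card_two Φ hΦ hc t
  have hmul : ∀ {c c' : G}, c ∈ Φ → c' ∈ Φ → sgn (c * c') = sgn c * sgn c' :=
    fun hc hc' => sgn_mul Φ hΦ hc hc'
  set T : ℤ := ∑ x : G, sgn (x ^ 2) with hT
  have key1 : ∀ x w : G, sgn (x ^ 2) * sgn ((x * w) ^ 2) = sgn ⁅x⁻¹, w⁆ * sgn (w ^ 2) := by
    intro x w
    have e : (x * w) ^ 2 = x ^ 2 * ⁅x⁻¹, w⁆ * w ^ 2 := by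
      simp only [commutatorElement_def, pow_two]; group
    rw [e, hmul (Φ.mul_mem (hsq x) (hcom _ _)) (hsq w), hmul (hsq x) (hcom _ _)]
    have := sgn_mul_self (x ^ 2)
    linear_combination (sgn ⁅x⁻¹, w⁆ * sgn (w ^ 2)) * this
  have key2 : T * T = ∑ w : G, sgn (w ^ 2) * ∑ x : G, sgn ⁅x⁻¹, w⁆ := by
    calc T * T = ∑ x : G, ∑ y : G, sgn (x ^ 2) * sgn (y ^ 2) := by
          rw [hT, Finset.sum_mul_sum]
      _ = ∑ x : G, ∑ w : G, sgn (x ^ 2) * sgn ((x * w) ^ 2) := by
          apply Finset.sum_congr rfl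
          intro x _
          exact (Fintype.sum_equiv (Equiv.mulLeft x) (fun w => sgn (x ^ 2) * sgn ((x * w) ^ 2))
            (fun y => sgn (x ^ 2) * sgn (y ^ 2)) (fun w => rfl)).symm
      _ = ∑ x : G, ∑ w : G, sgn ⁅x⁻¹, w⁆ * sgn (w ^ 2) := by
          apply Finset.sum_congr rfl
          intro x _
          apply Finset.sum_congr rfl
          intro w _
          exact key1 x w
      _ = ∑ w : G, ∑ x : G, sgn ⁅x⁻¹, w⁆ * sgn (w ^ 2) := Finset.sum_comm
      _ = ∑ w : G, sgn (w ^ 2) * ∑ x : G, sgn ⁅x⁻¹, w⁆ := by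
          apply Finset.sum_congr rfl
          intro w _
          rw [Finset.mul_sum]
          apply Finset.sum_congr rfl
          intro x _
          ring
  have key3 : ∀ w : G, ∑ x : G, sgn ⁅x⁻¹, w⁆ =
      if w ∈ Subgroup.center G then (Nat.card G : ℤ) else 0 := by
    intro w
    split_ifs with hw
    · have h1 : ∀ x : G, sgn ⁅x⁻¹, w⁆ = 1 := by
        intro x
        rw [sgn_eq_one_iff, commutatorElement_def]
        have := Subgroup.mem_center_iff.1 hw x⁻¹
        calc x⁻¹ * w * x⁻¹⁻¹ * w⁻¹ = (x⁻¹ * w) * x * w⁻¹ := by group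
          _ = (w * x⁻¹) * x * w⁻¹ := by rw [this]
          _ = 1 := by group
      simp only [h1, Finset.sum_const, Finset.card_univ, nsmul_eq_mul, mul_one,
        Nat.card_eq_fintype_card]
    · have hex : ∃ x₀ : G, ⁅x₀⁻¹, w⁆ ≠ 1 := by
        by_contra hall
        push Not at hall
        apply hw
        rw [Subgroup.mem_center_iff]
        intro g
        have := hall g⁻¹
        rw [inv_inv, commutatorElement_eq_one_iff_commute] at this
        exact this.eq
      obtain ⟨x₀, hx₀⟩ := hex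
      apply sum_eq_zero_of_flip _ x₀
      intro x
      have e : ⁅(x * x₀)⁻¹, w⁆ = ⁅x⁻¹, w⁆ * ⁅x₀⁻¹, w⁆ := by
        have hc := hcen (hcom x⁻¹ w) x₀⁻¹
        calc ⁅(x * x₀)⁻¹, w⁆ = (x₀⁻¹ * ⁅x⁻¹, w⁆) * x₀ * ⁅x₀⁻¹, w⁆ := by
              simp only [commutatorElement_def]; group
          _ = (⁅x⁻¹, w⁆ * x₀⁻¹) * x₀ * ⁅x₀⁻¹, w⁆ := by rw [hc]
          _ = ⁅x⁻¹, w⁆ * ⁅x₀⁻¹, w⁆ := by group
      rw [e, hmul (hcom _ _) (hcom _ _), sgn_of_ne hx₀]
      ring
  set S : ℤ := ∑ w : G, (if w ∈ Subgroup.center G then sgn (w ^ 2) else 0) with hS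
  have key4 : T * T = (Nat.card G : ℤ) * S := by
    rw [key2, hS, Finset.mul_sum]
    apply Finset.sum_congr rfl
    intro w _
    rw [key3 w]
    split_ifs <;> ring
  by_cases hall : ∀ w ∈ Subgroup.center G, w ^ 2 = 1
  · right
    refine ⟨?_, hall⟩
    rw [key4]
    congr 1
    have h1 : ∀ w : G, (if w ∈ Subgroup.center G then sgn (w ^ 2) else 0) =
        if w ∈ Subgroup.center G then (1 : ℤ) else 0 := by
      intro w
      split_ifs with h
      · rw [hall w h, sgn_one]
      · rfl
    rw [hS]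
    simp_rw [h1]
    rw [Finset.sum_boole, Nat.card_eq_fintype_card, Fintype.card_subtype]
  · left
    rw [key4]
    push Not at hall
    obtain ⟨w₀, hw₀, hw₀2⟩ := hall
    have hS0 : S = 0 := by
      rw [hS]
      apply sum_eq_zero_of_flip _ w₀
      intro w
      by_cases hw : w ∈ Subgroup.center G
      · have hww : w * w₀ ∈ Subgroup.center G := mul_mem hw hw₀
        rw [if_pos hww, if_pos hw]
        have hc : Commute w w₀ := (Subgroup.mem_center_iff.1 hw₀ w)
        rw [hc.mul_pow, hmul (hsq w) (hsq w₀), sgn_of_ne hw₀2]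
        ring
      · have hww : w * w₀ ∉ Subgroup.center G := by
          intro h
          apply hw
          have := mul_mem h (inv_mem hw₀)
          simpa using this
        rw [if_neg hww, if_neg hw]
        simp
    rw [hS0, mul_zero]


theorem quad_count_main [Finite G] (hG : IsPGroup 2 G) (hΦ : Nat.card (frattini G) = 2) (d : ℕ)
    (hd : (frattini G).index = 2 ^ d) :
    (Nat.card {x : G // x ^ 2 = 1} = 2 ^ d ∨ ∃ r : ℕ, 1 ≤ r ∧ 2 * r ≤ d ∧
      (Nat.card {x : G // x ^ 2 = 1} = 2 ^ d + 2 ^ (d - r) ∨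
        Nat.card {x : G // x ^ 2 = 1} + 2 ^ (d - r) = 2 ^ d)) ∧
    (∀ r : ℕ, d = 2 * r → (Nat.card {x : G // x ^ 2 = 1} = 2 ^ d + 2 ^ r ∨
      Nat.card {x : G // x ^ 2 = 1} + 2 ^ r = 2 ^ d) → Cfsg.IsExtraspecial 2 G) := by
  classical
  haveI : Fintype G := Fintype.ofFinite G
  set j : ℕ := Nat.card {x : G // x ^ 2 = 1} with hj
  have hcardG : Nat.card G = 2 ^ (d + 1) := by
    rw [← Subgroup.card_mul_index (frattini G), hΦ, hd, pow_succ]; ring
  have hjcard : j = (Finset.univ.filter (fun x : G => x ^ 2 = 1)).card := by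
    rw [hj, Nat.card_eq_fintype_card, Fintype.card_subtype]
  have hT : (∑ x : G, sgn (x ^ 2)) = 2 * (j : ℤ) - 2 ^ (d + 1) := by
    have h1 : ∀ x : G, sgn (x ^ 2) = 2 * (if x ^ 2 = 1 then (1 : ℤ) else 0) - 1 := by
      intro x
      by_cases h : x ^ 2 = 1
      · rw [if_pos h, h, sgn_one]; norm_num
      · rw [if_neg h, sgn_of_ne h]; norm_num
    simp_rw [h1]
    rw [Finset.sum_sub_distrib, ← Finset.mul_sum, Finset.sum_boole, ← hjcard]
    simp only [Finset.sum_const, Finset.card_univ, nsmul_eq_mul, mul_one]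
    rw [← Nat.card_eq_fintype_card, hcardG]
    push_cast
    ring
  set Z := Subgroup.center G with hZ
  haveI hΦn : (frattini G).Normal := inferInstance
  have hΦZ : frattini G ≤ Z := by
    intro c hc
    rw [hZ, Subgroup.mem_center_iff]
    intro t
    exact central_of_card_two (frattini G) hΦ hc t
  have hjpos : 0 < 2 ^ d := by positivity
  rcases quad_count hG hΦ with h0 | ⟨hB, hall⟩
  · -- T = 0
    rw [hT] at h0
    have hT0 : 2 * (j : ℤ) - 2 ^ (d + 1) = 0 := by
      rcases mul_eq_zero.1 h0 with h | h <;> exact h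
    have hj2 : (j : ℤ) = 2 ^ d := by
      rw [pow_succ] at hT0; linarith
    have hj2' : j = 2 ^ d := by exact_mod_cast hj2
    refine ⟨Or.inl hj2', ?_⟩
    intro r _ hr
    exfalso
    have hrpos : 0 < 2 ^ r := by positivity
    rcases hr with hr | hr <;> omega
  · -- T² = |G| |Z|
    obtain ⟨m, hm⟩ := (hG.to_subgroup Z).exists_card_eq
    rw [hT, hcardG, hm] at hB
    have hm1 : 1 ≤ m := by
      have h2 : 2 ∣ 2 ^ m := by
        rw [← hm, ← hΦ]; exact Subgroup.card_dvd_of_le hΦZ
      rcases Nat.eq_zero_or_pos m with rfl | h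
      · simp at h2
      · exact h
    have hmd1 : m ≤ d + 1 := by
      have h2 : 2 ^ m ∣ 2 ^ (d + 1) := by
        rw [← hm, ← hcardG]; exact Subgroup.card_subgroup_dvd_card Z
      exact (Nat.pow_dvd_pow_iff_le_right (by norm_num)).1 h2
    -- Z ≠ ⊤
    have hZtop : Z ≠ ⊤ := by
      intro htop
      have hcomm : ∀ a b : G, a * b = b * a := by
        intro a b
        have : b ∈ Z := by rw [htop]; trivial
        exact (Subgroup.mem_center_iff.1 this a)
      have hexp : ∀ a : G, a ^ 2 = 1 := fun a => hall a (by rw [← hZ, htop]; trivial)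
      have hne : frattini G ≠ ⊥ := by
        intro hb
        rw [hb] at hΦ
        simp at hΦ
      obtain ⟨z, hz1⟩ := (Subgroup.ne_bot_iff_exists_ne_one).1 hne
      obtain ⟨M, hM, hzM⟩ := exists_coatom_not_mem_of_elemAb (p := 2) hcomm hexp (z : G)
        (fun h => hz1 (Subtype.ext h))
      exact hzM (frattini_le_coatom hM z.2)
    have hmd : m ≠ d + 1 := by
      intro h
      apply hZtop
      apply Subgroup.eq_top_of_card_eq
      rw [hm, hcardG, h]
    -- a = |j - 2^d|
    set a : ℕ := ((j : ℤ) - 2 ^ d).natAbs with ha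
    have haa : a * a = 2 ^ (d + m - 1) := by
      have h1 : ((j : ℤ) - 2 ^ d) * ((j : ℤ) - 2 ^ d) = 2 ^ (d + m - 1) := by
        have e1 : (2 : ℤ) ^ (d + 1) = 2 * 2 ^ d := by rw [pow_succ]; ring
        have e2 : (2 : ℤ) ^ m = 2 * 2 ^ (m - 1) := by
          conv_lhs => rw [show m = (m - 1) + 1 by omega, pow_succ]
          ring
        have e3 : (2 : ℤ) ^ (d + m - 1) = 2 ^ d * 2 ^ (m - 1) := by
          rw [show d + m - 1 = d + (m - 1) by omega, pow_add]
        rw [e3]
        push_cast at hB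
        rw [e1, e2] at hB
        nlinarith [hB]
      have h2 : ((a * a : ℕ) : ℤ) = 2 ^ (d + m - 1) := by
        rw [ha, ← h1]; push_cast
        exact abs_mul_abs_self _
      exact_mod_cast h2
    obtain ⟨s, hs, has⟩ : ∃ s ≤ d + m - 1, a = 2 ^ s :=
      (Nat.dvd_prime_pow Nat.prime_two).1 (Dvd.intro _ haa)
    have h2s : 2 * s = d + m - 1 := by
      rw [has, ← pow_add] at haa
      have := Nat.pow_right_injective (le_refl 2) haa
      omega
    have hmd' : m ≤ d - 1 := by omega
    have hcases : (j : ℤ) - 2 ^ d = (a : ℤ) ∨ (j : ℤ) - 2 ^ d = -(a : ℤ) := Int.natAbs_eq _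
    have hjs : j = 2 ^ d + 2 ^ s ∨ j + 2 ^ s = 2 ^ d := by
      rcases hcases with h | h
      · left
        have : (j : ℤ) = 2 ^ d + 2 ^ s := by rw [has] at h; push_cast at h; linarith
        exact_mod_cast this
      · right
        have : (j : ℤ) + 2 ^ s = 2 ^ d := by rw [has] at h; push_cast at h; linarith
        exact_mod_cast this
    refine ⟨Or.inr ⟨d - s, by omega, by omega, ?_⟩, ?_⟩
    · rw [show d - (d - s) = s by omega]
      exact hjs
    · intro r hdr hjr
      have hsr : s = r := by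
        have hpow : 2 ^ s = 2 ^ r := by
          rcases hjs with h1 | h1 <;> rcases hjr with h2 | h2
          · omega
          · have : 0 < 2 ^ s := by positivity
            have : 0 < 2 ^ r := by positivity
            omega
          · have : 0 < 2 ^ s := by positivity
            have : 0 < 2 ^ r := by positivity
            omega
          · omega
        exact Nat.pow_right_injective (le_refl 2) hpow
      have hm1' : m = 1 := by omega
      rw [hm1', pow_one] at hm
      have hΦeq : frattini G = Z :=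
        Subgroup.eq_of_le_of_card_ge hΦZ (by rw [hm, hΦ])
      have hcomle : commutator G ≤ frattini G := commutator_le_frattini_of_isPGroup hG
      have hcomne : commutator G ≠ ⊥ := by
        intro h
        exact hZtop ((commutator_eq_bot_iff_center_eq_top G).1 h)
      have hcomcard : Nat.card (commutator G) = 2 := by
        have hdvd : Nat.card (commutator G) ∣ 2 := by
          rw [← hΦ]; exact Subgroup.card_dvd_of_le hcomle
        rcases (Nat.dvd_prime Nat.prime_two).1 hdvd with h | h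
        · exact absurd (Subgroup.card_eq_one.1 h) hcomne
        · exact h
      have hcomeq : commutator G = frattini G :=
        Subgroup.eq_of_le_of_card_ge hcomle (by rw [hcomcard, hΦ])
      exact ⟨⟨hG, hΦeq, hcomeq.trans hΦeq⟩, hm⟩

end Cfsg.Agent.helper19
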