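import Mathlib
import Cfsg.Agent.Lib_helper19_CP

set_option autoImplicit false
open scoped commutatorElement

namespace Cfsg.Agent.helper19

/-- In a non-abelian nilpotent-like situation: an element outside the centre whose commutators
are all central (second centre), for a finite `p`-group. -/
theorem exists_second_center {R : Type*} [Group R] [Finite R] {p : ℕ} [Fact p.Prime]
    (hR : IsPGroup p R) (hne : Subgroup.center R ≠ ⊤) :
    ∃ a : R, a ∉ Subgroup.center R ∧ ∀ g : R, ⁅g, a⁆ ∈ Subgroup.center R := by
  set Z := Subgroup.center R with hZ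
  set π := QuotientGroup.mk' Z with hπ
  have hnt : Nontrivial (R ⧸ Z) := by
    rw [← not_subsingleton_iff_nontrivial]
    intro hs
    exact hne (QuotientGroup.subgroup_eq_top_of_subsingleton Z hs)
  have hq : IsPGroup p (R ⧸ Z) := hR.to_quotient Z
  have hc : Nontrivial (Subgroup.center (R ⧸ Z)) := hq.center_nontrivial
  obtain ⟨c, hc1⟩ := exists_ne (1 : Subgroup.center (R ⧸ Z))
  obtain ⟨a, ha⟩ := QuotientGroup.mk'_surjective Z (c : R ⧸ Z)
  refine ⟨a, ?_, ?_⟩
  · intro haZ
    apply hc1
    apply Subtype.ext
    rw [← ha]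
    exact (QuotientGroup.eq_one_iff a).2 haZ
  · intro g
    rw [← QuotientGroup.eq_one_iff, ← QuotientGroup.mk'_apply, ← hπ, map_commutatorElement, ha]
    have := Subgroup.mem_center_iff.1 c.2 (π g)
    rw [commutatorElement_eq_one_iff_mul_comm]
    exact this

theorem card_lt_card_of_lt' {R : Type*} [Group R] [Finite R] {H K : Subgroup R} (h : H < K) :
    Nat.card H < Nat.card K := by
  by_contra hcon
  push Not at hcon
  exact h.ne (Subgroup.eq_of_le_of_card_ge h.le hcon)

/-- The commutator map `g ↦ [g, a]` into the centre, for `a` in the second centre. -/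
def commHom {R : Type*} [Group R] (a : R) (h : ∀ g : R, ⁅g, a⁆ ∈ Subgroup.center R) :
    R →* Subgroup.center R where
  toFun g := ⟨⁅g, a⁆, h g⟩
  map_one' := by
    apply Subtype.ext
    simp
  map_mul' g k := by
    apply Subtype.ext
    have hk := Subgroup.mem_center_iff.1 (h k)
    show ⁅g * k, a⁆ = ⁅g, a⁆ * ⁅k, a⁆
    rw [commutatorElement_def, commutatorElement_def]
    have e1 : g * k * a * (g * k)⁻¹ * a⁻¹ = g * ⁅k, a⁆ * g⁻¹ * (g * a * g⁻¹ * a⁻¹) := by
      rw [commutatorElement_def]; group
    rw [e1, hk g, mul_inv_cancel_right]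
    exact (hk (g * a * g⁻¹ * a⁻¹)).symm

theorem mem_ker_commHom {R : Type*} [Group R] (a : R) (h : ∀ g : R, ⁅g, a⁆ ∈ Subgroup.center R)
    (g : R) : g ∈ (commHom a h).ker ↔ g * a = a * g := by
  rw [MonoidHom.mem_ker]
  constructor
  · intro hg
    have : ⁅g, a⁆ = 1 := congrArg Subtype.val hg
    exact commutatorElement_eq_one_iff_mul_comm.1 this
  · intro hg
    apply Subtype.ext
    exact commutatorElement_eq_one_iff_mul_comm.2 hg

/-- A `p`-group of exponent `p` and `p`-rank at most `2` has order at most `p³`. -/
theorem card_le_of_exponent_rank_two {R : Type*} [Group R] [Finite R] {p : ℕ} [Fact p.Prime]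
    (hR : IsPGroup p R)
    (hrank : ∀ A : Subgroup R, IsMulCommutative A → (∀ a ∈ A, a ^ p = 1) → Nat.card A ≤ p ^ 2)
    (hexp : ∀ x : R, x ^ p = 1) : Nat.card R ≤ p ^ 3 := by
  have hp : p.Prime := Fact.out
  by_cases hcomm : Subgroup.center R = ⊤
  · have h1 : IsMulCommutative (⊤ : Subgroup R) := by
      rw [← hcomm]; infer_instance
    have h2 := hrank ⊤ h1 (fun a _ => hexp a)
    rw [Subgroup.card_top] at h2
    exact h2.trans (Nat.pow_le_pow_right hp.pos (by norm_num))
  obtain ⟨a, haZ, hac⟩ := exists_second_center hR hcomm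
  set Z := Subgroup.center R with hZ
  set N := Subgroup.zpowers a ⊔ Z with hN
  have hNc : IsMulCommutative N := isMulCommutative_zpowers_sup_center a
  have hNcard : Nat.card N ≤ p ^ 2 := hrank N hNc (fun x _ => hexp x)
  have hZN : Z ≤ N := le_sup_right
  have haN : a ∈ N := (le_sup_left : Subgroup.zpowers a ≤ N) (Subgroup.mem_zpowers a)
  have hZltN : Nat.card Z < Nat.card N := by
    apply card_lt_card_of_lt'
    exact lt_of_le_of_ne hZN (fun h => haZ (h ▸ haN))
  have hRnt : Nontrivial R := by
    rw [← not_subsingleton_iff_nontrivial]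
    intro hs
    apply hcomm
    rw [eq_top_iff]
    intro x _
    rw [Subsingleton.elim x 1]; exact Subgroup.one_mem _
  have hZnt : Nontrivial Z := hR.center_nontrivial
  obtain ⟨k, hk⟩ := IsPGroup.iff_card.1 (hR.to_subgroup Z)
  obtain ⟨m, hm⟩ := IsPGroup.iff_card.1 (hR.to_subgroup N)
  have hk1 : 1 ≤ k := by
    by_contra h
    have h0 : k = 0 := by omega
    rw [h0, pow_zero] at hk
    have : Subsingleton Z := (Nat.card_eq_one_iff_unique.1 hk).1
    exact not_subsingleton Z this
  have hkm : k < m := by
    rw [hk, hm] at hZltN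
    exact (Nat.pow_lt_pow_iff_right hp.one_lt).1 hZltN
  have hm2 : m ≤ 2 := by
    rw [hm] at hNcard
    exact (Nat.pow_le_pow_iff_right hp.one_lt).1 hNcard
  have hk' : k = 1 := by omega
  have hm' : m = 2 := by omega
  rw [hk', pow_one] at hk
  rw [hm'] at hm
  -- the commutator homomorphism
  set φ := commHom a hac with hφ
  have hker : φ.ker = N := by
    apply le_antisymm
    · intro x hx
      rw [mem_ker_commHom] at hx
      by_contra hxN
      -- a bigger abelian subgroup
      set S : Set R := (Z : Set R) ∪ {a, x} with hS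
      have hSc : ∀ u ∈ S, ∀ v ∈ S, u * v = v * u := by
        intro u hu v hv
        rcases hu with hu | hu
        · exact (Subgroup.mem_center_iff.1 hu v).symm
        rcases hv with hv | hv
        · exact Subgroup.mem_center_iff.1 hv u
        rcases hu with rfl | rfl <;> rcases hv with rfl | rfl
        · rfl
        · exact hx.symm
        · exact hx
        · rfl
      have hc := Subgroup.isMulCommutative_closure hSc
      have hcard := hrank (Subgroup.closure S) hc (fun u _ => hexp u)
      have hNle : N ≤ Subgroup.closure S := by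
        apply sup_le
        · rw [Subgroup.zpowers_le]
          exact Subgroup.subset_closure (Or.inr (Or.inl rfl))
        · intro z hz
          exact Subgroup.subset_closure (Or.inl hz)
      have hxS : x ∈ Subgroup.closure S := Subgroup.subset_closure (Or.inr (Or.inr rfl))
      have hlt : Nat.card N < Nat.card (Subgroup.closure S) := by
        apply card_lt_card_of_lt'
        exact lt_of_le_of_ne hNle (fun h => hxN (h ▸ hxS))
      omega
    · apply sup_le
      · rw [Subgroup.zpowers_le, mem_ker_commHom]
      · intro z hz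
        rw [mem_ker_commHom]
        exact (Subgroup.mem_center_iff.1 hz a).symm
  have h1 := Subgroup.card_mul_index φ.ker
  rw [Subgroup.index_ker, hker, hm] at h1
  have h2 : Nat.card φ.range ≤ p := by
    have := Subgroup.card_le_card_group φ.range
    rwa [hk] at this
  calc Nat.card R = p ^ 2 * Nat.card φ.range := h1.symm
    _ ≤ p ^ 2 * p := Nat.mul_le_mul_left _ h2
    _ = p ^ 3 := by ring

end Cfsg.Agent.helper19
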