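import Mathlib
import Cfsg.Agent.Lib_lead_Coprime
import Cfsg.Agent.Lib_helper15_BaerSuzuki2
import Cfsg.Agent.Lib_helper1_Core

set_option autoImplicit false
set_option linter.style.haveILetI false
set_option linter.unusedSectionVars false

namespace Cfsg.Agent.helper19

open Cfsg.Agent.helper7

universe u

/-- if `g` inverts `x` then `g` inverts every power of `x`. -/
theorem inverts_pow {G : Type*} [Group G] {g x : G} (h : g * x * g⁻¹ = x⁻¹) (j : ℕ) :
    g * x ^ j * g⁻¹ = (x ^ j)⁻¹ := by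
  have h1 : (g * x * g⁻¹) ^ j = (x⁻¹) ^ j := by rw [h]
  rw [conj_pow] at h1
  rw [h1, inv_pow]

/-- if `g` inverts `x` then so does every odd power of `g`. -/
theorem pow_inverts {G : Type*} [Group G] {g x : G} (h : g * x * g⁻¹ = x⁻¹) {m : ℕ} (hm : Odd m) :
    g ^ m * x * (g ^ m)⁻¹ = x⁻¹ := by
  obtain ⟨k, rfl⟩ := hm
  have h2 : g ^ 2 * x * (g ^ 2)⁻¹ = x := by
    have : g ^ 2 * x * (g ^ 2)⁻¹ = g * (g * x * g⁻¹) * g⁻¹ := by
      rw [pow_two, mul_inv_rev]; simp only [mul_assoc]
    rw [this, h]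
    have h' : g * x⁻¹ * g⁻¹ = (g * x * g⁻¹)⁻¹ := by group
    rw [h', h, inv_inv]
  have hc : Commute (g ^ 2) x := by
    have : g ^ 2 * x = x * g ^ 2 := by
      calc g ^ 2 * x = (g ^ 2 * x * (g ^ 2)⁻¹) * g ^ 2 := by group
        _ = x * g ^ 2 := by rw [h2]
    exact this
  have hc' : Commute ((g ^ 2) ^ k) x := hc.pow_left k
  have e1 : g ^ (2 * k + 1) = (g ^ 2) ^ k * g := by rw [pow_succ, pow_mul]
  rw [e1]
  have : (g ^ 2) ^ k * g * x * ((g ^ 2) ^ k * g)⁻¹ = (g ^ 2) ^ k * (g * x * g⁻¹) * ((g ^ 2) ^ k)⁻¹ := by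
    group
  rw [this, h]
  have hc'' : Commute ((g ^ 2) ^ k) x⁻¹ := hc'.inv_right
  rw [hc''.eq, mul_assoc, mul_inv_cancel, mul_one]

/-- Lifting a real element of odd order through a quotient by a normal `2`-subgroup. -/
theorem lift_real {G : Type u} [Group G] [Finite G] (O : Subgroup G) [hOn : O.Normal]
    (hO : IsPGroup 2 O) (xb gb : G ⧸ O) (hx1 : xb ≠ 1) (hodd : Odd (orderOf xb))
    (hinv : gb * xb * gb⁻¹ = xb⁻¹) :
    ∃ x : G, x ≠ 1 ∧ Odd (orderOf x) ∧ IsConj x x⁻¹ := by
  haveI : Fact (Nat.Prime 2) := ⟨Nat.prime_two⟩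
  obtain ⟨h₀, rfl⟩ := QuotientGroup.mk'_surjective O xb
  obtain ⟨t, rfl⟩ := QuotientGroup.mk'_surjective O gb
  set π := QuotientGroup.mk' O with hπ
  obtain ⟨b, c, hc, hbc⟩ := Nat.exists_eq_two_pow_mul_odd (orderOf_pos h₀).ne'
  set h := h₀ ^ (2 ^ b) with hh
  have hhc : h ^ c = 1 := by
    rw [hh, ← pow_mul, ← hbc, pow_orderOf_eq_one]
  have hhodd : Odd (orderOf h) := Odd.of_dvd_nat hc (orderOf_dvd_of_pow_eq_one hhc)
  have hπh : π h = (π h₀) ^ (2 ^ b) := by rw [hh, map_pow]
  have hπh1 : π h ≠ 1 := by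
    intro h1
    rw [hπh] at h1
    have hd := orderOf_dvd_of_pow_eq_one h1
    obtain ⟨k, -, hk⟩ := (Nat.dvd_prime_pow Nat.prime_two).1 hd
    rw [hk] at hodd
    have : k = 0 := by
      by_contra hk0
      have : Even (2 ^ k) := (Nat.even_pow.2 ⟨even_two, hk0⟩)
      exact (Nat.not_even_iff_odd.2 hodd) this
    rw [this, pow_zero, orderOf_eq_one_iff] at hk
    exact hx1 hk
  have hπinv : π t * π h * (π t)⁻¹ = (π h)⁻¹ := by
    rw [hπh]
    exact inverts_pow hinv _
  -- the subgroups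
  set K : Subgroup G := Subgroup.zpowers h with hK
  have hKcard : Nat.card K = orderOf h := Nat.card_zpowers h
  obtain ⟨a, ha⟩ := hO.exists_card_eq
  have hcop : (Nat.card K).Coprime (Nat.card O) := by
    rw [hKcard, ha]
    exact Nat.Coprime.pow_right a hhodd.coprime_two_right
  have hKN : K ≤ Subgroup.normalizer (O : Set G) := by
    rw [Subgroup.normalizer_eq_top]; exact le_top
  have hker : ∀ y : G, π y = 1 ↔ y ∈ O := fun y => QuotientGroup.eq_one_iff y
  -- π on K inverted by π t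
  have hπK : ∀ k ∈ K, π t * π k * (π t)⁻¹ = (π k)⁻¹ := by
    intro k hk
    obtain ⟨j, rfl⟩ := Subgroup.mem_zpowers_iff.1 hk
    rw [map_zpow]
    have h1 : π t * π h ^ j * (π t)⁻¹ = (π t * π h * (π t)⁻¹) ^ j := by
      rw [conj_zpow]
    rw [h1, hπinv, inv_zpow]
  have hB : cj t K ≤ O ⊔ K := by
    intro y hy
    rw [mem_cj] at hy
    set k := t⁻¹ * y * t with hk
    have hyk : y = t * k * t⁻¹ := by rw [hk]; group
    have h1 : π (y * k) = 1 := by
      rw [map_mul, hyk, map_mul, map_mul, map_inv, hπK k hy]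
      have : π (t * k * t⁻¹) = π t * π k * (π t)⁻¹ := by rw [map_mul, map_mul, map_inv]
      simp
    have h2 : y * k ∈ O := (hker _).1 h1
    have : y = (y * k) * k⁻¹ := by group
    rw [this]
    exact Subgroup.mul_mem_sup h2 (K.inv_mem hy)
  obtain ⟨d, hdO, hd⟩ := Cfsg.Agent.lead.sz_conj_semidirect K O hKN hcop
    (Or.inr (haveI := hO.isNilpotent; inferInstance)) (cj t K) hB (card_cj t K)
  rw [cj_cj] at hd
  set s := d * t with hs
  have hshK : s * h * s⁻¹ ∈ K := by
    rw [← hd, mem_cj]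
    have : s⁻¹ * (s * h * s⁻¹) * s = h := by group
    rw [this]
    exact Subgroup.mem_zpowers h
  have hπs : π s = π t := by
    rw [hs, map_mul, (hker d).2 hdO, one_mul]
  have hKO : K ⊓ O = ⊥ := (Subgroup.disjoint_of_coprime_natCard hcop).eq_bot
  have hfin : s * h * s⁻¹ = h⁻¹ := by
    have h1 : s * h * s⁻¹ * h ∈ K := K.mul_mem hshK (Subgroup.mem_zpowers h)
    have h2 : s * h * s⁻¹ * h ∈ O := by
      rw [← hker]
      rw [map_mul, map_mul, map_mul, map_inv, hπs, hπinv, inv_mul_cancel]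
    have h3 : s * h * s⁻¹ * h ∈ K ⊓ O := Subgroup.mem_inf.2 ⟨h1, h2⟩
    rw [hKO, Subgroup.mem_bot] at h3
    exact eq_inv_of_mul_eq_one_left h3
  refine ⟨h, ?_, hhodd, ?_⟩
  · intro h1
    apply hπh1
    rw [h1, map_one]
  · rw [isConj_iff]
    exact ⟨s, hfin⟩

/-- no real elements of odd order implies normal Sylow `2`-subgroup. -/
theorem sylow_two_normal_of_no_real_odd : ∀ (n : ℕ) (G : Type u) [Group G] [Finite G],
    Nat.card G = n → (∀ x : G, x ≠ 1 → Odd (orderOf x) → ¬ IsConj x x⁻¹) →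
    ∀ P : Sylow 2 G, (P : Subgroup G).Normal := by
  intro n
  induction n using Nat.strong_induction_on with
  | _ n ih =>
    intro G _ _ hn hyp P
    haveI : Fact (Nat.Prime 2) := ⟨Nat.prime_two⟩
    set O : Subgroup G := Cfsg.pCore 2 G with hOdef
    haveI hOn : O.Normal := Cfsg.Agent.helper1.pCore_normal 2
    have hOp : IsPGroup 2 O := Cfsg.Agent.helper1.pCore_isPGroup 2
    have hOP : O ≤ P := Cfsg.Agent.helper1.pCore_le_sylow P
    have hinvol : ∀ t : G, t ^ 2 = 1 → t ∈ O := by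
      intro t ht
      by_contra htO
      rw [hOdef, Cfsg.Agent.helper1.pCore_eq_iInf_sylow] at htO
      obtain ⟨h, h1, hodd, hth⟩ :=
        Cfsg.Agent.helper15.exists_inverted_odd_of_not_mem_iInf_sylow t ht htO
      exact hyp h h1 hodd (isConj_iff.2 ⟨t, hth⟩)
    by_cases hOb : O = ⊥
    · -- no involutions, so |G| odd
      have h2 : ¬ 2 ∣ Nat.card G := by
        intro hd
        obtain ⟨t, ht⟩ := exists_prime_orderOf_dvd_card' 2 hd
        have ht2 : t ^ 2 = 1 := by rw [← ht, pow_orderOf_eq_one]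
        have := hinvol t ht2
        rw [hOb, Subgroup.mem_bot] at this
        rw [this, orderOf_one] at ht
        omega
      have hPb : (P : Subgroup G) = ⊥ := by
        obtain ⟨k, hk⟩ := P.isPGroup'.exists_card_eq
        have hd : Nat.card (P : Subgroup G) ∣ Nat.card G := Subgroup.card_subgroup_dvd_card _
        have : k = 0 := by
          by_contra hk0
          apply h2
          refine dvd_trans ?_ hd
          rw [hk]
          exact dvd_pow_self 2 hk0
        rw [this, pow_zero] at hk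
        exact Subgroup.card_eq_one.1 hk
      rw [hPb]
      infer_instance
    · -- pass to the quotient
      have hlt : Nat.card (G ⧸ O) < n := by
        have h1 := O.card_mul_index
        rw [Subgroup.index_eq_card] at h1
        rw [← hn, ← h1]
        have hO1 : 1 < Nat.card O := (Subgroup.one_lt_card_iff_ne_bot O).2 hOb
        have hpos : 0 < Nat.card (G ⧸ O) := Nat.card_pos
        nlinarith
      have hypQ : ∀ x : G ⧸ O, x ≠ 1 → Odd (orderOf x) → ¬ IsConj x x⁻¹ := by
        intro xb hx1 hodd hconj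
        obtain ⟨gb, hgb⟩ := isConj_iff.1 hconj
        obtain ⟨x, hx, hxo, hxc⟩ := lift_real O hOp xb gb hx1 hodd hgb
        exact hyp x hx hxo hxc
      have hsurj : Function.Surjective (QuotientGroup.mk' O) := QuotientGroup.mk'_surjective O
      have hnorm := ih _ hlt (G ⧸ O) rfl hypQ (P.mapSurjective hsurj)
      have hcoe : ((P.mapSurjective hsurj : Sylow 2 (G ⧸ O)) : Subgroup (G ⧸ O)) =
          (P : Subgroup G).map (QuotientGroup.mk' O) := rfl
      rw [hcoe] at hnorm
      have hcomap : ((P : Subgroup G).map (QuotientGroup.mk' O)).comap (QuotientGroup.mk' O) =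
          (P : Subgroup G) := by
        rw [Subgroup.comap_map_eq, QuotientGroup.ker_mk']
        exact sup_eq_left.2 hOP
      rw [← hcomap]
      exact hnorm.comap _

end Cfsg.Agent.helper19
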