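import Mathlib
import Cfsg.Prelude.Def_Transfer
import Cfsg.Agent.Lib_lead_Frobenius
import Cfsg.Agent.S0071
import Cfsg.Agent.Lib_helper1_PGroup
import Cfsg.Agent.Lib_helper19_HH1
import Cfsg.Agent.Lib_helper19_HH2

set_option autoImplicit false
set_option linter.style.haveILetI false

namespace Cfsg.Agent.helper19

open scoped commutatorElement
open Cfsg.Agent.helper7 Cfsg.Agent.helper1

/-- In a special `2`-group the centre has exponent two. -/
theorem special_two_center_sq {Q : Type*} [Group Q] [Finite Q] (h : Cfsg.IsSpecial 2 Q) :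
    ∀ z ∈ Subgroup.center Q, z ^ 2 = 1 := by
  obtain ⟨hQ, hfz, hcz⟩ := h
  have hsq : ∀ u : Q, u ^ 2 ∈ Subgroup.center Q := by
    intro u
    rw [← hfz]
    exact pow_mem_frattini_of_isPGroup hQ u
  have hcomm_central : ∀ u v : Q, ⁅u, v⁆ ∈ Subgroup.center Q := by
    intro u v
    rw [← hcz, commutator_eq_closure]
    exact Subgroup.subset_closure ⟨u, v, rfl⟩
  have hgen : ∀ u v : Q, ⁅u, v⁆ ^ 2 = 1 := by
    intro u v
    have hc : Commute ⁅u, v⁆ u := by
      have := Subgroup.mem_center_iff.1 (hcomm_central u v) u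
      exact this.symm
    rw [← commutatorElement_pow_left u v hc 2]
    have h2 := Subgroup.mem_center_iff.1 (hsq u) v
    rw [commutatorElement_def, ← h2]
    group
  intro z hz
  rw [← hcz, commutator_eq_closure] at hz
  induction hz using Subgroup.closure_induction with
  | mem y hy =>
    obtain ⟨u, v, rfl⟩ := hy
    exact hgen u v
  | one => simp
  | mul a b ha hb iha ihb =>
    have hac : a ∈ Subgroup.center Q := by
      rw [← hcz, commutator_eq_closure]; exact ha
    have hcm : Commute a b := by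
      have := Subgroup.mem_center_iff.1 hac b
      exact this.symm
    rw [hcm.mul_pow, iha, ihb, one_mul]
  | inv a ha iha => rw [inv_pow, iha, inv_one]


/-- In a special `2`-subgroup `Q` whose centre is central in `G`, acted on irreducibly modulo the
Frattini subgroup by `A`, every element outside the centre satisfies `[x, Q] ∋ x²`. -/
theorem exists_comm_eq_sq_of_special {G : Type*} [Group G] [Finite G] (Q A : Subgroup G)
    (hsp : Cfsg.IsSpecial 2 ↥Q) (hAQ : A ≤ Subgroup.normalizer (Q : Set G))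
    (hZc : ∀ z ∈ (Subgroup.center ↥Q).map Q.subtype, z ∈ Subgroup.center G)
    (hirr : ∀ U : Subgroup G, (frattini ↥Q).map Q.subtype ≤ U → U ≤ Q →
        A ≤ Subgroup.normalizer (U : Set G) → U = (frattini ↥Q).map Q.subtype ∨ U = Q)
    (x : G) (hx : x ∈ Q) (hxZ : x ∉ (Subgroup.center ↥Q).map Q.subtype) :
    ∃ y ∈ Q, ⁅x, y⁆ = x ^ 2 := by
  obtain ⟨hQ, hfz, hcz⟩ := hsp
  set ZQ : Subgroup G := (Subgroup.center ↥Q).map Q.subtype with hZQ
  -- commutators of elements of Q lie in ZQ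
  have hcomZ : ∀ u ∈ Q, ∀ v ∈ Q, ⁅u, v⁆ ∈ ZQ := by
    intro u hu v hv
    refine ⟨⁅(⟨u, hu⟩ : ↥Q), ⟨v, hv⟩⁆, ?_, rfl⟩
    rw [← hcz, commutator_eq_closure]
    exact Subgroup.subset_closure ⟨_, _, rfl⟩
  have hcomC : ∀ u ∈ Q, ∀ v ∈ Q, ∀ t : G, t * ⁅u, v⁆ = ⁅u, v⁆ * t := by
    intro u hu v hv t
    exact Subgroup.mem_center_iff.1 (hZc _ (hcomZ u hu v hv)) t
  -- the subgroup I = [x, Q]
  let I : Subgroup G :=
    { carrier := {c | ∃ y ∈ Q, c = ⁅x, y⁆}
      one_mem' := ⟨1, Q.one_mem, by simp⟩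
      mul_mem' := by
        rintro _ _ ⟨y, hy, rfl⟩ ⟨y', hy', rfl⟩
        refine ⟨y' * y, Q.mul_mem hy' hy, ?_⟩
        have hc := hcomC x hx y hy
        have e1 : ⁅x, y' * y⁆ = (x * y' * x⁻¹) * ⁅x, y⁆ * y'⁻¹ := by
          simp only [commutatorElement_def]; group
        have e2 : (x * y' * x⁻¹) * ⁅x, y⁆ = ⁅x, y⁆ * (x * y' * x⁻¹) := hc _
        rw [e1, e2]
        simp only [commutatorElement_def]; group
      inv_mem' := by
        rintro _ ⟨y, hy, rfl⟩
        refine ⟨y⁻¹, Q.inv_mem hy, ?_⟩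
        have hc := hcomC x hx y hy
        have e1 : ⁅x, y⁻¹⁆ = y⁻¹ * ⁅x, y⁆⁻¹ * y := by
          simp only [commutatorElement_def]; group
        have e2 : y⁻¹ * ⁅x, y⁆⁻¹ = ⁅x, y⁆⁻¹ * y⁻¹ := by
          have := hc y
          calc y⁻¹ * ⁅x, y⁆⁻¹ = ⁅x, y⁆⁻¹ * (⁅x, y⁆ * y⁻¹) * ⁅x, y⁆⁻¹ := by group
            _ = ⁅x, y⁆⁻¹ * (y⁻¹ * ⁅x, y⁆) * ⁅x, y⁆⁻¹ := by rw [hc y⁻¹]
            _ = ⁅x, y⁆⁻¹ * y⁻¹ := by group
        rw [e1, e2]; group }
  have hImem : ∀ c, c ∈ I ↔ ∃ y ∈ Q, c = ⁅x, y⁆ := fun c => Iff.rfl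
  have hIZ : ∀ c ∈ I, ∀ t : G, t * c = c * t := by
    rintro _ ⟨y, hy, rfl⟩ t
    exact hcomC x hx y hy t
  -- the subgroup R
  let R : Subgroup G :=
    { carrier := {v | v ∈ Q ∧ ∀ y ∈ Q, ⁅v, y⁆ ∈ I}
      one_mem' := ⟨Q.one_mem, fun y _ => by
        have : ⁅(1 : G), y⁆ = 1 := by simp
        rw [this]; exact I.one_mem⟩
      mul_mem' := by
        rintro v w ⟨hv, hv'⟩ ⟨hw, hw'⟩
        refine ⟨Q.mul_mem hv hw, fun y hy => ?_⟩
        have e : ⁅v * w, y⁆ = ⁅w, y⁆ * ⁅v, y⁆ := by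
          have hc := hIZ _ (hw' y hy) v
          calc ⁅v * w, y⁆ = (v * ⁅w, y⁆) * v⁻¹ * ⁅v, y⁆ := by
                rw [commutatorElement_def, commutatorElement_def, commutatorElement_def]; group
            _ = (⁅w, y⁆ * v) * v⁻¹ * ⁅v, y⁆ := by rw [hc]
            _ = ⁅w, y⁆ * ⁅v, y⁆ := by group
        rw [e]
        exact I.mul_mem (hw' y hy) (hv' y hy)
      inv_mem' := by
        rintro v ⟨hv, hv'⟩
        refine ⟨Q.inv_mem hv, fun y hy => ?_⟩
        have e : ⁅v⁻¹, y⁆ = (⁅v, y⁆)⁻¹ := by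
          have hc := hIZ _ (I.inv_mem (hv' y hy)) v⁻¹
          calc ⁅v⁻¹, y⁆ = (v⁻¹ * (⁅v, y⁆)⁻¹) * v := by
                rw [commutatorElement_def, commutatorElement_def]; group
            _ = ((⁅v, y⁆)⁻¹ * v⁻¹) * v := by rw [hc]
            _ = (⁅v, y⁆)⁻¹ := by group
        rw [e]
        exact I.inv_mem (hv' y hy) }
  have hRmem : ∀ v, v ∈ R ↔ (v ∈ Q ∧ ∀ y ∈ Q, ⁅v, y⁆ ∈ I) := fun v => Iff.rfl
  have hRQ : R ≤ Q := fun v hv => hv.1
  have hZR : ZQ ≤ R := by
    intro z hz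
    have hzQ : z ∈ Q := Subgroup.map_subtype_le _ hz
    refine ⟨hzQ, fun y _ => ?_⟩
    have hc := Subgroup.mem_center_iff.1 (hZc z hz) y
    have : ⁅z, y⁆ = 1 := by
      rw [commutatorElement_def, ← hc]; group
    rw [this]; exact I.one_mem
  have hxR : x ∈ R := ⟨hx, fun y hy => ⟨y, hy, rfl⟩⟩
  have hAR : A ≤ Subgroup.normalizer (R : Set G) := by
    have key : ∀ b ∈ A, ∀ v ∈ R, b * v * b⁻¹ ∈ R := by
      intro b hb v hv
      have hbQ : ∀ u, u ∈ Q ↔ b * u * b⁻¹ ∈ Q := Subgroup.mem_normalizer_iff.1 (hAQ hb)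
      refine ⟨(hbQ v).1 hv.1, fun y hy => ?_⟩
      have hy' : b⁻¹ * y * b ∈ Q := by
        rw [hbQ]; simpa [mul_assoc] using hy
      have hI := hv.2 _ hy'
      have e : ⁅b * v * b⁻¹, y⁆ = ⁅v, b⁻¹ * y * b⁆ := by
        have hc := hIZ _ hI b
        calc ⁅b * v * b⁻¹, y⁆ = (b * ⁅v, b⁻¹ * y * b⁆) * b⁻¹ := by
              rw [commutatorElement_def, commutatorElement_def]; group
          _ = (⁅v, b⁻¹ * y * b⁆ * b) * b⁻¹ := by rw [hc]
          _ = ⁅v, b⁻¹ * y * b⁆ := by group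
      rw [e]; exact hI
    intro b hb
    rw [Subgroup.mem_normalizer_iff]
    intro v
    constructor
    · exact key b hb v
    · intro hv
      have := key b⁻¹ (A.inv_mem hb) _ hv
      simpa [mul_assoc] using this
  have hΦ : (frattini ↥Q).map Q.subtype = ZQ := by rw [hfz]
  rcases hirr R (by rw [hΦ]; exact hZR) hRQ hAR with hR | hR
  · exfalso
    apply hxZ
    rw [← hΦ, ← hR]; exact hxR
  · -- all commutators in I
    have hx2 : x ^ 2 ∈ ZQ := by
      refine ⟨⟨x, hx⟩ ^ 2, ?_, rfl⟩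
      rw [← hfz]
      exact pow_mem_frattini_of_isPGroup hQ _
    have hle : ZQ ≤ I := by
      rw [hZQ, ← hcz, commutator_eq_closure, MonoidHom.map_closure, Subgroup.closure_le]
      rintro _ ⟨_, ⟨u, v, rfl⟩, rfl⟩
      have hu : (u : G) ∈ R := by rw [hR]; exact u.2
      have := hu.2 (v : G) v.2
      simpa using this
    obtain ⟨y, hy, hxy⟩ := hle hx2
    exact ⟨y, hy, hxy.symm⟩


theorem npc_of_real_two_central {G : Type*} [Group G] [Finite G]
    (h : ∀ x : G, (∃ j : ℕ, orderOf x = 2 ^ j) → IsConj x x⁻¹ → x ∈ Subgroup.center G) :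
    Cfsg.HasNormalPComplement 2 G := by
  -- involutions are central
  have hinv : ∀ z : G, z ^ 2 = 1 → z ∈ Subgroup.center G := by
    intro z hz
    apply h z
    · have hdvd : orderOf z ∣ 2 ^ 1 := by
        rw [pow_one]; exact orderOf_dvd_of_pow_eq_one hz
      obtain ⟨j, _, hj⟩ := (Nat.dvd_prime_pow Nat.prime_two).1 hdvd
      exact ⟨j, hj⟩
    · have : z⁻¹ = z := by
        rw [inv_eq_iff_mul_eq_one, ← pow_two]; exact hz
      rw [this]
  have hF : Cfsg.Agent.lead.FrobCond 2 G := by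
    by_contra hnF
    unfold Cfsg.Agent.lead.FrobCond at hnF
    push Not at hnF
    obtain ⟨Q₀, hQ₀, g, hg, hcop, hgC⟩ := hnF
    set A : Subgroup G := Subgroup.zpowers g with hA
    have hAcard : Nat.card A = orderOf g := Nat.card_zpowers g
    have hAp : (Nat.card A).Coprime 2 := by rw [hAcard]; exact hcop
    let S : Set (Subgroup G) := {Q | IsPGroup 2 Q ∧ A ≤ Subgroup.normalizer (Q : Set G) ∧
      ¬ A ≤ Subgroup.centralizer (Q : Set G)}
    have hSne : S.Nonempty := by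
      refine ⟨Q₀, hQ₀, ?_, ?_⟩
      · rw [hA, Subgroup.zpowers_le]; exact hg
      · intro hc
        exact hgC (hc (Subgroup.mem_zpowers g))
    obtain ⟨Q, ⟨hQ, hAQ, hQne⟩, hQmin⟩ := wellFounded_lt.has_min S hSne
    have hnt : ⁅Q, A⁆ ≠ ⊥ := by
      intro h0
      rw [Subgroup.commutator_eq_bot_iff_le_centralizer] at h0
      exact hQne (Subgroup.le_centralizer_iff.1 h0)
    have hmin : ∀ U : Subgroup G, U < Q → A ≤ Subgroup.normalizer (U : Set G) → ⁅U, A⁆ = ⊥ := by
      intro U hUQ hAU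
      by_contra hU
      apply hQmin U ⟨hQ.to_le hUQ.le, hAU, ?_⟩ hUQ
      intro hc
      apply hU
      rw [Subgroup.commutator_eq_bot_iff_le_centralizer]
      exact Subgroup.le_centralizer_iff.1 hc
    obtain ⟨_, hcase, hirr, _⟩ := hall_higman_reduction A A Q hQ hAQ le_rfl
      Subgroup.le_normalizer hAp hnt hmin
    -- central elements of G in Q are centralized
    have hcentral : (∀ x ∈ Q, x ∈ Subgroup.center G) → False := by
      intro hall
      apply hQne
      intro a _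
      rw [Subgroup.mem_centralizer_iff]
      intro x hx
      exact (Subgroup.mem_center_iff.1 (hall x hx) a).symm
    rcases hcase with hel | hsp
    · exact hcentral (fun x hx => hinv x (hel.2 x hx))
    · have hZc : ∀ z ∈ (Subgroup.center ↥Q).map Q.subtype, z ∈ Subgroup.center G := by
        rintro _ ⟨z, hz, rfl⟩
        apply hinv
        have := special_two_center_sq hsp z hz
        have := congrArg Subtype.val this
        simpa using this
      by_cases hallZ : ∀ x ∈ Q, x ∈ (Subgroup.center ↥Q).map Q.subtype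
      · exact hcentral (fun x hx => hZc x (hallZ x hx))
      · push Not at hallZ
        obtain ⟨x, hx, hxZ⟩ := hallZ
        obtain ⟨y, hy, hxy⟩ := exists_comm_eq_sq_of_special Q A hsp hAQ hZc hirr x hx hxZ
        have hconj : IsConj x x⁻¹ := by
          apply IsConj.symm
          rw [isConj_iff]
          refine ⟨y, ?_⟩
          have e : y * x⁻¹ * y⁻¹ = x⁻¹ * ⁅x, y⁆ := by
            rw [commutatorElement_def]; group
          rw [e, hxy]; group
        have hord : ∃ j : ℕ, orderOf x = 2 ^ j := by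
          obtain ⟨k, hk⟩ := hQ ⟨x, hx⟩
          have hk' : x ^ 2 ^ k = 1 := by
            have := congrArg Subtype.val hk
            simpa using this
          obtain ⟨j, _, hj⟩ := (Nat.dvd_prime_pow Nat.prime_two).1 (orderOf_dvd_of_pow_eq_one hk')
          exact ⟨j, hj⟩
        have hxc := h x hord hconj
        apply hxZ
        have hxcQ : (⟨x, hx⟩ : ↥Q) ∈ Subgroup.center ↥Q := by
          rw [Subgroup.mem_center_iff]
          intro t
          apply Subtype.ext
          simp only [Subgroup.coe_mul]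
          exact Subgroup.mem_center_iff.1 hxc t
        exact ⟨⟨x, hx⟩, hxcQ, rfl⟩
  obtain ⟨P⟩ := (inferInstance : Nonempty (Sylow 2 G))
  exact ⟨P, _, (Cfsg.Agent.S0071.complement_of_frobCond hF P).1,
    (Cfsg.Agent.S0071.complement_of_frobCond hF P).2⟩

end Cfsg.Agent.helper19
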