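import Mathlib
import Cfsg.Prelude.Def_Transfer
import Cfsg.Agent.Lib_helper1_ElemAb
import Cfsg.Agent.Lib_helper1_PGroup

set_option linter.style.haveILetI false
set_option autoImplicit false

/-!
# p-groups of symplectic type (P. Hall): general lemmas
-/

namespace Cfsg.Agent.helper7.Sym

variable {G : Type*} [Group G]

/-- the commutator `g c g⁻¹ c⁻¹` -/
def cm (g c : G) : G := g * c * g⁻¹ * c⁻¹

theorem conj_eq_cm (g c : G) : g * c * g⁻¹ = cm g c * c := by unfold cm; group

theorem cm_eq_one_iff (g c : G) : cm g c = 1 ↔ g * c = c * g := by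
  unfold cm
  constructor
  · intro h
    have : g * c * g⁻¹ * c⁻¹ * (c * g) = c * g := by rw [h, one_mul]
    rw [← this]; group
  · intro h
    calc g * c * g⁻¹ * c⁻¹ = (g * c) * g⁻¹ * c⁻¹ := by group
      _ = (c * g) * g⁻¹ * c⁻¹ := by rw [h]
      _ = 1 := by group

theorem cm_inv_swap (g c : G) : (cm g c)⁻¹ = cm c g := by unfold cm; group

/-- class two power formula: if `c = y x y⁻¹ x⁻¹` commutes with `x` and `y` then
`(x y)^n = x^n y^n c^(n(n-1)/2)`; here in the weak form `(x y)^n = x^n y^n c^m`. -/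
theorem mul_pow_class2 (x y : G) (hcx : cm y x * x = x * cm y x) (hcy : cm y x * y = y * cm y x)
    (n : ℕ) : ∃ m : ℕ, (x * y) ^ n = x ^ n * y ^ n * (cm y x) ^ m ∧ 2 * m = n * (n - 1) := by
  -- first: y^k x = c^k x y^k
  have hyx : y * x = cm y x * x * y := by unfold cm; group
  have hck : ∀ k : ℕ, y ^ k * x = (cm y x) ^ k * x * y ^ k := by
    intro k
    induction k with
    | zero => simp
    | succ k ih =>
      have hcyk : ∀ j : ℕ, (cm y x) ^ j * y = y * (cm y x) ^ j := by
        intro j
        exact ((Commute.pow_left (show Commute (cm y x) y from hcy) j)).eq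
      calc y ^ (k + 1) * x = y * (y ^ k * x) := by rw [pow_succ']; group
        _ = y * ((cm y x) ^ k * x * y ^ k) := by rw [ih]
        _ = (y * (cm y x) ^ k) * x * y ^ k := by group
        _ = ((cm y x) ^ k * y) * x * y ^ k := by rw [hcyk k]
        _ = (cm y x) ^ k * (y * x) * y ^ k := by group
        _ = (cm y x) ^ k * (cm y x * x * y) * y ^ k := by rw [hyx]
        _ = (cm y x) ^ (k + 1) * x * y ^ (k + 1) := by rw [pow_succ, pow_succ']; group
  have hcxk : ∀ j k : ℕ, (cm y x) ^ j * x ^ k = x ^ k * (cm y x) ^ j := by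
    intro j k
    exact ((Commute.pow_pow (show Commute (cm y x) x from hcx) j k)).eq
  have hcyk : ∀ j k : ℕ, (cm y x) ^ j * y ^ k = y ^ k * (cm y x) ^ j := by
    intro j k
    exact ((Commute.pow_pow (show Commute (cm y x) y from hcy) j k)).eq
  induction n with
  | zero => exact ⟨0, by simp, by simp⟩
  | succ n ih =>
    obtain ⟨m, hm, h2m⟩ := ih
    refine ⟨m + n, ?_, ?_⟩
    · calc (x * y) ^ (n + 1) = (x * y) ^ n * (x * y) := pow_succ _ _
        _ = x ^ n * y ^ n * (cm y x) ^ m * (x * y) := by rw [hm]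
        _ = x ^ n * (y ^ n * ((cm y x) ^ m * x)) * y := by group
        _ = x ^ n * (y ^ n * (x * (cm y x) ^ m)) * y := by
            have := hcxk m 1
            rw [pow_one] at this
            rw [this]
        _ = x ^ n * ((y ^ n * x) * (cm y x) ^ m) * y := by group
        _ = x ^ n * (((cm y x) ^ n * x * y ^ n) * (cm y x) ^ m) * y := by rw [hck n]
        _ = x ^ n * ((cm y x) ^ n * x) * (y ^ n * (cm y x) ^ m) * y := by group
        _ = x ^ n * (x * (cm y x) ^ n) * ((cm y x) ^ m * y ^ n) * y := by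
            have h1 := hcxk n 1
            rw [pow_one] at h1
            rw [h1, hcyk m n]
        _ = x ^ (n + 1) * ((cm y x) ^ n * (cm y x) ^ m) * y ^ (n + 1) := by
            rw [pow_succ, pow_succ]; group
        _ = x ^ (n + 1) * ((cm y x) ^ (m + n) * y ^ (n + 1)) := by
            rw [← pow_add, add_comm n m]; group
        _ = x ^ (n + 1) * (y ^ (n + 1) * (cm y x) ^ (m + n)) := by rw [hcyk]
        _ = x ^ (n + 1) * y ^ (n + 1) * (cm y x) ^ (m + n) := by group
    · cases n with
      | zero => simp at h2m ⊢; omega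
      | succ k =>
        simp only [Nat.add_sub_cancel] at h2m ⊢
        have : (k + 1) * k = 2 * m := h2m.symm
        nlinarith

/-- commuting subgroups: membership in the join -/
theorem mem_sup_of_commute {E Q : Subgroup G} (hc : ∀ e ∈ E, ∀ q ∈ Q, e * q = q * e) (x : G) :
    x ∈ E ⊔ Q ↔ ∃ e ∈ E, ∃ q ∈ Q, x = e * q := by
  constructor
  · intro hx
    rw [Subgroup.sup_eq_closure] at hx
    induction hx using Subgroup.closure_induction with
    | mem y hy =>
      rcases hy with hy | hy
      · exact ⟨y, hy, 1, Q.one_mem, (mul_one y).symm⟩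
      · exact ⟨1, E.one_mem, y, hy, (one_mul y).symm⟩
    | one => exact ⟨1, E.one_mem, 1, Q.one_mem, (mul_one 1).symm⟩
    | mul a b _ _ iha ihb =>
      obtain ⟨e, he, q, hq, rfl⟩ := iha
      obtain ⟨e', he', q', hq', rfl⟩ := ihb
      refine ⟨e * e', E.mul_mem he he', q * q', Q.mul_mem hq hq', ?_⟩
      calc e * q * (e' * q') = e * (q * e') * q' := by group
        _ = e * (e' * q) * q' := by rw [hc e' he' q hq]
        _ = e * e' * (q * q') := by group
    | inv a _ iha =>
      obtain ⟨e, he, q, hq, rfl⟩ := iha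
      refine ⟨e⁻¹, E.inv_mem he, q⁻¹, Q.inv_mem hq, ?_⟩
      rw [mul_inv_rev, hc e⁻¹ (E.inv_mem he) q⁻¹ (Q.inv_mem hq)]
  · rintro ⟨e, he, q, hq, rfl⟩
    exact Subgroup.mul_mem _ (Subgroup.mem_sup_left he) (Subgroup.mem_sup_right hq)

end Cfsg.Agent.helper7.Sym
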