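import Mathlib
import Cfsg.Agent.Lib_helper7_Sym1

set_option linter.style.haveILetI false
set_option autoImplicit false

/-!
# p-groups of symplectic type: the critical subgroup context and extraspecial data
-/

namespace Cfsg.Agent.helper7.Sym

open scoped commutatorElement

variable {G : Type*} [Group G]

/-- context: `C` a normal subgroup of class at most two with "centre" `Z`, `[G, C] ≤ Z`,
`C/Z` of exponent `p`, and `z1` generating the elements of order `p` of `Z`. -/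
structure Ctx (p : ℕ) (C Z : Subgroup G) (z1 : G) : Prop where
  ZC : Z ≤ C
  Zcen : ∀ z ∈ Z, ∀ c ∈ C, z * c = c * z
  cenZ : ∀ g : G, (∀ d ∈ C, g * d = d * g) → g ∈ Z
  z1Z : z1 ∈ Z
  z1ord : orderOf z1 = p
  omega : ∀ z ∈ Z, z ^ p = 1 → z ∈ Subgroup.zpowers z1
  cmZ : ∀ g : G, ∀ c ∈ C, cm g c ∈ Z
  powZ : ∀ c ∈ C, c ^ p ∈ Z
  nor : ∀ g : G, ∀ c ∈ C, g * c * g⁻¹ ∈ C

namespace Ctx

variable {p : ℕ} {C Z : Subgroup G} {z1 : G}

theorem z1C (h : Ctx p C Z z1) : z1 ∈ C := h.ZC h.z1Z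

theorem Z1Z (h : Ctx p C Z z1) : Subgroup.zpowers z1 ≤ Z := Subgroup.zpowers_le.mpr h.z1Z

theorem Z1cen (h : Ctx p C Z z1) {z : G} (hz : z ∈ Subgroup.zpowers z1) {c : G} (hc : c ∈ C) :
    z * c = c * z := h.Zcen z (h.Z1Z hz) c hc

theorem z1pow (h : Ctx p C Z z1) : z1 ^ p = 1 := by rw [← h.z1ord]; exact pow_orderOf_eq_one _

theorem Z1pow (h : Ctx p C Z z1) {z : G} (hz : z ∈ Subgroup.zpowers z1) : z ^ p = 1 := by
  obtain ⟨k, rfl⟩ := Subgroup.mem_zpowers_iff.mp hz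
  rw [← zpow_natCast, ← zpow_mul, mul_comm, zpow_mul, zpow_natCast, h.z1pow, one_zpow]

theorem cm_mul (h : Ctx p C Z z1) (g : G) {c c' : G} (hc : c ∈ C) (hc' : c' ∈ C) :
    cm g (c * c') = cm g c * cm g c' := by
  have h1 := h.Zcen _ (h.cmZ g c' hc') c hc
  calc cm g (c * c') = (g * c * g⁻¹) * (g * c' * g⁻¹) * c'⁻¹ * c⁻¹ := by unfold cm; group
    _ = (cm g c * c) * (cm g c' * c') * c'⁻¹ * c⁻¹ := by rw [conj_eq_cm, conj_eq_cm]
    _ = cm g c * (c * cm g c') * c⁻¹ := by group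
    _ = cm g c * (cm g c' * c) * c⁻¹ := by rw [h1]
    _ = cm g c * cm g c' := by group

theorem cm_one (g : G) : cm g 1 = 1 := by unfold cm; group

theorem cm_pow (h : Ctx p C Z z1) (g : G) {c : G} (hc : c ∈ C) (n : ℕ) :
    cm g (c ^ n) = (cm g c) ^ n := by
  induction n with
  | zero => simp [cm_one]
  | succ n ih => rw [pow_succ, h.cm_mul g (C.pow_mem hc n) hc, ih, pow_succ]

/-- homomorphic in the first variable on `C` -/
theorem cm_mul_left (h : Ctx p C Z z1) {a a' b : G} (ha : a ∈ C) (hb : b ∈ C) :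
    cm (a * a') b = cm a' b * cm a b := by
  have h1 := h.Zcen _ (h.cmZ a' b hb) a ha
  calc cm (a * a') b = a * (a' * b * a'⁻¹) * a⁻¹ * b⁻¹ := by unfold cm; group
    _ = a * (cm a' b * b) * a⁻¹ * b⁻¹ := by rw [conj_eq_cm a' b]
    _ = (a * cm a' b) * b * a⁻¹ * b⁻¹ := by group
    _ = (cm a' b * a) * b * a⁻¹ * b⁻¹ := by rw [h1]
    _ = cm a' b * cm a b := by unfold cm; group

theorem cm_pow_left (h : Ctx p C Z z1) {a b : G} (ha : a ∈ C) (hb : b ∈ C) (n : ℕ) :
    cm (a ^ n) b = (cm a b) ^ n := by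
  induction n with
  | zero => simp [cm]
  | succ n ih =>
    rw [pow_succ', h.cm_mul_left ha hb, ih, pow_succ]

/-- if `c ^ p` is central in `C`-terms (here: `c^p = 1`), `cm g c` has order dividing `p` -/
theorem cm_mem_Z1_of_pow (h : Ctx p C Z z1) (g : G) {c : G} (hc : c ∈ C) (hcp : c ^ p = 1) :
    cm g c ∈ Subgroup.zpowers z1 := by
  apply h.omega _ (h.cmZ g c hc)
  rw [← h.cm_pow g hc, hcp, cm_one]

/-- commutators of elements of `C` lie in `⟨z1⟩` -/
theorem cm_mem_Z1 (h : Ctx p C Z z1) {a b : G} (ha : a ∈ C) (hb : b ∈ C) :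
    cm a b ∈ Subgroup.zpowers z1 := by
  apply h.omega _ (h.cmZ a b hb)
  rw [← h.cm_pow a hb]
  rw [cm_eq_one_iff]
  exact (h.Zcen _ (h.powZ b hb) a ha).symm

/-- the `p`-th power map is a homomorphism modulo `⟨z1⟩` -/
theorem mul_pow_mod (h : Ctx p C Z z1) {x y : G} (hx : x ∈ C) (hy : y ∈ C) :
    ∃ ζ ∈ Subgroup.zpowers z1, (x * y) ^ p = x ^ p * y ^ p * ζ := by
  have hc := h.cm_mem_Z1 hy hx
  obtain ⟨m, hm, -⟩ := mul_pow_class2 x y (h.Z1cen hc hx) (h.Z1cen hc hy) p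
  exact ⟨_, Subgroup.pow_mem _ hc m, hm⟩

/-- for odd `p` the `p`-th power map is a homomorphism on `C` -/
theorem mul_pow_odd [hp : Fact p.Prime] (h : Ctx p C Z z1) (hp2 : p ≠ 2) {x y : G} (hx : x ∈ C)
    (hy : y ∈ C) : (x * y) ^ p = x ^ p * y ^ p := by
  have hc := h.cm_mem_Z1 hy hx
  obtain ⟨m, hm, h2m⟩ := mul_pow_class2 x y (h.Z1cen hc hx) (h.Z1cen hc hy) p
  have hodd : Odd p := hp.out.odd_of_ne_two hp2
  obtain ⟨k, hk⟩ := hodd
  have hm' : m = p * k := by
    have h1 : p - 1 = 2 * k := by omega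
    rw [h1] at h2m
    have : 2 * m = 2 * (p * k) := by rw [h2m]; ring
    omega
  rw [hm, hm', pow_mul, h.Z1pow hc, one_pow, mul_one]

end Ctx

/-- extraspecial data for a subgroup `E` (inside a context) -/
structure ESData (p : ℕ) (z1 : G) (E : Subgroup G) : Prop where
  z1E : z1 ∈ E
  cen : ∀ u ∈ E, (∀ v ∈ E, u * v = v * u) → u ∈ Subgroup.zpowers z1
  pow : ∀ u ∈ E, u ^ p ∈ Subgroup.zpowers z1
  nab : ∃ u ∈ E, ∃ v ∈ E, u * v ≠ v * u

theorem ESData.isExtraspecial' [Finite G] {p : ℕ} [hp : Fact p.Prime] (hG : IsPGroup p G)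
    {z1 : G} (hz1 : orderOf z1 = p) {E : Subgroup G}
    (hZ1cen : ∀ z ∈ Subgroup.zpowers z1, ∀ e ∈ E, z * e = e * z)
    (hcm : ∀ a ∈ E, ∀ b ∈ E, cm a b ∈ Subgroup.zpowers z1)
    (h : ESData p z1 E) : Cfsg.IsExtraspecial p ↥E := by
  have hZ1E : Subgroup.zpowers z1 ≤ E := Subgroup.zpowers_le.mpr h.z1E
  have hcen : Subgroup.center ↥E = (Subgroup.zpowers z1).subgroupOf E := by
    ext x
    rw [Subgroup.mem_center_iff, Subgroup.mem_subgroupOf]
    constructor
    · intro hx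
      apply h.cen _ x.2
      intro v hv
      have := hx ⟨v, hv⟩
      exact (congrArg Subtype.val this).symm
    · intro hx g
      apply Subtype.ext
      exact (hZ1cen _ hx _ g.2).symm
  have hcardc : Nat.card (Subgroup.center ↥E) = p := by
    rw [hcen, Nat.card_congr (Subgroup.subgroupOfEquivOfLe hZ1E).toEquiv, Nat.card_zpowers,
      hz1]
  have hEp : IsPGroup p ↥E := hG.to_subgroup E
  have hcomm_le : commutator ↥E ≤ Subgroup.center ↥E := by
    rw [commutator_def, Subgroup.commutator_le]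
    intro a _ b _
    rw [hcen, Subgroup.mem_subgroupOf]
    have := hcm _ a.2 _ b.2
    have h2 : ((⁅a, b⁆ : ↥E) : G) = cm (a : G) (b : G) := by
      simp [commutatorElement_def, cm]
    rw [h2]; exact this
  have hcomm : commutator ↥E = Subgroup.center ↥E := by
    apply Subgroup.eq_of_le_of_card_ge hcomm_le
    rw [hcardc]
    have hdvd : Nat.card (commutator ↥E) ∣ p := by
      rw [← hcardc]; exact Subgroup.card_dvd_of_le hcomm_le
    rcases (Nat.dvd_prime hp.out).mp hdvd with h1 | h1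
    · exfalso
      obtain ⟨u, hu, v, hv, huv⟩ := h.nab
      have hbot : commutator ↥E = ⊥ := Subgroup.card_eq_one.mp h1
      have hmem : ⁅(⟨u, hu⟩ : ↥E), ⟨v, hv⟩⁆ ∈ commutator ↥E := by
        rw [commutator_def]
        exact Subgroup.commutator_mem_commutator (Subgroup.mem_top _) (Subgroup.mem_top _)
      rw [hbot, Subgroup.mem_bot, commutatorElement_eq_one_iff_mul_comm] at hmem
      exact huv (congrArg Subtype.val hmem)
    · exact le_of_eq h1.symm
  refine ⟨⟨hEp, ?_, hcomm⟩, hcardc⟩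
  apply le_antisymm
  · apply Cfsg.Agent.helper1.frattini_le_of_elemAb_quot (p := p) (Subgroup.center ↥E)
      (le_of_eq hcomm)
    intro x
    rw [hcen, Subgroup.mem_subgroupOf, Subgroup.coe_pow]
    exact h.pow _ x.2
  · rw [← hcomm]
    exact Cfsg.Agent.helper1.commutator_le_frattini_of_isPGroup hEp

theorem ESData.isExtraspecial [Finite G] {p : ℕ} [hp : Fact p.Prime] (hG : IsPGroup p G)
    {C Z : Subgroup G} {z1 : G} (ctx : Ctx p C Z z1) {E : Subgroup G} (hle : E ≤ C)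
    (h : ESData p z1 E) : Cfsg.IsExtraspecial p ↥E :=
  ESData.isExtraspecial' hG ctx.z1ord (fun _ hz _ he => ctx.Z1cen hz (hle he))
    (fun _ ha _ hb => ctx.cm_mem_Z1 (hle ha) (hle hb)) h

end Cfsg.Agent.helper7.Sym
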