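import Mathlib
import Cfsg.Agent.Lib_helper7_Sym2

set_option linter.style.haveILetI false
set_option autoImplicit false

/-!
# p-groups of symplectic type: extraspecial groups of order `p^3` and central products
-/

namespace Cfsg.Agent.helper7.Sym

variable {G : Type*} [Group G] {p : ℕ} {C Z : Subgroup G} {z1 : G}

/-- a nontrivial element of `⟨z1⟩` generates it -/
theorem z1_mem_zpowers [Finite G] [hp : Fact p.Prime] (ctx : Ctx p C Z z1) {c : G}
    (hc : c ∈ Subgroup.zpowers z1) (hc1 : c ≠ 1) : z1 ∈ Subgroup.zpowers c := by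
  have hle : Subgroup.zpowers c ≤ Subgroup.zpowers z1 := Subgroup.zpowers_le.mpr hc
  have hord : orderOf c = p := by
    have h1 : orderOf c ∣ p := orderOf_dvd_of_pow_eq_one (ctx.Z1pow hc)
    rcases (Nat.dvd_prime hp.out).mp h1 with h | h
    · exact absurd (orderOf_eq_one_iff.mp h) hc1
    · exact h
  have heq : Subgroup.zpowers c = Subgroup.zpowers z1 := by
    apply Subgroup.eq_of_le_of_card_ge hle
    rw [Nat.card_zpowers, Nat.card_zpowers, hord, ctx.z1ord]
  rw [heq]
  exact Subgroup.mem_zpowers z1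

theorem orderOf_of_mem_Z1 [hp : Fact p.Prime] (ctx : Ctx p C Z z1) {c : G}
    (hc : c ∈ Subgroup.zpowers z1) (hc1 : c ≠ 1) : orderOf c = p := by
  have h1 : orderOf c ∣ p := orderOf_dvd_of_pow_eq_one (ctx.Z1pow hc)
  rcases (Nat.dvd_prime hp.out).mp h1 with h | h
  · exact absurd (orderOf_eq_one_iff.mp h) hc1
  · exact h

/-- normal form in `⟨x, y⟩` -/
theorem pair_normal_form [hp : Fact p.Prime] (ctx : Ctx p C Z z1) {x y : G} (hx : x ∈ C)
    (hy : y ∈ C) (hxp : x ^ p ∈ Subgroup.zpowers z1) (hyp : y ^ p ∈ Subgroup.zpowers z1) :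
    ∀ u ∈ Subgroup.closure ({x, y} : Set G),
      ∃ i j : ℕ, ∃ ζ ∈ Subgroup.zpowers z1, u = x ^ i * y ^ j * ζ := by
  have hp1 : 1 ≤ p := hp.out.one_lt.le
  intro u hu
  induction hu using Subgroup.closure_induction'' with
  | mem v hv =>
    rcases hv with rfl | hv
    · exact ⟨1, 0, 1, one_mem _, by simp⟩
    · rw [Set.mem_singleton_iff] at hv
      subst hv
      exact ⟨0, 1, 1, one_mem _, by simp⟩
  | inv_mem v hv =>
    rcases hv with rfl | hv
    · refine ⟨p - 1, 0, (v ^ p)⁻¹, inv_mem hxp, ?_⟩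
      have : v ^ p = v ^ (p - 1) * v := by
        rw [← pow_succ]; congr 1; omega
      rw [this]; group
    · rw [Set.mem_singleton_iff] at hv
      subst hv
      refine ⟨0, p - 1, (v ^ p)⁻¹, inv_mem hyp, ?_⟩
      have : v ^ p = v ^ (p - 1) * v := by
        rw [← pow_succ]; congr 1; omega
      rw [this]; group
  | one => exact ⟨0, 0, 1, one_mem _, by simp⟩
  | mul a b _ _ iha ihb =>
    obtain ⟨i, j, ζ, hζ, rfl⟩ := iha
    obtain ⟨i', j', ζ', hζ', rfl⟩ := ihb
    have hxi : x ^ i' ∈ C := C.pow_mem hx i'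
    have hyj : y ^ j ∈ C := C.pow_mem hy j
    have hcm := ctx.cm_mem_Z1 hyj hxi
    refine ⟨i + i', j + j', ζ * ζ' * cm (y ^ j) (x ^ i'), mul_mem (mul_mem hζ hζ') hcm, ?_⟩
    have h1 : y ^ j * x ^ i' = cm (y ^ j) (x ^ i') * x ^ i' * y ^ j := by unfold cm; group
    have h2 := ctx.Z1cen hζ (C.mul_mem (C.pow_mem hx i') (C.pow_mem hy j'))
    have h3 := ctx.Z1cen hcm (C.pow_mem hx i)
    have h4 := ctx.Z1cen hcm (C.mul_mem (C.pow_mem hx (i + i')) (C.pow_mem hy (j + j')))
    have hZ1C : Subgroup.zpowers z1 ≤ C := ctx.Z1Z.trans ctx.ZC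
    have h5 := ctx.Z1cen hcm (hZ1C (mul_mem hζ hζ'))
    calc x ^ i * y ^ j * ζ * (x ^ i' * y ^ j' * ζ')
        = x ^ i * y ^ j * (ζ * (x ^ i' * y ^ j')) * ζ' := by group
      _ = x ^ i * y ^ j * ((x ^ i' * y ^ j') * ζ) * ζ' := by rw [h2]
      _ = x ^ i * (y ^ j * x ^ i') * y ^ j' * ζ * ζ' := by group
      _ = x ^ i * (cm (y ^ j) (x ^ i') * x ^ i' * y ^ j) * y ^ j' * ζ * ζ' := by rw [h1]
      _ = (x ^ i * cm (y ^ j) (x ^ i')) * x ^ i' * (y ^ j * y ^ j') * ζ * ζ' := by group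
      _ = (cm (y ^ j) (x ^ i') * x ^ i) * x ^ i' * (y ^ j * y ^ j') * ζ * ζ' := by rw [h3]
      _ = (cm (y ^ j) (x ^ i') * (x ^ (i + i') * y ^ (j + j'))) * (ζ * ζ') := by
          rw [pow_add, pow_add]; group
      _ = ((x ^ (i + i') * y ^ (j + j')) * cm (y ^ j) (x ^ i')) * (ζ * ζ') := by rw [h4]
      _ = (x ^ (i + i') * y ^ (j + j')) * (cm (y ^ j) (x ^ i') * (ζ * ζ')) := by group
      _ = x ^ (i + i') * y ^ (j + j') * (ζ * ζ' * cm (y ^ j) (x ^ i')) := by rw [h5]


/-- a noncommuting pair with `p`-th powers in `⟨z1⟩` generates an extraspecial group -/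
theorem esdata_pair [Finite G] [hp : Fact p.Prime] (ctx : Ctx p C Z z1) {x y : G} (hx : x ∈ C)
    (hy : y ∈ C) (hxy : cm x y ≠ 1) (hxp : x ^ p ∈ Subgroup.zpowers z1)
    (hyp : y ^ p ∈ Subgroup.zpowers z1) : ESData p z1 (Subgroup.closure ({x, y} : Set G)) := by
  have hxQ : x ∈ Subgroup.closure ({x, y} : Set G) := Subgroup.subset_closure (by simp)
  have hyQ : y ∈ Subgroup.closure ({x, y} : Set G) := Subgroup.subset_closure (by simp)
  have hc := ctx.cm_mem_Z1 hx hy
  have hcord := orderOf_of_mem_Z1 ctx hc hxy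
  have hc' := ctx.cm_mem_Z1 hy hx
  have hxy' : cm y x ≠ 1 := by
    intro h
    apply hxy
    rw [← cm_inv_swap, h, inv_one]
  have hcord' := orderOf_of_mem_Z1 ctx hc' hxy'
  have hpowmem : ∀ (w : G), w ^ p ∈ Subgroup.zpowers z1 → ∀ i : ℕ, p ∣ i →
      w ^ i ∈ Subgroup.zpowers z1 := by
    intro w hw i hi
    obtain ⟨i', rfl⟩ := hi
    rw [pow_mul]
    exact Subgroup.pow_mem _ hw i'
  refine ⟨?_, ?_, ?_, ⟨x, hxQ, y, hyQ, ?_⟩⟩
  · have h1 : z1 ∈ Subgroup.zpowers (cm x y) := z1_mem_zpowers ctx hc hxy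
    have h2 : cm x y ∈ Subgroup.closure ({x, y} : Set G) := by
      unfold cm
      exact mul_mem (mul_mem (mul_mem hxQ hyQ) (inv_mem hxQ)) (inv_mem hyQ)
    exact (Subgroup.zpowers_le.mpr h2) h1
  · intro u hu hcomm
    obtain ⟨i, j, ζ, hζ, rfl⟩ := pair_normal_form ctx hx hy hxp hyp u hu
    have hi : p ∣ i := by
      have h1 := hcomm y hyQ
      have h2 : x ^ i * y = y * x ^ i := by
        have hζy := ctx.Z1cen hζ hy
        have e1 : x ^ i * y ^ j * ζ * y = x ^ i * y * (y ^ j * ζ) := by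
          calc x ^ i * y ^ j * ζ * y = x ^ i * y ^ j * (ζ * y) := by group
            _ = x ^ i * y ^ j * (y * ζ) := by rw [hζy]
            _ = x ^ i * (y ^ j * y) * ζ := by group
            _ = x ^ i * (y * y ^ j) * ζ := by rw [← pow_succ, ← pow_succ']
            _ = x ^ i * y * (y ^ j * ζ) := by group
        rw [e1] at h1
        have h3 : y * (x ^ i * y ^ j * ζ) = y * x ^ i * (y ^ j * ζ) := by group
        rw [h3] at h1
        exact mul_right_cancel h1
      have h4 : cm (x ^ i) y = 1 := (cm_eq_one_iff _ _).mpr h2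
      rw [ctx.cm_pow_left hx hy] at h4
      rw [← hcord]
      exact orderOf_dvd_of_pow_eq_one h4
    have hj : p ∣ j := by
      have h1 := hcomm x hxQ
      have h2 : y ^ j * x = x * y ^ j := by
        have hζx := ctx.Z1cen hζ hx
        have e1 : x ^ i * y ^ j * ζ * x = x ^ i * (y ^ j * x) * ζ := by
          calc x ^ i * y ^ j * ζ * x = x ^ i * y ^ j * (ζ * x) := by group
            _ = x ^ i * y ^ j * (x * ζ) := by rw [hζx]
            _ = x ^ i * (y ^ j * x) * ζ := by group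
        have e2 : x * (x ^ i * y ^ j * ζ) = x ^ i * (x * y ^ j) * ζ := by
          calc x * (x ^ i * y ^ j * ζ) = (x * x ^ i) * y ^ j * ζ := by group
            _ = (x ^ i * x) * y ^ j * ζ := by rw [← pow_succ, ← pow_succ']
            _ = x ^ i * (x * y ^ j) * ζ := by group
        rw [e1, e2] at h1
        exact mul_left_cancel (mul_right_cancel h1)
      have h4 : cm (y ^ j) x = 1 := (cm_eq_one_iff _ _).mpr h2
      rw [ctx.cm_pow_left hy hx] at h4
      rw [← hcord']
      exact orderOf_dvd_of_pow_eq_one h4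
    exact mul_mem (mul_mem (hpowmem x hxp i hi) (hpowmem y hyp j hj)) hζ
  · intro u hu
    obtain ⟨i, j, ζ, hζ, rfl⟩ := pair_normal_form ctx hx hy hxp hyp u hu
    have hxi : x ^ i ∈ C := C.pow_mem hx i
    have hyj : y ^ j ∈ C := C.pow_mem hy j
    have hcomm : Commute (x ^ i * y ^ j) ζ := (ctx.Z1cen hζ (C.mul_mem hxi hyj)).symm
    rw [hcomm.mul_pow, ctx.Z1pow hζ, mul_one]
    obtain ⟨ζ', hζ', h1⟩ := ctx.mul_pow_mod hxi hyj
    rw [h1]
    refine mul_mem (mul_mem ?_ ?_) hζ'
    · rw [← pow_mul]; exact hpowmem x hxp _ (dvd_mul_left p i)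
    · rw [← pow_mul]; exact hpowmem y hyp _ (dvd_mul_left p j)
  · intro h
    exact hxy ((cm_eq_one_iff _ _).mpr h)

/-- central product of extraspecial data -/
theorem esdata_sup {E Q : Subgroup G}
    (hE : E = ⊥ ∨ ESData p z1 E) (hQ : ESData p z1 Q)
    (hc : ∀ e ∈ E, ∀ q ∈ Q, e * q = q * e) : ESData p z1 (E ⊔ Q) := by
  rcases hE with rfl | hE
  · rw [bot_sup_eq]; exact hQ
  refine ⟨Subgroup.mem_sup_right hQ.z1E, ?_, ?_, ?_⟩
  · intro u hu hcomm
    obtain ⟨e, he, q, hq, rfl⟩ := (mem_sup_of_commute hc u).mp hu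
    have he1 : e ∈ Subgroup.zpowers z1 := by
      apply hE.cen e he
      intro v hv
      have h1 := hcomm v (Subgroup.mem_sup_left hv)
      have h2 := hc v hv q hq
      have h3 : e * v * q = v * e * q := by
        calc e * v * q = e * (v * q) := by group
          _ = e * (q * v) := by rw [h2]
          _ = e * q * v := by group
          _ = v * (e * q) := h1
          _ = v * e * q := by group
      exact mul_right_cancel h3
    have hq1 : q ∈ Subgroup.zpowers z1 := by
      apply hQ.cen q hq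
      intro v hv
      have h1 := hcomm v (Subgroup.mem_sup_right hv)
      have h2 := hc e he v hv
      have h3 : e * (q * v) = e * (v * q) := by
        calc e * (q * v) = e * q * v := by group
          _ = v * (e * q) := h1
          _ = (v * e) * q := by group
          _ = (e * v) * q := by rw [h2]
          _ = e * (v * q) := by group
      exact mul_left_cancel h3
    exact mul_mem he1 hq1
  · intro u hu
    obtain ⟨e, he, q, hq, rfl⟩ := (mem_sup_of_commute hc u).mp hu
    have h1 : (e * q) ^ p = e ^ p * q ^ p := (show Commute e q from hc e he q hq).mul_pow p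
    rw [h1]; exact mul_mem (hE.pow e he) (hQ.pow q hq)
  · obtain ⟨u, hu, v, hv, huv⟩ := hQ.nab
    exact ⟨u, Subgroup.mem_sup_right hu, v, Subgroup.mem_sup_right hv, huv⟩

end Cfsg.Agent.helper7.Sym
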