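import Mathlib
import Cfsg.Agent.Lib_helper7_Sym3

set_option linter.style.haveILetI false
set_option autoImplicit false

/-!
# p-groups of symplectic type: cyclic group lemmas, good subgroups and their extension
-/

namespace Cfsg.Agent.helper7.Sym

variable {G : Type*} [Group G] {p : ℕ} {C Z : Subgroup G} {z1 : G}

/-- natural-number exponents for members of `zpowers` in a finite group -/
theorem exists_pow_of_mem_zpowers [Finite G] {a u : G} (hu : u ∈ Subgroup.zpowers a) :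
    ∃ i : ℕ, a ^ i = u := by
  rw [← mem_powers_iff_mem_zpowers] at hu
  exact Submonoid.mem_powers_iff _ _ |>.mp hu

/-- in a cyclic group the solutions of `x ^ p = 1` form the subgroup of order `p` -/
theorem cyclic_omega [Finite G] [hp : Fact p.Prime] {A : Subgroup G} (hA : IsCyclic ↥A) {b : G}
    (hz1 : z1 ∈ A) (hord : orderOf z1 = p) (hb : b ∈ A) (hbp : b ^ p = 1) :
    b ∈ Subgroup.zpowers z1 := by
  obtain ⟨⟨a, haA⟩, ha⟩ := hA.exists_generator
  have hgen : ∀ u ∈ A, ∃ i : ℕ, a ^ i = u := by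
    intro u hu
    obtain ⟨i, hi⟩ := exists_pow_of_mem_zpowers (ha ⟨u, hu⟩)
    refine ⟨i, ?_⟩
    have := congrArg Subtype.val hi
    simpa using this
  have hn : 0 < orderOf a := orderOf_pos a
  obtain ⟨j, hj⟩ := hgen z1 hz1
  have hpn : p ∣ orderOf a := by
    rw [← hord]
    apply orderOf_dvd_of_pow_eq_one
    rw [← hj, ← pow_mul, mul_comm, pow_mul, pow_orderOf_eq_one, one_pow]
  obtain ⟨m, hm⟩ := hpn
  have hkey : ∀ u ∈ A, u ^ p = 1 → u ∈ Subgroup.zpowers (a ^ m) := by
    intro u hu hup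
    obtain ⟨i, rfl⟩ := hgen u hu
    rw [← pow_mul] at hup
    have h1 : orderOf a ∣ i * p := orderOf_dvd_of_pow_eq_one hup
    rw [hm, mul_comm i p] at h1
    have h2 : m ∣ i := (Nat.mul_dvd_mul_iff_left hp.out.pos).mp h1
    obtain ⟨i', rfl⟩ := h2
    rw [pow_mul]
    exact Subgroup.pow_mem _ (Subgroup.mem_zpowers _) i'
  have hz1w := hkey z1 hz1 (by rw [← hord]; exact pow_orderOf_eq_one _)
  have hbw := hkey b hb hbp
  have hle : Subgroup.zpowers z1 ≤ Subgroup.zpowers (a ^ m) := Subgroup.zpowers_le.mpr hz1w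
  have hwp : (a ^ m) ^ p = 1 := by
    rw [← pow_mul, mul_comm, ← hm, pow_orderOf_eq_one]
  have heq : Subgroup.zpowers z1 = Subgroup.zpowers (a ^ m) := by
    apply Subgroup.eq_of_le_of_card_ge hle
    rw [Nat.card_zpowers, Nat.card_zpowers, hord]
    exact Nat.le_of_dvd hp.out.pos (orderOf_dvd_of_pow_eq_one hwp)
  rw [heq]; exact hbw

/-- `p`-th roots in a cyclic `p`-group -/
theorem cyc_pth_root [Finite G] [hp : Fact p.Prime] {z u : G} {k : ℕ} (hk : 1 ≤ k)
    (hzord : orderOf z = p ^ k) (hu : u ∈ Subgroup.zpowers z) (hup : u ^ (p ^ (k - 1)) = 1) :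
    ∃ w ∈ Subgroup.zpowers z, w ^ p = u := by
  obtain ⟨i, rfl⟩ := exists_pow_of_mem_zpowers hu
  rw [← pow_mul] at hup
  have h1 : orderOf z ∣ i * p ^ (k - 1) := orderOf_dvd_of_pow_eq_one hup
  have h2 : p ^ k = p * p ^ (k - 1) := by
    rw [← pow_succ']; congr 1; omega
  rw [hzord, h2] at h1
  have h3 : p ∣ i := by
    have hpos : 0 < p ^ (k - 1) := pow_pos hp.out.pos _
    exact (Nat.mul_dvd_mul_iff_right hpos).mp h1
  obtain ⟨i', rfl⟩ := h3
  refine ⟨z ^ i', Subgroup.pow_mem _ (Subgroup.mem_zpowers _) i', ?_⟩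
  rw [← pow_mul, mul_comm]

/-- the mode: `p = 2` or `Z` has order `p` -/
def Md (p : ℕ) (Z : Subgroup G) (z1 : G) : Prop := p = 2 ∨ ∀ z ∈ Z, z ∈ Subgroup.zpowers z1

/-- good subgroups -/
structure Good (p : ℕ) (C Z : Subgroup G) (z1 : G) (E : Subgroup G) : Prop where
  le : E ≤ C
  es : E = ⊥ ∨ ESData p z1 E
  inn : ∀ g : G, ∃ e ∈ E, ∀ u ∈ E, (e⁻¹ * g) * u = u * (e⁻¹ * g)
  ex : Md p Z z1 ∨ ∀ e ∈ E, e ^ p = 1

theorem good_bot : Good p C Z z1 (⊥ : Subgroup G) := by
  refine ⟨bot_le, Or.inl rfl, ?_, Or.inr ?_⟩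
  · intro g
    refine ⟨1, Subgroup.one_mem _, ?_⟩
    intro u hu
    rw [Subgroup.mem_bot] at hu
    subst hu
    simp
  · intro e he
    rw [Subgroup.mem_bot] at he
    subst he
    simp

/-- elements of `⟨z1⟩` are central in `G` when `z1` is -/
theorem Z1_central (hz1c : ∀ g : G, g * z1 = z1 * g) {ζ : G} (hζ : ζ ∈ Subgroup.zpowers z1)
    (g : G) : g * ζ = ζ * g := by
  obtain ⟨n, rfl⟩ := Subgroup.mem_zpowers_iff.mp hζ
  exact ((show Commute g z1 from hz1c g).zpow_right n).eq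

/-- commutators with elements whose `p`-th power lies in `⟨z1⟩` lie in `⟨z1⟩` -/
theorem cm_mem_Z1_of_pow_mem (ctx : Ctx p C Z z1) (hz1c : ∀ g : G, g * z1 = z1 * g) (g : G)
    {x : G} (hx : x ∈ C) (hxp : x ^ p ∈ Subgroup.zpowers z1) :
    cm g x ∈ Subgroup.zpowers z1 := by
  apply ctx.omega _ (ctx.cmZ g x hx)
  rw [← ctx.cm_pow g hx, cm_eq_one_iff]
  exact Z1_central hz1c hxp g


/-- extending a good subgroup by a good pair -/
theorem Good.extend [Finite G] [hp : Fact p.Prime] (ctx : Ctx p C Z z1)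
    (hz1c : ∀ g : G, g * z1 = z1 * g) {E : Subgroup G} (hE : Good p C Z z1 E) {x y : G}
    (hx : x ∈ C) (hy : y ∈ C) (hxE : ∀ u ∈ E, x * u = u * x) (hyE : ∀ u ∈ E, y * u = u * y)
    (hxy : cm x y ≠ 1) (hxp : x ^ p ∈ Subgroup.zpowers z1) (hyp : y ^ p ∈ Subgroup.zpowers z1)
    (hmd : Md p Z z1 ∨ (x ^ p = 1 ∧ y ^ p = 1)) :
    Good p C Z z1 (E ⊔ Subgroup.closure ({x, y} : Set G)) ∧
      Nat.card E < Nat.card ↥(E ⊔ Subgroup.closure ({x, y} : Set G)) := by
  have hxQ : x ∈ Subgroup.closure ({x, y} : Set G) := Subgroup.subset_closure (by simp)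
  have hyQ : y ∈ Subgroup.closure ({x, y} : Set G) := Subgroup.subset_closure (by simp)
  have hQC : Subgroup.closure ({x, y} : Set G) ≤ C := by
    rw [Subgroup.closure_le]
    intro v hv
    rcases hv with rfl | hv
    · exact hx
    · rw [Set.mem_singleton_iff] at hv; subst hv; exact hy
  have hQE : Subgroup.closure ({x, y} : Set G) ≤ Subgroup.centralizer (E : Set G) := by
    rw [Subgroup.closure_le]
    intro v hv
    rw [SetLike.mem_coe, Subgroup.mem_centralizer_iff]
    intro u hu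
    rcases hv with rfl | hv
    · exact (hxE u hu).symm
    · rw [Set.mem_singleton_iff] at hv; subst hv; exact (hyE u hu).symm
  have hcomm : ∀ e ∈ E, ∀ q ∈ Subgroup.closure ({x, y} : Set G), e * q = q * e := by
    intro e he q hq
    exact (Subgroup.mem_centralizer_iff.mp (hQE hq)) e he
  have hQes := esdata_pair ctx hx hy hxy hxp hyp
  have hc := ctx.cm_mem_Z1 hx hy
  have hz1c' := z1_mem_zpowers ctx hc hxy
  have hcp : cm x y ^ p = 1 := ctx.Z1pow hc
  refine ⟨⟨sup_le hE.le hQC, Or.inr (esdata_sup hE.es hQes hcomm), ?_, ?_⟩, ?_⟩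
  · intro g
    obtain ⟨e, he, hcen⟩ := hE.inn g
    have hgx := cm_mem_Z1_of_pow_mem ctx hz1c (e⁻¹ * g) hx hxp
    have hgy := cm_mem_Z1_of_pow_mem ctx hz1c (e⁻¹ * g) hy hyp
    have hZ1c : Subgroup.zpowers z1 ≤ Subgroup.zpowers (cm x y) := Subgroup.zpowers_le.mpr hz1c'
    obtain ⟨a, ha⟩ := exists_pow_of_mem_zpowers (hZ1c hgx)
    obtain ⟨b, hb⟩ := exists_pow_of_mem_zpowers (hZ1c hgy)
    have hxb : x ^ b ∈ C := C.pow_mem hx b
    have hqx : cm (x ^ b * y ^ ((p - 1) * a)) x = cm (e⁻¹ * g) x := by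
      rw [ctx.cm_mul_left hxb hx, ctx.cm_pow_left hy hx, ctx.cm_pow_left hx hx]
      have h1 : cm x x = 1 := by unfold cm; group
      rw [h1, one_pow, mul_one, ← cm_inv_swap x y, ← ha, inv_pow]
      apply inv_eq_of_mul_eq_one_right
      have h3 : (p - 1) * a + a = p * a := by
        have := hp.out.one_lt
        have h2 : p - 1 + 1 = p := by omega
        calc (p - 1) * a + a = (p - 1 + 1) * a := by ring
          _ = p * a := by rw [h2]
      rw [← pow_add, h3, pow_mul, hcp, one_pow]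
    have hqy : cm (x ^ b * y ^ ((p - 1) * a)) y = cm (e⁻¹ * g) y := by
      rw [ctx.cm_mul_left hxb hy, ctx.cm_pow_left hy hy, ctx.cm_pow_left hx hy]
      have h1 : cm y y = 1 := by unfold cm; group
      rw [h1, one_pow, one_mul, hb]
    have hq : x ^ b * y ^ ((p - 1) * a) ∈ Subgroup.closure ({x, y} : Set G) :=
      mul_mem (Subgroup.pow_mem _ hxQ _) (Subgroup.pow_mem _ hyQ _)
    generalize x ^ b * y ^ ((p - 1) * a) = q at hqx hqy hq
    refine ⟨e * q, mul_mem (Subgroup.mem_sup_left he) (Subgroup.mem_sup_right hq), ?_⟩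
    have key : E ⊔ Subgroup.closure ({x, y} : Set G) ≤
        Subgroup.centralizer {(e * q)⁻¹ * g} := by
      apply sup_le
      · intro u hu
        rw [Subgroup.mem_centralizer_singleton_iff]
        have h1 := hcen u hu
        have h2 := hcomm u hu q hq
        have h3 : u * q⁻¹ = q⁻¹ * u := (Commute.inv_right (show Commute u q from h2)).eq
        calc u * ((e * q)⁻¹ * g) = (u * q⁻¹) * (e⁻¹ * g) := by group
          _ = (q⁻¹ * u) * (e⁻¹ * g) := by rw [h3]
          _ = q⁻¹ * (u * (e⁻¹ * g)) := by group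
          _ = q⁻¹ * ((e⁻¹ * g) * u) := by rw [← h1]
          _ = (e * q)⁻¹ * g * u := by group
      · rw [Subgroup.closure_le]
        intro v hv
        rw [SetLike.mem_coe, Subgroup.mem_centralizer_singleton_iff]
        rcases hv with rfl | hv
        · have h1 : (e⁻¹ * g) * v * (e⁻¹ * g)⁻¹ = q * v * q⁻¹ := by
            rw [conj_eq_cm, conj_eq_cm, hqx]
          calc v * ((e * q)⁻¹ * g) = q⁻¹ * (q * v * q⁻¹) * (e⁻¹ * g) := by group
            _ = q⁻¹ * ((e⁻¹ * g) * v * (e⁻¹ * g)⁻¹) * (e⁻¹ * g) := by rw [← h1]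
            _ = (e * q)⁻¹ * g * v := by group
        · rw [Set.mem_singleton_iff] at hv
          subst hv
          have h1 : (e⁻¹ * g) * v * (e⁻¹ * g)⁻¹ = q * v * q⁻¹ := by
            rw [conj_eq_cm, conj_eq_cm, hqy]
          calc v * ((e * q)⁻¹ * g) = q⁻¹ * (q * v * q⁻¹) * (e⁻¹ * g) := by group
            _ = q⁻¹ * ((e⁻¹ * g) * v * (e⁻¹ * g)⁻¹) * (e⁻¹ * g) := by rw [← h1]
            _ = (e * q)⁻¹ * g * v := by group
    intro u hu
    have h1 := key hu
    rw [Subgroup.mem_centralizer_singleton_iff] at h1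
    exact h1.symm
  · rcases hmd with hmd | ⟨hx1, hy1⟩
    · exact Or.inl hmd
    · by_cases hM : Md p Z z1
      · exact Or.inl hM
      · right
        have hp2 : p ≠ 2 := fun h => hM (Or.inl h)
        have hEex : ∀ e ∈ E, e ^ p = 1 := hE.ex.resolve_left hM
        intro u hu
        obtain ⟨e, he, q, hq, rfl⟩ := (mem_sup_of_commute hcomm u).mp hu
        rw [(show Commute e q from hcomm e he q hq).mul_pow, hEex e he, one_mul]
        obtain ⟨i, j, ζ, hζ, rfl⟩ := pair_normal_form ctx hx hy hxp hyp q hq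
        have hxi := C.pow_mem hx i
        have hyj := C.pow_mem hy j
        have hcz : Commute (x ^ i * y ^ j) ζ := (ctx.Z1cen hζ (C.mul_mem hxi hyj)).symm
        rw [hcz.mul_pow, ctx.Z1pow hζ, mul_one, ctx.mul_pow_odd hp2 hxi hyj, ← pow_mul,
          ← pow_mul, mul_comm i p, mul_comm j p, pow_mul, pow_mul, hx1, hy1, one_pow, one_pow,
          one_mul]
  · have hxnE : x ∉ E := by
      intro hxE'
      apply hxy
      rw [cm_eq_one_iff]
      rcases hE.es with h | h
      · rw [h, Subgroup.mem_bot] at hxE'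
        rw [hxE']; simp
      · have h1 := h.cen x hxE' hxE
        exact ctx.Z1cen h1 hy
    apply lt_of_not_ge
    intro hge
    have h1 : E = E ⊔ Subgroup.closure ({x, y} : Set G) :=
      Subgroup.eq_of_le_of_card_ge le_sup_left hge
    apply hxnE
    rw [h1]
    exact Subgroup.mem_sup_right hxQ

end Cfsg.Agent.helper7.Sym
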