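import Mathlib
import Cfsg.Prelude.Def_PLocal
import Cfsg.Agent.Lib_helper7_Sym4

set_option linter.style.haveILetI false
set_option autoImplicit false

/-!
# p-groups of symplectic type: a maximal good subgroup `E` satisfies `C = E Z`
-/

namespace Cfsg.Agent.helper7.Sym

variable {G : Type*} [Group G] {p : ℕ} {C Z : Subgroup G} {z1 : G}

theorem omegaOne_char (hC : C.Characteristic) : (Cfsg.omegaOne p C).Characteristic := by
  rw [Subgroup.characteristic_iff_map_le]
  intro φ
  unfold Cfsg.omegaOne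
  rw [MonoidHom.map_closure, Subgroup.closure_le]
  rintro _ ⟨x, ⟨hxC, hxp⟩, rfl⟩
  apply Subgroup.subset_closure
  refine ⟨?_, ?_⟩
  · have h1 := Subgroup.characteristic_iff_map_le.mp hC φ
    exact h1 (Subgroup.mem_map_of_mem _ hxC)
  · change (φ x) ^ p = 1
    rw [← map_pow, hxp, map_one]

theorem exists_max_good [Finite G] : ∃ E, Good p C Z z1 E ∧
    ∀ E', Good p C Z z1 E' → Nat.card E' ≤ Nat.card E := by
  by_contra hcon
  push Not at hcon
  have h1 : ∀ n : ℕ, ∃ E, Good p C Z z1 E ∧ n ≤ Nat.card E := by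
    intro n
    induction n with
    | zero => exact ⟨⊥, good_bot, Nat.zero_le _⟩
    | succ n ih =>
      obtain ⟨E, hE, hn⟩ := ih
      obtain ⟨E', hE', hlt⟩ := hcon E hE
      exact ⟨E', hE', by omega⟩
  obtain ⟨E, -, hn⟩ := h1 (Nat.card G + 1)
  have := Subgroup.card_le_card_group E
  omega

theorem exists_good [Finite G] [hp : Fact p.Prime] (ctx : Ctx p C Z z1)
    (hz1c : ∀ g : G, g * z1 = z1 * g) (hCchar : C.Characteristic)
    (hsymp : ∀ A : Subgroup G, A.Characteristic → IsMulCommutative A → IsCyclic A)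
    {z : G} {k : ℕ} (hzgen : ∀ u ∈ Z, u ∈ Subgroup.zpowers z) (hzZ : z ∈ Z)
    (hzord : orderOf z = p ^ k) :
    ∃ E, Good p C Z z1 E ∧ ∀ d ∈ C, (∀ u ∈ E, d * u = u * d) → d ∈ Z := by
  obtain ⟨E, hE, hmax⟩ := exists_max_good (p := p) (C := C) (Z := Z) (z1 := z1)
  refine ⟨E, hE, ?_⟩
  intro d hdC hdE
  by_contra hdZ
  obtain ⟨c, hcC, hdc⟩ : ∃ c ∈ C, d * c ≠ c * d := by
    by_contra h
    push Not at h
    exact hdZ (ctx.cenZ d h)
  obtain ⟨e, he, hyE⟩ := hE.inn c
  have hyC : e⁻¹ * c ∈ C := C.mul_mem (C.inv_mem (hE.le he)) hcC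
  have hdy : cm d (e⁻¹ * c) ≠ 1 := by
    rw [Ne, cm_eq_one_iff]
    intro h
    apply hdc
    have h1 := hdE e he
    calc d * c = (d * e) * (e⁻¹ * c) := by group
      _ = (e * d) * (e⁻¹ * c) := by rw [h1]
      _ = e * (d * (e⁻¹ * c)) := by group
      _ = e * ((e⁻¹ * c) * d) := by rw [h]
      _ = c * d := by group
  generalize e⁻¹ * c = y at hyE hyC hdy
  have hext : ∀ x y, x ∈ C → y ∈ C → (∀ u ∈ E, x * u = u * x) → (∀ u ∈ E, y * u = u * y) →
      x ^ p ∈ Subgroup.zpowers z1 → y ^ p ∈ Subgroup.zpowers z1 →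
      (Md p Z z1 ∨ (x ^ p = 1 ∧ y ^ p = 1)) → cm x y = 1 := by
    intro x y hx hy hxE hyE hxp hyp hmd
    by_contra hxy
    obtain ⟨hg, hlt⟩ := hE.extend ctx hz1c hx hy hxE hyE hxy hxp hyp hmd
    have := hmax _ hg
    omega
  by_cases hZ1 : ∀ u ∈ Z, u ∈ Subgroup.zpowers z1
  · exact hdy (hext d y hdC hyC hdE hyE (hZ1 _ (ctx.powZ d hdC)) (hZ1 _ (ctx.powZ y hyC))
      (Or.inl (Or.inr hZ1)))
  · have hk2 : 2 ≤ k := by
      by_contra hk
      apply hZ1
      have hzp : z ^ p = 1 := by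
        have h1 : orderOf z ∣ p := by
          rw [hzord]
          have hk' : k ≤ 1 := by omega
          calc p ^ k ∣ p ^ 1 := pow_dvd_pow p hk'
            _ = p := pow_one p
        exact orderOf_dvd_iff_pow_eq_one.mp h1
      have hz1' := ctx.omega z hzZ hzp
      intro u hu
      exact (Subgroup.zpowers_le.mpr hz1') (hzgen u hu)
    have hpk : p ^ k = p * p ^ (k - 1) := by
      rw [← pow_succ']; congr 1; omega
    have hZpk : ∀ u ∈ Z, u ^ (p ^ k) = 1 := by
      intro u hu
      obtain ⟨i, rfl⟩ := exists_pow_of_mem_zpowers (hzgen u hu)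
      rw [← pow_mul, mul_comm, pow_mul, ← hzord, pow_orderOf_eq_one, one_pow]
    have hchi : ∀ w ∈ C, w ^ (p ^ k) ∈ Subgroup.zpowers z1 := by
      intro w hw
      apply ctx.omega
      · rw [hpk, pow_mul]
        exact Z.pow_mem (ctx.powZ w hw) _
      · rw [← pow_mul, mul_comm, pow_mul]
        exact hZpk _ (ctx.powZ w hw)
    have hchimul : ∀ w ∈ C, ∀ w' ∈ C, (w * w') ^ (p ^ k) = w ^ (p ^ k) * w' ^ (p ^ k) := by
      intro w hw w' hw'
      obtain ⟨ζ, hζ, h1⟩ := ctx.mul_pow_mod hw hw'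
      rw [hpk, pow_mul, h1, pow_mul, pow_mul]
      have hc1 : Commute (w ^ p) (w' ^ p) := ctx.Zcen _ (ctx.powZ w hw) _ (C.pow_mem hw' p)
      have hc2 : Commute (w ^ p * w' ^ p) ζ :=
        (ctx.Z1cen hζ (C.mul_mem (C.pow_mem hw p) (C.pow_mem hw' p))).symm
      rw [hc2.mul_pow, hc1.mul_pow]
      have h3 : ζ ^ (p ^ (k - 1)) = 1 := by
        have h4 : p ^ (k - 1) = p * p ^ (k - 2) := by
          rw [← pow_succ']; congr 1; omega
        rw [h4, pow_mul, ctx.Z1pow hζ, one_pow]
      rw [h3, mul_one]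
    have hroot : ∀ w ∈ C, w ^ (p ^ k) = 1 → ∃ u ∈ Z, (w * u) ^ p = 1 := by
      intro w hw hw1
      rw [hpk, pow_mul] at hw1
      obtain ⟨v, hv, hvp⟩ := cyc_pth_root (by omega) hzord (hzgen _ (ctx.powZ w hw)) hw1
      have hvZ : v ∈ Z := (Subgroup.zpowers_le.mpr hzZ) hv
      refine ⟨v⁻¹, Z.inv_mem hvZ, ?_⟩
      have hc : Commute w v⁻¹ := (ctx.Zcen _ (Z.inv_mem hvZ) w hw).symm
      rw [hc.mul_pow, inv_pow, hvp, mul_inv_cancel]
    obtain ⟨w, hwC, hwE, hwZ, hw1⟩ : ∃ w ∈ C, (∀ u ∈ E, w * u = u * w) ∧ w ∉ Z ∧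
        w ^ (p ^ k) = 1 := by
      by_cases h1 : d ^ (p ^ k) = 1
      · exact ⟨d, hdC, hdE, hdZ, h1⟩
      by_cases h2 : y ^ (p ^ k) = 1
      · refine ⟨y, hyC, hyE, ?_, h2⟩
        intro hyZ
        apply hdy
        rw [cm_eq_one_iff]
        exact (ctx.Zcen y hyZ d hdC).symm
      have hz1d := z1_mem_zpowers ctx (hchi d hdC) h1
      have h3 : y ^ (p ^ k) ∈ Subgroup.zpowers (d ^ (p ^ k)) :=
        (Subgroup.zpowers_le.mpr hz1d) (hchi y hyC)
      obtain ⟨a, ha⟩ := exists_pow_of_mem_zpowers h3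
      refine ⟨y * d ^ ((p - 1) * a), C.mul_mem hyC (C.pow_mem hdC _), ?_, ?_, ?_⟩
      · intro u hu
        have h3 := hyE u hu
        have h4 : d ^ ((p - 1) * a) * u = u * d ^ ((p - 1) * a) :=
          ((show Commute d u from hdE u hu).pow_left _).eq
        calc y * d ^ ((p - 1) * a) * u = y * (d ^ ((p - 1) * a) * u) := by group
          _ = y * (u * d ^ ((p - 1) * a)) := by rw [h4]
          _ = (y * u) * d ^ ((p - 1) * a) := by group
          _ = (u * y) * d ^ ((p - 1) * a) := by rw [h3]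
          _ = u * (y * d ^ ((p - 1) * a)) := by group
      · intro hwZ
        apply hdy
        rw [cm_eq_one_iff]
        have h3 := ctx.Zcen _ hwZ d hdC
        have h4 : y * d * d ^ ((p - 1) * a) = d * y * d ^ ((p - 1) * a) := by
          calc y * d * d ^ ((p - 1) * a) = y * (d * d ^ ((p - 1) * a)) := by group
            _ = y * (d ^ ((p - 1) * a) * d) := by rw [← pow_succ, ← pow_succ']
            _ = y * d ^ ((p - 1) * a) * d := by group
            _ = d * (y * d ^ ((p - 1) * a)) := h3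
            _ = d * y * d ^ ((p - 1) * a) := by group
        exact (mul_right_cancel h4).symm
      · rw [hchimul y hyC _ (C.pow_mem hdC _), ← pow_mul, mul_comm _ (p ^ k), pow_mul, ← ha,
          ← pow_add]
        have h5 : a + (p - 1) * a = p * a := by
          have := hp.out.one_lt
          have h2 : p - 1 + 1 = p := by omega
          calc a + (p - 1) * a = (p - 1 + 1) * a := by ring
            _ = p * a := by rw [h2]
        rw [h5, pow_mul, ctx.Z1pow (hchi d hdC), one_pow]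
    obtain ⟨u0, hu0, hb⟩ := hroot w hwC hw1
    have hbC : w * u0 ∈ C := C.mul_mem hwC (ctx.ZC hu0)
    have hbE : ∀ u ∈ E, (w * u0) * u = u * (w * u0) := by
      intro u hu
      have h3 := hwE u hu
      have h4 := ctx.Zcen u0 hu0 u (hE.le hu)
      calc w * u0 * u = w * (u0 * u) := by group
        _ = w * (u * u0) := by rw [h4]
        _ = (w * u) * u0 := by group
        _ = (u * w) * u0 := by rw [h3]
        _ = u * (w * u0) := by group
    have hbZ : w * u0 ∉ Z := by
      intro h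
      apply hwZ
      have := Z.mul_mem h (Z.inv_mem hu0)
      simpa using this
    generalize w * u0 = b at hb hbC hbE hbZ
    have hb_cen : ∀ c ∈ C, c ^ p = 1 → b * c = c * b := by
      intro c hc hcp
      obtain ⟨e, he, hcen⟩ := hE.inn c
      have heC := hE.le he
      have hd'C : e⁻¹ * c ∈ C := C.mul_mem (C.inv_mem heC) hc
      have hcomm_e : Commute e (e⁻¹ * c) := (hcen e he).symm
      have hpw : c ^ p = e ^ p * (e⁻¹ * c) ^ p := by
        have h1 : c = e * (e⁻¹ * c) := by group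
        conv_lhs => rw [h1]
        exact hcomm_e.mul_pow p
      have hd'p : (e⁻¹ * c) ^ p = (e ^ p)⁻¹ := by
        rw [hcp] at hpw
        exact (inv_eq_of_mul_eq_one_right hpw.symm).symm
      have hepZ1 : e ^ p ∈ Subgroup.zpowers z1 := by
        rcases hE.es with h | h
        · rw [h, Subgroup.mem_bot] at he
          rw [he, one_pow]; exact one_mem _
        · exact h.pow e he
      have hmd : Md p Z z1 ∨ (b ^ p = 1 ∧ (e⁻¹ * c) ^ p = 1) := by
        by_cases hM : Md p Z z1
        · exact Or.inl hM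
        · right
          refine ⟨hb, ?_⟩
          rw [hd'p, hE.ex.resolve_left hM e he, inv_one]
      have h6 := hext b (e⁻¹ * c) hbC hd'C hbE hcen (by rw [hb]; exact one_mem _)
        (by rw [hd'p]; exact inv_mem hepZ1) hmd
      rw [cm_eq_one_iff] at h6
      have h7 := hbE e he
      calc b * c = (b * e) * (e⁻¹ * c) := by group
        _ = (e * b) * (e⁻¹ * c) := by rw [h7]
        _ = e * (b * (e⁻¹ * c)) := by group
        _ = e * ((e⁻¹ * c) * b) := by rw [h6]
        _ = c * b := by group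
    have hΩchar : (Cfsg.omegaOne p C).Characteristic := omegaOne_char hCchar
    have hAchar : (Cfsg.omegaOne p C ⊓
        Subgroup.centralizer (Cfsg.omegaOne p C : Set G)).Characteristic := inferInstance
    have hAcomm : IsMulCommutative ↥(Cfsg.omegaOne p C ⊓
        Subgroup.centralizer (Cfsg.omegaOne p C : Set G)) := by
      refine ⟨⟨fun a b => ?_⟩⟩
      apply Subtype.ext
      have ha := (Subgroup.mem_inf.mp a.2).2
      have hb' := (Subgroup.mem_inf.mp b.2).1
      rw [Subgroup.mem_centralizer_iff] at ha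
      exact (ha b hb').symm
    have hAcyc := hsymp _ hAchar hAcomm
    have hbA : b ∈ Cfsg.omegaOne p C ⊓ Subgroup.centralizer (Cfsg.omegaOne p C : Set G) := by
      refine Subgroup.mem_inf.mpr ⟨Subgroup.subset_closure ⟨hbC, hb⟩, ?_⟩
      rw [Subgroup.mem_centralizer_iff]
      intro h hh
      have h1 : Cfsg.omegaOne p C ≤ Subgroup.centralizer {b} := by
        unfold Cfsg.omegaOne
        rw [Subgroup.closure_le]
        intro c hc
        rw [SetLike.mem_coe, Subgroup.mem_centralizer_singleton_iff]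
        exact (hb_cen c hc.1 hc.2).symm
      have h2 := h1 hh
      rw [Subgroup.mem_centralizer_singleton_iff] at h2
      exact h2
    have hz1A : z1 ∈ Cfsg.omegaOne p C ⊓ Subgroup.centralizer (Cfsg.omegaOne p C : Set G) := by
      refine Subgroup.mem_inf.mpr ⟨Subgroup.subset_closure ⟨ctx.z1C, ctx.z1pow⟩, ?_⟩
      rw [Subgroup.mem_centralizer_iff]
      intro h _
      exact hz1c h
    have h8 := cyclic_omega hAcyc hz1A ctx.z1ord hbA hb
    exact hbZ (ctx.Z1Z h8)

end Cfsg.Agent.helper7.Sym
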