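import Mathlib
import Cfsg.Prelude.Def_PLocal
import Cfsg.Agent.Lib_helper7_Sym5

set_option linter.style.haveILetI false
set_option autoImplicit false

/-!
# p-groups of symplectic type: the centralizer `R` of a maximal good subgroup; the small case
-/

namespace Cfsg.Agent.helper7.Sym

variable {G : Type*} [Group G] {p : ℕ} {C Z : Subgroup G} {z1 : G} {E : Subgroup G}

theorem Z_le_R (ctx : Ctx p C Z z1) (hE : Good p C Z z1 E) :
    Z ≤ Subgroup.centralizer (E : Set G) := by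
  intro u hu
  rw [Subgroup.mem_centralizer_iff]
  intro e he
  exact (ctx.Zcen u hu e (hE.le he)).symm

theorem exists_ER (hE : Good p C Z z1 E) (g : G) :
    ∃ e ∈ E, ∃ r ∈ Subgroup.centralizer (E : Set G), g = e * r := by
  obtain ⟨e, he, hcen⟩ := hE.inn g
  refine ⟨e, he, e⁻¹ * g, ?_, by group⟩
  rw [Subgroup.mem_centralizer_iff]
  intro u hu
  exact (hcen u hu).symm

theorem R_cenZ (ctx : Ctx p C Z z1) (hE : Good p C Z z1 E)
    (hD : ∀ d ∈ C, (∀ u ∈ E, d * u = u * d) → d ∈ Z) {r : G}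
    (hr : r ∈ Subgroup.centralizer (E : Set G)) (hrZ : ∀ u ∈ Z, r * u = u * r) : r ∈ Z := by
  apply ctx.cenZ
  intro c hc
  obtain ⟨e, he, hcen⟩ := hE.inn c
  have hd'C : e⁻¹ * c ∈ C := C.mul_mem (C.inv_mem (hE.le he)) hc
  have hd'Z : e⁻¹ * c ∈ Z := hD _ hd'C hcen
  have h1 := hrZ _ hd'Z
  have h2 : e * r = r * e := Subgroup.mem_centralizer_iff.mp hr e he
  calc r * c = (r * e) * (e⁻¹ * c) := by group
    _ = (e * r) * (e⁻¹ * c) := by rw [h2]
    _ = e * (r * (e⁻¹ * c)) := by group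
    _ = e * ((e⁻¹ * c) * r) := by rw [h1]
    _ = c * r := by group

/-- commutators in a central product -/
theorem cm_central_product {E R : Subgroup G} (hc : ∀ e ∈ E, ∀ r ∈ R, e * r = r * e)
    {e e' r r' : G} (he : e ∈ E) (he' : e' ∈ E) (hr : r ∈ R) (hr' : r' ∈ R) :
    cm (e * r) (e' * r') = cm e e' * cm r r' := by
  have h1 : r * e' = e' * r := (hc e' he' r hr).symm
  have h2 : (r * r' * r⁻¹) * e⁻¹ = e⁻¹ * (r * r' * r⁻¹) :=
    (hc e⁻¹ (E.inv_mem he) _ (R.mul_mem (R.mul_mem hr hr') (R.inv_mem hr))).symm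
  have h3 : (r * r' * r⁻¹ * r'⁻¹) * e'⁻¹ = e'⁻¹ * (r * r' * r⁻¹ * r'⁻¹) :=
    (hc e'⁻¹ (E.inv_mem he') _
      (R.mul_mem (R.mul_mem (R.mul_mem hr hr') (R.inv_mem hr)) (R.inv_mem hr'))).symm
  calc cm (e * r) (e' * r') = e * (r * e') * r' * r⁻¹ * e⁻¹ * r'⁻¹ * e'⁻¹ := by unfold cm; group
    _ = e * (e' * r) * r' * r⁻¹ * e⁻¹ * r'⁻¹ * e'⁻¹ := by rw [h1]
    _ = e * e' * ((r * r' * r⁻¹) * e⁻¹) * r'⁻¹ * e'⁻¹ := by group
    _ = e * e' * (e⁻¹ * (r * r' * r⁻¹)) * r'⁻¹ * e'⁻¹ := by rw [h2]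
    _ = e * e' * e⁻¹ * ((r * r' * r⁻¹ * r'⁻¹) * e'⁻¹) := by group
    _ = e * e' * e⁻¹ * (e'⁻¹ * (r * r' * r⁻¹ * r'⁻¹)) := by rw [h3]
    _ = cm e e' * cm r r' := by unfold cm; group

/-- the small case: `p = 2`, `|Z| = 4`, `|R : Z| = 2`, `R` nonabelian: `G` is extraspecial -/
theorem small_case [Finite G] [hp : Fact p.Prime] (hG : IsPGroup p G) (ctx : Ctx p C Z z1)
    (hz1c : ∀ g : G, g * z1 = z1 * g) (hE : Good p C Z z1 E)
    (hD : ∀ d ∈ C, (∀ u ∈ E, d * u = u * d) → d ∈ Z) (hp2 : p = 2)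
    (hZ4 : ∀ u ∈ Z, u ^ p ∈ Subgroup.zpowers z1)
    {z : G} (hzgen : ∀ u ∈ Z, u ∈ Subgroup.zpowers z) (hzZ : z ∈ Z)
    (hidx : ∀ r ∈ Subgroup.centralizer (E : Set G), ∀ r' ∈ Subgroup.centralizer (E : Set G),
      r ∉ Z → r' ∉ Z → r⁻¹ * r' ∈ Z)
    (hna : ∃ r ∈ Subgroup.centralizer (E : Set G), ∃ r' ∈ Subgroup.centralizer (E : Set G),
      r * r' ≠ r' * r) :
    Cfsg.IsExtraspecial p ↥(⊤ : Subgroup G) := by
  have hZR := Z_le_R ctx hE
  have hcER : ∀ e ∈ E, ∀ r ∈ Subgroup.centralizer (E : Set G), e * r = r * e := by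
    intro e he r hr
    exact Subgroup.mem_centralizer_iff.mp hr e he
  have hzC : z ∈ C := ctx.ZC hzZ
  -- commutators with elements of Z
  have hα : ∀ (g : G), ∀ u ∈ Z, cm g u ∈ Subgroup.zpowers z1 := by
    intro g u hu
    exact cm_mem_Z1_of_pow_mem ctx hz1c g (ctx.ZC hu) (hZ4 u hu)
  -- r ∉ Z ⇒ cm r z ≠ 1
  have hrz : ∀ r ∈ Subgroup.centralizer (E : Set G), r ∉ Z → cm r z ≠ 1 := by
    intro r hr hrZ h
    apply hrZ
    apply R_cenZ ctx hE hD hr
    intro u hu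
    rw [cm_eq_one_iff] at h
    obtain ⟨n, rfl⟩ := Subgroup.mem_zpowers_iff.mp (hzgen u hu)
    exact ((show Commute r z from h).zpow_right n).eq
  -- key: u ∈ Z commuting with some r ∈ R \ Z lies in Z1
  have hkey : ∀ r ∈ Subgroup.centralizer (E : Set G), r ∉ Z → ∀ u ∈ Z, r * u = u * r →
      u ∈ Subgroup.zpowers z1 := by
    intro r hr hrZ u hu hru
    obtain ⟨i, rfl⟩ := exists_pow_of_mem_zpowers (hzgen u hu)
    have h1 : cm r (z ^ i) = 1 := (cm_eq_one_iff _ _).mpr hru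
    rw [ctx.cm_pow r hzC] at h1
    have h2 := orderOf_of_mem_Z1 ctx (hα r z hzZ) (hrz r hr hrZ)
    have h3 : p ∣ i := by
      rw [← h2]; exact orderOf_dvd_of_pow_eq_one h1
    obtain ⟨i', rfl⟩ := h3
    rw [pow_mul]
    exact Subgroup.pow_mem _ (hZ4 z hzZ) i'
  -- squares
  have hγ : ∀ r ∈ Subgroup.centralizer (E : Set G), r ^ p ∈ Subgroup.zpowers z1 := by
    intro r hr
    by_cases hrZ : r ∈ Z
    · exact hZ4 r hrZ
    · have hrinv : r⁻¹ ∉ Z := fun h => hrZ (by simpa using Z.inv_mem h)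
      have h1 := hidx r⁻¹ (Subgroup.inv_mem _ hr) r hr hrinv hrZ
      rw [inv_inv] at h1
      have h2 : r ^ p = r * r := by rw [hp2, pow_two]
      rw [h2]
      apply hkey r hr hrZ _ h1
      group
  -- commutators in R
  have hβ : ∀ r ∈ Subgroup.centralizer (E : Set G), ∀ r' ∈ Subgroup.centralizer (E : Set G),
      cm r r' ∈ Subgroup.zpowers z1 := by
    intro r hr r' hr'
    by_cases hr'Z : r' ∈ Z
    · exact hα r r' hr'Z
    by_cases hrZ : r ∈ Z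
    · rw [← cm_inv_swap]
      exact inv_mem (hα r' r hrZ)
    have h1 := hidx r hr r' hr' hrZ hr'Z
    have h2 := hα r _ h1
    have h3 : cm r r' = r * cm r (r⁻¹ * r') * r⁻¹ := by unfold cm; group
    rw [h3, Z1_central hz1c h2 r]
    have h4 : cm r (r⁻¹ * r') * r * r⁻¹ = cm r (r⁻¹ * r') := by group
    rw [h4]
    exact h2
  -- an element of R outside Z
  obtain ⟨r0, hr0, hr0Z⟩ : ∃ r ∈ Subgroup.centralizer (E : Set G), r ∉ Z := by
    by_contra h
    push Not at h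
    obtain ⟨r, hr, r', hr', hne⟩ := hna
    exact hne (ctx.Zcen r (h r hr) r' (ctx.ZC (h r' hr')))
  have hepow : ∀ e ∈ E, e ^ p ∈ Subgroup.zpowers z1 := by
    intro e he
    rcases hE.es with h | h
    · rw [h, Subgroup.mem_bot] at he
      rw [he, one_pow]; exact one_mem _
    · exact h.pow e he
  have hes : ESData p z1 (⊤ : Subgroup G) := by
    refine ⟨Subgroup.mem_top _, ?_, ?_, ?_⟩
    · intro g _ hg
      have hgZ : g ∈ Z := ctx.cenZ g (fun d _ => hg d (Subgroup.mem_top _))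
      exact hkey r0 hr0 hr0Z g hgZ (hg r0 (Subgroup.mem_top _)).symm
    · intro g _
      obtain ⟨e, he, r, hr, rfl⟩ := exists_ER hE g
      rw [(show Commute e r from hcER e he r hr).mul_pow]
      exact mul_mem (hepow e he) (hγ r hr)
    · obtain ⟨r, _, r', _, hne⟩ := hna
      exact ⟨r, Subgroup.mem_top _, r', Subgroup.mem_top _, hne⟩
  apply ESData.isExtraspecial' hG ctx.z1ord _ _ hes
  · intro ζ hζ g _
    exact (Z1_central hz1c hζ g).symm
  · intro a _ b _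
    obtain ⟨e, he, r, hr, rfl⟩ := exists_ER hE a
    obtain ⟨e', he', r', hr', rfl⟩ := exists_ER hE b
    rw [cm_central_product hcER he he' hr hr']
    exact mul_mem (ctx.cm_mem_Z1 (hE.le he) (hE.le he')) (hβ r hr r' hr')

end Cfsg.Agent.helper7.Sym
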