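import Mathlib
import Cfsg.Prelude.Def_PLocal
import Cfsg.Prelude.Def_Transfer
import Cfsg.Agent.Lib_helper7_Sym6

set_option linter.style.haveILetI false
set_option autoImplicit false

/-!
# p-groups of symplectic type: the second alternative of the cyclic self-centralizing theorem
is impossible
-/

namespace Cfsg.Agent.helper7.Sym

variable {G : Type*} [Group G] {p : ℕ} {C Z : Subgroup G} {z1 : G} {E : Subgroup G}

theorem powerClosure_char (hZ : Z.Characteristic) (n : ℕ) :
    (Cfsg.powerClosure p n Z).Characteristic := by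
  rw [Subgroup.characteristic_iff_map_le]
  intro φ
  unfold Cfsg.powerClosure
  rw [MonoidHom.map_closure, Subgroup.closure_le]
  rintro _ ⟨y, ⟨x, hxZ, rfl⟩, rfl⟩
  apply Subgroup.subset_closure
  refine ⟨φ x, ?_, ?_⟩
  · have h1 := Subgroup.characteristic_iff_map_le.mp hZ φ
    exact h1 (Subgroup.mem_map_of_mem _ hxZ)
  · change φ (x ^ (p ^ n)) = (φ x) ^ (p ^ n)
    rw [map_pow]

theorem alt_two_false [Finite G] [hp : Fact p.Prime] (ctx : Ctx p C Z z1)
    (hz1c : ∀ g : G, g * z1 = z1 * g) (hE : Good p C Z z1 E)
    (hZchar : Z.Characteristic)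
    (hsymp : ∀ A : Subgroup G, A.Characteristic → IsMulCommutative A → IsCyclic A)
    {z : G} {k : ℕ} (hzgen : ∀ u ∈ Z, u ∈ Subgroup.zpowers z) (hzZ : z ∈ Z)
    (hzord : orderOf z = p ^ k) (hk3 : p = 2 → 3 ≤ k)
    (hZ1 : ¬ ∀ u ∈ Z, u ∈ Subgroup.zpowers z1)
    {R : Subgroup G} (hR : R = Subgroup.centralizer (E : Set G))
    (h1 : (Z.subgroupOf R).relIndex
      (Subgroup.centralizer (Cfsg.powerClosure p 1 (Z.subgroupOf R) : Set ↥R)) = p)
    (h2 : Cfsg.IsElementaryAbelian p (Cfsg.omegaOne p
      (Subgroup.centralizer (Cfsg.powerClosure p 1 (Z.subgroupOf R) : Set ↥R))))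
    (h3 : Nat.card ↥(Cfsg.omegaOne p
      (Subgroup.centralizer (Cfsg.powerClosure p 1 (Z.subgroupOf R) : Set ↥R))) = p ^ 2) :
    False := by
  have hZR : Z ≤ R := by rw [hR]; exact Z_le_R ctx hE
  have hcER : ∀ e ∈ E, ∀ r ∈ R, e * r = r * e := by
    intro e he r hr
    rw [hR] at hr
    exact Subgroup.mem_centralizer_iff.mp hr e he
  have hPZZ : Cfsg.powerClosure p 1 Z ≤ Z := by
    unfold Cfsg.powerClosure
    rw [Subgroup.closure_le]
    rintro y ⟨x, hx, rfl⟩
    exact Z.pow_mem hx _
  -- membership in MR
  have hMR_iff : ∀ x : ↥R,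
      x ∈ Subgroup.centralizer (Cfsg.powerClosure p 1 (Z.subgroupOf R) : Set ↥R) ↔
        (x : G) ∈ Subgroup.centralizer (Cfsg.powerClosure p 1 Z : Set G) := by
    intro x
    constructor
    · intro hx
      rw [Subgroup.mem_centralizer_iff]
      intro h hh
      have h4 : Cfsg.powerClosure p 1 Z ≤ Subgroup.centralizer {(x : G)} := by
        unfold Cfsg.powerClosure
        rw [Subgroup.closure_le]
        rintro y ⟨u, hu, rfl⟩
        rw [SetLike.mem_coe, Subgroup.mem_centralizer_singleton_iff]
        have hu' : (⟨u, hZR hu⟩ : ↥R) ∈ Z.subgroupOf R := by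
          rw [Subgroup.mem_subgroupOf]; exact hu
        have h5 : (⟨u, hZR hu⟩ : ↥R) ^ (p ^ 1) ∈ Cfsg.powerClosure p 1 (Z.subgroupOf R) :=
          Subgroup.subset_closure ⟨_, hu', rfl⟩
        have h6 := Subgroup.mem_centralizer_iff.mp hx _ h5
        have h7 := congrArg Subtype.val h6
        simpa using h7
      have h8 := h4 hh
      rw [Subgroup.mem_centralizer_singleton_iff] at h8
      exact h8
    · intro hx
      rw [Subgroup.mem_centralizer_iff]
      intro h hh
      have h4 : Cfsg.powerClosure p 1 (Z.subgroupOf R) ≤ Subgroup.centralizer {x} := by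
        unfold Cfsg.powerClosure
        rw [Subgroup.closure_le]
        rintro y ⟨u, hu, rfl⟩
        rw [SetLike.mem_coe, Subgroup.mem_centralizer_singleton_iff]
        rw [Subgroup.mem_subgroupOf] at hu
        have h5 : (u : G) ^ (p ^ 1) ∈ Cfsg.powerClosure p 1 Z :=
          Subgroup.subset_closure ⟨_, hu, rfl⟩
        have h6 := Subgroup.mem_centralizer_iff.mp hx _ h5
        apply Subtype.ext
        simpa using h6
      have h8 := h4 hh
      rw [Subgroup.mem_centralizer_singleton_iff] at h8
      exact h8
  have hEM : E ≤ Subgroup.centralizer (Cfsg.powerClosure p 1 Z : Set G) := by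
    intro e he
    rw [Subgroup.mem_centralizer_iff]
    intro h hh
    exact ctx.Zcen h (hPZZ hh) e (hE.le he)
  -- characteristic subgroups
  have hPchar : (Cfsg.powerClosure p 1 Z).Characteristic := powerClosure_char hZchar 1
  have hMchar : (Subgroup.centralizer (Cfsg.powerClosure p 1 Z : Set G)).Characteristic :=
    inferInstance
  have hΩchar : (Cfsg.omegaOne p
      (Subgroup.centralizer (Cfsg.powerClosure p 1 Z : Set G))).Characteristic :=
    omegaOne_char hMchar
  have hAchar : (Cfsg.omegaOne p (Subgroup.centralizer (Cfsg.powerClosure p 1 Z : Set G)) ⊓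
      Subgroup.centralizer (Cfsg.omegaOne p
        (Subgroup.centralizer (Cfsg.powerClosure p 1 Z : Set G)) : Set G)).Characteristic :=
    inferInstance
  have hAcomm : IsMulCommutative ↥(Cfsg.omegaOne p
      (Subgroup.centralizer (Cfsg.powerClosure p 1 Z : Set G)) ⊓
      Subgroup.centralizer (Cfsg.omegaOne p
        (Subgroup.centralizer (Cfsg.powerClosure p 1 Z : Set G)) : Set G)) := by
    refine ⟨⟨fun a b => ?_⟩⟩
    apply Subtype.ext
    have ha := (Subgroup.mem_inf.mp a.2).2
    have hb' := (Subgroup.mem_inf.mp b.2).1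
    rw [Subgroup.mem_centralizer_iff] at ha
    exact (ha b hb').symm
  have hAcyc := hsymp _ hAchar hAcomm
  have hz1A : z1 ∈ Cfsg.omegaOne p (Subgroup.centralizer (Cfsg.powerClosure p 1 Z : Set G)) ⊓
      Subgroup.centralizer (Cfsg.omegaOne p
        (Subgroup.centralizer (Cfsg.powerClosure p 1 Z : Set G)) : Set G) := by
    refine Subgroup.mem_inf.mpr ⟨Subgroup.subset_closure ⟨?_, ctx.z1pow⟩, ?_⟩
    · rw [Subgroup.mem_centralizer_iff]
      intro h _
      exact hz1c h
    · rw [Subgroup.mem_centralizer_iff]
      intro h _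
      exact hz1c h
  have hWM : Cfsg.omegaOne p
      (Subgroup.centralizer (Cfsg.powerClosure p 1 (Z.subgroupOf R) : Set ↥R)) ≤
      Subgroup.centralizer (Cfsg.powerClosure p 1 (Z.subgroupOf R) : Set ↥R) := by
    unfold Cfsg.omegaOne
    rw [Subgroup.closure_le]
    intro x hx
    exact hx.1
  have hepow : ∀ e ∈ E, e ^ p ∈ Subgroup.zpowers z1 := by
    intro e he
    rcases hE.es with h | h
    · rw [h, Subgroup.mem_bot] at he
      rw [he, one_pow]; exact one_mem _
    · exact h.pow e he
  -- Step 4
  have hstep4 : ∀ w ∈ Cfsg.omegaOne p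
      (Subgroup.centralizer (Cfsg.powerClosure p 1 (Z.subgroupOf R) : Set ↥R)),
      ∀ r : ↥R, r ∈ Subgroup.centralizer (Cfsg.powerClosure p 1 (Z.subgroupOf R) : Set ↥R) →
      (r : G) ^ p ∈ Subgroup.zpowers z1 → (p ≠ 2 → (r : G) ^ p = 1) → w * r = r * w := by
    intro w hw r hr hrp hrodd
    by_cases hp2 : p = 2
    · -- p = 2
      have hk := hk3 hp2
      have hwp : (w : G) ^ p = 1 := by
        have := h2.2 w hw
        have h4 := congrArg Subtype.val this
        simpa using h4
      have hww : (w : G) * (w : G) = 1 := by rw [hp2, pow_two] at hwp; exact hwp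
      have hwM := (hMR_iff w).mp (hWM hw)
      rw [Subgroup.mem_centralizer_iff] at hwM
      have hS : ∀ u ∈ Z, u ^ 4 = 1 → (w : G) * u = u * (w : G) := by
        intro u hu hu4
        have h4 : u ^ (p ^ (k - 1)) = 1 := by
          have h5 : p ^ (k - 1) = 4 * 2 ^ (k - 3) := by
            rw [hp2]
            have : k - 1 = 2 + (k - 3) := by omega
            rw [this, pow_add]; norm_num
          rw [h5, pow_mul, hu4, one_pow]
        obtain ⟨v, hv, hvp⟩ := cyc_pth_root (by omega) hzord (hzgen u hu) h4
        have hvZ : v ∈ Z := (Subgroup.zpowers_le.mpr hzZ) hv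
        have h6 : v ^ (p ^ 1) ∈ Cfsg.powerClosure p 1 Z := Subgroup.subset_closure ⟨v, hvZ, rfl⟩
        rw [pow_one, hvp] at h6
        exact (hwM u h6).symm
      by_cases hwU : (w : G) ∈ Z
      · have h4 := ctx.omega _ hwU hwp
        apply Subtype.ext
        exact (Z1_central hz1c h4 (r : G)).symm
      · by_cases hrU : (r : G) ∈ Z
        · have h4 : (r : G) ^ 4 = 1 := by
            have h5 := ctx.Z1pow hrp
            rw [hp2] at h5
            rw [show (4 : ℕ) = 2 * 2 from rfl, pow_mul]
            exact h5
          apply Subtype.ext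
          exact hS _ hrU h4
        · -- index two
          have hidx : ((Z.subgroupOf R).subgroupOf
              (Subgroup.centralizer (Cfsg.powerClosure p 1 (Z.subgroupOf R) : Set ↥R))).index
              = 2 := by
            rw [← hp2]; exact h1
          have h4 := Subgroup.mul_mem_iff_of_index_two hidx
            (a := (⟨w⁻¹, Subgroup.inv_mem _ (hWM hw)⟩ : ↥(Subgroup.centralizer
              (Cfsg.powerClosure p 1 (Z.subgroupOf R) : Set ↥R)))) (b := ⟨r, hr⟩)
          have h5 : ((w : G)⁻¹ * (r : G)) ∈ Z := by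
            have h6 : (⟨w⁻¹, Subgroup.inv_mem _ (hWM hw)⟩ : ↥(Subgroup.centralizer
              (Cfsg.powerClosure p 1 (Z.subgroupOf R) : Set ↥R))) * ⟨r, hr⟩ ∈
              (Z.subgroupOf R).subgroupOf
              (Subgroup.centralizer (Cfsg.powerClosure p 1 (Z.subgroupOf R) : Set ↥R)) := by
              rw [h4]
              constructor
              · intro h7
                exfalso
                rw [Subgroup.mem_subgroupOf, Subgroup.mem_subgroupOf] at h7
                apply hwU
                have := Z.inv_mem h7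
                simpa using this
              · intro h7
                exfalso
                rw [Subgroup.mem_subgroupOf, Subgroup.mem_subgroupOf] at h7
                exact hrU h7
            rw [Subgroup.mem_subgroupOf, Subgroup.mem_subgroupOf] at h6
            simpa using h6
          have huC : (w : G)⁻¹ * (r : G) ∈ C := ctx.ZC h5
          have hcmZ1 : cm (w : G) ((w : G)⁻¹ * (r : G)) ∈ Subgroup.zpowers z1 := by
            apply ctx.omega _ (ctx.cmZ _ _ huC)
            rw [← ctx.cm_pow _ huC, cm_eq_one_iff]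
            have h6 : ((w : G)⁻¹ * (r : G)) ^ (p ^ 1) ∈ Cfsg.powerClosure p 1 Z :=
              Subgroup.subset_closure ⟨_, h5, rfl⟩
            rw [pow_one] at h6
            exact (hwM _ h6).symm
          have hr2 : (r : G) ^ p = cm (w : G) ((w : G)⁻¹ * (r : G)) *
              ((w : G)⁻¹ * (r : G)) ^ 2 := by
            have hw' : (w : G)⁻¹ = (w : G) := inv_eq_of_mul_eq_one_right hww
            rw [hp2, pow_two, pow_two]
            unfold cm
            rw [hw']
            have : (w : G) * ((w : G) * (r : G)) * (w : G) * ((w : G) * (r : G))⁻¹ *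
                ((w : G) * (r : G) * ((w : G) * (r : G))) =
                ((w : G) * (w : G)) * (r : G) * ((w : G) * (w : G)) * (r : G) := by group
            rw [this, hww]; group
          have hu2 : ((w : G)⁻¹ * (r : G)) ^ 2 ∈ Subgroup.zpowers z1 := by
            have h6 : ((w : G)⁻¹ * (r : G)) ^ 2 =
                (cm (w : G) ((w : G)⁻¹ * (r : G)))⁻¹ * (r : G) ^ p := by
              rw [hr2]; group
            rw [h6]
            exact mul_mem (inv_mem hcmZ1) hrp
          have hu4 : ((w : G)⁻¹ * (r : G)) ^ 4 = 1 := by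
            have h6 := ctx.Z1pow hu2
            rw [hp2] at h6
            rw [show (4 : ℕ) = 2 * 2 from rfl, pow_mul]
            exact h6
          have h7 := hS _ h5 hu4
          apply Subtype.ext
          change (w : G) * (r : G) = (r : G) * (w : G)
          have h8 : (r : G) = (w : G) * ((w : G)⁻¹ * (r : G)) := by group
          rw [h8]
          calc (w : G) * ((w : G) * ((w : G)⁻¹ * (r : G)))
              = (w : G) * (((w : G)⁻¹ * (r : G)) * (w : G)) := by rw [h7]
            _ = (w : G) * ((w : G)⁻¹ * (r : G)) * (w : G) := by group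
    · -- p odd
      have hr1 := hrodd hp2
      have hrW : r ∈ Cfsg.omegaOne p
          (Subgroup.centralizer (Cfsg.powerClosure p 1 (Z.subgroupOf R) : Set ↥R)) := by
        apply Subgroup.subset_closure
        refine ⟨hr, ?_⟩
        apply Subtype.ext
        simpa using hr1
      have hcomm := h2.1
      have h4 := hcomm.is_comm.comm (⟨w, hw⟩ : ↥(Cfsg.omegaOne p
          (Subgroup.centralizer (Cfsg.powerClosure p 1 (Z.subgroupOf R) : Set ↥R)))) ⟨r, hrW⟩
      exact congrArg Subtype.val h4
  -- Step 5
  have hstep5 : ∀ w ∈ Cfsg.omegaOne p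
      (Subgroup.centralizer (Cfsg.powerClosure p 1 (Z.subgroupOf R) : Set ↥R)),
      (w : G) ∈ Cfsg.omegaOne p (Subgroup.centralizer (Cfsg.powerClosure p 1 Z : Set G)) ⊓
      Subgroup.centralizer (Cfsg.omegaOne p
        (Subgroup.centralizer (Cfsg.powerClosure p 1 Z : Set G)) : Set G) := by
    intro w hw
    refine Subgroup.mem_inf.mpr ⟨?_, ?_⟩
    · have h4 : Cfsg.omegaOne p
          (Subgroup.centralizer (Cfsg.powerClosure p 1 (Z.subgroupOf R) : Set ↥R)) ≤
          (Cfsg.omegaOne p (Subgroup.centralizer
            (Cfsg.powerClosure p 1 Z : Set G))).comap R.subtype := by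
        conv_lhs => unfold Cfsg.omegaOne
        rw [Subgroup.closure_le]
        intro x hx
        rw [SetLike.mem_coe, Subgroup.mem_comap]
        apply Subgroup.subset_closure
        refine ⟨(hMR_iff x).mp hx.1, ?_⟩
        have h5 := congrArg Subtype.val hx.2
        simpa using h5
      exact h4 hw
    · rw [Subgroup.mem_centralizer_iff]
      intro h hh
      have h4 : Cfsg.omegaOne p (Subgroup.centralizer (Cfsg.powerClosure p 1 Z : Set G)) ≤
          Subgroup.centralizer {(w : G)} := by
        conv_lhs => unfold Cfsg.omegaOne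
        rw [Subgroup.closure_le]
        rintro m ⟨hmM, hmp⟩
        rw [SetLike.mem_coe, Subgroup.mem_centralizer_singleton_iff]
        have hE' := hE
        obtain ⟨e, he, r, hr, rfl⟩ := exists_ER hE' m
        rw [← hR] at hr
        have hrM : r ∈ Subgroup.centralizer (Cfsg.powerClosure p 1 Z : Set G) := by
          have h5 := Subgroup.mul_mem _ (Subgroup.inv_mem _ (hEM he)) hmM
          simpa using h5
        have hrMR := (hMR_iff ⟨r, hr⟩).mpr hrM
        have hcomm_er : Commute e r := hcER e he r hr
        rw [hcomm_er.mul_pow] at hmp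
        have hrp : r ^ p = (e ^ p)⁻¹ := (inv_eq_of_mul_eq_one_right hmp).symm
        have h6 := hstep4 w hw ⟨r, hr⟩ hrMR (by rw [hrp]; exact inv_mem (hepow e he)) (by
          intro hp2
          have hM : ¬ Md p Z z1 := by
            rintro (h | h)
            · exact hp2 h
            · exact hZ1 h
          rw [hrp, hE.ex.resolve_left hM e he, inv_one])
        have h7 : (w : G) * r = r * (w : G) := congrArg Subtype.val h6
        have h8 : e * (w : G) = (w : G) * e := hcER e he _ w.2
        calc e * r * (w : G) = e * (r * (w : G)) := by group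
          _ = e * ((w : G) * r) := by rw [h7]
          _ = (e * (w : G)) * r := by group
          _ = ((w : G) * e) * r := by rw [h8]
          _ = (w : G) * (e * r) := by group
      have h5 := h4 hh
      rw [Subgroup.mem_centralizer_singleton_iff] at h5
      exact h5
  -- Step 6
  have hinj : Function.Injective (fun w : ↥(Cfsg.omegaOne p
      (Subgroup.centralizer (Cfsg.powerClosure p 1 (Z.subgroupOf R) : Set ↥R))) =>
      (⟨((w : ↥R) : G), cyclic_omega hAcyc hz1A ctx.z1ord (hstep5 w w.2) (by
        have := h2.2 w w.2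
        have h4 := congrArg Subtype.val this
        simpa using h4)⟩ : ↥(Subgroup.zpowers z1))) := by
    intro a b hab
    have h4 := congrArg Subtype.val hab
    exact Subtype.ext (Subtype.ext h4)
  have h4 := Nat.card_le_card_of_injective _ hinj
  rw [h3, Nat.card_zpowers, ctx.z1ord] at h4
  have := hp.out.one_lt
  nlinarith

end Cfsg.Agent.helper7.Sym
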