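import Mathlib
import Cfsg.Statements.S3761
import Cfsg.Agent.Lib_helper17_CycSelfCentA2
import Cfsg.Agent.Lib_helper17_CycSelfCentB2

set_option autoImplicit false

open Cfsg

namespace Cfsg.Agent.S3761

open Cfsg.Agent.helper17.CSC

/-- Let G be a finite non-abelian p-group with a cyclic normal subgroup U of order p^n such that C_G(U) = U. Then either p = 2 and G is dihedral, generalized quaternion or semidihedral of order 2^(n+1); or, writing U₁ for the subgroup generated by the p-th powers of elements of U and M = C_G(U₁), the subgroup U has index p in M and the subgroup Ω₁(M) generated by the elements of M of order dividing p is elementary abelian of order p² and characteristic in G. -/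
theorem result {G : Type*} [Group G] [Finite G] {p : ℕ} [Fact p.Prime] (hG : IsPGroup p G) (hna : ¬ IsMulCommutative G) (U : Subgroup G) [U.Normal] (hU : IsCyclic U) (n : ℕ) (hUn : Nat.card U = p ^ n) (hC : Subgroup.centralizer (U : Set G) = U) : (p = 2 ∧ Nat.card G = 2 ^ (n + 1) ∧ ((∃ m : ℕ, Nonempty (G ≃* DihedralGroup m)) ∨ (∃ m : ℕ, Nonempty (G ≃* QuaternionGroup m)) ∨ Cfsg.IsQuasiDihedral G)) ∨ (U.relIndex (Subgroup.centralizer (Cfsg.powerClosure p 1 U : Set G)) = p ∧ Cfsg.IsElementaryAbelian p (Cfsg.omegaOne p (Subgroup.centralizer (Cfsg.powerClosure p 1 U : Set G))) ∧ Nat.card ↥(Cfsg.omegaOne p (Subgroup.centralizer (Cfsg.powerClosure p 1 U : Set G))) = p ^ 2 ∧ (Cfsg.omegaOne p (Subgroup.centralizer (Cfsg.powerClosure p 1 U : Set G))).Characteristic) := by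
  obtain ⟨⟨u, huU⟩, hgen⟩ := hU.exists_generator
  have hUeq : U = Subgroup.zpowers u := by
    apply le_antisymm
    · intro x hx
      have h1 := hgen ⟨x, hx⟩
      obtain ⟨k, hk⟩ := Subgroup.mem_zpowers_iff.mp h1
      have h2 : u ^ k = x := by
        have h3 := congrArg Subtype.val hk
        simpa using h3
      rw [← h2]; exact Subgroup.zpow_mem_zpowers u k
    · exact Subgroup.zpowers_le.mpr huU
  have hord : orderOf u = p ^ n := by rw [← Nat.card_zpowers, ← hUeq, hUn]
  have S : Setting p n u := by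
    refine ⟨hord, by rw [← hUeq]; infer_instance, ?_⟩
    intro g hg
    rw [← hUeq, ← hC, Subgroup.mem_centralizer_iff]
    intro h hh
    have hh' : h ∈ Subgroup.zpowers u := hUeq ▸ hh
    obtain ⟨k, rfl⟩ := Subgroup.mem_zpowers_iff.mp hh'
    exact ((show Commute g u from hg).zpow_right k).eq.symm
  have hne : ∃ g : G, g ∉ Subgroup.zpowers u := by
    by_contra h
    push Not at h
    exact hna ⟨⟨fun a b => comm_of_mem (h a) (h b)⟩⟩
  obtain ⟨g0, hg0⟩ := hne
  have hn2 : 2 ≤ n := by
    by_contra h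
    have h01 : n = 0 ∨ n = 1 := by omega
    apply hg0
    apply S.cent
    rcases h01 with h0 | h1
    · have h2 := hord
      rw [h0, pow_zero, orderOf_eq_one_iff] at h2
      rw [h2, mul_one, one_mul]
    · have h3 := S.zz_central hG (by omega) g0
      unfold zz at h3
      rw [h1] at h3
      simpa using h3
  obtain ⟨M, hMdef⟩ : ∃ M : Subgroup G,
      M = Subgroup.centralizer (Cfsg.powerClosure p 1 U : Set G) := ⟨_, rfl⟩
  rw [← hMdef]
  have hM : ∀ g : G, g ∈ M ↔ g * u ^ p = u ^ p * g := by
    intro g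
    rw [hMdef, Subgroup.mem_centralizer_iff]
    constructor
    · intro h
      have h1 : u ^ p ∈ (Cfsg.powerClosure p 1 U : Set G) :=
        Subgroup.subset_closure ⟨u, huU, by rw [pow_one]⟩
      exact (h _ h1).symm
    · intro hg h hh
      have hle : Cfsg.powerClosure p 1 U ≤ Subgroup.zpowers (u ^ p) := by
        unfold Cfsg.powerClosure
        rw [Subgroup.closure_le]
        rintro y ⟨x, hx, rfl⟩
        have hx' : x ∈ Subgroup.zpowers u := hUeq ▸ hx
        obtain ⟨k, rfl⟩ := Subgroup.mem_zpowers_iff.mp hx'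
        rw [pow_one, SetLike.mem_coe, Subgroup.mem_zpowers_iff]
        refine ⟨k, ?_⟩
        rw [← zpow_natCast, ← zpow_natCast, ← zpow_mul, ← zpow_mul, mul_comm]
      obtain ⟨k, rfl⟩ := Subgroup.mem_zpowers_iff.mp (hle hh)
      exact ((show Commute g (u ^ p) from hg).zpow_right k).eq.symm
  by_cases h22 : p = 2 ∧ n = 2
  · left
    obtain ⟨rfl, rfl⟩ := h22
    have h1 := S.caseB_final hG le_rfl (by simpa using S.cent) ⟨g0, hg0⟩
    exact ⟨rfl, h1.1, h1.2⟩
  · by_cases hex : ∃ g : G, g * u ^ p = u ^ p * g ∧ g ∉ Subgroup.zpowers u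
    · right
      obtain ⟨g, hgM, hgU⟩ := hex
      have hpn : p ≠ 2 ∨ 3 ≤ n := by
        by_contra h
        push Not at h
        exact h22 ⟨h.1, by omega⟩
      have h1 := S.caseA hG (by omega) hpn M hM ((hM g).mpr hgM) hgU
      rw [hUeq]
      exact h1
    · left
      push Not at hex
      obtain ⟨hp2, hn3, hy0⟩ := S.caseB hG hex ⟨g0, hg0⟩
      subst hp2
      have h1 := S.caseB_final hG (by omega) hy0 ⟨g0, hg0⟩
      exact ⟨rfl, h1.1, h1.2⟩

end Cfsg.Agent.S3761
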