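import Mathlib
import Cfsg.Agent.S3761
import Cfsg.Agent.Lib_helper7_Sym7

set_option linter.style.haveILetI false
set_option autoImplicit false

/-!
# p-groups of symplectic type: assembling the decomposition
-/

namespace Cfsg.Agent.helper7.Sym

variable {G : Type*} [Group G] {p : ℕ} {C Z : Subgroup G} {z1 : G} {E : Subgroup G}

theorem k_ge_two [hp : Fact p.Prime] (ctx : Ctx p C Z z1) {z : G} {k : ℕ}
    (hzgen : ∀ u ∈ Z, u ∈ Subgroup.zpowers z) (hzZ : z ∈ Z) (hzord : orderOf z = p ^ k)
    (hZ1 : ¬ ∀ u ∈ Z, u ∈ Subgroup.zpowers z1) : 2 ≤ k := by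
  by_contra hk
  apply hZ1
  have hzp : z ^ p = 1 := by
    have h1 : orderOf z ∣ p := by
      rw [hzord]
      have hk' : k ≤ 1 := by omega
      calc p ^ k ∣ p ^ 1 := pow_dvd_pow p hk'
        _ = p := pow_one p
    exact orderOf_dvd_iff_pow_eq_one.mp h1
  have hz1' := ctx.omega z hzZ hzp
  intro u hu
  exact (Subgroup.zpowers_le.mpr hz1') (hzgen u hu)

/-- the output in the small case -/
theorem small_output [Finite G] [hp : Fact p.Prime] (hG : IsPGroup p G) (ctx : Ctx p C Z z1)
    (hz1c : ∀ g : G, g * z1 = z1 * g) (hE : Good p C Z z1 E)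
    (hD : ∀ d ∈ C, (∀ u ∈ E, d * u = u * d) → d ∈ Z) (hp2 : p = 2)
    {z : G} (hzgen : ∀ u ∈ Z, u ∈ Subgroup.zpowers z) (hzZ : z ∈ Z)
    (hzord : orderOf z = p ^ 2)
    (hidx : (Z.subgroupOf (Subgroup.centralizer (E : Set G))).index = 2)
    (hna : ∃ r ∈ Subgroup.centralizer (E : Set G), ∃ r' ∈ Subgroup.centralizer (E : Set G),
      r * r' ≠ r' * r) :
    ∃ E R : Subgroup G, (∀ e ∈ E, ∀ r ∈ R, e * r = r * e) ∧ E ⊔ R = ⊤ ∧
      (E = ⊥ ∨ Cfsg.IsExtraspecial p ↥E) ∧ (IsCyclic R ∨ (p = 2 ∧ 16 ≤ Nat.card R ∧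
      ((∃ m : ℕ, Nonempty (↥R ≃* DihedralGroup m)) ∨ (∃ m : ℕ, Nonempty (↥R ≃* QuaternionGroup m))
        ∨ Cfsg.IsQuasiDihedral ↥R))) := by
  have hZ4 : ∀ u ∈ Z, u ^ p ∈ Subgroup.zpowers z1 := by
    intro u hu
    apply ctx.omega _ (Z.pow_mem hu p)
    obtain ⟨i, rfl⟩ := exists_pow_of_mem_zpowers (hzgen u hu)
    rw [← pow_mul, ← pow_mul, ← pow_two, mul_comm, pow_mul, ← hzord,
      pow_orderOf_eq_one, one_pow]
  have hidx' : ∀ r ∈ Subgroup.centralizer (E : Set G), ∀ r' ∈ Subgroup.centralizer (E : Set G),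
      r ∉ Z → r' ∉ Z → r⁻¹ * r' ∈ Z := by
    intro r hr r' hr' hrZ hr'Z
    have h4 := Subgroup.mul_mem_iff_of_index_two hidx
      (a := (⟨r⁻¹, Subgroup.inv_mem _ hr⟩ : ↥(Subgroup.centralizer (E : Set G))))
      (b := ⟨r', hr'⟩)
    have h6 : (⟨r⁻¹, Subgroup.inv_mem _ hr⟩ : ↥(Subgroup.centralizer (E : Set G))) * ⟨r', hr'⟩ ∈
        Z.subgroupOf (Subgroup.centralizer (E : Set G)) := by
      rw [h4]
      constructor
      · intro h7
        exfalso
        rw [Subgroup.mem_subgroupOf] at h7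
        apply hrZ
        have := Z.inv_mem h7
        simpa using this
      · intro h7
        exfalso
        rw [Subgroup.mem_subgroupOf] at h7
        exact hr'Z h7
    rw [Subgroup.mem_subgroupOf] at h6
    simpa using h6
  have hes := small_case hG ctx hz1c hE hD hp2 hZ4 hzgen hzZ hidx' hna
  refine ⟨⊤, ⊥, ?_, by simp, Or.inr hes, Or.inl inferInstance⟩
  intro e _ r hr
  rw [Subgroup.mem_bot] at hr
  subst hr
  simp

theorem final [Finite G] [hp : Fact p.Prime] (hG : IsPGroup p G) (ctx : Ctx p C Z z1)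
    (hz1c : ∀ g : G, g * z1 = z1 * g) (hCchar : C.Characteristic) (hZchar : Z.Characteristic)
    (hsymp : ∀ A : Subgroup G, A.Characteristic → IsMulCommutative A → IsCyclic A)
    (hZcyc : IsCyclic ↥Z) {z : G} {k : ℕ} (hzgen : ∀ u ∈ Z, u ∈ Subgroup.zpowers z)
    (hzZ : z ∈ Z) (hzord : orderOf z = p ^ k) (hZcard : Nat.card Z = p ^ k) :
    ∃ E R : Subgroup G, (∀ e ∈ E, ∀ r ∈ R, e * r = r * e) ∧ E ⊔ R = ⊤ ∧
      (E = ⊥ ∨ Cfsg.IsExtraspecial p ↥E) ∧ (IsCyclic R ∨ (p = 2 ∧ 16 ≤ Nat.card R ∧
      ((∃ m : ℕ, Nonempty (↥R ≃* DihedralGroup m)) ∨ (∃ m : ℕ, Nonempty (↥R ≃* QuaternionGroup m))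
        ∨ Cfsg.IsQuasiDihedral ↥R))) := by
  obtain ⟨E, hE, hD⟩ := exists_good ctx hz1c hCchar hsymp hzgen hzZ hzord
  have hZR : Z ≤ Subgroup.centralizer (E : Set G) := Z_le_R ctx hE
  have hcER : ∀ e ∈ E, ∀ r ∈ Subgroup.centralizer (E : Set G), e * r = r * e := by
    intro e he r hr
    exact Subgroup.mem_centralizer_iff.mp hr e he
  have hsup : E ⊔ Subgroup.centralizer (E : Set G) = ⊤ := by
    rw [eq_top_iff]
    intro g _
    obtain ⟨e, he, r, hr, rfl⟩ := exists_ER hE g
    exact mul_mem (Subgroup.mem_sup_left he) (Subgroup.mem_sup_right hr)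
  have hEes : E = ⊥ ∨ Cfsg.IsExtraspecial p ↥E :=
    hE.es.imp id (ESData.isExtraspecial hG ctx hE.le)
  by_cases hRab : ∀ r ∈ Subgroup.centralizer (E : Set G),
      ∀ r' ∈ Subgroup.centralizer (E : Set G), r * r' = r' * r
  · have hRZ : Subgroup.centralizer (E : Set G) = Z := by
      apply le_antisymm _ hZR
      intro r hr
      exact R_cenZ ctx hE hD hr (fun u hu => hRab r hr u (hZR hu))
    refine ⟨E, Subgroup.centralizer (E : Set G), hcER, hsup, hEes, Or.inl ?_⟩
    rw [hRZ]
    exact hZcyc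
  · push Not at hRab
    have hZ1 : ¬ ∀ u ∈ Z, u ∈ Subgroup.zpowers z1 := by
      intro hZ1
      obtain ⟨r, hr, r', hr', hne⟩ := hRab
      have h1 : ∀ r ∈ Subgroup.centralizer (E : Set G), r ∈ Z := by
        intro r hr
        exact R_cenZ ctx hE hD hr (fun u hu => Z1_central hz1c (hZ1 u hu) r)
      exact hne (ctx.Zcen r (h1 r hr) r' (ctx.ZC (h1 r' hr')))
    have hk2 := k_ge_two ctx hzgen hzZ hzord hZ1
    have hna : ¬ IsMulCommutative ↥(Subgroup.centralizer (E : Set G)) := by
      intro h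
      obtain ⟨r, hr, r', hr', hne⟩ := hRab
      apply hne
      exact congrArg Subtype.val (h.is_comm.comm ⟨r, hr⟩ ⟨r', hr'⟩)
    haveI : Z.Normal := Subgroup.normal_of_characteristic Z
    have hUcyc : IsCyclic ↥(Z.subgroupOf (Subgroup.centralizer (E : Set G))) :=
      (Subgroup.subgroupOfEquivOfLe hZR).isCyclic.mpr hZcyc
    have hUcard : Nat.card ↥(Z.subgroupOf (Subgroup.centralizer (E : Set G))) = p ^ k := by
      rw [Nat.card_congr (Subgroup.subgroupOfEquivOfLe hZR).toEquiv]
      exact hZcard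
    have hUcen : Subgroup.centralizer
        ((Z.subgroupOf (Subgroup.centralizer (E : Set G)) :
          Subgroup ↥(Subgroup.centralizer (E : Set G))) :
          Set ↥(Subgroup.centralizer (E : Set G))) =
        Z.subgroupOf (Subgroup.centralizer (E : Set G)) := by
      ext r
      rw [Subgroup.mem_centralizer_iff, Subgroup.mem_subgroupOf]
      constructor
      · intro h
        apply R_cenZ ctx hE hD r.2
        intro u hu
        have h1 := h ⟨u, hZR hu⟩ (by rw [SetLike.mem_coe, Subgroup.mem_subgroupOf]; exact hu)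
        exact (congrArg Subtype.val h1).symm
      · intro h u hu
        rw [SetLike.mem_coe, Subgroup.mem_subgroupOf] at hu
        apply Subtype.ext
        exact ctx.Zcen _ hu _ (ctx.ZC h)
    have hZpk : ∀ u ∈ Z, u ^ (p ^ k) = 1 := by
      intro u hu
      obtain ⟨i, rfl⟩ := exists_pow_of_mem_zpowers (hzgen u hu)
      rw [← pow_mul, mul_comm, pow_mul, ← hzord, pow_orderOf_eq_one, one_pow]
    rcases Cfsg.Agent.S3761.result (hG.to_subgroup (Subgroup.centralizer (E : Set G))) hna
      (Z.subgroupOf (Subgroup.centralizer (E : Set G))) hUcyc k hUcard hUcen with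
      ⟨hp2, hcard, hDQS⟩ | ⟨h1, h2, h3, -⟩
    · by_cases h16 : 16 ≤ Nat.card ↥(Subgroup.centralizer (E : Set G))
      · exact ⟨E, Subgroup.centralizer (E : Set G), hcER, hsup, hEes, Or.inr ⟨hp2, h16, hDQS⟩⟩
      · have hk : k = 2 := by
          rw [hcard] at h16
          have h4 : k + 1 < 4 := by
            by_contra h5
            apply h16
            have h6 : 4 ≤ k + 1 := by omega
            calc 16 = 2 ^ 4 := by norm_num
              _ ≤ 2 ^ (k + 1) := Nat.pow_le_pow_right (by norm_num) h6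
          omega
        subst hk
        have hidx : (Z.subgroupOf (Subgroup.centralizer (E : Set G))).index = 2 := by
          have h4 := Subgroup.card_mul_index (Z.subgroupOf (Subgroup.centralizer (E : Set G)))
          rw [hUcard, hcard, hp2] at h4
          omega
        exact small_output hG ctx hz1c hE hD hp2 hzgen hzZ hzord hidx hRab
    · by_cases hcase : p = 2 ∧ k = 2
      · obtain ⟨hp2, hk⟩ := hcase
        subst hk
        have hMtop : Subgroup.centralizer (Cfsg.powerClosure p 1
            (Z.subgroupOf (Subgroup.centralizer (E : Set G))) :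
            Set ↥(Subgroup.centralizer (E : Set G))) = ⊤ := by
          rw [eq_top_iff]
          intro x _
          rw [Subgroup.mem_centralizer_iff]
          intro h hh
          have h4 : Cfsg.powerClosure p 1 (Z.subgroupOf (Subgroup.centralizer (E : Set G))) ≤
              Subgroup.centralizer {x} := by
            unfold Cfsg.powerClosure
            rw [Subgroup.closure_le]
            rintro y ⟨u, hu, rfl⟩
            rw [SetLike.mem_coe, Subgroup.mem_centralizer_singleton_iff]
            rw [Subgroup.mem_subgroupOf] at hu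
            have h5 : (u : G) ^ p ∈ Subgroup.zpowers z1 := by
              apply ctx.omega _ (Z.pow_mem hu p)
              rw [← pow_mul, ← pow_two]
              exact hZpk _ hu
            apply Subtype.ext
            have h6 := Z1_central hz1c h5 (x : G)
            simpa using h6.symm
          have h8 := h4 hh
          rw [Subgroup.mem_centralizer_singleton_iff] at h8
          exact h8
        have hidx : (Z.subgroupOf (Subgroup.centralizer (E : Set G))).index = 2 := by
          rw [hMtop, Subgroup.relIndex_top_right] at h1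
          rw [h1, hp2]
        exact small_output hG ctx hz1c hE hD hp2 hzgen hzZ hzord hidx hRab
      · exfalso
        have hk3 : p = 2 → 3 ≤ k := by
          intro hp2
          by_contra h4
          apply hcase
          exact ⟨hp2, by omega⟩
        exact alt_two_false ctx hz1c hE hZchar hsymp hzgen hzZ hzord hk3 hZ1 rfl h1 h2 h3

end Cfsg.Agent.helper7.Sym
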