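import Mathlib
import Cfsg.Statements.S3762
import Cfsg.Agent.S0093
import Cfsg.Agent.Lib_helper19_Pairing
import Cfsg.Agent.Lib_helper7_Sym8

set_option autoImplicit false
open Cfsg
open scoped commutatorElement

namespace Cfsg.Agent.S3762

/-- Let G be a finite p-group of symplectic type: every characteristic abelian subgroup of G is cyclic. Then G = E ∗ R is a central product of subgroups E and R (they commute elementwise and generate G) where E is extraspecial or trivial, and R is cyclic, or p = 2 and R is dihedral, semidihedral or generalized quaternion of order at least 16. -/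
theorem result {G : Type*} [Group G] [Finite G] {p : ℕ} [Fact p.Prime] (hG : IsPGroup p G) (hsymp : ∀ A : Subgroup G, A.Characteristic → IsMulCommutative A → IsCyclic A) : ∃ E R : Subgroup G, (∀ e ∈ E, ∀ r ∈ R, e * r = r * e) ∧ E ⊔ R = ⊤ ∧ (E = ⊥ ∨ Cfsg.IsExtraspecial p ↥E) ∧ (IsCyclic R ∨ (p = 2 ∧ 16 ≤ Nat.card R ∧ ((∃ m : ℕ, Nonempty (↥R ≃* DihedralGroup m)) ∨ (∃ m : ℕ, Nonempty (↥R ≃* QuaternionGroup m)) ∨ Cfsg.IsQuasiDihedral ↥R))) := by
  classical
  have hp : p.Prime := Fact.out
  by_cases htriv : Subsingleton G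
  · refine ⟨⊥, ⊥, ?_, ?_, Or.inl rfl, Or.inl inferInstance⟩
    · intro e _ r _
      exact Subsingleton.elim _ _
    · exact Subsingleton.elim _ _
  rw [not_subsingleton_iff_nontrivial] at htriv
  obtain ⟨C, hCchar, hfrat, hcomm, hcen⟩ := Cfsg.Agent.S0093.result hG
  haveI := hCchar
  have hCn : C.Normal := Subgroup.normal_of_characteristic C
  have hZchar : (Subgroup.centralizer (C : Set G)).Characteristic := inferInstance
  have hZcomm : IsMulCommutative ↥(Subgroup.centralizer (C : Set G)) := by
    refine ⟨⟨fun a b => ?_⟩⟩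
    apply Subtype.ext
    have ha := a.2
    rw [Subgroup.mem_centralizer_iff] at ha
    exact (ha b (hcen b.2)).symm
  have hZcyc := hsymp _ hZchar hZcomm
  -- C is nontrivial
  have hCne : Nontrivial ↥C := by
    rw [Subgroup.nontrivial_iff_ne_bot]
    intro hbot
    rw [hbot] at hcen
    have h1 : Subgroup.centralizer (((⊥ : Subgroup G) : Subgroup G) : Set G) = ⊤ := by
      rw [eq_top_iff]
      intro g _
      rw [Subgroup.mem_centralizer_iff]
      intro h hh
      rw [SetLike.mem_coe, Subgroup.mem_bot] at hh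
      subst hh
      simp
    rw [h1] at hcen
    obtain ⟨g, hg⟩ := exists_ne (1 : G)
    exact hg ((Subgroup.mem_bot).mp (hcen (Subgroup.mem_top g)))
  -- Z is nontrivial
  have hZne : ∃ u ∈ Subgroup.centralizer (C : Set G), u ≠ 1 := by
    have hCp : IsPGroup p ↥C := hG.to_subgroup C
    have h1 := hCp.center_nontrivial
    obtain ⟨c, hc⟩ := exists_ne (1 : ↥(Subgroup.center ↥C))
    refine ⟨((c : ↥C) : G), ?_, ?_⟩
    · rw [Subgroup.mem_centralizer_iff]
      intro h hh
      have h2 := Subgroup.mem_center_iff.mp c.2 ⟨h, hh⟩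
      exact congrArg Subtype.val h2
    · intro h
      apply hc
      apply Subtype.ext
      apply Subtype.ext
      exact h
  -- generator of Z
  obtain ⟨⟨z, hzZ⟩, hz⟩ := hZcyc.exists_generator
  have hzgen : ∀ u ∈ Subgroup.centralizer (C : Set G), u ∈ Subgroup.zpowers z := by
    intro u hu
    obtain ⟨n, hn⟩ := Subgroup.mem_zpowers_iff.mp (hz ⟨u, hu⟩)
    rw [Subgroup.mem_zpowers_iff]
    refine ⟨n, ?_⟩
    have := congrArg Subtype.val hn
    simpa using this
  obtain ⟨k, hk⟩ := (hG.to_subgroup (Subgroup.centralizer (C : Set G))).exists_card_eq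
  have hzord : orderOf z = p ^ k := by
    have h1 := orderOf_eq_card_of_forall_mem_zpowers hz
    rw [hk] at h1
    rw [← h1]
    exact (Subgroup.orderOf_mk z hzZ).symm
  have hk1 : 1 ≤ k := by
    by_contra h
    have hk0 : k = 0 := by omega
    rw [hk0, pow_zero] at hk
    obtain ⟨u, hu, hu1⟩ := hZne
    have h2 := Subgroup.card_eq_one.mp hk
    rw [h2, Subgroup.mem_bot] at hu
    exact hu1 hu
  -- element of order p
  obtain ⟨⟨z1, hz1Z⟩, hz1ord'⟩ := exists_prime_orderOf_dvd_card'
    (G := ↥(Subgroup.centralizer (C : Set G))) p (by rw [hk]; exact dvd_pow_self p (by omega))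
  have hz1ord : orderOf z1 = p := by
    rw [← hz1ord']
    exact (Subgroup.orderOf_mk z1 hz1Z).symm
  have homega : ∀ u ∈ Subgroup.centralizer (C : Set G), u ^ p = 1 →
      u ∈ Subgroup.zpowers z1 := by
    intro u hu hup
    exact Cfsg.Agent.helper7.Sym.cyclic_omega hZcyc hz1Z hz1ord hu hup
  have hZn : (Subgroup.centralizer (C : Set G)).Normal := Subgroup.normal_of_characteristic _
  have ctx : Cfsg.Agent.helper7.Sym.Ctx p C (Subgroup.centralizer (C : Set G)) z1 := by
    refine ⟨hcen, ?_, ?_, hz1Z, hz1ord, homega, ?_, ?_, ?_⟩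
    · intro u hu c hc
      exact (Subgroup.mem_centralizer_iff.mp hu c hc).symm
    · intro g hg
      rw [Subgroup.mem_centralizer_iff]
      intro h hh
      exact (hg h hh).symm
    · intro g c hc
      have h1 : ⁅g, c⁆ ∈ ⁅(⊤ : Subgroup G), C⁆ :=
        Subgroup.commutator_mem_commutator (Subgroup.mem_top g) hc
      rw [Subgroup.commutator_comm] at h1
      have h2 := (hcomm h1).2
      rw [commutatorElement_def] at h2
      exact h2
    · intro c hc
      have h1 := Cfsg.Agent.helper1.pow_mem_frattini_of_isPGroup (hG.to_subgroup C)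
        (⟨c, hc⟩ : ↥C)
      have h2 : C.subtype ((⟨c, hc⟩ : ↥C) ^ p) ∈ (frattini ↥C).map C.subtype :=
        Subgroup.mem_map_of_mem _ h1
      have h3 := hfrat h2
      simpa using h3
    · intro g c hc
      exact hCn.conj_mem c hc g
  -- z1 is central
  have hZ1n : (Subgroup.zpowers z1).Normal := by
    refine ⟨fun n hn g => ?_⟩
    obtain ⟨i, rfl⟩ := Subgroup.mem_zpowers_iff.mp hn
    rw [← conj_zpow]
    apply Subgroup.zpow_mem
    apply homega _ (hZn.conj_mem z1 hz1Z g)
    rw [conj_pow, ← hz1ord, pow_orderOf_eq_one]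
    group
  have hz1c : ∀ g : G, g * z1 = z1 * g := by
    have h1 := Cfsg.Agent.helper19.le_center_of_normal_of_card_eq hG (Subgroup.zpowers z1)
      (by rw [Nat.card_zpowers, hz1ord])
    have h2 := h1 (Subgroup.mem_zpowers z1)
    intro g
    exact Subgroup.mem_center_iff.mp h2 g
  exact Cfsg.Agent.helper7.Sym.final hG ctx hz1c hCchar hZchar hsymp hZcyc hzgen hzZ hzord hk

end Cfsg.Agent.S3762
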