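import Mathlib
import Cfsg.Prelude.Def_ClassificationK
import Cfsg.Agent.S3762
import Cfsg.Agent.Lib_helper7_Sym1

set_option autoImplicit false
open Cfsg
open scoped commutatorElement

namespace Cfsg.Agent.helper19.S1774a

variable {T : Type*} [Group T]

/-- In a group all of whose characteristic abelian subgroups are cyclic, a central element with
`c * c = 1` is `1` or the given central involution `z`. -/
theorem central_inv [Finite T]
    (hsymp : ∀ A : Subgroup T, A.Characteristic → IsMulCommutative A → IsCyclic A)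
    (z : T) (hz : orderOf z = 2) (hzc : ∀ q : T, q * z = z * q)
    (c : T) (hcc : ∀ q : T, c * q = q * c) (hc2 : c * c = 1) : c = 1 ∨ c = z := by
  classical
  by_contra hcon
  push Not at hcon
  obtain ⟨hc1, hcz⟩ := hcon
  haveI : IsCyclic ↥(Subgroup.center T) := hsymp _ inferInstance inferInstance
  haveI : Fintype ↥(Subgroup.center T) := Fintype.ofFinite _
  have hzmem : z ∈ Subgroup.center T := by
    rw [Subgroup.mem_center_iff]; intro g; exact (hzc g)
  have hcmem : c ∈ Subgroup.center T := by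
    rw [Subgroup.mem_center_iff]; intro g; exact (hcc g).symm
  have hz1 : z ≠ 1 := by
    intro h; rw [h, orderOf_one] at hz; omega
  have hz2 : z ^ 2 = 1 := by rw [← hz]; exact pow_orderOf_eq_one z
  have hle := IsCyclic.card_pow_eq_one_le (α := ↥(Subgroup.center T)) (n := 2) (by norm_num)
  have hsub : ({1, ⟨z, hzmem⟩, ⟨c, hcmem⟩} : Finset ↥(Subgroup.center T)) ⊆
      Finset.univ.filter (fun a : ↥(Subgroup.center T) => a ^ 2 = 1) := by
    intro a ha
    rw [Finset.mem_filter]
    refine ⟨Finset.mem_univ _, ?_⟩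
    rw [Finset.mem_insert, Finset.mem_insert, Finset.mem_singleton] at ha
    rcases ha with rfl | rfl | rfl
    · simp
    · apply Subtype.ext; simpa using hz2
    · apply Subtype.ext
      simp only [Subgroup.coe_pow, Subgroup.coe_one]
      rw [pow_two]; exact hc2
  have hcard : ({1, ⟨z, hzmem⟩, ⟨c, hcmem⟩} : Finset ↥(Subgroup.center T)).card = 3 := by
    rw [Finset.card_insert_of_notMem, Finset.card_insert_of_notMem, Finset.card_singleton]
    · rw [Finset.mem_singleton]
      intro h
      exact hcz (congrArg Subtype.val h).symm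
    · rw [Finset.mem_insert, Finset.mem_singleton]
      rintro (h | h)
      · exact hz1 (congrArg Subtype.val h).symm
      · exact hc1 (congrArg Subtype.val h).symm
  have := Finset.card_le_card hsub
  omega

/-- In a finite 2-group of symplectic type and exponent dividing 4 all commutators lie in `{1, z}`,
`z` the central involution. -/
theorem comm_mem [Finite T] (hsym : Cfsg.IsOfSymplecticType T) (h4 : ∀ q : T, q ^ 4 = 1)
    (z : T) (hz : orderOf z = 2) (hzc : ∀ q : T, q * z = z * q) (a b : T) :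
    a * b * a⁻¹ * b⁻¹ = 1 ∨ a * b * a⁻¹ * b⁻¹ = z := by
  classical
  obtain ⟨hG, hsymp⟩ := hsym
  haveI : Fact (Nat.Prime 2) := ⟨Nat.prime_two⟩
  obtain ⟨E, R, hER, hsup, hE, hR⟩ := Cfsg.Agent.S3762.result hG hsymp
  have hord4 : ∀ x : T, orderOf x ∣ 4 := fun x => orderOf_dvd_of_pow_eq_one (h4 x)
  -- R is commutative
  have hRcomm : ∀ r ∈ R, ∀ r' ∈ R, r * r' = r' * r := by
    rcases hR with hcyc | ⟨-, h16, hbig⟩
    · intro r hr r' hr'
      haveI := hcyc
      have := (IsCyclic.commGroup (α := ↥R)).mul_comm ⟨r, hr⟩ ⟨r', hr'⟩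
      exact congrArg Subtype.val this
    · exfalso
      rcases hbig with ⟨m, ⟨e⟩⟩ | ⟨m, ⟨e⟩⟩ | ⟨n, hn, -, x, y, hx, -, -⟩
      · have h1 : orderOf (e.symm (DihedralGroup.r 1)) = m := by
          rw [MulEquiv.orderOf_eq, DihedralGroup.orderOf_r_one]
        have h2 : orderOf ((e.symm (DihedralGroup.r 1) : ↥R) : T) = m := by
          rw [Subgroup.orderOf_coe, h1]
        have h3 : m ∣ 4 := h2 ▸ hord4 _
        have h4' : m ≤ 4 := Nat.le_of_dvd (by norm_num) h3
        have h5 : Nat.card ↥R = 2 * m := by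
          rw [Nat.card_congr e.toEquiv, DihedralGroup.nat_card]
        omega
      · have h1 : orderOf (e.symm (QuaternionGroup.a 1)) = 2 * m := by
          rw [MulEquiv.orderOf_eq, QuaternionGroup.orderOf_a_one]
        have h2 : orderOf ((e.symm (QuaternionGroup.a 1) : ↥R) : T) = 2 * m := by
          rw [Subgroup.orderOf_coe, h1]
        have h3 : 2 * m ∣ 4 := h2 ▸ hord4 _
        have h4' : 2 * m ≤ 4 := Nat.le_of_dvd (by norm_num) h3
        have hm0 : m ≠ 0 := by
          rintro rfl
          simp at h3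
        have h5 : Nat.card ↥R = 4 * m := by
          rw [Nat.card_congr e.toEquiv]
          haveI : NeZero m := ⟨hm0⟩
          rw [Nat.card_eq_fintype_card, QuaternionGroup.card]
        omega
      · have h2 : orderOf ((x : ↥R) : T) = 2 ^ n := by
          rw [Subgroup.orderOf_coe, hx]
        have h3 : 2 ^ n ∣ 4 := h2 ▸ hord4 _
        have h4' : 2 ^ n ≤ 4 := Nat.le_of_dvd (by norm_num) h3
        have h5 : 2 ^ 3 ≤ 2 ^ n := Nat.pow_le_pow_right (by norm_num) hn
        omega
  -- every element is e * r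
  have hdec : ∀ x : T, ∃ e ∈ E, ∃ r ∈ R, x = e * r := by
    intro x
    have hx : x ∈ E ⊔ R := by rw [hsup]; exact Subgroup.mem_top x
    exact (Cfsg.Agent.helper7.Sym.mem_sup_of_commute hER x).mp hx
  -- R is central
  have hRcen : ∀ r ∈ R, ∀ x : T, r * x = x * r := by
    intro r hr x
    obtain ⟨e, he, r', hr', rfl⟩ := hdec x
    calc r * (e * r') = (r * e) * r' := by group
      _ = (e * r) * r' := by rw [hER e he r hr]
      _ = e * (r * r') := by group
      _ = e * (r' * r) := by rw [hRcomm r hr r' hr']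
      _ = e * r' * r := by group
  -- commutators of E
  have hEcomm : ∀ e ∈ E, ∀ e' ∈ E, e * e' * e⁻¹ * e'⁻¹ = 1 ∨ e * e' * e⁻¹ * e'⁻¹ = z := by
    intro e he e' he'
    rcases hE with hbot | hes
    · rw [hbot, Subgroup.mem_bot] at he he'
      subst he; subst he'
      left; group
    · obtain ⟨⟨-, -, hcommE⟩, hcardE⟩ := hes
      -- k = [e, e'] in ↥E
      have hk : ⁅(⟨e, he⟩ : ↥E), (⟨e', he'⟩ : ↥E)⁆ ∈ Subgroup.center ↥E := by
        rw [← hcommE]
        unfold commutator
        exact Subgroup.commutator_mem_commutator (Subgroup.mem_top _) (Subgroup.mem_top _)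
      have hkval : ((⁅(⟨e, he⟩ : ↥E), (⟨e', he'⟩ : ↥E)⁆ : ↥E) : T) = e * e' * e⁻¹ * e'⁻¹ := by
        rw [commutatorElement_def]
        simp
      set k : T := e * e' * e⁻¹ * e'⁻¹ with hkdef
      have hkE : k ∈ E := by
        rw [← hkval]; exact Subtype.property _
      -- k * k = 1
      have hk2 : k * k = 1 := by
        have h1 : (⟨⁅(⟨e, he⟩ : ↥E), (⟨e', he'⟩ : ↥E)⁆, hk⟩ : ↥(Subgroup.center ↥E)) ^ 2 = 1 := by
          rw [← hcardE]
          exact pow_card_eq_one'
        have h2 := congrArg (fun w : ↥(Subgroup.center ↥E) => ((w : ↥E) : T)) h1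
        simp only [Subgroup.coe_pow, Subgroup.coe_one] at h2
        rw [hkval, pow_two] at h2
        exact h2
      -- k central in T
      have hkcen : ∀ x : T, k * x = x * k := by
        intro x
        obtain ⟨e1, he1, r1, hr1, rfl⟩ := hdec x
        have h1 : k * e1 = e1 * k := by
          have := Subgroup.mem_center_iff.mp hk ⟨e1, he1⟩
          have h2 := congrArg Subtype.val this
          simp only [Subgroup.coe_mul] at h2
          rw [hkval] at h2
          exact h2.symm
        calc k * (e1 * r1) = (k * e1) * r1 := by group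
          _ = (e1 * k) * r1 := by rw [h1]
          _ = e1 * (k * r1) := by group
          _ = e1 * (r1 * k) := by rw [hER k hkE r1 hr1]
          _ = e1 * r1 * k := by group
      exact central_inv hsymp z hz hzc k hkcen hk2
  obtain ⟨e, he, r, hr, rfl⟩ := hdec a
  obtain ⟨e', he', r', hr', rfl⟩ := hdec b
  have hkey : (e * r) * (e' * r') * (e * r)⁻¹ * (e' * r')⁻¹ = e * e' * e⁻¹ * e'⁻¹ := by
    have h1 : r * e' = e' * r := hRcen r hr e'
    have h2 : r * r' = r' * r := hRcen r hr r'
    have h3 : r' * e⁻¹ = e⁻¹ * r' := hRcen r' hr' e⁻¹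
    have h4 : r * e⁻¹ = e⁻¹ * r := hRcen r hr e⁻¹
    have h5 : r' * e'⁻¹ = e'⁻¹ * r' := hRcen r' hr' e'⁻¹
    calc (e * r) * (e' * r') * (e * r)⁻¹ * (e' * r')⁻¹
        = e * (r * e') * r' * r⁻¹ * e⁻¹ * r'⁻¹ * e'⁻¹ := by group
      _ = e * (e' * r) * r' * r⁻¹ * e⁻¹ * r'⁻¹ * e'⁻¹ := by rw [h1]
      _ = e * e' * (r * r') * r⁻¹ * e⁻¹ * r'⁻¹ * e'⁻¹ := by group
      _ = e * e' * (r' * r) * r⁻¹ * e⁻¹ * r'⁻¹ * e'⁻¹ := by rw [h2]
      _ = e * e' * (r' * e⁻¹) * r'⁻¹ * e'⁻¹ := by group
      _ = e * e' * (e⁻¹ * r') * r'⁻¹ * e'⁻¹ := by rw [h3]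
      _ = e * e' * e⁻¹ * e'⁻¹ := by group
  rw [hkey]
  exact hEcomm e he e' he'

end Cfsg.Agent.helper19.S1774a
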